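import Cfsg.Agent.Lib.Helper28.S1692.Tree

set_option autoImplicit false
set_option maxRecDepth 100000
set_option linter.all false

namespace Cfsg.Agent.Helper28.S1692

open Cfsg.Agent.Helper28
open Cfsg.Spor.ON (Gen)

noncomputable section

abbrev lc_f_Cert_tree : Cert rels S Gen.f := Cert.tree
abbrev lc_f_rc_10_1 : Cert rels S Gen.f := rc_10_1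
abbrev lc_f_rc_10_3 : Cert rels S Gen.f := rc_10_3
abbrev lc_f_rc_14_1 : Cert rels S Gen.f := rc_14_1
abbrev lc_f_rc_14_3 : Cert rels S Gen.f := rc_14_3
abbrev lc_f_rc_17_1 : Cert rels S Gen.f := rc_17_1
abbrev lc_f_rc_17_3 : Cert rels S Gen.f := rc_17_3
abbrev lc_f_rc_19_1 : Cert rels S Gen.f := rc_19_1
abbrev lc_f_rc_19_3 : Cert rels S Gen.f := rc_19_3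
abbrev lc_f_rc_19_5 : Cert rels S Gen.f := rc_19_5
abbrev lc_f_rc_20_1 : Cert rels S Gen.f := rc_20_1
abbrev lc_f_rc_21_1 : Cert rels S Gen.f := rc_21_1
abbrev lc_f_rc_22_1 : Cert rels S Gen.f := rc_22_1
abbrev lc_f_rc_5_1 : Cert rels S Gen.f := rc_5_1
abbrev lc_f_rc_5_3 : Cert rels S Gen.f := rc_5_3
abbrev lc_f_sc_5_0 : Cert rels S Gen.f := sc_5_0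
def ce_f_0 : D2 → D3 → (Cert rels S Gen.f) := @D2.rec (fun _ => D3 → (Cert rels S Gen.f)) (@D3.rec (fun _ => (Cert rels S Gen.f)) lc_f_sc_5_0 lc_f_rc_10_3 lc_f_rc_14_3 lc_f_rc_10_3 lc_f_rc_17_3 lc_f_Cert_tree lc_f_rc_14_3 lc_f_rc_21_1 lc_f_rc_14_3 lc_f_rc_10_3 lc_f_rc_17_3 lc_f_Cert_tree lc_f_rc_21_1 lc_f_rc_14_3 lc_f_rc_17_3 lc_f_Cert_tree lc_f_rc_21_1 lc_f_Cert_tree lc_f_rc_17_3 lc_f_rc_17_3 lc_f_Cert_tree lc_f_rc_20_1 lc_f_rc_21_1 lc_f_rc_17_3 lc_f_rc_5_3 lc_f_rc_17_3 lc_f_Cert_tree lc_f_rc_14_3 lc_f_rc_14_3 lc_f_rc_5_3 lc_f_rc_17_3 lc_f_Cert_tree lc_f_rc_14_3 lc_f_rc_21_1 lc_f_rc_14_3 lc_f_Cert_tree lc_f_rc_17_3 lc_f_rc_20_1 lc_f_Cert_tree lc_f_rc_20_1 lc_f_rc_10_3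 lc_f_Cert_tree lc_f_rc_14_3 lc_f_rc_17_3 lc_f_Cert_tree lc_f_rc_10_3 lc_f_Cert_tree lc_f_rc_10_3 lc_f_rc_10_3 lc_f_Cert_tree lc_f_rc_20_1 lc_f_rc_17_3 lc_f_rc_19_5 lc_f_Cert_tree lc_f_rc_20_1 lc_f_rc_14_3 lc_f_rc_14_3 lc_f_rc_20_1 lc_f_rc_21_1 lc_f_Cert_tree lc_f_rc_20_1 lc_f_rc_21_1) (@D3.rec (fun _ => (Cert rels S Gen.f)) lc_f_rc_10_3 lc_f_rc_14_3 lc_f_rc_17_3 lc_f_rc_21_1 lc_f_rc_5_3 lc_f_rc_17_3 lc_f_Cert_tree lc_f_rc_22_1 lc_f_Cert_tree lc_f_rc_17_3 lc_f_rc_17_3 lc_f_Cert_tree lc_f_rc_20_1 lc_f_rc_17_3 lc_f_rc_10_3 lc_f_rc_17_3 lc_f_rc_17_3 lc_f_Cert_tree lc_f_rc_19_3 lc_f_rc_14_3 lc_f_rc_14_3 lc_f_Cert_tree lc_f_rc_17_3 lc_f_rc_14_3 lc_f_Cert_tree lc_f_rc_20_1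 lc_f_rc_21_1 lc_f_rc_14_3 lc_f_rc_17_3 lc_f_rc_14_3 lc_f_rc_17_3 lc_f_rc_17_3 lc_f_rc_14_3 lc_f_rc_22_1 lc_f_Cert_tree lc_f_rc_21_1 lc_f_Cert_tree lc_f_rc_20_1 lc_f_rc_14_3 lc_f_rc_10_3 lc_f_rc_14_3 lc_f_rc_14_3 lc_f_rc_17_3 lc_f_rc_21_1 lc_f_Cert_tree lc_f_rc_20_1 lc_f_rc_17_3 lc_f_Cert_tree lc_f_rc_14_3 lc_f_rc_14_3 lc_f_Cert_tree lc_f_rc_17_3 lc_f_rc_14_3 lc_f_Cert_tree lc_f_rc_20_1 lc_f_rc_10_3 lc_f_rc_21_1 lc_f_Cert_tree lc_f_rc_20_1 lc_f_rc_14_3 lc_f_rc_21_1 lc_f_rc_10_3) (@D3.rec (fun _ => (Cert rels S Gen.f)) lc_f_rc_17_3 lc_f_rc_21_1 lc_f_Cert_tree lc_f_rc_20_1 lc_f_Cert_tree lc_f_rc_20_1 lc_f_rc_17_3 lc_f_Cert_tree lc_f_rc_17_3 lc_f_Cert_tree lc_f_rc_14_3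 lc_f_rc_20_1 lc_f_rc_19_3 lc_f_rc_14_3 lc_f_rc_21_1 lc_f_Cert_tree lc_f_Cert_tree lc_f_rc_20_1 lc_f_rc_19_3 lc_f_rc_10_3 lc_f_rc_17_3 lc_f_rc_14_1 lc_f_rc_17_3 lc_f_rc_14_1 lc_f_rc_5_3 lc_f_rc_10_3 lc_f_rc_17_3 lc_f_rc_17_3 lc_f_rc_21_1 lc_f_Cert_tree lc_f_rc_21_1 lc_f_rc_10_3 lc_f_rc_21_1 lc_f_Cert_tree lc_f_rc_17_3 lc_f_Cert_tree lc_f_rc_14_3 lc_f_Cert_tree lc_f_rc_14_3 lc_f_rc_17_3 lc_f_Cert_tree lc_f_rc_20_1 lc_f_rc_5_3 lc_f_rc_22_1 lc_f_Cert_tree lc_f_rc_21_1 lc_f_rc_5_1 lc_f_rc_20_1 lc_f_rc_20_1 lc_f_rc_20_1 lc_f_rc_14_3 lc_f_rc_14_3 lc_f_rc_17_3 lc_f_rc_21_1 lc_f_Cert_tree lc_f_rc_20_1 lc_f_rc_14_3 lc_f_Cert_tree lc_f_rc_17_3 lc_f_rc_17_3 lc_f_rc_14_3 lc_f_Cert_tree)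 (@D3.rec (fun _ => (Cert rels S Gen.f)) lc_f_rc_14_3 lc_f_rc_21_1 lc_f_rc_14_3 lc_f_Cert_tree lc_f_Cert_tree lc_f_rc_20_1 lc_f_rc_19_3 lc_f_Cert_tree lc_f_rc_10_3 lc_f_rc_17_3 lc_f_Cert_tree lc_f_rc_21_1 lc_f_rc_21_1 lc_f_rc_10_3 lc_f_rc_17_3 lc_f_Cert_tree lc_f_rc_14_3 lc_f_rc_14_3 lc_f_Cert_tree lc_f_rc_20_1 lc_f_rc_14_3 lc_f_rc_10_3 lc_f_rc_17_3 lc_f_rc_5_1 lc_f_rc_17_3 lc_f_rc_21_1 lc_f_Cert_tree lc_f_rc_20_1 lc_f_rc_14_3 lc_f_rc_10_3 lc_f_rc_17_3 lc_f_rc_17_3 lc_f_rc_17_3 lc_f_rc_10_3 lc_f_rc_17_3 lc_f_rc_19_3 lc_f_rc_20_1 lc_f_rc_22_1 lc_f_Cert_tree lc_f_rc_21_1 lc_f_Cert_tree lc_f_rc_20_1 lc_f_rc_21_1 lc_f_Cert_tree lc_f_rc_20_1 lc_f_rc_14_3 lc_f_rc_10_3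 lc_f_rc_14_3 lc_f_rc_17_3 lc_f_rc_10_3 lc_f_Cert_tree lc_f_rc_20_1 lc_f_rc_20_1 lc_f_rc_20_1 lc_f_Cert_tree lc_f_rc_21_1 lc_f_rc_17_3 lc_f_rc_19_3 lc_f_rc_14_3 lc_f_rc_21_1 lc_f_Cert_tree lc_f_Cert_tree) (@D3.rec (fun _ => (Cert rels S Gen.f)) lc_f_rc_20_1 lc_f_rc_19_3 lc_f_Cert_tree lc_f_Cert_tree lc_f_rc_20_1 lc_f_rc_14_3 lc_f_rc_14_3 lc_f_rc_21_1 lc_f_Cert_tree lc_f_rc_20_1 lc_f_rc_14_3 lc_f_rc_5_1 lc_f_rc_17_3 lc_f_rc_21_1 lc_f_Cert_tree lc_f_rc_20_1 lc_f_rc_21_1 lc_f_rc_14_1 lc_f_rc_20_1 lc_f_rc_5_1 lc_f_rc_10_3 lc_f_Cert_tree lc_f_rc_10_3 lc_f_Cert_tree lc_f_rc_17_3 lc_f_rc_19_5 lc_f_Cert_tree lc_f_rc_14_3 lc_f_rc_20_1 lc_f_rc_19_3 lc_f_Cert_tree lc_f_Cert_tree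 lc_f_rc_20_1 lc_f_rc_19_3 lc_f_rc_22_1 lc_f_rc_17_3 lc_f_rc_19_3 lc_f_Cert_tree lc_f_rc_21_1 lc_f_rc_14_3 lc_f_rc_20_1 lc_f_rc_17_3 lc_f_rc_19_3 lc_f_Cert_tree lc_f_rc_20_1 lc_f_rc_20_1 lc_f_rc_20_1 lc_f_rc_10_3 lc_f_rc_17_3 lc_f_rc_19_3 lc_f_rc_19_5 lc_f_rc_10_3 lc_f_rc_17_3 lc_f_rc_10_3 lc_f_rc_21_1 lc_f_rc_19_5 lc_f_Cert_tree lc_f_rc_21_1 lc_f_rc_5_1 lc_f_Cert_tree lc_f_rc_20_1 lc_f_rc_10_3) (@D3.rec (fun _ => (Cert rels S Gen.f)) lc_f_rc_17_3 lc_f_rc_17_3 lc_f_Cert_tree lc_f_rc_20_1 lc_f_rc_19_3 lc_f_rc_17_3 lc_f_rc_10_3 lc_f_rc_14_3 lc_f_Cert_tree lc_f_rc_17_3 lc_f_rc_14_1 lc_f_rc_14_1 lc_f_rc_17_3 lc_f_Cert_tree lc_f_rc_5_3 lc_f_rc_14_3 lc_f_rc_14_3 lc_f_rc_10_3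 lc_f_Cert_tree lc_f_rc_17_1 lc_f_rc_17_1 lc_f_Cert_tree lc_f_rc_17_1 lc_f_Cert_tree lc_f_rc_10_3 lc_f_Cert_tree lc_f_rc_10_3 lc_f_rc_10_3 lc_f_rc_20_1 lc_f_rc_5_3 lc_f_rc_21_1 lc_f_rc_14_3 lc_f_Cert_tree lc_f_rc_10_3 lc_f_Cert_tree lc_f_rc_21_1 lc_f_rc_10_3 lc_f_rc_20_1 lc_f_rc_10_3 lc_f_rc_21_1 lc_f_rc_14_3 lc_f_Cert_tree lc_f_rc_10_3 lc_f_rc_14_1 lc_f_Cert_tree lc_f_rc_20_1 lc_f_rc_10_3 lc_f_Cert_tree lc_f_rc_14_3 lc_f_rc_19_5 lc_f_Cert_tree lc_f_rc_20_1 lc_f_rc_10_3 lc_f_rc_5_1 lc_f_rc_14_3 lc_f_rc_17_3 lc_f_rc_21_1 lc_f_Cert_tree lc_f_rc_20_1 lc_f_rc_17_3 lc_f_rc_10_3 lc_f_Cert_tree) (@D3.rec (fun _ => (Cert rels S Gen.f)) lc_f_Cert_tree lc_f_rc_21_1 lc_f_rc_5_1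 lc_f_rc_20_1 lc_f_rc_21_1 lc_f_rc_14_3 lc_f_rc_14_3 lc_f_rc_10_3 lc_f_Cert_tree lc_f_rc_10_3 lc_f_rc_14_3 lc_f_rc_10_3 lc_f_Cert_tree lc_f_rc_21_1 lc_f_rc_17_3 lc_f_rc_19_5 lc_f_rc_14_3 lc_f_rc_21_1 lc_f_Cert_tree lc_f_Cert_tree lc_f_rc_20_1 lc_f_rc_19_3 lc_f_rc_10_3 lc_f_Cert_tree lc_f_rc_19_3 lc_f_rc_20_1 lc_f_rc_20_1 lc_f_rc_14_3 lc_f_rc_20_1 lc_f_rc_10_3 lc_f_Cert_tree lc_f_rc_10_3 lc_f_Cert_tree lc_f_rc_21_1 lc_f_rc_10_3 lc_f_rc_20_1 lc_f_rc_10_3 lc_f_Cert_tree lc_f_Cert_tree lc_f_rc_10_3 lc_f_Cert_tree lc_f_rc_5_1 lc_f_rc_14_3 lc_f_Cert_tree lc_f_rc_20_1 lc_f_rc_14_3 lc_f_rc_21_1 lc_f_Cert_tree lc_f_rc_20_1 lc_f_rc_19_3 lc_f_Cert_tree lc_f_rc_10_3 lc_f_rc_21_1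 lc_f_Cert_tree lc_f_rc_20_1 lc_f_Cert_tree lc_f_rc_17_3 lc_f_Cert_tree lc_f_rc_17_3 lc_f_rc_21_1 lc_f_Cert_tree lc_f_rc_20_1) (@D3.rec (fun _ => (Cert rels S Gen.f)) lc_f_rc_10_3 lc_f_Cert_tree lc_f_rc_10_3 lc_f_Cert_tree lc_f_rc_14_3 lc_f_rc_17_1 lc_f_rc_5_3 lc_f_rc_17_3 lc_f_Cert_tree lc_f_Cert_tree lc_f_rc_10_3 lc_f_rc_10_3 lc_f_Cert_tree lc_f_rc_20_1 lc_f_rc_21_1 lc_f_rc_21_1 lc_f_Cert_tree lc_f_rc_10_3 lc_f_rc_10_3 lc_f_rc_17_3 lc_f_rc_21_1 lc_f_rc_21_1 lc_f_rc_10_3 lc_f_Cert_tree lc_f_rc_20_1 lc_f_rc_17_3 lc_f_rc_17_3 lc_f_Cert_tree lc_f_rc_21_1 lc_f_rc_10_3 lc_f_rc_14_3 lc_f_rc_5_1 lc_f_Cert_tree lc_f_rc_14_3 lc_f_rc_17_3 lc_f_rc_21_1 lc_f_Cert_tree lc_f_rc_20_1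 lc_f_rc_21_1 lc_f_Cert_tree lc_f_rc_14_3 lc_f_rc_20_1 lc_f_rc_19_3 lc_f_rc_20_1 lc_f_rc_17_3 lc_f_rc_14_3 lc_f_rc_5_3 lc_f_rc_10_3 lc_f_rc_21_1 lc_f_rc_10_3 lc_f_rc_21_1 lc_f_rc_14_3 lc_f_rc_17_3 lc_f_rc_10_3 lc_f_rc_17_1 lc_f_rc_10_3 lc_f_Cert_tree lc_f_rc_14_3 lc_f_rc_21_1 lc_f_Cert_tree lc_f_rc_20_1 lc_f_Cert_tree) (@D3.rec (fun _ => (Cert rels S Gen.f)) lc_f_rc_20_1 lc_f_rc_17_3 lc_f_rc_21_1 lc_f_rc_5_1 lc_f_rc_17_3 lc_f_Cert_tree lc_f_Cert_tree lc_f_rc_20_1 lc_f_rc_19_3 lc_f_rc_10_3 lc_f_rc_17_3 lc_f_rc_14_3 lc_f_rc_20_1 lc_f_rc_10_3 lc_f_rc_17_3 lc_f_rc_17_3 lc_f_Cert_tree lc_f_rc_22_1 lc_f_rc_5_3 lc_f_rc_14_1 lc_f_rc_14_3 lc_f_rc_14_3 lc_f_rc_10_3 lc_f_Cert_tree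 lc_f_rc_5_1 lc_f_rc_10_3 lc_f_rc_20_1 lc_f_rc_10_3 lc_f_rc_17_3 lc_f_Cert_tree lc_f_rc_22_1 lc_f_rc_10_3 lc_f_Cert_tree lc_f_rc_20_1 lc_f_rc_14_3 lc_f_rc_17_3 lc_f_rc_21_1 lc_f_rc_10_3 lc_f_rc_14_3 lc_f_rc_21_1 lc_f_rc_14_3 lc_f_rc_5_1 lc_f_rc_10_3 lc_f_rc_17_3 lc_f_rc_10_3 lc_f_rc_21_1 lc_f_rc_21_1 lc_f_rc_19_5 lc_f_Cert_tree lc_f_rc_21_1 lc_f_rc_5_1 lc_f_Cert_tree lc_f_rc_20_1 lc_f_rc_5_1 lc_f_rc_19_3 lc_f_rc_17_3 lc_f_Cert_tree lc_f_rc_20_1 lc_f_rc_19_3 lc_f_rc_5_1 lc_f_rc_20_1 lc_f_rc_5_1) (@D3.rec (fun _ => (Cert rels S Gen.f)) lc_f_rc_20_1 lc_f_rc_20_1 lc_f_rc_17_3 lc_f_rc_17_3 lc_f_Cert_tree lc_f_rc_5_1 lc_f_Cert_tree lc_f_rc_19_5 lc_f_Cert_tree lc_f_Cert_tree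 lc_f_rc_20_1 lc_f_rc_19_3 lc_f_rc_10_3 lc_f_rc_14_3 lc_f_rc_19_3 lc_f_Cert_tree lc_f_rc_5_3 lc_f_Cert_tree lc_f_rc_21_1 lc_f_rc_21_1 lc_f_rc_20_1 lc_f_rc_5_3 lc_f_rc_20_1 lc_f_rc_20_1 lc_f_Cert_tree lc_f_Cert_tree lc_f_rc_21_1 lc_f_rc_5_1 lc_f_rc_17_1 lc_f_rc_20_1 lc_f_Cert_tree lc_f_rc_19_3 lc_f_Cert_tree lc_f_rc_21_1 lc_f_rc_5_1 lc_f_Cert_tree lc_f_rc_20_1 lc_f_rc_14_1 lc_f_Cert_tree lc_f_rc_20_1 lc_f_rc_19_3 lc_f_rc_10_3 lc_f_rc_14_3 lc_f_rc_20_1 lc_f_rc_21_1 lc_f_rc_17_3 lc_f_rc_19_3 lc_f_Cert_tree lc_f_Cert_tree lc_f_rc_14_3 lc_f_rc_21_1 lc_f_Cert_tree lc_f_rc_20_1 lc_f_rc_10_3 lc_f_rc_21_1 lc_f_rc_20_1 lc_f_rc_21_1 lc_f_rc_20_1 lc_f_rc_17_3 lc_f_rc_19_3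 lc_f_Cert_tree lc_f_Cert_tree) (@D3.rec (fun _ => (Cert rels S Gen.f)) lc_f_Cert_tree lc_f_rc_20_1 lc_f_rc_19_5 lc_f_rc_20_1 lc_f_rc_5_3 lc_f_rc_17_3 lc_f_Cert_tree lc_f_rc_19_5 lc_f_rc_19_3 lc_f_rc_20_1 lc_f_rc_20_1 lc_f_rc_19_3 lc_f_rc_21_1 lc_f_rc_14_3 lc_f_rc_17_3 lc_f_rc_19_3 lc_f_rc_21_1 lc_f_rc_5_3 lc_f_rc_10_3 lc_f_Cert_tree lc_f_rc_19_5 lc_f_rc_5_1 lc_f_rc_5_3 lc_f_rc_10_3 lc_f_rc_17_3 lc_f_rc_19_3 lc_f_rc_17_3 lc_f_rc_5_3 lc_f_rc_20_1 lc_f_Cert_tree lc_f_Cert_tree lc_f_rc_10_3 lc_f_rc_20_1 lc_f_rc_20_1 lc_f_rc_20_1 lc_f_rc_17_1 lc_f_rc_19_3 lc_f_rc_17_3 lc_f_rc_17_1 lc_f_rc_17_1 lc_f_Cert_tree lc_f_Cert_tree lc_f_rc_20_1 lc_f_rc_19_3 lc_f_rc_17_3 lc_f_Cert_tree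 lc_f_rc_14_3 lc_f_Cert_tree lc_f_rc_22_1 lc_f_Cert_tree lc_f_rc_21_1 lc_f_rc_20_1 lc_f_rc_20_1 lc_f_rc_19_1 lc_f_rc_21_1 lc_f_rc_17_3 lc_f_rc_14_3 lc_f_Cert_tree lc_f_rc_14_3 lc_f_rc_17_3 lc_f_rc_10_3 lc_f_Cert_tree) (@D3.rec (fun _ => (Cert rels S Gen.f)) lc_f_rc_14_3 lc_f_rc_5_1 lc_f_Cert_tree lc_f_rc_20_1 lc_f_rc_17_1 lc_f_rc_10_3 lc_f_Cert_tree lc_f_rc_20_1 lc_f_rc_17_3 lc_f_Cert_tree lc_f_rc_21_1 lc_f_Cert_tree lc_f_rc_20_1 lc_f_rc_5_3 lc_f_Cert_tree lc_f_Cert_tree lc_f_rc_17_1 lc_f_Cert_tree lc_f_rc_14_1 lc_f_rc_21_1 lc_f_rc_14_3 lc_f_rc_17_3 lc_f_Cert_tree lc_f_rc_21_1 lc_f_rc_14_3 lc_f_rc_20_1 lc_f_Cert_tree lc_f_rc_17_3 lc_f_Cert_tree lc_f_rc_19_3 lc_f_rc_19_5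 lc_f_Cert_tree lc_f_rc_20_1 lc_f_rc_14_3 lc_f_Cert_tree lc_f_rc_19_3 lc_f_rc_19_5 lc_f_Cert_tree lc_f_rc_20_1 lc_f_rc_17_3 lc_f_rc_5_1 lc_f_rc_5_3 lc_f_Cert_tree lc_f_rc_19_3 lc_f_rc_14_3 lc_f_Cert_tree lc_f_rc_20_1 lc_f_rc_21_1 lc_f_rc_14_3 lc_f_rc_17_3 lc_f_Cert_tree lc_f_rc_14_3 lc_f_rc_17_3 lc_f_Cert_tree lc_f_rc_14_3 lc_f_rc_5_1 lc_f_Cert_tree lc_f_rc_14_3 lc_f_rc_17_3 lc_f_Cert_tree lc_f_rc_14_3 lc_f_rc_20_1) (@D3.rec (fun _ => (Cert rels S Gen.f)) lc_f_rc_14_3 lc_f_rc_14_3 lc_f_rc_5_3 lc_f_Cert_tree lc_f_rc_21_1 lc_f_rc_19_3 lc_f_Cert_tree lc_f_rc_20_1 lc_f_rc_21_1 lc_f_rc_21_1 lc_f_Cert_tree lc_f_rc_14_3 lc_f_rc_10_3 lc_f_rc_10_3 lc_f_Cert_tree lc_f_rc_14_3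 lc_f_Cert_tree lc_f_rc_14_3 lc_f_Cert_tree lc_f_rc_10_3 lc_f_rc_21_1 lc_f_rc_10_3 lc_f_rc_17_3 lc_f_Cert_tree lc_f_rc_14_3 lc_f_rc_5_1 lc_f_Cert_tree lc_f_rc_20_1 lc_f_rc_20_1 lc_f_rc_14_3 lc_f_rc_10_3 lc_f_rc_21_1 lc_f_Cert_tree lc_f_rc_20_1 lc_f_rc_5_1 lc_f_rc_14_1 lc_f_rc_5_3 lc_f_Cert_tree lc_f_rc_10_3 lc_f_rc_5_1 lc_f_Cert_tree lc_f_rc_20_1 lc_f_rc_21_1 lc_f_rc_21_1 lc_f_rc_21_1 lc_f_Cert_tree lc_f_rc_10_3 lc_f_rc_17_3 lc_f_rc_14_3 lc_f_rc_17_3 lc_f_rc_17_3 lc_f_Cert_tree lc_f_rc_20_1 lc_f_rc_21_1 lc_f_rc_5_1 lc_f_Cert_tree lc_f_rc_17_3 lc_f_Cert_tree lc_f_rc_10_3 lc_f_rc_14_3 lc_f_rc_21_1 lc_f_Cert_tree) (@D3.rec (fun _ => (Cert rels S Gen.f)) lc_f_rc_20_1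 lc_f_rc_21_1 lc_f_Cert_tree lc_f_rc_14_3 lc_f_rc_20_1 lc_f_rc_19_3 lc_f_rc_17_3 lc_f_rc_10_3 lc_f_rc_17_3 lc_f_rc_17_1 lc_f_rc_20_1 lc_f_rc_10_3 lc_f_rc_14_3 lc_f_Cert_tree lc_f_rc_20_1 lc_f_rc_14_3 lc_f_rc_14_3 lc_f_rc_10_3 lc_f_rc_14_1 lc_f_rc_17_3 lc_f_rc_17_1 lc_f_rc_20_1 lc_f_Cert_tree lc_f_rc_14_1 lc_f_rc_14_3 lc_f_rc_20_1 lc_f_rc_10_3 lc_f_Cert_tree lc_f_rc_5_1 lc_f_rc_20_1 lc_f_rc_10_3 lc_f_rc_17_3 lc_f_Cert_tree lc_f_rc_22_1 lc_f_rc_20_1 lc_f_Cert_tree lc_f_rc_20_1 lc_f_rc_17_3 lc_f_rc_21_1 lc_f_rc_10_3 lc_f_rc_14_3 lc_f_rc_19_5 lc_f_rc_10_3 lc_f_rc_17_3 lc_f_rc_21_1 lc_f_rc_19_3 lc_f_Cert_tree lc_f_rc_21_1 lc_f_rc_5_1 lc_f_Cert_tree lc_f_rc_20_1 lc_f_rc_19_3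 lc_f_rc_5_1 lc_f_rc_17_3 lc_f_Cert_tree lc_f_rc_20_1 lc_f_rc_19_3 lc_f_rc_17_3 lc_f_rc_5_3 lc_f_Cert_tree lc_f_Cert_tree lc_f_rc_20_1) (@D3.rec (fun _ => (Cert rels S Gen.f)) lc_f_rc_21_1 lc_f_rc_17_3 lc_f_Cert_tree lc_f_rc_17_3 lc_f_Cert_tree lc_f_rc_20_1 lc_f_rc_17_3 lc_f_Cert_tree lc_f_rc_10_3 lc_f_rc_10_3 lc_f_rc_20_1 lc_f_Cert_tree lc_f_Cert_tree lc_f_rc_20_1 lc_f_rc_21_1 lc_f_Cert_tree lc_f_rc_17_3 lc_f_Cert_tree lc_f_Cert_tree lc_f_rc_10_3 lc_f_rc_21_1 lc_f_Cert_tree lc_f_rc_20_1 lc_f_rc_17_3 lc_f_rc_17_3 lc_f_Cert_tree lc_f_rc_20_1 lc_f_rc_17_3 lc_f_rc_17_3 lc_f_rc_5_3 lc_f_Cert_tree lc_f_Cert_tree lc_f_rc_20_1 lc_f_rc_21_1 lc_f_rc_5_1 lc_f_Cert_tree lc_f_rc_14_3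 lc_f_rc_17_3 lc_f_rc_19_5 lc_f_rc_20_1 lc_f_rc_21_1 lc_f_Cert_tree lc_f_rc_20_1 lc_f_rc_10_3 lc_f_rc_21_1 lc_f_Cert_tree lc_f_Cert_tree lc_f_Cert_tree lc_f_rc_20_1 lc_f_rc_19_3 lc_f_rc_17_3 lc_f_rc_21_1 lc_f_rc_19_3 lc_f_Cert_tree lc_f_rc_14_3 lc_f_rc_14_3 lc_f_Cert_tree lc_f_rc_20_1 lc_f_rc_17_3 lc_f_rc_14_3 lc_f_rc_10_3 lc_f_rc_21_1) (@D3.rec (fun _ => (Cert rels S Gen.f)) lc_f_rc_21_1 lc_f_rc_19_5 lc_f_rc_17_3 lc_f_rc_17_1 lc_f_Cert_tree lc_f_rc_20_1 lc_f_rc_17_3 lc_f_rc_17_3 lc_f_Cert_tree lc_f_rc_20_1 lc_f_Cert_tree lc_f_rc_14_3 lc_f_rc_21_1 lc_f_Cert_tree lc_f_rc_20_1 lc_f_rc_14_3 lc_f_rc_20_1 lc_f_rc_21_1 lc_f_rc_14_3 lc_f_rc_21_1 lc_f_rc_19_5 lc_f_rc_17_3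 lc_f_rc_17_1 lc_f_Cert_tree lc_f_rc_20_1 lc_f_rc_17_3 lc_f_rc_5_1 lc_f_rc_5_3 lc_f_Cert_tree lc_f_Cert_tree lc_f_rc_20_1 lc_f_rc_21_1 lc_f_rc_5_3 lc_f_rc_14_3 lc_f_Cert_tree lc_f_Cert_tree lc_f_rc_20_1 lc_f_rc_17_3 lc_f_rc_10_1 lc_f_Cert_tree lc_f_rc_14_3 lc_f_Cert_tree lc_f_rc_17_3 lc_f_Cert_tree lc_f_rc_21_1 lc_f_rc_10_1 lc_f_rc_14_3 lc_f_Cert_tree lc_f_rc_14_3 lc_f_rc_21_1 lc_f_Cert_tree lc_f_rc_20_1 lc_f_rc_19_3 lc_f_rc_19_5 lc_f_Cert_tree lc_f_rc_20_1 lc_f_rc_20_1 lc_f_rc_5_1 lc_f_Cert_tree lc_f_rc_5_1 lc_f_rc_10_3 lc_f_Cert_tree) (@D3.rec (fun _ => (Cert rels S Gen.f)) lc_f_rc_17_3 lc_f_rc_21_1 lc_f_Cert_tree lc_f_rc_20_1 lc_f_rc_5_1 lc_f_rc_10_3 lc_f_Cert_tree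 lc_f_rc_17_1 lc_f_rc_21_1 lc_f_rc_14_3 lc_f_rc_19_5 lc_f_rc_19_3 lc_f_rc_17_1 lc_f_rc_20_1 lc_f_rc_21_1 lc_f_rc_17_3 lc_f_rc_14_1 lc_f_rc_20_1 lc_f_rc_17_3 lc_f_Cert_tree lc_f_rc_14_3 lc_f_rc_21_1 lc_f_rc_14_3 lc_f_rc_21_1 lc_f_rc_21_1 lc_f_Cert_tree lc_f_rc_17_3 lc_f_rc_14_3 lc_f_rc_10_3 lc_f_Cert_tree lc_f_rc_14_3 lc_f_rc_21_1 lc_f_Cert_tree lc_f_Cert_tree lc_f_rc_20_1 lc_f_rc_19_3 lc_f_rc_10_3 lc_f_rc_22_1 lc_f_Cert_tree lc_f_rc_22_1 lc_f_rc_14_3 lc_f_rc_17_3 lc_f_rc_19_3 lc_f_Cert_tree lc_f_rc_10_3 lc_f_rc_5_1 lc_f_rc_20_1 lc_f_rc_20_1 lc_f_rc_20_1 lc_f_rc_21_1 lc_f_rc_14_3 lc_f_Cert_tree lc_f_rc_10_3 lc_f_rc_5_1 lc_f_rc_21_1 lc_f_rc_10_3 lc_f_rc_20_1 lc_f_rc_10_3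 lc_f_rc_17_3 lc_f_rc_14_3 lc_f_Cert_tree lc_f_rc_10_3) (@D3.rec (fun _ => (Cert rels S Gen.f)) lc_f_rc_21_1 lc_f_Cert_tree lc_f_rc_20_1 lc_f_rc_10_3 lc_f_rc_20_1 lc_f_rc_10_3 lc_f_rc_17_3 lc_f_Cert_tree lc_f_rc_20_1 lc_f_rc_21_1 lc_f_Cert_tree lc_f_Cert_tree lc_f_rc_21_1 lc_f_rc_5_1 lc_f_rc_17_1 lc_f_rc_20_1 lc_f_rc_14_3 lc_f_rc_20_1 lc_f_Cert_tree lc_f_rc_19_3 lc_f_rc_19_3 lc_f_rc_21_1 lc_f_rc_14_3 lc_f_rc_10_3 lc_f_rc_5_3 lc_f_rc_21_1 lc_f_rc_20_1 lc_f_rc_20_1 lc_f_rc_21_1 lc_f_rc_14_1 lc_f_rc_14_1 lc_f_rc_10_3 lc_f_rc_5_3 lc_f_Cert_tree lc_f_rc_19_3 lc_f_rc_19_5 lc_f_Cert_tree lc_f_rc_20_1 lc_f_rc_10_3 lc_f_rc_17_3 lc_f_rc_14_3 lc_f_rc_21_1 lc_f_rc_21_1 lc_f_rc_17_3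 lc_f_rc_19_5 lc_f_rc_17_3 lc_f_rc_17_1 lc_f_Cert_tree lc_f_rc_20_1 lc_f_Cert_tree lc_f_rc_17_1 lc_f_rc_20_1 lc_f_rc_19_3 lc_f_rc_14_3 lc_f_rc_5_3 lc_f_rc_10_3 lc_f_Cert_tree lc_f_rc_10_3 lc_f_Cert_tree lc_f_rc_17_3 lc_f_rc_19_3 lc_f_Cert_tree) (@D3.rec (fun _ => (Cert rels S Gen.f)) lc_f_rc_21_1 lc_f_rc_5_1 lc_f_Cert_tree lc_f_rc_20_1 lc_f_rc_14_1 lc_f_Cert_tree lc_f_rc_20_1 lc_f_rc_19_3 lc_f_rc_17_3 lc_f_rc_22_1 lc_f_Cert_tree lc_f_rc_22_1 lc_f_rc_17_3 lc_f_rc_5_1 lc_f_rc_17_3 lc_f_rc_10_3 lc_f_Cert_tree lc_f_rc_5_1 lc_f_rc_14_3 lc_f_Cert_tree lc_f_rc_20_1 lc_f_Cert_tree lc_f_rc_10_3 lc_f_rc_5_1 lc_f_rc_20_1 lc_f_rc_10_3 lc_f_rc_22_1 lc_f_rc_19_5 lc_f_rc_10_3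 lc_f_rc_17_3 lc_f_rc_22_1 lc_f_rc_14_3 lc_f_rc_17_3 lc_f_rc_17_3 lc_f_rc_5_1 lc_f_rc_22_1 lc_f_rc_20_1 lc_f_Cert_tree lc_f_rc_5_3 lc_f_Cert_tree lc_f_rc_14_3 lc_f_rc_21_1 lc_f_Cert_tree lc_f_rc_20_1 lc_f_rc_5_1 lc_f_rc_10_3 lc_f_rc_5_3 lc_f_rc_10_3 lc_f_Cert_tree lc_f_rc_17_3 lc_f_Cert_tree lc_f_rc_21_1 lc_f_rc_10_3 lc_f_rc_20_1 lc_f_rc_21_1 lc_f_rc_10_3 lc_f_rc_14_3 lc_f_rc_22_1 lc_f_Cert_tree lc_f_Cert_tree lc_f_rc_19_5 lc_f_rc_19_5) (@D3.rec (fun _ => (Cert rels S Gen.f)) lc_f_Cert_tree lc_f_rc_20_1 lc_f_rc_10_3 lc_f_rc_17_3 lc_f_rc_14_3 lc_f_rc_5_3 lc_f_rc_10_3 lc_f_rc_21_1 lc_f_rc_17_3 lc_f_Cert_tree lc_f_rc_21_1 lc_f_rc_10_3 lc_f_rc_5_3 lc_f_rc_10_3 lc_f_rc_10_3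 lc_f_rc_14_3 lc_f_rc_5_1 lc_f_rc_10_3 lc_f_rc_5_1 lc_f_rc_14_3 lc_f_rc_19_5 lc_f_rc_5_3 lc_f_rc_10_3 lc_f_Cert_tree lc_f_rc_17_3 lc_f_rc_17_3 lc_f_rc_5_3 lc_f_rc_17_3 lc_f_rc_19_3 lc_f_rc_19_3 lc_f_Cert_tree lc_f_rc_17_3 lc_f_rc_5_3 lc_f_rc_20_1 lc_f_Cert_tree lc_f_Cert_tree lc_f_rc_17_1 lc_f_rc_20_1 lc_f_rc_20_1 lc_f_rc_10_3 lc_f_rc_17_1 lc_f_rc_19_3 lc_f_rc_17_3 lc_f_rc_17_1 lc_f_rc_10_3 lc_f_Cert_tree lc_f_Cert_tree lc_f_rc_20_1 lc_f_rc_19_3 lc_f_rc_10_3 lc_f_Cert_tree lc_f_rc_19_3 lc_f_Cert_tree lc_f_rc_10_3 lc_f_Cert_tree lc_f_rc_21_1 lc_f_rc_19_3 lc_f_rc_20_1 lc_f_rc_19_1 lc_f_rc_20_1 lc_f_rc_10_3 lc_f_rc_17_3) (@D3.rec (fun _ => (Cert rels S Gen.f)) lc_f_rc_10_3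 lc_f_rc_5_1 lc_f_rc_19_3 lc_f_rc_19_3 lc_f_rc_5_3 lc_f_rc_17_3 lc_f_rc_5_3 lc_f_rc_10_3 lc_f_rc_21_1 lc_f_rc_20_1 lc_f_rc_10_3 lc_f_rc_20_1 lc_f_rc_10_3 lc_f_rc_5_1 lc_f_rc_14_3 lc_f_rc_21_1 lc_f_rc_5_1 lc_f_Cert_tree lc_f_rc_20_1 lc_f_rc_20_1 lc_f_Cert_tree lc_f_rc_20_1 lc_f_rc_21_1 lc_f_rc_14_3 lc_f_rc_5_1 lc_f_rc_5_3 lc_f_rc_10_3 lc_f_Cert_tree lc_f_rc_10_3 lc_f_rc_21_1 lc_f_rc_20_1 lc_f_rc_10_3 lc_f_rc_5_1 lc_f_rc_19_3 lc_f_Cert_tree lc_f_rc_17_1 lc_f_rc_20_1 lc_f_rc_10_3 lc_f_rc_5_1 lc_f_rc_19_3 lc_f_rc_10_3 lc_f_rc_21_1 lc_f_rc_5_3 lc_f_rc_20_1 lc_f_rc_14_3 lc_f_Cert_tree lc_f_rc_17_1 lc_f_rc_20_1 lc_f_rc_20_1 lc_f_rc_5_1 lc_f_rc_17_1 lc_f_rc_19_3 lc_f_rc_22_1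 lc_f_rc_20_1 lc_f_rc_21_1 lc_f_rc_10_3 lc_f_Cert_tree lc_f_rc_10_3 lc_f_rc_21_1 lc_f_rc_20_1 lc_f_rc_20_1 lc_f_rc_17_3) (@D3.rec (fun _ => (Cert rels S Gen.f)) lc_f_rc_5_3 lc_f_rc_20_1 lc_f_Cert_tree lc_f_Cert_tree lc_f_Cert_tree lc_f_rc_20_1 lc_f_rc_20_1 lc_f_rc_20_1 lc_f_rc_20_1 lc_f_rc_17_3 lc_f_rc_17_3 lc_f_rc_17_3 lc_f_Cert_tree lc_f_Cert_tree lc_f_rc_20_1 lc_f_rc_19_3 lc_f_rc_10_3 lc_f_Cert_tree lc_f_rc_17_3 lc_f_rc_17_3 lc_f_rc_20_1 lc_f_rc_19_1 lc_f_rc_17_3 lc_f_rc_20_1 lc_f_rc_14_3 lc_f_rc_5_3 lc_f_rc_14_1 lc_f_rc_19_5 lc_f_rc_17_3 lc_f_rc_10_3 lc_f_rc_14_3 lc_f_rc_17_3 lc_f_rc_20_1 lc_f_rc_20_1 lc_f_rc_21_1 lc_f_rc_21_1 lc_f_rc_19_3 lc_f_Cert_tree lc_f_rc_17_3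 lc_f_rc_17_3 lc_f_rc_19_3 lc_f_Cert_tree lc_f_rc_19_3 lc_f_rc_21_1 lc_f_Cert_tree lc_f_rc_20_1 lc_f_rc_21_1 lc_f_rc_20_1 lc_f_rc_17_1 lc_f_rc_20_1 lc_f_rc_10_3 lc_f_rc_10_3 lc_f_rc_17_1 lc_f_Cert_tree lc_f_rc_20_1 lc_f_rc_10_3 lc_f_rc_5_3 lc_f_rc_10_3 lc_f_rc_21_1 lc_f_rc_20_1 lc_f_rc_21_1 lc_f_rc_21_1) (@D3.rec (fun _ => (Cert rels S Gen.f)) lc_f_rc_10_3 lc_f_rc_14_3 lc_f_rc_17_3 lc_f_rc_20_1 lc_f_rc_19_3 lc_f_rc_5_1 lc_f_rc_17_3 lc_f_rc_20_1 lc_f_rc_19_3 lc_f_Cert_tree lc_f_rc_21_1 lc_f_Cert_tree lc_f_rc_20_1 lc_f_rc_21_1 lc_f_rc_20_1 lc_f_Cert_tree lc_f_rc_20_1 lc_f_rc_14_1 lc_f_rc_20_1 lc_f_rc_19_3 lc_f_rc_19_3 lc_f_rc_21_1 lc_f_rc_19_5 lc_f_rc_19_5 lc_f_rc_20_1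 lc_f_rc_20_1 lc_f_Cert_tree lc_f_rc_14_3 lc_f_rc_20_1 lc_f_rc_19_3 lc_f_rc_19_5 lc_f_rc_20_1 lc_f_rc_19_3 lc_f_rc_17_3 lc_f_rc_19_3 lc_f_rc_14_3 lc_f_rc_22_1 lc_f_rc_21_1 lc_f_rc_10_3 lc_f_rc_17_3 lc_f_rc_21_1 lc_f_rc_10_3 lc_f_rc_19_3 lc_f_rc_17_3 lc_f_rc_10_3 lc_f_rc_21_1 lc_f_rc_21_1 lc_f_rc_5_1 lc_f_rc_17_3 lc_f_rc_17_3 lc_f_rc_5_1 lc_f_rc_14_3 lc_f_Cert_tree lc_f_rc_20_1 lc_f_rc_21_1 lc_f_rc_20_1 lc_f_rc_19_5 lc_f_rc_17_3 lc_f_rc_20_1 lc_f_rc_14_3 lc_f_rc_17_3 lc_f_rc_5_1) (@D3.rec (fun _ => (Cert rels S Gen.f)) lc_f_rc_5_3 lc_f_rc_5_3 lc_f_rc_19_5 lc_f_rc_14_3 lc_f_rc_19_5 lc_f_rc_17_3 lc_f_rc_19_5 lc_f_rc_10_3 lc_f_rc_5_1 lc_f_rc_14_3 lc_f_rc_17_3 lc_f_rc_14_3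 lc_f_rc_14_3 lc_f_rc_17_3 lc_f_rc_19_3 lc_f_rc_10_3 lc_f_rc_14_3 lc_f_rc_19_5 lc_f_rc_5_1 lc_f_rc_20_1 lc_f_rc_20_1 lc_f_rc_20_1 lc_f_rc_19_3 lc_f_rc_21_1 lc_f_Cert_tree lc_f_Cert_tree lc_f_rc_20_1 lc_f_rc_14_3 lc_f_Cert_tree lc_f_rc_19_3 lc_f_rc_5_1 lc_f_rc_17_1 lc_f_rc_19_3 lc_f_rc_21_1 lc_f_rc_17_3 lc_f_rc_19_3 lc_f_rc_14_3 lc_f_rc_21_1 lc_f_rc_14_1 lc_f_rc_17_3 lc_f_rc_17_3 lc_f_rc_14_3 lc_f_Cert_tree lc_f_rc_17_1 lc_f_rc_14_3 lc_f_Cert_tree lc_f_rc_17_1 lc_f_rc_21_1 lc_f_Cert_tree lc_f_rc_17_3 lc_f_rc_14_3 lc_f_rc_10_1 lc_f_Cert_tree lc_f_Cert_tree lc_f_rc_20_1 lc_f_rc_10_3 lc_f_rc_10_3 lc_f_rc_20_1 lc_f_rc_19_1 lc_f_rc_19_1 lc_f_rc_21_1 lc_f_rc_17_3) (@D3.rec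 (fun _ => (Cert rels S Gen.f)) lc_f_rc_14_3 lc_f_rc_17_3 lc_f_Cert_tree lc_f_rc_21_1 lc_f_rc_14_3 lc_f_rc_20_1 lc_f_rc_17_3 lc_f_rc_22_1 lc_f_Cert_tree lc_f_rc_21_1 lc_f_Cert_tree lc_f_rc_20_1 lc_f_rc_17_3 lc_f_rc_5_1 lc_f_rc_17_3 lc_f_Cert_tree lc_f_rc_21_1 lc_f_rc_20_1 lc_f_Cert_tree lc_f_rc_20_1 lc_f_rc_20_1 lc_f_rc_20_1 lc_f_rc_20_1 lc_f_rc_17_3 lc_f_rc_10_3 lc_f_rc_14_3 lc_f_rc_19_1 lc_f_rc_19_1 lc_f_rc_22_1 lc_f_rc_14_3 lc_f_rc_21_1 lc_f_rc_14_1 lc_f_rc_17_3 lc_f_Cert_tree lc_f_rc_5_1 lc_f_Cert_tree lc_f_rc_20_1 lc_f_rc_10_3 lc_f_rc_20_1 lc_f_rc_14_3 lc_f_rc_14_3 lc_f_rc_10_3 lc_f_rc_5_3 lc_f_Cert_tree lc_f_Cert_tree lc_f_rc_20_1 lc_f_rc_17_3 lc_f_Cert_tree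 lc_f_rc_21_1 lc_f_rc_5_1 lc_f_rc_14_3 lc_f_rc_20_1 lc_f_rc_21_1 lc_f_Cert_tree lc_f_rc_20_1 lc_f_rc_10_3 lc_f_rc_22_1 lc_f_Cert_tree lc_f_rc_10_3 lc_f_Cert_tree lc_f_rc_20_1 lc_f_rc_10_3) (@D3.rec (fun _ => (Cert rels S Gen.f)) lc_f_rc_14_3 lc_f_Cert_tree lc_f_rc_10_3 lc_f_Cert_tree lc_f_rc_20_1 lc_f_rc_22_1 lc_f_rc_21_1 lc_f_Cert_tree lc_f_rc_20_1 lc_f_rc_10_3 lc_f_rc_21_1 lc_f_Cert_tree lc_f_rc_21_1 lc_f_rc_14_3 lc_f_rc_20_1 lc_f_rc_19_3 lc_f_rc_19_5 lc_f_Cert_tree lc_f_rc_20_1 lc_f_Cert_tree lc_f_rc_19_3 lc_f_rc_19_5 lc_f_Cert_tree lc_f_rc_20_1 lc_f_Cert_tree lc_f_rc_17_3 lc_f_Cert_tree lc_f_Cert_tree lc_f_Cert_tree lc_f_rc_21_1 lc_f_rc_20_1 lc_f_Cert_tree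 lc_f_rc_20_1 lc_f_rc_21_1 lc_f_rc_21_1 lc_f_Cert_tree lc_f_rc_20_1 lc_f_rc_17_3 lc_f_Cert_tree lc_f_rc_17_3 lc_f_rc_19_5 lc_f_Cert_tree lc_f_rc_20_1 lc_f_rc_14_3 lc_f_rc_10_3 lc_f_rc_17_1 lc_f_Cert_tree lc_f_Cert_tree lc_f_rc_20_1 lc_f_rc_19_3 lc_f_rc_19_3 lc_f_rc_21_1 lc_f_rc_19_5 lc_f_rc_22_1 lc_f_rc_17_3 lc_f_rc_17_1 lc_f_Cert_tree lc_f_rc_20_1 lc_f_rc_17_3 lc_f_rc_17_3 lc_f_rc_10_3 lc_f_Cert_tree) (@D3.rec (fun _ => (Cert rels S Gen.f)) lc_f_rc_10_3 lc_f_rc_21_1 lc_f_Cert_tree lc_f_rc_20_1 lc_f_rc_17_3 lc_f_rc_21_1 lc_f_rc_17_3 lc_f_rc_22_1 lc_f_rc_21_1 lc_f_rc_17_1 lc_f_Cert_tree lc_f_rc_20_1 lc_f_rc_14_3 lc_f_Cert_tree lc_f_rc_21_1 lc_f_rc_17_3 lc_f_Cert_tree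 lc_f_Cert_tree lc_f_rc_19_3 lc_f_rc_19_3 lc_f_Cert_tree lc_f_rc_20_1 lc_f_rc_19_3 lc_f_rc_17_3 lc_f_Cert_tree lc_f_rc_10_3 lc_f_rc_17_3 lc_f_Cert_tree lc_f_rc_17_3 lc_f_rc_17_3 lc_f_Cert_tree lc_f_rc_20_1 lc_f_rc_5_3 lc_f_rc_21_1 lc_f_Cert_tree lc_f_rc_14_3 lc_f_rc_21_1 lc_f_Cert_tree lc_f_rc_14_3 lc_f_rc_14_3 lc_f_rc_19_3 lc_f_rc_17_3 lc_f_rc_17_1 lc_f_rc_20_1 lc_f_rc_10_3 lc_f_rc_17_3 lc_f_Cert_tree lc_f_rc_14_3 lc_f_rc_17_3 lc_f_rc_10_3 lc_f_rc_20_1 lc_f_rc_10_3 lc_f_rc_20_1 lc_f_rc_19_5 lc_f_Cert_tree lc_f_rc_20_1 lc_f_rc_17_3 lc_f_rc_14_3 lc_f_rc_14_3 lc_f_rc_17_3 lc_f_Cert_tree lc_f_Cert_tree) (@D3.rec (fun _ => (Cert rels S Gen.f)) lc_f_rc_21_1 lc_f_Cert_tree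 lc_f_rc_20_1 lc_f_rc_17_3 lc_f_Cert_tree lc_f_Cert_tree lc_f_rc_10_3 lc_f_Cert_tree lc_f_Cert_tree lc_f_rc_14_3 lc_f_rc_14_1 lc_f_Cert_tree lc_f_rc_20_1 lc_f_rc_10_3 lc_f_rc_21_1 lc_f_Cert_tree lc_f_rc_19_3 lc_f_rc_17_3 lc_f_Cert_tree lc_f_rc_14_3 lc_f_rc_17_3 lc_f_rc_14_1 lc_f_rc_20_1 lc_f_rc_10_3 lc_f_rc_21_1 lc_f_Cert_tree lc_f_rc_14_3 lc_f_rc_22_1 lc_f_rc_19_3 lc_f_rc_17_3 lc_f_rc_17_1 lc_f_rc_20_1 lc_f_rc_20_1 lc_f_rc_17_3 lc_f_Cert_tree lc_f_rc_20_1 lc_f_rc_17_3 lc_f_Cert_tree lc_f_rc_14_3 lc_f_rc_17_3 lc_f_rc_17_1 lc_f_rc_20_1 lc_f_Cert_tree lc_f_rc_17_3 lc_f_Cert_tree lc_f_rc_20_1 lc_f_rc_10_3 lc_f_Cert_tree lc_f_rc_21_1 lc_f_Cert_tree lc_f_rc_20_1 lc_f_rc_17_3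 lc_f_Cert_tree lc_f_rc_10_3 lc_f_rc_14_3 lc_f_Cert_tree lc_f_rc_10_1 lc_f_rc_5_3 lc_f_rc_17_3 lc_f_Cert_tree lc_f_Cert_tree lc_f_rc_10_3) (@D3.rec (fun _ => (Cert rels S Gen.f)) lc_f_rc_14_3 lc_f_Cert_tree lc_f_rc_20_1 lc_f_rc_10_3 lc_f_rc_17_3 lc_f_Cert_tree lc_f_rc_5_1 lc_f_rc_5_1 lc_f_rc_14_3 lc_f_rc_10_3 lc_f_rc_21_1 lc_f_Cert_tree lc_f_rc_20_1 lc_f_rc_10_3 lc_f_Cert_tree lc_f_rc_17_3 lc_f_Cert_tree lc_f_rc_14_3 lc_f_rc_21_1 lc_f_rc_21_1 lc_f_Cert_tree lc_f_rc_10_3 lc_f_rc_21_1 lc_f_Cert_tree lc_f_Cert_tree lc_f_rc_20_1 lc_f_rc_19_3 lc_f_rc_14_3 lc_f_Cert_tree lc_f_Cert_tree lc_f_Cert_tree lc_f_rc_5_1 lc_f_rc_10_3 lc_f_Cert_tree lc_f_rc_20_1 lc_f_rc_5_3 lc_f_rc_10_3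 lc_f_Cert_tree lc_f_rc_21_1 lc_f_rc_5_1 lc_f_rc_21_1 lc_f_rc_17_3 lc_f_rc_21_1 lc_f_Cert_tree lc_f_rc_20_1 lc_f_rc_17_3 lc_f_Cert_tree lc_f_rc_17_3 lc_f_Cert_tree lc_f_rc_20_1 lc_f_rc_17_3 lc_f_rc_14_3 lc_f_rc_21_1 lc_f_rc_19_3 lc_f_rc_20_1 lc_f_rc_5_3 lc_f_rc_17_3 lc_f_rc_5_3 lc_f_rc_14_3 lc_f_rc_21_1 lc_f_rc_21_1 lc_f_rc_14_3) (@D3.rec (fun _ => (Cert rels S Gen.f)) lc_f_rc_10_3 lc_f_Cert_tree lc_f_rc_17_3 lc_f_Cert_tree lc_f_rc_14_3 lc_f_rc_21_1 lc_f_Cert_tree lc_f_Cert_tree lc_f_rc_20_1 lc_f_rc_19_3 lc_f_rc_14_3 lc_f_rc_5_3 lc_f_rc_10_3 lc_f_rc_5_1 lc_f_rc_14_1 lc_f_rc_5_1 lc_f_rc_20_1 lc_f_rc_20_1 lc_f_rc_17_3 lc_f_rc_19_3 lc_f_rc_22_1 lc_f_rc_19_5 lc_f_rc_19_3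 lc_f_rc_20_1 lc_f_rc_14_3 lc_f_rc_10_3 lc_f_rc_17_3 lc_f_rc_10_3 lc_f_rc_21_1 lc_f_Cert_tree lc_f_rc_17_3 lc_f_rc_21_1 lc_f_rc_20_1 lc_f_rc_10_3 lc_f_rc_17_3 lc_f_Cert_tree lc_f_rc_20_1 lc_f_rc_21_1 lc_f_Cert_tree lc_f_Cert_tree lc_f_rc_21_1 lc_f_rc_5_1 lc_f_rc_17_1 lc_f_rc_20_1 lc_f_rc_14_3 lc_f_rc_10_3 lc_f_Cert_tree lc_f_rc_19_3 lc_f_rc_20_1 lc_f_rc_21_1 lc_f_rc_14_3 lc_f_rc_14_3 lc_f_rc_17_3 lc_f_rc_21_1 lc_f_rc_19_5 lc_f_Cert_tree lc_f_rc_20_1 lc_f_rc_10_3 lc_f_rc_14_3 lc_f_rc_5_1 lc_f_rc_10_3 lc_f_rc_10_1) (@D3.rec (fun _ => (Cert rels S Gen.f)) lc_f_rc_10_3 lc_f_rc_17_3 lc_f_Cert_tree lc_f_rc_19_5 lc_f_rc_17_3 lc_f_Cert_tree lc_f_rc_5_1 lc_f_rc_20_1 lc_f_rc_20_1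 lc_f_rc_10_3 lc_f_rc_10_3 lc_f_rc_10_3 lc_f_rc_22_1 lc_f_rc_14_3 lc_f_Cert_tree lc_f_Cert_tree lc_f_rc_14_3 lc_f_rc_21_1 lc_f_Cert_tree lc_f_rc_20_1 lc_f_rc_5_1 lc_f_rc_5_1 lc_f_rc_17_3 lc_f_rc_10_3 lc_f_Cert_tree lc_f_rc_17_3 lc_f_Cert_tree lc_f_rc_19_5 lc_f_rc_19_3 lc_f_rc_20_1 lc_f_rc_17_3 lc_f_rc_14_3 lc_f_rc_20_1 lc_f_rc_22_1 lc_f_Cert_tree lc_f_Cert_tree lc_f_Cert_tree lc_f_rc_20_1 lc_f_rc_10_3 lc_f_rc_10_3 lc_f_rc_5_3 lc_f_rc_10_3 lc_f_rc_19_3 lc_f_rc_17_3 lc_f_rc_14_3 lc_f_rc_17_3 lc_f_rc_10_3 lc_f_rc_19_3 lc_f_rc_17_3 lc_f_rc_17_3 lc_f_rc_17_3 lc_f_rc_14_3 lc_f_rc_5_3 lc_f_rc_10_3 lc_f_Cert_tree lc_f_Cert_tree lc_f_rc_17_3 lc_f_rc_5_3 lc_f_rc_20_1 lc_f_rc_5_3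 lc_f_Cert_tree lc_f_rc_10_3) (@D3.rec (fun _ => (Cert rels S Gen.f)) lc_f_rc_20_1 lc_f_rc_20_1 lc_f_rc_20_1 lc_f_rc_17_1 lc_f_rc_19_3 lc_f_rc_17_3 lc_f_rc_5_1 lc_f_rc_20_1 lc_f_Cert_tree lc_f_Cert_tree lc_f_rc_20_1 lc_f_rc_19_3 lc_f_rc_19_3 lc_f_Cert_tree lc_f_rc_10_3 lc_f_Cert_tree lc_f_rc_10_3 lc_f_Cert_tree lc_f_rc_21_1 lc_f_rc_21_1 lc_f_rc_20_1 lc_f_rc_19_1 lc_f_rc_21_1 lc_f_rc_17_3 lc_f_rc_17_1 lc_f_Cert_tree lc_f_Cert_tree lc_f_rc_10_3 lc_f_rc_10_3 lc_f_Cert_tree lc_f_rc_20_1 lc_f_rc_21_1 lc_f_rc_17_3 lc_f_Cert_tree lc_f_rc_20_1 lc_f_rc_21_1 lc_f_rc_21_1 lc_f_Cert_tree lc_f_rc_14_3 lc_f_rc_14_3 lc_f_rc_20_1 lc_f_rc_14_3 lc_f_rc_20_1 lc_f_rc_17_3 lc_f_rc_20_1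 lc_f_Cert_tree lc_f_rc_20_1 lc_f_rc_21_1 lc_f_Cert_tree lc_f_rc_10_3 lc_f_Cert_tree lc_f_Cert_tree lc_f_rc_20_1 lc_f_rc_17_3 lc_f_rc_17_3 lc_f_rc_17_3 lc_f_rc_20_1 lc_f_rc_21_1 lc_f_rc_14_3 lc_f_rc_20_1 lc_f_rc_14_3 lc_f_rc_20_1) (@D3.rec (fun _ => (Cert rels S Gen.f)) lc_f_rc_17_3 lc_f_rc_14_3 lc_f_Cert_tree lc_f_rc_20_1 lc_f_rc_10_3 lc_f_rc_21_1 lc_f_rc_19_5 lc_f_rc_17_3 lc_f_rc_20_1 lc_f_rc_10_3 lc_f_rc_21_1 lc_f_rc_19_5 lc_f_rc_17_3 lc_f_rc_20_1 lc_f_rc_14_3 lc_f_rc_17_3 lc_f_Cert_tree lc_f_rc_14_3 lc_f_Cert_tree lc_f_Cert_tree lc_f_rc_20_1 lc_f_rc_21_1 lc_f_Cert_tree lc_f_rc_20_1 lc_f_rc_17_3 lc_f_rc_17_3 lc_f_Cert_tree lc_f_rc_20_1 lc_f_rc_21_1 lc_f_Cert_tree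 lc_f_rc_21_1 lc_f_rc_17_3 lc_f_rc_21_1 lc_f_rc_20_1 lc_f_rc_10_3 lc_f_rc_17_3 lc_f_rc_19_1 lc_f_rc_14_3 lc_f_rc_10_3 lc_f_Cert_tree lc_f_rc_21_1 lc_f_Cert_tree lc_f_Cert_tree lc_f_Cert_tree lc_f_rc_20_1 lc_f_rc_19_3 lc_f_rc_14_3 lc_f_Cert_tree lc_f_rc_5_1 lc_f_rc_10_3 lc_f_rc_20_1 lc_f_Cert_tree lc_f_rc_21_1 lc_f_rc_5_1 lc_f_Cert_tree lc_f_rc_20_1 lc_f_Cert_tree lc_f_rc_20_1 lc_f_rc_19_3 lc_f_rc_17_3 lc_f_rc_10_3 lc_f_rc_17_3) (@D3.rec (fun _ => (Cert rels S Gen.f)) lc_f_rc_10_3 lc_f_rc_10_3 lc_f_rc_20_1 lc_f_Cert_tree lc_f_rc_19_5 lc_f_rc_14_3 lc_f_Cert_tree lc_f_rc_20_1 lc_f_rc_10_3 lc_f_rc_17_3 lc_f_rc_14_3 lc_f_rc_17_3 lc_f_rc_19_5 lc_f_rc_17_3 lc_f_rc_17_1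 lc_f_Cert_tree lc_f_rc_20_1 lc_f_rc_14_3 lc_f_rc_20_1 lc_f_rc_10_3 lc_f_rc_17_3 lc_f_rc_17_3 lc_f_rc_17_3 lc_f_rc_14_3 lc_f_rc_10_3 lc_f_rc_21_1 lc_f_rc_19_5 lc_f_rc_21_1 lc_f_rc_19_5 lc_f_rc_17_3 lc_f_rc_14_3 lc_f_rc_10_3 lc_f_rc_14_3 lc_f_rc_17_3 lc_f_rc_14_3 lc_f_rc_14_3 lc_f_Cert_tree lc_f_Cert_tree lc_f_rc_20_1 lc_f_rc_10_3 lc_f_rc_21_1 lc_f_rc_21_1 lc_f_rc_19_5 lc_f_rc_17_3 lc_f_rc_17_1 lc_f_rc_17_3 lc_f_rc_20_1 lc_f_rc_19_3 lc_f_rc_14_3 lc_f_Cert_tree lc_f_rc_20_1 lc_f_rc_10_3 lc_f_rc_17_3 lc_f_rc_10_3 lc_f_rc_21_1 lc_f_rc_19_5 lc_f_rc_17_3 lc_f_rc_17_1 lc_f_Cert_tree lc_f_rc_20_1 lc_f_rc_10_3 lc_f_rc_17_3) (@D3.rec (fun _ => (Cert rels S Gen.f)) lc_f_rc_17_3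 lc_f_rc_17_3 lc_f_rc_14_3 lc_f_rc_21_1 lc_f_rc_21_1 lc_f_rc_19_5 lc_f_rc_10_3 lc_f_rc_21_1 lc_f_rc_19_5 lc_f_rc_21_1 lc_f_rc_19_5 lc_f_rc_14_3 lc_f_rc_17_3 lc_f_rc_17_1 lc_f_rc_14_3 lc_f_rc_19_3 lc_f_rc_14_3 lc_f_rc_14_3 lc_f_rc_14_3 lc_f_Cert_tree lc_f_rc_20_1 lc_f_rc_14_3 lc_f_rc_14_3 lc_f_rc_10_3 lc_f_rc_17_3 lc_f_rc_10_3 lc_f_Cert_tree lc_f_rc_21_1 lc_f_rc_19_5 lc_f_Cert_tree lc_f_rc_20_1 lc_f_rc_17_3 lc_f_rc_17_1 lc_f_Cert_tree lc_f_rc_20_1 lc_f_rc_14_3 lc_f_rc_5_3 lc_f_rc_14_3 lc_f_Cert_tree lc_f_rc_17_3 lc_f_rc_14_3 lc_f_Cert_tree lc_f_rc_14_3 lc_f_rc_21_1 lc_f_Cert_tree lc_f_rc_20_1 lc_f_rc_17_3 lc_f_rc_17_1 lc_f_Cert_tree lc_f_rc_20_1 lc_f_Cert_tree lc_f_Cert_tree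 lc_f_rc_20_1 lc_f_Cert_tree lc_f_rc_20_1 lc_f_Cert_tree lc_f_rc_19_3 lc_f_Cert_tree lc_f_rc_20_1 lc_f_Cert_tree lc_f_rc_14_3 lc_f_rc_19_5) (@D3.rec (fun _ => (Cert rels S Gen.f)) lc_f_Cert_tree lc_f_rc_20_1 lc_f_rc_14_1 lc_f_rc_10_1 lc_f_rc_10_3 lc_f_Cert_tree lc_f_rc_5_1 lc_f_rc_10_3 lc_f_Cert_tree lc_f_rc_20_1 lc_f_rc_20_1 lc_f_rc_20_1 lc_f_rc_17_3 lc_f_Cert_tree lc_f_rc_19_3 lc_f_rc_21_1 lc_f_rc_19_3 lc_f_Cert_tree lc_f_rc_10_3 lc_f_rc_19_3 lc_f_Cert_tree lc_f_rc_20_1 lc_f_rc_10_3 lc_f_rc_17_3 lc_f_rc_21_1 lc_f_rc_19_5 lc_f_rc_17_3 lc_f_rc_22_1 lc_f_rc_10_3 lc_f_rc_21_1 lc_f_Cert_tree lc_f_rc_20_1 lc_f_rc_20_1 lc_f_rc_20_1 lc_f_rc_17_3 lc_f_Cert_tree lc_f_rc_17_1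 lc_f_rc_17_3 lc_f_rc_5_1 lc_f_Cert_tree lc_f_rc_19_3 lc_f_rc_20_1 lc_f_rc_14_1 lc_f_rc_20_1 lc_f_rc_5_1 lc_f_rc_5_1 lc_f_Cert_tree lc_f_rc_14_3 lc_f_Cert_tree lc_f_rc_17_1 lc_f_rc_20_1 lc_f_rc_10_3 lc_f_rc_21_1 lc_f_rc_14_3 lc_f_Cert_tree lc_f_rc_10_3 lc_f_rc_17_3 lc_f_Cert_tree lc_f_rc_21_1 lc_f_rc_10_3 lc_f_Cert_tree lc_f_rc_14_3) (@D3.rec (fun _ => (Cert rels S Gen.f)) lc_f_rc_20_1 lc_f_rc_19_3 lc_f_rc_20_1 lc_f_rc_14_3 lc_f_rc_5_1 lc_f_Cert_tree lc_f_rc_20_1 lc_f_rc_17_3 lc_f_rc_21_1 lc_f_Cert_tree lc_f_rc_19_3 lc_f_rc_17_1 lc_f_rc_20_1 lc_f_rc_17_1 lc_f_rc_14_3 lc_f_rc_5_1 lc_f_rc_14_3 lc_f_rc_14_3 lc_f_rc_10_3 lc_f_rc_14_3 lc_f_Cert_tree lc_f_rc_10_3 lc_f_rc_5_1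 lc_f_rc_19_3 lc_f_rc_14_3 lc_f_rc_20_1 lc_f_rc_17_3 lc_f_rc_17_1 lc_f_rc_14_3 lc_f_rc_21_1 lc_f_rc_14_3 lc_f_rc_21_1 lc_f_rc_17_3 lc_f_Cert_tree lc_f_rc_14_3 lc_f_Cert_tree lc_f_rc_10_3 lc_f_rc_20_1 lc_f_rc_10_3 lc_f_rc_17_3 lc_f_rc_5_1 lc_f_rc_17_3 lc_f_rc_14_3 lc_f_Cert_tree lc_f_rc_21_1 lc_f_rc_10_3 lc_f_rc_5_1 lc_f_rc_19_3 lc_f_rc_20_1 lc_f_rc_17_3 lc_f_rc_14_3 lc_f_rc_17_3 lc_f_rc_10_3 lc_f_rc_5_1 lc_f_rc_14_1 lc_f_rc_10_3 lc_f_rc_17_3 lc_f_rc_10_3 lc_f_rc_20_1 lc_f_rc_10_3 lc_f_rc_17_3 lc_f_Cert_tree) (@D3.rec (fun _ => (Cert rels S Gen.f)) lc_f_rc_10_3 lc_f_rc_21_1 lc_f_Cert_tree lc_f_Cert_tree lc_f_rc_21_1 lc_f_rc_5_1 lc_f_Cert_tree lc_f_rc_20_1 lc_f_rc_14_3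 lc_f_rc_17_3 lc_f_rc_17_3 lc_f_Cert_tree lc_f_rc_20_1 lc_f_rc_19_3 lc_f_rc_14_3 lc_f_Cert_tree lc_f_rc_10_3 lc_f_Cert_tree lc_f_rc_21_1 lc_f_rc_20_1 lc_f_rc_14_3 lc_f_rc_14_3 lc_f_rc_20_1 lc_f_rc_10_3 lc_f_rc_17_1 lc_f_rc_17_3 lc_f_rc_14_3 lc_f_rc_17_3 lc_f_rc_19_3 lc_f_rc_10_1 lc_f_Cert_tree lc_f_rc_5_1 lc_f_rc_14_3 lc_f_Cert_tree lc_f_rc_20_1 lc_f_rc_20_1 lc_f_rc_20_1 lc_f_rc_10_3 lc_f_rc_5_1 lc_f_rc_5_1 lc_f_rc_21_1 lc_f_rc_14_3 lc_f_rc_20_1 lc_f_rc_14_3 lc_f_rc_20_1 lc_f_rc_19_1 lc_f_rc_20_1 lc_f_rc_14_3 lc_f_rc_14_3 lc_f_rc_10_3 lc_f_Cert_tree lc_f_rc_21_1 lc_f_rc_19_3 lc_f_rc_19_3 lc_f_rc_17_1 lc_f_rc_14_3 lc_f_rc_5_3 lc_f_rc_10_3 lc_f_rc_14_3 lc_f_rc_14_3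 lc_f_Cert_tree lc_f_rc_21_1) (@D3.rec (fun _ => (Cert rels S Gen.f)) lc_f_rc_17_1 lc_f_rc_19_3 lc_f_rc_21_1 lc_f_rc_17_3 lc_f_rc_20_1 lc_f_rc_17_3 lc_f_rc_5_1 lc_f_rc_5_3 lc_f_rc_17_3 lc_f_rc_14_3 lc_f_Cert_tree lc_f_rc_14_3 lc_f_rc_5_1 lc_f_Cert_tree lc_f_rc_20_1 lc_f_rc_14_3 lc_f_rc_17_3 lc_f_rc_14_3 lc_f_rc_17_3 lc_f_rc_5_1 lc_f_rc_20_1 lc_f_rc_20_1 lc_f_rc_10_3 lc_f_Cert_tree lc_f_rc_14_3 lc_f_Cert_tree lc_f_rc_20_1 lc_f_rc_17_3 lc_f_rc_17_3 lc_f_rc_5_3 lc_f_rc_14_3 lc_f_rc_17_3 lc_f_Cert_tree lc_f_Cert_tree lc_f_Cert_tree lc_f_rc_20_1 lc_f_rc_5_3 lc_f_rc_20_1 lc_f_rc_5_3 lc_f_Cert_tree lc_f_Cert_tree lc_f_Cert_tree lc_f_rc_20_1 lc_f_rc_20_1 lc_f_rc_5_1 lc_f_rc_20_1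 lc_f_Cert_tree lc_f_rc_5_3 lc_f_rc_21_1 lc_f_rc_17_1 lc_f_rc_10_3 lc_f_Cert_tree lc_f_rc_19_3 lc_f_rc_14_3 lc_f_Cert_tree lc_f_rc_10_3 lc_f_Cert_tree lc_f_rc_21_1 lc_f_rc_20_1 lc_f_rc_20_1 lc_f_rc_21_1 lc_f_rc_14_3) (@D3.rec (fun _ => (Cert rels S Gen.f)) lc_f_rc_17_3 lc_f_rc_14_3 lc_f_rc_17_3 lc_f_rc_21_1 lc_f_rc_10_3 lc_f_rc_10_3 lc_f_rc_20_1 lc_f_rc_20_1 lc_f_Cert_tree lc_f_rc_14_3 lc_f_rc_17_3 lc_f_Cert_tree lc_f_rc_20_1 lc_f_rc_19_3 lc_f_rc_17_3 lc_f_rc_21_1 lc_f_rc_10_3 lc_f_rc_17_3 lc_f_rc_22_1 lc_f_rc_5_1 lc_f_rc_10_3 lc_f_Cert_tree lc_f_rc_20_1 lc_f_rc_5_1 lc_f_rc_10_3 lc_f_rc_10_3 lc_f_rc_14_3 lc_f_rc_10_3 lc_f_rc_17_1 lc_f_rc_19_5 lc_f_rc_5_1 lc_f_rc_21_1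 lc_f_rc_10_3 lc_f_rc_14_1 lc_f_rc_14_3 lc_f_rc_10_3 lc_f_rc_14_3 lc_f_rc_19_3 lc_f_rc_17_3 lc_f_rc_14_3 lc_f_Cert_tree lc_f_Cert_tree lc_f_rc_20_1 lc_f_rc_19_3 lc_f_Cert_tree lc_f_rc_21_1 lc_f_rc_5_1 lc_f_rc_17_1 lc_f_rc_20_1 lc_f_Cert_tree lc_f_rc_19_3 lc_f_rc_17_3 lc_f_rc_19_3 lc_f_rc_14_3 lc_f_Cert_tree lc_f_rc_17_3 lc_f_rc_21_1 lc_f_rc_20_1 lc_f_rc_14_3 lc_f_rc_14_3 lc_f_rc_10_3 lc_f_Cert_tree) (@D3.rec (fun _ => (Cert rels S Gen.f)) lc_f_rc_20_1 lc_f_rc_20_1 lc_f_rc_17_3 lc_f_rc_14_3 lc_f_rc_22_1 lc_f_rc_5_1 lc_f_rc_10_3 lc_f_rc_5_3 lc_f_rc_20_1 lc_f_Cert_tree lc_f_rc_14_1 lc_f_Cert_tree lc_f_rc_20_1 lc_f_rc_20_1 lc_f_rc_14_1 lc_f_rc_20_1 lc_f_rc_17_3 lc_f_rc_17_3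 lc_f_rc_17_3 lc_f_Cert_tree lc_f_Cert_tree lc_f_rc_20_1 lc_f_rc_19_3 lc_f_rc_10_3 lc_f_Cert_tree lc_f_rc_17_3 lc_f_rc_21_1 lc_f_rc_20_1 lc_f_rc_19_1 lc_f_rc_17_3 lc_f_rc_17_3 lc_f_Cert_tree lc_f_rc_17_3 lc_f_Cert_tree lc_f_rc_17_3 lc_f_rc_17_3 lc_f_rc_20_1 lc_f_rc_22_1 lc_f_Cert_tree lc_f_rc_17_1 lc_f_Cert_tree lc_f_rc_21_1 lc_f_Cert_tree lc_f_rc_14_3 lc_f_rc_22_1 lc_f_rc_14_3 lc_f_rc_10_3 lc_f_Cert_tree lc_f_rc_10_3 lc_f_rc_5_1 lc_f_rc_20_1 lc_f_Cert_tree lc_f_rc_10_3 lc_f_Cert_tree lc_f_rc_17_3 lc_f_rc_17_1 lc_f_rc_20_1 lc_f_rc_17_3 lc_f_rc_14_3 lc_f_rc_17_3 lc_f_Cert_tree lc_f_Cert_tree) (@D3.rec (fun _ => (Cert rels S Gen.f)) lc_f_rc_20_1 lc_f_rc_20_1 lc_f_rc_20_1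 lc_f_rc_10_3 lc_f_rc_10_3 lc_f_rc_5_1 lc_f_rc_5_1 lc_f_rc_20_1 lc_f_rc_5_1 lc_f_rc_20_1 lc_f_rc_5_3 lc_f_rc_10_3 lc_f_rc_19_5 lc_f_Cert_tree lc_f_rc_17_3 lc_f_rc_10_3 lc_f_rc_14_1 lc_f_rc_10_1 lc_f_rc_10_3 lc_f_rc_19_1 lc_f_Cert_tree lc_f_rc_17_3 lc_f_rc_10_3 lc_f_rc_14_3 lc_f_rc_14_3 lc_f_rc_17_3 lc_f_Cert_tree lc_f_rc_17_3 lc_f_rc_14_3 lc_f_rc_14_3 lc_f_rc_20_1 lc_f_rc_10_3 lc_f_rc_10_3 lc_f_rc_21_1 lc_f_rc_22_1 lc_f_Cert_tree lc_f_rc_14_3 lc_f_rc_5_1 lc_f_rc_14_3 lc_f_Cert_tree lc_f_rc_19_3 lc_f_rc_21_1 lc_f_Cert_tree lc_f_rc_20_1 lc_f_rc_10_3 lc_f_Cert_tree lc_f_rc_14_3 lc_f_rc_21_1 lc_f_Cert_tree lc_f_rc_20_1 lc_f_rc_10_3 lc_f_rc_17_3 lc_f_rc_14_3 lc_f_rc_21_1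 lc_f_rc_17_3 lc_f_Cert_tree lc_f_rc_20_1 lc_f_rc_5_1 lc_f_rc_10_3 lc_f_rc_5_1 lc_f_rc_5_1 lc_f_rc_10_3) (@D3.rec (fun _ => (Cert rels S Gen.f)) lc_f_rc_22_1 lc_f_rc_22_1 lc_f_rc_10_3 lc_f_Cert_tree lc_f_rc_21_1 lc_f_rc_20_1 lc_f_rc_5_1 lc_f_rc_14_3 lc_f_rc_17_3 lc_f_rc_21_1 lc_f_Cert_tree lc_f_rc_20_1 lc_f_rc_17_3 lc_f_rc_17_3 lc_f_rc_19_3 lc_f_rc_14_1 lc_f_rc_10_3 lc_f_rc_17_3 lc_f_rc_21_1 lc_f_rc_21_1 lc_f_rc_17_3 lc_f_rc_14_3 lc_f_rc_10_3 lc_f_rc_10_3 lc_f_rc_20_1 lc_f_rc_20_1 lc_f_Cert_tree lc_f_rc_21_1 lc_f_rc_10_3 lc_f_rc_22_1 lc_f_rc_10_1 lc_f_rc_21_1 lc_f_rc_10_3 lc_f_Cert_tree lc_f_rc_20_1 lc_f_rc_20_1 lc_f_rc_21_1 lc_f_Cert_tree lc_f_rc_20_1 lc_f_rc_10_3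 lc_f_rc_17_3 lc_f_rc_10_3 lc_f_rc_17_3 lc_f_rc_17_3 lc_f_rc_20_1 lc_f_rc_10_1 lc_f_rc_14_1 lc_f_rc_10_3 lc_f_rc_17_3 lc_f_rc_14_3 lc_f_rc_21_1 lc_f_rc_10_3 lc_f_rc_17_3 lc_f_rc_5_3 lc_f_rc_14_3 lc_f_rc_21_1 lc_f_rc_14_3 lc_f_rc_19_3 lc_f_rc_17_3 lc_f_Cert_tree lc_f_rc_17_3 lc_f_Cert_tree) (@D3.rec (fun _ => (Cert rels S Gen.f)) lc_f_rc_17_3 lc_f_rc_21_1 lc_f_rc_20_1 lc_f_rc_10_3 lc_f_rc_14_3 lc_f_rc_10_3 lc_f_rc_21_1 lc_f_rc_17_3 lc_f_rc_5_1 lc_f_rc_10_3 lc_f_rc_10_3 lc_f_rc_10_3 lc_f_rc_5_1 lc_f_rc_17_3 lc_f_rc_10_3 lc_f_rc_5_1 lc_f_rc_10_3 lc_f_rc_17_3 lc_f_rc_20_1 lc_f_rc_19_5 lc_f_rc_17_3 lc_f_rc_17_3 lc_f_rc_5_1 lc_f_rc_17_3 lc_f_rc_14_3 lc_f_Cert_tree lc_f_rc_17_3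 lc_f_rc_17_3 lc_f_rc_20_1 lc_f_rc_17_3 lc_f_rc_14_3 lc_f_rc_10_3 lc_f_rc_14_3 lc_f_rc_21_1 lc_f_rc_5_3 lc_f_rc_19_5 lc_f_rc_14_3 lc_f_rc_14_3 lc_f_rc_14_3 lc_f_rc_14_3 lc_f_rc_5_1 lc_f_rc_21_1 lc_f_rc_19_3 lc_f_rc_20_1 lc_f_rc_14_3 lc_f_rc_17_3 lc_f_rc_19_3 lc_f_rc_10_3 lc_f_rc_10_3 lc_f_rc_20_1 lc_f_rc_17_1 lc_f_rc_20_1 lc_f_rc_20_1 lc_f_rc_5_3 lc_f_Cert_tree lc_f_rc_20_1 lc_f_rc_14_3 lc_f_rc_19_3 lc_f_rc_19_3 lc_f_rc_5_1 lc_f_rc_20_1 lc_f_rc_17_1) (@D3.rec (fun _ => (Cert rels S Gen.f)) lc_f_rc_19_3 lc_f_rc_17_3 lc_f_rc_14_3 lc_f_rc_14_3 lc_f_rc_5_3 lc_f_rc_19_3 lc_f_rc_17_3 lc_f_rc_20_1 lc_f_rc_21_1 lc_f_rc_14_3 lc_f_Cert_tree lc_f_rc_10_3 lc_f_rc_14_3 lc_f_Cert_tree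 lc_f_rc_20_1 lc_f_rc_20_1 lc_f_Cert_tree lc_f_rc_14_1 lc_f_rc_14_3 lc_f_rc_10_1 lc_f_Cert_tree lc_f_Cert_tree lc_f_rc_20_1 lc_f_rc_21_1 lc_f_rc_20_1 lc_f_rc_20_1 lc_f_rc_19_1 lc_f_rc_20_1 lc_f_rc_21_1 lc_f_rc_17_3 lc_f_rc_10_3 lc_f_rc_14_3 lc_f_Cert_tree lc_f_rc_21_1 lc_f_rc_20_1 lc_f_Cert_tree lc_f_rc_20_1 lc_f_rc_5_3 lc_f_rc_19_3 lc_f_Cert_tree lc_f_rc_21_1 lc_f_rc_20_1 lc_f_Cert_tree lc_f_rc_20_1 lc_f_rc_14_3 lc_f_rc_14_3 lc_f_rc_17_3 lc_f_Cert_tree lc_f_rc_21_1 lc_f_rc_14_3 lc_f_Cert_tree lc_f_rc_20_1 lc_f_rc_10_3 lc_f_rc_21_1 lc_f_rc_5_1 lc_f_rc_21_1 lc_f_rc_10_3 lc_f_rc_14_3 lc_f_rc_21_1 lc_f_rc_5_1 lc_f_rc_19_1 lc_f_rc_21_1) (@D3.rec (fun _ => (Cert rels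 S Gen.f)) lc_f_rc_20_1 lc_f_rc_17_3 lc_f_rc_10_3 lc_f_rc_17_3 lc_f_rc_5_3 lc_f_rc_21_1 lc_f_rc_21_1 lc_f_rc_14_3 lc_f_rc_10_3 lc_f_rc_14_3 lc_f_rc_10_1 lc_f_rc_10_3 lc_f_Cert_tree lc_f_rc_17_3 lc_f_rc_14_3 lc_f_rc_17_3 lc_f_rc_22_1 lc_f_rc_17_3 lc_f_rc_14_3 lc_f_rc_20_1 lc_f_rc_14_3 lc_f_rc_5_3 lc_f_rc_17_3 lc_f_rc_20_1 lc_f_rc_21_1 lc_f_rc_19_5 lc_f_rc_17_3 lc_f_rc_17_3 lc_f_rc_17_3 lc_f_Cert_tree lc_f_Cert_tree lc_f_rc_20_1 lc_f_rc_19_1 lc_f_rc_10_3 lc_f_rc_14_1 lc_f_rc_21_1 lc_f_rc_20_1 lc_f_rc_20_1 lc_f_rc_19_1 lc_f_rc_14_3 lc_f_rc_20_1 lc_f_rc_17_1 lc_f_rc_14_3 lc_f_rc_21_1 lc_f_rc_20_1 lc_f_rc_5_3 lc_f_rc_17_3 lc_f_rc_21_1 lc_f_rc_10_3 lc_f_Cert_tree lc_f_rc_20_1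 lc_f_rc_21_1 lc_f_rc_20_1 lc_f_rc_10_3 lc_f_rc_10_3 lc_f_rc_5_1 lc_f_Cert_tree lc_f_rc_10_3 lc_f_rc_21_1 lc_f_rc_17_1 lc_f_rc_20_1 lc_f_rc_19_5) (@D3.rec (fun _ => (Cert rels S Gen.f)) lc_f_rc_14_3 lc_f_rc_5_1 lc_f_rc_5_1 lc_f_rc_5_1 lc_f_rc_20_1 lc_f_rc_17_1 lc_f_rc_19_3 lc_f_rc_10_3 lc_f_rc_21_1 lc_f_rc_17_3 lc_f_rc_14_3 lc_f_rc_21_1 lc_f_rc_5_1 lc_f_rc_20_1 lc_f_rc_14_3 lc_f_Cert_tree lc_f_rc_19_3 lc_f_rc_21_1 lc_f_rc_5_1 lc_f_rc_10_1 lc_f_rc_10_3 lc_f_rc_19_3 lc_f_rc_22_1 lc_f_rc_14_3 lc_f_rc_14_3 lc_f_rc_21_1 lc_f_rc_5_1 lc_f_rc_22_1 lc_f_Cert_tree lc_f_rc_17_3 lc_f_rc_14_3 lc_f_Cert_tree lc_f_rc_5_1 lc_f_rc_5_1 lc_f_Cert_tree lc_f_rc_14_3 lc_f_rc_14_3 lc_f_rc_20_1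 lc_f_Cert_tree lc_f_rc_5_1 lc_f_rc_10_3 lc_f_rc_20_1 lc_f_rc_14_3 lc_f_rc_21_1 lc_f_rc_17_3 lc_f_rc_20_1 lc_f_rc_20_1 lc_f_rc_17_3 lc_f_rc_10_3 lc_f_rc_14_3 lc_f_rc_19_5 lc_f_rc_17_3 lc_f_rc_19_3 lc_f_rc_10_3 lc_f_rc_14_3 lc_f_rc_10_3 lc_f_rc_10_3 lc_f_rc_20_1 lc_f_rc_21_1 lc_f_Cert_tree lc_f_rc_20_1 lc_f_rc_20_1) (@D3.rec (fun _ => (Cert rels S Gen.f)) lc_f_rc_21_1 lc_f_Cert_tree lc_f_Cert_tree lc_f_Cert_tree lc_f_rc_20_1 lc_f_rc_21_1 lc_f_Cert_tree lc_f_rc_20_1 lc_f_rc_14_1 lc_f_rc_10_3 lc_f_rc_10_1 lc_f_rc_17_1 lc_f_rc_10_3 lc_f_rc_17_1 lc_f_rc_14_3 lc_f_Cert_tree lc_f_rc_21_1 lc_f_rc_14_3 lc_f_rc_21_1 lc_f_rc_17_3 lc_f_rc_14_3 lc_f_Cert_tree lc_f_rc_14_3 lc_f_rc_14_3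 lc_f_rc_10_1 lc_f_Cert_tree lc_f_Cert_tree lc_f_rc_20_1 lc_f_rc_10_3 lc_f_rc_10_3 lc_f_rc_20_1 lc_f_rc_19_1 lc_f_rc_21_1 lc_f_rc_17_3 lc_f_rc_5_3 lc_f_Cert_tree lc_f_rc_14_3 lc_f_rc_21_1 lc_f_rc_20_1 lc_f_rc_17_3 lc_f_rc_14_3 lc_f_rc_14_3 lc_f_rc_10_1 lc_f_rc_17_3 lc_f_rc_14_3 lc_f_rc_14_3 lc_f_rc_21_1 lc_f_rc_19_1 lc_f_rc_10_3 lc_f_rc_10_3 lc_f_rc_5_1 lc_f_rc_19_1 lc_f_rc_14_1 lc_f_rc_5_3 lc_f_rc_21_1 lc_f_rc_17_3 lc_f_rc_10_1 lc_f_rc_20_1 lc_f_rc_10_3 lc_f_rc_10_3 lc_f_rc_10_3 lc_f_rc_17_3) (@D3.rec (fun _ => (Cert rels S Gen.f)) lc_f_rc_14_3 lc_f_rc_14_3 lc_f_Cert_tree lc_f_rc_5_3 lc_f_rc_17_3 lc_f_rc_5_3 lc_f_rc_14_3 lc_f_rc_17_3 lc_f_rc_21_1 lc_f_rc_21_1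 lc_f_Cert_tree lc_f_rc_19_3 lc_f_Cert_tree lc_f_rc_10_3 lc_f_rc_21_1 lc_f_rc_5_1 lc_f_rc_20_1 lc_f_rc_17_3 lc_f_rc_14_3 lc_f_Cert_tree lc_f_rc_21_1 lc_f_rc_20_1 lc_f_rc_10_1 lc_f_rc_14_3 lc_f_rc_14_3 lc_f_rc_17_3 lc_f_Cert_tree lc_f_rc_10_3 lc_f_rc_10_3 lc_f_rc_10_3 lc_f_rc_20_1 lc_f_rc_14_3 lc_f_rc_14_3 lc_f_rc_5_1 lc_f_rc_14_3 lc_f_rc_10_3 lc_f_rc_21_1 lc_f_Cert_tree lc_f_rc_20_1 lc_f_rc_20_1 lc_f_rc_21_1 lc_f_rc_10_3 lc_f_rc_17_3 lc_f_rc_21_1 lc_f_rc_5_3 lc_f_rc_5_3 lc_f_rc_10_3 lc_f_rc_19_5 lc_f_rc_5_3 lc_f_rc_17_1 lc_f_Cert_tree lc_f_rc_20_1 lc_f_rc_21_1 lc_f_rc_5_3 lc_f_rc_10_3 lc_f_rc_10_3 lc_f_rc_20_1 lc_f_rc_17_1 lc_f_rc_10_3 lc_f_rc_5_3 lc_f_rc_17_3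 lc_f_rc_14_3) (@D3.rec (fun _ => (Cert rels S Gen.f)) lc_f_rc_21_1 lc_f_rc_21_1 lc_f_Cert_tree lc_f_rc_14_3 lc_f_rc_20_1 lc_f_rc_10_3 lc_f_rc_10_3 lc_f_rc_17_3 lc_f_rc_14_3 lc_f_rc_14_3 lc_f_Cert_tree lc_f_rc_17_3 lc_f_rc_19_3 lc_f_Cert_tree lc_f_rc_17_1 lc_f_rc_17_3 lc_f_rc_14_3 lc_f_rc_14_3 lc_f_rc_17_3 lc_f_rc_14_3 lc_f_Cert_tree lc_f_rc_14_3 lc_f_rc_14_3 lc_f_rc_14_3 lc_f_Cert_tree lc_f_rc_21_1 lc_f_rc_10_3 lc_f_Cert_tree lc_f_rc_20_1 lc_f_rc_20_1 lc_f_rc_21_1 lc_f_rc_17_1 lc_f_Cert_tree lc_f_rc_20_1 lc_f_rc_20_1 lc_f_rc_10_3 lc_f_rc_17_1 lc_f_rc_21_1 lc_f_rc_14_1 lc_f_rc_20_1 lc_f_rc_21_1 lc_f_rc_21_1 lc_f_rc_20_1 lc_f_rc_19_3 lc_f_rc_17_3 lc_f_rc_21_1 lc_f_rc_21_1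 lc_f_rc_21_1 lc_f_rc_17_3 lc_f_rc_14_3 lc_f_Cert_tree lc_f_rc_21_1 lc_f_rc_14_3 lc_f_rc_17_3 lc_f_Cert_tree lc_f_rc_10_3 lc_f_rc_20_1 lc_f_rc_20_1 lc_f_rc_10_3 lc_f_rc_21_1 lc_f_rc_5_3 lc_f_rc_17_3) (@D3.rec (fun _ => (Cert rels S Gen.f)) lc_f_rc_17_3 lc_f_rc_20_1 lc_f_rc_22_1 lc_f_rc_14_3 lc_f_rc_21_1 lc_f_rc_22_1 lc_f_rc_21_1 lc_f_rc_17_3 lc_f_rc_17_3 lc_f_rc_5_1 lc_f_rc_14_3 lc_f_rc_5_1 lc_f_rc_21_1 lc_f_rc_10_3 lc_f_rc_21_1 lc_f_rc_21_1 lc_f_rc_17_3 lc_f_rc_14_3 lc_f_rc_14_3 lc_f_Cert_tree lc_f_rc_17_3 lc_f_rc_21_1 lc_f_rc_21_1 lc_f_rc_21_1 lc_f_rc_21_1 lc_f_rc_17_1 lc_f_rc_22_1 lc_f_Cert_tree lc_f_rc_14_3 lc_f_rc_20_1 lc_f_rc_5_1 lc_f_rc_5_1 lc_f_Cert_tree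 lc_f_rc_14_3 lc_f_rc_14_3 lc_f_rc_22_1 lc_f_Cert_tree lc_f_rc_5_1 lc_f_rc_10_3 lc_f_rc_20_1 lc_f_rc_10_3 lc_f_rc_17_1 lc_f_rc_19_3 lc_f_rc_20_1 lc_f_rc_17_3 lc_f_rc_10_3 lc_f_rc_14_3 lc_f_rc_17_3 lc_f_rc_14_3 lc_f_rc_17_1 lc_f_rc_5_3 lc_f_rc_17_3 lc_f_rc_5_1 lc_f_rc_17_3 lc_f_rc_5_1 lc_f_rc_5_1 lc_f_Cert_tree lc_f_rc_21_1 lc_f_rc_5_1 lc_f_rc_5_3 lc_f_rc_19_3 lc_f_rc_22_1) (@D3.rec (fun _ => (Cert rels S Gen.f)) lc_f_rc_22_1 lc_f_rc_10_3 lc_f_rc_21_1 lc_f_rc_19_3 lc_f_rc_17_3 lc_f_rc_14_3 lc_f_rc_17_3 lc_f_rc_20_1 lc_f_rc_14_3 lc_f_rc_17_3 lc_f_rc_14_3 lc_f_rc_5_1 lc_f_rc_17_3 lc_f_rc_14_3 lc_f_Cert_tree lc_f_rc_5_1 lc_f_rc_5_1 lc_f_rc_20_1 lc_f_rc_14_1 lc_f_rc_14_3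 lc_f_rc_22_1 lc_f_rc_17_3 lc_f_rc_17_3 lc_f_rc_17_3 lc_f_rc_10_3 lc_f_rc_21_1 lc_f_rc_21_1 lc_f_rc_14_3 lc_f_rc_14_3 lc_f_Cert_tree lc_f_rc_17_3 lc_f_rc_20_1 lc_f_rc_17_3 lc_f_rc_5_3 lc_f_rc_10_3 lc_f_rc_17_3 lc_f_rc_10_3 lc_f_rc_14_3 lc_f_Cert_tree lc_f_rc_19_3 lc_f_rc_17_3 lc_f_rc_14_3 lc_f_rc_21_1 lc_f_Cert_tree lc_f_rc_20_1 lc_f_rc_20_1 lc_f_rc_17_3 lc_f_rc_14_1 lc_f_Cert_tree lc_f_rc_20_1 lc_f_rc_19_3 lc_f_rc_14_3 lc_f_rc_5_1 lc_f_rc_10_3 lc_f_rc_17_3 lc_f_Cert_tree lc_f_rc_5_1 lc_f_rc_20_1 lc_f_rc_17_1 lc_f_rc_19_3 lc_f_rc_14_3 lc_f_rc_22_1) (@D3.rec (fun _ => (Cert rels S Gen.f)) lc_f_rc_17_3 lc_f_rc_10_3 lc_f_rc_14_1 lc_f_rc_17_3 lc_f_rc_14_3 lc_f_rc_5_1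 lc_f_rc_17_3 lc_f_rc_10_3 lc_f_rc_17_3 lc_f_rc_22_1 lc_f_rc_21_1 lc_f_rc_17_3 lc_f_rc_14_3 lc_f_rc_14_3 lc_f_rc_17_3 lc_f_rc_14_3 lc_f_rc_17_3 lc_f_rc_14_3 lc_f_rc_20_1 lc_f_rc_10_3 lc_f_rc_17_1 lc_f_Cert_tree lc_f_rc_20_1 lc_f_rc_20_1 lc_f_rc_20_1 lc_f_rc_17_1 lc_f_rc_14_3 lc_f_Cert_tree lc_f_rc_14_3 lc_f_rc_21_1 lc_f_rc_10_3 lc_f_rc_17_3 lc_f_Cert_tree lc_f_rc_5_1 lc_f_rc_10_3 lc_f_rc_20_1 lc_f_rc_17_3 lc_f_rc_14_3 lc_f_Cert_tree lc_f_rc_10_3 lc_f_rc_17_3 lc_f_Cert_tree lc_f_rc_19_3 lc_f_Cert_tree lc_f_rc_20_1 lc_f_rc_20_1 lc_f_rc_21_1 lc_f_rc_20_1 lc_f_Cert_tree lc_f_rc_10_3 lc_f_rc_17_3 lc_f_rc_14_3 lc_f_Cert_tree lc_f_rc_14_1 lc_f_rc_5_3 lc_f_rc_22_1 lc_f_Cert_tree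 lc_f_rc_17_3 lc_f_rc_17_3 lc_f_rc_5_3 lc_f_Cert_tree lc_f_rc_20_1) (@D3.rec (fun _ => (Cert rels S Gen.f)) lc_f_rc_14_3 lc_f_rc_14_3 lc_f_Cert_tree lc_f_rc_20_1 lc_f_rc_19_1 lc_f_rc_20_1 lc_f_rc_20_1 lc_f_rc_10_3 lc_f_rc_17_3 lc_f_rc_20_1 lc_f_rc_20_1 lc_f_rc_21_1 lc_f_rc_19_5 lc_f_rc_19_1 lc_f_rc_17_3 lc_f_rc_21_1 lc_f_rc_17_3 lc_f_rc_19_1 lc_f_rc_14_3 lc_f_rc_20_1 lc_f_rc_20_1 lc_f_rc_5_3 lc_f_rc_14_3 lc_f_rc_17_3 lc_f_Cert_tree lc_f_rc_14_3 lc_f_rc_14_3 lc_f_rc_19_3 lc_f_Cert_tree lc_f_rc_10_3 lc_f_rc_20_1 lc_f_rc_20_1 lc_f_rc_10_1 lc_f_rc_17_3 lc_f_rc_17_3 lc_f_rc_21_1 lc_f_rc_17_3 lc_f_Cert_tree lc_f_rc_21_1 lc_f_rc_14_3 lc_f_rc_19_3 lc_f_Cert_tree lc_f_rc_21_1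 lc_f_rc_20_1 lc_f_Cert_tree lc_f_rc_20_1 lc_f_rc_17_3 lc_f_rc_21_1 lc_f_rc_21_1 lc_f_rc_20_1 lc_f_rc_20_1 lc_f_rc_20_1 lc_f_rc_20_1 lc_f_rc_17_3 lc_f_rc_14_3 lc_f_rc_20_1 lc_f_Cert_tree lc_f_rc_10_3 lc_f_rc_21_1 lc_f_Cert_tree lc_f_rc_20_1 lc_f_rc_20_1) (@D3.rec (fun _ => (Cert rels S Gen.f)) lc_f_rc_5_3 lc_f_rc_10_3 lc_f_rc_21_1 lc_f_rc_20_1 lc_f_rc_21_1 lc_f_rc_5_3 lc_f_rc_14_3 lc_f_rc_17_3 lc_f_rc_20_1 lc_f_rc_10_3 lc_f_rc_21_1 lc_f_rc_10_3 lc_f_rc_20_1 lc_f_rc_19_1 lc_f_rc_20_1 lc_f_rc_22_1 lc_f_rc_20_1 lc_f_rc_5_3 lc_f_rc_22_1 lc_f_rc_10_3 lc_f_Cert_tree lc_f_rc_21_1 lc_f_rc_10_3 lc_f_Cert_tree lc_f_rc_20_1 lc_f_rc_5_1 lc_f_rc_5_1 lc_f_Cert_tree lc_f_rc_20_1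 lc_f_Cert_tree lc_f_rc_20_1 lc_f_rc_17_3 lc_f_rc_19_5 lc_f_rc_14_3 lc_f_rc_14_3 lc_f_rc_14_3 lc_f_rc_14_3 lc_f_rc_17_3 lc_f_rc_14_3 lc_f_rc_20_1 lc_f_Cert_tree lc_f_rc_19_3 lc_f_rc_19_5 lc_f_Cert_tree lc_f_rc_20_1 lc_f_rc_21_1 lc_f_rc_10_3 lc_f_rc_14_1 lc_f_rc_20_1 lc_f_rc_14_3 lc_f_rc_19_5 lc_f_rc_20_1 lc_f_rc_21_1 lc_f_rc_10_3 lc_f_rc_17_3 lc_f_rc_10_1 lc_f_rc_21_1 lc_f_rc_21_1 lc_f_Cert_tree lc_f_Cert_tree lc_f_rc_20_1 lc_f_rc_21_1) (@D3.rec (fun _ => (Cert rels S Gen.f)) lc_f_rc_10_3 lc_f_rc_10_1 lc_f_rc_20_1 lc_f_Cert_tree lc_f_rc_17_3 lc_f_Cert_tree lc_f_rc_20_1 lc_f_rc_10_3 lc_f_Cert_tree lc_f_rc_10_3 lc_f_Cert_tree lc_f_rc_20_1 lc_f_rc_10_3 lc_f_rc_20_1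 lc_f_Cert_tree lc_f_rc_20_1 lc_f_rc_10_3 lc_f_rc_10_3 lc_f_rc_21_1 lc_f_Cert_tree lc_f_rc_20_1 lc_f_rc_21_1 lc_f_Cert_tree lc_f_Cert_tree lc_f_Cert_tree lc_f_rc_10_1 lc_f_rc_20_1 lc_f_rc_19_3 lc_f_rc_14_3 lc_f_Cert_tree lc_f_Cert_tree lc_f_rc_20_1 lc_f_rc_21_1 lc_f_Cert_tree lc_f_rc_17_3 lc_f_Cert_tree lc_f_rc_19_3 lc_f_rc_10_3 lc_f_rc_21_1 lc_f_rc_19_5 lc_f_rc_17_3 lc_f_rc_10_3 lc_f_rc_10_3 lc_f_rc_17_1 lc_f_Cert_tree lc_f_rc_20_1 lc_f_rc_19_3 lc_f_rc_19_5 lc_f_Cert_tree lc_f_rc_20_1 lc_f_rc_19_3 lc_f_rc_10_3 lc_f_rc_17_3 lc_f_rc_21_1 lc_f_rc_20_1 lc_f_rc_17_3 lc_f_rc_17_3 lc_f_rc_10_3 lc_f_Cert_tree lc_f_rc_20_1 lc_f_Cert_tree lc_f_rc_20_1) (@D3.rec (fun _ =>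 (Cert rels S Gen.f)) lc_f_Cert_tree lc_f_Cert_tree lc_f_rc_20_1 lc_f_rc_21_1 lc_f_Cert_tree lc_f_rc_20_1 lc_f_rc_17_3 lc_f_rc_21_1 lc_f_Cert_tree lc_f_rc_20_1 lc_f_rc_20_1 lc_f_rc_21_1 lc_f_Cert_tree lc_f_rc_19_3 lc_f_rc_17_3 lc_f_Cert_tree lc_f_rc_21_1 lc_f_rc_17_3 lc_f_Cert_tree lc_f_rc_20_1 lc_f_rc_21_1 lc_f_Cert_tree lc_f_rc_10_3 lc_f_rc_21_1 lc_f_rc_19_3 lc_f_rc_10_3 lc_f_rc_17_1 lc_f_rc_20_1 lc_f_rc_21_1 lc_f_rc_17_3 lc_f_Cert_tree lc_f_rc_14_3 lc_f_rc_10_3 lc_f_rc_17_1 lc_f_rc_20_1 lc_f_rc_20_1 lc_f_rc_17_3 lc_f_rc_19_3 lc_f_rc_17_3 lc_f_rc_21_1 lc_f_rc_17_1 lc_f_Cert_tree lc_f_rc_20_1 lc_f_rc_14_3 lc_f_rc_10_3 lc_f_rc_20_1 lc_f_rc_10_3 lc_f_Cert_tree lc_f_rc_21_1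 lc_f_rc_10_3 lc_f_Cert_tree lc_f_rc_20_1 lc_f_rc_17_3 lc_f_rc_5_1 lc_f_Cert_tree lc_f_rc_20_1 lc_f_rc_21_1 lc_f_rc_21_1 lc_f_rc_19_5 lc_f_rc_19_5 lc_f_rc_14_3 lc_f_rc_17_1) (@D3.rec (fun _ => (Cert rels S Gen.f)) lc_f_rc_14_3 lc_f_rc_21_1 lc_f_rc_17_3 lc_f_rc_14_3 lc_f_rc_17_3 lc_f_rc_5_1 lc_f_Cert_tree lc_f_Cert_tree lc_f_rc_20_1 lc_f_rc_14_3 lc_f_rc_17_3 lc_f_rc_10_3 lc_f_rc_20_1 lc_f_Cert_tree lc_f_rc_19_3 lc_f_rc_21_1 lc_f_Cert_tree lc_f_rc_20_1 lc_f_rc_14_3 lc_f_rc_17_3 lc_f_rc_5_1 lc_f_rc_10_3 lc_f_rc_10_3 lc_f_rc_5_1 lc_f_Cert_tree lc_f_rc_20_1 lc_f_rc_17_3 lc_f_rc_17_3 lc_f_rc_14_3 lc_f_rc_17_3 lc_f_rc_14_3 lc_f_rc_21_1 lc_f_rc_19_3 lc_f_Cert_tree lc_f_Cert_tree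 lc_f_rc_20_1 lc_f_rc_19_3 lc_f_rc_17_3 lc_f_Cert_tree lc_f_rc_5_1 lc_f_Cert_tree lc_f_rc_20_1 lc_f_Cert_tree lc_f_Cert_tree lc_f_rc_5_1 lc_f_Cert_tree lc_f_rc_20_1 lc_f_rc_19_5 lc_f_rc_14_3 lc_f_Cert_tree lc_f_rc_20_1 lc_f_rc_14_3 lc_f_rc_10_3 lc_f_rc_17_3 lc_f_Cert_tree lc_f_rc_19_3 lc_f_rc_19_3 lc_f_rc_17_3 lc_f_Cert_tree lc_f_rc_10_3 lc_f_rc_10_3 lc_f_Cert_tree) (@D3.rec (fun _ => (Cert rels S Gen.f)) lc_f_rc_20_1 lc_f_rc_14_3 lc_f_rc_19_3 lc_f_rc_19_3 lc_f_rc_17_3 lc_f_Cert_tree lc_f_rc_17_3 lc_f_rc_14_3 lc_f_Cert_tree lc_f_rc_14_3 lc_f_rc_20_1 lc_f_rc_21_1 lc_f_rc_10_3 lc_f_rc_10_3 lc_f_Cert_tree lc_f_rc_14_3 lc_f_Cert_tree lc_f_rc_17_1 lc_f_rc_20_1 lc_f_rc_17_3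 lc_f_rc_17_3 lc_f_Cert_tree lc_f_rc_10_3 lc_f_rc_17_3 lc_f_Cert_tree lc_f_rc_14_3 lc_f_rc_21_1 lc_f_Cert_tree lc_f_rc_17_1 lc_f_rc_20_1 lc_f_rc_19_3 lc_f_rc_21_1 lc_f_rc_21_1 lc_f_rc_19_3 lc_f_rc_17_1 lc_f_rc_10_3 lc_f_rc_17_1 lc_f_rc_20_1 lc_f_rc_14_3 lc_f_rc_20_1 lc_f_rc_20_1 lc_f_Cert_tree lc_f_rc_10_3 lc_f_rc_17_3 lc_f_rc_14_3 lc_f_Cert_tree lc_f_rc_19_3 lc_f_rc_20_1 lc_f_rc_19_5 lc_f_rc_10_3 lc_f_rc_14_3 lc_f_rc_20_1 lc_f_rc_10_3 lc_f_rc_19_3 lc_f_rc_10_3 lc_f_Cert_tree lc_f_rc_14_3 lc_f_Cert_tree lc_f_rc_10_3 lc_f_rc_20_1 lc_f_rc_10_3 lc_f_rc_10_3) (@D3.rec (fun _ => (Cert rels S Gen.f)) lc_f_rc_10_3 lc_f_rc_17_3 lc_f_rc_19_3 lc_f_rc_14_3 lc_f_Cert_tree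 lc_f_rc_20_1 lc_f_rc_17_3 lc_f_Cert_tree lc_f_rc_10_3 lc_f_Cert_tree lc_f_Cert_tree lc_f_Cert_tree lc_f_rc_19_3 lc_f_rc_19_3 lc_f_Cert_tree lc_f_rc_20_1 lc_f_rc_19_5 lc_f_Cert_tree lc_f_rc_20_1 lc_f_rc_21_1 lc_f_Cert_tree lc_f_rc_21_1 lc_f_rc_17_3 lc_f_Cert_tree lc_f_rc_20_1 lc_f_rc_14_3 lc_f_rc_17_3 lc_f_rc_20_1 lc_f_rc_5_1 lc_f_Cert_tree lc_f_rc_20_1 lc_f_rc_10_1 lc_f_Cert_tree lc_f_rc_5_1 lc_f_Cert_tree lc_f_rc_20_1 lc_f_rc_14_3 lc_f_rc_21_1 lc_f_Cert_tree lc_f_rc_20_1 lc_f_rc_17_3 lc_f_Cert_tree lc_f_rc_14_1 lc_f_rc_21_1 lc_f_rc_17_3 lc_f_Cert_tree lc_f_rc_17_3 lc_f_rc_5_1 lc_f_Cert_tree lc_f_rc_20_1 lc_f_rc_10_3 lc_f_rc_10_3 lc_f_rc_17_3 lc_f_Cert_tree lc_f_rc_21_1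 lc_f_rc_17_3 lc_f_rc_21_1 lc_f_Cert_tree lc_f_rc_14_3 lc_f_rc_20_1 lc_f_rc_10_3 lc_f_rc_19_3)
def ce_f_1 : D2 → D3 → (Cert rels S Gen.f) := @D2.rec (fun _ => D3 → (Cert rels S Gen.f)) (@D3.rec (fun _ => (Cert rels S Gen.f)) lc_f_rc_17_3 lc_f_Cert_tree lc_f_rc_14_3 lc_f_Cert_tree lc_f_rc_14_3 lc_f_rc_20_1 lc_f_rc_17_3 lc_f_rc_17_3 lc_f_Cert_tree lc_f_rc_17_3 lc_f_rc_14_3 lc_f_Cert_tree lc_f_rc_17_3 lc_f_rc_14_3 lc_f_rc_17_3 lc_f_rc_19_3 lc_f_rc_10_3 lc_f_rc_5_3 lc_f_rc_17_3 lc_f_Cert_tree lc_f_rc_10_3 lc_f_rc_21_1 lc_f_Cert_tree lc_f_rc_19_3 lc_f_rc_20_1 lc_f_rc_10_3 lc_f_rc_10_3 lc_f_rc_10_3 lc_f_rc_19_3 lc_f_rc_20_1 lc_f_rc_17_3 lc_f_Cert_tree lc_f_rc_14_3 lc_f_rc_17_3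 lc_f_rc_17_1 lc_f_rc_20_1 lc_f_rc_21_1 lc_f_rc_5_3 lc_f_rc_17_3 lc_f_Cert_tree lc_f_rc_14_3 lc_f_Cert_tree lc_f_rc_17_1 lc_f_rc_20_1 lc_f_rc_10_3 lc_f_rc_14_3 lc_f_rc_10_3 lc_f_Cert_tree lc_f_rc_20_1 lc_f_rc_14_3 lc_f_rc_20_1 lc_f_rc_17_3 lc_f_Cert_tree lc_f_rc_20_1 lc_f_Cert_tree lc_f_rc_10_3 lc_f_Cert_tree lc_f_rc_20_1 lc_f_rc_21_1 lc_f_rc_21_1 lc_f_rc_19_5 lc_f_Cert_tree) (@D3.rec (fun _ => (Cert rels S Gen.f)) lc_f_rc_20_1 lc_f_rc_20_1 lc_f_Cert_tree lc_f_rc_20_1 lc_f_Cert_tree lc_f_rc_20_1 lc_f_Cert_tree lc_f_rc_20_1 lc_f_Cert_tree lc_f_rc_5_1 lc_f_rc_10_1 lc_f_rc_21_1 lc_f_Cert_tree lc_f_rc_20_1 lc_f_rc_19_3 lc_f_Cert_tree lc_f_rc_20_1 lc_f_rc_17_3 lc_f_Cert_tree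 lc_f_rc_14_3 lc_f_rc_17_3 lc_f_rc_21_1 lc_f_rc_17_3 lc_f_rc_21_1 lc_f_Cert_tree lc_f_rc_20_1 lc_f_rc_5_3 lc_f_rc_10_3 lc_f_Cert_tree lc_f_rc_17_3 lc_f_rc_14_3 lc_f_rc_19_5 lc_f_rc_19_3 lc_f_rc_20_1 lc_f_rc_21_1 lc_f_rc_5_1 lc_f_rc_19_5 lc_f_rc_17_3 lc_f_rc_14_3 lc_f_Cert_tree lc_f_rc_21_1 lc_f_Cert_tree lc_f_rc_14_3 lc_f_rc_21_1 lc_f_Cert_tree lc_f_Cert_tree lc_f_rc_20_1 lc_f_rc_19_3 lc_f_rc_14_3 lc_f_rc_21_1 lc_f_rc_22_1 lc_f_rc_10_3 lc_f_Cert_tree lc_f_rc_21_1 lc_f_rc_20_1 lc_f_rc_17_3 lc_f_rc_14_3 lc_f_Cert_tree lc_f_rc_21_1 lc_f_rc_20_1 lc_f_rc_20_1 lc_f_rc_17_3) (@D3.rec (fun _ => (Cert rels S Gen.f)) lc_f_rc_10_3 lc_f_rc_21_1 lc_f_Cert_tree lc_f_rc_21_1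 lc_f_rc_17_3 lc_f_rc_20_1 lc_f_rc_17_3 lc_f_Cert_tree lc_f_rc_10_3 lc_f_rc_21_1 lc_f_Cert_tree lc_f_Cert_tree lc_f_rc_21_1 lc_f_rc_5_1 lc_f_Cert_tree lc_f_rc_20_1 lc_f_rc_21_1 lc_f_rc_5_3 lc_f_Cert_tree lc_f_rc_20_1 lc_f_rc_19_3 lc_f_rc_21_1 lc_f_rc_17_3 lc_f_Cert_tree lc_f_rc_10_3 lc_f_Cert_tree lc_f_rc_20_1 lc_f_rc_5_1 lc_f_Cert_tree lc_f_rc_20_1 lc_f_rc_10_3 lc_f_Cert_tree lc_f_rc_20_1 lc_f_rc_21_1 lc_f_rc_10_1 lc_f_Cert_tree lc_f_rc_10_3 lc_f_Cert_tree lc_f_rc_5_1 lc_f_rc_10_3 lc_f_Cert_tree lc_f_rc_20_1 lc_f_rc_5_3 lc_f_Cert_tree lc_f_rc_17_3 lc_f_rc_14_3 lc_f_Cert_tree lc_f_rc_19_3 lc_f_rc_20_1 lc_f_rc_21_1 lc_f_rc_21_1 lc_f_rc_21_1 lc_f_rc_5_1 lc_f_Cert_tree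 lc_f_rc_10_3 lc_f_rc_21_1 lc_f_Cert_tree lc_f_rc_17_3 lc_f_rc_17_3 lc_f_Cert_tree lc_f_rc_14_3 lc_f_rc_14_3) (@D3.rec (fun _ => (Cert rels S Gen.f)) lc_f_Cert_tree lc_f_rc_14_3 lc_f_rc_20_1 lc_f_rc_19_3 lc_f_rc_21_1 lc_f_rc_21_1 lc_f_rc_19_3 lc_f_rc_20_1 lc_f_rc_21_1 lc_f_rc_21_1 lc_f_Cert_tree lc_f_rc_20_1 lc_f_rc_14_3 lc_f_rc_14_3 lc_f_rc_5_1 lc_f_rc_10_3 lc_f_rc_14_3 lc_f_rc_19_5 lc_f_rc_5_1 lc_f_rc_20_1 lc_f_rc_21_1 lc_f_rc_5_3 lc_f_rc_5_3 lc_f_rc_14_3 lc_f_Cert_tree lc_f_rc_10_3 lc_f_rc_17_3 lc_f_rc_14_3 lc_f_rc_14_3 lc_f_rc_10_3 lc_f_rc_17_3 lc_f_rc_5_1 lc_f_rc_10_3 lc_f_rc_20_1 lc_f_rc_17_3 lc_f_rc_20_1 lc_f_Cert_tree lc_f_rc_17_3 lc_f_rc_20_1 lc_f_rc_10_3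 lc_f_rc_17_3 lc_f_Cert_tree lc_f_rc_10_3 lc_f_rc_21_1 lc_f_Cert_tree lc_f_Cert_tree lc_f_rc_10_3 lc_f_rc_5_1 lc_f_Cert_tree lc_f_rc_20_1 lc_f_rc_17_3 lc_f_rc_14_3 lc_f_rc_17_3 lc_f_Cert_tree lc_f_rc_20_1 lc_f_rc_19_3 lc_f_rc_21_1 lc_f_rc_20_1 lc_f_rc_21_1 lc_f_rc_20_1 lc_f_rc_10_3 lc_f_rc_14_3) (@D3.rec (fun _ => (Cert rels S Gen.f)) lc_f_Cert_tree lc_f_rc_17_3 lc_f_rc_5_1 lc_f_rc_21_1 lc_f_rc_14_3 lc_f_rc_17_3 lc_f_rc_19_3 lc_f_rc_17_3 lc_f_rc_20_1 lc_f_rc_17_3 lc_f_rc_19_3 lc_f_Cert_tree lc_f_rc_22_1 lc_f_rc_14_3 lc_f_rc_14_3 lc_f_rc_17_3 lc_f_rc_5_1 lc_f_rc_5_3 lc_f_rc_10_3 lc_f_Cert_tree lc_f_rc_21_1 lc_f_rc_14_3 lc_f_rc_5_3 lc_f_rc_17_3 lc_f_Cert_tree lc_f_Cert_tree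 lc_f_rc_14_3 lc_f_rc_14_3 lc_f_Cert_tree lc_f_rc_20_1 lc_f_rc_14_3 lc_f_rc_5_1 lc_f_rc_17_3 lc_f_rc_14_3 lc_f_rc_20_1 lc_f_rc_10_3 lc_f_Cert_tree lc_f_Cert_tree lc_f_Cert_tree lc_f_rc_20_1 lc_f_rc_17_3 lc_f_rc_5_1 lc_f_rc_5_3 lc_f_rc_14_3 lc_f_rc_17_3 lc_f_Cert_tree lc_f_Cert_tree lc_f_Cert_tree lc_f_rc_20_1 lc_f_rc_5_3 lc_f_rc_20_1 lc_f_Cert_tree lc_f_Cert_tree lc_f_Cert_tree lc_f_Cert_tree lc_f_rc_20_1 lc_f_rc_10_1 lc_f_rc_20_1 lc_f_rc_20_1 lc_f_Cert_tree lc_f_rc_5_3 lc_f_rc_14_3) (@D3.rec (fun _ => (Cert rels S Gen.f)) lc_f_rc_21_1 lc_f_rc_10_3 lc_f_Cert_tree lc_f_rc_19_3 lc_f_rc_14_3 lc_f_Cert_tree lc_f_rc_20_1 lc_f_Cert_tree lc_f_rc_21_1 lc_f_rc_20_1 lc_f_rc_20_1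 lc_f_rc_14_3 lc_f_rc_14_3 lc_f_rc_17_3 lc_f_rc_21_1 lc_f_rc_5_1 lc_f_rc_17_3 lc_f_rc_21_1 lc_f_rc_21_1 lc_f_rc_21_1 lc_f_rc_10_3 lc_f_rc_17_3 lc_f_rc_14_3 lc_f_Cert_tree lc_f_Cert_tree lc_f_rc_20_1 lc_f_rc_17_3 lc_f_rc_10_1 lc_f_rc_14_3 lc_f_Cert_tree lc_f_rc_5_1 lc_f_rc_19_1 lc_f_rc_20_1 lc_f_rc_20_1 lc_f_rc_20_1 lc_f_rc_10_1 lc_f_rc_17_3 lc_f_rc_21_1 lc_f_rc_10_1 lc_f_Cert_tree lc_f_rc_17_3 lc_f_Cert_tree lc_f_rc_17_3 lc_f_rc_17_3 lc_f_rc_20_1 lc_f_rc_17_3 lc_f_rc_17_3 lc_f_rc_5_1 lc_f_rc_14_3 lc_f_rc_17_3 lc_f_Cert_tree lc_f_Cert_tree lc_f_rc_20_1 lc_f_rc_5_1 lc_f_rc_5_1 lc_f_rc_21_1 lc_f_rc_17_3 lc_f_rc_20_1 lc_f_rc_20_1 lc_f_rc_14_3 lc_f_rc_5_3 lc_f_rc_10_3)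 (@D3.rec (fun _ => (Cert rels S Gen.f)) lc_f_rc_21_1 lc_f_rc_22_1 lc_f_Cert_tree lc_f_rc_17_3 lc_f_rc_17_3 lc_f_rc_20_1 lc_f_Cert_tree lc_f_rc_19_3 lc_f_rc_21_1 lc_f_Cert_tree lc_f_rc_20_1 lc_f_rc_14_3 lc_f_rc_21_1 lc_f_Cert_tree lc_f_rc_20_1 lc_f_rc_17_3 lc_f_rc_10_3 lc_f_rc_21_1 lc_f_rc_22_1 lc_f_rc_20_1 lc_f_rc_10_3 lc_f_rc_5_1 lc_f_rc_19_5 lc_f_rc_22_1 lc_f_rc_10_3 lc_f_Cert_tree lc_f_rc_17_1 lc_f_rc_19_3 lc_f_rc_20_1 lc_f_rc_17_3 lc_f_rc_20_1 lc_f_rc_20_1 lc_f_Cert_tree lc_f_Cert_tree lc_f_rc_20_1 lc_f_rc_17_3 lc_f_rc_17_3 lc_f_rc_17_3 lc_f_rc_14_3 lc_f_rc_10_3 lc_f_rc_10_3 lc_f_rc_20_1 lc_f_rc_14_3 lc_f_rc_5_1 lc_f_rc_14_3 lc_f_rc_17_3 lc_f_rc_22_1 lc_f_Cert_tree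 lc_f_rc_21_1 lc_f_rc_22_1 lc_f_rc_20_1 lc_f_rc_20_1 lc_f_rc_21_1 lc_f_Cert_tree lc_f_rc_20_1 lc_f_rc_14_1 lc_f_rc_20_1 lc_f_rc_10_3 lc_f_rc_21_1 lc_f_rc_14_3 lc_f_rc_22_1 lc_f_rc_19_3) (@D3.rec (fun _ => (Cert rels S Gen.f)) lc_f_rc_17_3 lc_f_rc_21_1 lc_f_rc_17_3 lc_f_rc_14_3 lc_f_rc_10_3 lc_f_rc_17_3 lc_f_rc_5_3 lc_f_rc_19_5 lc_f_rc_10_3 lc_f_rc_5_1 lc_f_rc_10_3 lc_f_rc_14_3 lc_f_rc_14_3 lc_f_rc_19_3 lc_f_rc_17_3 lc_f_rc_21_1 lc_f_rc_17_3 lc_f_rc_14_3 lc_f_rc_21_1 lc_f_rc_14_3 lc_f_rc_19_3 lc_f_rc_17_3 lc_f_rc_17_3 lc_f_rc_20_1 lc_f_rc_21_1 lc_f_rc_19_3 lc_f_rc_20_1 lc_f_rc_17_3 lc_f_rc_19_3 lc_f_rc_10_3 lc_f_rc_14_3 lc_f_rc_17_3 lc_f_rc_21_1 lc_f_Cert_tree lc_f_rc_20_1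 lc_f_rc_14_3 lc_f_rc_19_3 lc_f_rc_19_3 lc_f_rc_17_3 lc_f_rc_19_3 lc_f_rc_14_3 lc_f_rc_5_1 lc_f_rc_17_3 lc_f_rc_5_1 lc_f_rc_14_3 lc_f_Cert_tree lc_f_rc_21_1 lc_f_rc_5_1 lc_f_Cert_tree lc_f_rc_17_3 lc_f_rc_14_3 lc_f_Cert_tree lc_f_rc_5_1 lc_f_rc_20_1 lc_f_rc_10_1 lc_f_Cert_tree lc_f_Cert_tree lc_f_rc_20_1 lc_f_rc_21_1 lc_f_rc_17_3 lc_f_rc_20_1 lc_f_rc_19_1) (@D3.rec (fun _ => (Cert rels S Gen.f)) lc_f_rc_20_1 lc_f_rc_21_1 lc_f_rc_17_3 lc_f_rc_5_3 lc_f_rc_19_3 lc_f_Cert_tree lc_f_rc_21_1 lc_f_rc_20_1 lc_f_Cert_tree lc_f_rc_20_1 lc_f_rc_10_3 lc_f_rc_21_1 lc_f_Cert_tree lc_f_rc_21_1 lc_f_rc_20_1 lc_f_Cert_tree lc_f_rc_20_1 lc_f_rc_17_3 lc_f_rc_17_3 lc_f_rc_17_3 lc_f_Cert_tree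 lc_f_rc_21_1 lc_f_rc_14_3 lc_f_Cert_tree lc_f_rc_20_1 lc_f_rc_10_3 lc_f_rc_21_1 lc_f_rc_20_1 lc_f_rc_10_3 lc_f_rc_14_3 lc_f_Cert_tree lc_f_rc_19_1 lc_f_rc_21_1 lc_f_rc_20_1 lc_f_rc_17_3 lc_f_rc_21_1 lc_f_rc_21_1 lc_f_rc_17_1 lc_f_rc_10_3 lc_f_Cert_tree lc_f_rc_19_3 lc_f_Cert_tree lc_f_rc_20_1 lc_f_rc_19_3 lc_f_rc_21_1 lc_f_Cert_tree lc_f_rc_20_1 lc_f_rc_20_1 lc_f_rc_14_3 lc_f_rc_17_3 lc_f_Cert_tree lc_f_rc_19_5 lc_f_rc_19_5 lc_f_rc_17_3 lc_f_Cert_tree lc_f_rc_17_3 lc_f_rc_21_1 lc_f_Cert_tree lc_f_rc_20_1 lc_f_rc_17_3 lc_f_Cert_tree lc_f_rc_17_3) (@D3.rec (fun _ => (Cert rels S Gen.f)) lc_f_Cert_tree lc_f_Cert_tree lc_f_rc_14_3 lc_f_rc_20_1 lc_f_rc_19_3 lc_f_rc_21_1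 lc_f_Cert_tree lc_f_rc_21_1 lc_f_rc_17_3 lc_f_rc_20_1 lc_f_rc_14_3 lc_f_rc_10_3 lc_f_rc_20_1 lc_f_rc_10_3 lc_f_rc_20_1 lc_f_rc_19_3 lc_f_rc_20_1 lc_f_rc_20_1 lc_f_rc_17_3 lc_f_rc_17_3 lc_f_Cert_tree lc_f_rc_20_1 lc_f_rc_17_3 lc_f_Cert_tree lc_f_rc_10_3 lc_f_rc_14_3 lc_f_rc_10_3 lc_f_rc_19_3 lc_f_rc_10_3 lc_f_rc_10_3 lc_f_rc_20_1 lc_f_rc_21_1 lc_f_rc_19_5 lc_f_rc_17_3 lc_f_rc_17_1 lc_f_rc_20_1 lc_f_rc_14_3 lc_f_rc_21_1 lc_f_rc_14_3 lc_f_rc_14_3 lc_f_Cert_tree lc_f_Cert_tree lc_f_rc_14_3 lc_f_Cert_tree lc_f_rc_20_1 lc_f_Cert_tree lc_f_rc_10_3 lc_f_Cert_tree lc_f_rc_20_1 lc_f_rc_10_3 lc_f_rc_21_1 lc_f_Cert_tree lc_f_rc_20_1 lc_f_rc_14_3 lc_f_rc_10_3 lc_f_rc_17_3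 lc_f_Cert_tree lc_f_rc_21_1 lc_f_rc_21_1 lc_f_rc_21_1 lc_f_rc_14_3 lc_f_rc_10_3) (@D3.rec (fun _ => (Cert rels S Gen.f)) lc_f_rc_5_1 lc_f_Cert_tree lc_f_rc_20_1 lc_f_rc_21_1 lc_f_Cert_tree lc_f_rc_17_3 lc_f_Cert_tree lc_f_Cert_tree lc_f_rc_14_3 lc_f_rc_20_1 lc_f_rc_19_3 lc_f_rc_17_1 lc_f_rc_17_3 lc_f_rc_14_3 lc_f_rc_21_1 lc_f_rc_19_5 lc_f_rc_19_3 lc_f_rc_20_1 lc_f_rc_17_3 lc_f_rc_21_1 lc_f_rc_5_1 lc_f_rc_10_3 lc_f_rc_19_1 lc_f_rc_17_3 lc_f_rc_14_3 lc_f_rc_10_3 lc_f_Cert_tree lc_f_rc_20_1 lc_f_rc_5_1 lc_f_rc_20_1 lc_f_rc_21_1 lc_f_Cert_tree lc_f_rc_20_1 lc_f_Cert_tree lc_f_rc_21_1 lc_f_rc_5_1 lc_f_Cert_tree lc_f_rc_20_1 lc_f_rc_14_1 lc_f_Cert_tree lc_f_rc_20_1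 lc_f_rc_19_3 lc_f_rc_21_1 lc_f_Cert_tree lc_f_rc_21_1 lc_f_rc_20_1 lc_f_rc_5_3 lc_f_rc_20_1 lc_f_rc_5_3 lc_f_Cert_tree lc_f_Cert_tree lc_f_Cert_tree lc_f_rc_20_1 lc_f_rc_20_1 lc_f_rc_10_3 lc_f_rc_20_1 lc_f_Cert_tree lc_f_rc_17_3 lc_f_rc_14_3 lc_f_rc_17_3 lc_f_Cert_tree lc_f_Cert_tree) (@D3.rec (fun _ => (Cert rels S Gen.f)) lc_f_rc_20_1 lc_f_rc_19_3 lc_f_rc_21_1 lc_f_rc_14_3 lc_f_rc_20_1 lc_f_rc_14_1 lc_f_rc_17_3 lc_f_rc_21_1 lc_f_rc_21_1 lc_f_rc_17_3 lc_f_rc_10_3 lc_f_rc_17_3 lc_f_rc_20_1 lc_f_rc_20_1 lc_f_rc_14_3 lc_f_rc_17_3 lc_f_rc_21_1 lc_f_rc_19_5 lc_f_Cert_tree lc_f_rc_20_1 lc_f_rc_19_3 lc_f_rc_19_3 lc_f_rc_17_3 lc_f_rc_14_3 lc_f_rc_10_3 lc_f_rc_17_3 lc_f_rc_17_3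 lc_f_rc_21_1 lc_f_rc_17_3 lc_f_rc_17_3 lc_f_Cert_tree lc_f_rc_20_1 lc_f_rc_10_3 lc_f_rc_17_3 lc_f_rc_17_3 lc_f_rc_21_1 lc_f_Cert_tree lc_f_rc_21_1 lc_f_rc_5_3 lc_f_rc_17_3 lc_f_rc_19_5 lc_f_rc_14_3 lc_f_Cert_tree lc_f_rc_17_3 lc_f_rc_17_3 lc_f_rc_14_3 lc_f_Cert_tree lc_f_rc_17_1 lc_f_rc_14_3 lc_f_Cert_tree lc_f_rc_14_3 lc_f_rc_14_3 lc_f_Cert_tree lc_f_rc_14_3 lc_f_rc_20_1 lc_f_rc_19_3 lc_f_rc_10_3 lc_f_rc_17_3 lc_f_rc_20_1 lc_f_rc_19_5 lc_f_rc_14_3 lc_f_rc_10_3) (@D3.rec (fun _ => (Cert rels S Gen.f)) lc_f_rc_21_1 lc_f_rc_17_3 lc_f_rc_21_1 lc_f_Cert_tree lc_f_rc_17_3 lc_f_rc_14_3 lc_f_rc_14_3 lc_f_rc_21_1 lc_f_rc_14_3 lc_f_rc_10_3 lc_f_rc_17_3 lc_f_rc_17_3 lc_f_rc_19_5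 lc_f_rc_17_3 lc_f_Cert_tree lc_f_rc_17_3 lc_f_rc_10_3 lc_f_rc_21_1 lc_f_rc_14_3 lc_f_rc_14_3 lc_f_rc_17_3 lc_f_rc_10_3 lc_f_rc_17_3 lc_f_rc_14_3 lc_f_rc_10_3 lc_f_rc_17_3 lc_f_rc_19_3 lc_f_rc_10_3 lc_f_rc_17_3 lc_f_rc_14_3 lc_f_rc_10_3 lc_f_rc_17_3 lc_f_rc_14_1 lc_f_Cert_tree lc_f_rc_21_1 lc_f_rc_19_3 lc_f_Cert_tree lc_f_rc_20_1 lc_f_rc_17_3 lc_f_rc_21_1 lc_f_rc_17_3 lc_f_Cert_tree lc_f_rc_20_1 lc_f_rc_17_3 lc_f_rc_21_1 lc_f_rc_21_1 lc_f_rc_10_3 lc_f_rc_21_1 lc_f_rc_19_3 lc_f_rc_17_3 lc_f_rc_14_3 lc_f_rc_19_5 lc_f_rc_17_3 lc_f_rc_14_3 lc_f_rc_10_3 lc_f_rc_21_1 lc_f_Cert_tree lc_f_rc_20_1 lc_f_rc_5_3 lc_f_rc_5_3 lc_f_rc_10_3 lc_f_rc_17_3) (@D3.rec (fun _ => (Cert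 rels S Gen.f)) lc_f_rc_17_3 lc_f_rc_17_3 lc_f_rc_14_3 lc_f_Cert_tree lc_f_rc_17_3 lc_f_rc_19_5 lc_f_rc_17_3 lc_f_Cert_tree lc_f_rc_17_3 lc_f_rc_17_3 lc_f_rc_14_3 lc_f_Cert_tree lc_f_rc_17_1 lc_f_rc_14_3 lc_f_Cert_tree lc_f_rc_21_1 lc_f_rc_14_3 lc_f_Cert_tree lc_f_rc_14_3 lc_f_rc_20_1 lc_f_rc_19_3 lc_f_rc_10_3 lc_f_rc_21_1 lc_f_rc_17_3 lc_f_rc_21_1 lc_f_Cert_tree lc_f_rc_14_3 lc_f_rc_14_3 lc_f_rc_21_1 lc_f_rc_14_3 lc_f_rc_10_3 lc_f_rc_17_3 lc_f_rc_10_3 lc_f_rc_21_1 lc_f_rc_19_5 lc_f_rc_19_3 lc_f_rc_21_1 lc_f_rc_21_1 lc_f_rc_17_3 lc_f_rc_17_3 lc_f_rc_19_5 lc_f_rc_14_3 lc_f_Cert_tree lc_f_rc_17_3 lc_f_rc_14_3 lc_f_rc_21_1 lc_f_rc_19_5 lc_f_rc_10_3 lc_f_rc_14_3 lc_f_rc_14_3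 lc_f_rc_14_3 lc_f_rc_19_5 lc_f_rc_10_3 lc_f_rc_17_3 lc_f_rc_19_3 lc_f_rc_10_3 lc_f_rc_17_3 lc_f_rc_5_1 lc_f_rc_10_3 lc_f_rc_17_3 lc_f_rc_19_3 lc_f_rc_19_5) (@D3.rec (fun _ => (Cert rels S Gen.f)) lc_f_rc_22_1 lc_f_rc_17_3 lc_f_rc_21_1 lc_f_rc_17_3 lc_f_Cert_tree lc_f_rc_20_1 lc_f_rc_20_1 lc_f_rc_20_1 lc_f_rc_20_1 lc_f_rc_14_3 lc_f_rc_17_3 lc_f_rc_19_5 lc_f_rc_19_5 lc_f_Cert_tree lc_f_rc_20_1 lc_f_rc_21_1 lc_f_rc_21_1 lc_f_rc_21_1 lc_f_rc_21_1 lc_f_rc_19_3 lc_f_rc_19_3 lc_f_rc_10_3 lc_f_rc_17_3 lc_f_rc_17_3 lc_f_rc_17_3 lc_f_Cert_tree lc_f_rc_20_1 lc_f_rc_17_3 lc_f_Cert_tree lc_f_rc_17_1 lc_f_Cert_tree lc_f_Cert_tree lc_f_rc_17_1 lc_f_rc_20_1 lc_f_rc_19_3 lc_f_rc_10_3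 lc_f_rc_22_1 lc_f_Cert_tree lc_f_rc_20_1 lc_f_rc_10_3 lc_f_Cert_tree lc_f_rc_20_1 lc_f_rc_14_3 lc_f_rc_14_3 lc_f_rc_21_1 lc_f_rc_19_5 lc_f_Cert_tree lc_f_rc_20_1 lc_f_rc_17_3 lc_f_rc_14_3 lc_f_rc_21_1 lc_f_rc_21_1 lc_f_rc_14_1 lc_f_rc_17_3 lc_f_rc_21_1 lc_f_Cert_tree lc_f_rc_20_1 lc_f_rc_17_3 lc_f_Cert_tree lc_f_rc_17_1 lc_f_Cert_tree lc_f_Cert_tree) (@D3.rec (fun _ => (Cert rels S Gen.f)) lc_f_rc_17_1 lc_f_rc_20_1 lc_f_rc_19_3 lc_f_rc_10_3 lc_f_rc_10_3 lc_f_Cert_tree lc_f_rc_20_1 lc_f_rc_10_3 lc_f_Cert_tree lc_f_rc_20_1 lc_f_rc_17_3 lc_f_rc_21_1 lc_f_rc_17_1 lc_f_Cert_tree lc_f_rc_20_1 lc_f_Cert_tree lc_f_rc_20_1 lc_f_rc_5_1 lc_f_Cert_tree lc_f_rc_17_3 lc_f_Cert_tree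 lc_f_rc_20_1 lc_f_rc_5_1 lc_f_Cert_tree lc_f_rc_20_1 lc_f_rc_19_5 lc_f_rc_17_3 lc_f_rc_14_1 lc_f_rc_21_1 lc_f_rc_21_1 lc_f_rc_10_1 lc_f_rc_10_3 lc_f_rc_21_1 lc_f_Cert_tree lc_f_rc_20_1 lc_f_rc_20_1 lc_f_rc_10_1 lc_f_rc_10_3 lc_f_rc_19_5 lc_f_Cert_tree lc_f_rc_20_1 lc_f_rc_5_1 lc_f_rc_5_1 lc_f_rc_5_1 lc_f_rc_17_3 lc_f_rc_19_5 lc_f_rc_17_3 lc_f_rc_17_1 lc_f_Cert_tree lc_f_rc_20_1 lc_f_rc_14_1 lc_f_rc_17_3 lc_f_Cert_tree lc_f_rc_14_1 lc_f_rc_21_1 lc_f_rc_17_3 lc_f_Cert_tree lc_f_rc_10_3 lc_f_rc_21_1 lc_f_rc_14_3 lc_f_Cert_tree lc_f_rc_19_3) (@D3.rec (fun _ => (Cert rels S Gen.f)) lc_f_rc_17_1 lc_f_rc_20_1 lc_f_rc_21_1 lc_f_rc_20_1 lc_f_rc_5_1 lc_f_Cert_tree lc_f_rc_21_1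 lc_f_Cert_tree lc_f_rc_21_1 lc_f_Cert_tree lc_f_rc_17_1 lc_f_rc_20_1 lc_f_rc_20_1 lc_f_rc_14_3 lc_f_rc_14_3 lc_f_Cert_tree lc_f_rc_5_1 lc_f_rc_21_1 lc_f_rc_21_1 lc_f_Cert_tree lc_f_rc_14_3 lc_f_rc_17_3 lc_f_Cert_tree lc_f_Cert_tree lc_f_rc_20_1 lc_f_rc_19_3 lc_f_rc_17_3 lc_f_rc_14_1 lc_f_rc_17_3 lc_f_rc_14_3 lc_f_Cert_tree lc_f_rc_17_3 lc_f_rc_10_3 lc_f_rc_14_3 lc_f_Cert_tree lc_f_rc_5_1 lc_f_rc_14_3 lc_f_Cert_tree lc_f_rc_5_1 lc_f_rc_5_1 lc_f_Cert_tree lc_f_rc_5_1 lc_f_rc_14_3 lc_f_Cert_tree lc_f_rc_22_1 lc_f_rc_20_1 lc_f_rc_19_3 lc_f_rc_21_1 lc_f_rc_17_3 lc_f_rc_17_3 lc_f_Cert_tree lc_f_rc_17_3 lc_f_rc_17_3 lc_f_rc_14_3 lc_f_Cert_tree lc_f_rc_21_1 lc_f_rc_10_3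 lc_f_rc_20_1 lc_f_rc_10_3 lc_f_rc_14_3 lc_f_Cert_tree lc_f_rc_21_1) (@D3.rec (fun _ => (Cert rels S Gen.f)) lc_f_rc_20_1 lc_f_rc_14_3 lc_f_rc_21_1 lc_f_rc_10_3 lc_f_rc_5_1 lc_f_rc_17_3 lc_f_rc_10_3 lc_f_rc_10_3 lc_f_rc_20_1 lc_f_rc_17_3 lc_f_rc_20_1 lc_f_rc_14_3 lc_f_rc_17_3 lc_f_Cert_tree lc_f_rc_21_1 lc_f_rc_5_1 lc_f_Cert_tree lc_f_rc_17_3 lc_f_rc_17_1 lc_f_rc_5_1 lc_f_Cert_tree lc_f_rc_10_3 lc_f_rc_17_1 lc_f_rc_17_1 lc_f_rc_20_1 lc_f_rc_14_3 lc_f_rc_17_3 lc_f_Cert_tree lc_f_rc_21_1 lc_f_rc_20_1 lc_f_Cert_tree lc_f_rc_20_1 lc_f_rc_14_3 lc_f_rc_5_3 lc_f_rc_14_3 lc_f_rc_10_3 lc_f_Cert_tree lc_f_rc_5_3 lc_f_rc_17_3 lc_f_rc_21_1 lc_f_Cert_tree lc_f_rc_10_3 lc_f_rc_5_1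 lc_f_rc_17_1 lc_f_rc_20_1 lc_f_rc_20_1 lc_f_rc_14_3 lc_f_Cert_tree lc_f_rc_10_3 lc_f_rc_14_3 lc_f_Cert_tree lc_f_rc_21_1 lc_f_rc_10_3 lc_f_rc_20_1 lc_f_rc_10_3 lc_f_rc_21_1 lc_f_Cert_tree lc_f_rc_14_3 lc_f_rc_20_1 lc_f_Cert_tree lc_f_Cert_tree lc_f_rc_21_1) (@D3.rec (fun _ => (Cert rels S Gen.f)) lc_f_rc_5_1 lc_f_rc_17_1 lc_f_rc_20_1 lc_f_rc_17_3 lc_f_rc_17_3 lc_f_Cert_tree lc_f_rc_19_3 lc_f_rc_21_1 lc_f_rc_17_3 lc_f_rc_21_1 lc_f_rc_14_3 lc_f_rc_17_3 lc_f_rc_17_3 lc_f_Cert_tree lc_f_rc_5_1 lc_f_rc_10_3 lc_f_rc_5_1 lc_f_Cert_tree lc_f_rc_14_3 lc_f_rc_21_1 lc_f_rc_17_1 lc_f_rc_20_1 lc_f_rc_10_3 lc_f_rc_14_3 lc_f_Cert_tree lc_f_rc_17_3 lc_f_rc_14_3 lc_f_Cert_tree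 lc_f_rc_14_3 lc_f_rc_17_3 lc_f_rc_21_1 lc_f_rc_21_1 lc_f_Cert_tree lc_f_rc_20_1 lc_f_rc_19_3 lc_f_rc_17_3 lc_f_rc_14_3 lc_f_rc_10_3 lc_f_rc_17_3 lc_f_rc_10_3 lc_f_rc_21_1 lc_f_rc_10_3 lc_f_rc_14_3 lc_f_rc_10_3 lc_f_rc_17_3 lc_f_rc_19_5 lc_f_rc_20_1 lc_f_rc_5_3 lc_f_rc_17_3 lc_f_Cert_tree lc_f_Cert_tree lc_f_rc_5_1 lc_f_rc_14_3 lc_f_Cert_tree lc_f_rc_20_1 lc_f_rc_20_1 lc_f_rc_20_1 lc_f_rc_21_1 lc_f_rc_21_1 lc_f_rc_10_3 lc_f_rc_17_3 lc_f_rc_14_3) (@D3.rec (fun _ => (Cert rels S Gen.f)) lc_f_rc_19_5 lc_f_rc_17_3 lc_f_rc_21_1 lc_f_rc_20_1 lc_f_rc_20_1 lc_f_rc_19_3 lc_f_rc_17_3 lc_f_rc_14_3 lc_f_Cert_tree lc_f_rc_14_3 lc_f_rc_21_1 lc_f_rc_17_1 lc_f_rc_20_1 lc_f_rc_10_3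 lc_f_Cert_tree lc_f_rc_21_1 lc_f_rc_20_1 lc_f_Cert_tree lc_f_rc_20_1 lc_f_rc_14_3 lc_f_rc_21_1 lc_f_rc_14_3 lc_f_rc_10_3 lc_f_Cert_tree lc_f_rc_14_3 lc_f_rc_20_1 lc_f_rc_5_1 lc_f_rc_17_3 lc_f_rc_14_3 lc_f_rc_21_1 lc_f_rc_17_3 lc_f_Cert_tree lc_f_rc_21_1 lc_f_rc_14_1 lc_f_Cert_tree lc_f_rc_20_1 lc_f_rc_5_1 lc_f_rc_21_1 lc_f_rc_14_3 lc_f_rc_5_1 lc_f_rc_10_3 lc_f_rc_17_3 lc_f_rc_14_3 lc_f_Cert_tree lc_f_rc_5_3 lc_f_rc_17_3 lc_f_rc_14_3 lc_f_rc_21_1 lc_f_rc_10_3 lc_f_rc_5_1 lc_f_rc_5_3 lc_f_rc_10_3 lc_f_rc_10_3 lc_f_Cert_tree lc_f_rc_17_3 lc_f_rc_14_3 lc_f_Cert_tree lc_f_Cert_tree lc_f_rc_20_1 lc_f_rc_10_3 lc_f_rc_21_1 lc_f_rc_5_3) (@D3.rec (fun _ => (Cert rels S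 Gen.f)) lc_f_rc_10_3 lc_f_rc_17_3 lc_f_rc_10_1 lc_f_Cert_tree lc_f_Cert_tree lc_f_rc_20_1 lc_f_rc_5_3 lc_f_rc_20_1 lc_f_rc_22_1 lc_f_Cert_tree lc_f_Cert_tree lc_f_rc_20_1 lc_f_rc_20_1 lc_f_rc_20_1 lc_f_rc_20_1 lc_f_Cert_tree lc_f_rc_17_3 lc_f_rc_14_3 lc_f_rc_5_1 lc_f_Cert_tree lc_f_Cert_tree lc_f_rc_20_1 lc_f_rc_19_3 lc_f_rc_10_3 lc_f_Cert_tree lc_f_rc_17_3 lc_f_Cert_tree lc_f_rc_10_3 lc_f_Cert_tree lc_f_rc_20_1 lc_f_rc_5_1 lc_f_rc_20_1 lc_f_rc_19_1 lc_f_rc_17_3 lc_f_rc_14_3 lc_f_rc_17_3 lc_f_Cert_tree lc_f_rc_17_3 lc_f_rc_21_1 lc_f_rc_20_1 lc_f_rc_17_3 lc_f_rc_10_3 lc_f_rc_5_3 lc_f_Cert_tree lc_f_rc_14_3 lc_f_rc_14_3 lc_f_Cert_tree lc_f_rc_20_1 lc_f_rc_5_1 lc_f_rc_14_3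 lc_f_rc_5_3 lc_f_rc_10_3 lc_f_rc_10_3 lc_f_Cert_tree lc_f_rc_17_3 lc_f_rc_17_3 lc_f_rc_5_1 lc_f_rc_5_3 lc_f_rc_14_3 lc_f_rc_10_3 lc_f_Cert_tree lc_f_rc_17_3) (@D3.rec (fun _ => (Cert rels S Gen.f)) lc_f_rc_14_3 lc_f_rc_10_3 lc_f_rc_17_3 lc_f_rc_20_1 lc_f_rc_21_1 lc_f_rc_17_1 lc_f_rc_19_3 lc_f_rc_10_3 lc_f_rc_14_3 lc_f_rc_21_1 lc_f_rc_19_3 lc_f_Cert_tree lc_f_rc_10_3 lc_f_rc_10_1 lc_f_rc_14_3 lc_f_rc_21_1 lc_f_Cert_tree lc_f_rc_20_1 lc_f_rc_10_3 lc_f_rc_21_1 lc_f_rc_20_1 lc_f_rc_20_1 lc_f_rc_19_3 lc_f_rc_17_3 lc_f_rc_5_1 lc_f_Cert_tree lc_f_rc_20_1 lc_f_rc_14_3 lc_f_rc_17_3 lc_f_rc_10_3 lc_f_rc_17_3 lc_f_rc_14_3 lc_f_rc_10_3 lc_f_rc_5_1 lc_f_rc_14_3 lc_f_rc_14_3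 lc_f_rc_14_3 lc_f_rc_21_1 lc_f_rc_14_1 lc_f_rc_10_3 lc_f_rc_14_3 lc_f_rc_10_3 lc_f_rc_10_3 lc_f_rc_5_1 lc_f_rc_14_3 lc_f_Cert_tree lc_f_rc_20_1 lc_f_rc_21_1 lc_f_rc_20_1 lc_f_rc_10_3 lc_f_rc_17_3 lc_f_rc_14_3 lc_f_rc_17_3 lc_f_rc_17_3 lc_f_rc_14_3 lc_f_rc_20_1 lc_f_rc_10_3 lc_f_rc_17_3 lc_f_rc_17_3 lc_f_rc_14_3 lc_f_rc_14_3 lc_f_rc_14_3) (@D3.rec (fun _ => (Cert rels S Gen.f)) lc_f_Cert_tree lc_f_rc_10_3 lc_f_Cert_tree lc_f_rc_17_3 lc_f_Cert_tree lc_f_rc_21_1 lc_f_rc_14_3 lc_f_rc_20_1 lc_f_rc_19_5 lc_f_rc_17_3 lc_f_rc_21_1 lc_f_rc_10_3 lc_f_rc_20_1 lc_f_rc_17_3 lc_f_rc_5_1 lc_f_rc_5_3 lc_f_rc_10_3 lc_f_rc_20_1 lc_f_rc_14_3 lc_f_Cert_tree lc_f_rc_22_1 lc_f_rc_14_3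 lc_f_rc_21_1 lc_f_Cert_tree lc_f_rc_20_1 lc_f_rc_14_3 lc_f_rc_17_3 lc_f_rc_10_3 lc_f_rc_21_1 lc_f_rc_17_1 lc_f_rc_17_3 lc_f_rc_20_1 lc_f_rc_10_3 lc_f_rc_5_1 lc_f_rc_14_3 lc_f_rc_10_3 lc_f_rc_17_3 lc_f_rc_17_3 lc_f_rc_14_3 lc_f_rc_14_3 lc_f_rc_19_3 lc_f_rc_10_3 lc_f_rc_5_1 lc_f_rc_5_1 lc_f_rc_14_3 lc_f_rc_17_3 lc_f_Cert_tree lc_f_rc_17_3 lc_f_rc_5_1 lc_f_rc_17_3 lc_f_Cert_tree lc_f_rc_14_3 lc_f_rc_17_3 lc_f_rc_14_3 lc_f_rc_14_3 lc_f_rc_21_1 lc_f_Cert_tree lc_f_rc_20_1 lc_f_rc_19_3 lc_f_rc_14_3 lc_f_rc_17_3 lc_f_rc_14_1) (@D3.rec (fun _ => (Cert rels S Gen.f)) lc_f_rc_20_1 lc_f_rc_14_3 lc_f_rc_14_3 lc_f_rc_10_3 lc_f_rc_17_3 lc_f_rc_14_3 lc_f_rc_20_1 lc_f_rc_20_1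 lc_f_rc_5_3 lc_f_rc_5_1 lc_f_rc_17_3 lc_f_rc_14_3 lc_f_rc_20_1 lc_f_Cert_tree lc_f_rc_5_1 lc_f_rc_17_3 lc_f_rc_14_3 lc_f_Cert_tree lc_f_rc_21_1 lc_f_Cert_tree lc_f_rc_20_1 lc_f_rc_14_3 lc_f_rc_14_3 lc_f_Cert_tree lc_f_rc_20_1 lc_f_rc_17_1 lc_f_rc_20_1 lc_f_rc_19_3 lc_f_rc_10_3 lc_f_rc_17_3 lc_f_rc_17_3 lc_f_rc_5_1 lc_f_rc_5_3 lc_f_Cert_tree lc_f_rc_5_1 lc_f_rc_17_3 lc_f_rc_21_1 lc_f_Cert_tree lc_f_Cert_tree lc_f_rc_20_1 lc_f_rc_21_1 lc_f_Cert_tree lc_f_Cert_tree lc_f_rc_20_1 lc_f_rc_21_1 lc_f_Cert_tree lc_f_rc_20_1 lc_f_rc_5_1 lc_f_rc_14_3 lc_f_rc_5_1 lc_f_rc_17_3 lc_f_Cert_tree lc_f_rc_5_1 lc_f_rc_14_1 lc_f_rc_14_3 lc_f_Cert_tree lc_f_rc_21_1 lc_f_Cert_tree lc_f_rc_20_1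 lc_f_rc_5_3 lc_f_Cert_tree lc_f_rc_17_3) (@D3.rec (fun _ => (Cert rels S Gen.f)) lc_f_rc_14_3 lc_f_Cert_tree lc_f_rc_17_3 lc_f_rc_14_3 lc_f_Cert_tree lc_f_rc_5_1 lc_f_rc_10_3 lc_f_rc_10_3 lc_f_Cert_tree lc_f_rc_5_1 lc_f_rc_20_1 lc_f_rc_20_1 lc_f_rc_19_5 lc_f_rc_19_1 lc_f_rc_17_3 lc_f_rc_20_1 lc_f_rc_20_1 lc_f_Cert_tree lc_f_rc_21_1 lc_f_rc_14_3 lc_f_Cert_tree lc_f_rc_20_1 lc_f_rc_14_3 lc_f_rc_10_3 lc_f_Cert_tree lc_f_rc_21_1 lc_f_rc_14_3 lc_f_Cert_tree lc_f_rc_20_1 lc_f_rc_20_1 lc_f_rc_5_1 lc_f_rc_21_1 lc_f_rc_5_1 lc_f_rc_10_3 lc_f_rc_14_3 lc_f_rc_17_3 lc_f_rc_14_3 lc_f_rc_10_3 lc_f_rc_17_3 lc_f_rc_17_3 lc_f_rc_21_1 lc_f_rc_17_3 lc_f_rc_14_3 lc_f_rc_10_1 lc_f_rc_17_3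 lc_f_rc_19_3 lc_f_rc_14_3 lc_f_rc_21_1 lc_f_rc_17_3 lc_f_rc_14_3 lc_f_rc_14_1 lc_f_rc_14_3 lc_f_rc_17_3 lc_f_rc_17_3 lc_f_rc_10_3 lc_f_rc_17_3 lc_f_Cert_tree lc_f_rc_20_1 lc_f_rc_17_3 lc_f_rc_10_3 lc_f_rc_10_3 lc_f_rc_14_3) (@D3.rec (fun _ => (Cert rels S Gen.f)) lc_f_rc_19_5 lc_f_rc_21_1 lc_f_rc_21_1 lc_f_rc_17_3 lc_f_rc_17_3 lc_f_rc_17_3 lc_f_Cert_tree lc_f_rc_20_1 lc_f_rc_17_3 lc_f_rc_10_3 lc_f_rc_14_3 lc_f_Cert_tree lc_f_rc_19_5 lc_f_rc_17_3 lc_f_rc_10_1 lc_f_rc_14_3 lc_f_Cert_tree lc_f_rc_5_1 lc_f_rc_14_3 lc_f_Cert_tree lc_f_rc_5_1 lc_f_rc_14_3 lc_f_Cert_tree lc_f_rc_14_3 lc_f_rc_5_1 lc_f_Cert_tree lc_f_rc_14_3 lc_f_rc_20_1 lc_f_rc_19_3 lc_f_rc_5_1 lc_f_rc_5_3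 lc_f_rc_14_3 lc_f_Cert_tree lc_f_rc_14_3 lc_f_rc_17_3 lc_f_rc_21_1 lc_f_rc_19_5 lc_f_rc_21_1 lc_f_Cert_tree lc_f_rc_20_1 lc_f_rc_10_3 lc_f_rc_17_3 lc_f_rc_10_3 lc_f_rc_14_3 lc_f_rc_19_5 lc_f_rc_17_3 lc_f_rc_14_3 lc_f_rc_10_3 lc_f_rc_17_3 lc_f_rc_19_3 lc_f_Cert_tree lc_f_rc_21_1 lc_f_rc_5_1 lc_f_Cert_tree lc_f_rc_20_1 lc_f_rc_17_3 lc_f_rc_17_3 lc_f_rc_14_1 lc_f_Cert_tree lc_f_rc_20_1 lc_f_rc_19_3 lc_f_rc_5_3) (@D3.rec (fun _ => (Cert rels S Gen.f)) lc_f_rc_20_1 lc_f_rc_14_3 lc_f_rc_20_1 lc_f_rc_19_3 lc_f_rc_20_1 lc_f_rc_10_1 lc_f_rc_21_1 lc_f_rc_21_1 lc_f_rc_14_3 lc_f_Cert_tree lc_f_rc_19_3 lc_f_rc_14_3 lc_f_rc_21_1 lc_f_rc_20_1 lc_f_rc_21_1 lc_f_rc_14_3 lc_f_rc_20_1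 lc_f_rc_14_1 lc_f_rc_17_3 lc_f_Cert_tree lc_f_rc_5_1 lc_f_rc_20_1 lc_f_rc_20_1 lc_f_rc_5_1 lc_f_rc_21_1 lc_f_rc_14_3 lc_f_Cert_tree lc_f_rc_14_3 lc_f_rc_21_1 lc_f_rc_10_3 lc_f_rc_20_1 lc_f_rc_14_3 lc_f_rc_21_1 lc_f_rc_10_3 lc_f_rc_20_1 lc_f_rc_14_3 lc_f_rc_19_3 lc_f_rc_5_1 lc_f_rc_14_3 lc_f_rc_17_3 lc_f_rc_19_3 lc_f_rc_10_3 lc_f_rc_20_1 lc_f_rc_10_3 lc_f_rc_5_1 lc_f_Cert_tree lc_f_rc_20_1 lc_f_Cert_tree lc_f_rc_14_3 lc_f_Cert_tree lc_f_rc_20_1 lc_f_rc_14_3 lc_f_rc_20_1 lc_f_rc_10_3 lc_f_rc_10_3 lc_f_rc_17_3 lc_f_rc_14_3 lc_f_Cert_tree lc_f_rc_17_3 lc_f_rc_14_3 lc_f_rc_17_3 lc_f_rc_14_3) (@D3.rec (fun _ => (Cert rels S Gen.f)) lc_f_Cert_tree lc_f_rc_14_3 lc_f_rc_14_3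 lc_f_rc_10_1 lc_f_Cert_tree lc_f_Cert_tree lc_f_rc_20_1 lc_f_rc_20_1 lc_f_rc_5_1 lc_f_rc_20_1 lc_f_rc_19_1 lc_f_rc_21_1 lc_f_rc_17_3 lc_f_rc_5_1 lc_f_Cert_tree lc_f_rc_21_1 lc_f_rc_20_1 lc_f_Cert_tree lc_f_rc_20_1 lc_f_rc_10_3 lc_f_rc_14_3 lc_f_rc_19_3 lc_f_Cert_tree lc_f_rc_10_3 lc_f_rc_14_3 lc_f_rc_19_5 lc_f_Cert_tree lc_f_rc_19_1 lc_f_rc_21_1 lc_f_rc_20_1 lc_f_rc_17_3 lc_f_rc_14_3 lc_f_rc_5_3 lc_f_Cert_tree lc_f_rc_21_1 lc_f_rc_20_1 lc_f_rc_20_1 lc_f_rc_21_1 lc_f_rc_22_1 lc_f_Cert_tree lc_f_Cert_tree lc_f_rc_20_1 lc_f_rc_21_1 lc_f_rc_5_1 lc_f_rc_19_5 lc_f_rc_17_3 lc_f_rc_10_3 lc_f_rc_22_1 lc_f_Cert_tree lc_f_rc_17_3 lc_f_rc_20_1 lc_f_rc_10_3 lc_f_rc_20_1 lc_f_Cert_tree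 lc_f_rc_5_1 lc_f_rc_20_1 lc_f_rc_20_1 lc_f_rc_10_3 lc_f_rc_17_3 lc_f_Cert_tree lc_f_rc_10_3 lc_f_rc_17_1) (@D3.rec (fun _ => (Cert rels S Gen.f)) lc_f_rc_20_1 lc_f_rc_10_3 lc_f_rc_17_3 lc_f_rc_14_3 lc_f_rc_14_3 lc_f_Cert_tree lc_f_rc_21_1 lc_f_rc_20_1 lc_f_rc_5_3 lc_f_rc_22_1 lc_f_Cert_tree lc_f_Cert_tree lc_f_rc_14_3 lc_f_rc_21_1 lc_f_Cert_tree lc_f_rc_20_1 lc_f_rc_20_1 lc_f_rc_10_3 lc_f_rc_5_1 lc_f_rc_17_1 lc_f_rc_21_1 lc_f_rc_17_3 lc_f_rc_17_1 lc_f_rc_20_1 lc_f_rc_17_3 lc_f_rc_5_1 lc_f_rc_5_3 lc_f_Cert_tree lc_f_rc_20_1 lc_f_rc_20_1 lc_f_rc_10_3 lc_f_rc_17_3 lc_f_rc_14_3 lc_f_rc_10_3 lc_f_Cert_tree lc_f_rc_20_1 lc_f_rc_20_1 lc_f_rc_14_3 lc_f_Cert_tree lc_f_Cert_tree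 lc_f_rc_14_3 lc_f_rc_14_3 lc_f_Cert_tree lc_f_rc_20_1 lc_f_rc_17_3 lc_f_rc_17_3 lc_f_Cert_tree lc_f_rc_20_1 lc_f_rc_5_1 lc_f_rc_17_3 lc_f_rc_20_1 lc_f_rc_10_3 lc_f_rc_17_3 lc_f_rc_20_1 lc_f_rc_10_3 lc_f_rc_10_3 lc_f_rc_5_1 lc_f_rc_14_3 lc_f_rc_21_1 lc_f_rc_5_1 lc_f_rc_21_1 lc_f_rc_14_3) (@D3.rec (fun _ => (Cert rels S Gen.f)) lc_f_rc_20_1 lc_f_rc_5_3 lc_f_rc_10_3 lc_f_rc_10_3 lc_f_Cert_tree lc_f_rc_21_1 lc_f_rc_17_3 lc_f_rc_21_1 lc_f_rc_20_1 lc_f_Cert_tree lc_f_rc_20_1 lc_f_rc_17_3 lc_f_rc_5_3 lc_f_rc_20_1 lc_f_rc_20_1 lc_f_rc_20_1 lc_f_rc_17_3 lc_f_rc_10_1 lc_f_rc_17_3 lc_f_rc_19_1 lc_f_rc_10_3 lc_f_rc_14_3 lc_f_Cert_tree lc_f_rc_21_1 lc_f_rc_20_1 lc_f_rc_17_3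 lc_f_rc_20_1 lc_f_rc_21_1 lc_f_Cert_tree lc_f_rc_20_1 lc_f_rc_22_1 lc_f_rc_14_1 lc_f_rc_10_3 lc_f_rc_20_1 lc_f_rc_22_1 lc_f_rc_14_3 lc_f_Cert_tree lc_f_rc_21_1 lc_f_rc_14_3 lc_f_rc_20_1 lc_f_rc_20_1 lc_f_rc_14_3 lc_f_rc_10_3 lc_f_rc_10_3 lc_f_rc_14_3 lc_f_rc_10_3 lc_f_Cert_tree lc_f_rc_5_3 lc_f_rc_17_3 lc_f_rc_20_1 lc_f_rc_5_3 lc_f_rc_5_1 lc_f_Cert_tree lc_f_rc_22_1 lc_f_Cert_tree lc_f_rc_10_3 lc_f_rc_21_1 lc_f_rc_14_3 lc_f_rc_20_1 lc_f_rc_14_3 lc_f_rc_10_3 lc_f_rc_10_3) (@D3.rec (fun _ => (Cert rels S Gen.f)) lc_f_rc_17_3 lc_f_rc_5_1 lc_f_Cert_tree lc_f_rc_14_3 lc_f_rc_14_3 lc_f_rc_20_1 lc_f_Cert_tree lc_f_Cert_tree lc_f_rc_5_1 lc_f_rc_19_3 lc_f_rc_20_1 lc_f_rc_17_3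 lc_f_rc_14_3 lc_f_rc_10_3 lc_f_rc_5_1 lc_f_rc_10_1 lc_f_rc_10_3 lc_f_rc_21_1 lc_f_rc_14_1 lc_f_rc_20_1 lc_f_rc_10_3 lc_f_rc_10_3 lc_f_Cert_tree lc_f_Cert_tree lc_f_rc_20_1 lc_f_rc_10_3 lc_f_rc_20_1 lc_f_rc_17_3 lc_f_rc_21_1 lc_f_rc_10_3 lc_f_rc_21_1 lc_f_rc_21_1 lc_f_rc_19_1 lc_f_rc_20_1 lc_f_rc_21_1 lc_f_Cert_tree lc_f_rc_20_1 lc_f_rc_5_3 lc_f_rc_5_3 lc_f_rc_10_3 lc_f_rc_14_3 lc_f_rc_17_3 lc_f_rc_14_3 lc_f_rc_17_3 lc_f_rc_21_1 lc_f_rc_21_1 lc_f_Cert_tree lc_f_rc_17_3 lc_f_rc_17_3 lc_f_Cert_tree lc_f_Cert_tree lc_f_rc_14_3 lc_f_rc_20_1 lc_f_rc_14_3 lc_f_rc_19_5 lc_f_rc_19_5 lc_f_rc_10_3 lc_f_rc_10_3 lc_f_rc_17_3 lc_f_rc_17_3 lc_f_rc_21_1 lc_f_rc_14_1) (@D3.rec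 (fun _ => (Cert rels S Gen.f)) lc_f_rc_5_1 lc_f_rc_14_3 lc_f_Cert_tree lc_f_rc_14_3 lc_f_rc_17_3 lc_f_rc_17_3 lc_f_rc_22_1 lc_f_rc_22_1 lc_f_rc_22_1 lc_f_Cert_tree lc_f_rc_19_5 lc_f_Cert_tree lc_f_rc_20_1 lc_f_rc_21_1 lc_f_rc_21_1 lc_f_rc_5_1 lc_f_rc_5_1 lc_f_rc_10_3 lc_f_rc_10_3 lc_f_rc_17_3 lc_f_rc_5_3 lc_f_rc_5_1 lc_f_rc_17_3 lc_f_rc_17_3 lc_f_rc_20_1 lc_f_rc_14_1 lc_f_rc_19_3 lc_f_rc_14_3 lc_f_rc_14_3 lc_f_rc_17_3 lc_f_rc_10_3 lc_f_rc_10_3 lc_f_rc_5_1 lc_f_rc_20_1 lc_f_rc_21_1 lc_f_rc_21_1 lc_f_Cert_tree lc_f_rc_21_1 lc_f_rc_10_3 lc_f_rc_14_3 lc_f_rc_19_3 lc_f_rc_17_3 lc_f_rc_17_1 lc_f_rc_20_1 lc_f_rc_21_1 lc_f_rc_19_3 lc_f_rc_17_3 lc_f_rc_14_3 lc_f_rc_5_1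 lc_f_rc_10_3 lc_f_rc_22_1 lc_f_rc_10_1 lc_f_rc_5_1 lc_f_rc_21_1 lc_f_rc_21_1 lc_f_rc_20_1 lc_f_rc_10_3 lc_f_rc_10_3 lc_f_rc_20_1 lc_f_Cert_tree lc_f_rc_20_1 lc_f_rc_10_3) (@D3.rec (fun _ => (Cert rels S Gen.f)) lc_f_rc_14_3 lc_f_rc_17_3 lc_f_rc_20_1 lc_f_rc_21_1 lc_f_rc_21_1 lc_f_rc_19_3 lc_f_rc_21_1 lc_f_rc_17_1 lc_f_Cert_tree lc_f_rc_20_1 lc_f_rc_21_1 lc_f_rc_19_5 lc_f_rc_17_3 lc_f_rc_14_3 lc_f_Cert_tree lc_f_rc_21_1 lc_f_rc_19_5 lc_f_rc_17_3 lc_f_rc_14_3 lc_f_rc_10_3 lc_f_rc_19_3 lc_f_rc_21_1 lc_f_rc_10_1 lc_f_rc_10_3 lc_f_rc_10_1 lc_f_rc_21_1 lc_f_rc_21_1 lc_f_rc_5_1 lc_f_rc_21_1 lc_f_rc_20_1 lc_f_rc_20_1 lc_f_rc_10_3 lc_f_rc_5_3 lc_f_rc_19_3 lc_f_rc_14_3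 lc_f_rc_10_3 lc_f_Cert_tree lc_f_rc_10_3 lc_f_rc_5_3 lc_f_Cert_tree lc_f_rc_14_3 lc_f_rc_14_3 lc_f_rc_17_3 lc_f_rc_19_3 lc_f_rc_21_1 lc_f_rc_5_3 lc_f_rc_14_3 lc_f_Cert_tree lc_f_rc_21_1 lc_f_rc_14_3 lc_f_rc_20_1 lc_f_rc_17_3 lc_f_rc_14_3 lc_f_Cert_tree lc_f_rc_20_1 lc_f_rc_21_1 lc_f_rc_20_1 lc_f_rc_10_3 lc_f_rc_14_3 lc_f_rc_20_1 lc_f_Cert_tree lc_f_rc_17_3) (@D3.rec (fun _ => (Cert rels S Gen.f)) lc_f_rc_21_1 lc_f_rc_21_1 lc_f_Cert_tree lc_f_rc_5_3 lc_f_rc_21_1 lc_f_rc_10_3 lc_f_rc_17_3 lc_f_rc_22_1 lc_f_Cert_tree lc_f_rc_5_1 lc_f_rc_20_1 lc_f_rc_20_1 lc_f_rc_5_3 lc_f_rc_10_3 lc_f_rc_19_3 lc_f_rc_5_3 lc_f_rc_10_3 lc_f_rc_17_3 lc_f_rc_14_3 lc_f_rc_17_3 lc_f_rc_21_1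 lc_f_rc_14_3 lc_f_Cert_tree lc_f_rc_10_3 lc_f_rc_17_3 lc_f_rc_17_3 lc_f_rc_14_3 lc_f_rc_20_1 lc_f_rc_14_3 lc_f_rc_19_3 lc_f_rc_17_3 lc_f_rc_14_3 lc_f_rc_17_3 lc_f_rc_17_3 lc_f_rc_20_1 lc_f_Cert_tree lc_f_rc_14_3 lc_f_rc_5_1 lc_f_rc_17_3 lc_f_Cert_tree lc_f_rc_20_1 lc_f_rc_21_1 lc_f_rc_20_1 lc_f_rc_10_1 lc_f_rc_19_5 lc_f_Cert_tree lc_f_rc_10_3 lc_f_rc_19_1 lc_f_rc_17_3 lc_f_rc_21_1 lc_f_rc_17_3 lc_f_rc_5_3 lc_f_rc_10_3 lc_f_rc_20_1 lc_f_rc_17_1 lc_f_rc_20_1 lc_f_rc_21_1 lc_f_rc_20_1 lc_f_rc_14_3 lc_f_rc_17_3 lc_f_Cert_tree lc_f_rc_10_3) (@D3.rec (fun _ => (Cert rels S Gen.f)) lc_f_rc_5_1 lc_f_rc_17_3 lc_f_rc_5_1 lc_f_rc_17_3 lc_f_rc_17_3 lc_f_rc_10_3 lc_f_rc_14_3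 lc_f_rc_10_3 lc_f_rc_5_1 lc_f_rc_14_3 lc_f_rc_10_3 lc_f_rc_21_1 lc_f_Cert_tree lc_f_rc_14_3 lc_f_Cert_tree lc_f_rc_17_3 lc_f_rc_21_1 lc_f_rc_17_1 lc_f_rc_14_3 lc_f_rc_19_3 lc_f_rc_19_3 lc_f_rc_17_3 lc_f_rc_21_1 lc_f_rc_17_3 lc_f_rc_17_1 lc_f_rc_14_1 lc_f_Cert_tree lc_f_rc_20_1 lc_f_rc_19_3 lc_f_rc_17_3 lc_f_rc_20_1 lc_f_rc_10_3 lc_f_rc_17_3 lc_f_rc_19_3 lc_f_rc_17_3 lc_f_rc_17_1 lc_f_rc_21_1 lc_f_rc_14_3 lc_f_rc_14_3 lc_f_rc_21_1 lc_f_rc_19_1 lc_f_rc_10_3 lc_f_rc_17_3 lc_f_rc_14_3 lc_f_rc_21_1 lc_f_rc_14_3 lc_f_Cert_tree lc_f_rc_5_3 lc_f_rc_5_1 lc_f_Cert_tree lc_f_rc_14_3 lc_f_rc_14_3 lc_f_rc_10_3 lc_f_rc_17_1 lc_f_Cert_tree lc_f_rc_21_1 lc_f_rc_14_3 lc_f_rc_20_1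 lc_f_rc_17_3 lc_f_rc_20_1 lc_f_Cert_tree lc_f_rc_14_3) (@D3.rec (fun _ => (Cert rels S Gen.f)) lc_f_rc_21_1 lc_f_rc_5_1 lc_f_rc_5_1 lc_f_Cert_tree lc_f_rc_21_1 lc_f_rc_14_3 lc_f_Cert_tree lc_f_rc_20_1 lc_f_rc_20_1 lc_f_rc_14_3 lc_f_Cert_tree lc_f_rc_10_3 lc_f_rc_17_3 lc_f_Cert_tree lc_f_rc_21_1 lc_f_rc_19_3 lc_f_Cert_tree lc_f_rc_20_1 lc_f_rc_10_3 lc_f_rc_17_3 lc_f_Cert_tree lc_f_rc_10_1 lc_f_rc_17_1 lc_f_Cert_tree lc_f_rc_5_1 lc_f_rc_10_3 lc_f_rc_5_3 lc_f_rc_10_1 lc_f_Cert_tree lc_f_rc_17_3 lc_f_rc_17_3 lc_f_rc_5_3 lc_f_Cert_tree lc_f_rc_20_1 lc_f_rc_5_1 lc_f_rc_14_3 lc_f_Cert_tree lc_f_rc_20_1 lc_f_rc_19_1 lc_f_rc_10_1 lc_f_rc_21_1 lc_f_rc_17_1 lc_f_rc_10_3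 lc_f_rc_14_3 lc_f_rc_17_3 lc_f_rc_5_1 lc_f_rc_19_1 lc_f_rc_21_1 lc_f_rc_20_1 lc_f_rc_17_3 lc_f_rc_10_3 lc_f_rc_14_3 lc_f_rc_17_3 lc_f_rc_14_3 lc_f_rc_10_3 lc_f_rc_20_1 lc_f_rc_5_3 lc_f_rc_14_3 lc_f_rc_22_1 lc_f_Cert_tree lc_f_rc_14_3 lc_f_rc_21_1) (@D3.rec (fun _ => (Cert rels S Gen.f)) lc_f_rc_17_3 lc_f_Cert_tree lc_f_rc_20_1 lc_f_rc_21_1 lc_f_Cert_tree lc_f_rc_20_1 lc_f_rc_10_1 lc_f_rc_21_1 lc_f_rc_19_3 lc_f_rc_17_3 lc_f_Cert_tree lc_f_rc_17_3 lc_f_rc_21_1 lc_f_Cert_tree lc_f_rc_20_1 lc_f_rc_5_3 lc_f_rc_5_1 lc_f_rc_17_3 lc_f_rc_10_1 lc_f_rc_17_3 lc_f_Cert_tree lc_f_rc_21_1 lc_f_Cert_tree lc_f_rc_20_1 lc_f_rc_21_1 lc_f_rc_21_1 lc_f_rc_17_3 lc_f_rc_17_3 lc_f_rc_19_5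 lc_f_rc_20_1 lc_f_Cert_tree lc_f_rc_20_1 lc_f_rc_10_3 lc_f_rc_17_3 lc_f_Cert_tree lc_f_rc_17_3 lc_f_Cert_tree lc_f_Cert_tree lc_f_rc_20_1 lc_f_rc_21_1 lc_f_rc_10_1 lc_f_rc_20_1 lc_f_rc_10_3 lc_f_rc_21_1 lc_f_Cert_tree lc_f_rc_10_3 lc_f_rc_17_3 lc_f_Cert_tree lc_f_rc_21_1 lc_f_rc_17_3 lc_f_Cert_tree lc_f_rc_20_1 lc_f_rc_21_1 lc_f_rc_5_3 lc_f_rc_14_3 lc_f_rc_10_3 lc_f_rc_10_3 lc_f_rc_14_3 lc_f_rc_10_3 lc_f_rc_21_1 lc_f_rc_21_1 lc_f_rc_20_1) (@D3.rec (fun _ => (Cert rels S Gen.f)) lc_f_rc_17_3 lc_f_rc_14_3 lc_f_rc_20_1 lc_f_rc_5_1 lc_f_rc_21_1 lc_f_rc_17_3 lc_f_rc_14_3 lc_f_rc_17_1 lc_f_rc_19_3 lc_f_rc_10_3 lc_f_rc_17_3 lc_f_Cert_tree lc_f_rc_21_1 lc_f_rc_19_5 lc_f_rc_5_1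 lc_f_rc_17_3 lc_f_rc_20_1 lc_f_rc_21_1 lc_f_rc_20_1 lc_f_rc_17_3 lc_f_rc_21_1 lc_f_rc_20_1 lc_f_rc_14_3 lc_f_rc_10_3 lc_f_rc_14_3 lc_f_rc_5_3 lc_f_rc_14_3 lc_f_rc_19_5 lc_f_rc_21_1 lc_f_rc_21_1 lc_f_Cert_tree lc_f_rc_20_1 lc_f_rc_10_3 lc_f_rc_10_1 lc_f_rc_17_3 lc_f_rc_5_1 lc_f_rc_10_1 lc_f_Cert_tree lc_f_rc_21_1 lc_f_rc_20_1 lc_f_rc_20_1 lc_f_rc_10_3 lc_f_rc_19_5 lc_f_rc_22_1 lc_f_rc_5_1 lc_f_rc_14_3 lc_f_rc_10_3 lc_f_rc_20_1 lc_f_rc_17_3 lc_f_rc_22_1 lc_f_rc_14_3 lc_f_Cert_tree lc_f_rc_17_3 lc_f_rc_19_3 lc_f_rc_22_1 lc_f_rc_17_3 lc_f_rc_17_3 lc_f_rc_17_3 lc_f_rc_17_3 lc_f_rc_14_3 lc_f_Cert_tree lc_f_rc_22_1) (@D3.rec (fun _ => (Cert rels S Gen.f)) lc_f_rc_14_3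 lc_f_Cert_tree lc_f_rc_17_3 lc_f_rc_14_3 lc_f_Cert_tree lc_f_rc_14_3 lc_f_rc_14_3 lc_f_rc_10_1 lc_f_Cert_tree lc_f_Cert_tree lc_f_rc_20_1 lc_f_rc_5_1 lc_f_rc_20_1 lc_f_rc_20_1 lc_f_rc_19_1 lc_f_rc_20_1 lc_f_rc_21_1 lc_f_rc_14_3 lc_f_rc_5_1 lc_f_rc_10_1 lc_f_rc_14_3 lc_f_rc_20_1 lc_f_rc_20_1 lc_f_rc_22_1 lc_f_rc_17_3 lc_f_rc_10_1 lc_f_rc_10_3 lc_f_rc_5_1 lc_f_rc_19_1 lc_f_rc_20_1 lc_f_rc_17_1 lc_f_rc_5_1 lc_f_rc_21_1 lc_f_rc_17_3 lc_f_rc_5_1 lc_f_rc_20_1 lc_f_rc_10_3 lc_f_rc_5_1 lc_f_rc_10_3 lc_f_rc_5_1 lc_f_rc_5_3 lc_f_Cert_tree lc_f_rc_14_3 lc_f_rc_21_1 lc_f_rc_17_3 lc_f_rc_14_3 lc_f_rc_5_1 lc_f_rc_21_1 lc_f_rc_10_3 lc_f_Cert_tree lc_f_rc_5_1 lc_f_rc_10_3 lc_f_rc_20_1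 lc_f_rc_10_3 lc_f_rc_17_3 lc_f_rc_21_1 lc_f_rc_20_1 lc_f_rc_21_1 lc_f_rc_17_3 lc_f_rc_10_3 lc_f_rc_10_3 lc_f_rc_14_3) (@D3.rec (fun _ => (Cert rels S Gen.f)) lc_f_rc_20_1 lc_f_rc_20_1 lc_f_rc_14_3 lc_f_rc_10_3 lc_f_rc_21_1 lc_f_rc_21_1 lc_f_rc_20_1 lc_f_rc_5_1 lc_f_rc_17_3 lc_f_rc_10_3 lc_f_rc_21_1 lc_f_rc_17_3 lc_f_rc_21_1 lc_f_rc_5_1 lc_f_rc_5_1 lc_f_rc_10_3 lc_f_rc_10_3 lc_f_rc_10_3 lc_f_rc_17_3 lc_f_rc_21_1 lc_f_rc_17_1 lc_f_Cert_tree lc_f_rc_17_3 lc_f_rc_5_1 lc_f_rc_17_1 lc_f_rc_14_3 lc_f_rc_5_1 lc_f_rc_14_3 lc_f_rc_10_3 lc_f_rc_17_3 lc_f_Cert_tree lc_f_rc_20_1 lc_f_rc_20_1 lc_f_rc_17_3 lc_f_rc_17_3 lc_f_rc_5_3 lc_f_rc_21_1 lc_f_rc_14_3 lc_f_rc_14_1 lc_f_rc_10_3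 lc_f_rc_21_1 lc_f_rc_10_3 lc_f_rc_5_1 lc_f_rc_10_3 lc_f_rc_17_3 lc_f_rc_19_1 lc_f_rc_21_1 lc_f_rc_5_3 lc_f_rc_22_1 lc_f_Cert_tree lc_f_rc_10_3 lc_f_rc_5_1 lc_f_rc_20_1 lc_f_Cert_tree lc_f_rc_14_3 lc_f_rc_14_3 lc_f_rc_20_1 lc_f_rc_20_1 lc_f_Cert_tree lc_f_rc_20_1 lc_f_rc_20_1 lc_f_rc_20_1) (@D3.rec (fun _ => (Cert rels S Gen.f)) lc_f_rc_14_3 lc_f_Cert_tree lc_f_rc_10_3 lc_f_rc_14_3 lc_f_Cert_tree lc_f_rc_5_3 lc_f_Cert_tree lc_f_rc_20_1 lc_f_rc_10_3 lc_f_rc_17_3 lc_f_Cert_tree lc_f_rc_10_3 lc_f_rc_17_3 lc_f_Cert_tree lc_f_rc_17_3 lc_f_rc_17_3 lc_f_rc_14_3 lc_f_rc_21_1 lc_f_rc_14_3 lc_f_rc_21_1 lc_f_Cert_tree lc_f_rc_20_1 lc_f_rc_21_1 lc_f_rc_5_1 lc_f_rc_5_1 lc_f_rc_21_1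 lc_f_rc_5_1 lc_f_rc_14_3 lc_f_rc_10_3 lc_f_rc_10_3 lc_f_rc_20_1 lc_f_rc_20_1 lc_f_rc_21_1 lc_f_rc_21_1 lc_f_rc_14_3 lc_f_rc_17_3 lc_f_rc_5_3 lc_f_rc_14_3 lc_f_rc_17_3 lc_f_rc_20_1 lc_f_rc_10_3 lc_f_rc_10_3 lc_f_rc_20_1 lc_f_rc_10_3 lc_f_rc_19_5 lc_f_rc_14_3 lc_f_Cert_tree lc_f_rc_17_3 lc_f_rc_14_3 lc_f_rc_10_1 lc_f_rc_5_1 lc_f_rc_17_3 lc_f_Cert_tree lc_f_rc_14_1 lc_f_rc_14_1 lc_f_rc_10_3 lc_f_rc_14_3 lc_f_Cert_tree lc_f_rc_20_1 lc_f_rc_17_3 lc_f_rc_20_1 lc_f_rc_17_1) (@D3.rec (fun _ => (Cert rels S Gen.f)) lc_f_Cert_tree lc_f_rc_20_1 lc_f_Cert_tree lc_f_rc_20_1 lc_f_rc_14_3 lc_f_rc_21_1 lc_f_Cert_tree lc_f_rc_20_1 lc_f_Cert_tree lc_f_rc_20_1 lc_f_rc_14_3 lc_f_rc_5_3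 lc_f_Cert_tree lc_f_rc_20_1 lc_f_rc_14_3 lc_f_rc_10_3 lc_f_rc_17_1 lc_f_Cert_tree lc_f_rc_20_1 lc_f_rc_20_1 lc_f_rc_20_1 lc_f_rc_20_1 lc_f_rc_21_1 lc_f_rc_19_1 lc_f_rc_14_3 lc_f_rc_5_1 lc_f_rc_10_3 lc_f_rc_14_3 lc_f_rc_20_1 lc_f_rc_22_1 lc_f_rc_14_3 lc_f_Cert_tree lc_f_rc_10_3 lc_f_rc_17_3 lc_f_Cert_tree lc_f_rc_5_3 lc_f_rc_20_1 lc_f_rc_10_3 lc_f_rc_17_3 lc_f_rc_21_1 lc_f_rc_10_3 lc_f_rc_17_3 lc_f_Cert_tree lc_f_rc_14_1 lc_f_rc_5_3 lc_f_rc_10_1 lc_f_Cert_tree lc_f_rc_17_3 lc_f_Cert_tree lc_f_rc_20_1 lc_f_rc_14_3 lc_f_rc_5_1 lc_f_Cert_tree lc_f_rc_20_1 lc_f_rc_19_1 lc_f_rc_20_1 lc_f_rc_20_1 lc_f_rc_10_3 lc_f_Cert_tree lc_f_rc_20_1 lc_f_rc_20_1 lc_f_rc_10_3) (@D3.rec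 (fun _ => (Cert rels S Gen.f)) lc_f_rc_19_3 lc_f_rc_19_1 lc_f_rc_10_3 lc_f_rc_20_1 lc_f_rc_19_5 lc_f_rc_19_5 lc_f_rc_17_1 lc_f_rc_14_3 lc_f_Cert_tree lc_f_rc_10_3 lc_f_rc_20_1 lc_f_rc_20_1 lc_f_rc_10_3 lc_f_rc_17_1 lc_f_rc_10_3 lc_f_rc_21_1 lc_f_rc_17_3 lc_f_rc_14_3 lc_f_rc_14_3 lc_f_Cert_tree lc_f_rc_10_3 lc_f_rc_17_1 lc_f_rc_21_1 lc_f_rc_10_3 lc_f_rc_21_1 lc_f_rc_17_3 lc_f_rc_14_3 lc_f_rc_14_3 lc_f_rc_10_3 lc_f_rc_10_3 lc_f_rc_22_1 lc_f_rc_10_3 lc_f_rc_17_1 lc_f_rc_19_1 lc_f_rc_20_1 lc_f_rc_17_3 lc_f_rc_21_1 lc_f_rc_17_1 lc_f_rc_21_1 lc_f_rc_14_3 lc_f_rc_21_1 lc_f_Cert_tree lc_f_rc_20_1 lc_f_Cert_tree lc_f_rc_10_3 lc_f_rc_10_3 lc_f_rc_10_3 lc_f_Cert_tree lc_f_rc_14_3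 lc_f_rc_17_3 lc_f_rc_5_1 lc_f_rc_10_3 lc_f_rc_17_3 lc_f_Cert_tree lc_f_rc_5_1 lc_f_rc_17_1 lc_f_rc_20_1 lc_f_rc_17_3 lc_f_rc_14_3 lc_f_Cert_tree lc_f_rc_10_1 lc_f_rc_10_3) (@D3.rec (fun _ => (Cert rels S Gen.f)) lc_f_rc_21_1 lc_f_Cert_tree lc_f_rc_5_1 lc_f_rc_20_1 lc_f_rc_19_3 lc_f_rc_20_1 lc_f_Cert_tree lc_f_rc_20_1 lc_f_rc_5_1 lc_f_rc_19_3 lc_f_rc_20_1 lc_f_rc_5_3 lc_f_rc_21_1 lc_f_rc_21_1 lc_f_rc_14_3 lc_f_Cert_tree lc_f_rc_21_1 lc_f_rc_10_3 lc_f_rc_17_3 lc_f_Cert_tree lc_f_rc_5_1 lc_f_rc_17_1 lc_f_rc_20_1 lc_f_rc_14_3 lc_f_rc_17_1 lc_f_rc_10_3 lc_f_rc_17_3 lc_f_rc_14_3 lc_f_rc_10_3 lc_f_rc_17_3 lc_f_Cert_tree lc_f_rc_10_3 lc_f_rc_17_3 lc_f_rc_17_3 lc_f_rc_17_3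 lc_f_rc_21_1 lc_f_rc_21_1 lc_f_Cert_tree lc_f_rc_20_1 lc_f_rc_21_1 lc_f_Cert_tree lc_f_rc_20_1 lc_f_rc_20_1 lc_f_rc_5_1 lc_f_rc_19_5 lc_f_rc_20_1 lc_f_rc_20_1 lc_f_rc_20_1 lc_f_rc_17_1 lc_f_Cert_tree lc_f_rc_17_1 lc_f_rc_10_3 lc_f_rc_5_3 lc_f_rc_20_1 lc_f_rc_19_3 lc_f_rc_10_3 lc_f_rc_10_3 lc_f_rc_17_3 lc_f_rc_21_1 lc_f_rc_20_1 lc_f_rc_21_1 lc_f_rc_17_1) (@D3.rec (fun _ => (Cert rels S Gen.f)) lc_f_rc_20_1 lc_f_rc_14_3 lc_f_rc_17_3 lc_f_rc_14_3 lc_f_Cert_tree lc_f_rc_14_3 lc_f_rc_21_1 lc_f_Cert_tree lc_f_Cert_tree lc_f_rc_20_1 lc_f_rc_21_1 lc_f_rc_14_3 lc_f_rc_17_3 lc_f_rc_17_3 lc_f_rc_21_1 lc_f_rc_14_3 lc_f_rc_20_1 lc_f_rc_10_3 lc_f_rc_21_1 lc_f_rc_21_1 lc_f_rc_21_1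 lc_f_rc_14_3 lc_f_rc_10_3 lc_f_rc_19_5 lc_f_rc_17_1 lc_f_rc_22_1 lc_f_rc_10_3 lc_f_rc_19_5 lc_f_rc_17_3 lc_f_rc_20_1 lc_f_rc_5_3 lc_f_rc_14_3 lc_f_Cert_tree lc_f_rc_14_3 lc_f_rc_14_3 lc_f_rc_17_1 lc_f_rc_22_1 lc_f_rc_20_1 lc_f_Cert_tree lc_f_rc_17_3 lc_f_rc_17_1 lc_f_Cert_tree lc_f_rc_21_1 lc_f_rc_10_3 lc_f_rc_21_1 lc_f_Cert_tree lc_f_rc_5_1 lc_f_rc_20_1 lc_f_rc_17_3 lc_f_rc_20_1 lc_f_Cert_tree lc_f_rc_21_1 lc_f_rc_10_3 lc_f_Cert_tree lc_f_rc_17_3 lc_f_rc_10_3 lc_f_rc_17_3 lc_f_Cert_tree lc_f_rc_5_1 lc_f_rc_20_1 lc_f_rc_14_3 lc_f_rc_19_3) (@D3.rec (fun _ => (Cert rels S Gen.f)) lc_f_Cert_tree lc_f_rc_21_1 lc_f_rc_10_3 lc_f_Cert_tree lc_f_rc_20_1 lc_f_rc_17_1 lc_f_rc_5_1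 lc_f_rc_14_3 lc_f_rc_21_1 lc_f_rc_10_3 lc_f_rc_17_3 lc_f_rc_20_1 lc_f_Cert_tree lc_f_rc_20_1 lc_f_rc_20_1 lc_f_Cert_tree lc_f_rc_5_1 lc_f_rc_20_1 lc_f_rc_10_3 lc_f_rc_17_3 lc_f_rc_14_1 lc_f_rc_10_3 lc_f_rc_17_3 lc_f_Cert_tree lc_f_rc_21_1 lc_f_rc_17_3 lc_f_Cert_tree lc_f_rc_21_1 lc_f_rc_14_3 lc_f_Cert_tree lc_f_rc_20_1 lc_f_rc_5_1 lc_f_rc_21_1 lc_f_rc_5_1 lc_f_rc_14_3 lc_f_rc_21_1 lc_f_rc_17_1 lc_f_rc_21_1 lc_f_rc_19_5 lc_f_Cert_tree lc_f_rc_20_1 lc_f_rc_21_1 lc_f_rc_17_1 lc_f_rc_22_1 lc_f_rc_20_1 lc_f_rc_21_1 lc_f_rc_10_1 lc_f_Cert_tree lc_f_rc_20_1 lc_f_rc_10_3 lc_f_rc_21_1 lc_f_rc_5_1 lc_f_rc_14_3 lc_f_rc_20_1 lc_f_rc_17_1 lc_f_rc_5_3 lc_f_rc_10_3 lc_f_rc_10_3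 lc_f_rc_21_1 lc_f_rc_17_3 lc_f_rc_17_3 lc_f_rc_10_3) (@D3.rec (fun _ => (Cert rels S Gen.f)) lc_f_Cert_tree lc_f_rc_21_1 lc_f_rc_21_1 lc_f_rc_17_3 lc_f_rc_10_1 lc_f_rc_20_1 lc_f_rc_22_1 lc_f_Cert_tree lc_f_rc_21_1 lc_f_rc_17_3 lc_f_rc_20_1 lc_f_rc_10_3 lc_f_Cert_tree lc_f_rc_10_3 lc_f_Cert_tree lc_f_rc_14_3 lc_f_Cert_tree lc_f_rc_14_3 lc_f_rc_5_1 lc_f_Cert_tree lc_f_rc_20_1 lc_f_rc_5_1 lc_f_rc_21_1 lc_f_rc_22_1 lc_f_rc_17_3 lc_f_rc_10_3 lc_f_rc_14_3 lc_f_rc_17_1 lc_f_Cert_tree lc_f_rc_10_3 lc_f_rc_14_3 lc_f_rc_10_3 lc_f_rc_17_3 lc_f_rc_14_3 lc_f_Cert_tree lc_f_Cert_tree lc_f_rc_10_3 lc_f_rc_14_3 lc_f_rc_10_3 lc_f_Cert_tree lc_f_rc_10_3 lc_f_Cert_tree lc_f_Cert_tree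 lc_f_rc_14_3 lc_f_rc_21_1 lc_f_rc_22_1 lc_f_rc_19_5 lc_f_rc_14_3 lc_f_Cert_tree lc_f_rc_17_3 lc_f_rc_14_3 lc_f_rc_10_3 lc_f_rc_14_3 lc_f_rc_10_1 lc_f_rc_10_3 lc_f_rc_17_3 lc_f_rc_10_3 lc_f_rc_20_1 lc_f_rc_5_3 lc_f_rc_10_3 lc_f_rc_5_1 lc_f_rc_17_3) (@D3.rec (fun _ => (Cert rels S Gen.f)) lc_f_rc_21_1 lc_f_rc_10_3 lc_f_rc_17_3 lc_f_Cert_tree lc_f_rc_5_3 lc_f_rc_19_3 lc_f_rc_20_1 lc_f_rc_14_3 lc_f_rc_21_1 lc_f_rc_21_1 lc_f_rc_5_1 lc_f_Cert_tree lc_f_rc_10_3 lc_f_rc_14_3 lc_f_rc_14_3 lc_f_rc_10_3 lc_f_rc_22_1 lc_f_Cert_tree lc_f_rc_20_1 lc_f_rc_5_1 lc_f_rc_20_1 lc_f_rc_21_1 lc_f_rc_14_3 lc_f_rc_17_3 lc_f_rc_14_3 lc_f_rc_5_1 lc_f_Cert_tree lc_f_rc_10_3 lc_f_rc_14_3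 lc_f_Cert_tree lc_f_rc_21_1 lc_f_rc_20_1 lc_f_rc_10_3 lc_f_rc_17_3 lc_f_rc_20_1 lc_f_rc_10_3 lc_f_rc_17_3 lc_f_Cert_tree lc_f_rc_17_3 lc_f_rc_17_3 lc_f_rc_14_3 lc_f_Cert_tree lc_f_rc_21_1 lc_f_rc_14_3 lc_f_Cert_tree lc_f_rc_20_1 lc_f_rc_5_1 lc_f_rc_5_1 lc_f_rc_22_1 lc_f_rc_17_1 lc_f_rc_20_1 lc_f_rc_20_1 lc_f_rc_20_1 lc_f_rc_20_1 lc_f_rc_20_1 lc_f_rc_19_1 lc_f_rc_5_3 lc_f_rc_14_3 lc_f_rc_20_1 lc_f_rc_5_1 lc_f_rc_17_3 lc_f_rc_19_5) (@D3.rec (fun _ => (Cert rels S Gen.f)) lc_f_rc_10_3 lc_f_rc_21_1 lc_f_rc_14_3 lc_f_Cert_tree lc_f_rc_14_3 lc_f_rc_14_3 lc_f_rc_10_3 lc_f_rc_17_3 lc_f_rc_14_3 lc_f_rc_5_3 lc_f_rc_17_3 lc_f_Cert_tree lc_f_rc_5_1 lc_f_rc_5_1 lc_f_rc_14_3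 lc_f_rc_10_3 lc_f_rc_10_1 lc_f_rc_5_1 lc_f_rc_10_3 lc_f_rc_17_3 lc_f_Cert_tree lc_f_rc_5_1 lc_f_rc_17_1 lc_f_rc_20_1 lc_f_rc_21_1 lc_f_rc_21_1 lc_f_rc_5_1 lc_f_rc_14_3 lc_f_rc_10_3 lc_f_rc_22_1 lc_f_rc_22_1 lc_f_rc_17_3 lc_f_rc_14_3 lc_f_rc_20_1 lc_f_rc_17_3 lc_f_rc_14_3 lc_f_rc_14_3 lc_f_Cert_tree lc_f_rc_20_1 lc_f_rc_21_1 lc_f_Cert_tree lc_f_rc_17_3 lc_f_rc_14_3 lc_f_Cert_tree lc_f_rc_14_3 lc_f_rc_17_3 lc_f_rc_14_3 lc_f_rc_17_3 lc_f_rc_22_1 lc_f_rc_17_3 lc_f_rc_14_3 lc_f_rc_21_1 lc_f_rc_10_3 lc_f_rc_17_3 lc_f_Cert_tree lc_f_rc_20_1 lc_f_rc_21_1 lc_f_rc_20_1 lc_f_rc_10_1 lc_f_rc_10_3 lc_f_rc_5_1 lc_f_rc_14_3) (@D3.rec (fun _ => (Cert rels S Gen.f)) lc_f_rc_10_3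 lc_f_rc_17_3 lc_f_Cert_tree lc_f_rc_14_3 lc_f_rc_17_3 lc_f_rc_5_1 lc_f_rc_17_3 lc_f_rc_17_3 lc_f_rc_22_1 lc_f_Cert_tree lc_f_rc_19_1 lc_f_rc_14_1 lc_f_rc_22_1 lc_f_rc_19_3 lc_f_rc_14_3 lc_f_rc_20_1 lc_f_rc_20_1 lc_f_rc_21_1 lc_f_rc_10_3 lc_f_rc_10_3 lc_f_rc_10_3 lc_f_Cert_tree lc_f_rc_10_3 lc_f_rc_17_1 lc_f_rc_20_1 lc_f_rc_14_3 lc_f_rc_19_3 lc_f_Cert_tree lc_f_Cert_tree lc_f_rc_10_3 lc_f_rc_14_3 lc_f_rc_17_3 lc_f_Cert_tree lc_f_rc_10_3 lc_f_rc_17_3 lc_f_rc_20_1 lc_f_rc_21_1 lc_f_rc_20_1 lc_f_rc_20_1 lc_f_rc_14_3 lc_f_rc_5_3 lc_f_rc_20_1 lc_f_rc_21_1 lc_f_rc_19_3 lc_f_rc_21_1 lc_f_rc_14_1 lc_f_Cert_tree lc_f_rc_20_1 lc_f_rc_19_3 lc_f_rc_14_3 lc_f_Cert_tree lc_f_rc_5_1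 lc_f_Cert_tree lc_f_rc_10_3 lc_f_Cert_tree lc_f_rc_21_1 lc_f_rc_20_1 lc_f_rc_14_3 lc_f_rc_17_3 lc_f_rc_20_1 lc_f_rc_14_3 lc_f_rc_14_3) (@D3.rec (fun _ => (Cert rels S Gen.f)) lc_f_Cert_tree lc_f_rc_21_1 lc_f_rc_20_1 lc_f_Cert_tree lc_f_rc_17_3 lc_f_rc_21_1 lc_f_Cert_tree lc_f_rc_21_1 lc_f_rc_14_3 lc_f_Cert_tree lc_f_rc_20_1 lc_f_rc_5_1 lc_f_rc_17_3 lc_f_rc_19_3 lc_f_rc_17_3 lc_f_rc_10_3 lc_f_rc_17_3 lc_f_rc_14_3 lc_f_rc_17_3 lc_f_rc_19_5 lc_f_rc_21_1 lc_f_rc_10_3 lc_f_rc_14_3 lc_f_rc_19_3 lc_f_rc_5_1 lc_f_rc_10_3 lc_f_rc_5_3 lc_f_rc_17_3 lc_f_rc_10_3 lc_f_Cert_tree lc_f_Cert_tree lc_f_rc_14_3 lc_f_rc_22_1 lc_f_rc_22_1 lc_f_rc_21_1 lc_f_rc_14_1 lc_f_rc_14_3 lc_f_rc_10_3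 lc_f_rc_17_3 lc_f_rc_20_1 lc_f_rc_5_1 lc_f_rc_14_1 lc_f_rc_10_3 lc_f_rc_17_3 lc_f_rc_14_3 lc_f_rc_10_3 lc_f_rc_5_1 lc_f_Cert_tree lc_f_rc_17_3 lc_f_rc_14_3 lc_f_rc_14_3 lc_f_rc_14_3 lc_f_rc_14_3 lc_f_rc_5_1 lc_f_rc_10_3 lc_f_Cert_tree lc_f_Cert_tree lc_f_rc_5_1 lc_f_rc_14_3 lc_f_Cert_tree lc_f_rc_20_1 lc_f_rc_21_1) (@D3.rec (fun _ => (Cert rels S Gen.f)) lc_f_rc_14_3 lc_f_rc_17_3 lc_f_rc_21_1 lc_f_rc_14_3 lc_f_rc_19_3 lc_f_Cert_tree lc_f_rc_10_3 lc_f_rc_17_3 lc_f_rc_5_1 lc_f_rc_20_1 lc_f_rc_21_1 lc_f_rc_20_1 lc_f_rc_10_3 lc_f_Cert_tree lc_f_rc_10_3 lc_f_rc_17_3 lc_f_rc_21_1 lc_f_rc_14_1 lc_f_rc_17_3 lc_f_Cert_tree lc_f_rc_17_3 lc_f_rc_5_1 lc_f_Cert_tree lc_f_rc_20_1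 lc_f_rc_14_3 lc_f_Cert_tree lc_f_rc_20_1 lc_f_rc_5_3 lc_f_rc_5_3 lc_f_rc_17_3 lc_f_rc_10_3 lc_f_rc_10_3 lc_f_rc_21_1 lc_f_Cert_tree lc_f_rc_14_3 lc_f_rc_17_1 lc_f_rc_14_1 lc_f_rc_21_1 lc_f_rc_10_3 lc_f_Cert_tree lc_f_rc_20_1 lc_f_rc_14_1 lc_f_rc_10_3 lc_f_rc_5_3 lc_f_rc_17_3 lc_f_Cert_tree lc_f_Cert_tree lc_f_rc_14_1 lc_f_rc_5_1 lc_f_Cert_tree lc_f_rc_20_1 lc_f_rc_19_3 lc_f_rc_14_3 lc_f_rc_10_3 lc_f_rc_17_3 lc_f_Cert_tree lc_f_rc_20_1 lc_f_rc_17_3 lc_f_rc_5_1 lc_f_rc_5_3 lc_f_rc_14_1 lc_f_rc_10_3) (@D3.rec (fun _ => (Cert rels S Gen.f)) lc_f_Cert_tree lc_f_Cert_tree lc_f_rc_22_1 lc_f_Cert_tree lc_f_Cert_tree lc_f_rc_20_1 lc_f_rc_17_3 lc_f_rc_17_1 lc_f_rc_5_3 lc_f_rc_10_3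 lc_f_rc_10_3 lc_f_Cert_tree lc_f_rc_20_1 lc_f_Cert_tree lc_f_Cert_tree lc_f_rc_20_1 lc_f_rc_10_3 lc_f_rc_17_3 lc_f_rc_20_1 lc_f_rc_22_1 lc_f_Cert_tree lc_f_rc_21_1 lc_f_rc_17_3 lc_f_Cert_tree lc_f_rc_20_1 lc_f_rc_21_1 lc_f_Cert_tree lc_f_rc_20_1 lc_f_rc_17_3 lc_f_Cert_tree lc_f_rc_17_3 lc_f_Cert_tree lc_f_rc_17_3 lc_f_Cert_tree lc_f_rc_20_1 lc_f_rc_21_1 lc_f_Cert_tree lc_f_rc_20_1 lc_f_rc_19_1 lc_f_rc_10_3 lc_f_rc_10_1 lc_f_rc_17_3 lc_f_Cert_tree lc_f_rc_10_3 lc_f_rc_5_1 lc_f_rc_5_1 lc_f_Cert_tree lc_f_rc_17_3 lc_f_rc_14_3 lc_f_Cert_tree lc_f_rc_20_1 lc_f_rc_19_1 lc_f_rc_5_1 lc_f_rc_21_1 lc_f_rc_17_3 lc_f_rc_5_3 lc_f_rc_20_1 lc_f_rc_14_3 lc_f_rc_17_3 lc_f_rc_22_1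 lc_f_rc_20_1 lc_f_rc_10_3) (@D3.rec (fun _ => (Cert rels S Gen.f)) lc_f_rc_17_3 lc_f_rc_14_3 lc_f_rc_21_1 lc_f_rc_10_3 lc_f_rc_14_3 lc_f_rc_19_3 lc_f_rc_22_1 lc_f_rc_20_1 lc_f_rc_14_3 lc_f_rc_17_3 lc_f_rc_19_3 lc_f_rc_10_3 lc_f_rc_17_3 lc_f_Cert_tree lc_f_rc_14_3 lc_f_rc_19_5 lc_f_rc_17_3 lc_f_rc_17_3 lc_f_rc_14_3 lc_f_rc_17_3 lc_f_rc_5_1 lc_f_rc_21_1 lc_f_rc_17_3 lc_f_rc_14_3 lc_f_rc_10_1 lc_f_rc_17_3 lc_f_rc_17_3 lc_f_rc_10_3 lc_f_rc_5_3 lc_f_rc_22_1 lc_f_rc_20_1 lc_f_rc_21_1 lc_f_rc_10_1 lc_f_rc_17_3 lc_f_rc_10_3 lc_f_rc_19_3 lc_f_Cert_tree lc_f_rc_10_3 lc_f_rc_5_1 lc_f_rc_20_1 lc_f_rc_10_3 lc_f_Cert_tree lc_f_rc_10_3 lc_f_rc_20_1 lc_f_rc_19_3 lc_f_Cert_tree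 lc_f_rc_14_3 lc_f_rc_21_1 lc_f_Cert_tree lc_f_rc_20_1 lc_f_rc_5_1 lc_f_rc_5_1 lc_f_rc_21_1 lc_f_rc_10_3 lc_f_rc_21_1 lc_f_rc_14_3 lc_f_rc_17_1 lc_f_Cert_tree lc_f_rc_10_1 lc_f_rc_10_1 lc_f_rc_10_3 lc_f_rc_19_3) (@D3.rec (fun _ => (Cert rels S Gen.f)) lc_f_Cert_tree lc_f_rc_21_1 lc_f_rc_20_1 lc_f_Cert_tree lc_f_rc_20_1 lc_f_rc_14_3 lc_f_rc_14_3 lc_f_rc_10_3 lc_f_Cert_tree lc_f_rc_19_3 lc_f_Cert_tree lc_f_rc_14_3 lc_f_rc_5_1 lc_f_Cert_tree lc_f_rc_20_1 lc_f_rc_21_1 lc_f_rc_21_1 lc_f_rc_14_3 lc_f_rc_14_3 lc_f_rc_17_3 lc_f_rc_21_1 lc_f_rc_19_5 lc_f_Cert_tree lc_f_rc_20_1 lc_f_rc_14_3 lc_f_rc_10_1 lc_f_rc_14_3 lc_f_rc_17_3 lc_f_rc_14_3 lc_f_rc_5_1 lc_f_rc_10_3 lc_f_rc_14_3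 lc_f_rc_14_3 lc_f_rc_20_1 lc_f_rc_17_1 lc_f_rc_20_1 lc_f_rc_14_1 lc_f_rc_14_3 lc_f_rc_19_5 lc_f_rc_21_1 lc_f_rc_21_1 lc_f_rc_17_1 lc_f_Cert_tree lc_f_rc_20_1 lc_f_rc_14_3 lc_f_rc_20_1 lc_f_rc_10_3 lc_f_rc_22_1 lc_f_rc_14_3 lc_f_rc_17_3 lc_f_rc_17_3 lc_f_rc_14_3 lc_f_rc_20_1 lc_f_rc_20_1 lc_f_rc_14_3 lc_f_rc_5_1 lc_f_rc_20_1 lc_f_rc_5_1 lc_f_rc_10_3 lc_f_rc_14_3 lc_f_rc_14_3 lc_f_rc_19_1) (@D3.rec (fun _ => (Cert rels S Gen.f)) lc_f_rc_21_1 lc_f_rc_10_3 lc_f_rc_17_3 lc_f_rc_19_1 lc_f_rc_10_3 lc_f_rc_17_3 lc_f_rc_21_1 lc_f_rc_22_1 lc_f_rc_21_1 lc_f_rc_5_3 lc_f_Cert_tree lc_f_rc_20_1 lc_f_rc_14_3 lc_f_rc_17_3 lc_f_Cert_tree lc_f_rc_21_1 lc_f_rc_10_3 lc_f_rc_17_3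 lc_f_rc_17_3 lc_f_Cert_tree lc_f_rc_20_1 lc_f_rc_5_1 lc_f_rc_5_1 lc_f_Cert_tree lc_f_rc_17_3 lc_f_rc_21_1 lc_f_rc_20_1 lc_f_rc_14_3 lc_f_rc_22_1 lc_f_rc_14_3 lc_f_rc_14_3 lc_f_Cert_tree lc_f_Cert_tree lc_f_rc_20_1 lc_f_rc_17_3 lc_f_rc_14_3 lc_f_rc_5_3 lc_f_rc_10_3 lc_f_rc_17_3 lc_f_rc_10_3 lc_f_rc_14_3 lc_f_rc_20_1 lc_f_rc_17_3 lc_f_rc_14_3 lc_f_rc_22_1 lc_f_rc_10_3 lc_f_Cert_tree lc_f_rc_10_1 lc_f_rc_5_1 lc_f_rc_17_3 lc_f_rc_19_3 lc_f_rc_19_5 lc_f_Cert_tree lc_f_rc_20_1 lc_f_rc_19_3 lc_f_rc_21_1 lc_f_rc_17_3 lc_f_rc_22_1 lc_f_rc_19_5 lc_f_rc_17_3 lc_f_rc_21_1 lc_f_rc_21_1) (@D3.rec (fun _ => (Cert rels S Gen.f)) lc_f_rc_10_3 lc_f_Cert_tree lc_f_rc_20_1 lc_f_rc_17_3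 lc_f_Cert_tree lc_f_Cert_tree lc_f_rc_10_3 lc_f_rc_14_3 lc_f_rc_19_3 lc_f_rc_10_3 lc_f_rc_19_5 lc_f_rc_14_3 lc_f_rc_17_3 lc_f_rc_19_5 lc_f_Cert_tree lc_f_rc_21_1 lc_f_rc_5_1 lc_f_Cert_tree lc_f_rc_20_1 lc_f_rc_17_3 lc_f_Cert_tree lc_f_rc_20_1 lc_f_rc_5_3 lc_f_rc_21_1 lc_f_rc_21_1 lc_f_rc_20_1 lc_f_rc_14_3 lc_f_rc_10_3 lc_f_rc_17_3 lc_f_Cert_tree lc_f_rc_5_3 lc_f_rc_14_3 lc_f_rc_5_1 lc_f_rc_14_3 lc_f_Cert_tree lc_f_rc_21_1 lc_f_rc_14_3 lc_f_rc_20_1 lc_f_rc_10_3 lc_f_rc_17_3 lc_f_rc_20_1 lc_f_rc_14_3 lc_f_rc_10_3 lc_f_rc_20_1 lc_f_rc_17_3 lc_f_rc_20_1 lc_f_Cert_tree lc_f_Cert_tree lc_f_rc_20_1 lc_f_rc_17_3 lc_f_rc_5_1 lc_f_rc_10_1 lc_f_rc_10_3 lc_f_Cert_tree lc_f_rc_17_3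 lc_f_rc_21_1 lc_f_Cert_tree lc_f_rc_20_1 lc_f_rc_14_3 lc_f_Cert_tree lc_f_Cert_tree lc_f_Cert_tree) (@D3.rec (fun _ => (Cert rels S Gen.f)) lc_f_rc_20_1 lc_f_rc_19_3 lc_f_rc_17_3 lc_f_rc_20_1 lc_f_rc_19_5 lc_f_rc_20_1 lc_f_rc_5_1 lc_f_rc_20_1 lc_f_rc_14_3 lc_f_rc_21_1 lc_f_rc_5_1 lc_f_Cert_tree lc_f_rc_20_1 lc_f_rc_17_3 lc_f_Cert_tree lc_f_rc_19_3 lc_f_rc_10_3 lc_f_rc_17_3 lc_f_rc_19_3 lc_f_Cert_tree lc_f_rc_20_1 lc_f_rc_21_1 lc_f_rc_17_3 lc_f_rc_14_1 lc_f_rc_20_1 lc_f_rc_21_1 lc_f_rc_17_3 lc_f_rc_20_1 lc_f_rc_20_1 lc_f_rc_17_3 lc_f_rc_21_1 lc_f_rc_17_3 lc_f_rc_17_3 lc_f_rc_20_1 lc_f_rc_14_1 lc_f_rc_17_3 lc_f_rc_14_3 lc_f_rc_14_3 lc_f_rc_19_5 lc_f_rc_14_3 lc_f_rc_14_3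 lc_f_rc_10_3 lc_f_rc_14_3 lc_f_rc_17_3 lc_f_rc_19_3 lc_f_Cert_tree lc_f_rc_20_1 lc_f_rc_10_3 lc_f_rc_17_3 lc_f_rc_17_3 lc_f_rc_14_3 lc_f_rc_5_1 lc_f_rc_10_3 lc_f_Cert_tree lc_f_rc_20_1 lc_f_rc_17_3 lc_f_rc_14_3 lc_f_rc_17_3 lc_f_rc_17_3 lc_f_rc_21_1 lc_f_rc_21_1 lc_f_rc_17_3) (@D3.rec (fun _ => (Cert rels S Gen.f)) lc_f_rc_14_3 lc_f_rc_14_3 lc_f_rc_19_1 lc_f_rc_14_3 lc_f_rc_10_3 lc_f_rc_10_3 lc_f_rc_17_3 lc_f_rc_14_3 lc_f_Cert_tree lc_f_Cert_tree lc_f_rc_20_1 lc_f_rc_19_3 lc_f_rc_21_1 lc_f_rc_17_1 lc_f_Cert_tree lc_f_rc_20_1 lc_f_rc_19_3 lc_f_Cert_tree lc_f_rc_20_1 lc_f_rc_17_3 lc_f_rc_17_1 lc_f_Cert_tree lc_f_rc_20_1 lc_f_rc_20_1 lc_f_rc_20_1 lc_f_Cert_tree lc_f_rc_21_1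 lc_f_Cert_tree lc_f_rc_20_1 lc_f_rc_20_1 lc_f_Cert_tree lc_f_rc_21_1 lc_f_rc_21_1 lc_f_Cert_tree lc_f_rc_17_3 lc_f_rc_17_1 lc_f_Cert_tree lc_f_rc_20_1 lc_f_rc_17_3 lc_f_Cert_tree lc_f_rc_17_3 lc_f_rc_17_3 lc_f_rc_21_1 lc_f_Cert_tree lc_f_rc_14_3 lc_f_rc_17_1 lc_f_rc_20_1 lc_f_rc_21_1 lc_f_rc_20_1 lc_f_rc_10_3 lc_f_Cert_tree lc_f_rc_14_3 lc_f_Cert_tree lc_f_rc_14_3 lc_f_rc_17_1 lc_f_rc_20_1 lc_f_rc_17_3 lc_f_rc_17_3 lc_f_Cert_tree lc_f_rc_10_3 lc_f_rc_21_1 lc_f_Cert_tree) (@D3.rec (fun _ => (Cert rels S Gen.f)) lc_f_rc_17_3 lc_f_rc_21_1 lc_f_Cert_tree lc_f_rc_22_1 lc_f_rc_20_1 lc_f_rc_19_3 lc_f_rc_10_3 lc_f_rc_5_1 lc_f_rc_21_1 lc_f_Cert_tree lc_f_rc_14_3 lc_f_rc_21_1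 lc_f_rc_20_1 lc_f_rc_14_3 lc_f_rc_19_5 lc_f_rc_21_1 lc_f_rc_10_3 lc_f_rc_14_3 lc_f_rc_17_3 lc_f_Cert_tree lc_f_rc_14_3 lc_f_Cert_tree lc_f_rc_14_3 lc_f_rc_17_1 lc_f_rc_20_1 lc_f_rc_21_1 lc_f_rc_17_3 lc_f_rc_14_3 lc_f_rc_17_3 lc_f_rc_14_3 lc_f_rc_21_1 lc_f_rc_14_3 lc_f_rc_19_3 lc_f_Cert_tree lc_f_Cert_tree lc_f_rc_20_1 lc_f_rc_10_3 lc_f_rc_10_3 lc_f_rc_17_3 lc_f_rc_17_3 lc_f_rc_10_3 lc_f_rc_19_3 lc_f_Cert_tree lc_f_rc_20_1 lc_f_rc_14_3 lc_f_rc_19_5 lc_f_rc_17_3 lc_f_rc_21_1 lc_f_rc_14_3 lc_f_rc_10_3 lc_f_rc_10_3 lc_f_rc_17_3 lc_f_rc_21_1 lc_f_Cert_tree lc_f_rc_20_1 lc_f_rc_17_3 lc_f_Cert_tree lc_f_rc_14_3 lc_f_rc_10_1 lc_f_rc_14_3 lc_f_rc_20_1 lc_f_rc_19_3)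
def ce_f_2 : D2 → D3 → (Cert rels S Gen.f) := @D2.rec (fun _ => D3 → (Cert rels S Gen.f)) (@D3.rec (fun _ => (Cert rels S Gen.f)) lc_f_rc_19_3 lc_f_rc_14_3 lc_f_rc_21_1 lc_f_rc_10_3 lc_f_rc_17_3 lc_f_rc_14_1 lc_f_rc_10_3 lc_f_rc_17_3 lc_f_rc_10_3 lc_f_rc_17_3 lc_f_rc_17_3 lc_f_rc_14_3 lc_f_rc_14_3 lc_f_Cert_tree lc_f_rc_21_1 lc_f_rc_5_1 lc_f_Cert_tree lc_f_rc_20_1 lc_f_rc_17_3 lc_f_Cert_tree lc_f_rc_20_1 lc_f_rc_14_3 lc_f_rc_20_1 lc_f_rc_17_3 lc_f_rc_10_3 lc_f_rc_21_1 lc_f_rc_19_3 lc_f_Cert_tree lc_f_rc_20_1 lc_f_rc_19_5 lc_f_rc_19_5 lc_f_rc_21_1 lc_f_rc_10_3 lc_f_rc_17_3 lc_f_rc_14_3 lc_f_rc_14_3 lc_f_rc_5_1 lc_f_rc_17_3 lc_f_rc_17_3 lc_f_Cert_tree lc_f_rc_20_1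 lc_f_rc_5_1 lc_f_rc_17_3 lc_f_rc_14_3 lc_f_Cert_tree lc_f_rc_5_1 lc_f_rc_5_3 lc_f_rc_14_3 lc_f_rc_5_3 lc_f_rc_17_3 lc_f_Cert_tree lc_f_Cert_tree lc_f_rc_14_3 lc_f_rc_20_1 lc_f_rc_19_3 lc_f_rc_10_3 lc_f_rc_10_3 lc_f_rc_10_3 lc_f_Cert_tree lc_f_rc_21_1 lc_f_rc_5_1 lc_f_Cert_tree) (@D3.rec (fun _ => (Cert rels S Gen.f)) lc_f_rc_20_1 lc_f_rc_14_3 lc_f_rc_17_3 lc_f_Cert_tree lc_f_rc_20_1 lc_f_rc_20_1 lc_f_rc_21_1 lc_f_rc_19_3 lc_f_Cert_tree lc_f_rc_20_1 lc_f_rc_5_1 lc_f_rc_22_1 lc_f_rc_10_3 lc_f_Cert_tree lc_f_rc_20_1 lc_f_rc_5_1 lc_f_Cert_tree lc_f_rc_20_1 lc_f_rc_14_3 lc_f_Cert_tree lc_f_rc_20_1 lc_f_rc_22_1 lc_f_Cert_tree lc_f_rc_10_1 lc_f_Cert_tree lc_f_rc_20_1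 lc_f_rc_20_1 lc_f_rc_19_5 lc_f_rc_17_3 lc_f_rc_22_1 lc_f_rc_17_3 lc_f_rc_14_3 lc_f_rc_10_3 lc_f_rc_5_1 lc_f_Cert_tree lc_f_rc_20_1 lc_f_rc_17_3 lc_f_rc_14_3 lc_f_rc_21_1 lc_f_rc_17_3 lc_f_Cert_tree lc_f_rc_17_3 lc_f_rc_17_3 lc_f_rc_14_3 lc_f_Cert_tree lc_f_rc_10_3 lc_f_rc_10_3 lc_f_rc_20_1 lc_f_rc_14_3 lc_f_rc_20_1 lc_f_rc_20_1 lc_f_rc_20_1 lc_f_Cert_tree lc_f_rc_21_1 lc_f_rc_17_3 lc_f_Cert_tree lc_f_rc_14_3 lc_f_Cert_tree lc_f_rc_17_1 lc_f_rc_20_1 lc_f_rc_20_1 lc_f_rc_5_1) (@D3.rec (fun _ => (Cert rels S Gen.f)) lc_f_rc_5_1 lc_f_Cert_tree lc_f_rc_5_1 lc_f_rc_14_3 lc_f_rc_17_3 lc_f_Cert_tree lc_f_rc_5_1 lc_f_rc_14_3 lc_f_Cert_tree lc_f_Cert_tree lc_f_rc_20_1 lc_f_rc_19_3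 lc_f_rc_22_1 lc_f_rc_17_3 lc_f_Cert_tree lc_f_rc_14_3 lc_f_rc_17_3 lc_f_Cert_tree lc_f_rc_5_1 lc_f_rc_17_3 lc_f_rc_14_3 lc_f_Cert_tree lc_f_rc_21_1 lc_f_rc_19_3 lc_f_rc_20_1 lc_f_rc_14_3 lc_f_rc_17_1 lc_f_rc_14_3 lc_f_rc_10_3 lc_f_Cert_tree lc_f_rc_21_1 lc_f_rc_20_1 lc_f_rc_20_1 lc_f_rc_20_1 lc_f_rc_20_1 lc_f_rc_10_1 lc_f_rc_14_1 lc_f_rc_17_3 lc_f_rc_14_3 lc_f_Cert_tree lc_f_rc_17_1 lc_f_rc_20_1 lc_f_rc_10_3 lc_f_rc_20_1 lc_f_rc_17_3 lc_f_Cert_tree lc_f_rc_20_1 lc_f_rc_14_3 lc_f_rc_5_3 lc_f_rc_14_3 lc_f_Cert_tree lc_f_rc_10_3 lc_f_Cert_tree lc_f_rc_21_1 lc_f_rc_20_1 lc_f_rc_17_1 lc_f_rc_20_1 lc_f_rc_5_3 lc_f_rc_14_3 lc_f_Cert_tree lc_f_rc_17_3 lc_f_Cert_tree)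 (@D3.rec (fun _ => (Cert rels S Gen.f)) lc_f_rc_19_3 lc_f_rc_21_1 lc_f_rc_20_1 lc_f_rc_10_3 lc_f_rc_14_1 lc_f_Cert_tree lc_f_rc_21_1 lc_f_rc_5_1 lc_f_rc_10_3 lc_f_rc_20_1 lc_f_rc_14_3 lc_f_rc_19_3 lc_f_rc_19_5 lc_f_rc_21_1 lc_f_rc_10_3 lc_f_rc_19_3 lc_f_rc_14_3 lc_f_rc_14_3 lc_f_rc_21_1 lc_f_rc_20_1 lc_f_rc_20_1 lc_f_rc_17_3 lc_f_Cert_tree lc_f_rc_21_1 lc_f_rc_17_3 lc_f_rc_14_3 lc_f_Cert_tree lc_f_rc_21_1 lc_f_rc_10_3 lc_f_rc_20_1 lc_f_rc_21_1 lc_f_rc_14_3 lc_f_Cert_tree lc_f_rc_21_1 lc_f_rc_14_3 lc_f_rc_20_1 lc_f_rc_10_3 lc_f_rc_21_1 lc_f_rc_10_3 lc_f_rc_21_1 lc_f_rc_20_1 lc_f_rc_5_1 lc_f_rc_14_3 lc_f_rc_5_3 lc_f_rc_20_1 lc_f_rc_20_1 lc_f_rc_21_1 lc_f_Cert_tree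 lc_f_rc_17_3 lc_f_rc_17_3 lc_f_rc_14_3 lc_f_Cert_tree lc_f_rc_10_3 lc_f_rc_5_1 lc_f_rc_20_1 lc_f_rc_10_3 lc_f_Cert_tree lc_f_rc_21_1 lc_f_rc_20_1 lc_f_rc_10_3 lc_f_rc_10_3 lc_f_rc_5_3) (@D3.rec (fun _ => (Cert rels S Gen.f)) lc_f_rc_5_1 lc_f_rc_20_1 lc_f_rc_20_1 lc_f_rc_20_1 lc_f_rc_5_1 lc_f_Cert_tree lc_f_Cert_tree lc_f_rc_20_1 lc_f_rc_17_3 lc_f_rc_5_1 lc_f_Cert_tree lc_f_rc_20_1 lc_f_Cert_tree lc_f_rc_5_1 lc_f_Cert_tree lc_f_rc_20_1 lc_f_rc_19_5 lc_f_Cert_tree lc_f_rc_20_1 lc_f_Cert_tree lc_f_rc_20_1 lc_f_rc_20_1 lc_f_rc_17_3 lc_f_Cert_tree lc_f_rc_21_1 lc_f_rc_21_1 lc_f_rc_17_3 lc_f_Cert_tree lc_f_rc_5_1 lc_f_rc_17_3 lc_f_Cert_tree lc_f_rc_20_1 lc_f_rc_17_3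 lc_f_rc_17_1 lc_f_Cert_tree lc_f_rc_20_1 lc_f_rc_21_1 lc_f_Cert_tree lc_f_rc_10_3 lc_f_rc_20_1 lc_f_rc_21_1 lc_f_rc_17_3 lc_f_Cert_tree lc_f_rc_21_1 lc_f_Cert_tree lc_f_Cert_tree lc_f_rc_22_1 lc_f_rc_20_1 lc_f_rc_19_3 lc_f_rc_10_3 lc_f_rc_21_1 lc_f_rc_17_3 lc_f_rc_17_3 lc_f_Cert_tree lc_f_rc_20_1 lc_f_rc_10_3 lc_f_Cert_tree lc_f_rc_20_1 lc_f_rc_5_1 lc_f_Cert_tree lc_f_rc_17_1 lc_f_Cert_tree) (@D3.rec (fun _ => (Cert rels S Gen.f)) lc_f_rc_20_1 lc_f_rc_14_3 lc_f_rc_17_3 lc_f_rc_14_3 lc_f_rc_17_3 lc_f_rc_19_5 lc_f_rc_5_1 lc_f_rc_17_3 lc_f_Cert_tree lc_f_rc_20_1 lc_f_rc_20_1 lc_f_rc_17_3 lc_f_rc_17_3 lc_f_Cert_tree lc_f_rc_10_3 lc_f_rc_17_1 lc_f_rc_20_1 lc_f_rc_21_1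 lc_f_rc_17_3 lc_f_Cert_tree lc_f_rc_20_1 lc_f_rc_19_1 lc_f_rc_14_3 lc_f_Cert_tree lc_f_rc_5_3 lc_f_rc_20_1 lc_f_rc_14_3 lc_f_Cert_tree lc_f_rc_5_1 lc_f_rc_5_1 lc_f_Cert_tree lc_f_rc_14_3 lc_f_rc_21_1 lc_f_rc_10_1 lc_f_Cert_tree lc_f_rc_20_1 lc_f_rc_19_3 lc_f_rc_21_1 lc_f_rc_20_1 lc_f_rc_10_1 lc_f_rc_14_1 lc_f_rc_17_3 lc_f_rc_17_3 lc_f_rc_21_1 lc_f_Cert_tree lc_f_rc_21_1 lc_f_rc_17_3 lc_f_rc_20_1 lc_f_rc_21_1 lc_f_rc_14_3 lc_f_Cert_tree lc_f_rc_14_3 lc_f_rc_17_1 lc_f_rc_10_3 lc_f_rc_19_3 lc_f_rc_21_1 lc_f_rc_19_3 lc_f_rc_20_1 lc_f_rc_22_1 lc_f_rc_17_3 lc_f_Cert_tree lc_f_rc_5_1) (@D3.rec (fun _ => (Cert rels S Gen.f)) lc_f_rc_10_3 lc_f_rc_22_1 lc_f_Cert_tree lc_f_rc_5_1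 lc_f_rc_10_3 lc_f_rc_20_1 lc_f_rc_14_3 lc_f_Cert_tree lc_f_rc_17_3 lc_f_rc_20_1 lc_f_rc_5_3 lc_f_rc_10_3 lc_f_Cert_tree lc_f_rc_17_3 lc_f_Cert_tree lc_f_rc_21_1 lc_f_rc_20_1 lc_f_rc_20_1 lc_f_rc_5_3 lc_f_rc_14_3 lc_f_Cert_tree lc_f_rc_17_3 lc_f_Cert_tree lc_f_rc_19_5 lc_f_rc_21_1 lc_f_rc_20_1 lc_f_rc_17_1 lc_f_rc_19_3 lc_f_rc_10_3 lc_f_rc_14_1 lc_f_rc_14_3 lc_f_rc_5_1 lc_f_rc_5_3 lc_f_rc_19_3 lc_f_rc_21_1 lc_f_rc_21_1 lc_f_rc_17_3 lc_f_rc_17_3 lc_f_Cert_tree lc_f_rc_21_1 lc_f_rc_17_3 lc_f_rc_14_3 lc_f_Cert_tree lc_f_rc_10_3 lc_f_rc_5_1 lc_f_rc_20_1 lc_f_rc_5_1 lc_f_rc_20_1 lc_f_rc_10_3 lc_f_rc_21_1 lc_f_rc_21_1 lc_f_rc_10_3 lc_f_rc_20_1 lc_f_rc_5_1 lc_f_rc_19_3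 lc_f_rc_19_3 lc_f_rc_10_3 lc_f_rc_5_3 lc_f_rc_19_3 lc_f_rc_17_3 lc_f_rc_17_3 lc_f_rc_14_3) (@D3.rec (fun _ => (Cert rels S Gen.f)) lc_f_Cert_tree lc_f_rc_14_3 lc_f_rc_17_1 lc_f_rc_20_1 lc_f_rc_14_3 lc_f_rc_5_3 lc_f_rc_17_3 lc_f_rc_21_1 lc_f_Cert_tree lc_f_rc_17_3 lc_f_rc_21_1 lc_f_rc_22_1 lc_f_Cert_tree lc_f_rc_14_3 lc_f_rc_10_3 lc_f_rc_17_1 lc_f_rc_20_1 lc_f_rc_14_3 lc_f_rc_17_3 lc_f_rc_21_1 lc_f_Cert_tree lc_f_rc_20_1 lc_f_rc_21_1 lc_f_rc_14_3 lc_f_rc_5_3 lc_f_rc_10_3 lc_f_rc_17_3 lc_f_rc_10_3 lc_f_Cert_tree lc_f_rc_20_1 lc_f_rc_17_3 lc_f_rc_14_3 lc_f_rc_14_3 lc_f_rc_14_3 lc_f_Cert_tree lc_f_Cert_tree lc_f_rc_20_1 lc_f_Cert_tree lc_f_rc_20_1 lc_f_rc_17_3 lc_f_rc_19_3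 lc_f_Cert_tree lc_f_rc_20_1 lc_f_rc_21_1 lc_f_rc_19_5 lc_f_rc_21_1 lc_f_rc_14_3 lc_f_rc_14_3 lc_f_Cert_tree lc_f_Cert_tree lc_f_rc_20_1 lc_f_rc_17_3 lc_f_rc_17_3 lc_f_rc_17_1 lc_f_Cert_tree lc_f_rc_20_1 lc_f_Cert_tree lc_f_rc_20_1 lc_f_rc_17_3 lc_f_rc_17_3 lc_f_Cert_tree lc_f_rc_20_1) (@D3.rec (fun _ => (Cert rels S Gen.f)) lc_f_Cert_tree lc_f_rc_20_1 lc_f_rc_14_1 lc_f_rc_17_3 lc_f_rc_10_3 lc_f_rc_20_1 lc_f_Cert_tree lc_f_rc_21_1 lc_f_Cert_tree lc_f_rc_20_1 lc_f_rc_21_1 lc_f_Cert_tree lc_f_rc_21_1 lc_f_Cert_tree lc_f_rc_20_1 lc_f_rc_17_3 lc_f_rc_14_3 lc_f_Cert_tree lc_f_rc_19_3 lc_f_rc_20_1 lc_f_rc_17_3 lc_f_rc_14_3 lc_f_rc_14_3 lc_f_Cert_tree lc_f_rc_14_3 lc_f_Cert_tree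 lc_f_rc_17_3 lc_f_rc_17_3 lc_f_Cert_tree lc_f_rc_21_1 lc_f_rc_17_3 lc_f_Cert_tree lc_f_rc_14_3 lc_f_rc_20_1 lc_f_rc_19_3 lc_f_rc_5_3 lc_f_Cert_tree lc_f_rc_14_3 lc_f_Cert_tree lc_f_rc_20_1 lc_f_rc_14_3 lc_f_rc_14_3 lc_f_rc_10_3 lc_f_rc_17_3 lc_f_rc_19_5 lc_f_rc_21_1 lc_f_rc_5_3 lc_f_rc_10_3 lc_f_rc_5_1 lc_f_Cert_tree lc_f_rc_17_3 lc_f_rc_14_3 lc_f_rc_10_3 lc_f_rc_17_3 lc_f_Cert_tree lc_f_rc_21_1 lc_f_rc_21_1 lc_f_rc_20_1 lc_f_rc_10_3 lc_f_rc_21_1 lc_f_rc_17_3 lc_f_rc_21_1) (@D3.rec (fun _ => (Cert rels S Gen.f)) lc_f_rc_20_1 lc_f_rc_17_3 lc_f_Cert_tree lc_f_rc_14_3 lc_f_rc_21_1 lc_f_rc_19_1 lc_f_Cert_tree lc_f_rc_21_1 lc_f_rc_5_1 lc_f_Cert_tree lc_f_rc_20_1 lc_f_rc_21_1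 lc_f_rc_17_3 lc_f_rc_17_3 lc_f_Cert_tree lc_f_rc_20_1 lc_f_rc_19_3 lc_f_rc_10_3 lc_f_rc_17_3 lc_f_rc_19_5 lc_f_rc_10_3 lc_f_rc_17_3 lc_f_rc_17_3 lc_f_rc_17_3 lc_f_rc_22_1 lc_f_rc_22_1 lc_f_Cert_tree lc_f_Cert_tree lc_f_rc_5_1 lc_f_rc_14_3 lc_f_rc_21_1 lc_f_rc_20_1 lc_f_rc_21_1 lc_f_rc_19_5 lc_f_rc_17_1 lc_f_rc_21_1 lc_f_rc_5_1 lc_f_rc_14_3 lc_f_rc_10_1 lc_f_Cert_tree lc_f_rc_19_3 lc_f_Cert_tree lc_f_rc_20_1 lc_f_rc_21_1 lc_f_rc_14_3 lc_f_rc_14_3 lc_f_rc_14_3 lc_f_rc_17_3 lc_f_Cert_tree lc_f_rc_10_3 lc_f_rc_21_1 lc_f_rc_5_3 lc_f_rc_17_3 lc_f_Cert_tree lc_f_Cert_tree lc_f_rc_14_3 lc_f_rc_5_1 lc_f_Cert_tree lc_f_rc_20_1 lc_f_rc_21_1 lc_f_rc_14_3 lc_f_Cert_tree) (@D3.rec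 (fun _ => (Cert rels S Gen.f)) lc_f_Cert_tree lc_f_rc_20_1 lc_f_rc_17_3 lc_f_rc_14_3 lc_f_rc_10_3 lc_f_rc_10_3 lc_f_Cert_tree lc_f_Cert_tree lc_f_Cert_tree lc_f_rc_20_1 lc_f_rc_5_3 lc_f_rc_20_1 lc_f_rc_14_3 lc_f_Cert_tree lc_f_Cert_tree lc_f_Cert_tree lc_f_rc_20_1 lc_f_rc_20_1 lc_f_rc_5_1 lc_f_rc_20_1 lc_f_Cert_tree lc_f_rc_17_3 lc_f_rc_17_3 lc_f_rc_17_3 lc_f_Cert_tree lc_f_Cert_tree lc_f_rc_20_1 lc_f_rc_19_3 lc_f_rc_20_1 lc_f_Cert_tree lc_f_rc_10_3 lc_f_Cert_tree lc_f_rc_20_1 lc_f_rc_19_3 lc_f_rc_20_1 lc_f_rc_19_1 lc_f_rc_5_1 lc_f_rc_14_3 lc_f_rc_17_3 lc_f_rc_21_1 lc_f_rc_21_1 lc_f_rc_14_3 lc_f_rc_20_1 lc_f_rc_20_1 lc_f_rc_19_3 lc_f_rc_19_5 lc_f_Cert_tree lc_f_rc_20_1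 lc_f_rc_5_1 lc_f_rc_21_1 lc_f_rc_17_1 lc_f_Cert_tree lc_f_rc_20_1 lc_f_rc_5_1 lc_f_rc_19_5 lc_f_rc_17_3 lc_f_Cert_tree lc_f_rc_20_1 lc_f_rc_5_1 lc_f_rc_5_3 lc_f_rc_5_1 lc_f_Cert_tree) (@D3.rec (fun _ => (Cert rels S Gen.f)) lc_f_rc_20_1 lc_f_rc_21_1 lc_f_Cert_tree lc_f_rc_20_1 lc_f_rc_10_3 lc_f_rc_22_1 lc_f_Cert_tree lc_f_rc_19_3 lc_f_rc_17_1 lc_f_rc_20_1 lc_f_rc_14_3 lc_f_Cert_tree lc_f_rc_20_1 lc_f_rc_21_1 lc_f_rc_5_1 lc_f_Cert_tree lc_f_rc_14_3 lc_f_Cert_tree lc_f_rc_21_1 lc_f_rc_17_3 lc_f_Cert_tree lc_f_Cert_tree lc_f_rc_20_1 lc_f_rc_19_3 lc_f_rc_17_3 lc_f_rc_17_3 lc_f_rc_5_3 lc_f_Cert_tree lc_f_rc_19_5 lc_f_rc_14_3 lc_f_rc_20_1 lc_f_rc_14_3 lc_f_rc_20_1 lc_f_rc_14_3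 lc_f_rc_17_3 lc_f_rc_17_3 lc_f_rc_20_1 lc_f_rc_20_1 lc_f_rc_14_3 lc_f_rc_17_3 lc_f_rc_17_3 lc_f_rc_14_3 lc_f_Cert_tree lc_f_rc_10_3 lc_f_rc_5_1 lc_f_rc_19_3 lc_f_rc_21_1 lc_f_rc_20_1 lc_f_rc_14_3 lc_f_Cert_tree lc_f_rc_17_3 lc_f_rc_21_1 lc_f_Cert_tree lc_f_rc_17_3 lc_f_rc_20_1 lc_f_rc_17_1 lc_f_rc_20_1 lc_f_rc_5_3 lc_f_rc_14_3 lc_f_Cert_tree lc_f_rc_10_3 lc_f_rc_14_3) (@D3.rec (fun _ => (Cert rels S Gen.f)) lc_f_rc_17_3 lc_f_rc_21_1 lc_f_rc_10_3 lc_f_rc_20_1 lc_f_rc_14_3 lc_f_rc_10_3 lc_f_Cert_tree lc_f_rc_10_3 lc_f_rc_17_3 lc_f_rc_14_1 lc_f_Cert_tree lc_f_rc_21_1 lc_f_rc_5_1 lc_f_rc_17_1 lc_f_rc_20_1 lc_f_rc_17_3 lc_f_rc_17_3 lc_f_Cert_tree lc_f_rc_19_3 lc_f_rc_21_1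 lc_f_rc_17_3 lc_f_rc_20_1 lc_f_rc_5_3 lc_f_rc_14_3 lc_f_rc_17_3 lc_f_rc_21_1 lc_f_rc_5_1 lc_f_rc_20_1 lc_f_rc_10_3 lc_f_rc_10_3 lc_f_rc_10_3 lc_f_rc_17_3 lc_f_Cert_tree lc_f_rc_21_1 lc_f_rc_17_3 lc_f_rc_5_1 lc_f_rc_14_3 lc_f_rc_20_1 lc_f_rc_17_3 lc_f_rc_10_3 lc_f_rc_5_3 lc_f_Cert_tree lc_f_rc_14_3 lc_f_rc_21_1 lc_f_rc_10_3 lc_f_Cert_tree lc_f_rc_21_1 lc_f_rc_17_1 lc_f_rc_20_1 lc_f_rc_19_3 lc_f_rc_21_1 lc_f_rc_5_3 lc_f_rc_10_3 lc_f_rc_10_3 lc_f_rc_14_3 lc_f_rc_14_3 lc_f_rc_10_3 lc_f_Cert_tree lc_f_rc_5_1 lc_f_rc_14_3 lc_f_rc_17_3 lc_f_rc_5_1) (@D3.rec (fun _ => (Cert rels S Gen.f)) lc_f_rc_17_3 lc_f_rc_10_3 lc_f_rc_22_1 lc_f_Cert_tree lc_f_rc_20_1 lc_f_rc_20_1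 lc_f_rc_14_3 lc_f_rc_10_1 lc_f_rc_21_1 lc_f_rc_5_3 lc_f_rc_10_3 lc_f_rc_10_1 lc_f_Cert_tree lc_f_rc_22_1 lc_f_rc_20_1 lc_f_rc_10_3 lc_f_rc_5_1 lc_f_rc_5_3 lc_f_rc_14_3 lc_f_rc_17_3 lc_f_Cert_tree lc_f_Cert_tree lc_f_rc_5_1 lc_f_rc_20_1 lc_f_rc_5_3 lc_f_Cert_tree lc_f_Cert_tree lc_f_Cert_tree lc_f_rc_20_1 lc_f_rc_10_3 lc_f_rc_10_3 lc_f_rc_21_1 lc_f_rc_17_3 lc_f_rc_21_1 lc_f_rc_10_1 lc_f_Cert_tree lc_f_Cert_tree lc_f_rc_20_1 lc_f_rc_19_3 lc_f_rc_17_3 lc_f_Cert_tree lc_f_rc_10_3 lc_f_rc_14_3 lc_f_rc_10_3 lc_f_Cert_tree lc_f_rc_5_1 lc_f_rc_17_3 lc_f_rc_20_1 lc_f_rc_19_1 lc_f_rc_17_3 lc_f_rc_10_1 lc_f_rc_14_3 lc_f_rc_10_3 lc_f_rc_21_1 lc_f_rc_14_3 lc_f_Cert_tree lc_f_rc_17_3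 lc_f_Cert_tree lc_f_rc_20_1 lc_f_rc_5_3 lc_f_rc_17_3 lc_f_rc_14_3) (@D3.rec (fun _ => (Cert rels S Gen.f)) lc_f_rc_14_3 lc_f_rc_5_1 lc_f_rc_21_1 lc_f_rc_14_3 lc_f_rc_20_1 lc_f_rc_19_5 lc_f_rc_14_3 lc_f_rc_17_3 lc_f_rc_14_3 lc_f_rc_10_3 lc_f_rc_10_3 lc_f_rc_19_3 lc_f_rc_14_3 lc_f_rc_20_1 lc_f_rc_19_3 lc_f_Cert_tree lc_f_Cert_tree lc_f_rc_20_1 lc_f_rc_22_1 lc_f_rc_17_3 lc_f_rc_10_3 lc_f_rc_17_3 lc_f_rc_17_3 lc_f_rc_5_1 lc_f_rc_17_3 lc_f_Cert_tree lc_f_rc_20_1 lc_f_rc_17_3 lc_f_rc_10_3 lc_f_rc_19_3 lc_f_rc_5_3 lc_f_rc_10_3 lc_f_rc_14_3 lc_f_Cert_tree lc_f_rc_21_1 lc_f_Cert_tree lc_f_rc_20_1 lc_f_Cert_tree lc_f_rc_20_1 lc_f_rc_10_3 lc_f_rc_5_1 lc_f_rc_10_3 lc_f_rc_17_3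 lc_f_rc_17_3 lc_f_rc_20_1 lc_f_rc_14_3 lc_f_rc_17_3 lc_f_rc_10_3 lc_f_rc_21_1 lc_f_rc_17_3 lc_f_rc_14_3 lc_f_rc_17_3 lc_f_rc_21_1 lc_f_rc_17_3 lc_f_Cert_tree lc_f_rc_14_3 lc_f_Cert_tree lc_f_rc_10_3 lc_f_rc_5_1 lc_f_Cert_tree lc_f_rc_20_1 lc_f_rc_19_5) (@D3.rec (fun _ => (Cert rels S Gen.f)) lc_f_rc_19_5 lc_f_Cert_tree lc_f_rc_20_1 lc_f_rc_14_1 lc_f_rc_20_1 lc_f_rc_14_3 lc_f_rc_14_3 lc_f_rc_10_3 lc_f_rc_17_3 lc_f_rc_5_1 lc_f_rc_19_3 lc_f_rc_20_1 lc_f_rc_5_3 lc_f_Cert_tree lc_f_rc_17_3 lc_f_rc_5_1 lc_f_rc_20_1 lc_f_Cert_tree lc_f_rc_14_3 lc_f_rc_10_1 lc_f_rc_20_1 lc_f_rc_21_1 lc_f_Cert_tree lc_f_rc_20_1 lc_f_rc_14_3 lc_f_rc_14_3 lc_f_Cert_tree lc_f_rc_20_1 lc_f_rc_17_1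 lc_f_rc_20_1 lc_f_rc_20_1 lc_f_rc_14_3 lc_f_rc_17_3 lc_f_rc_21_1 lc_f_rc_5_1 lc_f_rc_5_1 lc_f_Cert_tree lc_f_rc_5_3 lc_f_rc_20_1 lc_f_rc_10_3 lc_f_rc_14_3 lc_f_Cert_tree lc_f_Cert_tree lc_f_Cert_tree lc_f_rc_20_1 lc_f_rc_10_3 lc_f_Cert_tree lc_f_Cert_tree lc_f_rc_20_1 lc_f_rc_21_1 lc_f_Cert_tree lc_f_rc_20_1 lc_f_rc_5_1 lc_f_rc_10_1 lc_f_rc_17_3 lc_f_rc_17_3 lc_f_rc_17_3 lc_f_rc_10_3 lc_f_rc_14_3 lc_f_Cert_tree lc_f_rc_21_1 lc_f_Cert_tree) (@D3.rec (fun _ => (Cert rels S Gen.f)) lc_f_rc_20_1 lc_f_rc_5_3 lc_f_Cert_tree lc_f_rc_10_3 lc_f_rc_17_3 lc_f_Cert_tree lc_f_rc_17_3 lc_f_Cert_tree lc_f_rc_17_3 lc_f_rc_10_3 lc_f_rc_10_3 lc_f_Cert_tree lc_f_rc_20_1 lc_f_rc_20_1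 lc_f_rc_20_1 lc_f_rc_5_3 lc_f_rc_17_3 lc_f_rc_5_3 lc_f_rc_10_3 lc_f_Cert_tree lc_f_rc_21_1 lc_f_rc_14_3 lc_f_Cert_tree lc_f_rc_20_1 lc_f_rc_14_3 lc_f_rc_10_3 lc_f_Cert_tree lc_f_rc_21_1 lc_f_rc_14_3 lc_f_Cert_tree lc_f_rc_20_1 lc_f_rc_20_1 lc_f_rc_21_1 lc_f_Cert_tree lc_f_rc_10_3 lc_f_rc_17_3 lc_f_rc_17_3 lc_f_rc_10_3 lc_f_rc_17_3 lc_f_rc_21_1 lc_f_rc_17_3 lc_f_rc_14_1 lc_f_rc_21_1 lc_f_rc_17_3 lc_f_rc_14_3 lc_f_rc_21_1 lc_f_rc_21_1 lc_f_rc_21_1 lc_f_rc_10_3 lc_f_rc_14_3 lc_f_rc_17_3 lc_f_Cert_tree lc_f_rc_10_1 lc_f_Cert_tree lc_f_rc_10_3 lc_f_rc_5_1 lc_f_rc_10_1 lc_f_rc_20_1 lc_f_rc_17_3 lc_f_Cert_tree lc_f_rc_20_1 lc_f_rc_21_1) (@D3.rec (fun _ => (Cert rels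 S Gen.f)) lc_f_rc_17_3 lc_f_rc_5_3 lc_f_rc_10_3 lc_f_Cert_tree lc_f_rc_14_3 lc_f_rc_21_1 lc_f_rc_20_1 lc_f_rc_21_1 lc_f_rc_5_1 lc_f_rc_19_1 lc_f_rc_20_1 lc_f_rc_10_3 lc_f_rc_17_3 lc_f_rc_14_3 lc_f_rc_17_3 lc_f_rc_5_3 lc_f_Cert_tree lc_f_rc_14_3 lc_f_rc_21_1 lc_f_rc_19_3 lc_f_rc_21_1 lc_f_rc_14_3 lc_f_rc_14_3 lc_f_rc_10_1 lc_f_Cert_tree lc_f_rc_21_1 lc_f_rc_20_1 lc_f_rc_20_1 lc_f_rc_20_1 lc_f_Cert_tree lc_f_rc_21_1 lc_f_rc_20_1 lc_f_Cert_tree lc_f_rc_20_1 lc_f_rc_10_3 lc_f_rc_14_3 lc_f_rc_19_5 lc_f_Cert_tree lc_f_rc_10_3 lc_f_rc_21_1 lc_f_rc_21_1 lc_f_Cert_tree lc_f_rc_21_1 lc_f_rc_5_1 lc_f_rc_10_3 lc_f_rc_10_3 lc_f_rc_5_3 lc_f_rc_19_3 lc_f_rc_21_1 lc_f_Cert_tree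 lc_f_rc_20_1 lc_f_rc_17_3 lc_f_rc_17_3 lc_f_Cert_tree lc_f_rc_20_1 lc_f_rc_21_1 lc_f_rc_21_1 lc_f_rc_19_3 lc_f_rc_19_5 lc_f_rc_14_3 lc_f_rc_5_1 lc_f_rc_19_3) (@D3.rec (fun _ => (Cert rels S Gen.f)) lc_f_rc_21_1 lc_f_rc_5_1 lc_f_rc_20_1 lc_f_rc_14_3 lc_f_rc_14_3 lc_f_rc_17_3 lc_f_rc_5_1 lc_f_rc_10_3 lc_f_rc_17_3 lc_f_rc_17_3 lc_f_rc_19_5 lc_f_rc_21_1 lc_f_rc_21_1 lc_f_rc_20_1 lc_f_rc_14_3 lc_f_rc_17_3 lc_f_rc_10_3 lc_f_rc_17_1 lc_f_Cert_tree lc_f_rc_20_1 lc_f_rc_10_3 lc_f_rc_17_3 lc_f_rc_10_3 lc_f_rc_21_1 lc_f_rc_20_1 lc_f_rc_21_1 lc_f_Cert_tree lc_f_rc_20_1 lc_f_rc_14_3 lc_f_rc_14_3 lc_f_rc_5_3 lc_f_rc_17_3 lc_f_rc_21_1 lc_f_rc_10_3 lc_f_rc_20_1 lc_f_rc_14_3 lc_f_rc_22_1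 lc_f_rc_21_1 lc_f_rc_10_3 lc_f_rc_10_3 lc_f_rc_17_3 lc_f_Cert_tree lc_f_rc_17_3 lc_f_rc_14_3 lc_f_rc_21_1 lc_f_rc_14_3 lc_f_rc_5_3 lc_f_rc_10_1 lc_f_Cert_tree lc_f_Cert_tree lc_f_rc_20_1 lc_f_rc_19_5 lc_f_rc_17_3 lc_f_rc_5_1 lc_f_rc_20_1 lc_f_rc_10_3 lc_f_rc_17_3 lc_f_Cert_tree lc_f_rc_5_1 lc_f_rc_10_3 lc_f_rc_10_1 lc_f_rc_20_1) (@D3.rec (fun _ => (Cert rels S Gen.f)) lc_f_rc_17_3 lc_f_rc_17_3 lc_f_rc_17_3 lc_f_rc_20_1 lc_f_rc_10_3 lc_f_rc_14_3 lc_f_rc_20_1 lc_f_rc_20_1 lc_f_rc_10_3 lc_f_rc_14_3 lc_f_rc_14_3 lc_f_rc_10_1 lc_f_rc_10_3 lc_f_rc_5_3 lc_f_rc_5_1 lc_f_rc_10_3 lc_f_rc_14_3 lc_f_rc_14_3 lc_f_rc_22_1 lc_f_Cert_tree lc_f_rc_10_3 lc_f_rc_22_1 lc_f_rc_20_1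 lc_f_rc_20_1 lc_f_rc_20_1 lc_f_rc_20_1 lc_f_rc_17_3 lc_f_rc_10_3 lc_f_rc_17_3 lc_f_rc_20_1 lc_f_rc_21_1 lc_f_rc_19_3 lc_f_rc_21_1 lc_f_rc_17_3 lc_f_Cert_tree lc_f_rc_20_1 lc_f_rc_10_1 lc_f_rc_10_3 lc_f_rc_10_3 lc_f_rc_21_1 lc_f_rc_5_3 lc_f_rc_10_3 lc_f_rc_20_1 lc_f_rc_5_3 lc_f_rc_17_3 lc_f_Cert_tree lc_f_rc_17_3 lc_f_rc_10_3 lc_f_rc_14_3 lc_f_rc_14_3 lc_f_rc_14_3 lc_f_rc_17_3 lc_f_rc_14_3 lc_f_rc_14_1 lc_f_rc_19_3 lc_f_rc_17_3 lc_f_rc_21_1 lc_f_rc_17_3 lc_f_rc_10_3 lc_f_rc_17_3 lc_f_rc_20_1 lc_f_rc_14_3) (@D3.rec (fun _ => (Cert rels S Gen.f)) lc_f_rc_19_3 lc_f_rc_17_3 lc_f_rc_20_1 lc_f_rc_10_3 lc_f_rc_17_3 lc_f_Cert_tree lc_f_rc_5_1 lc_f_rc_22_1 lc_f_rc_19_3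 lc_f_rc_10_3 lc_f_rc_10_3 lc_f_rc_10_3 lc_f_rc_17_3 lc_f_rc_20_1 lc_f_rc_21_1 lc_f_rc_10_3 lc_f_rc_21_1 lc_f_rc_14_3 lc_f_rc_20_1 lc_f_rc_10_1 lc_f_rc_20_1 lc_f_rc_14_3 lc_f_rc_19_3 lc_f_rc_20_1 lc_f_rc_21_1 lc_f_rc_21_1 lc_f_rc_20_1 lc_f_rc_10_3 lc_f_rc_20_1 lc_f_rc_19_3 lc_f_rc_14_3 lc_f_rc_14_3 lc_f_rc_10_3 lc_f_rc_17_3 lc_f_rc_19_3 lc_f_rc_14_1 lc_f_rc_19_5 lc_f_rc_10_3 lc_f_rc_17_3 lc_f_rc_20_1 lc_f_rc_20_1 lc_f_Cert_tree lc_f_rc_5_1 lc_f_rc_20_1 lc_f_rc_14_3 lc_f_rc_5_1 lc_f_rc_10_3 lc_f_rc_17_1 lc_f_Cert_tree lc_f_rc_20_1 lc_f_rc_20_1 lc_f_rc_5_1 lc_f_Cert_tree lc_f_rc_14_3 lc_f_rc_14_3 lc_f_rc_10_3 lc_f_rc_20_1 lc_f_Cert_tree lc_f_rc_21_1 lc_f_rc_10_3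 lc_f_Cert_tree lc_f_rc_20_1) (@D3.rec (fun _ => (Cert rels S Gen.f)) lc_f_rc_17_3 lc_f_rc_20_1 lc_f_rc_20_1 lc_f_rc_20_1 lc_f_Cert_tree lc_f_rc_21_1 lc_f_Cert_tree lc_f_rc_20_1 lc_f_rc_10_3 lc_f_rc_14_3 lc_f_Cert_tree lc_f_rc_10_3 lc_f_rc_17_3 lc_f_Cert_tree lc_f_rc_5_1 lc_f_rc_10_3 lc_f_rc_5_3 lc_f_rc_22_1 lc_f_Cert_tree lc_f_rc_17_3 lc_f_rc_17_3 lc_f_rc_5_3 lc_f_Cert_tree lc_f_rc_20_1 lc_f_rc_20_1 lc_f_rc_21_1 lc_f_Cert_tree lc_f_rc_20_1 lc_f_rc_19_1 lc_f_rc_19_5 lc_f_rc_21_1 lc_f_rc_17_1 lc_f_rc_14_3 lc_f_rc_22_1 lc_f_rc_19_1 lc_f_rc_5_3 lc_f_rc_17_3 lc_f_rc_14_3 lc_f_rc_17_3 lc_f_rc_21_1 lc_f_rc_20_1 lc_f_rc_20_1 lc_f_rc_21_1 lc_f_rc_14_3 lc_f_rc_5_3 lc_f_rc_17_3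 lc_f_rc_17_3 lc_f_rc_10_1 lc_f_rc_17_3 lc_f_Cert_tree lc_f_rc_10_3 lc_f_rc_21_1 lc_f_Cert_tree lc_f_rc_20_1 lc_f_rc_21_1 lc_f_rc_21_1 lc_f_rc_17_3 lc_f_rc_5_3 lc_f_rc_17_3 lc_f_rc_21_1 lc_f_Cert_tree lc_f_rc_20_1) (@D3.rec (fun _ => (Cert rels S Gen.f)) lc_f_rc_21_1 lc_f_rc_5_1 lc_f_rc_17_3 lc_f_Cert_tree lc_f_rc_20_1 lc_f_rc_19_5 lc_f_Cert_tree lc_f_rc_20_1 lc_f_rc_21_1 lc_f_rc_17_3 lc_f_rc_17_3 lc_f_rc_19_5 lc_f_rc_20_1 lc_f_Cert_tree lc_f_rc_20_1 lc_f_rc_22_1 lc_f_rc_14_3 lc_f_Cert_tree lc_f_rc_10_3 lc_f_rc_14_3 lc_f_Cert_tree lc_f_Cert_tree lc_f_rc_20_1 lc_f_rc_21_1 lc_f_Cert_tree lc_f_rc_20_1 lc_f_rc_10_3 lc_f_rc_21_1 lc_f_rc_10_3 lc_f_rc_10_3 lc_f_rc_17_3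 lc_f_Cert_tree lc_f_rc_21_1 lc_f_rc_17_3 lc_f_Cert_tree lc_f_rc_20_1 lc_f_rc_20_1 lc_f_rc_14_3 lc_f_rc_19_5 lc_f_rc_10_3 lc_f_rc_21_1 lc_f_rc_14_3 lc_f_rc_21_1 lc_f_rc_5_3 lc_f_rc_14_3 lc_f_rc_20_1 lc_f_rc_10_3 lc_f_rc_17_3 lc_f_rc_20_1 lc_f_rc_17_3 lc_f_rc_21_1 lc_f_rc_17_1 lc_f_rc_10_3 lc_f_rc_17_3 lc_f_rc_21_1 lc_f_rc_20_1 lc_f_rc_14_3 lc_f_rc_21_1 lc_f_rc_19_5 lc_f_rc_20_1 lc_f_rc_21_1 lc_f_rc_20_1) (@D3.rec (fun _ => (Cert rels S Gen.f)) lc_f_rc_17_1 lc_f_rc_10_3 lc_f_rc_19_3 lc_f_rc_19_5 lc_f_Cert_tree lc_f_rc_20_1 lc_f_rc_17_3 lc_f_rc_22_1 lc_f_rc_21_1 lc_f_Cert_tree lc_f_rc_20_1 lc_f_rc_19_5 lc_f_rc_17_3 lc_f_rc_20_1 lc_f_rc_17_3 lc_f_rc_21_1 lc_f_rc_17_3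 lc_f_rc_21_1 lc_f_Cert_tree lc_f_rc_20_1 lc_f_rc_17_3 lc_f_Cert_tree lc_f_rc_17_3 lc_f_Cert_tree lc_f_rc_21_1 lc_f_rc_14_3 lc_f_Cert_tree lc_f_rc_17_1 lc_f_rc_20_1 lc_f_rc_20_1 lc_f_rc_17_3 lc_f_rc_21_1 lc_f_rc_17_3 lc_f_rc_14_1 lc_f_rc_14_3 lc_f_Cert_tree lc_f_rc_20_1 lc_f_rc_10_3 lc_f_rc_21_1 lc_f_Cert_tree lc_f_rc_5_1 lc_f_rc_17_3 lc_f_Cert_tree lc_f_rc_14_3 lc_f_rc_21_1 lc_f_Cert_tree lc_f_Cert_tree lc_f_rc_20_1 lc_f_rc_19_3 lc_f_rc_5_3 lc_f_rc_14_3 lc_f_Cert_tree lc_f_rc_21_1 lc_f_rc_20_1 lc_f_rc_20_1 lc_f_rc_17_3 lc_f_rc_14_3 lc_f_Cert_tree lc_f_rc_19_3 lc_f_rc_21_1 lc_f_rc_20_1 lc_f_Cert_tree) (@D3.rec (fun _ => (Cert rels S Gen.f)) lc_f_rc_21_1 lc_f_rc_5_1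 lc_f_rc_17_1 lc_f_rc_20_1 lc_f_rc_19_5 lc_f_rc_14_1 lc_f_rc_21_1 lc_f_rc_21_1 lc_f_Cert_tree lc_f_rc_14_3 lc_f_rc_20_1 lc_f_rc_10_3 lc_f_rc_10_1 lc_f_rc_20_1 lc_f_rc_19_3 lc_f_rc_21_1 lc_f_rc_5_1 lc_f_rc_10_3 lc_f_Cert_tree lc_f_rc_17_3 lc_f_Cert_tree lc_f_rc_21_1 lc_f_rc_14_3 lc_f_rc_10_1 lc_f_rc_14_3 lc_f_rc_20_1 lc_f_rc_19_3 lc_f_rc_17_3 lc_f_rc_14_3 lc_f_Cert_tree lc_f_rc_21_1 lc_f_rc_20_1 lc_f_rc_20_1 lc_f_rc_17_3 lc_f_rc_14_3 lc_f_rc_14_3 lc_f_rc_19_5 lc_f_rc_21_1 lc_f_rc_14_3 lc_f_rc_21_1 lc_f_rc_17_3 lc_f_rc_21_1 lc_f_rc_10_3 lc_f_rc_20_1 lc_f_rc_19_3 lc_f_rc_21_1 lc_f_rc_19_3 lc_f_rc_10_3 lc_f_rc_10_3 lc_f_rc_10_3 lc_f_rc_10_3 lc_f_rc_10_3 lc_f_rc_19_5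 lc_f_Cert_tree lc_f_rc_20_1 lc_f_rc_21_1 lc_f_Cert_tree lc_f_rc_20_1 lc_f_rc_5_1 lc_f_rc_17_1 lc_f_Cert_tree lc_f_rc_20_1) (@D3.rec (fun _ => (Cert rels S Gen.f)) lc_f_rc_5_1 lc_f_Cert_tree lc_f_rc_20_1 lc_f_rc_17_3 lc_f_rc_22_1 lc_f_rc_17_3 lc_f_Cert_tree lc_f_rc_20_1 lc_f_rc_17_3 lc_f_rc_10_1 lc_f_rc_21_1 lc_f_rc_5_1 lc_f_rc_17_3 lc_f_Cert_tree lc_f_rc_20_1 lc_f_rc_20_1 lc_f_Cert_tree lc_f_rc_5_3 lc_f_rc_17_3 lc_f_Cert_tree lc_f_rc_21_1 lc_f_rc_14_3 lc_f_Cert_tree lc_f_rc_17_1 lc_f_rc_20_1 lc_f_rc_19_5 lc_f_rc_17_3 lc_f_rc_14_3 lc_f_rc_17_3 lc_f_rc_10_3 lc_f_rc_21_1 lc_f_Cert_tree lc_f_rc_17_3 lc_f_rc_14_3 lc_f_Cert_tree lc_f_rc_5_1 lc_f_rc_5_1 lc_f_Cert_tree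 lc_f_rc_14_3 lc_f_rc_21_1 lc_f_Cert_tree lc_f_Cert_tree lc_f_rc_20_1 lc_f_rc_19_3 lc_f_Cert_tree lc_f_rc_21_1 lc_f_rc_20_1 lc_f_rc_17_1 lc_f_rc_20_1 lc_f_rc_14_3 lc_f_rc_14_3 lc_f_Cert_tree lc_f_rc_17_3 lc_f_rc_21_1 lc_f_rc_20_1 lc_f_Cert_tree lc_f_rc_21_1 lc_f_rc_5_1 lc_f_rc_17_1 lc_f_rc_20_1 lc_f_Cert_tree lc_f_rc_19_3) (@D3.rec (fun _ => (Cert rels S Gen.f)) lc_f_rc_21_1 lc_f_rc_17_3 lc_f_rc_14_3 lc_f_rc_14_3 lc_f_rc_14_3 lc_f_rc_21_1 lc_f_rc_5_1 lc_f_rc_19_5 lc_f_rc_19_5 lc_f_rc_10_1 lc_f_rc_17_3 lc_f_rc_10_3 lc_f_rc_21_1 lc_f_rc_17_3 lc_f_rc_14_3 lc_f_Cert_tree lc_f_rc_14_3 lc_f_rc_10_3 lc_f_rc_17_3 lc_f_rc_21_1 lc_f_rc_14_1 lc_f_rc_19_3 lc_f_rc_21_1 lc_f_rc_20_1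 lc_f_rc_21_1 lc_f_Cert_tree lc_f_rc_20_1 lc_f_rc_5_3 lc_f_rc_20_1 lc_f_rc_10_1 lc_f_Cert_tree lc_f_Cert_tree lc_f_rc_20_1 lc_f_rc_19_3 lc_f_rc_14_1 lc_f_rc_20_1 lc_f_rc_5_1 lc_f_rc_17_3 lc_f_rc_21_1 lc_f_rc_17_3 lc_f_Cert_tree lc_f_Cert_tree lc_f_rc_20_1 lc_f_rc_19_3 lc_f_rc_10_3 lc_f_Cert_tree lc_f_rc_21_1 lc_f_rc_20_1 lc_f_rc_20_1 lc_f_rc_19_1 lc_f_rc_17_3 lc_f_Cert_tree lc_f_rc_5_1 lc_f_rc_14_3 lc_f_Cert_tree lc_f_rc_20_1 lc_f_rc_21_1 lc_f_rc_21_1 lc_f_rc_17_3 lc_f_rc_19_3 lc_f_rc_10_3 lc_f_rc_17_3) (@D3.rec (fun _ => (Cert rels S Gen.f)) lc_f_rc_20_1 lc_f_rc_10_1 lc_f_rc_17_3 lc_f_Cert_tree lc_f_rc_14_3 lc_f_rc_21_1 lc_f_Cert_tree lc_f_Cert_tree lc_f_rc_20_1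 lc_f_rc_21_1 lc_f_Cert_tree lc_f_Cert_tree lc_f_rc_20_1 lc_f_rc_5_3 lc_f_Cert_tree lc_f_rc_20_1 lc_f_rc_5_1 lc_f_rc_14_3 lc_f_rc_20_1 lc_f_rc_14_1 lc_f_rc_17_3 lc_f_rc_20_1 lc_f_rc_5_1 lc_f_rc_14_1 lc_f_rc_14_3 lc_f_Cert_tree lc_f_rc_21_1 lc_f_Cert_tree lc_f_rc_20_1 lc_f_rc_17_3 lc_f_rc_14_3 lc_f_rc_14_3 lc_f_Cert_tree lc_f_rc_10_3 lc_f_rc_17_3 lc_f_Cert_tree lc_f_rc_17_3 lc_f_rc_5_1 lc_f_Cert_tree lc_f_rc_20_1 lc_f_rc_14_3 lc_f_Cert_tree lc_f_Cert_tree lc_f_rc_20_1 lc_f_rc_21_1 lc_f_rc_20_1 lc_f_rc_20_1 lc_f_rc_19_1 lc_f_rc_21_1 lc_f_rc_17_3 lc_f_rc_10_3 lc_f_rc_21_1 lc_f_Cert_tree lc_f_rc_10_3 lc_f_rc_17_3 lc_f_rc_17_3 lc_f_rc_17_3 lc_f_rc_21_1 lc_f_rc_14_3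 lc_f_rc_10_3 lc_f_rc_21_1 lc_f_rc_14_3) (@D3.rec (fun _ => (Cert rels S Gen.f)) lc_f_rc_20_1 lc_f_rc_17_3 lc_f_rc_19_3 lc_f_rc_17_3 lc_f_rc_14_3 lc_f_rc_5_1 lc_f_rc_20_1 lc_f_rc_21_1 lc_f_rc_17_3 lc_f_rc_10_3 lc_f_Cert_tree lc_f_rc_20_1 lc_f_rc_19_5 lc_f_rc_17_3 lc_f_rc_10_3 lc_f_rc_21_1 lc_f_rc_21_1 lc_f_rc_10_3 lc_f_rc_21_1 lc_f_rc_17_3 lc_f_Cert_tree lc_f_rc_10_3 lc_f_rc_10_3 lc_f_rc_14_3 lc_f_rc_17_3 lc_f_rc_21_1 lc_f_Cert_tree lc_f_rc_14_3 lc_f_rc_21_1 lc_f_rc_5_1 lc_f_Cert_tree lc_f_rc_21_1 lc_f_rc_14_3 lc_f_Cert_tree lc_f_rc_14_3 lc_f_rc_14_3 lc_f_Cert_tree lc_f_Cert_tree lc_f_rc_20_1 lc_f_rc_19_3 lc_f_rc_17_3 lc_f_rc_21_1 lc_f_rc_14_3 lc_f_Cert_tree lc_f_rc_17_3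 lc_f_rc_14_3 lc_f_Cert_tree lc_f_rc_14_3 lc_f_rc_17_1 lc_f_rc_17_3 lc_f_rc_21_1 lc_f_rc_17_3 lc_f_rc_14_3 lc_f_Cert_tree lc_f_rc_10_3 lc_f_rc_10_3 lc_f_rc_20_1 lc_f_rc_20_1 lc_f_rc_17_3 lc_f_rc_19_5 lc_f_rc_21_1 lc_f_rc_10_3) (@D3.rec (fun _ => (Cert rels S Gen.f)) lc_f_rc_14_3 lc_f_Cert_tree lc_f_rc_14_3 lc_f_rc_21_1 lc_f_rc_17_3 lc_f_rc_10_3 lc_f_rc_14_3 lc_f_Cert_tree lc_f_rc_19_5 lc_f_rc_19_3 lc_f_rc_20_1 lc_f_rc_14_3 lc_f_rc_14_3 lc_f_Cert_tree lc_f_rc_10_3 lc_f_rc_14_3 lc_f_Cert_tree lc_f_rc_19_3 lc_f_rc_19_5 lc_f_rc_20_1 lc_f_rc_21_1 lc_f_rc_22_1 lc_f_Cert_tree lc_f_rc_10_3 lc_f_rc_17_3 lc_f_Cert_tree lc_f_rc_17_3 lc_f_rc_21_1 lc_f_rc_20_1 lc_f_rc_10_3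 lc_f_rc_17_3 lc_f_Cert_tree lc_f_rc_10_3 lc_f_rc_17_3 lc_f_Cert_tree lc_f_Cert_tree lc_f_rc_21_1 lc_f_rc_5_1 lc_f_rc_17_1 lc_f_rc_20_1 lc_f_rc_21_1 lc_f_rc_14_3 lc_f_Cert_tree lc_f_rc_19_3 lc_f_rc_21_1 lc_f_rc_10_3 lc_f_rc_17_3 lc_f_rc_17_3 lc_f_rc_21_1 lc_f_Cert_tree lc_f_rc_19_5 lc_f_rc_10_3 lc_f_rc_19_5 lc_f_rc_14_1 lc_f_rc_14_3 lc_f_rc_10_3 lc_f_rc_17_3 lc_f_rc_5_1 lc_f_rc_17_3 lc_f_rc_14_3 lc_f_Cert_tree lc_f_rc_10_3) (@D3.rec (fun _ => (Cert rels S Gen.f)) lc_f_rc_17_3 lc_f_Cert_tree lc_f_rc_10_3 lc_f_rc_21_1 lc_f_rc_10_3 lc_f_Cert_tree lc_f_rc_17_3 lc_f_rc_21_1 lc_f_rc_20_1 lc_f_rc_17_3 lc_f_rc_10_3 lc_f_rc_14_3 lc_f_rc_21_1 lc_f_rc_14_3 lc_f_rc_10_3 lc_f_rc_17_3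 lc_f_rc_5_1 lc_f_rc_5_1 lc_f_rc_17_3 lc_f_Cert_tree lc_f_rc_10_3 lc_f_rc_21_1 lc_f_rc_14_3 lc_f_Cert_tree lc_f_rc_17_3 lc_f_rc_10_3 lc_f_Cert_tree lc_f_rc_17_3 lc_f_rc_19_3 lc_f_rc_20_1 lc_f_rc_14_3 lc_f_rc_14_3 lc_f_rc_21_1 lc_f_rc_5_3 lc_f_rc_17_3 lc_f_Cert_tree lc_f_rc_19_5 lc_f_rc_17_3 lc_f_rc_10_3 lc_f_rc_17_3 lc_f_rc_14_3 lc_f_rc_17_3 lc_f_rc_10_3 lc_f_rc_17_3 lc_f_rc_21_1 lc_f_Cert_tree lc_f_rc_20_1 lc_f_rc_20_1 lc_f_rc_10_3 lc_f_rc_10_3 lc_f_Cert_tree lc_f_rc_17_3 lc_f_rc_17_3 lc_f_rc_10_3 lc_f_rc_14_3 lc_f_rc_17_3 lc_f_Cert_tree lc_f_rc_5_1 lc_f_rc_5_3 lc_f_rc_10_3 lc_f_rc_17_3 lc_f_rc_19_1) (@D3.rec (fun _ => (Cert rels S Gen.f)) lc_f_Cert_tree lc_f_rc_20_1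 lc_f_rc_20_1 lc_f_Cert_tree lc_f_Cert_tree lc_f_Cert_tree lc_f_rc_10_3 lc_f_rc_20_1 lc_f_rc_21_1 lc_f_rc_5_1 lc_f_rc_20_1 lc_f_rc_10_3 lc_f_rc_21_1 lc_f_rc_20_1 lc_f_Cert_tree lc_f_Cert_tree lc_f_rc_20_1 lc_f_rc_10_3 lc_f_Cert_tree lc_f_rc_17_3 lc_f_Cert_tree lc_f_rc_10_3 lc_f_rc_14_1 lc_f_rc_21_1 lc_f_rc_20_1 lc_f_rc_20_1 lc_f_rc_19_1 lc_f_rc_17_3 lc_f_rc_10_3 lc_f_rc_17_3 lc_f_rc_17_3 lc_f_rc_17_3 lc_f_Cert_tree lc_f_rc_17_3 lc_f_rc_10_3 lc_f_rc_14_3 lc_f_Cert_tree lc_f_rc_21_1 lc_f_rc_5_1 lc_f_rc_14_3 lc_f_Cert_tree lc_f_rc_5_1 lc_f_rc_5_1 lc_f_Cert_tree lc_f_rc_14_3 lc_f_rc_14_3 lc_f_Cert_tree lc_f_rc_14_3 lc_f_rc_20_1 lc_f_rc_19_3 lc_f_rc_21_1 lc_f_rc_17_3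 lc_f_rc_22_1 lc_f_rc_10_3 lc_f_rc_21_1 lc_f_rc_10_3 lc_f_rc_22_1 lc_f_Cert_tree lc_f_rc_17_3 lc_f_rc_14_3 lc_f_Cert_tree lc_f_rc_14_3) (@D3.rec (fun _ => (Cert rels S Gen.f)) lc_f_rc_10_3 lc_f_rc_21_1 lc_f_Cert_tree lc_f_rc_10_3 lc_f_rc_21_1 lc_f_rc_20_1 lc_f_rc_10_3 lc_f_rc_19_3 lc_f_rc_14_3 lc_f_Cert_tree lc_f_rc_17_3 lc_f_rc_10_3 lc_f_rc_14_3 lc_f_Cert_tree lc_f_rc_21_1 lc_f_rc_19_3 lc_f_rc_20_1 lc_f_rc_14_3 lc_f_rc_17_3 lc_f_rc_14_3 lc_f_Cert_tree lc_f_rc_10_3 lc_f_rc_17_3 lc_f_Cert_tree lc_f_rc_19_5 lc_f_rc_19_3 lc_f_rc_20_1 lc_f_rc_14_3 lc_f_Cert_tree lc_f_rc_10_3 lc_f_rc_17_3 lc_f_Cert_tree lc_f_rc_10_3 lc_f_rc_21_1 lc_f_rc_20_1 lc_f_rc_10_3 lc_f_rc_17_3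 lc_f_Cert_tree lc_f_rc_10_3 lc_f_rc_17_3 lc_f_Cert_tree lc_f_Cert_tree lc_f_rc_21_1 lc_f_rc_5_1 lc_f_rc_17_1 lc_f_rc_20_1 lc_f_rc_21_1 lc_f_rc_14_3 lc_f_Cert_tree lc_f_rc_19_3 lc_f_rc_21_1 lc_f_rc_21_1 lc_f_rc_10_3 lc_f_rc_14_3 lc_f_Cert_tree lc_f_rc_17_3 lc_f_Cert_tree lc_f_rc_10_3 lc_f_rc_17_3 lc_f_Cert_tree lc_f_rc_17_3 lc_f_rc_21_1) (@D3.rec (fun _ => (Cert rels S Gen.f)) lc_f_rc_20_1 lc_f_rc_10_3 lc_f_rc_10_3 lc_f_rc_10_1 lc_f_rc_10_3 lc_f_rc_14_1 lc_f_rc_5_3 lc_f_rc_10_3 lc_f_Cert_tree lc_f_rc_17_3 lc_f_rc_19_5 lc_f_rc_17_3 lc_f_rc_21_1 lc_f_rc_17_3 lc_f_Cert_tree lc_f_rc_17_3 lc_f_rc_19_3 lc_f_rc_19_1 lc_f_rc_21_1 lc_f_rc_14_3 lc_f_rc_14_3 lc_f_rc_10_3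 lc_f_rc_21_1 lc_f_rc_19_3 lc_f_rc_17_3 lc_f_rc_17_3 lc_f_rc_14_3 lc_f_Cert_tree lc_f_rc_17_3 lc_f_rc_10_3 lc_f_Cert_tree lc_f_rc_17_3 lc_f_rc_19_3 lc_f_rc_20_1 lc_f_rc_14_3 lc_f_rc_5_1 lc_f_rc_17_3 lc_f_Cert_tree lc_f_rc_17_3 lc_f_rc_17_3 lc_f_rc_10_3 lc_f_Cert_tree lc_f_rc_21_1 lc_f_rc_10_3 lc_f_rc_17_3 lc_f_rc_14_3 lc_f_rc_14_1 lc_f_rc_17_3 lc_f_rc_10_1 lc_f_Cert_tree lc_f_rc_17_3 lc_f_rc_10_3 lc_f_rc_5_1 lc_f_rc_5_3 lc_f_rc_10_3 lc_f_rc_17_3 lc_f_rc_10_3 lc_f_Cert_tree lc_f_rc_21_1 lc_f_rc_5_1 lc_f_rc_17_3 lc_f_rc_10_3) (@D3.rec (fun _ => (Cert rels S Gen.f)) lc_f_Cert_tree lc_f_rc_17_3 lc_f_rc_10_3 lc_f_rc_21_1 lc_f_rc_17_3 lc_f_Cert_tree lc_f_rc_10_3 lc_f_Cert_tree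 lc_f_rc_17_3 lc_f_Cert_tree lc_f_rc_10_3 lc_f_Cert_tree lc_f_rc_21_1 lc_f_rc_20_1 lc_f_rc_20_1 lc_f_rc_19_1 lc_f_rc_17_3 lc_f_rc_14_3 lc_f_rc_17_3 lc_f_rc_17_3 lc_f_rc_14_3 lc_f_rc_19_3 lc_f_rc_21_1 lc_f_rc_10_3 lc_f_rc_10_3 lc_f_Cert_tree lc_f_rc_20_1 lc_f_rc_21_1 lc_f_rc_21_1 lc_f_rc_20_1 lc_f_rc_21_1 lc_f_rc_5_1 lc_f_rc_20_1 lc_f_rc_21_1 lc_f_Cert_tree lc_f_rc_19_3 lc_f_rc_21_1 lc_f_rc_19_5 lc_f_rc_17_3 lc_f_rc_14_3 lc_f_rc_14_3 lc_f_Cert_tree lc_f_rc_20_1 lc_f_rc_17_3 lc_f_rc_14_3 lc_f_Cert_tree lc_f_rc_21_1 lc_f_rc_14_3 lc_f_Cert_tree lc_f_rc_14_3 lc_f_rc_5_1 lc_f_Cert_tree lc_f_Cert_tree lc_f_rc_20_1 lc_f_rc_19_3 lc_f_rc_14_3 lc_f_Cert_tree lc_f_rc_19_3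 lc_f_rc_19_5 lc_f_rc_20_1 lc_f_rc_14_3 lc_f_Cert_tree) (@D3.rec (fun _ => (Cert rels S Gen.f)) lc_f_rc_17_3 lc_f_rc_21_1 lc_f_rc_20_1 lc_f_Cert_tree lc_f_rc_21_1 lc_f_rc_5_1 lc_f_rc_10_3 lc_f_rc_20_1 lc_f_rc_19_3 lc_f_rc_19_3 lc_f_rc_19_3 lc_f_rc_10_1 lc_f_rc_22_1 lc_f_Cert_tree lc_f_rc_20_1 lc_f_rc_17_3 lc_f_rc_17_3 lc_f_rc_17_3 lc_f_Cert_tree lc_f_rc_20_1 lc_f_rc_20_1 lc_f_rc_17_3 lc_f_rc_21_1 lc_f_rc_5_1 lc_f_rc_19_3 lc_f_rc_20_1 lc_f_rc_10_3 lc_f_rc_17_3 lc_f_rc_21_1 lc_f_Cert_tree lc_f_rc_20_1 lc_f_rc_10_1 lc_f_rc_14_3 lc_f_Cert_tree lc_f_rc_17_3 lc_f_rc_10_1 lc_f_rc_22_1 lc_f_Cert_tree lc_f_rc_5_1 lc_f_rc_17_3 lc_f_Cert_tree lc_f_rc_17_3 lc_f_rc_14_3 lc_f_Cert_tree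 lc_f_rc_14_3 lc_f_rc_14_3 lc_f_Cert_tree lc_f_Cert_tree lc_f_rc_20_1 lc_f_rc_19_3 lc_f_rc_14_3 lc_f_Cert_tree lc_f_rc_19_5 lc_f_rc_19_3 lc_f_rc_20_1 lc_f_rc_14_3 lc_f_Cert_tree lc_f_rc_10_3 lc_f_rc_21_1 lc_f_rc_20_1 lc_f_Cert_tree lc_f_rc_21_1) (@D3.rec (fun _ => (Cert rels S Gen.f)) lc_f_rc_5_1 lc_f_rc_10_3 lc_f_rc_20_1 lc_f_Cert_tree lc_f_rc_19_3 lc_f_rc_19_5 lc_f_rc_17_3 lc_f_rc_17_1 lc_f_rc_17_3 lc_f_rc_10_3 lc_f_rc_10_3 lc_f_rc_17_3 lc_f_rc_14_1 lc_f_rc_20_1 lc_f_rc_17_3 lc_f_rc_10_3 lc_f_rc_17_3 lc_f_rc_14_1 lc_f_rc_20_1 lc_f_rc_5_1 lc_f_Cert_tree lc_f_rc_14_3 lc_f_rc_14_3 lc_f_Cert_tree lc_f_rc_21_1 lc_f_rc_14_1 lc_f_rc_17_3 lc_f_rc_10_3 lc_f_rc_20_1 lc_f_rc_19_3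 lc_f_rc_17_3 lc_f_rc_21_1 lc_f_rc_14_1 lc_f_rc_20_1 lc_f_rc_14_3 lc_f_Cert_tree lc_f_rc_14_3 lc_f_Cert_tree lc_f_rc_20_1 lc_f_rc_14_3 lc_f_Cert_tree lc_f_rc_14_1 lc_f_rc_21_1 lc_f_Cert_tree lc_f_rc_22_1 lc_f_rc_20_1 lc_f_rc_19_3 lc_f_rc_5_1 lc_f_rc_17_3 lc_f_Cert_tree lc_f_rc_20_1 lc_f_rc_19_3 lc_f_rc_14_1 lc_f_rc_17_3 lc_f_rc_19_3 lc_f_Cert_tree lc_f_rc_21_1 lc_f_rc_14_3 lc_f_rc_14_3 lc_f_Cert_tree lc_f_rc_19_3 lc_f_rc_19_3) (@D3.rec (fun _ => (Cert rels S Gen.f)) lc_f_rc_17_3 lc_f_Cert_tree lc_f_rc_21_1 lc_f_rc_14_3 lc_f_Cert_tree lc_f_rc_5_1 lc_f_rc_14_3 lc_f_Cert_tree lc_f_rc_17_1 lc_f_rc_20_1 lc_f_rc_19_3 lc_f_rc_14_3 lc_f_rc_14_3 lc_f_rc_17_3 lc_f_rc_21_1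 lc_f_rc_21_1 lc_f_rc_17_3 lc_f_rc_5_1 lc_f_rc_20_1 lc_f_rc_5_1 lc_f_rc_14_1 lc_f_rc_10_1 lc_f_rc_17_3 lc_f_rc_5_1 lc_f_Cert_tree lc_f_rc_14_3 lc_f_Cert_tree lc_f_rc_17_3 lc_f_rc_14_3 lc_f_Cert_tree lc_f_rc_14_3 lc_f_Cert_tree lc_f_rc_14_3 lc_f_rc_14_3 lc_f_Cert_tree lc_f_Cert_tree lc_f_rc_20_1 lc_f_rc_19_3 lc_f_rc_10_3 lc_f_rc_17_1 lc_f_rc_17_3 lc_f_rc_14_3 lc_f_Cert_tree lc_f_rc_14_3 lc_f_rc_17_1 lc_f_rc_20_1 lc_f_rc_17_3 lc_f_rc_20_1 lc_f_Cert_tree lc_f_rc_21_1 lc_f_rc_17_3 lc_f_rc_14_3 lc_f_Cert_tree lc_f_rc_21_1 lc_f_rc_17_1 lc_f_rc_20_1 lc_f_rc_14_3 lc_f_Cert_tree lc_f_rc_14_3 lc_f_rc_5_3 lc_f_rc_14_3 lc_f_rc_14_3) (@D3.rec (fun _ => (Cert rels S Gen.f))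 lc_f_rc_10_3 lc_f_rc_17_3 lc_f_Cert_tree lc_f_rc_10_3 lc_f_rc_17_3 lc_f_Cert_tree lc_f_rc_20_1 lc_f_rc_17_3 lc_f_rc_14_3 lc_f_rc_20_1 lc_f_rc_17_3 lc_f_rc_20_1 lc_f_rc_17_3 lc_f_rc_17_3 lc_f_rc_14_3 lc_f_Cert_tree lc_f_rc_10_3 lc_f_rc_17_1 lc_f_rc_20_1 lc_f_rc_21_1 lc_f_Cert_tree lc_f_rc_22_1 lc_f_rc_17_1 lc_f_rc_20_1 lc_f_rc_20_1 lc_f_rc_17_3 lc_f_Cert_tree lc_f_rc_5_3 lc_f_rc_17_3 lc_f_Cert_tree lc_f_rc_20_1 lc_f_rc_14_3 lc_f_rc_20_1 lc_f_rc_14_3 lc_f_rc_17_3 lc_f_Cert_tree lc_f_rc_20_1 lc_f_rc_21_1 lc_f_rc_10_3 lc_f_rc_17_3 lc_f_Cert_tree lc_f_rc_5_3 lc_f_rc_17_3 lc_f_rc_17_3 lc_f_rc_10_3 lc_f_rc_21_1 lc_f_rc_20_1 lc_f_rc_20_1 lc_f_rc_20_1 lc_f_rc_19_3 lc_f_Cert_tree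 lc_f_rc_10_3 lc_f_rc_14_3 lc_f_Cert_tree lc_f_rc_21_1 lc_f_rc_21_1 lc_f_rc_10_3 lc_f_Cert_tree lc_f_rc_20_1 lc_f_rc_10_3 lc_f_rc_17_3 lc_f_rc_17_3) (@D3.rec (fun _ => (Cert rels S Gen.f)) lc_f_Cert_tree lc_f_rc_10_3 lc_f_rc_5_1 lc_f_rc_14_3 lc_f_Cert_tree lc_f_Cert_tree lc_f_rc_21_1 lc_f_rc_5_1 lc_f_Cert_tree lc_f_rc_20_1 lc_f_rc_17_3 lc_f_rc_17_3 lc_f_rc_17_3 lc_f_Cert_tree lc_f_rc_20_1 lc_f_rc_19_3 lc_f_rc_17_3 lc_f_rc_21_1 lc_f_rc_10_3 lc_f_rc_5_1 lc_f_rc_14_3 lc_f_Cert_tree lc_f_rc_14_3 lc_f_rc_14_3 lc_f_rc_10_3 lc_f_rc_17_3 lc_f_rc_17_3 lc_f_rc_10_3 lc_f_rc_10_3 lc_f_rc_20_1 lc_f_rc_19_5 lc_f_rc_14_3 lc_f_Cert_tree lc_f_rc_10_3 lc_f_rc_17_3 lc_f_Cert_tree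 lc_f_rc_21_1 lc_f_rc_20_1 lc_f_rc_5_1 lc_f_Cert_tree lc_f_rc_14_3 lc_f_rc_17_3 lc_f_rc_19_3 lc_f_rc_10_3 lc_f_rc_21_1 lc_f_rc_20_1 lc_f_rc_5_1 lc_f_Cert_tree lc_f_rc_10_3 lc_f_rc_22_1 lc_f_rc_21_1 lc_f_rc_10_3 lc_f_rc_20_1 lc_f_rc_10_3 lc_f_rc_14_3 lc_f_rc_19_3 lc_f_rc_10_3 lc_f_rc_17_3 lc_f_Cert_tree lc_f_rc_21_1 lc_f_rc_5_1 lc_f_rc_10_3) (@D3.rec (fun _ => (Cert rels S Gen.f)) lc_f_rc_20_1 lc_f_rc_17_3 lc_f_Cert_tree lc_f_rc_19_3 lc_f_rc_20_1 lc_f_rc_20_1 lc_f_rc_20_1 lc_f_rc_20_1 lc_f_Cert_tree lc_f_rc_5_1 lc_f_rc_20_1 lc_f_rc_14_3 lc_f_Cert_tree lc_f_rc_17_3 lc_f_rc_14_3 lc_f_Cert_tree lc_f_rc_14_3 lc_f_rc_14_3 lc_f_rc_10_3 lc_f_rc_20_1 lc_f_Cert_tree lc_f_rc_5_1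 lc_f_rc_17_3 lc_f_rc_20_1 lc_f_rc_5_1 lc_f_rc_19_3 lc_f_rc_17_3 lc_f_rc_14_3 lc_f_rc_10_3 lc_f_rc_10_3 lc_f_rc_14_3 lc_f_Cert_tree lc_f_rc_10_3 lc_f_rc_17_3 lc_f_Cert_tree lc_f_rc_5_1 lc_f_rc_20_1 lc_f_rc_20_1 lc_f_rc_10_3 lc_f_rc_14_3 lc_f_rc_14_3 lc_f_rc_10_3 lc_f_rc_17_3 lc_f_Cert_tree lc_f_rc_10_3 lc_f_rc_14_3 lc_f_rc_5_3 lc_f_rc_20_1 lc_f_rc_10_3 lc_f_rc_10_3 lc_f_rc_10_3 lc_f_rc_17_3 lc_f_rc_20_1 lc_f_rc_10_3 lc_f_rc_14_3 lc_f_rc_14_3 lc_f_rc_19_5 lc_f_rc_20_1 lc_f_Cert_tree lc_f_rc_20_1 lc_f_Cert_tree lc_f_rc_21_1) (@D3.rec (fun _ => (Cert rels S Gen.f)) lc_f_rc_20_1 lc_f_rc_10_3 lc_f_rc_21_1 lc_f_rc_17_3 lc_f_rc_17_1 lc_f_rc_5_1 lc_f_Cert_tree lc_f_rc_5_1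 lc_f_rc_10_3 lc_f_rc_17_1 lc_f_rc_20_1 lc_f_rc_14_3 lc_f_rc_14_3 lc_f_rc_17_1 lc_f_rc_14_3 lc_f_Cert_tree lc_f_rc_14_3 lc_f_rc_21_1 lc_f_rc_10_3 lc_f_rc_5_1 lc_f_Cert_tree lc_f_rc_21_1 lc_f_rc_10_1 lc_f_Cert_tree lc_f_rc_20_1 lc_f_rc_10_1 lc_f_rc_14_3 lc_f_rc_5_1 lc_f_rc_10_3 lc_f_rc_14_3 lc_f_rc_17_3 lc_f_Cert_tree lc_f_rc_19_3 lc_f_rc_5_3 lc_f_rc_14_3 lc_f_Cert_tree lc_f_rc_20_1 lc_f_rc_21_1 lc_f_rc_17_3 lc_f_rc_5_1 lc_f_rc_14_3 lc_f_rc_17_3 lc_f_rc_17_3 lc_f_rc_22_1 lc_f_rc_20_1 lc_f_rc_10_3 lc_f_rc_20_1 lc_f_rc_17_1 lc_f_Cert_tree lc_f_rc_5_3 lc_f_rc_14_3 lc_f_rc_17_3 lc_f_Cert_tree lc_f_rc_14_3 lc_f_rc_5_1 lc_f_rc_10_3 lc_f_rc_17_1 lc_f_rc_20_1 lc_f_rc_10_3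 lc_f_rc_14_3 lc_f_rc_5_1 lc_f_rc_10_3) (@D3.rec (fun _ => (Cert rels S Gen.f)) lc_f_rc_5_3 lc_f_rc_10_3 lc_f_Cert_tree lc_f_rc_17_3 lc_f_rc_14_3 lc_f_Cert_tree lc_f_rc_21_1 lc_f_rc_14_3 lc_f_Cert_tree lc_f_rc_20_1 lc_f_rc_20_1 lc_f_rc_20_1 lc_f_rc_10_3 lc_f_rc_17_3 lc_f_rc_21_1 lc_f_rc_19_5 lc_f_rc_5_1 lc_f_rc_14_3 lc_f_Cert_tree lc_f_rc_14_3 lc_f_rc_20_1 lc_f_rc_14_3 lc_f_rc_17_3 lc_f_Cert_tree lc_f_rc_5_1 lc_f_rc_10_3 lc_f_rc_20_1 lc_f_rc_10_3 lc_f_rc_10_3 lc_f_rc_17_3 lc_f_rc_10_3 lc_f_Cert_tree lc_f_rc_21_1 lc_f_rc_14_3 lc_f_rc_17_3 lc_f_rc_20_1 lc_f_rc_14_3 lc_f_rc_19_3 lc_f_rc_20_1 lc_f_rc_14_3 lc_f_rc_5_1 lc_f_rc_14_3 lc_f_rc_10_3 lc_f_rc_10_3 lc_f_rc_17_3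 lc_f_Cert_tree lc_f_rc_17_3 lc_f_rc_14_3 lc_f_Cert_tree lc_f_Cert_tree lc_f_rc_20_1 lc_f_rc_5_1 lc_f_rc_10_3 lc_f_rc_20_1 lc_f_rc_22_1 lc_f_rc_22_1 lc_f_Cert_tree lc_f_rc_21_1 lc_f_rc_20_1 lc_f_rc_5_3 lc_f_rc_20_1 lc_f_Cert_tree) (@D3.rec (fun _ => (Cert rels S Gen.f)) lc_f_Cert_tree lc_f_Cert_tree lc_f_Cert_tree lc_f_rc_20_1 lc_f_rc_20_1 lc_f_rc_20_1 lc_f_rc_20_1 lc_f_Cert_tree lc_f_rc_5_3 lc_f_rc_20_1 lc_f_rc_5_1 lc_f_rc_10_3 lc_f_Cert_tree lc_f_rc_19_3 lc_f_rc_17_3 lc_f_rc_17_3 lc_f_rc_14_1 lc_f_rc_14_3 lc_f_rc_21_1 lc_f_rc_20_1 lc_f_rc_21_1 lc_f_rc_14_3 lc_f_rc_17_3 lc_f_rc_21_1 lc_f_rc_21_1 lc_f_rc_21_1 lc_f_rc_19_5 lc_f_rc_10_3 lc_f_rc_14_3 lc_f_rc_19_3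 lc_f_rc_17_3 lc_f_rc_20_1 lc_f_rc_20_1 lc_f_rc_20_1 lc_f_rc_20_1 lc_f_rc_14_3 lc_f_Cert_tree lc_f_rc_14_3 lc_f_rc_20_1 lc_f_rc_5_1 lc_f_rc_21_1 lc_f_Cert_tree lc_f_rc_17_3 lc_f_rc_14_3 lc_f_Cert_tree lc_f_rc_14_3 lc_f_rc_14_3 lc_f_rc_10_3 lc_f_rc_14_1 lc_f_Cert_tree lc_f_rc_5_1 lc_f_rc_10_3 lc_f_Cert_tree lc_f_rc_20_1 lc_f_rc_10_3 lc_f_rc_17_3 lc_f_rc_17_3 lc_f_rc_10_3 lc_f_rc_17_3 lc_f_rc_17_3 lc_f_rc_14_3 lc_f_rc_14_3) (@D3.rec (fun _ => (Cert rels S Gen.f)) lc_f_rc_20_1 lc_f_Cert_tree lc_f_rc_10_3 lc_f_Cert_tree lc_f_rc_5_1 lc_f_rc_20_1 lc_f_rc_20_1 lc_f_rc_20_1 lc_f_rc_14_3 lc_f_Cert_tree lc_f_rc_10_3 lc_f_Cert_tree lc_f_rc_5_1 lc_f_rc_20_1 lc_f_rc_10_3 lc_f_rc_14_3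 lc_f_rc_14_3 lc_f_rc_17_3 lc_f_rc_10_3 lc_f_rc_19_5 lc_f_rc_10_3 lc_f_rc_21_1 lc_f_rc_14_3 lc_f_rc_21_1 lc_f_rc_20_1 lc_f_rc_14_3 lc_f_rc_19_3 lc_f_rc_17_3 lc_f_rc_10_3 lc_f_rc_17_3 lc_f_rc_5_1 lc_f_rc_10_3 lc_f_rc_19_5 lc_f_rc_17_3 lc_f_Cert_tree lc_f_rc_17_3 lc_f_rc_17_3 lc_f_rc_5_3 lc_f_rc_10_3 lc_f_Cert_tree lc_f_rc_14_3 lc_f_rc_21_1 lc_f_rc_10_3 lc_f_rc_10_3 lc_f_Cert_tree lc_f_rc_20_1 lc_f_rc_14_3 lc_f_rc_5_3 lc_f_rc_10_3 lc_f_rc_17_3 lc_f_Cert_tree lc_f_rc_19_5 lc_f_rc_21_1 lc_f_rc_21_1 lc_f_rc_17_3 lc_f_rc_10_3 lc_f_rc_10_3 lc_f_rc_17_1 lc_f_rc_5_3 lc_f_rc_5_1 lc_f_rc_10_3 lc_f_rc_5_1) (@D3.rec (fun _ => (Cert rels S Gen.f)) lc_f_rc_14_1 lc_f_Cert_tree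 lc_f_rc_20_1 lc_f_rc_21_1 lc_f_Cert_tree lc_f_rc_20_1 lc_f_rc_21_1 lc_f_rc_20_1 lc_f_rc_20_1 lc_f_rc_10_3 lc_f_rc_20_1 lc_f_rc_21_1 lc_f_rc_21_1 lc_f_rc_20_1 lc_f_rc_14_3 lc_f_rc_10_3 lc_f_rc_10_3 lc_f_rc_14_3 lc_f_rc_17_3 lc_f_rc_17_3 lc_f_Cert_tree lc_f_rc_17_3 lc_f_rc_19_3 lc_f_rc_17_3 lc_f_rc_14_3 lc_f_Cert_tree lc_f_rc_17_3 lc_f_rc_17_3 lc_f_Cert_tree lc_f_rc_17_3 lc_f_rc_14_3 lc_f_rc_10_3 lc_f_Cert_tree lc_f_rc_21_1 lc_f_rc_10_3 lc_f_Cert_tree lc_f_rc_20_1 lc_f_rc_10_3 lc_f_rc_10_3 lc_f_rc_14_3 lc_f_rc_5_1 lc_f_rc_10_3 lc_f_rc_14_3 lc_f_Cert_tree lc_f_Cert_tree lc_f_rc_20_1 lc_f_rc_17_3 lc_f_rc_21_1 lc_f_rc_19_5 lc_f_rc_10_3 lc_f_rc_5_1 lc_f_rc_5_1 lc_f_rc_20_1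 lc_f_Cert_tree lc_f_rc_20_1 lc_f_rc_10_3 lc_f_rc_21_1 lc_f_rc_22_1 lc_f_rc_14_3 lc_f_rc_17_3 lc_f_rc_17_3 lc_f_rc_14_3) (@D3.rec (fun _ => (Cert rels S Gen.f)) lc_f_Cert_tree lc_f_rc_20_1 lc_f_rc_20_1 lc_f_rc_21_1 lc_f_rc_20_1 lc_f_rc_17_3 lc_f_rc_14_3 lc_f_rc_21_1 lc_f_rc_5_1 lc_f_rc_5_3 lc_f_rc_17_3 lc_f_rc_21_1 lc_f_rc_10_3 lc_f_Cert_tree lc_f_rc_10_3 lc_f_Cert_tree lc_f_rc_17_3 lc_f_Cert_tree lc_f_rc_21_1 lc_f_rc_20_1 lc_f_Cert_tree lc_f_rc_20_1 lc_f_rc_10_3 lc_f_rc_10_3 lc_f_rc_21_1 lc_f_rc_21_1 lc_f_rc_20_1 lc_f_rc_10_3 lc_f_rc_14_3 lc_f_rc_14_3 lc_f_rc_17_3 lc_f_rc_10_1 lc_f_rc_5_1 lc_f_rc_14_3 lc_f_Cert_tree lc_f_rc_22_1 lc_f_rc_21_1 lc_f_rc_20_1 lc_f_Cert_tree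 lc_f_rc_20_1 lc_f_rc_10_3 lc_f_rc_10_3 lc_f_rc_5_1 lc_f_rc_14_3 lc_f_rc_10_3 lc_f_rc_19_3 lc_f_rc_10_3 lc_f_rc_5_1 lc_f_rc_5_1 lc_f_rc_14_3 lc_f_rc_17_3 lc_f_rc_21_1 lc_f_rc_10_3 lc_f_rc_17_3 lc_f_Cert_tree lc_f_rc_17_3 lc_f_rc_10_3 lc_f_rc_14_3 lc_f_Cert_tree lc_f_rc_10_3 lc_f_Cert_tree lc_f_rc_20_1) (@D3.rec (fun _ => (Cert rels S Gen.f)) lc_f_rc_17_3 lc_f_Cert_tree lc_f_rc_10_3 lc_f_Cert_tree lc_f_rc_21_1 lc_f_rc_20_1 lc_f_Cert_tree lc_f_rc_20_1 lc_f_rc_21_1 lc_f_Cert_tree lc_f_rc_20_1 lc_f_rc_10_3 lc_f_rc_10_1 lc_f_rc_5_1 lc_f_rc_5_1 lc_f_rc_17_3 lc_f_rc_5_3 lc_f_rc_5_3 lc_f_rc_22_1 lc_f_rc_21_1 lc_f_rc_20_1 lc_f_rc_17_3 lc_f_rc_10_1 lc_f_rc_17_3 lc_f_rc_5_1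 lc_f_rc_14_3 lc_f_Cert_tree lc_f_rc_20_1 lc_f_rc_20_1 lc_f_rc_21_1 lc_f_rc_20_1 lc_f_Cert_tree lc_f_rc_20_1 lc_f_rc_22_1 lc_f_rc_20_1 lc_f_rc_17_3 lc_f_rc_19_3 lc_f_rc_10_3 lc_f_rc_17_3 lc_f_rc_14_3 lc_f_rc_10_3 lc_f_rc_19_5 lc_f_rc_5_3 lc_f_Cert_tree lc_f_rc_20_1 lc_f_rc_21_1 lc_f_Cert_tree lc_f_Cert_tree lc_f_rc_20_1 lc_f_rc_19_3 lc_f_rc_20_1 lc_f_rc_5_1 lc_f_rc_17_3 lc_f_rc_19_3 lc_f_rc_17_3 lc_f_rc_19_3 lc_f_rc_14_3 lc_f_Cert_tree lc_f_rc_21_1 lc_f_Cert_tree lc_f_rc_20_1 lc_f_rc_5_1) (@D3.rec (fun _ => (Cert rels S Gen.f)) lc_f_rc_14_3 lc_f_rc_14_3 lc_f_Cert_tree lc_f_rc_10_3 lc_f_rc_10_3 lc_f_Cert_tree lc_f_rc_10_3 lc_f_rc_5_1 lc_f_Cert_tree lc_f_rc_21_1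 lc_f_rc_14_3 lc_f_rc_10_1 lc_f_Cert_tree lc_f_Cert_tree lc_f_rc_20_1 lc_f_rc_5_1 lc_f_rc_20_1 lc_f_rc_20_1 lc_f_rc_19_1 lc_f_rc_21_1 lc_f_rc_17_3 lc_f_rc_5_3 lc_f_rc_10_3 lc_f_Cert_tree lc_f_rc_21_1 lc_f_rc_20_1 lc_f_rc_19_3 lc_f_rc_20_1 lc_f_rc_5_3 lc_f_rc_14_3 lc_f_Cert_tree lc_f_rc_22_1 lc_f_rc_22_1 lc_f_rc_20_1 lc_f_rc_14_3 lc_f_rc_14_3 lc_f_rc_17_3 lc_f_Cert_tree lc_f_rc_21_1 lc_f_rc_14_3 lc_f_rc_21_1 lc_f_rc_20_1 lc_f_rc_17_3 lc_f_rc_14_3 lc_f_rc_19_3 lc_f_Cert_tree lc_f_rc_10_3 lc_f_rc_5_1 lc_f_rc_14_3 lc_f_Cert_tree lc_f_rc_19_1 lc_f_rc_21_1 lc_f_rc_20_1 lc_f_rc_19_5 lc_f_rc_14_3 lc_f_rc_21_1 lc_f_rc_14_3 lc_f_rc_14_3 lc_f_rc_17_3 lc_f_Cert_tree lc_f_Cert_tree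 lc_f_rc_14_3) (@D3.rec (fun _ => (Cert rels S Gen.f)) lc_f_rc_14_3 lc_f_Cert_tree lc_f_rc_20_1 lc_f_rc_14_3 lc_f_rc_21_1 lc_f_rc_21_1 lc_f_rc_10_3 lc_f_rc_20_1 lc_f_rc_5_3 lc_f_rc_10_1 lc_f_rc_20_1 lc_f_rc_17_3 lc_f_rc_10_3 lc_f_rc_14_3 lc_f_rc_20_1 lc_f_Cert_tree lc_f_rc_20_1 lc_f_rc_17_3 lc_f_rc_5_1 lc_f_rc_10_3 lc_f_rc_17_3 lc_f_rc_20_1 lc_f_rc_20_1 lc_f_rc_5_3 lc_f_rc_10_3 lc_f_Cert_tree lc_f_rc_21_1 lc_f_rc_20_1 lc_f_rc_10_3 lc_f_Cert_tree lc_f_rc_20_1 lc_f_rc_17_1 lc_f_rc_14_3 lc_f_rc_20_1 lc_f_rc_10_3 lc_f_rc_5_1 lc_f_rc_5_3 lc_f_rc_10_1 lc_f_rc_17_1 lc_f_rc_10_3 lc_f_rc_21_1 lc_f_rc_17_3 lc_f_rc_17_3 lc_f_rc_21_1 lc_f_rc_14_3 lc_f_Cert_tree lc_f_rc_21_1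 lc_f_rc_14_3 lc_f_rc_20_1 lc_f_rc_21_1 lc_f_rc_20_1 lc_f_rc_14_3 lc_f_rc_14_3 lc_f_rc_10_3 lc_f_rc_14_1 lc_f_rc_5_1 lc_f_Cert_tree lc_f_rc_5_1 lc_f_rc_5_3 lc_f_rc_10_3 lc_f_rc_10_3 lc_f_rc_14_1) (@D3.rec (fun _ => (Cert rels S Gen.f)) lc_f_rc_14_3 lc_f_rc_14_3 lc_f_rc_21_1 lc_f_Cert_tree lc_f_rc_20_1 lc_f_rc_19_3 lc_f_Cert_tree lc_f_rc_10_3 lc_f_rc_10_3 lc_f_rc_14_3 lc_f_rc_10_3 lc_f_rc_20_1 lc_f_rc_20_1 lc_f_rc_5_1 lc_f_rc_5_1 lc_f_rc_10_3 lc_f_rc_17_3 lc_f_Cert_tree lc_f_rc_20_1 lc_f_rc_5_1 lc_f_Cert_tree lc_f_rc_20_1 lc_f_rc_14_3 lc_f_rc_10_3 lc_f_rc_14_3 lc_f_rc_14_3 lc_f_rc_17_3 lc_f_rc_10_3 lc_f_rc_17_3 lc_f_rc_10_3 lc_f_rc_21_1 lc_f_rc_19_3 lc_f_rc_20_1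 lc_f_rc_17_1 lc_f_rc_20_1 lc_f_rc_17_3 lc_f_rc_10_3 lc_f_rc_10_3 lc_f_rc_21_1 lc_f_rc_20_1 lc_f_rc_5_3 lc_f_rc_10_1 lc_f_rc_17_3 lc_f_rc_10_3 lc_f_rc_19_3 lc_f_rc_17_1 lc_f_rc_17_3 lc_f_rc_17_1 lc_f_Cert_tree lc_f_rc_10_3 lc_f_rc_21_1 lc_f_rc_14_3 lc_f_rc_14_3 lc_f_rc_14_3 lc_f_rc_20_1 lc_f_rc_19_3 lc_f_rc_10_3 lc_f_rc_17_3 lc_f_rc_14_3 lc_f_rc_17_3 lc_f_rc_17_3 lc_f_rc_21_1) (@D3.rec (fun _ => (Cert rels S Gen.f)) lc_f_rc_5_1 lc_f_rc_17_3 lc_f_rc_10_3 lc_f_rc_22_1 lc_f_rc_19_3 lc_f_rc_21_1 lc_f_rc_17_3 lc_f_rc_17_3 lc_f_rc_5_1 lc_f_rc_14_3 lc_f_Cert_tree lc_f_rc_21_1 lc_f_rc_20_1 lc_f_rc_20_1 lc_f_Cert_tree lc_f_rc_14_3 lc_f_rc_22_1 lc_f_rc_20_1 lc_f_rc_14_3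 lc_f_rc_17_3 lc_f_rc_10_3 lc_f_Cert_tree lc_f_rc_20_1 lc_f_rc_17_1 lc_f_rc_20_1 lc_f_rc_10_3 lc_f_rc_17_3 lc_f_rc_21_1 lc_f_rc_20_1 lc_f_rc_20_1 lc_f_rc_20_1 lc_f_rc_22_1 lc_f_rc_21_1 lc_f_rc_10_3 lc_f_rc_14_1 lc_f_Cert_tree lc_f_rc_21_1 lc_f_rc_17_3 lc_f_rc_14_1 lc_f_Cert_tree lc_f_rc_17_3 lc_f_rc_10_3 lc_f_rc_10_3 lc_f_rc_17_3 lc_f_rc_20_1 lc_f_rc_17_3 lc_f_rc_10_3 lc_f_rc_10_3 lc_f_rc_14_3 lc_f_Cert_tree lc_f_rc_14_3 lc_f_rc_10_3 lc_f_Cert_tree lc_f_rc_14_3 lc_f_rc_17_3 lc_f_Cert_tree lc_f_rc_17_3 lc_f_rc_17_3 lc_f_rc_17_3 lc_f_rc_20_1 lc_f_rc_21_1 lc_f_rc_20_1) (@D3.rec (fun _ => (Cert rels S Gen.f)) lc_f_rc_10_3 lc_f_Cert_tree lc_f_rc_21_1 lc_f_rc_14_3 lc_f_rc_20_1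 lc_f_rc_5_3 lc_f_rc_10_3 lc_f_Cert_tree lc_f_Cert_tree lc_f_rc_20_1 lc_f_rc_20_1 lc_f_rc_21_1 lc_f_Cert_tree lc_f_rc_10_3 lc_f_rc_17_3 lc_f_Cert_tree lc_f_rc_22_1 lc_f_rc_20_1 lc_f_rc_14_3 lc_f_Cert_tree lc_f_rc_5_3 lc_f_rc_14_3 lc_f_Cert_tree lc_f_rc_21_1 lc_f_rc_14_3 lc_f_Cert_tree lc_f_rc_14_3 lc_f_rc_14_3 lc_f_rc_21_1 lc_f_Cert_tree lc_f_rc_21_1 lc_f_rc_20_1 lc_f_Cert_tree lc_f_rc_20_1 lc_f_rc_17_3 lc_f_rc_17_3 lc_f_rc_22_1 lc_f_rc_10_3 lc_f_Cert_tree lc_f_rc_10_3 lc_f_Cert_tree lc_f_rc_17_1 lc_f_rc_21_1 lc_f_rc_20_1 lc_f_rc_19_5 lc_f_rc_14_1 lc_f_rc_10_3 lc_f_rc_17_3 lc_f_rc_10_3 lc_f_rc_19_3 lc_f_rc_17_1 lc_f_rc_19_5 lc_f_rc_17_3 lc_f_rc_19_3 lc_f_rc_19_5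 lc_f_rc_20_1 lc_f_rc_10_3 lc_f_rc_17_3 lc_f_rc_17_3 lc_f_rc_10_3 lc_f_rc_17_3 lc_f_rc_17_3) (@D3.rec (fun _ => (Cert rels S Gen.f)) lc_f_rc_14_1 lc_f_rc_19_3 lc_f_rc_10_3 lc_f_rc_19_3 lc_f_rc_10_3 lc_f_rc_14_3 lc_f_rc_19_3 lc_f_rc_17_3 lc_f_rc_10_1 lc_f_rc_5_3 lc_f_rc_17_3 lc_f_rc_14_3 lc_f_rc_10_3 lc_f_rc_14_3 lc_f_rc_5_1 lc_f_rc_20_1 lc_f_rc_5_3 lc_f_rc_20_1 lc_f_Cert_tree lc_f_rc_14_3 lc_f_rc_14_3 lc_f_rc_21_1 lc_f_Cert_tree lc_f_rc_20_1 lc_f_rc_14_3 lc_f_rc_10_3 lc_f_rc_20_1 lc_f_rc_10_3 lc_f_rc_5_1 lc_f_rc_17_3 lc_f_rc_21_1 lc_f_rc_22_1 lc_f_Cert_tree lc_f_rc_20_1 lc_f_rc_10_1 lc_f_Cert_tree lc_f_rc_20_1 lc_f_rc_10_3 lc_f_Cert_tree lc_f_rc_10_3 lc_f_rc_21_1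 lc_f_Cert_tree lc_f_rc_21_1 lc_f_rc_14_3 lc_f_rc_17_3 lc_f_rc_10_3 lc_f_rc_10_3 lc_f_rc_17_3 lc_f_rc_14_3 lc_f_rc_14_3 lc_f_rc_10_1 lc_f_rc_17_3 lc_f_rc_21_1 lc_f_rc_20_1 lc_f_Cert_tree lc_f_rc_20_1 lc_f_rc_10_3 lc_f_rc_17_1 lc_f_Cert_tree lc_f_rc_10_1 lc_f_rc_17_1 lc_f_Cert_tree) (@D3.rec (fun _ => (Cert rels S Gen.f)) lc_f_rc_21_1 lc_f_rc_5_1 lc_f_rc_17_3 lc_f_rc_17_3 lc_f_rc_5_1 lc_f_rc_10_3 lc_f_rc_14_3 lc_f_rc_10_3 lc_f_rc_17_1 lc_f_rc_10_3 lc_f_rc_14_3 lc_f_rc_20_1 lc_f_rc_17_3 lc_f_rc_5_1 lc_f_rc_17_3 lc_f_rc_17_3 lc_f_rc_5_1 lc_f_rc_14_3 lc_f_Cert_tree lc_f_rc_5_1 lc_f_rc_10_3 lc_f_rc_17_1 lc_f_rc_14_3 lc_f_rc_20_1 lc_f_rc_17_1 lc_f_rc_20_1 lc_f_rc_14_3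 lc_f_rc_21_1 lc_f_rc_14_3 lc_f_Cert_tree lc_f_rc_20_1 lc_f_rc_21_1 lc_f_Cert_tree lc_f_rc_20_1 lc_f_rc_5_1 lc_f_Cert_tree lc_f_rc_17_3 lc_f_rc_14_3 lc_f_Cert_tree lc_f_rc_21_1 lc_f_rc_17_3 lc_f_rc_17_3 lc_f_Cert_tree lc_f_rc_21_1 lc_f_rc_20_1 lc_f_Cert_tree lc_f_rc_20_1 lc_f_rc_20_1 lc_f_rc_20_1 lc_f_rc_21_1 lc_f_rc_20_1 lc_f_Cert_tree lc_f_rc_20_1 lc_f_rc_10_3 lc_f_Cert_tree lc_f_rc_10_3 lc_f_rc_17_1 lc_f_rc_14_3 lc_f_rc_5_1 lc_f_rc_17_3 lc_f_rc_20_1 lc_f_rc_17_1) (@D3.rec (fun _ => (Cert rels S Gen.f)) lc_f_rc_19_3 lc_f_rc_17_3 lc_f_rc_20_1 lc_f_rc_20_1 lc_f_rc_20_1 lc_f_rc_20_1 lc_f_rc_20_1 lc_f_rc_5_1 lc_f_rc_17_3 lc_f_rc_14_3 lc_f_Cert_tree lc_f_rc_21_1 lc_f_Cert_tree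 lc_f_rc_20_1 lc_f_rc_5_1 lc_f_rc_10_3 lc_f_rc_10_3 lc_f_rc_5_3 lc_f_rc_14_3 lc_f_rc_17_3 lc_f_rc_20_1 lc_f_Cert_tree lc_f_rc_20_1 lc_f_rc_20_1 lc_f_rc_20_1 lc_f_rc_20_1 lc_f_rc_20_1 lc_f_Cert_tree lc_f_rc_21_1 lc_f_rc_14_3 lc_f_Cert_tree lc_f_Cert_tree lc_f_rc_17_3 lc_f_rc_20_1 lc_f_rc_14_3 lc_f_rc_5_3 lc_f_rc_20_1 lc_f_rc_20_1 lc_f_rc_20_1 lc_f_rc_5_3 lc_f_Cert_tree lc_f_rc_20_1 lc_f_rc_17_3 lc_f_rc_5_1 lc_f_rc_5_1 lc_f_rc_10_3 lc_f_rc_14_1 lc_f_Cert_tree lc_f_rc_21_1 lc_f_Cert_tree lc_f_rc_20_1 lc_f_rc_21_1 lc_f_Cert_tree lc_f_rc_17_3 lc_f_rc_20_1 lc_f_rc_20_1 lc_f_Cert_tree lc_f_rc_5_3 lc_f_Cert_tree lc_f_rc_20_1 lc_f_rc_20_1 lc_f_rc_17_3) (@D3.rec (fun _ =>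 (Cert rels S Gen.f)) lc_f_Cert_tree lc_f_rc_20_1 lc_f_rc_5_3 lc_f_rc_22_1 lc_f_Cert_tree lc_f_rc_10_3 lc_f_rc_5_1 lc_f_rc_20_1 lc_f_rc_17_3 lc_f_rc_14_3 lc_f_Cert_tree lc_f_rc_17_3 lc_f_rc_14_3 lc_f_rc_10_3 lc_f_rc_14_3 lc_f_Cert_tree lc_f_rc_5_1 lc_f_rc_10_3 lc_f_Cert_tree lc_f_rc_20_1 lc_f_rc_5_3 lc_f_rc_14_3 lc_f_Cert_tree lc_f_rc_10_3 lc_f_rc_17_3 lc_f_Cert_tree lc_f_rc_10_3 lc_f_rc_10_1 lc_f_Cert_tree lc_f_rc_20_1 lc_f_rc_10_3 lc_f_rc_5_1 lc_f_rc_5_1 lc_f_Cert_tree lc_f_rc_22_1 lc_f_rc_14_3 lc_f_rc_10_3 lc_f_Cert_tree lc_f_rc_21_1 lc_f_rc_17_3 lc_f_rc_17_1 lc_f_Cert_tree lc_f_rc_5_1 lc_f_rc_21_1 lc_f_Cert_tree lc_f_rc_20_1 lc_f_rc_5_1 lc_f_rc_5_1 lc_f_rc_5_1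 lc_f_Cert_tree lc_f_rc_14_3 lc_f_rc_10_3 lc_f_rc_17_3 lc_f_Cert_tree lc_f_rc_22_1 lc_f_rc_17_3 lc_f_rc_10_3 lc_f_rc_21_1 lc_f_rc_14_3 lc_f_rc_5_3 lc_f_Cert_tree lc_f_rc_5_1) (@D3.rec (fun _ => (Cert rels S Gen.f)) lc_f_rc_17_3 lc_f_rc_17_3 lc_f_rc_5_1 lc_f_rc_10_1 lc_f_Cert_tree lc_f_rc_20_1 lc_f_rc_20_1 lc_f_rc_21_1 lc_f_rc_17_3 lc_f_rc_20_1 lc_f_rc_21_1 lc_f_rc_20_1 lc_f_rc_5_3 lc_f_Cert_tree lc_f_rc_17_1 lc_f_rc_17_1 lc_f_rc_10_3 lc_f_Cert_tree lc_f_rc_10_3 lc_f_rc_5_1 lc_f_rc_20_1 lc_f_rc_21_1 lc_f_rc_19_3 lc_f_rc_10_1 lc_f_rc_17_3 lc_f_rc_14_1 lc_f_rc_20_1 lc_f_rc_17_1 lc_f_Cert_tree lc_f_rc_20_1 lc_f_rc_10_3 lc_f_rc_5_3 lc_f_rc_17_3 lc_f_rc_17_1 lc_f_rc_5_1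 lc_f_rc_17_3 lc_f_rc_17_3 lc_f_rc_21_1 lc_f_rc_19_1 lc_f_rc_21_1 lc_f_rc_20_1 lc_f_rc_10_3 lc_f_rc_20_1 lc_f_rc_20_1 lc_f_rc_10_3 lc_f_rc_5_3 lc_f_rc_20_1 lc_f_rc_14_1 lc_f_rc_20_1 lc_f_rc_21_1 lc_f_rc_10_3 lc_f_rc_17_3 lc_f_rc_17_3 lc_f_rc_21_1 lc_f_rc_17_3 lc_f_Cert_tree lc_f_rc_14_3 lc_f_Cert_tree lc_f_rc_17_3 lc_f_rc_21_1 lc_f_Cert_tree lc_f_rc_10_3) (@D3.rec (fun _ => (Cert rels S Gen.f)) lc_f_rc_14_3 lc_f_Cert_tree lc_f_rc_21_1 lc_f_rc_17_3 lc_f_rc_10_3 lc_f_rc_22_1 lc_f_rc_10_1 lc_f_rc_14_3 lc_f_Cert_tree lc_f_rc_19_5 lc_f_rc_19_5 lc_f_rc_21_1 lc_f_rc_5_3 lc_f_rc_17_3 lc_f_rc_21_1 lc_f_rc_10_3 lc_f_rc_5_1 lc_f_rc_17_3 lc_f_rc_10_3 lc_f_rc_17_3 lc_f_rc_20_1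 lc_f_rc_20_1 lc_f_rc_20_1 lc_f_rc_10_3 lc_f_rc_21_1 lc_f_rc_17_3 lc_f_Cert_tree lc_f_rc_20_1 lc_f_rc_20_1 lc_f_rc_10_3 lc_f_rc_10_3 lc_f_rc_14_3 lc_f_Cert_tree lc_f_rc_21_1 lc_f_rc_14_1 lc_f_rc_21_1 lc_f_rc_21_1 lc_f_rc_14_3 lc_f_Cert_tree lc_f_rc_17_3 lc_f_rc_14_3 lc_f_Cert_tree lc_f_rc_21_1 lc_f_rc_14_3 lc_f_Cert_tree lc_f_rc_14_3 lc_f_rc_14_3 lc_f_Cert_tree lc_f_Cert_tree lc_f_rc_20_1 lc_f_rc_19_3 lc_f_rc_14_3 lc_f_Cert_tree lc_f_rc_14_3 lc_f_rc_10_3 lc_f_rc_14_3 lc_f_rc_17_3 lc_f_rc_20_1 lc_f_rc_20_1 lc_f_rc_17_3 lc_f_rc_10_3 lc_f_rc_10_3) (@D3.rec (fun _ => (Cert rels S Gen.f)) lc_f_rc_14_3 lc_f_Cert_tree lc_f_rc_10_3 lc_f_rc_14_3 lc_f_rc_20_1 lc_f_rc_21_1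 lc_f_rc_20_1 lc_f_rc_5_1 lc_f_Cert_tree lc_f_rc_10_3 lc_f_rc_5_1 lc_f_rc_19_3 lc_f_rc_10_3 lc_f_rc_20_1 lc_f_rc_20_1 lc_f_rc_5_1 lc_f_Cert_tree lc_f_rc_14_3 lc_f_rc_17_3 lc_f_rc_20_1 lc_f_rc_10_3 lc_f_rc_20_1 lc_f_rc_10_3 lc_f_rc_17_3 lc_f_rc_17_3 lc_f_rc_10_3 lc_f_rc_14_3 lc_f_rc_10_3 lc_f_rc_21_1 lc_f_rc_5_1 lc_f_rc_17_1 lc_f_rc_20_1 lc_f_rc_14_3 lc_f_rc_21_1 lc_f_Cert_tree lc_f_rc_19_3 lc_f_rc_5_1 lc_f_Cert_tree lc_f_rc_14_3 lc_f_rc_17_3 lc_f_rc_19_3 lc_f_rc_21_1 lc_f_rc_20_1 lc_f_rc_19_5 lc_f_Cert_tree lc_f_rc_17_3 lc_f_rc_5_1 lc_f_Cert_tree lc_f_rc_10_3 lc_f_Cert_tree lc_f_rc_5_1 lc_f_rc_20_1 lc_f_Cert_tree lc_f_rc_21_1 lc_f_rc_17_3 lc_f_rc_14_3 lc_f_rc_17_3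 lc_f_rc_14_3 lc_f_rc_14_1 lc_f_rc_14_3 lc_f_rc_10_3 lc_f_rc_17_3)
def ce_f_3 : D2 → D3 → (Cert rels S Gen.f) := @D2.rec (fun _ => D3 → (Cert rels S Gen.f)) (@D3.rec (fun _ => (Cert rels S Gen.f)) lc_f_rc_10_3 lc_f_rc_17_3 lc_f_rc_19_3 lc_f_Cert_tree lc_f_rc_17_3 lc_f_rc_5_3 lc_f_rc_20_1 lc_f_Cert_tree lc_f_rc_17_3 lc_f_rc_20_1 lc_f_rc_10_1 lc_f_rc_20_1 lc_f_Cert_tree lc_f_rc_5_1 lc_f_rc_21_1 lc_f_Cert_tree lc_f_Cert_tree lc_f_rc_20_1 lc_f_rc_19_3 lc_f_rc_17_3 lc_f_Cert_tree lc_f_rc_17_3 lc_f_rc_19_1 lc_f_rc_10_3 lc_f_Cert_tree lc_f_rc_21_1 lc_f_rc_20_1 lc_f_rc_20_1 lc_f_rc_19_1 lc_f_rc_10_3 lc_f_rc_20_1 lc_f_rc_19_3 lc_f_rc_14_3 lc_f_rc_5_3 lc_f_rc_14_1 lc_f_rc_22_1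 lc_f_rc_20_1 lc_f_rc_21_1 lc_f_rc_17_3 lc_f_Cert_tree lc_f_rc_10_1 lc_f_rc_5_1 lc_f_rc_20_1 lc_f_rc_14_1 lc_f_rc_21_1 lc_f_rc_10_3 lc_f_rc_10_3 lc_f_rc_17_3 lc_f_rc_20_1 lc_f_rc_10_3 lc_f_rc_21_1 lc_f_rc_19_5 lc_f_rc_10_3 lc_f_rc_17_3 lc_f_rc_14_3 lc_f_rc_10_1 lc_f_rc_14_1 lc_f_rc_5_1 lc_f_rc_22_1 lc_f_Cert_tree lc_f_Cert_tree lc_f_rc_20_1) (@D3.rec (fun _ => (Cert rels S Gen.f)) lc_f_rc_5_1 lc_f_rc_10_3 lc_f_rc_21_1 lc_f_rc_21_1 lc_f_rc_20_1 lc_f_rc_20_1 lc_f_rc_10_3 lc_f_rc_17_3 lc_f_rc_19_5 lc_f_rc_21_1 lc_f_rc_20_1 lc_f_rc_10_3 lc_f_rc_20_1 lc_f_rc_10_3 lc_f_rc_17_3 lc_f_rc_17_3 lc_f_rc_19_3 lc_f_rc_21_1 lc_f_rc_17_1 lc_f_rc_17_3 lc_f_rc_5_1 lc_f_rc_14_3 lc_f_rc_14_3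 lc_f_Cert_tree lc_f_rc_17_3 lc_f_rc_10_3 lc_f_rc_5_1 lc_f_rc_20_1 lc_f_rc_10_3 lc_f_rc_10_3 lc_f_Cert_tree lc_f_rc_20_1 lc_f_rc_21_1 lc_f_rc_17_1 lc_f_rc_20_1 lc_f_rc_21_1 lc_f_Cert_tree lc_f_rc_20_1 lc_f_rc_14_3 lc_f_rc_10_3 lc_f_rc_20_1 lc_f_rc_20_1 lc_f_rc_10_3 lc_f_rc_17_1 lc_f_Cert_tree lc_f_rc_5_1 lc_f_rc_10_3 lc_f_rc_20_1 lc_f_rc_14_3 lc_f_rc_10_3 lc_f_rc_17_3 lc_f_rc_17_3 lc_f_rc_14_3 lc_f_rc_19_3 lc_f_rc_10_3 lc_f_rc_17_3 lc_f_Cert_tree lc_f_rc_20_1 lc_f_rc_20_1 lc_f_rc_10_3 lc_f_rc_17_3 lc_f_rc_20_1) (@D3.rec (fun _ => (Cert rels S Gen.f)) lc_f_rc_10_3 lc_f_rc_17_3 lc_f_Cert_tree lc_f_rc_20_1 lc_f_rc_21_1 lc_f_rc_14_3 lc_f_rc_10_1 lc_f_Cert_tree lc_f_Cert_tree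 lc_f_rc_20_1 lc_f_rc_14_3 lc_f_rc_14_1 lc_f_rc_21_1 lc_f_rc_20_1 lc_f_rc_19_1 lc_f_rc_14_3 lc_f_rc_14_3 lc_f_Cert_tree lc_f_rc_10_3 lc_f_rc_5_1 lc_f_rc_17_3 lc_f_Cert_tree lc_f_rc_19_1 lc_f_rc_20_1 lc_f_rc_21_1 lc_f_rc_17_3 lc_f_rc_21_1 lc_f_rc_21_1 lc_f_rc_14_3 lc_f_Cert_tree lc_f_rc_20_1 lc_f_rc_19_3 lc_f_Cert_tree lc_f_rc_20_1 lc_f_rc_20_1 lc_f_rc_21_1 lc_f_rc_10_3 lc_f_rc_17_3 lc_f_Cert_tree lc_f_rc_21_1 lc_f_rc_20_1 lc_f_rc_17_3 lc_f_rc_20_1 lc_f_rc_21_1 lc_f_rc_20_1 lc_f_rc_14_3 lc_f_rc_5_3 lc_f_Cert_tree lc_f_rc_10_3 lc_f_rc_17_3 lc_f_rc_14_1 lc_f_rc_20_1 lc_f_rc_10_3 lc_f_Cert_tree lc_f_rc_17_3 lc_f_rc_20_1 lc_f_rc_20_1 lc_f_rc_17_3 lc_f_rc_14_3 lc_f_rc_21_1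 lc_f_rc_10_3 lc_f_rc_21_1) (@D3.rec (fun _ => (Cert rels S Gen.f)) lc_f_rc_20_1 lc_f_rc_22_1 lc_f_rc_14_3 lc_f_rc_20_1 lc_f_rc_20_1 lc_f_rc_17_3 lc_f_rc_20_1 lc_f_rc_21_1 lc_f_rc_10_3 lc_f_rc_17_3 lc_f_rc_5_1 lc_f_rc_21_1 lc_f_rc_20_1 lc_f_rc_14_3 lc_f_rc_10_3 lc_f_rc_17_3 lc_f_rc_20_1 lc_f_rc_10_1 lc_f_rc_14_3 lc_f_rc_14_3 lc_f_Cert_tree lc_f_rc_20_1 lc_f_rc_21_1 lc_f_rc_14_3 lc_f_rc_5_1 lc_f_rc_22_1 lc_f_rc_21_1 lc_f_Cert_tree lc_f_rc_21_1 lc_f_rc_20_1 lc_f_Cert_tree lc_f_rc_20_1 lc_f_rc_17_3 lc_f_rc_20_1 lc_f_rc_10_3 lc_f_rc_5_1 lc_f_rc_5_3 lc_f_rc_20_1 lc_f_Cert_tree lc_f_Cert_tree lc_f_rc_20_1 lc_f_rc_20_1 lc_f_rc_17_3 lc_f_rc_14_3 lc_f_rc_17_1 lc_f_rc_10_3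 lc_f_Cert_tree lc_f_rc_20_1 lc_f_rc_19_3 lc_f_rc_17_3 lc_f_Cert_tree lc_f_Cert_tree lc_f_rc_20_1 lc_f_rc_14_3 lc_f_rc_10_3 lc_f_rc_10_3 lc_f_rc_14_3 lc_f_rc_10_3 lc_f_rc_21_1 lc_f_rc_5_3 lc_f_rc_17_3 lc_f_Cert_tree) (@D3.rec (fun _ => (Cert rels S Gen.f)) lc_f_rc_17_3 lc_f_rc_10_3 lc_f_rc_10_1 lc_f_Cert_tree lc_f_Cert_tree lc_f_Cert_tree lc_f_rc_20_1 lc_f_rc_20_1 lc_f_rc_17_3 lc_f_Cert_tree lc_f_rc_17_3 lc_f_rc_10_3 lc_f_rc_22_1 lc_f_rc_5_1 lc_f_rc_22_1 lc_f_Cert_tree lc_f_rc_17_3 lc_f_rc_14_3 lc_f_rc_14_3 lc_f_rc_20_1 lc_f_rc_21_1 lc_f_rc_14_3 lc_f_Cert_tree lc_f_rc_20_1 lc_f_rc_14_3 lc_f_rc_14_3 lc_f_rc_10_3 lc_f_rc_17_3 lc_f_rc_19_3 lc_f_rc_17_1 lc_f_rc_17_1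 lc_f_rc_21_1 lc_f_rc_20_1 lc_f_rc_17_1 lc_f_rc_20_1 lc_f_rc_10_3 lc_f_rc_14_3 lc_f_Cert_tree lc_f_rc_21_1 lc_f_rc_14_3 lc_f_rc_20_1 lc_f_rc_14_3 lc_f_rc_14_3 lc_f_rc_10_3 lc_f_rc_5_1 lc_f_rc_17_3 lc_f_Cert_tree lc_f_rc_10_3 lc_f_rc_14_3 lc_f_rc_10_3 lc_f_rc_20_1 lc_f_rc_14_3 lc_f_rc_20_1 lc_f_rc_10_1 lc_f_rc_10_3 lc_f_rc_5_1 lc_f_rc_10_3 lc_f_rc_5_1 lc_f_Cert_tree lc_f_rc_10_3 lc_f_Cert_tree lc_f_rc_5_3) (@D3.rec (fun _ => (Cert rels S Gen.f)) lc_f_Cert_tree lc_f_rc_20_1 lc_f_rc_14_3 lc_f_rc_17_3 lc_f_rc_20_1 lc_f_rc_14_3 lc_f_Cert_tree lc_f_rc_5_1 lc_f_Cert_tree lc_f_rc_14_3 lc_f_Cert_tree lc_f_rc_20_1 lc_f_rc_14_3 lc_f_rc_14_3 lc_f_Cert_tree lc_f_rc_20_1 lc_f_rc_10_3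 lc_f_rc_17_3 lc_f_rc_17_3 lc_f_Cert_tree lc_f_rc_10_3 lc_f_rc_17_3 lc_f_Cert_tree lc_f_rc_14_3 lc_f_rc_14_3 lc_f_Cert_tree lc_f_rc_20_1 lc_f_rc_10_1 lc_f_Cert_tree lc_f_rc_17_3 lc_f_rc_14_3 lc_f_rc_14_3 lc_f_Cert_tree lc_f_rc_14_3 lc_f_rc_20_1 lc_f_rc_19_3 lc_f_rc_19_5 lc_f_rc_20_1 lc_f_rc_21_1 lc_f_rc_20_1 lc_f_rc_20_1 lc_f_rc_10_3 lc_f_rc_21_1 lc_f_rc_10_3 lc_f_rc_10_3 lc_f_rc_10_3 lc_f_rc_5_3 lc_f_rc_19_3 lc_f_rc_5_1 lc_f_rc_17_1 lc_f_rc_20_1 lc_f_rc_5_1 lc_f_rc_20_1 lc_f_rc_5_3 lc_f_Cert_tree lc_f_rc_17_3 lc_f_rc_10_3 lc_f_Cert_tree lc_f_rc_21_1 lc_f_rc_10_3 lc_f_rc_10_1 lc_f_rc_20_1) (@D3.rec (fun _ => (Cert rels S Gen.f)) lc_f_rc_21_1 lc_f_rc_20_1 lc_f_rc_21_1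 lc_f_rc_14_3 lc_f_rc_20_1 lc_f_rc_21_1 lc_f_rc_10_3 lc_f_rc_17_3 lc_f_rc_20_1 lc_f_rc_21_1 lc_f_rc_17_3 lc_f_Cert_tree lc_f_rc_20_1 lc_f_rc_22_1 lc_f_rc_17_1 lc_f_rc_10_3 lc_f_rc_14_3 lc_f_rc_20_1 lc_f_rc_17_3 lc_f_rc_14_1 lc_f_rc_5_1 lc_f_rc_5_1 lc_f_rc_20_1 lc_f_rc_14_3 lc_f_Cert_tree lc_f_rc_17_3 lc_f_rc_22_1 lc_f_rc_5_1 lc_f_rc_17_3 lc_f_Cert_tree lc_f_rc_10_3 lc_f_rc_5_1 lc_f_Cert_tree lc_f_rc_20_1 lc_f_rc_21_1 lc_f_rc_20_1 lc_f_rc_20_1 lc_f_rc_21_1 lc_f_rc_14_3 lc_f_rc_10_3 lc_f_rc_17_3 lc_f_rc_5_1 lc_f_rc_20_1 lc_f_rc_21_1 lc_f_rc_20_1 lc_f_Cert_tree lc_f_Cert_tree lc_f_rc_20_1 lc_f_rc_10_3 lc_f_rc_20_1 lc_f_rc_5_1 lc_f_rc_17_3 lc_f_rc_22_1 lc_f_Cert_tree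 lc_f_rc_22_1 lc_f_rc_10_3 lc_f_rc_14_3 lc_f_rc_14_3 lc_f_rc_20_1 lc_f_rc_10_1 lc_f_rc_21_1 lc_f_rc_20_1) (@D3.rec (fun _ => (Cert rels S Gen.f)) lc_f_Cert_tree lc_f_rc_5_3 lc_f_rc_17_3 lc_f_rc_10_3 lc_f_rc_20_1 lc_f_rc_17_3 lc_f_rc_21_1 lc_f_Cert_tree lc_f_rc_5_3 lc_f_rc_14_3 lc_f_rc_20_1 lc_f_Cert_tree lc_f_rc_10_3 lc_f_rc_5_1 lc_f_Cert_tree lc_f_rc_5_1 lc_f_rc_20_1 lc_f_rc_20_1 lc_f_rc_5_1 lc_f_Cert_tree lc_f_rc_5_1 lc_f_rc_20_1 lc_f_rc_14_3 lc_f_rc_20_1 lc_f_rc_5_3 lc_f_rc_21_1 lc_f_rc_20_1 lc_f_rc_21_1 lc_f_rc_21_1 lc_f_rc_14_3 lc_f_rc_17_3 lc_f_rc_17_3 lc_f_rc_21_1 lc_f_Cert_tree lc_f_rc_17_3 lc_f_rc_22_1 lc_f_Cert_tree lc_f_rc_21_1 lc_f_rc_20_1 lc_f_rc_10_3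 lc_f_rc_17_3 lc_f_rc_5_3 lc_f_rc_10_3 lc_f_rc_17_3 lc_f_Cert_tree lc_f_rc_21_1 lc_f_rc_17_3 lc_f_Cert_tree lc_f_rc_5_1 lc_f_rc_10_3 lc_f_Cert_tree lc_f_rc_20_1 lc_f_rc_20_1 lc_f_rc_20_1 lc_f_rc_17_1 lc_f_Cert_tree lc_f_rc_10_3 lc_f_rc_5_1 lc_f_rc_17_3 lc_f_rc_17_3 lc_f_rc_22_1 lc_f_rc_20_1) (@D3.rec (fun _ => (Cert rels S Gen.f)) lc_f_rc_20_1 lc_f_rc_21_1 lc_f_rc_20_1 lc_f_rc_10_3 lc_f_rc_20_1 lc_f_rc_5_1 lc_f_rc_21_1 lc_f_rc_17_3 lc_f_rc_19_3 lc_f_rc_17_3 lc_f_rc_17_3 lc_f_rc_14_1 lc_f_rc_20_1 lc_f_rc_20_1 lc_f_rc_21_1 lc_f_rc_10_3 lc_f_rc_21_1 lc_f_rc_5_3 lc_f_Cert_tree lc_f_rc_20_1 lc_f_rc_17_3 lc_f_rc_17_3 lc_f_Cert_tree lc_f_rc_20_1 lc_f_rc_21_1 lc_f_rc_5_3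 lc_f_rc_10_3 lc_f_rc_10_3 lc_f_rc_20_1 lc_f_rc_10_3 lc_f_rc_17_3 lc_f_rc_21_1 lc_f_rc_20_1 lc_f_rc_21_1 lc_f_rc_14_3 lc_f_rc_20_1 lc_f_rc_20_1 lc_f_rc_21_1 lc_f_rc_5_1 lc_f_rc_14_3 lc_f_rc_17_3 lc_f_rc_19_1 lc_f_rc_20_1 lc_f_rc_21_1 lc_f_rc_5_1 lc_f_rc_21_1 lc_f_rc_20_1 lc_f_rc_21_1 lc_f_rc_10_1 lc_f_rc_14_3 lc_f_rc_17_1 lc_f_rc_20_1 lc_f_rc_21_1 lc_f_rc_14_3 lc_f_rc_21_1 lc_f_rc_19_3 lc_f_Cert_tree lc_f_rc_20_1 lc_f_rc_21_1 lc_f_rc_21_1 lc_f_rc_21_1 lc_f_rc_14_3) (@D3.rec (fun _ => (Cert rels S Gen.f)) lc_f_rc_17_3 lc_f_rc_10_3 lc_f_rc_14_3 lc_f_rc_21_1 lc_f_rc_22_1 lc_f_rc_20_1 lc_f_rc_10_3 lc_f_rc_21_1 lc_f_Cert_tree lc_f_rc_10_3 lc_f_Cert_tree lc_f_rc_17_3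 lc_f_rc_20_1 lc_f_rc_20_1 lc_f_rc_17_3 lc_f_rc_14_3 lc_f_Cert_tree lc_f_rc_10_3 lc_f_Cert_tree lc_f_rc_21_1 lc_f_rc_20_1 lc_f_rc_20_1 lc_f_Cert_tree lc_f_rc_21_1 lc_f_rc_5_1 lc_f_rc_17_1 lc_f_rc_20_1 lc_f_Cert_tree lc_f_rc_20_1 lc_f_rc_17_3 lc_f_rc_17_3 lc_f_rc_17_3 lc_f_rc_19_5 lc_f_rc_10_3 lc_f_rc_22_1 lc_f_rc_17_3 lc_f_rc_17_3 lc_f_rc_14_3 lc_f_rc_20_1 lc_f_rc_21_1 lc_f_rc_20_1 lc_f_rc_20_1 lc_f_rc_5_1 lc_f_Cert_tree lc_f_rc_14_3 lc_f_Cert_tree lc_f_rc_20_1 lc_f_rc_21_1 lc_f_rc_20_1 lc_f_Cert_tree lc_f_rc_17_3 lc_f_rc_21_1 lc_f_rc_14_3 lc_f_Cert_tree lc_f_rc_17_3 lc_f_rc_14_3 lc_f_Cert_tree lc_f_rc_22_1 lc_f_rc_22_1 lc_f_Cert_tree lc_f_rc_5_3 lc_f_rc_10_1)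 (@D3.rec (fun _ => (Cert rels S Gen.f)) lc_f_rc_20_1 lc_f_rc_21_1 lc_f_Cert_tree lc_f_rc_20_1 lc_f_rc_17_3 lc_f_rc_5_1 lc_f_rc_17_3 lc_f_rc_20_1 lc_f_rc_21_1 lc_f_rc_14_3 lc_f_rc_14_3 lc_f_rc_14_3 lc_f_rc_5_1 lc_f_rc_5_1 lc_f_Cert_tree lc_f_rc_17_3 lc_f_rc_19_3 lc_f_rc_14_3 lc_f_Cert_tree lc_f_rc_17_3 lc_f_rc_10_1 lc_f_rc_20_1 lc_f_rc_10_3 lc_f_rc_19_3 lc_f_rc_10_3 lc_f_rc_19_3 lc_f_rc_10_3 lc_f_rc_17_3 lc_f_rc_14_3 lc_f_rc_17_1 lc_f_Cert_tree lc_f_rc_17_3 lc_f_rc_14_1 lc_f_Cert_tree lc_f_rc_20_1 lc_f_rc_21_1 lc_f_Cert_tree lc_f_rc_17_3 lc_f_rc_17_3 lc_f_rc_14_3 lc_f_rc_14_3 lc_f_rc_14_3 lc_f_rc_21_1 lc_f_rc_10_3 lc_f_rc_22_1 lc_f_rc_10_3 lc_f_rc_5_1 lc_f_rc_19_3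 lc_f_rc_14_3 lc_f_rc_17_3 lc_f_rc_17_3 lc_f_Cert_tree lc_f_rc_10_3 lc_f_rc_5_3 lc_f_rc_5_1 lc_f_rc_21_1 lc_f_rc_5_1 lc_f_rc_10_1 lc_f_rc_17_3 lc_f_rc_14_3 lc_f_rc_17_3 lc_f_rc_17_3) (@D3.rec (fun _ => (Cert rels S Gen.f)) lc_f_rc_14_3 lc_f_rc_17_1 lc_f_rc_14_3 lc_f_rc_5_3 lc_f_rc_10_1 lc_f_rc_20_1 lc_f_rc_21_1 lc_f_rc_5_3 lc_f_rc_20_1 lc_f_rc_10_3 lc_f_rc_10_3 lc_f_rc_17_3 lc_f_rc_17_3 lc_f_rc_20_1 lc_f_rc_14_3 lc_f_rc_5_3 lc_f_rc_5_1 lc_f_rc_14_1 lc_f_rc_17_3 lc_f_rc_21_1 lc_f_rc_10_3 lc_f_rc_17_3 lc_f_rc_20_1 lc_f_rc_21_1 lc_f_rc_22_1 lc_f_rc_17_3 lc_f_rc_21_1 lc_f_rc_5_1 lc_f_rc_19_1 lc_f_rc_10_3 lc_f_rc_14_3 lc_f_rc_17_3 lc_f_rc_21_1 lc_f_rc_14_3 lc_f_Cert_tree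 lc_f_Cert_tree lc_f_rc_20_1 lc_f_rc_19_3 lc_f_rc_5_1 lc_f_rc_22_1 lc_f_rc_21_1 lc_f_rc_17_3 lc_f_rc_22_1 lc_f_Cert_tree lc_f_rc_17_3 lc_f_Cert_tree lc_f_rc_20_1 lc_f_rc_10_3 lc_f_rc_20_1 lc_f_rc_17_3 lc_f_rc_20_1 lc_f_rc_21_1 lc_f_rc_14_3 lc_f_rc_10_3 lc_f_rc_10_3 lc_f_rc_5_1 lc_f_rc_17_3 lc_f_rc_14_1 lc_f_rc_14_3 lc_f_rc_19_5 lc_f_rc_10_3 lc_f_rc_17_3) (@D3.rec (fun _ => (Cert rels S Gen.f)) lc_f_rc_21_1 lc_f_rc_10_3 lc_f_rc_17_3 lc_f_rc_14_3 lc_f_rc_19_3 lc_f_rc_21_1 lc_f_Cert_tree lc_f_rc_21_1 lc_f_rc_21_1 lc_f_rc_10_3 lc_f_Cert_tree lc_f_rc_5_1 lc_f_rc_10_3 lc_f_rc_20_1 lc_f_rc_20_1 lc_f_rc_21_1 lc_f_Cert_tree lc_f_rc_10_3 lc_f_rc_5_1 lc_f_Cert_tree lc_f_rc_21_1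 lc_f_rc_5_1 lc_f_rc_17_1 lc_f_rc_20_1 lc_f_rc_10_3 lc_f_rc_21_1 lc_f_Cert_tree lc_f_rc_14_3 lc_f_rc_17_3 lc_f_Cert_tree lc_f_rc_21_1 lc_f_rc_14_1 lc_f_rc_14_3 lc_f_rc_20_1 lc_f_Cert_tree lc_f_rc_14_3 lc_f_Cert_tree lc_f_rc_22_1 lc_f_Cert_tree lc_f_rc_21_1 lc_f_rc_20_1 lc_f_rc_20_1 lc_f_rc_19_5 lc_f_rc_14_3 lc_f_rc_17_3 lc_f_rc_5_3 lc_f_rc_22_1 lc_f_Cert_tree lc_f_rc_20_1 lc_f_Cert_tree lc_f_rc_20_1 lc_f_rc_21_1 lc_f_rc_20_1 lc_f_rc_17_3 lc_f_rc_20_1 lc_f_rc_20_1 lc_f_rc_14_3 lc_f_rc_19_3 lc_f_rc_21_1 lc_f_rc_10_3 lc_f_Cert_tree lc_f_rc_10_3) (@D3.rec (fun _ => (Cert rels S Gen.f)) lc_f_rc_5_3 lc_f_rc_5_1 lc_f_Cert_tree lc_f_rc_14_3 lc_f_rc_20_1 lc_f_rc_19_3 lc_f_rc_20_1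 lc_f_rc_21_1 lc_f_rc_20_1 lc_f_rc_21_1 lc_f_rc_20_1 lc_f_Cert_tree lc_f_rc_10_3 lc_f_rc_22_1 lc_f_Cert_tree lc_f_rc_21_1 lc_f_rc_20_1 lc_f_rc_20_1 lc_f_Cert_tree lc_f_Cert_tree lc_f_Cert_tree lc_f_rc_14_1 lc_f_rc_17_3 lc_f_rc_19_5 lc_f_rc_20_1 lc_f_rc_10_3 lc_f_rc_10_3 lc_f_rc_17_3 lc_f_rc_14_3 lc_f_rc_10_3 lc_f_rc_14_3 lc_f_Cert_tree lc_f_rc_20_1 lc_f_rc_22_1 lc_f_rc_14_3 lc_f_rc_10_3 lc_f_rc_14_3 lc_f_Cert_tree lc_f_rc_20_1 lc_f_Cert_tree lc_f_rc_20_1 lc_f_rc_17_3 lc_f_rc_14_3 lc_f_rc_14_3 lc_f_rc_21_1 lc_f_rc_10_3 lc_f_rc_17_3 lc_f_rc_14_3 lc_f_rc_10_3 lc_f_rc_19_3 lc_f_rc_20_1 lc_f_rc_21_1 lc_f_rc_20_1 lc_f_rc_14_3 lc_f_rc_14_3 lc_f_rc_10_3 lc_f_rc_14_3 lc_f_rc_14_3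 lc_f_rc_14_1 lc_f_Cert_tree lc_f_rc_10_3 lc_f_rc_17_3) (@D3.rec (fun _ => (Cert rels S Gen.f)) lc_f_Cert_tree lc_f_rc_5_1 lc_f_Cert_tree lc_f_rc_20_1 lc_f_rc_10_3 lc_f_rc_17_3 lc_f_rc_5_1 lc_f_rc_17_3 lc_f_rc_14_3 lc_f_Cert_tree lc_f_rc_17_3 lc_f_rc_14_3 lc_f_Cert_tree lc_f_rc_20_1 lc_f_rc_10_3 lc_f_Cert_tree lc_f_rc_20_1 lc_f_rc_21_1 lc_f_rc_14_3 lc_f_rc_17_3 lc_f_Cert_tree lc_f_rc_20_1 lc_f_rc_21_1 lc_f_rc_5_1 lc_f_rc_10_1 lc_f_rc_10_3 lc_f_Cert_tree lc_f_rc_19_5 lc_f_rc_5_1 lc_f_rc_20_1 lc_f_rc_14_3 lc_f_rc_14_3 lc_f_rc_21_1 lc_f_rc_19_3 lc_f_rc_19_3 lc_f_Cert_tree lc_f_rc_14_3 lc_f_rc_21_1 lc_f_rc_20_1 lc_f_rc_10_3 lc_f_rc_21_1 lc_f_rc_17_3 lc_f_rc_17_1 lc_f_rc_21_1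 lc_f_rc_14_3 lc_f_rc_17_3 lc_f_rc_17_3 lc_f_rc_21_1 lc_f_rc_14_3 lc_f_rc_10_3 lc_f_rc_20_1 lc_f_rc_14_3 lc_f_rc_14_3 lc_f_Cert_tree lc_f_rc_14_3 lc_f_rc_21_1 lc_f_rc_20_1 lc_f_rc_10_3 lc_f_rc_20_1 lc_f_rc_17_1 lc_f_rc_22_1 lc_f_rc_20_1) (@D3.rec (fun _ => (Cert rels S Gen.f)) lc_f_rc_5_3 lc_f_Cert_tree lc_f_rc_10_1 lc_f_rc_21_1 lc_f_Cert_tree lc_f_rc_14_3 lc_f_rc_10_1 lc_f_rc_10_3 lc_f_Cert_tree lc_f_rc_21_1 lc_f_rc_20_1 lc_f_Cert_tree lc_f_rc_20_1 lc_f_rc_14_3 lc_f_rc_14_3 lc_f_rc_19_3 lc_f_rc_10_3 lc_f_rc_17_3 lc_f_rc_19_3 lc_f_Cert_tree lc_f_rc_20_1 lc_f_Cert_tree lc_f_Cert_tree lc_f_rc_10_3 lc_f_rc_20_1 lc_f_rc_21_1 lc_f_rc_20_1 lc_f_rc_10_3 lc_f_rc_14_3 lc_f_rc_5_1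 lc_f_rc_10_3 lc_f_rc_17_3 lc_f_Cert_tree lc_f_rc_21_1 lc_f_rc_5_1 lc_f_rc_19_3 lc_f_rc_14_3 lc_f_rc_17_3 lc_f_Cert_tree lc_f_rc_14_3 lc_f_rc_20_1 lc_f_rc_17_3 lc_f_rc_20_1 lc_f_rc_20_1 lc_f_Cert_tree lc_f_Cert_tree lc_f_rc_10_3 lc_f_rc_22_1 lc_f_rc_10_3 lc_f_rc_21_1 lc_f_rc_14_3 lc_f_rc_5_1 lc_f_rc_5_3 lc_f_rc_17_3 lc_f_rc_14_3 lc_f_Cert_tree lc_f_rc_22_1 lc_f_rc_21_1 lc_f_rc_20_1 lc_f_rc_14_3 lc_f_rc_20_1 lc_f_Cert_tree) (@D3.rec (fun _ => (Cert rels S Gen.f)) lc_f_rc_20_1 lc_f_rc_19_3 lc_f_rc_20_1 lc_f_rc_22_1 lc_f_rc_10_3 lc_f_rc_21_1 lc_f_Cert_tree lc_f_Cert_tree lc_f_rc_20_1 lc_f_Cert_tree lc_f_rc_10_3 lc_f_rc_17_3 lc_f_rc_5_1 lc_f_rc_5_1 lc_f_rc_10_3 lc_f_rc_10_3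 lc_f_rc_10_3 lc_f_Cert_tree lc_f_Cert_tree lc_f_rc_14_3 lc_f_rc_5_1 lc_f_Cert_tree lc_f_rc_20_1 lc_f_rc_20_1 lc_f_rc_20_1 lc_f_rc_19_3 lc_f_rc_20_1 lc_f_Cert_tree lc_f_rc_20_1 lc_f_rc_19_3 lc_f_rc_21_1 lc_f_rc_10_3 lc_f_rc_17_3 lc_f_Cert_tree lc_f_rc_10_3 lc_f_rc_21_1 lc_f_Cert_tree lc_f_rc_20_1 lc_f_rc_10_3 lc_f_rc_14_3 lc_f_rc_10_3 lc_f_rc_20_1 lc_f_rc_21_1 lc_f_rc_20_1 lc_f_rc_10_3 lc_f_Cert_tree lc_f_rc_14_3 lc_f_rc_20_1 lc_f_Cert_tree lc_f_rc_5_1 lc_f_rc_14_3 lc_f_Cert_tree lc_f_rc_20_1 lc_f_rc_20_1 lc_f_rc_21_1 lc_f_rc_21_1 lc_f_rc_20_1 lc_f_rc_17_3 lc_f_rc_20_1 lc_f_rc_5_1 lc_f_Cert_tree lc_f_rc_20_1) (@D3.rec (fun _ => (Cert rels S Gen.f)) lc_f_rc_20_1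 lc_f_rc_14_1 lc_f_rc_10_3 lc_f_rc_17_3 lc_f_Cert_tree lc_f_rc_10_1 lc_f_rc_22_1 lc_f_rc_20_1 lc_f_rc_14_3 lc_f_rc_14_3 lc_f_rc_14_3 lc_f_rc_17_3 lc_f_Cert_tree lc_f_Cert_tree lc_f_rc_21_1 lc_f_rc_14_3 lc_f_Cert_tree lc_f_rc_20_1 lc_f_rc_14_3 lc_f_rc_21_1 lc_f_rc_5_1 lc_f_rc_17_3 lc_f_rc_20_1 lc_f_rc_5_1 lc_f_rc_21_1 lc_f_Cert_tree lc_f_rc_20_1 lc_f_rc_17_3 lc_f_rc_17_3 lc_f_rc_5_1 lc_f_rc_14_1 lc_f_rc_10_1 lc_f_Cert_tree lc_f_Cert_tree lc_f_Cert_tree lc_f_rc_20_1 lc_f_rc_21_1 lc_f_Cert_tree lc_f_Cert_tree lc_f_Cert_tree lc_f_rc_20_1 lc_f_rc_17_3 lc_f_rc_5_1 lc_f_rc_21_1 lc_f_Cert_tree lc_f_rc_14_3 lc_f_rc_10_3 lc_f_Cert_tree lc_f_rc_22_1 lc_f_Cert_tree lc_f_rc_21_1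 lc_f_rc_17_3 lc_f_rc_17_3 lc_f_Cert_tree lc_f_rc_5_1 lc_f_rc_20_1 lc_f_Cert_tree lc_f_rc_20_1 lc_f_rc_17_3 lc_f_Cert_tree lc_f_Cert_tree lc_f_rc_17_3) (@D3.rec (fun _ => (Cert rels S Gen.f)) lc_f_Cert_tree lc_f_rc_10_3 lc_f_rc_10_1 lc_f_Cert_tree lc_f_rc_20_1 lc_f_rc_19_1 lc_f_rc_10_3 lc_f_rc_5_1 lc_f_rc_5_1 lc_f_Cert_tree lc_f_rc_14_3 lc_f_rc_10_3 lc_f_rc_17_3 lc_f_Cert_tree lc_f_rc_21_1 lc_f_rc_20_1 lc_f_Cert_tree lc_f_rc_20_1 lc_f_rc_19_1 lc_f_rc_14_3 lc_f_rc_14_3 lc_f_rc_17_3 lc_f_rc_14_3 lc_f_rc_21_1 lc_f_rc_20_1 lc_f_rc_20_1 lc_f_rc_21_1 lc_f_rc_19_3 lc_f_rc_19_1 lc_f_rc_20_1 lc_f_rc_20_1 lc_f_rc_17_3 lc_f_rc_19_1 lc_f_rc_10_1 lc_f_rc_19_3 lc_f_rc_20_1 lc_f_rc_20_1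 lc_f_Cert_tree lc_f_rc_19_5 lc_f_rc_14_3 lc_f_rc_5_3 lc_f_rc_17_3 lc_f_rc_20_1 lc_f_rc_21_1 lc_f_rc_14_3 lc_f_rc_10_3 lc_f_rc_21_1 lc_f_rc_20_1 lc_f_rc_14_3 lc_f_rc_17_3 lc_f_rc_14_3 lc_f_rc_14_3 lc_f_rc_5_3 lc_f_rc_14_1 lc_f_rc_21_1 lc_f_rc_10_3 lc_f_rc_17_3 lc_f_rc_14_1 lc_f_Cert_tree lc_f_rc_20_1 lc_f_rc_21_1 lc_f_rc_19_3) (@D3.rec (fun _ => (Cert rels S Gen.f)) lc_f_rc_20_1 lc_f_rc_10_3 lc_f_Cert_tree lc_f_rc_10_3 lc_f_rc_17_3 lc_f_rc_17_3 lc_f_rc_14_3 lc_f_Cert_tree lc_f_rc_20_1 lc_f_rc_21_1 lc_f_Cert_tree lc_f_rc_20_1 lc_f_rc_17_3 lc_f_rc_14_3 lc_f_rc_10_3 lc_f_rc_21_1 lc_f_rc_10_1 lc_f_rc_20_1 lc_f_rc_21_1 lc_f_rc_20_1 lc_f_rc_21_1 lc_f_Cert_tree lc_f_rc_20_1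 lc_f_rc_14_3 lc_f_rc_10_1 lc_f_rc_10_3 lc_f_rc_21_1 lc_f_rc_21_1 lc_f_rc_19_3 lc_f_rc_14_3 lc_f_rc_20_1 lc_f_rc_21_1 lc_f_rc_17_1 lc_f_rc_20_1 lc_f_rc_5_3 lc_f_rc_20_1 lc_f_rc_14_3 lc_f_rc_21_1 lc_f_Cert_tree lc_f_Cert_tree lc_f_rc_20_1 lc_f_rc_19_3 lc_f_rc_5_3 lc_f_rc_20_1 lc_f_rc_5_1 lc_f_rc_5_1 lc_f_rc_10_3 lc_f_rc_20_1 lc_f_rc_5_3 lc_f_rc_22_1 lc_f_Cert_tree lc_f_rc_20_1 lc_f_rc_5_1 lc_f_Cert_tree lc_f_rc_20_1 lc_f_rc_20_1 lc_f_rc_19_3 lc_f_rc_20_1 lc_f_rc_20_1 lc_f_Cert_tree lc_f_rc_20_1 lc_f_rc_17_3) (@D3.rec (fun _ => (Cert rels S Gen.f)) lc_f_rc_5_1 lc_f_rc_21_1 lc_f_rc_14_3 lc_f_rc_17_3 lc_f_rc_14_3 lc_f_rc_5_1 lc_f_rc_20_1 lc_f_rc_5_1 lc_f_rc_21_1 lc_f_rc_21_1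 lc_f_rc_14_3 lc_f_Cert_tree lc_f_Cert_tree lc_f_rc_20_1 lc_f_rc_19_3 lc_f_rc_10_3 lc_f_rc_14_3 lc_f_Cert_tree lc_f_rc_14_3 lc_f_rc_21_1 lc_f_rc_10_3 lc_f_Cert_tree lc_f_rc_5_1 lc_f_rc_20_1 lc_f_rc_10_3 lc_f_rc_14_1 lc_f_Cert_tree lc_f_rc_10_1 lc_f_Cert_tree lc_f_rc_20_1 lc_f_rc_20_1 lc_f_rc_21_1 lc_f_rc_20_1 lc_f_rc_10_3 lc_f_rc_14_3 lc_f_rc_17_3 lc_f_Cert_tree lc_f_rc_21_1 lc_f_rc_21_1 lc_f_rc_17_1 lc_f_Cert_tree lc_f_rc_10_3 lc_f_rc_21_1 lc_f_rc_5_3 lc_f_rc_14_3 lc_f_rc_17_3 lc_f_Cert_tree lc_f_rc_17_1 lc_f_rc_17_3 lc_f_rc_21_1 lc_f_Cert_tree lc_f_rc_20_1 lc_f_rc_20_1 lc_f_rc_21_1 lc_f_rc_5_3 lc_f_rc_14_3 lc_f_rc_10_3 lc_f_rc_19_3 lc_f_rc_14_3 lc_f_rc_21_1 lc_f_rc_19_5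 lc_f_rc_20_1) (@D3.rec (fun _ => (Cert rels S Gen.f)) lc_f_rc_17_3 lc_f_rc_17_3 lc_f_rc_21_1 lc_f_Cert_tree lc_f_rc_10_3 lc_f_rc_21_1 lc_f_Cert_tree lc_f_rc_5_1 lc_f_rc_14_3 lc_f_Cert_tree lc_f_rc_14_3 lc_f_rc_20_1 lc_f_rc_19_3 lc_f_rc_20_1 lc_f_rc_14_3 lc_f_rc_17_1 lc_f_rc_21_1 lc_f_rc_14_3 lc_f_rc_20_1 lc_f_rc_20_1 lc_f_rc_14_3 lc_f_rc_10_3 lc_f_Cert_tree lc_f_rc_10_3 lc_f_rc_22_1 lc_f_rc_5_3 lc_f_rc_10_3 lc_f_rc_14_3 lc_f_rc_21_1 lc_f_rc_21_1 lc_f_Cert_tree lc_f_rc_21_1 lc_f_rc_21_1 lc_f_rc_14_3 lc_f_rc_17_1 lc_f_rc_14_3 lc_f_rc_10_3 lc_f_rc_17_3 lc_f_rc_14_3 lc_f_rc_20_1 lc_f_rc_14_3 lc_f_rc_19_5 lc_f_rc_20_1 lc_f_rc_10_3 lc_f_rc_17_3 lc_f_rc_22_1 lc_f_rc_14_3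 lc_f_rc_21_1 lc_f_rc_21_1 lc_f_rc_5_3 lc_f_rc_10_3 lc_f_Cert_tree lc_f_rc_14_3 lc_f_Cert_tree lc_f_rc_17_1 lc_f_rc_20_1 lc_f_rc_10_3 lc_f_rc_21_1 lc_f_rc_14_3 lc_f_rc_14_3 lc_f_rc_17_3 lc_f_rc_17_1) (@D3.rec (fun _ => (Cert rels S Gen.f)) lc_f_rc_21_1 lc_f_rc_21_1 lc_f_rc_19_3 lc_f_rc_14_3 lc_f_rc_20_1 lc_f_rc_21_1 lc_f_rc_20_1 lc_f_rc_10_3 lc_f_rc_14_3 lc_f_rc_21_1 lc_f_rc_14_3 lc_f_rc_10_3 lc_f_rc_17_1 lc_f_rc_21_1 lc_f_rc_17_3 lc_f_rc_14_3 lc_f_rc_10_3 lc_f_rc_17_3 lc_f_rc_5_3 lc_f_rc_19_5 lc_f_rc_10_3 lc_f_rc_19_5 lc_f_rc_21_1 lc_f_rc_5_3 lc_f_Cert_tree lc_f_rc_10_3 lc_f_Cert_tree lc_f_rc_17_3 lc_f_rc_5_1 lc_f_rc_20_1 lc_f_rc_10_3 lc_f_Cert_tree lc_f_rc_10_3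 lc_f_rc_20_1 lc_f_rc_5_3 lc_f_Cert_tree lc_f_rc_20_1 lc_f_rc_20_1 lc_f_rc_14_3 lc_f_rc_5_1 lc_f_rc_10_1 lc_f_rc_21_1 lc_f_rc_17_3 lc_f_rc_21_1 lc_f_rc_20_1 lc_f_rc_10_3 lc_f_rc_20_1 lc_f_rc_10_3 lc_f_rc_14_3 lc_f_rc_10_3 lc_f_rc_10_3 lc_f_rc_17_3 lc_f_rc_14_3 lc_f_Cert_tree lc_f_rc_20_1 lc_f_Cert_tree lc_f_rc_21_1 lc_f_rc_20_1 lc_f_rc_14_3 lc_f_rc_10_3 lc_f_rc_17_3 lc_f_rc_5_3) (@D3.rec (fun _ => (Cert rels S Gen.f)) lc_f_rc_17_3 lc_f_rc_21_1 lc_f_rc_20_1 lc_f_rc_14_3 lc_f_rc_5_1 lc_f_rc_14_3 lc_f_rc_10_3 lc_f_rc_19_3 lc_f_rc_10_3 lc_f_rc_5_1 lc_f_rc_20_1 lc_f_Cert_tree lc_f_rc_14_3 lc_f_rc_21_1 lc_f_rc_14_1 lc_f_Cert_tree lc_f_rc_10_3 lc_f_Cert_tree lc_f_rc_20_1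 lc_f_rc_17_3 lc_f_rc_14_1 lc_f_Cert_tree lc_f_rc_10_3 lc_f_rc_22_1 lc_f_Cert_tree lc_f_rc_5_1 lc_f_Cert_tree lc_f_rc_20_1 lc_f_rc_10_3 lc_f_rc_17_3 lc_f_rc_14_3 lc_f_rc_10_3 lc_f_rc_14_3 lc_f_rc_5_3 lc_f_rc_20_1 lc_f_rc_14_3 lc_f_rc_14_3 lc_f_rc_17_3 lc_f_rc_10_1 lc_f_rc_14_1 lc_f_rc_21_1 lc_f_Cert_tree lc_f_rc_20_1 lc_f_rc_10_3 lc_f_rc_22_1 lc_f_rc_20_1 lc_f_rc_21_1 lc_f_rc_10_3 lc_f_rc_5_3 lc_f_rc_17_3 lc_f_rc_17_3 lc_f_Cert_tree lc_f_rc_14_3 lc_f_rc_10_3 lc_f_rc_21_1 lc_f_rc_19_1 lc_f_rc_5_1 lc_f_rc_21_1 lc_f_rc_5_1 lc_f_rc_20_1 lc_f_rc_17_3 lc_f_rc_20_1) (@D3.rec (fun _ => (Cert rels S Gen.f)) lc_f_rc_10_3 lc_f_rc_5_1 lc_f_rc_17_3 lc_f_rc_5_3 lc_f_rc_20_1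 lc_f_rc_5_1 lc_f_rc_10_3 lc_f_rc_17_3 lc_f_rc_10_3 lc_f_rc_14_3 lc_f_rc_20_1 lc_f_rc_20_1 lc_f_rc_14_3 lc_f_rc_22_1 lc_f_rc_10_1 lc_f_rc_17_3 lc_f_rc_19_3 lc_f_rc_10_3 lc_f_rc_5_3 lc_f_rc_17_3 lc_f_rc_10_3 lc_f_rc_17_3 lc_f_rc_14_3 lc_f_rc_21_1 lc_f_rc_21_1 lc_f_rc_17_3 lc_f_rc_14_3 lc_f_rc_5_3 lc_f_rc_17_1 lc_f_Cert_tree lc_f_rc_20_1 lc_f_rc_5_1 lc_f_rc_20_1 lc_f_rc_14_3 lc_f_rc_10_3 lc_f_rc_14_3 lc_f_rc_21_1 lc_f_rc_5_1 lc_f_rc_10_3 lc_f_rc_22_1 lc_f_rc_14_3 lc_f_rc_10_3 lc_f_rc_14_3 lc_f_rc_14_3 lc_f_rc_20_1 lc_f_rc_14_3 lc_f_rc_21_1 lc_f_Cert_tree lc_f_rc_20_1 lc_f_rc_5_1 lc_f_rc_5_1 lc_f_rc_21_1 lc_f_rc_20_1 lc_f_rc_20_1 lc_f_rc_20_1 lc_f_rc_5_1 lc_f_rc_19_3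 lc_f_rc_20_1 lc_f_rc_10_3 lc_f_rc_10_3 lc_f_rc_14_3 lc_f_rc_17_3) (@D3.rec (fun _ => (Cert rels S Gen.f)) lc_f_Cert_tree lc_f_rc_17_3 lc_f_rc_14_3 lc_f_rc_10_3 lc_f_rc_14_3 lc_f_rc_19_5 lc_f_rc_21_1 lc_f_rc_21_1 lc_f_rc_14_3 lc_f_rc_14_3 lc_f_rc_5_3 lc_f_rc_14_3 lc_f_rc_10_1 lc_f_rc_17_3 lc_f_rc_19_3 lc_f_Cert_tree lc_f_rc_5_1 lc_f_rc_5_1 lc_f_rc_14_3 lc_f_rc_20_1 lc_f_rc_14_3 lc_f_rc_21_1 lc_f_rc_20_1 lc_f_rc_14_3 lc_f_rc_17_1 lc_f_Cert_tree lc_f_rc_21_1 lc_f_rc_17_3 lc_f_rc_20_1 lc_f_rc_14_3 lc_f_rc_17_3 lc_f_Cert_tree lc_f_rc_17_3 lc_f_rc_10_3 lc_f_rc_10_3 lc_f_rc_17_1 lc_f_rc_19_3 lc_f_rc_17_3 lc_f_Cert_tree lc_f_rc_17_3 lc_f_rc_21_1 lc_f_rc_5_3 lc_f_rc_10_1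 lc_f_Cert_tree lc_f_rc_17_3 lc_f_rc_17_3 lc_f_Cert_tree lc_f_rc_21_1 lc_f_rc_14_3 lc_f_Cert_tree lc_f_rc_20_1 lc_f_rc_21_1 lc_f_rc_17_1 lc_f_rc_19_3 lc_f_rc_10_1 lc_f_rc_10_3 lc_f_Cert_tree lc_f_rc_10_3 lc_f_rc_14_1 lc_f_rc_19_1 lc_f_rc_17_3 lc_f_rc_20_1) (@D3.rec (fun _ => (Cert rels S Gen.f)) lc_f_rc_10_3 lc_f_rc_10_3 lc_f_rc_21_1 lc_f_rc_20_1 lc_f_rc_10_3 lc_f_rc_14_1 lc_f_Cert_tree lc_f_Cert_tree lc_f_rc_14_3 lc_f_rc_17_3 lc_f_rc_14_3 lc_f_rc_20_1 lc_f_rc_5_3 lc_f_Cert_tree lc_f_rc_14_1 lc_f_Cert_tree lc_f_rc_20_1 lc_f_rc_5_3 lc_f_rc_14_3 lc_f_rc_10_3 lc_f_rc_5_1 lc_f_rc_21_1 lc_f_rc_20_1 lc_f_rc_20_1 lc_f_rc_10_3 lc_f_rc_14_1 lc_f_rc_17_3 lc_f_rc_17_3 lc_f_rc_17_3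 lc_f_rc_5_3 lc_f_Cert_tree lc_f_rc_17_3 lc_f_Cert_tree lc_f_rc_14_3 lc_f_rc_21_1 lc_f_Cert_tree lc_f_rc_20_1 lc_f_rc_21_1 lc_f_rc_17_3 lc_f_Cert_tree lc_f_rc_10_3 lc_f_rc_17_3 lc_f_rc_5_1 lc_f_rc_10_1 lc_f_rc_5_1 lc_f_Cert_tree lc_f_rc_20_1 lc_f_rc_17_3 lc_f_rc_20_1 lc_f_rc_10_3 lc_f_Cert_tree lc_f_Cert_tree lc_f_rc_21_1 lc_f_rc_20_1 lc_f_Cert_tree lc_f_rc_20_1 lc_f_rc_5_3 lc_f_rc_20_1 lc_f_rc_21_1 lc_f_Cert_tree lc_f_rc_20_1 lc_f_rc_10_3) (@D3.rec (fun _ => (Cert rels S Gen.f)) lc_f_rc_17_3 lc_f_rc_5_3 lc_f_rc_14_1 lc_f_rc_17_3 lc_f_Cert_tree lc_f_rc_22_1 lc_f_Cert_tree lc_f_Cert_tree lc_f_rc_20_1 lc_f_rc_17_3 lc_f_rc_10_3 lc_f_rc_20_1 lc_f_Cert_tree lc_f_Cert_tree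 lc_f_Cert_tree lc_f_rc_20_1 lc_f_rc_10_3 lc_f_Cert_tree lc_f_rc_14_3 lc_f_rc_17_1 lc_f_rc_5_3 lc_f_rc_5_3 lc_f_rc_10_3 lc_f_rc_17_3 lc_f_Cert_tree lc_f_rc_10_3 lc_f_rc_21_1 lc_f_rc_21_1 lc_f_rc_17_3 lc_f_rc_21_1 lc_f_Cert_tree lc_f_rc_20_1 lc_f_rc_22_1 lc_f_rc_14_3 lc_f_rc_5_1 lc_f_rc_14_3 lc_f_rc_10_3 lc_f_rc_5_1 lc_f_rc_5_1 lc_f_rc_17_3 lc_f_rc_14_3 lc_f_rc_19_1 lc_f_rc_17_3 lc_f_rc_20_1 lc_f_rc_21_1 lc_f_rc_5_1 lc_f_rc_14_3 lc_f_rc_14_3 lc_f_rc_17_3 lc_f_rc_19_1 lc_f_rc_14_3 lc_f_rc_17_3 lc_f_rc_17_3 lc_f_rc_20_1 lc_f_rc_20_1 lc_f_rc_14_3 lc_f_rc_14_3 lc_f_rc_19_5 lc_f_rc_17_3 lc_f_rc_21_1 lc_f_rc_14_3 lc_f_rc_17_3) (@D3.rec (fun _ => (Cert rels S Gen.f)) lc_f_rc_17_3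 lc_f_rc_21_1 lc_f_rc_20_1 lc_f_rc_14_3 lc_f_rc_21_1 lc_f_rc_20_1 lc_f_rc_10_3 lc_f_rc_14_3 lc_f_rc_14_3 lc_f_rc_5_3 lc_f_rc_19_5 lc_f_rc_17_3 lc_f_rc_10_3 lc_f_rc_21_1 lc_f_rc_19_5 lc_f_rc_10_3 lc_f_Cert_tree lc_f_rc_10_3 lc_f_rc_5_1 lc_f_rc_20_1 lc_f_rc_14_3 lc_f_rc_10_3 lc_f_rc_20_1 lc_f_rc_5_1 lc_f_Cert_tree lc_f_rc_5_1 lc_f_rc_20_1 lc_f_rc_17_1 lc_f_rc_21_1 lc_f_rc_17_3 lc_f_rc_14_1 lc_f_rc_20_1 lc_f_Cert_tree lc_f_rc_17_3 lc_f_rc_20_1 lc_f_Cert_tree lc_f_rc_21_1 lc_f_rc_14_3 lc_f_rc_20_1 lc_f_rc_21_1 lc_f_rc_5_1 lc_f_Cert_tree lc_f_rc_20_1 lc_f_rc_5_1 lc_f_rc_17_3 lc_f_rc_17_1 lc_f_rc_20_1 lc_f_rc_14_3 lc_f_rc_14_1 lc_f_Cert_tree lc_f_Cert_tree lc_f_rc_20_1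 lc_f_rc_17_1 lc_f_rc_17_3 lc_f_rc_21_1 lc_f_rc_21_1 lc_f_Cert_tree lc_f_rc_20_1 lc_f_rc_14_3 lc_f_rc_22_1 lc_f_rc_10_3 lc_f_rc_14_1) (@D3.rec (fun _ => (Cert rels S Gen.f)) lc_f_rc_10_3 lc_f_rc_17_3 lc_f_rc_5_1 lc_f_rc_10_3 lc_f_Cert_tree lc_f_Cert_tree lc_f_rc_5_1 lc_f_rc_20_1 lc_f_Cert_tree lc_f_rc_20_1 lc_f_rc_21_1 lc_f_rc_14_3 lc_f_rc_17_3 lc_f_rc_17_3 lc_f_rc_21_1 lc_f_rc_14_3 lc_f_rc_17_3 lc_f_rc_17_3 lc_f_rc_10_3 lc_f_rc_22_1 lc_f_rc_10_3 lc_f_Cert_tree lc_f_rc_10_3 lc_f_rc_17_3 lc_f_rc_10_3 lc_f_rc_21_1 lc_f_rc_17_3 lc_f_rc_20_1 lc_f_rc_20_1 lc_f_rc_17_3 lc_f_Cert_tree lc_f_rc_10_3 lc_f_rc_17_3 lc_f_rc_17_3 lc_f_rc_20_1 lc_f_rc_5_1 lc_f_rc_20_1 lc_f_rc_5_1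 lc_f_rc_14_3 lc_f_rc_5_3 lc_f_rc_17_3 lc_f_Cert_tree lc_f_Cert_tree lc_f_rc_21_1 lc_f_rc_14_3 lc_f_Cert_tree lc_f_rc_20_1 lc_f_rc_5_3 lc_f_rc_17_3 lc_f_rc_17_3 lc_f_rc_20_1 lc_f_rc_5_3 lc_f_rc_14_1 lc_f_rc_17_3 lc_f_rc_20_1 lc_f_Cert_tree lc_f_rc_21_1 lc_f_rc_17_3 lc_f_rc_17_3 lc_f_rc_5_3 lc_f_rc_17_3 lc_f_Cert_tree) (@D3.rec (fun _ => (Cert rels S Gen.f)) lc_f_Cert_tree lc_f_Cert_tree lc_f_rc_20_1 lc_f_rc_10_3 lc_f_rc_14_1 lc_f_Cert_tree lc_f_rc_14_3 lc_f_rc_19_3 lc_f_rc_14_3 lc_f_rc_21_1 lc_f_Cert_tree lc_f_rc_20_1 lc_f_rc_17_3 lc_f_rc_17_3 lc_f_rc_21_1 lc_f_rc_20_1 lc_f_Cert_tree lc_f_rc_20_1 lc_f_rc_19_1 lc_f_rc_14_3 lc_f_rc_20_1 lc_f_rc_20_1 lc_f_Cert_tree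 lc_f_rc_10_3 lc_f_rc_5_1 lc_f_rc_5_1 lc_f_rc_21_1 lc_f_rc_17_3 lc_f_rc_20_1 lc_f_Cert_tree lc_f_rc_20_1 lc_f_rc_19_1 lc_f_rc_20_1 lc_f_rc_5_1 lc_f_rc_17_3 lc_f_rc_10_3 lc_f_rc_20_1 lc_f_rc_14_3 lc_f_rc_17_3 lc_f_Cert_tree lc_f_rc_21_1 lc_f_rc_10_1 lc_f_rc_17_3 lc_f_Cert_tree lc_f_rc_17_3 lc_f_rc_14_3 lc_f_rc_19_1 lc_f_rc_21_1 lc_f_rc_17_1 lc_f_rc_20_1 lc_f_rc_10_3 lc_f_rc_20_1 lc_f_rc_14_3 lc_f_rc_17_3 lc_f_rc_17_3 lc_f_rc_10_3 lc_f_rc_17_3 lc_f_rc_19_3 lc_f_rc_14_3 lc_f_rc_10_3 lc_f_rc_20_1 lc_f_rc_5_1) (@D3.rec (fun _ => (Cert rels S Gen.f)) lc_f_rc_17_1 lc_f_rc_21_1 lc_f_rc_14_3 lc_f_rc_19_1 lc_f_rc_17_3 lc_f_rc_14_3 lc_f_rc_21_1 lc_f_rc_21_1 lc_f_rc_20_1 lc_f_rc_17_3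 lc_f_rc_10_3 lc_f_rc_5_1 lc_f_rc_20_1 lc_f_rc_5_1 lc_f_rc_5_1 lc_f_rc_17_1 lc_f_rc_10_3 lc_f_rc_21_1 lc_f_rc_14_3 lc_f_rc_17_3 lc_f_rc_10_3 lc_f_rc_14_3 lc_f_rc_20_1 lc_f_rc_22_1 lc_f_rc_14_3 lc_f_rc_17_3 lc_f_rc_21_1 lc_f_rc_10_3 lc_f_rc_22_1 lc_f_Cert_tree lc_f_rc_5_1 lc_f_rc_10_3 lc_f_rc_17_3 lc_f_rc_21_1 lc_f_rc_20_1 lc_f_rc_10_3 lc_f_rc_14_3 lc_f_rc_20_1 lc_f_rc_22_1 lc_f_rc_14_3 lc_f_rc_17_3 lc_f_rc_14_3 lc_f_rc_10_3 lc_f_rc_22_1 lc_f_rc_21_1 lc_f_rc_5_1 lc_f_rc_20_1 lc_f_rc_10_1 lc_f_Cert_tree lc_f_rc_19_3 lc_f_rc_10_3 lc_f_rc_17_3 lc_f_rc_14_3 lc_f_rc_14_3 lc_f_rc_20_1 lc_f_rc_14_3 lc_f_rc_20_1 lc_f_rc_20_1 lc_f_rc_5_3 lc_f_rc_17_3 lc_f_Cert_tree lc_f_rc_21_1)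 (@D3.rec (fun _ => (Cert rels S Gen.f)) lc_f_rc_20_1 lc_f_rc_20_1 lc_f_rc_17_3 lc_f_rc_20_1 lc_f_rc_21_1 lc_f_rc_17_1 lc_f_rc_20_1 lc_f_rc_17_1 lc_f_rc_14_3 lc_f_rc_10_3 lc_f_rc_20_1 lc_f_rc_21_1 lc_f_rc_20_1 lc_f_rc_10_3 lc_f_rc_10_3 lc_f_rc_5_1 lc_f_rc_14_3 lc_f_rc_5_1 lc_f_rc_14_3 lc_f_Cert_tree lc_f_rc_21_1 lc_f_rc_14_3 lc_f_rc_21_1 lc_f_Cert_tree lc_f_rc_20_1 lc_f_rc_5_1 lc_f_rc_17_1 lc_f_rc_5_1 lc_f_rc_22_1 lc_f_rc_22_1 lc_f_rc_14_3 lc_f_rc_14_1 lc_f_rc_10_3 lc_f_rc_17_3 lc_f_rc_20_1 lc_f_rc_10_1 lc_f_rc_5_3 lc_f_rc_17_3 lc_f_Cert_tree lc_f_rc_10_3 lc_f_rc_14_1 lc_f_Cert_tree lc_f_rc_20_1 lc_f_rc_5_1 lc_f_rc_17_3 lc_f_rc_10_3 lc_f_rc_10_3 lc_f_Cert_tree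 lc_f_Cert_tree lc_f_rc_5_1 lc_f_rc_14_3 lc_f_Cert_tree lc_f_rc_20_1 lc_f_rc_14_3 lc_f_rc_21_1 lc_f_rc_5_1 lc_f_rc_22_1 lc_f_rc_14_3 lc_f_rc_21_1 lc_f_rc_10_3 lc_f_rc_14_3 lc_f_rc_10_3) (@D3.rec (fun _ => (Cert rels S Gen.f)) lc_f_rc_21_1 lc_f_rc_17_1 lc_f_rc_20_1 lc_f_rc_19_3 lc_f_rc_5_3 lc_f_rc_21_1 lc_f_Cert_tree lc_f_rc_17_3 lc_f_Cert_tree lc_f_rc_5_1 lc_f_rc_20_1 lc_f_Cert_tree lc_f_rc_20_1 lc_f_rc_5_3 lc_f_rc_17_3 lc_f_rc_10_3 lc_f_rc_14_3 lc_f_rc_10_3 lc_f_rc_17_3 lc_f_rc_14_1 lc_f_rc_20_1 lc_f_rc_20_1 lc_f_rc_14_1 lc_f_Cert_tree lc_f_rc_21_1 lc_f_rc_20_1 lc_f_rc_14_3 lc_f_rc_10_3 lc_f_rc_5_3 lc_f_rc_10_3 lc_f_rc_17_3 lc_f_Cert_tree lc_f_rc_5_3 lc_f_Cert_tree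 lc_f_rc_20_1 lc_f_rc_17_3 lc_f_rc_5_3 lc_f_rc_10_1 lc_f_rc_19_1 lc_f_Cert_tree lc_f_rc_20_1 lc_f_rc_5_3 lc_f_rc_10_3 lc_f_rc_20_1 lc_f_Cert_tree lc_f_rc_14_3 lc_f_rc_10_1 lc_f_Cert_tree lc_f_rc_20_1 lc_f_rc_10_3 lc_f_rc_10_3 lc_f_rc_17_3 lc_f_rc_14_3 lc_f_rc_10_3 lc_f_rc_5_1 lc_f_rc_5_3 lc_f_Cert_tree lc_f_rc_21_1 lc_f_rc_20_1 lc_f_Cert_tree lc_f_rc_20_1 lc_f_rc_10_3) (@D3.rec (fun _ => (Cert rels S Gen.f)) lc_f_rc_20_1 lc_f_rc_14_3 lc_f_rc_19_5 lc_f_rc_10_3 lc_f_rc_5_3 lc_f_rc_10_3 lc_f_rc_5_3 lc_f_rc_14_3 lc_f_rc_19_5 lc_f_rc_19_5 lc_f_rc_14_3 lc_f_rc_17_3 lc_f_Cert_tree lc_f_rc_10_3 lc_f_rc_17_3 lc_f_Cert_tree lc_f_rc_19_5 lc_f_rc_20_1 lc_f_rc_17_1 lc_f_rc_21_1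 lc_f_rc_20_1 lc_f_rc_22_1 lc_f_rc_20_1 lc_f_rc_17_1 lc_f_rc_17_3 lc_f_rc_21_1 lc_f_rc_14_3 lc_f_rc_20_1 lc_f_rc_10_3 lc_f_rc_20_1 lc_f_rc_14_3 lc_f_Cert_tree lc_f_rc_10_3 lc_f_rc_22_1 lc_f_Cert_tree lc_f_rc_21_1 lc_f_rc_20_1 lc_f_rc_10_3 lc_f_rc_17_3 lc_f_rc_22_1 lc_f_rc_10_3 lc_f_rc_22_1 lc_f_Cert_tree lc_f_Cert_tree lc_f_rc_14_3 lc_f_rc_20_1 lc_f_Cert_tree lc_f_rc_20_1 lc_f_rc_17_3 lc_f_rc_5_3 lc_f_Cert_tree lc_f_rc_20_1 lc_f_rc_22_1 lc_f_rc_20_1 lc_f_rc_17_3 lc_f_rc_21_1 lc_f_rc_14_3 lc_f_rc_5_3 lc_f_rc_20_1 lc_f_rc_20_1 lc_f_rc_20_1 lc_f_rc_14_3) (@D3.rec (fun _ => (Cert rels S Gen.f)) lc_f_rc_14_3 lc_f_rc_17_3 lc_f_rc_5_3 lc_f_rc_20_1 lc_f_rc_14_3 lc_f_rc_19_3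 lc_f_rc_14_3 lc_f_rc_21_1 lc_f_rc_14_3 lc_f_rc_17_3 lc_f_rc_10_3 lc_f_rc_22_1 lc_f_rc_14_3 lc_f_rc_14_3 lc_f_rc_21_1 lc_f_rc_14_3 lc_f_rc_19_5 lc_f_rc_21_1 lc_f_rc_19_5 lc_f_rc_5_3 lc_f_rc_17_3 lc_f_rc_14_3 lc_f_rc_5_3 lc_f_rc_20_1 lc_f_rc_21_1 lc_f_rc_20_1 lc_f_rc_22_1 lc_f_rc_22_1 lc_f_rc_14_3 lc_f_rc_14_3 lc_f_rc_21_1 lc_f_rc_14_3 lc_f_rc_21_1 lc_f_rc_20_1 lc_f_rc_20_1 lc_f_rc_19_1 lc_f_rc_10_1 lc_f_rc_21_1 lc_f_rc_20_1 lc_f_rc_10_3 lc_f_rc_19_3 lc_f_rc_5_1 lc_f_rc_14_3 lc_f_rc_17_3 lc_f_Cert_tree lc_f_rc_17_3 lc_f_rc_17_1 lc_f_rc_10_3 lc_f_rc_21_1 lc_f_rc_14_3 lc_f_Cert_tree lc_f_rc_20_1 lc_f_rc_5_1 lc_f_rc_21_1 lc_f_rc_17_1 lc_f_rc_10_1 lc_f_rc_17_3 lc_f_rc_10_3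 lc_f_rc_5_1 lc_f_rc_20_1 lc_f_rc_17_3 lc_f_rc_20_1) (@D3.rec (fun _ => (Cert rels S Gen.f)) lc_f_rc_21_1 lc_f_rc_14_3 lc_f_rc_20_1 lc_f_rc_5_1 lc_f_rc_5_3 lc_f_rc_10_3 lc_f_Cert_tree lc_f_rc_5_3 lc_f_rc_14_3 lc_f_rc_21_1 lc_f_Cert_tree lc_f_rc_20_1 lc_f_rc_5_1 lc_f_rc_14_3 lc_f_rc_14_1 lc_f_rc_10_3 lc_f_rc_17_3 lc_f_rc_10_3 lc_f_Cert_tree lc_f_rc_21_1 lc_f_rc_14_3 lc_f_Cert_tree lc_f_rc_20_1 lc_f_rc_5_3 lc_f_rc_21_1 lc_f_rc_14_3 lc_f_rc_20_1 lc_f_Cert_tree lc_f_rc_20_1 lc_f_rc_10_3 lc_f_rc_14_3 lc_f_rc_10_3 lc_f_rc_5_1 lc_f_rc_14_3 lc_f_rc_5_1 lc_f_rc_14_1 lc_f_rc_17_3 lc_f_rc_5_3 lc_f_rc_10_3 lc_f_rc_20_1 lc_f_rc_14_3 lc_f_rc_17_3 lc_f_rc_5_3 lc_f_rc_20_1 lc_f_rc_14_1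 lc_f_rc_5_3 lc_f_rc_17_3 lc_f_Cert_tree lc_f_rc_10_3 lc_f_rc_10_3 lc_f_rc_5_1 lc_f_Cert_tree lc_f_rc_20_1 lc_f_rc_5_3 lc_f_rc_14_3 lc_f_rc_10_3 lc_f_rc_5_3 lc_f_rc_17_3 lc_f_rc_10_3 lc_f_Cert_tree lc_f_rc_17_3 lc_f_rc_5_3) (@D3.rec (fun _ => (Cert rels S Gen.f)) lc_f_Cert_tree lc_f_Cert_tree lc_f_rc_20_1 lc_f_rc_10_3 lc_f_rc_5_1 lc_f_rc_19_1 lc_f_Cert_tree lc_f_rc_20_1 lc_f_rc_14_3 lc_f_rc_17_3 lc_f_rc_10_3 lc_f_rc_17_3 lc_f_rc_14_1 lc_f_rc_21_1 lc_f_rc_20_1 lc_f_Cert_tree lc_f_rc_20_1 lc_f_rc_5_1 lc_f_rc_14_3 lc_f_rc_10_3 lc_f_rc_21_1 lc_f_rc_21_1 lc_f_rc_20_1 lc_f_rc_5_3 lc_f_rc_10_3 lc_f_rc_10_3 lc_f_rc_17_3 lc_f_rc_14_3 lc_f_rc_22_1 lc_f_rc_10_3 lc_f_rc_20_1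 lc_f_rc_20_1 lc_f_rc_20_1 lc_f_rc_19_5 lc_f_rc_19_5 lc_f_rc_19_1 lc_f_rc_17_1 lc_f_rc_21_1 lc_f_rc_19_5 lc_f_rc_10_1 lc_f_Cert_tree lc_f_rc_20_1 lc_f_rc_19_3 lc_f_rc_21_1 lc_f_rc_20_1 lc_f_rc_20_1 lc_f_rc_22_1 lc_f_rc_10_3 lc_f_rc_17_3 lc_f_rc_21_1 lc_f_rc_20_1 lc_f_rc_21_1 lc_f_rc_5_3 lc_f_rc_10_1 lc_f_rc_5_3 lc_f_Cert_tree lc_f_rc_20_1 lc_f_rc_21_1 lc_f_rc_20_1 lc_f_rc_5_1 lc_f_rc_21_1 lc_f_rc_20_1) (@D3.rec (fun _ => (Cert rels S Gen.f)) lc_f_rc_17_3 lc_f_rc_14_3 lc_f_rc_10_3 lc_f_rc_22_1 lc_f_rc_21_1 lc_f_rc_10_1 lc_f_rc_20_1 lc_f_rc_19_3 lc_f_rc_20_1 lc_f_rc_10_3 lc_f_rc_17_3 lc_f_rc_19_3 lc_f_rc_10_3 lc_f_rc_10_3 lc_f_Cert_tree lc_f_Cert_tree lc_f_rc_5_1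 lc_f_rc_20_1 lc_f_Cert_tree lc_f_rc_20_1 lc_f_rc_20_1 lc_f_rc_5_3 lc_f_rc_14_3 lc_f_rc_17_3 lc_f_rc_14_3 lc_f_rc_5_1 lc_f_Cert_tree lc_f_Cert_tree lc_f_rc_20_1 lc_f_Cert_tree lc_f_Cert_tree lc_f_rc_20_1 lc_f_rc_10_3 lc_f_Cert_tree lc_f_rc_10_3 lc_f_rc_19_5 lc_f_Cert_tree lc_f_rc_20_1 lc_f_rc_20_1 lc_f_rc_20_1 lc_f_rc_19_3 lc_f_rc_10_3 lc_f_rc_5_1 lc_f_Cert_tree lc_f_rc_17_3 lc_f_rc_14_3 lc_f_Cert_tree lc_f_rc_20_1 lc_f_rc_5_3 lc_f_rc_20_1 lc_f_rc_21_1 lc_f_rc_17_3 lc_f_rc_20_1 lc_f_rc_20_1 lc_f_rc_14_3 lc_f_rc_17_3 lc_f_rc_17_3 lc_f_rc_21_1 lc_f_rc_14_1 lc_f_rc_20_1 lc_f_rc_20_1 lc_f_rc_20_1) (@D3.rec (fun _ => (Cert rels S Gen.f)) lc_f_Cert_tree lc_f_rc_14_3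 lc_f_rc_10_3 lc_f_rc_20_1 lc_f_rc_5_3 lc_f_rc_20_1 lc_f_rc_22_1 lc_f_rc_21_1 lc_f_rc_10_3 lc_f_rc_21_1 lc_f_rc_22_1 lc_f_rc_17_3 lc_f_rc_21_1 lc_f_rc_20_1 lc_f_rc_5_1 lc_f_rc_14_3 lc_f_rc_20_1 lc_f_rc_10_3 lc_f_rc_10_3 lc_f_rc_22_1 lc_f_rc_14_3 lc_f_rc_21_1 lc_f_rc_17_3 lc_f_Cert_tree lc_f_Cert_tree lc_f_rc_20_1 lc_f_rc_17_3 lc_f_rc_14_1 lc_f_Cert_tree lc_f_Cert_tree lc_f_rc_20_1 lc_f_rc_10_3 lc_f_rc_19_5 lc_f_Cert_tree lc_f_rc_20_1 lc_f_rc_14_1 lc_f_rc_14_3 lc_f_rc_14_3 lc_f_rc_10_3 lc_f_rc_17_3 lc_f_Cert_tree lc_f_rc_17_3 lc_f_rc_21_1 lc_f_rc_17_3 lc_f_rc_20_1 lc_f_rc_10_3 lc_f_rc_14_3 lc_f_rc_20_1 lc_f_rc_5_3 lc_f_rc_10_3 lc_f_rc_14_3 lc_f_rc_14_3 lc_f_rc_22_1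 lc_f_rc_14_3 lc_f_rc_14_3 lc_f_rc_14_3 lc_f_rc_20_1 lc_f_rc_5_3 lc_f_rc_19_3 lc_f_rc_10_3 lc_f_rc_17_3 lc_f_rc_14_3) (@D3.rec (fun _ => (Cert rels S Gen.f)) lc_f_rc_20_1 lc_f_rc_21_1 lc_f_rc_14_3 lc_f_rc_17_1 lc_f_Cert_tree lc_f_rc_17_1 lc_f_rc_5_1 lc_f_rc_5_3 lc_f_rc_17_3 lc_f_Cert_tree lc_f_rc_17_1 lc_f_Cert_tree lc_f_rc_14_3 lc_f_rc_21_1 lc_f_Cert_tree lc_f_rc_20_1 lc_f_rc_5_3 lc_f_rc_22_1 lc_f_rc_5_3 lc_f_rc_21_1 lc_f_rc_14_3 lc_f_rc_14_3 lc_f_rc_14_3 lc_f_rc_17_3 lc_f_rc_10_3 lc_f_rc_21_1 lc_f_rc_14_1 lc_f_rc_17_3 lc_f_rc_20_1 lc_f_rc_5_1 lc_f_rc_5_3 lc_f_rc_17_3 lc_f_rc_10_3 lc_f_Cert_tree lc_f_rc_14_1 lc_f_rc_20_1 lc_f_rc_20_1 lc_f_rc_10_3 lc_f_Cert_tree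 lc_f_Cert_tree lc_f_rc_14_1 lc_f_Cert_tree lc_f_rc_20_1 lc_f_rc_14_3 lc_f_rc_5_1 lc_f_rc_10_3 lc_f_rc_17_3 lc_f_rc_17_3 lc_f_rc_21_1 lc_f_rc_17_3 lc_f_rc_20_1 lc_f_rc_17_3 lc_f_rc_17_3 lc_f_Cert_tree lc_f_rc_21_1 lc_f_rc_14_3 lc_f_rc_20_1 lc_f_rc_10_3 lc_f_rc_5_1 lc_f_rc_10_3 lc_f_rc_21_1 lc_f_rc_20_1) (@D3.rec (fun _ => (Cert rels S Gen.f)) lc_f_rc_10_3 lc_f_rc_5_3 lc_f_rc_10_3 lc_f_Cert_tree lc_f_Cert_tree lc_f_rc_14_3 lc_f_rc_21_1 lc_f_Cert_tree lc_f_rc_20_1 lc_f_rc_20_1 lc_f_rc_17_3 lc_f_rc_21_1 lc_f_rc_5_3 lc_f_rc_17_3 lc_f_rc_10_3 lc_f_Cert_tree lc_f_rc_17_3 lc_f_rc_5_1 lc_f_rc_10_3 lc_f_rc_5_3 lc_f_rc_22_1 lc_f_Cert_tree lc_f_Cert_tree lc_f_Cert_tree lc_f_rc_20_1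 lc_f_rc_17_3 lc_f_rc_14_3 lc_f_rc_17_3 lc_f_Cert_tree lc_f_rc_10_3 lc_f_Cert_tree lc_f_rc_5_1 lc_f_rc_20_1 lc_f_Cert_tree lc_f_rc_20_1 lc_f_rc_10_3 lc_f_rc_21_1 lc_f_rc_14_3 lc_f_rc_10_3 lc_f_rc_17_3 lc_f_rc_20_1 lc_f_rc_21_1 lc_f_rc_20_1 lc_f_Cert_tree lc_f_rc_20_1 lc_f_rc_5_1 lc_f_rc_17_1 lc_f_rc_5_3 lc_f_rc_10_3 lc_f_rc_5_1 lc_f_rc_21_1 lc_f_rc_22_1 lc_f_rc_20_1 lc_f_rc_14_3 lc_f_rc_17_3 lc_f_rc_10_3 lc_f_rc_10_3 lc_f_rc_17_3 lc_f_rc_14_3 lc_f_rc_14_3 lc_f_rc_17_3 lc_f_rc_5_3) (@D3.rec (fun _ => (Cert rels S Gen.f)) lc_f_rc_10_3 lc_f_rc_20_1 lc_f_rc_14_3 lc_f_rc_19_3 lc_f_rc_5_3 lc_f_rc_10_3 lc_f_rc_17_3 lc_f_rc_20_1 lc_f_rc_20_1 lc_f_rc_10_3 lc_f_rc_5_1 lc_f_rc_10_3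 lc_f_Cert_tree lc_f_rc_17_3 lc_f_rc_5_1 lc_f_rc_5_3 lc_f_rc_17_3 lc_f_rc_10_3 lc_f_rc_5_3 lc_f_rc_17_1 lc_f_rc_14_3 lc_f_Cert_tree lc_f_rc_14_3 lc_f_rc_21_1 lc_f_rc_20_1 lc_f_rc_17_3 lc_f_rc_21_1 lc_f_rc_17_1 lc_f_rc_20_1 lc_f_rc_5_1 lc_f_rc_10_3 lc_f_rc_5_3 lc_f_rc_10_1 lc_f_rc_20_1 lc_f_rc_21_1 lc_f_rc_5_1 lc_f_rc_5_1 lc_f_rc_10_1 lc_f_rc_10_3 lc_f_Cert_tree lc_f_rc_14_3 lc_f_rc_14_3 lc_f_rc_21_1 lc_f_Cert_tree lc_f_rc_20_1 lc_f_rc_5_1 lc_f_rc_19_3 lc_f_rc_10_1 lc_f_rc_20_1 lc_f_rc_5_1 lc_f_rc_14_1 lc_f_rc_10_3 lc_f_rc_22_1 lc_f_rc_10_3 lc_f_rc_10_3 lc_f_rc_10_3 lc_f_rc_10_3 lc_f_Cert_tree lc_f_rc_22_1 lc_f_rc_10_3 lc_f_rc_10_3 lc_f_rc_14_3) (@D3.rec (fun _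 => (Cert rels S Gen.f)) lc_f_rc_14_3 lc_f_rc_5_3 lc_f_rc_5_1 lc_f_rc_10_3 lc_f_rc_17_3 lc_f_rc_5_1 lc_f_Cert_tree lc_f_rc_20_1 lc_f_rc_21_1 lc_f_rc_14_3 lc_f_rc_10_3 lc_f_rc_14_3 lc_f_Cert_tree lc_f_rc_5_3 lc_f_Cert_tree lc_f_rc_20_1 lc_f_rc_20_1 lc_f_rc_20_1 lc_f_Cert_tree lc_f_rc_21_1 lc_f_rc_20_1 lc_f_rc_10_3 lc_f_Cert_tree lc_f_rc_10_3 lc_f_Cert_tree lc_f_rc_14_3 lc_f_rc_14_1 lc_f_Cert_tree lc_f_rc_22_1 lc_f_rc_20_1 lc_f_rc_10_3 lc_f_rc_17_3 lc_f_rc_5_1 lc_f_rc_17_3 lc_f_rc_21_1 lc_f_rc_17_3 lc_f_rc_17_3 lc_f_Cert_tree lc_f_Cert_tree lc_f_rc_14_3 lc_f_rc_21_1 lc_f_Cert_tree lc_f_rc_20_1 lc_f_rc_14_3 lc_f_rc_17_1 lc_f_rc_22_1 lc_f_rc_14_3 lc_f_rc_5_3 lc_f_rc_10_3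 lc_f_rc_20_1 lc_f_Cert_tree lc_f_rc_21_1 lc_f_rc_14_3 lc_f_rc_20_1 lc_f_rc_17_3 lc_f_rc_21_1 lc_f_rc_5_3 lc_f_rc_17_3 lc_f_Cert_tree lc_f_Cert_tree lc_f_Cert_tree lc_f_rc_20_1) (@D3.rec (fun _ => (Cert rels S Gen.f)) lc_f_rc_21_1 lc_f_rc_10_3 lc_f_rc_5_3 lc_f_rc_14_1 lc_f_Cert_tree lc_f_rc_17_3 lc_f_rc_17_3 lc_f_Cert_tree lc_f_rc_17_3 lc_f_rc_14_3 lc_f_rc_10_3 lc_f_Cert_tree lc_f_rc_5_1 lc_f_rc_10_3 lc_f_Cert_tree lc_f_rc_20_1 lc_f_rc_14_1 lc_f_rc_10_3 lc_f_rc_14_3 lc_f_rc_5_3 lc_f_rc_21_1 lc_f_rc_21_1 lc_f_rc_17_3 lc_f_rc_17_3 lc_f_rc_14_3 lc_f_rc_10_3 lc_f_rc_19_5 lc_f_rc_10_3 lc_f_rc_17_3 lc_f_rc_14_3 lc_f_rc_20_1 lc_f_rc_10_3 lc_f_rc_17_3 lc_f_rc_20_1 lc_f_rc_14_3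 lc_f_rc_21_1 lc_f_Cert_tree lc_f_rc_20_1 lc_f_Cert_tree lc_f_rc_20_1 lc_f_rc_14_3 lc_f_rc_14_3 lc_f_rc_10_3 lc_f_rc_17_3 lc_f_rc_21_1 lc_f_rc_20_1 lc_f_rc_21_1 lc_f_rc_20_1 lc_f_rc_19_3 lc_f_rc_10_3 lc_f_rc_17_3 lc_f_rc_14_3 lc_f_rc_21_1 lc_f_rc_20_1 lc_f_rc_17_3 lc_f_rc_17_3 lc_f_rc_14_1 lc_f_rc_10_3 lc_f_rc_14_1 lc_f_Cert_tree lc_f_rc_22_1 lc_f_rc_20_1) (@D3.rec (fun _ => (Cert rels S Gen.f)) lc_f_rc_19_1 lc_f_rc_10_3 lc_f_rc_17_3 lc_f_rc_14_3 lc_f_rc_10_3 lc_f_rc_17_3 lc_f_rc_14_3 lc_f_rc_5_3 lc_f_rc_14_3 lc_f_rc_10_3 lc_f_rc_21_1 lc_f_rc_20_1 lc_f_Cert_tree lc_f_rc_14_3 lc_f_rc_17_3 lc_f_rc_21_1 lc_f_rc_17_3 lc_f_rc_20_1 lc_f_rc_20_1 lc_f_Cert_tree lc_f_rc_5_1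 lc_f_rc_10_3 lc_f_rc_20_1 lc_f_rc_17_3 lc_f_Cert_tree lc_f_rc_21_1 lc_f_rc_10_1 lc_f_rc_19_3 lc_f_rc_20_1 lc_f_rc_10_3 lc_f_rc_5_1 lc_f_rc_5_3 lc_f_Cert_tree lc_f_Cert_tree lc_f_rc_20_1 lc_f_Cert_tree lc_f_rc_10_3 lc_f_Cert_tree lc_f_rc_5_1 lc_f_rc_10_3 lc_f_rc_5_3 lc_f_rc_17_3 lc_f_rc_10_3 lc_f_Cert_tree lc_f_rc_17_3 lc_f_rc_21_1 lc_f_rc_20_1 lc_f_rc_10_3 lc_f_Cert_tree lc_f_Cert_tree lc_f_Cert_tree lc_f_rc_20_1 lc_f_rc_20_1 lc_f_Cert_tree lc_f_Cert_tree lc_f_rc_21_1 lc_f_rc_20_1 lc_f_rc_19_3 lc_f_rc_20_1 lc_f_rc_10_3 lc_f_Cert_tree lc_f_rc_17_3) (@D3.rec (fun _ => (Cert rels S Gen.f)) lc_f_Cert_tree lc_f_rc_21_1 lc_f_rc_19_3 lc_f_Cert_tree lc_f_rc_20_1 lc_f_rc_10_3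 lc_f_rc_21_1 lc_f_rc_19_1 lc_f_rc_10_3 lc_f_rc_17_3 lc_f_rc_20_1 lc_f_rc_21_1 lc_f_rc_17_3 lc_f_Cert_tree lc_f_rc_20_1 lc_f_rc_10_3 lc_f_rc_5_1 lc_f_rc_19_3 lc_f_rc_14_3 lc_f_rc_5_1 lc_f_rc_14_3 lc_f_rc_5_3 lc_f_rc_17_3 lc_f_rc_10_3 lc_f_rc_20_1 lc_f_rc_22_1 lc_f_rc_5_3 lc_f_rc_5_1 lc_f_rc_5_3 lc_f_rc_20_1 lc_f_rc_14_3 lc_f_rc_22_1 lc_f_rc_21_1 lc_f_rc_5_1 lc_f_Cert_tree lc_f_rc_17_3 lc_f_rc_10_1 lc_f_rc_5_3 lc_f_rc_5_1 lc_f_rc_17_3 lc_f_rc_14_1 lc_f_Cert_tree lc_f_rc_10_3 lc_f_rc_21_1 lc_f_rc_20_1 lc_f_rc_10_3 lc_f_rc_21_1 lc_f_Cert_tree lc_f_rc_20_1 lc_f_rc_20_1 lc_f_rc_20_1 lc_f_rc_20_1 lc_f_rc_10_3 lc_f_rc_17_3 lc_f_rc_21_1 lc_f_Cert_tree lc_f_rc_21_1 lc_f_rc_17_3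 lc_f_rc_21_1 lc_f_rc_10_3 lc_f_rc_17_1 lc_f_rc_5_1) (@D3.rec (fun _ => (Cert rels S Gen.f)) lc_f_rc_5_3 lc_f_rc_17_3 lc_f_rc_10_3 lc_f_Cert_tree lc_f_rc_21_1 lc_f_rc_14_3 lc_f_rc_5_3 lc_f_rc_5_3 lc_f_rc_20_1 lc_f_rc_14_3 lc_f_rc_10_3 lc_f_Cert_tree lc_f_rc_21_1 lc_f_rc_14_3 lc_f_rc_17_3 lc_f_rc_17_3 lc_f_rc_17_3 lc_f_rc_5_3 lc_f_Cert_tree lc_f_Cert_tree lc_f_rc_17_1 lc_f_rc_20_1 lc_f_rc_17_3 lc_f_rc_5_1 lc_f_rc_17_3 lc_f_rc_20_1 lc_f_rc_10_3 lc_f_Cert_tree lc_f_rc_20_1 lc_f_rc_14_3 lc_f_rc_17_3 lc_f_rc_17_3 lc_f_Cert_tree lc_f_rc_10_3 lc_f_rc_17_3 lc_f_rc_17_3 lc_f_Cert_tree lc_f_rc_10_3 lc_f_Cert_tree lc_f_rc_10_3 lc_f_rc_14_3 lc_f_rc_14_3 lc_f_Cert_tree lc_f_rc_10_3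 lc_f_rc_10_3 lc_f_Cert_tree lc_f_rc_20_1 lc_f_rc_20_1 lc_f_rc_21_1 lc_f_Cert_tree lc_f_rc_20_1 lc_f_rc_10_3 lc_f_rc_22_1 lc_f_rc_22_1 lc_f_rc_14_3 lc_f_rc_10_3 lc_f_rc_17_3 lc_f_rc_19_1 lc_f_rc_20_1 lc_f_rc_20_1 lc_f_rc_14_1 lc_f_rc_20_1) (@D3.rec (fun _ => (Cert rels S Gen.f)) lc_f_rc_5_3 lc_f_rc_5_3 lc_f_rc_20_1 lc_f_rc_20_1 lc_f_rc_21_1 lc_f_rc_19_5 lc_f_rc_14_3 lc_f_rc_20_1 lc_f_rc_19_3 lc_f_rc_20_1 lc_f_rc_20_1 lc_f_rc_17_3 lc_f_rc_17_3 lc_f_rc_14_1 lc_f_Cert_tree lc_f_rc_17_3 lc_f_rc_17_3 lc_f_rc_20_1 lc_f_rc_17_1 lc_f_Cert_tree lc_f_rc_5_1 lc_f_rc_17_3 lc_f_rc_5_3 lc_f_Cert_tree lc_f_Cert_tree lc_f_rc_20_1 lc_f_rc_21_1 lc_f_rc_17_1 lc_f_rc_10_3 lc_f_rc_20_1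 lc_f_rc_20_1 lc_f_rc_20_1 lc_f_rc_17_3 lc_f_Cert_tree lc_f_rc_14_3 lc_f_rc_21_1 lc_f_rc_21_1 lc_f_rc_20_1 lc_f_rc_17_3 lc_f_Cert_tree lc_f_rc_17_3 lc_f_Cert_tree lc_f_rc_20_1 lc_f_rc_5_1 lc_f_Cert_tree lc_f_rc_20_1 lc_f_rc_10_3 lc_f_rc_17_3 lc_f_rc_20_1 lc_f_rc_10_3 lc_f_rc_17_3 lc_f_rc_20_1 lc_f_rc_5_1 lc_f_rc_17_3 lc_f_Cert_tree lc_f_rc_20_1 lc_f_rc_5_1 lc_f_rc_5_1 lc_f_rc_14_3 lc_f_rc_5_1 lc_f_rc_10_3 lc_f_rc_21_1) (@D3.rec (fun _ => (Cert rels S Gen.f)) lc_f_rc_14_3 lc_f_rc_20_1 lc_f_Cert_tree lc_f_rc_20_1 lc_f_rc_14_3 lc_f_rc_14_3 lc_f_rc_5_3 lc_f_rc_10_1 lc_f_rc_14_1 lc_f_Cert_tree lc_f_rc_17_3 lc_f_rc_20_1 lc_f_rc_10_3 lc_f_rc_21_1 lc_f_rc_10_3 lc_f_rc_14_1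 lc_f_rc_20_1 lc_f_rc_21_1 lc_f_rc_14_1 lc_f_Cert_tree lc_f_rc_5_1 lc_f_Cert_tree lc_f_rc_5_1 lc_f_rc_17_3 lc_f_rc_14_3 lc_f_Cert_tree lc_f_rc_5_1 lc_f_rc_10_3 lc_f_Cert_tree lc_f_rc_20_1 lc_f_rc_21_1 lc_f_rc_14_3 lc_f_Cert_tree lc_f_rc_20_1 lc_f_rc_10_3 lc_f_rc_21_1 lc_f_rc_17_3 lc_f_rc_10_3 lc_f_rc_17_3 lc_f_rc_20_1 lc_f_rc_17_3 lc_f_rc_5_1 lc_f_Cert_tree lc_f_rc_20_1 lc_f_rc_10_3 lc_f_rc_22_1 lc_f_rc_20_1 lc_f_rc_14_3 lc_f_rc_14_3 lc_f_rc_22_1 lc_f_rc_19_5 lc_f_rc_14_3 lc_f_Cert_tree lc_f_Cert_tree lc_f_rc_20_1 lc_f_rc_14_3 lc_f_rc_14_3 lc_f_Cert_tree lc_f_rc_5_3 lc_f_rc_21_1 lc_f_rc_14_3 lc_f_rc_20_1) (@D3.rec (fun _ => (Cert rels S Gen.f)) lc_f_rc_20_1 lc_f_Cert_tree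 lc_f_rc_17_3 lc_f_Cert_tree lc_f_rc_21_1 lc_f_rc_10_3 lc_f_Cert_tree lc_f_rc_5_1 lc_f_rc_20_1 lc_f_Cert_tree lc_f_rc_20_1 lc_f_rc_21_1 lc_f_rc_20_1 lc_f_rc_17_3 lc_f_Cert_tree lc_f_rc_21_1 lc_f_rc_20_1 lc_f_Cert_tree lc_f_rc_20_1 lc_f_rc_22_1 lc_f_Cert_tree lc_f_rc_20_1 lc_f_rc_17_3 lc_f_rc_20_1 lc_f_rc_17_3 lc_f_rc_21_1 lc_f_Cert_tree lc_f_rc_20_1 lc_f_Cert_tree lc_f_rc_17_1 lc_f_rc_20_1 lc_f_rc_20_1 lc_f_rc_14_3 lc_f_rc_14_1 lc_f_Cert_tree lc_f_rc_10_3 lc_f_rc_21_1 lc_f_Cert_tree lc_f_rc_20_1 lc_f_rc_20_1 lc_f_rc_20_1 lc_f_Cert_tree lc_f_rc_20_1 lc_f_rc_20_1 lc_f_rc_5_1 lc_f_Cert_tree lc_f_rc_20_1 lc_f_rc_17_3 lc_f_rc_5_3 lc_f_rc_17_3 lc_f_rc_10_3 lc_f_Cert_tree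 lc_f_rc_17_3 lc_f_Cert_tree lc_f_rc_20_1 lc_f_rc_21_1 lc_f_Cert_tree lc_f_rc_20_1 lc_f_rc_17_3 lc_f_Cert_tree lc_f_rc_17_3 lc_f_rc_10_3) (@D3.rec (fun _ => (Cert rels S Gen.f)) lc_f_Cert_tree lc_f_rc_19_3 lc_f_rc_19_1 lc_f_Cert_tree lc_f_rc_20_1 lc_f_rc_10_3 lc_f_rc_17_3 lc_f_rc_17_3 lc_f_rc_20_1 lc_f_rc_21_1 lc_f_rc_21_1 lc_f_rc_20_1 lc_f_Cert_tree lc_f_rc_20_1 lc_f_rc_17_3 lc_f_rc_14_1 lc_f_Cert_tree lc_f_rc_21_1 lc_f_rc_20_1 lc_f_Cert_tree lc_f_rc_20_1 lc_f_rc_14_3 lc_f_Cert_tree lc_f_rc_20_1 lc_f_rc_21_1 lc_f_Cert_tree lc_f_rc_20_1 lc_f_rc_5_1 lc_f_rc_10_1 lc_f_rc_5_3 lc_f_Cert_tree lc_f_rc_10_1 lc_f_rc_14_3 lc_f_Cert_tree lc_f_rc_20_1 lc_f_rc_10_3 lc_f_rc_14_3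 lc_f_rc_17_3 lc_f_Cert_tree lc_f_rc_20_1 lc_f_rc_21_1 lc_f_rc_21_1 lc_f_Cert_tree lc_f_rc_5_1 lc_f_rc_17_3 lc_f_Cert_tree lc_f_rc_20_1 lc_f_rc_19_1 lc_f_rc_21_1 lc_f_rc_10_1 lc_f_rc_17_3 lc_f_rc_21_1 lc_f_rc_5_3 lc_f_rc_10_3 lc_f_rc_17_3 lc_f_Cert_tree lc_f_rc_17_3 lc_f_rc_21_1 lc_f_rc_10_1 lc_f_rc_10_3 lc_f_rc_21_1 lc_f_rc_17_3) (@D3.rec (fun _ => (Cert rels S Gen.f)) lc_f_rc_14_3 lc_f_Cert_tree lc_f_rc_17_1 lc_f_rc_20_1 lc_f_rc_21_1 lc_f_rc_10_3 lc_f_rc_10_3 lc_f_Cert_tree lc_f_rc_17_3 lc_f_rc_20_1 lc_f_rc_20_1 lc_f_rc_20_1 lc_f_rc_20_1 lc_f_rc_20_1 lc_f_Cert_tree lc_f_rc_20_1 lc_f_rc_20_1 lc_f_rc_5_1 lc_f_Cert_tree lc_f_rc_17_3 lc_f_rc_14_3 lc_f_Cert_tree lc_f_rc_14_3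 lc_f_rc_20_1 lc_f_rc_19_3 lc_f_rc_17_3 lc_f_rc_14_1 lc_f_rc_17_3 lc_f_rc_19_5 lc_f_rc_20_1 lc_f_rc_21_1 lc_f_rc_21_1 lc_f_rc_20_1 lc_f_rc_14_3 lc_f_rc_22_1 lc_f_rc_14_3 lc_f_rc_10_3 lc_f_rc_17_3 lc_f_rc_22_1 lc_f_rc_17_3 lc_f_rc_21_1 lc_f_rc_20_1 lc_f_rc_19_5 lc_f_rc_21_1 lc_f_rc_17_3 lc_f_rc_17_3 lc_f_rc_21_1 lc_f_rc_14_3 lc_f_rc_14_3 lc_f_rc_17_3 lc_f_rc_14_3 lc_f_rc_17_3 lc_f_rc_17_3 lc_f_rc_20_1 lc_f_Cert_tree lc_f_rc_21_1 lc_f_rc_17_3 lc_f_rc_21_1 lc_f_rc_17_1 lc_f_rc_21_1 lc_f_rc_14_3 lc_f_rc_20_1) (@D3.rec (fun _ => (Cert rels S Gen.f)) lc_f_rc_17_3 lc_f_rc_19_5 lc_f_rc_17_3 lc_f_rc_19_1 lc_f_rc_20_1 lc_f_rc_20_1 lc_f_rc_5_1 lc_f_rc_17_1 lc_f_rc_21_1 lc_f_rc_14_3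 lc_f_rc_17_3 lc_f_rc_5_1 lc_f_rc_19_3 lc_f_rc_14_3 lc_f_rc_21_1 lc_f_rc_20_1 lc_f_Cert_tree lc_f_rc_20_1 lc_f_Cert_tree lc_f_rc_21_1 lc_f_Cert_tree lc_f_rc_20_1 lc_f_rc_10_3 lc_f_rc_17_3 lc_f_rc_14_3 lc_f_rc_17_3 lc_f_rc_21_1 lc_f_rc_17_3 lc_f_rc_19_5 lc_f_rc_10_3 lc_f_rc_21_1 lc_f_rc_17_3 lc_f_rc_14_3 lc_f_rc_21_1 lc_f_rc_17_1 lc_f_rc_5_1 lc_f_rc_5_1 lc_f_rc_5_1 lc_f_rc_20_1 lc_f_Cert_tree lc_f_rc_17_3 lc_f_rc_10_3 lc_f_rc_5_3 lc_f_rc_14_3 lc_f_rc_10_3 lc_f_rc_17_1 lc_f_rc_20_1 lc_f_rc_20_1 lc_f_rc_19_3 lc_f_rc_21_1 lc_f_rc_22_1 lc_f_rc_22_1 lc_f_rc_22_1 lc_f_Cert_tree lc_f_rc_10_1 lc_f_Cert_tree lc_f_Cert_tree lc_f_rc_14_1 lc_f_Cert_tree lc_f_rc_20_1 lc_f_rc_20_1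 lc_f_rc_21_1) (@D3.rec (fun _ => (Cert rels S Gen.f)) lc_f_rc_10_3 lc_f_rc_14_3 lc_f_rc_17_3 lc_f_rc_10_3 lc_f_rc_21_1 lc_f_Cert_tree lc_f_Cert_tree lc_f_rc_20_1 lc_f_rc_10_3 lc_f_rc_10_3 lc_f_rc_5_3 lc_f_rc_10_3 lc_f_rc_17_3 lc_f_rc_10_3 lc_f_Cert_tree lc_f_rc_20_1 lc_f_rc_21_1 lc_f_Cert_tree lc_f_rc_20_1 lc_f_rc_14_3 lc_f_rc_17_3 lc_f_rc_20_1 lc_f_rc_10_3 lc_f_rc_17_3 lc_f_rc_21_1 lc_f_rc_17_3 lc_f_rc_5_1 lc_f_Cert_tree lc_f_rc_20_1 lc_f_rc_5_3 lc_f_rc_14_3 lc_f_rc_14_3 lc_f_rc_17_3 lc_f_rc_14_3 lc_f_rc_19_5 lc_f_rc_14_3 lc_f_rc_21_1 lc_f_rc_20_1 lc_f_rc_14_3 lc_f_rc_14_3 lc_f_rc_20_1 lc_f_Cert_tree lc_f_rc_14_3 lc_f_rc_22_1 lc_f_rc_20_1 lc_f_rc_10_1 lc_f_rc_14_3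 lc_f_rc_10_1 lc_f_rc_10_1 lc_f_Cert_tree lc_f_Cert_tree lc_f_rc_14_3 lc_f_Cert_tree lc_f_rc_20_1 lc_f_rc_21_1 lc_f_rc_14_3 lc_f_Cert_tree lc_f_rc_20_1 lc_f_rc_17_3 lc_f_rc_21_1 lc_f_rc_5_3 lc_f_rc_14_1) (@D3.rec (fun _ => (Cert rels S Gen.f)) lc_f_rc_17_3 lc_f_rc_10_3 lc_f_rc_5_1 lc_f_rc_5_3 lc_f_Cert_tree lc_f_Cert_tree lc_f_rc_20_1 lc_f_rc_10_3 lc_f_Cert_tree lc_f_rc_5_1 lc_f_rc_17_3 lc_f_Cert_tree lc_f_rc_20_1 lc_f_rc_10_3 lc_f_rc_17_3 lc_f_rc_10_3 lc_f_rc_5_3 lc_f_rc_14_3 lc_f_rc_21_1 lc_f_rc_20_1 lc_f_Cert_tree lc_f_rc_20_1 lc_f_rc_5_3 lc_f_rc_10_3 lc_f_rc_21_1 lc_f_rc_10_3 lc_f_rc_17_3 lc_f_rc_14_3 lc_f_rc_20_1 lc_f_rc_20_1 lc_f_rc_5_3 lc_f_rc_19_5 lc_f_rc_21_1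 lc_f_rc_21_1 lc_f_rc_14_1 lc_f_rc_21_1 lc_f_rc_20_1 lc_f_rc_21_1 lc_f_rc_14_3 lc_f_rc_17_3 lc_f_rc_14_3 lc_f_rc_21_1 lc_f_Cert_tree lc_f_rc_21_1 lc_f_rc_20_1 lc_f_rc_20_1 lc_f_rc_10_3 lc_f_rc_20_1 lc_f_rc_17_3 lc_f_Cert_tree lc_f_rc_14_3 lc_f_rc_20_1 lc_f_rc_14_3 lc_f_rc_17_3 lc_f_rc_19_5 lc_f_rc_14_3 lc_f_rc_14_1 lc_f_rc_17_3 lc_f_rc_19_5 lc_f_rc_10_3 lc_f_rc_17_3 lc_f_rc_19_5) (@D3.rec (fun _ => (Cert rels S Gen.f)) lc_f_rc_21_1 lc_f_rc_14_3 lc_f_rc_21_1 lc_f_rc_20_1 lc_f_rc_20_1 lc_f_rc_17_3 lc_f_rc_14_3 lc_f_rc_10_3 lc_f_rc_22_1 lc_f_rc_10_3 lc_f_rc_17_3 lc_f_rc_14_3 lc_f_rc_14_3 lc_f_rc_14_3 lc_f_rc_10_3 lc_f_rc_22_1 lc_f_rc_17_3 lc_f_rc_21_1 lc_f_rc_17_3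 lc_f_rc_14_3 lc_f_Cert_tree lc_f_rc_14_3 lc_f_rc_21_1 lc_f_rc_20_1 lc_f_rc_5_1 lc_f_rc_14_3 lc_f_rc_17_3 lc_f_rc_5_1 lc_f_rc_14_3 lc_f_rc_10_3 lc_f_rc_22_1 lc_f_rc_10_3 lc_f_rc_17_3 lc_f_rc_19_1 lc_f_rc_20_1 lc_f_rc_20_1 lc_f_rc_20_1 lc_f_rc_17_3 lc_f_rc_21_1 lc_f_rc_20_1 lc_f_Cert_tree lc_f_rc_22_1 lc_f_rc_5_1 lc_f_rc_17_3 lc_f_rc_21_1 lc_f_rc_14_3 lc_f_Cert_tree lc_f_rc_5_1 lc_f_rc_22_1 lc_f_rc_14_3 lc_f_rc_22_1 lc_f_rc_21_1 lc_f_rc_10_1 lc_f_rc_21_1 lc_f_rc_14_1 lc_f_rc_20_1 lc_f_rc_17_3 lc_f_rc_14_1 lc_f_rc_21_1 lc_f_rc_21_1 lc_f_Cert_tree lc_f_rc_20_1) (@D3.rec (fun _ => (Cert rels S Gen.f)) lc_f_rc_14_3 lc_f_Cert_tree lc_f_rc_10_3 lc_f_Cert_tree lc_f_Cert_tree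 lc_f_rc_21_1 lc_f_rc_17_3 lc_f_Cert_tree lc_f_rc_14_3 lc_f_rc_20_1 lc_f_rc_19_3 lc_f_rc_20_1 lc_f_rc_10_3 lc_f_Cert_tree lc_f_rc_5_1 lc_f_Cert_tree lc_f_rc_20_1 lc_f_rc_17_3 lc_f_rc_14_3 lc_f_rc_21_1 lc_f_rc_10_3 lc_f_rc_17_3 lc_f_rc_20_1 lc_f_rc_10_3 lc_f_rc_17_3 lc_f_rc_22_1 lc_f_rc_21_1 lc_f_rc_19_5 lc_f_rc_14_3 lc_f_rc_14_1 lc_f_Cert_tree lc_f_rc_20_1 lc_f_rc_17_3 lc_f_rc_21_1 lc_f_rc_17_3 lc_f_Cert_tree lc_f_rc_20_1 lc_f_rc_17_3 lc_f_rc_14_3 lc_f_rc_14_3 lc_f_Cert_tree lc_f_rc_10_3 lc_f_rc_14_3 lc_f_rc_5_3 lc_f_rc_10_3 lc_f_Cert_tree lc_f_rc_17_3 lc_f_rc_14_3 lc_f_rc_10_3 lc_f_Cert_tree lc_f_rc_20_1 lc_f_rc_10_3 lc_f_rc_14_3 lc_f_rc_19_3 lc_f_rc_14_3 lc_f_rc_5_1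 lc_f_rc_20_1 lc_f_rc_10_1 lc_f_rc_14_3 lc_f_rc_5_1 lc_f_rc_10_3 lc_f_Cert_tree) (@D3.rec (fun _ => (Cert rels S Gen.f)) lc_f_rc_19_3 lc_f_rc_21_1 lc_f_rc_20_1 lc_f_rc_17_3 lc_f_rc_14_3 lc_f_rc_20_1 lc_f_rc_17_3 lc_f_rc_21_1 lc_f_rc_10_3 lc_f_rc_21_1 lc_f_Cert_tree lc_f_rc_20_1 lc_f_rc_10_3 lc_f_rc_10_3 lc_f_rc_20_1 lc_f_rc_21_1 lc_f_rc_21_1 lc_f_rc_14_3 lc_f_Cert_tree lc_f_rc_21_1 lc_f_rc_17_3 lc_f_rc_10_3 lc_f_rc_14_3 lc_f_Cert_tree lc_f_rc_5_1 lc_f_rc_21_1 lc_f_Cert_tree lc_f_rc_21_1 lc_f_rc_14_3 lc_f_Cert_tree lc_f_rc_14_3 lc_f_rc_14_3 lc_f_rc_10_1 lc_f_Cert_tree lc_f_rc_20_1 lc_f_rc_19_3 lc_f_rc_14_3 lc_f_Cert_tree lc_f_rc_21_1 lc_f_rc_20_1 lc_f_rc_20_1 lc_f_rc_19_5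 lc_f_rc_21_1 lc_f_rc_20_1 lc_f_rc_21_1 lc_f_rc_14_3 lc_f_rc_10_1 lc_f_rc_14_3 lc_f_Cert_tree lc_f_rc_21_1 lc_f_rc_17_3 lc_f_rc_19_5 lc_f_rc_14_3 lc_f_rc_19_3 lc_f_rc_19_5 lc_f_rc_17_3 lc_f_rc_5_3 lc_f_rc_20_1 lc_f_rc_21_1 lc_f_Cert_tree lc_f_rc_17_1 lc_f_rc_19_3) (@D3.rec (fun _ => (Cert rels S Gen.f)) lc_f_rc_20_1 lc_f_rc_20_1 lc_f_rc_20_1 lc_f_rc_20_1 lc_f_rc_17_3 lc_f_rc_17_3 lc_f_rc_17_3 lc_f_rc_20_1 lc_f_Cert_tree lc_f_Cert_tree lc_f_rc_20_1 lc_f_rc_10_3 lc_f_rc_14_1 lc_f_rc_21_1 lc_f_rc_20_1 lc_f_rc_20_1 lc_f_rc_19_1 lc_f_rc_22_1 lc_f_rc_14_3 lc_f_rc_14_3 lc_f_rc_21_1 lc_f_rc_14_3 lc_f_rc_17_3 lc_f_rc_10_3 lc_f_rc_14_3 lc_f_rc_10_3 lc_f_rc_17_3 lc_f_rc_20_1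 lc_f_rc_20_1 lc_f_rc_17_3 lc_f_Cert_tree lc_f_rc_21_1 lc_f_rc_17_3 lc_f_Cert_tree lc_f_rc_14_3 lc_f_rc_20_1 lc_f_rc_21_1 lc_f_rc_21_1 lc_f_rc_20_1 lc_f_rc_5_3 lc_f_Cert_tree lc_f_rc_10_3 lc_f_rc_10_3 lc_f_rc_14_3 lc_f_rc_10_3 lc_f_rc_5_1 lc_f_rc_17_3 lc_f_rc_21_1 lc_f_rc_10_3 lc_f_Cert_tree lc_f_rc_5_1 lc_f_rc_20_1 lc_f_rc_20_1 lc_f_rc_10_3 lc_f_rc_21_1 lc_f_rc_5_3 lc_f_rc_10_3 lc_f_rc_17_3 lc_f_rc_14_3 lc_f_rc_14_3 lc_f_rc_14_3 lc_f_rc_21_1)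
def ce_f_4 : D2 → D3 → (Cert rels S Gen.f) := @D2.rec (fun _ => D3 → (Cert rels S Gen.f)) (@D3.rec (fun _ => (Cert rels S Gen.f)) lc_f_rc_19_3 lc_f_Cert_tree lc_f_rc_20_1 lc_f_rc_17_3 lc_f_Cert_tree lc_f_rc_20_1 lc_f_rc_14_3 lc_f_rc_5_3 lc_f_rc_5_3 lc_f_rc_20_1 lc_f_Cert_tree lc_f_rc_21_1 lc_f_rc_19_3 lc_f_rc_20_1 lc_f_rc_17_3 lc_f_Cert_tree lc_f_rc_17_3 lc_f_Cert_tree lc_f_Cert_tree lc_f_rc_14_3 lc_f_rc_20_1 lc_f_rc_19_3 lc_f_rc_14_3 lc_f_rc_17_3 lc_f_rc_20_1 lc_f_rc_5_1 lc_f_rc_21_1 lc_f_rc_5_1 lc_f_Cert_tree lc_f_rc_20_1 lc_f_rc_17_3 lc_f_Cert_tree lc_f_rc_20_1 lc_f_rc_19_3 lc_f_rc_17_3 lc_f_rc_17_3 lc_f_rc_5_3 lc_f_rc_10_1 lc_f_rc_17_3 lc_f_rc_5_3 lc_f_rc_20_1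 lc_f_rc_20_1 lc_f_rc_5_1 lc_f_Cert_tree lc_f_rc_14_3 lc_f_rc_14_1 lc_f_rc_17_1 lc_f_Cert_tree lc_f_rc_17_3 lc_f_rc_14_3 lc_f_rc_21_1 lc_f_Cert_tree lc_f_rc_20_1 lc_f_rc_19_3 lc_f_Cert_tree lc_f_rc_21_1 lc_f_rc_20_1 lc_f_rc_20_1 lc_f_rc_17_3 lc_f_rc_21_1 lc_f_rc_14_3 lc_f_rc_20_1) (@D3.rec (fun _ => (Cert rels S Gen.f)) lc_f_rc_17_3 lc_f_rc_17_3 lc_f_Cert_tree lc_f_rc_20_1 lc_f_rc_17_3 lc_f_rc_17_3 lc_f_Cert_tree lc_f_rc_21_1 lc_f_Cert_tree lc_f_rc_10_3 lc_f_rc_19_3 lc_f_rc_17_3 lc_f_rc_14_3 lc_f_Cert_tree lc_f_rc_14_3 lc_f_rc_14_3 lc_f_rc_19_5 lc_f_rc_17_3 lc_f_rc_19_5 lc_f_rc_14_3 lc_f_Cert_tree lc_f_rc_10_1 lc_f_rc_17_3 lc_f_rc_14_3 lc_f_rc_14_3 lc_f_rc_10_3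 lc_f_rc_17_3 lc_f_rc_14_3 lc_f_rc_10_3 lc_f_rc_5_1 lc_f_rc_17_3 lc_f_rc_14_3 lc_f_rc_14_3 lc_f_rc_22_1 lc_f_rc_21_1 lc_f_rc_17_3 lc_f_rc_17_3 lc_f_Cert_tree lc_f_rc_20_1 lc_f_rc_17_3 lc_f_rc_17_3 lc_f_rc_17_3 lc_f_Cert_tree lc_f_rc_14_3 lc_f_Cert_tree lc_f_rc_17_3 lc_f_rc_5_1 lc_f_rc_14_3 lc_f_Cert_tree lc_f_rc_5_1 lc_f_rc_14_3 lc_f_Cert_tree lc_f_rc_14_3 lc_f_rc_14_3 lc_f_Cert_tree lc_f_rc_14_3 lc_f_rc_20_1 lc_f_rc_19_3 lc_f_rc_17_3 lc_f_rc_17_3 lc_f_rc_14_3 lc_f_Cert_tree) (@D3.rec (fun _ => (Cert rels S Gen.f)) lc_f_rc_14_3 lc_f_rc_14_3 lc_f_rc_14_3 lc_f_rc_17_3 lc_f_rc_21_1 lc_f_Cert_tree lc_f_rc_19_3 lc_f_rc_20_1 lc_f_rc_17_3 lc_f_rc_14_3 lc_f_rc_17_3 lc_f_rc_14_3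 lc_f_rc_17_3 lc_f_rc_14_3 lc_f_rc_17_3 lc_f_rc_19_3 lc_f_Cert_tree lc_f_rc_21_1 lc_f_rc_19_3 lc_f_Cert_tree lc_f_rc_20_1 lc_f_rc_20_1 lc_f_rc_17_3 lc_f_rc_17_3 lc_f_Cert_tree lc_f_rc_20_1 lc_f_rc_19_3 lc_f_Cert_tree lc_f_Cert_tree lc_f_Cert_tree lc_f_rc_14_3 lc_f_rc_20_1 lc_f_rc_19_3 lc_f_rc_17_3 lc_f_rc_17_1 lc_f_Cert_tree lc_f_rc_20_1 lc_f_Cert_tree lc_f_Cert_tree lc_f_Cert_tree lc_f_rc_14_3 lc_f_rc_20_1 lc_f_rc_19_3 lc_f_rc_17_3 lc_f_Cert_tree lc_f_rc_14_3 lc_f_Cert_tree lc_f_rc_20_1 lc_f_rc_20_1 lc_f_rc_17_1 lc_f_Cert_tree lc_f_rc_17_3 lc_f_rc_14_3 lc_f_Cert_tree lc_f_Cert_tree lc_f_rc_20_1 lc_f_rc_19_3 lc_f_rc_19_5 lc_f_rc_21_1 lc_f_rc_14_3 lc_f_Cert_tree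 lc_f_rc_14_3) (@D3.rec (fun _ => (Cert rels S Gen.f)) lc_f_rc_20_1 lc_f_rc_21_1 lc_f_rc_21_1 lc_f_rc_21_1 lc_f_Cert_tree lc_f_rc_20_1 lc_f_rc_21_1 lc_f_rc_20_1 lc_f_rc_14_3 lc_f_rc_14_3 lc_f_Cert_tree lc_f_rc_14_3 lc_f_Cert_tree lc_f_rc_14_3 lc_f_rc_21_1 lc_f_Cert_tree lc_f_Cert_tree lc_f_rc_20_1 lc_f_rc_19_3 lc_f_rc_21_1 lc_f_rc_14_3 lc_f_Cert_tree lc_f_rc_5_1 lc_f_rc_20_1 lc_f_rc_17_3 lc_f_Cert_tree lc_f_rc_14_3 lc_f_rc_5_3 lc_f_rc_10_3 lc_f_Cert_tree lc_f_rc_20_1 lc_f_rc_5_1 lc_f_Cert_tree lc_f_rc_20_1 lc_f_rc_14_3 lc_f_rc_20_1 lc_f_rc_17_3 lc_f_rc_14_1 lc_f_rc_17_1 lc_f_rc_17_1 lc_f_rc_14_3 lc_f_Cert_tree lc_f_rc_20_1 lc_f_rc_21_1 lc_f_rc_17_1 lc_f_rc_20_1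 lc_f_rc_10_3 lc_f_Cert_tree lc_f_rc_5_1 lc_f_rc_10_3 lc_f_Cert_tree lc_f_rc_20_1 lc_f_rc_14_3 lc_f_rc_14_3 lc_f_Cert_tree lc_f_rc_10_3 lc_f_Cert_tree lc_f_rc_17_3 lc_f_rc_21_1 lc_f_Cert_tree lc_f_rc_20_1 lc_f_rc_20_1) (@D3.rec (fun _ => (Cert rels S Gen.f)) lc_f_rc_14_3 lc_f_Cert_tree lc_f_rc_17_3 lc_f_Cert_tree lc_f_rc_5_1 lc_f_rc_10_3 lc_f_rc_20_1 lc_f_rc_10_3 lc_f_Cert_tree lc_f_rc_17_3 lc_f_Cert_tree lc_f_Cert_tree lc_f_rc_21_1 lc_f_rc_5_1 lc_f_rc_10_3 lc_f_rc_20_1 lc_f_Cert_tree lc_f_rc_19_3 lc_f_rc_19_5 lc_f_rc_17_3 lc_f_rc_19_3 lc_f_Cert_tree lc_f_rc_21_1 lc_f_rc_17_3 lc_f_Cert_tree lc_f_rc_10_3 lc_f_Cert_tree lc_f_rc_5_1 lc_f_rc_17_3 lc_f_rc_10_3 lc_f_rc_20_1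 lc_f_rc_10_3 lc_f_rc_17_3 lc_f_rc_14_3 lc_f_rc_5_1 lc_f_rc_14_3 lc_f_rc_14_3 lc_f_Cert_tree lc_f_rc_20_1 lc_f_rc_10_3 lc_f_Cert_tree lc_f_rc_10_3 lc_f_rc_21_1 lc_f_Cert_tree lc_f_rc_20_1 lc_f_rc_10_3 lc_f_rc_14_3 lc_f_Cert_tree lc_f_rc_10_3 lc_f_rc_17_3 lc_f_rc_20_1 lc_f_rc_10_3 lc_f_rc_10_3 lc_f_rc_21_1 lc_f_rc_5_1 lc_f_Cert_tree lc_f_rc_20_1 lc_f_rc_17_3 lc_f_Cert_tree lc_f_rc_20_1 lc_f_rc_17_3 lc_f_rc_20_1) (@D3.rec (fun _ => (Cert rels S Gen.f)) lc_f_rc_20_1 lc_f_rc_14_3 lc_f_rc_17_3 lc_f_rc_17_3 lc_f_rc_17_3 lc_f_Cert_tree lc_f_rc_20_1 lc_f_rc_21_1 lc_f_rc_5_1 lc_f_rc_17_3 lc_f_rc_21_1 lc_f_rc_21_1 lc_f_rc_21_1 lc_f_Cert_tree lc_f_rc_17_3 lc_f_rc_14_3 lc_f_Cert_tree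 lc_f_rc_10_3 lc_f_rc_14_3 lc_f_Cert_tree lc_f_rc_10_3 lc_f_rc_21_1 lc_f_Cert_tree lc_f_rc_14_3 lc_f_rc_14_3 lc_f_Cert_tree lc_f_rc_20_1 lc_f_rc_19_3 lc_f_Cert_tree lc_f_rc_21_1 lc_f_rc_20_1 lc_f_rc_20_1 lc_f_rc_19_5 lc_f_Cert_tree lc_f_rc_19_3 lc_f_rc_10_3 lc_f_rc_17_3 lc_f_Cert_tree lc_f_rc_21_1 lc_f_rc_14_3 lc_f_rc_5_1 lc_f_rc_17_3 lc_f_rc_10_1 lc_f_rc_17_3 lc_f_rc_10_3 lc_f_rc_10_3 lc_f_rc_19_3 lc_f_rc_5_3 lc_f_rc_20_1 lc_f_rc_14_3 lc_f_Cert_tree lc_f_Cert_tree lc_f_rc_10_3 lc_f_rc_20_1 lc_f_rc_20_1 lc_f_rc_20_1 lc_f_rc_20_1 lc_f_rc_21_1 lc_f_rc_17_3 lc_f_rc_10_1 lc_f_rc_10_3 lc_f_Cert_tree) (@D3.rec (fun _ => (Cert rels S Gen.f)) lc_f_Cert_tree lc_f_rc_20_1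 lc_f_rc_10_3 lc_f_rc_14_1 lc_f_rc_21_1 lc_f_rc_20_1 lc_f_rc_20_1 lc_f_rc_19_1 lc_f_rc_17_3 lc_f_rc_17_3 lc_f_rc_14_3 lc_f_rc_20_1 lc_f_rc_21_1 lc_f_rc_14_3 lc_f_rc_17_3 lc_f_Cert_tree lc_f_rc_20_1 lc_f_rc_17_3 lc_f_rc_21_1 lc_f_rc_10_3 lc_f_rc_17_3 lc_f_rc_14_3 lc_f_rc_10_1 lc_f_rc_17_3 lc_f_rc_21_1 lc_f_Cert_tree lc_f_rc_10_3 lc_f_rc_5_1 lc_f_rc_21_1 lc_f_rc_5_1 lc_f_rc_20_1 lc_f_rc_21_1 lc_f_rc_17_3 lc_f_rc_14_3 lc_f_Cert_tree lc_f_rc_17_1 lc_f_rc_14_3 lc_f_Cert_tree lc_f_rc_21_1 lc_f_rc_14_3 lc_f_Cert_tree lc_f_Cert_tree lc_f_rc_20_1 lc_f_rc_19_3 lc_f_rc_21_1 lc_f_Cert_tree lc_f_rc_14_3 lc_f_rc_21_1 lc_f_rc_20_1 lc_f_rc_17_3 lc_f_rc_5_1 lc_f_rc_10_3 lc_f_rc_14_3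 lc_f_rc_5_3 lc_f_rc_14_3 lc_f_Cert_tree lc_f_rc_21_1 lc_f_rc_20_1 lc_f_rc_20_1 lc_f_Cert_tree lc_f_rc_21_1 lc_f_rc_5_1) (@D3.rec (fun _ => (Cert rels S Gen.f)) lc_f_rc_17_1 lc_f_rc_20_1 lc_f_Cert_tree lc_f_rc_5_1 lc_f_rc_14_3 lc_f_rc_20_1 lc_f_rc_5_3 lc_f_rc_20_1 lc_f_rc_10_1 lc_f_rc_20_1 lc_f_rc_20_1 lc_f_rc_10_1 lc_f_rc_21_1 lc_f_rc_19_5 lc_f_rc_19_3 lc_f_rc_17_3 lc_f_rc_17_1 lc_f_rc_17_1 lc_f_rc_21_1 lc_f_rc_14_3 lc_f_rc_20_1 lc_f_rc_17_3 lc_f_rc_19_1 lc_f_rc_21_1 lc_f_rc_14_1 lc_f_rc_21_1 lc_f_rc_17_3 lc_f_rc_20_1 lc_f_rc_19_1 lc_f_rc_17_3 lc_f_rc_21_1 lc_f_rc_5_1 lc_f_rc_17_3 lc_f_rc_10_3 lc_f_rc_17_1 lc_f_rc_5_1 lc_f_rc_20_1 lc_f_rc_14_3 lc_f_Cert_tree lc_f_rc_14_3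 lc_f_Cert_tree lc_f_rc_14_3 lc_f_rc_21_1 lc_f_Cert_tree lc_f_Cert_tree lc_f_rc_20_1 lc_f_rc_19_3 lc_f_rc_5_1 lc_f_rc_5_1 lc_f_rc_17_3 lc_f_rc_17_1 lc_f_rc_14_1 lc_f_rc_20_1 lc_f_rc_17_3 lc_f_Cert_tree lc_f_rc_17_3 lc_f_Cert_tree lc_f_rc_20_1 lc_f_rc_5_1 lc_f_Cert_tree lc_f_rc_10_3 lc_f_rc_20_1) (@D3.rec (fun _ => (Cert rels S Gen.f)) lc_f_rc_14_3 lc_f_Cert_tree lc_f_rc_14_3 lc_f_rc_14_3 lc_f_Cert_tree lc_f_Cert_tree lc_f_rc_20_1 lc_f_rc_20_1 lc_f_rc_17_3 lc_f_rc_22_1 lc_f_rc_17_3 lc_f_rc_10_1 lc_f_rc_17_3 lc_f_rc_14_3 lc_f_Cert_tree lc_f_rc_14_3 lc_f_Cert_tree lc_f_rc_5_3 lc_f_rc_14_3 lc_f_Cert_tree lc_f_rc_21_1 lc_f_Cert_tree lc_f_rc_14_3 lc_f_rc_5_1 lc_f_Cert_tree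 lc_f_rc_17_1 lc_f_rc_20_1 lc_f_rc_19_3 lc_f_rc_17_1 lc_f_rc_14_3 lc_f_Cert_tree lc_f_rc_20_1 lc_f_rc_17_3 lc_f_rc_17_3 lc_f_rc_14_3 lc_f_Cert_tree lc_f_rc_10_3 lc_f_rc_20_1 lc_f_rc_21_1 lc_f_Cert_tree lc_f_rc_14_3 lc_f_rc_17_1 lc_f_rc_14_3 lc_f_rc_14_3 lc_f_rc_10_3 lc_f_rc_17_3 lc_f_Cert_tree lc_f_rc_21_1 lc_f_rc_10_3 lc_f_Cert_tree lc_f_rc_20_1 lc_f_rc_14_3 lc_f_rc_22_1 lc_f_rc_17_3 lc_f_rc_5_1 lc_f_rc_17_3 lc_f_rc_14_1 lc_f_rc_17_3 lc_f_rc_10_3 lc_f_rc_14_3 lc_f_Cert_tree lc_f_rc_20_1) (@D3.rec (fun _ => (Cert rels S Gen.f)) lc_f_rc_21_1 lc_f_rc_10_1 lc_f_rc_14_3 lc_f_Cert_tree lc_f_rc_10_3 lc_f_rc_17_1 lc_f_rc_20_1 lc_f_rc_10_3 lc_f_rc_14_3 lc_f_Cert_tree lc_f_rc_19_5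 lc_f_rc_17_1 lc_f_Cert_tree lc_f_rc_20_1 lc_f_rc_14_3 lc_f_rc_14_3 lc_f_rc_17_3 lc_f_rc_5_1 lc_f_rc_20_1 lc_f_rc_21_1 lc_f_rc_10_3 lc_f_rc_17_3 lc_f_Cert_tree lc_f_rc_19_5 lc_f_rc_14_3 lc_f_rc_19_3 lc_f_rc_10_3 lc_f_rc_21_1 lc_f_rc_20_1 lc_f_rc_20_1 lc_f_rc_21_1 lc_f_Cert_tree lc_f_rc_14_3 lc_f_rc_17_3 lc_f_Cert_tree lc_f_rc_14_3 lc_f_rc_20_1 lc_f_rc_21_1 lc_f_Cert_tree lc_f_rc_20_1 lc_f_rc_10_3 lc_f_rc_5_1 lc_f_rc_5_1 lc_f_Cert_tree lc_f_rc_14_3 lc_f_rc_17_3 lc_f_Cert_tree lc_f_rc_5_1 lc_f_rc_21_1 lc_f_rc_5_1 lc_f_Cert_tree lc_f_rc_20_1 lc_f_rc_17_1 lc_f_rc_17_1 lc_f_rc_20_1 lc_f_Cert_tree lc_f_rc_20_1 lc_f_rc_19_3 lc_f_rc_19_3 lc_f_rc_21_1 lc_f_rc_17_3 lc_f_rc_20_1)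 (@D3.rec (fun _ => (Cert rels S Gen.f)) lc_f_rc_14_3 lc_f_Cert_tree lc_f_rc_5_1 lc_f_rc_20_1 lc_f_rc_17_3 lc_f_rc_21_1 lc_f_rc_14_3 lc_f_Cert_tree lc_f_rc_21_1 lc_f_rc_17_1 lc_f_rc_20_1 lc_f_rc_21_1 lc_f_Cert_tree lc_f_rc_14_3 lc_f_Cert_tree lc_f_rc_14_3 lc_f_rc_14_3 lc_f_rc_10_3 lc_f_rc_22_1 lc_f_Cert_tree lc_f_rc_21_1 lc_f_rc_19_3 lc_f_rc_20_1 lc_f_rc_10_3 lc_f_rc_14_3 lc_f_rc_10_3 lc_f_rc_14_3 lc_f_rc_17_3 lc_f_rc_21_1 lc_f_rc_14_3 lc_f_rc_21_1 lc_f_rc_14_3 lc_f_rc_21_1 lc_f_rc_20_1 lc_f_rc_21_1 lc_f_Cert_tree lc_f_rc_17_3 lc_f_rc_14_3 lc_f_rc_19_5 lc_f_rc_14_3 lc_f_rc_20_1 lc_f_rc_17_3 lc_f_rc_14_3 lc_f_rc_5_3 lc_f_rc_5_1 lc_f_rc_14_3 lc_f_rc_10_3 lc_f_rc_22_1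 lc_f_rc_14_1 lc_f_rc_5_3 lc_f_Cert_tree lc_f_rc_20_1 lc_f_rc_14_3 lc_f_rc_21_1 lc_f_rc_20_1 lc_f_rc_10_3 lc_f_rc_5_3 lc_f_rc_14_3 lc_f_rc_17_3 lc_f_rc_5_1 lc_f_Cert_tree lc_f_rc_20_1) (@D3.rec (fun _ => (Cert rels S Gen.f)) lc_f_rc_10_3 lc_f_rc_14_3 lc_f_Cert_tree lc_f_rc_14_3 lc_f_rc_20_1 lc_f_rc_14_3 lc_f_rc_17_3 lc_f_Cert_tree lc_f_rc_21_1 lc_f_rc_19_3 lc_f_rc_10_1 lc_f_rc_20_1 lc_f_rc_17_3 lc_f_rc_5_1 lc_f_rc_10_3 lc_f_rc_19_3 lc_f_rc_21_1 lc_f_rc_14_3 lc_f_rc_22_1 lc_f_rc_20_1 lc_f_rc_21_1 lc_f_rc_21_1 lc_f_rc_5_1 lc_f_rc_14_3 lc_f_rc_5_3 lc_f_Cert_tree lc_f_rc_14_3 lc_f_rc_21_1 lc_f_rc_14_3 lc_f_rc_22_1 lc_f_Cert_tree lc_f_rc_20_1 lc_f_rc_21_1 lc_f_rc_20_1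 lc_f_rc_14_3 lc_f_rc_5_1 lc_f_rc_17_3 lc_f_rc_5_3 lc_f_rc_22_1 lc_f_rc_20_1 lc_f_Cert_tree lc_f_rc_21_1 lc_f_rc_20_1 lc_f_rc_21_1 lc_f_rc_5_3 lc_f_rc_10_3 lc_f_rc_5_3 lc_f_rc_20_1 lc_f_rc_10_1 lc_f_Cert_tree lc_f_Cert_tree lc_f_Cert_tree lc_f_rc_20_1 lc_f_rc_20_1 lc_f_rc_20_1 lc_f_rc_20_1 lc_f_rc_5_3 lc_f_rc_17_1 lc_f_rc_14_3 lc_f_rc_14_3 lc_f_rc_10_3 lc_f_rc_19_5) (@D3.rec (fun _ => (Cert rels S Gen.f)) lc_f_rc_10_3 lc_f_rc_21_1 lc_f_rc_21_1 lc_f_rc_19_5 lc_f_rc_14_3 lc_f_rc_17_3 lc_f_rc_21_1 lc_f_rc_19_5 lc_f_rc_10_3 lc_f_rc_17_3 lc_f_rc_17_3 lc_f_rc_17_3 lc_f_rc_14_3 lc_f_rc_19_3 lc_f_rc_14_3 lc_f_Cert_tree lc_f_rc_14_3 lc_f_rc_20_1 lc_f_rc_17_3 lc_f_rc_21_1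 lc_f_Cert_tree lc_f_rc_10_3 lc_f_rc_14_3 lc_f_Cert_tree lc_f_rc_14_1 lc_f_rc_21_1 lc_f_rc_10_3 lc_f_rc_17_3 lc_f_rc_10_3 lc_f_rc_21_1 lc_f_rc_19_3 lc_f_rc_20_1 lc_f_rc_21_1 lc_f_rc_14_3 lc_f_rc_10_3 lc_f_rc_14_3 lc_f_Cert_tree lc_f_rc_10_3 lc_f_Cert_tree lc_f_rc_17_3 lc_f_rc_5_1 lc_f_rc_20_1 lc_f_rc_14_3 lc_f_rc_10_3 lc_f_rc_10_3 lc_f_rc_5_1 lc_f_rc_14_3 lc_f_rc_21_1 lc_f_rc_21_1 lc_f_rc_21_1 lc_f_rc_5_1 lc_f_rc_14_3 lc_f_rc_21_1 lc_f_rc_10_3 lc_f_rc_20_1 lc_f_rc_21_1 lc_f_rc_14_3 lc_f_rc_19_3 lc_f_rc_14_3 lc_f_rc_20_1 lc_f_rc_5_1 lc_f_rc_20_1) (@D3.rec (fun _ => (Cert rels S Gen.f)) lc_f_rc_17_3 lc_f_rc_14_3 lc_f_rc_5_3 lc_f_rc_20_1 lc_f_rc_14_3 lc_f_Cert_tree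 lc_f_rc_14_3 lc_f_rc_14_3 lc_f_rc_10_3 lc_f_rc_20_1 lc_f_Cert_tree lc_f_rc_5_1 lc_f_rc_20_1 lc_f_rc_14_3 lc_f_rc_10_3 lc_f_rc_10_3 lc_f_rc_20_1 lc_f_rc_19_5 lc_f_rc_19_5 lc_f_rc_20_1 lc_f_rc_20_1 lc_f_rc_20_1 lc_f_rc_20_1 lc_f_rc_10_3 lc_f_rc_5_1 lc_f_rc_14_3 lc_f_rc_10_3 lc_f_rc_10_3 lc_f_Cert_tree lc_f_rc_14_3 lc_f_rc_5_1 lc_f_Cert_tree lc_f_rc_20_1 lc_f_rc_17_3 lc_f_Cert_tree lc_f_rc_20_1 lc_f_rc_20_1 lc_f_rc_5_3 lc_f_rc_17_1 lc_f_rc_17_1 lc_f_rc_14_1 lc_f_rc_20_1 lc_f_Cert_tree lc_f_rc_20_1 lc_f_rc_5_1 lc_f_rc_14_1 lc_f_rc_17_1 lc_f_rc_20_1 lc_f_rc_20_1 lc_f_rc_17_3 lc_f_rc_21_1 lc_f_rc_10_3 lc_f_rc_5_1 lc_f_rc_20_1 lc_f_rc_10_3 lc_f_rc_17_3 lc_f_rc_20_1 lc_f_rc_20_1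 lc_f_rc_17_3 lc_f_rc_20_1 lc_f_rc_17_1 lc_f_rc_14_3) (@D3.rec (fun _ => (Cert rels S Gen.f)) lc_f_Cert_tree lc_f_rc_20_1 lc_f_rc_17_3 lc_f_rc_10_1 lc_f_rc_21_1 lc_f_rc_21_1 lc_f_rc_14_3 lc_f_Cert_tree lc_f_rc_20_1 lc_f_rc_5_1 lc_f_Cert_tree lc_f_rc_21_1 lc_f_rc_14_3 lc_f_Cert_tree lc_f_rc_21_1 lc_f_Cert_tree lc_f_Cert_tree lc_f_rc_20_1 lc_f_rc_19_3 lc_f_rc_14_3 lc_f_Cert_tree lc_f_rc_14_3 lc_f_Cert_tree lc_f_Cert_tree lc_f_rc_22_1 lc_f_rc_20_1 lc_f_rc_19_3 lc_f_rc_10_3 lc_f_Cert_tree lc_f_rc_10_3 lc_f_rc_5_1 lc_f_Cert_tree lc_f_rc_20_1 lc_f_rc_14_3 lc_f_rc_21_1 lc_f_Cert_tree lc_f_rc_10_3 lc_f_Cert_tree lc_f_rc_21_1 lc_f_rc_19_3 lc_f_Cert_tree lc_f_rc_20_1 lc_f_Cert_tree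 lc_f_rc_19_5 lc_f_rc_21_1 lc_f_rc_20_1 lc_f_Cert_tree lc_f_rc_21_1 lc_f_rc_5_1 lc_f_rc_20_1 lc_f_rc_20_1 lc_f_Cert_tree lc_f_rc_19_3 lc_f_rc_21_1 lc_f_rc_10_3 lc_f_rc_5_3 lc_f_Cert_tree lc_f_rc_14_3 lc_f_Cert_tree lc_f_rc_14_3 lc_f_rc_14_3 lc_f_Cert_tree) (@D3.rec (fun _ => (Cert rels S Gen.f)) lc_f_Cert_tree lc_f_rc_20_1 lc_f_rc_19_3 lc_f_rc_5_3 lc_f_rc_21_1 lc_f_rc_14_1 lc_f_rc_20_1 lc_f_rc_14_3 lc_f_rc_5_1 lc_f_rc_14_1 lc_f_rc_20_1 lc_f_rc_14_3 lc_f_Cert_tree lc_f_rc_14_3 lc_f_rc_14_3 lc_f_Cert_tree lc_f_rc_22_1 lc_f_rc_20_1 lc_f_rc_19_3 lc_f_rc_17_3 lc_f_rc_10_3 lc_f_rc_21_1 lc_f_rc_14_3 lc_f_Cert_tree lc_f_rc_17_3 lc_f_Cert_tree lc_f_rc_5_3 lc_f_rc_5_3 lc_f_Cert_tree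 lc_f_rc_14_3 lc_f_Cert_tree lc_f_rc_14_3 lc_f_rc_21_1 lc_f_Cert_tree lc_f_rc_17_1 lc_f_rc_20_1 lc_f_rc_19_3 lc_f_rc_14_3 lc_f_Cert_tree lc_f_rc_14_3 lc_f_rc_17_1 lc_f_rc_14_3 lc_f_rc_5_1 lc_f_rc_17_3 lc_f_rc_14_1 lc_f_Cert_tree lc_f_rc_21_1 lc_f_rc_10_3 lc_f_Cert_tree lc_f_rc_20_1 lc_f_rc_17_3 lc_f_rc_20_1 lc_f_rc_10_1 lc_f_rc_17_3 lc_f_rc_14_3 lc_f_Cert_tree lc_f_rc_20_1 lc_f_rc_14_3 lc_f_Cert_tree lc_f_rc_10_3 lc_f_rc_14_3 lc_f_Cert_tree) (@D3.rec (fun _ => (Cert rels S Gen.f)) lc_f_rc_17_3 lc_f_rc_17_1 lc_f_rc_20_1 lc_f_rc_14_3 lc_f_rc_5_1 lc_f_rc_10_3 lc_f_rc_14_1 lc_f_Cert_tree lc_f_rc_21_1 lc_f_rc_10_3 lc_f_rc_17_1 lc_f_rc_20_1 lc_f_rc_5_1 lc_f_Cert_tree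 lc_f_rc_10_3 lc_f_rc_5_1 lc_f_Cert_tree lc_f_rc_10_3 lc_f_rc_21_1 lc_f_Cert_tree lc_f_rc_20_1 lc_f_rc_10_3 lc_f_rc_10_1 lc_f_rc_14_3 lc_f_Cert_tree lc_f_rc_10_3 lc_f_rc_17_3 lc_f_rc_17_3 lc_f_Cert_tree lc_f_rc_10_3 lc_f_rc_10_3 lc_f_rc_5_3 lc_f_rc_10_1 lc_f_rc_17_3 lc_f_rc_21_1 lc_f_rc_5_1 lc_f_Cert_tree lc_f_rc_20_1 lc_f_rc_19_3 lc_f_rc_21_1 lc_f_rc_19_3 lc_f_rc_10_3 lc_f_rc_14_3 lc_f_rc_19_5 lc_f_rc_14_3 lc_f_Cert_tree lc_f_rc_14_3 lc_f_Cert_tree lc_f_rc_17_3 lc_f_rc_14_3 lc_f_Cert_tree lc_f_rc_14_3 lc_f_rc_14_3 lc_f_rc_14_3 lc_f_rc_22_1 lc_f_rc_14_1 lc_f_rc_21_1 lc_f_rc_20_1 lc_f_rc_20_1 lc_f_rc_17_3 lc_f_rc_17_3 lc_f_rc_14_3) (@D3.rec (fun _ => (Cert rels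 S Gen.f)) lc_f_rc_19_3 lc_f_rc_10_3 lc_f_rc_20_1 lc_f_rc_17_3 lc_f_rc_20_1 lc_f_rc_10_3 lc_f_rc_14_3 lc_f_rc_20_1 lc_f_rc_21_1 lc_f_rc_5_3 lc_f_rc_21_1 lc_f_rc_20_1 lc_f_rc_14_3 lc_f_rc_20_1 lc_f_rc_14_3 lc_f_rc_20_1 lc_f_rc_20_1 lc_f_rc_10_3 lc_f_rc_21_1 lc_f_rc_5_1 lc_f_rc_14_3 lc_f_Cert_tree lc_f_rc_14_3 lc_f_rc_14_3 lc_f_rc_10_3 lc_f_rc_22_1 lc_f_Cert_tree lc_f_rc_5_1 lc_f_rc_20_1 lc_f_rc_22_1 lc_f_rc_21_1 lc_f_rc_17_3 lc_f_rc_5_3 lc_f_rc_10_1 lc_f_rc_22_1 lc_f_rc_20_1 lc_f_rc_14_3 lc_f_rc_14_3 lc_f_Cert_tree lc_f_rc_14_1 lc_f_rc_20_1 lc_f_rc_14_3 lc_f_rc_17_3 lc_f_Cert_tree lc_f_rc_19_3 lc_f_rc_21_1 lc_f_rc_20_1 lc_f_rc_14_3 lc_f_rc_5_1 lc_f_rc_17_3 lc_f_rc_10_1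 lc_f_rc_21_1 lc_f_rc_14_3 lc_f_rc_17_1 lc_f_rc_20_1 lc_f_rc_20_1 lc_f_rc_21_1 lc_f_rc_14_1 lc_f_rc_17_3 lc_f_rc_20_1 lc_f_rc_14_3 lc_f_Cert_tree) (@D3.rec (fun _ => (Cert rels S Gen.f)) lc_f_rc_14_3 lc_f_rc_21_1 lc_f_rc_10_3 lc_f_rc_17_3 lc_f_Cert_tree lc_f_rc_10_3 lc_f_rc_5_1 lc_f_rc_20_1 lc_f_rc_17_3 lc_f_rc_5_1 lc_f_rc_17_3 lc_f_rc_17_3 lc_f_rc_20_1 lc_f_rc_5_1 lc_f_rc_21_1 lc_f_rc_17_1 lc_f_rc_17_1 lc_f_rc_20_1 lc_f_rc_22_1 lc_f_rc_21_1 lc_f_rc_20_1 lc_f_rc_5_3 lc_f_rc_10_3 lc_f_rc_22_1 lc_f_rc_10_3 lc_f_rc_17_3 lc_f_Cert_tree lc_f_rc_10_3 lc_f_rc_21_1 lc_f_rc_21_1 lc_f_rc_21_1 lc_f_rc_19_3 lc_f_rc_14_3 lc_f_rc_17_3 lc_f_rc_17_3 lc_f_rc_17_3 lc_f_rc_20_1 lc_f_rc_14_3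 lc_f_rc_19_5 lc_f_rc_14_3 lc_f_Cert_tree lc_f_rc_20_1 lc_f_rc_17_3 lc_f_rc_14_3 lc_f_Cert_tree lc_f_rc_14_3 lc_f_Cert_tree lc_f_rc_14_3 lc_f_rc_14_3 lc_f_rc_14_3 lc_f_rc_22_1 lc_f_rc_14_1 lc_f_rc_21_1 lc_f_rc_20_1 lc_f_rc_20_1 lc_f_rc_21_1 lc_f_rc_14_3 lc_f_rc_5_1 lc_f_rc_5_1 lc_f_rc_20_1 lc_f_rc_14_3 lc_f_rc_10_3) (@D3.rec (fun _ => (Cert rels S Gen.f)) lc_f_Cert_tree lc_f_rc_5_1 lc_f_rc_5_1 lc_f_rc_19_5 lc_f_rc_10_3 lc_f_rc_14_3 lc_f_rc_14_3 lc_f_rc_10_3 lc_f_rc_20_1 lc_f_Cert_tree lc_f_Cert_tree lc_f_rc_10_3 lc_f_Cert_tree lc_f_rc_17_3 lc_f_rc_5_1 lc_f_Cert_tree lc_f_rc_20_1 lc_f_rc_10_3 lc_f_rc_14_3 lc_f_rc_10_3 lc_f_rc_17_3 lc_f_rc_17_3 lc_f_rc_14_3 lc_f_rc_19_3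 lc_f_rc_14_3 lc_f_rc_5_1 lc_f_rc_20_1 lc_f_rc_10_3 lc_f_rc_14_3 lc_f_rc_5_3 lc_f_rc_17_3 lc_f_rc_22_1 lc_f_Cert_tree lc_f_rc_14_3 lc_f_rc_14_3 lc_f_rc_10_3 lc_f_rc_17_3 lc_f_rc_19_3 lc_f_rc_17_3 lc_f_Cert_tree lc_f_rc_20_1 lc_f_rc_5_1 lc_f_rc_20_1 lc_f_rc_10_3 lc_f_rc_14_3 lc_f_rc_20_1 lc_f_rc_17_3 lc_f_rc_5_1 lc_f_rc_20_1 lc_f_rc_21_1 lc_f_rc_10_3 lc_f_rc_20_1 lc_f_rc_20_1 lc_f_rc_5_3 lc_f_rc_14_3 lc_f_Cert_tree lc_f_rc_14_3 lc_f_Cert_tree lc_f_rc_14_3 lc_f_rc_14_3 lc_f_Cert_tree lc_f_rc_14_3) (@D3.rec (fun _ => (Cert rels S Gen.f)) lc_f_rc_20_1 lc_f_rc_19_3 lc_f_rc_21_1 lc_f_Cert_tree lc_f_rc_19_3 lc_f_rc_17_3 lc_f_rc_17_3 lc_f_rc_10_3 lc_f_rc_17_3 lc_f_rc_14_3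 lc_f_Cert_tree lc_f_rc_5_1 lc_f_rc_5_1 lc_f_Cert_tree lc_f_rc_20_1 lc_f_rc_17_3 lc_f_rc_17_3 lc_f_Cert_tree lc_f_rc_20_1 lc_f_rc_17_3 lc_f_rc_17_3 lc_f_rc_14_1 lc_f_rc_20_1 lc_f_rc_14_3 lc_f_rc_20_1 lc_f_rc_14_3 lc_f_Cert_tree lc_f_rc_14_3 lc_f_rc_20_1 lc_f_rc_20_1 lc_f_rc_17_3 lc_f_Cert_tree lc_f_rc_21_1 lc_f_rc_14_3 lc_f_rc_19_3 lc_f_rc_10_3 lc_f_rc_14_3 lc_f_rc_21_1 lc_f_rc_10_1 lc_f_Cert_tree lc_f_rc_20_1 lc_f_rc_17_3 lc_f_rc_21_1 lc_f_rc_17_3 lc_f_Cert_tree lc_f_rc_20_1 lc_f_rc_20_1 lc_f_Cert_tree lc_f_Cert_tree lc_f_Cert_tree lc_f_rc_17_1 lc_f_rc_20_1 lc_f_rc_20_1 lc_f_Cert_tree lc_f_rc_20_1 lc_f_rc_21_1 lc_f_rc_20_1 lc_f_Cert_tree lc_f_Cert_tree lc_f_rc_14_3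 lc_f_rc_20_1 lc_f_rc_20_1) (@D3.rec (fun _ => (Cert rels S Gen.f)) lc_f_Cert_tree lc_f_rc_20_1 lc_f_rc_20_1 lc_f_rc_14_3 lc_f_rc_17_3 lc_f_rc_14_1 lc_f_rc_14_3 lc_f_Cert_tree lc_f_rc_19_3 lc_f_rc_17_1 lc_f_rc_20_1 lc_f_rc_20_1 lc_f_Cert_tree lc_f_rc_21_1 lc_f_Cert_tree lc_f_rc_17_1 lc_f_rc_20_1 lc_f_rc_10_1 lc_f_rc_14_3 lc_f_Cert_tree lc_f_rc_17_1 lc_f_rc_17_1 lc_f_rc_20_1 lc_f_rc_21_1 lc_f_Cert_tree lc_f_Cert_tree lc_f_rc_17_1 lc_f_rc_20_1 lc_f_rc_19_3 lc_f_rc_21_1 lc_f_rc_19_1 lc_f_rc_14_3 lc_f_rc_14_3 lc_f_rc_17_3 lc_f_Cert_tree lc_f_rc_21_1 lc_f_rc_20_1 lc_f_rc_20_1 lc_f_rc_21_1 lc_f_rc_14_3 lc_f_Cert_tree lc_f_rc_10_3 lc_f_rc_17_3 lc_f_Cert_tree lc_f_rc_17_3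 lc_f_rc_20_1 lc_f_rc_20_1 lc_f_rc_10_3 lc_f_rc_21_1 lc_f_Cert_tree lc_f_rc_19_5 lc_f_rc_20_1 lc_f_Cert_tree lc_f_rc_20_1 lc_f_rc_14_3 lc_f_Cert_tree lc_f_rc_10_3 lc_f_rc_14_3 lc_f_Cert_tree lc_f_rc_10_3 lc_f_rc_5_1 lc_f_rc_20_1) (@D3.rec (fun _ => (Cert rels S Gen.f)) lc_f_rc_17_3 lc_f_rc_21_1 lc_f_Cert_tree lc_f_rc_10_3 lc_f_rc_14_3 lc_f_Cert_tree lc_f_Cert_tree lc_f_rc_21_1 lc_f_rc_5_1 lc_f_rc_17_1 lc_f_rc_20_1 lc_f_rc_17_3 lc_f_rc_5_1 lc_f_Cert_tree lc_f_rc_19_3 lc_f_rc_5_1 lc_f_rc_19_5 lc_f_rc_17_3 lc_f_rc_5_3 lc_f_Cert_tree lc_f_rc_10_3 lc_f_rc_20_1 lc_f_rc_14_3 lc_f_Cert_tree lc_f_rc_20_1 lc_f_rc_20_1 lc_f_rc_10_3 lc_f_rc_17_3 lc_f_rc_14_3 lc_f_rc_21_1 lc_f_rc_19_5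 lc_f_rc_5_3 lc_f_rc_17_3 lc_f_rc_19_5 lc_f_Cert_tree lc_f_rc_5_1 lc_f_rc_14_3 lc_f_rc_17_3 lc_f_rc_21_1 lc_f_rc_21_1 lc_f_rc_20_1 lc_f_Cert_tree lc_f_rc_10_3 lc_f_Cert_tree lc_f_rc_17_1 lc_f_rc_20_1 lc_f_rc_10_3 lc_f_rc_21_1 lc_f_rc_10_3 lc_f_rc_10_3 lc_f_Cert_tree lc_f_rc_5_1 lc_f_rc_14_3 lc_f_rc_5_3 lc_f_rc_10_3 lc_f_rc_10_1 lc_f_rc_17_3 lc_f_rc_17_3 lc_f_Cert_tree lc_f_rc_19_3 lc_f_rc_17_1 lc_f_rc_20_1) (@D3.rec (fun _ => (Cert rels S Gen.f)) lc_f_rc_14_1 lc_f_rc_14_3 lc_f_rc_10_1 lc_f_rc_21_1 lc_f_rc_17_3 lc_f_Cert_tree lc_f_rc_21_1 lc_f_rc_21_1 lc_f_rc_17_3 lc_f_Cert_tree lc_f_rc_17_1 lc_f_rc_20_1 lc_f_rc_20_1 lc_f_rc_21_1 lc_f_rc_17_3 lc_f_Cert_tree lc_f_rc_5_3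 lc_f_rc_20_1 lc_f_rc_21_1 lc_f_Cert_tree lc_f_Cert_tree lc_f_rc_19_3 lc_f_rc_20_1 lc_f_rc_20_1 lc_f_rc_10_3 lc_f_rc_5_1 lc_f_rc_17_3 lc_f_rc_17_3 lc_f_rc_10_3 lc_f_rc_17_3 lc_f_Cert_tree lc_f_Cert_tree lc_f_rc_20_1 lc_f_rc_19_3 lc_f_rc_17_3 lc_f_Cert_tree lc_f_rc_17_3 lc_f_Cert_tree lc_f_rc_10_3 lc_f_Cert_tree lc_f_rc_17_3 lc_f_rc_21_1 lc_f_rc_20_1 lc_f_rc_19_1 lc_f_rc_17_3 lc_f_rc_10_3 lc_f_rc_21_1 lc_f_rc_5_3 lc_f_rc_17_3 lc_f_rc_19_5 lc_f_Cert_tree lc_f_rc_17_3 lc_f_rc_17_3 lc_f_Cert_tree lc_f_rc_17_3 lc_f_rc_19_1 lc_f_rc_17_3 lc_f_rc_20_1 lc_f_rc_22_1 lc_f_rc_14_3 lc_f_rc_17_3 lc_f_rc_22_1) (@D3.rec (fun _ => (Cert rels S Gen.f)) lc_f_Cert_tree lc_f_rc_10_3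 lc_f_rc_17_3 lc_f_rc_20_1 lc_f_rc_19_3 lc_f_rc_19_3 lc_f_Cert_tree lc_f_rc_20_1 lc_f_rc_10_3 lc_f_rc_10_3 lc_f_rc_14_3 lc_f_rc_14_1 lc_f_rc_14_1 lc_f_rc_20_1 lc_f_rc_14_1 lc_f_rc_5_1 lc_f_rc_10_3 lc_f_rc_20_1 lc_f_rc_5_3 lc_f_rc_10_1 lc_f_rc_20_1 lc_f_rc_10_3 lc_f_Cert_tree lc_f_rc_10_1 lc_f_rc_19_3 lc_f_rc_21_1 lc_f_Cert_tree lc_f_rc_20_1 lc_f_rc_17_3 lc_f_rc_17_1 lc_f_rc_14_1 lc_f_rc_20_1 lc_f_rc_17_3 lc_f_rc_17_3 lc_f_rc_19_3 lc_f_rc_20_1 lc_f_rc_22_1 lc_f_Cert_tree lc_f_rc_14_3 lc_f_rc_21_1 lc_f_rc_20_1 lc_f_rc_14_3 lc_f_rc_14_3 lc_f_rc_10_1 lc_f_rc_5_3 lc_f_Cert_tree lc_f_rc_14_3 lc_f_rc_5_1 lc_f_rc_10_3 lc_f_Cert_tree lc_f_rc_14_3 lc_f_rc_21_1 lc_f_Cert_tree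 lc_f_rc_20_1 lc_f_rc_20_1 lc_f_rc_21_1 lc_f_Cert_tree lc_f_rc_20_1 lc_f_rc_17_3 lc_f_rc_10_3 lc_f_rc_14_3 lc_f_rc_20_1) (@D3.rec (fun _ => (Cert rels S Gen.f)) lc_f_rc_17_3 lc_f_Cert_tree lc_f_rc_20_1 lc_f_rc_10_3 lc_f_rc_21_1 lc_f_rc_10_3 lc_f_rc_17_3 lc_f_rc_14_3 lc_f_rc_19_3 lc_f_Cert_tree lc_f_rc_20_1 lc_f_rc_17_3 lc_f_rc_20_1 lc_f_rc_17_3 lc_f_rc_14_3 lc_f_rc_14_3 lc_f_rc_10_3 lc_f_rc_17_3 lc_f_rc_5_1 lc_f_rc_19_3 lc_f_rc_10_3 lc_f_rc_10_1 lc_f_rc_14_3 lc_f_rc_14_3 lc_f_rc_10_3 lc_f_Cert_tree lc_f_rc_10_3 lc_f_rc_21_1 lc_f_rc_20_1 lc_f_rc_20_1 lc_f_rc_19_3 lc_f_rc_21_1 lc_f_Cert_tree lc_f_rc_20_1 lc_f_rc_21_1 lc_f_rc_17_3 lc_f_Cert_tree lc_f_rc_20_1 lc_f_rc_17_3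 lc_f_rc_14_3 lc_f_rc_10_3 lc_f_rc_17_3 lc_f_rc_5_1 lc_f_rc_10_3 lc_f_rc_14_3 lc_f_Cert_tree lc_f_rc_10_3 lc_f_rc_21_1 lc_f_rc_17_1 lc_f_Cert_tree lc_f_rc_20_1 lc_f_rc_21_1 lc_f_rc_17_1 lc_f_rc_14_3 lc_f_rc_20_1 lc_f_rc_21_1 lc_f_Cert_tree lc_f_rc_20_1 lc_f_rc_5_1 lc_f_rc_17_1 lc_f_rc_10_1 lc_f_rc_21_1) (@D3.rec (fun _ => (Cert rels S Gen.f)) lc_f_Cert_tree lc_f_rc_14_3 lc_f_Cert_tree lc_f_rc_21_1 lc_f_Cert_tree lc_f_rc_20_1 lc_f_rc_17_3 lc_f_rc_17_3 lc_f_rc_14_3 lc_f_Cert_tree lc_f_rc_17_1 lc_f_rc_10_3 lc_f_Cert_tree lc_f_rc_17_3 lc_f_rc_17_3 lc_f_Cert_tree lc_f_rc_5_1 lc_f_rc_10_3 lc_f_rc_10_1 lc_f_rc_17_1 lc_f_Cert_tree lc_f_rc_20_1 lc_f_rc_20_1 lc_f_rc_21_1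 lc_f_rc_20_1 lc_f_rc_19_1 lc_f_rc_14_3 lc_f_rc_17_3 lc_f_rc_5_3 lc_f_rc_14_3 lc_f_Cert_tree lc_f_rc_21_1 lc_f_rc_20_1 lc_f_Cert_tree lc_f_rc_20_1 lc_f_rc_14_3 lc_f_rc_5_1 lc_f_rc_10_3 lc_f_Cert_tree lc_f_rc_21_1 lc_f_rc_14_3 lc_f_Cert_tree lc_f_rc_20_1 lc_f_rc_10_3 lc_f_rc_14_3 lc_f_rc_17_3 lc_f_Cert_tree lc_f_rc_19_3 lc_f_rc_14_3 lc_f_rc_17_3 lc_f_Cert_tree lc_f_rc_19_1 lc_f_rc_14_3 lc_f_rc_14_3 lc_f_rc_17_3 lc_f_rc_21_1 lc_f_rc_10_3 lc_f_rc_17_3 lc_f_rc_20_1 lc_f_rc_5_1 lc_f_rc_17_3 lc_f_rc_14_3) (@D3.rec (fun _ => (Cert rels S Gen.f)) lc_f_rc_19_3 lc_f_rc_21_1 lc_f_rc_20_1 lc_f_rc_22_1 lc_f_rc_10_3 lc_f_rc_17_3 lc_f_rc_14_3 lc_f_rc_21_1 lc_f_rc_17_3 lc_f_rc_17_3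 lc_f_rc_14_1 lc_f_rc_20_1 lc_f_rc_5_1 lc_f_Cert_tree lc_f_rc_14_3 lc_f_Cert_tree lc_f_rc_14_3 lc_f_rc_21_1 lc_f_Cert_tree lc_f_rc_22_1 lc_f_rc_20_1 lc_f_rc_19_3 lc_f_rc_5_1 lc_f_Cert_tree lc_f_rc_21_1 lc_f_Cert_tree lc_f_rc_14_3 lc_f_rc_21_1 lc_f_Cert_tree lc_f_Cert_tree lc_f_rc_20_1 lc_f_rc_19_3 lc_f_rc_14_3 lc_f_Cert_tree lc_f_rc_5_1 lc_f_Cert_tree lc_f_rc_21_1 lc_f_rc_17_3 lc_f_Cert_tree lc_f_rc_17_1 lc_f_rc_20_1 lc_f_rc_19_3 lc_f_rc_14_1 lc_f_Cert_tree lc_f_rc_17_3 lc_f_rc_20_1 lc_f_rc_14_3 lc_f_Cert_tree lc_f_rc_14_3 lc_f_rc_17_1 lc_f_rc_21_1 lc_f_rc_14_3 lc_f_rc_14_1 lc_f_rc_17_3 lc_f_Cert_tree lc_f_rc_20_1 lc_f_rc_21_1 lc_f_Cert_tree lc_f_rc_20_1 lc_f_rc_14_3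 lc_f_rc_10_3 lc_f_rc_17_3) (@D3.rec (fun _ => (Cert rels S Gen.f)) lc_f_Cert_tree lc_f_rc_17_3 lc_f_rc_17_3 lc_f_rc_20_1 lc_f_rc_14_1 lc_f_Cert_tree lc_f_rc_14_3 lc_f_rc_21_1 lc_f_rc_10_3 lc_f_rc_5_1 lc_f_Cert_tree lc_f_rc_20_1 lc_f_rc_21_1 lc_f_rc_17_1 lc_f_rc_20_1 lc_f_rc_14_3 lc_f_rc_17_3 lc_f_Cert_tree lc_f_rc_21_1 lc_f_rc_20_1 lc_f_rc_14_3 lc_f_rc_20_1 lc_f_rc_10_3 lc_f_rc_17_3 lc_f_rc_21_1 lc_f_Cert_tree lc_f_rc_10_3 lc_f_rc_21_1 lc_f_rc_14_3 lc_f_Cert_tree lc_f_Cert_tree lc_f_rc_21_1 lc_f_rc_5_1 lc_f_Cert_tree lc_f_rc_20_1 lc_f_rc_14_3 lc_f_rc_14_3 lc_f_rc_21_1 lc_f_Cert_tree lc_f_rc_20_1 lc_f_rc_19_3 lc_f_rc_17_3 lc_f_rc_17_3 lc_f_rc_14_3 lc_f_Cert_tree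 lc_f_rc_14_3 lc_f_rc_20_1 lc_f_rc_14_3 lc_f_rc_5_1 lc_f_rc_10_3 lc_f_rc_5_3 lc_f_Cert_tree lc_f_rc_5_1 lc_f_rc_10_3 lc_f_rc_20_1 lc_f_rc_10_3 lc_f_rc_14_3 lc_f_rc_5_1 lc_f_rc_10_3 lc_f_rc_14_3 lc_f_rc_17_3 lc_f_rc_21_1) (@D3.rec (fun _ => (Cert rels S Gen.f)) lc_f_rc_19_3 lc_f_rc_17_3 lc_f_rc_14_3 lc_f_rc_19_5 lc_f_rc_17_3 lc_f_rc_14_3 lc_f_rc_5_3 lc_f_rc_21_1 lc_f_rc_14_3 lc_f_rc_10_3 lc_f_rc_21_1 lc_f_rc_19_1 lc_f_rc_19_5 lc_f_rc_17_1 lc_f_rc_20_1 lc_f_rc_21_1 lc_f_rc_20_1 lc_f_rc_10_3 lc_f_rc_10_3 lc_f_rc_19_3 lc_f_rc_19_3 lc_f_rc_17_3 lc_f_rc_20_1 lc_f_rc_20_1 lc_f_rc_14_3 lc_f_rc_21_1 lc_f_rc_14_3 lc_f_rc_17_3 lc_f_Cert_tree lc_f_rc_17_3 lc_f_rc_21_1 lc_f_rc_17_1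 lc_f_rc_20_1 lc_f_rc_5_1 lc_f_rc_20_1 lc_f_rc_5_3 lc_f_rc_10_3 lc_f_Cert_tree lc_f_rc_17_3 lc_f_rc_21_1 lc_f_rc_14_3 lc_f_Cert_tree lc_f_rc_20_1 lc_f_rc_17_3 lc_f_rc_10_3 lc_f_rc_14_3 lc_f_rc_17_3 lc_f_rc_19_3 lc_f_rc_14_3 lc_f_Cert_tree lc_f_rc_14_3 lc_f_rc_17_3 lc_f_Cert_tree lc_f_rc_5_1 lc_f_rc_10_3 lc_f_rc_20_1 lc_f_rc_5_1 lc_f_rc_10_3 lc_f_rc_17_3 lc_f_rc_10_3 lc_f_rc_10_3 lc_f_rc_14_3) (@D3.rec (fun _ => (Cert rels S Gen.f)) lc_f_rc_14_3 lc_f_rc_20_1 lc_f_rc_17_3 lc_f_rc_14_3 lc_f_rc_5_1 lc_f_rc_10_3 lc_f_rc_22_1 lc_f_rc_20_1 lc_f_Cert_tree lc_f_Cert_tree lc_f_Cert_tree lc_f_rc_20_1 lc_f_rc_10_3 lc_f_rc_14_3 lc_f_rc_5_3 lc_f_rc_10_3 lc_f_rc_10_3 lc_f_rc_17_3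 lc_f_rc_21_1 lc_f_rc_5_3 lc_f_rc_20_1 lc_f_rc_14_1 lc_f_Cert_tree lc_f_Cert_tree lc_f_Cert_tree lc_f_rc_20_1 lc_f_rc_20_1 lc_f_rc_20_1 lc_f_rc_20_1 lc_f_rc_5_3 lc_f_rc_5_3 lc_f_rc_14_3 lc_f_rc_21_1 lc_f_rc_10_3 lc_f_Cert_tree lc_f_rc_19_3 lc_f_rc_17_3 lc_f_rc_17_3 lc_f_rc_14_1 lc_f_rc_14_3 lc_f_rc_21_1 lc_f_rc_20_1 lc_f_rc_21_1 lc_f_rc_14_3 lc_f_rc_17_3 lc_f_rc_17_3 lc_f_rc_21_1 lc_f_rc_21_1 lc_f_rc_19_5 lc_f_rc_17_3 lc_f_rc_14_3 lc_f_rc_20_1 lc_f_rc_20_1 lc_f_rc_14_3 lc_f_rc_10_3 lc_f_rc_5_1 lc_f_rc_10_3 lc_f_rc_10_3 lc_f_rc_22_1 lc_f_rc_10_3 lc_f_rc_10_3 lc_f_rc_20_1) (@D3.rec (fun _ => (Cert rels S Gen.f)) lc_f_rc_5_1 lc_f_rc_5_3 lc_f_rc_5_1 lc_f_rc_21_1 lc_f_rc_14_3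 lc_f_rc_10_3 lc_f_rc_17_1 lc_f_rc_17_3 lc_f_rc_10_3 lc_f_Cert_tree lc_f_rc_21_1 lc_f_rc_20_1 lc_f_rc_20_1 lc_f_rc_10_3 lc_f_rc_10_3 lc_f_rc_14_3 lc_f_rc_14_3 lc_f_rc_19_5 lc_f_rc_21_1 lc_f_rc_5_3 lc_f_rc_21_1 lc_f_rc_14_3 lc_f_Cert_tree lc_f_rc_17_3 lc_f_rc_14_3 lc_f_rc_10_3 lc_f_rc_14_3 lc_f_Cert_tree lc_f_rc_17_3 lc_f_rc_17_1 lc_f_rc_20_1 lc_f_rc_10_3 lc_f_rc_14_3 lc_f_rc_14_3 lc_f_Cert_tree lc_f_Cert_tree lc_f_rc_20_1 lc_f_rc_20_1 lc_f_rc_20_1 lc_f_rc_10_3 lc_f_rc_14_3 lc_f_rc_14_3 lc_f_rc_21_1 lc_f_rc_17_3 lc_f_rc_20_1 lc_f_rc_5_1 lc_f_rc_19_5 lc_f_rc_10_3 lc_f_rc_14_1 lc_f_rc_14_3 lc_f_Cert_tree lc_f_rc_21_1 lc_f_rc_20_1 lc_f_rc_20_1 lc_f_rc_5_1 lc_f_rc_17_3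 lc_f_rc_20_1 lc_f_rc_10_3 lc_f_rc_19_3 lc_f_rc_14_3 lc_f_rc_10_3 lc_f_rc_10_3) (@D3.rec (fun _ => (Cert rels S Gen.f)) lc_f_Cert_tree lc_f_rc_10_3 lc_f_rc_21_1 lc_f_rc_21_1 lc_f_rc_20_1 lc_f_Cert_tree lc_f_rc_20_1 lc_f_rc_14_3 lc_f_rc_10_3 lc_f_rc_10_1 lc_f_rc_14_3 lc_f_rc_21_1 lc_f_rc_17_3 lc_f_rc_5_1 lc_f_rc_14_3 lc_f_Cert_tree lc_f_rc_10_1 lc_f_rc_21_1 lc_f_rc_20_1 lc_f_Cert_tree lc_f_rc_20_1 lc_f_rc_22_1 lc_f_rc_14_3 lc_f_rc_10_3 lc_f_rc_10_3 lc_f_rc_5_1 lc_f_rc_5_1 lc_f_rc_19_3 lc_f_rc_5_3 lc_f_rc_5_3 lc_f_rc_14_3 lc_f_rc_19_3 lc_f_rc_19_1 lc_f_rc_17_3 lc_f_rc_17_3 lc_f_rc_21_1 lc_f_rc_17_3 lc_f_rc_14_3 lc_f_Cert_tree lc_f_rc_14_3 lc_f_rc_17_3 lc_f_rc_17_1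 lc_f_rc_20_1 lc_f_rc_21_1 lc_f_rc_20_1 lc_f_Cert_tree lc_f_rc_20_1 lc_f_rc_5_3 lc_f_rc_17_3 lc_f_rc_10_1 lc_f_rc_21_1 lc_f_rc_17_1 lc_f_rc_20_1 lc_f_rc_14_3 lc_f_rc_21_1 lc_f_rc_10_1 lc_f_Cert_tree lc_f_rc_20_1 lc_f_Cert_tree lc_f_Cert_tree lc_f_rc_20_1 lc_f_rc_19_3) (@D3.rec (fun _ => (Cert rels S Gen.f)) lc_f_rc_10_3 lc_f_rc_10_3 lc_f_rc_14_3 lc_f_Cert_tree lc_f_rc_21_1 lc_f_rc_22_1 lc_f_rc_10_3 lc_f_rc_17_3 lc_f_rc_14_3 lc_f_Cert_tree lc_f_rc_21_1 lc_f_rc_21_1 lc_f_Cert_tree lc_f_rc_14_3 lc_f_Cert_tree lc_f_rc_5_1 lc_f_rc_14_3 lc_f_rc_10_1 lc_f_rc_21_1 lc_f_Cert_tree lc_f_rc_20_1 lc_f_rc_19_3 lc_f_rc_21_1 lc_f_rc_20_1 lc_f_rc_19_1 lc_f_rc_17_3 lc_f_rc_5_3 lc_f_rc_14_3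 lc_f_Cert_tree lc_f_rc_21_1 lc_f_rc_20_1 lc_f_rc_20_1 lc_f_rc_5_3 lc_f_rc_10_3 lc_f_rc_22_1 lc_f_rc_10_3 lc_f_rc_10_3 lc_f_rc_5_1 lc_f_rc_17_3 lc_f_Cert_tree lc_f_rc_21_1 lc_f_rc_14_3 lc_f_rc_17_1 lc_f_rc_20_1 lc_f_rc_10_3 lc_f_rc_5_1 lc_f_rc_5_1 lc_f_Cert_tree lc_f_rc_20_1 lc_f_rc_20_1 lc_f_rc_20_1 lc_f_rc_14_3 lc_f_rc_19_1 lc_f_rc_21_1 lc_f_rc_20_1 lc_f_rc_19_5 lc_f_rc_20_1 lc_f_Cert_tree lc_f_rc_14_3 lc_f_rc_21_1 lc_f_rc_19_3 lc_f_rc_10_3) (@D3.rec (fun _ => (Cert rels S Gen.f)) lc_f_Cert_tree lc_f_rc_21_1 lc_f_rc_20_1 lc_f_Cert_tree lc_f_rc_20_1 lc_f_rc_22_1 lc_f_rc_17_3 lc_f_rc_20_1 lc_f_rc_10_3 lc_f_rc_14_3 lc_f_rc_17_3 lc_f_rc_21_1 lc_f_rc_14_3 lc_f_rc_5_3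 lc_f_rc_10_3 lc_f_rc_20_1 lc_f_rc_17_3 lc_f_rc_17_3 lc_f_rc_14_3 lc_f_rc_17_3 lc_f_rc_14_3 lc_f_rc_14_3 lc_f_rc_14_3 lc_f_rc_5_1 lc_f_rc_17_3 lc_f_rc_19_3 lc_f_Cert_tree lc_f_rc_14_3 lc_f_rc_17_1 lc_f_rc_10_3 lc_f_rc_20_1 lc_f_rc_17_3 lc_f_Cert_tree lc_f_rc_19_3 lc_f_rc_19_3 lc_f_rc_20_1 lc_f_rc_17_3 lc_f_rc_21_1 lc_f_Cert_tree lc_f_rc_20_1 lc_f_rc_20_1 lc_f_rc_14_3 lc_f_Cert_tree lc_f_Cert_tree lc_f_rc_10_3 lc_f_rc_21_1 lc_f_rc_20_1 lc_f_rc_10_1 lc_f_rc_17_3 lc_f_rc_14_3 lc_f_Cert_tree lc_f_rc_10_3 lc_f_rc_17_3 lc_f_Cert_tree lc_f_rc_21_1 lc_f_rc_20_1 lc_f_Cert_tree lc_f_rc_20_1 lc_f_rc_20_1 lc_f_rc_20_1 lc_f_rc_21_1 lc_f_rc_17_3) (@D3.rec (fun _ => (Cert rels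 S Gen.f)) lc_f_Cert_tree lc_f_rc_20_1 lc_f_rc_17_3 lc_f_rc_20_1 lc_f_rc_19_5 lc_f_rc_14_1 lc_f_rc_10_3 lc_f_rc_17_3 lc_f_rc_19_3 lc_f_rc_17_3 lc_f_rc_19_3 lc_f_rc_5_3 lc_f_rc_17_3 lc_f_rc_10_3 lc_f_rc_19_3 lc_f_rc_14_3 lc_f_rc_17_3 lc_f_rc_20_1 lc_f_rc_14_3 lc_f_rc_21_1 lc_f_rc_10_1 lc_f_rc_17_3 lc_f_Cert_tree lc_f_rc_5_1 lc_f_Cert_tree lc_f_rc_20_1 lc_f_rc_20_1 lc_f_rc_17_3 lc_f_rc_14_1 lc_f_rc_20_1 lc_f_rc_21_1 lc_f_Cert_tree lc_f_rc_20_1 lc_f_rc_10_3 lc_f_rc_10_3 lc_f_rc_5_1 lc_f_rc_5_3 lc_f_rc_10_3 lc_f_rc_5_1 lc_f_Cert_tree lc_f_rc_20_1 lc_f_rc_20_1 lc_f_rc_10_3 lc_f_rc_22_1 lc_f_rc_20_1 lc_f_rc_20_1 lc_f_rc_17_3 lc_f_rc_19_3 lc_f_rc_14_3 lc_f_rc_10_3 lc_f_rc_10_1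 lc_f_rc_5_3 lc_f_rc_10_3 lc_f_rc_20_1 lc_f_rc_14_3 lc_f_rc_20_1 lc_f_rc_17_3 lc_f_rc_20_1 lc_f_rc_19_1 lc_f_rc_17_3 lc_f_rc_17_3 lc_f_Cert_tree) (@D3.rec (fun _ => (Cert rels S Gen.f)) lc_f_rc_14_3 lc_f_rc_19_3 lc_f_rc_21_1 lc_f_Cert_tree lc_f_rc_20_1 lc_f_rc_10_3 lc_f_rc_10_3 lc_f_rc_5_1 lc_f_rc_14_3 lc_f_Cert_tree lc_f_rc_5_1 lc_f_rc_10_3 lc_f_Cert_tree lc_f_rc_20_1 lc_f_rc_20_1 lc_f_rc_21_1 lc_f_rc_22_1 lc_f_rc_10_3 lc_f_rc_20_1 lc_f_rc_5_1 lc_f_rc_10_1 lc_f_rc_14_3 lc_f_rc_17_3 lc_f_rc_21_1 lc_f_rc_5_1 lc_f_rc_21_1 lc_f_rc_17_1 lc_f_Cert_tree lc_f_rc_20_1 lc_f_rc_10_3 lc_f_rc_21_1 lc_f_rc_10_3 lc_f_rc_14_3 lc_f_rc_17_3 lc_f_rc_20_1 lc_f_rc_17_1 lc_f_rc_19_3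 lc_f_rc_17_3 lc_f_rc_20_1 lc_f_rc_20_1 lc_f_rc_20_1 lc_f_rc_10_1 lc_f_rc_10_3 lc_f_rc_14_1 lc_f_rc_5_1 lc_f_rc_20_1 lc_f_rc_10_1 lc_f_rc_17_1 lc_f_Cert_tree lc_f_rc_20_1 lc_f_rc_20_1 lc_f_rc_10_3 lc_f_rc_19_1 lc_f_rc_17_3 lc_f_rc_5_1 lc_f_Cert_tree lc_f_rc_10_1 lc_f_rc_20_1 lc_f_rc_10_3 lc_f_rc_20_1 lc_f_Cert_tree lc_f_Cert_tree) (@D3.rec (fun _ => (Cert rels S Gen.f)) lc_f_rc_20_1 lc_f_rc_20_1 lc_f_rc_21_1 lc_f_Cert_tree lc_f_rc_20_1 lc_f_rc_5_1 lc_f_rc_5_3 lc_f_Cert_tree lc_f_rc_10_3 lc_f_rc_14_1 lc_f_rc_17_3 lc_f_rc_10_3 lc_f_Cert_tree lc_f_rc_20_1 lc_f_rc_14_3 lc_f_rc_5_3 lc_f_rc_20_1 lc_f_rc_20_1 lc_f_rc_22_1 lc_f_rc_5_3 lc_f_Cert_tree lc_f_rc_20_1 lc_f_rc_5_1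 lc_f_rc_14_1 lc_f_Cert_tree lc_f_rc_14_3 lc_f_rc_10_3 lc_f_Cert_tree lc_f_rc_21_1 lc_f_rc_17_3 lc_f_rc_5_1 lc_f_rc_20_1 lc_f_Cert_tree lc_f_rc_5_3 lc_f_Cert_tree lc_f_rc_20_1 lc_f_rc_20_1 lc_f_rc_17_3 lc_f_Cert_tree lc_f_rc_20_1 lc_f_rc_5_3 lc_f_rc_22_1 lc_f_Cert_tree lc_f_rc_21_1 lc_f_rc_10_3 lc_f_rc_20_1 lc_f_rc_14_1 lc_f_Cert_tree lc_f_rc_20_1 lc_f_rc_21_1 lc_f_Cert_tree lc_f_rc_10_3 lc_f_rc_21_1 lc_f_Cert_tree lc_f_rc_20_1 lc_f_rc_5_1 lc_f_rc_21_1 lc_f_Cert_tree lc_f_rc_10_3 lc_f_rc_5_1 lc_f_rc_20_1 lc_f_rc_17_3) (@D3.rec (fun _ => (Cert rels S Gen.f)) lc_f_rc_5_1 lc_f_rc_21_1 lc_f_Cert_tree lc_f_rc_14_3 lc_f_rc_10_3 lc_f_rc_10_3 lc_f_Cert_tree lc_f_rc_17_3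 lc_f_rc_21_1 lc_f_rc_17_1 lc_f_Cert_tree lc_f_rc_21_1 lc_f_rc_14_3 lc_f_Cert_tree lc_f_rc_20_1 lc_f_rc_14_3 lc_f_rc_14_3 lc_f_rc_17_3 lc_f_Cert_tree lc_f_rc_10_3 lc_f_rc_14_3 lc_f_rc_17_3 lc_f_Cert_tree lc_f_rc_5_3 lc_f_rc_21_1 lc_f_rc_17_3 lc_f_rc_17_3 lc_f_rc_14_3 lc_f_rc_5_3 lc_f_Cert_tree lc_f_rc_5_1 lc_f_rc_10_1 lc_f_rc_20_1 lc_f_Cert_tree lc_f_rc_21_1 lc_f_rc_20_1 lc_f_Cert_tree lc_f_rc_20_1 lc_f_rc_10_1 lc_f_rc_21_1 lc_f_rc_17_3 lc_f_rc_21_1 lc_f_rc_20_1 lc_f_rc_20_1 lc_f_Cert_tree lc_f_rc_5_1 lc_f_rc_17_3 lc_f_rc_10_3 lc_f_rc_10_3 lc_f_rc_5_1 lc_f_rc_10_3 lc_f_Cert_tree lc_f_rc_20_1 lc_f_rc_21_1 lc_f_rc_10_1 lc_f_rc_17_3 lc_f_rc_14_3 lc_f_rc_17_3 lc_f_rc_17_3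 lc_f_Cert_tree lc_f_rc_20_1 lc_f_rc_17_3) (@D3.rec (fun _ => (Cert rels S Gen.f)) lc_f_rc_5_3 lc_f_rc_14_3 lc_f_rc_17_3 lc_f_Cert_tree lc_f_rc_20_1 lc_f_rc_17_3 lc_f_rc_14_3 lc_f_rc_20_1 lc_f_rc_21_1 lc_f_rc_20_1 lc_f_rc_10_3 lc_f_rc_14_3 lc_f_rc_20_1 lc_f_rc_17_3 lc_f_rc_14_3 lc_f_Cert_tree lc_f_rc_10_3 lc_f_rc_17_3 lc_f_rc_22_1 lc_f_Cert_tree lc_f_rc_10_3 lc_f_rc_14_3 lc_f_Cert_tree lc_f_rc_10_3 lc_f_rc_14_3 lc_f_Cert_tree lc_f_rc_21_1 lc_f_rc_21_1 lc_f_rc_10_3 lc_f_rc_21_1 lc_f_rc_17_1 lc_f_Cert_tree lc_f_rc_21_1 lc_f_Cert_tree lc_f_rc_14_3 lc_f_rc_20_1 lc_f_rc_14_3 lc_f_Cert_tree lc_f_rc_19_3 lc_f_rc_20_1 lc_f_rc_20_1 lc_f_rc_5_3 lc_f_rc_10_1 lc_f_Cert_tree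 lc_f_Cert_tree lc_f_rc_20_1 lc_f_rc_10_3 lc_f_rc_10_3 lc_f_rc_10_3 lc_f_rc_10_1 lc_f_Cert_tree lc_f_rc_10_3 lc_f_rc_14_1 lc_f_rc_21_1 lc_f_rc_20_1 lc_f_rc_19_1 lc_f_rc_14_3 lc_f_rc_22_1 lc_f_rc_21_1 lc_f_rc_14_3 lc_f_rc_10_3 lc_f_Cert_tree) (@D3.rec (fun _ => (Cert rels S Gen.f)) lc_f_rc_21_1 lc_f_rc_20_1 lc_f_rc_20_1 lc_f_rc_10_3 lc_f_rc_17_3 lc_f_rc_14_3 lc_f_rc_10_3 lc_f_rc_21_1 lc_f_rc_19_5 lc_f_rc_19_3 lc_f_rc_19_1 lc_f_rc_21_1 lc_f_rc_17_3 lc_f_rc_14_3 lc_f_Cert_tree lc_f_rc_20_1 lc_f_rc_20_1 lc_f_rc_14_1 lc_f_rc_14_3 lc_f_Cert_tree lc_f_rc_21_1 lc_f_rc_20_1 lc_f_rc_20_1 lc_f_rc_21_1 lc_f_rc_10_3 lc_f_rc_17_3 lc_f_rc_10_3 lc_f_rc_22_1 lc_f_rc_19_3 lc_f_rc_19_5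 lc_f_rc_20_1 lc_f_rc_17_1 lc_f_rc_10_3 lc_f_rc_17_3 lc_f_rc_19_3 lc_f_rc_20_1 lc_f_rc_14_3 lc_f_rc_17_3 lc_f_Cert_tree lc_f_rc_14_3 lc_f_Cert_tree lc_f_rc_5_1 lc_f_rc_20_1 lc_f_Cert_tree lc_f_rc_20_1 lc_f_rc_20_1 lc_f_rc_21_1 lc_f_rc_10_3 lc_f_Cert_tree lc_f_rc_14_3 lc_f_Cert_tree lc_f_rc_20_1 lc_f_rc_21_1 lc_f_Cert_tree lc_f_rc_20_1 lc_f_rc_20_1 lc_f_rc_21_1 lc_f_rc_10_3 lc_f_rc_17_3 lc_f_rc_5_1 lc_f_rc_21_1 lc_f_rc_17_3) (@D3.rec (fun _ => (Cert rels S Gen.f)) lc_f_rc_20_1 lc_f_rc_17_3 lc_f_rc_14_3 lc_f_rc_17_1 lc_f_rc_10_3 lc_f_rc_17_3 lc_f_rc_14_1 lc_f_rc_14_3 lc_f_rc_21_1 lc_f_rc_17_3 lc_f_rc_20_1 lc_f_rc_14_3 lc_f_rc_10_1 lc_f_rc_10_3 lc_f_rc_17_3 lc_f_rc_5_1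 lc_f_rc_20_1 lc_f_rc_20_1 lc_f_rc_14_3 lc_f_rc_14_3 lc_f_rc_5_1 lc_f_rc_17_3 lc_f_rc_5_3 lc_f_rc_5_1 lc_f_rc_5_1 lc_f_rc_22_1 lc_f_rc_22_1 lc_f_rc_5_3 lc_f_rc_10_3 lc_f_rc_17_3 lc_f_Cert_tree lc_f_rc_20_1 lc_f_rc_17_3 lc_f_Cert_tree lc_f_rc_14_3 lc_f_Cert_tree lc_f_rc_14_3 lc_f_rc_20_1 lc_f_rc_19_3 lc_f_rc_19_3 lc_f_rc_14_1 lc_f_rc_14_1 lc_f_rc_21_1 lc_f_rc_14_3 lc_f_rc_21_1 lc_f_rc_10_3 lc_f_rc_14_3 lc_f_rc_10_3 lc_f_rc_14_3 lc_f_rc_21_1 lc_f_rc_19_5 lc_f_rc_19_5 lc_f_rc_17_3 lc_f_rc_20_1 lc_f_rc_21_1 lc_f_rc_20_1 lc_f_rc_14_3 lc_f_rc_19_5 lc_f_rc_14_3 lc_f_rc_21_1 lc_f_rc_14_3 lc_f_rc_20_1) (@D3.rec (fun _ => (Cert rels S Gen.f)) lc_f_rc_10_3 lc_f_rc_10_3 lc_f_rc_20_1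 lc_f_rc_21_1 lc_f_rc_14_3 lc_f_rc_5_3 lc_f_rc_5_3 lc_f_rc_14_3 lc_f_rc_17_3 lc_f_rc_21_1 lc_f_rc_10_3 lc_f_rc_14_3 lc_f_rc_21_1 lc_f_Cert_tree lc_f_Cert_tree lc_f_rc_20_1 lc_f_rc_10_3 lc_f_rc_5_3 lc_f_rc_14_3 lc_f_rc_5_3 lc_f_rc_10_3 lc_f_rc_19_3 lc_f_rc_19_3 lc_f_rc_21_1 lc_f_rc_10_3 lc_f_rc_5_1 lc_f_rc_5_3 lc_f_rc_10_3 lc_f_rc_21_1 lc_f_rc_19_3 lc_f_rc_17_3 lc_f_Cert_tree lc_f_rc_20_1 lc_f_rc_21_1 lc_f_rc_20_1 lc_f_rc_5_1 lc_f_rc_22_1 lc_f_rc_22_1 lc_f_Cert_tree lc_f_rc_21_1 lc_f_rc_20_1 lc_f_Cert_tree lc_f_rc_20_1 lc_f_rc_5_1 lc_f_rc_17_3 lc_f_rc_20_1 lc_f_rc_10_3 lc_f_rc_5_1 lc_f_rc_5_1 lc_f_rc_10_3 lc_f_rc_17_3 lc_f_rc_20_1 lc_f_rc_20_1 lc_f_Cert_tree lc_f_rc_10_1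 lc_f_rc_20_1 lc_f_rc_20_1 lc_f_rc_17_3 lc_f_rc_17_3 lc_f_rc_10_1 lc_f_rc_14_3 lc_f_rc_19_3) (@D3.rec (fun _ => (Cert rels S Gen.f)) lc_f_rc_10_3 lc_f_rc_20_1 lc_f_rc_10_3 lc_f_rc_10_3 lc_f_rc_21_1 lc_f_rc_20_1 lc_f_rc_20_1 lc_f_rc_20_1 lc_f_rc_5_3 lc_f_rc_21_1 lc_f_rc_10_3 lc_f_rc_17_3 lc_f_rc_5_1 lc_f_rc_21_1 lc_f_Cert_tree lc_f_rc_14_3 lc_f_Cert_tree lc_f_rc_20_1 lc_f_rc_21_1 lc_f_rc_10_3 lc_f_rc_17_3 lc_f_rc_17_3 lc_f_rc_21_1 lc_f_rc_19_3 lc_f_rc_5_3 lc_f_rc_21_1 lc_f_rc_10_3 lc_f_rc_21_1 lc_f_rc_20_1 lc_f_rc_14_3 lc_f_rc_14_3 lc_f_rc_17_3 lc_f_rc_21_1 lc_f_rc_17_3 lc_f_rc_10_3 lc_f_rc_20_1 lc_f_rc_14_3 lc_f_rc_14_3 lc_f_Cert_tree lc_f_rc_20_1 lc_f_rc_14_3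 lc_f_rc_14_3 lc_f_rc_10_1 lc_f_rc_10_3 lc_f_rc_14_3 lc_f_rc_17_1 lc_f_rc_19_5 lc_f_rc_10_3 lc_f_rc_10_3 lc_f_rc_14_3 lc_f_rc_14_3 lc_f_Cert_tree lc_f_rc_20_1 lc_f_rc_20_1 lc_f_rc_10_3 lc_f_Cert_tree lc_f_Cert_tree lc_f_rc_19_3 lc_f_rc_20_1 lc_f_rc_17_3 lc_f_rc_14_3 lc_f_rc_21_1) (@D3.rec (fun _ => (Cert rels S Gen.f)) lc_f_rc_17_3 lc_f_rc_14_3 lc_f_rc_14_3 lc_f_rc_17_3 lc_f_rc_14_3 lc_f_rc_10_3 lc_f_rc_19_3 lc_f_rc_14_3 lc_f_rc_10_3 lc_f_rc_5_3 lc_f_rc_5_3 lc_f_Cert_tree lc_f_rc_20_1 lc_f_rc_21_1 lc_f_rc_20_1 lc_f_rc_5_1 lc_f_Cert_tree lc_f_rc_14_3 lc_f_rc_21_1 lc_f_rc_17_3 lc_f_rc_19_3 lc_f_rc_5_1 lc_f_rc_19_1 lc_f_rc_20_1 lc_f_rc_14_3 lc_f_rc_5_3 lc_f_rc_14_3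 lc_f_rc_10_1 lc_f_rc_10_3 lc_f_rc_14_3 lc_f_rc_19_3 lc_f_rc_14_3 lc_f_rc_10_3 lc_f_rc_19_3 lc_f_rc_14_1 lc_f_Cert_tree lc_f_rc_20_1 lc_f_Cert_tree lc_f_rc_10_3 lc_f_Cert_tree lc_f_rc_14_3 lc_f_rc_21_1 lc_f_rc_20_1 lc_f_rc_5_3 lc_f_rc_17_3 lc_f_Cert_tree lc_f_rc_17_3 lc_f_rc_14_3 lc_f_rc_5_3 lc_f_rc_10_1 lc_f_rc_19_3 lc_f_rc_17_3 lc_f_rc_21_1 lc_f_Cert_tree lc_f_rc_17_3 lc_f_rc_10_3 lc_f_rc_21_1 lc_f_rc_20_1 lc_f_rc_10_1 lc_f_rc_10_3 lc_f_Cert_tree lc_f_rc_5_3) (@D3.rec (fun _ => (Cert rels S Gen.f)) lc_f_rc_10_3 lc_f_rc_17_3 lc_f_Cert_tree lc_f_rc_20_1 lc_f_rc_10_3 lc_f_rc_20_1 lc_f_rc_10_3 lc_f_rc_14_3 lc_f_rc_14_3 lc_f_rc_10_3 lc_f_rc_20_1 lc_f_rc_20_1 lc_f_Cert_tree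 lc_f_rc_10_3 lc_f_rc_20_1 lc_f_rc_14_3 lc_f_rc_10_3 lc_f_rc_5_1 lc_f_rc_10_3 lc_f_rc_5_1 lc_f_Cert_tree lc_f_Cert_tree lc_f_rc_20_1 lc_f_rc_21_1 lc_f_Cert_tree lc_f_rc_20_1 lc_f_rc_14_3 lc_f_rc_22_1 lc_f_rc_10_3 lc_f_rc_14_1 lc_f_rc_10_3 lc_f_rc_5_1 lc_f_rc_17_1 lc_f_rc_20_1 lc_f_rc_14_3 lc_f_rc_5_3 lc_f_rc_14_3 lc_f_rc_19_3 lc_f_rc_14_1 lc_f_rc_21_1 lc_f_rc_10_3 lc_f_rc_10_3 lc_f_Cert_tree lc_f_rc_17_3 lc_f_rc_17_3 lc_f_Cert_tree lc_f_rc_14_3 lc_f_rc_14_3 lc_f_rc_14_3 lc_f_rc_20_1 lc_f_rc_20_1 lc_f_rc_20_1 lc_f_rc_19_3 lc_f_rc_14_3 lc_f_rc_10_3 lc_f_rc_21_1 lc_f_rc_21_1 lc_f_Cert_tree lc_f_rc_20_1 lc_f_rc_10_3 lc_f_rc_14_1 lc_f_rc_14_1) (@D3.rec (fun _ => (Cert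 rels S Gen.f)) lc_f_rc_5_1 lc_f_rc_5_3 lc_f_rc_17_3 lc_f_rc_21_1 lc_f_Cert_tree lc_f_rc_20_1 lc_f_rc_14_3 lc_f_Cert_tree lc_f_rc_20_1 lc_f_rc_20_1 lc_f_rc_19_5 lc_f_rc_5_3 lc_f_rc_20_1 lc_f_Cert_tree lc_f_rc_20_1 lc_f_rc_14_3 lc_f_rc_5_1 lc_f_rc_10_3 lc_f_rc_14_3 lc_f_rc_20_1 lc_f_Cert_tree lc_f_Cert_tree lc_f_Cert_tree lc_f_rc_20_1 lc_f_rc_10_3 lc_f_rc_21_1 lc_f_rc_20_1 lc_f_rc_20_1 lc_f_rc_20_1 lc_f_rc_21_1 lc_f_Cert_tree lc_f_Cert_tree lc_f_rc_20_1 lc_f_rc_10_3 lc_f_rc_5_1 lc_f_rc_5_1 lc_f_Cert_tree lc_f_rc_14_3 lc_f_rc_17_3 lc_f_rc_5_1 lc_f_rc_22_1 lc_f_Cert_tree lc_f_rc_14_3 lc_f_rc_14_3 lc_f_rc_17_3 lc_f_Cert_tree lc_f_rc_20_1 lc_f_rc_21_1 lc_f_Cert_tree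 lc_f_rc_20_1 lc_f_rc_17_3 lc_f_Cert_tree lc_f_rc_17_1 lc_f_Cert_tree lc_f_rc_17_3 lc_f_Cert_tree lc_f_rc_21_1 lc_f_rc_20_1 lc_f_Cert_tree lc_f_rc_20_1 lc_f_rc_19_1 lc_f_rc_14_3) (@D3.rec (fun _ => (Cert rels S Gen.f)) lc_f_rc_14_3 lc_f_rc_17_3 lc_f_rc_14_3 lc_f_rc_20_1 lc_f_rc_20_1 lc_f_rc_20_1 lc_f_Cert_tree lc_f_rc_21_1 lc_f_rc_20_1 lc_f_Cert_tree lc_f_rc_20_1 lc_f_rc_19_1 lc_f_rc_14_3 lc_f_rc_21_1 lc_f_rc_17_3 lc_f_rc_10_3 lc_f_rc_21_1 lc_f_rc_10_3 lc_f_rc_17_3 lc_f_rc_14_3 lc_f_rc_14_3 lc_f_rc_17_3 lc_f_rc_22_1 lc_f_rc_17_3 lc_f_rc_5_3 lc_f_rc_21_1 lc_f_rc_21_1 lc_f_rc_21_1 lc_f_rc_5_3 lc_f_rc_20_1 lc_f_rc_14_3 lc_f_rc_17_3 lc_f_rc_20_1 lc_f_rc_17_3 lc_f_rc_14_3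 lc_f_rc_19_5 lc_f_rc_20_1 lc_f_rc_20_1 lc_f_rc_21_1 lc_f_rc_14_3 lc_f_rc_21_1 lc_f_rc_22_1 lc_f_rc_10_3 lc_f_rc_5_3 lc_f_rc_14_3 lc_f_rc_20_1 lc_f_rc_20_1 lc_f_rc_10_3 lc_f_rc_14_3 lc_f_rc_20_1 lc_f_rc_19_5 lc_f_rc_20_1 lc_f_Cert_tree lc_f_rc_20_1 lc_f_rc_19_1 lc_f_rc_20_1 lc_f_rc_10_1 lc_f_rc_20_1 lc_f_rc_17_1 lc_f_rc_10_3 lc_f_rc_21_1 lc_f_rc_21_1) (@D3.rec (fun _ => (Cert rels S Gen.f)) lc_f_rc_20_1 lc_f_rc_21_1 lc_f_rc_17_3 lc_f_rc_21_1 lc_f_rc_21_1 lc_f_rc_14_3 lc_f_rc_20_1 lc_f_rc_17_3 lc_f_rc_5_3 lc_f_Cert_tree lc_f_Cert_tree lc_f_rc_20_1 lc_f_rc_14_1 lc_f_rc_20_1 lc_f_Cert_tree lc_f_rc_10_3 lc_f_rc_10_3 lc_f_rc_20_1 lc_f_rc_14_3 lc_f_Cert_tree lc_f_rc_20_1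 lc_f_rc_14_3 lc_f_rc_17_3 lc_f_rc_5_1 lc_f_rc_5_1 lc_f_rc_17_3 lc_f_rc_21_1 lc_f_Cert_tree lc_f_rc_20_1 lc_f_rc_5_1 lc_f_rc_20_1 lc_f_rc_21_1 lc_f_rc_14_3 lc_f_rc_20_1 lc_f_rc_14_3 lc_f_rc_20_1 lc_f_rc_10_1 lc_f_rc_21_1 lc_f_Cert_tree lc_f_Cert_tree lc_f_rc_20_1 lc_f_rc_19_3 lc_f_Cert_tree lc_f_rc_17_3 lc_f_rc_14_3 lc_f_rc_10_3 lc_f_rc_17_3 lc_f_Cert_tree lc_f_rc_10_3 lc_f_rc_20_1 lc_f_rc_5_3 lc_f_rc_14_3 lc_f_Cert_tree lc_f_rc_10_3 lc_f_rc_17_3 lc_f_rc_14_1 lc_f_rc_5_3 lc_f_Cert_tree lc_f_rc_20_1 lc_f_rc_20_1 lc_f_rc_21_1 lc_f_Cert_tree) (@D3.rec (fun _ => (Cert rels S Gen.f)) lc_f_rc_20_1 lc_f_rc_10_3 lc_f_rc_14_3 lc_f_rc_17_3 lc_f_Cert_tree lc_f_rc_20_1 lc_f_rc_20_1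 lc_f_rc_21_1 lc_f_Cert_tree lc_f_rc_21_1 lc_f_rc_20_1 lc_f_Cert_tree lc_f_rc_20_1 lc_f_rc_10_3 lc_f_rc_5_3 lc_f_rc_14_3 lc_f_rc_17_3 lc_f_rc_20_1 lc_f_rc_17_3 lc_f_rc_21_1 lc_f_Cert_tree lc_f_rc_5_3 lc_f_rc_5_3 lc_f_rc_10_3 lc_f_rc_10_3 lc_f_Cert_tree lc_f_rc_14_3 lc_f_rc_21_1 lc_f_rc_20_1 lc_f_rc_10_3 lc_f_rc_17_3 lc_f_rc_21_1 lc_f_Cert_tree lc_f_rc_10_3 lc_f_rc_21_1 lc_f_Cert_tree lc_f_rc_14_3 lc_f_rc_17_3 lc_f_Cert_tree lc_f_rc_14_3 lc_f_rc_20_1 lc_f_rc_19_3 lc_f_rc_14_3 lc_f_rc_21_1 lc_f_rc_14_3 lc_f_rc_17_3 lc_f_rc_19_5 lc_f_rc_22_1 lc_f_rc_10_3 lc_f_rc_5_3 lc_f_rc_17_3 lc_f_rc_14_3 lc_f_rc_21_1 lc_f_rc_21_1 lc_f_Cert_tree lc_f_rc_10_3 lc_f_rc_17_3 lc_f_rc_20_1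 lc_f_rc_14_3 lc_f_rc_5_1 lc_f_rc_14_3 lc_f_rc_5_3) (@D3.rec (fun _ => (Cert rels S Gen.f)) lc_f_rc_10_3 lc_f_rc_14_3 lc_f_rc_10_3 lc_f_rc_14_3 lc_f_rc_20_1 lc_f_rc_21_1 lc_f_rc_19_3 lc_f_rc_20_1 lc_f_rc_10_3 lc_f_rc_14_3 lc_f_rc_20_1 lc_f_rc_21_1 lc_f_rc_20_1 lc_f_rc_10_3 lc_f_rc_14_3 lc_f_rc_20_1 lc_f_rc_14_3 lc_f_rc_10_3 lc_f_rc_17_1 lc_f_rc_10_3 lc_f_rc_19_5 lc_f_rc_21_1 lc_f_rc_14_3 lc_f_rc_10_3 lc_f_rc_19_5 lc_f_rc_5_1 lc_f_rc_20_1 lc_f_rc_10_3 lc_f_rc_5_1 lc_f_rc_22_1 lc_f_rc_10_3 lc_f_rc_17_3 lc_f_rc_21_1 lc_f_rc_17_3 lc_f_rc_17_3 lc_f_rc_17_1 lc_f_rc_14_1 lc_f_rc_20_1 lc_f_rc_14_3 lc_f_rc_20_1 lc_f_Cert_tree lc_f_rc_14_3 lc_f_rc_21_1 lc_f_Cert_tree lc_f_Cert_tree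 lc_f_rc_20_1 lc_f_rc_19_3 lc_f_rc_17_3 lc_f_rc_22_1 lc_f_rc_14_3 lc_f_rc_20_1 lc_f_rc_21_1 lc_f_rc_5_1 lc_f_rc_5_3 lc_f_rc_21_1 lc_f_rc_10_3 lc_f_rc_14_3 lc_f_Cert_tree lc_f_Cert_tree lc_f_rc_17_1 lc_f_rc_20_1 lc_f_rc_19_3) (@D3.rec (fun _ => (Cert rels S Gen.f)) lc_f_rc_17_3 lc_f_rc_14_3 lc_f_Cert_tree lc_f_rc_20_1 lc_f_rc_17_3 lc_f_rc_14_3 lc_f_Cert_tree lc_f_rc_20_1 lc_f_rc_14_1 lc_f_Cert_tree lc_f_rc_14_3 lc_f_rc_14_3 lc_f_rc_10_3 lc_f_rc_17_3 lc_f_Cert_tree lc_f_rc_21_1 lc_f_Cert_tree lc_f_rc_20_1 lc_f_rc_14_3 lc_f_rc_17_3 lc_f_rc_17_3 lc_f_rc_14_3 lc_f_Cert_tree lc_f_rc_14_3 lc_f_rc_14_3 lc_f_Cert_tree lc_f_rc_10_3 lc_f_rc_17_3 lc_f_Cert_tree lc_f_rc_20_1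 lc_f_rc_20_1 lc_f_Cert_tree lc_f_rc_5_3 lc_f_rc_10_3 lc_f_rc_21_1 lc_f_Cert_tree lc_f_rc_19_3 lc_f_rc_10_3 lc_f_rc_20_1 lc_f_rc_20_1 lc_f_rc_21_1 lc_f_Cert_tree lc_f_rc_10_3 lc_f_rc_14_3 lc_f_Cert_tree lc_f_rc_20_1 lc_f_rc_21_1 lc_f_Cert_tree lc_f_rc_20_1 lc_f_rc_10_3 lc_f_rc_17_3 lc_f_Cert_tree lc_f_rc_10_3 lc_f_rc_21_1 lc_f_Cert_tree lc_f_Cert_tree lc_f_rc_5_1 lc_f_rc_5_1 lc_f_Cert_tree lc_f_rc_20_1 lc_f_rc_14_3 lc_f_rc_17_3) (@D3.rec (fun _ => (Cert rels S Gen.f)) lc_f_rc_5_3 lc_f_Cert_tree lc_f_rc_20_1 lc_f_rc_19_3 lc_f_rc_17_3 lc_f_rc_21_1 lc_f_rc_22_1 lc_f_Cert_tree lc_f_rc_14_3 lc_f_rc_14_3 lc_f_rc_17_3 lc_f_rc_19_3 lc_f_rc_19_3 lc_f_rc_10_3 lc_f_rc_20_1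 lc_f_rc_21_1 lc_f_rc_21_1 lc_f_rc_17_3 lc_f_rc_5_1 lc_f_rc_20_1 lc_f_Cert_tree lc_f_rc_21_1 lc_f_rc_17_3 lc_f_rc_14_1 lc_f_rc_10_3 lc_f_rc_21_1 lc_f_rc_20_1 lc_f_Cert_tree lc_f_rc_21_1 lc_f_rc_5_3 lc_f_rc_20_1 lc_f_rc_14_1 lc_f_Cert_tree lc_f_rc_17_1 lc_f_rc_21_1 lc_f_rc_20_1 lc_f_rc_20_1 lc_f_rc_5_3 lc_f_rc_21_1 lc_f_rc_20_1 lc_f_rc_10_3 lc_f_rc_10_3 lc_f_rc_19_3 lc_f_rc_21_1 lc_f_rc_21_1 lc_f_rc_17_3 lc_f_rc_10_3 lc_f_Cert_tree lc_f_rc_5_1 lc_f_rc_10_3 lc_f_rc_20_1 lc_f_rc_5_3 lc_f_rc_5_3 lc_f_rc_10_3 lc_f_Cert_tree lc_f_rc_21_1 lc_f_rc_10_3 lc_f_rc_17_1 lc_f_rc_20_1 lc_f_rc_5_3 lc_f_rc_14_3 lc_f_Cert_tree) (@D3.rec (fun _ => (Cert rels S Gen.f)) lc_f_rc_10_3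 lc_f_rc_21_1 lc_f_rc_20_1 lc_f_rc_17_3 lc_f_rc_14_3 lc_f_Cert_tree lc_f_rc_10_3 lc_f_rc_14_3 lc_f_Cert_tree lc_f_rc_20_1 lc_f_rc_21_1 lc_f_rc_5_3 lc_f_rc_17_1 lc_f_rc_17_3 lc_f_rc_14_3 lc_f_Cert_tree lc_f_rc_19_3 lc_f_rc_21_1 lc_f_rc_17_3 lc_f_Cert_tree lc_f_rc_17_3 lc_f_Cert_tree lc_f_rc_17_3 lc_f_rc_5_1 lc_f_rc_20_1 lc_f_rc_20_1 lc_f_rc_21_1 lc_f_rc_17_3 lc_f_rc_20_1 lc_f_rc_14_3 lc_f_rc_14_3 lc_f_rc_21_1 lc_f_rc_22_1 lc_f_rc_10_1 lc_f_rc_10_3 lc_f_rc_5_1 lc_f_rc_21_1 lc_f_rc_19_5 lc_f_rc_20_1 lc_f_rc_19_5 lc_f_rc_19_3 lc_f_rc_17_3 lc_f_rc_20_1 lc_f_rc_10_3 lc_f_rc_17_3 lc_f_rc_21_1 lc_f_rc_17_3 lc_f_rc_19_3 lc_f_rc_5_1 lc_f_rc_5_3 lc_f_rc_5_3 lc_f_rc_21_1 lc_f_rc_5_3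 lc_f_rc_10_3 lc_f_rc_5_1 lc_f_rc_5_3 lc_f_rc_17_3 lc_f_rc_21_1 lc_f_rc_17_3 lc_f_rc_21_1 lc_f_rc_20_1 lc_f_rc_20_1) (@D3.rec (fun _ => (Cert rels S Gen.f)) lc_f_rc_5_3 lc_f_rc_14_3 lc_f_rc_10_1 lc_f_rc_14_1 lc_f_rc_20_1 lc_f_rc_14_3 lc_f_Cert_tree lc_f_rc_14_3 lc_f_Cert_tree lc_f_rc_17_3 lc_f_rc_17_3 lc_f_Cert_tree lc_f_Cert_tree lc_f_rc_20_1 lc_f_rc_19_3 lc_f_rc_17_3 lc_f_rc_14_3 lc_f_rc_10_1 lc_f_rc_20_1 lc_f_rc_20_1 lc_f_rc_5_1 lc_f_Cert_tree lc_f_rc_14_3 lc_f_Cert_tree lc_f_rc_21_1 lc_f_rc_17_3 lc_f_Cert_tree lc_f_Cert_tree lc_f_rc_20_1 lc_f_rc_20_1 lc_f_rc_14_3 lc_f_rc_20_1 lc_f_rc_21_1 lc_f_rc_5_1 lc_f_rc_5_1 lc_f_Cert_tree lc_f_rc_14_3 lc_f_Cert_tree lc_f_rc_14_1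 lc_f_Cert_tree lc_f_rc_17_1 lc_f_rc_20_1 lc_f_rc_19_3 lc_f_rc_17_3 lc_f_rc_14_3 lc_f_Cert_tree lc_f_rc_17_3 lc_f_rc_20_1 lc_f_rc_5_3 lc_f_rc_17_3 lc_f_rc_14_3 lc_f_Cert_tree lc_f_rc_17_1 lc_f_rc_20_1 lc_f_rc_14_1 lc_f_Cert_tree lc_f_rc_14_3 lc_f_rc_14_3 lc_f_rc_10_3 lc_f_rc_17_3 lc_f_Cert_tree lc_f_rc_21_1) (@D3.rec (fun _ => (Cert rels S Gen.f)) lc_f_Cert_tree lc_f_rc_20_1 lc_f_rc_14_3 lc_f_rc_21_1 lc_f_rc_20_1 lc_f_rc_17_3 lc_f_rc_21_1 lc_f_Cert_tree lc_f_rc_22_1 lc_f_rc_14_3 lc_f_Cert_tree lc_f_rc_10_3 lc_f_rc_21_1 lc_f_Cert_tree lc_f_rc_20_1 lc_f_rc_20_1 lc_f_Cert_tree lc_f_rc_14_3 lc_f_rc_14_3 lc_f_rc_17_3 lc_f_Cert_tree lc_f_rc_19_3 lc_f_rc_10_3 lc_f_rc_10_3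 lc_f_rc_20_1 lc_f_rc_5_1 lc_f_Cert_tree lc_f_rc_10_3 lc_f_rc_5_1 lc_f_Cert_tree lc_f_rc_20_1 lc_f_rc_21_1 lc_f_Cert_tree lc_f_rc_20_1 lc_f_rc_10_3 lc_f_rc_17_3 lc_f_Cert_tree lc_f_rc_10_3 lc_f_rc_17_3 lc_f_Cert_tree lc_f_rc_14_1 lc_f_rc_21_1 lc_f_rc_5_1 lc_f_Cert_tree lc_f_rc_20_1 lc_f_rc_17_3 lc_f_rc_21_1 lc_f_rc_17_3 lc_f_Cert_tree lc_f_rc_20_1 lc_f_rc_19_3 lc_f_rc_20_1 lc_f_rc_5_1 lc_f_rc_21_1 lc_f_rc_19_5 lc_f_rc_5_3 lc_f_rc_20_1 lc_f_rc_21_1 lc_f_rc_21_1 lc_f_rc_17_3 lc_f_rc_5_1 lc_f_rc_19_1) (@D3.rec (fun _ => (Cert rels S Gen.f)) lc_f_rc_20_1 lc_f_Cert_tree lc_f_rc_21_1 lc_f_rc_14_1 lc_f_Cert_tree lc_f_rc_17_3 lc_f_rc_21_1 lc_f_rc_20_1 lc_f_Cert_tree lc_f_rc_21_1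 lc_f_rc_5_3 lc_f_rc_20_1 lc_f_rc_5_3 lc_f_rc_20_1 lc_f_Cert_tree lc_f_Cert_tree lc_f_rc_20_1 lc_f_rc_20_1 lc_f_rc_20_1 lc_f_rc_20_1 lc_f_rc_17_3 lc_f_rc_17_1 lc_f_rc_21_1 lc_f_rc_10_1 lc_f_rc_21_1 lc_f_rc_14_3 lc_f_rc_20_1 lc_f_rc_17_3 lc_f_rc_17_3 lc_f_rc_21_1 lc_f_rc_19_5 lc_f_rc_17_3 lc_f_rc_20_1 lc_f_rc_10_3 lc_f_rc_5_3 lc_f_rc_20_1 lc_f_rc_10_3 lc_f_rc_21_1 lc_f_rc_21_1 lc_f_rc_21_1 lc_f_rc_21_1 lc_f_rc_14_3 lc_f_rc_19_3 lc_f_rc_21_1 lc_f_rc_17_3 lc_f_rc_14_3 lc_f_rc_14_3 lc_f_rc_17_3 lc_f_Cert_tree lc_f_rc_21_1 lc_f_rc_20_1 lc_f_rc_20_1 lc_f_rc_19_1 lc_f_rc_5_3 lc_f_rc_17_3 lc_f_rc_5_1 lc_f_Cert_tree lc_f_rc_20_1 lc_f_rc_20_1 lc_f_rc_21_1 lc_f_Cert_tree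 lc_f_rc_14_3) (@D3.rec (fun _ => (Cert rels S Gen.f)) lc_f_rc_20_1 lc_f_rc_17_3 lc_f_rc_19_3 lc_f_rc_17_3 lc_f_rc_10_3 lc_f_rc_10_1 lc_f_rc_21_1 lc_f_rc_21_1 lc_f_rc_17_1 lc_f_rc_20_1 lc_f_rc_21_1 lc_f_Cert_tree lc_f_rc_17_3 lc_f_rc_20_1 lc_f_rc_20_1 lc_f_rc_10_3 lc_f_rc_19_5 lc_f_rc_19_3 lc_f_rc_17_3 lc_f_rc_10_1 lc_f_rc_17_3 lc_f_rc_17_3 lc_f_rc_14_3 lc_f_Cert_tree lc_f_rc_21_1 lc_f_rc_21_1 lc_f_rc_21_1 lc_f_rc_17_3 lc_f_rc_14_1 lc_f_Cert_tree lc_f_rc_17_3 lc_f_rc_22_1 lc_f_rc_19_3 lc_f_rc_10_3 lc_f_rc_22_1 lc_f_rc_10_1 lc_f_Cert_tree lc_f_Cert_tree lc_f_rc_20_1 lc_f_rc_21_1 lc_f_rc_17_3 lc_f_rc_20_1 lc_f_rc_19_1 lc_f_rc_20_1 lc_f_rc_14_3 lc_f_rc_17_3 lc_f_rc_17_1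 lc_f_rc_17_1 lc_f_rc_5_3 lc_f_Cert_tree lc_f_rc_19_3 lc_f_rc_20_1 lc_f_rc_20_1 lc_f_rc_14_3 lc_f_rc_17_3 lc_f_rc_10_3 lc_f_rc_17_1 lc_f_rc_19_1 lc_f_rc_20_1 lc_f_rc_21_1 lc_f_rc_17_1 lc_f_rc_14_3) (@D3.rec (fun _ => (Cert rels S Gen.f)) lc_f_rc_20_1 lc_f_rc_21_1 lc_f_Cert_tree lc_f_rc_20_1 lc_f_rc_10_3 lc_f_rc_5_1 lc_f_rc_17_3 lc_f_rc_5_1 lc_f_rc_17_3 lc_f_rc_17_3 lc_f_rc_20_1 lc_f_rc_21_1 lc_f_rc_21_1 lc_f_rc_14_3 lc_f_rc_19_1 lc_f_rc_17_3 lc_f_rc_20_1 lc_f_rc_10_3 lc_f_rc_20_1 lc_f_rc_10_3 lc_f_rc_17_3 lc_f_rc_10_1 lc_f_rc_21_1 lc_f_Cert_tree lc_f_rc_14_3 lc_f_rc_14_3 lc_f_Cert_tree lc_f_rc_20_1 lc_f_rc_17_3 lc_f_rc_17_1 lc_f_Cert_tree lc_f_rc_10_3 lc_f_rc_20_1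 lc_f_rc_21_1 lc_f_rc_20_1 lc_f_rc_20_1 lc_f_Cert_tree lc_f_rc_17_3 lc_f_rc_17_1 lc_f_Cert_tree lc_f_rc_17_1 lc_f_Cert_tree lc_f_rc_20_1 lc_f_rc_5_3 lc_f_Cert_tree lc_f_rc_20_1 lc_f_rc_20_1 lc_f_rc_5_3 lc_f_rc_17_3 lc_f_rc_20_1 lc_f_rc_20_1 lc_f_rc_17_3 lc_f_rc_17_3 lc_f_rc_17_1 lc_f_rc_17_3 lc_f_rc_14_3 lc_f_rc_22_1 lc_f_rc_14_1 lc_f_Cert_tree lc_f_rc_17_3 lc_f_rc_19_3 lc_f_rc_17_3) (@D3.rec (fun _ => (Cert rels S Gen.f)) lc_f_rc_21_1 lc_f_rc_17_1 lc_f_Cert_tree lc_f_rc_20_1 lc_f_Cert_tree lc_f_rc_20_1 lc_f_rc_22_1 lc_f_rc_17_3 lc_f_Cert_tree lc_f_rc_20_1 lc_f_rc_17_3 lc_f_rc_14_3 lc_f_rc_20_1 lc_f_rc_17_3 lc_f_rc_10_3 lc_f_rc_21_1 lc_f_rc_10_3 lc_f_Cert_tree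 lc_f_rc_21_1 lc_f_rc_14_3 lc_f_rc_20_1 lc_f_Cert_tree lc_f_rc_10_3 lc_f_rc_5_1 lc_f_rc_17_3 lc_f_rc_14_3 lc_f_Cert_tree lc_f_rc_5_3 lc_f_Cert_tree lc_f_rc_20_1 lc_f_rc_10_1 lc_f_rc_14_3 lc_f_Cert_tree lc_f_rc_10_3 lc_f_rc_5_1 lc_f_Cert_tree lc_f_rc_21_1 lc_f_Cert_tree lc_f_rc_20_1 lc_f_rc_10_3 lc_f_rc_17_3 lc_f_Cert_tree lc_f_rc_10_3 lc_f_rc_17_3 lc_f_Cert_tree lc_f_rc_14_1 lc_f_rc_21_1 lc_f_Cert_tree lc_f_rc_20_1 lc_f_rc_21_1 lc_f_rc_14_3 lc_f_Cert_tree lc_f_rc_20_1 lc_f_rc_19_1 lc_f_rc_21_1 lc_f_rc_21_1 lc_f_rc_21_1 lc_f_Cert_tree lc_f_rc_10_3 lc_f_rc_14_3 lc_f_rc_17_1 lc_f_rc_17_1)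
def ce_f_5 : D2 → D3 → (Cert rels S Gen.f) := @D2.rec (fun _ => D3 → (Cert rels S Gen.f)) (@D3.rec (fun _ => (Cert rels S Gen.f)) lc_f_rc_21_1 lc_f_rc_20_1 lc_f_rc_10_3 lc_f_rc_20_1 lc_f_rc_21_1 lc_f_rc_20_1 lc_f_rc_17_3 lc_f_rc_14_3 lc_f_rc_21_1 lc_f_rc_5_3 lc_f_rc_19_5 lc_f_rc_17_3 lc_f_Cert_tree lc_f_rc_17_1 lc_f_rc_17_3 lc_f_rc_19_3 lc_f_rc_20_1 lc_f_rc_5_3 lc_f_rc_5_3 lc_f_rc_10_3 lc_f_rc_14_1 lc_f_rc_20_1 lc_f_rc_17_3 lc_f_rc_14_1 lc_f_Cert_tree lc_f_rc_10_3 lc_f_Cert_tree lc_f_rc_10_3 lc_f_rc_17_1 lc_f_rc_19_3 lc_f_rc_21_1 lc_f_rc_10_3 lc_f_rc_17_3 lc_f_rc_14_3 lc_f_rc_10_1 lc_f_rc_14_3 lc_f_rc_17_3 lc_f_rc_14_3 lc_f_rc_14_3 lc_f_rc_20_1 lc_f_rc_20_1 lc_f_rc_21_1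 lc_f_rc_14_1 lc_f_rc_10_3 lc_f_rc_17_3 lc_f_rc_21_1 lc_f_rc_17_3 lc_f_rc_14_3 lc_f_rc_5_3 lc_f_rc_14_3 lc_f_Cert_tree lc_f_rc_14_3 lc_f_rc_21_1 lc_f_Cert_tree lc_f_rc_17_1 lc_f_rc_20_1 lc_f_rc_19_3 lc_f_rc_21_1 lc_f_rc_21_1 lc_f_rc_17_3 lc_f_rc_14_3 lc_f_Cert_tree) (@D3.rec (fun _ => (Cert rels S Gen.f)) lc_f_rc_20_1 lc_f_rc_21_1 lc_f_Cert_tree lc_f_rc_14_3 lc_f_Cert_tree lc_f_rc_21_1 lc_f_rc_17_1 lc_f_rc_21_1 lc_f_rc_14_3 lc_f_rc_10_3 lc_f_rc_14_3 lc_f_Cert_tree lc_f_rc_20_1 lc_f_rc_5_1 lc_f_rc_20_1 lc_f_rc_17_3 lc_f_rc_21_1 lc_f_rc_14_3 lc_f_Cert_tree lc_f_rc_14_3 lc_f_rc_21_1 lc_f_rc_20_1 lc_f_rc_21_1 lc_f_rc_21_1 lc_f_rc_17_3 lc_f_rc_21_1 lc_f_Cert_tree lc_f_rc_5_1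 lc_f_rc_19_5 lc_f_rc_20_1 lc_f_rc_17_3 lc_f_rc_14_3 lc_f_Cert_tree lc_f_rc_5_3 lc_f_rc_10_3 lc_f_rc_17_3 lc_f_Cert_tree lc_f_rc_19_3 lc_f_rc_19_5 lc_f_rc_20_1 lc_f_Cert_tree lc_f_rc_14_3 lc_f_rc_17_3 lc_f_Cert_tree lc_f_rc_17_3 lc_f_rc_17_3 lc_f_rc_20_1 lc_f_rc_10_3 lc_f_rc_14_3 lc_f_Cert_tree lc_f_rc_10_3 lc_f_rc_21_1 lc_f_Cert_tree lc_f_Cert_tree lc_f_rc_21_1 lc_f_rc_5_1 lc_f_Cert_tree lc_f_rc_20_1 lc_f_rc_21_1 lc_f_rc_17_3 lc_f_rc_5_3 lc_f_Cert_tree) (@D3.rec (fun _ => (Cert rels S Gen.f)) lc_f_rc_20_1 lc_f_rc_19_3 lc_f_rc_21_1 lc_f_rc_17_3 lc_f_rc_14_3 lc_f_Cert_tree lc_f_rc_21_1 lc_f_rc_21_1 lc_f_Cert_tree lc_f_rc_21_1 lc_f_rc_14_3 lc_f_rc_14_3 lc_f_rc_17_3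 lc_f_Cert_tree lc_f_rc_17_3 lc_f_rc_21_1 lc_f_rc_20_1 lc_f_rc_14_3 lc_f_rc_19_3 lc_f_rc_10_3 lc_f_rc_17_3 lc_f_Cert_tree lc_f_rc_5_1 lc_f_rc_20_1 lc_f_rc_20_1 lc_f_rc_14_3 lc_f_rc_17_3 lc_f_rc_14_3 lc_f_rc_10_3 lc_f_rc_14_3 lc_f_Cert_tree lc_f_rc_17_3 lc_f_rc_21_1 lc_f_rc_21_1 lc_f_rc_14_3 lc_f_rc_5_3 lc_f_rc_10_3 lc_f_rc_17_3 lc_f_Cert_tree lc_f_rc_14_3 lc_f_rc_21_1 lc_f_rc_20_1 lc_f_rc_20_1 lc_f_rc_14_3 lc_f_rc_14_3 lc_f_rc_10_3 lc_f_rc_14_3 lc_f_rc_19_5 lc_f_rc_22_1 lc_f_rc_20_1 lc_f_rc_5_1 lc_f_rc_21_1 lc_f_rc_20_1 lc_f_rc_14_3 lc_f_Cert_tree lc_f_rc_14_3 lc_f_rc_5_1 lc_f_rc_10_3 lc_f_rc_21_1 lc_f_Cert_tree lc_f_rc_19_3 lc_f_rc_20_1) (@D3.rec (fun _ => (Cert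 rels S Gen.f)) lc_f_rc_20_1 lc_f_rc_10_3 lc_f_rc_20_1 lc_f_rc_14_3 lc_f_rc_5_1 lc_f_rc_20_1 lc_f_rc_5_3 lc_f_rc_10_3 lc_f_Cert_tree lc_f_Cert_tree lc_f_rc_5_3 lc_f_rc_21_1 lc_f_rc_20_1 lc_f_rc_21_1 lc_f_rc_21_1 lc_f_rc_19_3 lc_f_rc_17_3 lc_f_rc_14_3 lc_f_rc_10_3 lc_f_rc_14_3 lc_f_Cert_tree lc_f_rc_17_3 lc_f_rc_17_3 lc_f_rc_20_1 lc_f_rc_14_3 lc_f_rc_5_1 lc_f_rc_5_3 lc_f_rc_17_3 lc_f_Cert_tree lc_f_rc_21_1 lc_f_rc_14_3 lc_f_rc_20_1 lc_f_rc_14_3 lc_f_rc_14_3 lc_f_Cert_tree lc_f_rc_20_1 lc_f_rc_19_5 lc_f_rc_19_5 lc_f_rc_19_3 lc_f_rc_19_3 lc_f_rc_19_5 lc_f_rc_21_1 lc_f_rc_22_1 lc_f_Cert_tree lc_f_rc_14_3 lc_f_rc_10_3 lc_f_rc_20_1 lc_f_Cert_tree lc_f_rc_19_5 lc_f_rc_19_3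 lc_f_rc_20_1 lc_f_rc_21_1 lc_f_rc_20_1 lc_f_rc_5_3 lc_f_rc_17_3 lc_f_rc_17_3 lc_f_rc_21_1 lc_f_rc_14_3 lc_f_rc_21_1 lc_f_rc_20_1 lc_f_rc_14_3 lc_f_rc_17_3) (@D3.rec (fun _ => (Cert rels S Gen.f)) lc_f_rc_21_1 lc_f_rc_14_3 lc_f_rc_10_3 lc_f_rc_5_3 lc_f_rc_10_3 lc_f_rc_17_3 lc_f_Cert_tree lc_f_rc_17_3 lc_f_rc_17_3 lc_f_rc_14_1 lc_f_Cert_tree lc_f_rc_20_1 lc_f_rc_10_3 lc_f_rc_5_1 lc_f_rc_5_3 lc_f_rc_10_3 lc_f_rc_17_3 lc_f_Cert_tree lc_f_rc_14_1 lc_f_rc_19_5 lc_f_rc_20_1 lc_f_rc_5_3 lc_f_rc_20_1 lc_f_Cert_tree lc_f_Cert_tree lc_f_Cert_tree lc_f_Cert_tree lc_f_rc_20_1 lc_f_rc_20_1 lc_f_rc_20_1 lc_f_rc_20_1 lc_f_Cert_tree lc_f_rc_5_3 lc_f_rc_17_3 lc_f_rc_21_1 lc_f_rc_14_3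 lc_f_Cert_tree lc_f_rc_19_3 lc_f_Cert_tree lc_f_rc_10_3 lc_f_Cert_tree lc_f_rc_21_1 lc_f_rc_20_1 lc_f_rc_20_1 lc_f_rc_19_3 lc_f_rc_17_3 lc_f_rc_21_1 lc_f_rc_21_1 lc_f_rc_21_1 lc_f_rc_21_1 lc_f_rc_20_1 lc_f_rc_14_3 lc_f_Cert_tree lc_f_rc_14_3 lc_f_Cert_tree lc_f_rc_10_3 lc_f_rc_14_3 lc_f_rc_17_1 lc_f_rc_17_3 lc_f_rc_14_3 lc_f_rc_17_3 lc_f_rc_21_1) (@D3.rec (fun _ => (Cert rels S Gen.f)) lc_f_Cert_tree lc_f_rc_5_1 lc_f_rc_20_1 lc_f_rc_20_1 lc_f_rc_17_3 lc_f_rc_10_3 lc_f_rc_17_3 lc_f_rc_10_1 lc_f_rc_17_1 lc_f_rc_14_3 lc_f_rc_17_1 lc_f_rc_14_1 lc_f_rc_21_1 lc_f_rc_5_1 lc_f_rc_10_3 lc_f_rc_14_3 lc_f_Cert_tree lc_f_rc_17_3 lc_f_rc_21_1 lc_f_Cert_tree lc_f_rc_14_3 lc_f_rc_10_1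 lc_f_rc_17_3 lc_f_rc_21_1 lc_f_rc_14_3 lc_f_rc_17_3 lc_f_Cert_tree lc_f_rc_17_3 lc_f_rc_21_1 lc_f_rc_20_1 lc_f_rc_14_3 lc_f_Cert_tree lc_f_rc_10_3 lc_f_Cert_tree lc_f_rc_17_3 lc_f_rc_17_3 lc_f_rc_20_1 lc_f_rc_14_3 lc_f_rc_14_3 lc_f_rc_17_3 lc_f_rc_5_1 lc_f_rc_10_3 lc_f_rc_5_3 lc_f_Cert_tree lc_f_rc_19_5 lc_f_rc_20_1 lc_f_rc_17_3 lc_f_rc_14_3 lc_f_rc_21_1 lc_f_rc_21_1 lc_f_rc_19_5 lc_f_Cert_tree lc_f_rc_17_3 lc_f_Cert_tree lc_f_Cert_tree lc_f_rc_10_3 lc_f_Cert_tree lc_f_rc_5_3 lc_f_rc_5_1 lc_f_rc_5_1 lc_f_rc_14_3 lc_f_Cert_tree) (@D3.rec (fun _ => (Cert rels S Gen.f)) lc_f_rc_21_1 lc_f_rc_20_1 lc_f_rc_20_1 lc_f_rc_20_1 lc_f_rc_14_3 lc_f_rc_21_1 lc_f_rc_14_3 lc_f_Cert_tree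 lc_f_rc_14_3 lc_f_rc_5_1 lc_f_rc_14_3 lc_f_rc_17_3 lc_f_Cert_tree lc_f_rc_22_1 lc_f_rc_17_1 lc_f_rc_20_1 lc_f_rc_21_1 lc_f_rc_17_3 lc_f_rc_5_1 lc_f_rc_5_3 lc_f_Cert_tree lc_f_rc_20_1 lc_f_rc_17_3 lc_f_rc_14_3 lc_f_rc_21_1 lc_f_rc_19_3 lc_f_rc_20_1 lc_f_rc_5_3 lc_f_rc_10_3 lc_f_rc_14_3 lc_f_rc_10_3 lc_f_rc_14_1 lc_f_rc_5_1 lc_f_rc_21_1 lc_f_rc_14_1 lc_f_rc_19_1 lc_f_rc_21_1 lc_f_rc_14_3 lc_f_rc_20_1 lc_f_rc_17_3 lc_f_rc_17_3 lc_f_Cert_tree lc_f_rc_17_3 lc_f_rc_10_3 lc_f_rc_17_3 lc_f_rc_17_3 lc_f_rc_17_3 lc_f_Cert_tree lc_f_rc_17_3 lc_f_rc_14_3 lc_f_Cert_tree lc_f_rc_10_1 lc_f_Cert_tree lc_f_rc_17_3 lc_f_Cert_tree lc_f_rc_22_1 lc_f_rc_20_1 lc_f_rc_17_3 lc_f_rc_17_3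 lc_f_rc_17_3 lc_f_rc_20_1 lc_f_rc_20_1) (@D3.rec (fun _ => (Cert rels S Gen.f)) lc_f_Cert_tree lc_f_rc_20_1 lc_f_rc_17_3 lc_f_rc_17_1 lc_f_rc_21_1 lc_f_rc_14_3 lc_f_Cert_tree lc_f_rc_17_1 lc_f_rc_10_3 lc_f_Cert_tree lc_f_rc_20_1 lc_f_rc_20_1 lc_f_rc_5_3 lc_f_rc_5_3 lc_f_rc_5_3 lc_f_rc_5_3 lc_f_rc_17_3 lc_f_rc_5_3 lc_f_rc_21_1 lc_f_rc_17_3 lc_f_rc_17_3 lc_f_rc_5_1 lc_f_rc_14_3 lc_f_rc_5_3 lc_f_rc_10_3 lc_f_rc_10_3 lc_f_rc_20_1 lc_f_rc_21_1 lc_f_Cert_tree lc_f_rc_20_1 lc_f_rc_17_3 lc_f_rc_14_1 lc_f_rc_5_3 lc_f_Cert_tree lc_f_rc_14_1 lc_f_rc_20_1 lc_f_rc_20_1 lc_f_Cert_tree lc_f_rc_10_1 lc_f_rc_20_1 lc_f_Cert_tree lc_f_Cert_tree lc_f_rc_20_1 lc_f_rc_10_3 lc_f_rc_21_1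 lc_f_rc_17_3 lc_f_rc_17_3 lc_f_rc_14_3 lc_f_Cert_tree lc_f_rc_21_1 lc_f_rc_17_1 lc_f_Cert_tree lc_f_rc_20_1 lc_f_rc_20_1 lc_f_Cert_tree lc_f_rc_17_1 lc_f_rc_14_3 lc_f_Cert_tree lc_f_rc_21_1 lc_f_rc_20_1 lc_f_rc_10_1 lc_f_Cert_tree) (@D3.rec (fun _ => (Cert rels S Gen.f)) lc_f_Cert_tree lc_f_rc_20_1 lc_f_rc_21_1 lc_f_rc_20_1 lc_f_rc_20_1 lc_f_rc_19_1 lc_f_rc_14_3 lc_f_Cert_tree lc_f_rc_17_3 lc_f_rc_21_1 lc_f_rc_20_1 lc_f_rc_5_3 lc_f_rc_14_3 lc_f_Cert_tree lc_f_rc_21_1 lc_f_rc_20_1 lc_f_rc_20_1 lc_f_rc_5_1 lc_f_rc_10_3 lc_f_rc_17_3 lc_f_rc_10_3 lc_f_rc_20_1 lc_f_Cert_tree lc_f_rc_14_3 lc_f_rc_21_1 lc_f_rc_19_1 lc_f_rc_21_1 lc_f_rc_20_1 lc_f_rc_5_1 lc_f_rc_10_3 lc_f_rc_14_3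 lc_f_Cert_tree lc_f_rc_14_3 lc_f_Cert_tree lc_f_rc_21_1 lc_f_rc_14_3 lc_f_rc_14_3 lc_f_rc_10_3 lc_f_rc_20_1 lc_f_Cert_tree lc_f_rc_10_3 lc_f_rc_21_1 lc_f_rc_20_1 lc_f_rc_17_3 lc_f_rc_5_1 lc_f_rc_14_3 lc_f_Cert_tree lc_f_rc_17_3 lc_f_rc_17_3 lc_f_rc_14_3 lc_f_Cert_tree lc_f_rc_17_3 lc_f_rc_10_1 lc_f_Cert_tree lc_f_rc_20_1 lc_f_rc_14_3 lc_f_rc_21_1 lc_f_Cert_tree lc_f_rc_14_3 lc_f_rc_17_3 lc_f_Cert_tree lc_f_rc_10_3) (@D3.rec (fun _ => (Cert rels S Gen.f)) lc_f_rc_19_5 lc_f_rc_20_1 lc_f_Cert_tree lc_f_rc_10_3 lc_f_rc_21_1 lc_f_Cert_tree lc_f_rc_17_3 lc_f_rc_21_1 lc_f_rc_20_1 lc_f_rc_10_3 lc_f_rc_14_3 lc_f_Cert_tree lc_f_rc_14_3 lc_f_rc_17_3 lc_f_Cert_tree lc_f_Cert_tree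 lc_f_rc_21_1 lc_f_rc_5_1 lc_f_rc_17_1 lc_f_rc_20_1 lc_f_rc_14_3 lc_f_rc_20_1 lc_f_Cert_tree lc_f_rc_19_3 lc_f_rc_17_3 lc_f_rc_21_1 lc_f_rc_10_3 lc_f_rc_5_3 lc_f_rc_5_3 lc_f_rc_14_3 lc_f_Cert_tree lc_f_rc_10_3 lc_f_rc_14_3 lc_f_rc_14_3 lc_f_Cert_tree lc_f_rc_14_3 lc_f_rc_10_3 lc_f_rc_10_3 lc_f_rc_14_3 lc_f_rc_5_1 lc_f_rc_10_3 lc_f_rc_17_3 lc_f_Cert_tree lc_f_rc_17_3 lc_f_rc_21_1 lc_f_rc_20_1 lc_f_rc_14_3 lc_f_rc_19_3 lc_f_rc_10_3 lc_f_Cert_tree lc_f_rc_17_3 lc_f_rc_5_1 lc_f_rc_20_1 lc_f_rc_14_3 lc_f_rc_5_1 lc_f_rc_10_3 lc_f_rc_5_3 lc_f_rc_10_3 lc_f_Cert_tree lc_f_Cert_tree lc_f_rc_20_1 lc_f_rc_5_1) (@D3.rec (fun _ => (Cert rels S Gen.f)) lc_f_rc_14_3 lc_f_rc_21_1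 lc_f_rc_19_5 lc_f_rc_17_3 lc_f_rc_14_3 lc_f_rc_14_3 lc_f_Cert_tree lc_f_rc_14_3 lc_f_rc_21_1 lc_f_rc_14_3 lc_f_rc_17_3 lc_f_Cert_tree lc_f_rc_21_1 lc_f_rc_19_3 lc_f_rc_20_1 lc_f_rc_14_3 lc_f_rc_14_3 lc_f_rc_21_1 lc_f_rc_5_3 lc_f_rc_10_3 lc_f_Cert_tree lc_f_Cert_tree lc_f_rc_20_1 lc_f_rc_21_1 lc_f_rc_21_1 lc_f_rc_20_1 lc_f_rc_14_3 lc_f_rc_10_3 lc_f_rc_14_3 lc_f_Cert_tree lc_f_rc_14_3 lc_f_rc_10_3 lc_f_rc_22_1 lc_f_Cert_tree lc_f_rc_19_3 lc_f_rc_19_5 lc_f_rc_20_1 lc_f_rc_20_1 lc_f_rc_21_1 lc_f_rc_5_3 lc_f_rc_17_3 lc_f_Cert_tree lc_f_Cert_tree lc_f_rc_14_3 lc_f_rc_14_3 lc_f_Cert_tree lc_f_rc_20_1 lc_f_rc_19_3 lc_f_rc_19_3 lc_f_rc_19_3 lc_f_rc_19_5 lc_f_rc_21_1 lc_f_rc_14_3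 lc_f_rc_10_3 lc_f_rc_14_3 lc_f_Cert_tree lc_f_rc_17_3 lc_f_rc_17_3 lc_f_rc_20_1 lc_f_rc_14_3 lc_f_rc_14_3 lc_f_rc_10_1) (@D3.rec (fun _ => (Cert rels S Gen.f)) lc_f_rc_10_3 lc_f_Cert_tree lc_f_rc_5_3 lc_f_rc_14_3 lc_f_rc_14_3 lc_f_rc_20_1 lc_f_rc_14_3 lc_f_rc_17_3 lc_f_rc_17_3 lc_f_rc_21_1 lc_f_rc_20_1 lc_f_rc_5_1 lc_f_rc_5_3 lc_f_rc_14_3 lc_f_rc_17_3 lc_f_Cert_tree lc_f_rc_14_1 lc_f_Cert_tree lc_f_rc_20_1 lc_f_rc_17_3 lc_f_rc_10_3 lc_f_rc_5_3 lc_f_rc_10_3 lc_f_rc_17_3 lc_f_Cert_tree lc_f_rc_10_3 lc_f_rc_19_5 lc_f_rc_20_1 lc_f_rc_5_3 lc_f_rc_20_1 lc_f_Cert_tree lc_f_Cert_tree lc_f_Cert_tree lc_f_Cert_tree lc_f_rc_20_1 lc_f_rc_20_1 lc_f_rc_20_1 lc_f_rc_20_1 lc_f_Cert_tree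 lc_f_rc_22_1 lc_f_rc_5_1 lc_f_rc_20_1 lc_f_rc_10_3 lc_f_Cert_tree lc_f_rc_19_3 lc_f_rc_10_3 lc_f_Cert_tree lc_f_rc_14_3 lc_f_Cert_tree lc_f_rc_21_1 lc_f_rc_20_1 lc_f_rc_20_1 lc_f_rc_19_5 lc_f_rc_17_3 lc_f_rc_17_3 lc_f_rc_21_1 lc_f_rc_21_1 lc_f_rc_17_3 lc_f_rc_21_1 lc_f_rc_21_1 lc_f_Cert_tree lc_f_rc_14_3) (@D3.rec (fun _ => (Cert rels S Gen.f)) lc_f_rc_10_3 lc_f_rc_14_3 lc_f_rc_5_1 lc_f_rc_14_3 lc_f_rc_17_3 lc_f_Cert_tree lc_f_rc_17_3 lc_f_rc_21_1 lc_f_rc_20_1 lc_f_rc_14_3 lc_f_Cert_tree lc_f_rc_17_3 lc_f_rc_17_3 lc_f_rc_20_1 lc_f_rc_10_3 lc_f_rc_14_3 lc_f_rc_17_3 lc_f_rc_5_1 lc_f_rc_5_3 lc_f_Cert_tree lc_f_rc_17_1 lc_f_rc_20_1 lc_f_rc_10_3 lc_f_rc_21_1 lc_f_rc_19_5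 lc_f_rc_21_1 lc_f_rc_10_3 lc_f_rc_10_1 lc_f_rc_14_1 lc_f_rc_10_3 lc_f_Cert_tree lc_f_rc_21_1 lc_f_rc_17_3 lc_f_rc_20_1 lc_f_rc_19_3 lc_f_rc_21_1 lc_f_rc_14_3 lc_f_Cert_tree lc_f_rc_17_3 lc_f_rc_14_3 lc_f_rc_10_3 lc_f_rc_21_1 lc_f_Cert_tree lc_f_rc_14_3 lc_f_rc_10_3 lc_f_rc_14_3 lc_f_Cert_tree lc_f_rc_21_1 lc_f_rc_17_1 lc_f_Cert_tree lc_f_rc_20_1 lc_f_rc_14_3 lc_f_rc_17_3 lc_f_rc_10_3 lc_f_rc_17_3 lc_f_rc_22_1 lc_f_rc_10_3 lc_f_rc_14_3 lc_f_rc_21_1 lc_f_rc_14_3 lc_f_rc_17_3 lc_f_rc_21_1) (@D3.rec (fun _ => (Cert rels S Gen.f)) lc_f_rc_21_1 lc_f_Cert_tree lc_f_rc_17_3 lc_f_rc_5_1 lc_f_rc_5_1 lc_f_rc_14_3 lc_f_Cert_tree lc_f_rc_21_1 lc_f_rc_17_3 lc_f_rc_10_3 lc_f_rc_17_3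 lc_f_rc_14_1 lc_f_rc_21_1 lc_f_rc_17_1 lc_f_rc_20_1 lc_f_rc_14_3 lc_f_rc_5_1 lc_f_rc_20_1 lc_f_rc_5_3 lc_f_Cert_tree lc_f_rc_21_1 lc_f_rc_20_1 lc_f_rc_17_3 lc_f_rc_21_1 lc_f_rc_20_1 lc_f_rc_19_3 lc_f_rc_10_3 lc_f_rc_21_1 lc_f_rc_14_3 lc_f_Cert_tree lc_f_rc_21_1 lc_f_rc_20_1 lc_f_rc_20_1 lc_f_Cert_tree lc_f_Cert_tree lc_f_rc_22_1 lc_f_rc_20_1 lc_f_rc_10_1 lc_f_rc_14_3 lc_f_rc_20_1 lc_f_rc_17_3 lc_f_rc_10_1 lc_f_rc_17_3 lc_f_Cert_tree lc_f_rc_17_3 lc_f_rc_17_3 lc_f_rc_14_3 lc_f_Cert_tree lc_f_rc_10_1 lc_f_Cert_tree lc_f_Cert_tree lc_f_rc_20_1 lc_f_rc_20_1 lc_f_rc_20_1 lc_f_rc_20_1 lc_f_rc_5_3 lc_f_rc_5_3 lc_f_rc_5_3 lc_f_rc_5_3 lc_f_rc_17_3 lc_f_rc_5_3 lc_f_rc_17_3)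 (@D3.rec (fun _ => (Cert rels S Gen.f)) lc_f_rc_10_1 lc_f_rc_17_3 lc_f_rc_5_1 lc_f_rc_14_3 lc_f_Cert_tree lc_f_rc_14_3 lc_f_rc_17_3 lc_f_rc_17_3 lc_f_rc_21_1 lc_f_rc_20_1 lc_f_rc_20_1 lc_f_rc_21_1 lc_f_rc_5_1 lc_f_rc_14_3 lc_f_rc_21_1 lc_f_rc_17_3 lc_f_rc_14_3 lc_f_rc_5_3 lc_f_rc_20_1 lc_f_rc_21_1 lc_f_rc_14_3 lc_f_rc_20_1 lc_f_rc_5_1 lc_f_rc_19_5 lc_f_rc_10_1 lc_f_rc_20_1 lc_f_Cert_tree lc_f_rc_14_3 lc_f_rc_21_1 lc_f_rc_20_1 lc_f_rc_20_1 lc_f_rc_17_3 lc_f_rc_14_3 lc_f_Cert_tree lc_f_rc_17_3 lc_f_rc_21_1 lc_f_rc_20_1 lc_f_rc_5_1 lc_f_rc_14_3 lc_f_Cert_tree lc_f_rc_21_1 lc_f_rc_17_3 lc_f_rc_20_1 lc_f_rc_21_1 lc_f_rc_20_1 lc_f_rc_17_3 lc_f_Cert_tree lc_f_rc_20_1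 lc_f_Cert_tree lc_f_rc_10_3 lc_f_rc_19_1 lc_f_rc_19_1 lc_f_rc_21_1 lc_f_rc_20_1 lc_f_rc_20_1 lc_f_rc_20_1 lc_f_rc_20_1 lc_f_rc_20_1 lc_f_rc_21_1 lc_f_rc_14_3 lc_f_rc_10_3 lc_f_rc_17_3) (@D3.rec (fun _ => (Cert rels S Gen.f)) lc_f_rc_17_3 lc_f_rc_14_3 lc_f_rc_14_3 lc_f_rc_20_1 lc_f_rc_14_3 lc_f_Cert_tree lc_f_rc_14_1 lc_f_Cert_tree lc_f_rc_17_1 lc_f_rc_20_1 lc_f_rc_19_3 lc_f_rc_17_3 lc_f_rc_21_1 lc_f_Cert_tree lc_f_rc_21_1 lc_f_rc_21_1 lc_f_rc_21_1 lc_f_rc_17_3 lc_f_rc_17_3 lc_f_Cert_tree lc_f_rc_14_3 lc_f_rc_21_1 lc_f_Cert_tree lc_f_rc_14_3 lc_f_rc_14_1 lc_f_rc_14_3 lc_f_rc_21_1 lc_f_Cert_tree lc_f_rc_17_3 lc_f_rc_20_1 lc_f_rc_17_3 lc_f_rc_14_3 lc_f_Cert_tree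 lc_f_rc_17_3 lc_f_rc_14_3 lc_f_Cert_tree lc_f_rc_17_3 lc_f_rc_10_3 lc_f_rc_17_3 lc_f_Cert_tree lc_f_rc_17_1 lc_f_Cert_tree lc_f_rc_20_1 lc_f_rc_14_3 lc_f_rc_17_3 lc_f_rc_14_3 lc_f_rc_10_3 lc_f_rc_17_3 lc_f_Cert_tree lc_f_rc_19_3 lc_f_rc_19_5 lc_f_rc_20_1 lc_f_rc_21_1 lc_f_Cert_tree lc_f_rc_14_3 lc_f_rc_14_3 lc_f_Cert_tree lc_f_rc_17_3 lc_f_rc_17_3 lc_f_rc_20_1 lc_f_rc_10_3 lc_f_rc_17_3) (@D3.rec (fun _ => (Cert rels S Gen.f)) lc_f_Cert_tree lc_f_rc_10_3 lc_f_rc_17_3 lc_f_Cert_tree lc_f_Cert_tree lc_f_rc_14_3 lc_f_rc_5_1 lc_f_Cert_tree lc_f_rc_20_1 lc_f_rc_14_3 lc_f_rc_17_3 lc_f_rc_14_1 lc_f_Cert_tree lc_f_rc_20_1 lc_f_rc_19_3 lc_f_rc_19_5 lc_f_rc_20_1 lc_f_rc_14_3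 lc_f_rc_17_3 lc_f_Cert_tree lc_f_rc_10_3 lc_f_rc_21_1 lc_f_rc_20_1 lc_f_rc_19_5 lc_f_rc_19_3 lc_f_rc_21_1 lc_f_rc_21_1 lc_f_rc_17_3 lc_f_Cert_tree lc_f_rc_10_3 lc_f_rc_5_1 lc_f_rc_20_1 lc_f_rc_17_3 lc_f_rc_21_1 lc_f_rc_5_3 lc_f_rc_20_1 lc_f_rc_5_3 lc_f_Cert_tree lc_f_Cert_tree lc_f_Cert_tree lc_f_rc_20_1 lc_f_rc_22_1 lc_f_rc_20_1 lc_f_rc_10_3 lc_f_Cert_tree lc_f_rc_17_1 lc_f_rc_21_1 lc_f_rc_10_1 lc_f_rc_10_3 lc_f_rc_19_3 lc_f_rc_19_3 lc_f_rc_21_1 lc_f_rc_14_3 lc_f_rc_19_3 lc_f_rc_17_3 lc_f_rc_14_3 lc_f_rc_14_3 lc_f_rc_17_3 lc_f_rc_10_3 lc_f_rc_22_1 lc_f_rc_17_3 lc_f_rc_5_1) (@D3.rec (fun _ => (Cert rels S Gen.f)) lc_f_rc_20_1 lc_f_rc_14_3 lc_f_rc_14_3 lc_f_rc_20_1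 lc_f_rc_14_3 lc_f_Cert_tree lc_f_rc_14_3 lc_f_Cert_tree lc_f_Cert_tree lc_f_rc_20_1 lc_f_rc_19_3 lc_f_rc_14_3 lc_f_rc_5_1 lc_f_rc_17_3 lc_f_rc_10_3 lc_f_rc_21_1 lc_f_Cert_tree lc_f_rc_17_3 lc_f_rc_21_1 lc_f_rc_14_3 lc_f_Cert_tree lc_f_rc_17_3 lc_f_Cert_tree lc_f_rc_17_3 lc_f_Cert_tree lc_f_Cert_tree lc_f_rc_14_3 lc_f_rc_20_1 lc_f_rc_20_1 lc_f_rc_5_1 lc_f_Cert_tree lc_f_rc_17_3 lc_f_rc_14_3 lc_f_rc_10_3 lc_f_rc_17_3 lc_f_Cert_tree lc_f_rc_17_3 lc_f_rc_20_1 lc_f_rc_10_3 lc_f_rc_21_1 lc_f_Cert_tree lc_f_rc_17_3 lc_f_rc_10_3 lc_f_rc_14_3 lc_f_Cert_tree lc_f_rc_17_3 lc_f_Cert_tree lc_f_rc_20_1 lc_f_rc_21_1 lc_f_rc_5_3 lc_f_rc_10_3 lc_f_rc_14_3 lc_f_rc_17_3 lc_f_rc_19_3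 lc_f_rc_19_5 lc_f_rc_20_1 lc_f_Cert_tree lc_f_rc_10_3 lc_f_rc_5_1 lc_f_Cert_tree lc_f_rc_17_3 lc_f_rc_21_1) (@D3.rec (fun _ => (Cert rels S Gen.f)) lc_f_rc_20_1 lc_f_rc_10_3 lc_f_rc_17_3 lc_f_rc_17_3 lc_f_rc_10_3 lc_f_rc_14_3 lc_f_rc_19_3 lc_f_Cert_tree lc_f_rc_5_1 lc_f_rc_5_1 lc_f_Cert_tree lc_f_rc_20_1 lc_f_rc_14_3 lc_f_rc_21_1 lc_f_rc_14_1 lc_f_Cert_tree lc_f_rc_20_1 lc_f_rc_19_3 lc_f_rc_5_1 lc_f_rc_10_3 lc_f_rc_14_3 lc_f_rc_17_3 lc_f_Cert_tree lc_f_rc_21_1 lc_f_rc_17_3 lc_f_rc_20_1 lc_f_rc_19_3 lc_f_rc_19_3 lc_f_rc_21_1 lc_f_rc_14_1 lc_f_rc_21_1 lc_f_rc_17_3 lc_f_Cert_tree lc_f_rc_17_3 lc_f_rc_21_1 lc_f_rc_20_1 lc_f_rc_17_3 lc_f_rc_17_3 lc_f_rc_5_3 lc_f_rc_20_1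 lc_f_rc_14_3 lc_f_Cert_tree lc_f_Cert_tree lc_f_Cert_tree lc_f_rc_20_1 lc_f_rc_20_1 lc_f_rc_20_1 lc_f_rc_20_1 lc_f_Cert_tree lc_f_rc_17_1 lc_f_rc_5_1 lc_f_rc_17_3 lc_f_rc_10_3 lc_f_Cert_tree lc_f_rc_19_3 lc_f_rc_20_1 lc_f_rc_14_3 lc_f_rc_20_1 lc_f_rc_21_1 lc_f_rc_17_3 lc_f_rc_21_1 lc_f_rc_14_3) (@D3.rec (fun _ => (Cert rels S Gen.f)) lc_f_Cert_tree lc_f_rc_14_3 lc_f_Cert_tree lc_f_rc_10_3 lc_f_Cert_tree lc_f_Cert_tree lc_f_rc_21_1 lc_f_rc_19_3 lc_f_rc_14_3 lc_f_Cert_tree lc_f_rc_14_3 lc_f_Cert_tree lc_f_rc_14_1 lc_f_rc_22_1 lc_f_rc_19_3 lc_f_rc_10_3 lc_f_rc_17_3 lc_f_Cert_tree lc_f_rc_17_3 lc_f_rc_21_1 lc_f_rc_20_1 lc_f_rc_10_3 lc_f_rc_17_3 lc_f_Cert_tree lc_f_rc_21_1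 lc_f_rc_10_3 lc_f_Cert_tree lc_f_rc_20_1 lc_f_rc_10_3 lc_f_rc_17_3 lc_f_Cert_tree lc_f_rc_14_3 lc_f_rc_17_3 lc_f_Cert_tree lc_f_rc_17_3 lc_f_rc_17_3 lc_f_rc_5_3 lc_f_rc_17_1 lc_f_rc_17_1 lc_f_rc_10_3 lc_f_Cert_tree lc_f_rc_19_3 lc_f_rc_19_5 lc_f_Cert_tree lc_f_Cert_tree lc_f_rc_10_3 lc_f_rc_5_1 lc_f_rc_19_3 lc_f_rc_10_3 lc_f_rc_14_3 lc_f_Cert_tree lc_f_rc_19_5 lc_f_Cert_tree lc_f_rc_20_1 lc_f_Cert_tree lc_f_rc_20_1 lc_f_rc_14_3 lc_f_rc_17_3 lc_f_Cert_tree lc_f_rc_5_1 lc_f_rc_17_3 lc_f_rc_20_1) (@D3.rec (fun _ => (Cert rels S Gen.f)) lc_f_rc_14_3 lc_f_rc_17_3 lc_f_Cert_tree lc_f_rc_10_3 lc_f_rc_17_3 lc_f_Cert_tree lc_f_Cert_tree lc_f_rc_21_1 lc_f_rc_5_1 lc_f_rc_5_3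 lc_f_rc_20_1 lc_f_rc_20_1 lc_f_Cert_tree lc_f_rc_5_1 lc_f_rc_19_3 lc_f_rc_5_1 lc_f_rc_20_1 lc_f_rc_14_3 lc_f_Cert_tree lc_f_rc_14_3 lc_f_rc_14_3 lc_f_Cert_tree lc_f_Cert_tree lc_f_rc_20_1 lc_f_rc_19_3 lc_f_rc_5_3 lc_f_Cert_tree lc_f_rc_21_1 lc_f_rc_14_3 lc_f_rc_14_3 lc_f_rc_5_3 lc_f_rc_17_3 lc_f_Cert_tree lc_f_rc_17_3 lc_f_rc_20_1 lc_f_rc_21_1 lc_f_Cert_tree lc_f_rc_10_3 lc_f_rc_21_1 lc_f_Cert_tree lc_f_rc_17_1 lc_f_rc_20_1 lc_f_Cert_tree lc_f_rc_20_1 lc_f_rc_10_3 lc_f_rc_17_3 lc_f_Cert_tree lc_f_rc_20_1 lc_f_rc_20_1 lc_f_Cert_tree lc_f_rc_10_3 lc_f_rc_21_1 lc_f_Cert_tree lc_f_rc_21_1 lc_f_rc_20_1 lc_f_rc_17_3 lc_f_rc_14_3 lc_f_rc_19_1 lc_f_rc_10_3 lc_f_rc_17_3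 lc_f_rc_17_3 lc_f_rc_17_3) (@D3.rec (fun _ => (Cert rels S Gen.f)) lc_f_Cert_tree lc_f_rc_21_1 lc_f_rc_5_1 lc_f_rc_17_1 lc_f_rc_20_1 lc_f_rc_17_3 lc_f_rc_21_1 lc_f_Cert_tree lc_f_rc_19_3 lc_f_rc_17_3 lc_f_rc_21_1 lc_f_rc_14_3 lc_f_rc_21_1 lc_f_rc_17_1 lc_f_rc_14_3 lc_f_rc_20_1 lc_f_rc_14_1 lc_f_rc_20_1 lc_f_rc_14_3 lc_f_rc_21_1 lc_f_Cert_tree lc_f_rc_14_3 lc_f_Cert_tree lc_f_rc_14_1 lc_f_rc_14_1 lc_f_rc_19_3 lc_f_rc_5_1 lc_f_Cert_tree lc_f_rc_14_3 lc_f_rc_19_5 lc_f_rc_14_3 lc_f_rc_21_1 lc_f_rc_14_3 lc_f_rc_10_3 lc_f_rc_14_3 lc_f_rc_21_1 lc_f_rc_10_3 lc_f_rc_17_3 lc_f_rc_20_1 lc_f_rc_14_1 lc_f_rc_17_3 lc_f_rc_20_1 lc_f_rc_5_1 lc_f_rc_20_1 lc_f_rc_14_3 lc_f_Cert_tree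 lc_f_rc_14_3 lc_f_rc_20_1 lc_f_rc_10_3 lc_f_rc_17_3 lc_f_Cert_tree lc_f_rc_10_3 lc_f_rc_21_1 lc_f_rc_20_1 lc_f_rc_10_3 lc_f_rc_17_3 lc_f_Cert_tree lc_f_rc_21_1 lc_f_rc_10_3 lc_f_rc_20_1 lc_f_rc_10_3 lc_f_rc_17_3) (@D3.rec (fun _ => (Cert rels S Gen.f)) lc_f_Cert_tree lc_f_rc_10_3 lc_f_rc_14_3 lc_f_Cert_tree lc_f_Cert_tree lc_f_rc_21_1 lc_f_rc_5_1 lc_f_Cert_tree lc_f_rc_20_1 lc_f_rc_14_3 lc_f_rc_21_1 lc_f_rc_14_1 lc_f_Cert_tree lc_f_rc_20_1 lc_f_rc_19_3 lc_f_rc_10_3 lc_f_Cert_tree lc_f_rc_5_1 lc_f_rc_14_3 lc_f_rc_10_3 lc_f_rc_17_3 lc_f_Cert_tree lc_f_rc_21_1 lc_f_rc_20_1 lc_f_Cert_tree lc_f_rc_20_1 lc_f_rc_14_3 lc_f_rc_19_3 lc_f_rc_14_3 lc_f_Cert_tree lc_f_rc_17_3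 lc_f_rc_20_1 lc_f_rc_14_3 lc_f_Cert_tree lc_f_rc_14_3 lc_f_Cert_tree lc_f_rc_10_3 lc_f_Cert_tree lc_f_rc_21_1 lc_f_rc_20_1 lc_f_Cert_tree lc_f_rc_20_1 lc_f_rc_10_3 lc_f_rc_17_3 lc_f_rc_14_3 lc_f_rc_14_3 lc_f_rc_17_3 lc_f_Cert_tree lc_f_rc_21_1 lc_f_rc_19_3 lc_f_rc_20_1 lc_f_rc_14_3 lc_f_rc_17_3 lc_f_rc_5_3 lc_f_rc_14_3 lc_f_rc_17_3 lc_f_Cert_tree lc_f_rc_14_1 lc_f_rc_17_3 lc_f_rc_17_3 lc_f_rc_14_1 lc_f_rc_17_3) (@D3.rec (fun _ => (Cert rels S Gen.f)) lc_f_rc_17_3 lc_f_rc_5_3 lc_f_rc_10_3 lc_f_Cert_tree lc_f_rc_5_3 lc_f_rc_17_3 lc_f_Cert_tree lc_f_rc_14_3 lc_f_rc_21_1 lc_f_Cert_tree lc_f_rc_20_1 lc_f_rc_21_1 lc_f_rc_21_1 lc_f_rc_14_3 lc_f_rc_21_1 lc_f_rc_21_1 lc_f_rc_20_1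 lc_f_Cert_tree lc_f_rc_20_1 lc_f_rc_14_3 lc_f_rc_21_1 lc_f_rc_10_1 lc_f_rc_10_3 lc_f_rc_19_5 lc_f_rc_20_1 lc_f_rc_14_3 lc_f_rc_19_3 lc_f_rc_14_3 lc_f_rc_21_1 lc_f_Cert_tree lc_f_rc_22_1 lc_f_Cert_tree lc_f_rc_20_1 lc_f_rc_10_3 lc_f_Cert_tree lc_f_rc_5_1 lc_f_rc_17_1 lc_f_Cert_tree lc_f_rc_20_1 lc_f_rc_14_3 lc_f_rc_17_3 lc_f_rc_5_1 lc_f_rc_21_1 lc_f_rc_17_3 lc_f_Cert_tree lc_f_Cert_tree lc_f_rc_14_3 lc_f_rc_5_1 lc_f_Cert_tree lc_f_rc_20_1 lc_f_rc_14_3 lc_f_rc_10_3 lc_f_rc_14_3 lc_f_rc_17_3 lc_f_rc_17_3 lc_f_Cert_tree lc_f_rc_20_1 lc_f_rc_20_1 lc_f_rc_21_1 lc_f_rc_10_3 lc_f_rc_17_3 lc_f_Cert_tree) (@D3.rec (fun _ => (Cert rels S Gen.f)) lc_f_rc_10_3 lc_f_rc_17_3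 lc_f_Cert_tree lc_f_rc_17_3 lc_f_rc_17_3 lc_f_rc_10_3 lc_f_rc_20_1 lc_f_rc_14_3 lc_f_rc_14_1 lc_f_rc_20_1 lc_f_rc_17_3 lc_f_rc_5_1 lc_f_rc_5_3 lc_f_rc_10_3 lc_f_Cert_tree lc_f_rc_17_3 lc_f_rc_17_3 lc_f_Cert_tree lc_f_rc_20_1 lc_f_rc_17_3 lc_f_Cert_tree lc_f_rc_20_1 lc_f_rc_17_3 lc_f_rc_20_1 lc_f_rc_10_3 lc_f_rc_21_1 lc_f_rc_21_1 lc_f_rc_19_5 lc_f_rc_17_3 lc_f_Cert_tree lc_f_rc_10_3 lc_f_rc_21_1 lc_f_Cert_tree lc_f_rc_17_3 lc_f_rc_5_1 lc_f_rc_20_1 lc_f_rc_5_1 lc_f_rc_10_3 lc_f_rc_5_3 lc_f_rc_17_3 lc_f_Cert_tree lc_f_rc_14_3 lc_f_rc_21_1 lc_f_rc_20_1 lc_f_rc_14_3 lc_f_rc_19_3 lc_f_rc_14_3 lc_f_rc_20_1 lc_f_rc_21_1 lc_f_Cert_tree lc_f_rc_20_1 lc_f_rc_17_3 lc_f_rc_14_3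 lc_f_rc_20_1 lc_f_rc_10_3 lc_f_rc_17_3 lc_f_rc_19_3 lc_f_rc_17_3 lc_f_Cert_tree lc_f_rc_17_3 lc_f_rc_17_3 lc_f_Cert_tree) (@D3.rec (fun _ => (Cert rels S Gen.f)) lc_f_rc_20_1 lc_f_rc_5_1 lc_f_rc_10_3 lc_f_rc_17_3 lc_f_rc_10_3 lc_f_rc_10_3 lc_f_Cert_tree lc_f_Cert_tree lc_f_Cert_tree lc_f_rc_17_1 lc_f_rc_20_1 lc_f_rc_5_3 lc_f_rc_20_1 lc_f_Cert_tree lc_f_Cert_tree lc_f_Cert_tree lc_f_Cert_tree lc_f_rc_20_1 lc_f_rc_20_1 lc_f_rc_5_1 lc_f_rc_20_1 lc_f_Cert_tree lc_f_rc_17_3 lc_f_rc_17_1 lc_f_rc_5_1 lc_f_Cert_tree lc_f_Cert_tree lc_f_rc_20_1 lc_f_rc_19_3 lc_f_rc_10_3 lc_f_Cert_tree lc_f_rc_17_3 lc_f_Cert_tree lc_f_rc_17_3 lc_f_rc_14_1 lc_f_rc_21_1 lc_f_rc_19_1 lc_f_rc_20_1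 lc_f_rc_19_1 lc_f_rc_21_1 lc_f_rc_14_3 lc_f_rc_17_3 lc_f_rc_10_3 lc_f_rc_14_3 lc_f_rc_20_1 lc_f_rc_20_1 lc_f_rc_17_3 lc_f_rc_21_1 lc_f_rc_21_1 lc_f_rc_19_3 lc_f_rc_14_3 lc_f_rc_17_1 lc_f_rc_5_1 lc_f_rc_21_1 lc_f_rc_14_3 lc_f_rc_10_3 lc_f_rc_17_3 lc_f_Cert_tree lc_f_rc_17_3 lc_f_rc_20_1 lc_f_rc_20_1 lc_f_rc_10_3) (@D3.rec (fun _ => (Cert rels S Gen.f)) lc_f_rc_14_3 lc_f_rc_5_1 lc_f_rc_5_3 lc_f_rc_14_3 lc_f_rc_17_3 lc_f_rc_10_3 lc_f_rc_5_1 lc_f_rc_14_1 lc_f_rc_14_3 lc_f_rc_10_3 lc_f_rc_17_3 lc_f_Cert_tree lc_f_rc_21_1 lc_f_rc_20_1 lc_f_rc_17_3 lc_f_rc_17_1 lc_f_rc_5_3 lc_f_rc_10_3 lc_f_rc_17_3 lc_f_rc_5_1 lc_f_rc_19_5 lc_f_rc_20_1 lc_f_rc_20_1 lc_f_rc_5_3 lc_f_rc_10_3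 lc_f_rc_14_3 lc_f_Cert_tree lc_f_rc_19_5 lc_f_rc_20_1 lc_f_rc_20_1 lc_f_rc_20_1 lc_f_rc_21_1 lc_f_rc_14_3 lc_f_rc_17_3 lc_f_rc_19_3 lc_f_rc_20_1 lc_f_rc_14_3 lc_f_rc_21_1 lc_f_rc_20_1 lc_f_rc_17_3 lc_f_rc_10_3 lc_f_rc_19_1 lc_f_rc_19_5 lc_f_rc_10_3 lc_f_rc_5_1 lc_f_Cert_tree lc_f_rc_17_3 lc_f_rc_17_3 lc_f_rc_20_1 lc_f_rc_20_1 lc_f_rc_21_1 lc_f_rc_14_3 lc_f_rc_10_3 lc_f_rc_21_1 lc_f_rc_21_1 lc_f_rc_17_3 lc_f_rc_10_3 lc_f_rc_19_3 lc_f_rc_10_3 lc_f_rc_5_3 lc_f_rc_20_1 lc_f_rc_21_1) (@D3.rec (fun _ => (Cert rels S Gen.f)) lc_f_rc_5_3 lc_f_rc_10_3 lc_f_rc_17_3 lc_f_rc_5_3 lc_f_rc_20_1 lc_f_Cert_tree lc_f_Cert_tree lc_f_rc_17_1 lc_f_Cert_tree lc_f_rc_20_1 lc_f_rc_17_3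 lc_f_rc_20_1 lc_f_rc_17_1 lc_f_rc_17_3 lc_f_rc_5_3 lc_f_rc_20_1 lc_f_rc_21_1 lc_f_rc_10_3 lc_f_Cert_tree lc_f_rc_19_3 lc_f_rc_10_3 lc_f_rc_21_1 lc_f_rc_20_1 lc_f_rc_20_1 lc_f_rc_17_3 lc_f_rc_19_5 lc_f_rc_10_3 lc_f_rc_17_3 lc_f_rc_19_5 lc_f_rc_21_1 lc_f_rc_10_3 lc_f_rc_17_1 lc_f_rc_20_1 lc_f_rc_10_3 lc_f_rc_5_1 lc_f_rc_20_1 lc_f_rc_14_3 lc_f_rc_10_3 lc_f_rc_17_3 lc_f_Cert_tree lc_f_rc_5_1 lc_f_rc_17_3 lc_f_rc_20_1 lc_f_rc_14_3 lc_f_Cert_tree lc_f_rc_10_3 lc_f_rc_14_3 lc_f_Cert_tree lc_f_rc_17_3 lc_f_rc_20_1 lc_f_rc_10_3 lc_f_rc_14_3 lc_f_Cert_tree lc_f_rc_10_3 lc_f_rc_17_3 lc_f_Cert_tree lc_f_rc_17_3 lc_f_rc_5_1 lc_f_rc_10_1 lc_f_rc_10_3 lc_f_rc_14_3 lc_f_Cert_tree)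 (@D3.rec (fun _ => (Cert rels S Gen.f)) lc_f_rc_14_3 lc_f_rc_21_1 lc_f_rc_22_1 lc_f_rc_20_1 lc_f_rc_5_1 lc_f_rc_5_1 lc_f_rc_5_1 lc_f_rc_21_1 lc_f_rc_14_3 lc_f_rc_20_1 lc_f_rc_10_3 lc_f_rc_10_3 lc_f_rc_21_1 lc_f_rc_17_3 lc_f_rc_14_3 lc_f_rc_17_3 lc_f_rc_10_3 lc_f_rc_14_3 lc_f_rc_20_1 lc_f_rc_21_1 lc_f_rc_10_3 lc_f_rc_17_3 lc_f_Cert_tree lc_f_rc_17_3 lc_f_rc_5_1 lc_f_rc_20_1 lc_f_rc_17_3 lc_f_rc_14_3 lc_f_rc_5_3 lc_f_rc_17_3 lc_f_Cert_tree lc_f_Cert_tree lc_f_rc_5_1 lc_f_rc_14_3 lc_f_Cert_tree lc_f_rc_20_1 lc_f_rc_10_3 lc_f_rc_5_1 lc_f_rc_14_3 lc_f_rc_17_3 lc_f_rc_5_1 lc_f_rc_10_3 lc_f_rc_10_3 lc_f_rc_20_1 lc_f_rc_21_1 lc_f_rc_21_1 lc_f_rc_20_1 lc_f_rc_14_3 lc_f_rc_21_1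 lc_f_rc_5_3 lc_f_rc_10_3 lc_f_rc_17_3 lc_f_Cert_tree lc_f_Cert_tree lc_f_Cert_tree lc_f_rc_20_1 lc_f_rc_21_1 lc_f_rc_10_3 lc_f_rc_10_3 lc_f_rc_14_3 lc_f_rc_10_3 lc_f_rc_10_3) (@D3.rec (fun _ => (Cert rels S Gen.f)) lc_f_rc_20_1 lc_f_rc_5_3 lc_f_rc_10_3 lc_f_rc_14_3 lc_f_rc_17_3 lc_f_Cert_tree lc_f_rc_20_1 lc_f_rc_20_1 lc_f_rc_10_3 lc_f_Cert_tree lc_f_rc_10_3 lc_f_rc_17_3 lc_f_rc_5_1 lc_f_rc_17_3 lc_f_rc_22_1 lc_f_rc_17_3 lc_f_rc_17_3 lc_f_rc_14_3 lc_f_rc_10_3 lc_f_rc_19_5 lc_f_rc_17_3 lc_f_rc_14_3 lc_f_Cert_tree lc_f_rc_10_3 lc_f_rc_20_1 lc_f_rc_10_3 lc_f_rc_17_3 lc_f_Cert_tree lc_f_rc_10_3 lc_f_rc_20_1 lc_f_rc_17_3 lc_f_rc_20_1 lc_f_rc_19_3 lc_f_rc_20_1 lc_f_Cert_tree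 lc_f_rc_10_3 lc_f_rc_14_3 lc_f_Cert_tree lc_f_rc_10_3 lc_f_Cert_tree lc_f_rc_10_3 lc_f_rc_17_3 lc_f_Cert_tree lc_f_rc_20_1 lc_f_rc_10_3 lc_f_rc_10_3 lc_f_rc_14_3 lc_f_rc_14_3 lc_f_rc_10_3 lc_f_rc_14_3 lc_f_Cert_tree lc_f_rc_21_1 lc_f_rc_20_1 lc_f_rc_10_3 lc_f_rc_10_3 lc_f_rc_17_3 lc_f_rc_14_1 lc_f_rc_10_3 lc_f_rc_5_1 lc_f_Cert_tree lc_f_rc_14_3 lc_f_rc_14_3) (@D3.rec (fun _ => (Cert rels S Gen.f)) lc_f_rc_10_1 lc_f_rc_10_3 lc_f_Cert_tree lc_f_rc_17_1 lc_f_rc_21_1 lc_f_Cert_tree lc_f_rc_21_1 lc_f_rc_20_1 lc_f_Cert_tree lc_f_rc_20_1 lc_f_rc_14_3 lc_f_rc_10_3 lc_f_rc_5_1 lc_f_rc_14_3 lc_f_rc_17_3 lc_f_rc_17_3 lc_f_Cert_tree lc_f_rc_20_1 lc_f_rc_14_3 lc_f_rc_10_3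 lc_f_rc_17_3 lc_f_rc_5_1 lc_f_rc_21_1 lc_f_rc_5_1 lc_f_rc_5_3 lc_f_rc_14_3 lc_f_rc_10_3 lc_f_rc_17_3 lc_f_Cert_tree lc_f_rc_17_3 lc_f_Cert_tree lc_f_rc_10_3 lc_f_rc_20_1 lc_f_rc_14_3 lc_f_rc_19_3 lc_f_rc_14_3 lc_f_rc_19_1 lc_f_Cert_tree lc_f_rc_20_1 lc_f_rc_19_1 lc_f_rc_10_1 lc_f_rc_21_1 lc_f_rc_14_3 lc_f_rc_10_3 lc_f_rc_17_3 lc_f_rc_14_1 lc_f_rc_20_1 lc_f_rc_10_3 lc_f_rc_17_3 lc_f_rc_19_5 lc_f_rc_14_3 lc_f_rc_20_1 lc_f_rc_20_1 lc_f_rc_14_3 lc_f_rc_17_3 lc_f_rc_20_1 lc_f_rc_20_1 lc_f_rc_21_1 lc_f_rc_19_1 lc_f_rc_5_1 lc_f_rc_10_3 lc_f_rc_17_3) (@D3.rec (fun _ => (Cert rels S Gen.f)) lc_f_Cert_tree lc_f_rc_20_1 lc_f_rc_5_1 lc_f_rc_20_1 lc_f_rc_10_3 lc_f_rc_5_1 lc_f_rc_10_3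 lc_f_rc_5_1 lc_f_rc_14_3 lc_f_rc_22_1 lc_f_Cert_tree lc_f_rc_14_3 lc_f_rc_17_3 lc_f_Cert_tree lc_f_rc_21_1 lc_f_rc_14_3 lc_f_Cert_tree lc_f_rc_20_1 lc_f_rc_5_1 lc_f_rc_5_1 lc_f_rc_5_1 lc_f_rc_21_1 lc_f_rc_20_1 lc_f_rc_20_1 lc_f_rc_10_3 lc_f_Cert_tree lc_f_rc_14_3 lc_f_rc_14_3 lc_f_rc_21_1 lc_f_rc_10_3 lc_f_rc_10_3 lc_f_rc_10_3 lc_f_rc_5_3 lc_f_rc_5_1 lc_f_rc_5_1 lc_f_rc_19_3 lc_f_rc_14_3 lc_f_rc_14_3 lc_f_rc_5_3 lc_f_Cert_tree lc_f_rc_5_1 lc_f_rc_17_3 lc_f_rc_14_3 lc_f_Cert_tree lc_f_rc_17_1 lc_f_rc_17_3 lc_f_rc_19_5 lc_f_rc_20_1 lc_f_rc_17_3 lc_f_rc_5_3 lc_f_rc_10_3 lc_f_Cert_tree lc_f_rc_5_3 lc_f_rc_14_3 lc_f_rc_20_1 lc_f_rc_10_3 lc_f_rc_10_1 lc_f_rc_19_3 lc_f_rc_20_1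 lc_f_rc_21_1 lc_f_rc_20_1 lc_f_rc_14_3) (@D3.rec (fun _ => (Cert rels S Gen.f)) lc_f_rc_17_3 lc_f_rc_10_3 lc_f_rc_14_3 lc_f_rc_19_5 lc_f_rc_21_1 lc_f_rc_21_1 lc_f_rc_10_3 lc_f_rc_17_3 lc_f_rc_20_1 lc_f_rc_20_1 lc_f_Cert_tree lc_f_rc_20_1 lc_f_rc_5_1 lc_f_rc_20_1 lc_f_rc_10_3 lc_f_rc_10_3 lc_f_rc_20_1 lc_f_rc_14_3 lc_f_rc_21_1 lc_f_rc_14_3 lc_f_rc_17_3 lc_f_Cert_tree lc_f_rc_17_3 lc_f_rc_17_3 lc_f_Cert_tree lc_f_rc_14_3 lc_f_rc_21_1 lc_f_Cert_tree lc_f_rc_20_1 lc_f_rc_5_1 lc_f_rc_21_1 lc_f_rc_20_1 lc_f_rc_20_1 lc_f_rc_10_3 lc_f_rc_20_1 lc_f_rc_21_1 lc_f_rc_20_1 lc_f_rc_20_1 lc_f_rc_19_3 lc_f_rc_5_3 lc_f_rc_17_3 lc_f_rc_5_1 lc_f_rc_17_3 lc_f_rc_10_3 lc_f_rc_20_1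 lc_f_rc_17_3 lc_f_rc_17_3 lc_f_rc_20_1 lc_f_rc_10_3 lc_f_rc_20_1 lc_f_rc_17_3 lc_f_rc_10_3 lc_f_rc_14_3 lc_f_rc_14_3 lc_f_rc_10_3 lc_f_rc_5_1 lc_f_rc_5_1 lc_f_rc_17_3 lc_f_rc_19_3 lc_f_rc_10_3 lc_f_rc_17_3 lc_f_rc_5_3) (@D3.rec (fun _ => (Cert rels S Gen.f)) lc_f_rc_5_3 lc_f_Cert_tree lc_f_rc_14_1 lc_f_rc_14_3 lc_f_rc_10_3 lc_f_Cert_tree lc_f_rc_10_3 lc_f_rc_17_3 lc_f_rc_14_3 lc_f_Cert_tree lc_f_rc_10_1 lc_f_rc_17_3 lc_f_Cert_tree lc_f_rc_20_1 lc_f_rc_17_3 lc_f_rc_14_1 lc_f_rc_10_3 lc_f_Cert_tree lc_f_rc_21_1 lc_f_rc_20_1 lc_f_rc_20_1 lc_f_rc_20_1 lc_f_rc_17_3 lc_f_Cert_tree lc_f_rc_20_1 lc_f_rc_10_3 lc_f_rc_5_1 lc_f_rc_5_1 lc_f_rc_5_1 lc_f_rc_14_3 lc_f_rc_10_3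 lc_f_rc_17_3 lc_f_rc_5_3 lc_f_rc_14_3 lc_f_rc_17_3 lc_f_rc_10_3 lc_f_rc_5_1 lc_f_Cert_tree lc_f_rc_5_1 lc_f_rc_10_3 lc_f_rc_5_3 lc_f_rc_10_3 lc_f_rc_17_3 lc_f_rc_17_3 lc_f_rc_20_1 lc_f_rc_19_3 lc_f_rc_10_3 lc_f_rc_14_3 lc_f_rc_17_3 lc_f_rc_20_1 lc_f_rc_21_1 lc_f_rc_5_1 lc_f_rc_20_1 lc_f_Cert_tree lc_f_Cert_tree lc_f_rc_20_1 lc_f_rc_14_3 lc_f_rc_21_1 lc_f_Cert_tree lc_f_Cert_tree lc_f_Cert_tree lc_f_rc_20_1) (@D3.rec (fun _ => (Cert rels S Gen.f)) lc_f_rc_21_1 lc_f_Cert_tree lc_f_Cert_tree lc_f_rc_20_1 lc_f_rc_19_3 lc_f_Cert_tree lc_f_rc_20_1 lc_f_rc_17_1 lc_f_rc_14_3 lc_f_rc_20_1 lc_f_rc_14_3 lc_f_rc_17_3 lc_f_Cert_tree lc_f_rc_10_1 lc_f_rc_17_3 lc_f_Cert_tree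 lc_f_rc_14_3 lc_f_Cert_tree lc_f_rc_17_1 lc_f_rc_5_3 lc_f_rc_20_1 lc_f_rc_5_3 lc_f_Cert_tree lc_f_rc_14_3 lc_f_rc_14_3 lc_f_rc_10_1 lc_f_rc_5_1 lc_f_rc_17_3 lc_f_rc_5_1 lc_f_rc_17_3 lc_f_Cert_tree lc_f_rc_21_1 lc_f_rc_20_1 lc_f_rc_20_1 lc_f_rc_17_3 lc_f_rc_21_1 lc_f_rc_17_3 lc_f_rc_17_1 lc_f_rc_14_3 lc_f_rc_17_3 lc_f_rc_14_1 lc_f_rc_19_3 lc_f_rc_17_3 lc_f_rc_17_3 lc_f_rc_17_3 lc_f_rc_10_3 lc_f_rc_19_5 lc_f_Cert_tree lc_f_rc_10_3 lc_f_rc_17_1 lc_f_rc_21_1 lc_f_rc_10_3 lc_f_rc_17_1 lc_f_rc_19_5 lc_f_rc_10_3 lc_f_rc_17_1 lc_f_rc_14_3 lc_f_rc_21_1 lc_f_rc_20_1 lc_f_rc_14_3 lc_f_rc_21_1 lc_f_rc_21_1) (@D3.rec (fun _ => (Cert rels S Gen.f)) lc_f_rc_19_5 lc_f_rc_10_3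 lc_f_rc_19_5 lc_f_rc_19_3 lc_f_rc_20_1 lc_f_rc_14_3 lc_f_rc_10_3 lc_f_rc_10_3 lc_f_rc_10_3 lc_f_rc_14_3 lc_f_rc_14_3 lc_f_rc_19_5 lc_f_rc_14_3 lc_f_rc_19_5 lc_f_rc_10_3 lc_f_rc_17_3 lc_f_rc_19_5 lc_f_rc_21_1 lc_f_rc_10_3 lc_f_rc_17_1 lc_f_Cert_tree lc_f_rc_20_1 lc_f_rc_5_1 lc_f_rc_20_1 lc_f_Cert_tree lc_f_rc_10_3 lc_f_rc_17_3 lc_f_Cert_tree lc_f_rc_5_1 lc_f_rc_17_3 lc_f_rc_20_1 lc_f_rc_14_3 lc_f_Cert_tree lc_f_rc_10_3 lc_f_rc_17_3 lc_f_Cert_tree lc_f_rc_21_1 lc_f_rc_20_1 lc_f_rc_17_3 lc_f_rc_14_3 lc_f_Cert_tree lc_f_rc_10_3 lc_f_rc_17_3 lc_f_rc_14_3 lc_f_rc_10_3 lc_f_rc_5_1 lc_f_rc_10_1 lc_f_rc_10_3 lc_f_rc_14_3 lc_f_rc_5_3 lc_f_rc_14_1 lc_f_rc_22_1 lc_f_Cert_tree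 lc_f_rc_14_3 lc_f_rc_5_1 lc_f_Cert_tree lc_f_rc_20_1 lc_f_rc_5_1 lc_f_rc_5_1 lc_f_rc_21_1 lc_f_rc_20_1 lc_f_rc_20_1) (@D3.rec (fun _ => (Cert rels S Gen.f)) lc_f_rc_10_3 lc_f_rc_20_1 lc_f_rc_21_1 lc_f_Cert_tree lc_f_rc_20_1 lc_f_rc_17_3 lc_f_rc_14_3 lc_f_rc_19_3 lc_f_rc_20_1 lc_f_rc_10_3 lc_f_rc_17_3 lc_f_rc_17_3 lc_f_rc_10_3 lc_f_rc_17_1 lc_f_Cert_tree lc_f_rc_10_3 lc_f_rc_5_1 lc_f_rc_20_1 lc_f_rc_10_3 lc_f_rc_10_3 lc_f_rc_5_3 lc_f_rc_10_1 lc_f_rc_20_1 lc_f_rc_5_1 lc_f_rc_19_3 lc_f_rc_20_1 lc_f_rc_10_3 lc_f_rc_19_3 lc_f_rc_14_3 lc_f_Cert_tree lc_f_rc_14_3 lc_f_rc_10_3 lc_f_rc_17_3 lc_f_Cert_tree lc_f_rc_21_1 lc_f_rc_20_1 lc_f_rc_20_1 lc_f_rc_21_1 lc_f_rc_14_3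 lc_f_rc_5_3 lc_f_Cert_tree lc_f_rc_21_1 lc_f_Cert_tree lc_f_rc_20_1 lc_f_rc_10_3 lc_f_rc_5_1 lc_f_rc_21_1 lc_f_rc_10_3 lc_f_Cert_tree lc_f_rc_10_3 lc_f_rc_10_3 lc_f_rc_17_3 lc_f_Cert_tree lc_f_rc_14_3 lc_f_rc_10_3 lc_f_rc_21_1 lc_f_rc_20_1 lc_f_rc_5_1 lc_f_rc_10_3 lc_f_rc_21_1 lc_f_rc_21_1 lc_f_rc_10_3) (@D3.rec (fun _ => (Cert rels S Gen.f)) lc_f_Cert_tree lc_f_rc_21_1 lc_f_rc_20_1 lc_f_rc_20_1 lc_f_rc_14_3 lc_f_rc_10_3 lc_f_rc_14_3 lc_f_rc_5_1 lc_f_rc_17_3 lc_f_rc_21_1 lc_f_Cert_tree lc_f_rc_5_1 lc_f_rc_10_3 lc_f_rc_5_1 lc_f_rc_14_3 lc_f_Cert_tree lc_f_rc_21_1 lc_f_rc_20_1 lc_f_rc_20_1 lc_f_rc_19_5 lc_f_rc_10_1 lc_f_rc_14_3 lc_f_Cert_tree lc_f_rc_5_1 lc_f_rc_10_3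 lc_f_rc_20_1 lc_f_rc_10_3 lc_f_rc_20_1 lc_f_rc_21_1 lc_f_rc_19_5 lc_f_rc_20_1 lc_f_rc_10_3 lc_f_Cert_tree lc_f_rc_20_1 lc_f_rc_21_1 lc_f_rc_20_1 lc_f_rc_14_3 lc_f_rc_10_3 lc_f_rc_20_1 lc_f_rc_20_1 lc_f_rc_17_3 lc_f_rc_10_3 lc_f_rc_21_1 lc_f_rc_17_3 lc_f_rc_17_3 lc_f_rc_21_1 lc_f_Cert_tree lc_f_rc_20_1 lc_f_rc_21_1 lc_f_rc_20_1 lc_f_rc_20_1 lc_f_rc_5_3 lc_f_rc_17_3 lc_f_rc_17_3 lc_f_rc_17_1 lc_f_rc_10_3 lc_f_rc_10_3 lc_f_rc_14_3 lc_f_rc_14_3 lc_f_Cert_tree lc_f_rc_5_1 lc_f_rc_21_1) (@D3.rec (fun _ => (Cert rels S Gen.f)) lc_f_rc_17_3 lc_f_rc_17_3 lc_f_rc_14_3 lc_f_Cert_tree lc_f_rc_14_1 lc_f_rc_19_3 lc_f_rc_20_1 lc_f_rc_21_1 lc_f_rc_20_1 lc_f_rc_20_1 lc_f_Cert_tree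 lc_f_rc_10_3 lc_f_rc_5_3 lc_f_rc_20_1 lc_f_rc_14_1 lc_f_rc_14_1 lc_f_rc_5_1 lc_f_rc_14_1 lc_f_rc_14_3 lc_f_rc_19_3 lc_f_rc_20_1 lc_f_rc_10_3 lc_f_rc_14_3 lc_f_rc_17_1 lc_f_rc_20_1 lc_f_rc_21_1 lc_f_rc_20_1 lc_f_Cert_tree lc_f_rc_20_1 lc_f_rc_20_1 lc_f_rc_20_1 lc_f_rc_20_1 lc_f_rc_17_3 lc_f_Cert_tree lc_f_rc_19_5 lc_f_rc_10_1 lc_f_rc_5_3 lc_f_rc_14_1 lc_f_rc_19_5 lc_f_rc_21_1 lc_f_rc_21_1 lc_f_rc_10_3 lc_f_rc_17_3 lc_f_rc_5_1 lc_f_rc_5_1 lc_f_rc_10_3 lc_f_rc_14_3 lc_f_Cert_tree lc_f_Cert_tree lc_f_rc_19_1 lc_f_rc_20_1 lc_f_rc_19_3 lc_f_rc_17_3 lc_f_rc_5_1 lc_f_rc_19_3 lc_f_Cert_tree lc_f_rc_20_1 lc_f_Cert_tree lc_f_rc_17_3 lc_f_Cert_tree lc_f_rc_21_1 lc_f_rc_20_1)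 (@D3.rec (fun _ => (Cert rels S Gen.f)) lc_f_rc_17_3 lc_f_Cert_tree lc_f_rc_10_3 lc_f_Cert_tree lc_f_rc_10_3 lc_f_rc_5_1 lc_f_rc_5_3 lc_f_Cert_tree lc_f_rc_14_3 lc_f_rc_5_1 lc_f_Cert_tree lc_f_rc_20_1 lc_f_rc_5_1 lc_f_rc_14_3 lc_f_rc_19_5 lc_f_rc_5_1 lc_f_rc_14_3 lc_f_rc_5_1 lc_f_rc_20_1 lc_f_Cert_tree lc_f_rc_20_1 lc_f_rc_10_3 lc_f_rc_17_3 lc_f_rc_21_1 lc_f_rc_5_1 lc_f_rc_5_1 lc_f_Cert_tree lc_f_rc_5_3 lc_f_rc_14_3 lc_f_rc_10_3 lc_f_Cert_tree lc_f_Cert_tree lc_f_rc_21_1 lc_f_rc_19_3 lc_f_Cert_tree lc_f_rc_20_1 lc_f_rc_17_1 lc_f_Cert_tree lc_f_rc_20_1 lc_f_rc_5_1 lc_f_rc_20_1 lc_f_rc_14_3 lc_f_rc_19_5 lc_f_rc_10_3 lc_f_rc_17_3 lc_f_rc_14_3 lc_f_rc_20_1 lc_f_rc_5_1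 lc_f_rc_10_3 lc_f_rc_5_3 lc_f_rc_5_1 lc_f_rc_17_3 lc_f_rc_14_3 lc_f_rc_10_1 lc_f_rc_22_1 lc_f_rc_20_1 lc_f_rc_5_1 lc_f_rc_5_3 lc_f_rc_17_3 lc_f_rc_22_1 lc_f_Cert_tree lc_f_rc_17_1) (@D3.rec (fun _ => (Cert rels S Gen.f)) lc_f_rc_10_3 lc_f_rc_17_3 lc_f_rc_14_3 lc_f_rc_20_1 lc_f_rc_17_3 lc_f_rc_14_3 lc_f_rc_17_3 lc_f_rc_14_3 lc_f_rc_14_1 lc_f_rc_14_3 lc_f_Cert_tree lc_f_rc_5_3 lc_f_rc_17_1 lc_f_rc_20_1 lc_f_rc_10_1 lc_f_Cert_tree lc_f_rc_5_1 lc_f_rc_5_1 lc_f_rc_20_1 lc_f_rc_14_3 lc_f_rc_5_3 lc_f_rc_5_3 lc_f_Cert_tree lc_f_rc_17_3 lc_f_rc_14_3 lc_f_Cert_tree lc_f_rc_17_3 lc_f_rc_21_1 lc_f_Cert_tree lc_f_rc_14_3 lc_f_rc_21_1 lc_f_rc_17_3 lc_f_rc_21_1 lc_f_rc_20_1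 lc_f_rc_21_1 lc_f_rc_20_1 lc_f_rc_14_3 lc_f_Cert_tree lc_f_rc_17_3 lc_f_rc_21_1 lc_f_rc_20_1 lc_f_rc_17_3 lc_f_rc_19_5 lc_f_Cert_tree lc_f_rc_21_1 lc_f_rc_20_1 lc_f_rc_21_1 lc_f_rc_10_3 lc_f_rc_17_3 lc_f_rc_19_3 lc_f_rc_20_1 lc_f_rc_5_1 lc_f_rc_19_3 lc_f_rc_20_1 lc_f_rc_20_1 lc_f_rc_20_1 lc_f_Cert_tree lc_f_rc_14_3 lc_f_rc_10_3 lc_f_rc_19_3 lc_f_rc_17_3 lc_f_rc_19_3) (@D3.rec (fun _ => (Cert rels S Gen.f)) lc_f_rc_10_1 lc_f_Cert_tree lc_f_Cert_tree lc_f_rc_20_1 lc_f_rc_21_1 lc_f_Cert_tree lc_f_rc_20_1 lc_f_rc_20_1 lc_f_rc_14_1 lc_f_rc_10_3 lc_f_rc_5_1 lc_f_rc_17_1 lc_f_rc_17_3 lc_f_rc_5_1 lc_f_rc_20_1 lc_f_rc_5_3 lc_f_rc_10_3 lc_f_rc_20_1 lc_f_rc_5_3 lc_f_rc_19_3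 lc_f_rc_21_1 lc_f_rc_17_3 lc_f_rc_19_3 lc_f_rc_14_3 lc_f_Cert_tree lc_f_rc_17_3 lc_f_rc_14_3 lc_f_rc_10_3 lc_f_rc_5_1 lc_f_rc_5_1 lc_f_rc_20_1 lc_f_rc_10_1 lc_f_rc_17_3 lc_f_rc_14_3 lc_f_Cert_tree lc_f_rc_22_1 lc_f_rc_17_3 lc_f_rc_21_1 lc_f_rc_5_3 lc_f_rc_20_1 lc_f_rc_20_1 lc_f_rc_10_3 lc_f_rc_22_1 lc_f_Cert_tree lc_f_rc_5_3 lc_f_rc_10_1 lc_f_rc_20_1 lc_f_rc_14_3 lc_f_Cert_tree lc_f_rc_21_1 lc_f_rc_14_3 lc_f_Cert_tree lc_f_rc_5_1 lc_f_rc_14_3 lc_f_rc_17_3 lc_f_Cert_tree lc_f_rc_19_1 lc_f_rc_21_1 lc_f_Cert_tree lc_f_rc_20_1 lc_f_rc_10_3 lc_f_rc_10_3) (@D3.rec (fun _ => (Cert rels S Gen.f)) lc_f_rc_19_3 lc_f_rc_20_1 lc_f_rc_14_3 lc_f_Cert_tree lc_f_rc_10_1 lc_f_rc_5_1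 lc_f_rc_20_1 lc_f_rc_20_1 lc_f_rc_10_3 lc_f_Cert_tree lc_f_rc_21_1 lc_f_rc_20_1 lc_f_rc_20_1 lc_f_rc_21_1 lc_f_rc_10_3 lc_f_rc_17_3 lc_f_rc_19_3 lc_f_rc_17_3 lc_f_rc_17_3 lc_f_rc_19_3 lc_f_rc_20_1 lc_f_rc_20_1 lc_f_rc_20_1 lc_f_Cert_tree lc_f_rc_17_1 lc_f_rc_20_1 lc_f_rc_19_3 lc_f_rc_10_1 lc_f_rc_14_3 lc_f_rc_20_1 lc_f_rc_5_1 lc_f_rc_5_1 lc_f_rc_14_3 lc_f_Cert_tree lc_f_rc_5_3 lc_f_rc_22_1 lc_f_Cert_tree lc_f_rc_14_3 lc_f_rc_10_1 lc_f_rc_5_3 lc_f_rc_5_3 lc_f_rc_17_3 lc_f_rc_21_1 lc_f_rc_17_3 lc_f_rc_14_3 lc_f_Cert_tree lc_f_rc_10_3 lc_f_rc_17_3 lc_f_rc_14_3 lc_f_Cert_tree lc_f_rc_5_1 lc_f_rc_5_1 lc_f_Cert_tree lc_f_rc_14_3 lc_f_rc_14_3 lc_f_rc_22_1 lc_f_Cert_tree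 lc_f_rc_21_1 lc_f_rc_20_1 lc_f_Cert_tree lc_f_rc_20_1 lc_f_rc_14_1) (@D3.rec (fun _ => (Cert rels S Gen.f)) lc_f_rc_17_3 lc_f_rc_14_3 lc_f_rc_20_1 lc_f_rc_10_3 lc_f_rc_21_1 lc_f_rc_19_1 lc_f_rc_20_1 lc_f_rc_21_1 lc_f_rc_14_1 lc_f_rc_19_3 lc_f_rc_14_3 lc_f_Cert_tree lc_f_rc_17_3 lc_f_rc_20_1 lc_f_rc_20_1 lc_f_rc_5_1 lc_f_rc_10_3 lc_f_rc_17_1 lc_f_rc_10_3 lc_f_rc_21_1 lc_f_rc_21_1 lc_f_rc_5_3 lc_f_rc_5_3 lc_f_rc_5_1 lc_f_Cert_tree lc_f_rc_20_1 lc_f_rc_20_1 lc_f_Cert_tree lc_f_rc_14_3 lc_f_rc_21_1 lc_f_rc_10_1 lc_f_rc_10_3 lc_f_Cert_tree lc_f_rc_20_1 lc_f_rc_21_1 lc_f_rc_20_1 lc_f_rc_20_1 lc_f_rc_17_3 lc_f_rc_17_3 lc_f_rc_5_1 lc_f_rc_19_3 lc_f_rc_14_1 lc_f_Cert_tree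 lc_f_rc_10_3 lc_f_rc_21_1 lc_f_rc_10_1 lc_f_Cert_tree lc_f_rc_22_1 lc_f_rc_20_1 lc_f_rc_20_1 lc_f_Cert_tree lc_f_rc_5_3 lc_f_Cert_tree lc_f_rc_20_1 lc_f_rc_20_1 lc_f_rc_14_3 lc_f_rc_17_3 lc_f_rc_20_1 lc_f_rc_10_3 lc_f_rc_5_1 lc_f_Cert_tree lc_f_rc_10_3) (@D3.rec (fun _ => (Cert rels S Gen.f)) lc_f_rc_10_3 lc_f_rc_20_1 lc_f_rc_21_1 lc_f_rc_14_3 lc_f_rc_10_3 lc_f_rc_17_1 lc_f_Cert_tree lc_f_rc_10_3 lc_f_rc_5_1 lc_f_rc_20_1 lc_f_rc_17_3 lc_f_rc_14_1 lc_f_rc_21_1 lc_f_rc_14_3 lc_f_rc_5_1 lc_f_rc_17_3 lc_f_rc_10_3 lc_f_Cert_tree lc_f_rc_10_3 lc_f_rc_21_1 lc_f_Cert_tree lc_f_rc_20_1 lc_f_rc_5_1 lc_f_rc_10_3 lc_f_rc_5_3 lc_f_Cert_tree lc_f_rc_17_3 lc_f_rc_21_1 lc_f_rc_20_1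 lc_f_rc_10_3 lc_f_rc_21_1 lc_f_rc_21_1 lc_f_Cert_tree lc_f_rc_10_3 lc_f_rc_17_3 lc_f_rc_17_3 lc_f_Cert_tree lc_f_rc_5_1 lc_f_rc_10_3 lc_f_rc_10_3 lc_f_rc_10_1 lc_f_Cert_tree lc_f_rc_14_1 lc_f_rc_14_3 lc_f_rc_5_3 lc_f_Cert_tree lc_f_rc_20_1 lc_f_rc_20_1 lc_f_rc_21_1 lc_f_Cert_tree lc_f_rc_20_1 lc_f_rc_19_1 lc_f_rc_5_1 lc_f_rc_5_1 lc_f_rc_5_1 lc_f_Cert_tree lc_f_rc_14_3 lc_f_rc_14_3 lc_f_rc_17_3 lc_f_Cert_tree lc_f_rc_19_1 lc_f_rc_20_1) (@D3.rec (fun _ => (Cert rels S Gen.f)) lc_f_rc_21_1 lc_f_rc_19_5 lc_f_rc_19_5 lc_f_rc_17_3 lc_f_rc_17_3 lc_f_rc_20_1 lc_f_rc_14_3 lc_f_rc_5_3 lc_f_Cert_tree lc_f_rc_21_1 lc_f_rc_14_3 lc_f_rc_17_3 lc_f_Cert_tree lc_f_rc_10_3 lc_f_rc_20_1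 lc_f_rc_17_1 lc_f_rc_20_1 lc_f_rc_20_1 lc_f_rc_20_1 lc_f_rc_19_1 lc_f_rc_17_3 lc_f_Cert_tree lc_f_rc_22_1 lc_f_Cert_tree lc_f_rc_17_3 lc_f_rc_21_1 lc_f_rc_20_1 lc_f_Cert_tree lc_f_rc_5_1 lc_f_rc_19_5 lc_f_rc_17_1 lc_f_rc_20_1 lc_f_rc_22_1 lc_f_rc_21_1 lc_f_rc_20_1 lc_f_rc_17_3 lc_f_rc_10_3 lc_f_rc_17_3 lc_f_Cert_tree lc_f_rc_21_1 lc_f_rc_20_1 lc_f_rc_10_3 lc_f_rc_20_1 lc_f_rc_19_5 lc_f_rc_19_5 lc_f_rc_21_1 lc_f_rc_10_3 lc_f_rc_17_3 lc_f_rc_17_3 lc_f_rc_21_1 lc_f_rc_20_1 lc_f_rc_20_1 lc_f_rc_20_1 lc_f_Cert_tree lc_f_rc_5_3 lc_f_rc_20_1 lc_f_rc_17_1 lc_f_rc_14_1 lc_f_rc_21_1 lc_f_rc_20_1 lc_f_rc_21_1 lc_f_rc_19_3) (@D3.rec (fun _ => (Cert rels S Gen.f)) lc_f_rc_20_1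 lc_f_rc_21_1 lc_f_rc_10_3 lc_f_rc_14_3 lc_f_rc_10_3 lc_f_Cert_tree lc_f_rc_10_3 lc_f_rc_19_3 lc_f_Cert_tree lc_f_rc_20_1 lc_f_rc_20_1 lc_f_rc_20_1 lc_f_rc_21_1 lc_f_rc_17_3 lc_f_rc_10_3 lc_f_rc_14_3 lc_f_rc_17_3 lc_f_rc_14_3 lc_f_rc_21_1 lc_f_rc_20_1 lc_f_rc_19_5 lc_f_rc_10_3 lc_f_rc_14_3 lc_f_rc_5_1 lc_f_rc_17_1 lc_f_rc_14_3 lc_f_rc_14_3 lc_f_Cert_tree lc_f_rc_20_1 lc_f_rc_20_1 lc_f_Cert_tree lc_f_rc_20_1 lc_f_rc_14_3 lc_f_rc_14_3 lc_f_Cert_tree lc_f_rc_20_1 lc_f_rc_22_1 lc_f_rc_5_1 lc_f_rc_14_3 lc_f_rc_17_3 lc_f_rc_17_3 lc_f_rc_20_1 lc_f_Cert_tree lc_f_rc_20_1 lc_f_rc_17_3 lc_f_rc_10_3 lc_f_rc_22_1 lc_f_rc_21_1 lc_f_rc_14_1 lc_f_rc_19_3 lc_f_rc_14_3 lc_f_Cert_tree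 lc_f_rc_10_1 lc_f_rc_17_3 lc_f_rc_20_1 lc_f_Cert_tree lc_f_rc_14_3 lc_f_Cert_tree lc_f_Cert_tree lc_f_rc_20_1 lc_f_rc_19_3 lc_f_rc_17_3) (@D3.rec (fun _ => (Cert rels S Gen.f)) lc_f_rc_14_3 lc_f_Cert_tree lc_f_rc_21_1 lc_f_rc_17_3 lc_f_Cert_tree lc_f_rc_5_1 lc_f_rc_20_1 lc_f_Cert_tree lc_f_rc_20_1 lc_f_rc_20_1 lc_f_rc_17_3 lc_f_rc_21_1 lc_f_rc_14_1 lc_f_rc_20_1 lc_f_rc_10_3 lc_f_rc_17_3 lc_f_rc_14_3 lc_f_rc_17_3 lc_f_rc_5_1 lc_f_rc_5_3 lc_f_rc_5_3 lc_f_Cert_tree lc_f_rc_10_1 lc_f_rc_14_3 lc_f_rc_10_3 lc_f_Cert_tree lc_f_rc_14_3 lc_f_rc_20_1 lc_f_rc_17_3 lc_f_rc_14_3 lc_f_rc_20_1 lc_f_rc_17_1 lc_f_rc_17_1 lc_f_rc_19_3 lc_f_rc_5_1 lc_f_rc_10_3 lc_f_rc_20_1 lc_f_rc_10_1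 lc_f_rc_17_3 lc_f_rc_21_1 lc_f_rc_17_3 lc_f_rc_14_3 lc_f_rc_21_1 lc_f_rc_17_3 lc_f_rc_5_3 lc_f_rc_17_3 lc_f_Cert_tree lc_f_rc_10_3 lc_f_Cert_tree lc_f_rc_5_3 lc_f_rc_20_1 lc_f_rc_14_3 lc_f_rc_20_1 lc_f_rc_21_1 lc_f_rc_20_1 lc_f_rc_21_1 lc_f_Cert_tree lc_f_rc_21_1 lc_f_rc_10_3 lc_f_rc_10_3 lc_f_Cert_tree lc_f_rc_19_3) (@D3.rec (fun _ => (Cert rels S Gen.f)) lc_f_rc_14_3 lc_f_Cert_tree lc_f_rc_21_1 lc_f_Cert_tree lc_f_rc_20_1 lc_f_rc_14_3 lc_f_rc_10_3 lc_f_Cert_tree lc_f_rc_5_1 lc_f_rc_10_3 lc_f_Cert_tree lc_f_rc_20_1 lc_f_rc_14_3 lc_f_rc_14_3 lc_f_rc_20_1 lc_f_rc_5_1 lc_f_rc_20_1 lc_f_rc_5_1 lc_f_rc_17_3 lc_f_rc_20_1 lc_f_rc_20_1 lc_f_rc_20_1 lc_f_rc_21_1 lc_f_rc_14_1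 lc_f_Cert_tree lc_f_rc_20_1 lc_f_rc_14_3 lc_f_rc_14_1 lc_f_rc_17_3 lc_f_rc_22_1 lc_f_rc_5_1 lc_f_rc_21_1 lc_f_rc_5_1 lc_f_rc_20_1 lc_f_rc_20_1 lc_f_rc_5_1 lc_f_Cert_tree lc_f_rc_20_1 lc_f_rc_14_1 lc_f_rc_17_1 lc_f_rc_17_3 lc_f_rc_14_3 lc_f_rc_14_3 lc_f_rc_10_3 lc_f_rc_5_3 lc_f_rc_14_3 lc_f_rc_17_3 lc_f_Cert_tree lc_f_rc_17_3 lc_f_rc_14_3 lc_f_rc_17_3 lc_f_rc_17_1 lc_f_rc_21_1 lc_f_rc_20_1 lc_f_rc_5_3 lc_f_rc_14_3 lc_f_rc_17_3 lc_f_rc_10_3 lc_f_rc_21_1 lc_f_rc_14_1 lc_f_rc_10_3 lc_f_rc_5_1) (@D3.rec (fun _ => (Cert rels S Gen.f)) lc_f_rc_17_1 lc_f_rc_19_3 lc_f_rc_14_3 lc_f_rc_10_3 lc_f_rc_14_1 lc_f_rc_14_1 lc_f_rc_17_3 lc_f_rc_14_3 lc_f_rc_14_3 lc_f_rc_21_1 lc_f_rc_20_1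 lc_f_rc_19_3 lc_f_rc_10_1 lc_f_rc_14_1 lc_f_rc_14_1 lc_f_rc_20_1 lc_f_rc_19_3 lc_f_rc_19_3 lc_f_rc_21_1 lc_f_rc_17_1 lc_f_rc_14_3 lc_f_rc_5_3 lc_f_rc_14_1 lc_f_Cert_tree lc_f_rc_19_5 lc_f_rc_21_1 lc_f_rc_20_1 lc_f_rc_10_3 lc_f_rc_14_1 lc_f_rc_10_3 lc_f_rc_10_3 lc_f_rc_14_3 lc_f_rc_14_3 lc_f_rc_10_3 lc_f_rc_14_3 lc_f_rc_19_3 lc_f_rc_21_1 lc_f_rc_20_1 lc_f_rc_22_1 lc_f_rc_17_3 lc_f_Cert_tree lc_f_rc_17_3 lc_f_rc_14_3 lc_f_rc_14_3 lc_f_rc_10_3 lc_f_Cert_tree lc_f_rc_20_1 lc_f_rc_21_1 lc_f_rc_14_1 lc_f_rc_5_1 lc_f_rc_17_3 lc_f_rc_10_3 lc_f_rc_19_3 lc_f_rc_20_1 lc_f_rc_22_1 lc_f_rc_5_1 lc_f_rc_14_3 lc_f_rc_17_3 lc_f_rc_14_1 lc_f_rc_20_1 lc_f_rc_17_3 lc_f_Cert_tree)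 (@D3.rec (fun _ => (Cert rels S Gen.f)) lc_f_rc_14_3 lc_f_rc_14_3 lc_f_rc_20_1 lc_f_rc_10_1 lc_f_rc_14_3 lc_f_Cert_tree lc_f_rc_10_3 lc_f_rc_19_3 lc_f_rc_20_1 lc_f_rc_20_1 lc_f_rc_21_1 lc_f_rc_14_1 lc_f_rc_14_1 lc_f_rc_14_3 lc_f_rc_19_5 lc_f_rc_21_1 lc_f_rc_21_1 lc_f_rc_20_1 lc_f_rc_10_1 lc_f_rc_20_1 lc_f_rc_10_3 lc_f_rc_14_3 lc_f_rc_19_3 lc_f_rc_20_1 lc_f_rc_17_1 lc_f_rc_14_3 lc_f_rc_21_1 lc_f_rc_21_1 lc_f_rc_20_1 lc_f_rc_20_1 lc_f_rc_10_1 lc_f_rc_10_3 lc_f_rc_20_1 lc_f_rc_21_1 lc_f_rc_14_3 lc_f_rc_17_3 lc_f_rc_10_1 lc_f_rc_19_5 lc_f_rc_20_1 lc_f_rc_17_1 lc_f_rc_21_1 lc_f_Cert_tree lc_f_rc_10_1 lc_f_Cert_tree lc_f_rc_14_3 lc_f_rc_10_3 lc_f_rc_10_1 lc_f_rc_20_1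 lc_f_rc_20_1 lc_f_rc_20_1 lc_f_rc_17_3 lc_f_rc_14_1 lc_f_Cert_tree lc_f_rc_10_3 lc_f_rc_17_3 lc_f_rc_17_1 lc_f_rc_20_1 lc_f_rc_20_1 lc_f_rc_5_3 lc_f_rc_20_1 lc_f_rc_20_1 lc_f_rc_17_3) (@D3.rec (fun _ => (Cert rels S Gen.f)) lc_f_rc_20_1 lc_f_rc_10_3 lc_f_rc_17_3 lc_f_rc_10_3 lc_f_rc_20_1 lc_f_rc_21_1 lc_f_rc_20_1 lc_f_rc_5_3 lc_f_Cert_tree lc_f_rc_14_3 lc_f_Cert_tree lc_f_rc_20_1 lc_f_rc_10_3 lc_f_rc_20_1 lc_f_rc_10_1 lc_f_Cert_tree lc_f_rc_21_1 lc_f_Cert_tree lc_f_rc_5_1 lc_f_rc_20_1 lc_f_rc_17_3 lc_f_Cert_tree lc_f_Cert_tree lc_f_rc_20_1 lc_f_Cert_tree lc_f_rc_10_3 lc_f_rc_14_1 lc_f_rc_17_3 lc_f_Cert_tree lc_f_rc_20_1 lc_f_rc_20_1 lc_f_rc_20_1 lc_f_rc_21_1 lc_f_rc_21_1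 lc_f_rc_10_3 lc_f_Cert_tree lc_f_rc_10_3 lc_f_rc_17_3 lc_f_rc_20_1 lc_f_rc_21_1 lc_f_rc_17_3 lc_f_rc_20_1 lc_f_rc_14_3 lc_f_rc_14_3 lc_f_rc_17_3 lc_f_rc_14_3 lc_f_rc_21_1 lc_f_Cert_tree lc_f_rc_20_1 lc_f_rc_14_1 lc_f_rc_20_1 lc_f_rc_14_3 lc_f_Cert_tree lc_f_rc_17_3 lc_f_rc_14_3 lc_f_Cert_tree lc_f_rc_21_1 lc_f_rc_20_1 lc_f_rc_21_1 lc_f_rc_14_3 lc_f_Cert_tree lc_f_rc_20_1) (@D3.rec (fun _ => (Cert rels S Gen.f)) lc_f_rc_20_1 lc_f_rc_10_3 lc_f_Cert_tree lc_f_rc_21_1 lc_f_rc_20_1 lc_f_rc_20_1 lc_f_Cert_tree lc_f_rc_10_3 lc_f_rc_19_3 lc_f_Cert_tree lc_f_rc_20_1 lc_f_Cert_tree lc_f_rc_14_3 lc_f_rc_14_3 lc_f_rc_20_1 lc_f_rc_10_3 lc_f_rc_17_3 lc_f_rc_14_1 lc_f_Cert_tree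 lc_f_rc_19_5 lc_f_rc_21_1 lc_f_rc_17_1 lc_f_rc_20_1 lc_f_rc_20_1 lc_f_rc_19_3 lc_f_rc_17_1 lc_f_rc_14_3 lc_f_rc_10_3 lc_f_rc_14_3 lc_f_rc_17_1 lc_f_Cert_tree lc_f_rc_21_1 lc_f_rc_20_1 lc_f_Cert_tree lc_f_rc_20_1 lc_f_rc_17_3 lc_f_rc_22_1 lc_f_rc_17_3 lc_f_rc_10_3 lc_f_rc_14_3 lc_f_rc_14_3 lc_f_rc_14_3 lc_f_rc_21_1 lc_f_rc_5_3 lc_f_rc_14_3 lc_f_Cert_tree lc_f_rc_20_1 lc_f_rc_20_1 lc_f_rc_14_3 lc_f_Cert_tree lc_f_rc_17_1 lc_f_rc_20_1 lc_f_rc_17_1 lc_f_rc_17_3 lc_f_rc_19_3 lc_f_rc_5_3 lc_f_rc_17_1 lc_f_rc_20_1 lc_f_rc_17_3 lc_f_rc_17_3 lc_f_rc_17_3 lc_f_rc_14_3) (@D3.rec (fun _ => (Cert rels S Gen.f)) lc_f_rc_17_3 lc_f_rc_17_3 lc_f_rc_14_3 lc_f_rc_19_3 lc_f_rc_17_1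 lc_f_rc_14_3 lc_f_rc_19_5 lc_f_rc_14_3 lc_f_rc_5_3 lc_f_rc_17_3 lc_f_rc_17_3 lc_f_rc_17_3 lc_f_rc_14_3 lc_f_rc_10_3 lc_f_rc_17_1 lc_f_rc_10_3 lc_f_rc_17_3 lc_f_rc_21_1 lc_f_Cert_tree lc_f_rc_5_1 lc_f_rc_14_3 lc_f_rc_19_3 lc_f_rc_10_3 lc_f_rc_21_1 lc_f_rc_14_3 lc_f_rc_20_1 lc_f_rc_17_3 lc_f_rc_17_3 lc_f_rc_10_1 lc_f_rc_17_3 lc_f_rc_5_1 lc_f_rc_17_3 lc_f_Cert_tree lc_f_rc_17_3 lc_f_rc_17_3 lc_f_rc_14_3 lc_f_rc_17_3 lc_f_rc_21_1 lc_f_rc_17_3 lc_f_rc_20_1 lc_f_rc_14_3 lc_f_rc_17_3 lc_f_rc_14_3 lc_f_rc_20_1 lc_f_rc_10_3 lc_f_Cert_tree lc_f_rc_10_3 lc_f_rc_14_3 lc_f_rc_14_3 lc_f_rc_10_1 lc_f_rc_10_1 lc_f_rc_14_3 lc_f_Cert_tree lc_f_rc_21_1 lc_f_rc_20_1 lc_f_rc_20_1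 lc_f_rc_22_1 lc_f_rc_10_3 lc_f_rc_17_3 lc_f_rc_21_1 lc_f_rc_21_1 lc_f_rc_21_1) (@D3.rec (fun _ => (Cert rels S Gen.f)) lc_f_rc_20_1 lc_f_rc_20_1 lc_f_rc_20_1 lc_f_rc_17_3 lc_f_rc_10_3 lc_f_Cert_tree lc_f_rc_17_3 lc_f_rc_5_1 lc_f_Cert_tree lc_f_rc_14_3 lc_f_Cert_tree lc_f_rc_21_1 lc_f_Cert_tree lc_f_rc_17_1 lc_f_rc_22_1 lc_f_Cert_tree lc_f_rc_20_1 lc_f_rc_21_1 lc_f_Cert_tree lc_f_rc_20_1 lc_f_rc_5_1 lc_f_rc_17_3 lc_f_rc_22_1 lc_f_rc_10_3 lc_f_rc_5_3 lc_f_Cert_tree lc_f_rc_20_1 lc_f_rc_14_1 lc_f_rc_14_1 lc_f_rc_5_1 lc_f_Cert_tree lc_f_rc_20_1 lc_f_rc_14_3 lc_f_rc_10_1 lc_f_rc_21_1 lc_f_rc_14_3 lc_f_rc_10_3 lc_f_rc_10_1 lc_f_Cert_tree lc_f_rc_20_1 lc_f_rc_20_1 lc_f_rc_21_1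 lc_f_Cert_tree lc_f_rc_10_3 lc_f_rc_17_3 lc_f_Cert_tree lc_f_rc_5_1 lc_f_rc_10_3 lc_f_rc_21_1 lc_f_rc_10_3 lc_f_rc_14_3 lc_f_rc_17_3 lc_f_rc_17_3 lc_f_rc_22_1 lc_f_rc_14_3 lc_f_Cert_tree lc_f_rc_14_3 lc_f_rc_10_3 lc_f_rc_17_3 lc_f_rc_21_1 lc_f_rc_10_1 lc_f_rc_14_3) (@D3.rec (fun _ => (Cert rels S Gen.f)) lc_f_Cert_tree lc_f_rc_20_1 lc_f_rc_20_1 lc_f_Cert_tree lc_f_rc_14_3 lc_f_Cert_tree lc_f_rc_5_3 lc_f_rc_10_1 lc_f_Cert_tree lc_f_rc_20_1 lc_f_rc_10_3 lc_f_rc_14_3 lc_f_rc_22_1 lc_f_rc_10_1 lc_f_Cert_tree lc_f_rc_20_1 lc_f_rc_21_1 lc_f_Cert_tree lc_f_rc_20_1 lc_f_rc_20_1 lc_f_rc_14_3 lc_f_Cert_tree lc_f_rc_22_1 lc_f_rc_14_3 lc_f_rc_5_1 lc_f_rc_17_3 lc_f_rc_22_1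 lc_f_rc_17_3 lc_f_rc_17_3 lc_f_rc_17_1 lc_f_rc_14_1 lc_f_rc_22_1 lc_f_rc_21_1 lc_f_Cert_tree lc_f_rc_14_3 lc_f_rc_14_3 lc_f_rc_14_1 lc_f_rc_14_3 lc_f_rc_19_1 lc_f_rc_17_1 lc_f_Cert_tree lc_f_rc_17_3 lc_f_rc_10_3 lc_f_rc_20_1 lc_f_rc_5_1 lc_f_rc_5_3 lc_f_rc_20_1 lc_f_rc_22_1 lc_f_Cert_tree lc_f_rc_21_1 lc_f_rc_14_3 lc_f_rc_10_3 lc_f_rc_20_1 lc_f_rc_14_1 lc_f_rc_21_1 lc_f_rc_10_3 lc_f_Cert_tree lc_f_rc_20_1 lc_f_rc_21_1 lc_f_rc_20_1 lc_f_rc_14_3 lc_f_rc_10_3) (@D3.rec (fun _ => (Cert rels S Gen.f)) lc_f_rc_21_1 lc_f_rc_10_1 lc_f_Cert_tree lc_f_rc_17_3 lc_f_rc_17_1 lc_f_Cert_tree lc_f_rc_17_3 lc_f_rc_14_3 lc_f_rc_17_3 lc_f_rc_10_3 lc_f_rc_17_3 lc_f_Cert_tree lc_f_rc_5_1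 lc_f_rc_14_3 lc_f_rc_10_3 lc_f_rc_14_1 lc_f_Cert_tree lc_f_rc_20_1 lc_f_rc_21_1 lc_f_Cert_tree lc_f_rc_20_1 lc_f_rc_14_3 lc_f_rc_17_3 lc_f_rc_19_5 lc_f_rc_17_3 lc_f_rc_10_3 lc_f_rc_17_3 lc_f_Cert_tree lc_f_rc_20_1 lc_f_rc_14_3 lc_f_rc_14_3 lc_f_Cert_tree lc_f_rc_20_1 lc_f_rc_20_1 lc_f_Cert_tree lc_f_rc_10_3 lc_f_rc_17_3 lc_f_Cert_tree lc_f_rc_5_3 lc_f_Cert_tree lc_f_rc_20_1 lc_f_rc_5_3 lc_f_Cert_tree lc_f_Cert_tree lc_f_rc_5_3 lc_f_rc_22_1 lc_f_rc_5_3 lc_f_rc_20_1 lc_f_rc_20_1 lc_f_rc_5_1 lc_f_rc_21_1 lc_f_rc_21_1 lc_f_Cert_tree lc_f_rc_20_1 lc_f_rc_14_3 lc_f_rc_17_1 lc_f_rc_20_1 lc_f_rc_21_1 lc_f_rc_20_1 lc_f_Cert_tree lc_f_rc_20_1 lc_f_rc_21_1) (@D3.rec (fun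 _ => (Cert rels S Gen.f)) lc_f_rc_17_3 lc_f_rc_14_3 lc_f_Cert_tree lc_f_rc_20_1 lc_f_rc_20_1 lc_f_rc_10_3 lc_f_rc_10_1 lc_f_rc_14_3 lc_f_rc_20_1 lc_f_rc_17_3 lc_f_rc_14_3 lc_f_Cert_tree lc_f_rc_20_1 lc_f_rc_19_3 lc_f_rc_21_1 lc_f_rc_5_1 lc_f_rc_14_3 lc_f_Cert_tree lc_f_rc_19_3 lc_f_rc_20_1 lc_f_rc_10_3 lc_f_rc_17_1 lc_f_rc_10_3 lc_f_rc_17_1 lc_f_rc_10_3 lc_f_rc_19_3 lc_f_rc_17_3 lc_f_rc_14_3 lc_f_rc_20_1 lc_f_rc_21_1 lc_f_rc_14_3 lc_f_rc_14_1 lc_f_rc_10_3 lc_f_rc_14_3 lc_f_rc_10_3 lc_f_rc_17_3 lc_f_Cert_tree lc_f_Cert_tree lc_f_rc_10_3 lc_f_rc_14_3 lc_f_rc_21_1 lc_f_rc_20_1 lc_f_rc_21_1 lc_f_rc_14_3 lc_f_rc_20_1 lc_f_rc_21_1 lc_f_rc_5_3 lc_f_rc_14_1 lc_f_rc_20_1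 lc_f_rc_5_1 lc_f_rc_17_3 lc_f_rc_14_3 lc_f_rc_5_1 lc_f_Cert_tree lc_f_rc_10_3 lc_f_rc_14_3 lc_f_Cert_tree lc_f_rc_10_3 lc_f_rc_20_1 lc_f_rc_20_1 lc_f_rc_21_1 lc_f_Cert_tree) (@D3.rec (fun _ => (Cert rels S Gen.f)) lc_f_rc_20_1 lc_f_rc_19_1 lc_f_rc_17_3 lc_f_rc_14_3 lc_f_rc_10_3 lc_f_rc_17_1 lc_f_Cert_tree lc_f_rc_5_1 lc_f_rc_10_3 lc_f_Cert_tree lc_f_rc_20_1 lc_f_rc_10_3 lc_f_rc_17_1 lc_f_Cert_tree lc_f_rc_17_3 lc_f_Cert_tree lc_f_rc_17_3 lc_f_rc_21_1 lc_f_rc_5_1 lc_f_Cert_tree lc_f_rc_21_1 lc_f_rc_20_1 lc_f_rc_14_3 lc_f_rc_5_1 lc_f_Cert_tree lc_f_rc_20_1 lc_f_rc_19_3 lc_f_Cert_tree lc_f_rc_17_3 lc_f_rc_19_3 lc_f_rc_14_1 lc_f_Cert_tree lc_f_rc_21_1 lc_f_rc_20_1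 lc_f_rc_19_3 lc_f_rc_5_1 lc_f_Cert_tree lc_f_Cert_tree lc_f_rc_17_3 lc_f_rc_14_1 lc_f_rc_17_3 lc_f_Cert_tree lc_f_rc_21_1 lc_f_rc_20_1 lc_f_Cert_tree lc_f_rc_20_1 lc_f_rc_20_1 lc_f_rc_21_1 lc_f_rc_10_3 lc_f_Cert_tree lc_f_rc_20_1 lc_f_rc_10_3 lc_f_rc_14_1 lc_f_rc_21_1 lc_f_rc_20_1 lc_f_Cert_tree lc_f_rc_20_1 lc_f_rc_21_1 lc_f_rc_14_3 lc_f_rc_10_1 lc_f_rc_14_3 lc_f_rc_10_1) (@D3.rec (fun _ => (Cert rels S Gen.f)) lc_f_Cert_tree lc_f_rc_5_1 lc_f_rc_20_1 lc_f_Cert_tree lc_f_rc_20_1 lc_f_rc_5_3 lc_f_rc_5_3 lc_f_rc_20_1 lc_f_rc_21_1 lc_f_Cert_tree lc_f_rc_20_1 lc_f_rc_14_3 lc_f_Cert_tree lc_f_rc_22_1 lc_f_rc_5_3 lc_f_rc_21_1 lc_f_rc_14_1 lc_f_Cert_tree lc_f_Cert_tree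 lc_f_rc_20_1 lc_f_rc_19_3 lc_f_rc_10_3 lc_f_Cert_tree lc_f_Cert_tree lc_f_rc_14_3 lc_f_Cert_tree lc_f_rc_20_1 lc_f_rc_20_1 lc_f_rc_20_1 lc_f_rc_20_1 lc_f_Cert_tree lc_f_rc_5_3 lc_f_rc_5_3 lc_f_rc_5_1 lc_f_rc_17_3 lc_f_Cert_tree lc_f_rc_10_3 lc_f_rc_17_3 lc_f_Cert_tree lc_f_rc_5_1 lc_f_rc_20_1 lc_f_Cert_tree lc_f_rc_20_1 lc_f_rc_17_3 lc_f_rc_20_1 lc_f_rc_20_1 lc_f_rc_10_3 lc_f_rc_14_3 lc_f_rc_5_3 lc_f_rc_17_3 lc_f_Cert_tree lc_f_rc_17_3 lc_f_rc_17_3 lc_f_Cert_tree lc_f_rc_21_1 lc_f_Cert_tree lc_f_rc_20_1 lc_f_rc_5_1 lc_f_rc_14_1 lc_f_rc_10_3 lc_f_rc_10_3 lc_f_rc_17_3)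
def ce_f_6 : D2 → D3 → (Cert rels S Gen.f) := @D2.rec (fun _ => D3 → (Cert rels S Gen.f)) (@D3.rec (fun _ => (Cert rels S Gen.f)) lc_f_rc_20_1 lc_f_rc_20_1 lc_f_Cert_tree lc_f_rc_10_3 lc_f_Cert_tree lc_f_rc_20_1 lc_f_rc_5_1 lc_f_rc_20_1 lc_f_rc_14_3 lc_f_rc_20_1 lc_f_rc_17_3 lc_f_Cert_tree lc_f_Cert_tree lc_f_rc_21_1 lc_f_rc_21_1 lc_f_Cert_tree lc_f_rc_20_1 lc_f_rc_14_1 lc_f_rc_10_3 lc_f_rc_10_3 lc_f_rc_21_1 lc_f_rc_10_1 lc_f_rc_19_1 lc_f_rc_10_3 lc_f_rc_14_3 lc_f_Cert_tree lc_f_rc_20_1 lc_f_rc_14_1 lc_f_rc_21_1 lc_f_rc_10_3 lc_f_rc_14_3 lc_f_rc_5_1 lc_f_Cert_tree lc_f_rc_22_1 lc_f_Cert_tree lc_f_Cert_tree lc_f_rc_20_1 lc_f_rc_14_3 lc_f_rc_17_3 lc_f_rc_5_3 lc_f_rc_21_1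 lc_f_rc_17_3 lc_f_Cert_tree lc_f_Cert_tree lc_f_Cert_tree lc_f_rc_20_1 lc_f_Cert_tree lc_f_rc_17_1 lc_f_Cert_tree lc_f_rc_21_1 lc_f_rc_14_3 lc_f_Cert_tree lc_f_rc_20_1 lc_f_rc_5_1 lc_f_rc_17_3 lc_f_rc_10_3 lc_f_rc_21_1 lc_f_rc_21_1 lc_f_rc_20_1 lc_f_rc_5_1 lc_f_Cert_tree lc_f_rc_20_1) (@D3.rec (fun _ => (Cert rels S Gen.f)) lc_f_rc_5_3 lc_f_rc_20_1 lc_f_rc_21_1 lc_f_rc_10_3 lc_f_Cert_tree lc_f_rc_20_1 lc_f_rc_10_3 lc_f_rc_5_1 lc_f_rc_14_1 lc_f_rc_17_3 lc_f_rc_10_3 lc_f_rc_5_1 lc_f_rc_22_1 lc_f_rc_19_1 lc_f_rc_20_1 lc_f_rc_20_1 lc_f_rc_20_1 lc_f_rc_20_1 lc_f_rc_20_1 lc_f_rc_20_1 lc_f_Cert_tree lc_f_rc_20_1 lc_f_rc_20_1 lc_f_rc_20_1 lc_f_rc_20_1 lc_f_rc_20_1 lc_f_rc_21_1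 lc_f_rc_14_3 lc_f_Cert_tree lc_f_rc_14_3 lc_f_Cert_tree lc_f_rc_14_3 lc_f_rc_17_3 lc_f_rc_20_1 lc_f_rc_20_1 lc_f_Cert_tree lc_f_rc_14_3 lc_f_rc_14_3 lc_f_rc_10_3 lc_f_rc_17_3 lc_f_rc_20_1 lc_f_rc_5_3 lc_f_rc_10_3 lc_f_rc_5_1 lc_f_rc_5_1 lc_f_rc_20_1 lc_f_rc_5_3 lc_f_rc_20_1 lc_f_rc_17_3 lc_f_rc_17_3 lc_f_rc_20_1 lc_f_Cert_tree lc_f_rc_21_1 lc_f_rc_21_1 lc_f_rc_5_1 lc_f_rc_20_1 lc_f_rc_20_1 lc_f_rc_17_3 lc_f_rc_19_3 lc_f_rc_17_1 lc_f_Cert_tree lc_f_rc_20_1) (@D3.rec (fun _ => (Cert rels S Gen.f)) lc_f_rc_14_3 lc_f_rc_17_3 lc_f_rc_17_3 lc_f_rc_17_3 lc_f_rc_21_1 lc_f_rc_14_1 lc_f_rc_14_3 lc_f_rc_17_3 lc_f_rc_10_3 lc_f_rc_14_3 lc_f_rc_19_3 lc_f_rc_5_3 lc_f_rc_20_1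 lc_f_Cert_tree lc_f_rc_5_1 lc_f_rc_10_1 lc_f_rc_20_1 lc_f_rc_5_3 lc_f_rc_5_1 lc_f_rc_5_1 lc_f_rc_21_1 lc_f_rc_20_1 lc_f_Cert_tree lc_f_rc_14_3 lc_f_rc_17_3 lc_f_Cert_tree lc_f_rc_20_1 lc_f_rc_14_3 lc_f_rc_10_3 lc_f_rc_17_1 lc_f_rc_5_1 lc_f_rc_5_3 lc_f_rc_19_3 lc_f_rc_20_1 lc_f_rc_5_1 lc_f_rc_14_3 lc_f_rc_10_1 lc_f_rc_10_1 lc_f_rc_19_5 lc_f_rc_14_3 lc_f_rc_20_1 lc_f_rc_14_3 lc_f_Cert_tree lc_f_rc_21_1 lc_f_rc_14_3 lc_f_rc_21_1 lc_f_Cert_tree lc_f_rc_17_1 lc_f_rc_20_1 lc_f_rc_19_3 lc_f_rc_14_3 lc_f_rc_5_3 lc_f_rc_19_3 lc_f_rc_20_1 lc_f_rc_21_1 lc_f_rc_14_3 lc_f_rc_17_3 lc_f_rc_14_3 lc_f_rc_14_3 lc_f_rc_10_3 lc_f_rc_21_1 lc_f_rc_14_3) (@D3.rec (fun _ => (Cert rels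 S Gen.f)) lc_f_rc_20_1 lc_f_rc_14_3 lc_f_rc_20_1 lc_f_rc_20_1 lc_f_rc_14_1 lc_f_rc_14_1 lc_f_rc_10_3 lc_f_rc_21_1 lc_f_rc_14_3 lc_f_rc_14_3 lc_f_rc_17_3 lc_f_rc_20_1 lc_f_rc_17_3 lc_f_rc_21_1 lc_f_rc_17_3 lc_f_rc_14_3 lc_f_rc_10_3 lc_f_rc_14_3 lc_f_rc_14_3 lc_f_rc_22_1 lc_f_rc_14_3 lc_f_rc_10_3 lc_f_rc_14_1 lc_f_rc_17_3 lc_f_rc_10_3 lc_f_rc_20_1 lc_f_rc_21_1 lc_f_rc_14_3 lc_f_Cert_tree lc_f_rc_17_3 lc_f_rc_14_3 lc_f_rc_10_3 lc_f_rc_21_1 lc_f_rc_21_1 lc_f_rc_17_3 lc_f_rc_20_1 lc_f_rc_10_3 lc_f_Cert_tree lc_f_rc_21_1 lc_f_rc_20_1 lc_f_rc_20_1 lc_f_rc_14_3 lc_f_Cert_tree lc_f_rc_10_3 lc_f_Cert_tree lc_f_rc_21_1 lc_f_rc_20_1 lc_f_rc_20_1 lc_f_rc_14_3 lc_f_rc_17_3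 lc_f_rc_10_3 lc_f_Cert_tree lc_f_rc_19_3 lc_f_rc_21_1 lc_f_rc_20_1 lc_f_rc_10_3 lc_f_Cert_tree lc_f_rc_10_3 lc_f_rc_10_3 lc_f_rc_5_1 lc_f_rc_10_1 lc_f_rc_5_3) (@D3.rec (fun _ => (Cert rels S Gen.f)) lc_f_rc_10_3 lc_f_rc_14_3 lc_f_rc_14_3 lc_f_Cert_tree lc_f_rc_10_3 lc_f_rc_5_3 lc_f_rc_17_3 lc_f_rc_17_3 lc_f_rc_20_1 lc_f_rc_19_5 lc_f_rc_10_3 lc_f_rc_10_3 lc_f_Cert_tree lc_f_rc_10_3 lc_f_rc_22_1 lc_f_rc_14_3 lc_f_rc_14_3 lc_f_rc_5_1 lc_f_rc_10_3 lc_f_rc_17_3 lc_f_rc_5_1 lc_f_rc_10_3 lc_f_rc_17_3 lc_f_rc_14_3 lc_f_rc_14_3 lc_f_Cert_tree lc_f_rc_14_3 lc_f_Cert_tree lc_f_rc_14_3 lc_f_rc_14_3 lc_f_Cert_tree lc_f_rc_17_1 lc_f_rc_20_1 lc_f_rc_19_3 lc_f_rc_14_3 lc_f_Cert_tree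 lc_f_rc_14_3 lc_f_Cert_tree lc_f_rc_14_3 lc_f_rc_21_1 lc_f_rc_10_3 lc_f_Cert_tree lc_f_rc_20_1 lc_f_rc_21_1 lc_f_rc_20_1 lc_f_rc_19_3 lc_f_rc_21_1 lc_f_rc_19_5 lc_f_rc_21_1 lc_f_rc_20_1 lc_f_rc_10_3 lc_f_rc_17_3 lc_f_Cert_tree lc_f_rc_19_5 lc_f_rc_17_1 lc_f_rc_20_1 lc_f_rc_14_3 lc_f_Cert_tree lc_f_rc_14_3 lc_f_rc_21_1 lc_f_Cert_tree lc_f_rc_20_1) (@D3.rec (fun _ => (Cert rels S Gen.f)) lc_f_rc_21_1 lc_f_rc_20_1 lc_f_Cert_tree lc_f_rc_10_3 lc_f_rc_22_1 lc_f_Cert_tree lc_f_rc_21_1 lc_f_rc_20_1 lc_f_rc_20_1 lc_f_rc_10_3 lc_f_rc_14_3 lc_f_Cert_tree lc_f_rc_14_3 lc_f_rc_17_3 lc_f_Cert_tree lc_f_Cert_tree lc_f_rc_21_1 lc_f_rc_5_1 lc_f_Cert_tree lc_f_rc_20_1 lc_f_rc_14_3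 lc_f_rc_21_1 lc_f_rc_17_3 lc_f_Cert_tree lc_f_rc_20_1 lc_f_rc_19_3 lc_f_rc_17_3 lc_f_rc_21_1 lc_f_rc_14_3 lc_f_rc_14_3 lc_f_rc_10_3 lc_f_rc_17_3 lc_f_Cert_tree lc_f_rc_21_1 lc_f_rc_19_3 lc_f_rc_20_1 lc_f_rc_10_3 lc_f_rc_17_3 lc_f_rc_17_3 lc_f_rc_5_3 lc_f_rc_17_3 lc_f_rc_21_1 lc_f_rc_14_3 lc_f_Cert_tree lc_f_rc_10_1 lc_f_rc_14_3 lc_f_rc_14_3 lc_f_rc_14_3 lc_f_rc_10_3 lc_f_rc_17_3 lc_f_Cert_tree lc_f_rc_5_1 lc_f_rc_20_1 lc_f_rc_14_3 lc_f_rc_5_1 lc_f_rc_5_3 lc_f_rc_10_3 lc_f_rc_19_5 lc_f_rc_20_1 lc_f_rc_5_3 lc_f_rc_10_3 lc_f_rc_5_3) (@D3.rec (fun _ => (Cert rels S Gen.f)) lc_f_Cert_tree lc_f_rc_5_1 lc_f_rc_20_1 lc_f_rc_20_1 lc_f_rc_21_1 lc_f_rc_20_1 lc_f_rc_10_3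 lc_f_rc_10_3 lc_f_rc_19_3 lc_f_rc_5_3 lc_f_rc_20_1 lc_f_rc_14_3 lc_f_rc_21_1 lc_f_rc_20_1 lc_f_rc_17_3 lc_f_rc_19_5 lc_f_rc_14_1 lc_f_rc_21_1 lc_f_rc_10_3 lc_f_rc_22_1 lc_f_Cert_tree lc_f_rc_21_1 lc_f_rc_19_1 lc_f_rc_20_1 lc_f_rc_21_1 lc_f_rc_20_1 lc_f_rc_14_3 lc_f_rc_17_3 lc_f_rc_19_3 lc_f_rc_17_3 lc_f_rc_21_1 lc_f_rc_17_3 lc_f_rc_5_3 lc_f_rc_10_3 lc_f_rc_17_3 lc_f_rc_17_3 lc_f_rc_10_3 lc_f_rc_19_5 lc_f_rc_5_3 lc_f_rc_10_3 lc_f_rc_5_3 lc_f_rc_20_1 lc_f_rc_14_3 lc_f_rc_10_3 lc_f_rc_20_1 lc_f_rc_5_3 lc_f_rc_10_3 lc_f_rc_10_3 lc_f_rc_14_3 lc_f_rc_19_3 lc_f_rc_19_3 lc_f_rc_17_3 lc_f_rc_14_1 lc_f_rc_21_1 lc_f_rc_20_1 lc_f_rc_20_1 lc_f_rc_17_3 lc_f_rc_19_5 lc_f_rc_19_5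 lc_f_rc_10_3 lc_f_rc_14_3 lc_f_Cert_tree) (@D3.rec (fun _ => (Cert rels S Gen.f)) lc_f_rc_17_3 lc_f_rc_17_3 lc_f_rc_20_1 lc_f_rc_5_1 lc_f_rc_14_3 lc_f_rc_14_3 lc_f_rc_17_3 lc_f_rc_5_1 lc_f_rc_17_3 lc_f_rc_21_1 lc_f_Cert_tree lc_f_rc_20_1 lc_f_rc_10_3 lc_f_rc_14_3 lc_f_Cert_tree lc_f_rc_5_1 lc_f_rc_20_1 lc_f_rc_17_3 lc_f_rc_5_1 lc_f_Cert_tree lc_f_rc_19_5 lc_f_rc_20_1 lc_f_rc_10_3 lc_f_rc_5_3 lc_f_rc_20_1 lc_f_rc_20_1 lc_f_rc_5_3 lc_f_rc_21_1 lc_f_rc_14_3 lc_f_rc_22_1 lc_f_rc_20_1 lc_f_rc_21_1 lc_f_rc_20_1 lc_f_rc_17_3 lc_f_rc_5_3 lc_f_rc_17_3 lc_f_rc_21_1 lc_f_rc_17_3 lc_f_rc_14_3 lc_f_rc_14_3 lc_f_rc_21_1 lc_f_rc_10_3 lc_f_rc_19_3 lc_f_rc_14_3 lc_f_Cert_tree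 lc_f_rc_10_1 lc_f_Cert_tree lc_f_rc_19_3 lc_f_rc_20_1 lc_f_rc_20_1 lc_f_rc_17_3 lc_f_rc_14_1 lc_f_rc_20_1 lc_f_rc_19_3 lc_f_rc_17_1 lc_f_rc_10_1 lc_f_rc_14_1 lc_f_Cert_tree lc_f_rc_17_1 lc_f_rc_20_1 lc_f_rc_17_3 lc_f_rc_20_1) (@D3.rec (fun _ => (Cert rels S Gen.f)) lc_f_rc_20_1 lc_f_Cert_tree lc_f_rc_14_3 lc_f_rc_10_1 lc_f_rc_17_1 lc_f_Cert_tree lc_f_rc_20_1 lc_f_rc_21_1 lc_f_rc_20_1 lc_f_rc_20_1 lc_f_rc_19_1 lc_f_rc_5_1 lc_f_rc_17_3 lc_f_rc_17_1 lc_f_rc_20_1 lc_f_rc_14_1 lc_f_rc_5_1 lc_f_rc_20_1 lc_f_rc_17_3 lc_f_rc_21_1 lc_f_rc_20_1 lc_f_rc_10_1 lc_f_Cert_tree lc_f_rc_14_1 lc_f_rc_17_1 lc_f_rc_20_1 lc_f_rc_20_1 lc_f_rc_14_3 lc_f_rc_10_3 lc_f_rc_19_1 lc_f_rc_5_1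 lc_f_rc_14_3 lc_f_rc_17_3 lc_f_rc_17_3 lc_f_rc_17_3 lc_f_rc_21_1 lc_f_rc_20_1 lc_f_rc_14_3 lc_f_Cert_tree lc_f_rc_14_3 lc_f_rc_5_1 lc_f_Cert_tree lc_f_rc_20_1 lc_f_rc_20_1 lc_f_rc_10_3 lc_f_rc_17_3 lc_f_rc_19_3 lc_f_rc_5_1 lc_f_rc_5_1 lc_f_rc_5_1 lc_f_rc_20_1 lc_f_rc_19_3 lc_f_rc_20_1 lc_f_rc_20_1 lc_f_rc_14_3 lc_f_rc_10_3 lc_f_rc_10_1 lc_f_rc_14_3 lc_f_rc_14_3 lc_f_rc_17_3 lc_f_rc_20_1 lc_f_rc_17_3) (@D3.rec (fun _ => (Cert rels S Gen.f)) lc_f_rc_20_1 lc_f_rc_10_3 lc_f_rc_10_3 lc_f_rc_22_1 lc_f_rc_19_1 lc_f_rc_10_1 lc_f_rc_17_3 lc_f_Cert_tree lc_f_rc_10_3 lc_f_rc_17_3 lc_f_Cert_tree lc_f_rc_20_1 lc_f_rc_21_1 lc_f_Cert_tree lc_f_rc_20_1 lc_f_rc_21_1 lc_f_rc_17_3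 lc_f_rc_20_1 lc_f_rc_21_1 lc_f_rc_20_1 lc_f_rc_14_3 lc_f_rc_22_1 lc_f_rc_17_3 lc_f_rc_21_1 lc_f_rc_19_3 lc_f_rc_14_3 lc_f_rc_10_3 lc_f_rc_17_3 lc_f_rc_10_3 lc_f_rc_10_3 lc_f_rc_5_3 lc_f_Cert_tree lc_f_rc_20_1 lc_f_rc_20_1 lc_f_rc_14_3 lc_f_rc_17_3 lc_f_rc_14_3 lc_f_rc_14_3 lc_f_rc_19_5 lc_f_rc_17_3 lc_f_rc_14_3 lc_f_rc_14_1 lc_f_rc_14_3 lc_f_rc_10_3 lc_f_rc_14_1 lc_f_rc_14_3 lc_f_rc_5_1 lc_f_rc_14_3 lc_f_rc_10_3 lc_f_Cert_tree lc_f_rc_20_1 lc_f_rc_21_1 lc_f_rc_10_3 lc_f_rc_20_1 lc_f_rc_14_3 lc_f_rc_5_1 lc_f_rc_10_3 lc_f_rc_17_1 lc_f_rc_17_3 lc_f_rc_14_1 lc_f_rc_20_1 lc_f_rc_21_1) (@D3.rec (fun _ => (Cert rels S Gen.f)) lc_f_rc_21_1 lc_f_Cert_tree lc_f_rc_17_1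 lc_f_rc_20_1 lc_f_rc_14_3 lc_f_rc_5_1 lc_f_rc_14_3 lc_f_rc_17_3 lc_f_rc_10_3 lc_f_rc_5_1 lc_f_rc_14_1 lc_f_rc_17_1 lc_f_Cert_tree lc_f_Cert_tree lc_f_rc_20_1 lc_f_rc_20_1 lc_f_rc_10_3 lc_f_rc_5_1 lc_f_rc_17_3 lc_f_Cert_tree lc_f_rc_20_1 lc_f_rc_20_1 lc_f_rc_5_1 lc_f_rc_10_3 lc_f_rc_17_3 lc_f_rc_20_1 lc_f_rc_19_3 lc_f_rc_10_3 lc_f_rc_21_1 lc_f_rc_14_3 lc_f_rc_5_1 lc_f_rc_5_3 lc_f_rc_17_3 lc_f_Cert_tree lc_f_Cert_tree lc_f_Cert_tree lc_f_rc_20_1 lc_f_rc_14_3 lc_f_rc_19_5 lc_f_rc_10_3 lc_f_rc_5_1 lc_f_rc_5_3 lc_f_rc_14_3 lc_f_rc_17_3 lc_f_rc_10_3 lc_f_Cert_tree lc_f_rc_17_3 lc_f_rc_19_1 lc_f_Cert_tree lc_f_rc_10_3 lc_f_rc_20_1 lc_f_rc_10_3 lc_f_rc_10_3 lc_f_rc_10_3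 lc_f_rc_20_1 lc_f_rc_17_1 lc_f_Cert_tree lc_f_rc_20_1 lc_f_Cert_tree lc_f_rc_14_1 lc_f_rc_21_1 lc_f_rc_17_1) (@D3.rec (fun _ => (Cert rels S Gen.f)) lc_f_rc_20_1 lc_f_rc_14_3 lc_f_rc_14_1 lc_f_rc_17_1 lc_f_rc_20_1 lc_f_rc_5_3 lc_f_rc_5_3 lc_f_rc_20_1 lc_f_Cert_tree lc_f_rc_5_1 lc_f_rc_14_3 lc_f_rc_14_3 lc_f_rc_19_1 lc_f_rc_21_1 lc_f_rc_14_1 lc_f_rc_17_3 lc_f_rc_10_3 lc_f_rc_20_1 lc_f_rc_10_1 lc_f_rc_5_3 lc_f_rc_20_1 lc_f_Cert_tree lc_f_rc_5_1 lc_f_rc_20_1 lc_f_rc_20_1 lc_f_rc_21_1 lc_f_rc_20_1 lc_f_rc_14_1 lc_f_rc_10_1 lc_f_rc_10_3 lc_f_rc_5_1 lc_f_Cert_tree lc_f_rc_14_1 lc_f_rc_10_3 lc_f_rc_20_1 lc_f_rc_20_1 lc_f_rc_17_3 lc_f_rc_14_3 lc_f_rc_17_3 lc_f_rc_20_1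 lc_f_rc_20_1 lc_f_rc_10_3 lc_f_rc_17_1 lc_f_rc_14_3 lc_f_rc_17_3 lc_f_rc_14_3 lc_f_rc_21_1 lc_f_rc_20_1 lc_f_rc_10_3 lc_f_rc_17_3 lc_f_rc_21_1 lc_f_rc_17_3 lc_f_rc_20_1 lc_f_rc_19_5 lc_f_rc_17_3 lc_f_rc_17_3 lc_f_rc_14_1 lc_f_rc_19_1 lc_f_rc_17_3 lc_f_rc_17_3 lc_f_rc_5_1 lc_f_Cert_tree) (@D3.rec (fun _ => (Cert rels S Gen.f)) lc_f_rc_20_1 lc_f_rc_14_3 lc_f_rc_17_3 lc_f_rc_5_1 lc_f_rc_21_1 lc_f_rc_10_3 lc_f_rc_14_3 lc_f_Cert_tree lc_f_rc_20_1 lc_f_rc_17_3 lc_f_Cert_tree lc_f_rc_10_1 lc_f_rc_21_1 lc_f_Cert_tree lc_f_rc_14_3 lc_f_rc_21_1 lc_f_rc_10_3 lc_f_rc_19_3 lc_f_rc_14_3 lc_f_Cert_tree lc_f_rc_5_3 lc_f_rc_10_3 lc_f_Cert_tree lc_f_rc_17_1 lc_f_rc_20_1 lc_f_rc_20_1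 lc_f_rc_19_5 lc_f_rc_20_1 lc_f_rc_17_1 lc_f_rc_10_3 lc_f_rc_21_1 lc_f_rc_14_3 lc_f_rc_10_3 lc_f_rc_14_3 lc_f_rc_14_3 lc_f_rc_14_3 lc_f_rc_10_3 lc_f_rc_17_3 lc_f_rc_21_1 lc_f_rc_21_1 lc_f_rc_17_3 lc_f_rc_10_1 lc_f_rc_14_3 lc_f_Cert_tree lc_f_rc_10_1 lc_f_rc_14_3 lc_f_rc_14_3 lc_f_rc_17_3 lc_f_rc_14_3 lc_f_rc_20_1 lc_f_rc_10_3 lc_f_rc_5_3 lc_f_rc_14_3 lc_f_rc_10_3 lc_f_rc_21_1 lc_f_rc_5_3 lc_f_rc_10_1 lc_f_rc_14_3 lc_f_rc_17_1 lc_f_rc_14_3 lc_f_rc_14_3 lc_f_rc_10_3) (@D3.rec (fun _ => (Cert rels S Gen.f)) lc_f_rc_17_1 lc_f_rc_20_1 lc_f_rc_21_1 lc_f_rc_5_3 lc_f_rc_10_1 lc_f_rc_14_3 lc_f_rc_17_3 lc_f_rc_14_3 lc_f_rc_20_1 lc_f_rc_17_3 lc_f_rc_14_1 lc_f_rc_20_1 lc_f_rc_10_3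 lc_f_rc_21_1 lc_f_rc_17_3 lc_f_rc_19_1 lc_f_rc_17_3 lc_f_rc_21_1 lc_f_Cert_tree lc_f_rc_20_1 lc_f_rc_20_1 lc_f_rc_21_1 lc_f_rc_5_1 lc_f_rc_14_3 lc_f_rc_17_1 lc_f_rc_17_3 lc_f_rc_17_3 lc_f_Cert_tree lc_f_rc_20_1 lc_f_rc_17_3 lc_f_rc_19_3 lc_f_rc_5_3 lc_f_rc_14_3 lc_f_Cert_tree lc_f_rc_14_3 lc_f_rc_21_1 lc_f_Cert_tree lc_f_rc_20_1 lc_f_rc_21_1 lc_f_rc_17_3 lc_f_Cert_tree lc_f_rc_20_1 lc_f_rc_17_3 lc_f_rc_20_1 lc_f_Cert_tree lc_f_rc_10_3 lc_f_rc_17_3 lc_f_rc_20_1 lc_f_rc_20_1 lc_f_rc_14_3 lc_f_rc_5_1 lc_f_rc_20_1 lc_f_rc_21_1 lc_f_rc_14_3 lc_f_rc_20_1 lc_f_rc_14_1 lc_f_Cert_tree lc_f_rc_20_1 lc_f_rc_21_1 lc_f_Cert_tree lc_f_rc_20_1 lc_f_rc_17_3) (@D3.rec (fun _ =>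 (Cert rels S Gen.f)) lc_f_rc_17_3 lc_f_Cert_tree lc_f_rc_20_1 lc_f_rc_10_3 lc_f_rc_17_3 lc_f_rc_20_1 lc_f_rc_20_1 lc_f_rc_17_3 lc_f_rc_14_3 lc_f_rc_21_1 lc_f_rc_10_3 lc_f_Cert_tree lc_f_rc_21_1 lc_f_rc_19_5 lc_f_rc_20_1 lc_f_rc_17_3 lc_f_rc_5_1 lc_f_rc_14_3 lc_f_Cert_tree lc_f_rc_21_1 lc_f_rc_10_1 lc_f_rc_20_1 lc_f_rc_14_3 lc_f_rc_21_1 lc_f_Cert_tree lc_f_rc_20_1 lc_f_rc_17_3 lc_f_rc_17_3 lc_f_rc_20_1 lc_f_Cert_tree lc_f_rc_20_1 lc_f_Cert_tree lc_f_rc_20_1 lc_f_rc_14_3 lc_f_Cert_tree lc_f_rc_21_1 lc_f_rc_17_3 lc_f_rc_5_3 lc_f_Cert_tree lc_f_rc_5_1 lc_f_rc_17_3 lc_f_Cert_tree lc_f_rc_21_1 lc_f_rc_10_3 lc_f_Cert_tree lc_f_rc_20_1 lc_f_rc_5_3 lc_f_Cert_tree lc_f_rc_10_3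 lc_f_rc_10_3 lc_f_rc_22_1 lc_f_Cert_tree lc_f_rc_10_1 lc_f_rc_17_3 lc_f_Cert_tree lc_f_rc_5_1 lc_f_rc_10_3 lc_f_Cert_tree lc_f_rc_20_1 lc_f_rc_19_5 lc_f_rc_17_3 lc_f_rc_17_3) (@D3.rec (fun _ => (Cert rels S Gen.f)) lc_f_rc_10_1 lc_f_Cert_tree lc_f_rc_17_3 lc_f_rc_20_1 lc_f_rc_14_3 lc_f_Cert_tree lc_f_rc_22_1 lc_f_rc_19_3 lc_f_rc_20_1 lc_f_rc_17_1 lc_f_Cert_tree lc_f_Cert_tree lc_f_rc_20_1 lc_f_rc_20_1 lc_f_rc_10_3 lc_f_rc_17_3 lc_f_rc_17_3 lc_f_rc_14_3 lc_f_rc_20_1 lc_f_rc_5_1 lc_f_rc_17_1 lc_f_rc_20_1 lc_f_rc_21_1 lc_f_rc_10_3 lc_f_rc_17_1 lc_f_rc_20_1 lc_f_rc_14_3 lc_f_rc_17_3 lc_f_rc_19_5 lc_f_rc_14_3 lc_f_rc_10_3 lc_f_rc_17_3 lc_f_rc_21_1 lc_f_rc_14_1 lc_f_rc_20_1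 lc_f_Cert_tree lc_f_rc_14_3 lc_f_rc_17_3 lc_f_rc_10_3 lc_f_rc_21_1 lc_f_rc_17_3 lc_f_rc_5_1 lc_f_Cert_tree lc_f_Cert_tree lc_f_rc_20_1 lc_f_rc_14_3 lc_f_rc_14_3 lc_f_rc_14_1 lc_f_rc_10_3 lc_f_Cert_tree lc_f_rc_20_1 lc_f_rc_21_1 lc_f_rc_5_3 lc_f_Cert_tree lc_f_rc_20_1 lc_f_rc_20_1 lc_f_rc_14_1 lc_f_rc_14_3 lc_f_Cert_tree lc_f_rc_20_1 lc_f_Cert_tree lc_f_rc_5_1) (@D3.rec (fun _ => (Cert rels S Gen.f)) lc_f_rc_14_3 lc_f_Cert_tree lc_f_rc_20_1 lc_f_rc_14_1 lc_f_rc_10_3 lc_f_rc_5_3 lc_f_rc_20_1 lc_f_rc_20_1 lc_f_rc_17_3 lc_f_rc_19_5 lc_f_rc_21_1 lc_f_rc_14_1 lc_f_rc_20_1 lc_f_rc_17_3 lc_f_rc_20_1 lc_f_rc_17_1 lc_f_rc_17_3 lc_f_rc_17_1 lc_f_rc_14_3 lc_f_Cert_tree lc_f_rc_20_1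 lc_f_rc_14_3 lc_f_rc_10_1 lc_f_Cert_tree lc_f_rc_10_3 lc_f_rc_17_3 lc_f_rc_20_1 lc_f_rc_20_1 lc_f_Cert_tree lc_f_rc_17_3 lc_f_rc_10_3 lc_f_rc_20_1 lc_f_rc_20_1 lc_f_rc_14_1 lc_f_rc_17_3 lc_f_Cert_tree lc_f_rc_17_3 lc_f_Cert_tree lc_f_rc_14_3 lc_f_rc_14_3 lc_f_Cert_tree lc_f_rc_22_1 lc_f_rc_20_1 lc_f_rc_19_3 lc_f_rc_10_1 lc_f_Cert_tree lc_f_rc_21_1 lc_f_rc_20_1 lc_f_rc_17_3 lc_f_rc_10_3 lc_f_rc_10_3 lc_f_rc_17_1 lc_f_rc_21_1 lc_f_rc_5_1 lc_f_rc_17_1 lc_f_rc_20_1 lc_f_rc_19_5 lc_f_rc_14_1 lc_f_rc_21_1 lc_f_rc_20_1 lc_f_rc_17_1 lc_f_rc_22_1) (@D3.rec (fun _ => (Cert rels S Gen.f)) lc_f_rc_17_3 lc_f_rc_20_1 lc_f_rc_14_3 lc_f_rc_14_1 lc_f_rc_14_3 lc_f_rc_10_3 lc_f_rc_21_1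 lc_f_rc_20_1 lc_f_rc_10_1 lc_f_rc_5_3 lc_f_rc_14_3 lc_f_rc_19_3 lc_f_rc_19_3 lc_f_rc_19_5 lc_f_rc_5_3 lc_f_rc_10_3 lc_f_rc_10_3 lc_f_rc_10_3 lc_f_rc_19_5 lc_f_rc_14_3 lc_f_rc_14_3 lc_f_Cert_tree lc_f_rc_20_1 lc_f_rc_20_1 lc_f_rc_14_3 lc_f_Cert_tree lc_f_rc_14_3 lc_f_rc_21_1 lc_f_Cert_tree lc_f_rc_20_1 lc_f_rc_20_1 lc_f_rc_21_1 lc_f_rc_20_1 lc_f_rc_19_5 lc_f_rc_10_3 lc_f_rc_17_3 lc_f_rc_14_3 lc_f_rc_17_3 lc_f_rc_14_3 lc_f_rc_19_1 lc_f_rc_20_1 lc_f_rc_21_1 lc_f_rc_21_1 lc_f_rc_20_1 lc_f_rc_14_3 lc_f_rc_22_1 lc_f_rc_14_3 lc_f_rc_17_3 lc_f_rc_14_3 lc_f_rc_14_1 lc_f_rc_10_3 lc_f_rc_10_3 lc_f_rc_14_3 lc_f_rc_21_1 lc_f_rc_10_3 lc_f_rc_14_3 lc_f_rc_17_1 lc_f_rc_20_1 lc_f_Cert_tree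 lc_f_Cert_tree lc_f_rc_20_1 lc_f_rc_20_1) (@D3.rec (fun _ => (Cert rels S Gen.f)) lc_f_rc_5_1 lc_f_rc_10_3 lc_f_rc_10_3 lc_f_rc_14_3 lc_f_rc_20_1 lc_f_rc_19_1 lc_f_rc_17_3 lc_f_rc_20_1 lc_f_rc_10_3 lc_f_rc_14_3 lc_f_rc_5_1 lc_f_rc_10_3 lc_f_rc_14_3 lc_f_rc_14_1 lc_f_rc_22_1 lc_f_rc_17_3 lc_f_rc_5_1 lc_f_rc_20_1 lc_f_rc_17_1 lc_f_rc_20_1 lc_f_rc_14_3 lc_f_rc_20_1 lc_f_rc_21_1 lc_f_rc_14_1 lc_f_rc_14_1 lc_f_rc_17_1 lc_f_rc_22_1 lc_f_Cert_tree lc_f_rc_21_1 lc_f_rc_21_1 lc_f_rc_20_1 lc_f_rc_20_1 lc_f_rc_20_1 lc_f_rc_20_1 lc_f_rc_20_1 lc_f_rc_14_1 lc_f_rc_5_3 lc_f_rc_20_1 lc_f_rc_21_1 lc_f_rc_21_1 lc_f_rc_20_1 lc_f_rc_14_3 lc_f_Cert_tree lc_f_rc_14_3 lc_f_rc_5_1 lc_f_rc_21_1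 lc_f_rc_21_1 lc_f_rc_14_3 lc_f_rc_17_3 lc_f_rc_20_1 lc_f_rc_14_3 lc_f_rc_10_1 lc_f_rc_21_1 lc_f_Cert_tree lc_f_Cert_tree lc_f_rc_20_1 lc_f_rc_5_1 lc_f_rc_17_3 lc_f_rc_5_3 lc_f_rc_14_3 lc_f_rc_17_3 lc_f_rc_20_1) (@D3.rec (fun _ => (Cert rels S Gen.f)) lc_f_rc_10_3 lc_f_rc_20_1 lc_f_rc_10_3 lc_f_rc_20_1 lc_f_rc_20_1 lc_f_rc_19_1 lc_f_rc_17_1 lc_f_rc_10_1 lc_f_rc_10_1 lc_f_rc_10_3 lc_f_rc_5_1 lc_f_rc_10_3 lc_f_rc_20_1 lc_f_rc_17_3 lc_f_rc_21_1 lc_f_rc_14_3 lc_f_rc_17_3 lc_f_rc_10_1 lc_f_rc_10_3 lc_f_rc_14_3 lc_f_rc_5_1 lc_f_Cert_tree lc_f_rc_20_1 lc_f_rc_5_3 lc_f_rc_5_1 lc_f_rc_10_3 lc_f_rc_20_1 lc_f_rc_10_1 lc_f_Cert_tree lc_f_rc_17_3 lc_f_rc_5_1 lc_f_rc_19_5 lc_f_rc_20_1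 lc_f_rc_5_3 lc_f_rc_14_3 lc_f_rc_10_3 lc_f_rc_10_3 lc_f_rc_14_3 lc_f_Cert_tree lc_f_rc_20_1 lc_f_rc_5_1 lc_f_rc_17_1 lc_f_rc_20_1 lc_f_rc_10_3 lc_f_rc_5_3 lc_f_rc_17_3 lc_f_rc_10_3 lc_f_rc_14_3 lc_f_rc_10_1 lc_f_rc_17_3 lc_f_rc_20_1 lc_f_rc_17_3 lc_f_rc_5_3 lc_f_rc_10_1 lc_f_Cert_tree lc_f_rc_5_1 lc_f_rc_5_1 lc_f_rc_14_3 lc_f_rc_17_3 lc_f_rc_20_1 lc_f_rc_20_1 lc_f_rc_10_3) (@D3.rec (fun _ => (Cert rels S Gen.f)) lc_f_rc_10_1 lc_f_rc_19_1 lc_f_rc_21_1 lc_f_Cert_tree lc_f_rc_20_1 lc_f_rc_20_1 lc_f_rc_20_1 lc_f_rc_17_3 lc_f_rc_20_1 lc_f_rc_10_3 lc_f_rc_10_3 lc_f_rc_17_3 lc_f_rc_10_3 lc_f_Cert_tree lc_f_rc_17_3 lc_f_rc_20_1 lc_f_rc_17_3 lc_f_Cert_tree lc_f_rc_22_1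 lc_f_Cert_tree lc_f_rc_20_1 lc_f_rc_10_3 lc_f_Cert_tree lc_f_rc_17_3 lc_f_rc_10_1 lc_f_rc_14_3 lc_f_Cert_tree lc_f_rc_20_1 lc_f_rc_10_3 lc_f_rc_14_1 lc_f_rc_14_1 lc_f_rc_20_1 lc_f_rc_14_3 lc_f_rc_20_1 lc_f_rc_21_1 lc_f_rc_20_1 lc_f_rc_20_1 lc_f_rc_20_1 lc_f_rc_14_3 lc_f_rc_10_3 lc_f_rc_20_1 lc_f_rc_10_3 lc_f_rc_21_1 lc_f_rc_20_1 lc_f_rc_20_1 lc_f_rc_5_1 lc_f_rc_14_1 lc_f_rc_17_3 lc_f_rc_10_3 lc_f_rc_14_3 lc_f_rc_17_3 lc_f_rc_17_3 lc_f_rc_17_3 lc_f_rc_17_3 lc_f_rc_17_3 lc_f_rc_21_1 lc_f_rc_19_3 lc_f_rc_14_3 lc_f_rc_17_3 lc_f_rc_14_3 lc_f_rc_17_3 lc_f_rc_5_3) (@D3.rec (fun _ => (Cert rels S Gen.f)) lc_f_rc_20_1 lc_f_rc_17_3 lc_f_rc_14_3 lc_f_rc_17_3 lc_f_rc_10_3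 lc_f_rc_5_1 lc_f_rc_17_3 lc_f_rc_20_1 lc_f_rc_14_3 lc_f_Cert_tree lc_f_rc_17_3 lc_f_rc_5_3 lc_f_rc_21_1 lc_f_rc_21_1 lc_f_rc_5_3 lc_f_rc_20_1 lc_f_Cert_tree lc_f_rc_20_1 lc_f_rc_17_3 lc_f_Cert_tree lc_f_rc_14_3 lc_f_rc_20_1 lc_f_rc_20_1 lc_f_rc_20_1 lc_f_rc_20_1 lc_f_rc_17_3 lc_f_rc_5_3 lc_f_rc_20_1 lc_f_rc_17_3 lc_f_rc_14_3 lc_f_rc_20_1 lc_f_rc_21_1 lc_f_rc_14_3 lc_f_rc_21_1 lc_f_rc_21_1 lc_f_rc_21_1 lc_f_rc_10_3 lc_f_rc_20_1 lc_f_rc_20_1 lc_f_rc_10_3 lc_f_rc_20_1 lc_f_rc_21_1 lc_f_rc_14_3 lc_f_rc_21_1 lc_f_rc_5_3 lc_f_rc_20_1 lc_f_rc_10_3 lc_f_rc_14_3 lc_f_rc_20_1 lc_f_rc_20_1 lc_f_rc_20_1 lc_f_rc_14_3 lc_f_rc_10_1 lc_f_rc_19_1 lc_f_rc_14_3 lc_f_rc_14_3 lc_f_rc_17_1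 lc_f_rc_21_1 lc_f_rc_20_1 lc_f_rc_14_3 lc_f_rc_10_3 lc_f_rc_19_3) (@D3.rec (fun _ => (Cert rels S Gen.f)) lc_f_rc_17_3 lc_f_rc_21_1 lc_f_rc_5_3 lc_f_rc_19_1 lc_f_rc_10_3 lc_f_rc_5_1 lc_f_rc_17_3 lc_f_rc_10_3 lc_f_rc_21_1 lc_f_rc_20_1 lc_f_rc_21_1 lc_f_rc_10_1 lc_f_rc_19_3 lc_f_rc_10_3 lc_f_rc_17_3 lc_f_rc_5_1 lc_f_rc_14_3 lc_f_rc_10_3 lc_f_rc_21_1 lc_f_rc_10_3 lc_f_rc_17_3 lc_f_rc_10_3 lc_f_rc_21_1 lc_f_rc_14_3 lc_f_rc_14_3 lc_f_rc_19_3 lc_f_rc_17_3 lc_f_rc_17_1 lc_f_rc_17_3 lc_f_rc_17_1 lc_f_Cert_tree lc_f_rc_20_1 lc_f_rc_21_1 lc_f_rc_20_1 lc_f_Cert_tree lc_f_rc_17_1 lc_f_rc_14_3 lc_f_rc_10_3 lc_f_rc_14_1 lc_f_rc_17_3 lc_f_rc_10_1 lc_f_rc_5_3 lc_f_rc_14_3 lc_f_rc_19_1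 lc_f_rc_21_1 lc_f_rc_22_1 lc_f_rc_14_3 lc_f_rc_14_3 lc_f_Cert_tree lc_f_rc_21_1 lc_f_rc_10_1 lc_f_rc_5_3 lc_f_rc_14_3 lc_f_rc_10_3 lc_f_rc_21_1 lc_f_Cert_tree lc_f_rc_5_1 lc_f_rc_20_1 lc_f_rc_20_1 lc_f_rc_20_1 lc_f_rc_10_1 lc_f_rc_5_3) (@D3.rec (fun _ => (Cert rels S Gen.f)) lc_f_Cert_tree lc_f_rc_14_3 lc_f_rc_19_1 lc_f_rc_17_1 lc_f_rc_20_1 lc_f_rc_14_3 lc_f_rc_19_5 lc_f_rc_19_1 lc_f_rc_22_1 lc_f_Cert_tree lc_f_rc_20_1 lc_f_rc_21_1 lc_f_rc_10_3 lc_f_rc_14_1 lc_f_Cert_tree lc_f_rc_21_1 lc_f_rc_20_1 lc_f_rc_20_1 lc_f_rc_21_1 lc_f_rc_10_3 lc_f_rc_17_3 lc_f_Cert_tree lc_f_rc_17_1 lc_f_rc_20_1 lc_f_rc_19_5 lc_f_rc_5_3 lc_f_rc_20_1 lc_f_Cert_tree lc_f_rc_14_1 lc_f_rc_20_1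 lc_f_Cert_tree lc_f_rc_20_1 lc_f_rc_20_1 lc_f_rc_14_1 lc_f_rc_5_1 lc_f_Cert_tree lc_f_rc_5_3 lc_f_rc_20_1 lc_f_rc_5_1 lc_f_rc_10_3 lc_f_Cert_tree lc_f_rc_14_1 lc_f_rc_21_1 lc_f_rc_20_1 lc_f_rc_5_1 lc_f_rc_14_3 lc_f_rc_14_3 lc_f_rc_17_3 lc_f_rc_17_3 lc_f_rc_14_3 lc_f_rc_17_1 lc_f_rc_19_5 lc_f_rc_17_3 lc_f_rc_14_3 lc_f_rc_14_1 lc_f_rc_21_1 lc_f_rc_14_3 lc_f_rc_10_3 lc_f_rc_22_1 lc_f_rc_17_3 lc_f_rc_5_1 lc_f_rc_17_3) (@D3.rec (fun _ => (Cert rels S Gen.f)) lc_f_rc_10_3 lc_f_rc_19_1 lc_f_rc_20_1 lc_f_rc_14_3 lc_f_Cert_tree lc_f_rc_14_3 lc_f_rc_10_3 lc_f_rc_21_1 lc_f_Cert_tree lc_f_rc_20_1 lc_f_rc_21_1 lc_f_rc_20_1 lc_f_rc_10_3 lc_f_rc_5_1 lc_f_rc_14_3 lc_f_rc_22_1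 lc_f_rc_20_1 lc_f_rc_10_3 lc_f_rc_19_3 lc_f_rc_21_1 lc_f_rc_14_1 lc_f_rc_19_3 lc_f_rc_21_1 lc_f_rc_20_1 lc_f_rc_10_3 lc_f_rc_17_3 lc_f_rc_21_1 lc_f_rc_10_3 lc_f_rc_19_3 lc_f_Cert_tree lc_f_rc_20_1 lc_f_rc_10_3 lc_f_rc_10_1 lc_f_rc_17_1 lc_f_rc_21_1 lc_f_Cert_tree lc_f_rc_20_1 lc_f_rc_17_1 lc_f_Cert_tree lc_f_rc_14_1 lc_f_Cert_tree lc_f_rc_21_1 lc_f_rc_17_1 lc_f_Cert_tree lc_f_rc_20_1 lc_f_rc_21_1 lc_f_rc_17_3 lc_f_rc_10_3 lc_f_rc_17_3 lc_f_Cert_tree lc_f_rc_19_3 lc_f_rc_17_3 lc_f_Cert_tree lc_f_rc_17_3 lc_f_Cert_tree lc_f_rc_20_1 lc_f_rc_22_1 lc_f_Cert_tree lc_f_rc_17_3 lc_f_Cert_tree lc_f_rc_14_3 lc_f_rc_17_1) (@D3.rec (fun _ => (Cert rels S Gen.f)) lc_f_rc_19_3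 lc_f_rc_14_3 lc_f_Cert_tree lc_f_rc_22_1 lc_f_rc_17_3 lc_f_rc_5_1 lc_f_Cert_tree lc_f_rc_14_3 lc_f_rc_14_3 lc_f_Cert_tree lc_f_rc_5_1 lc_f_rc_20_1 lc_f_rc_14_3 lc_f_rc_5_3 lc_f_rc_14_3 lc_f_rc_10_3 lc_f_rc_17_3 lc_f_Cert_tree lc_f_rc_21_1 lc_f_Cert_tree lc_f_rc_20_1 lc_f_rc_14_1 lc_f_Cert_tree lc_f_rc_14_1 lc_f_rc_20_1 lc_f_rc_14_3 lc_f_rc_17_3 lc_f_rc_19_3 lc_f_rc_10_1 lc_f_rc_19_3 lc_f_rc_22_1 lc_f_rc_20_1 lc_f_rc_20_1 lc_f_rc_21_1 lc_f_rc_14_3 lc_f_Cert_tree lc_f_rc_21_1 lc_f_rc_20_1 lc_f_rc_19_3 lc_f_rc_21_1 lc_f_rc_20_1 lc_f_rc_10_3 lc_f_rc_14_1 lc_f_rc_20_1 lc_f_rc_21_1 lc_f_rc_17_3 lc_f_rc_14_3 lc_f_rc_14_3 lc_f_rc_20_1 lc_f_rc_14_3 lc_f_rc_21_1 lc_f_rc_20_1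 lc_f_rc_19_3 lc_f_rc_22_1 lc_f_rc_14_3 lc_f_rc_17_3 lc_f_rc_14_3 lc_f_rc_17_1 lc_f_rc_20_1 lc_f_rc_10_3 lc_f_rc_14_3 lc_f_rc_17_3) (@D3.rec (fun _ => (Cert rels S Gen.f)) lc_f_rc_17_3 lc_f_rc_19_1 lc_f_rc_17_3 lc_f_rc_21_1 lc_f_rc_20_1 lc_f_rc_20_1 lc_f_rc_20_1 lc_f_rc_14_3 lc_f_rc_14_3 lc_f_rc_14_1 lc_f_rc_5_1 lc_f_rc_21_1 lc_f_rc_5_3 lc_f_rc_19_1 lc_f_rc_10_3 lc_f_rc_14_3 lc_f_rc_17_1 lc_f_rc_10_3 lc_f_rc_20_1 lc_f_rc_20_1 lc_f_rc_20_1 lc_f_rc_10_3 lc_f_rc_14_1 lc_f_rc_14_3 lc_f_rc_5_3 lc_f_rc_19_1 lc_f_rc_5_3 lc_f_rc_5_3 lc_f_rc_10_3 lc_f_rc_17_3 lc_f_rc_21_1 lc_f_rc_21_1 lc_f_rc_14_3 lc_f_rc_20_1 lc_f_rc_5_3 lc_f_rc_10_3 lc_f_rc_20_1 lc_f_rc_21_1 lc_f_rc_14_3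 lc_f_rc_5_1 lc_f_rc_14_3 lc_f_rc_10_3 lc_f_rc_17_3 lc_f_rc_14_1 lc_f_rc_5_3 lc_f_rc_14_3 lc_f_rc_19_5 lc_f_rc_10_3 lc_f_rc_14_3 lc_f_rc_22_1 lc_f_rc_5_3 lc_f_rc_20_1 lc_f_rc_14_3 lc_f_rc_21_1 lc_f_rc_20_1 lc_f_rc_21_1 lc_f_rc_5_1 lc_f_rc_17_3 lc_f_rc_10_3 lc_f_rc_19_5 lc_f_rc_14_3 lc_f_rc_17_3) (@D3.rec (fun _ => (Cert rels S Gen.f)) lc_f_rc_10_3 lc_f_rc_21_1 lc_f_rc_5_1 lc_f_rc_20_1 lc_f_rc_14_3 lc_f_rc_10_3 lc_f_rc_19_1 lc_f_rc_10_3 lc_f_rc_19_1 lc_f_rc_17_1 lc_f_rc_10_3 lc_f_rc_20_1 lc_f_rc_10_3 lc_f_rc_17_3 lc_f_rc_20_1 lc_f_rc_10_3 lc_f_rc_10_3 lc_f_rc_20_1 lc_f_rc_19_5 lc_f_rc_21_1 lc_f_Cert_tree lc_f_rc_21_1 lc_f_rc_5_1 lc_f_Cert_tree lc_f_rc_20_1 lc_f_rc_21_1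 lc_f_rc_17_3 lc_f_rc_20_1 lc_f_rc_22_1 lc_f_rc_20_1 lc_f_Cert_tree lc_f_rc_20_1 lc_f_rc_14_3 lc_f_rc_20_1 lc_f_rc_14_3 lc_f_rc_17_3 lc_f_rc_21_1 lc_f_rc_20_1 lc_f_rc_10_3 lc_f_rc_22_1 lc_f_Cert_tree lc_f_rc_21_1 lc_f_rc_20_1 lc_f_rc_20_1 lc_f_rc_10_3 lc_f_rc_21_1 lc_f_rc_5_3 lc_f_Cert_tree lc_f_Cert_tree lc_f_rc_20_1 lc_f_rc_14_3 lc_f_rc_14_3 lc_f_rc_17_3 lc_f_rc_20_1 lc_f_Cert_tree lc_f_rc_20_1 lc_f_rc_14_3 lc_f_rc_10_3 lc_f_rc_22_1 lc_f_rc_17_3 lc_f_rc_10_3 lc_f_rc_5_3) (@D3.rec (fun _ => (Cert rels S Gen.f)) lc_f_rc_20_1 lc_f_rc_20_1 lc_f_rc_17_3 lc_f_rc_10_3 lc_f_rc_5_1 lc_f_rc_10_3 lc_f_rc_19_1 lc_f_rc_14_1 lc_f_rc_17_3 lc_f_rc_21_1 lc_f_rc_21_1 lc_f_rc_17_1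 lc_f_rc_14_3 lc_f_rc_14_3 lc_f_rc_5_3 lc_f_rc_14_3 lc_f_rc_19_1 lc_f_rc_21_1 lc_f_rc_20_1 lc_f_rc_20_1 lc_f_rc_10_3 lc_f_Cert_tree lc_f_rc_17_3 lc_f_rc_20_1 lc_f_rc_19_1 lc_f_rc_14_3 lc_f_rc_5_1 lc_f_rc_20_1 lc_f_rc_5_1 lc_f_rc_10_3 lc_f_rc_10_3 lc_f_Cert_tree lc_f_rc_14_3 lc_f_rc_5_1 lc_f_rc_20_1 lc_f_rc_21_1 lc_f_rc_17_1 lc_f_rc_20_1 lc_f_rc_21_1 lc_f_rc_17_3 lc_f_rc_5_3 lc_f_Cert_tree lc_f_Cert_tree lc_f_rc_5_1 lc_f_rc_14_1 lc_f_Cert_tree lc_f_rc_20_1 lc_f_rc_20_1 lc_f_rc_5_1 lc_f_rc_19_3 lc_f_rc_20_1 lc_f_rc_20_1 lc_f_rc_10_3 lc_f_rc_20_1 lc_f_rc_10_3 lc_f_rc_14_3 lc_f_rc_14_1 lc_f_rc_19_5 lc_f_rc_20_1 lc_f_rc_17_3 lc_f_rc_21_1 lc_f_Cert_tree) (@D3.rec (fun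 _ => (Cert rels S Gen.f)) lc_f_Cert_tree lc_f_rc_21_1 lc_f_rc_20_1 lc_f_rc_10_3 lc_f_rc_14_3 lc_f_Cert_tree lc_f_rc_17_3 lc_f_rc_20_1 lc_f_rc_10_3 lc_f_Cert_tree lc_f_rc_21_1 lc_f_rc_17_3 lc_f_Cert_tree lc_f_Cert_tree lc_f_rc_14_3 lc_f_rc_20_1 lc_f_rc_14_3 lc_f_Cert_tree lc_f_rc_21_1 lc_f_rc_20_1 lc_f_rc_20_1 lc_f_rc_17_3 lc_f_rc_21_1 lc_f_Cert_tree lc_f_rc_14_3 lc_f_rc_21_1 lc_f_Cert_tree lc_f_rc_20_1 lc_f_rc_20_1 lc_f_rc_19_3 lc_f_rc_17_1 lc_f_rc_19_5 lc_f_rc_14_3 lc_f_rc_19_3 lc_f_rc_10_3 lc_f_Cert_tree lc_f_rc_20_1 lc_f_rc_21_1 lc_f_rc_20_1 lc_f_rc_19_3 lc_f_rc_5_1 lc_f_rc_20_1 lc_f_Cert_tree lc_f_rc_20_1 lc_f_rc_14_1 lc_f_rc_10_3 lc_f_rc_20_1 lc_f_rc_20_1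 lc_f_rc_17_1 lc_f_rc_20_1 lc_f_rc_14_3 lc_f_rc_21_1 lc_f_rc_17_3 lc_f_Cert_tree lc_f_rc_14_3 lc_f_rc_22_1 lc_f_Cert_tree lc_f_rc_20_1 lc_f_rc_21_1 lc_f_rc_20_1 lc_f_rc_5_3 lc_f_rc_14_3) (@D3.rec (fun _ => (Cert rels S Gen.f)) lc_f_rc_21_1 lc_f_rc_20_1 lc_f_rc_21_1 lc_f_rc_14_3 lc_f_rc_10_3 lc_f_rc_21_1 lc_f_rc_10_3 lc_f_rc_20_1 lc_f_rc_17_3 lc_f_Cert_tree lc_f_rc_14_3 lc_f_rc_17_3 lc_f_Cert_tree lc_f_rc_21_1 lc_f_rc_20_1 lc_f_rc_14_3 lc_f_rc_21_1 lc_f_rc_20_1 lc_f_rc_21_1 lc_f_rc_20_1 lc_f_rc_21_1 lc_f_rc_5_3 lc_f_rc_17_1 lc_f_Cert_tree lc_f_rc_14_3 lc_f_rc_20_1 lc_f_rc_14_3 lc_f_rc_20_1 lc_f_rc_20_1 lc_f_rc_21_1 lc_f_rc_17_3 lc_f_rc_20_1 lc_f_rc_22_1 lc_f_rc_19_5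 lc_f_rc_17_1 lc_f_Cert_tree lc_f_rc_14_3 lc_f_rc_21_1 lc_f_rc_10_1 lc_f_rc_10_3 lc_f_rc_10_3 lc_f_rc_5_3 lc_f_rc_20_1 lc_f_rc_22_1 lc_f_rc_20_1 lc_f_rc_20_1 lc_f_rc_21_1 lc_f_rc_21_1 lc_f_rc_20_1 lc_f_rc_19_3 lc_f_rc_5_3 lc_f_Cert_tree lc_f_rc_22_1 lc_f_rc_14_1 lc_f_rc_17_3 lc_f_rc_17_1 lc_f_rc_20_1 lc_f_rc_14_3 lc_f_rc_5_1 lc_f_rc_5_1 lc_f_Cert_tree lc_f_rc_20_1) (@D3.rec (fun _ => (Cert rels S Gen.f)) lc_f_rc_14_3 lc_f_rc_5_1 lc_f_rc_20_1 lc_f_rc_10_1 lc_f_rc_14_1 lc_f_rc_10_3 lc_f_rc_5_3 lc_f_rc_20_1 lc_f_rc_10_3 lc_f_rc_10_3 lc_f_rc_14_3 lc_f_rc_14_3 lc_f_rc_19_3 lc_f_Cert_tree lc_f_rc_17_3 lc_f_rc_14_3 lc_f_rc_17_3 lc_f_rc_20_1 lc_f_rc_20_1 lc_f_rc_10_3 lc_f_rc_10_3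 lc_f_rc_17_1 lc_f_rc_20_1 lc_f_rc_10_3 lc_f_rc_10_3 lc_f_rc_17_3 lc_f_rc_21_1 lc_f_Cert_tree lc_f_rc_5_1 lc_f_rc_10_3 lc_f_rc_21_1 lc_f_rc_19_5 lc_f_rc_10_3 lc_f_rc_20_1 lc_f_rc_10_1 lc_f_rc_5_1 lc_f_rc_20_1 lc_f_rc_21_1 lc_f_rc_19_5 lc_f_rc_20_1 lc_f_rc_14_3 lc_f_rc_5_1 lc_f_rc_5_1 lc_f_Cert_tree lc_f_rc_20_1 lc_f_rc_20_1 lc_f_rc_21_1 lc_f_rc_5_3 lc_f_rc_17_3 lc_f_rc_10_3 lc_f_rc_21_1 lc_f_rc_14_3 lc_f_rc_17_3 lc_f_rc_20_1 lc_f_rc_10_1 lc_f_rc_10_3 lc_f_rc_14_1 lc_f_rc_21_1 lc_f_rc_21_1 lc_f_rc_20_1 lc_f_rc_17_3 lc_f_rc_19_3) (@D3.rec (fun _ => (Cert rels S Gen.f)) lc_f_rc_10_3 lc_f_rc_5_1 lc_f_rc_10_3 lc_f_Cert_tree lc_f_rc_20_1 lc_f_rc_10_3 lc_f_rc_17_1 lc_f_Cert_tree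 lc_f_rc_17_3 lc_f_rc_20_1 lc_f_rc_20_1 lc_f_rc_17_3 lc_f_Cert_tree lc_f_rc_20_1 lc_f_rc_10_1 lc_f_rc_17_3 lc_f_rc_10_1 lc_f_rc_20_1 lc_f_rc_14_1 lc_f_rc_5_3 lc_f_rc_14_3 lc_f_rc_5_3 lc_f_rc_17_1 lc_f_rc_20_1 lc_f_rc_10_3 lc_f_rc_17_3 lc_f_rc_14_3 lc_f_rc_10_3 lc_f_rc_20_1 lc_f_rc_20_1 lc_f_rc_17_3 lc_f_Cert_tree lc_f_rc_14_3 lc_f_Cert_tree lc_f_rc_20_1 lc_f_rc_10_1 lc_f_rc_17_3 lc_f_rc_14_3 lc_f_rc_22_1 lc_f_rc_20_1 lc_f_rc_5_1 lc_f_rc_14_1 lc_f_rc_5_3 lc_f_rc_20_1 lc_f_rc_14_3 lc_f_rc_14_1 lc_f_rc_14_1 lc_f_rc_17_3 lc_f_rc_14_3 lc_f_rc_17_3 lc_f_rc_5_3 lc_f_rc_19_3 lc_f_rc_21_1 lc_f_rc_21_1 lc_f_rc_14_3 lc_f_rc_10_3 lc_f_rc_14_3 lc_f_rc_14_1 lc_f_rc_20_1 lc_f_rc_5_3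 lc_f_rc_19_3 lc_f_rc_14_3) (@D3.rec (fun _ => (Cert rels S Gen.f)) lc_f_rc_19_3 lc_f_rc_20_1 lc_f_rc_5_1 lc_f_rc_20_1 lc_f_rc_21_1 lc_f_rc_20_1 lc_f_rc_20_1 lc_f_rc_10_3 lc_f_rc_21_1 lc_f_rc_10_3 lc_f_Cert_tree lc_f_rc_10_3 lc_f_rc_20_1 lc_f_rc_20_1 lc_f_rc_19_5 lc_f_rc_20_1 lc_f_rc_20_1 lc_f_rc_20_1 lc_f_rc_21_1 lc_f_rc_5_3 lc_f_rc_17_3 lc_f_rc_14_3 lc_f_rc_21_1 lc_f_rc_10_3 lc_f_rc_10_3 lc_f_rc_14_3 lc_f_rc_21_1 lc_f_rc_14_3 lc_f_rc_17_3 lc_f_Cert_tree lc_f_rc_5_3 lc_f_rc_20_1 lc_f_rc_17_3 lc_f_rc_20_1 lc_f_rc_14_3 lc_f_rc_10_3 lc_f_rc_20_1 lc_f_rc_17_3 lc_f_rc_14_1 lc_f_rc_5_1 lc_f_rc_10_3 lc_f_Cert_tree lc_f_Cert_tree lc_f_rc_20_1 lc_f_rc_20_1 lc_f_rc_19_3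 lc_f_rc_14_3 lc_f_rc_17_3 lc_f_rc_21_1 lc_f_Cert_tree lc_f_rc_20_1 lc_f_rc_10_3 lc_f_rc_17_3 lc_f_rc_17_1 lc_f_rc_21_1 lc_f_rc_14_3 lc_f_rc_14_3 lc_f_rc_20_1 lc_f_rc_19_3 lc_f_Cert_tree lc_f_rc_17_3 lc_f_rc_17_1) (@D3.rec (fun _ => (Cert rels S Gen.f)) lc_f_rc_20_1 lc_f_rc_21_1 lc_f_rc_20_1 lc_f_rc_10_3 lc_f_rc_20_1 lc_f_rc_17_3 lc_f_rc_21_1 lc_f_rc_5_3 lc_f_rc_10_3 lc_f_rc_17_3 lc_f_rc_21_1 lc_f_Cert_tree lc_f_rc_20_1 lc_f_rc_5_3 lc_f_rc_10_3 lc_f_rc_10_3 lc_f_Cert_tree lc_f_rc_22_1 lc_f_rc_20_1 lc_f_Cert_tree lc_f_rc_20_1 lc_f_Cert_tree lc_f_rc_20_1 lc_f_rc_22_1 lc_f_rc_19_3 lc_f_rc_19_3 lc_f_rc_10_3 lc_f_rc_5_1 lc_f_rc_10_1 lc_f_rc_10_3 lc_f_Cert_tree lc_f_Cert_tree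 lc_f_rc_20_1 lc_f_rc_21_1 lc_f_Cert_tree lc_f_rc_20_1 lc_f_rc_17_3 lc_f_Cert_tree lc_f_rc_10_3 lc_f_rc_17_3 lc_f_rc_19_3 lc_f_rc_20_1 lc_f_rc_5_1 lc_f_rc_17_1 lc_f_rc_10_3 lc_f_rc_17_3 lc_f_Cert_tree lc_f_rc_14_3 lc_f_rc_20_1 lc_f_rc_20_1 lc_f_rc_20_1 lc_f_rc_21_1 lc_f_rc_5_3 lc_f_rc_10_3 lc_f_rc_21_1 lc_f_rc_5_3 lc_f_Cert_tree lc_f_rc_17_3 lc_f_Cert_tree lc_f_rc_20_1 lc_f_rc_20_1 lc_f_rc_10_3) (@D3.rec (fun _ => (Cert rels S Gen.f)) lc_f_rc_17_3 lc_f_rc_21_1 lc_f_rc_14_1 lc_f_Cert_tree lc_f_rc_14_3 lc_f_rc_14_3 lc_f_rc_10_3 lc_f_rc_19_5 lc_f_rc_10_3 lc_f_Cert_tree lc_f_rc_20_1 lc_f_rc_10_3 lc_f_rc_10_3 lc_f_rc_5_1 lc_f_rc_5_3 lc_f_rc_17_3 lc_f_Cert_tree lc_f_Cert_tree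 lc_f_rc_20_1 lc_f_rc_5_1 lc_f_Cert_tree lc_f_rc_20_1 lc_f_rc_14_3 lc_f_rc_17_3 lc_f_Cert_tree lc_f_rc_19_3 lc_f_rc_5_3 lc_f_Cert_tree lc_f_Cert_tree lc_f_rc_20_1 lc_f_Cert_tree lc_f_rc_20_1 lc_f_rc_17_3 lc_f_Cert_tree lc_f_rc_20_1 lc_f_rc_10_3 lc_f_rc_20_1 lc_f_rc_21_1 lc_f_rc_17_3 lc_f_rc_10_3 lc_f_Cert_tree lc_f_rc_17_3 lc_f_rc_10_3 lc_f_rc_5_1 lc_f_rc_20_1 lc_f_Cert_tree lc_f_rc_14_3 lc_f_rc_10_3 lc_f_rc_17_1 lc_f_Cert_tree lc_f_rc_5_3 lc_f_Cert_tree lc_f_rc_5_1 lc_f_rc_10_3 lc_f_Cert_tree lc_f_rc_10_1 lc_f_rc_21_1 lc_f_Cert_tree lc_f_rc_20_1 lc_f_rc_10_1 lc_f_rc_10_1 lc_f_Cert_tree) (@D3.rec (fun _ => (Cert rels S Gen.f)) lc_f_rc_20_1 lc_f_rc_17_3 lc_f_rc_10_3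 lc_f_rc_5_3 lc_f_rc_17_1 lc_f_rc_21_1 lc_f_rc_20_1 lc_f_rc_10_3 lc_f_rc_20_1 lc_f_rc_21_1 lc_f_rc_10_3 lc_f_rc_17_3 lc_f_rc_14_3 lc_f_rc_10_3 lc_f_rc_17_3 lc_f_rc_20_1 lc_f_rc_10_3 lc_f_rc_5_1 lc_f_rc_20_1 lc_f_rc_10_3 lc_f_rc_20_1 lc_f_rc_19_3 lc_f_rc_14_3 lc_f_rc_14_3 lc_f_rc_14_3 lc_f_Cert_tree lc_f_Cert_tree lc_f_rc_21_1 lc_f_Cert_tree lc_f_rc_20_1 lc_f_rc_14_3 lc_f_rc_17_1 lc_f_rc_20_1 lc_f_rc_17_1 lc_f_rc_5_3 lc_f_Cert_tree lc_f_rc_20_1 lc_f_rc_5_1 lc_f_rc_10_3 lc_f_rc_5_3 lc_f_rc_17_3 lc_f_rc_5_3 lc_f_rc_10_3 lc_f_rc_17_3 lc_f_rc_20_1 lc_f_rc_20_1 lc_f_Cert_tree lc_f_Cert_tree lc_f_rc_10_3 lc_f_rc_10_3 lc_f_Cert_tree lc_f_rc_20_1 lc_f_rc_10_3 lc_f_Cert_tree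 lc_f_rc_17_3 lc_f_Cert_tree lc_f_rc_21_1 lc_f_rc_20_1 lc_f_Cert_tree lc_f_rc_20_1 lc_f_rc_10_1 lc_f_rc_5_3) (@D3.rec (fun _ => (Cert rels S Gen.f)) lc_f_rc_20_1 lc_f_rc_20_1 lc_f_rc_20_1 lc_f_rc_20_1 lc_f_rc_20_1 lc_f_Cert_tree lc_f_rc_20_1 lc_f_rc_10_3 lc_f_rc_17_3 lc_f_rc_20_1 lc_f_rc_21_1 lc_f_rc_14_3 lc_f_rc_17_1 lc_f_rc_17_3 lc_f_rc_14_3 lc_f_rc_14_3 lc_f_rc_17_1 lc_f_rc_5_1 lc_f_rc_20_1 lc_f_rc_21_1 lc_f_Cert_tree lc_f_Cert_tree lc_f_rc_20_1 lc_f_rc_10_3 lc_f_rc_10_3 lc_f_rc_5_1 lc_f_rc_14_3 lc_f_rc_5_3 lc_f_rc_17_3 lc_f_Cert_tree lc_f_rc_14_3 lc_f_rc_21_1 lc_f_Cert_tree lc_f_rc_20_1 lc_f_rc_17_1 lc_f_rc_14_3 lc_f_rc_20_1 lc_f_Cert_tree lc_f_rc_10_3 lc_f_Cert_tree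 lc_f_rc_17_3 lc_f_rc_21_1 lc_f_Cert_tree lc_f_rc_5_1 lc_f_rc_10_3 lc_f_Cert_tree lc_f_rc_20_1 lc_f_rc_21_1 lc_f_rc_20_1 lc_f_Cert_tree lc_f_rc_20_1 lc_f_rc_20_1 lc_f_rc_20_1 lc_f_rc_17_3 lc_f_rc_19_5 lc_f_rc_21_1 lc_f_rc_20_1 lc_f_Cert_tree lc_f_rc_20_1 lc_f_rc_17_3 lc_f_rc_21_1 lc_f_rc_20_1) (@D3.rec (fun _ => (Cert rels S Gen.f)) lc_f_rc_20_1 lc_f_rc_10_3 lc_f_rc_5_1 lc_f_rc_14_3 lc_f_rc_19_3 lc_f_rc_10_3 lc_f_rc_5_1 lc_f_rc_14_3 lc_f_rc_14_3 lc_f_rc_5_1 lc_f_rc_14_3 lc_f_Cert_tree lc_f_rc_20_1 lc_f_rc_21_1 lc_f_rc_14_3 lc_f_rc_14_3 lc_f_Cert_tree lc_f_rc_10_1 lc_f_rc_21_1 lc_f_rc_21_1 lc_f_rc_10_3 lc_f_Cert_tree lc_f_rc_20_1 lc_f_rc_14_1 lc_f_Cert_tree lc_f_rc_21_1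 lc_f_rc_10_3 lc_f_Cert_tree lc_f_rc_20_1 lc_f_rc_14_3 lc_f_rc_14_3 lc_f_Cert_tree lc_f_rc_20_1 lc_f_rc_5_3 lc_f_Cert_tree lc_f_Cert_tree lc_f_rc_20_1 lc_f_rc_17_1 lc_f_Cert_tree lc_f_rc_21_1 lc_f_rc_14_3 lc_f_Cert_tree lc_f_rc_20_1 lc_f_rc_21_1 lc_f_rc_14_3 lc_f_Cert_tree lc_f_rc_20_1 lc_f_rc_20_1 lc_f_rc_17_1 lc_f_Cert_tree lc_f_rc_20_1 lc_f_rc_20_1 lc_f_rc_17_3 lc_f_rc_5_1 lc_f_rc_10_1 lc_f_Cert_tree lc_f_rc_5_3 lc_f_rc_14_3 lc_f_Cert_tree lc_f_rc_5_3 lc_f_Cert_tree lc_f_rc_20_1) (@D3.rec (fun _ => (Cert rels S Gen.f)) lc_f_rc_17_3 lc_f_Cert_tree lc_f_Cert_tree lc_f_rc_21_1 lc_f_Cert_tree lc_f_rc_20_1 lc_f_Cert_tree lc_f_rc_14_3 lc_f_rc_5_1 lc_f_Cert_tree lc_f_rc_20_1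 lc_f_rc_17_3 lc_f_rc_17_3 lc_f_rc_14_3 lc_f_rc_14_3 lc_f_rc_10_1 lc_f_rc_14_3 lc_f_Cert_tree lc_f_rc_20_1 lc_f_rc_10_3 lc_f_Cert_tree lc_f_rc_20_1 lc_f_rc_10_3 lc_f_rc_5_1 lc_f_rc_5_1 lc_f_rc_10_3 lc_f_rc_10_3 lc_f_rc_10_3 lc_f_rc_17_3 lc_f_Cert_tree lc_f_rc_21_1 lc_f_rc_20_1 lc_f_Cert_tree lc_f_rc_20_1 lc_f_rc_14_1 lc_f_rc_10_1 lc_f_rc_14_3 lc_f_rc_21_1 lc_f_Cert_tree lc_f_rc_20_1 lc_f_rc_21_1 lc_f_rc_14_3 lc_f_Cert_tree lc_f_rc_20_1 lc_f_rc_10_3 lc_f_rc_14_3 lc_f_Cert_tree lc_f_rc_10_3 lc_f_rc_21_1 lc_f_Cert_tree lc_f_rc_20_1 lc_f_rc_10_3 lc_f_rc_10_3 lc_f_rc_10_3 lc_f_rc_10_3 lc_f_rc_10_3 lc_f_rc_20_1 lc_f_rc_5_1 lc_f_Cert_tree lc_f_rc_20_1 lc_f_rc_19_1 lc_f_rc_21_1)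 (@D3.rec (fun _ => (Cert rels S Gen.f)) lc_f_rc_10_1 lc_f_rc_17_3 lc_f_rc_21_1 lc_f_rc_5_3 lc_f_rc_10_3 lc_f_rc_10_3 lc_f_rc_14_3 lc_f_rc_21_1 lc_f_rc_5_1 lc_f_rc_17_1 lc_f_rc_17_3 lc_f_Cert_tree lc_f_rc_20_1 lc_f_rc_14_3 lc_f_rc_21_1 lc_f_rc_17_3 lc_f_rc_10_1 lc_f_rc_20_1 lc_f_rc_14_3 lc_f_Cert_tree lc_f_rc_17_1 lc_f_rc_17_1 lc_f_rc_20_1 lc_f_rc_20_1 lc_f_rc_14_1 lc_f_Cert_tree lc_f_rc_10_3 lc_f_rc_14_3 lc_f_rc_5_3 lc_f_rc_20_1 lc_f_rc_21_1 lc_f_rc_5_3 lc_f_rc_14_3 lc_f_rc_20_1 lc_f_rc_19_3 lc_f_rc_17_3 lc_f_rc_10_3 lc_f_rc_21_1 lc_f_rc_10_3 lc_f_rc_17_3 lc_f_rc_21_1 lc_f_rc_20_1 lc_f_rc_14_1 lc_f_rc_21_1 lc_f_rc_17_1 lc_f_rc_20_1 lc_f_rc_20_1 lc_f_rc_10_3 lc_f_rc_5_3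 lc_f_rc_17_3 lc_f_rc_17_3 lc_f_rc_14_3 lc_f_Cert_tree lc_f_rc_20_1 lc_f_rc_19_3 lc_f_rc_10_3 lc_f_rc_14_3 lc_f_rc_14_3 lc_f_rc_20_1 lc_f_rc_10_3 lc_f_rc_14_3 lc_f_rc_14_1) (@D3.rec (fun _ => (Cert rels S Gen.f)) lc_f_Cert_tree lc_f_rc_21_1 lc_f_rc_21_1 lc_f_rc_5_3 lc_f_rc_17_3 lc_f_Cert_tree lc_f_rc_14_3 lc_f_rc_19_3 lc_f_rc_21_1 lc_f_rc_17_1 lc_f_rc_20_1 lc_f_rc_10_3 lc_f_rc_17_1 lc_f_rc_14_3 lc_f_rc_10_1 lc_f_rc_17_3 lc_f_rc_21_1 lc_f_rc_14_3 lc_f_rc_20_1 lc_f_rc_20_1 lc_f_rc_19_5 lc_f_rc_17_3 lc_f_rc_20_1 lc_f_rc_14_3 lc_f_rc_14_3 lc_f_rc_14_3 lc_f_rc_14_3 lc_f_rc_10_3 lc_f_rc_17_3 lc_f_rc_17_3 lc_f_rc_14_1 lc_f_rc_5_1 lc_f_rc_14_3 lc_f_rc_10_3 lc_f_rc_17_3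 lc_f_rc_20_1 lc_f_rc_17_1 lc_f_rc_10_3 lc_f_rc_17_1 lc_f_Cert_tree lc_f_rc_20_1 lc_f_rc_17_1 lc_f_Cert_tree lc_f_rc_17_3 lc_f_rc_21_1 lc_f_rc_5_3 lc_f_rc_17_3 lc_f_rc_5_1 lc_f_rc_17_3 lc_f_rc_22_1 lc_f_Cert_tree lc_f_rc_10_3 lc_f_rc_5_1 lc_f_Cert_tree lc_f_rc_20_1 lc_f_rc_21_1 lc_f_rc_20_1 lc_f_rc_20_1 lc_f_rc_14_3 lc_f_rc_17_3 lc_f_rc_20_1 lc_f_rc_20_1) (@D3.rec (fun _ => (Cert rels S Gen.f)) lc_f_rc_17_3 lc_f_rc_14_3 lc_f_rc_10_1 lc_f_rc_14_3 lc_f_rc_5_3 lc_f_Cert_tree lc_f_Cert_tree lc_f_rc_20_1 lc_f_rc_22_1 lc_f_rc_17_1 lc_f_rc_5_3 lc_f_rc_17_3 lc_f_rc_10_3 lc_f_rc_21_1 lc_f_rc_20_1 lc_f_rc_21_1 lc_f_Cert_tree lc_f_rc_20_1 lc_f_rc_20_1 lc_f_rc_19_5 lc_f_rc_17_3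 lc_f_rc_20_1 lc_f_rc_17_3 lc_f_rc_19_3 lc_f_rc_5_3 lc_f_Cert_tree lc_f_rc_20_1 lc_f_rc_21_1 lc_f_rc_20_1 lc_f_rc_14_3 lc_f_rc_17_1 lc_f_rc_17_3 lc_f_rc_10_3 lc_f_rc_14_1 lc_f_rc_14_3 lc_f_rc_10_1 lc_f_rc_10_3 lc_f_rc_17_1 lc_f_rc_14_3 lc_f_rc_14_3 lc_f_Cert_tree lc_f_rc_20_1 lc_f_rc_20_1 lc_f_rc_22_1 lc_f_rc_5_3 lc_f_Cert_tree lc_f_Cert_tree lc_f_rc_20_1 lc_f_rc_17_3 lc_f_rc_14_3 lc_f_rc_14_3 lc_f_rc_21_1 lc_f_rc_5_1 lc_f_rc_10_3 lc_f_rc_10_3 lc_f_rc_17_3 lc_f_rc_14_3 lc_f_rc_14_3 lc_f_rc_10_3 lc_f_rc_17_3 lc_f_rc_10_3 lc_f_rc_21_1) (@D3.rec (fun _ => (Cert rels S Gen.f)) lc_f_Cert_tree lc_f_rc_21_1 lc_f_rc_5_1 lc_f_Cert_tree lc_f_rc_20_1 lc_f_rc_17_3 lc_f_rc_22_1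 lc_f_Cert_tree lc_f_rc_20_1 lc_f_rc_19_3 lc_f_rc_10_3 lc_f_rc_5_1 lc_f_rc_10_3 lc_f_rc_10_3 lc_f_rc_10_3 lc_f_Cert_tree lc_f_rc_14_3 lc_f_rc_17_3 lc_f_rc_14_3 lc_f_rc_17_3 lc_f_rc_5_1 lc_f_rc_10_3 lc_f_rc_17_3 lc_f_rc_17_3 lc_f_rc_20_1 lc_f_rc_14_3 lc_f_rc_14_3 lc_f_Cert_tree lc_f_rc_20_1 lc_f_rc_5_3 lc_f_rc_17_3 lc_f_rc_21_1 lc_f_rc_5_1 lc_f_rc_5_3 lc_f_rc_20_1 lc_f_Cert_tree lc_f_rc_20_1 lc_f_rc_10_3 lc_f_rc_17_3 lc_f_rc_19_3 lc_f_rc_20_1 lc_f_rc_14_3 lc_f_rc_5_3 lc_f_rc_19_5 lc_f_rc_14_3 lc_f_Cert_tree lc_f_rc_17_3 lc_f_rc_20_1 lc_f_Cert_tree lc_f_Cert_tree lc_f_rc_20_1 lc_f_rc_19_3 lc_f_rc_10_1 lc_f_rc_20_1 lc_f_rc_21_1 lc_f_rc_10_3 lc_f_rc_19_5 lc_f_rc_10_3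 lc_f_rc_5_1 lc_f_rc_10_3 lc_f_rc_17_3 lc_f_rc_19_1) (@D3.rec (fun _ => (Cert rels S Gen.f)) lc_f_rc_10_3 lc_f_rc_19_5 lc_f_rc_20_1 lc_f_Cert_tree lc_f_rc_21_1 lc_f_rc_5_1 lc_f_Cert_tree lc_f_rc_20_1 lc_f_rc_17_3 lc_f_rc_21_1 lc_f_rc_5_1 lc_f_rc_20_1 lc_f_rc_19_3 lc_f_rc_20_1 lc_f_rc_14_3 lc_f_rc_5_1 lc_f_rc_21_1 lc_f_rc_20_1 lc_f_rc_20_1 lc_f_rc_14_3 lc_f_rc_20_1 lc_f_rc_10_3 lc_f_rc_10_3 lc_f_rc_21_1 lc_f_rc_20_1 lc_f_Cert_tree lc_f_rc_20_1 lc_f_rc_5_1 lc_f_rc_22_1 lc_f_rc_20_1 lc_f_rc_5_3 lc_f_Cert_tree lc_f_rc_5_3 lc_f_rc_10_1 lc_f_rc_21_1 lc_f_Cert_tree lc_f_rc_20_1 lc_f_rc_21_1 lc_f_Cert_tree lc_f_rc_20_1 lc_f_rc_10_1 lc_f_rc_19_3 lc_f_rc_10_1 lc_f_Cert_tree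 lc_f_rc_20_1 lc_f_rc_14_3 lc_f_rc_5_1 lc_f_rc_20_1 lc_f_rc_20_1 lc_f_rc_20_1 lc_f_rc_20_1 lc_f_rc_19_1 lc_f_rc_10_3 lc_f_rc_5_3 lc_f_rc_14_3 lc_f_rc_20_1 lc_f_rc_10_1 lc_f_rc_10_3 lc_f_rc_20_1 lc_f_Cert_tree lc_f_rc_17_1 lc_f_rc_20_1) (@D3.rec (fun _ => (Cert rels S Gen.f)) lc_f_rc_20_1 lc_f_rc_10_1 lc_f_rc_17_3 lc_f_Cert_tree lc_f_rc_5_1 lc_f_rc_5_3 lc_f_rc_21_1 lc_f_rc_20_1 lc_f_rc_14_3 lc_f_rc_10_3 lc_f_rc_14_1 lc_f_rc_17_3 lc_f_rc_20_1 lc_f_rc_5_3 lc_f_rc_10_1 lc_f_Cert_tree lc_f_rc_21_1 lc_f_rc_14_1 lc_f_rc_21_1 lc_f_rc_14_3 lc_f_Cert_tree lc_f_rc_10_3 lc_f_rc_5_1 lc_f_rc_10_3 lc_f_rc_20_1 lc_f_rc_10_1 lc_f_rc_14_3 lc_f_rc_19_3 lc_f_rc_20_1 lc_f_rc_20_1 lc_f_rc_17_3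 lc_f_rc_21_1 lc_f_rc_10_3 lc_f_rc_14_1 lc_f_rc_21_1 lc_f_rc_20_1 lc_f_Cert_tree lc_f_rc_20_1 lc_f_rc_21_1 lc_f_rc_20_1 lc_f_rc_10_3 lc_f_rc_14_3 lc_f_rc_17_3 lc_f_rc_20_1 lc_f_rc_17_1 lc_f_rc_19_3 lc_f_rc_20_1 lc_f_rc_21_1 lc_f_rc_14_3 lc_f_rc_17_3 lc_f_rc_10_3 lc_f_rc_21_1 lc_f_rc_10_3 lc_f_rc_14_3 lc_f_rc_14_3 lc_f_rc_10_3 lc_f_rc_5_3 lc_f_rc_10_3 lc_f_rc_10_3 lc_f_rc_21_1 lc_f_rc_14_3 lc_f_rc_20_1) (@D3.rec (fun _ => (Cert rels S Gen.f)) lc_f_rc_5_3 lc_f_rc_14_3 lc_f_Cert_tree lc_f_rc_17_3 lc_f_rc_21_1 lc_f_rc_20_1 lc_f_rc_20_1 lc_f_rc_10_3 lc_f_Cert_tree lc_f_rc_21_1 lc_f_rc_5_1 lc_f_rc_17_1 lc_f_rc_20_1 lc_f_rc_14_1 lc_f_rc_19_3 lc_f_rc_10_3 lc_f_rc_10_3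 lc_f_rc_20_1 lc_f_rc_19_3 lc_f_rc_14_3 lc_f_rc_14_3 lc_f_rc_17_3 lc_f_rc_17_1 lc_f_rc_20_1 lc_f_rc_20_1 lc_f_rc_10_3 lc_f_rc_5_1 lc_f_rc_14_3 lc_f_rc_10_3 lc_f_rc_20_1 lc_f_rc_17_3 lc_f_rc_20_1 lc_f_rc_5_3 lc_f_rc_21_1 lc_f_rc_20_1 lc_f_rc_10_3 lc_f_rc_17_3 lc_f_rc_19_3 lc_f_rc_10_3 lc_f_rc_21_1 lc_f_Cert_tree lc_f_rc_21_1 lc_f_rc_17_3 lc_f_rc_10_3 lc_f_rc_20_1 lc_f_rc_20_1 lc_f_rc_21_1 lc_f_rc_10_1 lc_f_rc_20_1 lc_f_rc_19_3 lc_f_rc_5_1 lc_f_rc_17_3 lc_f_rc_21_1 lc_f_rc_5_3 lc_f_rc_20_1 lc_f_rc_21_1 lc_f_rc_10_3 lc_f_rc_17_3 lc_f_rc_14_1 lc_f_rc_17_3 lc_f_rc_22_1 lc_f_rc_10_3) (@D3.rec (fun _ => (Cert rels S Gen.f)) lc_f_rc_21_1 lc_f_rc_17_3 lc_f_rc_14_3 lc_f_rc_14_3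 lc_f_rc_17_3 lc_f_rc_10_3 lc_f_rc_5_3 lc_f_rc_20_1 lc_f_rc_14_1 lc_f_Cert_tree lc_f_rc_14_1 lc_f_rc_14_1 lc_f_rc_22_1 lc_f_rc_19_3 lc_f_rc_14_1 lc_f_rc_21_1 lc_f_rc_22_1 lc_f_rc_20_1 lc_f_rc_20_1 lc_f_Cert_tree lc_f_rc_5_3 lc_f_rc_20_1 lc_f_rc_14_3 lc_f_rc_5_3 lc_f_rc_20_1 lc_f_rc_21_1 lc_f_rc_17_1 lc_f_rc_20_1 lc_f_rc_10_3 lc_f_rc_17_1 lc_f_rc_21_1 lc_f_rc_20_1 lc_f_rc_20_1 lc_f_rc_21_1 lc_f_rc_5_3 lc_f_rc_17_3 lc_f_Cert_tree lc_f_rc_10_3 lc_f_rc_17_1 lc_f_rc_19_3 lc_f_rc_21_1 lc_f_rc_14_3 lc_f_rc_17_3 lc_f_rc_21_1 lc_f_rc_20_1 lc_f_rc_10_3 lc_f_rc_14_3 lc_f_rc_10_1 lc_f_rc_19_5 lc_f_rc_21_1 lc_f_rc_19_3 lc_f_rc_20_1 lc_f_rc_10_3 lc_f_rc_19_5 lc_f_rc_10_3 lc_f_rc_21_1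 lc_f_rc_19_3 lc_f_rc_20_1 lc_f_rc_17_1 lc_f_rc_5_1 lc_f_rc_10_3 lc_f_rc_5_3) (@D3.rec (fun _ => (Cert rels S Gen.f)) lc_f_rc_17_1 lc_f_rc_22_1 lc_f_rc_21_1 lc_f_rc_20_1 lc_f_rc_10_3 lc_f_rc_14_3 lc_f_rc_14_3 lc_f_rc_21_1 lc_f_rc_10_3 lc_f_rc_17_3 lc_f_rc_17_3 lc_f_rc_14_3 lc_f_rc_5_3 lc_f_rc_14_3 lc_f_rc_19_3 lc_f_rc_14_3 lc_f_rc_21_1 lc_f_rc_10_3 lc_f_rc_14_3 lc_f_rc_19_1 lc_f_rc_17_3 lc_f_rc_17_3 lc_f_rc_14_3 lc_f_rc_5_1 lc_f_rc_14_3 lc_f_rc_19_5 lc_f_rc_19_5 lc_f_rc_21_1 lc_f_rc_14_3 lc_f_rc_10_3 lc_f_rc_17_3 lc_f_rc_21_1 lc_f_rc_5_3 lc_f_rc_17_3 lc_f_rc_20_1 lc_f_rc_17_3 lc_f_rc_10_3 lc_f_rc_14_3 lc_f_Cert_tree lc_f_Cert_tree lc_f_rc_20_1 lc_f_rc_20_1 lc_f_rc_20_1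 lc_f_Cert_tree lc_f_rc_10_1 lc_f_rc_21_1 lc_f_rc_21_1 lc_f_rc_10_1 lc_f_rc_10_3 lc_f_Cert_tree lc_f_Cert_tree lc_f_rc_20_1 lc_f_rc_20_1 lc_f_rc_20_1 lc_f_rc_20_1 lc_f_Cert_tree lc_f_rc_10_3 lc_f_rc_14_3 lc_f_rc_17_3 lc_f_Cert_tree lc_f_rc_20_1 lc_f_rc_10_3) (@D3.rec (fun _ => (Cert rels S Gen.f)) lc_f_rc_17_3 lc_f_rc_14_3 lc_f_rc_10_3 lc_f_rc_14_3 lc_f_Cert_tree lc_f_rc_17_3 lc_f_rc_14_3 lc_f_rc_20_1 lc_f_rc_14_3 lc_f_rc_14_3 lc_f_rc_10_3 lc_f_rc_22_1 lc_f_rc_21_1 lc_f_rc_17_3 lc_f_rc_14_3 lc_f_rc_20_1 lc_f_rc_10_3 lc_f_rc_20_1 lc_f_rc_20_1 lc_f_rc_10_3 lc_f_rc_19_3 lc_f_rc_17_1 lc_f_rc_20_1 lc_f_rc_20_1 lc_f_rc_20_1 lc_f_rc_14_3 lc_f_rc_17_3 lc_f_rc_14_1 lc_f_rc_14_3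 lc_f_rc_5_3 lc_f_rc_22_1 lc_f_rc_10_3 lc_f_rc_10_3 lc_f_rc_14_3 lc_f_rc_5_1 lc_f_rc_5_1 lc_f_rc_10_3 lc_f_rc_5_1 lc_f_rc_10_1 lc_f_rc_5_1 lc_f_rc_19_3 lc_f_rc_20_1 lc_f_rc_20_1 lc_f_rc_5_3 lc_f_rc_20_1 lc_f_rc_20_1 lc_f_rc_10_3 lc_f_rc_19_3 lc_f_rc_10_3 lc_f_rc_10_3 lc_f_rc_14_3 lc_f_rc_10_1 lc_f_rc_19_5 lc_f_rc_20_1 lc_f_rc_5_3 lc_f_rc_5_3 lc_f_rc_5_3 lc_f_rc_19_3 lc_f_rc_20_1 lc_f_rc_5_1 lc_f_rc_14_1 lc_f_rc_14_1) (@D3.rec (fun _ => (Cert rels S Gen.f)) lc_f_rc_14_1 lc_f_rc_20_1 lc_f_rc_5_3 lc_f_rc_14_3 lc_f_rc_22_1 lc_f_rc_5_3 lc_f_Cert_tree lc_f_rc_14_3 lc_f_Cert_tree lc_f_rc_20_1 lc_f_rc_5_1 lc_f_rc_21_1 lc_f_Cert_tree lc_f_rc_20_1 lc_f_rc_17_1 lc_f_rc_5_1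 lc_f_rc_5_1 lc_f_rc_14_3 lc_f_rc_17_3 lc_f_rc_14_3 lc_f_rc_10_3 lc_f_rc_5_3 lc_f_rc_17_3 lc_f_rc_10_3 lc_f_rc_14_1 lc_f_rc_14_1 lc_f_rc_20_1 lc_f_rc_5_3 lc_f_rc_21_1 lc_f_rc_14_3 lc_f_rc_19_3 lc_f_rc_20_1 lc_f_rc_5_1 lc_f_rc_20_1 lc_f_rc_10_3 lc_f_rc_21_1 lc_f_Cert_tree lc_f_rc_21_1 lc_f_rc_17_3 lc_f_rc_20_1 lc_f_rc_20_1 lc_f_rc_14_3 lc_f_rc_17_3 lc_f_rc_19_3 lc_f_rc_17_3 lc_f_rc_22_1 lc_f_rc_20_1 lc_f_rc_5_1 lc_f_rc_14_1 lc_f_rc_20_1 lc_f_rc_5_3 lc_f_rc_19_3 lc_f_rc_5_1 lc_f_rc_5_1 lc_f_rc_17_1 lc_f_rc_20_1 lc_f_rc_17_1 lc_f_rc_14_3 lc_f_rc_14_3 lc_f_rc_14_3 lc_f_rc_10_3 lc_f_rc_14_3) (@D3.rec (fun _ => (Cert rels S Gen.f)) lc_f_rc_5_1 lc_f_rc_5_3 lc_f_rc_5_1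 lc_f_rc_20_1 lc_f_rc_20_1 lc_f_rc_17_1 lc_f_rc_14_3 lc_f_rc_14_3 lc_f_rc_5_1 lc_f_rc_17_1 lc_f_rc_21_1 lc_f_rc_14_1 lc_f_rc_21_1 lc_f_rc_20_1 lc_f_rc_10_3 lc_f_rc_21_1 lc_f_rc_10_3 lc_f_rc_17_1 lc_f_rc_14_3 lc_f_rc_14_3 lc_f_rc_5_3 lc_f_rc_21_1 lc_f_rc_20_1 lc_f_rc_5_1 lc_f_rc_14_3 lc_f_rc_20_1 lc_f_rc_20_1 lc_f_rc_22_1 lc_f_rc_5_3 lc_f_rc_21_1 lc_f_rc_14_3 lc_f_rc_17_3 lc_f_rc_10_3 lc_f_Cert_tree lc_f_rc_21_1 lc_f_rc_14_1 lc_f_Cert_tree lc_f_rc_20_1 lc_f_rc_14_3 lc_f_rc_5_1 lc_f_rc_5_1 lc_f_rc_5_3 lc_f_rc_14_3 lc_f_rc_10_3 lc_f_rc_20_1 lc_f_rc_22_1 lc_f_rc_17_3 lc_f_rc_14_1 lc_f_Cert_tree lc_f_rc_21_1 lc_f_rc_10_3 lc_f_rc_10_3 lc_f_rc_21_1 lc_f_rc_10_3 lc_f_rc_14_3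 lc_f_rc_14_3 lc_f_rc_14_3 lc_f_rc_17_3 lc_f_rc_10_3 lc_f_rc_17_3 lc_f_rc_17_3 lc_f_rc_10_3) (@D3.rec (fun _ => (Cert rels S Gen.f)) lc_f_rc_22_1 lc_f_rc_19_3 lc_f_rc_17_3 lc_f_rc_21_1 lc_f_Cert_tree lc_f_rc_20_1 lc_f_rc_5_1 lc_f_rc_10_3 lc_f_rc_19_5 lc_f_rc_10_3 lc_f_rc_5_1 lc_f_rc_14_3 lc_f_rc_21_1 lc_f_rc_21_1 lc_f_rc_17_3 lc_f_rc_5_1 lc_f_rc_10_3 lc_f_rc_17_3 lc_f_rc_19_3 lc_f_rc_14_3 lc_f_rc_17_3 lc_f_rc_14_3 lc_f_rc_19_3 lc_f_rc_14_3 lc_f_rc_20_1 lc_f_rc_14_3 lc_f_rc_20_1 lc_f_rc_10_3 lc_f_rc_17_3 lc_f_rc_20_1 lc_f_rc_20_1 lc_f_rc_14_1 lc_f_rc_17_1 lc_f_rc_5_3 lc_f_rc_21_1 lc_f_rc_10_3 lc_f_rc_14_1 lc_f_rc_14_3 lc_f_rc_17_3 lc_f_rc_22_1 lc_f_rc_22_1 lc_f_rc_17_3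 lc_f_rc_5_1 lc_f_Cert_tree lc_f_rc_19_5 lc_f_rc_20_1 lc_f_rc_17_3 lc_f_rc_10_3 lc_f_rc_14_3 lc_f_rc_5_3 lc_f_rc_22_1 lc_f_rc_14_1 lc_f_rc_17_3 lc_f_rc_14_3 lc_f_rc_14_1 lc_f_rc_20_1 lc_f_rc_20_1 lc_f_rc_14_3 lc_f_Cert_tree lc_f_rc_10_3 lc_f_rc_17_3 lc_f_rc_20_1) (@D3.rec (fun _ => (Cert rels S Gen.f)) lc_f_rc_20_1 lc_f_rc_19_3 lc_f_rc_14_3 lc_f_rc_5_3 lc_f_rc_14_3 lc_f_rc_14_3 lc_f_rc_21_1 lc_f_rc_17_1 lc_f_rc_19_3 lc_f_rc_19_5 lc_f_rc_17_3 lc_f_Cert_tree lc_f_rc_20_1 lc_f_rc_20_1 lc_f_rc_5_3 lc_f_Cert_tree lc_f_Cert_tree lc_f_rc_14_1 lc_f_rc_5_1 lc_f_rc_10_3 lc_f_Cert_tree lc_f_rc_20_1 lc_f_rc_10_3 lc_f_rc_19_3 lc_f_rc_14_1 lc_f_rc_21_1 lc_f_Cert_tree lc_f_rc_20_1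 lc_f_rc_10_3 lc_f_rc_21_1 lc_f_rc_19_1 lc_f_rc_17_3 lc_f_rc_20_1 lc_f_rc_21_1 lc_f_rc_14_3 lc_f_Cert_tree lc_f_rc_20_1 lc_f_rc_20_1 lc_f_rc_20_1 lc_f_rc_19_3 lc_f_rc_22_1 lc_f_rc_20_1 lc_f_rc_17_1 lc_f_rc_20_1 lc_f_rc_20_1 lc_f_rc_14_3 lc_f_rc_5_3 lc_f_rc_10_3 lc_f_rc_19_1 lc_f_rc_17_1 lc_f_Cert_tree lc_f_rc_17_3 lc_f_rc_5_3 lc_f_rc_21_1 lc_f_rc_17_3 lc_f_rc_17_3 lc_f_rc_5_1 lc_f_rc_21_1 lc_f_Cert_tree lc_f_rc_5_1 lc_f_rc_20_1 lc_f_rc_21_1) (@D3.rec (fun _ => (Cert rels S Gen.f)) lc_f_rc_5_1 lc_f_Cert_tree lc_f_rc_5_3 lc_f_rc_10_3 lc_f_rc_5_3 lc_f_Cert_tree lc_f_rc_20_1 lc_f_rc_20_1 lc_f_rc_17_1 lc_f_rc_20_1 lc_f_rc_10_3 lc_f_rc_14_3 lc_f_rc_14_3 lc_f_rc_17_3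 lc_f_rc_17_3 lc_f_rc_22_1 lc_f_rc_10_3 lc_f_rc_17_3 lc_f_rc_14_3 lc_f_rc_14_3 lc_f_rc_5_1 lc_f_rc_10_3 lc_f_Cert_tree lc_f_rc_20_1 lc_f_rc_10_3 lc_f_rc_17_3 lc_f_rc_17_3 lc_f_rc_17_3 lc_f_rc_14_1 lc_f_rc_20_1 lc_f_rc_5_3 lc_f_rc_20_1 lc_f_rc_10_3 lc_f_rc_17_3 lc_f_rc_14_3 lc_f_rc_5_1 lc_f_rc_20_1 lc_f_rc_21_1 lc_f_rc_17_1 lc_f_rc_14_3 lc_f_rc_5_1 lc_f_rc_17_3 lc_f_rc_14_1 lc_f_rc_17_3 lc_f_rc_20_1 lc_f_rc_10_3 lc_f_rc_5_3 lc_f_rc_10_3 lc_f_Cert_tree lc_f_rc_10_3 lc_f_rc_10_3 lc_f_Cert_tree lc_f_rc_20_1 lc_f_rc_14_1 lc_f_rc_14_3 lc_f_Cert_tree lc_f_rc_20_1 lc_f_rc_10_3 lc_f_rc_17_3 lc_f_rc_17_1 lc_f_rc_17_3 lc_f_rc_21_1) (@D3.rec (fun _ => (Cert rels S Gen.f))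 lc_f_rc_5_1 lc_f_rc_17_3 lc_f_Cert_tree lc_f_rc_20_1 lc_f_rc_20_1 lc_f_rc_20_1 lc_f_rc_20_1 lc_f_rc_10_3 lc_f_Cert_tree lc_f_rc_20_1 lc_f_rc_5_1 lc_f_rc_14_1 lc_f_rc_5_3 lc_f_rc_17_3 lc_f_rc_10_3 lc_f_Cert_tree lc_f_rc_17_3 lc_f_rc_20_1 lc_f_rc_21_1 lc_f_rc_10_3 lc_f_rc_14_1 lc_f_rc_20_1 lc_f_rc_5_1 lc_f_rc_20_1 lc_f_rc_10_1 lc_f_rc_19_3 lc_f_rc_21_1 lc_f_Cert_tree lc_f_rc_20_1 lc_f_rc_14_1 lc_f_rc_19_3 lc_f_Cert_tree lc_f_rc_20_1 lc_f_rc_20_1 lc_f_rc_20_1 lc_f_rc_10_3 lc_f_rc_17_3 lc_f_rc_21_1 lc_f_rc_21_1 lc_f_rc_20_1 lc_f_Cert_tree lc_f_rc_20_1 lc_f_rc_10_3 lc_f_rc_5_3 lc_f_rc_14_3 lc_f_rc_21_1 lc_f_rc_5_3 lc_f_rc_19_5 lc_f_rc_19_5 lc_f_Cert_tree lc_f_Cert_tree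 lc_f_rc_20_1 lc_f_rc_14_3 lc_f_rc_10_3 lc_f_rc_17_1 lc_f_rc_21_1 lc_f_rc_17_3 lc_f_Cert_tree lc_f_rc_10_1 lc_f_rc_10_1 lc_f_rc_14_3 lc_f_rc_14_3) (@D3.rec (fun _ => (Cert rels S Gen.f)) lc_f_Cert_tree lc_f_rc_5_1 lc_f_rc_10_3 lc_f_Cert_tree lc_f_rc_20_1 lc_f_rc_17_3 lc_f_rc_20_1 lc_f_rc_21_1 lc_f_Cert_tree lc_f_rc_20_1 lc_f_Cert_tree lc_f_Cert_tree lc_f_rc_20_1 lc_f_rc_10_1 lc_f_rc_10_3 lc_f_rc_5_1 lc_f_Cert_tree lc_f_rc_10_3 lc_f_rc_5_1 lc_f_rc_10_1 lc_f_rc_20_1 lc_f_rc_21_1 lc_f_rc_20_1 lc_f_rc_17_1 lc_f_rc_20_1 lc_f_rc_17_3 lc_f_rc_21_1 lc_f_rc_17_1 lc_f_rc_20_1 lc_f_rc_14_3 lc_f_rc_5_3 lc_f_rc_5_1 lc_f_rc_20_1 lc_f_Cert_tree lc_f_rc_20_1 lc_f_rc_17_1 lc_f_rc_14_3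 lc_f_rc_10_3 lc_f_rc_22_1 lc_f_rc_21_1 lc_f_rc_14_3 lc_f_rc_21_1 lc_f_rc_5_3 lc_f_rc_17_3 lc_f_rc_17_3 lc_f_rc_14_3 lc_f_rc_21_1 lc_f_rc_5_3 lc_f_rc_10_3 lc_f_rc_17_3 lc_f_Cert_tree lc_f_rc_17_1 lc_f_rc_17_3 lc_f_rc_14_3 lc_f_rc_22_1 lc_f_rc_17_1 lc_f_rc_20_1 lc_f_rc_21_1 lc_f_rc_10_3 lc_f_rc_17_3 lc_f_rc_14_1 lc_f_rc_14_1) (@D3.rec (fun _ => (Cert rels S Gen.f)) lc_f_Cert_tree lc_f_rc_17_3 lc_f_rc_17_3 lc_f_rc_14_3 lc_f_rc_14_3 lc_f_Cert_tree lc_f_rc_17_3 lc_f_rc_5_1 lc_f_rc_21_1 lc_f_Cert_tree lc_f_rc_17_3 lc_f_rc_14_3 lc_f_Cert_tree lc_f_rc_14_3 lc_f_rc_20_1 lc_f_rc_5_3 lc_f_rc_17_3 lc_f_rc_20_1 lc_f_rc_14_1 lc_f_rc_21_1 lc_f_rc_14_3 lc_f_rc_22_1 lc_f_rc_21_1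 lc_f_rc_10_3 lc_f_rc_10_3 lc_f_rc_14_3 lc_f_rc_17_3 lc_f_rc_21_1 lc_f_rc_17_3 lc_f_rc_14_3 lc_f_rc_21_1 lc_f_rc_20_1 lc_f_rc_14_3 lc_f_rc_21_1 lc_f_rc_20_1 lc_f_rc_5_1 lc_f_rc_10_3 lc_f_rc_17_3 lc_f_rc_20_1 lc_f_rc_10_3 lc_f_rc_21_1 lc_f_rc_20_1 lc_f_rc_10_3 lc_f_rc_21_1 lc_f_rc_21_1 lc_f_rc_5_3 lc_f_rc_14_3 lc_f_rc_5_3 lc_f_rc_17_3 lc_f_rc_5_3 lc_f_rc_14_3 lc_f_rc_19_3 lc_f_rc_10_3 lc_f_rc_10_3 lc_f_rc_14_3 lc_f_rc_17_3 lc_f_rc_14_1 lc_f_rc_14_1 lc_f_rc_19_1 lc_f_rc_10_3 lc_f_rc_17_3 lc_f_rc_10_3) (@D3.rec (fun _ => (Cert rels S Gen.f)) lc_f_rc_17_1 lc_f_rc_14_3 lc_f_rc_21_1 lc_f_rc_14_3 lc_f_rc_22_1 lc_f_rc_22_1 lc_f_rc_14_3 lc_f_Cert_tree lc_f_rc_20_1 lc_f_rc_20_1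 lc_f_rc_10_3 lc_f_rc_17_3 lc_f_rc_14_3 lc_f_rc_14_3 lc_f_rc_10_3 lc_f_rc_17_3 lc_f_rc_21_1 lc_f_rc_17_3 lc_f_rc_14_3 lc_f_rc_5_3 lc_f_rc_20_1 lc_f_rc_20_1 lc_f_rc_21_1 lc_f_rc_21_1 lc_f_rc_17_3 lc_f_rc_14_3 lc_f_rc_14_3 lc_f_rc_22_1 lc_f_rc_10_3 lc_f_rc_17_3 lc_f_rc_5_3 lc_f_rc_17_3 lc_f_rc_21_1 lc_f_rc_20_1 lc_f_rc_17_1 lc_f_rc_20_1 lc_f_Cert_tree lc_f_rc_14_3 lc_f_rc_20_1 lc_f_rc_10_3 lc_f_rc_21_1 lc_f_rc_10_3 lc_f_rc_17_3 lc_f_Cert_tree lc_f_rc_5_1 lc_f_rc_14_3 lc_f_Cert_tree lc_f_rc_20_1 lc_f_rc_20_1 lc_f_rc_21_1 lc_f_rc_10_3 lc_f_rc_14_3 lc_f_rc_10_3 lc_f_rc_5_1 lc_f_rc_21_1 lc_f_rc_20_1 lc_f_rc_22_1 lc_f_rc_14_1 lc_f_rc_10_3 lc_f_rc_10_3 lc_f_rc_20_1 lc_f_rc_20_1)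 (@D3.rec (fun _ => (Cert rels S Gen.f)) lc_f_Cert_tree lc_f_rc_21_1 lc_f_rc_17_1 lc_f_rc_20_1 lc_f_rc_20_1 lc_f_rc_10_3 lc_f_rc_22_1 lc_f_rc_5_3 lc_f_rc_20_1 lc_f_rc_5_3 lc_f_rc_10_3 lc_f_rc_17_3 lc_f_rc_10_1 lc_f_rc_20_1 lc_f_rc_17_3 lc_f_Cert_tree lc_f_rc_21_1 lc_f_rc_5_1 lc_f_Cert_tree lc_f_rc_20_1 lc_f_rc_22_1 lc_f_Cert_tree lc_f_rc_20_1 lc_f_rc_10_3 lc_f_rc_21_1 lc_f_rc_20_1 lc_f_rc_5_1 lc_f_rc_17_1 lc_f_Cert_tree lc_f_rc_20_1 lc_f_rc_20_1 lc_f_rc_17_1 lc_f_rc_10_3 lc_f_rc_21_1 lc_f_rc_10_3 lc_f_rc_21_1 lc_f_rc_10_1 lc_f_rc_10_3 lc_f_rc_14_3 lc_f_rc_17_3 lc_f_rc_5_1 lc_f_Cert_tree lc_f_rc_14_3 lc_f_rc_10_3 lc_f_rc_20_1 lc_f_rc_17_3 lc_f_rc_14_3 lc_f_rc_14_1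 lc_f_Cert_tree lc_f_rc_14_3 lc_f_Cert_tree lc_f_rc_5_1 lc_f_rc_14_3 lc_f_Cert_tree lc_f_rc_20_1 lc_f_rc_21_1 lc_f_rc_20_1 lc_f_Cert_tree lc_f_rc_20_1 lc_f_rc_10_3 lc_f_rc_5_1 lc_f_rc_14_1)
def ce_f_7 : D2 → D3 → (Cert rels S Gen.f) := @D2.rec (fun _ => D3 → (Cert rels S Gen.f)) (@D3.rec (fun _ => (Cert rels S Gen.f)) lc_f_rc_10_3 lc_f_rc_17_3 lc_f_rc_17_3 lc_f_rc_14_1 lc_f_rc_20_1 lc_f_rc_21_1 lc_f_rc_17_3 lc_f_rc_20_1 lc_f_rc_14_3 lc_f_rc_20_1 lc_f_rc_17_1 lc_f_rc_14_3 lc_f_rc_22_1 lc_f_rc_20_1 lc_f_rc_21_1 lc_f_rc_20_1 lc_f_rc_5_1 lc_f_rc_17_3 lc_f_rc_14_3 lc_f_Cert_tree lc_f_Cert_tree lc_f_rc_20_1 lc_f_rc_20_1 lc_f_rc_20_1 lc_f_rc_10_1 lc_f_rc_10_3 lc_f_rc_10_3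 lc_f_rc_17_3 lc_f_Cert_tree lc_f_rc_10_3 lc_f_rc_5_1 lc_f_rc_14_3 lc_f_rc_10_3 lc_f_rc_17_3 lc_f_rc_10_3 lc_f_rc_17_3 lc_f_rc_14_1 lc_f_rc_20_1 lc_f_rc_20_1 lc_f_rc_20_1 lc_f_rc_21_1 lc_f_rc_14_3 lc_f_rc_5_3 lc_f_rc_17_3 lc_f_rc_20_1 lc_f_rc_14_3 lc_f_rc_20_1 lc_f_rc_17_3 lc_f_rc_17_3 lc_f_rc_21_1 lc_f_rc_14_1 lc_f_Cert_tree lc_f_Cert_tree lc_f_Cert_tree lc_f_rc_20_1 lc_f_rc_10_3 lc_f_Cert_tree lc_f_rc_20_1 lc_f_rc_19_3 lc_f_rc_10_3 lc_f_Cert_tree lc_f_rc_20_1) (@D3.rec (fun _ => (Cert rels S Gen.f)) lc_f_rc_10_3 lc_f_rc_21_1 lc_f_rc_19_3 lc_f_rc_10_3 lc_f_rc_17_3 lc_f_rc_20_1 lc_f_rc_21_1 lc_f_rc_17_3 lc_f_rc_17_3 lc_f_rc_20_1 lc_f_rc_10_3 lc_f_rc_5_3 lc_f_rc_14_3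 lc_f_rc_14_3 lc_f_Cert_tree lc_f_rc_10_3 lc_f_rc_14_3 lc_f_rc_20_1 lc_f_rc_17_3 lc_f_rc_5_3 lc_f_rc_17_1 lc_f_rc_14_3 lc_f_rc_5_1 lc_f_Cert_tree lc_f_rc_10_3 lc_f_rc_5_1 lc_f_rc_17_3 lc_f_rc_20_1 lc_f_rc_21_1 lc_f_Cert_tree lc_f_rc_20_1 lc_f_rc_17_3 lc_f_rc_14_1 lc_f_rc_10_3 lc_f_Cert_tree lc_f_Cert_tree lc_f_rc_14_3 lc_f_rc_14_3 lc_f_rc_5_1 lc_f_Cert_tree lc_f_rc_20_1 lc_f_rc_21_1 lc_f_rc_20_1 lc_f_Cert_tree lc_f_rc_20_1 lc_f_rc_14_1 lc_f_rc_17_3 lc_f_Cert_tree lc_f_rc_20_1 lc_f_rc_21_1 lc_f_rc_10_3 lc_f_rc_5_3 lc_f_rc_17_3 lc_f_rc_14_3 lc_f_rc_21_1 lc_f_Cert_tree lc_f_rc_20_1 lc_f_rc_14_1 lc_f_rc_10_3 lc_f_rc_17_3 lc_f_rc_14_1 lc_f_rc_10_3) (@D3.rec (fun _ =>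 (Cert rels S Gen.f)) lc_f_rc_17_3 lc_f_rc_5_1 lc_f_rc_21_1 lc_f_rc_14_3 lc_f_Cert_tree lc_f_rc_20_1 lc_f_rc_21_1 lc_f_rc_10_3 lc_f_rc_5_3 lc_f_rc_10_1 lc_f_rc_20_1 lc_f_rc_10_3 lc_f_rc_5_1 lc_f_rc_10_1 lc_f_rc_17_3 lc_f_rc_17_1 lc_f_Cert_tree lc_f_rc_14_3 lc_f_rc_14_3 lc_f_Cert_tree lc_f_rc_20_1 lc_f_rc_19_1 lc_f_rc_10_3 lc_f_rc_10_1 lc_f_rc_17_3 lc_f_rc_5_3 lc_f_rc_5_3 lc_f_rc_10_3 lc_f_rc_17_3 lc_f_Cert_tree lc_f_rc_21_1 lc_f_rc_17_3 lc_f_rc_14_1 lc_f_rc_17_3 lc_f_rc_21_1 lc_f_rc_14_3 lc_f_Cert_tree lc_f_rc_20_1 lc_f_rc_10_3 lc_f_rc_20_1 lc_f_rc_14_3 lc_f_rc_10_3 lc_f_rc_14_3 lc_f_rc_10_3 lc_f_rc_19_3 lc_f_rc_5_1 lc_f_rc_5_1 lc_f_Cert_tree lc_f_rc_17_3 lc_f_rc_17_3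 lc_f_rc_14_3 lc_f_Cert_tree lc_f_rc_17_3 lc_f_rc_14_3 lc_f_Cert_tree lc_f_rc_17_3 lc_f_rc_14_3 lc_f_Cert_tree lc_f_rc_14_3 lc_f_rc_20_1 lc_f_rc_19_3 lc_f_rc_17_3) (@D3.rec (fun _ => (Cert rels S Gen.f)) lc_f_rc_10_3 lc_f_rc_17_3 lc_f_rc_14_3 lc_f_rc_10_3 lc_f_rc_5_3 lc_f_rc_19_5 lc_f_rc_20_1 lc_f_rc_17_3 lc_f_rc_14_3 lc_f_rc_17_3 lc_f_rc_14_1 lc_f_rc_10_3 lc_f_rc_17_3 lc_f_rc_20_1 lc_f_rc_21_1 lc_f_rc_14_3 lc_f_rc_5_3 lc_f_rc_20_1 lc_f_rc_17_1 lc_f_rc_20_1 lc_f_rc_20_1 lc_f_rc_20_1 lc_f_rc_10_1 lc_f_Cert_tree lc_f_rc_17_3 lc_f_rc_21_1 lc_f_rc_20_1 lc_f_Cert_tree lc_f_rc_21_1 lc_f_Cert_tree lc_f_rc_20_1 lc_f_rc_14_3 lc_f_rc_21_1 lc_f_rc_10_3 lc_f_rc_17_3 lc_f_rc_19_1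 lc_f_rc_14_3 lc_f_rc_17_3 lc_f_rc_21_1 lc_f_rc_10_3 lc_f_rc_17_3 lc_f_rc_19_3 lc_f_rc_10_3 lc_f_rc_5_1 lc_f_rc_14_3 lc_f_rc_5_1 lc_f_rc_20_1 lc_f_rc_14_3 lc_f_rc_14_1 lc_f_rc_21_1 lc_f_rc_19_3 lc_f_rc_20_1 lc_f_Cert_tree lc_f_rc_19_3 lc_f_rc_17_3 lc_f_rc_10_3 lc_f_rc_17_3 lc_f_rc_21_1 lc_f_rc_5_1 lc_f_rc_14_1 lc_f_rc_17_3 lc_f_rc_14_3) (@D3.rec (fun _ => (Cert rels S Gen.f)) lc_f_rc_14_3 lc_f_rc_20_1 lc_f_rc_14_3 lc_f_rc_19_3 lc_f_rc_10_3 lc_f_rc_14_1 lc_f_rc_22_1 lc_f_rc_20_1 lc_f_rc_10_3 lc_f_rc_14_1 lc_f_rc_14_1 lc_f_Cert_tree lc_f_rc_20_1 lc_f_rc_21_1 lc_f_rc_17_1 lc_f_rc_14_3 lc_f_rc_10_1 lc_f_rc_17_3 lc_f_rc_14_3 lc_f_rc_14_3 lc_f_rc_14_3 lc_f_rc_20_1 lc_f_rc_21_1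 lc_f_rc_17_3 lc_f_rc_17_3 lc_f_rc_10_3 lc_f_rc_17_3 lc_f_rc_10_3 lc_f_rc_5_3 lc_f_rc_5_1 lc_f_rc_5_3 lc_f_rc_20_1 lc_f_rc_20_1 lc_f_rc_20_1 lc_f_rc_10_3 lc_f_rc_17_3 lc_f_rc_21_1 lc_f_rc_14_3 lc_f_Cert_tree lc_f_rc_20_1 lc_f_rc_21_1 lc_f_rc_20_1 lc_f_rc_20_1 lc_f_rc_5_1 lc_f_rc_20_1 lc_f_rc_17_3 lc_f_rc_14_3 lc_f_rc_20_1 lc_f_rc_20_1 lc_f_rc_17_3 lc_f_rc_20_1 lc_f_rc_10_3 lc_f_rc_17_3 lc_f_rc_10_3 lc_f_rc_5_3 lc_f_rc_14_3 lc_f_rc_5_3 lc_f_rc_10_3 lc_f_rc_5_3 lc_f_rc_10_3 lc_f_rc_21_1 lc_f_rc_17_3) (@D3.rec (fun _ => (Cert rels S Gen.f)) lc_f_rc_14_3 lc_f_Cert_tree lc_f_rc_14_1 lc_f_rc_20_1 lc_f_rc_21_1 lc_f_rc_5_1 lc_f_rc_14_3 lc_f_rc_21_1 lc_f_rc_14_3 lc_f_rc_17_3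 lc_f_rc_20_1 lc_f_rc_20_1 lc_f_rc_10_3 lc_f_rc_14_3 lc_f_rc_20_1 lc_f_rc_20_1 lc_f_rc_10_3 lc_f_rc_17_3 lc_f_rc_21_1 lc_f_rc_17_3 lc_f_rc_10_3 lc_f_rc_17_3 lc_f_rc_10_3 lc_f_rc_17_3 lc_f_rc_17_3 lc_f_rc_14_3 lc_f_Cert_tree lc_f_rc_20_1 lc_f_rc_17_3 lc_f_rc_22_1 lc_f_rc_10_3 lc_f_rc_17_3 lc_f_rc_17_1 lc_f_rc_10_3 lc_f_rc_20_1 lc_f_rc_14_3 lc_f_rc_17_3 lc_f_rc_10_3 lc_f_rc_20_1 lc_f_rc_5_1 lc_f_rc_10_3 lc_f_rc_20_1 lc_f_Cert_tree lc_f_rc_10_3 lc_f_rc_17_3 lc_f_rc_10_3 lc_f_rc_17_3 lc_f_rc_19_5 lc_f_rc_21_1 lc_f_rc_20_1 lc_f_Cert_tree lc_f_rc_20_1 lc_f_rc_5_3 lc_f_rc_5_3 lc_f_rc_14_3 lc_f_rc_14_3 lc_f_rc_21_1 lc_f_rc_17_3 lc_f_rc_10_3 lc_f_rc_14_3 lc_f_rc_14_1 lc_f_rc_10_3)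 (@D3.rec (fun _ => (Cert rels S Gen.f)) lc_f_rc_21_1 lc_f_rc_5_3 lc_f_rc_17_3 lc_f_Cert_tree lc_f_rc_14_3 lc_f_rc_20_1 lc_f_rc_21_1 lc_f_Cert_tree lc_f_rc_20_1 lc_f_rc_10_3 lc_f_rc_10_3 lc_f_rc_17_3 lc_f_rc_17_3 lc_f_rc_21_1 lc_f_rc_17_3 lc_f_Cert_tree lc_f_rc_20_1 lc_f_rc_10_3 lc_f_rc_5_1 lc_f_rc_14_3 lc_f_rc_14_3 lc_f_rc_10_3 lc_f_rc_17_3 lc_f_rc_10_3 lc_f_rc_17_1 lc_f_Cert_tree lc_f_rc_21_1 lc_f_rc_14_3 lc_f_Cert_tree lc_f_rc_20_1 lc_f_rc_21_1 lc_f_rc_14_3 lc_f_Cert_tree lc_f_rc_20_1 lc_f_rc_10_3 lc_f_rc_17_3 lc_f_rc_14_3 lc_f_rc_20_1 lc_f_rc_20_1 lc_f_rc_21_1 lc_f_rc_17_3 lc_f_Cert_tree lc_f_rc_20_1 lc_f_rc_19_5 lc_f_rc_20_1 lc_f_rc_20_1 lc_f_rc_14_3 lc_f_rc_5_3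 lc_f_rc_19_3 lc_f_rc_21_1 lc_f_rc_10_3 lc_f_rc_17_3 lc_f_rc_10_3 lc_f_rc_21_1 lc_f_rc_19_3 lc_f_rc_19_5 lc_f_rc_19_5 lc_f_rc_10_3 lc_f_rc_10_3 lc_f_Cert_tree lc_f_rc_17_3 lc_f_rc_14_1) (@D3.rec (fun _ => (Cert rels S Gen.f)) lc_f_rc_17_3 lc_f_Cert_tree lc_f_rc_10_1 lc_f_rc_21_1 lc_f_Cert_tree lc_f_rc_20_1 lc_f_rc_17_1 lc_f_rc_20_1 lc_f_rc_10_1 lc_f_rc_21_1 lc_f_rc_10_3 lc_f_rc_20_1 lc_f_rc_10_3 lc_f_rc_5_3 lc_f_rc_17_1 lc_f_rc_14_3 lc_f_rc_17_3 lc_f_rc_21_1 lc_f_rc_20_1 lc_f_Cert_tree lc_f_rc_20_1 lc_f_rc_5_1 lc_f_rc_5_1 lc_f_rc_22_1 lc_f_rc_14_3 lc_f_rc_21_1 lc_f_rc_10_3 lc_f_rc_17_3 lc_f_rc_5_1 lc_f_rc_17_3 lc_f_rc_5_3 lc_f_rc_20_1 lc_f_rc_20_1 lc_f_rc_10_1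 lc_f_rc_14_1 lc_f_rc_17_1 lc_f_rc_5_1 lc_f_rc_10_3 lc_f_rc_5_1 lc_f_rc_10_3 lc_f_Cert_tree lc_f_rc_20_1 lc_f_rc_17_3 lc_f_rc_5_1 lc_f_rc_17_3 lc_f_rc_17_3 lc_f_rc_14_3 lc_f_rc_10_3 lc_f_rc_14_3 lc_f_rc_14_3 lc_f_rc_20_1 lc_f_Cert_tree lc_f_rc_5_1 lc_f_rc_10_3 lc_f_rc_5_1 lc_f_Cert_tree lc_f_rc_20_1 lc_f_rc_20_1 lc_f_rc_21_1 lc_f_rc_10_3 lc_f_rc_5_1 lc_f_rc_17_3) (@D3.rec (fun _ => (Cert rels S Gen.f)) lc_f_Cert_tree lc_f_rc_20_1 lc_f_rc_10_1 lc_f_rc_10_1 lc_f_rc_20_1 lc_f_rc_21_1 lc_f_rc_10_3 lc_f_rc_10_3 lc_f_rc_21_1 lc_f_rc_10_3 lc_f_rc_20_1 lc_f_rc_17_3 lc_f_rc_14_3 lc_f_rc_14_1 lc_f_rc_10_3 lc_f_rc_17_3 lc_f_Cert_tree lc_f_rc_14_3 lc_f_rc_19_5 lc_f_Cert_tree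 lc_f_rc_20_1 lc_f_rc_14_3 lc_f_rc_10_3 lc_f_rc_17_3 lc_f_rc_14_3 lc_f_rc_19_5 lc_f_rc_17_3 lc_f_rc_20_1 lc_f_rc_21_1 lc_f_Cert_tree lc_f_rc_20_1 lc_f_rc_14_3 lc_f_rc_5_3 lc_f_rc_10_3 lc_f_rc_17_3 lc_f_rc_10_3 lc_f_rc_19_5 lc_f_rc_20_1 lc_f_rc_10_3 lc_f_rc_14_3 lc_f_rc_17_3 lc_f_rc_20_1 lc_f_Cert_tree lc_f_rc_17_3 lc_f_rc_14_1 lc_f_rc_5_1 lc_f_rc_10_3 lc_f_rc_17_3 lc_f_Cert_tree lc_f_rc_5_3 lc_f_rc_21_1 lc_f_rc_14_3 lc_f_Cert_tree lc_f_rc_20_1 lc_f_rc_20_1 lc_f_rc_17_3 lc_f_rc_21_1 lc_f_rc_14_3 lc_f_Cert_tree lc_f_rc_10_3 lc_f_rc_14_3 lc_f_rc_17_1) (@D3.rec (fun _ => (Cert rels S Gen.f)) lc_f_Cert_tree lc_f_rc_14_3 lc_f_rc_5_1 lc_f_Cert_tree lc_f_rc_17_1 lc_f_rc_20_1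 lc_f_rc_19_3 lc_f_rc_17_3 lc_f_rc_5_1 lc_f_rc_10_3 lc_f_rc_17_3 lc_f_rc_19_5 lc_f_rc_17_1 lc_f_rc_21_1 lc_f_rc_10_3 lc_f_rc_5_3 lc_f_rc_14_3 lc_f_rc_20_1 lc_f_rc_17_3 lc_f_rc_10_3 lc_f_rc_17_3 lc_f_rc_17_3 lc_f_rc_5_1 lc_f_Cert_tree lc_f_rc_19_5 lc_f_rc_17_3 lc_f_rc_21_1 lc_f_rc_14_3 lc_f_rc_19_5 lc_f_rc_17_3 lc_f_rc_20_1 lc_f_rc_20_1 lc_f_rc_5_3 lc_f_rc_19_5 lc_f_rc_14_1 lc_f_rc_20_1 lc_f_rc_21_1 lc_f_rc_21_1 lc_f_rc_20_1 lc_f_Cert_tree lc_f_rc_20_1 lc_f_Cert_tree lc_f_Cert_tree lc_f_rc_20_1 lc_f_rc_10_3 lc_f_rc_17_3 lc_f_rc_22_1 lc_f_rc_10_3 lc_f_rc_21_1 lc_f_rc_21_1 lc_f_rc_14_3 lc_f_rc_14_3 lc_f_rc_22_1 lc_f_rc_22_1 lc_f_rc_17_3 lc_f_rc_17_3 lc_f_rc_17_1 lc_f_Cert_tree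 lc_f_rc_19_3 lc_f_rc_10_3 lc_f_rc_20_1 lc_f_rc_10_3) (@D3.rec (fun _ => (Cert rels S Gen.f)) lc_f_rc_10_3 lc_f_rc_10_3 lc_f_rc_5_3 lc_f_rc_10_3 lc_f_Cert_tree lc_f_rc_10_3 lc_f_rc_17_3 lc_f_rc_17_1 lc_f_rc_20_1 lc_f_rc_10_3 lc_f_rc_5_1 lc_f_rc_5_3 lc_f_rc_17_3 lc_f_Cert_tree lc_f_Cert_tree lc_f_rc_21_1 lc_f_rc_22_1 lc_f_rc_20_1 lc_f_rc_14_3 lc_f_rc_20_1 lc_f_rc_19_5 lc_f_rc_5_3 lc_f_rc_10_3 lc_f_rc_10_3 lc_f_rc_10_3 lc_f_Cert_tree lc_f_rc_5_3 lc_f_rc_19_5 lc_f_rc_5_1 lc_f_rc_5_3 lc_f_rc_17_3 lc_f_Cert_tree lc_f_Cert_tree lc_f_rc_21_1 lc_f_rc_20_1 lc_f_Cert_tree lc_f_rc_14_1 lc_f_rc_17_1 lc_f_rc_20_1 lc_f_rc_10_3 lc_f_rc_17_3 lc_f_rc_14_3 lc_f_rc_21_1 lc_f_Cert_tree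 lc_f_Cert_tree lc_f_rc_20_1 lc_f_rc_10_3 lc_f_Cert_tree lc_f_rc_10_3 lc_f_Cert_tree lc_f_rc_21_1 lc_f_rc_14_3 lc_f_rc_20_1 lc_f_rc_19_1 lc_f_rc_20_1 lc_f_rc_21_1 lc_f_rc_14_3 lc_f_rc_10_1 lc_f_rc_14_3 lc_f_rc_20_1 lc_f_rc_14_3 lc_f_rc_21_1) (@D3.rec (fun _ => (Cert rels S Gen.f)) lc_f_rc_22_1 lc_f_rc_5_3 lc_f_rc_5_3 lc_f_rc_17_3 lc_f_rc_10_3 lc_f_rc_17_3 lc_f_rc_20_1 lc_f_rc_14_3 lc_f_rc_10_3 lc_f_rc_5_3 lc_f_rc_21_1 lc_f_rc_20_1 lc_f_rc_20_1 lc_f_Cert_tree lc_f_rc_20_1 lc_f_rc_14_3 lc_f_rc_17_3 lc_f_rc_14_3 lc_f_rc_20_1 lc_f_rc_17_3 lc_f_rc_21_1 lc_f_rc_21_1 lc_f_rc_10_3 lc_f_rc_17_3 lc_f_rc_10_3 lc_f_rc_14_1 lc_f_rc_21_1 lc_f_rc_10_3 lc_f_rc_17_1 lc_f_Cert_tree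 lc_f_rc_14_3 lc_f_rc_17_3 lc_f_rc_14_3 lc_f_rc_14_3 lc_f_rc_17_3 lc_f_rc_21_1 lc_f_rc_19_5 lc_f_rc_17_3 lc_f_rc_10_3 lc_f_rc_17_3 lc_f_rc_22_1 lc_f_rc_17_3 lc_f_rc_5_1 lc_f_rc_14_3 lc_f_rc_10_3 lc_f_rc_20_1 lc_f_rc_19_3 lc_f_rc_21_1 lc_f_rc_22_1 lc_f_rc_14_3 lc_f_rc_21_1 lc_f_rc_10_3 lc_f_rc_14_3 lc_f_Cert_tree lc_f_rc_21_1 lc_f_rc_21_1 lc_f_rc_17_1 lc_f_rc_20_1 lc_f_rc_20_1 lc_f_rc_10_1 lc_f_rc_17_3 lc_f_rc_10_3) (@D3.rec (fun _ => (Cert rels S Gen.f)) lc_f_rc_10_3 lc_f_Cert_tree lc_f_Cert_tree lc_f_rc_5_1 lc_f_rc_10_3 lc_f_Cert_tree lc_f_rc_20_1 lc_f_Cert_tree lc_f_rc_10_1 lc_f_rc_5_1 lc_f_rc_10_3 lc_f_rc_10_3 lc_f_rc_10_3 lc_f_rc_17_3 lc_f_rc_20_1 lc_f_rc_10_3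 lc_f_rc_17_3 lc_f_rc_21_1 lc_f_rc_17_1 lc_f_rc_20_1 lc_f_rc_20_1 lc_f_rc_10_3 lc_f_rc_5_1 lc_f_rc_14_3 lc_f_rc_22_1 lc_f_rc_17_1 lc_f_rc_20_1 lc_f_rc_21_1 lc_f_rc_21_1 lc_f_rc_17_3 lc_f_rc_5_3 lc_f_rc_20_1 lc_f_rc_5_3 lc_f_Cert_tree lc_f_rc_20_1 lc_f_rc_22_1 lc_f_rc_10_3 lc_f_rc_17_3 lc_f_rc_14_3 lc_f_rc_10_3 lc_f_rc_17_3 lc_f_rc_19_1 lc_f_rc_21_1 lc_f_rc_20_1 lc_f_Cert_tree lc_f_rc_20_1 lc_f_rc_10_3 lc_f_rc_5_3 lc_f_rc_14_3 lc_f_rc_14_1 lc_f_rc_20_1 lc_f_rc_5_1 lc_f_rc_5_3 lc_f_rc_10_3 lc_f_Cert_tree lc_f_rc_10_3 lc_f_rc_17_3 lc_f_rc_14_3 lc_f_rc_21_1 lc_f_rc_14_3 lc_f_Cert_tree lc_f_rc_20_1) (@D3.rec (fun _ => (Cert rels S Gen.f)) lc_f_rc_14_3 lc_f_rc_17_3 lc_f_rc_10_3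 lc_f_rc_17_3 lc_f_rc_21_1 lc_f_rc_17_3 lc_f_Cert_tree lc_f_rc_20_1 lc_f_rc_5_3 lc_f_rc_14_3 lc_f_rc_21_1 lc_f_rc_14_3 lc_f_rc_17_3 lc_f_rc_14_3 lc_f_rc_14_3 lc_f_Cert_tree lc_f_rc_14_1 lc_f_rc_20_1 lc_f_rc_10_3 lc_f_rc_10_3 lc_f_rc_10_3 lc_f_Cert_tree lc_f_rc_14_3 lc_f_rc_14_3 lc_f_rc_14_3 lc_f_rc_10_3 lc_f_rc_5_1 lc_f_rc_20_1 lc_f_rc_5_1 lc_f_rc_14_3 lc_f_rc_10_3 lc_f_rc_20_1 lc_f_rc_10_1 lc_f_rc_20_1 lc_f_rc_21_1 lc_f_rc_10_3 lc_f_rc_17_3 lc_f_rc_10_3 lc_f_rc_17_3 lc_f_rc_14_1 lc_f_rc_21_1 lc_f_rc_17_3 lc_f_rc_17_1 lc_f_rc_19_5 lc_f_rc_5_1 lc_f_rc_20_1 lc_f_rc_5_3 lc_f_rc_10_1 lc_f_rc_20_1 lc_f_rc_10_1 lc_f_rc_10_3 lc_f_rc_20_1 lc_f_rc_20_1 lc_f_rc_17_1 lc_f_rc_10_3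 lc_f_rc_21_1 lc_f_rc_21_1 lc_f_rc_20_1 lc_f_Cert_tree lc_f_rc_20_1 lc_f_rc_5_1 lc_f_rc_5_1) (@D3.rec (fun _ => (Cert rels S Gen.f)) lc_f_rc_10_1 lc_f_rc_20_1 lc_f_rc_14_3 lc_f_rc_21_1 lc_f_rc_10_3 lc_f_rc_17_1 lc_f_rc_5_3 lc_f_rc_17_1 lc_f_rc_14_1 lc_f_rc_10_3 lc_f_rc_21_1 lc_f_rc_17_3 lc_f_rc_14_3 lc_f_rc_17_3 lc_f_Cert_tree lc_f_rc_20_1 lc_f_rc_5_1 lc_f_rc_17_3 lc_f_rc_17_1 lc_f_Cert_tree lc_f_rc_14_3 lc_f_rc_5_1 lc_f_rc_20_1 lc_f_rc_17_3 lc_f_rc_5_1 lc_f_Cert_tree lc_f_rc_20_1 lc_f_rc_21_1 lc_f_rc_10_3 lc_f_rc_21_1 lc_f_rc_21_1 lc_f_rc_21_1 lc_f_rc_14_3 lc_f_rc_19_5 lc_f_rc_17_1 lc_f_rc_20_1 lc_f_rc_21_1 lc_f_Cert_tree lc_f_rc_20_1 lc_f_rc_14_3 lc_f_rc_5_3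 lc_f_rc_17_3 lc_f_rc_19_3 lc_f_rc_17_3 lc_f_rc_14_3 lc_f_Cert_tree lc_f_rc_10_3 lc_f_rc_14_1 lc_f_rc_10_3 lc_f_rc_17_3 lc_f_rc_19_3 lc_f_rc_14_3 lc_f_Cert_tree lc_f_rc_17_3 lc_f_rc_17_3 lc_f_rc_21_1 lc_f_rc_19_5 lc_f_Cert_tree lc_f_rc_10_3 lc_f_rc_14_3 lc_f_rc_17_1 lc_f_Cert_tree) (@D3.rec (fun _ => (Cert rels S Gen.f)) lc_f_rc_21_1 lc_f_rc_14_3 lc_f_Cert_tree lc_f_rc_17_1 lc_f_rc_20_1 lc_f_rc_19_3 lc_f_rc_10_3 lc_f_rc_5_3 lc_f_rc_14_3 lc_f_rc_17_3 lc_f_rc_21_1 lc_f_rc_10_3 lc_f_rc_17_3 lc_f_rc_20_1 lc_f_rc_21_1 lc_f_rc_22_1 lc_f_Cert_tree lc_f_rc_5_1 lc_f_rc_10_3 lc_f_rc_14_3 lc_f_rc_17_3 lc_f_rc_10_3 lc_f_rc_14_3 lc_f_Cert_tree lc_f_rc_14_3 lc_f_rc_20_1 lc_f_rc_14_3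 lc_f_rc_22_1 lc_f_rc_14_3 lc_f_rc_17_3 lc_f_rc_14_3 lc_f_rc_10_3 lc_f_rc_17_1 lc_f_rc_14_3 lc_f_rc_21_1 lc_f_rc_17_1 lc_f_rc_19_5 lc_f_rc_17_3 lc_f_rc_17_3 lc_f_rc_14_3 lc_f_rc_10_3 lc_f_rc_17_1 lc_f_rc_10_3 lc_f_rc_17_3 lc_f_rc_5_3 lc_f_rc_14_3 lc_f_rc_14_3 lc_f_rc_22_1 lc_f_rc_17_3 lc_f_rc_17_3 lc_f_Cert_tree lc_f_rc_20_1 lc_f_rc_10_3 lc_f_rc_10_3 lc_f_rc_14_3 lc_f_rc_5_3 lc_f_rc_17_3 lc_f_Cert_tree lc_f_rc_20_1 lc_f_rc_10_3 lc_f_rc_10_1 lc_f_rc_21_1) (@D3.rec (fun _ => (Cert rels S Gen.f)) lc_f_rc_10_3 lc_f_rc_20_1 lc_f_Cert_tree lc_f_rc_21_1 lc_f_rc_17_3 lc_f_rc_5_1 lc_f_rc_5_3 lc_f_rc_17_3 lc_f_rc_10_3 lc_f_rc_17_3 lc_f_rc_17_3 lc_f_Cert_tree lc_f_rc_10_3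 lc_f_Cert_tree lc_f_rc_19_3 lc_f_rc_19_5 lc_f_rc_20_1 lc_f_rc_19_1 lc_f_rc_22_1 lc_f_rc_10_3 lc_f_rc_17_3 lc_f_rc_10_3 lc_f_rc_5_1 lc_f_rc_20_1 lc_f_rc_20_1 lc_f_Cert_tree lc_f_rc_5_1 lc_f_rc_14_3 lc_f_Cert_tree lc_f_rc_20_1 lc_f_rc_5_1 lc_f_rc_20_1 lc_f_Cert_tree lc_f_rc_20_1 lc_f_rc_14_3 lc_f_rc_21_1 lc_f_rc_14_3 lc_f_rc_5_3 lc_f_rc_10_3 lc_f_rc_19_5 lc_f_rc_19_1 lc_f_rc_5_3 lc_f_rc_17_3 lc_f_Cert_tree lc_f_rc_14_3 lc_f_rc_10_3 lc_f_rc_20_1 lc_f_Cert_tree lc_f_rc_10_3 lc_f_rc_14_3 lc_f_Cert_tree lc_f_rc_20_1 lc_f_Cert_tree lc_f_rc_20_1 lc_f_rc_10_3 lc_f_rc_5_1 lc_f_rc_10_3 lc_f_rc_17_3 lc_f_rc_5_3 lc_f_rc_5_1 lc_f_rc_14_1 lc_f_rc_20_1) (@D3.rec (fun _ => (Cert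 rels S Gen.f)) lc_f_rc_10_3 lc_f_rc_21_1 lc_f_rc_19_1 lc_f_rc_10_3 lc_f_rc_17_3 lc_f_rc_14_3 lc_f_rc_10_3 lc_f_rc_10_1 lc_f_rc_14_3 lc_f_rc_5_1 lc_f_rc_20_1 lc_f_rc_17_3 lc_f_rc_10_3 lc_f_rc_20_1 lc_f_rc_5_3 lc_f_rc_20_1 lc_f_rc_20_1 lc_f_rc_21_1 lc_f_rc_17_3 lc_f_Cert_tree lc_f_rc_20_1 lc_f_rc_20_1 lc_f_Cert_tree lc_f_rc_20_1 lc_f_rc_10_1 lc_f_rc_5_1 lc_f_Cert_tree lc_f_rc_20_1 lc_f_rc_5_3 lc_f_rc_10_3 lc_f_rc_5_3 lc_f_rc_10_3 lc_f_rc_20_1 lc_f_rc_21_1 lc_f_Cert_tree lc_f_rc_20_1 lc_f_rc_10_3 lc_f_rc_5_1 lc_f_rc_17_3 lc_f_rc_19_3 lc_f_rc_21_1 lc_f_rc_14_3 lc_f_Cert_tree lc_f_rc_21_1 lc_f_rc_14_1 lc_f_rc_14_3 lc_f_rc_10_3 lc_f_Cert_tree lc_f_rc_5_1 lc_f_Cert_tree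 lc_f_rc_10_3 lc_f_rc_17_1 lc_f_rc_20_1 lc_f_rc_17_3 lc_f_rc_14_3 lc_f_Cert_tree lc_f_rc_10_3 lc_f_rc_20_1 lc_f_Cert_tree lc_f_rc_21_1 lc_f_rc_20_1 lc_f_Cert_tree) (@D3.rec (fun _ => (Cert rels S Gen.f)) lc_f_rc_22_1 lc_f_rc_20_1 lc_f_rc_19_3 lc_f_rc_19_3 lc_f_rc_10_3 lc_f_rc_17_3 lc_f_rc_17_3 lc_f_rc_21_1 lc_f_rc_5_3 lc_f_rc_20_1 lc_f_rc_17_3 lc_f_rc_10_3 lc_f_rc_20_1 lc_f_rc_21_1 lc_f_rc_17_3 lc_f_Cert_tree lc_f_rc_19_3 lc_f_rc_20_1 lc_f_rc_5_3 lc_f_rc_10_3 lc_f_rc_21_1 lc_f_rc_14_3 lc_f_rc_20_1 lc_f_rc_10_3 lc_f_Cert_tree lc_f_rc_14_3 lc_f_Cert_tree lc_f_rc_20_1 lc_f_rc_20_1 lc_f_rc_20_1 lc_f_rc_5_3 lc_f_rc_17_3 lc_f_rc_14_3 lc_f_rc_17_3 lc_f_rc_10_3 lc_f_rc_17_3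 lc_f_rc_17_3 lc_f_rc_20_1 lc_f_rc_17_3 lc_f_rc_10_3 lc_f_Cert_tree lc_f_rc_20_1 lc_f_rc_20_1 lc_f_rc_20_1 lc_f_rc_21_1 lc_f_rc_14_3 lc_f_rc_20_1 lc_f_rc_14_3 lc_f_rc_21_1 lc_f_rc_20_1 lc_f_rc_14_3 lc_f_rc_10_3 lc_f_rc_10_3 lc_f_rc_10_3 lc_f_rc_10_1 lc_f_rc_10_3 lc_f_rc_5_1 lc_f_Cert_tree lc_f_rc_5_1 lc_f_rc_10_3 lc_f_Cert_tree lc_f_rc_20_1) (@D3.rec (fun _ => (Cert rels S Gen.f)) lc_f_rc_21_1 lc_f_rc_17_3 lc_f_Cert_tree lc_f_rc_20_1 lc_f_rc_14_1 lc_f_rc_14_1 lc_f_rc_20_1 lc_f_rc_20_1 lc_f_rc_5_1 lc_f_rc_20_1 lc_f_rc_5_1 lc_f_rc_14_1 lc_f_rc_20_1 lc_f_rc_5_3 lc_f_rc_21_1 lc_f_rc_5_3 lc_f_rc_17_3 lc_f_rc_22_1 lc_f_rc_17_3 lc_f_rc_10_3 lc_f_Cert_tree lc_f_rc_20_1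 lc_f_rc_19_5 lc_f_rc_14_1 lc_f_rc_17_3 lc_f_rc_10_3 lc_f_Cert_tree lc_f_rc_21_1 lc_f_rc_19_1 lc_f_rc_10_3 lc_f_Cert_tree lc_f_Cert_tree lc_f_rc_20_1 lc_f_rc_17_3 lc_f_rc_17_3 lc_f_Cert_tree lc_f_rc_22_1 lc_f_rc_17_3 lc_f_Cert_tree lc_f_rc_17_3 lc_f_rc_17_3 lc_f_rc_10_3 lc_f_rc_21_1 lc_f_rc_17_3 lc_f_rc_5_3 lc_f_rc_10_3 lc_f_rc_10_3 lc_f_Cert_tree lc_f_rc_21_1 lc_f_rc_17_3 lc_f_rc_20_1 lc_f_rc_5_3 lc_f_rc_10_3 lc_f_rc_14_3 lc_f_Cert_tree lc_f_rc_14_1 lc_f_rc_17_3 lc_f_rc_21_1 lc_f_rc_17_3 lc_f_Cert_tree lc_f_rc_17_1 lc_f_rc_10_3) (@D3.rec (fun _ => (Cert rels S Gen.f)) lc_f_rc_14_3 lc_f_rc_10_3 lc_f_rc_20_1 lc_f_rc_17_3 lc_f_rc_17_3 lc_f_Cert_tree lc_f_rc_14_3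 lc_f_rc_5_1 lc_f_rc_20_1 lc_f_rc_14_3 lc_f_rc_21_1 lc_f_rc_5_1 lc_f_rc_14_3 lc_f_rc_10_3 lc_f_rc_17_1 lc_f_Cert_tree lc_f_Cert_tree lc_f_rc_20_1 lc_f_rc_20_1 lc_f_rc_21_1 lc_f_rc_5_1 lc_f_rc_17_3 lc_f_rc_17_3 lc_f_Cert_tree lc_f_Cert_tree lc_f_rc_14_3 lc_f_rc_21_1 lc_f_Cert_tree lc_f_rc_20_1 lc_f_rc_17_3 lc_f_Cert_tree lc_f_rc_14_3 lc_f_rc_14_1 lc_f_Cert_tree lc_f_rc_20_1 lc_f_rc_10_3 lc_f_rc_17_3 lc_f_rc_14_3 lc_f_rc_10_3 lc_f_rc_17_3 lc_f_rc_21_1 lc_f_rc_20_1 lc_f_rc_22_1 lc_f_rc_20_1 lc_f_rc_5_3 lc_f_rc_5_3 lc_f_rc_21_1 lc_f_rc_21_1 lc_f_Cert_tree lc_f_rc_19_3 lc_f_rc_22_1 lc_f_rc_14_3 lc_f_rc_10_3 lc_f_rc_19_1 lc_f_rc_19_5 lc_f_rc_19_3 lc_f_rc_17_1 lc_f_rc_14_1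 lc_f_rc_17_3 lc_f_rc_14_1 lc_f_rc_19_3 lc_f_rc_17_3) (@D3.rec (fun _ => (Cert rels S Gen.f)) lc_f_rc_17_3 lc_f_rc_20_1 lc_f_rc_17_3 lc_f_rc_14_1 lc_f_rc_20_1 lc_f_rc_20_1 lc_f_rc_17_3 lc_f_Cert_tree lc_f_rc_10_3 lc_f_rc_5_3 lc_f_rc_5_1 lc_f_Cert_tree lc_f_rc_5_1 lc_f_rc_10_3 lc_f_rc_14_3 lc_f_rc_14_3 lc_f_Cert_tree lc_f_rc_20_1 lc_f_rc_17_3 lc_f_rc_14_3 lc_f_rc_21_1 lc_f_rc_17_3 lc_f_rc_17_1 lc_f_rc_10_3 lc_f_rc_21_1 lc_f_rc_20_1 lc_f_rc_17_1 lc_f_Cert_tree lc_f_rc_10_3 lc_f_rc_14_3 lc_f_Cert_tree lc_f_rc_20_1 lc_f_rc_10_3 lc_f_rc_5_1 lc_f_Cert_tree lc_f_rc_20_1 lc_f_rc_10_3 lc_f_rc_17_3 lc_f_rc_21_1 lc_f_rc_17_3 lc_f_rc_14_1 lc_f_rc_20_1 lc_f_rc_20_1 lc_f_rc_14_3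 lc_f_rc_20_1 lc_f_rc_5_1 lc_f_rc_10_1 lc_f_rc_20_1 lc_f_rc_14_1 lc_f_rc_10_3 lc_f_rc_20_1 lc_f_Cert_tree lc_f_rc_14_3 lc_f_rc_5_1 lc_f_rc_17_3 lc_f_rc_17_3 lc_f_Cert_tree lc_f_rc_17_3 lc_f_Cert_tree lc_f_rc_14_3 lc_f_rc_14_3 lc_f_Cert_tree) (@D3.rec (fun _ => (Cert rels S Gen.f)) lc_f_rc_20_1 lc_f_rc_10_3 lc_f_rc_21_1 lc_f_rc_17_1 lc_f_rc_10_3 lc_f_rc_17_3 lc_f_rc_21_1 lc_f_rc_17_3 lc_f_rc_14_3 lc_f_rc_14_3 lc_f_rc_17_3 lc_f_rc_14_1 lc_f_rc_17_3 lc_f_rc_20_1 lc_f_rc_21_1 lc_f_rc_5_3 lc_f_rc_20_1 lc_f_rc_5_3 lc_f_rc_14_1 lc_f_Cert_tree lc_f_rc_21_1 lc_f_Cert_tree lc_f_rc_20_1 lc_f_rc_19_5 lc_f_rc_14_3 lc_f_Cert_tree lc_f_rc_20_1 lc_f_rc_10_3 lc_f_rc_17_3 lc_f_rc_20_1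 lc_f_rc_10_3 lc_f_rc_21_1 lc_f_rc_14_3 lc_f_rc_21_1 lc_f_rc_20_1 lc_f_Cert_tree lc_f_rc_20_1 lc_f_rc_10_3 lc_f_rc_17_3 lc_f_rc_14_3 lc_f_rc_14_3 lc_f_rc_10_1 lc_f_rc_17_3 lc_f_rc_14_3 lc_f_rc_14_3 lc_f_rc_20_1 lc_f_rc_17_3 lc_f_rc_20_1 lc_f_rc_20_1 lc_f_rc_5_1 lc_f_rc_14_3 lc_f_Cert_tree lc_f_rc_10_3 lc_f_rc_21_1 lc_f_rc_20_1 lc_f_rc_14_1 lc_f_rc_14_1 lc_f_Cert_tree lc_f_rc_20_1 lc_f_rc_21_1 lc_f_rc_20_1 lc_f_rc_14_3) (@D3.rec (fun _ => (Cert rels S Gen.f)) lc_f_rc_5_1 lc_f_rc_22_1 lc_f_rc_20_1 lc_f_rc_22_1 lc_f_Cert_tree lc_f_rc_14_3 lc_f_rc_17_3 lc_f_Cert_tree lc_f_rc_14_3 lc_f_rc_5_1 lc_f_Cert_tree lc_f_rc_20_1 lc_f_rc_19_3 lc_f_rc_19_1 lc_f_Cert_tree lc_f_rc_20_1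 lc_f_rc_20_1 lc_f_Cert_tree lc_f_rc_20_1 lc_f_rc_17_3 lc_f_rc_14_3 lc_f_rc_14_3 lc_f_rc_21_1 lc_f_rc_22_1 lc_f_rc_17_3 lc_f_Cert_tree lc_f_rc_10_1 lc_f_rc_14_1 lc_f_Cert_tree lc_f_rc_20_1 lc_f_rc_10_3 lc_f_rc_21_1 lc_f_rc_10_3 lc_f_Cert_tree lc_f_rc_21_1 lc_f_rc_20_1 lc_f_rc_20_1 lc_f_rc_10_3 lc_f_rc_14_1 lc_f_rc_5_1 lc_f_Cert_tree lc_f_rc_14_3 lc_f_rc_14_3 lc_f_rc_17_3 lc_f_Cert_tree lc_f_rc_21_1 lc_f_rc_20_1 lc_f_Cert_tree lc_f_rc_20_1 lc_f_rc_5_3 lc_f_rc_5_3 lc_f_rc_17_3 lc_f_rc_10_3 lc_f_rc_21_1 lc_f_rc_14_3 lc_f_Cert_tree lc_f_rc_20_1 lc_f_rc_21_1 lc_f_rc_5_1 lc_f_rc_17_1 lc_f_rc_10_3 lc_f_rc_17_3) (@D3.rec (fun _ => (Cert rels S Gen.f)) lc_f_Cert_tree lc_f_rc_20_1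 lc_f_rc_17_3 lc_f_rc_21_1 lc_f_Cert_tree lc_f_rc_10_3 lc_f_rc_14_3 lc_f_Cert_tree lc_f_rc_17_3 lc_f_rc_5_1 lc_f_Cert_tree lc_f_rc_22_1 lc_f_rc_20_1 lc_f_rc_19_3 lc_f_rc_17_3 lc_f_rc_21_1 lc_f_rc_5_3 lc_f_rc_5_3 lc_f_rc_17_3 lc_f_rc_19_3 lc_f_rc_14_1 lc_f_rc_21_1 lc_f_rc_5_1 lc_f_Cert_tree lc_f_rc_19_3 lc_f_rc_21_1 lc_f_rc_19_5 lc_f_rc_10_3 lc_f_rc_21_1 lc_f_rc_14_3 lc_f_rc_10_3 lc_f_rc_17_3 lc_f_rc_20_1 lc_f_rc_14_3 lc_f_rc_5_1 lc_f_rc_17_3 lc_f_rc_22_1 lc_f_rc_20_1 lc_f_Cert_tree lc_f_rc_20_1 lc_f_rc_17_1 lc_f_rc_19_1 lc_f_rc_20_1 lc_f_rc_17_3 lc_f_rc_21_1 lc_f_rc_20_1 lc_f_Cert_tree lc_f_rc_5_3 lc_f_rc_19_3 lc_f_rc_14_3 lc_f_rc_19_5 lc_f_rc_17_3 lc_f_rc_14_3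 lc_f_Cert_tree lc_f_rc_20_1 lc_f_rc_5_3 lc_f_rc_10_1 lc_f_rc_14_3 lc_f_rc_5_3 lc_f_rc_17_3 lc_f_rc_10_3 lc_f_rc_5_1) (@D3.rec (fun _ => (Cert rels S Gen.f)) lc_f_rc_14_1 lc_f_rc_5_3 lc_f_rc_14_1 lc_f_rc_17_3 lc_f_rc_10_1 lc_f_rc_20_1 lc_f_rc_20_1 lc_f_rc_14_3 lc_f_rc_21_1 lc_f_rc_10_3 lc_f_rc_17_3 lc_f_rc_5_3 lc_f_rc_14_3 lc_f_rc_17_1 lc_f_Cert_tree lc_f_rc_14_3 lc_f_rc_21_1 lc_f_rc_10_3 lc_f_rc_10_3 lc_f_Cert_tree lc_f_Cert_tree lc_f_rc_10_3 lc_f_rc_19_3 lc_f_rc_10_1 lc_f_rc_14_3 lc_f_Cert_tree lc_f_rc_20_1 lc_f_rc_10_3 lc_f_rc_17_3 lc_f_rc_10_3 lc_f_rc_17_3 lc_f_rc_21_1 lc_f_rc_17_3 lc_f_rc_17_1 lc_f_rc_17_3 lc_f_rc_17_1 lc_f_rc_14_3 lc_f_rc_10_3 lc_f_rc_17_1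 lc_f_rc_14_3 lc_f_rc_21_1 lc_f_rc_5_3 lc_f_rc_14_3 lc_f_rc_14_3 lc_f_rc_10_3 lc_f_rc_21_1 lc_f_rc_21_1 lc_f_rc_10_3 lc_f_rc_14_3 lc_f_Cert_tree lc_f_rc_17_3 lc_f_rc_20_1 lc_f_rc_5_3 lc_f_rc_17_3 lc_f_rc_21_1 lc_f_rc_5_3 lc_f_rc_10_1 lc_f_rc_20_1 lc_f_rc_14_3 lc_f_rc_14_3 lc_f_rc_14_3 lc_f_rc_10_3) (@D3.rec (fun _ => (Cert rels S Gen.f)) lc_f_rc_17_3 lc_f_rc_17_3 lc_f_rc_10_3 lc_f_rc_17_3 lc_f_rc_21_1 lc_f_rc_20_1 lc_f_rc_20_1 lc_f_rc_5_1 lc_f_rc_5_1 lc_f_rc_20_1 lc_f_rc_20_1 lc_f_rc_10_3 lc_f_rc_17_3 lc_f_rc_14_3 lc_f_rc_19_1 lc_f_rc_10_3 lc_f_rc_17_3 lc_f_rc_14_1 lc_f_rc_17_1 lc_f_rc_10_3 lc_f_rc_21_1 lc_f_rc_20_1 lc_f_rc_21_1 lc_f_rc_14_3 lc_f_rc_10_3 lc_f_rc_17_3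 lc_f_Cert_tree lc_f_rc_21_1 lc_f_rc_14_3 lc_f_rc_10_3 lc_f_rc_20_1 lc_f_rc_20_1 lc_f_rc_14_3 lc_f_rc_21_1 lc_f_Cert_tree lc_f_rc_14_3 lc_f_rc_21_1 lc_f_rc_10_3 lc_f_rc_10_3 lc_f_rc_5_1 lc_f_Cert_tree lc_f_rc_20_1 lc_f_rc_22_1 lc_f_rc_5_3 lc_f_rc_10_3 lc_f_rc_20_1 lc_f_rc_21_1 lc_f_rc_20_1 lc_f_rc_5_1 lc_f_rc_20_1 lc_f_rc_21_1 lc_f_rc_19_3 lc_f_rc_19_3 lc_f_rc_22_1 lc_f_rc_17_3 lc_f_Cert_tree lc_f_rc_20_1 lc_f_rc_20_1 lc_f_rc_20_1 lc_f_rc_10_3 lc_f_rc_21_1 lc_f_Cert_tree) (@D3.rec (fun _ => (Cert rels S Gen.f)) lc_f_Cert_tree lc_f_rc_20_1 lc_f_Cert_tree lc_f_rc_20_1 lc_f_rc_14_3 lc_f_rc_5_3 lc_f_Cert_tree lc_f_rc_20_1 lc_f_rc_10_3 lc_f_rc_5_1 lc_f_rc_5_3 lc_f_rc_17_1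 lc_f_Cert_tree lc_f_rc_10_3 lc_f_rc_5_1 lc_f_rc_14_3 lc_f_rc_20_1 lc_f_rc_17_3 lc_f_rc_21_1 lc_f_rc_20_1 lc_f_rc_5_3 lc_f_Cert_tree lc_f_rc_20_1 lc_f_rc_17_3 lc_f_rc_21_1 lc_f_rc_10_3 lc_f_rc_14_1 lc_f_rc_22_1 lc_f_rc_20_1 lc_f_rc_14_3 lc_f_rc_21_1 lc_f_rc_20_1 lc_f_rc_10_3 lc_f_rc_20_1 lc_f_rc_19_5 lc_f_rc_14_3 lc_f_rc_14_3 lc_f_rc_5_3 lc_f_rc_10_3 lc_f_rc_20_1 lc_f_rc_14_1 lc_f_rc_5_1 lc_f_rc_10_3 lc_f_rc_20_1 lc_f_rc_20_1 lc_f_Cert_tree lc_f_Cert_tree lc_f_rc_14_3 lc_f_rc_5_1 lc_f_Cert_tree lc_f_rc_20_1 lc_f_rc_14_3 lc_f_rc_14_1 lc_f_Cert_tree lc_f_rc_20_1 lc_f_rc_10_3 lc_f_rc_17_3 lc_f_rc_14_3 lc_f_rc_10_3 lc_f_rc_17_3 lc_f_rc_19_5 lc_f_rc_21_1) (@D3.rec (fun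 _ => (Cert rels S Gen.f)) lc_f_rc_20_1 lc_f_Cert_tree lc_f_rc_20_1 lc_f_rc_20_1 lc_f_rc_20_1 lc_f_rc_22_1 lc_f_rc_10_3 lc_f_rc_14_3 lc_f_rc_14_3 lc_f_rc_5_1 lc_f_rc_5_3 lc_f_rc_5_3 lc_f_Cert_tree lc_f_rc_5_1 lc_f_rc_17_3 lc_f_rc_14_3 lc_f_rc_14_3 lc_f_Cert_tree lc_f_rc_20_1 lc_f_rc_21_1 lc_f_rc_17_3 lc_f_rc_10_3 lc_f_rc_17_3 lc_f_rc_19_3 lc_f_rc_17_3 lc_f_rc_17_3 lc_f_rc_14_3 lc_f_rc_14_3 lc_f_rc_14_3 lc_f_rc_5_1 lc_f_rc_17_3 lc_f_rc_14_3 lc_f_rc_20_1 lc_f_rc_17_3 lc_f_Cert_tree lc_f_rc_14_3 lc_f_rc_17_3 lc_f_rc_14_3 lc_f_Cert_tree lc_f_rc_10_3 lc_f_rc_5_1 lc_f_Cert_tree lc_f_rc_20_1 lc_f_rc_19_5 lc_f_rc_14_1 lc_f_Cert_tree lc_f_rc_20_1 lc_f_rc_21_1 lc_f_rc_20_1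 lc_f_Cert_tree lc_f_rc_20_1 lc_f_rc_14_3 lc_f_rc_14_1 lc_f_rc_20_1 lc_f_rc_10_1 lc_f_rc_17_3 lc_f_rc_21_1 lc_f_rc_10_3 lc_f_rc_14_3 lc_f_rc_14_1 lc_f_Cert_tree lc_f_rc_20_1) (@D3.rec (fun _ => (Cert rels S Gen.f)) lc_f_rc_17_1 lc_f_rc_5_1 lc_f_rc_17_3 lc_f_rc_14_3 lc_f_Cert_tree lc_f_rc_14_3 lc_f_rc_10_1 lc_f_Cert_tree lc_f_rc_20_1 lc_f_rc_17_3 lc_f_rc_10_3 lc_f_rc_22_1 lc_f_rc_10_3 lc_f_rc_20_1 lc_f_Cert_tree lc_f_rc_10_3 lc_f_rc_5_1 lc_f_Cert_tree lc_f_rc_20_1 lc_f_rc_10_3 lc_f_rc_5_3 lc_f_rc_5_3 lc_f_Cert_tree lc_f_rc_14_3 lc_f_rc_14_3 lc_f_rc_17_3 lc_f_Cert_tree lc_f_rc_21_1 lc_f_rc_20_1 lc_f_Cert_tree lc_f_rc_20_1 lc_f_rc_10_3 lc_f_rc_22_1 lc_f_rc_17_3 lc_f_rc_10_3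 lc_f_rc_17_3 lc_f_Cert_tree lc_f_rc_17_3 lc_f_rc_21_1 lc_f_rc_20_1 lc_f_rc_22_1 lc_f_rc_10_3 lc_f_rc_17_3 lc_f_Cert_tree lc_f_rc_17_3 lc_f_rc_21_1 lc_f_Cert_tree lc_f_rc_10_3 lc_f_rc_14_3 lc_f_Cert_tree lc_f_rc_14_3 lc_f_rc_17_3 lc_f_rc_17_3 lc_f_rc_19_5 lc_f_rc_17_3 lc_f_rc_14_3 lc_f_rc_5_3 lc_f_rc_17_3 lc_f_rc_20_1 lc_f_rc_17_3 lc_f_rc_17_3 lc_f_rc_17_3) (@D3.rec (fun _ => (Cert rels S Gen.f)) lc_f_Cert_tree lc_f_rc_14_1 lc_f_rc_20_1 lc_f_rc_10_3 lc_f_rc_21_1 lc_f_rc_17_3 lc_f_rc_10_3 lc_f_rc_21_1 lc_f_Cert_tree lc_f_rc_21_1 lc_f_rc_17_3 lc_f_rc_21_1 lc_f_rc_10_3 lc_f_rc_17_3 lc_f_rc_14_1 lc_f_rc_21_1 lc_f_rc_21_1 lc_f_rc_20_1 lc_f_rc_14_3 lc_f_rc_5_1 lc_f_Cert_tree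 lc_f_rc_20_1 lc_f_rc_10_3 lc_f_rc_17_3 lc_f_rc_21_1 lc_f_Cert_tree lc_f_rc_20_1 lc_f_rc_14_3 lc_f_rc_17_3 lc_f_rc_5_3 lc_f_rc_17_1 lc_f_rc_21_1 lc_f_rc_5_1 lc_f_rc_10_3 lc_f_Cert_tree lc_f_rc_21_1 lc_f_rc_14_3 lc_f_rc_14_1 lc_f_rc_10_3 lc_f_rc_22_1 lc_f_rc_20_1 lc_f_rc_5_3 lc_f_rc_17_3 lc_f_rc_17_3 lc_f_rc_20_1 lc_f_rc_20_1 lc_f_rc_20_1 lc_f_rc_20_1 lc_f_rc_21_1 lc_f_rc_10_3 lc_f_rc_10_3 lc_f_rc_5_1 lc_f_Cert_tree lc_f_rc_20_1 lc_f_rc_22_1 lc_f_rc_14_3 lc_f_rc_17_3 lc_f_rc_5_3 lc_f_rc_17_3 lc_f_rc_14_1 lc_f_rc_5_1 lc_f_rc_17_3) (@D3.rec (fun _ => (Cert rels S Gen.f)) lc_f_rc_14_3 lc_f_rc_20_1 lc_f_rc_20_1 lc_f_rc_5_1 lc_f_rc_10_3 lc_f_rc_10_3 lc_f_rc_10_3 lc_f_rc_10_3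 lc_f_Cert_tree lc_f_rc_17_3 lc_f_rc_5_1 lc_f_Cert_tree lc_f_rc_20_1 lc_f_rc_20_1 lc_f_rc_19_3 lc_f_rc_20_1 lc_f_rc_17_3 lc_f_rc_14_3 lc_f_rc_5_3 lc_f_Cert_tree lc_f_rc_10_3 lc_f_rc_17_3 lc_f_rc_5_3 lc_f_rc_14_1 lc_f_rc_17_1 lc_f_rc_20_1 lc_f_rc_22_1 lc_f_rc_10_1 lc_f_Cert_tree lc_f_rc_14_3 lc_f_rc_21_1 lc_f_rc_17_1 lc_f_rc_20_1 lc_f_rc_10_1 lc_f_rc_21_1 lc_f_rc_21_1 lc_f_rc_17_3 lc_f_rc_14_3 lc_f_rc_19_3 lc_f_rc_10_3 lc_f_rc_21_1 lc_f_rc_5_1 lc_f_rc_20_1 lc_f_rc_14_3 lc_f_rc_5_3 lc_f_rc_20_1 lc_f_rc_19_3 lc_f_rc_21_1 lc_f_Cert_tree lc_f_rc_20_1 lc_f_rc_20_1 lc_f_rc_20_1 lc_f_rc_5_3 lc_f_rc_20_1 lc_f_rc_5_1 lc_f_rc_5_1 lc_f_rc_19_1 lc_f_rc_10_3 lc_f_rc_14_1 lc_f_rc_17_3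 lc_f_rc_10_1 lc_f_rc_5_1) (@D3.rec (fun _ => (Cert rels S Gen.f)) lc_f_rc_14_3 lc_f_rc_14_3 lc_f_rc_21_1 lc_f_rc_21_1 lc_f_rc_14_3 lc_f_rc_20_1 lc_f_rc_14_3 lc_f_rc_22_1 lc_f_rc_20_1 lc_f_rc_17_3 lc_f_rc_20_1 lc_f_rc_5_1 lc_f_Cert_tree lc_f_rc_14_3 lc_f_Cert_tree lc_f_rc_14_3 lc_f_rc_14_1 lc_f_Cert_tree lc_f_rc_20_1 lc_f_rc_19_5 lc_f_rc_21_1 lc_f_Cert_tree lc_f_rc_20_1 lc_f_rc_21_1 lc_f_Cert_tree lc_f_rc_20_1 lc_f_rc_10_3 lc_f_rc_10_3 lc_f_Cert_tree lc_f_rc_5_1 lc_f_Cert_tree lc_f_rc_20_1 lc_f_rc_21_1 lc_f_rc_20_1 lc_f_rc_19_5 lc_f_rc_20_1 lc_f_rc_14_1 lc_f_rc_14_3 lc_f_rc_19_1 lc_f_rc_10_3 lc_f_rc_17_1 lc_f_rc_20_1 lc_f_rc_17_1 lc_f_rc_17_1 lc_f_rc_21_1 lc_f_rc_17_3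 lc_f_rc_14_3 lc_f_Cert_tree lc_f_Cert_tree lc_f_rc_20_1 lc_f_rc_20_1 lc_f_rc_14_1 lc_f_Cert_tree lc_f_rc_10_3 lc_f_rc_10_3 lc_f_Cert_tree lc_f_rc_20_1 lc_f_rc_5_3 lc_f_rc_10_3 lc_f_rc_17_3 lc_f_Cert_tree lc_f_rc_19_3) (@D3.rec (fun _ => (Cert rels S Gen.f)) lc_f_rc_19_5 lc_f_rc_17_3 lc_f_rc_17_3 lc_f_rc_17_3 lc_f_rc_20_1 lc_f_rc_10_3 lc_f_rc_20_1 lc_f_rc_5_3 lc_f_rc_5_3 lc_f_rc_17_3 lc_f_rc_10_3 lc_f_rc_21_1 lc_f_rc_17_3 lc_f_Cert_tree lc_f_rc_21_1 lc_f_rc_14_1 lc_f_rc_10_3 lc_f_rc_10_3 lc_f_rc_21_1 lc_f_Cert_tree lc_f_rc_20_1 lc_f_rc_17_3 lc_f_rc_21_1 lc_f_rc_21_1 lc_f_Cert_tree lc_f_rc_10_3 lc_f_rc_14_3 lc_f_rc_20_1 lc_f_Cert_tree lc_f_rc_17_3 lc_f_rc_20_1 lc_f_rc_10_1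 lc_f_rc_14_3 lc_f_rc_20_1 lc_f_rc_20_1 lc_f_rc_10_3 lc_f_rc_10_3 lc_f_rc_5_1 lc_f_Cert_tree lc_f_rc_5_1 lc_f_rc_10_3 lc_f_rc_17_1 lc_f_rc_5_1 lc_f_rc_10_3 lc_f_rc_10_3 lc_f_rc_5_3 lc_f_rc_17_1 lc_f_rc_21_1 lc_f_rc_5_1 lc_f_rc_14_3 lc_f_rc_20_1 lc_f_rc_17_3 lc_f_rc_17_3 lc_f_rc_5_3 lc_f_rc_21_1 lc_f_rc_14_3 lc_f_rc_17_3 lc_f_rc_17_3 lc_f_Cert_tree lc_f_rc_14_3 lc_f_rc_5_3 lc_f_rc_5_1) (@D3.rec (fun _ => (Cert rels S Gen.f)) lc_f_Cert_tree lc_f_rc_20_1 lc_f_rc_17_3 lc_f_rc_5_3 lc_f_rc_5_1 lc_f_rc_5_3 lc_f_Cert_tree lc_f_rc_14_3 lc_f_Cert_tree lc_f_rc_20_1 lc_f_rc_14_3 lc_f_Cert_tree lc_f_rc_20_1 lc_f_rc_5_1 lc_f_rc_21_1 lc_f_rc_14_3 lc_f_rc_10_1 lc_f_rc_14_3 lc_f_rc_17_1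 lc_f_rc_17_1 lc_f_rc_14_3 lc_f_rc_14_1 lc_f_rc_10_3 lc_f_rc_10_3 lc_f_Cert_tree lc_f_rc_14_3 lc_f_rc_21_1 lc_f_rc_21_1 lc_f_Cert_tree lc_f_rc_21_1 lc_f_rc_20_1 lc_f_rc_20_1 lc_f_rc_5_3 lc_f_rc_17_3 lc_f_rc_19_5 lc_f_Cert_tree lc_f_rc_21_1 lc_f_rc_5_3 lc_f_rc_10_3 lc_f_rc_10_3 lc_f_Cert_tree lc_f_rc_20_1 lc_f_Cert_tree lc_f_rc_20_1 lc_f_Cert_tree lc_f_rc_10_3 lc_f_rc_10_3 lc_f_rc_5_1 lc_f_rc_14_1 lc_f_rc_20_1 lc_f_rc_14_1 lc_f_rc_10_3 lc_f_rc_14_3 lc_f_Cert_tree lc_f_rc_14_1 lc_f_rc_10_3 lc_f_rc_10_1 lc_f_rc_5_1 lc_f_rc_10_3 lc_f_Cert_tree lc_f_rc_20_1 lc_f_rc_10_3) (@D3.rec (fun _ => (Cert rels S Gen.f)) lc_f_rc_17_3 lc_f_rc_20_1 lc_f_rc_5_1 lc_f_rc_20_1 lc_f_rc_5_1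 lc_f_rc_5_1 lc_f_rc_5_1 lc_f_rc_20_1 lc_f_rc_10_3 lc_f_rc_17_1 lc_f_rc_21_1 lc_f_rc_14_3 lc_f_Cert_tree lc_f_rc_20_1 lc_f_rc_10_3 lc_f_rc_21_1 lc_f_rc_10_3 lc_f_rc_17_3 lc_f_rc_5_3 lc_f_rc_20_1 lc_f_rc_17_3 lc_f_rc_17_3 lc_f_rc_14_3 lc_f_rc_20_1 lc_f_Cert_tree lc_f_rc_14_3 lc_f_rc_10_3 lc_f_rc_17_1 lc_f_rc_20_1 lc_f_rc_21_1 lc_f_rc_20_1 lc_f_Cert_tree lc_f_rc_20_1 lc_f_rc_17_3 lc_f_rc_14_3 lc_f_rc_20_1 lc_f_rc_5_3 lc_f_rc_21_1 lc_f_rc_20_1 lc_f_rc_14_1 lc_f_rc_10_3 lc_f_Cert_tree lc_f_rc_14_3 lc_f_rc_21_1 lc_f_rc_10_3 lc_f_rc_19_5 lc_f_rc_21_1 lc_f_Cert_tree lc_f_rc_20_1 lc_f_rc_5_3 lc_f_rc_14_3 lc_f_rc_10_3 lc_f_rc_20_1 lc_f_rc_17_3 lc_f_Cert_tree lc_f_Cert_tree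 lc_f_Cert_tree lc_f_Cert_tree lc_f_rc_20_1 lc_f_rc_21_1 lc_f_rc_17_3 lc_f_Cert_tree) (@D3.rec (fun _ => (Cert rels S Gen.f)) lc_f_Cert_tree lc_f_Cert_tree lc_f_Cert_tree lc_f_rc_20_1 lc_f_rc_10_3 lc_f_Cert_tree lc_f_rc_14_3 lc_f_rc_10_3 lc_f_Cert_tree lc_f_rc_20_1 lc_f_rc_21_1 lc_f_rc_14_3 lc_f_Cert_tree lc_f_rc_10_3 lc_f_rc_10_3 lc_f_rc_14_3 lc_f_rc_17_1 lc_f_rc_21_1 lc_f_rc_17_3 lc_f_rc_19_1 lc_f_rc_10_3 lc_f_rc_19_1 lc_f_Cert_tree lc_f_rc_20_1 lc_f_rc_5_1 lc_f_rc_10_1 lc_f_rc_17_1 lc_f_Cert_tree lc_f_rc_14_3 lc_f_rc_10_3 lc_f_rc_19_1 lc_f_rc_14_3 lc_f_rc_17_3 lc_f_rc_20_1 lc_f_rc_20_1 lc_f_rc_10_3 lc_f_rc_14_3 lc_f_rc_17_3 lc_f_Cert_tree lc_f_rc_20_1 lc_f_rc_21_1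 lc_f_rc_20_1 lc_f_Cert_tree lc_f_rc_20_1 lc_f_rc_5_1 lc_f_Cert_tree lc_f_rc_20_1 lc_f_rc_21_1 lc_f_rc_10_3 lc_f_rc_20_1 lc_f_rc_17_3 lc_f_rc_17_3 lc_f_rc_19_3 lc_f_rc_14_3 lc_f_rc_5_3 lc_f_rc_17_3 lc_f_rc_19_1 lc_f_rc_14_3 lc_f_rc_10_3 lc_f_rc_17_3 lc_f_rc_14_3 lc_f_rc_17_3) (@D3.rec (fun _ => (Cert rels S Gen.f)) lc_f_rc_14_3 lc_f_Cert_tree lc_f_rc_14_3 lc_f_rc_21_1 lc_f_rc_10_3 lc_f_rc_19_3 lc_f_rc_14_3 lc_f_rc_17_3 lc_f_rc_21_1 lc_f_rc_14_3 lc_f_rc_5_3 lc_f_rc_17_3 lc_f_rc_17_3 lc_f_rc_17_3 lc_f_rc_14_3 lc_f_Cert_tree lc_f_rc_10_3 lc_f_rc_21_1 lc_f_rc_5_3 lc_f_rc_17_3 lc_f_rc_19_3 lc_f_rc_14_3 lc_f_Cert_tree lc_f_rc_20_1 lc_f_Cert_tree lc_f_rc_20_1 lc_f_rc_20_1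 lc_f_rc_21_1 lc_f_rc_10_3 lc_f_rc_10_3 lc_f_rc_21_1 lc_f_Cert_tree lc_f_rc_20_1 lc_f_rc_17_3 lc_f_rc_20_1 lc_f_rc_5_1 lc_f_rc_19_3 lc_f_rc_17_3 lc_f_rc_10_1 lc_f_rc_22_1 lc_f_rc_17_1 lc_f_rc_20_1 lc_f_rc_5_1 lc_f_rc_10_1 lc_f_rc_10_3 lc_f_rc_20_1 lc_f_Cert_tree lc_f_rc_5_1 lc_f_rc_10_3 lc_f_Cert_tree lc_f_rc_20_1 lc_f_rc_5_1 lc_f_Cert_tree lc_f_rc_20_1 lc_f_rc_17_1 lc_f_rc_21_1 lc_f_rc_10_1 lc_f_rc_10_3 lc_f_rc_5_1 lc_f_rc_10_3 lc_f_rc_14_1 lc_f_rc_5_1) (@D3.rec (fun _ => (Cert rels S Gen.f)) lc_f_rc_10_3 lc_f_rc_17_3 lc_f_rc_14_3 lc_f_rc_20_1 lc_f_rc_21_1 lc_f_rc_20_1 lc_f_rc_20_1 lc_f_rc_14_3 lc_f_rc_20_1 lc_f_rc_20_1 lc_f_rc_19_1 lc_f_rc_5_1 lc_f_rc_21_1 lc_f_rc_17_1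 lc_f_Cert_tree lc_f_rc_17_3 lc_f_rc_14_3 lc_f_Cert_tree lc_f_rc_20_1 lc_f_rc_21_1 lc_f_Cert_tree lc_f_rc_20_1 lc_f_rc_14_3 lc_f_Cert_tree lc_f_rc_14_3 lc_f_rc_20_1 lc_f_rc_14_3 lc_f_rc_14_3 lc_f_rc_17_3 lc_f_Cert_tree lc_f_rc_5_1 lc_f_rc_5_1 lc_f_rc_5_1 lc_f_Cert_tree lc_f_rc_21_1 lc_f_rc_17_1 lc_f_rc_10_3 lc_f_rc_20_1 lc_f_rc_5_3 lc_f_rc_20_1 lc_f_rc_20_1 lc_f_rc_10_3 lc_f_rc_17_3 lc_f_rc_20_1 lc_f_Cert_tree lc_f_rc_21_1 lc_f_rc_20_1 lc_f_rc_14_3 lc_f_rc_17_3 lc_f_rc_20_1 lc_f_rc_14_3 lc_f_Cert_tree lc_f_rc_20_1 lc_f_rc_10_3 lc_f_rc_14_3 lc_f_Cert_tree lc_f_rc_20_1 lc_f_rc_5_1 lc_f_Cert_tree lc_f_rc_14_3 lc_f_rc_20_1 lc_f_rc_5_3) (@D3.rec (fun _ => (Cert rels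 S Gen.f)) lc_f_rc_10_3 lc_f_rc_17_3 lc_f_rc_5_3 lc_f_Cert_tree lc_f_rc_19_5 lc_f_rc_10_3 lc_f_rc_14_3 lc_f_Cert_tree lc_f_rc_22_1 lc_f_rc_20_1 lc_f_rc_20_1 lc_f_rc_20_1 lc_f_rc_10_3 lc_f_rc_14_1 lc_f_rc_14_3 lc_f_rc_17_3 lc_f_rc_5_1 lc_f_rc_17_3 lc_f_rc_17_1 lc_f_rc_20_1 lc_f_rc_21_1 lc_f_rc_14_3 lc_f_rc_20_1 lc_f_rc_14_1 lc_f_rc_10_3 lc_f_rc_17_3 lc_f_rc_14_1 lc_f_Cert_tree lc_f_rc_20_1 lc_f_rc_14_1 lc_f_Cert_tree lc_f_rc_5_1 lc_f_rc_17_1 lc_f_rc_20_1 lc_f_rc_21_1 lc_f_rc_14_3 lc_f_rc_21_1 lc_f_rc_14_1 lc_f_rc_10_3 lc_f_rc_17_1 lc_f_Cert_tree lc_f_rc_14_3 lc_f_rc_10_3 lc_f_Cert_tree lc_f_rc_20_1 lc_f_rc_5_1 lc_f_rc_5_3 lc_f_rc_17_3 lc_f_rc_20_1 lc_f_rc_17_3 lc_f_rc_21_1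 lc_f_Cert_tree lc_f_rc_20_1 lc_f_rc_21_1 lc_f_rc_21_1 lc_f_rc_21_1 lc_f_Cert_tree lc_f_rc_10_3 lc_f_rc_20_1 lc_f_rc_17_3 lc_f_Cert_tree lc_f_rc_17_3) (@D3.rec (fun _ => (Cert rels S Gen.f)) lc_f_rc_17_3 lc_f_Cert_tree lc_f_rc_20_1 lc_f_rc_20_1 lc_f_rc_17_3 lc_f_rc_14_3 lc_f_Cert_tree lc_f_rc_21_1 lc_f_rc_10_3 lc_f_rc_10_3 lc_f_rc_10_3 lc_f_rc_14_3 lc_f_Cert_tree lc_f_rc_20_1 lc_f_rc_14_1 lc_f_rc_20_1 lc_f_Cert_tree lc_f_rc_10_3 lc_f_rc_5_1 lc_f_Cert_tree lc_f_rc_22_1 lc_f_rc_5_1 lc_f_Cert_tree lc_f_rc_20_1 lc_f_rc_19_3 lc_f_rc_10_3 lc_f_rc_10_3 lc_f_Cert_tree lc_f_rc_17_1 lc_f_rc_10_3 lc_f_rc_17_3 lc_f_rc_14_3 lc_f_rc_14_1 lc_f_rc_17_3 lc_f_rc_19_5 lc_f_rc_17_3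 lc_f_rc_21_1 lc_f_Cert_tree lc_f_rc_10_3 lc_f_rc_5_1 lc_f_Cert_tree lc_f_rc_20_1 lc_f_Cert_tree lc_f_rc_20_1 lc_f_rc_14_3 lc_f_rc_5_1 lc_f_rc_17_3 lc_f_Cert_tree lc_f_Cert_tree lc_f_rc_21_1 lc_f_Cert_tree lc_f_rc_20_1 lc_f_rc_5_3 lc_f_rc_5_1 lc_f_rc_5_1 lc_f_rc_10_3 lc_f_rc_10_1 lc_f_rc_17_3 lc_f_rc_14_3 lc_f_Cert_tree lc_f_rc_10_3 lc_f_rc_5_1) (@D3.rec (fun _ => (Cert rels S Gen.f)) lc_f_Cert_tree lc_f_rc_20_1 lc_f_rc_10_3 lc_f_Cert_tree lc_f_rc_14_3 lc_f_rc_21_1 lc_f_Cert_tree lc_f_rc_20_1 lc_f_rc_10_1 lc_f_rc_14_3 lc_f_rc_10_3 lc_f_rc_21_1 lc_f_Cert_tree lc_f_rc_5_1 lc_f_Cert_tree lc_f_rc_20_1 lc_f_rc_5_1 lc_f_rc_5_1 lc_f_rc_5_3 lc_f_rc_14_1 lc_f_rc_21_1 lc_f_rc_14_3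 lc_f_rc_17_3 lc_f_Cert_tree lc_f_rc_10_3 lc_f_rc_5_1 lc_f_rc_14_1 lc_f_rc_20_1 lc_f_rc_14_3 lc_f_Cert_tree lc_f_rc_10_1 lc_f_rc_10_3 lc_f_Cert_tree lc_f_rc_20_1 lc_f_rc_20_1 lc_f_rc_21_1 lc_f_rc_5_1 lc_f_rc_10_3 lc_f_rc_17_3 lc_f_Cert_tree lc_f_rc_21_1 lc_f_rc_17_3 lc_f_Cert_tree lc_f_rc_20_1 lc_f_rc_10_3 lc_f_Cert_tree lc_f_rc_5_3 lc_f_rc_14_3 lc_f_Cert_tree lc_f_rc_20_1 lc_f_rc_19_3 lc_f_rc_10_3 lc_f_rc_17_3 lc_f_rc_14_3 lc_f_rc_20_1 lc_f_rc_10_1 lc_f_Cert_tree lc_f_rc_21_1 lc_f_Cert_tree lc_f_rc_20_1 lc_f_rc_5_3 lc_f_rc_21_1) (@D3.rec (fun _ => (Cert rels S Gen.f)) lc_f_rc_10_3 lc_f_Cert_tree lc_f_rc_20_1 lc_f_rc_14_3 lc_f_Cert_tree lc_f_rc_5_1 lc_f_rc_17_3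 lc_f_rc_14_3 lc_f_rc_20_1 lc_f_Cert_tree lc_f_rc_20_1 lc_f_rc_21_1 lc_f_Cert_tree lc_f_rc_20_1 lc_f_rc_5_1 lc_f_rc_10_3 lc_f_rc_5_1 lc_f_rc_17_3 lc_f_rc_17_1 lc_f_rc_21_1 lc_f_rc_17_3 lc_f_Cert_tree lc_f_rc_20_1 lc_f_rc_17_3 lc_f_Cert_tree lc_f_rc_10_3 lc_f_rc_17_3 lc_f_Cert_tree lc_f_rc_20_1 lc_f_rc_5_1 lc_f_Cert_tree lc_f_rc_20_1 lc_f_Cert_tree lc_f_rc_10_3 lc_f_Cert_tree lc_f_rc_5_3 lc_f_rc_14_3 lc_f_Cert_tree lc_f_rc_20_1 lc_f_rc_19_3 lc_f_rc_10_3 lc_f_Cert_tree lc_f_rc_10_1 lc_f_rc_14_3 lc_f_Cert_tree lc_f_rc_5_1 lc_f_rc_14_3 lc_f_rc_20_1 lc_f_rc_21_1 lc_f_Cert_tree lc_f_rc_20_1 lc_f_rc_20_1 lc_f_rc_20_1 lc_f_rc_14_3 lc_f_rc_14_3 lc_f_rc_20_1 lc_f_rc_20_1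 lc_f_rc_10_3 lc_f_rc_17_3 lc_f_rc_20_1 lc_f_rc_20_1 lc_f_rc_21_1) (@D3.rec (fun _ => (Cert rels S Gen.f)) lc_f_rc_20_1 lc_f_Cert_tree lc_f_rc_20_1 lc_f_rc_14_3 lc_f_Cert_tree lc_f_rc_14_3 lc_f_Cert_tree lc_f_rc_20_1 lc_f_rc_20_1 lc_f_rc_14_3 lc_f_rc_10_3 lc_f_rc_17_3 lc_f_Cert_tree lc_f_rc_17_1 lc_f_rc_17_3 lc_f_Cert_tree lc_f_rc_20_1 lc_f_rc_10_3 lc_f_rc_21_1 lc_f_rc_17_3 lc_f_Cert_tree lc_f_rc_19_5 lc_f_rc_19_5 lc_f_rc_17_3 lc_f_rc_14_3 lc_f_rc_5_3 lc_f_Cert_tree lc_f_rc_20_1 lc_f_rc_20_1 lc_f_rc_5_1 lc_f_rc_20_1 lc_f_rc_20_1 lc_f_rc_20_1 lc_f_rc_21_1 lc_f_rc_20_1 lc_f_Cert_tree lc_f_rc_20_1 lc_f_rc_10_3 lc_f_rc_10_1 lc_f_rc_17_3 lc_f_rc_17_3 lc_f_Cert_tree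 lc_f_rc_20_1 lc_f_rc_20_1 lc_f_Cert_tree lc_f_rc_10_3 lc_f_rc_14_3 lc_f_Cert_tree lc_f_rc_20_1 lc_f_rc_21_1 lc_f_Cert_tree lc_f_rc_14_3 lc_f_rc_20_1 lc_f_rc_19_3 lc_f_Cert_tree lc_f_rc_14_3 lc_f_rc_14_3 lc_f_rc_17_3 lc_f_Cert_tree lc_f_rc_20_1 lc_f_rc_21_1 lc_f_Cert_tree) (@D3.rec (fun _ => (Cert rels S Gen.f)) lc_f_rc_20_1 lc_f_rc_20_1 lc_f_rc_21_1 lc_f_rc_20_1 lc_f_rc_17_3 lc_f_rc_20_1 lc_f_rc_21_1 lc_f_Cert_tree lc_f_rc_20_1 lc_f_rc_14_3 lc_f_rc_14_3 lc_f_rc_20_1 lc_f_Cert_tree lc_f_rc_20_1 lc_f_rc_17_3 lc_f_rc_20_1 lc_f_rc_21_1 lc_f_rc_21_1 lc_f_rc_20_1 lc_f_rc_5_1 lc_f_rc_20_1 lc_f_rc_10_3 lc_f_rc_14_1 lc_f_rc_14_1 lc_f_rc_14_1 lc_f_Cert_tree lc_f_Cert_tree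 lc_f_rc_21_1 lc_f_rc_14_1 lc_f_Cert_tree lc_f_rc_20_1 lc_f_rc_17_3 lc_f_rc_14_3 lc_f_rc_14_1 lc_f_rc_17_3 lc_f_rc_17_3 lc_f_rc_10_1 lc_f_Cert_tree lc_f_rc_20_1 lc_f_rc_21_1 lc_f_rc_20_1 lc_f_rc_14_1 lc_f_rc_20_1 lc_f_Cert_tree lc_f_rc_5_3 lc_f_rc_10_3 lc_f_rc_17_3 lc_f_Cert_tree lc_f_rc_17_1 lc_f_rc_21_1 lc_f_rc_20_1 lc_f_Cert_tree lc_f_rc_19_3 lc_f_rc_17_1 lc_f_rc_20_1 lc_f_rc_21_1 lc_f_rc_17_3 lc_f_rc_19_5 lc_f_Cert_tree lc_f_rc_17_1 lc_f_Cert_tree lc_f_rc_14_3) (@D3.rec (fun _ => (Cert rels S Gen.f)) lc_f_Cert_tree lc_f_rc_21_1 lc_f_Cert_tree lc_f_rc_20_1 lc_f_rc_10_3 lc_f_rc_5_1 lc_f_rc_21_1 lc_f_Cert_tree lc_f_rc_14_3 lc_f_rc_20_1 lc_f_rc_20_1 lc_f_Cert_tree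 lc_f_rc_14_1 lc_f_rc_20_1 lc_f_Cert_tree lc_f_Cert_tree lc_f_rc_20_1 lc_f_rc_19_3 lc_f_rc_17_3 lc_f_rc_14_3 lc_f_rc_10_3 lc_f_rc_17_3 lc_f_rc_22_1 lc_f_rc_14_3 lc_f_rc_14_3 lc_f_rc_10_1 lc_f_rc_21_1 lc_f_rc_5_1 lc_f_rc_17_3 lc_f_rc_14_3 lc_f_rc_10_3 lc_f_rc_20_1 lc_f_rc_17_1 lc_f_Cert_tree lc_f_rc_10_1 lc_f_Cert_tree lc_f_rc_14_3 lc_f_rc_14_3 lc_f_rc_14_1 lc_f_rc_19_3 lc_f_rc_17_1 lc_f_rc_21_1 lc_f_rc_17_1 lc_f_rc_20_1 lc_f_rc_20_1 lc_f_rc_21_1 lc_f_rc_17_1 lc_f_rc_17_3 lc_f_Cert_tree lc_f_rc_14_3 lc_f_rc_20_1 lc_f_rc_17_3 lc_f_rc_21_1 lc_f_rc_10_3 lc_f_Cert_tree lc_f_rc_21_1 lc_f_rc_17_3 lc_f_Cert_tree lc_f_rc_20_1 lc_f_rc_14_3 lc_f_rc_20_1 lc_f_rc_10_3) (@D3.rec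 (fun _ => (Cert rels S Gen.f)) lc_f_Cert_tree lc_f_rc_10_3 lc_f_rc_10_3 lc_f_rc_14_3 lc_f_rc_20_1 lc_f_rc_20_1 lc_f_rc_17_3 lc_f_rc_14_3 lc_f_rc_10_3 lc_f_Cert_tree lc_f_rc_14_3 lc_f_rc_21_1 lc_f_rc_10_3 lc_f_Cert_tree lc_f_rc_14_3 lc_f_rc_17_1 lc_f_Cert_tree lc_f_rc_20_1 lc_f_rc_17_3 lc_f_rc_17_3 lc_f_rc_10_3 lc_f_rc_21_1 lc_f_rc_22_1 lc_f_Cert_tree lc_f_rc_17_3 lc_f_rc_17_3 lc_f_Cert_tree lc_f_rc_20_1 lc_f_rc_10_3 lc_f_Cert_tree lc_f_rc_10_3 lc_f_Cert_tree lc_f_Cert_tree lc_f_rc_21_1 lc_f_rc_5_1 lc_f_rc_10_1 lc_f_rc_20_1 lc_f_Cert_tree lc_f_rc_19_3 lc_f_rc_14_3 lc_f_rc_10_3 lc_f_rc_17_3 lc_f_rc_14_3 lc_f_rc_10_3 lc_f_rc_14_1 lc_f_rc_17_3 lc_f_rc_21_1 lc_f_rc_17_3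 lc_f_Cert_tree lc_f_rc_10_3 lc_f_rc_17_3 lc_f_rc_17_3 lc_f_Cert_tree lc_f_rc_21_1 lc_f_rc_14_3 lc_f_rc_10_3 lc_f_rc_10_3 lc_f_rc_14_3 lc_f_Cert_tree lc_f_rc_21_1 lc_f_rc_14_3 lc_f_rc_10_3) (@D3.rec (fun _ => (Cert rels S Gen.f)) lc_f_rc_14_3 lc_f_rc_10_3 lc_f_rc_5_3 lc_f_rc_10_3 lc_f_rc_20_1 lc_f_rc_22_1 lc_f_rc_21_1 lc_f_rc_10_3 lc_f_rc_17_3 lc_f_rc_5_1 lc_f_rc_20_1 lc_f_rc_20_1 lc_f_rc_20_1 lc_f_rc_20_1 lc_f_Cert_tree lc_f_rc_14_3 lc_f_rc_20_1 lc_f_rc_20_1 lc_f_rc_17_3 lc_f_rc_14_3 lc_f_rc_5_1 lc_f_rc_17_3 lc_f_rc_22_1 lc_f_Cert_tree lc_f_rc_20_1 lc_f_rc_21_1 lc_f_rc_20_1 lc_f_rc_17_3 lc_f_rc_17_3 lc_f_Cert_tree lc_f_rc_17_3 lc_f_rc_21_1 lc_f_rc_14_3 lc_f_Cert_tree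 lc_f_rc_10_3 lc_f_Cert_tree lc_f_rc_17_3 lc_f_rc_14_1 lc_f_Cert_tree lc_f_rc_20_1 lc_f_rc_10_3 lc_f_rc_21_1 lc_f_rc_14_3 lc_f_rc_14_3 lc_f_rc_21_1 lc_f_rc_20_1 lc_f_rc_20_1 lc_f_rc_21_1 lc_f_rc_10_3 lc_f_rc_17_3 lc_f_rc_21_1 lc_f_rc_20_1 lc_f_rc_14_3 lc_f_rc_17_3 lc_f_rc_19_3 lc_f_rc_10_3 lc_f_rc_19_3 lc_f_rc_21_1 lc_f_rc_5_3 lc_f_rc_17_3 lc_f_rc_10_3 lc_f_rc_17_3) (@D3.rec (fun _ => (Cert rels S Gen.f)) lc_f_rc_21_1 lc_f_rc_14_1 lc_f_Cert_tree lc_f_rc_20_1 lc_f_rc_10_3 lc_f_rc_5_3 lc_f_rc_17_3 lc_f_rc_14_3 lc_f_rc_5_1 lc_f_rc_17_1 lc_f_rc_14_3 lc_f_Cert_tree lc_f_rc_17_1 lc_f_Cert_tree lc_f_rc_20_1 lc_f_rc_10_3 lc_f_Cert_tree lc_f_rc_21_1 lc_f_rc_20_1 lc_f_Cert_tree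 lc_f_rc_20_1 lc_f_rc_20_1 lc_f_rc_20_1 lc_f_rc_17_1 lc_f_rc_21_1 lc_f_rc_5_3 lc_f_rc_10_1 lc_f_rc_10_3 lc_f_rc_17_3 lc_f_rc_10_3 lc_f_rc_14_1 lc_f_rc_21_1 lc_f_rc_17_3 lc_f_Cert_tree lc_f_rc_22_1 lc_f_rc_17_3 lc_f_rc_14_1 lc_f_Cert_tree lc_f_rc_17_3 lc_f_rc_10_3 lc_f_rc_14_3 lc_f_rc_20_1 lc_f_rc_21_1 lc_f_rc_17_1 lc_f_Cert_tree lc_f_rc_14_3 lc_f_rc_17_3 lc_f_rc_14_1 lc_f_rc_14_3 lc_f_rc_17_3 lc_f_rc_10_3 lc_f_Cert_tree lc_f_rc_10_3 lc_f_rc_21_1 lc_f_rc_20_1 lc_f_rc_20_1 lc_f_rc_21_1 lc_f_rc_10_3 lc_f_rc_10_3 lc_f_rc_10_3 lc_f_Cert_tree lc_f_rc_22_1) (@D3.rec (fun _ => (Cert rels S Gen.f)) lc_f_rc_19_5 lc_f_rc_21_1 lc_f_rc_20_1 lc_f_rc_17_1 lc_f_Cert_tree lc_f_rc_19_1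 lc_f_rc_10_1 lc_f_rc_5_3 lc_f_rc_10_3 lc_f_rc_14_3 lc_f_Cert_tree lc_f_rc_21_1 lc_f_rc_20_1 lc_f_rc_5_3 lc_f_rc_10_1 lc_f_Cert_tree lc_f_rc_17_3 lc_f_Cert_tree lc_f_rc_20_1 lc_f_rc_17_3 lc_f_rc_20_1 lc_f_rc_10_3 lc_f_rc_20_1 lc_f_rc_10_3 lc_f_rc_5_1 lc_f_Cert_tree lc_f_rc_20_1 lc_f_rc_20_1 lc_f_rc_21_1 lc_f_Cert_tree lc_f_rc_20_1 lc_f_rc_17_3 lc_f_rc_21_1 lc_f_rc_5_1 lc_f_rc_20_1 lc_f_rc_20_1 lc_f_rc_10_3 lc_f_rc_17_3 lc_f_rc_5_3 lc_f_rc_20_1 lc_f_rc_14_3 lc_f_rc_21_1 lc_f_rc_14_3 lc_f_rc_14_1 lc_f_Cert_tree lc_f_rc_5_1 lc_f_rc_10_3 lc_f_rc_19_5 lc_f_rc_20_1 lc_f_rc_21_1 lc_f_Cert_tree lc_f_rc_20_1 lc_f_rc_20_1 lc_f_rc_20_1 lc_f_rc_20_1 lc_f_rc_20_1 lc_f_rc_5_1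 lc_f_rc_20_1 lc_f_rc_17_3 lc_f_rc_17_1 lc_f_rc_20_1 lc_f_rc_14_3) (@D3.rec (fun _ => (Cert rels S Gen.f)) lc_f_rc_21_1 lc_f_rc_21_1 lc_f_Cert_tree lc_f_rc_20_1 lc_f_rc_10_1 lc_f_rc_17_3 lc_f_rc_17_3 lc_f_rc_19_3 lc_f_rc_21_1 lc_f_rc_21_1 lc_f_rc_21_1 lc_f_rc_17_1 lc_f_Cert_tree lc_f_rc_20_1 lc_f_rc_5_3 lc_f_rc_5_3 lc_f_rc_17_3 lc_f_rc_10_3 lc_f_rc_22_1 lc_f_rc_14_3 lc_f_Cert_tree lc_f_rc_14_3 lc_f_rc_5_3 lc_f_rc_17_3 lc_f_rc_17_1 lc_f_rc_14_3 lc_f_Cert_tree lc_f_rc_20_1 lc_f_rc_17_3 lc_f_rc_14_3 lc_f_Cert_tree lc_f_rc_10_3 lc_f_rc_14_1 lc_f_Cert_tree lc_f_rc_14_1 lc_f_rc_21_1 lc_f_Cert_tree lc_f_rc_22_1 lc_f_rc_20_1 lc_f_rc_19_3 lc_f_rc_10_3 lc_f_rc_5_3 lc_f_rc_21_1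 lc_f_rc_10_1 lc_f_rc_10_3 lc_f_rc_10_3 lc_f_rc_10_3 lc_f_rc_17_3 lc_f_rc_5_1 lc_f_rc_10_3 lc_f_rc_21_1 lc_f_rc_14_3 lc_f_rc_19_5 lc_f_rc_17_3 lc_f_rc_14_3 lc_f_rc_10_3 lc_f_rc_17_3 lc_f_rc_10_3 lc_f_rc_17_3 lc_f_rc_21_1 lc_f_rc_10_3 lc_f_rc_20_1) (@D3.rec (fun _ => (Cert rels S Gen.f)) lc_f_rc_17_3 lc_f_Cert_tree lc_f_rc_14_3 lc_f_Cert_tree lc_f_rc_20_1 lc_f_rc_20_1 lc_f_rc_20_1 lc_f_rc_21_1 lc_f_rc_20_1 lc_f_rc_5_3 lc_f_rc_14_3 lc_f_Cert_tree lc_f_rc_21_1 lc_f_rc_10_3 lc_f_rc_20_1 lc_f_Cert_tree lc_f_rc_5_1 lc_f_rc_14_3 lc_f_Cert_tree lc_f_rc_20_1 lc_f_rc_10_3 lc_f_rc_5_1 lc_f_Cert_tree lc_f_rc_20_1 lc_f_rc_10_3 lc_f_rc_17_3 lc_f_rc_21_1 lc_f_Cert_tree lc_f_rc_20_1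 lc_f_rc_21_1 lc_f_rc_17_3 lc_f_rc_14_3 lc_f_Cert_tree lc_f_rc_20_1 lc_f_rc_5_1 lc_f_rc_5_1 lc_f_rc_20_1 lc_f_rc_14_1 lc_f_rc_10_3 lc_f_rc_5_1 lc_f_rc_17_3 lc_f_rc_5_1 lc_f_rc_17_1 lc_f_rc_14_3 lc_f_rc_17_3 lc_f_rc_10_1 lc_f_Cert_tree lc_f_rc_14_3 lc_f_rc_21_1 lc_f_Cert_tree lc_f_rc_20_1 lc_f_rc_21_1 lc_f_rc_20_1 lc_f_Cert_tree lc_f_rc_20_1 lc_f_rc_22_1 lc_f_rc_14_3 lc_f_rc_5_1 lc_f_Cert_tree lc_f_rc_20_1 lc_f_rc_21_1 lc_f_Cert_tree) (@D3.rec (fun _ => (Cert rels S Gen.f)) lc_f_rc_20_1 lc_f_rc_10_3 lc_f_rc_21_1 lc_f_rc_5_1 lc_f_rc_14_1 lc_f_rc_21_1 lc_f_rc_14_3 lc_f_rc_10_3 lc_f_Cert_tree lc_f_rc_21_1 lc_f_rc_20_1 lc_f_Cert_tree lc_f_rc_20_1 lc_f_rc_5_3 lc_f_rc_17_3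 lc_f_rc_17_3 lc_f_rc_10_3 lc_f_Cert_tree lc_f_rc_21_1 lc_f_rc_5_3 lc_f_rc_17_1 lc_f_rc_10_3 lc_f_rc_14_3 lc_f_Cert_tree lc_f_rc_21_1 lc_f_rc_10_3 lc_f_Cert_tree lc_f_rc_14_3 lc_f_rc_21_1 lc_f_rc_20_1 lc_f_Cert_tree lc_f_rc_14_3 lc_f_rc_20_1 lc_f_rc_19_3 lc_f_rc_10_3 lc_f_rc_17_3 lc_f_rc_21_1 lc_f_rc_5_3 lc_f_rc_17_3 lc_f_rc_14_1 lc_f_rc_17_3 lc_f_rc_14_3 lc_f_Cert_tree lc_f_rc_17_3 lc_f_rc_14_3 lc_f_rc_14_3 lc_f_Cert_tree lc_f_rc_14_1 lc_f_rc_17_3 lc_f_rc_14_3 lc_f_rc_10_3 lc_f_rc_14_3 lc_f_rc_5_1 lc_f_rc_19_5 lc_f_rc_17_3 lc_f_rc_17_3 lc_f_rc_10_3 lc_f_rc_19_5 lc_f_rc_21_1 lc_f_rc_17_1 lc_f_Cert_tree lc_f_rc_17_1) (@D3.rec (fun _ => (Cert rels S Gen.f)) lc_f_rc_21_1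 lc_f_rc_22_1 lc_f_Cert_tree lc_f_rc_21_1 lc_f_rc_19_3 lc_f_rc_20_1 lc_f_rc_14_1 lc_f_rc_21_1 lc_f_rc_14_3 lc_f_rc_17_1 lc_f_rc_20_1 lc_f_rc_20_1 lc_f_rc_21_1 lc_f_rc_17_3 lc_f_rc_21_1 lc_f_rc_20_1 lc_f_rc_14_3 lc_f_rc_5_3 lc_f_rc_17_3 lc_f_rc_14_1 lc_f_rc_21_1 lc_f_Cert_tree lc_f_rc_20_1 lc_f_rc_17_3 lc_f_rc_20_1 lc_f_rc_5_1 lc_f_rc_14_3 lc_f_rc_17_3 lc_f_rc_5_3 lc_f_rc_14_3 lc_f_rc_17_3 lc_f_rc_17_3 lc_f_rc_10_1 lc_f_rc_19_5 lc_f_rc_14_1 lc_f_rc_21_1 lc_f_rc_17_3 lc_f_rc_19_3 lc_f_rc_20_1 lc_f_rc_17_3 lc_f_rc_17_3 lc_f_rc_21_1 lc_f_rc_21_1 lc_f_rc_21_1 lc_f_rc_14_3 lc_f_rc_22_1 lc_f_rc_17_1 lc_f_Cert_tree lc_f_rc_20_1 lc_f_rc_21_1 lc_f_rc_14_3 lc_f_Cert_tree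 lc_f_rc_21_1 lc_f_rc_20_1 lc_f_Cert_tree lc_f_rc_21_1 lc_f_rc_21_1 lc_f_rc_20_1 lc_f_rc_10_3 lc_f_rc_20_1 lc_f_rc_22_1 lc_f_Cert_tree) (@D3.rec (fun _ => (Cert rels S Gen.f)) lc_f_rc_21_1 lc_f_rc_17_3 lc_f_rc_10_3 lc_f_rc_10_3 lc_f_rc_10_3 lc_f_rc_5_1 lc_f_rc_14_3 lc_f_rc_17_3 lc_f_rc_22_1 lc_f_Cert_tree lc_f_rc_20_1 lc_f_rc_21_1 lc_f_rc_20_1 lc_f_Cert_tree lc_f_rc_17_3 lc_f_rc_17_3 lc_f_Cert_tree lc_f_rc_10_3 lc_f_rc_21_1 lc_f_Cert_tree lc_f_rc_20_1 lc_f_rc_17_1 lc_f_rc_20_1 lc_f_rc_20_1 lc_f_rc_17_3 lc_f_rc_21_1 lc_f_rc_22_1 lc_f_rc_20_1 lc_f_rc_10_3 lc_f_rc_10_3 lc_f_rc_10_3 lc_f_rc_5_1 lc_f_rc_14_3 lc_f_rc_10_3 lc_f_rc_17_3 lc_f_rc_17_1 lc_f_rc_21_1 lc_f_rc_10_3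 lc_f_rc_5_1 lc_f_rc_10_3 lc_f_rc_17_3 lc_f_rc_5_1 lc_f_rc_5_3 lc_f_rc_20_1 lc_f_rc_22_1 lc_f_Cert_tree lc_f_rc_14_3 lc_f_rc_17_3 lc_f_rc_19_1 lc_f_rc_5_1 lc_f_rc_10_3 lc_f_rc_5_1 lc_f_rc_5_3 lc_f_rc_17_3 lc_f_rc_14_3 lc_f_Cert_tree lc_f_rc_21_1 lc_f_rc_14_3 lc_f_Cert_tree lc_f_rc_10_3 lc_f_rc_21_1 lc_f_Cert_tree) (@D3.rec (fun _ => (Cert rels S Gen.f)) lc_f_rc_17_3 lc_f_rc_17_3 lc_f_Cert_tree lc_f_rc_10_3 lc_f_rc_17_3 lc_f_rc_5_3 lc_f_rc_20_1 lc_f_rc_21_1 lc_f_Cert_tree lc_f_rc_20_1 lc_f_rc_20_1 lc_f_rc_14_1 lc_f_rc_22_1 lc_f_rc_21_1 lc_f_rc_14_3 lc_f_rc_17_3 lc_f_Cert_tree lc_f_rc_21_1 lc_f_rc_20_1 lc_f_rc_10_3 lc_f_rc_17_3 lc_f_Cert_tree lc_f_rc_22_1 lc_f_rc_14_3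 lc_f_rc_22_1 lc_f_rc_10_1 lc_f_Cert_tree lc_f_rc_10_3 lc_f_rc_5_1 lc_f_rc_19_3 lc_f_rc_14_3 lc_f_Cert_tree lc_f_rc_10_1 lc_f_rc_10_3 lc_f_Cert_tree lc_f_rc_21_1 lc_f_rc_10_3 lc_f_rc_20_1 lc_f_rc_14_3 lc_f_Cert_tree lc_f_rc_21_1 lc_f_rc_17_3 lc_f_rc_20_1 lc_f_rc_14_3 lc_f_Cert_tree lc_f_rc_21_1 lc_f_rc_17_3 lc_f_rc_20_1 lc_f_rc_5_1 lc_f_rc_20_1 lc_f_rc_20_1 lc_f_rc_17_3 lc_f_Cert_tree lc_f_rc_10_3 lc_f_rc_14_3 lc_f_Cert_tree lc_f_Cert_tree lc_f_rc_21_1 lc_f_rc_5_1 lc_f_rc_17_1 lc_f_rc_20_1 lc_f_Cert_tree) (@D3.rec (fun _ => (Cert rels S Gen.f)) lc_f_rc_5_1 lc_f_rc_19_5 lc_f_rc_5_1 lc_f_rc_17_3 lc_f_rc_17_3 lc_f_rc_5_1 lc_f_Cert_tree lc_f_rc_20_1 lc_f_rc_10_3 lc_f_Cert_tree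 lc_f_rc_19_3 lc_f_rc_20_1 lc_f_rc_10_3 lc_f_rc_19_3 lc_f_rc_10_3 lc_f_rc_10_3 lc_f_Cert_tree lc_f_rc_21_1 lc_f_rc_10_3 lc_f_Cert_tree lc_f_rc_17_3 lc_f_Cert_tree lc_f_Cert_tree lc_f_rc_17_3 lc_f_rc_5_1 lc_f_rc_10_3 lc_f_rc_20_1 lc_f_Cert_tree lc_f_Cert_tree lc_f_rc_20_1 lc_f_rc_17_3 lc_f_Cert_tree lc_f_rc_22_1 lc_f_Cert_tree lc_f_rc_10_3 lc_f_Cert_tree lc_f_rc_17_3 lc_f_rc_21_1 lc_f_rc_20_1 lc_f_rc_19_1 lc_f_rc_17_3 lc_f_rc_20_1 lc_f_rc_14_3 lc_f_rc_21_1 lc_f_rc_10_3 lc_f_rc_19_5 lc_f_rc_21_1 lc_f_rc_20_1 lc_f_rc_14_3 lc_f_rc_20_1 lc_f_rc_17_3 lc_f_rc_10_3 lc_f_Cert_tree lc_f_rc_14_3 lc_f_rc_21_1 lc_f_rc_20_1 lc_f_rc_14_3 lc_f_rc_20_1 lc_f_rc_10_3 lc_f_rc_14_3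 lc_f_rc_5_1 lc_f_Cert_tree) (@D3.rec (fun _ => (Cert rels S Gen.f)) lc_f_rc_14_3 lc_f_rc_21_1 lc_f_Cert_tree lc_f_rc_20_1 lc_f_rc_17_3 lc_f_Cert_tree lc_f_rc_10_3 lc_f_rc_17_1 lc_f_rc_10_3 lc_f_rc_17_3 lc_f_rc_5_1 lc_f_rc_14_3 lc_f_rc_17_3 lc_f_rc_5_3 lc_f_Cert_tree lc_f_rc_5_1 lc_f_rc_10_1 lc_f_rc_5_1 lc_f_Cert_tree lc_f_rc_17_1 lc_f_rc_17_3 lc_f_Cert_tree lc_f_rc_10_3 lc_f_rc_5_1 lc_f_rc_20_1 lc_f_rc_19_3 lc_f_rc_17_3 lc_f_Cert_tree lc_f_rc_20_1 lc_f_rc_21_1 lc_f_rc_20_1 lc_f_rc_14_3 lc_f_rc_14_3 lc_f_rc_14_1 lc_f_rc_5_1 lc_f_rc_10_3 lc_f_rc_17_3 lc_f_rc_14_3 lc_f_rc_20_1 lc_f_rc_14_3 lc_f_rc_5_3 lc_f_rc_10_3 lc_f_Cert_tree lc_f_rc_17_3 lc_f_Cert_tree lc_f_Cert_tree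 lc_f_rc_17_1 lc_f_rc_20_1 lc_f_rc_19_3 lc_f_rc_14_3 lc_f_Cert_tree lc_f_rc_14_1 lc_f_Cert_tree lc_f_rc_14_3 lc_f_rc_21_1 lc_f_Cert_tree lc_f_rc_14_3 lc_f_rc_14_3 lc_f_rc_10_3 lc_f_rc_17_3 lc_f_Cert_tree lc_f_rc_21_1) (@D3.rec (fun _ => (Cert rels S Gen.f)) lc_f_Cert_tree lc_f_rc_20_1 lc_f_rc_21_1 lc_f_rc_14_3 lc_f_Cert_tree lc_f_rc_10_3 lc_f_rc_17_3 lc_f_Cert_tree lc_f_rc_21_1 lc_f_rc_20_1 lc_f_Cert_tree lc_f_rc_14_3 lc_f_rc_17_3 lc_f_rc_21_1 lc_f_Cert_tree lc_f_rc_21_1 lc_f_rc_10_3 lc_f_rc_20_1 lc_f_Cert_tree lc_f_rc_14_3 lc_f_rc_14_3 lc_f_Cert_tree lc_f_rc_10_3 lc_f_rc_21_1 lc_f_rc_17_1 lc_f_rc_20_1 lc_f_rc_14_3 lc_f_rc_17_3 lc_f_Cert_tree lc_f_rc_10_3 lc_f_rc_17_3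 lc_f_Cert_tree lc_f_rc_20_1 lc_f_rc_21_1 lc_f_rc_5_3 lc_f_rc_10_1 lc_f_rc_14_3 lc_f_rc_21_1 lc_f_rc_14_1 lc_f_Cert_tree lc_f_rc_20_1 lc_f_rc_19_3 lc_f_rc_21_1 lc_f_rc_10_3 lc_f_rc_14_3 lc_f_Cert_tree lc_f_rc_19_3 lc_f_rc_19_5 lc_f_rc_20_1 lc_f_rc_20_1 lc_f_rc_21_1 lc_f_rc_20_1 lc_f_rc_5_1 lc_f_rc_21_1 lc_f_rc_10_3 lc_f_rc_21_1 lc_f_rc_17_3 lc_f_rc_19_1 lc_f_rc_10_3 lc_f_rc_17_3 lc_f_rc_14_3 lc_f_rc_5_3) (@D3.rec (fun _ => (Cert rels S Gen.f)) lc_f_rc_5_3 lc_f_rc_17_1 lc_f_rc_10_3 lc_f_rc_17_3 lc_f_rc_20_1 lc_f_rc_21_1 lc_f_rc_21_1 lc_f_rc_22_1 lc_f_rc_17_3 lc_f_rc_10_3 lc_f_rc_14_3 lc_f_rc_19_1 lc_f_rc_21_1 lc_f_rc_10_1 lc_f_rc_19_3 lc_f_rc_17_1 lc_f_rc_20_1 lc_f_rc_14_3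 lc_f_Cert_tree lc_f_rc_17_3 lc_f_rc_20_1 lc_f_rc_19_5 lc_f_rc_10_3 lc_f_rc_10_3 lc_f_rc_14_3 lc_f_rc_5_1 lc_f_rc_17_3 lc_f_rc_14_3 lc_f_Cert_tree lc_f_rc_17_3 lc_f_rc_10_3 lc_f_rc_14_3 lc_f_Cert_tree lc_f_rc_21_1 lc_f_rc_14_3 lc_f_rc_19_1 lc_f_rc_17_3 lc_f_rc_19_5 lc_f_rc_14_3 lc_f_Cert_tree lc_f_Cert_tree lc_f_rc_20_1 lc_f_rc_10_3 lc_f_rc_21_1 lc_f_rc_20_1 lc_f_rc_19_1 lc_f_rc_10_3 lc_f_rc_20_1 lc_f_rc_17_3 lc_f_rc_10_3 lc_f_rc_19_1 lc_f_rc_20_1 lc_f_rc_21_1 lc_f_rc_17_3 lc_f_rc_14_3 lc_f_rc_10_3 lc_f_rc_20_1 lc_f_rc_10_3 lc_f_rc_19_3 lc_f_rc_10_3 lc_f_rc_21_1 lc_f_rc_20_1)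
def ce_f_8 : D2 → D3 → (Cert rels S Gen.f) := @D2.rec (fun _ => D3 → (Cert rels S Gen.f)) (@D3.rec (fun _ => (Cert rels S Gen.f)) lc_f_rc_14_3 lc_f_rc_14_3 lc_f_rc_21_1 lc_f_rc_21_1 lc_f_rc_10_3 lc_f_rc_21_1 lc_f_rc_10_3 lc_f_rc_10_3 lc_f_rc_17_1 lc_f_rc_20_1 lc_f_rc_5_1 lc_f_rc_21_1 lc_f_Cert_tree lc_f_rc_20_1 lc_f_rc_10_3 lc_f_rc_17_3 lc_f_rc_14_3 lc_f_rc_21_1 lc_f_rc_22_1 lc_f_rc_14_3 lc_f_rc_5_3 lc_f_Cert_tree lc_f_rc_10_3 lc_f_rc_5_1 lc_f_rc_20_1 lc_f_rc_20_1 lc_f_rc_14_3 lc_f_rc_21_1 lc_f_rc_20_1 lc_f_rc_20_1 lc_f_rc_20_1 lc_f_rc_10_3 lc_f_rc_10_3 lc_f_rc_5_1 lc_f_rc_5_3 lc_f_rc_14_3 lc_f_rc_20_1 lc_f_rc_20_1 lc_f_rc_5_1 lc_f_rc_14_3 lc_f_rc_20_1 lc_f_rc_21_1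 lc_f_rc_19_3 lc_f_rc_20_1 lc_f_rc_10_3 lc_f_rc_5_1 lc_f_rc_17_3 lc_f_rc_19_3 lc_f_rc_21_1 lc_f_rc_14_3 lc_f_rc_19_3 lc_f_rc_17_3 lc_f_rc_5_3 lc_f_rc_14_1 lc_f_rc_17_3 lc_f_rc_10_3 lc_f_rc_17_3 lc_f_rc_5_3 lc_f_rc_10_3 lc_f_rc_14_1 lc_f_rc_5_3 lc_f_rc_19_5) (@D3.rec (fun _ => (Cert rels S Gen.f)) lc_f_rc_20_1 lc_f_rc_14_3 lc_f_rc_17_3 lc_f_rc_21_1 lc_f_rc_17_3 lc_f_Cert_tree lc_f_Cert_tree lc_f_rc_20_1 lc_f_rc_10_3 lc_f_Cert_tree lc_f_rc_17_3 lc_f_rc_21_1 lc_f_rc_20_1 lc_f_rc_19_1 lc_f_Cert_tree lc_f_rc_5_3 lc_f_Cert_tree lc_f_Cert_tree lc_f_rc_20_1 lc_f_rc_21_1 lc_f_rc_20_1 lc_f_rc_20_1 lc_f_rc_21_1 lc_f_rc_20_1 lc_f_rc_10_3 lc_f_rc_17_3 lc_f_Cert_tree lc_f_rc_5_3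 lc_f_Cert_tree lc_f_rc_19_5 lc_f_rc_20_1 lc_f_Cert_tree lc_f_rc_10_3 lc_f_rc_20_1 lc_f_Cert_tree lc_f_rc_21_1 lc_f_rc_5_1 lc_f_rc_17_1 lc_f_rc_20_1 lc_f_Cert_tree lc_f_rc_19_3 lc_f_rc_10_1 lc_f_rc_21_1 lc_f_rc_14_3 lc_f_rc_5_3 lc_f_rc_20_1 lc_f_rc_21_1 lc_f_rc_17_3 lc_f_rc_20_1 lc_f_rc_21_1 lc_f_rc_20_1 lc_f_rc_14_3 lc_f_rc_17_3 lc_f_rc_17_3 lc_f_rc_5_1 lc_f_Cert_tree lc_f_Cert_tree lc_f_rc_20_1 lc_f_rc_19_3 lc_f_rc_10_3 lc_f_Cert_tree lc_f_rc_17_3) (@D3.rec (fun _ => (Cert rels S Gen.f)) lc_f_rc_21_1 lc_f_rc_20_1 lc_f_rc_19_1 lc_f_rc_17_3 lc_f_rc_17_1 lc_f_rc_10_3 lc_f_rc_20_1 lc_f_rc_10_1 lc_f_rc_5_1 lc_f_rc_17_3 lc_f_rc_14_1 lc_f_rc_10_3 lc_f_rc_17_1 lc_f_rc_5_1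 lc_f_rc_19_3 lc_f_rc_19_5 lc_f_rc_10_1 lc_f_rc_20_1 lc_f_Cert_tree lc_f_rc_5_3 lc_f_Cert_tree lc_f_rc_20_1 lc_f_rc_17_3 lc_f_Cert_tree lc_f_Cert_tree lc_f_rc_5_1 lc_f_Cert_tree lc_f_rc_14_3 lc_f_rc_5_1 lc_f_rc_20_1 lc_f_rc_19_1 lc_f_rc_17_3 lc_f_Cert_tree lc_f_rc_20_1 lc_f_rc_10_3 lc_f_rc_17_3 lc_f_Cert_tree lc_f_rc_10_3 lc_f_rc_17_3 lc_f_Cert_tree lc_f_rc_21_1 lc_f_rc_17_3 lc_f_rc_17_3 lc_f_Cert_tree lc_f_rc_14_3 lc_f_rc_17_3 lc_f_rc_14_3 lc_f_Cert_tree lc_f_rc_19_5 lc_f_Cert_tree lc_f_rc_17_1 lc_f_rc_20_1 lc_f_rc_19_3 lc_f_Cert_tree lc_f_rc_10_3 lc_f_Cert_tree lc_f_rc_17_3 lc_f_rc_20_1 lc_f_Cert_tree lc_f_rc_20_1 lc_f_rc_17_3 lc_f_Cert_tree) (@D3.rec (fun _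 => (Cert rels S Gen.f)) lc_f_rc_20_1 lc_f_rc_5_1 lc_f_rc_20_1 lc_f_rc_10_3 lc_f_rc_14_3 lc_f_rc_10_1 lc_f_rc_17_3 lc_f_rc_17_3 lc_f_rc_14_3 lc_f_rc_10_3 lc_f_Cert_tree lc_f_rc_17_3 lc_f_rc_21_1 lc_f_rc_20_1 lc_f_rc_17_3 lc_f_rc_17_3 lc_f_rc_17_3 lc_f_rc_17_1 lc_f_rc_10_3 lc_f_Cert_tree lc_f_rc_5_1 lc_f_rc_17_3 lc_f_rc_20_1 lc_f_rc_17_3 lc_f_Cert_tree lc_f_rc_19_5 lc_f_rc_14_1 lc_f_rc_17_1 lc_f_rc_17_3 lc_f_Cert_tree lc_f_rc_17_3 lc_f_rc_10_3 lc_f_Cert_tree lc_f_rc_17_3 lc_f_rc_17_3 lc_f_rc_17_3 lc_f_rc_17_3 lc_f_Cert_tree lc_f_rc_21_1 lc_f_rc_17_3 lc_f_rc_10_3 lc_f_rc_10_1 lc_f_Cert_tree lc_f_rc_17_3 lc_f_rc_17_3 lc_f_Cert_tree lc_f_rc_17_3 lc_f_Cert_tree lc_f_rc_20_1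 lc_f_Cert_tree lc_f_rc_10_3 lc_f_Cert_tree lc_f_rc_20_1 lc_f_rc_21_1 lc_f_rc_20_1 lc_f_rc_19_1 lc_f_rc_17_3 lc_f_rc_14_3 lc_f_Cert_tree lc_f_rc_14_3 lc_f_rc_10_3 lc_f_rc_14_3) (@D3.rec (fun _ => (Cert rels S Gen.f)) lc_f_Cert_tree lc_f_rc_17_1 lc_f_rc_20_1 lc_f_rc_17_3 lc_f_rc_14_3 lc_f_Cert_tree lc_f_rc_17_3 lc_f_rc_17_1 lc_f_rc_20_1 lc_f_Cert_tree lc_f_rc_10_3 lc_f_rc_5_1 lc_f_Cert_tree lc_f_rc_10_3 lc_f_rc_20_1 lc_f_Cert_tree lc_f_rc_14_3 lc_f_rc_17_3 lc_f_Cert_tree lc_f_rc_17_3 lc_f_rc_20_1 lc_f_rc_14_3 lc_f_rc_17_3 lc_f_Cert_tree lc_f_rc_10_3 lc_f_rc_17_3 lc_f_Cert_tree lc_f_Cert_tree lc_f_rc_21_1 lc_f_rc_5_1 lc_f_rc_17_1 lc_f_rc_20_1 lc_f_rc_14_3 lc_f_rc_21_1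 lc_f_Cert_tree lc_f_rc_19_3 lc_f_Cert_tree lc_f_rc_10_3 lc_f_Cert_tree lc_f_rc_10_3 lc_f_rc_21_1 lc_f_rc_20_1 lc_f_rc_19_1 lc_f_Cert_tree lc_f_rc_10_3 lc_f_Cert_tree lc_f_rc_17_3 lc_f_rc_5_1 lc_f_rc_20_1 lc_f_rc_17_3 lc_f_Cert_tree lc_f_Cert_tree lc_f_rc_21_1 lc_f_Cert_tree lc_f_rc_21_1 lc_f_rc_17_3 lc_f_rc_10_3 lc_f_Cert_tree lc_f_Cert_tree lc_f_rc_17_3 lc_f_rc_20_1 lc_f_rc_21_1) (@D3.rec (fun _ => (Cert rels S Gen.f)) lc_f_rc_19_3 lc_f_Cert_tree lc_f_rc_19_3 lc_f_rc_20_1 lc_f_rc_5_1 lc_f_rc_21_1 lc_f_rc_20_1 lc_f_Cert_tree lc_f_rc_5_1 lc_f_rc_5_1 lc_f_rc_17_3 lc_f_Cert_tree lc_f_Cert_tree lc_f_rc_20_1 lc_f_rc_19_3 lc_f_rc_17_3 lc_f_Cert_tree lc_f_rc_10_3 lc_f_Cert_tree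 lc_f_rc_10_3 lc_f_Cert_tree lc_f_rc_17_3 lc_f_rc_17_3 lc_f_rc_20_1 lc_f_rc_19_1 lc_f_rc_17_3 lc_f_rc_20_1 lc_f_rc_21_1 lc_f_rc_20_1 lc_f_rc_20_1 lc_f_rc_21_1 lc_f_rc_20_1 lc_f_Cert_tree lc_f_rc_21_1 lc_f_rc_5_1 lc_f_rc_17_1 lc_f_rc_20_1 lc_f_Cert_tree lc_f_rc_5_1 lc_f_rc_20_1 lc_f_rc_5_1 lc_f_rc_20_1 lc_f_rc_21_1 lc_f_Cert_tree lc_f_Cert_tree lc_f_rc_17_1 lc_f_rc_20_1 lc_f_rc_19_3 lc_f_rc_5_1 lc_f_rc_19_5 lc_f_rc_20_1 lc_f_rc_20_1 lc_f_rc_21_1 lc_f_rc_20_1 lc_f_rc_10_3 lc_f_rc_21_1 lc_f_rc_5_1 lc_f_rc_17_1 lc_f_rc_20_1 lc_f_Cert_tree lc_f_rc_19_3 lc_f_rc_5_1) (@D3.rec (fun _ => (Cert rels S Gen.f)) lc_f_rc_10_3 lc_f_rc_20_1 lc_f_Cert_tree lc_f_rc_20_1 lc_f_rc_20_1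 lc_f_rc_20_1 lc_f_rc_5_1 lc_f_rc_20_1 lc_f_rc_10_3 lc_f_rc_17_3 lc_f_Cert_tree lc_f_rc_17_3 lc_f_rc_21_1 lc_f_rc_20_1 lc_f_rc_17_3 lc_f_rc_14_3 lc_f_Cert_tree lc_f_rc_10_3 lc_f_rc_5_1 lc_f_rc_10_3 lc_f_Cert_tree lc_f_rc_21_1 lc_f_rc_5_1 lc_f_Cert_tree lc_f_rc_20_1 lc_f_rc_17_3 lc_f_rc_17_3 lc_f_rc_17_3 lc_f_rc_10_3 lc_f_rc_20_1 lc_f_rc_19_3 lc_f_rc_21_1 lc_f_rc_21_1 lc_f_rc_14_3 lc_f_rc_10_3 lc_f_rc_17_3 lc_f_Cert_tree lc_f_rc_17_3 lc_f_rc_21_1 lc_f_rc_20_1 lc_f_rc_21_1 lc_f_Cert_tree lc_f_rc_10_3 lc_f_rc_21_1 lc_f_rc_14_1 lc_f_rc_5_1 lc_f_rc_21_1 lc_f_rc_20_1 lc_f_rc_21_1 lc_f_rc_10_3 lc_f_rc_17_3 lc_f_Cert_tree lc_f_rc_10_3 lc_f_rc_5_1 lc_f_rc_20_1 lc_f_rc_10_3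 lc_f_rc_17_3 lc_f_Cert_tree lc_f_rc_21_1 lc_f_rc_17_3 lc_f_rc_20_1 lc_f_rc_17_3) (@D3.rec (fun _ => (Cert rels S Gen.f)) lc_f_Cert_tree lc_f_rc_10_3 lc_f_rc_21_1 lc_f_rc_10_3 lc_f_Cert_tree lc_f_rc_21_1 lc_f_rc_5_1 lc_f_rc_14_3 lc_f_rc_20_1 lc_f_rc_17_3 lc_f_rc_14_1 lc_f_Cert_tree lc_f_rc_20_1 lc_f_rc_19_3 lc_f_rc_21_1 lc_f_rc_21_1 lc_f_rc_14_3 lc_f_rc_17_3 lc_f_Cert_tree lc_f_rc_20_1 lc_f_rc_21_1 lc_f_rc_17_3 lc_f_Cert_tree lc_f_rc_20_1 lc_f_rc_5_1 lc_f_rc_20_1 lc_f_rc_10_3 lc_f_rc_5_3 lc_f_rc_17_3 lc_f_rc_5_1 lc_f_rc_5_3 lc_f_Cert_tree lc_f_rc_14_3 lc_f_rc_5_1 lc_f_Cert_tree lc_f_rc_20_1 lc_f_rc_14_3 lc_f_rc_17_3 lc_f_rc_5_1 lc_f_rc_5_1 lc_f_rc_19_5 lc_f_rc_20_1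 lc_f_Cert_tree lc_f_rc_20_1 lc_f_rc_10_3 lc_f_rc_19_5 lc_f_Cert_tree lc_f_rc_5_1 lc_f_Cert_tree lc_f_rc_10_3 lc_f_rc_21_1 lc_f_rc_14_1 lc_f_rc_17_3 lc_f_rc_21_1 lc_f_Cert_tree lc_f_rc_20_1 lc_f_rc_14_3 lc_f_rc_5_1 lc_f_rc_5_3 lc_f_rc_19_1 lc_f_rc_17_1 lc_f_rc_20_1) (@D3.rec (fun _ => (Cert rels S Gen.f)) lc_f_rc_5_1 lc_f_rc_5_1 lc_f_rc_17_3 lc_f_rc_14_3 lc_f_rc_21_1 lc_f_rc_17_3 lc_f_Cert_tree lc_f_rc_20_1 lc_f_rc_10_3 lc_f_rc_17_3 lc_f_rc_20_1 lc_f_rc_14_3 lc_f_rc_17_3 lc_f_Cert_tree lc_f_rc_21_1 lc_f_rc_20_1 lc_f_rc_17_3 lc_f_rc_5_1 lc_f_rc_17_3 lc_f_Cert_tree lc_f_rc_21_1 lc_f_rc_19_3 lc_f_Cert_tree lc_f_rc_20_1 lc_f_rc_20_1 lc_f_rc_20_1 lc_f_rc_20_1 lc_f_rc_21_1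 lc_f_rc_21_1 lc_f_rc_19_5 lc_f_rc_20_1 lc_f_Cert_tree lc_f_rc_20_1 lc_f_Cert_tree lc_f_rc_14_3 lc_f_rc_17_3 lc_f_Cert_tree lc_f_rc_21_1 lc_f_rc_17_3 lc_f_rc_20_1 lc_f_rc_10_3 lc_f_rc_5_1 lc_f_rc_5_3 lc_f_Cert_tree lc_f_rc_14_3 lc_f_rc_21_1 lc_f_Cert_tree lc_f_rc_20_1 lc_f_rc_5_1 lc_f_rc_5_1 lc_f_rc_20_1 lc_f_rc_20_1 lc_f_rc_20_1 lc_f_rc_10_3 lc_f_rc_10_3 lc_f_rc_5_1 lc_f_rc_5_3 lc_f_Cert_tree lc_f_Cert_tree lc_f_rc_20_1 lc_f_rc_17_3 lc_f_rc_5_1) (@D3.rec (fun _ => (Cert rels S Gen.f)) lc_f_rc_5_3 lc_f_rc_14_3 lc_f_rc_10_1 lc_f_Cert_tree lc_f_rc_20_1 lc_f_rc_5_3 lc_f_rc_20_1 lc_f_Cert_tree lc_f_Cert_tree lc_f_rc_17_1 lc_f_Cert_tree lc_f_rc_20_1 lc_f_rc_20_1 lc_f_rc_20_1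 lc_f_rc_20_1 lc_f_Cert_tree lc_f_rc_5_3 lc_f_rc_10_3 lc_f_rc_14_3 lc_f_rc_14_3 lc_f_Cert_tree lc_f_rc_19_3 lc_f_rc_21_1 lc_f_rc_14_3 lc_f_rc_20_1 lc_f_rc_14_3 lc_f_rc_14_3 lc_f_rc_17_3 lc_f_rc_21_1 lc_f_rc_21_1 lc_f_rc_21_1 lc_f_rc_17_3 lc_f_rc_14_3 lc_f_rc_19_3 lc_f_rc_21_1 lc_f_rc_10_3 lc_f_Cert_tree lc_f_rc_21_1 lc_f_rc_10_3 lc_f_rc_20_1 lc_f_Cert_tree lc_f_rc_17_3 lc_f_Cert_tree lc_f_rc_21_1 lc_f_rc_20_1 lc_f_rc_10_3 lc_f_rc_5_1 lc_f_rc_5_3 lc_f_rc_14_3 lc_f_rc_17_1 lc_f_rc_20_1 lc_f_rc_5_1 lc_f_rc_5_1 lc_f_rc_21_1 lc_f_rc_14_3 lc_f_rc_10_3 lc_f_rc_17_3 lc_f_rc_21_1 lc_f_rc_10_3 lc_f_rc_10_3 lc_f_rc_21_1 lc_f_rc_17_3) (@D3.rec (fun _ => (Cert rels S Gen.f))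 lc_f_Cert_tree lc_f_rc_10_3 lc_f_Cert_tree lc_f_rc_19_5 lc_f_rc_20_1 lc_f_rc_17_3 lc_f_rc_5_1 lc_f_rc_5_3 lc_f_Cert_tree lc_f_Cert_tree lc_f_rc_20_1 lc_f_rc_5_1 lc_f_rc_14_3 lc_f_rc_10_3 lc_f_rc_19_3 lc_f_rc_5_1 lc_f_rc_14_3 lc_f_rc_17_3 lc_f_rc_5_1 lc_f_Cert_tree lc_f_rc_20_1 lc_f_rc_10_3 lc_f_rc_17_3 lc_f_rc_19_3 lc_f_rc_21_1 lc_f_rc_20_1 lc_f_rc_5_1 lc_f_rc_17_3 lc_f_rc_21_1 lc_f_Cert_tree lc_f_rc_21_1 lc_f_rc_5_3 lc_f_rc_20_1 lc_f_rc_10_3 lc_f_rc_5_1 lc_f_rc_5_1 lc_f_rc_21_1 lc_f_Cert_tree lc_f_rc_10_1 lc_f_rc_20_1 lc_f_rc_10_3 lc_f_rc_10_3 lc_f_rc_5_1 lc_f_rc_17_1 lc_f_rc_20_1 lc_f_rc_19_1 lc_f_rc_14_3 lc_f_rc_21_1 lc_f_rc_10_3 lc_f_rc_17_3 lc_f_rc_10_3 lc_f_rc_17_3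 lc_f_rc_14_3 lc_f_rc_14_3 lc_f_rc_5_3 lc_f_rc_14_3 lc_f_Cert_tree lc_f_rc_14_3 lc_f_rc_17_1 lc_f_rc_17_1 lc_f_rc_20_1 lc_f_rc_19_3) (@D3.rec (fun _ => (Cert rels S Gen.f)) lc_f_rc_21_1 lc_f_rc_17_3 lc_f_Cert_tree lc_f_rc_19_5 lc_f_rc_14_3 lc_f_Cert_tree lc_f_rc_10_3 lc_f_rc_14_1 lc_f_Cert_tree lc_f_rc_21_1 lc_f_rc_14_3 lc_f_rc_14_3 lc_f_rc_14_3 lc_f_Cert_tree lc_f_rc_17_1 lc_f_rc_20_1 lc_f_rc_10_3 lc_f_rc_21_1 lc_f_Cert_tree lc_f_rc_10_1 lc_f_rc_5_1 lc_f_Cert_tree lc_f_rc_19_1 lc_f_rc_20_1 lc_f_Cert_tree lc_f_rc_5_3 lc_f_rc_10_3 lc_f_rc_17_3 lc_f_Cert_tree lc_f_rc_21_1 lc_f_rc_10_3 lc_f_rc_20_1 lc_f_Cert_tree lc_f_rc_10_3 lc_f_rc_21_1 lc_f_Cert_tree lc_f_rc_10_3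 lc_f_rc_21_1 lc_f_rc_20_1 lc_f_rc_10_1 lc_f_rc_17_3 lc_f_Cert_tree lc_f_rc_10_3 lc_f_rc_17_3 lc_f_rc_14_1 lc_f_rc_17_3 lc_f_rc_5_1 lc_f_rc_17_3 lc_f_Cert_tree lc_f_rc_20_1 lc_f_rc_19_3 lc_f_rc_10_3 lc_f_rc_5_1 lc_f_rc_21_1 lc_f_rc_20_1 lc_f_rc_20_1 lc_f_rc_20_1 lc_f_rc_21_1 lc_f_rc_20_1 lc_f_rc_5_1 lc_f_rc_20_1 lc_f_rc_20_1) (@D3.rec (fun _ => (Cert rels S Gen.f)) lc_f_rc_17_3 lc_f_rc_20_1 lc_f_rc_20_1 lc_f_rc_5_1 lc_f_rc_20_1 lc_f_rc_22_1 lc_f_rc_14_1 lc_f_rc_17_1 lc_f_rc_20_1 lc_f_rc_17_3 lc_f_rc_14_3 lc_f_rc_17_1 lc_f_rc_14_3 lc_f_rc_14_1 lc_f_rc_20_1 lc_f_rc_17_3 lc_f_rc_10_3 lc_f_rc_17_3 lc_f_rc_14_3 lc_f_rc_14_3 lc_f_rc_14_3 lc_f_Cert_tree lc_f_rc_20_1 lc_f_rc_20_1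 lc_f_Cert_tree lc_f_rc_20_1 lc_f_rc_5_1 lc_f_rc_17_3 lc_f_rc_20_1 lc_f_rc_17_3 lc_f_rc_19_5 lc_f_rc_14_1 lc_f_rc_19_3 lc_f_rc_17_3 lc_f_rc_17_3 lc_f_rc_21_1 lc_f_rc_5_1 lc_f_rc_10_3 lc_f_rc_14_1 lc_f_rc_5_3 lc_f_rc_20_1 lc_f_rc_19_3 lc_f_rc_21_1 lc_f_rc_10_1 lc_f_Cert_tree lc_f_Cert_tree lc_f_rc_20_1 lc_f_rc_19_5 lc_f_rc_20_1 lc_f_rc_20_1 lc_f_rc_19_1 lc_f_rc_20_1 lc_f_rc_20_1 lc_f_rc_17_3 lc_f_rc_17_1 lc_f_rc_19_1 lc_f_rc_21_1 lc_f_rc_14_3 lc_f_rc_5_1 lc_f_rc_10_3 lc_f_rc_17_3 lc_f_rc_10_3) (@D3.rec (fun _ => (Cert rels S Gen.f)) lc_f_rc_17_3 lc_f_rc_17_3 lc_f_rc_21_1 lc_f_rc_20_1 lc_f_rc_14_3 lc_f_Cert_tree lc_f_Cert_tree lc_f_rc_17_1 lc_f_rc_20_1 lc_f_rc_19_3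 lc_f_rc_19_3 lc_f_rc_14_3 lc_f_Cert_tree lc_f_rc_10_3 lc_f_rc_20_1 lc_f_rc_14_3 lc_f_Cert_tree lc_f_rc_14_3 lc_f_rc_19_3 lc_f_rc_14_3 lc_f_rc_14_3 lc_f_rc_14_3 lc_f_rc_20_1 lc_f_rc_21_1 lc_f_Cert_tree lc_f_rc_19_5 lc_f_rc_21_1 lc_f_rc_20_1 lc_f_rc_17_3 lc_f_rc_14_3 lc_f_rc_20_1 lc_f_rc_21_1 lc_f_rc_5_1 lc_f_rc_10_3 lc_f_rc_17_3 lc_f_rc_21_1 lc_f_Cert_tree lc_f_rc_14_3 lc_f_rc_10_3 lc_f_rc_14_3 lc_f_Cert_tree lc_f_rc_19_3 lc_f_rc_10_3 lc_f_rc_20_1 lc_f_Cert_tree lc_f_rc_10_3 lc_f_rc_17_3 lc_f_Cert_tree lc_f_rc_21_1 lc_f_rc_20_1 lc_f_rc_10_3 lc_f_rc_17_3 lc_f_Cert_tree lc_f_rc_21_1 lc_f_Cert_tree lc_f_Cert_tree lc_f_rc_14_3 lc_f_rc_5_1 lc_f_Cert_tree lc_f_rc_20_1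 lc_f_rc_17_3 lc_f_rc_21_1) (@D3.rec (fun _ => (Cert rels S Gen.f)) lc_f_rc_5_3 lc_f_Cert_tree lc_f_rc_20_1 lc_f_rc_19_3 lc_f_rc_17_3 lc_f_rc_17_3 lc_f_rc_10_3 lc_f_rc_21_1 lc_f_Cert_tree lc_f_rc_19_3 lc_f_rc_20_1 lc_f_rc_19_3 lc_f_rc_21_1 lc_f_rc_10_3 lc_f_rc_14_3 lc_f_rc_14_3 lc_f_rc_5_1 lc_f_rc_14_3 lc_f_rc_14_3 lc_f_rc_10_3 lc_f_rc_17_3 lc_f_Cert_tree lc_f_rc_19_3 lc_f_rc_19_5 lc_f_rc_20_1 lc_f_rc_21_1 lc_f_rc_21_1 lc_f_rc_5_3 lc_f_rc_20_1 lc_f_rc_14_3 lc_f_rc_10_3 lc_f_Cert_tree lc_f_rc_20_1 lc_f_rc_20_1 lc_f_rc_20_1 lc_f_rc_10_3 lc_f_rc_20_1 lc_f_rc_21_1 lc_f_rc_10_3 lc_f_rc_19_3 lc_f_rc_10_3 lc_f_Cert_tree lc_f_rc_17_3 lc_f_rc_20_1 lc_f_rc_17_3 lc_f_rc_10_3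 lc_f_rc_17_3 lc_f_rc_10_3 lc_f_rc_5_3 lc_f_rc_19_5 lc_f_rc_17_3 lc_f_rc_20_1 lc_f_rc_14_3 lc_f_rc_17_3 lc_f_rc_19_1 lc_f_rc_21_1 lc_f_rc_5_1 lc_f_rc_14_1 lc_f_rc_17_1 lc_f_rc_10_3 lc_f_rc_19_1 lc_f_rc_21_1) (@D3.rec (fun _ => (Cert rels S Gen.f)) lc_f_rc_14_3 lc_f_rc_21_1 lc_f_Cert_tree lc_f_rc_14_3 lc_f_Cert_tree lc_f_rc_17_3 lc_f_Cert_tree lc_f_rc_22_1 lc_f_rc_10_3 lc_f_rc_14_3 lc_f_rc_19_3 lc_f_rc_10_3 lc_f_rc_14_3 lc_f_Cert_tree lc_f_rc_19_3 lc_f_rc_21_1 lc_f_rc_20_1 lc_f_rc_14_3 lc_f_rc_17_3 lc_f_Cert_tree lc_f_rc_5_1 lc_f_rc_20_1 lc_f_rc_10_3 lc_f_rc_17_3 lc_f_rc_19_1 lc_f_rc_10_3 lc_f_rc_14_3 lc_f_Cert_tree lc_f_Cert_tree lc_f_rc_21_1 lc_f_rc_5_1 lc_f_Cert_tree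 lc_f_rc_20_1 lc_f_rc_21_1 lc_f_rc_17_3 lc_f_rc_17_3 lc_f_Cert_tree lc_f_rc_20_1 lc_f_rc_19_3 lc_f_rc_5_1 lc_f_rc_20_1 lc_f_rc_20_1 lc_f_Cert_tree lc_f_Cert_tree lc_f_rc_10_3 lc_f_rc_22_1 lc_f_rc_10_1 lc_f_rc_21_1 lc_f_rc_14_3 lc_f_rc_10_3 lc_f_rc_20_1 lc_f_rc_22_1 lc_f_Cert_tree lc_f_rc_14_3 lc_f_rc_20_1 lc_f_rc_19_3 lc_f_rc_10_3 lc_f_rc_14_3 lc_f_rc_17_3 lc_f_rc_21_1 lc_f_rc_20_1 lc_f_rc_14_1) (@D3.rec (fun _ => (Cert rels S Gen.f)) lc_f_rc_17_3 lc_f_Cert_tree lc_f_rc_17_3 lc_f_rc_17_3 lc_f_rc_20_1 lc_f_rc_10_3 lc_f_rc_14_3 lc_f_Cert_tree lc_f_rc_10_3 lc_f_rc_17_3 lc_f_Cert_tree lc_f_Cert_tree lc_f_rc_21_1 lc_f_rc_5_1 lc_f_Cert_tree lc_f_rc_20_1 lc_f_rc_21_1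 lc_f_rc_17_3 lc_f_rc_14_1 lc_f_Cert_tree lc_f_rc_20_1 lc_f_rc_19_3 lc_f_rc_20_1 lc_f_Cert_tree lc_f_rc_14_3 lc_f_Cert_tree lc_f_rc_14_3 lc_f_rc_10_3 lc_f_rc_14_3 lc_f_Cert_tree lc_f_rc_20_1 lc_f_rc_20_1 lc_f_rc_10_3 lc_f_rc_17_3 lc_f_Cert_tree lc_f_rc_17_3 lc_f_rc_20_1 lc_f_rc_5_1 lc_f_rc_10_3 lc_f_rc_17_3 lc_f_Cert_tree lc_f_rc_10_3 lc_f_rc_20_1 lc_f_rc_14_3 lc_f_rc_5_1 lc_f_Cert_tree lc_f_rc_20_1 lc_f_rc_20_1 lc_f_rc_14_3 lc_f_rc_17_3 lc_f_Cert_tree lc_f_rc_10_3 lc_f_rc_22_1 lc_f_Cert_tree lc_f_Cert_tree lc_f_rc_21_1 lc_f_rc_17_1 lc_f_rc_17_1 lc_f_rc_20_1 lc_f_rc_21_1 lc_f_rc_17_3 lc_f_Cert_tree) (@D3.rec (fun _ => (Cert rels S Gen.f)) lc_f_rc_19_3 lc_f_rc_21_1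 lc_f_rc_10_3 lc_f_rc_17_3 lc_f_Cert_tree lc_f_rc_21_1 lc_f_rc_19_3 lc_f_rc_20_1 lc_f_rc_19_5 lc_f_rc_21_1 lc_f_Cert_tree lc_f_rc_5_1 lc_f_rc_10_3 lc_f_Cert_tree lc_f_rc_20_1 lc_f_rc_5_1 lc_f_rc_20_1 lc_f_rc_10_3 lc_f_rc_17_3 lc_f_Cert_tree lc_f_rc_21_1 lc_f_rc_17_3 lc_f_rc_20_1 lc_f_rc_10_3 lc_f_rc_17_3 lc_f_rc_14_3 lc_f_rc_20_1 lc_f_rc_20_1 lc_f_Cert_tree lc_f_rc_10_3 lc_f_rc_14_3 lc_f_rc_14_3 lc_f_rc_5_1 lc_f_rc_14_3 lc_f_rc_5_3 lc_f_rc_17_3 lc_f_Cert_tree lc_f_rc_14_3 lc_f_rc_17_3 lc_f_Cert_tree lc_f_rc_21_1 lc_f_rc_14_3 lc_f_Cert_tree lc_f_rc_20_1 lc_f_rc_21_1 lc_f_rc_21_1 lc_f_rc_14_3 lc_f_rc_20_1 lc_f_rc_17_3 lc_f_Cert_tree lc_f_rc_20_1 lc_f_rc_21_1 lc_f_rc_10_3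 lc_f_rc_17_3 lc_f_rc_19_3 lc_f_rc_20_1 lc_f_Cert_tree lc_f_rc_20_1 lc_f_Cert_tree lc_f_rc_10_1 lc_f_Cert_tree lc_f_rc_20_1) (@D3.rec (fun _ => (Cert rels S Gen.f)) lc_f_rc_20_1 lc_f_Cert_tree lc_f_rc_10_3 lc_f_rc_10_3 lc_f_rc_20_1 lc_f_rc_21_1 lc_f_rc_5_3 lc_f_rc_10_3 lc_f_Cert_tree lc_f_rc_17_3 lc_f_rc_14_3 lc_f_Cert_tree lc_f_rc_20_1 lc_f_rc_14_3 lc_f_rc_21_1 lc_f_rc_20_1 lc_f_rc_5_3 lc_f_rc_10_3 lc_f_Cert_tree lc_f_Cert_tree lc_f_rc_5_3 lc_f_rc_14_3 lc_f_Cert_tree lc_f_rc_20_1 lc_f_rc_14_3 lc_f_rc_14_3 lc_f_rc_20_1 lc_f_rc_5_1 lc_f_Cert_tree lc_f_rc_20_1 lc_f_rc_10_3 lc_f_rc_17_3 lc_f_rc_10_3 lc_f_rc_17_3 lc_f_rc_5_3 lc_f_rc_20_1 lc_f_rc_21_1 lc_f_rc_10_3 lc_f_rc_19_3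 lc_f_rc_20_1 lc_f_rc_17_3 lc_f_rc_20_1 lc_f_rc_14_3 lc_f_rc_17_3 lc_f_Cert_tree lc_f_rc_17_3 lc_f_rc_14_3 lc_f_Cert_tree lc_f_rc_21_1 lc_f_rc_14_3 lc_f_Cert_tree lc_f_rc_20_1 lc_f_rc_10_3 lc_f_rc_21_1 lc_f_rc_21_1 lc_f_rc_20_1 lc_f_rc_10_3 lc_f_rc_14_3 lc_f_Cert_tree lc_f_rc_10_3 lc_f_rc_21_1 lc_f_Cert_tree) (@D3.rec (fun _ => (Cert rels S Gen.f)) lc_f_rc_20_1 lc_f_rc_21_1 lc_f_Cert_tree lc_f_rc_20_1 lc_f_rc_20_1 lc_f_rc_5_1 lc_f_rc_5_3 lc_f_rc_17_3 lc_f_Cert_tree lc_f_Cert_tree lc_f_rc_19_5 lc_f_rc_5_1 lc_f_rc_22_1 lc_f_rc_20_1 lc_f_rc_14_3 lc_f_rc_20_1 lc_f_rc_21_1 lc_f_rc_21_1 lc_f_Cert_tree lc_f_rc_20_1 lc_f_rc_10_3 lc_f_rc_5_1 lc_f_rc_10_3 lc_f_rc_10_3 lc_f_rc_22_1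 lc_f_Cert_tree lc_f_Cert_tree lc_f_rc_17_3 lc_f_rc_21_1 lc_f_Cert_tree lc_f_Cert_tree lc_f_rc_20_1 lc_f_rc_5_1 lc_f_rc_14_3 lc_f_rc_14_3 lc_f_rc_17_3 lc_f_Cert_tree lc_f_Cert_tree lc_f_Cert_tree lc_f_rc_20_1 lc_f_rc_5_3 lc_f_rc_20_1 lc_f_rc_17_3 lc_f_rc_10_3 lc_f_rc_19_5 lc_f_rc_20_1 lc_f_rc_20_1 lc_f_rc_17_3 lc_f_rc_5_1 lc_f_rc_10_3 lc_f_Cert_tree lc_f_rc_14_3 lc_f_rc_20_1 lc_f_rc_10_1 lc_f_rc_17_1 lc_f_Cert_tree lc_f_rc_10_3 lc_f_Cert_tree lc_f_rc_10_3 lc_f_rc_14_1 lc_f_rc_20_1 lc_f_rc_21_1) (@D3.rec (fun _ => (Cert rels S Gen.f)) lc_f_rc_20_1 lc_f_rc_19_1 lc_f_rc_21_1 lc_f_rc_14_3 lc_f_rc_17_3 lc_f_rc_20_1 lc_f_rc_19_3 lc_f_rc_5_1 lc_f_rc_19_5 lc_f_rc_19_5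 lc_f_rc_17_3 lc_f_rc_17_3 lc_f_rc_10_3 lc_f_rc_19_3 lc_f_rc_19_5 lc_f_rc_10_3 lc_f_rc_22_1 lc_f_Cert_tree lc_f_rc_21_1 lc_f_rc_19_3 lc_f_rc_20_1 lc_f_rc_14_3 lc_f_rc_19_5 lc_f_rc_21_1 lc_f_Cert_tree lc_f_rc_10_3 lc_f_Cert_tree lc_f_rc_17_3 lc_f_Cert_tree lc_f_rc_20_1 lc_f_rc_10_3 lc_f_rc_17_3 lc_f_Cert_tree lc_f_rc_17_3 lc_f_rc_20_1 lc_f_rc_10_3 lc_f_rc_17_3 lc_f_Cert_tree lc_f_rc_21_1 lc_f_rc_20_1 lc_f_rc_10_3 lc_f_rc_14_3 lc_f_Cert_tree lc_f_rc_10_3 lc_f_rc_17_3 lc_f_rc_5_1 lc_f_rc_5_1 lc_f_rc_20_1 lc_f_rc_5_3 lc_f_rc_10_3 lc_f_rc_21_1 lc_f_rc_17_3 lc_f_rc_17_3 lc_f_Cert_tree lc_f_rc_21_1 lc_f_rc_20_1 lc_f_Cert_tree lc_f_rc_20_1 lc_f_rc_21_1 lc_f_rc_21_1 lc_f_rc_19_3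 lc_f_Cert_tree) (@D3.rec (fun _ => (Cert rels S Gen.f)) lc_f_rc_17_3 lc_f_rc_5_1 lc_f_rc_5_3 lc_f_rc_10_3 lc_f_rc_5_3 lc_f_rc_10_3 lc_f_rc_17_1 lc_f_rc_14_3 lc_f_rc_22_1 lc_f_rc_21_1 lc_f_rc_21_1 lc_f_rc_20_1 lc_f_rc_20_1 lc_f_rc_20_1 lc_f_rc_20_1 lc_f_rc_14_3 lc_f_rc_21_1 lc_f_rc_22_1 lc_f_rc_10_3 lc_f_rc_21_1 lc_f_rc_5_1 lc_f_rc_14_3 lc_f_rc_17_3 lc_f_Cert_tree lc_f_rc_5_1 lc_f_rc_20_1 lc_f_rc_14_3 lc_f_rc_10_3 lc_f_rc_17_3 lc_f_rc_21_1 lc_f_rc_22_1 lc_f_Cert_tree lc_f_rc_14_3 lc_f_rc_20_1 lc_f_rc_21_1 lc_f_rc_5_3 lc_f_rc_21_1 lc_f_rc_19_5 lc_f_Cert_tree lc_f_rc_20_1 lc_f_rc_10_3 lc_f_rc_20_1 lc_f_rc_10_3 lc_f_rc_14_3 lc_f_rc_17_3 lc_f_rc_10_3 lc_f_rc_10_3 lc_f_rc_20_1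 lc_f_rc_5_1 lc_f_Cert_tree lc_f_rc_20_1 lc_f_rc_20_1 lc_f_rc_20_1 lc_f_rc_5_1 lc_f_rc_10_1 lc_f_rc_10_3 lc_f_rc_22_1 lc_f_Cert_tree lc_f_rc_17_3 lc_f_rc_19_3 lc_f_rc_20_1 lc_f_rc_10_3) (@D3.rec (fun _ => (Cert rels S Gen.f)) lc_f_rc_14_3 lc_f_rc_10_3 lc_f_rc_5_1 lc_f_rc_14_3 lc_f_rc_14_3 lc_f_rc_17_3 lc_f_rc_21_1 lc_f_rc_14_3 lc_f_rc_17_3 lc_f_Cert_tree lc_f_rc_21_1 lc_f_rc_14_3 lc_f_Cert_tree lc_f_rc_20_1 lc_f_rc_21_1 lc_f_rc_19_5 lc_f_rc_21_1 lc_f_rc_21_1 lc_f_rc_14_3 lc_f_rc_21_1 lc_f_rc_5_1 lc_f_rc_14_3 lc_f_rc_21_1 lc_f_rc_10_3 lc_f_rc_5_1 lc_f_rc_21_1 lc_f_rc_21_1 lc_f_rc_21_1 lc_f_rc_14_3 lc_f_rc_10_3 lc_f_rc_17_3 lc_f_rc_10_3 lc_f_rc_22_1 lc_f_Cert_tree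 lc_f_rc_20_1 lc_f_rc_20_1 lc_f_rc_10_3 lc_f_rc_20_1 lc_f_rc_20_1 lc_f_rc_5_1 lc_f_rc_10_3 lc_f_rc_14_3 lc_f_rc_17_3 lc_f_rc_5_1 lc_f_rc_17_3 lc_f_rc_22_1 lc_f_Cert_tree lc_f_rc_14_3 lc_f_rc_21_1 lc_f_Cert_tree lc_f_rc_20_1 lc_f_rc_14_3 lc_f_rc_17_3 lc_f_rc_21_1 lc_f_rc_21_1 lc_f_rc_10_3 lc_f_rc_5_3 lc_f_rc_19_3 lc_f_rc_14_3 lc_f_rc_10_3 lc_f_rc_14_3 lc_f_rc_19_3) (@D3.rec (fun _ => (Cert rels S Gen.f)) lc_f_rc_20_1 lc_f_rc_20_1 lc_f_rc_5_3 lc_f_rc_21_1 lc_f_rc_20_1 lc_f_rc_17_3 lc_f_rc_19_3 lc_f_rc_10_3 lc_f_rc_14_3 lc_f_rc_17_3 lc_f_rc_17_3 lc_f_rc_14_1 lc_f_rc_14_1 lc_f_rc_20_1 lc_f_rc_19_5 lc_f_rc_5_1 lc_f_rc_21_1 lc_f_Cert_tree lc_f_Cert_tree lc_f_rc_19_3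 lc_f_rc_20_1 lc_f_rc_5_3 lc_f_Cert_tree lc_f_rc_5_3 lc_f_rc_20_1 lc_f_rc_17_3 lc_f_rc_20_1 lc_f_rc_14_1 lc_f_rc_14_3 lc_f_rc_10_1 lc_f_rc_17_3 lc_f_rc_21_1 lc_f_rc_14_3 lc_f_rc_5_3 lc_f_rc_5_3 lc_f_rc_10_3 lc_f_rc_10_3 lc_f_rc_20_1 lc_f_rc_17_3 lc_f_rc_10_3 lc_f_rc_10_3 lc_f_rc_10_3 lc_f_rc_10_3 lc_f_rc_19_1 lc_f_rc_19_3 lc_f_rc_19_5 lc_f_rc_19_5 lc_f_rc_17_1 lc_f_rc_14_3 lc_f_rc_17_3 lc_f_rc_21_1 lc_f_rc_10_3 lc_f_rc_17_3 lc_f_rc_14_3 lc_f_rc_14_3 lc_f_rc_14_3 lc_f_rc_5_1 lc_f_rc_17_3 lc_f_Cert_tree lc_f_rc_19_5 lc_f_rc_20_1 lc_f_rc_20_1) (@D3.rec (fun _ => (Cert rels S Gen.f)) lc_f_rc_20_1 lc_f_rc_19_3 lc_f_rc_17_3 lc_f_rc_10_3 lc_f_rc_14_3 lc_f_rc_14_1 lc_f_rc_21_1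 lc_f_rc_19_3 lc_f_rc_20_1 lc_f_Cert_tree lc_f_rc_10_3 lc_f_rc_21_1 lc_f_Cert_tree lc_f_rc_21_1 lc_f_rc_10_3 lc_f_rc_20_1 lc_f_rc_14_3 lc_f_rc_10_1 lc_f_rc_10_3 lc_f_rc_17_3 lc_f_Cert_tree lc_f_rc_21_1 lc_f_rc_20_1 lc_f_rc_14_1 lc_f_rc_17_3 lc_f_Cert_tree lc_f_rc_14_3 lc_f_rc_14_3 lc_f_rc_14_3 lc_f_rc_19_5 lc_f_rc_14_3 lc_f_rc_17_3 lc_f_rc_17_3 lc_f_rc_14_3 lc_f_rc_14_3 lc_f_Cert_tree lc_f_rc_17_3 lc_f_rc_14_1 lc_f_rc_21_1 lc_f_rc_21_1 lc_f_rc_21_1 lc_f_rc_10_3 lc_f_rc_14_1 lc_f_rc_17_3 lc_f_Cert_tree lc_f_rc_21_1 lc_f_rc_10_3 lc_f_rc_17_3 lc_f_Cert_tree lc_f_rc_21_1 lc_f_rc_19_3 lc_f_rc_20_1 lc_f_rc_5_3 lc_f_rc_10_1 lc_f_rc_14_3 lc_f_rc_14_3 lc_f_rc_20_1 lc_f_rc_20_1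 lc_f_rc_10_3 lc_f_rc_20_1 lc_f_rc_21_1 lc_f_rc_17_3) (@D3.rec (fun _ => (Cert rels S Gen.f)) lc_f_rc_10_3 lc_f_rc_20_1 lc_f_rc_14_3 lc_f_rc_5_1 lc_f_rc_21_1 lc_f_rc_19_5 lc_f_rc_20_1 lc_f_rc_20_1 lc_f_rc_20_1 lc_f_rc_19_5 lc_f_rc_10_3 lc_f_rc_17_3 lc_f_rc_14_3 lc_f_rc_17_1 lc_f_rc_14_3 lc_f_rc_10_3 lc_f_rc_14_3 lc_f_rc_14_3 lc_f_Cert_tree lc_f_rc_10_3 lc_f_rc_17_3 lc_f_Cert_tree lc_f_rc_5_1 lc_f_rc_20_1 lc_f_rc_10_3 lc_f_rc_17_3 lc_f_rc_14_1 lc_f_rc_10_1 lc_f_rc_17_1 lc_f_Cert_tree lc_f_rc_10_3 lc_f_rc_10_1 lc_f_rc_14_3 lc_f_rc_10_3 lc_f_rc_14_3 lc_f_rc_22_1 lc_f_Cert_tree lc_f_rc_14_3 lc_f_rc_17_1 lc_f_rc_20_1 lc_f_rc_10_3 lc_f_rc_5_1 lc_f_rc_10_1 lc_f_rc_19_5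 lc_f_rc_19_5 lc_f_rc_14_3 lc_f_rc_14_1 lc_f_rc_5_1 lc_f_rc_21_1 lc_f_rc_14_3 lc_f_rc_10_1 lc_f_rc_21_1 lc_f_rc_5_3 lc_f_rc_14_3 lc_f_Cert_tree lc_f_rc_20_1 lc_f_rc_17_3 lc_f_rc_19_5 lc_f_rc_5_1 lc_f_rc_17_3 lc_f_rc_17_1 lc_f_Cert_tree) (@D3.rec (fun _ => (Cert rels S Gen.f)) lc_f_Cert_tree lc_f_rc_20_1 lc_f_rc_10_3 lc_f_Cert_tree lc_f_rc_17_3 lc_f_rc_5_1 lc_f_rc_20_1 lc_f_rc_19_1 lc_f_rc_17_3 lc_f_rc_5_1 lc_f_Cert_tree lc_f_Cert_tree lc_f_rc_14_1 lc_f_rc_5_1 lc_f_rc_19_3 lc_f_rc_20_1 lc_f_rc_17_3 lc_f_Cert_tree lc_f_Cert_tree lc_f_rc_10_3 lc_f_rc_17_3 lc_f_rc_19_3 lc_f_Cert_tree lc_f_Cert_tree lc_f_rc_10_3 lc_f_rc_5_1 lc_f_rc_19_3 lc_f_rc_10_1 lc_f_Cert_tree lc_f_rc_10_3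 lc_f_rc_17_1 lc_f_rc_19_3 lc_f_rc_14_3 lc_f_Cert_tree lc_f_Cert_tree lc_f_rc_10_3 lc_f_rc_17_3 lc_f_rc_10_3 lc_f_rc_10_3 lc_f_rc_5_1 lc_f_rc_20_1 lc_f_Cert_tree lc_f_rc_21_1 lc_f_rc_20_1 lc_f_rc_10_3 lc_f_rc_17_3 lc_f_rc_19_3 lc_f_rc_10_3 lc_f_rc_20_1 lc_f_rc_10_3 lc_f_rc_21_1 lc_f_rc_14_1 lc_f_rc_21_1 lc_f_rc_20_1 lc_f_rc_19_5 lc_f_rc_20_1 lc_f_Cert_tree lc_f_rc_14_3 lc_f_rc_17_3 lc_f_Cert_tree lc_f_rc_10_3 lc_f_rc_21_1) (@D3.rec (fun _ => (Cert rels S Gen.f)) lc_f_Cert_tree lc_f_rc_20_1 lc_f_rc_20_1 lc_f_rc_20_1 lc_f_Cert_tree lc_f_Cert_tree lc_f_rc_21_1 lc_f_rc_5_1 lc_f_Cert_tree lc_f_rc_20_1 lc_f_rc_21_1 lc_f_rc_17_3 lc_f_Cert_tree lc_f_rc_20_1 lc_f_rc_19_3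 lc_f_rc_5_1 lc_f_rc_10_3 lc_f_rc_10_3 lc_f_rc_17_3 lc_f_Cert_tree lc_f_rc_17_3 lc_f_rc_21_1 lc_f_rc_20_1 lc_f_rc_10_3 lc_f_rc_17_3 lc_f_Cert_tree lc_f_rc_21_1 lc_f_rc_20_1 lc_f_rc_20_1 lc_f_Cert_tree lc_f_rc_21_1 lc_f_rc_5_1 lc_f_rc_10_3 lc_f_rc_20_1 lc_f_Cert_tree lc_f_rc_19_3 lc_f_rc_17_3 lc_f_rc_5_1 lc_f_rc_5_3 lc_f_rc_5_1 lc_f_rc_20_1 lc_f_Cert_tree lc_f_rc_20_1 lc_f_rc_17_3 lc_f_rc_20_1 lc_f_rc_17_3 lc_f_rc_21_1 lc_f_rc_17_3 lc_f_rc_20_1 lc_f_rc_14_3 lc_f_rc_17_3 lc_f_rc_14_3 lc_f_rc_20_1 lc_f_Cert_tree lc_f_rc_19_3 lc_f_rc_19_5 lc_f_rc_20_1 lc_f_rc_17_3 lc_f_rc_5_1 lc_f_rc_17_3 lc_f_Cert_tree lc_f_rc_14_3) (@D3.rec (fun _ => (Cert rels S Gen.f)) lc_f_rc_14_3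 lc_f_Cert_tree lc_f_rc_20_1 lc_f_rc_17_3 lc_f_rc_19_1 lc_f_rc_17_3 lc_f_Cert_tree lc_f_rc_5_1 lc_f_Cert_tree lc_f_rc_20_1 lc_f_rc_14_3 lc_f_rc_5_1 lc_f_Cert_tree lc_f_rc_20_1 lc_f_rc_5_1 lc_f_rc_21_1 lc_f_rc_5_3 lc_f_rc_20_1 lc_f_rc_14_3 lc_f_Cert_tree lc_f_rc_17_1 lc_f_Cert_tree lc_f_rc_20_1 lc_f_rc_20_1 lc_f_rc_20_1 lc_f_rc_20_1 lc_f_Cert_tree lc_f_rc_5_3 lc_f_rc_20_1 lc_f_rc_21_1 lc_f_Cert_tree lc_f_rc_19_3 lc_f_rc_14_3 lc_f_rc_19_3 lc_f_rc_20_1 lc_f_rc_17_3 lc_f_rc_21_1 lc_f_rc_19_5 lc_f_rc_10_3 lc_f_rc_10_3 lc_f_rc_10_3 lc_f_rc_14_3 lc_f_Cert_tree lc_f_rc_10_3 lc_f_rc_5_1 lc_f_rc_20_1 lc_f_rc_10_3 lc_f_rc_17_3 lc_f_Cert_tree lc_f_rc_10_3 lc_f_rc_5_1 lc_f_rc_20_1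 lc_f_rc_10_3 lc_f_rc_17_3 lc_f_Cert_tree lc_f_rc_10_3 lc_f_rc_17_3 lc_f_Cert_tree lc_f_Cert_tree lc_f_rc_21_1 lc_f_rc_5_1 lc_f_Cert_tree) (@D3.rec (fun _ => (Cert rels S Gen.f)) lc_f_rc_20_1 lc_f_rc_14_3 lc_f_rc_21_1 lc_f_rc_5_3 lc_f_rc_20_1 lc_f_rc_20_1 lc_f_rc_17_3 lc_f_rc_10_1 lc_f_rc_14_1 lc_f_rc_5_3 lc_f_rc_20_1 lc_f_rc_10_3 lc_f_rc_14_1 lc_f_rc_14_3 lc_f_rc_10_3 lc_f_rc_17_3 lc_f_rc_17_3 lc_f_rc_10_3 lc_f_rc_20_1 lc_f_rc_10_3 lc_f_rc_17_3 lc_f_Cert_tree lc_f_rc_14_3 lc_f_rc_17_3 lc_f_rc_5_1 lc_f_Cert_tree lc_f_rc_21_1 lc_f_rc_5_1 lc_f_rc_10_3 lc_f_rc_20_1 lc_f_rc_14_3 lc_f_rc_14_3 lc_f_rc_17_3 lc_f_rc_19_3 lc_f_Cert_tree lc_f_rc_21_1 lc_f_rc_10_3 lc_f_rc_20_1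 lc_f_Cert_tree lc_f_rc_10_3 lc_f_rc_20_1 lc_f_rc_17_3 lc_f_rc_14_3 lc_f_rc_17_3 lc_f_rc_17_3 lc_f_rc_20_1 lc_f_Cert_tree lc_f_rc_14_3 lc_f_rc_10_3 lc_f_rc_14_3 lc_f_Cert_tree lc_f_rc_19_5 lc_f_rc_20_1 lc_f_rc_10_3 lc_f_rc_17_3 lc_f_Cert_tree lc_f_rc_10_3 lc_f_rc_20_1 lc_f_rc_10_3 lc_f_rc_17_3 lc_f_rc_17_3 lc_f_rc_14_3) (@D3.rec (fun _ => (Cert rels S Gen.f)) lc_f_rc_21_1 lc_f_Cert_tree lc_f_Cert_tree lc_f_rc_21_1 lc_f_rc_5_1 lc_f_rc_17_1 lc_f_rc_20_1 lc_f_rc_17_3 lc_f_rc_21_1 lc_f_Cert_tree lc_f_rc_19_3 lc_f_rc_10_3 lc_f_rc_17_3 lc_f_Cert_tree lc_f_rc_17_3 lc_f_rc_17_3 lc_f_rc_20_1 lc_f_rc_10_3 lc_f_rc_17_3 lc_f_rc_19_1 lc_f_rc_14_3 lc_f_rc_17_3 lc_f_Cert_tree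 lc_f_rc_10_3 lc_f_rc_17_3 lc_f_rc_17_3 lc_f_rc_10_3 lc_f_rc_5_1 lc_f_rc_17_3 lc_f_rc_10_3 lc_f_Cert_tree lc_f_rc_22_1 lc_f_rc_14_3 lc_f_rc_19_3 lc_f_rc_21_1 lc_f_rc_14_3 lc_f_rc_19_5 lc_f_rc_20_1 lc_f_rc_21_1 lc_f_rc_14_3 lc_f_rc_10_3 lc_f_rc_17_3 lc_f_rc_20_1 lc_f_rc_20_1 lc_f_rc_10_3 lc_f_rc_14_3 lc_f_rc_20_1 lc_f_rc_10_1 lc_f_rc_10_3 lc_f_rc_17_3 lc_f_rc_20_1 lc_f_rc_19_5 lc_f_rc_10_3 lc_f_rc_20_1 lc_f_rc_20_1 lc_f_rc_19_3 lc_f_rc_19_1 lc_f_rc_20_1 lc_f_rc_10_3 lc_f_rc_5_1 lc_f_rc_5_3 lc_f_rc_20_1) (@D3.rec (fun _ => (Cert rels S Gen.f)) lc_f_Cert_tree lc_f_rc_22_1 lc_f_rc_14_3 lc_f_rc_5_1 lc_f_rc_19_5 lc_f_rc_20_1 lc_f_rc_14_3 lc_f_rc_19_5 lc_f_rc_14_3 lc_f_rc_20_1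 lc_f_rc_20_1 lc_f_rc_14_1 lc_f_rc_10_3 lc_f_rc_5_1 lc_f_rc_5_3 lc_f_rc_17_3 lc_f_Cert_tree lc_f_rc_17_3 lc_f_rc_5_1 lc_f_rc_21_1 lc_f_rc_5_1 lc_f_rc_14_3 lc_f_rc_17_1 lc_f_rc_20_1 lc_f_rc_19_5 lc_f_rc_21_1 lc_f_rc_19_3 lc_f_rc_10_3 lc_f_rc_10_3 lc_f_rc_19_3 lc_f_rc_10_3 lc_f_rc_5_3 lc_f_Cert_tree lc_f_rc_14_3 lc_f_rc_14_3 lc_f_rc_20_1 lc_f_rc_10_3 lc_f_rc_5_1 lc_f_rc_10_1 lc_f_rc_10_3 lc_f_rc_19_3 lc_f_Cert_tree lc_f_rc_19_3 lc_f_rc_21_1 lc_f_Cert_tree lc_f_rc_20_1 lc_f_rc_19_5 lc_f_rc_10_3 lc_f_rc_14_3 lc_f_Cert_tree lc_f_rc_20_1 lc_f_rc_10_3 lc_f_rc_5_1 lc_f_rc_14_3 lc_f_rc_10_3 lc_f_rc_10_3 lc_f_Cert_tree lc_f_rc_21_1 lc_f_Cert_tree lc_f_rc_21_1 lc_f_rc_17_3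 lc_f_rc_22_1) (@D3.rec (fun _ => (Cert rels S Gen.f)) lc_f_rc_20_1 lc_f_rc_5_1 lc_f_rc_14_3 lc_f_rc_5_3 lc_f_rc_10_3 lc_f_rc_17_3 lc_f_Cert_tree lc_f_Cert_tree lc_f_Cert_tree lc_f_Cert_tree lc_f_rc_20_1 lc_f_rc_14_3 lc_f_rc_14_1 lc_f_rc_14_3 lc_f_rc_17_3 lc_f_rc_22_1 lc_f_rc_5_1 lc_f_rc_10_3 lc_f_rc_17_3 lc_f_rc_22_1 lc_f_rc_10_3 lc_f_rc_5_3 lc_f_rc_17_3 lc_f_rc_14_3 lc_f_rc_10_3 lc_f_Cert_tree lc_f_rc_21_1 lc_f_rc_20_1 lc_f_rc_20_1 lc_f_rc_19_1 lc_f_rc_14_3 lc_f_rc_14_3 lc_f_rc_17_3 lc_f_rc_21_1 lc_f_rc_21_1 lc_f_rc_21_1 lc_f_rc_20_1 lc_f_rc_14_3 lc_f_rc_19_3 lc_f_rc_17_3 lc_f_rc_19_5 lc_f_rc_14_3 lc_f_rc_20_1 lc_f_rc_20_1 lc_f_rc_19_3 lc_f_rc_14_3 lc_f_rc_14_1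 lc_f_rc_21_1 lc_f_rc_20_1 lc_f_rc_20_1 lc_f_rc_21_1 lc_f_rc_20_1 lc_f_rc_5_1 lc_f_Cert_tree lc_f_rc_17_3 lc_f_rc_17_3 lc_f_rc_20_1 lc_f_rc_14_3 lc_f_rc_10_3 lc_f_rc_17_3 lc_f_Cert_tree lc_f_rc_21_1) (@D3.rec (fun _ => (Cert rels S Gen.f)) lc_f_rc_20_1 lc_f_rc_10_3 lc_f_Cert_tree lc_f_rc_10_3 lc_f_rc_14_3 lc_f_rc_5_1 lc_f_Cert_tree lc_f_rc_14_3 lc_f_rc_10_3 lc_f_rc_17_1 lc_f_rc_20_1 lc_f_Cert_tree lc_f_rc_14_1 lc_f_rc_14_1 lc_f_rc_10_3 lc_f_rc_20_1 lc_f_rc_21_1 lc_f_rc_21_1 lc_f_rc_10_3 lc_f_rc_14_3 lc_f_rc_17_3 lc_f_rc_20_1 lc_f_rc_10_3 lc_f_rc_19_3 lc_f_rc_21_1 lc_f_rc_17_3 lc_f_rc_5_3 lc_f_rc_17_3 lc_f_rc_10_3 lc_f_rc_22_1 lc_f_rc_14_3 lc_f_rc_20_1 lc_f_rc_20_1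 lc_f_rc_19_3 lc_f_rc_21_1 lc_f_rc_14_3 lc_f_rc_22_1 lc_f_rc_19_3 lc_f_rc_10_3 lc_f_rc_20_1 lc_f_rc_14_1 lc_f_rc_14_3 lc_f_rc_14_3 lc_f_rc_10_3 lc_f_rc_17_3 lc_f_rc_5_1 lc_f_rc_10_3 lc_f_rc_17_3 lc_f_Cert_tree lc_f_rc_20_1 lc_f_rc_20_1 lc_f_rc_10_3 lc_f_rc_14_1 lc_f_rc_10_3 lc_f_Cert_tree lc_f_rc_5_1 lc_f_Cert_tree lc_f_rc_5_3 lc_f_rc_10_3 lc_f_rc_19_3 lc_f_rc_5_1 lc_f_rc_17_1) (@D3.rec (fun _ => (Cert rels S Gen.f)) lc_f_rc_14_3 lc_f_Cert_tree lc_f_rc_5_1 lc_f_Cert_tree lc_f_rc_20_1 lc_f_rc_10_3 lc_f_rc_19_1 lc_f_rc_14_3 lc_f_rc_10_1 lc_f_rc_14_3 lc_f_rc_19_3 lc_f_rc_10_3 lc_f_rc_10_3 lc_f_rc_22_1 lc_f_Cert_tree lc_f_rc_21_1 lc_f_rc_19_3 lc_f_rc_20_1 lc_f_rc_10_3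 lc_f_rc_20_1 lc_f_rc_10_3 lc_f_rc_5_1 lc_f_rc_17_3 lc_f_rc_14_3 lc_f_rc_17_3 lc_f_rc_22_1 lc_f_rc_14_3 lc_f_Cert_tree lc_f_rc_21_1 lc_f_rc_14_3 lc_f_Cert_tree lc_f_rc_20_1 lc_f_rc_19_5 lc_f_rc_14_3 lc_f_rc_17_3 lc_f_rc_20_1 lc_f_rc_21_1 lc_f_rc_14_3 lc_f_rc_17_3 lc_f_rc_5_1 lc_f_rc_10_3 lc_f_rc_19_3 lc_f_rc_17_1 lc_f_rc_5_1 lc_f_rc_17_3 lc_f_rc_17_3 lc_f_rc_14_3 lc_f_rc_17_3 lc_f_rc_21_1 lc_f_rc_10_3 lc_f_rc_14_3 lc_f_rc_10_3 lc_f_rc_22_1 lc_f_Cert_tree lc_f_rc_5_1 lc_f_rc_20_1 lc_f_rc_10_3 lc_f_rc_20_1 lc_f_rc_19_3 lc_f_rc_5_1 lc_f_rc_20_1 lc_f_rc_14_3) (@D3.rec (fun _ => (Cert rels S Gen.f)) lc_f_rc_17_3 lc_f_rc_21_1 lc_f_Cert_tree lc_f_rc_20_1 lc_f_rc_14_3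 lc_f_rc_20_1 lc_f_rc_20_1 lc_f_rc_20_1 lc_f_rc_20_1 lc_f_rc_10_3 lc_f_rc_5_1 lc_f_rc_14_3 lc_f_rc_10_3 lc_f_rc_5_3 lc_f_rc_19_3 lc_f_rc_17_3 lc_f_rc_21_1 lc_f_rc_14_1 lc_f_rc_17_3 lc_f_rc_21_1 lc_f_rc_14_1 lc_f_rc_17_3 lc_f_rc_5_3 lc_f_rc_20_1 lc_f_rc_20_1 lc_f_rc_10_3 lc_f_rc_14_3 lc_f_rc_14_3 lc_f_rc_5_3 lc_f_rc_10_3 lc_f_rc_21_1 lc_f_rc_17_3 lc_f_rc_20_1 lc_f_rc_14_1 lc_f_rc_5_3 lc_f_rc_19_5 lc_f_rc_14_3 lc_f_rc_14_3 lc_f_rc_5_3 lc_f_rc_14_3 lc_f_rc_19_3 lc_f_rc_19_5 lc_f_rc_20_1 lc_f_rc_14_1 lc_f_rc_14_3 lc_f_rc_21_1 lc_f_rc_20_1 lc_f_rc_5_3 lc_f_rc_21_1 lc_f_rc_14_3 lc_f_rc_17_3 lc_f_rc_21_1 lc_f_rc_10_3 lc_f_rc_17_3 lc_f_rc_19_3 lc_f_rc_19_5 lc_f_rc_10_3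 lc_f_rc_17_3 lc_f_rc_19_5 lc_f_rc_21_1 lc_f_rc_14_3 lc_f_rc_20_1) (@D3.rec (fun _ => (Cert rels S Gen.f)) lc_f_rc_21_1 lc_f_rc_20_1 lc_f_rc_20_1 lc_f_Cert_tree lc_f_rc_10_3 lc_f_rc_14_3 lc_f_rc_20_1 lc_f_rc_5_1 lc_f_rc_20_1 lc_f_rc_10_3 lc_f_rc_17_3 lc_f_rc_20_1 lc_f_rc_17_3 lc_f_rc_20_1 lc_f_rc_10_3 lc_f_rc_17_3 lc_f_rc_17_3 lc_f_rc_20_1 lc_f_rc_10_3 lc_f_rc_20_1 lc_f_rc_14_3 lc_f_rc_10_3 lc_f_rc_5_3 lc_f_rc_14_1 lc_f_rc_14_1 lc_f_rc_17_1 lc_f_rc_20_1 lc_f_rc_21_1 lc_f_rc_21_1 lc_f_rc_10_3 lc_f_rc_14_3 lc_f_rc_17_3 lc_f_rc_20_1 lc_f_rc_17_3 lc_f_rc_21_1 lc_f_rc_20_1 lc_f_rc_19_5 lc_f_rc_5_1 lc_f_rc_21_1 lc_f_rc_20_1 lc_f_rc_14_3 lc_f_rc_5_1 lc_f_rc_17_3 lc_f_rc_20_1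 lc_f_rc_5_1 lc_f_rc_10_3 lc_f_rc_20_1 lc_f_rc_17_3 lc_f_rc_5_1 lc_f_rc_5_3 lc_f_Cert_tree lc_f_Cert_tree lc_f_rc_20_1 lc_f_rc_17_3 lc_f_rc_10_3 lc_f_rc_17_3 lc_f_rc_21_1 lc_f_rc_17_3 lc_f_Cert_tree lc_f_rc_20_1 lc_f_rc_10_3 lc_f_rc_17_3) (@D3.rec (fun _ => (Cert rels S Gen.f)) lc_f_rc_17_3 lc_f_rc_17_3 lc_f_Cert_tree lc_f_rc_5_3 lc_f_rc_10_3 lc_f_rc_17_3 lc_f_rc_19_5 lc_f_rc_10_3 lc_f_rc_22_1 lc_f_rc_22_1 lc_f_rc_10_3 lc_f_rc_10_3 lc_f_rc_17_3 lc_f_rc_5_3 lc_f_rc_10_1 lc_f_rc_10_3 lc_f_rc_21_1 lc_f_Cert_tree lc_f_rc_21_1 lc_f_rc_20_1 lc_f_rc_14_3 lc_f_rc_17_3 lc_f_rc_5_1 lc_f_rc_14_3 lc_f_rc_14_3 lc_f_Cert_tree lc_f_rc_17_3 lc_f_Cert_tree lc_f_rc_14_3 lc_f_rc_17_3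 lc_f_rc_10_3 lc_f_rc_22_1 lc_f_rc_21_1 lc_f_rc_10_3 lc_f_Cert_tree lc_f_rc_20_1 lc_f_rc_22_1 lc_f_rc_5_1 lc_f_rc_5_3 lc_f_rc_14_3 lc_f_rc_20_1 lc_f_rc_10_3 lc_f_rc_10_3 lc_f_rc_10_3 lc_f_Cert_tree lc_f_rc_19_3 lc_f_rc_21_1 lc_f_rc_20_1 lc_f_rc_10_3 lc_f_rc_19_3 lc_f_rc_19_5 lc_f_rc_19_3 lc_f_rc_20_1 lc_f_rc_10_3 lc_f_Cert_tree lc_f_rc_17_3 lc_f_Cert_tree lc_f_rc_21_1 lc_f_rc_5_1 lc_f_rc_17_1 lc_f_rc_20_1 lc_f_Cert_tree) (@D3.rec (fun _ => (Cert rels S Gen.f)) lc_f_rc_20_1 lc_f_rc_17_3 lc_f_rc_17_3 lc_f_rc_20_1 lc_f_rc_10_3 lc_f_rc_5_1 lc_f_rc_20_1 lc_f_rc_21_1 lc_f_Cert_tree lc_f_rc_19_1 lc_f_rc_10_3 lc_f_rc_10_3 lc_f_rc_20_1 lc_f_rc_5_3 lc_f_Cert_tree lc_f_rc_20_1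 lc_f_rc_5_1 lc_f_rc_17_3 lc_f_rc_21_1 lc_f_rc_17_3 lc_f_rc_10_1 lc_f_Cert_tree lc_f_rc_20_1 lc_f_rc_17_3 lc_f_Cert_tree lc_f_rc_10_3 lc_f_Cert_tree lc_f_rc_17_3 lc_f_rc_5_1 lc_f_rc_20_1 lc_f_rc_19_1 lc_f_Cert_tree lc_f_Cert_tree lc_f_rc_14_1 lc_f_rc_17_1 lc_f_rc_19_3 lc_f_rc_10_3 lc_f_rc_14_3 lc_f_rc_14_3 lc_f_rc_10_1 lc_f_Cert_tree lc_f_Cert_tree lc_f_rc_21_1 lc_f_rc_5_1 lc_f_rc_17_1 lc_f_rc_20_1 lc_f_Cert_tree lc_f_rc_19_3 lc_f_rc_10_3 lc_f_rc_20_1 lc_f_rc_21_1 lc_f_rc_20_1 lc_f_rc_20_1 lc_f_Cert_tree lc_f_rc_10_3 lc_f_rc_14_3 lc_f_rc_17_3 lc_f_Cert_tree lc_f_rc_20_1 lc_f_rc_5_1 lc_f_rc_21_1 lc_f_rc_10_1) (@D3.rec (fun _ => (Cert rels S Gen.f)) lc_f_Cert_tree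 lc_f_Cert_tree lc_f_rc_20_1 lc_f_Cert_tree lc_f_Cert_tree lc_f_rc_10_3 lc_f_rc_10_3 lc_f_rc_5_1 lc_f_rc_17_3 lc_f_rc_20_1 lc_f_rc_19_1 lc_f_rc_10_3 lc_f_rc_10_3 lc_f_rc_5_1 lc_f_rc_20_1 lc_f_rc_21_1 lc_f_rc_20_1 lc_f_rc_20_1 lc_f_Cert_tree lc_f_rc_21_1 lc_f_rc_5_1 lc_f_rc_17_1 lc_f_rc_20_1 lc_f_Cert_tree lc_f_rc_19_3 lc_f_rc_17_3 lc_f_Cert_tree lc_f_Cert_tree lc_f_rc_20_1 lc_f_rc_19_3 lc_f_rc_19_1 lc_f_rc_10_3 lc_f_rc_17_1 lc_f_rc_5_1 lc_f_rc_20_1 lc_f_rc_20_1 lc_f_Cert_tree lc_f_rc_21_1 lc_f_rc_5_1 lc_f_rc_17_1 lc_f_rc_20_1 lc_f_Cert_tree lc_f_rc_19_3 lc_f_rc_21_1 lc_f_rc_10_3 lc_f_Cert_tree lc_f_Cert_tree lc_f_rc_20_1 lc_f_rc_19_3 lc_f_rc_10_3 lc_f_rc_14_1 lc_f_rc_14_3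 lc_f_Cert_tree lc_f_rc_20_1 lc_f_rc_17_1 lc_f_rc_14_1 lc_f_rc_10_3 lc_f_Cert_tree lc_f_rc_20_1 lc_f_rc_10_3 lc_f_rc_17_3 lc_f_Cert_tree) (@D3.rec (fun _ => (Cert rels S Gen.f)) lc_f_rc_19_3 lc_f_rc_20_1 lc_f_rc_20_1 lc_f_rc_20_1 lc_f_rc_14_1 lc_f_Cert_tree lc_f_rc_21_1 lc_f_rc_5_1 lc_f_rc_17_1 lc_f_rc_20_1 lc_f_rc_17_3 lc_f_Cert_tree lc_f_rc_19_3 lc_f_rc_20_1 lc_f_rc_14_3 lc_f_rc_14_3 lc_f_rc_20_1 lc_f_rc_19_5 lc_f_rc_19_3 lc_f_rc_20_1 lc_f_rc_14_3 lc_f_rc_21_1 lc_f_rc_17_1 lc_f_rc_10_3 lc_f_rc_20_1 lc_f_rc_10_3 lc_f_rc_21_1 lc_f_rc_5_1 lc_f_Cert_tree lc_f_rc_20_1 lc_f_rc_17_3 lc_f_Cert_tree lc_f_rc_19_3 lc_f_rc_10_3 lc_f_rc_14_1 lc_f_rc_10_3 lc_f_rc_17_3 lc_f_rc_21_1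 lc_f_rc_10_3 lc_f_rc_17_3 lc_f_rc_14_3 lc_f_rc_17_3 lc_f_Cert_tree lc_f_Cert_tree lc_f_rc_20_1 lc_f_Cert_tree lc_f_rc_20_1 lc_f_rc_21_1 lc_f_rc_21_1 lc_f_rc_14_3 lc_f_rc_17_3 lc_f_rc_5_1 lc_f_rc_19_3 lc_f_rc_10_3 lc_f_rc_21_1 lc_f_rc_20_1 lc_f_rc_20_1 lc_f_rc_10_3 lc_f_rc_5_1 lc_f_rc_5_3 lc_f_rc_17_3 lc_f_Cert_tree) (@D3.rec (fun _ => (Cert rels S Gen.f)) lc_f_Cert_tree lc_f_rc_19_5 lc_f_Cert_tree lc_f_rc_20_1 lc_f_rc_14_3 lc_f_rc_19_3 lc_f_rc_17_1 lc_f_rc_14_3 lc_f_rc_17_3 lc_f_rc_5_1 lc_f_rc_5_3 lc_f_rc_10_3 lc_f_Cert_tree lc_f_Cert_tree lc_f_rc_21_1 lc_f_rc_14_3 lc_f_Cert_tree lc_f_rc_20_1 lc_f_rc_14_3 lc_f_rc_19_5 lc_f_rc_14_3 lc_f_rc_5_1 lc_f_rc_17_3 lc_f_rc_21_1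 lc_f_rc_20_1 lc_f_rc_20_1 lc_f_rc_14_3 lc_f_rc_17_3 lc_f_rc_20_1 lc_f_rc_20_1 lc_f_rc_20_1 lc_f_rc_5_1 lc_f_rc_17_3 lc_f_rc_10_3 lc_f_rc_10_1 lc_f_Cert_tree lc_f_rc_14_3 lc_f_rc_14_3 lc_f_Cert_tree lc_f_rc_20_1 lc_f_rc_20_1 lc_f_rc_10_3 lc_f_rc_20_1 lc_f_rc_5_1 lc_f_rc_5_1 lc_f_rc_5_1 lc_f_rc_14_3 lc_f_rc_5_3 lc_f_rc_10_3 lc_f_rc_22_1 lc_f_Cert_tree lc_f_rc_10_3 lc_f_rc_20_1 lc_f_rc_14_3 lc_f_rc_5_1 lc_f_rc_17_3 lc_f_rc_14_3 lc_f_rc_10_3 lc_f_Cert_tree lc_f_rc_14_1 lc_f_Cert_tree lc_f_rc_20_1) (@D3.rec (fun _ => (Cert rels S Gen.f)) lc_f_rc_5_3 lc_f_rc_20_1 lc_f_rc_14_3 lc_f_Cert_tree lc_f_Cert_tree lc_f_Cert_tree lc_f_rc_20_1 lc_f_rc_20_1 lc_f_rc_20_1 lc_f_rc_20_1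 lc_f_Cert_tree lc_f_rc_5_3 lc_f_rc_5_1 lc_f_rc_10_3 lc_f_rc_10_3 lc_f_Cert_tree lc_f_rc_19_3 lc_f_rc_17_3 lc_f_Cert_tree lc_f_rc_10_3 lc_f_Cert_tree lc_f_rc_14_3 lc_f_rc_21_1 lc_f_rc_20_1 lc_f_rc_21_1 lc_f_rc_14_3 lc_f_rc_17_3 lc_f_rc_21_1 lc_f_rc_19_5 lc_f_rc_5_1 lc_f_rc_19_3 lc_f_rc_17_3 lc_f_rc_17_3 lc_f_rc_10_3 lc_f_rc_10_3 lc_f_rc_17_3 lc_f_rc_21_1 lc_f_rc_19_3 lc_f_rc_20_1 lc_f_rc_10_3 lc_f_rc_21_1 lc_f_rc_14_3 lc_f_Cert_tree lc_f_rc_22_1 lc_f_rc_20_1 lc_f_rc_14_3 lc_f_rc_17_3 lc_f_rc_10_3 lc_f_rc_10_3 lc_f_rc_17_3 lc_f_Cert_tree lc_f_Cert_tree lc_f_rc_21_1 lc_f_rc_21_1 lc_f_rc_17_3 lc_f_rc_5_1 lc_f_rc_17_3 lc_f_rc_20_1 lc_f_rc_14_3 lc_f_Cert_tree lc_f_rc_10_1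 lc_f_rc_21_1) (@D3.rec (fun _ => (Cert rels S Gen.f)) lc_f_rc_17_3 lc_f_rc_17_3 lc_f_rc_21_1 lc_f_Cert_tree lc_f_rc_20_1 lc_f_rc_10_3 lc_f_rc_10_1 lc_f_rc_14_3 lc_f_rc_10_3 lc_f_rc_5_1 lc_f_rc_10_3 lc_f_rc_17_3 lc_f_rc_20_1 lc_f_rc_21_1 lc_f_rc_20_1 lc_f_rc_5_1 lc_f_rc_14_3 lc_f_rc_10_3 lc_f_Cert_tree lc_f_Cert_tree lc_f_rc_20_1 lc_f_rc_17_3 lc_f_rc_17_3 lc_f_rc_21_1 lc_f_rc_17_3 lc_f_rc_10_3 lc_f_rc_5_3 lc_f_rc_10_1 lc_f_rc_21_1 lc_f_rc_10_3 lc_f_Cert_tree lc_f_rc_21_1 lc_f_rc_19_3 lc_f_rc_20_1 lc_f_rc_19_3 lc_f_rc_17_3 lc_f_rc_17_3 lc_f_rc_17_3 lc_f_rc_14_3 lc_f_rc_19_1 lc_f_rc_20_1 lc_f_rc_10_1 lc_f_rc_17_3 lc_f_Cert_tree lc_f_Cert_tree lc_f_rc_20_1 lc_f_rc_21_1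 lc_f_rc_17_1 lc_f_rc_20_1 lc_f_rc_21_1 lc_f_rc_14_3 lc_f_rc_20_1 lc_f_rc_21_1 lc_f_rc_19_5 lc_f_rc_17_3 lc_f_rc_17_3 lc_f_rc_14_3 lc_f_rc_21_1 lc_f_rc_17_3 lc_f_rc_20_1 lc_f_rc_10_3 lc_f_Cert_tree) (@D3.rec (fun _ => (Cert rels S Gen.f)) lc_f_rc_17_3 lc_f_rc_10_1 lc_f_Cert_tree lc_f_rc_20_1 lc_f_rc_14_3 lc_f_rc_14_1 lc_f_rc_20_1 lc_f_rc_21_1 lc_f_rc_21_1 lc_f_rc_14_3 lc_f_rc_14_3 lc_f_rc_14_3 lc_f_rc_21_1 lc_f_rc_17_1 lc_f_rc_20_1 lc_f_rc_17_3 lc_f_rc_10_3 lc_f_rc_10_3 lc_f_rc_17_3 lc_f_rc_10_3 lc_f_rc_14_3 lc_f_rc_20_1 lc_f_rc_20_1 lc_f_rc_17_3 lc_f_rc_17_3 lc_f_rc_17_1 lc_f_rc_17_3 lc_f_rc_10_3 lc_f_rc_17_3 lc_f_rc_5_3 lc_f_rc_21_1 lc_f_rc_17_3 lc_f_rc_10_3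 lc_f_rc_14_3 lc_f_rc_20_1 lc_f_rc_5_1 lc_f_rc_17_3 lc_f_rc_21_1 lc_f_rc_17_3 lc_f_rc_17_3 lc_f_Cert_tree lc_f_rc_5_1 lc_f_rc_14_1 lc_f_rc_19_5 lc_f_rc_17_1 lc_f_rc_10_3 lc_f_rc_20_1 lc_f_rc_5_3 lc_f_rc_20_1 lc_f_rc_19_1 lc_f_rc_21_1 lc_f_rc_17_3 lc_f_rc_5_1 lc_f_rc_17_1 lc_f_Cert_tree lc_f_rc_17_3 lc_f_rc_21_1 lc_f_Cert_tree lc_f_rc_20_1 lc_f_rc_17_3 lc_f_rc_5_3 lc_f_Cert_tree) (@D3.rec (fun _ => (Cert rels S Gen.f)) lc_f_rc_20_1 lc_f_rc_21_1 lc_f_rc_20_1 lc_f_rc_17_3 lc_f_rc_5_1 lc_f_rc_17_3 lc_f_rc_14_3 lc_f_rc_14_3 lc_f_rc_17_3 lc_f_Cert_tree lc_f_rc_20_1 lc_f_rc_10_3 lc_f_rc_14_3 lc_f_rc_14_3 lc_f_Cert_tree lc_f_rc_10_3 lc_f_rc_21_1 lc_f_rc_21_1 lc_f_rc_17_3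 lc_f_rc_19_1 lc_f_rc_17_3 lc_f_rc_5_1 lc_f_rc_17_3 lc_f_rc_14_3 lc_f_rc_14_3 lc_f_rc_17_3 lc_f_rc_17_1 lc_f_Cert_tree lc_f_rc_17_3 lc_f_rc_20_1 lc_f_rc_21_1 lc_f_Cert_tree lc_f_rc_20_1 lc_f_rc_17_3 lc_f_Cert_tree lc_f_rc_19_3 lc_f_rc_21_1 lc_f_rc_20_1 lc_f_rc_5_3 lc_f_rc_5_1 lc_f_rc_22_1 lc_f_rc_10_3 lc_f_rc_10_3 lc_f_Cert_tree lc_f_rc_22_1 lc_f_rc_20_1 lc_f_rc_17_3 lc_f_rc_17_3 lc_f_rc_22_1 lc_f_Cert_tree lc_f_rc_10_1 lc_f_rc_17_1 lc_f_rc_20_1 lc_f_rc_20_1 lc_f_rc_10_3 lc_f_rc_17_3 lc_f_rc_14_1 lc_f_rc_10_3 lc_f_rc_21_1 lc_f_Cert_tree lc_f_rc_10_3 lc_f_rc_21_1) (@D3.rec (fun _ => (Cert rels S Gen.f)) lc_f_rc_20_1 lc_f_rc_10_3 lc_f_rc_20_1 lc_f_rc_20_1 lc_f_rc_17_3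 lc_f_Cert_tree lc_f_rc_17_3 lc_f_rc_5_1 lc_f_Cert_tree lc_f_rc_21_1 lc_f_rc_20_1 lc_f_rc_17_1 lc_f_rc_19_5 lc_f_rc_5_3 lc_f_rc_17_3 lc_f_rc_10_1 lc_f_rc_17_3 lc_f_rc_14_3 lc_f_Cert_tree lc_f_rc_21_1 lc_f_Cert_tree lc_f_rc_14_3 lc_f_rc_14_3 lc_f_rc_19_5 lc_f_rc_20_1 lc_f_rc_17_1 lc_f_rc_17_1 lc_f_rc_10_3 lc_f_rc_17_3 lc_f_Cert_tree lc_f_rc_20_1 lc_f_rc_21_1 lc_f_rc_20_1 lc_f_rc_17_3 lc_f_Cert_tree lc_f_rc_20_1 lc_f_Cert_tree lc_f_Cert_tree lc_f_Cert_tree lc_f_rc_20_1 lc_f_rc_5_3 lc_f_rc_17_3 lc_f_rc_14_3 lc_f_Cert_tree lc_f_rc_14_3 lc_f_Cert_tree lc_f_rc_14_3 lc_f_rc_10_1 lc_f_rc_20_1 lc_f_rc_10_1 lc_f_rc_17_3 lc_f_rc_14_3 lc_f_rc_10_1 lc_f_rc_17_3 lc_f_Cert_tree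 lc_f_rc_5_3 lc_f_rc_17_3 lc_f_rc_17_3 lc_f_Cert_tree lc_f_rc_14_3 lc_f_Cert_tree lc_f_rc_20_1) (@D3.rec (fun _ => (Cert rels S Gen.f)) lc_f_Cert_tree lc_f_rc_17_3 lc_f_Cert_tree lc_f_rc_17_1 lc_f_rc_10_3 lc_f_Cert_tree lc_f_rc_20_1 lc_f_rc_21_1 lc_f_Cert_tree lc_f_rc_20_1 lc_f_rc_17_3 lc_f_rc_20_1 lc_f_rc_21_1 lc_f_rc_20_1 lc_f_Cert_tree lc_f_rc_20_1 lc_f_rc_10_3 lc_f_rc_17_3 lc_f_rc_5_1 lc_f_rc_20_1 lc_f_rc_21_1 lc_f_Cert_tree lc_f_rc_5_1 lc_f_rc_17_1 lc_f_Cert_tree lc_f_rc_20_1 lc_f_rc_14_3 lc_f_Cert_tree lc_f_rc_10_3 lc_f_rc_20_1 lc_f_Cert_tree lc_f_rc_10_1 lc_f_rc_14_3 lc_f_Cert_tree lc_f_rc_10_3 lc_f_rc_5_1 lc_f_Cert_tree lc_f_rc_21_1 lc_f_rc_14_3 lc_f_Cert_tree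 lc_f_rc_14_3 lc_f_rc_20_1 lc_f_rc_19_3 lc_f_rc_19_5 lc_f_rc_17_3 lc_f_rc_17_3 lc_f_Cert_tree lc_f_rc_10_3 lc_f_rc_21_1 lc_f_Cert_tree lc_f_rc_10_1 lc_f_rc_17_3 lc_f_Cert_tree lc_f_rc_10_1 lc_f_rc_21_1 lc_f_Cert_tree lc_f_rc_17_3 lc_f_rc_21_1 lc_f_Cert_tree lc_f_rc_20_1 lc_f_rc_10_3 lc_f_rc_19_3) (@D3.rec (fun _ => (Cert rels S Gen.f)) lc_f_rc_14_3 lc_f_rc_17_1 lc_f_rc_17_3 lc_f_rc_20_1 lc_f_rc_10_1 lc_f_rc_20_1 lc_f_rc_14_1 lc_f_rc_5_1 lc_f_Cert_tree lc_f_rc_17_3 lc_f_rc_5_1 lc_f_Cert_tree lc_f_rc_14_3 lc_f_rc_10_1 lc_f_rc_10_3 lc_f_rc_17_3 lc_f_rc_10_1 lc_f_rc_17_3 lc_f_rc_19_3 lc_f_rc_10_1 lc_f_rc_10_3 lc_f_Cert_tree lc_f_rc_20_1 lc_f_rc_21_1 lc_f_Cert_tree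 lc_f_rc_20_1 lc_f_rc_17_3 lc_f_rc_21_1 lc_f_rc_21_1 lc_f_rc_17_3 lc_f_rc_14_3 lc_f_rc_10_3 lc_f_rc_17_3 lc_f_rc_20_1 lc_f_rc_20_1 lc_f_rc_21_1 lc_f_rc_17_3 lc_f_rc_5_1 lc_f_rc_14_1 lc_f_rc_20_1 lc_f_rc_17_3 lc_f_Cert_tree lc_f_rc_10_3 lc_f_rc_17_3 lc_f_rc_17_3 lc_f_rc_20_1 lc_f_Cert_tree lc_f_rc_14_3 lc_f_rc_20_1 lc_f_rc_19_3 lc_f_rc_14_3 lc_f_Cert_tree lc_f_rc_20_1 lc_f_rc_14_1 lc_f_rc_20_1 lc_f_rc_14_3 lc_f_rc_20_1 lc_f_rc_21_1 lc_f_rc_17_1 lc_f_rc_14_3 lc_f_rc_14_3 lc_f_Cert_tree) (@D3.rec (fun _ => (Cert rels S Gen.f)) lc_f_rc_20_1 lc_f_rc_10_3 lc_f_rc_14_1 lc_f_rc_14_1 lc_f_rc_20_1 lc_f_rc_21_1 lc_f_Cert_tree lc_f_rc_5_1 lc_f_rc_14_3 lc_f_rc_14_3 lc_f_rc_17_3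 lc_f_rc_14_3 lc_f_rc_20_1 lc_f_rc_17_3 lc_f_Cert_tree lc_f_rc_20_1 lc_f_rc_17_3 lc_f_rc_14_3 lc_f_Cert_tree lc_f_rc_20_1 lc_f_rc_10_3 lc_f_rc_21_1 lc_f_Cert_tree lc_f_rc_20_1 lc_f_rc_10_1 lc_f_rc_17_1 lc_f_rc_19_3 lc_f_rc_5_1 lc_f_Cert_tree lc_f_rc_20_1 lc_f_rc_20_1 lc_f_rc_17_3 lc_f_Cert_tree lc_f_rc_20_1 lc_f_rc_17_3 lc_f_rc_17_3 lc_f_rc_20_1 lc_f_rc_14_3 lc_f_rc_5_1 lc_f_rc_10_1 lc_f_Cert_tree lc_f_rc_20_1 lc_f_rc_20_1 lc_f_rc_17_1 lc_f_Cert_tree lc_f_rc_22_1 lc_f_rc_14_3 lc_f_rc_19_3 lc_f_rc_21_1 lc_f_Cert_tree lc_f_rc_20_1 lc_f_rc_20_1 lc_f_rc_17_3 lc_f_Cert_tree lc_f_rc_10_1 lc_f_rc_14_3 lc_f_rc_10_3 lc_f_rc_14_3 lc_f_rc_14_1 lc_f_rc_20_1 lc_f_rc_10_1 lc_f_rc_10_3)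 (@D3.rec (fun _ => (Cert rels S Gen.f)) lc_f_rc_17_3 lc_f_rc_17_1 lc_f_rc_14_3 lc_f_rc_17_3 lc_f_Cert_tree lc_f_rc_19_5 lc_f_rc_14_3 lc_f_Cert_tree lc_f_rc_20_1 lc_f_rc_19_1 lc_f_rc_10_3 lc_f_rc_17_3 lc_f_rc_17_1 lc_f_rc_20_1 lc_f_rc_20_1 lc_f_rc_19_1 lc_f_rc_10_3 lc_f_rc_5_1 lc_f_rc_17_3 lc_f_rc_5_3 lc_f_rc_21_1 lc_f_rc_14_3 lc_f_rc_17_3 lc_f_rc_17_3 lc_f_rc_14_3 lc_f_rc_20_1 lc_f_rc_19_3 lc_f_rc_5_1 lc_f_rc_14_3 lc_f_rc_10_3 lc_f_Cert_tree lc_f_rc_21_1 lc_f_rc_10_1 lc_f_rc_19_5 lc_f_rc_20_1 lc_f_rc_21_1 lc_f_rc_19_5 lc_f_rc_10_3 lc_f_rc_17_3 lc_f_rc_14_1 lc_f_rc_17_3 lc_f_rc_17_1 lc_f_Cert_tree lc_f_rc_20_1 lc_f_Cert_tree lc_f_rc_5_1 lc_f_rc_10_1 lc_f_rc_10_3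 lc_f_rc_21_1 lc_f_Cert_tree lc_f_rc_20_1 lc_f_rc_10_3 lc_f_rc_21_1 lc_f_Cert_tree lc_f_rc_10_3 lc_f_rc_17_3 lc_f_Cert_tree lc_f_rc_20_1 lc_f_rc_21_1 lc_f_Cert_tree lc_f_rc_20_1 lc_f_rc_19_5) (@D3.rec (fun _ => (Cert rels S Gen.f)) lc_f_rc_20_1 lc_f_rc_20_1 lc_f_rc_10_3 lc_f_Cert_tree lc_f_rc_10_3 lc_f_rc_17_3 lc_f_Cert_tree lc_f_rc_21_1 lc_f_rc_17_3 lc_f_rc_14_3 lc_f_Cert_tree lc_f_rc_5_1 lc_f_rc_20_1 lc_f_rc_19_5 lc_f_rc_5_3 lc_f_rc_10_1 lc_f_rc_17_3 lc_f_Cert_tree lc_f_rc_14_1 lc_f_rc_17_3 lc_f_rc_20_1 lc_f_rc_14_3 lc_f_rc_19_3 lc_f_rc_17_1 lc_f_Cert_tree lc_f_rc_20_1 lc_f_rc_17_3 lc_f_rc_10_3 lc_f_rc_21_1 lc_f_rc_19_5 lc_f_rc_10_3 lc_f_rc_17_3 lc_f_rc_14_1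 lc_f_rc_20_1 lc_f_rc_21_1 lc_f_rc_14_3 lc_f_rc_17_3 lc_f_rc_17_3 lc_f_rc_17_3 lc_f_Cert_tree lc_f_rc_20_1 lc_f_rc_14_3 lc_f_Cert_tree lc_f_rc_10_1 lc_f_rc_21_1 lc_f_Cert_tree lc_f_rc_20_1 lc_f_Cert_tree lc_f_rc_21_1 lc_f_rc_14_3 lc_f_rc_10_3 lc_f_rc_17_1 lc_f_rc_10_1 lc_f_rc_17_3 lc_f_Cert_tree lc_f_rc_19_5 lc_f_rc_10_3 lc_f_rc_10_3 lc_f_rc_21_1 lc_f_Cert_tree lc_f_rc_14_3 lc_f_rc_14_3) (@D3.rec (fun _ => (Cert rels S Gen.f)) lc_f_rc_20_1 lc_f_Cert_tree lc_f_rc_14_1 lc_f_rc_14_3 lc_f_rc_19_3 lc_f_rc_10_3 lc_f_rc_5_1 lc_f_Cert_tree lc_f_rc_20_1 lc_f_rc_10_3 lc_f_rc_14_3 lc_f_Cert_tree lc_f_rc_20_1 lc_f_rc_19_5 lc_f_rc_20_1 lc_f_rc_10_3 lc_f_rc_17_3 lc_f_Cert_tree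 lc_f_rc_10_3 lc_f_rc_21_1 lc_f_Cert_tree lc_f_Cert_tree lc_f_rc_21_1 lc_f_rc_5_1 lc_f_rc_10_1 lc_f_rc_20_1 lc_f_rc_17_3 lc_f_Cert_tree lc_f_rc_19_3 lc_f_rc_10_3 lc_f_rc_21_1 lc_f_rc_20_1 lc_f_rc_10_3 lc_f_rc_17_3 lc_f_Cert_tree lc_f_rc_17_3 lc_f_rc_21_1 lc_f_rc_20_1 lc_f_rc_10_3 lc_f_rc_17_3 lc_f_Cert_tree lc_f_rc_10_3 lc_f_rc_21_1 lc_f_rc_14_1 lc_f_Cert_tree lc_f_rc_21_1 lc_f_rc_5_1 lc_f_Cert_tree lc_f_rc_20_1 lc_f_rc_5_1 lc_f_rc_17_3 lc_f_rc_17_3 lc_f_Cert_tree lc_f_rc_20_1 lc_f_rc_14_3 lc_f_Cert_tree lc_f_rc_21_1 lc_f_rc_20_1 lc_f_rc_10_3 lc_f_rc_21_1 lc_f_Cert_tree lc_f_rc_21_1) (@D3.rec (fun _ => (Cert rels S Gen.f)) lc_f_rc_20_1 lc_f_rc_17_3 lc_f_rc_21_1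 lc_f_Cert_tree lc_f_rc_10_3 lc_f_rc_14_3 lc_f_Cert_tree lc_f_Cert_tree lc_f_rc_21_1 lc_f_rc_5_1 lc_f_rc_17_1 lc_f_rc_20_1 lc_f_rc_14_3 lc_f_rc_21_1 lc_f_Cert_tree lc_f_rc_19_3 lc_f_rc_10_3 lc_f_rc_20_1 lc_f_rc_17_3 lc_f_rc_21_1 lc_f_rc_20_1 lc_f_rc_10_3 lc_f_rc_17_3 lc_f_Cert_tree lc_f_rc_5_1 lc_f_rc_10_3 lc_f_rc_20_1 lc_f_rc_14_3 lc_f_rc_17_3 lc_f_rc_19_1 lc_f_rc_10_3 lc_f_rc_21_1 lc_f_Cert_tree lc_f_rc_10_3 lc_f_rc_17_3 lc_f_rc_5_1 lc_f_rc_14_3 lc_f_rc_14_3 lc_f_rc_14_3 lc_f_rc_17_3 lc_f_Cert_tree lc_f_rc_17_3 lc_f_rc_14_1 lc_f_Cert_tree lc_f_rc_21_1 lc_f_rc_14_3 lc_f_Cert_tree lc_f_rc_20_1 lc_f_rc_14_3 lc_f_rc_21_1 lc_f_rc_19_5 lc_f_rc_21_1 lc_f_Cert_tree lc_f_rc_20_1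 lc_f_rc_21_1 lc_f_rc_10_3 lc_f_rc_17_3 lc_f_rc_5_1 lc_f_rc_10_1 lc_f_rc_14_3 lc_f_rc_17_3 lc_f_Cert_tree) (@D3.rec (fun _ => (Cert rels S Gen.f)) lc_f_Cert_tree lc_f_rc_21_1 lc_f_rc_14_3 lc_f_Cert_tree lc_f_rc_20_1 lc_f_rc_5_3 lc_f_rc_5_3 lc_f_rc_14_3 lc_f_rc_10_3 lc_f_Cert_tree lc_f_rc_21_1 lc_f_rc_20_1 lc_f_rc_20_1 lc_f_rc_20_1 lc_f_rc_10_3 lc_f_rc_5_3 lc_f_rc_20_1 lc_f_rc_10_3 lc_f_rc_20_1 lc_f_rc_10_3 lc_f_rc_10_3 lc_f_Cert_tree lc_f_rc_17_3 lc_f_rc_21_1 lc_f_Cert_tree lc_f_rc_19_3 lc_f_rc_21_1 lc_f_Cert_tree lc_f_rc_20_1 lc_f_rc_14_3 lc_f_rc_17_3 lc_f_rc_21_1 lc_f_rc_21_1 lc_f_rc_19_5 lc_f_rc_20_1 lc_f_rc_5_1 lc_f_rc_17_3 lc_f_rc_14_3 lc_f_rc_17_3 lc_f_Cert_tree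 lc_f_Cert_tree lc_f_rc_14_3 lc_f_rc_21_1 lc_f_Cert_tree lc_f_rc_20_1 lc_f_rc_21_1 lc_f_rc_19_5 lc_f_rc_14_3 lc_f_rc_17_3 lc_f_rc_17_3 lc_f_rc_17_1 lc_f_rc_5_3 lc_f_rc_14_3 lc_f_Cert_tree lc_f_Cert_tree lc_f_rc_22_1 lc_f_rc_20_1 lc_f_rc_10_3 lc_f_rc_5_1 lc_f_rc_5_3 lc_f_rc_14_3 lc_f_rc_10_3) (@D3.rec (fun _ => (Cert rels S Gen.f)) lc_f_rc_22_1 lc_f_Cert_tree lc_f_rc_22_1 lc_f_Cert_tree lc_f_rc_20_1 lc_f_rc_5_3 lc_f_rc_20_1 lc_f_Cert_tree lc_f_Cert_tree lc_f_Cert_tree lc_f_Cert_tree lc_f_rc_20_1 lc_f_rc_20_1 lc_f_rc_10_3 lc_f_rc_20_1 lc_f_Cert_tree lc_f_rc_17_3 lc_f_rc_14_3 lc_f_rc_14_1 lc_f_Cert_tree lc_f_Cert_tree lc_f_rc_20_1 lc_f_rc_19_3 lc_f_rc_10_3 lc_f_Cert_tree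 lc_f_rc_10_3 lc_f_Cert_tree lc_f_rc_10_3 lc_f_Cert_tree lc_f_rc_14_3 lc_f_rc_14_3 lc_f_rc_20_1 lc_f_rc_19_1 lc_f_rc_21_1 lc_f_rc_14_3 lc_f_rc_17_3 lc_f_rc_17_3 lc_f_rc_14_3 lc_f_rc_19_5 lc_f_rc_21_1 lc_f_rc_14_3 lc_f_rc_5_1 lc_f_rc_10_3 lc_f_rc_17_3 lc_f_Cert_tree lc_f_rc_21_1 lc_f_rc_20_1 lc_f_rc_10_3 lc_f_rc_14_3 lc_f_rc_17_3 lc_f_rc_14_3 lc_f_rc_17_3 lc_f_rc_10_3 lc_f_rc_14_1 lc_f_rc_14_3 lc_f_rc_14_3 lc_f_rc_10_3 lc_f_rc_10_3 lc_f_rc_5_3 lc_f_rc_17_3 lc_f_rc_20_1 lc_f_rc_14_3) (@D3.rec (fun _ => (Cert rels S Gen.f)) lc_f_rc_21_1 lc_f_Cert_tree lc_f_rc_20_1 lc_f_rc_5_1 lc_f_rc_20_1 lc_f_rc_10_3 lc_f_rc_17_3 lc_f_rc_14_3 lc_f_rc_5_3 lc_f_rc_20_1 lc_f_rc_20_1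 lc_f_rc_21_1 lc_f_rc_21_1 lc_f_Cert_tree lc_f_rc_14_3 lc_f_rc_10_3 lc_f_rc_17_3 lc_f_rc_17_3 lc_f_rc_5_1 lc_f_rc_17_3 lc_f_rc_22_1 lc_f_rc_21_1 lc_f_rc_19_5 lc_f_rc_10_3 lc_f_rc_17_3 lc_f_rc_19_5 lc_f_rc_10_3 lc_f_rc_17_3 lc_f_rc_5_3 lc_f_rc_10_3 lc_f_rc_5_3 lc_f_rc_10_3 lc_f_Cert_tree lc_f_rc_17_3 lc_f_rc_5_1 lc_f_rc_10_3 lc_f_rc_20_1 lc_f_rc_19_3 lc_f_rc_17_3 lc_f_rc_14_1 lc_f_rc_21_1 lc_f_rc_14_3 lc_f_rc_17_3 lc_f_rc_5_3 lc_f_rc_5_1 lc_f_rc_5_1 lc_f_rc_21_1 lc_f_rc_14_3 lc_f_Cert_tree lc_f_rc_10_3 lc_f_rc_19_3 lc_f_rc_21_1 lc_f_rc_17_3 lc_f_rc_22_1 lc_f_rc_19_3 lc_f_rc_21_1 lc_f_rc_20_1 lc_f_rc_17_3 lc_f_rc_10_3 lc_f_rc_17_3 lc_f_rc_19_5 lc_f_rc_10_3) (@D3.rec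 (fun _ => (Cert rels S Gen.f)) lc_f_rc_14_3 lc_f_rc_20_1 lc_f_rc_14_3 lc_f_rc_14_3 lc_f_rc_14_3 lc_f_rc_17_3 lc_f_Cert_tree lc_f_rc_17_3 lc_f_rc_14_3 lc_f_rc_14_3 lc_f_Cert_tree lc_f_rc_20_1 lc_f_rc_14_3 lc_f_rc_20_1 lc_f_rc_17_3 lc_f_rc_14_3 lc_f_rc_19_5 lc_f_rc_17_3 lc_f_rc_14_3 lc_f_rc_21_1 lc_f_rc_21_1 lc_f_rc_21_1 lc_f_rc_21_1 lc_f_rc_14_3 lc_f_rc_5_3 lc_f_Cert_tree lc_f_rc_14_3 lc_f_rc_17_3 lc_f_rc_19_5 lc_f_rc_17_1 lc_f_Cert_tree lc_f_rc_20_1 lc_f_rc_10_3 lc_f_rc_14_1 lc_f_rc_20_1 lc_f_rc_21_1 lc_f_rc_19_1 lc_f_rc_20_1 lc_f_rc_14_3 lc_f_rc_20_1 lc_f_rc_14_3 lc_f_rc_14_3 lc_f_rc_21_1 lc_f_rc_14_3 lc_f_rc_21_1 lc_f_rc_17_3 lc_f_rc_5_1 lc_f_rc_20_1 lc_f_rc_20_1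 lc_f_rc_5_1 lc_f_rc_14_3 lc_f_rc_17_3 lc_f_rc_10_1 lc_f_rc_14_3 lc_f_rc_14_3 lc_f_rc_14_3 lc_f_Cert_tree lc_f_rc_20_1 lc_f_rc_5_1 lc_f_rc_20_1 lc_f_rc_14_3 lc_f_rc_21_1) (@D3.rec (fun _ => (Cert rels S Gen.f)) lc_f_rc_21_1 lc_f_rc_21_1 lc_f_rc_14_3 lc_f_rc_19_3 lc_f_rc_5_3 lc_f_rc_17_3 lc_f_rc_10_3 lc_f_rc_17_3 lc_f_rc_17_3 lc_f_rc_10_3 lc_f_rc_14_3 lc_f_rc_17_3 lc_f_rc_14_3 lc_f_rc_10_3 lc_f_rc_21_1 lc_f_rc_5_1 lc_f_rc_5_1 lc_f_rc_17_3 lc_f_rc_5_3 lc_f_rc_14_3 lc_f_rc_10_3 lc_f_rc_5_3 lc_f_rc_17_3 lc_f_rc_14_3 lc_f_Cert_tree lc_f_rc_21_1 lc_f_Cert_tree lc_f_rc_20_1 lc_f_rc_21_1 lc_f_rc_14_3 lc_f_rc_20_1 lc_f_rc_17_1 lc_f_rc_21_1 lc_f_rc_19_1 lc_f_rc_20_1 lc_f_rc_5_1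 lc_f_rc_5_1 lc_f_rc_5_3 lc_f_rc_10_3 lc_f_rc_17_3 lc_f_rc_19_3 lc_f_rc_5_3 lc_f_rc_10_1 lc_f_rc_17_3 lc_f_rc_14_3 lc_f_rc_21_1 lc_f_rc_10_3 lc_f_rc_10_1 lc_f_rc_14_3 lc_f_rc_21_1 lc_f_rc_17_3 lc_f_rc_17_3 lc_f_rc_19_3 lc_f_rc_10_3 lc_f_rc_14_3 lc_f_rc_17_3 lc_f_rc_17_3 lc_f_rc_20_1 lc_f_rc_17_3 lc_f_rc_21_1 lc_f_rc_17_3 lc_f_Cert_tree) (@D3.rec (fun _ => (Cert rels S Gen.f)) lc_f_rc_20_1 lc_f_rc_20_1 lc_f_Cert_tree lc_f_Cert_tree lc_f_rc_20_1 lc_f_rc_17_1 lc_f_Cert_tree lc_f_rc_20_1 lc_f_rc_10_1 lc_f_rc_14_1 lc_f_rc_14_1 lc_f_rc_17_3 lc_f_rc_17_3 lc_f_rc_10_1 lc_f_rc_17_3 lc_f_rc_14_3 lc_f_rc_14_3 lc_f_Cert_tree lc_f_rc_21_1 lc_f_rc_5_3 lc_f_rc_10_1 lc_f_rc_17_3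 lc_f_rc_10_3 lc_f_rc_17_3 lc_f_rc_19_3 lc_f_rc_5_1 lc_f_rc_10_3 lc_f_rc_10_3 lc_f_Cert_tree lc_f_rc_20_1 lc_f_rc_17_3 lc_f_rc_21_1 lc_f_rc_10_1 lc_f_rc_17_3 lc_f_rc_14_3 lc_f_rc_17_3 lc_f_rc_10_3 lc_f_Cert_tree lc_f_rc_10_3 lc_f_rc_21_1 lc_f_rc_10_3 lc_f_rc_19_5 lc_f_rc_10_3 lc_f_rc_14_3 lc_f_rc_21_1 lc_f_rc_20_1 lc_f_rc_20_1 lc_f_rc_14_3 lc_f_rc_21_1 lc_f_rc_19_5 lc_f_rc_10_3 lc_f_rc_19_5 lc_f_rc_14_3 lc_f_rc_14_3 lc_f_rc_10_3 lc_f_rc_10_3 lc_f_rc_14_3 lc_f_rc_14_3 lc_f_rc_21_1 lc_f_rc_5_1 lc_f_Cert_tree lc_f_rc_21_1)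
def ce_f_9 : D2 → D3 → (Cert rels S Gen.f) := @D2.rec (fun _ => D3 → (Cert rels S Gen.f)) (@D3.rec (fun _ => (Cert rels S Gen.f)) lc_f_rc_14_3 lc_f_Cert_tree lc_f_rc_14_3 lc_f_rc_21_1 lc_f_rc_20_1 lc_f_rc_14_3 lc_f_rc_10_3 lc_f_rc_21_1 lc_f_rc_10_3 lc_f_rc_19_5 lc_f_rc_17_1 lc_f_rc_14_3 lc_f_rc_19_1 lc_f_rc_17_3 lc_f_rc_14_3 lc_f_rc_5_1 lc_f_rc_14_3 lc_f_rc_14_1 lc_f_rc_21_1 lc_f_rc_20_1 lc_f_rc_21_1 lc_f_rc_20_1 lc_f_rc_20_1 lc_f_rc_17_1 lc_f_rc_10_3 lc_f_rc_17_3 lc_f_Cert_tree lc_f_rc_5_3 lc_f_rc_5_1 lc_f_rc_20_1 lc_f_rc_20_1 lc_f_rc_20_1 lc_f_rc_10_3 lc_f_rc_17_3 lc_f_rc_5_1 lc_f_Cert_tree lc_f_rc_14_3 lc_f_rc_17_3 lc_f_Cert_tree lc_f_rc_5_1 lc_f_rc_20_1 lc_f_rc_10_3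 lc_f_rc_14_3 lc_f_rc_20_1 lc_f_rc_10_3 lc_f_rc_17_3 lc_f_Cert_tree lc_f_rc_10_3 lc_f_rc_14_3 lc_f_rc_10_3 lc_f_rc_10_3 lc_f_rc_19_1 lc_f_rc_22_1 lc_f_rc_14_3 lc_f_rc_21_1 lc_f_rc_10_3 lc_f_rc_20_1 lc_f_rc_14_3 lc_f_rc_5_3 lc_f_rc_19_1 lc_f_rc_17_3 lc_f_rc_5_1) (@D3.rec (fun _ => (Cert rels S Gen.f)) lc_f_rc_21_1 lc_f_rc_17_3 lc_f_rc_10_3 lc_f_rc_10_3 lc_f_Cert_tree lc_f_Cert_tree lc_f_rc_21_1 lc_f_rc_10_1 lc_f_rc_10_1 lc_f_rc_20_1 lc_f_rc_19_5 lc_f_rc_5_1 lc_f_rc_20_1 lc_f_rc_5_1 lc_f_rc_5_3 lc_f_rc_14_3 lc_f_rc_19_5 lc_f_rc_14_3 lc_f_rc_10_3 lc_f_rc_19_3 lc_f_rc_5_3 lc_f_rc_17_3 lc_f_rc_14_3 lc_f_rc_10_3 lc_f_rc_20_1 lc_f_rc_10_3 lc_f_rc_5_3 lc_f_rc_19_1 lc_f_rc_20_1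 lc_f_rc_19_1 lc_f_rc_5_1 lc_f_rc_17_3 lc_f_rc_20_1 lc_f_rc_20_1 lc_f_rc_21_1 lc_f_rc_21_1 lc_f_rc_17_3 lc_f_rc_19_3 lc_f_rc_19_1 lc_f_rc_10_1 lc_f_rc_17_3 lc_f_rc_5_3 lc_f_Cert_tree lc_f_rc_21_1 lc_f_rc_14_3 lc_f_rc_17_3 lc_f_rc_17_3 lc_f_rc_21_1 lc_f_rc_20_1 lc_f_Cert_tree lc_f_rc_20_1 lc_f_rc_14_3 lc_f_rc_20_1 lc_f_rc_10_3 lc_f_rc_5_1 lc_f_rc_17_1 lc_f_rc_20_1 lc_f_rc_10_3 lc_f_rc_14_3 lc_f_rc_19_1 lc_f_rc_5_1 lc_f_rc_5_1) (@D3.rec (fun _ => (Cert rels S Gen.f)) lc_f_rc_20_1 lc_f_rc_14_3 lc_f_Cert_tree lc_f_rc_21_1 lc_f_Cert_tree lc_f_rc_14_1 lc_f_rc_14_3 lc_f_rc_22_1 lc_f_Cert_tree lc_f_rc_10_3 lc_f_rc_5_1 lc_f_Cert_tree lc_f_rc_20_1 lc_f_rc_14_3 lc_f_rc_20_1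 lc_f_rc_21_1 lc_f_rc_10_3 lc_f_rc_17_3 lc_f_rc_19_3 lc_f_rc_20_1 lc_f_rc_21_1 lc_f_rc_20_1 lc_f_rc_10_3 lc_f_rc_17_3 lc_f_rc_14_3 lc_f_rc_20_1 lc_f_rc_10_3 lc_f_rc_22_1 lc_f_rc_22_1 lc_f_Cert_tree lc_f_rc_17_3 lc_f_rc_17_3 lc_f_rc_14_3 lc_f_Cert_tree lc_f_rc_5_1 lc_f_rc_10_3 lc_f_rc_21_1 lc_f_rc_14_3 lc_f_Cert_tree lc_f_rc_14_3 lc_f_rc_10_3 lc_f_rc_14_3 lc_f_rc_19_1 lc_f_rc_14_3 lc_f_rc_22_1 lc_f_Cert_tree lc_f_rc_21_1 lc_f_rc_20_1 lc_f_Cert_tree lc_f_rc_20_1 lc_f_rc_10_1 lc_f_rc_14_3 lc_f_rc_20_1 lc_f_rc_10_3 lc_f_rc_21_1 lc_f_rc_19_1 lc_f_rc_20_1 lc_f_rc_17_3 lc_f_rc_14_3 lc_f_Cert_tree lc_f_rc_10_1 lc_f_rc_17_3) (@D3.rec (fun _ => (Cert rels S Gen.f)) lc_f_rc_20_1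 lc_f_Cert_tree lc_f_rc_17_3 lc_f_rc_17_1 lc_f_rc_10_1 lc_f_rc_17_1 lc_f_rc_14_1 lc_f_rc_20_1 lc_f_rc_14_3 lc_f_rc_21_1 lc_f_Cert_tree lc_f_rc_19_5 lc_f_Cert_tree lc_f_rc_20_1 lc_f_rc_21_1 lc_f_rc_20_1 lc_f_rc_20_1 lc_f_rc_14_1 lc_f_rc_17_1 lc_f_rc_14_1 lc_f_Cert_tree lc_f_rc_5_3 lc_f_Cert_tree lc_f_rc_20_1 lc_f_rc_21_1 lc_f_rc_17_3 lc_f_rc_14_3 lc_f_rc_19_1 lc_f_rc_10_3 lc_f_rc_14_3 lc_f_rc_20_1 lc_f_rc_14_3 lc_f_rc_14_3 lc_f_rc_10_3 lc_f_Cert_tree lc_f_rc_19_3 lc_f_rc_20_1 lc_f_rc_20_1 lc_f_rc_21_1 lc_f_rc_19_1 lc_f_rc_14_3 lc_f_rc_21_1 lc_f_rc_10_3 lc_f_rc_17_3 lc_f_Cert_tree lc_f_rc_20_1 lc_f_rc_21_1 lc_f_rc_20_1 lc_f_rc_14_1 lc_f_rc_17_3 lc_f_rc_17_3 lc_f_rc_22_1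 lc_f_rc_20_1 lc_f_rc_10_3 lc_f_rc_17_3 lc_f_rc_17_3 lc_f_Cert_tree lc_f_rc_10_3 lc_f_rc_10_3 lc_f_rc_17_3 lc_f_rc_22_1 lc_f_rc_17_3) (@D3.rec (fun _ => (Cert rels S Gen.f)) lc_f_rc_5_1 lc_f_rc_10_3 lc_f_rc_22_1 lc_f_Cert_tree lc_f_rc_17_1 lc_f_rc_21_1 lc_f_rc_21_1 lc_f_rc_14_3 lc_f_Cert_tree lc_f_rc_20_1 lc_f_rc_19_1 lc_f_rc_20_1 lc_f_rc_20_1 lc_f_rc_20_1 lc_f_rc_20_1 lc_f_rc_10_3 lc_f_rc_14_3 lc_f_rc_17_3 lc_f_rc_21_1 lc_f_rc_19_1 lc_f_rc_20_1 lc_f_rc_21_1 lc_f_rc_10_1 lc_f_rc_21_1 lc_f_rc_14_3 lc_f_rc_14_3 lc_f_Cert_tree lc_f_rc_17_1 lc_f_rc_20_1 lc_f_rc_22_1 lc_f_rc_19_1 lc_f_rc_20_1 lc_f_rc_21_1 lc_f_rc_20_1 lc_f_rc_20_1 lc_f_rc_20_1 lc_f_rc_20_1 lc_f_rc_17_3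 lc_f_Cert_tree lc_f_rc_5_3 lc_f_rc_10_1 lc_f_rc_14_3 lc_f_rc_14_3 lc_f_rc_17_3 lc_f_rc_17_3 lc_f_rc_22_1 lc_f_rc_20_1 lc_f_rc_20_1 lc_f_rc_20_1 lc_f_rc_19_3 lc_f_rc_5_1 lc_f_Cert_tree lc_f_rc_17_3 lc_f_rc_17_1 lc_f_rc_17_1 lc_f_rc_20_1 lc_f_rc_10_3 lc_f_rc_17_3 lc_f_rc_14_1 lc_f_rc_17_3 lc_f_rc_21_1 lc_f_rc_10_3) (@D3.rec (fun _ => (Cert rels S Gen.f)) lc_f_rc_14_3 lc_f_rc_10_3 lc_f_rc_10_3 lc_f_rc_17_1 lc_f_rc_19_3 lc_f_rc_21_1 lc_f_rc_20_1 lc_f_rc_21_1 lc_f_rc_5_3 lc_f_rc_14_3 lc_f_rc_10_3 lc_f_rc_19_1 lc_f_rc_10_3 lc_f_rc_19_5 lc_f_rc_20_1 lc_f_rc_20_1 lc_f_rc_21_1 lc_f_rc_20_1 lc_f_rc_10_3 lc_f_rc_17_3 lc_f_rc_14_1 lc_f_rc_21_1 lc_f_rc_20_1 lc_f_rc_10_3 lc_f_Cert_tree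 lc_f_rc_21_1 lc_f_rc_20_1 lc_f_rc_20_1 lc_f_rc_20_1 lc_f_rc_19_5 lc_f_rc_17_3 lc_f_rc_17_1 lc_f_rc_20_1 lc_f_rc_20_1 lc_f_rc_21_1 lc_f_rc_14_3 lc_f_rc_21_1 lc_f_rc_20_1 lc_f_rc_21_1 lc_f_rc_20_1 lc_f_rc_17_3 lc_f_rc_10_3 lc_f_rc_10_3 lc_f_rc_21_1 lc_f_rc_5_3 lc_f_rc_10_3 lc_f_rc_14_3 lc_f_Cert_tree lc_f_rc_10_3 lc_f_rc_10_3 lc_f_Cert_tree lc_f_rc_20_1 lc_f_rc_20_1 lc_f_rc_20_1 lc_f_rc_10_3 lc_f_rc_20_1 lc_f_rc_17_3 lc_f_rc_21_1 lc_f_Cert_tree lc_f_rc_20_1 lc_f_rc_20_1 lc_f_rc_20_1) (@D3.rec (fun _ => (Cert rels S Gen.f)) lc_f_rc_21_1 lc_f_rc_20_1 lc_f_rc_20_1 lc_f_rc_17_3 lc_f_rc_17_1 lc_f_rc_20_1 lc_f_rc_21_1 lc_f_rc_14_1 lc_f_Cert_tree lc_f_rc_20_1 lc_f_rc_19_5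 lc_f_rc_20_1 lc_f_rc_20_1 lc_f_rc_17_3 lc_f_rc_14_3 lc_f_rc_10_3 lc_f_Cert_tree lc_f_rc_21_1 lc_f_rc_20_1 lc_f_Cert_tree lc_f_rc_20_1 lc_f_rc_14_3 lc_f_Cert_tree lc_f_rc_21_1 lc_f_rc_14_3 lc_f_Cert_tree lc_f_rc_20_1 lc_f_rc_20_1 lc_f_rc_21_1 lc_f_rc_21_1 lc_f_rc_20_1 lc_f_rc_10_3 lc_f_rc_14_3 lc_f_rc_17_1 lc_f_Cert_tree lc_f_rc_17_3 lc_f_rc_21_1 lc_f_Cert_tree lc_f_rc_20_1 lc_f_rc_17_3 lc_f_rc_14_3 lc_f_rc_19_3 lc_f_rc_17_3 lc_f_rc_21_1 lc_f_rc_21_1 lc_f_rc_20_1 lc_f_rc_20_1 lc_f_rc_14_3 lc_f_rc_14_3 lc_f_Cert_tree lc_f_rc_20_1 lc_f_rc_19_3 lc_f_rc_10_3 lc_f_rc_19_3 lc_f_rc_21_1 lc_f_rc_17_3 lc_f_rc_17_3 lc_f_rc_17_3 lc_f_rc_14_3 lc_f_rc_17_3 lc_f_rc_14_3 lc_f_rc_19_3)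 (@D3.rec (fun _ => (Cert rels S Gen.f)) lc_f_rc_5_1 lc_f_rc_14_3 lc_f_rc_5_3 lc_f_rc_17_3 lc_f_rc_14_3 lc_f_rc_17_1 lc_f_rc_14_3 lc_f_rc_17_3 lc_f_Cert_tree lc_f_rc_14_1 lc_f_rc_14_3 lc_f_rc_5_1 lc_f_rc_10_3 lc_f_rc_22_1 lc_f_rc_14_3 lc_f_rc_10_3 lc_f_rc_20_1 lc_f_rc_21_1 lc_f_Cert_tree lc_f_rc_20_1 lc_f_rc_21_1 lc_f_rc_21_1 lc_f_Cert_tree lc_f_rc_20_1 lc_f_Cert_tree lc_f_rc_14_3 lc_f_rc_19_3 lc_f_rc_10_3 lc_f_rc_14_1 lc_f_rc_17_3 lc_f_rc_17_1 lc_f_rc_10_1 lc_f_rc_21_1 lc_f_rc_17_3 lc_f_rc_14_3 lc_f_rc_17_3 lc_f_rc_20_1 lc_f_rc_10_3 lc_f_Cert_tree lc_f_rc_5_3 lc_f_rc_14_1 lc_f_rc_10_3 lc_f_rc_10_3 lc_f_Cert_tree lc_f_rc_14_3 lc_f_Cert_tree lc_f_rc_21_1 lc_f_rc_20_1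 lc_f_rc_10_1 lc_f_Cert_tree lc_f_rc_20_1 lc_f_rc_19_3 lc_f_rc_21_1 lc_f_rc_14_3 lc_f_rc_10_1 lc_f_rc_19_3 lc_f_rc_10_3 lc_f_rc_10_1 lc_f_rc_5_3 lc_f_rc_10_3 lc_f_rc_17_1 lc_f_Cert_tree) (@D3.rec (fun _ => (Cert rels S Gen.f)) lc_f_rc_14_3 lc_f_rc_17_3 lc_f_rc_14_3 lc_f_Cert_tree lc_f_rc_17_3 lc_f_rc_10_3 lc_f_rc_14_3 lc_f_rc_5_1 lc_f_rc_21_1 lc_f_rc_14_3 lc_f_rc_22_1 lc_f_Cert_tree lc_f_Cert_tree lc_f_rc_20_1 lc_f_rc_22_1 lc_f_rc_10_3 lc_f_rc_10_3 lc_f_rc_10_1 lc_f_rc_10_3 lc_f_rc_20_1 lc_f_rc_21_1 lc_f_Cert_tree lc_f_rc_20_1 lc_f_rc_17_3 lc_f_rc_19_1 lc_f_rc_5_1 lc_f_rc_20_1 lc_f_Cert_tree lc_f_rc_21_1 lc_f_rc_20_1 lc_f_Cert_tree lc_f_rc_20_1 lc_f_rc_17_3 lc_f_rc_10_3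 lc_f_rc_21_1 lc_f_rc_17_1 lc_f_Cert_tree lc_f_rc_20_1 lc_f_rc_10_3 lc_f_rc_5_1 lc_f_rc_17_3 lc_f_rc_5_1 lc_f_rc_19_3 lc_f_rc_10_3 lc_f_rc_21_1 lc_f_rc_5_3 lc_f_rc_19_5 lc_f_rc_5_1 lc_f_rc_17_3 lc_f_rc_10_1 lc_f_rc_17_1 lc_f_rc_14_3 lc_f_rc_10_3 lc_f_rc_5_3 lc_f_rc_20_1 lc_f_rc_17_3 lc_f_rc_14_3 lc_f_rc_19_5 lc_f_rc_10_3 lc_f_rc_20_1 lc_f_rc_19_3 lc_f_rc_14_3) (@D3.rec (fun _ => (Cert rels S Gen.f)) lc_f_rc_21_1 lc_f_rc_14_3 lc_f_Cert_tree lc_f_rc_20_1 lc_f_rc_17_3 lc_f_rc_21_1 lc_f_rc_10_1 lc_f_rc_10_3 lc_f_rc_10_3 lc_f_rc_19_3 lc_f_rc_14_3 lc_f_rc_10_1 lc_f_rc_10_3 lc_f_rc_19_3 lc_f_rc_17_1 lc_f_rc_14_3 lc_f_rc_20_1 lc_f_rc_21_1 lc_f_rc_20_1 lc_f_rc_14_3 lc_f_rc_21_1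 lc_f_rc_17_3 lc_f_rc_14_3 lc_f_rc_10_1 lc_f_rc_5_1 lc_f_rc_10_3 lc_f_rc_5_1 lc_f_Cert_tree lc_f_rc_17_3 lc_f_rc_21_1 lc_f_rc_20_1 lc_f_rc_10_1 lc_f_rc_14_1 lc_f_Cert_tree lc_f_rc_17_3 lc_f_rc_14_3 lc_f_Cert_tree lc_f_rc_5_1 lc_f_rc_21_1 lc_f_rc_14_1 lc_f_Cert_tree lc_f_rc_20_1 lc_f_rc_5_1 lc_f_rc_14_3 lc_f_Cert_tree lc_f_rc_5_1 lc_f_Cert_tree lc_f_rc_20_1 lc_f_rc_17_1 lc_f_rc_20_1 lc_f_rc_19_1 lc_f_rc_17_3 lc_f_rc_17_1 lc_f_rc_5_3 lc_f_Cert_tree lc_f_rc_20_1 lc_f_rc_19_3 lc_f_rc_14_3 lc_f_Cert_tree lc_f_rc_21_1 lc_f_rc_20_1 lc_f_rc_20_1) (@D3.rec (fun _ => (Cert rels S Gen.f)) lc_f_Cert_tree lc_f_rc_21_1 lc_f_rc_14_1 lc_f_rc_17_3 lc_f_rc_17_3 lc_f_Cert_tree lc_f_rc_20_1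 lc_f_rc_14_1 lc_f_rc_22_1 lc_f_rc_20_1 lc_f_rc_17_3 lc_f_rc_10_3 lc_f_rc_17_3 lc_f_rc_14_1 lc_f_rc_10_3 lc_f_rc_21_1 lc_f_Cert_tree lc_f_rc_21_1 lc_f_Cert_tree lc_f_rc_20_1 lc_f_rc_19_3 lc_f_rc_5_1 lc_f_rc_14_1 lc_f_rc_19_1 lc_f_rc_20_1 lc_f_rc_5_1 lc_f_rc_20_1 lc_f_rc_17_1 lc_f_Cert_tree lc_f_rc_10_1 lc_f_rc_21_1 lc_f_Cert_tree lc_f_rc_20_1 lc_f_rc_20_1 lc_f_rc_10_3 lc_f_rc_20_1 lc_f_rc_21_1 lc_f_rc_10_1 lc_f_rc_10_1 lc_f_rc_20_1 lc_f_rc_5_1 lc_f_rc_20_1 lc_f_rc_22_1 lc_f_rc_20_1 lc_f_rc_21_1 lc_f_rc_17_1 lc_f_rc_14_3 lc_f_rc_5_3 lc_f_Cert_tree lc_f_rc_20_1 lc_f_rc_14_3 lc_f_rc_17_1 lc_f_rc_14_1 lc_f_rc_14_3 lc_f_rc_14_1 lc_f_rc_20_1 lc_f_rc_19_3 lc_f_Cert_tree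 lc_f_Cert_tree lc_f_rc_21_1 lc_f_rc_14_3 lc_f_Cert_tree) (@D3.rec (fun _ => (Cert rels S Gen.f)) lc_f_rc_20_1 lc_f_rc_20_1 lc_f_rc_21_1 lc_f_rc_21_1 lc_f_Cert_tree lc_f_rc_20_1 lc_f_rc_20_1 lc_f_rc_20_1 lc_f_rc_19_1 lc_f_Cert_tree lc_f_rc_21_1 lc_f_rc_17_3 lc_f_Cert_tree lc_f_rc_20_1 lc_f_rc_10_3 lc_f_rc_20_1 lc_f_rc_14_1 lc_f_rc_14_3 lc_f_rc_21_1 lc_f_Cert_tree lc_f_rc_20_1 lc_f_rc_14_3 lc_f_rc_10_3 lc_f_rc_20_1 lc_f_rc_20_1 lc_f_rc_10_3 lc_f_Cert_tree lc_f_rc_20_1 lc_f_Cert_tree lc_f_Cert_tree lc_f_rc_5_1 lc_f_rc_14_3 lc_f_rc_22_1 lc_f_rc_20_1 lc_f_rc_14_3 lc_f_rc_10_3 lc_f_rc_5_1 lc_f_rc_5_3 lc_f_rc_10_3 lc_f_rc_10_3 lc_f_rc_21_1 lc_f_rc_17_3 lc_f_rc_5_1 lc_f_Cert_tree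 lc_f_Cert_tree lc_f_Cert_tree lc_f_rc_20_1 lc_f_rc_17_3 lc_f_rc_17_3 lc_f_rc_17_3 lc_f_Cert_tree lc_f_rc_14_1 lc_f_Cert_tree lc_f_rc_17_1 lc_f_rc_20_1 lc_f_rc_10_3 lc_f_Cert_tree lc_f_Cert_tree lc_f_rc_14_3 lc_f_rc_14_3 lc_f_Cert_tree lc_f_rc_20_1) (@D3.rec (fun _ => (Cert rels S Gen.f)) lc_f_rc_10_1 lc_f_rc_21_1 lc_f_rc_21_1 lc_f_rc_10_3 lc_f_rc_10_3 lc_f_rc_10_3 lc_f_rc_17_3 lc_f_rc_22_1 lc_f_rc_21_1 lc_f_rc_17_3 lc_f_rc_14_1 lc_f_rc_20_1 lc_f_rc_21_1 lc_f_rc_20_1 lc_f_rc_20_1 lc_f_rc_20_1 lc_f_Cert_tree lc_f_rc_21_1 lc_f_rc_14_3 lc_f_rc_20_1 lc_f_Cert_tree lc_f_rc_20_1 lc_f_rc_21_1 lc_f_rc_20_1 lc_f_rc_21_1 lc_f_rc_10_3 lc_f_rc_20_1 lc_f_rc_20_1 lc_f_rc_20_1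 lc_f_rc_10_3 lc_f_Cert_tree lc_f_rc_10_1 lc_f_rc_17_3 lc_f_Cert_tree lc_f_rc_14_3 lc_f_rc_20_1 lc_f_rc_20_1 lc_f_rc_5_3 lc_f_rc_5_3 lc_f_Cert_tree lc_f_rc_14_3 lc_f_Cert_tree lc_f_rc_14_3 lc_f_rc_14_3 lc_f_rc_14_3 lc_f_rc_10_1 lc_f_rc_17_3 lc_f_rc_20_1 lc_f_Cert_tree lc_f_rc_21_1 lc_f_rc_20_1 lc_f_rc_5_1 lc_f_rc_20_1 lc_f_rc_17_3 lc_f_rc_20_1 lc_f_rc_14_3 lc_f_rc_14_3 lc_f_rc_10_1 lc_f_rc_20_1 lc_f_rc_21_1 lc_f_rc_22_1 lc_f_rc_20_1) (@D3.rec (fun _ => (Cert rels S Gen.f)) lc_f_rc_5_3 lc_f_rc_14_1 lc_f_rc_17_1 lc_f_rc_5_3 lc_f_rc_17_3 lc_f_rc_17_3 lc_f_rc_20_1 lc_f_rc_10_1 lc_f_rc_17_3 lc_f_rc_17_3 lc_f_rc_14_3 lc_f_rc_14_3 lc_f_rc_10_3 lc_f_rc_19_3 lc_f_rc_10_3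 lc_f_rc_17_3 lc_f_rc_17_3 lc_f_rc_20_1 lc_f_rc_5_1 lc_f_rc_20_1 lc_f_rc_5_1 lc_f_rc_19_3 lc_f_rc_17_3 lc_f_rc_21_1 lc_f_rc_14_1 lc_f_rc_5_1 lc_f_rc_20_1 lc_f_rc_17_1 lc_f_rc_10_3 lc_f_rc_20_1 lc_f_rc_20_1 lc_f_rc_17_1 lc_f_rc_21_1 lc_f_rc_20_1 lc_f_rc_5_1 lc_f_rc_17_3 lc_f_rc_10_1 lc_f_rc_10_1 lc_f_rc_17_3 lc_f_Cert_tree lc_f_rc_10_1 lc_f_rc_10_1 lc_f_rc_10_1 lc_f_rc_20_1 lc_f_rc_19_3 lc_f_rc_14_3 lc_f_rc_20_1 lc_f_rc_5_3 lc_f_rc_5_1 lc_f_rc_5_3 lc_f_rc_20_1 lc_f_rc_19_3 lc_f_rc_17_3 lc_f_rc_21_1 lc_f_rc_14_3 lc_f_rc_20_1 lc_f_rc_19_3 lc_f_rc_20_1 lc_f_rc_10_1 lc_f_rc_14_3 lc_f_rc_14_3 lc_f_rc_21_1) (@D3.rec (fun _ => (Cert rels S Gen.f)) lc_f_rc_20_1 lc_f_rc_17_3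 lc_f_rc_21_1 lc_f_rc_20_1 lc_f_rc_14_3 lc_f_rc_10_3 lc_f_rc_10_3 lc_f_rc_14_1 lc_f_rc_10_3 lc_f_rc_20_1 lc_f_rc_10_3 lc_f_rc_21_1 lc_f_rc_14_3 lc_f_Cert_tree lc_f_rc_17_3 lc_f_rc_14_1 lc_f_rc_21_1 lc_f_rc_20_1 lc_f_rc_20_1 lc_f_rc_14_3 lc_f_rc_17_1 lc_f_rc_10_3 lc_f_rc_20_1 lc_f_rc_21_1 lc_f_rc_20_1 lc_f_rc_20_1 lc_f_rc_14_3 lc_f_Cert_tree lc_f_rc_10_3 lc_f_rc_17_3 lc_f_rc_20_1 lc_f_rc_21_1 lc_f_rc_20_1 lc_f_rc_17_3 lc_f_Cert_tree lc_f_rc_10_3 lc_f_rc_19_1 lc_f_rc_19_5 lc_f_rc_17_3 lc_f_rc_10_1 lc_f_rc_17_1 lc_f_rc_20_1 lc_f_rc_10_3 lc_f_rc_19_3 lc_f_rc_21_1 lc_f_rc_20_1 lc_f_rc_20_1 lc_f_rc_14_3 lc_f_Cert_tree lc_f_rc_20_1 lc_f_rc_5_1 lc_f_rc_20_1 lc_f_rc_10_1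 lc_f_rc_17_3 lc_f_rc_21_1 lc_f_rc_10_3 lc_f_rc_17_3 lc_f_rc_21_1 lc_f_rc_21_1 lc_f_rc_10_1 lc_f_Cert_tree lc_f_rc_20_1) (@D3.rec (fun _ => (Cert rels S Gen.f)) lc_f_Cert_tree lc_f_rc_17_3 lc_f_rc_20_1 lc_f_rc_10_3 lc_f_rc_14_3 lc_f_Cert_tree lc_f_rc_14_1 lc_f_rc_14_1 lc_f_rc_14_3 lc_f_rc_10_1 lc_f_Cert_tree lc_f_rc_21_1 lc_f_Cert_tree lc_f_rc_20_1 lc_f_rc_10_1 lc_f_rc_17_3 lc_f_rc_10_3 lc_f_rc_20_1 lc_f_rc_21_1 lc_f_rc_19_1 lc_f_rc_20_1 lc_f_rc_5_1 lc_f_rc_5_3 lc_f_rc_20_1 lc_f_rc_19_3 lc_f_rc_21_1 lc_f_rc_14_3 lc_f_rc_20_1 lc_f_rc_5_1 lc_f_rc_19_3 lc_f_rc_20_1 lc_f_rc_10_1 lc_f_rc_14_1 lc_f_rc_21_1 lc_f_rc_14_3 lc_f_rc_17_3 lc_f_rc_19_3 lc_f_rc_14_3 lc_f_rc_10_3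 lc_f_rc_10_3 lc_f_rc_14_3 lc_f_rc_17_3 lc_f_rc_10_1 lc_f_rc_14_3 lc_f_rc_20_1 lc_f_rc_5_3 lc_f_rc_21_1 lc_f_rc_14_3 lc_f_rc_5_1 lc_f_rc_20_1 lc_f_rc_20_1 lc_f_rc_21_1 lc_f_rc_22_1 lc_f_rc_20_1 lc_f_rc_20_1 lc_f_rc_14_3 lc_f_rc_14_3 lc_f_rc_10_3 lc_f_rc_17_3 lc_f_rc_10_3 lc_f_rc_5_1 lc_f_rc_20_1) (@D3.rec (fun _ => (Cert rels S Gen.f)) lc_f_rc_14_3 lc_f_Cert_tree lc_f_Cert_tree lc_f_rc_14_3 lc_f_rc_5_1 lc_f_Cert_tree lc_f_rc_20_1 lc_f_rc_20_1 lc_f_rc_17_1 lc_f_rc_14_3 lc_f_rc_14_1 lc_f_rc_5_3 lc_f_rc_17_3 lc_f_rc_17_3 lc_f_rc_17_3 lc_f_rc_21_1 lc_f_rc_5_3 lc_f_rc_17_3 lc_f_Cert_tree lc_f_rc_21_1 lc_f_rc_14_3 lc_f_rc_21_1 lc_f_rc_14_3 lc_f_rc_5_3 lc_f_rc_17_1 lc_f_Cert_tree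 lc_f_rc_17_3 lc_f_rc_14_3 lc_f_rc_19_3 lc_f_Cert_tree lc_f_rc_17_3 lc_f_rc_10_3 lc_f_rc_19_3 lc_f_Cert_tree lc_f_rc_14_3 lc_f_Cert_tree lc_f_rc_19_3 lc_f_rc_14_3 lc_f_Cert_tree lc_f_rc_20_1 lc_f_rc_14_1 lc_f_Cert_tree lc_f_rc_5_1 lc_f_rc_19_3 lc_f_Cert_tree lc_f_rc_20_1 lc_f_rc_10_3 lc_f_rc_5_3 lc_f_Cert_tree lc_f_rc_10_3 lc_f_rc_17_3 lc_f_rc_19_3 lc_f_rc_21_1 lc_f_rc_17_3 lc_f_rc_17_1 lc_f_rc_20_1 lc_f_rc_21_1 lc_f_rc_21_1 lc_f_rc_22_1 lc_f_rc_14_1 lc_f_rc_22_1 lc_f_rc_20_1) (@D3.rec (fun _ => (Cert rels S Gen.f)) lc_f_rc_5_1 lc_f_rc_20_1 lc_f_rc_5_3 lc_f_rc_20_1 lc_f_rc_20_1 lc_f_rc_21_1 lc_f_Cert_tree lc_f_rc_20_1 lc_f_rc_21_1 lc_f_rc_14_1 lc_f_rc_5_3 lc_f_rc_20_1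 lc_f_rc_21_1 lc_f_rc_21_1 lc_f_rc_17_3 lc_f_rc_5_1 lc_f_rc_14_1 lc_f_rc_20_1 lc_f_rc_10_3 lc_f_rc_17_3 lc_f_rc_21_1 lc_f_rc_20_1 lc_f_rc_10_3 lc_f_rc_21_1 lc_f_rc_14_3 lc_f_rc_10_3 lc_f_rc_17_3 lc_f_rc_17_3 lc_f_rc_14_3 lc_f_rc_10_3 lc_f_rc_19_3 lc_f_rc_20_1 lc_f_rc_5_3 lc_f_rc_10_3 lc_f_rc_17_3 lc_f_rc_21_1 lc_f_Cert_tree lc_f_rc_10_3 lc_f_rc_10_3 lc_f_rc_14_3 lc_f_rc_20_1 lc_f_rc_14_3 lc_f_rc_22_1 lc_f_rc_10_1 lc_f_rc_17_3 lc_f_rc_19_3 lc_f_rc_17_1 lc_f_rc_5_1 lc_f_rc_14_3 lc_f_rc_5_3 lc_f_rc_10_1 lc_f_rc_10_3 lc_f_rc_10_3 lc_f_rc_17_1 lc_f_Cert_tree lc_f_rc_10_3 lc_f_rc_17_3 lc_f_Cert_tree lc_f_rc_20_1 lc_f_Cert_tree lc_f_rc_21_1 lc_f_rc_20_1) (@D3.rec (fun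 _ => (Cert rels S Gen.f)) lc_f_rc_10_3 lc_f_rc_5_1 lc_f_rc_20_1 lc_f_rc_19_5 lc_f_rc_19_3 lc_f_rc_21_1 lc_f_rc_20_1 lc_f_rc_10_3 lc_f_rc_20_1 lc_f_rc_14_3 lc_f_rc_14_3 lc_f_rc_5_3 lc_f_rc_14_3 lc_f_rc_10_3 lc_f_rc_20_1 lc_f_rc_17_3 lc_f_rc_10_3 lc_f_rc_17_3 lc_f_rc_14_3 lc_f_rc_14_1 lc_f_rc_10_3 lc_f_rc_14_1 lc_f_rc_14_3 lc_f_rc_10_3 lc_f_rc_20_1 lc_f_rc_14_3 lc_f_rc_5_1 lc_f_rc_14_3 lc_f_rc_20_1 lc_f_rc_21_1 lc_f_rc_14_3 lc_f_rc_14_3 lc_f_rc_21_1 lc_f_rc_10_3 lc_f_rc_5_3 lc_f_rc_5_3 lc_f_rc_17_3 lc_f_rc_21_1 lc_f_rc_20_1 lc_f_rc_14_3 lc_f_rc_10_3 lc_f_rc_20_1 lc_f_rc_10_3 lc_f_rc_17_3 lc_f_rc_10_3 lc_f_rc_17_3 lc_f_rc_19_5 lc_f_rc_21_1 lc_f_rc_5_1 lc_f_rc_20_1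 lc_f_rc_17_3 lc_f_rc_20_1 lc_f_rc_21_1 lc_f_rc_10_3 lc_f_rc_5_3 lc_f_rc_17_3 lc_f_rc_19_3 lc_f_rc_14_3 lc_f_rc_22_1 lc_f_rc_19_3 lc_f_rc_20_1 lc_f_rc_21_1) (@D3.rec (fun _ => (Cert rels S Gen.f)) lc_f_rc_17_3 lc_f_rc_10_3 lc_f_rc_5_3 lc_f_rc_19_3 lc_f_rc_20_1 lc_f_rc_14_3 lc_f_rc_20_1 lc_f_rc_20_1 lc_f_rc_19_3 lc_f_rc_5_3 lc_f_rc_5_3 lc_f_rc_20_1 lc_f_rc_17_3 lc_f_rc_19_3 lc_f_rc_5_3 lc_f_rc_14_3 lc_f_rc_21_1 lc_f_rc_19_3 lc_f_rc_17_1 lc_f_rc_21_1 lc_f_rc_17_3 lc_f_Cert_tree lc_f_rc_20_1 lc_f_rc_19_3 lc_f_rc_20_1 lc_f_rc_5_1 lc_f_rc_22_1 lc_f_Cert_tree lc_f_Cert_tree lc_f_rc_5_1 lc_f_rc_10_1 lc_f_rc_20_1 lc_f_rc_20_1 lc_f_rc_21_1 lc_f_rc_10_3 lc_f_rc_14_1 lc_f_rc_17_3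 lc_f_rc_5_1 lc_f_rc_17_3 lc_f_rc_14_3 lc_f_rc_20_1 lc_f_rc_10_1 lc_f_Cert_tree lc_f_rc_19_3 lc_f_Cert_tree lc_f_rc_10_3 lc_f_rc_17_3 lc_f_Cert_tree lc_f_Cert_tree lc_f_rc_20_1 lc_f_rc_14_3 lc_f_rc_21_1 lc_f_rc_14_3 lc_f_rc_14_3 lc_f_rc_10_3 lc_f_rc_14_3 lc_f_rc_17_3 lc_f_rc_17_3 lc_f_rc_21_1 lc_f_rc_10_3 lc_f_rc_17_3 lc_f_rc_21_1) (@D3.rec (fun _ => (Cert rels S Gen.f)) lc_f_Cert_tree lc_f_rc_20_1 lc_f_rc_10_3 lc_f_rc_17_3 lc_f_rc_17_1 lc_f_rc_14_3 lc_f_rc_20_1 lc_f_rc_17_3 lc_f_rc_17_3 lc_f_rc_19_3 lc_f_rc_20_1 lc_f_rc_5_1 lc_f_rc_21_1 lc_f_rc_14_3 lc_f_rc_21_1 lc_f_rc_14_3 lc_f_rc_10_3 lc_f_rc_20_1 lc_f_rc_14_3 lc_f_rc_10_3 lc_f_rc_5_3 lc_f_rc_14_3 lc_f_rc_10_3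 lc_f_rc_10_3 lc_f_rc_22_1 lc_f_rc_14_3 lc_f_rc_21_1 lc_f_rc_14_3 lc_f_rc_22_1 lc_f_rc_21_1 lc_f_rc_17_3 lc_f_rc_20_1 lc_f_rc_17_1 lc_f_Cert_tree lc_f_rc_20_1 lc_f_rc_14_3 lc_f_rc_10_3 lc_f_rc_20_1 lc_f_rc_20_1 lc_f_rc_21_1 lc_f_rc_10_3 lc_f_rc_17_3 lc_f_rc_17_1 lc_f_rc_20_1 lc_f_rc_21_1 lc_f_Cert_tree lc_f_rc_20_1 lc_f_rc_20_1 lc_f_rc_17_3 lc_f_rc_14_3 lc_f_rc_5_1 lc_f_rc_20_1 lc_f_rc_21_1 lc_f_rc_5_1 lc_f_rc_14_3 lc_f_rc_14_3 lc_f_rc_10_3 lc_f_rc_17_3 lc_f_rc_14_3 lc_f_rc_17_3 lc_f_rc_20_1 lc_f_rc_21_1) (@D3.rec (fun _ => (Cert rels S Gen.f)) lc_f_rc_20_1 lc_f_rc_10_3 lc_f_rc_21_1 lc_f_rc_19_3 lc_f_rc_17_3 lc_f_rc_21_1 lc_f_rc_14_3 lc_f_rc_5_1 lc_f_rc_14_3 lc_f_rc_17_3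 lc_f_rc_10_3 lc_f_rc_19_5 lc_f_Cert_tree lc_f_rc_14_3 lc_f_rc_19_5 lc_f_rc_20_1 lc_f_rc_17_3 lc_f_rc_14_3 lc_f_rc_19_5 lc_f_rc_5_1 lc_f_rc_10_3 lc_f_Cert_tree lc_f_rc_20_1 lc_f_rc_10_3 lc_f_rc_5_1 lc_f_rc_5_1 lc_f_rc_20_1 lc_f_rc_19_1 lc_f_rc_14_1 lc_f_rc_14_1 lc_f_rc_22_1 lc_f_rc_10_3 lc_f_rc_5_1 lc_f_rc_14_3 lc_f_rc_17_3 lc_f_rc_14_3 lc_f_rc_17_3 lc_f_rc_17_3 lc_f_rc_10_3 lc_f_rc_19_5 lc_f_rc_17_3 lc_f_rc_14_3 lc_f_rc_10_3 lc_f_rc_14_3 lc_f_rc_14_1 lc_f_rc_20_1 lc_f_rc_20_1 lc_f_rc_21_1 lc_f_rc_19_3 lc_f_rc_14_1 lc_f_rc_14_3 lc_f_rc_17_3 lc_f_rc_17_3 lc_f_rc_19_3 lc_f_rc_17_3 lc_f_rc_14_1 lc_f_Cert_tree lc_f_rc_20_1 lc_f_rc_5_1 lc_f_rc_20_1 lc_f_rc_14_3 lc_f_rc_14_3)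 (@D3.rec (fun _ => (Cert rels S Gen.f)) lc_f_rc_20_1 lc_f_rc_20_1 lc_f_rc_20_1 lc_f_rc_14_3 lc_f_rc_10_1 lc_f_Cert_tree lc_f_rc_17_1 lc_f_Cert_tree lc_f_rc_10_3 lc_f_rc_21_1 lc_f_rc_20_1 lc_f_rc_10_3 lc_f_rc_10_3 lc_f_rc_14_3 lc_f_rc_19_3 lc_f_Cert_tree lc_f_rc_21_1 lc_f_rc_14_3 lc_f_rc_17_3 lc_f_rc_17_3 lc_f_Cert_tree lc_f_rc_17_1 lc_f_Cert_tree lc_f_rc_14_3 lc_f_rc_14_1 lc_f_Cert_tree lc_f_rc_20_1 lc_f_rc_22_1 lc_f_rc_17_3 lc_f_rc_14_1 lc_f_rc_20_1 lc_f_rc_5_1 lc_f_rc_21_1 lc_f_rc_21_1 lc_f_rc_14_3 lc_f_rc_21_1 lc_f_rc_17_1 lc_f_rc_20_1 lc_f_rc_17_3 lc_f_rc_17_3 lc_f_rc_17_1 lc_f_rc_22_1 lc_f_rc_20_1 lc_f_rc_14_3 lc_f_rc_5_1 lc_f_rc_20_1 lc_f_rc_20_1 lc_f_rc_19_3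 lc_f_rc_17_3 lc_f_rc_5_1 lc_f_rc_20_1 lc_f_rc_14_3 lc_f_rc_17_3 lc_f_rc_17_3 lc_f_rc_10_3 lc_f_rc_14_3 lc_f_rc_17_3 lc_f_Cert_tree lc_f_rc_20_1 lc_f_rc_21_1 lc_f_rc_17_3 lc_f_rc_21_1) (@D3.rec (fun _ => (Cert rels S Gen.f)) lc_f_rc_14_3 lc_f_rc_5_3 lc_f_rc_20_1 lc_f_rc_17_3 lc_f_rc_20_1 lc_f_rc_14_3 lc_f_rc_5_1 lc_f_rc_10_3 lc_f_rc_10_3 lc_f_rc_10_3 lc_f_rc_5_1 lc_f_rc_17_3 lc_f_rc_14_1 lc_f_rc_17_3 lc_f_Cert_tree lc_f_rc_10_3 lc_f_rc_21_1 lc_f_rc_5_1 lc_f_rc_5_3 lc_f_rc_17_3 lc_f_Cert_tree lc_f_rc_17_3 lc_f_rc_17_3 lc_f_Cert_tree lc_f_rc_5_1 lc_f_rc_10_1 lc_f_Cert_tree lc_f_rc_20_1 lc_f_rc_21_1 lc_f_Cert_tree lc_f_rc_20_1 lc_f_rc_10_3 lc_f_rc_17_3 lc_f_rc_20_1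 lc_f_rc_5_1 lc_f_rc_21_1 lc_f_rc_20_1 lc_f_rc_14_1 lc_f_rc_20_1 lc_f_rc_10_3 lc_f_rc_17_3 lc_f_rc_22_1 lc_f_rc_17_3 lc_f_rc_14_3 lc_f_rc_14_1 lc_f_rc_17_3 lc_f_rc_10_3 lc_f_rc_19_3 lc_f_rc_14_1 lc_f_rc_14_3 lc_f_rc_14_3 lc_f_rc_10_1 lc_f_rc_5_3 lc_f_rc_21_1 lc_f_rc_10_3 lc_f_rc_17_3 lc_f_rc_17_3 lc_f_Cert_tree lc_f_rc_20_1 lc_f_rc_14_1 lc_f_Cert_tree lc_f_Cert_tree) (@D3.rec (fun _ => (Cert rels S Gen.f)) lc_f_rc_14_1 lc_f_rc_14_3 lc_f_rc_10_3 lc_f_rc_20_1 lc_f_rc_17_3 lc_f_Cert_tree lc_f_Cert_tree lc_f_rc_20_1 lc_f_rc_14_3 lc_f_rc_17_3 lc_f_rc_14_3 lc_f_rc_10_3 lc_f_rc_14_3 lc_f_rc_14_3 lc_f_rc_10_3 lc_f_rc_17_3 lc_f_rc_14_3 lc_f_rc_17_3 lc_f_rc_17_3 lc_f_rc_14_3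 lc_f_rc_20_1 lc_f_rc_21_1 lc_f_rc_14_3 lc_f_rc_20_1 lc_f_rc_21_1 lc_f_Cert_tree lc_f_rc_22_1 lc_f_rc_20_1 lc_f_rc_17_3 lc_f_rc_21_1 lc_f_rc_20_1 lc_f_rc_10_3 lc_f_rc_5_3 lc_f_rc_10_3 lc_f_rc_10_3 lc_f_rc_5_1 lc_f_rc_10_3 lc_f_rc_17_1 lc_f_rc_21_1 lc_f_rc_10_3 lc_f_rc_20_1 lc_f_Cert_tree lc_f_rc_21_1 lc_f_rc_17_3 lc_f_rc_20_1 lc_f_rc_10_3 lc_f_rc_17_1 lc_f_rc_17_3 lc_f_rc_17_3 lc_f_rc_17_1 lc_f_rc_20_1 lc_f_rc_10_3 lc_f_rc_17_3 lc_f_rc_14_3 lc_f_rc_5_3 lc_f_rc_10_1 lc_f_rc_14_3 lc_f_rc_17_3 lc_f_Cert_tree lc_f_rc_10_3 lc_f_Cert_tree lc_f_rc_22_1) (@D3.rec (fun _ => (Cert rels S Gen.f)) lc_f_rc_20_1 lc_f_rc_20_1 lc_f_rc_17_3 lc_f_rc_17_3 lc_f_rc_10_3 lc_f_Cert_tree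 lc_f_rc_17_3 lc_f_rc_5_1 lc_f_rc_14_3 lc_f_rc_19_3 lc_f_rc_5_1 lc_f_rc_20_1 lc_f_Cert_tree lc_f_rc_21_1 lc_f_rc_10_1 lc_f_Cert_tree lc_f_rc_5_3 lc_f_rc_14_3 lc_f_Cert_tree lc_f_rc_10_1 lc_f_rc_14_3 lc_f_Cert_tree lc_f_rc_20_1 lc_f_rc_20_1 lc_f_rc_20_1 lc_f_rc_14_3 lc_f_rc_14_3 lc_f_rc_17_1 lc_f_rc_10_1 lc_f_rc_21_1 lc_f_rc_14_1 lc_f_rc_5_1 lc_f_rc_10_3 lc_f_rc_10_3 lc_f_rc_10_3 lc_f_rc_14_3 lc_f_rc_5_1 lc_f_Cert_tree lc_f_rc_20_1 lc_f_rc_22_1 lc_f_rc_20_1 lc_f_rc_17_3 lc_f_rc_21_1 lc_f_Cert_tree lc_f_rc_20_1 lc_f_rc_14_3 lc_f_rc_10_3 lc_f_rc_5_3 lc_f_rc_17_3 lc_f_rc_5_1 lc_f_Cert_tree lc_f_rc_14_3 lc_f_rc_5_1 lc_f_rc_20_1 lc_f_rc_14_3 lc_f_rc_22_1 lc_f_rc_5_1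 lc_f_rc_10_3 lc_f_Cert_tree lc_f_rc_17_3 lc_f_Cert_tree lc_f_rc_20_1) (@D3.rec (fun _ => (Cert rels S Gen.f)) lc_f_rc_21_1 lc_f_Cert_tree lc_f_rc_20_1 lc_f_rc_17_3 lc_f_rc_19_3 lc_f_rc_17_3 lc_f_rc_21_1 lc_f_rc_17_3 lc_f_Cert_tree lc_f_rc_21_1 lc_f_rc_20_1 lc_f_Cert_tree lc_f_rc_20_1 lc_f_rc_14_1 lc_f_rc_10_3 lc_f_rc_10_1 lc_f_rc_20_1 lc_f_rc_17_1 lc_f_rc_17_1 lc_f_rc_17_3 lc_f_rc_21_1 lc_f_Cert_tree lc_f_rc_20_1 lc_f_rc_5_1 lc_f_rc_14_3 lc_f_Cert_tree lc_f_rc_14_3 lc_f_rc_14_1 lc_f_Cert_tree lc_f_rc_20_1 lc_f_rc_17_3 lc_f_rc_17_3 lc_f_rc_21_1 lc_f_rc_20_1 lc_f_rc_21_1 lc_f_rc_17_1 lc_f_Cert_tree lc_f_rc_21_1 lc_f_rc_20_1 lc_f_Cert_tree lc_f_rc_20_1 lc_f_rc_19_1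 lc_f_rc_21_1 lc_f_rc_21_1 lc_f_rc_19_5 lc_f_rc_10_1 lc_f_rc_14_3 lc_f_rc_17_3 lc_f_rc_20_1 lc_f_rc_21_1 lc_f_Cert_tree lc_f_rc_20_1 lc_f_rc_19_1 lc_f_rc_21_1 lc_f_rc_20_1 lc_f_rc_17_3 lc_f_rc_14_3 lc_f_rc_22_1 lc_f_rc_10_3 lc_f_rc_5_3 lc_f_rc_17_3 lc_f_rc_20_1) (@D3.rec (fun _ => (Cert rels S Gen.f)) lc_f_Cert_tree lc_f_rc_20_1 lc_f_rc_21_1 lc_f_rc_10_3 lc_f_rc_10_3 lc_f_rc_17_3 lc_f_rc_10_1 lc_f_rc_5_3 lc_f_rc_14_3 lc_f_Cert_tree lc_f_rc_20_1 lc_f_rc_20_1 lc_f_rc_22_1 lc_f_rc_20_1 lc_f_Cert_tree lc_f_rc_10_3 lc_f_rc_14_3 lc_f_Cert_tree lc_f_rc_14_1 lc_f_rc_14_3 lc_f_Cert_tree lc_f_rc_22_1 lc_f_rc_20_1 lc_f_rc_19_3 lc_f_rc_17_3 lc_f_rc_10_3 lc_f_rc_17_3 lc_f_rc_17_1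 lc_f_rc_20_1 lc_f_rc_17_3 lc_f_rc_5_1 lc_f_rc_14_3 lc_f_rc_14_3 lc_f_rc_17_3 lc_f_rc_20_1 lc_f_rc_20_1 lc_f_rc_19_5 lc_f_rc_5_3 lc_f_rc_17_3 lc_f_rc_10_3 lc_f_rc_17_3 lc_f_rc_21_1 lc_f_rc_10_1 lc_f_rc_10_3 lc_f_rc_10_3 lc_f_rc_14_3 lc_f_Cert_tree lc_f_rc_14_3 lc_f_rc_22_1 lc_f_rc_14_3 lc_f_rc_21_1 lc_f_rc_5_3 lc_f_rc_10_3 lc_f_rc_5_3 lc_f_rc_14_3 lc_f_rc_5_3 lc_f_rc_5_3 lc_f_rc_21_1 lc_f_rc_14_1 lc_f_rc_5_3 lc_f_Cert_tree lc_f_rc_14_3) (@D3.rec (fun _ => (Cert rels S Gen.f)) lc_f_Cert_tree lc_f_rc_5_1 lc_f_rc_10_3 lc_f_rc_17_3 lc_f_rc_14_3 lc_f_rc_21_1 lc_f_rc_10_3 lc_f_rc_17_3 lc_f_rc_20_1 lc_f_rc_20_1 lc_f_rc_19_1 lc_f_rc_19_3 lc_f_rc_10_3 lc_f_rc_17_3 lc_f_rc_10_3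 lc_f_rc_10_3 lc_f_rc_17_3 lc_f_rc_17_3 lc_f_rc_20_1 lc_f_rc_14_3 lc_f_rc_21_1 lc_f_rc_19_3 lc_f_rc_22_1 lc_f_rc_20_1 lc_f_rc_14_1 lc_f_rc_14_1 lc_f_rc_22_1 lc_f_Cert_tree lc_f_rc_10_3 lc_f_rc_5_1 lc_f_rc_10_3 lc_f_rc_17_3 lc_f_rc_14_3 lc_f_rc_19_3 lc_f_rc_20_1 lc_f_rc_17_3 lc_f_rc_14_3 lc_f_rc_17_3 lc_f_rc_10_1 lc_f_rc_17_3 lc_f_rc_17_3 lc_f_rc_20_1 lc_f_Cert_tree lc_f_rc_20_1 lc_f_rc_17_3 lc_f_rc_14_3 lc_f_rc_14_3 lc_f_rc_21_1 lc_f_rc_17_3 lc_f_rc_21_1 lc_f_rc_14_3 lc_f_rc_20_1 lc_f_rc_20_1 lc_f_Cert_tree lc_f_rc_19_3 lc_f_rc_17_3 lc_f_rc_20_1 lc_f_rc_20_1 lc_f_rc_21_1 lc_f_rc_14_3 lc_f_rc_10_3 lc_f_rc_10_3) (@D3.rec (fun _ => (Cert rels S Gen.f)) lc_f_rc_17_3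 lc_f_rc_14_3 lc_f_rc_5_3 lc_f_Cert_tree lc_f_rc_21_1 lc_f_rc_5_1 lc_f_Cert_tree lc_f_rc_20_1 lc_f_rc_14_3 lc_f_rc_20_1 lc_f_rc_10_3 lc_f_Cert_tree lc_f_rc_17_3 lc_f_rc_20_1 lc_f_rc_20_1 lc_f_rc_5_1 lc_f_rc_21_1 lc_f_rc_17_3 lc_f_rc_19_3 lc_f_rc_10_3 lc_f_rc_17_3 lc_f_rc_17_3 lc_f_rc_17_3 lc_f_rc_5_1 lc_f_Cert_tree lc_f_rc_20_1 lc_f_rc_10_1 lc_f_rc_17_3 lc_f_rc_20_1 lc_f_rc_10_3 lc_f_rc_17_1 lc_f_rc_19_3 lc_f_rc_14_3 lc_f_rc_20_1 lc_f_rc_20_1 lc_f_rc_21_1 lc_f_Cert_tree lc_f_Cert_tree lc_f_rc_20_1 lc_f_rc_10_3 lc_f_rc_17_3 lc_f_rc_19_5 lc_f_rc_21_1 lc_f_rc_14_3 lc_f_rc_10_3 lc_f_rc_5_3 lc_f_rc_17_3 lc_f_Cert_tree lc_f_rc_21_1 lc_f_rc_5_1 lc_f_Cert_tree lc_f_rc_20_1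 lc_f_rc_20_1 lc_f_rc_19_3 lc_f_rc_5_3 lc_f_rc_20_1 lc_f_rc_17_3 lc_f_rc_14_3 lc_f_rc_17_3 lc_f_rc_17_3 lc_f_rc_20_1 lc_f_rc_10_3) (@D3.rec (fun _ => (Cert rels S Gen.f)) lc_f_rc_5_3 lc_f_Cert_tree lc_f_Cert_tree lc_f_rc_14_3 lc_f_rc_14_3 lc_f_rc_20_1 lc_f_rc_20_1 lc_f_rc_10_3 lc_f_rc_20_1 lc_f_Cert_tree lc_f_rc_10_3 lc_f_rc_14_1 lc_f_rc_21_1 lc_f_rc_10_3 lc_f_Cert_tree lc_f_rc_20_1 lc_f_rc_17_3 lc_f_rc_10_3 lc_f_rc_21_1 lc_f_Cert_tree lc_f_rc_20_1 lc_f_rc_5_3 lc_f_rc_5_1 lc_f_rc_20_1 lc_f_rc_20_1 lc_f_rc_10_3 lc_f_rc_14_3 lc_f_rc_17_3 lc_f_rc_17_1 lc_f_rc_20_1 lc_f_rc_20_1 lc_f_rc_20_1 lc_f_rc_20_1 lc_f_rc_21_1 lc_f_rc_20_1 lc_f_Cert_tree lc_f_rc_20_1 lc_f_rc_19_5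 lc_f_rc_17_3 lc_f_rc_20_1 lc_f_Cert_tree lc_f_rc_21_1 lc_f_rc_20_1 lc_f_rc_17_1 lc_f_rc_20_1 lc_f_rc_10_3 lc_f_rc_14_1 lc_f_Cert_tree lc_f_rc_17_1 lc_f_rc_20_1 lc_f_rc_21_1 lc_f_rc_5_1 lc_f_rc_14_1 lc_f_rc_17_3 lc_f_Cert_tree lc_f_rc_10_1 lc_f_rc_17_1 lc_f_rc_17_1 lc_f_rc_14_1 lc_f_Cert_tree lc_f_rc_21_1 lc_f_rc_20_1) (@D3.rec (fun _ => (Cert rels S Gen.f)) lc_f_rc_21_1 lc_f_rc_20_1 lc_f_rc_10_1 lc_f_rc_14_1 lc_f_rc_20_1 lc_f_Cert_tree lc_f_rc_14_3 lc_f_rc_14_3 lc_f_Cert_tree lc_f_rc_20_1 lc_f_rc_19_3 lc_f_rc_14_3 lc_f_rc_17_3 lc_f_rc_14_3 lc_f_rc_5_3 lc_f_rc_21_1 lc_f_rc_21_1 lc_f_rc_20_1 lc_f_rc_14_3 lc_f_rc_17_3 lc_f_rc_10_1 lc_f_rc_14_3 lc_f_rc_19_3 lc_f_rc_14_3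 lc_f_rc_10_3 lc_f_rc_17_3 lc_f_rc_21_1 lc_f_rc_20_1 lc_f_rc_20_1 lc_f_rc_5_3 lc_f_rc_14_3 lc_f_rc_19_1 lc_f_rc_5_3 lc_f_rc_17_1 lc_f_Cert_tree lc_f_rc_14_3 lc_f_rc_10_3 lc_f_rc_21_1 lc_f_rc_20_1 lc_f_rc_10_3 lc_f_rc_17_3 lc_f_rc_5_3 lc_f_rc_14_3 lc_f_rc_10_3 lc_f_rc_17_3 lc_f_rc_20_1 lc_f_rc_20_1 lc_f_rc_14_3 lc_f_rc_19_3 lc_f_rc_17_3 lc_f_rc_21_1 lc_f_rc_20_1 lc_f_rc_20_1 lc_f_rc_10_3 lc_f_Cert_tree lc_f_rc_21_1 lc_f_rc_14_3 lc_f_rc_17_1 lc_f_rc_20_1 lc_f_rc_19_3 lc_f_rc_19_3 lc_f_rc_20_1) (@D3.rec (fun _ => (Cert rels S Gen.f)) lc_f_rc_20_1 lc_f_rc_20_1 lc_f_rc_21_1 lc_f_rc_5_3 lc_f_rc_17_3 lc_f_rc_5_1 lc_f_rc_21_1 lc_f_rc_20_1 lc_f_rc_21_1 lc_f_rc_19_5 lc_f_rc_19_5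 lc_f_rc_17_3 lc_f_rc_22_1 lc_f_rc_5_3 lc_f_rc_5_1 lc_f_rc_21_1 lc_f_rc_14_3 lc_f_Cert_tree lc_f_rc_10_3 lc_f_rc_20_1 lc_f_rc_10_3 lc_f_rc_10_3 lc_f_rc_14_1 lc_f_rc_21_1 lc_f_rc_17_3 lc_f_rc_20_1 lc_f_rc_21_1 lc_f_rc_5_3 lc_f_rc_10_3 lc_f_rc_14_1 lc_f_rc_10_3 lc_f_rc_19_3 lc_f_Cert_tree lc_f_rc_20_1 lc_f_rc_21_1 lc_f_rc_10_3 lc_f_rc_10_3 lc_f_rc_21_1 lc_f_rc_10_3 lc_f_rc_22_1 lc_f_rc_5_1 lc_f_rc_14_3 lc_f_rc_17_3 lc_f_rc_14_3 lc_f_rc_5_3 lc_f_rc_10_3 lc_f_rc_19_3 lc_f_rc_21_1 lc_f_rc_20_1 lc_f_rc_21_1 lc_f_rc_19_5 lc_f_rc_10_3 lc_f_rc_10_3 lc_f_rc_17_3 lc_f_rc_17_1 lc_f_rc_17_3 lc_f_rc_5_3 lc_f_rc_17_1 lc_f_rc_17_1 lc_f_rc_17_3 lc_f_rc_14_3 lc_f_rc_5_3) (@D3.rec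 (fun _ => (Cert rels S Gen.f)) lc_f_rc_19_5 lc_f_rc_14_3 lc_f_rc_14_3 lc_f_rc_21_1 lc_f_rc_10_3 lc_f_rc_5_3 lc_f_rc_19_5 lc_f_rc_5_1 lc_f_rc_20_1 lc_f_rc_20_1 lc_f_rc_10_1 lc_f_rc_5_1 lc_f_rc_5_1 lc_f_Cert_tree lc_f_rc_14_3 lc_f_Cert_tree lc_f_rc_14_3 lc_f_rc_20_1 lc_f_rc_20_1 lc_f_Cert_tree lc_f_rc_14_1 lc_f_rc_5_1 lc_f_rc_19_3 lc_f_rc_10_3 lc_f_rc_14_3 lc_f_rc_20_1 lc_f_rc_21_1 lc_f_rc_20_1 lc_f_rc_10_3 lc_f_rc_17_3 lc_f_rc_19_5 lc_f_rc_10_3 lc_f_rc_21_1 lc_f_Cert_tree lc_f_Cert_tree lc_f_rc_21_1 lc_f_rc_5_1 lc_f_Cert_tree lc_f_rc_20_1 lc_f_rc_17_3 lc_f_rc_21_1 lc_f_rc_17_3 lc_f_rc_20_1 lc_f_rc_17_1 lc_f_rc_21_1 lc_f_rc_10_3 lc_f_rc_17_3 lc_f_rc_14_3 lc_f_rc_14_3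 lc_f_rc_17_3 lc_f_rc_21_1 lc_f_rc_5_1 lc_f_rc_17_3 lc_f_rc_21_1 lc_f_rc_14_3 lc_f_rc_10_3 lc_f_rc_14_3 lc_f_Cert_tree lc_f_rc_20_1 lc_f_rc_20_1 lc_f_Cert_tree lc_f_rc_21_1) (@D3.rec (fun _ => (Cert rels S Gen.f)) lc_f_rc_5_1 lc_f_rc_10_3 lc_f_rc_20_1 lc_f_Cert_tree lc_f_rc_19_3 lc_f_rc_10_3 lc_f_rc_5_1 lc_f_rc_21_1 lc_f_rc_20_1 lc_f_rc_20_1 lc_f_rc_17_3 lc_f_rc_10_3 lc_f_rc_5_1 lc_f_rc_21_1 lc_f_rc_20_1 lc_f_rc_10_3 lc_f_rc_17_1 lc_f_rc_17_3 lc_f_rc_21_1 lc_f_rc_20_1 lc_f_rc_20_1 lc_f_rc_10_3 lc_f_rc_17_3 lc_f_Cert_tree lc_f_rc_10_3 lc_f_rc_17_3 lc_f_rc_14_3 lc_f_rc_20_1 lc_f_rc_21_1 lc_f_rc_10_1 lc_f_rc_17_3 lc_f_Cert_tree lc_f_rc_5_3 lc_f_Cert_tree lc_f_rc_21_1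 lc_f_rc_20_1 lc_f_Cert_tree lc_f_rc_20_1 lc_f_rc_14_1 lc_f_rc_17_3 lc_f_rc_19_1 lc_f_rc_20_1 lc_f_rc_10_3 lc_f_rc_5_1 lc_f_rc_20_1 lc_f_rc_17_3 lc_f_rc_10_3 lc_f_rc_17_3 lc_f_rc_20_1 lc_f_rc_5_1 lc_f_rc_20_1 lc_f_rc_10_3 lc_f_rc_14_1 lc_f_rc_19_5 lc_f_rc_20_1 lc_f_rc_20_1 lc_f_rc_14_3 lc_f_rc_5_3 lc_f_rc_17_3 lc_f_Cert_tree lc_f_Cert_tree lc_f_rc_19_5) (@D3.rec (fun _ => (Cert rels S Gen.f)) lc_f_rc_14_1 lc_f_Cert_tree lc_f_rc_20_1 lc_f_rc_5_1 lc_f_rc_10_3 lc_f_rc_20_1 lc_f_rc_14_3 lc_f_rc_14_3 lc_f_rc_22_1 lc_f_rc_20_1 lc_f_rc_5_3 lc_f_rc_10_3 lc_f_Cert_tree lc_f_rc_17_3 lc_f_rc_17_3 lc_f_Cert_tree lc_f_rc_14_3 lc_f_rc_21_1 lc_f_Cert_tree lc_f_rc_20_1 lc_f_rc_21_1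 lc_f_rc_21_1 lc_f_rc_20_1 lc_f_rc_10_3 lc_f_Cert_tree lc_f_rc_10_3 lc_f_rc_21_1 lc_f_rc_14_1 lc_f_rc_19_5 lc_f_rc_19_3 lc_f_Cert_tree lc_f_rc_20_1 lc_f_rc_21_1 lc_f_rc_20_1 lc_f_rc_5_3 lc_f_rc_10_3 lc_f_rc_10_1 lc_f_Cert_tree lc_f_rc_19_1 lc_f_rc_14_3 lc_f_rc_22_1 lc_f_rc_20_1 lc_f_rc_20_1 lc_f_rc_21_1 lc_f_rc_17_3 lc_f_rc_20_1 lc_f_rc_17_3 lc_f_rc_5_1 lc_f_rc_5_3 lc_f_rc_10_3 lc_f_Cert_tree lc_f_rc_5_3 lc_f_rc_17_1 lc_f_Cert_tree lc_f_rc_20_1 lc_f_rc_17_3 lc_f_rc_17_3 lc_f_rc_5_3 lc_f_rc_17_3 lc_f_Cert_tree lc_f_Cert_tree lc_f_rc_22_1) (@D3.rec (fun _ => (Cert rels S Gen.f)) lc_f_rc_20_1 lc_f_rc_5_3 lc_f_Cert_tree lc_f_Cert_tree lc_f_rc_19_3 lc_f_rc_20_1 lc_f_rc_5_1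 lc_f_rc_5_1 lc_f_rc_17_3 lc_f_rc_21_1 lc_f_rc_20_1 lc_f_Cert_tree lc_f_Cert_tree lc_f_rc_20_1 lc_f_rc_10_1 lc_f_rc_10_3 lc_f_Cert_tree lc_f_rc_17_3 lc_f_rc_20_1 lc_f_rc_17_3 lc_f_Cert_tree lc_f_rc_21_1 lc_f_rc_17_3 lc_f_rc_20_1 lc_f_rc_19_1 lc_f_rc_17_3 lc_f_rc_10_3 lc_f_rc_14_3 lc_f_rc_19_3 lc_f_rc_17_3 lc_f_rc_21_1 lc_f_rc_21_1 lc_f_rc_21_1 lc_f_rc_19_5 lc_f_rc_14_3 lc_f_rc_19_3 lc_f_rc_20_1 lc_f_rc_10_3 lc_f_rc_20_1 lc_f_rc_14_3 lc_f_rc_14_3 lc_f_rc_10_3 lc_f_Cert_tree lc_f_rc_14_3 lc_f_rc_21_1 lc_f_rc_21_1 lc_f_rc_21_1 lc_f_rc_21_1 lc_f_rc_21_1 lc_f_rc_21_1 lc_f_rc_20_1 lc_f_rc_20_1 lc_f_rc_10_3 lc_f_rc_10_3 lc_f_rc_21_1 lc_f_rc_21_1 lc_f_rc_10_3 lc_f_rc_17_3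 lc_f_rc_21_1 lc_f_rc_10_3 lc_f_rc_20_1 lc_f_rc_20_1) (@D3.rec (fun _ => (Cert rels S Gen.f)) lc_f_rc_19_3 lc_f_rc_19_1 lc_f_rc_14_1 lc_f_rc_21_1 lc_f_rc_17_3 lc_f_rc_20_1 lc_f_rc_14_3 lc_f_rc_21_1 lc_f_rc_21_1 lc_f_rc_14_3 lc_f_rc_5_3 lc_f_rc_14_3 lc_f_rc_20_1 lc_f_rc_5_1 lc_f_rc_10_1 lc_f_Cert_tree lc_f_rc_21_1 lc_f_rc_20_1 lc_f_rc_22_1 lc_f_rc_10_1 lc_f_rc_17_3 lc_f_rc_5_3 lc_f_rc_19_5 lc_f_rc_21_1 lc_f_rc_21_1 lc_f_rc_19_3 lc_f_rc_19_5 lc_f_rc_10_3 lc_f_rc_17_1 lc_f_rc_21_1 lc_f_rc_21_1 lc_f_rc_10_3 lc_f_rc_10_3 lc_f_rc_5_1 lc_f_rc_5_3 lc_f_Cert_tree lc_f_Cert_tree lc_f_rc_20_1 lc_f_rc_5_1 lc_f_rc_20_1 lc_f_rc_10_3 lc_f_rc_10_3 lc_f_rc_21_1 lc_f_rc_20_1 lc_f_rc_14_3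 lc_f_rc_20_1 lc_f_rc_21_1 lc_f_rc_21_1 lc_f_rc_14_3 lc_f_rc_10_3 lc_f_rc_10_3 lc_f_rc_14_3 lc_f_Cert_tree lc_f_rc_17_3 lc_f_rc_5_1 lc_f_rc_20_1 lc_f_rc_21_1 lc_f_rc_20_1 lc_f_rc_14_3 lc_f_rc_10_3 lc_f_rc_14_3 lc_f_rc_17_3) (@D3.rec (fun _ => (Cert rels S Gen.f)) lc_f_rc_17_3 lc_f_rc_5_3 lc_f_rc_14_3 lc_f_rc_10_3 lc_f_Cert_tree lc_f_Cert_tree lc_f_Cert_tree lc_f_rc_20_1 lc_f_rc_17_3 lc_f_rc_5_1 lc_f_rc_5_3 lc_f_rc_10_3 lc_f_Cert_tree lc_f_Cert_tree lc_f_Cert_tree lc_f_rc_20_1 lc_f_rc_21_1 lc_f_rc_10_3 lc_f_rc_10_3 lc_f_rc_20_1 lc_f_rc_21_1 lc_f_rc_5_3 lc_f_rc_5_1 lc_f_rc_14_3 lc_f_rc_10_3 lc_f_Cert_tree lc_f_rc_17_3 lc_f_Cert_tree lc_f_rc_17_3 lc_f_Cert_tree lc_f_rc_14_3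 lc_f_rc_21_1 lc_f_rc_20_1 lc_f_rc_19_3 lc_f_rc_21_1 lc_f_rc_17_3 lc_f_rc_17_3 lc_f_rc_21_1 lc_f_rc_19_5 lc_f_rc_17_3 lc_f_rc_20_1 lc_f_rc_17_3 lc_f_rc_5_1 lc_f_rc_10_3 lc_f_rc_20_1 lc_f_Cert_tree lc_f_rc_14_1 lc_f_rc_22_1 lc_f_rc_20_1 lc_f_rc_21_1 lc_f_rc_17_3 lc_f_rc_20_1 lc_f_rc_5_1 lc_f_rc_17_3 lc_f_rc_5_1 lc_f_rc_5_1 lc_f_rc_14_3 lc_f_rc_17_3 lc_f_rc_21_1 lc_f_rc_10_3 lc_f_rc_14_3 lc_f_rc_19_5) (@D3.rec (fun _ => (Cert rels S Gen.f)) lc_f_rc_14_3 lc_f_rc_17_3 lc_f_rc_14_1 lc_f_rc_10_3 lc_f_rc_19_3 lc_f_rc_19_5 lc_f_rc_20_1 lc_f_rc_5_1 lc_f_rc_5_1 lc_f_rc_17_3 lc_f_rc_19_3 lc_f_rc_21_1 lc_f_rc_21_1 lc_f_rc_17_3 lc_f_rc_14_3 lc_f_rc_14_3 lc_f_rc_10_3 lc_f_rc_10_3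 lc_f_rc_21_1 lc_f_rc_14_3 lc_f_rc_21_1 lc_f_rc_14_3 lc_f_rc_14_3 lc_f_Cert_tree lc_f_Cert_tree lc_f_Cert_tree lc_f_rc_10_3 lc_f_rc_17_1 lc_f_rc_19_3 lc_f_rc_14_3 lc_f_Cert_tree lc_f_Cert_tree lc_f_rc_14_1 lc_f_rc_14_3 lc_f_rc_19_3 lc_f_rc_14_1 lc_f_rc_14_3 lc_f_Cert_tree lc_f_rc_20_1 lc_f_rc_10_3 lc_f_rc_17_3 lc_f_Cert_tree lc_f_rc_17_3 lc_f_rc_17_3 lc_f_rc_20_1 lc_f_rc_17_3 lc_f_rc_14_3 lc_f_Cert_tree lc_f_rc_10_3 lc_f_rc_14_1 lc_f_Cert_tree lc_f_Cert_tree lc_f_rc_21_1 lc_f_rc_5_1 lc_f_rc_10_1 lc_f_rc_20_1 lc_f_rc_17_3 lc_f_rc_17_3 lc_f_rc_14_1 lc_f_Cert_tree lc_f_rc_20_1 lc_f_rc_5_1) (@D3.rec (fun _ => (Cert rels S Gen.f)) lc_f_rc_21_1 lc_f_rc_5_1 lc_f_Cert_tree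 lc_f_Cert_tree lc_f_rc_10_3 lc_f_rc_14_3 lc_f_rc_19_3 lc_f_rc_14_3 lc_f_rc_14_3 lc_f_Cert_tree lc_f_rc_21_1 lc_f_rc_20_1 lc_f_rc_10_3 lc_f_rc_17_3 lc_f_Cert_tree lc_f_rc_17_3 lc_f_rc_17_3 lc_f_rc_20_1 lc_f_rc_10_3 lc_f_rc_22_1 lc_f_Cert_tree lc_f_rc_17_3 lc_f_rc_14_3 lc_f_Cert_tree lc_f_Cert_tree lc_f_rc_21_1 lc_f_rc_5_1 lc_f_rc_10_1 lc_f_rc_20_1 lc_f_rc_17_3 lc_f_rc_21_1 lc_f_rc_14_1 lc_f_Cert_tree lc_f_rc_20_1 lc_f_rc_19_3 lc_f_rc_17_3 lc_f_rc_10_3 lc_f_rc_17_3 lc_f_rc_14_1 lc_f_rc_10_3 lc_f_rc_21_1 lc_f_rc_5_3 lc_f_rc_10_3 lc_f_rc_14_3 lc_f_Cert_tree lc_f_rc_10_3 lc_f_rc_20_1 lc_f_rc_17_3 lc_f_Cert_tree lc_f_rc_20_1 lc_f_rc_20_1 lc_f_rc_10_3 lc_f_rc_17_3 lc_f_Cert_tree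 lc_f_Cert_tree lc_f_rc_21_1 lc_f_rc_5_1 lc_f_rc_17_1 lc_f_rc_20_1 lc_f_rc_21_1 lc_f_rc_5_1 lc_f_rc_19_3) (@D3.rec (fun _ => (Cert rels S Gen.f)) lc_f_Cert_tree lc_f_rc_20_1 lc_f_rc_17_3 lc_f_rc_21_1 lc_f_rc_20_1 lc_f_rc_20_1 lc_f_rc_10_1 lc_f_Cert_tree lc_f_rc_10_3 lc_f_rc_14_1 lc_f_rc_17_3 lc_f_Cert_tree lc_f_rc_20_1 lc_f_rc_14_1 lc_f_rc_17_1 lc_f_Cert_tree lc_f_rc_19_5 lc_f_rc_20_1 lc_f_rc_20_1 lc_f_rc_10_3 lc_f_rc_17_3 lc_f_Cert_tree lc_f_rc_10_3 lc_f_rc_17_3 lc_f_rc_5_1 lc_f_rc_10_3 lc_f_rc_5_1 lc_f_rc_5_3 lc_f_rc_10_3 lc_f_Cert_tree lc_f_rc_17_3 lc_f_Cert_tree lc_f_rc_20_1 lc_f_rc_14_3 lc_f_Cert_tree lc_f_rc_20_1 lc_f_rc_14_1 lc_f_rc_20_1 lc_f_Cert_tree lc_f_rc_20_1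 lc_f_rc_10_3 lc_f_rc_17_3 lc_f_rc_20_1 lc_f_rc_17_3 lc_f_rc_10_3 lc_f_rc_17_3 lc_f_rc_19_3 lc_f_rc_10_3 lc_f_rc_20_1 lc_f_rc_10_3 lc_f_rc_20_1 lc_f_rc_17_3 lc_f_rc_20_1 lc_f_rc_17_3 lc_f_rc_14_3 lc_f_rc_5_3 lc_f_rc_17_3 lc_f_rc_10_1 lc_f_Cert_tree lc_f_rc_14_3 lc_f_rc_5_1 lc_f_rc_14_3) (@D3.rec (fun _ => (Cert rels S Gen.f)) lc_f_rc_20_1 lc_f_rc_14_3 lc_f_rc_19_3 lc_f_rc_21_1 lc_f_rc_20_1 lc_f_rc_20_1 lc_f_rc_14_3 lc_f_rc_5_1 lc_f_rc_17_3 lc_f_rc_20_1 lc_f_rc_14_3 lc_f_rc_17_3 lc_f_rc_17_3 lc_f_rc_14_3 lc_f_Cert_tree lc_f_rc_14_3 lc_f_rc_20_1 lc_f_rc_20_1 lc_f_rc_21_1 lc_f_rc_21_1 lc_f_rc_20_1 lc_f_rc_10_3 lc_f_rc_10_3 lc_f_rc_19_5 lc_f_rc_10_3 lc_f_rc_5_1 lc_f_rc_21_1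 lc_f_rc_10_3 lc_f_rc_21_1 lc_f_rc_20_1 lc_f_rc_17_3 lc_f_rc_5_1 lc_f_rc_10_3 lc_f_rc_10_3 lc_f_Cert_tree lc_f_Cert_tree lc_f_rc_21_1 lc_f_rc_14_3 lc_f_Cert_tree lc_f_rc_20_1 lc_f_rc_14_3 lc_f_rc_20_1 lc_f_rc_21_1 lc_f_rc_19_5 lc_f_Cert_tree lc_f_rc_20_1 lc_f_rc_5_1 lc_f_rc_10_3 lc_f_rc_5_3 lc_f_rc_10_3 lc_f_rc_17_3 lc_f_Cert_tree lc_f_rc_14_3 lc_f_Cert_tree lc_f_Cert_tree lc_f_rc_20_1 lc_f_rc_17_3 lc_f_rc_21_1 lc_f_rc_10_3 lc_f_rc_17_3 lc_f_rc_14_1 lc_f_rc_5_3) (@D3.rec (fun _ => (Cert rels S Gen.f)) lc_f_Cert_tree lc_f_rc_20_1 lc_f_rc_5_3 lc_f_rc_10_3 lc_f_rc_19_5 lc_f_rc_19_5 lc_f_rc_17_1 lc_f_rc_19_5 lc_f_rc_14_3 lc_f_rc_21_1 lc_f_rc_20_1 lc_f_rc_10_3 lc_f_rc_20_1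 lc_f_rc_17_3 lc_f_rc_22_1 lc_f_rc_17_3 lc_f_Cert_tree lc_f_rc_21_1 lc_f_rc_20_1 lc_f_rc_19_1 lc_f_rc_14_3 lc_f_rc_14_3 lc_f_rc_21_1 lc_f_rc_14_3 lc_f_rc_17_3 lc_f_rc_19_3 lc_f_rc_5_1 lc_f_rc_5_1 lc_f_rc_5_1 lc_f_rc_21_1 lc_f_rc_21_1 lc_f_rc_17_3 lc_f_rc_20_1 lc_f_rc_5_1 lc_f_rc_5_3 lc_f_rc_21_1 lc_f_rc_21_1 lc_f_rc_14_1 lc_f_rc_14_1 lc_f_rc_14_3 lc_f_rc_17_3 lc_f_rc_17_3 lc_f_rc_14_1 lc_f_rc_10_3 lc_f_rc_21_1 lc_f_rc_20_1 lc_f_rc_20_1 lc_f_rc_20_1 lc_f_Cert_tree lc_f_rc_14_3 lc_f_rc_21_1 lc_f_rc_21_1 lc_f_rc_20_1 lc_f_rc_17_3 lc_f_rc_14_3 lc_f_rc_17_3 lc_f_rc_21_1 lc_f_rc_14_3 lc_f_rc_14_3 lc_f_rc_10_1 lc_f_rc_10_3 lc_f_rc_14_3) (@D3.rec (fun _ => (Cert rels S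 Gen.f)) lc_f_rc_17_3 lc_f_rc_19_3 lc_f_rc_21_1 lc_f_rc_5_3 lc_f_Cert_tree lc_f_rc_10_3 lc_f_rc_14_1 lc_f_rc_19_5 lc_f_rc_19_5 lc_f_rc_21_1 lc_f_rc_20_1 lc_f_rc_21_1 lc_f_rc_20_1 lc_f_rc_21_1 lc_f_rc_20_1 lc_f_rc_21_1 lc_f_rc_17_3 lc_f_rc_17_3 lc_f_rc_10_1 lc_f_rc_14_3 lc_f_rc_17_3 lc_f_rc_17_3 lc_f_rc_17_3 lc_f_rc_10_3 lc_f_rc_19_1 lc_f_rc_20_1 lc_f_rc_21_1 lc_f_rc_17_3 lc_f_rc_14_3 lc_f_rc_21_1 lc_f_rc_19_5 lc_f_rc_14_3 lc_f_rc_10_3 lc_f_rc_20_1 lc_f_rc_5_1 lc_f_rc_14_1 lc_f_rc_10_3 lc_f_rc_10_1 lc_f_rc_21_1 lc_f_rc_10_3 lc_f_rc_10_3 lc_f_rc_10_3 lc_f_rc_10_3 lc_f_rc_19_1 lc_f_rc_17_3 lc_f_rc_10_3 lc_f_rc_20_1 lc_f_rc_14_3 lc_f_rc_10_3 lc_f_rc_21_1 lc_f_rc_14_3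 lc_f_rc_14_3 lc_f_rc_17_3 lc_f_Cert_tree lc_f_Cert_tree lc_f_rc_21_1 lc_f_Cert_tree lc_f_rc_20_1 lc_f_rc_17_3 lc_f_rc_14_3 lc_f_Cert_tree lc_f_rc_10_3) (@D3.rec (fun _ => (Cert rels S Gen.f)) lc_f_Cert_tree lc_f_rc_19_5 lc_f_rc_19_5 lc_f_rc_20_1 lc_f_rc_17_3 lc_f_rc_10_3 lc_f_Cert_tree lc_f_rc_21_1 lc_f_rc_17_3 lc_f_rc_20_1 lc_f_rc_10_3 lc_f_Cert_tree lc_f_rc_17_3 lc_f_rc_20_1 lc_f_rc_10_3 lc_f_rc_21_1 lc_f_rc_5_3 lc_f_rc_10_3 lc_f_rc_10_3 lc_f_rc_17_3 lc_f_rc_14_3 lc_f_rc_19_1 lc_f_rc_20_1 lc_f_Cert_tree lc_f_rc_14_3 lc_f_rc_21_1 lc_f_rc_10_1 lc_f_rc_17_1 lc_f_rc_14_1 lc_f_rc_20_1 lc_f_rc_20_1 lc_f_rc_17_3 lc_f_rc_20_1 lc_f_rc_17_3 lc_f_rc_17_3 lc_f_rc_5_3 lc_f_rc_14_3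 lc_f_Cert_tree lc_f_rc_14_3 lc_f_Cert_tree lc_f_rc_20_1 lc_f_rc_20_1 lc_f_Cert_tree lc_f_rc_5_3 lc_f_rc_20_1 lc_f_rc_20_1 lc_f_rc_19_3 lc_f_rc_14_3 lc_f_rc_14_1 lc_f_rc_21_1 lc_f_rc_17_3 lc_f_rc_20_1 lc_f_rc_19_3 lc_f_rc_14_1 lc_f_rc_22_1 lc_f_rc_20_1 lc_f_rc_14_3 lc_f_rc_10_3 lc_f_rc_22_1 lc_f_rc_14_1 lc_f_rc_20_1 lc_f_rc_14_1) (@D3.rec (fun _ => (Cert rels S Gen.f)) lc_f_rc_10_1 lc_f_Cert_tree lc_f_rc_21_1 lc_f_rc_5_3 lc_f_rc_14_3 lc_f_rc_20_1 lc_f_rc_14_3 lc_f_rc_17_1 lc_f_rc_20_1 lc_f_rc_19_1 lc_f_rc_21_1 lc_f_rc_21_1 lc_f_rc_21_1 lc_f_rc_10_3 lc_f_rc_14_3 lc_f_rc_19_3 lc_f_rc_19_3 lc_f_rc_19_1 lc_f_rc_19_5 lc_f_rc_20_1 lc_f_rc_10_3 lc_f_rc_17_3 lc_f_rc_21_1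 lc_f_rc_17_3 lc_f_rc_17_3 lc_f_rc_14_3 lc_f_rc_14_3 lc_f_rc_17_1 lc_f_rc_17_3 lc_f_rc_17_1 lc_f_Cert_tree lc_f_rc_19_5 lc_f_rc_17_3 lc_f_rc_19_3 lc_f_rc_20_1 lc_f_rc_17_3 lc_f_rc_21_1 lc_f_rc_17_3 lc_f_rc_10_3 lc_f_rc_17_3 lc_f_rc_21_1 lc_f_rc_10_3 lc_f_rc_20_1 lc_f_rc_10_3 lc_f_rc_19_3 lc_f_rc_17_3 lc_f_rc_10_3 lc_f_rc_21_1 lc_f_rc_20_1 lc_f_rc_22_1 lc_f_rc_14_3 lc_f_rc_10_3 lc_f_rc_17_1 lc_f_rc_5_1 lc_f_rc_10_3 lc_f_rc_10_3 lc_f_rc_17_3 lc_f_rc_17_3 lc_f_rc_21_1 lc_f_rc_21_1 lc_f_Cert_tree lc_f_rc_17_3) (@D3.rec (fun _ => (Cert rels S Gen.f)) lc_f_rc_5_1 lc_f_Cert_tree lc_f_rc_20_1 lc_f_rc_19_5 lc_f_rc_10_3 lc_f_rc_17_3 lc_f_Cert_tree lc_f_rc_14_3 lc_f_Cert_tree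 lc_f_rc_17_3 lc_f_Cert_tree lc_f_rc_17_3 lc_f_rc_21_1 lc_f_rc_14_3 lc_f_rc_14_1 lc_f_rc_19_3 lc_f_rc_17_3 lc_f_Cert_tree lc_f_rc_10_3 lc_f_rc_19_1 lc_f_rc_17_3 lc_f_rc_14_3 lc_f_rc_20_1 lc_f_rc_14_1 lc_f_rc_5_1 lc_f_Cert_tree lc_f_rc_10_3 lc_f_rc_21_1 lc_f_rc_10_1 lc_f_rc_20_1 lc_f_rc_17_3 lc_f_rc_10_3 lc_f_rc_17_1 lc_f_rc_21_1 lc_f_rc_17_1 lc_f_rc_14_1 lc_f_rc_20_1 lc_f_rc_21_1 lc_f_rc_20_1 lc_f_Cert_tree lc_f_rc_19_3 lc_f_rc_10_3 lc_f_Cert_tree lc_f_rc_10_3 lc_f_rc_20_1 lc_f_rc_10_3 lc_f_rc_14_3 lc_f_Cert_tree lc_f_rc_14_3 lc_f_Cert_tree lc_f_rc_20_1 lc_f_rc_20_1 lc_f_rc_17_3 lc_f_rc_5_1 lc_f_Cert_tree lc_f_rc_14_1 lc_f_rc_20_1 lc_f_rc_14_3 lc_f_Cert_tree lc_f_rc_5_3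 lc_f_rc_5_1 lc_f_rc_20_1) (@D3.rec (fun _ => (Cert rels S Gen.f)) lc_f_rc_17_3 lc_f_rc_17_3 lc_f_rc_19_3 lc_f_rc_5_3 lc_f_Cert_tree lc_f_rc_10_3 lc_f_rc_20_1 lc_f_rc_14_3 lc_f_rc_19_3 lc_f_rc_14_3 lc_f_rc_10_3 lc_f_rc_20_1 lc_f_Cert_tree lc_f_rc_10_1 lc_f_rc_19_3 lc_f_rc_10_1 lc_f_rc_21_1 lc_f_rc_10_1 lc_f_rc_20_1 lc_f_rc_17_3 lc_f_rc_14_3 lc_f_rc_20_1 lc_f_rc_21_1 lc_f_rc_17_3 lc_f_rc_10_1 lc_f_rc_21_1 lc_f_rc_10_1 lc_f_rc_21_1 lc_f_rc_14_1 lc_f_rc_19_5 lc_f_rc_21_1 lc_f_rc_14_3 lc_f_Cert_tree lc_f_rc_20_1 lc_f_rc_21_1 lc_f_rc_17_1 lc_f_rc_14_3 lc_f_rc_21_1 lc_f_rc_19_3 lc_f_rc_20_1 lc_f_rc_5_1 lc_f_rc_19_3 lc_f_rc_5_1 lc_f_rc_21_1 lc_f_rc_14_3 lc_f_Cert_tree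 lc_f_Cert_tree lc_f_rc_20_1 lc_f_rc_19_3 lc_f_rc_5_3 lc_f_rc_17_3 lc_f_rc_14_1 lc_f_rc_17_1 lc_f_rc_10_3 lc_f_rc_20_1 lc_f_rc_21_1 lc_f_rc_17_3 lc_f_Cert_tree lc_f_rc_20_1 lc_f_Cert_tree lc_f_rc_20_1 lc_f_rc_20_1) (@D3.rec (fun _ => (Cert rels S Gen.f)) lc_f_rc_20_1 lc_f_rc_20_1 lc_f_rc_17_3 lc_f_rc_5_1 lc_f_rc_10_3 lc_f_Cert_tree lc_f_rc_20_1 lc_f_rc_14_3 lc_f_rc_19_1 lc_f_rc_17_3 lc_f_rc_14_1 lc_f_rc_20_1 lc_f_Cert_tree lc_f_rc_14_3 lc_f_rc_14_3 lc_f_rc_17_3 lc_f_rc_14_3 lc_f_rc_5_1 lc_f_Cert_tree lc_f_rc_20_1 lc_f_rc_5_3 lc_f_rc_5_3 lc_f_rc_10_1 lc_f_Cert_tree lc_f_rc_20_1 lc_f_rc_14_3 lc_f_rc_14_1 lc_f_rc_10_1 lc_f_rc_20_1 lc_f_rc_5_3 lc_f_rc_17_1 lc_f_rc_22_1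 lc_f_rc_10_1 lc_f_Cert_tree lc_f_rc_14_3 lc_f_rc_20_1 lc_f_Cert_tree lc_f_rc_20_1 lc_f_rc_20_1 lc_f_rc_5_3 lc_f_rc_20_1 lc_f_rc_10_3 lc_f_rc_21_1 lc_f_rc_20_1 lc_f_rc_17_1 lc_f_Cert_tree lc_f_Cert_tree lc_f_Cert_tree lc_f_rc_20_1 lc_f_rc_5_3 lc_f_rc_10_3 lc_f_rc_5_3 lc_f_rc_10_1 lc_f_Cert_tree lc_f_rc_17_1 lc_f_rc_20_1 lc_f_rc_17_1 lc_f_Cert_tree lc_f_rc_17_1 lc_f_Cert_tree lc_f_rc_17_1 lc_f_rc_17_1) (@D3.rec (fun _ => (Cert rels S Gen.f)) lc_f_Cert_tree lc_f_rc_20_1 lc_f_rc_19_1 lc_f_rc_10_1 lc_f_rc_20_1 lc_f_rc_19_3 lc_f_rc_10_3 lc_f_rc_17_3 lc_f_rc_21_1 lc_f_rc_17_3 lc_f_Cert_tree lc_f_rc_20_1 lc_f_rc_5_1 lc_f_rc_14_3 lc_f_rc_17_3 lc_f_rc_21_1 lc_f_rc_21_1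 lc_f_Cert_tree lc_f_rc_14_3 lc_f_rc_10_1 lc_f_rc_21_1 lc_f_rc_19_3 lc_f_rc_20_1 lc_f_rc_21_1 lc_f_rc_19_5 lc_f_rc_20_1 lc_f_rc_10_1 lc_f_rc_20_1 lc_f_rc_17_1 lc_f_rc_20_1 lc_f_rc_21_1 lc_f_rc_20_1 lc_f_rc_20_1 lc_f_rc_21_1 lc_f_rc_20_1 lc_f_rc_21_1 lc_f_rc_14_3 lc_f_rc_19_1 lc_f_rc_21_1 lc_f_rc_17_3 lc_f_rc_14_3 lc_f_rc_17_3 lc_f_rc_14_1 lc_f_rc_17_3 lc_f_rc_14_3 lc_f_Cert_tree lc_f_rc_14_3 lc_f_Cert_tree lc_f_rc_14_3 lc_f_rc_14_3 lc_f_rc_10_3 lc_f_rc_22_1 lc_f_rc_5_3 lc_f_rc_10_1 lc_f_rc_10_1 lc_f_rc_14_3 lc_f_rc_21_1 lc_f_rc_17_3 lc_f_rc_20_1 lc_f_rc_20_1 lc_f_rc_5_3 lc_f_rc_19_3) (@D3.rec (fun _ => (Cert rels S Gen.f)) lc_f_rc_10_3 lc_f_rc_20_1 lc_f_rc_14_1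 lc_f_rc_10_1 lc_f_rc_10_3 lc_f_rc_10_3 lc_f_rc_10_3 lc_f_rc_14_3 lc_f_rc_17_3 lc_f_rc_5_1 lc_f_rc_20_1 lc_f_rc_14_3 lc_f_rc_17_3 lc_f_rc_17_1 lc_f_rc_20_1 lc_f_rc_17_3 lc_f_rc_14_3 lc_f_rc_5_3 lc_f_rc_17_1 lc_f_rc_17_1 lc_f_rc_10_1 lc_f_rc_21_1 lc_f_rc_17_3 lc_f_rc_21_1 lc_f_rc_21_1 lc_f_Cert_tree lc_f_rc_10_3 lc_f_Cert_tree lc_f_Cert_tree lc_f_rc_10_3 lc_f_rc_21_1 lc_f_Cert_tree lc_f_rc_10_1 lc_f_rc_17_3 lc_f_Cert_tree lc_f_rc_14_3 lc_f_rc_21_1 lc_f_rc_5_3 lc_f_rc_10_1 lc_f_rc_17_3 lc_f_rc_17_3 lc_f_rc_5_1 lc_f_rc_14_1 lc_f_rc_17_1 lc_f_rc_17_3 lc_f_Cert_tree lc_f_rc_20_1 lc_f_rc_14_3 lc_f_rc_20_1 lc_f_rc_20_1 lc_f_rc_17_1 lc_f_Cert_tree lc_f_rc_14_3 lc_f_rc_14_3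 lc_f_rc_10_3 lc_f_rc_14_3 lc_f_rc_17_3 lc_f_rc_21_1 lc_f_rc_21_1 lc_f_rc_10_3 lc_f_rc_17_3 lc_f_Cert_tree) (@D3.rec (fun _ => (Cert rels S Gen.f)) lc_f_rc_19_5 lc_f_rc_20_1 lc_f_rc_10_3 lc_f_rc_17_3 lc_f_Cert_tree lc_f_rc_10_3 lc_f_rc_17_3 lc_f_Cert_tree lc_f_Cert_tree lc_f_rc_21_1 lc_f_rc_5_1 lc_f_rc_10_3 lc_f_rc_20_1 lc_f_rc_21_1 lc_f_rc_17_3 lc_f_Cert_tree lc_f_rc_19_3 lc_f_rc_21_1 lc_f_Cert_tree lc_f_rc_20_1 lc_f_rc_14_3 lc_f_rc_14_3 lc_f_rc_14_3 lc_f_Cert_tree lc_f_rc_10_3 lc_f_rc_21_1 lc_f_rc_20_1 lc_f_rc_20_1 lc_f_Cert_tree lc_f_rc_20_1 lc_f_rc_10_3 lc_f_rc_17_3 lc_f_Cert_tree lc_f_rc_5_1 lc_f_rc_17_3 lc_f_rc_20_1 lc_f_rc_10_3 lc_f_rc_21_1 lc_f_rc_14_3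 lc_f_rc_10_3 lc_f_rc_21_1 lc_f_Cert_tree lc_f_rc_10_1 lc_f_rc_17_3 lc_f_rc_14_3 lc_f_rc_5_1 lc_f_rc_14_3 lc_f_rc_17_3 lc_f_rc_10_3 lc_f_Cert_tree lc_f_rc_5_3 lc_f_rc_5_3 lc_f_rc_17_3 lc_f_rc_19_5 lc_f_rc_20_1 lc_f_rc_14_3 lc_f_rc_19_3 lc_f_rc_20_1 lc_f_Cert_tree lc_f_rc_14_3 lc_f_rc_10_1 lc_f_rc_20_1) (@D3.rec (fun _ => (Cert rels S Gen.f)) lc_f_rc_20_1 lc_f_rc_10_3 lc_f_rc_21_1 lc_f_rc_21_1 lc_f_rc_10_3 lc_f_rc_5_1 lc_f_rc_5_3 lc_f_rc_10_3 lc_f_Cert_tree lc_f_rc_5_1 lc_f_rc_20_1 lc_f_rc_5_1 lc_f_rc_19_5 lc_f_rc_20_1 lc_f_rc_10_3 lc_f_rc_19_3 lc_f_rc_17_3 lc_f_rc_14_3 lc_f_rc_10_3 lc_f_rc_21_1 lc_f_rc_19_3 lc_f_rc_17_3 lc_f_rc_20_1 lc_f_rc_14_3 lc_f_rc_14_3 lc_f_rc_14_3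 lc_f_rc_14_3 lc_f_rc_20_1 lc_f_rc_10_3 lc_f_rc_19_3 lc_f_rc_17_3 lc_f_rc_21_1 lc_f_Cert_tree lc_f_rc_21_1 lc_f_rc_14_3 lc_f_Cert_tree lc_f_rc_20_1 lc_f_rc_14_3 lc_f_rc_19_3 lc_f_rc_19_5 lc_f_rc_19_5 lc_f_rc_21_1 lc_f_rc_17_3 lc_f_rc_21_1 lc_f_rc_20_1 lc_f_rc_14_3 lc_f_rc_10_3 lc_f_rc_5_3 lc_f_rc_17_3 lc_f_rc_20_1 lc_f_Cert_tree lc_f_rc_14_3 lc_f_rc_19_3 lc_f_rc_21_1 lc_f_rc_20_1 lc_f_rc_14_3 lc_f_rc_10_3 lc_f_rc_21_1 lc_f_rc_20_1 lc_f_rc_10_1 lc_f_rc_5_3 lc_f_rc_10_3) (@D3.rec (fun _ => (Cert rels S Gen.f)) lc_f_rc_17_3 lc_f_Cert_tree lc_f_rc_21_1 lc_f_rc_17_3 lc_f_Cert_tree lc_f_Cert_tree lc_f_rc_20_1 lc_f_rc_14_3 lc_f_rc_17_3 lc_f_rc_5_3 lc_f_rc_17_3 lc_f_Cert_tree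 lc_f_Cert_tree lc_f_rc_17_1 lc_f_rc_20_1 lc_f_rc_5_3 lc_f_rc_20_1 lc_f_rc_10_1 lc_f_rc_17_3 lc_f_Cert_tree lc_f_Cert_tree lc_f_rc_20_1 lc_f_rc_20_1 lc_f_rc_14_1 lc_f_rc_20_1 lc_f_rc_10_3 lc_f_rc_17_3 lc_f_rc_17_3 lc_f_rc_17_3 lc_f_Cert_tree lc_f_Cert_tree lc_f_rc_20_1 lc_f_rc_19_3 lc_f_rc_17_3 lc_f_rc_22_1 lc_f_rc_10_3 lc_f_Cert_tree lc_f_rc_17_3 lc_f_Cert_tree lc_f_rc_17_3 lc_f_rc_21_1 lc_f_rc_20_1 lc_f_rc_19_1 lc_f_rc_20_1 lc_f_rc_5_1 lc_f_rc_17_3 lc_f_rc_21_1 lc_f_rc_14_3 lc_f_rc_21_1 lc_f_rc_19_3 lc_f_rc_20_1 lc_f_rc_14_3 lc_f_rc_17_3 lc_f_Cert_tree lc_f_rc_5_1 lc_f_rc_17_3 lc_f_rc_20_1 lc_f_rc_14_3 lc_f_rc_10_3 lc_f_rc_21_1 lc_f_Cert_tree lc_f_rc_21_1) (@D3.rec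 (fun _ => (Cert rels S Gen.f)) lc_f_rc_20_1 lc_f_rc_10_3 lc_f_rc_21_1 lc_f_Cert_tree lc_f_rc_21_1 lc_f_rc_10_3 lc_f_Cert_tree lc_f_rc_5_1 lc_f_rc_14_3 lc_f_rc_14_3 lc_f_rc_17_3 lc_f_rc_22_1 lc_f_Cert_tree lc_f_rc_14_3 lc_f_rc_21_1 lc_f_Cert_tree lc_f_rc_20_1 lc_f_rc_17_3 lc_f_rc_14_3 lc_f_rc_21_1 lc_f_rc_21_1 lc_f_rc_19_5 lc_f_rc_10_3 lc_f_rc_14_3 lc_f_rc_19_3 lc_f_rc_21_1 lc_f_rc_19_3 lc_f_rc_10_3 lc_f_rc_10_3 lc_f_rc_14_3 lc_f_rc_17_3 lc_f_Cert_tree lc_f_rc_10_3 lc_f_rc_14_3 lc_f_rc_21_1 lc_f_rc_17_1 lc_f_rc_20_1 lc_f_rc_10_3 lc_f_rc_5_1 lc_f_rc_14_3 lc_f_rc_20_1 lc_f_rc_21_1 lc_f_rc_5_3 lc_f_rc_17_3 lc_f_rc_10_3 lc_f_rc_17_3 lc_f_rc_17_3 lc_f_rc_10_1 lc_f_rc_5_3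 lc_f_rc_14_3 lc_f_rc_10_3 lc_f_Cert_tree lc_f_rc_10_3 lc_f_rc_17_1 lc_f_rc_20_1 lc_f_rc_5_1 lc_f_rc_10_3 lc_f_rc_5_3 lc_f_rc_14_3 lc_f_rc_10_3 lc_f_rc_20_1 lc_f_rc_14_3) (@D3.rec (fun _ => (Cert rels S Gen.f)) lc_f_rc_10_1 lc_f_rc_17_3 lc_f_rc_10_3 lc_f_rc_10_3 lc_f_rc_20_1 lc_f_rc_20_1 lc_f_Cert_tree lc_f_rc_20_1 lc_f_rc_17_3 lc_f_rc_14_3 lc_f_rc_5_3 lc_f_rc_21_1 lc_f_rc_17_3 lc_f_rc_21_1 lc_f_rc_14_3 lc_f_rc_20_1 lc_f_rc_10_3 lc_f_rc_10_3 lc_f_rc_19_5 lc_f_rc_14_3 lc_f_rc_10_3 lc_f_rc_10_3 lc_f_rc_19_3 lc_f_rc_20_1 lc_f_rc_20_1 lc_f_rc_20_1 lc_f_rc_10_3 lc_f_rc_14_3 lc_f_rc_14_3 lc_f_rc_10_3 lc_f_rc_21_1 lc_f_rc_14_3 lc_f_rc_14_3 lc_f_rc_14_3 lc_f_Cert_tree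 lc_f_rc_21_1 lc_f_rc_20_1 lc_f_rc_10_3 lc_f_rc_17_3 lc_f_rc_14_1 lc_f_rc_10_3 lc_f_rc_14_3 lc_f_Cert_tree lc_f_rc_20_1 lc_f_rc_14_3 lc_f_rc_5_3 lc_f_rc_17_3 lc_f_Cert_tree lc_f_Cert_tree lc_f_rc_14_3 lc_f_Cert_tree lc_f_rc_20_1 lc_f_rc_21_1 lc_f_rc_14_3 lc_f_rc_20_1 lc_f_rc_21_1 lc_f_rc_19_3 lc_f_rc_17_3 lc_f_rc_10_3 lc_f_rc_5_1 lc_f_rc_5_1 lc_f_rc_5_1) (@D3.rec (fun _ => (Cert rels S Gen.f)) lc_f_rc_14_3 lc_f_rc_14_3 lc_f_rc_17_3 lc_f_Cert_tree lc_f_rc_5_3 lc_f_rc_20_1 lc_f_rc_14_3 lc_f_rc_17_3 lc_f_rc_10_3 lc_f_Cert_tree lc_f_rc_5_3 lc_f_rc_10_3 lc_f_rc_20_1 lc_f_rc_21_1 lc_f_rc_14_3 lc_f_rc_17_1 lc_f_rc_20_1 lc_f_rc_10_3 lc_f_rc_17_3 lc_f_rc_19_5 lc_f_rc_17_3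 lc_f_rc_20_1 lc_f_rc_14_3 lc_f_rc_14_3 lc_f_rc_21_1 lc_f_rc_20_1 lc_f_rc_5_3 lc_f_rc_10_3 lc_f_Cert_tree lc_f_rc_17_3 lc_f_Cert_tree lc_f_rc_21_1 lc_f_rc_14_3 lc_f_Cert_tree lc_f_rc_20_1 lc_f_rc_17_3 lc_f_rc_14_3 lc_f_rc_19_3 lc_f_rc_10_3 lc_f_rc_17_3 lc_f_rc_21_1 lc_f_rc_21_1 lc_f_rc_17_3 lc_f_rc_14_3 lc_f_rc_10_3 lc_f_rc_17_1 lc_f_rc_10_3 lc_f_rc_21_1 lc_f_rc_5_3 lc_f_Cert_tree lc_f_rc_17_3 lc_f_rc_21_1 lc_f_rc_19_5 lc_f_rc_14_3 lc_f_Cert_tree lc_f_rc_20_1 lc_f_rc_10_3 lc_f_rc_17_1 lc_f_rc_10_3 lc_f_rc_14_1 lc_f_rc_17_3 lc_f_rc_10_3) (@D3.rec (fun _ => (Cert rels S Gen.f)) lc_f_rc_14_3 lc_f_rc_17_3 lc_f_rc_17_3 lc_f_rc_14_1 lc_f_rc_20_1 lc_f_rc_19_3 lc_f_rc_19_3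 lc_f_rc_10_3 lc_f_rc_17_3 lc_f_rc_19_3 lc_f_rc_19_5 lc_f_rc_17_3 lc_f_rc_21_1 lc_f_rc_10_3 lc_f_rc_22_1 lc_f_Cert_tree lc_f_rc_21_1 lc_f_rc_20_1 lc_f_rc_14_3 lc_f_rc_14_1 lc_f_rc_14_3 lc_f_rc_21_1 lc_f_rc_5_3 lc_f_rc_10_3 lc_f_rc_22_1 lc_f_rc_17_3 lc_f_rc_14_3 lc_f_Cert_tree lc_f_rc_19_3 lc_f_rc_21_1 lc_f_Cert_tree lc_f_rc_20_1 lc_f_rc_17_3 lc_f_rc_14_3 lc_f_rc_21_1 lc_f_rc_19_3 lc_f_rc_19_5 lc_f_rc_17_3 lc_f_rc_21_1 lc_f_rc_10_3 lc_f_rc_14_3 lc_f_rc_17_3 lc_f_rc_17_3 lc_f_rc_17_3 lc_f_rc_5_1 lc_f_rc_20_1 lc_f_rc_10_1 lc_f_rc_19_1 lc_f_rc_17_3 lc_f_rc_17_3 lc_f_rc_10_3 lc_f_rc_19_1 lc_f_rc_19_5 lc_f_rc_10_3 lc_f_rc_14_3 lc_f_rc_14_3 lc_f_rc_10_3 lc_f_rc_5_3 lc_f_rc_5_3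 lc_f_rc_5_1 lc_f_rc_21_1 lc_f_rc_20_1) (@D3.rec (fun _ => (Cert rels S Gen.f)) lc_f_rc_17_3 lc_f_rc_14_3 lc_f_rc_17_1 lc_f_rc_20_1 lc_f_rc_17_3 lc_f_rc_14_1 lc_f_rc_17_3 lc_f_rc_5_3 lc_f_rc_14_1 lc_f_rc_14_1 lc_f_rc_17_3 lc_f_rc_17_1 lc_f_rc_21_1 lc_f_rc_21_1 lc_f_rc_20_1 lc_f_rc_20_1 lc_f_rc_20_1 lc_f_rc_20_1 lc_f_rc_5_1 lc_f_rc_5_1 lc_f_rc_19_3 lc_f_rc_14_3 lc_f_Cert_tree lc_f_rc_21_1 lc_f_rc_10_3 lc_f_rc_17_3 lc_f_Cert_tree lc_f_rc_10_3 lc_f_rc_21_1 lc_f_rc_10_3 lc_f_rc_21_1 lc_f_rc_14_1 lc_f_rc_10_3 lc_f_rc_20_1 lc_f_rc_19_3 lc_f_rc_10_3 lc_f_rc_14_3 lc_f_rc_17_3 lc_f_rc_17_1 lc_f_rc_21_1 lc_f_rc_5_1 lc_f_rc_14_1 lc_f_rc_10_1 lc_f_Cert_tree lc_f_rc_20_1 lc_f_rc_20_1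 lc_f_rc_5_1 lc_f_Cert_tree lc_f_Cert_tree lc_f_Cert_tree lc_f_rc_20_1 lc_f_rc_14_3 lc_f_Cert_tree lc_f_rc_20_1 lc_f_rc_22_1 lc_f_rc_21_1 lc_f_rc_20_1 lc_f_rc_17_1 lc_f_rc_17_3 lc_f_rc_14_1 lc_f_rc_20_1 lc_f_rc_22_1)
def ce_f_10 : D2 → D3 → (Cert rels S Gen.f) := @D2.rec (fun _ => D3 → (Cert rels S Gen.f)) (@D3.rec (fun _ => (Cert rels S Gen.f)) lc_f_Cert_tree lc_f_rc_20_1 lc_f_rc_17_1 lc_f_Cert_tree lc_f_Cert_tree lc_f_rc_21_1 lc_f_rc_20_1 lc_f_rc_20_1 lc_f_rc_14_3 lc_f_rc_19_3 lc_f_rc_10_3 lc_f_rc_14_3 lc_f_rc_20_1 lc_f_rc_20_1 lc_f_Cert_tree lc_f_rc_21_1 lc_f_rc_14_3 lc_f_rc_14_3 lc_f_rc_14_3 lc_f_rc_20_1 lc_f_rc_17_3 lc_f_rc_21_1 lc_f_rc_17_3 lc_f_rc_5_1 lc_f_rc_20_1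 lc_f_rc_20_1 lc_f_rc_10_3 lc_f_Cert_tree lc_f_rc_14_3 lc_f_rc_21_1 lc_f_rc_20_1 lc_f_rc_20_1 lc_f_Cert_tree lc_f_rc_10_3 lc_f_rc_17_3 lc_f_Cert_tree lc_f_rc_10_3 lc_f_rc_21_1 lc_f_rc_21_1 lc_f_rc_10_3 lc_f_rc_14_1 lc_f_rc_21_1 lc_f_rc_17_3 lc_f_rc_14_3 lc_f_rc_14_3 lc_f_Cert_tree lc_f_rc_19_3 lc_f_rc_19_5 lc_f_rc_20_1 lc_f_rc_10_3 lc_f_rc_14_3 lc_f_Cert_tree lc_f_rc_10_3 lc_f_rc_21_1 lc_f_rc_20_1 lc_f_rc_21_1 lc_f_rc_10_3 lc_f_rc_17_3 lc_f_rc_20_1 lc_f_rc_10_3 lc_f_rc_14_3 lc_f_rc_5_1) (@D3.rec (fun _ => (Cert rels S Gen.f)) lc_f_rc_10_3 lc_f_rc_14_3 lc_f_rc_10_1 lc_f_rc_14_1 lc_f_rc_5_3 lc_f_rc_10_3 lc_f_Cert_tree lc_f_Cert_tree lc_f_rc_14_3 lc_f_rc_19_5 lc_f_Cert_tree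 lc_f_rc_20_1 lc_f_rc_5_1 lc_f_rc_21_1 lc_f_rc_14_3 lc_f_rc_19_5 lc_f_Cert_tree lc_f_rc_21_1 lc_f_rc_17_3 lc_f_Cert_tree lc_f_rc_10_1 lc_f_Cert_tree lc_f_rc_20_1 lc_f_rc_20_1 lc_f_rc_17_3 lc_f_rc_17_1 lc_f_Cert_tree lc_f_rc_21_1 lc_f_rc_17_3 lc_f_rc_14_3 lc_f_rc_17_3 lc_f_rc_14_3 lc_f_Cert_tree lc_f_rc_10_3 lc_f_Cert_tree lc_f_rc_5_1 lc_f_rc_21_1 lc_f_rc_20_1 lc_f_Cert_tree lc_f_rc_10_3 lc_f_rc_14_3 lc_f_Cert_tree lc_f_rc_17_3 lc_f_rc_17_3 lc_f_rc_20_1 lc_f_rc_10_3 lc_f_rc_17_3 lc_f_rc_19_1 lc_f_rc_10_3 lc_f_rc_14_3 lc_f_Cert_tree lc_f_rc_10_3 lc_f_rc_21_1 lc_f_rc_14_3 lc_f_rc_5_1 lc_f_rc_14_3 lc_f_rc_5_3 lc_f_rc_19_3 lc_f_rc_17_3 lc_f_rc_19_3 lc_f_rc_14_3 lc_f_rc_21_1)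 (@D3.rec (fun _ => (Cert rels S Gen.f)) lc_f_Cert_tree lc_f_rc_20_1 lc_f_rc_10_3 lc_f_rc_14_3 lc_f_rc_21_1 lc_f_rc_19_5 lc_f_rc_14_3 lc_f_rc_17_3 lc_f_Cert_tree lc_f_rc_21_1 lc_f_rc_10_3 lc_f_rc_20_1 lc_f_rc_5_1 lc_f_rc_10_3 lc_f_rc_5_3 lc_f_rc_19_3 lc_f_rc_20_1 lc_f_rc_5_1 lc_f_rc_20_1 lc_f_rc_17_3 lc_f_rc_20_1 lc_f_rc_14_3 lc_f_rc_17_3 lc_f_rc_5_3 lc_f_rc_10_3 lc_f_rc_5_3 lc_f_Cert_tree lc_f_rc_20_1 lc_f_rc_20_1 lc_f_rc_20_1 lc_f_Cert_tree lc_f_rc_17_3 lc_f_rc_14_3 lc_f_rc_10_3 lc_f_rc_20_1 lc_f_rc_14_3 lc_f_rc_10_3 lc_f_rc_19_1 lc_f_rc_19_5 lc_f_rc_10_3 lc_f_rc_19_5 lc_f_rc_5_1 lc_f_rc_20_1 lc_f_rc_5_3 lc_f_rc_20_1 lc_f_rc_20_1 lc_f_rc_17_1 lc_f_rc_20_1 lc_f_rc_14_3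 lc_f_Cert_tree lc_f_rc_20_1 lc_f_rc_17_3 lc_f_rc_5_3 lc_f_rc_14_3 lc_f_Cert_tree lc_f_rc_5_1 lc_f_rc_17_3 lc_f_Cert_tree lc_f_rc_5_1 lc_f_rc_10_1 lc_f_rc_20_1 lc_f_rc_17_3) (@D3.rec (fun _ => (Cert rels S Gen.f)) lc_f_rc_21_1 lc_f_rc_21_1 lc_f_rc_17_3 lc_f_rc_10_3 lc_f_rc_14_3 lc_f_Cert_tree lc_f_rc_10_3 lc_f_rc_21_1 lc_f_rc_14_3 lc_f_rc_17_3 lc_f_rc_19_3 lc_f_rc_17_3 lc_f_rc_20_1 lc_f_rc_10_3 lc_f_rc_17_3 lc_f_rc_17_3 lc_f_rc_5_1 lc_f_rc_17_3 lc_f_rc_5_1 lc_f_rc_10_1 lc_f_rc_14_3 lc_f_rc_17_3 lc_f_Cert_tree lc_f_Cert_tree lc_f_rc_21_1 lc_f_Cert_tree lc_f_rc_20_1 lc_f_rc_21_1 lc_f_rc_21_1 lc_f_rc_17_3 lc_f_rc_5_1 lc_f_rc_19_3 lc_f_rc_21_1 lc_f_rc_14_3 lc_f_rc_17_3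 lc_f_rc_17_3 lc_f_rc_14_3 lc_f_rc_10_3 lc_f_rc_14_1 lc_f_rc_10_3 lc_f_rc_5_1 lc_f_rc_21_1 lc_f_rc_22_1 lc_f_rc_20_1 lc_f_rc_19_5 lc_f_rc_20_1 lc_f_rc_10_3 lc_f_rc_17_3 lc_f_rc_14_3 lc_f_rc_20_1 lc_f_rc_20_1 lc_f_rc_10_3 lc_f_rc_21_1 lc_f_rc_10_3 lc_f_rc_10_3 lc_f_rc_20_1 lc_f_rc_17_1 lc_f_rc_20_1 lc_f_rc_20_1 lc_f_rc_20_1 lc_f_Cert_tree lc_f_rc_20_1) (@D3.rec (fun _ => (Cert rels S Gen.f)) lc_f_rc_17_3 lc_f_rc_5_1 lc_f_rc_17_1 lc_f_rc_19_1 lc_f_rc_19_3 lc_f_rc_21_1 lc_f_rc_20_1 lc_f_rc_21_1 lc_f_rc_17_3 lc_f_rc_14_3 lc_f_Cert_tree lc_f_rc_14_3 lc_f_Cert_tree lc_f_rc_14_3 lc_f_Cert_tree lc_f_rc_14_1 lc_f_rc_14_3 lc_f_rc_17_3 lc_f_Cert_tree lc_f_rc_5_3 lc_f_rc_20_1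 lc_f_rc_22_1 lc_f_rc_17_3 lc_f_Cert_tree lc_f_rc_20_1 lc_f_rc_21_1 lc_f_rc_20_1 lc_f_rc_14_3 lc_f_rc_20_1 lc_f_rc_20_1 lc_f_rc_17_1 lc_f_rc_14_3 lc_f_Cert_tree lc_f_rc_17_3 lc_f_rc_20_1 lc_f_rc_17_3 lc_f_rc_22_1 lc_f_rc_10_3 lc_f_rc_14_3 lc_f_rc_10_3 lc_f_rc_17_3 lc_f_rc_20_1 lc_f_rc_17_3 lc_f_rc_20_1 lc_f_rc_10_3 lc_f_rc_14_1 lc_f_rc_21_1 lc_f_Cert_tree lc_f_rc_14_3 lc_f_rc_20_1 lc_f_rc_20_1 lc_f_rc_21_1 lc_f_rc_20_1 lc_f_rc_21_1 lc_f_rc_5_1 lc_f_rc_14_1 lc_f_rc_19_3 lc_f_rc_17_3 lc_f_rc_20_1 lc_f_rc_10_3 lc_f_rc_22_1 lc_f_rc_17_3) (@D3.rec (fun _ => (Cert rels S Gen.f)) lc_f_rc_5_1 lc_f_rc_14_1 lc_f_rc_19_3 lc_f_rc_17_3 lc_f_rc_14_3 lc_f_rc_21_1 lc_f_rc_5_1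 lc_f_rc_14_3 lc_f_Cert_tree lc_f_rc_17_3 lc_f_rc_14_3 lc_f_rc_21_1 lc_f_rc_17_3 lc_f_rc_17_3 lc_f_rc_5_3 lc_f_rc_20_1 lc_f_rc_10_3 lc_f_rc_17_1 lc_f_rc_20_1 lc_f_rc_5_3 lc_f_rc_20_1 lc_f_rc_20_1 lc_f_rc_20_1 lc_f_rc_20_1 lc_f_rc_14_3 lc_f_rc_5_3 lc_f_rc_14_1 lc_f_Cert_tree lc_f_rc_20_1 lc_f_rc_14_3 lc_f_rc_17_3 lc_f_rc_20_1 lc_f_Cert_tree lc_f_rc_20_1 lc_f_rc_21_1 lc_f_Cert_tree lc_f_rc_17_1 lc_f_Cert_tree lc_f_rc_20_1 lc_f_rc_5_3 lc_f_Cert_tree lc_f_rc_20_1 lc_f_rc_20_1 lc_f_rc_17_1 lc_f_rc_20_1 lc_f_rc_14_1 lc_f_Cert_tree lc_f_rc_14_3 lc_f_Cert_tree lc_f_rc_20_1 lc_f_rc_14_1 lc_f_rc_5_3 lc_f_rc_20_1 lc_f_rc_20_1 lc_f_Cert_tree lc_f_rc_14_3 lc_f_rc_20_1 lc_f_rc_14_3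 lc_f_rc_14_3 lc_f_rc_20_1 lc_f_rc_21_1 lc_f_rc_20_1) (@D3.rec (fun _ => (Cert rels S Gen.f)) lc_f_rc_20_1 lc_f_rc_5_3 lc_f_rc_21_1 lc_f_Cert_tree lc_f_rc_5_1 lc_f_rc_21_1 lc_f_rc_10_3 lc_f_rc_17_3 lc_f_Cert_tree lc_f_rc_10_3 lc_f_rc_10_3 lc_f_rc_20_1 lc_f_rc_21_1 lc_f_Cert_tree lc_f_rc_20_1 lc_f_rc_14_1 lc_f_rc_17_1 lc_f_rc_20_1 lc_f_rc_10_1 lc_f_rc_5_3 lc_f_rc_14_1 lc_f_Cert_tree lc_f_rc_21_1 lc_f_rc_17_3 lc_f_rc_21_1 lc_f_rc_14_3 lc_f_rc_21_1 lc_f_rc_20_1 lc_f_rc_22_1 lc_f_rc_20_1 lc_f_rc_17_3 lc_f_rc_5_3 lc_f_Cert_tree lc_f_rc_20_1 lc_f_rc_14_3 lc_f_rc_14_1 lc_f_rc_22_1 lc_f_rc_20_1 lc_f_rc_19_1 lc_f_rc_14_1 lc_f_rc_5_3 lc_f_Cert_tree lc_f_rc_19_1 lc_f_rc_10_1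 lc_f_rc_14_1 lc_f_Cert_tree lc_f_rc_20_1 lc_f_rc_21_1 lc_f_rc_20_1 lc_f_rc_20_1 lc_f_rc_5_1 lc_f_rc_21_1 lc_f_Cert_tree lc_f_rc_14_3 lc_f_Cert_tree lc_f_rc_10_3 lc_f_rc_17_3 lc_f_rc_10_3 lc_f_rc_14_3 lc_f_rc_17_3 lc_f_rc_20_1 lc_f_rc_10_3) (@D3.rec (fun _ => (Cert rels S Gen.f)) lc_f_rc_17_3 lc_f_rc_17_3 lc_f_rc_21_1 lc_f_Cert_tree lc_f_rc_20_1 lc_f_rc_20_1 lc_f_Cert_tree lc_f_rc_5_3 lc_f_rc_22_1 lc_f_rc_10_3 lc_f_Cert_tree lc_f_rc_19_5 lc_f_rc_20_1 lc_f_rc_5_3 lc_f_rc_19_5 lc_f_rc_20_1 lc_f_rc_5_1 lc_f_rc_10_3 lc_f_rc_20_1 lc_f_Cert_tree lc_f_rc_17_1 lc_f_rc_14_3 lc_f_rc_17_3 lc_f_rc_17_3 lc_f_rc_17_3 lc_f_rc_21_1 lc_f_rc_20_1 lc_f_rc_10_3 lc_f_rc_17_3 lc_f_Cert_tree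 lc_f_rc_21_1 lc_f_rc_20_1 lc_f_rc_20_1 lc_f_rc_10_3 lc_f_rc_17_3 lc_f_rc_10_3 lc_f_rc_17_3 lc_f_Cert_tree lc_f_rc_10_3 lc_f_rc_17_3 lc_f_rc_5_3 lc_f_rc_17_3 lc_f_rc_5_1 lc_f_rc_17_3 lc_f_rc_10_3 lc_f_rc_14_3 lc_f_Cert_tree lc_f_rc_14_3 lc_f_rc_21_1 lc_f_rc_17_1 lc_f_rc_20_1 lc_f_rc_14_3 lc_f_rc_21_1 lc_f_rc_21_1 lc_f_rc_21_1 lc_f_rc_20_1 lc_f_rc_21_1 lc_f_Cert_tree lc_f_rc_20_1 lc_f_rc_19_5 lc_f_rc_5_3 lc_f_rc_10_3) (@D3.rec (fun _ => (Cert rels S Gen.f)) lc_f_Cert_tree lc_f_rc_14_1 lc_f_rc_14_3 lc_f_rc_5_1 lc_f_rc_20_1 lc_f_rc_20_1 lc_f_rc_14_3 lc_f_rc_19_5 lc_f_rc_14_3 lc_f_rc_21_1 lc_f_rc_19_3 lc_f_Cert_tree lc_f_rc_20_1 lc_f_rc_10_3 lc_f_rc_10_3 lc_f_rc_14_3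 lc_f_Cert_tree lc_f_rc_21_1 lc_f_rc_17_3 lc_f_rc_20_1 lc_f_rc_17_3 lc_f_rc_5_1 lc_f_rc_14_3 lc_f_rc_17_3 lc_f_Cert_tree lc_f_rc_14_3 lc_f_rc_14_3 lc_f_Cert_tree lc_f_rc_14_3 lc_f_rc_20_1 lc_f_Cert_tree lc_f_rc_20_1 lc_f_rc_14_3 lc_f_rc_19_5 lc_f_rc_19_3 lc_f_rc_17_3 lc_f_rc_20_1 lc_f_rc_17_3 lc_f_rc_20_1 lc_f_rc_10_3 lc_f_rc_5_1 lc_f_rc_10_3 lc_f_rc_10_3 lc_f_Cert_tree lc_f_Cert_tree lc_f_rc_20_1 lc_f_rc_20_1 lc_f_rc_14_3 lc_f_rc_17_3 lc_f_rc_17_3 lc_f_rc_14_3 lc_f_rc_14_3 lc_f_rc_10_3 lc_f_Cert_tree lc_f_rc_17_3 lc_f_Cert_tree lc_f_rc_20_1 lc_f_rc_20_1 lc_f_rc_21_1 lc_f_rc_5_3 lc_f_rc_17_3 lc_f_rc_10_1) (@D3.rec (fun _ => (Cert rels S Gen.f)) lc_f_rc_17_3 lc_f_rc_20_1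 lc_f_rc_5_3 lc_f_rc_20_1 lc_f_rc_14_3 lc_f_Cert_tree lc_f_Cert_tree lc_f_Cert_tree lc_f_rc_20_1 lc_f_rc_20_1 lc_f_rc_14_1 lc_f_rc_20_1 lc_f_Cert_tree lc_f_rc_22_1 lc_f_rc_17_3 lc_f_rc_17_3 lc_f_rc_10_3 lc_f_Cert_tree lc_f_rc_19_3 lc_f_rc_10_3 lc_f_Cert_tree lc_f_rc_10_3 lc_f_Cert_tree lc_f_rc_20_1 lc_f_rc_21_1 lc_f_rc_20_1 lc_f_rc_14_3 lc_f_rc_5_1 lc_f_rc_17_3 lc_f_rc_17_3 lc_f_rc_14_3 lc_f_rc_19_3 lc_f_rc_10_1 lc_f_rc_14_1 lc_f_rc_21_1 lc_f_rc_17_3 lc_f_rc_19_5 lc_f_rc_14_3 lc_f_rc_5_3 lc_f_rc_19_5 lc_f_rc_10_3 lc_f_rc_22_1 lc_f_Cert_tree lc_f_rc_20_1 lc_f_rc_14_3 lc_f_rc_21_1 lc_f_rc_14_3 lc_f_rc_17_3 lc_f_rc_10_3 lc_f_rc_14_3 lc_f_Cert_tree lc_f_rc_21_1 lc_f_rc_10_3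 lc_f_rc_20_1 lc_f_rc_20_1 lc_f_rc_20_1 lc_f_rc_20_1 lc_f_rc_21_1 lc_f_rc_14_3 lc_f_rc_10_3 lc_f_Cert_tree lc_f_rc_10_3) (@D3.rec (fun _ => (Cert rels S Gen.f)) lc_f_rc_5_1 lc_f_rc_21_1 lc_f_rc_14_3 lc_f_rc_5_3 lc_f_rc_10_3 lc_f_rc_17_3 lc_f_rc_5_3 lc_f_rc_5_1 lc_f_Cert_tree lc_f_rc_14_3 lc_f_rc_14_3 lc_f_rc_10_3 lc_f_rc_20_1 lc_f_rc_10_3 lc_f_rc_14_3 lc_f_rc_21_1 lc_f_rc_21_1 lc_f_rc_19_5 lc_f_rc_10_3 lc_f_rc_19_3 lc_f_rc_20_1 lc_f_rc_5_1 lc_f_rc_21_1 lc_f_rc_20_1 lc_f_rc_14_3 lc_f_Cert_tree lc_f_rc_14_3 lc_f_rc_14_3 lc_f_rc_20_1 lc_f_rc_20_1 lc_f_rc_5_1 lc_f_rc_17_3 lc_f_rc_5_3 lc_f_rc_10_3 lc_f_rc_21_1 lc_f_Cert_tree lc_f_rc_20_1 lc_f_rc_20_1 lc_f_Cert_tree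 lc_f_rc_5_3 lc_f_rc_17_3 lc_f_rc_20_1 lc_f_rc_14_3 lc_f_Cert_tree lc_f_rc_19_3 lc_f_rc_17_3 lc_f_rc_20_1 lc_f_rc_20_1 lc_f_rc_14_3 lc_f_rc_10_3 lc_f_rc_10_3 lc_f_rc_14_3 lc_f_rc_14_3 lc_f_rc_17_3 lc_f_rc_10_3 lc_f_rc_17_3 lc_f_Cert_tree lc_f_rc_5_1 lc_f_rc_20_1 lc_f_rc_10_3 lc_f_rc_14_3 lc_f_Cert_tree) (@D3.rec (fun _ => (Cert rels S Gen.f)) lc_f_rc_5_1 lc_f_rc_14_3 lc_f_rc_14_3 lc_f_rc_17_3 lc_f_Cert_tree lc_f_Cert_tree lc_f_rc_14_3 lc_f_Cert_tree lc_f_rc_20_1 lc_f_rc_21_1 lc_f_rc_21_1 lc_f_rc_10_3 lc_f_rc_19_3 lc_f_rc_10_3 lc_f_rc_17_3 lc_f_rc_14_3 lc_f_rc_10_3 lc_f_rc_5_1 lc_f_rc_10_3 lc_f_rc_21_1 lc_f_Cert_tree lc_f_rc_5_1 lc_f_rc_20_1 lc_f_rc_17_3 lc_f_rc_10_1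 lc_f_rc_5_3 lc_f_rc_20_1 lc_f_rc_20_1 lc_f_rc_10_3 lc_f_rc_17_3 lc_f_rc_10_3 lc_f_rc_10_3 lc_f_rc_10_3 lc_f_rc_22_1 lc_f_Cert_tree lc_f_rc_19_5 lc_f_rc_19_5 lc_f_rc_20_1 lc_f_rc_10_3 lc_f_rc_14_1 lc_f_rc_21_1 lc_f_rc_14_3 lc_f_rc_5_3 lc_f_rc_20_1 lc_f_Cert_tree lc_f_Cert_tree lc_f_rc_19_3 lc_f_rc_19_5 lc_f_Cert_tree lc_f_rc_20_1 lc_f_rc_17_3 lc_f_rc_14_3 lc_f_rc_19_5 lc_f_rc_19_3 lc_f_rc_19_3 lc_f_rc_19_5 lc_f_rc_17_3 lc_f_rc_14_3 lc_f_rc_17_3 lc_f_rc_20_1 lc_f_rc_21_1 lc_f_rc_17_3) (@D3.rec (fun _ => (Cert rels S Gen.f)) lc_f_Cert_tree lc_f_rc_10_1 lc_f_rc_21_1 lc_f_rc_21_1 lc_f_rc_20_1 lc_f_rc_17_1 lc_f_rc_20_1 lc_f_rc_17_3 lc_f_rc_10_3 lc_f_rc_5_1 lc_f_Cert_tree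 lc_f_rc_20_1 lc_f_rc_19_3 lc_f_rc_19_3 lc_f_rc_19_5 lc_f_rc_17_3 lc_f_rc_19_3 lc_f_rc_10_3 lc_f_rc_17_3 lc_f_rc_14_3 lc_f_rc_14_3 lc_f_rc_10_3 lc_f_rc_21_1 lc_f_rc_5_3 lc_f_rc_10_3 lc_f_rc_17_3 lc_f_Cert_tree lc_f_rc_14_3 lc_f_rc_21_1 lc_f_rc_10_3 lc_f_rc_20_1 lc_f_rc_17_3 lc_f_rc_14_3 lc_f_rc_17_3 lc_f_rc_21_1 lc_f_rc_21_1 lc_f_rc_14_3 lc_f_rc_10_3 lc_f_rc_5_3 lc_f_rc_17_3 lc_f_rc_17_3 lc_f_rc_17_3 lc_f_rc_19_3 lc_f_rc_17_3 lc_f_rc_17_1 lc_f_rc_20_1 lc_f_rc_10_3 lc_f_rc_10_3 lc_f_rc_14_3 lc_f_rc_21_1 lc_f_rc_10_3 lc_f_rc_21_1 lc_f_rc_14_3 lc_f_rc_10_3 lc_f_rc_17_3 lc_f_rc_5_3 lc_f_rc_5_1 lc_f_rc_5_1 lc_f_rc_5_3 lc_f_rc_10_3 lc_f_rc_20_1 lc_f_rc_10_1) (@D3.rec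 (fun _ => (Cert rels S Gen.f)) lc_f_rc_17_3 lc_f_Cert_tree lc_f_rc_14_1 lc_f_rc_21_1 lc_f_rc_19_3 lc_f_Cert_tree lc_f_rc_20_1 lc_f_rc_17_3 lc_f_rc_21_1 lc_f_rc_20_1 lc_f_rc_17_3 lc_f_rc_14_3 lc_f_rc_5_1 lc_f_rc_14_1 lc_f_rc_19_3 lc_f_rc_5_3 lc_f_rc_19_3 lc_f_rc_20_1 lc_f_rc_21_1 lc_f_rc_22_1 lc_f_rc_14_1 lc_f_rc_10_1 lc_f_rc_14_3 lc_f_rc_10_3 lc_f_rc_20_1 lc_f_rc_14_1 lc_f_rc_19_3 lc_f_rc_10_3 lc_f_rc_14_3 lc_f_rc_17_3 lc_f_rc_20_1 lc_f_rc_21_1 lc_f_rc_5_1 lc_f_rc_5_3 lc_f_rc_17_1 lc_f_Cert_tree lc_f_rc_20_1 lc_f_rc_14_3 lc_f_rc_21_1 lc_f_Cert_tree lc_f_Cert_tree lc_f_Cert_tree lc_f_rc_20_1 lc_f_rc_19_5 lc_f_rc_14_1 lc_f_rc_14_1 lc_f_rc_20_1 lc_f_rc_5_3 lc_f_Cert_tree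 lc_f_rc_20_1 lc_f_rc_17_3 lc_f_rc_20_1 lc_f_rc_20_1 lc_f_rc_14_1 lc_f_rc_17_3 lc_f_Cert_tree lc_f_rc_10_1 lc_f_rc_17_3 lc_f_Cert_tree lc_f_rc_14_3 lc_f_Cert_tree lc_f_rc_19_5) (@D3.rec (fun _ => (Cert rels S Gen.f)) lc_f_rc_21_1 lc_f_rc_20_1 lc_f_rc_22_1 lc_f_rc_19_1 lc_f_rc_20_1 lc_f_rc_5_1 lc_f_Cert_tree lc_f_rc_21_1 lc_f_rc_14_3 lc_f_Cert_tree lc_f_rc_10_1 lc_f_rc_21_1 lc_f_rc_10_3 lc_f_Cert_tree lc_f_rc_21_1 lc_f_rc_20_1 lc_f_rc_17_3 lc_f_rc_14_3 lc_f_rc_17_3 lc_f_rc_14_3 lc_f_rc_14_3 lc_f_Cert_tree lc_f_Cert_tree lc_f_rc_5_1 lc_f_rc_20_1 lc_f_rc_10_1 lc_f_rc_14_3 lc_f_rc_21_1 lc_f_Cert_tree lc_f_rc_20_1 lc_f_rc_20_1 lc_f_rc_20_1 lc_f_Cert_tree lc_f_rc_14_3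 lc_f_rc_17_3 lc_f_Cert_tree lc_f_rc_10_3 lc_f_rc_14_3 lc_f_rc_10_3 lc_f_rc_10_3 lc_f_rc_10_3 lc_f_rc_17_1 lc_f_Cert_tree lc_f_rc_10_3 lc_f_rc_17_3 lc_f_rc_20_1 lc_f_rc_17_3 lc_f_rc_20_1 lc_f_rc_10_3 lc_f_rc_17_3 lc_f_rc_10_3 lc_f_rc_17_3 lc_f_rc_17_3 lc_f_rc_5_1 lc_f_rc_10_3 lc_f_rc_14_3 lc_f_rc_17_3 lc_f_Cert_tree lc_f_Cert_tree lc_f_rc_14_3 lc_f_rc_14_3 lc_f_Cert_tree) (@D3.rec (fun _ => (Cert rels S Gen.f)) lc_f_rc_20_1 lc_f_rc_17_3 lc_f_rc_14_3 lc_f_rc_21_1 lc_f_rc_19_5 lc_f_rc_21_1 lc_f_rc_19_3 lc_f_rc_20_1 lc_f_rc_17_3 lc_f_rc_17_3 lc_f_rc_17_3 lc_f_rc_14_3 lc_f_rc_22_1 lc_f_rc_10_3 lc_f_rc_5_1 lc_f_rc_19_3 lc_f_Cert_tree lc_f_rc_10_1 lc_f_rc_14_3 lc_f_rc_17_1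 lc_f_rc_20_1 lc_f_rc_21_1 lc_f_rc_19_5 lc_f_rc_10_1 lc_f_rc_5_3 lc_f_rc_14_3 lc_f_rc_14_3 lc_f_rc_20_1 lc_f_rc_20_1 lc_f_rc_20_1 lc_f_Cert_tree lc_f_rc_10_3 lc_f_Cert_tree lc_f_rc_21_1 lc_f_rc_14_3 lc_f_rc_14_3 lc_f_rc_17_3 lc_f_rc_10_3 lc_f_rc_5_1 lc_f_Cert_tree lc_f_rc_20_1 lc_f_rc_10_3 lc_f_rc_14_1 lc_f_rc_17_1 lc_f_rc_10_3 lc_f_rc_19_3 lc_f_rc_21_1 lc_f_rc_10_3 lc_f_rc_20_1 lc_f_rc_17_3 lc_f_rc_10_1 lc_f_rc_21_1 lc_f_rc_17_3 lc_f_rc_10_3 lc_f_rc_14_3 lc_f_Cert_tree lc_f_rc_5_1 lc_f_Cert_tree lc_f_rc_20_1 lc_f_rc_20_1 lc_f_rc_20_1 lc_f_rc_20_1) (@D3.rec (fun _ => (Cert rels S Gen.f)) lc_f_rc_5_1 lc_f_rc_17_3 lc_f_rc_19_3 lc_f_rc_20_1 lc_f_rc_10_3 lc_f_Cert_tree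 lc_f_rc_10_3 lc_f_rc_17_3 lc_f_rc_10_1 lc_f_Cert_tree lc_f_rc_14_3 lc_f_rc_21_1 lc_f_rc_10_3 lc_f_rc_14_3 lc_f_rc_21_1 lc_f_rc_14_3 lc_f_Cert_tree lc_f_rc_17_3 lc_f_Cert_tree lc_f_rc_10_3 lc_f_Cert_tree lc_f_rc_14_3 lc_f_rc_21_1 lc_f_rc_20_1 lc_f_rc_20_1 lc_f_rc_10_3 lc_f_rc_17_3 lc_f_rc_10_3 lc_f_rc_17_3 lc_f_Cert_tree lc_f_rc_17_3 lc_f_rc_20_1 lc_f_rc_17_3 lc_f_rc_21_1 lc_f_rc_14_3 lc_f_rc_10_3 lc_f_rc_14_3 lc_f_Cert_tree lc_f_rc_5_1 lc_f_rc_14_3 lc_f_rc_14_3 lc_f_rc_22_1 lc_f_rc_14_3 lc_f_rc_17_3 lc_f_rc_14_3 lc_f_rc_20_1 lc_f_rc_20_1 lc_f_rc_5_1 lc_f_rc_14_3 lc_f_rc_14_3 lc_f_rc_10_3 lc_f_rc_17_3 lc_f_rc_10_3 lc_f_rc_21_1 lc_f_rc_19_1 lc_f_Cert_tree lc_f_rc_14_3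 lc_f_Cert_tree lc_f_rc_14_3 lc_f_rc_17_3 lc_f_rc_14_3 lc_f_rc_20_1) (@D3.rec (fun _ => (Cert rels S Gen.f)) lc_f_rc_17_1 lc_f_rc_21_1 lc_f_rc_5_1 lc_f_rc_14_3 lc_f_rc_21_1 lc_f_rc_10_3 lc_f_rc_19_3 lc_f_rc_17_1 lc_f_rc_20_1 lc_f_rc_5_1 lc_f_rc_5_1 lc_f_rc_14_3 lc_f_rc_17_3 lc_f_Cert_tree lc_f_rc_21_1 lc_f_rc_20_1 lc_f_rc_20_1 lc_f_rc_17_3 lc_f_Cert_tree lc_f_rc_10_3 lc_f_rc_17_3 lc_f_rc_20_1 lc_f_rc_21_1 lc_f_rc_20_1 lc_f_rc_10_3 lc_f_rc_20_1 lc_f_rc_17_3 lc_f_rc_22_1 lc_f_rc_10_3 lc_f_rc_17_3 lc_f_rc_14_3 lc_f_Cert_tree lc_f_rc_10_1 lc_f_rc_17_3 lc_f_Cert_tree lc_f_rc_21_1 lc_f_rc_17_1 lc_f_Cert_tree lc_f_rc_20_1 lc_f_rc_10_3 lc_f_rc_14_1 lc_f_rc_14_1 lc_f_rc_17_3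 lc_f_Cert_tree lc_f_rc_5_3 lc_f_rc_17_3 lc_f_rc_5_3 lc_f_rc_20_1 lc_f_rc_10_3 lc_f_rc_20_1 lc_f_rc_20_1 lc_f_rc_21_1 lc_f_rc_17_1 lc_f_rc_20_1 lc_f_rc_17_3 lc_f_rc_19_3 lc_f_rc_17_3 lc_f_rc_5_1 lc_f_rc_17_3 lc_f_rc_14_3 lc_f_Cert_tree lc_f_rc_5_1) (@D3.rec (fun _ => (Cert rels S Gen.f)) lc_f_rc_14_3 lc_f_rc_19_1 lc_f_rc_10_3 lc_f_rc_14_3 lc_f_rc_21_1 lc_f_rc_20_1 lc_f_rc_17_3 lc_f_rc_19_3 lc_f_rc_10_3 lc_f_rc_21_1 lc_f_rc_20_1 lc_f_rc_10_3 lc_f_rc_10_3 lc_f_rc_22_1 lc_f_rc_20_1 lc_f_Cert_tree lc_f_rc_10_3 lc_f_Cert_tree lc_f_rc_14_1 lc_f_rc_10_3 lc_f_rc_10_3 lc_f_rc_20_1 lc_f_rc_20_1 lc_f_rc_5_1 lc_f_rc_10_3 lc_f_rc_14_3 lc_f_Cert_tree lc_f_rc_20_1 lc_f_rc_20_1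 lc_f_rc_20_1 lc_f_rc_21_1 lc_f_rc_14_3 lc_f_rc_14_1 lc_f_rc_21_1 lc_f_rc_14_3 lc_f_Cert_tree lc_f_rc_17_3 lc_f_rc_14_1 lc_f_rc_10_3 lc_f_rc_20_1 lc_f_rc_20_1 lc_f_rc_21_1 lc_f_rc_20_1 lc_f_rc_19_1 lc_f_rc_10_3 lc_f_rc_14_3 lc_f_rc_5_1 lc_f_rc_14_3 lc_f_Cert_tree lc_f_rc_21_1 lc_f_rc_20_1 lc_f_rc_17_1 lc_f_rc_5_3 lc_f_rc_19_3 lc_f_rc_10_3 lc_f_rc_21_1 lc_f_Cert_tree lc_f_rc_14_3 lc_f_rc_14_3 lc_f_rc_5_3 lc_f_rc_10_1 lc_f_rc_20_1) (@D3.rec (fun _ => (Cert rels S Gen.f)) lc_f_rc_5_1 lc_f_rc_20_1 lc_f_rc_21_1 lc_f_rc_5_1 lc_f_rc_17_3 lc_f_rc_5_3 lc_f_rc_20_1 lc_f_rc_19_3 lc_f_rc_10_3 lc_f_rc_10_3 lc_f_rc_10_3 lc_f_rc_17_1 lc_f_rc_5_1 lc_f_rc_14_3 lc_f_rc_5_3 lc_f_rc_17_3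 lc_f_rc_14_1 lc_f_rc_10_3 lc_f_rc_5_1 lc_f_Cert_tree lc_f_rc_17_3 lc_f_rc_17_3 lc_f_rc_5_1 lc_f_rc_14_3 lc_f_rc_5_3 lc_f_rc_17_3 lc_f_rc_17_3 lc_f_rc_20_1 lc_f_rc_14_3 lc_f_Cert_tree lc_f_rc_10_3 lc_f_rc_21_1 lc_f_rc_10_3 lc_f_rc_17_3 lc_f_rc_14_3 lc_f_rc_10_3 lc_f_rc_14_3 lc_f_Cert_tree lc_f_rc_19_5 lc_f_rc_20_1 lc_f_rc_10_3 lc_f_rc_17_3 lc_f_Cert_tree lc_f_Cert_tree lc_f_rc_21_1 lc_f_rc_5_1 lc_f_rc_10_3 lc_f_rc_20_1 lc_f_rc_14_1 lc_f_Cert_tree lc_f_rc_19_3 lc_f_rc_20_1 lc_f_rc_10_3 lc_f_rc_17_3 lc_f_rc_21_1 lc_f_rc_20_1 lc_f_rc_20_1 lc_f_rc_20_1 lc_f_rc_10_3 lc_f_Cert_tree lc_f_rc_17_3 lc_f_rc_21_1) (@D3.rec (fun _ => (Cert rels S Gen.f)) lc_f_rc_20_1 lc_f_rc_20_1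 lc_f_rc_19_5 lc_f_rc_5_1 lc_f_rc_20_1 lc_f_rc_10_3 lc_f_rc_10_3 lc_f_rc_5_1 lc_f_rc_5_1 lc_f_rc_17_3 lc_f_rc_5_3 lc_f_rc_17_3 lc_f_rc_5_3 lc_f_rc_14_3 lc_f_rc_21_1 lc_f_rc_20_1 lc_f_rc_17_3 lc_f_rc_17_1 lc_f_rc_10_3 lc_f_rc_17_3 lc_f_rc_20_1 lc_f_rc_10_3 lc_f_rc_20_1 lc_f_rc_10_1 lc_f_rc_10_3 lc_f_rc_14_1 lc_f_rc_19_5 lc_f_Cert_tree lc_f_rc_20_1 lc_f_rc_14_3 lc_f_rc_20_1 lc_f_rc_14_3 lc_f_rc_5_3 lc_f_rc_10_3 lc_f_Cert_tree lc_f_rc_19_3 lc_f_rc_21_1 lc_f_rc_14_3 lc_f_rc_19_1 lc_f_rc_20_1 lc_f_rc_14_3 lc_f_rc_10_3 lc_f_Cert_tree lc_f_rc_20_1 lc_f_rc_14_3 lc_f_rc_20_1 lc_f_rc_17_3 lc_f_rc_10_3 lc_f_rc_14_3 lc_f_rc_14_3 lc_f_rc_10_3 lc_f_rc_10_3 lc_f_rc_5_3 lc_f_rc_10_1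 lc_f_Cert_tree lc_f_rc_22_1 lc_f_Cert_tree lc_f_rc_21_1 lc_f_rc_14_3 lc_f_Cert_tree lc_f_rc_20_1 lc_f_rc_14_3) (@D3.rec (fun _ => (Cert rels S Gen.f)) lc_f_rc_19_3 lc_f_rc_14_3 lc_f_rc_21_1 lc_f_rc_10_3 lc_f_rc_21_1 lc_f_rc_5_1 lc_f_rc_17_3 lc_f_rc_21_1 lc_f_rc_20_1 lc_f_rc_14_1 lc_f_rc_14_3 lc_f_rc_14_3 lc_f_rc_10_3 lc_f_Cert_tree lc_f_Cert_tree lc_f_rc_14_3 lc_f_rc_21_1 lc_f_Cert_tree lc_f_rc_20_1 lc_f_rc_14_3 lc_f_rc_10_3 lc_f_rc_21_1 lc_f_rc_17_3 lc_f_rc_14_3 lc_f_rc_5_3 lc_f_rc_17_3 lc_f_Cert_tree lc_f_rc_22_1 lc_f_Cert_tree lc_f_Cert_tree lc_f_rc_20_1 lc_f_rc_10_3 lc_f_rc_14_3 lc_f_rc_10_1 lc_f_rc_10_3 lc_f_Cert_tree lc_f_Cert_tree lc_f_Cert_tree lc_f_rc_20_1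 lc_f_rc_5_3 lc_f_rc_10_1 lc_f_Cert_tree lc_f_Cert_tree lc_f_rc_20_1 lc_f_rc_14_3 lc_f_rc_17_3 lc_f_rc_20_1 lc_f_rc_17_1 lc_f_rc_22_1 lc_f_Cert_tree lc_f_Cert_tree lc_f_rc_20_1 lc_f_rc_19_3 lc_f_rc_10_3 lc_f_rc_10_1 lc_f_rc_19_3 lc_f_rc_10_3 lc_f_rc_19_3 lc_f_rc_19_5 lc_f_rc_19_5 lc_f_rc_20_1 lc_f_rc_14_3) (@D3.rec (fun _ => (Cert rels S Gen.f)) lc_f_rc_14_3 lc_f_rc_21_1 lc_f_rc_17_3 lc_f_rc_5_1 lc_f_rc_5_1 lc_f_rc_5_1 lc_f_rc_21_1 lc_f_rc_14_3 lc_f_rc_17_3 lc_f_rc_10_3 lc_f_rc_14_1 lc_f_rc_21_1 lc_f_rc_20_1 lc_f_rc_14_3 lc_f_rc_20_1 lc_f_rc_19_3 lc_f_rc_14_3 lc_f_rc_17_3 lc_f_rc_21_1 lc_f_rc_21_1 lc_f_rc_5_1 lc_f_rc_14_3 lc_f_rc_19_3 lc_f_rc_19_3 lc_f_rc_20_1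 lc_f_rc_20_1 lc_f_Cert_tree lc_f_rc_14_3 lc_f_rc_14_3 lc_f_rc_17_1 lc_f_rc_20_1 lc_f_rc_17_3 lc_f_rc_14_3 lc_f_rc_10_3 lc_f_rc_5_1 lc_f_rc_19_3 lc_f_rc_14_3 lc_f_rc_17_1 lc_f_rc_10_1 lc_f_rc_17_3 lc_f_Cert_tree lc_f_rc_20_1 lc_f_rc_14_1 lc_f_rc_14_3 lc_f_Cert_tree lc_f_Cert_tree lc_f_rc_20_1 lc_f_rc_5_1 lc_f_rc_20_1 lc_f_rc_22_1 lc_f_Cert_tree lc_f_rc_20_1 lc_f_rc_17_1 lc_f_rc_17_3 lc_f_rc_17_3 lc_f_rc_17_1 lc_f_rc_21_1 lc_f_rc_21_1 lc_f_rc_17_3 lc_f_Cert_tree lc_f_rc_19_5 lc_f_rc_21_1) (@D3.rec (fun _ => (Cert rels S Gen.f)) lc_f_rc_17_1 lc_f_rc_20_1 lc_f_rc_5_1 lc_f_rc_19_3 lc_f_rc_21_1 lc_f_rc_5_1 lc_f_Cert_tree lc_f_rc_10_3 lc_f_rc_5_1 lc_f_rc_14_3 lc_f_rc_10_3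 lc_f_rc_19_3 lc_f_rc_17_3 lc_f_rc_10_3 lc_f_rc_17_1 lc_f_rc_10_3 lc_f_rc_17_3 lc_f_Cert_tree lc_f_rc_20_1 lc_f_Cert_tree lc_f_rc_14_3 lc_f_rc_17_3 lc_f_rc_14_1 lc_f_rc_17_3 lc_f_rc_21_1 lc_f_Cert_tree lc_f_rc_17_3 lc_f_rc_14_3 lc_f_rc_20_1 lc_f_rc_10_3 lc_f_rc_10_3 lc_f_rc_5_3 lc_f_rc_20_1 lc_f_rc_17_3 lc_f_rc_17_3 lc_f_Cert_tree lc_f_Cert_tree lc_f_rc_10_3 lc_f_rc_14_3 lc_f_rc_20_1 lc_f_rc_10_3 lc_f_rc_14_3 lc_f_rc_10_3 lc_f_rc_17_3 lc_f_rc_17_3 lc_f_rc_10_3 lc_f_rc_5_1 lc_f_rc_19_5 lc_f_rc_20_1 lc_f_rc_14_3 lc_f_rc_17_3 lc_f_rc_19_3 lc_f_Cert_tree lc_f_rc_21_1 lc_f_rc_5_1 lc_f_Cert_tree lc_f_rc_20_1 lc_f_rc_21_1 lc_f_rc_17_3 lc_f_Cert_tree lc_f_rc_20_1 lc_f_rc_19_3)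 (@D3.rec (fun _ => (Cert rels S Gen.f)) lc_f_rc_20_1 lc_f_rc_14_1 lc_f_Cert_tree lc_f_Cert_tree lc_f_rc_14_3 lc_f_Cert_tree lc_f_rc_19_3 lc_f_rc_21_1 lc_f_rc_20_1 lc_f_Cert_tree lc_f_rc_19_3 lc_f_rc_20_1 lc_f_rc_19_5 lc_f_rc_17_1 lc_f_rc_20_1 lc_f_rc_19_3 lc_f_rc_19_5 lc_f_rc_20_1 lc_f_Cert_tree lc_f_rc_10_3 lc_f_rc_5_1 lc_f_rc_20_1 lc_f_Cert_tree lc_f_rc_21_1 lc_f_rc_5_1 lc_f_rc_17_1 lc_f_rc_20_1 lc_f_rc_10_3 lc_f_rc_14_3 lc_f_rc_17_3 lc_f_rc_21_1 lc_f_rc_14_1 lc_f_rc_17_1 lc_f_Cert_tree lc_f_rc_10_3 lc_f_rc_20_1 lc_f_rc_20_1 lc_f_rc_20_1 lc_f_rc_20_1 lc_f_Cert_tree lc_f_rc_10_3 lc_f_rc_21_1 lc_f_rc_14_3 lc_f_rc_5_1 lc_f_rc_14_3 lc_f_rc_5_3 lc_f_rc_17_3 lc_f_Cert_tree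 lc_f_rc_5_3 lc_f_rc_14_3 lc_f_rc_21_1 lc_f_rc_21_1 lc_f_rc_20_1 lc_f_rc_14_3 lc_f_rc_10_3 lc_f_rc_14_3 lc_f_rc_20_1 lc_f_rc_10_3 lc_f_Cert_tree lc_f_rc_20_1 lc_f_rc_5_1 lc_f_rc_14_3) (@D3.rec (fun _ => (Cert rels S Gen.f)) lc_f_rc_5_3 lc_f_rc_10_3 lc_f_Cert_tree lc_f_rc_17_3 lc_f_rc_14_3 lc_f_rc_14_1 lc_f_rc_22_1 lc_f_rc_20_1 lc_f_rc_5_3 lc_f_rc_19_3 lc_f_rc_19_3 lc_f_rc_20_1 lc_f_rc_10_3 lc_f_rc_10_3 lc_f_rc_14_1 lc_f_rc_5_1 lc_f_rc_14_3 lc_f_rc_19_5 lc_f_rc_19_5 lc_f_rc_5_3 lc_f_rc_14_3 lc_f_rc_5_1 lc_f_rc_17_3 lc_f_rc_21_1 lc_f_rc_17_3 lc_f_rc_19_5 lc_f_rc_14_3 lc_f_rc_17_3 lc_f_rc_17_3 lc_f_rc_21_1 lc_f_rc_20_1 lc_f_rc_5_1 lc_f_rc_20_1 lc_f_rc_5_3 lc_f_rc_10_3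 lc_f_Cert_tree lc_f_rc_19_3 lc_f_rc_5_3 lc_f_rc_14_3 lc_f_rc_22_1 lc_f_rc_20_1 lc_f_rc_17_3 lc_f_rc_17_3 lc_f_rc_17_3 lc_f_rc_5_1 lc_f_rc_10_3 lc_f_rc_14_3 lc_f_rc_17_3 lc_f_rc_17_3 lc_f_rc_22_1 lc_f_rc_17_3 lc_f_rc_17_3 lc_f_rc_10_3 lc_f_rc_5_3 lc_f_Cert_tree lc_f_Cert_tree lc_f_rc_17_3 lc_f_rc_20_1 lc_f_rc_10_3 lc_f_rc_5_1 lc_f_rc_19_3 lc_f_rc_17_3) (@D3.rec (fun _ => (Cert rels S Gen.f)) lc_f_rc_17_3 lc_f_rc_17_3 lc_f_Cert_tree lc_f_Cert_tree lc_f_rc_20_1 lc_f_rc_19_3 lc_f_rc_10_3 lc_f_rc_17_3 lc_f_rc_17_3 lc_f_rc_21_1 lc_f_rc_5_1 lc_f_rc_5_3 lc_f_rc_21_1 lc_f_rc_5_1 lc_f_rc_20_1 lc_f_rc_19_1 lc_f_rc_21_1 lc_f_rc_14_3 lc_f_rc_17_3 lc_f_rc_21_1 lc_f_rc_5_1 lc_f_rc_21_1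 lc_f_rc_20_1 lc_f_rc_20_1 lc_f_rc_10_3 lc_f_rc_14_3 lc_f_rc_14_3 lc_f_Cert_tree lc_f_rc_20_1 lc_f_rc_21_1 lc_f_Cert_tree lc_f_rc_20_1 lc_f_rc_21_1 lc_f_rc_14_3 lc_f_rc_21_1 lc_f_rc_10_3 lc_f_rc_20_1 lc_f_rc_14_3 lc_f_rc_19_3 lc_f_rc_19_3 lc_f_rc_10_3 lc_f_rc_20_1 lc_f_rc_19_3 lc_f_rc_17_3 lc_f_rc_17_3 lc_f_rc_14_3 lc_f_rc_21_1 lc_f_Cert_tree lc_f_rc_20_1 lc_f_rc_10_3 lc_f_rc_21_1 lc_f_rc_21_1 lc_f_rc_19_3 lc_f_rc_10_3 lc_f_rc_14_3 lc_f_rc_17_3 lc_f_rc_20_1 lc_f_rc_17_3 lc_f_Cert_tree lc_f_rc_21_1 lc_f_rc_20_1 lc_f_rc_17_3) (@D3.rec (fun _ => (Cert rels S Gen.f)) lc_f_rc_10_3 lc_f_rc_5_3 lc_f_rc_20_1 lc_f_rc_5_1 lc_f_rc_10_3 lc_f_rc_14_3 lc_f_rc_20_1 lc_f_rc_5_3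 lc_f_Cert_tree lc_f_rc_20_1 lc_f_rc_14_3 lc_f_rc_14_3 lc_f_rc_20_1 lc_f_rc_21_1 lc_f_rc_17_3 lc_f_Cert_tree lc_f_rc_10_1 lc_f_rc_17_3 lc_f_rc_19_3 lc_f_rc_14_1 lc_f_Cert_tree lc_f_rc_21_1 lc_f_rc_21_1 lc_f_rc_20_1 lc_f_rc_22_1 lc_f_rc_19_3 lc_f_rc_22_1 lc_f_rc_5_1 lc_f_Cert_tree lc_f_rc_17_3 lc_f_rc_14_3 lc_f_Cert_tree lc_f_rc_20_1 lc_f_rc_20_1 lc_f_rc_10_3 lc_f_rc_19_3 lc_f_rc_10_1 lc_f_rc_17_1 lc_f_rc_20_1 lc_f_rc_17_3 lc_f_rc_17_1 lc_f_rc_5_3 lc_f_rc_17_3 lc_f_Cert_tree lc_f_rc_10_3 lc_f_rc_17_3 lc_f_Cert_tree lc_f_rc_14_3 lc_f_rc_17_3 lc_f_rc_19_1 lc_f_rc_19_5 lc_f_rc_10_3 lc_f_rc_5_1 lc_f_rc_17_3 lc_f_rc_17_3 lc_f_rc_20_1 lc_f_rc_14_3 lc_f_rc_20_1 lc_f_rc_20_1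 lc_f_rc_21_1 lc_f_rc_20_1 lc_f_rc_20_1) (@D3.rec (fun _ => (Cert rels S Gen.f)) lc_f_rc_21_1 lc_f_rc_20_1 lc_f_rc_20_1 lc_f_rc_10_3 lc_f_Cert_tree lc_f_rc_17_3 lc_f_rc_20_1 lc_f_rc_20_1 lc_f_rc_20_1 lc_f_rc_10_3 lc_f_rc_10_1 lc_f_rc_5_1 lc_f_rc_5_3 lc_f_rc_21_1 lc_f_rc_14_3 lc_f_rc_14_3 lc_f_rc_10_3 lc_f_rc_10_3 lc_f_Cert_tree lc_f_Cert_tree lc_f_rc_14_3 lc_f_rc_21_1 lc_f_Cert_tree lc_f_rc_20_1 lc_f_rc_14_3 lc_f_rc_21_1 lc_f_rc_19_3 lc_f_rc_14_3 lc_f_rc_14_3 lc_f_rc_14_3 lc_f_rc_17_3 lc_f_Cert_tree lc_f_Cert_tree lc_f_rc_14_3 lc_f_rc_21_1 lc_f_Cert_tree lc_f_rc_20_1 lc_f_rc_5_1 lc_f_rc_21_1 lc_f_rc_14_3 lc_f_rc_14_3 lc_f_rc_21_1 lc_f_Cert_tree lc_f_rc_20_1 lc_f_rc_17_3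 lc_f_rc_17_3 lc_f_rc_10_1 lc_f_rc_17_3 lc_f_rc_17_3 lc_f_Cert_tree lc_f_Cert_tree lc_f_rc_20_1 lc_f_rc_10_3 lc_f_rc_10_3 lc_f_rc_14_1 lc_f_rc_17_3 lc_f_Cert_tree lc_f_Cert_tree lc_f_Cert_tree lc_f_rc_20_1 lc_f_rc_10_3 lc_f_Cert_tree) (@D3.rec (fun _ => (Cert rels S Gen.f)) lc_f_rc_17_3 lc_f_Cert_tree lc_f_rc_10_3 lc_f_Cert_tree lc_f_rc_17_1 lc_f_Cert_tree lc_f_rc_19_5 lc_f_rc_17_3 lc_f_rc_10_3 lc_f_rc_20_1 lc_f_rc_21_1 lc_f_rc_17_3 lc_f_rc_14_3 lc_f_rc_17_3 lc_f_rc_17_3 lc_f_rc_21_1 lc_f_rc_20_1 lc_f_rc_5_1 lc_f_rc_17_3 lc_f_rc_20_1 lc_f_rc_17_3 lc_f_rc_17_3 lc_f_rc_5_1 lc_f_rc_21_1 lc_f_Cert_tree lc_f_rc_14_3 lc_f_rc_14_3 lc_f_rc_10_3 lc_f_rc_17_3 lc_f_rc_10_1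 lc_f_rc_20_1 lc_f_rc_21_1 lc_f_Cert_tree lc_f_rc_20_1 lc_f_rc_14_3 lc_f_rc_5_1 lc_f_rc_10_3 lc_f_rc_20_1 lc_f_rc_20_1 lc_f_Cert_tree lc_f_rc_17_1 lc_f_rc_20_1 lc_f_rc_14_3 lc_f_rc_14_3 lc_f_rc_14_3 lc_f_rc_17_3 lc_f_Cert_tree lc_f_Cert_tree lc_f_rc_14_3 lc_f_rc_20_1 lc_f_Cert_tree lc_f_rc_20_1 lc_f_rc_5_1 lc_f_rc_19_5 lc_f_rc_14_3 lc_f_rc_10_3 lc_f_rc_10_3 lc_f_rc_14_1 lc_f_rc_17_3 lc_f_Cert_tree lc_f_Cert_tree lc_f_Cert_tree) (@D3.rec (fun _ => (Cert rels S Gen.f)) lc_f_rc_20_1 lc_f_rc_17_3 lc_f_rc_5_3 lc_f_rc_17_3 lc_f_rc_19_3 lc_f_Cert_tree lc_f_Cert_tree lc_f_rc_20_1 lc_f_rc_20_1 lc_f_Cert_tree lc_f_Cert_tree lc_f_rc_20_1 lc_f_Cert_tree lc_f_rc_20_1 lc_f_rc_10_1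 lc_f_rc_10_3 lc_f_rc_17_1 lc_f_Cert_tree lc_f_rc_5_3 lc_f_Cert_tree lc_f_rc_5_1 lc_f_rc_5_3 lc_f_Cert_tree lc_f_rc_19_3 lc_f_rc_21_1 lc_f_rc_20_1 lc_f_rc_19_1 lc_f_rc_14_3 lc_f_rc_17_3 lc_f_rc_21_1 lc_f_rc_10_3 lc_f_rc_5_3 lc_f_rc_10_3 lc_f_rc_17_3 lc_f_Cert_tree lc_f_rc_21_1 lc_f_rc_20_1 lc_f_rc_10_3 lc_f_rc_14_3 lc_f_Cert_tree lc_f_rc_10_3 lc_f_rc_17_3 lc_f_Cert_tree lc_f_Cert_tree lc_f_rc_21_1 lc_f_rc_5_1 lc_f_rc_10_1 lc_f_rc_20_1 lc_f_rc_14_3 lc_f_rc_14_3 lc_f_Cert_tree lc_f_rc_20_1 lc_f_rc_19_3 lc_f_rc_21_1 lc_f_rc_14_1 lc_f_rc_20_1 lc_f_rc_10_3 lc_f_rc_10_3 lc_f_Cert_tree lc_f_rc_14_3 lc_f_rc_20_1 lc_f_rc_17_3) (@D3.rec (fun _ => (Cert rels S Gen.f)) lc_f_rc_5_1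 lc_f_rc_20_1 lc_f_rc_20_1 lc_f_rc_21_1 lc_f_rc_14_3 lc_f_rc_14_3 lc_f_rc_21_1 lc_f_Cert_tree lc_f_rc_20_1 lc_f_rc_14_3 lc_f_rc_20_1 lc_f_rc_10_3 lc_f_rc_19_1 lc_f_rc_20_1 lc_f_rc_17_3 lc_f_rc_17_3 lc_f_rc_5_3 lc_f_rc_17_3 lc_f_rc_14_3 lc_f_Cert_tree lc_f_rc_5_1 lc_f_rc_14_3 lc_f_Cert_tree lc_f_rc_20_1 lc_f_rc_14_3 lc_f_rc_19_3 lc_f_rc_20_1 lc_f_rc_5_1 lc_f_rc_20_1 lc_f_rc_10_3 lc_f_rc_19_3 lc_f_rc_5_1 lc_f_rc_10_3 lc_f_rc_5_3 lc_f_rc_10_3 lc_f_rc_19_3 lc_f_rc_10_3 lc_f_rc_10_3 lc_f_rc_14_3 lc_f_rc_20_1 lc_f_rc_14_3 lc_f_rc_19_3 lc_f_rc_21_1 lc_f_rc_20_1 lc_f_rc_17_3 lc_f_rc_5_1 lc_f_rc_5_3 lc_f_rc_17_3 lc_f_rc_5_3 lc_f_Cert_tree lc_f_rc_14_3 lc_f_rc_21_1 lc_f_rc_20_1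 lc_f_rc_21_1 lc_f_rc_19_3 lc_f_rc_5_1 lc_f_rc_10_3 lc_f_rc_5_3 lc_f_rc_10_3 lc_f_rc_19_1 lc_f_rc_17_3 lc_f_rc_22_1) (@D3.rec (fun _ => (Cert rels S Gen.f)) lc_f_rc_14_3 lc_f_rc_17_3 lc_f_rc_17_1 lc_f_rc_17_3 lc_f_rc_5_3 lc_f_rc_20_1 lc_f_rc_21_1 lc_f_Cert_tree lc_f_rc_19_5 lc_f_rc_22_1 lc_f_rc_20_1 lc_f_rc_20_1 lc_f_rc_14_3 lc_f_rc_10_3 lc_f_rc_19_1 lc_f_rc_19_5 lc_f_rc_10_1 lc_f_rc_17_3 lc_f_rc_14_3 lc_f_rc_17_3 lc_f_Cert_tree lc_f_rc_19_5 lc_f_rc_20_1 lc_f_rc_21_1 lc_f_rc_14_3 lc_f_rc_5_1 lc_f_rc_14_3 lc_f_rc_20_1 lc_f_rc_21_1 lc_f_rc_21_1 lc_f_rc_21_1 lc_f_rc_19_3 lc_f_rc_10_3 lc_f_rc_17_3 lc_f_rc_22_1 lc_f_rc_20_1 lc_f_rc_21_1 lc_f_Cert_tree lc_f_rc_17_3 lc_f_rc_20_1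 lc_f_rc_5_3 lc_f_rc_10_3 lc_f_rc_17_3 lc_f_rc_17_3 lc_f_rc_10_3 lc_f_rc_17_3 lc_f_Cert_tree lc_f_rc_10_3 lc_f_rc_5_1 lc_f_rc_14_1 lc_f_rc_10_3 lc_f_rc_17_3 lc_f_rc_5_3 lc_f_Cert_tree lc_f_rc_10_3 lc_f_rc_17_3 lc_f_rc_14_3 lc_f_rc_21_1 lc_f_Cert_tree lc_f_rc_21_1 lc_f_rc_20_1 lc_f_rc_17_3) (@D3.rec (fun _ => (Cert rels S Gen.f)) lc_f_Cert_tree lc_f_rc_20_1 lc_f_rc_20_1 lc_f_rc_10_3 lc_f_rc_10_3 lc_f_rc_14_1 lc_f_rc_10_3 lc_f_Cert_tree lc_f_rc_10_3 lc_f_rc_10_3 lc_f_rc_19_5 lc_f_rc_17_3 lc_f_rc_20_1 lc_f_rc_14_1 lc_f_rc_14_3 lc_f_rc_17_3 lc_f_rc_5_1 lc_f_Cert_tree lc_f_rc_10_3 lc_f_rc_17_3 lc_f_rc_10_3 lc_f_rc_21_1 lc_f_rc_21_1 lc_f_rc_10_3 lc_f_rc_17_3 lc_f_rc_17_1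 lc_f_rc_17_1 lc_f_rc_10_3 lc_f_rc_5_3 lc_f_rc_17_1 lc_f_rc_21_1 lc_f_rc_21_1 lc_f_rc_14_1 lc_f_rc_14_3 lc_f_rc_21_1 lc_f_rc_21_1 lc_f_Cert_tree lc_f_rc_19_5 lc_f_rc_17_3 lc_f_rc_5_1 lc_f_rc_10_3 lc_f_Cert_tree lc_f_rc_20_1 lc_f_rc_21_1 lc_f_rc_20_1 lc_f_rc_14_3 lc_f_rc_14_3 lc_f_rc_10_3 lc_f_rc_10_3 lc_f_rc_5_1 lc_f_rc_5_3 lc_f_rc_17_3 lc_f_Cert_tree lc_f_rc_17_3 lc_f_rc_21_1 lc_f_Cert_tree lc_f_rc_21_1 lc_f_rc_20_1 lc_f_Cert_tree lc_f_rc_20_1 lc_f_rc_14_3 lc_f_rc_17_3) (@D3.rec (fun _ => (Cert rels S Gen.f)) lc_f_rc_21_1 lc_f_rc_21_1 lc_f_rc_5_1 lc_f_rc_14_3 lc_f_rc_5_3 lc_f_rc_17_3 lc_f_Cert_tree lc_f_Cert_tree lc_f_rc_19_3 lc_f_rc_14_3 lc_f_Cert_tree lc_f_rc_20_1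 lc_f_rc_21_1 lc_f_rc_19_3 lc_f_rc_14_3 lc_f_rc_5_1 lc_f_rc_10_1 lc_f_rc_5_3 lc_f_rc_17_3 lc_f_Cert_tree lc_f_rc_14_3 lc_f_Cert_tree lc_f_Cert_tree lc_f_rc_20_1 lc_f_rc_10_3 lc_f_rc_19_5 lc_f_rc_5_3 lc_f_rc_10_3 lc_f_Cert_tree lc_f_Cert_tree lc_f_Cert_tree lc_f_rc_20_1 lc_f_rc_5_3 lc_f_rc_20_1 lc_f_rc_5_3 lc_f_rc_17_3 lc_f_Cert_tree lc_f_Cert_tree lc_f_rc_20_1 lc_f_rc_20_1 lc_f_rc_20_1 lc_f_rc_17_3 lc_f_rc_14_3 lc_f_rc_17_1 lc_f_Cert_tree lc_f_rc_19_3 lc_f_rc_20_1 lc_f_rc_19_3 lc_f_rc_10_3 lc_f_rc_17_3 lc_f_rc_10_3 lc_f_Cert_tree lc_f_rc_10_3 lc_f_rc_19_3 lc_f_rc_20_1 lc_f_rc_21_1 lc_f_rc_20_1 lc_f_rc_14_3 lc_f_rc_17_3 lc_f_rc_17_3 lc_f_rc_21_1 lc_f_rc_20_1) (@D3.rec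 (fun _ => (Cert rels S Gen.f)) lc_f_rc_20_1 lc_f_rc_14_3 lc_f_rc_5_1 lc_f_rc_17_3 lc_f_rc_21_1 lc_f_rc_5_3 lc_f_rc_10_3 lc_f_rc_19_3 lc_f_rc_10_3 lc_f_rc_21_1 lc_f_rc_17_1 lc_f_rc_20_1 lc_f_rc_21_1 lc_f_rc_19_5 lc_f_rc_19_3 lc_f_rc_20_1 lc_f_rc_17_3 lc_f_rc_19_3 lc_f_rc_21_1 lc_f_rc_20_1 lc_f_Cert_tree lc_f_rc_20_1 lc_f_rc_10_3 lc_f_Cert_tree lc_f_rc_21_1 lc_f_rc_20_1 lc_f_rc_20_1 lc_f_rc_10_3 lc_f_Cert_tree lc_f_rc_21_1 lc_f_rc_20_1 lc_f_rc_20_1 lc_f_rc_21_1 lc_f_rc_5_3 lc_f_rc_14_3 lc_f_rc_17_1 lc_f_rc_20_1 lc_f_rc_21_1 lc_f_rc_14_3 lc_f_rc_20_1 lc_f_rc_20_1 lc_f_rc_19_5 lc_f_Cert_tree lc_f_rc_20_1 lc_f_rc_21_1 lc_f_rc_10_3 lc_f_rc_17_3 lc_f_rc_10_3 lc_f_rc_14_3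 lc_f_rc_10_1 lc_f_Cert_tree lc_f_rc_5_1 lc_f_rc_20_1 lc_f_Cert_tree lc_f_rc_20_1 lc_f_rc_21_1 lc_f_rc_21_1 lc_f_rc_14_3 lc_f_rc_20_1 lc_f_rc_5_1 lc_f_rc_14_3 lc_f_rc_17_1) (@D3.rec (fun _ => (Cert rels S Gen.f)) lc_f_rc_10_3 lc_f_Cert_tree lc_f_rc_20_1 lc_f_rc_20_1 lc_f_rc_22_1 lc_f_rc_21_1 lc_f_rc_14_3 lc_f_rc_14_3 lc_f_rc_17_1 lc_f_Cert_tree lc_f_rc_22_1 lc_f_Cert_tree lc_f_rc_20_1 lc_f_rc_10_3 lc_f_rc_20_1 lc_f_rc_5_3 lc_f_rc_17_3 lc_f_rc_19_1 lc_f_rc_5_1 lc_f_Cert_tree lc_f_rc_17_3 lc_f_rc_17_3 lc_f_rc_17_3 lc_f_rc_14_1 lc_f_Cert_tree lc_f_rc_17_3 lc_f_rc_14_3 lc_f_rc_14_1 lc_f_Cert_tree lc_f_rc_20_1 lc_f_rc_10_3 lc_f_rc_14_3 lc_f_rc_5_1 lc_f_Cert_tree lc_f_rc_17_3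 lc_f_rc_14_1 lc_f_Cert_tree lc_f_rc_20_1 lc_f_rc_10_3 lc_f_Cert_tree lc_f_rc_10_3 lc_f_rc_17_1 lc_f_rc_14_3 lc_f_rc_19_5 lc_f_Cert_tree lc_f_rc_20_1 lc_f_rc_10_3 lc_f_rc_17_3 lc_f_rc_10_3 lc_f_rc_21_1 lc_f_rc_21_1 lc_f_rc_19_3 lc_f_rc_17_3 lc_f_rc_5_1 lc_f_Cert_tree lc_f_rc_20_1 lc_f_rc_21_1 lc_f_rc_10_1 lc_f_rc_17_3 lc_f_rc_21_1 lc_f_rc_19_3 lc_f_rc_17_3) (@D3.rec (fun _ => (Cert rels S Gen.f)) lc_f_rc_17_3 lc_f_rc_21_1 lc_f_rc_20_1 lc_f_rc_14_3 lc_f_rc_14_3 lc_f_rc_5_1 lc_f_Cert_tree lc_f_Cert_tree lc_f_rc_20_1 lc_f_rc_17_3 lc_f_rc_10_3 lc_f_rc_20_1 lc_f_rc_14_3 lc_f_rc_17_3 lc_f_rc_17_3 lc_f_rc_5_3 lc_f_rc_17_1 lc_f_rc_17_1 lc_f_rc_10_3 lc_f_Cert_tree lc_f_rc_10_3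 lc_f_rc_20_1 lc_f_rc_10_3 lc_f_rc_10_3 lc_f_rc_5_1 lc_f_rc_20_1 lc_f_rc_17_3 lc_f_Cert_tree lc_f_Cert_tree lc_f_rc_21_1 lc_f_Cert_tree lc_f_rc_20_1 lc_f_rc_20_1 lc_f_rc_17_3 lc_f_rc_20_1 lc_f_rc_17_3 lc_f_rc_20_1 lc_f_rc_5_3 lc_f_rc_5_3 lc_f_rc_17_1 lc_f_rc_20_1 lc_f_rc_21_1 lc_f_rc_5_1 lc_f_rc_19_3 lc_f_rc_14_3 lc_f_rc_17_3 lc_f_rc_5_1 lc_f_rc_20_1 lc_f_rc_17_3 lc_f_rc_14_3 lc_f_rc_10_3 lc_f_rc_21_1 lc_f_rc_5_1 lc_f_rc_5_1 lc_f_rc_21_1 lc_f_rc_20_1 lc_f_rc_19_3 lc_f_rc_5_1 lc_f_rc_10_3 lc_f_rc_20_1 lc_f_Cert_tree lc_f_rc_17_3) (@D3.rec (fun _ => (Cert rels S Gen.f)) lc_f_rc_19_5 lc_f_Cert_tree lc_f_rc_20_1 lc_f_rc_10_1 lc_f_rc_21_1 lc_f_Cert_tree lc_f_rc_20_1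 lc_f_rc_10_1 lc_f_rc_17_3 lc_f_rc_17_3 lc_f_rc_17_3 lc_f_rc_10_3 lc_f_rc_5_1 lc_f_rc_5_1 lc_f_rc_20_1 lc_f_Cert_tree lc_f_rc_20_1 lc_f_rc_21_1 lc_f_rc_14_3 lc_f_rc_5_3 lc_f_rc_14_3 lc_f_rc_10_3 lc_f_rc_17_3 lc_f_rc_21_1 lc_f_rc_14_3 lc_f_rc_5_1 lc_f_rc_20_1 lc_f_Cert_tree lc_f_Cert_tree lc_f_rc_20_1 lc_f_rc_10_3 lc_f_rc_20_1 lc_f_rc_20_1 lc_f_rc_20_1 lc_f_rc_22_1 lc_f_rc_19_1 lc_f_rc_19_5 lc_f_rc_19_5 lc_f_rc_10_3 lc_f_rc_10_1 lc_f_rc_22_1 lc_f_rc_19_3 lc_f_rc_20_1 lc_f_rc_17_3 lc_f_rc_5_1 lc_f_rc_5_3 lc_f_rc_17_3 lc_f_Cert_tree lc_f_rc_19_3 lc_f_rc_14_3 lc_f_rc_14_3 lc_f_Cert_tree lc_f_rc_20_1 lc_f_rc_19_3 lc_f_rc_17_3 lc_f_rc_20_1 lc_f_Cert_tree lc_f_rc_10_3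 lc_f_rc_21_1 lc_f_rc_20_1 lc_f_rc_20_1 lc_f_rc_14_1) (@D3.rec (fun _ => (Cert rels S Gen.f)) lc_f_rc_21_1 lc_f_rc_10_3 lc_f_rc_14_3 lc_f_rc_5_3 lc_f_rc_10_3 lc_f_rc_14_3 lc_f_rc_19_3 lc_f_rc_19_5 lc_f_rc_22_1 lc_f_rc_17_3 lc_f_rc_19_3 lc_f_rc_14_3 lc_f_rc_14_3 lc_f_rc_14_1 lc_f_rc_19_3 lc_f_rc_17_3 lc_f_rc_14_1 lc_f_Cert_tree lc_f_rc_20_1 lc_f_rc_17_3 lc_f_Cert_tree lc_f_rc_17_3 lc_f_rc_22_1 lc_f_rc_10_3 lc_f_rc_19_5 lc_f_Cert_tree lc_f_rc_20_1 lc_f_rc_14_3 lc_f_rc_17_3 lc_f_rc_21_1 lc_f_rc_21_1 lc_f_rc_14_1 lc_f_rc_20_1 lc_f_rc_10_1 lc_f_rc_14_3 lc_f_rc_10_1 lc_f_rc_19_5 lc_f_rc_19_1 lc_f_rc_21_1 lc_f_rc_20_1 lc_f_rc_10_1 lc_f_rc_14_3 lc_f_rc_5_3 lc_f_rc_10_3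 lc_f_Cert_tree lc_f_rc_14_3 lc_f_rc_21_1 lc_f_rc_10_3 lc_f_rc_20_1 lc_f_rc_20_1 lc_f_rc_10_3 lc_f_rc_21_1 lc_f_rc_14_3 lc_f_rc_14_3 lc_f_rc_21_1 lc_f_rc_5_3 lc_f_rc_10_3 lc_f_rc_5_1 lc_f_rc_10_3 lc_f_rc_17_3 lc_f_rc_17_3 lc_f_rc_20_1) (@D3.rec (fun _ => (Cert rels S Gen.f)) lc_f_rc_10_3 lc_f_rc_20_1 lc_f_rc_17_1 lc_f_rc_5_1 lc_f_rc_10_3 lc_f_rc_17_1 lc_f_rc_10_3 lc_f_rc_17_1 lc_f_rc_19_3 lc_f_rc_20_1 lc_f_rc_17_3 lc_f_rc_14_3 lc_f_rc_21_1 lc_f_rc_20_1 lc_f_rc_19_3 lc_f_rc_19_5 lc_f_Cert_tree lc_f_Cert_tree lc_f_rc_20_1 lc_f_rc_17_3 lc_f_rc_17_3 lc_f_rc_14_3 lc_f_rc_17_3 lc_f_rc_19_3 lc_f_rc_17_3 lc_f_rc_22_1 lc_f_rc_14_3 lc_f_rc_17_3 lc_f_rc_19_5 lc_f_rc_10_3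 lc_f_rc_21_1 lc_f_rc_10_3 lc_f_rc_19_3 lc_f_rc_10_3 lc_f_rc_21_1 lc_f_rc_22_1 lc_f_rc_19_3 lc_f_rc_17_3 lc_f_rc_17_3 lc_f_Cert_tree lc_f_rc_20_1 lc_f_rc_19_3 lc_f_rc_17_3 lc_f_rc_22_1 lc_f_rc_14_3 lc_f_rc_20_1 lc_f_rc_14_3 lc_f_rc_5_3 lc_f_rc_14_3 lc_f_rc_17_3 lc_f_rc_17_3 lc_f_rc_17_1 lc_f_rc_10_1 lc_f_rc_5_3 lc_f_rc_20_1 lc_f_rc_14_3 lc_f_rc_10_3 lc_f_Cert_tree lc_f_rc_17_3 lc_f_rc_21_1 lc_f_rc_10_3 lc_f_rc_17_3) (@D3.rec (fun _ => (Cert rels S Gen.f)) lc_f_rc_10_3 lc_f_rc_20_1 lc_f_rc_20_1 lc_f_rc_21_1 lc_f_rc_20_1 lc_f_rc_20_1 lc_f_rc_21_1 lc_f_rc_19_5 lc_f_rc_20_1 lc_f_rc_17_3 lc_f_rc_19_3 lc_f_rc_10_3 lc_f_rc_17_3 lc_f_rc_20_1 lc_f_rc_14_1 lc_f_rc_20_1 lc_f_Cert_tree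 lc_f_Cert_tree lc_f_rc_20_1 lc_f_rc_20_1 lc_f_rc_21_1 lc_f_Cert_tree lc_f_Cert_tree lc_f_rc_20_1 lc_f_rc_10_3 lc_f_Cert_tree lc_f_rc_10_3 lc_f_rc_20_1 lc_f_rc_19_5 lc_f_Cert_tree lc_f_rc_20_1 lc_f_rc_14_3 lc_f_rc_5_3 lc_f_rc_5_1 lc_f_rc_17_3 lc_f_Cert_tree lc_f_rc_5_1 lc_f_rc_17_3 lc_f_rc_14_3 lc_f_Cert_tree lc_f_rc_21_1 lc_f_rc_21_1 lc_f_rc_20_1 lc_f_rc_5_1 lc_f_rc_17_3 lc_f_rc_14_3 lc_f_rc_17_3 lc_f_rc_17_1 lc_f_rc_14_3 lc_f_Cert_tree lc_f_rc_20_1 lc_f_rc_5_1 lc_f_rc_21_1 lc_f_rc_22_1 lc_f_rc_10_1 lc_f_Cert_tree lc_f_Cert_tree lc_f_rc_20_1 lc_f_rc_14_1 lc_f_rc_19_3 lc_f_rc_20_1 lc_f_rc_19_1) (@D3.rec (fun _ => (Cert rels S Gen.f)) lc_f_rc_17_3 lc_f_rc_14_3 lc_f_rc_17_3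 lc_f_rc_17_3 lc_f_rc_14_3 lc_f_Cert_tree lc_f_rc_21_1 lc_f_Cert_tree lc_f_rc_20_1 lc_f_rc_17_3 lc_f_rc_14_3 lc_f_Cert_tree lc_f_rc_17_3 lc_f_Cert_tree lc_f_rc_20_1 lc_f_rc_14_3 lc_f_rc_17_3 lc_f_rc_20_1 lc_f_rc_17_3 lc_f_rc_22_1 lc_f_rc_21_1 lc_f_rc_21_1 lc_f_rc_21_1 lc_f_rc_19_1 lc_f_rc_19_1 lc_f_rc_17_3 lc_f_rc_19_1 lc_f_rc_17_3 lc_f_rc_17_1 lc_f_rc_17_3 lc_f_rc_10_3 lc_f_rc_21_1 lc_f_rc_17_1 lc_f_rc_19_5 lc_f_rc_10_3 lc_f_rc_17_3 lc_f_rc_17_1 lc_f_rc_14_3 lc_f_Cert_tree lc_f_rc_14_3 lc_f_rc_14_1 lc_f_rc_14_3 lc_f_rc_10_3 lc_f_rc_17_3 lc_f_rc_10_3 lc_f_rc_22_1 lc_f_rc_14_3 lc_f_rc_21_1 lc_f_rc_14_3 lc_f_rc_14_3 lc_f_rc_20_1 lc_f_rc_20_1 lc_f_rc_19_3 lc_f_rc_14_1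 lc_f_rc_10_3 lc_f_rc_17_1 lc_f_rc_14_3 lc_f_rc_21_1 lc_f_rc_10_3 lc_f_rc_14_3 lc_f_rc_14_3 lc_f_rc_10_3) (@D3.rec (fun _ => (Cert rels S Gen.f)) lc_f_rc_14_1 lc_f_rc_5_3 lc_f_rc_17_3 lc_f_rc_14_3 lc_f_rc_17_1 lc_f_rc_14_3 lc_f_rc_21_1 lc_f_Cert_tree lc_f_rc_20_1 lc_f_rc_5_1 lc_f_rc_21_1 lc_f_rc_14_3 lc_f_rc_19_5 lc_f_rc_17_3 lc_f_rc_21_1 lc_f_rc_5_1 lc_f_rc_17_3 lc_f_rc_10_3 lc_f_rc_10_3 lc_f_rc_21_1 lc_f_rc_10_3 lc_f_rc_5_3 lc_f_rc_17_1 lc_f_rc_5_3 lc_f_rc_17_3 lc_f_rc_14_3 lc_f_rc_14_3 lc_f_rc_17_3 lc_f_rc_17_3 lc_f_rc_10_3 lc_f_rc_17_3 lc_f_rc_10_3 lc_f_rc_14_1 lc_f_rc_20_1 lc_f_rc_14_1 lc_f_rc_22_1 lc_f_rc_19_1 lc_f_rc_5_3 lc_f_rc_17_3 lc_f_rc_14_3 lc_f_rc_14_3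 lc_f_rc_22_1 lc_f_rc_20_1 lc_f_rc_14_3 lc_f_rc_17_1 lc_f_rc_14_3 lc_f_rc_14_3 lc_f_rc_14_3 lc_f_rc_14_3 lc_f_Cert_tree lc_f_rc_17_3 lc_f_rc_20_1 lc_f_rc_22_1 lc_f_rc_10_3 lc_f_rc_5_1 lc_f_rc_10_3 lc_f_rc_17_3 lc_f_rc_10_3 lc_f_rc_14_3 lc_f_rc_14_1 lc_f_rc_5_3 lc_f_rc_10_3) (@D3.rec (fun _ => (Cert rels S Gen.f)) lc_f_rc_19_3 lc_f_rc_5_3 lc_f_Cert_tree lc_f_rc_21_1 lc_f_rc_20_1 lc_f_Cert_tree lc_f_rc_20_1 lc_f_rc_5_1 lc_f_rc_5_1 lc_f_rc_21_1 lc_f_rc_14_3 lc_f_rc_19_5 lc_f_rc_14_3 lc_f_rc_19_3 lc_f_rc_20_1 lc_f_rc_20_1 lc_f_rc_14_3 lc_f_rc_19_3 lc_f_rc_17_3 lc_f_rc_17_3 lc_f_rc_19_5 lc_f_rc_19_5 lc_f_rc_10_3 lc_f_rc_17_1 lc_f_rc_14_3 lc_f_rc_19_5 lc_f_rc_14_3 lc_f_rc_17_3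 lc_f_rc_10_3 lc_f_rc_10_3 lc_f_rc_17_3 lc_f_rc_14_3 lc_f_rc_14_3 lc_f_rc_14_3 lc_f_rc_10_3 lc_f_rc_10_3 lc_f_rc_14_3 lc_f_rc_17_3 lc_f_rc_22_1 lc_f_rc_5_1 lc_f_rc_14_3 lc_f_rc_14_1 lc_f_rc_20_1 lc_f_rc_21_1 lc_f_rc_17_3 lc_f_rc_14_3 lc_f_rc_10_3 lc_f_rc_10_1 lc_f_rc_19_3 lc_f_rc_5_1 lc_f_rc_5_1 lc_f_rc_19_3 lc_f_rc_20_1 lc_f_rc_19_5 lc_f_rc_5_1 lc_f_rc_20_1 lc_f_rc_10_3 lc_f_rc_19_3 lc_f_rc_17_3 lc_f_rc_10_3 lc_f_rc_19_5 lc_f_rc_10_3) (@D3.rec (fun _ => (Cert rels S Gen.f)) lc_f_rc_21_1 lc_f_rc_17_3 lc_f_rc_17_1 lc_f_rc_14_3 lc_f_rc_19_3 lc_f_rc_5_3 lc_f_rc_20_1 lc_f_rc_17_1 lc_f_rc_17_3 lc_f_rc_17_1 lc_f_rc_19_3 lc_f_rc_14_3 lc_f_rc_10_3 lc_f_rc_10_3 lc_f_rc_17_3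 lc_f_rc_14_1 lc_f_rc_21_1 lc_f_rc_19_3 lc_f_rc_20_1 lc_f_rc_21_1 lc_f_rc_14_3 lc_f_Cert_tree lc_f_Cert_tree lc_f_Cert_tree lc_f_rc_20_1 lc_f_rc_10_1 lc_f_rc_14_3 lc_f_rc_17_1 lc_f_rc_5_3 lc_f_rc_20_1 lc_f_rc_22_1 lc_f_rc_10_1 lc_f_rc_17_3 lc_f_rc_22_1 lc_f_rc_19_5 lc_f_rc_5_3 lc_f_Cert_tree lc_f_rc_10_3 lc_f_rc_14_3 lc_f_rc_20_1 lc_f_rc_20_1 lc_f_rc_17_3 lc_f_Cert_tree lc_f_rc_17_1 lc_f_rc_20_1 lc_f_rc_20_1 lc_f_rc_17_3 lc_f_rc_17_3 lc_f_rc_17_3 lc_f_rc_20_1 lc_f_rc_14_1 lc_f_rc_10_3 lc_f_rc_21_1 lc_f_rc_14_3 lc_f_rc_17_3 lc_f_rc_5_1 lc_f_rc_14_3 lc_f_rc_10_3 lc_f_rc_20_1 lc_f_rc_20_1 lc_f_Cert_tree lc_f_rc_5_1) (@D3.rec (fun _ => (Cert rels S Gen.f)) lc_f_rc_20_1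 lc_f_rc_20_1 lc_f_rc_21_1 lc_f_rc_21_1 lc_f_rc_19_3 lc_f_rc_17_3 lc_f_rc_5_1 lc_f_rc_20_1 lc_f_rc_10_3 lc_f_rc_17_3 lc_f_rc_5_1 lc_f_rc_14_3 lc_f_rc_14_3 lc_f_rc_21_1 lc_f_rc_20_1 lc_f_rc_10_3 lc_f_rc_5_3 lc_f_rc_10_3 lc_f_rc_5_1 lc_f_rc_5_3 lc_f_rc_17_3 lc_f_Cert_tree lc_f_rc_20_1 lc_f_rc_5_1 lc_f_rc_14_3 lc_f_Cert_tree lc_f_rc_20_1 lc_f_rc_5_1 lc_f_rc_5_1 lc_f_rc_20_1 lc_f_rc_20_1 lc_f_rc_10_3 lc_f_rc_17_3 lc_f_Cert_tree lc_f_rc_19_3 lc_f_rc_20_1 lc_f_rc_5_1 lc_f_rc_14_3 lc_f_rc_5_3 lc_f_rc_17_3 lc_f_Cert_tree lc_f_Cert_tree lc_f_rc_21_1 lc_f_Cert_tree lc_f_rc_20_1 lc_f_rc_22_1 lc_f_rc_10_3 lc_f_rc_5_1 lc_f_rc_10_3 lc_f_rc_10_3 lc_f_Cert_tree lc_f_Cert_tree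 lc_f_Cert_tree lc_f_rc_20_1 lc_f_rc_14_3 lc_f_rc_14_3 lc_f_rc_5_3 lc_f_rc_17_3 lc_f_Cert_tree lc_f_Cert_tree lc_f_Cert_tree lc_f_rc_20_1) (@D3.rec (fun _ => (Cert rels S Gen.f)) lc_f_rc_17_3 lc_f_rc_14_3 lc_f_rc_10_3 lc_f_Cert_tree lc_f_rc_10_3 lc_f_rc_5_1 lc_f_Cert_tree lc_f_rc_20_1 lc_f_rc_10_3 lc_f_rc_20_1 lc_f_rc_5_1 lc_f_rc_20_1 lc_f_rc_22_1 lc_f_rc_14_3 lc_f_rc_10_3 lc_f_rc_17_1 lc_f_rc_17_3 lc_f_rc_21_1 lc_f_rc_20_1 lc_f_rc_10_3 lc_f_rc_17_3 lc_f_rc_10_3 lc_f_rc_17_1 lc_f_rc_14_3 lc_f_rc_14_3 lc_f_rc_5_1 lc_f_rc_10_1 lc_f_rc_17_3 lc_f_rc_5_1 lc_f_rc_5_1 lc_f_rc_21_1 lc_f_rc_19_3 lc_f_rc_10_3 lc_f_rc_5_1 lc_f_rc_19_3 lc_f_rc_14_3 lc_f_rc_14_3 lc_f_rc_5_1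 lc_f_rc_14_3 lc_f_rc_21_1 lc_f_rc_10_3 lc_f_rc_17_3 lc_f_rc_10_3 lc_f_rc_20_1 lc_f_rc_17_3 lc_f_rc_14_3 lc_f_rc_14_3 lc_f_rc_17_3 lc_f_Cert_tree lc_f_Cert_tree lc_f_rc_14_3 lc_f_rc_21_1 lc_f_Cert_tree lc_f_rc_20_1 lc_f_rc_21_1 lc_f_rc_14_3 lc_f_rc_20_1 lc_f_rc_19_3 lc_f_rc_5_1 lc_f_rc_5_1 lc_f_rc_17_3 lc_f_rc_10_3) (@D3.rec (fun _ => (Cert rels S Gen.f)) lc_f_rc_17_3 lc_f_rc_14_3 lc_f_rc_19_1 lc_f_rc_14_3 lc_f_rc_10_1 lc_f_rc_10_1 lc_f_rc_21_1 lc_f_rc_20_1 lc_f_rc_20_1 lc_f_rc_21_1 lc_f_Cert_tree lc_f_rc_20_1 lc_f_rc_10_3 lc_f_rc_10_3 lc_f_rc_20_1 lc_f_rc_17_1 lc_f_rc_20_1 lc_f_rc_14_3 lc_f_rc_10_3 lc_f_rc_5_3 lc_f_rc_20_1 lc_f_rc_20_1 lc_f_rc_20_1 lc_f_rc_20_1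 lc_f_rc_10_1 lc_f_rc_5_1 lc_f_rc_20_1 lc_f_rc_5_3 lc_f_rc_10_3 lc_f_rc_10_3 lc_f_rc_17_3 lc_f_rc_21_1 lc_f_rc_17_3 lc_f_rc_21_1 lc_f_rc_10_3 lc_f_rc_17_3 lc_f_rc_17_1 lc_f_rc_14_1 lc_f_rc_17_3 lc_f_rc_20_1 lc_f_rc_20_1 lc_f_rc_10_3 lc_f_rc_21_1 lc_f_rc_5_3 lc_f_rc_17_3 lc_f_Cert_tree lc_f_rc_5_1 lc_f_rc_14_3 lc_f_rc_17_3 lc_f_Cert_tree lc_f_rc_14_3 lc_f_Cert_tree lc_f_rc_17_1 lc_f_rc_17_1 lc_f_rc_10_1 lc_f_rc_20_1 lc_f_Cert_tree lc_f_Cert_tree lc_f_rc_20_1 lc_f_rc_20_1 lc_f_rc_21_1 lc_f_rc_14_1) (@D3.rec (fun _ => (Cert rels S Gen.f)) lc_f_rc_14_3 lc_f_rc_17_3 lc_f_rc_17_3 lc_f_rc_14_1 lc_f_rc_21_1 lc_f_rc_14_3 lc_f_rc_21_1 lc_f_rc_10_1 lc_f_rc_17_3 lc_f_rc_17_3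 lc_f_rc_17_3 lc_f_rc_14_1 lc_f_rc_20_1 lc_f_rc_20_1 lc_f_rc_17_3 lc_f_rc_17_3 lc_f_rc_20_1 lc_f_rc_14_3 lc_f_rc_10_3 lc_f_rc_5_1 lc_f_Cert_tree lc_f_rc_5_1 lc_f_Cert_tree lc_f_rc_17_3 lc_f_Cert_tree lc_f_rc_20_1 lc_f_rc_14_1 lc_f_rc_21_1 lc_f_rc_14_3 lc_f_rc_17_3 lc_f_Cert_tree lc_f_rc_10_3 lc_f_rc_17_3 lc_f_Cert_tree lc_f_rc_14_3 lc_f_rc_20_1 lc_f_rc_21_1 lc_f_Cert_tree lc_f_rc_20_1 lc_f_rc_14_3 lc_f_rc_17_1 lc_f_rc_14_3 lc_f_rc_17_1 lc_f_rc_17_3 lc_f_rc_14_3 lc_f_Cert_tree lc_f_rc_5_1 lc_f_rc_17_3 lc_f_rc_22_1 lc_f_rc_14_3 lc_f_rc_22_1 lc_f_rc_10_1 lc_f_rc_19_5 lc_f_rc_14_3 lc_f_rc_17_3 lc_f_rc_10_3 lc_f_rc_21_1 lc_f_rc_10_1 lc_f_rc_19_5 lc_f_rc_21_1 lc_f_rc_14_3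 lc_f_rc_17_3) (@D3.rec (fun _ => (Cert rels S Gen.f)) lc_f_rc_14_3 lc_f_rc_10_3 lc_f_rc_17_3 lc_f_rc_20_1 lc_f_rc_20_1 lc_f_rc_21_1 lc_f_rc_20_1 lc_f_rc_17_1 lc_f_rc_20_1 lc_f_rc_20_1 lc_f_rc_20_1 lc_f_rc_19_3 lc_f_Cert_tree lc_f_rc_21_1 lc_f_Cert_tree lc_f_rc_20_1 lc_f_rc_14_3 lc_f_rc_20_1 lc_f_rc_10_3 lc_f_rc_17_1 lc_f_rc_14_1 lc_f_rc_10_3 lc_f_rc_21_1 lc_f_rc_20_1 lc_f_rc_19_3 lc_f_rc_10_3 lc_f_rc_17_3 lc_f_rc_10_3 lc_f_rc_21_1 lc_f_rc_20_1 lc_f_rc_17_3 lc_f_rc_21_1 lc_f_rc_10_1 lc_f_Cert_tree lc_f_Cert_tree lc_f_rc_20_1 lc_f_rc_14_3 lc_f_rc_21_1 lc_f_rc_10_3 lc_f_rc_20_1 lc_f_rc_5_1 lc_f_rc_20_1 lc_f_rc_20_1 lc_f_rc_14_3 lc_f_rc_21_1 lc_f_rc_5_3 lc_f_rc_17_3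 lc_f_rc_10_3 lc_f_rc_14_3 lc_f_rc_21_1 lc_f_rc_10_3 lc_f_rc_21_1 lc_f_rc_5_3 lc_f_rc_10_3 lc_f_Cert_tree lc_f_rc_20_1 lc_f_rc_5_1 lc_f_rc_20_1 lc_f_rc_14_3 lc_f_rc_21_1 lc_f_rc_10_3 lc_f_rc_5_1) (@D3.rec (fun _ => (Cert rels S Gen.f)) lc_f_rc_14_3 lc_f_rc_17_3 lc_f_rc_10_3 lc_f_rc_14_3 lc_f_rc_22_1 lc_f_rc_17_3 lc_f_rc_17_3 lc_f_rc_10_3 lc_f_rc_17_3 lc_f_Cert_tree lc_f_rc_20_1 lc_f_rc_14_3 lc_f_rc_10_3 lc_f_rc_17_3 lc_f_rc_14_3 lc_f_rc_10_3 lc_f_rc_21_1 lc_f_Cert_tree lc_f_rc_10_1 lc_f_Cert_tree lc_f_rc_20_1 lc_f_rc_21_1 lc_f_rc_14_3 lc_f_Cert_tree lc_f_rc_14_3 lc_f_rc_20_1 lc_f_Cert_tree lc_f_rc_20_1 lc_f_rc_10_1 lc_f_Cert_tree lc_f_rc_14_3 lc_f_Cert_tree lc_f_rc_21_1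 lc_f_rc_19_1 lc_f_Cert_tree lc_f_rc_20_1 lc_f_rc_20_1 lc_f_rc_20_1 lc_f_rc_20_1 lc_f_rc_20_1 lc_f_rc_22_1 lc_f_rc_10_3 lc_f_rc_21_1 lc_f_rc_17_3 lc_f_Cert_tree lc_f_rc_20_1 lc_f_rc_14_3 lc_f_rc_10_3 lc_f_rc_21_1 lc_f_rc_14_3 lc_f_rc_14_3 lc_f_rc_17_3 lc_f_rc_21_1 lc_f_rc_21_1 lc_f_rc_17_3 lc_f_rc_14_3 lc_f_rc_19_3 lc_f_rc_21_1 lc_f_rc_20_1 lc_f_rc_10_1 lc_f_rc_20_1 lc_f_rc_20_1) (@D3.rec (fun _ => (Cert rels S Gen.f)) lc_f_rc_10_3 lc_f_rc_17_3 lc_f_rc_14_3 lc_f_rc_17_3 lc_f_rc_5_1 lc_f_rc_17_3 lc_f_Cert_tree lc_f_rc_21_1 lc_f_rc_20_1 lc_f_rc_10_3 lc_f_rc_10_3 lc_f_rc_10_3 lc_f_rc_5_1 lc_f_rc_10_3 lc_f_rc_17_3 lc_f_rc_22_1 lc_f_rc_21_1 lc_f_rc_22_1 lc_f_rc_19_5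 lc_f_rc_20_1 lc_f_rc_5_3 lc_f_rc_10_1 lc_f_rc_17_3 lc_f_Cert_tree lc_f_rc_14_1 lc_f_rc_10_3 lc_f_Cert_tree lc_f_rc_14_3 lc_f_rc_19_3 lc_f_rc_21_1 lc_f_Cert_tree lc_f_rc_20_1 lc_f_rc_5_1 lc_f_rc_19_3 lc_f_rc_21_1 lc_f_Cert_tree lc_f_rc_20_1 lc_f_rc_17_3 lc_f_rc_5_3 lc_f_Cert_tree lc_f_rc_17_3 lc_f_rc_14_3 lc_f_rc_14_1 lc_f_Cert_tree lc_f_rc_17_3 lc_f_rc_19_3 lc_f_rc_19_5 lc_f_rc_5_3 lc_f_rc_10_3 lc_f_rc_19_5 lc_f_rc_5_3 lc_f_rc_21_1 lc_f_rc_14_3 lc_f_rc_21_1 lc_f_rc_21_1 lc_f_rc_10_3 lc_f_rc_19_5 lc_f_rc_20_1 lc_f_rc_17_3 lc_f_rc_10_1 lc_f_rc_17_3 lc_f_rc_21_1) (@D3.rec (fun _ => (Cert rels S Gen.f)) lc_f_rc_21_1 lc_f_rc_10_3 lc_f_rc_17_3 lc_f_rc_17_1 lc_f_rc_14_3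 lc_f_rc_10_3 lc_f_rc_5_3 lc_f_rc_17_3 lc_f_rc_19_5 lc_f_rc_17_1 lc_f_rc_21_1 lc_f_rc_14_1 lc_f_rc_21_1 lc_f_rc_10_1 lc_f_rc_14_3 lc_f_Cert_tree lc_f_rc_5_3 lc_f_rc_17_3 lc_f_rc_14_1 lc_f_rc_20_1 lc_f_rc_14_3 lc_f_rc_21_1 lc_f_rc_10_3 lc_f_rc_10_3 lc_f_rc_10_3 lc_f_rc_21_1 lc_f_rc_14_3 lc_f_rc_20_1 lc_f_rc_20_1 lc_f_Cert_tree lc_f_rc_17_3 lc_f_rc_21_1 lc_f_rc_14_3 lc_f_rc_17_1 lc_f_rc_20_1 lc_f_rc_14_3 lc_f_rc_17_3 lc_f_rc_21_1 lc_f_rc_21_1 lc_f_rc_14_1 lc_f_rc_21_1 lc_f_rc_10_3 lc_f_rc_10_3 lc_f_rc_17_3 lc_f_rc_20_1 lc_f_rc_20_1 lc_f_rc_19_3 lc_f_rc_10_3 lc_f_rc_22_1 lc_f_Cert_tree lc_f_rc_14_3 lc_f_rc_5_1 lc_f_rc_22_1 lc_f_rc_21_1 lc_f_rc_17_3 lc_f_rc_17_3 lc_f_rc_17_1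 lc_f_rc_20_1 lc_f_rc_10_3 lc_f_Cert_tree lc_f_rc_17_3 lc_f_Cert_tree) (@D3.rec (fun _ => (Cert rels S Gen.f)) lc_f_rc_20_1 lc_f_rc_21_1 lc_f_rc_19_3 lc_f_rc_20_1 lc_f_rc_22_1 lc_f_rc_17_3 lc_f_rc_21_1 lc_f_rc_10_3 lc_f_rc_14_3 lc_f_Cert_tree lc_f_rc_19_5 lc_f_rc_20_1 lc_f_rc_5_1 lc_f_rc_5_1 lc_f_rc_14_3 lc_f_rc_10_3 lc_f_rc_17_1 lc_f_rc_14_3 lc_f_rc_17_3 lc_f_rc_5_3 lc_f_rc_14_3 lc_f_rc_17_3 lc_f_rc_20_1 lc_f_rc_10_3 lc_f_rc_17_3 lc_f_Cert_tree lc_f_rc_14_3 lc_f_rc_20_1 lc_f_rc_10_1 lc_f_rc_17_3 lc_f_rc_20_1 lc_f_rc_17_3 lc_f_rc_10_3 lc_f_rc_22_1 lc_f_rc_22_1 lc_f_rc_17_1 lc_f_rc_14_3 lc_f_rc_19_5 lc_f_rc_21_1 lc_f_rc_10_3 lc_f_rc_10_3 lc_f_rc_17_3 lc_f_rc_17_3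 lc_f_rc_17_3 lc_f_rc_21_1 lc_f_rc_20_1 lc_f_rc_22_1 lc_f_rc_20_1 lc_f_rc_19_3 lc_f_rc_21_1 lc_f_rc_10_3 lc_f_rc_17_3 lc_f_rc_14_3 lc_f_rc_17_1 lc_f_rc_17_3 lc_f_rc_20_1 lc_f_rc_20_1 lc_f_rc_10_3 lc_f_rc_17_3 lc_f_rc_5_3 lc_f_Cert_tree lc_f_rc_19_3) (@D3.rec (fun _ => (Cert rels S Gen.f)) lc_f_rc_17_3 lc_f_rc_14_3 lc_f_rc_20_1 lc_f_rc_17_3 lc_f_rc_21_1 lc_f_Cert_tree lc_f_rc_21_1 lc_f_rc_14_3 lc_f_Cert_tree lc_f_rc_5_1 lc_f_rc_17_3 lc_f_rc_10_3 lc_f_Cert_tree lc_f_rc_17_3 lc_f_rc_14_3 lc_f_rc_20_1 lc_f_rc_14_3 lc_f_rc_19_5 lc_f_rc_17_1 lc_f_rc_22_1 lc_f_rc_19_5 lc_f_rc_17_3 lc_f_rc_14_3 lc_f_rc_17_3 lc_f_rc_19_3 lc_f_rc_20_1 lc_f_Cert_tree lc_f_rc_20_1 lc_f_rc_10_3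 lc_f_rc_17_3 lc_f_rc_19_3 lc_f_rc_14_3 lc_f_rc_10_1 lc_f_rc_10_3 lc_f_rc_14_3 lc_f_rc_10_1 lc_f_rc_17_3 lc_f_rc_19_3 lc_f_rc_10_3 lc_f_rc_17_3 lc_f_rc_14_3 lc_f_rc_10_3 lc_f_rc_14_3 lc_f_rc_21_1 lc_f_rc_5_1 lc_f_rc_17_3 lc_f_rc_14_3 lc_f_rc_14_3 lc_f_rc_20_1 lc_f_rc_21_1 lc_f_rc_10_3 lc_f_rc_10_1 lc_f_rc_17_3 lc_f_rc_14_3 lc_f_Cert_tree lc_f_rc_10_3 lc_f_rc_5_1 lc_f_rc_5_3 lc_f_rc_17_3 lc_f_Cert_tree lc_f_Cert_tree lc_f_rc_14_3) (@D3.rec (fun _ => (Cert rels S Gen.f)) lc_f_rc_21_1 lc_f_Cert_tree lc_f_rc_20_1 lc_f_rc_14_3 lc_f_rc_21_1 lc_f_rc_10_3 lc_f_rc_5_1 lc_f_rc_5_3 lc_f_rc_17_1 lc_f_rc_17_1 lc_f_rc_10_1 lc_f_rc_10_3 lc_f_rc_17_3 lc_f_rc_14_3 lc_f_rc_10_3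 lc_f_rc_19_3 lc_f_rc_17_3 lc_f_rc_14_3 lc_f_rc_17_3 lc_f_rc_21_1 lc_f_rc_14_1 lc_f_rc_19_3 lc_f_rc_14_3 lc_f_rc_14_3 lc_f_Cert_tree lc_f_rc_20_1 lc_f_rc_17_3 lc_f_rc_10_3 lc_f_rc_14_3 lc_f_rc_17_1 lc_f_rc_17_3 lc_f_Cert_tree lc_f_rc_20_1 lc_f_rc_10_3 lc_f_rc_17_3 lc_f_rc_17_3 lc_f_rc_14_3 lc_f_rc_14_3 lc_f_rc_17_3 lc_f_rc_17_3 lc_f_rc_19_3 lc_f_rc_17_3 lc_f_rc_17_3 lc_f_Cert_tree lc_f_rc_20_1 lc_f_rc_21_1 lc_f_rc_10_3 lc_f_rc_17_3 lc_f_rc_14_3 lc_f_rc_10_3 lc_f_rc_17_3 lc_f_rc_20_1 lc_f_rc_20_1 lc_f_rc_10_3 lc_f_rc_20_1 lc_f_rc_14_3 lc_f_rc_5_1 lc_f_rc_10_3 lc_f_rc_17_3 lc_f_rc_19_3 lc_f_rc_17_3 lc_f_rc_19_3) (@D3.rec (fun _ => (Cert rels S Gen.f)) lc_f_rc_21_1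 lc_f_rc_17_3 lc_f_rc_14_3 lc_f_rc_21_1 lc_f_rc_21_1 lc_f_rc_21_1 lc_f_rc_21_1 lc_f_rc_5_3 lc_f_rc_5_3 lc_f_rc_17_3 lc_f_rc_14_3 lc_f_rc_14_3 lc_f_rc_5_1 lc_f_rc_17_3 lc_f_rc_14_3 lc_f_rc_21_1 lc_f_rc_17_3 lc_f_rc_21_1 lc_f_rc_10_3 lc_f_rc_19_5 lc_f_rc_17_1 lc_f_rc_10_3 lc_f_rc_14_3 lc_f_rc_21_1 lc_f_rc_22_1 lc_f_rc_17_3 lc_f_rc_22_1 lc_f_rc_17_3 lc_f_rc_17_3 lc_f_rc_10_3 lc_f_rc_10_3 lc_f_rc_17_3 lc_f_rc_21_1 lc_f_rc_17_1 lc_f_rc_19_3 lc_f_rc_14_3 lc_f_rc_20_1 lc_f_rc_21_1 lc_f_rc_5_1 lc_f_rc_19_3 lc_f_rc_5_1 lc_f_rc_17_1 lc_f_rc_5_1 lc_f_rc_19_5 lc_f_rc_5_1 lc_f_rc_17_3 lc_f_rc_14_3 lc_f_rc_17_3 lc_f_rc_20_1 lc_f_rc_5_3 lc_f_Cert_tree lc_f_rc_14_3 lc_f_rc_19_3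 lc_f_rc_21_1 lc_f_rc_19_5 lc_f_rc_20_1 lc_f_rc_21_1 lc_f_rc_17_3 lc_f_rc_19_3 lc_f_rc_14_1 lc_f_rc_10_3 lc_f_rc_17_3) (@D3.rec (fun _ => (Cert rels S Gen.f)) lc_f_rc_5_1 lc_f_rc_14_1 lc_f_Cert_tree lc_f_rc_20_1 lc_f_rc_14_3 lc_f_Cert_tree lc_f_rc_20_1 lc_f_rc_14_3 lc_f_rc_10_3 lc_f_rc_20_1 lc_f_rc_5_1 lc_f_rc_19_3 lc_f_rc_14_3 lc_f_rc_14_3 lc_f_rc_17_1 lc_f_Cert_tree lc_f_rc_14_1 lc_f_rc_10_3 lc_f_rc_20_1 lc_f_rc_5_3 lc_f_rc_14_3 lc_f_rc_14_3 lc_f_rc_5_3 lc_f_rc_17_3 lc_f_rc_10_3 lc_f_rc_10_3 lc_f_rc_14_1 lc_f_rc_20_1 lc_f_rc_14_3 lc_f_rc_17_1 lc_f_rc_20_1 lc_f_rc_10_3 lc_f_Cert_tree lc_f_rc_20_1 lc_f_rc_21_1 lc_f_Cert_tree lc_f_rc_20_1 lc_f_rc_10_3 lc_f_rc_22_1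 lc_f_rc_10_3 lc_f_rc_17_3 lc_f_rc_19_3 lc_f_rc_20_1 lc_f_rc_19_1 lc_f_rc_17_1 lc_f_rc_20_1 lc_f_rc_14_3 lc_f_rc_14_3 lc_f_rc_21_1 lc_f_rc_10_3 lc_f_rc_5_1 lc_f_rc_10_3 lc_f_rc_10_3 lc_f_rc_5_3 lc_f_rc_20_1 lc_f_rc_21_1 lc_f_rc_22_1 lc_f_rc_19_3 lc_f_rc_14_3 lc_f_rc_17_3 lc_f_rc_19_3 lc_f_rc_14_3) (@D3.rec (fun _ => (Cert rels S Gen.f)) lc_f_rc_14_3 lc_f_rc_21_1 lc_f_rc_5_1 lc_f_rc_20_1 lc_f_rc_17_1 lc_f_rc_14_3 lc_f_rc_5_1 lc_f_rc_19_3 lc_f_rc_14_3 lc_f_rc_14_3 lc_f_Cert_tree lc_f_rc_20_1 lc_f_rc_5_3 lc_f_rc_5_1 lc_f_Cert_tree lc_f_rc_5_1 lc_f_rc_14_3 lc_f_rc_20_1 lc_f_rc_14_1 lc_f_rc_14_3 lc_f_rc_5_1 lc_f_rc_14_3 lc_f_rc_21_1 lc_f_rc_14_3 lc_f_Cert_tree lc_f_rc_17_3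 lc_f_rc_14_3 lc_f_rc_22_1 lc_f_rc_17_3 lc_f_rc_20_1 lc_f_rc_20_1 lc_f_rc_10_3 lc_f_rc_21_1 lc_f_rc_20_1 lc_f_rc_14_3 lc_f_rc_20_1 lc_f_rc_17_3 lc_f_rc_20_1 lc_f_rc_20_1 lc_f_rc_14_3 lc_f_rc_5_1 lc_f_Cert_tree lc_f_rc_10_3 lc_f_rc_17_3 lc_f_Cert_tree lc_f_rc_21_1 lc_f_rc_20_1 lc_f_Cert_tree lc_f_rc_20_1 lc_f_rc_17_3 lc_f_rc_17_3 lc_f_Cert_tree lc_f_rc_20_1 lc_f_rc_17_3 lc_f_rc_10_1 lc_f_rc_17_3 lc_f_rc_17_3 lc_f_rc_21_1 lc_f_rc_21_1 lc_f_rc_5_1 lc_f_rc_10_1 lc_f_Cert_tree)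
def ce_f_11 : D2 → D3 → (Cert rels S Gen.f) := @D2.rec (fun _ => D3 → (Cert rels S Gen.f)) (@D3.rec (fun _ => (Cert rels S Gen.f)) lc_f_rc_20_1 lc_f_rc_17_3 lc_f_rc_21_1 lc_f_Cert_tree lc_f_Cert_tree lc_f_rc_20_1 lc_f_rc_20_1 lc_f_rc_21_1 lc_f_Cert_tree lc_f_rc_20_1 lc_f_rc_17_3 lc_f_rc_20_1 lc_f_Cert_tree lc_f_rc_14_3 lc_f_rc_5_1 lc_f_rc_10_1 lc_f_rc_17_1 lc_f_rc_19_3 lc_f_rc_20_1 lc_f_rc_22_1 lc_f_rc_20_1 lc_f_rc_17_3 lc_f_rc_5_3 lc_f_rc_14_1 lc_f_rc_20_1 lc_f_rc_14_1 lc_f_rc_20_1 lc_f_rc_17_3 lc_f_Cert_tree lc_f_rc_10_1 lc_f_rc_5_1 lc_f_Cert_tree lc_f_rc_19_5 lc_f_rc_10_1 lc_f_rc_17_1 lc_f_rc_17_3 lc_f_rc_5_3 lc_f_rc_20_1 lc_f_rc_10_1 lc_f_rc_19_3 lc_f_rc_20_1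 lc_f_rc_17_3 lc_f_rc_10_3 lc_f_rc_17_1 lc_f_rc_20_1 lc_f_rc_21_1 lc_f_rc_10_3 lc_f_rc_21_1 lc_f_rc_19_5 lc_f_rc_21_1 lc_f_rc_20_1 lc_f_rc_21_1 lc_f_rc_5_3 lc_f_rc_5_3 lc_f_Cert_tree lc_f_rc_21_1 lc_f_rc_20_1 lc_f_rc_20_1 lc_f_rc_20_1 lc_f_rc_20_1 lc_f_rc_20_1 lc_f_rc_20_1) (@D3.rec (fun _ => (Cert rels S Gen.f)) lc_f_rc_20_1 lc_f_rc_14_3 lc_f_rc_10_1 lc_f_rc_5_1 lc_f_rc_17_3 lc_f_rc_5_3 lc_f_rc_14_3 lc_f_rc_22_1 lc_f_rc_5_1 lc_f_rc_17_3 lc_f_rc_21_1 lc_f_rc_10_3 lc_f_Cert_tree lc_f_rc_14_3 lc_f_rc_21_1 lc_f_Cert_tree lc_f_rc_20_1 lc_f_rc_20_1 lc_f_rc_20_1 lc_f_rc_17_1 lc_f_Cert_tree lc_f_rc_14_3 lc_f_rc_21_1 lc_f_rc_21_1 lc_f_rc_14_3 lc_f_rc_14_3 lc_f_rc_17_3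 lc_f_rc_22_1 lc_f_rc_17_3 lc_f_rc_21_1 lc_f_rc_19_1 lc_f_rc_21_1 lc_f_rc_19_1 lc_f_rc_14_1 lc_f_rc_19_3 lc_f_rc_14_1 lc_f_rc_14_3 lc_f_rc_10_3 lc_f_rc_22_1 lc_f_rc_10_3 lc_f_rc_19_1 lc_f_rc_14_1 lc_f_rc_10_3 lc_f_rc_21_1 lc_f_rc_17_3 lc_f_rc_17_3 lc_f_rc_19_5 lc_f_rc_17_1 lc_f_rc_17_3 lc_f_rc_21_1 lc_f_rc_17_3 lc_f_rc_17_1 lc_f_rc_14_3 lc_f_rc_17_3 lc_f_rc_19_5 lc_f_rc_20_1 lc_f_rc_21_1 lc_f_rc_5_1 lc_f_rc_14_3 lc_f_rc_5_3 lc_f_rc_17_1 lc_f_rc_14_1) (@D3.rec (fun _ => (Cert rels S Gen.f)) lc_f_rc_19_5 lc_f_rc_10_3 lc_f_rc_17_1 lc_f_rc_19_5 lc_f_rc_21_1 lc_f_rc_17_3 lc_f_rc_10_3 lc_f_rc_17_1 lc_f_rc_10_3 lc_f_rc_21_1 lc_f_rc_17_3 lc_f_rc_20_1 lc_f_rc_10_3 lc_f_rc_22_1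 lc_f_rc_10_3 lc_f_rc_17_3 lc_f_rc_14_3 lc_f_rc_21_1 lc_f_rc_21_1 lc_f_rc_19_5 lc_f_rc_17_3 lc_f_rc_19_5 lc_f_rc_10_3 lc_f_rc_10_3 lc_f_rc_17_3 lc_f_rc_14_3 lc_f_rc_20_1 lc_f_rc_14_3 lc_f_rc_10_3 lc_f_rc_17_3 lc_f_rc_10_3 lc_f_rc_21_1 lc_f_rc_17_3 lc_f_rc_20_1 lc_f_rc_20_1 lc_f_rc_21_1 lc_f_rc_20_1 lc_f_rc_10_3 lc_f_rc_10_1 lc_f_rc_14_3 lc_f_rc_14_3 lc_f_rc_19_5 lc_f_rc_21_1 lc_f_rc_21_1 lc_f_rc_19_3 lc_f_rc_17_3 lc_f_rc_14_3 lc_f_rc_5_3 lc_f_rc_10_3 lc_f_rc_17_3 lc_f_rc_14_3 lc_f_rc_17_1 lc_f_rc_20_1 lc_f_rc_14_3 lc_f_rc_5_1 lc_f_rc_5_1 lc_f_rc_5_1 lc_f_rc_20_1 lc_f_rc_20_1 lc_f_rc_10_3 lc_f_rc_5_1 lc_f_rc_10_1) (@D3.rec (fun _ => (Cert rels S Gen.f)) lc_f_rc_17_3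 lc_f_Cert_tree lc_f_Cert_tree lc_f_rc_14_3 lc_f_rc_14_3 lc_f_Cert_tree lc_f_rc_20_1 lc_f_rc_5_1 lc_f_rc_5_1 lc_f_rc_20_1 lc_f_rc_20_1 lc_f_rc_10_3 lc_f_Cert_tree lc_f_rc_21_1 lc_f_rc_20_1 lc_f_rc_5_1 lc_f_rc_14_3 lc_f_rc_14_3 lc_f_rc_17_3 lc_f_Cert_tree lc_f_Cert_tree lc_f_rc_21_1 lc_f_Cert_tree lc_f_rc_20_1 lc_f_rc_20_1 lc_f_rc_10_3 lc_f_rc_5_1 lc_f_rc_10_1 lc_f_rc_10_3 lc_f_rc_10_3 lc_f_Cert_tree lc_f_Cert_tree lc_f_Cert_tree lc_f_rc_20_1 lc_f_rc_21_1 lc_f_rc_14_3 lc_f_rc_5_3 lc_f_rc_17_3 lc_f_rc_20_1 lc_f_Cert_tree lc_f_rc_20_1 lc_f_rc_21_1 lc_f_rc_17_3 lc_f_Cert_tree lc_f_rc_10_3 lc_f_rc_5_1 lc_f_Cert_tree lc_f_rc_17_3 lc_f_rc_14_3 lc_f_Cert_tree lc_f_rc_14_3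 lc_f_rc_17_3 lc_f_rc_17_3 lc_f_rc_17_3 lc_f_Cert_tree lc_f_rc_10_3 lc_f_rc_14_3 lc_f_rc_17_3 lc_f_rc_19_3 lc_f_rc_10_1 lc_f_rc_17_1 lc_f_rc_21_1) (@D3.rec (fun _ => (Cert rels S Gen.f)) lc_f_rc_20_1 lc_f_rc_17_3 lc_f_rc_20_1 lc_f_rc_10_3 lc_f_rc_21_1 lc_f_rc_19_1 lc_f_rc_20_1 lc_f_rc_21_1 lc_f_Cert_tree lc_f_rc_20_1 lc_f_rc_5_1 lc_f_rc_20_1 lc_f_rc_5_3 lc_f_rc_17_3 lc_f_rc_14_3 lc_f_rc_20_1 lc_f_rc_10_3 lc_f_rc_21_1 lc_f_rc_20_1 lc_f_rc_21_1 lc_f_rc_20_1 lc_f_rc_10_1 lc_f_rc_14_3 lc_f_rc_20_1 lc_f_rc_20_1 lc_f_rc_21_1 lc_f_rc_14_3 lc_f_rc_14_3 lc_f_Cert_tree lc_f_rc_20_1 lc_f_rc_21_1 lc_f_rc_10_3 lc_f_rc_14_3 lc_f_rc_21_1 lc_f_rc_21_1 lc_f_rc_17_3 lc_f_rc_14_3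 lc_f_rc_17_3 lc_f_rc_17_3 lc_f_rc_10_3 lc_f_rc_10_1 lc_f_rc_19_5 lc_f_rc_21_1 lc_f_rc_14_3 lc_f_rc_17_1 lc_f_rc_20_1 lc_f_rc_20_1 lc_f_rc_20_1 lc_f_rc_10_3 lc_f_rc_10_3 lc_f_rc_5_1 lc_f_rc_14_1 lc_f_rc_5_1 lc_f_rc_5_1 lc_f_rc_14_3 lc_f_rc_19_5 lc_f_rc_17_3 lc_f_rc_10_3 lc_f_rc_17_3 lc_f_rc_10_3 lc_f_rc_5_3 lc_f_rc_14_3) (@D3.rec (fun _ => (Cert rels S Gen.f)) lc_f_rc_10_3 lc_f_rc_17_3 lc_f_Cert_tree lc_f_rc_20_1 lc_f_rc_20_1 lc_f_rc_10_3 lc_f_rc_20_1 lc_f_rc_5_1 lc_f_rc_20_1 lc_f_rc_5_3 lc_f_rc_10_3 lc_f_Cert_tree lc_f_Cert_tree lc_f_rc_21_1 lc_f_rc_19_5 lc_f_Cert_tree lc_f_rc_20_1 lc_f_rc_21_1 lc_f_rc_10_3 lc_f_rc_14_3 lc_f_rc_17_3 lc_f_rc_21_1 lc_f_rc_10_3 lc_f_rc_17_3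 lc_f_rc_20_1 lc_f_Cert_tree lc_f_rc_19_5 lc_f_rc_21_1 lc_f_Cert_tree lc_f_rc_20_1 lc_f_rc_20_1 lc_f_rc_17_3 lc_f_rc_19_5 lc_f_rc_20_1 lc_f_rc_21_1 lc_f_rc_10_3 lc_f_rc_14_3 lc_f_Cert_tree lc_f_rc_10_3 lc_f_rc_10_3 lc_f_rc_14_3 lc_f_rc_17_3 lc_f_Cert_tree lc_f_rc_10_3 lc_f_Cert_tree lc_f_rc_17_1 lc_f_rc_21_1 lc_f_rc_20_1 lc_f_rc_10_1 lc_f_rc_17_3 lc_f_rc_5_1 lc_f_rc_17_3 lc_f_Cert_tree lc_f_rc_14_3 lc_f_rc_10_3 lc_f_rc_21_1 lc_f_rc_5_3 lc_f_rc_20_1 lc_f_rc_14_3 lc_f_rc_20_1 lc_f_rc_14_3 lc_f_rc_20_1) (@D3.rec (fun _ => (Cert rels S Gen.f)) lc_f_rc_21_1 lc_f_rc_17_3 lc_f_Cert_tree lc_f_rc_21_1 lc_f_rc_10_3 lc_f_rc_10_3 lc_f_rc_10_3 lc_f_rc_20_1 lc_f_rc_17_3 lc_f_rc_5_1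 lc_f_rc_14_3 lc_f_rc_10_3 lc_f_rc_19_3 lc_f_rc_14_1 lc_f_rc_17_3 lc_f_rc_17_3 lc_f_rc_20_1 lc_f_rc_17_1 lc_f_rc_10_3 lc_f_Cert_tree lc_f_rc_17_1 lc_f_Cert_tree lc_f_rc_17_1 lc_f_rc_21_1 lc_f_rc_20_1 lc_f_rc_20_1 lc_f_rc_14_3 lc_f_rc_21_1 lc_f_rc_17_3 lc_f_rc_5_1 lc_f_rc_10_3 lc_f_rc_5_1 lc_f_rc_20_1 lc_f_rc_20_1 lc_f_rc_21_1 lc_f_rc_19_3 lc_f_rc_17_3 lc_f_rc_14_3 lc_f_rc_20_1 lc_f_rc_17_3 lc_f_rc_20_1 lc_f_rc_20_1 lc_f_rc_10_3 lc_f_rc_17_3 lc_f_rc_5_1 lc_f_rc_19_5 lc_f_rc_17_3 lc_f_Cert_tree lc_f_rc_10_3 lc_f_rc_17_3 lc_f_rc_10_3 lc_f_rc_14_3 lc_f_Cert_tree lc_f_rc_14_3 lc_f_rc_14_1 lc_f_rc_21_1 lc_f_rc_21_1 lc_f_rc_20_1 lc_f_rc_17_1 lc_f_rc_10_3 lc_f_rc_20_1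 lc_f_rc_5_1) (@D3.rec (fun _ => (Cert rels S Gen.f)) lc_f_Cert_tree lc_f_rc_21_1 lc_f_rc_19_5 lc_f_rc_20_1 lc_f_rc_5_3 lc_f_rc_10_3 lc_f_Cert_tree lc_f_rc_10_3 lc_f_Cert_tree lc_f_rc_14_3 lc_f_rc_21_1 lc_f_rc_10_3 lc_f_rc_17_3 lc_f_rc_17_3 lc_f_rc_20_1 lc_f_rc_20_1 lc_f_rc_10_3 lc_f_rc_20_1 lc_f_Cert_tree lc_f_Cert_tree lc_f_rc_10_3 lc_f_rc_17_3 lc_f_Cert_tree lc_f_rc_20_1 lc_f_rc_14_1 lc_f_rc_20_1 lc_f_rc_19_5 lc_f_rc_19_3 lc_f_rc_14_3 lc_f_rc_20_1 lc_f_rc_21_1 lc_f_rc_5_1 lc_f_Cert_tree lc_f_rc_14_1 lc_f_rc_14_3 lc_f_rc_17_3 lc_f_Cert_tree lc_f_rc_10_3 lc_f_rc_20_1 lc_f_rc_14_3 lc_f_rc_5_1 lc_f_rc_10_3 lc_f_rc_5_1 lc_f_rc_14_3 lc_f_rc_21_1 lc_f_rc_14_1 lc_f_Cert_tree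 lc_f_rc_10_3 lc_f_rc_21_1 lc_f_rc_17_3 lc_f_rc_14_3 lc_f_rc_21_1 lc_f_rc_19_5 lc_f_rc_17_3 lc_f_rc_10_3 lc_f_rc_10_3 lc_f_rc_17_3 lc_f_rc_21_1 lc_f_rc_19_1 lc_f_rc_14_1 lc_f_rc_17_3 lc_f_Cert_tree) (@D3.rec (fun _ => (Cert rels S Gen.f)) lc_f_rc_14_1 lc_f_rc_19_1 lc_f_rc_10_3 lc_f_rc_10_3 lc_f_rc_14_3 lc_f_rc_10_3 lc_f_rc_5_1 lc_f_rc_21_1 lc_f_rc_17_3 lc_f_rc_14_3 lc_f_rc_14_1 lc_f_rc_21_1 lc_f_rc_10_1 lc_f_Cert_tree lc_f_rc_20_1 lc_f_rc_10_3 lc_f_rc_17_3 lc_f_rc_10_1 lc_f_rc_20_1 lc_f_rc_20_1 lc_f_rc_5_1 lc_f_rc_5_3 lc_f_rc_10_3 lc_f_rc_10_3 lc_f_rc_10_3 lc_f_Cert_tree lc_f_rc_21_1 lc_f_rc_14_3 lc_f_rc_21_1 lc_f_rc_17_3 lc_f_rc_19_3 lc_f_rc_20_1 lc_f_rc_21_1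 lc_f_rc_20_1 lc_f_rc_21_1 lc_f_rc_20_1 lc_f_rc_19_5 lc_f_rc_10_3 lc_f_rc_17_3 lc_f_rc_17_3 lc_f_rc_17_1 lc_f_rc_5_3 lc_f_Cert_tree lc_f_rc_14_3 lc_f_rc_14_3 lc_f_Cert_tree lc_f_rc_20_1 lc_f_rc_20_1 lc_f_rc_5_1 lc_f_rc_20_1 lc_f_rc_10_3 lc_f_Cert_tree lc_f_rc_14_3 lc_f_rc_5_1 lc_f_Cert_tree lc_f_rc_20_1 lc_f_rc_14_3 lc_f_rc_21_1 lc_f_rc_17_3 lc_f_rc_21_1 lc_f_rc_17_3 lc_f_Cert_tree) (@D3.rec (fun _ => (Cert rels S Gen.f)) lc_f_Cert_tree lc_f_rc_20_1 lc_f_rc_17_3 lc_f_rc_21_1 lc_f_rc_5_3 lc_f_Cert_tree lc_f_Cert_tree lc_f_rc_20_1 lc_f_rc_14_3 lc_f_rc_21_1 lc_f_Cert_tree lc_f_rc_10_3 lc_f_Cert_tree lc_f_rc_10_1 lc_f_rc_14_3 lc_f_rc_10_1 lc_f_rc_20_1 lc_f_rc_10_3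 lc_f_rc_17_3 lc_f_rc_14_3 lc_f_rc_10_3 lc_f_rc_5_1 lc_f_rc_17_3 lc_f_rc_19_5 lc_f_Cert_tree lc_f_rc_20_1 lc_f_rc_14_3 lc_f_rc_19_5 lc_f_rc_10_3 lc_f_rc_21_1 lc_f_rc_21_1 lc_f_rc_14_3 lc_f_rc_17_3 lc_f_rc_5_1 lc_f_rc_5_1 lc_f_rc_17_3 lc_f_rc_14_3 lc_f_Cert_tree lc_f_rc_14_3 lc_f_rc_14_3 lc_f_rc_10_1 lc_f_rc_20_1 lc_f_rc_20_1 lc_f_rc_14_3 lc_f_rc_17_3 lc_f_rc_14_3 lc_f_rc_10_3 lc_f_Cert_tree lc_f_rc_21_1 lc_f_Cert_tree lc_f_rc_21_1 lc_f_rc_20_1 lc_f_rc_10_3 lc_f_rc_5_1 lc_f_Cert_tree lc_f_rc_5_1 lc_f_Cert_tree lc_f_rc_19_1 lc_f_rc_20_1 lc_f_rc_20_1 lc_f_rc_5_1 lc_f_rc_21_1) (@D3.rec (fun _ => (Cert rels S Gen.f)) lc_f_rc_14_3 lc_f_rc_5_3 lc_f_Cert_tree lc_f_rc_17_3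 lc_f_Cert_tree lc_f_rc_14_3 lc_f_rc_19_3 lc_f_rc_17_1 lc_f_Cert_tree lc_f_rc_20_1 lc_f_rc_21_1 lc_f_rc_19_3 lc_f_rc_17_1 lc_f_rc_20_1 lc_f_rc_21_1 lc_f_rc_19_5 lc_f_rc_10_3 lc_f_rc_21_1 lc_f_rc_19_3 lc_f_rc_14_3 lc_f_rc_19_5 lc_f_rc_19_5 lc_f_rc_20_1 lc_f_rc_10_3 lc_f_rc_22_1 lc_f_Cert_tree lc_f_rc_20_1 lc_f_rc_5_1 lc_f_rc_14_3 lc_f_rc_19_3 lc_f_rc_14_3 lc_f_rc_10_1 lc_f_rc_17_3 lc_f_rc_19_5 lc_f_rc_20_1 lc_f_rc_20_1 lc_f_rc_5_1 lc_f_rc_17_3 lc_f_rc_10_3 lc_f_rc_21_1 lc_f_rc_17_3 lc_f_rc_17_3 lc_f_rc_14_3 lc_f_rc_14_3 lc_f_rc_10_3 lc_f_rc_19_3 lc_f_rc_10_3 lc_f_rc_10_3 lc_f_rc_5_3 lc_f_rc_14_3 lc_f_rc_21_1 lc_f_rc_17_3 lc_f_rc_17_3 lc_f_rc_21_1 lc_f_rc_20_1 lc_f_rc_10_3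 lc_f_rc_17_3 lc_f_rc_5_1 lc_f_rc_10_3 lc_f_rc_14_3 lc_f_rc_19_1 lc_f_rc_10_3) (@D3.rec (fun _ => (Cert rels S Gen.f)) lc_f_rc_19_1 lc_f_rc_10_3 lc_f_rc_14_1 lc_f_rc_10_3 lc_f_rc_14_1 lc_f_rc_17_1 lc_f_rc_5_3 lc_f_rc_20_1 lc_f_rc_10_1 lc_f_rc_20_1 lc_f_rc_19_1 lc_f_rc_14_3 lc_f_rc_20_1 lc_f_rc_17_1 lc_f_rc_17_3 lc_f_Cert_tree lc_f_rc_20_1 lc_f_rc_19_1 lc_f_rc_17_3 lc_f_rc_20_1 lc_f_rc_10_3 lc_f_rc_17_1 lc_f_rc_10_3 lc_f_rc_21_1 lc_f_rc_20_1 lc_f_rc_22_1 lc_f_Cert_tree lc_f_rc_20_1 lc_f_rc_10_3 lc_f_rc_17_3 lc_f_Cert_tree lc_f_rc_17_3 lc_f_rc_20_1 lc_f_rc_21_1 lc_f_Cert_tree lc_f_rc_10_3 lc_f_rc_22_1 lc_f_Cert_tree lc_f_rc_21_1 lc_f_rc_20_1 lc_f_rc_10_3 lc_f_rc_17_3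 lc_f_Cert_tree lc_f_rc_19_5 lc_f_rc_17_3 lc_f_rc_14_3 lc_f_rc_17_3 lc_f_rc_17_3 lc_f_rc_20_1 lc_f_rc_14_3 lc_f_rc_17_3 lc_f_rc_22_1 lc_f_rc_14_3 lc_f_rc_14_3 lc_f_rc_5_3 lc_f_rc_17_3 lc_f_rc_14_1 lc_f_rc_21_1 lc_f_rc_17_3 lc_f_rc_20_1 lc_f_rc_19_3 lc_f_rc_14_1) (@D3.rec (fun _ => (Cert rels S Gen.f)) lc_f_rc_5_1 lc_f_rc_21_1 lc_f_rc_21_1 lc_f_rc_20_1 lc_f_rc_20_1 lc_f_rc_21_1 lc_f_rc_21_1 lc_f_rc_5_1 lc_f_rc_14_1 lc_f_rc_10_3 lc_f_rc_20_1 lc_f_rc_21_1 lc_f_rc_10_3 lc_f_rc_14_1 lc_f_rc_21_1 lc_f_rc_10_3 lc_f_rc_5_1 lc_f_rc_17_3 lc_f_rc_17_3 lc_f_rc_10_3 lc_f_rc_19_3 lc_f_Cert_tree lc_f_rc_10_3 lc_f_rc_19_5 lc_f_rc_20_1 lc_f_rc_20_1 lc_f_rc_10_3 lc_f_rc_5_3 lc_f_rc_17_3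 lc_f_rc_17_1 lc_f_rc_5_3 lc_f_rc_20_1 lc_f_rc_21_1 lc_f_rc_14_3 lc_f_Cert_tree lc_f_Cert_tree lc_f_rc_20_1 lc_f_rc_22_1 lc_f_rc_22_1 lc_f_rc_20_1 lc_f_rc_10_1 lc_f_rc_20_1 lc_f_rc_20_1 lc_f_rc_14_3 lc_f_rc_14_1 lc_f_rc_17_3 lc_f_rc_20_1 lc_f_rc_17_1 lc_f_rc_10_3 lc_f_rc_17_1 lc_f_rc_17_3 lc_f_rc_5_3 lc_f_Cert_tree lc_f_rc_17_3 lc_f_rc_21_1 lc_f_rc_21_1 lc_f_rc_10_3 lc_f_rc_14_3 lc_f_rc_17_3 lc_f_rc_14_1 lc_f_rc_17_3 lc_f_Cert_tree) (@D3.rec (fun _ => (Cert rels S Gen.f)) lc_f_rc_5_3 lc_f_rc_19_3 lc_f_rc_20_1 lc_f_rc_14_3 lc_f_rc_17_3 lc_f_rc_14_3 lc_f_rc_20_1 lc_f_rc_14_3 lc_f_rc_17_1 lc_f_rc_5_3 lc_f_rc_17_3 lc_f_rc_14_3 lc_f_rc_5_1 lc_f_rc_22_1 lc_f_rc_19_1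 lc_f_rc_10_3 lc_f_rc_22_1 lc_f_Cert_tree lc_f_rc_17_3 lc_f_rc_14_3 lc_f_rc_20_1 lc_f_rc_21_1 lc_f_rc_5_3 lc_f_rc_14_3 lc_f_rc_19_1 lc_f_rc_5_3 lc_f_rc_22_1 lc_f_rc_19_5 lc_f_Cert_tree lc_f_rc_20_1 lc_f_rc_14_3 lc_f_Cert_tree lc_f_rc_14_3 lc_f_Cert_tree lc_f_rc_14_3 lc_f_rc_10_3 lc_f_rc_22_1 lc_f_rc_17_3 lc_f_rc_21_1 lc_f_Cert_tree lc_f_rc_20_1 lc_f_rc_17_3 lc_f_rc_14_3 lc_f_rc_21_1 lc_f_rc_21_1 lc_f_rc_14_1 lc_f_rc_10_3 lc_f_Cert_tree lc_f_rc_20_1 lc_f_rc_5_3 lc_f_Cert_tree lc_f_rc_14_3 lc_f_rc_17_3 lc_f_rc_21_1 lc_f_rc_21_1 lc_f_rc_17_1 lc_f_rc_20_1 lc_f_rc_10_3 lc_f_rc_17_3 lc_f_Cert_tree lc_f_rc_14_3 lc_f_rc_17_1) (@D3.rec (fun _ => (Cert rels S Gen.f)) lc_f_Cert_tree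 lc_f_rc_21_1 lc_f_rc_17_3 lc_f_rc_14_3 lc_f_Cert_tree lc_f_rc_21_1 lc_f_rc_5_1 lc_f_Cert_tree lc_f_rc_20_1 lc_f_rc_19_5 lc_f_rc_21_1 lc_f_rc_5_3 lc_f_rc_14_3 lc_f_rc_21_1 lc_f_rc_20_1 lc_f_rc_21_1 lc_f_rc_20_1 lc_f_rc_10_3 lc_f_rc_14_1 lc_f_rc_19_3 lc_f_rc_5_1 lc_f_rc_17_3 lc_f_rc_22_1 lc_f_Cert_tree lc_f_rc_5_1 lc_f_rc_20_1 lc_f_rc_5_1 lc_f_rc_21_1 lc_f_rc_17_1 lc_f_rc_14_3 lc_f_Cert_tree lc_f_rc_17_3 lc_f_rc_19_3 lc_f_rc_17_3 lc_f_rc_21_1 lc_f_rc_20_1 lc_f_rc_20_1 lc_f_rc_14_3 lc_f_rc_17_3 lc_f_rc_21_1 lc_f_Cert_tree lc_f_rc_5_3 lc_f_rc_20_1 lc_f_rc_20_1 lc_f_rc_10_3 lc_f_rc_19_3 lc_f_rc_17_3 lc_f_rc_20_1 lc_f_rc_17_3 lc_f_rc_17_3 lc_f_rc_19_1 lc_f_rc_5_3 lc_f_rc_14_3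 lc_f_rc_10_3 lc_f_rc_19_3 lc_f_rc_20_1 lc_f_rc_19_5 lc_f_rc_21_1 lc_f_rc_10_3 lc_f_rc_21_1 lc_f_rc_5_1 lc_f_rc_17_1) (@D3.rec (fun _ => (Cert rels S Gen.f)) lc_f_rc_20_1 lc_f_rc_19_1 lc_f_rc_17_1 lc_f_rc_20_1 lc_f_rc_21_1 lc_f_rc_21_1 lc_f_rc_14_3 lc_f_rc_14_3 lc_f_rc_14_3 lc_f_rc_14_3 lc_f_rc_17_3 lc_f_rc_14_3 lc_f_rc_20_1 lc_f_rc_5_1 lc_f_rc_17_1 lc_f_rc_10_3 lc_f_rc_14_3 lc_f_rc_17_3 lc_f_rc_20_1 lc_f_rc_14_3 lc_f_rc_10_3 lc_f_rc_22_1 lc_f_rc_5_1 lc_f_rc_21_1 lc_f_rc_20_1 lc_f_Cert_tree lc_f_rc_20_1 lc_f_rc_17_1 lc_f_rc_14_1 lc_f_rc_5_3 lc_f_rc_22_1 lc_f_Cert_tree lc_f_rc_17_3 lc_f_Cert_tree lc_f_rc_21_1 lc_f_rc_22_1 lc_f_Cert_tree lc_f_rc_14_3 lc_f_Cert_tree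 lc_f_rc_14_3 lc_f_rc_20_1 lc_f_rc_14_3 lc_f_rc_22_1 lc_f_rc_22_1 lc_f_rc_21_1 lc_f_rc_20_1 lc_f_rc_20_1 lc_f_rc_14_1 lc_f_rc_5_1 lc_f_rc_14_3 lc_f_rc_14_3 lc_f_rc_17_3 lc_f_Cert_tree lc_f_rc_5_3 lc_f_rc_20_1 lc_f_rc_10_3 lc_f_rc_17_3 lc_f_Cert_tree lc_f_rc_20_1 lc_f_rc_10_1 lc_f_rc_14_3 lc_f_rc_19_3) (@D3.rec (fun _ => (Cert rels S Gen.f)) lc_f_rc_10_3 lc_f_rc_17_3 lc_f_Cert_tree lc_f_rc_5_1 lc_f_rc_10_3 lc_f_rc_14_3 lc_f_Cert_tree lc_f_rc_5_3 lc_f_rc_5_3 lc_f_rc_20_1 lc_f_rc_20_1 lc_f_rc_5_3 lc_f_rc_14_3 lc_f_rc_17_1 lc_f_rc_14_3 lc_f_rc_21_1 lc_f_Cert_tree lc_f_rc_20_1 lc_f_rc_21_1 lc_f_rc_14_1 lc_f_rc_21_1 lc_f_rc_17_1 lc_f_rc_21_1 lc_f_rc_5_1 lc_f_rc_14_3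 lc_f_rc_20_1 lc_f_rc_17_1 lc_f_rc_19_5 lc_f_rc_19_1 lc_f_rc_19_3 lc_f_rc_17_1 lc_f_rc_19_3 lc_f_rc_10_3 lc_f_Cert_tree lc_f_rc_19_3 lc_f_rc_21_1 lc_f_rc_19_5 lc_f_rc_20_1 lc_f_rc_14_3 lc_f_rc_21_1 lc_f_rc_14_3 lc_f_rc_10_3 lc_f_rc_17_3 lc_f_rc_5_1 lc_f_rc_10_1 lc_f_rc_19_1 lc_f_rc_17_3 lc_f_rc_5_1 lc_f_rc_14_3 lc_f_rc_20_1 lc_f_rc_5_1 lc_f_rc_5_3 lc_f_rc_10_3 lc_f_rc_20_1 lc_f_rc_19_1 lc_f_rc_10_3 lc_f_rc_17_1 lc_f_rc_14_1 lc_f_rc_5_1 lc_f_rc_10_1 lc_f_rc_20_1 lc_f_rc_14_3) (@D3.rec (fun _ => (Cert rels S Gen.f)) lc_f_rc_17_3 lc_f_Cert_tree lc_f_rc_10_3 lc_f_rc_21_1 lc_f_rc_19_3 lc_f_rc_10_1 lc_f_rc_17_3 lc_f_rc_17_3 lc_f_rc_19_5 lc_f_rc_20_1 lc_f_rc_21_1 lc_f_Cert_tree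 lc_f_rc_20_1 lc_f_rc_14_3 lc_f_rc_20_1 lc_f_rc_20_1 lc_f_rc_17_1 lc_f_Cert_tree lc_f_Cert_tree lc_f_rc_21_1 lc_f_rc_14_1 lc_f_rc_17_3 lc_f_Cert_tree lc_f_rc_5_1 lc_f_rc_10_3 lc_f_Cert_tree lc_f_rc_20_1 lc_f_rc_14_3 lc_f_rc_10_3 lc_f_rc_19_3 lc_f_rc_5_1 lc_f_rc_21_1 lc_f_Cert_tree lc_f_rc_20_1 lc_f_rc_5_1 lc_f_rc_10_1 lc_f_rc_5_1 lc_f_rc_10_1 lc_f_Cert_tree lc_f_rc_5_3 lc_f_rc_5_1 lc_f_rc_14_3 lc_f_rc_17_1 lc_f_rc_20_1 lc_f_rc_5_3 lc_f_rc_19_3 lc_f_rc_20_1 lc_f_rc_21_1 lc_f_Cert_tree lc_f_rc_20_1 lc_f_rc_14_3 lc_f_rc_17_3 lc_f_rc_19_3 lc_f_rc_19_3 lc_f_rc_21_1 lc_f_rc_14_3 lc_f_rc_10_3 lc_f_rc_5_3 lc_f_Cert_tree lc_f_rc_10_1 lc_f_rc_20_1 lc_f_rc_20_1) (@D3.rec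 (fun _ => (Cert rels S Gen.f)) lc_f_rc_14_3 lc_f_rc_10_3 lc_f_rc_21_1 lc_f_rc_19_1 lc_f_rc_10_3 lc_f_rc_17_3 lc_f_rc_20_1 lc_f_rc_10_1 lc_f_rc_5_1 lc_f_rc_5_1 lc_f_rc_10_3 lc_f_Cert_tree lc_f_rc_21_1 lc_f_rc_14_3 lc_f_rc_19_3 lc_f_rc_14_3 lc_f_rc_21_1 lc_f_Cert_tree lc_f_rc_20_1 lc_f_rc_20_1 lc_f_rc_20_1 lc_f_rc_20_1 lc_f_Cert_tree lc_f_rc_5_3 lc_f_rc_5_1 lc_f_Cert_tree lc_f_rc_17_1 lc_f_rc_17_1 lc_f_rc_10_1 lc_f_rc_17_3 lc_f_rc_14_1 lc_f_Cert_tree lc_f_rc_10_1 lc_f_rc_17_3 lc_f_rc_19_3 lc_f_rc_17_3 lc_f_rc_17_3 lc_f_rc_14_3 lc_f_rc_5_1 lc_f_Cert_tree lc_f_rc_20_1 lc_f_rc_14_3 lc_f_rc_10_3 lc_f_rc_10_3 lc_f_rc_20_1 lc_f_rc_20_1 lc_f_rc_19_1 lc_f_rc_19_5 lc_f_Cert_tree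 lc_f_rc_20_1 lc_f_rc_17_3 lc_f_rc_21_1 lc_f_rc_10_3 lc_f_rc_5_3 lc_f_Cert_tree lc_f_rc_14_1 lc_f_rc_14_1 lc_f_rc_20_1 lc_f_rc_22_1 lc_f_rc_5_1 lc_f_rc_17_3 lc_f_rc_10_3) (@D3.rec (fun _ => (Cert rels S Gen.f)) lc_f_rc_20_1 lc_f_rc_5_1 lc_f_rc_14_1 lc_f_rc_14_3 lc_f_rc_19_3 lc_f_Cert_tree lc_f_rc_5_3 lc_f_Cert_tree lc_f_rc_20_1 lc_f_rc_17_3 lc_f_rc_19_5 lc_f_rc_19_5 lc_f_rc_14_3 lc_f_rc_22_1 lc_f_rc_10_3 lc_f_rc_22_1 lc_f_rc_20_1 lc_f_rc_10_3 lc_f_rc_5_1 lc_f_rc_14_3 lc_f_rc_21_1 lc_f_rc_14_3 lc_f_rc_20_1 lc_f_Cert_tree lc_f_rc_21_1 lc_f_rc_14_1 lc_f_Cert_tree lc_f_rc_17_3 lc_f_rc_19_5 lc_f_rc_22_1 lc_f_rc_20_1 lc_f_rc_10_1 lc_f_rc_5_3 lc_f_rc_10_3 lc_f_rc_10_1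 lc_f_Cert_tree lc_f_rc_5_3 lc_f_Cert_tree lc_f_rc_20_1 lc_f_rc_10_3 lc_f_rc_14_3 lc_f_rc_17_3 lc_f_Cert_tree lc_f_rc_10_3 lc_f_rc_21_1 lc_f_rc_21_1 lc_f_Cert_tree lc_f_rc_20_1 lc_f_rc_21_1 lc_f_Cert_tree lc_f_rc_20_1 lc_f_rc_19_1 lc_f_rc_14_1 lc_f_rc_10_3 lc_f_rc_17_1 lc_f_rc_5_3 lc_f_rc_20_1 lc_f_rc_14_3 lc_f_rc_5_1 lc_f_rc_21_1 lc_f_rc_5_3 lc_f_rc_10_1) (@D3.rec (fun _ => (Cert rels S Gen.f)) lc_f_rc_5_1 lc_f_Cert_tree lc_f_rc_10_3 lc_f_rc_22_1 lc_f_rc_17_1 lc_f_rc_10_3 lc_f_rc_21_1 lc_f_rc_20_1 lc_f_rc_21_1 lc_f_rc_5_1 lc_f_rc_20_1 lc_f_rc_20_1 lc_f_Cert_tree lc_f_rc_10_1 lc_f_rc_20_1 lc_f_Cert_tree lc_f_rc_14_1 lc_f_rc_21_1 lc_f_Cert_tree lc_f_rc_20_1 lc_f_rc_19_5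 lc_f_rc_14_3 lc_f_rc_17_1 lc_f_rc_17_3 lc_f_rc_10_1 lc_f_rc_21_1 lc_f_rc_21_1 lc_f_rc_5_3 lc_f_rc_21_1 lc_f_rc_20_1 lc_f_rc_19_5 lc_f_rc_17_3 lc_f_rc_17_3 lc_f_Cert_tree lc_f_rc_14_3 lc_f_rc_10_3 lc_f_rc_14_3 lc_f_rc_22_1 lc_f_rc_14_3 lc_f_rc_14_3 lc_f_rc_10_3 lc_f_rc_17_3 lc_f_rc_10_1 lc_f_rc_14_1 lc_f_rc_14_1 lc_f_rc_21_1 lc_f_rc_14_3 lc_f_rc_20_1 lc_f_Cert_tree lc_f_rc_10_3 lc_f_rc_17_3 lc_f_rc_21_1 lc_f_rc_17_3 lc_f_rc_5_1 lc_f_Cert_tree lc_f_rc_20_1 lc_f_rc_14_1 lc_f_rc_17_1 lc_f_rc_20_1 lc_f_rc_14_3 lc_f_rc_10_3 lc_f_rc_17_1) (@D3.rec (fun _ => (Cert rels S Gen.f)) lc_f_rc_20_1 lc_f_rc_10_1 lc_f_rc_10_3 lc_f_rc_17_3 lc_f_Cert_tree lc_f_rc_10_3 lc_f_rc_14_3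 lc_f_rc_17_3 lc_f_rc_10_3 lc_f_rc_20_1 lc_f_rc_20_1 lc_f_rc_10_3 lc_f_rc_22_1 lc_f_rc_14_1 lc_f_rc_19_3 lc_f_rc_5_1 lc_f_rc_20_1 lc_f_rc_20_1 lc_f_rc_20_1 lc_f_Cert_tree lc_f_rc_14_3 lc_f_rc_17_3 lc_f_rc_14_3 lc_f_Cert_tree lc_f_rc_21_1 lc_f_rc_20_1 lc_f_rc_17_3 lc_f_rc_5_3 lc_f_rc_10_1 lc_f_rc_5_3 lc_f_rc_14_3 lc_f_rc_5_3 lc_f_rc_20_1 lc_f_rc_14_3 lc_f_rc_10_1 lc_f_rc_17_3 lc_f_rc_14_3 lc_f_rc_14_1 lc_f_rc_14_3 lc_f_rc_14_3 lc_f_rc_10_3 lc_f_rc_14_1 lc_f_rc_21_1 lc_f_rc_17_1 lc_f_rc_20_1 lc_f_rc_21_1 lc_f_rc_21_1 lc_f_rc_5_3 lc_f_rc_14_3 lc_f_rc_19_1 lc_f_rc_14_3 lc_f_rc_14_3 lc_f_rc_22_1 lc_f_rc_17_3 lc_f_rc_19_3 lc_f_rc_10_3 lc_f_rc_17_1 lc_f_rc_22_1 lc_f_rc_10_3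 lc_f_rc_5_3 lc_f_rc_14_3 lc_f_rc_17_3) (@D3.rec (fun _ => (Cert rels S Gen.f)) lc_f_rc_17_3 lc_f_rc_20_1 lc_f_rc_14_3 lc_f_rc_10_1 lc_f_rc_21_1 lc_f_rc_10_3 lc_f_rc_22_1 lc_f_Cert_tree lc_f_rc_20_1 lc_f_rc_17_3 lc_f_rc_17_3 lc_f_rc_20_1 lc_f_rc_10_3 lc_f_rc_14_1 lc_f_rc_5_3 lc_f_rc_22_1 lc_f_rc_10_3 lc_f_rc_14_1 lc_f_rc_5_3 lc_f_rc_10_3 lc_f_rc_5_1 lc_f_rc_20_1 lc_f_rc_14_3 lc_f_rc_5_3 lc_f_rc_17_3 lc_f_rc_14_3 lc_f_rc_14_3 lc_f_rc_17_3 lc_f_rc_10_3 lc_f_rc_20_1 lc_f_rc_21_1 lc_f_rc_14_3 lc_f_rc_17_3 lc_f_rc_20_1 lc_f_rc_20_1 lc_f_rc_21_1 lc_f_rc_10_3 lc_f_rc_20_1 lc_f_rc_14_3 lc_f_rc_17_3 lc_f_rc_20_1 lc_f_rc_10_3 lc_f_rc_17_3 lc_f_rc_17_3 lc_f_rc_21_1 lc_f_rc_14_3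 lc_f_rc_20_1 lc_f_rc_20_1 lc_f_rc_19_1 lc_f_rc_10_3 lc_f_rc_14_3 lc_f_rc_20_1 lc_f_rc_20_1 lc_f_rc_5_1 lc_f_rc_14_3 lc_f_rc_21_1 lc_f_rc_17_3 lc_f_rc_5_1 lc_f_rc_19_5 lc_f_rc_5_1 lc_f_rc_10_1 lc_f_rc_5_3) (@D3.rec (fun _ => (Cert rels S Gen.f)) lc_f_rc_14_3 lc_f_rc_14_3 lc_f_rc_20_1 lc_f_Cert_tree lc_f_Cert_tree lc_f_rc_14_1 lc_f_rc_14_3 lc_f_rc_10_1 lc_f_rc_20_1 lc_f_rc_14_3 lc_f_rc_21_1 lc_f_rc_17_3 lc_f_rc_14_1 lc_f_rc_20_1 lc_f_rc_10_3 lc_f_rc_17_3 lc_f_rc_21_1 lc_f_rc_10_1 lc_f_rc_17_3 lc_f_Cert_tree lc_f_rc_17_3 lc_f_rc_17_1 lc_f_rc_14_1 lc_f_rc_20_1 lc_f_rc_14_3 lc_f_Cert_tree lc_f_rc_21_1 lc_f_rc_17_3 lc_f_rc_14_3 lc_f_Cert_tree lc_f_rc_14_3 lc_f_Cert_tree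 lc_f_rc_10_1 lc_f_rc_14_3 lc_f_rc_19_1 lc_f_rc_14_3 lc_f_rc_20_1 lc_f_Cert_tree lc_f_rc_17_1 lc_f_rc_20_1 lc_f_rc_19_3 lc_f_rc_14_3 lc_f_rc_19_3 lc_f_rc_17_3 lc_f_rc_17_3 lc_f_Cert_tree lc_f_rc_14_3 lc_f_rc_14_3 lc_f_rc_14_3 lc_f_rc_14_3 lc_f_rc_14_1 lc_f_rc_17_3 lc_f_rc_21_1 lc_f_rc_20_1 lc_f_rc_10_1 lc_f_rc_19_5 lc_f_rc_10_1 lc_f_rc_19_5 lc_f_rc_5_3 lc_f_rc_20_1 lc_f_rc_20_1 lc_f_rc_10_3) (@D3.rec (fun _ => (Cert rels S Gen.f)) lc_f_rc_17_1 lc_f_rc_20_1 lc_f_rc_21_1 lc_f_rc_20_1 lc_f_Cert_tree lc_f_rc_21_1 lc_f_rc_5_1 lc_f_rc_20_1 lc_f_rc_19_3 lc_f_rc_20_1 lc_f_rc_21_1 lc_f_rc_17_3 lc_f_rc_20_1 lc_f_Cert_tree lc_f_rc_10_3 lc_f_rc_5_1 lc_f_Cert_tree lc_f_rc_20_1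 lc_f_Cert_tree lc_f_rc_20_1 lc_f_rc_14_3 lc_f_rc_22_1 lc_f_rc_20_1 lc_f_rc_5_1 lc_f_rc_14_1 lc_f_rc_5_3 lc_f_rc_14_3 lc_f_rc_21_1 lc_f_rc_14_3 lc_f_rc_17_3 lc_f_rc_20_1 lc_f_rc_20_1 lc_f_rc_5_1 lc_f_rc_20_1 lc_f_Cert_tree lc_f_rc_19_1 lc_f_rc_10_3 lc_f_rc_14_1 lc_f_rc_17_3 lc_f_rc_10_1 lc_f_rc_22_1 lc_f_rc_10_3 lc_f_rc_19_3 lc_f_rc_14_3 lc_f_rc_5_3 lc_f_rc_19_3 lc_f_rc_20_1 lc_f_rc_5_1 lc_f_rc_20_1 lc_f_rc_17_1 lc_f_rc_20_1 lc_f_rc_21_1 lc_f_rc_20_1 lc_f_rc_14_3 lc_f_rc_10_1 lc_f_rc_10_3 lc_f_rc_17_3 lc_f_rc_20_1 lc_f_rc_10_1 lc_f_rc_5_1 lc_f_rc_17_3 lc_f_rc_5_1) (@D3.rec (fun _ => (Cert rels S Gen.f)) lc_f_rc_14_1 lc_f_rc_5_3 lc_f_rc_19_1 lc_f_rc_20_1 lc_f_rc_20_1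 lc_f_rc_20_1 lc_f_rc_20_1 lc_f_rc_10_1 lc_f_rc_10_1 lc_f_rc_22_1 lc_f_Cert_tree lc_f_rc_21_1 lc_f_rc_20_1 lc_f_Cert_tree lc_f_rc_19_3 lc_f_rc_5_1 lc_f_rc_20_1 lc_f_rc_20_1 lc_f_rc_10_3 lc_f_rc_14_1 lc_f_rc_20_1 lc_f_rc_5_3 lc_f_rc_21_1 lc_f_rc_14_3 lc_f_rc_20_1 lc_f_Cert_tree lc_f_rc_21_1 lc_f_rc_19_3 lc_f_rc_10_3 lc_f_rc_5_1 lc_f_Cert_tree lc_f_rc_20_1 lc_f_rc_21_1 lc_f_rc_5_1 lc_f_rc_10_3 lc_f_Cert_tree lc_f_rc_20_1 lc_f_rc_20_1 lc_f_rc_21_1 lc_f_Cert_tree lc_f_rc_20_1 lc_f_rc_20_1 lc_f_rc_20_1 lc_f_rc_19_3 lc_f_rc_14_1 lc_f_rc_20_1 lc_f_rc_14_1 lc_f_rc_20_1 lc_f_rc_20_1 lc_f_rc_5_1 lc_f_rc_14_3 lc_f_rc_17_1 lc_f_rc_20_1 lc_f_rc_14_3 lc_f_rc_5_3 lc_f_rc_20_1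 lc_f_rc_20_1 lc_f_rc_5_1 lc_f_rc_17_3 lc_f_rc_20_1 lc_f_rc_17_3 lc_f_rc_10_3) (@D3.rec (fun _ => (Cert rels S Gen.f)) lc_f_rc_14_3 lc_f_rc_10_3 lc_f_rc_21_1 lc_f_rc_21_1 lc_f_rc_17_3 lc_f_rc_21_1 lc_f_rc_10_3 lc_f_rc_17_3 lc_f_rc_10_1 lc_f_rc_17_3 lc_f_rc_10_1 lc_f_rc_17_3 lc_f_rc_21_1 lc_f_rc_10_3 lc_f_rc_17_3 lc_f_rc_5_1 lc_f_Cert_tree lc_f_rc_20_1 lc_f_rc_5_3 lc_f_rc_14_3 lc_f_rc_20_1 lc_f_rc_20_1 lc_f_rc_5_3 lc_f_rc_17_3 lc_f_rc_10_3 lc_f_rc_17_3 lc_f_rc_21_1 lc_f_rc_20_1 lc_f_rc_17_3 lc_f_rc_5_3 lc_f_rc_10_3 lc_f_rc_10_1 lc_f_rc_17_3 lc_f_rc_14_3 lc_f_rc_5_1 lc_f_Cert_tree lc_f_rc_17_3 lc_f_rc_17_3 lc_f_rc_14_3 lc_f_rc_19_3 lc_f_rc_17_1 lc_f_rc_21_1 lc_f_rc_5_3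 lc_f_rc_5_1 lc_f_rc_21_1 lc_f_rc_20_1 lc_f_Cert_tree lc_f_rc_20_1 lc_f_rc_5_3 lc_f_rc_21_1 lc_f_rc_10_3 lc_f_rc_14_1 lc_f_rc_21_1 lc_f_rc_21_1 lc_f_rc_14_1 lc_f_rc_17_1 lc_f_Cert_tree lc_f_rc_22_1 lc_f_rc_17_3 lc_f_Cert_tree lc_f_rc_10_3 lc_f_rc_17_3) (@D3.rec (fun _ => (Cert rels S Gen.f)) lc_f_rc_20_1 lc_f_rc_10_3 lc_f_Cert_tree lc_f_rc_17_3 lc_f_rc_10_3 lc_f_rc_5_1 lc_f_rc_14_3 lc_f_rc_21_1 lc_f_rc_14_3 lc_f_rc_21_1 lc_f_rc_5_3 lc_f_rc_14_3 lc_f_rc_17_3 lc_f_rc_21_1 lc_f_rc_17_3 lc_f_rc_19_3 lc_f_rc_17_3 lc_f_rc_20_1 lc_f_rc_10_3 lc_f_Cert_tree lc_f_rc_20_1 lc_f_rc_20_1 lc_f_rc_10_3 lc_f_rc_5_1 lc_f_rc_14_3 lc_f_rc_10_3 lc_f_rc_19_5 lc_f_rc_10_3 lc_f_rc_20_1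 lc_f_rc_17_3 lc_f_rc_17_1 lc_f_rc_14_1 lc_f_rc_19_3 lc_f_rc_5_1 lc_f_rc_5_3 lc_f_rc_5_1 lc_f_Cert_tree lc_f_rc_21_1 lc_f_rc_14_1 lc_f_rc_17_1 lc_f_rc_19_3 lc_f_rc_10_3 lc_f_rc_17_3 lc_f_rc_10_3 lc_f_rc_17_3 lc_f_rc_14_1 lc_f_rc_20_1 lc_f_rc_14_3 lc_f_rc_10_3 lc_f_rc_19_3 lc_f_rc_17_1 lc_f_rc_17_1 lc_f_rc_5_1 lc_f_rc_5_3 lc_f_rc_21_1 lc_f_rc_10_3 lc_f_rc_14_3 lc_f_rc_14_3 lc_f_rc_20_1 lc_f_rc_10_3 lc_f_rc_21_1 lc_f_Cert_tree) (@D3.rec (fun _ => (Cert rels S Gen.f)) lc_f_rc_14_3 lc_f_rc_20_1 lc_f_Cert_tree lc_f_rc_21_1 lc_f_rc_22_1 lc_f_Cert_tree lc_f_rc_10_3 lc_f_rc_21_1 lc_f_rc_22_1 lc_f_rc_14_3 lc_f_Cert_tree lc_f_rc_20_1 lc_f_rc_17_3 lc_f_rc_19_5 lc_f_rc_22_1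 lc_f_rc_14_3 lc_f_rc_14_1 lc_f_rc_20_1 lc_f_rc_17_3 lc_f_rc_10_3 lc_f_rc_14_1 lc_f_rc_10_1 lc_f_rc_17_1 lc_f_rc_10_3 lc_f_Cert_tree lc_f_rc_20_1 lc_f_rc_21_1 lc_f_rc_20_1 lc_f_rc_17_3 lc_f_rc_5_3 lc_f_Cert_tree lc_f_rc_10_3 lc_f_rc_5_1 lc_f_rc_19_1 lc_f_rc_19_3 lc_f_rc_20_1 lc_f_rc_10_3 lc_f_rc_5_3 lc_f_rc_19_3 lc_f_rc_5_3 lc_f_rc_14_3 lc_f_rc_14_3 lc_f_rc_17_3 lc_f_rc_14_1 lc_f_rc_14_3 lc_f_rc_14_3 lc_f_rc_10_3 lc_f_rc_19_3 lc_f_rc_10_1 lc_f_rc_10_3 lc_f_rc_10_3 lc_f_rc_20_1 lc_f_rc_14_3 lc_f_rc_14_3 lc_f_rc_5_3 lc_f_rc_14_3 lc_f_rc_21_1 lc_f_rc_10_1 lc_f_rc_20_1 lc_f_rc_20_1 lc_f_rc_21_1 lc_f_rc_19_3) (@D3.rec (fun _ => (Cert rels S Gen.f)) lc_f_rc_20_1 lc_f_rc_10_3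 lc_f_rc_21_1 lc_f_rc_17_3 lc_f_rc_14_3 lc_f_rc_10_1 lc_f_rc_14_1 lc_f_rc_21_1 lc_f_rc_20_1 lc_f_rc_14_1 lc_f_rc_10_3 lc_f_rc_20_1 lc_f_Cert_tree lc_f_rc_20_1 lc_f_Cert_tree lc_f_rc_20_1 lc_f_rc_21_1 lc_f_rc_20_1 lc_f_rc_20_1 lc_f_rc_17_3 lc_f_rc_5_1 lc_f_rc_17_3 lc_f_rc_14_1 lc_f_rc_5_3 lc_f_rc_17_3 lc_f_rc_5_3 lc_f_rc_17_3 lc_f_rc_17_3 lc_f_rc_14_1 lc_f_rc_5_3 lc_f_rc_17_3 lc_f_rc_14_1 lc_f_rc_14_3 lc_f_rc_14_3 lc_f_rc_10_3 lc_f_rc_17_3 lc_f_rc_14_3 lc_f_rc_14_3 lc_f_rc_17_3 lc_f_rc_10_3 lc_f_rc_20_1 lc_f_rc_20_1 lc_f_Cert_tree lc_f_rc_21_1 lc_f_rc_20_1 lc_f_rc_20_1 lc_f_rc_17_1 lc_f_rc_14_3 lc_f_rc_21_1 lc_f_Cert_tree lc_f_rc_20_1 lc_f_rc_14_3 lc_f_rc_17_3 lc_f_rc_10_3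 lc_f_rc_10_3 lc_f_rc_10_3 lc_f_rc_21_1 lc_f_rc_10_3 lc_f_rc_5_1 lc_f_rc_20_1 lc_f_rc_5_1 lc_f_rc_20_1) (@D3.rec (fun _ => (Cert rels S Gen.f)) lc_f_rc_21_1 lc_f_Cert_tree lc_f_rc_20_1 lc_f_rc_5_1 lc_f_rc_5_1 lc_f_rc_19_3 lc_f_rc_10_1 lc_f_Cert_tree lc_f_rc_20_1 lc_f_Cert_tree lc_f_rc_20_1 lc_f_rc_17_3 lc_f_rc_10_1 lc_f_rc_10_3 lc_f_rc_20_1 lc_f_rc_10_3 lc_f_rc_10_1 lc_f_Cert_tree lc_f_rc_21_1 lc_f_rc_17_3 lc_f_rc_10_3 lc_f_rc_10_3 lc_f_rc_19_3 lc_f_rc_19_5 lc_f_rc_20_1 lc_f_rc_14_3 lc_f_rc_22_1 lc_f_rc_14_3 lc_f_rc_14_1 lc_f_rc_21_1 lc_f_rc_20_1 lc_f_rc_20_1 lc_f_Cert_tree lc_f_rc_20_1 lc_f_rc_21_1 lc_f_rc_20_1 lc_f_rc_20_1 lc_f_rc_5_1 lc_f_rc_21_1 lc_f_rc_20_1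 lc_f_rc_14_1 lc_f_rc_5_3 lc_f_rc_10_3 lc_f_rc_17_3 lc_f_rc_19_5 lc_f_rc_17_3 lc_f_rc_17_3 lc_f_rc_5_1 lc_f_rc_17_3 lc_f_rc_21_1 lc_f_Cert_tree lc_f_rc_5_1 lc_f_Cert_tree lc_f_rc_20_1 lc_f_rc_10_3 lc_f_rc_10_3 lc_f_rc_21_1 lc_f_rc_19_1 lc_f_rc_10_3 lc_f_rc_21_1 lc_f_rc_20_1 lc_f_rc_20_1) (@D3.rec (fun _ => (Cert rels S Gen.f)) lc_f_rc_14_3 lc_f_rc_19_5 lc_f_rc_21_1 lc_f_rc_20_1 lc_f_rc_19_3 lc_f_rc_19_5 lc_f_rc_20_1 lc_f_rc_20_1 lc_f_rc_20_1 lc_f_rc_21_1 lc_f_rc_20_1 lc_f_rc_5_3 lc_f_rc_20_1 lc_f_rc_20_1 lc_f_rc_20_1 lc_f_rc_20_1 lc_f_rc_5_1 lc_f_rc_20_1 lc_f_rc_5_3 lc_f_rc_17_3 lc_f_rc_17_1 lc_f_rc_20_1 lc_f_rc_14_3 lc_f_rc_17_1 lc_f_rc_10_3 lc_f_rc_17_1 lc_f_Cert_tree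 lc_f_rc_21_1 lc_f_rc_14_3 lc_f_rc_20_1 lc_f_rc_20_1 lc_f_rc_14_1 lc_f_rc_20_1 lc_f_rc_20_1 lc_f_rc_10_3 lc_f_rc_5_1 lc_f_rc_14_3 lc_f_rc_10_3 lc_f_rc_20_1 lc_f_rc_21_1 lc_f_rc_17_3 lc_f_rc_10_3 lc_f_rc_17_3 lc_f_rc_10_3 lc_f_rc_10_3 lc_f_rc_10_3 lc_f_rc_20_1 lc_f_rc_10_1 lc_f_rc_14_3 lc_f_Cert_tree lc_f_Cert_tree lc_f_rc_19_1 lc_f_rc_17_3 lc_f_rc_21_1 lc_f_rc_20_1 lc_f_rc_14_3 lc_f_rc_17_3 lc_f_Cert_tree lc_f_rc_20_1 lc_f_rc_20_1 lc_f_rc_17_1 lc_f_rc_14_3) (@D3.rec (fun _ => (Cert rels S Gen.f)) lc_f_rc_14_3 lc_f_rc_17_3 lc_f_rc_14_3 lc_f_rc_17_3 lc_f_rc_5_1 lc_f_rc_5_1 lc_f_rc_19_1 lc_f_Cert_tree lc_f_rc_14_3 lc_f_rc_17_1 lc_f_rc_21_1 lc_f_rc_21_1 lc_f_rc_5_1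 lc_f_rc_5_3 lc_f_rc_17_3 lc_f_rc_10_3 lc_f_rc_17_1 lc_f_rc_19_5 lc_f_rc_5_1 lc_f_rc_19_5 lc_f_rc_14_3 lc_f_rc_21_1 lc_f_rc_17_3 lc_f_rc_14_3 lc_f_rc_17_3 lc_f_rc_20_1 lc_f_rc_22_1 lc_f_rc_17_3 lc_f_rc_10_1 lc_f_rc_5_1 lc_f_rc_17_3 lc_f_rc_14_3 lc_f_rc_10_3 lc_f_rc_10_3 lc_f_rc_17_3 lc_f_Cert_tree lc_f_rc_10_1 lc_f_rc_14_3 lc_f_Cert_tree lc_f_rc_17_3 lc_f_Cert_tree lc_f_rc_19_5 lc_f_rc_19_5 lc_f_rc_20_1 lc_f_rc_21_1 lc_f_rc_14_3 lc_f_rc_14_3 lc_f_rc_10_1 lc_f_rc_17_1 lc_f_rc_5_3 lc_f_rc_17_1 lc_f_rc_10_3 lc_f_rc_20_1 lc_f_rc_19_5 lc_f_rc_19_5 lc_f_rc_10_1 lc_f_rc_14_3 lc_f_Cert_tree lc_f_rc_5_1 lc_f_rc_14_3 lc_f_Cert_tree lc_f_rc_5_1) (@D3.rec (fun _ => (Cert rels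 S Gen.f)) lc_f_Cert_tree lc_f_rc_5_3 lc_f_Cert_tree lc_f_rc_5_1 lc_f_rc_10_3 lc_f_Cert_tree lc_f_rc_20_1 lc_f_rc_17_3 lc_f_rc_17_3 lc_f_rc_14_3 lc_f_rc_20_1 lc_f_rc_21_1 lc_f_rc_14_3 lc_f_rc_20_1 lc_f_Cert_tree lc_f_rc_14_1 lc_f_Cert_tree lc_f_rc_10_3 lc_f_rc_17_3 lc_f_rc_14_3 lc_f_rc_19_3 lc_f_rc_14_3 lc_f_rc_17_1 lc_f_rc_14_1 lc_f_Cert_tree lc_f_rc_10_3 lc_f_rc_5_1 lc_f_rc_20_1 lc_f_rc_5_1 lc_f_rc_19_3 lc_f_rc_14_3 lc_f_rc_22_1 lc_f_Cert_tree lc_f_rc_17_3 lc_f_rc_10_3 lc_f_Cert_tree lc_f_rc_20_1 lc_f_rc_21_1 lc_f_Cert_tree lc_f_rc_20_1 lc_f_rc_20_1 lc_f_rc_14_3 lc_f_rc_10_3 lc_f_rc_14_3 lc_f_rc_5_1 lc_f_rc_17_3 lc_f_rc_14_3 lc_f_rc_17_3 lc_f_rc_20_1 lc_f_rc_14_3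 lc_f_rc_20_1 lc_f_rc_10_3 lc_f_rc_17_3 lc_f_rc_19_3 lc_f_rc_14_1 lc_f_rc_5_1 lc_f_rc_14_3 lc_f_Cert_tree lc_f_rc_5_3 lc_f_Cert_tree lc_f_rc_20_1 lc_f_rc_5_1) (@D3.rec (fun _ => (Cert rels S Gen.f)) lc_f_rc_17_3 lc_f_rc_14_3 lc_f_rc_21_1 lc_f_rc_20_1 lc_f_rc_14_3 lc_f_rc_14_3 lc_f_Cert_tree lc_f_rc_5_1 lc_f_rc_10_3 lc_f_Cert_tree lc_f_rc_20_1 lc_f_rc_21_1 lc_f_Cert_tree lc_f_rc_14_3 lc_f_rc_20_1 lc_f_Cert_tree lc_f_rc_19_3 lc_f_rc_14_3 lc_f_rc_17_3 lc_f_Cert_tree lc_f_rc_20_1 lc_f_rc_10_3 lc_f_rc_20_1 lc_f_rc_17_3 lc_f_rc_17_3 lc_f_rc_20_1 lc_f_rc_14_1 lc_f_rc_21_1 lc_f_Cert_tree lc_f_rc_21_1 lc_f_rc_20_1 lc_f_Cert_tree lc_f_rc_20_1 lc_f_rc_21_1 lc_f_rc_5_3 lc_f_rc_19_5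 lc_f_Cert_tree lc_f_rc_14_3 lc_f_Cert_tree lc_f_rc_5_3 lc_f_rc_5_3 lc_f_Cert_tree lc_f_rc_14_3 lc_f_rc_14_3 lc_f_rc_10_1 lc_f_rc_17_1 lc_f_rc_20_1 lc_f_rc_19_3 lc_f_rc_5_1 lc_f_rc_5_1 lc_f_rc_5_3 lc_f_rc_5_3 lc_f_rc_20_1 lc_f_rc_10_1 lc_f_rc_19_3 lc_f_rc_14_1 lc_f_rc_21_1 lc_f_rc_10_1 lc_f_rc_10_1 lc_f_Cert_tree lc_f_rc_20_1 lc_f_rc_14_3) (@D3.rec (fun _ => (Cert rels S Gen.f)) lc_f_rc_17_3 lc_f_rc_17_3 lc_f_Cert_tree lc_f_rc_20_1 lc_f_rc_10_1 lc_f_rc_20_1 lc_f_rc_20_1 lc_f_rc_20_1 lc_f_rc_10_3 lc_f_Cert_tree lc_f_rc_20_1 lc_f_rc_14_3 lc_f_Cert_tree lc_f_rc_17_1 lc_f_rc_22_1 lc_f_rc_17_3 lc_f_Cert_tree lc_f_rc_17_3 lc_f_Cert_tree lc_f_rc_20_1 lc_f_rc_17_1 lc_f_rc_17_3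 lc_f_rc_20_1 lc_f_rc_14_3 lc_f_Cert_tree lc_f_rc_17_3 lc_f_rc_10_3 lc_f_rc_17_1 lc_f_rc_20_1 lc_f_Cert_tree lc_f_rc_14_3 lc_f_rc_21_1 lc_f_rc_5_3 lc_f_rc_10_3 lc_f_Cert_tree lc_f_rc_21_1 lc_f_rc_20_1 lc_f_rc_20_1 lc_f_rc_14_1 lc_f_rc_10_3 lc_f_rc_20_1 lc_f_rc_22_1 lc_f_Cert_tree lc_f_rc_21_1 lc_f_rc_14_3 lc_f_rc_20_1 lc_f_rc_22_1 lc_f_rc_17_3 lc_f_rc_17_3 lc_f_rc_14_1 lc_f_Cert_tree lc_f_rc_20_1 lc_f_rc_19_3 lc_f_rc_14_3 lc_f_rc_14_1 lc_f_rc_17_3 lc_f_rc_14_3 lc_f_rc_20_1 lc_f_rc_20_1 lc_f_rc_17_3 lc_f_rc_20_1 lc_f_rc_20_1) (@D3.rec (fun _ => (Cert rels S Gen.f)) lc_f_rc_21_1 lc_f_rc_17_1 lc_f_rc_20_1 lc_f_rc_20_1 lc_f_rc_14_3 lc_f_rc_10_3 lc_f_rc_10_3 lc_f_rc_10_3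 lc_f_rc_5_3 lc_f_Cert_tree lc_f_rc_17_3 lc_f_rc_14_3 lc_f_Cert_tree lc_f_rc_17_3 lc_f_rc_17_3 lc_f_rc_10_3 lc_f_rc_14_3 lc_f_rc_14_3 lc_f_rc_14_1 lc_f_Cert_tree lc_f_rc_20_1 lc_f_rc_21_1 lc_f_Cert_tree lc_f_rc_10_3 lc_f_rc_20_1 lc_f_rc_14_3 lc_f_rc_10_1 lc_f_rc_14_1 lc_f_rc_17_3 lc_f_rc_21_1 lc_f_rc_17_3 lc_f_rc_17_3 lc_f_rc_21_1 lc_f_rc_5_1 lc_f_Cert_tree lc_f_rc_20_1 lc_f_rc_17_3 lc_f_rc_5_3 lc_f_rc_10_3 lc_f_rc_10_3 lc_f_rc_14_3 lc_f_rc_21_1 lc_f_rc_5_1 lc_f_rc_21_1 lc_f_rc_10_3 lc_f_rc_14_1 lc_f_rc_20_1 lc_f_rc_21_1 lc_f_Cert_tree lc_f_rc_20_1 lc_f_rc_19_5 lc_f_rc_21_1 lc_f_rc_17_3 lc_f_rc_10_3 lc_f_rc_5_1 lc_f_rc_5_3 lc_f_rc_21_1 lc_f_rc_5_1 lc_f_rc_20_1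 lc_f_rc_19_5 lc_f_rc_14_3 lc_f_rc_17_3) (@D3.rec (fun _ => (Cert rels S Gen.f)) lc_f_rc_21_1 lc_f_rc_20_1 lc_f_Cert_tree lc_f_rc_20_1 lc_f_rc_20_1 lc_f_rc_14_3 lc_f_rc_14_3 lc_f_rc_5_1 lc_f_rc_14_1 lc_f_rc_14_1 lc_f_rc_14_3 lc_f_Cert_tree lc_f_rc_20_1 lc_f_rc_17_3 lc_f_rc_17_3 lc_f_rc_10_1 lc_f_rc_5_3 lc_f_rc_20_1 lc_f_rc_14_1 lc_f_rc_10_3 lc_f_rc_22_1 lc_f_rc_17_3 lc_f_rc_14_3 lc_f_rc_14_3 lc_f_Cert_tree lc_f_rc_20_1 lc_f_rc_17_3 lc_f_rc_17_1 lc_f_rc_20_1 lc_f_rc_10_1 lc_f_rc_14_3 lc_f_rc_14_3 lc_f_rc_14_3 lc_f_Cert_tree lc_f_rc_14_3 lc_f_rc_21_1 lc_f_rc_5_3 lc_f_rc_20_1 lc_f_Cert_tree lc_f_rc_20_1 lc_f_rc_10_3 lc_f_rc_19_3 lc_f_rc_5_1 lc_f_rc_10_3 lc_f_Cert_tree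 lc_f_rc_5_3 lc_f_rc_10_3 lc_f_rc_21_1 lc_f_Cert_tree lc_f_rc_20_1 lc_f_rc_10_3 lc_f_rc_20_1 lc_f_rc_17_3 lc_f_rc_10_3 lc_f_rc_10_3 lc_f_rc_20_1 lc_f_Cert_tree lc_f_rc_19_5 lc_f_rc_10_3 lc_f_Cert_tree lc_f_rc_20_1 lc_f_rc_17_3) (@D3.rec (fun _ => (Cert rels S Gen.f)) lc_f_rc_17_3 lc_f_rc_14_3 lc_f_Cert_tree lc_f_rc_10_3 lc_f_rc_14_3 lc_f_Cert_tree lc_f_rc_17_3 lc_f_rc_14_3 lc_f_rc_21_1 lc_f_Cert_tree lc_f_rc_17_3 lc_f_rc_14_3 lc_f_Cert_tree lc_f_rc_21_1 lc_f_rc_14_3 lc_f_Cert_tree lc_f_rc_17_1 lc_f_rc_20_1 lc_f_rc_19_3 lc_f_rc_19_3 lc_f_rc_14_3 lc_f_Cert_tree lc_f_rc_20_1 lc_f_rc_14_3 lc_f_rc_17_3 lc_f_rc_20_1 lc_f_rc_21_1 lc_f_rc_20_1 lc_f_rc_10_1 lc_f_Cert_tree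 lc_f_rc_10_3 lc_f_rc_21_1 lc_f_rc_14_3 lc_f_Cert_tree lc_f_rc_20_1 lc_f_rc_5_3 lc_f_rc_5_3 lc_f_rc_20_1 lc_f_rc_20_1 lc_f_Cert_tree lc_f_rc_20_1 lc_f_rc_21_1 lc_f_Cert_tree lc_f_rc_20_1 lc_f_Cert_tree lc_f_rc_20_1 lc_f_rc_10_3 lc_f_rc_5_3 lc_f_rc_5_3 lc_f_Cert_tree lc_f_rc_10_1 lc_f_rc_14_3 lc_f_rc_17_3 lc_f_rc_21_1 lc_f_rc_5_3 lc_f_rc_14_3 lc_f_rc_10_1 lc_f_rc_17_3 lc_f_Cert_tree lc_f_rc_20_1 lc_f_rc_14_3 lc_f_rc_21_1) (@D3.rec (fun _ => (Cert rels S Gen.f)) lc_f_rc_17_1 lc_f_rc_20_1 lc_f_rc_19_3 lc_f_rc_10_1 lc_f_rc_10_1 lc_f_rc_20_1 lc_f_rc_14_3 lc_f_rc_5_1 lc_f_rc_21_1 lc_f_rc_20_1 lc_f_rc_10_1 lc_f_rc_17_3 lc_f_rc_14_3 lc_f_rc_20_1 lc_f_rc_21_1 lc_f_Cert_tree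 lc_f_rc_20_1 lc_f_rc_19_3 lc_f_rc_21_1 lc_f_rc_17_3 lc_f_Cert_tree lc_f_rc_14_3 lc_f_rc_5_3 lc_f_Cert_tree lc_f_rc_21_1 lc_f_rc_20_1 lc_f_rc_21_1 lc_f_rc_14_3 lc_f_rc_10_3 lc_f_rc_17_3 lc_f_rc_14_3 lc_f_rc_14_3 lc_f_rc_20_1 lc_f_rc_20_1 lc_f_rc_14_3 lc_f_rc_10_3 lc_f_rc_20_1 lc_f_rc_14_3 lc_f_rc_19_3 lc_f_rc_10_3 lc_f_rc_17_3 lc_f_rc_21_1 lc_f_rc_14_3 lc_f_rc_14_1 lc_f_Cert_tree lc_f_rc_20_1 lc_f_rc_19_3 lc_f_rc_17_3 lc_f_rc_21_1 lc_f_rc_20_1 lc_f_rc_5_1 lc_f_rc_19_3 lc_f_rc_17_3 lc_f_Cert_tree lc_f_rc_20_1 lc_f_rc_21_1 lc_f_rc_20_1 lc_f_rc_14_3 lc_f_rc_17_3 lc_f_rc_14_3 lc_f_rc_21_1 lc_f_rc_10_3) (@D3.rec (fun _ => (Cert rels S Gen.f)) lc_f_rc_20_1 lc_f_rc_14_3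 lc_f_rc_10_1 lc_f_rc_14_3 lc_f_rc_20_1 lc_f_rc_17_3 lc_f_rc_20_1 lc_f_rc_10_3 lc_f_rc_20_1 lc_f_Cert_tree lc_f_rc_21_1 lc_f_rc_20_1 lc_f_rc_20_1 lc_f_rc_20_1 lc_f_rc_14_3 lc_f_rc_17_3 lc_f_rc_5_3 lc_f_rc_21_1 lc_f_Cert_tree lc_f_rc_22_1 lc_f_rc_17_3 lc_f_rc_20_1 lc_f_rc_20_1 lc_f_rc_10_1 lc_f_rc_17_3 lc_f_Cert_tree lc_f_rc_20_1 lc_f_rc_5_1 lc_f_rc_21_1 lc_f_rc_17_3 lc_f_rc_14_1 lc_f_rc_10_3 lc_f_rc_22_1 lc_f_rc_20_1 lc_f_rc_10_3 lc_f_rc_5_1 lc_f_rc_21_1 lc_f_rc_20_1 lc_f_rc_10_3 lc_f_rc_10_1 lc_f_rc_22_1 lc_f_rc_17_3 lc_f_rc_20_1 lc_f_rc_10_3 lc_f_rc_21_1 lc_f_rc_20_1 lc_f_rc_19_1 lc_f_rc_21_1 lc_f_rc_20_1 lc_f_rc_10_3 lc_f_Cert_tree lc_f_Cert_tree lc_f_rc_5_1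 lc_f_rc_20_1 lc_f_rc_5_1 lc_f_rc_20_1 lc_f_rc_5_1 lc_f_rc_5_3 lc_f_rc_20_1 lc_f_rc_17_3 lc_f_rc_21_1 lc_f_rc_20_1) (@D3.rec (fun _ => (Cert rels S Gen.f)) lc_f_rc_14_1 lc_f_rc_17_1 lc_f_rc_10_1 lc_f_rc_14_3 lc_f_Cert_tree lc_f_rc_20_1 lc_f_rc_14_3 lc_f_Cert_tree lc_f_rc_20_1 lc_f_rc_5_3 lc_f_rc_20_1 lc_f_rc_17_1 lc_f_Cert_tree lc_f_rc_10_1 lc_f_rc_17_1 lc_f_rc_10_3 lc_f_rc_20_1 lc_f_rc_22_1 lc_f_Cert_tree lc_f_rc_20_1 lc_f_rc_19_3 lc_f_rc_10_3 lc_f_Cert_tree lc_f_rc_14_1 lc_f_rc_20_1 lc_f_rc_19_1 lc_f_rc_14_3 lc_f_rc_5_1 lc_f_rc_17_3 lc_f_rc_20_1 lc_f_rc_20_1 lc_f_rc_14_1 lc_f_rc_20_1 lc_f_rc_14_3 lc_f_rc_20_1 lc_f_rc_10_3 lc_f_rc_17_3 lc_f_rc_21_1 lc_f_rc_20_1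 lc_f_rc_10_3 lc_f_Cert_tree lc_f_rc_20_1 lc_f_rc_20_1 lc_f_rc_10_3 lc_f_rc_5_1 lc_f_rc_17_3 lc_f_rc_10_1 lc_f_Cert_tree lc_f_rc_21_1 lc_f_rc_14_3 lc_f_Cert_tree lc_f_rc_20_1 lc_f_rc_21_1 lc_f_rc_21_1 lc_f_Cert_tree lc_f_rc_5_1 lc_f_rc_20_1 lc_f_rc_21_1 lc_f_rc_20_1 lc_f_Cert_tree lc_f_rc_20_1 lc_f_rc_19_3) (@D3.rec (fun _ => (Cert rels S Gen.f)) lc_f_rc_19_3 lc_f_Cert_tree lc_f_rc_10_1 lc_f_rc_20_1 lc_f_rc_19_3 lc_f_rc_21_1 lc_f_rc_17_3 lc_f_rc_5_3 lc_f_rc_19_3 lc_f_rc_17_3 lc_f_rc_20_1 lc_f_rc_5_3 lc_f_rc_14_3 lc_f_rc_19_3 lc_f_rc_19_3 lc_f_rc_21_1 lc_f_rc_20_1 lc_f_rc_20_1 lc_f_rc_20_1 lc_f_rc_21_1 lc_f_rc_17_3 lc_f_rc_10_3 lc_f_rc_22_1 lc_f_rc_21_1 lc_f_rc_14_3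 lc_f_rc_10_3 lc_f_rc_10_1 lc_f_rc_14_3 lc_f_rc_10_1 lc_f_Cert_tree lc_f_rc_20_1 lc_f_rc_20_1 lc_f_rc_5_3 lc_f_Cert_tree lc_f_rc_10_3 lc_f_rc_17_3 lc_f_rc_14_1 lc_f_rc_17_3 lc_f_rc_5_1 lc_f_Cert_tree lc_f_rc_20_1 lc_f_rc_14_1 lc_f_rc_5_3 lc_f_rc_19_1 lc_f_rc_14_3 lc_f_rc_20_1 lc_f_rc_5_1 lc_f_rc_14_3 lc_f_Cert_tree lc_f_Cert_tree lc_f_rc_20_1 lc_f_rc_19_3 lc_f_rc_10_1 lc_f_rc_14_3 lc_f_Cert_tree lc_f_rc_17_1 lc_f_rc_21_1 lc_f_rc_20_1 lc_f_rc_5_3 lc_f_rc_14_3 lc_f_rc_10_1 lc_f_rc_21_1) (@D3.rec (fun _ => (Cert rels S Gen.f)) lc_f_rc_21_1 lc_f_rc_17_3 lc_f_rc_14_1 lc_f_rc_17_3 lc_f_rc_5_3 lc_f_rc_20_1 lc_f_Cert_tree lc_f_rc_20_1 lc_f_rc_17_3 lc_f_rc_17_3 lc_f_rc_14_1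 lc_f_Cert_tree lc_f_rc_20_1 lc_f_rc_19_3 lc_f_rc_21_1 lc_f_rc_5_3 lc_f_Cert_tree lc_f_rc_10_3 lc_f_rc_21_1 lc_f_Cert_tree lc_f_rc_20_1 lc_f_rc_21_1 lc_f_rc_14_3 lc_f_Cert_tree lc_f_rc_20_1 lc_f_rc_14_3 lc_f_rc_17_3 lc_f_rc_5_1 lc_f_rc_17_3 lc_f_rc_14_1 lc_f_rc_20_1 lc_f_rc_21_1 lc_f_rc_17_3 lc_f_Cert_tree lc_f_rc_14_3 lc_f_rc_17_3 lc_f_rc_19_3 lc_f_rc_14_3 lc_f_rc_20_1 lc_f_rc_17_3 lc_f_rc_14_3 lc_f_rc_10_3 lc_f_rc_5_3 lc_f_rc_5_3 lc_f_Cert_tree lc_f_rc_20_1 lc_f_rc_5_3 lc_f_rc_17_3 lc_f_rc_10_1 lc_f_Cert_tree lc_f_rc_5_1 lc_f_Cert_tree lc_f_rc_20_1 lc_f_rc_5_3 lc_f_rc_17_1 lc_f_rc_17_1 lc_f_rc_19_5 lc_f_rc_10_3 lc_f_rc_20_1 lc_f_rc_10_3 lc_f_rc_21_1 lc_f_rc_17_3)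 (@D3.rec (fun _ => (Cert rels S Gen.f)) lc_f_rc_14_1 lc_f_rc_14_3 lc_f_rc_10_3 lc_f_rc_14_3 lc_f_rc_20_1 lc_f_Cert_tree lc_f_Cert_tree lc_f_rc_14_3 lc_f_rc_21_1 lc_f_Cert_tree lc_f_rc_20_1 lc_f_rc_17_3 lc_f_rc_14_3 lc_f_rc_10_3 lc_f_rc_17_1 lc_f_rc_17_1 lc_f_rc_20_1 lc_f_rc_21_1 lc_f_rc_17_3 lc_f_rc_20_1 lc_f_rc_21_1 lc_f_Cert_tree lc_f_rc_20_1 lc_f_rc_17_3 lc_f_rc_21_1 lc_f_rc_5_1 lc_f_rc_14_3 lc_f_rc_10_3 lc_f_rc_17_1 lc_f_rc_20_1 lc_f_rc_20_1 lc_f_rc_20_1 lc_f_rc_10_3 lc_f_rc_20_1 lc_f_rc_10_3 lc_f_rc_17_3 lc_f_rc_14_3 lc_f_Cert_tree lc_f_rc_19_3 lc_f_rc_20_1 lc_f_rc_17_1 lc_f_rc_20_1 lc_f_rc_17_3 lc_f_rc_20_1 lc_f_rc_14_1 lc_f_rc_10_1 lc_f_rc_20_1 lc_f_rc_17_3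 lc_f_rc_5_3 lc_f_rc_10_1 lc_f_rc_20_1 lc_f_rc_20_1 lc_f_rc_21_1 lc_f_rc_10_3 lc_f_rc_20_1 lc_f_rc_20_1 lc_f_rc_5_1 lc_f_rc_17_3 lc_f_rc_20_1 lc_f_rc_14_1 lc_f_rc_17_3 lc_f_rc_19_3) (@D3.rec (fun _ => (Cert rels S Gen.f)) lc_f_rc_5_3 lc_f_rc_10_3 lc_f_rc_20_1 lc_f_rc_20_1 lc_f_rc_10_3 lc_f_rc_19_3 lc_f_rc_21_1 lc_f_rc_20_1 lc_f_rc_17_3 lc_f_rc_19_5 lc_f_rc_17_3 lc_f_rc_19_3 lc_f_Cert_tree lc_f_rc_17_3 lc_f_rc_21_1 lc_f_rc_19_1 lc_f_rc_14_1 lc_f_rc_20_1 lc_f_rc_5_1 lc_f_rc_19_3 lc_f_rc_21_1 lc_f_rc_20_1 lc_f_rc_14_1 lc_f_rc_14_3 lc_f_Cert_tree lc_f_rc_20_1 lc_f_rc_17_3 lc_f_Cert_tree lc_f_rc_20_1 lc_f_rc_10_3 lc_f_rc_20_1 lc_f_rc_17_3 lc_f_rc_5_1 lc_f_Cert_tree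 lc_f_rc_20_1 lc_f_rc_14_1 lc_f_rc_20_1 lc_f_rc_20_1 lc_f_rc_5_1 lc_f_rc_14_1 lc_f_Cert_tree lc_f_rc_14_1 lc_f_rc_14_1 lc_f_Cert_tree lc_f_rc_20_1 lc_f_rc_17_3 lc_f_rc_17_1 lc_f_Cert_tree lc_f_rc_20_1 lc_f_rc_17_3 lc_f_Cert_tree lc_f_rc_20_1 lc_f_rc_10_3 lc_f_rc_5_1 lc_f_Cert_tree lc_f_rc_20_1 lc_f_rc_5_1 lc_f_rc_10_3 lc_f_rc_5_1 lc_f_rc_10_1 lc_f_rc_14_1 lc_f_rc_10_1) (@D3.rec (fun _ => (Cert rels S Gen.f)) lc_f_Cert_tree lc_f_rc_20_1 lc_f_rc_14_3 lc_f_rc_21_1 lc_f_rc_21_1 lc_f_Cert_tree lc_f_rc_21_1 lc_f_rc_17_3 lc_f_rc_17_1 lc_f_rc_17_3 lc_f_rc_21_1 lc_f_Cert_tree lc_f_rc_20_1 lc_f_rc_21_1 lc_f_rc_5_1 lc_f_rc_19_3 lc_f_rc_21_1 lc_f_rc_21_1 lc_f_rc_5_1 lc_f_rc_5_3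 lc_f_rc_14_1 lc_f_rc_10_3 lc_f_rc_17_3 lc_f_rc_21_1 lc_f_rc_22_1 lc_f_rc_17_3 lc_f_rc_14_3 lc_f_rc_14_3 lc_f_rc_22_1 lc_f_rc_10_3 lc_f_rc_5_1 lc_f_rc_14_1 lc_f_Cert_tree lc_f_rc_14_3 lc_f_rc_10_3 lc_f_Cert_tree lc_f_rc_14_3 lc_f_rc_20_1 lc_f_rc_19_3 lc_f_rc_10_3 lc_f_rc_17_3 lc_f_rc_19_3 lc_f_rc_17_1 lc_f_rc_10_1 lc_f_rc_21_1 lc_f_rc_20_1 lc_f_rc_17_3 lc_f_rc_21_1 lc_f_rc_10_3 lc_f_rc_10_1 lc_f_rc_10_3 lc_f_rc_19_3 lc_f_rc_17_3 lc_f_rc_17_1 lc_f_rc_14_1 lc_f_rc_19_3 lc_f_rc_19_1 lc_f_rc_21_1 lc_f_rc_20_1 lc_f_rc_19_1 lc_f_rc_14_3 lc_f_rc_10_3) (@D3.rec (fun _ => (Cert rels S Gen.f)) lc_f_rc_21_1 lc_f_rc_20_1 lc_f_rc_10_3 lc_f_rc_5_1 lc_f_rc_21_1 lc_f_rc_19_1 lc_f_rc_21_1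 lc_f_rc_20_1 lc_f_rc_5_1 lc_f_rc_14_3 lc_f_rc_14_3 lc_f_rc_10_3 lc_f_rc_17_3 lc_f_rc_14_1 lc_f_rc_5_3 lc_f_rc_17_3 lc_f_rc_14_1 lc_f_rc_19_3 lc_f_rc_20_1 lc_f_rc_14_3 lc_f_rc_5_3 lc_f_rc_17_3 lc_f_rc_17_3 lc_f_rc_10_3 lc_f_rc_17_3 lc_f_rc_19_3 lc_f_rc_14_3 lc_f_rc_10_3 lc_f_rc_22_1 lc_f_Cert_tree lc_f_rc_21_1 lc_f_rc_17_3 lc_f_rc_20_1 lc_f_rc_17_3 lc_f_rc_14_3 lc_f_Cert_tree lc_f_rc_21_1 lc_f_rc_20_1 lc_f_rc_14_3 lc_f_rc_10_3 lc_f_rc_14_3 lc_f_rc_20_1 lc_f_rc_17_3 lc_f_rc_17_3 lc_f_rc_14_1 lc_f_rc_17_1 lc_f_rc_10_3 lc_f_rc_22_1 lc_f_Cert_tree lc_f_rc_10_3 lc_f_rc_21_1 lc_f_rc_20_1 lc_f_rc_10_3 lc_f_rc_17_3 lc_f_rc_14_3 lc_f_rc_10_3 lc_f_rc_17_3 lc_f_rc_14_3 lc_f_rc_10_3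 lc_f_rc_5_1 lc_f_rc_5_3 lc_f_rc_17_3) (@D3.rec (fun _ => (Cert rels S Gen.f)) lc_f_rc_22_1 lc_f_rc_17_1 lc_f_Cert_tree lc_f_rc_17_3 lc_f_rc_17_3 lc_f_rc_17_3 lc_f_rc_14_3 lc_f_rc_5_3 lc_f_rc_19_1 lc_f_rc_10_3 lc_f_rc_20_1 lc_f_rc_5_1 lc_f_rc_10_3 lc_f_rc_10_3 lc_f_rc_10_3 lc_f_rc_20_1 lc_f_rc_5_3 lc_f_rc_20_1 lc_f_rc_10_3 lc_f_rc_10_3 lc_f_rc_14_3 lc_f_rc_20_1 lc_f_rc_21_1 lc_f_rc_10_3 lc_f_rc_17_1 lc_f_rc_17_3 lc_f_rc_14_3 lc_f_rc_17_3 lc_f_rc_21_1 lc_f_rc_20_1 lc_f_rc_10_3 lc_f_rc_20_1 lc_f_rc_20_1 lc_f_rc_14_1 lc_f_Cert_tree lc_f_rc_20_1 lc_f_rc_19_3 lc_f_rc_20_1 lc_f_rc_10_3 lc_f_rc_14_1 lc_f_rc_22_1 lc_f_rc_17_1 lc_f_rc_10_1 lc_f_rc_17_3 lc_f_rc_21_1 lc_f_rc_20_1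 lc_f_rc_5_1 lc_f_rc_10_3 lc_f_rc_10_3 lc_f_rc_19_3 lc_f_rc_17_3 lc_f_rc_14_3 lc_f_Cert_tree lc_f_rc_20_1 lc_f_rc_5_3 lc_f_rc_14_3 lc_f_rc_21_1 lc_f_rc_17_1 lc_f_rc_5_1 lc_f_rc_17_3 lc_f_rc_20_1 lc_f_Cert_tree) (@D3.rec (fun _ => (Cert rels S Gen.f)) lc_f_rc_21_1 lc_f_rc_10_3 lc_f_rc_20_1 lc_f_rc_10_1 lc_f_rc_19_5 lc_f_rc_20_1 lc_f_rc_10_3 lc_f_rc_10_1 lc_f_rc_14_1 lc_f_rc_21_1 lc_f_rc_21_1 lc_f_rc_17_3 lc_f_rc_14_3 lc_f_rc_20_1 lc_f_rc_21_1 lc_f_rc_10_1 lc_f_rc_19_3 lc_f_rc_21_1 lc_f_rc_14_3 lc_f_rc_10_3 lc_f_rc_5_1 lc_f_rc_10_3 lc_f_rc_20_1 lc_f_rc_17_1 lc_f_rc_14_3 lc_f_rc_21_1 lc_f_rc_19_5 lc_f_rc_14_3 lc_f_rc_10_1 lc_f_rc_19_5 lc_f_rc_21_1 lc_f_Cert_tree lc_f_rc_20_1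 lc_f_rc_10_3 lc_f_rc_10_3 lc_f_rc_21_1 lc_f_rc_17_3 lc_f_rc_5_1 lc_f_rc_5_3 lc_f_rc_20_1 lc_f_rc_17_3 lc_f_rc_14_1 lc_f_rc_17_3 lc_f_rc_5_1 lc_f_rc_17_3 lc_f_rc_20_1 lc_f_rc_14_1 lc_f_rc_20_1 lc_f_rc_14_1 lc_f_rc_17_3 lc_f_rc_19_5 lc_f_rc_21_1 lc_f_rc_21_1 lc_f_rc_20_1 lc_f_rc_21_1 lc_f_rc_14_3 lc_f_rc_14_3 lc_f_rc_10_3 lc_f_rc_21_1 lc_f_rc_10_1 lc_f_rc_14_3 lc_f_rc_14_1) (@D3.rec (fun _ => (Cert rels S Gen.f)) lc_f_rc_5_3 lc_f_rc_21_1 lc_f_rc_17_1 lc_f_rc_20_1 lc_f_rc_14_3 lc_f_rc_10_3 lc_f_rc_17_3 lc_f_rc_17_1 lc_f_rc_17_3 lc_f_rc_21_1 lc_f_rc_22_1 lc_f_rc_20_1 lc_f_rc_14_3 lc_f_rc_21_1 lc_f_rc_14_3 lc_f_rc_21_1 lc_f_rc_19_5 lc_f_rc_21_1 lc_f_rc_10_1 lc_f_rc_17_3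 lc_f_rc_20_1 lc_f_rc_20_1 lc_f_rc_14_1 lc_f_rc_10_1 lc_f_rc_5_3 lc_f_rc_17_3 lc_f_rc_10_1 lc_f_rc_17_3 lc_f_rc_10_1 lc_f_rc_10_3 lc_f_rc_17_1 lc_f_rc_5_1 lc_f_rc_14_1 lc_f_Cert_tree lc_f_rc_14_1 lc_f_rc_20_1 lc_f_rc_10_3 lc_f_rc_17_1 lc_f_Cert_tree lc_f_rc_5_1 lc_f_rc_17_1 lc_f_rc_20_1 lc_f_rc_10_3 lc_f_rc_10_3 lc_f_rc_17_3 lc_f_rc_10_3 lc_f_rc_14_3 lc_f_Cert_tree lc_f_rc_5_3 lc_f_rc_14_3 lc_f_rc_20_1 lc_f_rc_20_1 lc_f_rc_5_3 lc_f_Cert_tree lc_f_rc_17_3 lc_f_rc_21_1 lc_f_rc_20_1 lc_f_rc_10_3 lc_f_rc_17_3 lc_f_rc_17_3 lc_f_Cert_tree lc_f_rc_19_3) (@D3.rec (fun _ => (Cert rels S Gen.f)) lc_f_rc_20_1 lc_f_rc_20_1 lc_f_rc_10_1 lc_f_rc_14_1 lc_f_rc_20_1 lc_f_rc_14_3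 lc_f_rc_14_3 lc_f_rc_14_3 lc_f_rc_5_3 lc_f_rc_22_1 lc_f_rc_14_3 lc_f_rc_20_1 lc_f_Cert_tree lc_f_rc_20_1 lc_f_rc_20_1 lc_f_rc_14_1 lc_f_rc_17_3 lc_f_rc_20_1 lc_f_rc_21_1 lc_f_rc_17_3 lc_f_rc_17_3 lc_f_rc_5_3 lc_f_rc_14_3 lc_f_Cert_tree lc_f_rc_14_3 lc_f_rc_20_1 lc_f_rc_14_3 lc_f_rc_14_3 lc_f_rc_17_3 lc_f_rc_17_1 lc_f_rc_5_1 lc_f_rc_5_1 lc_f_rc_21_1 lc_f_rc_10_3 lc_f_rc_10_3 lc_f_Cert_tree lc_f_rc_5_3 lc_f_rc_19_1 lc_f_rc_17_3 lc_f_rc_10_3 lc_f_rc_19_5 lc_f_rc_5_1 lc_f_rc_17_3 lc_f_rc_14_1 lc_f_rc_22_1 lc_f_Cert_tree lc_f_rc_17_3 lc_f_rc_10_1 lc_f_rc_20_1 lc_f_rc_17_3 lc_f_rc_5_3 lc_f_rc_17_3 lc_f_rc_17_3 lc_f_rc_10_3 lc_f_rc_14_3 lc_f_Cert_tree lc_f_rc_21_1 lc_f_rc_20_1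 lc_f_rc_20_1 lc_f_rc_21_1 lc_f_rc_14_3 lc_f_rc_17_3) (@D3.rec (fun _ => (Cert rels S Gen.f)) lc_f_rc_17_1 lc_f_rc_14_3 lc_f_rc_17_1 lc_f_Cert_tree lc_f_rc_10_3 lc_f_Cert_tree lc_f_rc_14_3 lc_f_rc_21_1 lc_f_rc_20_1 lc_f_rc_20_1 lc_f_rc_21_1 lc_f_rc_21_1 lc_f_rc_20_1 lc_f_rc_14_1 lc_f_rc_10_3 lc_f_rc_17_3 lc_f_rc_10_3 lc_f_rc_21_1 lc_f_rc_10_3 lc_f_rc_20_1 lc_f_rc_10_3 lc_f_Cert_tree lc_f_rc_21_1 lc_f_rc_20_1 lc_f_rc_10_3 lc_f_rc_17_3 lc_f_Cert_tree lc_f_rc_10_3 lc_f_rc_17_3 lc_f_Cert_tree lc_f_Cert_tree lc_f_rc_21_1 lc_f_rc_5_1 lc_f_rc_10_3 lc_f_rc_20_1 lc_f_rc_14_3 lc_f_rc_21_1 lc_f_Cert_tree lc_f_rc_19_3 lc_f_rc_14_3 lc_f_rc_17_3 lc_f_rc_14_1 lc_f_rc_20_1 lc_f_rc_20_1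 lc_f_rc_10_3 lc_f_Cert_tree lc_f_rc_20_1 lc_f_rc_20_1 lc_f_rc_14_3 lc_f_Cert_tree lc_f_rc_20_1 lc_f_rc_14_1 lc_f_rc_17_3 lc_f_rc_21_1 lc_f_Cert_tree lc_f_rc_19_3 lc_f_rc_19_5 lc_f_rc_14_3 lc_f_rc_20_1 lc_f_rc_14_3 lc_f_rc_21_1 lc_f_rc_10_3) (@D3.rec (fun _ => (Cert rels S Gen.f)) lc_f_rc_14_3 lc_f_rc_21_1 lc_f_rc_20_1 lc_f_rc_5_3 lc_f_Cert_tree lc_f_Cert_tree lc_f_rc_5_3 lc_f_Cert_tree lc_f_rc_20_1 lc_f_rc_14_3 lc_f_rc_14_3 lc_f_Cert_tree lc_f_rc_20_1 lc_f_rc_21_1 lc_f_rc_20_1 lc_f_rc_14_3 lc_f_rc_14_1 lc_f_rc_10_3 lc_f_rc_19_3 lc_f_rc_19_5 lc_f_Cert_tree lc_f_rc_20_1 lc_f_rc_14_3 lc_f_rc_17_3 lc_f_rc_21_1 lc_f_rc_19_5 lc_f_rc_21_1 lc_f_rc_17_3 lc_f_rc_20_1 lc_f_rc_5_1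 lc_f_rc_14_3 lc_f_rc_5_1 lc_f_rc_5_3 lc_f_Cert_tree lc_f_Cert_tree lc_f_rc_5_1 lc_f_rc_14_3 lc_f_Cert_tree lc_f_rc_20_1 lc_f_rc_21_1 lc_f_rc_19_5 lc_f_rc_14_3 lc_f_rc_17_3 lc_f_rc_21_1 lc_f_rc_17_3 lc_f_Cert_tree lc_f_rc_17_3 lc_f_Cert_tree lc_f_rc_20_1 lc_f_rc_20_1 lc_f_rc_10_3 lc_f_rc_14_1 lc_f_rc_5_3 lc_f_rc_10_3 lc_f_rc_17_3 lc_f_Cert_tree lc_f_Cert_tree lc_f_rc_17_1 lc_f_rc_20_1 lc_f_rc_5_3 lc_f_rc_20_1 lc_f_rc_5_1) (@D3.rec (fun _ => (Cert rels S Gen.f)) lc_f_rc_17_3 lc_f_rc_17_1 lc_f_Cert_tree lc_f_rc_20_1 lc_f_rc_14_1 lc_f_rc_14_3 lc_f_rc_17_3 lc_f_rc_5_1 lc_f_rc_10_3 lc_f_Cert_tree lc_f_Cert_tree lc_f_rc_20_1 lc_f_rc_19_3 lc_f_rc_14_3 lc_f_Cert_tree lc_f_rc_10_3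 lc_f_Cert_tree lc_f_rc_17_3 lc_f_Cert_tree lc_f_rc_17_3 lc_f_rc_14_3 lc_f_rc_20_1 lc_f_rc_19_1 lc_f_rc_14_3 lc_f_rc_21_1 lc_f_rc_17_3 lc_f_rc_17_3 lc_f_rc_14_3 lc_f_rc_17_3 lc_f_rc_21_1 lc_f_rc_21_1 lc_f_rc_10_3 lc_f_rc_19_3 lc_f_rc_14_3 lc_f_rc_14_3 lc_f_rc_14_3 lc_f_rc_5_3 lc_f_rc_17_3 lc_f_Cert_tree lc_f_rc_19_3 lc_f_rc_21_1 lc_f_rc_5_3 lc_f_rc_20_1 lc_f_rc_14_3 lc_f_rc_19_5 lc_f_rc_10_3 lc_f_rc_22_1 lc_f_rc_14_3 lc_f_rc_17_3 lc_f_rc_17_3 lc_f_rc_14_3 lc_f_rc_5_1 lc_f_rc_20_1 lc_f_rc_21_1 lc_f_rc_14_3 lc_f_rc_10_3 lc_f_rc_19_1 lc_f_rc_21_1 lc_f_rc_17_1 lc_f_rc_20_1 lc_f_rc_10_3 lc_f_rc_10_3) (@D3.rec (fun _ => (Cert rels S Gen.f)) lc_f_rc_10_3 lc_f_rc_21_1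 lc_f_rc_5_3 lc_f_rc_17_3 lc_f_rc_20_1 lc_f_rc_22_1 lc_f_rc_17_3 lc_f_rc_14_3 lc_f_rc_5_1 lc_f_Cert_tree lc_f_rc_20_1 lc_f_rc_5_1 lc_f_rc_10_3 lc_f_rc_10_3 lc_f_rc_5_3 lc_f_rc_17_3 lc_f_rc_20_1 lc_f_rc_5_3 lc_f_rc_10_3 lc_f_rc_17_3 lc_f_rc_10_3 lc_f_rc_14_1 lc_f_rc_10_3 lc_f_rc_10_3 lc_f_rc_19_3 lc_f_rc_19_1 lc_f_rc_19_3 lc_f_rc_19_3 lc_f_rc_17_1 lc_f_rc_20_1 lc_f_rc_5_1 lc_f_rc_5_1 lc_f_rc_5_1 lc_f_rc_21_1 lc_f_rc_14_3 lc_f_rc_19_3 lc_f_rc_20_1 lc_f_rc_14_1 lc_f_rc_19_3 lc_f_rc_14_1 lc_f_rc_14_3 lc_f_rc_19_3 lc_f_rc_17_3 lc_f_rc_17_3 lc_f_rc_19_5 lc_f_rc_17_3 lc_f_rc_14_3 lc_f_rc_20_1 lc_f_rc_17_1 lc_f_rc_21_1 lc_f_rc_14_3 lc_f_rc_17_3 lc_f_rc_14_3 lc_f_rc_10_3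 lc_f_rc_20_1 lc_f_rc_20_1 lc_f_rc_14_1 lc_f_rc_5_3 lc_f_rc_10_3 lc_f_rc_5_3 lc_f_rc_17_1 lc_f_rc_20_1) (@D3.rec (fun _ => (Cert rels S Gen.f)) lc_f_rc_14_3 lc_f_rc_5_1 lc_f_rc_14_3 lc_f_rc_17_1 lc_f_rc_20_1 lc_f_rc_10_3 lc_f_rc_14_3 lc_f_rc_19_3 lc_f_rc_14_3 lc_f_rc_17_3 lc_f_rc_10_3 lc_f_rc_14_3 lc_f_rc_5_3 lc_f_rc_21_1 lc_f_rc_17_3 lc_f_rc_17_3 lc_f_rc_14_3 lc_f_rc_19_5 lc_f_rc_19_1 lc_f_rc_14_3 lc_f_rc_5_1 lc_f_rc_5_1 lc_f_rc_14_3 lc_f_rc_17_3 lc_f_rc_19_3 lc_f_rc_14_3 lc_f_rc_14_1 lc_f_rc_14_3 lc_f_rc_14_3 lc_f_rc_17_3 lc_f_rc_10_3 lc_f_rc_5_1 lc_f_rc_17_3 lc_f_rc_14_3 lc_f_rc_19_3 lc_f_rc_10_3 lc_f_rc_10_1 lc_f_rc_5_1 lc_f_rc_21_1 lc_f_rc_17_3 lc_f_rc_10_3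 lc_f_rc_19_5 lc_f_rc_17_3 lc_f_rc_17_3 lc_f_rc_22_1 lc_f_rc_14_3 lc_f_rc_20_1 lc_f_rc_19_1 lc_f_rc_19_5 lc_f_rc_21_1 lc_f_rc_10_3 lc_f_rc_5_1 lc_f_rc_17_3 lc_f_rc_10_3 lc_f_rc_10_3 lc_f_rc_14_3 lc_f_Cert_tree lc_f_rc_19_3 lc_f_rc_21_1 lc_f_Cert_tree lc_f_rc_20_1 lc_f_rc_20_1) (@D3.rec (fun _ => (Cert rels S Gen.f)) lc_f_rc_14_3 lc_f_rc_14_3 lc_f_rc_14_3 lc_f_rc_21_1 lc_f_rc_5_1 lc_f_rc_20_1 lc_f_rc_14_3 lc_f_rc_10_3 lc_f_rc_5_1 lc_f_rc_17_3 lc_f_rc_17_3 lc_f_rc_21_1 lc_f_rc_20_1 lc_f_rc_14_1 lc_f_rc_5_1 lc_f_rc_14_3 lc_f_rc_10_3 lc_f_Cert_tree lc_f_Cert_tree lc_f_rc_21_1 lc_f_Cert_tree lc_f_rc_20_1 lc_f_rc_5_3 lc_f_rc_19_3 lc_f_rc_20_1 lc_f_rc_5_3 lc_f_rc_19_5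 lc_f_rc_20_1 lc_f_rc_5_1 lc_f_rc_19_1 lc_f_rc_14_3 lc_f_rc_10_3 lc_f_rc_14_1 lc_f_rc_14_1 lc_f_rc_20_1 lc_f_rc_17_3 lc_f_rc_17_3 lc_f_rc_19_5 lc_f_rc_21_1 lc_f_rc_5_3 lc_f_rc_17_3 lc_f_Cert_tree lc_f_rc_14_3 lc_f_rc_14_3 lc_f_rc_17_1 lc_f_rc_17_3 lc_f_rc_14_3 lc_f_Cert_tree lc_f_rc_17_3 lc_f_rc_14_3 lc_f_rc_17_3 lc_f_Cert_tree lc_f_rc_5_1 lc_f_rc_10_3 lc_f_rc_20_1 lc_f_rc_14_3 lc_f_rc_20_1 lc_f_rc_19_1 lc_f_rc_19_3 lc_f_rc_19_3 lc_f_rc_10_3 lc_f_Cert_tree) (@D3.rec (fun _ => (Cert rels S Gen.f)) lc_f_rc_19_1 lc_f_rc_19_3 lc_f_rc_20_1 lc_f_Cert_tree lc_f_rc_10_3 lc_f_rc_5_1 lc_f_rc_20_1 lc_f_rc_10_3 lc_f_Cert_tree lc_f_rc_14_3 lc_f_rc_5_3 lc_f_rc_17_3 lc_f_rc_19_5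 lc_f_rc_21_1 lc_f_rc_20_1 lc_f_rc_20_1 lc_f_rc_19_1 lc_f_rc_10_1 lc_f_rc_19_1 lc_f_rc_10_3 lc_f_rc_5_1 lc_f_rc_20_1 lc_f_rc_19_3 lc_f_rc_5_1 lc_f_rc_19_5 lc_f_rc_14_3 lc_f_rc_17_3 lc_f_rc_20_1 lc_f_rc_20_1 lc_f_rc_20_1 lc_f_rc_14_3 lc_f_rc_14_1 lc_f_rc_14_3 lc_f_rc_21_1 lc_f_rc_20_1 lc_f_rc_22_1 lc_f_rc_17_3 lc_f_rc_10_3 lc_f_rc_5_1 lc_f_rc_20_1 lc_f_rc_20_1 lc_f_rc_20_1 lc_f_rc_17_1 lc_f_rc_17_1 lc_f_rc_10_3 lc_f_Cert_tree lc_f_rc_14_1 lc_f_rc_14_3 lc_f_Cert_tree lc_f_rc_20_1 lc_f_rc_5_3 lc_f_rc_17_1 lc_f_rc_10_1 lc_f_rc_17_1 lc_f_rc_21_1 lc_f_rc_21_1 lc_f_Cert_tree lc_f_rc_20_1 lc_f_rc_20_1 lc_f_rc_20_1 lc_f_rc_5_1 lc_f_rc_17_3) (@D3.rec (fun _ => (Cert rels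 S Gen.f)) lc_f_rc_10_3 lc_f_rc_10_1 lc_f_rc_17_3 lc_f_rc_14_1 lc_f_rc_5_3 lc_f_rc_20_1 lc_f_rc_10_3 lc_f_rc_17_1 lc_f_rc_17_3 lc_f_rc_14_1 lc_f_rc_21_1 lc_f_rc_14_3 lc_f_rc_20_1 lc_f_rc_5_3 lc_f_rc_17_3 lc_f_rc_21_1 lc_f_rc_10_1 lc_f_rc_17_3 lc_f_rc_14_1 lc_f_rc_21_1 lc_f_rc_20_1 lc_f_rc_20_1 lc_f_rc_14_3 lc_f_rc_10_1 lc_f_rc_17_3 lc_f_rc_14_1 lc_f_rc_20_1 lc_f_rc_21_1 lc_f_rc_20_1 lc_f_rc_17_3 lc_f_rc_5_1 lc_f_rc_10_3 lc_f_rc_17_3 lc_f_rc_21_1 lc_f_rc_5_1 lc_f_rc_17_3 lc_f_rc_22_1 lc_f_rc_20_1 lc_f_Cert_tree lc_f_rc_10_1 lc_f_rc_19_3 lc_f_rc_14_3 lc_f_rc_10_3 lc_f_rc_17_3 lc_f_rc_14_3 lc_f_rc_19_3 lc_f_rc_10_3 lc_f_rc_17_3 lc_f_rc_14_1 lc_f_rc_21_1 lc_f_rc_10_3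 lc_f_rc_5_3 lc_f_rc_20_1 lc_f_rc_21_1 lc_f_rc_19_3 lc_f_rc_10_3 lc_f_rc_17_1 lc_f_rc_17_3 lc_f_Cert_tree lc_f_rc_5_1 lc_f_rc_14_3 lc_f_rc_19_3)
def ce_f_12 : D2 → D3 → (Cert rels S Gen.f) := @D2.rec (fun _ => D3 → (Cert rels S Gen.f)) (@D3.rec (fun _ => (Cert rels S Gen.f)) lc_f_rc_5_1 lc_f_rc_21_1 lc_f_rc_17_3 lc_f_rc_21_1 lc_f_rc_20_1 lc_f_rc_14_3 lc_f_rc_10_3 lc_f_rc_17_3 lc_f_rc_10_3 lc_f_rc_17_1 lc_f_rc_10_3 lc_f_rc_17_3 lc_f_rc_14_3 lc_f_rc_10_3 lc_f_rc_14_1 lc_f_rc_19_5 lc_f_rc_17_3 lc_f_rc_14_3 lc_f_rc_10_3 lc_f_rc_14_3 lc_f_rc_10_3 lc_f_rc_17_3 lc_f_rc_10_3 lc_f_rc_17_3 lc_f_rc_20_1 lc_f_rc_21_1 lc_f_rc_10_1 lc_f_rc_10_3 lc_f_rc_22_1 lc_f_rc_22_1 lc_f_Cert_tree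 lc_f_rc_10_3 lc_f_Cert_tree lc_f_rc_5_3 lc_f_rc_5_1 lc_f_rc_20_1 lc_f_rc_10_3 lc_f_rc_5_1 lc_f_Cert_tree lc_f_rc_14_3 lc_f_rc_5_1 lc_f_rc_20_1 lc_f_rc_20_1 lc_f_rc_5_1 lc_f_rc_10_3 lc_f_rc_14_3 lc_f_rc_14_3 lc_f_rc_14_1 lc_f_rc_17_3 lc_f_rc_10_3 lc_f_rc_10_3 lc_f_rc_14_3 lc_f_Cert_tree lc_f_rc_21_1 lc_f_rc_5_1 lc_f_rc_17_1 lc_f_rc_20_1 lc_f_rc_14_3 lc_f_rc_17_3 lc_f_Cert_tree lc_f_rc_10_3 lc_f_rc_19_3) (@D3.rec (fun _ => (Cert rels S Gen.f)) lc_f_rc_10_3 lc_f_rc_14_3 lc_f_rc_14_3 lc_f_rc_19_5 lc_f_rc_10_1 lc_f_rc_17_3 lc_f_rc_14_1 lc_f_Cert_tree lc_f_rc_14_3 lc_f_rc_14_3 lc_f_rc_10_3 lc_f_rc_17_1 lc_f_rc_10_3 lc_f_rc_19_3 lc_f_rc_5_3 lc_f_rc_10_1 lc_f_rc_19_3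 lc_f_rc_14_3 lc_f_rc_20_1 lc_f_rc_20_1 lc_f_rc_20_1 lc_f_rc_19_3 lc_f_rc_10_3 lc_f_rc_5_3 lc_f_rc_14_1 lc_f_rc_20_1 lc_f_rc_20_1 lc_f_rc_17_3 lc_f_rc_19_1 lc_f_rc_17_3 lc_f_rc_17_3 lc_f_rc_17_3 lc_f_rc_21_1 lc_f_rc_20_1 lc_f_rc_5_3 lc_f_rc_10_3 lc_f_rc_20_1 lc_f_Cert_tree lc_f_Cert_tree lc_f_rc_5_1 lc_f_rc_14_3 lc_f_Cert_tree lc_f_rc_20_1 lc_f_Cert_tree lc_f_rc_20_1 lc_f_rc_5_1 lc_f_rc_14_3 lc_f_rc_14_1 lc_f_rc_20_1 lc_f_rc_20_1 lc_f_rc_20_1 lc_f_rc_20_1 lc_f_rc_17_3 lc_f_rc_14_3 lc_f_rc_10_3 lc_f_rc_5_1 lc_f_rc_10_3 lc_f_rc_21_1 lc_f_rc_21_1 lc_f_rc_14_3 lc_f_Cert_tree lc_f_rc_20_1) (@D3.rec (fun _ => (Cert rels S Gen.f)) lc_f_rc_17_3 lc_f_rc_5_1 lc_f_rc_10_1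 lc_f_rc_14_3 lc_f_rc_21_1 lc_f_Cert_tree lc_f_rc_20_1 lc_f_rc_20_1 lc_f_rc_17_3 lc_f_rc_14_3 lc_f_rc_17_3 lc_f_rc_5_3 lc_f_rc_17_3 lc_f_Cert_tree lc_f_rc_14_3 lc_f_rc_14_3 lc_f_rc_20_1 lc_f_Cert_tree lc_f_rc_5_1 lc_f_rc_10_3 lc_f_rc_17_1 lc_f_rc_20_1 lc_f_rc_14_3 lc_f_rc_14_3 lc_f_rc_10_1 lc_f_rc_17_1 lc_f_rc_14_3 lc_f_rc_22_1 lc_f_rc_20_1 lc_f_rc_20_1 lc_f_rc_17_3 lc_f_Cert_tree lc_f_rc_21_1 lc_f_rc_14_3 lc_f_rc_10_3 lc_f_Cert_tree lc_f_rc_21_1 lc_f_rc_21_1 lc_f_rc_20_1 lc_f_rc_20_1 lc_f_rc_10_3 lc_f_rc_17_1 lc_f_rc_21_1 lc_f_rc_17_3 lc_f_rc_17_3 lc_f_rc_19_5 lc_f_rc_21_1 lc_f_rc_5_3 lc_f_rc_14_3 lc_f_rc_14_3 lc_f_rc_20_1 lc_f_rc_17_3 lc_f_rc_22_1 lc_f_rc_10_3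 lc_f_rc_17_3 lc_f_rc_14_1 lc_f_rc_19_5 lc_f_rc_20_1 lc_f_rc_17_1 lc_f_rc_21_1 lc_f_rc_10_1 lc_f_Cert_tree) (@D3.rec (fun _ => (Cert rels S Gen.f)) lc_f_rc_17_1 lc_f_Cert_tree lc_f_rc_17_1 lc_f_Cert_tree lc_f_rc_20_1 lc_f_rc_10_3 lc_f_rc_14_1 lc_f_rc_14_3 lc_f_rc_14_3 lc_f_rc_17_1 lc_f_rc_21_1 lc_f_rc_10_1 lc_f_rc_17_3 lc_f_rc_10_3 lc_f_rc_21_1 lc_f_rc_5_1 lc_f_rc_20_1 lc_f_rc_5_3 lc_f_rc_14_3 lc_f_rc_10_3 lc_f_rc_17_3 lc_f_rc_10_3 lc_f_rc_17_3 lc_f_rc_10_3 lc_f_rc_10_3 lc_f_rc_14_3 lc_f_rc_14_3 lc_f_rc_10_3 lc_f_rc_5_3 lc_f_rc_17_3 lc_f_rc_17_3 lc_f_rc_21_1 lc_f_rc_20_1 lc_f_rc_5_1 lc_f_rc_21_1 lc_f_rc_20_1 lc_f_rc_20_1 lc_f_rc_21_1 lc_f_rc_14_3 lc_f_rc_14_3 lc_f_rc_20_1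 lc_f_rc_5_3 lc_f_rc_21_1 lc_f_rc_14_3 lc_f_rc_10_1 lc_f_Cert_tree lc_f_rc_20_1 lc_f_rc_20_1 lc_f_rc_10_3 lc_f_rc_5_1 lc_f_rc_14_3 lc_f_rc_17_3 lc_f_rc_14_3 lc_f_rc_21_1 lc_f_rc_10_3 lc_f_rc_14_3 lc_f_Cert_tree lc_f_rc_10_3 lc_f_rc_20_1 lc_f_rc_14_3 lc_f_rc_17_1 lc_f_rc_10_3) (@D3.rec (fun _ => (Cert rels S Gen.f)) lc_f_rc_5_3 lc_f_rc_17_3 lc_f_rc_17_3 lc_f_rc_19_1 lc_f_rc_17_3 lc_f_rc_17_3 lc_f_rc_20_1 lc_f_rc_10_3 lc_f_rc_21_1 lc_f_rc_17_3 lc_f_rc_21_1 lc_f_rc_14_3 lc_f_rc_5_3 lc_f_rc_10_3 lc_f_rc_19_3 lc_f_rc_20_1 lc_f_rc_10_3 lc_f_Cert_tree lc_f_rc_17_1 lc_f_rc_20_1 lc_f_rc_21_1 lc_f_rc_14_1 lc_f_rc_14_3 lc_f_rc_21_1 lc_f_rc_17_3 lc_f_rc_21_1 lc_f_rc_17_3 lc_f_rc_20_1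 lc_f_rc_20_1 lc_f_rc_10_3 lc_f_rc_17_3 lc_f_rc_22_1 lc_f_rc_17_3 lc_f_rc_19_3 lc_f_rc_10_3 lc_f_rc_10_3 lc_f_rc_14_3 lc_f_rc_21_1 lc_f_rc_5_3 lc_f_rc_20_1 lc_f_rc_20_1 lc_f_rc_20_1 lc_f_rc_10_3 lc_f_rc_14_3 lc_f_rc_10_3 lc_f_rc_17_1 lc_f_rc_17_3 lc_f_rc_5_3 lc_f_rc_14_3 lc_f_rc_14_3 lc_f_rc_10_3 lc_f_rc_17_3 lc_f_rc_14_3 lc_f_rc_10_3 lc_f_rc_17_1 lc_f_rc_17_3 lc_f_rc_5_3 lc_f_rc_17_1 lc_f_rc_14_3 lc_f_rc_21_1 lc_f_rc_14_3 lc_f_Cert_tree) (@D3.rec (fun _ => (Cert rels S Gen.f)) lc_f_rc_20_1 lc_f_rc_5_1 lc_f_rc_20_1 lc_f_rc_10_3 lc_f_rc_17_3 lc_f_rc_10_1 lc_f_rc_17_3 lc_f_rc_14_3 lc_f_Cert_tree lc_f_rc_20_1 lc_f_Cert_tree lc_f_rc_10_1 lc_f_rc_14_3 lc_f_Cert_tree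 lc_f_rc_5_1 lc_f_Cert_tree lc_f_rc_21_1 lc_f_rc_14_3 lc_f_rc_17_3 lc_f_rc_19_3 lc_f_rc_21_1 lc_f_rc_5_1 lc_f_rc_17_3 lc_f_rc_17_3 lc_f_Cert_tree lc_f_rc_5_1 lc_f_rc_20_1 lc_f_rc_17_3 lc_f_rc_17_3 lc_f_rc_5_1 lc_f_rc_20_1 lc_f_rc_17_3 lc_f_rc_14_3 lc_f_Cert_tree lc_f_rc_5_1 lc_f_rc_20_1 lc_f_rc_14_3 lc_f_rc_22_1 lc_f_rc_17_1 lc_f_rc_21_1 lc_f_rc_17_1 lc_f_rc_17_1 lc_f_rc_21_1 lc_f_rc_10_1 lc_f_rc_17_1 lc_f_rc_20_1 lc_f_rc_20_1 lc_f_rc_21_1 lc_f_rc_10_3 lc_f_rc_17_3 lc_f_rc_20_1 lc_f_Cert_tree lc_f_rc_17_3 lc_f_rc_17_3 lc_f_rc_20_1 lc_f_rc_17_3 lc_f_rc_14_1 lc_f_rc_10_3 lc_f_rc_22_1 lc_f_rc_19_5 lc_f_rc_20_1 lc_f_rc_21_1) (@D3.rec (fun _ => (Cert rels S Gen.f))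 lc_f_Cert_tree lc_f_rc_20_1 lc_f_Cert_tree lc_f_rc_10_3 lc_f_Cert_tree lc_f_Cert_tree lc_f_rc_14_3 lc_f_rc_20_1 lc_f_rc_19_3 lc_f_rc_17_3 lc_f_rc_5_3 lc_f_rc_20_1 lc_f_rc_20_1 lc_f_rc_10_3 lc_f_rc_14_3 lc_f_rc_20_1 lc_f_rc_14_3 lc_f_rc_5_1 lc_f_rc_5_3 lc_f_rc_19_1 lc_f_rc_5_1 lc_f_rc_22_1 lc_f_rc_10_3 lc_f_rc_17_3 lc_f_rc_5_3 lc_f_Cert_tree lc_f_rc_21_1 lc_f_rc_20_1 lc_f_rc_20_1 lc_f_rc_21_1 lc_f_rc_20_1 lc_f_rc_20_1 lc_f_Cert_tree lc_f_rc_17_1 lc_f_Cert_tree lc_f_rc_20_1 lc_f_rc_14_3 lc_f_rc_10_1 lc_f_rc_10_3 lc_f_rc_20_1 lc_f_Cert_tree lc_f_rc_14_3 lc_f_rc_20_1 lc_f_rc_19_3 lc_f_rc_17_3 lc_f_rc_17_3 lc_f_Cert_tree lc_f_rc_17_3 lc_f_Cert_tree lc_f_rc_5_3 lc_f_rc_20_1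 lc_f_rc_21_1 lc_f_rc_20_1 lc_f_rc_20_1 lc_f_rc_19_5 lc_f_rc_21_1 lc_f_rc_5_1 lc_f_rc_17_3 lc_f_rc_21_1 lc_f_rc_5_1 lc_f_Cert_tree lc_f_Cert_tree) (@D3.rec (fun _ => (Cert rels S Gen.f)) lc_f_rc_10_1 lc_f_rc_5_1 lc_f_rc_14_3 lc_f_rc_20_1 lc_f_rc_14_3 lc_f_rc_17_3 lc_f_rc_10_3 lc_f_rc_17_3 lc_f_rc_22_1 lc_f_rc_17_3 lc_f_rc_17_3 lc_f_rc_17_3 lc_f_rc_20_1 lc_f_rc_21_1 lc_f_rc_17_3 lc_f_rc_19_3 lc_f_rc_14_3 lc_f_rc_20_1 lc_f_rc_21_1 lc_f_rc_14_1 lc_f_rc_14_1 lc_f_rc_20_1 lc_f_Cert_tree lc_f_rc_5_1 lc_f_Cert_tree lc_f_rc_20_1 lc_f_rc_14_3 lc_f_rc_10_3 lc_f_Cert_tree lc_f_rc_20_1 lc_f_rc_17_3 lc_f_rc_20_1 lc_f_rc_14_3 lc_f_rc_19_1 lc_f_rc_5_1 lc_f_rc_14_1 lc_f_Cert_tree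 lc_f_rc_20_1 lc_f_rc_21_1 lc_f_rc_14_1 lc_f_rc_21_1 lc_f_rc_17_3 lc_f_rc_20_1 lc_f_rc_20_1 lc_f_rc_20_1 lc_f_Cert_tree lc_f_rc_21_1 lc_f_rc_10_3 lc_f_rc_20_1 lc_f_rc_20_1 lc_f_rc_20_1 lc_f_rc_5_3 lc_f_rc_14_3 lc_f_rc_17_3 lc_f_rc_14_3 lc_f_rc_22_1 lc_f_rc_22_1 lc_f_rc_19_3 lc_f_rc_19_3 lc_f_rc_17_1 lc_f_rc_20_1 lc_f_rc_21_1) (@D3.rec (fun _ => (Cert rels S Gen.f)) lc_f_rc_20_1 lc_f_rc_21_1 lc_f_rc_14_1 lc_f_rc_22_1 lc_f_rc_14_3 lc_f_rc_14_3 lc_f_rc_14_3 lc_f_rc_20_1 lc_f_rc_5_1 lc_f_rc_5_1 lc_f_Cert_tree lc_f_rc_20_1 lc_f_rc_20_1 lc_f_rc_14_3 lc_f_rc_14_3 lc_f_rc_10_3 lc_f_Cert_tree lc_f_rc_20_1 lc_f_rc_19_3 lc_f_rc_14_1 lc_f_rc_14_3 lc_f_rc_21_1 lc_f_rc_17_3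 lc_f_rc_14_3 lc_f_Cert_tree lc_f_rc_20_1 lc_f_rc_14_3 lc_f_rc_17_3 lc_f_Cert_tree lc_f_rc_5_3 lc_f_rc_20_1 lc_f_Cert_tree lc_f_rc_21_1 lc_f_rc_17_3 lc_f_Cert_tree lc_f_rc_21_1 lc_f_rc_5_3 lc_f_rc_20_1 lc_f_rc_21_1 lc_f_Cert_tree lc_f_rc_20_1 lc_f_rc_14_3 lc_f_rc_10_3 lc_f_rc_20_1 lc_f_rc_10_3 lc_f_rc_17_3 lc_f_Cert_tree lc_f_rc_14_3 lc_f_rc_17_1 lc_f_Cert_tree lc_f_rc_22_1 lc_f_rc_5_1 lc_f_rc_17_3 lc_f_rc_19_5 lc_f_rc_14_3 lc_f_rc_19_3 lc_f_rc_5_1 lc_f_rc_10_3 lc_f_rc_17_3 lc_f_rc_14_1 lc_f_rc_20_1 lc_f_rc_20_1) (@D3.rec (fun _ => (Cert rels S Gen.f)) lc_f_rc_5_3 lc_f_rc_21_1 lc_f_rc_10_3 lc_f_Cert_tree lc_f_rc_20_1 lc_f_Cert_tree lc_f_rc_17_1 lc_f_rc_5_3 lc_f_rc_17_3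 lc_f_Cert_tree lc_f_rc_17_3 lc_f_rc_17_3 lc_f_Cert_tree lc_f_rc_20_1 lc_f_rc_17_3 lc_f_rc_17_3 lc_f_Cert_tree lc_f_rc_20_1 lc_f_rc_5_3 lc_f_rc_21_1 lc_f_rc_10_3 lc_f_rc_10_3 lc_f_rc_17_1 lc_f_rc_20_1 lc_f_rc_17_3 lc_f_rc_20_1 lc_f_rc_10_1 lc_f_rc_19_5 lc_f_rc_14_3 lc_f_rc_17_3 lc_f_rc_22_1 lc_f_rc_17_3 lc_f_rc_10_3 lc_f_rc_20_1 lc_f_rc_10_3 lc_f_rc_21_1 lc_f_rc_20_1 lc_f_Cert_tree lc_f_rc_20_1 lc_f_rc_5_1 lc_f_rc_17_3 lc_f_rc_5_1 lc_f_rc_20_1 lc_f_rc_10_3 lc_f_rc_14_1 lc_f_rc_21_1 lc_f_rc_5_3 lc_f_rc_5_3 lc_f_rc_14_1 lc_f_rc_19_5 lc_f_rc_20_1 lc_f_rc_19_3 lc_f_rc_17_3 lc_f_rc_19_3 lc_f_rc_10_1 lc_f_rc_19_3 lc_f_rc_5_1 lc_f_rc_14_3 lc_f_rc_20_1 lc_f_rc_20_1 lc_f_rc_20_1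 lc_f_rc_17_1) (@D3.rec (fun _ => (Cert rels S Gen.f)) lc_f_Cert_tree lc_f_rc_14_3 lc_f_rc_14_3 lc_f_rc_10_1 lc_f_rc_20_1 lc_f_rc_14_3 lc_f_rc_19_3 lc_f_rc_10_3 lc_f_rc_14_3 lc_f_Cert_tree lc_f_rc_14_1 lc_f_Cert_tree lc_f_rc_10_3 lc_f_rc_10_1 lc_f_rc_20_1 lc_f_Cert_tree lc_f_rc_20_1 lc_f_rc_20_1 lc_f_rc_14_3 lc_f_rc_5_3 lc_f_rc_14_3 lc_f_rc_17_3 lc_f_rc_10_3 lc_f_Cert_tree lc_f_rc_14_3 lc_f_rc_10_3 lc_f_rc_20_1 lc_f_rc_14_3 lc_f_rc_10_1 lc_f_rc_19_3 lc_f_rc_20_1 lc_f_rc_17_1 lc_f_rc_17_3 lc_f_rc_20_1 lc_f_rc_10_3 lc_f_rc_17_1 lc_f_rc_10_3 lc_f_rc_5_3 lc_f_rc_5_3 lc_f_rc_20_1 lc_f_rc_5_3 lc_f_rc_14_3 lc_f_rc_21_1 lc_f_rc_14_3 lc_f_rc_10_3 lc_f_rc_5_3 lc_f_rc_14_3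 lc_f_rc_10_3 lc_f_rc_19_3 lc_f_rc_21_1 lc_f_rc_14_3 lc_f_rc_10_1 lc_f_rc_10_3 lc_f_rc_17_1 lc_f_rc_20_1 lc_f_rc_14_1 lc_f_Cert_tree lc_f_rc_14_3 lc_f_rc_21_1 lc_f_rc_20_1 lc_f_rc_17_1 lc_f_rc_19_3) (@D3.rec (fun _ => (Cert rels S Gen.f)) lc_f_rc_10_1 lc_f_Cert_tree lc_f_rc_17_1 lc_f_rc_17_3 lc_f_rc_20_1 lc_f_rc_17_1 lc_f_rc_5_1 lc_f_rc_20_1 lc_f_rc_20_1 lc_f_rc_10_3 lc_f_rc_5_1 lc_f_Cert_tree lc_f_rc_14_3 lc_f_rc_21_1 lc_f_Cert_tree lc_f_rc_20_1 lc_f_rc_14_3 lc_f_rc_17_3 lc_f_rc_14_3 lc_f_rc_21_1 lc_f_rc_14_1 lc_f_Cert_tree lc_f_rc_20_1 lc_f_rc_17_3 lc_f_rc_10_3 lc_f_rc_17_3 lc_f_rc_20_1 lc_f_rc_21_1 lc_f_rc_17_3 lc_f_rc_14_1 lc_f_rc_20_1 lc_f_rc_14_3 lc_f_rc_14_3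 lc_f_rc_5_3 lc_f_rc_10_3 lc_f_rc_14_3 lc_f_rc_14_3 lc_f_rc_14_3 lc_f_rc_19_3 lc_f_rc_21_1 lc_f_rc_14_1 lc_f_rc_22_1 lc_f_rc_20_1 lc_f_rc_20_1 lc_f_rc_19_1 lc_f_rc_10_3 lc_f_rc_17_3 lc_f_rc_10_3 lc_f_rc_14_3 lc_f_rc_10_3 lc_f_rc_14_1 lc_f_rc_20_1 lc_f_rc_21_1 lc_f_rc_20_1 lc_f_rc_22_1 lc_f_rc_14_1 lc_f_rc_14_3 lc_f_Cert_tree lc_f_rc_20_1 lc_f_rc_14_3 lc_f_rc_10_1 lc_f_rc_22_1) (@D3.rec (fun _ => (Cert rels S Gen.f)) lc_f_rc_14_1 lc_f_rc_10_3 lc_f_rc_14_3 lc_f_rc_10_3 lc_f_rc_14_3 lc_f_rc_10_3 lc_f_rc_14_3 lc_f_Cert_tree lc_f_rc_21_1 lc_f_rc_5_1 lc_f_rc_20_1 lc_f_rc_22_1 lc_f_rc_20_1 lc_f_rc_21_1 lc_f_rc_14_3 lc_f_rc_10_3 lc_f_rc_5_3 lc_f_rc_5_1 lc_f_rc_20_1 lc_f_rc_19_3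 lc_f_rc_17_3 lc_f_rc_20_1 lc_f_rc_14_3 lc_f_rc_10_3 lc_f_rc_17_3 lc_f_rc_17_1 lc_f_rc_5_3 lc_f_rc_22_1 lc_f_rc_20_1 lc_f_rc_14_3 lc_f_rc_14_3 lc_f_rc_14_3 lc_f_rc_20_1 lc_f_rc_20_1 lc_f_rc_20_1 lc_f_rc_17_1 lc_f_rc_10_3 lc_f_rc_14_3 lc_f_Cert_tree lc_f_rc_5_3 lc_f_rc_14_3 lc_f_rc_17_3 lc_f_rc_10_3 lc_f_rc_22_1 lc_f_rc_5_3 lc_f_Cert_tree lc_f_rc_14_1 lc_f_rc_14_1 lc_f_rc_10_1 lc_f_rc_10_3 lc_f_Cert_tree lc_f_rc_14_3 lc_f_Cert_tree lc_f_rc_17_3 lc_f_Cert_tree lc_f_rc_14_3 lc_f_rc_14_3 lc_f_Cert_tree lc_f_rc_20_1 lc_f_rc_10_1 lc_f_rc_17_3 lc_f_rc_21_1) (@D3.rec (fun _ => (Cert rels S Gen.f)) lc_f_rc_10_3 lc_f_rc_10_3 lc_f_rc_17_1 lc_f_rc_10_3 lc_f_rc_14_1 lc_f_rc_10_3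 lc_f_rc_14_1 lc_f_rc_20_1 lc_f_rc_20_1 lc_f_rc_20_1 lc_f_rc_20_1 lc_f_rc_20_1 lc_f_rc_20_1 lc_f_rc_20_1 lc_f_rc_19_1 lc_f_rc_21_1 lc_f_rc_20_1 lc_f_rc_14_1 lc_f_rc_20_1 lc_f_rc_5_1 lc_f_rc_10_3 lc_f_rc_17_3 lc_f_rc_20_1 lc_f_rc_21_1 lc_f_rc_14_3 lc_f_rc_5_3 lc_f_rc_10_3 lc_f_rc_14_1 lc_f_rc_17_3 lc_f_rc_22_1 lc_f_Cert_tree lc_f_rc_10_3 lc_f_rc_10_1 lc_f_Cert_tree lc_f_rc_17_3 lc_f_rc_5_1 lc_f_Cert_tree lc_f_rc_20_1 lc_f_rc_20_1 lc_f_rc_21_1 lc_f_rc_21_1 lc_f_rc_17_3 lc_f_rc_14_3 lc_f_rc_21_1 lc_f_rc_21_1 lc_f_rc_20_1 lc_f_rc_14_3 lc_f_rc_14_3 lc_f_rc_14_3 lc_f_rc_14_3 lc_f_rc_10_3 lc_f_rc_17_1 lc_f_rc_10_3 lc_f_rc_21_1 lc_f_rc_20_1 lc_f_rc_20_1 lc_f_rc_21_1 lc_f_rc_10_1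 lc_f_rc_5_3 lc_f_Cert_tree lc_f_rc_21_1 lc_f_rc_14_1) (@D3.rec (fun _ => (Cert rels S Gen.f)) lc_f_rc_5_1 lc_f_rc_10_3 lc_f_rc_10_3 lc_f_rc_17_3 lc_f_rc_14_3 lc_f_rc_14_3 lc_f_rc_20_1 lc_f_rc_19_1 lc_f_rc_10_3 lc_f_rc_5_1 lc_f_rc_20_1 lc_f_rc_19_5 lc_f_rc_20_1 lc_f_rc_10_3 lc_f_rc_17_1 lc_f_rc_5_3 lc_f_rc_10_3 lc_f_rc_17_1 lc_f_rc_17_3 lc_f_rc_19_3 lc_f_rc_10_1 lc_f_rc_20_1 lc_f_rc_17_3 lc_f_rc_19_5 lc_f_rc_14_3 lc_f_rc_20_1 lc_f_rc_14_3 lc_f_rc_10_3 lc_f_rc_20_1 lc_f_rc_17_3 lc_f_rc_10_3 lc_f_rc_10_3 lc_f_rc_17_1 lc_f_rc_17_3 lc_f_rc_14_1 lc_f_rc_17_3 lc_f_Cert_tree lc_f_rc_17_1 lc_f_rc_14_3 lc_f_rc_17_3 lc_f_rc_10_3 lc_f_Cert_tree lc_f_rc_17_3 lc_f_rc_14_3 lc_f_rc_5_1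 lc_f_rc_20_1 lc_f_rc_10_3 lc_f_rc_10_1 lc_f_rc_10_3 lc_f_rc_21_1 lc_f_rc_20_1 lc_f_rc_5_3 lc_f_rc_17_3 lc_f_rc_20_1 lc_f_rc_10_1 lc_f_rc_14_3 lc_f_rc_14_1 lc_f_rc_5_3 lc_f_rc_14_1 lc_f_rc_5_3 lc_f_rc_5_3 lc_f_rc_14_3) (@D3.rec (fun _ => (Cert rels S Gen.f)) lc_f_rc_14_1 lc_f_rc_21_1 lc_f_rc_17_3 lc_f_rc_14_3 lc_f_rc_10_1 lc_f_rc_14_3 lc_f_rc_20_1 lc_f_rc_21_1 lc_f_rc_17_1 lc_f_rc_10_1 lc_f_rc_17_1 lc_f_rc_20_1 lc_f_rc_17_3 lc_f_rc_17_3 lc_f_rc_17_3 lc_f_rc_21_1 lc_f_rc_20_1 lc_f_rc_5_1 lc_f_rc_21_1 lc_f_rc_21_1 lc_f_rc_20_1 lc_f_rc_14_3 lc_f_rc_17_3 lc_f_rc_21_1 lc_f_rc_22_1 lc_f_rc_17_3 lc_f_rc_20_1 lc_f_rc_21_1 lc_f_rc_10_3 lc_f_rc_14_1 lc_f_rc_17_3 lc_f_rc_21_1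 lc_f_rc_5_3 lc_f_rc_10_3 lc_f_rc_10_3 lc_f_rc_10_3 lc_f_rc_22_1 lc_f_rc_20_1 lc_f_rc_5_3 lc_f_rc_20_1 lc_f_rc_17_1 lc_f_rc_21_1 lc_f_rc_10_3 lc_f_rc_14_3 lc_f_rc_17_1 lc_f_rc_5_1 lc_f_rc_14_1 lc_f_rc_17_3 lc_f_rc_10_3 lc_f_rc_17_3 lc_f_rc_21_1 lc_f_Cert_tree lc_f_rc_10_3 lc_f_rc_17_1 lc_f_rc_20_1 lc_f_rc_21_1 lc_f_rc_22_1 lc_f_rc_19_3 lc_f_rc_21_1 lc_f_rc_19_3 lc_f_rc_19_5 lc_f_rc_19_3) (@D3.rec (fun _ => (Cert rels S Gen.f)) lc_f_rc_10_3 lc_f_rc_17_3 lc_f_rc_20_1 lc_f_rc_5_1 lc_f_rc_10_3 lc_f_rc_17_1 lc_f_rc_21_1 lc_f_rc_10_1 lc_f_rc_17_3 lc_f_rc_17_3 lc_f_Cert_tree lc_f_rc_21_1 lc_f_rc_5_1 lc_f_rc_17_3 lc_f_rc_20_1 lc_f_rc_21_1 lc_f_rc_5_3 lc_f_Cert_tree lc_f_rc_14_3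 lc_f_rc_10_3 lc_f_Cert_tree lc_f_rc_20_1 lc_f_rc_17_1 lc_f_rc_17_3 lc_f_rc_22_1 lc_f_rc_17_3 lc_f_rc_10_3 lc_f_rc_21_1 lc_f_rc_5_3 lc_f_rc_21_1 lc_f_rc_10_3 lc_f_rc_14_1 lc_f_rc_14_1 lc_f_rc_14_1 lc_f_rc_14_3 lc_f_rc_14_3 lc_f_Cert_tree lc_f_rc_21_1 lc_f_rc_20_1 lc_f_rc_17_3 lc_f_rc_20_1 lc_f_rc_10_3 lc_f_rc_20_1 lc_f_rc_10_1 lc_f_rc_14_3 lc_f_rc_5_1 lc_f_rc_10_3 lc_f_rc_17_3 lc_f_rc_17_1 lc_f_rc_10_3 lc_f_rc_5_3 lc_f_rc_17_3 lc_f_rc_14_3 lc_f_rc_17_3 lc_f_rc_14_3 lc_f_rc_10_3 lc_f_rc_14_3 lc_f_rc_10_1 lc_f_rc_20_1 lc_f_rc_19_5 lc_f_rc_14_3 lc_f_rc_10_3) (@D3.rec (fun _ => (Cert rels S Gen.f)) lc_f_rc_17_3 lc_f_rc_17_3 lc_f_rc_5_3 lc_f_rc_14_3 lc_f_rc_17_3 lc_f_rc_5_1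 lc_f_rc_5_3 lc_f_rc_20_1 lc_f_rc_21_1 lc_f_rc_10_3 lc_f_rc_17_3 lc_f_rc_10_3 lc_f_rc_5_3 lc_f_rc_10_3 lc_f_rc_17_3 lc_f_rc_19_1 lc_f_rc_19_1 lc_f_rc_5_3 lc_f_rc_10_3 lc_f_rc_10_3 lc_f_rc_19_5 lc_f_rc_10_1 lc_f_rc_17_1 lc_f_rc_14_3 lc_f_rc_10_3 lc_f_rc_5_1 lc_f_rc_20_1 lc_f_rc_21_1 lc_f_rc_14_3 lc_f_rc_17_3 lc_f_rc_14_3 lc_f_rc_20_1 lc_f_rc_20_1 lc_f_rc_5_3 lc_f_rc_14_3 lc_f_rc_17_3 lc_f_rc_21_1 lc_f_rc_14_3 lc_f_rc_17_3 lc_f_rc_10_1 lc_f_rc_19_5 lc_f_rc_19_3 lc_f_rc_14_3 lc_f_rc_10_3 lc_f_rc_14_3 lc_f_rc_21_1 lc_f_rc_10_1 lc_f_rc_21_1 lc_f_rc_10_3 lc_f_rc_17_3 lc_f_rc_10_3 lc_f_rc_5_3 lc_f_rc_17_3 lc_f_rc_10_3 lc_f_rc_20_1 lc_f_rc_20_1 lc_f_rc_14_3 lc_f_rc_17_3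 lc_f_rc_5_1 lc_f_rc_10_3 lc_f_rc_5_1 lc_f_rc_14_3) (@D3.rec (fun _ => (Cert rels S Gen.f)) lc_f_rc_20_1 lc_f_rc_10_3 lc_f_rc_10_3 lc_f_rc_5_3 lc_f_rc_17_3 lc_f_rc_21_1 lc_f_rc_5_3 lc_f_rc_14_1 lc_f_rc_17_3 lc_f_rc_21_1 lc_f_rc_17_1 lc_f_rc_21_1 lc_f_rc_17_1 lc_f_rc_14_3 lc_f_rc_14_3 lc_f_rc_17_3 lc_f_rc_19_5 lc_f_rc_5_3 lc_f_rc_10_3 lc_f_rc_21_1 lc_f_rc_5_3 lc_f_rc_10_1 lc_f_rc_17_3 lc_f_rc_14_3 lc_f_Cert_tree lc_f_rc_10_3 lc_f_rc_19_5 lc_f_rc_17_3 lc_f_rc_17_1 lc_f_rc_5_3 lc_f_rc_20_1 lc_f_rc_14_3 lc_f_rc_17_1 lc_f_rc_20_1 lc_f_rc_10_3 lc_f_rc_17_3 lc_f_rc_19_1 lc_f_rc_20_1 lc_f_rc_20_1 lc_f_rc_21_1 lc_f_rc_14_3 lc_f_rc_17_3 lc_f_rc_21_1 lc_f_rc_20_1 lc_f_rc_14_3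 lc_f_rc_10_3 lc_f_rc_21_1 lc_f_Cert_tree lc_f_rc_17_3 lc_f_rc_10_1 lc_f_rc_14_3 lc_f_rc_21_1 lc_f_rc_14_3 lc_f_Cert_tree lc_f_rc_10_3 lc_f_rc_19_1 lc_f_rc_21_1 lc_f_rc_10_3 lc_f_rc_5_3 lc_f_rc_10_3 lc_f_rc_17_1 lc_f_rc_14_3) (@D3.rec (fun _ => (Cert rels S Gen.f)) lc_f_rc_10_3 lc_f_rc_19_3 lc_f_Cert_tree lc_f_rc_20_1 lc_f_rc_14_3 lc_f_rc_17_1 lc_f_rc_21_1 lc_f_rc_10_3 lc_f_rc_17_1 lc_f_rc_14_3 lc_f_rc_17_1 lc_f_rc_5_3 lc_f_rc_14_3 lc_f_rc_21_1 lc_f_rc_5_3 lc_f_rc_17_3 lc_f_rc_14_1 lc_f_rc_21_1 lc_f_rc_14_1 lc_f_Cert_tree lc_f_rc_14_3 lc_f_rc_10_3 lc_f_rc_17_1 lc_f_rc_20_1 lc_f_rc_20_1 lc_f_rc_20_1 lc_f_rc_14_1 lc_f_rc_17_1 lc_f_rc_10_3 lc_f_rc_14_3 lc_f_rc_14_3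 lc_f_rc_14_3 lc_f_rc_10_1 lc_f_rc_21_1 lc_f_Cert_tree lc_f_rc_17_1 lc_f_rc_21_1 lc_f_rc_19_5 lc_f_rc_20_1 lc_f_rc_10_3 lc_f_rc_19_1 lc_f_rc_10_3 lc_f_rc_19_3 lc_f_rc_19_1 lc_f_rc_20_1 lc_f_rc_5_1 lc_f_rc_21_1 lc_f_rc_20_1 lc_f_rc_10_3 lc_f_rc_20_1 lc_f_rc_20_1 lc_f_rc_21_1 lc_f_rc_5_3 lc_f_rc_10_3 lc_f_Cert_tree lc_f_rc_14_1 lc_f_rc_14_3 lc_f_rc_10_3 lc_f_rc_20_1 lc_f_rc_20_1 lc_f_rc_20_1 lc_f_Cert_tree) (@D3.rec (fun _ => (Cert rels S Gen.f)) lc_f_rc_10_1 lc_f_rc_14_3 lc_f_rc_21_1 lc_f_rc_14_3 lc_f_Cert_tree lc_f_rc_17_1 lc_f_rc_14_1 lc_f_rc_17_1 lc_f_rc_20_1 lc_f_rc_10_3 lc_f_rc_14_3 lc_f_rc_21_1 lc_f_rc_14_3 lc_f_rc_20_1 lc_f_rc_14_3 lc_f_rc_17_3 lc_f_rc_20_1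 lc_f_rc_21_1 lc_f_rc_17_3 lc_f_rc_19_5 lc_f_rc_10_3 lc_f_rc_17_3 lc_f_rc_5_3 lc_f_rc_20_1 lc_f_rc_14_1 lc_f_rc_10_1 lc_f_rc_5_1 lc_f_rc_21_1 lc_f_rc_5_1 lc_f_rc_14_3 lc_f_rc_19_5 lc_f_rc_5_3 lc_f_rc_19_1 lc_f_rc_14_3 lc_f_rc_21_1 lc_f_rc_20_1 lc_f_rc_5_3 lc_f_rc_21_1 lc_f_rc_14_3 lc_f_rc_21_1 lc_f_rc_10_3 lc_f_rc_5_3 lc_f_rc_17_3 lc_f_rc_14_3 lc_f_rc_21_1 lc_f_rc_14_3 lc_f_rc_19_3 lc_f_rc_20_1 lc_f_rc_10_3 lc_f_rc_19_1 lc_f_rc_10_3 lc_f_rc_20_1 lc_f_rc_14_3 lc_f_rc_21_1 lc_f_rc_19_3 lc_f_rc_5_3 lc_f_rc_14_3 lc_f_rc_14_1 lc_f_rc_20_1 lc_f_rc_10_3 lc_f_rc_20_1 lc_f_rc_20_1) (@D3.rec (fun _ => (Cert rels S Gen.f)) lc_f_rc_10_3 lc_f_rc_14_3 lc_f_rc_14_3 lc_f_rc_20_1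 lc_f_rc_10_3 lc_f_rc_21_1 lc_f_Cert_tree lc_f_rc_22_1 lc_f_rc_20_1 lc_f_rc_20_1 lc_f_rc_20_1 lc_f_rc_17_3 lc_f_rc_22_1 lc_f_rc_20_1 lc_f_rc_14_3 lc_f_rc_14_3 lc_f_rc_17_3 lc_f_rc_10_3 lc_f_rc_14_3 lc_f_rc_10_3 lc_f_rc_19_3 lc_f_rc_21_1 lc_f_rc_20_1 lc_f_rc_10_3 lc_f_rc_20_1 lc_f_rc_14_3 lc_f_rc_14_3 lc_f_rc_10_1 lc_f_rc_17_3 lc_f_rc_14_3 lc_f_Cert_tree lc_f_rc_14_3 lc_f_rc_14_3 lc_f_Cert_tree lc_f_rc_20_1 lc_f_rc_14_3 lc_f_rc_17_3 lc_f_rc_20_1 lc_f_rc_17_3 lc_f_rc_14_3 lc_f_rc_14_1 lc_f_rc_5_3 lc_f_rc_5_1 lc_f_rc_20_1 lc_f_rc_21_1 lc_f_rc_17_3 lc_f_rc_17_3 lc_f_rc_21_1 lc_f_rc_20_1 lc_f_rc_14_1 lc_f_rc_19_3 lc_f_rc_14_3 lc_f_rc_10_3 lc_f_rc_20_1 lc_f_rc_20_1 lc_f_rc_21_1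 lc_f_rc_17_3 lc_f_rc_21_1 lc_f_rc_19_3 lc_f_rc_19_3 lc_f_rc_19_5 lc_f_rc_17_3) (@D3.rec (fun _ => (Cert rels S Gen.f)) lc_f_rc_5_1 lc_f_rc_20_1 lc_f_rc_14_3 lc_f_rc_22_1 lc_f_rc_10_1 lc_f_rc_20_1 lc_f_rc_10_3 lc_f_Cert_tree lc_f_rc_10_3 lc_f_rc_14_3 lc_f_rc_20_1 lc_f_rc_10_3 lc_f_rc_14_3 lc_f_rc_14_3 lc_f_rc_17_1 lc_f_rc_20_1 lc_f_rc_21_1 lc_f_rc_21_1 lc_f_rc_14_3 lc_f_rc_5_3 lc_f_rc_21_1 lc_f_rc_14_3 lc_f_rc_14_1 lc_f_rc_14_3 lc_f_rc_20_1 lc_f_Cert_tree lc_f_rc_20_1 lc_f_rc_14_3 lc_f_rc_20_1 lc_f_rc_10_3 lc_f_rc_17_1 lc_f_rc_21_1 lc_f_rc_14_3 lc_f_Cert_tree lc_f_rc_21_1 lc_f_rc_20_1 lc_f_rc_5_3 lc_f_rc_17_3 lc_f_Cert_tree lc_f_rc_21_1 lc_f_rc_10_3 lc_f_rc_19_3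 lc_f_Cert_tree lc_f_rc_20_1 lc_f_rc_14_3 lc_f_rc_14_3 lc_f_rc_5_1 lc_f_rc_14_3 lc_f_rc_20_1 lc_f_rc_14_3 lc_f_rc_20_1 lc_f_rc_19_3 lc_f_Cert_tree lc_f_rc_21_1 lc_f_rc_20_1 lc_f_rc_20_1 lc_f_rc_17_1 lc_f_Cert_tree lc_f_rc_20_1 lc_f_rc_21_1 lc_f_Cert_tree lc_f_rc_20_1) (@D3.rec (fun _ => (Cert rels S Gen.f)) lc_f_rc_10_3 lc_f_rc_10_3 lc_f_rc_17_1 lc_f_rc_5_1 lc_f_rc_10_3 lc_f_Cert_tree lc_f_rc_21_1 lc_f_rc_17_3 lc_f_rc_20_1 lc_f_Cert_tree lc_f_rc_14_3 lc_f_rc_10_3 lc_f_rc_14_1 lc_f_rc_20_1 lc_f_rc_5_1 lc_f_rc_20_1 lc_f_rc_17_1 lc_f_rc_20_1 lc_f_rc_21_1 lc_f_rc_14_3 lc_f_rc_5_1 lc_f_rc_20_1 lc_f_rc_5_1 lc_f_rc_5_1 lc_f_rc_21_1 lc_f_rc_10_1 lc_f_rc_19_3 lc_f_rc_20_1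 lc_f_rc_14_1 lc_f_Cert_tree lc_f_rc_20_1 lc_f_rc_20_1 lc_f_rc_5_3 lc_f_Cert_tree lc_f_rc_20_1 lc_f_rc_10_3 lc_f_rc_14_3 lc_f_rc_20_1 lc_f_rc_14_3 lc_f_rc_20_1 lc_f_rc_10_3 lc_f_rc_22_1 lc_f_rc_19_5 lc_f_rc_17_3 lc_f_rc_21_1 lc_f_rc_17_1 lc_f_rc_10_3 lc_f_Cert_tree lc_f_rc_10_3 lc_f_rc_10_3 lc_f_Cert_tree lc_f_rc_21_1 lc_f_rc_20_1 lc_f_rc_20_1 lc_f_rc_19_3 lc_f_rc_10_3 lc_f_rc_17_3 lc_f_rc_17_3 lc_f_rc_14_3 lc_f_rc_14_3 lc_f_rc_14_3 lc_f_rc_21_1) (@D3.rec (fun _ => (Cert rels S Gen.f)) lc_f_rc_20_1 lc_f_rc_5_3 lc_f_rc_21_1 lc_f_rc_10_3 lc_f_rc_21_1 lc_f_rc_17_3 lc_f_rc_17_1 lc_f_rc_5_1 lc_f_rc_19_3 lc_f_rc_14_1 lc_f_rc_19_3 lc_f_rc_17_3 lc_f_rc_5_1 lc_f_rc_17_3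 lc_f_rc_14_1 lc_f_rc_17_3 lc_f_rc_20_1 lc_f_rc_10_3 lc_f_rc_10_3 lc_f_rc_14_1 lc_f_rc_17_3 lc_f_rc_17_3 lc_f_rc_17_3 lc_f_rc_10_3 lc_f_rc_14_3 lc_f_rc_10_3 lc_f_rc_14_3 lc_f_rc_10_3 lc_f_rc_5_1 lc_f_rc_14_3 lc_f_rc_10_3 lc_f_rc_17_3 lc_f_rc_10_3 lc_f_rc_21_1 lc_f_rc_10_3 lc_f_rc_10_3 lc_f_rc_5_3 lc_f_rc_21_1 lc_f_rc_14_3 lc_f_rc_10_3 lc_f_rc_19_5 lc_f_rc_22_1 lc_f_rc_14_3 lc_f_rc_22_1 lc_f_rc_10_3 lc_f_rc_17_3 lc_f_rc_17_1 lc_f_rc_17_3 lc_f_rc_17_1 lc_f_rc_5_3 lc_f_rc_5_3 lc_f_rc_20_1 lc_f_rc_17_3 lc_f_rc_17_3 lc_f_rc_21_1 lc_f_rc_20_1 lc_f_rc_14_3 lc_f_rc_10_3 lc_f_rc_14_3 lc_f_rc_14_3 lc_f_rc_10_3 lc_f_rc_17_3) (@D3.rec (fun _ => (Cert rels S Gen.f)) lc_f_rc_10_3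 lc_f_Cert_tree lc_f_rc_17_3 lc_f_rc_17_3 lc_f_rc_20_1 lc_f_rc_21_1 lc_f_rc_14_1 lc_f_rc_20_1 lc_f_rc_17_1 lc_f_rc_10_3 lc_f_rc_19_5 lc_f_rc_10_3 lc_f_rc_14_3 lc_f_rc_10_3 lc_f_rc_20_1 lc_f_rc_17_1 lc_f_rc_14_3 lc_f_rc_5_3 lc_f_rc_10_1 lc_f_rc_10_3 lc_f_rc_17_3 lc_f_rc_5_3 lc_f_rc_10_3 lc_f_rc_17_3 lc_f_rc_5_1 lc_f_rc_17_3 lc_f_rc_14_3 lc_f_rc_21_1 lc_f_rc_14_3 lc_f_rc_10_3 lc_f_rc_14_1 lc_f_rc_14_1 lc_f_rc_17_3 lc_f_rc_5_3 lc_f_rc_17_1 lc_f_rc_5_1 lc_f_rc_20_1 lc_f_rc_20_1 lc_f_rc_17_3 lc_f_rc_14_3 lc_f_rc_10_3 lc_f_rc_17_3 lc_f_rc_5_1 lc_f_rc_10_3 lc_f_rc_10_3 lc_f_rc_17_3 lc_f_rc_17_3 lc_f_rc_14_3 lc_f_rc_17_3 lc_f_rc_10_3 lc_f_rc_14_1 lc_f_rc_17_3 lc_f_rc_10_3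 lc_f_rc_14_3 lc_f_rc_17_3 lc_f_rc_19_1 lc_f_rc_17_3 lc_f_rc_5_3 lc_f_rc_19_1 lc_f_rc_14_1 lc_f_rc_14_3 lc_f_rc_14_1) (@D3.rec (fun _ => (Cert rels S Gen.f)) lc_f_rc_19_5 lc_f_rc_17_3 lc_f_rc_10_1 lc_f_rc_22_1 lc_f_rc_21_1 lc_f_rc_5_3 lc_f_rc_14_3 lc_f_rc_17_1 lc_f_rc_5_3 lc_f_rc_10_1 lc_f_rc_10_3 lc_f_rc_5_3 lc_f_rc_20_1 lc_f_Cert_tree lc_f_rc_17_3 lc_f_Cert_tree lc_f_rc_19_3 lc_f_rc_20_1 lc_f_rc_20_1 lc_f_rc_20_1 lc_f_Cert_tree lc_f_rc_17_3 lc_f_rc_14_1 lc_f_rc_10_3 lc_f_Cert_tree lc_f_rc_20_1 lc_f_rc_14_3 lc_f_rc_14_3 lc_f_rc_5_1 lc_f_rc_19_5 lc_f_rc_10_3 lc_f_rc_5_1 lc_f_rc_20_1 lc_f_rc_20_1 lc_f_rc_10_3 lc_f_rc_10_3 lc_f_rc_20_1 lc_f_rc_20_1 lc_f_rc_10_3 lc_f_rc_21_1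 lc_f_rc_14_3 lc_f_rc_5_3 lc_f_rc_10_3 lc_f_rc_17_3 lc_f_rc_19_3 lc_f_rc_10_3 lc_f_rc_20_1 lc_f_rc_19_3 lc_f_rc_14_3 lc_f_rc_14_3 lc_f_rc_14_3 lc_f_rc_5_3 lc_f_rc_21_1 lc_f_rc_10_3 lc_f_rc_10_1 lc_f_Cert_tree lc_f_rc_17_3 lc_f_rc_17_3 lc_f_rc_14_3 lc_f_rc_20_1 lc_f_rc_20_1 lc_f_rc_14_3) (@D3.rec (fun _ => (Cert rels S Gen.f)) lc_f_rc_10_3 lc_f_rc_17_3 lc_f_rc_10_3 lc_f_rc_17_3 lc_f_rc_19_1 lc_f_rc_14_3 lc_f_rc_20_1 lc_f_rc_17_3 lc_f_rc_17_3 lc_f_rc_14_3 lc_f_rc_17_3 lc_f_rc_20_1 lc_f_rc_21_1 lc_f_rc_14_3 lc_f_rc_17_3 lc_f_Cert_tree lc_f_rc_17_3 lc_f_rc_5_3 lc_f_rc_17_1 lc_f_rc_17_3 lc_f_rc_21_1 lc_f_rc_14_3 lc_f_rc_17_3 lc_f_rc_14_1 lc_f_rc_10_3 lc_f_rc_10_3 lc_f_rc_17_3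 lc_f_rc_22_1 lc_f_rc_21_1 lc_f_rc_10_1 lc_f_rc_14_3 lc_f_rc_10_1 lc_f_rc_5_1 lc_f_rc_19_1 lc_f_rc_20_1 lc_f_rc_5_3 lc_f_rc_17_3 lc_f_rc_10_3 lc_f_rc_10_3 lc_f_rc_17_3 lc_f_rc_22_1 lc_f_rc_10_3 lc_f_Cert_tree lc_f_rc_10_1 lc_f_rc_5_3 lc_f_rc_14_1 lc_f_rc_10_3 lc_f_rc_17_3 lc_f_rc_10_3 lc_f_rc_17_3 lc_f_rc_10_1 lc_f_rc_20_1 lc_f_rc_21_1 lc_f_rc_20_1 lc_f_rc_17_3 lc_f_rc_14_3 lc_f_rc_17_1 lc_f_rc_10_3 lc_f_rc_10_3 lc_f_rc_10_3 lc_f_rc_21_1 lc_f_rc_20_1) (@D3.rec (fun _ => (Cert rels S Gen.f)) lc_f_rc_14_1 lc_f_rc_5_3 lc_f_Cert_tree lc_f_rc_10_1 lc_f_rc_5_1 lc_f_rc_10_3 lc_f_rc_17_1 lc_f_rc_20_1 lc_f_rc_21_1 lc_f_rc_5_1 lc_f_rc_20_1 lc_f_rc_10_3 lc_f_rc_10_3 lc_f_rc_5_3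 lc_f_rc_20_1 lc_f_rc_10_3 lc_f_rc_5_3 lc_f_rc_19_3 lc_f_rc_21_1 lc_f_rc_20_1 lc_f_rc_19_5 lc_f_rc_21_1 lc_f_rc_19_3 lc_f_rc_14_3 lc_f_rc_20_1 lc_f_rc_20_1 lc_f_rc_17_3 lc_f_rc_20_1 lc_f_rc_5_3 lc_f_rc_10_3 lc_f_rc_10_3 lc_f_Cert_tree lc_f_rc_20_1 lc_f_rc_5_1 lc_f_Cert_tree lc_f_rc_17_3 lc_f_Cert_tree lc_f_rc_10_3 lc_f_rc_19_3 lc_f_rc_10_1 lc_f_rc_20_1 lc_f_rc_20_1 lc_f_rc_17_3 lc_f_Cert_tree lc_f_rc_20_1 lc_f_rc_20_1 lc_f_rc_20_1 lc_f_rc_10_1 lc_f_rc_21_1 lc_f_rc_17_3 lc_f_rc_14_3 lc_f_rc_17_1 lc_f_rc_20_1 lc_f_rc_20_1 lc_f_Cert_tree lc_f_rc_14_3 lc_f_rc_21_1 lc_f_rc_10_1 lc_f_Cert_tree lc_f_rc_20_1 lc_f_rc_10_3 lc_f_rc_17_3) (@D3.rec (fun _ => (Cert rels S Gen.f))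 lc_f_rc_21_1 lc_f_rc_10_1 lc_f_rc_20_1 lc_f_rc_14_1 lc_f_rc_20_1 lc_f_rc_14_3 lc_f_rc_14_3 lc_f_rc_14_3 lc_f_rc_10_3 lc_f_rc_19_3 lc_f_rc_5_1 lc_f_rc_17_1 lc_f_rc_20_1 lc_f_rc_14_3 lc_f_rc_17_3 lc_f_rc_17_1 lc_f_rc_21_1 lc_f_rc_17_1 lc_f_rc_19_3 lc_f_rc_21_1 lc_f_Cert_tree lc_f_rc_20_1 lc_f_rc_14_1 lc_f_rc_10_1 lc_f_rc_14_1 lc_f_rc_21_1 lc_f_rc_20_1 lc_f_rc_17_3 lc_f_rc_20_1 lc_f_rc_21_1 lc_f_rc_20_1 lc_f_rc_17_3 lc_f_rc_14_3 lc_f_rc_17_3 lc_f_rc_21_1 lc_f_rc_5_3 lc_f_Cert_tree lc_f_rc_5_3 lc_f_Cert_tree lc_f_rc_20_1 lc_f_rc_10_3 lc_f_rc_20_1 lc_f_rc_20_1 lc_f_rc_20_1 lc_f_rc_19_3 lc_f_rc_19_3 lc_f_rc_21_1 lc_f_rc_10_1 lc_f_rc_19_1 lc_f_rc_5_3 lc_f_rc_10_3 lc_f_rc_21_1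 lc_f_rc_17_1 lc_f_rc_20_1 lc_f_rc_14_1 lc_f_rc_14_3 lc_f_rc_22_1 lc_f_rc_17_3 lc_f_rc_19_3 lc_f_rc_21_1 lc_f_rc_20_1 lc_f_rc_17_1) (@D3.rec (fun _ => (Cert rels S Gen.f)) lc_f_rc_17_3 lc_f_rc_20_1 lc_f_rc_20_1 lc_f_rc_17_1 lc_f_rc_20_1 lc_f_rc_21_1 lc_f_rc_21_1 lc_f_rc_10_3 lc_f_rc_17_3 lc_f_rc_21_1 lc_f_rc_20_1 lc_f_rc_10_3 lc_f_rc_14_3 lc_f_rc_5_3 lc_f_rc_19_5 lc_f_rc_17_3 lc_f_rc_20_1 lc_f_rc_10_3 lc_f_rc_17_1 lc_f_rc_10_3 lc_f_rc_5_3 lc_f_rc_17_3 lc_f_rc_17_1 lc_f_rc_20_1 lc_f_rc_19_3 lc_f_rc_10_3 lc_f_rc_14_3 lc_f_rc_10_3 lc_f_rc_20_1 lc_f_rc_17_3 lc_f_rc_20_1 lc_f_rc_22_1 lc_f_rc_10_3 lc_f_rc_17_3 lc_f_rc_5_1 lc_f_rc_5_1 lc_f_rc_10_1 lc_f_Cert_tree lc_f_rc_20_1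 lc_f_rc_14_3 lc_f_rc_10_3 lc_f_rc_14_3 lc_f_rc_10_3 lc_f_rc_14_3 lc_f_rc_22_1 lc_f_rc_19_5 lc_f_rc_14_3 lc_f_rc_17_3 lc_f_rc_21_1 lc_f_rc_14_1 lc_f_rc_14_1 lc_f_rc_5_3 lc_f_rc_19_3 lc_f_rc_10_1 lc_f_rc_10_3 lc_f_rc_5_3 lc_f_rc_14_3 lc_f_rc_10_3 lc_f_rc_20_1 lc_f_rc_17_3 lc_f_rc_17_3 lc_f_rc_20_1) (@D3.rec (fun _ => (Cert rels S Gen.f)) lc_f_rc_17_3 lc_f_rc_20_1 lc_f_rc_20_1 lc_f_rc_20_1 lc_f_rc_17_3 lc_f_rc_19_5 lc_f_rc_21_1 lc_f_rc_10_1 lc_f_rc_10_1 lc_f_rc_10_3 lc_f_rc_19_3 lc_f_rc_21_1 lc_f_rc_20_1 lc_f_rc_10_1 lc_f_rc_21_1 lc_f_rc_14_3 lc_f_rc_17_3 lc_f_rc_14_3 lc_f_rc_5_1 lc_f_rc_10_1 lc_f_rc_14_3 lc_f_rc_14_1 lc_f_rc_10_1 lc_f_Cert_tree lc_f_rc_20_1 lc_f_rc_14_3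 lc_f_rc_14_1 lc_f_rc_20_1 lc_f_rc_21_1 lc_f_rc_19_3 lc_f_rc_17_3 lc_f_rc_5_1 lc_f_rc_14_3 lc_f_rc_14_1 lc_f_rc_19_3 lc_f_rc_14_3 lc_f_rc_14_1 lc_f_rc_10_3 lc_f_rc_14_3 lc_f_rc_10_3 lc_f_rc_17_3 lc_f_rc_14_3 lc_f_rc_21_1 lc_f_rc_14_3 lc_f_rc_17_3 lc_f_rc_17_3 lc_f_rc_19_3 lc_f_rc_21_1 lc_f_rc_17_1 lc_f_rc_10_3 lc_f_rc_14_1 lc_f_rc_5_3 lc_f_rc_20_1 lc_f_rc_14_3 lc_f_rc_10_1 lc_f_rc_17_3 lc_f_rc_17_3 lc_f_rc_21_1 lc_f_rc_5_1 lc_f_rc_20_1 lc_f_rc_21_1 lc_f_rc_5_1) (@D3.rec (fun _ => (Cert rels S Gen.f)) lc_f_rc_10_3 lc_f_rc_14_1 lc_f_rc_17_1 lc_f_rc_5_3 lc_f_rc_17_1 lc_f_rc_20_1 lc_f_rc_17_3 lc_f_rc_17_3 lc_f_rc_14_1 lc_f_rc_14_3 lc_f_rc_10_1 lc_f_rc_10_1 lc_f_rc_22_1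 lc_f_rc_20_1 lc_f_rc_10_1 lc_f_rc_20_1 lc_f_rc_10_1 lc_f_rc_10_3 lc_f_rc_22_1 lc_f_rc_21_1 lc_f_rc_17_3 lc_f_rc_17_3 lc_f_rc_10_3 lc_f_rc_21_1 lc_f_rc_21_1 lc_f_rc_14_3 lc_f_Cert_tree lc_f_rc_20_1 lc_f_rc_5_3 lc_f_rc_17_1 lc_f_rc_14_3 lc_f_rc_10_3 lc_f_rc_17_3 lc_f_rc_17_1 lc_f_rc_21_1 lc_f_rc_14_3 lc_f_Cert_tree lc_f_rc_14_3 lc_f_Cert_tree lc_f_rc_17_1 lc_f_rc_20_1 lc_f_rc_5_3 lc_f_rc_10_1 lc_f_rc_17_3 lc_f_rc_20_1 lc_f_rc_19_3 lc_f_rc_17_3 lc_f_rc_21_1 lc_f_rc_14_3 lc_f_rc_20_1 lc_f_rc_20_1 lc_f_rc_5_1 lc_f_rc_14_3 lc_f_rc_10_3 lc_f_rc_14_3 lc_f_rc_17_3 lc_f_rc_17_3 lc_f_rc_10_3 lc_f_rc_17_1 lc_f_rc_5_3 lc_f_rc_5_1 lc_f_rc_14_3) (@D3.rec (fun _ => (Cert rels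 S Gen.f)) lc_f_rc_17_1 lc_f_rc_10_3 lc_f_Cert_tree lc_f_rc_21_1 lc_f_rc_22_1 lc_f_rc_10_3 lc_f_rc_17_3 lc_f_rc_21_1 lc_f_rc_17_3 lc_f_rc_14_3 lc_f_Cert_tree lc_f_rc_17_3 lc_f_rc_14_3 lc_f_rc_21_1 lc_f_rc_5_3 lc_f_rc_5_3 lc_f_rc_14_1 lc_f_rc_10_3 lc_f_rc_10_3 lc_f_rc_10_3 lc_f_rc_17_1 lc_f_rc_21_1 lc_f_rc_10_3 lc_f_rc_17_3 lc_f_rc_20_1 lc_f_rc_10_3 lc_f_rc_17_3 lc_f_rc_5_1 lc_f_rc_14_3 lc_f_rc_5_3 lc_f_rc_17_3 lc_f_rc_17_3 lc_f_rc_20_1 lc_f_rc_14_3 lc_f_Cert_tree lc_f_rc_14_3 lc_f_rc_20_1 lc_f_Cert_tree lc_f_rc_21_1 lc_f_rc_20_1 lc_f_rc_21_1 lc_f_rc_17_3 lc_f_rc_10_3 lc_f_rc_10_3 lc_f_rc_17_3 lc_f_rc_20_1 lc_f_rc_14_3 lc_f_rc_21_1 lc_f_rc_10_3 lc_f_rc_17_3 lc_f_rc_14_3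 lc_f_rc_21_1 lc_f_rc_10_3 lc_f_rc_20_1 lc_f_rc_14_3 lc_f_rc_5_3 lc_f_rc_10_1 lc_f_rc_5_1 lc_f_rc_10_3 lc_f_rc_20_1 lc_f_rc_5_1 lc_f_rc_14_3) (@D3.rec (fun _ => (Cert rels S Gen.f)) lc_f_rc_10_1 lc_f_rc_19_5 lc_f_rc_10_1 lc_f_rc_5_1 lc_f_rc_20_1 lc_f_rc_22_1 lc_f_rc_17_3 lc_f_rc_21_1 lc_f_rc_5_3 lc_f_rc_17_1 lc_f_Cert_tree lc_f_rc_10_3 lc_f_rc_17_3 lc_f_rc_10_3 lc_f_rc_5_1 lc_f_rc_20_1 lc_f_rc_14_3 lc_f_rc_10_3 lc_f_Cert_tree lc_f_rc_14_1 lc_f_rc_14_1 lc_f_Cert_tree lc_f_rc_20_1 lc_f_rc_21_1 lc_f_rc_20_1 lc_f_rc_10_3 lc_f_rc_17_3 lc_f_rc_20_1 lc_f_rc_14_3 lc_f_rc_20_1 lc_f_Cert_tree lc_f_Cert_tree lc_f_rc_20_1 lc_f_rc_17_1 lc_f_rc_10_1 lc_f_rc_5_3 lc_f_rc_10_3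 lc_f_Cert_tree lc_f_Cert_tree lc_f_rc_19_3 lc_f_rc_5_1 lc_f_rc_19_3 lc_f_rc_10_3 lc_f_rc_5_1 lc_f_rc_14_1 lc_f_rc_14_3 lc_f_Cert_tree lc_f_rc_20_1 lc_f_rc_22_1 lc_f_rc_14_3 lc_f_rc_19_1 lc_f_rc_20_1 lc_f_Cert_tree lc_f_rc_10_1 lc_f_rc_10_3 lc_f_rc_21_1 lc_f_rc_10_3 lc_f_rc_17_3 lc_f_rc_20_1 lc_f_rc_14_1 lc_f_rc_17_3 lc_f_rc_21_1) (@D3.rec (fun _ => (Cert rels S Gen.f)) lc_f_rc_10_3 lc_f_rc_19_3 lc_f_rc_14_3 lc_f_rc_17_1 lc_f_rc_21_1 lc_f_Cert_tree lc_f_rc_20_1 lc_f_rc_10_1 lc_f_rc_20_1 lc_f_rc_14_3 lc_f_rc_20_1 lc_f_rc_10_3 lc_f_rc_19_5 lc_f_rc_14_3 lc_f_rc_19_3 lc_f_rc_5_1 lc_f_rc_5_1 lc_f_rc_21_1 lc_f_rc_17_3 lc_f_rc_14_3 lc_f_rc_10_3 lc_f_Cert_tree lc_f_Cert_tree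 lc_f_rc_20_1 lc_f_rc_19_5 lc_f_rc_10_3 lc_f_Cert_tree lc_f_rc_20_1 lc_f_rc_17_3 lc_f_Cert_tree lc_f_rc_14_3 lc_f_rc_17_3 lc_f_Cert_tree lc_f_rc_21_1 lc_f_rc_17_1 lc_f_Cert_tree lc_f_rc_20_1 lc_f_rc_20_1 lc_f_rc_17_1 lc_f_rc_10_3 lc_f_rc_20_1 lc_f_rc_10_3 lc_f_rc_20_1 lc_f_rc_19_3 lc_f_rc_20_1 lc_f_rc_19_3 lc_f_rc_17_1 lc_f_rc_17_3 lc_f_rc_17_3 lc_f_rc_17_3 lc_f_rc_5_1 lc_f_rc_19_3 lc_f_rc_14_3 lc_f_rc_19_3 lc_f_rc_14_3 lc_f_rc_21_1 lc_f_rc_5_1 lc_f_rc_20_1 lc_f_Cert_tree lc_f_rc_20_1 lc_f_Cert_tree lc_f_rc_20_1) (@D3.rec (fun _ => (Cert rels S Gen.f)) lc_f_rc_20_1 lc_f_rc_5_3 lc_f_rc_5_3 lc_f_rc_21_1 lc_f_rc_21_1 lc_f_rc_14_1 lc_f_rc_20_1 lc_f_rc_20_1 lc_f_rc_20_1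 lc_f_rc_17_3 lc_f_rc_14_1 lc_f_rc_17_3 lc_f_rc_5_1 lc_f_rc_17_1 lc_f_rc_10_3 lc_f_rc_20_1 lc_f_rc_14_3 lc_f_rc_22_1 lc_f_rc_10_3 lc_f_rc_10_3 lc_f_rc_14_3 lc_f_rc_17_3 lc_f_rc_21_1 lc_f_rc_17_3 lc_f_rc_21_1 lc_f_rc_17_1 lc_f_rc_20_1 lc_f_rc_5_1 lc_f_rc_14_3 lc_f_rc_5_3 lc_f_rc_14_1 lc_f_rc_20_1 lc_f_Cert_tree lc_f_rc_10_1 lc_f_rc_20_1 lc_f_rc_10_3 lc_f_rc_10_1 lc_f_rc_20_1 lc_f_rc_17_1 lc_f_rc_20_1 lc_f_rc_10_3 lc_f_rc_17_3 lc_f_rc_21_1 lc_f_Cert_tree lc_f_Cert_tree lc_f_rc_20_1 lc_f_rc_20_1 lc_f_rc_20_1 lc_f_rc_14_3 lc_f_rc_20_1 lc_f_rc_20_1 lc_f_rc_20_1 lc_f_rc_14_3 lc_f_rc_14_3 lc_f_rc_10_3 lc_f_rc_5_1 lc_f_Cert_tree lc_f_rc_20_1 lc_f_Cert_tree lc_f_rc_20_1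 lc_f_rc_10_3 lc_f_rc_17_3) (@D3.rec (fun _ => (Cert rels S Gen.f)) lc_f_rc_21_1 lc_f_rc_17_3 lc_f_Cert_tree lc_f_rc_20_1 lc_f_rc_14_3 lc_f_rc_5_1 lc_f_rc_14_3 lc_f_rc_21_1 lc_f_Cert_tree lc_f_rc_20_1 lc_f_rc_20_1 lc_f_rc_5_1 lc_f_rc_10_3 lc_f_rc_14_3 lc_f_rc_20_1 lc_f_rc_14_3 lc_f_rc_20_1 lc_f_rc_19_5 lc_f_rc_14_3 lc_f_rc_10_3 lc_f_rc_21_1 lc_f_rc_14_3 lc_f_Cert_tree lc_f_rc_20_1 lc_f_rc_17_3 lc_f_rc_21_1 lc_f_rc_5_1 lc_f_Cert_tree lc_f_rc_20_1 lc_f_Cert_tree lc_f_rc_10_3 lc_f_Cert_tree lc_f_rc_20_1 lc_f_rc_10_3 lc_f_rc_17_3 lc_f_Cert_tree lc_f_rc_17_1 lc_f_rc_20_1 lc_f_rc_14_3 lc_f_rc_10_3 lc_f_rc_19_5 lc_f_rc_20_1 lc_f_rc_14_3 lc_f_rc_10_3 lc_f_rc_10_3 lc_f_rc_14_3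 lc_f_rc_20_1 lc_f_rc_10_3 lc_f_rc_14_3 lc_f_rc_14_3 lc_f_Cert_tree lc_f_rc_20_1 lc_f_rc_21_1 lc_f_rc_10_3 lc_f_rc_17_3 lc_f_Cert_tree lc_f_rc_21_1 lc_f_rc_14_3 lc_f_rc_17_3 lc_f_Cert_tree lc_f_rc_14_3 lc_f_rc_20_1) (@D3.rec (fun _ => (Cert rels S Gen.f)) lc_f_rc_10_3 lc_f_rc_19_1 lc_f_rc_10_1 lc_f_rc_10_3 lc_f_rc_5_1 lc_f_rc_17_3 lc_f_Cert_tree lc_f_rc_20_1 lc_f_rc_17_3 lc_f_rc_5_1 lc_f_rc_14_3 lc_f_rc_10_3 lc_f_rc_5_3 lc_f_rc_10_3 lc_f_rc_10_3 lc_f_Cert_tree lc_f_rc_20_1 lc_f_rc_20_1 lc_f_rc_20_1 lc_f_rc_19_3 lc_f_rc_10_3 lc_f_rc_20_1 lc_f_rc_21_1 lc_f_rc_19_3 lc_f_rc_20_1 lc_f_rc_20_1 lc_f_rc_21_1 lc_f_rc_10_3 lc_f_rc_20_1 lc_f_rc_20_1 lc_f_rc_14_3 lc_f_rc_19_3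 lc_f_rc_21_1 lc_f_rc_20_1 lc_f_rc_20_1 lc_f_rc_10_1 lc_f_rc_20_1 lc_f_rc_21_1 lc_f_rc_20_1 lc_f_rc_20_1 lc_f_rc_10_3 lc_f_rc_5_1 lc_f_rc_19_5 lc_f_rc_5_3 lc_f_rc_10_3 lc_f_rc_17_3 lc_f_rc_5_1 lc_f_rc_20_1 lc_f_rc_17_1 lc_f_rc_21_1 lc_f_Cert_tree lc_f_rc_20_1 lc_f_rc_20_1 lc_f_rc_20_1 lc_f_rc_21_1 lc_f_rc_14_1 lc_f_rc_20_1 lc_f_rc_10_3 lc_f_rc_17_3 lc_f_rc_19_3 lc_f_rc_17_1 lc_f_rc_21_1) (@D3.rec (fun _ => (Cert rels S Gen.f)) lc_f_rc_14_3 lc_f_rc_21_1 lc_f_Cert_tree lc_f_Cert_tree lc_f_rc_20_1 lc_f_rc_21_1 lc_f_rc_17_3 lc_f_rc_14_3 lc_f_rc_20_1 lc_f_rc_19_3 lc_f_rc_14_3 lc_f_rc_10_1 lc_f_rc_14_3 lc_f_rc_10_1 lc_f_rc_14_1 lc_f_rc_14_1 lc_f_rc_5_1 lc_f_rc_17_3 lc_f_rc_21_1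 lc_f_rc_10_1 lc_f_rc_17_1 lc_f_rc_20_1 lc_f_rc_14_1 lc_f_rc_20_1 lc_f_rc_10_3 lc_f_rc_5_3 lc_f_rc_21_1 lc_f_rc_22_1 lc_f_rc_5_3 lc_f_Cert_tree lc_f_rc_20_1 lc_f_rc_5_1 lc_f_rc_10_3 lc_f_rc_20_1 lc_f_rc_19_3 lc_f_rc_10_3 lc_f_rc_10_1 lc_f_rc_17_1 lc_f_rc_20_1 lc_f_rc_20_1 lc_f_rc_20_1 lc_f_Cert_tree lc_f_rc_17_3 lc_f_Cert_tree lc_f_rc_22_1 lc_f_rc_14_1 lc_f_rc_20_1 lc_f_rc_5_1 lc_f_rc_10_1 lc_f_rc_14_3 lc_f_rc_19_1 lc_f_rc_21_1 lc_f_rc_5_1 lc_f_rc_14_3 lc_f_rc_19_5 lc_f_rc_14_3 lc_f_rc_17_1 lc_f_rc_10_3 lc_f_rc_14_3 lc_f_rc_21_1 lc_f_rc_14_1 lc_f_rc_14_1) (@D3.rec (fun _ => (Cert rels S Gen.f)) lc_f_rc_17_1 lc_f_rc_14_3 lc_f_rc_21_1 lc_f_Cert_tree lc_f_rc_17_1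 lc_f_rc_20_1 lc_f_rc_19_3 lc_f_rc_20_1 lc_f_rc_10_3 lc_f_rc_17_3 lc_f_rc_20_1 lc_f_rc_20_1 lc_f_rc_14_3 lc_f_rc_14_3 lc_f_rc_10_3 lc_f_rc_19_3 lc_f_rc_5_1 lc_f_rc_10_1 lc_f_rc_10_3 lc_f_rc_17_3 lc_f_rc_21_1 lc_f_rc_10_3 lc_f_rc_17_3 lc_f_rc_10_3 lc_f_rc_17_3 lc_f_rc_20_1 lc_f_rc_20_1 lc_f_Cert_tree lc_f_rc_14_3 lc_f_rc_5_1 lc_f_Cert_tree lc_f_rc_20_1 lc_f_rc_14_3 lc_f_rc_21_1 lc_f_rc_17_3 lc_f_Cert_tree lc_f_rc_20_1 lc_f_rc_5_1 lc_f_rc_14_3 lc_f_rc_5_1 lc_f_rc_14_1 lc_f_rc_10_1 lc_f_rc_20_1 lc_f_Cert_tree lc_f_rc_10_3 lc_f_rc_10_3 lc_f_rc_21_1 lc_f_Cert_tree lc_f_rc_20_1 lc_f_rc_17_3 lc_f_rc_17_3 lc_f_rc_20_1 lc_f_rc_21_1 lc_f_rc_10_3 lc_f_rc_17_3 lc_f_rc_14_1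 lc_f_Cert_tree lc_f_rc_20_1 lc_f_Cert_tree lc_f_rc_10_1 lc_f_rc_5_1 lc_f_Cert_tree) (@D3.rec (fun _ => (Cert rels S Gen.f)) lc_f_rc_20_1 lc_f_rc_19_3 lc_f_rc_14_3 lc_f_rc_10_3 lc_f_Cert_tree lc_f_rc_20_1 lc_f_rc_20_1 lc_f_rc_14_1 lc_f_rc_17_3 lc_f_rc_10_3 lc_f_rc_17_1 lc_f_rc_10_3 lc_f_rc_21_1 lc_f_rc_14_3 lc_f_Cert_tree lc_f_rc_20_1 lc_f_rc_10_3 lc_f_rc_5_1 lc_f_Cert_tree lc_f_rc_10_3 lc_f_rc_17_3 lc_f_Cert_tree lc_f_rc_17_3 lc_f_rc_21_1 lc_f_Cert_tree lc_f_rc_20_1 lc_f_rc_10_3 lc_f_rc_17_3 lc_f_rc_17_3 lc_f_rc_17_1 lc_f_rc_14_3 lc_f_Cert_tree lc_f_rc_17_3 lc_f_Cert_tree lc_f_rc_17_1 lc_f_rc_21_1 lc_f_rc_5_1 lc_f_rc_22_1 lc_f_rc_10_1 lc_f_rc_5_1 lc_f_Cert_tree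 lc_f_rc_14_3 lc_f_rc_5_1 lc_f_Cert_tree lc_f_rc_14_3 lc_f_rc_20_1 lc_f_rc_19_3 lc_f_rc_5_1 lc_f_rc_21_1 lc_f_rc_14_3 lc_f_Cert_tree lc_f_rc_21_1 lc_f_rc_14_1 lc_f_rc_10_1 lc_f_rc_17_3 lc_f_rc_20_1 lc_f_rc_10_3 lc_f_rc_14_1 lc_f_rc_20_1 lc_f_rc_5_1 lc_f_rc_10_3 lc_f_rc_17_3) (@D3.rec (fun _ => (Cert rels S Gen.f)) lc_f_rc_10_3 lc_f_rc_17_3 lc_f_rc_10_3 lc_f_rc_5_1 lc_f_rc_14_3 lc_f_rc_14_3 lc_f_rc_22_1 lc_f_rc_21_1 lc_f_rc_17_3 lc_f_rc_17_3 lc_f_Cert_tree lc_f_rc_20_1 lc_f_rc_20_1 lc_f_rc_20_1 lc_f_rc_20_1 lc_f_rc_5_3 lc_f_Cert_tree lc_f_rc_20_1 lc_f_rc_14_1 lc_f_rc_10_3 lc_f_rc_10_1 lc_f_rc_10_3 lc_f_rc_17_3 lc_f_rc_20_1 lc_f_rc_17_3 lc_f_rc_10_3 lc_f_Cert_tree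 lc_f_rc_10_3 lc_f_rc_5_3 lc_f_rc_20_1 lc_f_rc_17_3 lc_f_rc_14_3 lc_f_rc_21_1 lc_f_rc_21_1 lc_f_rc_14_3 lc_f_rc_10_3 lc_f_rc_19_3 lc_f_rc_5_3 lc_f_rc_21_1 lc_f_rc_17_1 lc_f_Cert_tree lc_f_rc_20_1 lc_f_rc_21_1 lc_f_rc_17_1 lc_f_rc_19_3 lc_f_rc_17_3 lc_f_rc_10_3 lc_f_rc_21_1 lc_f_Cert_tree lc_f_rc_20_1 lc_f_rc_10_3 lc_f_rc_14_3 lc_f_Cert_tree lc_f_Cert_tree lc_f_rc_20_1 lc_f_rc_5_3 lc_f_rc_14_3 lc_f_rc_5_3 lc_f_rc_14_3 lc_f_rc_20_1 lc_f_rc_20_1 lc_f_rc_10_3) (@D3.rec (fun _ => (Cert rels S Gen.f)) lc_f_rc_21_1 lc_f_rc_5_3 lc_f_rc_17_3 lc_f_rc_21_1 lc_f_rc_20_1 lc_f_rc_17_1 lc_f_rc_17_3 lc_f_rc_10_3 lc_f_rc_10_1 lc_f_rc_21_1 lc_f_rc_20_1 lc_f_Cert_tree lc_f_rc_20_1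 lc_f_rc_10_1 lc_f_rc_17_1 lc_f_rc_19_3 lc_f_rc_5_3 lc_f_rc_14_3 lc_f_Cert_tree lc_f_Cert_tree lc_f_rc_20_1 lc_f_rc_10_3 lc_f_rc_14_1 lc_f_rc_17_1 lc_f_rc_19_3 lc_f_rc_14_1 lc_f_rc_19_1 lc_f_rc_14_3 lc_f_rc_10_1 lc_f_rc_5_1 lc_f_rc_20_1 lc_f_rc_19_3 lc_f_rc_17_3 lc_f_rc_10_3 lc_f_rc_20_1 lc_f_Cert_tree lc_f_rc_22_1 lc_f_rc_17_3 lc_f_rc_20_1 lc_f_rc_14_3 lc_f_rc_21_1 lc_f_Cert_tree lc_f_rc_20_1 lc_f_Cert_tree lc_f_Cert_tree lc_f_rc_20_1 lc_f_rc_17_3 lc_f_rc_19_1 lc_f_rc_20_1 lc_f_Cert_tree lc_f_rc_20_1 lc_f_rc_10_3 lc_f_rc_21_1 lc_f_Cert_tree lc_f_rc_20_1 lc_f_rc_20_1 lc_f_rc_20_1 lc_f_rc_20_1 lc_f_rc_10_3 lc_f_rc_5_1 lc_f_rc_5_1 lc_f_rc_17_1) (@D3.rec (fun _ =>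 (Cert rels S Gen.f)) lc_f_rc_21_1 lc_f_rc_20_1 lc_f_Cert_tree lc_f_rc_20_1 lc_f_rc_14_3 lc_f_rc_19_1 lc_f_rc_17_3 lc_f_rc_14_1 lc_f_rc_22_1 lc_f_rc_10_3 lc_f_rc_5_1 lc_f_rc_17_3 lc_f_rc_14_3 lc_f_rc_5_1 lc_f_rc_21_1 lc_f_Cert_tree lc_f_rc_20_1 lc_f_rc_17_3 lc_f_rc_17_3 lc_f_rc_5_3 lc_f_rc_10_3 lc_f_rc_21_1 lc_f_rc_10_3 lc_f_rc_10_3 lc_f_rc_17_3 lc_f_rc_5_3 lc_f_rc_20_1 lc_f_rc_14_3 lc_f_rc_14_3 lc_f_rc_14_3 lc_f_rc_10_1 lc_f_rc_21_1 lc_f_rc_20_1 lc_f_rc_10_3 lc_f_Cert_tree lc_f_rc_21_1 lc_f_rc_5_1 lc_f_rc_14_1 lc_f_rc_20_1 lc_f_Cert_tree lc_f_rc_10_3 lc_f_rc_20_1 lc_f_rc_20_1 lc_f_Cert_tree lc_f_rc_5_3 lc_f_Cert_tree lc_f_rc_20_1 lc_f_rc_21_1 lc_f_rc_20_1 lc_f_rc_20_1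 lc_f_Cert_tree lc_f_rc_10_1 lc_f_rc_14_3 lc_f_rc_5_1 lc_f_rc_22_1 lc_f_rc_17_3 lc_f_rc_14_3 lc_f_rc_10_1 lc_f_rc_17_1 lc_f_rc_20_1 lc_f_rc_21_1 lc_f_rc_20_1) (@D3.rec (fun _ => (Cert rels S Gen.f)) lc_f_rc_10_3 lc_f_rc_21_1 lc_f_rc_10_1 lc_f_rc_10_3 lc_f_rc_17_3 lc_f_rc_17_1 lc_f_rc_14_1 lc_f_rc_17_3 lc_f_rc_21_1 lc_f_rc_17_1 lc_f_rc_20_1 lc_f_rc_17_3 lc_f_rc_5_3 lc_f_rc_10_3 lc_f_rc_17_3 lc_f_rc_21_1 lc_f_rc_20_1 lc_f_rc_20_1 lc_f_rc_21_1 lc_f_rc_14_3 lc_f_rc_14_1 lc_f_rc_21_1 lc_f_Cert_tree lc_f_rc_20_1 lc_f_rc_10_3 lc_f_rc_14_3 lc_f_rc_17_3 lc_f_rc_21_1 lc_f_rc_17_3 lc_f_rc_21_1 lc_f_Cert_tree lc_f_rc_20_1 lc_f_rc_5_3 lc_f_rc_17_3 lc_f_rc_10_3 lc_f_rc_17_3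 lc_f_rc_10_3 lc_f_rc_14_1 lc_f_rc_19_5 lc_f_rc_10_3 lc_f_rc_10_3 lc_f_rc_10_3 lc_f_Cert_tree lc_f_rc_5_3 lc_f_rc_14_3 lc_f_rc_22_1 lc_f_rc_17_3 lc_f_rc_17_3 lc_f_Cert_tree lc_f_Cert_tree lc_f_rc_20_1 lc_f_rc_19_3 lc_f_rc_17_3 lc_f_rc_14_3 lc_f_rc_21_1 lc_f_rc_21_1 lc_f_rc_22_1 lc_f_rc_17_3 lc_f_rc_10_1 lc_f_rc_14_3 lc_f_rc_21_1 lc_f_rc_21_1) (@D3.rec (fun _ => (Cert rels S Gen.f)) lc_f_rc_20_1 lc_f_rc_5_3 lc_f_rc_10_3 lc_f_rc_17_3 lc_f_rc_17_1 lc_f_rc_17_3 lc_f_rc_14_1 lc_f_rc_5_1 lc_f_rc_20_1 lc_f_rc_10_3 lc_f_rc_21_1 lc_f_rc_17_3 lc_f_rc_14_3 lc_f_rc_14_1 lc_f_Cert_tree lc_f_rc_14_3 lc_f_rc_21_1 lc_f_rc_20_1 lc_f_rc_22_1 lc_f_rc_22_1 lc_f_rc_19_5 lc_f_rc_10_1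 lc_f_rc_19_3 lc_f_rc_21_1 lc_f_rc_14_1 lc_f_rc_10_3 lc_f_rc_20_1 lc_f_rc_17_1 lc_f_rc_17_3 lc_f_rc_22_1 lc_f_rc_19_3 lc_f_rc_14_3 lc_f_rc_21_1 lc_f_rc_19_3 lc_f_rc_14_3 lc_f_rc_14_3 lc_f_Cert_tree lc_f_rc_20_1 lc_f_rc_5_1 lc_f_rc_20_1 lc_f_rc_22_1 lc_f_rc_10_1 lc_f_rc_19_3 lc_f_rc_20_1 lc_f_rc_10_3 lc_f_rc_19_3 lc_f_rc_14_1 lc_f_rc_10_3 lc_f_rc_17_3 lc_f_rc_17_3 lc_f_rc_5_1 lc_f_rc_21_1 lc_f_rc_14_3 lc_f_Cert_tree lc_f_rc_14_3 lc_f_rc_10_3 lc_f_rc_20_1 lc_f_rc_5_3 lc_f_Cert_tree lc_f_rc_21_1 lc_f_rc_19_5 lc_f_rc_5_1) (@D3.rec (fun _ => (Cert rels S Gen.f)) lc_f_rc_14_1 lc_f_rc_5_3 lc_f_rc_17_3 lc_f_rc_20_1 lc_f_rc_10_3 lc_f_rc_10_3 lc_f_rc_10_3 lc_f_rc_17_1 lc_f_rc_21_1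 lc_f_rc_14_1 lc_f_Cert_tree lc_f_rc_17_1 lc_f_rc_20_1 lc_f_rc_14_1 lc_f_rc_10_1 lc_f_rc_21_1 lc_f_rc_20_1 lc_f_rc_10_3 lc_f_rc_10_3 lc_f_rc_10_3 lc_f_rc_14_1 lc_f_rc_19_1 lc_f_rc_20_1 lc_f_rc_20_1 lc_f_rc_20_1 lc_f_rc_17_1 lc_f_rc_17_1 lc_f_Cert_tree lc_f_rc_14_1 lc_f_rc_14_3 lc_f_rc_20_1 lc_f_rc_10_3 lc_f_rc_21_1 lc_f_rc_14_3 lc_f_rc_17_1 lc_f_rc_20_1 lc_f_rc_20_1 lc_f_rc_19_3 lc_f_rc_22_1 lc_f_rc_10_1 lc_f_rc_21_1 lc_f_rc_21_1 lc_f_rc_17_3 lc_f_rc_22_1 lc_f_rc_10_3 lc_f_rc_17_3 lc_f_rc_10_1 lc_f_rc_17_3 lc_f_rc_14_1 lc_f_Cert_tree lc_f_rc_20_1 lc_f_rc_14_3 lc_f_rc_17_1 lc_f_rc_17_3 lc_f_Cert_tree lc_f_rc_14_3 lc_f_rc_14_3 lc_f_rc_17_3 lc_f_rc_10_1 lc_f_rc_17_1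 lc_f_rc_19_5 lc_f_rc_14_1) (@D3.rec (fun _ => (Cert rels S Gen.f)) lc_f_rc_19_5 lc_f_rc_17_3 lc_f_rc_17_3 lc_f_rc_17_3 lc_f_rc_17_3 lc_f_rc_17_3 lc_f_rc_22_1 lc_f_rc_22_1 lc_f_rc_14_1 lc_f_rc_10_3 lc_f_rc_19_3 lc_f_rc_10_3 lc_f_rc_17_3 lc_f_rc_20_1 lc_f_rc_20_1 lc_f_rc_5_1 lc_f_rc_17_3 lc_f_Cert_tree lc_f_Cert_tree lc_f_rc_20_1 lc_f_rc_10_3 lc_f_rc_19_1 lc_f_rc_5_3 lc_f_rc_17_1 lc_f_Cert_tree lc_f_Cert_tree lc_f_Cert_tree lc_f_rc_20_1 lc_f_rc_10_3 lc_f_rc_14_3 lc_f_rc_5_3 lc_f_rc_17_1 lc_f_Cert_tree lc_f_Cert_tree lc_f_rc_20_1 lc_f_rc_17_3 lc_f_rc_17_3 lc_f_rc_14_3 lc_f_Cert_tree lc_f_rc_17_3 lc_f_rc_10_1 lc_f_rc_14_3 lc_f_rc_17_3 lc_f_rc_17_3 lc_f_rc_10_3 lc_f_rc_14_3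 lc_f_rc_10_1 lc_f_rc_10_3 lc_f_Cert_tree lc_f_rc_17_3 lc_f_Cert_tree lc_f_rc_17_3 lc_f_Cert_tree lc_f_rc_17_1 lc_f_rc_10_3 lc_f_rc_20_1 lc_f_rc_5_1 lc_f_rc_19_3 lc_f_rc_21_1 lc_f_rc_19_1 lc_f_rc_10_1 lc_f_rc_20_1) (@D3.rec (fun _ => (Cert rels S Gen.f)) lc_f_rc_20_1 lc_f_rc_14_1 lc_f_rc_20_1 lc_f_rc_14_3 lc_f_rc_14_3 lc_f_rc_20_1 lc_f_rc_19_3 lc_f_rc_20_1 lc_f_rc_14_1 lc_f_rc_14_1 lc_f_rc_20_1 lc_f_rc_14_3 lc_f_rc_17_1 lc_f_rc_20_1 lc_f_rc_10_3 lc_f_rc_10_3 lc_f_rc_19_1 lc_f_Cert_tree lc_f_rc_20_1 lc_f_rc_20_1 lc_f_rc_14_1 lc_f_rc_20_1 lc_f_rc_10_3 lc_f_rc_17_3 lc_f_rc_22_1 lc_f_rc_14_3 lc_f_rc_17_3 lc_f_rc_14_3 lc_f_rc_17_3 lc_f_rc_10_3 lc_f_rc_21_1 lc_f_rc_14_3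 lc_f_rc_10_3 lc_f_rc_20_1 lc_f_rc_17_3 lc_f_rc_14_3 lc_f_rc_10_3 lc_f_rc_21_1 lc_f_rc_19_5 lc_f_rc_20_1 lc_f_rc_5_1 lc_f_rc_20_1 lc_f_rc_21_1 lc_f_rc_5_3 lc_f_rc_17_3 lc_f_rc_10_3 lc_f_rc_17_3 lc_f_rc_17_3 lc_f_rc_21_1 lc_f_rc_14_1 lc_f_rc_14_1 lc_f_rc_17_3 lc_f_rc_19_3 lc_f_rc_10_3 lc_f_rc_14_3 lc_f_rc_21_1 lc_f_rc_14_3 lc_f_rc_17_1 lc_f_rc_20_1 lc_f_rc_5_3 lc_f_rc_14_3 lc_f_rc_5_1) (@D3.rec (fun _ => (Cert rels S Gen.f)) lc_f_rc_10_3 lc_f_rc_20_1 lc_f_rc_14_3 lc_f_rc_10_3 lc_f_rc_17_3 lc_f_rc_14_3 lc_f_rc_10_3 lc_f_rc_5_1 lc_f_rc_19_3 lc_f_rc_22_1 lc_f_rc_5_1 lc_f_rc_17_3 lc_f_rc_20_1 lc_f_rc_20_1 lc_f_rc_14_3 lc_f_rc_14_3 lc_f_rc_10_1 lc_f_rc_17_1 lc_f_rc_10_3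 lc_f_rc_17_3 lc_f_rc_5_3 lc_f_Cert_tree lc_f_rc_10_3 lc_f_rc_5_1 lc_f_Cert_tree lc_f_rc_20_1 lc_f_rc_17_3 lc_f_rc_10_3 lc_f_rc_14_1 lc_f_Cert_tree lc_f_rc_20_1 lc_f_rc_14_3 lc_f_rc_21_1 lc_f_rc_17_3 lc_f_rc_5_3 lc_f_rc_20_1 lc_f_rc_10_1 lc_f_rc_5_3 lc_f_rc_10_3 lc_f_rc_17_1 lc_f_rc_10_1 lc_f_rc_5_3 lc_f_rc_17_3 lc_f_rc_17_1 lc_f_rc_5_3 lc_f_rc_10_3 lc_f_rc_22_1 lc_f_rc_20_1 lc_f_rc_5_3 lc_f_rc_10_3 lc_f_rc_10_3 lc_f_rc_14_3 lc_f_rc_17_3 lc_f_rc_5_3 lc_f_rc_20_1 lc_f_rc_14_3 lc_f_Cert_tree lc_f_Cert_tree lc_f_rc_21_1 lc_f_rc_20_1 lc_f_rc_20_1 lc_f_rc_20_1) (@D3.rec (fun _ => (Cert rels S Gen.f)) lc_f_rc_20_1 lc_f_rc_17_3 lc_f_rc_17_3 lc_f_rc_14_3 lc_f_rc_14_3 lc_f_Cert_tree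 lc_f_Cert_tree lc_f_rc_20_1 lc_f_rc_19_3 lc_f_rc_10_3 lc_f_rc_17_1 lc_f_rc_14_3 lc_f_rc_20_1 lc_f_rc_20_1 lc_f_rc_5_1 lc_f_rc_20_1 lc_f_rc_20_1 lc_f_rc_21_1 lc_f_rc_10_3 lc_f_rc_21_1 lc_f_rc_20_1 lc_f_rc_20_1 lc_f_rc_21_1 lc_f_rc_5_1 lc_f_rc_5_1 lc_f_rc_20_1 lc_f_rc_20_1 lc_f_rc_21_1 lc_f_rc_17_3 lc_f_rc_10_3 lc_f_rc_14_1 lc_f_rc_14_3 lc_f_rc_10_1 lc_f_rc_21_1 lc_f_rc_5_1 lc_f_rc_14_3 lc_f_rc_21_1 lc_f_rc_20_1 lc_f_rc_20_1 lc_f_rc_14_3 lc_f_rc_5_3 lc_f_rc_17_3 lc_f_rc_5_3 lc_f_rc_17_3 lc_f_rc_21_1 lc_f_rc_17_3 lc_f_Cert_tree lc_f_rc_20_1 lc_f_rc_17_3 lc_f_rc_17_3 lc_f_rc_17_1 lc_f_rc_20_1 lc_f_Cert_tree lc_f_rc_5_1 lc_f_Cert_tree lc_f_rc_10_1 lc_f_rc_5_3 lc_f_rc_5_3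 lc_f_rc_5_3 lc_f_rc_10_3 lc_f_rc_14_3 lc_f_Cert_tree) (@D3.rec (fun _ => (Cert rels S Gen.f)) lc_f_rc_17_3 lc_f_rc_14_3 lc_f_Cert_tree lc_f_rc_17_1 lc_f_rc_20_1 lc_f_rc_10_3 lc_f_rc_17_3 lc_f_rc_17_3 lc_f_Cert_tree lc_f_rc_19_3 lc_f_rc_5_3 lc_f_rc_14_3 lc_f_rc_21_1 lc_f_rc_5_1 lc_f_rc_20_1 lc_f_rc_5_1 lc_f_rc_5_3 lc_f_rc_5_3 lc_f_rc_20_1 lc_f_rc_20_1 lc_f_rc_20_1 lc_f_rc_10_3 lc_f_rc_17_3 lc_f_rc_22_1 lc_f_rc_19_1 lc_f_rc_17_1 lc_f_rc_21_1 lc_f_rc_19_3 lc_f_rc_14_3 lc_f_rc_5_1 lc_f_Cert_tree lc_f_rc_20_1 lc_f_rc_17_3 lc_f_rc_5_1 lc_f_rc_14_1 lc_f_rc_10_3 lc_f_rc_20_1 lc_f_rc_10_3 lc_f_rc_10_3 lc_f_rc_21_1 lc_f_rc_10_1 lc_f_rc_5_3 lc_f_rc_10_3 lc_f_rc_22_1 lc_f_rc_17_3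 lc_f_rc_17_3 lc_f_rc_5_3 lc_f_rc_21_1 lc_f_rc_17_3 lc_f_rc_14_1 lc_f_rc_14_3 lc_f_rc_17_3 lc_f_rc_17_1 lc_f_rc_5_3 lc_f_rc_10_3 lc_f_rc_10_3 lc_f_rc_10_3 lc_f_rc_22_1 lc_f_rc_5_3 lc_f_rc_20_1 lc_f_Cert_tree lc_f_rc_14_3) (@D3.rec (fun _ => (Cert rels S Gen.f)) lc_f_rc_20_1 lc_f_rc_17_1 lc_f_rc_20_1 lc_f_rc_10_3 lc_f_rc_17_1 lc_f_rc_14_1 lc_f_rc_14_1 lc_f_Cert_tree lc_f_rc_17_1 lc_f_rc_20_1 lc_f_rc_19_3 lc_f_rc_10_3 lc_f_rc_19_3 lc_f_rc_10_3 lc_f_rc_17_1 lc_f_rc_10_3 lc_f_rc_20_1 lc_f_rc_10_3 lc_f_rc_17_3 lc_f_rc_20_1 lc_f_rc_14_1 lc_f_rc_19_3 lc_f_rc_17_3 lc_f_rc_10_1 lc_f_rc_20_1 lc_f_rc_10_3 lc_f_rc_10_3 lc_f_Cert_tree lc_f_rc_5_3 lc_f_rc_20_1 lc_f_rc_5_3 lc_f_rc_14_1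 lc_f_rc_19_3 lc_f_rc_20_1 lc_f_rc_5_1 lc_f_rc_19_3 lc_f_rc_10_1 lc_f_rc_14_3 lc_f_rc_5_3 lc_f_rc_20_1 lc_f_rc_20_1 lc_f_rc_17_3 lc_f_rc_14_3 lc_f_rc_10_3 lc_f_rc_17_3 lc_f_rc_21_1 lc_f_rc_17_3 lc_f_Cert_tree lc_f_rc_20_1 lc_f_rc_14_3 lc_f_rc_20_1 lc_f_rc_14_3 lc_f_rc_5_1 lc_f_rc_21_1 lc_f_rc_14_3 lc_f_rc_19_3 lc_f_rc_17_1 lc_f_rc_20_1 lc_f_rc_17_3 lc_f_rc_19_3 lc_f_rc_17_3 lc_f_rc_19_3) (@D3.rec (fun _ => (Cert rels S Gen.f)) lc_f_rc_14_3 lc_f_rc_21_1 lc_f_rc_21_1 lc_f_rc_17_3 lc_f_rc_20_1 lc_f_rc_20_1 lc_f_rc_17_3 lc_f_rc_14_1 lc_f_rc_10_3 lc_f_rc_17_1 lc_f_rc_10_1 lc_f_rc_14_3 lc_f_rc_10_3 lc_f_rc_14_3 lc_f_rc_10_3 lc_f_rc_17_1 lc_f_Cert_tree lc_f_rc_5_1 lc_f_rc_10_3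 lc_f_Cert_tree lc_f_rc_20_1 lc_f_rc_14_3 lc_f_rc_10_1 lc_f_rc_19_5 lc_f_rc_14_3 lc_f_rc_19_3 lc_f_rc_14_3 lc_f_rc_22_1 lc_f_rc_20_1 lc_f_rc_17_3 lc_f_rc_14_3 lc_f_rc_14_1 lc_f_rc_14_3 lc_f_rc_10_1 lc_f_rc_17_3 lc_f_rc_14_3 lc_f_rc_10_3 lc_f_rc_14_3 lc_f_rc_14_1 lc_f_rc_17_3 lc_f_rc_10_3 lc_f_rc_14_3 lc_f_rc_17_1 lc_f_Cert_tree lc_f_rc_17_3 lc_f_rc_10_3 lc_f_rc_14_3 lc_f_rc_20_1 lc_f_rc_20_1 lc_f_rc_20_1 lc_f_rc_5_1 lc_f_rc_19_3 lc_f_rc_5_3 lc_f_rc_5_1 lc_f_rc_14_3 lc_f_rc_17_3 lc_f_Cert_tree lc_f_rc_20_1 lc_f_rc_17_3 lc_f_rc_17_1 lc_f_rc_20_1 lc_f_rc_14_1) (@D3.rec (fun _ => (Cert rels S Gen.f)) lc_f_rc_10_3 lc_f_rc_20_1 lc_f_rc_14_3 lc_f_rc_17_3 lc_f_rc_10_3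 lc_f_rc_17_3 lc_f_rc_19_1 lc_f_rc_10_3 lc_f_rc_14_3 lc_f_rc_10_3 lc_f_rc_21_1 lc_f_rc_17_3 lc_f_rc_14_3 lc_f_rc_5_3 lc_f_rc_14_1 lc_f_rc_10_1 lc_f_rc_14_1 lc_f_rc_20_1 lc_f_rc_17_3 lc_f_rc_22_1 lc_f_rc_14_3 lc_f_rc_20_1 lc_f_rc_14_3 lc_f_rc_19_3 lc_f_rc_20_1 lc_f_rc_14_3 lc_f_rc_17_1 lc_f_rc_10_3 lc_f_rc_20_1 lc_f_rc_10_3 lc_f_Cert_tree lc_f_rc_5_3 lc_f_rc_14_3 lc_f_rc_10_3 lc_f_rc_10_3 lc_f_rc_5_1 lc_f_rc_5_3 lc_f_rc_14_3 lc_f_Cert_tree lc_f_rc_10_1 lc_f_rc_17_3 lc_f_rc_10_3 lc_f_rc_14_3 lc_f_rc_10_3 lc_f_rc_21_1 lc_f_rc_17_3 lc_f_rc_5_3 lc_f_rc_14_3 lc_f_rc_19_3 lc_f_rc_14_3 lc_f_rc_17_3 lc_f_rc_19_3 lc_f_rc_17_1 lc_f_rc_17_3 lc_f_rc_20_1 lc_f_rc_21_1 lc_f_rc_5_1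 lc_f_rc_21_1 lc_f_rc_17_3 lc_f_rc_10_3 lc_f_rc_17_3 lc_f_rc_17_3) (@D3.rec (fun _ => (Cert rels S Gen.f)) lc_f_rc_5_3 lc_f_rc_5_3 lc_f_rc_20_1 lc_f_Cert_tree lc_f_Cert_tree lc_f_rc_17_1 lc_f_rc_20_1 lc_f_rc_20_1 lc_f_rc_20_1 lc_f_rc_14_3 lc_f_rc_5_3 lc_f_rc_19_5 lc_f_rc_10_3 lc_f_rc_14_3 lc_f_rc_10_3 lc_f_rc_10_3 lc_f_rc_21_1 lc_f_rc_14_3 lc_f_rc_21_1 lc_f_rc_19_3 lc_f_rc_20_1 lc_f_rc_10_3 lc_f_rc_20_1 lc_f_rc_17_3 lc_f_rc_5_3 lc_f_Cert_tree lc_f_rc_20_1 lc_f_rc_19_5 lc_f_rc_10_3 lc_f_rc_22_1 lc_f_rc_5_3 lc_f_rc_14_3 lc_f_rc_17_3 lc_f_rc_10_1 lc_f_rc_21_1 lc_f_rc_17_1 lc_f_rc_5_3 lc_f_rc_14_3 lc_f_rc_10_3 lc_f_rc_20_1 lc_f_rc_17_3 lc_f_rc_21_1 lc_f_rc_14_1 lc_f_rc_20_1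 lc_f_rc_21_1 lc_f_rc_19_1 lc_f_rc_5_1 lc_f_rc_5_3 lc_f_rc_10_3 lc_f_rc_10_3 lc_f_rc_20_1 lc_f_rc_21_1 lc_f_rc_19_5 lc_f_rc_5_3 lc_f_rc_20_1 lc_f_rc_20_1 lc_f_rc_10_3 lc_f_rc_22_1 lc_f_Cert_tree lc_f_rc_22_1 lc_f_rc_20_1 lc_f_rc_22_1) (@D3.rec (fun _ => (Cert rels S Gen.f)) lc_f_rc_17_3 lc_f_rc_17_3 lc_f_rc_5_3 lc_f_rc_21_1 lc_f_rc_17_1 lc_f_rc_17_1 lc_f_Cert_tree lc_f_rc_20_1 lc_f_rc_20_1 lc_f_rc_10_3 lc_f_rc_10_3 lc_f_rc_5_3 lc_f_rc_14_3 lc_f_rc_19_3 lc_f_rc_10_3 lc_f_rc_14_3 lc_f_rc_17_3 lc_f_rc_14_3 lc_f_rc_14_1 lc_f_rc_19_5 lc_f_rc_21_1 lc_f_rc_20_1 lc_f_Cert_tree lc_f_rc_20_1 lc_f_rc_10_3 lc_f_rc_10_3 lc_f_rc_5_3 lc_f_rc_22_1 lc_f_rc_10_3 lc_f_rc_22_1 lc_f_rc_5_3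 lc_f_rc_14_3 lc_f_rc_14_1 lc_f_rc_17_3 lc_f_rc_21_1 lc_f_Cert_tree lc_f_rc_14_3 lc_f_rc_22_1 lc_f_rc_17_3 lc_f_rc_20_1 lc_f_rc_17_1 lc_f_rc_20_1 lc_f_rc_10_3 lc_f_rc_14_3 lc_f_rc_10_3 lc_f_rc_10_3 lc_f_rc_5_1 lc_f_Cert_tree lc_f_rc_10_3 lc_f_rc_17_3 lc_f_rc_5_3 lc_f_rc_5_3 lc_f_rc_10_3 lc_f_rc_19_5 lc_f_rc_14_3 lc_f_rc_5_1 lc_f_rc_20_1 lc_f_rc_17_3 lc_f_rc_14_3 lc_f_rc_17_3 lc_f_rc_17_3 lc_f_rc_10_3) (@D3.rec (fun _ => (Cert rels S Gen.f)) lc_f_rc_19_3 lc_f_rc_14_3 lc_f_rc_20_1 lc_f_rc_20_1 lc_f_rc_20_1 lc_f_rc_20_1 lc_f_rc_14_3 lc_f_Cert_tree lc_f_rc_20_1 lc_f_rc_20_1 lc_f_rc_5_1 lc_f_rc_5_3 lc_f_rc_17_1 lc_f_rc_14_3 lc_f_rc_20_1 lc_f_rc_21_1 lc_f_rc_17_3 lc_f_rc_14_3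 lc_f_rc_20_1 lc_f_rc_19_3 lc_f_rc_21_1 lc_f_rc_5_3 lc_f_rc_20_1 lc_f_rc_17_1 lc_f_rc_14_3 lc_f_rc_10_1 lc_f_rc_20_1 lc_f_rc_14_1 lc_f_rc_10_3 lc_f_rc_17_3 lc_f_rc_10_3 lc_f_rc_19_5 lc_f_rc_5_1 lc_f_rc_19_5 lc_f_rc_14_3 lc_f_rc_14_1 lc_f_rc_10_1 lc_f_rc_14_1 lc_f_rc_21_1 lc_f_rc_5_1 lc_f_rc_10_3 lc_f_rc_5_3 lc_f_rc_5_3 lc_f_rc_21_1 lc_f_rc_5_3 lc_f_rc_14_3 lc_f_rc_20_1 lc_f_rc_5_3 lc_f_rc_14_3 lc_f_rc_10_3 lc_f_rc_14_1 lc_f_rc_10_3 lc_f_rc_17_3 lc_f_rc_14_3 lc_f_rc_19_3 lc_f_rc_20_1 lc_f_rc_20_1 lc_f_rc_14_3 lc_f_rc_21_1 lc_f_rc_14_3 lc_f_rc_22_1 lc_f_Cert_tree) (@D3.rec (fun _ => (Cert rels S Gen.f)) lc_f_rc_17_3 lc_f_rc_14_3 lc_f_rc_17_3 lc_f_rc_10_3 lc_f_rc_17_3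 lc_f_rc_21_1 lc_f_rc_10_3 lc_f_rc_14_3 lc_f_rc_19_3 lc_f_rc_10_3 lc_f_rc_17_3 lc_f_rc_17_3 lc_f_rc_19_3 lc_f_rc_21_1 lc_f_rc_10_3 lc_f_rc_10_3 lc_f_rc_14_1 lc_f_rc_17_3 lc_f_rc_14_3 lc_f_rc_14_3 lc_f_rc_14_3 lc_f_rc_10_3 lc_f_rc_10_3 lc_f_rc_5_1 lc_f_rc_5_1 lc_f_rc_17_3 lc_f_rc_14_3 lc_f_rc_21_1 lc_f_rc_19_5 lc_f_rc_20_1 lc_f_rc_17_1 lc_f_rc_10_3 lc_f_rc_20_1 lc_f_rc_21_1 lc_f_rc_10_3 lc_f_rc_10_3 lc_f_rc_17_3 lc_f_rc_17_3 lc_f_rc_10_3 lc_f_rc_5_3 lc_f_rc_19_3 lc_f_rc_14_3 lc_f_rc_17_3 lc_f_rc_14_3 lc_f_rc_14_3 lc_f_rc_14_3 lc_f_rc_10_1 lc_f_rc_20_1 lc_f_rc_20_1 lc_f_rc_10_3 lc_f_rc_21_1 lc_f_rc_10_3 lc_f_rc_19_5 lc_f_rc_14_3 lc_f_rc_14_3 lc_f_rc_5_1 lc_f_rc_10_3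 lc_f_rc_14_3 lc_f_rc_10_3 lc_f_Cert_tree lc_f_rc_20_1 lc_f_rc_19_5)
def ce_f_13 : D2 → D3 → (Cert rels S Gen.f) := @D2.rec (fun _ => D3 → (Cert rels S Gen.f)) (@D3.rec (fun _ => (Cert rels S Gen.f)) lc_f_rc_20_1 lc_f_rc_17_1 lc_f_rc_21_1 lc_f_rc_17_3 lc_f_Cert_tree lc_f_rc_14_3 lc_f_rc_10_3 lc_f_rc_10_3 lc_f_rc_17_3 lc_f_Cert_tree lc_f_rc_14_3 lc_f_Cert_tree lc_f_rc_5_3 lc_f_rc_19_5 lc_f_rc_20_1 lc_f_rc_20_1 lc_f_rc_20_1 lc_f_rc_20_1 lc_f_rc_10_3 lc_f_rc_22_1 lc_f_rc_10_3 lc_f_rc_5_1 lc_f_rc_21_1 lc_f_rc_5_1 lc_f_rc_21_1 lc_f_rc_17_1 lc_f_rc_21_1 lc_f_rc_20_1 lc_f_rc_5_3 lc_f_rc_10_3 lc_f_rc_14_3 lc_f_rc_20_1 lc_f_Cert_tree lc_f_rc_20_1 lc_f_rc_20_1 lc_f_rc_10_3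 lc_f_rc_21_1 lc_f_rc_20_1 lc_f_rc_10_1 lc_f_rc_17_3 lc_f_Cert_tree lc_f_rc_21_1 lc_f_rc_21_1 lc_f_rc_14_3 lc_f_rc_19_3 lc_f_rc_10_3 lc_f_rc_17_3 lc_f_rc_14_3 lc_f_rc_10_3 lc_f_rc_14_3 lc_f_rc_17_3 lc_f_rc_19_3 lc_f_rc_17_1 lc_f_rc_17_1 lc_f_Cert_tree lc_f_rc_17_1 lc_f_rc_5_1 lc_f_rc_5_1 lc_f_rc_21_1 lc_f_rc_17_1 lc_f_rc_14_3 lc_f_rc_5_1) (@D3.rec (fun _ => (Cert rels S Gen.f)) lc_f_rc_10_1 lc_f_rc_19_5 lc_f_rc_21_1 lc_f_rc_17_1 lc_f_rc_10_3 lc_f_rc_5_3 lc_f_rc_19_5 lc_f_rc_19_5 lc_f_rc_14_3 lc_f_rc_14_1 lc_f_rc_10_3 lc_f_rc_14_3 lc_f_rc_14_1 lc_f_rc_19_3 lc_f_rc_17_3 lc_f_rc_17_3 lc_f_rc_10_3 lc_f_rc_17_3 lc_f_rc_20_1 lc_f_rc_5_3 lc_f_rc_19_3 lc_f_rc_21_1 lc_f_rc_20_1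 lc_f_rc_17_1 lc_f_Cert_tree lc_f_rc_20_1 lc_f_rc_21_1 lc_f_Cert_tree lc_f_Cert_tree lc_f_rc_20_1 lc_f_rc_17_1 lc_f_rc_5_3 lc_f_rc_17_3 lc_f_rc_17_3 lc_f_rc_20_1 lc_f_rc_21_1 lc_f_rc_22_1 lc_f_rc_19_1 lc_f_rc_22_1 lc_f_rc_17_1 lc_f_rc_19_3 lc_f_rc_19_3 lc_f_rc_17_3 lc_f_rc_17_3 lc_f_rc_21_1 lc_f_rc_14_1 lc_f_rc_5_1 lc_f_rc_14_1 lc_f_rc_21_1 lc_f_rc_20_1 lc_f_rc_21_1 lc_f_rc_19_5 lc_f_rc_17_3 lc_f_rc_19_5 lc_f_rc_21_1 lc_f_rc_19_3 lc_f_rc_19_3 lc_f_rc_19_5 lc_f_rc_21_1 lc_f_rc_14_3 lc_f_rc_10_3 lc_f_rc_19_5) (@D3.rec (fun _ => (Cert rels S Gen.f)) lc_f_rc_20_1 lc_f_rc_21_1 lc_f_rc_21_1 lc_f_rc_17_1 lc_f_rc_14_3 lc_f_rc_14_1 lc_f_rc_20_1 lc_f_rc_20_1 lc_f_rc_21_1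 lc_f_rc_17_3 lc_f_rc_10_1 lc_f_rc_21_1 lc_f_rc_14_3 lc_f_rc_20_1 lc_f_rc_20_1 lc_f_rc_17_3 lc_f_rc_10_3 lc_f_rc_10_3 lc_f_rc_17_3 lc_f_rc_14_1 lc_f_rc_14_1 lc_f_rc_20_1 lc_f_rc_14_3 lc_f_rc_17_3 lc_f_rc_14_1 lc_f_rc_19_3 lc_f_rc_17_1 lc_f_rc_21_1 lc_f_rc_5_3 lc_f_rc_10_3 lc_f_rc_19_3 lc_f_rc_10_3 lc_f_rc_10_1 lc_f_rc_10_3 lc_f_rc_14_3 lc_f_rc_21_1 lc_f_rc_20_1 lc_f_rc_5_3 lc_f_rc_17_3 lc_f_rc_21_1 lc_f_Cert_tree lc_f_rc_10_3 lc_f_rc_10_3 lc_f_rc_20_1 lc_f_rc_17_3 lc_f_rc_17_1 lc_f_Cert_tree lc_f_rc_14_3 lc_f_rc_19_3 lc_f_rc_14_3 lc_f_rc_14_3 lc_f_Cert_tree lc_f_rc_20_1 lc_f_rc_21_1 lc_f_rc_10_3 lc_f_rc_17_3 lc_f_rc_14_1 lc_f_rc_20_1 lc_f_rc_5_3 lc_f_rc_20_1 lc_f_rc_5_1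 lc_f_rc_5_1) (@D3.rec (fun _ => (Cert rels S Gen.f)) lc_f_rc_14_3 lc_f_rc_21_1 lc_f_rc_19_3 lc_f_rc_17_3 lc_f_rc_14_3 lc_f_rc_5_1 lc_f_rc_20_1 lc_f_rc_20_1 lc_f_rc_21_1 lc_f_Cert_tree lc_f_rc_20_1 lc_f_rc_17_3 lc_f_rc_14_3 lc_f_rc_20_1 lc_f_rc_17_3 lc_f_rc_19_3 lc_f_rc_20_1 lc_f_rc_10_3 lc_f_rc_21_1 lc_f_rc_10_3 lc_f_rc_19_3 lc_f_rc_17_3 lc_f_rc_17_3 lc_f_rc_17_3 lc_f_rc_20_1 lc_f_rc_21_1 lc_f_rc_5_3 lc_f_rc_17_3 lc_f_rc_20_1 lc_f_rc_14_3 lc_f_rc_17_1 lc_f_Cert_tree lc_f_rc_21_1 lc_f_rc_5_1 lc_f_rc_17_3 lc_f_rc_14_3 lc_f_rc_21_1 lc_f_rc_22_1 lc_f_rc_17_3 lc_f_rc_14_1 lc_f_rc_5_3 lc_f_rc_17_3 lc_f_rc_14_3 lc_f_rc_17_3 lc_f_rc_14_3 lc_f_Cert_tree lc_f_rc_14_3 lc_f_rc_20_1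 lc_f_rc_20_1 lc_f_rc_14_3 lc_f_rc_17_3 lc_f_rc_21_1 lc_f_rc_10_1 lc_f_rc_17_3 lc_f_rc_10_3 lc_f_rc_21_1 lc_f_rc_17_3 lc_f_rc_5_1 lc_f_Cert_tree lc_f_rc_21_1 lc_f_rc_17_3 lc_f_rc_20_1) (@D3.rec (fun _ => (Cert rels S Gen.f)) lc_f_rc_21_1 lc_f_rc_10_3 lc_f_rc_21_1 lc_f_rc_17_3 lc_f_rc_5_1 lc_f_rc_17_3 lc_f_rc_19_3 lc_f_rc_20_1 lc_f_rc_14_3 lc_f_rc_19_3 lc_f_rc_17_3 lc_f_rc_20_1 lc_f_rc_20_1 lc_f_rc_17_3 lc_f_rc_20_1 lc_f_rc_17_1 lc_f_rc_17_1 lc_f_rc_21_1 lc_f_rc_14_3 lc_f_rc_10_3 lc_f_rc_19_1 lc_f_rc_10_3 lc_f_rc_17_3 lc_f_Cert_tree lc_f_rc_14_1 lc_f_rc_17_3 lc_f_Cert_tree lc_f_rc_21_1 lc_f_rc_19_5 lc_f_rc_10_3 lc_f_rc_14_3 lc_f_rc_10_3 lc_f_Cert_tree lc_f_rc_21_1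 lc_f_rc_14_3 lc_f_rc_5_3 lc_f_rc_10_3 lc_f_rc_17_3 lc_f_Cert_tree lc_f_rc_17_1 lc_f_Cert_tree lc_f_rc_19_5 lc_f_rc_10_1 lc_f_rc_20_1 lc_f_rc_21_1 lc_f_rc_20_1 lc_f_rc_5_3 lc_f_rc_10_3 lc_f_rc_20_1 lc_f_rc_14_3 lc_f_rc_21_1 lc_f_rc_17_3 lc_f_rc_20_1 lc_f_rc_10_3 lc_f_rc_14_3 lc_f_rc_14_1 lc_f_rc_10_3 lc_f_rc_21_1 lc_f_rc_5_3 lc_f_rc_10_3 lc_f_rc_19_1 lc_f_rc_14_3) (@D3.rec (fun _ => (Cert rels S Gen.f)) lc_f_rc_21_1 lc_f_rc_22_1 lc_f_rc_17_1 lc_f_Cert_tree lc_f_rc_5_3 lc_f_rc_20_1 lc_f_rc_17_1 lc_f_rc_19_5 lc_f_rc_19_5 lc_f_rc_17_3 lc_f_Cert_tree lc_f_rc_14_3 lc_f_rc_5_1 lc_f_rc_17_3 lc_f_rc_19_5 lc_f_rc_21_1 lc_f_rc_14_3 lc_f_rc_17_3 lc_f_rc_21_1 lc_f_rc_17_3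 lc_f_rc_14_3 lc_f_rc_21_1 lc_f_Cert_tree lc_f_rc_20_1 lc_f_rc_17_3 lc_f_Cert_tree lc_f_rc_21_1 lc_f_rc_20_1 lc_f_rc_20_1 lc_f_rc_20_1 lc_f_rc_5_1 lc_f_Cert_tree lc_f_rc_20_1 lc_f_rc_17_3 lc_f_rc_5_3 lc_f_rc_14_3 lc_f_rc_20_1 lc_f_rc_20_1 lc_f_rc_17_3 lc_f_rc_21_1 lc_f_rc_20_1 lc_f_Cert_tree lc_f_rc_20_1 lc_f_rc_10_3 lc_f_rc_22_1 lc_f_rc_10_1 lc_f_rc_17_3 lc_f_rc_21_1 lc_f_rc_5_3 lc_f_rc_17_3 lc_f_rc_17_1 lc_f_Cert_tree lc_f_rc_20_1 lc_f_rc_5_3 lc_f_rc_17_3 lc_f_rc_14_3 lc_f_rc_17_3 lc_f_rc_14_3 lc_f_Cert_tree lc_f_rc_14_3 lc_f_Cert_tree lc_f_rc_20_1) (@D3.rec (fun _ => (Cert rels S Gen.f)) lc_f_rc_20_1 lc_f_rc_20_1 lc_f_Cert_tree lc_f_rc_17_3 lc_f_Cert_tree lc_f_rc_21_1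 lc_f_Cert_tree lc_f_rc_17_1 lc_f_rc_20_1 lc_f_rc_19_3 lc_f_rc_10_1 lc_f_rc_19_3 lc_f_rc_14_3 lc_f_Cert_tree lc_f_rc_14_1 lc_f_rc_19_1 lc_f_rc_22_1 lc_f_rc_5_1 lc_f_rc_20_1 lc_f_rc_17_1 lc_f_rc_20_1 lc_f_rc_5_3 lc_f_rc_19_1 lc_f_rc_17_3 lc_f_rc_14_1 lc_f_rc_22_1 lc_f_rc_5_1 lc_f_rc_14_3 lc_f_rc_17_3 lc_f_rc_19_3 lc_f_rc_17_1 lc_f_rc_20_1 lc_f_rc_14_3 lc_f_rc_14_3 lc_f_rc_19_3 lc_f_rc_14_3 lc_f_rc_14_3 lc_f_rc_5_1 lc_f_Cert_tree lc_f_rc_20_1 lc_f_rc_10_1 lc_f_rc_17_3 lc_f_Cert_tree lc_f_rc_10_3 lc_f_rc_21_1 lc_f_Cert_tree lc_f_rc_20_1 lc_f_rc_17_3 lc_f_rc_5_1 lc_f_rc_17_3 lc_f_rc_14_3 lc_f_rc_14_3 lc_f_rc_22_1 lc_f_rc_17_3 lc_f_rc_17_1 lc_f_Cert_tree lc_f_rc_20_1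 lc_f_rc_17_3 lc_f_rc_5_1 lc_f_Cert_tree lc_f_rc_21_1 lc_f_rc_20_1) (@D3.rec (fun _ => (Cert rels S Gen.f)) lc_f_rc_10_3 lc_f_rc_10_3 lc_f_Cert_tree lc_f_rc_20_1 lc_f_rc_14_3 lc_f_Cert_tree lc_f_rc_10_3 lc_f_rc_17_3 lc_f_Cert_tree lc_f_rc_19_3 lc_f_rc_10_3 lc_f_rc_20_1 lc_f_Cert_tree lc_f_rc_17_3 lc_f_rc_10_3 lc_f_rc_5_1 lc_f_rc_5_3 lc_f_rc_17_1 lc_f_rc_20_1 lc_f_rc_10_3 lc_f_rc_17_3 lc_f_rc_21_1 lc_f_rc_20_1 lc_f_Cert_tree lc_f_rc_20_1 lc_f_rc_19_5 lc_f_rc_5_3 lc_f_rc_17_3 lc_f_rc_14_3 lc_f_rc_5_1 lc_f_rc_10_3 lc_f_rc_14_3 lc_f_rc_14_3 lc_f_rc_17_3 lc_f_rc_14_3 lc_f_rc_19_1 lc_f_rc_21_1 lc_f_rc_20_1 lc_f_rc_10_3 lc_f_rc_19_3 lc_f_rc_21_1 lc_f_rc_5_3 lc_f_rc_14_3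 lc_f_rc_17_3 lc_f_rc_17_3 lc_f_rc_21_1 lc_f_rc_14_3 lc_f_rc_14_3 lc_f_rc_17_3 lc_f_rc_19_3 lc_f_rc_20_1 lc_f_rc_21_1 lc_f_rc_5_1 lc_f_rc_20_1 lc_f_rc_5_1 lc_f_rc_20_1 lc_f_rc_17_3 lc_f_rc_5_3 lc_f_rc_14_3 lc_f_rc_22_1 lc_f_rc_19_3 lc_f_rc_14_3) (@D3.rec (fun _ => (Cert rels S Gen.f)) lc_f_rc_17_3 lc_f_rc_10_3 lc_f_rc_21_1 lc_f_rc_20_1 lc_f_rc_20_1 lc_f_rc_14_3 lc_f_rc_17_3 lc_f_rc_19_1 lc_f_rc_14_3 lc_f_rc_10_3 lc_f_rc_17_3 lc_f_rc_20_1 lc_f_rc_20_1 lc_f_rc_21_1 lc_f_Cert_tree lc_f_rc_20_1 lc_f_rc_14_3 lc_f_rc_17_3 lc_f_rc_14_3 lc_f_rc_17_3 lc_f_rc_21_1 lc_f_rc_17_3 lc_f_Cert_tree lc_f_rc_20_1 lc_f_rc_14_3 lc_f_rc_17_3 lc_f_rc_14_3 lc_f_rc_17_3 lc_f_rc_14_3 lc_f_Cert_tree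 lc_f_rc_14_3 lc_f_Cert_tree lc_f_rc_20_1 lc_f_rc_10_3 lc_f_rc_5_1 lc_f_Cert_tree lc_f_rc_20_1 lc_f_Cert_tree lc_f_Cert_tree lc_f_rc_20_1 lc_f_rc_19_3 lc_f_rc_17_3 lc_f_rc_14_3 lc_f_rc_14_3 lc_f_rc_10_3 lc_f_rc_20_1 lc_f_rc_20_1 lc_f_rc_20_1 lc_f_rc_20_1 lc_f_rc_17_3 lc_f_rc_10_1 lc_f_rc_17_3 lc_f_Cert_tree lc_f_rc_14_3 lc_f_rc_21_1 lc_f_rc_17_3 lc_f_Cert_tree lc_f_rc_20_1 lc_f_rc_17_3 lc_f_rc_14_3 lc_f_rc_14_1 lc_f_rc_14_3) (@D3.rec (fun _ => (Cert rels S Gen.f)) lc_f_rc_17_3 lc_f_rc_14_3 lc_f_rc_19_3 lc_f_rc_21_1 lc_f_rc_17_3 lc_f_rc_20_1 lc_f_rc_21_1 lc_f_Cert_tree lc_f_rc_20_1 lc_f_rc_17_3 lc_f_rc_10_3 lc_f_rc_17_3 lc_f_rc_21_1 lc_f_rc_22_1 lc_f_rc_20_1 lc_f_Cert_tree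 lc_f_rc_21_1 lc_f_rc_20_1 lc_f_rc_10_3 lc_f_rc_10_3 lc_f_Cert_tree lc_f_rc_14_3 lc_f_rc_14_3 lc_f_rc_10_3 lc_f_rc_22_1 lc_f_Cert_tree lc_f_rc_14_3 lc_f_rc_21_1 lc_f_rc_17_3 lc_f_rc_20_1 lc_f_rc_19_3 lc_f_rc_10_3 lc_f_rc_20_1 lc_f_Cert_tree lc_f_rc_10_3 lc_f_rc_22_1 lc_f_rc_21_1 lc_f_rc_14_1 lc_f_rc_17_3 lc_f_rc_5_3 lc_f_Cert_tree lc_f_rc_14_3 lc_f_rc_5_1 lc_f_rc_10_1 lc_f_rc_20_1 lc_f_rc_5_3 lc_f_rc_20_1 lc_f_rc_20_1 lc_f_rc_20_1 lc_f_rc_10_3 lc_f_rc_17_3 lc_f_rc_20_1 lc_f_rc_14_3 lc_f_Cert_tree lc_f_rc_20_1 lc_f_rc_10_1 lc_f_rc_10_3 lc_f_rc_19_3 lc_f_rc_10_1 lc_f_rc_20_1 lc_f_Cert_tree lc_f_rc_10_1) (@D3.rec (fun _ => (Cert rels S Gen.f)) lc_f_rc_5_1 lc_f_Cert_tree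 lc_f_rc_20_1 lc_f_rc_5_1 lc_f_rc_5_3 lc_f_rc_14_3 lc_f_rc_14_3 lc_f_rc_10_3 lc_f_rc_17_3 lc_f_rc_20_1 lc_f_rc_14_3 lc_f_rc_14_3 lc_f_rc_14_1 lc_f_rc_20_1 lc_f_rc_14_3 lc_f_rc_20_1 lc_f_rc_20_1 lc_f_rc_20_1 lc_f_rc_10_1 lc_f_Cert_tree lc_f_rc_20_1 lc_f_rc_5_1 lc_f_rc_14_1 lc_f_rc_14_3 lc_f_rc_5_1 lc_f_rc_22_1 lc_f_rc_20_1 lc_f_rc_19_3 lc_f_rc_14_3 lc_f_rc_17_3 lc_f_rc_10_1 lc_f_rc_20_1 lc_f_rc_10_3 lc_f_rc_20_1 lc_f_rc_20_1 lc_f_rc_20_1 lc_f_rc_17_3 lc_f_rc_17_1 lc_f_rc_10_1 lc_f_rc_17_3 lc_f_rc_14_3 lc_f_rc_10_3 lc_f_Cert_tree lc_f_rc_20_1 lc_f_Cert_tree lc_f_rc_17_3 lc_f_rc_19_3 lc_f_rc_20_1 lc_f_rc_5_3 lc_f_rc_17_3 lc_f_rc_10_1 lc_f_rc_21_1 lc_f_rc_20_1 lc_f_Cert_tree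 lc_f_rc_20_1 lc_f_rc_21_1 lc_f_rc_5_1 lc_f_rc_10_3 lc_f_rc_19_3 lc_f_rc_5_3 lc_f_rc_21_1 lc_f_rc_17_3) (@D3.rec (fun _ => (Cert rels S Gen.f)) lc_f_rc_17_3 lc_f_rc_21_1 lc_f_rc_14_3 lc_f_rc_17_3 lc_f_rc_14_3 lc_f_rc_10_3 lc_f_rc_14_1 lc_f_rc_14_3 lc_f_rc_17_1 lc_f_rc_22_1 lc_f_rc_10_3 lc_f_rc_20_1 lc_f_rc_14_3 lc_f_rc_14_1 lc_f_rc_14_1 lc_f_rc_21_1 lc_f_rc_21_1 lc_f_rc_17_3 lc_f_Cert_tree lc_f_rc_14_1 lc_f_rc_10_3 lc_f_rc_21_1 lc_f_rc_14_1 lc_f_rc_10_3 lc_f_rc_19_3 lc_f_rc_21_1 lc_f_rc_17_1 lc_f_rc_20_1 lc_f_rc_10_3 lc_f_rc_14_3 lc_f_Cert_tree lc_f_rc_14_3 lc_f_rc_5_1 lc_f_rc_21_1 lc_f_rc_17_1 lc_f_rc_10_3 lc_f_rc_17_3 lc_f_rc_17_3 lc_f_rc_21_1 lc_f_rc_20_1 lc_f_rc_5_3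 lc_f_rc_5_3 lc_f_rc_17_3 lc_f_rc_21_1 lc_f_rc_14_3 lc_f_Cert_tree lc_f_rc_19_1 lc_f_rc_19_3 lc_f_rc_17_3 lc_f_rc_10_3 lc_f_rc_21_1 lc_f_rc_5_3 lc_f_rc_10_3 lc_f_rc_20_1 lc_f_rc_14_3 lc_f_rc_17_3 lc_f_rc_14_3 lc_f_rc_14_3 lc_f_Cert_tree lc_f_rc_14_3 lc_f_rc_21_1 lc_f_rc_10_3) (@D3.rec (fun _ => (Cert rels S Gen.f)) lc_f_rc_22_1 lc_f_rc_17_3 lc_f_Cert_tree lc_f_rc_20_1 lc_f_rc_5_3 lc_f_rc_14_1 lc_f_rc_10_3 lc_f_Cert_tree lc_f_rc_10_3 lc_f_rc_19_3 lc_f_Cert_tree lc_f_rc_20_1 lc_f_rc_20_1 lc_f_rc_17_3 lc_f_rc_10_3 lc_f_Cert_tree lc_f_Cert_tree lc_f_rc_21_1 lc_f_rc_5_1 lc_f_rc_10_3 lc_f_rc_20_1 lc_f_rc_19_3 lc_f_rc_5_3 lc_f_rc_14_3 lc_f_rc_14_3 lc_f_rc_10_3 lc_f_rc_14_3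 lc_f_rc_21_1 lc_f_rc_14_3 lc_f_rc_20_1 lc_f_rc_20_1 lc_f_rc_19_3 lc_f_rc_20_1 lc_f_rc_20_1 lc_f_rc_17_3 lc_f_rc_10_3 lc_f_rc_10_3 lc_f_rc_5_1 lc_f_rc_10_3 lc_f_rc_14_3 lc_f_rc_21_1 lc_f_rc_20_1 lc_f_rc_10_3 lc_f_rc_19_3 lc_f_rc_21_1 lc_f_rc_21_1 lc_f_Cert_tree lc_f_rc_10_3 lc_f_rc_21_1 lc_f_rc_17_3 lc_f_rc_10_3 lc_f_rc_17_3 lc_f_rc_10_3 lc_f_rc_17_3 lc_f_rc_10_3 lc_f_rc_21_1 lc_f_rc_21_1 lc_f_rc_20_1 lc_f_rc_14_3 lc_f_rc_17_3 lc_f_rc_14_1 lc_f_Cert_tree) (@D3.rec (fun _ => (Cert rels S Gen.f)) lc_f_rc_21_1 lc_f_rc_5_3 lc_f_rc_17_3 lc_f_rc_10_3 lc_f_rc_20_1 lc_f_rc_5_1 lc_f_rc_17_3 lc_f_rc_19_3 lc_f_rc_19_3 lc_f_rc_10_3 lc_f_rc_17_3 lc_f_rc_17_3 lc_f_rc_21_1 lc_f_rc_5_1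 lc_f_rc_17_3 lc_f_rc_14_1 lc_f_Cert_tree lc_f_rc_17_1 lc_f_rc_5_1 lc_f_rc_10_1 lc_f_rc_21_1 lc_f_rc_20_1 lc_f_rc_19_3 lc_f_rc_14_1 lc_f_rc_14_3 lc_f_rc_17_1 lc_f_rc_21_1 lc_f_rc_5_3 lc_f_rc_20_1 lc_f_rc_10_3 lc_f_rc_14_1 lc_f_rc_19_1 lc_f_rc_20_1 lc_f_rc_21_1 lc_f_rc_20_1 lc_f_rc_20_1 lc_f_Cert_tree lc_f_rc_19_3 lc_f_rc_19_1 lc_f_rc_10_1 lc_f_rc_17_1 lc_f_Cert_tree lc_f_rc_19_1 lc_f_rc_21_1 lc_f_rc_14_3 lc_f_rc_17_1 lc_f_Cert_tree lc_f_rc_10_3 lc_f_rc_17_3 lc_f_rc_14_3 lc_f_Cert_tree lc_f_rc_10_3 lc_f_Cert_tree lc_f_rc_5_1 lc_f_rc_17_3 lc_f_rc_20_1 lc_f_rc_21_1 lc_f_rc_19_3 lc_f_rc_5_3 lc_f_rc_22_1 lc_f_rc_21_1 lc_f_rc_17_3) (@D3.rec (fun _ => (Cert rels S Gen.f))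 lc_f_rc_10_3 lc_f_rc_10_3 lc_f_rc_10_3 lc_f_rc_10_3 lc_f_rc_5_3 lc_f_rc_17_3 lc_f_rc_20_1 lc_f_rc_14_1 lc_f_Cert_tree lc_f_rc_17_3 lc_f_rc_22_1 lc_f_Cert_tree lc_f_rc_21_1 lc_f_rc_14_3 lc_f_rc_10_3 lc_f_rc_14_3 lc_f_rc_21_1 lc_f_rc_20_1 lc_f_rc_14_1 lc_f_rc_19_3 lc_f_rc_10_3 lc_f_rc_17_3 lc_f_rc_5_1 lc_f_rc_14_3 lc_f_rc_17_3 lc_f_rc_22_1 lc_f_rc_10_3 lc_f_rc_17_3 lc_f_rc_5_3 lc_f_rc_14_1 lc_f_Cert_tree lc_f_rc_21_1 lc_f_rc_20_1 lc_f_rc_19_5 lc_f_rc_20_1 lc_f_rc_10_3 lc_f_Cert_tree lc_f_rc_17_1 lc_f_rc_17_1 lc_f_rc_14_3 lc_f_rc_14_3 lc_f_rc_5_3 lc_f_rc_17_3 lc_f_rc_21_1 lc_f_rc_20_1 lc_f_Cert_tree lc_f_rc_20_1 lc_f_rc_10_3 lc_f_rc_10_3 lc_f_rc_22_1 lc_f_rc_19_5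 lc_f_rc_22_1 lc_f_rc_21_1 lc_f_rc_17_3 lc_f_Cert_tree lc_f_rc_20_1 lc_f_rc_10_3 lc_f_rc_5_3 lc_f_rc_14_3 lc_f_rc_20_1 lc_f_rc_20_1 lc_f_rc_20_1) (@D3.rec (fun _ => (Cert rels S Gen.f)) lc_f_rc_10_3 lc_f_rc_17_3 lc_f_rc_5_3 lc_f_rc_19_5 lc_f_rc_17_1 lc_f_rc_21_1 lc_f_rc_14_3 lc_f_rc_10_1 lc_f_rc_10_3 lc_f_Cert_tree lc_f_rc_17_1 lc_f_rc_14_1 lc_f_rc_14_1 lc_f_rc_10_3 lc_f_rc_5_3 lc_f_rc_20_1 lc_f_rc_19_3 lc_f_rc_5_1 lc_f_rc_17_1 lc_f_rc_21_1 lc_f_rc_10_3 lc_f_rc_19_5 lc_f_rc_5_3 lc_f_rc_17_3 lc_f_Cert_tree lc_f_rc_21_1 lc_f_rc_19_5 lc_f_rc_10_3 lc_f_rc_10_3 lc_f_rc_19_1 lc_f_rc_5_3 lc_f_rc_20_1 lc_f_rc_21_1 lc_f_rc_19_5 lc_f_rc_5_1 lc_f_rc_14_3 lc_f_rc_20_1 lc_f_rc_20_1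 lc_f_rc_19_5 lc_f_rc_20_1 lc_f_rc_17_1 lc_f_rc_21_1 lc_f_rc_17_3 lc_f_Cert_tree lc_f_rc_20_1 lc_f_rc_10_3 lc_f_rc_19_5 lc_f_rc_14_1 lc_f_rc_10_3 lc_f_rc_20_1 lc_f_rc_19_1 lc_f_rc_14_3 lc_f_rc_14_3 lc_f_rc_5_3 lc_f_rc_17_3 lc_f_Cert_tree lc_f_rc_19_3 lc_f_Cert_tree lc_f_Cert_tree lc_f_rc_20_1 lc_f_rc_17_3 lc_f_rc_21_1) (@D3.rec (fun _ => (Cert rels S Gen.f)) lc_f_rc_5_3 lc_f_rc_17_1 lc_f_Cert_tree lc_f_rc_21_1 lc_f_rc_5_3 lc_f_rc_21_1 lc_f_rc_5_3 lc_f_rc_21_1 lc_f_rc_17_3 lc_f_rc_20_1 lc_f_rc_5_3 lc_f_rc_5_3 lc_f_rc_10_3 lc_f_rc_10_1 lc_f_Cert_tree lc_f_rc_20_1 lc_f_Cert_tree lc_f_rc_17_3 lc_f_rc_20_1 lc_f_rc_10_3 lc_f_Cert_tree lc_f_rc_14_3 lc_f_rc_21_1 lc_f_rc_20_1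 lc_f_rc_14_3 lc_f_rc_10_1 lc_f_rc_17_1 lc_f_rc_5_1 lc_f_rc_14_3 lc_f_rc_20_1 lc_f_rc_17_1 lc_f_rc_14_3 lc_f_rc_5_1 lc_f_rc_17_1 lc_f_rc_20_1 lc_f_rc_17_3 lc_f_rc_14_3 lc_f_rc_14_3 lc_f_rc_20_1 lc_f_rc_10_3 lc_f_rc_14_1 lc_f_rc_5_3 lc_f_Cert_tree lc_f_rc_14_1 lc_f_rc_10_3 lc_f_rc_17_3 lc_f_rc_19_1 lc_f_rc_17_3 lc_f_rc_14_3 lc_f_rc_20_1 lc_f_rc_19_3 lc_f_rc_14_1 lc_f_rc_20_1 lc_f_rc_14_3 lc_f_rc_10_3 lc_f_rc_10_3 lc_f_rc_10_3 lc_f_rc_5_1 lc_f_Cert_tree lc_f_rc_14_3 lc_f_rc_5_3 lc_f_rc_17_3) (@D3.rec (fun _ => (Cert rels S Gen.f)) lc_f_rc_20_1 lc_f_Cert_tree lc_f_rc_20_1 lc_f_rc_20_1 lc_f_Cert_tree lc_f_rc_21_1 lc_f_rc_19_3 lc_f_rc_21_1 lc_f_rc_17_3 lc_f_rc_5_3 lc_f_rc_17_1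 lc_f_rc_14_3 lc_f_Cert_tree lc_f_rc_21_1 lc_f_rc_5_3 lc_f_rc_14_3 lc_f_rc_17_3 lc_f_rc_14_3 lc_f_rc_10_3 lc_f_rc_14_3 lc_f_rc_17_3 lc_f_rc_5_1 lc_f_rc_10_3 lc_f_Cert_tree lc_f_rc_21_1 lc_f_rc_14_3 lc_f_Cert_tree lc_f_rc_20_1 lc_f_Cert_tree lc_f_rc_20_1 lc_f_rc_10_3 lc_f_rc_5_1 lc_f_rc_10_3 lc_f_rc_14_1 lc_f_rc_17_1 lc_f_rc_10_1 lc_f_rc_20_1 lc_f_rc_20_1 lc_f_rc_14_3 lc_f_rc_10_1 lc_f_rc_17_3 lc_f_rc_14_3 lc_f_rc_5_3 lc_f_Cert_tree lc_f_Cert_tree lc_f_rc_20_1 lc_f_rc_10_1 lc_f_rc_5_1 lc_f_rc_14_3 lc_f_rc_17_3 lc_f_rc_20_1 lc_f_rc_14_3 lc_f_rc_17_3 lc_f_rc_19_1 lc_f_rc_21_1 lc_f_rc_17_3 lc_f_rc_5_3 lc_f_rc_20_1 lc_f_rc_20_1 lc_f_rc_10_3 lc_f_Cert_tree lc_f_rc_10_3)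 (@D3.rec (fun _ => (Cert rels S Gen.f)) lc_f_Cert_tree lc_f_rc_10_3 lc_f_Cert_tree lc_f_rc_20_1 lc_f_rc_14_1 lc_f_rc_5_1 lc_f_rc_10_3 lc_f_rc_10_3 lc_f_rc_10_1 lc_f_rc_14_3 lc_f_rc_14_3 lc_f_rc_17_1 lc_f_rc_5_1 lc_f_rc_10_3 lc_f_rc_20_1 lc_f_rc_10_3 lc_f_rc_19_5 lc_f_rc_20_1 lc_f_rc_21_1 lc_f_rc_17_1 lc_f_rc_20_1 lc_f_rc_21_1 lc_f_rc_5_1 lc_f_rc_14_3 lc_f_rc_20_1 lc_f_rc_10_3 lc_f_rc_5_1 lc_f_Cert_tree lc_f_rc_10_3 lc_f_rc_20_1 lc_f_rc_20_1 lc_f_rc_17_3 lc_f_rc_20_1 lc_f_rc_17_3 lc_f_rc_21_1 lc_f_rc_17_3 lc_f_rc_22_1 lc_f_rc_20_1 lc_f_rc_17_3 lc_f_rc_20_1 lc_f_rc_17_3 lc_f_Cert_tree lc_f_rc_14_3 lc_f_rc_5_3 lc_f_rc_10_3 lc_f_rc_10_3 lc_f_rc_21_1 lc_f_Cert_tree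 lc_f_rc_10_3 lc_f_rc_21_1 lc_f_Cert_tree lc_f_rc_10_3 lc_f_rc_14_3 lc_f_rc_17_1 lc_f_rc_21_1 lc_f_rc_17_1 lc_f_rc_10_3 lc_f_rc_10_3 lc_f_rc_10_3 lc_f_rc_5_3 lc_f_Cert_tree lc_f_rc_14_1) (@D3.rec (fun _ => (Cert rels S Gen.f)) lc_f_Cert_tree lc_f_rc_5_1 lc_f_Cert_tree lc_f_rc_20_1 lc_f_rc_10_1 lc_f_rc_17_1 lc_f_rc_10_3 lc_f_rc_21_1 lc_f_rc_20_1 lc_f_rc_10_3 lc_f_rc_14_3 lc_f_Cert_tree lc_f_rc_10_3 lc_f_rc_5_1 lc_f_rc_21_1 lc_f_Cert_tree lc_f_rc_20_1 lc_f_rc_20_1 lc_f_rc_20_1 lc_f_rc_10_3 lc_f_rc_10_1 lc_f_rc_21_1 lc_f_rc_21_1 lc_f_rc_10_1 lc_f_rc_17_1 lc_f_rc_10_3 lc_f_rc_17_3 lc_f_rc_14_3 lc_f_rc_21_1 lc_f_rc_21_1 lc_f_rc_5_1 lc_f_rc_17_3 lc_f_rc_20_1 lc_f_rc_14_3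 lc_f_rc_10_1 lc_f_Cert_tree lc_f_rc_20_1 lc_f_rc_5_1 lc_f_rc_14_3 lc_f_rc_19_3 lc_f_rc_20_1 lc_f_rc_17_1 lc_f_rc_10_3 lc_f_rc_17_1 lc_f_rc_14_3 lc_f_rc_17_1 lc_f_rc_20_1 lc_f_rc_17_1 lc_f_rc_17_1 lc_f_rc_14_1 lc_f_rc_20_1 lc_f_rc_20_1 lc_f_rc_20_1 lc_f_rc_10_3 lc_f_rc_17_3 lc_f_rc_17_3 lc_f_rc_21_1 lc_f_Cert_tree lc_f_rc_20_1 lc_f_Cert_tree lc_f_rc_17_3 lc_f_rc_10_3) (@D3.rec (fun _ => (Cert rels S Gen.f)) lc_f_rc_10_1 lc_f_rc_17_1 lc_f_rc_20_1 lc_f_rc_14_3 lc_f_Cert_tree lc_f_rc_20_1 lc_f_rc_10_3 lc_f_rc_21_1 lc_f_rc_17_3 lc_f_rc_14_3 lc_f_rc_10_3 lc_f_rc_17_3 lc_f_rc_14_3 lc_f_rc_17_3 lc_f_rc_17_3 lc_f_rc_20_1 lc_f_rc_5_3 lc_f_rc_20_1 lc_f_rc_17_3 lc_f_rc_10_3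 lc_f_rc_17_3 lc_f_rc_14_3 lc_f_rc_19_3 lc_f_rc_21_1 lc_f_rc_10_1 lc_f_rc_17_3 lc_f_rc_14_1 lc_f_rc_14_3 lc_f_rc_20_1 lc_f_rc_20_1 lc_f_Cert_tree lc_f_rc_17_1 lc_f_rc_17_3 lc_f_Cert_tree lc_f_rc_14_3 lc_f_Cert_tree lc_f_rc_5_1 lc_f_rc_20_1 lc_f_rc_17_3 lc_f_rc_22_1 lc_f_rc_5_3 lc_f_rc_10_3 lc_f_rc_5_1 lc_f_Cert_tree lc_f_rc_19_1 lc_f_rc_21_1 lc_f_rc_10_1 lc_f_Cert_tree lc_f_Cert_tree lc_f_rc_19_3 lc_f_rc_17_1 lc_f_rc_20_1 lc_f_rc_22_1 lc_f_Cert_tree lc_f_Cert_tree lc_f_rc_14_3 lc_f_rc_20_1 lc_f_rc_19_3 lc_f_rc_17_3 lc_f_rc_21_1 lc_f_rc_17_3 lc_f_rc_19_3) (@D3.rec (fun _ => (Cert rels S Gen.f)) lc_f_rc_10_3 lc_f_rc_10_1 lc_f_rc_17_3 lc_f_rc_5_1 lc_f_rc_14_3 lc_f_rc_19_5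 lc_f_rc_17_1 lc_f_rc_17_3 lc_f_Cert_tree lc_f_rc_17_3 lc_f_rc_17_3 lc_f_rc_20_1 lc_f_rc_21_1 lc_f_rc_14_3 lc_f_Cert_tree lc_f_rc_19_5 lc_f_rc_20_1 lc_f_rc_20_1 lc_f_rc_20_1 lc_f_rc_10_3 lc_f_rc_14_3 lc_f_Cert_tree lc_f_rc_21_1 lc_f_rc_19_1 lc_f_rc_14_3 lc_f_rc_21_1 lc_f_rc_10_1 lc_f_Cert_tree lc_f_rc_10_1 lc_f_rc_5_1 lc_f_Cert_tree lc_f_rc_20_1 lc_f_rc_14_3 lc_f_rc_10_1 lc_f_rc_14_3 lc_f_rc_17_3 lc_f_rc_19_3 lc_f_rc_20_1 lc_f_rc_10_3 lc_f_rc_21_1 lc_f_rc_20_1 lc_f_rc_14_3 lc_f_Cert_tree lc_f_rc_21_1 lc_f_rc_20_1 lc_f_rc_17_3 lc_f_rc_10_3 lc_f_Cert_tree lc_f_rc_17_1 lc_f_rc_20_1 lc_f_Cert_tree lc_f_rc_20_1 lc_f_rc_17_3 lc_f_rc_17_3 lc_f_rc_14_3 lc_f_Cert_tree lc_f_rc_5_3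 lc_f_Cert_tree lc_f_rc_17_1 lc_f_rc_17_1 lc_f_Cert_tree lc_f_rc_20_1) (@D3.rec (fun _ => (Cert rels S Gen.f)) lc_f_rc_14_3 lc_f_rc_10_3 lc_f_rc_14_1 lc_f_rc_20_1 lc_f_rc_10_3 lc_f_rc_14_3 lc_f_rc_10_3 lc_f_rc_10_3 lc_f_rc_5_1 lc_f_rc_10_3 lc_f_rc_20_1 lc_f_Cert_tree lc_f_rc_19_3 lc_f_rc_14_3 lc_f_rc_10_1 lc_f_rc_17_3 lc_f_rc_14_3 lc_f_rc_17_3 lc_f_rc_20_1 lc_f_rc_21_1 lc_f_rc_20_1 lc_f_Cert_tree lc_f_rc_10_3 lc_f_rc_19_5 lc_f_rc_5_1 lc_f_Cert_tree lc_f_rc_21_1 lc_f_rc_17_3 lc_f_Cert_tree lc_f_rc_10_3 lc_f_rc_21_1 lc_f_Cert_tree lc_f_rc_21_1 lc_f_rc_17_3 lc_f_rc_10_3 lc_f_rc_22_1 lc_f_rc_10_3 lc_f_rc_10_3 lc_f_rc_10_3 lc_f_rc_14_3 lc_f_Cert_tree lc_f_rc_10_3 lc_f_rc_17_3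 lc_f_rc_14_3 lc_f_rc_21_1 lc_f_rc_5_3 lc_f_rc_17_3 lc_f_rc_14_3 lc_f_Cert_tree lc_f_rc_17_3 lc_f_rc_21_1 lc_f_rc_14_1 lc_f_rc_19_3 lc_f_rc_20_1 lc_f_rc_21_1 lc_f_rc_20_1 lc_f_rc_10_3 lc_f_rc_14_3 lc_f_Cert_tree lc_f_rc_21_1 lc_f_rc_10_3 lc_f_Cert_tree) (@D3.rec (fun _ => (Cert rels S Gen.f)) lc_f_rc_14_3 lc_f_rc_10_3 lc_f_Cert_tree lc_f_rc_20_1 lc_f_rc_20_1 lc_f_rc_21_1 lc_f_rc_20_1 lc_f_rc_20_1 lc_f_rc_10_3 lc_f_rc_10_3 lc_f_rc_14_1 lc_f_rc_10_1 lc_f_rc_20_1 lc_f_rc_19_1 lc_f_Cert_tree lc_f_rc_17_3 lc_f_rc_10_3 lc_f_rc_14_1 lc_f_rc_20_1 lc_f_rc_5_3 lc_f_rc_19_3 lc_f_rc_17_1 lc_f_rc_10_3 lc_f_rc_10_3 lc_f_rc_5_3 lc_f_rc_10_3 lc_f_rc_5_3 lc_f_rc_14_3 lc_f_rc_17_3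 lc_f_rc_10_1 lc_f_Cert_tree lc_f_rc_19_5 lc_f_rc_10_1 lc_f_rc_5_3 lc_f_rc_20_1 lc_f_rc_20_1 lc_f_rc_17_3 lc_f_rc_5_1 lc_f_rc_14_3 lc_f_rc_5_3 lc_f_rc_17_3 lc_f_Cert_tree lc_f_rc_10_3 lc_f_rc_17_3 lc_f_rc_10_1 lc_f_rc_17_3 lc_f_rc_21_1 lc_f_rc_5_1 lc_f_Cert_tree lc_f_rc_21_1 lc_f_rc_21_1 lc_f_rc_17_3 lc_f_rc_19_1 lc_f_rc_14_3 lc_f_Cert_tree lc_f_rc_17_3 lc_f_rc_20_1 lc_f_rc_21_1 lc_f_rc_19_5 lc_f_rc_10_3 lc_f_rc_14_3 lc_f_Cert_tree) (@D3.rec (fun _ => (Cert rels S Gen.f)) lc_f_rc_19_1 lc_f_rc_5_1 lc_f_rc_5_3 lc_f_rc_19_1 lc_f_rc_17_3 lc_f_rc_20_1 lc_f_rc_10_3 lc_f_Cert_tree lc_f_rc_17_3 lc_f_Cert_tree lc_f_rc_19_1 lc_f_rc_17_1 lc_f_rc_20_1 lc_f_rc_17_3 lc_f_rc_5_3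 lc_f_rc_21_1 lc_f_rc_10_3 lc_f_rc_14_3 lc_f_rc_14_3 lc_f_rc_17_3 lc_f_rc_21_1 lc_f_Cert_tree lc_f_rc_14_3 lc_f_rc_14_3 lc_f_rc_21_1 lc_f_rc_17_1 lc_f_rc_20_1 lc_f_rc_14_1 lc_f_rc_20_1 lc_f_rc_21_1 lc_f_rc_17_3 lc_f_rc_21_1 lc_f_rc_14_3 lc_f_Cert_tree lc_f_rc_14_3 lc_f_Cert_tree lc_f_rc_20_1 lc_f_rc_20_1 lc_f_Cert_tree lc_f_rc_21_1 lc_f_rc_10_3 lc_f_rc_5_1 lc_f_rc_17_1 lc_f_rc_17_3 lc_f_rc_21_1 lc_f_rc_10_3 lc_f_rc_21_1 lc_f_rc_10_3 lc_f_rc_5_3 lc_f_rc_17_3 lc_f_rc_14_3 lc_f_Cert_tree lc_f_rc_19_1 lc_f_rc_21_1 lc_f_rc_14_3 lc_f_Cert_tree lc_f_rc_17_3 lc_f_rc_14_3 lc_f_Cert_tree lc_f_rc_17_3 lc_f_rc_21_1 lc_f_rc_14_3) (@D3.rec (fun _ => (Cert rels S Gen.f)) lc_f_rc_5_1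 lc_f_rc_14_3 lc_f_rc_10_3 lc_f_rc_22_1 lc_f_rc_14_1 lc_f_rc_14_1 lc_f_rc_21_1 lc_f_rc_20_1 lc_f_rc_10_3 lc_f_rc_20_1 lc_f_rc_10_3 lc_f_rc_5_1 lc_f_rc_10_3 lc_f_rc_14_3 lc_f_Cert_tree lc_f_rc_14_1 lc_f_rc_17_3 lc_f_rc_14_3 lc_f_rc_5_1 lc_f_rc_20_1 lc_f_rc_20_1 lc_f_rc_22_1 lc_f_Cert_tree lc_f_rc_14_3 lc_f_rc_10_3 lc_f_rc_10_3 lc_f_rc_22_1 lc_f_Cert_tree lc_f_rc_10_3 lc_f_rc_21_1 lc_f_rc_17_3 lc_f_rc_10_3 lc_f_rc_17_3 lc_f_rc_14_3 lc_f_Cert_tree lc_f_rc_14_3 lc_f_Cert_tree lc_f_rc_17_3 lc_f_rc_14_3 lc_f_Cert_tree lc_f_rc_10_3 lc_f_rc_14_3 lc_f_Cert_tree lc_f_rc_5_1 lc_f_rc_14_3 lc_f_rc_10_3 lc_f_rc_22_1 lc_f_rc_17_3 lc_f_rc_21_1 lc_f_rc_20_1 lc_f_rc_14_3 lc_f_rc_20_1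 lc_f_rc_10_3 lc_f_rc_10_3 lc_f_rc_17_3 lc_f_rc_21_1 lc_f_rc_10_3 lc_f_rc_14_3 lc_f_rc_20_1 lc_f_rc_10_3 lc_f_rc_14_3 lc_f_Cert_tree) (@D3.rec (fun _ => (Cert rels S Gen.f)) lc_f_rc_10_3 lc_f_rc_17_3 lc_f_rc_21_1 lc_f_rc_20_1 lc_f_rc_5_3 lc_f_rc_17_3 lc_f_Cert_tree lc_f_rc_19_1 lc_f_rc_5_1 lc_f_rc_17_3 lc_f_Cert_tree lc_f_rc_21_1 lc_f_rc_5_3 lc_f_rc_14_3 lc_f_rc_19_1 lc_f_rc_14_1 lc_f_rc_21_1 lc_f_rc_20_1 lc_f_rc_20_1 lc_f_Cert_tree lc_f_rc_19_1 lc_f_rc_21_1 lc_f_rc_10_3 lc_f_rc_22_1 lc_f_Cert_tree lc_f_rc_20_1 lc_f_Cert_tree lc_f_rc_10_3 lc_f_rc_17_3 lc_f_rc_14_1 lc_f_rc_14_1 lc_f_rc_20_1 lc_f_rc_19_1 lc_f_rc_21_1 lc_f_rc_14_3 lc_f_rc_19_3 lc_f_rc_10_3 lc_f_rc_17_3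 lc_f_rc_20_1 lc_f_rc_10_3 lc_f_rc_21_1 lc_f_rc_20_1 lc_f_rc_14_3 lc_f_rc_19_3 lc_f_rc_10_3 lc_f_rc_17_1 lc_f_rc_20_1 lc_f_rc_10_3 lc_f_rc_5_3 lc_f_rc_17_3 lc_f_rc_14_3 lc_f_Cert_tree lc_f_rc_21_1 lc_f_rc_20_1 lc_f_rc_17_3 lc_f_rc_10_1 lc_f_rc_14_3 lc_f_rc_20_1 lc_f_rc_20_1 lc_f_rc_20_1 lc_f_rc_21_1 lc_f_rc_5_3) (@D3.rec (fun _ => (Cert rels S Gen.f)) lc_f_rc_17_1 lc_f_rc_14_3 lc_f_rc_19_3 lc_f_rc_14_1 lc_f_rc_17_3 lc_f_rc_17_1 lc_f_rc_20_1 lc_f_rc_21_1 lc_f_rc_10_3 lc_f_rc_10_3 lc_f_rc_5_1 lc_f_Cert_tree lc_f_rc_10_3 lc_f_rc_22_1 lc_f_rc_21_1 lc_f_rc_17_1 lc_f_Cert_tree lc_f_rc_5_1 lc_f_rc_10_3 lc_f_rc_14_3 lc_f_rc_19_1 lc_f_rc_14_3 lc_f_rc_21_1 lc_f_rc_14_1 lc_f_rc_19_5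 lc_f_rc_19_1 lc_f_rc_19_5 lc_f_rc_17_3 lc_f_rc_10_3 lc_f_rc_21_1 lc_f_Cert_tree lc_f_rc_14_3 lc_f_rc_21_1 lc_f_rc_20_1 lc_f_rc_17_3 lc_f_rc_14_3 lc_f_rc_5_3 lc_f_rc_20_1 lc_f_rc_17_3 lc_f_rc_17_1 lc_f_rc_20_1 lc_f_rc_14_3 lc_f_rc_14_3 lc_f_rc_17_1 lc_f_rc_19_3 lc_f_rc_20_1 lc_f_rc_19_3 lc_f_rc_10_3 lc_f_rc_10_3 lc_f_rc_17_1 lc_f_rc_20_1 lc_f_rc_22_1 lc_f_rc_14_1 lc_f_rc_10_3 lc_f_rc_14_1 lc_f_rc_21_1 lc_f_rc_17_3 lc_f_rc_21_1 lc_f_rc_14_3 lc_f_Cert_tree lc_f_rc_20_1 lc_f_rc_10_3) (@D3.rec (fun _ => (Cert rels S Gen.f)) lc_f_rc_21_1 lc_f_rc_17_3 lc_f_rc_10_3 lc_f_rc_20_1 lc_f_rc_17_3 lc_f_rc_20_1 lc_f_rc_10_3 lc_f_rc_17_3 lc_f_rc_14_1 lc_f_rc_20_1 lc_f_rc_10_1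 lc_f_rc_17_3 lc_f_rc_21_1 lc_f_Cert_tree lc_f_rc_20_1 lc_f_rc_10_3 lc_f_rc_5_1 lc_f_Cert_tree lc_f_rc_21_1 lc_f_rc_5_3 lc_f_rc_17_3 lc_f_rc_10_3 lc_f_rc_14_3 lc_f_Cert_tree lc_f_rc_20_1 lc_f_rc_20_1 lc_f_Cert_tree lc_f_rc_10_3 lc_f_rc_14_3 lc_f_Cert_tree lc_f_rc_5_1 lc_f_rc_20_1 lc_f_rc_10_1 lc_f_rc_20_1 lc_f_rc_19_3 lc_f_rc_17_3 lc_f_rc_10_3 lc_f_rc_5_3 lc_f_rc_17_3 lc_f_rc_14_3 lc_f_Cert_tree lc_f_rc_10_3 lc_f_rc_5_1 lc_f_rc_10_3 lc_f_rc_14_3 lc_f_rc_10_3 lc_f_rc_17_3 lc_f_Cert_tree lc_f_rc_19_1 lc_f_rc_5_1 lc_f_rc_5_3 lc_f_rc_10_3 lc_f_Cert_tree lc_f_rc_21_1 lc_f_rc_19_1 lc_f_rc_5_3 lc_f_rc_17_3 lc_f_rc_19_3 lc_f_Cert_tree lc_f_rc_21_1 lc_f_rc_21_1 lc_f_rc_21_1)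 (@D3.rec (fun _ => (Cert rels S Gen.f)) lc_f_rc_14_3 lc_f_rc_10_3 lc_f_rc_17_3 lc_f_rc_5_3 lc_f_rc_5_3 lc_f_rc_17_3 lc_f_rc_10_3 lc_f_Cert_tree lc_f_rc_10_3 lc_f_rc_19_3 lc_f_rc_20_1 lc_f_rc_20_1 lc_f_rc_14_3 lc_f_rc_20_1 lc_f_rc_20_1 lc_f_rc_5_1 lc_f_rc_20_1 lc_f_rc_20_1 lc_f_rc_17_3 lc_f_rc_10_1 lc_f_Cert_tree lc_f_rc_20_1 lc_f_rc_17_1 lc_f_rc_14_3 lc_f_rc_22_1 lc_f_rc_21_1 lc_f_rc_21_1 lc_f_rc_10_3 lc_f_rc_10_3 lc_f_rc_17_1 lc_f_rc_5_1 lc_f_rc_19_1 lc_f_rc_20_1 lc_f_rc_20_1 lc_f_Cert_tree lc_f_rc_20_1 lc_f_rc_21_1 lc_f_Cert_tree lc_f_rc_20_1 lc_f_rc_14_3 lc_f_rc_17_3 lc_f_rc_21_1 lc_f_rc_14_3 lc_f_Cert_tree lc_f_rc_20_1 lc_f_rc_17_3 lc_f_rc_5_3 lc_f_rc_10_3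 lc_f_Cert_tree lc_f_rc_10_3 lc_f_rc_17_1 lc_f_rc_10_3 lc_f_rc_17_3 lc_f_rc_21_1 lc_f_rc_5_3 lc_f_rc_10_3 lc_f_Cert_tree lc_f_rc_5_1 lc_f_rc_20_1 lc_f_rc_17_3 lc_f_rc_5_1 lc_f_rc_14_3) (@D3.rec (fun _ => (Cert rels S Gen.f)) lc_f_rc_10_3 lc_f_rc_10_1 lc_f_rc_5_3 lc_f_rc_14_1 lc_f_rc_21_1 lc_f_rc_14_1 lc_f_rc_17_3 lc_f_rc_10_3 lc_f_rc_14_1 lc_f_rc_20_1 lc_f_rc_17_3 lc_f_rc_14_3 lc_f_Cert_tree lc_f_rc_10_3 lc_f_rc_17_3 lc_f_Cert_tree lc_f_rc_14_3 lc_f_rc_17_1 lc_f_rc_10_1 lc_f_rc_10_1 lc_f_rc_17_3 lc_f_rc_10_1 lc_f_rc_17_3 lc_f_rc_21_1 lc_f_rc_20_1 lc_f_rc_20_1 lc_f_rc_17_3 lc_f_rc_21_1 lc_f_rc_10_3 lc_f_rc_10_3 lc_f_rc_5_1 lc_f_rc_17_3 lc_f_rc_21_1 lc_f_rc_17_3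 lc_f_Cert_tree lc_f_rc_20_1 lc_f_rc_10_3 lc_f_rc_17_3 lc_f_rc_14_3 lc_f_rc_14_1 lc_f_rc_17_1 lc_f_rc_5_3 lc_f_Cert_tree lc_f_Cert_tree lc_f_rc_21_1 lc_f_rc_14_3 lc_f_Cert_tree lc_f_rc_20_1 lc_f_rc_14_3 lc_f_rc_10_1 lc_f_rc_10_3 lc_f_rc_17_3 lc_f_rc_21_1 lc_f_rc_20_1 lc_f_rc_17_3 lc_f_rc_17_3 lc_f_rc_20_1 lc_f_rc_14_1 lc_f_rc_21_1 lc_f_rc_22_1 lc_f_rc_21_1 lc_f_rc_20_1) (@D3.rec (fun _ => (Cert rels S Gen.f)) lc_f_Cert_tree lc_f_rc_10_3 lc_f_Cert_tree lc_f_rc_22_1 lc_f_rc_14_3 lc_f_rc_5_3 lc_f_rc_22_1 lc_f_rc_14_3 lc_f_rc_21_1 lc_f_rc_20_1 lc_f_Cert_tree lc_f_rc_20_1 lc_f_rc_21_1 lc_f_rc_21_1 lc_f_rc_5_1 lc_f_rc_20_1 lc_f_rc_22_1 lc_f_rc_5_3 lc_f_rc_17_3 lc_f_rc_14_3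 lc_f_Cert_tree lc_f_rc_21_1 lc_f_rc_10_3 lc_f_rc_14_3 lc_f_Cert_tree lc_f_rc_14_3 lc_f_Cert_tree lc_f_rc_20_1 lc_f_Cert_tree lc_f_rc_14_3 lc_f_rc_14_3 lc_f_rc_20_1 lc_f_rc_19_3 lc_f_rc_20_1 lc_f_rc_20_1 lc_f_rc_17_3 lc_f_rc_5_1 lc_f_rc_17_3 lc_f_rc_5_1 lc_f_rc_10_1 lc_f_rc_14_3 lc_f_Cert_tree lc_f_rc_19_3 lc_f_rc_21_1 lc_f_rc_17_3 lc_f_rc_17_3 lc_f_rc_17_3 lc_f_rc_17_3 lc_f_rc_21_1 lc_f_rc_17_1 lc_f_rc_20_1 lc_f_rc_21_1 lc_f_rc_10_3 lc_f_rc_14_3 lc_f_Cert_tree lc_f_rc_21_1 lc_f_rc_20_1 lc_f_Cert_tree lc_f_rc_20_1 lc_f_rc_14_3 lc_f_rc_17_3 lc_f_rc_10_1) (@D3.rec (fun _ => (Cert rels S Gen.f)) lc_f_rc_17_3 lc_f_Cert_tree lc_f_rc_17_3 lc_f_rc_10_3 lc_f_rc_21_1 lc_f_rc_17_3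 lc_f_rc_20_1 lc_f_rc_21_1 lc_f_rc_17_1 lc_f_rc_10_3 lc_f_rc_20_1 lc_f_rc_21_1 lc_f_rc_22_1 lc_f_Cert_tree lc_f_rc_21_1 lc_f_rc_20_1 lc_f_rc_20_1 lc_f_rc_5_3 lc_f_rc_14_3 lc_f_rc_10_3 lc_f_Cert_tree lc_f_rc_14_3 lc_f_rc_21_1 lc_f_rc_10_3 lc_f_Cert_tree lc_f_rc_20_1 lc_f_rc_14_3 lc_f_rc_20_1 lc_f_rc_10_1 lc_f_rc_14_1 lc_f_rc_14_1 lc_f_Cert_tree lc_f_rc_10_1 lc_f_rc_22_1 lc_f_Cert_tree lc_f_rc_20_1 lc_f_rc_21_1 lc_f_rc_20_1 lc_f_rc_20_1 lc_f_Cert_tree lc_f_rc_10_3 lc_f_rc_21_1 lc_f_Cert_tree lc_f_rc_10_3 lc_f_rc_5_1 lc_f_rc_17_1 lc_f_rc_20_1 lc_f_rc_17_1 lc_f_rc_17_1 lc_f_Cert_tree lc_f_rc_19_3 lc_f_rc_21_1 lc_f_rc_20_1 lc_f_rc_21_1 lc_f_rc_10_1 lc_f_rc_17_3 lc_f_rc_14_3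 lc_f_Cert_tree lc_f_rc_10_3 lc_f_rc_5_1 lc_f_rc_10_3 lc_f_rc_10_3) (@D3.rec (fun _ => (Cert rels S Gen.f)) lc_f_rc_20_1 lc_f_Cert_tree lc_f_rc_21_1 lc_f_rc_17_3 lc_f_rc_17_3 lc_f_rc_5_3 lc_f_rc_17_3 lc_f_rc_21_1 lc_f_rc_14_3 lc_f_rc_19_3 lc_f_rc_20_1 lc_f_rc_10_3 lc_f_rc_14_3 lc_f_rc_20_1 lc_f_Cert_tree lc_f_rc_20_1 lc_f_rc_21_1 lc_f_Cert_tree lc_f_rc_10_3 lc_f_Cert_tree lc_f_rc_14_1 lc_f_rc_14_3 lc_f_Cert_tree lc_f_rc_20_1 lc_f_rc_14_3 lc_f_rc_19_5 lc_f_rc_19_5 lc_f_rc_19_5 lc_f_rc_14_3 lc_f_rc_19_5 lc_f_rc_17_3 lc_f_Cert_tree lc_f_rc_21_1 lc_f_rc_5_3 lc_f_rc_17_3 lc_f_rc_10_3 lc_f_rc_14_3 lc_f_Cert_tree lc_f_rc_19_5 lc_f_rc_22_1 lc_f_rc_20_1 lc_f_rc_17_3 lc_f_rc_20_1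 lc_f_rc_14_3 lc_f_rc_10_3 lc_f_rc_19_5 lc_f_rc_20_1 lc_f_rc_5_3 lc_f_rc_17_1 lc_f_rc_20_1 lc_f_rc_10_3 lc_f_Cert_tree lc_f_rc_19_5 lc_f_rc_20_1 lc_f_Cert_tree lc_f_rc_20_1 lc_f_rc_17_3 lc_f_rc_20_1 lc_f_rc_14_3 lc_f_rc_19_5 lc_f_rc_21_1 lc_f_Cert_tree) (@D3.rec (fun _ => (Cert rels S Gen.f)) lc_f_rc_20_1 lc_f_rc_10_3 lc_f_rc_14_3 lc_f_rc_5_3 lc_f_rc_20_1 lc_f_Cert_tree lc_f_rc_17_3 lc_f_Cert_tree lc_f_rc_10_3 lc_f_rc_20_1 lc_f_rc_10_3 lc_f_rc_20_1 lc_f_rc_20_1 lc_f_rc_21_1 lc_f_rc_20_1 lc_f_rc_5_1 lc_f_rc_14_3 lc_f_rc_5_3 lc_f_rc_10_3 lc_f_rc_19_5 lc_f_rc_17_3 lc_f_rc_5_1 lc_f_rc_20_1 lc_f_rc_5_3 lc_f_rc_10_3 lc_f_rc_10_3 lc_f_rc_17_3 lc_f_rc_22_1 lc_f_rc_17_1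 lc_f_rc_10_3 lc_f_rc_20_1 lc_f_rc_19_1 lc_f_rc_14_1 lc_f_rc_5_1 lc_f_rc_20_1 lc_f_rc_10_3 lc_f_rc_19_1 lc_f_rc_5_3 lc_f_rc_17_3 lc_f_rc_20_1 lc_f_rc_5_3 lc_f_rc_5_1 lc_f_rc_14_3 lc_f_rc_14_3 lc_f_rc_21_1 lc_f_rc_10_3 lc_f_rc_20_1 lc_f_rc_20_1 lc_f_rc_21_1 lc_f_Cert_tree lc_f_rc_20_1 lc_f_rc_22_1 lc_f_rc_10_3 lc_f_rc_19_5 lc_f_rc_14_3 lc_f_rc_5_3 lc_f_rc_19_5 lc_f_rc_19_5 lc_f_rc_14_3 lc_f_rc_17_3 lc_f_rc_10_3 lc_f_rc_21_1) (@D3.rec (fun _ => (Cert rels S Gen.f)) lc_f_rc_17_1 lc_f_rc_17_3 lc_f_rc_5_1 lc_f_rc_14_3 lc_f_Cert_tree lc_f_rc_21_1 lc_f_rc_17_3 lc_f_rc_19_5 lc_f_rc_21_1 lc_f_Cert_tree lc_f_rc_20_1 lc_f_rc_17_1 lc_f_rc_19_5 lc_f_rc_14_3 lc_f_rc_17_1 lc_f_rc_14_3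 lc_f_rc_21_1 lc_f_rc_21_1 lc_f_rc_5_3 lc_f_rc_5_3 lc_f_Cert_tree lc_f_rc_14_1 lc_f_rc_5_1 lc_f_rc_14_3 lc_f_Cert_tree lc_f_rc_14_1 lc_f_rc_19_3 lc_f_rc_17_1 lc_f_rc_20_1 lc_f_rc_17_1 lc_f_rc_17_3 lc_f_Cert_tree lc_f_rc_20_1 lc_f_rc_14_3 lc_f_rc_21_1 lc_f_rc_20_1 lc_f_rc_17_1 lc_f_rc_20_1 lc_f_rc_14_3 lc_f_rc_14_3 lc_f_rc_21_1 lc_f_rc_14_3 lc_f_rc_17_3 lc_f_rc_14_3 lc_f_rc_19_3 lc_f_rc_20_1 lc_f_Cert_tree lc_f_rc_10_3 lc_f_rc_22_1 lc_f_rc_19_1 lc_f_rc_10_1 lc_f_Cert_tree lc_f_rc_20_1 lc_f_rc_17_3 lc_f_rc_10_1 lc_f_rc_20_1 lc_f_rc_19_1 lc_f_rc_17_3 lc_f_rc_14_3 lc_f_rc_10_1 lc_f_rc_14_3 lc_f_rc_14_1) (@D3.rec (fun _ => (Cert rels S Gen.f)) lc_f_rc_20_1 lc_f_rc_17_3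 lc_f_rc_17_3 lc_f_rc_5_3 lc_f_Cert_tree lc_f_rc_10_3 lc_f_rc_17_3 lc_f_Cert_tree lc_f_rc_20_1 lc_f_rc_22_1 lc_f_rc_17_3 lc_f_rc_19_3 lc_f_Cert_tree lc_f_rc_14_1 lc_f_rc_17_1 lc_f_rc_19_5 lc_f_Cert_tree lc_f_rc_19_1 lc_f_rc_17_3 lc_f_rc_10_3 lc_f_rc_10_3 lc_f_rc_14_3 lc_f_Cert_tree lc_f_rc_20_1 lc_f_rc_21_1 lc_f_Cert_tree lc_f_rc_21_1 lc_f_rc_20_1 lc_f_rc_22_1 lc_f_rc_14_3 lc_f_rc_14_3 lc_f_rc_21_1 lc_f_rc_17_3 lc_f_rc_10_3 lc_f_rc_17_1 lc_f_rc_10_3 lc_f_rc_14_3 lc_f_Cert_tree lc_f_rc_21_1 lc_f_rc_20_1 lc_f_rc_20_1 lc_f_rc_20_1 lc_f_Cert_tree lc_f_rc_20_1 lc_f_rc_10_3 lc_f_rc_20_1 lc_f_rc_20_1 lc_f_rc_20_1 lc_f_rc_17_1 lc_f_rc_17_3 lc_f_rc_14_3 lc_f_rc_17_3 lc_f_rc_20_1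 lc_f_rc_21_1 lc_f_Cert_tree lc_f_rc_10_3 lc_f_rc_14_3 lc_f_Cert_tree lc_f_rc_20_1 lc_f_rc_21_1 lc_f_rc_14_1 lc_f_rc_17_3) (@D3.rec (fun _ => (Cert rels S Gen.f)) lc_f_rc_19_3 lc_f_rc_5_3 lc_f_Cert_tree lc_f_rc_20_1 lc_f_rc_17_3 lc_f_rc_14_3 lc_f_rc_14_3 lc_f_rc_20_1 lc_f_rc_14_1 lc_f_rc_17_1 lc_f_Cert_tree lc_f_rc_19_3 lc_f_rc_10_3 lc_f_rc_21_1 lc_f_rc_14_3 lc_f_rc_5_3 lc_f_rc_10_3 lc_f_rc_17_3 lc_f_rc_10_3 lc_f_Cert_tree lc_f_rc_21_1 lc_f_rc_14_3 lc_f_rc_10_3 lc_f_rc_22_1 lc_f_rc_10_3 lc_f_Cert_tree lc_f_rc_21_1 lc_f_rc_17_3 lc_f_rc_20_1 lc_f_rc_19_5 lc_f_rc_21_1 lc_f_rc_14_3 lc_f_rc_17_3 lc_f_rc_14_3 lc_f_Cert_tree lc_f_rc_5_3 lc_f_rc_14_3 lc_f_rc_21_1 lc_f_rc_14_3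 lc_f_rc_21_1 lc_f_rc_14_3 lc_f_rc_21_1 lc_f_rc_10_3 lc_f_rc_10_3 lc_f_rc_10_3 lc_f_Cert_tree lc_f_rc_22_1 lc_f_rc_21_1 lc_f_rc_14_3 lc_f_rc_17_3 lc_f_rc_10_3 lc_f_rc_5_1 lc_f_Cert_tree lc_f_rc_14_3 lc_f_rc_20_1 lc_f_rc_21_1 lc_f_rc_21_1 lc_f_rc_10_3 lc_f_Cert_tree lc_f_rc_10_3 lc_f_rc_14_3 lc_f_rc_14_3) (@D3.rec (fun _ => (Cert rels S Gen.f)) lc_f_rc_10_3 lc_f_rc_5_3 lc_f_rc_17_1 lc_f_Cert_tree lc_f_rc_20_1 lc_f_rc_21_1 lc_f_rc_20_1 lc_f_rc_5_1 lc_f_Cert_tree lc_f_rc_21_1 lc_f_rc_20_1 lc_f_rc_20_1 lc_f_rc_20_1 lc_f_rc_5_1 lc_f_rc_20_1 lc_f_rc_5_1 lc_f_rc_5_1 lc_f_rc_10_3 lc_f_rc_20_1 lc_f_rc_20_1 lc_f_rc_20_1 lc_f_rc_20_1 lc_f_rc_10_3 lc_f_rc_5_1 lc_f_Cert_tree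 lc_f_rc_20_1 lc_f_rc_20_1 lc_f_rc_20_1 lc_f_rc_10_1 lc_f_rc_5_1 lc_f_rc_17_3 lc_f_rc_19_1 lc_f_rc_5_3 lc_f_rc_21_1 lc_f_rc_10_3 lc_f_rc_21_1 lc_f_rc_5_1 lc_f_rc_14_3 lc_f_rc_10_1 lc_f_rc_10_3 lc_f_rc_19_3 lc_f_rc_14_1 lc_f_rc_19_3 lc_f_rc_21_1 lc_f_rc_10_3 lc_f_rc_10_3 lc_f_rc_5_3 lc_f_rc_17_1 lc_f_rc_5_1 lc_f_rc_10_3 lc_f_rc_5_3 lc_f_rc_17_1 lc_f_rc_5_1 lc_f_rc_17_3 lc_f_Cert_tree lc_f_rc_20_1 lc_f_rc_17_3 lc_f_rc_10_3 lc_f_rc_14_3 lc_f_rc_19_3 lc_f_rc_21_1 lc_f_rc_5_3) (@D3.rec (fun _ => (Cert rels S Gen.f)) lc_f_rc_17_3 lc_f_rc_10_3 lc_f_rc_14_3 lc_f_rc_21_1 lc_f_rc_10_3 lc_f_rc_14_3 lc_f_Cert_tree lc_f_Cert_tree lc_f_rc_20_1 lc_f_rc_20_1 lc_f_rc_5_1 lc_f_rc_5_1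 lc_f_Cert_tree lc_f_rc_14_3 lc_f_rc_19_1 lc_f_rc_14_1 lc_f_rc_14_3 lc_f_rc_5_3 lc_f_rc_19_3 lc_f_rc_17_3 lc_f_rc_14_3 lc_f_Cert_tree lc_f_rc_19_3 lc_f_rc_21_1 lc_f_rc_20_1 lc_f_rc_10_3 lc_f_rc_19_3 lc_f_rc_10_3 lc_f_rc_21_1 lc_f_rc_17_3 lc_f_rc_17_3 lc_f_rc_17_3 lc_f_rc_5_1 lc_f_rc_21_1 lc_f_rc_10_3 lc_f_rc_22_1 lc_f_rc_20_1 lc_f_rc_17_3 lc_f_rc_19_5 lc_f_rc_14_3 lc_f_Cert_tree lc_f_rc_10_3 lc_f_rc_5_3 lc_f_rc_17_3 lc_f_rc_14_3 lc_f_Cert_tree lc_f_rc_20_1 lc_f_rc_21_1 lc_f_Cert_tree lc_f_rc_10_3 lc_f_rc_14_3 lc_f_Cert_tree lc_f_rc_21_1 lc_f_rc_14_3 lc_f_Cert_tree lc_f_rc_14_3 lc_f_rc_20_1 lc_f_rc_19_3 lc_f_rc_5_3 lc_f_rc_5_3 lc_f_rc_21_1 lc_f_rc_17_3) (@D3.rec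 (fun _ => (Cert rels S Gen.f)) lc_f_rc_14_3 lc_f_Cert_tree lc_f_rc_21_1 lc_f_rc_5_3 lc_f_rc_10_3 lc_f_rc_14_3 lc_f_Cert_tree lc_f_rc_20_1 lc_f_rc_10_3 lc_f_rc_10_3 lc_f_rc_19_5 lc_f_rc_10_3 lc_f_rc_20_1 lc_f_rc_17_3 lc_f_Cert_tree lc_f_rc_20_1 lc_f_rc_10_3 lc_f_rc_14_3 lc_f_rc_19_5 lc_f_rc_14_3 lc_f_Cert_tree lc_f_rc_19_3 lc_f_rc_21_1 lc_f_rc_20_1 lc_f_rc_14_3 lc_f_rc_20_1 lc_f_rc_10_1 lc_f_rc_20_1 lc_f_rc_5_1 lc_f_rc_10_3 lc_f_rc_17_3 lc_f_rc_21_1 lc_f_rc_20_1 lc_f_rc_14_3 lc_f_rc_17_3 lc_f_rc_10_3 lc_f_rc_14_3 lc_f_rc_17_3 lc_f_rc_17_3 lc_f_rc_21_1 lc_f_rc_21_1 lc_f_rc_21_1 lc_f_rc_21_1 lc_f_rc_21_1 lc_f_rc_20_1 lc_f_rc_20_1 lc_f_rc_20_1 lc_f_rc_21_1 lc_f_rc_5_1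 lc_f_rc_14_3 lc_f_rc_20_1 lc_f_rc_17_3 lc_f_Cert_tree lc_f_rc_17_3 lc_f_rc_20_1 lc_f_rc_17_3 lc_f_rc_14_3 lc_f_rc_10_3 lc_f_rc_14_1 lc_f_rc_5_1 lc_f_rc_14_3 lc_f_rc_14_3) (@D3.rec (fun _ => (Cert rels S Gen.f)) lc_f_rc_20_1 lc_f_rc_17_3 lc_f_rc_10_3 lc_f_rc_20_1 lc_f_rc_21_1 lc_f_rc_14_3 lc_f_rc_17_3 lc_f_rc_21_1 lc_f_rc_10_3 lc_f_rc_10_3 lc_f_rc_5_1 lc_f_Cert_tree lc_f_Cert_tree lc_f_rc_10_3 lc_f_Cert_tree lc_f_rc_14_3 lc_f_rc_5_1 lc_f_rc_22_1 lc_f_rc_17_1 lc_f_rc_20_1 lc_f_rc_5_3 lc_f_rc_14_1 lc_f_rc_20_1 lc_f_rc_17_3 lc_f_rc_10_3 lc_f_rc_17_3 lc_f_rc_14_3 lc_f_rc_5_1 lc_f_rc_17_3 lc_f_rc_17_3 lc_f_rc_17_3 lc_f_rc_5_1 lc_f_rc_10_1 lc_f_rc_10_3 lc_f_rc_21_1 lc_f_rc_21_1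 lc_f_rc_10_3 lc_f_rc_20_1 lc_f_rc_10_3 lc_f_rc_5_1 lc_f_rc_14_1 lc_f_rc_14_1 lc_f_rc_14_3 lc_f_rc_21_1 lc_f_rc_19_5 lc_f_rc_20_1 lc_f_rc_10_3 lc_f_Cert_tree lc_f_Cert_tree lc_f_rc_17_3 lc_f_rc_14_3 lc_f_rc_20_1 lc_f_rc_20_1 lc_f_rc_14_3 lc_f_rc_20_1 lc_f_rc_14_3 lc_f_rc_5_1 lc_f_Cert_tree lc_f_rc_10_3 lc_f_rc_20_1 lc_f_Cert_tree lc_f_rc_17_1) (@D3.rec (fun _ => (Cert rels S Gen.f)) lc_f_rc_20_1 lc_f_rc_19_3 lc_f_rc_22_1 lc_f_rc_21_1 lc_f_rc_17_3 lc_f_rc_21_1 lc_f_rc_14_3 lc_f_Cert_tree lc_f_rc_21_1 lc_f_rc_14_3 lc_f_Cert_tree lc_f_rc_14_3 lc_f_Cert_tree lc_f_rc_21_1 lc_f_Cert_tree lc_f_rc_14_3 lc_f_rc_20_1 lc_f_rc_19_3 lc_f_rc_10_3 lc_f_rc_17_3 lc_f_rc_10_1 lc_f_rc_19_5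 lc_f_Cert_tree lc_f_rc_20_1 lc_f_rc_17_3 lc_f_Cert_tree lc_f_rc_17_3 lc_f_rc_20_1 lc_f_rc_14_3 lc_f_rc_21_1 lc_f_rc_22_1 lc_f_Cert_tree lc_f_rc_21_1 lc_f_rc_19_3 lc_f_rc_20_1 lc_f_rc_10_3 lc_f_rc_5_3 lc_f_rc_17_3 lc_f_rc_10_3 lc_f_rc_10_1 lc_f_rc_5_1 lc_f_rc_14_3 lc_f_rc_20_1 lc_f_rc_10_3 lc_f_Cert_tree lc_f_rc_21_1 lc_f_rc_5_1 lc_f_rc_10_3 lc_f_rc_20_1 lc_f_rc_14_3 lc_f_rc_14_3 lc_f_rc_19_5 lc_f_Cert_tree lc_f_rc_5_3 lc_f_rc_17_1 lc_f_Cert_tree lc_f_rc_5_1 lc_f_rc_14_1 lc_f_Cert_tree lc_f_rc_20_1 lc_f_rc_5_1 lc_f_rc_20_1) (@D3.rec (fun _ => (Cert rels S Gen.f)) lc_f_rc_19_1 lc_f_Cert_tree lc_f_rc_10_3 lc_f_rc_14_3 lc_f_Cert_tree lc_f_rc_10_3 lc_f_rc_5_1 lc_f_Cert_tree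 lc_f_rc_20_1 lc_f_rc_14_3 lc_f_rc_17_1 lc_f_rc_5_3 lc_f_rc_22_1 lc_f_rc_17_1 lc_f_rc_10_3 lc_f_Cert_tree lc_f_rc_14_3 lc_f_rc_5_1 lc_f_rc_17_1 lc_f_rc_20_1 lc_f_rc_22_1 lc_f_Cert_tree lc_f_rc_19_3 lc_f_rc_21_1 lc_f_rc_20_1 lc_f_rc_5_3 lc_f_rc_14_3 lc_f_rc_10_3 lc_f_rc_5_1 lc_f_rc_14_3 lc_f_rc_17_3 lc_f_rc_14_3 lc_f_rc_19_3 lc_f_rc_20_1 lc_f_rc_14_3 lc_f_rc_20_1 lc_f_rc_21_1 lc_f_rc_14_1 lc_f_Cert_tree lc_f_rc_10_3 lc_f_rc_20_1 lc_f_Cert_tree lc_f_rc_10_1 lc_f_rc_21_1 lc_f_Cert_tree lc_f_rc_10_1 lc_f_Cert_tree lc_f_rc_21_1 lc_f_rc_10_1 lc_f_rc_20_1 lc_f_rc_10_3 lc_f_rc_10_1 lc_f_rc_21_1 lc_f_rc_5_3 lc_f_rc_19_3 lc_f_rc_17_3 lc_f_Cert_tree lc_f_rc_14_3 lc_f_rc_10_3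 lc_f_rc_22_1 lc_f_Cert_tree lc_f_rc_21_1) (@D3.rec (fun _ => (Cert rels S Gen.f)) lc_f_rc_20_1 lc_f_Cert_tree lc_f_rc_20_1 lc_f_rc_10_3 lc_f_rc_14_3 lc_f_rc_10_3 lc_f_rc_14_3 lc_f_rc_14_3 lc_f_rc_10_3 lc_f_rc_17_3 lc_f_rc_17_3 lc_f_Cert_tree lc_f_rc_10_3 lc_f_rc_10_3 lc_f_rc_20_1 lc_f_rc_5_3 lc_f_rc_17_1 lc_f_Cert_tree lc_f_rc_20_1 lc_f_rc_21_1 lc_f_rc_19_5 lc_f_rc_20_1 lc_f_rc_17_3 lc_f_rc_14_3 lc_f_Cert_tree lc_f_rc_10_3 lc_f_rc_10_3 lc_f_rc_14_3 lc_f_Cert_tree lc_f_rc_17_3 lc_f_Cert_tree lc_f_rc_10_3 lc_f_Cert_tree lc_f_rc_14_3 lc_f_rc_19_3 lc_f_rc_20_1 lc_f_rc_5_1 lc_f_rc_5_3 lc_f_rc_21_1 lc_f_rc_5_3 lc_f_rc_17_3 lc_f_rc_17_3 lc_f_rc_10_1 lc_f_rc_14_3 lc_f_rc_14_1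 lc_f_rc_20_1 lc_f_rc_14_3 lc_f_rc_19_1 lc_f_rc_20_1 lc_f_rc_20_1 lc_f_rc_10_3 lc_f_rc_17_3 lc_f_rc_5_3 lc_f_rc_10_3 lc_f_rc_10_3 lc_f_rc_17_3 lc_f_rc_17_3 lc_f_rc_14_3 lc_f_Cert_tree lc_f_rc_10_3 lc_f_rc_19_5 lc_f_rc_17_3) (@D3.rec (fun _ => (Cert rels S Gen.f)) lc_f_rc_21_1 lc_f_rc_14_1 lc_f_rc_19_5 lc_f_rc_20_1 lc_f_rc_17_3 lc_f_rc_10_3 lc_f_rc_5_3 lc_f_rc_17_3 lc_f_rc_21_1 lc_f_rc_14_3 lc_f_rc_21_1 lc_f_rc_17_3 lc_f_rc_21_1 lc_f_rc_19_1 lc_f_rc_14_3 lc_f_rc_17_3 lc_f_rc_20_1 lc_f_rc_21_1 lc_f_rc_20_1 lc_f_rc_17_3 lc_f_rc_17_3 lc_f_rc_17_3 lc_f_Cert_tree lc_f_rc_21_1 lc_f_rc_17_1 lc_f_rc_20_1 lc_f_rc_10_3 lc_f_rc_19_1 lc_f_rc_19_3 lc_f_rc_21_1 lc_f_rc_10_3 lc_f_rc_14_3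 lc_f_rc_17_3 lc_f_rc_14_3 lc_f_rc_19_1 lc_f_rc_17_1 lc_f_rc_20_1 lc_f_rc_17_3 lc_f_rc_17_3 lc_f_rc_20_1 lc_f_rc_20_1 lc_f_rc_20_1 lc_f_rc_19_1 lc_f_rc_21_1 lc_f_rc_10_3 lc_f_rc_14_1 lc_f_Cert_tree lc_f_rc_5_1 lc_f_rc_14_3 lc_f_rc_5_3 lc_f_rc_17_3 lc_f_rc_14_3 lc_f_rc_5_3 lc_f_rc_20_1 lc_f_rc_5_3 lc_f_rc_14_3 lc_f_rc_10_3 lc_f_rc_20_1 lc_f_rc_21_1 lc_f_rc_22_1 lc_f_rc_14_1 lc_f_rc_21_1) (@D3.rec (fun _ => (Cert rels S Gen.f)) lc_f_rc_10_3 lc_f_rc_20_1 lc_f_rc_10_3 lc_f_rc_21_1 lc_f_rc_17_1 lc_f_rc_21_1 lc_f_rc_20_1 lc_f_rc_21_1 lc_f_rc_21_1 lc_f_rc_20_1 lc_f_Cert_tree lc_f_rc_20_1 lc_f_rc_14_3 lc_f_rc_20_1 lc_f_rc_22_1 lc_f_Cert_tree lc_f_rc_21_1 lc_f_rc_10_3 lc_f_rc_19_5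 lc_f_rc_17_3 lc_f_rc_14_1 lc_f_rc_20_1 lc_f_rc_21_1 lc_f_rc_20_1 lc_f_rc_10_3 lc_f_rc_14_1 lc_f_rc_17_3 lc_f_rc_14_3 lc_f_Cert_tree lc_f_rc_20_1 lc_f_rc_14_3 lc_f_rc_10_3 lc_f_rc_10_3 lc_f_rc_10_3 lc_f_rc_14_3 lc_f_rc_21_1 lc_f_rc_21_1 lc_f_rc_14_3 lc_f_rc_5_3 lc_f_rc_20_1 lc_f_rc_14_1 lc_f_rc_20_1 lc_f_Cert_tree lc_f_rc_20_1 lc_f_rc_10_3 lc_f_rc_17_3 lc_f_rc_21_1 lc_f_rc_20_1 lc_f_rc_10_3 lc_f_rc_20_1 lc_f_Cert_tree lc_f_rc_10_3 lc_f_rc_17_3 lc_f_Cert_tree lc_f_rc_22_1 lc_f_rc_10_3 lc_f_rc_19_3 lc_f_rc_20_1 lc_f_rc_21_1 lc_f_rc_17_3 lc_f_Cert_tree lc_f_rc_17_3) (@D3.rec (fun _ => (Cert rels S Gen.f)) lc_f_rc_10_3 lc_f_rc_14_3 lc_f_Cert_tree lc_f_rc_17_3 lc_f_rc_19_1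 lc_f_rc_10_1 lc_f_rc_21_1 lc_f_rc_10_3 lc_f_rc_21_1 lc_f_rc_19_3 lc_f_rc_14_3 lc_f_rc_17_3 lc_f_rc_10_3 lc_f_rc_10_3 lc_f_rc_10_3 lc_f_rc_5_1 lc_f_rc_19_3 lc_f_rc_21_1 lc_f_rc_21_1 lc_f_rc_19_5 lc_f_rc_14_3 lc_f_rc_5_1 lc_f_rc_21_1 lc_f_rc_20_1 lc_f_rc_10_3 lc_f_rc_10_1 lc_f_rc_14_1 lc_f_rc_20_1 lc_f_rc_19_3 lc_f_rc_17_3 lc_f_rc_10_1 lc_f_rc_20_1 lc_f_rc_10_3 lc_f_rc_17_3 lc_f_rc_17_3 lc_f_rc_14_3 lc_f_Cert_tree lc_f_rc_14_3 lc_f_rc_10_1 lc_f_rc_14_3 lc_f_rc_17_3 lc_f_rc_14_3 lc_f_Cert_tree lc_f_rc_14_3 lc_f_rc_20_1 lc_f_Cert_tree lc_f_Cert_tree lc_f_rc_20_1 lc_f_rc_19_3 lc_f_rc_14_3 lc_f_rc_10_3 lc_f_rc_10_1 lc_f_rc_5_1 lc_f_rc_17_3 lc_f_rc_21_1 lc_f_rc_20_1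 lc_f_Cert_tree lc_f_rc_21_1 lc_f_rc_19_3 lc_f_rc_5_3 lc_f_rc_21_1 lc_f_Cert_tree) (@D3.rec (fun _ => (Cert rels S Gen.f)) lc_f_rc_5_3 lc_f_rc_14_3 lc_f_rc_20_1 lc_f_Cert_tree lc_f_rc_17_3 lc_f_rc_21_1 lc_f_rc_20_1 lc_f_rc_5_3 lc_f_rc_5_3 lc_f_rc_5_1 lc_f_rc_20_1 lc_f_rc_21_1 lc_f_rc_10_3 lc_f_rc_21_1 lc_f_rc_14_3 lc_f_rc_14_1 lc_f_rc_20_1 lc_f_rc_5_1 lc_f_rc_10_3 lc_f_rc_20_1 lc_f_rc_17_3 lc_f_Cert_tree lc_f_rc_19_5 lc_f_rc_20_1 lc_f_rc_17_1 lc_f_rc_20_1 lc_f_rc_14_3 lc_f_rc_5_1 lc_f_rc_14_3 lc_f_rc_10_1 lc_f_rc_5_3 lc_f_rc_10_3 lc_f_Cert_tree lc_f_rc_17_3 lc_f_rc_19_5 lc_f_Cert_tree lc_f_rc_20_1 lc_f_rc_5_1 lc_f_rc_14_1 lc_f_Cert_tree lc_f_rc_17_3 lc_f_Cert_tree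 lc_f_rc_21_1 lc_f_rc_17_1 lc_f_rc_20_1 lc_f_rc_10_3 lc_f_Cert_tree lc_f_rc_10_3 lc_f_rc_14_1 lc_f_Cert_tree lc_f_rc_21_1 lc_f_rc_5_1 lc_f_rc_10_3 lc_f_rc_20_1 lc_f_Cert_tree lc_f_rc_19_3 lc_f_rc_21_1 lc_f_rc_19_5 lc_f_rc_5_3 lc_f_rc_17_3 lc_f_rc_5_1 lc_f_rc_10_3) (@D3.rec (fun _ => (Cert rels S Gen.f)) lc_f_rc_20_1 lc_f_rc_20_1 lc_f_Cert_tree lc_f_rc_21_1 lc_f_rc_17_3 lc_f_rc_19_5 lc_f_rc_21_1 lc_f_rc_14_3 lc_f_Cert_tree lc_f_rc_17_1 lc_f_rc_21_1 lc_f_rc_10_1 lc_f_rc_10_3 lc_f_rc_14_1 lc_f_Cert_tree lc_f_rc_5_1 lc_f_Cert_tree lc_f_rc_10_3 lc_f_Cert_tree lc_f_rc_10_3 lc_f_rc_14_3 lc_f_Cert_tree lc_f_rc_20_1 lc_f_rc_10_3 lc_f_rc_14_3 lc_f_rc_5_3 lc_f_rc_17_3 lc_f_rc_19_1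 lc_f_rc_17_3 lc_f_rc_17_3 lc_f_rc_5_3 lc_f_rc_20_1 lc_f_rc_17_3 lc_f_rc_5_1 lc_f_rc_20_1 lc_f_rc_17_3 lc_f_Cert_tree lc_f_rc_21_1 lc_f_rc_20_1 lc_f_rc_14_1 lc_f_rc_20_1 lc_f_rc_10_3 lc_f_rc_20_1 lc_f_rc_5_3 lc_f_rc_20_1 lc_f_rc_17_3 lc_f_Cert_tree lc_f_rc_22_1 lc_f_Cert_tree lc_f_rc_5_1 lc_f_rc_20_1 lc_f_Cert_tree lc_f_rc_21_1 lc_f_rc_5_3 lc_f_rc_17_3 lc_f_rc_14_3 lc_f_rc_14_3 lc_f_rc_14_3 lc_f_Cert_tree lc_f_rc_19_5 lc_f_rc_17_1 lc_f_Cert_tree) (@D3.rec (fun _ => (Cert rels S Gen.f)) lc_f_rc_20_1 lc_f_rc_17_3 lc_f_rc_14_3 lc_f_rc_10_3 lc_f_rc_21_1 lc_f_rc_17_1 lc_f_rc_10_3 lc_f_rc_14_3 lc_f_rc_14_3 lc_f_rc_21_1 lc_f_rc_21_1 lc_f_rc_17_3 lc_f_rc_14_3 lc_f_rc_10_3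 lc_f_rc_17_3 lc_f_rc_14_3 lc_f_rc_21_1 lc_f_rc_5_1 lc_f_rc_14_1 lc_f_rc_14_3 lc_f_rc_10_1 lc_f_rc_5_1 lc_f_rc_20_1 lc_f_rc_20_1 lc_f_rc_5_1 lc_f_rc_20_1 lc_f_rc_17_1 lc_f_rc_17_1 lc_f_rc_20_1 lc_f_rc_19_3 lc_f_rc_17_3 lc_f_rc_20_1 lc_f_rc_20_1 lc_f_Cert_tree lc_f_rc_14_3 lc_f_rc_22_1 lc_f_rc_17_1 lc_f_rc_20_1 lc_f_rc_19_3 lc_f_rc_19_1 lc_f_rc_21_1 lc_f_rc_17_3 lc_f_rc_5_3 lc_f_rc_20_1 lc_f_rc_10_3 lc_f_rc_10_3 lc_f_rc_21_1 lc_f_rc_14_3 lc_f_Cert_tree lc_f_rc_14_3 lc_f_rc_17_3 lc_f_rc_14_3 lc_f_Cert_tree lc_f_rc_21_1 lc_f_Cert_tree lc_f_rc_14_3 lc_f_rc_14_1 lc_f_Cert_tree lc_f_rc_14_3 lc_f_rc_20_1 lc_f_rc_14_3 lc_f_rc_10_3) (@D3.rec (fun _ => (Cert rels S Gen.f))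 lc_f_rc_5_3 lc_f_rc_5_3 lc_f_rc_19_1 lc_f_rc_21_1 lc_f_rc_14_3 lc_f_rc_19_3 lc_f_rc_5_1 lc_f_rc_10_3 lc_f_rc_14_3 lc_f_rc_14_3 lc_f_rc_20_1 lc_f_rc_19_5 lc_f_rc_17_3 lc_f_Cert_tree lc_f_rc_5_1 lc_f_rc_19_1 lc_f_rc_17_3 lc_f_rc_20_1 lc_f_rc_10_3 lc_f_rc_14_3 lc_f_rc_20_1 lc_f_rc_10_1 lc_f_rc_5_1 lc_f_rc_20_1 lc_f_rc_17_3 lc_f_rc_14_3 lc_f_rc_5_3 lc_f_rc_21_1 lc_f_Cert_tree lc_f_rc_10_3 lc_f_rc_21_1 lc_f_rc_21_1 lc_f_rc_20_1 lc_f_rc_20_1 lc_f_rc_17_3 lc_f_rc_17_3 lc_f_rc_17_3 lc_f_rc_20_1 lc_f_rc_21_1 lc_f_rc_17_3 lc_f_rc_20_1 lc_f_rc_17_3 lc_f_Cert_tree lc_f_rc_17_3 lc_f_Cert_tree lc_f_rc_20_1 lc_f_rc_21_1 lc_f_rc_10_3 lc_f_rc_20_1 lc_f_rc_5_1 lc_f_rc_20_1 lc_f_rc_14_3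 lc_f_Cert_tree lc_f_rc_14_3 lc_f_rc_21_1 lc_f_rc_10_1 lc_f_rc_14_3 lc_f_rc_17_3 lc_f_Cert_tree lc_f_rc_20_1 lc_f_rc_19_1 lc_f_rc_17_3) (@D3.rec (fun _ => (Cert rels S Gen.f)) lc_f_rc_5_3 lc_f_rc_20_1 lc_f_rc_5_1 lc_f_rc_21_1 lc_f_rc_10_3 lc_f_Cert_tree lc_f_rc_5_3 lc_f_rc_17_3 lc_f_rc_21_1 lc_f_rc_20_1 lc_f_Cert_tree lc_f_rc_20_1 lc_f_rc_10_3 lc_f_rc_10_3 lc_f_rc_10_3 lc_f_Cert_tree lc_f_rc_21_1 lc_f_rc_20_1 lc_f_rc_20_1 lc_f_rc_20_1 lc_f_rc_14_3 lc_f_rc_21_1 lc_f_rc_21_1 lc_f_rc_5_3 lc_f_rc_14_3 lc_f_rc_20_1 lc_f_rc_17_1 lc_f_rc_10_3 lc_f_rc_20_1 lc_f_rc_10_3 lc_f_rc_17_3 lc_f_rc_14_1 lc_f_rc_17_3 lc_f_rc_20_1 lc_f_rc_10_3 lc_f_rc_10_3 lc_f_rc_14_3 lc_f_rc_5_3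 lc_f_rc_17_3 lc_f_rc_22_1 lc_f_rc_21_1 lc_f_rc_20_1 lc_f_rc_20_1 lc_f_rc_20_1 lc_f_rc_14_1 lc_f_rc_17_3 lc_f_Cert_tree lc_f_rc_5_1 lc_f_rc_20_1 lc_f_rc_14_3 lc_f_rc_21_1 lc_f_Cert_tree lc_f_rc_20_1 lc_f_rc_17_3 lc_f_rc_14_1 lc_f_rc_14_1 lc_f_rc_10_3 lc_f_rc_17_3 lc_f_rc_14_3 lc_f_rc_14_1 lc_f_rc_20_1 lc_f_rc_14_3) (@D3.rec (fun _ => (Cert rels S Gen.f)) lc_f_Cert_tree lc_f_rc_14_1 lc_f_rc_14_1 lc_f_Cert_tree lc_f_rc_20_1 lc_f_rc_14_1 lc_f_rc_14_1 lc_f_Cert_tree lc_f_rc_14_1 lc_f_rc_17_3 lc_f_rc_17_3 lc_f_rc_21_1 lc_f_rc_20_1 lc_f_rc_10_3 lc_f_rc_5_3 lc_f_rc_17_3 lc_f_rc_10_3 lc_f_rc_14_3 lc_f_Cert_tree lc_f_rc_17_3 lc_f_rc_21_1 lc_f_Cert_tree lc_f_rc_20_1 lc_f_rc_21_1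 lc_f_rc_17_1 lc_f_rc_10_3 lc_f_rc_14_3 lc_f_rc_19_3 lc_f_rc_14_3 lc_f_rc_5_1 lc_f_Cert_tree lc_f_rc_14_3 lc_f_rc_20_1 lc_f_rc_20_1 lc_f_rc_17_1 lc_f_rc_10_3 lc_f_rc_20_1 lc_f_rc_17_3 lc_f_rc_10_3 lc_f_rc_5_1 lc_f_rc_10_3 lc_f_rc_5_3 lc_f_rc_17_1 lc_f_rc_17_3 lc_f_rc_10_3 lc_f_rc_22_1 lc_f_rc_10_3 lc_f_Cert_tree lc_f_Cert_tree lc_f_rc_10_3 lc_f_rc_14_3 lc_f_rc_21_1 lc_f_rc_20_1 lc_f_rc_20_1 lc_f_rc_14_1 lc_f_rc_21_1 lc_f_rc_14_3 lc_f_rc_10_3 lc_f_rc_21_1 lc_f_rc_21_1 lc_f_Cert_tree lc_f_rc_20_1) (@D3.rec (fun _ => (Cert rels S Gen.f)) lc_f_rc_5_1 lc_f_rc_20_1 lc_f_rc_5_1 lc_f_rc_5_1 lc_f_rc_5_1 lc_f_Cert_tree lc_f_rc_20_1 lc_f_rc_5_3 lc_f_rc_17_1 lc_f_rc_21_1 lc_f_rc_20_1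 lc_f_rc_10_3 lc_f_rc_17_3 lc_f_rc_17_3 lc_f_Cert_tree lc_f_rc_21_1 lc_f_rc_19_5 lc_f_rc_17_3 lc_f_Cert_tree lc_f_rc_20_1 lc_f_rc_14_3 lc_f_rc_10_3 lc_f_rc_21_1 lc_f_rc_14_3 lc_f_rc_21_1 lc_f_rc_5_1 lc_f_rc_10_3 lc_f_rc_14_3 lc_f_Cert_tree lc_f_rc_17_3 lc_f_rc_17_3 lc_f_rc_14_3 lc_f_rc_14_1 lc_f_rc_21_1 lc_f_Cert_tree lc_f_rc_20_1 lc_f_rc_14_3 lc_f_rc_5_1 lc_f_rc_17_3 lc_f_rc_5_1 lc_f_rc_10_3 lc_f_rc_5_3 lc_f_rc_20_1 lc_f_Cert_tree lc_f_rc_20_1 lc_f_rc_20_1 lc_f_rc_20_1 lc_f_rc_20_1 lc_f_Cert_tree lc_f_rc_10_3 lc_f_rc_5_1 lc_f_rc_21_1 lc_f_rc_17_3 lc_f_rc_20_1 lc_f_rc_20_1 lc_f_rc_21_1 lc_f_rc_5_3 lc_f_rc_10_3 lc_f_rc_14_3 lc_f_Cert_tree lc_f_rc_20_1 lc_f_rc_21_1)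 (@D3.rec (fun _ => (Cert rels S Gen.f)) lc_f_Cert_tree lc_f_rc_10_3 lc_f_rc_14_3 lc_f_Cert_tree lc_f_rc_21_1 lc_f_rc_20_1 lc_f_rc_10_3 lc_f_rc_19_3 lc_f_rc_21_1 lc_f_rc_17_3 lc_f_rc_17_3 lc_f_rc_14_3 lc_f_Cert_tree lc_f_rc_5_1 lc_f_Cert_tree lc_f_rc_10_1 lc_f_rc_14_1 lc_f_rc_17_3 lc_f_rc_10_3 lc_f_rc_17_1 lc_f_rc_14_3 lc_f_rc_5_1 lc_f_Cert_tree lc_f_rc_20_1 lc_f_rc_17_3 lc_f_rc_10_3 lc_f_rc_21_1 lc_f_rc_5_1 lc_f_rc_20_1 lc_f_rc_17_3 lc_f_rc_21_1 lc_f_rc_22_1 lc_f_rc_17_3 lc_f_rc_20_1 lc_f_Cert_tree lc_f_rc_10_3 lc_f_rc_19_1 lc_f_rc_20_1 lc_f_rc_20_1 lc_f_rc_14_3 lc_f_rc_21_1 lc_f_rc_17_1 lc_f_rc_20_1 lc_f_rc_10_3 lc_f_rc_19_5 lc_f_rc_17_3 lc_f_rc_10_3 lc_f_rc_14_3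 lc_f_rc_10_3 lc_f_rc_17_3 lc_f_rc_14_3 lc_f_rc_21_1 lc_f_rc_17_3 lc_f_Cert_tree lc_f_rc_20_1 lc_f_rc_17_3 lc_f_rc_5_3 lc_f_rc_17_3 lc_f_rc_19_3 lc_f_rc_21_1 lc_f_rc_21_1 lc_f_rc_21_1) (@D3.rec (fun _ => (Cert rels S Gen.f)) lc_f_rc_20_1 lc_f_rc_10_3 lc_f_rc_14_3 lc_f_Cert_tree lc_f_rc_17_3 lc_f_rc_14_1 lc_f_rc_22_1 lc_f_rc_10_3 lc_f_rc_14_3 lc_f_rc_10_3 lc_f_rc_20_1 lc_f_rc_5_1 lc_f_rc_20_1 lc_f_rc_5_1 lc_f_rc_10_3 lc_f_rc_10_1 lc_f_rc_5_1 lc_f_rc_17_3 lc_f_rc_14_1 lc_f_rc_19_3 lc_f_Cert_tree lc_f_rc_21_1 lc_f_Cert_tree lc_f_rc_20_1 lc_f_rc_20_1 lc_f_rc_20_1 lc_f_rc_21_1 lc_f_Cert_tree lc_f_rc_20_1 lc_f_rc_10_3 lc_f_rc_17_3 lc_f_rc_10_3 lc_f_rc_21_1 lc_f_rc_17_3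 lc_f_rc_19_5 lc_f_rc_21_1 lc_f_rc_17_1 lc_f_Cert_tree lc_f_rc_20_1 lc_f_rc_17_3 lc_f_rc_17_3 lc_f_rc_17_3 lc_f_rc_21_1 lc_f_rc_14_3 lc_f_rc_17_3 lc_f_rc_10_3 lc_f_rc_5_3 lc_f_rc_17_3 lc_f_rc_10_3 lc_f_rc_14_3 lc_f_Cert_tree lc_f_rc_20_1 lc_f_rc_21_1 lc_f_Cert_tree lc_f_rc_10_3 lc_f_rc_14_3 lc_f_Cert_tree lc_f_rc_21_1 lc_f_rc_20_1 lc_f_rc_19_3 lc_f_rc_20_1 lc_f_rc_20_1) (@D3.rec (fun _ => (Cert rels S Gen.f)) lc_f_Cert_tree lc_f_rc_10_1 lc_f_rc_5_1 lc_f_rc_10_1 lc_f_rc_10_1 lc_f_rc_14_3 lc_f_rc_20_1 lc_f_rc_17_3 lc_f_rc_14_3 lc_f_Cert_tree lc_f_rc_17_3 lc_f_rc_21_1 lc_f_rc_10_1 lc_f_rc_14_3 lc_f_rc_10_1 lc_f_rc_5_1 lc_f_Cert_tree lc_f_rc_20_1 lc_f_rc_17_3 lc_f_rc_10_3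 lc_f_rc_5_1 lc_f_rc_5_1 lc_f_rc_14_3 lc_f_rc_10_3 lc_f_rc_20_1 lc_f_rc_17_3 lc_f_rc_5_1 lc_f_rc_14_3 lc_f_rc_10_3 lc_f_rc_17_3 lc_f_rc_19_1 lc_f_rc_14_3 lc_f_rc_21_1 lc_f_rc_17_3 lc_f_rc_17_3 lc_f_Cert_tree lc_f_rc_20_1 lc_f_rc_17_3 lc_f_rc_22_1 lc_f_rc_14_3 lc_f_rc_10_3 lc_f_rc_10_1 lc_f_rc_5_1 lc_f_rc_20_1 lc_f_rc_17_3 lc_f_Cert_tree lc_f_rc_20_1 lc_f_rc_10_3 lc_f_rc_19_3 lc_f_rc_5_3 lc_f_rc_21_1 lc_f_rc_14_3 lc_f_Cert_tree lc_f_rc_20_1 lc_f_rc_14_3 lc_f_rc_20_1 lc_f_rc_14_3 lc_f_rc_5_1 lc_f_rc_21_1 lc_f_rc_17_3 lc_f_rc_17_3 lc_f_rc_20_1) (@D3.rec (fun _ => (Cert rels S Gen.f)) lc_f_rc_17_3 lc_f_rc_19_1 lc_f_rc_17_3 lc_f_rc_14_3 lc_f_rc_17_3 lc_f_rc_17_3 lc_f_Cert_tree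 lc_f_rc_20_1 lc_f_rc_10_3 lc_f_Cert_tree lc_f_rc_21_1 lc_f_rc_14_3 lc_f_Cert_tree lc_f_rc_20_1 lc_f_rc_19_3 lc_f_rc_14_3 lc_f_rc_14_3 lc_f_rc_20_1 lc_f_rc_17_1 lc_f_rc_14_1 lc_f_rc_17_1 lc_f_rc_5_1 lc_f_rc_19_3 lc_f_rc_10_3 lc_f_rc_17_1 lc_f_rc_20_1 lc_f_rc_10_3 lc_f_rc_10_3 lc_f_rc_21_1 lc_f_rc_17_3 lc_f_rc_14_3 lc_f_rc_21_1 lc_f_rc_17_1 lc_f_rc_20_1 lc_f_rc_20_1 lc_f_rc_5_1 lc_f_rc_14_3 lc_f_rc_22_1 lc_f_rc_17_3 lc_f_rc_17_3 lc_f_rc_17_3 lc_f_rc_20_1 lc_f_rc_21_1 lc_f_rc_10_3 lc_f_rc_17_1 lc_f_rc_10_3 lc_f_rc_5_3 lc_f_rc_14_1 lc_f_rc_10_3 lc_f_Cert_tree lc_f_rc_17_3 lc_f_rc_19_5 lc_f_rc_17_3 lc_f_rc_21_1 lc_f_rc_10_1 lc_f_Cert_tree lc_f_rc_14_1 lc_f_rc_20_1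 lc_f_rc_20_1 lc_f_rc_21_1 lc_f_rc_5_1 lc_f_rc_20_1) (@D3.rec (fun _ => (Cert rels S Gen.f)) lc_f_rc_20_1 lc_f_Cert_tree lc_f_rc_21_1 lc_f_rc_20_1 lc_f_rc_20_1 lc_f_rc_14_3 lc_f_rc_20_1 lc_f_rc_20_1 lc_f_rc_14_1 lc_f_rc_22_1 lc_f_rc_21_1 lc_f_rc_19_5 lc_f_rc_10_3 lc_f_rc_14_3 lc_f_rc_14_3 lc_f_rc_10_3 lc_f_rc_17_3 lc_f_rc_19_5 lc_f_rc_14_1 lc_f_rc_22_1 lc_f_rc_20_1 lc_f_rc_19_3 lc_f_rc_5_3 lc_f_rc_5_3 lc_f_rc_10_1 lc_f_rc_21_1 lc_f_rc_14_3 lc_f_rc_10_3 lc_f_rc_17_3 lc_f_rc_5_1 lc_f_rc_22_1 lc_f_rc_20_1 lc_f_rc_14_3 lc_f_rc_17_3 lc_f_rc_10_1 lc_f_rc_17_3 lc_f_rc_17_3 lc_f_rc_17_3 lc_f_rc_20_1 lc_f_rc_20_1 lc_f_rc_19_5 lc_f_rc_22_1 lc_f_rc_19_5 lc_f_rc_21_1 lc_f_rc_20_1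 lc_f_rc_10_3 lc_f_rc_17_3 lc_f_Cert_tree lc_f_rc_21_1 lc_f_rc_5_1 lc_f_rc_19_1 lc_f_rc_20_1 lc_f_rc_14_3 lc_f_rc_5_3 lc_f_rc_14_3 lc_f_Cert_tree lc_f_rc_14_3 lc_f_rc_21_1 lc_f_rc_10_3 lc_f_Cert_tree lc_f_rc_20_1 lc_f_rc_21_1)
def ce_f_14 : D2 → D3 → (Cert rels S Gen.f) := @D2.rec (fun _ => D3 → (Cert rels S Gen.f)) (@D3.rec (fun _ => (Cert rels S Gen.f)) lc_f_Cert_tree lc_f_rc_20_1 lc_f_rc_20_1 lc_f_rc_14_1 lc_f_Cert_tree lc_f_rc_10_3 lc_f_Cert_tree lc_f_rc_17_3 lc_f_rc_14_3 lc_f_rc_20_1 lc_f_rc_14_3 lc_f_Cert_tree lc_f_rc_10_3 lc_f_rc_14_1 lc_f_rc_5_1 lc_f_rc_21_1 lc_f_rc_5_1 lc_f_rc_10_3 lc_f_rc_20_1 lc_f_Cert_tree lc_f_rc_19_3 lc_f_rc_21_1 lc_f_rc_21_1 lc_f_rc_21_1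 lc_f_rc_20_1 lc_f_rc_5_3 lc_f_rc_20_1 lc_f_rc_14_1 lc_f_Cert_tree lc_f_rc_5_3 lc_f_rc_21_1 lc_f_rc_21_1 lc_f_rc_5_3 lc_f_rc_21_1 lc_f_rc_14_1 lc_f_rc_21_1 lc_f_rc_17_3 lc_f_rc_10_3 lc_f_rc_17_3 lc_f_rc_14_3 lc_f_rc_10_1 lc_f_rc_21_1 lc_f_rc_14_3 lc_f_rc_14_1 lc_f_Cert_tree lc_f_rc_17_1 lc_f_rc_17_3 lc_f_Cert_tree lc_f_rc_20_1 lc_f_rc_21_1 lc_f_rc_20_1 lc_f_rc_5_3 lc_f_rc_10_3 lc_f_Cert_tree lc_f_rc_20_1 lc_f_rc_10_3 lc_f_rc_21_1 lc_f_rc_14_3 lc_f_Cert_tree lc_f_rc_20_1 lc_f_rc_22_1 lc_f_rc_17_3) (@D3.rec (fun _ => (Cert rels S Gen.f)) lc_f_rc_19_1 lc_f_rc_10_3 lc_f_Cert_tree lc_f_rc_21_1 lc_f_rc_20_1 lc_f_rc_20_1 lc_f_rc_17_3 lc_f_rc_17_3 lc_f_Cert_tree lc_f_rc_17_3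 lc_f_rc_14_3 lc_f_rc_17_3 lc_f_rc_19_3 lc_f_rc_14_1 lc_f_rc_21_1 lc_f_rc_10_3 lc_f_rc_20_1 lc_f_rc_17_3 lc_f_rc_17_3 lc_f_rc_14_3 lc_f_rc_20_1 lc_f_rc_10_3 lc_f_rc_19_3 lc_f_rc_20_1 lc_f_rc_19_5 lc_f_rc_17_3 lc_f_rc_14_3 lc_f_rc_20_1 lc_f_Cert_tree lc_f_rc_19_3 lc_f_rc_20_1 lc_f_Cert_tree lc_f_rc_20_1 lc_f_rc_14_3 lc_f_rc_21_1 lc_f_rc_20_1 lc_f_rc_14_1 lc_f_Cert_tree lc_f_rc_17_3 lc_f_rc_14_3 lc_f_rc_21_1 lc_f_rc_20_1 lc_f_rc_20_1 lc_f_rc_17_1 lc_f_rc_10_3 lc_f_rc_10_1 lc_f_rc_5_1 lc_f_rc_10_3 lc_f_rc_17_3 lc_f_rc_14_1 lc_f_rc_20_1 lc_f_rc_17_3 lc_f_Cert_tree lc_f_rc_20_1 lc_f_Cert_tree lc_f_rc_17_1 lc_f_Cert_tree lc_f_rc_10_3 lc_f_rc_21_1 lc_f_Cert_tree lc_f_rc_20_1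 lc_f_rc_17_3) (@D3.rec (fun _ => (Cert rels S Gen.f)) lc_f_rc_21_1 lc_f_rc_20_1 lc_f_rc_21_1 lc_f_rc_21_1 lc_f_rc_17_3 lc_f_rc_20_1 lc_f_rc_5_3 lc_f_Cert_tree lc_f_rc_14_1 lc_f_rc_14_1 lc_f_Cert_tree lc_f_rc_20_1 lc_f_rc_10_3 lc_f_rc_14_3 lc_f_Cert_tree lc_f_rc_20_1 lc_f_rc_19_3 lc_f_Cert_tree lc_f_rc_10_3 lc_f_rc_17_3 lc_f_rc_14_3 lc_f_rc_17_3 lc_f_rc_5_1 lc_f_rc_20_1 lc_f_rc_21_1 lc_f_rc_5_3 lc_f_rc_10_3 lc_f_rc_14_3 lc_f_rc_21_1 lc_f_rc_5_1 lc_f_rc_21_1 lc_f_rc_10_3 lc_f_rc_17_3 lc_f_rc_10_3 lc_f_rc_10_3 lc_f_rc_19_5 lc_f_rc_19_1 lc_f_rc_10_3 lc_f_rc_17_1 lc_f_rc_17_3 lc_f_Cert_tree lc_f_rc_10_3 lc_f_rc_21_1 lc_f_rc_19_3 lc_f_rc_10_3 lc_f_rc_10_3 lc_f_rc_21_1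 lc_f_rc_20_1 lc_f_rc_17_1 lc_f_rc_14_3 lc_f_rc_10_3 lc_f_rc_10_3 lc_f_rc_22_1 lc_f_rc_20_1 lc_f_Cert_tree lc_f_rc_20_1 lc_f_rc_10_1 lc_f_rc_17_3 lc_f_Cert_tree lc_f_rc_14_1 lc_f_rc_14_3 lc_f_rc_14_3) (@D3.rec (fun _ => (Cert rels S Gen.f)) lc_f_rc_14_3 lc_f_rc_14_1 lc_f_rc_14_1 lc_f_rc_14_3 lc_f_rc_20_1 lc_f_rc_21_1 lc_f_rc_17_3 lc_f_rc_20_1 lc_f_rc_14_3 lc_f_rc_14_1 lc_f_rc_21_1 lc_f_rc_5_3 lc_f_rc_17_3 lc_f_rc_21_1 lc_f_Cert_tree lc_f_rc_21_1 lc_f_rc_21_1 lc_f_Cert_tree lc_f_rc_10_3 lc_f_rc_14_3 lc_f_rc_22_1 lc_f_rc_19_3 lc_f_Cert_tree lc_f_rc_10_3 lc_f_rc_14_3 lc_f_rc_10_3 lc_f_rc_10_3 lc_f_rc_14_3 lc_f_rc_14_3 lc_f_rc_14_1 lc_f_rc_5_1 lc_f_rc_19_5 lc_f_rc_10_3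 lc_f_rc_20_1 lc_f_rc_20_1 lc_f_rc_21_1 lc_f_rc_14_1 lc_f_Cert_tree lc_f_rc_5_1 lc_f_rc_14_3 lc_f_rc_14_1 lc_f_rc_17_1 lc_f_Cert_tree lc_f_rc_10_3 lc_f_rc_5_3 lc_f_rc_21_1 lc_f_rc_17_1 lc_f_rc_14_3 lc_f_rc_17_3 lc_f_rc_17_3 lc_f_Cert_tree lc_f_rc_20_1 lc_f_rc_17_3 lc_f_rc_20_1 lc_f_rc_10_3 lc_f_rc_14_1 lc_f_rc_17_3 lc_f_rc_17_3 lc_f_rc_14_3 lc_f_rc_17_3 lc_f_Cert_tree lc_f_rc_20_1) (@D3.rec (fun _ => (Cert rels S Gen.f)) lc_f_rc_10_3 lc_f_rc_17_1 lc_f_rc_17_3 lc_f_rc_5_1 lc_f_rc_21_1 lc_f_rc_21_1 lc_f_rc_10_3 lc_f_rc_21_1 lc_f_rc_5_1 lc_f_rc_10_3 lc_f_rc_14_3 lc_f_rc_14_3 lc_f_rc_17_3 lc_f_rc_17_1 lc_f_rc_10_3 lc_f_rc_5_3 lc_f_rc_5_3 lc_f_Cert_tree lc_f_rc_21_1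 lc_f_rc_20_1 lc_f_rc_20_1 lc_f_rc_10_3 lc_f_rc_21_1 lc_f_rc_10_3 lc_f_rc_17_1 lc_f_rc_14_3 lc_f_rc_21_1 lc_f_rc_21_1 lc_f_rc_17_1 lc_f_rc_17_1 lc_f_rc_22_1 lc_f_rc_14_3 lc_f_rc_20_1 lc_f_rc_20_1 lc_f_rc_14_3 lc_f_rc_10_3 lc_f_rc_5_1 lc_f_rc_17_3 lc_f_rc_14_1 lc_f_rc_19_1 lc_f_rc_21_1 lc_f_Cert_tree lc_f_rc_20_1 lc_f_rc_20_1 lc_f_rc_20_1 lc_f_Cert_tree lc_f_rc_20_1 lc_f_rc_20_1 lc_f_rc_5_1 lc_f_rc_20_1 lc_f_rc_14_3 lc_f_rc_14_3 lc_f_rc_20_1 lc_f_rc_20_1 lc_f_rc_10_3 lc_f_rc_5_1 lc_f_rc_21_1 lc_f_rc_20_1 lc_f_rc_10_3 lc_f_rc_20_1 lc_f_rc_19_3 lc_f_rc_14_3) (@D3.rec (fun _ => (Cert rels S Gen.f)) lc_f_rc_14_3 lc_f_rc_14_3 lc_f_rc_10_1 lc_f_rc_17_3 lc_f_rc_14_3 lc_f_rc_14_3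 lc_f_rc_10_3 lc_f_rc_5_1 lc_f_rc_10_1 lc_f_rc_10_3 lc_f_rc_10_3 lc_f_Cert_tree lc_f_rc_20_1 lc_f_rc_5_1 lc_f_rc_14_3 lc_f_rc_22_1 lc_f_rc_20_1 lc_f_rc_20_1 lc_f_rc_20_1 lc_f_rc_21_1 lc_f_rc_5_1 lc_f_rc_20_1 lc_f_rc_10_3 lc_f_rc_5_1 lc_f_Cert_tree lc_f_rc_20_1 lc_f_rc_14_1 lc_f_rc_17_3 lc_f_rc_10_3 lc_f_rc_17_3 lc_f_rc_21_1 lc_f_rc_17_3 lc_f_rc_17_1 lc_f_Cert_tree lc_f_rc_20_1 lc_f_rc_10_3 lc_f_rc_5_3 lc_f_rc_10_3 lc_f_rc_19_1 lc_f_rc_14_3 lc_f_Cert_tree lc_f_rc_17_3 lc_f_rc_10_1 lc_f_rc_14_3 lc_f_Cert_tree lc_f_rc_17_3 lc_f_rc_20_1 lc_f_Cert_tree lc_f_rc_10_3 lc_f_Cert_tree lc_f_rc_17_3 lc_f_rc_14_3 lc_f_Cert_tree lc_f_rc_17_1 lc_f_rc_20_1 lc_f_rc_19_3 lc_f_rc_17_3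 lc_f_rc_14_3 lc_f_Cert_tree lc_f_rc_5_3 lc_f_rc_21_1 lc_f_rc_22_1) (@D3.rec (fun _ => (Cert rels S Gen.f)) lc_f_rc_5_3 lc_f_rc_17_1 lc_f_rc_10_1 lc_f_rc_5_1 lc_f_rc_20_1 lc_f_rc_5_3 lc_f_Cert_tree lc_f_rc_20_1 lc_f_rc_5_3 lc_f_rc_5_1 lc_f_rc_20_1 lc_f_rc_10_3 lc_f_rc_17_3 lc_f_rc_14_1 lc_f_rc_14_3 lc_f_rc_17_3 lc_f_rc_14_1 lc_f_rc_17_3 lc_f_rc_17_1 lc_f_Cert_tree lc_f_rc_20_1 lc_f_rc_21_1 lc_f_rc_20_1 lc_f_rc_21_1 lc_f_rc_5_3 lc_f_rc_10_3 lc_f_rc_10_1 lc_f_rc_14_3 lc_f_rc_14_3 lc_f_rc_10_3 lc_f_rc_17_3 lc_f_rc_10_3 lc_f_rc_10_3 lc_f_rc_5_1 lc_f_rc_10_1 lc_f_rc_5_1 lc_f_rc_14_3 lc_f_rc_14_3 lc_f_rc_21_1 lc_f_rc_20_1 lc_f_rc_20_1 lc_f_rc_14_3 lc_f_Cert_tree lc_f_rc_5_1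 lc_f_rc_17_3 lc_f_Cert_tree lc_f_rc_20_1 lc_f_rc_20_1 lc_f_rc_21_1 lc_f_rc_14_1 lc_f_rc_10_1 lc_f_rc_10_3 lc_f_rc_20_1 lc_f_Cert_tree lc_f_rc_20_1 lc_f_rc_14_3 lc_f_rc_10_3 lc_f_rc_10_3 lc_f_rc_5_1 lc_f_rc_5_1 lc_f_rc_5_1 lc_f_rc_17_1) (@D3.rec (fun _ => (Cert rels S Gen.f)) lc_f_rc_10_3 lc_f_rc_20_1 lc_f_Cert_tree lc_f_rc_20_1 lc_f_rc_19_5 lc_f_rc_17_3 lc_f_rc_17_3 lc_f_rc_14_1 lc_f_rc_17_3 lc_f_rc_10_3 lc_f_Cert_tree lc_f_rc_20_1 lc_f_rc_20_1 lc_f_Cert_tree lc_f_rc_14_3 lc_f_Cert_tree lc_f_rc_14_3 lc_f_rc_20_1 lc_f_rc_19_3 lc_f_rc_14_3 lc_f_rc_14_3 lc_f_rc_17_3 lc_f_rc_10_1 lc_f_rc_10_3 lc_f_rc_14_3 lc_f_rc_19_3 lc_f_rc_21_1 lc_f_rc_19_3 lc_f_rc_21_1 lc_f_rc_17_3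 lc_f_rc_14_3 lc_f_rc_19_3 lc_f_rc_10_3 lc_f_rc_17_3 lc_f_rc_21_1 lc_f_Cert_tree lc_f_rc_20_1 lc_f_rc_10_3 lc_f_rc_10_3 lc_f_rc_14_3 lc_f_rc_19_3 lc_f_rc_21_1 lc_f_rc_19_3 lc_f_rc_10_3 lc_f_rc_17_3 lc_f_Cert_tree lc_f_rc_20_1 lc_f_rc_17_3 lc_f_rc_14_1 lc_f_rc_14_3 lc_f_rc_17_3 lc_f_rc_17_3 lc_f_rc_14_1 lc_f_rc_20_1 lc_f_rc_5_3 lc_f_rc_17_3 lc_f_rc_17_1 lc_f_rc_10_3 lc_f_rc_22_1 lc_f_rc_5_3 lc_f_rc_14_3 lc_f_rc_14_1) (@D3.rec (fun _ => (Cert rels S Gen.f)) lc_f_rc_14_1 lc_f_rc_21_1 lc_f_rc_20_1 lc_f_rc_14_1 lc_f_rc_17_3 lc_f_rc_10_3 lc_f_rc_5_3 lc_f_rc_17_3 lc_f_rc_21_1 lc_f_Cert_tree lc_f_rc_20_1 lc_f_rc_10_3 lc_f_rc_10_1 lc_f_rc_10_3 lc_f_Cert_tree lc_f_rc_21_1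 lc_f_rc_10_3 lc_f_rc_19_3 lc_f_rc_17_1 lc_f_rc_10_3 lc_f_rc_14_3 lc_f_Cert_tree lc_f_rc_14_3 lc_f_rc_20_1 lc_f_rc_20_1 lc_f_rc_21_1 lc_f_rc_14_3 lc_f_rc_17_1 lc_f_Cert_tree lc_f_rc_10_3 lc_f_rc_17_1 lc_f_rc_20_1 lc_f_rc_14_1 lc_f_rc_17_3 lc_f_rc_10_3 lc_f_rc_20_1 lc_f_rc_20_1 lc_f_rc_20_1 lc_f_rc_20_1 lc_f_Cert_tree lc_f_rc_10_3 lc_f_rc_14_1 lc_f_rc_19_3 lc_f_Cert_tree lc_f_rc_14_3 lc_f_rc_21_1 lc_f_Cert_tree lc_f_Cert_tree lc_f_rc_20_1 lc_f_rc_10_3 lc_f_rc_10_3 lc_f_rc_22_1 lc_f_rc_5_3 lc_f_rc_17_3 lc_f_rc_17_3 lc_f_rc_22_1 lc_f_Cert_tree lc_f_rc_5_1 lc_f_rc_21_1 lc_f_rc_17_3 lc_f_rc_17_3 lc_f_Cert_tree) (@D3.rec (fun _ => (Cert rels S Gen.f)) lc_f_rc_19_3 lc_f_rc_10_1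 lc_f_Cert_tree lc_f_rc_20_1 lc_f_rc_14_3 lc_f_rc_20_1 lc_f_rc_17_3 lc_f_rc_5_3 lc_f_rc_14_3 lc_f_Cert_tree lc_f_rc_21_1 lc_f_rc_14_1 lc_f_rc_17_3 lc_f_Cert_tree lc_f_rc_10_3 lc_f_rc_20_1 lc_f_rc_20_1 lc_f_rc_19_5 lc_f_rc_14_3 lc_f_rc_14_3 lc_f_rc_5_3 lc_f_rc_20_1 lc_f_rc_10_3 lc_f_rc_20_1 lc_f_rc_17_3 lc_f_rc_10_3 lc_f_rc_10_3 lc_f_rc_14_1 lc_f_rc_14_3 lc_f_rc_20_1 lc_f_rc_10_3 lc_f_Cert_tree lc_f_rc_10_3 lc_f_Cert_tree lc_f_rc_10_3 lc_f_rc_20_1 lc_f_rc_5_3 lc_f_rc_5_1 lc_f_rc_10_3 lc_f_rc_19_5 lc_f_rc_17_3 lc_f_rc_14_3 lc_f_Cert_tree lc_f_rc_17_3 lc_f_rc_5_3 lc_f_rc_17_3 lc_f_rc_17_3 lc_f_rc_17_3 lc_f_rc_17_3 lc_f_rc_10_3 lc_f_rc_21_1 lc_f_rc_17_3 lc_f_Cert_tree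 lc_f_rc_17_3 lc_f_rc_21_1 lc_f_Cert_tree lc_f_rc_17_3 lc_f_rc_14_1 lc_f_rc_10_3 lc_f_rc_20_1 lc_f_rc_20_1 lc_f_rc_14_3) (@D3.rec (fun _ => (Cert rels S Gen.f)) lc_f_rc_10_3 lc_f_rc_21_1 lc_f_rc_20_1 lc_f_rc_5_1 lc_f_rc_10_3 lc_f_rc_14_3 lc_f_Cert_tree lc_f_rc_10_3 lc_f_rc_17_3 lc_f_rc_17_3 lc_f_rc_19_1 lc_f_rc_21_1 lc_f_rc_20_1 lc_f_rc_5_1 lc_f_rc_20_1 lc_f_rc_10_3 lc_f_rc_10_3 lc_f_rc_5_1 lc_f_rc_14_3 lc_f_rc_19_1 lc_f_rc_14_3 lc_f_rc_10_3 lc_f_rc_17_3 lc_f_rc_14_3 lc_f_rc_5_1 lc_f_rc_5_3 lc_f_rc_21_1 lc_f_rc_20_1 lc_f_Cert_tree lc_f_rc_20_1 lc_f_rc_20_1 lc_f_rc_20_1 lc_f_rc_10_3 lc_f_Cert_tree lc_f_rc_20_1 lc_f_rc_21_1 lc_f_Cert_tree lc_f_rc_22_1 lc_f_Cert_tree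 lc_f_rc_20_1 lc_f_rc_19_3 lc_f_rc_5_3 lc_f_rc_10_3 lc_f_Cert_tree lc_f_rc_5_3 lc_f_rc_19_5 lc_f_rc_14_3 lc_f_rc_17_3 lc_f_rc_14_3 lc_f_rc_5_1 lc_f_rc_14_3 lc_f_rc_17_3 lc_f_rc_21_1 lc_f_rc_20_1 lc_f_rc_19_5 lc_f_rc_14_1 lc_f_rc_22_1 lc_f_rc_14_3 lc_f_rc_17_3 lc_f_rc_19_3 lc_f_rc_10_3 lc_f_rc_17_3) (@D3.rec (fun _ => (Cert rels S Gen.f)) lc_f_rc_17_3 lc_f_rc_21_1 lc_f_rc_20_1 lc_f_rc_17_3 lc_f_rc_17_1 lc_f_rc_19_5 lc_f_rc_10_3 lc_f_rc_5_3 lc_f_rc_19_3 lc_f_rc_21_1 lc_f_rc_20_1 lc_f_rc_14_1 lc_f_rc_20_1 lc_f_rc_10_3 lc_f_rc_10_3 lc_f_rc_20_1 lc_f_rc_10_3 lc_f_rc_14_3 lc_f_rc_17_3 lc_f_rc_5_1 lc_f_rc_17_3 lc_f_rc_10_3 lc_f_rc_10_3 lc_f_rc_5_1 lc_f_rc_5_3 lc_f_rc_17_3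 lc_f_rc_14_3 lc_f_rc_19_3 lc_f_rc_5_1 lc_f_rc_20_1 lc_f_rc_21_1 lc_f_rc_14_3 lc_f_rc_10_1 lc_f_rc_14_3 lc_f_rc_14_1 lc_f_rc_20_1 lc_f_rc_10_3 lc_f_rc_20_1 lc_f_rc_20_1 lc_f_rc_19_3 lc_f_rc_10_3 lc_f_rc_14_3 lc_f_rc_17_3 lc_f_rc_17_3 lc_f_rc_17_3 lc_f_rc_10_3 lc_f_rc_19_1 lc_f_rc_22_1 lc_f_rc_20_1 lc_f_rc_14_1 lc_f_Cert_tree lc_f_rc_14_1 lc_f_rc_14_3 lc_f_rc_20_1 lc_f_rc_21_1 lc_f_rc_14_3 lc_f_rc_17_3 lc_f_rc_5_3 lc_f_rc_5_3 lc_f_rc_10_3 lc_f_rc_10_1 lc_f_rc_14_3) (@D3.rec (fun _ => (Cert rels S Gen.f)) lc_f_rc_21_1 lc_f_rc_21_1 lc_f_rc_17_3 lc_f_Cert_tree lc_f_rc_17_3 lc_f_rc_10_3 lc_f_rc_14_3 lc_f_rc_19_5 lc_f_rc_5_3 lc_f_rc_20_1 lc_f_rc_20_1 lc_f_rc_20_1 lc_f_rc_5_1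 lc_f_rc_20_1 lc_f_rc_10_1 lc_f_rc_17_1 lc_f_rc_20_1 lc_f_rc_19_3 lc_f_rc_10_3 lc_f_rc_5_3 lc_f_rc_10_3 lc_f_rc_14_3 lc_f_rc_5_3 lc_f_rc_14_3 lc_f_rc_17_3 lc_f_rc_10_3 lc_f_rc_10_3 lc_f_rc_17_3 lc_f_rc_17_3 lc_f_rc_20_1 lc_f_rc_10_1 lc_f_rc_10_3 lc_f_rc_10_3 lc_f_rc_22_1 lc_f_rc_10_3 lc_f_rc_21_1 lc_f_rc_5_1 lc_f_rc_17_3 lc_f_rc_17_3 lc_f_rc_14_3 lc_f_rc_17_1 lc_f_rc_17_3 lc_f_rc_14_3 lc_f_rc_14_1 lc_f_rc_5_3 lc_f_rc_10_3 lc_f_rc_5_1 lc_f_rc_5_1 lc_f_Cert_tree lc_f_rc_20_1 lc_f_rc_21_1 lc_f_rc_14_1 lc_f_rc_17_3 lc_f_Cert_tree lc_f_rc_21_1 lc_f_Cert_tree lc_f_rc_20_1 lc_f_rc_17_3 lc_f_rc_5_3 lc_f_rc_21_1 lc_f_rc_21_1 lc_f_rc_20_1) (@D3.rec (fun _ => (Cert rels S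 Gen.f)) lc_f_Cert_tree lc_f_rc_20_1 lc_f_rc_17_3 lc_f_rc_5_1 lc_f_rc_20_1 lc_f_rc_20_1 lc_f_rc_17_1 lc_f_rc_21_1 lc_f_Cert_tree lc_f_rc_20_1 lc_f_rc_10_3 lc_f_Cert_tree lc_f_Cert_tree lc_f_rc_20_1 lc_f_rc_19_3 lc_f_rc_20_1 lc_f_rc_14_1 lc_f_rc_21_1 lc_f_rc_10_3 lc_f_Cert_tree lc_f_rc_20_1 lc_f_rc_5_3 lc_f_rc_20_1 lc_f_Cert_tree lc_f_rc_20_1 lc_f_rc_20_1 lc_f_rc_14_3 lc_f_rc_20_1 lc_f_rc_17_1 lc_f_rc_10_1 lc_f_rc_21_1 lc_f_rc_14_1 lc_f_rc_17_1 lc_f_rc_10_3 lc_f_Cert_tree lc_f_rc_17_3 lc_f_rc_17_3 lc_f_rc_17_1 lc_f_rc_21_1 lc_f_rc_10_1 lc_f_rc_10_3 lc_f_rc_21_1 lc_f_Cert_tree lc_f_rc_20_1 lc_f_rc_21_1 lc_f_Cert_tree lc_f_rc_20_1 lc_f_rc_14_1 lc_f_rc_5_1 lc_f_rc_17_3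 lc_f_rc_14_3 lc_f_Cert_tree lc_f_rc_21_1 lc_f_Cert_tree lc_f_rc_20_1 lc_f_rc_10_3 lc_f_rc_21_1 lc_f_rc_17_3 lc_f_rc_5_3 lc_f_rc_10_3 lc_f_rc_17_3 lc_f_rc_14_1) (@D3.rec (fun _ => (Cert rels S Gen.f)) lc_f_rc_20_1 lc_f_rc_10_1 lc_f_rc_20_1 lc_f_rc_20_1 lc_f_rc_14_3 lc_f_rc_21_1 lc_f_rc_21_1 lc_f_rc_21_1 lc_f_rc_20_1 lc_f_rc_17_1 lc_f_rc_21_1 lc_f_Cert_tree lc_f_rc_10_3 lc_f_rc_20_1 lc_f_rc_10_3 lc_f_rc_20_1 lc_f_rc_10_3 lc_f_rc_20_1 lc_f_rc_14_3 lc_f_rc_17_3 lc_f_rc_22_1 lc_f_rc_14_3 lc_f_rc_17_3 lc_f_rc_17_3 lc_f_rc_14_3 lc_f_rc_19_3 lc_f_Cert_tree lc_f_rc_10_3 lc_f_rc_14_3 lc_f_Cert_tree lc_f_rc_14_1 lc_f_rc_21_1 lc_f_rc_20_1 lc_f_rc_5_3 lc_f_rc_5_3 lc_f_rc_5_3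 lc_f_rc_10_1 lc_f_rc_5_1 lc_f_rc_17_3 lc_f_rc_14_3 lc_f_Cert_tree lc_f_rc_14_3 lc_f_rc_17_3 lc_f_rc_10_3 lc_f_Cert_tree lc_f_rc_20_1 lc_f_rc_21_1 lc_f_rc_20_1 lc_f_rc_20_1 lc_f_rc_5_1 lc_f_rc_5_1 lc_f_rc_14_3 lc_f_Cert_tree lc_f_rc_21_1 lc_f_rc_5_1 lc_f_rc_17_3 lc_f_Cert_tree lc_f_rc_20_1 lc_f_rc_21_1 lc_f_Cert_tree lc_f_rc_20_1 lc_f_rc_14_3) (@D3.rec (fun _ => (Cert rels S Gen.f)) lc_f_rc_5_3 lc_f_rc_14_3 lc_f_rc_20_1 lc_f_Cert_tree lc_f_rc_10_3 lc_f_Cert_tree lc_f_rc_21_1 lc_f_rc_20_1 lc_f_Cert_tree lc_f_rc_20_1 lc_f_rc_14_3 lc_f_Cert_tree lc_f_rc_10_3 lc_f_Cert_tree lc_f_rc_10_3 lc_f_rc_20_1 lc_f_rc_20_1 lc_f_rc_17_3 lc_f_rc_19_3 lc_f_rc_10_3 lc_f_rc_10_3 lc_f_rc_22_1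 lc_f_rc_20_1 lc_f_Cert_tree lc_f_rc_10_1 lc_f_rc_21_1 lc_f_rc_17_1 lc_f_rc_14_3 lc_f_rc_10_1 lc_f_rc_5_1 lc_f_rc_10_3 lc_f_rc_10_3 lc_f_rc_20_1 lc_f_rc_14_3 lc_f_rc_21_1 lc_f_rc_20_1 lc_f_rc_10_3 lc_f_rc_17_1 lc_f_Cert_tree lc_f_rc_10_3 lc_f_rc_5_1 lc_f_rc_5_1 lc_f_rc_20_1 lc_f_rc_17_3 lc_f_rc_17_3 lc_f_rc_20_1 lc_f_rc_21_1 lc_f_rc_17_3 lc_f_rc_14_3 lc_f_rc_21_1 lc_f_rc_20_1 lc_f_rc_10_3 lc_f_rc_14_3 lc_f_rc_14_3 lc_f_rc_10_3 lc_f_rc_5_1 lc_f_rc_17_3 lc_f_rc_14_3 lc_f_rc_19_3 lc_f_rc_14_3 lc_f_rc_19_3 lc_f_Cert_tree) (@D3.rec (fun _ => (Cert rels S Gen.f)) lc_f_rc_20_1 lc_f_rc_5_3 lc_f_rc_17_3 lc_f_rc_5_3 lc_f_rc_21_1 lc_f_Cert_tree lc_f_rc_20_1 lc_f_rc_14_3 lc_f_rc_19_3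 lc_f_Cert_tree lc_f_Cert_tree lc_f_rc_20_1 lc_f_rc_5_3 lc_f_Cert_tree lc_f_rc_20_1 lc_f_rc_10_3 lc_f_rc_21_1 lc_f_rc_17_3 lc_f_rc_10_3 lc_f_rc_17_3 lc_f_rc_14_3 lc_f_rc_20_1 lc_f_rc_21_1 lc_f_Cert_tree lc_f_rc_20_1 lc_f_rc_5_1 lc_f_rc_10_3 lc_f_rc_14_3 lc_f_Cert_tree lc_f_rc_14_3 lc_f_Cert_tree lc_f_rc_14_3 lc_f_rc_14_3 lc_f_rc_10_3 lc_f_rc_14_3 lc_f_Cert_tree lc_f_rc_20_1 lc_f_rc_14_3 lc_f_rc_20_1 lc_f_rc_5_3 lc_f_rc_20_1 lc_f_rc_17_3 lc_f_rc_17_3 lc_f_rc_21_1 lc_f_rc_14_3 lc_f_rc_17_3 lc_f_rc_17_1 lc_f_rc_20_1 lc_f_rc_21_1 lc_f_rc_10_1 lc_f_rc_17_3 lc_f_rc_17_3 lc_f_rc_19_3 lc_f_rc_21_1 lc_f_rc_20_1 lc_f_rc_20_1 lc_f_rc_14_3 lc_f_rc_19_3 lc_f_Cert_tree lc_f_rc_20_1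 lc_f_rc_17_3 lc_f_rc_5_1) (@D3.rec (fun _ => (Cert rels S Gen.f)) lc_f_Cert_tree lc_f_rc_17_3 lc_f_Cert_tree lc_f_rc_5_1 lc_f_rc_17_3 lc_f_rc_21_1 lc_f_rc_20_1 lc_f_Cert_tree lc_f_rc_21_1 lc_f_rc_17_1 lc_f_rc_17_1 lc_f_rc_20_1 lc_f_rc_19_5 lc_f_rc_17_3 lc_f_rc_10_1 lc_f_rc_5_3 lc_f_rc_17_3 lc_f_rc_17_1 lc_f_rc_14_3 lc_f_Cert_tree lc_f_rc_14_3 lc_f_rc_21_1 lc_f_rc_20_1 lc_f_rc_5_3 lc_f_rc_14_3 lc_f_rc_17_3 lc_f_rc_17_3 lc_f_rc_20_1 lc_f_rc_5_3 lc_f_rc_14_3 lc_f_Cert_tree lc_f_rc_10_1 lc_f_rc_10_3 lc_f_Cert_tree lc_f_rc_20_1 lc_f_rc_14_1 lc_f_rc_19_1 lc_f_rc_14_3 lc_f_rc_14_3 lc_f_rc_10_3 lc_f_rc_17_3 lc_f_rc_20_1 lc_f_rc_5_1 lc_f_Cert_tree lc_f_rc_10_3 lc_f_rc_10_1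 lc_f_rc_19_5 lc_f_rc_20_1 lc_f_rc_21_1 lc_f_rc_5_3 lc_f_rc_22_1 lc_f_rc_5_3 lc_f_rc_20_1 lc_f_rc_20_1 lc_f_Cert_tree lc_f_rc_17_3 lc_f_rc_19_3 lc_f_rc_20_1 lc_f_rc_17_3 lc_f_rc_14_3 lc_f_rc_17_3 lc_f_Cert_tree) (@D3.rec (fun _ => (Cert rels S Gen.f)) lc_f_rc_10_3 lc_f_Cert_tree lc_f_rc_5_3 lc_f_rc_22_1 lc_f_Cert_tree lc_f_rc_10_3 lc_f_rc_17_3 lc_f_rc_20_1 lc_f_rc_20_1 lc_f_rc_22_1 lc_f_rc_10_3 lc_f_rc_17_3 lc_f_rc_19_5 lc_f_rc_17_3 lc_f_rc_17_1 lc_f_rc_21_1 lc_f_Cert_tree lc_f_rc_20_1 lc_f_rc_10_3 lc_f_rc_5_3 lc_f_rc_17_3 lc_f_rc_14_3 lc_f_rc_17_3 lc_f_rc_14_3 lc_f_Cert_tree lc_f_rc_10_3 lc_f_rc_10_3 lc_f_rc_17_3 lc_f_Cert_tree lc_f_rc_5_3 lc_f_rc_10_1 lc_f_rc_20_1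 lc_f_rc_20_1 lc_f_rc_17_3 lc_f_rc_10_3 lc_f_rc_14_3 lc_f_rc_10_1 lc_f_rc_20_1 lc_f_rc_17_3 lc_f_rc_14_3 lc_f_rc_17_3 lc_f_rc_17_1 lc_f_rc_17_1 lc_f_rc_5_1 lc_f_rc_21_1 lc_f_rc_20_1 lc_f_rc_10_3 lc_f_rc_17_3 lc_f_rc_10_3 lc_f_rc_21_1 lc_f_rc_17_3 lc_f_Cert_tree lc_f_rc_20_1 lc_f_rc_17_3 lc_f_rc_17_3 lc_f_rc_10_1 lc_f_rc_17_3 lc_f_rc_14_1 lc_f_rc_10_3 lc_f_rc_20_1 lc_f_rc_10_1 lc_f_rc_17_3) (@D3.rec (fun _ => (Cert rels S Gen.f)) lc_f_Cert_tree lc_f_rc_20_1 lc_f_rc_10_1 lc_f_rc_10_1 lc_f_rc_14_1 lc_f_rc_21_1 lc_f_rc_17_3 lc_f_rc_14_3 lc_f_rc_17_3 lc_f_rc_5_1 lc_f_rc_20_1 lc_f_rc_20_1 lc_f_rc_20_1 lc_f_rc_20_1 lc_f_rc_20_1 lc_f_rc_5_1 lc_f_rc_17_3 lc_f_rc_20_1 lc_f_rc_10_3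 lc_f_Cert_tree lc_f_rc_14_3 lc_f_rc_5_1 lc_f_rc_19_3 lc_f_rc_20_1 lc_f_rc_21_1 lc_f_rc_19_3 lc_f_rc_20_1 lc_f_rc_21_1 lc_f_Cert_tree lc_f_rc_20_1 lc_f_Cert_tree lc_f_rc_20_1 lc_f_rc_10_3 lc_f_Cert_tree lc_f_rc_20_1 lc_f_rc_10_1 lc_f_Cert_tree lc_f_rc_14_3 lc_f_rc_5_1 lc_f_Cert_tree lc_f_rc_20_1 lc_f_rc_21_1 lc_f_Cert_tree lc_f_rc_20_1 lc_f_rc_21_1 lc_f_Cert_tree lc_f_rc_20_1 lc_f_rc_5_3 lc_f_Cert_tree lc_f_rc_20_1 lc_f_rc_14_1 lc_f_rc_19_5 lc_f_rc_19_3 lc_f_rc_10_3 lc_f_rc_20_1 lc_f_rc_21_1 lc_f_rc_10_3 lc_f_rc_20_1 lc_f_rc_21_1 lc_f_rc_17_3 lc_f_rc_17_3 lc_f_rc_17_3) (@D3.rec (fun _ => (Cert rels S Gen.f)) lc_f_rc_20_1 lc_f_rc_14_3 lc_f_Cert_tree lc_f_rc_19_5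 lc_f_rc_20_1 lc_f_rc_14_3 lc_f_Cert_tree lc_f_rc_20_1 lc_f_rc_10_3 lc_f_rc_17_3 lc_f_rc_19_5 lc_f_rc_14_1 lc_f_rc_21_1 lc_f_rc_10_1 lc_f_rc_14_3 lc_f_rc_14_3 lc_f_rc_21_1 lc_f_rc_21_1 lc_f_rc_10_3 lc_f_rc_19_1 lc_f_rc_14_3 lc_f_rc_17_3 lc_f_rc_17_1 lc_f_rc_19_5 lc_f_rc_20_1 lc_f_rc_5_3 lc_f_rc_20_1 lc_f_rc_17_1 lc_f_Cert_tree lc_f_rc_14_3 lc_f_rc_14_1 lc_f_rc_17_1 lc_f_rc_20_1 lc_f_rc_20_1 lc_f_rc_20_1 lc_f_rc_14_3 lc_f_rc_10_1 lc_f_rc_14_3 lc_f_rc_10_3 lc_f_rc_21_1 lc_f_rc_20_1 lc_f_rc_21_1 lc_f_Cert_tree lc_f_rc_17_3 lc_f_rc_10_3 lc_f_rc_10_3 lc_f_rc_19_1 lc_f_rc_5_1 lc_f_rc_20_1 lc_f_rc_14_3 lc_f_Cert_tree lc_f_rc_20_1 lc_f_rc_20_1 lc_f_rc_10_3 lc_f_rc_5_3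 lc_f_rc_17_3 lc_f_rc_10_3 lc_f_rc_17_3 lc_f_rc_5_3 lc_f_rc_14_3 lc_f_Cert_tree lc_f_rc_21_1) (@D3.rec (fun _ => (Cert rels S Gen.f)) lc_f_rc_21_1 lc_f_rc_20_1 lc_f_rc_14_3 lc_f_rc_19_3 lc_f_rc_17_3 lc_f_rc_10_3 lc_f_rc_5_1 lc_f_Cert_tree lc_f_rc_21_1 lc_f_rc_14_3 lc_f_Cert_tree lc_f_Cert_tree lc_f_rc_20_1 lc_f_rc_19_3 lc_f_rc_20_1 lc_f_rc_5_3 lc_f_rc_10_3 lc_f_rc_17_3 lc_f_rc_20_1 lc_f_rc_14_1 lc_f_rc_21_1 lc_f_rc_17_3 lc_f_rc_20_1 lc_f_rc_20_1 lc_f_rc_5_1 lc_f_rc_17_3 lc_f_rc_10_1 lc_f_rc_10_3 lc_f_rc_10_3 lc_f_rc_17_3 lc_f_rc_10_3 lc_f_Cert_tree lc_f_rc_20_1 lc_f_Cert_tree lc_f_rc_17_3 lc_f_rc_17_3 lc_f_rc_20_1 lc_f_rc_10_3 lc_f_Cert_tree lc_f_rc_10_3 lc_f_Cert_tree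 lc_f_rc_5_1 lc_f_rc_10_3 lc_f_rc_5_3 lc_f_rc_14_3 lc_f_rc_14_3 lc_f_rc_10_3 lc_f_rc_5_1 lc_f_rc_10_3 lc_f_rc_20_1 lc_f_rc_20_1 lc_f_rc_10_3 lc_f_rc_17_3 lc_f_rc_17_3 lc_f_rc_5_1 lc_f_rc_17_3 lc_f_rc_20_1 lc_f_rc_17_3 lc_f_rc_17_3 lc_f_Cert_tree lc_f_rc_17_3 lc_f_Cert_tree) (@D3.rec (fun _ => (Cert rels S Gen.f)) lc_f_rc_20_1 lc_f_rc_17_3 lc_f_rc_17_3 lc_f_rc_21_1 lc_f_rc_20_1 lc_f_rc_5_3 lc_f_rc_20_1 lc_f_rc_20_1 lc_f_rc_17_3 lc_f_rc_19_5 lc_f_rc_5_1 lc_f_rc_20_1 lc_f_rc_14_3 lc_f_rc_17_1 lc_f_rc_20_1 lc_f_rc_14_1 lc_f_rc_21_1 lc_f_rc_20_1 lc_f_rc_19_3 lc_f_rc_20_1 lc_f_Cert_tree lc_f_rc_20_1 lc_f_rc_17_3 lc_f_rc_10_3 lc_f_rc_17_1 lc_f_rc_17_3 lc_f_rc_5_1 lc_f_rc_17_3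 lc_f_rc_17_3 lc_f_rc_20_1 lc_f_rc_17_3 lc_f_rc_17_3 lc_f_Cert_tree lc_f_rc_20_1 lc_f_rc_14_3 lc_f_Cert_tree lc_f_rc_14_1 lc_f_Cert_tree lc_f_rc_14_1 lc_f_rc_10_1 lc_f_rc_20_1 lc_f_rc_17_3 lc_f_rc_10_3 lc_f_rc_5_1 lc_f_Cert_tree lc_f_rc_20_1 lc_f_rc_5_1 lc_f_rc_5_3 lc_f_rc_17_1 lc_f_rc_10_3 lc_f_rc_10_3 lc_f_rc_21_1 lc_f_rc_20_1 lc_f_rc_14_1 lc_f_rc_20_1 lc_f_rc_10_3 lc_f_Cert_tree lc_f_Cert_tree lc_f_rc_20_1 lc_f_rc_19_3 lc_f_rc_14_3 lc_f_rc_10_1) (@D3.rec (fun _ => (Cert rels S Gen.f)) lc_f_rc_17_3 lc_f_rc_21_1 lc_f_rc_20_1 lc_f_rc_20_1 lc_f_rc_14_3 lc_f_rc_20_1 lc_f_rc_22_1 lc_f_rc_21_1 lc_f_rc_10_3 lc_f_rc_10_3 lc_f_rc_17_3 lc_f_rc_14_1 lc_f_rc_20_1 lc_f_rc_20_1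 lc_f_rc_14_3 lc_f_rc_17_3 lc_f_rc_17_3 lc_f_rc_22_1 lc_f_rc_10_3 lc_f_rc_10_3 lc_f_rc_20_1 lc_f_rc_10_3 lc_f_Cert_tree lc_f_rc_20_1 lc_f_rc_17_3 lc_f_rc_19_5 lc_f_rc_17_1 lc_f_rc_20_1 lc_f_Cert_tree lc_f_rc_19_3 lc_f_rc_10_3 lc_f_rc_5_1 lc_f_Cert_tree lc_f_rc_20_1 lc_f_rc_10_1 lc_f_rc_17_3 lc_f_rc_14_3 lc_f_rc_17_3 lc_f_rc_21_1 lc_f_rc_21_1 lc_f_rc_10_1 lc_f_Cert_tree lc_f_rc_20_1 lc_f_rc_17_3 lc_f_rc_22_1 lc_f_rc_21_1 lc_f_rc_21_1 lc_f_rc_20_1 lc_f_rc_17_3 lc_f_rc_10_3 lc_f_rc_14_1 lc_f_rc_20_1 lc_f_rc_20_1 lc_f_rc_20_1 lc_f_rc_20_1 lc_f_rc_14_1 lc_f_rc_5_1 lc_f_rc_17_3 lc_f_rc_20_1 lc_f_Cert_tree lc_f_rc_19_5 lc_f_rc_20_1) (@D3.rec (fun _ => (Cert rels S Gen.f))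 lc_f_rc_10_3 lc_f_rc_20_1 lc_f_rc_14_1 lc_f_rc_10_3 lc_f_Cert_tree lc_f_rc_10_3 lc_f_rc_17_3 lc_f_Cert_tree lc_f_rc_14_3 lc_f_Cert_tree lc_f_rc_5_1 lc_f_Cert_tree lc_f_rc_20_1 lc_f_rc_17_3 lc_f_rc_14_3 lc_f_rc_10_3 lc_f_rc_5_1 lc_f_rc_14_3 lc_f_Cert_tree lc_f_rc_21_1 lc_f_rc_14_1 lc_f_rc_17_3 lc_f_rc_14_3 lc_f_rc_5_3 lc_f_rc_17_3 lc_f_rc_17_1 lc_f_rc_17_3 lc_f_rc_14_3 lc_f_Cert_tree lc_f_rc_20_1 lc_f_rc_20_1 lc_f_rc_17_3 lc_f_rc_19_3 lc_f_rc_10_1 lc_f_Cert_tree lc_f_rc_5_3 lc_f_rc_20_1 lc_f_rc_5_3 lc_f_rc_20_1 lc_f_rc_5_3 lc_f_rc_17_3 lc_f_rc_14_3 lc_f_rc_17_3 lc_f_rc_14_1 lc_f_rc_21_1 lc_f_rc_17_3 lc_f_rc_14_3 lc_f_Cert_tree lc_f_rc_17_3 lc_f_rc_10_3 lc_f_Cert_tree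 lc_f_rc_17_3 lc_f_rc_17_3 lc_f_Cert_tree lc_f_rc_20_1 lc_f_rc_14_3 lc_f_rc_5_3 lc_f_rc_14_3 lc_f_Cert_tree lc_f_rc_10_3 lc_f_Cert_tree lc_f_rc_21_1) (@D3.rec (fun _ => (Cert rels S Gen.f)) lc_f_rc_14_3 lc_f_rc_20_1 lc_f_rc_20_1 lc_f_rc_14_3 lc_f_Cert_tree lc_f_rc_10_3 lc_f_Cert_tree lc_f_rc_10_3 lc_f_rc_19_3 lc_f_rc_20_1 lc_f_rc_17_3 lc_f_rc_5_1 lc_f_rc_5_1 lc_f_Cert_tree lc_f_rc_17_3 lc_f_rc_14_3 lc_f_Cert_tree lc_f_rc_10_3 lc_f_Cert_tree lc_f_rc_21_1 lc_f_rc_17_3 lc_f_rc_20_1 lc_f_rc_17_3 lc_f_rc_14_3 lc_f_rc_10_1 lc_f_Cert_tree lc_f_rc_21_1 lc_f_rc_20_1 lc_f_Cert_tree lc_f_rc_20_1 lc_f_rc_14_3 lc_f_rc_19_3 lc_f_rc_10_3 lc_f_rc_17_3 lc_f_rc_10_1 lc_f_rc_14_3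 lc_f_rc_20_1 lc_f_rc_5_3 lc_f_rc_20_1 lc_f_rc_21_1 lc_f_rc_17_3 lc_f_rc_14_1 lc_f_rc_14_3 lc_f_rc_10_1 lc_f_rc_14_3 lc_f_rc_10_3 lc_f_rc_19_5 lc_f_rc_19_5 lc_f_rc_14_1 lc_f_rc_10_3 lc_f_rc_5_1 lc_f_rc_17_1 lc_f_rc_21_1 lc_f_rc_19_5 lc_f_rc_17_3 lc_f_rc_10_3 lc_f_Cert_tree lc_f_rc_20_1 lc_f_rc_14_1 lc_f_rc_10_1 lc_f_rc_17_1 lc_f_rc_19_5) (@D3.rec (fun _ => (Cert rels S Gen.f)) lc_f_rc_20_1 lc_f_rc_5_3 lc_f_rc_5_3 lc_f_rc_20_1 lc_f_rc_17_3 lc_f_rc_14_3 lc_f_rc_14_1 lc_f_rc_10_3 lc_f_rc_10_3 lc_f_rc_19_3 lc_f_rc_17_3 lc_f_rc_21_1 lc_f_rc_5_3 lc_f_rc_20_1 lc_f_rc_14_3 lc_f_rc_10_3 lc_f_Cert_tree lc_f_rc_14_3 lc_f_rc_10_3 lc_f_rc_10_3 lc_f_rc_17_3 lc_f_rc_17_3 lc_f_Cert_tree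 lc_f_rc_20_1 lc_f_rc_21_1 lc_f_rc_5_1 lc_f_rc_20_1 lc_f_rc_5_1 lc_f_Cert_tree lc_f_rc_14_3 lc_f_Cert_tree lc_f_rc_10_1 lc_f_rc_19_5 lc_f_rc_14_1 lc_f_rc_19_3 lc_f_rc_17_3 lc_f_rc_14_3 lc_f_rc_21_1 lc_f_rc_14_3 lc_f_Cert_tree lc_f_Cert_tree lc_f_rc_20_1 lc_f_rc_20_1 lc_f_rc_21_1 lc_f_Cert_tree lc_f_rc_21_1 lc_f_rc_14_1 lc_f_rc_10_3 lc_f_rc_17_1 lc_f_rc_14_3 lc_f_Cert_tree lc_f_rc_19_3 lc_f_rc_20_1 lc_f_rc_21_1 lc_f_rc_5_3 lc_f_rc_10_3 lc_f_rc_17_3 lc_f_Cert_tree lc_f_rc_10_3 lc_f_rc_17_3 lc_f_rc_14_1 lc_f_rc_14_3) (@D3.rec (fun _ => (Cert rels S Gen.f)) lc_f_rc_5_1 lc_f_rc_14_3 lc_f_rc_17_1 lc_f_rc_20_1 lc_f_rc_21_1 lc_f_rc_14_3 lc_f_Cert_tree lc_f_rc_17_3 lc_f_rc_17_3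 lc_f_Cert_tree lc_f_rc_14_3 lc_f_rc_5_1 lc_f_Cert_tree lc_f_Cert_tree lc_f_rc_20_1 lc_f_rc_19_3 lc_f_rc_14_3 lc_f_rc_17_3 lc_f_rc_21_1 lc_f_Cert_tree lc_f_rc_14_3 lc_f_rc_14_3 lc_f_Cert_tree lc_f_rc_21_1 lc_f_rc_20_1 lc_f_rc_20_1 lc_f_rc_5_1 lc_f_rc_20_1 lc_f_rc_17_3 lc_f_rc_20_1 lc_f_rc_14_3 lc_f_rc_14_1 lc_f_Cert_tree lc_f_rc_10_1 lc_f_rc_20_1 lc_f_Cert_tree lc_f_rc_21_1 lc_f_rc_20_1 lc_f_rc_20_1 lc_f_rc_5_1 lc_f_rc_19_5 lc_f_Cert_tree lc_f_Cert_tree lc_f_rc_14_3 lc_f_rc_17_3 lc_f_Cert_tree lc_f_rc_20_1 lc_f_rc_10_1 lc_f_rc_14_3 lc_f_Cert_tree lc_f_rc_21_1 lc_f_rc_14_1 lc_f_rc_20_1 lc_f_rc_10_1 lc_f_rc_17_1 lc_f_rc_19_3 lc_f_rc_19_5 lc_f_rc_20_1 lc_f_rc_5_3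 lc_f_Cert_tree lc_f_rc_10_3 lc_f_rc_5_1) (@D3.rec (fun _ => (Cert rels S Gen.f)) lc_f_rc_20_1 lc_f_rc_17_3 lc_f_rc_21_1 lc_f_rc_17_3 lc_f_rc_5_1 lc_f_rc_17_3 lc_f_rc_14_3 lc_f_Cert_tree lc_f_rc_21_1 lc_f_rc_20_1 lc_f_rc_20_1 lc_f_Cert_tree lc_f_rc_10_3 lc_f_rc_10_3 lc_f_Cert_tree lc_f_rc_21_1 lc_f_rc_14_1 lc_f_Cert_tree lc_f_rc_21_1 lc_f_rc_19_1 lc_f_rc_14_3 lc_f_Cert_tree lc_f_rc_5_3 lc_f_rc_10_1 lc_f_Cert_tree lc_f_rc_21_1 lc_f_rc_20_1 lc_f_rc_10_3 lc_f_rc_10_3 lc_f_rc_14_1 lc_f_Cert_tree lc_f_rc_20_1 lc_f_rc_19_3 lc_f_rc_21_1 lc_f_rc_20_1 lc_f_rc_19_1 lc_f_rc_10_3 lc_f_rc_10_3 lc_f_Cert_tree lc_f_rc_21_1 lc_f_rc_20_1 lc_f_rc_20_1 lc_f_rc_20_1 lc_f_rc_14_3 lc_f_Cert_tree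 lc_f_rc_20_1 lc_f_rc_10_1 lc_f_rc_19_5 lc_f_rc_21_1 lc_f_Cert_tree lc_f_rc_20_1 lc_f_rc_14_3 lc_f_rc_5_1 lc_f_rc_10_3 lc_f_rc_17_3 lc_f_rc_17_3 lc_f_rc_10_1 lc_f_rc_5_1 lc_f_rc_19_3 lc_f_rc_20_1 lc_f_rc_20_1 lc_f_rc_20_1) (@D3.rec (fun _ => (Cert rels S Gen.f)) lc_f_rc_5_1 lc_f_rc_5_3 lc_f_rc_14_3 lc_f_rc_14_3 lc_f_rc_14_1 lc_f_rc_20_1 lc_f_rc_20_1 lc_f_rc_19_5 lc_f_rc_10_3 lc_f_rc_20_1 lc_f_Cert_tree lc_f_rc_20_1 lc_f_rc_17_3 lc_f_rc_10_1 lc_f_rc_5_3 lc_f_rc_14_3 lc_f_rc_20_1 lc_f_rc_19_5 lc_f_rc_14_1 lc_f_rc_20_1 lc_f_rc_10_1 lc_f_rc_5_3 lc_f_Cert_tree lc_f_rc_10_3 lc_f_rc_21_1 lc_f_rc_17_3 lc_f_rc_20_1 lc_f_rc_14_3 lc_f_rc_5_3 lc_f_rc_19_1 lc_f_rc_10_1 lc_f_rc_5_1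 lc_f_rc_17_1 lc_f_rc_21_1 lc_f_rc_20_1 lc_f_Cert_tree lc_f_rc_20_1 lc_f_Cert_tree lc_f_rc_20_1 lc_f_Cert_tree lc_f_rc_20_1 lc_f_rc_20_1 lc_f_rc_19_3 lc_f_rc_21_1 lc_f_rc_17_3 lc_f_Cert_tree lc_f_rc_14_1 lc_f_rc_22_1 lc_f_rc_14_3 lc_f_rc_14_3 lc_f_rc_17_3 lc_f_rc_19_3 lc_f_rc_14_3 lc_f_rc_17_3 lc_f_Cert_tree lc_f_rc_20_1 lc_f_rc_10_1 lc_f_rc_10_1 lc_f_rc_17_3 lc_f_rc_10_3 lc_f_rc_5_1 lc_f_Cert_tree) (@D3.rec (fun _ => (Cert rels S Gen.f)) lc_f_rc_20_1 lc_f_rc_17_3 lc_f_rc_17_3 lc_f_rc_14_3 lc_f_Cert_tree lc_f_rc_5_3 lc_f_rc_17_3 lc_f_rc_14_3 lc_f_rc_20_1 lc_f_rc_5_1 lc_f_rc_20_1 lc_f_rc_10_3 lc_f_Cert_tree lc_f_rc_17_3 lc_f_Cert_tree lc_f_rc_14_3 lc_f_rc_14_3 lc_f_rc_19_1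 lc_f_Cert_tree lc_f_rc_20_1 lc_f_rc_19_3 lc_f_rc_17_3 lc_f_Cert_tree lc_f_rc_21_1 lc_f_rc_20_1 lc_f_rc_10_3 lc_f_Cert_tree lc_f_rc_10_3 lc_f_Cert_tree lc_f_rc_10_3 lc_f_rc_21_1 lc_f_rc_5_1 lc_f_rc_20_1 lc_f_rc_19_3 lc_f_rc_14_3 lc_f_rc_14_3 lc_f_rc_20_1 lc_f_rc_10_3 lc_f_rc_10_3 lc_f_rc_10_1 lc_f_rc_20_1 lc_f_Cert_tree lc_f_rc_20_1 lc_f_rc_20_1 lc_f_rc_5_3 lc_f_rc_17_3 lc_f_rc_20_1 lc_f_rc_19_3 lc_f_rc_17_3 lc_f_rc_10_3 lc_f_rc_21_1 lc_f_rc_17_3 lc_f_Cert_tree lc_f_rc_20_1 lc_f_rc_5_1 lc_f_rc_20_1 lc_f_rc_17_3 lc_f_rc_21_1 lc_f_rc_20_1 lc_f_Cert_tree lc_f_rc_20_1 lc_f_rc_10_3) (@D3.rec (fun _ => (Cert rels S Gen.f)) lc_f_rc_17_3 lc_f_Cert_tree lc_f_rc_20_1 lc_f_rc_20_1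 lc_f_rc_20_1 lc_f_rc_5_1 lc_f_Cert_tree lc_f_rc_20_1 lc_f_rc_5_1 lc_f_rc_17_3 lc_f_rc_14_3 lc_f_Cert_tree lc_f_rc_5_1 lc_f_rc_5_3 lc_f_rc_14_1 lc_f_rc_14_3 lc_f_Cert_tree lc_f_rc_21_1 lc_f_rc_22_1 lc_f_rc_22_1 lc_f_Cert_tree lc_f_rc_21_1 lc_f_rc_14_3 lc_f_rc_14_3 lc_f_Cert_tree lc_f_rc_14_3 lc_f_rc_20_1 lc_f_Cert_tree lc_f_Cert_tree lc_f_rc_20_1 lc_f_rc_19_3 lc_f_rc_21_1 lc_f_rc_10_1 lc_f_rc_20_1 lc_f_rc_14_3 lc_f_rc_10_3 lc_f_rc_20_1 lc_f_rc_20_1 lc_f_rc_20_1 lc_f_rc_20_1 lc_f_rc_20_1 lc_f_rc_20_1 lc_f_rc_20_1 lc_f_Cert_tree lc_f_Cert_tree lc_f_rc_10_3 lc_f_rc_19_3 lc_f_rc_21_1 lc_f_rc_14_3 lc_f_Cert_tree lc_f_rc_20_1 lc_f_rc_19_3 lc_f_rc_21_1 lc_f_rc_10_1 lc_f_Cert_tree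 lc_f_rc_20_1 lc_f_rc_19_5 lc_f_Cert_tree lc_f_rc_5_1 lc_f_rc_10_3 lc_f_rc_20_1 lc_f_Cert_tree) (@D3.rec (fun _ => (Cert rels S Gen.f)) lc_f_Cert_tree lc_f_Cert_tree lc_f_rc_21_1 lc_f_rc_5_1 lc_f_rc_20_1 lc_f_rc_19_3 lc_f_rc_14_3 lc_f_rc_14_3 lc_f_rc_21_1 lc_f_Cert_tree lc_f_rc_14_3 lc_f_Cert_tree lc_f_rc_20_1 lc_f_rc_5_1 lc_f_Cert_tree lc_f_rc_10_1 lc_f_rc_5_1 lc_f_Cert_tree lc_f_rc_20_1 lc_f_rc_5_1 lc_f_rc_17_3 lc_f_rc_10_3 lc_f_rc_17_3 lc_f_rc_10_3 lc_f_rc_20_1 lc_f_rc_17_3 lc_f_rc_17_3 lc_f_rc_14_3 lc_f_rc_20_1 lc_f_rc_19_3 lc_f_rc_20_1 lc_f_rc_14_3 lc_f_Cert_tree lc_f_rc_17_1 lc_f_rc_17_1 lc_f_rc_17_3 lc_f_rc_10_3 lc_f_rc_17_3 lc_f_rc_14_3 lc_f_rc_10_3 lc_f_Cert_tree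 lc_f_rc_17_3 lc_f_rc_14_3 lc_f_rc_10_3 lc_f_rc_20_1 lc_f_rc_20_1 lc_f_Cert_tree lc_f_rc_10_3 lc_f_rc_14_3 lc_f_Cert_tree lc_f_rc_14_3 lc_f_rc_21_1 lc_f_rc_19_5 lc_f_rc_20_1 lc_f_rc_19_3 lc_f_rc_5_1 lc_f_rc_5_1 lc_f_rc_10_1 lc_f_rc_20_1 lc_f_Cert_tree lc_f_rc_20_1 lc_f_rc_5_3) (@D3.rec (fun _ => (Cert rels S Gen.f)) lc_f_rc_5_3 lc_f_rc_20_1 lc_f_Cert_tree lc_f_rc_20_1 lc_f_rc_5_3 lc_f_rc_5_1 lc_f_rc_19_3 lc_f_rc_10_3 lc_f_rc_10_3 lc_f_rc_17_3 lc_f_rc_5_3 lc_f_rc_20_1 lc_f_rc_10_3 lc_f_rc_17_3 lc_f_rc_5_3 lc_f_rc_20_1 lc_f_rc_19_5 lc_f_rc_19_5 lc_f_rc_19_5 lc_f_rc_17_1 lc_f_Cert_tree lc_f_rc_19_5 lc_f_rc_21_1 lc_f_rc_17_3 lc_f_rc_17_3 lc_f_rc_14_3 lc_f_Cert_tree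 lc_f_rc_10_3 lc_f_rc_17_1 lc_f_rc_20_1 lc_f_rc_17_3 lc_f_rc_19_5 lc_f_rc_14_3 lc_f_Cert_tree lc_f_rc_21_1 lc_f_rc_10_3 lc_f_rc_5_3 lc_f_rc_19_1 lc_f_rc_14_1 lc_f_rc_21_1 lc_f_Cert_tree lc_f_Cert_tree lc_f_rc_20_1 lc_f_rc_19_3 lc_f_rc_14_3 lc_f_rc_17_3 lc_f_rc_5_1 lc_f_rc_5_3 lc_f_rc_5_3 lc_f_rc_14_3 lc_f_rc_19_3 lc_f_rc_21_1 lc_f_rc_10_3 lc_f_rc_14_3 lc_f_Cert_tree lc_f_rc_20_1 lc_f_rc_19_1 lc_f_rc_14_3 lc_f_rc_21_1 lc_f_rc_10_3 lc_f_rc_14_1 lc_f_rc_10_3) (@D3.rec (fun _ => (Cert rels S Gen.f)) lc_f_rc_17_3 lc_f_Cert_tree lc_f_rc_20_1 lc_f_rc_14_3 lc_f_rc_5_3 lc_f_rc_5_1 lc_f_rc_20_1 lc_f_rc_17_3 lc_f_rc_14_3 lc_f_rc_14_3 lc_f_rc_10_3 lc_f_rc_17_3 lc_f_rc_20_1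 lc_f_rc_5_1 lc_f_rc_14_3 lc_f_Cert_tree lc_f_rc_21_1 lc_f_rc_10_3 lc_f_rc_14_3 lc_f_Cert_tree lc_f_rc_10_1 lc_f_rc_17_1 lc_f_rc_20_1 lc_f_rc_5_1 lc_f_rc_20_1 lc_f_Cert_tree lc_f_rc_20_1 lc_f_rc_14_3 lc_f_rc_19_3 lc_f_rc_10_3 lc_f_rc_21_1 lc_f_rc_20_1 lc_f_rc_10_1 lc_f_rc_17_1 lc_f_rc_19_3 lc_f_rc_10_3 lc_f_rc_14_3 lc_f_Cert_tree lc_f_Cert_tree lc_f_rc_21_1 lc_f_rc_5_1 lc_f_rc_17_1 lc_f_rc_20_1 lc_f_Cert_tree lc_f_rc_19_3 lc_f_rc_14_1 lc_f_rc_17_1 lc_f_rc_20_1 lc_f_Cert_tree lc_f_rc_20_1 lc_f_rc_5_1 lc_f_rc_5_3 lc_f_rc_20_1 lc_f_rc_14_3 lc_f_rc_19_3 lc_f_Cert_tree lc_f_rc_20_1 lc_f_rc_17_3 lc_f_rc_19_5 lc_f_rc_10_1 lc_f_rc_5_1 lc_f_rc_20_1) (@D3.rec (fun _ => (Cert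 rels S Gen.f)) lc_f_rc_10_3 lc_f_rc_17_1 lc_f_rc_19_3 lc_f_rc_20_1 lc_f_rc_10_1 lc_f_rc_17_3 lc_f_rc_5_3 lc_f_rc_10_3 lc_f_rc_21_1 lc_f_rc_21_1 lc_f_rc_22_1 lc_f_rc_19_3 lc_f_rc_14_3 lc_f_rc_10_3 lc_f_rc_17_3 lc_f_rc_17_1 lc_f_rc_21_1 lc_f_rc_14_3 lc_f_rc_10_1 lc_f_rc_17_1 lc_f_rc_20_1 lc_f_rc_19_3 lc_f_rc_21_1 lc_f_rc_20_1 lc_f_rc_10_3 lc_f_rc_17_3 lc_f_rc_20_1 lc_f_rc_10_1 lc_f_rc_17_3 lc_f_rc_17_1 lc_f_rc_21_1 lc_f_rc_20_1 lc_f_rc_10_3 lc_f_rc_20_1 lc_f_rc_20_1 lc_f_rc_17_3 lc_f_rc_14_3 lc_f_Cert_tree lc_f_rc_10_3 lc_f_rc_14_3 lc_f_rc_17_3 lc_f_rc_20_1 lc_f_rc_17_1 lc_f_rc_10_1 lc_f_Cert_tree lc_f_rc_21_1 lc_f_rc_14_1 lc_f_rc_19_5 lc_f_rc_17_3 lc_f_rc_14_1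 lc_f_rc_14_3 lc_f_Cert_tree lc_f_rc_20_1 lc_f_rc_14_1 lc_f_rc_14_3 lc_f_rc_20_1 lc_f_rc_20_1 lc_f_rc_14_1 lc_f_rc_21_1 lc_f_rc_22_1 lc_f_rc_19_5 lc_f_rc_10_1) (@D3.rec (fun _ => (Cert rels S Gen.f)) lc_f_rc_17_3 lc_f_rc_5_3 lc_f_Cert_tree lc_f_rc_20_1 lc_f_rc_20_1 lc_f_rc_17_1 lc_f_rc_14_3 lc_f_rc_21_1 lc_f_rc_14_3 lc_f_rc_21_1 lc_f_rc_14_3 lc_f_rc_5_3 lc_f_rc_21_1 lc_f_rc_5_1 lc_f_rc_14_3 lc_f_rc_14_3 lc_f_rc_21_1 lc_f_Cert_tree lc_f_rc_14_3 lc_f_rc_20_1 lc_f_rc_19_3 lc_f_rc_20_1 lc_f_Cert_tree lc_f_rc_14_1 lc_f_rc_10_3 lc_f_rc_14_1 lc_f_rc_17_1 lc_f_rc_14_3 lc_f_Cert_tree lc_f_rc_10_3 lc_f_rc_10_3 lc_f_rc_17_1 lc_f_rc_20_1 lc_f_rc_5_3 lc_f_rc_10_3 lc_f_rc_17_3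 lc_f_rc_5_3 lc_f_rc_17_1 lc_f_rc_10_3 lc_f_rc_14_3 lc_f_rc_21_1 lc_f_rc_17_1 lc_f_rc_20_1 lc_f_rc_21_1 lc_f_rc_14_3 lc_f_rc_20_1 lc_f_rc_5_1 lc_f_rc_21_1 lc_f_rc_10_3 lc_f_rc_17_3 lc_f_Cert_tree lc_f_rc_17_3 lc_f_rc_17_3 lc_f_rc_17_1 lc_f_rc_20_1 lc_f_rc_17_3 lc_f_rc_14_3 lc_f_rc_17_3 lc_f_Cert_tree lc_f_rc_21_1 lc_f_rc_14_3 lc_f_rc_17_1) (@D3.rec (fun _ => (Cert rels S Gen.f)) lc_f_Cert_tree lc_f_rc_20_1 lc_f_rc_5_1 lc_f_rc_19_5 lc_f_rc_17_1 lc_f_rc_20_1 lc_f_rc_22_1 lc_f_Cert_tree lc_f_rc_21_1 lc_f_Cert_tree lc_f_rc_20_1 lc_f_rc_14_1 lc_f_rc_20_1 lc_f_rc_10_3 lc_f_rc_14_3 lc_f_rc_10_3 lc_f_Cert_tree lc_f_rc_14_3 lc_f_rc_21_1 lc_f_rc_10_3 lc_f_rc_5_3 lc_f_Cert_tree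 lc_f_rc_5_1 lc_f_rc_20_1 lc_f_rc_17_1 lc_f_rc_20_1 lc_f_rc_14_3 lc_f_rc_17_3 lc_f_rc_14_1 lc_f_rc_14_3 lc_f_rc_14_3 lc_f_rc_14_3 lc_f_rc_20_1 lc_f_rc_10_3 lc_f_rc_17_3 lc_f_Cert_tree lc_f_rc_10_3 lc_f_rc_17_3 lc_f_rc_5_3 lc_f_rc_17_3 lc_f_rc_17_3 lc_f_rc_5_1 lc_f_rc_19_5 lc_f_rc_20_1 lc_f_rc_17_1 lc_f_rc_19_5 lc_f_rc_17_1 lc_f_rc_20_1 lc_f_rc_19_3 lc_f_rc_17_3 lc_f_rc_14_3 lc_f_rc_22_1 lc_f_rc_10_1 lc_f_rc_20_1 lc_f_rc_17_1 lc_f_rc_21_1 lc_f_rc_10_3 lc_f_rc_17_3 lc_f_rc_10_1 lc_f_rc_10_3 lc_f_rc_14_3 lc_f_rc_5_3) (@D3.rec (fun _ => (Cert rels S Gen.f)) lc_f_rc_21_1 lc_f_rc_17_3 lc_f_rc_14_3 lc_f_rc_20_1 lc_f_rc_17_1 lc_f_rc_14_3 lc_f_Cert_tree lc_f_rc_14_1 lc_f_rc_21_1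 lc_f_rc_10_3 lc_f_rc_14_3 lc_f_rc_14_3 lc_f_rc_17_1 lc_f_rc_20_1 lc_f_rc_21_1 lc_f_rc_20_1 lc_f_rc_21_1 lc_f_rc_14_3 lc_f_rc_14_3 lc_f_rc_14_1 lc_f_rc_19_5 lc_f_rc_17_3 lc_f_rc_5_1 lc_f_rc_10_3 lc_f_rc_21_1 lc_f_rc_17_3 lc_f_rc_14_3 lc_f_rc_17_1 lc_f_rc_17_1 lc_f_rc_10_1 lc_f_rc_14_3 lc_f_Cert_tree lc_f_rc_19_5 lc_f_rc_10_3 lc_f_rc_20_1 lc_f_rc_17_1 lc_f_rc_21_1 lc_f_rc_14_3 lc_f_rc_10_3 lc_f_Cert_tree lc_f_rc_10_3 lc_f_rc_5_1 lc_f_rc_17_3 lc_f_rc_21_1 lc_f_rc_5_1 lc_f_Cert_tree lc_f_rc_17_1 lc_f_rc_20_1 lc_f_rc_14_3 lc_f_rc_10_1 lc_f_rc_17_3 lc_f_rc_20_1 lc_f_rc_21_1 lc_f_rc_14_3 lc_f_rc_10_3 lc_f_rc_14_1 lc_f_rc_20_1 lc_f_rc_10_1 lc_f_rc_14_1 lc_f_rc_10_3 lc_f_rc_20_1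 lc_f_rc_21_1) (@D3.rec (fun _ => (Cert rels S Gen.f)) lc_f_rc_17_3 lc_f_rc_10_3 lc_f_rc_5_1 lc_f_rc_14_1 lc_f_Cert_tree lc_f_rc_10_3 lc_f_rc_17_3 lc_f_rc_17_3 lc_f_rc_21_1 lc_f_rc_17_3 lc_f_Cert_tree lc_f_rc_20_1 lc_f_rc_10_3 lc_f_rc_10_1 lc_f_rc_21_1 lc_f_rc_17_3 lc_f_rc_17_3 lc_f_rc_5_3 lc_f_rc_20_1 lc_f_rc_14_3 lc_f_rc_10_3 lc_f_rc_10_3 lc_f_rc_17_3 lc_f_rc_14_1 lc_f_rc_17_3 lc_f_rc_21_1 lc_f_Cert_tree lc_f_rc_20_1 lc_f_rc_20_1 lc_f_rc_20_1 lc_f_rc_19_1 lc_f_rc_17_3 lc_f_rc_21_1 lc_f_rc_20_1 lc_f_rc_17_3 lc_f_rc_21_1 lc_f_Cert_tree lc_f_rc_20_1 lc_f_rc_17_3 lc_f_rc_14_3 lc_f_rc_14_1 lc_f_rc_17_1 lc_f_rc_14_1 lc_f_rc_14_1 lc_f_rc_14_3 lc_f_Cert_tree lc_f_rc_20_1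 lc_f_rc_17_3 lc_f_rc_17_3 lc_f_rc_14_3 lc_f_Cert_tree lc_f_Cert_tree lc_f_rc_20_1 lc_f_rc_21_1 lc_f_rc_5_3 lc_f_rc_14_3 lc_f_Cert_tree lc_f_Cert_tree lc_f_rc_20_1 lc_f_rc_5_3 lc_f_rc_20_1 lc_f_Cert_tree) (@D3.rec (fun _ => (Cert rels S Gen.f)) lc_f_Cert_tree lc_f_Cert_tree lc_f_Cert_tree lc_f_rc_20_1 lc_f_rc_21_1 lc_f_rc_20_1 lc_f_rc_5_1 lc_f_Cert_tree lc_f_rc_5_3 lc_f_rc_21_1 lc_f_rc_14_3 lc_f_rc_10_3 lc_f_rc_19_5 lc_f_rc_17_3 lc_f_rc_21_1 lc_f_rc_20_1 lc_f_rc_10_3 lc_f_rc_10_3 lc_f_rc_10_3 lc_f_rc_17_3 lc_f_rc_17_3 lc_f_rc_19_5 lc_f_rc_17_3 lc_f_rc_17_3 lc_f_rc_17_3 lc_f_rc_21_1 lc_f_rc_14_3 lc_f_rc_10_3 lc_f_rc_17_3 lc_f_rc_17_3 lc_f_rc_14_3 lc_f_Cert_tree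 lc_f_rc_20_1 lc_f_rc_10_3 lc_f_rc_17_3 lc_f_Cert_tree lc_f_rc_20_1 lc_f_rc_21_1 lc_f_rc_14_1 lc_f_rc_17_3 lc_f_Cert_tree lc_f_rc_20_1 lc_f_rc_21_1 lc_f_rc_17_3 lc_f_rc_14_3 lc_f_Cert_tree lc_f_rc_10_1 lc_f_Cert_tree lc_f_rc_21_1 lc_f_rc_20_1 lc_f_rc_20_1 lc_f_rc_14_1 lc_f_rc_19_3 lc_f_rc_21_1 lc_f_rc_14_3 lc_f_rc_19_5 lc_f_Cert_tree lc_f_rc_10_3 lc_f_rc_14_1 lc_f_rc_19_3 lc_f_rc_20_1 lc_f_rc_21_1) (@D3.rec (fun _ => (Cert rels S Gen.f)) lc_f_rc_20_1 lc_f_rc_20_1 lc_f_rc_17_3 lc_f_rc_10_3 lc_f_rc_17_3 lc_f_Cert_tree lc_f_rc_17_3 lc_f_rc_17_3 lc_f_rc_5_3 lc_f_rc_10_1 lc_f_Cert_tree lc_f_rc_14_3 lc_f_rc_17_3 lc_f_rc_10_1 lc_f_rc_5_3 lc_f_rc_21_1 lc_f_rc_17_3 lc_f_rc_14_3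 lc_f_rc_10_3 lc_f_rc_21_1 lc_f_rc_17_3 lc_f_rc_14_3 lc_f_Cert_tree lc_f_rc_21_1 lc_f_rc_10_1 lc_f_rc_10_3 lc_f_rc_14_3 lc_f_rc_19_3 lc_f_rc_5_1 lc_f_rc_17_3 lc_f_rc_5_3 lc_f_rc_21_1 lc_f_rc_10_3 lc_f_rc_14_3 lc_f_Cert_tree lc_f_rc_14_1 lc_f_rc_14_1 lc_f_rc_20_1 lc_f_rc_21_1 lc_f_rc_17_3 lc_f_rc_14_3 lc_f_rc_22_1 lc_f_rc_17_3 lc_f_rc_17_1 lc_f_rc_5_1 lc_f_Cert_tree lc_f_rc_20_1 lc_f_rc_20_1 lc_f_rc_20_1 lc_f_Cert_tree lc_f_rc_20_1 lc_f_rc_5_1 lc_f_rc_10_3 lc_f_rc_22_1 lc_f_Cert_tree lc_f_rc_17_1 lc_f_rc_21_1 lc_f_rc_19_3 lc_f_rc_20_1 lc_f_rc_14_1 lc_f_rc_20_1 lc_f_rc_17_1) (@D3.rec (fun _ => (Cert rels S Gen.f)) lc_f_rc_14_1 lc_f_rc_17_3 lc_f_rc_14_3 lc_f_Cert_tree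 lc_f_rc_10_3 lc_f_Cert_tree lc_f_rc_14_3 lc_f_rc_21_1 lc_f_rc_20_1 lc_f_rc_5_1 lc_f_rc_14_3 lc_f_rc_10_3 lc_f_Cert_tree lc_f_rc_17_3 lc_f_Cert_tree lc_f_rc_10_1 lc_f_rc_21_1 lc_f_rc_20_1 lc_f_rc_17_3 lc_f_rc_21_1 lc_f_rc_5_1 lc_f_Cert_tree lc_f_rc_20_1 lc_f_rc_10_3 lc_f_rc_5_1 lc_f_rc_14_3 lc_f_Cert_tree lc_f_rc_17_1 lc_f_rc_10_1 lc_f_Cert_tree lc_f_rc_14_1 lc_f_rc_14_1 lc_f_rc_17_3 lc_f_rc_20_1 lc_f_rc_20_1 lc_f_rc_19_3 lc_f_rc_17_3 lc_f_rc_21_1 lc_f_rc_17_3 lc_f_Cert_tree lc_f_rc_10_3 lc_f_rc_21_1 lc_f_rc_5_3 lc_f_rc_17_3 lc_f_rc_17_1 lc_f_rc_21_1 lc_f_rc_14_1 lc_f_rc_22_1 lc_f_Cert_tree lc_f_rc_21_1 lc_f_rc_10_3 lc_f_rc_17_3 lc_f_rc_19_5 lc_f_rc_10_3 lc_f_rc_10_3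 lc_f_rc_21_1 lc_f_rc_10_3 lc_f_rc_5_1 lc_f_rc_17_3 lc_f_rc_17_3 lc_f_rc_14_1 lc_f_Cert_tree) (@D3.rec (fun _ => (Cert rels S Gen.f)) lc_f_rc_19_5 lc_f_rc_17_1 lc_f_rc_17_3 lc_f_Cert_tree lc_f_rc_10_1 lc_f_rc_17_1 lc_f_rc_5_3 lc_f_rc_5_3 lc_f_rc_5_3 lc_f_rc_20_1 lc_f_rc_17_3 lc_f_rc_21_1 lc_f_rc_19_1 lc_f_rc_14_3 lc_f_rc_17_3 lc_f_rc_14_3 lc_f_rc_19_3 lc_f_rc_20_1 lc_f_rc_5_3 lc_f_rc_5_3 lc_f_Cert_tree lc_f_rc_14_3 lc_f_Cert_tree lc_f_rc_14_3 lc_f_rc_14_3 lc_f_rc_20_1 lc_f_rc_20_1 lc_f_rc_5_3 lc_f_rc_19_3 lc_f_Cert_tree lc_f_rc_20_1 lc_f_rc_5_3 lc_f_Cert_tree lc_f_rc_20_1 lc_f_rc_10_3 lc_f_rc_5_1 lc_f_rc_20_1 lc_f_rc_10_1 lc_f_Cert_tree lc_f_rc_20_1 lc_f_rc_22_1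 lc_f_rc_20_1 lc_f_Cert_tree lc_f_rc_21_1 lc_f_rc_10_3 lc_f_rc_17_3 lc_f_rc_17_1 lc_f_rc_21_1 lc_f_Cert_tree lc_f_rc_20_1 lc_f_rc_17_3 lc_f_rc_14_3 lc_f_rc_19_3 lc_f_rc_10_1 lc_f_rc_5_1 lc_f_rc_10_1 lc_f_rc_14_1 lc_f_rc_21_1 lc_f_rc_17_3 lc_f_rc_21_1 lc_f_rc_21_1 lc_f_Cert_tree) (@D3.rec (fun _ => (Cert rels S Gen.f)) lc_f_rc_17_3 lc_f_rc_10_3 lc_f_rc_20_1 lc_f_Cert_tree lc_f_rc_10_1 lc_f_rc_20_1 lc_f_rc_17_3 lc_f_Cert_tree lc_f_rc_14_1 lc_f_rc_14_3 lc_f_Cert_tree lc_f_rc_20_1 lc_f_rc_5_3 lc_f_rc_10_3 lc_f_rc_14_3 lc_f_Cert_tree lc_f_rc_17_3 lc_f_Cert_tree lc_f_rc_10_1 lc_f_rc_5_1 lc_f_rc_20_1 lc_f_rc_21_1 lc_f_rc_14_3 lc_f_rc_10_1 lc_f_rc_21_1 lc_f_rc_14_1 lc_f_rc_5_3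 lc_f_rc_17_3 lc_f_rc_17_1 lc_f_Cert_tree lc_f_rc_17_3 lc_f_rc_10_1 lc_f_rc_20_1 lc_f_rc_10_3 lc_f_rc_17_1 lc_f_rc_21_1 lc_f_rc_19_3 lc_f_rc_10_1 lc_f_rc_10_3 lc_f_rc_14_1 lc_f_rc_21_1 lc_f_rc_20_1 lc_f_rc_20_1 lc_f_rc_19_1 lc_f_rc_20_1 lc_f_rc_10_1 lc_f_rc_21_1 lc_f_rc_17_3 lc_f_rc_5_3 lc_f_rc_14_3 lc_f_Cert_tree lc_f_rc_20_1 lc_f_rc_5_1 lc_f_rc_17_3 lc_f_rc_21_1 lc_f_rc_20_1 lc_f_rc_17_3 lc_f_rc_14_3 lc_f_rc_19_5 lc_f_rc_10_3 lc_f_rc_17_1 lc_f_rc_21_1) (@D3.rec (fun _ => (Cert rels S Gen.f)) lc_f_rc_14_3 lc_f_Cert_tree lc_f_rc_10_3 lc_f_rc_19_5 lc_f_rc_20_1 lc_f_rc_19_5 lc_f_rc_19_5 lc_f_rc_19_5 lc_f_rc_22_1 lc_f_rc_19_3 lc_f_rc_21_1 lc_f_rc_17_1 lc_f_rc_19_3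 lc_f_rc_14_3 lc_f_rc_20_1 lc_f_rc_14_3 lc_f_rc_14_3 lc_f_rc_5_3 lc_f_rc_22_1 lc_f_Cert_tree lc_f_rc_14_3 lc_f_Cert_tree lc_f_rc_17_1 lc_f_rc_17_3 lc_f_rc_20_1 lc_f_rc_10_3 lc_f_rc_17_3 lc_f_rc_5_3 lc_f_Cert_tree lc_f_rc_21_1 lc_f_rc_20_1 lc_f_rc_10_3 lc_f_rc_20_1 lc_f_rc_17_3 lc_f_rc_17_3 lc_f_rc_14_3 lc_f_rc_10_3 lc_f_rc_17_3 lc_f_rc_10_3 lc_f_rc_17_3 lc_f_rc_10_3 lc_f_rc_17_3 lc_f_rc_5_1 lc_f_rc_5_3 lc_f_rc_20_1 lc_f_rc_14_3 lc_f_rc_5_1 lc_f_rc_14_1 lc_f_rc_20_1 lc_f_rc_17_3 lc_f_rc_20_1 lc_f_rc_20_1 lc_f_rc_20_1 lc_f_rc_14_3 lc_f_Cert_tree lc_f_rc_10_3 lc_f_Cert_tree lc_f_rc_20_1 lc_f_rc_10_1 lc_f_rc_19_3 lc_f_rc_17_3 lc_f_rc_20_1) (@D3.rec (fun _ => (Cert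 rels S Gen.f)) lc_f_rc_10_3 lc_f_rc_14_3 lc_f_rc_19_3 lc_f_rc_10_3 lc_f_rc_17_3 lc_f_rc_20_1 lc_f_rc_10_1 lc_f_rc_17_1 lc_f_rc_20_1 lc_f_rc_5_1 lc_f_rc_20_1 lc_f_rc_21_1 lc_f_rc_10_3 lc_f_rc_17_1 lc_f_rc_20_1 lc_f_rc_10_3 lc_f_rc_20_1 lc_f_rc_17_3 lc_f_rc_20_1 lc_f_rc_20_1 lc_f_rc_17_3 lc_f_rc_17_3 lc_f_rc_10_3 lc_f_rc_5_1 lc_f_rc_21_1 lc_f_rc_17_3 lc_f_rc_14_3 lc_f_rc_10_3 lc_f_Cert_tree lc_f_rc_10_3 lc_f_rc_10_3 lc_f_rc_10_3 lc_f_rc_21_1 lc_f_rc_21_1 lc_f_rc_19_5 lc_f_rc_5_3 lc_f_rc_20_1 lc_f_rc_10_3 lc_f_rc_20_1 lc_f_rc_14_3 lc_f_rc_10_1 lc_f_rc_10_3 lc_f_rc_10_1 lc_f_rc_10_3 lc_f_rc_14_1 lc_f_rc_17_3 lc_f_rc_20_1 lc_f_Cert_tree lc_f_rc_10_3 lc_f_rc_10_1 lc_f_rc_20_1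 lc_f_rc_20_1 lc_f_rc_20_1 lc_f_rc_20_1 lc_f_rc_17_3 lc_f_rc_14_3 lc_f_Cert_tree lc_f_rc_14_3 lc_f_Cert_tree lc_f_Cert_tree lc_f_rc_20_1 lc_f_rc_19_3) (@D3.rec (fun _ => (Cert rels S Gen.f)) lc_f_rc_5_3 lc_f_rc_10_3 lc_f_rc_17_3 lc_f_rc_17_1 lc_f_rc_21_1 lc_f_rc_14_3 lc_f_rc_5_1 lc_f_rc_21_1 lc_f_rc_10_3 lc_f_rc_14_1 lc_f_Cert_tree lc_f_rc_22_1 lc_f_rc_10_1 lc_f_rc_17_1 lc_f_rc_17_1 lc_f_rc_17_3 lc_f_rc_20_1 lc_f_rc_17_3 lc_f_rc_10_3 lc_f_rc_21_1 lc_f_rc_17_3 lc_f_rc_5_1 lc_f_rc_14_3 lc_f_Cert_tree lc_f_rc_22_1 lc_f_rc_14_3 lc_f_rc_10_3 lc_f_rc_10_3 lc_f_Cert_tree lc_f_rc_19_5 lc_f_rc_20_1 lc_f_Cert_tree lc_f_rc_20_1 lc_f_rc_17_3 lc_f_rc_14_3 lc_f_Cert_tree lc_f_rc_22_1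 lc_f_rc_22_1 lc_f_Cert_tree lc_f_rc_21_1 lc_f_rc_20_1 lc_f_rc_20_1 lc_f_rc_17_1 lc_f_rc_14_3 lc_f_rc_17_1 lc_f_rc_10_3 lc_f_Cert_tree lc_f_rc_14_3 lc_f_rc_21_1 lc_f_rc_20_1 lc_f_rc_19_5 lc_f_rc_19_3 lc_f_rc_21_1 lc_f_rc_17_1 lc_f_rc_5_1 lc_f_rc_10_3 lc_f_rc_20_1 lc_f_rc_19_3 lc_f_rc_10_1 lc_f_rc_21_1 lc_f_rc_5_1 lc_f_rc_10_3) (@D3.rec (fun _ => (Cert rels S Gen.f)) lc_f_rc_10_3 lc_f_rc_10_3 lc_f_rc_5_3 lc_f_rc_10_1 lc_f_rc_21_1 lc_f_rc_19_1 lc_f_rc_5_1 lc_f_rc_10_3 lc_f_Cert_tree lc_f_rc_20_1 lc_f_rc_20_1 lc_f_rc_10_3 lc_f_rc_21_1 lc_f_rc_10_3 lc_f_rc_19_5 lc_f_rc_14_1 lc_f_rc_21_1 lc_f_rc_17_1 lc_f_rc_10_3 lc_f_rc_17_1 lc_f_Cert_tree lc_f_rc_17_3 lc_f_rc_14_3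 lc_f_Cert_tree lc_f_rc_10_3 lc_f_rc_22_1 lc_f_rc_17_3 lc_f_rc_17_1 lc_f_rc_20_1 lc_f_rc_20_1 lc_f_rc_10_3 lc_f_rc_5_3 lc_f_rc_10_1 lc_f_rc_5_3 lc_f_rc_5_1 lc_f_rc_20_1 lc_f_rc_10_1 lc_f_Cert_tree lc_f_rc_21_1 lc_f_rc_10_3 lc_f_Cert_tree lc_f_rc_20_1 lc_f_rc_17_3 lc_f_Cert_tree lc_f_rc_17_1 lc_f_Cert_tree lc_f_rc_21_1 lc_f_rc_20_1 lc_f_rc_20_1 lc_f_rc_17_1 lc_f_Cert_tree lc_f_rc_14_3 lc_f_rc_17_3 lc_f_rc_14_3 lc_f_rc_14_3 lc_f_rc_14_1 lc_f_rc_20_1 lc_f_rc_10_3 lc_f_rc_5_1 lc_f_rc_21_1 lc_f_rc_10_3 lc_f_rc_17_3) (@D3.rec (fun _ => (Cert rels S Gen.f)) lc_f_rc_10_1 lc_f_rc_5_1 lc_f_rc_14_3 lc_f_Cert_tree lc_f_rc_20_1 lc_f_rc_17_3 lc_f_rc_14_3 lc_f_rc_10_3 lc_f_rc_10_3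 lc_f_rc_5_3 lc_f_rc_5_3 lc_f_rc_19_3 lc_f_rc_21_1 lc_f_Cert_tree lc_f_rc_20_1 lc_f_rc_21_1 lc_f_Cert_tree lc_f_rc_20_1 lc_f_rc_10_3 lc_f_rc_21_1 lc_f_Cert_tree lc_f_rc_20_1 lc_f_rc_19_3 lc_f_rc_14_3 lc_f_Cert_tree lc_f_rc_14_3 lc_f_Cert_tree lc_f_rc_10_3 lc_f_rc_10_3 lc_f_rc_5_1 lc_f_rc_20_1 lc_f_rc_10_3 lc_f_rc_20_1 lc_f_rc_14_3 lc_f_rc_17_3 lc_f_rc_10_3 lc_f_rc_19_5 lc_f_rc_17_3 lc_f_rc_10_1 lc_f_rc_22_1 lc_f_rc_17_1 lc_f_rc_17_1 lc_f_rc_10_3 lc_f_rc_14_1 lc_f_rc_17_3 lc_f_rc_21_1 lc_f_Cert_tree lc_f_rc_20_1 lc_f_rc_17_1 lc_f_rc_10_3 lc_f_rc_17_3 lc_f_Cert_tree lc_f_rc_20_1 lc_f_rc_20_1 lc_f_rc_10_3 lc_f_rc_14_3 lc_f_rc_10_1 lc_f_rc_20_1 lc_f_rc_19_3 lc_f_rc_20_1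 lc_f_rc_19_3 lc_f_rc_10_3) (@D3.rec (fun _ => (Cert rels S Gen.f)) lc_f_rc_17_3 lc_f_rc_19_3 lc_f_rc_14_3 lc_f_rc_14_3 lc_f_Cert_tree lc_f_rc_20_1 lc_f_rc_10_3 lc_f_rc_17_3 lc_f_rc_5_3 lc_f_rc_20_1 lc_f_rc_20_1 lc_f_rc_14_3 lc_f_rc_17_3 lc_f_rc_17_3 lc_f_Cert_tree lc_f_rc_20_1 lc_f_rc_5_3 lc_f_rc_5_1 lc_f_rc_14_3 lc_f_rc_10_3 lc_f_rc_21_1 lc_f_rc_17_3 lc_f_rc_17_1 lc_f_rc_21_1 lc_f_rc_10_3 lc_f_rc_21_1 lc_f_rc_14_3 lc_f_rc_17_3 lc_f_rc_20_1 lc_f_rc_17_3 lc_f_rc_14_3 lc_f_Cert_tree lc_f_rc_14_3 lc_f_rc_21_1 lc_f_rc_10_3 lc_f_rc_10_3 lc_f_rc_19_5 lc_f_rc_19_3 lc_f_rc_20_1 lc_f_rc_10_1 lc_f_rc_19_5 lc_f_Cert_tree lc_f_rc_14_3 lc_f_rc_14_3 lc_f_rc_14_3 lc_f_Cert_tree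 lc_f_Cert_tree lc_f_rc_20_1 lc_f_rc_19_3 lc_f_rc_21_1 lc_f_rc_17_3 lc_f_Cert_tree lc_f_rc_14_3 lc_f_rc_21_1 lc_f_rc_22_1 lc_f_rc_20_1 lc_f_rc_21_1 lc_f_rc_20_1 lc_f_rc_5_3 lc_f_rc_14_3 lc_f_rc_21_1 lc_f_rc_19_5) (@D3.rec (fun _ => (Cert rels S Gen.f)) lc_f_rc_21_1 lc_f_rc_20_1 lc_f_rc_10_1 lc_f_rc_19_3 lc_f_rc_19_5 lc_f_rc_20_1 lc_f_rc_20_1 lc_f_rc_17_3 lc_f_rc_5_3 lc_f_rc_5_3 lc_f_rc_20_1 lc_f_rc_10_3 lc_f_rc_10_3 lc_f_rc_20_1 lc_f_rc_10_1 lc_f_Cert_tree lc_f_rc_21_1 lc_f_rc_5_3 lc_f_rc_5_3 lc_f_rc_20_1 lc_f_rc_10_3 lc_f_rc_20_1 lc_f_rc_19_3 lc_f_rc_19_3 lc_f_rc_17_3 lc_f_rc_21_1 lc_f_rc_14_3 lc_f_rc_17_3 lc_f_rc_14_3 lc_f_Cert_tree lc_f_rc_5_1 lc_f_rc_5_3 lc_f_rc_20_1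 lc_f_rc_21_1 lc_f_rc_14_1 lc_f_rc_17_1 lc_f_rc_20_1 lc_f_Cert_tree lc_f_rc_10_3 lc_f_rc_14_1 lc_f_rc_5_1 lc_f_rc_14_3 lc_f_Cert_tree lc_f_rc_21_1 lc_f_rc_20_1 lc_f_rc_20_1 lc_f_rc_20_1 lc_f_Cert_tree lc_f_rc_14_1 lc_f_Cert_tree lc_f_rc_17_3 lc_f_rc_17_3 lc_f_rc_20_1 lc_f_Cert_tree lc_f_rc_21_1 lc_f_rc_17_3 lc_f_Cert_tree lc_f_rc_20_1 lc_f_rc_14_3 lc_f_rc_21_1 lc_f_rc_20_1 lc_f_rc_20_1) (@D3.rec (fun _ => (Cert rels S Gen.f)) lc_f_rc_21_1 lc_f_Cert_tree lc_f_rc_10_1 lc_f_rc_17_3 lc_f_rc_22_1 lc_f_Cert_tree lc_f_rc_10_3 lc_f_rc_10_3 lc_f_rc_5_3 lc_f_rc_14_3 lc_f_rc_14_3 lc_f_rc_14_3 lc_f_rc_22_1 lc_f_rc_20_1 lc_f_rc_10_3 lc_f_rc_14_3 lc_f_rc_10_3 lc_f_rc_20_1 lc_f_rc_17_1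 lc_f_rc_17_1 lc_f_rc_19_3 lc_f_rc_17_3 lc_f_rc_17_3 lc_f_rc_10_3 lc_f_rc_19_3 lc_f_rc_21_1 lc_f_rc_20_1 lc_f_rc_20_1 lc_f_rc_17_3 lc_f_rc_17_3 lc_f_rc_20_1 lc_f_rc_10_3 lc_f_rc_17_3 lc_f_rc_14_3 lc_f_rc_17_3 lc_f_rc_14_3 lc_f_rc_21_1 lc_f_rc_14_3 lc_f_rc_17_3 lc_f_rc_22_1 lc_f_Cert_tree lc_f_rc_10_1 lc_f_rc_20_1 lc_f_Cert_tree lc_f_Cert_tree lc_f_rc_22_1 lc_f_rc_14_1 lc_f_rc_17_3 lc_f_rc_21_1 lc_f_rc_10_3 lc_f_rc_17_3 lc_f_Cert_tree lc_f_rc_20_1 lc_f_rc_14_3 lc_f_Cert_tree lc_f_Cert_tree lc_f_rc_10_3 lc_f_Cert_tree lc_f_rc_5_3 lc_f_rc_10_3 lc_f_rc_17_3 lc_f_rc_14_3) (@D3.rec (fun _ => (Cert rels S Gen.f)) lc_f_rc_19_3 lc_f_rc_21_1 lc_f_rc_17_3 lc_f_rc_21_1 lc_f_rc_17_3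 lc_f_rc_22_1 lc_f_rc_20_1 lc_f_Cert_tree lc_f_rc_14_1 lc_f_Cert_tree lc_f_rc_14_3 lc_f_rc_19_3 lc_f_rc_17_1 lc_f_rc_14_3 lc_f_rc_22_1 lc_f_rc_14_3 lc_f_rc_17_3 lc_f_rc_21_1 lc_f_rc_21_1 lc_f_rc_5_3 lc_f_rc_21_1 lc_f_Cert_tree lc_f_rc_10_3 lc_f_rc_5_3 lc_f_rc_10_3 lc_f_rc_10_3 lc_f_rc_19_3 lc_f_rc_14_3 lc_f_rc_14_3 lc_f_rc_20_1 lc_f_rc_10_3 lc_f_rc_14_3 lc_f_Cert_tree lc_f_rc_17_3 lc_f_rc_14_3 lc_f_Cert_tree lc_f_rc_5_1 lc_f_rc_21_1 lc_f_rc_20_1 lc_f_rc_20_1 lc_f_rc_19_5 lc_f_rc_19_1 lc_f_rc_20_1 lc_f_rc_20_1 lc_f_rc_20_1 lc_f_rc_5_3 lc_f_rc_10_3 lc_f_rc_22_1 lc_f_rc_19_3 lc_f_rc_5_3 lc_f_rc_20_1 lc_f_rc_21_1 lc_f_Cert_tree lc_f_rc_21_1 lc_f_rc_10_3 lc_f_rc_17_3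 lc_f_rc_14_3 lc_f_rc_5_3 lc_f_rc_17_3 lc_f_rc_21_1 lc_f_rc_14_3 lc_f_Cert_tree) (@D3.rec (fun _ => (Cert rels S Gen.f)) lc_f_rc_17_3 lc_f_Cert_tree lc_f_rc_10_1 lc_f_rc_10_3 lc_f_rc_20_1 lc_f_rc_20_1 lc_f_rc_20_1 lc_f_rc_17_1 lc_f_rc_14_3 lc_f_rc_21_1 lc_f_rc_21_1 lc_f_rc_17_3 lc_f_rc_10_3 lc_f_rc_5_1 lc_f_rc_22_1 lc_f_rc_20_1 lc_f_rc_10_1 lc_f_rc_14_3 lc_f_rc_17_3 lc_f_rc_17_3 lc_f_Cert_tree lc_f_rc_20_1 lc_f_rc_21_1 lc_f_rc_20_1 lc_f_rc_10_3 lc_f_rc_14_3 lc_f_Cert_tree lc_f_rc_20_1 lc_f_rc_20_1 lc_f_Cert_tree lc_f_rc_5_3 lc_f_rc_10_3 lc_f_rc_5_1 lc_f_rc_5_1 lc_f_rc_14_1 lc_f_rc_20_1 lc_f_rc_5_3 lc_f_rc_14_3 lc_f_rc_21_1 lc_f_rc_10_3 lc_f_rc_20_1 lc_f_rc_17_3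 lc_f_rc_17_1 lc_f_rc_20_1 lc_f_rc_17_3 lc_f_rc_14_3 lc_f_Cert_tree lc_f_rc_17_3 lc_f_rc_20_1 lc_f_rc_21_1 lc_f_rc_20_1 lc_f_rc_10_3 lc_f_rc_14_3 lc_f_rc_17_1 lc_f_Cert_tree lc_f_rc_14_1 lc_f_rc_5_3 lc_f_rc_17_3 lc_f_rc_17_3 lc_f_Cert_tree lc_f_rc_14_3 lc_f_Cert_tree) (@D3.rec (fun _ => (Cert rels S Gen.f)) lc_f_rc_10_3 lc_f_rc_5_3 lc_f_rc_21_1 lc_f_rc_5_3 lc_f_rc_14_3 lc_f_rc_5_3 lc_f_rc_10_3 lc_f_Cert_tree lc_f_rc_5_1 lc_f_rc_5_3 lc_f_rc_14_1 lc_f_rc_17_3 lc_f_rc_22_1 lc_f_rc_17_1 lc_f_rc_10_3 lc_f_rc_14_3 lc_f_rc_5_3 lc_f_rc_10_3 lc_f_Cert_tree lc_f_rc_5_1 lc_f_rc_17_3 lc_f_rc_17_1 lc_f_rc_5_3 lc_f_rc_5_3 lc_f_rc_20_1 lc_f_rc_14_3 lc_f_rc_17_3 lc_f_Cert_tree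 lc_f_rc_14_1 lc_f_rc_10_1 lc_f_rc_20_1 lc_f_rc_20_1 lc_f_rc_20_1 lc_f_rc_20_1 lc_f_rc_14_3 lc_f_rc_14_3 lc_f_rc_20_1 lc_f_rc_21_1 lc_f_rc_20_1 lc_f_rc_20_1 lc_f_rc_19_1 lc_f_rc_5_1 lc_f_rc_20_1 lc_f_rc_17_3 lc_f_rc_21_1 lc_f_rc_20_1 lc_f_Cert_tree lc_f_rc_17_3 lc_f_Cert_tree lc_f_rc_20_1 lc_f_rc_21_1 lc_f_rc_20_1 lc_f_rc_20_1 lc_f_rc_20_1 lc_f_rc_20_1 lc_f_rc_22_1 lc_f_rc_21_1 lc_f_rc_21_1 lc_f_rc_20_1 lc_f_rc_20_1 lc_f_rc_17_3 lc_f_rc_14_3) (@D3.rec (fun _ => (Cert rels S Gen.f)) lc_f_rc_17_1 lc_f_rc_10_3 lc_f_rc_10_3 lc_f_rc_20_1 lc_f_rc_21_1 lc_f_rc_20_1 lc_f_rc_5_3 lc_f_rc_14_3 lc_f_Cert_tree lc_f_rc_10_3 lc_f_rc_14_1 lc_f_rc_17_3 lc_f_rc_20_1 lc_f_rc_10_3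 lc_f_rc_14_3 lc_f_rc_20_1 lc_f_rc_20_1 lc_f_rc_14_1 lc_f_rc_17_3 lc_f_rc_22_1 lc_f_rc_10_3 lc_f_rc_17_1 lc_f_rc_19_3 lc_f_Cert_tree lc_f_rc_20_1 lc_f_rc_5_1 lc_f_rc_20_1 lc_f_rc_20_1 lc_f_rc_14_3 lc_f_rc_14_1 lc_f_rc_14_1 lc_f_rc_20_1 lc_f_rc_19_5 lc_f_rc_5_1 lc_f_rc_19_1 lc_f_rc_17_1 lc_f_rc_10_3 lc_f_rc_14_3 lc_f_rc_20_1 lc_f_rc_21_1 lc_f_rc_20_1 lc_f_rc_10_3 lc_f_rc_14_1 lc_f_rc_19_5 lc_f_Cert_tree lc_f_rc_20_1 lc_f_rc_5_3 lc_f_rc_19_1 lc_f_rc_10_3 lc_f_rc_10_3 lc_f_Cert_tree lc_f_rc_5_3 lc_f_Cert_tree lc_f_rc_20_1 lc_f_rc_17_3 lc_f_rc_17_3 lc_f_Cert_tree lc_f_rc_19_3 lc_f_rc_10_3 lc_f_rc_20_1 lc_f_rc_10_3 lc_f_rc_5_1) (@D3.rec (fun _ => (Cert rels S Gen.f))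 lc_f_rc_10_1 lc_f_rc_10_3 lc_f_Cert_tree lc_f_rc_10_3 lc_f_rc_21_1 lc_f_rc_10_3 lc_f_rc_10_3 lc_f_rc_20_1 lc_f_rc_17_3 lc_f_rc_5_1 lc_f_rc_10_3 lc_f_rc_14_3 lc_f_rc_20_1 lc_f_rc_21_1 lc_f_rc_21_1 lc_f_rc_14_3 lc_f_rc_20_1 lc_f_rc_17_3 lc_f_rc_17_1 lc_f_rc_14_3 lc_f_Cert_tree lc_f_Cert_tree lc_f_rc_20_1 lc_f_rc_17_3 lc_f_rc_19_3 lc_f_rc_20_1 lc_f_rc_21_1 lc_f_rc_21_1 lc_f_rc_19_3 lc_f_rc_17_3 lc_f_rc_5_1 lc_f_rc_5_1 lc_f_rc_21_1 lc_f_rc_14_3 lc_f_rc_14_3 lc_f_rc_5_1 lc_f_rc_5_3 lc_f_rc_17_3 lc_f_rc_10_3 lc_f_rc_20_1 lc_f_rc_5_1 lc_f_rc_14_3 lc_f_rc_17_3 lc_f_rc_10_3 lc_f_rc_19_3 lc_f_rc_19_1 lc_f_rc_20_1 lc_f_rc_20_1 lc_f_rc_5_3 lc_f_rc_20_1 lc_f_rc_5_3 lc_f_Cert_tree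 lc_f_Cert_tree lc_f_rc_20_1 lc_f_rc_20_1 lc_f_rc_20_1 lc_f_rc_14_3 lc_f_rc_5_3 lc_f_rc_17_3 lc_f_rc_5_1 lc_f_rc_19_3 lc_f_rc_14_1) (@D3.rec (fun _ => (Cert rels S Gen.f)) lc_f_rc_14_1 lc_f_rc_21_1 lc_f_rc_20_1 lc_f_rc_17_3 lc_f_rc_21_1 lc_f_rc_19_3 lc_f_rc_17_3 lc_f_rc_19_3 lc_f_rc_10_3 lc_f_Cert_tree lc_f_rc_5_1 lc_f_rc_21_1 lc_f_rc_10_3 lc_f_rc_20_1 lc_f_rc_5_1 lc_f_rc_14_3 lc_f_rc_10_3 lc_f_rc_10_1 lc_f_rc_22_1 lc_f_rc_20_1 lc_f_rc_21_1 lc_f_rc_5_3 lc_f_rc_10_3 lc_f_rc_19_1 lc_f_rc_17_3 lc_f_rc_21_1 lc_f_Cert_tree lc_f_rc_20_1 lc_f_rc_17_3 lc_f_rc_14_3 lc_f_rc_14_3 lc_f_rc_21_1 lc_f_rc_20_1 lc_f_rc_14_3 lc_f_rc_19_3 lc_f_rc_10_1 lc_f_rc_17_3 lc_f_rc_20_1 lc_f_rc_21_1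 lc_f_rc_17_3 lc_f_rc_20_1 lc_f_rc_14_3 lc_f_rc_17_1 lc_f_rc_10_3 lc_f_rc_14_3 lc_f_Cert_tree lc_f_rc_20_1 lc_f_rc_14_3 lc_f_rc_10_3 lc_f_rc_14_3 lc_f_rc_20_1 lc_f_rc_10_1 lc_f_Cert_tree lc_f_Cert_tree lc_f_rc_20_1 lc_f_rc_19_3 lc_f_rc_21_1 lc_f_rc_20_1 lc_f_rc_19_1 lc_f_rc_17_3 lc_f_rc_14_3 lc_f_Cert_tree) (@D3.rec (fun _ => (Cert rels S Gen.f)) lc_f_rc_21_1 lc_f_Cert_tree lc_f_rc_20_1 lc_f_rc_22_1 lc_f_Cert_tree lc_f_rc_20_1 lc_f_rc_21_1 lc_f_rc_20_1 lc_f_rc_5_1 lc_f_rc_10_3 lc_f_rc_17_3 lc_f_Cert_tree lc_f_rc_14_3 lc_f_rc_21_1 lc_f_Cert_tree lc_f_rc_20_1 lc_f_rc_10_3 lc_f_rc_14_3 lc_f_rc_14_3 lc_f_rc_5_1 lc_f_rc_17_3 lc_f_rc_17_3 lc_f_rc_19_1 lc_f_rc_10_3 lc_f_rc_17_3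 lc_f_rc_17_3 lc_f_rc_17_1 lc_f_rc_21_1 lc_f_rc_20_1 lc_f_rc_17_3 lc_f_rc_21_1 lc_f_rc_10_3 lc_f_rc_17_3 lc_f_rc_21_1 lc_f_rc_17_3 lc_f_rc_14_3 lc_f_rc_17_3 lc_f_Cert_tree lc_f_rc_21_1 lc_f_rc_20_1 lc_f_rc_17_3 lc_f_rc_17_3 lc_f_rc_19_5 lc_f_rc_20_1 lc_f_rc_17_3 lc_f_rc_14_3 lc_f_rc_14_1 lc_f_rc_20_1 lc_f_rc_17_3 lc_f_rc_22_1 lc_f_rc_21_1 lc_f_rc_21_1 lc_f_rc_20_1 lc_f_Cert_tree lc_f_rc_20_1 lc_f_rc_17_3 lc_f_rc_14_3 lc_f_rc_20_1 lc_f_rc_14_3 lc_f_rc_14_3 lc_f_rc_14_3 lc_f_rc_17_3)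
def ce_f_15 : D2 → D3 → (Cert rels S Gen.f) := @D2.rec (fun _ => D3 → (Cert rels S Gen.f)) (@D3.rec (fun _ => (Cert rels S Gen.f)) lc_f_rc_19_3 lc_f_rc_14_3 lc_f_rc_20_1 lc_f_rc_20_1 lc_f_rc_19_5 lc_f_Cert_tree lc_f_rc_14_3 lc_f_rc_20_1 lc_f_rc_19_1 lc_f_rc_20_1 lc_f_rc_14_1 lc_f_rc_17_1 lc_f_rc_20_1 lc_f_rc_20_1 lc_f_rc_10_3 lc_f_rc_14_3 lc_f_rc_10_3 lc_f_rc_20_1 lc_f_rc_17_3 lc_f_rc_14_1 lc_f_rc_21_1 lc_f_rc_5_3 lc_f_rc_17_3 lc_f_Cert_tree lc_f_rc_21_1 lc_f_rc_17_3 lc_f_rc_14_3 lc_f_rc_20_1 lc_f_rc_14_3 lc_f_rc_20_1 lc_f_rc_14_3 lc_f_rc_17_3 lc_f_rc_10_1 lc_f_rc_22_1 lc_f_rc_21_1 lc_f_rc_10_3 lc_f_rc_17_3 lc_f_rc_5_1 lc_f_rc_10_3 lc_f_rc_17_3 lc_f_Cert_tree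 lc_f_rc_5_1 lc_f_rc_14_3 lc_f_rc_10_1 lc_f_rc_17_3 lc_f_rc_21_1 lc_f_rc_17_3 lc_f_Cert_tree lc_f_rc_5_1 lc_f_rc_14_3 lc_f_rc_20_1 lc_f_rc_20_1 lc_f_rc_17_1 lc_f_rc_14_3 lc_f_rc_10_3 lc_f_rc_17_3 lc_f_rc_14_3 lc_f_rc_10_3 lc_f_rc_14_3 lc_f_rc_5_3 lc_f_rc_14_3 lc_f_rc_21_1) (@D3.rec (fun _ => (Cert rels S Gen.f)) lc_f_rc_17_3 lc_f_rc_19_5 lc_f_rc_20_1 lc_f_rc_14_3 lc_f_Cert_tree lc_f_rc_10_3 lc_f_rc_20_1 lc_f_Cert_tree lc_f_rc_21_1 lc_f_rc_5_1 lc_f_rc_10_3 lc_f_rc_20_1 lc_f_Cert_tree lc_f_rc_19_3 lc_f_rc_10_3 lc_f_rc_17_3 lc_f_rc_20_1 lc_f_rc_10_3 lc_f_rc_19_3 lc_f_rc_10_3 lc_f_rc_20_1 lc_f_rc_10_3 lc_f_rc_17_3 lc_f_Cert_tree lc_f_rc_10_3 lc_f_rc_21_1 lc_f_rc_20_1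 lc_f_rc_10_3 lc_f_rc_17_3 lc_f_Cert_tree lc_f_rc_10_3 lc_f_rc_17_3 lc_f_rc_5_3 lc_f_rc_5_1 lc_f_rc_14_3 lc_f_rc_17_3 lc_f_rc_14_3 lc_f_Cert_tree lc_f_rc_5_3 lc_f_rc_14_3 lc_f_rc_14_3 lc_f_rc_21_1 lc_f_Cert_tree lc_f_rc_20_1 lc_f_rc_21_1 lc_f_rc_10_3 lc_f_Cert_tree lc_f_rc_20_1 lc_f_rc_21_1 lc_f_rc_10_3 lc_f_rc_14_1 lc_f_rc_20_1 lc_f_rc_21_1 lc_f_rc_10_1 lc_f_rc_5_3 lc_f_rc_17_3 lc_f_Cert_tree lc_f_Cert_tree lc_f_rc_14_3 lc_f_rc_5_1 lc_f_Cert_tree lc_f_rc_20_1) (@D3.rec (fun _ => (Cert rels S Gen.f)) lc_f_rc_20_1 lc_f_rc_20_1 lc_f_rc_20_1 lc_f_rc_20_1 lc_f_rc_21_1 lc_f_rc_14_3 lc_f_rc_10_3 lc_f_rc_10_3 lc_f_Cert_tree lc_f_rc_21_1 lc_f_rc_14_3 lc_f_rc_20_1 lc_f_rc_10_3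 lc_f_rc_20_1 lc_f_rc_21_1 lc_f_rc_21_1 lc_f_rc_20_1 lc_f_rc_10_3 lc_f_rc_20_1 lc_f_rc_5_1 lc_f_rc_10_3 lc_f_rc_14_3 lc_f_rc_10_3 lc_f_Cert_tree lc_f_Cert_tree lc_f_rc_21_1 lc_f_rc_14_3 lc_f_Cert_tree lc_f_rc_20_1 lc_f_rc_14_3 lc_f_rc_10_3 lc_f_rc_21_1 lc_f_rc_14_3 lc_f_rc_5_1 lc_f_rc_14_3 lc_f_rc_14_3 lc_f_rc_17_3 lc_f_rc_17_3 lc_f_Cert_tree lc_f_rc_17_1 lc_f_rc_20_1 lc_f_rc_14_1 lc_f_rc_17_3 lc_f_rc_10_3 lc_f_rc_10_3 lc_f_Cert_tree lc_f_Cert_tree lc_f_Cert_tree lc_f_rc_20_1 lc_f_rc_10_3 lc_f_rc_17_3 lc_f_rc_14_1 lc_f_rc_20_1 lc_f_rc_21_1 lc_f_rc_21_1 lc_f_rc_17_3 lc_f_rc_5_1 lc_f_rc_17_3 lc_f_rc_10_1 lc_f_rc_10_3 lc_f_rc_14_3 lc_f_rc_10_3) (@D3.rec (fun _ =>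 (Cert rels S Gen.f)) lc_f_Cert_tree lc_f_rc_10_3 lc_f_rc_21_1 lc_f_rc_10_1 lc_f_rc_14_3 lc_f_rc_20_1 lc_f_rc_14_3 lc_f_rc_14_3 lc_f_rc_14_3 lc_f_rc_17_3 lc_f_rc_21_1 lc_f_rc_21_1 lc_f_rc_19_5 lc_f_rc_14_3 lc_f_Cert_tree lc_f_rc_14_3 lc_f_rc_5_1 lc_f_rc_22_1 lc_f_rc_20_1 lc_f_rc_19_3 lc_f_rc_14_3 lc_f_rc_19_5 lc_f_rc_19_5 lc_f_rc_14_3 lc_f_rc_21_1 lc_f_rc_17_3 lc_f_rc_21_1 lc_f_rc_17_3 lc_f_rc_20_1 lc_f_rc_20_1 lc_f_rc_20_1 lc_f_rc_19_3 lc_f_rc_17_3 lc_f_rc_22_1 lc_f_rc_19_1 lc_f_rc_10_3 lc_f_rc_17_3 lc_f_rc_21_1 lc_f_rc_14_1 lc_f_rc_14_3 lc_f_rc_17_1 lc_f_rc_17_3 lc_f_rc_17_3 lc_f_rc_17_3 lc_f_rc_10_3 lc_f_rc_21_1 lc_f_rc_21_1 lc_f_rc_20_1 lc_f_rc_17_3 lc_f_rc_14_3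 lc_f_Cert_tree lc_f_rc_17_3 lc_f_rc_10_1 lc_f_rc_21_1 lc_f_rc_21_1 lc_f_rc_17_3 lc_f_rc_17_1 lc_f_rc_19_3 lc_f_rc_10_3 lc_f_rc_20_1 lc_f_rc_14_3 lc_f_Cert_tree) (@D3.rec (fun _ => (Cert rels S Gen.f)) lc_f_rc_5_3 lc_f_rc_14_1 lc_f_rc_17_3 lc_f_rc_17_3 lc_f_rc_14_3 lc_f_rc_20_1 lc_f_rc_21_1 lc_f_rc_14_3 lc_f_rc_17_1 lc_f_rc_17_3 lc_f_rc_10_3 lc_f_rc_21_1 lc_f_rc_20_1 lc_f_rc_19_1 lc_f_rc_14_3 lc_f_rc_20_1 lc_f_rc_14_3 lc_f_rc_19_1 lc_f_rc_10_3 lc_f_rc_5_3 lc_f_rc_20_1 lc_f_rc_5_3 lc_f_rc_20_1 lc_f_rc_20_1 lc_f_rc_10_3 lc_f_rc_20_1 lc_f_rc_14_3 lc_f_rc_5_1 lc_f_rc_14_3 lc_f_rc_17_1 lc_f_rc_19_1 lc_f_rc_19_1 lc_f_rc_14_1 lc_f_rc_21_1 lc_f_rc_14_3 lc_f_rc_10_3 lc_f_rc_17_3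 lc_f_rc_14_3 lc_f_rc_17_3 lc_f_Cert_tree lc_f_rc_17_3 lc_f_rc_17_3 lc_f_rc_17_3 lc_f_rc_10_3 lc_f_rc_14_3 lc_f_rc_10_3 lc_f_rc_14_3 lc_f_rc_17_3 lc_f_rc_17_1 lc_f_rc_20_1 lc_f_rc_17_3 lc_f_rc_20_1 lc_f_rc_21_1 lc_f_rc_20_1 lc_f_rc_20_1 lc_f_rc_10_1 lc_f_rc_14_1 lc_f_rc_14_3 lc_f_rc_19_3 lc_f_rc_14_3 lc_f_rc_10_3 lc_f_rc_17_1) (@D3.rec (fun _ => (Cert rels S Gen.f)) lc_f_rc_20_1 lc_f_rc_20_1 lc_f_rc_20_1 lc_f_rc_20_1 lc_f_rc_5_3 lc_f_rc_17_3 lc_f_rc_14_3 lc_f_rc_10_3 lc_f_rc_17_1 lc_f_rc_5_3 lc_f_rc_14_3 lc_f_rc_5_1 lc_f_rc_14_3 lc_f_rc_10_3 lc_f_rc_10_3 lc_f_rc_14_1 lc_f_rc_5_3 lc_f_rc_17_3 lc_f_rc_10_1 lc_f_rc_14_1 lc_f_rc_19_5 lc_f_rc_14_1 lc_f_rc_17_3 lc_f_rc_14_3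 lc_f_rc_10_3 lc_f_rc_17_3 lc_f_rc_19_3 lc_f_rc_10_3 lc_f_rc_21_1 lc_f_rc_10_3 lc_f_rc_5_1 lc_f_rc_17_1 lc_f_rc_14_3 lc_f_rc_5_3 lc_f_rc_5_1 lc_f_Cert_tree lc_f_rc_17_3 lc_f_rc_14_1 lc_f_rc_20_1 lc_f_rc_21_1 lc_f_rc_17_3 lc_f_rc_17_3 lc_f_rc_10_3 lc_f_rc_10_3 lc_f_rc_14_3 lc_f_rc_17_1 lc_f_rc_10_1 lc_f_Cert_tree lc_f_rc_20_1 lc_f_rc_19_5 lc_f_rc_21_1 lc_f_rc_20_1 lc_f_rc_19_1 lc_f_rc_14_3 lc_f_rc_10_3 lc_f_rc_17_3 lc_f_rc_22_1 lc_f_Cert_tree lc_f_rc_20_1 lc_f_rc_10_3 lc_f_rc_14_3 lc_f_rc_21_1) (@D3.rec (fun _ => (Cert rels S Gen.f)) lc_f_rc_10_3 lc_f_rc_21_1 lc_f_rc_17_3 lc_f_rc_19_1 lc_f_rc_21_1 lc_f_rc_20_1 lc_f_rc_5_3 lc_f_rc_20_1 lc_f_rc_5_3 lc_f_rc_10_1 lc_f_rc_21_1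 lc_f_rc_20_1 lc_f_rc_14_3 lc_f_rc_20_1 lc_f_Cert_tree lc_f_rc_20_1 lc_f_rc_10_3 lc_f_rc_17_3 lc_f_rc_21_1 lc_f_rc_10_1 lc_f_rc_21_1 lc_f_Cert_tree lc_f_rc_14_3 lc_f_rc_17_3 lc_f_rc_10_1 lc_f_rc_21_1 lc_f_rc_20_1 lc_f_rc_21_1 lc_f_Cert_tree lc_f_rc_21_1 lc_f_rc_5_3 lc_f_rc_14_3 lc_f_rc_17_3 lc_f_rc_10_1 lc_f_rc_14_3 lc_f_rc_20_1 lc_f_rc_5_1 lc_f_rc_20_1 lc_f_rc_20_1 lc_f_Cert_tree lc_f_rc_21_1 lc_f_rc_17_3 lc_f_rc_20_1 lc_f_rc_17_3 lc_f_rc_19_3 lc_f_rc_20_1 lc_f_rc_5_3 lc_f_rc_20_1 lc_f_rc_5_3 lc_f_Cert_tree lc_f_Cert_tree lc_f_Cert_tree lc_f_rc_20_1 lc_f_rc_20_1 lc_f_rc_14_1 lc_f_rc_20_1 lc_f_rc_14_1 lc_f_rc_5_3 lc_f_rc_5_1 lc_f_rc_10_3 lc_f_rc_10_3 lc_f_Cert_tree)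 (@D3.rec (fun _ => (Cert rels S Gen.f)) lc_f_rc_20_1 lc_f_rc_14_1 lc_f_rc_20_1 lc_f_rc_10_3 lc_f_rc_14_3 lc_f_rc_17_3 lc_f_rc_17_3 lc_f_rc_21_1 lc_f_rc_5_1 lc_f_Cert_tree lc_f_rc_17_3 lc_f_rc_17_3 lc_f_rc_14_3 lc_f_Cert_tree lc_f_rc_5_1 lc_f_rc_20_1 lc_f_rc_14_3 lc_f_Cert_tree lc_f_rc_20_1 lc_f_rc_20_1 lc_f_Cert_tree lc_f_rc_14_1 lc_f_Cert_tree lc_f_rc_14_3 lc_f_rc_21_1 lc_f_rc_10_1 lc_f_Cert_tree lc_f_Cert_tree lc_f_rc_20_1 lc_f_rc_10_1 lc_f_rc_10_1 lc_f_rc_20_1 lc_f_rc_19_1 lc_f_rc_17_3 lc_f_rc_5_1 lc_f_rc_14_3 lc_f_rc_17_3 lc_f_Cert_tree lc_f_Cert_tree lc_f_rc_20_1 lc_f_rc_10_3 lc_f_rc_14_3 lc_f_rc_21_1 lc_f_rc_10_3 lc_f_rc_17_3 lc_f_rc_19_1 lc_f_rc_21_1 lc_f_rc_20_1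 lc_f_rc_17_3 lc_f_rc_20_1 lc_f_rc_10_3 lc_f_rc_10_1 lc_f_rc_5_1 lc_f_rc_14_1 lc_f_rc_10_3 lc_f_rc_17_3 lc_f_rc_17_3 lc_f_rc_10_1 lc_f_rc_14_3 lc_f_rc_21_1 lc_f_rc_5_1 lc_f_rc_20_1) (@D3.rec (fun _ => (Cert rels S Gen.f)) lc_f_rc_5_3 lc_f_rc_22_1 lc_f_rc_20_1 lc_f_rc_5_1 lc_f_rc_5_1 lc_f_rc_20_1 lc_f_rc_20_1 lc_f_rc_21_1 lc_f_rc_20_1 lc_f_Cert_tree lc_f_rc_20_1 lc_f_rc_20_1 lc_f_rc_20_1 lc_f_Cert_tree lc_f_rc_10_1 lc_f_rc_14_1 lc_f_rc_5_3 lc_f_rc_22_1 lc_f_rc_19_1 lc_f_rc_21_1 lc_f_rc_17_3 lc_f_rc_17_1 lc_f_rc_17_1 lc_f_rc_14_3 lc_f_rc_20_1 lc_f_rc_21_1 lc_f_Cert_tree lc_f_rc_20_1 lc_f_rc_10_3 lc_f_rc_5_3 lc_f_rc_14_3 lc_f_rc_17_3 lc_f_Cert_tree lc_f_rc_21_1 lc_f_rc_20_1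 lc_f_rc_21_1 lc_f_Cert_tree lc_f_rc_14_3 lc_f_rc_20_1 lc_f_rc_21_1 lc_f_rc_14_1 lc_f_rc_20_1 lc_f_rc_10_3 lc_f_Cert_tree lc_f_rc_14_3 lc_f_rc_20_1 lc_f_rc_14_3 lc_f_rc_17_1 lc_f_rc_20_1 lc_f_rc_10_3 lc_f_Cert_tree lc_f_rc_10_1 lc_f_Cert_tree lc_f_rc_10_3 lc_f_rc_21_1 lc_f_rc_20_1 lc_f_rc_10_3 lc_f_rc_5_1 lc_f_rc_14_3 lc_f_rc_17_3 lc_f_rc_14_3 lc_f_rc_10_3) (@D3.rec (fun _ => (Cert rels S Gen.f)) lc_f_rc_14_1 lc_f_rc_19_5 lc_f_rc_20_1 lc_f_rc_20_1 lc_f_Cert_tree lc_f_rc_21_1 lc_f_rc_5_1 lc_f_rc_17_1 lc_f_rc_20_1 lc_f_rc_21_1 lc_f_rc_20_1 lc_f_rc_5_1 lc_f_rc_17_3 lc_f_Cert_tree lc_f_Cert_tree lc_f_rc_20_1 lc_f_rc_5_1 lc_f_rc_19_5 lc_f_rc_17_3 lc_f_rc_20_1 lc_f_rc_20_1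 lc_f_rc_17_3 lc_f_rc_5_1 lc_f_rc_5_3 lc_f_Cert_tree lc_f_rc_19_3 lc_f_rc_19_5 lc_f_Cert_tree lc_f_rc_20_1 lc_f_rc_20_1 lc_f_rc_14_3 lc_f_rc_10_3 lc_f_Cert_tree lc_f_rc_14_3 lc_f_rc_10_3 lc_f_Cert_tree lc_f_rc_17_3 lc_f_rc_19_5 lc_f_rc_20_1 lc_f_rc_20_1 lc_f_rc_21_1 lc_f_rc_10_3 lc_f_rc_14_3 lc_f_rc_5_1 lc_f_rc_5_3 lc_f_rc_10_1 lc_f_Cert_tree lc_f_rc_20_1 lc_f_rc_17_3 lc_f_rc_14_3 lc_f_rc_14_3 lc_f_rc_19_5 lc_f_rc_19_3 lc_f_rc_17_1 lc_f_rc_20_1 lc_f_rc_5_1 lc_f_rc_10_1 lc_f_rc_10_3 lc_f_rc_5_3 lc_f_Cert_tree lc_f_rc_14_3 lc_f_rc_20_1) (@D3.rec (fun _ => (Cert rels S Gen.f)) lc_f_rc_5_1 lc_f_rc_19_5 lc_f_rc_14_3 lc_f_Cert_tree lc_f_rc_19_5 lc_f_rc_17_3 lc_f_rc_20_1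 lc_f_rc_14_3 lc_f_rc_14_3 lc_f_rc_14_3 lc_f_rc_14_3 lc_f_rc_20_1 lc_f_rc_5_1 lc_f_rc_20_1 lc_f_Cert_tree lc_f_rc_20_1 lc_f_rc_14_3 lc_f_rc_14_3 lc_f_Cert_tree lc_f_rc_14_1 lc_f_rc_14_3 lc_f_rc_20_1 lc_f_rc_20_1 lc_f_rc_5_3 lc_f_rc_17_3 lc_f_rc_14_1 lc_f_Cert_tree lc_f_rc_17_3 lc_f_rc_21_1 lc_f_rc_17_3 lc_f_Cert_tree lc_f_rc_20_1 lc_f_rc_14_3 lc_f_rc_5_3 lc_f_rc_14_3 lc_f_rc_14_3 lc_f_rc_20_1 lc_f_rc_14_3 lc_f_rc_17_3 lc_f_rc_5_1 lc_f_rc_10_1 lc_f_rc_20_1 lc_f_rc_14_3 lc_f_Cert_tree lc_f_rc_10_1 lc_f_rc_20_1 lc_f_rc_10_1 lc_f_rc_14_3 lc_f_rc_17_3 lc_f_rc_10_1 lc_f_rc_5_1 lc_f_rc_14_3 lc_f_rc_17_1 lc_f_rc_20_1 lc_f_rc_10_3 lc_f_rc_14_3 lc_f_rc_17_1 lc_f_rc_14_3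 lc_f_rc_17_1 lc_f_rc_19_1 lc_f_rc_19_3 lc_f_rc_5_1) (@D3.rec (fun _ => (Cert rels S Gen.f)) lc_f_rc_10_1 lc_f_rc_14_1 lc_f_rc_17_3 lc_f_rc_17_3 lc_f_rc_20_1 lc_f_rc_10_3 lc_f_rc_19_5 lc_f_rc_5_3 lc_f_rc_10_3 lc_f_rc_10_1 lc_f_rc_20_1 lc_f_rc_14_3 lc_f_rc_19_5 lc_f_rc_17_3 lc_f_rc_5_1 lc_f_rc_5_3 lc_f_rc_20_1 lc_f_rc_14_3 lc_f_Cert_tree lc_f_Cert_tree lc_f_rc_20_1 lc_f_rc_21_1 lc_f_rc_21_1 lc_f_rc_17_1 lc_f_rc_17_3 lc_f_rc_20_1 lc_f_rc_10_1 lc_f_rc_5_1 lc_f_rc_10_3 lc_f_rc_10_3 lc_f_rc_10_1 lc_f_Cert_tree lc_f_rc_14_3 lc_f_rc_21_1 lc_f_Cert_tree lc_f_rc_20_1 lc_f_rc_14_3 lc_f_rc_20_1 lc_f_rc_17_3 lc_f_rc_21_1 lc_f_rc_20_1 lc_f_rc_17_3 lc_f_rc_5_1 lc_f_rc_14_3 lc_f_rc_17_3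 lc_f_rc_21_1 lc_f_rc_17_3 lc_f_rc_14_3 lc_f_rc_14_1 lc_f_rc_20_1 lc_f_rc_17_3 lc_f_rc_21_1 lc_f_rc_20_1 lc_f_rc_5_3 lc_f_rc_17_3 lc_f_rc_14_3 lc_f_rc_10_3 lc_f_Cert_tree lc_f_rc_20_1 lc_f_rc_14_3 lc_f_rc_14_3 lc_f_rc_10_3) (@D3.rec (fun _ => (Cert rels S Gen.f)) lc_f_rc_21_1 lc_f_Cert_tree lc_f_rc_19_3 lc_f_rc_20_1 lc_f_rc_5_3 lc_f_rc_20_1 lc_f_rc_14_3 lc_f_Cert_tree lc_f_rc_21_1 lc_f_Cert_tree lc_f_rc_20_1 lc_f_rc_20_1 lc_f_rc_17_3 lc_f_rc_10_1 lc_f_Cert_tree lc_f_rc_5_3 lc_f_rc_10_1 lc_f_rc_14_3 lc_f_rc_14_3 lc_f_rc_19_3 lc_f_rc_19_3 lc_f_rc_20_1 lc_f_rc_19_1 lc_f_rc_10_3 lc_f_Cert_tree lc_f_rc_20_1 lc_f_rc_21_1 lc_f_rc_20_1 lc_f_rc_17_3 lc_f_rc_10_3 lc_f_rc_10_3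 lc_f_rc_20_1 lc_f_rc_10_1 lc_f_rc_10_3 lc_f_rc_5_3 lc_f_Cert_tree lc_f_Cert_tree lc_f_rc_20_1 lc_f_rc_19_3 lc_f_rc_5_3 lc_f_rc_17_3 lc_f_rc_20_1 lc_f_rc_14_3 lc_f_rc_5_1 lc_f_rc_10_3 lc_f_Cert_tree lc_f_rc_20_1 lc_f_rc_20_1 lc_f_rc_19_5 lc_f_rc_19_3 lc_f_rc_21_1 lc_f_rc_14_3 lc_f_rc_5_1 lc_f_rc_14_3 lc_f_rc_19_3 lc_f_rc_20_1 lc_f_rc_14_1 lc_f_rc_14_3 lc_f_rc_20_1 lc_f_rc_20_1 lc_f_rc_19_5 lc_f_rc_17_3) (@D3.rec (fun _ => (Cert rels S Gen.f)) lc_f_rc_20_1 lc_f_rc_20_1 lc_f_rc_5_3 lc_f_rc_17_3 lc_f_Cert_tree lc_f_rc_14_3 lc_f_rc_14_3 lc_f_rc_20_1 lc_f_rc_21_1 lc_f_rc_17_3 lc_f_Cert_tree lc_f_rc_20_1 lc_f_rc_14_3 lc_f_rc_17_3 lc_f_rc_21_1 lc_f_rc_5_1 lc_f_rc_17_3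 lc_f_rc_20_1 lc_f_Cert_tree lc_f_Cert_tree lc_f_rc_20_1 lc_f_rc_20_1 lc_f_rc_5_1 lc_f_rc_21_1 lc_f_rc_14_3 lc_f_Cert_tree lc_f_rc_20_1 lc_f_rc_17_1 lc_f_rc_14_3 lc_f_Cert_tree lc_f_rc_14_3 lc_f_Cert_tree lc_f_rc_14_3 lc_f_rc_22_1 lc_f_rc_10_1 lc_f_rc_17_1 lc_f_rc_14_1 lc_f_rc_20_1 lc_f_rc_21_1 lc_f_rc_14_3 lc_f_rc_20_1 lc_f_rc_19_1 lc_f_rc_17_3 lc_f_rc_20_1 lc_f_Cert_tree lc_f_rc_17_3 lc_f_rc_5_1 lc_f_rc_20_1 lc_f_rc_14_3 lc_f_rc_10_3 lc_f_rc_10_1 lc_f_rc_20_1 lc_f_rc_17_3 lc_f_rc_21_1 lc_f_rc_17_3 lc_f_rc_10_1 lc_f_rc_14_3 lc_f_rc_5_1 lc_f_Cert_tree lc_f_rc_20_1 lc_f_rc_10_3 lc_f_rc_14_3) (@D3.rec (fun _ => (Cert rels S Gen.f)) lc_f_rc_17_1 lc_f_rc_20_1 lc_f_rc_20_1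 lc_f_Cert_tree lc_f_rc_19_1 lc_f_rc_5_1 lc_f_rc_19_5 lc_f_rc_17_3 lc_f_rc_19_3 lc_f_rc_17_3 lc_f_rc_10_1 lc_f_rc_17_1 lc_f_rc_5_3 lc_f_rc_20_1 lc_f_rc_10_1 lc_f_Cert_tree lc_f_Cert_tree lc_f_rc_20_1 lc_f_rc_17_3 lc_f_rc_20_1 lc_f_Cert_tree lc_f_rc_5_3 lc_f_rc_19_3 lc_f_rc_14_3 lc_f_rc_5_1 lc_f_rc_20_1 lc_f_rc_17_3 lc_f_rc_17_3 lc_f_rc_5_1 lc_f_rc_5_1 lc_f_rc_10_3 lc_f_rc_21_1 lc_f_rc_20_1 lc_f_rc_14_3 lc_f_rc_5_1 lc_f_rc_5_1 lc_f_rc_10_1 lc_f_rc_20_1 lc_f_rc_17_3 lc_f_rc_17_1 lc_f_rc_19_3 lc_f_rc_17_3 lc_f_rc_20_1 lc_f_rc_17_3 lc_f_rc_5_3 lc_f_rc_20_1 lc_f_rc_14_3 lc_f_rc_10_3 lc_f_rc_17_3 lc_f_rc_10_1 lc_f_rc_10_3 lc_f_rc_20_1 lc_f_rc_19_3 lc_f_rc_5_1 lc_f_rc_5_3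 lc_f_rc_20_1 lc_f_rc_10_1 lc_f_rc_14_1 lc_f_rc_14_1 lc_f_rc_20_1 lc_f_rc_5_1 lc_f_rc_10_3) (@D3.rec (fun _ => (Cert rels S Gen.f)) lc_f_rc_10_3 lc_f_rc_10_3 lc_f_rc_5_1 lc_f_rc_21_1 lc_f_rc_20_1 lc_f_rc_17_3 lc_f_rc_21_1 lc_f_rc_5_3 lc_f_rc_17_3 lc_f_rc_20_1 lc_f_rc_17_3 lc_f_rc_10_3 lc_f_rc_14_3 lc_f_rc_20_1 lc_f_rc_20_1 lc_f_rc_20_1 lc_f_rc_5_3 lc_f_rc_14_3 lc_f_rc_21_1 lc_f_rc_5_1 lc_f_rc_20_1 lc_f_rc_14_3 lc_f_rc_10_3 lc_f_rc_21_1 lc_f_rc_21_1 lc_f_rc_10_3 lc_f_rc_10_1 lc_f_rc_17_3 lc_f_rc_10_3 lc_f_Cert_tree lc_f_Cert_tree lc_f_Cert_tree lc_f_rc_20_1 lc_f_rc_20_1 lc_f_rc_14_3 lc_f_rc_10_3 lc_f_Cert_tree lc_f_rc_20_1 lc_f_rc_5_3 lc_f_rc_20_1 lc_f_rc_14_3 lc_f_rc_20_1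 lc_f_rc_20_1 lc_f_Cert_tree lc_f_rc_20_1 lc_f_rc_20_1 lc_f_rc_14_1 lc_f_rc_17_1 lc_f_Cert_tree lc_f_rc_17_1 lc_f_rc_17_1 lc_f_rc_20_1 lc_f_rc_19_3 lc_f_rc_17_3 lc_f_Cert_tree lc_f_rc_17_3 lc_f_Cert_tree lc_f_rc_17_3 lc_f_rc_19_1 lc_f_rc_14_3 lc_f_rc_14_3 lc_f_rc_19_3) (@D3.rec (fun _ => (Cert rels S Gen.f)) lc_f_rc_21_1 lc_f_rc_14_3 lc_f_rc_17_3 lc_f_rc_21_1 lc_f_rc_21_1 lc_f_rc_19_5 lc_f_rc_17_3 lc_f_rc_5_1 lc_f_rc_10_3 lc_f_rc_21_1 lc_f_rc_21_1 lc_f_rc_17_3 lc_f_rc_5_3 lc_f_rc_10_3 lc_f_Cert_tree lc_f_rc_5_1 lc_f_rc_14_3 lc_f_rc_21_1 lc_f_Cert_tree lc_f_rc_20_1 lc_f_rc_5_1 lc_f_rc_14_3 lc_f_rc_21_1 lc_f_rc_5_1 lc_f_rc_20_1 lc_f_rc_5_1 lc_f_rc_14_3 lc_f_rc_10_1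 lc_f_rc_17_1 lc_f_rc_10_3 lc_f_rc_22_1 lc_f_rc_17_3 lc_f_rc_5_1 lc_f_rc_21_1 lc_f_rc_19_3 lc_f_rc_19_5 lc_f_rc_17_3 lc_f_rc_17_3 lc_f_Cert_tree lc_f_rc_21_1 lc_f_rc_14_3 lc_f_Cert_tree lc_f_rc_20_1 lc_f_rc_20_1 lc_f_rc_20_1 lc_f_rc_20_1 lc_f_rc_21_1 lc_f_rc_21_1 lc_f_rc_10_3 lc_f_rc_21_1 lc_f_rc_17_3 lc_f_rc_19_5 lc_f_Cert_tree lc_f_rc_22_1 lc_f_rc_22_1 lc_f_rc_20_1 lc_f_rc_21_1 lc_f_rc_17_3 lc_f_rc_20_1 lc_f_rc_14_3 lc_f_rc_17_3 lc_f_rc_21_1) (@D3.rec (fun _ => (Cert rels S Gen.f)) lc_f_rc_10_3 lc_f_rc_5_1 lc_f_rc_20_1 lc_f_rc_20_1 lc_f_rc_21_1 lc_f_rc_17_3 lc_f_Cert_tree lc_f_rc_10_3 lc_f_rc_5_3 lc_f_rc_20_1 lc_f_Cert_tree lc_f_rc_14_1 lc_f_rc_17_1 lc_f_Cert_tree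 lc_f_rc_20_1 lc_f_rc_10_1 lc_f_rc_17_3 lc_f_rc_10_3 lc_f_rc_22_1 lc_f_rc_22_1 lc_f_rc_14_3 lc_f_rc_14_3 lc_f_rc_14_3 lc_f_rc_19_3 lc_f_rc_17_3 lc_f_Cert_tree lc_f_rc_10_3 lc_f_Cert_tree lc_f_rc_21_1 lc_f_rc_17_3 lc_f_rc_20_1 lc_f_rc_17_3 lc_f_rc_10_3 lc_f_rc_10_3 lc_f_rc_5_1 lc_f_rc_5_1 lc_f_rc_10_3 lc_f_rc_5_3 lc_f_rc_17_3 lc_f_Cert_tree lc_f_rc_5_3 lc_f_Cert_tree lc_f_rc_21_1 lc_f_Cert_tree lc_f_rc_20_1 lc_f_rc_10_3 lc_f_Cert_tree lc_f_rc_14_3 lc_f_rc_14_3 lc_f_Cert_tree lc_f_rc_20_1 lc_f_rc_21_1 lc_f_rc_17_3 lc_f_rc_10_3 lc_f_rc_17_3 lc_f_rc_5_3 lc_f_rc_10_3 lc_f_rc_21_1 lc_f_rc_22_1 lc_f_rc_14_3 lc_f_Cert_tree lc_f_rc_21_1) (@D3.rec (fun _ => (Cert rels S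 Gen.f)) lc_f_rc_5_1 lc_f_rc_20_1 lc_f_rc_5_1 lc_f_rc_21_1 lc_f_rc_10_1 lc_f_rc_20_1 lc_f_rc_10_3 lc_f_rc_17_3 lc_f_rc_10_3 lc_f_rc_5_1 lc_f_rc_14_3 lc_f_rc_17_3 lc_f_rc_21_1 lc_f_rc_20_1 lc_f_rc_14_3 lc_f_rc_20_1 lc_f_rc_20_1 lc_f_rc_10_3 lc_f_rc_5_1 lc_f_rc_5_1 lc_f_rc_20_1 lc_f_rc_14_1 lc_f_rc_17_3 lc_f_rc_17_3 lc_f_rc_20_1 lc_f_rc_10_1 lc_f_rc_14_1 lc_f_rc_5_3 lc_f_rc_19_1 lc_f_rc_20_1 lc_f_rc_17_3 lc_f_rc_20_1 lc_f_rc_5_1 lc_f_rc_14_3 lc_f_rc_5_3 lc_f_rc_10_3 lc_f_rc_10_1 lc_f_Cert_tree lc_f_rc_17_3 lc_f_rc_5_3 lc_f_rc_17_3 lc_f_rc_17_3 lc_f_rc_20_1 lc_f_rc_10_3 lc_f_rc_5_1 lc_f_rc_21_1 lc_f_rc_5_1 lc_f_Cert_tree lc_f_rc_17_3 lc_f_rc_21_1 lc_f_rc_17_3 lc_f_rc_17_3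 lc_f_rc_14_3 lc_f_rc_10_3 lc_f_rc_5_1 lc_f_rc_14_3 lc_f_rc_5_1 lc_f_rc_10_3 lc_f_rc_17_3 lc_f_rc_21_1 lc_f_rc_14_3 lc_f_rc_17_3) (@D3.rec (fun _ => (Cert rels S Gen.f)) lc_f_rc_19_3 lc_f_rc_20_1 lc_f_rc_20_1 lc_f_rc_10_3 lc_f_rc_10_3 lc_f_rc_5_3 lc_f_rc_17_3 lc_f_rc_10_3 lc_f_rc_14_1 lc_f_rc_5_1 lc_f_rc_17_3 lc_f_rc_14_3 lc_f_rc_17_3 lc_f_Cert_tree lc_f_Cert_tree lc_f_rc_19_5 lc_f_rc_19_5 lc_f_Cert_tree lc_f_rc_20_1 lc_f_rc_21_1 lc_f_rc_19_3 lc_f_rc_17_3 lc_f_rc_14_3 lc_f_rc_21_1 lc_f_rc_5_1 lc_f_rc_5_1 lc_f_rc_5_1 lc_f_rc_17_3 lc_f_rc_10_1 lc_f_rc_20_1 lc_f_rc_20_1 lc_f_rc_21_1 lc_f_rc_10_3 lc_f_rc_17_3 lc_f_rc_20_1 lc_f_rc_17_3 lc_f_rc_21_1 lc_f_rc_19_5 lc_f_rc_20_1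 lc_f_rc_14_3 lc_f_rc_19_3 lc_f_rc_10_3 lc_f_rc_17_3 lc_f_rc_10_3 lc_f_rc_19_3 lc_f_rc_17_3 lc_f_rc_10_3 lc_f_rc_21_1 lc_f_rc_21_1 lc_f_rc_21_1 lc_f_rc_14_3 lc_f_rc_5_1 lc_f_Cert_tree lc_f_rc_20_1 lc_f_rc_21_1 lc_f_rc_17_3 lc_f_rc_20_1 lc_f_rc_5_1 lc_f_rc_14_3 lc_f_rc_14_3 lc_f_rc_22_1 lc_f_Cert_tree) (@D3.rec (fun _ => (Cert rels S Gen.f)) lc_f_Cert_tree lc_f_rc_14_3 lc_f_rc_17_1 lc_f_rc_20_1 lc_f_rc_19_3 lc_f_rc_10_3 lc_f_rc_21_1 lc_f_rc_5_1 lc_f_rc_19_3 lc_f_rc_10_1 lc_f_rc_17_3 lc_f_rc_17_1 lc_f_rc_20_1 lc_f_rc_19_3 lc_f_rc_17_3 lc_f_rc_21_1 lc_f_rc_19_5 lc_f_rc_17_3 lc_f_rc_17_1 lc_f_rc_17_3 lc_f_rc_20_1 lc_f_rc_10_3 lc_f_rc_5_1 lc_f_rc_17_3 lc_f_rc_5_1 lc_f_rc_5_1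 lc_f_rc_17_3 lc_f_rc_14_3 lc_f_rc_10_3 lc_f_rc_17_3 lc_f_rc_14_3 lc_f_rc_14_3 lc_f_rc_21_1 lc_f_rc_19_3 lc_f_rc_14_3 lc_f_rc_14_3 lc_f_Cert_tree lc_f_rc_20_1 lc_f_rc_21_1 lc_f_rc_17_3 lc_f_rc_17_3 lc_f_rc_20_1 lc_f_rc_17_3 lc_f_rc_14_3 lc_f_rc_21_1 lc_f_rc_5_1 lc_f_rc_19_3 lc_f_rc_5_1 lc_f_rc_14_3 lc_f_rc_5_1 lc_f_rc_10_3 lc_f_rc_10_1 lc_f_rc_21_1 lc_f_rc_17_3 lc_f_rc_19_5 lc_f_rc_20_1 lc_f_rc_19_3 lc_f_rc_10_3 lc_f_rc_14_3 lc_f_rc_20_1 lc_f_rc_10_3 lc_f_rc_14_3) (@D3.rec (fun _ => (Cert rels S Gen.f)) lc_f_rc_17_1 lc_f_rc_19_3 lc_f_rc_20_1 lc_f_rc_14_1 lc_f_rc_14_3 lc_f_rc_10_1 lc_f_Cert_tree lc_f_rc_19_3 lc_f_rc_20_1 lc_f_rc_14_3 lc_f_rc_10_3 lc_f_rc_17_3 lc_f_Cert_tree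 lc_f_rc_20_1 lc_f_rc_10_3 lc_f_rc_5_1 lc_f_rc_17_3 lc_f_rc_14_3 lc_f_rc_10_1 lc_f_Cert_tree lc_f_rc_10_1 lc_f_rc_17_3 lc_f_rc_17_3 lc_f_rc_14_3 lc_f_Cert_tree lc_f_rc_21_1 lc_f_rc_14_3 lc_f_rc_20_1 lc_f_rc_14_3 lc_f_Cert_tree lc_f_rc_5_1 lc_f_rc_10_3 lc_f_Cert_tree lc_f_rc_14_3 lc_f_rc_10_1 lc_f_Cert_tree lc_f_rc_5_1 lc_f_rc_17_3 lc_f_Cert_tree lc_f_rc_10_1 lc_f_rc_21_1 lc_f_rc_20_1 lc_f_rc_10_3 lc_f_rc_21_1 lc_f_rc_17_1 lc_f_rc_10_3 lc_f_rc_21_1 lc_f_rc_19_3 lc_f_rc_17_3 lc_f_rc_14_3 lc_f_rc_14_3 lc_f_rc_17_3 lc_f_rc_19_5 lc_f_rc_10_3 lc_f_rc_17_3 lc_f_rc_14_3 lc_f_rc_21_1 lc_f_rc_17_3 lc_f_rc_17_3 lc_f_rc_10_3 lc_f_rc_17_3 lc_f_rc_21_1) (@D3.rec (fun _ => (Cert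 rels S Gen.f)) lc_f_rc_10_3 lc_f_rc_21_1 lc_f_rc_5_1 lc_f_rc_14_3 lc_f_rc_19_3 lc_f_rc_21_1 lc_f_rc_10_1 lc_f_rc_5_1 lc_f_rc_5_1 lc_f_rc_19_3 lc_f_rc_20_1 lc_f_rc_21_1 lc_f_rc_19_3 lc_f_Cert_tree lc_f_rc_5_1 lc_f_rc_20_1 lc_f_rc_20_1 lc_f_rc_20_1 lc_f_rc_21_1 lc_f_rc_10_3 lc_f_rc_20_1 lc_f_rc_17_3 lc_f_rc_21_1 lc_f_rc_17_3 lc_f_Cert_tree lc_f_rc_19_3 lc_f_Cert_tree lc_f_rc_20_1 lc_f_rc_14_3 lc_f_rc_14_3 lc_f_rc_10_3 lc_f_Cert_tree lc_f_rc_14_3 lc_f_rc_14_3 lc_f_rc_22_1 lc_f_rc_21_1 lc_f_rc_17_3 lc_f_rc_10_3 lc_f_rc_21_1 lc_f_rc_20_1 lc_f_rc_14_3 lc_f_rc_17_3 lc_f_rc_14_3 lc_f_rc_17_3 lc_f_rc_17_3 lc_f_rc_14_1 lc_f_rc_19_5 lc_f_rc_20_1 lc_f_rc_20_1 lc_f_rc_17_3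 lc_f_rc_14_3 lc_f_rc_5_3 lc_f_rc_10_1 lc_f_rc_21_1 lc_f_rc_17_1 lc_f_rc_20_1 lc_f_rc_17_3 lc_f_rc_17_3 lc_f_rc_14_3 lc_f_Cert_tree lc_f_rc_10_3 lc_f_rc_5_1) (@D3.rec (fun _ => (Cert rels S Gen.f)) lc_f_Cert_tree lc_f_rc_5_1 lc_f_rc_17_3 lc_f_rc_19_5 lc_f_Cert_tree lc_f_rc_20_1 lc_f_rc_17_3 lc_f_Cert_tree lc_f_rc_20_1 lc_f_rc_5_1 lc_f_rc_5_1 lc_f_rc_19_3 lc_f_rc_14_3 lc_f_rc_17_3 lc_f_rc_19_3 lc_f_rc_14_3 lc_f_rc_10_3 lc_f_rc_21_1 lc_f_rc_20_1 lc_f_rc_20_1 lc_f_rc_20_1 lc_f_rc_10_3 lc_f_rc_5_1 lc_f_Cert_tree lc_f_Cert_tree lc_f_rc_20_1 lc_f_rc_19_3 lc_f_rc_10_3 lc_f_rc_5_3 lc_f_rc_17_3 lc_f_Cert_tree lc_f_rc_5_1 lc_f_rc_14_3 lc_f_Cert_tree lc_f_rc_17_3 lc_f_Cert_tree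 lc_f_rc_21_1 lc_f_rc_20_1 lc_f_rc_14_3 lc_f_Cert_tree lc_f_rc_5_1 lc_f_Cert_tree lc_f_rc_5_1 lc_f_rc_22_1 lc_f_rc_20_1 lc_f_Cert_tree lc_f_rc_14_3 lc_f_rc_21_1 lc_f_Cert_tree lc_f_rc_20_1 lc_f_rc_10_1 lc_f_rc_14_3 lc_f_rc_19_3 lc_f_rc_5_1 lc_f_rc_21_1 lc_f_rc_10_3 lc_f_Cert_tree lc_f_rc_17_1 lc_f_Cert_tree lc_f_rc_19_1 lc_f_rc_21_1 lc_f_rc_10_3) (@D3.rec (fun _ => (Cert rels S Gen.f)) lc_f_rc_17_3 lc_f_rc_14_3 lc_f_rc_20_1 lc_f_rc_21_1 lc_f_rc_14_1 lc_f_rc_17_3 lc_f_rc_10_1 lc_f_rc_20_1 lc_f_rc_20_1 lc_f_rc_17_3 lc_f_rc_17_3 lc_f_rc_10_3 lc_f_rc_10_3 lc_f_rc_5_1 lc_f_rc_5_3 lc_f_rc_17_3 lc_f_Cert_tree lc_f_rc_14_3 lc_f_rc_14_3 lc_f_rc_21_1 lc_f_rc_10_3 lc_f_rc_17_3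 lc_f_Cert_tree lc_f_rc_19_5 lc_f_rc_20_1 lc_f_rc_17_3 lc_f_rc_10_3 lc_f_rc_5_1 lc_f_rc_19_3 lc_f_rc_5_1 lc_f_rc_10_3 lc_f_rc_14_1 lc_f_rc_19_5 lc_f_rc_19_5 lc_f_rc_20_1 lc_f_rc_5_3 lc_f_rc_14_1 lc_f_rc_17_3 lc_f_rc_20_1 lc_f_rc_10_1 lc_f_rc_17_3 lc_f_Cert_tree lc_f_rc_20_1 lc_f_rc_19_5 lc_f_rc_20_1 lc_f_rc_10_3 lc_f_rc_21_1 lc_f_rc_19_5 lc_f_rc_10_3 lc_f_rc_17_3 lc_f_rc_21_1 lc_f_rc_5_1 lc_f_rc_10_1 lc_f_rc_5_1 lc_f_rc_19_3 lc_f_rc_19_5 lc_f_rc_20_1 lc_f_rc_14_3 lc_f_rc_17_3 lc_f_rc_20_1 lc_f_rc_17_1 lc_f_rc_20_1) (@D3.rec (fun _ => (Cert rels S Gen.f)) lc_f_rc_22_1 lc_f_Cert_tree lc_f_rc_19_5 lc_f_rc_5_3 lc_f_Cert_tree lc_f_rc_20_1 lc_f_rc_19_3 lc_f_rc_19_5 lc_f_rc_20_1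 lc_f_rc_14_3 lc_f_rc_14_3 lc_f_rc_21_1 lc_f_rc_20_1 lc_f_rc_5_3 lc_f_rc_10_3 lc_f_Cert_tree lc_f_rc_17_3 lc_f_rc_21_1 lc_f_rc_19_3 lc_f_rc_19_1 lc_f_rc_14_1 lc_f_Cert_tree lc_f_rc_20_1 lc_f_rc_21_1 lc_f_rc_21_1 lc_f_rc_14_3 lc_f_rc_10_3 lc_f_rc_20_1 lc_f_rc_5_3 lc_f_rc_20_1 lc_f_rc_10_1 lc_f_rc_19_3 lc_f_rc_14_1 lc_f_rc_14_3 lc_f_rc_10_3 lc_f_rc_20_1 lc_f_rc_10_3 lc_f_rc_21_1 lc_f_rc_14_1 lc_f_rc_19_5 lc_f_rc_14_3 lc_f_rc_17_1 lc_f_rc_20_1 lc_f_rc_20_1 lc_f_rc_10_3 lc_f_rc_5_3 lc_f_rc_14_1 lc_f_rc_5_3 lc_f_rc_17_1 lc_f_rc_17_3 lc_f_rc_19_3 lc_f_Cert_tree lc_f_rc_14_3 lc_f_rc_19_5 lc_f_rc_20_1 lc_f_rc_10_3 lc_f_rc_21_1 lc_f_rc_20_1 lc_f_rc_20_1 lc_f_rc_10_3 lc_f_rc_5_1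 lc_f_rc_5_1) (@D3.rec (fun _ => (Cert rels S Gen.f)) lc_f_rc_20_1 lc_f_rc_21_1 lc_f_rc_21_1 lc_f_rc_10_3 lc_f_rc_14_3 lc_f_rc_14_3 lc_f_rc_17_3 lc_f_rc_10_3 lc_f_rc_14_3 lc_f_Cert_tree lc_f_rc_22_1 lc_f_rc_10_3 lc_f_rc_5_3 lc_f_rc_14_3 lc_f_rc_14_3 lc_f_rc_17_3 lc_f_rc_10_3 lc_f_rc_10_3 lc_f_rc_20_1 lc_f_rc_17_3 lc_f_rc_10_3 lc_f_rc_17_3 lc_f_rc_14_1 lc_f_Cert_tree lc_f_rc_20_1 lc_f_rc_17_3 lc_f_rc_14_1 lc_f_rc_17_1 lc_f_rc_20_1 lc_f_rc_17_3 lc_f_rc_19_3 lc_f_rc_5_3 lc_f_rc_17_3 lc_f_rc_14_3 lc_f_Cert_tree lc_f_rc_5_3 lc_f_rc_21_1 lc_f_rc_10_3 lc_f_rc_17_3 lc_f_rc_14_3 lc_f_rc_17_1 lc_f_rc_21_1 lc_f_rc_10_1 lc_f_rc_5_1 lc_f_Cert_tree lc_f_rc_10_1 lc_f_rc_14_1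 lc_f_rc_19_3 lc_f_rc_10_3 lc_f_rc_17_1 lc_f_rc_14_3 lc_f_rc_10_3 lc_f_rc_14_3 lc_f_rc_20_1 lc_f_rc_22_1 lc_f_rc_14_3 lc_f_rc_20_1 lc_f_rc_10_1 lc_f_rc_17_3 lc_f_rc_14_1 lc_f_rc_17_1 lc_f_Cert_tree) (@D3.rec (fun _ => (Cert rels S Gen.f)) lc_f_rc_20_1 lc_f_rc_14_1 lc_f_Cert_tree lc_f_rc_20_1 lc_f_rc_19_1 lc_f_rc_10_1 lc_f_rc_19_1 lc_f_rc_10_3 lc_f_rc_17_3 lc_f_rc_10_3 lc_f_rc_21_1 lc_f_rc_19_3 lc_f_rc_17_3 lc_f_rc_17_3 lc_f_rc_10_3 lc_f_rc_14_3 lc_f_rc_14_1 lc_f_rc_21_1 lc_f_rc_20_1 lc_f_rc_17_3 lc_f_rc_17_3 lc_f_rc_17_3 lc_f_rc_5_3 lc_f_rc_5_1 lc_f_rc_20_1 lc_f_rc_14_3 lc_f_rc_20_1 lc_f_rc_21_1 lc_f_rc_10_3 lc_f_rc_17_3 lc_f_rc_10_3 lc_f_rc_17_3 lc_f_Cert_tree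 lc_f_rc_10_3 lc_f_rc_20_1 lc_f_Cert_tree lc_f_rc_21_1 lc_f_rc_14_3 lc_f_rc_17_1 lc_f_rc_20_1 lc_f_Cert_tree lc_f_rc_19_3 lc_f_rc_14_3 lc_f_rc_19_5 lc_f_rc_20_1 lc_f_rc_19_3 lc_f_Cert_tree lc_f_rc_10_1 lc_f_rc_14_1 lc_f_rc_19_3 lc_f_rc_19_5 lc_f_rc_20_1 lc_f_rc_10_3 lc_f_rc_17_3 lc_f_rc_19_3 lc_f_rc_17_3 lc_f_rc_14_1 lc_f_rc_17_1 lc_f_rc_17_3 lc_f_rc_22_1 lc_f_rc_17_1 lc_f_rc_14_1) (@D3.rec (fun _ => (Cert rels S Gen.f)) lc_f_rc_17_3 lc_f_rc_5_1 lc_f_rc_5_3 lc_f_rc_14_3 lc_f_rc_10_1 lc_f_rc_5_1 lc_f_Cert_tree lc_f_rc_14_3 lc_f_rc_21_1 lc_f_Cert_tree lc_f_rc_20_1 lc_f_rc_19_5 lc_f_rc_5_1 lc_f_rc_10_3 lc_f_rc_10_3 lc_f_rc_17_3 lc_f_rc_14_3 lc_f_rc_17_3 lc_f_rc_5_1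 lc_f_rc_20_1 lc_f_rc_10_1 lc_f_rc_10_3 lc_f_Cert_tree lc_f_rc_5_1 lc_f_rc_17_3 lc_f_rc_21_1 lc_f_rc_19_5 lc_f_rc_20_1 lc_f_rc_14_3 lc_f_rc_19_3 lc_f_rc_10_1 lc_f_rc_5_1 lc_f_rc_5_3 lc_f_rc_10_1 lc_f_Cert_tree lc_f_rc_22_1 lc_f_rc_17_3 lc_f_Cert_tree lc_f_rc_14_3 lc_f_rc_21_1 lc_f_Cert_tree lc_f_rc_20_1 lc_f_rc_21_1 lc_f_rc_21_1 lc_f_rc_20_1 lc_f_rc_5_1 lc_f_rc_10_3 lc_f_rc_20_1 lc_f_rc_20_1 lc_f_rc_5_1 lc_f_rc_5_3 lc_f_rc_10_1 lc_f_Cert_tree lc_f_Cert_tree lc_f_rc_14_3 lc_f_rc_19_3 lc_f_Cert_tree lc_f_rc_20_1 lc_f_rc_21_1 lc_f_rc_5_1 lc_f_rc_20_1 lc_f_rc_5_3) (@D3.rec (fun _ => (Cert rels S Gen.f)) lc_f_Cert_tree lc_f_rc_17_3 lc_f_Cert_tree lc_f_Cert_tree lc_f_rc_20_1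 lc_f_Cert_tree lc_f_Cert_tree lc_f_rc_20_1 lc_f_rc_5_3 lc_f_rc_10_1 lc_f_rc_10_3 lc_f_Cert_tree lc_f_rc_20_1 lc_f_rc_14_3 lc_f_rc_17_3 lc_f_rc_17_3 lc_f_rc_17_3 lc_f_rc_17_3 lc_f_rc_10_1 lc_f_Cert_tree lc_f_rc_20_1 lc_f_rc_10_1 lc_f_rc_10_1 lc_f_Cert_tree lc_f_Cert_tree lc_f_rc_17_3 lc_f_Cert_tree lc_f_rc_10_3 lc_f_rc_17_1 lc_f_rc_20_1 lc_f_rc_19_1 lc_f_rc_14_3 lc_f_rc_17_3 lc_f_rc_14_3 lc_f_rc_10_3 lc_f_rc_17_3 lc_f_rc_14_3 lc_f_rc_21_1 lc_f_rc_14_3 lc_f_rc_14_3 lc_f_rc_10_3 lc_f_rc_20_1 lc_f_rc_21_1 lc_f_Cert_tree lc_f_rc_20_1 lc_f_rc_19_3 lc_f_rc_19_3 lc_f_rc_21_1 lc_f_rc_5_1 lc_f_rc_17_3 lc_f_rc_10_3 lc_f_rc_10_3 lc_f_rc_10_3 lc_f_Cert_tree lc_f_rc_17_3 lc_f_rc_5_3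 lc_f_rc_14_3 lc_f_rc_10_3 lc_f_rc_20_1 lc_f_Cert_tree lc_f_rc_20_1 lc_f_rc_21_1) (@D3.rec (fun _ => (Cert rels S Gen.f)) lc_f_Cert_tree lc_f_rc_20_1 lc_f_rc_19_5 lc_f_rc_19_5 lc_f_rc_19_3 lc_f_rc_19_5 lc_f_rc_19_3 lc_f_rc_21_1 lc_f_rc_21_1 lc_f_rc_21_1 lc_f_rc_19_3 lc_f_rc_10_3 lc_f_rc_14_3 lc_f_rc_19_3 lc_f_rc_10_3 lc_f_rc_19_3 lc_f_rc_14_3 lc_f_rc_14_3 lc_f_Cert_tree lc_f_rc_19_5 lc_f_rc_19_5 lc_f_rc_20_1 lc_f_rc_10_3 lc_f_rc_5_1 lc_f_rc_5_1 lc_f_rc_10_3 lc_f_rc_14_1 lc_f_rc_14_3 lc_f_rc_20_1 lc_f_rc_10_3 lc_f_rc_14_3 lc_f_rc_10_3 lc_f_rc_19_3 lc_f_rc_17_3 lc_f_rc_17_1 lc_f_rc_10_3 lc_f_rc_20_1 lc_f_rc_10_3 lc_f_rc_19_1 lc_f_rc_17_1 lc_f_rc_17_3 lc_f_rc_17_3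 lc_f_rc_19_1 lc_f_rc_10_3 lc_f_rc_21_1 lc_f_rc_10_3 lc_f_rc_17_3 lc_f_rc_21_1 lc_f_rc_17_3 lc_f_rc_10_3 lc_f_rc_14_1 lc_f_rc_17_3 lc_f_rc_20_1 lc_f_rc_10_3 lc_f_rc_17_3 lc_f_rc_19_3 lc_f_rc_20_1 lc_f_Cert_tree lc_f_rc_17_3 lc_f_rc_20_1 lc_f_rc_19_5 lc_f_rc_20_1) (@D3.rec (fun _ => (Cert rels S Gen.f)) lc_f_rc_5_1 lc_f_rc_17_3 lc_f_rc_10_1 lc_f_rc_14_3 lc_f_rc_10_3 lc_f_rc_21_1 lc_f_rc_14_1 lc_f_rc_10_3 lc_f_rc_10_3 lc_f_rc_10_3 lc_f_rc_10_1 lc_f_rc_17_1 lc_f_rc_14_3 lc_f_rc_19_5 lc_f_rc_20_1 lc_f_rc_20_1 lc_f_rc_19_5 lc_f_rc_14_3 lc_f_rc_5_1 lc_f_rc_10_3 lc_f_rc_5_1 lc_f_rc_5_3 lc_f_rc_17_3 lc_f_rc_19_3 lc_f_rc_19_3 lc_f_rc_19_5 lc_f_rc_17_1 lc_f_rc_20_1 lc_f_rc_5_1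 lc_f_rc_5_1 lc_f_rc_14_1 lc_f_rc_5_3 lc_f_rc_19_1 lc_f_Cert_tree lc_f_rc_5_1 lc_f_rc_5_3 lc_f_rc_10_3 lc_f_rc_10_1 lc_f_rc_22_1 lc_f_rc_20_1 lc_f_rc_5_3 lc_f_rc_20_1 lc_f_rc_5_3 lc_f_rc_10_3 lc_f_Cert_tree lc_f_rc_20_1 lc_f_rc_20_1 lc_f_rc_17_1 lc_f_rc_5_3 lc_f_rc_20_1 lc_f_rc_19_3 lc_f_rc_17_3 lc_f_Cert_tree lc_f_rc_10_3 lc_f_Cert_tree lc_f_rc_10_3 lc_f_Cert_tree lc_f_rc_21_1 lc_f_rc_20_1 lc_f_rc_20_1 lc_f_rc_19_1 lc_f_rc_17_3) (@D3.rec (fun _ => (Cert rels S Gen.f)) lc_f_rc_10_3 lc_f_rc_14_1 lc_f_rc_20_1 lc_f_rc_17_3 lc_f_rc_20_1 lc_f_rc_5_1 lc_f_rc_14_3 lc_f_rc_14_1 lc_f_rc_10_3 lc_f_Cert_tree lc_f_rc_10_3 lc_f_rc_5_3 lc_f_rc_10_3 lc_f_rc_14_3 lc_f_rc_5_1 lc_f_rc_17_1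 lc_f_rc_20_1 lc_f_rc_20_1 lc_f_rc_19_3 lc_f_rc_17_3 lc_f_rc_14_3 lc_f_rc_10_3 lc_f_rc_10_3 lc_f_rc_10_3 lc_f_rc_10_3 lc_f_rc_5_3 lc_f_rc_14_3 lc_f_rc_10_3 lc_f_rc_5_1 lc_f_rc_5_3 lc_f_rc_17_3 lc_f_rc_22_1 lc_f_rc_14_3 lc_f_rc_5_1 lc_f_rc_20_1 lc_f_rc_14_3 lc_f_rc_17_3 lc_f_rc_14_3 lc_f_rc_20_1 lc_f_rc_5_1 lc_f_rc_10_1 lc_f_rc_10_3 lc_f_Cert_tree lc_f_rc_19_1 lc_f_rc_17_1 lc_f_rc_20_1 lc_f_rc_5_1 lc_f_rc_14_1 lc_f_rc_5_3 lc_f_rc_10_1 lc_f_Cert_tree lc_f_rc_22_1 lc_f_rc_20_1 lc_f_rc_5_3 lc_f_rc_20_1 lc_f_Cert_tree lc_f_rc_10_3 lc_f_Cert_tree lc_f_Cert_tree lc_f_rc_20_1 lc_f_rc_20_1 lc_f_rc_10_3) (@D3.rec (fun _ => (Cert rels S Gen.f)) lc_f_rc_10_3 lc_f_Cert_tree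 lc_f_rc_20_1 lc_f_rc_19_3 lc_f_rc_10_3 lc_f_rc_14_3 lc_f_rc_17_3 lc_f_rc_17_3 lc_f_rc_10_3 lc_f_Cert_tree lc_f_rc_21_1 lc_f_rc_14_3 lc_f_rc_20_1 lc_f_rc_19_1 lc_f_rc_17_3 lc_f_rc_10_3 lc_f_rc_14_1 lc_f_rc_10_3 lc_f_rc_20_1 lc_f_rc_10_3 lc_f_rc_20_1 lc_f_rc_10_3 lc_f_rc_20_1 lc_f_rc_10_3 lc_f_rc_10_3 lc_f_rc_21_1 lc_f_rc_5_3 lc_f_rc_10_3 lc_f_rc_10_1 lc_f_Cert_tree lc_f_rc_21_1 lc_f_rc_14_3 lc_f_Cert_tree lc_f_rc_20_1 lc_f_rc_14_3 lc_f_rc_5_1 lc_f_rc_5_1 lc_f_rc_14_3 lc_f_rc_5_3 lc_f_rc_17_3 lc_f_Cert_tree lc_f_rc_20_1 lc_f_Cert_tree lc_f_rc_20_1 lc_f_rc_14_3 lc_f_rc_17_3 lc_f_rc_10_3 lc_f_rc_5_1 lc_f_rc_14_3 lc_f_rc_17_3 lc_f_rc_10_1 lc_f_Cert_tree lc_f_rc_21_1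 lc_f_rc_14_3 lc_f_Cert_tree lc_f_rc_20_1 lc_f_rc_14_3 lc_f_rc_21_1 lc_f_rc_17_3 lc_f_rc_14_3 lc_f_rc_5_3 lc_f_rc_17_3) (@D3.rec (fun _ => (Cert rels S Gen.f)) lc_f_Cert_tree lc_f_rc_17_3 lc_f_rc_21_1 lc_f_rc_20_1 lc_f_rc_22_1 lc_f_rc_20_1 lc_f_rc_14_3 lc_f_rc_5_1 lc_f_rc_5_1 lc_f_rc_20_1 lc_f_rc_14_3 lc_f_rc_17_3 lc_f_rc_17_3 lc_f_rc_10_3 lc_f_rc_10_3 lc_f_rc_20_1 lc_f_rc_10_3 lc_f_rc_5_1 lc_f_rc_10_3 lc_f_Cert_tree lc_f_rc_17_1 lc_f_rc_20_1 lc_f_rc_20_1 lc_f_Cert_tree lc_f_rc_14_1 lc_f_rc_14_3 lc_f_rc_17_3 lc_f_rc_20_1 lc_f_rc_20_1 lc_f_rc_14_1 lc_f_rc_20_1 lc_f_rc_17_1 lc_f_rc_10_3 lc_f_rc_21_1 lc_f_rc_20_1 lc_f_rc_14_1 lc_f_rc_19_3 lc_f_rc_17_3 lc_f_Cert_tree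 lc_f_rc_17_3 lc_f_rc_14_3 lc_f_rc_21_1 lc_f_rc_20_1 lc_f_rc_10_3 lc_f_rc_21_1 lc_f_rc_17_3 lc_f_rc_5_3 lc_f_rc_17_3 lc_f_rc_10_1 lc_f_Cert_tree lc_f_rc_14_3 lc_f_rc_17_1 lc_f_rc_20_1 lc_f_rc_5_1 lc_f_Cert_tree lc_f_rc_17_3 lc_f_rc_5_1 lc_f_rc_20_1 lc_f_rc_14_3 lc_f_rc_5_1 lc_f_rc_5_3 lc_f_rc_10_1) (@D3.rec (fun _ => (Cert rels S Gen.f)) lc_f_Cert_tree lc_f_rc_20_1 lc_f_rc_21_1 lc_f_rc_17_3 lc_f_rc_5_1 lc_f_rc_5_1 lc_f_rc_14_3 lc_f_rc_19_3 lc_f_rc_17_1 lc_f_rc_21_1 lc_f_rc_14_3 lc_f_rc_14_3 lc_f_rc_20_1 lc_f_rc_17_3 lc_f_rc_14_3 lc_f_rc_14_3 lc_f_rc_19_5 lc_f_rc_10_3 lc_f_rc_5_1 lc_f_rc_14_3 lc_f_rc_5_3 lc_f_rc_17_3 lc_f_rc_20_1 lc_f_rc_10_3 lc_f_rc_21_1 lc_f_rc_5_3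 lc_f_rc_10_3 lc_f_rc_10_3 lc_f_rc_10_3 lc_f_rc_5_1 lc_f_rc_22_1 lc_f_Cert_tree lc_f_rc_10_3 lc_f_rc_17_3 lc_f_rc_20_1 lc_f_Cert_tree lc_f_rc_17_3 lc_f_Cert_tree lc_f_rc_14_3 lc_f_rc_17_1 lc_f_rc_14_3 lc_f_Cert_tree lc_f_rc_21_1 lc_f_rc_17_3 lc_f_Cert_tree lc_f_rc_20_1 lc_f_rc_10_3 lc_f_rc_14_3 lc_f_rc_17_3 lc_f_rc_20_1 lc_f_rc_19_5 lc_f_rc_14_3 lc_f_Cert_tree lc_f_rc_20_1 lc_f_rc_14_1 lc_f_rc_21_1 lc_f_rc_10_3 lc_f_rc_17_3 lc_f_rc_21_1 lc_f_rc_17_3 lc_f_rc_17_3 lc_f_Cert_tree) (@D3.rec (fun _ => (Cert rels S Gen.f)) lc_f_rc_20_1 lc_f_rc_20_1 lc_f_rc_14_3 lc_f_rc_21_1 lc_f_rc_21_1 lc_f_rc_19_3 lc_f_rc_17_3 lc_f_rc_14_3 lc_f_rc_14_3 lc_f_rc_17_3 lc_f_rc_14_3 lc_f_rc_14_3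 lc_f_rc_19_1 lc_f_rc_17_1 lc_f_rc_20_1 lc_f_rc_20_1 lc_f_rc_20_1 lc_f_rc_20_1 lc_f_rc_10_3 lc_f_rc_10_3 lc_f_rc_5_3 lc_f_Cert_tree lc_f_rc_10_3 lc_f_rc_20_1 lc_f_rc_20_1 lc_f_rc_10_3 lc_f_rc_20_1 lc_f_rc_20_1 lc_f_rc_20_1 lc_f_rc_20_1 lc_f_rc_5_3 lc_f_rc_17_3 lc_f_rc_5_1 lc_f_rc_14_3 lc_f_Cert_tree lc_f_rc_10_3 lc_f_rc_21_1 lc_f_Cert_tree lc_f_rc_20_1 lc_f_rc_21_1 lc_f_rc_19_5 lc_f_rc_10_3 lc_f_rc_14_1 lc_f_rc_17_3 lc_f_rc_14_3 lc_f_rc_5_3 lc_f_rc_10_1 lc_f_Cert_tree lc_f_rc_20_1 lc_f_rc_5_3 lc_f_rc_20_1 lc_f_rc_10_3 lc_f_rc_17_3 lc_f_rc_20_1 lc_f_rc_10_3 lc_f_rc_5_1 lc_f_rc_22_1 lc_f_rc_17_1 lc_f_rc_10_3 lc_f_rc_19_5 lc_f_rc_14_1 lc_f_rc_17_1) (@D3.rec (fun _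 => (Cert rels S Gen.f)) lc_f_rc_14_3 lc_f_rc_5_3 lc_f_Cert_tree lc_f_rc_14_3 lc_f_rc_14_1 lc_f_rc_10_3 lc_f_rc_10_1 lc_f_rc_14_1 lc_f_rc_10_3 lc_f_Cert_tree lc_f_rc_20_1 lc_f_rc_19_5 lc_f_Cert_tree lc_f_rc_20_1 lc_f_rc_17_3 lc_f_rc_21_1 lc_f_rc_20_1 lc_f_rc_10_3 lc_f_rc_17_3 lc_f_rc_20_1 lc_f_rc_17_1 lc_f_Cert_tree lc_f_rc_20_1 lc_f_rc_21_1 lc_f_rc_22_1 lc_f_rc_10_3 lc_f_rc_17_3 lc_f_rc_14_3 lc_f_rc_5_1 lc_f_rc_20_1 lc_f_rc_21_1 lc_f_Cert_tree lc_f_Cert_tree lc_f_rc_20_1 lc_f_rc_5_1 lc_f_rc_14_3 lc_f_rc_5_3 lc_f_rc_10_3 lc_f_Cert_tree lc_f_rc_20_1 lc_f_rc_5_1 lc_f_rc_5_3 lc_f_rc_10_3 lc_f_rc_10_3 lc_f_rc_17_3 lc_f_rc_19_5 lc_f_rc_21_1 lc_f_rc_17_3 lc_f_rc_10_1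 lc_f_rc_5_1 lc_f_rc_20_1 lc_f_rc_10_3 lc_f_rc_20_1 lc_f_rc_5_3 lc_f_rc_10_3 lc_f_rc_20_1 lc_f_rc_5_1 lc_f_rc_10_1 lc_f_rc_10_3 lc_f_rc_17_3 lc_f_Cert_tree lc_f_rc_14_3) (@D3.rec (fun _ => (Cert rels S Gen.f)) lc_f_rc_21_1 lc_f_rc_14_3 lc_f_Cert_tree lc_f_rc_10_3 lc_f_rc_10_3 lc_f_rc_17_1 lc_f_rc_20_1 lc_f_rc_20_1 lc_f_rc_10_3 lc_f_rc_14_3 lc_f_rc_14_3 lc_f_Cert_tree lc_f_rc_20_1 lc_f_rc_10_1 lc_f_rc_10_3 lc_f_rc_10_3 lc_f_rc_17_3 lc_f_Cert_tree lc_f_rc_20_1 lc_f_rc_21_1 lc_f_Cert_tree lc_f_rc_20_1 lc_f_rc_17_3 lc_f_rc_10_3 lc_f_rc_14_3 lc_f_rc_17_3 lc_f_rc_21_1 lc_f_rc_14_3 lc_f_rc_21_1 lc_f_rc_20_1 lc_f_rc_17_3 lc_f_rc_17_1 lc_f_rc_5_3 lc_f_Cert_tree lc_f_rc_14_3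 lc_f_rc_14_3 lc_f_rc_17_1 lc_f_rc_20_1 lc_f_rc_17_1 lc_f_rc_17_3 lc_f_rc_14_1 lc_f_rc_20_1 lc_f_rc_14_3 lc_f_rc_5_1 lc_f_rc_20_1 lc_f_rc_14_3 lc_f_rc_19_3 lc_f_rc_17_3 lc_f_rc_5_1 lc_f_rc_10_1 lc_f_rc_17_3 lc_f_rc_21_1 lc_f_Cert_tree lc_f_rc_21_1 lc_f_rc_20_1 lc_f_rc_17_3 lc_f_rc_10_3 lc_f_rc_20_1 lc_f_rc_20_1 lc_f_rc_20_1 lc_f_rc_20_1 lc_f_rc_20_1) (@D3.rec (fun _ => (Cert rels S Gen.f)) lc_f_rc_17_3 lc_f_rc_17_1 lc_f_rc_14_3 lc_f_rc_17_3 lc_f_rc_14_3 lc_f_rc_20_1 lc_f_rc_5_3 lc_f_rc_17_1 lc_f_rc_19_3 lc_f_rc_14_3 lc_f_rc_21_1 lc_f_rc_10_1 lc_f_rc_20_1 lc_f_rc_5_1 lc_f_rc_14_3 lc_f_rc_17_3 lc_f_rc_19_3 lc_f_rc_10_3 lc_f_rc_5_3 lc_f_rc_5_3 lc_f_rc_10_3 lc_f_rc_22_1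 lc_f_Cert_tree lc_f_rc_10_3 lc_f_rc_20_1 lc_f_rc_17_3 lc_f_Cert_tree lc_f_rc_14_3 lc_f_rc_21_1 lc_f_rc_20_1 lc_f_rc_14_3 lc_f_rc_19_1 lc_f_Cert_tree lc_f_rc_20_1 lc_f_rc_21_1 lc_f_rc_20_1 lc_f_rc_17_3 lc_f_rc_17_3 lc_f_rc_10_3 lc_f_rc_19_1 lc_f_rc_17_1 lc_f_rc_20_1 lc_f_rc_20_1 lc_f_rc_21_1 lc_f_Cert_tree lc_f_rc_20_1 lc_f_rc_10_3 lc_f_rc_5_1 lc_f_rc_14_3 lc_f_rc_17_3 lc_f_rc_20_1 lc_f_rc_20_1 lc_f_rc_19_3 lc_f_rc_17_3 lc_f_Cert_tree lc_f_rc_21_1 lc_f_rc_20_1 lc_f_rc_14_3 lc_f_rc_19_3 lc_f_rc_17_3 lc_f_rc_14_3 lc_f_rc_19_5) (@D3.rec (fun _ => (Cert rels S Gen.f)) lc_f_rc_20_1 lc_f_rc_19_1 lc_f_rc_19_3 lc_f_rc_14_1 lc_f_rc_20_1 lc_f_rc_17_3 lc_f_rc_17_1 lc_f_rc_5_3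 lc_f_rc_20_1 lc_f_rc_17_3 lc_f_rc_10_3 lc_f_rc_17_3 lc_f_rc_5_3 lc_f_rc_21_1 lc_f_rc_22_1 lc_f_rc_14_3 lc_f_rc_10_3 lc_f_rc_14_3 lc_f_rc_5_1 lc_f_Cert_tree lc_f_rc_21_1 lc_f_rc_17_3 lc_f_rc_20_1 lc_f_rc_20_1 lc_f_rc_10_3 lc_f_rc_17_3 lc_f_rc_14_3 lc_f_Cert_tree lc_f_rc_10_3 lc_f_rc_14_3 lc_f_rc_10_3 lc_f_rc_10_3 lc_f_rc_5_1 lc_f_rc_22_1 lc_f_rc_22_1 lc_f_rc_14_3 lc_f_rc_10_3 lc_f_rc_17_3 lc_f_rc_10_1 lc_f_rc_20_1 lc_f_rc_10_1 lc_f_rc_19_1 lc_f_rc_10_1 lc_f_rc_14_3 lc_f_rc_14_1 lc_f_rc_10_1 lc_f_rc_21_1 lc_f_rc_20_1 lc_f_Cert_tree lc_f_rc_20_1 lc_f_rc_17_1 lc_f_rc_17_1 lc_f_Cert_tree lc_f_rc_5_1 lc_f_rc_17_1 lc_f_rc_20_1 lc_f_rc_17_1 lc_f_rc_17_1 lc_f_rc_20_1 lc_f_rc_22_1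 lc_f_rc_10_3 lc_f_rc_10_3) (@D3.rec (fun _ => (Cert rels S Gen.f)) lc_f_rc_17_3 lc_f_rc_20_1 lc_f_rc_21_1 lc_f_rc_20_1 lc_f_rc_19_1 lc_f_rc_21_1 lc_f_rc_17_3 lc_f_rc_10_3 lc_f_rc_21_1 lc_f_rc_17_1 lc_f_rc_19_3 lc_f_rc_10_3 lc_f_rc_17_1 lc_f_rc_14_3 lc_f_rc_10_3 lc_f_rc_17_3 lc_f_rc_19_1 lc_f_rc_5_1 lc_f_rc_14_3 lc_f_rc_21_1 lc_f_rc_21_1 lc_f_rc_20_1 lc_f_rc_10_3 lc_f_rc_17_3 lc_f_rc_20_1 lc_f_rc_19_5 lc_f_rc_17_3 lc_f_rc_21_1 lc_f_rc_5_3 lc_f_rc_14_3 lc_f_rc_21_1 lc_f_rc_20_1 lc_f_rc_14_3 lc_f_rc_17_3 lc_f_rc_21_1 lc_f_rc_10_3 lc_f_rc_19_5 lc_f_rc_20_1 lc_f_rc_19_3 lc_f_rc_19_3 lc_f_rc_14_3 lc_f_rc_14_3 lc_f_rc_17_1 lc_f_rc_20_1 lc_f_rc_19_5 lc_f_rc_20_1 lc_f_rc_5_1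 lc_f_rc_10_3 lc_f_rc_17_3 lc_f_rc_19_5 lc_f_rc_19_3 lc_f_rc_20_1 lc_f_rc_20_1 lc_f_rc_14_3 lc_f_rc_14_3 lc_f_rc_5_3 lc_f_Cert_tree lc_f_Cert_tree lc_f_rc_20_1 lc_f_rc_14_3 lc_f_rc_17_3 lc_f_rc_20_1) (@D3.rec (fun _ => (Cert rels S Gen.f)) lc_f_rc_21_1 lc_f_rc_10_1 lc_f_rc_17_3 lc_f_Cert_tree lc_f_Cert_tree lc_f_rc_21_1 lc_f_rc_20_1 lc_f_Cert_tree lc_f_rc_20_1 lc_f_rc_20_1 lc_f_rc_20_1 lc_f_rc_17_3 lc_f_rc_20_1 lc_f_rc_20_1 lc_f_rc_5_3 lc_f_rc_17_3 lc_f_Cert_tree lc_f_rc_10_1 lc_f_rc_21_1 lc_f_Cert_tree lc_f_rc_20_1 lc_f_rc_5_1 lc_f_rc_14_3 lc_f_rc_5_3 lc_f_rc_10_3 lc_f_Cert_tree lc_f_Cert_tree lc_f_Cert_tree lc_f_rc_20_1 lc_f_rc_14_3 lc_f_rc_5_1 lc_f_rc_5_3 lc_f_rc_17_3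 lc_f_rc_14_1 lc_f_Cert_tree lc_f_rc_14_1 lc_f_rc_10_3 lc_f_rc_22_1 lc_f_rc_10_3 lc_f_rc_17_3 lc_f_rc_10_3 lc_f_Cert_tree lc_f_rc_10_3 lc_f_rc_10_3 lc_f_rc_17_3 lc_f_rc_17_3 lc_f_rc_17_3 lc_f_rc_17_3 lc_f_Cert_tree lc_f_rc_20_1 lc_f_rc_10_3 lc_f_rc_21_1 lc_f_rc_21_1 lc_f_rc_10_3 lc_f_rc_10_3 lc_f_rc_17_3 lc_f_rc_14_3 lc_f_rc_17_3 lc_f_rc_21_1 lc_f_Cert_tree lc_f_rc_20_1 lc_f_rc_14_3) (@D3.rec (fun _ => (Cert rels S Gen.f)) lc_f_rc_10_1 lc_f_rc_21_1 lc_f_rc_21_1 lc_f_rc_20_1 lc_f_rc_20_1 lc_f_rc_14_3 lc_f_rc_14_3 lc_f_rc_21_1 lc_f_rc_5_3 lc_f_rc_21_1 lc_f_rc_17_3 lc_f_rc_17_3 lc_f_rc_21_1 lc_f_rc_10_3 lc_f_rc_17_3 lc_f_rc_10_3 lc_f_rc_14_1 lc_f_rc_14_3 lc_f_rc_17_3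 lc_f_rc_21_1 lc_f_rc_20_1 lc_f_rc_5_3 lc_f_rc_17_3 lc_f_rc_19_5 lc_f_rc_17_3 lc_f_rc_17_3 lc_f_rc_22_1 lc_f_rc_17_3 lc_f_rc_5_1 lc_f_rc_10_3 lc_f_rc_10_3 lc_f_rc_10_3 lc_f_rc_21_1 lc_f_rc_17_3 lc_f_rc_5_3 lc_f_Cert_tree lc_f_rc_19_1 lc_f_rc_17_1 lc_f_rc_20_1 lc_f_rc_10_3 lc_f_rc_17_3 lc_f_rc_10_3 lc_f_rc_17_3 lc_f_rc_20_1 lc_f_Cert_tree lc_f_rc_20_1 lc_f_rc_20_1 lc_f_rc_14_3 lc_f_rc_10_1 lc_f_Cert_tree lc_f_rc_20_1 lc_f_rc_14_3 lc_f_rc_22_1 lc_f_rc_17_1 lc_f_rc_17_1 lc_f_rc_22_1 lc_f_rc_14_3 lc_f_rc_10_3 lc_f_rc_22_1 lc_f_rc_21_1 lc_f_rc_21_1 lc_f_rc_10_3) (@D3.rec (fun _ => (Cert rels S Gen.f)) lc_f_rc_14_3 lc_f_rc_17_3 lc_f_rc_14_3 lc_f_rc_5_1 lc_f_Cert_tree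 lc_f_rc_20_1 lc_f_rc_20_1 lc_f_rc_10_3 lc_f_rc_5_1 lc_f_rc_14_3 lc_f_rc_10_3 lc_f_rc_20_1 lc_f_rc_20_1 lc_f_rc_20_1 lc_f_rc_14_3 lc_f_rc_10_3 lc_f_rc_10_3 lc_f_rc_20_1 lc_f_rc_21_1 lc_f_rc_5_1 lc_f_rc_10_3 lc_f_rc_20_1 lc_f_rc_17_3 lc_f_rc_14_3 lc_f_rc_19_3 lc_f_rc_5_1 lc_f_rc_10_3 lc_f_rc_5_1 lc_f_rc_10_3 lc_f_rc_10_3 lc_f_rc_19_3 lc_f_Cert_tree lc_f_rc_19_5 lc_f_rc_19_3 lc_f_Cert_tree lc_f_rc_20_1 lc_f_rc_19_5 lc_f_rc_19_3 lc_f_rc_17_1 lc_f_rc_14_1 lc_f_rc_5_3 lc_f_rc_20_1 lc_f_rc_20_1 lc_f_rc_10_3 lc_f_rc_10_1 lc_f_rc_10_3 lc_f_rc_21_1 lc_f_rc_20_1 lc_f_rc_17_3 lc_f_rc_14_3 lc_f_rc_20_1 lc_f_rc_14_3 lc_f_rc_17_1 lc_f_rc_22_1 lc_f_rc_10_3 lc_f_Cert_tree lc_f_rc_17_3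 lc_f_Cert_tree lc_f_rc_20_1 lc_f_rc_21_1 lc_f_Cert_tree lc_f_rc_20_1) (@D3.rec (fun _ => (Cert rels S Gen.f)) lc_f_rc_14_1 lc_f_rc_21_1 lc_f_rc_14_3 lc_f_rc_21_1 lc_f_rc_14_1 lc_f_rc_19_5 lc_f_rc_17_3 lc_f_rc_21_1 lc_f_rc_20_1 lc_f_rc_17_3 lc_f_rc_17_3 lc_f_rc_20_1 lc_f_rc_19_5 lc_f_rc_5_1 lc_f_rc_10_3 lc_f_rc_17_3 lc_f_rc_21_1 lc_f_rc_19_5 lc_f_rc_10_3 lc_f_rc_17_3 lc_f_rc_21_1 lc_f_rc_21_1 lc_f_rc_14_3 lc_f_rc_17_3 lc_f_rc_10_3 lc_f_rc_19_3 lc_f_rc_14_3 lc_f_rc_10_3 lc_f_rc_21_1 lc_f_rc_10_3 lc_f_rc_21_1 lc_f_rc_5_3 lc_f_rc_17_3 lc_f_rc_21_1 lc_f_rc_5_1 lc_f_rc_10_3 lc_f_rc_5_3 lc_f_Cert_tree lc_f_rc_14_3 lc_f_Cert_tree lc_f_rc_20_1 lc_f_rc_14_3 lc_f_rc_5_1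 lc_f_rc_14_3 lc_f_rc_5_3 lc_f_rc_21_1 lc_f_rc_20_1 lc_f_rc_5_3 lc_f_rc_19_5 lc_f_rc_17_3 lc_f_rc_5_3 lc_f_rc_22_1 lc_f_rc_21_1 lc_f_rc_10_3 lc_f_rc_14_1 lc_f_rc_10_1 lc_f_rc_10_3 lc_f_rc_10_3 lc_f_Cert_tree lc_f_rc_17_3 lc_f_rc_10_3 lc_f_Cert_tree) (@D3.rec (fun _ => (Cert rels S Gen.f)) lc_f_rc_20_1 lc_f_rc_10_3 lc_f_rc_14_3 lc_f_rc_10_3 lc_f_rc_17_3 lc_f_rc_20_1 lc_f_rc_14_1 lc_f_rc_20_1 lc_f_rc_19_5 lc_f_rc_17_1 lc_f_rc_14_3 lc_f_rc_10_1 lc_f_rc_21_1 lc_f_rc_14_3 lc_f_rc_21_1 lc_f_rc_22_1 lc_f_rc_19_3 lc_f_rc_17_3 lc_f_rc_10_3 lc_f_rc_10_1 lc_f_rc_14_3 lc_f_rc_10_3 lc_f_rc_19_5 lc_f_rc_10_3 lc_f_rc_22_1 lc_f_rc_20_1 lc_f_rc_10_3 lc_f_rc_20_1 lc_f_rc_20_1 lc_f_rc_10_3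 lc_f_rc_17_3 lc_f_rc_14_1 lc_f_rc_17_1 lc_f_rc_21_1 lc_f_rc_21_1 lc_f_rc_21_1 lc_f_rc_5_1 lc_f_Cert_tree lc_f_rc_22_1 lc_f_rc_20_1 lc_f_rc_10_3 lc_f_rc_21_1 lc_f_Cert_tree lc_f_Cert_tree lc_f_rc_20_1 lc_f_rc_22_1 lc_f_rc_5_3 lc_f_rc_10_3 lc_f_Cert_tree lc_f_Cert_tree lc_f_rc_20_1 lc_f_rc_10_1 lc_f_rc_17_1 lc_f_rc_10_1 lc_f_rc_20_1 lc_f_rc_20_1 lc_f_Cert_tree lc_f_rc_21_1 lc_f_rc_10_1 lc_f_rc_20_1 lc_f_rc_5_3 lc_f_rc_5_3) (@D3.rec (fun _ => (Cert rels S Gen.f)) lc_f_rc_19_1 lc_f_rc_14_3 lc_f_rc_20_1 lc_f_rc_10_3 lc_f_rc_17_3 lc_f_rc_14_3 lc_f_rc_5_1 lc_f_rc_14_3 lc_f_rc_17_3 lc_f_rc_5_1 lc_f_rc_20_1 lc_f_rc_17_1 lc_f_rc_19_3 lc_f_rc_17_3 lc_f_rc_17_1 lc_f_rc_22_1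 lc_f_rc_19_1 lc_f_rc_19_1 lc_f_rc_19_5 lc_f_rc_10_3 lc_f_rc_21_1 lc_f_rc_19_5 lc_f_rc_21_1 lc_f_rc_22_1 lc_f_rc_10_3 lc_f_rc_17_3 lc_f_rc_21_1 lc_f_rc_5_1 lc_f_rc_14_3 lc_f_rc_10_1 lc_f_rc_19_3 lc_f_rc_21_1 lc_f_rc_20_1 lc_f_rc_20_1 lc_f_rc_17_3 lc_f_rc_20_1 lc_f_rc_17_3 lc_f_rc_14_3 lc_f_rc_5_3 lc_f_rc_17_3 lc_f_rc_19_3 lc_f_rc_17_3 lc_f_rc_14_3 lc_f_rc_21_1 lc_f_rc_14_3 lc_f_rc_14_3 lc_f_rc_20_1 lc_f_rc_17_3 lc_f_rc_17_3 lc_f_rc_19_1 lc_f_rc_10_3 lc_f_Cert_tree lc_f_rc_14_3 lc_f_rc_5_1 lc_f_rc_5_1 lc_f_rc_20_1 lc_f_rc_17_3 lc_f_rc_21_1 lc_f_rc_5_3 lc_f_rc_17_3 lc_f_Cert_tree lc_f_Cert_tree) (@D3.rec (fun _ => (Cert rels S Gen.f)) lc_f_rc_21_1 lc_f_rc_14_3 lc_f_Cert_tree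 lc_f_rc_20_1 lc_f_rc_14_3 lc_f_rc_21_1 lc_f_rc_21_1 lc_f_rc_14_3 lc_f_rc_10_3 lc_f_rc_10_3 lc_f_Cert_tree lc_f_rc_21_1 lc_f_rc_17_1 lc_f_rc_20_1 lc_f_rc_20_1 lc_f_rc_10_1 lc_f_rc_19_3 lc_f_rc_5_1 lc_f_rc_17_3 lc_f_rc_17_3 lc_f_rc_10_3 lc_f_rc_20_1 lc_f_rc_17_3 lc_f_rc_5_1 lc_f_rc_14_3 lc_f_rc_17_3 lc_f_rc_5_3 lc_f_rc_17_3 lc_f_rc_10_3 lc_f_rc_19_5 lc_f_rc_17_3 lc_f_rc_5_1 lc_f_rc_5_3 lc_f_rc_17_1 lc_f_rc_17_3 lc_f_Cert_tree lc_f_rc_17_1 lc_f_rc_19_1 lc_f_rc_20_1 lc_f_rc_10_3 lc_f_rc_21_1 lc_f_rc_14_3 lc_f_rc_17_3 lc_f_rc_14_3 lc_f_rc_21_1 lc_f_rc_17_1 lc_f_rc_21_1 lc_f_rc_19_3 lc_f_rc_14_3 lc_f_rc_20_1 lc_f_rc_20_1 lc_f_rc_14_3 lc_f_rc_21_1 lc_f_rc_14_3 lc_f_rc_5_3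 lc_f_rc_10_3 lc_f_rc_10_1 lc_f_Cert_tree lc_f_rc_14_3 lc_f_rc_14_3 lc_f_rc_20_1 lc_f_rc_20_1) (@D3.rec (fun _ => (Cert rels S Gen.f)) lc_f_rc_21_1 lc_f_rc_21_1 lc_f_rc_20_1 lc_f_rc_14_3 lc_f_rc_17_3 lc_f_rc_17_3 lc_f_rc_21_1 lc_f_rc_17_3 lc_f_rc_14_3 lc_f_rc_14_3 lc_f_rc_14_3 lc_f_rc_17_3 lc_f_rc_21_1 lc_f_rc_10_3 lc_f_rc_17_1 lc_f_rc_10_3 lc_f_rc_19_5 lc_f_rc_14_3 lc_f_rc_21_1 lc_f_rc_10_3 lc_f_rc_14_1 lc_f_rc_10_3 lc_f_rc_21_1 lc_f_rc_10_3 lc_f_Cert_tree lc_f_rc_21_1 lc_f_rc_17_3 lc_f_rc_21_1 lc_f_rc_20_1 lc_f_rc_10_3 lc_f_rc_10_1 lc_f_rc_5_3 lc_f_rc_17_3 lc_f_rc_20_1 lc_f_rc_17_3 lc_f_rc_5_1 lc_f_rc_17_3 lc_f_rc_5_1 lc_f_rc_10_1 lc_f_rc_14_1 lc_f_rc_19_1 lc_f_rc_17_3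 lc_f_rc_19_3 lc_f_rc_20_1 lc_f_rc_20_1 lc_f_rc_21_1 lc_f_rc_14_3 lc_f_rc_14_1 lc_f_rc_14_3 lc_f_rc_19_3 lc_f_rc_14_1 lc_f_rc_20_1 lc_f_rc_19_5 lc_f_rc_14_3 lc_f_rc_10_3 lc_f_rc_17_3 lc_f_rc_19_5 lc_f_rc_19_5 lc_f_rc_20_1 lc_f_rc_20_1 lc_f_rc_21_1 lc_f_rc_22_1) (@D3.rec (fun _ => (Cert rels S Gen.f)) lc_f_rc_10_3 lc_f_Cert_tree lc_f_rc_20_1 lc_f_rc_5_1 lc_f_rc_21_1 lc_f_rc_10_3 lc_f_rc_17_3 lc_f_rc_14_1 lc_f_rc_20_1 lc_f_rc_20_1 lc_f_Cert_tree lc_f_rc_17_1 lc_f_rc_17_3 lc_f_rc_20_1 lc_f_Cert_tree lc_f_rc_22_1 lc_f_rc_22_1 lc_f_rc_14_3 lc_f_rc_5_1 lc_f_rc_14_3 lc_f_rc_17_3 lc_f_rc_5_1 lc_f_rc_19_3 lc_f_rc_20_1 lc_f_rc_21_1 lc_f_rc_20_1 lc_f_rc_20_1 lc_f_rc_10_1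 lc_f_rc_21_1 lc_f_rc_14_3 lc_f_rc_17_3 lc_f_rc_17_3 lc_f_rc_20_1 lc_f_rc_17_3 lc_f_rc_17_3 lc_f_rc_10_3 lc_f_Cert_tree lc_f_rc_19_1 lc_f_rc_20_1 lc_f_rc_21_1 lc_f_rc_17_3 lc_f_rc_17_3 lc_f_rc_17_3 lc_f_rc_20_1 lc_f_rc_21_1 lc_f_rc_20_1 lc_f_rc_5_1 lc_f_rc_14_3 lc_f_rc_14_1 lc_f_rc_10_3 lc_f_rc_10_3 lc_f_rc_19_3 lc_f_rc_10_3 lc_f_rc_21_1 lc_f_rc_20_1 lc_f_rc_10_3 lc_f_rc_20_1 lc_f_rc_17_1 lc_f_rc_14_1 lc_f_rc_5_3 lc_f_rc_17_3 lc_f_rc_20_1) (@D3.rec (fun _ => (Cert rels S Gen.f)) lc_f_rc_20_1 lc_f_rc_20_1 lc_f_rc_14_1 lc_f_rc_19_3 lc_f_rc_10_1 lc_f_rc_10_3 lc_f_Cert_tree lc_f_rc_20_1 lc_f_rc_5_1 lc_f_rc_10_3 lc_f_rc_17_1 lc_f_rc_20_1 lc_f_rc_17_3 lc_f_rc_21_1 lc_f_rc_17_1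 lc_f_rc_17_1 lc_f_rc_14_3 lc_f_rc_10_3 lc_f_rc_14_1 lc_f_rc_21_1 lc_f_rc_20_1 lc_f_rc_10_3 lc_f_rc_20_1 lc_f_rc_5_1 lc_f_rc_14_1 lc_f_rc_10_3 lc_f_rc_19_5 lc_f_rc_20_1 lc_f_rc_10_3 lc_f_rc_17_3 lc_f_rc_5_1 lc_f_rc_5_3 lc_f_rc_17_3 lc_f_rc_19_3 lc_f_rc_5_1 lc_f_rc_14_3 lc_f_rc_10_3 lc_f_rc_10_3 lc_f_rc_17_3 lc_f_rc_14_3 lc_f_rc_17_1 lc_f_rc_17_3 lc_f_rc_20_1 lc_f_rc_17_3 lc_f_rc_20_1 lc_f_rc_5_1 lc_f_rc_14_3 lc_f_rc_17_3 lc_f_Cert_tree lc_f_rc_14_3 lc_f_rc_21_1 lc_f_rc_20_1 lc_f_rc_14_3 lc_f_rc_10_3 lc_f_rc_14_3 lc_f_rc_17_3 lc_f_rc_19_5 lc_f_rc_20_1 lc_f_rc_20_1 lc_f_rc_21_1 lc_f_rc_5_3 lc_f_rc_17_3) (@D3.rec (fun _ => (Cert rels S Gen.f)) lc_f_Cert_tree lc_f_rc_10_3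 lc_f_rc_17_1 lc_f_rc_20_1 lc_f_rc_5_3 lc_f_rc_20_1 lc_f_Cert_tree lc_f_rc_22_1 lc_f_rc_17_1 lc_f_Cert_tree lc_f_rc_20_1 lc_f_rc_20_1 lc_f_rc_17_1 lc_f_Cert_tree lc_f_rc_19_5 lc_f_rc_17_3 lc_f_rc_19_5 lc_f_rc_21_1 lc_f_rc_17_1 lc_f_rc_20_1 lc_f_rc_17_3 lc_f_rc_17_3 lc_f_Cert_tree lc_f_rc_21_1 lc_f_rc_17_1 lc_f_rc_20_1 lc_f_rc_19_1 lc_f_rc_14_3 lc_f_rc_5_1 lc_f_rc_20_1 lc_f_rc_10_3 lc_f_rc_14_3 lc_f_rc_17_3 lc_f_rc_21_1 lc_f_rc_5_3 lc_f_rc_17_3 lc_f_Cert_tree lc_f_rc_14_3 lc_f_rc_14_3 lc_f_Cert_tree lc_f_rc_20_1 lc_f_rc_21_1 lc_f_rc_21_1 lc_f_rc_14_3 lc_f_rc_14_3 lc_f_rc_10_3 lc_f_rc_19_3 lc_f_rc_10_3 lc_f_rc_5_1 lc_f_rc_14_3 lc_f_rc_17_1 lc_f_rc_20_1 lc_f_rc_21_1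 lc_f_rc_5_3 lc_f_rc_20_1 lc_f_rc_17_3 lc_f_rc_14_1 lc_f_Cert_tree lc_f_Cert_tree lc_f_rc_20_1 lc_f_rc_20_1 lc_f_rc_14_1) (@D3.rec (fun _ => (Cert rels S Gen.f)) lc_f_rc_20_1 lc_f_rc_21_1 lc_f_rc_5_3 lc_f_rc_21_1 lc_f_rc_14_1 lc_f_rc_19_3 lc_f_rc_17_3 lc_f_rc_17_3 lc_f_rc_20_1 lc_f_rc_17_3 lc_f_rc_17_3 lc_f_rc_14_3 lc_f_Cert_tree lc_f_rc_10_3 lc_f_rc_5_1 lc_f_Cert_tree lc_f_rc_10_3 lc_f_rc_21_1 lc_f_rc_10_3 lc_f_rc_17_3 lc_f_rc_14_3 lc_f_rc_17_3 lc_f_rc_17_3 lc_f_rc_5_3 lc_f_rc_20_1 lc_f_rc_10_3 lc_f_rc_17_3 lc_f_rc_14_1 lc_f_rc_20_1 lc_f_rc_20_1 lc_f_rc_21_1 lc_f_rc_5_1 lc_f_rc_14_3 lc_f_rc_10_1 lc_f_rc_10_1 lc_f_rc_20_1 lc_f_rc_20_1 lc_f_rc_17_1 lc_f_rc_20_1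 lc_f_rc_14_3 lc_f_rc_17_3 lc_f_rc_19_5 lc_f_rc_14_3 lc_f_rc_21_1 lc_f_rc_17_3 lc_f_rc_14_3 lc_f_rc_14_1 lc_f_rc_21_1 lc_f_rc_5_1 lc_f_Cert_tree lc_f_rc_14_3 lc_f_rc_17_3 lc_f_rc_19_5 lc_f_rc_20_1 lc_f_rc_10_3 lc_f_rc_17_3 lc_f_rc_20_1 lc_f_rc_20_1 lc_f_rc_14_3 lc_f_rc_21_1 lc_f_rc_17_3 lc_f_rc_17_1) (@D3.rec (fun _ => (Cert rels S Gen.f)) lc_f_rc_20_1 lc_f_rc_14_3 lc_f_rc_17_3 lc_f_rc_20_1 lc_f_rc_20_1 lc_f_rc_20_1 lc_f_rc_20_1 lc_f_rc_19_3 lc_f_rc_10_3 lc_f_rc_5_1 lc_f_rc_17_3 lc_f_rc_17_3 lc_f_rc_19_5 lc_f_rc_20_1 lc_f_rc_5_1 lc_f_rc_10_3 lc_f_rc_14_3 lc_f_rc_20_1 lc_f_rc_17_3 lc_f_Cert_tree lc_f_rc_17_3 lc_f_rc_21_1 lc_f_Cert_tree lc_f_rc_10_3 lc_f_rc_20_1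 lc_f_rc_14_3 lc_f_rc_10_3 lc_f_rc_5_3 lc_f_Cert_tree lc_f_rc_20_1 lc_f_rc_14_3 lc_f_rc_5_1 lc_f_rc_20_1 lc_f_rc_5_1 lc_f_rc_10_3 lc_f_Cert_tree lc_f_rc_17_3 lc_f_Cert_tree lc_f_rc_14_3 lc_f_rc_10_3 lc_f_rc_10_3 lc_f_Cert_tree lc_f_rc_20_1 lc_f_Cert_tree lc_f_rc_10_3 lc_f_rc_21_1 lc_f_rc_10_3 lc_f_rc_20_1 lc_f_Cert_tree lc_f_rc_5_1 lc_f_rc_14_3 lc_f_rc_20_1 lc_f_rc_14_1 lc_f_rc_14_1 lc_f_rc_17_1 lc_f_rc_14_3 lc_f_rc_10_3 lc_f_rc_17_3 lc_f_rc_14_3 lc_f_rc_21_1 lc_f_rc_17_3 lc_f_rc_19_1) (@D3.rec (fun _ => (Cert rels S Gen.f)) lc_f_rc_21_1 lc_f_rc_14_3 lc_f_rc_10_1 lc_f_rc_21_1 lc_f_rc_10_3 lc_f_rc_10_3 lc_f_rc_10_1 lc_f_rc_14_1 lc_f_rc_14_3 lc_f_rc_14_3 lc_f_Cert_tree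 lc_f_rc_20_1 lc_f_rc_20_1 lc_f_rc_21_1 lc_f_rc_5_1 lc_f_rc_14_3 lc_f_rc_5_1 lc_f_rc_10_1 lc_f_rc_19_3 lc_f_rc_19_3 lc_f_rc_14_3 lc_f_rc_5_1 lc_f_rc_5_1 lc_f_rc_20_1 lc_f_rc_20_1 lc_f_rc_21_1 lc_f_rc_21_1 lc_f_rc_21_1 lc_f_rc_20_1 lc_f_rc_10_1 lc_f_rc_10_1 lc_f_rc_19_3 lc_f_rc_19_3 lc_f_rc_17_1 lc_f_rc_20_1 lc_f_rc_10_3 lc_f_rc_5_1 lc_f_rc_5_3 lc_f_rc_17_3 lc_f_rc_5_3 lc_f_Cert_tree lc_f_rc_17_1 lc_f_rc_20_1 lc_f_rc_5_3 lc_f_rc_20_1 lc_f_rc_14_3 lc_f_rc_21_1 lc_f_Cert_tree lc_f_rc_19_3 lc_f_rc_20_1 lc_f_rc_10_3 lc_f_rc_20_1 lc_f_rc_17_3 lc_f_rc_10_1 lc_f_rc_5_1 lc_f_Cert_tree lc_f_rc_20_1 lc_f_rc_19_3 lc_f_rc_10_3 lc_f_rc_14_3 lc_f_rc_10_3 lc_f_rc_17_3) (@D3.rec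 (fun _ => (Cert rels S Gen.f)) lc_f_rc_19_3 lc_f_rc_5_1 lc_f_rc_14_3 lc_f_rc_17_3 lc_f_rc_17_3 lc_f_rc_20_1 lc_f_rc_14_1 lc_f_rc_14_3 lc_f_rc_14_1 lc_f_rc_10_3 lc_f_rc_10_3 lc_f_rc_20_1 lc_f_rc_10_1 lc_f_rc_10_3 lc_f_rc_10_3 lc_f_rc_14_3 lc_f_rc_5_1 lc_f_rc_14_3 lc_f_rc_19_5 lc_f_rc_20_1 lc_f_rc_5_1 lc_f_rc_5_3 lc_f_rc_17_3 lc_f_Cert_tree lc_f_Cert_tree lc_f_rc_17_1 lc_f_rc_20_1 lc_f_rc_20_1 lc_f_rc_21_1 lc_f_rc_5_3 lc_f_rc_20_1 lc_f_rc_5_3 lc_f_Cert_tree lc_f_rc_17_1 lc_f_Cert_tree lc_f_rc_20_1 lc_f_rc_10_3 lc_f_rc_17_1 lc_f_rc_10_3 lc_f_rc_19_3 lc_f_rc_10_3 lc_f_rc_20_1 lc_f_rc_10_3 lc_f_rc_14_3 lc_f_rc_17_3 lc_f_rc_21_1 lc_f_rc_10_3 lc_f_rc_20_1 lc_f_rc_10_3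 lc_f_rc_10_3 lc_f_rc_5_1 lc_f_rc_5_3 lc_f_rc_10_3 lc_f_rc_10_1 lc_f_rc_19_3 lc_f_rc_21_1 lc_f_rc_20_1 lc_f_rc_14_3 lc_f_rc_10_3 lc_f_rc_5_1 lc_f_rc_17_3 lc_f_rc_10_3) (@D3.rec (fun _ => (Cert rels S Gen.f)) lc_f_rc_17_3 lc_f_rc_20_1 lc_f_rc_5_3 lc_f_rc_14_3 lc_f_rc_17_1 lc_f_rc_19_5 lc_f_rc_20_1 lc_f_rc_10_3 lc_f_rc_5_3 lc_f_rc_20_1 lc_f_rc_5_1 lc_f_rc_10_3 lc_f_rc_10_3 lc_f_rc_20_1 lc_f_rc_14_3 lc_f_rc_5_1 lc_f_rc_20_1 lc_f_rc_14_3 lc_f_rc_17_1 lc_f_rc_5_1 lc_f_rc_5_3 lc_f_rc_10_3 lc_f_Cert_tree lc_f_rc_20_1 lc_f_rc_14_3 lc_f_rc_21_1 lc_f_rc_17_1 lc_f_rc_20_1 lc_f_rc_14_3 lc_f_rc_5_1 lc_f_rc_20_1 lc_f_rc_5_3 lc_f_rc_17_3 lc_f_rc_10_3 lc_f_rc_10_3 lc_f_rc_5_1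 lc_f_rc_5_3 lc_f_rc_10_3 lc_f_Cert_tree lc_f_rc_19_3 lc_f_rc_17_1 lc_f_rc_20_1 lc_f_rc_20_1 lc_f_rc_17_3 lc_f_rc_14_1 lc_f_Cert_tree lc_f_Cert_tree lc_f_rc_20_1 lc_f_rc_20_1 lc_f_rc_14_1 lc_f_rc_20_1 lc_f_rc_22_1 lc_f_rc_5_1 lc_f_rc_10_3 lc_f_rc_5_1 lc_f_rc_14_3 lc_f_Cert_tree lc_f_rc_10_3 lc_f_rc_19_3 lc_f_rc_17_3 lc_f_rc_17_3 lc_f_rc_21_1) (@D3.rec (fun _ => (Cert rels S Gen.f)) lc_f_rc_20_1 lc_f_rc_20_1 lc_f_rc_10_3 lc_f_rc_14_3 lc_f_rc_5_1 lc_f_rc_10_3 lc_f_Cert_tree lc_f_rc_14_3 lc_f_rc_14_3 lc_f_rc_20_1 lc_f_rc_14_3 lc_f_rc_21_1 lc_f_rc_20_1 lc_f_rc_17_3 lc_f_rc_21_1 lc_f_Cert_tree lc_f_rc_20_1 lc_f_rc_5_1 lc_f_rc_14_3 lc_f_rc_14_3 lc_f_rc_17_3 lc_f_Cert_tree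 lc_f_Cert_tree lc_f_rc_20_1 lc_f_rc_5_1 lc_f_rc_5_3 lc_f_rc_10_3 lc_f_rc_10_3 lc_f_Cert_tree lc_f_rc_20_1 lc_f_rc_17_3 lc_f_rc_14_1 lc_f_rc_20_1 lc_f_Cert_tree lc_f_rc_21_1 lc_f_rc_14_3 lc_f_rc_17_1 lc_f_rc_21_1 lc_f_rc_5_3 lc_f_Cert_tree lc_f_rc_10_3 lc_f_rc_21_1 lc_f_rc_14_1 lc_f_rc_10_3 lc_f_rc_21_1 lc_f_rc_10_3 lc_f_rc_10_3 lc_f_rc_20_1 lc_f_rc_17_3 lc_f_rc_14_3 lc_f_rc_10_3 lc_f_Cert_tree lc_f_rc_10_1 lc_f_rc_14_3 lc_f_rc_5_3 lc_f_rc_17_3 lc_f_rc_5_3 lc_f_rc_5_1 lc_f_rc_20_1 lc_f_rc_21_1 lc_f_rc_5_1 lc_f_rc_5_1) (@D3.rec (fun _ => (Cert rels S Gen.f)) lc_f_rc_14_3 lc_f_rc_5_3 lc_f_rc_20_1 lc_f_rc_10_1 lc_f_rc_10_3 lc_f_rc_5_3 lc_f_rc_17_3 lc_f_rc_17_3 lc_f_rc_5_1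 lc_f_rc_5_3 lc_f_rc_14_3 lc_f_rc_10_3 lc_f_rc_17_3 lc_f_rc_5_1 lc_f_rc_5_3 lc_f_rc_5_3 lc_f_rc_19_3 lc_f_rc_5_3 lc_f_rc_20_1 lc_f_rc_21_1 lc_f_rc_20_1 lc_f_rc_10_3 lc_f_rc_10_1 lc_f_rc_10_3 lc_f_rc_19_5 lc_f_rc_20_1 lc_f_rc_17_3 lc_f_rc_17_3 lc_f_rc_10_3 lc_f_rc_10_3 lc_f_rc_22_1 lc_f_rc_19_5 lc_f_rc_10_3 lc_f_rc_10_1 lc_f_rc_5_1 lc_f_rc_5_3 lc_f_rc_21_1 lc_f_rc_17_1 lc_f_rc_21_1 lc_f_rc_10_1 lc_f_rc_20_1 lc_f_rc_14_3 lc_f_rc_5_3 lc_f_rc_10_1 lc_f_rc_17_3 lc_f_rc_5_3 lc_f_Cert_tree lc_f_rc_21_1 lc_f_rc_17_3 lc_f_rc_14_3 lc_f_rc_5_3 lc_f_rc_19_5 lc_f_rc_10_3 lc_f_rc_17_1 lc_f_rc_20_1 lc_f_rc_17_3 lc_f_rc_14_1 lc_f_rc_17_3 lc_f_Cert_tree lc_f_rc_17_3 lc_f_rc_17_3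 lc_f_rc_14_3)
def ce_f_16 : D2 → D3 → (Cert rels S Gen.f) := @D2.rec (fun _ => D3 → (Cert rels S Gen.f)) (@D3.rec (fun _ => (Cert rels S Gen.f)) lc_f_rc_17_1 lc_f_rc_17_3 lc_f_rc_14_3 lc_f_rc_5_3 lc_f_rc_14_3 lc_f_rc_10_3 lc_f_rc_20_1 lc_f_rc_5_1 lc_f_rc_14_3 lc_f_rc_14_3 lc_f_rc_10_1 lc_f_rc_10_1 lc_f_Cert_tree lc_f_rc_21_1 lc_f_rc_20_1 lc_f_rc_17_3 lc_f_rc_20_1 lc_f_rc_5_1 lc_f_rc_19_3 lc_f_rc_10_1 lc_f_rc_17_3 lc_f_rc_5_1 lc_f_rc_10_1 lc_f_Cert_tree lc_f_rc_17_3 lc_f_rc_20_1 lc_f_rc_21_1 lc_f_rc_19_3 lc_f_rc_20_1 lc_f_rc_10_1 lc_f_rc_19_3 lc_f_rc_17_3 lc_f_rc_20_1 lc_f_rc_10_3 lc_f_rc_21_1 lc_f_rc_21_1 lc_f_rc_20_1 lc_f_rc_17_3 lc_f_rc_14_3 lc_f_rc_10_3 lc_f_rc_17_1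 lc_f_rc_14_3 lc_f_rc_14_3 lc_f_Cert_tree lc_f_rc_17_1 lc_f_rc_20_1 lc_f_rc_5_1 lc_f_rc_14_3 lc_f_rc_10_3 lc_f_rc_19_3 lc_f_rc_5_3 lc_f_rc_5_3 lc_f_rc_5_3 lc_f_rc_20_1 lc_f_rc_5_3 lc_f_Cert_tree lc_f_rc_10_3 lc_f_rc_21_1 lc_f_rc_10_3 lc_f_rc_5_3 lc_f_rc_5_1 lc_f_rc_19_5) (@D3.rec (fun _ => (Cert rels S Gen.f)) lc_f_rc_14_3 lc_f_rc_5_1 lc_f_rc_21_1 lc_f_rc_17_3 lc_f_rc_17_1 lc_f_rc_20_1 lc_f_rc_19_1 lc_f_rc_10_3 lc_f_rc_20_1 lc_f_rc_17_3 lc_f_Cert_tree lc_f_rc_17_3 lc_f_rc_10_3 lc_f_rc_5_1 lc_f_rc_5_1 lc_f_rc_21_1 lc_f_rc_20_1 lc_f_rc_20_1 lc_f_rc_19_3 lc_f_rc_5_3 lc_f_rc_17_3 lc_f_Cert_tree lc_f_rc_20_1 lc_f_rc_21_1 lc_f_rc_10_3 lc_f_Cert_tree lc_f_rc_21_1 lc_f_rc_20_1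 lc_f_Cert_tree lc_f_rc_14_3 lc_f_rc_21_1 lc_f_Cert_tree lc_f_rc_20_1 lc_f_rc_19_5 lc_f_rc_21_1 lc_f_rc_20_1 lc_f_rc_17_1 lc_f_rc_17_3 lc_f_rc_20_1 lc_f_rc_20_1 lc_f_rc_20_1 lc_f_rc_14_3 lc_f_rc_5_1 lc_f_rc_14_3 lc_f_rc_14_3 lc_f_rc_5_3 lc_f_rc_17_3 lc_f_rc_14_1 lc_f_rc_10_3 lc_f_rc_17_3 lc_f_rc_20_1 lc_f_rc_14_1 lc_f_rc_19_3 lc_f_rc_17_1 lc_f_rc_17_1 lc_f_rc_10_3 lc_f_rc_5_1 lc_f_rc_14_1 lc_f_rc_19_3 lc_f_rc_20_1 lc_f_rc_17_3 lc_f_rc_17_3) (@D3.rec (fun _ => (Cert rels S Gen.f)) lc_f_rc_20_1 lc_f_rc_5_1 lc_f_rc_5_3 lc_f_rc_19_3 lc_f_rc_17_3 lc_f_rc_17_3 lc_f_rc_22_1 lc_f_rc_20_1 lc_f_rc_20_1 lc_f_rc_14_1 lc_f_rc_20_1 lc_f_rc_19_3 lc_f_rc_10_3 lc_f_rc_14_1 lc_f_rc_17_3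 lc_f_rc_19_1 lc_f_rc_14_3 lc_f_rc_5_1 lc_f_rc_17_3 lc_f_rc_10_3 lc_f_rc_14_3 lc_f_rc_14_3 lc_f_rc_17_3 lc_f_rc_21_1 lc_f_rc_10_3 lc_f_rc_20_1 lc_f_rc_20_1 lc_f_rc_5_1 lc_f_rc_19_5 lc_f_rc_17_3 lc_f_rc_20_1 lc_f_rc_10_3 lc_f_rc_17_3 lc_f_rc_20_1 lc_f_rc_14_3 lc_f_rc_20_1 lc_f_rc_17_3 lc_f_rc_10_3 lc_f_rc_21_1 lc_f_rc_14_3 lc_f_rc_17_3 lc_f_rc_14_3 lc_f_rc_21_1 lc_f_rc_17_3 lc_f_rc_10_3 lc_f_rc_21_1 lc_f_rc_14_3 lc_f_rc_20_1 lc_f_rc_14_1 lc_f_rc_19_5 lc_f_rc_14_3 lc_f_rc_5_1 lc_f_rc_19_5 lc_f_rc_20_1 lc_f_rc_14_3 lc_f_rc_19_5 lc_f_rc_14_3 lc_f_rc_10_3 lc_f_rc_19_3 lc_f_rc_17_3 lc_f_rc_10_3 lc_f_rc_21_1) (@D3.rec (fun _ => (Cert rels S Gen.f)) lc_f_rc_20_1 lc_f_rc_17_3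 lc_f_rc_5_1 lc_f_rc_10_3 lc_f_rc_20_1 lc_f_rc_17_3 lc_f_rc_21_1 lc_f_rc_14_3 lc_f_rc_10_1 lc_f_rc_10_3 lc_f_rc_5_3 lc_f_rc_5_3 lc_f_rc_17_1 lc_f_Cert_tree lc_f_rc_17_1 lc_f_rc_20_1 lc_f_rc_14_3 lc_f_rc_10_3 lc_f_rc_14_3 lc_f_rc_17_3 lc_f_rc_17_1 lc_f_rc_20_1 lc_f_rc_14_3 lc_f_rc_14_3 lc_f_rc_10_3 lc_f_rc_5_3 lc_f_rc_14_3 lc_f_rc_17_1 lc_f_rc_20_1 lc_f_rc_10_3 lc_f_rc_5_3 lc_f_rc_10_3 lc_f_rc_21_1 lc_f_rc_21_1 lc_f_rc_19_3 lc_f_rc_19_3 lc_f_rc_10_3 lc_f_rc_17_3 lc_f_rc_14_3 lc_f_rc_14_3 lc_f_rc_19_5 lc_f_rc_5_1 lc_f_rc_14_3 lc_f_rc_14_3 lc_f_rc_21_1 lc_f_rc_21_1 lc_f_rc_14_3 lc_f_rc_14_3 lc_f_rc_21_1 lc_f_rc_17_3 lc_f_rc_21_1 lc_f_rc_20_1 lc_f_rc_10_1 lc_f_rc_14_3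 lc_f_rc_10_3 lc_f_rc_22_1 lc_f_rc_17_3 lc_f_rc_5_3 lc_f_rc_21_1 lc_f_rc_20_1 lc_f_rc_5_1 lc_f_rc_14_3) (@D3.rec (fun _ => (Cert rels S Gen.f)) lc_f_rc_20_1 lc_f_rc_20_1 lc_f_rc_17_3 lc_f_rc_20_1 lc_f_rc_21_1 lc_f_rc_10_3 lc_f_rc_17_3 lc_f_rc_14_3 lc_f_rc_10_3 lc_f_rc_14_1 lc_f_rc_10_3 lc_f_rc_21_1 lc_f_rc_10_1 lc_f_rc_17_3 lc_f_rc_10_3 lc_f_Cert_tree lc_f_rc_21_1 lc_f_rc_20_1 lc_f_rc_14_3 lc_f_rc_21_1 lc_f_rc_5_3 lc_f_rc_17_3 lc_f_Cert_tree lc_f_rc_10_3 lc_f_rc_21_1 lc_f_rc_14_3 lc_f_Cert_tree lc_f_rc_20_1 lc_f_rc_14_3 lc_f_rc_19_3 lc_f_rc_5_1 lc_f_rc_14_3 lc_f_rc_5_3 lc_f_rc_14_1 lc_f_rc_17_3 lc_f_rc_14_3 lc_f_rc_5_1 lc_f_rc_5_3 lc_f_Cert_tree lc_f_rc_17_1 lc_f_rc_20_1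 lc_f_rc_10_3 lc_f_rc_20_1 lc_f_rc_17_1 lc_f_rc_17_1 lc_f_rc_17_1 lc_f_Cert_tree lc_f_rc_10_3 lc_f_Cert_tree lc_f_rc_17_3 lc_f_rc_17_3 lc_f_rc_19_3 lc_f_rc_20_1 lc_f_rc_10_3 lc_f_rc_17_3 lc_f_rc_19_1 lc_f_rc_14_1 lc_f_rc_20_1 lc_f_rc_19_5 lc_f_rc_10_3 lc_f_rc_17_3 lc_f_rc_14_3) (@D3.rec (fun _ => (Cert rels S Gen.f)) lc_f_rc_10_3 lc_f_rc_14_3 lc_f_rc_10_3 lc_f_rc_10_3 lc_f_rc_10_1 lc_f_rc_21_1 lc_f_rc_14_3 lc_f_rc_5_1 lc_f_rc_20_1 lc_f_rc_14_3 lc_f_rc_17_3 lc_f_rc_14_3 lc_f_rc_5_1 lc_f_rc_14_3 lc_f_rc_5_3 lc_f_rc_10_3 lc_f_rc_17_3 lc_f_rc_14_3 lc_f_rc_21_1 lc_f_rc_10_1 lc_f_rc_5_1 lc_f_rc_20_1 lc_f_Cert_tree lc_f_rc_14_3 lc_f_rc_10_3 lc_f_rc_17_3 lc_f_rc_10_1 lc_f_rc_19_3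 lc_f_rc_20_1 lc_f_rc_19_3 lc_f_rc_19_1 lc_f_rc_14_3 lc_f_rc_10_3 lc_f_rc_17_3 lc_f_rc_14_1 lc_f_rc_17_3 lc_f_rc_14_1 lc_f_rc_20_1 lc_f_rc_17_3 lc_f_rc_17_3 lc_f_rc_10_1 lc_f_rc_17_1 lc_f_rc_14_3 lc_f_rc_14_3 lc_f_rc_21_1 lc_f_rc_21_1 lc_f_rc_5_3 lc_f_rc_19_5 lc_f_rc_14_3 lc_f_rc_21_1 lc_f_rc_19_5 lc_f_rc_17_3 lc_f_rc_10_1 lc_f_rc_14_3 lc_f_rc_10_3 lc_f_rc_17_3 lc_f_rc_20_1 lc_f_rc_14_3 lc_f_rc_10_3 lc_f_rc_10_3 lc_f_rc_10_3 lc_f_rc_5_1) (@D3.rec (fun _ => (Cert rels S Gen.f)) lc_f_rc_10_3 lc_f_rc_10_3 lc_f_rc_5_3 lc_f_Cert_tree lc_f_rc_14_3 lc_f_rc_5_3 lc_f_rc_20_1 lc_f_rc_5_1 lc_f_rc_5_1 lc_f_rc_14_3 lc_f_rc_5_3 lc_f_rc_10_1 lc_f_rc_20_1 lc_f_rc_5_3 lc_f_rc_20_1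 lc_f_rc_20_1 lc_f_rc_10_3 lc_f_rc_10_3 lc_f_rc_19_3 lc_f_rc_17_3 lc_f_rc_14_3 lc_f_rc_17_3 lc_f_Cert_tree lc_f_rc_17_3 lc_f_rc_17_3 lc_f_Cert_tree lc_f_rc_20_1 lc_f_rc_10_3 lc_f_rc_14_1 lc_f_rc_21_1 lc_f_rc_20_1 lc_f_rc_5_1 lc_f_rc_14_3 lc_f_rc_14_3 lc_f_rc_20_1 lc_f_rc_14_3 lc_f_rc_17_3 lc_f_rc_22_1 lc_f_rc_17_1 lc_f_rc_10_3 lc_f_rc_19_3 lc_f_rc_22_1 lc_f_rc_19_3 lc_f_rc_17_3 lc_f_rc_19_3 lc_f_rc_19_5 lc_f_Cert_tree lc_f_rc_17_3 lc_f_rc_14_3 lc_f_rc_19_3 lc_f_rc_20_1 lc_f_rc_17_1 lc_f_rc_14_3 lc_f_rc_20_1 lc_f_rc_5_3 lc_f_rc_5_3 lc_f_rc_14_3 lc_f_rc_17_1 lc_f_rc_19_3 lc_f_rc_17_3 lc_f_rc_14_3 lc_f_rc_20_1) (@D3.rec (fun _ => (Cert rels S Gen.f)) lc_f_rc_10_3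 lc_f_rc_21_1 lc_f_rc_21_1 lc_f_rc_17_1 lc_f_rc_21_1 lc_f_rc_21_1 lc_f_rc_17_1 lc_f_rc_10_3 lc_f_rc_17_3 lc_f_rc_14_1 lc_f_rc_14_3 lc_f_rc_21_1 lc_f_rc_17_3 lc_f_rc_19_5 lc_f_Cert_tree lc_f_rc_14_3 lc_f_rc_21_1 lc_f_rc_17_3 lc_f_rc_10_3 lc_f_rc_17_1 lc_f_rc_20_1 lc_f_rc_14_3 lc_f_rc_5_1 lc_f_rc_21_1 lc_f_rc_19_3 lc_f_rc_20_1 lc_f_rc_17_1 lc_f_rc_17_1 lc_f_rc_5_1 lc_f_rc_10_1 lc_f_rc_17_3 lc_f_rc_5_1 lc_f_rc_17_3 lc_f_rc_10_1 lc_f_rc_5_3 lc_f_rc_10_1 lc_f_rc_19_1 lc_f_rc_17_1 lc_f_rc_17_3 lc_f_rc_17_3 lc_f_rc_10_3 lc_f_rc_5_1 lc_f_rc_19_1 lc_f_rc_17_3 lc_f_rc_17_3 lc_f_rc_5_3 lc_f_rc_10_1 lc_f_rc_14_3 lc_f_rc_10_3 lc_f_rc_14_1 lc_f_rc_14_3 lc_f_rc_17_1 lc_f_rc_21_1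 lc_f_rc_14_3 lc_f_rc_17_3 lc_f_rc_14_3 lc_f_rc_10_3 lc_f_rc_21_1 lc_f_rc_21_1 lc_f_rc_19_3 lc_f_rc_10_3 lc_f_rc_10_1) (@D3.rec (fun _ => (Cert rels S Gen.f)) lc_f_rc_14_1 lc_f_rc_14_3 lc_f_rc_14_3 lc_f_Cert_tree lc_f_rc_17_3 lc_f_rc_20_1 lc_f_rc_20_1 lc_f_rc_22_1 lc_f_rc_19_5 lc_f_rc_10_3 lc_f_rc_17_3 lc_f_rc_14_3 lc_f_Cert_tree lc_f_rc_21_1 lc_f_rc_5_1 lc_f_Cert_tree lc_f_Cert_tree lc_f_rc_21_1 lc_f_rc_10_1 lc_f_Cert_tree lc_f_rc_20_1 lc_f_rc_20_1 lc_f_rc_21_1 lc_f_Cert_tree lc_f_rc_20_1 lc_f_rc_10_3 lc_f_rc_19_5 lc_f_Cert_tree lc_f_Cert_tree lc_f_rc_20_1 lc_f_rc_10_3 lc_f_rc_5_1 lc_f_rc_5_3 lc_f_rc_14_3 lc_f_Cert_tree lc_f_rc_17_3 lc_f_Cert_tree lc_f_rc_19_5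 lc_f_rc_20_1 lc_f_rc_21_1 lc_f_rc_10_1 lc_f_rc_5_3 lc_f_rc_17_3 lc_f_Cert_tree lc_f_rc_10_3 lc_f_Cert_tree lc_f_rc_22_1 lc_f_rc_21_1 lc_f_rc_17_3 lc_f_rc_20_1 lc_f_rc_5_3 lc_f_rc_10_3 lc_f_rc_10_3 lc_f_Cert_tree lc_f_rc_21_1 lc_f_rc_17_3 lc_f_rc_21_1 lc_f_rc_10_3 lc_f_rc_5_3 lc_f_rc_20_1 lc_f_rc_17_3 lc_f_rc_10_1) (@D3.rec (fun _ => (Cert rels S Gen.f)) lc_f_rc_17_1 lc_f_rc_20_1 lc_f_rc_14_3 lc_f_Cert_tree lc_f_rc_20_1 lc_f_rc_14_3 lc_f_rc_21_1 lc_f_rc_10_1 lc_f_rc_19_1 lc_f_rc_17_3 lc_f_rc_17_3 lc_f_rc_20_1 lc_f_rc_5_1 lc_f_rc_14_3 lc_f_rc_17_3 lc_f_Cert_tree lc_f_rc_20_1 lc_f_rc_19_3 lc_f_rc_19_5 lc_f_rc_17_3 lc_f_Cert_tree lc_f_rc_20_1 lc_f_rc_14_3 lc_f_rc_22_1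 lc_f_rc_21_1 lc_f_rc_10_1 lc_f_rc_22_1 lc_f_rc_10_3 lc_f_rc_17_3 lc_f_rc_5_1 lc_f_rc_14_3 lc_f_rc_21_1 lc_f_rc_14_3 lc_f_rc_10_3 lc_f_rc_21_1 lc_f_rc_14_3 lc_f_rc_10_1 lc_f_rc_20_1 lc_f_Cert_tree lc_f_rc_5_3 lc_f_rc_20_1 lc_f_rc_21_1 lc_f_rc_21_1 lc_f_rc_14_3 lc_f_rc_10_1 lc_f_rc_17_3 lc_f_rc_5_3 lc_f_Cert_tree lc_f_rc_20_1 lc_f_rc_19_5 lc_f_rc_14_3 lc_f_rc_5_1 lc_f_rc_5_1 lc_f_rc_14_3 lc_f_rc_5_3 lc_f_rc_19_3 lc_f_rc_19_3 lc_f_rc_19_5 lc_f_rc_10_1 lc_f_rc_14_3 lc_f_rc_5_3 lc_f_rc_10_1) (@D3.rec (fun _ => (Cert rels S Gen.f)) lc_f_rc_5_3 lc_f_rc_20_1 lc_f_rc_5_3 lc_f_rc_20_1 lc_f_rc_10_1 lc_f_Cert_tree lc_f_Cert_tree lc_f_Cert_tree lc_f_rc_20_1 lc_f_rc_14_1 lc_f_rc_20_1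 lc_f_rc_5_3 lc_f_rc_10_3 lc_f_rc_5_1 lc_f_rc_5_3 lc_f_rc_19_3 lc_f_rc_10_1 lc_f_rc_21_1 lc_f_rc_20_1 lc_f_rc_14_3 lc_f_rc_14_3 lc_f_rc_17_3 lc_f_rc_17_1 lc_f_rc_10_3 lc_f_rc_21_1 lc_f_rc_14_3 lc_f_Cert_tree lc_f_rc_5_3 lc_f_rc_20_1 lc_f_rc_10_3 lc_f_rc_17_3 lc_f_rc_14_1 lc_f_rc_20_1 lc_f_rc_14_3 lc_f_rc_19_3 lc_f_rc_21_1 lc_f_Cert_tree lc_f_rc_20_1 lc_f_rc_10_3 lc_f_rc_14_1 lc_f_Cert_tree lc_f_rc_14_3 lc_f_rc_17_3 lc_f_rc_14_3 lc_f_rc_14_3 lc_f_rc_20_1 lc_f_rc_19_1 lc_f_rc_5_3 lc_f_Cert_tree lc_f_rc_21_1 lc_f_rc_20_1 lc_f_rc_20_1 lc_f_rc_17_3 lc_f_rc_21_1 lc_f_rc_17_3 lc_f_rc_5_3 lc_f_rc_14_1 lc_f_rc_21_1 lc_f_rc_20_1 lc_f_rc_10_3 lc_f_rc_14_3 lc_f_Cert_tree)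 (@D3.rec (fun _ => (Cert rels S Gen.f)) lc_f_rc_5_1 lc_f_rc_14_1 lc_f_rc_19_1 lc_f_rc_10_1 lc_f_rc_14_1 lc_f_rc_19_3 lc_f_rc_20_1 lc_f_rc_5_1 lc_f_rc_20_1 lc_f_rc_21_1 lc_f_rc_17_3 lc_f_rc_14_1 lc_f_rc_10_1 lc_f_Cert_tree lc_f_rc_17_3 lc_f_rc_17_3 lc_f_rc_5_3 lc_f_rc_20_1 lc_f_rc_19_3 lc_f_rc_20_1 lc_f_rc_10_3 lc_f_rc_5_1 lc_f_rc_10_1 lc_f_rc_19_5 lc_f_Cert_tree lc_f_rc_20_1 lc_f_rc_5_3 lc_f_rc_20_1 lc_f_Cert_tree lc_f_Cert_tree lc_f_Cert_tree lc_f_rc_20_1 lc_f_rc_14_1 lc_f_rc_5_1 lc_f_rc_20_1 lc_f_rc_10_1 lc_f_rc_5_3 lc_f_rc_17_3 lc_f_rc_20_1 lc_f_rc_14_3 lc_f_rc_10_1 lc_f_rc_20_1 lc_f_rc_17_3 lc_f_rc_21_1 lc_f_rc_20_1 lc_f_rc_20_1 lc_f_rc_17_3 lc_f_rc_19_5 lc_f_rc_14_3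 lc_f_rc_21_1 lc_f_rc_20_1 lc_f_rc_17_3 lc_f_rc_21_1 lc_f_rc_20_1 lc_f_rc_20_1 lc_f_rc_14_1 lc_f_rc_19_3 lc_f_rc_21_1 lc_f_rc_20_1 lc_f_rc_14_3 lc_f_rc_20_1 lc_f_rc_21_1) (@D3.rec (fun _ => (Cert rels S Gen.f)) lc_f_rc_14_3 lc_f_rc_17_3 lc_f_rc_14_3 lc_f_rc_14_3 lc_f_rc_17_1 lc_f_rc_20_1 lc_f_rc_21_1 lc_f_rc_20_1 lc_f_rc_19_1 lc_f_rc_21_1 lc_f_rc_20_1 lc_f_rc_20_1 lc_f_rc_14_3 lc_f_rc_21_1 lc_f_rc_20_1 lc_f_rc_20_1 lc_f_rc_5_1 lc_f_rc_17_3 lc_f_rc_14_3 lc_f_rc_5_1 lc_f_rc_19_3 lc_f_rc_10_3 lc_f_rc_14_3 lc_f_rc_19_1 lc_f_rc_17_3 lc_f_rc_14_3 lc_f_rc_19_3 lc_f_rc_10_1 lc_f_rc_10_3 lc_f_rc_21_1 lc_f_rc_5_1 lc_f_rc_5_3 lc_f_rc_20_1 lc_f_rc_10_1 lc_f_Cert_tree lc_f_Cert_tree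 lc_f_rc_14_3 lc_f_rc_20_1 lc_f_rc_20_1 lc_f_rc_20_1 lc_f_rc_20_1 lc_f_rc_10_3 lc_f_rc_14_1 lc_f_rc_17_3 lc_f_rc_14_1 lc_f_rc_20_1 lc_f_rc_17_3 lc_f_rc_20_1 lc_f_rc_20_1 lc_f_rc_20_1 lc_f_rc_10_3 lc_f_rc_17_3 lc_f_rc_5_1 lc_f_rc_10_3 lc_f_rc_5_1 lc_f_rc_20_1 lc_f_Cert_tree lc_f_rc_20_1 lc_f_rc_19_3 lc_f_rc_10_3 lc_f_rc_17_3 lc_f_rc_20_1) (@D3.rec (fun _ => (Cert rels S Gen.f)) lc_f_rc_10_3 lc_f_rc_19_1 lc_f_rc_5_1 lc_f_rc_19_5 lc_f_rc_5_3 lc_f_rc_20_1 lc_f_rc_10_1 lc_f_rc_17_3 lc_f_Cert_tree lc_f_Cert_tree lc_f_rc_20_1 lc_f_rc_14_1 lc_f_rc_20_1 lc_f_rc_5_3 lc_f_rc_10_3 lc_f_rc_21_1 lc_f_rc_10_3 lc_f_rc_10_1 lc_f_rc_20_1 lc_f_rc_21_1 lc_f_rc_17_3 lc_f_rc_20_1 lc_f_rc_20_1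 lc_f_rc_19_3 lc_f_rc_10_3 lc_f_rc_10_3 lc_f_rc_21_1 lc_f_rc_17_3 lc_f_rc_20_1 lc_f_rc_10_3 lc_f_rc_20_1 lc_f_rc_19_3 lc_f_rc_17_1 lc_f_rc_21_1 lc_f_rc_17_1 lc_f_rc_14_3 lc_f_rc_10_3 lc_f_rc_14_1 lc_f_rc_20_1 lc_f_rc_21_1 lc_f_rc_17_1 lc_f_Cert_tree lc_f_rc_21_1 lc_f_rc_20_1 lc_f_rc_21_1 lc_f_rc_19_5 lc_f_rc_10_3 lc_f_rc_22_1 lc_f_rc_20_1 lc_f_rc_17_3 lc_f_rc_20_1 lc_f_rc_10_3 lc_f_rc_20_1 lc_f_rc_17_3 lc_f_rc_5_3 lc_f_Cert_tree lc_f_rc_21_1 lc_f_rc_5_3 lc_f_rc_20_1 lc_f_rc_20_1 lc_f_Cert_tree lc_f_rc_19_3) (@D3.rec (fun _ => (Cert rels S Gen.f)) lc_f_rc_17_3 lc_f_rc_20_1 lc_f_rc_20_1 lc_f_rc_5_1 lc_f_rc_21_1 lc_f_Cert_tree lc_f_rc_5_1 lc_f_rc_10_1 lc_f_rc_10_3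 lc_f_rc_14_3 lc_f_rc_19_3 lc_f_rc_17_3 lc_f_rc_20_1 lc_f_rc_5_3 lc_f_rc_20_1 lc_f_rc_17_1 lc_f_rc_17_3 lc_f_rc_20_1 lc_f_rc_5_1 lc_f_rc_17_1 lc_f_rc_5_3 lc_f_rc_10_3 lc_f_rc_10_1 lc_f_Cert_tree lc_f_rc_17_3 lc_f_rc_21_1 lc_f_rc_20_1 lc_f_rc_5_1 lc_f_rc_5_3 lc_f_rc_17_3 lc_f_rc_17_3 lc_f_rc_17_3 lc_f_rc_17_3 lc_f_rc_5_3 lc_f_rc_20_1 lc_f_rc_10_3 lc_f_rc_21_1 lc_f_rc_22_1 lc_f_rc_20_1 lc_f_rc_21_1 lc_f_rc_17_3 lc_f_rc_14_3 lc_f_rc_14_3 lc_f_rc_14_1 lc_f_Cert_tree lc_f_rc_20_1 lc_f_rc_19_3 lc_f_Cert_tree lc_f_rc_14_3 lc_f_rc_14_3 lc_f_rc_20_1 lc_f_rc_17_3 lc_f_rc_10_3 lc_f_rc_5_3 lc_f_rc_17_3 lc_f_rc_5_1 lc_f_rc_10_3 lc_f_rc_5_3 lc_f_rc_17_3 lc_f_rc_10_1 lc_f_Cert_tree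 lc_f_rc_14_3) (@D3.rec (fun _ => (Cert rels S Gen.f)) lc_f_rc_14_3 lc_f_rc_21_1 lc_f_rc_22_1 lc_f_Cert_tree lc_f_rc_17_3 lc_f_rc_17_1 lc_f_rc_17_3 lc_f_Cert_tree lc_f_rc_14_3 lc_f_rc_5_1 lc_f_rc_14_3 lc_f_Cert_tree lc_f_rc_19_3 lc_f_rc_19_3 lc_f_Cert_tree lc_f_rc_20_1 lc_f_rc_21_1 lc_f_rc_20_1 lc_f_rc_10_3 lc_f_rc_10_3 lc_f_rc_20_1 lc_f_rc_10_3 lc_f_rc_17_3 lc_f_rc_19_5 lc_f_rc_5_1 lc_f_rc_14_3 lc_f_rc_14_1 lc_f_rc_17_1 lc_f_rc_19_3 lc_f_rc_21_1 lc_f_rc_17_1 lc_f_rc_17_1 lc_f_rc_17_3 lc_f_rc_10_3 lc_f_rc_5_1 lc_f_rc_10_3 lc_f_rc_14_3 lc_f_rc_5_3 lc_f_rc_22_1 lc_f_rc_17_3 lc_f_Cert_tree lc_f_rc_10_3 lc_f_rc_14_1 lc_f_rc_10_3 lc_f_Cert_tree lc_f_rc_14_1 lc_f_rc_14_1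 lc_f_Cert_tree lc_f_rc_20_1 lc_f_rc_14_3 lc_f_rc_21_1 lc_f_Cert_tree lc_f_rc_20_1 lc_f_rc_10_3 lc_f_rc_21_1 lc_f_rc_20_1 lc_f_rc_17_3 lc_f_rc_21_1 lc_f_Cert_tree lc_f_rc_20_1 lc_f_rc_10_3 lc_f_rc_17_3) (@D3.rec (fun _ => (Cert rels S Gen.f)) lc_f_rc_19_3 lc_f_rc_19_3 lc_f_rc_10_3 lc_f_rc_17_3 lc_f_rc_17_3 lc_f_rc_14_3 lc_f_rc_21_1 lc_f_rc_10_3 lc_f_rc_5_1 lc_f_rc_5_3 lc_f_Cert_tree lc_f_rc_14_3 lc_f_rc_10_1 lc_f_rc_10_3 lc_f_rc_14_3 lc_f_Cert_tree lc_f_rc_20_1 lc_f_rc_21_1 lc_f_rc_14_3 lc_f_rc_17_1 lc_f_rc_20_1 lc_f_rc_21_1 lc_f_rc_10_3 lc_f_rc_17_1 lc_f_rc_5_3 lc_f_rc_21_1 lc_f_Cert_tree lc_f_rc_20_1 lc_f_rc_10_3 lc_f_rc_17_3 lc_f_rc_20_1 lc_f_rc_20_1 lc_f_rc_17_1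 lc_f_rc_14_3 lc_f_rc_21_1 lc_f_rc_14_3 lc_f_rc_21_1 lc_f_rc_10_3 lc_f_rc_17_3 lc_f_rc_10_3 lc_f_rc_17_3 lc_f_rc_17_3 lc_f_rc_14_3 lc_f_rc_10_3 lc_f_rc_14_3 lc_f_rc_17_1 lc_f_rc_5_3 lc_f_rc_10_3 lc_f_rc_5_1 lc_f_Cert_tree lc_f_rc_14_3 lc_f_rc_21_1 lc_f_rc_10_1 lc_f_rc_17_1 lc_f_rc_21_1 lc_f_Cert_tree lc_f_rc_20_1 lc_f_rc_10_3 lc_f_rc_17_3 lc_f_rc_14_3 lc_f_rc_21_1 lc_f_rc_20_1) (@D3.rec (fun _ => (Cert rels S Gen.f)) lc_f_rc_10_1 lc_f_rc_17_3 lc_f_rc_14_3 lc_f_rc_5_3 lc_f_rc_5_1 lc_f_rc_5_1 lc_f_rc_5_1 lc_f_rc_10_1 lc_f_rc_14_1 lc_f_rc_10_1 lc_f_rc_10_3 lc_f_rc_20_1 lc_f_rc_5_3 lc_f_rc_14_3 lc_f_rc_5_1 lc_f_rc_14_3 lc_f_rc_14_1 lc_f_rc_17_1 lc_f_rc_17_1 lc_f_rc_21_1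 lc_f_rc_14_3 lc_f_rc_17_1 lc_f_rc_20_1 lc_f_rc_17_1 lc_f_rc_17_1 lc_f_rc_10_3 lc_f_rc_14_3 lc_f_rc_10_3 lc_f_rc_17_3 lc_f_rc_5_1 lc_f_rc_5_1 lc_f_rc_17_1 lc_f_rc_14_1 lc_f_rc_5_3 lc_f_rc_20_1 lc_f_rc_5_1 lc_f_rc_14_3 lc_f_rc_10_1 lc_f_rc_10_3 lc_f_rc_5_1 lc_f_rc_10_1 lc_f_rc_10_3 lc_f_rc_19_3 lc_f_rc_10_3 lc_f_rc_10_1 lc_f_rc_20_1 lc_f_rc_10_3 lc_f_rc_5_3 lc_f_rc_20_1 lc_f_rc_14_3 lc_f_rc_10_3 lc_f_rc_14_3 lc_f_rc_17_3 lc_f_rc_17_3 lc_f_rc_20_1 lc_f_rc_14_3 lc_f_rc_14_3 lc_f_rc_17_1 lc_f_rc_20_1 lc_f_rc_10_3 lc_f_Cert_tree lc_f_rc_19_3) (@D3.rec (fun _ => (Cert rels S Gen.f)) lc_f_rc_20_1 lc_f_rc_22_1 lc_f_rc_20_1 lc_f_rc_14_3 lc_f_rc_17_1 lc_f_rc_21_1 lc_f_rc_17_1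 lc_f_rc_5_3 lc_f_rc_14_1 lc_f_rc_21_1 lc_f_Cert_tree lc_f_rc_20_1 lc_f_rc_14_1 lc_f_Cert_tree lc_f_rc_14_1 lc_f_rc_14_1 lc_f_rc_10_3 lc_f_rc_17_3 lc_f_rc_10_3 lc_f_Cert_tree lc_f_rc_14_3 lc_f_rc_14_1 lc_f_rc_20_1 lc_f_rc_17_3 lc_f_rc_21_1 lc_f_rc_17_3 lc_f_rc_17_3 lc_f_rc_14_3 lc_f_Cert_tree lc_f_rc_20_1 lc_f_rc_10_3 lc_f_rc_14_3 lc_f_rc_10_1 lc_f_rc_17_3 lc_f_rc_10_3 lc_f_Cert_tree lc_f_rc_20_1 lc_f_rc_10_3 lc_f_rc_17_3 lc_f_rc_14_1 lc_f_rc_10_3 lc_f_rc_17_3 lc_f_rc_14_1 lc_f_rc_10_3 lc_f_rc_21_1 lc_f_rc_19_5 lc_f_rc_10_3 lc_f_rc_17_3 lc_f_rc_14_1 lc_f_rc_21_1 lc_f_rc_17_3 lc_f_rc_14_3 lc_f_rc_22_1 lc_f_rc_14_1 lc_f_rc_19_5 lc_f_rc_10_3 lc_f_rc_20_1 lc_f_rc_19_5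 lc_f_rc_21_1 lc_f_rc_21_1 lc_f_rc_17_3 lc_f_rc_10_3) (@D3.rec (fun _ => (Cert rels S Gen.f)) lc_f_rc_20_1 lc_f_rc_20_1 lc_f_rc_5_1 lc_f_rc_14_3 lc_f_rc_14_3 lc_f_rc_14_1 lc_f_Cert_tree lc_f_rc_14_3 lc_f_rc_10_3 lc_f_rc_5_1 lc_f_Cert_tree lc_f_Cert_tree lc_f_rc_19_5 lc_f_rc_10_3 lc_f_rc_17_1 lc_f_rc_20_1 lc_f_rc_17_1 lc_f_rc_20_1 lc_f_rc_19_3 lc_f_rc_10_3 lc_f_rc_21_1 lc_f_rc_20_1 lc_f_rc_20_1 lc_f_rc_17_3 lc_f_rc_20_1 lc_f_rc_20_1 lc_f_rc_14_3 lc_f_rc_17_1 lc_f_rc_17_1 lc_f_rc_17_3 lc_f_Cert_tree lc_f_rc_17_3 lc_f_rc_20_1 lc_f_rc_14_3 lc_f_rc_5_1 lc_f_rc_17_3 lc_f_Cert_tree lc_f_rc_21_1 lc_f_Cert_tree lc_f_rc_20_1 lc_f_rc_14_3 lc_f_rc_10_3 lc_f_rc_14_3 lc_f_rc_20_1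 lc_f_rc_20_1 lc_f_rc_10_1 lc_f_rc_14_3 lc_f_rc_21_1 lc_f_Cert_tree lc_f_rc_19_5 lc_f_rc_20_1 lc_f_Cert_tree lc_f_rc_20_1 lc_f_rc_10_3 lc_f_rc_10_3 lc_f_rc_17_1 lc_f_rc_20_1 lc_f_rc_10_3 lc_f_rc_17_1 lc_f_rc_17_3 lc_f_rc_21_1 lc_f_rc_19_5) (@D3.rec (fun _ => (Cert rels S Gen.f)) lc_f_rc_10_3 lc_f_rc_5_1 lc_f_rc_10_3 lc_f_Cert_tree lc_f_Cert_tree lc_f_rc_17_1 lc_f_rc_10_1 lc_f_rc_22_1 lc_f_rc_20_1 lc_f_rc_17_3 lc_f_rc_17_3 lc_f_Cert_tree lc_f_rc_20_1 lc_f_rc_10_3 lc_f_rc_20_1 lc_f_rc_19_3 lc_f_rc_20_1 lc_f_rc_5_1 lc_f_rc_14_3 lc_f_rc_10_1 lc_f_rc_17_3 lc_f_rc_10_3 lc_f_Cert_tree lc_f_rc_5_3 lc_f_rc_14_1 lc_f_rc_20_1 lc_f_rc_10_3 lc_f_rc_17_1 lc_f_rc_17_3 lc_f_rc_21_1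 lc_f_rc_10_3 lc_f_rc_17_3 lc_f_rc_17_3 lc_f_rc_17_3 lc_f_rc_17_3 lc_f_rc_22_1 lc_f_rc_14_3 lc_f_Cert_tree lc_f_rc_14_3 lc_f_Cert_tree lc_f_rc_21_1 lc_f_rc_17_3 lc_f_rc_14_3 lc_f_Cert_tree lc_f_rc_21_1 lc_f_rc_20_1 lc_f_rc_20_1 lc_f_rc_21_1 lc_f_rc_20_1 lc_f_rc_10_3 lc_f_rc_14_3 lc_f_rc_17_3 lc_f_rc_14_3 lc_f_rc_10_1 lc_f_rc_17_1 lc_f_rc_22_1 lc_f_Cert_tree lc_f_rc_21_1 lc_f_rc_17_3 lc_f_Cert_tree lc_f_rc_14_3 lc_f_Cert_tree) (@D3.rec (fun _ => (Cert rels S Gen.f)) lc_f_rc_14_3 lc_f_rc_14_3 lc_f_rc_10_3 lc_f_rc_22_1 lc_f_rc_19_3 lc_f_rc_5_3 lc_f_rc_21_1 lc_f_rc_21_1 lc_f_rc_19_3 lc_f_rc_5_3 lc_f_rc_14_3 lc_f_rc_10_3 lc_f_rc_21_1 lc_f_rc_17_3 lc_f_rc_20_1 lc_f_rc_19_5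 lc_f_rc_21_1 lc_f_rc_14_3 lc_f_Cert_tree lc_f_rc_21_1 lc_f_Cert_tree lc_f_rc_20_1 lc_f_rc_10_3 lc_f_rc_17_1 lc_f_rc_17_3 lc_f_rc_21_1 lc_f_rc_20_1 lc_f_rc_17_3 lc_f_rc_10_3 lc_f_Cert_tree lc_f_rc_14_1 lc_f_rc_17_1 lc_f_rc_14_3 lc_f_rc_19_3 lc_f_rc_10_3 lc_f_rc_14_3 lc_f_rc_19_3 lc_f_rc_17_3 lc_f_rc_17_3 lc_f_rc_21_1 lc_f_rc_5_1 lc_f_Cert_tree lc_f_rc_19_3 lc_f_rc_14_3 lc_f_rc_14_3 lc_f_rc_17_1 lc_f_rc_10_1 lc_f_rc_14_3 lc_f_rc_21_1 lc_f_rc_21_1 lc_f_rc_14_3 lc_f_rc_14_3 lc_f_rc_5_1 lc_f_rc_5_3 lc_f_rc_14_3 lc_f_rc_20_1 lc_f_rc_14_3 lc_f_rc_10_3 lc_f_rc_21_1 lc_f_rc_5_3 lc_f_rc_20_1 lc_f_rc_14_3) (@D3.rec (fun _ => (Cert rels S Gen.f)) lc_f_Cert_tree lc_f_rc_10_3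 lc_f_rc_14_3 lc_f_Cert_tree lc_f_rc_20_1 lc_f_rc_17_3 lc_f_rc_22_1 lc_f_rc_19_5 lc_f_rc_19_3 lc_f_rc_14_1 lc_f_rc_21_1 lc_f_Cert_tree lc_f_rc_10_3 lc_f_rc_19_3 lc_f_rc_5_3 lc_f_rc_5_3 lc_f_rc_19_1 lc_f_rc_14_3 lc_f_rc_19_5 lc_f_rc_17_3 lc_f_rc_21_1 lc_f_rc_21_1 lc_f_rc_17_3 lc_f_rc_14_3 lc_f_rc_5_1 lc_f_rc_14_3 lc_f_rc_22_1 lc_f_rc_14_3 lc_f_rc_14_3 lc_f_Cert_tree lc_f_rc_20_1 lc_f_rc_19_1 lc_f_rc_14_3 lc_f_rc_19_5 lc_f_rc_21_1 lc_f_rc_19_3 lc_f_rc_17_3 lc_f_Cert_tree lc_f_rc_20_1 lc_f_rc_20_1 lc_f_rc_5_1 lc_f_rc_21_1 lc_f_rc_10_1 lc_f_rc_22_1 lc_f_Cert_tree lc_f_rc_21_1 lc_f_rc_20_1 lc_f_rc_14_3 lc_f_rc_17_3 lc_f_rc_10_1 lc_f_rc_21_1 lc_f_rc_17_1 lc_f_rc_17_3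 lc_f_rc_10_3 lc_f_rc_17_3 lc_f_rc_19_3 lc_f_rc_22_1 lc_f_rc_10_3 lc_f_rc_17_3 lc_f_rc_21_1 lc_f_rc_10_3 lc_f_rc_14_3) (@D3.rec (fun _ => (Cert rels S Gen.f)) lc_f_rc_21_1 lc_f_rc_17_3 lc_f_rc_14_1 lc_f_rc_20_1 lc_f_rc_5_3 lc_f_rc_20_1 lc_f_rc_17_3 lc_f_rc_10_3 lc_f_rc_17_1 lc_f_rc_10_3 lc_f_rc_14_3 lc_f_Cert_tree lc_f_rc_19_3 lc_f_rc_17_3 lc_f_rc_19_3 lc_f_rc_20_1 lc_f_rc_17_3 lc_f_rc_22_1 lc_f_rc_22_1 lc_f_rc_10_3 lc_f_rc_5_3 lc_f_rc_21_1 lc_f_rc_10_3 lc_f_rc_17_3 lc_f_rc_10_1 lc_f_rc_19_5 lc_f_rc_17_3 lc_f_rc_5_3 lc_f_rc_19_3 lc_f_rc_21_1 lc_f_rc_14_3 lc_f_rc_10_3 lc_f_rc_5_1 lc_f_rc_14_3 lc_f_Cert_tree lc_f_rc_20_1 lc_f_rc_14_3 lc_f_rc_10_3 lc_f_rc_17_3 lc_f_rc_20_1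 lc_f_rc_17_3 lc_f_Cert_tree lc_f_rc_20_1 lc_f_rc_10_3 lc_f_rc_21_1 lc_f_rc_20_1 lc_f_rc_20_1 lc_f_rc_21_1 lc_f_rc_19_5 lc_f_rc_5_3 lc_f_rc_14_3 lc_f_rc_17_3 lc_f_rc_17_3 lc_f_rc_17_3 lc_f_rc_10_1 lc_f_rc_10_3 lc_f_rc_20_1 lc_f_rc_10_3 lc_f_rc_19_1 lc_f_rc_19_3 lc_f_rc_20_1 lc_f_rc_20_1) (@D3.rec (fun _ => (Cert rels S Gen.f)) lc_f_Cert_tree lc_f_rc_20_1 lc_f_rc_14_3 lc_f_rc_10_3 lc_f_rc_14_3 lc_f_rc_14_3 lc_f_rc_17_3 lc_f_rc_21_1 lc_f_rc_14_3 lc_f_Cert_tree lc_f_rc_14_3 lc_f_rc_17_1 lc_f_rc_20_1 lc_f_rc_21_1 lc_f_rc_17_3 lc_f_rc_17_1 lc_f_rc_19_3 lc_f_rc_5_1 lc_f_rc_17_3 lc_f_rc_20_1 lc_f_rc_20_1 lc_f_rc_20_1 lc_f_rc_14_1 lc_f_Cert_tree lc_f_rc_5_1 lc_f_rc_17_1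 lc_f_rc_20_1 lc_f_rc_21_1 lc_f_rc_14_3 lc_f_rc_19_3 lc_f_rc_10_3 lc_f_rc_10_3 lc_f_rc_19_5 lc_f_rc_22_1 lc_f_rc_19_3 lc_f_Cert_tree lc_f_rc_5_3 lc_f_rc_21_1 lc_f_rc_19_3 lc_f_rc_20_1 lc_f_rc_20_1 lc_f_rc_14_1 lc_f_rc_21_1 lc_f_Cert_tree lc_f_rc_20_1 lc_f_rc_21_1 lc_f_rc_10_3 lc_f_rc_10_1 lc_f_Cert_tree lc_f_rc_14_1 lc_f_rc_10_3 lc_f_rc_10_1 lc_f_rc_5_3 lc_f_rc_10_3 lc_f_rc_10_3 lc_f_rc_5_3 lc_f_rc_14_3 lc_f_rc_17_3 lc_f_Cert_tree lc_f_rc_20_1 lc_f_rc_17_3 lc_f_rc_14_3) (@D3.rec (fun _ => (Cert rels S Gen.f)) lc_f_rc_10_3 lc_f_rc_19_3 lc_f_rc_20_1 lc_f_rc_17_3 lc_f_rc_20_1 lc_f_rc_21_1 lc_f_rc_17_3 lc_f_Cert_tree lc_f_rc_17_3 lc_f_rc_5_1 lc_f_rc_17_1 lc_f_rc_20_1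 lc_f_rc_21_1 lc_f_rc_20_1 lc_f_rc_17_3 lc_f_rc_20_1 lc_f_rc_17_3 lc_f_rc_17_3 lc_f_rc_20_1 lc_f_rc_17_3 lc_f_rc_21_1 lc_f_rc_17_3 lc_f_rc_10_3 lc_f_Cert_tree lc_f_rc_10_3 lc_f_rc_17_3 lc_f_rc_20_1 lc_f_rc_5_3 lc_f_rc_20_1 lc_f_rc_14_3 lc_f_rc_17_1 lc_f_rc_20_1 lc_f_rc_17_3 lc_f_rc_17_3 lc_f_rc_14_3 lc_f_rc_17_3 lc_f_rc_21_1 lc_f_rc_14_3 lc_f_Cert_tree lc_f_rc_10_1 lc_f_rc_17_3 lc_f_rc_14_3 lc_f_Cert_tree lc_f_rc_19_3 lc_f_rc_21_1 lc_f_rc_5_3 lc_f_rc_10_1 lc_f_rc_10_1 lc_f_rc_10_1 lc_f_rc_14_1 lc_f_rc_20_1 lc_f_rc_17_3 lc_f_rc_17_1 lc_f_rc_20_1 lc_f_rc_5_3 lc_f_rc_17_3 lc_f_rc_14_1 lc_f_rc_10_3 lc_f_Cert_tree lc_f_rc_21_1 lc_f_rc_5_1 lc_f_rc_20_1) (@D3.rec (fun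 _ => (Cert rels S Gen.f)) lc_f_rc_17_3 lc_f_rc_21_1 lc_f_rc_5_1 lc_f_rc_20_1 lc_f_rc_5_3 lc_f_rc_20_1 lc_f_rc_20_1 lc_f_Cert_tree lc_f_rc_21_1 lc_f_rc_19_3 lc_f_rc_20_1 lc_f_Cert_tree lc_f_Cert_tree lc_f_rc_5_1 lc_f_rc_14_3 lc_f_Cert_tree lc_f_rc_20_1 lc_f_rc_14_1 lc_f_rc_14_1 lc_f_rc_19_1 lc_f_rc_20_1 lc_f_rc_20_1 lc_f_rc_10_1 lc_f_rc_14_1 lc_f_rc_14_1 lc_f_rc_20_1 lc_f_rc_14_3 lc_f_rc_14_3 lc_f_rc_19_5 lc_f_rc_20_1 lc_f_rc_14_3 lc_f_rc_19_5 lc_f_rc_10_1 lc_f_rc_20_1 lc_f_rc_5_3 lc_f_rc_14_1 lc_f_Cert_tree lc_f_rc_20_1 lc_f_rc_19_3 lc_f_rc_5_3 lc_f_rc_20_1 lc_f_rc_17_3 lc_f_rc_5_1 lc_f_rc_20_1 lc_f_rc_21_1 lc_f_rc_14_3 lc_f_rc_5_1 lc_f_rc_17_3 lc_f_Cert_tree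 lc_f_rc_14_3 lc_f_rc_20_1 lc_f_rc_10_3 lc_f_rc_5_3 lc_f_rc_20_1 lc_f_rc_10_3 lc_f_rc_14_3 lc_f_Cert_tree lc_f_rc_14_3 lc_f_rc_5_1 lc_f_rc_10_1 lc_f_rc_17_1 lc_f_rc_20_1) (@D3.rec (fun _ => (Cert rels S Gen.f)) lc_f_rc_19_3 lc_f_rc_10_3 lc_f_rc_22_1 lc_f_rc_20_1 lc_f_rc_10_3 lc_f_Cert_tree lc_f_rc_17_3 lc_f_rc_14_1 lc_f_rc_21_1 lc_f_rc_20_1 lc_f_rc_20_1 lc_f_rc_14_3 lc_f_rc_19_3 lc_f_rc_20_1 lc_f_rc_14_1 lc_f_rc_14_3 lc_f_rc_21_1 lc_f_rc_20_1 lc_f_rc_14_3 lc_f_rc_17_1 lc_f_rc_10_1 lc_f_rc_10_3 lc_f_rc_5_1 lc_f_rc_20_1 lc_f_rc_14_1 lc_f_rc_14_1 lc_f_rc_21_1 lc_f_rc_5_1 lc_f_rc_17_1 lc_f_rc_20_1 lc_f_Cert_tree lc_f_rc_19_3 lc_f_rc_19_5 lc_f_rc_10_3 lc_f_rc_21_1 lc_f_rc_17_3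 lc_f_rc_17_3 lc_f_Cert_tree lc_f_rc_20_1 lc_f_rc_21_1 lc_f_rc_20_1 lc_f_Cert_tree lc_f_rc_19_3 lc_f_rc_19_1 lc_f_rc_5_1 lc_f_rc_20_1 lc_f_rc_10_1 lc_f_Cert_tree lc_f_rc_20_1 lc_f_rc_14_1 lc_f_Cert_tree lc_f_rc_20_1 lc_f_rc_17_3 lc_f_Cert_tree lc_f_rc_14_1 lc_f_rc_19_3 lc_f_rc_17_3 lc_f_rc_17_1 lc_f_rc_20_1 lc_f_rc_10_3 lc_f_rc_17_3 lc_f_rc_10_1) (@D3.rec (fun _ => (Cert rels S Gen.f)) lc_f_rc_21_1 lc_f_rc_20_1 lc_f_rc_19_3 lc_f_rc_10_3 lc_f_rc_20_1 lc_f_rc_17_3 lc_f_rc_14_3 lc_f_rc_10_1 lc_f_rc_20_1 lc_f_Cert_tree lc_f_rc_10_3 lc_f_rc_14_1 lc_f_rc_19_3 lc_f_rc_21_1 lc_f_rc_20_1 lc_f_rc_14_3 lc_f_rc_14_1 lc_f_rc_17_3 lc_f_rc_21_1 lc_f_rc_20_1 lc_f_rc_17_3 lc_f_rc_17_3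 lc_f_rc_5_1 lc_f_rc_14_3 lc_f_rc_19_3 lc_f_rc_19_3 lc_f_rc_19_1 lc_f_rc_10_3 lc_f_rc_22_1 lc_f_rc_20_1 lc_f_rc_14_3 lc_f_rc_20_1 lc_f_rc_20_1 lc_f_rc_20_1 lc_f_rc_17_1 lc_f_rc_20_1 lc_f_rc_19_3 lc_f_rc_20_1 lc_f_rc_17_3 lc_f_rc_20_1 lc_f_rc_14_3 lc_f_rc_17_1 lc_f_rc_21_1 lc_f_rc_20_1 lc_f_rc_14_1 lc_f_rc_17_3 lc_f_rc_14_3 lc_f_rc_17_1 lc_f_rc_21_1 lc_f_rc_14_3 lc_f_rc_20_1 lc_f_rc_14_3 lc_f_rc_10_3 lc_f_rc_19_5 lc_f_rc_17_1 lc_f_rc_21_1 lc_f_rc_22_1 lc_f_rc_14_3 lc_f_rc_21_1 lc_f_rc_19_3 lc_f_rc_5_1 lc_f_Cert_tree) (@D3.rec (fun _ => (Cert rels S Gen.f)) lc_f_rc_20_1 lc_f_rc_21_1 lc_f_Cert_tree lc_f_rc_20_1 lc_f_rc_19_3 lc_f_rc_10_3 lc_f_rc_14_1 lc_f_rc_20_1 lc_f_rc_14_1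 lc_f_rc_17_3 lc_f_rc_17_3 lc_f_rc_20_1 lc_f_rc_5_1 lc_f_rc_10_3 lc_f_Cert_tree lc_f_rc_20_1 lc_f_rc_14_3 lc_f_rc_10_1 lc_f_rc_21_1 lc_f_rc_10_3 lc_f_rc_21_1 lc_f_rc_22_1 lc_f_rc_10_3 lc_f_rc_21_1 lc_f_rc_10_1 lc_f_rc_20_1 lc_f_rc_20_1 lc_f_rc_21_1 lc_f_rc_20_1 lc_f_rc_5_1 lc_f_rc_10_3 lc_f_rc_20_1 lc_f_rc_10_3 lc_f_rc_19_3 lc_f_rc_14_3 lc_f_rc_21_1 lc_f_rc_17_3 lc_f_rc_14_3 lc_f_rc_5_1 lc_f_rc_21_1 lc_f_rc_17_3 lc_f_rc_5_3 lc_f_rc_19_5 lc_f_rc_19_5 lc_f_rc_20_1 lc_f_rc_19_3 lc_f_rc_14_1 lc_f_rc_10_1 lc_f_rc_14_1 lc_f_rc_10_3 lc_f_rc_21_1 lc_f_Cert_tree lc_f_rc_20_1 lc_f_rc_5_3 lc_f_rc_17_3 lc_f_rc_14_1 lc_f_rc_20_1 lc_f_rc_10_3 lc_f_rc_20_1 lc_f_rc_20_1 lc_f_rc_17_3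 lc_f_rc_20_1) (@D3.rec (fun _ => (Cert rels S Gen.f)) lc_f_rc_19_3 lc_f_rc_17_3 lc_f_rc_21_1 lc_f_rc_5_1 lc_f_rc_19_3 lc_f_rc_21_1 lc_f_rc_19_1 lc_f_rc_20_1 lc_f_Cert_tree lc_f_rc_5_3 lc_f_rc_14_3 lc_f_rc_14_3 lc_f_rc_10_1 lc_f_rc_21_1 lc_f_rc_20_1 lc_f_rc_19_1 lc_f_rc_17_1 lc_f_rc_17_3 lc_f_rc_14_3 lc_f_rc_17_3 lc_f_rc_20_1 lc_f_rc_20_1 lc_f_rc_20_1 lc_f_rc_10_3 lc_f_rc_17_3 lc_f_rc_19_3 lc_f_rc_20_1 lc_f_rc_10_3 lc_f_rc_19_1 lc_f_rc_19_5 lc_f_rc_20_1 lc_f_rc_20_1 lc_f_rc_10_1 lc_f_rc_17_3 lc_f_rc_10_3 lc_f_rc_17_3 lc_f_rc_20_1 lc_f_rc_17_3 lc_f_rc_14_3 lc_f_rc_17_3 lc_f_rc_14_1 lc_f_rc_19_5 lc_f_rc_19_1 lc_f_Cert_tree lc_f_rc_20_1 lc_f_rc_14_3 lc_f_rc_20_1 lc_f_rc_17_3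 lc_f_rc_19_5 lc_f_rc_20_1 lc_f_rc_19_1 lc_f_rc_21_1 lc_f_rc_17_3 lc_f_rc_14_1 lc_f_rc_20_1 lc_f_rc_10_3 lc_f_rc_14_3 lc_f_rc_21_1 lc_f_rc_14_3 lc_f_rc_20_1 lc_f_rc_10_3 lc_f_rc_5_1) (@D3.rec (fun _ => (Cert rels S Gen.f)) lc_f_rc_17_3 lc_f_rc_17_3 lc_f_rc_14_3 lc_f_rc_5_1 lc_f_rc_17_3 lc_f_rc_14_3 lc_f_rc_20_1 lc_f_rc_21_1 lc_f_rc_5_3 lc_f_rc_19_3 lc_f_rc_20_1 lc_f_rc_21_1 lc_f_rc_14_3 lc_f_rc_17_1 lc_f_rc_20_1 lc_f_Cert_tree lc_f_rc_21_1 lc_f_rc_14_3 lc_f_Cert_tree lc_f_rc_21_1 lc_f_Cert_tree lc_f_rc_5_3 lc_f_rc_10_3 lc_f_rc_17_3 lc_f_rc_10_3 lc_f_rc_19_3 lc_f_rc_10_3 lc_f_rc_21_1 lc_f_rc_10_1 lc_f_rc_10_3 lc_f_rc_21_1 lc_f_rc_17_1 lc_f_rc_20_1 lc_f_rc_5_1 lc_f_rc_14_3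 lc_f_rc_14_1 lc_f_rc_5_1 lc_f_rc_14_3 lc_f_rc_10_1 lc_f_rc_19_5 lc_f_rc_10_3 lc_f_rc_20_1 lc_f_rc_21_1 lc_f_rc_17_3 lc_f_rc_22_1 lc_f_Cert_tree lc_f_rc_14_3 lc_f_rc_14_1 lc_f_rc_10_3 lc_f_rc_10_1 lc_f_rc_14_3 lc_f_rc_10_3 lc_f_rc_14_3 lc_f_rc_5_1 lc_f_Cert_tree lc_f_Cert_tree lc_f_rc_22_1 lc_f_rc_20_1 lc_f_rc_20_1 lc_f_rc_20_1 lc_f_rc_10_3 lc_f_rc_5_1) (@D3.rec (fun _ => (Cert rels S Gen.f)) lc_f_rc_14_3 lc_f_rc_10_3 lc_f_rc_19_3 lc_f_rc_5_3 lc_f_rc_20_1 lc_f_rc_20_1 lc_f_rc_21_1 lc_f_rc_17_3 lc_f_rc_20_1 lc_f_rc_5_3 lc_f_rc_20_1 lc_f_rc_17_3 lc_f_rc_10_1 lc_f_rc_17_3 lc_f_rc_21_1 lc_f_Cert_tree lc_f_rc_21_1 lc_f_rc_20_1 lc_f_rc_21_1 lc_f_rc_5_1 lc_f_rc_10_3 lc_f_rc_10_3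 lc_f_Cert_tree lc_f_rc_14_3 lc_f_Cert_tree lc_f_rc_20_1 lc_f_rc_14_3 lc_f_rc_17_3 lc_f_rc_20_1 lc_f_rc_21_1 lc_f_Cert_tree lc_f_rc_14_3 lc_f_rc_21_1 lc_f_Cert_tree lc_f_rc_14_3 lc_f_rc_20_1 lc_f_rc_19_3 lc_f_rc_17_3 lc_f_rc_20_1 lc_f_rc_17_3 lc_f_Cert_tree lc_f_rc_14_3 lc_f_rc_10_3 lc_f_rc_14_3 lc_f_rc_14_1 lc_f_rc_14_3 lc_f_rc_17_3 lc_f_rc_14_1 lc_f_Cert_tree lc_f_rc_21_1 lc_f_rc_10_3 lc_f_rc_20_1 lc_f_rc_5_3 lc_f_rc_20_1 lc_f_rc_10_3 lc_f_rc_17_1 lc_f_rc_17_3 lc_f_rc_14_3 lc_f_Cert_tree lc_f_rc_20_1 lc_f_rc_20_1 lc_f_rc_10_3) (@D3.rec (fun _ => (Cert rels S Gen.f)) lc_f_rc_21_1 lc_f_rc_19_5 lc_f_rc_14_3 lc_f_rc_20_1 lc_f_rc_21_1 lc_f_rc_14_3 lc_f_rc_10_3 lc_f_rc_17_3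 lc_f_rc_17_3 lc_f_rc_17_3 lc_f_rc_20_1 lc_f_rc_21_1 lc_f_rc_17_1 lc_f_rc_17_1 lc_f_rc_20_1 lc_f_rc_10_3 lc_f_rc_21_1 lc_f_rc_14_3 lc_f_rc_10_3 lc_f_Cert_tree lc_f_rc_20_1 lc_f_rc_17_3 lc_f_rc_19_3 lc_f_rc_14_3 lc_f_Cert_tree lc_f_rc_10_3 lc_f_rc_17_3 lc_f_rc_14_3 lc_f_rc_19_3 lc_f_rc_14_1 lc_f_rc_20_1 lc_f_rc_14_3 lc_f_rc_10_3 lc_f_rc_17_3 lc_f_rc_10_1 lc_f_rc_17_3 lc_f_rc_17_3 lc_f_rc_14_3 lc_f_Cert_tree lc_f_rc_10_1 lc_f_rc_10_3 lc_f_rc_10_1 lc_f_rc_14_3 lc_f_rc_5_3 lc_f_rc_17_1 lc_f_rc_10_3 lc_f_rc_14_3 lc_f_rc_21_1 lc_f_rc_20_1 lc_f_rc_14_3 lc_f_rc_21_1 lc_f_rc_10_3 lc_f_rc_22_1 lc_f_rc_14_3 lc_f_rc_14_3 lc_f_rc_21_1 lc_f_rc_20_1 lc_f_Cert_tree lc_f_rc_21_1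 lc_f_rc_17_3 lc_f_rc_20_1 lc_f_rc_14_3) (@D3.rec (fun _ => (Cert rels S Gen.f)) lc_f_Cert_tree lc_f_rc_10_3 lc_f_Cert_tree lc_f_rc_21_1 lc_f_rc_17_1 lc_f_rc_20_1 lc_f_Cert_tree lc_f_rc_10_3 lc_f_Cert_tree lc_f_rc_17_1 lc_f_rc_17_3 lc_f_rc_20_1 lc_f_rc_10_3 lc_f_Cert_tree lc_f_rc_21_1 lc_f_rc_20_1 lc_f_rc_20_1 lc_f_rc_10_3 lc_f_rc_14_1 lc_f_rc_10_3 lc_f_Cert_tree lc_f_rc_17_3 lc_f_rc_10_1 lc_f_rc_5_3 lc_f_rc_10_3 lc_f_rc_17_3 lc_f_rc_21_1 lc_f_rc_21_1 lc_f_rc_10_3 lc_f_Cert_tree lc_f_rc_21_1 lc_f_rc_20_1 lc_f_rc_20_1 lc_f_rc_10_3 lc_f_rc_21_1 lc_f_Cert_tree lc_f_rc_17_3 lc_f_Cert_tree lc_f_rc_20_1 lc_f_rc_20_1 lc_f_rc_10_3 lc_f_rc_10_3 lc_f_rc_14_3 lc_f_rc_21_1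 lc_f_rc_20_1 lc_f_rc_10_3 lc_f_rc_5_1 lc_f_rc_10_3 lc_f_rc_20_1 lc_f_rc_10_3 lc_f_rc_17_1 lc_f_rc_19_3 lc_f_rc_14_3 lc_f_rc_21_1 lc_f_rc_19_5 lc_f_rc_20_1 lc_f_rc_14_3 lc_f_rc_14_3 lc_f_rc_10_1 lc_f_rc_17_3 lc_f_rc_10_1 lc_f_rc_14_3) (@D3.rec (fun _ => (Cert rels S Gen.f)) lc_f_rc_14_3 lc_f_rc_20_1 lc_f_rc_14_3 lc_f_rc_17_3 lc_f_rc_21_1 lc_f_rc_20_1 lc_f_rc_17_3 lc_f_rc_17_3 lc_f_rc_10_3 lc_f_rc_21_1 lc_f_rc_20_1 lc_f_rc_14_3 lc_f_rc_5_3 lc_f_rc_17_3 lc_f_rc_14_3 lc_f_rc_19_3 lc_f_Cert_tree lc_f_rc_20_1 lc_f_rc_5_3 lc_f_rc_20_1 lc_f_rc_14_1 lc_f_Cert_tree lc_f_rc_20_1 lc_f_rc_20_1 lc_f_rc_14_1 lc_f_Cert_tree lc_f_rc_21_1 lc_f_rc_10_3 lc_f_rc_20_1 lc_f_rc_17_3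 lc_f_Cert_tree lc_f_rc_17_3 lc_f_rc_10_3 lc_f_rc_14_3 lc_f_rc_14_3 lc_f_rc_5_3 lc_f_rc_10_3 lc_f_rc_10_1 lc_f_rc_22_1 lc_f_rc_14_3 lc_f_rc_21_1 lc_f_rc_19_5 lc_f_rc_20_1 lc_f_rc_10_3 lc_f_rc_21_1 lc_f_rc_5_3 lc_f_rc_10_3 lc_f_rc_14_1 lc_f_rc_21_1 lc_f_rc_20_1 lc_f_rc_17_3 lc_f_Cert_tree lc_f_rc_20_1 lc_f_rc_5_3 lc_f_rc_20_1 lc_f_rc_20_1 lc_f_rc_14_3 lc_f_rc_20_1 lc_f_rc_14_3 lc_f_rc_14_1 lc_f_rc_10_3 lc_f_rc_19_3) (@D3.rec (fun _ => (Cert rels S Gen.f)) lc_f_rc_10_3 lc_f_rc_5_1 lc_f_rc_10_3 lc_f_rc_10_3 lc_f_rc_5_3 lc_f_rc_20_1 lc_f_rc_19_5 lc_f_rc_10_3 lc_f_rc_14_1 lc_f_rc_10_1 lc_f_rc_20_1 lc_f_rc_20_1 lc_f_rc_10_3 lc_f_rc_10_3 lc_f_rc_14_3 lc_f_rc_14_3 lc_f_rc_10_1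 lc_f_rc_14_1 lc_f_Cert_tree lc_f_rc_20_1 lc_f_rc_14_3 lc_f_rc_20_1 lc_f_rc_14_3 lc_f_rc_10_3 lc_f_rc_10_3 lc_f_Cert_tree lc_f_rc_14_1 lc_f_rc_14_3 lc_f_rc_21_1 lc_f_rc_14_3 lc_f_rc_20_1 lc_f_rc_21_1 lc_f_rc_10_3 lc_f_rc_5_1 lc_f_rc_5_3 lc_f_rc_10_3 lc_f_rc_20_1 lc_f_rc_17_3 lc_f_rc_17_3 lc_f_rc_5_3 lc_f_Cert_tree lc_f_rc_17_3 lc_f_Cert_tree lc_f_rc_20_1 lc_f_rc_5_3 lc_f_rc_20_1 lc_f_rc_20_1 lc_f_rc_21_1 lc_f_Cert_tree lc_f_Cert_tree lc_f_rc_20_1 lc_f_rc_14_3 lc_f_rc_14_1 lc_f_rc_20_1 lc_f_rc_14_3 lc_f_rc_10_3 lc_f_rc_14_3 lc_f_rc_14_1 lc_f_rc_17_3 lc_f_rc_19_3 lc_f_rc_19_3 lc_f_rc_10_3) (@D3.rec (fun _ => (Cert rels S Gen.f)) lc_f_Cert_tree lc_f_rc_10_3 lc_f_Cert_tree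 lc_f_rc_14_3 lc_f_rc_10_1 lc_f_rc_20_1 lc_f_rc_17_3 lc_f_rc_10_3 lc_f_rc_5_1 lc_f_rc_5_3 lc_f_rc_10_3 lc_f_rc_17_3 lc_f_rc_19_3 lc_f_rc_5_1 lc_f_rc_14_3 lc_f_rc_5_3 lc_f_rc_10_3 lc_f_Cert_tree lc_f_rc_14_3 lc_f_rc_14_3 lc_f_rc_21_1 lc_f_Cert_tree lc_f_rc_20_1 lc_f_rc_5_1 lc_f_rc_14_3 lc_f_rc_17_3 lc_f_rc_14_3 lc_f_rc_5_3 lc_f_rc_17_3 lc_f_rc_10_3 lc_f_rc_10_3 lc_f_rc_14_3 lc_f_rc_21_1 lc_f_rc_17_3 lc_f_rc_5_1 lc_f_rc_14_3 lc_f_rc_5_3 lc_f_rc_17_1 lc_f_Cert_tree lc_f_Cert_tree lc_f_Cert_tree lc_f_rc_20_1 lc_f_rc_10_3 lc_f_rc_5_1 lc_f_rc_5_3 lc_f_rc_10_3 lc_f_rc_10_3 lc_f_rc_17_3 lc_f_rc_17_3 lc_f_rc_5_1 lc_f_rc_20_1 lc_f_rc_17_1 lc_f_Cert_tree lc_f_rc_20_1 lc_f_rc_10_3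 lc_f_rc_17_1 lc_f_rc_10_3 lc_f_rc_5_1 lc_f_Cert_tree lc_f_rc_17_1 lc_f_rc_21_1 lc_f_rc_14_3) (@D3.rec (fun _ => (Cert rels S Gen.f)) lc_f_rc_10_3 lc_f_rc_5_1 lc_f_Cert_tree lc_f_rc_20_1 lc_f_rc_17_3 lc_f_rc_10_3 lc_f_rc_10_3 lc_f_Cert_tree lc_f_rc_21_1 lc_f_rc_14_1 lc_f_Cert_tree lc_f_rc_20_1 lc_f_rc_10_3 lc_f_rc_21_1 lc_f_rc_10_3 lc_f_rc_17_3 lc_f_rc_14_3 lc_f_rc_17_3 lc_f_rc_5_1 lc_f_Cert_tree lc_f_rc_20_1 lc_f_rc_21_1 lc_f_rc_10_3 lc_f_rc_17_3 lc_f_rc_21_1 lc_f_rc_19_3 lc_f_rc_21_1 lc_f_rc_19_5 lc_f_rc_20_1 lc_f_Cert_tree lc_f_rc_20_1 lc_f_rc_20_1 lc_f_rc_20_1 lc_f_rc_20_1 lc_f_rc_10_3 lc_f_rc_5_1 lc_f_rc_5_3 lc_f_rc_17_3 lc_f_rc_5_1 lc_f_rc_14_1 lc_f_rc_5_1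 lc_f_rc_10_3 lc_f_rc_19_3 lc_f_rc_21_1 lc_f_rc_17_3 lc_f_Cert_tree lc_f_rc_17_3 lc_f_Cert_tree lc_f_rc_5_1 lc_f_rc_10_3 lc_f_rc_17_1 lc_f_Cert_tree lc_f_rc_10_3 lc_f_rc_14_3 lc_f_Cert_tree lc_f_rc_20_1 lc_f_rc_10_1 lc_f_rc_17_3 lc_f_rc_17_1 lc_f_rc_20_1 lc_f_rc_14_3 lc_f_rc_17_1) (@D3.rec (fun _ => (Cert rels S Gen.f)) lc_f_rc_14_3 lc_f_rc_14_3 lc_f_rc_17_1 lc_f_rc_21_1 lc_f_rc_17_3 lc_f_Cert_tree lc_f_rc_20_1 lc_f_rc_21_1 lc_f_rc_14_3 lc_f_rc_10_3 lc_f_rc_14_3 lc_f_rc_14_3 lc_f_rc_21_1 lc_f_rc_5_3 lc_f_Cert_tree lc_f_rc_20_1 lc_f_rc_20_1 lc_f_rc_21_1 lc_f_rc_17_3 lc_f_rc_20_1 lc_f_rc_21_1 lc_f_rc_10_3 lc_f_rc_14_3 lc_f_rc_21_1 lc_f_rc_10_3 lc_f_rc_10_3 lc_f_rc_5_1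 lc_f_rc_5_3 lc_f_rc_20_1 lc_f_rc_21_1 lc_f_rc_17_3 lc_f_rc_10_3 lc_f_rc_10_3 lc_f_rc_5_1 lc_f_rc_10_3 lc_f_rc_14_3 lc_f_rc_21_1 lc_f_rc_10_3 lc_f_rc_21_1 lc_f_rc_20_1 lc_f_rc_20_1 lc_f_rc_17_3 lc_f_Cert_tree lc_f_rc_21_1 lc_f_Cert_tree lc_f_rc_20_1 lc_f_rc_19_3 lc_f_rc_17_3 lc_f_rc_17_3 lc_f_rc_14_3 lc_f_rc_21_1 lc_f_rc_14_3 lc_f_rc_14_3 lc_f_Cert_tree lc_f_rc_20_1 lc_f_rc_14_3 lc_f_rc_17_1 lc_f_rc_14_3 lc_f_rc_10_3 lc_f_rc_17_3 lc_f_rc_19_3 lc_f_rc_21_1) (@D3.rec (fun _ => (Cert rels S Gen.f)) lc_f_rc_14_3 lc_f_rc_10_3 lc_f_rc_17_3 lc_f_rc_17_3 lc_f_rc_19_3 lc_f_rc_17_3 lc_f_Cert_tree lc_f_rc_17_3 lc_f_rc_14_3 lc_f_rc_21_1 lc_f_rc_10_3 lc_f_rc_10_3 lc_f_Cert_tree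 lc_f_rc_20_1 lc_f_rc_14_3 lc_f_rc_14_1 lc_f_Cert_tree lc_f_rc_20_1 lc_f_rc_10_3 lc_f_rc_17_3 lc_f_rc_14_3 lc_f_rc_10_1 lc_f_rc_21_1 lc_f_rc_17_3 lc_f_rc_5_3 lc_f_rc_20_1 lc_f_rc_10_3 lc_f_rc_17_3 lc_f_rc_19_3 lc_f_rc_17_1 lc_f_rc_10_1 lc_f_rc_14_3 lc_f_rc_19_3 lc_f_rc_14_3 lc_f_rc_10_3 lc_f_rc_21_1 lc_f_rc_14_3 lc_f_rc_10_3 lc_f_rc_5_1 lc_f_rc_17_3 lc_f_rc_10_3 lc_f_rc_17_3 lc_f_rc_14_3 lc_f_rc_20_1 lc_f_rc_5_1 lc_f_rc_20_1 lc_f_rc_17_3 lc_f_rc_19_3 lc_f_rc_10_3 lc_f_rc_5_1 lc_f_rc_21_1 lc_f_rc_5_3 lc_f_rc_10_3 lc_f_rc_14_3 lc_f_rc_22_1 lc_f_rc_17_1 lc_f_rc_21_1 lc_f_rc_17_3 lc_f_rc_14_3 lc_f_rc_17_3 lc_f_rc_14_3 lc_f_rc_10_3) (@D3.rec (fun _ => (Cert rels S Gen.f))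 lc_f_rc_14_1 lc_f_rc_17_3 lc_f_rc_21_1 lc_f_rc_20_1 lc_f_rc_14_1 lc_f_rc_21_1 lc_f_rc_17_3 lc_f_rc_20_1 lc_f_rc_17_3 lc_f_rc_19_3 lc_f_rc_10_3 lc_f_rc_17_3 lc_f_rc_20_1 lc_f_rc_10_3 lc_f_rc_5_1 lc_f_rc_14_1 lc_f_Cert_tree lc_f_rc_20_1 lc_f_rc_21_1 lc_f_rc_5_1 lc_f_rc_14_3 lc_f_Cert_tree lc_f_rc_20_1 lc_f_rc_21_1 lc_f_rc_20_1 lc_f_rc_19_5 lc_f_rc_20_1 lc_f_rc_14_1 lc_f_rc_21_1 lc_f_rc_20_1 lc_f_rc_10_3 lc_f_Cert_tree lc_f_rc_17_3 lc_f_rc_17_3 lc_f_rc_14_1 lc_f_rc_17_3 lc_f_rc_21_1 lc_f_rc_20_1 lc_f_rc_20_1 lc_f_rc_14_3 lc_f_rc_14_3 lc_f_rc_14_1 lc_f_Cert_tree lc_f_rc_14_1 lc_f_Cert_tree lc_f_rc_10_1 lc_f_rc_21_1 lc_f_rc_21_1 lc_f_rc_5_3 lc_f_rc_17_3 lc_f_rc_10_1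 lc_f_rc_10_1 lc_f_rc_10_3 lc_f_rc_20_1 lc_f_rc_17_3 lc_f_rc_10_3 lc_f_rc_20_1 lc_f_rc_19_1 lc_f_rc_14_3 lc_f_rc_14_3 lc_f_rc_10_1 lc_f_rc_5_1) (@D3.rec (fun _ => (Cert rels S Gen.f)) lc_f_rc_5_3 lc_f_rc_19_1 lc_f_rc_14_1 lc_f_Cert_tree lc_f_rc_20_1 lc_f_rc_5_3 lc_f_rc_14_3 lc_f_Cert_tree lc_f_rc_17_3 lc_f_rc_14_3 lc_f_rc_20_1 lc_f_rc_14_3 lc_f_rc_5_1 lc_f_rc_17_3 lc_f_rc_17_1 lc_f_rc_21_1 lc_f_rc_17_1 lc_f_rc_20_1 lc_f_rc_22_1 lc_f_rc_14_1 lc_f_rc_14_3 lc_f_rc_14_3 lc_f_rc_17_3 lc_f_rc_17_3 lc_f_rc_5_3 lc_f_rc_19_1 lc_f_rc_17_3 lc_f_rc_22_1 lc_f_rc_10_3 lc_f_rc_17_3 lc_f_rc_20_1 lc_f_rc_10_3 lc_f_rc_14_3 lc_f_rc_21_1 lc_f_rc_20_1 lc_f_rc_14_3 lc_f_rc_19_5 lc_f_rc_17_3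 lc_f_rc_10_3 lc_f_rc_17_3 lc_f_rc_14_3 lc_f_rc_19_5 lc_f_rc_10_3 lc_f_rc_17_3 lc_f_rc_14_3 lc_f_rc_14_3 lc_f_rc_14_3 lc_f_rc_5_3 lc_f_rc_10_3 lc_f_Cert_tree lc_f_rc_5_1 lc_f_rc_14_3 lc_f_rc_20_1 lc_f_rc_14_3 lc_f_rc_10_3 lc_f_rc_21_1 lc_f_rc_5_3 lc_f_rc_10_3 lc_f_rc_10_3 lc_f_rc_20_1 lc_f_rc_10_3 lc_f_rc_14_3) (@D3.rec (fun _ => (Cert rels S Gen.f)) lc_f_rc_5_3 lc_f_rc_17_3 lc_f_rc_17_1 lc_f_rc_17_1 lc_f_rc_10_1 lc_f_rc_14_1 lc_f_rc_14_3 lc_f_rc_10_1 lc_f_Cert_tree lc_f_rc_10_3 lc_f_rc_14_1 lc_f_rc_10_3 lc_f_rc_21_1 lc_f_rc_17_3 lc_f_rc_14_3 lc_f_rc_10_3 lc_f_rc_19_3 lc_f_rc_14_3 lc_f_rc_10_3 lc_f_rc_5_1 lc_f_rc_14_3 lc_f_rc_14_3 lc_f_rc_20_1 lc_f_rc_10_3 lc_f_rc_17_1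 lc_f_rc_10_3 lc_f_rc_17_1 lc_f_rc_20_1 lc_f_rc_21_1 lc_f_rc_10_3 lc_f_rc_17_3 lc_f_rc_20_1 lc_f_rc_5_3 lc_f_rc_19_5 lc_f_rc_10_3 lc_f_rc_10_1 lc_f_rc_20_1 lc_f_Cert_tree lc_f_rc_10_3 lc_f_rc_5_1 lc_f_rc_10_3 lc_f_rc_17_3 lc_f_Cert_tree lc_f_rc_19_1 lc_f_rc_20_1 lc_f_rc_20_1 lc_f_rc_10_3 lc_f_rc_5_3 lc_f_rc_10_3 lc_f_rc_17_3 lc_f_rc_10_3 lc_f_rc_14_3 lc_f_rc_21_1 lc_f_rc_14_3 lc_f_rc_14_1 lc_f_rc_20_1 lc_f_rc_20_1 lc_f_rc_19_3 lc_f_rc_20_1 lc_f_rc_17_3 lc_f_rc_14_3 lc_f_rc_21_1) (@D3.rec (fun _ => (Cert rels S Gen.f)) lc_f_rc_5_1 lc_f_rc_20_1 lc_f_rc_5_3 lc_f_rc_17_3 lc_f_rc_19_5 lc_f_rc_19_3 lc_f_rc_17_3 lc_f_rc_10_3 lc_f_rc_5_1 lc_f_rc_5_3 lc_f_rc_17_3 lc_f_rc_10_3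 lc_f_Cert_tree lc_f_rc_14_3 lc_f_rc_22_1 lc_f_rc_20_1 lc_f_rc_5_1 lc_f_rc_5_3 lc_f_rc_10_3 lc_f_rc_22_1 lc_f_rc_21_1 lc_f_rc_14_3 lc_f_rc_5_3 lc_f_Cert_tree lc_f_rc_20_1 lc_f_rc_20_1 lc_f_rc_17_3 lc_f_rc_14_3 lc_f_rc_14_1 lc_f_rc_10_3 lc_f_Cert_tree lc_f_rc_5_3 lc_f_rc_19_3 lc_f_rc_17_3 lc_f_rc_5_1 lc_f_rc_14_3 lc_f_rc_19_3 lc_f_rc_17_3 lc_f_rc_17_1 lc_f_rc_10_3 lc_f_rc_20_1 lc_f_rc_10_3 lc_f_rc_21_1 lc_f_rc_14_3 lc_f_rc_14_3 lc_f_rc_10_3 lc_f_rc_21_1 lc_f_rc_14_3 lc_f_rc_10_3 lc_f_rc_21_1 lc_f_rc_5_1 lc_f_rc_10_1 lc_f_rc_22_1 lc_f_rc_20_1 lc_f_rc_21_1 lc_f_Cert_tree lc_f_rc_20_1 lc_f_rc_20_1 lc_f_Cert_tree lc_f_rc_21_1 lc_f_rc_20_1 lc_f_rc_20_1) (@D3.rec (fun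 _ => (Cert rels S Gen.f)) lc_f_rc_22_1 lc_f_rc_19_1 lc_f_rc_14_3 lc_f_rc_5_3 lc_f_rc_17_3 lc_f_rc_17_3 lc_f_rc_14_3 lc_f_rc_20_1 lc_f_rc_5_1 lc_f_rc_17_3 lc_f_rc_22_1 lc_f_rc_17_3 lc_f_rc_10_1 lc_f_rc_10_1 lc_f_rc_17_3 lc_f_rc_10_3 lc_f_rc_14_3 lc_f_rc_17_3 lc_f_rc_19_5 lc_f_rc_22_1 lc_f_rc_20_1 lc_f_rc_20_1 lc_f_rc_20_1 lc_f_rc_14_3 lc_f_rc_5_3 lc_f_rc_10_1 lc_f_rc_10_3 lc_f_rc_17_3 lc_f_rc_17_3 lc_f_rc_5_3 lc_f_rc_14_3 lc_f_rc_10_3 lc_f_rc_21_1 lc_f_rc_17_3 lc_f_rc_14_1 lc_f_rc_14_3 lc_f_Cert_tree lc_f_rc_20_1 lc_f_rc_10_1 lc_f_rc_10_3 lc_f_rc_20_1 lc_f_rc_10_3 lc_f_rc_20_1 lc_f_rc_17_3 lc_f_rc_10_3 lc_f_rc_17_3 lc_f_rc_17_3 lc_f_rc_17_1 lc_f_rc_17_3 lc_f_rc_20_1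 lc_f_rc_10_3 lc_f_rc_17_3 lc_f_rc_14_3 lc_f_rc_21_1 lc_f_rc_21_1 lc_f_rc_17_3 lc_f_rc_10_3 lc_f_rc_21_1 lc_f_rc_14_3 lc_f_rc_19_3 lc_f_rc_5_1 lc_f_rc_10_3) (@D3.rec (fun _ => (Cert rels S Gen.f)) lc_f_rc_17_3 lc_f_rc_22_1 lc_f_rc_22_1 lc_f_rc_20_1 lc_f_rc_5_3 lc_f_rc_17_3 lc_f_rc_21_1 lc_f_rc_19_5 lc_f_rc_20_1 lc_f_rc_14_3 lc_f_rc_14_3 lc_f_rc_17_3 lc_f_rc_14_3 lc_f_rc_17_3 lc_f_rc_19_5 lc_f_rc_22_1 lc_f_rc_14_3 lc_f_rc_19_5 lc_f_rc_19_5 lc_f_rc_20_1 lc_f_rc_21_1 lc_f_rc_10_3 lc_f_rc_10_3 lc_f_rc_20_1 lc_f_rc_5_1 lc_f_rc_20_1 lc_f_rc_10_3 lc_f_rc_14_3 lc_f_rc_5_1 lc_f_rc_21_1 lc_f_rc_10_3 lc_f_rc_19_3 lc_f_rc_22_1 lc_f_rc_14_3 lc_f_rc_22_1 lc_f_rc_20_1 lc_f_rc_14_3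 lc_f_rc_21_1 lc_f_rc_10_1 lc_f_rc_17_3 lc_f_rc_21_1 lc_f_rc_14_1 lc_f_rc_17_3 lc_f_rc_14_3 lc_f_rc_17_1 lc_f_rc_17_3 lc_f_rc_17_3 lc_f_rc_14_1 lc_f_rc_20_1 lc_f_rc_5_1 lc_f_rc_10_3 lc_f_rc_5_1 lc_f_rc_19_1 lc_f_rc_10_3 lc_f_rc_17_3 lc_f_rc_10_3 lc_f_rc_5_1 lc_f_rc_19_3 lc_f_rc_17_3 lc_f_rc_19_3 lc_f_rc_17_3 lc_f_rc_17_3) (@D3.rec (fun _ => (Cert rels S Gen.f)) lc_f_rc_14_3 lc_f_rc_5_1 lc_f_rc_17_3 lc_f_rc_10_3 lc_f_rc_17_1 lc_f_rc_22_1 lc_f_rc_5_3 lc_f_rc_10_3 lc_f_rc_14_1 lc_f_rc_19_5 lc_f_rc_19_3 lc_f_rc_10_3 lc_f_rc_19_3 lc_f_rc_10_3 lc_f_rc_14_3 lc_f_rc_20_1 lc_f_rc_14_3 lc_f_rc_14_3 lc_f_rc_14_3 lc_f_rc_21_1 lc_f_rc_22_1 lc_f_rc_17_3 lc_f_rc_19_5 lc_f_rc_21_1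 lc_f_rc_14_3 lc_f_rc_10_3 lc_f_rc_21_1 lc_f_rc_20_1 lc_f_rc_10_1 lc_f_rc_22_1 lc_f_rc_22_1 lc_f_rc_19_5 lc_f_rc_21_1 lc_f_rc_20_1 lc_f_rc_20_1 lc_f_rc_17_1 lc_f_rc_17_3 lc_f_rc_20_1 lc_f_rc_14_3 lc_f_rc_21_1 lc_f_rc_21_1 lc_f_rc_5_3 lc_f_rc_14_3 lc_f_rc_17_3 lc_f_rc_5_1 lc_f_rc_17_3 lc_f_rc_19_3 lc_f_rc_14_3 lc_f_rc_10_1 lc_f_rc_17_3 lc_f_rc_5_3 lc_f_rc_21_1 lc_f_rc_14_3 lc_f_rc_17_3 lc_f_rc_19_3 lc_f_rc_10_3 lc_f_rc_14_3 lc_f_rc_14_3 lc_f_rc_14_3 lc_f_rc_5_3 lc_f_rc_10_1 lc_f_rc_14_3) (@D3.rec (fun _ => (Cert rels S Gen.f)) lc_f_rc_20_1 lc_f_rc_20_1 lc_f_rc_20_1 lc_f_rc_17_3 lc_f_rc_20_1 lc_f_rc_20_1 lc_f_rc_14_3 lc_f_rc_14_3 lc_f_rc_22_1 lc_f_rc_21_1 lc_f_rc_20_1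 lc_f_rc_21_1 lc_f_rc_20_1 lc_f_rc_14_3 lc_f_rc_14_1 lc_f_rc_20_1 lc_f_rc_20_1 lc_f_rc_21_1 lc_f_rc_20_1 lc_f_rc_14_1 lc_f_rc_5_3 lc_f_rc_10_3 lc_f_rc_17_3 lc_f_rc_14_3 lc_f_rc_10_1 lc_f_rc_14_1 lc_f_rc_5_3 lc_f_rc_17_3 lc_f_rc_17_3 lc_f_rc_10_3 lc_f_rc_17_3 lc_f_rc_14_3 lc_f_rc_5_3 lc_f_rc_19_5 lc_f_Cert_tree lc_f_rc_19_5 lc_f_rc_20_1 lc_f_rc_21_1 lc_f_rc_5_3 lc_f_rc_14_3 lc_f_rc_14_3 lc_f_rc_14_3 lc_f_rc_10_3 lc_f_rc_22_1 lc_f_rc_10_3 lc_f_rc_10_3 lc_f_rc_21_1 lc_f_rc_21_1 lc_f_rc_19_1 lc_f_rc_14_3 lc_f_rc_14_1 lc_f_rc_14_3 lc_f_rc_20_1 lc_f_rc_14_3 lc_f_rc_10_3 lc_f_rc_21_1 lc_f_rc_14_3 lc_f_rc_14_3 lc_f_rc_21_1 lc_f_rc_10_3 lc_f_rc_14_3 lc_f_rc_17_3) (@D3.rec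 (fun _ => (Cert rels S Gen.f)) lc_f_rc_20_1 lc_f_rc_10_3 lc_f_rc_19_5 lc_f_rc_19_5 lc_f_rc_10_3 lc_f_rc_10_3 lc_f_rc_10_3 lc_f_rc_14_3 lc_f_rc_17_3 lc_f_rc_19_5 lc_f_rc_14_3 lc_f_rc_10_3 lc_f_rc_10_3 lc_f_rc_17_3 lc_f_rc_14_3 lc_f_rc_20_1 lc_f_rc_14_3 lc_f_rc_10_3 lc_f_rc_17_3 lc_f_rc_17_1 lc_f_rc_10_3 lc_f_rc_5_1 lc_f_rc_14_1 lc_f_rc_22_1 lc_f_rc_20_1 lc_f_rc_5_1 lc_f_rc_17_1 lc_f_rc_21_1 lc_f_Cert_tree lc_f_Cert_tree lc_f_rc_5_1 lc_f_rc_21_1 lc_f_rc_20_1 lc_f_rc_5_3 lc_f_rc_10_1 lc_f_rc_19_3 lc_f_rc_10_3 lc_f_rc_10_3 lc_f_rc_14_3 lc_f_rc_17_3 lc_f_rc_10_3 lc_f_rc_17_3 lc_f_rc_10_3 lc_f_rc_10_3 lc_f_rc_14_1 lc_f_rc_10_3 lc_f_rc_10_1 lc_f_rc_17_3 lc_f_rc_20_1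 lc_f_rc_10_1 lc_f_rc_20_1 lc_f_rc_21_1 lc_f_rc_5_3 lc_f_rc_17_3 lc_f_rc_19_5 lc_f_rc_17_3 lc_f_rc_10_3 lc_f_rc_5_1 lc_f_rc_10_3 lc_f_rc_17_3 lc_f_rc_10_3 lc_f_Cert_tree) (@D3.rec (fun _ => (Cert rels S Gen.f)) lc_f_rc_5_3 lc_f_rc_20_1 lc_f_rc_21_1 lc_f_rc_20_1 lc_f_rc_5_1 lc_f_rc_14_3 lc_f_rc_5_3 lc_f_rc_17_3 lc_f_Cert_tree lc_f_Cert_tree lc_f_rc_14_3 lc_f_rc_14_3 lc_f_rc_5_3 lc_f_rc_20_1 lc_f_rc_5_1 lc_f_rc_5_1 lc_f_rc_17_3 lc_f_rc_5_1 lc_f_rc_17_3 lc_f_rc_10_3 lc_f_rc_10_3 lc_f_Cert_tree lc_f_rc_17_3 lc_f_rc_20_1 lc_f_rc_21_1 lc_f_rc_5_3 lc_f_rc_17_3 lc_f_Cert_tree lc_f_Cert_tree lc_f_rc_5_3 lc_f_rc_20_1 lc_f_rc_5_1 lc_f_rc_10_3 lc_f_rc_14_3 lc_f_Cert_tree lc_f_rc_5_3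 lc_f_rc_14_3 lc_f_rc_21_1 lc_f_rc_19_1 lc_f_rc_10_3 lc_f_rc_14_3 lc_f_rc_5_1 lc_f_rc_20_1 lc_f_rc_20_1 lc_f_rc_20_1 lc_f_rc_17_1 lc_f_rc_10_3 lc_f_rc_14_3 lc_f_rc_17_3 lc_f_rc_14_3 lc_f_rc_10_3 lc_f_rc_20_1 lc_f_rc_10_3 lc_f_rc_21_1 lc_f_rc_14_3 lc_f_rc_10_3 lc_f_rc_14_3 lc_f_rc_17_3 lc_f_rc_5_1 lc_f_rc_20_1 lc_f_rc_5_1 lc_f_rc_17_3) (@D3.rec (fun _ => (Cert rels S Gen.f)) lc_f_Cert_tree lc_f_rc_21_1 lc_f_rc_20_1 lc_f_rc_21_1 lc_f_rc_20_1 lc_f_rc_21_1 lc_f_rc_10_3 lc_f_rc_5_3 lc_f_rc_21_1 lc_f_rc_17_3 lc_f_rc_14_3 lc_f_rc_10_3 lc_f_rc_5_3 lc_f_rc_20_1 lc_f_rc_5_1 lc_f_rc_20_1 lc_f_rc_21_1 lc_f_rc_17_3 lc_f_rc_20_1 lc_f_rc_10_3 lc_f_rc_20_1 lc_f_rc_20_1 lc_f_rc_14_1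 lc_f_rc_19_1 lc_f_rc_10_3 lc_f_rc_5_1 lc_f_rc_19_1 lc_f_rc_10_3 lc_f_rc_17_1 lc_f_rc_20_1 lc_f_rc_17_3 lc_f_rc_19_3 lc_f_rc_19_3 lc_f_rc_14_3 lc_f_rc_10_3 lc_f_rc_17_3 lc_f_rc_21_1 lc_f_rc_20_1 lc_f_rc_20_1 lc_f_rc_10_3 lc_f_rc_17_1 lc_f_rc_21_1 lc_f_rc_14_1 lc_f_rc_20_1 lc_f_rc_20_1 lc_f_rc_10_1 lc_f_rc_5_1 lc_f_rc_19_3 lc_f_rc_21_1 lc_f_rc_20_1 lc_f_rc_21_1 lc_f_rc_5_1 lc_f_rc_14_3 lc_f_rc_17_1 lc_f_rc_17_1 lc_f_rc_14_1 lc_f_rc_10_3 lc_f_rc_17_3 lc_f_rc_19_1 lc_f_rc_20_1 lc_f_rc_10_3 lc_f_rc_14_3) (@D3.rec (fun _ => (Cert rels S Gen.f)) lc_f_rc_14_3 lc_f_rc_10_3 lc_f_rc_22_1 lc_f_rc_17_3 lc_f_rc_5_1 lc_f_rc_17_3 lc_f_rc_20_1 lc_f_rc_10_3 lc_f_rc_22_1 lc_f_Cert_tree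 lc_f_rc_5_1 lc_f_rc_20_1 lc_f_rc_20_1 lc_f_rc_10_3 lc_f_rc_10_3 lc_f_rc_5_1 lc_f_rc_10_3 lc_f_rc_22_1 lc_f_Cert_tree lc_f_rc_21_1 lc_f_Cert_tree lc_f_rc_20_1 lc_f_rc_14_3 lc_f_rc_10_3 lc_f_rc_14_1 lc_f_rc_5_1 lc_f_rc_19_3 lc_f_rc_20_1 lc_f_rc_20_1 lc_f_rc_14_1 lc_f_rc_14_3 lc_f_rc_17_3 lc_f_rc_19_3 lc_f_rc_20_1 lc_f_rc_10_3 lc_f_rc_19_3 lc_f_rc_17_3 lc_f_rc_17_3 lc_f_rc_14_3 lc_f_rc_17_1 lc_f_rc_17_3 lc_f_rc_14_3 lc_f_rc_19_1 lc_f_rc_5_1 lc_f_rc_5_1 lc_f_rc_14_1 lc_f_rc_5_1 lc_f_Cert_tree lc_f_rc_20_1 lc_f_rc_14_3 lc_f_rc_22_1 lc_f_rc_10_3 lc_f_rc_22_1 lc_f_rc_19_1 lc_f_rc_21_1 lc_f_rc_20_1 lc_f_rc_20_1 lc_f_rc_14_3 lc_f_rc_5_1 lc_f_rc_20_1 lc_f_Cert_tree lc_f_rc_10_3)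 (@D3.rec (fun _ => (Cert rels S Gen.f)) lc_f_rc_14_3 lc_f_rc_10_3 lc_f_rc_22_1 lc_f_rc_19_3 lc_f_rc_10_3 lc_f_rc_14_3 lc_f_rc_20_1 lc_f_rc_14_1 lc_f_rc_20_1 lc_f_rc_14_3 lc_f_rc_17_3 lc_f_rc_5_3 lc_f_rc_10_3 lc_f_rc_20_1 lc_f_rc_17_3 lc_f_rc_17_3 lc_f_rc_22_1 lc_f_rc_10_3 lc_f_rc_20_1 lc_f_rc_10_1 lc_f_rc_14_1 lc_f_rc_17_3 lc_f_rc_19_3 lc_f_rc_17_1 lc_f_rc_10_3 lc_f_rc_21_1 lc_f_Cert_tree lc_f_rc_20_1 lc_f_rc_21_1 lc_f_rc_21_1 lc_f_rc_5_1 lc_f_rc_14_3 lc_f_rc_20_1 lc_f_rc_19_5 lc_f_rc_19_5 lc_f_rc_21_1 lc_f_rc_10_3 lc_f_Cert_tree lc_f_rc_20_1 lc_f_rc_21_1 lc_f_rc_20_1 lc_f_rc_17_3 lc_f_rc_14_3 lc_f_rc_19_1 lc_f_rc_10_3 lc_f_rc_17_1 lc_f_rc_14_1 lc_f_rc_10_3 lc_f_rc_21_1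 lc_f_rc_20_1 lc_f_rc_10_3 lc_f_rc_14_1 lc_f_rc_10_1 lc_f_rc_19_3 lc_f_rc_17_1 lc_f_rc_14_3 lc_f_rc_19_3 lc_f_rc_19_5 lc_f_rc_14_3 lc_f_rc_20_1 lc_f_rc_21_1 lc_f_rc_20_1) (@D3.rec (fun _ => (Cert rels S Gen.f)) lc_f_rc_19_1 lc_f_rc_10_3 lc_f_rc_21_1 lc_f_rc_10_3 lc_f_rc_17_3 lc_f_rc_17_3 lc_f_rc_10_1 lc_f_rc_14_3 lc_f_rc_19_5 lc_f_rc_21_1 lc_f_rc_20_1 lc_f_rc_17_3 lc_f_rc_17_1 lc_f_rc_17_3 lc_f_Cert_tree lc_f_Cert_tree lc_f_rc_20_1 lc_f_rc_21_1 lc_f_rc_10_3 lc_f_rc_10_3 lc_f_rc_20_1 lc_f_rc_14_3 lc_f_rc_17_3 lc_f_rc_19_3 lc_f_rc_21_1 lc_f_rc_10_3 lc_f_rc_17_3 lc_f_rc_10_3 lc_f_rc_17_3 lc_f_rc_14_3 lc_f_rc_10_3 lc_f_rc_5_3 lc_f_rc_14_3 lc_f_rc_10_3 lc_f_rc_5_1 lc_f_rc_5_1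 lc_f_Cert_tree lc_f_rc_21_1 lc_f_rc_14_3 lc_f_Cert_tree lc_f_rc_20_1 lc_f_rc_14_3 lc_f_rc_17_3 lc_f_rc_10_3 lc_f_rc_14_3 lc_f_rc_21_1 lc_f_rc_10_3 lc_f_rc_10_1 lc_f_Cert_tree lc_f_rc_10_1 lc_f_rc_20_1 lc_f_rc_14_3 lc_f_rc_14_3 lc_f_rc_5_1 lc_f_rc_17_3 lc_f_rc_22_1 lc_f_rc_5_1 lc_f_rc_17_1 lc_f_Cert_tree lc_f_rc_20_1 lc_f_rc_14_3 lc_f_rc_20_1) (@D3.rec (fun _ => (Cert rels S Gen.f)) lc_f_rc_20_1 lc_f_rc_21_1 lc_f_rc_20_1 lc_f_rc_17_3 lc_f_rc_20_1 lc_f_rc_14_3 lc_f_rc_5_1 lc_f_rc_14_1 lc_f_rc_10_3 lc_f_rc_19_3 lc_f_rc_19_3 lc_f_Cert_tree lc_f_rc_20_1 lc_f_rc_17_3 lc_f_rc_14_3 lc_f_rc_5_3 lc_f_rc_5_3 lc_f_rc_17_3 lc_f_Cert_tree lc_f_rc_17_3 lc_f_rc_17_3 lc_f_rc_22_1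 lc_f_rc_14_3 lc_f_rc_14_3 lc_f_Cert_tree lc_f_rc_20_1 lc_f_rc_19_5 lc_f_rc_21_1 lc_f_rc_21_1 lc_f_rc_17_3 lc_f_rc_10_3 lc_f_rc_17_1 lc_f_rc_14_1 lc_f_rc_20_1 lc_f_rc_19_1 lc_f_rc_21_1 lc_f_rc_14_3 lc_f_rc_17_3 lc_f_rc_21_1 lc_f_rc_14_3 lc_f_rc_17_1 lc_f_rc_21_1 lc_f_rc_10_3 lc_f_rc_5_1 lc_f_rc_14_3 lc_f_rc_20_1 lc_f_rc_10_3 lc_f_rc_17_3 lc_f_rc_14_1 lc_f_rc_5_3 lc_f_rc_14_1 lc_f_rc_17_1 lc_f_rc_5_1 lc_f_rc_20_1 lc_f_rc_10_1 lc_f_rc_20_1 lc_f_rc_14_3 lc_f_rc_14_3 lc_f_rc_21_1 lc_f_rc_14_3 lc_f_rc_17_3 lc_f_rc_10_3) (@D3.rec (fun _ => (Cert rels S Gen.f)) lc_f_rc_14_3 lc_f_rc_19_3 lc_f_rc_20_1 lc_f_rc_21_1 lc_f_rc_20_1 lc_f_rc_5_3 lc_f_Cert_tree lc_f_rc_10_3 lc_f_rc_20_1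 lc_f_rc_22_1 lc_f_Cert_tree lc_f_rc_10_3 lc_f_rc_21_1 lc_f_rc_5_1 lc_f_rc_14_1 lc_f_rc_5_1 lc_f_rc_20_1 lc_f_rc_14_3 lc_f_rc_17_3 lc_f_rc_20_1 lc_f_rc_20_1 lc_f_rc_14_3 lc_f_rc_20_1 lc_f_rc_10_3 lc_f_rc_14_3 lc_f_rc_14_3 lc_f_rc_5_3 lc_f_rc_10_1 lc_f_rc_14_3 lc_f_rc_21_1 lc_f_rc_5_3 lc_f_rc_14_3 lc_f_rc_21_1 lc_f_rc_17_3 lc_f_rc_10_3 lc_f_rc_19_3 lc_f_rc_5_1 lc_f_rc_21_1 lc_f_rc_17_1 lc_f_rc_20_1 lc_f_rc_5_3 lc_f_rc_14_3 lc_f_rc_22_1 lc_f_rc_10_3 lc_f_rc_14_3 lc_f_rc_19_5 lc_f_rc_14_3 lc_f_rc_17_3 lc_f_rc_5_3 lc_f_rc_14_3 lc_f_rc_17_3 lc_f_rc_14_1 lc_f_rc_14_3 lc_f_rc_17_3 lc_f_rc_20_1 lc_f_rc_14_3 lc_f_rc_5_3 lc_f_rc_21_1 lc_f_rc_14_3 lc_f_rc_17_3 lc_f_rc_14_3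 lc_f_rc_21_1) (@D3.rec (fun _ => (Cert rels S Gen.f)) lc_f_rc_10_3 lc_f_rc_10_3 lc_f_rc_20_1 lc_f_rc_20_1 lc_f_rc_10_1 lc_f_rc_20_1 lc_f_rc_19_1 lc_f_rc_10_3 lc_f_rc_17_3 lc_f_rc_19_1 lc_f_rc_20_1 lc_f_rc_14_3 lc_f_rc_20_1 lc_f_rc_14_3 lc_f_rc_10_3 lc_f_rc_14_3 lc_f_rc_14_1 lc_f_rc_20_1 lc_f_rc_10_3 lc_f_rc_10_3 lc_f_rc_14_3 lc_f_rc_20_1 lc_f_rc_10_3 lc_f_rc_14_3 lc_f_rc_17_3 lc_f_Cert_tree lc_f_rc_20_1 lc_f_rc_19_5 lc_f_rc_10_1 lc_f_rc_20_1 lc_f_rc_10_3 lc_f_rc_14_3 lc_f_rc_5_1 lc_f_rc_21_1 lc_f_rc_14_3 lc_f_rc_21_1 lc_f_rc_10_1 lc_f_rc_10_1 lc_f_rc_20_1 lc_f_Cert_tree lc_f_rc_17_1 lc_f_rc_20_1 lc_f_rc_20_1 lc_f_rc_14_3 lc_f_rc_21_1 lc_f_rc_22_1 lc_f_rc_20_1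 lc_f_rc_17_3 lc_f_rc_20_1 lc_f_rc_14_1 lc_f_rc_20_1 lc_f_rc_10_3 lc_f_rc_17_1 lc_f_rc_20_1 lc_f_rc_20_1 lc_f_rc_17_3 lc_f_rc_21_1 lc_f_rc_14_1 lc_f_rc_20_1 lc_f_rc_19_3 lc_f_rc_21_1 lc_f_rc_14_3) (@D3.rec (fun _ => (Cert rels S Gen.f)) lc_f_Cert_tree lc_f_rc_20_1 lc_f_rc_10_3 lc_f_rc_17_3 lc_f_Cert_tree lc_f_rc_20_1 lc_f_rc_14_1 lc_f_rc_14_3 lc_f_rc_14_3 lc_f_rc_14_1 lc_f_rc_5_1 lc_f_rc_20_1 lc_f_rc_20_1 lc_f_rc_21_1 lc_f_rc_14_1 lc_f_rc_17_3 lc_f_rc_14_1 lc_f_rc_21_1 lc_f_rc_20_1 lc_f_Cert_tree lc_f_rc_20_1 lc_f_rc_19_5 lc_f_rc_17_3 lc_f_rc_19_5 lc_f_rc_14_3 lc_f_rc_10_3 lc_f_Cert_tree lc_f_rc_10_1 lc_f_rc_17_3 lc_f_Cert_tree lc_f_rc_5_1 lc_f_rc_20_1 lc_f_rc_20_1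 lc_f_rc_20_1 lc_f_rc_17_1 lc_f_rc_17_1 lc_f_rc_14_3 lc_f_rc_21_1 lc_f_rc_14_3 lc_f_Cert_tree lc_f_rc_20_1 lc_f_rc_19_3 lc_f_rc_17_3 lc_f_rc_17_1 lc_f_rc_20_1 lc_f_rc_20_1 lc_f_rc_19_3 lc_f_rc_19_3 lc_f_rc_10_3 lc_f_rc_21_1 lc_f_rc_20_1 lc_f_rc_10_3 lc_f_rc_17_3 lc_f_rc_10_3 lc_f_rc_17_3 lc_f_rc_19_3 lc_f_rc_14_3 lc_f_rc_17_3 lc_f_rc_17_1 lc_f_rc_17_3 lc_f_Cert_tree lc_f_rc_20_1) (@D3.rec (fun _ => (Cert rels S Gen.f)) lc_f_rc_19_3 lc_f_rc_17_3 lc_f_rc_21_1 lc_f_rc_20_1 lc_f_rc_14_3 lc_f_rc_14_3 lc_f_rc_17_3 lc_f_rc_17_3 lc_f_rc_14_3 lc_f_rc_19_3 lc_f_rc_17_1 lc_f_rc_17_3 lc_f_rc_5_3 lc_f_rc_19_1 lc_f_rc_5_3 lc_f_rc_17_1 lc_f_rc_14_3 lc_f_rc_14_3 lc_f_rc_20_1 lc_f_rc_14_3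 lc_f_rc_22_1 lc_f_rc_14_3 lc_f_rc_20_1 lc_f_rc_10_3 lc_f_rc_20_1 lc_f_rc_14_3 lc_f_rc_21_1 lc_f_rc_20_1 lc_f_rc_22_1 lc_f_rc_20_1 lc_f_rc_5_3 lc_f_rc_20_1 lc_f_rc_19_3 lc_f_rc_10_3 lc_f_rc_20_1 lc_f_rc_5_1 lc_f_rc_5_1 lc_f_rc_20_1 lc_f_rc_10_1 lc_f_rc_19_3 lc_f_rc_17_3 lc_f_rc_14_3 lc_f_rc_14_1 lc_f_rc_20_1 lc_f_rc_14_3 lc_f_Cert_tree lc_f_rc_19_3 lc_f_rc_14_3 lc_f_rc_19_1 lc_f_rc_17_3 lc_f_rc_20_1 lc_f_rc_5_3 lc_f_rc_14_3 lc_f_rc_10_3 lc_f_rc_14_1 lc_f_rc_5_3 lc_f_rc_20_1 lc_f_rc_17_1 lc_f_rc_20_1 lc_f_rc_10_1 lc_f_rc_17_1 lc_f_Cert_tree)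
def ce_f_17 : D2 → D3 → (Cert rels S Gen.f) := @D2.rec (fun _ => D3 → (Cert rels S Gen.f)) (@D3.rec (fun _ => (Cert rels S Gen.f)) lc_f_rc_10_3 lc_f_rc_17_3 lc_f_rc_14_1 lc_f_rc_5_1 lc_f_rc_14_3 lc_f_rc_10_1 lc_f_rc_22_1 lc_f_Cert_tree lc_f_rc_20_1 lc_f_rc_19_3 lc_f_rc_14_1 lc_f_rc_20_1 lc_f_rc_17_3 lc_f_rc_10_1 lc_f_rc_20_1 lc_f_rc_14_3 lc_f_Cert_tree lc_f_rc_10_3 lc_f_rc_17_3 lc_f_rc_5_1 lc_f_rc_5_1 lc_f_rc_20_1 lc_f_rc_10_3 lc_f_rc_14_3 lc_f_rc_17_3 lc_f_rc_10_1 lc_f_rc_5_1 lc_f_Cert_tree lc_f_rc_20_1 lc_f_rc_17_3 lc_f_rc_19_1 lc_f_rc_20_1 lc_f_rc_21_1 lc_f_Cert_tree lc_f_rc_21_1 lc_f_rc_17_1 lc_f_rc_10_3 lc_f_Cert_tree lc_f_rc_21_1 lc_f_rc_20_1 lc_f_Cert_tree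 lc_f_rc_20_1 lc_f_rc_10_1 lc_f_Cert_tree lc_f_rc_20_1 lc_f_rc_10_3 lc_f_rc_17_3 lc_f_rc_19_3 lc_f_rc_17_3 lc_f_rc_14_3 lc_f_rc_14_3 lc_f_rc_14_3 lc_f_Cert_tree lc_f_Cert_tree lc_f_rc_20_1 lc_f_rc_10_1 lc_f_rc_14_1 lc_f_rc_5_1 lc_f_rc_21_1 lc_f_Cert_tree lc_f_rc_20_1 lc_f_rc_20_1) (@D3.rec (fun _ => (Cert rels S Gen.f)) lc_f_rc_21_1 lc_f_rc_21_1 lc_f_rc_19_3 lc_f_rc_14_3 lc_f_rc_17_3 lc_f_rc_14_3 lc_f_rc_17_3 lc_f_rc_10_1 lc_f_rc_19_3 lc_f_rc_20_1 lc_f_rc_14_3 lc_f_rc_10_3 lc_f_rc_10_3 lc_f_rc_10_1 lc_f_rc_20_1 lc_f_rc_14_3 lc_f_rc_14_1 lc_f_rc_21_1 lc_f_rc_20_1 lc_f_rc_10_1 lc_f_rc_14_3 lc_f_rc_20_1 lc_f_rc_10_1 lc_f_rc_10_1 lc_f_rc_19_3 lc_f_rc_10_3 lc_f_rc_14_3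 lc_f_rc_20_1 lc_f_rc_17_3 lc_f_rc_20_1 lc_f_rc_17_3 lc_f_rc_20_1 lc_f_rc_14_3 lc_f_rc_21_1 lc_f_rc_17_1 lc_f_rc_20_1 lc_f_rc_20_1 lc_f_Cert_tree lc_f_rc_17_3 lc_f_rc_17_3 lc_f_rc_14_3 lc_f_Cert_tree lc_f_rc_21_1 lc_f_rc_17_1 lc_f_rc_10_3 lc_f_rc_17_3 lc_f_rc_14_3 lc_f_Cert_tree lc_f_rc_10_3 lc_f_rc_14_3 lc_f_rc_19_5 lc_f_rc_19_3 lc_f_rc_10_3 lc_f_rc_17_3 lc_f_rc_19_3 lc_f_rc_20_1 lc_f_rc_19_5 lc_f_rc_14_3 lc_f_rc_10_1 lc_f_rc_17_3 lc_f_rc_19_3 lc_f_rc_10_3) (@D3.rec (fun _ => (Cert rels S Gen.f)) lc_f_rc_17_3 lc_f_rc_17_3 lc_f_rc_21_1 lc_f_rc_17_3 lc_f_rc_17_3 lc_f_rc_20_1 lc_f_rc_10_3 lc_f_rc_21_1 lc_f_rc_17_3 lc_f_rc_20_1 lc_f_rc_20_1 lc_f_rc_17_3 lc_f_rc_14_3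 lc_f_rc_10_3 lc_f_rc_17_3 lc_f_rc_5_1 lc_f_rc_5_3 lc_f_rc_22_1 lc_f_rc_10_3 lc_f_rc_10_3 lc_f_rc_14_1 lc_f_rc_14_1 lc_f_rc_19_3 lc_f_rc_21_1 lc_f_rc_19_3 lc_f_rc_20_1 lc_f_rc_14_3 lc_f_rc_19_3 lc_f_rc_17_3 lc_f_rc_5_1 lc_f_rc_5_1 lc_f_rc_20_1 lc_f_rc_14_3 lc_f_rc_10_3 lc_f_rc_20_1 lc_f_rc_14_3 lc_f_rc_10_3 lc_f_rc_20_1 lc_f_rc_20_1 lc_f_rc_14_1 lc_f_rc_14_3 lc_f_rc_19_3 lc_f_rc_21_1 lc_f_rc_20_1 lc_f_rc_20_1 lc_f_rc_10_3 lc_f_rc_14_1 lc_f_rc_10_3 lc_f_rc_20_1 lc_f_rc_19_3 lc_f_rc_17_3 lc_f_rc_19_1 lc_f_rc_17_3 lc_f_rc_20_1 lc_f_rc_14_3 lc_f_rc_22_1 lc_f_rc_17_3 lc_f_rc_14_3 lc_f_rc_19_1 lc_f_rc_19_5 lc_f_rc_14_3 lc_f_rc_20_1) (@D3.rec (fun _ => (Cert rels S Gen.f))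 lc_f_Cert_tree lc_f_rc_5_1 lc_f_rc_14_3 lc_f_rc_19_3 lc_f_rc_20_1 lc_f_rc_20_1 lc_f_rc_21_1 lc_f_rc_17_3 lc_f_rc_20_1 lc_f_rc_10_1 lc_f_rc_14_1 lc_f_rc_20_1 lc_f_rc_5_3 lc_f_rc_14_3 lc_f_rc_10_1 lc_f_rc_20_1 lc_f_rc_5_3 lc_f_rc_14_3 lc_f_rc_5_1 lc_f_rc_20_1 lc_f_rc_17_3 lc_f_rc_19_5 lc_f_rc_21_1 lc_f_rc_10_3 lc_f_rc_10_3 lc_f_rc_5_1 lc_f_rc_20_1 lc_f_rc_20_1 lc_f_rc_14_1 lc_f_rc_17_3 lc_f_rc_20_1 lc_f_rc_14_3 lc_f_rc_14_3 lc_f_rc_17_3 lc_f_rc_5_3 lc_f_rc_20_1 lc_f_rc_14_3 lc_f_rc_10_3 lc_f_rc_21_1 lc_f_rc_22_1 lc_f_rc_14_3 lc_f_rc_17_3 lc_f_rc_19_5 lc_f_rc_20_1 lc_f_rc_14_3 lc_f_Cert_tree lc_f_rc_14_3 lc_f_rc_10_3 lc_f_rc_14_1 lc_f_rc_21_1 lc_f_rc_10_3 lc_f_rc_17_3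 lc_f_rc_10_1 lc_f_rc_5_1 lc_f_rc_10_1 lc_f_rc_14_3 lc_f_rc_10_1 lc_f_rc_21_1 lc_f_rc_14_1 lc_f_rc_5_3 lc_f_rc_5_3 lc_f_rc_17_1) (@D3.rec (fun _ => (Cert rels S Gen.f)) lc_f_rc_20_1 lc_f_rc_14_3 lc_f_rc_10_1 lc_f_rc_14_1 lc_f_rc_20_1 lc_f_rc_19_3 lc_f_rc_20_1 lc_f_rc_10_1 lc_f_rc_17_3 lc_f_rc_17_3 lc_f_rc_21_1 lc_f_rc_17_3 lc_f_rc_19_3 lc_f_rc_21_1 lc_f_rc_14_3 lc_f_rc_14_3 lc_f_Cert_tree lc_f_rc_20_1 lc_f_rc_21_1 lc_f_Cert_tree lc_f_rc_20_1 lc_f_rc_10_3 lc_f_rc_21_1 lc_f_rc_21_1 lc_f_rc_20_1 lc_f_rc_17_3 lc_f_rc_21_1 lc_f_rc_17_3 lc_f_rc_20_1 lc_f_rc_17_3 lc_f_rc_5_3 lc_f_rc_17_3 lc_f_rc_17_3 lc_f_rc_14_3 lc_f_rc_20_1 lc_f_rc_17_3 lc_f_rc_17_3 lc_f_rc_14_3 lc_f_rc_14_3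 lc_f_rc_20_1 lc_f_rc_20_1 lc_f_rc_14_1 lc_f_rc_10_3 lc_f_rc_5_1 lc_f_rc_20_1 lc_f_rc_10_3 lc_f_rc_17_3 lc_f_rc_5_1 lc_f_rc_10_3 lc_f_rc_17_3 lc_f_rc_22_1 lc_f_rc_20_1 lc_f_rc_17_3 lc_f_Cert_tree lc_f_rc_20_1 lc_f_rc_17_3 lc_f_rc_14_3 lc_f_rc_17_3 lc_f_rc_14_3 lc_f_rc_14_3 lc_f_rc_21_1 lc_f_rc_19_3) (@D3.rec (fun _ => (Cert rels S Gen.f)) lc_f_Cert_tree lc_f_rc_20_1 lc_f_rc_5_3 lc_f_rc_5_3 lc_f_rc_20_1 lc_f_rc_10_1 lc_f_rc_19_5 lc_f_rc_20_1 lc_f_rc_10_1 lc_f_rc_14_3 lc_f_rc_20_1 lc_f_rc_17_3 lc_f_rc_17_1 lc_f_rc_20_1 lc_f_rc_14_3 lc_f_rc_5_1 lc_f_rc_17_1 lc_f_rc_5_1 lc_f_rc_10_3 lc_f_rc_14_3 lc_f_rc_14_1 lc_f_rc_20_1 lc_f_rc_20_1 lc_f_Cert_tree lc_f_rc_20_1 lc_f_rc_20_1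 lc_f_rc_10_1 lc_f_Cert_tree lc_f_rc_20_1 lc_f_rc_21_1 lc_f_rc_10_3 lc_f_Cert_tree lc_f_rc_20_1 lc_f_rc_10_1 lc_f_rc_5_1 lc_f_rc_20_1 lc_f_rc_14_1 lc_f_rc_10_3 lc_f_rc_10_3 lc_f_rc_17_1 lc_f_rc_20_1 lc_f_rc_19_5 lc_f_rc_20_1 lc_f_rc_14_3 lc_f_rc_5_1 lc_f_rc_5_1 lc_f_rc_10_3 lc_f_rc_17_1 lc_f_rc_20_1 lc_f_rc_19_5 lc_f_rc_17_1 lc_f_rc_20_1 lc_f_rc_5_3 lc_f_rc_5_3 lc_f_rc_10_3 lc_f_rc_17_1 lc_f_rc_17_3 lc_f_Cert_tree lc_f_rc_20_1 lc_f_rc_17_3 lc_f_rc_5_3 lc_f_rc_21_1) (@D3.rec (fun _ => (Cert rels S Gen.f)) lc_f_rc_10_3 lc_f_rc_20_1 lc_f_rc_21_1 lc_f_rc_17_1 lc_f_Cert_tree lc_f_rc_14_3 lc_f_rc_10_1 lc_f_rc_21_1 lc_f_rc_17_3 lc_f_rc_14_3 lc_f_rc_17_1 lc_f_rc_21_1 lc_f_rc_14_3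 lc_f_rc_17_3 lc_f_rc_19_3 lc_f_rc_14_3 lc_f_rc_20_1 lc_f_rc_10_3 lc_f_rc_14_3 lc_f_rc_19_5 lc_f_rc_21_1 lc_f_rc_20_1 lc_f_rc_20_1 lc_f_rc_20_1 lc_f_rc_10_1 lc_f_rc_20_1 lc_f_rc_21_1 lc_f_rc_14_3 lc_f_rc_17_3 lc_f_rc_21_1 lc_f_rc_20_1 lc_f_rc_14_3 lc_f_rc_19_1 lc_f_rc_20_1 lc_f_rc_14_1 lc_f_rc_19_5 lc_f_rc_14_3 lc_f_rc_17_3 lc_f_rc_21_1 lc_f_rc_10_3 lc_f_rc_17_3 lc_f_rc_20_1 lc_f_rc_5_3 lc_f_rc_20_1 lc_f_rc_10_1 lc_f_rc_14_3 lc_f_rc_19_3 lc_f_rc_20_1 lc_f_rc_10_1 lc_f_rc_17_3 lc_f_rc_14_3 lc_f_rc_17_3 lc_f_Cert_tree lc_f_rc_14_3 lc_f_rc_22_1 lc_f_Cert_tree lc_f_rc_20_1 lc_f_rc_20_1 lc_f_rc_14_1 lc_f_rc_14_3 lc_f_rc_10_3 lc_f_rc_17_1) (@D3.rec (fun _ => (Cert rels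 S Gen.f)) lc_f_Cert_tree lc_f_rc_20_1 lc_f_rc_17_3 lc_f_rc_20_1 lc_f_rc_20_1 lc_f_rc_10_3 lc_f_rc_17_3 lc_f_rc_19_3 lc_f_rc_10_3 lc_f_rc_21_1 lc_f_rc_22_1 lc_f_rc_5_3 lc_f_rc_10_1 lc_f_rc_21_1 lc_f_rc_17_3 lc_f_rc_14_1 lc_f_Cert_tree lc_f_rc_21_1 lc_f_rc_22_1 lc_f_rc_20_1 lc_f_rc_14_3 lc_f_rc_20_1 lc_f_rc_10_1 lc_f_rc_10_1 lc_f_rc_10_1 lc_f_rc_17_1 lc_f_rc_20_1 lc_f_rc_19_3 lc_f_rc_14_3 lc_f_rc_21_1 lc_f_rc_14_1 lc_f_rc_10_3 lc_f_rc_21_1 lc_f_rc_10_3 lc_f_rc_20_1 lc_f_rc_5_1 lc_f_rc_14_3 lc_f_rc_17_3 lc_f_rc_14_3 lc_f_rc_17_3 lc_f_rc_21_1 lc_f_rc_14_3 lc_f_rc_20_1 lc_f_rc_10_3 lc_f_rc_5_3 lc_f_rc_14_3 lc_f_rc_5_3 lc_f_rc_21_1 lc_f_rc_14_3 lc_f_rc_17_3 lc_f_rc_17_1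 lc_f_rc_14_3 lc_f_rc_14_3 lc_f_rc_14_3 lc_f_rc_21_1 lc_f_rc_14_3 lc_f_rc_5_1 lc_f_rc_19_5 lc_f_rc_20_1 lc_f_rc_22_1 lc_f_rc_19_5 lc_f_rc_20_1) (@D3.rec (fun _ => (Cert rels S Gen.f)) lc_f_rc_14_1 lc_f_rc_14_1 lc_f_rc_17_3 lc_f_rc_17_3 lc_f_rc_14_3 lc_f_rc_14_3 lc_f_rc_5_3 lc_f_rc_17_1 lc_f_rc_21_1 lc_f_rc_17_3 lc_f_rc_14_3 lc_f_Cert_tree lc_f_rc_21_1 lc_f_rc_10_1 lc_f_rc_21_1 lc_f_rc_14_3 lc_f_rc_14_3 lc_f_rc_14_3 lc_f_rc_17_3 lc_f_rc_20_1 lc_f_rc_14_3 lc_f_rc_10_3 lc_f_rc_14_1 lc_f_rc_21_1 lc_f_rc_21_1 lc_f_rc_19_3 lc_f_rc_14_3 lc_f_rc_14_1 lc_f_rc_5_3 lc_f_rc_10_3 lc_f_rc_5_3 lc_f_rc_17_3 lc_f_rc_14_1 lc_f_rc_10_1 lc_f_rc_20_1 lc_f_rc_10_1 lc_f_rc_20_1 lc_f_rc_14_1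 lc_f_rc_14_3 lc_f_rc_14_3 lc_f_rc_21_1 lc_f_rc_10_3 lc_f_rc_21_1 lc_f_rc_20_1 lc_f_rc_17_1 lc_f_rc_17_3 lc_f_rc_20_1 lc_f_rc_17_3 lc_f_rc_20_1 lc_f_rc_21_1 lc_f_rc_10_3 lc_f_rc_14_1 lc_f_rc_5_3 lc_f_rc_14_3 lc_f_rc_14_3 lc_f_rc_20_1 lc_f_rc_17_3 lc_f_rc_5_3 lc_f_rc_14_3 lc_f_rc_14_3 lc_f_rc_22_1 lc_f_rc_14_3) (@D3.rec (fun _ => (Cert rels S Gen.f)) lc_f_rc_5_3 lc_f_rc_10_3 lc_f_rc_5_3 lc_f_rc_19_3 lc_f_rc_20_1 lc_f_rc_5_3 lc_f_rc_21_1 lc_f_rc_20_1 lc_f_Cert_tree lc_f_rc_14_1 lc_f_rc_17_3 lc_f_rc_17_1 lc_f_rc_14_1 lc_f_rc_5_3 lc_f_rc_17_1 lc_f_rc_14_3 lc_f_rc_10_1 lc_f_rc_17_1 lc_f_rc_14_3 lc_f_rc_17_1 lc_f_rc_20_1 lc_f_Cert_tree lc_f_rc_5_3 lc_f_rc_20_1 lc_f_rc_14_3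 lc_f_rc_14_3 lc_f_rc_17_1 lc_f_rc_20_1 lc_f_rc_20_1 lc_f_rc_14_3 lc_f_rc_17_3 lc_f_rc_14_1 lc_f_rc_17_3 lc_f_rc_14_1 lc_f_Cert_tree lc_f_rc_20_1 lc_f_rc_14_3 lc_f_rc_20_1 lc_f_rc_14_3 lc_f_rc_17_3 lc_f_rc_17_3 lc_f_rc_17_3 lc_f_rc_10_3 lc_f_rc_17_1 lc_f_rc_20_1 lc_f_rc_20_1 lc_f_rc_19_1 lc_f_rc_20_1 lc_f_rc_10_3 lc_f_rc_14_1 lc_f_rc_17_1 lc_f_rc_17_3 lc_f_rc_10_3 lc_f_rc_5_1 lc_f_rc_21_1 lc_f_rc_17_3 lc_f_rc_17_3 lc_f_rc_19_3 lc_f_rc_10_1 lc_f_rc_5_3 lc_f_rc_20_1 lc_f_rc_21_1) (@D3.rec (fun _ => (Cert rels S Gen.f)) lc_f_rc_17_1 lc_f_rc_17_3 lc_f_rc_14_1 lc_f_rc_20_1 lc_f_rc_17_1 lc_f_rc_19_3 lc_f_rc_14_3 lc_f_rc_17_3 lc_f_rc_14_3 lc_f_rc_10_3 lc_f_rc_5_3 lc_f_rc_17_3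 lc_f_rc_10_3 lc_f_rc_17_3 lc_f_rc_20_1 lc_f_rc_10_3 lc_f_rc_5_1 lc_f_rc_5_3 lc_f_rc_17_3 lc_f_rc_17_3 lc_f_rc_21_1 lc_f_rc_21_1 lc_f_rc_20_1 lc_f_rc_10_3 lc_f_rc_19_5 lc_f_rc_19_5 lc_f_rc_20_1 lc_f_rc_20_1 lc_f_rc_5_1 lc_f_rc_21_1 lc_f_rc_19_3 lc_f_rc_10_1 lc_f_rc_10_1 lc_f_Cert_tree lc_f_rc_20_1 lc_f_rc_19_5 lc_f_rc_5_1 lc_f_rc_20_1 lc_f_rc_20_1 lc_f_rc_20_1 lc_f_rc_20_1 lc_f_rc_10_3 lc_f_rc_5_3 lc_f_rc_20_1 lc_f_rc_17_3 lc_f_rc_5_3 lc_f_rc_17_3 lc_f_rc_20_1 lc_f_rc_17_3 lc_f_rc_19_3 lc_f_Cert_tree lc_f_rc_20_1 lc_f_rc_17_3 lc_f_rc_14_3 lc_f_rc_17_3 lc_f_rc_14_1 lc_f_rc_17_3 lc_f_rc_17_1 lc_f_rc_21_1 lc_f_rc_20_1 lc_f_rc_10_3 lc_f_rc_14_3) (@D3.rec (fun _ =>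 (Cert rels S Gen.f)) lc_f_Cert_tree lc_f_rc_17_3 lc_f_rc_20_1 lc_f_rc_10_3 lc_f_rc_19_5 lc_f_rc_17_3 lc_f_rc_14_3 lc_f_Cert_tree lc_f_rc_20_1 lc_f_rc_17_3 lc_f_rc_17_1 lc_f_rc_19_3 lc_f_rc_17_3 lc_f_rc_14_3 lc_f_rc_17_1 lc_f_rc_20_1 lc_f_rc_10_3 lc_f_Cert_tree lc_f_rc_21_1 lc_f_rc_10_3 lc_f_Cert_tree lc_f_rc_20_1 lc_f_rc_20_1 lc_f_Cert_tree lc_f_rc_20_1 lc_f_rc_17_3 lc_f_rc_5_1 lc_f_rc_10_1 lc_f_rc_21_1 lc_f_rc_20_1 lc_f_Cert_tree lc_f_rc_20_1 lc_f_rc_5_3 lc_f_rc_20_1 lc_f_rc_10_3 lc_f_rc_20_1 lc_f_rc_17_3 lc_f_rc_20_1 lc_f_rc_21_1 lc_f_rc_14_1 lc_f_rc_20_1 lc_f_rc_14_3 lc_f_rc_10_3 lc_f_rc_10_3 lc_f_Cert_tree lc_f_rc_17_1 lc_f_rc_19_3 lc_f_rc_17_1 lc_f_rc_20_1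 lc_f_rc_21_1 lc_f_rc_20_1 lc_f_rc_20_1 lc_f_rc_10_1 lc_f_rc_17_1 lc_f_rc_20_1 lc_f_rc_20_1 lc_f_Cert_tree lc_f_rc_17_1 lc_f_rc_20_1 lc_f_rc_17_1 lc_f_rc_14_3 lc_f_rc_19_3) (@D3.rec (fun _ => (Cert rels S Gen.f)) lc_f_rc_14_1 lc_f_Cert_tree lc_f_rc_17_3 lc_f_rc_10_3 lc_f_rc_17_3 lc_f_rc_14_3 lc_f_rc_5_1 lc_f_rc_5_1 lc_f_rc_14_1 lc_f_rc_5_3 lc_f_rc_14_3 lc_f_rc_5_1 lc_f_rc_20_1 lc_f_rc_20_1 lc_f_rc_14_3 lc_f_rc_5_3 lc_f_rc_14_3 lc_f_rc_10_1 lc_f_rc_14_3 lc_f_rc_19_1 lc_f_rc_20_1 lc_f_rc_21_1 lc_f_rc_19_3 lc_f_rc_17_1 lc_f_rc_14_3 lc_f_rc_14_3 lc_f_rc_17_3 lc_f_rc_21_1 lc_f_rc_14_3 lc_f_rc_10_3 lc_f_rc_17_3 lc_f_rc_14_3 lc_f_rc_10_3 lc_f_rc_10_3 lc_f_rc_20_1 lc_f_rc_14_1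 lc_f_rc_17_3 lc_f_rc_17_3 lc_f_rc_17_3 lc_f_rc_14_1 lc_f_rc_17_3 lc_f_rc_19_5 lc_f_rc_20_1 lc_f_rc_10_1 lc_f_rc_17_1 lc_f_rc_17_3 lc_f_rc_14_3 lc_f_rc_10_3 lc_f_rc_5_3 lc_f_rc_17_3 lc_f_rc_17_3 lc_f_rc_14_3 lc_f_rc_17_1 lc_f_rc_14_1 lc_f_rc_10_3 lc_f_rc_17_3 lc_f_rc_10_3 lc_f_rc_14_3 lc_f_rc_17_3 lc_f_rc_21_1 lc_f_rc_20_1 lc_f_Cert_tree) (@D3.rec (fun _ => (Cert rels S Gen.f)) lc_f_rc_14_3 lc_f_rc_17_3 lc_f_rc_5_3 lc_f_rc_17_3 lc_f_rc_5_1 lc_f_rc_20_1 lc_f_rc_21_1 lc_f_rc_20_1 lc_f_rc_17_1 lc_f_rc_19_3 lc_f_rc_20_1 lc_f_rc_10_3 lc_f_rc_14_3 lc_f_rc_14_3 lc_f_rc_10_3 lc_f_rc_14_3 lc_f_rc_10_3 lc_f_rc_17_3 lc_f_rc_14_3 lc_f_rc_10_1 lc_f_rc_5_1 lc_f_rc_10_3 lc_f_rc_20_1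 lc_f_rc_20_1 lc_f_rc_21_1 lc_f_rc_10_1 lc_f_rc_19_5 lc_f_rc_17_3 lc_f_rc_17_1 lc_f_rc_14_3 lc_f_rc_17_3 lc_f_rc_14_3 lc_f_rc_5_1 lc_f_rc_10_3 lc_f_rc_10_1 lc_f_rc_14_3 lc_f_rc_10_3 lc_f_rc_21_1 lc_f_rc_14_3 lc_f_rc_14_3 lc_f_rc_20_1 lc_f_rc_10_3 lc_f_rc_17_3 lc_f_rc_10_3 lc_f_rc_5_1 lc_f_rc_10_1 lc_f_rc_5_3 lc_f_rc_14_3 lc_f_rc_19_3 lc_f_rc_20_1 lc_f_rc_14_3 lc_f_rc_14_3 lc_f_rc_17_3 lc_f_rc_19_3 lc_f_rc_19_1 lc_f_rc_5_3 lc_f_rc_17_3 lc_f_rc_14_3 lc_f_rc_21_1 lc_f_rc_5_3 lc_f_rc_17_3 lc_f_rc_5_3) (@D3.rec (fun _ => (Cert rels S Gen.f)) lc_f_rc_20_1 lc_f_rc_10_3 lc_f_rc_17_3 lc_f_rc_14_1 lc_f_rc_14_3 lc_f_rc_21_1 lc_f_rc_17_3 lc_f_rc_10_3 lc_f_rc_17_3 lc_f_rc_19_3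 lc_f_rc_21_1 lc_f_rc_10_3 lc_f_rc_10_3 lc_f_rc_10_3 lc_f_rc_19_3 lc_f_rc_20_1 lc_f_rc_5_3 lc_f_rc_10_3 lc_f_rc_19_3 lc_f_Cert_tree lc_f_rc_17_3 lc_f_rc_14_1 lc_f_rc_21_1 lc_f_rc_17_1 lc_f_rc_21_1 lc_f_rc_19_5 lc_f_rc_10_3 lc_f_rc_5_1 lc_f_rc_17_3 lc_f_rc_10_3 lc_f_rc_21_1 lc_f_rc_14_3 lc_f_rc_14_1 lc_f_rc_14_3 lc_f_rc_17_3 lc_f_rc_19_3 lc_f_rc_14_1 lc_f_rc_10_3 lc_f_rc_10_1 lc_f_rc_14_1 lc_f_rc_14_1 lc_f_rc_14_1 lc_f_rc_19_3 lc_f_rc_14_3 lc_f_rc_5_1 lc_f_rc_14_3 lc_f_rc_22_1 lc_f_rc_19_3 lc_f_Cert_tree lc_f_rc_21_1 lc_f_rc_20_1 lc_f_rc_17_3 lc_f_rc_14_3 lc_f_rc_20_1 lc_f_rc_14_3 lc_f_rc_5_1 lc_f_rc_5_1 lc_f_rc_21_1 lc_f_rc_20_1 lc_f_rc_17_1 lc_f_rc_10_3 lc_f_Cert_tree)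 (@D3.rec (fun _ => (Cert rels S Gen.f)) lc_f_rc_10_3 lc_f_rc_5_1 lc_f_rc_20_1 lc_f_rc_10_3 lc_f_rc_14_3 lc_f_rc_10_3 lc_f_rc_20_1 lc_f_rc_17_3 lc_f_rc_14_1 lc_f_rc_5_1 lc_f_rc_19_3 lc_f_rc_14_3 lc_f_rc_17_1 lc_f_rc_17_3 lc_f_rc_14_3 lc_f_rc_17_3 lc_f_rc_21_1 lc_f_rc_20_1 lc_f_rc_17_3 lc_f_rc_14_3 lc_f_rc_20_1 lc_f_rc_17_3 lc_f_Cert_tree lc_f_rc_17_1 lc_f_Cert_tree lc_f_rc_19_3 lc_f_rc_19_3 lc_f_rc_19_5 lc_f_rc_10_1 lc_f_rc_21_1 lc_f_rc_20_1 lc_f_rc_21_1 lc_f_rc_17_3 lc_f_rc_21_1 lc_f_rc_20_1 lc_f_Cert_tree lc_f_rc_20_1 lc_f_rc_14_3 lc_f_rc_14_1 lc_f_rc_17_3 lc_f_Cert_tree lc_f_rc_20_1 lc_f_rc_10_3 lc_f_rc_20_1 lc_f_rc_10_3 lc_f_rc_17_1 lc_f_rc_17_3 lc_f_rc_19_3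 lc_f_rc_17_3 lc_f_rc_20_1 lc_f_rc_14_3 lc_f_rc_21_1 lc_f_rc_20_1 lc_f_rc_21_1 lc_f_rc_19_5 lc_f_rc_20_1 lc_f_rc_21_1 lc_f_rc_5_3 lc_f_rc_17_3 lc_f_rc_19_5 lc_f_rc_10_3 lc_f_rc_14_3) (@D3.rec (fun _ => (Cert rels S Gen.f)) lc_f_rc_10_3 lc_f_rc_14_3 lc_f_rc_10_3 lc_f_rc_10_3 lc_f_rc_14_3 lc_f_rc_14_3 lc_f_rc_17_3 lc_f_rc_17_3 lc_f_rc_14_3 lc_f_rc_5_3 lc_f_rc_17_3 lc_f_rc_21_1 lc_f_rc_20_1 lc_f_rc_21_1 lc_f_rc_5_3 lc_f_rc_14_3 lc_f_rc_19_5 lc_f_rc_10_3 lc_f_rc_17_3 lc_f_rc_21_1 lc_f_rc_22_1 lc_f_rc_10_1 lc_f_rc_10_1 lc_f_rc_10_1 lc_f_rc_19_3 lc_f_rc_21_1 lc_f_rc_20_1 lc_f_rc_20_1 lc_f_rc_14_3 lc_f_rc_20_1 lc_f_rc_14_3 lc_f_rc_17_3 lc_f_rc_20_1 lc_f_rc_5_1 lc_f_rc_14_3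 lc_f_rc_10_1 lc_f_rc_20_1 lc_f_rc_21_1 lc_f_rc_5_3 lc_f_rc_14_3 lc_f_rc_14_3 lc_f_rc_19_5 lc_f_rc_20_1 lc_f_rc_10_3 lc_f_rc_17_3 lc_f_rc_17_1 lc_f_rc_17_1 lc_f_rc_10_3 lc_f_rc_17_3 lc_f_rc_5_1 lc_f_rc_14_3 lc_f_rc_5_1 lc_f_rc_14_3 lc_f_rc_10_3 lc_f_rc_17_3 lc_f_rc_17_3 lc_f_rc_21_1 lc_f_rc_17_3 lc_f_rc_20_1 lc_f_rc_14_3 lc_f_rc_17_3 lc_f_rc_20_1) (@D3.rec (fun _ => (Cert rels S Gen.f)) lc_f_rc_14_1 lc_f_rc_14_3 lc_f_rc_5_1 lc_f_rc_14_3 lc_f_rc_17_3 lc_f_rc_22_1 lc_f_rc_14_1 lc_f_rc_10_3 lc_f_rc_19_5 lc_f_rc_14_1 lc_f_rc_5_1 lc_f_rc_10_3 lc_f_rc_19_5 lc_f_rc_20_1 lc_f_rc_20_1 lc_f_rc_20_1 lc_f_rc_20_1 lc_f_rc_10_3 lc_f_rc_19_5 lc_f_rc_21_1 lc_f_rc_5_3 lc_f_rc_5_3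 lc_f_rc_17_3 lc_f_rc_21_1 lc_f_Cert_tree lc_f_rc_20_1 lc_f_rc_10_3 lc_f_rc_10_3 lc_f_rc_5_1 lc_f_Cert_tree lc_f_rc_14_3 lc_f_Cert_tree lc_f_rc_10_1 lc_f_rc_17_1 lc_f_rc_17_3 lc_f_rc_5_1 lc_f_Cert_tree lc_f_rc_14_3 lc_f_rc_21_1 lc_f_rc_17_3 lc_f_rc_5_3 lc_f_rc_14_3 lc_f_rc_10_3 lc_f_rc_14_3 lc_f_rc_17_3 lc_f_rc_20_1 lc_f_rc_17_3 lc_f_Cert_tree lc_f_rc_14_3 lc_f_rc_10_1 lc_f_rc_22_1 lc_f_rc_10_3 lc_f_rc_19_3 lc_f_rc_20_1 lc_f_rc_17_3 lc_f_rc_17_3 lc_f_rc_5_3 lc_f_rc_14_3 lc_f_rc_20_1 lc_f_rc_5_3 lc_f_rc_20_1 lc_f_rc_19_3) (@D3.rec (fun _ => (Cert rels S Gen.f)) lc_f_rc_14_1 lc_f_rc_10_3 lc_f_rc_5_1 lc_f_rc_14_1 lc_f_rc_17_1 lc_f_Cert_tree lc_f_rc_19_3 lc_f_rc_17_3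 lc_f_rc_21_1 lc_f_rc_17_3 lc_f_rc_20_1 lc_f_rc_17_3 lc_f_rc_20_1 lc_f_rc_14_3 lc_f_rc_10_3 lc_f_rc_14_3 lc_f_rc_17_3 lc_f_rc_14_3 lc_f_rc_20_1 lc_f_rc_21_1 lc_f_rc_20_1 lc_f_rc_20_1 lc_f_rc_14_3 lc_f_rc_17_1 lc_f_rc_20_1 lc_f_rc_21_1 lc_f_rc_10_3 lc_f_rc_10_3 lc_f_rc_14_3 lc_f_rc_14_3 lc_f_rc_19_3 lc_f_rc_17_3 lc_f_rc_17_3 lc_f_rc_20_1 lc_f_Cert_tree lc_f_rc_20_1 lc_f_rc_5_1 lc_f_rc_21_1 lc_f_Cert_tree lc_f_rc_19_5 lc_f_rc_17_3 lc_f_rc_21_1 lc_f_rc_21_1 lc_f_rc_17_3 lc_f_rc_14_3 lc_f_Cert_tree lc_f_Cert_tree lc_f_rc_20_1 lc_f_Cert_tree lc_f_rc_21_1 lc_f_Cert_tree lc_f_rc_20_1 lc_f_rc_14_3 lc_f_rc_14_3 lc_f_rc_10_3 lc_f_rc_22_1 lc_f_rc_21_1 lc_f_rc_17_1 lc_f_rc_14_3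 lc_f_Cert_tree lc_f_rc_20_1 lc_f_rc_10_3) (@D3.rec (fun _ => (Cert rels S Gen.f)) lc_f_rc_5_3 lc_f_rc_20_1 lc_f_rc_5_1 lc_f_rc_14_3 lc_f_rc_17_3 lc_f_rc_19_5 lc_f_rc_14_1 lc_f_rc_19_5 lc_f_rc_14_1 lc_f_rc_17_1 lc_f_rc_10_3 lc_f_rc_14_3 lc_f_rc_10_3 lc_f_rc_19_3 lc_f_rc_10_3 lc_f_rc_20_1 lc_f_rc_20_1 lc_f_rc_20_1 lc_f_rc_10_3 lc_f_rc_14_3 lc_f_rc_20_1 lc_f_rc_21_1 lc_f_rc_17_3 lc_f_rc_20_1 lc_f_rc_17_3 lc_f_rc_17_3 lc_f_rc_20_1 lc_f_rc_20_1 lc_f_rc_14_1 lc_f_rc_21_1 lc_f_rc_20_1 lc_f_rc_5_1 lc_f_rc_5_3 lc_f_rc_17_3 lc_f_rc_20_1 lc_f_rc_20_1 lc_f_rc_10_3 lc_f_rc_21_1 lc_f_rc_17_3 lc_f_rc_20_1 lc_f_Cert_tree lc_f_rc_21_1 lc_f_rc_20_1 lc_f_rc_20_1 lc_f_rc_10_1 lc_f_rc_21_1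 lc_f_rc_10_3 lc_f_rc_14_1 lc_f_rc_20_1 lc_f_rc_10_3 lc_f_Cert_tree lc_f_rc_10_3 lc_f_rc_5_1 lc_f_Cert_tree lc_f_rc_20_1 lc_f_Cert_tree lc_f_rc_14_3 lc_f_rc_17_3 lc_f_rc_10_3 lc_f_rc_14_3 lc_f_Cert_tree lc_f_rc_20_1) (@D3.rec (fun _ => (Cert rels S Gen.f)) lc_f_rc_21_1 lc_f_rc_5_1 lc_f_rc_14_3 lc_f_rc_10_1 lc_f_rc_17_3 lc_f_rc_19_1 lc_f_rc_17_3 lc_f_rc_21_1 lc_f_rc_22_1 lc_f_rc_20_1 lc_f_rc_20_1 lc_f_rc_20_1 lc_f_rc_20_1 lc_f_rc_20_1 lc_f_rc_21_1 lc_f_Cert_tree lc_f_rc_20_1 lc_f_rc_10_1 lc_f_rc_20_1 lc_f_rc_20_1 lc_f_rc_17_1 lc_f_rc_14_3 lc_f_Cert_tree lc_f_rc_20_1 lc_f_rc_20_1 lc_f_rc_17_3 lc_f_rc_14_3 lc_f_Cert_tree lc_f_rc_14_3 lc_f_rc_10_3 lc_f_rc_5_1 lc_f_rc_14_3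 lc_f_rc_5_3 lc_f_rc_17_3 lc_f_rc_10_3 lc_f_rc_19_3 lc_f_rc_22_1 lc_f_rc_14_3 lc_f_rc_20_1 lc_f_rc_5_3 lc_f_rc_14_3 lc_f_rc_19_3 lc_f_rc_17_3 lc_f_rc_20_1 lc_f_rc_14_3 lc_f_rc_10_1 lc_f_rc_21_1 lc_f_rc_5_3 lc_f_rc_20_1 lc_f_rc_14_3 lc_f_rc_5_1 lc_f_rc_10_3 lc_f_rc_20_1 lc_f_rc_10_1 lc_f_rc_5_3 lc_f_Cert_tree lc_f_rc_20_1 lc_f_rc_14_1 lc_f_rc_20_1 lc_f_rc_14_3 lc_f_rc_14_3 lc_f_rc_5_3) (@D3.rec (fun _ => (Cert rels S Gen.f)) lc_f_rc_20_1 lc_f_rc_19_5 lc_f_rc_10_3 lc_f_rc_20_1 lc_f_rc_10_1 lc_f_rc_10_3 lc_f_rc_17_3 lc_f_rc_14_3 lc_f_rc_14_3 lc_f_rc_17_3 lc_f_rc_14_3 lc_f_rc_21_1 lc_f_rc_17_3 lc_f_rc_10_3 lc_f_rc_20_1 lc_f_Cert_tree lc_f_rc_20_1 lc_f_rc_21_1 lc_f_rc_20_1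 lc_f_rc_17_1 lc_f_rc_20_1 lc_f_rc_5_1 lc_f_rc_10_3 lc_f_rc_21_1 lc_f_rc_21_1 lc_f_rc_5_1 lc_f_rc_14_3 lc_f_rc_10_3 lc_f_rc_5_3 lc_f_rc_20_1 lc_f_rc_10_3 lc_f_rc_17_3 lc_f_rc_21_1 lc_f_rc_21_1 lc_f_rc_5_1 lc_f_rc_10_3 lc_f_rc_14_3 lc_f_rc_20_1 lc_f_rc_10_3 lc_f_rc_22_1 lc_f_rc_14_3 lc_f_rc_10_3 lc_f_rc_5_1 lc_f_rc_17_1 lc_f_rc_20_1 lc_f_rc_10_1 lc_f_rc_14_3 lc_f_rc_21_1 lc_f_rc_10_3 lc_f_rc_5_1 lc_f_rc_17_3 lc_f_rc_5_3 lc_f_rc_20_1 lc_f_rc_20_1 lc_f_rc_17_1 lc_f_rc_17_1 lc_f_rc_17_1 lc_f_rc_17_1 lc_f_rc_17_3 lc_f_rc_14_3 lc_f_rc_21_1 lc_f_Cert_tree) (@D3.rec (fun _ => (Cert rels S Gen.f)) lc_f_rc_17_3 lc_f_rc_17_3 lc_f_rc_21_1 lc_f_rc_21_1 lc_f_rc_19_5 lc_f_rc_17_3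 lc_f_rc_14_3 lc_f_rc_14_1 lc_f_rc_14_3 lc_f_rc_14_3 lc_f_rc_10_1 lc_f_rc_17_1 lc_f_rc_14_3 lc_f_Cert_tree lc_f_rc_14_3 lc_f_rc_5_1 lc_f_rc_17_1 lc_f_rc_20_1 lc_f_rc_5_3 lc_f_rc_10_1 lc_f_rc_14_3 lc_f_rc_19_3 lc_f_rc_21_1 lc_f_rc_5_1 lc_f_Cert_tree lc_f_rc_20_1 lc_f_rc_10_3 lc_f_rc_17_3 lc_f_Cert_tree lc_f_rc_19_3 lc_f_rc_10_3 lc_f_rc_10_3 lc_f_rc_20_1 lc_f_rc_19_3 lc_f_rc_19_1 lc_f_rc_20_1 lc_f_rc_14_3 lc_f_Cert_tree lc_f_rc_17_3 lc_f_rc_21_1 lc_f_rc_20_1 lc_f_rc_14_3 lc_f_rc_14_3 lc_f_rc_10_1 lc_f_rc_10_3 lc_f_rc_10_3 lc_f_rc_19_1 lc_f_rc_21_1 lc_f_rc_21_1 lc_f_rc_17_3 lc_f_rc_20_1 lc_f_Cert_tree lc_f_rc_20_1 lc_f_rc_19_3 lc_f_rc_22_1 lc_f_rc_14_1 lc_f_rc_19_5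 lc_f_rc_10_3 lc_f_rc_14_1 lc_f_rc_14_3 lc_f_rc_21_1 lc_f_rc_10_3) (@D3.rec (fun _ => (Cert rels S Gen.f)) lc_f_rc_19_3 lc_f_rc_21_1 lc_f_rc_17_3 lc_f_rc_14_1 lc_f_rc_14_3 lc_f_rc_20_1 lc_f_rc_17_1 lc_f_rc_10_1 lc_f_rc_5_3 lc_f_rc_17_3 lc_f_rc_21_1 lc_f_rc_20_1 lc_f_rc_21_1 lc_f_rc_5_3 lc_f_rc_14_3 lc_f_rc_19_5 lc_f_rc_20_1 lc_f_rc_17_3 lc_f_rc_21_1 lc_f_rc_17_1 lc_f_rc_5_1 lc_f_rc_20_1 lc_f_rc_17_3 lc_f_rc_14_3 lc_f_rc_14_3 lc_f_rc_17_3 lc_f_rc_19_3 lc_f_rc_21_1 lc_f_rc_17_1 lc_f_rc_20_1 lc_f_rc_17_1 lc_f_rc_5_1 lc_f_rc_21_1 lc_f_rc_20_1 lc_f_rc_17_1 lc_f_rc_20_1 lc_f_Cert_tree lc_f_rc_20_1 lc_f_rc_17_3 lc_f_rc_5_1 lc_f_rc_10_3 lc_f_rc_19_5 lc_f_rc_5_1 lc_f_rc_10_3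 lc_f_Cert_tree lc_f_rc_10_3 lc_f_rc_17_1 lc_f_rc_19_3 lc_f_rc_20_1 lc_f_rc_10_1 lc_f_rc_21_1 lc_f_rc_20_1 lc_f_rc_20_1 lc_f_rc_10_1 lc_f_rc_14_3 lc_f_rc_17_3 lc_f_rc_17_3 lc_f_rc_21_1 lc_f_Cert_tree lc_f_rc_20_1 lc_f_rc_20_1 lc_f_rc_21_1) (@D3.rec (fun _ => (Cert rels S Gen.f)) lc_f_rc_5_3 lc_f_rc_10_1 lc_f_rc_10_1 lc_f_rc_19_3 lc_f_rc_14_3 lc_f_Cert_tree lc_f_rc_20_1 lc_f_rc_14_3 lc_f_Cert_tree lc_f_rc_20_1 lc_f_rc_20_1 lc_f_rc_20_1 lc_f_rc_14_3 lc_f_rc_14_1 lc_f_Cert_tree lc_f_Cert_tree lc_f_rc_20_1 lc_f_rc_19_3 lc_f_rc_20_1 lc_f_rc_14_3 lc_f_Cert_tree lc_f_rc_5_3 lc_f_Cert_tree lc_f_rc_20_1 lc_f_rc_10_1 lc_f_rc_17_3 lc_f_rc_22_1 lc_f_rc_19_5 lc_f_rc_17_1 lc_f_rc_14_3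 lc_f_rc_20_1 lc_f_rc_20_1 lc_f_rc_17_3 lc_f_rc_14_3 lc_f_rc_19_3 lc_f_rc_17_1 lc_f_rc_10_1 lc_f_rc_14_3 lc_f_Cert_tree lc_f_rc_10_3 lc_f_rc_10_3 lc_f_Cert_tree lc_f_rc_20_1 lc_f_rc_21_1 lc_f_rc_21_1 lc_f_rc_19_5 lc_f_rc_17_3 lc_f_rc_20_1 lc_f_rc_21_1 lc_f_Cert_tree lc_f_rc_20_1 lc_f_rc_14_3 lc_f_rc_20_1 lc_f_rc_10_3 lc_f_rc_21_1 lc_f_rc_21_1 lc_f_rc_17_3 lc_f_rc_17_1 lc_f_rc_21_1 lc_f_rc_20_1 lc_f_rc_20_1 lc_f_rc_19_1) (@D3.rec (fun _ => (Cert rels S Gen.f)) lc_f_rc_21_1 lc_f_rc_21_1 lc_f_rc_10_1 lc_f_rc_20_1 lc_f_rc_20_1 lc_f_rc_10_1 lc_f_rc_14_3 lc_f_rc_17_3 lc_f_rc_22_1 lc_f_rc_20_1 lc_f_rc_20_1 lc_f_rc_17_3 lc_f_rc_20_1 lc_f_rc_19_3 lc_f_rc_21_1 lc_f_Cert_tree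 lc_f_rc_17_1 lc_f_rc_20_1 lc_f_rc_19_3 lc_f_rc_17_3 lc_f_rc_21_1 lc_f_rc_21_1 lc_f_rc_17_3 lc_f_rc_17_3 lc_f_rc_17_3 lc_f_rc_21_1 lc_f_rc_14_3 lc_f_rc_21_1 lc_f_rc_17_3 lc_f_rc_17_3 lc_f_rc_22_1 lc_f_Cert_tree lc_f_rc_14_3 lc_f_rc_21_1 lc_f_rc_10_3 lc_f_rc_10_3 lc_f_rc_10_3 lc_f_rc_17_1 lc_f_rc_20_1 lc_f_rc_14_3 lc_f_rc_20_1 lc_f_rc_20_1 lc_f_rc_17_3 lc_f_rc_10_3 lc_f_rc_10_3 lc_f_rc_20_1 lc_f_Cert_tree lc_f_rc_10_3 lc_f_rc_20_1 lc_f_Cert_tree lc_f_rc_17_1 lc_f_rc_17_3 lc_f_Cert_tree lc_f_rc_20_1 lc_f_rc_14_3 lc_f_rc_17_3 lc_f_Cert_tree lc_f_rc_21_1 lc_f_rc_14_3 lc_f_rc_17_1 lc_f_rc_20_1 lc_f_rc_20_1) (@D3.rec (fun _ => (Cert rels S Gen.f)) lc_f_rc_5_1 lc_f_rc_20_1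 lc_f_rc_10_1 lc_f_rc_20_1 lc_f_Cert_tree lc_f_rc_21_1 lc_f_rc_20_1 lc_f_rc_17_1 lc_f_rc_20_1 lc_f_rc_14_3 lc_f_rc_10_3 lc_f_rc_10_3 lc_f_Cert_tree lc_f_rc_21_1 lc_f_rc_5_1 lc_f_rc_10_3 lc_f_rc_20_1 lc_f_Cert_tree lc_f_rc_14_1 lc_f_rc_21_1 lc_f_rc_17_3 lc_f_rc_14_3 lc_f_rc_17_3 lc_f_rc_10_3 lc_f_rc_21_1 lc_f_rc_17_1 lc_f_rc_14_3 lc_f_rc_19_5 lc_f_rc_20_1 lc_f_rc_14_1 lc_f_rc_17_3 lc_f_rc_22_1 lc_f_rc_17_3 lc_f_rc_10_1 lc_f_rc_21_1 lc_f_Cert_tree lc_f_rc_21_1 lc_f_rc_14_3 lc_f_rc_10_3 lc_f_rc_17_1 lc_f_rc_22_1 lc_f_rc_21_1 lc_f_rc_5_3 lc_f_rc_14_1 lc_f_rc_19_3 lc_f_rc_14_3 lc_f_rc_17_3 lc_f_rc_22_1 lc_f_rc_17_3 lc_f_rc_17_1 lc_f_rc_21_1 lc_f_rc_22_1 lc_f_rc_17_1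 lc_f_Cert_tree lc_f_rc_20_1 lc_f_rc_17_1 lc_f_rc_17_3 lc_f_rc_5_3 lc_f_rc_5_3 lc_f_rc_14_3 lc_f_Cert_tree lc_f_rc_21_1) (@D3.rec (fun _ => (Cert rels S Gen.f)) lc_f_rc_10_3 lc_f_rc_10_3 lc_f_rc_19_3 lc_f_rc_17_3 lc_f_rc_17_3 lc_f_Cert_tree lc_f_rc_20_1 lc_f_rc_10_3 lc_f_rc_22_1 lc_f_rc_10_3 lc_f_rc_17_3 lc_f_rc_14_3 lc_f_rc_21_1 lc_f_rc_21_1 lc_f_rc_10_3 lc_f_rc_10_3 lc_f_rc_17_3 lc_f_rc_19_5 lc_f_rc_17_3 lc_f_rc_10_3 lc_f_rc_22_1 lc_f_rc_10_3 lc_f_rc_21_1 lc_f_rc_10_3 lc_f_rc_17_1 lc_f_rc_10_3 lc_f_rc_10_1 lc_f_rc_17_1 lc_f_rc_20_1 lc_f_rc_17_1 lc_f_rc_10_3 lc_f_rc_21_1 lc_f_rc_10_1 lc_f_rc_14_3 lc_f_rc_5_3 lc_f_rc_20_1 lc_f_rc_21_1 lc_f_rc_17_3 lc_f_rc_14_1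 lc_f_Cert_tree lc_f_rc_14_1 lc_f_rc_17_3 lc_f_rc_10_3 lc_f_rc_5_1 lc_f_rc_20_1 lc_f_rc_20_1 lc_f_rc_21_1 lc_f_rc_19_1 lc_f_rc_14_3 lc_f_rc_5_3 lc_f_rc_17_3 lc_f_rc_19_1 lc_f_rc_20_1 lc_f_rc_5_1 lc_f_rc_10_1 lc_f_rc_20_1 lc_f_rc_20_1 lc_f_rc_14_3 lc_f_rc_17_3 lc_f_rc_10_1 lc_f_rc_5_3 lc_f_rc_10_3) (@D3.rec (fun _ => (Cert rels S Gen.f)) lc_f_rc_17_3 lc_f_rc_17_3 lc_f_rc_5_1 lc_f_rc_14_3 lc_f_rc_5_3 lc_f_rc_10_3 lc_f_rc_19_3 lc_f_rc_10_3 lc_f_rc_10_3 lc_f_rc_21_1 lc_f_rc_10_3 lc_f_rc_17_3 lc_f_rc_22_1 lc_f_rc_10_1 lc_f_rc_14_3 lc_f_rc_14_3 lc_f_Cert_tree lc_f_rc_10_3 lc_f_rc_21_1 lc_f_rc_10_3 lc_f_rc_19_1 lc_f_rc_10_3 lc_f_Cert_tree lc_f_rc_21_1 lc_f_rc_20_1 lc_f_rc_20_1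 lc_f_rc_14_3 lc_f_rc_21_1 lc_f_Cert_tree lc_f_rc_5_1 lc_f_rc_20_1 lc_f_rc_10_3 lc_f_rc_21_1 lc_f_rc_14_3 lc_f_rc_20_1 lc_f_rc_21_1 lc_f_rc_20_1 lc_f_rc_10_3 lc_f_rc_14_1 lc_f_rc_17_3 lc_f_rc_5_1 lc_f_rc_19_3 lc_f_rc_10_1 lc_f_rc_20_1 lc_f_rc_5_3 lc_f_rc_10_3 lc_f_rc_14_3 lc_f_Cert_tree lc_f_rc_10_1 lc_f_rc_14_3 lc_f_rc_14_3 lc_f_rc_21_1 lc_f_rc_10_1 lc_f_rc_17_1 lc_f_rc_20_1 lc_f_rc_19_1 lc_f_rc_14_3 lc_f_Cert_tree lc_f_rc_10_1 lc_f_rc_10_1 lc_f_rc_19_3 lc_f_rc_20_1) (@D3.rec (fun _ => (Cert rels S Gen.f)) lc_f_rc_10_3 lc_f_rc_17_3 lc_f_rc_21_1 lc_f_rc_20_1 lc_f_rc_17_3 lc_f_rc_10_3 lc_f_rc_17_3 lc_f_rc_14_3 lc_f_rc_20_1 lc_f_rc_10_3 lc_f_rc_17_3 lc_f_rc_21_1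 lc_f_rc_20_1 lc_f_rc_17_1 lc_f_rc_17_1 lc_f_rc_19_3 lc_f_rc_17_1 lc_f_rc_10_1 lc_f_rc_21_1 lc_f_rc_17_1 lc_f_rc_14_3 lc_f_rc_20_1 lc_f_rc_10_3 lc_f_rc_17_3 lc_f_rc_17_1 lc_f_rc_17_1 lc_f_rc_5_3 lc_f_rc_19_1 lc_f_rc_10_1 lc_f_rc_5_3 lc_f_rc_10_3 lc_f_rc_17_3 lc_f_rc_5_3 lc_f_rc_20_1 lc_f_rc_10_3 lc_f_rc_5_3 lc_f_rc_10_3 lc_f_rc_20_1 lc_f_rc_17_3 lc_f_rc_20_1 lc_f_rc_17_3 lc_f_rc_17_3 lc_f_rc_10_3 lc_f_rc_14_1 lc_f_rc_14_1 lc_f_rc_10_3 lc_f_rc_20_1 lc_f_rc_20_1 lc_f_rc_21_1 lc_f_rc_10_3 lc_f_rc_20_1 lc_f_rc_20_1 lc_f_rc_5_3 lc_f_rc_14_1 lc_f_rc_14_3 lc_f_rc_21_1 lc_f_rc_10_3 lc_f_rc_14_1 lc_f_rc_10_3 lc_f_rc_21_1 lc_f_rc_21_1 lc_f_rc_5_1) (@D3.rec (fun _ => (Cert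 rels S Gen.f)) lc_f_rc_19_3 lc_f_rc_14_3 lc_f_rc_20_1 lc_f_rc_17_3 lc_f_rc_19_1 lc_f_rc_14_3 lc_f_rc_10_3 lc_f_rc_14_3 lc_f_rc_19_3 lc_f_rc_10_3 lc_f_rc_17_3 lc_f_rc_14_3 lc_f_rc_14_3 lc_f_rc_19_3 lc_f_rc_17_1 lc_f_rc_20_1 lc_f_rc_21_1 lc_f_rc_14_3 lc_f_rc_17_3 lc_f_rc_10_3 lc_f_rc_14_3 lc_f_rc_17_1 lc_f_rc_5_3 lc_f_rc_17_1 lc_f_rc_14_3 lc_f_rc_14_1 lc_f_rc_20_1 lc_f_rc_20_1 lc_f_rc_14_3 lc_f_rc_5_1 lc_f_rc_14_3 lc_f_rc_20_1 lc_f_rc_20_1 lc_f_rc_21_1 lc_f_rc_14_1 lc_f_Cert_tree lc_f_rc_20_1 lc_f_rc_10_1 lc_f_rc_17_3 lc_f_rc_5_3 lc_f_rc_5_3 lc_f_rc_20_1 lc_f_rc_14_3 lc_f_rc_14_1 lc_f_rc_14_3 lc_f_rc_14_3 lc_f_rc_20_1 lc_f_rc_19_5 lc_f_rc_10_3 lc_f_rc_5_3 lc_f_rc_22_1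 lc_f_rc_14_3 lc_f_rc_5_3 lc_f_rc_20_1 lc_f_rc_14_3 lc_f_rc_17_3 lc_f_rc_14_3 lc_f_rc_21_1 lc_f_rc_20_1 lc_f_rc_17_1 lc_f_rc_17_3 lc_f_rc_10_1) (@D3.rec (fun _ => (Cert rels S Gen.f)) lc_f_rc_17_3 lc_f_rc_14_1 lc_f_rc_10_3 lc_f_rc_21_1 lc_f_rc_20_1 lc_f_rc_19_3 lc_f_rc_21_1 lc_f_rc_20_1 lc_f_rc_10_3 lc_f_rc_20_1 lc_f_rc_5_1 lc_f_rc_20_1 lc_f_rc_19_3 lc_f_rc_5_1 lc_f_rc_14_3 lc_f_rc_5_1 lc_f_rc_21_1 lc_f_rc_10_3 lc_f_rc_20_1 lc_f_rc_21_1 lc_f_Cert_tree lc_f_rc_20_1 lc_f_rc_10_3 lc_f_rc_17_3 lc_f_rc_17_1 lc_f_rc_17_3 lc_f_rc_14_1 lc_f_Cert_tree lc_f_rc_20_1 lc_f_rc_10_3 lc_f_rc_19_3 lc_f_rc_17_3 lc_f_rc_21_1 lc_f_rc_17_3 lc_f_rc_10_1 lc_f_rc_20_1 lc_f_rc_14_1 lc_f_rc_10_3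 lc_f_rc_5_1 lc_f_rc_10_3 lc_f_rc_14_3 lc_f_rc_20_1 lc_f_rc_20_1 lc_f_rc_17_3 lc_f_rc_14_3 lc_f_rc_14_3 lc_f_rc_19_3 lc_f_rc_10_3 lc_f_rc_17_3 lc_f_rc_21_1 lc_f_rc_17_3 lc_f_rc_19_5 lc_f_rc_10_3 lc_f_rc_14_3 lc_f_rc_19_1 lc_f_rc_10_1 lc_f_rc_17_1 lc_f_rc_20_1 lc_f_rc_19_3 lc_f_rc_5_1 lc_f_rc_10_3 lc_f_rc_17_3) (@D3.rec (fun _ => (Cert rels S Gen.f)) lc_f_rc_20_1 lc_f_rc_20_1 lc_f_rc_14_3 lc_f_rc_10_3 lc_f_rc_14_3 lc_f_Cert_tree lc_f_rc_14_1 lc_f_rc_14_3 lc_f_rc_10_3 lc_f_rc_17_3 lc_f_Cert_tree lc_f_Cert_tree lc_f_rc_10_3 lc_f_rc_5_1 lc_f_rc_20_1 lc_f_rc_5_1 lc_f_rc_10_3 lc_f_rc_17_3 lc_f_rc_14_1 lc_f_rc_5_1 lc_f_rc_21_1 lc_f_rc_14_3 lc_f_rc_10_1 lc_f_rc_21_1 lc_f_rc_17_1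 lc_f_rc_20_1 lc_f_rc_21_1 lc_f_rc_14_3 lc_f_rc_14_3 lc_f_Cert_tree lc_f_rc_21_1 lc_f_rc_20_1 lc_f_rc_14_3 lc_f_rc_17_1 lc_f_rc_14_1 lc_f_rc_17_1 lc_f_rc_20_1 lc_f_rc_14_3 lc_f_rc_14_3 lc_f_rc_17_3 lc_f_rc_21_1 lc_f_rc_14_3 lc_f_rc_10_1 lc_f_rc_17_1 lc_f_rc_10_3 lc_f_rc_17_3 lc_f_rc_22_1 lc_f_rc_17_3 lc_f_rc_17_1 lc_f_rc_20_1 lc_f_rc_10_3 lc_f_rc_17_3 lc_f_rc_17_3 lc_f_rc_21_1 lc_f_rc_17_3 lc_f_rc_17_3 lc_f_rc_17_3 lc_f_rc_17_1 lc_f_rc_20_1 lc_f_rc_19_3 lc_f_rc_20_1 lc_f_rc_21_1) (@D3.rec (fun _ => (Cert rels S Gen.f)) lc_f_rc_14_3 lc_f_rc_19_5 lc_f_rc_20_1 lc_f_rc_17_3 lc_f_rc_14_3 lc_f_rc_10_1 lc_f_rc_17_1 lc_f_rc_19_1 lc_f_rc_17_3 lc_f_rc_21_1 lc_f_rc_14_3 lc_f_rc_20_1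 lc_f_rc_19_1 lc_f_rc_21_1 lc_f_rc_10_3 lc_f_rc_14_3 lc_f_rc_5_3 lc_f_rc_17_3 lc_f_rc_10_1 lc_f_rc_10_3 lc_f_rc_5_3 lc_f_rc_10_3 lc_f_rc_22_1 lc_f_rc_14_3 lc_f_rc_17_3 lc_f_rc_17_1 lc_f_rc_21_1 lc_f_rc_22_1 lc_f_rc_14_3 lc_f_rc_14_1 lc_f_rc_17_1 lc_f_rc_20_1 lc_f_rc_5_1 lc_f_rc_14_3 lc_f_rc_17_3 lc_f_rc_14_1 lc_f_rc_17_3 lc_f_rc_14_3 lc_f_rc_5_3 lc_f_rc_17_3 lc_f_rc_14_3 lc_f_rc_17_3 lc_f_rc_10_1 lc_f_rc_20_1 lc_f_rc_17_3 lc_f_rc_19_3 lc_f_rc_10_1 lc_f_rc_5_3 lc_f_rc_10_3 lc_f_rc_14_3 lc_f_rc_20_1 lc_f_rc_10_1 lc_f_Cert_tree lc_f_rc_17_1 lc_f_rc_14_3 lc_f_rc_20_1 lc_f_rc_20_1 lc_f_rc_10_3 lc_f_rc_22_1 lc_f_rc_17_3 lc_f_rc_5_3 lc_f_rc_5_1) (@D3.rec (fun _ => (Cert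 rels S Gen.f)) lc_f_rc_14_1 lc_f_rc_10_3 lc_f_rc_19_3 lc_f_rc_19_3 lc_f_rc_21_1 lc_f_rc_20_1 lc_f_rc_17_3 lc_f_rc_20_1 lc_f_rc_20_1 lc_f_rc_17_3 lc_f_rc_17_1 lc_f_rc_10_3 lc_f_rc_10_3 lc_f_rc_5_1 lc_f_rc_20_1 lc_f_rc_20_1 lc_f_Cert_tree lc_f_rc_17_3 lc_f_rc_19_5 lc_f_rc_5_3 lc_f_rc_5_1 lc_f_rc_17_3 lc_f_rc_20_1 lc_f_rc_14_3 lc_f_rc_17_3 lc_f_rc_10_3 lc_f_rc_14_3 lc_f_rc_20_1 lc_f_rc_20_1 lc_f_rc_5_1 lc_f_rc_20_1 lc_f_rc_14_3 lc_f_rc_17_3 lc_f_Cert_tree lc_f_rc_20_1 lc_f_rc_5_3 lc_f_rc_10_3 lc_f_rc_10_3 lc_f_rc_5_3 lc_f_rc_14_3 lc_f_rc_17_3 lc_f_rc_17_3 lc_f_rc_10_3 lc_f_rc_10_3 lc_f_rc_20_1 lc_f_rc_14_3 lc_f_rc_14_3 lc_f_rc_19_3 lc_f_rc_20_1 lc_f_rc_21_1 lc_f_rc_17_3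 lc_f_rc_5_3 lc_f_rc_14_3 lc_f_rc_5_3 lc_f_rc_10_3 lc_f_rc_17_1 lc_f_rc_22_1 lc_f_rc_17_3 lc_f_Cert_tree lc_f_rc_14_3 lc_f_rc_20_1 lc_f_rc_17_1) (@D3.rec (fun _ => (Cert rels S Gen.f)) lc_f_rc_21_1 lc_f_rc_14_3 lc_f_rc_10_3 lc_f_rc_17_3 lc_f_rc_17_3 lc_f_rc_22_1 lc_f_rc_14_3 lc_f_rc_20_1 lc_f_rc_10_3 lc_f_rc_14_3 lc_f_rc_14_3 lc_f_rc_10_3 lc_f_rc_17_3 lc_f_rc_20_1 lc_f_rc_5_3 lc_f_rc_21_1 lc_f_rc_17_3 lc_f_rc_10_3 lc_f_rc_21_1 lc_f_rc_5_3 lc_f_rc_14_3 lc_f_rc_14_3 lc_f_rc_17_3 lc_f_rc_19_3 lc_f_rc_21_1 lc_f_rc_14_3 lc_f_rc_10_3 lc_f_rc_17_3 lc_f_rc_19_3 lc_f_rc_17_3 lc_f_rc_19_5 lc_f_rc_20_1 lc_f_rc_5_1 lc_f_Cert_tree lc_f_rc_5_1 lc_f_rc_21_1 lc_f_rc_21_1 lc_f_rc_20_1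 lc_f_rc_10_3 lc_f_rc_14_1 lc_f_rc_17_1 lc_f_rc_20_1 lc_f_rc_10_3 lc_f_rc_14_3 lc_f_rc_21_1 lc_f_rc_10_3 lc_f_rc_20_1 lc_f_rc_14_3 lc_f_rc_14_3 lc_f_rc_14_1 lc_f_rc_10_3 lc_f_Cert_tree lc_f_rc_20_1 lc_f_rc_14_3 lc_f_rc_14_3 lc_f_rc_5_3 lc_f_rc_10_3 lc_f_rc_17_3 lc_f_rc_14_3 lc_f_rc_5_1 lc_f_rc_21_1 lc_f_rc_10_3) (@D3.rec (fun _ => (Cert rels S Gen.f)) lc_f_rc_20_1 lc_f_rc_19_5 lc_f_rc_17_1 lc_f_rc_17_3 lc_f_rc_14_3 lc_f_rc_20_1 lc_f_rc_5_3 lc_f_rc_20_1 lc_f_rc_10_1 lc_f_Cert_tree lc_f_rc_17_1 lc_f_Cert_tree lc_f_rc_20_1 lc_f_rc_10_1 lc_f_rc_5_1 lc_f_rc_20_1 lc_f_Cert_tree lc_f_rc_17_3 lc_f_rc_17_1 lc_f_rc_17_3 lc_f_Cert_tree lc_f_rc_20_1 lc_f_rc_17_3 lc_f_rc_22_1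 lc_f_rc_17_3 lc_f_rc_14_3 lc_f_rc_21_1 lc_f_rc_14_3 lc_f_rc_5_3 lc_f_rc_17_3 lc_f_rc_10_1 lc_f_Cert_tree lc_f_rc_21_1 lc_f_rc_20_1 lc_f_rc_21_1 lc_f_rc_14_3 lc_f_rc_5_3 lc_f_rc_17_3 lc_f_rc_10_3 lc_f_Cert_tree lc_f_rc_19_5 lc_f_rc_5_1 lc_f_rc_10_3 lc_f_rc_21_1 lc_f_rc_5_3 lc_f_rc_10_3 lc_f_rc_10_1 lc_f_Cert_tree lc_f_rc_14_3 lc_f_rc_17_3 lc_f_rc_5_1 lc_f_rc_14_3 lc_f_rc_20_1 lc_f_rc_5_3 lc_f_rc_20_1 lc_f_rc_10_1 lc_f_Cert_tree lc_f_Cert_tree lc_f_rc_17_3 lc_f_rc_20_1 lc_f_rc_20_1 lc_f_rc_5_1) (@D3.rec (fun _ => (Cert rels S Gen.f)) lc_f_rc_17_1 lc_f_rc_14_1 lc_f_rc_10_1 lc_f_rc_10_3 lc_f_rc_5_1 lc_f_rc_10_3 lc_f_rc_17_1 lc_f_rc_17_3 lc_f_rc_20_1 lc_f_rc_20_1 lc_f_rc_17_3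 lc_f_rc_17_1 lc_f_rc_5_3 lc_f_rc_10_3 lc_f_rc_19_5 lc_f_rc_10_3 lc_f_rc_5_1 lc_f_rc_10_3 lc_f_rc_14_3 lc_f_rc_5_3 lc_f_rc_17_3 lc_f_rc_17_3 lc_f_rc_5_1 lc_f_rc_5_3 lc_f_rc_10_3 lc_f_rc_10_1 lc_f_rc_17_3 lc_f_rc_21_1 lc_f_rc_20_1 lc_f_rc_20_1 lc_f_rc_21_1 lc_f_rc_14_3 lc_f_rc_14_1 lc_f_rc_17_1 lc_f_rc_14_3 lc_f_rc_17_3 lc_f_Cert_tree lc_f_rc_21_1 lc_f_rc_20_1 lc_f_rc_14_3 lc_f_rc_5_1 lc_f_rc_5_1 lc_f_rc_17_3 lc_f_rc_10_3 lc_f_Cert_tree lc_f_rc_17_3 lc_f_rc_17_3 lc_f_rc_14_3 lc_f_rc_22_1 lc_f_rc_22_1 lc_f_rc_10_3 lc_f_rc_17_3 lc_f_rc_17_1 lc_f_Cert_tree lc_f_rc_17_3 lc_f_Cert_tree lc_f_rc_10_3 lc_f_rc_5_1 lc_f_rc_14_3 lc_f_Cert_tree lc_f_rc_17_3 lc_f_rc_10_3) (@D3.rec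 (fun _ => (Cert rels S Gen.f)) lc_f_Cert_tree lc_f_rc_20_1 lc_f_rc_10_3 lc_f_Cert_tree lc_f_rc_17_3 lc_f_rc_17_3 lc_f_rc_19_3 lc_f_rc_20_1 lc_f_rc_10_1 lc_f_rc_10_1 lc_f_rc_5_1 lc_f_rc_5_1 lc_f_rc_20_1 lc_f_rc_17_3 lc_f_rc_20_1 lc_f_rc_5_3 lc_f_rc_14_3 lc_f_rc_14_3 lc_f_rc_5_1 lc_f_rc_14_3 lc_f_rc_17_3 lc_f_Cert_tree lc_f_rc_17_1 lc_f_rc_17_3 lc_f_rc_10_1 lc_f_rc_5_3 lc_f_rc_10_3 lc_f_rc_5_3 lc_f_rc_20_1 lc_f_rc_21_1 lc_f_rc_5_3 lc_f_rc_10_1 lc_f_rc_17_1 lc_f_rc_10_3 lc_f_rc_21_1 lc_f_rc_22_1 lc_f_rc_22_1 lc_f_rc_14_3 lc_f_rc_17_3 lc_f_rc_5_1 lc_f_rc_14_3 lc_f_rc_17_3 lc_f_rc_14_3 lc_f_Cert_tree lc_f_rc_14_3 lc_f_rc_14_3 lc_f_Cert_tree lc_f_rc_20_1 lc_f_rc_17_1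 lc_f_rc_20_1 lc_f_rc_21_1 lc_f_rc_19_1 lc_f_rc_17_3 lc_f_rc_10_3 lc_f_rc_17_1 lc_f_rc_20_1 lc_f_rc_17_3 lc_f_rc_20_1 lc_f_rc_10_3 lc_f_rc_5_1 lc_f_rc_10_3 lc_f_rc_10_3) (@D3.rec (fun _ => (Cert rels S Gen.f)) lc_f_rc_22_1 lc_f_rc_20_1 lc_f_rc_17_3 lc_f_rc_14_3 lc_f_rc_21_1 lc_f_rc_14_3 lc_f_rc_5_3 lc_f_rc_20_1 lc_f_rc_17_3 lc_f_rc_14_3 lc_f_rc_14_3 lc_f_rc_21_1 lc_f_rc_17_3 lc_f_Cert_tree lc_f_rc_20_1 lc_f_rc_17_3 lc_f_rc_14_3 lc_f_rc_17_3 lc_f_rc_14_1 lc_f_rc_21_1 lc_f_rc_17_1 lc_f_rc_20_1 lc_f_rc_17_3 lc_f_rc_10_1 lc_f_rc_21_1 lc_f_rc_20_1 lc_f_rc_21_1 lc_f_Cert_tree lc_f_rc_20_1 lc_f_rc_10_1 lc_f_rc_10_3 lc_f_rc_14_3 lc_f_rc_17_3 lc_f_rc_10_3 lc_f_rc_20_1 lc_f_rc_20_1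 lc_f_rc_10_3 lc_f_rc_5_3 lc_f_rc_10_1 lc_f_rc_17_3 lc_f_rc_20_1 lc_f_rc_17_3 lc_f_rc_10_3 lc_f_rc_20_1 lc_f_rc_5_1 lc_f_rc_10_1 lc_f_rc_5_1 lc_f_rc_19_3 lc_f_rc_10_1 lc_f_rc_17_3 lc_f_rc_17_3 lc_f_Cert_tree lc_f_rc_10_1 lc_f_rc_21_1 lc_f_rc_14_3 lc_f_rc_20_1 lc_f_rc_14_3 lc_f_rc_17_3 lc_f_rc_5_3 lc_f_rc_14_3 lc_f_rc_20_1 lc_f_rc_20_1) (@D3.rec (fun _ => (Cert rels S Gen.f)) lc_f_rc_19_3 lc_f_rc_10_3 lc_f_rc_5_1 lc_f_rc_5_3 lc_f_rc_17_3 lc_f_rc_21_1 lc_f_rc_19_1 lc_f_rc_17_3 lc_f_rc_17_3 lc_f_rc_21_1 lc_f_rc_20_1 lc_f_rc_17_3 lc_f_Cert_tree lc_f_rc_21_1 lc_f_rc_14_1 lc_f_rc_20_1 lc_f_rc_22_1 lc_f_rc_20_1 lc_f_rc_10_3 lc_f_rc_20_1 lc_f_rc_22_1 lc_f_rc_5_3 lc_f_Cert_tree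 lc_f_rc_20_1 lc_f_rc_17_3 lc_f_rc_17_3 lc_f_rc_21_1 lc_f_rc_17_1 lc_f_rc_20_1 lc_f_rc_21_1 lc_f_Cert_tree lc_f_rc_20_1 lc_f_rc_17_3 lc_f_rc_19_3 lc_f_rc_21_1 lc_f_rc_5_1 lc_f_Cert_tree lc_f_rc_14_3 lc_f_rc_20_1 lc_f_rc_21_1 lc_f_Cert_tree lc_f_rc_20_1 lc_f_rc_22_1 lc_f_rc_20_1 lc_f_rc_17_3 lc_f_rc_10_3 lc_f_rc_19_3 lc_f_rc_21_1 lc_f_rc_20_1 lc_f_rc_10_3 lc_f_Cert_tree lc_f_rc_22_1 lc_f_rc_17_1 lc_f_rc_19_3 lc_f_rc_10_3 lc_f_rc_14_1 lc_f_rc_22_1 lc_f_rc_21_1 lc_f_rc_20_1 lc_f_rc_10_1 lc_f_rc_5_3 lc_f_rc_14_1) (@D3.rec (fun _ => (Cert rels S Gen.f)) lc_f_rc_20_1 lc_f_rc_14_3 lc_f_rc_17_3 lc_f_rc_20_1 lc_f_rc_19_1 lc_f_rc_14_1 lc_f_rc_14_3 lc_f_rc_17_3 lc_f_rc_5_3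 lc_f_rc_10_3 lc_f_Cert_tree lc_f_rc_17_1 lc_f_rc_20_1 lc_f_rc_19_3 lc_f_rc_20_1 lc_f_rc_14_1 lc_f_rc_14_3 lc_f_rc_17_3 lc_f_rc_10_3 lc_f_rc_5_1 lc_f_rc_10_3 lc_f_rc_17_3 lc_f_rc_21_1 lc_f_rc_17_3 lc_f_rc_10_3 lc_f_rc_20_1 lc_f_rc_20_1 lc_f_rc_14_3 lc_f_rc_10_3 lc_f_rc_14_3 lc_f_rc_14_3 lc_f_rc_14_3 lc_f_rc_19_1 lc_f_rc_17_3 lc_f_rc_19_1 lc_f_rc_17_3 lc_f_rc_17_3 lc_f_rc_17_3 lc_f_rc_14_3 lc_f_rc_10_3 lc_f_rc_10_3 lc_f_rc_10_3 lc_f_rc_17_3 lc_f_rc_14_3 lc_f_rc_20_1 lc_f_rc_21_1 lc_f_rc_14_3 lc_f_rc_10_3 lc_f_rc_21_1 lc_f_rc_14_3 lc_f_rc_21_1 lc_f_rc_17_3 lc_f_rc_14_3 lc_f_rc_17_3 lc_f_rc_19_5 lc_f_rc_14_3 lc_f_rc_5_1 lc_f_rc_17_3 lc_f_rc_17_3 lc_f_rc_5_1 lc_f_rc_21_1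 lc_f_rc_19_5) (@D3.rec (fun _ => (Cert rels S Gen.f)) lc_f_Cert_tree lc_f_rc_20_1 lc_f_rc_17_3 lc_f_rc_19_5 lc_f_rc_14_1 lc_f_rc_10_1 lc_f_rc_21_1 lc_f_rc_14_3 lc_f_rc_21_1 lc_f_rc_14_3 lc_f_rc_17_3 lc_f_rc_10_3 lc_f_rc_14_3 lc_f_rc_17_3 lc_f_rc_5_1 lc_f_rc_17_3 lc_f_rc_14_3 lc_f_rc_14_3 lc_f_rc_14_3 lc_f_rc_10_3 lc_f_rc_10_3 lc_f_rc_21_1 lc_f_rc_20_1 lc_f_rc_19_1 lc_f_rc_22_1 lc_f_rc_17_3 lc_f_rc_17_1 lc_f_rc_5_1 lc_f_rc_10_3 lc_f_rc_10_3 lc_f_rc_10_3 lc_f_rc_10_3 lc_f_rc_14_3 lc_f_rc_10_1 lc_f_rc_17_1 lc_f_rc_21_1 lc_f_rc_5_1 lc_f_rc_10_3 lc_f_rc_17_1 lc_f_rc_14_3 lc_f_rc_10_1 lc_f_rc_22_1 lc_f_rc_20_1 lc_f_rc_10_3 lc_f_rc_17_3 lc_f_rc_19_3 lc_f_rc_21_1 lc_f_rc_20_1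 lc_f_rc_10_1 lc_f_rc_19_3 lc_f_rc_17_3 lc_f_rc_17_1 lc_f_rc_14_3 lc_f_rc_20_1 lc_f_rc_22_1 lc_f_rc_14_1 lc_f_rc_21_1 lc_f_rc_10_1 lc_f_rc_20_1 lc_f_rc_10_3 lc_f_rc_5_3 lc_f_rc_20_1) (@D3.rec (fun _ => (Cert rels S Gen.f)) lc_f_rc_19_1 lc_f_rc_19_5 lc_f_rc_10_3 lc_f_rc_19_5 lc_f_rc_17_3 lc_f_rc_10_1 lc_f_rc_10_3 lc_f_Cert_tree lc_f_rc_21_1 lc_f_rc_5_1 lc_f_Cert_tree lc_f_rc_5_1 lc_f_rc_21_1 lc_f_rc_10_1 lc_f_rc_20_1 lc_f_rc_17_3 lc_f_rc_21_1 lc_f_rc_20_1 lc_f_rc_5_1 lc_f_rc_21_1 lc_f_rc_10_3 lc_f_rc_17_3 lc_f_rc_20_1 lc_f_rc_10_3 lc_f_rc_21_1 lc_f_rc_17_3 lc_f_rc_14_1 lc_f_rc_14_3 lc_f_rc_17_3 lc_f_rc_17_3 lc_f_rc_21_1 lc_f_rc_20_1 lc_f_Cert_tree lc_f_rc_17_3 lc_f_rc_20_1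 lc_f_rc_17_3 lc_f_rc_10_3 lc_f_rc_21_1 lc_f_rc_20_1 lc_f_rc_20_1 lc_f_rc_14_3 lc_f_rc_21_1 lc_f_rc_21_1 lc_f_rc_5_3 lc_f_rc_17_1 lc_f_rc_5_3 lc_f_rc_10_1 lc_f_rc_10_3 lc_f_rc_17_1 lc_f_Cert_tree lc_f_rc_17_3 lc_f_rc_10_1 lc_f_rc_10_1 lc_f_rc_20_1 lc_f_Cert_tree lc_f_rc_20_1 lc_f_rc_21_1 lc_f_Cert_tree lc_f_rc_20_1 lc_f_rc_17_3 lc_f_rc_14_3 lc_f_rc_10_3) (@D3.rec (fun _ => (Cert rels S Gen.f)) lc_f_rc_5_1 lc_f_rc_22_1 lc_f_rc_5_3 lc_f_rc_14_3 lc_f_rc_10_1 lc_f_rc_14_3 lc_f_rc_14_3 lc_f_Cert_tree lc_f_rc_20_1 lc_f_Cert_tree lc_f_rc_20_1 lc_f_rc_20_1 lc_f_rc_17_3 lc_f_rc_14_1 lc_f_rc_20_1 lc_f_rc_21_1 lc_f_rc_10_3 lc_f_rc_19_5 lc_f_rc_17_3 lc_f_rc_17_3 lc_f_rc_17_3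 lc_f_rc_21_1 lc_f_rc_22_1 lc_f_Cert_tree lc_f_rc_10_3 lc_f_rc_5_3 lc_f_rc_10_3 lc_f_rc_10_3 lc_f_rc_17_3 lc_f_rc_17_1 lc_f_rc_17_3 lc_f_rc_14_3 lc_f_rc_14_1 lc_f_rc_20_1 lc_f_rc_17_3 lc_f_rc_10_3 lc_f_Cert_tree lc_f_rc_20_1 lc_f_rc_22_1 lc_f_rc_14_3 lc_f_Cert_tree lc_f_rc_20_1 lc_f_rc_17_3 lc_f_Cert_tree lc_f_rc_14_3 lc_f_rc_20_1 lc_f_rc_5_3 lc_f_rc_10_3 lc_f_rc_17_1 lc_f_rc_14_3 lc_f_rc_17_1 lc_f_rc_17_3 lc_f_rc_17_3 lc_f_rc_14_3 lc_f_rc_21_1 lc_f_rc_19_5 lc_f_rc_21_1 lc_f_rc_10_3 lc_f_rc_10_3 lc_f_rc_14_3 lc_f_rc_5_1 lc_f_rc_20_1) (@D3.rec (fun _ => (Cert rels S Gen.f)) lc_f_rc_14_1 lc_f_rc_21_1 lc_f_rc_21_1 lc_f_rc_5_3 lc_f_rc_14_3 lc_f_rc_14_3 lc_f_rc_5_1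 lc_f_rc_5_1 lc_f_rc_17_3 lc_f_rc_20_1 lc_f_rc_14_3 lc_f_rc_10_3 lc_f_rc_10_3 lc_f_rc_10_3 lc_f_rc_21_1 lc_f_rc_21_1 lc_f_rc_14_3 lc_f_rc_10_3 lc_f_rc_17_1 lc_f_rc_19_3 lc_f_rc_17_1 lc_f_rc_17_1 lc_f_rc_19_3 lc_f_rc_21_1 lc_f_rc_20_1 lc_f_rc_14_1 lc_f_Cert_tree lc_f_rc_17_3 lc_f_rc_19_5 lc_f_rc_14_1 lc_f_rc_20_1 lc_f_rc_17_3 lc_f_rc_14_1 lc_f_rc_10_3 lc_f_rc_20_1 lc_f_rc_17_3 lc_f_rc_17_3 lc_f_rc_20_1 lc_f_rc_21_1 lc_f_rc_20_1 lc_f_rc_17_3 lc_f_rc_17_3 lc_f_rc_10_1 lc_f_rc_14_3 lc_f_rc_14_1 lc_f_rc_21_1 lc_f_rc_20_1 lc_f_rc_20_1 lc_f_rc_21_1 lc_f_rc_17_3 lc_f_rc_5_1 lc_f_rc_5_1 lc_f_rc_10_3 lc_f_rc_10_3 lc_f_rc_10_3 lc_f_rc_10_1 lc_f_rc_17_3 lc_f_rc_14_3 lc_f_rc_21_1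 lc_f_rc_17_1 lc_f_rc_20_1 lc_f_rc_5_1) (@D3.rec (fun _ => (Cert rels S Gen.f)) lc_f_rc_17_3 lc_f_rc_5_3 lc_f_rc_17_3 lc_f_Cert_tree lc_f_Cert_tree lc_f_rc_21_1 lc_f_rc_14_3 lc_f_Cert_tree lc_f_rc_20_1 lc_f_rc_21_1 lc_f_rc_21_1 lc_f_rc_14_3 lc_f_rc_17_3 lc_f_rc_10_3 lc_f_rc_10_3 lc_f_rc_5_3 lc_f_rc_10_3 lc_f_rc_5_3 lc_f_Cert_tree lc_f_rc_22_1 lc_f_rc_20_1 lc_f_rc_5_1 lc_f_rc_10_3 lc_f_rc_5_3 lc_f_Cert_tree lc_f_Cert_tree lc_f_rc_20_1 lc_f_rc_5_3 lc_f_rc_20_1 lc_f_rc_14_1 lc_f_rc_5_3 lc_f_rc_20_1 lc_f_rc_20_1 lc_f_rc_14_1 lc_f_rc_17_1 lc_f_Cert_tree lc_f_rc_14_3 lc_f_rc_21_1 lc_f_rc_19_3 lc_f_rc_10_3 lc_f_Cert_tree lc_f_rc_10_3 lc_f_rc_17_1 lc_f_rc_17_3 lc_f_rc_20_1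 lc_f_rc_19_1 lc_f_rc_21_1 lc_f_rc_14_3 lc_f_rc_14_3 lc_f_rc_21_1 lc_f_rc_21_1 lc_f_rc_17_3 lc_f_rc_10_3 lc_f_rc_5_1 lc_f_rc_20_1 lc_f_rc_17_3 lc_f_rc_20_1 lc_f_rc_21_1 lc_f_rc_17_3 lc_f_rc_20_1 lc_f_rc_20_1 lc_f_rc_5_1) (@D3.rec (fun _ => (Cert rels S Gen.f)) lc_f_rc_10_3 lc_f_rc_10_3 lc_f_rc_10_3 lc_f_rc_17_3 lc_f_Cert_tree lc_f_rc_14_3 lc_f_rc_17_1 lc_f_rc_20_1 lc_f_rc_14_3 lc_f_rc_5_1 lc_f_rc_20_1 lc_f_rc_5_3 lc_f_rc_17_3 lc_f_rc_10_1 lc_f_Cert_tree lc_f_rc_14_3 lc_f_rc_21_1 lc_f_rc_5_3 lc_f_rc_20_1 lc_f_rc_14_3 lc_f_rc_10_3 lc_f_rc_21_1 lc_f_rc_5_1 lc_f_rc_5_3 lc_f_rc_22_1 lc_f_Cert_tree lc_f_Cert_tree lc_f_rc_10_3 lc_f_rc_20_1 lc_f_rc_10_3 lc_f_rc_10_3 lc_f_rc_5_3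 lc_f_rc_10_3 lc_f_rc_19_3 lc_f_Cert_tree lc_f_rc_10_3 lc_f_rc_20_1 lc_f_rc_5_3 lc_f_rc_20_1 lc_f_rc_5_1 lc_f_rc_14_1 lc_f_rc_17_1 lc_f_Cert_tree lc_f_rc_20_1 lc_f_rc_20_1 lc_f_rc_10_3 lc_f_rc_17_1 lc_f_Cert_tree lc_f_rc_21_1 lc_f_rc_20_1 lc_f_rc_19_1 lc_f_rc_17_3 lc_f_Cert_tree lc_f_rc_20_1 lc_f_rc_17_3 lc_f_rc_10_3 lc_f_rc_20_1 lc_f_rc_19_1 lc_f_rc_21_1 lc_f_rc_14_3 lc_f_rc_20_1 lc_f_rc_14_3) (@D3.rec (fun _ => (Cert rels S Gen.f)) lc_f_rc_20_1 lc_f_rc_17_3 lc_f_rc_17_3 lc_f_rc_14_3 lc_f_rc_5_3 lc_f_rc_10_3 lc_f_Cert_tree lc_f_rc_10_3 lc_f_rc_10_3 lc_f_rc_5_1 lc_f_rc_5_3 lc_f_rc_17_3 lc_f_rc_17_1 lc_f_rc_10_1 lc_f_rc_17_3 lc_f_rc_10_3 lc_f_rc_10_3 lc_f_rc_5_3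 lc_f_rc_14_3 lc_f_rc_20_1 lc_f_rc_21_1 lc_f_rc_17_3 lc_f_rc_21_1 lc_f_Cert_tree lc_f_rc_20_1 lc_f_rc_14_3 lc_f_rc_5_1 lc_f_rc_10_3 lc_f_rc_5_3 lc_f_rc_17_3 lc_f_rc_14_3 lc_f_rc_20_1 lc_f_rc_5_3 lc_f_rc_20_1 lc_f_Cert_tree lc_f_rc_19_1 lc_f_rc_20_1 lc_f_rc_20_1 lc_f_rc_20_1 lc_f_Cert_tree lc_f_rc_17_1 lc_f_rc_21_1 lc_f_rc_10_3 lc_f_rc_20_1 lc_f_rc_19_1 lc_f_rc_17_3 lc_f_rc_21_1 lc_f_rc_20_1 lc_f_rc_10_3 lc_f_rc_21_1 lc_f_rc_17_1 lc_f_rc_14_1 lc_f_rc_20_1 lc_f_rc_21_1 lc_f_rc_17_3 lc_f_rc_20_1 lc_f_rc_10_1 lc_f_rc_17_3 lc_f_rc_5_3 lc_f_rc_10_3 lc_f_rc_20_1 lc_f_rc_5_1) (@D3.rec (fun _ => (Cert rels S Gen.f)) lc_f_rc_20_1 lc_f_rc_10_3 lc_f_rc_21_1 lc_f_rc_10_3 lc_f_rc_17_1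 lc_f_Cert_tree lc_f_rc_19_3 lc_f_rc_21_1 lc_f_rc_14_3 lc_f_rc_22_1 lc_f_rc_20_1 lc_f_rc_14_3 lc_f_rc_5_1 lc_f_rc_10_1 lc_f_rc_5_3 lc_f_rc_17_1 lc_f_rc_10_1 lc_f_Cert_tree lc_f_rc_17_1 lc_f_rc_20_1 lc_f_rc_5_3 lc_f_rc_14_3 lc_f_rc_14_3 lc_f_rc_14_3 lc_f_rc_17_1 lc_f_rc_10_1 lc_f_rc_10_3 lc_f_rc_5_3 lc_f_rc_20_1 lc_f_Cert_tree lc_f_rc_17_3 lc_f_rc_17_3 lc_f_rc_14_3 lc_f_rc_17_3 lc_f_rc_14_3 lc_f_rc_19_1 lc_f_rc_5_1 lc_f_rc_10_3 lc_f_Cert_tree lc_f_rc_20_1 lc_f_rc_17_3 lc_f_rc_20_1 lc_f_rc_14_3 lc_f_rc_10_3 lc_f_rc_19_3 lc_f_rc_20_1 lc_f_rc_10_3 lc_f_rc_21_1 lc_f_rc_10_3 lc_f_rc_17_3 lc_f_rc_14_3 lc_f_rc_17_3 lc_f_rc_21_1 lc_f_rc_14_1 lc_f_rc_20_1 lc_f_rc_14_3 lc_f_rc_5_1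 lc_f_rc_19_3 lc_f_rc_20_1 lc_f_Cert_tree lc_f_Cert_tree lc_f_rc_20_1) (@D3.rec (fun _ => (Cert rels S Gen.f)) lc_f_rc_10_1 lc_f_rc_5_1 lc_f_rc_10_3 lc_f_Cert_tree lc_f_rc_5_1 lc_f_rc_14_1 lc_f_rc_10_1 lc_f_rc_17_1 lc_f_rc_10_3 lc_f_rc_21_1 lc_f_rc_17_3 lc_f_rc_5_3 lc_f_rc_10_3 lc_f_rc_17_3 lc_f_rc_10_3 lc_f_rc_20_1 lc_f_rc_14_3 lc_f_rc_19_3 lc_f_rc_5_1 lc_f_rc_19_3 lc_f_rc_14_3 lc_f_rc_10_3 lc_f_rc_21_1 lc_f_rc_14_3 lc_f_rc_19_5 lc_f_rc_17_1 lc_f_rc_20_1 lc_f_rc_10_1 lc_f_rc_5_1 lc_f_rc_14_3 lc_f_rc_10_3 lc_f_rc_17_3 lc_f_rc_5_3 lc_f_rc_5_3 lc_f_rc_17_1 lc_f_rc_21_1 lc_f_rc_19_5 lc_f_rc_21_1 lc_f_rc_5_1 lc_f_rc_14_3 lc_f_rc_10_3 lc_f_rc_10_3 lc_f_rc_20_1 lc_f_rc_10_3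 lc_f_rc_10_3 lc_f_rc_14_3 lc_f_rc_20_1 lc_f_rc_17_3 lc_f_rc_21_1 lc_f_rc_14_3 lc_f_rc_17_3 lc_f_rc_17_3 lc_f_rc_22_1 lc_f_rc_19_3 lc_f_rc_14_3 lc_f_rc_21_1 lc_f_rc_20_1 lc_f_rc_14_1 lc_f_rc_17_1 lc_f_rc_17_1 lc_f_rc_10_3 lc_f_rc_17_1) (@D3.rec (fun _ => (Cert rels S Gen.f)) lc_f_rc_21_1 lc_f_rc_14_3 lc_f_rc_14_1 lc_f_rc_14_3 lc_f_rc_20_1 lc_f_rc_10_3 lc_f_rc_17_3 lc_f_rc_5_3 lc_f_rc_14_3 lc_f_rc_10_3 lc_f_rc_10_3 lc_f_rc_17_3 lc_f_rc_14_3 lc_f_rc_17_1 lc_f_rc_5_1 lc_f_rc_10_3 lc_f_rc_21_1 lc_f_rc_14_1 lc_f_rc_17_3 lc_f_rc_14_3 lc_f_rc_22_1 lc_f_rc_17_3 lc_f_rc_20_1 lc_f_rc_17_3 lc_f_rc_20_1 lc_f_rc_17_1 lc_f_rc_10_3 lc_f_rc_5_3 lc_f_rc_17_3 lc_f_rc_17_1 lc_f_rc_10_3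 lc_f_rc_20_1 lc_f_rc_10_3 lc_f_rc_17_1 lc_f_rc_19_5 lc_f_rc_21_1 lc_f_rc_14_3 lc_f_rc_21_1 lc_f_Cert_tree lc_f_Cert_tree lc_f_rc_20_1 lc_f_rc_14_1 lc_f_rc_17_3 lc_f_rc_19_3 lc_f_rc_14_3 lc_f_rc_10_1 lc_f_rc_14_3 lc_f_rc_5_3 lc_f_rc_17_3 lc_f_rc_19_3 lc_f_rc_14_3 lc_f_rc_10_3 lc_f_rc_19_3 lc_f_rc_21_1 lc_f_rc_17_3 lc_f_rc_14_3 lc_f_Cert_tree lc_f_rc_14_3 lc_f_rc_20_1 lc_f_rc_22_1 lc_f_rc_17_1 lc_f_rc_20_1) (@D3.rec (fun _ => (Cert rels S Gen.f)) lc_f_Cert_tree lc_f_rc_20_1 lc_f_rc_17_1 lc_f_rc_14_3 lc_f_rc_14_1 lc_f_rc_17_1 lc_f_rc_21_1 lc_f_rc_10_3 lc_f_rc_17_1 lc_f_rc_14_1 lc_f_rc_20_1 lc_f_rc_21_1 lc_f_rc_5_3 lc_f_rc_10_3 lc_f_rc_19_5 lc_f_rc_17_3 lc_f_rc_10_3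 lc_f_rc_10_3 lc_f_rc_5_1 lc_f_rc_14_3 lc_f_rc_5_3 lc_f_rc_10_3 lc_f_rc_19_1 lc_f_rc_19_3 lc_f_rc_17_3 lc_f_rc_5_1 lc_f_rc_20_1 lc_f_rc_20_1 lc_f_rc_5_3 lc_f_rc_10_3 lc_f_rc_17_3 lc_f_rc_10_3 lc_f_rc_5_3 lc_f_rc_21_1 lc_f_rc_19_5 lc_f_rc_14_3 lc_f_rc_20_1 lc_f_rc_19_5 lc_f_rc_19_5 lc_f_rc_14_3 lc_f_rc_5_1 lc_f_rc_19_1 lc_f_rc_17_1 lc_f_rc_5_1 lc_f_rc_20_1 lc_f_rc_10_3 lc_f_rc_17_3 lc_f_rc_10_3 lc_f_rc_17_3 lc_f_rc_5_1 lc_f_rc_10_3 lc_f_rc_21_1 lc_f_rc_20_1 lc_f_rc_14_3 lc_f_rc_10_3 lc_f_rc_10_3 lc_f_rc_21_1 lc_f_rc_17_3 lc_f_rc_17_3 lc_f_rc_19_5 lc_f_rc_5_3 lc_f_rc_19_5) (@D3.rec (fun _ => (Cert rels S Gen.f)) lc_f_rc_17_3 lc_f_rc_19_5 lc_f_rc_17_3 lc_f_Cert_tree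 lc_f_rc_20_1 lc_f_rc_10_1 lc_f_rc_17_3 lc_f_rc_19_3 lc_f_rc_10_1 lc_f_rc_5_1 lc_f_rc_10_3 lc_f_rc_10_3 lc_f_rc_17_3 lc_f_rc_14_3 lc_f_rc_10_3 lc_f_rc_21_1 lc_f_rc_21_1 lc_f_rc_20_1 lc_f_rc_10_3 lc_f_rc_17_1 lc_f_rc_14_3 lc_f_rc_19_1 lc_f_rc_17_3 lc_f_rc_17_3 lc_f_rc_20_1 lc_f_rc_20_1 lc_f_rc_14_1 lc_f_rc_14_3 lc_f_rc_22_1 lc_f_rc_19_5 lc_f_rc_17_3 lc_f_rc_17_3 lc_f_rc_10_3 lc_f_rc_17_3 lc_f_rc_14_3 lc_f_rc_21_1 lc_f_rc_14_1 lc_f_rc_17_3 lc_f_rc_17_1 lc_f_rc_10_3 lc_f_rc_14_3 lc_f_rc_17_3 lc_f_rc_21_1 lc_f_rc_14_3 lc_f_rc_19_3 lc_f_rc_22_1 lc_f_rc_5_1 lc_f_rc_10_3 lc_f_rc_10_3 lc_f_rc_14_3 lc_f_rc_17_1 lc_f_rc_14_3 lc_f_rc_14_1 lc_f_rc_10_3 lc_f_rc_19_3 lc_f_rc_17_3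 lc_f_rc_10_3 lc_f_rc_5_1 lc_f_rc_5_3 lc_f_rc_14_3 lc_f_rc_10_3 lc_f_rc_14_3) (@D3.rec (fun _ => (Cert rels S Gen.f)) lc_f_Cert_tree lc_f_rc_17_3 lc_f_rc_20_1 lc_f_rc_10_3 lc_f_rc_21_1 lc_f_rc_14_3 lc_f_Cert_tree lc_f_rc_5_3 lc_f_rc_17_1 lc_f_rc_20_1 lc_f_rc_21_1 lc_f_Cert_tree lc_f_rc_20_1 lc_f_rc_10_3 lc_f_rc_17_3 lc_f_rc_21_1 lc_f_rc_20_1 lc_f_Cert_tree lc_f_rc_20_1 lc_f_rc_14_3 lc_f_rc_5_1 lc_f_rc_14_3 lc_f_rc_17_3 lc_f_Cert_tree lc_f_rc_20_1 lc_f_rc_21_1 lc_f_rc_20_1 lc_f_rc_17_3 lc_f_rc_21_1 lc_f_rc_10_3 lc_f_Cert_tree lc_f_rc_20_1 lc_f_rc_10_3 lc_f_rc_17_3 lc_f_rc_10_3 lc_f_rc_17_3 lc_f_rc_5_3 lc_f_Cert_tree lc_f_rc_5_3 lc_f_rc_21_1 lc_f_rc_14_3 lc_f_rc_10_3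 lc_f_rc_20_1 lc_f_rc_5_1 lc_f_rc_21_1 lc_f_rc_19_3 lc_f_rc_14_3 lc_f_rc_21_1 lc_f_rc_20_1 lc_f_rc_20_1 lc_f_rc_14_3 lc_f_rc_10_3 lc_f_rc_17_3 lc_f_rc_17_1 lc_f_rc_20_1 lc_f_rc_14_3 lc_f_rc_21_1 lc_f_rc_5_1 lc_f_rc_20_1 lc_f_rc_10_3 lc_f_rc_20_1 lc_f_rc_20_1) (@D3.rec (fun _ => (Cert rels S Gen.f)) lc_f_rc_10_3 lc_f_rc_20_1 lc_f_rc_10_3 lc_f_rc_20_1 lc_f_rc_17_3 lc_f_Cert_tree lc_f_rc_14_3 lc_f_rc_17_3 lc_f_rc_10_1 lc_f_rc_14_1 lc_f_rc_17_3 lc_f_rc_19_3 lc_f_rc_14_3 lc_f_rc_17_3 lc_f_rc_20_1 lc_f_rc_10_3 lc_f_rc_5_1 lc_f_rc_20_1 lc_f_rc_14_3 lc_f_rc_14_3 lc_f_rc_17_1 lc_f_rc_10_1 lc_f_Cert_tree lc_f_rc_20_1 lc_f_rc_14_3 lc_f_rc_5_3 lc_f_rc_20_1 lc_f_rc_17_1 lc_f_rc_10_3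 lc_f_rc_14_3 lc_f_rc_21_1 lc_f_rc_14_3 lc_f_rc_19_3 lc_f_rc_19_3 lc_f_rc_19_5 lc_f_rc_19_5 lc_f_rc_17_1 lc_f_rc_20_1 lc_f_rc_14_3 lc_f_rc_14_3 lc_f_rc_19_5 lc_f_rc_10_3 lc_f_rc_17_3 lc_f_rc_20_1 lc_f_Cert_tree lc_f_rc_5_3 lc_f_rc_10_3 lc_f_rc_14_3 lc_f_rc_19_3 lc_f_rc_17_1 lc_f_rc_20_1 lc_f_rc_17_3 lc_f_rc_14_3 lc_f_rc_14_3 lc_f_rc_17_3 lc_f_rc_14_3 lc_f_rc_10_3 lc_f_rc_17_3 lc_f_rc_14_1 lc_f_rc_19_1 lc_f_rc_17_3 lc_f_rc_5_3) (@D3.rec (fun _ => (Cert rels S Gen.f)) lc_f_rc_21_1 lc_f_rc_14_1 lc_f_rc_10_1 lc_f_rc_20_1 lc_f_rc_5_3 lc_f_rc_21_1 lc_f_rc_20_1 lc_f_rc_10_3 lc_f_rc_19_5 lc_f_rc_17_1 lc_f_Cert_tree lc_f_rc_10_3 lc_f_rc_14_3 lc_f_rc_19_3 lc_f_rc_14_3 lc_f_rc_10_3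 lc_f_rc_19_5 lc_f_rc_20_1 lc_f_rc_20_1 lc_f_rc_14_1 lc_f_rc_14_3 lc_f_rc_17_3 lc_f_Cert_tree lc_f_Cert_tree lc_f_rc_10_3 lc_f_rc_21_1 lc_f_rc_17_3 lc_f_rc_21_1 lc_f_rc_21_1 lc_f_rc_5_3 lc_f_rc_19_3 lc_f_rc_19_5 lc_f_rc_17_1 lc_f_rc_5_3 lc_f_rc_20_1 lc_f_rc_10_3 lc_f_rc_19_5 lc_f_rc_21_1 lc_f_rc_17_3 lc_f_rc_14_3 lc_f_rc_21_1 lc_f_rc_17_3 lc_f_rc_20_1 lc_f_rc_14_3 lc_f_rc_20_1 lc_f_rc_14_1 lc_f_rc_19_5 lc_f_rc_14_3 lc_f_rc_17_3 lc_f_rc_21_1 lc_f_rc_10_3 lc_f_rc_17_1 lc_f_rc_10_3 lc_f_rc_21_1 lc_f_rc_14_3 lc_f_rc_5_3 lc_f_rc_10_3 lc_f_rc_17_3 lc_f_rc_20_1 lc_f_rc_21_1 lc_f_rc_14_3 lc_f_rc_20_1) (@D3.rec (fun _ => (Cert rels S Gen.f)) lc_f_rc_10_3 lc_f_rc_21_1 lc_f_rc_17_3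 lc_f_rc_19_5 lc_f_rc_14_3 lc_f_rc_17_3 lc_f_rc_20_1 lc_f_rc_10_3 lc_f_rc_20_1 lc_f_rc_10_3 lc_f_rc_5_1 lc_f_rc_21_1 lc_f_rc_14_3 lc_f_rc_20_1 lc_f_rc_19_3 lc_f_rc_21_1 lc_f_rc_21_1 lc_f_rc_17_3 lc_f_rc_14_3 lc_f_Cert_tree lc_f_rc_20_1 lc_f_rc_14_1 lc_f_rc_22_1 lc_f_rc_20_1 lc_f_rc_10_3 lc_f_rc_21_1 lc_f_rc_20_1 lc_f_rc_20_1 lc_f_rc_5_1 lc_f_rc_14_3 lc_f_rc_20_1 lc_f_rc_21_1 lc_f_rc_14_3 lc_f_rc_20_1 lc_f_rc_5_1 lc_f_rc_14_1 lc_f_rc_10_1 lc_f_rc_19_1 lc_f_rc_17_3 lc_f_rc_17_3 lc_f_rc_19_5 lc_f_rc_21_1 lc_f_rc_20_1 lc_f_rc_14_1 lc_f_rc_10_3 lc_f_rc_20_1 lc_f_Cert_tree lc_f_rc_20_1 lc_f_rc_20_1 lc_f_rc_5_3 lc_f_rc_10_3 lc_f_rc_14_1 lc_f_Cert_tree lc_f_rc_10_3 lc_f_rc_10_3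 lc_f_rc_10_3 lc_f_rc_20_1 lc_f_rc_5_1 lc_f_rc_21_1 lc_f_rc_20_1 lc_f_rc_20_1 lc_f_rc_21_1) (@D3.rec (fun _ => (Cert rels S Gen.f)) lc_f_rc_17_1 lc_f_rc_5_1 lc_f_rc_22_1 lc_f_rc_20_1 lc_f_rc_21_1 lc_f_rc_20_1 lc_f_rc_10_1 lc_f_rc_19_3 lc_f_rc_10_1 lc_f_rc_10_1 lc_f_rc_17_3 lc_f_rc_20_1 lc_f_rc_20_1 lc_f_rc_20_1 lc_f_rc_5_3 lc_f_rc_5_1 lc_f_rc_21_1 lc_f_rc_5_1 lc_f_rc_20_1 lc_f_rc_21_1 lc_f_rc_20_1 lc_f_rc_20_1 lc_f_rc_10_1 lc_f_rc_17_1 lc_f_rc_10_3 lc_f_rc_14_3 lc_f_rc_20_1 lc_f_rc_20_1 lc_f_rc_19_5 lc_f_rc_17_3 lc_f_rc_14_3 lc_f_rc_17_1 lc_f_rc_19_3 lc_f_rc_17_3 lc_f_rc_17_3 lc_f_rc_17_1 lc_f_rc_5_1 lc_f_rc_5_1 lc_f_rc_14_1 lc_f_rc_14_3 lc_f_rc_17_3 lc_f_rc_17_1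 lc_f_rc_21_1 lc_f_rc_10_3 lc_f_rc_20_1 lc_f_rc_20_1 lc_f_rc_14_1 lc_f_rc_21_1 lc_f_rc_20_1 lc_f_rc_20_1 lc_f_rc_14_3 lc_f_rc_21_1 lc_f_rc_5_3 lc_f_rc_14_3 lc_f_rc_19_3 lc_f_rc_19_3 lc_f_rc_14_1 lc_f_rc_21_1 lc_f_rc_14_3 lc_f_rc_10_3 lc_f_rc_17_3 lc_f_rc_5_1) (@D3.rec (fun _ => (Cert rels S Gen.f)) lc_f_rc_10_1 lc_f_Cert_tree lc_f_rc_20_1 lc_f_rc_21_1 lc_f_rc_17_3 lc_f_rc_5_3 lc_f_rc_20_1 lc_f_rc_10_3 lc_f_rc_21_1 lc_f_rc_10_3 lc_f_rc_14_3 lc_f_rc_20_1 lc_f_rc_10_1 lc_f_rc_14_3 lc_f_rc_14_3 lc_f_rc_17_3 lc_f_rc_10_3 lc_f_Cert_tree lc_f_rc_20_1 lc_f_rc_17_3 lc_f_rc_21_1 lc_f_rc_17_3 lc_f_rc_14_1 lc_f_rc_20_1 lc_f_rc_17_3 lc_f_rc_17_3 lc_f_rc_5_3 lc_f_rc_20_1 lc_f_rc_20_1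 lc_f_rc_14_3 lc_f_rc_17_3 lc_f_rc_5_1 lc_f_rc_14_1 lc_f_rc_20_1 lc_f_rc_5_1 lc_f_rc_19_1 lc_f_rc_5_1 lc_f_rc_20_1 lc_f_rc_22_1 lc_f_rc_19_3 lc_f_rc_14_3 lc_f_rc_5_3 lc_f_rc_17_1 lc_f_rc_10_3 lc_f_rc_21_1 lc_f_rc_10_3 lc_f_rc_14_1 lc_f_rc_20_1 lc_f_rc_17_1 lc_f_rc_5_3 lc_f_rc_20_1 lc_f_rc_19_5 lc_f_rc_5_1 lc_f_rc_14_1 lc_f_Cert_tree lc_f_rc_20_1 lc_f_rc_19_3 lc_f_rc_10_1 lc_f_rc_17_1 lc_f_rc_5_3 lc_f_rc_19_5 lc_f_rc_19_5)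
def ce_f_18 : D2 → D3 → (Cert rels S Gen.f) := @D2.rec (fun _ => D3 → (Cert rels S Gen.f)) (@D3.rec (fun _ => (Cert rels S Gen.f)) lc_f_rc_10_1 lc_f_rc_17_1 lc_f_rc_20_1 lc_f_rc_17_1 lc_f_rc_14_1 lc_f_rc_10_1 lc_f_rc_10_3 lc_f_rc_19_5 lc_f_rc_17_1 lc_f_rc_20_1 lc_f_rc_10_3 lc_f_rc_17_3 lc_f_rc_5_3 lc_f_rc_10_1 lc_f_rc_17_3 lc_f_rc_20_1 lc_f_rc_14_1 lc_f_rc_14_3 lc_f_rc_10_3 lc_f_rc_17_1 lc_f_rc_20_1 lc_f_rc_14_1 lc_f_rc_21_1 lc_f_rc_17_1 lc_f_rc_20_1 lc_f_rc_21_1 lc_f_rc_20_1 lc_f_rc_17_1 lc_f_rc_20_1 lc_f_rc_14_3 lc_f_rc_20_1 lc_f_rc_14_3 lc_f_rc_17_3 lc_f_rc_20_1 lc_f_rc_14_3 lc_f_rc_20_1 lc_f_rc_10_3 lc_f_rc_22_1 lc_f_rc_14_3 lc_f_rc_10_1 lc_f_Cert_tree lc_f_rc_14_3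 lc_f_rc_21_1 lc_f_rc_19_3 lc_f_rc_20_1 lc_f_rc_19_1 lc_f_rc_21_1 lc_f_rc_10_1 lc_f_rc_19_3 lc_f_rc_21_1 lc_f_rc_10_1 lc_f_rc_10_3 lc_f_rc_21_1 lc_f_rc_10_3 lc_f_rc_14_1 lc_f_rc_21_1 lc_f_rc_21_1 lc_f_rc_14_3 lc_f_rc_17_3 lc_f_rc_14_3 lc_f_Cert_tree lc_f_rc_10_1) (@D3.rec (fun _ => (Cert rels S Gen.f)) lc_f_rc_14_1 lc_f_rc_21_1 lc_f_rc_19_5 lc_f_rc_19_5 lc_f_rc_14_3 lc_f_rc_22_1 lc_f_rc_21_1 lc_f_rc_21_1 lc_f_rc_17_1 lc_f_rc_20_1 lc_f_rc_20_1 lc_f_rc_22_1 lc_f_rc_20_1 lc_f_rc_14_3 lc_f_rc_14_3 lc_f_rc_14_3 lc_f_rc_10_3 lc_f_rc_5_1 lc_f_rc_21_1 lc_f_rc_19_5 lc_f_rc_20_1 lc_f_rc_10_3 lc_f_rc_17_3 lc_f_rc_10_1 lc_f_rc_19_5 lc_f_rc_5_1 lc_f_rc_14_1 lc_f_rc_19_1 lc_f_rc_17_1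 lc_f_rc_19_1 lc_f_rc_17_1 lc_f_rc_20_1 lc_f_rc_10_3 lc_f_rc_10_3 lc_f_rc_17_1 lc_f_Cert_tree lc_f_rc_19_3 lc_f_rc_17_3 lc_f_rc_17_3 lc_f_rc_17_1 lc_f_rc_10_3 lc_f_rc_14_1 lc_f_rc_10_1 lc_f_rc_5_3 lc_f_rc_21_1 lc_f_rc_10_3 lc_f_rc_17_3 lc_f_rc_20_1 lc_f_rc_17_1 lc_f_rc_14_1 lc_f_rc_21_1 lc_f_rc_10_3 lc_f_rc_20_1 lc_f_rc_10_3 lc_f_rc_17_3 lc_f_rc_21_1 lc_f_rc_19_5 lc_f_rc_21_1 lc_f_rc_20_1 lc_f_rc_10_3 lc_f_rc_22_1 lc_f_rc_17_3) (@D3.rec (fun _ => (Cert rels S Gen.f)) lc_f_rc_10_3 lc_f_rc_17_3 lc_f_rc_10_3 lc_f_rc_17_3 lc_f_rc_5_3 lc_f_rc_17_1 lc_f_Cert_tree lc_f_rc_21_1 lc_f_rc_17_3 lc_f_rc_20_1 lc_f_rc_20_1 lc_f_rc_14_1 lc_f_rc_21_1 lc_f_rc_10_3 lc_f_rc_22_1 lc_f_rc_10_3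 lc_f_rc_20_1 lc_f_rc_10_1 lc_f_rc_20_1 lc_f_rc_21_1 lc_f_rc_17_1 lc_f_rc_20_1 lc_f_rc_14_3 lc_f_rc_17_1 lc_f_rc_10_3 lc_f_rc_14_3 lc_f_rc_10_3 lc_f_rc_14_3 lc_f_rc_19_5 lc_f_rc_17_1 lc_f_rc_17_1 lc_f_rc_17_3 lc_f_rc_10_3 lc_f_rc_19_1 lc_f_rc_14_3 lc_f_rc_17_3 lc_f_Cert_tree lc_f_rc_19_5 lc_f_rc_20_1 lc_f_rc_20_1 lc_f_rc_20_1 lc_f_rc_5_3 lc_f_rc_10_3 lc_f_Cert_tree lc_f_rc_20_1 lc_f_rc_14_3 lc_f_rc_5_3 lc_f_rc_10_1 lc_f_rc_5_3 lc_f_rc_19_1 lc_f_rc_17_1 lc_f_rc_20_1 lc_f_rc_10_3 lc_f_rc_20_1 lc_f_rc_14_3 lc_f_rc_20_1 lc_f_rc_20_1 lc_f_rc_17_3 lc_f_rc_17_3 lc_f_rc_14_1 lc_f_rc_14_1 lc_f_rc_19_1) (@D3.rec (fun _ => (Cert rels S Gen.f)) lc_f_rc_17_1 lc_f_rc_14_1 lc_f_rc_17_1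 lc_f_rc_14_3 lc_f_Cert_tree lc_f_rc_21_1 lc_f_rc_20_1 lc_f_rc_14_1 lc_f_rc_10_1 lc_f_rc_17_3 lc_f_rc_10_3 lc_f_rc_10_3 lc_f_rc_20_1 lc_f_rc_14_3 lc_f_rc_19_1 lc_f_rc_14_3 lc_f_rc_14_3 lc_f_rc_20_1 lc_f_rc_10_3 lc_f_rc_10_3 lc_f_rc_10_3 lc_f_rc_5_1 lc_f_rc_17_3 lc_f_rc_10_3 lc_f_rc_5_1 lc_f_rc_14_3 lc_f_rc_5_3 lc_f_rc_10_3 lc_f_rc_10_1 lc_f_rc_19_3 lc_f_rc_10_3 lc_f_rc_5_3 lc_f_rc_17_3 lc_f_rc_19_3 lc_f_Cert_tree lc_f_rc_21_1 lc_f_rc_14_3 lc_f_rc_5_1 lc_f_rc_20_1 lc_f_rc_14_3 lc_f_rc_21_1 lc_f_rc_14_3 lc_f_rc_10_3 lc_f_rc_5_3 lc_f_rc_10_3 lc_f_Cert_tree lc_f_Cert_tree lc_f_Cert_tree lc_f_rc_20_1 lc_f_rc_10_3 lc_f_rc_10_3 lc_f_rc_5_3 lc_f_rc_10_3 lc_f_Cert_tree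 lc_f_rc_17_3 lc_f_rc_20_1 lc_f_rc_5_3 lc_f_rc_20_1 lc_f_Cert_tree lc_f_Cert_tree lc_f_rc_20_1 lc_f_rc_14_3) (@D3.rec (fun _ => (Cert rels S Gen.f)) lc_f_rc_10_3 lc_f_rc_17_1 lc_f_rc_10_3 lc_f_rc_10_1 lc_f_rc_21_1 lc_f_rc_14_3 lc_f_rc_10_3 lc_f_rc_19_3 lc_f_rc_17_3 lc_f_rc_10_3 lc_f_rc_5_1 lc_f_rc_5_1 lc_f_rc_17_3 lc_f_rc_20_1 lc_f_rc_17_3 lc_f_rc_5_1 lc_f_rc_20_1 lc_f_rc_20_1 lc_f_rc_10_3 lc_f_rc_17_3 lc_f_rc_17_3 lc_f_rc_5_3 lc_f_rc_10_3 lc_f_rc_17_1 lc_f_rc_20_1 lc_f_rc_19_3 lc_f_rc_17_3 lc_f_rc_17_3 lc_f_rc_5_3 lc_f_rc_5_3 lc_f_rc_20_1 lc_f_rc_17_3 lc_f_rc_10_3 lc_f_rc_17_3 lc_f_rc_10_3 lc_f_rc_10_1 lc_f_rc_10_3 lc_f_rc_21_1 lc_f_rc_14_3 lc_f_rc_20_1 lc_f_rc_20_1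 lc_f_rc_10_3 lc_f_rc_5_1 lc_f_rc_20_1 lc_f_rc_10_3 lc_f_rc_5_1 lc_f_rc_5_3 lc_f_rc_17_3 lc_f_rc_10_3 lc_f_rc_10_3 lc_f_rc_17_3 lc_f_rc_17_3 lc_f_rc_17_3 lc_f_rc_21_1 lc_f_rc_17_1 lc_f_rc_20_1 lc_f_rc_10_3 lc_f_rc_17_1 lc_f_rc_14_3 lc_f_Cert_tree lc_f_rc_10_3 lc_f_rc_10_3) (@D3.rec (fun _ => (Cert rels S Gen.f)) lc_f_rc_17_1 lc_f_rc_21_1 lc_f_rc_5_3 lc_f_rc_5_1 lc_f_rc_17_3 lc_f_rc_14_3 lc_f_rc_17_3 lc_f_rc_10_3 lc_f_rc_21_1 lc_f_rc_20_1 lc_f_rc_10_3 lc_f_rc_14_1 lc_f_rc_14_3 lc_f_rc_10_3 lc_f_rc_14_3 lc_f_rc_14_1 lc_f_rc_20_1 lc_f_rc_14_3 lc_f_rc_14_1 lc_f_rc_20_1 lc_f_rc_17_1 lc_f_rc_14_3 lc_f_rc_17_1 lc_f_rc_17_3 lc_f_rc_14_1 lc_f_Cert_tree lc_f_rc_5_3 lc_f_rc_17_3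 lc_f_rc_17_1 lc_f_rc_14_3 lc_f_rc_14_3 lc_f_rc_10_3 lc_f_rc_20_1 lc_f_rc_10_3 lc_f_rc_19_5 lc_f_rc_10_3 lc_f_rc_19_5 lc_f_rc_14_3 lc_f_rc_14_3 lc_f_rc_14_3 lc_f_rc_5_1 lc_f_rc_19_5 lc_f_rc_5_1 lc_f_rc_10_3 lc_f_rc_5_3 lc_f_rc_10_3 lc_f_Cert_tree lc_f_rc_17_3 lc_f_rc_17_3 lc_f_rc_10_3 lc_f_rc_19_3 lc_f_rc_19_5 lc_f_rc_14_3 lc_f_rc_14_3 lc_f_rc_10_3 lc_f_rc_17_3 lc_f_rc_14_3 lc_f_rc_5_3 lc_f_rc_19_3 lc_f_rc_10_3 lc_f_rc_10_3 lc_f_rc_19_5) (@D3.rec (fun _ => (Cert rels S Gen.f)) lc_f_rc_14_1 lc_f_rc_17_3 lc_f_rc_14_3 lc_f_rc_14_3 lc_f_rc_22_1 lc_f_rc_10_3 lc_f_rc_21_1 lc_f_rc_10_3 lc_f_rc_20_1 lc_f_rc_10_1 lc_f_rc_17_3 lc_f_rc_17_3 lc_f_rc_17_1 lc_f_rc_19_3 lc_f_rc_17_1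 lc_f_rc_17_3 lc_f_Cert_tree lc_f_rc_20_1 lc_f_rc_10_3 lc_f_rc_19_5 lc_f_rc_14_3 lc_f_rc_19_5 lc_f_rc_14_3 lc_f_rc_21_1 lc_f_rc_5_1 lc_f_rc_10_3 lc_f_rc_17_3 lc_f_rc_17_3 lc_f_rc_14_3 lc_f_rc_10_1 lc_f_rc_17_3 lc_f_rc_10_3 lc_f_rc_20_1 lc_f_rc_10_3 lc_f_rc_17_3 lc_f_rc_19_3 lc_f_rc_5_1 lc_f_rc_10_3 lc_f_rc_14_3 lc_f_rc_14_3 lc_f_rc_10_1 lc_f_rc_17_3 lc_f_rc_17_3 lc_f_rc_14_3 lc_f_rc_10_1 lc_f_rc_19_3 lc_f_rc_17_3 lc_f_rc_14_3 lc_f_rc_10_1 lc_f_rc_5_3 lc_f_rc_20_1 lc_f_rc_14_3 lc_f_rc_10_3 lc_f_rc_17_3 lc_f_Cert_tree lc_f_rc_14_3 lc_f_rc_14_1 lc_f_rc_19_3 lc_f_rc_14_3 lc_f_rc_20_1 lc_f_rc_17_3 lc_f_rc_10_3) (@D3.rec (fun _ => (Cert rels S Gen.f)) lc_f_rc_10_3 lc_f_rc_10_3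 lc_f_rc_14_3 lc_f_rc_14_3 lc_f_rc_14_1 lc_f_rc_20_1 lc_f_rc_20_1 lc_f_rc_21_1 lc_f_rc_14_1 lc_f_rc_20_1 lc_f_rc_5_3 lc_f_rc_17_3 lc_f_rc_17_3 lc_f_rc_17_3 lc_f_rc_21_1 lc_f_rc_10_3 lc_f_rc_19_5 lc_f_rc_5_3 lc_f_rc_10_1 lc_f_rc_14_3 lc_f_rc_17_1 lc_f_rc_14_3 lc_f_Cert_tree lc_f_rc_21_1 lc_f_rc_10_1 lc_f_rc_20_1 lc_f_rc_21_1 lc_f_rc_17_1 lc_f_rc_20_1 lc_f_rc_17_3 lc_f_rc_19_3 lc_f_rc_10_3 lc_f_rc_17_3 lc_f_rc_20_1 lc_f_rc_10_1 lc_f_rc_5_3 lc_f_rc_21_1 lc_f_Cert_tree lc_f_rc_5_3 lc_f_rc_17_3 lc_f_rc_22_1 lc_f_rc_20_1 lc_f_rc_20_1 lc_f_rc_5_3 lc_f_rc_17_3 lc_f_rc_10_3 lc_f_rc_10_3 lc_f_rc_5_1 lc_f_rc_19_3 lc_f_rc_21_1 lc_f_rc_10_3 lc_f_rc_17_1 lc_f_rc_21_1 lc_f_rc_17_3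 lc_f_rc_10_1 lc_f_rc_14_3 lc_f_rc_19_3 lc_f_rc_10_3 lc_f_rc_14_3 lc_f_Cert_tree lc_f_rc_14_3 lc_f_rc_21_1) (@D3.rec (fun _ => (Cert rels S Gen.f)) lc_f_rc_10_1 lc_f_rc_20_1 lc_f_rc_20_1 lc_f_rc_17_3 lc_f_rc_20_1 lc_f_rc_10_1 lc_f_rc_5_1 lc_f_rc_14_3 lc_f_rc_17_3 lc_f_rc_5_3 lc_f_rc_14_3 lc_f_rc_17_3 lc_f_rc_17_3 lc_f_rc_17_3 lc_f_rc_5_1 lc_f_rc_14_3 lc_f_rc_14_1 lc_f_rc_20_1 lc_f_rc_21_1 lc_f_Cert_tree lc_f_rc_20_1 lc_f_rc_14_3 lc_f_rc_21_1 lc_f_rc_10_3 lc_f_rc_19_3 lc_f_rc_19_5 lc_f_rc_17_1 lc_f_rc_20_1 lc_f_rc_21_1 lc_f_rc_10_3 lc_f_rc_14_3 lc_f_rc_19_1 lc_f_rc_10_3 lc_f_rc_5_1 lc_f_rc_21_1 lc_f_rc_19_1 lc_f_rc_19_1 lc_f_rc_21_1 lc_f_rc_17_3 lc_f_rc_10_3 lc_f_rc_17_3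 lc_f_rc_14_3 lc_f_rc_10_3 lc_f_rc_21_1 lc_f_rc_17_3 lc_f_rc_14_3 lc_f_rc_21_1 lc_f_rc_10_1 lc_f_rc_10_3 lc_f_rc_17_3 lc_f_rc_19_3 lc_f_rc_21_1 lc_f_rc_14_3 lc_f_rc_21_1 lc_f_rc_5_3 lc_f_rc_17_3 lc_f_Cert_tree lc_f_rc_14_3 lc_f_rc_21_1 lc_f_Cert_tree lc_f_rc_20_1 lc_f_rc_5_1) (@D3.rec (fun _ => (Cert rels S Gen.f)) lc_f_rc_5_1 lc_f_rc_20_1 lc_f_rc_14_3 lc_f_rc_20_1 lc_f_rc_17_3 lc_f_rc_10_1 lc_f_Cert_tree lc_f_rc_14_3 lc_f_rc_21_1 lc_f_rc_14_3 lc_f_rc_20_1 lc_f_rc_20_1 lc_f_rc_10_1 lc_f_rc_20_1 lc_f_rc_10_1 lc_f_rc_19_5 lc_f_rc_20_1 lc_f_rc_14_3 lc_f_rc_14_3 lc_f_Cert_tree lc_f_rc_20_1 lc_f_rc_10_3 lc_f_rc_5_3 lc_f_rc_5_1 lc_f_Cert_tree lc_f_rc_10_3 lc_f_rc_17_3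 lc_f_Cert_tree lc_f_rc_17_3 lc_f_rc_22_1 lc_f_rc_17_3 lc_f_rc_17_3 lc_f_rc_10_1 lc_f_Cert_tree lc_f_rc_14_3 lc_f_rc_20_1 lc_f_rc_17_3 lc_f_rc_22_1 lc_f_rc_10_1 lc_f_rc_19_3 lc_f_rc_20_1 lc_f_rc_10_3 lc_f_rc_17_3 lc_f_rc_14_3 lc_f_rc_17_3 lc_f_rc_19_3 lc_f_rc_17_3 lc_f_rc_21_1 lc_f_rc_5_3 lc_f_rc_20_1 lc_f_rc_5_3 lc_f_rc_10_3 lc_f_rc_17_1 lc_f_rc_19_5 lc_f_rc_10_3 lc_f_rc_17_1 lc_f_rc_19_3 lc_f_rc_14_3 lc_f_rc_14_3 lc_f_rc_5_3 lc_f_rc_14_3 lc_f_rc_20_1) (@D3.rec (fun _ => (Cert rels S Gen.f)) lc_f_rc_21_1 lc_f_rc_10_3 lc_f_rc_20_1 lc_f_rc_20_1 lc_f_rc_5_1 lc_f_rc_20_1 lc_f_rc_17_3 lc_f_rc_14_3 lc_f_rc_17_3 lc_f_rc_17_3 lc_f_rc_17_3 lc_f_rc_21_1 lc_f_rc_20_1 lc_f_rc_10_3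 lc_f_rc_14_3 lc_f_rc_10_3 lc_f_rc_20_1 lc_f_rc_14_3 lc_f_rc_20_1 lc_f_rc_20_1 lc_f_rc_5_3 lc_f_rc_21_1 lc_f_rc_17_3 lc_f_rc_17_3 lc_f_rc_10_3 lc_f_rc_10_3 lc_f_rc_14_3 lc_f_rc_21_1 lc_f_rc_20_1 lc_f_rc_14_1 lc_f_rc_14_1 lc_f_rc_21_1 lc_f_rc_20_1 lc_f_rc_14_3 lc_f_rc_20_1 lc_f_rc_20_1 lc_f_rc_20_1 lc_f_rc_14_3 lc_f_rc_17_3 lc_f_rc_14_1 lc_f_rc_21_1 lc_f_rc_5_1 lc_f_rc_17_3 lc_f_rc_21_1 lc_f_rc_14_3 lc_f_rc_20_1 lc_f_rc_10_3 lc_f_rc_14_3 lc_f_rc_19_3 lc_f_rc_10_3 lc_f_rc_10_3 lc_f_Cert_tree lc_f_rc_21_1 lc_f_Cert_tree lc_f_rc_20_1 lc_f_rc_17_1 lc_f_rc_19_5 lc_f_rc_19_1 lc_f_rc_17_3 lc_f_rc_14_3 lc_f_rc_17_3 lc_f_rc_17_3) (@D3.rec (fun _ => (Cert rels S Gen.f)) lc_f_rc_17_3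 lc_f_rc_20_1 lc_f_rc_19_1 lc_f_rc_20_1 lc_f_rc_14_3 lc_f_rc_21_1 lc_f_rc_5_3 lc_f_rc_10_3 lc_f_rc_10_3 lc_f_rc_21_1 lc_f_rc_5_3 lc_f_rc_21_1 lc_f_rc_5_3 lc_f_rc_10_3 lc_f_rc_5_1 lc_f_rc_14_1 lc_f_rc_5_3 lc_f_rc_17_3 lc_f_rc_19_5 lc_f_Cert_tree lc_f_rc_17_3 lc_f_rc_5_1 lc_f_rc_10_3 lc_f_rc_5_3 lc_f_rc_10_3 lc_f_rc_20_1 lc_f_rc_17_3 lc_f_rc_20_1 lc_f_rc_5_1 lc_f_rc_10_3 lc_f_rc_10_3 lc_f_rc_10_3 lc_f_Cert_tree lc_f_rc_21_1 lc_f_rc_17_3 lc_f_rc_5_1 lc_f_rc_10_3 lc_f_rc_20_1 lc_f_rc_10_3 lc_f_Cert_tree lc_f_Cert_tree lc_f_rc_19_5 lc_f_rc_19_3 lc_f_rc_17_1 lc_f_rc_20_1 lc_f_rc_20_1 lc_f_rc_21_1 lc_f_rc_14_3 lc_f_rc_14_3 lc_f_rc_5_3 lc_f_rc_17_3 lc_f_rc_14_1 lc_f_rc_20_1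 lc_f_rc_17_3 lc_f_rc_10_3 lc_f_rc_5_1 lc_f_rc_10_3 lc_f_rc_10_3 lc_f_Cert_tree lc_f_rc_14_3 lc_f_rc_17_1 lc_f_rc_20_1) (@D3.rec (fun _ => (Cert rels S Gen.f)) lc_f_rc_10_3 lc_f_rc_14_3 lc_f_rc_17_1 lc_f_rc_17_3 lc_f_rc_10_3 lc_f_rc_20_1 lc_f_rc_14_3 lc_f_rc_5_3 lc_f_rc_19_3 lc_f_rc_17_3 lc_f_rc_21_1 lc_f_rc_14_3 lc_f_Cert_tree lc_f_rc_5_3 lc_f_rc_22_1 lc_f_rc_20_1 lc_f_rc_14_3 lc_f_rc_14_1 lc_f_Cert_tree lc_f_rc_20_1 lc_f_rc_10_3 lc_f_rc_17_3 lc_f_rc_17_3 lc_f_rc_21_1 lc_f_rc_14_1 lc_f_rc_20_1 lc_f_rc_19_3 lc_f_rc_17_3 lc_f_rc_10_1 lc_f_rc_5_1 lc_f_rc_21_1 lc_f_rc_21_1 lc_f_rc_21_1 lc_f_rc_5_1 lc_f_rc_19_1 lc_f_rc_10_3 lc_f_rc_14_3 lc_f_rc_21_1 lc_f_rc_10_3 lc_f_rc_17_3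 lc_f_rc_14_3 lc_f_rc_17_3 lc_f_rc_14_1 lc_f_rc_20_1 lc_f_rc_20_1 lc_f_rc_20_1 lc_f_Cert_tree lc_f_rc_5_1 lc_f_rc_20_1 lc_f_rc_14_3 lc_f_rc_5_1 lc_f_rc_5_3 lc_f_rc_20_1 lc_f_rc_21_1 lc_f_rc_19_3 lc_f_rc_21_1 lc_f_rc_17_1 lc_f_rc_20_1 lc_f_rc_10_3 lc_f_rc_22_1 lc_f_rc_10_3 lc_f_rc_10_3) (@D3.rec (fun _ => (Cert rels S Gen.f)) lc_f_rc_10_1 lc_f_rc_21_1 lc_f_rc_10_3 lc_f_rc_14_3 lc_f_rc_10_3 lc_f_rc_10_3 lc_f_rc_10_1 lc_f_rc_17_3 lc_f_rc_14_3 lc_f_rc_14_3 lc_f_rc_10_3 lc_f_rc_5_3 lc_f_rc_19_3 lc_f_rc_5_1 lc_f_rc_17_3 lc_f_rc_10_3 lc_f_rc_19_3 lc_f_rc_10_3 lc_f_rc_10_1 lc_f_rc_21_1 lc_f_rc_20_1 lc_f_Cert_tree lc_f_rc_17_1 lc_f_rc_17_1 lc_f_rc_20_1 lc_f_rc_10_3 lc_f_rc_21_1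 lc_f_rc_19_5 lc_f_rc_17_3 lc_f_rc_19_1 lc_f_rc_20_1 lc_f_rc_21_1 lc_f_Cert_tree lc_f_rc_20_1 lc_f_rc_19_5 lc_f_rc_10_3 lc_f_rc_17_3 lc_f_rc_19_3 lc_f_rc_19_5 lc_f_rc_14_3 lc_f_rc_17_3 lc_f_rc_10_3 lc_f_rc_17_3 lc_f_rc_14_3 lc_f_rc_19_3 lc_f_rc_5_1 lc_f_rc_10_3 lc_f_rc_21_1 lc_f_rc_14_3 lc_f_rc_22_1 lc_f_rc_14_3 lc_f_rc_14_3 lc_f_rc_19_5 lc_f_rc_20_1 lc_f_rc_20_1 lc_f_rc_14_3 lc_f_rc_14_1 lc_f_rc_14_3 lc_f_rc_19_5 lc_f_rc_21_1 lc_f_rc_22_1 lc_f_rc_10_3) (@D3.rec (fun _ => (Cert rels S Gen.f)) lc_f_rc_19_5 lc_f_rc_17_3 lc_f_rc_17_1 lc_f_rc_14_3 lc_f_rc_14_1 lc_f_rc_20_1 lc_f_rc_17_3 lc_f_rc_17_1 lc_f_rc_10_3 lc_f_rc_17_1 lc_f_rc_10_3 lc_f_rc_17_3 lc_f_rc_19_3 lc_f_rc_17_3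 lc_f_rc_19_3 lc_f_rc_21_1 lc_f_rc_17_3 lc_f_rc_10_3 lc_f_rc_17_3 lc_f_rc_17_3 lc_f_rc_5_3 lc_f_rc_10_3 lc_f_rc_10_1 lc_f_rc_19_3 lc_f_rc_14_3 lc_f_rc_17_1 lc_f_rc_20_1 lc_f_rc_19_5 lc_f_rc_10_3 lc_f_rc_5_1 lc_f_rc_5_1 lc_f_rc_10_1 lc_f_rc_17_3 lc_f_rc_10_3 lc_f_rc_10_3 lc_f_rc_14_3 lc_f_rc_20_1 lc_f_rc_14_3 lc_f_rc_17_3 lc_f_rc_21_1 lc_f_rc_20_1 lc_f_Cert_tree lc_f_rc_14_3 lc_f_rc_17_3 lc_f_rc_17_3 lc_f_rc_17_3 lc_f_rc_19_3 lc_f_rc_10_3 lc_f_Cert_tree lc_f_rc_14_3 lc_f_rc_14_1 lc_f_rc_19_3 lc_f_rc_20_1 lc_f_rc_10_3 lc_f_rc_21_1 lc_f_rc_22_1 lc_f_rc_17_3 lc_f_rc_17_3 lc_f_rc_5_3 lc_f_rc_20_1 lc_f_rc_14_1 lc_f_rc_14_3) (@D3.rec (fun _ => (Cert rels S Gen.f)) lc_f_rc_10_3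 lc_f_rc_17_3 lc_f_rc_14_3 lc_f_rc_14_1 lc_f_rc_17_3 lc_f_rc_14_3 lc_f_rc_20_1 lc_f_rc_21_1 lc_f_rc_19_3 lc_f_rc_17_3 lc_f_rc_14_3 lc_f_rc_10_3 lc_f_rc_19_3 lc_f_rc_14_1 lc_f_rc_5_1 lc_f_rc_10_3 lc_f_rc_5_1 lc_f_rc_20_1 lc_f_rc_10_1 lc_f_rc_10_3 lc_f_rc_10_3 lc_f_rc_14_3 lc_f_rc_5_3 lc_f_rc_20_1 lc_f_rc_10_3 lc_f_rc_14_3 lc_f_rc_10_3 lc_f_rc_5_3 lc_f_rc_20_1 lc_f_rc_14_1 lc_f_rc_10_3 lc_f_rc_5_3 lc_f_rc_10_3 lc_f_rc_17_3 lc_f_rc_14_3 lc_f_rc_14_1 lc_f_rc_10_3 lc_f_rc_19_1 lc_f_rc_5_3 lc_f_rc_19_3 lc_f_rc_14_3 lc_f_rc_14_3 lc_f_rc_14_3 lc_f_rc_5_3 lc_f_rc_20_1 lc_f_rc_17_3 lc_f_rc_14_3 lc_f_rc_20_1 lc_f_rc_20_1 lc_f_rc_19_5 lc_f_rc_5_1 lc_f_rc_20_1 lc_f_rc_10_1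 lc_f_rc_20_1 lc_f_rc_14_3 lc_f_rc_14_3 lc_f_Cert_tree lc_f_rc_19_5 lc_f_Cert_tree lc_f_rc_20_1 lc_f_rc_14_1 lc_f_rc_10_1) (@D3.rec (fun _ => (Cert rels S Gen.f)) lc_f_rc_14_1 lc_f_rc_10_1 lc_f_rc_21_1 lc_f_rc_19_3 lc_f_rc_17_3 lc_f_rc_22_1 lc_f_rc_10_1 lc_f_rc_17_1 lc_f_rc_17_3 lc_f_rc_10_3 lc_f_rc_14_3 lc_f_rc_17_3 lc_f_rc_19_5 lc_f_rc_20_1 lc_f_rc_5_3 lc_f_Cert_tree lc_f_rc_14_1 lc_f_rc_17_3 lc_f_rc_17_3 lc_f_rc_5_3 lc_f_rc_17_3 lc_f_rc_17_3 lc_f_rc_10_3 lc_f_rc_20_1 lc_f_rc_14_3 lc_f_rc_10_1 lc_f_rc_17_3 lc_f_rc_19_3 lc_f_rc_5_3 lc_f_rc_14_3 lc_f_rc_5_1 lc_f_rc_14_1 lc_f_rc_10_1 lc_f_rc_20_1 lc_f_rc_14_1 lc_f_rc_17_3 lc_f_rc_20_1 lc_f_rc_17_3 lc_f_rc_17_3 lc_f_rc_20_1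 lc_f_rc_5_1 lc_f_rc_14_3 lc_f_rc_22_1 lc_f_rc_20_1 lc_f_rc_19_1 lc_f_rc_19_5 lc_f_rc_21_1 lc_f_rc_17_3 lc_f_rc_10_3 lc_f_rc_17_3 lc_f_rc_19_3 lc_f_rc_17_1 lc_f_rc_21_1 lc_f_rc_19_5 lc_f_rc_20_1 lc_f_rc_19_1 lc_f_Cert_tree lc_f_rc_21_1 lc_f_rc_17_1 lc_f_rc_20_1 lc_f_rc_14_1 lc_f_rc_17_1) (@D3.rec (fun _ => (Cert rels S Gen.f)) lc_f_rc_20_1 lc_f_rc_21_1 lc_f_rc_14_1 lc_f_rc_14_1 lc_f_rc_10_1 lc_f_rc_10_3 lc_f_rc_21_1 lc_f_rc_20_1 lc_f_rc_10_3 lc_f_rc_5_1 lc_f_rc_10_1 lc_f_rc_17_3 lc_f_rc_17_3 lc_f_rc_14_3 lc_f_rc_19_3 lc_f_rc_21_1 lc_f_rc_21_1 lc_f_rc_10_3 lc_f_rc_21_1 lc_f_rc_10_3 lc_f_rc_5_1 lc_f_rc_10_1 lc_f_rc_20_1 lc_f_rc_17_1 lc_f_Cert_tree lc_f_rc_17_3 lc_f_rc_20_1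 lc_f_rc_17_1 lc_f_rc_21_1 lc_f_rc_20_1 lc_f_rc_20_1 lc_f_rc_21_1 lc_f_rc_20_1 lc_f_rc_10_3 lc_f_rc_10_3 lc_f_rc_21_1 lc_f_rc_21_1 lc_f_rc_10_3 lc_f_rc_10_3 lc_f_rc_14_3 lc_f_rc_10_3 lc_f_rc_5_1 lc_f_rc_10_3 lc_f_rc_17_3 lc_f_rc_17_3 lc_f_rc_20_1 lc_f_rc_10_1 lc_f_rc_10_3 lc_f_rc_20_1 lc_f_rc_19_3 lc_f_rc_19_3 lc_f_rc_21_1 lc_f_rc_14_3 lc_f_rc_14_3 lc_f_rc_5_3 lc_f_rc_10_3 lc_f_rc_19_1 lc_f_rc_14_1 lc_f_rc_21_1 lc_f_rc_20_1 lc_f_rc_20_1 lc_f_rc_21_1) (@D3.rec (fun _ => (Cert rels S Gen.f)) lc_f_rc_14_3 lc_f_rc_17_1 lc_f_rc_17_3 lc_f_rc_5_3 lc_f_rc_10_3 lc_f_rc_10_3 lc_f_Cert_tree lc_f_rc_17_3 lc_f_rc_17_1 lc_f_rc_21_1 lc_f_rc_5_3 lc_f_rc_10_3 lc_f_rc_21_1 lc_f_Cert_tree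 lc_f_rc_17_1 lc_f_rc_14_1 lc_f_rc_5_1 lc_f_rc_5_3 lc_f_rc_14_1 lc_f_rc_10_3 lc_f_Cert_tree lc_f_rc_10_3 lc_f_Cert_tree lc_f_rc_10_3 lc_f_rc_17_3 lc_f_Cert_tree lc_f_rc_5_3 lc_f_rc_10_3 lc_f_rc_17_3 lc_f_rc_14_3 lc_f_rc_10_1 lc_f_rc_21_1 lc_f_rc_19_5 lc_f_rc_20_1 lc_f_rc_17_3 lc_f_rc_21_1 lc_f_rc_22_1 lc_f_rc_20_1 lc_f_rc_19_5 lc_f_rc_17_1 lc_f_rc_14_3 lc_f_rc_19_5 lc_f_rc_20_1 lc_f_rc_17_3 lc_f_rc_20_1 lc_f_rc_14_3 lc_f_rc_20_1 lc_f_rc_20_1 lc_f_rc_21_1 lc_f_rc_20_1 lc_f_Cert_tree lc_f_rc_10_1 lc_f_rc_21_1 lc_f_rc_20_1 lc_f_rc_14_3 lc_f_Cert_tree lc_f_rc_19_1 lc_f_rc_19_5 lc_f_rc_20_1 lc_f_rc_14_3 lc_f_Cert_tree lc_f_rc_14_1) (@D3.rec (fun _ => (Cert rels S Gen.f))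 lc_f_rc_21_1 lc_f_rc_20_1 lc_f_rc_21_1 lc_f_rc_14_3 lc_f_Cert_tree lc_f_rc_21_1 lc_f_Cert_tree lc_f_rc_10_3 lc_f_rc_14_3 lc_f_Cert_tree lc_f_rc_5_3 lc_f_rc_17_3 lc_f_rc_20_1 lc_f_rc_10_3 lc_f_rc_14_1 lc_f_rc_5_1 lc_f_Cert_tree lc_f_rc_14_3 lc_f_rc_20_1 lc_f_Cert_tree lc_f_rc_20_1 lc_f_rc_20_1 lc_f_rc_5_1 lc_f_rc_17_3 lc_f_rc_20_1 lc_f_rc_10_1 lc_f_rc_20_1 lc_f_rc_19_5 lc_f_rc_19_3 lc_f_rc_20_1 lc_f_rc_20_1 lc_f_rc_10_3 lc_f_Cert_tree lc_f_rc_14_3 lc_f_rc_20_1 lc_f_rc_17_1 lc_f_rc_20_1 lc_f_rc_14_3 lc_f_rc_14_3 lc_f_rc_17_1 lc_f_rc_10_1 lc_f_rc_5_3 lc_f_rc_17_3 lc_f_rc_14_1 lc_f_rc_19_3 lc_f_rc_21_1 lc_f_rc_14_1 lc_f_rc_21_1 lc_f_rc_5_3 lc_f_rc_10_3 lc_f_rc_20_1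 lc_f_rc_20_1 lc_f_rc_10_3 lc_f_rc_10_3 lc_f_rc_17_3 lc_f_rc_20_1 lc_f_rc_14_3 lc_f_Cert_tree lc_f_rc_19_3 lc_f_rc_10_3 lc_f_rc_19_3 lc_f_Cert_tree) (@D3.rec (fun _ => (Cert rels S Gen.f)) lc_f_rc_17_3 lc_f_rc_10_3 lc_f_rc_17_3 lc_f_rc_14_1 lc_f_rc_17_3 lc_f_rc_19_3 lc_f_rc_17_1 lc_f_rc_17_3 lc_f_rc_20_1 lc_f_rc_20_1 lc_f_rc_14_3 lc_f_rc_19_3 lc_f_rc_17_3 lc_f_rc_10_3 lc_f_rc_14_3 lc_f_rc_21_1 lc_f_rc_17_1 lc_f_rc_17_3 lc_f_rc_14_3 lc_f_Cert_tree lc_f_rc_14_3 lc_f_rc_20_1 lc_f_rc_20_1 lc_f_rc_20_1 lc_f_rc_21_1 lc_f_rc_5_3 lc_f_rc_14_3 lc_f_rc_10_3 lc_f_rc_20_1 lc_f_rc_19_3 lc_f_rc_19_1 lc_f_rc_21_1 lc_f_rc_10_3 lc_f_rc_10_3 lc_f_rc_10_3 lc_f_rc_17_3 lc_f_rc_5_1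 lc_f_rc_21_1 lc_f_rc_10_3 lc_f_Cert_tree lc_f_rc_10_3 lc_f_rc_20_1 lc_f_rc_20_1 lc_f_rc_10_3 lc_f_rc_10_3 lc_f_rc_14_3 lc_f_rc_17_3 lc_f_rc_21_1 lc_f_rc_17_3 lc_f_rc_17_1 lc_f_rc_5_3 lc_f_rc_20_1 lc_f_rc_22_1 lc_f_rc_10_3 lc_f_rc_19_3 lc_f_rc_10_3 lc_f_rc_21_1 lc_f_rc_5_1 lc_f_rc_10_3 lc_f_rc_17_3 lc_f_rc_21_1 lc_f_rc_5_3) (@D3.rec (fun _ => (Cert rels S Gen.f)) lc_f_rc_20_1 lc_f_rc_14_3 lc_f_rc_10_1 lc_f_rc_10_3 lc_f_rc_10_1 lc_f_rc_20_1 lc_f_rc_20_1 lc_f_rc_5_1 lc_f_rc_17_3 lc_f_rc_14_1 lc_f_rc_10_3 lc_f_rc_20_1 lc_f_rc_10_3 lc_f_rc_19_3 lc_f_rc_21_1 lc_f_rc_20_1 lc_f_rc_14_3 lc_f_Cert_tree lc_f_rc_5_1 lc_f_rc_14_3 lc_f_Cert_tree lc_f_rc_20_1 lc_f_rc_20_1 lc_f_rc_14_1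 lc_f_rc_5_3 lc_f_rc_5_1 lc_f_rc_10_1 lc_f_rc_10_3 lc_f_rc_14_3 lc_f_rc_20_1 lc_f_rc_10_1 lc_f_rc_10_3 lc_f_rc_20_1 lc_f_rc_14_1 lc_f_Cert_tree lc_f_rc_10_3 lc_f_rc_20_1 lc_f_rc_19_5 lc_f_rc_20_1 lc_f_rc_17_3 lc_f_rc_21_1 lc_f_rc_5_3 lc_f_rc_19_3 lc_f_rc_17_3 lc_f_rc_19_5 lc_f_rc_21_1 lc_f_rc_14_3 lc_f_rc_17_3 lc_f_rc_10_3 lc_f_rc_17_3 lc_f_rc_17_3 lc_f_rc_5_3 lc_f_rc_20_1 lc_f_rc_10_3 lc_f_rc_14_3 lc_f_Cert_tree lc_f_rc_5_3 lc_f_rc_14_3 lc_f_rc_20_1 lc_f_rc_5_3 lc_f_Cert_tree lc_f_rc_20_1) (@D3.rec (fun _ => (Cert rels S Gen.f)) lc_f_rc_10_3 lc_f_rc_17_3 lc_f_rc_20_1 lc_f_rc_21_1 lc_f_Cert_tree lc_f_rc_20_1 lc_f_rc_20_1 lc_f_rc_22_1 lc_f_rc_21_1 lc_f_rc_14_3 lc_f_rc_5_1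 lc_f_rc_5_3 lc_f_rc_14_1 lc_f_rc_14_1 lc_f_rc_10_3 lc_f_rc_21_1 lc_f_rc_5_3 lc_f_rc_17_1 lc_f_rc_17_1 lc_f_rc_19_5 lc_f_rc_14_3 lc_f_rc_17_3 lc_f_rc_22_1 lc_f_rc_20_1 lc_f_rc_14_3 lc_f_rc_19_1 lc_f_rc_14_3 lc_f_rc_14_3 lc_f_rc_17_3 lc_f_rc_17_3 lc_f_rc_19_3 lc_f_rc_21_1 lc_f_rc_17_3 lc_f_rc_19_3 lc_f_rc_10_3 lc_f_rc_20_1 lc_f_rc_19_5 lc_f_rc_20_1 lc_f_rc_10_3 lc_f_rc_5_1 lc_f_rc_21_1 lc_f_rc_20_1 lc_f_rc_21_1 lc_f_Cert_tree lc_f_rc_14_3 lc_f_Cert_tree lc_f_rc_5_3 lc_f_rc_21_1 lc_f_rc_10_3 lc_f_rc_21_1 lc_f_rc_20_1 lc_f_rc_17_3 lc_f_Cert_tree lc_f_rc_14_3 lc_f_rc_14_1 lc_f_rc_20_1 lc_f_rc_10_3 lc_f_Cert_tree lc_f_rc_19_5 lc_f_rc_20_1 lc_f_rc_10_3 lc_f_rc_10_3)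 (@D3.rec (fun _ => (Cert rels S Gen.f)) lc_f_rc_10_3 lc_f_Cert_tree lc_f_rc_21_1 lc_f_rc_17_3 lc_f_rc_10_1 lc_f_rc_20_1 lc_f_rc_19_5 lc_f_rc_22_1 lc_f_rc_14_3 lc_f_rc_20_1 lc_f_rc_14_3 lc_f_Cert_tree lc_f_rc_20_1 lc_f_rc_20_1 lc_f_rc_10_3 lc_f_rc_20_1 lc_f_rc_17_3 lc_f_rc_19_3 lc_f_rc_17_1 lc_f_rc_10_3 lc_f_rc_20_1 lc_f_rc_14_3 lc_f_rc_20_1 lc_f_rc_20_1 lc_f_rc_20_1 lc_f_rc_10_3 lc_f_rc_10_3 lc_f_rc_21_1 lc_f_rc_20_1 lc_f_rc_10_3 lc_f_Cert_tree lc_f_rc_10_1 lc_f_rc_20_1 lc_f_rc_10_3 lc_f_rc_17_1 lc_f_rc_17_3 lc_f_rc_20_1 lc_f_rc_21_1 lc_f_rc_19_3 lc_f_rc_5_3 lc_f_rc_19_3 lc_f_rc_22_1 lc_f_rc_14_3 lc_f_rc_19_3 lc_f_rc_14_3 lc_f_Cert_tree lc_f_rc_10_3 lc_f_rc_19_3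 lc_f_rc_14_3 lc_f_rc_5_1 lc_f_rc_20_1 lc_f_rc_17_3 lc_f_rc_14_1 lc_f_rc_21_1 lc_f_rc_17_1 lc_f_rc_20_1 lc_f_rc_17_3 lc_f_rc_17_3 lc_f_rc_17_3 lc_f_rc_21_1 lc_f_rc_5_1 lc_f_rc_20_1) (@D3.rec (fun _ => (Cert rels S Gen.f)) lc_f_rc_17_3 lc_f_rc_10_3 lc_f_rc_5_1 lc_f_rc_20_1 lc_f_rc_22_1 lc_f_rc_14_3 lc_f_rc_19_5 lc_f_rc_10_3 lc_f_rc_17_1 lc_f_rc_20_1 lc_f_Cert_tree lc_f_rc_20_1 lc_f_rc_20_1 lc_f_rc_10_3 lc_f_rc_20_1 lc_f_rc_5_3 lc_f_rc_20_1 lc_f_rc_5_1 lc_f_rc_17_1 lc_f_rc_10_1 lc_f_rc_20_1 lc_f_rc_14_3 lc_f_rc_17_1 lc_f_rc_20_1 lc_f_rc_10_1 lc_f_rc_20_1 lc_f_Cert_tree lc_f_rc_20_1 lc_f_rc_14_3 lc_f_rc_22_1 lc_f_rc_20_1 lc_f_rc_5_3 lc_f_rc_10_3 lc_f_rc_20_1 lc_f_rc_14_1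 lc_f_rc_20_1 lc_f_rc_19_3 lc_f_rc_10_1 lc_f_rc_10_1 lc_f_rc_17_3 lc_f_rc_14_1 lc_f_rc_20_1 lc_f_rc_22_1 lc_f_rc_19_3 lc_f_rc_17_3 lc_f_rc_21_1 lc_f_rc_10_3 lc_f_rc_10_3 lc_f_rc_17_3 lc_f_rc_21_1 lc_f_Cert_tree lc_f_rc_19_1 lc_f_rc_19_3 lc_f_rc_20_1 lc_f_rc_20_1 lc_f_rc_19_3 lc_f_rc_10_3 lc_f_rc_10_3 lc_f_rc_20_1 lc_f_rc_17_3 lc_f_rc_20_1 lc_f_rc_20_1) (@D3.rec (fun _ => (Cert rels S Gen.f)) lc_f_rc_10_1 lc_f_rc_10_3 lc_f_rc_14_1 lc_f_rc_17_1 lc_f_rc_14_3 lc_f_rc_20_1 lc_f_rc_10_1 lc_f_rc_14_1 lc_f_rc_14_3 lc_f_rc_21_1 lc_f_rc_14_3 lc_f_rc_5_3 lc_f_rc_17_3 lc_f_rc_14_1 lc_f_rc_10_3 lc_f_rc_5_1 lc_f_rc_20_1 lc_f_rc_17_3 lc_f_rc_5_3 lc_f_rc_17_3 lc_f_rc_19_3 lc_f_rc_14_1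 lc_f_rc_10_3 lc_f_rc_17_1 lc_f_rc_20_1 lc_f_rc_17_1 lc_f_rc_10_3 lc_f_rc_10_3 lc_f_rc_10_3 lc_f_rc_10_3 lc_f_rc_17_3 lc_f_rc_21_1 lc_f_rc_22_1 lc_f_rc_17_3 lc_f_rc_17_3 lc_f_rc_10_3 lc_f_rc_10_3 lc_f_rc_17_3 lc_f_rc_17_3 lc_f_rc_14_3 lc_f_rc_20_1 lc_f_rc_19_1 lc_f_rc_19_1 lc_f_rc_14_3 lc_f_rc_21_1 lc_f_rc_20_1 lc_f_rc_5_1 lc_f_rc_20_1 lc_f_rc_20_1 lc_f_rc_21_1 lc_f_rc_14_3 lc_f_rc_10_3 lc_f_rc_21_1 lc_f_rc_17_1 lc_f_rc_20_1 lc_f_rc_10_3 lc_f_rc_14_1 lc_f_rc_17_3 lc_f_rc_17_3 lc_f_rc_21_1 lc_f_rc_10_3 lc_f_rc_14_3) (@D3.rec (fun _ => (Cert rels S Gen.f)) lc_f_rc_5_3 lc_f_rc_20_1 lc_f_rc_20_1 lc_f_rc_17_1 lc_f_rc_14_3 lc_f_rc_21_1 lc_f_Cert_tree lc_f_rc_10_3 lc_f_rc_21_1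 lc_f_rc_17_3 lc_f_rc_14_1 lc_f_rc_10_3 lc_f_rc_20_1 lc_f_rc_20_1 lc_f_rc_21_1 lc_f_rc_14_1 lc_f_rc_20_1 lc_f_rc_14_1 lc_f_rc_17_1 lc_f_rc_20_1 lc_f_rc_19_1 lc_f_rc_14_3 lc_f_rc_20_1 lc_f_rc_19_3 lc_f_rc_20_1 lc_f_rc_10_3 lc_f_rc_17_1 lc_f_rc_19_3 lc_f_rc_10_3 lc_f_rc_17_3 lc_f_rc_17_1 lc_f_rc_10_1 lc_f_rc_10_1 lc_f_rc_5_3 lc_f_rc_21_1 lc_f_rc_20_1 lc_f_rc_20_1 lc_f_rc_10_3 lc_f_rc_21_1 lc_f_rc_14_3 lc_f_rc_14_3 lc_f_rc_14_3 lc_f_rc_5_3 lc_f_rc_17_1 lc_f_rc_19_3 lc_f_rc_14_3 lc_f_rc_14_3 lc_f_rc_5_3 lc_f_rc_10_3 lc_f_Cert_tree lc_f_Cert_tree lc_f_rc_20_1 lc_f_rc_10_3 lc_f_rc_5_1 lc_f_rc_5_3 lc_f_rc_10_3 lc_f_rc_10_3 lc_f_rc_10_3 lc_f_rc_10_3 lc_f_rc_17_1 lc_f_rc_14_3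 lc_f_rc_14_3) (@D3.rec (fun _ => (Cert rels S Gen.f)) lc_f_rc_14_1 lc_f_rc_5_3 lc_f_rc_20_1 lc_f_rc_14_3 lc_f_rc_5_1 lc_f_rc_20_1 lc_f_rc_17_1 lc_f_rc_17_3 lc_f_rc_20_1 lc_f_rc_10_3 lc_f_rc_10_3 lc_f_rc_14_3 lc_f_rc_5_1 lc_f_rc_17_3 lc_f_rc_10_3 lc_f_rc_10_3 lc_f_rc_19_5 lc_f_rc_17_3 lc_f_rc_17_3 lc_f_rc_19_1 lc_f_rc_19_3 lc_f_rc_20_1 lc_f_rc_19_5 lc_f_rc_20_1 lc_f_rc_5_1 lc_f_rc_14_3 lc_f_rc_14_3 lc_f_rc_17_3 lc_f_rc_10_3 lc_f_rc_20_1 lc_f_rc_14_3 lc_f_rc_19_3 lc_f_rc_14_3 lc_f_rc_22_1 lc_f_rc_17_1 lc_f_rc_19_3 lc_f_rc_17_3 lc_f_rc_10_3 lc_f_rc_17_3 lc_f_rc_19_5 lc_f_rc_10_1 lc_f_rc_17_3 lc_f_rc_14_3 lc_f_rc_14_3 lc_f_rc_21_1 lc_f_rc_21_1 lc_f_rc_20_1 lc_f_rc_14_1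 lc_f_rc_5_1 lc_f_rc_10_3 lc_f_rc_10_3 lc_f_rc_14_3 lc_f_rc_5_3 lc_f_rc_17_3 lc_f_rc_14_3 lc_f_rc_14_3 lc_f_Cert_tree lc_f_rc_20_1 lc_f_rc_22_1 lc_f_rc_20_1 lc_f_rc_20_1 lc_f_rc_17_1) (@D3.rec (fun _ => (Cert rels S Gen.f)) lc_f_rc_17_3 lc_f_rc_20_1 lc_f_rc_19_3 lc_f_rc_10_3 lc_f_rc_14_3 lc_f_rc_17_3 lc_f_rc_14_3 lc_f_rc_14_3 lc_f_rc_5_1 lc_f_rc_14_1 lc_f_Cert_tree lc_f_rc_21_1 lc_f_Cert_tree lc_f_rc_20_1 lc_f_rc_17_3 lc_f_rc_10_1 lc_f_rc_17_3 lc_f_Cert_tree lc_f_rc_14_3 lc_f_rc_21_1 lc_f_rc_17_1 lc_f_rc_20_1 lc_f_rc_10_3 lc_f_rc_17_3 lc_f_rc_10_3 lc_f_rc_17_3 lc_f_rc_10_3 lc_f_Cert_tree lc_f_rc_20_1 lc_f_rc_19_5 lc_f_rc_17_3 lc_f_rc_19_3 lc_f_rc_10_3 lc_f_rc_17_3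 lc_f_rc_14_3 lc_f_rc_17_3 lc_f_rc_20_1 lc_f_rc_10_3 lc_f_rc_19_3 lc_f_rc_17_3 lc_f_rc_21_1 lc_f_rc_14_3 lc_f_rc_22_1 lc_f_rc_19_1 lc_f_rc_14_3 lc_f_rc_20_1 lc_f_rc_21_1 lc_f_rc_20_1 lc_f_rc_10_1 lc_f_rc_10_3 lc_f_rc_14_3 lc_f_rc_10_3 lc_f_rc_10_3 lc_f_rc_21_1 lc_f_rc_21_1 lc_f_rc_19_3 lc_f_rc_17_3 lc_f_rc_10_3 lc_f_rc_14_1 lc_f_rc_17_3 lc_f_rc_17_3 lc_f_rc_20_1) (@D3.rec (fun _ => (Cert rels S Gen.f)) lc_f_rc_21_1 lc_f_rc_19_5 lc_f_rc_20_1 lc_f_rc_14_3 lc_f_rc_19_1 lc_f_rc_17_3 lc_f_rc_14_3 lc_f_rc_14_1 lc_f_rc_21_1 lc_f_rc_19_5 lc_f_rc_5_1 lc_f_rc_17_1 lc_f_rc_21_1 lc_f_rc_14_1 lc_f_rc_19_3 lc_f_rc_10_3 lc_f_rc_17_3 lc_f_rc_20_1 lc_f_rc_17_3 lc_f_rc_14_3 lc_f_rc_10_3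 lc_f_rc_17_3 lc_f_rc_20_1 lc_f_rc_22_1 lc_f_rc_14_1 lc_f_Cert_tree lc_f_rc_20_1 lc_f_rc_17_1 lc_f_Cert_tree lc_f_rc_20_1 lc_f_rc_5_1 lc_f_rc_5_1 lc_f_rc_5_1 lc_f_rc_14_1 lc_f_rc_17_1 lc_f_rc_5_1 lc_f_rc_17_3 lc_f_rc_10_3 lc_f_rc_17_3 lc_f_Cert_tree lc_f_rc_21_1 lc_f_rc_10_3 lc_f_rc_20_1 lc_f_rc_14_1 lc_f_rc_5_1 lc_f_rc_14_3 lc_f_rc_17_1 lc_f_rc_17_1 lc_f_rc_19_5 lc_f_rc_14_1 lc_f_rc_17_3 lc_f_rc_14_1 lc_f_rc_21_1 lc_f_rc_20_1 lc_f_rc_5_1 lc_f_rc_14_3 lc_f_rc_17_3 lc_f_rc_5_3 lc_f_rc_14_1 lc_f_rc_22_1 lc_f_rc_20_1 lc_f_rc_10_1) (@D3.rec (fun _ => (Cert rels S Gen.f)) lc_f_rc_20_1 lc_f_rc_10_1 lc_f_rc_14_3 lc_f_Cert_tree lc_f_rc_20_1 lc_f_rc_10_1 lc_f_rc_17_3 lc_f_rc_14_1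 lc_f_rc_10_1 lc_f_rc_17_1 lc_f_rc_17_3 lc_f_rc_14_3 lc_f_rc_20_1 lc_f_rc_20_1 lc_f_rc_10_3 lc_f_rc_5_1 lc_f_rc_21_1 lc_f_rc_10_3 lc_f_rc_21_1 lc_f_rc_14_3 lc_f_rc_20_1 lc_f_rc_10_3 lc_f_rc_17_3 lc_f_rc_14_3 lc_f_rc_22_1 lc_f_rc_19_5 lc_f_rc_17_3 lc_f_rc_19_5 lc_f_rc_21_1 lc_f_rc_5_1 lc_f_rc_14_3 lc_f_rc_14_3 lc_f_rc_17_3 lc_f_rc_19_5 lc_f_Cert_tree lc_f_rc_5_3 lc_f_rc_5_1 lc_f_rc_20_1 lc_f_rc_5_3 lc_f_rc_10_3 lc_f_rc_10_1 lc_f_Cert_tree lc_f_rc_21_1 lc_f_rc_5_3 lc_f_rc_20_1 lc_f_rc_14_3 lc_f_rc_10_3 lc_f_rc_14_3 lc_f_rc_5_1 lc_f_rc_10_1 lc_f_rc_10_1 lc_f_rc_10_3 lc_f_rc_10_1 lc_f_Cert_tree lc_f_rc_19_5 lc_f_rc_19_3 lc_f_rc_20_1 lc_f_rc_20_1 lc_f_rc_21_1 lc_f_rc_14_3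 lc_f_rc_17_3 lc_f_rc_5_1) (@D3.rec (fun _ => (Cert rels S Gen.f)) lc_f_rc_10_3 lc_f_rc_14_3 lc_f_rc_17_3 lc_f_rc_10_3 lc_f_Cert_tree lc_f_rc_21_1 lc_f_rc_17_1 lc_f_rc_14_3 lc_f_rc_14_3 lc_f_rc_5_3 lc_f_Cert_tree lc_f_rc_20_1 lc_f_rc_10_3 lc_f_rc_5_1 lc_f_rc_10_3 lc_f_rc_14_1 lc_f_rc_17_3 lc_f_rc_20_1 lc_f_rc_20_1 lc_f_Cert_tree lc_f_rc_10_3 lc_f_rc_19_3 lc_f_rc_17_3 lc_f_rc_21_1 lc_f_rc_17_3 lc_f_rc_14_3 lc_f_rc_17_3 lc_f_rc_10_3 lc_f_Cert_tree lc_f_rc_10_3 lc_f_rc_19_3 lc_f_rc_14_3 lc_f_rc_14_1 lc_f_rc_10_3 lc_f_rc_20_1 lc_f_rc_10_3 lc_f_rc_17_3 lc_f_rc_10_3 lc_f_rc_17_3 lc_f_rc_19_3 lc_f_rc_17_3 lc_f_rc_21_1 lc_f_rc_10_3 lc_f_rc_14_3 lc_f_rc_10_3 lc_f_rc_17_3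 lc_f_rc_19_5 lc_f_rc_10_3 lc_f_rc_21_1 lc_f_rc_19_3 lc_f_rc_20_1 lc_f_rc_5_1 lc_f_rc_5_3 lc_f_rc_19_3 lc_f_rc_14_3 lc_f_rc_14_3 lc_f_rc_20_1 lc_f_rc_17_3 lc_f_rc_14_3 lc_f_rc_10_3 lc_f_rc_5_1 lc_f_rc_21_1) (@D3.rec (fun _ => (Cert rels S Gen.f)) lc_f_rc_21_1 lc_f_rc_14_3 lc_f_rc_17_1 lc_f_Cert_tree lc_f_rc_14_1 lc_f_rc_21_1 lc_f_rc_20_1 lc_f_rc_10_3 lc_f_rc_22_1 lc_f_rc_14_3 lc_f_rc_21_1 lc_f_rc_21_1 lc_f_rc_20_1 lc_f_rc_21_1 lc_f_rc_14_3 lc_f_rc_20_1 lc_f_Cert_tree lc_f_rc_21_1 lc_f_rc_14_3 lc_f_rc_10_3 lc_f_rc_5_3 lc_f_Cert_tree lc_f_rc_21_1 lc_f_rc_20_1 lc_f_Cert_tree lc_f_rc_10_3 lc_f_rc_17_3 lc_f_rc_20_1 lc_f_rc_21_1 lc_f_rc_20_1 lc_f_rc_20_1 lc_f_rc_5_3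 lc_f_rc_14_3 lc_f_rc_17_1 lc_f_rc_5_3 lc_f_rc_21_1 lc_f_rc_20_1 lc_f_rc_19_5 lc_f_rc_17_3 lc_f_rc_17_3 lc_f_rc_17_3 lc_f_rc_10_3 lc_f_rc_21_1 lc_f_rc_5_3 lc_f_rc_21_1 lc_f_rc_5_3 lc_f_rc_19_5 lc_f_rc_5_3 lc_f_rc_17_3 lc_f_rc_20_1 lc_f_rc_21_1 lc_f_Cert_tree lc_f_rc_14_3 lc_f_rc_21_1 lc_f_Cert_tree lc_f_rc_20_1 lc_f_rc_5_1 lc_f_rc_10_1 lc_f_rc_21_1 lc_f_rc_10_3 lc_f_rc_17_3 lc_f_rc_17_1) (@D3.rec (fun _ => (Cert rels S Gen.f)) lc_f_rc_20_1 lc_f_rc_10_3 lc_f_rc_5_3 lc_f_rc_5_1 lc_f_rc_10_3 lc_f_Cert_tree lc_f_rc_17_3 lc_f_rc_20_1 lc_f_rc_17_3 lc_f_rc_21_1 lc_f_Cert_tree lc_f_rc_5_3 lc_f_rc_17_1 lc_f_rc_20_1 lc_f_rc_17_3 lc_f_rc_17_3 lc_f_rc_22_1 lc_f_rc_20_1 lc_f_rc_14_3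 lc_f_rc_17_3 lc_f_rc_17_3 lc_f_rc_17_3 lc_f_rc_21_1 lc_f_rc_20_1 lc_f_rc_17_3 lc_f_rc_14_3 lc_f_rc_14_1 lc_f_rc_21_1 lc_f_rc_20_1 lc_f_rc_14_1 lc_f_rc_21_1 lc_f_rc_14_3 lc_f_rc_10_3 lc_f_rc_17_3 lc_f_rc_17_3 lc_f_rc_14_1 lc_f_rc_10_3 lc_f_rc_5_1 lc_f_rc_17_3 lc_f_rc_5_3 lc_f_rc_14_3 lc_f_rc_17_3 lc_f_rc_20_1 lc_f_Cert_tree lc_f_rc_21_1 lc_f_rc_20_1 lc_f_rc_17_1 lc_f_rc_21_1 lc_f_rc_10_3 lc_f_rc_14_3 lc_f_rc_17_3 lc_f_rc_21_1 lc_f_rc_5_3 lc_f_rc_17_3 lc_f_rc_20_1 lc_f_rc_17_3 lc_f_rc_17_3 lc_f_rc_21_1 lc_f_rc_17_3 lc_f_rc_5_3 lc_f_rc_10_3 lc_f_rc_10_1) (@D3.rec (fun _ => (Cert rels S Gen.f)) lc_f_rc_10_3 lc_f_rc_19_3 lc_f_rc_19_5 lc_f_rc_17_1 lc_f_rc_20_1 lc_f_rc_19_3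 lc_f_rc_19_3 lc_f_rc_14_3 lc_f_rc_10_3 lc_f_rc_10_3 lc_f_rc_14_3 lc_f_rc_17_3 lc_f_rc_10_3 lc_f_rc_21_1 lc_f_rc_14_1 lc_f_rc_10_3 lc_f_rc_5_3 lc_f_Cert_tree lc_f_rc_14_3 lc_f_Cert_tree lc_f_rc_17_1 lc_f_rc_19_3 lc_f_Cert_tree lc_f_rc_20_1 lc_f_rc_14_1 lc_f_rc_10_3 lc_f_rc_19_3 lc_f_rc_20_1 lc_f_rc_10_3 lc_f_rc_17_3 lc_f_rc_14_1 lc_f_rc_17_3 lc_f_rc_21_1 lc_f_rc_17_3 lc_f_rc_14_1 lc_f_rc_20_1 lc_f_rc_19_3 lc_f_rc_14_3 lc_f_rc_19_3 lc_f_rc_17_3 lc_f_rc_19_3 lc_f_rc_19_5 lc_f_rc_21_1 lc_f_rc_10_3 lc_f_rc_17_3 lc_f_rc_14_3 lc_f_rc_19_5 lc_f_rc_21_1 lc_f_rc_17_3 lc_f_rc_14_3 lc_f_rc_5_1 lc_f_rc_10_3 lc_f_rc_17_3 lc_f_rc_5_1 lc_f_rc_10_3 lc_f_rc_21_1 lc_f_rc_20_1 lc_f_rc_10_1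 lc_f_rc_10_3 lc_f_rc_17_3 lc_f_rc_5_3 lc_f_rc_10_1) (@D3.rec (fun _ => (Cert rels S Gen.f)) lc_f_rc_19_1 lc_f_rc_21_1 lc_f_rc_10_3 lc_f_rc_10_3 lc_f_rc_21_1 lc_f_rc_20_1 lc_f_rc_14_1 lc_f_rc_10_3 lc_f_rc_19_3 lc_f_rc_10_1 lc_f_rc_19_3 lc_f_rc_21_1 lc_f_rc_5_1 lc_f_rc_17_3 lc_f_rc_5_3 lc_f_rc_17_3 lc_f_rc_20_1 lc_f_rc_20_1 lc_f_rc_14_3 lc_f_rc_5_3 lc_f_rc_10_3 lc_f_rc_17_3 lc_f_rc_5_1 lc_f_rc_17_1 lc_f_rc_20_1 lc_f_rc_10_3 lc_f_rc_14_3 lc_f_rc_17_3 lc_f_rc_17_3 lc_f_rc_10_3 lc_f_rc_10_3 lc_f_rc_17_3 lc_f_rc_5_1 lc_f_rc_14_3 lc_f_rc_17_3 lc_f_rc_19_3 lc_f_rc_14_3 lc_f_rc_17_1 lc_f_rc_10_3 lc_f_rc_19_5 lc_f_rc_10_1 lc_f_rc_17_3 lc_f_rc_19_1 lc_f_rc_10_3 lc_f_rc_14_3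 lc_f_rc_21_1 lc_f_rc_20_1 lc_f_rc_17_3 lc_f_rc_10_3 lc_f_rc_19_5 lc_f_rc_17_1 lc_f_rc_14_3 lc_f_rc_20_1 lc_f_rc_5_1 lc_f_rc_21_1 lc_f_rc_5_1 lc_f_rc_21_1 lc_f_rc_5_1 lc_f_rc_17_3 lc_f_rc_5_1 lc_f_rc_19_3 lc_f_rc_17_3) (@D3.rec (fun _ => (Cert rels S Gen.f)) lc_f_rc_14_3 lc_f_rc_10_1 lc_f_rc_19_5 lc_f_rc_19_5 lc_f_Cert_tree lc_f_rc_20_1 lc_f_rc_10_1 lc_f_rc_19_3 lc_f_rc_21_1 lc_f_rc_21_1 lc_f_rc_10_3 lc_f_rc_17_3 lc_f_rc_17_3 lc_f_rc_19_1 lc_f_rc_22_1 lc_f_rc_21_1 lc_f_rc_10_1 lc_f_rc_20_1 lc_f_rc_17_3 lc_f_rc_19_1 lc_f_rc_19_1 lc_f_rc_5_3 lc_f_rc_20_1 lc_f_rc_17_1 lc_f_rc_14_3 lc_f_rc_14_1 lc_f_rc_5_3 lc_f_rc_10_1 lc_f_rc_22_1 lc_f_rc_14_3 lc_f_rc_19_3 lc_f_rc_17_3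 lc_f_rc_5_3 lc_f_rc_10_3 lc_f_rc_10_3 lc_f_rc_14_1 lc_f_rc_17_3 lc_f_rc_10_3 lc_f_rc_17_3 lc_f_rc_20_1 lc_f_rc_10_3 lc_f_rc_20_1 lc_f_rc_20_1 lc_f_rc_20_1 lc_f_rc_19_1 lc_f_rc_17_1 lc_f_rc_10_3 lc_f_rc_14_3 lc_f_rc_10_3 lc_f_rc_5_3 lc_f_rc_22_1 lc_f_rc_14_1 lc_f_rc_20_1 lc_f_rc_17_3 lc_f_rc_14_1 lc_f_rc_10_3 lc_f_rc_19_3 lc_f_rc_17_1 lc_f_rc_5_1 lc_f_rc_10_3 lc_f_rc_22_1 lc_f_rc_14_3) (@D3.rec (fun _ => (Cert rels S Gen.f)) lc_f_rc_20_1 lc_f_rc_17_1 lc_f_rc_10_3 lc_f_rc_20_1 lc_f_rc_22_1 lc_f_rc_20_1 lc_f_rc_17_3 lc_f_rc_10_3 lc_f_rc_14_3 lc_f_rc_17_3 lc_f_rc_5_3 lc_f_rc_5_3 lc_f_rc_17_3 lc_f_rc_14_1 lc_f_rc_14_3 lc_f_rc_20_1 lc_f_rc_14_3 lc_f_rc_17_1 lc_f_rc_19_3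 lc_f_rc_14_3 lc_f_rc_17_3 lc_f_rc_17_1 lc_f_rc_10_1 lc_f_rc_5_3 lc_f_rc_17_3 lc_f_rc_17_3 lc_f_rc_19_5 lc_f_rc_20_1 lc_f_rc_10_1 lc_f_rc_19_3 lc_f_rc_21_1 lc_f_rc_21_1 lc_f_rc_14_1 lc_f_rc_5_3 lc_f_rc_20_1 lc_f_rc_17_1 lc_f_rc_10_3 lc_f_rc_19_3 lc_f_rc_10_3 lc_f_rc_20_1 lc_f_rc_17_3 lc_f_rc_10_1 lc_f_rc_14_1 lc_f_rc_5_1 lc_f_rc_14_1 lc_f_rc_5_3 lc_f_rc_17_3 lc_f_rc_10_3 lc_f_rc_19_5 lc_f_rc_20_1 lc_f_rc_20_1 lc_f_Cert_tree lc_f_rc_10_3 lc_f_rc_14_3 lc_f_rc_22_1 lc_f_rc_20_1 lc_f_rc_17_3 lc_f_rc_10_3 lc_f_Cert_tree lc_f_rc_5_3 lc_f_rc_5_3 lc_f_rc_5_3) (@D3.rec (fun _ => (Cert rels S Gen.f)) lc_f_rc_17_1 lc_f_rc_20_1 lc_f_rc_10_1 lc_f_rc_10_3 lc_f_rc_14_1 lc_f_rc_17_3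 lc_f_rc_10_3 lc_f_rc_10_3 lc_f_rc_10_3 lc_f_rc_19_1 lc_f_rc_22_1 lc_f_rc_5_1 lc_f_rc_10_3 lc_f_rc_14_1 lc_f_rc_21_1 lc_f_rc_14_1 lc_f_rc_20_1 lc_f_rc_10_1 lc_f_rc_14_3 lc_f_rc_21_1 lc_f_rc_10_1 lc_f_rc_5_1 lc_f_rc_21_1 lc_f_rc_20_1 lc_f_Cert_tree lc_f_rc_21_1 lc_f_rc_19_5 lc_f_rc_20_1 lc_f_rc_17_3 lc_f_rc_21_1 lc_f_rc_20_1 lc_f_rc_10_3 lc_f_rc_10_3 lc_f_rc_17_3 lc_f_rc_14_3 lc_f_rc_14_3 lc_f_rc_19_5 lc_f_rc_17_3 lc_f_rc_21_1 lc_f_rc_20_1 lc_f_rc_19_3 lc_f_rc_14_1 lc_f_rc_10_3 lc_f_rc_5_3 lc_f_rc_10_3 lc_f_Cert_tree lc_f_rc_14_3 lc_f_Cert_tree lc_f_rc_21_1 lc_f_rc_17_1 lc_f_Cert_tree lc_f_rc_20_1 lc_f_rc_21_1 lc_f_rc_19_1 lc_f_Cert_tree lc_f_rc_20_1 lc_f_rc_10_3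 lc_f_rc_17_3 lc_f_rc_14_3 lc_f_rc_17_3 lc_f_rc_19_3 lc_f_rc_10_3) (@D3.rec (fun _ => (Cert rels S Gen.f)) lc_f_Cert_tree lc_f_rc_20_1 lc_f_rc_14_3 lc_f_rc_10_3 lc_f_rc_17_3 lc_f_rc_10_3 lc_f_rc_21_1 lc_f_rc_19_3 lc_f_rc_14_3 lc_f_Cert_tree lc_f_rc_20_1 lc_f_rc_5_3 lc_f_rc_17_3 lc_f_rc_21_1 lc_f_rc_19_5 lc_f_rc_17_1 lc_f_rc_5_1 lc_f_rc_14_1 lc_f_rc_19_3 lc_f_rc_17_1 lc_f_rc_17_3 lc_f_rc_10_3 lc_f_rc_10_1 lc_f_rc_5_1 lc_f_rc_20_1 lc_f_rc_14_3 lc_f_rc_21_1 lc_f_rc_20_1 lc_f_rc_19_3 lc_f_rc_17_3 lc_f_rc_17_3 lc_f_rc_14_3 lc_f_rc_14_3 lc_f_rc_21_1 lc_f_rc_17_3 lc_f_rc_10_3 lc_f_rc_17_3 lc_f_rc_14_3 lc_f_rc_17_3 lc_f_rc_21_1 lc_f_rc_5_1 lc_f_rc_14_3 lc_f_rc_21_1 lc_f_rc_20_1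 lc_f_rc_5_1 lc_f_rc_20_1 lc_f_rc_17_1 lc_f_rc_17_3 lc_f_rc_22_1 lc_f_rc_14_3 lc_f_rc_10_3 lc_f_rc_19_5 lc_f_rc_20_1 lc_f_rc_14_3 lc_f_rc_14_3 lc_f_rc_5_3 lc_f_rc_17_3 lc_f_rc_21_1 lc_f_rc_17_3 lc_f_rc_5_3 lc_f_rc_21_1 lc_f_rc_17_3) (@D3.rec (fun _ => (Cert rels S Gen.f)) lc_f_rc_17_3 lc_f_rc_17_1 lc_f_rc_5_3 lc_f_rc_10_3 lc_f_Cert_tree lc_f_rc_10_3 lc_f_rc_17_3 lc_f_Cert_tree lc_f_rc_5_3 lc_f_rc_17_1 lc_f_rc_5_1 lc_f_rc_14_3 lc_f_rc_14_3 lc_f_rc_19_5 lc_f_rc_20_1 lc_f_rc_10_1 lc_f_rc_21_1 lc_f_rc_14_1 lc_f_Cert_tree lc_f_rc_20_1 lc_f_rc_10_3 lc_f_rc_21_1 lc_f_rc_5_1 lc_f_rc_17_3 lc_f_Cert_tree lc_f_rc_20_1 lc_f_rc_10_3 lc_f_rc_17_3 lc_f_rc_5_1 lc_f_rc_19_3 lc_f_rc_17_3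 lc_f_rc_14_3 lc_f_rc_5_1 lc_f_rc_5_3 lc_f_rc_17_3 lc_f_rc_10_3 lc_f_rc_20_1 lc_f_rc_17_1 lc_f_rc_14_1 lc_f_Cert_tree lc_f_rc_21_1 lc_f_rc_20_1 lc_f_rc_10_1 lc_f_rc_21_1 lc_f_rc_14_3 lc_f_rc_17_1 lc_f_rc_17_3 lc_f_rc_17_1 lc_f_rc_20_1 lc_f_rc_14_3 lc_f_rc_17_1 lc_f_rc_10_1 lc_f_rc_14_3 lc_f_rc_20_1 lc_f_rc_10_3 lc_f_rc_21_1 lc_f_rc_10_1 lc_f_rc_20_1 lc_f_rc_17_3 lc_f_rc_22_1 lc_f_rc_20_1 lc_f_rc_20_1) (@D3.rec (fun _ => (Cert rels S Gen.f)) lc_f_rc_17_1 lc_f_Cert_tree lc_f_rc_10_3 lc_f_rc_21_1 lc_f_rc_21_1 lc_f_Cert_tree lc_f_rc_10_3 lc_f_rc_21_1 lc_f_rc_10_1 lc_f_rc_19_3 lc_f_rc_17_3 lc_f_rc_10_3 lc_f_rc_5_3 lc_f_rc_17_3 lc_f_Cert_tree lc_f_rc_21_1 lc_f_rc_14_3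 lc_f_rc_20_1 lc_f_rc_20_1 lc_f_rc_14_3 lc_f_rc_10_3 lc_f_rc_5_3 lc_f_rc_10_3 lc_f_rc_10_3 lc_f_rc_20_1 lc_f_rc_17_3 lc_f_Cert_tree lc_f_rc_17_1 lc_f_rc_20_1 lc_f_rc_17_3 lc_f_rc_14_3 lc_f_rc_20_1 lc_f_Cert_tree lc_f_rc_10_1 lc_f_rc_19_3 lc_f_rc_10_3 lc_f_rc_14_1 lc_f_rc_17_3 lc_f_rc_17_3 lc_f_rc_17_3 lc_f_rc_19_1 lc_f_rc_17_3 lc_f_rc_17_3 lc_f_rc_17_1 lc_f_rc_20_1 lc_f_rc_17_1 lc_f_rc_17_3 lc_f_rc_22_1 lc_f_rc_20_1 lc_f_rc_5_3 lc_f_rc_21_1 lc_f_rc_20_1 lc_f_rc_14_3 lc_f_rc_14_3 lc_f_rc_17_3 lc_f_rc_20_1 lc_f_rc_20_1 lc_f_rc_17_3 lc_f_rc_20_1 lc_f_rc_10_1 lc_f_rc_14_1 lc_f_rc_14_3) (@D3.rec (fun _ => (Cert rels S Gen.f)) lc_f_rc_17_1 lc_f_rc_10_3 lc_f_rc_21_1 lc_f_rc_17_1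 lc_f_rc_19_3 lc_f_rc_14_3 lc_f_Cert_tree lc_f_rc_21_1 lc_f_rc_22_1 lc_f_rc_20_1 lc_f_rc_14_1 lc_f_rc_19_3 lc_f_rc_19_3 lc_f_rc_17_1 lc_f_rc_20_1 lc_f_rc_17_3 lc_f_rc_20_1 lc_f_rc_14_3 lc_f_rc_20_1 lc_f_rc_17_1 lc_f_rc_17_3 lc_f_rc_10_1 lc_f_rc_17_1 lc_f_rc_14_1 lc_f_rc_17_3 lc_f_rc_19_3 lc_f_Cert_tree lc_f_rc_20_1 lc_f_rc_14_3 lc_f_rc_21_1 lc_f_rc_17_3 lc_f_rc_10_1 lc_f_rc_20_1 lc_f_rc_21_1 lc_f_Cert_tree lc_f_rc_20_1 lc_f_rc_14_3 lc_f_rc_20_1 lc_f_rc_20_1 lc_f_rc_19_3 lc_f_rc_10_1 lc_f_rc_14_1 lc_f_rc_21_1 lc_f_rc_10_3 lc_f_rc_20_1 lc_f_rc_21_1 lc_f_rc_5_1 lc_f_rc_10_3 lc_f_rc_21_1 lc_f_rc_14_3 lc_f_Cert_tree lc_f_rc_21_1 lc_f_rc_20_1 lc_f_rc_19_3 lc_f_rc_19_5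 lc_f_rc_10_3 lc_f_rc_14_3 lc_f_rc_17_3 lc_f_rc_20_1 lc_f_Cert_tree lc_f_rc_10_3 lc_f_rc_5_3) (@D3.rec (fun _ => (Cert rels S Gen.f)) lc_f_rc_17_3 lc_f_rc_14_3 lc_f_Cert_tree lc_f_rc_20_1 lc_f_rc_20_1 lc_f_rc_14_3 lc_f_rc_5_1 lc_f_rc_17_3 lc_f_rc_14_1 lc_f_rc_20_1 lc_f_rc_17_3 lc_f_rc_20_1 lc_f_rc_10_1 lc_f_rc_17_3 lc_f_rc_14_1 lc_f_rc_10_1 lc_f_rc_14_1 lc_f_rc_20_1 lc_f_rc_19_3 lc_f_rc_20_1 lc_f_rc_14_3 lc_f_rc_14_3 lc_f_rc_17_1 lc_f_rc_5_1 lc_f_rc_10_3 lc_f_rc_21_1 lc_f_rc_20_1 lc_f_rc_5_1 lc_f_rc_19_3 lc_f_rc_10_3 lc_f_rc_17_3 lc_f_rc_14_3 lc_f_rc_14_1 lc_f_rc_20_1 lc_f_rc_14_3 lc_f_rc_19_3 lc_f_rc_5_1 lc_f_rc_21_1 lc_f_rc_21_1 lc_f_rc_19_1 lc_f_rc_14_3 lc_f_rc_14_3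 lc_f_rc_5_1 lc_f_rc_20_1 lc_f_rc_10_3 lc_f_rc_14_1 lc_f_rc_21_1 lc_f_rc_10_3 lc_f_rc_19_3 lc_f_rc_20_1 lc_f_rc_20_1 lc_f_rc_19_1 lc_f_rc_22_1 lc_f_rc_14_3 lc_f_rc_5_3 lc_f_rc_21_1 lc_f_rc_17_3 lc_f_rc_19_5 lc_f_rc_10_3 lc_f_rc_17_3 lc_f_rc_20_1 lc_f_rc_10_3) (@D3.rec (fun _ => (Cert rels S Gen.f)) lc_f_rc_20_1 lc_f_rc_21_1 lc_f_rc_5_3 lc_f_rc_20_1 lc_f_rc_14_3 lc_f_rc_10_3 lc_f_rc_17_3 lc_f_Cert_tree lc_f_rc_17_3 lc_f_rc_14_3 lc_f_rc_5_1 lc_f_rc_20_1 lc_f_rc_10_3 lc_f_rc_14_3 lc_f_rc_21_1 lc_f_rc_20_1 lc_f_rc_10_3 lc_f_rc_19_3 lc_f_rc_20_1 lc_f_rc_21_1 lc_f_rc_10_3 lc_f_rc_21_1 lc_f_rc_20_1 lc_f_Cert_tree lc_f_rc_20_1 lc_f_rc_17_1 lc_f_rc_10_1 lc_f_rc_17_1 lc_f_rc_17_3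 lc_f_rc_14_1 lc_f_rc_10_3 lc_f_rc_17_3 lc_f_rc_5_3 lc_f_rc_17_3 lc_f_rc_17_1 lc_f_rc_10_3 lc_f_rc_14_1 lc_f_rc_17_3 lc_f_rc_20_1 lc_f_rc_21_1 lc_f_rc_20_1 lc_f_rc_5_3 lc_f_rc_17_3 lc_f_rc_17_3 lc_f_rc_14_3 lc_f_rc_17_3 lc_f_rc_19_3 lc_f_rc_21_1 lc_f_rc_21_1 lc_f_rc_14_3 lc_f_rc_14_3 lc_f_rc_10_3 lc_f_Cert_tree lc_f_rc_14_3 lc_f_rc_14_3 lc_f_Cert_tree lc_f_rc_20_1 lc_f_rc_21_1 lc_f_rc_17_3 lc_f_rc_14_3 lc_f_rc_5_3 lc_f_rc_17_3) (@D3.rec (fun _ => (Cert rels S Gen.f)) lc_f_Cert_tree lc_f_rc_19_1 lc_f_rc_17_1 lc_f_rc_20_1 lc_f_rc_5_3 lc_f_rc_20_1 lc_f_Cert_tree lc_f_Cert_tree lc_f_rc_20_1 lc_f_rc_20_1 lc_f_rc_20_1 lc_f_rc_10_3 lc_f_rc_17_1 lc_f_rc_21_1 lc_f_rc_17_1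 lc_f_rc_14_1 lc_f_rc_10_3 lc_f_rc_17_3 lc_f_rc_19_3 lc_f_rc_10_3 lc_f_rc_19_1 lc_f_rc_20_1 lc_f_rc_17_3 lc_f_rc_14_3 lc_f_rc_14_3 lc_f_rc_5_3 lc_f_rc_19_3 lc_f_rc_20_1 lc_f_rc_5_3 lc_f_rc_20_1 lc_f_rc_17_1 lc_f_rc_20_1 lc_f_rc_21_1 lc_f_rc_17_3 lc_f_rc_10_3 lc_f_rc_5_3 lc_f_rc_14_1 lc_f_rc_5_3 lc_f_rc_19_5 lc_f_rc_21_1 lc_f_rc_10_1 lc_f_rc_14_1 lc_f_rc_14_1 lc_f_rc_17_3 lc_f_rc_10_3 lc_f_rc_19_5 lc_f_rc_17_1 lc_f_rc_21_1 lc_f_rc_14_1 lc_f_rc_10_3 lc_f_rc_10_3 lc_f_rc_17_3 lc_f_rc_19_5 lc_f_rc_17_3 lc_f_rc_10_3 lc_f_rc_5_1 lc_f_rc_5_3 lc_f_rc_10_3 lc_f_rc_10_3 lc_f_rc_14_3 lc_f_rc_17_3 lc_f_rc_19_3) (@D3.rec (fun _ => (Cert rels S Gen.f)) lc_f_rc_10_3 lc_f_rc_5_1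 lc_f_rc_5_1 lc_f_rc_10_3 lc_f_rc_17_3 lc_f_rc_5_1 lc_f_rc_20_1 lc_f_rc_20_1 lc_f_rc_10_3 lc_f_rc_21_1 lc_f_rc_17_1 lc_f_rc_19_3 lc_f_rc_10_1 lc_f_rc_17_1 lc_f_rc_19_3 lc_f_rc_17_3 lc_f_rc_21_1 lc_f_rc_19_3 lc_f_rc_10_3 lc_f_rc_20_1 lc_f_rc_17_3 lc_f_rc_20_1 lc_f_rc_17_1 lc_f_rc_10_3 lc_f_rc_10_3 lc_f_rc_21_1 lc_f_rc_14_3 lc_f_rc_21_1 lc_f_rc_14_3 lc_f_Cert_tree lc_f_rc_14_3 lc_f_rc_20_1 lc_f_rc_5_1 lc_f_rc_14_1 lc_f_rc_5_3 lc_f_rc_17_3 lc_f_rc_20_1 lc_f_rc_5_1 lc_f_rc_14_3 lc_f_rc_19_5 lc_f_rc_17_3 lc_f_rc_14_3 lc_f_rc_14_3 lc_f_rc_19_3 lc_f_rc_5_1 lc_f_rc_10_3 lc_f_rc_5_1 lc_f_rc_17_3 lc_f_Cert_tree lc_f_rc_21_1 lc_f_Cert_tree lc_f_rc_20_1 lc_f_rc_10_3 lc_f_rc_14_3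 lc_f_rc_14_3 lc_f_rc_20_1 lc_f_rc_10_3 lc_f_rc_17_1 lc_f_rc_17_1 lc_f_rc_17_3 lc_f_rc_17_1 lc_f_rc_10_3) (@D3.rec (fun _ => (Cert rels S Gen.f)) lc_f_Cert_tree lc_f_rc_20_1 lc_f_rc_10_3 lc_f_rc_17_3 lc_f_rc_17_3 lc_f_rc_10_3 lc_f_rc_5_1 lc_f_rc_5_3 lc_f_rc_17_3 lc_f_rc_14_1 lc_f_Cert_tree lc_f_rc_17_3 lc_f_rc_21_1 lc_f_rc_10_3 lc_f_rc_21_1 lc_f_rc_14_3 lc_f_rc_14_3 lc_f_rc_5_1 lc_f_Cert_tree lc_f_rc_17_3 lc_f_rc_21_1 lc_f_rc_17_3 lc_f_Cert_tree lc_f_rc_10_3 lc_f_rc_19_5 lc_f_Cert_tree lc_f_rc_20_1 lc_f_rc_17_3 lc_f_rc_20_1 lc_f_rc_10_3 lc_f_rc_22_1 lc_f_rc_20_1 lc_f_rc_10_3 lc_f_rc_17_1 lc_f_rc_17_3 lc_f_rc_17_3 lc_f_rc_20_1 lc_f_rc_17_3 lc_f_rc_21_1 lc_f_rc_14_3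 lc_f_rc_19_5 lc_f_rc_19_3 lc_f_rc_17_3 lc_f_rc_19_3 lc_f_rc_17_3 lc_f_rc_10_3 lc_f_rc_14_3 lc_f_rc_14_1 lc_f_rc_17_3 lc_f_rc_10_3 lc_f_Cert_tree lc_f_rc_20_1 lc_f_rc_17_1 lc_f_rc_14_1 lc_f_rc_21_1 lc_f_rc_20_1 lc_f_rc_20_1 lc_f_rc_21_1 lc_f_Cert_tree lc_f_rc_20_1 lc_f_rc_14_3 lc_f_rc_5_1) (@D3.rec (fun _ => (Cert rels S Gen.f)) lc_f_rc_17_3 lc_f_rc_21_1 lc_f_rc_17_3 lc_f_rc_17_3 lc_f_rc_20_1 lc_f_rc_17_1 lc_f_rc_10_3 lc_f_rc_14_3 lc_f_rc_10_1 lc_f_rc_19_5 lc_f_rc_21_1 lc_f_rc_20_1 lc_f_rc_19_5 lc_f_rc_21_1 lc_f_rc_20_1 lc_f_rc_17_3 lc_f_Cert_tree lc_f_rc_20_1 lc_f_rc_14_1 lc_f_rc_10_1 lc_f_Cert_tree lc_f_rc_5_3 lc_f_rc_10_1 lc_f_rc_5_3 lc_f_rc_20_1 lc_f_rc_22_1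 lc_f_Cert_tree lc_f_rc_20_1 lc_f_rc_5_1 lc_f_rc_10_3 lc_f_rc_22_1 lc_f_rc_19_3 lc_f_rc_17_3 lc_f_rc_14_3 lc_f_rc_19_5 lc_f_rc_10_3 lc_f_rc_10_1 lc_f_rc_10_1 lc_f_rc_14_1 lc_f_Cert_tree lc_f_rc_20_1 lc_f_rc_19_5 lc_f_rc_21_1 lc_f_rc_20_1 lc_f_rc_22_1 lc_f_rc_17_3 lc_f_rc_19_3 lc_f_rc_5_3 lc_f_rc_10_3 lc_f_rc_20_1 lc_f_rc_14_3 lc_f_rc_17_1 lc_f_rc_10_3 lc_f_rc_19_1 lc_f_rc_17_3 lc_f_rc_21_1 lc_f_rc_17_3 lc_f_rc_10_1 lc_f_rc_14_1 lc_f_rc_17_3 lc_f_rc_10_3 lc_f_rc_17_3) (@D3.rec (fun _ => (Cert rels S Gen.f)) lc_f_rc_17_3 lc_f_rc_10_3 lc_f_rc_21_1 lc_f_rc_5_1 lc_f_rc_14_3 lc_f_rc_14_3 lc_f_rc_14_3 lc_f_rc_17_3 lc_f_rc_5_3 lc_f_rc_17_3 lc_f_rc_21_1 lc_f_rc_14_3 lc_f_rc_20_1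 lc_f_rc_14_3 lc_f_rc_19_5 lc_f_rc_5_3 lc_f_rc_19_3 lc_f_rc_17_3 lc_f_rc_21_1 lc_f_rc_17_1 lc_f_rc_19_3 lc_f_rc_17_3 lc_f_rc_10_3 lc_f_rc_17_3 lc_f_rc_14_3 lc_f_rc_21_1 lc_f_rc_17_1 lc_f_rc_19_1 lc_f_rc_21_1 lc_f_rc_19_3 lc_f_rc_5_3 lc_f_rc_19_1 lc_f_rc_17_3 lc_f_rc_17_1 lc_f_rc_21_1 lc_f_rc_17_1 lc_f_rc_20_1 lc_f_rc_14_3 lc_f_rc_20_1 lc_f_rc_10_3 lc_f_rc_17_3 lc_f_rc_17_3 lc_f_rc_20_1 lc_f_rc_17_1 lc_f_rc_14_1 lc_f_rc_10_3 lc_f_rc_20_1 lc_f_rc_21_1 lc_f_rc_10_3 lc_f_rc_14_1 lc_f_rc_10_3 lc_f_rc_17_3 lc_f_rc_20_1 lc_f_rc_10_3 lc_f_rc_19_1 lc_f_rc_22_1 lc_f_rc_21_1 lc_f_rc_14_1 lc_f_rc_17_1 lc_f_rc_19_3 lc_f_rc_19_5 lc_f_rc_14_1) (@D3.rec (fun _ => (Cert rels S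 Gen.f)) lc_f_rc_20_1 lc_f_rc_19_1 lc_f_rc_19_1 lc_f_Cert_tree lc_f_rc_20_1 lc_f_rc_17_1 lc_f_rc_5_1 lc_f_rc_14_3 lc_f_rc_20_1 lc_f_rc_10_3 lc_f_rc_20_1 lc_f_rc_19_3 lc_f_rc_21_1 lc_f_rc_21_1 lc_f_rc_20_1 lc_f_rc_20_1 lc_f_rc_22_1 lc_f_rc_19_3 lc_f_rc_19_5 lc_f_rc_10_1 lc_f_rc_20_1 lc_f_rc_21_1 lc_f_rc_10_3 lc_f_rc_22_1 lc_f_rc_10_3 lc_f_rc_10_3 lc_f_rc_5_1 lc_f_rc_5_3 lc_f_Cert_tree lc_f_rc_5_1 lc_f_rc_19_3 lc_f_rc_5_3 lc_f_rc_21_1 lc_f_rc_5_3 lc_f_rc_20_1 lc_f_rc_10_3 lc_f_rc_10_1 lc_f_rc_10_3 lc_f_rc_5_3 lc_f_rc_17_1 lc_f_rc_17_3 lc_f_rc_14_1 lc_f_rc_14_3 lc_f_rc_14_3 lc_f_rc_17_3 lc_f_rc_5_3 lc_f_rc_10_3 lc_f_rc_19_5 lc_f_rc_19_1 lc_f_rc_17_1 lc_f_rc_22_1 lc_f_rc_14_1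 lc_f_rc_17_3 lc_f_rc_19_5 lc_f_rc_20_1 lc_f_rc_20_1 lc_f_rc_14_3 lc_f_rc_5_1 lc_f_rc_14_3 lc_f_rc_10_1 lc_f_rc_17_1 lc_f_rc_20_1) (@D3.rec (fun _ => (Cert rels S Gen.f)) lc_f_rc_5_3 lc_f_rc_20_1 lc_f_rc_17_3 lc_f_rc_10_3 lc_f_rc_17_3 lc_f_rc_10_3 lc_f_rc_10_3 lc_f_Cert_tree lc_f_rc_17_3 lc_f_rc_5_1 lc_f_rc_17_3 lc_f_rc_14_3 lc_f_rc_10_3 lc_f_rc_14_1 lc_f_rc_5_3 lc_f_rc_17_3 lc_f_rc_21_1 lc_f_rc_14_3 lc_f_rc_17_1 lc_f_rc_17_3 lc_f_Cert_tree lc_f_rc_17_3 lc_f_Cert_tree lc_f_rc_14_3 lc_f_rc_14_1 lc_f_rc_20_1 lc_f_rc_19_5 lc_f_rc_20_1 lc_f_rc_21_1 lc_f_rc_10_1 lc_f_rc_5_3 lc_f_rc_5_1 lc_f_rc_14_3 lc_f_rc_10_3 lc_f_rc_10_3 lc_f_rc_5_1 lc_f_rc_14_3 lc_f_rc_5_3 lc_f_rc_17_3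 lc_f_rc_14_1 lc_f_rc_17_3 lc_f_rc_14_3 lc_f_rc_5_1 lc_f_rc_10_3 lc_f_rc_5_3 lc_f_rc_10_3 lc_f_rc_21_1 lc_f_rc_5_1 lc_f_rc_10_3 lc_f_rc_5_3 lc_f_rc_17_3 lc_f_rc_19_3 lc_f_rc_5_3 lc_f_rc_20_1 lc_f_rc_14_3 lc_f_Cert_tree lc_f_Cert_tree lc_f_rc_17_3 lc_f_rc_20_1 lc_f_rc_20_1 lc_f_rc_10_3 lc_f_rc_19_5) (@D3.rec (fun _ => (Cert rels S Gen.f)) lc_f_rc_19_1 lc_f_rc_17_3 lc_f_rc_10_1 lc_f_rc_14_1 lc_f_rc_14_1 lc_f_rc_19_3 lc_f_rc_20_1 lc_f_rc_19_3 lc_f_rc_10_3 lc_f_rc_10_3 lc_f_rc_10_3 lc_f_rc_17_3 lc_f_rc_20_1 lc_f_rc_10_3 lc_f_rc_17_3 lc_f_rc_10_3 lc_f_rc_5_1 lc_f_rc_5_3 lc_f_rc_10_3 lc_f_rc_20_1 lc_f_rc_20_1 lc_f_rc_21_1 lc_f_rc_20_1 lc_f_rc_5_1 lc_f_rc_14_3 lc_f_rc_5_3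 lc_f_rc_10_1 lc_f_rc_17_1 lc_f_rc_20_1 lc_f_rc_5_1 lc_f_rc_5_3 lc_f_rc_20_1 lc_f_rc_10_3 lc_f_rc_17_1 lc_f_rc_5_3 lc_f_rc_10_3 lc_f_rc_19_5 lc_f_rc_17_3 lc_f_rc_19_3 lc_f_rc_20_1 lc_f_rc_10_3 lc_f_rc_5_3 lc_f_rc_20_1 lc_f_rc_10_1 lc_f_rc_14_1 lc_f_Cert_tree lc_f_rc_19_3 lc_f_rc_20_1 lc_f_rc_20_1 lc_f_rc_14_1 lc_f_rc_20_1 lc_f_rc_5_3 lc_f_rc_19_5 lc_f_rc_10_1 lc_f_rc_20_1 lc_f_rc_21_1 lc_f_rc_10_3 lc_f_rc_20_1 lc_f_rc_19_3 lc_f_rc_21_1 lc_f_rc_10_1 lc_f_rc_17_3) (@D3.rec (fun _ => (Cert rels S Gen.f)) lc_f_rc_10_3 lc_f_rc_10_3 lc_f_rc_17_1 lc_f_rc_10_3 lc_f_rc_17_3 lc_f_rc_21_1 lc_f_rc_20_1 lc_f_rc_14_1 lc_f_rc_14_3 lc_f_rc_14_1 lc_f_rc_5_1 lc_f_rc_17_3 lc_f_rc_10_3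 lc_f_rc_10_1 lc_f_Cert_tree lc_f_rc_20_1 lc_f_rc_20_1 lc_f_rc_21_1 lc_f_rc_17_1 lc_f_rc_10_3 lc_f_Cert_tree lc_f_rc_17_1 lc_f_rc_10_3 lc_f_rc_5_1 lc_f_rc_17_1 lc_f_Cert_tree lc_f_rc_10_3 lc_f_rc_10_3 lc_f_rc_17_1 lc_f_rc_21_1 lc_f_rc_17_3 lc_f_rc_5_1 lc_f_rc_10_1 lc_f_rc_21_1 lc_f_rc_14_3 lc_f_rc_19_3 lc_f_rc_21_1 lc_f_rc_17_1 lc_f_rc_20_1 lc_f_rc_21_1 lc_f_rc_10_3 lc_f_rc_10_3 lc_f_rc_19_5 lc_f_rc_14_3 lc_f_rc_17_3 lc_f_rc_5_1 lc_f_rc_14_3 lc_f_rc_10_3 lc_f_rc_21_1 lc_f_rc_17_3 lc_f_rc_20_1 lc_f_rc_10_3 lc_f_rc_5_1 lc_f_rc_5_1 lc_f_rc_17_1 lc_f_rc_17_3 lc_f_rc_17_3 lc_f_rc_19_3 lc_f_rc_5_3 lc_f_Cert_tree lc_f_rc_5_1 lc_f_rc_17_3) (@D3.rec (fun _ => (Cert rels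 S Gen.f)) lc_f_rc_10_3 lc_f_rc_10_3 lc_f_rc_19_3 lc_f_rc_21_1 lc_f_rc_17_1 lc_f_rc_20_1 lc_f_rc_17_3 lc_f_rc_17_3 lc_f_rc_10_3 lc_f_rc_14_1 lc_f_rc_22_1 lc_f_rc_14_3 lc_f_rc_19_3 lc_f_rc_21_1 lc_f_rc_19_3 lc_f_rc_10_3 lc_f_rc_10_3 lc_f_rc_5_1 lc_f_rc_17_3 lc_f_rc_10_3 lc_f_rc_14_1 lc_f_rc_17_3 lc_f_rc_10_3 lc_f_rc_5_1 lc_f_rc_19_3 lc_f_rc_10_3 lc_f_rc_17_3 lc_f_rc_19_5 lc_f_rc_17_3 lc_f_rc_21_1 lc_f_rc_14_3 lc_f_rc_20_1 lc_f_Cert_tree lc_f_rc_10_3 lc_f_Cert_tree lc_f_rc_10_3 lc_f_Cert_tree lc_f_rc_5_3 lc_f_rc_20_1 lc_f_rc_21_1 lc_f_rc_5_1 lc_f_rc_21_1 lc_f_rc_14_3 lc_f_rc_5_3 lc_f_rc_5_1 lc_f_rc_17_3 lc_f_rc_14_3 lc_f_rc_19_3 lc_f_rc_17_3 lc_f_rc_17_3 lc_f_rc_20_1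 lc_f_rc_10_3 lc_f_rc_14_1 lc_f_rc_17_3 lc_f_rc_14_1 lc_f_rc_5_3 lc_f_rc_19_3 lc_f_rc_14_3 lc_f_rc_10_3 lc_f_rc_17_3 lc_f_rc_19_5 lc_f_rc_17_3) (@D3.rec (fun _ => (Cert rels S Gen.f)) lc_f_rc_17_3 lc_f_rc_10_3 lc_f_rc_14_3 lc_f_rc_10_3 lc_f_rc_21_1 lc_f_rc_17_3 lc_f_Cert_tree lc_f_rc_17_3 lc_f_rc_14_3 lc_f_rc_10_3 lc_f_rc_14_3 lc_f_rc_19_5 lc_f_rc_17_3 lc_f_rc_21_1 lc_f_rc_19_5 lc_f_Cert_tree lc_f_rc_21_1 lc_f_rc_20_1 lc_f_rc_21_1 lc_f_Cert_tree lc_f_rc_20_1 lc_f_rc_19_3 lc_f_rc_5_1 lc_f_rc_5_1 lc_f_rc_20_1 lc_f_rc_14_3 lc_f_rc_17_3 lc_f_rc_17_3 lc_f_rc_20_1 lc_f_rc_21_1 lc_f_rc_10_3 lc_f_rc_5_1 lc_f_rc_19_1 lc_f_rc_10_3 lc_f_rc_17_1 lc_f_Cert_tree lc_f_rc_20_1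 lc_f_rc_17_3 lc_f_rc_20_1 lc_f_rc_19_1 lc_f_rc_17_3 lc_f_rc_5_3 lc_f_rc_14_3 lc_f_rc_22_1 lc_f_rc_14_3 lc_f_rc_17_1 lc_f_rc_14_3 lc_f_rc_17_3 lc_f_rc_10_3 lc_f_rc_14_3 lc_f_rc_19_5 lc_f_rc_10_3 lc_f_rc_20_1 lc_f_rc_19_1 lc_f_rc_19_5 lc_f_rc_19_3 lc_f_rc_10_3 lc_f_rc_17_3 lc_f_rc_10_3 lc_f_rc_17_3 lc_f_rc_17_1 lc_f_rc_14_3) (@D3.rec (fun _ => (Cert rels S Gen.f)) lc_f_rc_14_3 lc_f_rc_10_3 lc_f_rc_5_1 lc_f_rc_20_1 lc_f_rc_17_3 lc_f_rc_10_3 lc_f_rc_17_3 lc_f_rc_14_3 lc_f_rc_19_5 lc_f_rc_17_3 lc_f_rc_21_1 lc_f_rc_10_1 lc_f_rc_19_3 lc_f_rc_20_1 lc_f_rc_10_3 lc_f_rc_17_3 lc_f_rc_17_3 lc_f_rc_17_3 lc_f_rc_14_1 lc_f_rc_20_1 lc_f_rc_21_1 lc_f_rc_10_3 lc_f_rc_17_3 lc_f_rc_21_1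 lc_f_rc_14_3 lc_f_rc_17_3 lc_f_rc_14_3 lc_f_rc_19_3 lc_f_rc_5_3 lc_f_rc_5_3 lc_f_rc_17_3 lc_f_rc_20_1 lc_f_rc_14_3 lc_f_rc_22_1 lc_f_rc_10_3 lc_f_rc_21_1 lc_f_rc_22_1 lc_f_rc_17_3 lc_f_rc_17_3 lc_f_Cert_tree lc_f_rc_20_1 lc_f_rc_10_3 lc_f_rc_21_1 lc_f_rc_20_1 lc_f_rc_10_3 lc_f_rc_20_1 lc_f_rc_20_1 lc_f_rc_14_1 lc_f_rc_10_3 lc_f_rc_19_5 lc_f_rc_20_1 lc_f_rc_10_1 lc_f_rc_21_1 lc_f_rc_17_3 lc_f_rc_21_1 lc_f_rc_21_1 lc_f_rc_20_1 lc_f_rc_17_3 lc_f_rc_17_3 lc_f_rc_10_3 lc_f_rc_5_3 lc_f_rc_10_3) (@D3.rec (fun _ => (Cert rels S Gen.f)) lc_f_rc_10_1 lc_f_rc_22_1 lc_f_rc_14_3 lc_f_rc_20_1 lc_f_rc_14_3 lc_f_Cert_tree lc_f_rc_21_1 lc_f_rc_17_1 lc_f_rc_20_1 lc_f_rc_10_3 lc_f_rc_5_1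 lc_f_rc_21_1 lc_f_rc_17_1 lc_f_rc_17_1 lc_f_rc_20_1 lc_f_rc_10_1 lc_f_rc_19_3 lc_f_rc_20_1 lc_f_rc_5_3 lc_f_rc_21_1 lc_f_rc_5_1 lc_f_rc_21_1 lc_f_rc_17_1 lc_f_rc_20_1 lc_f_rc_17_3 lc_f_rc_10_1 lc_f_rc_20_1 lc_f_rc_19_3 lc_f_rc_21_1 lc_f_rc_10_3 lc_f_rc_21_1 lc_f_rc_14_1 lc_f_rc_5_1 lc_f_rc_5_3 lc_f_rc_20_1 lc_f_rc_5_3 lc_f_Cert_tree lc_f_rc_17_3 lc_f_rc_19_3 lc_f_rc_5_1 lc_f_Cert_tree lc_f_rc_20_1 lc_f_rc_10_3 lc_f_rc_17_3 lc_f_rc_17_1 lc_f_rc_19_3 lc_f_rc_17_3 lc_f_rc_17_1 lc_f_rc_10_1 lc_f_rc_14_3 lc_f_rc_17_3 lc_f_rc_5_3 lc_f_rc_14_3 lc_f_rc_5_3 lc_f_rc_10_1 lc_f_rc_14_3 lc_f_rc_5_3 lc_f_rc_17_3 lc_f_rc_10_3 lc_f_rc_5_3 lc_f_rc_17_3 lc_f_rc_10_1) (@D3.rec (fun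 _ => (Cert rels S Gen.f)) lc_f_rc_22_1 lc_f_rc_19_5 lc_f_rc_20_1 lc_f_rc_21_1 lc_f_rc_20_1 lc_f_rc_20_1 lc_f_rc_14_3 lc_f_rc_17_3 lc_f_rc_10_3 lc_f_rc_5_1 lc_f_rc_14_3 lc_f_rc_19_1 lc_f_rc_17_1 lc_f_rc_19_5 lc_f_rc_10_3 lc_f_rc_17_3 lc_f_rc_20_1 lc_f_rc_17_1 lc_f_rc_17_3 lc_f_rc_17_3 lc_f_Cert_tree lc_f_rc_17_1 lc_f_rc_20_1 lc_f_rc_19_5 lc_f_rc_17_3 lc_f_rc_17_3 lc_f_rc_14_3 lc_f_rc_5_1 lc_f_rc_21_1 lc_f_Cert_tree lc_f_rc_21_1 lc_f_rc_21_1 lc_f_rc_21_1 lc_f_rc_14_3 lc_f_rc_10_1 lc_f_rc_19_5 lc_f_rc_17_3 lc_f_rc_19_3 lc_f_rc_14_3 lc_f_Cert_tree lc_f_rc_10_1 lc_f_rc_14_1 lc_f_Cert_tree lc_f_rc_20_1 lc_f_rc_10_1 lc_f_rc_17_1 lc_f_rc_14_3 lc_f_rc_20_1 lc_f_rc_10_3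 lc_f_rc_10_3 lc_f_rc_19_3 lc_f_rc_5_3 lc_f_rc_5_3 lc_f_rc_20_1 lc_f_rc_5_3 lc_f_rc_10_3 lc_f_rc_17_3 lc_f_rc_10_3 lc_f_rc_17_3 lc_f_rc_10_3 lc_f_rc_17_1 lc_f_rc_19_3) (@D3.rec (fun _ => (Cert rels S Gen.f)) lc_f_rc_14_3 lc_f_rc_21_1 lc_f_rc_17_3 lc_f_rc_14_3 lc_f_rc_14_1 lc_f_rc_14_3 lc_f_Cert_tree lc_f_rc_14_3 lc_f_rc_14_3 lc_f_Cert_tree lc_f_rc_20_1 lc_f_rc_21_1 lc_f_rc_20_1 lc_f_rc_19_3 lc_f_rc_20_1 lc_f_rc_17_3 lc_f_rc_17_3 lc_f_rc_20_1 lc_f_rc_20_1 lc_f_rc_21_1 lc_f_rc_21_1 lc_f_rc_20_1 lc_f_rc_10_3 lc_f_rc_17_3 lc_f_rc_21_1 lc_f_rc_10_3 lc_f_rc_17_3 lc_f_rc_21_1 lc_f_Cert_tree lc_f_Cert_tree lc_f_rc_20_1 lc_f_rc_17_3 lc_f_rc_14_3 lc_f_rc_14_1 lc_f_rc_20_1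 lc_f_Cert_tree lc_f_rc_19_3 lc_f_rc_5_1 lc_f_Cert_tree lc_f_rc_20_1 lc_f_rc_5_3 lc_f_rc_5_1 lc_f_rc_20_1 lc_f_rc_14_3 lc_f_rc_17_3 lc_f_rc_14_3 lc_f_rc_10_3 lc_f_rc_17_3 lc_f_rc_19_3 lc_f_rc_5_1 lc_f_Cert_tree lc_f_rc_19_5 lc_f_rc_10_3 lc_f_rc_19_3 lc_f_rc_17_3 lc_f_rc_20_1 lc_f_Cert_tree lc_f_rc_20_1 lc_f_rc_22_1 lc_f_rc_21_1 lc_f_rc_20_1 lc_f_rc_21_1)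
def ce_f_19 : D2 → D3 → (Cert rels S Gen.f) := @D2.rec (fun _ => D3 → (Cert rels S Gen.f)) (@D3.rec (fun _ => (Cert rels S Gen.f)) lc_f_rc_17_1 lc_f_rc_20_1 lc_f_rc_20_1 lc_f_rc_14_1 lc_f_rc_20_1 lc_f_rc_5_3 lc_f_Cert_tree lc_f_rc_20_1 lc_f_rc_10_3 lc_f_rc_5_3 lc_f_rc_14_3 lc_f_Cert_tree lc_f_rc_19_5 lc_f_Cert_tree lc_f_rc_20_1 lc_f_Cert_tree lc_f_rc_17_1 lc_f_rc_17_3 lc_f_rc_5_1 lc_f_rc_20_1 lc_f_rc_5_3 lc_f_rc_14_3 lc_f_rc_5_1 lc_f_Cert_tree lc_f_rc_20_1 lc_f_rc_20_1 lc_f_rc_19_5 lc_f_rc_10_3 lc_f_rc_14_3 lc_f_rc_10_3 lc_f_rc_22_1 lc_f_rc_20_1 lc_f_rc_20_1 lc_f_rc_19_1 lc_f_rc_14_3 lc_f_rc_5_1 lc_f_rc_14_3 lc_f_rc_10_3 lc_f_rc_14_3 lc_f_rc_17_1 lc_f_rc_10_3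 lc_f_rc_22_1 lc_f_rc_19_5 lc_f_rc_14_3 lc_f_rc_21_1 lc_f_rc_21_1 lc_f_rc_20_1 lc_f_rc_20_1 lc_f_rc_17_1 lc_f_rc_10_3 lc_f_rc_17_3 lc_f_rc_17_3 lc_f_rc_17_3 lc_f_rc_17_3 lc_f_rc_14_3 lc_f_rc_10_3 lc_f_rc_22_1 lc_f_rc_17_3 lc_f_rc_10_3 lc_f_rc_21_1 lc_f_rc_17_3 lc_f_rc_17_3) (@D3.rec (fun _ => (Cert rels S Gen.f)) lc_f_rc_20_1 lc_f_rc_20_1 lc_f_rc_14_3 lc_f_rc_17_3 lc_f_rc_5_1 lc_f_rc_14_3 lc_f_rc_10_3 lc_f_rc_14_3 lc_f_rc_10_3 lc_f_rc_17_1 lc_f_rc_20_1 lc_f_Cert_tree lc_f_rc_17_1 lc_f_rc_10_3 lc_f_rc_17_3 lc_f_rc_19_3 lc_f_rc_14_3 lc_f_Cert_tree lc_f_rc_19_5 lc_f_rc_14_3 lc_f_Cert_tree lc_f_rc_20_1 lc_f_rc_17_1 lc_f_rc_17_3 lc_f_rc_19_3 lc_f_rc_20_1 lc_f_rc_10_3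 lc_f_rc_17_3 lc_f_rc_19_5 lc_f_rc_17_3 lc_f_rc_20_1 lc_f_rc_10_3 lc_f_rc_17_1 lc_f_rc_17_1 lc_f_rc_22_1 lc_f_Cert_tree lc_f_rc_20_1 lc_f_rc_5_3 lc_f_Cert_tree lc_f_rc_20_1 lc_f_rc_21_1 lc_f_Cert_tree lc_f_rc_20_1 lc_f_rc_14_3 lc_f_rc_10_1 lc_f_rc_17_3 lc_f_rc_14_3 lc_f_rc_21_1 lc_f_rc_5_1 lc_f_rc_21_1 lc_f_rc_20_1 lc_f_rc_5_3 lc_f_rc_20_1 lc_f_rc_20_1 lc_f_rc_20_1 lc_f_rc_5_1 lc_f_rc_19_3 lc_f_rc_20_1 lc_f_rc_17_1 lc_f_rc_10_1 lc_f_rc_10_3 lc_f_rc_20_1) (@D3.rec (fun _ => (Cert rels S Gen.f)) lc_f_rc_14_3 lc_f_rc_14_3 lc_f_rc_20_1 lc_f_rc_17_1 lc_f_rc_20_1 lc_f_rc_10_1 lc_f_rc_14_1 lc_f_rc_20_1 lc_f_rc_5_1 lc_f_rc_17_3 lc_f_rc_20_1 lc_f_rc_19_1 lc_f_rc_21_1 lc_f_rc_20_1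 lc_f_rc_5_3 lc_f_rc_19_1 lc_f_rc_17_3 lc_f_rc_17_3 lc_f_rc_20_1 lc_f_rc_21_1 lc_f_rc_14_1 lc_f_rc_19_1 lc_f_rc_20_1 lc_f_rc_21_1 lc_f_Cert_tree lc_f_rc_20_1 lc_f_rc_14_3 lc_f_rc_22_1 lc_f_rc_14_3 lc_f_rc_22_1 lc_f_rc_19_5 lc_f_rc_17_3 lc_f_rc_21_1 lc_f_rc_14_3 lc_f_rc_19_3 lc_f_rc_22_1 lc_f_rc_5_1 lc_f_rc_14_3 lc_f_rc_10_3 lc_f_rc_17_3 lc_f_rc_19_1 lc_f_rc_14_1 lc_f_rc_21_1 lc_f_rc_19_3 lc_f_rc_22_1 lc_f_rc_20_1 lc_f_rc_21_1 lc_f_rc_10_3 lc_f_rc_19_3 lc_f_rc_5_3 lc_f_rc_10_3 lc_f_Cert_tree lc_f_Cert_tree lc_f_rc_5_3 lc_f_rc_20_1 lc_f_rc_5_1 lc_f_rc_10_3 lc_f_rc_5_3 lc_f_rc_17_3 lc_f_Cert_tree lc_f_Cert_tree lc_f_rc_5_1) (@D3.rec (fun _ => (Cert rels S Gen.f))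 lc_f_rc_20_1 lc_f_rc_5_3 lc_f_rc_20_1 lc_f_Cert_tree lc_f_Cert_tree lc_f_rc_19_1 lc_f_rc_20_1 lc_f_rc_19_5 lc_f_rc_10_3 lc_f_Cert_tree lc_f_rc_10_1 lc_f_rc_19_5 lc_f_rc_19_5 lc_f_rc_10_1 lc_f_rc_10_3 lc_f_rc_22_1 lc_f_rc_10_3 lc_f_rc_19_3 lc_f_rc_20_1 lc_f_rc_21_1 lc_f_rc_20_1 lc_f_rc_10_3 lc_f_rc_5_1 lc_f_rc_14_3 lc_f_rc_10_3 lc_f_rc_14_3 lc_f_rc_14_3 lc_f_rc_10_3 lc_f_rc_21_1 lc_f_rc_14_3 lc_f_Cert_tree lc_f_rc_20_1 lc_f_rc_20_1 lc_f_rc_14_3 lc_f_rc_14_3 lc_f_rc_14_3 lc_f_rc_10_3 lc_f_rc_17_3 lc_f_rc_17_3 lc_f_rc_14_3 lc_f_rc_5_1 lc_f_rc_17_3 lc_f_rc_5_1 lc_f_rc_17_3 lc_f_rc_14_3 lc_f_rc_10_3 lc_f_rc_17_1 lc_f_rc_17_1 lc_f_rc_19_1 lc_f_rc_14_3 lc_f_rc_10_3 lc_f_rc_17_3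 lc_f_rc_10_3 lc_f_rc_21_1 lc_f_rc_5_1 lc_f_rc_20_1 lc_f_Cert_tree lc_f_rc_20_1 lc_f_rc_17_3 lc_f_rc_21_1 lc_f_rc_20_1 lc_f_rc_5_3) (@D3.rec (fun _ => (Cert rels S Gen.f)) lc_f_rc_19_3 lc_f_rc_17_3 lc_f_rc_20_1 lc_f_rc_17_3 lc_f_rc_14_3 lc_f_rc_5_1 lc_f_Cert_tree lc_f_rc_14_3 lc_f_rc_14_3 lc_f_rc_14_3 lc_f_rc_20_1 lc_f_rc_10_3 lc_f_Cert_tree lc_f_rc_20_1 lc_f_rc_10_3 lc_f_rc_5_1 lc_f_rc_17_3 lc_f_rc_17_3 lc_f_rc_5_1 lc_f_Cert_tree lc_f_rc_20_1 lc_f_rc_10_3 lc_f_rc_17_3 lc_f_rc_21_1 lc_f_rc_10_1 lc_f_rc_20_1 lc_f_rc_14_3 lc_f_rc_10_3 lc_f_rc_5_3 lc_f_rc_17_3 lc_f_rc_14_3 lc_f_rc_19_3 lc_f_rc_10_3 lc_f_rc_20_1 lc_f_rc_20_1 lc_f_rc_19_3 lc_f_rc_19_5 lc_f_rc_10_3 lc_f_rc_10_3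 lc_f_rc_5_3 lc_f_rc_17_3 lc_f_rc_20_1 lc_f_rc_10_3 lc_f_rc_14_3 lc_f_rc_10_3 lc_f_rc_17_3 lc_f_rc_19_3 lc_f_rc_14_3 lc_f_rc_5_3 lc_f_rc_20_1 lc_f_rc_14_3 lc_f_rc_17_3 lc_f_rc_5_3 lc_f_rc_19_3 lc_f_rc_17_3 lc_f_rc_20_1 lc_f_rc_10_3 lc_f_rc_14_3 lc_f_rc_21_1 lc_f_rc_17_3 lc_f_rc_17_3 lc_f_rc_22_1) (@D3.rec (fun _ => (Cert rels S Gen.f)) lc_f_rc_20_1 lc_f_rc_21_1 lc_f_rc_10_1 lc_f_rc_14_3 lc_f_rc_19_5 lc_f_rc_17_3 lc_f_Cert_tree lc_f_rc_14_3 lc_f_rc_20_1 lc_f_rc_22_1 lc_f_rc_14_3 lc_f_rc_10_3 lc_f_rc_17_3 lc_f_rc_17_3 lc_f_rc_22_1 lc_f_rc_17_3 lc_f_rc_14_3 lc_f_rc_10_3 lc_f_rc_14_3 lc_f_rc_5_3 lc_f_rc_14_3 lc_f_rc_20_1 lc_f_rc_10_1 lc_f_Cert_tree lc_f_rc_20_1 lc_f_rc_22_1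 lc_f_rc_21_1 lc_f_rc_21_1 lc_f_rc_10_3 lc_f_rc_19_5 lc_f_rc_10_3 lc_f_rc_14_3 lc_f_rc_20_1 lc_f_rc_21_1 lc_f_rc_10_3 lc_f_rc_10_3 lc_f_rc_19_3 lc_f_rc_20_1 lc_f_rc_21_1 lc_f_rc_5_3 lc_f_rc_10_3 lc_f_rc_21_1 lc_f_rc_20_1 lc_f_rc_5_3 lc_f_rc_17_3 lc_f_rc_20_1 lc_f_rc_20_1 lc_f_rc_20_1 lc_f_rc_17_1 lc_f_rc_10_1 lc_f_rc_14_1 lc_f_rc_17_1 lc_f_rc_17_1 lc_f_rc_5_3 lc_f_rc_14_3 lc_f_rc_19_3 lc_f_rc_17_3 lc_f_rc_10_3 lc_f_rc_17_1 lc_f_rc_10_3 lc_f_rc_17_1 lc_f_rc_20_1) (@D3.rec (fun _ => (Cert rels S Gen.f)) lc_f_rc_20_1 lc_f_Cert_tree lc_f_rc_22_1 lc_f_rc_19_1 lc_f_rc_5_3 lc_f_rc_17_1 lc_f_Cert_tree lc_f_rc_17_3 lc_f_Cert_tree lc_f_rc_17_3 lc_f_Cert_tree lc_f_rc_17_3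 lc_f_rc_20_1 lc_f_rc_21_1 lc_f_rc_10_1 lc_f_rc_17_3 lc_f_rc_22_1 lc_f_rc_5_1 lc_f_rc_5_3 lc_f_rc_10_1 lc_f_Cert_tree lc_f_Cert_tree lc_f_Cert_tree lc_f_rc_20_1 lc_f_rc_19_5 lc_f_Cert_tree lc_f_rc_17_1 lc_f_rc_20_1 lc_f_rc_17_3 lc_f_rc_21_1 lc_f_rc_17_3 lc_f_rc_17_3 lc_f_rc_10_3 lc_f_rc_21_1 lc_f_rc_17_3 lc_f_rc_14_3 lc_f_rc_10_1 lc_f_Cert_tree lc_f_rc_5_3 lc_f_rc_14_3 lc_f_rc_10_1 lc_f_rc_14_3 lc_f_rc_5_1 lc_f_rc_10_3 lc_f_rc_20_1 lc_f_rc_10_1 lc_f_rc_10_1 lc_f_rc_14_3 lc_f_rc_21_1 lc_f_rc_17_3 lc_f_rc_17_1 lc_f_rc_17_3 lc_f_rc_10_1 lc_f_rc_10_3 lc_f_rc_17_3 lc_f_rc_5_1 lc_f_rc_5_1 lc_f_rc_17_3 lc_f_rc_19_3 lc_f_rc_21_1 lc_f_rc_14_1 lc_f_rc_17_3) (@D3.rec (fun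 _ => (Cert rels S Gen.f)) lc_f_rc_14_1 lc_f_Cert_tree lc_f_rc_20_1 lc_f_rc_5_1 lc_f_rc_5_3 lc_f_rc_10_3 lc_f_rc_10_3 lc_f_rc_14_1 lc_f_rc_21_1 lc_f_rc_14_1 lc_f_rc_22_1 lc_f_rc_14_1 lc_f_rc_17_1 lc_f_rc_21_1 lc_f_rc_20_1 lc_f_rc_10_3 lc_f_rc_21_1 lc_f_rc_21_1 lc_f_rc_10_3 lc_f_rc_17_3 lc_f_rc_19_3 lc_f_rc_21_1 lc_f_rc_19_5 lc_f_rc_19_3 lc_f_rc_20_1 lc_f_rc_10_1 lc_f_rc_21_1 lc_f_rc_19_5 lc_f_rc_21_1 lc_f_rc_20_1 lc_f_rc_14_3 lc_f_rc_21_1 lc_f_rc_17_1 lc_f_rc_21_1 lc_f_rc_17_1 lc_f_rc_10_3 lc_f_rc_5_1 lc_f_rc_10_3 lc_f_rc_5_3 lc_f_rc_10_1 lc_f_rc_14_3 lc_f_rc_17_1 lc_f_rc_20_1 lc_f_rc_17_3 lc_f_rc_20_1 lc_f_rc_5_1 lc_f_rc_14_1 lc_f_rc_14_3 lc_f_rc_14_3 lc_f_rc_10_3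 lc_f_rc_5_1 lc_f_rc_10_1 lc_f_rc_5_1 lc_f_rc_21_1 lc_f_rc_17_3 lc_f_rc_17_3 lc_f_Cert_tree lc_f_rc_14_3 lc_f_rc_14_1 lc_f_rc_10_1 lc_f_Cert_tree lc_f_rc_14_3) (@D3.rec (fun _ => (Cert rels S Gen.f)) lc_f_rc_14_3 lc_f_Cert_tree lc_f_rc_20_1 lc_f_rc_10_3 lc_f_rc_20_1 lc_f_rc_17_3 lc_f_Cert_tree lc_f_rc_22_1 lc_f_rc_17_1 lc_f_rc_22_1 lc_f_rc_20_1 lc_f_rc_14_3 lc_f_rc_17_3 lc_f_rc_10_3 lc_f_rc_17_3 lc_f_rc_5_1 lc_f_rc_21_1 lc_f_Cert_tree lc_f_rc_20_1 lc_f_rc_17_3 lc_f_rc_5_1 lc_f_rc_10_1 lc_f_rc_21_1 lc_f_rc_19_5 lc_f_rc_17_3 lc_f_rc_5_3 lc_f_rc_10_3 lc_f_rc_17_1 lc_f_rc_14_3 lc_f_rc_14_1 lc_f_rc_19_3 lc_f_rc_14_3 lc_f_rc_5_1 lc_f_rc_10_1 lc_f_rc_17_1 lc_f_rc_20_1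 lc_f_rc_21_1 lc_f_Cert_tree lc_f_rc_20_1 lc_f_rc_17_1 lc_f_rc_20_1 lc_f_rc_14_3 lc_f_rc_17_3 lc_f_rc_20_1 lc_f_rc_21_1 lc_f_rc_19_3 lc_f_rc_10_3 lc_f_rc_17_3 lc_f_rc_10_1 lc_f_rc_20_1 lc_f_rc_5_1 lc_f_rc_17_3 lc_f_rc_14_3 lc_f_rc_19_5 lc_f_rc_17_3 lc_f_rc_19_3 lc_f_rc_14_1 lc_f_rc_14_3 lc_f_rc_17_1 lc_f_rc_10_1 lc_f_rc_14_3 lc_f_Cert_tree) (@D3.rec (fun _ => (Cert rels S Gen.f)) lc_f_rc_20_1 lc_f_rc_21_1 lc_f_rc_20_1 lc_f_Cert_tree lc_f_rc_20_1 lc_f_rc_21_1 lc_f_Cert_tree lc_f_rc_20_1 lc_f_rc_14_3 lc_f_rc_10_3 lc_f_rc_14_3 lc_f_rc_17_3 lc_f_rc_10_3 lc_f_rc_22_1 lc_f_rc_5_3 lc_f_Cert_tree lc_f_rc_14_3 lc_f_rc_21_1 lc_f_rc_10_3 lc_f_Cert_tree lc_f_rc_10_3 lc_f_rc_19_1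 lc_f_Cert_tree lc_f_rc_20_1 lc_f_rc_10_1 lc_f_rc_21_1 lc_f_Cert_tree lc_f_rc_20_1 lc_f_Cert_tree lc_f_rc_20_1 lc_f_rc_17_3 lc_f_rc_19_3 lc_f_rc_10_3 lc_f_rc_17_3 lc_f_rc_14_3 lc_f_rc_14_3 lc_f_rc_17_3 lc_f_rc_14_3 lc_f_rc_17_3 lc_f_rc_17_3 lc_f_rc_14_1 lc_f_rc_20_1 lc_f_rc_21_1 lc_f_Cert_tree lc_f_rc_20_1 lc_f_rc_14_3 lc_f_rc_20_1 lc_f_rc_17_3 lc_f_rc_17_1 lc_f_rc_17_3 lc_f_rc_10_3 lc_f_rc_19_1 lc_f_rc_17_3 lc_f_rc_10_3 lc_f_Cert_tree lc_f_rc_17_1 lc_f_rc_14_3 lc_f_Cert_tree lc_f_rc_21_1 lc_f_rc_17_3 lc_f_rc_14_1 lc_f_rc_5_3) (@D3.rec (fun _ => (Cert rels S Gen.f)) lc_f_rc_19_3 lc_f_rc_20_1 lc_f_rc_5_1 lc_f_rc_10_3 lc_f_rc_17_3 lc_f_rc_14_3 lc_f_rc_17_3 lc_f_rc_10_3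 lc_f_rc_5_1 lc_f_rc_14_1 lc_f_rc_17_1 lc_f_rc_21_1 lc_f_rc_10_1 lc_f_Cert_tree lc_f_rc_20_1 lc_f_rc_19_3 lc_f_rc_14_3 lc_f_rc_14_3 lc_f_rc_19_3 lc_f_rc_14_3 lc_f_rc_14_1 lc_f_rc_17_3 lc_f_rc_22_1 lc_f_rc_20_1 lc_f_rc_14_3 lc_f_rc_21_1 lc_f_Cert_tree lc_f_rc_17_3 lc_f_rc_17_3 lc_f_rc_19_5 lc_f_rc_21_1 lc_f_rc_20_1 lc_f_rc_5_1 lc_f_rc_10_3 lc_f_rc_17_3 lc_f_rc_14_3 lc_f_Cert_tree lc_f_rc_20_1 lc_f_rc_5_1 lc_f_rc_21_1 lc_f_rc_14_1 lc_f_rc_10_3 lc_f_rc_21_1 lc_f_rc_17_1 lc_f_rc_17_1 lc_f_rc_21_1 lc_f_rc_10_3 lc_f_rc_14_3 lc_f_rc_20_1 lc_f_rc_5_1 lc_f_rc_14_3 lc_f_rc_10_1 lc_f_rc_17_1 lc_f_rc_20_1 lc_f_rc_19_3 lc_f_rc_5_1 lc_f_rc_10_1 lc_f_rc_5_3 lc_f_rc_20_1 lc_f_rc_20_1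 lc_f_rc_21_1 lc_f_rc_20_1) (@D3.rec (fun _ => (Cert rels S Gen.f)) lc_f_rc_17_3 lc_f_rc_19_3 lc_f_rc_14_1 lc_f_rc_21_1 lc_f_rc_17_1 lc_f_rc_10_3 lc_f_rc_17_3 lc_f_rc_20_1 lc_f_rc_20_1 lc_f_rc_14_3 lc_f_rc_21_1 lc_f_Cert_tree lc_f_rc_5_1 lc_f_rc_20_1 lc_f_rc_14_3 lc_f_rc_14_3 lc_f_rc_14_3 lc_f_rc_5_3 lc_f_Cert_tree lc_f_rc_5_1 lc_f_rc_14_3 lc_f_rc_10_3 lc_f_rc_20_1 lc_f_rc_10_3 lc_f_rc_17_3 lc_f_rc_17_3 lc_f_rc_21_1 lc_f_rc_20_1 lc_f_rc_10_3 lc_f_rc_5_1 lc_f_rc_10_3 lc_f_rc_17_3 lc_f_rc_17_3 lc_f_rc_14_1 lc_f_rc_20_1 lc_f_rc_17_1 lc_f_rc_10_1 lc_f_rc_17_3 lc_f_rc_10_3 lc_f_rc_5_3 lc_f_rc_14_3 lc_f_rc_22_1 lc_f_rc_14_1 lc_f_rc_21_1 lc_f_rc_10_3 lc_f_rc_20_1 lc_f_rc_21_1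 lc_f_rc_17_1 lc_f_rc_20_1 lc_f_rc_10_1 lc_f_rc_17_1 lc_f_rc_10_3 lc_f_rc_17_3 lc_f_rc_17_3 lc_f_rc_17_3 lc_f_rc_5_3 lc_f_rc_10_3 lc_f_rc_17_3 lc_f_rc_17_3 lc_f_rc_19_1 lc_f_rc_10_3 lc_f_rc_17_3) (@D3.rec (fun _ => (Cert rels S Gen.f)) lc_f_rc_17_3 lc_f_rc_10_3 lc_f_Cert_tree lc_f_rc_19_5 lc_f_rc_14_3 lc_f_rc_20_1 lc_f_rc_21_1 lc_f_Cert_tree lc_f_rc_20_1 lc_f_rc_21_1 lc_f_rc_17_3 lc_f_rc_20_1 lc_f_rc_20_1 lc_f_rc_14_3 lc_f_rc_17_3 lc_f_rc_14_3 lc_f_rc_14_3 lc_f_rc_17_3 lc_f_rc_20_1 lc_f_rc_17_3 lc_f_rc_14_1 lc_f_rc_21_1 lc_f_rc_14_3 lc_f_Cert_tree lc_f_rc_19_3 lc_f_rc_21_1 lc_f_rc_10_3 lc_f_rc_14_3 lc_f_rc_21_1 lc_f_rc_20_1 lc_f_rc_20_1 lc_f_rc_22_1 lc_f_rc_17_3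 lc_f_rc_5_3 lc_f_rc_10_3 lc_f_rc_5_3 lc_f_rc_14_3 lc_f_rc_10_3 lc_f_Cert_tree lc_f_rc_20_1 lc_f_rc_5_3 lc_f_rc_17_3 lc_f_Cert_tree lc_f_rc_20_1 lc_f_rc_5_1 lc_f_rc_17_3 lc_f_rc_10_3 lc_f_rc_17_3 lc_f_rc_19_1 lc_f_Cert_tree lc_f_rc_20_1 lc_f_rc_20_1 lc_f_rc_17_3 lc_f_rc_14_1 lc_f_rc_10_1 lc_f_rc_5_3 lc_f_rc_17_3 lc_f_rc_17_3 lc_f_rc_20_1 lc_f_rc_10_3 lc_f_rc_14_3 lc_f_rc_14_3) (@D3.rec (fun _ => (Cert rels S Gen.f)) lc_f_rc_21_1 lc_f_rc_10_3 lc_f_rc_22_1 lc_f_rc_19_5 lc_f_rc_14_1 lc_f_rc_20_1 lc_f_rc_10_3 lc_f_rc_14_3 lc_f_rc_17_3 lc_f_rc_20_1 lc_f_rc_20_1 lc_f_rc_17_3 lc_f_rc_10_3 lc_f_rc_14_3 lc_f_rc_17_1 lc_f_rc_17_3 lc_f_rc_14_3 lc_f_rc_21_1 lc_f_rc_19_5 lc_f_rc_5_1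 lc_f_Cert_tree lc_f_rc_20_1 lc_f_rc_21_1 lc_f_rc_5_3 lc_f_rc_10_3 lc_f_rc_21_1 lc_f_rc_21_1 lc_f_rc_20_1 lc_f_rc_14_3 lc_f_rc_17_3 lc_f_rc_19_3 lc_f_rc_10_1 lc_f_rc_14_1 lc_f_rc_19_3 lc_f_rc_17_3 lc_f_rc_20_1 lc_f_Cert_tree lc_f_rc_10_3 lc_f_rc_17_3 lc_f_rc_17_3 lc_f_rc_21_1 lc_f_Cert_tree lc_f_rc_14_3 lc_f_rc_20_1 lc_f_rc_19_3 lc_f_rc_17_3 lc_f_rc_21_1 lc_f_rc_10_1 lc_f_rc_19_5 lc_f_rc_17_3 lc_f_rc_17_3 lc_f_rc_10_3 lc_f_rc_21_1 lc_f_rc_10_3 lc_f_rc_14_3 lc_f_rc_19_3 lc_f_rc_10_3 lc_f_rc_21_1 lc_f_rc_14_1 lc_f_rc_17_3 lc_f_rc_10_3 lc_f_rc_14_3) (@D3.rec (fun _ => (Cert rels S Gen.f)) lc_f_rc_10_1 lc_f_rc_19_5 lc_f_rc_21_1 lc_f_rc_5_1 lc_f_Cert_tree lc_f_rc_20_1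 lc_f_rc_17_3 lc_f_rc_21_1 lc_f_rc_17_3 lc_f_Cert_tree lc_f_rc_20_1 lc_f_rc_10_3 lc_f_rc_14_1 lc_f_rc_10_1 lc_f_rc_10_3 lc_f_rc_10_3 lc_f_rc_10_3 lc_f_rc_17_3 lc_f_rc_17_3 lc_f_rc_17_1 lc_f_rc_14_1 lc_f_rc_19_3 lc_f_rc_17_1 lc_f_Cert_tree lc_f_rc_19_3 lc_f_rc_10_3 lc_f_rc_20_1 lc_f_rc_14_3 lc_f_rc_5_1 lc_f_rc_19_3 lc_f_rc_17_3 lc_f_rc_14_3 lc_f_rc_10_3 lc_f_rc_5_3 lc_f_rc_5_3 lc_f_rc_5_1 lc_f_rc_19_1 lc_f_rc_5_1 lc_f_rc_19_3 lc_f_rc_10_1 lc_f_rc_17_3 lc_f_rc_14_3 lc_f_rc_19_3 lc_f_rc_17_1 lc_f_rc_19_5 lc_f_Cert_tree lc_f_rc_20_1 lc_f_rc_14_3 lc_f_rc_14_3 lc_f_rc_22_1 lc_f_rc_20_1 lc_f_rc_10_3 lc_f_rc_21_1 lc_f_rc_21_1 lc_f_rc_17_3 lc_f_Cert_tree lc_f_rc_20_1 lc_f_rc_17_3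 lc_f_rc_14_3 lc_f_rc_17_3 lc_f_rc_17_3 lc_f_rc_14_3) (@D3.rec (fun _ => (Cert rels S Gen.f)) lc_f_rc_17_3 lc_f_rc_17_3 lc_f_rc_10_3 lc_f_rc_17_3 lc_f_rc_14_3 lc_f_rc_19_5 lc_f_rc_19_3 lc_f_rc_20_1 lc_f_rc_20_1 lc_f_rc_14_3 lc_f_rc_14_3 lc_f_rc_21_1 lc_f_rc_19_5 lc_f_rc_17_3 lc_f_rc_14_1 lc_f_rc_14_1 lc_f_rc_19_3 lc_f_rc_14_3 lc_f_rc_17_3 lc_f_rc_19_3 lc_f_rc_14_3 lc_f_rc_21_1 lc_f_rc_19_5 lc_f_rc_14_3 lc_f_rc_5_1 lc_f_rc_19_1 lc_f_rc_20_1 lc_f_rc_10_1 lc_f_rc_22_1 lc_f_rc_17_3 lc_f_rc_14_3 lc_f_rc_21_1 lc_f_rc_22_1 lc_f_rc_17_1 lc_f_Cert_tree lc_f_rc_20_1 lc_f_rc_14_1 lc_f_rc_17_1 lc_f_rc_10_3 lc_f_rc_14_3 lc_f_rc_10_3 lc_f_rc_21_1 lc_f_rc_5_3 lc_f_rc_14_1 lc_f_rc_20_1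 lc_f_rc_14_3 lc_f_rc_10_1 lc_f_rc_17_3 lc_f_rc_14_1 lc_f_rc_14_3 lc_f_rc_22_1 lc_f_rc_17_1 lc_f_rc_19_5 lc_f_Cert_tree lc_f_rc_20_1 lc_f_rc_10_1 lc_f_rc_17_3 lc_f_rc_14_3 lc_f_rc_17_3 lc_f_rc_19_5 lc_f_rc_20_1 lc_f_rc_17_3) (@D3.rec (fun _ => (Cert rels S Gen.f)) lc_f_rc_17_3 lc_f_rc_19_5 lc_f_rc_10_3 lc_f_rc_21_1 lc_f_rc_5_3 lc_f_rc_10_1 lc_f_rc_14_3 lc_f_rc_17_1 lc_f_rc_14_3 lc_f_rc_5_1 lc_f_Cert_tree lc_f_rc_17_3 lc_f_rc_14_3 lc_f_rc_17_3 lc_f_rc_14_3 lc_f_rc_5_1 lc_f_Cert_tree lc_f_rc_22_1 lc_f_rc_20_1 lc_f_rc_19_3 lc_f_rc_10_3 lc_f_rc_17_3 lc_f_rc_17_3 lc_f_rc_22_1 lc_f_rc_19_5 lc_f_rc_17_3 lc_f_rc_21_1 lc_f_rc_22_1 lc_f_rc_22_1 lc_f_rc_21_1 lc_f_rc_14_3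 lc_f_rc_17_1 lc_f_rc_5_1 lc_f_rc_14_3 lc_f_rc_10_1 lc_f_rc_17_1 lc_f_rc_19_5 lc_f_rc_10_3 lc_f_rc_19_5 lc_f_rc_5_3 lc_f_rc_20_1 lc_f_rc_17_3 lc_f_rc_20_1 lc_f_rc_17_3 lc_f_rc_20_1 lc_f_rc_5_1 lc_f_rc_20_1 lc_f_rc_10_3 lc_f_rc_10_3 lc_f_rc_21_1 lc_f_rc_17_3 lc_f_rc_17_3 lc_f_rc_17_3 lc_f_rc_5_3 lc_f_rc_17_3 lc_f_rc_10_3 lc_f_rc_19_3 lc_f_rc_20_1 lc_f_rc_14_1 lc_f_rc_17_1 lc_f_rc_14_1 lc_f_rc_22_1) (@D3.rec (fun _ => (Cert rels S Gen.f)) lc_f_rc_19_5 lc_f_rc_14_1 lc_f_rc_19_5 lc_f_rc_10_1 lc_f_rc_17_1 lc_f_rc_14_1 lc_f_rc_19_3 lc_f_rc_19_3 lc_f_rc_19_3 lc_f_rc_14_1 lc_f_rc_14_3 lc_f_rc_17_1 lc_f_rc_20_1 lc_f_rc_10_3 lc_f_rc_14_1 lc_f_rc_10_3 lc_f_rc_20_1 lc_f_rc_14_3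 lc_f_rc_19_5 lc_f_rc_20_1 lc_f_rc_20_1 lc_f_rc_5_3 lc_f_rc_19_5 lc_f_rc_19_3 lc_f_rc_14_1 lc_f_rc_17_3 lc_f_rc_17_3 lc_f_rc_21_1 lc_f_rc_10_3 lc_f_rc_10_3 lc_f_rc_5_3 lc_f_rc_10_3 lc_f_rc_20_1 lc_f_rc_19_3 lc_f_rc_20_1 lc_f_rc_10_3 lc_f_rc_14_1 lc_f_rc_17_1 lc_f_rc_5_3 lc_f_rc_20_1 lc_f_rc_17_1 lc_f_rc_14_1 lc_f_rc_17_3 lc_f_rc_17_3 lc_f_rc_10_3 lc_f_rc_19_1 lc_f_rc_19_3 lc_f_rc_17_3 lc_f_rc_21_1 lc_f_rc_19_5 lc_f_rc_14_3 lc_f_rc_5_3 lc_f_rc_17_3 lc_f_Cert_tree lc_f_rc_14_3 lc_f_rc_10_1 lc_f_rc_14_1 lc_f_rc_20_1 lc_f_rc_14_3 lc_f_rc_19_3 lc_f_rc_20_1 lc_f_rc_21_1) (@D3.rec (fun _ => (Cert rels S Gen.f)) lc_f_Cert_tree lc_f_rc_20_1 lc_f_rc_17_3 lc_f_rc_14_3 lc_f_rc_17_3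 lc_f_rc_22_1 lc_f_Cert_tree lc_f_rc_22_1 lc_f_rc_10_3 lc_f_rc_20_1 lc_f_rc_10_1 lc_f_rc_5_1 lc_f_rc_20_1 lc_f_rc_14_3 lc_f_rc_14_1 lc_f_rc_21_1 lc_f_rc_5_1 lc_f_rc_10_1 lc_f_rc_19_3 lc_f_rc_17_3 lc_f_rc_14_3 lc_f_rc_10_3 lc_f_rc_5_3 lc_f_rc_5_3 lc_f_rc_17_3 lc_f_rc_5_1 lc_f_rc_14_3 lc_f_Cert_tree lc_f_rc_20_1 lc_f_rc_17_3 lc_f_rc_21_1 lc_f_rc_20_1 lc_f_rc_10_3 lc_f_rc_17_3 lc_f_rc_14_3 lc_f_rc_10_3 lc_f_rc_21_1 lc_f_rc_20_1 lc_f_rc_10_3 lc_f_rc_5_3 lc_f_rc_10_1 lc_f_rc_10_3 lc_f_rc_17_3 lc_f_rc_17_3 lc_f_rc_14_3 lc_f_rc_22_1 lc_f_rc_14_1 lc_f_rc_10_3 lc_f_rc_14_3 lc_f_rc_21_1 lc_f_rc_21_1 lc_f_rc_17_1 lc_f_rc_20_1 lc_f_rc_17_3 lc_f_Cert_tree lc_f_rc_17_3 lc_f_rc_14_3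 lc_f_Cert_tree lc_f_rc_10_3 lc_f_rc_5_3 lc_f_rc_5_3 lc_f_rc_10_3) (@D3.rec (fun _ => (Cert rels S Gen.f)) lc_f_rc_5_1 lc_f_rc_5_3 lc_f_rc_19_5 lc_f_rc_5_1 lc_f_rc_17_1 lc_f_rc_5_3 lc_f_rc_17_1 lc_f_rc_10_3 lc_f_rc_19_5 lc_f_rc_14_3 lc_f_rc_22_1 lc_f_rc_21_1 lc_f_rc_17_3 lc_f_rc_14_1 lc_f_rc_14_3 lc_f_rc_17_3 lc_f_rc_21_1 lc_f_rc_10_3 lc_f_rc_14_3 lc_f_rc_10_3 lc_f_rc_17_3 lc_f_rc_21_1 lc_f_Cert_tree lc_f_rc_21_1 lc_f_rc_5_1 lc_f_Cert_tree lc_f_rc_20_1 lc_f_Cert_tree lc_f_rc_20_1 lc_f_rc_10_3 lc_f_rc_10_3 lc_f_rc_10_3 lc_f_rc_17_3 lc_f_rc_5_1 lc_f_rc_14_3 lc_f_rc_14_3 lc_f_rc_22_1 lc_f_rc_17_3 lc_f_rc_14_3 lc_f_rc_10_1 lc_f_rc_14_3 lc_f_rc_14_3 lc_f_rc_14_1 lc_f_rc_5_3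 lc_f_rc_20_1 lc_f_rc_20_1 lc_f_rc_22_1 lc_f_rc_14_3 lc_f_rc_21_1 lc_f_rc_22_1 lc_f_rc_10_1 lc_f_rc_10_3 lc_f_rc_10_3 lc_f_rc_10_1 lc_f_rc_20_1 lc_f_rc_5_3 lc_f_rc_5_3 lc_f_rc_17_3 lc_f_rc_14_3 lc_f_rc_17_3 lc_f_rc_14_3 lc_f_rc_21_1) (@D3.rec (fun _ => (Cert rels S Gen.f)) lc_f_rc_14_1 lc_f_rc_10_3 lc_f_Cert_tree lc_f_rc_20_1 lc_f_rc_20_1 lc_f_rc_21_1 lc_f_rc_14_3 lc_f_rc_14_3 lc_f_rc_17_3 lc_f_rc_19_3 lc_f_rc_10_3 lc_f_rc_17_3 lc_f_rc_17_3 lc_f_rc_14_3 lc_f_rc_21_1 lc_f_rc_21_1 lc_f_rc_21_1 lc_f_rc_17_1 lc_f_rc_10_3 lc_f_rc_22_1 lc_f_rc_22_1 lc_f_rc_10_3 lc_f_rc_14_3 lc_f_rc_20_1 lc_f_rc_21_1 lc_f_Cert_tree lc_f_rc_20_1 lc_f_rc_10_3 lc_f_Cert_tree lc_f_rc_20_1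 lc_f_rc_20_1 lc_f_Cert_tree lc_f_rc_10_3 lc_f_rc_21_1 lc_f_rc_5_3 lc_f_rc_5_3 lc_f_rc_20_1 lc_f_rc_20_1 lc_f_rc_17_1 lc_f_Cert_tree lc_f_rc_14_3 lc_f_rc_5_1 lc_f_rc_5_1 lc_f_rc_20_1 lc_f_rc_10_3 lc_f_rc_20_1 lc_f_rc_14_3 lc_f_rc_17_3 lc_f_rc_17_3 lc_f_rc_19_3 lc_f_rc_17_1 lc_f_rc_14_1 lc_f_rc_14_3 lc_f_rc_20_1 lc_f_rc_22_1 lc_f_Cert_tree lc_f_rc_20_1 lc_f_rc_19_3 lc_f_rc_20_1 lc_f_rc_17_3 lc_f_rc_14_1 lc_f_rc_14_1) (@D3.rec (fun _ => (Cert rels S Gen.f)) lc_f_rc_20_1 lc_f_Cert_tree lc_f_rc_20_1 lc_f_rc_17_3 lc_f_rc_17_3 lc_f_rc_14_3 lc_f_rc_14_3 lc_f_rc_20_1 lc_f_rc_14_3 lc_f_rc_10_3 lc_f_rc_20_1 lc_f_rc_19_3 lc_f_rc_22_1 lc_f_rc_17_3 lc_f_rc_22_1 lc_f_rc_20_1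 lc_f_rc_14_3 lc_f_rc_14_3 lc_f_rc_22_1 lc_f_rc_17_3 lc_f_rc_20_1 lc_f_rc_21_1 lc_f_rc_17_3 lc_f_rc_10_1 lc_f_rc_17_1 lc_f_rc_10_1 lc_f_rc_22_1 lc_f_rc_20_1 lc_f_rc_22_1 lc_f_rc_21_1 lc_f_rc_5_1 lc_f_rc_5_3 lc_f_rc_14_3 lc_f_rc_22_1 lc_f_rc_14_3 lc_f_rc_14_3 lc_f_rc_20_1 lc_f_rc_21_1 lc_f_Cert_tree lc_f_rc_14_3 lc_f_rc_21_1 lc_f_rc_10_3 lc_f_rc_5_1 lc_f_Cert_tree lc_f_rc_21_1 lc_f_rc_14_3 lc_f_rc_20_1 lc_f_rc_20_1 lc_f_rc_10_1 lc_f_rc_17_1 lc_f_rc_10_3 lc_f_rc_22_1 lc_f_rc_10_3 lc_f_rc_17_3 lc_f_rc_14_3 lc_f_rc_17_1 lc_f_rc_10_1 lc_f_rc_17_1 lc_f_rc_17_1 lc_f_rc_22_1 lc_f_rc_20_1 lc_f_rc_17_1) (@D3.rec (fun _ => (Cert rels S Gen.f)) lc_f_rc_17_3 lc_f_rc_17_1 lc_f_rc_20_1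 lc_f_rc_5_1 lc_f_rc_10_3 lc_f_rc_10_3 lc_f_rc_19_5 lc_f_rc_22_1 lc_f_rc_21_1 lc_f_rc_21_1 lc_f_rc_19_3 lc_f_rc_19_1 lc_f_rc_17_3 lc_f_rc_17_1 lc_f_rc_17_1 lc_f_rc_17_1 lc_f_rc_17_3 lc_f_rc_14_1 lc_f_rc_14_3 lc_f_rc_17_1 lc_f_rc_14_1 lc_f_rc_14_1 lc_f_rc_20_1 lc_f_Cert_tree lc_f_rc_21_1 lc_f_rc_10_3 lc_f_rc_14_3 lc_f_rc_14_3 lc_f_rc_20_1 lc_f_rc_20_1 lc_f_rc_22_1 lc_f_rc_22_1 lc_f_rc_17_1 lc_f_Cert_tree lc_f_rc_20_1 lc_f_rc_17_3 lc_f_rc_5_1 lc_f_rc_5_3 lc_f_rc_14_3 lc_f_Cert_tree lc_f_rc_21_1 lc_f_Cert_tree lc_f_rc_20_1 lc_f_rc_19_1 lc_f_rc_21_1 lc_f_Cert_tree lc_f_rc_20_1 lc_f_rc_5_3 lc_f_rc_19_5 lc_f_rc_21_1 lc_f_rc_17_1 lc_f_rc_5_1 lc_f_rc_5_3 lc_f_rc_20_1 lc_f_rc_21_1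 lc_f_rc_21_1 lc_f_rc_10_3 lc_f_rc_10_3 lc_f_rc_10_3 lc_f_rc_21_1 lc_f_rc_14_3 lc_f_rc_21_1) (@D3.rec (fun _ => (Cert rels S Gen.f)) lc_f_rc_21_1 lc_f_rc_19_5 lc_f_rc_22_1 lc_f_rc_14_1 lc_f_rc_10_3 lc_f_rc_10_1 lc_f_rc_17_3 lc_f_rc_17_3 lc_f_rc_17_1 lc_f_rc_22_1 lc_f_rc_19_5 lc_f_rc_14_3 lc_f_rc_19_5 lc_f_rc_14_1 lc_f_rc_10_3 lc_f_rc_10_3 lc_f_rc_20_1 lc_f_rc_20_1 lc_f_rc_17_3 lc_f_rc_10_3 lc_f_rc_10_1 lc_f_rc_20_1 lc_f_rc_17_3 lc_f_rc_19_5 lc_f_rc_17_3 lc_f_rc_10_3 lc_f_rc_14_1 lc_f_rc_10_1 lc_f_rc_19_3 lc_f_rc_17_3 lc_f_rc_17_3 lc_f_rc_21_1 lc_f_rc_14_3 lc_f_rc_17_3 lc_f_rc_19_3 lc_f_rc_14_1 lc_f_rc_17_3 lc_f_rc_21_1 lc_f_rc_10_3 lc_f_rc_14_3 lc_f_rc_5_3 lc_f_rc_17_1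 lc_f_rc_10_3 lc_f_rc_14_3 lc_f_rc_20_1 lc_f_rc_19_5 lc_f_rc_10_3 lc_f_rc_5_1 lc_f_rc_10_1 lc_f_rc_20_1 lc_f_rc_21_1 lc_f_rc_5_3 lc_f_rc_20_1 lc_f_rc_17_1 lc_f_rc_21_1 lc_f_rc_5_3 lc_f_rc_10_3 lc_f_rc_17_3 lc_f_rc_17_3 lc_f_rc_14_3 lc_f_rc_20_1 lc_f_rc_14_3) (@D3.rec (fun _ => (Cert rels S Gen.f)) lc_f_rc_14_3 lc_f_rc_17_3 lc_f_rc_10_3 lc_f_rc_10_1 lc_f_rc_17_3 lc_f_rc_10_3 lc_f_rc_21_1 lc_f_rc_21_1 lc_f_Cert_tree lc_f_rc_20_1 lc_f_rc_14_3 lc_f_rc_21_1 lc_f_rc_14_3 lc_f_rc_21_1 lc_f_rc_20_1 lc_f_rc_20_1 lc_f_rc_14_3 lc_f_rc_17_1 lc_f_rc_19_3 lc_f_Cert_tree lc_f_rc_14_3 lc_f_rc_17_3 lc_f_rc_19_3 lc_f_rc_14_3 lc_f_rc_19_5 lc_f_rc_14_3 lc_f_rc_5_3 lc_f_rc_14_3 lc_f_rc_19_5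 lc_f_rc_10_3 lc_f_rc_14_3 lc_f_rc_14_3 lc_f_rc_17_3 lc_f_Cert_tree lc_f_rc_10_3 lc_f_rc_10_3 lc_f_rc_10_3 lc_f_rc_10_3 lc_f_rc_14_1 lc_f_rc_17_3 lc_f_rc_14_3 lc_f_rc_10_3 lc_f_rc_14_1 lc_f_rc_17_1 lc_f_rc_19_3 lc_f_rc_17_3 lc_f_rc_17_3 lc_f_rc_17_3 lc_f_rc_14_3 lc_f_rc_21_1 lc_f_rc_22_1 lc_f_rc_14_3 lc_f_rc_10_3 lc_f_rc_10_3 lc_f_rc_20_1 lc_f_rc_14_3 lc_f_rc_10_3 lc_f_rc_17_3 lc_f_rc_10_3 lc_f_rc_14_3 lc_f_rc_19_1 lc_f_rc_10_3) (@D3.rec (fun _ => (Cert rels S Gen.f)) lc_f_rc_17_3 lc_f_rc_14_1 lc_f_rc_19_5 lc_f_rc_20_1 lc_f_rc_20_1 lc_f_rc_14_1 lc_f_rc_10_3 lc_f_rc_14_3 lc_f_rc_5_1 lc_f_rc_14_3 lc_f_rc_20_1 lc_f_rc_20_1 lc_f_rc_5_1 lc_f_rc_14_1 lc_f_rc_5_3 lc_f_rc_10_3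 lc_f_rc_17_3 lc_f_rc_10_3 lc_f_rc_5_1 lc_f_rc_19_3 lc_f_rc_17_3 lc_f_rc_21_1 lc_f_rc_14_3 lc_f_rc_14_3 lc_f_rc_19_3 lc_f_rc_5_1 lc_f_rc_17_1 lc_f_rc_19_3 lc_f_rc_21_1 lc_f_rc_5_1 lc_f_rc_20_1 lc_f_rc_14_3 lc_f_rc_5_1 lc_f_rc_10_3 lc_f_rc_17_3 lc_f_rc_21_1 lc_f_Cert_tree lc_f_rc_20_1 lc_f_rc_10_3 lc_f_rc_17_3 lc_f_rc_14_3 lc_f_rc_21_1 lc_f_rc_21_1 lc_f_rc_14_3 lc_f_rc_20_1 lc_f_rc_17_3 lc_f_rc_5_1 lc_f_rc_14_3 lc_f_rc_17_3 lc_f_rc_5_1 lc_f_rc_17_3 lc_f_rc_21_1 lc_f_rc_14_3 lc_f_rc_20_1 lc_f_rc_14_3 lc_f_rc_5_1 lc_f_rc_10_3 lc_f_rc_10_3 lc_f_rc_14_1 lc_f_rc_19_3 lc_f_rc_10_1 lc_f_rc_21_1) (@D3.rec (fun _ => (Cert rels S Gen.f)) lc_f_rc_14_3 lc_f_rc_14_3 lc_f_rc_20_1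 lc_f_rc_10_3 lc_f_rc_17_1 lc_f_rc_10_3 lc_f_rc_10_3 lc_f_rc_10_3 lc_f_rc_14_3 lc_f_rc_14_3 lc_f_rc_17_1 lc_f_rc_17_1 lc_f_rc_10_3 lc_f_rc_17_3 lc_f_rc_14_1 lc_f_rc_10_1 lc_f_rc_17_3 lc_f_rc_19_3 lc_f_rc_21_1 lc_f_rc_10_3 lc_f_rc_5_1 lc_f_rc_19_5 lc_f_rc_5_3 lc_f_rc_17_3 lc_f_rc_19_5 lc_f_rc_17_3 lc_f_rc_19_3 lc_f_rc_17_3 lc_f_rc_10_3 lc_f_rc_17_3 lc_f_rc_21_1 lc_f_rc_14_3 lc_f_rc_10_1 lc_f_rc_17_1 lc_f_rc_21_1 lc_f_rc_17_3 lc_f_rc_10_3 lc_f_rc_14_3 lc_f_rc_5_3 lc_f_rc_21_1 lc_f_rc_19_5 lc_f_rc_20_1 lc_f_rc_10_3 lc_f_rc_14_3 lc_f_rc_19_3 lc_f_rc_14_3 lc_f_rc_14_3 lc_f_rc_10_3 lc_f_rc_20_1 lc_f_rc_10_3 lc_f_rc_21_1 lc_f_rc_21_1 lc_f_rc_17_3 lc_f_rc_20_1 lc_f_rc_19_3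 lc_f_rc_19_5 lc_f_rc_10_3 lc_f_rc_10_3 lc_f_rc_14_1 lc_f_rc_17_3 lc_f_rc_19_3 lc_f_rc_17_3) (@D3.rec (fun _ => (Cert rels S Gen.f)) lc_f_rc_17_3 lc_f_rc_19_5 lc_f_rc_21_1 lc_f_rc_22_1 lc_f_rc_19_3 lc_f_rc_17_3 lc_f_rc_14_3 lc_f_rc_5_1 lc_f_Cert_tree lc_f_Cert_tree lc_f_rc_20_1 lc_f_rc_14_3 lc_f_rc_14_3 lc_f_rc_14_3 lc_f_rc_20_1 lc_f_rc_17_1 lc_f_rc_10_3 lc_f_rc_22_1 lc_f_rc_20_1 lc_f_rc_19_3 lc_f_rc_10_3 lc_f_rc_10_3 lc_f_rc_5_3 lc_f_rc_5_1 lc_f_rc_14_1 lc_f_rc_14_1 lc_f_rc_22_1 lc_f_rc_14_3 lc_f_rc_10_3 lc_f_Cert_tree lc_f_rc_14_3 lc_f_rc_14_3 lc_f_rc_22_1 lc_f_rc_20_1 lc_f_rc_21_1 lc_f_rc_19_5 lc_f_rc_20_1 lc_f_rc_14_3 lc_f_rc_14_3 lc_f_rc_14_3 lc_f_rc_14_1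 lc_f_rc_14_1 lc_f_rc_21_1 lc_f_rc_17_1 lc_f_rc_20_1 lc_f_rc_19_1 lc_f_rc_17_3 lc_f_rc_14_1 lc_f_rc_17_3 lc_f_rc_17_3 lc_f_rc_19_3 lc_f_rc_21_1 lc_f_rc_17_1 lc_f_rc_21_1 lc_f_rc_20_1 lc_f_rc_14_3 lc_f_rc_10_3 lc_f_rc_21_1 lc_f_rc_10_3 lc_f_rc_10_3 lc_f_rc_5_1 lc_f_rc_21_1) (@D3.rec (fun _ => (Cert rels S Gen.f)) lc_f_rc_5_3 lc_f_rc_14_3 lc_f_rc_14_1 lc_f_rc_17_3 lc_f_rc_20_1 lc_f_rc_17_3 lc_f_rc_19_5 lc_f_rc_14_1 lc_f_rc_5_1 lc_f_rc_14_3 lc_f_rc_17_1 lc_f_rc_17_3 lc_f_rc_14_3 lc_f_rc_14_3 lc_f_rc_20_1 lc_f_rc_10_1 lc_f_rc_17_1 lc_f_rc_5_3 lc_f_rc_10_3 lc_f_rc_5_1 lc_f_rc_17_3 lc_f_rc_14_3 lc_f_rc_14_1 lc_f_rc_17_1 lc_f_rc_17_1 lc_f_rc_21_1 lc_f_rc_17_1 lc_f_rc_22_1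 lc_f_rc_14_1 lc_f_Cert_tree lc_f_rc_10_3 lc_f_rc_14_1 lc_f_rc_5_3 lc_f_Cert_tree lc_f_rc_14_3 lc_f_rc_10_3 lc_f_rc_10_1 lc_f_rc_17_3 lc_f_rc_10_3 lc_f_rc_17_3 lc_f_rc_14_3 lc_f_rc_10_3 lc_f_rc_17_3 lc_f_rc_14_3 lc_f_rc_5_1 lc_f_rc_5_3 lc_f_rc_5_3 lc_f_rc_14_3 lc_f_rc_14_3 lc_f_rc_19_3 lc_f_rc_5_1 lc_f_rc_17_3 lc_f_Cert_tree lc_f_rc_14_3 lc_f_rc_10_3 lc_f_rc_17_3 lc_f_rc_14_3 lc_f_rc_17_1 lc_f_rc_20_1 lc_f_rc_17_3 lc_f_rc_10_3 lc_f_rc_5_1) (@D3.rec (fun _ => (Cert rels S Gen.f)) lc_f_rc_14_3 lc_f_rc_20_1 lc_f_rc_22_1 lc_f_rc_17_3 lc_f_rc_20_1 lc_f_rc_10_3 lc_f_rc_21_1 lc_f_rc_14_3 lc_f_rc_5_1 lc_f_rc_10_3 lc_f_rc_17_3 lc_f_rc_5_1 lc_f_rc_14_3 lc_f_rc_5_3 lc_f_rc_17_3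 lc_f_Cert_tree lc_f_Cert_tree lc_f_rc_14_3 lc_f_Cert_tree lc_f_rc_20_1 lc_f_rc_21_1 lc_f_rc_5_1 lc_f_rc_19_3 lc_f_rc_10_3 lc_f_rc_21_1 lc_f_rc_5_3 lc_f_Cert_tree lc_f_rc_21_1 lc_f_rc_17_3 lc_f_rc_14_1 lc_f_Cert_tree lc_f_rc_20_1 lc_f_rc_14_3 lc_f_Cert_tree lc_f_rc_20_1 lc_f_rc_20_1 lc_f_rc_19_3 lc_f_Cert_tree lc_f_rc_20_1 lc_f_rc_20_1 lc_f_rc_20_1 lc_f_rc_21_1 lc_f_rc_17_3 lc_f_rc_17_3 lc_f_rc_20_1 lc_f_rc_10_3 lc_f_rc_17_3 lc_f_rc_20_1 lc_f_rc_20_1 lc_f_rc_10_3 lc_f_rc_5_1 lc_f_rc_19_3 lc_f_rc_5_3 lc_f_Cert_tree lc_f_rc_10_3 lc_f_rc_10_1 lc_f_rc_14_3 lc_f_Cert_tree lc_f_rc_19_1 lc_f_rc_19_1 lc_f_Cert_tree lc_f_rc_20_1) (@D3.rec (fun _ => (Cert rels S Gen.f))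 lc_f_rc_17_3 lc_f_rc_17_3 lc_f_Cert_tree lc_f_rc_20_1 lc_f_rc_5_3 lc_f_Cert_tree lc_f_rc_20_1 lc_f_rc_10_3 lc_f_rc_10_3 lc_f_rc_19_3 lc_f_rc_19_5 lc_f_rc_5_3 lc_f_rc_17_3 lc_f_Cert_tree lc_f_rc_17_3 lc_f_rc_14_3 lc_f_rc_17_3 lc_f_rc_21_1 lc_f_Cert_tree lc_f_rc_20_1 lc_f_rc_21_1 lc_f_rc_17_3 lc_f_Cert_tree lc_f_rc_20_1 lc_f_rc_20_1 lc_f_rc_17_3 lc_f_rc_20_1 lc_f_rc_17_3 lc_f_rc_14_3 lc_f_rc_14_3 lc_f_rc_10_3 lc_f_Cert_tree lc_f_rc_14_3 lc_f_rc_10_3 lc_f_rc_20_1 lc_f_rc_20_1 lc_f_rc_10_3 lc_f_rc_10_3 lc_f_Cert_tree lc_f_rc_5_1 lc_f_Cert_tree lc_f_rc_21_1 lc_f_Cert_tree lc_f_rc_20_1 lc_f_rc_14_3 lc_f_rc_17_1 lc_f_rc_10_3 lc_f_rc_14_3 lc_f_Cert_tree lc_f_rc_5_1 lc_f_rc_14_3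 lc_f_rc_17_3 lc_f_rc_14_3 lc_f_rc_10_3 lc_f_rc_19_5 lc_f_rc_17_3 lc_f_rc_19_3 lc_f_rc_5_1 lc_f_rc_17_3 lc_f_rc_17_3 lc_f_rc_20_1 lc_f_rc_10_3) (@D3.rec (fun _ => (Cert rels S Gen.f)) lc_f_rc_21_1 lc_f_rc_17_3 lc_f_rc_10_3 lc_f_rc_17_3 lc_f_rc_14_1 lc_f_rc_21_1 lc_f_rc_14_3 lc_f_rc_5_1 lc_f_rc_10_1 lc_f_rc_21_1 lc_f_rc_19_3 lc_f_rc_19_5 lc_f_rc_19_3 lc_f_rc_10_3 lc_f_rc_5_1 lc_f_rc_17_1 lc_f_rc_19_3 lc_f_rc_14_3 lc_f_rc_19_3 lc_f_rc_14_3 lc_f_rc_17_3 lc_f_rc_20_1 lc_f_rc_10_3 lc_f_rc_14_3 lc_f_rc_5_3 lc_f_rc_17_3 lc_f_rc_14_3 lc_f_rc_10_3 lc_f_rc_21_1 lc_f_rc_14_3 lc_f_rc_17_3 lc_f_rc_14_3 lc_f_rc_5_1 lc_f_rc_14_1 lc_f_rc_14_3 lc_f_rc_17_3 lc_f_Cert_tree lc_f_rc_17_3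 lc_f_rc_14_1 lc_f_rc_10_1 lc_f_rc_17_3 lc_f_rc_10_3 lc_f_rc_14_3 lc_f_rc_19_3 lc_f_rc_17_1 lc_f_rc_14_3 lc_f_rc_14_3 lc_f_Cert_tree lc_f_rc_14_3 lc_f_rc_14_3 lc_f_Cert_tree lc_f_rc_20_1 lc_f_rc_19_5 lc_f_rc_14_1 lc_f_Cert_tree lc_f_rc_20_1 lc_f_rc_10_3 lc_f_rc_17_1 lc_f_rc_14_3 lc_f_rc_14_3 lc_f_rc_21_1 lc_f_rc_20_1) (@D3.rec (fun _ => (Cert rels S Gen.f)) lc_f_rc_17_3 lc_f_rc_20_1 lc_f_rc_21_1 lc_f_rc_21_1 lc_f_rc_10_3 lc_f_rc_14_3 lc_f_rc_19_3 lc_f_rc_10_3 lc_f_rc_14_3 lc_f_rc_14_3 lc_f_rc_10_3 lc_f_rc_5_1 lc_f_rc_14_3 lc_f_rc_20_1 lc_f_rc_20_1 lc_f_rc_17_1 lc_f_rc_5_1 lc_f_rc_10_1 lc_f_rc_19_5 lc_f_rc_10_3 lc_f_rc_21_1 lc_f_rc_5_3 lc_f_rc_10_3 lc_f_rc_20_1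 lc_f_rc_14_3 lc_f_rc_10_3 lc_f_rc_5_3 lc_f_rc_14_3 lc_f_rc_22_1 lc_f_rc_10_3 lc_f_rc_17_3 lc_f_rc_10_1 lc_f_rc_14_3 lc_f_rc_21_1 lc_f_rc_17_1 lc_f_rc_20_1 lc_f_rc_19_3 lc_f_rc_17_3 lc_f_rc_14_1 lc_f_rc_17_3 lc_f_rc_14_3 lc_f_rc_14_3 lc_f_rc_14_3 lc_f_rc_17_3 lc_f_rc_10_3 lc_f_rc_20_1 lc_f_rc_10_3 lc_f_rc_17_3 lc_f_rc_14_3 lc_f_rc_10_3 lc_f_rc_14_3 lc_f_rc_10_1 lc_f_rc_5_3 lc_f_Cert_tree lc_f_rc_14_3 lc_f_rc_17_3 lc_f_rc_17_3 lc_f_rc_20_1 lc_f_rc_5_1 lc_f_rc_19_3 lc_f_rc_20_1 lc_f_rc_20_1) (@D3.rec (fun _ => (Cert rels S Gen.f)) lc_f_rc_14_3 lc_f_Cert_tree lc_f_rc_14_1 lc_f_rc_21_1 lc_f_Cert_tree lc_f_rc_20_1 lc_f_rc_20_1 lc_f_rc_21_1 lc_f_rc_17_3 lc_f_rc_14_1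 lc_f_rc_14_3 lc_f_rc_20_1 lc_f_rc_10_1 lc_f_rc_14_3 lc_f_rc_17_1 lc_f_rc_14_3 lc_f_rc_14_3 lc_f_rc_19_1 lc_f_rc_20_1 lc_f_rc_20_1 lc_f_rc_20_1 lc_f_rc_10_3 lc_f_rc_14_1 lc_f_rc_20_1 lc_f_rc_17_3 lc_f_rc_14_3 lc_f_rc_17_3 lc_f_rc_14_3 lc_f_rc_17_3 lc_f_rc_20_1 lc_f_rc_5_3 lc_f_rc_10_3 lc_f_rc_19_1 lc_f_rc_5_3 lc_f_rc_17_3 lc_f_rc_14_3 lc_f_Cert_tree lc_f_rc_20_1 lc_f_rc_19_5 lc_f_Cert_tree lc_f_rc_20_1 lc_f_rc_14_3 lc_f_rc_10_3 lc_f_rc_17_3 lc_f_rc_19_3 lc_f_rc_20_1 lc_f_rc_19_1 lc_f_rc_17_1 lc_f_rc_17_3 lc_f_rc_14_1 lc_f_rc_20_1 lc_f_rc_21_1 lc_f_rc_20_1 lc_f_rc_21_1 lc_f_Cert_tree lc_f_Cert_tree lc_f_rc_17_3 lc_f_rc_10_1 lc_f_rc_20_1 lc_f_rc_17_3 lc_f_Cert_tree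 lc_f_rc_20_1) (@D3.rec (fun _ => (Cert rels S Gen.f)) lc_f_rc_17_1 lc_f_rc_10_1 lc_f_rc_20_1 lc_f_Cert_tree lc_f_rc_14_1 lc_f_rc_21_1 lc_f_Cert_tree lc_f_rc_20_1 lc_f_rc_10_3 lc_f_rc_17_3 lc_f_rc_14_1 lc_f_rc_19_5 lc_f_Cert_tree lc_f_rc_20_1 lc_f_rc_10_3 lc_f_rc_14_3 lc_f_rc_10_3 lc_f_rc_17_1 lc_f_rc_19_3 lc_f_rc_17_3 lc_f_rc_17_3 lc_f_rc_10_1 lc_f_rc_17_3 lc_f_rc_20_1 lc_f_rc_5_1 lc_f_rc_10_1 lc_f_rc_17_3 lc_f_rc_10_3 lc_f_rc_21_1 lc_f_rc_5_1 lc_f_rc_14_3 lc_f_rc_17_3 lc_f_Cert_tree lc_f_rc_17_3 lc_f_rc_17_3 lc_f_rc_19_3 lc_f_rc_21_1 lc_f_rc_17_3 lc_f_rc_10_3 lc_f_rc_10_1 lc_f_rc_22_1 lc_f_rc_17_1 lc_f_rc_17_3 lc_f_rc_14_3 lc_f_rc_22_1 lc_f_rc_21_1 lc_f_rc_17_3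 lc_f_Cert_tree lc_f_rc_10_3 lc_f_rc_10_1 lc_f_rc_19_5 lc_f_rc_14_3 lc_f_rc_19_5 lc_f_rc_17_3 lc_f_rc_17_3 lc_f_rc_22_1 lc_f_rc_22_1 lc_f_rc_17_3 lc_f_rc_14_3 lc_f_rc_21_1 lc_f_rc_17_3 lc_f_rc_17_1) (@D3.rec (fun _ => (Cert rels S Gen.f)) lc_f_rc_10_3 lc_f_rc_17_3 lc_f_rc_14_3 lc_f_rc_14_3 lc_f_rc_10_3 lc_f_rc_14_3 lc_f_rc_5_3 lc_f_rc_10_3 lc_f_rc_17_3 lc_f_rc_21_1 lc_f_rc_14_1 lc_f_rc_14_1 lc_f_rc_14_1 lc_f_rc_14_1 lc_f_rc_10_3 lc_f_rc_22_1 lc_f_rc_21_1 lc_f_rc_17_3 lc_f_rc_17_3 lc_f_rc_10_1 lc_f_rc_17_1 lc_f_rc_14_1 lc_f_Cert_tree lc_f_rc_5_1 lc_f_rc_14_3 lc_f_rc_10_1 lc_f_rc_21_1 lc_f_rc_19_3 lc_f_rc_5_1 lc_f_rc_20_1 lc_f_rc_17_3 lc_f_rc_17_3 lc_f_Cert_tree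 lc_f_rc_20_1 lc_f_rc_14_3 lc_f_rc_17_3 lc_f_rc_21_1 lc_f_rc_10_1 lc_f_rc_17_1 lc_f_rc_10_3 lc_f_Cert_tree lc_f_rc_17_3 lc_f_rc_5_1 lc_f_rc_14_3 lc_f_rc_20_1 lc_f_rc_21_1 lc_f_rc_10_3 lc_f_rc_20_1 lc_f_rc_5_3 lc_f_rc_10_3 lc_f_rc_10_3 lc_f_rc_10_3 lc_f_rc_14_3 lc_f_rc_14_3 lc_f_Cert_tree lc_f_rc_17_1 lc_f_rc_22_1 lc_f_rc_21_1 lc_f_rc_19_1 lc_f_Cert_tree lc_f_rc_14_1 lc_f_rc_21_1) (@D3.rec (fun _ => (Cert rels S Gen.f)) lc_f_rc_14_3 lc_f_rc_20_1 lc_f_rc_21_1 lc_f_rc_14_1 lc_f_rc_20_1 lc_f_rc_10_3 lc_f_rc_17_3 lc_f_rc_10_3 lc_f_rc_21_1 lc_f_rc_17_3 lc_f_rc_19_5 lc_f_rc_17_3 lc_f_rc_17_1 lc_f_rc_10_1 lc_f_rc_10_1 lc_f_rc_17_3 lc_f_rc_10_3 lc_f_rc_5_3 lc_f_rc_5_3 lc_f_rc_21_1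 lc_f_rc_17_3 lc_f_rc_14_1 lc_f_rc_20_1 lc_f_rc_14_3 lc_f_rc_14_3 lc_f_rc_20_1 lc_f_rc_10_3 lc_f_rc_5_1 lc_f_rc_14_3 lc_f_rc_17_1 lc_f_rc_10_3 lc_f_rc_5_3 lc_f_Cert_tree lc_f_rc_14_3 lc_f_rc_14_1 lc_f_rc_21_1 lc_f_rc_20_1 lc_f_rc_10_3 lc_f_rc_17_1 lc_f_rc_14_3 lc_f_rc_10_3 lc_f_rc_10_3 lc_f_rc_14_1 lc_f_rc_21_1 lc_f_rc_10_3 lc_f_rc_10_3 lc_f_rc_5_3 lc_f_rc_10_3 lc_f_rc_14_3 lc_f_rc_19_1 lc_f_rc_17_3 lc_f_rc_10_3 lc_f_rc_21_1 lc_f_rc_14_3 lc_f_rc_17_3 lc_f_rc_17_3 lc_f_rc_17_3 lc_f_rc_17_3 lc_f_rc_19_5 lc_f_rc_10_3 lc_f_Cert_tree lc_f_rc_21_1) (@D3.rec (fun _ => (Cert rels S Gen.f)) lc_f_rc_21_1 lc_f_rc_20_1 lc_f_rc_5_1 lc_f_rc_5_3 lc_f_rc_10_3 lc_f_rc_17_3 lc_f_rc_10_3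 lc_f_rc_10_3 lc_f_rc_19_3 lc_f_rc_14_3 lc_f_rc_19_3 lc_f_rc_17_1 lc_f_rc_14_3 lc_f_rc_14_3 lc_f_rc_10_3 lc_f_Cert_tree lc_f_rc_14_3 lc_f_rc_21_1 lc_f_Cert_tree lc_f_rc_20_1 lc_f_rc_17_1 lc_f_rc_10_3 lc_f_rc_21_1 lc_f_Cert_tree lc_f_rc_20_1 lc_f_rc_10_3 lc_f_rc_10_3 lc_f_rc_5_3 lc_f_rc_14_3 lc_f_rc_14_3 lc_f_rc_10_3 lc_f_rc_14_1 lc_f_rc_14_1 lc_f_rc_14_1 lc_f_rc_19_3 lc_f_rc_17_3 lc_f_rc_17_1 lc_f_rc_20_1 lc_f_rc_10_3 lc_f_rc_22_1 lc_f_rc_22_1 lc_f_rc_10_3 lc_f_rc_14_3 lc_f_rc_14_3 lc_f_rc_10_1 lc_f_rc_20_1 lc_f_rc_19_5 lc_f_rc_5_3 lc_f_rc_21_1 lc_f_rc_20_1 lc_f_rc_17_1 lc_f_rc_14_3 lc_f_rc_10_3 lc_f_rc_20_1 lc_f_rc_10_1 lc_f_rc_14_3 lc_f_rc_17_3 lc_f_rc_21_1 lc_f_rc_10_3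 lc_f_rc_17_3 lc_f_rc_17_3 lc_f_rc_21_1) (@D3.rec (fun _ => (Cert rels S Gen.f)) lc_f_Cert_tree lc_f_rc_20_1 lc_f_rc_21_1 lc_f_rc_19_5 lc_f_rc_20_1 lc_f_rc_17_1 lc_f_rc_14_3 lc_f_rc_19_5 lc_f_rc_10_3 lc_f_rc_21_1 lc_f_rc_21_1 lc_f_rc_14_3 lc_f_rc_14_3 lc_f_rc_14_3 lc_f_rc_5_3 lc_f_rc_14_3 lc_f_rc_20_1 lc_f_rc_17_3 lc_f_rc_14_1 lc_f_rc_20_1 lc_f_rc_17_1 lc_f_rc_14_3 lc_f_rc_17_3 lc_f_rc_10_3 lc_f_rc_5_3 lc_f_rc_10_1 lc_f_rc_10_3 lc_f_rc_17_3 lc_f_rc_17_1 lc_f_rc_17_1 lc_f_rc_17_3 lc_f_rc_17_3 lc_f_rc_14_3 lc_f_rc_10_1 lc_f_rc_17_3 lc_f_rc_14_1 lc_f_Cert_tree lc_f_rc_10_3 lc_f_rc_17_3 lc_f_rc_14_3 lc_f_rc_10_3 lc_f_rc_17_3 lc_f_rc_19_5 lc_f_rc_14_3 lc_f_rc_14_3 lc_f_rc_17_3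 lc_f_rc_10_3 lc_f_rc_10_3 lc_f_rc_20_1 lc_f_rc_17_1 lc_f_rc_10_3 lc_f_rc_17_3 lc_f_rc_5_3 lc_f_rc_22_1 lc_f_rc_17_1 lc_f_rc_20_1 lc_f_rc_17_1 lc_f_rc_17_3 lc_f_rc_19_3 lc_f_rc_21_1 lc_f_rc_20_1 lc_f_rc_20_1) (@D3.rec (fun _ => (Cert rels S Gen.f)) lc_f_rc_5_3 lc_f_rc_19_1 lc_f_rc_10_3 lc_f_rc_10_1 lc_f_rc_17_3 lc_f_rc_17_3 lc_f_rc_17_3 lc_f_rc_17_3 lc_f_rc_10_3 lc_f_rc_14_3 lc_f_rc_17_3 lc_f_rc_5_1 lc_f_rc_21_1 lc_f_rc_10_3 lc_f_rc_17_3 lc_f_rc_10_3 lc_f_rc_5_1 lc_f_rc_10_1 lc_f_rc_21_1 lc_f_rc_17_3 lc_f_rc_5_1 lc_f_rc_10_3 lc_f_rc_5_1 lc_f_rc_21_1 lc_f_rc_19_3 lc_f_rc_21_1 lc_f_rc_17_3 lc_f_Cert_tree lc_f_rc_14_3 lc_f_rc_19_5 lc_f_rc_19_5 lc_f_rc_20_1 lc_f_rc_14_1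 lc_f_rc_17_1 lc_f_rc_10_3 lc_f_rc_14_3 lc_f_rc_14_3 lc_f_Cert_tree lc_f_rc_20_1 lc_f_rc_10_3 lc_f_rc_17_3 lc_f_rc_19_3 lc_f_rc_21_1 lc_f_rc_17_3 lc_f_rc_19_5 lc_f_rc_21_1 lc_f_rc_20_1 lc_f_rc_5_3 lc_f_rc_5_1 lc_f_rc_5_3 lc_f_rc_14_3 lc_f_rc_19_3 lc_f_rc_17_3 lc_f_rc_20_1 lc_f_rc_20_1 lc_f_rc_17_1 lc_f_rc_17_1 lc_f_rc_19_3 lc_f_rc_20_1 lc_f_rc_21_1 lc_f_rc_10_1 lc_f_rc_20_1) (@D3.rec (fun _ => (Cert rels S Gen.f)) lc_f_rc_21_1 lc_f_rc_17_3 lc_f_rc_14_3 lc_f_rc_10_1 lc_f_rc_17_3 lc_f_rc_22_1 lc_f_rc_20_1 lc_f_rc_10_1 lc_f_rc_10_3 lc_f_rc_17_3 lc_f_rc_14_3 lc_f_rc_17_3 lc_f_rc_17_3 lc_f_rc_19_5 lc_f_rc_19_1 lc_f_rc_5_3 lc_f_rc_19_5 lc_f_rc_17_3 lc_f_rc_22_1 lc_f_rc_19_3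 lc_f_rc_21_1 lc_f_rc_21_1 lc_f_rc_10_3 lc_f_rc_14_3 lc_f_rc_14_3 lc_f_rc_10_3 lc_f_rc_20_1 lc_f_rc_21_1 lc_f_rc_10_3 lc_f_rc_21_1 lc_f_rc_14_3 lc_f_rc_10_3 lc_f_rc_5_3 lc_f_rc_17_3 lc_f_rc_17_1 lc_f_rc_19_5 lc_f_rc_19_5 lc_f_rc_14_1 lc_f_rc_10_1 lc_f_rc_17_3 lc_f_rc_10_3 lc_f_rc_22_1 lc_f_rc_17_3 lc_f_rc_14_1 lc_f_rc_14_3 lc_f_rc_10_3 lc_f_rc_17_3 lc_f_rc_21_1 lc_f_rc_10_3 lc_f_rc_14_3 lc_f_rc_14_3 lc_f_rc_20_1 lc_f_rc_17_3 lc_f_rc_20_1 lc_f_rc_17_3 lc_f_rc_17_3 lc_f_rc_20_1 lc_f_rc_5_1 lc_f_rc_14_3 lc_f_rc_21_1 lc_f_rc_17_3 lc_f_rc_21_1) (@D3.rec (fun _ => (Cert rels S Gen.f)) lc_f_rc_20_1 lc_f_rc_20_1 lc_f_rc_21_1 lc_f_rc_10_3 lc_f_rc_17_3 lc_f_rc_19_3 lc_f_rc_20_1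 lc_f_rc_20_1 lc_f_rc_14_3 lc_f_rc_14_3 lc_f_rc_5_3 lc_f_rc_17_3 lc_f_rc_10_3 lc_f_rc_17_3 lc_f_rc_10_1 lc_f_rc_17_3 lc_f_rc_17_3 lc_f_rc_5_1 lc_f_rc_14_3 lc_f_rc_17_1 lc_f_rc_20_1 lc_f_rc_10_3 lc_f_rc_14_1 lc_f_rc_21_1 lc_f_rc_20_1 lc_f_rc_19_3 lc_f_rc_19_1 lc_f_rc_17_3 lc_f_rc_17_3 lc_f_rc_10_3 lc_f_rc_5_3 lc_f_rc_14_3 lc_f_rc_21_1 lc_f_rc_20_1 lc_f_rc_14_1 lc_f_rc_10_1 lc_f_Cert_tree lc_f_rc_10_3 lc_f_rc_5_1 lc_f_Cert_tree lc_f_rc_5_1 lc_f_rc_14_3 lc_f_rc_17_3 lc_f_rc_17_3 lc_f_rc_20_1 lc_f_rc_10_3 lc_f_rc_14_3 lc_f_rc_14_3 lc_f_rc_14_3 lc_f_rc_5_3 lc_f_rc_14_3 lc_f_Cert_tree lc_f_rc_17_3 lc_f_rc_17_3 lc_f_Cert_tree lc_f_rc_20_1 lc_f_rc_17_3 lc_f_rc_14_3 lc_f_Cert_tree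 lc_f_rc_21_1 lc_f_Cert_tree lc_f_rc_20_1) (@D3.rec (fun _ => (Cert rels S Gen.f)) lc_f_rc_5_3 lc_f_rc_22_1 lc_f_rc_17_3 lc_f_rc_22_1 lc_f_rc_21_1 lc_f_rc_10_3 lc_f_Cert_tree lc_f_rc_17_1 lc_f_rc_20_1 lc_f_rc_10_3 lc_f_rc_21_1 lc_f_rc_10_1 lc_f_rc_21_1 lc_f_rc_19_1 lc_f_rc_17_1 lc_f_rc_22_1 lc_f_rc_20_1 lc_f_rc_22_1 lc_f_rc_14_3 lc_f_rc_14_1 lc_f_rc_20_1 lc_f_rc_21_1 lc_f_rc_5_1 lc_f_rc_20_1 lc_f_Cert_tree lc_f_rc_17_1 lc_f_rc_20_1 lc_f_rc_10_1 lc_f_rc_20_1 lc_f_rc_14_3 lc_f_rc_10_3 lc_f_rc_21_1 lc_f_rc_17_3 lc_f_rc_10_3 lc_f_rc_10_1 lc_f_rc_22_1 lc_f_rc_17_3 lc_f_rc_17_3 lc_f_rc_20_1 lc_f_rc_14_3 lc_f_rc_10_3 lc_f_rc_5_3 lc_f_rc_20_1 lc_f_rc_14_3 lc_f_rc_10_3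 lc_f_Cert_tree lc_f_rc_21_1 lc_f_rc_14_3 lc_f_rc_10_3 lc_f_rc_17_3 lc_f_rc_14_1 lc_f_rc_17_3 lc_f_rc_17_3 lc_f_rc_14_3 lc_f_rc_10_3 lc_f_rc_19_5 lc_f_rc_17_3 lc_f_rc_17_3 lc_f_rc_17_1 lc_f_rc_20_1 lc_f_rc_17_3 lc_f_rc_14_1) (@D3.rec (fun _ => (Cert rels S Gen.f)) lc_f_rc_10_3 lc_f_rc_17_3 lc_f_rc_17_3 lc_f_rc_17_3 lc_f_Cert_tree lc_f_rc_5_3 lc_f_rc_5_3 lc_f_rc_17_3 lc_f_rc_14_1 lc_f_rc_17_1 lc_f_rc_20_1 lc_f_rc_17_1 lc_f_rc_14_3 lc_f_rc_14_3 lc_f_rc_10_3 lc_f_rc_20_1 lc_f_rc_21_1 lc_f_rc_10_3 lc_f_rc_14_3 lc_f_rc_14_1 lc_f_rc_5_3 lc_f_rc_20_1 lc_f_rc_17_3 lc_f_rc_14_3 lc_f_rc_14_3 lc_f_rc_10_3 lc_f_rc_17_3 lc_f_rc_14_1 lc_f_rc_19_5 lc_f_rc_21_1 lc_f_rc_20_1 lc_f_rc_19_5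 lc_f_rc_10_3 lc_f_rc_14_3 lc_f_rc_14_3 lc_f_rc_10_3 lc_f_rc_14_3 lc_f_rc_21_1 lc_f_rc_17_1 lc_f_Cert_tree lc_f_rc_20_1 lc_f_rc_21_1 lc_f_rc_10_3 lc_f_rc_21_1 lc_f_rc_14_3 lc_f_rc_21_1 lc_f_rc_17_3 lc_f_rc_17_3 lc_f_rc_10_3 lc_f_rc_14_3 lc_f_rc_5_3 lc_f_rc_22_1 lc_f_rc_14_3 lc_f_rc_21_1 lc_f_rc_17_3 lc_f_rc_10_3 lc_f_rc_20_1 lc_f_rc_10_3 lc_f_rc_19_5 lc_f_rc_21_1 lc_f_rc_5_3 lc_f_rc_19_5) (@D3.rec (fun _ => (Cert rels S Gen.f)) lc_f_rc_19_5 lc_f_rc_17_3 lc_f_rc_5_3 lc_f_rc_14_3 lc_f_Cert_tree lc_f_rc_17_3 lc_f_rc_5_1 lc_f_rc_20_1 lc_f_rc_5_3 lc_f_rc_5_3 lc_f_rc_17_3 lc_f_rc_21_1 lc_f_rc_10_1 lc_f_rc_10_1 lc_f_rc_20_1 lc_f_rc_10_3 lc_f_rc_10_1 lc_f_rc_14_3 lc_f_rc_10_3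 lc_f_rc_20_1 lc_f_rc_14_3 lc_f_rc_10_3 lc_f_rc_10_3 lc_f_rc_19_3 lc_f_rc_20_1 lc_f_rc_14_1 lc_f_rc_14_3 lc_f_rc_20_1 lc_f_rc_20_1 lc_f_Cert_tree lc_f_rc_10_3 lc_f_rc_21_1 lc_f_Cert_tree lc_f_rc_20_1 lc_f_rc_17_3 lc_f_rc_21_1 lc_f_Cert_tree lc_f_rc_20_1 lc_f_rc_10_3 lc_f_rc_17_3 lc_f_rc_14_3 lc_f_rc_17_3 lc_f_rc_21_1 lc_f_rc_17_3 lc_f_rc_20_1 lc_f_rc_20_1 lc_f_rc_14_3 lc_f_rc_20_1 lc_f_rc_14_3 lc_f_rc_21_1 lc_f_rc_10_3 lc_f_rc_10_1 lc_f_rc_17_1 lc_f_rc_21_1 lc_f_rc_14_1 lc_f_rc_17_1 lc_f_rc_17_1 lc_f_rc_14_3 lc_f_rc_17_1 lc_f_rc_17_1 lc_f_rc_14_1 lc_f_rc_14_1) (@D3.rec (fun _ => (Cert rels S Gen.f)) lc_f_rc_14_1 lc_f_rc_22_1 lc_f_rc_22_1 lc_f_rc_17_3 lc_f_rc_20_1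 lc_f_rc_20_1 lc_f_rc_20_1 lc_f_rc_10_1 lc_f_rc_17_3 lc_f_rc_21_1 lc_f_rc_22_1 lc_f_rc_17_3 lc_f_rc_19_3 lc_f_rc_14_1 lc_f_rc_14_3 lc_f_rc_17_3 lc_f_rc_17_3 lc_f_rc_14_3 lc_f_rc_10_3 lc_f_rc_14_3 lc_f_rc_19_3 lc_f_rc_14_1 lc_f_rc_14_1 lc_f_rc_14_3 lc_f_rc_10_3 lc_f_rc_17_3 lc_f_rc_10_3 lc_f_rc_17_3 lc_f_rc_19_5 lc_f_rc_14_3 lc_f_rc_17_3 lc_f_rc_14_3 lc_f_rc_5_3 lc_f_rc_17_3 lc_f_rc_14_1 lc_f_rc_20_1 lc_f_rc_17_3 lc_f_rc_14_3 lc_f_rc_17_3 lc_f_rc_10_3 lc_f_rc_22_1 lc_f_rc_14_3 lc_f_rc_14_3 lc_f_rc_5_1 lc_f_rc_17_3 lc_f_rc_14_1 lc_f_rc_14_3 lc_f_rc_19_5 lc_f_rc_17_3 lc_f_rc_21_1 lc_f_Cert_tree lc_f_rc_20_1 lc_f_rc_5_3 lc_f_rc_5_1 lc_f_rc_10_1 lc_f_rc_19_3 lc_f_rc_17_3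 lc_f_rc_14_3 lc_f_rc_19_3 lc_f_rc_21_1 lc_f_rc_5_3 lc_f_rc_17_3) (@D3.rec (fun _ => (Cert rels S Gen.f)) lc_f_rc_10_3 lc_f_rc_22_1 lc_f_rc_17_3 lc_f_rc_10_1 lc_f_rc_14_1 lc_f_rc_10_3 lc_f_rc_14_3 lc_f_Cert_tree lc_f_rc_14_3 lc_f_rc_14_3 lc_f_rc_21_1 lc_f_rc_17_1 lc_f_rc_20_1 lc_f_rc_19_3 lc_f_rc_20_1 lc_f_rc_21_1 lc_f_rc_10_3 lc_f_rc_20_1 lc_f_rc_17_3 lc_f_rc_14_3 lc_f_rc_17_3 lc_f_rc_5_1 lc_f_rc_17_1 lc_f_rc_10_3 lc_f_rc_21_1 lc_f_rc_17_3 lc_f_rc_14_3 lc_f_rc_14_1 lc_f_rc_17_3 lc_f_rc_10_3 lc_f_rc_21_1 lc_f_rc_14_3 lc_f_rc_17_1 lc_f_rc_10_3 lc_f_rc_14_3 lc_f_rc_17_3 lc_f_rc_5_1 lc_f_rc_5_1 lc_f_rc_19_3 lc_f_rc_21_1 lc_f_rc_19_1 lc_f_rc_19_3 lc_f_rc_17_3 lc_f_rc_5_1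 lc_f_rc_20_1 lc_f_rc_14_3 lc_f_rc_5_3 lc_f_rc_14_3 lc_f_rc_17_1 lc_f_rc_14_3 lc_f_rc_17_3 lc_f_rc_10_3 lc_f_rc_14_3 lc_f_rc_5_1 lc_f_rc_10_3 lc_f_rc_17_3 lc_f_rc_19_3 lc_f_rc_20_1 lc_f_rc_21_1 lc_f_rc_10_3 lc_f_rc_17_3 lc_f_rc_21_1) (@D3.rec (fun _ => (Cert rels S Gen.f)) lc_f_rc_17_1 lc_f_rc_21_1 lc_f_rc_21_1 lc_f_rc_21_1 lc_f_rc_17_3 lc_f_rc_17_3 lc_f_rc_14_3 lc_f_rc_19_5 lc_f_rc_14_3 lc_f_rc_10_3 lc_f_rc_17_3 lc_f_rc_10_1 lc_f_rc_19_5 lc_f_rc_22_1 lc_f_rc_10_3 lc_f_rc_21_1 lc_f_rc_19_3 lc_f_rc_14_3 lc_f_rc_14_3 lc_f_rc_17_3 lc_f_rc_20_1 lc_f_rc_19_3 lc_f_rc_17_3 lc_f_rc_22_1 lc_f_rc_14_1 lc_f_rc_20_1 lc_f_rc_17_3 lc_f_rc_19_5 lc_f_rc_10_1 lc_f_rc_19_3 lc_f_rc_20_1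 lc_f_rc_5_1 lc_f_rc_10_3 lc_f_rc_21_1 lc_f_rc_14_3 lc_f_rc_17_3 lc_f_rc_19_3 lc_f_rc_5_1 lc_f_rc_14_3 lc_f_rc_14_1 lc_f_rc_14_3 lc_f_rc_17_1 lc_f_rc_20_1 lc_f_rc_10_3 lc_f_rc_14_3 lc_f_rc_20_1 lc_f_rc_5_3 lc_f_rc_19_5 lc_f_rc_10_1 lc_f_rc_14_3 lc_f_Cert_tree lc_f_rc_17_3 lc_f_rc_10_1 lc_f_rc_5_1 lc_f_rc_10_3 lc_f_rc_19_3 lc_f_rc_14_3 lc_f_rc_21_1 lc_f_rc_17_1 lc_f_rc_20_1 lc_f_rc_10_1 lc_f_rc_17_1) (@D3.rec (fun _ => (Cert rels S Gen.f)) lc_f_rc_20_1 lc_f_rc_14_3 lc_f_rc_14_3 lc_f_rc_10_3 lc_f_rc_21_1 lc_f_rc_14_3 lc_f_rc_5_3 lc_f_rc_14_1 lc_f_rc_5_1 lc_f_rc_17_3 lc_f_rc_17_1 lc_f_rc_10_1 lc_f_rc_10_3 lc_f_rc_17_3 lc_f_rc_10_3 lc_f_rc_5_3 lc_f_rc_10_3 lc_f_rc_14_1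 lc_f_rc_19_1 lc_f_rc_21_1 lc_f_rc_14_3 lc_f_rc_10_3 lc_f_rc_22_1 lc_f_rc_19_5 lc_f_rc_17_1 lc_f_rc_10_1 lc_f_Cert_tree lc_f_rc_20_1 lc_f_rc_14_3 lc_f_rc_17_1 lc_f_rc_19_5 lc_f_rc_10_3 lc_f_rc_14_3 lc_f_rc_14_3 lc_f_rc_14_1 lc_f_rc_20_1 lc_f_rc_10_3 lc_f_rc_14_1 lc_f_rc_14_3 lc_f_rc_20_1 lc_f_rc_17_3 lc_f_rc_14_3 lc_f_rc_10_3 lc_f_rc_14_1 lc_f_rc_10_3 lc_f_rc_17_1 lc_f_rc_5_3 lc_f_rc_20_1 lc_f_rc_17_3 lc_f_rc_14_3 lc_f_rc_21_1 lc_f_rc_14_3 lc_f_rc_5_3 lc_f_rc_10_3 lc_f_rc_14_1 lc_f_rc_17_3 lc_f_rc_5_3 lc_f_rc_10_3 lc_f_rc_14_3 lc_f_rc_22_1 lc_f_rc_10_1 lc_f_rc_20_1) (@D3.rec (fun _ => (Cert rels S Gen.f)) lc_f_rc_20_1 lc_f_rc_20_1 lc_f_rc_17_3 lc_f_rc_19_5 lc_f_rc_10_3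 lc_f_rc_20_1 lc_f_rc_5_1 lc_f_rc_14_3 lc_f_rc_10_3 lc_f_rc_17_3 lc_f_rc_14_3 lc_f_rc_17_3 lc_f_rc_21_1 lc_f_rc_20_1 lc_f_rc_21_1 lc_f_Cert_tree lc_f_rc_10_3 lc_f_rc_10_1 lc_f_rc_5_3 lc_f_rc_17_3 lc_f_rc_10_3 lc_f_rc_21_1 lc_f_rc_19_3 lc_f_rc_21_1 lc_f_rc_19_3 lc_f_rc_10_3 lc_f_rc_17_3 lc_f_rc_14_3 lc_f_rc_14_3 lc_f_rc_14_3 lc_f_rc_19_3 lc_f_rc_14_3 lc_f_rc_21_1 lc_f_rc_5_1 lc_f_rc_14_1 lc_f_rc_14_1 lc_f_rc_14_1 lc_f_rc_17_1 lc_f_rc_17_3 lc_f_rc_14_3 lc_f_rc_14_3 lc_f_rc_20_1 lc_f_rc_19_1 lc_f_rc_17_3 lc_f_rc_10_1 lc_f_rc_17_3 lc_f_rc_17_1 lc_f_rc_10_3 lc_f_rc_19_5 lc_f_rc_14_3 lc_f_rc_21_1 lc_f_rc_17_1 lc_f_rc_20_1 lc_f_rc_14_3 lc_f_rc_10_3 lc_f_rc_20_1 lc_f_rc_20_1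 lc_f_rc_20_1 lc_f_rc_21_1 lc_f_rc_5_3 lc_f_rc_14_3 lc_f_rc_17_3) (@D3.rec (fun _ => (Cert rels S Gen.f)) lc_f_rc_21_1 lc_f_rc_17_3 lc_f_rc_14_3 lc_f_rc_14_3 lc_f_rc_19_5 lc_f_rc_14_3 lc_f_rc_10_3 lc_f_rc_22_1 lc_f_rc_19_5 lc_f_rc_21_1 lc_f_rc_10_3 lc_f_rc_20_1 lc_f_rc_17_3 lc_f_rc_14_3 lc_f_rc_14_3 lc_f_rc_17_3 lc_f_rc_21_1 lc_f_rc_14_3 lc_f_rc_14_3 lc_f_rc_20_1 lc_f_rc_21_1 lc_f_rc_14_3 lc_f_rc_14_3 lc_f_rc_17_3 lc_f_rc_17_3 lc_f_rc_14_3 lc_f_rc_17_3 lc_f_rc_20_1 lc_f_rc_14_1 lc_f_rc_14_3 lc_f_rc_21_1 lc_f_rc_17_1 lc_f_rc_20_1 lc_f_rc_14_1 lc_f_rc_19_3 lc_f_rc_19_3 lc_f_rc_19_5 lc_f_rc_20_1 lc_f_rc_22_1 lc_f_rc_14_3 lc_f_rc_19_1 lc_f_rc_10_3 lc_f_rc_14_1 lc_f_rc_20_1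 lc_f_rc_10_1 lc_f_rc_14_3 lc_f_rc_22_1 lc_f_rc_21_1 lc_f_rc_17_3 lc_f_rc_17_1 lc_f_rc_14_3 lc_f_rc_5_1 lc_f_rc_21_1 lc_f_rc_14_3 lc_f_rc_20_1 lc_f_rc_21_1 lc_f_rc_17_1 lc_f_rc_14_3 lc_f_Cert_tree lc_f_rc_21_1 lc_f_rc_14_3 lc_f_rc_14_3) (@D3.rec (fun _ => (Cert rels S Gen.f)) lc_f_rc_22_1 lc_f_rc_20_1 lc_f_rc_17_3 lc_f_rc_19_3 lc_f_rc_20_1 lc_f_rc_10_1 lc_f_rc_20_1 lc_f_rc_17_3 lc_f_rc_10_3 lc_f_rc_21_1 lc_f_rc_20_1 lc_f_rc_17_3 lc_f_rc_10_1 lc_f_rc_17_1 lc_f_rc_20_1 lc_f_rc_5_3 lc_f_rc_20_1 lc_f_rc_10_3 lc_f_rc_5_1 lc_f_rc_14_3 lc_f_rc_14_1 lc_f_rc_17_1 lc_f_rc_22_1 lc_f_rc_21_1 lc_f_rc_5_3 lc_f_rc_19_1 lc_f_Cert_tree lc_f_rc_17_1 lc_f_rc_20_1 lc_f_rc_5_1 lc_f_rc_17_3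 lc_f_rc_21_1 lc_f_rc_17_3 lc_f_rc_21_1 lc_f_rc_14_3 lc_f_rc_14_3 lc_f_Cert_tree lc_f_rc_20_1 lc_f_rc_17_1 lc_f_rc_10_3 lc_f_rc_14_1 lc_f_rc_17_3 lc_f_rc_10_3 lc_f_rc_17_3 lc_f_rc_14_3 lc_f_rc_17_1 lc_f_rc_21_1 lc_f_rc_5_3 lc_f_rc_14_3 lc_f_rc_5_3 lc_f_rc_22_1 lc_f_Cert_tree lc_f_rc_14_3 lc_f_Cert_tree lc_f_rc_20_1 lc_f_rc_20_1 lc_f_rc_10_3 lc_f_rc_14_3 lc_f_rc_10_3 lc_f_rc_14_3 lc_f_rc_21_1 lc_f_rc_5_3) (@D3.rec (fun _ => (Cert rels S Gen.f)) lc_f_rc_14_3 lc_f_rc_17_3 lc_f_rc_10_1 lc_f_rc_19_3 lc_f_rc_14_3 lc_f_rc_21_1 lc_f_rc_5_3 lc_f_rc_10_3 lc_f_rc_17_3 lc_f_Cert_tree lc_f_Cert_tree lc_f_rc_17_1 lc_f_rc_21_1 lc_f_rc_19_5 lc_f_rc_19_3 lc_f_rc_19_1 lc_f_Cert_tree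 lc_f_rc_20_1 lc_f_rc_14_1 lc_f_rc_17_3 lc_f_rc_10_1 lc_f_rc_10_1 lc_f_rc_17_3 lc_f_rc_19_3 lc_f_rc_17_3 lc_f_rc_17_3 lc_f_rc_17_1 lc_f_rc_20_1 lc_f_rc_17_3 lc_f_rc_14_1 lc_f_rc_17_3 lc_f_rc_14_3 lc_f_rc_10_3 lc_f_rc_17_3 lc_f_Cert_tree lc_f_rc_17_3 lc_f_rc_20_1 lc_f_rc_20_1 lc_f_rc_19_5 lc_f_rc_21_1 lc_f_rc_21_1 lc_f_rc_17_3 lc_f_rc_17_1 lc_f_rc_14_3 lc_f_rc_14_3 lc_f_rc_17_3 lc_f_rc_14_3 lc_f_rc_17_3 lc_f_rc_10_3 lc_f_rc_10_3 lc_f_rc_14_3 lc_f_rc_14_1 lc_f_rc_17_3 lc_f_rc_14_1 lc_f_rc_17_3 lc_f_rc_17_3 lc_f_rc_17_1 lc_f_rc_14_3 lc_f_rc_14_1 lc_f_rc_17_3 lc_f_rc_5_1 lc_f_rc_10_3) (@D3.rec (fun _ => (Cert rels S Gen.f)) lc_f_rc_14_3 lc_f_rc_17_3 lc_f_rc_20_1 lc_f_rc_14_3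 lc_f_rc_10_3 lc_f_rc_14_1 lc_f_rc_17_1 lc_f_rc_20_1 lc_f_rc_10_3 lc_f_rc_14_3 lc_f_rc_5_1 lc_f_rc_20_1 lc_f_rc_14_3 lc_f_rc_21_1 lc_f_rc_5_3 lc_f_rc_19_5 lc_f_rc_17_1 lc_f_rc_10_3 lc_f_rc_14_3 lc_f_rc_17_3 lc_f_rc_17_3 lc_f_rc_17_3 lc_f_rc_10_3 lc_f_rc_10_3 lc_f_rc_20_1 lc_f_rc_10_1 lc_f_rc_10_1 lc_f_rc_10_1 lc_f_rc_17_3 lc_f_rc_14_3 lc_f_rc_19_3 lc_f_rc_17_1 lc_f_rc_21_1 lc_f_rc_21_1 lc_f_rc_10_1 lc_f_rc_17_3 lc_f_rc_19_5 lc_f_rc_17_1 lc_f_rc_10_1 lc_f_rc_17_3 lc_f_rc_5_1 lc_f_rc_14_3 lc_f_rc_19_3 lc_f_rc_14_3 lc_f_rc_14_3 lc_f_rc_5_1 lc_f_rc_17_3 lc_f_rc_17_3 lc_f_rc_21_1 lc_f_rc_21_1 lc_f_rc_20_1 lc_f_rc_17_1 lc_f_rc_5_3 lc_f_rc_19_5 lc_f_rc_17_3 lc_f_rc_21_1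 lc_f_rc_5_1 lc_f_rc_10_3 lc_f_rc_14_3 lc_f_rc_14_3 lc_f_rc_17_3 lc_f_rc_17_3) (@D3.rec (fun _ => (Cert rels S Gen.f)) lc_f_rc_17_3 lc_f_rc_20_1 lc_f_rc_5_3 lc_f_rc_21_1 lc_f_rc_21_1 lc_f_rc_17_1 lc_f_rc_10_3 lc_f_rc_17_1 lc_f_rc_19_5 lc_f_rc_20_1 lc_f_rc_14_3 lc_f_rc_17_1 lc_f_rc_10_3 lc_f_rc_17_3 lc_f_rc_21_1 lc_f_rc_22_1 lc_f_rc_17_1 lc_f_rc_20_1 lc_f_rc_17_1 lc_f_rc_17_3 lc_f_rc_19_3 lc_f_rc_20_1 lc_f_rc_21_1 lc_f_rc_14_3 lc_f_rc_5_1 lc_f_rc_14_3 lc_f_rc_19_3 lc_f_rc_5_1 lc_f_rc_19_3 lc_f_rc_5_1 lc_f_Cert_tree lc_f_Cert_tree lc_f_rc_20_1 lc_f_rc_21_1 lc_f_Cert_tree lc_f_rc_20_1 lc_f_rc_21_1 lc_f_rc_14_3 lc_f_Cert_tree lc_f_rc_20_1 lc_f_rc_19_5 lc_f_rc_21_1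 lc_f_rc_10_3 lc_f_rc_17_3 lc_f_rc_5_1 lc_f_rc_14_1 lc_f_rc_20_1 lc_f_rc_10_3 lc_f_rc_5_1 lc_f_rc_14_3 lc_f_rc_17_3 lc_f_rc_5_1 lc_f_rc_20_1 lc_f_rc_5_3 lc_f_Cert_tree lc_f_rc_14_3 lc_f_rc_17_1 lc_f_rc_20_1 lc_f_rc_19_3 lc_f_rc_21_1 lc_f_rc_21_1 lc_f_rc_10_3) (@D3.rec (fun _ => (Cert rels S Gen.f)) lc_f_rc_17_3 lc_f_Cert_tree lc_f_rc_14_3 lc_f_rc_10_3 lc_f_rc_14_3 lc_f_Cert_tree lc_f_rc_17_1 lc_f_rc_14_3 lc_f_Cert_tree lc_f_rc_20_1 lc_f_rc_21_1 lc_f_rc_19_3 lc_f_Cert_tree lc_f_rc_20_1 lc_f_rc_20_1 lc_f_rc_5_1 lc_f_rc_17_3 lc_f_rc_14_1 lc_f_rc_20_1 lc_f_rc_10_3 lc_f_rc_17_3 lc_f_rc_17_1 lc_f_rc_14_3 lc_f_rc_10_3 lc_f_rc_19_3 lc_f_rc_10_3 lc_f_rc_5_3 lc_f_rc_5_3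 lc_f_rc_20_1 lc_f_rc_10_3 lc_f_rc_5_1 lc_f_rc_17_3 lc_f_Cert_tree lc_f_rc_10_3 lc_f_rc_19_5 lc_f_rc_10_1 lc_f_Cert_tree lc_f_rc_19_5 lc_f_Cert_tree lc_f_rc_20_1 lc_f_rc_21_1 lc_f_rc_14_3 lc_f_Cert_tree lc_f_rc_20_1 lc_f_rc_5_1 lc_f_Cert_tree lc_f_rc_20_1 lc_f_rc_20_1 lc_f_rc_17_1 lc_f_rc_19_1 lc_f_rc_17_3 lc_f_rc_10_3 lc_f_rc_20_1 lc_f_rc_14_3 lc_f_rc_14_3 lc_f_rc_14_3 lc_f_Cert_tree lc_f_rc_5_3 lc_f_rc_17_3 lc_f_rc_21_1 lc_f_rc_20_1 lc_f_Cert_tree) (@D3.rec (fun _ => (Cert rels S Gen.f)) lc_f_rc_20_1 lc_f_rc_17_3 lc_f_rc_17_3 lc_f_rc_21_1 lc_f_Cert_tree lc_f_rc_14_3 lc_f_rc_14_3 lc_f_rc_20_1 lc_f_rc_10_3 lc_f_rc_17_3 lc_f_rc_14_3 lc_f_rc_21_1 lc_f_Cert_tree lc_f_rc_20_1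 lc_f_rc_17_1 lc_f_rc_19_3 lc_f_rc_17_3 lc_f_rc_10_3 lc_f_rc_20_1 lc_f_rc_19_3 lc_f_rc_17_1 lc_f_rc_20_1 lc_f_rc_10_1 lc_f_rc_19_1 lc_f_rc_5_1 lc_f_rc_22_1 lc_f_rc_20_1 lc_f_rc_14_3 lc_f_rc_20_1 lc_f_rc_21_1 lc_f_rc_14_1 lc_f_Cert_tree lc_f_rc_17_3 lc_f_Cert_tree lc_f_rc_10_1 lc_f_rc_10_3 lc_f_rc_14_1 lc_f_rc_17_1 lc_f_rc_21_1 lc_f_rc_20_1 lc_f_rc_14_1 lc_f_rc_21_1 lc_f_rc_20_1 lc_f_rc_21_1 lc_f_rc_10_3 lc_f_rc_10_1 lc_f_rc_22_1 lc_f_rc_10_3 lc_f_rc_14_3 lc_f_rc_21_1 lc_f_rc_17_3 lc_f_rc_21_1 lc_f_rc_17_3 lc_f_rc_14_3 lc_f_rc_10_3 lc_f_rc_19_5 lc_f_rc_17_3 lc_f_rc_10_3 lc_f_rc_10_1 lc_f_rc_14_3 lc_f_rc_10_3 lc_f_rc_10_1) (@D3.rec (fun _ => (Cert rels S Gen.f))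 lc_f_rc_14_3 lc_f_rc_10_3 lc_f_rc_5_1 lc_f_rc_20_1 lc_f_rc_5_1 lc_f_rc_14_3 lc_f_rc_14_3 lc_f_rc_5_3 lc_f_rc_10_3 lc_f_rc_10_3 lc_f_rc_10_3 lc_f_rc_5_1 lc_f_rc_14_3 lc_f_rc_17_3 lc_f_rc_21_1 lc_f_rc_5_1 lc_f_rc_10_3 lc_f_rc_5_3 lc_f_rc_10_3 lc_f_Cert_tree lc_f_rc_17_3 lc_f_Cert_tree lc_f_rc_10_3 lc_f_Cert_tree lc_f_rc_14_3 lc_f_rc_14_3 lc_f_rc_19_5 lc_f_rc_19_1 lc_f_rc_14_1 lc_f_rc_17_1 lc_f_rc_19_1 lc_f_rc_10_3 lc_f_rc_17_1 lc_f_rc_17_3 lc_f_rc_17_3 lc_f_rc_10_1 lc_f_rc_14_3 lc_f_rc_14_3 lc_f_rc_21_1 lc_f_rc_5_1 lc_f_rc_14_3 lc_f_rc_21_1 lc_f_rc_20_1 lc_f_rc_20_1 lc_f_rc_14_3 lc_f_rc_10_3 lc_f_rc_17_3 lc_f_rc_21_1 lc_f_rc_20_1 lc_f_rc_17_3 lc_f_rc_5_3 lc_f_rc_14_3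 lc_f_rc_14_3 lc_f_rc_10_3 lc_f_rc_20_1 lc_f_rc_10_3 lc_f_rc_5_1 lc_f_rc_5_3 lc_f_rc_17_3 lc_f_rc_17_3 lc_f_rc_10_3 lc_f_rc_10_3) (@D3.rec (fun _ => (Cert rels S Gen.f)) lc_f_rc_20_1 lc_f_rc_17_3 lc_f_Cert_tree lc_f_rc_14_3 lc_f_Cert_tree lc_f_rc_19_5 lc_f_rc_14_3 lc_f_rc_17_1 lc_f_rc_20_1 lc_f_rc_14_3 lc_f_rc_17_1 lc_f_Cert_tree lc_f_rc_20_1 lc_f_rc_10_3 lc_f_rc_17_3 lc_f_rc_10_1 lc_f_rc_17_3 lc_f_rc_5_3 lc_f_rc_17_1 lc_f_rc_17_3 lc_f_rc_5_3 lc_f_rc_20_1 lc_f_rc_10_3 lc_f_rc_17_3 lc_f_rc_10_3 lc_f_rc_17_3 lc_f_rc_21_1 lc_f_rc_20_1 lc_f_rc_20_1 lc_f_rc_17_1 lc_f_rc_14_1 lc_f_rc_14_3 lc_f_rc_10_3 lc_f_rc_20_1 lc_f_rc_10_1 lc_f_rc_19_5 lc_f_rc_21_1 lc_f_rc_22_1 lc_f_rc_19_5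 lc_f_rc_19_3 lc_f_Cert_tree lc_f_rc_20_1 lc_f_rc_14_3 lc_f_rc_17_3 lc_f_rc_17_3 lc_f_rc_19_5 lc_f_rc_20_1 lc_f_rc_14_3 lc_f_rc_14_3 lc_f_rc_10_1 lc_f_rc_17_3 lc_f_Cert_tree lc_f_rc_17_1 lc_f_rc_21_1 lc_f_rc_21_1 lc_f_Cert_tree lc_f_rc_17_1 lc_f_rc_17_3 lc_f_Cert_tree lc_f_rc_20_1 lc_f_rc_14_3 lc_f_rc_17_3) (@D3.rec (fun _ => (Cert rels S Gen.f)) lc_f_rc_14_3 lc_f_rc_19_3 lc_f_Cert_tree lc_f_rc_14_3 lc_f_rc_20_1 lc_f_rc_21_1 lc_f_rc_17_3 lc_f_rc_17_3 lc_f_rc_14_3 lc_f_rc_14_3 lc_f_rc_20_1 lc_f_rc_21_1 lc_f_Cert_tree lc_f_rc_20_1 lc_f_rc_5_3 lc_f_rc_17_3 lc_f_rc_14_3 lc_f_rc_17_3 lc_f_rc_14_3 lc_f_rc_10_3 lc_f_rc_17_3 lc_f_rc_10_3 lc_f_rc_17_3 lc_f_rc_14_3 lc_f_rc_20_1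 lc_f_rc_20_1 lc_f_rc_17_3 lc_f_rc_14_3 lc_f_rc_19_5 lc_f_rc_19_3 lc_f_rc_20_1 lc_f_rc_21_1 lc_f_rc_21_1 lc_f_rc_14_3 lc_f_rc_10_3 lc_f_rc_14_3 lc_f_rc_10_3 lc_f_rc_21_1 lc_f_rc_14_3 lc_f_rc_21_1 lc_f_rc_17_3 lc_f_rc_19_1 lc_f_rc_14_3 lc_f_rc_20_1 lc_f_rc_10_3 lc_f_rc_14_3 lc_f_rc_19_5 lc_f_rc_21_1 lc_f_rc_20_1 lc_f_rc_14_3 lc_f_rc_5_1 lc_f_rc_20_1 lc_f_rc_14_3 lc_f_rc_20_1 lc_f_rc_10_3 lc_f_rc_20_1 lc_f_rc_5_1 lc_f_rc_5_1 lc_f_rc_14_3 lc_f_rc_14_3 lc_f_rc_10_1 lc_f_rc_17_3)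
def ce_f_20 : D2 → D3 → (Cert rels S Gen.f) := @D2.rec (fun _ => D3 → (Cert rels S Gen.f)) (@D3.rec (fun _ => (Cert rels S Gen.f)) lc_f_rc_5_3 lc_f_rc_14_1 lc_f_rc_10_3 lc_f_rc_14_1 lc_f_rc_10_3 lc_f_rc_22_1 lc_f_rc_20_1 lc_f_rc_20_1 lc_f_rc_14_3 lc_f_rc_10_1 lc_f_rc_14_1 lc_f_rc_17_3 lc_f_rc_20_1 lc_f_rc_10_1 lc_f_rc_17_3 lc_f_rc_19_1 lc_f_rc_5_3 lc_f_rc_21_1 lc_f_rc_14_3 lc_f_rc_20_1 lc_f_rc_19_1 lc_f_rc_19_1 lc_f_rc_14_3 lc_f_Cert_tree lc_f_rc_21_1 lc_f_rc_20_1 lc_f_rc_5_3 lc_f_rc_20_1 lc_f_rc_14_3 lc_f_rc_17_3 lc_f_rc_19_1 lc_f_rc_20_1 lc_f_rc_22_1 lc_f_rc_17_3 lc_f_Cert_tree lc_f_rc_21_1 lc_f_rc_21_1 lc_f_rc_14_3 lc_f_rc_10_3 lc_f_rc_21_1 lc_f_rc_20_1 lc_f_rc_10_3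 lc_f_rc_20_1 lc_f_Cert_tree lc_f_rc_5_3 lc_f_rc_10_3 lc_f_Cert_tree lc_f_Cert_tree lc_f_rc_21_1 lc_f_rc_20_1 lc_f_rc_17_1 lc_f_rc_20_1 lc_f_rc_17_1 lc_f_rc_19_5 lc_f_rc_14_3 lc_f_Cert_tree lc_f_rc_14_1 lc_f_rc_19_5 lc_f_rc_20_1 lc_f_rc_10_3 lc_f_rc_17_3 lc_f_rc_20_1) (@D3.rec (fun _ => (Cert rels S Gen.f)) lc_f_rc_22_1 lc_f_rc_17_3 lc_f_rc_20_1 lc_f_rc_19_1 lc_f_rc_17_3 lc_f_Cert_tree lc_f_rc_20_1 lc_f_rc_10_1 lc_f_rc_14_3 lc_f_rc_20_1 lc_f_rc_14_3 lc_f_rc_20_1 lc_f_rc_10_3 lc_f_rc_17_3 lc_f_rc_10_3 lc_f_rc_5_3 lc_f_rc_10_1 lc_f_rc_10_1 lc_f_rc_14_1 lc_f_Cert_tree lc_f_rc_20_1 lc_f_Cert_tree lc_f_rc_17_3 lc_f_Cert_tree lc_f_rc_14_3 lc_f_rc_14_3 lc_f_rc_19_5 lc_f_rc_20_1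 lc_f_rc_14_3 lc_f_rc_17_3 lc_f_rc_17_3 lc_f_rc_10_3 lc_f_rc_14_3 lc_f_rc_21_1 lc_f_rc_14_3 lc_f_rc_10_1 lc_f_rc_10_3 lc_f_rc_17_3 lc_f_rc_14_1 lc_f_rc_17_1 lc_f_rc_20_1 lc_f_rc_21_1 lc_f_rc_10_3 lc_f_rc_17_3 lc_f_rc_20_1 lc_f_rc_21_1 lc_f_rc_10_1 lc_f_rc_14_3 lc_f_rc_19_3 lc_f_rc_21_1 lc_f_rc_17_3 lc_f_rc_17_3 lc_f_rc_17_3 lc_f_Cert_tree lc_f_rc_20_1 lc_f_rc_10_3 lc_f_rc_10_3 lc_f_rc_20_1 lc_f_rc_19_3 lc_f_Cert_tree lc_f_rc_10_3 lc_f_rc_20_1) (@D3.rec (fun _ => (Cert rels S Gen.f)) lc_f_rc_5_1 lc_f_rc_14_1 lc_f_rc_10_3 lc_f_rc_5_1 lc_f_rc_10_3 lc_f_rc_14_1 lc_f_rc_14_1 lc_f_rc_20_1 lc_f_rc_14_3 lc_f_rc_14_3 lc_f_rc_20_1 lc_f_rc_5_3 lc_f_rc_17_1 lc_f_rc_19_3 lc_f_Cert_tree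 lc_f_rc_20_1 lc_f_rc_21_1 lc_f_Cert_tree lc_f_rc_20_1 lc_f_rc_19_5 lc_f_rc_17_3 lc_f_rc_10_3 lc_f_rc_17_3 lc_f_rc_21_1 lc_f_rc_17_3 lc_f_rc_20_1 lc_f_Cert_tree lc_f_rc_20_1 lc_f_rc_10_3 lc_f_rc_10_3 lc_f_Cert_tree lc_f_rc_20_1 lc_f_rc_10_3 lc_f_Cert_tree lc_f_rc_20_1 lc_f_rc_14_3 lc_f_rc_20_1 lc_f_rc_10_3 lc_f_rc_5_1 lc_f_rc_5_1 lc_f_rc_17_3 lc_f_rc_20_1 lc_f_rc_10_3 lc_f_rc_22_1 lc_f_rc_17_3 lc_f_rc_14_3 lc_f_rc_14_3 lc_f_rc_20_1 lc_f_rc_14_3 lc_f_rc_14_3 lc_f_rc_22_1 lc_f_rc_20_1 lc_f_rc_17_3 lc_f_rc_17_3 lc_f_Cert_tree lc_f_rc_20_1 lc_f_rc_21_1 lc_f_rc_21_1 lc_f_rc_5_1 lc_f_rc_14_3 lc_f_Cert_tree lc_f_rc_21_1) (@D3.rec (fun _ => (Cert rels S Gen.f)) lc_f_rc_17_1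 lc_f_rc_10_1 lc_f_rc_20_1 lc_f_rc_5_3 lc_f_rc_17_3 lc_f_rc_20_1 lc_f_rc_10_3 lc_f_Cert_tree lc_f_rc_17_3 lc_f_rc_20_1 lc_f_Cert_tree lc_f_rc_20_1 lc_f_rc_17_3 lc_f_rc_10_3 lc_f_Cert_tree lc_f_rc_21_1 lc_f_Cert_tree lc_f_rc_20_1 lc_f_rc_10_3 lc_f_rc_14_3 lc_f_rc_19_5 lc_f_rc_17_3 lc_f_rc_21_1 lc_f_rc_14_1 lc_f_rc_10_3 lc_f_rc_14_3 lc_f_rc_5_3 lc_f_rc_17_3 lc_f_rc_10_3 lc_f_rc_17_3 lc_f_rc_17_3 lc_f_rc_14_3 lc_f_rc_21_1 lc_f_rc_17_3 lc_f_rc_14_1 lc_f_rc_22_1 lc_f_rc_5_1 lc_f_Cert_tree lc_f_rc_14_3 lc_f_rc_21_1 lc_f_rc_5_1 lc_f_rc_20_1 lc_f_rc_14_3 lc_f_rc_20_1 lc_f_rc_10_3 lc_f_rc_5_3 lc_f_rc_5_3 lc_f_rc_10_3 lc_f_rc_10_3 lc_f_rc_17_3 lc_f_rc_21_1 lc_f_rc_14_3 lc_f_rc_14_3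 lc_f_rc_21_1 lc_f_rc_14_3 lc_f_rc_17_3 lc_f_rc_14_3 lc_f_Cert_tree lc_f_rc_10_3 lc_f_rc_5_1 lc_f_rc_5_1 lc_f_rc_20_1) (@D3.rec (fun _ => (Cert rels S Gen.f)) lc_f_rc_20_1 lc_f_rc_20_1 lc_f_rc_5_3 lc_f_rc_14_3 lc_f_rc_10_3 lc_f_rc_17_1 lc_f_rc_14_3 lc_f_rc_14_3 lc_f_rc_21_1 lc_f_rc_17_3 lc_f_rc_17_1 lc_f_rc_19_5 lc_f_rc_17_3 lc_f_rc_14_3 lc_f_rc_14_3 lc_f_rc_10_1 lc_f_rc_21_1 lc_f_rc_14_3 lc_f_rc_20_1 lc_f_rc_20_1 lc_f_rc_5_3 lc_f_rc_17_3 lc_f_rc_10_3 lc_f_Cert_tree lc_f_rc_17_3 lc_f_rc_19_1 lc_f_rc_17_3 lc_f_rc_17_1 lc_f_rc_20_1 lc_f_rc_17_1 lc_f_rc_20_1 lc_f_rc_21_1 lc_f_rc_19_3 lc_f_rc_19_3 lc_f_rc_17_3 lc_f_rc_17_3 lc_f_rc_14_3 lc_f_rc_17_1 lc_f_rc_19_3 lc_f_rc_19_5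 lc_f_rc_20_1 lc_f_Cert_tree lc_f_rc_14_3 lc_f_Cert_tree lc_f_rc_20_1 lc_f_rc_10_3 lc_f_rc_17_3 lc_f_rc_19_1 lc_f_rc_21_1 lc_f_rc_21_1 lc_f_rc_20_1 lc_f_rc_19_5 lc_f_rc_19_3 lc_f_rc_21_1 lc_f_rc_14_1 lc_f_rc_10_3 lc_f_rc_14_1 lc_f_rc_21_1 lc_f_rc_10_3 lc_f_rc_14_3 lc_f_rc_19_1 lc_f_rc_5_3) (@D3.rec (fun _ => (Cert rels S Gen.f)) lc_f_rc_21_1 lc_f_rc_10_3 lc_f_rc_10_1 lc_f_rc_21_1 lc_f_rc_5_1 lc_f_rc_20_1 lc_f_rc_10_3 lc_f_rc_5_1 lc_f_rc_20_1 lc_f_rc_20_1 lc_f_rc_19_3 lc_f_rc_17_3 lc_f_rc_5_1 lc_f_rc_10_3 lc_f_rc_17_3 lc_f_rc_14_3 lc_f_rc_14_1 lc_f_Cert_tree lc_f_rc_14_3 lc_f_rc_21_1 lc_f_rc_17_3 lc_f_rc_21_1 lc_f_rc_5_1 lc_f_rc_19_5 lc_f_rc_14_1 lc_f_rc_14_3 lc_f_rc_10_3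 lc_f_rc_17_3 lc_f_rc_22_1 lc_f_rc_17_1 lc_f_rc_14_3 lc_f_rc_21_1 lc_f_rc_14_3 lc_f_rc_19_1 lc_f_rc_14_1 lc_f_rc_5_3 lc_f_rc_19_5 lc_f_rc_19_5 lc_f_rc_21_1 lc_f_rc_5_1 lc_f_rc_17_3 lc_f_rc_17_1 lc_f_rc_19_5 lc_f_rc_17_3 lc_f_rc_5_3 lc_f_rc_10_3 lc_f_rc_20_1 lc_f_rc_10_3 lc_f_rc_17_3 lc_f_rc_5_1 lc_f_rc_5_3 lc_f_rc_10_3 lc_f_rc_10_3 lc_f_rc_5_1 lc_f_rc_20_1 lc_f_rc_14_3 lc_f_rc_17_1 lc_f_rc_20_1 lc_f_rc_21_1 lc_f_rc_20_1 lc_f_rc_20_1 lc_f_rc_10_3) (@D3.rec (fun _ => (Cert rels S Gen.f)) lc_f_rc_10_3 lc_f_rc_20_1 lc_f_rc_17_3 lc_f_rc_21_1 lc_f_rc_19_3 lc_f_rc_19_3 lc_f_rc_21_1 lc_f_rc_20_1 lc_f_rc_17_1 lc_f_rc_20_1 lc_f_rc_14_1 lc_f_rc_14_3 lc_f_rc_14_1 lc_f_rc_19_3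 lc_f_rc_20_1 lc_f_rc_14_3 lc_f_rc_20_1 lc_f_rc_5_3 lc_f_rc_17_3 lc_f_rc_10_1 lc_f_rc_14_3 lc_f_rc_20_1 lc_f_rc_19_3 lc_f_rc_19_1 lc_f_rc_17_1 lc_f_rc_19_3 lc_f_Cert_tree lc_f_rc_20_1 lc_f_Cert_tree lc_f_rc_14_3 lc_f_rc_10_3 lc_f_rc_17_3 lc_f_rc_21_1 lc_f_rc_10_3 lc_f_rc_14_3 lc_f_rc_17_1 lc_f_rc_21_1 lc_f_rc_14_3 lc_f_rc_5_3 lc_f_rc_5_3 lc_f_rc_17_3 lc_f_rc_22_1 lc_f_rc_17_3 lc_f_rc_20_1 lc_f_rc_20_1 lc_f_rc_20_1 lc_f_rc_20_1 lc_f_rc_17_3 lc_f_rc_20_1 lc_f_rc_14_3 lc_f_rc_21_1 lc_f_rc_14_3 lc_f_rc_19_1 lc_f_rc_14_1 lc_f_rc_14_1 lc_f_rc_10_3 lc_f_rc_10_1 lc_f_rc_20_1 lc_f_Cert_tree lc_f_rc_20_1 lc_f_rc_19_5 lc_f_rc_21_1) (@D3.rec (fun _ => (Cert rels S Gen.f))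 lc_f_rc_14_3 lc_f_rc_10_3 lc_f_rc_10_3 lc_f_rc_10_3 lc_f_rc_10_3 lc_f_rc_10_3 lc_f_Cert_tree lc_f_rc_21_1 lc_f_rc_17_3 lc_f_rc_20_1 lc_f_rc_21_1 lc_f_rc_20_1 lc_f_rc_21_1 lc_f_rc_10_1 lc_f_rc_14_3 lc_f_rc_14_3 lc_f_rc_19_5 lc_f_rc_14_3 lc_f_rc_19_1 lc_f_rc_17_1 lc_f_rc_20_1 lc_f_rc_21_1 lc_f_rc_14_3 lc_f_rc_19_3 lc_f_rc_17_3 lc_f_rc_5_3 lc_f_rc_17_3 lc_f_rc_14_3 lc_f_rc_17_3 lc_f_rc_17_3 lc_f_rc_19_5 lc_f_rc_14_3 lc_f_rc_5_3 lc_f_rc_21_1 lc_f_rc_20_1 lc_f_rc_5_3 lc_f_rc_5_3 lc_f_rc_10_3 lc_f_rc_19_3 lc_f_rc_10_3 lc_f_rc_17_3 lc_f_rc_10_3 lc_f_Cert_tree lc_f_rc_21_1 lc_f_rc_17_3 lc_f_rc_21_1 lc_f_rc_17_3 lc_f_rc_17_3 lc_f_rc_5_3 lc_f_rc_17_3 lc_f_rc_10_3 lc_f_rc_17_3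 lc_f_rc_19_5 lc_f_rc_10_3 lc_f_rc_19_3 lc_f_rc_20_1 lc_f_Cert_tree lc_f_rc_20_1 lc_f_rc_19_3 lc_f_rc_5_1 lc_f_rc_14_3 lc_f_rc_19_1) (@D3.rec (fun _ => (Cert rels S Gen.f)) lc_f_rc_14_3 lc_f_rc_17_3 lc_f_rc_19_5 lc_f_rc_21_1 lc_f_rc_20_1 lc_f_rc_14_3 lc_f_rc_14_3 lc_f_rc_20_1 lc_f_rc_17_3 lc_f_rc_20_1 lc_f_rc_17_1 lc_f_rc_14_1 lc_f_rc_5_1 lc_f_rc_20_1 lc_f_rc_10_1 lc_f_rc_17_3 lc_f_rc_19_3 lc_f_rc_17_3 lc_f_rc_10_1 lc_f_rc_5_3 lc_f_rc_22_1 lc_f_rc_17_3 lc_f_rc_14_1 lc_f_rc_20_1 lc_f_rc_17_3 lc_f_rc_20_1 lc_f_rc_17_3 lc_f_rc_14_3 lc_f_rc_21_1 lc_f_Cert_tree lc_f_rc_14_1 lc_f_rc_10_3 lc_f_rc_21_1 lc_f_rc_10_1 lc_f_rc_14_3 lc_f_rc_20_1 lc_f_rc_21_1 lc_f_rc_21_1 lc_f_rc_10_1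 lc_f_rc_14_1 lc_f_rc_21_1 lc_f_rc_19_5 lc_f_rc_10_3 lc_f_rc_10_1 lc_f_rc_10_1 lc_f_Cert_tree lc_f_rc_20_1 lc_f_rc_21_1 lc_f_rc_19_5 lc_f_rc_14_3 lc_f_rc_17_1 lc_f_Cert_tree lc_f_rc_22_1 lc_f_rc_20_1 lc_f_rc_14_3 lc_f_rc_10_3 lc_f_rc_19_3 lc_f_rc_17_1 lc_f_rc_17_3 lc_f_rc_20_1 lc_f_rc_20_1 lc_f_rc_10_3) (@D3.rec (fun _ => (Cert rels S Gen.f)) lc_f_rc_17_3 lc_f_rc_19_5 lc_f_rc_20_1 lc_f_rc_17_1 lc_f_rc_20_1 lc_f_rc_10_3 lc_f_rc_21_1 lc_f_rc_10_3 lc_f_rc_19_5 lc_f_rc_10_3 lc_f_rc_21_1 lc_f_rc_19_3 lc_f_rc_21_1 lc_f_rc_17_1 lc_f_rc_14_3 lc_f_Cert_tree lc_f_rc_5_3 lc_f_rc_17_3 lc_f_rc_14_1 lc_f_rc_21_1 lc_f_rc_22_1 lc_f_rc_19_5 lc_f_rc_14_3 lc_f_rc_5_1 lc_f_rc_20_1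 lc_f_rc_5_1 lc_f_rc_20_1 lc_f_rc_5_1 lc_f_rc_14_3 lc_f_rc_20_1 lc_f_rc_19_1 lc_f_rc_20_1 lc_f_rc_14_3 lc_f_rc_14_3 lc_f_rc_14_1 lc_f_rc_14_3 lc_f_rc_19_3 lc_f_rc_20_1 lc_f_rc_5_3 lc_f_rc_14_3 lc_f_rc_17_3 lc_f_rc_19_3 lc_f_rc_5_3 lc_f_rc_19_3 lc_f_rc_19_3 lc_f_rc_17_1 lc_f_rc_17_1 lc_f_rc_10_1 lc_f_rc_21_1 lc_f_rc_14_3 lc_f_rc_19_3 lc_f_rc_10_1 lc_f_rc_22_1 lc_f_rc_10_1 lc_f_rc_19_1 lc_f_rc_5_3 lc_f_rc_5_3 lc_f_rc_20_1 lc_f_rc_17_1 lc_f_rc_5_3 lc_f_rc_14_1 lc_f_rc_17_3) (@D3.rec (fun _ => (Cert rels S Gen.f)) lc_f_rc_21_1 lc_f_rc_14_1 lc_f_rc_14_1 lc_f_rc_17_3 lc_f_rc_17_3 lc_f_rc_17_3 lc_f_rc_17_3 lc_f_rc_21_1 lc_f_rc_5_1 lc_f_rc_17_3 lc_f_rc_20_1 lc_f_rc_21_1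 lc_f_rc_17_3 lc_f_rc_14_3 lc_f_Cert_tree lc_f_rc_14_3 lc_f_rc_21_1 lc_f_rc_17_1 lc_f_rc_10_3 lc_f_rc_14_3 lc_f_rc_10_3 lc_f_rc_10_1 lc_f_rc_17_3 lc_f_rc_17_3 lc_f_rc_17_3 lc_f_rc_21_1 lc_f_rc_20_1 lc_f_rc_10_3 lc_f_rc_10_3 lc_f_Cert_tree lc_f_rc_20_1 lc_f_rc_14_3 lc_f_rc_5_1 lc_f_rc_20_1 lc_f_rc_5_1 lc_f_rc_10_3 lc_f_rc_17_1 lc_f_rc_17_3 lc_f_rc_14_3 lc_f_rc_14_3 lc_f_rc_10_3 lc_f_rc_14_3 lc_f_rc_19_5 lc_f_rc_20_1 lc_f_rc_10_3 lc_f_rc_14_3 lc_f_rc_19_3 lc_f_rc_21_1 lc_f_rc_20_1 lc_f_rc_20_1 lc_f_rc_17_3 lc_f_rc_14_3 lc_f_rc_10_3 lc_f_rc_21_1 lc_f_rc_19_3 lc_f_rc_20_1 lc_f_rc_10_3 lc_f_rc_20_1 lc_f_rc_10_3 lc_f_rc_17_3 lc_f_rc_21_1 lc_f_rc_20_1) (@D3.rec (fun _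 => (Cert rels S Gen.f)) lc_f_rc_14_3 lc_f_rc_17_1 lc_f_Cert_tree lc_f_rc_10_3 lc_f_rc_17_3 lc_f_rc_14_3 lc_f_rc_17_1 lc_f_rc_17_1 lc_f_rc_5_3 lc_f_rc_17_3 lc_f_rc_14_3 lc_f_Cert_tree lc_f_rc_20_1 lc_f_rc_21_1 lc_f_rc_5_3 lc_f_rc_20_1 lc_f_Cert_tree lc_f_rc_5_3 lc_f_rc_14_3 lc_f_rc_17_3 lc_f_rc_21_1 lc_f_Cert_tree lc_f_rc_10_3 lc_f_rc_20_1 lc_f_rc_17_1 lc_f_rc_5_1 lc_f_rc_14_3 lc_f_rc_17_3 lc_f_rc_10_1 lc_f_rc_17_3 lc_f_rc_17_3 lc_f_Cert_tree lc_f_rc_14_1 lc_f_rc_21_1 lc_f_Cert_tree lc_f_rc_20_1 lc_f_rc_20_1 lc_f_rc_5_3 lc_f_rc_10_3 lc_f_rc_14_1 lc_f_rc_10_1 lc_f_rc_10_1 lc_f_rc_14_3 lc_f_rc_21_1 lc_f_rc_14_3 lc_f_rc_17_1 lc_f_rc_20_1 lc_f_rc_21_1 lc_f_rc_10_1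 lc_f_rc_19_3 lc_f_rc_5_3 lc_f_rc_14_3 lc_f_rc_19_5 lc_f_rc_5_1 lc_f_rc_17_3 lc_f_rc_19_3 lc_f_rc_17_3 lc_f_rc_20_1 lc_f_Cert_tree lc_f_rc_14_3 lc_f_rc_21_1 lc_f_rc_10_1) (@D3.rec (fun _ => (Cert rels S Gen.f)) lc_f_rc_14_3 lc_f_rc_21_1 lc_f_rc_10_3 lc_f_rc_20_1 lc_f_rc_10_3 lc_f_rc_21_1 lc_f_rc_14_3 lc_f_rc_10_1 lc_f_rc_17_3 lc_f_rc_5_1 lc_f_rc_5_1 lc_f_rc_17_3 lc_f_rc_5_1 lc_f_rc_21_1 lc_f_rc_20_1 lc_f_rc_14_3 lc_f_rc_14_1 lc_f_rc_19_1 lc_f_rc_17_1 lc_f_rc_20_1 lc_f_rc_5_3 lc_f_rc_17_1 lc_f_rc_20_1 lc_f_rc_5_1 lc_f_Cert_tree lc_f_rc_21_1 lc_f_rc_10_3 lc_f_rc_5_1 lc_f_rc_20_1 lc_f_rc_10_3 lc_f_rc_5_1 lc_f_rc_17_3 lc_f_rc_14_3 lc_f_rc_20_1 lc_f_rc_14_3 lc_f_rc_17_3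 lc_f_rc_20_1 lc_f_rc_19_5 lc_f_rc_10_3 lc_f_rc_17_3 lc_f_rc_10_3 lc_f_rc_21_1 lc_f_rc_14_3 lc_f_rc_21_1 lc_f_rc_21_1 lc_f_rc_10_3 lc_f_rc_19_1 lc_f_rc_20_1 lc_f_rc_21_1 lc_f_rc_20_1 lc_f_rc_10_3 lc_f_rc_17_3 lc_f_rc_17_3 lc_f_rc_20_1 lc_f_rc_17_3 lc_f_rc_5_3 lc_f_rc_14_3 lc_f_rc_20_1 lc_f_rc_21_1 lc_f_rc_14_3 lc_f_rc_17_1 lc_f_rc_14_3) (@D3.rec (fun _ => (Cert rels S Gen.f)) lc_f_rc_17_3 lc_f_rc_20_1 lc_f_rc_5_1 lc_f_rc_17_3 lc_f_rc_19_1 lc_f_rc_21_1 lc_f_rc_10_1 lc_f_rc_17_3 lc_f_rc_14_3 lc_f_rc_17_1 lc_f_rc_19_3 lc_f_rc_14_3 lc_f_rc_17_3 lc_f_rc_21_1 lc_f_rc_19_3 lc_f_rc_17_3 lc_f_rc_21_1 lc_f_rc_20_1 lc_f_rc_20_1 lc_f_rc_5_1 lc_f_rc_14_1 lc_f_rc_17_1 lc_f_rc_5_3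 lc_f_rc_20_1 lc_f_rc_5_3 lc_f_rc_20_1 lc_f_rc_20_1 lc_f_rc_14_1 lc_f_rc_17_3 lc_f_Cert_tree lc_f_rc_17_1 lc_f_rc_5_3 lc_f_rc_14_3 lc_f_rc_21_1 lc_f_rc_20_1 lc_f_rc_20_1 lc_f_Cert_tree lc_f_rc_20_1 lc_f_rc_20_1 lc_f_rc_14_1 lc_f_rc_20_1 lc_f_rc_20_1 lc_f_rc_10_3 lc_f_rc_14_1 lc_f_rc_19_3 lc_f_rc_14_1 lc_f_rc_5_3 lc_f_rc_20_1 lc_f_rc_17_3 lc_f_rc_5_3 lc_f_rc_10_1 lc_f_rc_22_1 lc_f_rc_20_1 lc_f_rc_20_1 lc_f_rc_10_3 lc_f_rc_14_3 lc_f_rc_5_3 lc_f_rc_20_1 lc_f_rc_19_1 lc_f_rc_20_1 lc_f_rc_21_1 lc_f_rc_20_1) (@D3.rec (fun _ => (Cert rels S Gen.f)) lc_f_rc_19_3 lc_f_rc_14_3 lc_f_rc_14_3 lc_f_rc_5_1 lc_f_rc_21_1 lc_f_rc_20_1 lc_f_rc_19_3 lc_f_rc_5_1 lc_f_rc_14_3 lc_f_rc_14_1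 lc_f_rc_20_1 lc_f_rc_14_3 lc_f_rc_10_1 lc_f_rc_19_1 lc_f_rc_14_3 lc_f_rc_21_1 lc_f_rc_5_3 lc_f_rc_14_3 lc_f_rc_10_3 lc_f_rc_10_1 lc_f_rc_10_3 lc_f_rc_19_1 lc_f_rc_10_3 lc_f_rc_17_3 lc_f_rc_5_3 lc_f_rc_10_3 lc_f_rc_10_1 lc_f_rc_14_3 lc_f_rc_14_1 lc_f_rc_19_3 lc_f_rc_10_3 lc_f_rc_14_3 lc_f_rc_17_1 lc_f_rc_20_1 lc_f_rc_10_3 lc_f_rc_19_1 lc_f_rc_10_3 lc_f_rc_17_3 lc_f_rc_17_3 lc_f_rc_20_1 lc_f_rc_20_1 lc_f_rc_21_1 lc_f_rc_14_3 lc_f_rc_17_3 lc_f_rc_21_1 lc_f_rc_14_1 lc_f_rc_20_1 lc_f_rc_21_1 lc_f_rc_17_3 lc_f_rc_17_1 lc_f_rc_20_1 lc_f_rc_17_3 lc_f_rc_17_3 lc_f_rc_20_1 lc_f_rc_5_3 lc_f_rc_19_1 lc_f_rc_20_1 lc_f_rc_20_1 lc_f_rc_17_3 lc_f_rc_20_1 lc_f_rc_5_1 lc_f_Cert_tree)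 (@D3.rec (fun _ => (Cert rels S Gen.f)) lc_f_Cert_tree lc_f_rc_20_1 lc_f_rc_14_3 lc_f_rc_20_1 lc_f_rc_17_3 lc_f_rc_10_3 lc_f_rc_10_3 lc_f_rc_17_3 lc_f_rc_17_1 lc_f_rc_10_3 lc_f_rc_17_1 lc_f_rc_19_3 lc_f_rc_5_1 lc_f_rc_14_3 lc_f_rc_10_3 lc_f_rc_20_1 lc_f_rc_5_3 lc_f_rc_17_1 lc_f_rc_14_3 lc_f_rc_14_3 lc_f_rc_17_1 lc_f_rc_14_3 lc_f_rc_14_3 lc_f_rc_14_3 lc_f_rc_14_3 lc_f_rc_21_1 lc_f_rc_10_1 lc_f_rc_22_1 lc_f_rc_20_1 lc_f_rc_10_1 lc_f_rc_14_3 lc_f_Cert_tree lc_f_rc_5_3 lc_f_Cert_tree lc_f_rc_17_1 lc_f_rc_17_3 lc_f_rc_20_1 lc_f_rc_5_3 lc_f_rc_14_3 lc_f_rc_21_1 lc_f_rc_17_3 lc_f_rc_14_3 lc_f_rc_10_3 lc_f_rc_14_3 lc_f_rc_14_3 lc_f_rc_17_3 lc_f_rc_17_3 lc_f_rc_14_3 lc_f_rc_5_3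 lc_f_rc_20_1 lc_f_rc_17_3 lc_f_rc_14_1 lc_f_rc_20_1 lc_f_rc_10_3 lc_f_rc_5_3 lc_f_rc_17_1 lc_f_rc_21_1 lc_f_rc_21_1 lc_f_rc_21_1 lc_f_rc_19_3 lc_f_rc_20_1 lc_f_rc_19_3) (@D3.rec (fun _ => (Cert rels S Gen.f)) lc_f_rc_14_3 lc_f_rc_19_3 lc_f_rc_20_1 lc_f_rc_19_5 lc_f_rc_10_1 lc_f_rc_17_3 lc_f_rc_17_3 lc_f_rc_17_3 lc_f_rc_20_1 lc_f_rc_10_3 lc_f_rc_17_1 lc_f_rc_14_3 lc_f_rc_22_1 lc_f_rc_19_5 lc_f_rc_19_1 lc_f_rc_14_3 lc_f_rc_14_3 lc_f_rc_14_3 lc_f_rc_17_3 lc_f_rc_17_3 lc_f_rc_17_3 lc_f_rc_14_3 lc_f_rc_21_1 lc_f_rc_17_3 lc_f_rc_17_1 lc_f_rc_20_1 lc_f_rc_5_3 lc_f_rc_5_3 lc_f_rc_5_3 lc_f_rc_10_1 lc_f_rc_20_1 lc_f_rc_19_5 lc_f_rc_20_1 lc_f_rc_10_3 lc_f_rc_10_1 lc_f_rc_21_1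 lc_f_rc_21_1 lc_f_rc_20_1 lc_f_rc_5_1 lc_f_rc_20_1 lc_f_rc_21_1 lc_f_rc_17_1 lc_f_rc_17_1 lc_f_rc_21_1 lc_f_rc_20_1 lc_f_rc_5_1 lc_f_rc_22_1 lc_f_rc_14_1 lc_f_rc_21_1 lc_f_rc_20_1 lc_f_rc_10_3 lc_f_rc_22_1 lc_f_rc_5_1 lc_f_rc_17_1 lc_f_rc_21_1 lc_f_rc_14_1 lc_f_rc_14_1 lc_f_rc_14_3 lc_f_rc_20_1 lc_f_rc_5_1 lc_f_rc_10_3 lc_f_rc_10_3) (@D3.rec (fun _ => (Cert rels S Gen.f)) lc_f_rc_17_3 lc_f_rc_10_3 lc_f_rc_17_3 lc_f_rc_10_3 lc_f_rc_21_1 lc_f_rc_14_1 lc_f_rc_21_1 lc_f_rc_10_1 lc_f_rc_14_3 lc_f_rc_17_3 lc_f_rc_21_1 lc_f_rc_14_1 lc_f_rc_17_3 lc_f_rc_5_1 lc_f_rc_20_1 lc_f_rc_14_3 lc_f_rc_21_1 lc_f_rc_10_3 lc_f_rc_17_1 lc_f_rc_5_1 lc_f_rc_17_1 lc_f_rc_5_1 lc_f_rc_10_1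 lc_f_rc_5_1 lc_f_rc_10_3 lc_f_rc_21_1 lc_f_rc_20_1 lc_f_rc_14_1 lc_f_rc_5_3 lc_f_rc_10_1 lc_f_rc_10_1 lc_f_rc_17_1 lc_f_rc_19_3 lc_f_rc_20_1 lc_f_rc_10_1 lc_f_rc_17_1 lc_f_rc_20_1 lc_f_rc_17_3 lc_f_rc_10_1 lc_f_rc_20_1 lc_f_rc_14_3 lc_f_rc_10_3 lc_f_rc_21_1 lc_f_rc_10_1 lc_f_rc_17_3 lc_f_rc_14_1 lc_f_rc_21_1 lc_f_rc_14_1 lc_f_rc_17_1 lc_f_rc_14_1 lc_f_rc_17_1 lc_f_rc_14_3 lc_f_rc_19_3 lc_f_rc_17_3 lc_f_rc_5_1 lc_f_rc_10_3 lc_f_Cert_tree lc_f_rc_20_1 lc_f_rc_20_1 lc_f_rc_14_3 lc_f_rc_17_3 lc_f_rc_17_3) (@D3.rec (fun _ => (Cert rels S Gen.f)) lc_f_rc_20_1 lc_f_rc_20_1 lc_f_rc_17_3 lc_f_rc_10_3 lc_f_rc_14_3 lc_f_rc_10_3 lc_f_rc_17_3 lc_f_rc_5_1 lc_f_rc_5_3 lc_f_rc_17_3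 lc_f_Cert_tree lc_f_rc_14_3 lc_f_rc_10_1 lc_f_rc_20_1 lc_f_rc_19_3 lc_f_rc_14_3 lc_f_rc_21_1 lc_f_rc_17_3 lc_f_rc_17_3 lc_f_rc_10_3 lc_f_rc_20_1 lc_f_rc_14_3 lc_f_rc_17_3 lc_f_Cert_tree lc_f_rc_17_3 lc_f_rc_17_3 lc_f_Cert_tree lc_f_rc_17_3 lc_f_rc_10_3 lc_f_rc_10_3 lc_f_rc_14_1 lc_f_rc_21_1 lc_f_rc_17_1 lc_f_rc_19_5 lc_f_rc_20_1 lc_f_rc_20_1 lc_f_rc_14_3 lc_f_rc_10_1 lc_f_rc_20_1 lc_f_rc_17_1 lc_f_rc_14_1 lc_f_rc_14_3 lc_f_rc_19_5 lc_f_rc_14_3 lc_f_rc_17_3 lc_f_rc_10_3 lc_f_rc_14_3 lc_f_rc_14_3 lc_f_rc_21_1 lc_f_rc_17_3 lc_f_rc_17_3 lc_f_rc_5_3 lc_f_rc_17_3 lc_f_rc_20_1 lc_f_rc_20_1 lc_f_rc_20_1 lc_f_rc_10_3 lc_f_rc_17_3 lc_f_rc_14_3 lc_f_rc_5_3 lc_f_rc_5_1 lc_f_rc_14_3)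 (@D3.rec (fun _ => (Cert rels S Gen.f)) lc_f_rc_20_1 lc_f_rc_17_3 lc_f_rc_17_3 lc_f_rc_17_3 lc_f_Cert_tree lc_f_rc_20_1 lc_f_rc_17_3 lc_f_rc_10_3 lc_f_rc_20_1 lc_f_rc_5_3 lc_f_rc_14_1 lc_f_rc_5_3 lc_f_rc_22_1 lc_f_rc_14_3 lc_f_rc_10_1 lc_f_rc_5_1 lc_f_rc_14_3 lc_f_rc_14_1 lc_f_rc_17_3 lc_f_rc_17_1 lc_f_rc_17_3 lc_f_rc_10_1 lc_f_rc_22_1 lc_f_rc_17_3 lc_f_rc_20_1 lc_f_rc_10_3 lc_f_rc_14_1 lc_f_rc_17_3 lc_f_rc_21_1 lc_f_rc_21_1 lc_f_rc_17_3 lc_f_rc_19_5 lc_f_rc_19_5 lc_f_rc_19_1 lc_f_rc_14_3 lc_f_rc_21_1 lc_f_rc_22_1 lc_f_rc_10_3 lc_f_rc_10_3 lc_f_rc_10_3 lc_f_rc_17_3 lc_f_rc_19_5 lc_f_rc_14_1 lc_f_rc_17_3 lc_f_rc_17_3 lc_f_rc_19_5 lc_f_rc_20_1 lc_f_rc_17_1 lc_f_rc_14_3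 lc_f_rc_14_1 lc_f_rc_20_1 lc_f_rc_14_1 lc_f_rc_22_1 lc_f_rc_10_3 lc_f_rc_17_1 lc_f_rc_5_3 lc_f_rc_10_3 lc_f_rc_22_1 lc_f_rc_17_3 lc_f_rc_10_3 lc_f_rc_14_3 lc_f_rc_17_3) (@D3.rec (fun _ => (Cert rels S Gen.f)) lc_f_rc_10_3 lc_f_rc_17_3 lc_f_rc_20_1 lc_f_rc_14_3 lc_f_rc_20_1 lc_f_rc_20_1 lc_f_rc_20_1 lc_f_rc_20_1 lc_f_rc_21_1 lc_f_rc_17_3 lc_f_rc_17_3 lc_f_rc_14_1 lc_f_rc_17_1 lc_f_rc_17_3 lc_f_rc_17_1 lc_f_rc_5_3 lc_f_rc_14_3 lc_f_rc_20_1 lc_f_rc_19_5 lc_f_rc_21_1 lc_f_rc_20_1 lc_f_rc_20_1 lc_f_rc_14_3 lc_f_rc_5_1 lc_f_rc_19_1 lc_f_rc_17_3 lc_f_rc_20_1 lc_f_rc_20_1 lc_f_rc_20_1 lc_f_rc_10_3 lc_f_rc_17_1 lc_f_rc_10_3 lc_f_rc_17_1 lc_f_rc_10_3 lc_f_rc_14_1 lc_f_rc_14_3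 lc_f_rc_14_1 lc_f_rc_22_1 lc_f_rc_10_3 lc_f_rc_14_3 lc_f_rc_21_1 lc_f_rc_10_1 lc_f_rc_21_1 lc_f_rc_21_1 lc_f_rc_21_1 lc_f_rc_21_1 lc_f_rc_20_1 lc_f_rc_21_1 lc_f_rc_20_1 lc_f_rc_17_3 lc_f_rc_20_1 lc_f_rc_19_5 lc_f_rc_21_1 lc_f_rc_17_3 lc_f_rc_17_1 lc_f_rc_14_1 lc_f_rc_10_1 lc_f_rc_10_3 lc_f_rc_14_3 lc_f_Cert_tree lc_f_rc_17_3 lc_f_rc_20_1) (@D3.rec (fun _ => (Cert rels S Gen.f)) lc_f_rc_14_3 lc_f_rc_19_3 lc_f_Cert_tree lc_f_rc_21_1 lc_f_rc_19_3 lc_f_rc_10_3 lc_f_Cert_tree lc_f_rc_10_1 lc_f_rc_21_1 lc_f_rc_20_1 lc_f_rc_17_3 lc_f_rc_14_1 lc_f_rc_21_1 lc_f_rc_20_1 lc_f_rc_20_1 lc_f_rc_10_3 lc_f_Cert_tree lc_f_rc_21_1 lc_f_rc_17_3 lc_f_rc_20_1 lc_f_rc_10_3 lc_f_rc_10_1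 lc_f_Cert_tree lc_f_rc_21_1 lc_f_rc_5_1 lc_f_rc_17_1 lc_f_rc_20_1 lc_f_rc_19_3 lc_f_rc_19_3 lc_f_rc_17_3 lc_f_rc_5_1 lc_f_rc_14_3 lc_f_rc_14_3 lc_f_rc_19_3 lc_f_rc_10_1 lc_f_rc_14_1 lc_f_rc_5_3 lc_f_rc_20_1 lc_f_rc_21_1 lc_f_rc_14_1 lc_f_rc_10_3 lc_f_rc_17_3 lc_f_Cert_tree lc_f_rc_17_3 lc_f_rc_5_1 lc_f_rc_14_1 lc_f_rc_17_3 lc_f_Cert_tree lc_f_rc_14_3 lc_f_rc_14_3 lc_f_rc_19_5 lc_f_rc_10_3 lc_f_rc_5_3 lc_f_rc_20_1 lc_f_rc_17_1 lc_f_Cert_tree lc_f_rc_10_3 lc_f_rc_20_1 lc_f_rc_20_1 lc_f_rc_19_3 lc_f_rc_20_1 lc_f_rc_21_1) (@D3.rec (fun _ => (Cert rels S Gen.f)) lc_f_rc_20_1 lc_f_rc_20_1 lc_f_rc_20_1 lc_f_rc_20_1 lc_f_rc_10_1 lc_f_rc_20_1 lc_f_rc_10_1 lc_f_rc_20_1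 lc_f_rc_10_3 lc_f_rc_14_1 lc_f_rc_21_1 lc_f_rc_19_5 lc_f_rc_14_3 lc_f_rc_20_1 lc_f_rc_17_3 lc_f_rc_21_1 lc_f_Cert_tree lc_f_rc_20_1 lc_f_rc_14_1 lc_f_rc_14_3 lc_f_rc_5_3 lc_f_rc_14_3 lc_f_rc_17_3 lc_f_rc_5_3 lc_f_rc_10_3 lc_f_rc_20_1 lc_f_rc_21_1 lc_f_rc_19_3 lc_f_rc_14_3 lc_f_rc_17_3 lc_f_rc_5_3 lc_f_rc_20_1 lc_f_rc_14_3 lc_f_rc_21_1 lc_f_rc_17_3 lc_f_rc_10_3 lc_f_rc_10_1 lc_f_rc_20_1 lc_f_rc_10_1 lc_f_rc_19_5 lc_f_rc_14_3 lc_f_rc_20_1 lc_f_rc_19_5 lc_f_rc_20_1 lc_f_rc_5_1 lc_f_rc_17_3 lc_f_rc_17_3 lc_f_Cert_tree lc_f_rc_20_1 lc_f_rc_20_1 lc_f_rc_20_1 lc_f_rc_20_1 lc_f_rc_14_3 lc_f_rc_20_1 lc_f_rc_17_1 lc_f_rc_14_1 lc_f_rc_21_1 lc_f_rc_5_3 lc_f_rc_20_1 lc_f_rc_19_3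 lc_f_rc_17_3 lc_f_rc_20_1) (@D3.rec (fun _ => (Cert rels S Gen.f)) lc_f_rc_10_3 lc_f_rc_20_1 lc_f_rc_17_3 lc_f_rc_10_3 lc_f_rc_17_3 lc_f_Cert_tree lc_f_rc_21_1 lc_f_rc_20_1 lc_f_rc_19_3 lc_f_rc_20_1 lc_f_rc_17_3 lc_f_rc_19_3 lc_f_rc_14_3 lc_f_rc_5_1 lc_f_rc_20_1 lc_f_rc_17_1 lc_f_rc_19_3 lc_f_rc_17_1 lc_f_rc_21_1 lc_f_rc_17_3 lc_f_rc_10_1 lc_f_rc_17_3 lc_f_rc_5_3 lc_f_rc_17_3 lc_f_rc_14_3 lc_f_rc_17_3 lc_f_rc_5_3 lc_f_rc_17_3 lc_f_rc_14_3 lc_f_rc_20_1 lc_f_rc_5_1 lc_f_rc_20_1 lc_f_rc_20_1 lc_f_rc_17_3 lc_f_rc_10_3 lc_f_rc_20_1 lc_f_rc_20_1 lc_f_rc_21_1 lc_f_rc_20_1 lc_f_rc_20_1 lc_f_rc_14_3 lc_f_rc_17_3 lc_f_rc_10_3 lc_f_rc_10_1 lc_f_rc_17_3 lc_f_rc_17_1 lc_f_rc_14_3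 lc_f_rc_5_3 lc_f_rc_14_3 lc_f_rc_19_3 lc_f_rc_10_3 lc_f_rc_21_1 lc_f_rc_14_3 lc_f_rc_17_1 lc_f_rc_5_1 lc_f_rc_17_1 lc_f_rc_14_3 lc_f_rc_14_3 lc_f_Cert_tree lc_f_rc_17_1 lc_f_rc_20_1 lc_f_rc_17_3) (@D3.rec (fun _ => (Cert rels S Gen.f)) lc_f_rc_20_1 lc_f_rc_17_3 lc_f_rc_10_3 lc_f_rc_10_3 lc_f_rc_20_1 lc_f_rc_21_1 lc_f_rc_14_3 lc_f_rc_17_3 lc_f_rc_14_3 lc_f_rc_20_1 lc_f_rc_10_1 lc_f_rc_21_1 lc_f_rc_10_3 lc_f_rc_17_1 lc_f_rc_19_1 lc_f_rc_20_1 lc_f_rc_10_1 lc_f_rc_20_1 lc_f_rc_17_1 lc_f_rc_14_3 lc_f_rc_10_3 lc_f_rc_20_1 lc_f_rc_14_3 lc_f_rc_14_1 lc_f_rc_17_1 lc_f_rc_20_1 lc_f_rc_5_1 lc_f_rc_20_1 lc_f_rc_20_1 lc_f_rc_19_3 lc_f_rc_14_3 lc_f_rc_17_3 lc_f_rc_10_1 lc_f_rc_17_1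 lc_f_rc_19_3 lc_f_rc_19_3 lc_f_rc_19_1 lc_f_rc_10_1 lc_f_rc_17_1 lc_f_rc_5_1 lc_f_rc_20_1 lc_f_rc_10_3 lc_f_rc_19_3 lc_f_rc_22_1 lc_f_rc_14_1 lc_f_rc_20_1 lc_f_rc_5_1 lc_f_rc_10_3 lc_f_rc_17_1 lc_f_rc_5_1 lc_f_rc_20_1 lc_f_rc_10_3 lc_f_rc_20_1 lc_f_rc_21_1 lc_f_rc_14_3 lc_f_Cert_tree lc_f_rc_20_1 lc_f_Cert_tree lc_f_rc_20_1 lc_f_rc_20_1 lc_f_rc_20_1 lc_f_rc_21_1) (@D3.rec (fun _ => (Cert rels S Gen.f)) lc_f_rc_14_3 lc_f_rc_19_3 lc_f_rc_14_1 lc_f_rc_14_1 lc_f_rc_17_3 lc_f_rc_14_3 lc_f_rc_20_1 lc_f_rc_20_1 lc_f_rc_20_1 lc_f_rc_17_1 lc_f_rc_17_3 lc_f_rc_14_3 lc_f_rc_21_1 lc_f_rc_20_1 lc_f_rc_14_1 lc_f_rc_19_3 lc_f_rc_5_3 lc_f_rc_20_1 lc_f_rc_17_3 lc_f_rc_14_3 lc_f_rc_22_1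 lc_f_rc_14_3 lc_f_rc_20_1 lc_f_rc_14_3 lc_f_rc_17_1 lc_f_rc_5_3 lc_f_rc_22_1 lc_f_rc_5_3 lc_f_rc_20_1 lc_f_rc_10_3 lc_f_rc_14_3 lc_f_rc_5_1 lc_f_rc_21_1 lc_f_rc_10_3 lc_f_rc_17_1 lc_f_rc_14_3 lc_f_rc_10_3 lc_f_rc_10_3 lc_f_rc_5_1 lc_f_rc_20_1 lc_f_rc_5_3 lc_f_rc_22_1 lc_f_rc_21_1 lc_f_rc_20_1 lc_f_rc_20_1 lc_f_rc_20_1 lc_f_rc_14_1 lc_f_rc_10_3 lc_f_rc_21_1 lc_f_rc_19_3 lc_f_rc_20_1 lc_f_rc_17_3 lc_f_rc_14_1 lc_f_rc_14_3 lc_f_rc_10_1 lc_f_rc_5_3 lc_f_rc_20_1 lc_f_rc_14_1 lc_f_rc_20_1 lc_f_rc_14_3 lc_f_rc_17_3 lc_f_rc_21_1) (@D3.rec (fun _ => (Cert rels S Gen.f)) lc_f_rc_19_3 lc_f_rc_10_3 lc_f_rc_5_1 lc_f_rc_10_1 lc_f_rc_19_3 lc_f_rc_19_3 lc_f_rc_21_1 lc_f_rc_10_3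 lc_f_rc_17_3 lc_f_rc_19_3 lc_f_rc_10_3 lc_f_rc_10_3 lc_f_rc_19_3 lc_f_rc_20_1 lc_f_Cert_tree lc_f_rc_14_3 lc_f_rc_10_3 lc_f_rc_17_3 lc_f_rc_21_1 lc_f_rc_20_1 lc_f_rc_20_1 lc_f_rc_20_1 lc_f_rc_20_1 lc_f_rc_21_1 lc_f_rc_19_3 lc_f_rc_10_3 lc_f_rc_20_1 lc_f_rc_17_3 lc_f_rc_10_3 lc_f_rc_19_3 lc_f_rc_17_3 lc_f_rc_17_1 lc_f_rc_5_3 lc_f_rc_10_3 lc_f_rc_17_1 lc_f_rc_14_3 lc_f_rc_17_3 lc_f_rc_14_3 lc_f_rc_14_3 lc_f_rc_21_1 lc_f_rc_22_1 lc_f_rc_20_1 lc_f_rc_20_1 lc_f_rc_5_3 lc_f_rc_14_1 lc_f_Cert_tree lc_f_rc_21_1 lc_f_rc_20_1 lc_f_rc_20_1 lc_f_rc_10_1 lc_f_rc_20_1 lc_f_rc_5_1 lc_f_rc_10_3 lc_f_rc_17_3 lc_f_rc_17_1 lc_f_rc_20_1 lc_f_rc_20_1 lc_f_rc_21_1 lc_f_rc_20_1 lc_f_rc_20_1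 lc_f_rc_20_1 lc_f_rc_5_1) (@D3.rec (fun _ => (Cert rels S Gen.f)) lc_f_rc_20_1 lc_f_rc_10_3 lc_f_rc_14_3 lc_f_rc_20_1 lc_f_rc_20_1 lc_f_rc_5_1 lc_f_rc_20_1 lc_f_rc_14_1 lc_f_rc_17_3 lc_f_rc_19_3 lc_f_rc_20_1 lc_f_rc_20_1 lc_f_rc_5_3 lc_f_rc_5_1 lc_f_rc_17_3 lc_f_rc_17_3 lc_f_rc_20_1 lc_f_rc_10_1 lc_f_rc_10_1 lc_f_rc_17_3 lc_f_rc_20_1 lc_f_rc_21_1 lc_f_rc_14_1 lc_f_rc_20_1 lc_f_rc_20_1 lc_f_rc_5_3 lc_f_rc_17_3 lc_f_rc_14_3 lc_f_rc_20_1 lc_f_rc_19_1 lc_f_rc_17_3 lc_f_rc_20_1 lc_f_rc_21_1 lc_f_rc_14_3 lc_f_rc_17_3 lc_f_rc_19_1 lc_f_rc_17_1 lc_f_rc_21_1 lc_f_rc_10_3 lc_f_rc_14_3 lc_f_rc_20_1 lc_f_rc_17_3 lc_f_rc_20_1 lc_f_rc_20_1 lc_f_rc_20_1 lc_f_rc_17_3 lc_f_rc_17_3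 lc_f_rc_17_3 lc_f_rc_5_3 lc_f_rc_20_1 lc_f_rc_17_3 lc_f_rc_10_3 lc_f_rc_10_1 lc_f_rc_19_3 lc_f_rc_14_1 lc_f_rc_20_1 lc_f_rc_17_3 lc_f_rc_17_1 lc_f_rc_17_3 lc_f_rc_20_1 lc_f_rc_14_1 lc_f_rc_14_1) (@D3.rec (fun _ => (Cert rels S Gen.f)) lc_f_rc_19_3 lc_f_rc_10_1 lc_f_rc_21_1 lc_f_rc_17_3 lc_f_rc_5_3 lc_f_rc_19_3 lc_f_rc_5_1 lc_f_rc_17_1 lc_f_rc_20_1 lc_f_rc_10_3 lc_f_rc_20_1 lc_f_rc_10_3 lc_f_rc_10_1 lc_f_rc_14_1 lc_f_rc_17_3 lc_f_rc_14_3 lc_f_Cert_tree lc_f_rc_5_1 lc_f_rc_5_3 lc_f_rc_19_5 lc_f_rc_14_1 lc_f_rc_5_3 lc_f_rc_20_1 lc_f_rc_14_1 lc_f_rc_10_3 lc_f_rc_17_1 lc_f_rc_14_3 lc_f_rc_5_3 lc_f_rc_20_1 lc_f_rc_14_1 lc_f_rc_20_1 lc_f_rc_17_3 lc_f_rc_21_1 lc_f_rc_14_3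 lc_f_rc_20_1 lc_f_rc_14_3 lc_f_rc_14_3 lc_f_rc_5_1 lc_f_rc_17_3 lc_f_rc_21_1 lc_f_rc_17_3 lc_f_rc_14_3 lc_f_rc_19_3 lc_f_rc_10_3 lc_f_rc_17_3 lc_f_rc_14_1 lc_f_rc_14_3 lc_f_rc_14_3 lc_f_rc_14_1 lc_f_rc_5_3 lc_f_rc_20_1 lc_f_rc_10_1 lc_f_rc_14_3 lc_f_rc_14_3 lc_f_rc_21_1 lc_f_rc_17_1 lc_f_rc_10_3 lc_f_rc_19_5 lc_f_rc_14_1 lc_f_rc_14_3 lc_f_rc_17_3 lc_f_rc_10_3) (@D3.rec (fun _ => (Cert rels S Gen.f)) lc_f_rc_20_1 lc_f_rc_10_3 lc_f_rc_21_1 lc_f_rc_10_3 lc_f_rc_17_3 lc_f_rc_20_1 lc_f_rc_17_3 lc_f_rc_21_1 lc_f_rc_14_1 lc_f_rc_17_3 lc_f_rc_10_3 lc_f_rc_22_1 lc_f_rc_20_1 lc_f_rc_20_1 lc_f_rc_10_3 lc_f_rc_17_3 lc_f_rc_17_1 lc_f_rc_10_3 lc_f_rc_17_3 lc_f_rc_17_3 lc_f_rc_14_3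 lc_f_rc_17_3 lc_f_rc_10_3 lc_f_rc_17_3 lc_f_rc_17_3 lc_f_rc_14_3 lc_f_rc_14_3 lc_f_rc_19_3 lc_f_rc_17_3 lc_f_rc_17_1 lc_f_rc_20_1 lc_f_rc_14_3 lc_f_Cert_tree lc_f_Cert_tree lc_f_rc_19_3 lc_f_rc_21_1 lc_f_rc_20_1 lc_f_rc_17_3 lc_f_Cert_tree lc_f_rc_14_3 lc_f_rc_17_3 lc_f_rc_20_1 lc_f_rc_10_3 lc_f_rc_14_1 lc_f_rc_20_1 lc_f_rc_5_3 lc_f_rc_10_1 lc_f_rc_19_1 lc_f_rc_10_3 lc_f_rc_10_3 lc_f_rc_14_1 lc_f_rc_17_1 lc_f_rc_14_3 lc_f_rc_17_3 lc_f_rc_14_3 lc_f_Cert_tree lc_f_rc_14_3 lc_f_rc_10_3 lc_f_rc_10_3 lc_f_rc_10_3 lc_f_rc_21_1 lc_f_rc_10_1) (@D3.rec (fun _ => (Cert rels S Gen.f)) lc_f_rc_20_1 lc_f_rc_20_1 lc_f_rc_5_1 lc_f_rc_10_1 lc_f_rc_20_1 lc_f_rc_14_1 lc_f_rc_20_1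 lc_f_rc_19_3 lc_f_rc_21_1 lc_f_Cert_tree lc_f_rc_20_1 lc_f_rc_20_1 lc_f_rc_5_3 lc_f_rc_19_3 lc_f_rc_14_3 lc_f_rc_17_3 lc_f_rc_21_1 lc_f_rc_20_1 lc_f_rc_14_1 lc_f_rc_20_1 lc_f_Cert_tree lc_f_Cert_tree lc_f_rc_14_1 lc_f_rc_10_3 lc_f_rc_19_3 lc_f_rc_17_3 lc_f_rc_17_3 lc_f_rc_20_1 lc_f_rc_10_3 lc_f_rc_14_1 lc_f_rc_17_1 lc_f_rc_21_1 lc_f_rc_20_1 lc_f_rc_10_3 lc_f_rc_21_1 lc_f_rc_5_3 lc_f_rc_17_3 lc_f_rc_22_1 lc_f_rc_21_1 lc_f_rc_21_1 lc_f_rc_20_1 lc_f_rc_14_1 lc_f_rc_17_1 lc_f_rc_17_1 lc_f_rc_17_3 lc_f_rc_21_1 lc_f_rc_14_3 lc_f_rc_20_1 lc_f_rc_14_3 lc_f_rc_21_1 lc_f_rc_10_3 lc_f_rc_14_3 lc_f_rc_20_1 lc_f_rc_17_3 lc_f_rc_20_1 lc_f_rc_20_1 lc_f_rc_19_3 lc_f_rc_21_1 lc_f_rc_20_1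 lc_f_rc_17_3 lc_f_rc_20_1 lc_f_rc_14_3) (@D3.rec (fun _ => (Cert rels S Gen.f)) lc_f_rc_14_3 lc_f_rc_20_1 lc_f_rc_14_3 lc_f_rc_14_3 lc_f_rc_17_3 lc_f_rc_10_3 lc_f_rc_14_3 lc_f_rc_14_1 lc_f_rc_17_3 lc_f_rc_5_3 lc_f_rc_17_3 lc_f_rc_20_1 lc_f_rc_14_3 lc_f_rc_10_3 lc_f_rc_17_3 lc_f_rc_14_1 lc_f_rc_10_3 lc_f_rc_14_3 lc_f_rc_21_1 lc_f_Cert_tree lc_f_rc_20_1 lc_f_rc_5_3 lc_f_rc_5_1 lc_f_rc_5_1 lc_f_rc_14_1 lc_f_rc_20_1 lc_f_Cert_tree lc_f_rc_14_3 lc_f_rc_14_3 lc_f_rc_14_3 lc_f_rc_20_1 lc_f_rc_14_3 lc_f_rc_14_3 lc_f_rc_10_3 lc_f_rc_17_1 lc_f_rc_20_1 lc_f_rc_5_3 lc_f_rc_17_3 lc_f_rc_5_3 lc_f_rc_17_1 lc_f_rc_14_3 lc_f_rc_10_3 lc_f_rc_10_3 lc_f_rc_21_1 lc_f_rc_19_3 lc_f_rc_20_1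 lc_f_rc_20_1 lc_f_rc_21_1 lc_f_Cert_tree lc_f_rc_20_1 lc_f_rc_20_1 lc_f_rc_20_1 lc_f_rc_10_3 lc_f_rc_10_3 lc_f_Cert_tree lc_f_rc_21_1 lc_f_rc_20_1 lc_f_rc_17_3 lc_f_rc_20_1 lc_f_rc_5_3 lc_f_rc_14_3 lc_f_rc_14_3) (@D3.rec (fun _ => (Cert rels S Gen.f)) lc_f_rc_19_3 lc_f_rc_21_1 lc_f_rc_10_3 lc_f_rc_17_3 lc_f_rc_19_5 lc_f_rc_14_1 lc_f_rc_14_1 lc_f_rc_19_3 lc_f_rc_10_3 lc_f_rc_17_1 lc_f_rc_20_1 lc_f_rc_14_1 lc_f_rc_20_1 lc_f_Cert_tree lc_f_rc_14_1 lc_f_rc_10_1 lc_f_rc_21_1 lc_f_rc_14_3 lc_f_rc_14_1 lc_f_rc_20_1 lc_f_rc_19_3 lc_f_rc_17_3 lc_f_Cert_tree lc_f_rc_21_1 lc_f_Cert_tree lc_f_rc_14_3 lc_f_rc_14_3 lc_f_rc_10_3 lc_f_rc_14_1 lc_f_rc_5_3 lc_f_rc_20_1 lc_f_rc_21_1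 lc_f_rc_17_1 lc_f_rc_14_3 lc_f_rc_20_1 lc_f_rc_21_1 lc_f_Cert_tree lc_f_rc_10_1 lc_f_rc_19_3 lc_f_rc_20_1 lc_f_rc_21_1 lc_f_rc_20_1 lc_f_rc_10_1 lc_f_rc_17_1 lc_f_rc_19_3 lc_f_rc_14_3 lc_f_rc_17_3 lc_f_rc_20_1 lc_f_rc_5_3 lc_f_rc_10_1 lc_f_rc_17_1 lc_f_rc_17_1 lc_f_rc_21_1 lc_f_rc_19_3 lc_f_rc_14_3 lc_f_rc_14_1 lc_f_rc_19_1 lc_f_rc_19_3 lc_f_rc_14_1 lc_f_rc_19_5 lc_f_rc_17_1 lc_f_rc_20_1) (@D3.rec (fun _ => (Cert rels S Gen.f)) lc_f_rc_5_1 lc_f_rc_20_1 lc_f_rc_10_1 lc_f_rc_5_1 lc_f_Cert_tree lc_f_rc_20_1 lc_f_rc_14_1 lc_f_Cert_tree lc_f_rc_10_3 lc_f_Cert_tree lc_f_rc_17_3 lc_f_rc_17_3 lc_f_rc_20_1 lc_f_rc_22_1 lc_f_rc_14_3 lc_f_rc_17_3 lc_f_rc_10_3 lc_f_rc_17_3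 lc_f_rc_14_1 lc_f_Cert_tree lc_f_rc_20_1 lc_f_rc_17_1 lc_f_rc_20_1 lc_f_rc_19_5 lc_f_rc_14_3 lc_f_rc_20_1 lc_f_rc_14_3 lc_f_rc_19_1 lc_f_rc_5_3 lc_f_rc_17_1 lc_f_rc_20_1 lc_f_Cert_tree lc_f_rc_19_5 lc_f_rc_10_3 lc_f_rc_21_1 lc_f_rc_20_1 lc_f_rc_14_1 lc_f_rc_20_1 lc_f_rc_5_3 lc_f_rc_17_3 lc_f_rc_14_3 lc_f_rc_14_3 lc_f_rc_14_3 lc_f_rc_17_1 lc_f_rc_20_1 lc_f_rc_20_1 lc_f_rc_17_1 lc_f_Cert_tree lc_f_rc_14_1 lc_f_rc_10_3 lc_f_rc_14_3 lc_f_rc_10_3 lc_f_rc_20_1 lc_f_rc_20_1 lc_f_rc_20_1 lc_f_Cert_tree lc_f_rc_22_1 lc_f_rc_14_1 lc_f_rc_17_3 lc_f_rc_22_1 lc_f_rc_5_3 lc_f_rc_14_3) (@D3.rec (fun _ => (Cert rels S Gen.f)) lc_f_rc_19_3 lc_f_rc_17_1 lc_f_rc_14_1 lc_f_rc_10_3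 lc_f_rc_20_1 lc_f_rc_19_1 lc_f_rc_17_3 lc_f_rc_10_3 lc_f_rc_21_1 lc_f_rc_14_3 lc_f_rc_10_3 lc_f_rc_21_1 lc_f_rc_20_1 lc_f_rc_14_1 lc_f_rc_19_3 lc_f_rc_5_3 lc_f_rc_10_3 lc_f_rc_5_1 lc_f_rc_20_1 lc_f_rc_5_3 lc_f_rc_14_1 lc_f_rc_19_1 lc_f_rc_10_1 lc_f_rc_17_3 lc_f_rc_14_1 lc_f_rc_17_1 lc_f_rc_20_1 lc_f_rc_20_1 lc_f_rc_14_1 lc_f_rc_20_1 lc_f_rc_5_1 lc_f_rc_19_3 lc_f_rc_5_3 lc_f_rc_17_1 lc_f_rc_20_1 lc_f_rc_19_5 lc_f_rc_5_3 lc_f_rc_22_1 lc_f_rc_14_1 lc_f_rc_19_3 lc_f_rc_21_1 lc_f_rc_21_1 lc_f_Cert_tree lc_f_rc_20_1 lc_f_rc_20_1 lc_f_rc_5_3 lc_f_rc_17_3 lc_f_rc_14_3 lc_f_rc_19_3 lc_f_rc_10_1 lc_f_rc_14_3 lc_f_rc_17_3 lc_f_rc_20_1 lc_f_rc_22_1 lc_f_rc_5_1 lc_f_rc_21_1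 lc_f_rc_17_3 lc_f_rc_19_3 lc_f_rc_20_1 lc_f_rc_14_3 lc_f_rc_17_3 lc_f_rc_17_3) (@D3.rec (fun _ => (Cert rels S Gen.f)) lc_f_rc_20_1 lc_f_rc_20_1 lc_f_rc_20_1 lc_f_rc_21_1 lc_f_rc_10_3 lc_f_rc_20_1 lc_f_rc_17_3 lc_f_rc_14_3 lc_f_rc_14_3 lc_f_Cert_tree lc_f_rc_14_3 lc_f_rc_21_1 lc_f_rc_5_1 lc_f_rc_19_3 lc_f_rc_14_3 lc_f_rc_20_1 lc_f_rc_19_1 lc_f_rc_10_3 lc_f_rc_5_1 lc_f_rc_17_3 lc_f_rc_19_1 lc_f_rc_21_1 lc_f_rc_17_3 lc_f_rc_14_3 lc_f_rc_20_1 lc_f_rc_14_3 lc_f_rc_14_3 lc_f_rc_21_1 lc_f_rc_10_1 lc_f_rc_14_3 lc_f_rc_20_1 lc_f_rc_10_3 lc_f_rc_17_3 lc_f_rc_20_1 lc_f_rc_14_3 lc_f_rc_17_3 lc_f_rc_17_3 lc_f_rc_14_3 lc_f_rc_19_5 lc_f_rc_14_3 lc_f_rc_10_3 lc_f_rc_14_3 lc_f_rc_14_3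 lc_f_rc_17_3 lc_f_Cert_tree lc_f_rc_14_3 lc_f_rc_14_3 lc_f_rc_20_1 lc_f_rc_14_3 lc_f_rc_21_1 lc_f_rc_17_1 lc_f_rc_10_3 lc_f_rc_17_1 lc_f_rc_17_3 lc_f_rc_10_3 lc_f_rc_10_3 lc_f_rc_21_1 lc_f_rc_20_1 lc_f_rc_14_3 lc_f_rc_14_3 lc_f_rc_14_3 lc_f_rc_20_1) (@D3.rec (fun _ => (Cert rels S Gen.f)) lc_f_rc_14_3 lc_f_rc_20_1 lc_f_rc_21_1 lc_f_rc_10_3 lc_f_rc_5_3 lc_f_rc_17_1 lc_f_rc_14_1 lc_f_rc_17_3 lc_f_rc_10_3 lc_f_rc_21_1 lc_f_rc_10_3 lc_f_rc_20_1 lc_f_rc_19_5 lc_f_rc_14_3 lc_f_rc_19_3 lc_f_rc_20_1 lc_f_rc_10_3 lc_f_Cert_tree lc_f_rc_10_3 lc_f_rc_21_1 lc_f_Cert_tree lc_f_rc_20_1 lc_f_rc_17_3 lc_f_rc_14_3 lc_f_rc_14_1 lc_f_rc_14_3 lc_f_rc_5_1 lc_f_rc_10_3 lc_f_rc_20_1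 lc_f_rc_20_1 lc_f_rc_14_1 lc_f_rc_14_3 lc_f_rc_5_1 lc_f_rc_19_5 lc_f_rc_17_1 lc_f_rc_20_1 lc_f_rc_17_1 lc_f_rc_14_3 lc_f_rc_17_3 lc_f_rc_14_3 lc_f_rc_17_3 lc_f_rc_10_3 lc_f_rc_10_3 lc_f_rc_17_1 lc_f_rc_20_1 lc_f_rc_19_3 lc_f_rc_21_1 lc_f_rc_14_3 lc_f_rc_14_3 lc_f_rc_21_1 lc_f_rc_19_5 lc_f_rc_17_3 lc_f_Cert_tree lc_f_rc_21_1 lc_f_rc_20_1 lc_f_rc_19_3 lc_f_rc_14_1 lc_f_rc_22_1 lc_f_rc_14_1 lc_f_rc_20_1 lc_f_rc_21_1 lc_f_rc_17_3) (@D3.rec (fun _ => (Cert rels S Gen.f)) lc_f_rc_14_3 lc_f_rc_21_1 lc_f_rc_10_1 lc_f_rc_17_3 lc_f_rc_14_1 lc_f_rc_14_3 lc_f_rc_21_1 lc_f_rc_20_1 lc_f_rc_17_3 lc_f_rc_20_1 lc_f_rc_17_3 lc_f_rc_17_3 lc_f_rc_14_3 lc_f_rc_10_3 lc_f_rc_20_1 lc_f_rc_22_1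 lc_f_rc_19_3 lc_f_rc_10_3 lc_f_rc_17_3 lc_f_rc_14_3 lc_f_rc_14_3 lc_f_rc_20_1 lc_f_rc_17_1 lc_f_rc_20_1 lc_f_Cert_tree lc_f_rc_17_3 lc_f_rc_20_1 lc_f_rc_17_3 lc_f_rc_20_1 lc_f_rc_17_3 lc_f_rc_10_3 lc_f_rc_20_1 lc_f_rc_10_1 lc_f_rc_20_1 lc_f_rc_20_1 lc_f_rc_19_3 lc_f_rc_17_1 lc_f_rc_20_1 lc_f_rc_21_1 lc_f_rc_10_3 lc_f_rc_10_3 lc_f_rc_17_3 lc_f_rc_17_3 lc_f_rc_14_1 lc_f_rc_21_1 lc_f_Cert_tree lc_f_rc_20_1 lc_f_rc_14_1 lc_f_rc_21_1 lc_f_rc_17_1 lc_f_rc_20_1 lc_f_rc_10_1 lc_f_rc_5_3 lc_f_rc_20_1 lc_f_rc_21_1 lc_f_rc_14_1 lc_f_rc_20_1 lc_f_rc_21_1 lc_f_rc_14_1 lc_f_rc_10_3 lc_f_rc_10_1 lc_f_rc_17_3) (@D3.rec (fun _ => (Cert rels S Gen.f)) lc_f_rc_20_1 lc_f_rc_19_3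 lc_f_rc_14_1 lc_f_rc_14_3 lc_f_rc_20_1 lc_f_rc_10_1 lc_f_rc_10_1 lc_f_rc_10_1 lc_f_rc_20_1 lc_f_rc_17_1 lc_f_rc_20_1 lc_f_rc_10_1 lc_f_rc_17_1 lc_f_rc_17_1 lc_f_rc_14_1 lc_f_rc_14_1 lc_f_rc_21_1 lc_f_rc_20_1 lc_f_rc_14_3 lc_f_rc_19_5 lc_f_rc_14_1 lc_f_rc_14_3 lc_f_rc_22_1 lc_f_rc_17_3 lc_f_rc_14_3 lc_f_rc_10_1 lc_f_rc_20_1 lc_f_rc_19_3 lc_f_rc_14_3 lc_f_rc_20_1 lc_f_rc_5_1 lc_f_rc_10_3 lc_f_rc_17_3 lc_f_rc_17_3 lc_f_rc_21_1 lc_f_rc_14_1 lc_f_rc_19_1 lc_f_rc_10_1 lc_f_rc_22_1 lc_f_rc_10_1 lc_f_rc_17_1 lc_f_rc_19_3 lc_f_rc_17_3 lc_f_rc_22_1 lc_f_rc_10_3 lc_f_rc_21_1 lc_f_rc_10_3 lc_f_rc_20_1 lc_f_rc_19_3 lc_f_rc_22_1 lc_f_rc_10_1 lc_f_rc_10_3 lc_f_rc_10_3 lc_f_rc_20_1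 lc_f_rc_5_1 lc_f_rc_14_3 lc_f_rc_5_3 lc_f_rc_10_3 lc_f_Cert_tree lc_f_Cert_tree lc_f_rc_14_3 lc_f_rc_14_3) (@D3.rec (fun _ => (Cert rels S Gen.f)) lc_f_Cert_tree lc_f_rc_20_1 lc_f_rc_20_1 lc_f_rc_10_1 lc_f_rc_19_3 lc_f_rc_10_1 lc_f_rc_14_1 lc_f_rc_21_1 lc_f_rc_5_3 lc_f_rc_17_3 lc_f_rc_10_3 lc_f_rc_21_1 lc_f_rc_17_3 lc_f_rc_17_3 lc_f_rc_10_3 lc_f_rc_21_1 lc_f_rc_5_3 lc_f_rc_20_1 lc_f_rc_17_3 lc_f_Cert_tree lc_f_rc_14_3 lc_f_rc_20_1 lc_f_rc_10_3 lc_f_rc_19_1 lc_f_rc_21_1 lc_f_rc_17_3 lc_f_rc_21_1 lc_f_rc_17_3 lc_f_rc_19_5 lc_f_rc_17_3 lc_f_rc_10_1 lc_f_rc_19_3 lc_f_rc_17_3 lc_f_Cert_tree lc_f_rc_10_3 lc_f_Cert_tree lc_f_rc_10_1 lc_f_Cert_tree lc_f_rc_10_3 lc_f_Cert_tree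 lc_f_rc_10_3 lc_f_rc_17_1 lc_f_rc_20_1 lc_f_rc_19_1 lc_f_rc_21_1 lc_f_rc_14_1 lc_f_rc_17_1 lc_f_rc_5_1 lc_f_rc_20_1 lc_f_rc_14_3 lc_f_rc_5_1 lc_f_rc_20_1 lc_f_rc_20_1 lc_f_rc_21_1 lc_f_rc_14_1 lc_f_rc_19_3 lc_f_rc_21_1 lc_f_rc_20_1 lc_f_rc_14_1 lc_f_rc_20_1 lc_f_rc_20_1 lc_f_rc_5_1) (@D3.rec (fun _ => (Cert rels S Gen.f)) lc_f_rc_20_1 lc_f_rc_20_1 lc_f_rc_19_3 lc_f_rc_14_3 lc_f_rc_14_1 lc_f_rc_17_3 lc_f_rc_17_1 lc_f_rc_17_3 lc_f_rc_14_3 lc_f_rc_14_1 lc_f_rc_10_3 lc_f_rc_17_3 lc_f_rc_5_3 lc_f_rc_17_1 lc_f_Cert_tree lc_f_rc_5_1 lc_f_rc_20_1 lc_f_rc_10_3 lc_f_rc_14_3 lc_f_rc_17_3 lc_f_rc_14_3 lc_f_rc_20_1 lc_f_rc_17_3 lc_f_rc_10_3 lc_f_rc_20_1 lc_f_rc_5_1 lc_f_rc_17_1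 lc_f_rc_10_3 lc_f_rc_10_3 lc_f_rc_17_3 lc_f_rc_10_1 lc_f_rc_20_1 lc_f_rc_10_3 lc_f_rc_10_3 lc_f_rc_14_3 lc_f_rc_14_3 lc_f_rc_10_3 lc_f_rc_20_1 lc_f_rc_14_3 lc_f_Cert_tree lc_f_rc_20_1 lc_f_rc_5_1 lc_f_rc_17_3 lc_f_rc_14_3 lc_f_rc_14_3 lc_f_rc_5_3 lc_f_rc_14_3 lc_f_rc_17_1 lc_f_rc_21_1 lc_f_rc_20_1 lc_f_rc_17_3 lc_f_rc_20_1 lc_f_rc_17_3 lc_f_rc_17_3 lc_f_rc_17_3 lc_f_rc_17_1 lc_f_rc_20_1 lc_f_rc_5_3 lc_f_rc_10_3 lc_f_rc_5_3 lc_f_rc_20_1 lc_f_rc_5_3) (@D3.rec (fun _ => (Cert rels S Gen.f)) lc_f_rc_20_1 lc_f_rc_10_3 lc_f_rc_20_1 lc_f_rc_21_1 lc_f_rc_10_3 lc_f_rc_5_1 lc_f_rc_22_1 lc_f_rc_21_1 lc_f_rc_20_1 lc_f_rc_17_3 lc_f_rc_10_3 lc_f_rc_14_3 lc_f_rc_14_3 lc_f_rc_20_1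 lc_f_rc_20_1 lc_f_rc_21_1 lc_f_rc_10_3 lc_f_rc_19_1 lc_f_rc_10_3 lc_f_rc_14_3 lc_f_rc_19_5 lc_f_rc_20_1 lc_f_rc_20_1 lc_f_rc_20_1 lc_f_rc_5_3 lc_f_rc_5_3 lc_f_rc_17_1 lc_f_rc_14_3 lc_f_rc_14_1 lc_f_rc_5_1 lc_f_rc_10_3 lc_f_rc_17_3 lc_f_rc_14_3 lc_f_rc_17_3 lc_f_rc_17_3 lc_f_rc_10_3 lc_f_rc_10_3 lc_f_rc_10_3 lc_f_rc_17_3 lc_f_rc_17_3 lc_f_Cert_tree lc_f_rc_20_1 lc_f_rc_10_3 lc_f_rc_5_1 lc_f_rc_19_3 lc_f_rc_5_3 lc_f_rc_14_3 lc_f_rc_17_3 lc_f_rc_21_1 lc_f_rc_10_1 lc_f_rc_5_1 lc_f_rc_20_1 lc_f_rc_21_1 lc_f_rc_17_3 lc_f_rc_20_1 lc_f_rc_17_3 lc_f_rc_21_1 lc_f_Cert_tree lc_f_rc_20_1 lc_f_rc_21_1 lc_f_rc_20_1 lc_f_rc_20_1) (@D3.rec (fun _ => (Cert rels S Gen.f)) lc_f_rc_19_1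 lc_f_rc_14_3 lc_f_rc_14_3 lc_f_Cert_tree lc_f_Cert_tree lc_f_rc_20_1 lc_f_rc_19_3 lc_f_rc_17_1 lc_f_rc_10_3 lc_f_rc_19_5 lc_f_rc_14_3 lc_f_Cert_tree lc_f_rc_20_1 lc_f_rc_21_1 lc_f_rc_17_3 lc_f_Cert_tree lc_f_rc_19_3 lc_f_rc_21_1 lc_f_rc_14_3 lc_f_rc_14_3 lc_f_rc_19_3 lc_f_rc_21_1 lc_f_rc_10_1 lc_f_rc_10_3 lc_f_rc_19_5 lc_f_rc_10_3 lc_f_rc_17_3 lc_f_rc_14_1 lc_f_rc_14_3 lc_f_rc_14_3 lc_f_rc_21_1 lc_f_rc_5_1 lc_f_rc_10_1 lc_f_rc_10_3 lc_f_rc_14_3 lc_f_rc_17_3 lc_f_rc_5_1 lc_f_rc_5_3 lc_f_rc_19_3 lc_f_rc_5_3 lc_f_rc_14_3 lc_f_rc_20_1 lc_f_rc_10_3 lc_f_rc_20_1 lc_f_rc_5_1 lc_f_rc_10_3 lc_f_rc_20_1 lc_f_rc_10_1 lc_f_rc_17_3 lc_f_rc_10_3 lc_f_rc_10_1 lc_f_rc_10_1 lc_f_rc_17_3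 lc_f_rc_20_1 lc_f_Cert_tree lc_f_rc_20_1 lc_f_rc_5_3 lc_f_rc_20_1 lc_f_rc_21_1 lc_f_rc_5_1 lc_f_Cert_tree lc_f_rc_20_1) (@D3.rec (fun _ => (Cert rels S Gen.f)) lc_f_rc_20_1 lc_f_rc_14_1 lc_f_rc_20_1 lc_f_rc_14_3 lc_f_rc_14_1 lc_f_rc_10_3 lc_f_rc_10_3 lc_f_rc_21_1 lc_f_Cert_tree lc_f_rc_14_3 lc_f_rc_14_3 lc_f_Cert_tree lc_f_rc_21_1 lc_f_rc_20_1 lc_f_rc_17_3 lc_f_rc_10_3 lc_f_rc_14_3 lc_f_rc_22_1 lc_f_rc_14_3 lc_f_rc_22_1 lc_f_rc_19_5 lc_f_rc_17_1 lc_f_rc_10_1 lc_f_rc_5_3 lc_f_rc_14_3 lc_f_rc_10_3 lc_f_rc_10_1 lc_f_rc_20_1 lc_f_rc_21_1 lc_f_rc_5_1 lc_f_rc_14_1 lc_f_rc_19_3 lc_f_rc_20_1 lc_f_rc_19_3 lc_f_rc_14_3 lc_f_Cert_tree lc_f_rc_17_3 lc_f_rc_14_3 lc_f_rc_5_3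 lc_f_rc_20_1 lc_f_rc_14_3 lc_f_rc_17_3 lc_f_rc_20_1 lc_f_rc_19_1 lc_f_rc_21_1 lc_f_rc_5_3 lc_f_rc_10_1 lc_f_rc_21_1 lc_f_rc_14_1 lc_f_rc_17_3 lc_f_rc_19_3 lc_f_rc_5_3 lc_f_rc_21_1 lc_f_rc_5_1 lc_f_rc_21_1 lc_f_Cert_tree lc_f_rc_20_1 lc_f_rc_10_1 lc_f_rc_10_3 lc_f_rc_14_1 lc_f_rc_10_3 lc_f_Cert_tree) (@D3.rec (fun _ => (Cert rels S Gen.f)) lc_f_rc_10_3 lc_f_rc_5_1 lc_f_rc_20_1 lc_f_rc_10_3 lc_f_rc_5_3 lc_f_rc_14_3 lc_f_rc_14_1 lc_f_rc_14_1 lc_f_rc_10_1 lc_f_rc_19_1 lc_f_Cert_tree lc_f_rc_20_1 lc_f_rc_10_3 lc_f_rc_14_3 lc_f_rc_20_1 lc_f_rc_10_3 lc_f_rc_21_1 lc_f_rc_14_1 lc_f_rc_20_1 lc_f_rc_10_3 lc_f_rc_10_3 lc_f_rc_14_3 lc_f_rc_17_3 lc_f_rc_10_3 lc_f_rc_17_3 lc_f_rc_5_1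 lc_f_rc_20_1 lc_f_rc_10_3 lc_f_rc_14_3 lc_f_rc_19_3 lc_f_rc_10_3 lc_f_rc_21_1 lc_f_rc_20_1 lc_f_rc_5_1 lc_f_rc_14_3 lc_f_rc_10_1 lc_f_rc_20_1 lc_f_rc_20_1 lc_f_rc_20_1 lc_f_rc_17_1 lc_f_rc_5_1 lc_f_rc_20_1 lc_f_rc_20_1 lc_f_rc_14_3 lc_f_rc_20_1 lc_f_rc_20_1 lc_f_rc_17_3 lc_f_rc_19_3 lc_f_rc_21_1 lc_f_rc_21_1 lc_f_rc_20_1 lc_f_rc_20_1 lc_f_rc_21_1 lc_f_rc_10_3 lc_f_rc_10_3 lc_f_rc_10_3 lc_f_rc_5_3 lc_f_rc_19_3 lc_f_rc_10_1 lc_f_rc_20_1 lc_f_rc_14_3 lc_f_Cert_tree) (@D3.rec (fun _ => (Cert rels S Gen.f)) lc_f_rc_20_1 lc_f_rc_10_1 lc_f_rc_21_1 lc_f_rc_20_1 lc_f_rc_14_1 lc_f_rc_20_1 lc_f_rc_5_3 lc_f_rc_19_3 lc_f_rc_20_1 lc_f_rc_20_1 lc_f_rc_14_3 lc_f_rc_10_3 lc_f_rc_20_1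 lc_f_rc_21_1 lc_f_Cert_tree lc_f_rc_20_1 lc_f_rc_10_3 lc_f_rc_14_3 lc_f_rc_17_1 lc_f_rc_20_1 lc_f_rc_19_3 lc_f_rc_20_1 lc_f_rc_20_1 lc_f_rc_21_1 lc_f_rc_14_3 lc_f_rc_14_1 lc_f_rc_20_1 lc_f_rc_14_3 lc_f_rc_10_3 lc_f_rc_14_3 lc_f_rc_17_3 lc_f_rc_21_1 lc_f_rc_10_1 lc_f_rc_10_3 lc_f_Cert_tree lc_f_rc_21_1 lc_f_Cert_tree lc_f_rc_10_3 lc_f_rc_14_1 lc_f_rc_19_3 lc_f_rc_20_1 lc_f_rc_5_1 lc_f_rc_17_1 lc_f_rc_5_3 lc_f_rc_14_3 lc_f_Cert_tree lc_f_rc_22_1 lc_f_rc_20_1 lc_f_rc_19_3 lc_f_rc_14_3 lc_f_rc_20_1 lc_f_rc_19_3 lc_f_rc_17_1 lc_f_rc_19_5 lc_f_rc_17_3 lc_f_rc_14_3 lc_f_rc_14_1 lc_f_rc_5_3 lc_f_rc_14_3 lc_f_rc_21_1 lc_f_rc_14_3 lc_f_rc_19_3) (@D3.rec (fun _ => (Cert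 rels S Gen.f)) lc_f_rc_20_1 lc_f_rc_19_5 lc_f_rc_19_5 lc_f_rc_14_3 lc_f_rc_17_3 lc_f_rc_5_1 lc_f_rc_5_3 lc_f_rc_20_1 lc_f_rc_17_3 lc_f_rc_20_1 lc_f_rc_20_1 lc_f_rc_10_1 lc_f_rc_21_1 lc_f_rc_17_3 lc_f_rc_17_1 lc_f_rc_21_1 lc_f_rc_19_1 lc_f_rc_10_1 lc_f_rc_22_1 lc_f_Cert_tree lc_f_rc_17_3 lc_f_rc_22_1 lc_f_rc_19_3 lc_f_rc_14_3 lc_f_rc_10_1 lc_f_rc_17_3 lc_f_rc_19_3 lc_f_rc_19_3 lc_f_rc_20_1 lc_f_rc_20_1 lc_f_rc_20_1 lc_f_rc_14_1 lc_f_rc_21_1 lc_f_rc_14_3 lc_f_Cert_tree lc_f_rc_19_5 lc_f_rc_20_1 lc_f_rc_17_1 lc_f_rc_17_3 lc_f_rc_20_1 lc_f_Cert_tree lc_f_rc_17_1 lc_f_rc_20_1 lc_f_rc_5_3 lc_f_Cert_tree lc_f_Cert_tree lc_f_rc_5_1 lc_f_rc_20_1 lc_f_rc_10_3 lc_f_rc_5_3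 lc_f_rc_14_3 lc_f_rc_17_3 lc_f_rc_17_1 lc_f_rc_20_1 lc_f_rc_19_3 lc_f_rc_14_1 lc_f_rc_17_3 lc_f_rc_10_1 lc_f_rc_20_1 lc_f_rc_21_1 lc_f_Cert_tree lc_f_rc_20_1) (@D3.rec (fun _ => (Cert rels S Gen.f)) lc_f_rc_10_1 lc_f_rc_17_3 lc_f_rc_14_1 lc_f_rc_21_1 lc_f_rc_21_1 lc_f_rc_17_3 lc_f_rc_20_1 lc_f_rc_17_1 lc_f_rc_5_3 lc_f_rc_21_1 lc_f_rc_14_1 lc_f_rc_20_1 lc_f_rc_21_1 lc_f_rc_20_1 lc_f_rc_19_1 lc_f_rc_10_3 lc_f_rc_14_3 lc_f_rc_5_3 lc_f_rc_10_3 lc_f_rc_21_1 lc_f_rc_17_1 lc_f_rc_19_5 lc_f_rc_20_1 lc_f_rc_14_3 lc_f_rc_10_3 lc_f_rc_5_3 lc_f_rc_10_3 lc_f_rc_21_1 lc_f_rc_10_3 lc_f_rc_20_1 lc_f_rc_14_3 lc_f_rc_20_1 lc_f_rc_21_1 lc_f_rc_14_3 lc_f_rc_5_3 lc_f_rc_17_3 lc_f_rc_19_5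 lc_f_rc_10_3 lc_f_Cert_tree lc_f_rc_19_5 lc_f_rc_10_3 lc_f_rc_20_1 lc_f_rc_19_5 lc_f_rc_22_1 lc_f_rc_14_3 lc_f_rc_10_1 lc_f_rc_14_3 lc_f_rc_17_3 lc_f_rc_19_1 lc_f_rc_19_3 lc_f_rc_14_3 lc_f_rc_19_5 lc_f_rc_14_3 lc_f_rc_10_3 lc_f_rc_21_1 lc_f_Cert_tree lc_f_rc_17_1 lc_f_rc_20_1 lc_f_rc_19_3 lc_f_rc_17_3 lc_f_rc_14_1 lc_f_rc_14_3) (@D3.rec (fun _ => (Cert rels S Gen.f)) lc_f_rc_17_3 lc_f_rc_19_1 lc_f_rc_19_3 lc_f_rc_21_1 lc_f_rc_14_1 lc_f_rc_5_3 lc_f_rc_14_3 lc_f_rc_14_3 lc_f_rc_17_3 lc_f_rc_10_3 lc_f_rc_14_3 lc_f_rc_14_3 lc_f_rc_10_3 lc_f_rc_14_3 lc_f_rc_14_3 lc_f_rc_21_1 lc_f_rc_14_3 lc_f_rc_17_3 lc_f_rc_14_3 lc_f_rc_14_3 lc_f_rc_14_3 lc_f_Cert_tree lc_f_rc_10_3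 lc_f_rc_19_3 lc_f_Cert_tree lc_f_rc_20_1 lc_f_rc_10_3 lc_f_rc_14_3 lc_f_Cert_tree lc_f_rc_21_1 lc_f_rc_5_1 lc_f_rc_10_3 lc_f_rc_20_1 lc_f_rc_14_3 lc_f_rc_19_3 lc_f_rc_5_3 lc_f_rc_14_3 lc_f_rc_17_3 lc_f_rc_17_3 lc_f_rc_14_3 lc_f_Cert_tree lc_f_rc_17_3 lc_f_rc_20_1 lc_f_rc_14_1 lc_f_rc_20_1 lc_f_rc_10_3 lc_f_rc_14_3 lc_f_rc_19_3 lc_f_rc_17_1 lc_f_rc_14_1 lc_f_rc_14_1 lc_f_rc_19_3 lc_f_rc_10_3 lc_f_rc_21_1 lc_f_rc_20_1 lc_f_rc_19_5 lc_f_rc_10_3 lc_f_rc_14_3 lc_f_rc_21_1 lc_f_rc_20_1 lc_f_rc_19_5 lc_f_rc_17_3) (@D3.rec (fun _ => (Cert rels S Gen.f)) lc_f_rc_14_1 lc_f_rc_10_1 lc_f_rc_17_3 lc_f_rc_10_1 lc_f_rc_20_1 lc_f_rc_21_1 lc_f_rc_5_3 lc_f_rc_17_3 lc_f_rc_21_1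 lc_f_rc_14_1 lc_f_rc_20_1 lc_f_rc_5_3 lc_f_rc_14_1 lc_f_rc_17_3 lc_f_rc_21_1 lc_f_rc_10_3 lc_f_rc_14_3 lc_f_rc_21_1 lc_f_rc_17_1 lc_f_rc_5_3 lc_f_rc_5_1 lc_f_rc_20_1 lc_f_rc_17_3 lc_f_rc_22_1 lc_f_rc_14_3 lc_f_rc_5_1 lc_f_rc_10_3 lc_f_rc_17_3 lc_f_rc_5_1 lc_f_rc_5_3 lc_f_Cert_tree lc_f_rc_14_1 lc_f_rc_17_3 lc_f_rc_17_3 lc_f_rc_14_3 lc_f_rc_20_1 lc_f_rc_14_1 lc_f_rc_19_5 lc_f_rc_14_3 lc_f_rc_10_3 lc_f_rc_20_1 lc_f_rc_5_3 lc_f_rc_14_3 lc_f_Cert_tree lc_f_rc_10_3 lc_f_rc_14_3 lc_f_rc_5_1 lc_f_rc_20_1 lc_f_rc_21_1 lc_f_rc_5_1 lc_f_rc_14_3 lc_f_rc_10_3 lc_f_Cert_tree lc_f_rc_21_1 lc_f_rc_14_3 lc_f_rc_22_1 lc_f_rc_14_3 lc_f_rc_14_3 lc_f_rc_10_3 lc_f_rc_17_3 lc_f_rc_14_3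 lc_f_rc_10_3) (@D3.rec (fun _ => (Cert rels S Gen.f)) lc_f_rc_5_1 lc_f_rc_20_1 lc_f_rc_20_1 lc_f_Cert_tree lc_f_Cert_tree lc_f_rc_5_3 lc_f_Cert_tree lc_f_rc_20_1 lc_f_rc_14_1 lc_f_rc_17_3 lc_f_rc_10_1 lc_f_rc_10_3 lc_f_rc_5_1 lc_f_rc_17_1 lc_f_rc_10_3 lc_f_rc_5_1 lc_f_rc_10_3 lc_f_rc_5_3 lc_f_rc_14_3 lc_f_rc_17_3 lc_f_rc_19_3 lc_f_rc_17_3 lc_f_rc_14_1 lc_f_rc_10_3 lc_f_rc_10_3 lc_f_rc_22_1 lc_f_rc_21_1 lc_f_rc_20_1 lc_f_rc_5_3 lc_f_rc_17_3 lc_f_rc_10_3 lc_f_rc_10_3 lc_f_rc_14_3 lc_f_Cert_tree lc_f_rc_10_3 lc_f_rc_17_3 lc_f_rc_10_3 lc_f_rc_17_3 lc_f_rc_17_3 lc_f_rc_20_1 lc_f_rc_20_1 lc_f_rc_21_1 lc_f_rc_14_3 lc_f_rc_14_3 lc_f_rc_21_1 lc_f_rc_19_5 lc_f_rc_21_1 lc_f_rc_19_5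 lc_f_rc_17_3 lc_f_rc_21_1 lc_f_rc_10_3 lc_f_rc_17_1 lc_f_rc_17_1 lc_f_rc_17_1 lc_f_rc_20_1 lc_f_rc_14_3 lc_f_rc_19_3 lc_f_rc_21_1 lc_f_rc_19_3 lc_f_rc_14_3 lc_f_rc_5_1 lc_f_rc_10_3) (@D3.rec (fun _ => (Cert rels S Gen.f)) lc_f_rc_19_3 lc_f_rc_10_1 lc_f_rc_17_1 lc_f_rc_10_3 lc_f_rc_20_1 lc_f_rc_19_3 lc_f_rc_17_3 lc_f_rc_21_1 lc_f_rc_5_3 lc_f_rc_19_3 lc_f_rc_14_3 lc_f_rc_14_3 lc_f_rc_14_1 lc_f_rc_21_1 lc_f_rc_10_3 lc_f_rc_14_1 lc_f_rc_14_3 lc_f_rc_5_3 lc_f_rc_10_3 lc_f_rc_21_1 lc_f_rc_17_3 lc_f_rc_20_1 lc_f_rc_5_1 lc_f_rc_5_3 lc_f_rc_10_1 lc_f_rc_10_1 lc_f_rc_17_3 lc_f_rc_17_1 lc_f_rc_21_1 lc_f_rc_21_1 lc_f_rc_5_1 lc_f_rc_20_1 lc_f_rc_5_1 lc_f_rc_17_3 lc_f_rc_19_3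 lc_f_rc_5_3 lc_f_rc_21_1 lc_f_rc_10_3 lc_f_rc_10_3 lc_f_rc_19_1 lc_f_rc_5_3 lc_f_rc_10_3 lc_f_rc_10_3 lc_f_rc_10_1 lc_f_rc_14_1 lc_f_rc_17_3 lc_f_rc_21_1 lc_f_rc_10_3 lc_f_rc_17_3 lc_f_rc_21_1 lc_f_rc_20_1 lc_f_rc_10_3 lc_f_rc_17_1 lc_f_rc_22_1 lc_f_rc_14_1 lc_f_rc_19_5 lc_f_rc_5_3 lc_f_rc_21_1 lc_f_rc_14_3 lc_f_rc_14_3 lc_f_rc_19_3 lc_f_rc_14_3) (@D3.rec (fun _ => (Cert rels S Gen.f)) lc_f_rc_21_1 lc_f_rc_14_1 lc_f_Cert_tree lc_f_rc_21_1 lc_f_rc_5_3 lc_f_rc_10_1 lc_f_rc_20_1 lc_f_rc_14_1 lc_f_rc_20_1 lc_f_rc_10_1 lc_f_rc_19_5 lc_f_rc_14_3 lc_f_rc_10_1 lc_f_rc_17_3 lc_f_rc_17_1 lc_f_rc_10_1 lc_f_rc_20_1 lc_f_rc_10_1 lc_f_rc_14_1 lc_f_rc_14_1 lc_f_rc_14_1 lc_f_rc_17_3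 lc_f_rc_22_1 lc_f_rc_21_1 lc_f_rc_14_1 lc_f_rc_17_3 lc_f_rc_20_1 lc_f_rc_10_1 lc_f_rc_17_3 lc_f_rc_17_3 lc_f_rc_14_3 lc_f_rc_10_1 lc_f_rc_21_1 lc_f_rc_17_3 lc_f_rc_19_3 lc_f_rc_21_1 lc_f_rc_5_3 lc_f_rc_17_3 lc_f_rc_10_1 lc_f_rc_22_1 lc_f_rc_19_3 lc_f_rc_17_3 lc_f_rc_20_1 lc_f_rc_14_1 lc_f_rc_22_1 lc_f_rc_21_1 lc_f_rc_17_1 lc_f_Cert_tree lc_f_rc_21_1 lc_f_rc_20_1 lc_f_rc_20_1 lc_f_rc_10_1 lc_f_rc_19_3 lc_f_rc_17_1 lc_f_rc_14_3 lc_f_Cert_tree lc_f_rc_20_1 lc_f_rc_14_3 lc_f_rc_17_3 lc_f_rc_5_1 lc_f_rc_5_3 lc_f_rc_14_3) (@D3.rec (fun _ => (Cert rels S Gen.f)) lc_f_rc_20_1 lc_f_rc_10_3 lc_f_rc_19_3 lc_f_rc_20_1 lc_f_rc_14_3 lc_f_Cert_tree lc_f_rc_20_1 lc_f_rc_10_3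 lc_f_rc_14_1 lc_f_rc_14_1 lc_f_rc_17_3 lc_f_rc_22_1 lc_f_rc_10_3 lc_f_rc_5_1 lc_f_rc_10_3 lc_f_rc_21_1 lc_f_rc_17_1 lc_f_rc_20_1 lc_f_rc_5_3 lc_f_rc_14_3 lc_f_rc_10_3 lc_f_rc_10_3 lc_f_rc_21_1 lc_f_rc_20_1 lc_f_rc_20_1 lc_f_rc_22_1 lc_f_rc_17_3 lc_f_rc_10_3 lc_f_rc_17_3 lc_f_rc_5_1 lc_f_rc_21_1 lc_f_rc_20_1 lc_f_rc_19_3 lc_f_rc_10_3 lc_f_rc_19_5 lc_f_rc_17_3 lc_f_rc_17_3 lc_f_rc_10_3 lc_f_rc_20_1 lc_f_rc_17_1 lc_f_rc_14_3 lc_f_rc_17_3 lc_f_rc_17_3 lc_f_rc_5_3 lc_f_rc_10_1 lc_f_rc_20_1 lc_f_rc_14_3 lc_f_rc_10_3 lc_f_rc_10_3 lc_f_rc_22_1 lc_f_rc_14_1 lc_f_rc_14_3 lc_f_rc_21_1 lc_f_rc_17_3 lc_f_rc_21_1 lc_f_rc_21_1 lc_f_rc_19_3 lc_f_rc_21_1 lc_f_rc_21_1 lc_f_rc_10_3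 lc_f_Cert_tree lc_f_rc_10_3) (@D3.rec (fun _ => (Cert rels S Gen.f)) lc_f_rc_20_1 lc_f_rc_5_3 lc_f_rc_19_5 lc_f_rc_19_5 lc_f_rc_10_3 lc_f_rc_22_1 lc_f_rc_21_1 lc_f_rc_10_3 lc_f_rc_14_1 lc_f_rc_17_3 lc_f_rc_20_1 lc_f_rc_10_3 lc_f_rc_14_3 lc_f_rc_10_1 lc_f_rc_10_3 lc_f_rc_10_1 lc_f_Cert_tree lc_f_rc_21_1 lc_f_rc_14_3 lc_f_Cert_tree lc_f_rc_20_1 lc_f_rc_21_1 lc_f_rc_14_3 lc_f_rc_14_3 lc_f_rc_17_3 lc_f_rc_14_3 lc_f_rc_14_3 lc_f_rc_17_3 lc_f_rc_21_1 lc_f_rc_5_3 lc_f_rc_21_1 lc_f_rc_21_1 lc_f_rc_19_3 lc_f_rc_10_3 lc_f_rc_21_1 lc_f_rc_20_1 lc_f_rc_10_3 lc_f_rc_5_1 lc_f_rc_14_3 lc_f_rc_14_3 lc_f_rc_14_3 lc_f_rc_19_1 lc_f_rc_20_1 lc_f_rc_21_1 lc_f_rc_10_1 lc_f_rc_17_3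 lc_f_Cert_tree lc_f_rc_20_1 lc_f_rc_17_1 lc_f_rc_20_1 lc_f_rc_21_1 lc_f_rc_20_1 lc_f_rc_20_1 lc_f_rc_10_1 lc_f_rc_17_3 lc_f_rc_21_1 lc_f_rc_19_1 lc_f_rc_20_1 lc_f_rc_21_1 lc_f_rc_10_3 lc_f_rc_19_3 lc_f_rc_20_1) (@D3.rec (fun _ => (Cert rels S Gen.f)) lc_f_rc_21_1 lc_f_rc_5_3 lc_f_Cert_tree lc_f_rc_10_3 lc_f_rc_17_3 lc_f_rc_14_3 lc_f_rc_5_1 lc_f_rc_20_1 lc_f_Cert_tree lc_f_rc_19_3 lc_f_rc_19_5 lc_f_rc_17_1 lc_f_rc_20_1 lc_f_rc_21_1 lc_f_rc_10_3 lc_f_rc_14_3 lc_f_rc_14_3 lc_f_rc_17_3 lc_f_Cert_tree lc_f_Cert_tree lc_f_rc_20_1 lc_f_Cert_tree lc_f_Cert_tree lc_f_rc_20_1 lc_f_rc_5_3 lc_f_rc_20_1 lc_f_rc_5_3 lc_f_rc_14_1 lc_f_rc_5_1 lc_f_rc_10_3 lc_f_rc_20_1 lc_f_rc_20_1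 lc_f_rc_14_1 lc_f_rc_20_1 lc_f_rc_17_1 lc_f_rc_10_1 lc_f_rc_10_3 lc_f_rc_14_3 lc_f_rc_14_3 lc_f_Cert_tree lc_f_rc_19_3 lc_f_rc_10_3 lc_f_Cert_tree lc_f_Cert_tree lc_f_rc_14_3 lc_f_rc_17_3 lc_f_rc_20_1 lc_f_rc_17_3 lc_f_rc_10_3 lc_f_rc_10_3 lc_f_rc_20_1 lc_f_rc_17_3 lc_f_rc_5_1 lc_f_rc_10_3 lc_f_Cert_tree lc_f_Cert_tree lc_f_rc_20_1 lc_f_rc_5_1 lc_f_rc_10_3 lc_f_rc_14_3 lc_f_rc_20_1 lc_f_rc_10_3) (@D3.rec (fun _ => (Cert rels S Gen.f)) lc_f_rc_5_1 lc_f_rc_17_1 lc_f_rc_10_3 lc_f_rc_20_1 lc_f_Cert_tree lc_f_rc_10_3 lc_f_rc_10_1 lc_f_rc_10_3 lc_f_rc_20_1 lc_f_rc_10_3 lc_f_rc_10_3 lc_f_rc_21_1 lc_f_rc_17_3 lc_f_rc_21_1 lc_f_rc_5_3 lc_f_rc_5_3 lc_f_rc_17_3 lc_f_rc_10_1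 lc_f_rc_10_3 lc_f_rc_14_3 lc_f_rc_14_1 lc_f_Cert_tree lc_f_rc_19_5 lc_f_rc_14_1 lc_f_Cert_tree lc_f_rc_20_1 lc_f_rc_21_1 lc_f_rc_17_3 lc_f_rc_14_3 lc_f_rc_20_1 lc_f_rc_10_3 lc_f_rc_17_3 lc_f_rc_5_3 lc_f_rc_14_3 lc_f_rc_14_3 lc_f_rc_20_1 lc_f_rc_14_3 lc_f_rc_14_3 lc_f_rc_17_3 lc_f_rc_14_1 lc_f_rc_14_3 lc_f_rc_19_5 lc_f_Cert_tree lc_f_rc_20_1 lc_f_rc_17_3 lc_f_rc_21_1 lc_f_rc_20_1 lc_f_rc_20_1 lc_f_rc_14_3 lc_f_rc_5_1 lc_f_rc_14_3 lc_f_rc_10_1 lc_f_rc_10_3 lc_f_rc_17_3 lc_f_rc_10_1 lc_f_rc_17_3 lc_f_rc_21_1 lc_f_rc_21_1 lc_f_rc_17_3 lc_f_rc_20_1 lc_f_rc_10_3 lc_f_rc_17_3) (@D3.rec (fun _ => (Cert rels S Gen.f)) lc_f_rc_14_3 lc_f_rc_19_5 lc_f_rc_17_3 lc_f_rc_14_1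 lc_f_rc_20_1 lc_f_rc_19_3 lc_f_rc_20_1 lc_f_Cert_tree lc_f_rc_5_3 lc_f_Cert_tree lc_f_rc_20_1 lc_f_rc_10_3 lc_f_rc_21_1 lc_f_Cert_tree lc_f_rc_20_1 lc_f_rc_14_3 lc_f_rc_14_3 lc_f_rc_10_3 lc_f_rc_17_3 lc_f_rc_17_3 lc_f_rc_20_1 lc_f_rc_21_1 lc_f_rc_19_5 lc_f_rc_10_3 lc_f_rc_17_3 lc_f_rc_17_3 lc_f_rc_19_3 lc_f_rc_17_3 lc_f_rc_14_3 lc_f_Cert_tree lc_f_rc_14_3 lc_f_rc_10_1 lc_f_rc_10_3 lc_f_rc_20_1 lc_f_rc_17_3 lc_f_rc_14_3 lc_f_rc_10_1 lc_f_rc_10_3 lc_f_rc_20_1 lc_f_rc_17_3 lc_f_rc_14_3 lc_f_rc_5_3 lc_f_rc_5_3 lc_f_rc_5_1 lc_f_rc_20_1 lc_f_rc_21_1 lc_f_rc_17_3 lc_f_rc_14_1 lc_f_rc_14_3 lc_f_rc_20_1 lc_f_Cert_tree lc_f_rc_17_1 lc_f_rc_20_1 lc_f_rc_5_1 lc_f_rc_10_3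 lc_f_Cert_tree lc_f_rc_20_1 lc_f_rc_14_3 lc_f_rc_17_3 lc_f_rc_19_3 lc_f_rc_14_3 lc_f_rc_20_1) (@D3.rec (fun _ => (Cert rels S Gen.f)) lc_f_Cert_tree lc_f_rc_5_3 lc_f_rc_19_5 lc_f_rc_14_3 lc_f_rc_17_1 lc_f_rc_20_1 lc_f_rc_5_1 lc_f_rc_14_1 lc_f_rc_19_3 lc_f_rc_5_3 lc_f_rc_5_1 lc_f_rc_10_1 lc_f_rc_14_3 lc_f_rc_14_3 lc_f_rc_10_1 lc_f_rc_17_1 lc_f_Cert_tree lc_f_rc_20_1 lc_f_rc_19_5 lc_f_rc_20_1 lc_f_rc_14_3 lc_f_rc_14_3 lc_f_rc_14_1 lc_f_rc_10_1 lc_f_Cert_tree lc_f_rc_20_1 lc_f_rc_10_3 lc_f_Cert_tree lc_f_rc_17_3 lc_f_rc_17_3 lc_f_Cert_tree lc_f_rc_20_1 lc_f_rc_14_3 lc_f_rc_5_1 lc_f_rc_10_3 lc_f_Cert_tree lc_f_rc_17_3 lc_f_rc_20_1 lc_f_rc_17_1 lc_f_rc_10_3 lc_f_rc_10_3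 lc_f_rc_22_1 lc_f_rc_19_5 lc_f_rc_19_1 lc_f_rc_10_3 lc_f_rc_10_3 lc_f_rc_17_3 lc_f_rc_19_1 lc_f_rc_10_3 lc_f_rc_10_1 lc_f_rc_19_3 lc_f_rc_17_3 lc_f_rc_21_1 lc_f_rc_14_3 lc_f_rc_17_3 lc_f_rc_10_3 lc_f_rc_17_3 lc_f_rc_14_3 lc_f_rc_10_3 lc_f_rc_21_1 lc_f_rc_21_1 lc_f_rc_10_3) (@D3.rec (fun _ => (Cert rels S Gen.f)) lc_f_rc_17_3 lc_f_rc_10_3 lc_f_rc_20_1 lc_f_rc_14_3 lc_f_rc_10_3 lc_f_rc_14_3 lc_f_rc_14_1 lc_f_rc_14_1 lc_f_rc_14_1 lc_f_rc_17_3 lc_f_rc_14_3 lc_f_Cert_tree lc_f_rc_14_3 lc_f_rc_14_1 lc_f_rc_22_1 lc_f_rc_20_1 lc_f_rc_10_1 lc_f_rc_14_1 lc_f_rc_19_3 lc_f_rc_10_3 lc_f_rc_21_1 lc_f_rc_10_3 lc_f_rc_17_3 lc_f_rc_17_3 lc_f_rc_20_1 lc_f_rc_10_3 lc_f_rc_10_3 lc_f_rc_19_3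 lc_f_rc_5_3 lc_f_rc_14_3 lc_f_rc_17_3 lc_f_rc_19_3 lc_f_rc_5_3 lc_f_rc_10_3 lc_f_rc_5_1 lc_f_rc_19_3 lc_f_rc_10_3 lc_f_rc_14_3 lc_f_rc_5_3 lc_f_rc_21_1 lc_f_rc_20_1 lc_f_rc_14_3 lc_f_rc_17_3 lc_f_rc_17_1 lc_f_rc_5_3 lc_f_rc_14_3 lc_f_rc_20_1 lc_f_rc_17_3 lc_f_rc_20_1 lc_f_rc_14_3 lc_f_rc_5_3 lc_f_rc_14_3 lc_f_rc_17_3 lc_f_rc_17_3 lc_f_rc_17_3 lc_f_rc_10_3 lc_f_rc_22_1 lc_f_rc_10_3 lc_f_rc_20_1 lc_f_rc_20_1 lc_f_rc_17_3 lc_f_Cert_tree)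
def ce_f_21 : D2 → D3 → (Cert rels S Gen.f) := @D2.rec (fun _ => D3 → (Cert rels S Gen.f)) (@D3.rec (fun _ => (Cert rels S Gen.f)) lc_f_rc_20_1 lc_f_rc_10_3 lc_f_rc_5_1 lc_f_rc_14_3 lc_f_rc_20_1 lc_f_rc_14_3 lc_f_rc_17_3 lc_f_rc_10_3 lc_f_rc_17_3 lc_f_rc_17_3 lc_f_rc_5_3 lc_f_rc_19_3 lc_f_rc_10_3 lc_f_rc_17_3 lc_f_rc_5_1 lc_f_rc_10_3 lc_f_rc_19_3 lc_f_rc_14_3 lc_f_rc_19_1 lc_f_rc_10_1 lc_f_rc_21_1 lc_f_rc_17_3 lc_f_rc_10_3 lc_f_rc_14_3 lc_f_rc_14_3 lc_f_rc_5_1 lc_f_rc_10_3 lc_f_rc_17_3 lc_f_rc_20_1 lc_f_rc_19_5 lc_f_rc_10_3 lc_f_rc_10_3 lc_f_rc_17_3 lc_f_rc_14_3 lc_f_rc_19_1 lc_f_rc_17_3 lc_f_rc_17_3 lc_f_rc_14_3 lc_f_rc_14_3 lc_f_rc_17_3 lc_f_rc_10_3 lc_f_rc_19_5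 lc_f_rc_17_3 lc_f_rc_14_3 lc_f_rc_5_1 lc_f_rc_14_3 lc_f_rc_5_3 lc_f_rc_17_3 lc_f_rc_20_1 lc_f_rc_10_3 lc_f_rc_19_3 lc_f_rc_14_1 lc_f_rc_14_3 lc_f_rc_17_1 lc_f_rc_10_1 lc_f_rc_17_3 lc_f_rc_19_3 lc_f_rc_20_1 lc_f_rc_19_3 lc_f_rc_17_3 lc_f_rc_10_3 lc_f_rc_10_3) (@D3.rec (fun _ => (Cert rels S Gen.f)) lc_f_rc_14_3 lc_f_rc_14_3 lc_f_rc_10_3 lc_f_rc_14_3 lc_f_rc_17_1 lc_f_rc_17_3 lc_f_rc_14_1 lc_f_rc_17_3 lc_f_rc_10_3 lc_f_rc_5_1 lc_f_rc_10_3 lc_f_rc_17_3 lc_f_rc_19_3 lc_f_rc_17_3 lc_f_rc_5_1 lc_f_rc_14_3 lc_f_rc_10_3 lc_f_rc_20_1 lc_f_rc_17_3 lc_f_rc_14_3 lc_f_rc_21_1 lc_f_rc_14_3 lc_f_rc_14_3 lc_f_rc_17_3 lc_f_rc_17_3 lc_f_rc_14_3 lc_f_rc_17_3 lc_f_rc_14_1 lc_f_Cert_tree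 lc_f_rc_17_1 lc_f_rc_10_3 lc_f_rc_10_3 lc_f_rc_21_1 lc_f_rc_22_1 lc_f_rc_14_1 lc_f_rc_17_1 lc_f_rc_17_3 lc_f_rc_5_3 lc_f_rc_14_3 lc_f_rc_17_3 lc_f_rc_17_3 lc_f_rc_10_3 lc_f_rc_17_3 lc_f_rc_19_5 lc_f_rc_10_3 lc_f_rc_21_1 lc_f_rc_14_3 lc_f_rc_5_3 lc_f_rc_17_1 lc_f_rc_10_3 lc_f_rc_14_3 lc_f_rc_14_3 lc_f_rc_17_3 lc_f_rc_10_1 lc_f_rc_10_3 lc_f_rc_20_1 lc_f_rc_20_1 lc_f_rc_10_3 lc_f_rc_10_3 lc_f_rc_21_1 lc_f_rc_14_1 lc_f_rc_20_1) (@D3.rec (fun _ => (Cert rels S Gen.f)) lc_f_rc_10_3 lc_f_rc_21_1 lc_f_rc_14_3 lc_f_rc_17_3 lc_f_rc_21_1 lc_f_rc_14_1 lc_f_rc_10_3 lc_f_rc_14_3 lc_f_rc_10_3 lc_f_rc_5_1 lc_f_rc_14_3 lc_f_rc_10_1 lc_f_rc_17_1 lc_f_rc_10_3 lc_f_rc_20_1 lc_f_rc_5_1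 lc_f_rc_14_1 lc_f_rc_14_1 lc_f_Cert_tree lc_f_rc_10_1 lc_f_Cert_tree lc_f_rc_20_1 lc_f_Cert_tree lc_f_rc_20_1 lc_f_rc_20_1 lc_f_rc_20_1 lc_f_rc_20_1 lc_f_rc_21_1 lc_f_Cert_tree lc_f_rc_20_1 lc_f_rc_10_3 lc_f_rc_22_1 lc_f_rc_10_3 lc_f_rc_17_3 lc_f_rc_14_3 lc_f_rc_21_1 lc_f_rc_14_3 lc_f_rc_5_3 lc_f_rc_17_3 lc_f_rc_14_3 lc_f_rc_14_1 lc_f_rc_14_1 lc_f_rc_10_3 lc_f_rc_10_1 lc_f_rc_19_1 lc_f_rc_20_1 lc_f_rc_21_1 lc_f_rc_14_3 lc_f_rc_14_3 lc_f_rc_17_3 lc_f_rc_21_1 lc_f_rc_14_3 lc_f_rc_20_1 lc_f_rc_14_3 lc_f_rc_10_1 lc_f_rc_17_3 lc_f_rc_19_3 lc_f_rc_14_3 lc_f_rc_19_3 lc_f_rc_5_1 lc_f_rc_21_1 lc_f_rc_10_3) (@D3.rec (fun _ => (Cert rels S Gen.f)) lc_f_rc_14_1 lc_f_rc_10_3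 lc_f_rc_14_3 lc_f_rc_20_1 lc_f_rc_5_1 lc_f_rc_17_3 lc_f_rc_10_3 lc_f_rc_20_1 lc_f_rc_5_3 lc_f_Cert_tree lc_f_rc_14_1 lc_f_rc_19_3 lc_f_rc_20_1 lc_f_rc_20_1 lc_f_rc_20_1 lc_f_rc_19_1 lc_f_rc_17_3 lc_f_rc_14_1 lc_f_rc_21_1 lc_f_rc_19_5 lc_f_rc_17_3 lc_f_rc_17_3 lc_f_rc_19_5 lc_f_rc_14_3 lc_f_rc_14_3 lc_f_rc_14_1 lc_f_rc_14_1 lc_f_rc_5_3 lc_f_rc_17_3 lc_f_rc_17_1 lc_f_rc_10_3 lc_f_rc_20_1 lc_f_rc_21_1 lc_f_rc_21_1 lc_f_rc_20_1 lc_f_rc_17_3 lc_f_Cert_tree lc_f_rc_20_1 lc_f_rc_14_3 lc_f_rc_17_1 lc_f_rc_20_1 lc_f_rc_20_1 lc_f_rc_22_1 lc_f_rc_20_1 lc_f_rc_21_1 lc_f_rc_20_1 lc_f_rc_19_3 lc_f_rc_10_3 lc_f_rc_17_3 lc_f_rc_17_1 lc_f_rc_14_3 lc_f_rc_5_3 lc_f_rc_10_1 lc_f_rc_10_3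 lc_f_rc_10_1 lc_f_rc_10_3 lc_f_rc_20_1 lc_f_rc_17_1 lc_f_rc_10_3 lc_f_rc_14_3 lc_f_rc_14_1 lc_f_rc_5_3) (@D3.rec (fun _ => (Cert rels S Gen.f)) lc_f_rc_20_1 lc_f_rc_14_3 lc_f_rc_14_3 lc_f_rc_10_3 lc_f_rc_17_3 lc_f_rc_14_3 lc_f_rc_17_1 lc_f_rc_21_1 lc_f_rc_17_3 lc_f_rc_20_1 lc_f_rc_21_1 lc_f_rc_20_1 lc_f_rc_20_1 lc_f_rc_17_3 lc_f_rc_14_3 lc_f_rc_19_5 lc_f_rc_20_1 lc_f_rc_10_3 lc_f_rc_17_1 lc_f_rc_19_3 lc_f_rc_20_1 lc_f_rc_21_1 lc_f_rc_19_3 lc_f_rc_20_1 lc_f_rc_17_3 lc_f_rc_17_3 lc_f_rc_17_3 lc_f_rc_14_1 lc_f_rc_20_1 lc_f_rc_17_3 lc_f_rc_14_3 lc_f_rc_5_3 lc_f_rc_10_1 lc_f_rc_17_3 lc_f_rc_17_3 lc_f_rc_20_1 lc_f_rc_14_3 lc_f_rc_14_3 lc_f_rc_14_1 lc_f_rc_14_3 lc_f_rc_20_1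 lc_f_rc_21_1 lc_f_rc_21_1 lc_f_rc_14_3 lc_f_rc_17_1 lc_f_rc_19_3 lc_f_rc_21_1 lc_f_rc_20_1 lc_f_rc_21_1 lc_f_rc_19_3 lc_f_rc_10_3 lc_f_rc_17_1 lc_f_rc_19_3 lc_f_rc_5_1 lc_f_rc_10_3 lc_f_rc_17_3 lc_f_rc_5_1 lc_f_rc_20_1 lc_f_rc_20_1 lc_f_rc_20_1 lc_f_rc_19_5 lc_f_rc_19_5) (@D3.rec (fun _ => (Cert rels S Gen.f)) lc_f_rc_5_3 lc_f_rc_10_3 lc_f_rc_20_1 lc_f_rc_5_3 lc_f_rc_17_1 lc_f_rc_17_3 lc_f_rc_14_3 lc_f_rc_20_1 lc_f_rc_10_1 lc_f_rc_10_3 lc_f_rc_19_5 lc_f_rc_17_3 lc_f_rc_20_1 lc_f_rc_21_1 lc_f_rc_17_3 lc_f_rc_14_3 lc_f_rc_10_3 lc_f_rc_17_3 lc_f_rc_5_1 lc_f_rc_20_1 lc_f_rc_5_3 lc_f_rc_10_3 lc_f_rc_17_3 lc_f_rc_17_1 lc_f_rc_17_3 lc_f_rc_10_3 lc_f_rc_17_3 lc_f_rc_21_1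 lc_f_rc_10_3 lc_f_rc_17_3 lc_f_rc_17_3 lc_f_rc_21_1 lc_f_rc_17_3 lc_f_rc_10_3 lc_f_rc_17_3 lc_f_rc_10_1 lc_f_rc_20_1 lc_f_rc_14_3 lc_f_rc_20_1 lc_f_rc_14_3 lc_f_rc_10_3 lc_f_rc_20_1 lc_f_rc_17_3 lc_f_rc_14_3 lc_f_rc_10_3 lc_f_rc_21_1 lc_f_rc_5_1 lc_f_rc_14_3 lc_f_rc_10_3 lc_f_rc_19_3 lc_f_rc_17_1 lc_f_rc_17_1 lc_f_rc_20_1 lc_f_rc_14_1 lc_f_rc_14_3 lc_f_rc_17_3 lc_f_rc_10_1 lc_f_rc_5_3 lc_f_rc_20_1 lc_f_rc_14_3 lc_f_rc_22_1 lc_f_rc_21_1) (@D3.rec (fun _ => (Cert rels S Gen.f)) lc_f_rc_10_3 lc_f_rc_17_3 lc_f_Cert_tree lc_f_rc_5_1 lc_f_rc_10_1 lc_f_rc_5_3 lc_f_rc_17_3 lc_f_rc_17_3 lc_f_rc_5_3 lc_f_rc_10_3 lc_f_rc_20_1 lc_f_Cert_tree lc_f_rc_14_1 lc_f_rc_10_1 lc_f_rc_17_1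 lc_f_rc_20_1 lc_f_rc_20_1 lc_f_rc_5_3 lc_f_rc_10_3 lc_f_rc_21_1 lc_f_rc_10_3 lc_f_rc_10_1 lc_f_rc_17_1 lc_f_rc_19_5 lc_f_rc_17_3 lc_f_rc_14_3 lc_f_rc_14_3 lc_f_rc_14_3 lc_f_rc_20_1 lc_f_rc_10_3 lc_f_rc_5_1 lc_f_rc_5_3 lc_f_rc_19_3 lc_f_rc_17_3 lc_f_rc_17_3 lc_f_rc_10_3 lc_f_rc_14_3 lc_f_rc_14_3 lc_f_rc_10_3 lc_f_rc_10_1 lc_f_rc_17_3 lc_f_rc_21_1 lc_f_rc_10_1 lc_f_rc_14_3 lc_f_rc_20_1 lc_f_rc_14_1 lc_f_rc_21_1 lc_f_rc_20_1 lc_f_rc_20_1 lc_f_rc_10_1 lc_f_rc_21_1 lc_f_rc_19_3 lc_f_rc_17_3 lc_f_rc_17_3 lc_f_Cert_tree lc_f_rc_17_3 lc_f_rc_19_5 lc_f_rc_10_3 lc_f_rc_19_3 lc_f_rc_17_3 lc_f_rc_17_3 lc_f_rc_17_3) (@D3.rec (fun _ => (Cert rels S Gen.f)) lc_f_rc_5_1 lc_f_rc_20_1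 lc_f_rc_20_1 lc_f_rc_5_3 lc_f_rc_17_3 lc_f_rc_17_3 lc_f_rc_22_1 lc_f_rc_17_1 lc_f_rc_20_1 lc_f_rc_20_1 lc_f_rc_20_1 lc_f_rc_19_3 lc_f_rc_14_1 lc_f_rc_19_3 lc_f_rc_17_3 lc_f_rc_10_3 lc_f_rc_14_3 lc_f_rc_20_1 lc_f_rc_10_3 lc_f_rc_17_3 lc_f_rc_17_3 lc_f_rc_21_1 lc_f_rc_20_1 lc_f_rc_20_1 lc_f_rc_14_1 lc_f_rc_14_1 lc_f_rc_10_3 lc_f_rc_17_3 lc_f_rc_14_3 lc_f_rc_17_1 lc_f_rc_17_3 lc_f_rc_20_1 lc_f_rc_10_3 lc_f_rc_14_3 lc_f_rc_21_1 lc_f_rc_10_1 lc_f_rc_17_1 lc_f_rc_19_1 lc_f_rc_5_1 lc_f_rc_17_1 lc_f_rc_20_1 lc_f_rc_21_1 lc_f_rc_20_1 lc_f_rc_5_3 lc_f_rc_10_3 lc_f_rc_17_3 lc_f_rc_21_1 lc_f_rc_17_3 lc_f_Cert_tree lc_f_rc_17_3 lc_f_rc_14_3 lc_f_rc_21_1 lc_f_rc_17_3 lc_f_rc_20_1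 lc_f_rc_10_3 lc_f_rc_5_1 lc_f_rc_5_3 lc_f_rc_21_1 lc_f_rc_14_1 lc_f_rc_17_1 lc_f_rc_14_1 lc_f_rc_17_3) (@D3.rec (fun _ => (Cert rels S Gen.f)) lc_f_rc_14_3 lc_f_rc_10_3 lc_f_rc_20_1 lc_f_rc_14_3 lc_f_rc_19_5 lc_f_rc_10_3 lc_f_rc_10_3 lc_f_rc_19_3 lc_f_rc_14_3 lc_f_rc_19_5 lc_f_rc_19_3 lc_f_rc_10_3 lc_f_rc_19_1 lc_f_rc_17_1 lc_f_rc_20_1 lc_f_rc_19_3 lc_f_rc_14_3 lc_f_Cert_tree lc_f_rc_20_1 lc_f_rc_17_3 lc_f_rc_20_1 lc_f_rc_14_3 lc_f_rc_17_3 lc_f_rc_10_3 lc_f_rc_17_3 lc_f_rc_10_3 lc_f_rc_17_3 lc_f_rc_10_3 lc_f_rc_17_3 lc_f_rc_14_3 lc_f_rc_10_3 lc_f_rc_21_1 lc_f_rc_17_3 lc_f_rc_14_3 lc_f_rc_14_1 lc_f_rc_19_3 lc_f_rc_10_1 lc_f_rc_22_1 lc_f_rc_22_1 lc_f_rc_10_3 lc_f_rc_21_1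 lc_f_rc_17_3 lc_f_rc_17_3 lc_f_rc_19_1 lc_f_rc_5_3 lc_f_rc_14_3 lc_f_rc_10_1 lc_f_rc_20_1 lc_f_rc_20_1 lc_f_rc_17_3 lc_f_rc_10_3 lc_f_rc_14_3 lc_f_rc_10_3 lc_f_rc_21_1 lc_f_rc_17_1 lc_f_rc_17_3 lc_f_rc_17_3 lc_f_rc_17_3 lc_f_rc_14_3 lc_f_rc_19_3 lc_f_rc_14_3 lc_f_rc_19_3) (@D3.rec (fun _ => (Cert rels S Gen.f)) lc_f_rc_5_1 lc_f_rc_17_3 lc_f_rc_20_1 lc_f_rc_21_1 lc_f_rc_10_1 lc_f_rc_14_3 lc_f_rc_10_1 lc_f_rc_19_3 lc_f_rc_17_1 lc_f_rc_20_1 lc_f_rc_17_3 lc_f_rc_17_3 lc_f_rc_14_1 lc_f_rc_14_3 lc_f_rc_14_3 lc_f_rc_14_1 lc_f_rc_19_1 lc_f_rc_14_1 lc_f_rc_17_1 lc_f_rc_14_1 lc_f_rc_10_1 lc_f_rc_21_1 lc_f_rc_20_1 lc_f_rc_17_1 lc_f_rc_17_1 lc_f_rc_14_3 lc_f_rc_19_3 lc_f_rc_14_1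 lc_f_rc_14_3 lc_f_rc_17_3 lc_f_rc_10_1 lc_f_rc_5_3 lc_f_rc_20_1 lc_f_rc_14_1 lc_f_rc_5_3 lc_f_rc_19_1 lc_f_rc_5_1 lc_f_rc_17_3 lc_f_rc_17_3 lc_f_rc_17_1 lc_f_rc_10_3 lc_f_rc_5_3 lc_f_rc_21_1 lc_f_rc_21_1 lc_f_rc_14_3 lc_f_rc_17_3 lc_f_rc_19_1 lc_f_rc_14_1 lc_f_rc_10_3 lc_f_rc_5_1 lc_f_rc_14_3 lc_f_rc_17_3 lc_f_rc_21_1 lc_f_rc_22_1 lc_f_rc_10_3 lc_f_rc_21_1 lc_f_rc_14_1 lc_f_rc_14_1 lc_f_rc_17_3 lc_f_rc_20_1 lc_f_rc_17_1 lc_f_rc_21_1) (@D3.rec (fun _ => (Cert rels S Gen.f)) lc_f_rc_5_3 lc_f_rc_10_3 lc_f_rc_17_1 lc_f_rc_14_1 lc_f_rc_20_1 lc_f_rc_19_5 lc_f_rc_14_1 lc_f_rc_21_1 lc_f_rc_5_1 lc_f_rc_14_1 lc_f_rc_17_3 lc_f_rc_20_1 lc_f_rc_17_3 lc_f_rc_14_3 lc_f_rc_20_1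 lc_f_rc_20_1 lc_f_rc_17_3 lc_f_rc_20_1 lc_f_rc_21_1 lc_f_rc_10_3 lc_f_rc_22_1 lc_f_rc_14_3 lc_f_rc_17_1 lc_f_rc_19_3 lc_f_rc_14_3 lc_f_rc_14_1 lc_f_rc_14_3 lc_f_rc_10_1 lc_f_rc_10_3 lc_f_Cert_tree lc_f_rc_21_1 lc_f_rc_17_3 lc_f_rc_20_1 lc_f_rc_17_3 lc_f_Cert_tree lc_f_rc_21_1 lc_f_rc_20_1 lc_f_rc_20_1 lc_f_rc_14_3 lc_f_Cert_tree lc_f_rc_20_1 lc_f_Cert_tree lc_f_rc_21_1 lc_f_rc_17_3 lc_f_rc_20_1 lc_f_rc_10_3 lc_f_rc_10_3 lc_f_rc_21_1 lc_f_rc_19_3 lc_f_rc_20_1 lc_f_rc_10_3 lc_f_rc_14_1 lc_f_rc_10_3 lc_f_rc_10_3 lc_f_rc_14_3 lc_f_rc_10_3 lc_f_rc_5_3 lc_f_rc_17_3 lc_f_rc_21_1 lc_f_rc_20_1 lc_f_rc_5_1 lc_f_rc_14_1) (@D3.rec (fun _ => (Cert rels S Gen.f)) lc_f_Cert_tree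 lc_f_rc_10_3 lc_f_rc_10_3 lc_f_rc_21_1 lc_f_rc_17_3 lc_f_rc_20_1 lc_f_rc_17_3 lc_f_rc_14_3 lc_f_rc_17_3 lc_f_rc_10_3 lc_f_rc_17_1 lc_f_rc_21_1 lc_f_rc_20_1 lc_f_rc_10_3 lc_f_rc_17_3 lc_f_rc_10_3 lc_f_rc_20_1 lc_f_rc_14_1 lc_f_rc_5_3 lc_f_rc_17_1 lc_f_rc_21_1 lc_f_rc_14_3 lc_f_rc_20_1 lc_f_rc_21_1 lc_f_rc_19_3 lc_f_rc_10_3 lc_f_rc_22_1 lc_f_rc_17_3 lc_f_rc_5_1 lc_f_rc_5_3 lc_f_rc_10_3 lc_f_rc_5_1 lc_f_Cert_tree lc_f_rc_14_1 lc_f_rc_21_1 lc_f_rc_22_1 lc_f_rc_17_3 lc_f_rc_22_1 lc_f_rc_17_3 lc_f_rc_20_1 lc_f_rc_14_3 lc_f_rc_19_3 lc_f_rc_21_1 lc_f_rc_14_1 lc_f_rc_20_1 lc_f_rc_17_3 lc_f_rc_17_3 lc_f_rc_14_3 lc_f_rc_17_3 lc_f_rc_14_3 lc_f_rc_17_3 lc_f_rc_5_1 lc_f_rc_21_1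 lc_f_rc_20_1 lc_f_rc_20_1 lc_f_rc_20_1 lc_f_rc_20_1 lc_f_rc_14_1 lc_f_rc_14_3 lc_f_rc_20_1 lc_f_rc_19_3 lc_f_rc_19_5) (@D3.rec (fun _ => (Cert rels S Gen.f)) lc_f_rc_10_3 lc_f_rc_20_1 lc_f_rc_14_3 lc_f_rc_20_1 lc_f_rc_19_5 lc_f_rc_19_5 lc_f_rc_20_1 lc_f_rc_19_5 lc_f_rc_10_3 lc_f_rc_5_1 lc_f_rc_17_1 lc_f_rc_20_1 lc_f_Cert_tree lc_f_rc_5_1 lc_f_rc_19_3 lc_f_rc_21_1 lc_f_rc_5_3 lc_f_rc_21_1 lc_f_rc_20_1 lc_f_rc_14_1 lc_f_rc_20_1 lc_f_rc_20_1 lc_f_rc_10_3 lc_f_rc_17_1 lc_f_rc_14_3 lc_f_rc_21_1 lc_f_rc_14_3 lc_f_rc_17_1 lc_f_rc_20_1 lc_f_rc_14_3 lc_f_rc_5_1 lc_f_rc_17_1 lc_f_Cert_tree lc_f_rc_20_1 lc_f_rc_20_1 lc_f_Cert_tree lc_f_rc_14_3 lc_f_rc_20_1 lc_f_rc_19_3 lc_f_rc_10_3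 lc_f_rc_19_5 lc_f_rc_14_3 lc_f_rc_20_1 lc_f_rc_17_1 lc_f_rc_20_1 lc_f_Cert_tree lc_f_rc_19_3 lc_f_rc_21_1 lc_f_rc_17_1 lc_f_rc_10_3 lc_f_Cert_tree lc_f_rc_21_1 lc_f_rc_20_1 lc_f_rc_10_3 lc_f_Cert_tree lc_f_rc_21_1 lc_f_rc_20_1 lc_f_rc_20_1 lc_f_rc_17_1 lc_f_rc_14_3 lc_f_rc_19_5 lc_f_rc_19_5) (@D3.rec (fun _ => (Cert rels S Gen.f)) lc_f_rc_20_1 lc_f_rc_17_3 lc_f_rc_19_3 lc_f_rc_5_1 lc_f_rc_21_1 lc_f_rc_5_3 lc_f_rc_17_1 lc_f_rc_19_1 lc_f_rc_5_1 lc_f_rc_10_3 lc_f_rc_20_1 lc_f_rc_21_1 lc_f_rc_20_1 lc_f_rc_10_1 lc_f_rc_20_1 lc_f_rc_20_1 lc_f_rc_14_3 lc_f_rc_19_3 lc_f_rc_10_1 lc_f_rc_14_3 lc_f_rc_17_3 lc_f_rc_14_1 lc_f_rc_20_1 lc_f_rc_19_3 lc_f_rc_21_1 lc_f_rc_10_3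 lc_f_rc_17_3 lc_f_rc_17_3 lc_f_rc_20_1 lc_f_rc_20_1 lc_f_rc_5_1 lc_f_rc_14_1 lc_f_rc_20_1 lc_f_rc_10_3 lc_f_rc_20_1 lc_f_rc_19_3 lc_f_rc_20_1 lc_f_rc_20_1 lc_f_rc_14_1 lc_f_rc_5_1 lc_f_Cert_tree lc_f_rc_20_1 lc_f_rc_14_3 lc_f_rc_21_1 lc_f_rc_10_3 lc_f_rc_5_3 lc_f_rc_17_3 lc_f_rc_17_3 lc_f_rc_17_1 lc_f_rc_14_1 lc_f_rc_20_1 lc_f_rc_5_3 lc_f_rc_21_1 lc_f_rc_14_3 lc_f_rc_21_1 lc_f_rc_14_3 lc_f_rc_10_3 lc_f_rc_21_1 lc_f_rc_22_1 lc_f_rc_19_5 lc_f_rc_14_3 lc_f_rc_19_3) (@D3.rec (fun _ => (Cert rels S Gen.f)) lc_f_rc_10_1 lc_f_rc_17_1 lc_f_rc_20_1 lc_f_rc_10_3 lc_f_rc_10_3 lc_f_rc_20_1 lc_f_rc_21_1 lc_f_rc_21_1 lc_f_rc_5_1 lc_f_rc_20_1 lc_f_rc_14_3 lc_f_rc_10_3 lc_f_rc_14_3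 lc_f_rc_19_1 lc_f_rc_10_3 lc_f_rc_21_1 lc_f_rc_20_1 lc_f_rc_17_3 lc_f_rc_5_1 lc_f_rc_21_1 lc_f_rc_10_3 lc_f_rc_17_3 lc_f_rc_5_1 lc_f_rc_21_1 lc_f_rc_20_1 lc_f_rc_19_1 lc_f_rc_10_3 lc_f_rc_17_3 lc_f_rc_10_3 lc_f_rc_10_3 lc_f_rc_5_1 lc_f_rc_20_1 lc_f_rc_17_3 lc_f_rc_17_3 lc_f_rc_14_3 lc_f_rc_17_3 lc_f_Cert_tree lc_f_rc_20_1 lc_f_rc_20_1 lc_f_rc_17_3 lc_f_rc_17_3 lc_f_rc_5_3 lc_f_rc_14_1 lc_f_rc_20_1 lc_f_rc_10_3 lc_f_rc_14_3 lc_f_rc_20_1 lc_f_rc_17_3 lc_f_rc_21_1 lc_f_rc_5_1 lc_f_rc_20_1 lc_f_rc_21_1 lc_f_rc_19_3 lc_f_rc_14_3 lc_f_rc_10_3 lc_f_rc_19_3 lc_f_rc_20_1 lc_f_rc_20_1 lc_f_rc_10_3 lc_f_rc_5_1 lc_f_rc_14_1 lc_f_rc_20_1) (@D3.rec (fun _ => (Cert rels S Gen.f))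 lc_f_rc_10_3 lc_f_rc_17_3 lc_f_rc_21_1 lc_f_rc_21_1 lc_f_rc_10_3 lc_f_rc_20_1 lc_f_rc_20_1 lc_f_rc_5_3 lc_f_rc_20_1 lc_f_rc_21_1 lc_f_rc_17_3 lc_f_rc_14_3 lc_f_rc_14_1 lc_f_rc_17_3 lc_f_rc_10_1 lc_f_rc_14_1 lc_f_rc_19_3 lc_f_rc_21_1 lc_f_rc_17_1 lc_f_rc_21_1 lc_f_rc_20_1 lc_f_rc_14_1 lc_f_rc_20_1 lc_f_rc_20_1 lc_f_rc_20_1 lc_f_rc_10_1 lc_f_rc_14_3 lc_f_rc_19_5 lc_f_rc_21_1 lc_f_rc_20_1 lc_f_rc_14_1 lc_f_rc_20_1 lc_f_rc_20_1 lc_f_rc_21_1 lc_f_rc_20_1 lc_f_rc_19_3 lc_f_rc_20_1 lc_f_rc_10_3 lc_f_rc_17_1 lc_f_rc_21_1 lc_f_rc_20_1 lc_f_rc_10_3 lc_f_rc_20_1 lc_f_rc_20_1 lc_f_rc_20_1 lc_f_rc_10_3 lc_f_rc_21_1 lc_f_rc_5_1 lc_f_rc_20_1 lc_f_rc_10_3 lc_f_rc_20_1 lc_f_rc_20_1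 lc_f_rc_20_1 lc_f_rc_10_3 lc_f_rc_21_1 lc_f_rc_17_1 lc_f_rc_20_1 lc_f_rc_19_1 lc_f_rc_19_3 lc_f_rc_20_1 lc_f_Cert_tree lc_f_rc_20_1) (@D3.rec (fun _ => (Cert rels S Gen.f)) lc_f_rc_21_1 lc_f_rc_21_1 lc_f_rc_17_3 lc_f_rc_20_1 lc_f_rc_20_1 lc_f_rc_14_3 lc_f_rc_20_1 lc_f_rc_19_3 lc_f_rc_10_3 lc_f_rc_5_1 lc_f_rc_21_1 lc_f_rc_17_3 lc_f_rc_17_3 lc_f_rc_10_1 lc_f_Cert_tree lc_f_rc_21_1 lc_f_rc_20_1 lc_f_Cert_tree lc_f_rc_5_3 lc_f_rc_20_1 lc_f_rc_10_3 lc_f_rc_5_1 lc_f_rc_14_3 lc_f_rc_5_3 lc_f_rc_17_3 lc_f_rc_17_3 lc_f_rc_5_3 lc_f_rc_10_1 lc_f_rc_20_1 lc_f_rc_10_3 lc_f_rc_17_3 lc_f_rc_17_3 lc_f_rc_20_1 lc_f_rc_20_1 lc_f_rc_10_3 lc_f_rc_5_1 lc_f_rc_10_3 lc_f_rc_10_3 lc_f_rc_20_1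 lc_f_rc_21_1 lc_f_rc_21_1 lc_f_rc_21_1 lc_f_rc_14_1 lc_f_rc_20_1 lc_f_rc_14_1 lc_f_rc_17_1 lc_f_rc_14_3 lc_f_rc_14_3 lc_f_rc_17_3 lc_f_rc_20_1 lc_f_rc_20_1 lc_f_rc_5_1 lc_f_rc_17_3 lc_f_rc_19_3 lc_f_rc_10_3 lc_f_rc_22_1 lc_f_rc_22_1 lc_f_rc_19_5 lc_f_rc_20_1 lc_f_rc_14_3 lc_f_rc_17_3 lc_f_rc_19_3) (@D3.rec (fun _ => (Cert rels S Gen.f)) lc_f_rc_17_3 lc_f_rc_20_1 lc_f_rc_14_3 lc_f_rc_14_3 lc_f_rc_14_3 lc_f_rc_14_3 lc_f_rc_17_1 lc_f_rc_10_3 lc_f_rc_10_3 lc_f_rc_17_3 lc_f_Cert_tree lc_f_rc_10_3 lc_f_rc_5_1 lc_f_rc_5_3 lc_f_rc_17_3 lc_f_rc_19_1 lc_f_rc_14_3 lc_f_rc_10_3 lc_f_rc_5_1 lc_f_rc_20_1 lc_f_rc_20_1 lc_f_rc_14_3 lc_f_rc_17_3 lc_f_rc_10_3 lc_f_rc_5_3 lc_f_rc_17_3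 lc_f_rc_19_3 lc_f_rc_5_1 lc_f_rc_10_1 lc_f_rc_10_3 lc_f_rc_10_3 lc_f_rc_10_3 lc_f_rc_21_1 lc_f_rc_21_1 lc_f_rc_22_1 lc_f_rc_10_1 lc_f_rc_5_1 lc_f_rc_17_3 lc_f_Cert_tree lc_f_rc_10_3 lc_f_rc_21_1 lc_f_rc_10_3 lc_f_rc_21_1 lc_f_rc_20_1 lc_f_rc_20_1 lc_f_rc_10_1 lc_f_rc_10_3 lc_f_rc_10_3 lc_f_rc_21_1 lc_f_rc_17_1 lc_f_rc_17_1 lc_f_rc_20_1 lc_f_rc_17_1 lc_f_Cert_tree lc_f_rc_20_1 lc_f_rc_20_1 lc_f_rc_5_3 lc_f_rc_14_1 lc_f_rc_14_3 lc_f_rc_20_1 lc_f_rc_14_3 lc_f_rc_14_3) (@D3.rec (fun _ => (Cert rels S Gen.f)) lc_f_rc_10_3 lc_f_rc_21_1 lc_f_rc_5_1 lc_f_rc_14_3 lc_f_rc_17_3 lc_f_rc_14_3 lc_f_rc_14_3 lc_f_rc_17_3 lc_f_rc_5_3 lc_f_rc_14_3 lc_f_rc_17_1 lc_f_rc_10_3 lc_f_rc_17_3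 lc_f_rc_19_3 lc_f_rc_17_3 lc_f_rc_5_1 lc_f_rc_20_1 lc_f_rc_20_1 lc_f_rc_17_3 lc_f_rc_10_1 lc_f_rc_10_1 lc_f_rc_17_3 lc_f_rc_17_3 lc_f_rc_14_3 lc_f_rc_5_3 lc_f_rc_17_3 lc_f_Cert_tree lc_f_rc_19_1 lc_f_rc_20_1 lc_f_rc_17_1 lc_f_rc_17_1 lc_f_rc_5_3 lc_f_rc_17_3 lc_f_Cert_tree lc_f_rc_20_1 lc_f_rc_14_3 lc_f_rc_10_1 lc_f_rc_14_1 lc_f_rc_14_3 lc_f_rc_20_1 lc_f_rc_19_1 lc_f_rc_14_1 lc_f_rc_14_3 lc_f_rc_20_1 lc_f_rc_22_1 lc_f_rc_20_1 lc_f_rc_17_3 lc_f_rc_14_3 lc_f_Cert_tree lc_f_rc_14_3 lc_f_rc_20_1 lc_f_rc_14_1 lc_f_rc_17_3 lc_f_rc_5_3 lc_f_rc_21_1 lc_f_rc_14_3 lc_f_rc_10_1 lc_f_rc_17_3 lc_f_rc_10_3 lc_f_rc_17_3 lc_f_rc_14_1 lc_f_rc_21_1) (@D3.rec (fun _ => (Cert rels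 S Gen.f)) lc_f_rc_5_3 lc_f_rc_17_3 lc_f_rc_17_1 lc_f_rc_5_1 lc_f_rc_5_3 lc_f_rc_17_3 lc_f_rc_19_3 lc_f_rc_14_3 lc_f_rc_14_3 lc_f_rc_5_3 lc_f_rc_17_3 lc_f_rc_10_1 lc_f_Cert_tree lc_f_rc_17_3 lc_f_rc_5_1 lc_f_rc_5_3 lc_f_rc_17_3 lc_f_Cert_tree lc_f_rc_17_3 lc_f_rc_20_1 lc_f_rc_21_1 lc_f_rc_10_3 lc_f_rc_17_3 lc_f_rc_5_1 lc_f_rc_17_3 lc_f_rc_21_1 lc_f_Cert_tree lc_f_rc_10_3 lc_f_Cert_tree lc_f_rc_10_3 lc_f_rc_21_1 lc_f_rc_20_1 lc_f_rc_5_1 lc_f_rc_5_3 lc_f_rc_17_1 lc_f_rc_17_3 lc_f_rc_20_1 lc_f_rc_17_1 lc_f_rc_5_1 lc_f_rc_10_3 lc_f_rc_19_5 lc_f_rc_10_1 lc_f_rc_20_1 lc_f_rc_10_3 lc_f_rc_14_1 lc_f_rc_14_1 lc_f_rc_14_3 lc_f_rc_14_3 lc_f_rc_19_3 lc_f_rc_10_3 lc_f_rc_17_3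 lc_f_rc_14_3 lc_f_rc_21_1 lc_f_rc_20_1 lc_f_rc_20_1 lc_f_rc_5_1 lc_f_rc_5_3 lc_f_rc_10_3 lc_f_rc_19_1 lc_f_rc_14_1 lc_f_rc_5_1 lc_f_rc_14_3) (@D3.rec (fun _ => (Cert rels S Gen.f)) lc_f_rc_20_1 lc_f_rc_17_1 lc_f_Cert_tree lc_f_rc_17_1 lc_f_rc_19_3 lc_f_rc_14_3 lc_f_rc_21_1 lc_f_rc_20_1 lc_f_rc_14_1 lc_f_rc_10_3 lc_f_rc_10_3 lc_f_rc_19_5 lc_f_rc_10_3 lc_f_rc_17_1 lc_f_rc_14_3 lc_f_rc_14_1 lc_f_rc_17_1 lc_f_rc_10_1 lc_f_rc_17_1 lc_f_rc_10_1 lc_f_rc_10_1 lc_f_rc_5_3 lc_f_rc_14_3 lc_f_rc_10_3 lc_f_rc_20_1 lc_f_rc_14_3 lc_f_rc_10_3 lc_f_rc_10_3 lc_f_rc_10_3 lc_f_rc_5_3 lc_f_rc_10_1 lc_f_rc_10_1 lc_f_rc_17_1 lc_f_rc_20_1 lc_f_rc_5_1 lc_f_rc_17_3 lc_f_rc_14_3 lc_f_rc_5_3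 lc_f_rc_17_3 lc_f_rc_17_3 lc_f_rc_10_1 lc_f_rc_17_1 lc_f_rc_14_1 lc_f_rc_14_3 lc_f_rc_20_1 lc_f_rc_17_1 lc_f_rc_10_3 lc_f_rc_10_3 lc_f_rc_17_3 lc_f_rc_17_3 lc_f_rc_5_1 lc_f_rc_10_3 lc_f_rc_5_3 lc_f_rc_20_1 lc_f_rc_20_1 lc_f_rc_5_3 lc_f_rc_20_1 lc_f_rc_20_1 lc_f_rc_17_3 lc_f_rc_14_1 lc_f_rc_14_3 lc_f_rc_19_3) (@D3.rec (fun _ => (Cert rels S Gen.f)) lc_f_rc_20_1 lc_f_rc_14_3 lc_f_rc_17_1 lc_f_rc_17_1 lc_f_rc_17_3 lc_f_rc_14_3 lc_f_rc_17_3 lc_f_rc_10_3 lc_f_Cert_tree lc_f_rc_14_3 lc_f_rc_5_3 lc_f_rc_10_3 lc_f_rc_10_3 lc_f_rc_21_1 lc_f_rc_20_1 lc_f_rc_19_3 lc_f_rc_21_1 lc_f_rc_10_1 lc_f_rc_20_1 lc_f_rc_21_1 lc_f_rc_22_1 lc_f_rc_17_3 lc_f_rc_17_3 lc_f_rc_17_1 lc_f_Cert_tree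 lc_f_rc_20_1 lc_f_rc_17_1 lc_f_rc_14_1 lc_f_rc_10_3 lc_f_rc_10_3 lc_f_rc_21_1 lc_f_rc_21_1 lc_f_rc_5_3 lc_f_rc_14_3 lc_f_rc_10_1 lc_f_rc_14_3 lc_f_rc_5_3 lc_f_rc_10_3 lc_f_rc_17_3 lc_f_rc_17_3 lc_f_rc_20_1 lc_f_rc_10_3 lc_f_rc_22_1 lc_f_rc_10_1 lc_f_rc_17_3 lc_f_rc_19_3 lc_f_rc_14_3 lc_f_rc_10_3 lc_f_rc_17_3 lc_f_rc_17_3 lc_f_rc_17_3 lc_f_rc_5_3 lc_f_rc_20_1 lc_f_rc_17_1 lc_f_rc_20_1 lc_f_rc_17_3 lc_f_Cert_tree lc_f_rc_5_1 lc_f_rc_19_5 lc_f_rc_5_1 lc_f_rc_10_3 lc_f_rc_5_1) (@D3.rec (fun _ => (Cert rels S Gen.f)) lc_f_rc_14_1 lc_f_rc_14_3 lc_f_rc_20_1 lc_f_rc_19_3 lc_f_rc_20_1 lc_f_rc_20_1 lc_f_rc_21_1 lc_f_rc_5_1 lc_f_rc_14_3 lc_f_rc_10_1 lc_f_rc_14_1 lc_f_rc_21_1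 lc_f_rc_14_1 lc_f_rc_19_1 lc_f_rc_10_3 lc_f_rc_20_1 lc_f_rc_5_3 lc_f_rc_10_3 lc_f_rc_17_3 lc_f_rc_14_3 lc_f_rc_19_1 lc_f_rc_14_3 lc_f_rc_17_3 lc_f_rc_14_1 lc_f_rc_21_1 lc_f_rc_14_3 lc_f_rc_14_1 lc_f_rc_14_1 lc_f_rc_10_3 lc_f_rc_10_3 lc_f_rc_21_1 lc_f_rc_5_3 lc_f_rc_14_1 lc_f_rc_10_1 lc_f_rc_10_3 lc_f_rc_17_3 lc_f_rc_5_1 lc_f_rc_17_1 lc_f_rc_21_1 lc_f_rc_17_3 lc_f_rc_19_5 lc_f_rc_17_3 lc_f_rc_10_1 lc_f_rc_19_3 lc_f_rc_14_3 lc_f_rc_10_1 lc_f_rc_17_3 lc_f_rc_14_1 lc_f_rc_21_1 lc_f_rc_17_1 lc_f_rc_17_3 lc_f_rc_14_3 lc_f_rc_10_3 lc_f_rc_17_1 lc_f_rc_10_1 lc_f_rc_14_3 lc_f_rc_10_3 lc_f_rc_17_1 lc_f_rc_19_5 lc_f_rc_5_3 lc_f_rc_17_3 lc_f_rc_20_1) (@D3.rec (fun _ => (Cert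 rels S Gen.f)) lc_f_rc_17_1 lc_f_rc_17_3 lc_f_rc_14_1 lc_f_rc_21_1 lc_f_rc_5_1 lc_f_rc_17_1 lc_f_rc_21_1 lc_f_rc_22_1 lc_f_rc_10_3 lc_f_rc_19_5 lc_f_rc_22_1 lc_f_rc_5_3 lc_f_rc_20_1 lc_f_rc_19_3 lc_f_rc_17_3 lc_f_rc_10_3 lc_f_rc_17_3 lc_f_rc_10_3 lc_f_rc_19_3 lc_f_rc_5_1 lc_f_rc_17_3 lc_f_rc_19_1 lc_f_rc_19_1 lc_f_rc_19_3 lc_f_rc_20_1 lc_f_rc_19_5 lc_f_rc_5_3 lc_f_rc_17_3 lc_f_rc_17_3 lc_f_rc_20_1 lc_f_rc_10_3 lc_f_rc_5_3 lc_f_rc_19_1 lc_f_rc_14_3 lc_f_rc_14_3 lc_f_rc_21_1 lc_f_rc_5_3 lc_f_rc_19_5 lc_f_rc_17_1 lc_f_rc_19_5 lc_f_rc_19_5 lc_f_rc_14_3 lc_f_rc_17_3 lc_f_rc_17_3 lc_f_rc_14_3 lc_f_rc_22_1 lc_f_rc_10_3 lc_f_rc_17_3 lc_f_rc_22_1 lc_f_rc_21_1 lc_f_rc_17_3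 lc_f_rc_14_3 lc_f_rc_17_3 lc_f_rc_22_1 lc_f_rc_17_3 lc_f_rc_10_3 lc_f_rc_5_3 lc_f_rc_22_1 lc_f_rc_14_3 lc_f_rc_17_3 lc_f_rc_22_1 lc_f_rc_21_1) (@D3.rec (fun _ => (Cert rels S Gen.f)) lc_f_rc_14_3 lc_f_rc_10_1 lc_f_rc_14_3 lc_f_rc_10_3 lc_f_rc_14_3 lc_f_rc_14_3 lc_f_rc_14_3 lc_f_rc_14_3 lc_f_rc_22_1 lc_f_rc_5_1 lc_f_rc_19_1 lc_f_rc_19_5 lc_f_rc_20_1 lc_f_rc_17_1 lc_f_rc_10_3 lc_f_rc_19_5 lc_f_rc_10_3 lc_f_rc_17_3 lc_f_rc_17_1 lc_f_rc_17_3 lc_f_rc_5_3 lc_f_rc_10_3 lc_f_Cert_tree lc_f_rc_14_3 lc_f_rc_14_3 lc_f_rc_14_3 lc_f_rc_17_3 lc_f_rc_10_3 lc_f_rc_17_1 lc_f_rc_19_1 lc_f_rc_21_1 lc_f_rc_17_1 lc_f_rc_19_3 lc_f_rc_20_1 lc_f_rc_10_3 lc_f_rc_17_3 lc_f_rc_19_5 lc_f_rc_10_1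 lc_f_rc_10_1 lc_f_rc_10_1 lc_f_rc_20_1 lc_f_Cert_tree lc_f_rc_21_1 lc_f_rc_20_1 lc_f_rc_20_1 lc_f_rc_10_3 lc_f_rc_10_3 lc_f_rc_14_1 lc_f_rc_22_1 lc_f_rc_5_3 lc_f_Cert_tree lc_f_rc_10_3 lc_f_rc_22_1 lc_f_rc_19_3 lc_f_rc_21_1 lc_f_rc_20_1 lc_f_rc_10_1 lc_f_rc_17_3 lc_f_rc_22_1 lc_f_rc_19_5 lc_f_rc_10_3 lc_f_rc_5_3) (@D3.rec (fun _ => (Cert rels S Gen.f)) lc_f_rc_14_3 lc_f_rc_10_3 lc_f_rc_19_3 lc_f_rc_21_1 lc_f_rc_5_3 lc_f_rc_19_3 lc_f_rc_21_1 lc_f_rc_20_1 lc_f_rc_14_3 lc_f_rc_17_1 lc_f_Cert_tree lc_f_rc_10_3 lc_f_rc_5_3 lc_f_rc_10_3 lc_f_Cert_tree lc_f_rc_17_1 lc_f_rc_10_3 lc_f_rc_20_1 lc_f_rc_5_1 lc_f_rc_19_3 lc_f_rc_10_3 lc_f_rc_21_1 lc_f_rc_17_1 lc_f_rc_17_1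 lc_f_rc_10_3 lc_f_rc_17_3 lc_f_rc_14_3 lc_f_rc_17_3 lc_f_rc_17_1 lc_f_rc_20_1 lc_f_rc_10_3 lc_f_Cert_tree lc_f_rc_14_1 lc_f_rc_14_3 lc_f_rc_14_1 lc_f_rc_20_1 lc_f_rc_19_1 lc_f_rc_14_3 lc_f_rc_10_3 lc_f_rc_19_5 lc_f_rc_10_3 lc_f_rc_21_1 lc_f_rc_20_1 lc_f_rc_5_3 lc_f_rc_21_1 lc_f_rc_21_1 lc_f_rc_21_1 lc_f_rc_22_1 lc_f_rc_10_1 lc_f_rc_10_3 lc_f_rc_20_1 lc_f_rc_14_3 lc_f_rc_20_1 lc_f_rc_14_3 lc_f_rc_17_3 lc_f_rc_21_1 lc_f_rc_10_3 lc_f_rc_10_3 lc_f_rc_14_3 lc_f_rc_5_3 lc_f_rc_20_1 lc_f_rc_14_3) (@D3.rec (fun _ => (Cert rels S Gen.f)) lc_f_rc_17_3 lc_f_rc_17_3 lc_f_rc_19_5 lc_f_rc_5_1 lc_f_rc_5_3 lc_f_rc_17_3 lc_f_rc_10_3 lc_f_rc_21_1 lc_f_rc_19_5 lc_f_rc_20_1 lc_f_rc_10_3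 lc_f_rc_22_1 lc_f_rc_14_3 lc_f_rc_10_1 lc_f_rc_22_1 lc_f_rc_20_1 lc_f_rc_14_3 lc_f_rc_21_1 lc_f_rc_14_3 lc_f_rc_17_1 lc_f_rc_19_3 lc_f_rc_20_1 lc_f_rc_14_3 lc_f_rc_17_1 lc_f_rc_22_1 lc_f_rc_10_3 lc_f_rc_21_1 lc_f_rc_21_1 lc_f_rc_14_3 lc_f_rc_17_1 lc_f_rc_17_3 lc_f_rc_17_3 lc_f_rc_17_3 lc_f_rc_10_3 lc_f_rc_22_1 lc_f_rc_14_3 lc_f_rc_20_1 lc_f_rc_20_1 lc_f_rc_14_3 lc_f_rc_17_3 lc_f_rc_19_3 lc_f_rc_14_3 lc_f_rc_21_1 lc_f_rc_14_3 lc_f_rc_20_1 lc_f_rc_19_3 lc_f_rc_14_3 lc_f_rc_14_3 lc_f_rc_20_1 lc_f_rc_10_3 lc_f_rc_14_3 lc_f_rc_17_3 lc_f_rc_5_3 lc_f_rc_10_3 lc_f_rc_19_5 lc_f_rc_14_3 lc_f_rc_17_3 lc_f_rc_17_3 lc_f_rc_17_3 lc_f_rc_22_1 lc_f_rc_5_1 lc_f_rc_21_1) (@D3.rec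 (fun _ => (Cert rels S Gen.f)) lc_f_rc_10_3 lc_f_rc_10_3 lc_f_rc_14_3 lc_f_rc_10_3 lc_f_rc_10_3 lc_f_rc_20_1 lc_f_rc_10_3 lc_f_rc_10_3 lc_f_rc_14_1 lc_f_rc_10_3 lc_f_rc_5_3 lc_f_rc_20_1 lc_f_rc_21_1 lc_f_rc_17_1 lc_f_rc_5_3 lc_f_rc_14_3 lc_f_Cert_tree lc_f_rc_17_1 lc_f_rc_21_1 lc_f_rc_10_3 lc_f_rc_20_1 lc_f_rc_20_1 lc_f_rc_21_1 lc_f_rc_20_1 lc_f_rc_20_1 lc_f_rc_10_3 lc_f_rc_14_3 lc_f_rc_10_3 lc_f_rc_17_3 lc_f_rc_14_3 lc_f_rc_10_3 lc_f_rc_10_3 lc_f_rc_14_3 lc_f_rc_14_3 lc_f_rc_5_3 lc_f_rc_19_5 lc_f_rc_17_3 lc_f_rc_17_3 lc_f_rc_10_3 lc_f_rc_14_3 lc_f_rc_5_3 lc_f_rc_5_3 lc_f_rc_10_1 lc_f_rc_5_1 lc_f_rc_14_3 lc_f_rc_5_3 lc_f_rc_19_3 lc_f_rc_17_3 lc_f_rc_20_1 lc_f_rc_19_3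 lc_f_rc_19_5 lc_f_rc_10_3 lc_f_rc_14_3 lc_f_rc_14_3 lc_f_rc_17_3 lc_f_rc_10_3 lc_f_rc_10_3 lc_f_rc_17_1 lc_f_rc_17_3 lc_f_rc_14_3 lc_f_Cert_tree lc_f_rc_10_3) (@D3.rec (fun _ => (Cert rels S Gen.f)) lc_f_rc_14_3 lc_f_rc_22_1 lc_f_rc_22_1 lc_f_Cert_tree lc_f_rc_20_1 lc_f_rc_10_3 lc_f_rc_22_1 lc_f_rc_10_1 lc_f_rc_17_3 lc_f_rc_17_3 lc_f_rc_20_1 lc_f_Cert_tree lc_f_rc_20_1 lc_f_rc_10_1 lc_f_rc_20_1 lc_f_rc_20_1 lc_f_rc_17_3 lc_f_rc_10_1 lc_f_rc_10_3 lc_f_rc_17_3 lc_f_rc_14_3 lc_f_rc_14_3 lc_f_rc_19_3 lc_f_rc_10_3 lc_f_rc_5_1 lc_f_rc_19_3 lc_f_rc_17_3 lc_f_rc_17_3 lc_f_rc_17_1 lc_f_rc_10_3 lc_f_rc_14_3 lc_f_rc_10_3 lc_f_rc_14_3 lc_f_rc_14_3 lc_f_rc_21_1 lc_f_rc_17_1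 lc_f_rc_10_3 lc_f_rc_14_3 lc_f_rc_17_1 lc_f_rc_14_3 lc_f_rc_14_3 lc_f_rc_21_1 lc_f_rc_21_1 lc_f_rc_20_1 lc_f_rc_20_1 lc_f_rc_20_1 lc_f_rc_14_3 lc_f_rc_5_1 lc_f_rc_17_1 lc_f_rc_17_3 lc_f_Cert_tree lc_f_rc_14_3 lc_f_rc_21_1 lc_f_rc_17_1 lc_f_rc_20_1 lc_f_rc_5_3 lc_f_rc_14_3 lc_f_rc_17_3 lc_f_rc_17_3 lc_f_rc_14_3 lc_f_rc_14_3 lc_f_rc_19_1) (@D3.rec (fun _ => (Cert rels S Gen.f)) lc_f_rc_10_3 lc_f_rc_21_1 lc_f_rc_14_1 lc_f_rc_17_3 lc_f_rc_19_1 lc_f_rc_17_1 lc_f_rc_21_1 lc_f_rc_20_1 lc_f_Cert_tree lc_f_rc_20_1 lc_f_rc_14_3 lc_f_rc_17_1 lc_f_rc_22_1 lc_f_rc_17_1 lc_f_rc_20_1 lc_f_rc_17_3 lc_f_rc_10_3 lc_f_rc_17_3 lc_f_rc_14_3 lc_f_rc_19_1 lc_f_rc_20_1 lc_f_rc_14_3 lc_f_rc_14_1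 lc_f_rc_21_1 lc_f_rc_17_3 lc_f_rc_5_3 lc_f_rc_20_1 lc_f_rc_10_1 lc_f_rc_17_3 lc_f_rc_10_3 lc_f_rc_21_1 lc_f_rc_20_1 lc_f_rc_14_1 lc_f_rc_14_3 lc_f_rc_10_3 lc_f_rc_21_1 lc_f_rc_10_3 lc_f_rc_5_1 lc_f_rc_14_1 lc_f_rc_10_1 lc_f_rc_14_3 lc_f_rc_19_3 lc_f_rc_21_1 lc_f_rc_17_3 lc_f_rc_17_3 lc_f_Cert_tree lc_f_rc_20_1 lc_f_rc_14_1 lc_f_rc_17_1 lc_f_rc_17_3 lc_f_rc_5_3 lc_f_rc_14_3 lc_f_rc_21_1 lc_f_Cert_tree lc_f_rc_20_1 lc_f_rc_14_1 lc_f_rc_17_3 lc_f_rc_21_1 lc_f_Cert_tree lc_f_rc_20_1 lc_f_rc_5_1 lc_f_Cert_tree) (@D3.rec (fun _ => (Cert rels S Gen.f)) lc_f_Cert_tree lc_f_rc_20_1 lc_f_rc_10_1 lc_f_rc_21_1 lc_f_rc_10_3 lc_f_rc_14_1 lc_f_rc_21_1 lc_f_rc_21_1 lc_f_Cert_tree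 lc_f_rc_20_1 lc_f_rc_17_3 lc_f_rc_21_1 lc_f_rc_10_3 lc_f_rc_21_1 lc_f_rc_5_1 lc_f_rc_19_3 lc_f_rc_10_1 lc_f_rc_17_3 lc_f_rc_17_3 lc_f_rc_20_1 lc_f_rc_5_1 lc_f_rc_5_1 lc_f_rc_10_1 lc_f_rc_17_3 lc_f_rc_17_3 lc_f_rc_14_3 lc_f_rc_10_3 lc_f_rc_17_1 lc_f_rc_10_3 lc_f_rc_14_1 lc_f_rc_20_1 lc_f_rc_17_3 lc_f_rc_5_3 lc_f_rc_5_1 lc_f_rc_14_3 lc_f_rc_10_1 lc_f_rc_5_1 lc_f_rc_20_1 lc_f_rc_19_5 lc_f_rc_10_3 lc_f_rc_19_5 lc_f_rc_5_3 lc_f_rc_19_1 lc_f_rc_20_1 lc_f_rc_19_3 lc_f_rc_21_1 lc_f_Cert_tree lc_f_rc_5_3 lc_f_rc_17_1 lc_f_rc_20_1 lc_f_rc_20_1 lc_f_rc_19_5 lc_f_rc_17_1 lc_f_rc_10_3 lc_f_rc_20_1 lc_f_rc_10_1 lc_f_rc_20_1 lc_f_rc_14_1 lc_f_rc_10_3 lc_f_rc_17_3 lc_f_rc_17_3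 lc_f_rc_5_3) (@D3.rec (fun _ => (Cert rels S Gen.f)) lc_f_rc_5_1 lc_f_rc_20_1 lc_f_rc_21_1 lc_f_rc_19_3 lc_f_Cert_tree lc_f_rc_10_3 lc_f_rc_21_1 lc_f_rc_14_3 lc_f_rc_21_1 lc_f_rc_14_3 lc_f_rc_10_3 lc_f_rc_10_3 lc_f_rc_5_3 lc_f_rc_20_1 lc_f_rc_21_1 lc_f_rc_19_1 lc_f_rc_10_1 lc_f_rc_17_3 lc_f_rc_17_1 lc_f_rc_17_3 lc_f_rc_10_3 lc_f_rc_17_1 lc_f_rc_21_1 lc_f_rc_10_3 lc_f_rc_19_5 lc_f_rc_17_3 lc_f_rc_14_3 lc_f_rc_14_3 lc_f_rc_5_3 lc_f_rc_20_1 lc_f_rc_19_1 lc_f_rc_10_1 lc_f_rc_19_1 lc_f_rc_10_3 lc_f_rc_21_1 lc_f_rc_20_1 lc_f_rc_19_3 lc_f_rc_22_1 lc_f_rc_17_3 lc_f_rc_14_3 lc_f_rc_5_3 lc_f_rc_17_3 lc_f_rc_17_3 lc_f_rc_17_3 lc_f_rc_21_1 lc_f_rc_14_3 lc_f_rc_14_1 lc_f_rc_21_1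 lc_f_rc_10_3 lc_f_rc_17_1 lc_f_rc_10_3 lc_f_rc_17_3 lc_f_rc_10_3 lc_f_rc_10_1 lc_f_rc_10_1 lc_f_rc_10_3 lc_f_rc_14_3 lc_f_rc_20_1 lc_f_rc_17_1 lc_f_rc_17_3 lc_f_rc_17_3 lc_f_rc_14_3) (@D3.rec (fun _ => (Cert rels S Gen.f)) lc_f_rc_10_3 lc_f_rc_14_1 lc_f_rc_17_1 lc_f_rc_14_1 lc_f_rc_14_1 lc_f_rc_14_3 lc_f_rc_17_1 lc_f_rc_21_1 lc_f_rc_17_3 lc_f_rc_5_3 lc_f_rc_14_1 lc_f_rc_17_3 lc_f_rc_17_1 lc_f_rc_14_1 lc_f_rc_5_3 lc_f_rc_10_3 lc_f_rc_17_3 lc_f_rc_14_3 lc_f_rc_10_3 lc_f_rc_5_3 lc_f_rc_14_3 lc_f_rc_19_3 lc_f_rc_17_1 lc_f_rc_17_3 lc_f_rc_19_5 lc_f_rc_10_3 lc_f_rc_17_1 lc_f_rc_21_1 lc_f_rc_20_1 lc_f_rc_14_3 lc_f_rc_14_3 lc_f_rc_22_1 lc_f_rc_14_3 lc_f_rc_22_1 lc_f_rc_10_3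 lc_f_rc_17_1 lc_f_rc_20_1 lc_f_rc_5_1 lc_f_rc_21_1 lc_f_rc_14_3 lc_f_rc_10_3 lc_f_rc_10_1 lc_f_rc_17_3 lc_f_rc_10_3 lc_f_rc_20_1 lc_f_rc_14_1 lc_f_rc_19_5 lc_f_rc_17_3 lc_f_rc_14_1 lc_f_rc_14_3 lc_f_rc_5_3 lc_f_rc_17_3 lc_f_rc_14_3 lc_f_rc_14_3 lc_f_rc_17_3 lc_f_rc_10_1 lc_f_rc_5_3 lc_f_rc_10_3 lc_f_rc_10_3 lc_f_rc_17_3 lc_f_rc_17_1 lc_f_rc_10_3) (@D3.rec (fun _ => (Cert rels S Gen.f)) lc_f_rc_14_3 lc_f_rc_14_3 lc_f_rc_21_1 lc_f_rc_17_1 lc_f_rc_10_3 lc_f_rc_17_1 lc_f_rc_14_3 lc_f_rc_5_1 lc_f_rc_10_1 lc_f_rc_21_1 lc_f_rc_17_3 lc_f_rc_10_3 lc_f_rc_10_3 lc_f_rc_20_1 lc_f_rc_14_1 lc_f_rc_10_1 lc_f_rc_10_3 lc_f_rc_20_1 lc_f_rc_17_1 lc_f_rc_19_1 lc_f_rc_21_1 lc_f_rc_20_1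 lc_f_rc_19_5 lc_f_rc_14_3 lc_f_rc_17_3 lc_f_rc_21_1 lc_f_rc_14_3 lc_f_rc_21_1 lc_f_rc_14_1 lc_f_rc_14_3 lc_f_rc_20_1 lc_f_rc_14_3 lc_f_rc_20_1 lc_f_rc_10_3 lc_f_rc_21_1 lc_f_rc_17_3 lc_f_rc_20_1 lc_f_rc_5_3 lc_f_rc_21_1 lc_f_rc_14_1 lc_f_rc_10_3 lc_f_rc_17_3 lc_f_Cert_tree lc_f_rc_5_1 lc_f_rc_20_1 lc_f_rc_10_3 lc_f_rc_10_3 lc_f_rc_10_1 lc_f_rc_20_1 lc_f_rc_10_3 lc_f_rc_21_1 lc_f_rc_17_3 lc_f_rc_5_1 lc_f_rc_17_3 lc_f_rc_5_3 lc_f_rc_17_1 lc_f_rc_10_1 lc_f_rc_14_3 lc_f_rc_14_3 lc_f_rc_17_3 lc_f_rc_21_1 lc_f_rc_17_3) (@D3.rec (fun _ => (Cert rels S Gen.f)) lc_f_rc_21_1 lc_f_rc_14_1 lc_f_rc_17_3 lc_f_rc_20_1 lc_f_rc_21_1 lc_f_rc_14_1 lc_f_rc_17_3 lc_f_rc_20_1 lc_f_rc_10_3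 lc_f_rc_17_1 lc_f_rc_20_1 lc_f_rc_17_3 lc_f_rc_17_3 lc_f_rc_19_5 lc_f_rc_5_3 lc_f_rc_17_1 lc_f_rc_5_1 lc_f_rc_5_3 lc_f_rc_17_3 lc_f_Cert_tree lc_f_rc_10_3 lc_f_rc_14_3 lc_f_rc_10_3 lc_f_rc_20_1 lc_f_rc_10_3 lc_f_rc_17_3 lc_f_Cert_tree lc_f_rc_14_1 lc_f_rc_21_1 lc_f_rc_17_3 lc_f_rc_17_1 lc_f_rc_10_3 lc_f_rc_17_3 lc_f_rc_19_3 lc_f_rc_10_3 lc_f_rc_21_1 lc_f_rc_5_3 lc_f_rc_14_1 lc_f_rc_19_3 lc_f_rc_14_3 lc_f_rc_14_1 lc_f_rc_20_1 lc_f_rc_14_3 lc_f_rc_17_3 lc_f_rc_20_1 lc_f_rc_17_3 lc_f_rc_10_3 lc_f_rc_17_3 lc_f_rc_5_1 lc_f_rc_21_1 lc_f_rc_19_5 lc_f_rc_22_1 lc_f_rc_19_3 lc_f_rc_10_3 lc_f_rc_10_3 lc_f_rc_14_3 lc_f_rc_21_1 lc_f_rc_17_3 lc_f_rc_20_1 lc_f_rc_10_1 lc_f_rc_14_1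 lc_f_rc_21_1) (@D3.rec (fun _ => (Cert rels S Gen.f)) lc_f_rc_10_3 lc_f_rc_20_1 lc_f_rc_10_3 lc_f_rc_5_3 lc_f_rc_17_1 lc_f_rc_10_3 lc_f_rc_17_3 lc_f_rc_5_1 lc_f_rc_20_1 lc_f_rc_10_3 lc_f_rc_19_3 lc_f_rc_14_3 lc_f_rc_21_1 lc_f_rc_5_1 lc_f_rc_14_3 lc_f_rc_17_3 lc_f_rc_21_1 lc_f_rc_14_3 lc_f_rc_5_3 lc_f_rc_10_3 lc_f_rc_10_3 lc_f_rc_17_3 lc_f_rc_10_3 lc_f_rc_10_3 lc_f_rc_20_1 lc_f_rc_20_1 lc_f_rc_20_1 lc_f_Cert_tree lc_f_rc_20_1 lc_f_rc_17_1 lc_f_rc_14_3 lc_f_rc_20_1 lc_f_rc_10_3 lc_f_rc_5_3 lc_f_rc_17_1 lc_f_rc_21_1 lc_f_rc_20_1 lc_f_rc_14_1 lc_f_rc_14_3 lc_f_rc_14_3 lc_f_rc_19_1 lc_f_rc_17_3 lc_f_rc_10_3 lc_f_rc_5_3 lc_f_rc_20_1 lc_f_rc_14_3 lc_f_rc_5_1 lc_f_rc_10_3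 lc_f_rc_19_3 lc_f_rc_14_1 lc_f_rc_10_1 lc_f_rc_14_1 lc_f_rc_20_1 lc_f_rc_5_3 lc_f_rc_14_3 lc_f_rc_21_1 lc_f_rc_10_3 lc_f_rc_5_1 lc_f_rc_10_1 lc_f_rc_10_1 lc_f_rc_19_1 lc_f_rc_14_1) (@D3.rec (fun _ => (Cert rels S Gen.f)) lc_f_rc_19_1 lc_f_rc_17_3 lc_f_rc_21_1 lc_f_rc_14_3 lc_f_rc_14_1 lc_f_rc_20_1 lc_f_rc_14_3 lc_f_rc_10_3 lc_f_rc_14_1 lc_f_rc_17_1 lc_f_rc_5_1 lc_f_rc_17_1 lc_f_rc_14_3 lc_f_rc_19_3 lc_f_rc_19_3 lc_f_rc_21_1 lc_f_rc_17_3 lc_f_rc_14_3 lc_f_rc_17_3 lc_f_rc_17_3 lc_f_rc_17_3 lc_f_rc_21_1 lc_f_rc_19_3 lc_f_rc_19_3 lc_f_rc_17_1 lc_f_Cert_tree lc_f_rc_20_1 lc_f_rc_19_5 lc_f_rc_20_1 lc_f_rc_5_3 lc_f_rc_17_3 lc_f_rc_14_3 lc_f_rc_14_3 lc_f_rc_21_1 lc_f_rc_21_1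 lc_f_rc_14_3 lc_f_rc_19_3 lc_f_rc_14_3 lc_f_rc_14_3 lc_f_rc_14_3 lc_f_rc_20_1 lc_f_rc_17_1 lc_f_rc_21_1 lc_f_rc_19_5 lc_f_rc_14_1 lc_f_rc_10_3 lc_f_rc_17_1 lc_f_rc_5_3 lc_f_rc_5_3 lc_f_rc_14_3 lc_f_rc_14_3 lc_f_rc_5_3 lc_f_rc_17_1 lc_f_rc_19_5 lc_f_rc_17_3 lc_f_rc_14_3 lc_f_rc_10_3 lc_f_rc_14_3 lc_f_rc_14_3 lc_f_rc_10_3 lc_f_rc_21_1 lc_f_rc_14_3) (@D3.rec (fun _ => (Cert rels S Gen.f)) lc_f_rc_10_1 lc_f_rc_20_1 lc_f_rc_14_3 lc_f_rc_21_1 lc_f_rc_14_3 lc_f_rc_17_3 lc_f_rc_21_1 lc_f_rc_10_3 lc_f_rc_17_1 lc_f_rc_14_1 lc_f_rc_5_1 lc_f_rc_20_1 lc_f_rc_10_3 lc_f_rc_14_1 lc_f_rc_20_1 lc_f_rc_20_1 lc_f_rc_5_3 lc_f_rc_19_3 lc_f_rc_10_3 lc_f_rc_5_3 lc_f_rc_10_3 lc_f_rc_14_3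 lc_f_rc_17_3 lc_f_rc_14_3 lc_f_rc_20_1 lc_f_rc_5_3 lc_f_rc_14_1 lc_f_rc_10_3 lc_f_rc_10_1 lc_f_rc_10_3 lc_f_rc_21_1 lc_f_rc_17_1 lc_f_rc_17_3 lc_f_rc_20_1 lc_f_rc_19_3 lc_f_rc_14_1 lc_f_rc_21_1 lc_f_rc_19_3 lc_f_rc_21_1 lc_f_rc_14_3 lc_f_rc_10_3 lc_f_rc_19_3 lc_f_rc_14_3 lc_f_rc_20_1 lc_f_rc_5_3 lc_f_rc_19_3 lc_f_rc_19_5 lc_f_rc_14_1 lc_f_rc_17_3 lc_f_rc_19_1 lc_f_rc_10_3 lc_f_rc_20_1 lc_f_rc_10_1 lc_f_rc_19_3 lc_f_rc_10_3 lc_f_rc_17_3 lc_f_rc_14_3 lc_f_rc_14_1 lc_f_rc_10_1 lc_f_rc_14_3 lc_f_rc_17_3 lc_f_rc_14_3) (@D3.rec (fun _ => (Cert rels S Gen.f)) lc_f_rc_20_1 lc_f_rc_21_1 lc_f_rc_10_3 lc_f_rc_10_3 lc_f_rc_5_3 lc_f_rc_20_1 lc_f_rc_14_3 lc_f_rc_10_1 lc_f_rc_10_1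 lc_f_rc_21_1 lc_f_rc_5_3 lc_f_rc_19_3 lc_f_rc_19_1 lc_f_rc_5_1 lc_f_rc_20_1 lc_f_rc_21_1 lc_f_rc_19_3 lc_f_rc_10_3 lc_f_rc_17_1 lc_f_rc_17_3 lc_f_rc_19_3 lc_f_rc_14_3 lc_f_rc_22_1 lc_f_rc_20_1 lc_f_rc_20_1 lc_f_rc_10_3 lc_f_rc_10_3 lc_f_rc_20_1 lc_f_rc_20_1 lc_f_rc_10_3 lc_f_rc_5_1 lc_f_Cert_tree lc_f_rc_20_1 lc_f_rc_20_1 lc_f_Cert_tree lc_f_rc_22_1 lc_f_rc_10_3 lc_f_rc_14_3 lc_f_Cert_tree lc_f_rc_19_5 lc_f_rc_19_1 lc_f_rc_20_1 lc_f_rc_10_1 lc_f_rc_14_3 lc_f_rc_14_1 lc_f_rc_19_3 lc_f_rc_10_3 lc_f_rc_20_1 lc_f_rc_20_1 lc_f_rc_14_3 lc_f_rc_10_3 lc_f_rc_5_1 lc_f_rc_17_3 lc_f_rc_17_3 lc_f_rc_19_3 lc_f_rc_10_1 lc_f_rc_14_1 lc_f_rc_17_3 lc_f_rc_14_3 lc_f_rc_21_1 lc_f_rc_10_3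 lc_f_rc_20_1) (@D3.rec (fun _ => (Cert rels S Gen.f)) lc_f_rc_10_3 lc_f_rc_14_3 lc_f_rc_5_3 lc_f_rc_14_1 lc_f_rc_10_1 lc_f_Cert_tree lc_f_rc_20_1 lc_f_rc_20_1 lc_f_rc_20_1 lc_f_rc_21_1 lc_f_rc_17_1 lc_f_rc_10_3 lc_f_rc_21_1 lc_f_rc_10_3 lc_f_rc_10_1 lc_f_rc_17_1 lc_f_rc_14_1 lc_f_rc_19_3 lc_f_rc_10_3 lc_f_rc_5_3 lc_f_rc_19_5 lc_f_rc_19_1 lc_f_rc_5_3 lc_f_rc_17_1 lc_f_rc_21_1 lc_f_rc_20_1 lc_f_rc_10_1 lc_f_rc_10_3 lc_f_rc_21_1 lc_f_rc_10_3 lc_f_rc_10_3 lc_f_rc_20_1 lc_f_rc_14_3 lc_f_rc_17_3 lc_f_rc_17_1 lc_f_rc_5_3 lc_f_rc_17_3 lc_f_rc_17_3 lc_f_rc_5_3 lc_f_rc_17_1 lc_f_Cert_tree lc_f_rc_20_1 lc_f_rc_10_3 lc_f_rc_14_3 lc_f_rc_20_1 lc_f_rc_17_1 lc_f_rc_10_1 lc_f_rc_14_1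 lc_f_rc_17_3 lc_f_Cert_tree lc_f_rc_10_3 lc_f_Cert_tree lc_f_rc_20_1 lc_f_rc_20_1 lc_f_rc_10_3 lc_f_rc_14_3 lc_f_rc_20_1 lc_f_rc_19_3 lc_f_rc_20_1 lc_f_rc_17_3 lc_f_rc_20_1 lc_f_rc_20_1) (@D3.rec (fun _ => (Cert rels S Gen.f)) lc_f_rc_10_1 lc_f_rc_20_1 lc_f_rc_20_1 lc_f_rc_14_3 lc_f_rc_17_3 lc_f_rc_5_3 lc_f_rc_14_1 lc_f_rc_20_1 lc_f_rc_5_1 lc_f_rc_10_1 lc_f_rc_19_3 lc_f_rc_17_3 lc_f_rc_14_3 lc_f_rc_14_1 lc_f_rc_17_1 lc_f_rc_17_3 lc_f_rc_14_3 lc_f_rc_14_3 lc_f_rc_14_3 lc_f_rc_10_1 lc_f_rc_21_1 lc_f_rc_5_3 lc_f_rc_10_3 lc_f_rc_21_1 lc_f_rc_5_3 lc_f_rc_21_1 lc_f_rc_21_1 lc_f_rc_17_1 lc_f_rc_20_1 lc_f_rc_5_1 lc_f_rc_21_1 lc_f_rc_10_1 lc_f_rc_19_3 lc_f_rc_17_1 lc_f_rc_20_1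 lc_f_rc_14_3 lc_f_rc_10_3 lc_f_rc_17_3 lc_f_rc_17_1 lc_f_rc_19_1 lc_f_rc_17_3 lc_f_rc_21_1 lc_f_rc_20_1 lc_f_rc_10_3 lc_f_rc_20_1 lc_f_rc_19_3 lc_f_rc_19_3 lc_f_rc_5_3 lc_f_rc_20_1 lc_f_rc_19_1 lc_f_rc_10_3 lc_f_rc_17_3 lc_f_rc_17_3 lc_f_Cert_tree lc_f_rc_20_1 lc_f_rc_20_1 lc_f_rc_17_1 lc_f_rc_21_1 lc_f_rc_17_3 lc_f_rc_5_1 lc_f_rc_17_3 lc_f_rc_14_3) (@D3.rec (fun _ => (Cert rels S Gen.f)) lc_f_Cert_tree lc_f_rc_17_3 lc_f_rc_20_1 lc_f_rc_5_3 lc_f_rc_20_1 lc_f_rc_5_3 lc_f_rc_17_1 lc_f_rc_19_5 lc_f_rc_17_1 lc_f_rc_19_3 lc_f_rc_10_3 lc_f_rc_20_1 lc_f_rc_5_1 lc_f_rc_20_1 lc_f_rc_5_1 lc_f_rc_20_1 lc_f_rc_20_1 lc_f_rc_5_1 lc_f_rc_10_3 lc_f_rc_10_3 lc_f_rc_10_3 lc_f_rc_5_1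 lc_f_rc_21_1 lc_f_rc_21_1 lc_f_rc_17_3 lc_f_rc_20_1 lc_f_rc_14_3 lc_f_rc_10_1 lc_f_rc_19_3 lc_f_rc_17_3 lc_f_rc_17_3 lc_f_rc_5_1 lc_f_rc_17_3 lc_f_rc_20_1 lc_f_rc_5_1 lc_f_rc_19_3 lc_f_rc_10_3 lc_f_rc_5_1 lc_f_rc_14_1 lc_f_rc_14_1 lc_f_rc_14_3 lc_f_rc_17_3 lc_f_rc_17_3 lc_f_rc_20_1 lc_f_rc_17_3 lc_f_rc_14_1 lc_f_rc_20_1 lc_f_rc_21_1 lc_f_rc_17_3 lc_f_rc_19_5 lc_f_rc_17_1 lc_f_rc_19_1 lc_f_rc_14_1 lc_f_rc_20_1 lc_f_rc_10_3 lc_f_rc_20_1 lc_f_rc_20_1 lc_f_rc_14_3 lc_f_rc_5_3 lc_f_rc_14_1 lc_f_rc_20_1 lc_f_rc_19_5) (@D3.rec (fun _ => (Cert rels S Gen.f)) lc_f_rc_10_1 lc_f_rc_20_1 lc_f_rc_14_1 lc_f_rc_10_1 lc_f_rc_20_1 lc_f_rc_5_3 lc_f_rc_19_3 lc_f_rc_19_1 lc_f_rc_10_3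 lc_f_rc_20_1 lc_f_rc_20_1 lc_f_rc_19_3 lc_f_rc_14_3 lc_f_rc_10_1 lc_f_rc_21_1 lc_f_rc_10_3 lc_f_rc_14_1 lc_f_rc_14_3 lc_f_rc_10_3 lc_f_rc_14_1 lc_f_rc_17_3 lc_f_rc_14_3 lc_f_rc_5_3 lc_f_rc_20_1 lc_f_rc_10_3 lc_f_rc_14_1 lc_f_rc_21_1 lc_f_rc_20_1 lc_f_rc_19_5 lc_f_rc_10_1 lc_f_rc_17_3 lc_f_rc_20_1 lc_f_rc_17_1 lc_f_rc_14_3 lc_f_rc_19_3 lc_f_rc_14_3 lc_f_rc_14_1 lc_f_rc_10_1 lc_f_rc_19_5 lc_f_rc_14_3 lc_f_rc_20_1 lc_f_rc_14_3 lc_f_rc_14_3 lc_f_rc_20_1 lc_f_rc_14_1 lc_f_rc_10_3 lc_f_rc_14_3 lc_f_rc_20_1 lc_f_rc_17_3 lc_f_rc_17_3 lc_f_rc_20_1 lc_f_rc_5_3 lc_f_rc_20_1 lc_f_rc_5_1 lc_f_rc_20_1 lc_f_rc_20_1 lc_f_rc_21_1 lc_f_rc_14_3 lc_f_rc_20_1 lc_f_rc_19_3 lc_f_rc_17_3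 lc_f_rc_14_3) (@D3.rec (fun _ => (Cert rels S Gen.f)) lc_f_rc_10_3 lc_f_rc_10_3 lc_f_rc_17_3 lc_f_rc_20_1 lc_f_rc_14_3 lc_f_rc_17_3 lc_f_rc_14_3 lc_f_rc_10_3 lc_f_rc_21_1 lc_f_rc_21_1 lc_f_rc_20_1 lc_f_rc_17_3 lc_f_rc_17_1 lc_f_rc_20_1 lc_f_rc_20_1 lc_f_rc_20_1 lc_f_rc_14_3 lc_f_rc_17_3 lc_f_rc_5_1 lc_f_rc_20_1 lc_f_rc_5_3 lc_f_rc_14_3 lc_f_rc_20_1 lc_f_rc_17_1 lc_f_rc_10_3 lc_f_rc_17_3 lc_f_rc_10_3 lc_f_rc_14_3 lc_f_rc_10_3 lc_f_rc_17_3 lc_f_rc_20_1 lc_f_rc_17_3 lc_f_Cert_tree lc_f_rc_20_1 lc_f_rc_10_3 lc_f_rc_14_3 lc_f_rc_10_3 lc_f_rc_17_3 lc_f_rc_17_3 lc_f_rc_17_1 lc_f_rc_14_3 lc_f_rc_21_1 lc_f_rc_17_1 lc_f_rc_14_3 lc_f_rc_21_1 lc_f_rc_20_1 lc_f_Cert_tree lc_f_rc_20_1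 lc_f_rc_17_3 lc_f_rc_19_1 lc_f_rc_17_1 lc_f_rc_14_3 lc_f_rc_20_1 lc_f_rc_21_1 lc_f_rc_20_1 lc_f_rc_5_3 lc_f_rc_10_3 lc_f_Cert_tree lc_f_rc_20_1 lc_f_rc_21_1 lc_f_rc_20_1 lc_f_rc_17_1) (@D3.rec (fun _ => (Cert rels S Gen.f)) lc_f_rc_20_1 lc_f_rc_19_3 lc_f_rc_10_3 lc_f_rc_17_3 lc_f_rc_17_1 lc_f_rc_5_3 lc_f_rc_21_1 lc_f_rc_20_1 lc_f_rc_10_3 lc_f_rc_17_3 lc_f_rc_19_1 lc_f_rc_17_3 lc_f_rc_17_3 lc_f_rc_20_1 lc_f_rc_22_1 lc_f_rc_22_1 lc_f_rc_10_3 lc_f_rc_10_3 lc_f_rc_10_3 lc_f_rc_17_1 lc_f_rc_21_1 lc_f_rc_14_1 lc_f_rc_20_1 lc_f_rc_17_3 lc_f_rc_21_1 lc_f_rc_19_5 lc_f_rc_17_3 lc_f_rc_19_3 lc_f_rc_17_1 lc_f_rc_20_1 lc_f_rc_10_1 lc_f_rc_21_1 lc_f_rc_10_1 lc_f_rc_10_3 lc_f_rc_10_3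 lc_f_rc_14_3 lc_f_rc_20_1 lc_f_rc_14_3 lc_f_rc_20_1 lc_f_rc_19_3 lc_f_rc_21_1 lc_f_rc_10_3 lc_f_rc_10_1 lc_f_rc_5_3 lc_f_rc_21_1 lc_f_rc_10_1 lc_f_rc_14_1 lc_f_rc_19_3 lc_f_rc_17_1 lc_f_rc_20_1 lc_f_rc_10_3 lc_f_rc_19_3 lc_f_rc_14_1 lc_f_rc_10_3 lc_f_rc_19_5 lc_f_rc_14_3 lc_f_rc_5_3 lc_f_rc_20_1 lc_f_rc_20_1 lc_f_rc_17_1 lc_f_rc_14_3 lc_f_rc_20_1) (@D3.rec (fun _ => (Cert rels S Gen.f)) lc_f_rc_5_1 lc_f_rc_21_1 lc_f_rc_19_5 lc_f_rc_14_3 lc_f_rc_20_1 lc_f_rc_22_1 lc_f_rc_14_3 lc_f_rc_5_3 lc_f_rc_22_1 lc_f_rc_19_3 lc_f_rc_14_1 lc_f_rc_20_1 lc_f_rc_20_1 lc_f_rc_10_3 lc_f_rc_17_3 lc_f_rc_14_1 lc_f_rc_17_1 lc_f_rc_20_1 lc_f_rc_17_1 lc_f_rc_10_3 lc_f_rc_21_1 lc_f_rc_10_3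 lc_f_Cert_tree lc_f_rc_20_1 lc_f_rc_21_1 lc_f_rc_20_1 lc_f_rc_20_1 lc_f_rc_20_1 lc_f_rc_10_1 lc_f_rc_17_3 lc_f_rc_20_1 lc_f_rc_14_1 lc_f_rc_10_1 lc_f_rc_10_3 lc_f_rc_14_3 lc_f_rc_10_3 lc_f_rc_20_1 lc_f_rc_22_1 lc_f_rc_21_1 lc_f_rc_14_1 lc_f_rc_10_3 lc_f_rc_20_1 lc_f_rc_10_3 lc_f_rc_14_3 lc_f_rc_5_3 lc_f_rc_17_3 lc_f_rc_14_3 lc_f_rc_14_3 lc_f_rc_17_3 lc_f_rc_10_1 lc_f_rc_5_1 lc_f_rc_17_3 lc_f_rc_14_3 lc_f_rc_10_3 lc_f_rc_10_3 lc_f_rc_20_1 lc_f_rc_14_3 lc_f_rc_14_3 lc_f_rc_20_1 lc_f_rc_20_1 lc_f_rc_17_3 lc_f_rc_17_3) (@D3.rec (fun _ => (Cert rels S Gen.f)) lc_f_rc_14_3 lc_f_rc_19_3 lc_f_rc_10_1 lc_f_rc_20_1 lc_f_rc_20_1 lc_f_rc_21_1 lc_f_rc_20_1 lc_f_rc_19_5 lc_f_rc_17_1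 lc_f_rc_17_1 lc_f_rc_17_3 lc_f_rc_17_3 lc_f_rc_14_3 lc_f_rc_17_1 lc_f_rc_19_3 lc_f_rc_21_1 lc_f_rc_10_3 lc_f_rc_22_1 lc_f_rc_17_3 lc_f_rc_17_1 lc_f_rc_10_1 lc_f_rc_22_1 lc_f_rc_21_1 lc_f_rc_14_3 lc_f_rc_22_1 lc_f_rc_20_1 lc_f_rc_21_1 lc_f_rc_17_3 lc_f_rc_14_1 lc_f_rc_14_3 lc_f_rc_10_3 lc_f_rc_17_1 lc_f_rc_17_1 lc_f_rc_5_3 lc_f_rc_14_3 lc_f_rc_10_1 lc_f_rc_21_1 lc_f_rc_17_1 lc_f_rc_21_1 lc_f_rc_10_1 lc_f_rc_14_3 lc_f_rc_14_1 lc_f_rc_5_1 lc_f_rc_5_1 lc_f_rc_14_3 lc_f_rc_20_1 lc_f_rc_10_1 lc_f_rc_17_3 lc_f_rc_5_1 lc_f_rc_19_3 lc_f_rc_17_3 lc_f_rc_17_3 lc_f_rc_5_3 lc_f_rc_17_3 lc_f_rc_21_1 lc_f_Cert_tree lc_f_rc_20_1 lc_f_rc_5_1 lc_f_Cert_tree lc_f_rc_20_1 lc_f_rc_10_1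 lc_f_rc_19_3) (@D3.rec (fun _ => (Cert rels S Gen.f)) lc_f_rc_10_3 lc_f_rc_5_1 lc_f_rc_17_3 lc_f_rc_20_1 lc_f_rc_19_1 lc_f_rc_5_3 lc_f_rc_21_1 lc_f_rc_17_1 lc_f_rc_20_1 lc_f_rc_17_3 lc_f_rc_10_3 lc_f_rc_20_1 lc_f_rc_14_1 lc_f_rc_20_1 lc_f_rc_10_3 lc_f_rc_20_1 lc_f_rc_5_3 lc_f_rc_20_1 lc_f_rc_17_1 lc_f_rc_20_1 lc_f_rc_17_3 lc_f_rc_20_1 lc_f_rc_19_1 lc_f_rc_20_1 lc_f_rc_17_3 lc_f_rc_19_5 lc_f_rc_21_1 lc_f_rc_20_1 lc_f_rc_10_1 lc_f_rc_20_1 lc_f_rc_17_3 lc_f_rc_14_1 lc_f_rc_17_3 lc_f_rc_19_1 lc_f_rc_10_1 lc_f_rc_20_1 lc_f_rc_17_3 lc_f_rc_5_3 lc_f_rc_21_1 lc_f_rc_14_1 lc_f_rc_17_1 lc_f_rc_20_1 lc_f_rc_19_3 lc_f_rc_21_1 lc_f_rc_22_1 lc_f_rc_5_3 lc_f_rc_20_1 lc_f_rc_10_3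 lc_f_rc_14_3 lc_f_rc_20_1 lc_f_rc_14_3 lc_f_rc_20_1 lc_f_rc_21_1 lc_f_rc_21_1 lc_f_rc_5_3 lc_f_rc_20_1 lc_f_rc_20_1 lc_f_rc_10_3 lc_f_rc_10_3 lc_f_rc_21_1 lc_f_Cert_tree lc_f_rc_14_3) (@D3.rec (fun _ => (Cert rels S Gen.f)) lc_f_rc_14_1 lc_f_Cert_tree lc_f_rc_17_1 lc_f_rc_20_1 lc_f_rc_19_3 lc_f_rc_10_3 lc_f_rc_17_1 lc_f_rc_17_1 lc_f_rc_20_1 lc_f_rc_19_1 lc_f_rc_10_3 lc_f_rc_17_3 lc_f_rc_19_3 lc_f_rc_21_1 lc_f_rc_5_1 lc_f_rc_21_1 lc_f_rc_14_3 lc_f_rc_19_3 lc_f_rc_17_3 lc_f_rc_17_3 lc_f_rc_20_1 lc_f_rc_21_1 lc_f_rc_20_1 lc_f_rc_22_1 lc_f_rc_10_3 lc_f_rc_10_3 lc_f_rc_17_3 lc_f_rc_5_1 lc_f_rc_17_3 lc_f_rc_17_3 lc_f_rc_20_1 lc_f_rc_14_1 lc_f_rc_10_3 lc_f_rc_5_1 lc_f_Cert_tree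 lc_f_rc_20_1 lc_f_rc_20_1 lc_f_rc_20_1 lc_f_rc_17_1 lc_f_Cert_tree lc_f_rc_5_1 lc_f_rc_5_1 lc_f_rc_10_1 lc_f_rc_20_1 lc_f_rc_17_3 lc_f_Cert_tree lc_f_rc_14_3 lc_f_rc_10_1 lc_f_rc_10_1 lc_f_rc_19_3 lc_f_rc_19_5 lc_f_rc_10_3 lc_f_rc_20_1 lc_f_rc_17_3 lc_f_rc_21_1 lc_f_rc_10_1 lc_f_Cert_tree lc_f_rc_10_3 lc_f_rc_21_1 lc_f_rc_10_3 lc_f_rc_17_3 lc_f_rc_17_3) (@D3.rec (fun _ => (Cert rels S Gen.f)) lc_f_rc_17_3 lc_f_rc_19_3 lc_f_rc_5_3 lc_f_rc_20_1 lc_f_rc_17_3 lc_f_rc_20_1 lc_f_rc_10_3 lc_f_rc_17_3 lc_f_rc_10_1 lc_f_rc_22_1 lc_f_rc_22_1 lc_f_rc_5_3 lc_f_rc_14_3 lc_f_rc_14_3 lc_f_rc_14_3 lc_f_Cert_tree lc_f_rc_10_3 lc_f_rc_22_1 lc_f_rc_22_1 lc_f_rc_17_3 lc_f_rc_17_3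 lc_f_rc_17_3 lc_f_Cert_tree lc_f_rc_10_1 lc_f_Cert_tree lc_f_rc_10_3 lc_f_Cert_tree lc_f_rc_10_1 lc_f_rc_19_3 lc_f_rc_19_5 lc_f_rc_17_3 lc_f_rc_20_1 lc_f_rc_19_1 lc_f_rc_17_3 lc_f_rc_20_1 lc_f_rc_10_3 lc_f_rc_10_3 lc_f_rc_14_3 lc_f_rc_10_3 lc_f_rc_14_3 lc_f_rc_10_1 lc_f_rc_20_1 lc_f_rc_20_1 lc_f_rc_20_1 lc_f_rc_10_3 lc_f_rc_10_3 lc_f_rc_17_1 lc_f_rc_21_1 lc_f_rc_22_1 lc_f_rc_17_1 lc_f_rc_14_1 lc_f_rc_19_3 lc_f_rc_17_3 lc_f_rc_17_3 lc_f_rc_19_3 lc_f_rc_14_3 lc_f_rc_14_3 lc_f_rc_22_1 lc_f_rc_20_1 lc_f_rc_17_3 lc_f_rc_20_1 lc_f_rc_17_3) (@D3.rec (fun _ => (Cert rels S Gen.f)) lc_f_rc_22_1 lc_f_rc_20_1 lc_f_rc_22_1 lc_f_rc_10_3 lc_f_rc_10_3 lc_f_rc_21_1 lc_f_rc_10_3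 lc_f_rc_5_1 lc_f_rc_20_1 lc_f_rc_17_3 lc_f_rc_21_1 lc_f_rc_5_3 lc_f_rc_20_1 lc_f_rc_5_3 lc_f_rc_17_1 lc_f_rc_10_1 lc_f_rc_17_3 lc_f_rc_20_1 lc_f_Cert_tree lc_f_rc_20_1 lc_f_rc_5_1 lc_f_rc_19_1 lc_f_rc_14_3 lc_f_rc_14_3 lc_f_rc_17_1 lc_f_rc_20_1 lc_f_rc_14_1 lc_f_rc_10_3 lc_f_rc_21_1 lc_f_rc_10_3 lc_f_rc_5_3 lc_f_rc_10_3 lc_f_rc_17_3 lc_f_rc_14_3 lc_f_rc_22_1 lc_f_rc_5_1 lc_f_rc_10_1 lc_f_rc_20_1 lc_f_rc_17_3 lc_f_rc_20_1 lc_f_rc_14_3 lc_f_rc_10_3 lc_f_rc_5_3 lc_f_rc_21_1 lc_f_rc_10_1 lc_f_rc_10_3 lc_f_rc_14_3 lc_f_rc_20_1 lc_f_rc_14_3 lc_f_rc_20_1 lc_f_rc_17_1 lc_f_rc_14_1 lc_f_rc_14_1 lc_f_rc_20_1 lc_f_rc_17_1 lc_f_rc_17_3 lc_f_rc_20_1 lc_f_rc_19_1 lc_f_rc_14_3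 lc_f_rc_14_3 lc_f_rc_10_1 lc_f_rc_17_1) (@D3.rec (fun _ => (Cert rels S Gen.f)) lc_f_rc_20_1 lc_f_rc_17_3 lc_f_rc_17_3 lc_f_rc_22_1 lc_f_rc_17_3 lc_f_rc_17_3 lc_f_rc_20_1 lc_f_rc_17_3 lc_f_rc_20_1 lc_f_rc_14_3 lc_f_rc_10_1 lc_f_rc_19_3 lc_f_rc_5_3 lc_f_rc_20_1 lc_f_rc_19_1 lc_f_rc_14_3 lc_f_rc_17_3 lc_f_rc_20_1 lc_f_rc_17_1 lc_f_rc_14_3 lc_f_rc_17_1 lc_f_rc_17_3 lc_f_rc_17_3 lc_f_rc_19_3 lc_f_rc_5_3 lc_f_rc_22_1 lc_f_rc_17_3 lc_f_rc_21_1 lc_f_rc_20_1 lc_f_rc_14_1 lc_f_rc_20_1 lc_f_rc_5_3 lc_f_rc_14_3 lc_f_rc_14_3 lc_f_rc_17_3 lc_f_rc_22_1 lc_f_rc_19_5 lc_f_rc_14_3 lc_f_rc_17_3 lc_f_rc_17_3 lc_f_rc_17_1 lc_f_rc_21_1 lc_f_rc_19_3 lc_f_rc_17_3 lc_f_rc_19_3 lc_f_rc_17_1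 lc_f_rc_17_3 lc_f_rc_14_3 lc_f_rc_17_3 lc_f_rc_20_1 lc_f_rc_10_3 lc_f_rc_19_5 lc_f_rc_19_3 lc_f_rc_17_3 lc_f_rc_14_3 lc_f_rc_20_1 lc_f_rc_21_1 lc_f_rc_10_3 lc_f_rc_5_3 lc_f_rc_21_1 lc_f_rc_10_1 lc_f_rc_19_3) (@D3.rec (fun _ => (Cert rels S Gen.f)) lc_f_rc_20_1 lc_f_rc_20_1 lc_f_rc_17_3 lc_f_rc_14_3 lc_f_rc_21_1 lc_f_rc_21_1 lc_f_rc_17_1 lc_f_rc_20_1 lc_f_rc_5_3 lc_f_rc_14_3 lc_f_rc_19_3 lc_f_rc_22_1 lc_f_rc_14_3 lc_f_rc_10_3 lc_f_rc_14_1 lc_f_rc_10_3 lc_f_rc_14_3 lc_f_rc_17_1 lc_f_rc_17_1 lc_f_rc_19_3 lc_f_rc_22_1 lc_f_rc_14_1 lc_f_rc_21_1 lc_f_rc_17_3 lc_f_rc_17_3 lc_f_rc_21_1 lc_f_rc_21_1 lc_f_rc_21_1 lc_f_rc_14_3 lc_f_rc_14_1 lc_f_rc_20_1 lc_f_Cert_tree lc_f_rc_14_3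 lc_f_rc_10_3 lc_f_rc_10_3 lc_f_rc_22_1 lc_f_rc_14_3 lc_f_Cert_tree lc_f_rc_22_1 lc_f_rc_14_3 lc_f_rc_10_3 lc_f_Cert_tree lc_f_rc_21_1 lc_f_rc_5_1 lc_f_rc_19_3 lc_f_rc_14_1 lc_f_rc_14_1 lc_f_rc_17_1 lc_f_rc_20_1 lc_f_rc_19_3 lc_f_rc_5_3 lc_f_rc_21_1 lc_f_rc_14_3 lc_f_Cert_tree lc_f_rc_17_3 lc_f_rc_14_3 lc_f_Cert_tree lc_f_rc_22_1 lc_f_rc_21_1 lc_f_rc_14_3 lc_f_rc_20_1 lc_f_rc_17_3) (@D3.rec (fun _ => (Cert rels S Gen.f)) lc_f_rc_20_1 lc_f_rc_21_1 lc_f_rc_20_1 lc_f_rc_17_3 lc_f_rc_17_3 lc_f_rc_20_1 lc_f_rc_19_3 lc_f_rc_17_3 lc_f_rc_14_3 lc_f_rc_21_1 lc_f_rc_17_3 lc_f_rc_17_3 lc_f_rc_21_1 lc_f_rc_21_1 lc_f_rc_21_1 lc_f_rc_14_3 lc_f_rc_14_3 lc_f_rc_19_5 lc_f_rc_20_1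 lc_f_rc_21_1 lc_f_rc_21_1 lc_f_rc_17_1 lc_f_rc_17_3 lc_f_rc_20_1 lc_f_rc_20_1 lc_f_rc_21_1 lc_f_rc_10_3 lc_f_rc_10_3 lc_f_rc_21_1 lc_f_rc_14_1 lc_f_rc_17_3 lc_f_rc_21_1 lc_f_rc_20_1 lc_f_rc_20_1 lc_f_rc_22_1 lc_f_rc_10_3 lc_f_rc_21_1 lc_f_rc_17_3 lc_f_rc_21_1 lc_f_rc_17_1 lc_f_rc_14_3 lc_f_rc_19_1 lc_f_rc_17_3 lc_f_rc_19_1 lc_f_rc_10_3 lc_f_rc_10_3 lc_f_rc_17_3 lc_f_rc_22_1 lc_f_rc_14_3 lc_f_rc_21_1 lc_f_rc_22_1 lc_f_rc_20_1 lc_f_rc_10_1 lc_f_rc_17_1 lc_f_rc_19_3 lc_f_rc_21_1 lc_f_rc_10_3 lc_f_rc_10_3 lc_f_rc_21_1 lc_f_rc_10_3 lc_f_rc_10_1 lc_f_rc_17_3) (@D3.rec (fun _ => (Cert rels S Gen.f)) lc_f_rc_17_3 lc_f_rc_21_1 lc_f_rc_10_3 lc_f_rc_10_1 lc_f_rc_5_1 lc_f_rc_17_3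 lc_f_rc_10_1 lc_f_rc_5_1 lc_f_rc_14_3 lc_f_rc_10_3 lc_f_rc_14_3 lc_f_rc_17_3 lc_f_rc_21_1 lc_f_rc_14_3 lc_f_Cert_tree lc_f_rc_17_3 lc_f_rc_19_5 lc_f_rc_20_1 lc_f_rc_20_1 lc_f_rc_10_3 lc_f_rc_21_1 lc_f_rc_17_3 lc_f_rc_14_1 lc_f_rc_19_5 lc_f_rc_10_3 lc_f_rc_20_1 lc_f_rc_22_1 lc_f_rc_22_1 lc_f_rc_10_3 lc_f_rc_14_3 lc_f_rc_14_1 lc_f_rc_19_5 lc_f_rc_20_1 lc_f_rc_14_3 lc_f_rc_14_3 lc_f_rc_21_1 lc_f_rc_20_1 lc_f_rc_20_1 lc_f_rc_10_3 lc_f_rc_10_3 lc_f_rc_19_5 lc_f_rc_14_1 lc_f_rc_10_3 lc_f_rc_14_1 lc_f_rc_5_1 lc_f_Cert_tree lc_f_rc_14_1 lc_f_rc_10_3 lc_f_rc_10_1 lc_f_rc_17_1 lc_f_rc_20_1 lc_f_rc_14_3 lc_f_rc_21_1 lc_f_rc_21_1 lc_f_rc_10_1 lc_f_rc_14_1 lc_f_rc_17_3 lc_f_rc_5_1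 lc_f_rc_5_1 lc_f_rc_17_3 lc_f_rc_14_1 lc_f_rc_10_1) (@D3.rec (fun _ => (Cert rels S Gen.f)) lc_f_rc_17_3 lc_f_rc_5_3 lc_f_rc_17_3 lc_f_rc_10_1 lc_f_rc_21_1 lc_f_rc_14_3 lc_f_rc_17_3 lc_f_rc_5_3 lc_f_rc_14_1 lc_f_rc_19_3 lc_f_rc_21_1 lc_f_rc_20_1 lc_f_rc_21_1 lc_f_rc_21_1 lc_f_rc_10_3 lc_f_rc_20_1 lc_f_rc_17_1 lc_f_rc_20_1 lc_f_rc_19_5 lc_f_rc_17_3 lc_f_rc_17_3 lc_f_rc_10_3 lc_f_rc_10_3 lc_f_rc_14_3 lc_f_rc_10_3 lc_f_rc_14_3 lc_f_rc_10_1 lc_f_rc_14_3 lc_f_rc_10_3 lc_f_rc_10_3 lc_f_rc_21_1 lc_f_rc_19_3 lc_f_rc_17_1 lc_f_rc_21_1 lc_f_rc_10_3 lc_f_rc_19_3 lc_f_rc_17_3 lc_f_rc_5_1 lc_f_rc_5_3 lc_f_rc_17_3 lc_f_rc_14_3 lc_f_rc_14_3 lc_f_rc_14_1 lc_f_rc_10_1 lc_f_rc_17_3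 lc_f_rc_10_3 lc_f_rc_14_1 lc_f_rc_20_1 lc_f_rc_20_1 lc_f_rc_10_1 lc_f_rc_10_1 lc_f_rc_21_1 lc_f_rc_20_1 lc_f_rc_20_1 lc_f_rc_17_3 lc_f_rc_20_1 lc_f_rc_19_5 lc_f_rc_21_1 lc_f_rc_17_3 lc_f_rc_19_5 lc_f_rc_10_3 lc_f_rc_21_1) (@D3.rec (fun _ => (Cert rels S Gen.f)) lc_f_rc_17_1 lc_f_rc_5_1 lc_f_rc_19_3 lc_f_rc_14_1 lc_f_rc_10_1 lc_f_rc_21_1 lc_f_rc_20_1 lc_f_rc_14_3 lc_f_rc_10_1 lc_f_Cert_tree lc_f_rc_20_1 lc_f_rc_5_3 lc_f_rc_20_1 lc_f_rc_10_3 lc_f_rc_19_5 lc_f_rc_22_1 lc_f_rc_17_1 lc_f_rc_21_1 lc_f_Cert_tree lc_f_rc_17_3 lc_f_rc_10_3 lc_f_rc_17_1 lc_f_rc_20_1 lc_f_rc_14_1 lc_f_rc_20_1 lc_f_rc_14_1 lc_f_rc_19_5 lc_f_rc_17_3 lc_f_rc_22_1 lc_f_rc_10_3 lc_f_rc_20_1 lc_f_rc_14_3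 lc_f_rc_22_1 lc_f_rc_5_3 lc_f_rc_14_3 lc_f_rc_19_5 lc_f_rc_22_1 lc_f_rc_14_3 lc_f_rc_21_1 lc_f_rc_14_3 lc_f_rc_19_1 lc_f_rc_17_1 lc_f_rc_5_3 lc_f_rc_14_3 lc_f_rc_20_1 lc_f_rc_14_3 lc_f_rc_17_3 lc_f_rc_10_1 lc_f_rc_10_3 lc_f_rc_5_3 lc_f_rc_14_3 lc_f_rc_10_1 lc_f_rc_21_1 lc_f_rc_20_1 lc_f_Cert_tree lc_f_rc_20_1 lc_f_Cert_tree lc_f_rc_17_1 lc_f_rc_17_3 lc_f_Cert_tree lc_f_rc_20_1 lc_f_rc_19_3) (@D3.rec (fun _ => (Cert rels S Gen.f)) lc_f_rc_17_3 lc_f_rc_19_3 lc_f_rc_20_1 lc_f_rc_14_3 lc_f_rc_14_3 lc_f_Cert_tree lc_f_rc_19_3 lc_f_rc_14_3 lc_f_Cert_tree lc_f_rc_19_3 lc_f_rc_19_5 lc_f_rc_10_3 lc_f_rc_14_3 lc_f_rc_17_3 lc_f_rc_17_3 lc_f_rc_10_3 lc_f_rc_10_3 lc_f_rc_19_3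 lc_f_rc_17_1 lc_f_rc_17_3 lc_f_rc_17_3 lc_f_rc_14_3 lc_f_rc_10_3 lc_f_rc_17_3 lc_f_rc_10_3 lc_f_rc_20_1 lc_f_rc_17_1 lc_f_rc_19_1 lc_f_rc_10_1 lc_f_rc_20_1 lc_f_rc_14_3 lc_f_rc_10_3 lc_f_rc_14_3 lc_f_rc_14_3 lc_f_rc_21_1 lc_f_rc_17_1 lc_f_rc_21_1 lc_f_rc_20_1 lc_f_rc_5_1 lc_f_rc_19_3 lc_f_rc_14_3 lc_f_rc_14_3 lc_f_rc_10_3 lc_f_rc_20_1 lc_f_rc_14_3 lc_f_rc_21_1 lc_f_rc_20_1 lc_f_rc_20_1 lc_f_rc_20_1 lc_f_rc_17_3 lc_f_rc_19_5 lc_f_rc_17_3 lc_f_rc_10_1 lc_f_rc_17_3 lc_f_rc_14_1 lc_f_rc_19_5 lc_f_rc_10_3 lc_f_rc_22_1 lc_f_rc_20_1 lc_f_rc_17_3 lc_f_rc_17_3 lc_f_rc_14_1) (@D3.rec (fun _ => (Cert rels S Gen.f)) lc_f_rc_21_1 lc_f_rc_22_1 lc_f_rc_14_3 lc_f_rc_10_1 lc_f_rc_14_3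 lc_f_rc_17_3 lc_f_rc_14_1 lc_f_rc_10_1 lc_f_rc_22_1 lc_f_rc_10_3 lc_f_rc_19_5 lc_f_rc_14_3 lc_f_rc_17_3 lc_f_rc_21_1 lc_f_rc_17_3 lc_f_rc_14_3 lc_f_rc_19_3 lc_f_rc_17_1 lc_f_rc_14_3 lc_f_rc_17_1 lc_f_rc_17_1 lc_f_rc_19_5 lc_f_rc_20_1 lc_f_rc_14_3 lc_f_rc_10_3 lc_f_rc_10_3 lc_f_rc_17_3 lc_f_rc_20_1 lc_f_rc_17_3 lc_f_rc_19_5 lc_f_rc_14_3 lc_f_rc_5_1 lc_f_rc_10_1 lc_f_rc_22_1 lc_f_rc_21_1 lc_f_rc_5_3 lc_f_rc_14_3 lc_f_rc_10_3 lc_f_rc_22_1 lc_f_rc_20_1 lc_f_rc_10_3 lc_f_rc_17_1 lc_f_rc_14_1 lc_f_rc_10_3 lc_f_rc_20_1 lc_f_rc_10_1 lc_f_rc_5_3 lc_f_rc_10_1 lc_f_rc_10_3 lc_f_rc_10_3 lc_f_rc_20_1 lc_f_rc_19_1 lc_f_rc_21_1 lc_f_rc_10_3 lc_f_rc_10_3 lc_f_rc_14_3 lc_f_rc_17_1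 lc_f_rc_14_1 lc_f_rc_21_1 lc_f_rc_21_1 lc_f_rc_5_3 lc_f_rc_17_1) (@D3.rec (fun _ => (Cert rels S Gen.f)) lc_f_rc_19_5 lc_f_rc_10_1 lc_f_rc_10_3 lc_f_rc_19_1 lc_f_rc_17_3 lc_f_rc_14_3 lc_f_rc_14_1 lc_f_rc_17_3 lc_f_rc_14_3 lc_f_rc_17_3 lc_f_rc_14_3 lc_f_rc_17_3 lc_f_rc_21_1 lc_f_rc_17_3 lc_f_rc_14_3 lc_f_rc_19_5 lc_f_rc_17_3 lc_f_rc_17_3 lc_f_rc_5_1 lc_f_rc_10_3 lc_f_rc_14_3 lc_f_rc_17_3 lc_f_rc_14_3 lc_f_rc_21_1 lc_f_rc_14_3 lc_f_rc_17_1 lc_f_rc_17_1 lc_f_rc_21_1 lc_f_rc_20_1 lc_f_rc_22_1 lc_f_rc_20_1 lc_f_rc_14_3 lc_f_rc_10_3 lc_f_rc_5_1 lc_f_rc_17_3 lc_f_rc_17_3 lc_f_rc_17_3 lc_f_rc_17_3 lc_f_rc_22_1 lc_f_rc_14_3 lc_f_rc_14_3 lc_f_rc_5_1 lc_f_rc_20_1 lc_f_rc_17_1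 lc_f_rc_10_3 lc_f_rc_17_3 lc_f_rc_17_3 lc_f_rc_20_1 lc_f_rc_21_1 lc_f_rc_20_1 lc_f_rc_14_1 lc_f_rc_17_3 lc_f_rc_17_3 lc_f_rc_10_1 lc_f_rc_14_3 lc_f_rc_17_1 lc_f_rc_17_3 lc_f_rc_14_1 lc_f_rc_20_1 lc_f_rc_17_3 lc_f_rc_20_1 lc_f_rc_14_1)
def ce_f_22 : D2 → D3 → (Cert rels S Gen.f) := @D2.rec (fun _ => D3 → (Cert rels S Gen.f)) (@D3.rec (fun _ => (Cert rels S Gen.f)) lc_f_rc_17_3 lc_f_rc_17_1 lc_f_rc_14_3 lc_f_rc_14_3 lc_f_rc_20_1 lc_f_rc_20_1 lc_f_rc_20_1 lc_f_rc_5_1 lc_f_rc_17_1 lc_f_rc_14_3 lc_f_rc_21_1 lc_f_rc_17_1 lc_f_rc_14_3 lc_f_rc_10_3 lc_f_rc_17_3 lc_f_rc_14_3 lc_f_rc_10_3 lc_f_rc_14_3 lc_f_rc_21_1 lc_f_rc_10_1 lc_f_rc_10_1 lc_f_rc_10_3 lc_f_rc_20_1 lc_f_rc_17_3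 lc_f_rc_10_1 lc_f_rc_10_3 lc_f_rc_10_1 lc_f_rc_17_3 lc_f_rc_22_1 lc_f_rc_21_1 lc_f_rc_21_1 lc_f_rc_20_1 lc_f_rc_20_1 lc_f_rc_21_1 lc_f_rc_17_3 lc_f_rc_17_3 lc_f_rc_17_3 lc_f_rc_14_3 lc_f_rc_17_3 lc_f_rc_5_3 lc_f_rc_17_3 lc_f_rc_21_1 lc_f_rc_14_3 lc_f_Cert_tree lc_f_rc_14_3 lc_f_Cert_tree lc_f_rc_21_1 lc_f_rc_21_1 lc_f_rc_14_3 lc_f_rc_19_3 lc_f_rc_21_1 lc_f_rc_20_1 lc_f_rc_10_1 lc_f_rc_10_3 lc_f_rc_20_1 lc_f_rc_17_1 lc_f_rc_14_3 lc_f_rc_14_3 lc_f_rc_17_3 lc_f_rc_17_3 lc_f_rc_19_1 lc_f_rc_14_3) (@D3.rec (fun _ => (Cert rels S Gen.f)) lc_f_rc_14_3 lc_f_Cert_tree lc_f_rc_17_3 lc_f_rc_17_3 lc_f_rc_20_1 lc_f_rc_10_3 lc_f_rc_17_3 lc_f_Cert_tree lc_f_rc_21_1 lc_f_rc_20_1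 lc_f_rc_20_1 lc_f_rc_14_3 lc_f_rc_10_3 lc_f_rc_14_1 lc_f_rc_14_3 lc_f_rc_21_1 lc_f_rc_14_3 lc_f_rc_17_3 lc_f_rc_17_3 lc_f_Cert_tree lc_f_rc_20_1 lc_f_rc_20_1 lc_f_Cert_tree lc_f_rc_19_5 lc_f_rc_17_3 lc_f_rc_20_1 lc_f_rc_14_3 lc_f_rc_14_3 lc_f_rc_14_3 lc_f_rc_10_1 lc_f_rc_14_3 lc_f_Cert_tree lc_f_Cert_tree lc_f_rc_21_1 lc_f_rc_5_1 lc_f_rc_10_1 lc_f_rc_20_1 lc_f_rc_19_3 lc_f_rc_19_1 lc_f_rc_21_1 lc_f_rc_10_1 lc_f_rc_14_3 lc_f_rc_5_3 lc_f_rc_10_3 lc_f_Cert_tree lc_f_rc_21_1 lc_f_rc_20_1 lc_f_rc_20_1 lc_f_rc_14_3 lc_f_rc_14_3 lc_f_rc_5_3 lc_f_rc_10_3 lc_f_rc_20_1 lc_f_rc_10_3 lc_f_rc_20_1 lc_f_rc_20_1 lc_f_rc_14_1 lc_f_rc_21_1 lc_f_rc_10_1 lc_f_rc_17_3 lc_f_rc_17_3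 lc_f_rc_21_1) (@D3.rec (fun _ => (Cert rels S Gen.f)) lc_f_rc_17_3 lc_f_rc_14_3 lc_f_rc_14_3 lc_f_rc_19_3 lc_f_rc_14_3 lc_f_rc_17_3 lc_f_rc_20_1 lc_f_rc_19_5 lc_f_rc_17_1 lc_f_rc_5_3 lc_f_rc_5_3 lc_f_rc_17_3 lc_f_rc_5_3 lc_f_rc_10_3 lc_f_rc_14_3 lc_f_rc_22_1 lc_f_rc_19_3 lc_f_rc_14_3 lc_f_rc_14_3 lc_f_Cert_tree lc_f_rc_17_1 lc_f_rc_20_1 lc_f_rc_14_1 lc_f_rc_21_1 lc_f_rc_19_5 lc_f_rc_10_3 lc_f_rc_19_1 lc_f_rc_17_3 lc_f_rc_10_1 lc_f_rc_17_1 lc_f_rc_5_3 lc_f_rc_19_1 lc_f_rc_10_3 lc_f_rc_21_1 lc_f_rc_10_1 lc_f_rc_14_3 lc_f_rc_10_3 lc_f_rc_19_3 lc_f_rc_17_1 lc_f_rc_17_3 lc_f_rc_10_3 lc_f_rc_10_3 lc_f_rc_17_1 lc_f_rc_21_1 lc_f_rc_21_1 lc_f_rc_10_1 lc_f_rc_5_1 lc_f_rc_17_3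 lc_f_rc_10_3 lc_f_rc_14_1 lc_f_rc_17_1 lc_f_rc_10_3 lc_f_rc_14_3 lc_f_rc_5_3 lc_f_rc_20_1 lc_f_rc_14_3 lc_f_rc_17_3 lc_f_rc_17_3 lc_f_rc_14_3 lc_f_rc_17_3 lc_f_rc_14_3 lc_f_rc_20_1) (@D3.rec (fun _ => (Cert rels S Gen.f)) lc_f_rc_10_3 lc_f_rc_19_5 lc_f_rc_10_1 lc_f_rc_22_1 lc_f_rc_14_3 lc_f_rc_10_1 lc_f_rc_21_1 lc_f_rc_17_3 lc_f_rc_14_1 lc_f_rc_10_3 lc_f_Cert_tree lc_f_rc_20_1 lc_f_rc_19_3 lc_f_rc_5_1 lc_f_rc_19_3 lc_f_rc_20_1 lc_f_rc_14_1 lc_f_rc_17_3 lc_f_rc_14_1 lc_f_rc_17_3 lc_f_rc_14_3 lc_f_rc_20_1 lc_f_rc_17_3 lc_f_rc_19_5 lc_f_rc_20_1 lc_f_rc_14_3 lc_f_rc_21_1 lc_f_rc_14_3 lc_f_rc_10_3 lc_f_rc_14_3 lc_f_rc_14_1 lc_f_rc_5_1 lc_f_rc_10_1 lc_f_rc_14_1 lc_f_rc_20_1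 lc_f_rc_17_1 lc_f_rc_5_1 lc_f_rc_10_1 lc_f_rc_17_1 lc_f_rc_17_3 lc_f_rc_17_3 lc_f_rc_17_1 lc_f_rc_17_3 lc_f_rc_17_1 lc_f_rc_14_3 lc_f_rc_19_1 lc_f_rc_20_1 lc_f_rc_19_3 lc_f_rc_19_1 lc_f_rc_10_1 lc_f_rc_14_3 lc_f_rc_10_3 lc_f_rc_5_3 lc_f_rc_14_3 lc_f_rc_10_1 lc_f_rc_20_1 lc_f_rc_20_1 lc_f_rc_10_3 lc_f_rc_21_1 lc_f_rc_14_3 lc_f_rc_5_3 lc_f_rc_14_3) (@D3.rec (fun _ => (Cert rels S Gen.f)) lc_f_rc_19_3 lc_f_rc_14_3 lc_f_rc_10_3 lc_f_rc_17_1 lc_f_rc_20_1 lc_f_rc_5_3 lc_f_rc_20_1 lc_f_rc_10_1 lc_f_rc_10_3 lc_f_rc_14_3 lc_f_rc_10_3 lc_f_rc_10_1 lc_f_rc_5_1 lc_f_rc_21_1 lc_f_rc_17_3 lc_f_rc_19_1 lc_f_rc_17_1 lc_f_rc_5_3 lc_f_rc_17_3 lc_f_Cert_tree lc_f_rc_14_1 lc_f_rc_19_3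 lc_f_rc_14_1 lc_f_rc_10_1 lc_f_rc_20_1 lc_f_rc_14_1 lc_f_rc_17_3 lc_f_rc_10_3 lc_f_rc_20_1 lc_f_rc_17_3 lc_f_rc_20_1 lc_f_rc_21_1 lc_f_rc_19_3 lc_f_rc_17_3 lc_f_rc_5_1 lc_f_rc_17_3 lc_f_rc_17_1 lc_f_rc_17_3 lc_f_rc_20_1 lc_f_rc_14_3 lc_f_Cert_tree lc_f_rc_5_3 lc_f_rc_20_1 lc_f_rc_14_3 lc_f_rc_20_1 lc_f_rc_19_1 lc_f_rc_17_3 lc_f_rc_14_3 lc_f_rc_14_1 lc_f_rc_17_3 lc_f_rc_17_1 lc_f_rc_5_1 lc_f_rc_17_3 lc_f_rc_17_3 lc_f_rc_19_1 lc_f_rc_21_1 lc_f_rc_20_1 lc_f_rc_20_1 lc_f_rc_14_3 lc_f_rc_22_1 lc_f_rc_22_1 lc_f_rc_14_3) (@D3.rec (fun _ => (Cert rels S Gen.f)) lc_f_rc_17_3 lc_f_rc_17_3 lc_f_rc_19_5 lc_f_rc_14_1 lc_f_rc_10_3 lc_f_rc_14_1 lc_f_rc_14_3 lc_f_rc_10_3 lc_f_rc_10_3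 lc_f_rc_5_1 lc_f_rc_5_3 lc_f_rc_10_3 lc_f_rc_14_1 lc_f_rc_14_3 lc_f_rc_14_3 lc_f_rc_10_3 lc_f_rc_22_1 lc_f_rc_20_1 lc_f_rc_20_1 lc_f_rc_5_3 lc_f_rc_20_1 lc_f_rc_19_3 lc_f_rc_5_3 lc_f_rc_10_1 lc_f_rc_5_3 lc_f_rc_17_3 lc_f_rc_14_3 lc_f_Cert_tree lc_f_rc_20_1 lc_f_rc_10_3 lc_f_rc_10_3 lc_f_rc_20_1 lc_f_rc_19_5 lc_f_rc_21_1 lc_f_rc_14_3 lc_f_rc_14_1 lc_f_rc_17_3 lc_f_rc_19_3 lc_f_rc_17_3 lc_f_rc_17_1 lc_f_rc_19_3 lc_f_rc_14_3 lc_f_rc_10_3 lc_f_rc_10_3 lc_f_rc_17_3 lc_f_rc_17_3 lc_f_rc_19_3 lc_f_rc_10_3 lc_f_rc_17_3 lc_f_rc_10_1 lc_f_rc_5_1 lc_f_rc_10_3 lc_f_rc_10_1 lc_f_rc_14_3 lc_f_rc_20_1 lc_f_rc_14_1 lc_f_rc_5_3 lc_f_rc_10_3 lc_f_rc_20_1 lc_f_rc_19_5 lc_f_rc_20_1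 lc_f_rc_17_3) (@D3.rec (fun _ => (Cert rels S Gen.f)) lc_f_rc_14_3 lc_f_rc_19_3 lc_f_rc_22_1 lc_f_rc_14_1 lc_f_rc_21_1 lc_f_rc_17_3 lc_f_rc_17_3 lc_f_rc_21_1 lc_f_rc_5_1 lc_f_rc_20_1 lc_f_rc_17_3 lc_f_rc_14_1 lc_f_rc_17_3 lc_f_rc_10_1 lc_f_rc_14_1 lc_f_rc_17_1 lc_f_rc_17_1 lc_f_rc_19_5 lc_f_rc_14_3 lc_f_rc_17_3 lc_f_rc_21_1 lc_f_rc_5_3 lc_f_rc_17_1 lc_f_rc_14_3 lc_f_rc_10_3 lc_f_rc_10_3 lc_f_rc_17_3 lc_f_rc_14_3 lc_f_rc_17_1 lc_f_rc_20_1 lc_f_rc_14_3 lc_f_rc_17_3 lc_f_rc_14_3 lc_f_rc_10_3 lc_f_rc_21_1 lc_f_rc_21_1 lc_f_rc_20_1 lc_f_Cert_tree lc_f_rc_20_1 lc_f_rc_22_1 lc_f_rc_14_3 lc_f_rc_14_1 lc_f_rc_19_3 lc_f_rc_5_3 lc_f_rc_21_1 lc_f_rc_14_3 lc_f_rc_21_1 lc_f_rc_17_3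 lc_f_rc_19_5 lc_f_rc_19_5 lc_f_rc_14_3 lc_f_Cert_tree lc_f_rc_20_1 lc_f_rc_10_1 lc_f_rc_17_3 lc_f_rc_21_1 lc_f_rc_14_3 lc_f_rc_5_1 lc_f_rc_14_3 lc_f_rc_19_3 lc_f_rc_19_3 lc_f_rc_19_3) (@D3.rec (fun _ => (Cert rels S Gen.f)) lc_f_rc_21_1 lc_f_rc_14_1 lc_f_rc_17_3 lc_f_rc_14_1 lc_f_rc_10_3 lc_f_rc_19_5 lc_f_rc_10_3 lc_f_rc_10_1 lc_f_rc_19_1 lc_f_rc_20_1 lc_f_rc_14_1 lc_f_rc_17_3 lc_f_rc_19_5 lc_f_rc_21_1 lc_f_Cert_tree lc_f_rc_20_1 lc_f_rc_19_5 lc_f_rc_10_3 lc_f_rc_5_3 lc_f_rc_19_1 lc_f_rc_17_3 lc_f_rc_10_3 lc_f_rc_17_3 lc_f_rc_14_3 lc_f_rc_20_1 lc_f_rc_10_3 lc_f_rc_17_3 lc_f_rc_17_3 lc_f_rc_20_1 lc_f_rc_17_3 lc_f_Cert_tree lc_f_rc_20_1 lc_f_rc_14_3 lc_f_rc_5_3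 lc_f_rc_14_3 lc_f_rc_17_1 lc_f_rc_10_3 lc_f_rc_17_1 lc_f_rc_17_1 lc_f_rc_10_3 lc_f_rc_17_1 lc_f_rc_21_1 lc_f_rc_17_3 lc_f_rc_17_3 lc_f_rc_20_1 lc_f_rc_14_3 lc_f_rc_20_1 lc_f_rc_17_1 lc_f_rc_14_3 lc_f_rc_14_1 lc_f_rc_22_1 lc_f_rc_14_3 lc_f_rc_17_1 lc_f_rc_22_1 lc_f_rc_10_3 lc_f_rc_14_3 lc_f_rc_14_3 lc_f_rc_20_1 lc_f_rc_17_1 lc_f_rc_17_3 lc_f_rc_17_3 lc_f_rc_19_3) (@D3.rec (fun _ => (Cert rels S Gen.f)) lc_f_rc_20_1 lc_f_rc_17_1 lc_f_rc_22_1 lc_f_rc_5_3 lc_f_rc_14_3 lc_f_rc_21_1 lc_f_rc_10_3 lc_f_rc_17_3 lc_f_rc_17_1 lc_f_rc_17_3 lc_f_rc_17_3 lc_f_rc_22_1 lc_f_rc_19_3 lc_f_rc_14_3 lc_f_rc_22_1 lc_f_rc_22_1 lc_f_rc_10_3 lc_f_rc_14_3 lc_f_rc_19_5 lc_f_rc_17_3 lc_f_rc_19_5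 lc_f_rc_10_3 lc_f_rc_21_1 lc_f_rc_5_1 lc_f_rc_17_3 lc_f_rc_10_3 lc_f_rc_19_5 lc_f_rc_19_5 lc_f_rc_17_1 lc_f_rc_20_1 lc_f_rc_17_3 lc_f_rc_21_1 lc_f_rc_5_3 lc_f_rc_17_1 lc_f_rc_21_1 lc_f_rc_14_3 lc_f_rc_22_1 lc_f_rc_10_1 lc_f_rc_21_1 lc_f_rc_14_3 lc_f_rc_17_1 lc_f_rc_14_3 lc_f_rc_14_3 lc_f_rc_17_3 lc_f_rc_5_1 lc_f_rc_14_3 lc_f_rc_19_3 lc_f_rc_19_3 lc_f_rc_14_3 lc_f_rc_10_3 lc_f_rc_17_1 lc_f_rc_10_3 lc_f_rc_20_1 lc_f_rc_21_1 lc_f_rc_20_1 lc_f_rc_20_1 lc_f_rc_14_3 lc_f_rc_20_1 lc_f_rc_10_1 lc_f_rc_14_3 lc_f_rc_20_1 lc_f_rc_14_3) (@D3.rec (fun _ => (Cert rels S Gen.f)) lc_f_rc_19_5 lc_f_rc_17_3 lc_f_rc_14_3 lc_f_rc_21_1 lc_f_rc_5_1 lc_f_rc_14_3 lc_f_rc_5_3 lc_f_rc_10_3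 lc_f_rc_10_1 lc_f_rc_17_3 lc_f_rc_17_3 lc_f_rc_17_3 lc_f_rc_14_1 lc_f_rc_17_3 lc_f_rc_20_1 lc_f_rc_10_3 lc_f_rc_20_1 lc_f_rc_20_1 lc_f_rc_5_3 lc_f_rc_17_3 lc_f_rc_20_1 lc_f_rc_21_1 lc_f_rc_14_1 lc_f_rc_20_1 lc_f_rc_17_3 lc_f_rc_17_1 lc_f_rc_17_3 lc_f_rc_14_3 lc_f_rc_14_3 lc_f_rc_21_1 lc_f_rc_14_3 lc_f_rc_20_1 lc_f_rc_10_1 lc_f_rc_5_1 lc_f_rc_22_1 lc_f_rc_21_1 lc_f_rc_19_1 lc_f_rc_14_3 lc_f_rc_17_1 lc_f_rc_17_1 lc_f_rc_17_1 lc_f_rc_5_1 lc_f_rc_10_1 lc_f_rc_20_1 lc_f_rc_17_3 lc_f_rc_17_3 lc_f_rc_17_3 lc_f_rc_14_1 lc_f_rc_10_3 lc_f_rc_5_3 lc_f_rc_21_1 lc_f_rc_17_3 lc_f_rc_17_3 lc_f_rc_19_1 lc_f_rc_19_1 lc_f_rc_17_1 lc_f_rc_10_3 lc_f_rc_10_3 lc_f_rc_14_1 lc_f_rc_17_1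 lc_f_rc_21_1 lc_f_rc_14_3) (@D3.rec (fun _ => (Cert rels S Gen.f)) lc_f_rc_21_1 lc_f_rc_10_3 lc_f_rc_20_1 lc_f_rc_19_3 lc_f_rc_14_1 lc_f_rc_14_3 lc_f_rc_21_1 lc_f_rc_17_1 lc_f_rc_17_3 lc_f_rc_19_5 lc_f_rc_20_1 lc_f_rc_5_3 lc_f_rc_17_3 lc_f_rc_17_3 lc_f_rc_20_1 lc_f_rc_5_1 lc_f_rc_14_3 lc_f_rc_17_1 lc_f_rc_14_3 lc_f_rc_17_3 lc_f_rc_20_1 lc_f_rc_14_3 lc_f_rc_14_1 lc_f_rc_10_3 lc_f_rc_14_3 lc_f_rc_20_1 lc_f_rc_14_1 lc_f_rc_20_1 lc_f_rc_20_1 lc_f_rc_10_3 lc_f_rc_20_1 lc_f_rc_22_1 lc_f_rc_20_1 lc_f_rc_10_3 lc_f_rc_22_1 lc_f_rc_19_1 lc_f_rc_10_3 lc_f_rc_14_3 lc_f_rc_10_3 lc_f_rc_17_3 lc_f_rc_17_3 lc_f_rc_10_3 lc_f_rc_22_1 lc_f_rc_19_3 lc_f_rc_21_1 lc_f_rc_20_1 lc_f_rc_21_1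 lc_f_rc_14_3 lc_f_rc_5_3 lc_f_rc_17_1 lc_f_rc_10_3 lc_f_rc_17_3 lc_f_rc_5_1 lc_f_rc_14_1 lc_f_rc_19_3 lc_f_rc_19_5 lc_f_rc_20_1 lc_f_rc_10_3 lc_f_rc_21_1 lc_f_rc_17_3 lc_f_rc_10_3 lc_f_rc_17_3) (@D3.rec (fun _ => (Cert rels S Gen.f)) lc_f_rc_19_1 lc_f_rc_10_1 lc_f_rc_20_1 lc_f_rc_10_3 lc_f_rc_17_1 lc_f_rc_10_1 lc_f_rc_20_1 lc_f_rc_17_3 lc_f_rc_10_3 lc_f_rc_14_3 lc_f_rc_14_1 lc_f_rc_10_3 lc_f_rc_17_3 lc_f_rc_17_3 lc_f_rc_10_3 lc_f_rc_5_3 lc_f_rc_21_1 lc_f_rc_14_1 lc_f_rc_20_1 lc_f_rc_17_3 lc_f_rc_17_1 lc_f_rc_10_3 lc_f_rc_17_1 lc_f_rc_17_1 lc_f_rc_20_1 lc_f_rc_21_1 lc_f_rc_14_1 lc_f_rc_10_3 lc_f_rc_20_1 lc_f_rc_21_1 lc_f_rc_5_3 lc_f_rc_20_1 lc_f_rc_20_1 lc_f_rc_5_1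 lc_f_rc_10_1 lc_f_rc_14_3 lc_f_rc_14_1 lc_f_rc_14_3 lc_f_rc_14_3 lc_f_rc_10_3 lc_f_rc_17_3 lc_f_rc_5_3 lc_f_rc_20_1 lc_f_rc_19_1 lc_f_rc_17_1 lc_f_rc_20_1 lc_f_rc_21_1 lc_f_rc_10_1 lc_f_rc_5_1 lc_f_rc_20_1 lc_f_rc_5_3 lc_f_rc_10_3 lc_f_rc_14_3 lc_f_rc_14_3 lc_f_rc_19_3 lc_f_rc_14_1 lc_f_rc_21_1 lc_f_rc_21_1 lc_f_rc_14_3 lc_f_rc_17_3 lc_f_rc_19_3 lc_f_rc_17_3) (@D3.rec (fun _ => (Cert rels S Gen.f)) lc_f_rc_14_3 lc_f_rc_5_3 lc_f_rc_14_3 lc_f_rc_14_3 lc_f_rc_14_1 lc_f_rc_17_1 lc_f_rc_19_1 lc_f_rc_19_5 lc_f_rc_10_3 lc_f_rc_20_1 lc_f_rc_5_3 lc_f_rc_10_3 lc_f_rc_20_1 lc_f_rc_10_3 lc_f_rc_20_1 lc_f_rc_19_1 lc_f_rc_21_1 lc_f_rc_20_1 lc_f_rc_5_3 lc_f_rc_5_3 lc_f_rc_17_3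 lc_f_rc_10_3 lc_f_rc_14_3 lc_f_rc_5_3 lc_f_rc_5_1 lc_f_rc_21_1 lc_f_rc_20_1 lc_f_rc_19_3 lc_f_rc_10_3 lc_f_rc_19_5 lc_f_rc_14_3 lc_f_rc_21_1 lc_f_rc_17_3 lc_f_Cert_tree lc_f_rc_20_1 lc_f_rc_14_3 lc_f_rc_14_3 lc_f_rc_5_3 lc_f_rc_17_3 lc_f_rc_14_3 lc_f_rc_10_3 lc_f_rc_14_3 lc_f_rc_19_3 lc_f_rc_5_1 lc_f_rc_14_3 lc_f_rc_17_3 lc_f_rc_5_1 lc_f_rc_14_3 lc_f_rc_17_1 lc_f_rc_17_1 lc_f_rc_14_1 lc_f_rc_20_1 lc_f_rc_14_3 lc_f_Cert_tree lc_f_rc_17_1 lc_f_rc_19_1 lc_f_rc_10_3 lc_f_rc_14_3 lc_f_Cert_tree lc_f_rc_17_3 lc_f_rc_17_3 lc_f_rc_14_3) (@D3.rec (fun _ => (Cert rels S Gen.f)) lc_f_rc_10_3 lc_f_rc_5_1 lc_f_rc_17_3 lc_f_rc_10_3 lc_f_rc_14_3 lc_f_rc_17_3 lc_f_rc_17_3 lc_f_rc_17_3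 lc_f_rc_10_1 lc_f_rc_21_1 lc_f_rc_14_3 lc_f_rc_10_3 lc_f_rc_17_1 lc_f_rc_21_1 lc_f_rc_17_1 lc_f_rc_17_3 lc_f_rc_5_3 lc_f_rc_20_1 lc_f_rc_21_1 lc_f_rc_14_3 lc_f_Cert_tree lc_f_rc_20_1 lc_f_rc_17_3 lc_f_rc_17_3 lc_f_Cert_tree lc_f_rc_5_3 lc_f_rc_14_3 lc_f_rc_10_3 lc_f_rc_5_3 lc_f_rc_17_3 lc_f_rc_14_3 lc_f_rc_20_1 lc_f_rc_20_1 lc_f_rc_5_1 lc_f_rc_21_1 lc_f_rc_17_3 lc_f_rc_14_3 lc_f_rc_14_3 lc_f_rc_21_1 lc_f_rc_14_3 lc_f_rc_17_3 lc_f_rc_14_3 lc_f_Cert_tree lc_f_rc_5_3 lc_f_rc_10_3 lc_f_rc_19_5 lc_f_rc_17_3 lc_f_rc_17_1 lc_f_rc_5_1 lc_f_rc_14_3 lc_f_rc_10_3 lc_f_rc_10_3 lc_f_rc_19_3 lc_f_rc_10_3 lc_f_Cert_tree lc_f_rc_21_1 lc_f_rc_5_1 lc_f_rc_10_3 lc_f_rc_20_1 lc_f_rc_19_3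 lc_f_rc_19_3 lc_f_rc_17_3) (@D3.rec (fun _ => (Cert rels S Gen.f)) lc_f_rc_14_3 lc_f_rc_17_3 lc_f_rc_10_3 lc_f_rc_17_3 lc_f_rc_14_1 lc_f_rc_17_3 lc_f_rc_21_1 lc_f_rc_14_3 lc_f_rc_17_3 lc_f_rc_17_3 lc_f_rc_22_1 lc_f_Cert_tree lc_f_rc_10_3 lc_f_rc_5_1 lc_f_Cert_tree lc_f_rc_14_3 lc_f_rc_21_1 lc_f_rc_19_5 lc_f_rc_21_1 lc_f_rc_10_3 lc_f_rc_20_1 lc_f_rc_10_3 lc_f_rc_10_3 lc_f_rc_17_1 lc_f_rc_10_3 lc_f_rc_14_3 lc_f_rc_14_3 lc_f_rc_19_5 lc_f_rc_10_3 lc_f_rc_14_3 lc_f_rc_14_3 lc_f_rc_14_3 lc_f_rc_20_1 lc_f_rc_10_1 lc_f_rc_14_3 lc_f_rc_10_3 lc_f_rc_10_3 lc_f_rc_10_3 lc_f_rc_14_1 lc_f_rc_21_1 lc_f_rc_20_1 lc_f_rc_17_1 lc_f_rc_14_1 lc_f_rc_10_1 lc_f_rc_17_1 lc_f_rc_10_1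 lc_f_rc_19_3 lc_f_rc_20_1 lc_f_rc_14_3 lc_f_rc_5_1 lc_f_rc_14_1 lc_f_rc_14_3 lc_f_rc_22_1 lc_f_rc_10_3 lc_f_rc_14_3 lc_f_rc_20_1 lc_f_rc_21_1 lc_f_rc_19_5 lc_f_rc_14_1 lc_f_rc_17_1 lc_f_rc_17_1 lc_f_rc_17_3) (@D3.rec (fun _ => (Cert rels S Gen.f)) lc_f_rc_14_3 lc_f_rc_20_1 lc_f_rc_19_5 lc_f_rc_19_1 lc_f_rc_10_3 lc_f_rc_22_1 lc_f_rc_5_3 lc_f_rc_20_1 lc_f_rc_14_1 lc_f_rc_17_3 lc_f_rc_17_1 lc_f_rc_21_1 lc_f_rc_14_3 lc_f_rc_19_1 lc_f_Cert_tree lc_f_rc_20_1 lc_f_rc_22_1 lc_f_rc_14_3 lc_f_rc_10_3 lc_f_rc_10_3 lc_f_rc_22_1 lc_f_rc_20_1 lc_f_rc_19_3 lc_f_rc_10_3 lc_f_rc_10_3 lc_f_rc_14_3 lc_f_rc_14_3 lc_f_rc_10_3 lc_f_rc_5_1 lc_f_rc_21_1 lc_f_rc_17_1 lc_f_rc_14_3 lc_f_rc_10_3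 lc_f_rc_21_1 lc_f_rc_14_3 lc_f_rc_14_3 lc_f_rc_5_3 lc_f_rc_5_3 lc_f_rc_17_1 lc_f_rc_21_1 lc_f_Cert_tree lc_f_rc_20_1 lc_f_rc_5_3 lc_f_rc_5_3 lc_f_rc_14_1 lc_f_rc_17_3 lc_f_rc_19_5 lc_f_rc_21_1 lc_f_rc_19_5 lc_f_rc_21_1 lc_f_rc_20_1 lc_f_rc_14_3 lc_f_rc_5_1 lc_f_rc_20_1 lc_f_rc_10_3 lc_f_rc_21_1 lc_f_rc_17_3 lc_f_rc_5_1 lc_f_rc_21_1 lc_f_rc_21_1 lc_f_rc_10_3 lc_f_rc_17_3) (@D3.rec (fun _ => (Cert rels S Gen.f)) lc_f_rc_17_3 lc_f_rc_21_1 lc_f_rc_17_3 lc_f_rc_14_1 lc_f_rc_22_1 lc_f_rc_19_3 lc_f_rc_17_1 lc_f_rc_17_3 lc_f_rc_20_1 lc_f_rc_5_3 lc_f_rc_14_1 lc_f_rc_10_3 lc_f_rc_20_1 lc_f_rc_17_3 lc_f_rc_21_1 lc_f_rc_17_3 lc_f_rc_5_3 lc_f_rc_21_1 lc_f_rc_20_1 lc_f_Cert_tree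 lc_f_rc_20_1 lc_f_rc_17_3 lc_f_rc_14_3 lc_f_rc_10_3 lc_f_rc_17_3 lc_f_rc_17_3 lc_f_rc_17_3 lc_f_rc_17_3 lc_f_rc_14_1 lc_f_rc_14_3 lc_f_rc_10_3 lc_f_rc_14_1 lc_f_rc_14_3 lc_f_rc_14_3 lc_f_rc_14_3 lc_f_rc_14_1 lc_f_rc_20_1 lc_f_rc_10_3 lc_f_rc_10_3 lc_f_rc_10_3 lc_f_rc_5_1 lc_f_rc_14_3 lc_f_rc_14_3 lc_f_rc_17_3 lc_f_rc_14_3 lc_f_rc_14_3 lc_f_rc_14_1 lc_f_Cert_tree lc_f_rc_5_3 lc_f_rc_14_3 lc_f_rc_10_1 lc_f_rc_22_1 lc_f_rc_20_1 lc_f_rc_19_3 lc_f_rc_14_3 lc_f_rc_5_3 lc_f_rc_21_1 lc_f_rc_17_3 lc_f_rc_14_1 lc_f_Cert_tree lc_f_rc_20_1 lc_f_rc_20_1) (@D3.rec (fun _ => (Cert rels S Gen.f)) lc_f_rc_10_3 lc_f_rc_17_3 lc_f_rc_14_1 lc_f_rc_14_3 lc_f_rc_20_1 lc_f_rc_21_1 lc_f_rc_19_1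 lc_f_rc_21_1 lc_f_rc_20_1 lc_f_rc_10_1 lc_f_rc_20_1 lc_f_rc_14_1 lc_f_Cert_tree lc_f_rc_10_3 lc_f_rc_14_1 lc_f_rc_17_3 lc_f_rc_19_5 lc_f_rc_20_1 lc_f_rc_17_1 lc_f_rc_5_3 lc_f_rc_21_1 lc_f_rc_17_3 lc_f_rc_20_1 lc_f_rc_10_3 lc_f_rc_17_3 lc_f_rc_19_5 lc_f_rc_5_1 lc_f_rc_17_1 lc_f_rc_20_1 lc_f_rc_19_3 lc_f_rc_19_1 lc_f_rc_17_1 lc_f_rc_17_3 lc_f_rc_14_3 lc_f_rc_17_3 lc_f_rc_10_3 lc_f_rc_17_3 lc_f_rc_14_1 lc_f_rc_20_1 lc_f_rc_21_1 lc_f_rc_20_1 lc_f_rc_10_3 lc_f_rc_10_1 lc_f_rc_17_3 lc_f_rc_14_3 lc_f_rc_17_3 lc_f_rc_17_3 lc_f_rc_10_3 lc_f_rc_14_3 lc_f_rc_10_3 lc_f_rc_5_1 lc_f_rc_17_3 lc_f_rc_17_3 lc_f_rc_17_3 lc_f_rc_17_3 lc_f_rc_20_1 lc_f_rc_17_3 lc_f_rc_19_3 lc_f_rc_17_1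 lc_f_rc_20_1 lc_f_rc_20_1 lc_f_Cert_tree) (@D3.rec (fun _ => (Cert rels S Gen.f)) lc_f_rc_20_1 lc_f_rc_21_1 lc_f_rc_20_1 lc_f_rc_19_3 lc_f_rc_22_1 lc_f_rc_20_1 lc_f_rc_5_3 lc_f_Cert_tree lc_f_rc_5_3 lc_f_rc_14_3 lc_f_rc_20_1 lc_f_rc_14_3 lc_f_rc_14_3 lc_f_rc_19_3 lc_f_rc_22_1 lc_f_rc_20_1 lc_f_rc_17_3 lc_f_rc_19_3 lc_f_rc_10_1 lc_f_rc_17_3 lc_f_rc_10_3 lc_f_rc_14_3 lc_f_rc_14_3 lc_f_rc_14_3 lc_f_rc_20_1 lc_f_rc_21_1 lc_f_rc_20_1 lc_f_rc_17_3 lc_f_rc_17_3 lc_f_rc_17_1 lc_f_rc_20_1 lc_f_rc_20_1 lc_f_rc_20_1 lc_f_rc_17_3 lc_f_rc_5_3 lc_f_rc_5_1 lc_f_rc_17_3 lc_f_rc_21_1 lc_f_rc_20_1 lc_f_rc_21_1 lc_f_rc_14_1 lc_f_rc_20_1 lc_f_rc_22_1 lc_f_rc_10_3 lc_f_rc_20_1 lc_f_rc_17_3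 lc_f_rc_20_1 lc_f_rc_10_3 lc_f_rc_14_1 lc_f_rc_19_3 lc_f_rc_10_3 lc_f_rc_14_1 lc_f_rc_21_1 lc_f_rc_20_1 lc_f_rc_10_3 lc_f_rc_17_3 lc_f_rc_5_3 lc_f_rc_10_3 lc_f_Cert_tree lc_f_rc_5_1 lc_f_rc_21_1 lc_f_rc_20_1) (@D3.rec (fun _ => (Cert rels S Gen.f)) lc_f_rc_17_3 lc_f_rc_17_3 lc_f_rc_14_3 lc_f_rc_5_3 lc_f_rc_5_1 lc_f_rc_14_3 lc_f_Cert_tree lc_f_rc_20_1 lc_f_rc_20_1 lc_f_rc_17_3 lc_f_rc_10_3 lc_f_rc_22_1 lc_f_rc_20_1 lc_f_rc_20_1 lc_f_Cert_tree lc_f_rc_10_3 lc_f_rc_14_3 lc_f_rc_14_1 lc_f_rc_19_5 lc_f_rc_21_1 lc_f_rc_19_5 lc_f_Cert_tree lc_f_rc_20_1 lc_f_rc_21_1 lc_f_rc_17_3 lc_f_rc_17_3 lc_f_rc_17_3 lc_f_rc_17_3 lc_f_rc_10_3 lc_f_rc_17_3 lc_f_rc_10_3 lc_f_rc_17_3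 lc_f_rc_14_3 lc_f_rc_19_1 lc_f_rc_10_3 lc_f_rc_19_3 lc_f_rc_10_3 lc_f_rc_17_3 lc_f_rc_19_3 lc_f_rc_10_3 lc_f_rc_14_1 lc_f_rc_5_3 lc_f_rc_19_3 lc_f_rc_17_3 lc_f_rc_17_3 lc_f_rc_10_3 lc_f_rc_17_3 lc_f_rc_10_1 lc_f_rc_5_3 lc_f_rc_14_3 lc_f_rc_19_3 lc_f_rc_17_3 lc_f_rc_17_3 lc_f_rc_17_3 lc_f_rc_14_1 lc_f_rc_10_3 lc_f_rc_10_3 lc_f_rc_10_3 lc_f_rc_10_1 lc_f_rc_21_1 lc_f_rc_17_3 lc_f_rc_17_3) (@D3.rec (fun _ => (Cert rels S Gen.f)) lc_f_rc_20_1 lc_f_Cert_tree lc_f_rc_5_3 lc_f_rc_17_1 lc_f_rc_10_3 lc_f_rc_21_1 lc_f_rc_17_3 lc_f_rc_20_1 lc_f_rc_17_3 lc_f_Cert_tree lc_f_rc_17_3 lc_f_rc_14_3 lc_f_rc_20_1 lc_f_rc_20_1 lc_f_rc_20_1 lc_f_rc_20_1 lc_f_rc_5_3 lc_f_rc_14_1 lc_f_rc_20_1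 lc_f_rc_19_1 lc_f_rc_17_3 lc_f_rc_10_3 lc_f_Cert_tree lc_f_rc_19_3 lc_f_rc_17_3 lc_f_rc_14_3 lc_f_Cert_tree lc_f_rc_14_3 lc_f_rc_17_3 lc_f_Cert_tree lc_f_rc_20_1 lc_f_rc_19_3 lc_f_rc_20_1 lc_f_rc_20_1 lc_f_rc_5_1 lc_f_rc_10_3 lc_f_rc_14_3 lc_f_Cert_tree lc_f_rc_21_1 lc_f_rc_19_1 lc_f_rc_10_3 lc_f_rc_20_1 lc_f_rc_10_3 lc_f_rc_20_1 lc_f_rc_21_1 lc_f_rc_17_1 lc_f_rc_20_1 lc_f_rc_14_3 lc_f_rc_5_3 lc_f_Cert_tree lc_f_rc_10_3 lc_f_rc_21_1 lc_f_rc_14_1 lc_f_rc_20_1 lc_f_rc_21_1 lc_f_rc_10_3 lc_f_rc_10_3 lc_f_rc_10_3 lc_f_rc_20_1 lc_f_rc_10_3 lc_f_rc_21_1 lc_f_rc_14_3) (@D3.rec (fun _ => (Cert rels S Gen.f)) lc_f_rc_20_1 lc_f_rc_14_1 lc_f_rc_17_3 lc_f_rc_17_3 lc_f_rc_20_1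 lc_f_rc_17_1 lc_f_rc_20_1 lc_f_rc_5_1 lc_f_rc_5_1 lc_f_rc_20_1 lc_f_rc_17_1 lc_f_rc_20_1 lc_f_rc_22_1 lc_f_rc_20_1 lc_f_rc_17_3 lc_f_rc_14_1 lc_f_rc_17_3 lc_f_rc_17_3 lc_f_rc_14_1 lc_f_rc_20_1 lc_f_rc_10_3 lc_f_rc_5_1 lc_f_rc_17_3 lc_f_rc_19_5 lc_f_rc_22_1 lc_f_rc_20_1 lc_f_rc_19_3 lc_f_rc_17_3 lc_f_rc_20_1 lc_f_rc_20_1 lc_f_rc_21_1 lc_f_rc_14_1 lc_f_rc_14_3 lc_f_rc_17_3 lc_f_rc_20_1 lc_f_rc_20_1 lc_f_Cert_tree lc_f_rc_14_3 lc_f_rc_14_3 lc_f_rc_22_1 lc_f_rc_22_1 lc_f_rc_20_1 lc_f_rc_17_3 lc_f_rc_14_3 lc_f_rc_14_3 lc_f_rc_19_3 lc_f_rc_20_1 lc_f_Cert_tree lc_f_rc_17_3 lc_f_rc_10_3 lc_f_rc_19_3 lc_f_rc_19_1 lc_f_rc_19_1 lc_f_rc_20_1 lc_f_rc_20_1 lc_f_rc_5_3 lc_f_rc_14_3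 lc_f_rc_10_3 lc_f_Cert_tree lc_f_rc_21_1 lc_f_rc_20_1 lc_f_rc_19_5) (@D3.rec (fun _ => (Cert rels S Gen.f)) lc_f_rc_20_1 lc_f_rc_10_1 lc_f_rc_17_3 lc_f_Cert_tree lc_f_rc_22_1 lc_f_rc_20_1 lc_f_rc_14_1 lc_f_rc_14_3 lc_f_Cert_tree lc_f_rc_21_1 lc_f_rc_20_1 lc_f_rc_20_1 lc_f_rc_10_3 lc_f_rc_5_1 lc_f_rc_17_3 lc_f_rc_5_1 lc_f_rc_20_1 lc_f_rc_5_3 lc_f_rc_19_3 lc_f_rc_14_1 lc_f_rc_21_1 lc_f_rc_20_1 lc_f_rc_5_1 lc_f_rc_10_3 lc_f_rc_17_3 lc_f_rc_20_1 lc_f_rc_5_3 lc_f_rc_14_3 lc_f_rc_20_1 lc_f_rc_20_1 lc_f_rc_19_3 lc_f_rc_5_3 lc_f_rc_17_1 lc_f_rc_19_3 lc_f_rc_20_1 lc_f_rc_5_3 lc_f_rc_17_1 lc_f_rc_14_1 lc_f_Cert_tree lc_f_rc_17_3 lc_f_rc_17_3 lc_f_rc_14_3 lc_f_rc_17_3 lc_f_rc_14_3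 lc_f_Cert_tree lc_f_rc_17_3 lc_f_rc_17_3 lc_f_rc_10_1 lc_f_rc_17_3 lc_f_rc_17_1 lc_f_rc_10_3 lc_f_rc_10_3 lc_f_rc_14_3 lc_f_Cert_tree lc_f_rc_14_3 lc_f_rc_20_1 lc_f_Cert_tree lc_f_rc_20_1 lc_f_rc_20_1 lc_f_rc_19_3 lc_f_rc_21_1 lc_f_rc_19_3) (@D3.rec (fun _ => (Cert rels S Gen.f)) lc_f_rc_19_3 lc_f_rc_10_3 lc_f_Cert_tree lc_f_rc_20_1 lc_f_rc_17_3 lc_f_rc_17_3 lc_f_rc_17_3 lc_f_rc_14_3 lc_f_rc_5_1 lc_f_rc_19_5 lc_f_rc_5_1 lc_f_rc_17_3 lc_f_rc_14_3 lc_f_rc_14_1 lc_f_rc_20_1 lc_f_rc_14_3 lc_f_rc_19_3 lc_f_rc_14_3 lc_f_rc_14_3 lc_f_rc_20_1 lc_f_rc_14_3 lc_f_rc_5_3 lc_f_rc_14_3 lc_f_rc_14_3 lc_f_rc_21_1 lc_f_rc_14_3 lc_f_rc_14_3 lc_f_rc_14_3 lc_f_rc_19_3 lc_f_rc_17_1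 lc_f_rc_20_1 lc_f_rc_19_1 lc_f_rc_17_1 lc_f_Cert_tree lc_f_rc_17_3 lc_f_rc_21_1 lc_f_rc_17_3 lc_f_rc_10_3 lc_f_rc_10_3 lc_f_rc_14_3 lc_f_rc_10_3 lc_f_rc_19_3 lc_f_rc_17_1 lc_f_rc_10_3 lc_f_rc_22_1 lc_f_rc_19_3 lc_f_rc_10_3 lc_f_rc_10_3 lc_f_rc_19_5 lc_f_rc_5_3 lc_f_rc_17_1 lc_f_rc_17_1 lc_f_rc_22_1 lc_f_rc_22_1 lc_f_rc_17_1 lc_f_rc_20_1 lc_f_rc_21_1 lc_f_rc_14_1 lc_f_rc_10_3 lc_f_rc_17_3 lc_f_rc_19_5 lc_f_rc_14_1) (@D3.rec (fun _ => (Cert rels S Gen.f)) lc_f_rc_14_1 lc_f_rc_10_3 lc_f_rc_10_3 lc_f_rc_19_5 lc_f_rc_10_3 lc_f_rc_5_1 lc_f_rc_20_1 lc_f_rc_20_1 lc_f_rc_17_3 lc_f_rc_20_1 lc_f_rc_14_3 lc_f_rc_14_3 lc_f_Cert_tree lc_f_rc_10_3 lc_f_Cert_tree lc_f_rc_14_3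 lc_f_rc_20_1 lc_f_rc_10_3 lc_f_rc_17_1 lc_f_rc_14_3 lc_f_rc_17_3 lc_f_rc_21_1 lc_f_rc_14_3 lc_f_rc_17_1 lc_f_rc_21_1 lc_f_rc_5_3 lc_f_rc_17_3 lc_f_rc_14_3 lc_f_rc_14_3 lc_f_rc_19_3 lc_f_rc_14_3 lc_f_rc_20_1 lc_f_rc_10_3 lc_f_rc_14_3 lc_f_rc_19_3 lc_f_rc_21_1 lc_f_rc_21_1 lc_f_rc_21_1 lc_f_rc_14_3 lc_f_rc_10_1 lc_f_rc_17_3 lc_f_Cert_tree lc_f_rc_5_3 lc_f_rc_17_1 lc_f_rc_20_1 lc_f_rc_21_1 lc_f_rc_21_1 lc_f_rc_17_3 lc_f_rc_10_1 lc_f_rc_10_3 lc_f_rc_19_5 lc_f_rc_22_1 lc_f_rc_21_1 lc_f_rc_10_1 lc_f_rc_10_3 lc_f_rc_14_1 lc_f_rc_5_3 lc_f_rc_17_3 lc_f_rc_14_3 lc_f_rc_17_3 lc_f_rc_10_3 lc_f_rc_22_1) (@D3.rec (fun _ => (Cert rels S Gen.f)) lc_f_rc_14_1 lc_f_rc_20_1 lc_f_rc_21_1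 lc_f_rc_20_1 lc_f_rc_19_3 lc_f_rc_20_1 lc_f_rc_10_3 lc_f_rc_17_3 lc_f_rc_20_1 lc_f_rc_17_3 lc_f_rc_17_1 lc_f_rc_5_3 lc_f_rc_14_3 lc_f_rc_21_1 lc_f_rc_14_3 lc_f_rc_19_5 lc_f_rc_20_1 lc_f_rc_10_3 lc_f_rc_19_3 lc_f_rc_10_1 lc_f_rc_17_3 lc_f_rc_17_1 lc_f_rc_19_3 lc_f_rc_19_3 lc_f_rc_20_1 lc_f_rc_10_3 lc_f_rc_10_3 lc_f_rc_10_3 lc_f_rc_17_3 lc_f_rc_17_3 lc_f_rc_14_1 lc_f_rc_19_1 lc_f_rc_14_1 lc_f_rc_20_1 lc_f_rc_17_3 lc_f_rc_17_1 lc_f_rc_5_3 lc_f_rc_14_1 lc_f_rc_17_3 lc_f_rc_17_3 lc_f_rc_10_1 lc_f_Cert_tree lc_f_rc_20_1 lc_f_rc_5_3 lc_f_rc_20_1 lc_f_rc_10_1 lc_f_rc_17_3 lc_f_rc_5_3 lc_f_rc_21_1 lc_f_rc_20_1 lc_f_rc_22_1 lc_f_rc_19_5 lc_f_rc_17_3 lc_f_rc_5_3 lc_f_rc_14_3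 lc_f_rc_14_1 lc_f_rc_10_1 lc_f_rc_17_3 lc_f_rc_10_1 lc_f_rc_17_3 lc_f_rc_14_1 lc_f_rc_21_1) (@D3.rec (fun _ => (Cert rels S Gen.f)) lc_f_rc_19_5 lc_f_rc_10_3 lc_f_rc_17_3 lc_f_rc_14_3 lc_f_rc_21_1 lc_f_rc_14_1 lc_f_rc_21_1 lc_f_rc_22_1 lc_f_rc_10_1 lc_f_rc_10_1 lc_f_rc_17_3 lc_f_rc_21_1 lc_f_rc_5_3 lc_f_rc_17_3 lc_f_rc_5_1 lc_f_rc_14_1 lc_f_rc_19_3 lc_f_rc_10_3 lc_f_rc_14_3 lc_f_rc_20_1 lc_f_rc_21_1 lc_f_rc_5_3 lc_f_rc_5_1 lc_f_rc_17_3 lc_f_rc_17_1 lc_f_rc_5_3 lc_f_rc_14_3 lc_f_Cert_tree lc_f_rc_17_3 lc_f_rc_14_3 lc_f_rc_20_1 lc_f_rc_21_1 lc_f_rc_14_3 lc_f_rc_5_1 lc_f_rc_22_1 lc_f_rc_14_1 lc_f_rc_20_1 lc_f_rc_21_1 lc_f_rc_10_1 lc_f_Cert_tree lc_f_rc_20_1 lc_f_rc_21_1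 lc_f_rc_20_1 lc_f_rc_10_3 lc_f_rc_10_3 lc_f_rc_21_1 lc_f_rc_10_3 lc_f_rc_17_3 lc_f_rc_20_1 lc_f_rc_21_1 lc_f_rc_5_3 lc_f_rc_10_3 lc_f_rc_5_1 lc_f_rc_14_1 lc_f_rc_17_3 lc_f_rc_19_1 lc_f_rc_21_1 lc_f_rc_10_3 lc_f_rc_20_1 lc_f_rc_14_1 lc_f_rc_20_1 lc_f_Cert_tree) (@D3.rec (fun _ => (Cert rels S Gen.f)) lc_f_rc_19_3 lc_f_rc_17_3 lc_f_rc_20_1 lc_f_rc_10_3 lc_f_rc_19_1 lc_f_rc_10_1 lc_f_rc_17_3 lc_f_rc_20_1 lc_f_rc_10_3 lc_f_rc_5_3 lc_f_rc_19_3 lc_f_rc_17_3 lc_f_rc_17_3 lc_f_rc_20_1 lc_f_rc_21_1 lc_f_rc_5_1 lc_f_rc_10_1 lc_f_Cert_tree lc_f_rc_20_1 lc_f_rc_10_1 lc_f_rc_14_1 lc_f_rc_5_3 lc_f_Cert_tree lc_f_rc_14_1 lc_f_Cert_tree lc_f_rc_17_3 lc_f_rc_17_3 lc_f_rc_5_3 lc_f_rc_19_3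 lc_f_rc_20_1 lc_f_rc_19_5 lc_f_rc_20_1 lc_f_rc_20_1 lc_f_rc_5_3 lc_f_rc_14_3 lc_f_rc_14_1 lc_f_rc_10_3 lc_f_rc_14_1 lc_f_rc_22_1 lc_f_rc_17_3 lc_f_rc_21_1 lc_f_rc_19_3 lc_f_rc_17_3 lc_f_rc_14_3 lc_f_rc_14_1 lc_f_rc_19_3 lc_f_rc_10_1 lc_f_rc_5_3 lc_f_rc_21_1 lc_f_rc_20_1 lc_f_rc_20_1 lc_f_rc_14_3 lc_f_rc_10_3 lc_f_rc_5_3 lc_f_rc_14_3 lc_f_rc_5_1 lc_f_rc_19_1 lc_f_rc_14_3 lc_f_rc_10_1 lc_f_rc_5_3 lc_f_rc_17_3 lc_f_rc_14_3) (@D3.rec (fun _ => (Cert rels S Gen.f)) lc_f_Cert_tree lc_f_rc_20_1 lc_f_rc_21_1 lc_f_rc_20_1 lc_f_rc_19_5 lc_f_rc_19_1 lc_f_rc_21_1 lc_f_rc_22_1 lc_f_rc_14_1 lc_f_rc_10_3 lc_f_rc_20_1 lc_f_rc_10_3 lc_f_rc_5_3 lc_f_rc_14_3 lc_f_rc_10_1 lc_f_rc_21_1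 lc_f_rc_20_1 lc_f_rc_14_3 lc_f_rc_22_1 lc_f_rc_19_3 lc_f_rc_10_3 lc_f_rc_5_3 lc_f_rc_14_3 lc_f_rc_21_1 lc_f_rc_20_1 lc_f_rc_10_1 lc_f_rc_21_1 lc_f_rc_5_1 lc_f_rc_19_3 lc_f_rc_14_3 lc_f_rc_17_1 lc_f_rc_20_1 lc_f_rc_19_3 lc_f_rc_5_3 lc_f_rc_19_5 lc_f_rc_10_3 lc_f_rc_17_3 lc_f_rc_5_1 lc_f_rc_10_3 lc_f_rc_10_3 lc_f_rc_10_3 lc_f_rc_21_1 lc_f_rc_10_3 lc_f_rc_14_3 lc_f_rc_10_3 lc_f_rc_17_3 lc_f_rc_5_1 lc_f_rc_5_3 lc_f_rc_14_3 lc_f_rc_17_3 lc_f_rc_21_1 lc_f_rc_20_1 lc_f_rc_17_3 lc_f_rc_14_3 lc_f_rc_17_3 lc_f_rc_17_1 lc_f_rc_20_1 lc_f_rc_21_1 lc_f_rc_20_1 lc_f_rc_10_1 lc_f_rc_14_3 lc_f_rc_19_3) (@D3.rec (fun _ => (Cert rels S Gen.f)) lc_f_rc_5_3 lc_f_rc_17_3 lc_f_rc_20_1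 lc_f_rc_10_3 lc_f_rc_14_3 lc_f_rc_17_3 lc_f_rc_10_1 lc_f_rc_5_3 lc_f_rc_21_1 lc_f_rc_20_1 lc_f_rc_17_3 lc_f_rc_17_3 lc_f_rc_14_1 lc_f_rc_19_3 lc_f_rc_19_5 lc_f_rc_21_1 lc_f_rc_20_1 lc_f_rc_20_1 lc_f_rc_20_1 lc_f_rc_21_1 lc_f_rc_19_1 lc_f_rc_17_3 lc_f_rc_14_3 lc_f_rc_20_1 lc_f_rc_20_1 lc_f_rc_14_3 lc_f_rc_20_1 lc_f_rc_21_1 lc_f_rc_20_1 lc_f_rc_17_1 lc_f_rc_14_3 lc_f_rc_17_3 lc_f_rc_21_1 lc_f_rc_17_1 lc_f_rc_14_3 lc_f_rc_19_5 lc_f_rc_20_1 lc_f_rc_20_1 lc_f_rc_17_1 lc_f_rc_21_1 lc_f_rc_19_3 lc_f_rc_14_1 lc_f_rc_20_1 lc_f_rc_21_1 lc_f_rc_17_3 lc_f_Cert_tree lc_f_rc_5_1 lc_f_rc_14_3 lc_f_rc_21_1 lc_f_rc_14_3 lc_f_rc_21_1 lc_f_rc_14_1 lc_f_rc_20_1 lc_f_rc_10_3 lc_f_rc_5_1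 lc_f_rc_17_3 lc_f_rc_14_3 lc_f_Cert_tree lc_f_rc_10_3 lc_f_rc_19_3 lc_f_rc_17_3 lc_f_rc_20_1) (@D3.rec (fun _ => (Cert rels S Gen.f)) lc_f_rc_19_1 lc_f_rc_14_3 lc_f_Cert_tree lc_f_rc_17_3 lc_f_rc_14_3 lc_f_rc_10_3 lc_f_rc_14_3 lc_f_rc_17_3 lc_f_rc_14_3 lc_f_Cert_tree lc_f_rc_10_3 lc_f_rc_20_1 lc_f_rc_10_3 lc_f_rc_14_3 lc_f_rc_14_1 lc_f_rc_5_1 lc_f_rc_20_1 lc_f_rc_14_3 lc_f_rc_5_3 lc_f_rc_21_1 lc_f_rc_17_3 lc_f_rc_5_1 lc_f_rc_17_3 lc_f_rc_14_3 lc_f_rc_20_1 lc_f_rc_20_1 lc_f_rc_20_1 lc_f_rc_21_1 lc_f_rc_10_3 lc_f_rc_17_3 lc_f_rc_14_1 lc_f_rc_5_1 lc_f_rc_17_3 lc_f_rc_19_5 lc_f_rc_5_3 lc_f_rc_5_1 lc_f_rc_17_3 lc_f_rc_14_3 lc_f_rc_5_3 lc_f_rc_22_1 lc_f_Cert_tree lc_f_rc_20_1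 lc_f_Cert_tree lc_f_rc_17_3 lc_f_rc_10_3 lc_f_rc_20_1 lc_f_rc_17_3 lc_f_rc_5_3 lc_f_rc_20_1 lc_f_rc_21_1 lc_f_rc_17_3 lc_f_rc_5_3 lc_f_rc_10_1 lc_f_rc_19_3 lc_f_rc_22_1 lc_f_rc_17_3 lc_f_rc_19_1 lc_f_rc_10_1 lc_f_rc_5_1 lc_f_rc_10_3 lc_f_rc_17_3 lc_f_rc_17_3) (@D3.rec (fun _ => (Cert rels S Gen.f)) lc_f_rc_5_3 lc_f_rc_17_1 lc_f_rc_17_3 lc_f_rc_14_3 lc_f_Cert_tree lc_f_rc_17_3 lc_f_rc_20_1 lc_f_rc_10_3 lc_f_rc_21_1 lc_f_rc_17_3 lc_f_rc_20_1 lc_f_rc_14_1 lc_f_Cert_tree lc_f_rc_20_1 lc_f_rc_14_1 lc_f_rc_19_3 lc_f_rc_20_1 lc_f_rc_17_3 lc_f_rc_17_3 lc_f_Cert_tree lc_f_rc_21_1 lc_f_rc_20_1 lc_f_rc_20_1 lc_f_rc_20_1 lc_f_rc_17_3 lc_f_rc_14_3 lc_f_rc_5_3 lc_f_rc_14_3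 lc_f_rc_5_3 lc_f_Cert_tree lc_f_rc_5_3 lc_f_rc_21_1 lc_f_rc_19_1 lc_f_rc_14_3 lc_f_rc_14_3 lc_f_rc_10_1 lc_f_rc_22_1 lc_f_rc_21_1 lc_f_rc_14_1 lc_f_rc_20_1 lc_f_rc_5_1 lc_f_rc_14_1 lc_f_rc_19_3 lc_f_rc_14_3 lc_f_rc_14_3 lc_f_rc_20_1 lc_f_rc_17_3 lc_f_rc_14_3 lc_f_rc_10_3 lc_f_rc_19_1 lc_f_rc_19_1 lc_f_rc_5_3 lc_f_Cert_tree lc_f_rc_17_3 lc_f_rc_17_1 lc_f_Cert_tree lc_f_rc_20_1 lc_f_rc_10_3 lc_f_rc_21_1 lc_f_rc_14_3 lc_f_Cert_tree lc_f_rc_20_1) (@D3.rec (fun _ => (Cert rels S Gen.f)) lc_f_rc_17_1 lc_f_rc_10_1 lc_f_rc_14_3 lc_f_rc_10_3 lc_f_rc_14_1 lc_f_rc_17_3 lc_f_rc_5_3 lc_f_rc_5_3 lc_f_rc_19_5 lc_f_rc_14_3 lc_f_rc_14_3 lc_f_Cert_tree lc_f_rc_17_1 lc_f_rc_14_1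 lc_f_rc_17_3 lc_f_rc_14_1 lc_f_rc_19_3 lc_f_rc_20_1 lc_f_rc_19_1 lc_f_rc_14_1 lc_f_rc_14_3 lc_f_rc_19_3 lc_f_rc_19_3 lc_f_rc_10_3 lc_f_rc_10_1 lc_f_rc_20_1 lc_f_rc_21_1 lc_f_rc_14_3 lc_f_rc_5_1 lc_f_rc_21_1 lc_f_rc_10_3 lc_f_rc_14_1 lc_f_rc_5_1 lc_f_rc_14_3 lc_f_rc_20_1 lc_f_rc_20_1 lc_f_rc_17_3 lc_f_rc_21_1 lc_f_rc_17_3 lc_f_rc_14_3 lc_f_rc_20_1 lc_f_rc_21_1 lc_f_rc_20_1 lc_f_rc_19_3 lc_f_rc_21_1 lc_f_rc_17_3 lc_f_rc_20_1 lc_f_rc_10_3 lc_f_rc_10_3 lc_f_rc_21_1 lc_f_rc_10_3 lc_f_rc_20_1 lc_f_rc_5_1 lc_f_rc_10_3 lc_f_Cert_tree lc_f_rc_19_3 lc_f_rc_21_1 lc_f_rc_17_1 lc_f_rc_20_1 lc_f_rc_20_1 lc_f_rc_5_3 lc_f_rc_17_3) (@D3.rec (fun _ => (Cert rels S Gen.f)) lc_f_Cert_tree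 lc_f_rc_20_1 lc_f_rc_10_3 lc_f_rc_21_1 lc_f_rc_17_3 lc_f_Cert_tree lc_f_rc_5_1 lc_f_rc_20_1 lc_f_rc_21_1 lc_f_rc_14_3 lc_f_Cert_tree lc_f_rc_20_1 lc_f_rc_21_1 lc_f_rc_21_1 lc_f_rc_17_3 lc_f_rc_17_3 lc_f_rc_21_1 lc_f_rc_10_3 lc_f_rc_14_1 lc_f_rc_20_1 lc_f_Cert_tree lc_f_rc_20_1 lc_f_rc_19_3 lc_f_rc_20_1 lc_f_rc_10_3 lc_f_rc_14_1 lc_f_rc_17_3 lc_f_rc_5_3 lc_f_rc_10_1 lc_f_rc_10_3 lc_f_Cert_tree lc_f_rc_20_1 lc_f_rc_5_3 lc_f_rc_20_1 lc_f_rc_10_1 lc_f_rc_14_1 lc_f_rc_19_3 lc_f_rc_21_1 lc_f_rc_19_5 lc_f_rc_14_3 lc_f_Cert_tree lc_f_rc_17_3 lc_f_Cert_tree lc_f_rc_5_3 lc_f_rc_14_3 lc_f_Cert_tree lc_f_rc_20_1 lc_f_rc_14_3 lc_f_rc_19_3 lc_f_rc_20_1 lc_f_rc_10_1 lc_f_rc_20_1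 lc_f_rc_5_3 lc_f_rc_20_1 lc_f_rc_20_1 lc_f_rc_20_1 lc_f_rc_19_3 lc_f_rc_10_3 lc_f_rc_17_3 lc_f_rc_20_1 lc_f_rc_5_1 lc_f_rc_14_3) (@D3.rec (fun _ => (Cert rels S Gen.f)) lc_f_rc_17_3 lc_f_rc_19_3 lc_f_rc_5_3 lc_f_rc_20_1 lc_f_rc_20_1 lc_f_rc_14_3 lc_f_rc_20_1 lc_f_rc_10_3 lc_f_rc_5_1 lc_f_rc_5_3 lc_f_rc_5_3 lc_f_rc_20_1 lc_f_rc_20_1 lc_f_rc_5_3 lc_f_rc_14_3 lc_f_rc_14_3 lc_f_rc_20_1 lc_f_rc_20_1 lc_f_rc_5_1 lc_f_rc_20_1 lc_f_rc_14_3 lc_f_Cert_tree lc_f_rc_10_1 lc_f_rc_5_3 lc_f_rc_10_1 lc_f_rc_21_1 lc_f_rc_19_5 lc_f_rc_10_1 lc_f_rc_21_1 lc_f_rc_21_1 lc_f_rc_14_3 lc_f_rc_19_5 lc_f_rc_14_3 lc_f_rc_20_1 lc_f_rc_17_3 lc_f_rc_17_3 lc_f_rc_17_3 lc_f_rc_17_3 lc_f_rc_14_3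 lc_f_rc_14_3 lc_f_Cert_tree lc_f_rc_10_3 lc_f_rc_20_1 lc_f_rc_20_1 lc_f_rc_21_1 lc_f_rc_20_1 lc_f_rc_17_3 lc_f_rc_17_3 lc_f_rc_14_3 lc_f_rc_5_1 lc_f_rc_20_1 lc_f_rc_14_3 lc_f_Cert_tree lc_f_rc_20_1 lc_f_rc_17_1 lc_f_rc_17_3 lc_f_Cert_tree lc_f_rc_20_1 lc_f_rc_21_1 lc_f_rc_20_1 lc_f_rc_14_3 lc_f_Cert_tree) (@D3.rec (fun _ => (Cert rels S Gen.f)) lc_f_rc_10_3 lc_f_Cert_tree lc_f_rc_21_1 lc_f_rc_20_1 lc_f_Cert_tree lc_f_rc_20_1 lc_f_rc_5_3 lc_f_rc_14_3 lc_f_rc_17_1 lc_f_rc_10_3 lc_f_rc_19_1 lc_f_rc_20_1 lc_f_rc_20_1 lc_f_rc_17_1 lc_f_rc_14_3 lc_f_rc_10_1 lc_f_rc_10_3 lc_f_rc_19_3 lc_f_rc_21_1 lc_f_rc_10_3 lc_f_rc_20_1 lc_f_rc_14_1 lc_f_Cert_tree lc_f_rc_20_1 lc_f_rc_17_1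 lc_f_rc_21_1 lc_f_rc_14_1 lc_f_rc_20_1 lc_f_rc_17_1 lc_f_Cert_tree lc_f_rc_5_1 lc_f_rc_20_1 lc_f_rc_17_3 lc_f_rc_14_3 lc_f_rc_21_1 lc_f_rc_19_3 lc_f_rc_20_1 lc_f_rc_21_1 lc_f_rc_10_1 lc_f_rc_10_3 lc_f_rc_10_1 lc_f_rc_10_3 lc_f_rc_10_3 lc_f_Cert_tree lc_f_rc_20_1 lc_f_rc_14_3 lc_f_rc_14_3 lc_f_rc_17_1 lc_f_rc_21_1 lc_f_rc_5_1 lc_f_Cert_tree lc_f_rc_17_3 lc_f_rc_14_3 lc_f_rc_22_1 lc_f_rc_17_1 lc_f_rc_14_3 lc_f_Cert_tree lc_f_rc_21_1 lc_f_rc_17_3 lc_f_rc_21_1 lc_f_rc_14_3 lc_f_rc_19_3) (@D3.rec (fun _ => (Cert rels S Gen.f)) lc_f_rc_14_3 lc_f_rc_17_3 lc_f_rc_10_3 lc_f_Cert_tree lc_f_rc_17_1 lc_f_rc_14_1 lc_f_rc_21_1 lc_f_rc_17_3 lc_f_rc_20_1 lc_f_rc_17_3 lc_f_rc_17_1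 lc_f_rc_10_3 lc_f_rc_10_1 lc_f_rc_17_3 lc_f_rc_14_3 lc_f_rc_22_1 lc_f_rc_10_3 lc_f_rc_17_3 lc_f_rc_17_3 lc_f_rc_10_3 lc_f_rc_20_1 lc_f_rc_20_1 lc_f_rc_17_3 lc_f_rc_20_1 lc_f_rc_14_3 lc_f_rc_14_3 lc_f_rc_5_3 lc_f_rc_10_1 lc_f_rc_21_1 lc_f_rc_20_1 lc_f_rc_19_3 lc_f_rc_14_3 lc_f_rc_10_3 lc_f_rc_10_3 lc_f_rc_5_1 lc_f_rc_21_1 lc_f_rc_19_3 lc_f_rc_10_3 lc_f_rc_20_1 lc_f_rc_20_1 lc_f_rc_10_3 lc_f_rc_17_3 lc_f_rc_14_3 lc_f_rc_17_3 lc_f_rc_14_3 lc_f_rc_17_1 lc_f_rc_17_1 lc_f_rc_5_3 lc_f_rc_10_1 lc_f_rc_17_1 lc_f_rc_5_1 lc_f_rc_17_3 lc_f_rc_21_1 lc_f_rc_19_3 lc_f_rc_17_1 lc_f_rc_21_1 lc_f_rc_17_1 lc_f_rc_21_1 lc_f_rc_20_1 lc_f_rc_19_3 lc_f_rc_19_5 lc_f_rc_20_1) (@D3.rec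 (fun _ => (Cert rels S Gen.f)) lc_f_rc_10_3 lc_f_rc_21_1 lc_f_rc_19_3 lc_f_rc_20_1 lc_f_rc_17_1 lc_f_rc_14_3 lc_f_rc_21_1 lc_f_rc_10_1 lc_f_rc_21_1 lc_f_rc_20_1 lc_f_rc_17_3 lc_f_rc_20_1 lc_f_rc_14_1 lc_f_rc_20_1 lc_f_rc_19_5 lc_f_rc_19_3 lc_f_rc_20_1 lc_f_rc_14_3 lc_f_rc_17_3 lc_f_rc_20_1 lc_f_rc_21_1 lc_f_rc_20_1 lc_f_Cert_tree lc_f_rc_19_3 lc_f_rc_17_3 lc_f_rc_14_3 lc_f_rc_17_3 lc_f_rc_5_3 lc_f_rc_14_3 lc_f_Cert_tree lc_f_rc_14_3 lc_f_rc_20_1 lc_f_rc_17_3 lc_f_rc_14_3 lc_f_rc_17_3 lc_f_rc_5_3 lc_f_rc_14_3 lc_f_rc_14_3 lc_f_rc_14_3 lc_f_rc_10_1 lc_f_rc_17_1 lc_f_rc_5_3 lc_f_rc_19_5 lc_f_rc_14_3 lc_f_rc_17_3 lc_f_rc_10_3 lc_f_rc_20_1 lc_f_rc_20_1 lc_f_rc_21_1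 lc_f_rc_14_3 lc_f_rc_10_3 lc_f_rc_21_1 lc_f_rc_14_1 lc_f_rc_20_1 lc_f_rc_14_3 lc_f_rc_14_1 lc_f_rc_10_1 lc_f_rc_20_1 lc_f_rc_19_1 lc_f_rc_14_3 lc_f_rc_5_1 lc_f_rc_21_1) (@D3.rec (fun _ => (Cert rels S Gen.f)) lc_f_rc_14_1 lc_f_rc_14_3 lc_f_rc_10_3 lc_f_Cert_tree lc_f_rc_21_1 lc_f_rc_17_3 lc_f_rc_20_1 lc_f_rc_17_1 lc_f_rc_14_1 lc_f_rc_10_3 lc_f_rc_5_1 lc_f_rc_14_3 lc_f_rc_19_3 lc_f_rc_10_3 lc_f_Cert_tree lc_f_rc_20_1 lc_f_rc_14_3 lc_f_rc_10_3 lc_f_rc_17_3 lc_f_rc_19_3 lc_f_rc_19_5 lc_f_rc_20_1 lc_f_rc_21_1 lc_f_rc_19_3 lc_f_rc_20_1 lc_f_rc_19_5 lc_f_rc_10_3 lc_f_rc_14_3 lc_f_rc_20_1 lc_f_rc_17_3 lc_f_rc_10_3 lc_f_rc_14_3 lc_f_rc_17_3 lc_f_Cert_tree lc_f_rc_21_1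 lc_f_rc_17_1 lc_f_rc_5_3 lc_f_rc_10_1 lc_f_rc_20_1 lc_f_rc_17_3 lc_f_rc_14_3 lc_f_rc_14_1 lc_f_rc_10_1 lc_f_rc_17_1 lc_f_rc_20_1 lc_f_rc_14_3 lc_f_rc_5_3 lc_f_rc_14_3 lc_f_rc_14_1 lc_f_rc_20_1 lc_f_rc_14_1 lc_f_rc_19_3 lc_f_rc_14_3 lc_f_rc_17_3 lc_f_rc_17_1 lc_f_rc_17_1 lc_f_rc_10_3 lc_f_rc_20_1 lc_f_rc_20_1 lc_f_rc_10_3 lc_f_rc_14_3 lc_f_rc_20_1) (@D3.rec (fun _ => (Cert rels S Gen.f)) lc_f_rc_17_1 lc_f_rc_19_3 lc_f_rc_14_3 lc_f_rc_14_3 lc_f_Cert_tree lc_f_rc_20_1 lc_f_rc_14_3 lc_f_rc_10_1 lc_f_rc_19_5 lc_f_rc_14_3 lc_f_rc_17_3 lc_f_rc_19_1 lc_f_rc_5_3 lc_f_rc_10_3 lc_f_rc_17_3 lc_f_rc_20_1 lc_f_rc_20_1 lc_f_rc_14_3 lc_f_rc_10_1 lc_f_rc_14_1 lc_f_rc_10_1 lc_f_rc_10_3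 lc_f_rc_17_3 lc_f_rc_14_3 lc_f_rc_10_3 lc_f_rc_14_3 lc_f_rc_21_1 lc_f_Cert_tree lc_f_rc_5_1 lc_f_rc_22_1 lc_f_Cert_tree lc_f_rc_21_1 lc_f_rc_14_3 lc_f_rc_14_1 lc_f_rc_20_1 lc_f_rc_17_3 lc_f_rc_20_1 lc_f_rc_14_1 lc_f_rc_19_3 lc_f_rc_10_3 lc_f_Cert_tree lc_f_rc_21_1 lc_f_rc_20_1 lc_f_rc_20_1 lc_f_rc_14_1 lc_f_Cert_tree lc_f_rc_17_3 lc_f_rc_14_1 lc_f_rc_21_1 lc_f_rc_17_3 lc_f_rc_20_1 lc_f_rc_14_3 lc_f_Cert_tree lc_f_rc_10_3 lc_f_Cert_tree lc_f_rc_17_1 lc_f_rc_20_1 lc_f_rc_10_1 lc_f_rc_14_1 lc_f_rc_10_3 lc_f_Cert_tree lc_f_rc_21_1) (@D3.rec (fun _ => (Cert rels S Gen.f)) lc_f_rc_19_3 lc_f_rc_5_3 lc_f_rc_17_1 lc_f_rc_5_3 lc_f_rc_20_1 lc_f_rc_20_1 lc_f_rc_17_3 lc_f_rc_21_1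 lc_f_rc_14_3 lc_f_Cert_tree lc_f_rc_20_1 lc_f_rc_10_1 lc_f_rc_19_3 lc_f_rc_14_1 lc_f_rc_21_1 lc_f_rc_20_1 lc_f_rc_10_3 lc_f_rc_17_3 lc_f_rc_10_3 lc_f_rc_17_3 lc_f_rc_20_1 lc_f_rc_20_1 lc_f_rc_19_3 lc_f_rc_20_1 lc_f_rc_19_3 lc_f_rc_5_1 lc_f_rc_20_1 lc_f_rc_10_1 lc_f_rc_14_1 lc_f_rc_17_3 lc_f_rc_14_1 lc_f_rc_20_1 lc_f_rc_17_1 lc_f_rc_14_3 lc_f_rc_5_3 lc_f_rc_10_3 lc_f_rc_5_1 lc_f_rc_21_1 lc_f_rc_20_1 lc_f_rc_10_1 lc_f_rc_5_1 lc_f_rc_20_1 lc_f_rc_19_3 lc_f_Cert_tree lc_f_rc_20_1 lc_f_rc_14_1 lc_f_rc_21_1 lc_f_rc_5_3 lc_f_rc_21_1 lc_f_rc_14_1 lc_f_rc_14_3 lc_f_rc_14_3 lc_f_rc_17_1 lc_f_rc_20_1 lc_f_rc_20_1 lc_f_rc_14_1 lc_f_rc_5_1 lc_f_rc_10_3 lc_f_rc_5_1 lc_f_rc_14_3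 lc_f_rc_10_3 lc_f_rc_14_3) (@D3.rec (fun _ => (Cert rels S Gen.f)) lc_f_rc_5_3 lc_f_rc_19_1 lc_f_rc_14_3 lc_f_rc_17_3 lc_f_rc_14_3 lc_f_rc_14_3 lc_f_rc_19_1 lc_f_rc_20_1 lc_f_rc_17_3 lc_f_rc_5_3 lc_f_rc_21_1 lc_f_rc_20_1 lc_f_rc_19_3 lc_f_rc_21_1 lc_f_rc_5_1 lc_f_rc_10_3 lc_f_rc_10_3 lc_f_rc_5_3 lc_f_rc_14_3 lc_f_rc_20_1 lc_f_rc_17_3 lc_f_rc_5_1 lc_f_rc_10_3 lc_f_rc_20_1 lc_f_rc_14_1 lc_f_Cert_tree lc_f_rc_17_3 lc_f_rc_17_1 lc_f_rc_20_1 lc_f_rc_17_3 lc_f_rc_20_1 lc_f_rc_17_3 lc_f_rc_21_1 lc_f_rc_14_3 lc_f_Cert_tree lc_f_rc_17_3 lc_f_rc_20_1 lc_f_Cert_tree lc_f_rc_20_1 lc_f_rc_19_3 lc_f_rc_14_3 lc_f_rc_14_3 lc_f_rc_20_1 lc_f_rc_21_1 lc_f_rc_5_3 lc_f_rc_20_1 lc_f_Cert_tree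 lc_f_rc_21_1 lc_f_rc_14_3 lc_f_Cert_tree lc_f_rc_17_3 lc_f_rc_20_1 lc_f_rc_17_3 lc_f_rc_21_1 lc_f_rc_20_1 lc_f_Cert_tree lc_f_rc_20_1 lc_f_rc_20_1 lc_f_rc_20_1 lc_f_rc_21_1 lc_f_rc_20_1 lc_f_rc_20_1) (@D3.rec (fun _ => (Cert rels S Gen.f)) lc_f_rc_14_3 lc_f_rc_19_5 lc_f_rc_19_1 lc_f_rc_17_3 lc_f_rc_19_5 lc_f_rc_17_3 lc_f_rc_10_3 lc_f_rc_17_3 lc_f_rc_17_3 lc_f_rc_14_3 lc_f_rc_14_3 lc_f_rc_5_3 lc_f_rc_19_5 lc_f_rc_20_1 lc_f_rc_5_3 lc_f_rc_14_3 lc_f_rc_17_3 lc_f_rc_14_3 lc_f_rc_14_3 lc_f_rc_20_1 lc_f_rc_19_5 lc_f_rc_19_5 lc_f_rc_17_3 lc_f_rc_10_3 lc_f_rc_19_3 lc_f_rc_21_1 lc_f_rc_17_3 lc_f_rc_20_1 lc_f_rc_17_1 lc_f_rc_21_1 lc_f_rc_10_3 lc_f_rc_5_1 lc_f_rc_17_1 lc_f_rc_20_1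 lc_f_rc_21_1 lc_f_rc_14_3 lc_f_rc_17_3 lc_f_rc_10_3 lc_f_rc_20_1 lc_f_rc_17_3 lc_f_rc_10_3 lc_f_rc_20_1 lc_f_rc_10_3 lc_f_rc_10_1 lc_f_rc_14_1 lc_f_rc_17_1 lc_f_rc_20_1 lc_f_rc_17_1 lc_f_rc_14_1 lc_f_rc_20_1 lc_f_Cert_tree lc_f_rc_10_3 lc_f_Cert_tree lc_f_rc_19_5 lc_f_rc_19_5 lc_f_rc_20_1 lc_f_rc_20_1 lc_f_rc_20_1 lc_f_rc_17_3 lc_f_rc_21_1 lc_f_rc_14_3 lc_f_rc_10_3) (@D3.rec (fun _ => (Cert rels S Gen.f)) lc_f_rc_10_3 lc_f_rc_19_3 lc_f_rc_21_1 lc_f_rc_10_3 lc_f_rc_17_3 lc_f_rc_19_3 lc_f_rc_20_1 lc_f_rc_10_3 lc_f_rc_5_1 lc_f_rc_20_1 lc_f_Cert_tree lc_f_rc_20_1 lc_f_Cert_tree lc_f_rc_10_3 lc_f_rc_20_1 lc_f_rc_20_1 lc_f_rc_10_3 lc_f_rc_17_3 lc_f_Cert_tree lc_f_rc_20_1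 lc_f_rc_14_1 lc_f_Cert_tree lc_f_rc_14_3 lc_f_rc_17_3 lc_f_Cert_tree lc_f_rc_19_3 lc_f_rc_17_1 lc_f_rc_20_1 lc_f_rc_17_3 lc_f_rc_19_1 lc_f_rc_10_3 lc_f_rc_14_1 lc_f_rc_21_1 lc_f_rc_20_1 lc_f_rc_20_1 lc_f_rc_5_3 lc_f_rc_14_3 lc_f_rc_17_3 lc_f_rc_19_5 lc_f_rc_10_3 lc_f_rc_10_3 lc_f_rc_10_3 lc_f_rc_10_1 lc_f_rc_17_1 lc_f_rc_5_3 lc_f_rc_10_3 lc_f_rc_19_3 lc_f_rc_19_3 lc_f_rc_17_3 lc_f_rc_22_1 lc_f_rc_14_3 lc_f_rc_21_1 lc_f_rc_14_3 lc_f_rc_17_3 lc_f_rc_21_1 lc_f_rc_21_1 lc_f_rc_5_3 lc_f_rc_10_3 lc_f_rc_20_1 lc_f_rc_17_1 lc_f_rc_19_5 lc_f_rc_20_1) (@D3.rec (fun _ => (Cert rels S Gen.f)) lc_f_rc_14_3 lc_f_rc_14_1 lc_f_rc_17_3 lc_f_rc_5_3 lc_f_rc_17_3 lc_f_rc_5_1 lc_f_rc_14_3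 lc_f_Cert_tree lc_f_rc_10_3 lc_f_rc_10_3 lc_f_rc_14_1 lc_f_rc_19_1 lc_f_rc_20_1 lc_f_rc_5_3 lc_f_rc_10_3 lc_f_rc_17_3 lc_f_rc_21_1 lc_f_rc_20_1 lc_f_rc_14_3 lc_f_Cert_tree lc_f_rc_14_3 lc_f_rc_10_3 lc_f_rc_21_1 lc_f_rc_20_1 lc_f_rc_20_1 lc_f_rc_20_1 lc_f_rc_21_1 lc_f_rc_14_3 lc_f_rc_14_3 lc_f_rc_10_3 lc_f_rc_17_3 lc_f_rc_21_1 lc_f_rc_14_3 lc_f_rc_19_3 lc_f_rc_10_3 lc_f_Cert_tree lc_f_rc_10_3 lc_f_rc_10_3 lc_f_rc_20_1 lc_f_rc_14_1 lc_f_rc_21_1 lc_f_Cert_tree lc_f_rc_21_1 lc_f_rc_20_1 lc_f_rc_20_1 lc_f_rc_17_3 lc_f_Cert_tree lc_f_rc_10_3 lc_f_rc_19_3 lc_f_rc_20_1 lc_f_rc_17_3 lc_f_rc_14_3 lc_f_rc_22_1 lc_f_rc_21_1 lc_f_rc_20_1 lc_f_rc_20_1 lc_f_rc_10_3 lc_f_rc_10_3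 lc_f_rc_14_1 lc_f_rc_10_1 lc_f_rc_21_1 lc_f_rc_5_3) (@D3.rec (fun _ => (Cert rels S Gen.f)) lc_f_rc_10_3 lc_f_rc_21_1 lc_f_rc_20_1 lc_f_rc_14_1 lc_f_rc_20_1 lc_f_rc_19_3 lc_f_rc_10_3 lc_f_rc_10_3 lc_f_rc_20_1 lc_f_rc_5_3 lc_f_rc_5_3 lc_f_rc_5_1 lc_f_rc_21_1 lc_f_rc_21_1 lc_f_rc_19_3 lc_f_rc_5_3 lc_f_rc_20_1 lc_f_rc_5_1 lc_f_rc_5_3 lc_f_rc_21_1 lc_f_rc_5_3 lc_f_rc_10_3 lc_f_rc_21_1 lc_f_rc_20_1 lc_f_rc_14_1 lc_f_rc_19_3 lc_f_rc_20_1 lc_f_rc_20_1 lc_f_rc_17_3 lc_f_rc_10_1 lc_f_rc_19_5 lc_f_rc_20_1 lc_f_rc_19_5 lc_f_rc_19_5 lc_f_rc_19_1 lc_f_rc_19_5 lc_f_rc_14_1 lc_f_rc_10_1 lc_f_rc_14_3 lc_f_rc_14_3 lc_f_rc_20_1 lc_f_rc_20_1 lc_f_rc_22_1 lc_f_rc_17_1 lc_f_rc_17_1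 lc_f_rc_14_3 lc_f_rc_20_1 lc_f_rc_17_3 lc_f_rc_14_3 lc_f_rc_20_1 lc_f_rc_20_1 lc_f_rc_21_1 lc_f_rc_20_1 lc_f_rc_19_5 lc_f_rc_17_1 lc_f_rc_5_3 lc_f_rc_14_1 lc_f_rc_21_1 lc_f_rc_22_1 lc_f_rc_22_1 lc_f_rc_21_1 lc_f_rc_10_1) (@D3.rec (fun _ => (Cert rels S Gen.f)) lc_f_rc_20_1 lc_f_rc_10_3 lc_f_rc_21_1 lc_f_rc_20_1 lc_f_rc_14_3 lc_f_rc_21_1 lc_f_rc_10_3 lc_f_rc_5_1 lc_f_rc_20_1 lc_f_rc_21_1 lc_f_rc_14_1 lc_f_rc_10_3 lc_f_rc_19_1 lc_f_rc_17_3 lc_f_rc_14_1 lc_f_rc_21_1 lc_f_rc_19_3 lc_f_rc_14_3 lc_f_rc_17_3 lc_f_rc_17_1 lc_f_rc_14_3 lc_f_rc_14_1 lc_f_rc_10_3 lc_f_rc_17_1 lc_f_rc_5_1 lc_f_rc_17_3 lc_f_rc_20_1 lc_f_rc_21_1 lc_f_rc_10_3 lc_f_rc_17_3 lc_f_rc_5_3 lc_f_rc_10_1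 lc_f_rc_19_3 lc_f_rc_10_3 lc_f_rc_17_3 lc_f_rc_20_1 lc_f_rc_10_1 lc_f_rc_21_1 lc_f_rc_21_1 lc_f_rc_17_1 lc_f_rc_14_3 lc_f_rc_10_1 lc_f_rc_10_3 lc_f_rc_17_3 lc_f_rc_21_1 lc_f_rc_20_1 lc_f_rc_17_3 lc_f_rc_21_1 lc_f_rc_10_3 lc_f_rc_17_1 lc_f_rc_17_1 lc_f_Cert_tree lc_f_rc_5_3 lc_f_rc_19_5 lc_f_rc_20_1 lc_f_rc_10_3 lc_f_rc_14_1 lc_f_rc_10_3 lc_f_rc_10_3 lc_f_rc_5_3 lc_f_rc_19_5 lc_f_rc_10_3) (@D3.rec (fun _ => (Cert rels S Gen.f)) lc_f_rc_5_3 lc_f_rc_17_3 lc_f_rc_20_1 lc_f_rc_20_1 lc_f_rc_20_1 lc_f_rc_10_3 lc_f_rc_17_3 lc_f_rc_14_3 lc_f_rc_19_5 lc_f_rc_21_1 lc_f_rc_14_3 lc_f_rc_14_3 lc_f_rc_19_3 lc_f_rc_21_1 lc_f_rc_10_3 lc_f_rc_21_1 lc_f_rc_17_3 lc_f_rc_10_1 lc_f_rc_14_3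 lc_f_rc_5_1 lc_f_rc_14_1 lc_f_rc_17_3 lc_f_rc_17_3 lc_f_rc_19_5 lc_f_rc_20_1 lc_f_rc_14_3 lc_f_rc_17_3 lc_f_rc_20_1 lc_f_rc_21_1 lc_f_rc_17_3 lc_f_rc_14_3 lc_f_rc_17_3 lc_f_rc_17_3 lc_f_rc_5_3 lc_f_rc_14_3 lc_f_Cert_tree lc_f_rc_17_3 lc_f_rc_5_1 lc_f_rc_10_1 lc_f_rc_10_1 lc_f_rc_21_1 lc_f_rc_10_1 lc_f_rc_14_3 lc_f_rc_20_1 lc_f_rc_20_1 lc_f_Cert_tree lc_f_rc_14_1 lc_f_rc_20_1 lc_f_rc_19_3 lc_f_rc_21_1 lc_f_rc_19_3 lc_f_Cert_tree lc_f_rc_21_1 lc_f_rc_10_3 lc_f_rc_20_1 lc_f_rc_20_1 lc_f_rc_17_3 lc_f_rc_5_1 lc_f_rc_10_1 lc_f_rc_14_3 lc_f_rc_20_1 lc_f_rc_20_1) (@D3.rec (fun _ => (Cert rels S Gen.f)) lc_f_rc_17_3 lc_f_rc_21_1 lc_f_rc_20_1 lc_f_rc_14_3 lc_f_rc_10_1 lc_f_rc_21_1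 lc_f_rc_20_1 lc_f_rc_17_3 lc_f_rc_14_3 lc_f_rc_17_3 lc_f_rc_10_3 lc_f_Cert_tree lc_f_rc_20_1 lc_f_rc_21_1 lc_f_rc_20_1 lc_f_rc_10_3 lc_f_rc_5_1 lc_f_rc_10_3 lc_f_rc_10_1 lc_f_rc_19_3 lc_f_rc_21_1 lc_f_rc_20_1 lc_f_rc_17_1 lc_f_rc_10_3 lc_f_rc_17_3 lc_f_rc_20_1 lc_f_rc_14_1 lc_f_rc_10_3 lc_f_rc_14_3 lc_f_rc_20_1 lc_f_rc_21_1 lc_f_rc_17_3 lc_f_rc_14_3 lc_f_rc_10_3 lc_f_rc_20_1 lc_f_rc_21_1 lc_f_rc_10_3 lc_f_rc_17_3 lc_f_rc_10_1 lc_f_Cert_tree lc_f_rc_17_3 lc_f_rc_5_3 lc_f_rc_20_1 lc_f_rc_21_1 lc_f_rc_20_1 lc_f_rc_19_1 lc_f_rc_17_3 lc_f_rc_14_3 lc_f_rc_5_1 lc_f_rc_14_3 lc_f_Cert_tree lc_f_rc_20_1 lc_f_rc_14_3 lc_f_rc_20_1 lc_f_rc_20_1 lc_f_rc_14_3 lc_f_rc_5_3 lc_f_rc_19_3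 lc_f_rc_14_3 lc_f_Cert_tree lc_f_rc_21_1 lc_f_rc_21_1) (@D3.rec (fun _ => (Cert rels S Gen.f)) lc_f_rc_20_1 lc_f_rc_19_1 lc_f_rc_17_3 lc_f_rc_19_1 lc_f_rc_17_3 lc_f_rc_10_3 lc_f_rc_19_3 lc_f_rc_14_3 lc_f_rc_14_3 lc_f_rc_17_3 lc_f_rc_17_3 lc_f_rc_17_3 lc_f_rc_5_3 lc_f_rc_10_3 lc_f_rc_5_3 lc_f_Cert_tree lc_f_rc_17_1 lc_f_rc_14_3 lc_f_rc_5_3 lc_f_rc_14_1 lc_f_rc_14_3 lc_f_rc_17_1 lc_f_Cert_tree lc_f_rc_19_5 lc_f_rc_19_5 lc_f_rc_20_1 lc_f_rc_14_1 lc_f_rc_19_3 lc_f_rc_17_3 lc_f_rc_19_3 lc_f_rc_21_1 lc_f_rc_10_1 lc_f_Cert_tree lc_f_rc_10_3 lc_f_rc_17_3 lc_f_rc_20_1 lc_f_rc_14_1 lc_f_rc_17_3 lc_f_rc_14_3 lc_f_rc_21_1 lc_f_rc_20_1 lc_f_rc_20_1 lc_f_rc_21_1 lc_f_rc_20_1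 lc_f_rc_20_1 lc_f_rc_5_1 lc_f_rc_14_3 lc_f_rc_14_3 lc_f_rc_5_3 lc_f_Cert_tree lc_f_rc_20_1 lc_f_rc_14_1 lc_f_rc_17_3 lc_f_rc_20_1 lc_f_rc_19_3 lc_f_rc_17_3 lc_f_rc_10_3 lc_f_rc_14_3 lc_f_rc_17_3 lc_f_rc_21_1 lc_f_rc_14_3 lc_f_rc_5_3) (@D3.rec (fun _ => (Cert rels S Gen.f)) lc_f_rc_14_1 lc_f_rc_5_1 lc_f_rc_5_1 lc_f_rc_14_3 lc_f_rc_10_3 lc_f_rc_20_1 lc_f_rc_17_3 lc_f_rc_20_1 lc_f_rc_5_1 lc_f_rc_14_3 lc_f_Cert_tree lc_f_rc_10_3 lc_f_rc_14_1 lc_f_rc_10_1 lc_f_rc_20_1 lc_f_rc_14_3 lc_f_rc_5_1 lc_f_rc_10_3 lc_f_rc_17_1 lc_f_rc_21_1 lc_f_rc_17_1 lc_f_rc_10_3 lc_f_rc_22_1 lc_f_rc_20_1 lc_f_Cert_tree lc_f_rc_21_1 lc_f_rc_10_3 lc_f_rc_20_1 lc_f_rc_22_1 lc_f_rc_14_3 lc_f_rc_21_1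 lc_f_rc_19_1 lc_f_rc_20_1 lc_f_rc_5_3 lc_f_Cert_tree lc_f_rc_10_3 lc_f_rc_5_3 lc_f_rc_17_3 lc_f_rc_17_3 lc_f_rc_14_3 lc_f_rc_21_1 lc_f_rc_20_1 lc_f_rc_20_1 lc_f_rc_5_1 lc_f_rc_17_3 lc_f_rc_20_1 lc_f_rc_5_1 lc_f_rc_20_1 lc_f_rc_19_3 lc_f_rc_17_3 lc_f_rc_20_1 lc_f_rc_21_1 lc_f_rc_14_3 lc_f_rc_5_1 lc_f_rc_17_3 lc_f_rc_20_1 lc_f_rc_19_3 lc_f_rc_14_3 lc_f_rc_21_1 lc_f_rc_14_3 lc_f_rc_17_3 lc_f_rc_14_3) (@D3.rec (fun _ => (Cert rels S Gen.f)) lc_f_rc_10_3 lc_f_rc_21_1 lc_f_rc_20_1 lc_f_rc_5_3 lc_f_rc_14_3 lc_f_rc_10_1 lc_f_rc_5_3 lc_f_rc_20_1 lc_f_rc_10_1 lc_f_rc_5_1 lc_f_rc_5_1 lc_f_rc_17_3 lc_f_rc_14_3 lc_f_rc_5_3 lc_f_rc_17_1 lc_f_rc_19_3 lc_f_rc_21_1 lc_f_rc_10_3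 lc_f_rc_19_5 lc_f_rc_21_1 lc_f_rc_14_3 lc_f_rc_21_1 lc_f_rc_14_3 lc_f_rc_21_1 lc_f_Cert_tree lc_f_rc_17_1 lc_f_rc_20_1 lc_f_rc_10_3 lc_f_rc_20_1 lc_f_rc_10_3 lc_f_rc_14_3 lc_f_rc_10_1 lc_f_rc_14_3 lc_f_rc_10_1 lc_f_rc_17_3 lc_f_rc_20_1 lc_f_rc_5_3 lc_f_rc_20_1 lc_f_rc_10_3 lc_f_rc_10_3 lc_f_rc_20_1 lc_f_rc_10_3 lc_f_rc_21_1 lc_f_rc_5_1 lc_f_rc_20_1 lc_f_rc_20_1 lc_f_rc_17_3 lc_f_rc_14_3 lc_f_rc_14_3 lc_f_rc_5_1 lc_f_rc_14_1 lc_f_rc_17_3 lc_f_Cert_tree lc_f_rc_21_1 lc_f_rc_20_1 lc_f_rc_14_3 lc_f_rc_17_3 lc_f_rc_17_1 lc_f_rc_10_3 lc_f_rc_10_1 lc_f_rc_10_1 lc_f_rc_10_1) (@D3.rec (fun _ => (Cert rels S Gen.f)) lc_f_rc_20_1 lc_f_rc_14_3 lc_f_rc_20_1 lc_f_rc_20_1 lc_f_rc_21_1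 lc_f_rc_20_1 lc_f_rc_21_1 lc_f_rc_20_1 lc_f_rc_17_1 lc_f_rc_21_1 lc_f_rc_17_3 lc_f_rc_14_1 lc_f_rc_20_1 lc_f_rc_14_3 lc_f_rc_19_1 lc_f_rc_20_1 lc_f_Cert_tree lc_f_rc_10_3 lc_f_rc_19_3 lc_f_rc_22_1 lc_f_rc_22_1 lc_f_rc_14_1 lc_f_rc_10_3 lc_f_rc_14_3 lc_f_rc_19_3 lc_f_rc_10_3 lc_f_rc_22_1 lc_f_Cert_tree lc_f_rc_10_3 lc_f_rc_14_3 lc_f_rc_10_3 lc_f_rc_20_1 lc_f_rc_14_3 lc_f_rc_14_3 lc_f_rc_10_1 lc_f_rc_10_1 lc_f_rc_14_1 lc_f_rc_17_3 lc_f_rc_20_1 lc_f_rc_20_1 lc_f_rc_10_1 lc_f_rc_14_3 lc_f_rc_14_1 lc_f_rc_17_3 lc_f_rc_19_3 lc_f_rc_20_1 lc_f_rc_14_1 lc_f_rc_17_1 lc_f_rc_14_1 lc_f_rc_5_1 lc_f_rc_10_3 lc_f_rc_20_1 lc_f_rc_14_1 lc_f_rc_17_3 lc_f_rc_14_1 lc_f_rc_14_1 lc_f_rc_10_3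 lc_f_rc_19_3 lc_f_rc_17_3 lc_f_rc_14_3 lc_f_rc_10_1 lc_f_rc_14_3) (@D3.rec (fun _ => (Cert rels S Gen.f)) lc_f_rc_17_3 lc_f_rc_21_1 lc_f_rc_14_3 lc_f_Cert_tree lc_f_rc_5_1 lc_f_rc_20_1 lc_f_rc_10_3 lc_f_rc_21_1 lc_f_rc_14_1 lc_f_rc_20_1 lc_f_rc_10_1 lc_f_rc_17_3 lc_f_rc_5_3 lc_f_rc_14_1 lc_f_rc_17_3 lc_f_rc_19_3 lc_f_rc_20_1 lc_f_rc_14_1 lc_f_rc_14_3 lc_f_rc_14_3 lc_f_rc_17_3 lc_f_rc_20_1 lc_f_rc_21_1 lc_f_rc_20_1 lc_f_rc_14_3 lc_f_rc_5_1 lc_f_rc_19_3 lc_f_rc_10_1 lc_f_rc_10_3 lc_f_rc_10_3 lc_f_rc_10_3 lc_f_rc_10_1 lc_f_rc_14_3 lc_f_rc_10_3 lc_f_rc_19_5 lc_f_Cert_tree lc_f_rc_20_1 lc_f_rc_5_3 lc_f_rc_10_3 lc_f_rc_21_1 lc_f_rc_19_5 lc_f_rc_17_3 lc_f_rc_20_1 lc_f_rc_10_3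 lc_f_rc_21_1 lc_f_Cert_tree lc_f_rc_20_1 lc_f_rc_10_3 lc_f_rc_5_3 lc_f_rc_20_1 lc_f_rc_20_1 lc_f_rc_20_1 lc_f_rc_17_3 lc_f_rc_20_1 lc_f_rc_21_1 lc_f_rc_10_3 lc_f_rc_19_3 lc_f_Cert_tree lc_f_rc_5_3 lc_f_rc_14_3 lc_f_rc_17_1 lc_f_rc_20_1) (@D3.rec (fun _ => (Cert rels S Gen.f)) lc_f_rc_20_1 lc_f_rc_14_3 lc_f_rc_17_3 lc_f_rc_17_3 lc_f_rc_19_3 lc_f_rc_5_3 lc_f_Cert_tree lc_f_rc_14_3 lc_f_rc_21_1 lc_f_rc_14_1 lc_f_rc_17_3 lc_f_rc_14_1 lc_f_rc_5_1 lc_f_rc_17_3 lc_f_rc_14_3 lc_f_rc_20_1 lc_f_rc_14_3 lc_f_rc_10_3 lc_f_rc_17_3 lc_f_rc_17_3 lc_f_rc_20_1 lc_f_rc_10_1 lc_f_rc_10_3 lc_f_rc_17_3 lc_f_rc_10_3 lc_f_rc_17_1 lc_f_rc_19_3 lc_f_rc_14_1 lc_f_rc_10_1 lc_f_rc_20_1 lc_f_rc_19_3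 lc_f_rc_21_1 lc_f_rc_5_3 lc_f_rc_20_1 lc_f_rc_19_5 lc_f_rc_19_3 lc_f_rc_19_5 lc_f_rc_21_1 lc_f_rc_17_1 lc_f_rc_20_1 lc_f_rc_5_3 lc_f_rc_17_3 lc_f_rc_17_3 lc_f_rc_20_1 lc_f_rc_5_1 lc_f_rc_20_1 lc_f_rc_14_3 lc_f_Cert_tree lc_f_rc_21_1 lc_f_rc_20_1 lc_f_rc_5_3 lc_f_rc_5_1 lc_f_rc_19_1 lc_f_rc_19_3 lc_f_rc_20_1 lc_f_rc_10_3 lc_f_rc_5_3 lc_f_rc_21_1 lc_f_rc_14_1 lc_f_rc_19_3 lc_f_rc_17_1 lc_f_rc_20_1) (@D3.rec (fun _ => (Cert rels S Gen.f)) lc_f_rc_17_1 lc_f_rc_5_1 lc_f_rc_19_5 lc_f_rc_19_1 lc_f_rc_20_1 lc_f_rc_21_1 lc_f_rc_20_1 lc_f_rc_5_3 lc_f_rc_20_1 lc_f_rc_10_3 lc_f_rc_21_1 lc_f_rc_19_1 lc_f_rc_17_1 lc_f_rc_22_1 lc_f_rc_20_1 lc_f_rc_17_1 lc_f_rc_17_3 lc_f_rc_17_3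 lc_f_rc_17_3 lc_f_rc_14_3 lc_f_rc_17_1 lc_f_rc_10_3 lc_f_rc_17_3 lc_f_rc_20_1 lc_f_rc_17_1 lc_f_rc_19_3 lc_f_rc_17_3 lc_f_rc_21_1 lc_f_rc_20_1 lc_f_rc_20_1 lc_f_rc_21_1 lc_f_rc_17_3 lc_f_rc_14_3 lc_f_rc_19_5 lc_f_rc_20_1 lc_f_rc_19_3 lc_f_rc_5_1 lc_f_rc_14_1 lc_f_rc_17_3 lc_f_rc_5_1 lc_f_rc_10_3 lc_f_rc_5_1 lc_f_rc_10_3 lc_f_rc_20_1 lc_f_rc_19_3 lc_f_rc_10_1 lc_f_rc_10_3 lc_f_rc_20_1 lc_f_rc_21_1 lc_f_rc_14_3 lc_f_rc_20_1 lc_f_rc_14_3 lc_f_rc_10_3 lc_f_rc_20_1 lc_f_rc_21_1 lc_f_Cert_tree lc_f_rc_21_1 lc_f_rc_20_1 lc_f_rc_17_3 lc_f_rc_20_1 lc_f_Cert_tree lc_f_Cert_tree) (@D3.rec (fun _ => (Cert rels S Gen.f)) lc_f_rc_20_1 lc_f_rc_14_3 lc_f_rc_17_1 lc_f_rc_10_1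 lc_f_rc_5_1 lc_f_rc_21_1 lc_f_rc_14_3 lc_f_rc_14_3 lc_f_rc_21_1 lc_f_rc_14_3 lc_f_Cert_tree lc_f_rc_20_1 lc_f_rc_10_3 lc_f_rc_14_3 lc_f_rc_5_3 lc_f_rc_10_3 lc_f_rc_10_3 lc_f_rc_14_1 lc_f_rc_10_3 lc_f_rc_21_1 lc_f_rc_20_1 lc_f_rc_20_1 lc_f_rc_20_1 lc_f_rc_21_1 lc_f_rc_17_3 lc_f_rc_20_1 lc_f_Cert_tree lc_f_rc_17_1 lc_f_rc_20_1 lc_f_rc_21_1 lc_f_rc_10_1 lc_f_rc_20_1 lc_f_rc_21_1 lc_f_rc_10_3 lc_f_rc_20_1 lc_f_rc_17_3 lc_f_rc_14_3 lc_f_rc_10_1 lc_f_rc_20_1 lc_f_rc_21_1 lc_f_rc_20_1 lc_f_rc_19_3 lc_f_rc_14_3 lc_f_rc_21_1 lc_f_rc_14_1 lc_f_rc_10_3 lc_f_rc_19_3 lc_f_rc_17_3 lc_f_rc_17_3 lc_f_rc_14_1 lc_f_Cert_tree lc_f_rc_20_1 lc_f_rc_14_1 lc_f_rc_17_3 lc_f_rc_5_1 lc_f_rc_10_3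 lc_f_rc_21_1 lc_f_rc_10_3 lc_f_rc_20_1 lc_f_rc_10_1 lc_f_rc_14_3 lc_f_rc_21_1) (@D3.rec (fun _ => (Cert rels S Gen.f)) lc_f_rc_19_5 lc_f_rc_17_3 lc_f_rc_20_1 lc_f_rc_21_1 lc_f_rc_5_3 lc_f_rc_21_1 lc_f_rc_17_3 lc_f_rc_5_3 lc_f_rc_17_3 lc_f_rc_5_3 lc_f_rc_17_3 lc_f_rc_5_1 lc_f_rc_14_3 lc_f_rc_14_3 lc_f_rc_20_1 lc_f_rc_10_3 lc_f_rc_14_3 lc_f_Cert_tree lc_f_rc_19_1 lc_f_rc_17_1 lc_f_rc_20_1 lc_f_rc_20_1 lc_f_rc_21_1 lc_f_rc_19_1 lc_f_rc_14_3 lc_f_rc_20_1 lc_f_rc_19_3 lc_f_rc_14_3 lc_f_rc_17_3 lc_f_rc_14_3 lc_f_rc_20_1 lc_f_rc_5_1 lc_f_rc_21_1 lc_f_rc_21_1 lc_f_rc_20_1 lc_f_rc_20_1 lc_f_rc_21_1 lc_f_rc_5_3 lc_f_rc_5_3 lc_f_rc_14_3 lc_f_rc_20_1 lc_f_rc_14_3 lc_f_rc_5_1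 lc_f_rc_14_3 lc_f_rc_21_1 lc_f_rc_21_1 lc_f_rc_17_1 lc_f_rc_14_3 lc_f_rc_14_1 lc_f_rc_17_3 lc_f_rc_19_1 lc_f_rc_10_3 lc_f_rc_21_1 lc_f_Cert_tree lc_f_rc_10_3 lc_f_rc_10_3 lc_f_Cert_tree lc_f_rc_10_3 lc_f_rc_5_3 lc_f_rc_14_3 lc_f_rc_10_3 lc_f_rc_20_1) (@D3.rec (fun _ => (Cert rels S Gen.f)) lc_f_rc_5_1 lc_f_rc_14_3 lc_f_rc_14_3 lc_f_rc_21_1 lc_f_rc_14_3 lc_f_rc_22_1 lc_f_rc_10_3 lc_f_rc_17_3 lc_f_rc_20_1 lc_f_rc_21_1 lc_f_rc_21_1 lc_f_rc_21_1 lc_f_rc_20_1 lc_f_Cert_tree lc_f_rc_20_1 lc_f_rc_17_1 lc_f_rc_10_3 lc_f_rc_19_1 lc_f_rc_19_5 lc_f_rc_17_1 lc_f_rc_14_3 lc_f_rc_19_5 lc_f_rc_10_3 lc_f_rc_17_1 lc_f_rc_14_3 lc_f_rc_14_3 lc_f_rc_17_3 lc_f_rc_21_1 lc_f_rc_10_3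 lc_f_rc_14_3 lc_f_rc_17_3 lc_f_rc_17_3 lc_f_rc_14_3 lc_f_Cert_tree lc_f_rc_14_3 lc_f_rc_10_3 lc_f_rc_17_3 lc_f_rc_17_3 lc_f_rc_21_1 lc_f_Cert_tree lc_f_rc_20_1 lc_f_rc_5_3 lc_f_rc_10_3 lc_f_rc_21_1 lc_f_rc_14_3 lc_f_rc_10_1 lc_f_rc_17_3 lc_f_rc_5_3 lc_f_rc_20_1 lc_f_rc_21_1 lc_f_rc_20_1 lc_f_rc_14_1 lc_f_rc_20_1 lc_f_rc_10_1 lc_f_rc_17_1 lc_f_rc_10_3 lc_f_rc_14_3 lc_f_rc_10_1 lc_f_rc_20_1 lc_f_rc_21_1 lc_f_rc_10_3 lc_f_rc_14_3) (@D3.rec (fun _ => (Cert rels S Gen.f)) lc_f_rc_14_3 lc_f_Cert_tree lc_f_rc_14_1 lc_f_rc_5_1 lc_f_rc_14_3 lc_f_rc_20_1 lc_f_rc_20_1 lc_f_rc_10_3 lc_f_rc_10_3 lc_f_rc_19_3 lc_f_rc_10_3 lc_f_rc_5_1 lc_f_rc_14_3 lc_f_rc_10_1 lc_f_rc_21_1 lc_f_Cert_tree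 lc_f_rc_20_1 lc_f_rc_14_1 lc_f_rc_5_3 lc_f_rc_14_3 lc_f_rc_19_5 lc_f_rc_10_1 lc_f_rc_19_5 lc_f_rc_17_3 lc_f_rc_21_1 lc_f_rc_17_3 lc_f_Cert_tree lc_f_rc_20_1 lc_f_rc_10_3 lc_f_rc_21_1 lc_f_rc_21_1 lc_f_rc_14_3 lc_f_rc_10_3 lc_f_rc_17_1 lc_f_rc_14_3 lc_f_rc_14_1 lc_f_rc_19_3 lc_f_rc_21_1 lc_f_rc_10_3 lc_f_rc_17_3 lc_f_rc_20_1 lc_f_rc_10_3 lc_f_rc_14_3 lc_f_rc_14_3 lc_f_rc_14_1 lc_f_rc_5_3 lc_f_Cert_tree lc_f_rc_21_1 lc_f_rc_20_1 lc_f_rc_20_1 lc_f_rc_17_3 lc_f_rc_17_3 lc_f_rc_14_3 lc_f_Cert_tree lc_f_rc_22_1 lc_f_rc_19_1 lc_f_rc_5_1 lc_f_rc_17_3 lc_f_rc_14_3 lc_f_rc_10_1 lc_f_rc_20_1 lc_f_rc_19_3)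
def ce_f_23 : D2 → D3 → (Cert rels S Gen.f) := @D2.rec (fun _ => D3 → (Cert rels S Gen.f)) (@D3.rec (fun _ => (Cert rels S Gen.f)) lc_f_rc_10_3 lc_f_rc_17_3 lc_f_rc_14_3 lc_f_rc_19_3 lc_f_rc_17_3 lc_f_rc_14_3 lc_f_rc_17_3 lc_f_rc_17_3 lc_f_rc_20_1 lc_f_rc_14_1 lc_f_rc_21_1 lc_f_rc_21_1 lc_f_rc_14_1 lc_f_Cert_tree lc_f_rc_19_3 lc_f_rc_10_3 lc_f_rc_20_1 lc_f_rc_10_3 lc_f_rc_22_1 lc_f_rc_10_3 lc_f_rc_19_5 lc_f_rc_22_1 lc_f_rc_21_1 lc_f_rc_14_3 lc_f_rc_17_3 lc_f_rc_19_5 lc_f_rc_14_3 lc_f_rc_17_3 lc_f_rc_21_1 lc_f_rc_14_3 lc_f_rc_20_1 lc_f_rc_21_1 lc_f_rc_20_1 lc_f_rc_22_1 lc_f_rc_19_5 lc_f_Cert_tree lc_f_rc_10_3 lc_f_rc_21_1 lc_f_rc_19_5 lc_f_rc_21_1 lc_f_rc_20_1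 lc_f_rc_14_3 lc_f_rc_14_3 lc_f_rc_21_1 lc_f_rc_14_1 lc_f_rc_19_1 lc_f_rc_19_3 lc_f_rc_14_3 lc_f_rc_20_1 lc_f_rc_5_3 lc_f_rc_20_1 lc_f_rc_14_1 lc_f_rc_21_1 lc_f_rc_20_1 lc_f_rc_20_1 lc_f_rc_10_3 lc_f_rc_19_3 lc_f_rc_14_1 lc_f_rc_22_1 lc_f_rc_22_1 lc_f_rc_19_3 lc_f_rc_5_3) (@D3.rec (fun _ => (Cert rels S Gen.f)) lc_f_rc_14_3 lc_f_rc_17_3 lc_f_rc_5_1 lc_f_rc_14_3 lc_f_rc_14_3 lc_f_rc_21_1 lc_f_rc_10_1 lc_f_rc_20_1 lc_f_rc_19_3 lc_f_rc_17_1 lc_f_rc_20_1 lc_f_rc_14_3 lc_f_rc_10_3 lc_f_rc_10_3 lc_f_rc_19_3 lc_f_rc_17_1 lc_f_rc_20_1 lc_f_rc_5_3 lc_f_rc_14_1 lc_f_rc_14_3 lc_f_rc_14_1 lc_f_rc_20_1 lc_f_rc_10_1 lc_f_rc_21_1 lc_f_rc_20_1 lc_f_rc_20_1 lc_f_rc_17_3 lc_f_rc_17_3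 lc_f_rc_20_1 lc_f_rc_10_3 lc_f_rc_20_1 lc_f_rc_5_3 lc_f_rc_5_1 lc_f_rc_5_3 lc_f_rc_21_1 lc_f_rc_5_3 lc_f_rc_14_1 lc_f_rc_10_1 lc_f_rc_17_3 lc_f_rc_17_3 lc_f_rc_14_3 lc_f_rc_5_3 lc_f_rc_5_1 lc_f_rc_20_1 lc_f_rc_20_1 lc_f_rc_10_1 lc_f_rc_5_3 lc_f_rc_10_1 lc_f_rc_5_1 lc_f_rc_5_3 lc_f_rc_20_1 lc_f_rc_10_3 lc_f_rc_20_1 lc_f_rc_5_3 lc_f_rc_10_3 lc_f_rc_17_1 lc_f_rc_14_3 lc_f_rc_21_1 lc_f_rc_14_3 lc_f_rc_10_1 lc_f_rc_20_1 lc_f_rc_21_1) (@D3.rec (fun _ => (Cert rels S Gen.f)) lc_f_rc_17_3 lc_f_rc_20_1 lc_f_rc_21_1 lc_f_rc_17_1 lc_f_rc_10_3 lc_f_rc_17_3 lc_f_rc_20_1 lc_f_rc_14_3 lc_f_rc_17_3 lc_f_rc_21_1 lc_f_rc_17_3 lc_f_rc_22_1 lc_f_rc_17_3 lc_f_rc_19_3 lc_f_Cert_tree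 lc_f_rc_10_1 lc_f_Cert_tree lc_f_rc_19_3 lc_f_rc_14_1 lc_f_rc_14_1 lc_f_rc_20_1 lc_f_rc_19_1 lc_f_rc_10_3 lc_f_rc_19_3 lc_f_rc_5_3 lc_f_rc_20_1 lc_f_rc_21_1 lc_f_rc_19_5 lc_f_rc_22_1 lc_f_rc_14_3 lc_f_rc_10_3 lc_f_rc_14_3 lc_f_rc_21_1 lc_f_rc_10_3 lc_f_rc_19_5 lc_f_rc_20_1 lc_f_rc_5_1 lc_f_rc_14_3 lc_f_Cert_tree lc_f_rc_20_1 lc_f_rc_17_3 lc_f_rc_14_3 lc_f_rc_17_3 lc_f_rc_14_3 lc_f_rc_21_1 lc_f_rc_20_1 lc_f_rc_14_3 lc_f_rc_14_3 lc_f_rc_22_1 lc_f_rc_20_1 lc_f_rc_10_3 lc_f_rc_14_3 lc_f_rc_21_1 lc_f_rc_22_1 lc_f_rc_21_1 lc_f_rc_20_1 lc_f_rc_21_1 lc_f_rc_20_1 lc_f_rc_5_3 lc_f_rc_10_3 lc_f_rc_17_3 lc_f_rc_21_1) (@D3.rec (fun _ => (Cert rels S Gen.f)) lc_f_rc_20_1 lc_f_rc_10_1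 lc_f_Cert_tree lc_f_rc_14_1 lc_f_rc_5_1 lc_f_Cert_tree lc_f_rc_20_1 lc_f_rc_14_3 lc_f_rc_17_3 lc_f_rc_14_3 lc_f_rc_21_1 lc_f_rc_21_1 lc_f_rc_21_1 lc_f_Cert_tree lc_f_rc_10_3 lc_f_rc_17_1 lc_f_rc_20_1 lc_f_rc_20_1 lc_f_rc_5_3 lc_f_rc_21_1 lc_f_rc_17_3 lc_f_rc_10_3 lc_f_rc_5_1 lc_f_rc_17_1 lc_f_rc_14_1 lc_f_rc_19_3 lc_f_rc_17_1 lc_f_rc_10_3 lc_f_rc_17_3 lc_f_rc_20_1 lc_f_rc_19_1 lc_f_rc_5_3 lc_f_rc_5_3 lc_f_rc_21_1 lc_f_Cert_tree lc_f_rc_20_1 lc_f_rc_10_3 lc_f_rc_19_1 lc_f_rc_10_3 lc_f_rc_14_3 lc_f_rc_21_1 lc_f_rc_10_3 lc_f_rc_10_3 lc_f_rc_17_3 lc_f_rc_10_1 lc_f_rc_20_1 lc_f_rc_20_1 lc_f_rc_17_3 lc_f_rc_19_3 lc_f_rc_21_1 lc_f_rc_19_1 lc_f_rc_21_1 lc_f_rc_14_1 lc_f_rc_14_3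 lc_f_rc_19_3 lc_f_rc_21_1 lc_f_rc_10_1 lc_f_Cert_tree lc_f_rc_20_1 lc_f_rc_20_1 lc_f_rc_14_1 lc_f_rc_10_1) (@D3.rec (fun _ => (Cert rels S Gen.f)) lc_f_rc_10_3 lc_f_rc_20_1 lc_f_rc_10_3 lc_f_rc_17_1 lc_f_rc_20_1 lc_f_rc_20_1 lc_f_rc_17_3 lc_f_rc_17_3 lc_f_rc_10_3 lc_f_rc_14_3 lc_f_rc_21_1 lc_f_rc_10_3 lc_f_rc_10_3 lc_f_rc_10_3 lc_f_rc_19_1 lc_f_rc_20_1 lc_f_Cert_tree lc_f_rc_10_3 lc_f_rc_5_1 lc_f_rc_20_1 lc_f_rc_14_3 lc_f_rc_21_1 lc_f_rc_20_1 lc_f_rc_10_3 lc_f_rc_14_3 lc_f_rc_14_1 lc_f_rc_10_3 lc_f_rc_5_3 lc_f_rc_14_1 lc_f_rc_21_1 lc_f_rc_19_3 lc_f_rc_10_1 lc_f_rc_21_1 lc_f_rc_20_1 lc_f_rc_10_3 lc_f_rc_19_3 lc_f_rc_10_3 lc_f_rc_21_1 lc_f_rc_21_1 lc_f_rc_5_1 lc_f_rc_20_1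 lc_f_rc_17_3 lc_f_rc_20_1 lc_f_rc_21_1 lc_f_rc_20_1 lc_f_rc_20_1 lc_f_rc_10_3 lc_f_rc_19_3 lc_f_rc_20_1 lc_f_rc_21_1 lc_f_Cert_tree lc_f_rc_14_3 lc_f_Cert_tree lc_f_rc_21_1 lc_f_rc_10_3 lc_f_rc_5_1 lc_f_rc_14_3 lc_f_rc_19_3 lc_f_rc_17_3 lc_f_rc_10_3 lc_f_Cert_tree lc_f_rc_21_1) (@D3.rec (fun _ => (Cert rels S Gen.f)) lc_f_rc_20_1 lc_f_rc_17_3 lc_f_Cert_tree lc_f_rc_5_3 lc_f_rc_20_1 lc_f_rc_14_3 lc_f_rc_10_3 lc_f_Cert_tree lc_f_rc_14_3 lc_f_rc_14_1 lc_f_rc_20_1 lc_f_rc_10_1 lc_f_rc_5_1 lc_f_rc_5_1 lc_f_rc_20_1 lc_f_rc_20_1 lc_f_rc_5_3 lc_f_rc_5_1 lc_f_rc_17_3 lc_f_rc_5_1 lc_f_rc_17_1 lc_f_rc_20_1 lc_f_rc_5_1 lc_f_rc_5_1 lc_f_rc_21_1 lc_f_rc_20_1 lc_f_rc_19_3 lc_f_rc_5_1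 lc_f_Cert_tree lc_f_Cert_tree lc_f_rc_10_1 lc_f_rc_10_3 lc_f_rc_20_1 lc_f_rc_21_1 lc_f_Cert_tree lc_f_rc_21_1 lc_f_rc_20_1 lc_f_rc_20_1 lc_f_rc_21_1 lc_f_rc_5_3 lc_f_rc_14_3 lc_f_rc_19_5 lc_f_rc_14_1 lc_f_rc_19_5 lc_f_rc_17_3 lc_f_rc_19_1 lc_f_rc_17_3 lc_f_rc_17_3 lc_f_rc_20_1 lc_f_rc_10_3 lc_f_rc_17_3 lc_f_rc_21_1 lc_f_rc_14_3 lc_f_rc_19_3 lc_f_rc_21_1 lc_f_rc_14_3 lc_f_rc_20_1 lc_f_rc_10_3 lc_f_rc_17_3 lc_f_rc_10_3 lc_f_rc_21_1 lc_f_rc_21_1) (@D3.rec (fun _ => (Cert rels S Gen.f)) lc_f_rc_17_1 lc_f_rc_22_1 lc_f_rc_20_1 lc_f_rc_10_3 lc_f_rc_14_3 lc_f_rc_10_3 lc_f_rc_5_1 lc_f_rc_14_3 lc_f_rc_5_3 lc_f_rc_10_3 lc_f_rc_14_3 lc_f_rc_17_1 lc_f_rc_19_3 lc_f_rc_5_3 lc_f_rc_17_3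 lc_f_rc_20_1 lc_f_rc_10_3 lc_f_rc_17_3 lc_f_rc_21_1 lc_f_rc_10_3 lc_f_rc_17_3 lc_f_rc_5_3 lc_f_rc_21_1 lc_f_rc_20_1 lc_f_rc_5_1 lc_f_rc_10_1 lc_f_rc_19_3 lc_f_rc_17_1 lc_f_rc_19_3 lc_f_rc_5_1 lc_f_rc_20_1 lc_f_rc_22_1 lc_f_rc_10_3 lc_f_rc_17_1 lc_f_rc_17_3 lc_f_rc_20_1 lc_f_rc_19_1 lc_f_rc_10_3 lc_f_rc_17_3 lc_f_rc_10_1 lc_f_rc_21_1 lc_f_rc_17_3 lc_f_rc_14_3 lc_f_rc_20_1 lc_f_rc_22_1 lc_f_rc_19_1 lc_f_rc_10_3 lc_f_rc_20_1 lc_f_rc_17_3 lc_f_rc_5_1 lc_f_rc_20_1 lc_f_rc_20_1 lc_f_rc_5_3 lc_f_rc_17_3 lc_f_rc_17_1 lc_f_rc_20_1 lc_f_rc_17_3 lc_f_rc_10_3 lc_f_rc_14_3 lc_f_rc_14_3 lc_f_rc_10_3 lc_f_rc_10_1) (@D3.rec (fun _ => (Cert rels S Gen.f)) lc_f_rc_20_1 lc_f_rc_20_1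 lc_f_rc_10_1 lc_f_rc_14_1 lc_f_rc_5_1 lc_f_rc_10_3 lc_f_rc_20_1 lc_f_rc_14_3 lc_f_rc_19_3 lc_f_rc_5_3 lc_f_rc_20_1 lc_f_rc_19_3 lc_f_rc_19_3 lc_f_rc_14_3 lc_f_Cert_tree lc_f_rc_5_3 lc_f_rc_20_1 lc_f_rc_10_1 lc_f_rc_21_1 lc_f_rc_20_1 lc_f_rc_14_3 lc_f_rc_17_3 lc_f_rc_10_3 lc_f_rc_5_3 lc_f_rc_17_3 lc_f_rc_10_3 lc_f_rc_20_1 lc_f_rc_5_1 lc_f_rc_10_1 lc_f_rc_19_5 lc_f_rc_10_3 lc_f_rc_5_1 lc_f_rc_17_1 lc_f_rc_20_1 lc_f_Cert_tree lc_f_rc_19_3 lc_f_rc_22_1 lc_f_rc_20_1 lc_f_rc_20_1 lc_f_rc_10_3 lc_f_rc_14_3 lc_f_rc_19_1 lc_f_rc_20_1 lc_f_rc_10_3 lc_f_rc_17_1 lc_f_rc_21_1 lc_f_rc_10_3 lc_f_rc_20_1 lc_f_rc_20_1 lc_f_rc_21_1 lc_f_rc_14_3 lc_f_rc_10_3 lc_f_Cert_tree lc_f_rc_21_1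 lc_f_rc_20_1 lc_f_rc_21_1 lc_f_rc_5_1 lc_f_rc_17_3 lc_f_rc_21_1 lc_f_rc_20_1 lc_f_rc_20_1 lc_f_rc_10_3) (@D3.rec (fun _ => (Cert rels S Gen.f)) lc_f_rc_17_3 lc_f_Cert_tree lc_f_rc_21_1 lc_f_rc_20_1 lc_f_rc_20_1 lc_f_rc_19_3 lc_f_rc_19_3 lc_f_rc_10_3 lc_f_rc_21_1 lc_f_rc_17_3 lc_f_rc_20_1 lc_f_rc_14_1 lc_f_rc_10_1 lc_f_rc_20_1 lc_f_rc_20_1 lc_f_rc_21_1 lc_f_rc_20_1 lc_f_rc_17_3 lc_f_rc_10_3 lc_f_rc_20_1 lc_f_rc_20_1 lc_f_rc_10_3 lc_f_rc_10_3 lc_f_rc_14_3 lc_f_rc_20_1 lc_f_rc_20_1 lc_f_rc_14_3 lc_f_rc_10_3 lc_f_rc_17_3 lc_f_rc_14_3 lc_f_rc_21_1 lc_f_rc_14_3 lc_f_rc_19_3 lc_f_rc_17_3 lc_f_rc_21_1 lc_f_rc_17_3 lc_f_rc_19_3 lc_f_rc_14_3 lc_f_rc_10_1 lc_f_rc_17_3 lc_f_rc_5_1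 lc_f_rc_17_3 lc_f_rc_22_1 lc_f_rc_22_1 lc_f_rc_17_3 lc_f_rc_17_1 lc_f_rc_10_1 lc_f_rc_21_1 lc_f_rc_14_3 lc_f_rc_17_1 lc_f_rc_20_1 lc_f_rc_20_1 lc_f_rc_5_1 lc_f_rc_20_1 lc_f_rc_10_3 lc_f_rc_20_1 lc_f_rc_10_1 lc_f_rc_10_3 lc_f_rc_20_1 lc_f_rc_20_1 lc_f_rc_10_3 lc_f_rc_19_3) (@D3.rec (fun _ => (Cert rels S Gen.f)) lc_f_Cert_tree lc_f_rc_17_3 lc_f_rc_21_1 lc_f_rc_14_1 lc_f_rc_20_1 lc_f_rc_10_1 lc_f_rc_22_1 lc_f_rc_17_3 lc_f_rc_20_1 lc_f_rc_21_1 lc_f_rc_14_1 lc_f_rc_20_1 lc_f_rc_5_1 lc_f_rc_14_1 lc_f_rc_5_1 lc_f_rc_19_3 lc_f_rc_19_5 lc_f_rc_19_3 lc_f_rc_20_1 lc_f_rc_21_1 lc_f_rc_10_1 lc_f_rc_14_1 lc_f_rc_17_3 lc_f_rc_19_5 lc_f_rc_20_1 lc_f_rc_20_1 lc_f_rc_10_3 lc_f_rc_20_1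 lc_f_rc_19_3 lc_f_rc_5_1 lc_f_rc_21_1 lc_f_rc_10_3 lc_f_rc_21_1 lc_f_Cert_tree lc_f_rc_20_1 lc_f_rc_19_3 lc_f_rc_5_3 lc_f_rc_17_1 lc_f_rc_20_1 lc_f_rc_17_3 lc_f_rc_14_3 lc_f_rc_14_3 lc_f_rc_5_1 lc_f_rc_10_3 lc_f_rc_17_3 lc_f_rc_19_3 lc_f_rc_10_3 lc_f_rc_17_1 lc_f_rc_20_1 lc_f_rc_14_3 lc_f_rc_10_3 lc_f_rc_17_3 lc_f_rc_20_1 lc_f_rc_20_1 lc_f_rc_5_3 lc_f_rc_5_1 lc_f_rc_14_3 lc_f_rc_19_3 lc_f_rc_10_3 lc_f_rc_21_1 lc_f_rc_17_3 lc_f_rc_17_3) (@D3.rec (fun _ => (Cert rels S Gen.f)) lc_f_rc_21_1 lc_f_rc_10_3 lc_f_rc_19_3 lc_f_rc_5_1 lc_f_rc_10_1 lc_f_rc_5_1 lc_f_rc_20_1 lc_f_rc_19_5 lc_f_rc_19_5 lc_f_rc_14_3 lc_f_rc_20_1 lc_f_rc_20_1 lc_f_rc_17_1 lc_f_rc_10_3 lc_f_rc_10_3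 lc_f_rc_5_1 lc_f_rc_21_1 lc_f_rc_20_1 lc_f_rc_14_3 lc_f_rc_19_1 lc_f_rc_5_3 lc_f_rc_19_3 lc_f_rc_17_3 lc_f_rc_20_1 lc_f_rc_14_3 lc_f_rc_5_1 lc_f_rc_20_1 lc_f_rc_21_1 lc_f_rc_14_1 lc_f_rc_5_3 lc_f_rc_14_1 lc_f_rc_10_1 lc_f_rc_20_1 lc_f_rc_5_3 lc_f_rc_20_1 lc_f_rc_5_3 lc_f_rc_20_1 lc_f_rc_20_1 lc_f_Cert_tree lc_f_rc_20_1 lc_f_rc_20_1 lc_f_rc_14_1 lc_f_rc_20_1 lc_f_rc_20_1 lc_f_rc_17_3 lc_f_rc_20_1 lc_f_rc_21_1 lc_f_rc_10_3 lc_f_rc_20_1 lc_f_rc_21_1 lc_f_rc_14_3 lc_f_rc_10_3 lc_f_rc_10_3 lc_f_rc_21_1 lc_f_rc_20_1 lc_f_rc_14_3 lc_f_rc_5_3 lc_f_rc_19_5 lc_f_rc_5_3 lc_f_rc_21_1 lc_f_rc_14_1 lc_f_rc_20_1) (@D3.rec (fun _ => (Cert rels S Gen.f)) lc_f_rc_20_1 lc_f_rc_21_1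 lc_f_rc_5_3 lc_f_rc_17_3 lc_f_rc_10_3 lc_f_rc_21_1 lc_f_rc_14_3 lc_f_rc_21_1 lc_f_rc_21_1 lc_f_rc_20_1 lc_f_rc_20_1 lc_f_rc_14_1 lc_f_rc_20_1 lc_f_rc_10_3 lc_f_rc_20_1 lc_f_rc_14_3 lc_f_rc_10_1 lc_f_rc_20_1 lc_f_rc_5_3 lc_f_rc_10_3 lc_f_rc_10_3 lc_f_Cert_tree lc_f_rc_20_1 lc_f_rc_21_1 lc_f_rc_10_3 lc_f_rc_14_3 lc_f_Cert_tree lc_f_rc_19_5 lc_f_rc_19_3 lc_f_rc_14_3 lc_f_rc_19_1 lc_f_rc_17_3 lc_f_rc_17_3 lc_f_rc_10_3 lc_f_rc_17_3 lc_f_rc_10_3 lc_f_Cert_tree lc_f_rc_14_3 lc_f_rc_5_3 lc_f_rc_5_3 lc_f_rc_10_3 lc_f_rc_14_3 lc_f_rc_14_1 lc_f_rc_14_3 lc_f_rc_14_3 lc_f_rc_20_1 lc_f_rc_17_3 lc_f_rc_10_1 lc_f_rc_21_1 lc_f_rc_20_1 lc_f_rc_17_3 lc_f_rc_5_1 lc_f_rc_21_1 lc_f_rc_14_3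 lc_f_rc_10_3 lc_f_rc_14_1 lc_f_rc_14_1 lc_f_rc_14_3 lc_f_rc_14_3 lc_f_rc_17_3 lc_f_rc_20_1 lc_f_rc_14_3) (@D3.rec (fun _ => (Cert rels S Gen.f)) lc_f_rc_21_1 lc_f_rc_21_1 lc_f_rc_10_3 lc_f_rc_19_1 lc_f_rc_14_3 lc_f_rc_14_1 lc_f_rc_14_3 lc_f_rc_17_3 lc_f_rc_17_3 lc_f_rc_5_3 lc_f_rc_17_3 lc_f_rc_19_3 lc_f_rc_17_3 lc_f_rc_17_3 lc_f_rc_20_1 lc_f_rc_17_3 lc_f_rc_17_3 lc_f_Cert_tree lc_f_rc_21_1 lc_f_rc_20_1 lc_f_rc_20_1 lc_f_rc_10_1 lc_f_rc_21_1 lc_f_rc_20_1 lc_f_rc_17_3 lc_f_rc_10_3 lc_f_rc_5_1 lc_f_rc_22_1 lc_f_rc_10_1 lc_f_rc_10_3 lc_f_rc_17_3 lc_f_rc_14_1 lc_f_rc_21_1 lc_f_rc_10_1 lc_f_rc_21_1 lc_f_rc_17_3 lc_f_rc_19_3 lc_f_rc_10_1 lc_f_rc_14_3 lc_f_rc_10_3 lc_f_rc_14_1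 lc_f_rc_17_3 lc_f_rc_17_3 lc_f_rc_17_3 lc_f_rc_19_5 lc_f_rc_19_1 lc_f_rc_14_3 lc_f_rc_10_3 lc_f_rc_14_3 lc_f_rc_10_1 lc_f_rc_19_1 lc_f_rc_17_1 lc_f_rc_14_3 lc_f_rc_14_3 lc_f_rc_10_3 lc_f_rc_21_1 lc_f_rc_20_1 lc_f_rc_20_1 lc_f_rc_17_3 lc_f_rc_20_1 lc_f_rc_20_1 lc_f_rc_21_1) (@D3.rec (fun _ => (Cert rels S Gen.f)) lc_f_rc_19_3 lc_f_rc_19_3 lc_f_rc_10_3 lc_f_rc_19_5 lc_f_rc_19_1 lc_f_rc_21_1 lc_f_rc_20_1 lc_f_rc_17_1 lc_f_rc_10_3 lc_f_rc_14_1 lc_f_rc_17_1 lc_f_rc_17_1 lc_f_rc_17_3 lc_f_rc_20_1 lc_f_rc_20_1 lc_f_rc_20_1 lc_f_rc_5_3 lc_f_rc_10_3 lc_f_rc_14_3 lc_f_rc_21_1 lc_f_rc_10_1 lc_f_rc_20_1 lc_f_rc_17_1 lc_f_rc_14_3 lc_f_rc_5_3 lc_f_rc_17_1 lc_f_rc_14_1 lc_f_rc_21_1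 lc_f_rc_20_1 lc_f_rc_19_5 lc_f_rc_21_1 lc_f_rc_17_3 lc_f_rc_14_1 lc_f_rc_10_3 lc_f_rc_17_3 lc_f_rc_21_1 lc_f_rc_22_1 lc_f_rc_21_1 lc_f_rc_5_3 lc_f_rc_14_1 lc_f_rc_20_1 lc_f_rc_17_3 lc_f_rc_14_3 lc_f_rc_10_3 lc_f_rc_10_3 lc_f_rc_14_3 lc_f_rc_14_3 lc_f_rc_17_3 lc_f_rc_21_1 lc_f_rc_17_3 lc_f_rc_10_3 lc_f_rc_14_3 lc_f_rc_17_3 lc_f_rc_10_3 lc_f_rc_17_3 lc_f_rc_10_1 lc_f_rc_10_3 lc_f_rc_14_1 lc_f_rc_14_3 lc_f_rc_17_3 lc_f_rc_21_1 lc_f_rc_20_1) (@D3.rec (fun _ => (Cert rels S Gen.f)) lc_f_rc_17_1 lc_f_rc_20_1 lc_f_rc_19_3 lc_f_rc_20_1 lc_f_rc_10_3 lc_f_rc_14_3 lc_f_rc_10_3 lc_f_rc_14_1 lc_f_rc_21_1 lc_f_rc_20_1 lc_f_rc_20_1 lc_f_rc_20_1 lc_f_rc_20_1 lc_f_Cert_tree lc_f_rc_19_3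 lc_f_rc_17_3 lc_f_rc_20_1 lc_f_rc_20_1 lc_f_Cert_tree lc_f_rc_5_1 lc_f_rc_10_3 lc_f_rc_10_1 lc_f_rc_20_1 lc_f_rc_14_3 lc_f_rc_19_3 lc_f_rc_20_1 lc_f_rc_10_3 lc_f_Cert_tree lc_f_rc_10_3 lc_f_rc_14_3 lc_f_rc_20_1 lc_f_rc_19_3 lc_f_rc_14_3 lc_f_rc_17_3 lc_f_Cert_tree lc_f_rc_21_1 lc_f_rc_20_1 lc_f_rc_20_1 lc_f_rc_20_1 lc_f_rc_17_3 lc_f_rc_17_3 lc_f_rc_14_3 lc_f_rc_10_1 lc_f_rc_5_1 lc_f_rc_17_1 lc_f_rc_21_1 lc_f_rc_14_3 lc_f_rc_21_1 lc_f_rc_10_3 lc_f_rc_21_1 lc_f_rc_21_1 lc_f_rc_14_1 lc_f_rc_17_3 lc_f_rc_20_1 lc_f_rc_5_1 lc_f_rc_14_1 lc_f_rc_14_3 lc_f_rc_5_3 lc_f_rc_20_1 lc_f_rc_10_3 lc_f_rc_14_3 lc_f_rc_20_1) (@D3.rec (fun _ => (Cert rels S Gen.f)) lc_f_rc_21_1 lc_f_rc_14_3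 lc_f_rc_14_3 lc_f_rc_14_3 lc_f_rc_17_3 lc_f_Cert_tree lc_f_rc_10_3 lc_f_rc_21_1 lc_f_rc_20_1 lc_f_rc_14_3 lc_f_rc_22_1 lc_f_rc_14_3 lc_f_rc_22_1 lc_f_rc_17_3 lc_f_rc_10_3 lc_f_rc_20_1 lc_f_rc_21_1 lc_f_rc_20_1 lc_f_rc_10_3 lc_f_rc_22_1 lc_f_rc_10_1 lc_f_rc_20_1 lc_f_rc_14_3 lc_f_rc_17_3 lc_f_rc_14_1 lc_f_rc_14_3 lc_f_rc_20_1 lc_f_rc_10_3 lc_f_rc_17_3 lc_f_rc_21_1 lc_f_rc_17_3 lc_f_rc_20_1 lc_f_rc_22_1 lc_f_rc_17_1 lc_f_rc_14_1 lc_f_Cert_tree lc_f_rc_20_1 lc_f_rc_19_3 lc_f_rc_17_3 lc_f_rc_14_3 lc_f_rc_19_3 lc_f_rc_5_1 lc_f_rc_14_3 lc_f_rc_10_1 lc_f_rc_20_1 lc_f_rc_21_1 lc_f_rc_10_3 lc_f_rc_22_1 lc_f_Cert_tree lc_f_rc_14_1 lc_f_rc_14_1 lc_f_rc_20_1 lc_f_rc_10_3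 lc_f_rc_17_1 lc_f_rc_5_3 lc_f_rc_19_3 lc_f_rc_10_3 lc_f_rc_20_1 lc_f_rc_10_3 lc_f_rc_17_3 lc_f_rc_20_1 lc_f_rc_10_3) (@D3.rec (fun _ => (Cert rels S Gen.f)) lc_f_rc_14_3 lc_f_rc_10_3 lc_f_rc_14_3 lc_f_rc_17_3 lc_f_rc_17_3 lc_f_rc_5_3 lc_f_rc_17_3 lc_f_rc_17_3 lc_f_rc_17_1 lc_f_rc_20_1 lc_f_rc_22_1 lc_f_rc_21_1 lc_f_rc_20_1 lc_f_rc_17_3 lc_f_rc_21_1 lc_f_rc_5_1 lc_f_rc_17_3 lc_f_rc_20_1 lc_f_rc_14_3 lc_f_rc_20_1 lc_f_rc_17_1 lc_f_rc_14_3 lc_f_rc_10_3 lc_f_rc_5_1 lc_f_rc_21_1 lc_f_rc_5_1 lc_f_Cert_tree lc_f_rc_14_3 lc_f_rc_22_1 lc_f_rc_20_1 lc_f_rc_20_1 lc_f_rc_20_1 lc_f_rc_20_1 lc_f_rc_5_1 lc_f_rc_14_1 lc_f_rc_14_1 lc_f_rc_17_3 lc_f_rc_10_3 lc_f_rc_19_3 lc_f_rc_10_3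 lc_f_rc_14_1 lc_f_rc_10_3 lc_f_rc_20_1 lc_f_rc_14_3 lc_f_rc_14_3 lc_f_rc_19_3 lc_f_rc_14_3 lc_f_rc_14_3 lc_f_rc_21_1 lc_f_rc_21_1 lc_f_rc_20_1 lc_f_Cert_tree lc_f_rc_14_1 lc_f_Cert_tree lc_f_rc_14_3 lc_f_rc_14_3 lc_f_rc_20_1 lc_f_rc_14_1 lc_f_rc_5_1 lc_f_rc_14_3 lc_f_rc_17_3 lc_f_rc_17_1) (@D3.rec (fun _ => (Cert rels S Gen.f)) lc_f_rc_20_1 lc_f_rc_14_3 lc_f_rc_21_1 lc_f_rc_14_1 lc_f_rc_14_3 lc_f_rc_10_1 lc_f_rc_17_3 lc_f_rc_5_3 lc_f_rc_10_1 lc_f_Cert_tree lc_f_rc_14_3 lc_f_rc_20_1 lc_f_rc_10_3 lc_f_rc_14_1 lc_f_rc_10_3 lc_f_rc_5_3 lc_f_rc_20_1 lc_f_rc_10_1 lc_f_Cert_tree lc_f_rc_17_1 lc_f_Cert_tree lc_f_rc_20_1 lc_f_rc_21_1 lc_f_rc_20_1 lc_f_rc_19_5 lc_f_Cert_tree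 lc_f_rc_5_3 lc_f_rc_5_1 lc_f_rc_10_3 lc_f_rc_14_3 lc_f_rc_22_1 lc_f_rc_14_3 lc_f_rc_21_1 lc_f_rc_20_1 lc_f_rc_14_3 lc_f_rc_21_1 lc_f_rc_17_1 lc_f_rc_20_1 lc_f_rc_14_3 lc_f_rc_10_3 lc_f_rc_10_3 lc_f_rc_21_1 lc_f_rc_17_3 lc_f_rc_5_1 lc_f_rc_17_3 lc_f_rc_5_1 lc_f_rc_21_1 lc_f_rc_14_3 lc_f_rc_19_3 lc_f_rc_10_3 lc_f_Cert_tree lc_f_rc_20_1 lc_f_rc_21_1 lc_f_rc_20_1 lc_f_rc_20_1 lc_f_rc_14_1 lc_f_rc_5_1 lc_f_rc_20_1 lc_f_rc_17_1 lc_f_rc_10_3 lc_f_rc_14_3 lc_f_rc_10_1) (@D3.rec (fun _ => (Cert rels S Gen.f)) lc_f_rc_17_1 lc_f_rc_14_1 lc_f_rc_21_1 lc_f_rc_14_3 lc_f_rc_20_1 lc_f_rc_20_1 lc_f_rc_20_1 lc_f_rc_14_1 lc_f_rc_17_1 lc_f_rc_10_3 lc_f_Cert_tree lc_f_rc_19_1 lc_f_rc_17_3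 lc_f_rc_20_1 lc_f_rc_10_3 lc_f_Cert_tree lc_f_rc_21_1 lc_f_rc_20_1 lc_f_rc_17_3 lc_f_rc_10_1 lc_f_rc_5_3 lc_f_rc_10_1 lc_f_rc_17_1 lc_f_rc_20_1 lc_f_rc_10_3 lc_f_rc_10_1 lc_f_rc_17_1 lc_f_rc_19_3 lc_f_Cert_tree lc_f_rc_10_3 lc_f_rc_17_3 lc_f_rc_20_1 lc_f_rc_14_3 lc_f_rc_17_3 lc_f_rc_21_1 lc_f_rc_14_1 lc_f_rc_14_3 lc_f_rc_5_3 lc_f_rc_10_3 lc_f_rc_5_3 lc_f_Cert_tree lc_f_Cert_tree lc_f_rc_20_1 lc_f_rc_20_1 lc_f_rc_14_1 lc_f_rc_20_1 lc_f_rc_20_1 lc_f_rc_21_1 lc_f_rc_21_1 lc_f_rc_17_1 lc_f_rc_20_1 lc_f_rc_20_1 lc_f_rc_19_1 lc_f_rc_17_3 lc_f_rc_17_1 lc_f_rc_20_1 lc_f_Cert_tree lc_f_rc_19_1 lc_f_rc_19_3 lc_f_rc_20_1 lc_f_rc_17_3 lc_f_rc_14_3) (@D3.rec (fun _ => (Cert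 rels S Gen.f)) lc_f_rc_21_1 lc_f_rc_20_1 lc_f_rc_14_1 lc_f_rc_14_3 lc_f_Cert_tree lc_f_rc_20_1 lc_f_rc_19_5 lc_f_rc_14_1 lc_f_rc_19_5 lc_f_rc_5_3 lc_f_rc_14_1 lc_f_rc_19_1 lc_f_rc_14_1 lc_f_rc_14_1 lc_f_rc_20_1 lc_f_rc_17_3 lc_f_rc_20_1 lc_f_rc_20_1 lc_f_rc_20_1 lc_f_rc_10_3 lc_f_rc_17_3 lc_f_rc_17_1 lc_f_rc_21_1 lc_f_rc_10_3 lc_f_rc_14_3 lc_f_Cert_tree lc_f_rc_21_1 lc_f_rc_19_3 lc_f_rc_10_3 lc_f_rc_10_3 lc_f_rc_14_3 lc_f_Cert_tree lc_f_rc_14_1 lc_f_rc_10_1 lc_f_rc_10_3 lc_f_rc_14_3 lc_f_rc_14_1 lc_f_rc_22_1 lc_f_rc_17_3 lc_f_rc_14_3 lc_f_rc_5_3 lc_f_rc_19_5 lc_f_rc_14_3 lc_f_rc_10_3 lc_f_rc_17_3 lc_f_rc_20_1 lc_f_rc_14_3 lc_f_rc_17_3 lc_f_rc_19_3 lc_f_rc_10_3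 lc_f_rc_5_3 lc_f_rc_19_1 lc_f_rc_14_1 lc_f_rc_10_1 lc_f_rc_17_3 lc_f_rc_10_1 lc_f_rc_10_3 lc_f_rc_20_1 lc_f_rc_17_3 lc_f_rc_14_3 lc_f_rc_22_1 lc_f_rc_17_3) (@D3.rec (fun _ => (Cert rels S Gen.f)) lc_f_rc_14_1 lc_f_rc_17_3 lc_f_rc_20_1 lc_f_rc_14_3 lc_f_rc_17_1 lc_f_rc_19_3 lc_f_rc_20_1 lc_f_rc_19_5 lc_f_rc_22_1 lc_f_rc_10_3 lc_f_rc_10_3 lc_f_rc_20_1 lc_f_Cert_tree lc_f_rc_17_3 lc_f_rc_20_1 lc_f_rc_22_1 lc_f_rc_14_1 lc_f_rc_17_3 lc_f_rc_10_3 lc_f_rc_14_1 lc_f_rc_5_1 lc_f_rc_17_3 lc_f_rc_14_3 lc_f_rc_10_3 lc_f_rc_22_1 lc_f_rc_10_1 lc_f_rc_14_1 lc_f_rc_5_1 lc_f_rc_5_3 lc_f_rc_21_1 lc_f_rc_20_1 lc_f_rc_17_3 lc_f_rc_10_3 lc_f_rc_14_1 lc_f_rc_17_3 lc_f_rc_20_1 lc_f_rc_10_3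 lc_f_rc_10_3 lc_f_rc_10_3 lc_f_rc_14_3 lc_f_rc_20_1 lc_f_rc_20_1 lc_f_rc_17_3 lc_f_rc_14_1 lc_f_rc_10_3 lc_f_rc_5_1 lc_f_rc_20_1 lc_f_Cert_tree lc_f_rc_21_1 lc_f_rc_10_3 lc_f_rc_20_1 lc_f_rc_14_3 lc_f_rc_10_3 lc_f_rc_10_3 lc_f_rc_19_5 lc_f_rc_19_5 lc_f_rc_17_3 lc_f_rc_22_1 lc_f_rc_17_3 lc_f_rc_10_3 lc_f_rc_20_1 lc_f_rc_21_1) (@D3.rec (fun _ => (Cert rels S Gen.f)) lc_f_rc_20_1 lc_f_rc_5_3 lc_f_rc_17_3 lc_f_rc_20_1 lc_f_rc_21_1 lc_f_rc_17_1 lc_f_rc_14_3 lc_f_rc_14_3 lc_f_rc_17_3 lc_f_rc_20_1 lc_f_rc_5_1 lc_f_rc_20_1 lc_f_rc_19_5 lc_f_rc_14_3 lc_f_rc_17_3 lc_f_rc_10_3 lc_f_rc_20_1 lc_f_rc_5_3 lc_f_rc_14_3 lc_f_rc_20_1 lc_f_rc_19_1 lc_f_rc_5_1 lc_f_rc_14_1 lc_f_rc_14_3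 lc_f_rc_21_1 lc_f_Cert_tree lc_f_rc_20_1 lc_f_rc_20_1 lc_f_rc_10_1 lc_f_rc_10_3 lc_f_rc_14_3 lc_f_rc_5_1 lc_f_rc_17_3 lc_f_rc_17_3 lc_f_rc_10_1 lc_f_rc_14_3 lc_f_rc_19_5 lc_f_rc_21_1 lc_f_rc_20_1 lc_f_rc_20_1 lc_f_rc_20_1 lc_f_rc_5_3 lc_f_rc_20_1 lc_f_rc_5_1 lc_f_rc_22_1 lc_f_rc_14_3 lc_f_rc_14_1 lc_f_rc_10_3 lc_f_rc_19_1 lc_f_rc_20_1 lc_f_rc_10_3 lc_f_rc_14_3 lc_f_rc_19_3 lc_f_rc_21_1 lc_f_rc_20_1 lc_f_rc_14_3 lc_f_rc_14_3 lc_f_rc_17_3 lc_f_rc_17_3 lc_f_rc_19_1 lc_f_rc_21_1 lc_f_rc_17_1) (@D3.rec (fun _ => (Cert rels S Gen.f)) lc_f_rc_10_1 lc_f_rc_20_1 lc_f_rc_20_1 lc_f_rc_20_1 lc_f_rc_20_1 lc_f_rc_14_3 lc_f_rc_19_1 lc_f_rc_10_3 lc_f_rc_10_3 lc_f_rc_17_1 lc_f_rc_10_3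 lc_f_rc_17_3 lc_f_rc_14_3 lc_f_rc_14_3 lc_f_rc_14_1 lc_f_rc_17_1 lc_f_rc_17_3 lc_f_rc_22_1 lc_f_rc_17_3 lc_f_rc_17_1 lc_f_rc_5_3 lc_f_rc_10_3 lc_f_rc_5_1 lc_f_rc_19_1 lc_f_rc_19_5 lc_f_rc_10_3 lc_f_rc_19_1 lc_f_rc_14_1 lc_f_rc_10_3 lc_f_rc_5_1 lc_f_rc_5_3 lc_f_rc_10_1 lc_f_rc_17_1 lc_f_rc_10_3 lc_f_rc_10_3 lc_f_rc_10_3 lc_f_rc_14_1 lc_f_rc_17_3 lc_f_rc_17_1 lc_f_rc_5_1 lc_f_rc_14_3 lc_f_rc_19_3 lc_f_rc_19_3 lc_f_rc_20_1 lc_f_rc_20_1 lc_f_rc_5_3 lc_f_rc_17_3 lc_f_rc_17_1 lc_f_rc_17_1 lc_f_rc_14_3 lc_f_rc_17_3 lc_f_rc_17_3 lc_f_rc_20_1 lc_f_rc_10_1 lc_f_rc_19_3 lc_f_rc_10_3 lc_f_rc_17_1 lc_f_rc_14_3 lc_f_rc_17_1 lc_f_rc_14_1 lc_f_rc_20_1 lc_f_rc_14_1) (@D3.rec (fun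 _ => (Cert rels S Gen.f)) lc_f_rc_19_3 lc_f_rc_21_1 lc_f_rc_10_1 lc_f_rc_17_1 lc_f_rc_20_1 lc_f_rc_17_3 lc_f_rc_14_1 lc_f_rc_20_1 lc_f_rc_14_1 lc_f_rc_20_1 lc_f_rc_5_3 lc_f_Cert_tree lc_f_rc_20_1 lc_f_rc_10_3 lc_f_rc_17_3 lc_f_rc_10_3 lc_f_rc_20_1 lc_f_rc_14_1 lc_f_rc_19_3 lc_f_rc_20_1 lc_f_rc_17_3 lc_f_rc_10_1 lc_f_rc_5_1 lc_f_rc_20_1 lc_f_rc_14_3 lc_f_Cert_tree lc_f_rc_14_1 lc_f_rc_21_1 lc_f_rc_21_1 lc_f_rc_20_1 lc_f_rc_5_1 lc_f_Cert_tree lc_f_rc_10_3 lc_f_rc_21_1 lc_f_rc_20_1 lc_f_rc_20_1 lc_f_rc_5_3 lc_f_rc_14_3 lc_f_rc_17_3 lc_f_rc_22_1 lc_f_rc_5_3 lc_f_rc_10_3 lc_f_rc_14_3 lc_f_rc_5_1 lc_f_rc_20_1 lc_f_rc_17_3 lc_f_rc_21_1 lc_f_rc_17_1 lc_f_rc_17_3 lc_f_rc_17_3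 lc_f_rc_19_5 lc_f_Cert_tree lc_f_rc_14_3 lc_f_rc_17_3 lc_f_rc_17_1 lc_f_rc_20_1 lc_f_rc_5_3 lc_f_rc_20_1 lc_f_rc_14_3 lc_f_rc_10_3 lc_f_rc_5_3 lc_f_rc_5_3) (@D3.rec (fun _ => (Cert rels S Gen.f)) lc_f_rc_20_1 lc_f_rc_20_1 lc_f_rc_17_3 lc_f_rc_17_3 lc_f_rc_20_1 lc_f_rc_21_1 lc_f_rc_21_1 lc_f_rc_17_3 lc_f_rc_20_1 lc_f_rc_17_1 lc_f_rc_20_1 lc_f_rc_19_3 lc_f_rc_14_3 lc_f_rc_10_3 lc_f_rc_17_3 lc_f_rc_21_1 lc_f_rc_22_1 lc_f_rc_5_3 lc_f_rc_21_1 lc_f_rc_20_1 lc_f_rc_20_1 lc_f_rc_14_1 lc_f_rc_10_3 lc_f_rc_14_3 lc_f_rc_14_3 lc_f_rc_17_3 lc_f_rc_21_1 lc_f_rc_20_1 lc_f_rc_14_1 lc_f_rc_14_1 lc_f_rc_14_1 lc_f_rc_17_1 lc_f_rc_20_1 lc_f_rc_5_3 lc_f_rc_20_1 lc_f_rc_20_1 lc_f_Cert_tree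 lc_f_rc_20_1 lc_f_rc_20_1 lc_f_rc_10_3 lc_f_rc_17_3 lc_f_rc_10_3 lc_f_rc_19_3 lc_f_rc_14_3 lc_f_Cert_tree lc_f_rc_17_3 lc_f_rc_14_3 lc_f_rc_21_1 lc_f_rc_20_1 lc_f_rc_17_1 lc_f_rc_20_1 lc_f_rc_10_3 lc_f_rc_17_3 lc_f_rc_14_3 lc_f_rc_17_3 lc_f_rc_14_3 lc_f_rc_14_3 lc_f_rc_19_3 lc_f_rc_17_3 lc_f_rc_10_3 lc_f_rc_5_3 lc_f_Cert_tree) (@D3.rec (fun _ => (Cert rels S Gen.f)) lc_f_rc_14_3 lc_f_rc_10_3 lc_f_rc_21_1 lc_f_rc_10_1 lc_f_rc_14_1 lc_f_rc_20_1 lc_f_rc_19_3 lc_f_rc_17_3 lc_f_rc_19_1 lc_f_rc_17_1 lc_f_rc_14_3 lc_f_rc_10_3 lc_f_rc_14_1 lc_f_rc_20_1 lc_f_rc_21_1 lc_f_rc_10_1 lc_f_rc_10_3 lc_f_rc_20_1 lc_f_rc_21_1 lc_f_rc_10_3 lc_f_rc_17_1 lc_f_rc_19_3 lc_f_rc_20_1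 lc_f_rc_14_3 lc_f_rc_19_3 lc_f_rc_20_1 lc_f_rc_20_1 lc_f_rc_5_3 lc_f_rc_10_3 lc_f_rc_19_1 lc_f_rc_20_1 lc_f_rc_21_1 lc_f_rc_20_1 lc_f_rc_5_3 lc_f_rc_14_3 lc_f_rc_10_3 lc_f_rc_17_3 lc_f_rc_5_1 lc_f_rc_20_1 lc_f_rc_10_3 lc_f_rc_5_1 lc_f_rc_21_1 lc_f_rc_10_3 lc_f_rc_10_1 lc_f_rc_21_1 lc_f_rc_17_3 lc_f_rc_14_3 lc_f_rc_10_1 lc_f_rc_14_3 lc_f_rc_20_1 lc_f_rc_17_1 lc_f_rc_17_1 lc_f_rc_21_1 lc_f_rc_20_1 lc_f_Cert_tree lc_f_rc_21_1 lc_f_rc_20_1 lc_f_rc_20_1 lc_f_rc_14_3 lc_f_rc_10_3 lc_f_rc_10_3 lc_f_rc_17_3) (@D3.rec (fun _ => (Cert rels S Gen.f)) lc_f_Cert_tree lc_f_rc_14_1 lc_f_rc_5_3 lc_f_Cert_tree lc_f_rc_20_1 lc_f_rc_5_1 lc_f_rc_17_3 lc_f_rc_20_1 lc_f_rc_17_3 lc_f_rc_19_3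 lc_f_rc_10_3 lc_f_rc_10_3 lc_f_rc_17_3 lc_f_rc_17_3 lc_f_rc_20_1 lc_f_rc_10_3 lc_f_rc_19_3 lc_f_rc_10_3 lc_f_rc_19_3 lc_f_rc_20_1 lc_f_rc_20_1 lc_f_rc_17_3 lc_f_rc_14_3 lc_f_rc_10_1 lc_f_rc_20_1 lc_f_rc_19_1 lc_f_rc_21_1 lc_f_rc_20_1 lc_f_rc_20_1 lc_f_rc_21_1 lc_f_rc_17_3 lc_f_rc_19_5 lc_f_rc_10_3 lc_f_rc_20_1 lc_f_rc_10_3 lc_f_rc_17_3 lc_f_rc_19_5 lc_f_rc_14_1 lc_f_rc_19_3 lc_f_rc_17_3 lc_f_rc_17_3 lc_f_rc_14_3 lc_f_rc_19_3 lc_f_rc_10_3 lc_f_rc_14_3 lc_f_rc_14_3 lc_f_rc_17_3 lc_f_Cert_tree lc_f_rc_14_3 lc_f_rc_20_1 lc_f_rc_21_1 lc_f_rc_20_1 lc_f_rc_5_3 lc_f_rc_14_3 lc_f_rc_20_1 lc_f_rc_21_1 lc_f_rc_10_3 lc_f_rc_17_3 lc_f_rc_17_3 lc_f_rc_19_3 lc_f_rc_19_3 lc_f_rc_20_1)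 (@D3.rec (fun _ => (Cert rels S Gen.f)) lc_f_rc_17_3 lc_f_rc_5_3 lc_f_rc_20_1 lc_f_rc_14_3 lc_f_Cert_tree lc_f_rc_21_1 lc_f_rc_20_1 lc_f_rc_5_3 lc_f_rc_14_3 lc_f_rc_10_3 lc_f_rc_17_1 lc_f_rc_20_1 lc_f_rc_14_3 lc_f_rc_10_3 lc_f_rc_5_1 lc_f_rc_10_3 lc_f_rc_5_1 lc_f_rc_5_1 lc_f_rc_17_3 lc_f_rc_14_3 lc_f_rc_20_1 lc_f_rc_21_1 lc_f_rc_19_3 lc_f_rc_10_3 lc_f_rc_20_1 lc_f_rc_21_1 lc_f_rc_17_3 lc_f_rc_20_1 lc_f_rc_10_3 lc_f_rc_14_3 lc_f_rc_14_1 lc_f_rc_20_1 lc_f_rc_17_3 lc_f_rc_20_1 lc_f_rc_20_1 lc_f_rc_19_3 lc_f_rc_5_1 lc_f_rc_14_3 lc_f_rc_22_1 lc_f_rc_22_1 lc_f_rc_20_1 lc_f_rc_19_3 lc_f_rc_10_3 lc_f_rc_17_3 lc_f_rc_20_1 lc_f_rc_21_1 lc_f_rc_14_3 lc_f_rc_17_3 lc_f_rc_21_1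 lc_f_rc_5_3 lc_f_rc_17_3 lc_f_rc_17_3 lc_f_Cert_tree lc_f_rc_14_3 lc_f_rc_17_3 lc_f_rc_21_1 lc_f_rc_14_3 lc_f_rc_17_3 lc_f_rc_17_1 lc_f_rc_14_3 lc_f_rc_10_1 lc_f_rc_14_3) (@D3.rec (fun _ => (Cert rels S Gen.f)) lc_f_rc_17_1 lc_f_rc_19_3 lc_f_rc_22_1 lc_f_rc_20_1 lc_f_rc_19_3 lc_f_rc_21_1 lc_f_rc_10_3 lc_f_rc_14_3 lc_f_rc_10_3 lc_f_rc_14_3 lc_f_rc_19_3 lc_f_rc_19_5 lc_f_rc_10_3 lc_f_rc_10_3 lc_f_rc_5_3 lc_f_rc_21_1 lc_f_rc_20_1 lc_f_rc_21_1 lc_f_rc_19_3 lc_f_rc_5_1 lc_f_rc_14_3 lc_f_rc_10_3 lc_f_Cert_tree lc_f_rc_19_5 lc_f_rc_14_1 lc_f_rc_20_1 lc_f_rc_14_3 lc_f_rc_10_3 lc_f_rc_14_1 lc_f_rc_10_1 lc_f_rc_14_3 lc_f_rc_20_1 lc_f_rc_20_1 lc_f_rc_20_1 lc_f_Cert_tree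 lc_f_rc_10_3 lc_f_rc_17_1 lc_f_rc_14_3 lc_f_rc_20_1 lc_f_rc_10_3 lc_f_rc_14_3 lc_f_rc_21_1 lc_f_rc_14_3 lc_f_Cert_tree lc_f_rc_10_3 lc_f_Cert_tree lc_f_rc_21_1 lc_f_rc_20_1 lc_f_rc_20_1 lc_f_rc_10_1 lc_f_rc_10_1 lc_f_rc_14_3 lc_f_rc_10_1 lc_f_rc_20_1 lc_f_rc_5_1 lc_f_rc_10_3 lc_f_rc_10_3 lc_f_rc_20_1 lc_f_rc_14_1 lc_f_rc_10_1 lc_f_rc_10_1 lc_f_rc_10_3) (@D3.rec (fun _ => (Cert rels S Gen.f)) lc_f_rc_14_3 lc_f_rc_14_1 lc_f_rc_5_3 lc_f_rc_17_1 lc_f_rc_10_1 lc_f_rc_19_3 lc_f_rc_14_1 lc_f_rc_20_1 lc_f_rc_17_3 lc_f_rc_20_1 lc_f_rc_5_3 lc_f_rc_10_3 lc_f_rc_14_1 lc_f_rc_19_3 lc_f_rc_17_3 lc_f_rc_17_3 lc_f_rc_14_3 lc_f_rc_5_1 lc_f_rc_14_1 lc_f_rc_14_3 lc_f_rc_14_1 lc_f_rc_17_3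 lc_f_rc_19_5 lc_f_rc_10_1 lc_f_rc_17_3 lc_f_rc_19_3 lc_f_rc_14_3 lc_f_rc_14_3 lc_f_rc_22_1 lc_f_rc_20_1 lc_f_rc_14_3 lc_f_rc_5_1 lc_f_rc_17_3 lc_f_rc_17_3 lc_f_rc_10_3 lc_f_rc_19_5 lc_f_rc_14_3 lc_f_rc_10_1 lc_f_rc_17_1 lc_f_rc_17_3 lc_f_rc_20_1 lc_f_rc_20_1 lc_f_rc_10_3 lc_f_rc_21_1 lc_f_rc_17_3 lc_f_rc_14_3 lc_f_rc_21_1 lc_f_rc_14_3 lc_f_rc_17_3 lc_f_rc_20_1 lc_f_rc_17_3 lc_f_rc_10_3 lc_f_rc_20_1 lc_f_Cert_tree lc_f_rc_21_1 lc_f_rc_17_3 lc_f_rc_17_3 lc_f_rc_14_1 lc_f_rc_21_1 lc_f_rc_17_3 lc_f_rc_5_3 lc_f_rc_19_3) (@D3.rec (fun _ => (Cert rels S Gen.f)) lc_f_rc_20_1 lc_f_rc_21_1 lc_f_rc_17_3 lc_f_rc_17_3 lc_f_rc_14_3 lc_f_rc_14_3 lc_f_rc_20_1 lc_f_rc_17_3 lc_f_rc_10_3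 lc_f_Cert_tree lc_f_rc_14_3 lc_f_rc_14_3 lc_f_Cert_tree lc_f_rc_20_1 lc_f_rc_19_3 lc_f_rc_20_1 lc_f_rc_10_1 lc_f_rc_21_1 lc_f_rc_20_1 lc_f_rc_10_3 lc_f_rc_17_1 lc_f_rc_10_3 lc_f_Cert_tree lc_f_rc_20_1 lc_f_rc_14_3 lc_f_rc_20_1 lc_f_rc_19_3 lc_f_rc_20_1 lc_f_rc_21_1 lc_f_rc_20_1 lc_f_rc_17_3 lc_f_rc_17_1 lc_f_rc_19_1 lc_f_rc_21_1 lc_f_rc_10_3 lc_f_rc_22_1 lc_f_rc_14_1 lc_f_rc_19_3 lc_f_rc_19_3 lc_f_rc_10_3 lc_f_rc_14_1 lc_f_rc_17_3 lc_f_rc_14_3 lc_f_rc_19_5 lc_f_rc_10_3 lc_f_rc_21_1 lc_f_rc_17_3 lc_f_rc_14_3 lc_f_Cert_tree lc_f_rc_22_1 lc_f_rc_17_3 lc_f_rc_21_1 lc_f_rc_14_1 lc_f_rc_14_3 lc_f_rc_10_3 lc_f_rc_20_1 lc_f_rc_17_3 lc_f_rc_14_3 lc_f_rc_19_3 lc_f_rc_14_3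 lc_f_rc_14_1 lc_f_rc_10_3) (@D3.rec (fun _ => (Cert rels S Gen.f)) lc_f_rc_20_1 lc_f_rc_21_1 lc_f_rc_17_1 lc_f_rc_20_1 lc_f_rc_14_3 lc_f_rc_21_1 lc_f_rc_17_1 lc_f_rc_20_1 lc_f_rc_21_1 lc_f_rc_14_3 lc_f_rc_17_3 lc_f_rc_22_1 lc_f_rc_20_1 lc_f_rc_21_1 lc_f_rc_5_3 lc_f_rc_17_3 lc_f_rc_17_1 lc_f_rc_20_1 lc_f_rc_10_3 lc_f_rc_19_5 lc_f_rc_5_1 lc_f_rc_17_3 lc_f_rc_10_3 lc_f_rc_10_3 lc_f_rc_10_1 lc_f_rc_14_3 lc_f_rc_19_3 lc_f_rc_5_3 lc_f_rc_19_3 lc_f_rc_14_1 lc_f_Cert_tree lc_f_rc_14_1 lc_f_rc_17_3 lc_f_rc_19_3 lc_f_rc_17_3 lc_f_rc_21_1 lc_f_rc_14_3 lc_f_rc_14_1 lc_f_rc_14_3 lc_f_rc_14_3 lc_f_rc_17_3 lc_f_rc_14_3 lc_f_rc_20_1 lc_f_rc_14_1 lc_f_Cert_tree lc_f_rc_5_3 lc_f_rc_20_1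 lc_f_rc_19_1 lc_f_rc_19_3 lc_f_rc_14_3 lc_f_rc_10_1 lc_f_rc_20_1 lc_f_rc_20_1 lc_f_rc_20_1 lc_f_rc_5_1 lc_f_rc_22_1 lc_f_rc_14_1 lc_f_rc_19_3 lc_f_rc_14_1 lc_f_rc_5_3 lc_f_Cert_tree lc_f_rc_20_1) (@D3.rec (fun _ => (Cert rels S Gen.f)) lc_f_rc_10_3 lc_f_rc_19_1 lc_f_rc_10_3 lc_f_rc_17_3 lc_f_rc_21_1 lc_f_rc_5_1 lc_f_rc_19_3 lc_f_rc_19_3 lc_f_rc_17_1 lc_f_rc_20_1 lc_f_rc_10_1 lc_f_rc_14_3 lc_f_rc_17_3 lc_f_rc_19_5 lc_f_rc_20_1 lc_f_rc_20_1 lc_f_rc_19_3 lc_f_rc_20_1 lc_f_rc_19_1 lc_f_rc_19_3 lc_f_rc_10_3 lc_f_rc_20_1 lc_f_rc_14_1 lc_f_rc_14_3 lc_f_rc_5_3 lc_f_rc_14_3 lc_f_rc_20_1 lc_f_rc_14_3 lc_f_rc_10_3 lc_f_rc_21_1 lc_f_rc_14_1 lc_f_rc_14_3 lc_f_rc_5_3 lc_f_rc_14_3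 lc_f_rc_17_1 lc_f_rc_20_1 lc_f_rc_17_1 lc_f_rc_17_1 lc_f_rc_5_3 lc_f_rc_14_3 lc_f_rc_17_3 lc_f_rc_5_3 lc_f_rc_20_1 lc_f_rc_17_3 lc_f_rc_14_3 lc_f_rc_17_3 lc_f_rc_14_3 lc_f_rc_10_3 lc_f_rc_5_3 lc_f_rc_17_1 lc_f_rc_10_1 lc_f_rc_10_3 lc_f_rc_21_1 lc_f_rc_20_1 lc_f_rc_19_1 lc_f_rc_10_3 lc_f_rc_5_3 lc_f_rc_14_3 lc_f_rc_21_1 lc_f_rc_10_3 lc_f_rc_14_3 lc_f_rc_5_1) (@D3.rec (fun _ => (Cert rels S Gen.f)) lc_f_rc_21_1 lc_f_rc_21_1 lc_f_rc_17_3 lc_f_rc_5_3 lc_f_rc_17_3 lc_f_rc_17_3 lc_f_rc_14_3 lc_f_rc_22_1 lc_f_rc_10_3 lc_f_rc_17_1 lc_f_rc_19_5 lc_f_rc_21_1 lc_f_rc_20_1 lc_f_rc_14_3 lc_f_rc_10_3 lc_f_rc_20_1 lc_f_rc_5_3 lc_f_rc_20_1 lc_f_rc_10_3 lc_f_rc_17_3 lc_f_rc_14_3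 lc_f_rc_20_1 lc_f_rc_10_3 lc_f_rc_19_5 lc_f_rc_20_1 lc_f_rc_19_3 lc_f_rc_14_3 lc_f_rc_19_5 lc_f_rc_21_1 lc_f_rc_20_1 lc_f_rc_21_1 lc_f_rc_17_1 lc_f_rc_17_3 lc_f_Cert_tree lc_f_rc_10_3 lc_f_rc_19_3 lc_f_rc_21_1 lc_f_rc_20_1 lc_f_rc_20_1 lc_f_rc_5_3 lc_f_rc_14_1 lc_f_rc_5_3 lc_f_rc_14_3 lc_f_rc_22_1 lc_f_rc_20_1 lc_f_rc_14_3 lc_f_rc_21_1 lc_f_Cert_tree lc_f_rc_10_3 lc_f_rc_14_1 lc_f_rc_10_1 lc_f_rc_20_1 lc_f_rc_10_3 lc_f_rc_17_3 lc_f_rc_20_1 lc_f_rc_17_3 lc_f_rc_14_3 lc_f_rc_5_1 lc_f_rc_14_3 lc_f_rc_10_3 lc_f_rc_14_3 lc_f_rc_20_1) (@D3.rec (fun _ => (Cert rels S Gen.f)) lc_f_rc_10_3 lc_f_rc_14_3 lc_f_rc_17_3 lc_f_rc_10_3 lc_f_rc_5_1 lc_f_rc_10_3 lc_f_rc_10_1 lc_f_rc_17_1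 lc_f_rc_5_3 lc_f_rc_10_3 lc_f_rc_21_1 lc_f_rc_14_3 lc_f_rc_5_1 lc_f_rc_17_3 lc_f_rc_14_3 lc_f_rc_5_1 lc_f_rc_14_3 lc_f_rc_20_1 lc_f_rc_10_1 lc_f_rc_21_1 lc_f_rc_14_3 lc_f_rc_17_1 lc_f_rc_21_1 lc_f_rc_19_3 lc_f_Cert_tree lc_f_rc_20_1 lc_f_rc_14_1 lc_f_rc_20_1 lc_f_rc_20_1 lc_f_rc_10_1 lc_f_rc_21_1 lc_f_rc_20_1 lc_f_rc_20_1 lc_f_rc_10_1 lc_f_rc_5_1 lc_f_rc_17_3 lc_f_rc_10_3 lc_f_rc_10_3 lc_f_rc_10_1 lc_f_rc_5_3 lc_f_rc_20_1 lc_f_rc_10_3 lc_f_rc_20_1 lc_f_rc_14_3 lc_f_rc_17_1 lc_f_rc_20_1 lc_f_Cert_tree lc_f_rc_20_1 lc_f_rc_17_1 lc_f_rc_10_3 lc_f_rc_17_1 lc_f_rc_21_1 lc_f_rc_14_1 lc_f_rc_20_1 lc_f_rc_5_3 lc_f_rc_14_3 lc_f_rc_17_1 lc_f_rc_14_3 lc_f_rc_17_1 lc_f_rc_14_3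 lc_f_rc_14_3 lc_f_rc_10_3) (@D3.rec (fun _ => (Cert rels S Gen.f)) lc_f_rc_14_3 lc_f_rc_17_1 lc_f_rc_20_1 lc_f_Cert_tree lc_f_rc_10_1 lc_f_rc_17_1 lc_f_rc_17_1 lc_f_rc_20_1 lc_f_rc_22_1 lc_f_rc_22_1 lc_f_rc_21_1 lc_f_rc_14_3 lc_f_rc_20_1 lc_f_rc_10_3 lc_f_rc_10_3 lc_f_rc_17_3 lc_f_rc_14_3 lc_f_rc_21_1 lc_f_rc_20_1 lc_f_rc_21_1 lc_f_rc_21_1 lc_f_rc_20_1 lc_f_rc_14_3 lc_f_rc_10_3 lc_f_rc_17_3 lc_f_rc_10_3 lc_f_rc_21_1 lc_f_rc_14_3 lc_f_rc_10_3 lc_f_rc_17_1 lc_f_rc_10_3 lc_f_rc_5_3 lc_f_rc_14_3 lc_f_rc_5_3 lc_f_rc_19_5 lc_f_rc_17_1 lc_f_rc_17_3 lc_f_Cert_tree lc_f_rc_17_3 lc_f_rc_17_3 lc_f_rc_20_1 lc_f_rc_21_1 lc_f_rc_20_1 lc_f_rc_17_1 lc_f_rc_17_1 lc_f_rc_19_3 lc_f_rc_10_3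 lc_f_rc_5_1 lc_f_rc_5_3 lc_f_rc_14_3 lc_f_rc_5_3 lc_f_rc_17_3 lc_f_rc_19_5 lc_f_rc_17_3 lc_f_rc_17_3 lc_f_rc_19_5 lc_f_rc_5_3 lc_f_rc_14_3 lc_f_rc_10_1 lc_f_rc_20_1 lc_f_rc_10_3 lc_f_rc_20_1) (@D3.rec (fun _ => (Cert rels S Gen.f)) lc_f_rc_20_1 lc_f_rc_17_3 lc_f_rc_19_3 lc_f_rc_5_3 lc_f_rc_10_3 lc_f_rc_5_3 lc_f_rc_10_3 lc_f_rc_5_1 lc_f_rc_14_1 lc_f_rc_21_1 lc_f_rc_10_3 lc_f_rc_20_1 lc_f_rc_17_3 lc_f_rc_5_1 lc_f_rc_17_3 lc_f_rc_14_3 lc_f_rc_10_1 lc_f_rc_14_1 lc_f_rc_21_1 lc_f_rc_20_1 lc_f_Cert_tree lc_f_rc_10_1 lc_f_rc_10_3 lc_f_rc_20_1 lc_f_rc_20_1 lc_f_rc_20_1 lc_f_rc_20_1 lc_f_rc_21_1 lc_f_rc_20_1 lc_f_rc_14_3 lc_f_rc_21_1 lc_f_rc_10_3 lc_f_rc_19_3 lc_f_rc_21_1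 lc_f_rc_14_3 lc_f_rc_14_1 lc_f_rc_21_1 lc_f_rc_14_3 lc_f_rc_14_3 lc_f_rc_19_3 lc_f_rc_14_3 lc_f_rc_21_1 lc_f_rc_17_3 lc_f_rc_20_1 lc_f_rc_17_1 lc_f_rc_5_3 lc_f_rc_17_3 lc_f_rc_19_3 lc_f_rc_20_1 lc_f_rc_21_1 lc_f_rc_14_3 lc_f_rc_20_1 lc_f_rc_14_3 lc_f_rc_5_3 lc_f_rc_14_3 lc_f_rc_17_1 lc_f_rc_17_3 lc_f_rc_17_3 lc_f_rc_14_3 lc_f_rc_5_1 lc_f_rc_17_3 lc_f_rc_10_1) (@D3.rec (fun _ => (Cert rels S Gen.f)) lc_f_rc_20_1 lc_f_rc_10_3 lc_f_rc_17_3 lc_f_rc_17_3 lc_f_rc_5_1 lc_f_rc_20_1 lc_f_rc_14_3 lc_f_rc_17_3 lc_f_rc_10_3 lc_f_rc_14_3 lc_f_rc_21_1 lc_f_rc_20_1 lc_f_rc_19_3 lc_f_rc_20_1 lc_f_rc_10_3 lc_f_rc_10_3 lc_f_rc_10_3 lc_f_rc_10_3 lc_f_rc_17_3 lc_f_rc_20_1 lc_f_rc_5_1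 lc_f_rc_19_1 lc_f_rc_21_1 lc_f_rc_10_1 lc_f_rc_20_1 lc_f_rc_10_1 lc_f_rc_10_3 lc_f_rc_5_1 lc_f_rc_10_3 lc_f_rc_20_1 lc_f_rc_10_3 lc_f_rc_10_3 lc_f_rc_10_3 lc_f_rc_17_3 lc_f_rc_21_1 lc_f_rc_10_3 lc_f_Cert_tree lc_f_rc_10_3 lc_f_rc_14_3 lc_f_rc_19_3 lc_f_rc_20_1 lc_f_rc_20_1 lc_f_rc_5_1 lc_f_rc_10_3 lc_f_Cert_tree lc_f_rc_10_1 lc_f_rc_14_3 lc_f_rc_17_3 lc_f_rc_17_3 lc_f_rc_17_1 lc_f_rc_20_1 lc_f_rc_14_1 lc_f_rc_10_1 lc_f_rc_14_1 lc_f_rc_5_3 lc_f_rc_17_3 lc_f_rc_17_1 lc_f_rc_5_1 lc_f_rc_21_1 lc_f_rc_10_1 lc_f_rc_10_1 lc_f_rc_10_3) (@D3.rec (fun _ => (Cert rels S Gen.f)) lc_f_rc_17_1 lc_f_rc_21_1 lc_f_rc_20_1 lc_f_rc_17_3 lc_f_rc_20_1 lc_f_rc_17_1 lc_f_rc_10_3 lc_f_rc_14_3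 lc_f_rc_20_1 lc_f_rc_20_1 lc_f_rc_19_3 lc_f_rc_14_3 lc_f_rc_10_1 lc_f_rc_20_1 lc_f_rc_17_3 lc_f_rc_5_1 lc_f_rc_20_1 lc_f_rc_20_1 lc_f_rc_17_1 lc_f_rc_5_1 lc_f_rc_20_1 lc_f_rc_14_1 lc_f_rc_5_1 lc_f_rc_20_1 lc_f_rc_5_1 lc_f_rc_21_1 lc_f_rc_17_1 lc_f_rc_21_1 lc_f_rc_14_3 lc_f_Cert_tree lc_f_rc_10_3 lc_f_rc_10_3 lc_f_rc_5_1 lc_f_Cert_tree lc_f_rc_14_3 lc_f_Cert_tree lc_f_rc_5_1 lc_f_rc_5_1 lc_f_rc_14_3 lc_f_rc_14_1 lc_f_rc_14_3 lc_f_Cert_tree lc_f_rc_22_1 lc_f_rc_20_1 lc_f_rc_19_1 lc_f_rc_10_3 lc_f_rc_5_3 lc_f_rc_17_3 lc_f_rc_20_1 lc_f_rc_21_1 lc_f_rc_17_1 lc_f_rc_10_3 lc_f_rc_5_1 lc_f_rc_10_3 lc_f_rc_17_3 lc_f_rc_14_3 lc_f_rc_20_1 lc_f_rc_20_1 lc_f_rc_10_3 lc_f_Cert_tree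 lc_f_rc_17_3 lc_f_rc_14_3) (@D3.rec (fun _ => (Cert rels S Gen.f)) lc_f_rc_14_3 lc_f_rc_22_1 lc_f_rc_20_1 lc_f_rc_19_3 lc_f_rc_20_1 lc_f_rc_17_3 lc_f_rc_20_1 lc_f_rc_21_1 lc_f_rc_17_3 lc_f_rc_10_3 lc_f_rc_14_1 lc_f_rc_19_3 lc_f_rc_10_3 lc_f_rc_20_1 lc_f_rc_20_1 lc_f_rc_14_1 lc_f_rc_19_3 lc_f_rc_10_3 lc_f_Cert_tree lc_f_rc_19_5 lc_f_rc_19_3 lc_f_Cert_tree lc_f_rc_20_1 lc_f_rc_5_3 lc_f_rc_21_1 lc_f_rc_14_1 lc_f_rc_21_1 lc_f_rc_20_1 lc_f_rc_20_1 lc_f_rc_10_1 lc_f_rc_17_3 lc_f_rc_17_3 lc_f_rc_20_1 lc_f_rc_10_3 lc_f_Cert_tree lc_f_rc_10_3 lc_f_Cert_tree lc_f_rc_21_1 lc_f_rc_5_1 lc_f_rc_17_1 lc_f_rc_20_1 lc_f_rc_19_3 lc_f_rc_19_3 lc_f_rc_17_3 lc_f_rc_14_3 lc_f_rc_20_1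 lc_f_rc_19_1 lc_f_rc_20_1 lc_f_rc_14_1 lc_f_rc_21_1 lc_f_rc_14_1 lc_f_rc_20_1 lc_f_Cert_tree lc_f_rc_19_3 lc_f_Cert_tree lc_f_rc_5_1 lc_f_rc_20_1 lc_f_rc_10_3 lc_f_rc_21_1 lc_f_rc_14_1 lc_f_rc_21_1 lc_f_rc_22_1) (@D3.rec (fun _ => (Cert rels S Gen.f)) lc_f_rc_14_1 lc_f_rc_20_1 lc_f_rc_5_3 lc_f_rc_17_3 lc_f_rc_21_1 lc_f_rc_14_3 lc_f_rc_17_1 lc_f_rc_17_3 lc_f_rc_19_5 lc_f_rc_17_3 lc_f_rc_19_5 lc_f_rc_19_3 lc_f_rc_14_1 lc_f_rc_10_3 lc_f_rc_17_3 lc_f_rc_10_3 lc_f_rc_10_1 lc_f_rc_20_1 lc_f_rc_5_1 lc_f_rc_20_1 lc_f_rc_17_3 lc_f_rc_21_1 lc_f_rc_21_1 lc_f_rc_17_3 lc_f_rc_17_3 lc_f_rc_10_3 lc_f_rc_14_3 lc_f_rc_19_3 lc_f_rc_17_3 lc_f_rc_10_3 lc_f_rc_5_3 lc_f_rc_14_3 lc_f_rc_14_3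 lc_f_rc_19_5 lc_f_rc_10_1 lc_f_rc_5_1 lc_f_rc_5_3 lc_f_rc_19_5 lc_f_rc_14_3 lc_f_rc_10_1 lc_f_rc_14_1 lc_f_rc_14_3 lc_f_rc_14_3 lc_f_Cert_tree lc_f_rc_20_1 lc_f_rc_5_1 lc_f_rc_14_3 lc_f_rc_10_3 lc_f_rc_21_1 lc_f_rc_10_3 lc_f_rc_14_1 lc_f_rc_20_1 lc_f_rc_5_3 lc_f_rc_17_1 lc_f_rc_10_3 lc_f_rc_20_1 lc_f_rc_14_1 lc_f_rc_17_3 lc_f_rc_19_5 lc_f_rc_10_3 lc_f_rc_5_1 lc_f_rc_5_1) (@D3.rec (fun _ => (Cert rels S Gen.f)) lc_f_rc_20_1 lc_f_rc_17_3 lc_f_rc_14_1 lc_f_rc_10_1 lc_f_rc_14_1 lc_f_rc_5_3 lc_f_rc_5_3 lc_f_rc_14_1 lc_f_rc_5_1 lc_f_rc_17_1 lc_f_rc_14_1 lc_f_rc_10_1 lc_f_rc_21_1 lc_f_Cert_tree lc_f_rc_10_3 lc_f_rc_14_3 lc_f_rc_17_1 lc_f_rc_17_3 lc_f_rc_10_3 lc_f_rc_14_1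 lc_f_rc_5_3 lc_f_rc_20_1 lc_f_rc_19_3 lc_f_rc_17_3 lc_f_rc_21_1 lc_f_rc_14_3 lc_f_rc_17_1 lc_f_rc_19_3 lc_f_rc_10_3 lc_f_Cert_tree lc_f_rc_14_1 lc_f_rc_19_3 lc_f_rc_22_1 lc_f_rc_20_1 lc_f_rc_19_3 lc_f_rc_14_3 lc_f_rc_10_1 lc_f_rc_14_3 lc_f_rc_10_3 lc_f_rc_20_1 lc_f_rc_14_3 lc_f_rc_17_3 lc_f_rc_10_3 lc_f_rc_21_1 lc_f_rc_10_3 lc_f_rc_17_1 lc_f_rc_20_1 lc_f_rc_19_3 lc_f_rc_19_3 lc_f_rc_20_1 lc_f_rc_21_1 lc_f_rc_14_3 lc_f_rc_17_3 lc_f_rc_21_1 lc_f_rc_20_1 lc_f_rc_21_1 lc_f_rc_17_1 lc_f_rc_17_3 lc_f_rc_14_3 lc_f_rc_14_3 lc_f_rc_17_1 lc_f_rc_17_3) (@D3.rec (fun _ => (Cert rels S Gen.f)) lc_f_rc_17_3 lc_f_rc_10_1 lc_f_rc_20_1 lc_f_rc_14_3 lc_f_rc_10_3 lc_f_rc_5_3 lc_f_rc_17_3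 lc_f_rc_10_1 lc_f_rc_17_3 lc_f_rc_21_1 lc_f_rc_17_1 lc_f_rc_10_3 lc_f_rc_10_3 lc_f_rc_17_3 lc_f_rc_17_1 lc_f_rc_14_3 lc_f_rc_21_1 lc_f_rc_14_3 lc_f_rc_14_1 lc_f_rc_10_3 lc_f_rc_20_1 lc_f_rc_19_3 lc_f_rc_17_3 lc_f_rc_14_3 lc_f_rc_20_1 lc_f_rc_10_3 lc_f_rc_19_1 lc_f_rc_10_3 lc_f_rc_5_3 lc_f_rc_14_1 lc_f_rc_21_1 lc_f_rc_17_3 lc_f_rc_17_3 lc_f_rc_20_1 lc_f_rc_14_3 lc_f_rc_17_1 lc_f_rc_20_1 lc_f_rc_21_1 lc_f_rc_21_1 lc_f_rc_5_1 lc_f_rc_10_3 lc_f_rc_14_1 lc_f_rc_17_3 lc_f_rc_20_1 lc_f_Cert_tree lc_f_rc_17_1 lc_f_rc_17_1 lc_f_rc_17_1 lc_f_rc_14_1 lc_f_rc_5_1 lc_f_rc_10_1 lc_f_rc_21_1 lc_f_rc_17_3 lc_f_rc_20_1 lc_f_rc_20_1 lc_f_rc_22_1 lc_f_rc_14_3 lc_f_rc_19_5 lc_f_rc_21_1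 lc_f_rc_17_3 lc_f_rc_19_5 lc_f_rc_20_1) (@D3.rec (fun _ => (Cert rels S Gen.f)) lc_f_rc_21_1 lc_f_rc_5_1 lc_f_rc_5_3 lc_f_rc_10_3 lc_f_rc_19_1 lc_f_rc_17_3 lc_f_rc_5_3 lc_f_rc_14_3 lc_f_rc_10_3 lc_f_rc_21_1 lc_f_rc_14_1 lc_f_rc_5_3 lc_f_rc_20_1 lc_f_rc_20_1 lc_f_rc_17_1 lc_f_rc_14_3 lc_f_rc_21_1 lc_f_Cert_tree lc_f_rc_10_3 lc_f_rc_21_1 lc_f_rc_17_1 lc_f_rc_20_1 lc_f_rc_17_3 lc_f_rc_10_3 lc_f_rc_14_3 lc_f_rc_14_3 lc_f_rc_14_3 lc_f_rc_17_3 lc_f_rc_20_1 lc_f_rc_22_1 lc_f_rc_14_1 lc_f_rc_20_1 lc_f_rc_10_3 lc_f_rc_14_3 lc_f_rc_17_1 lc_f_rc_22_1 lc_f_rc_5_1 lc_f_rc_17_3 lc_f_rc_14_3 lc_f_rc_17_3 lc_f_rc_14_3 lc_f_rc_17_3 lc_f_rc_21_1 lc_f_rc_10_3 lc_f_rc_20_1 lc_f_rc_5_1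 lc_f_rc_21_1 lc_f_rc_20_1 lc_f_rc_20_1 lc_f_rc_14_1 lc_f_rc_20_1 lc_f_rc_17_3 lc_f_rc_14_3 lc_f_rc_14_3 lc_f_rc_17_3 lc_f_rc_17_3 lc_f_rc_14_3 lc_f_rc_14_1 lc_f_rc_21_1 lc_f_rc_17_1 lc_f_rc_20_1 lc_f_rc_10_3) (@D3.rec (fun _ => (Cert rels S Gen.f)) lc_f_rc_14_3 lc_f_rc_14_3 lc_f_rc_19_5 lc_f_rc_20_1 lc_f_rc_20_1 lc_f_rc_14_1 lc_f_rc_19_3 lc_f_rc_20_1 lc_f_rc_14_3 lc_f_rc_14_1 lc_f_rc_20_1 lc_f_rc_10_3 lc_f_rc_14_3 lc_f_rc_17_3 lc_f_rc_17_3 lc_f_rc_19_1 lc_f_rc_14_3 lc_f_rc_10_3 lc_f_rc_20_1 lc_f_rc_14_3 lc_f_rc_14_3 lc_f_rc_14_3 lc_f_rc_10_3 lc_f_rc_20_1 lc_f_rc_14_3 lc_f_rc_14_3 lc_f_rc_10_3 lc_f_rc_17_3 lc_f_rc_17_1 lc_f_rc_10_3 lc_f_rc_14_3 lc_f_rc_19_5 lc_f_rc_10_3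 lc_f_rc_21_1 lc_f_rc_10_3 lc_f_rc_14_1 lc_f_rc_20_1 lc_f_rc_10_3 lc_f_rc_14_3 lc_f_rc_20_1 lc_f_rc_22_1 lc_f_rc_5_1 lc_f_rc_17_3 lc_f_rc_17_3 lc_f_rc_19_3 lc_f_rc_21_1 lc_f_rc_10_1 lc_f_rc_20_1 lc_f_rc_19_3 lc_f_rc_17_3 lc_f_rc_17_3 lc_f_Cert_tree lc_f_rc_14_3 lc_f_rc_17_1 lc_f_rc_20_1 lc_f_rc_5_3 lc_f_Cert_tree lc_f_rc_22_1 lc_f_rc_14_3 lc_f_rc_20_1 lc_f_Cert_tree lc_f_rc_14_1) (@D3.rec (fun _ => (Cert rels S Gen.f)) lc_f_rc_20_1 lc_f_rc_21_1 lc_f_rc_20_1 lc_f_rc_5_1 lc_f_rc_14_3 lc_f_rc_17_3 lc_f_rc_14_1 lc_f_rc_17_3 lc_f_rc_14_3 lc_f_rc_17_3 lc_f_rc_19_3 lc_f_rc_21_1 lc_f_rc_14_3 lc_f_rc_5_3 lc_f_rc_14_1 lc_f_rc_14_3 lc_f_Cert_tree lc_f_rc_21_1 lc_f_rc_14_1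 lc_f_rc_20_1 lc_f_rc_20_1 lc_f_rc_17_1 lc_f_rc_10_3 lc_f_rc_10_3 lc_f_rc_5_3 lc_f_rc_19_5 lc_f_rc_14_3 lc_f_rc_17_3 lc_f_rc_17_3 lc_f_rc_10_3 lc_f_rc_19_3 lc_f_rc_20_1 lc_f_rc_10_3 lc_f_rc_20_1 lc_f_rc_10_1 lc_f_rc_17_3 lc_f_rc_10_3 lc_f_rc_14_1 lc_f_rc_20_1 lc_f_rc_5_3 lc_f_rc_14_3 lc_f_rc_20_1 lc_f_rc_20_1 lc_f_rc_20_1 lc_f_rc_20_1 lc_f_rc_10_3 lc_f_rc_14_3 lc_f_rc_14_3 lc_f_rc_17_3 lc_f_rc_17_3 lc_f_rc_14_1 lc_f_rc_20_1 lc_f_rc_17_3 lc_f_rc_17_3 lc_f_rc_20_1 lc_f_rc_21_1 lc_f_rc_14_3 lc_f_Cert_tree lc_f_rc_14_3 lc_f_rc_20_1 lc_f_rc_5_1 lc_f_Cert_tree) (@D3.rec (fun _ => (Cert rels S Gen.f)) lc_f_rc_10_3 lc_f_rc_20_1 lc_f_rc_10_3 lc_f_rc_5_1 lc_f_rc_20_1 lc_f_rc_19_3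 lc_f_rc_17_1 lc_f_rc_17_3 lc_f_rc_5_1 lc_f_rc_14_3 lc_f_rc_20_1 lc_f_rc_14_1 lc_f_rc_14_3 lc_f_rc_20_1 lc_f_rc_21_1 lc_f_rc_14_3 lc_f_rc_10_3 lc_f_rc_10_1 lc_f_rc_17_3 lc_f_rc_17_3 lc_f_rc_10_3 lc_f_rc_14_3 lc_f_rc_17_3 lc_f_rc_22_1 lc_f_rc_20_1 lc_f_rc_20_1 lc_f_rc_17_3 lc_f_rc_21_1 lc_f_rc_5_3 lc_f_rc_20_1 lc_f_rc_5_3 lc_f_rc_20_1 lc_f_rc_10_3 lc_f_rc_10_3 lc_f_rc_17_1 lc_f_rc_20_1 lc_f_rc_17_3 lc_f_rc_21_1 lc_f_rc_17_1 lc_f_rc_10_3 lc_f_rc_14_3 lc_f_rc_17_3 lc_f_rc_17_1 lc_f_rc_21_1 lc_f_rc_5_1 lc_f_rc_5_1 lc_f_rc_17_3 lc_f_rc_19_3 lc_f_rc_5_1 lc_f_rc_10_3 lc_f_rc_10_3 lc_f_rc_21_1 lc_f_rc_10_3 lc_f_rc_5_1 lc_f_rc_14_3 lc_f_rc_14_3 lc_f_rc_10_1 lc_f_rc_5_3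 lc_f_rc_5_3 lc_f_rc_17_1 lc_f_rc_10_3 lc_f_rc_14_1) (@D3.rec (fun _ => (Cert rels S Gen.f)) lc_f_rc_17_3 lc_f_rc_10_3 lc_f_rc_17_3 lc_f_rc_20_1 lc_f_rc_10_3 lc_f_rc_10_3 lc_f_rc_10_1 lc_f_rc_20_1 lc_f_rc_17_3 lc_f_rc_20_1 lc_f_rc_10_1 lc_f_rc_10_3 lc_f_rc_20_1 lc_f_rc_5_3 lc_f_rc_17_3 lc_f_rc_10_3 lc_f_rc_10_3 lc_f_rc_20_1 lc_f_rc_10_1 lc_f_rc_17_1 lc_f_rc_14_3 lc_f_rc_14_1 lc_f_rc_17_3 lc_f_rc_10_1 lc_f_rc_20_1 lc_f_rc_20_1 lc_f_rc_14_1 lc_f_rc_17_3 lc_f_rc_19_1 lc_f_rc_5_1 lc_f_rc_14_3 lc_f_rc_5_3 lc_f_rc_17_1 lc_f_rc_14_3 lc_f_rc_10_3 lc_f_rc_17_3 lc_f_rc_19_3 lc_f_rc_14_3 lc_f_rc_14_3 lc_f_rc_17_3 lc_f_rc_14_3 lc_f_rc_20_1 lc_f_rc_10_1 lc_f_rc_14_3 lc_f_rc_17_3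 lc_f_rc_5_1 lc_f_rc_20_1 lc_f_rc_10_3 lc_f_rc_19_1 lc_f_rc_19_5 lc_f_rc_20_1 lc_f_rc_14_1 lc_f_rc_22_1 lc_f_rc_19_3 lc_f_rc_14_1 lc_f_rc_5_1 lc_f_rc_21_1 lc_f_rc_5_1 lc_f_rc_5_1 lc_f_rc_21_1 lc_f_rc_14_1 lc_f_rc_20_1) (@D3.rec (fun _ => (Cert rels S Gen.f)) lc_f_rc_20_1 lc_f_rc_10_3 lc_f_rc_20_1 lc_f_rc_20_1 lc_f_rc_17_3 lc_f_rc_19_1 lc_f_rc_20_1 lc_f_rc_14_3 lc_f_Cert_tree lc_f_rc_20_1 lc_f_rc_10_3 lc_f_rc_20_1 lc_f_rc_20_1 lc_f_rc_19_3 lc_f_rc_14_1 lc_f_rc_14_3 lc_f_rc_5_3 lc_f_rc_14_3 lc_f_rc_14_1 lc_f_rc_17_1 lc_f_rc_20_1 lc_f_rc_19_1 lc_f_rc_17_3 lc_f_rc_14_3 lc_f_Cert_tree lc_f_rc_21_1 lc_f_rc_20_1 lc_f_rc_14_3 lc_f_rc_5_3 lc_f_rc_5_1 lc_f_rc_10_1 lc_f_rc_17_1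 lc_f_rc_20_1 lc_f_rc_19_3 lc_f_rc_14_3 lc_f_rc_19_3 lc_f_rc_14_3 lc_f_rc_20_1 lc_f_rc_5_1 lc_f_rc_14_1 lc_f_rc_14_1 lc_f_rc_20_1 lc_f_rc_14_1 lc_f_rc_17_3 lc_f_rc_10_1 lc_f_rc_17_1 lc_f_rc_5_1 lc_f_rc_14_3 lc_f_rc_17_1 lc_f_rc_10_3 lc_f_rc_10_3 lc_f_rc_17_3 lc_f_rc_20_1 lc_f_rc_20_1 lc_f_rc_5_1 lc_f_rc_20_1 lc_f_rc_14_3 lc_f_rc_20_1 lc_f_rc_14_3 lc_f_rc_17_1 lc_f_rc_20_1 lc_f_rc_5_1) (@D3.rec (fun _ => (Cert rels S Gen.f)) lc_f_rc_10_3 lc_f_rc_19_3 lc_f_rc_5_3 lc_f_rc_10_3 lc_f_rc_5_1 lc_f_rc_17_1 lc_f_rc_20_1 lc_f_rc_14_3 lc_f_rc_10_1 lc_f_rc_17_3 lc_f_rc_20_1 lc_f_rc_20_1 lc_f_rc_17_3 lc_f_rc_21_1 lc_f_rc_20_1 lc_f_rc_17_1 lc_f_Cert_tree lc_f_rc_20_1 lc_f_rc_19_3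 lc_f_rc_5_1 lc_f_rc_5_1 lc_f_rc_10_3 lc_f_rc_21_1 lc_f_rc_20_1 lc_f_rc_10_3 lc_f_rc_10_3 lc_f_rc_17_1 lc_f_rc_20_1 lc_f_rc_21_1 lc_f_rc_14_3 lc_f_rc_17_3 lc_f_rc_17_3 lc_f_rc_17_1 lc_f_rc_20_1 lc_f_rc_10_3 lc_f_rc_20_1 lc_f_rc_19_3 lc_f_rc_22_1 lc_f_rc_14_3 lc_f_rc_17_1 lc_f_rc_14_1 lc_f_rc_10_1 lc_f_rc_17_1 lc_f_rc_14_3 lc_f_rc_17_3 lc_f_rc_17_3 lc_f_rc_14_3 lc_f_rc_17_1 lc_f_rc_10_3 lc_f_rc_17_3 lc_f_rc_14_1 lc_f_rc_14_3 lc_f_rc_14_3 lc_f_rc_14_1 lc_f_rc_14_3 lc_f_rc_10_3 lc_f_rc_17_1 lc_f_rc_21_1 lc_f_rc_19_5 lc_f_rc_20_1 lc_f_rc_17_3 lc_f_rc_10_3) (@D3.rec (fun _ => (Cert rels S Gen.f)) lc_f_rc_17_1 lc_f_rc_14_3 lc_f_rc_17_1 lc_f_rc_17_3 lc_f_rc_14_3 lc_f_rc_17_3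 lc_f_rc_14_3 lc_f_rc_17_1 lc_f_rc_19_3 lc_f_rc_21_1 lc_f_rc_10_3 lc_f_rc_19_1 lc_f_rc_14_3 lc_f_rc_20_1 lc_f_rc_20_1 lc_f_rc_5_3 lc_f_rc_19_3 lc_f_rc_5_3 lc_f_rc_21_1 lc_f_rc_20_1 lc_f_rc_10_1 lc_f_rc_19_3 lc_f_rc_17_1 lc_f_rc_21_1 lc_f_rc_17_3 lc_f_rc_5_3 lc_f_rc_21_1 lc_f_rc_14_3 lc_f_Cert_tree lc_f_rc_14_3 lc_f_rc_17_3 lc_f_rc_19_3 lc_f_rc_10_3 lc_f_rc_14_3 lc_f_rc_17_1 lc_f_rc_14_1 lc_f_rc_17_3 lc_f_rc_10_1 lc_f_rc_20_1 lc_f_rc_14_1 lc_f_rc_17_1 lc_f_rc_14_1 lc_f_rc_10_3 lc_f_rc_10_1 lc_f_rc_5_3 lc_f_Cert_tree lc_f_rc_20_1 lc_f_rc_20_1 lc_f_rc_5_3 lc_f_rc_10_3 lc_f_rc_20_1 lc_f_rc_14_3 lc_f_rc_14_3 lc_f_Cert_tree lc_f_rc_14_3 lc_f_rc_5_1 lc_f_Cert_tree lc_f_rc_21_1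 lc_f_rc_10_3 lc_f_rc_20_1 lc_f_rc_14_1 lc_f_rc_21_1) (@D3.rec (fun _ => (Cert rels S Gen.f)) lc_f_rc_10_3 lc_f_rc_5_3 lc_f_rc_10_1 lc_f_rc_10_3 lc_f_rc_10_3 lc_f_rc_22_1 lc_f_rc_20_1 lc_f_rc_17_1 lc_f_rc_17_1 lc_f_rc_14_3 lc_f_rc_10_1 lc_f_rc_19_5 lc_f_rc_14_1 lc_f_rc_20_1 lc_f_rc_14_1 lc_f_rc_20_1 lc_f_rc_14_3 lc_f_Cert_tree lc_f_rc_5_3 lc_f_Cert_tree lc_f_rc_20_1 lc_f_rc_14_3 lc_f_rc_10_3 lc_f_rc_19_5 lc_f_rc_21_1 lc_f_rc_14_1 lc_f_rc_17_3 lc_f_rc_19_1 lc_f_rc_20_1 lc_f_rc_20_1 lc_f_rc_20_1 lc_f_rc_21_1 lc_f_rc_17_3 lc_f_rc_21_1 lc_f_rc_14_1 lc_f_rc_20_1 lc_f_rc_20_1 lc_f_rc_14_1 lc_f_rc_10_3 lc_f_rc_17_1 lc_f_rc_14_1 lc_f_rc_5_3 lc_f_rc_10_3 lc_f_rc_20_1 lc_f_rc_5_3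 lc_f_rc_20_1 lc_f_Cert_tree lc_f_rc_14_3 lc_f_rc_14_3 lc_f_rc_17_1 lc_f_rc_20_1 lc_f_rc_22_1 lc_f_rc_14_3 lc_f_rc_22_1 lc_f_rc_19_3 lc_f_rc_20_1 lc_f_rc_10_3 lc_f_rc_17_3 lc_f_rc_17_1 lc_f_rc_19_3 lc_f_rc_17_1 lc_f_rc_14_3) (@D3.rec (fun _ => (Cert rels S Gen.f)) lc_f_rc_17_3 lc_f_rc_14_1 lc_f_rc_17_1 lc_f_rc_14_3 lc_f_rc_10_3 lc_f_rc_5_1 lc_f_rc_10_3 lc_f_rc_17_1 lc_f_rc_17_3 lc_f_rc_10_3 lc_f_rc_17_3 lc_f_rc_14_1 lc_f_rc_17_3 lc_f_rc_10_3 lc_f_rc_17_3 lc_f_rc_10_3 lc_f_rc_14_3 lc_f_rc_14_3 lc_f_rc_19_3 lc_f_rc_19_5 lc_f_rc_20_1 lc_f_rc_17_3 lc_f_rc_5_1 lc_f_rc_21_1 lc_f_rc_5_3 lc_f_rc_10_3 lc_f_rc_17_3 lc_f_rc_17_3 lc_f_rc_14_1 lc_f_rc_19_3 lc_f_rc_21_1 lc_f_rc_22_1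 lc_f_rc_5_1 lc_f_rc_10_1 lc_f_rc_17_3 lc_f_rc_19_5 lc_f_rc_14_1 lc_f_rc_17_3 lc_f_rc_19_3 lc_f_rc_5_3 lc_f_rc_17_3 lc_f_rc_17_3 lc_f_rc_21_1 lc_f_rc_17_3 lc_f_rc_17_3 lc_f_rc_20_1 lc_f_rc_5_3 lc_f_rc_5_1 lc_f_Cert_tree lc_f_rc_20_1 lc_f_rc_20_1 lc_f_rc_20_1 lc_f_rc_14_3 lc_f_rc_14_3 lc_f_rc_22_1 lc_f_rc_20_1 lc_f_rc_19_3 lc_f_rc_10_1 lc_f_rc_17_1 lc_f_rc_10_3 lc_f_rc_10_3 lc_f_rc_20_1) (@D3.rec (fun _ => (Cert rels S Gen.f)) lc_f_rc_14_1 lc_f_rc_20_1 lc_f_rc_14_1 lc_f_rc_21_1 lc_f_rc_14_1 lc_f_rc_20_1 lc_f_rc_21_1 lc_f_rc_14_3 lc_f_rc_17_3 lc_f_rc_21_1 lc_f_rc_17_1 lc_f_rc_10_1 lc_f_rc_10_3 lc_f_rc_17_1 lc_f_rc_20_1 lc_f_rc_17_3 lc_f_rc_10_1 lc_f_rc_14_1 lc_f_Cert_tree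 lc_f_rc_20_1 lc_f_rc_14_1 lc_f_rc_20_1 lc_f_Cert_tree lc_f_rc_21_1 lc_f_rc_14_1 lc_f_rc_21_1 lc_f_rc_10_1 lc_f_rc_17_1 lc_f_rc_17_3 lc_f_rc_21_1 lc_f_rc_20_1 lc_f_rc_10_1 lc_f_rc_17_1 lc_f_rc_19_3 lc_f_rc_20_1 lc_f_rc_20_1 lc_f_rc_14_3 lc_f_rc_19_3 lc_f_rc_10_1 lc_f_rc_14_1 lc_f_rc_19_3 lc_f_rc_17_3 lc_f_rc_14_1 lc_f_rc_10_1 lc_f_rc_17_3 lc_f_rc_20_1 lc_f_rc_14_3 lc_f_rc_17_3 lc_f_rc_19_5 lc_f_rc_14_3 lc_f_rc_17_1 lc_f_rc_20_1 lc_f_rc_5_3 lc_f_rc_17_3 lc_f_rc_17_3 lc_f_rc_17_3 lc_f_rc_10_3 lc_f_rc_14_3 lc_f_rc_17_3 lc_f_rc_21_1 lc_f_rc_5_1 lc_f_rc_21_1) (@D3.rec (fun _ => (Cert rels S Gen.f)) lc_f_rc_14_3 lc_f_rc_17_3 lc_f_rc_21_1 lc_f_rc_17_3 lc_f_rc_17_3 lc_f_rc_5_1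 lc_f_rc_14_3 lc_f_rc_22_1 lc_f_rc_17_3 lc_f_rc_10_3 lc_f_rc_20_1 lc_f_rc_20_1 lc_f_rc_17_3 lc_f_rc_17_3 lc_f_rc_19_3 lc_f_Cert_tree lc_f_rc_21_1 lc_f_rc_19_3 lc_f_rc_20_1 lc_f_rc_22_1 lc_f_Cert_tree lc_f_rc_10_1 lc_f_rc_10_3 lc_f_rc_20_1 lc_f_rc_5_1 lc_f_Cert_tree lc_f_rc_10_1 lc_f_rc_20_1 lc_f_rc_10_3 lc_f_rc_14_3 lc_f_rc_14_3 lc_f_rc_17_3 lc_f_rc_17_3 lc_f_rc_14_1 lc_f_rc_14_3 lc_f_rc_20_1 lc_f_rc_5_3 lc_f_rc_20_1 lc_f_rc_5_3 lc_f_rc_19_5 lc_f_rc_14_3 lc_f_rc_19_1 lc_f_rc_21_1 lc_f_rc_19_3 lc_f_rc_10_3 lc_f_rc_10_3 lc_f_rc_14_3 lc_f_rc_10_1 lc_f_rc_14_3 lc_f_rc_17_3 lc_f_rc_21_1 lc_f_rc_19_5 lc_f_rc_10_1 lc_f_rc_20_1 lc_f_rc_10_3 lc_f_rc_20_1 lc_f_rc_20_1 lc_f_rc_5_1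 lc_f_rc_17_3 lc_f_rc_20_1 lc_f_rc_14_3 lc_f_rc_10_3) (@D3.rec (fun _ => (Cert rels S Gen.f)) lc_f_rc_14_3 lc_f_rc_17_1 lc_f_rc_19_3 lc_f_rc_20_1 lc_f_Cert_tree lc_f_rc_17_3 lc_f_rc_14_3 lc_f_rc_20_1 lc_f_rc_14_3 lc_f_rc_17_3 lc_f_rc_14_1 lc_f_rc_21_1 lc_f_rc_20_1 lc_f_Cert_tree lc_f_rc_20_1 lc_f_rc_17_3 lc_f_rc_10_1 lc_f_rc_10_3 lc_f_rc_14_3 lc_f_rc_10_3 lc_f_rc_5_3 lc_f_rc_21_1 lc_f_rc_20_1 lc_f_rc_5_3 lc_f_rc_17_3 lc_f_rc_21_1 lc_f_rc_14_3 lc_f_rc_10_3 lc_f_rc_5_3 lc_f_rc_19_5 lc_f_rc_21_1 lc_f_rc_5_1 lc_f_rc_20_1 lc_f_rc_21_1 lc_f_rc_5_3 lc_f_rc_21_1 lc_f_rc_17_3 lc_f_rc_19_3 lc_f_rc_14_3 lc_f_rc_20_1 lc_f_rc_20_1 lc_f_rc_20_1 lc_f_rc_17_3 lc_f_rc_10_3 lc_f_rc_14_3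 lc_f_rc_10_3 lc_f_rc_20_1 lc_f_Cert_tree lc_f_rc_21_1 lc_f_rc_14_1 lc_f_rc_20_1 lc_f_rc_5_3 lc_f_rc_14_3 lc_f_Cert_tree lc_f_rc_14_3 lc_f_rc_20_1 lc_f_rc_5_1 lc_f_Cert_tree lc_f_rc_10_3 lc_f_rc_14_1 lc_f_rc_21_1 lc_f_rc_20_1) (@D3.rec (fun _ => (Cert rels S Gen.f)) lc_f_rc_20_1 lc_f_rc_14_1 lc_f_rc_20_1 lc_f_rc_17_3 lc_f_rc_14_1 lc_f_rc_20_1 lc_f_rc_10_1 lc_f_rc_14_3 lc_f_rc_5_3 lc_f_rc_17_3 lc_f_rc_19_5 lc_f_rc_17_3 lc_f_rc_14_3 lc_f_rc_20_1 lc_f_rc_14_3 lc_f_rc_20_1 lc_f_Cert_tree lc_f_rc_5_1 lc_f_rc_20_1 lc_f_rc_20_1 lc_f_rc_10_3 lc_f_rc_5_3 lc_f_rc_10_3 lc_f_rc_21_1 lc_f_rc_20_1 lc_f_rc_20_1 lc_f_rc_17_3 lc_f_rc_14_1 lc_f_rc_10_1 lc_f_rc_21_1 lc_f_rc_20_1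 lc_f_rc_17_1 lc_f_rc_20_1 lc_f_rc_22_1 lc_f_rc_20_1 lc_f_rc_14_1 lc_f_rc_14_3 lc_f_rc_19_5 lc_f_rc_5_3 lc_f_rc_10_3 lc_f_rc_14_3 lc_f_rc_20_1 lc_f_rc_10_3 lc_f_rc_14_3 lc_f_rc_20_1 lc_f_rc_5_1 lc_f_rc_10_3 lc_f_rc_10_3 lc_f_rc_22_1 lc_f_rc_10_3 lc_f_rc_20_1 lc_f_rc_21_1 lc_f_rc_17_1 lc_f_rc_20_1 lc_f_rc_20_1 lc_f_rc_19_1 lc_f_rc_20_1 lc_f_rc_17_3 lc_f_rc_14_3 lc_f_rc_20_1 lc_f_rc_10_3 lc_f_rc_10_3) (@D3.rec (fun _ => (Cert rels S Gen.f)) lc_f_rc_10_3 lc_f_rc_14_3 lc_f_rc_20_1 lc_f_rc_14_3 lc_f_Cert_tree lc_f_rc_5_1 lc_f_rc_10_3 lc_f_rc_22_1 lc_f_rc_14_3 lc_f_rc_17_3 lc_f_rc_17_3 lc_f_rc_14_3 lc_f_rc_14_3 lc_f_rc_21_1 lc_f_rc_14_3 lc_f_rc_10_3 lc_f_rc_5_1 lc_f_rc_20_1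 lc_f_rc_20_1 lc_f_rc_20_1 lc_f_rc_10_1 lc_f_rc_14_3 lc_f_rc_17_1 lc_f_rc_5_3 lc_f_rc_14_1 lc_f_rc_20_1 lc_f_rc_21_1 lc_f_rc_20_1 lc_f_rc_20_1 lc_f_rc_14_3 lc_f_rc_21_1 lc_f_rc_5_3 lc_f_Cert_tree lc_f_rc_20_1 lc_f_rc_10_1 lc_f_rc_10_1 lc_f_rc_20_1 lc_f_rc_17_3 lc_f_rc_5_3 lc_f_rc_14_3 lc_f_rc_10_3 lc_f_rc_10_3 lc_f_rc_20_1 lc_f_rc_20_1 lc_f_rc_17_1 lc_f_rc_14_1 lc_f_rc_20_1 lc_f_rc_20_1 lc_f_rc_14_3 lc_f_rc_14_3 lc_f_rc_21_1 lc_f_rc_19_3 lc_f_rc_20_1 lc_f_rc_19_1 lc_f_rc_14_1 lc_f_rc_21_1 lc_f_rc_17_1 lc_f_rc_17_3 lc_f_rc_14_3 lc_f_rc_17_3 lc_f_rc_14_3 lc_f_rc_14_3) (@D3.rec (fun _ => (Cert rels S Gen.f)) lc_f_rc_10_3 lc_f_rc_17_1 lc_f_rc_20_1 lc_f_rc_5_3 lc_f_rc_20_1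 lc_f_rc_17_3 lc_f_rc_17_3 lc_f_rc_14_3 lc_f_rc_14_3 lc_f_rc_21_1 lc_f_rc_17_3 lc_f_rc_22_1 lc_f_rc_21_1 lc_f_rc_14_1 lc_f_rc_5_3 lc_f_rc_17_3 lc_f_rc_20_1 lc_f_rc_10_3 lc_f_rc_10_1 lc_f_rc_20_1 lc_f_rc_14_3 lc_f_rc_21_1 lc_f_rc_20_1 lc_f_rc_17_3 lc_f_rc_5_3 lc_f_rc_20_1 lc_f_rc_10_3 lc_f_rc_14_3 lc_f_rc_21_1 lc_f_rc_20_1 lc_f_rc_14_3 lc_f_rc_19_3 lc_f_rc_21_1 lc_f_rc_22_1 lc_f_rc_14_3 lc_f_Cert_tree lc_f_rc_20_1 lc_f_rc_17_3 lc_f_rc_10_3 lc_f_rc_21_1 lc_f_rc_14_3 lc_f_rc_20_1 lc_f_rc_17_3 lc_f_rc_17_3 lc_f_rc_17_3 lc_f_rc_20_1 lc_f_rc_17_3 lc_f_rc_20_1 lc_f_rc_17_3 lc_f_rc_14_3 lc_f_rc_19_3 lc_f_rc_20_1 lc_f_rc_20_1 lc_f_rc_20_1 lc_f_rc_20_1 lc_f_rc_21_1 lc_f_rc_19_5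 lc_f_rc_20_1 lc_f_rc_20_1 lc_f_rc_20_1 lc_f_rc_20_1 lc_f_rc_17_3) (@D3.rec (fun _ => (Cert rels S Gen.f)) lc_f_rc_14_3 lc_f_rc_5_3 lc_f_rc_10_3 lc_f_rc_5_3 lc_f_rc_17_3 lc_f_rc_20_1 lc_f_rc_20_1 lc_f_rc_22_1 lc_f_rc_19_3 lc_f_rc_10_3 lc_f_rc_17_3 lc_f_rc_10_3 lc_f_rc_14_3 lc_f_rc_19_3 lc_f_rc_10_1 lc_f_rc_20_1 lc_f_rc_17_3 lc_f_rc_17_3 lc_f_rc_20_1 lc_f_rc_14_3 lc_f_rc_10_1 lc_f_rc_17_3 lc_f_rc_17_3 lc_f_rc_21_1 lc_f_rc_20_1 lc_f_rc_19_1 lc_f_rc_17_1 lc_f_rc_17_1 lc_f_rc_14_1 lc_f_rc_20_1 lc_f_rc_17_3 lc_f_rc_14_3 lc_f_rc_10_1 lc_f_rc_17_3 lc_f_rc_5_3 lc_f_rc_14_3 lc_f_rc_10_3 lc_f_rc_20_1 lc_f_rc_14_3 lc_f_Cert_tree lc_f_rc_17_1 lc_f_rc_20_1 lc_f_rc_10_1 lc_f_rc_17_3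 lc_f_rc_5_3 lc_f_rc_21_1 lc_f_rc_14_3 lc_f_rc_14_1 lc_f_rc_14_1 lc_f_rc_14_1 lc_f_rc_14_3 lc_f_rc_5_3 lc_f_Cert_tree lc_f_rc_14_3 lc_f_rc_14_1 lc_f_rc_10_3 lc_f_rc_17_3 lc_f_rc_17_3 lc_f_rc_17_1 lc_f_rc_14_3 lc_f_Cert_tree lc_f_rc_14_3)
def ce_f_24 : D2 → D3 → (Cert rels S Gen.f) := @D2.rec (fun _ => D3 → (Cert rels S Gen.f)) (@D3.rec (fun _ => (Cert rels S Gen.f)) lc_f_rc_21_1 lc_f_rc_20_1 lc_f_rc_17_3 lc_f_rc_14_3 lc_f_Cert_tree lc_f_rc_21_1 lc_f_rc_20_1 lc_f_rc_5_1 lc_f_rc_5_3 lc_f_rc_17_3 lc_f_rc_14_3 lc_f_rc_17_1 lc_f_rc_17_3 lc_f_rc_22_1 lc_f_rc_22_1 lc_f_rc_5_1 lc_f_rc_14_3 lc_f_Cert_tree lc_f_rc_14_3 lc_f_rc_17_3 lc_f_rc_10_3 lc_f_rc_22_1 lc_f_rc_17_3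 lc_f_rc_20_1 lc_f_rc_10_3 lc_f_rc_14_3 lc_f_rc_20_1 lc_f_rc_17_3 lc_f_rc_17_3 lc_f_rc_5_3 lc_f_rc_14_1 lc_f_rc_20_1 lc_f_rc_20_1 lc_f_rc_22_1 lc_f_rc_20_1 lc_f_rc_10_3 lc_f_rc_21_1 lc_f_rc_14_3 lc_f_rc_14_3 lc_f_rc_5_3 lc_f_rc_17_1 lc_f_rc_20_1 lc_f_rc_21_1 lc_f_rc_20_1 lc_f_rc_10_3 lc_f_rc_5_1 lc_f_rc_10_3 lc_f_rc_10_3 lc_f_rc_20_1 lc_f_rc_10_3 lc_f_rc_22_1 lc_f_rc_17_1 lc_f_rc_20_1 lc_f_rc_17_3 lc_f_rc_5_3 lc_f_rc_21_1 lc_f_rc_20_1 lc_f_rc_20_1 lc_f_rc_10_3 lc_f_rc_5_3 lc_f_Cert_tree lc_f_rc_10_3) (@D3.rec (fun _ => (Cert rels S Gen.f)) lc_f_Cert_tree lc_f_rc_17_1 lc_f_rc_14_1 lc_f_Cert_tree lc_f_rc_17_3 lc_f_rc_17_1 lc_f_rc_19_3 lc_f_rc_5_1 lc_f_rc_17_1 lc_f_rc_21_1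 lc_f_rc_20_1 lc_f_rc_17_3 lc_f_rc_17_3 lc_f_rc_5_1 lc_f_rc_20_1 lc_f_rc_19_3 lc_f_rc_17_3 lc_f_rc_14_1 lc_f_rc_14_3 lc_f_rc_14_3 lc_f_rc_19_3 lc_f_rc_21_1 lc_f_rc_5_3 lc_f_rc_10_3 lc_f_rc_10_3 lc_f_rc_10_3 lc_f_rc_10_1 lc_f_rc_22_1 lc_f_rc_14_1 lc_f_rc_17_3 lc_f_rc_17_3 lc_f_rc_21_1 lc_f_rc_17_1 lc_f_rc_5_3 lc_f_rc_5_1 lc_f_rc_17_3 lc_f_rc_19_5 lc_f_rc_20_1 lc_f_rc_21_1 lc_f_rc_10_3 lc_f_rc_21_1 lc_f_rc_17_1 lc_f_rc_17_1 lc_f_rc_10_1 lc_f_rc_10_1 lc_f_rc_21_1 lc_f_rc_10_1 lc_f_rc_20_1 lc_f_rc_19_3 lc_f_rc_17_3 lc_f_rc_21_1 lc_f_rc_14_1 lc_f_rc_10_3 lc_f_Cert_tree lc_f_rc_20_1 lc_f_rc_17_3 lc_f_rc_10_3 lc_f_rc_5_3 lc_f_rc_20_1 lc_f_rc_10_1 lc_f_rc_17_3 lc_f_Cert_tree)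 (@D3.rec (fun _ => (Cert rels S Gen.f)) lc_f_rc_20_1 lc_f_rc_21_1 lc_f_rc_20_1 lc_f_rc_20_1 lc_f_Cert_tree lc_f_rc_14_3 lc_f_rc_20_1 lc_f_rc_5_1 lc_f_rc_14_3 lc_f_rc_20_1 lc_f_rc_14_3 lc_f_rc_10_1 lc_f_Cert_tree lc_f_rc_20_1 lc_f_rc_20_1 lc_f_rc_19_3 lc_f_rc_20_1 lc_f_rc_21_1 lc_f_rc_20_1 lc_f_rc_10_3 lc_f_rc_20_1 lc_f_rc_17_3 lc_f_rc_17_3 lc_f_rc_10_3 lc_f_rc_14_1 lc_f_Cert_tree lc_f_rc_10_3 lc_f_rc_17_3 lc_f_rc_21_1 lc_f_rc_14_3 lc_f_rc_5_3 lc_f_rc_17_3 lc_f_rc_5_1 lc_f_rc_19_3 lc_f_rc_14_3 lc_f_rc_14_3 lc_f_rc_10_1 lc_f_rc_17_3 lc_f_rc_20_1 lc_f_rc_20_1 lc_f_rc_10_3 lc_f_rc_14_3 lc_f_rc_17_3 lc_f_rc_5_1 lc_f_rc_14_1 lc_f_rc_17_3 lc_f_rc_17_3 lc_f_rc_14_3 lc_f_Cert_tree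 lc_f_rc_5_3 lc_f_rc_10_3 lc_f_rc_17_1 lc_f_rc_20_1 lc_f_rc_5_1 lc_f_rc_19_3 lc_f_rc_14_3 lc_f_rc_17_1 lc_f_rc_20_1 lc_f_rc_10_3 lc_f_rc_14_3 lc_f_rc_14_1 lc_f_rc_17_1) (@D3.rec (fun _ => (Cert rels S Gen.f)) lc_f_rc_20_1 lc_f_rc_21_1 lc_f_rc_20_1 lc_f_rc_10_3 lc_f_rc_14_3 lc_f_rc_20_1 lc_f_rc_14_1 lc_f_Cert_tree lc_f_rc_10_3 lc_f_Cert_tree lc_f_rc_20_1 lc_f_rc_10_3 lc_f_rc_5_3 lc_f_rc_10_3 lc_f_rc_17_3 lc_f_rc_19_3 lc_f_rc_17_1 lc_f_rc_17_1 lc_f_rc_17_1 lc_f_rc_17_1 lc_f_rc_5_3 lc_f_rc_14_1 lc_f_Cert_tree lc_f_rc_14_1 lc_f_rc_10_3 lc_f_rc_14_1 lc_f_rc_19_3 lc_f_rc_10_1 lc_f_rc_20_1 lc_f_rc_14_1 lc_f_rc_10_3 lc_f_rc_10_3 lc_f_rc_20_1 lc_f_rc_19_3 lc_f_rc_19_3 lc_f_rc_14_3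 lc_f_rc_21_1 lc_f_rc_17_1 lc_f_rc_20_1 lc_f_rc_5_3 lc_f_rc_10_3 lc_f_rc_14_3 lc_f_rc_22_1 lc_f_rc_20_1 lc_f_Cert_tree lc_f_rc_10_3 lc_f_rc_14_3 lc_f_rc_19_3 lc_f_rc_20_1 lc_f_rc_5_1 lc_f_rc_20_1 lc_f_rc_10_3 lc_f_rc_14_3 lc_f_rc_21_1 lc_f_rc_10_3 lc_f_rc_17_3 lc_f_Cert_tree lc_f_rc_14_3 lc_f_rc_17_1 lc_f_Cert_tree lc_f_rc_20_1 lc_f_rc_20_1) (@D3.rec (fun _ => (Cert rels S Gen.f)) lc_f_rc_5_3 lc_f_rc_20_1 lc_f_Cert_tree lc_f_rc_14_3 lc_f_rc_19_5 lc_f_rc_20_1 lc_f_rc_17_3 lc_f_rc_17_3 lc_f_rc_14_1 lc_f_rc_20_1 lc_f_rc_20_1 lc_f_rc_5_1 lc_f_Cert_tree lc_f_rc_14_1 lc_f_rc_10_3 lc_f_rc_17_3 lc_f_rc_17_3 lc_f_rc_10_1 lc_f_rc_10_1 lc_f_rc_20_1 lc_f_rc_14_3 lc_f_rc_5_3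 lc_f_Cert_tree lc_f_rc_14_3 lc_f_rc_14_3 lc_f_Cert_tree lc_f_rc_20_1 lc_f_rc_21_1 lc_f_rc_5_1 lc_f_rc_14_3 lc_f_Cert_tree lc_f_rc_21_1 lc_f_rc_10_1 lc_f_rc_20_1 lc_f_rc_19_1 lc_f_rc_21_1 lc_f_rc_17_3 lc_f_rc_20_1 lc_f_rc_5_1 lc_f_rc_10_1 lc_f_rc_17_3 lc_f_rc_21_1 lc_f_rc_10_1 lc_f_rc_5_1 lc_f_rc_20_1 lc_f_rc_10_3 lc_f_rc_14_1 lc_f_rc_14_3 lc_f_rc_19_5 lc_f_rc_21_1 lc_f_rc_14_3 lc_f_rc_17_3 lc_f_rc_10_3 lc_f_rc_20_1 lc_f_rc_19_3 lc_f_rc_10_1 lc_f_rc_10_1 lc_f_rc_21_1 lc_f_rc_20_1 lc_f_rc_5_3 lc_f_rc_17_3 lc_f_rc_5_1) (@D3.rec (fun _ => (Cert rels S Gen.f)) lc_f_rc_10_1 lc_f_rc_14_1 lc_f_rc_20_1 lc_f_rc_10_1 lc_f_rc_20_1 lc_f_rc_20_1 lc_f_rc_14_1 lc_f_rc_10_3 lc_f_rc_21_1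 lc_f_rc_20_1 lc_f_rc_14_3 lc_f_rc_10_1 lc_f_rc_17_1 lc_f_rc_20_1 lc_f_rc_20_1 lc_f_rc_14_1 lc_f_rc_20_1 lc_f_rc_5_3 lc_f_rc_19_3 lc_f_rc_14_1 lc_f_rc_17_1 lc_f_rc_14_1 lc_f_rc_10_1 lc_f_rc_20_1 lc_f_rc_10_3 lc_f_rc_19_3 lc_f_rc_17_3 lc_f_rc_14_3 lc_f_rc_17_3 lc_f_rc_5_3 lc_f_rc_17_1 lc_f_rc_17_3 lc_f_rc_5_3 lc_f_rc_20_1 lc_f_rc_22_1 lc_f_rc_14_1 lc_f_rc_17_1 lc_f_rc_10_1 lc_f_rc_20_1 lc_f_rc_14_3 lc_f_rc_21_1 lc_f_rc_5_1 lc_f_rc_10_3 lc_f_rc_5_3 lc_f_rc_19_5 lc_f_rc_5_3 lc_f_rc_20_1 lc_f_rc_22_1 lc_f_rc_20_1 lc_f_rc_14_3 lc_f_rc_17_3 lc_f_rc_14_1 lc_f_Cert_tree lc_f_rc_14_3 lc_f_rc_14_1 lc_f_rc_20_1 lc_f_rc_19_3 lc_f_rc_20_1 lc_f_rc_14_3 lc_f_rc_10_3 lc_f_rc_19_5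 lc_f_rc_5_3) (@D3.rec (fun _ => (Cert rels S Gen.f)) lc_f_rc_5_1 lc_f_rc_5_1 lc_f_rc_19_3 lc_f_rc_14_3 lc_f_rc_14_3 lc_f_rc_10_3 lc_f_rc_20_1 lc_f_rc_17_3 lc_f_rc_17_3 lc_f_rc_10_3 lc_f_rc_10_3 lc_f_rc_17_3 lc_f_rc_5_1 lc_f_rc_17_1 lc_f_rc_5_3 lc_f_rc_10_3 lc_f_Cert_tree lc_f_rc_21_1 lc_f_rc_20_1 lc_f_rc_10_3 lc_f_rc_22_1 lc_f_rc_14_3 lc_f_rc_14_3 lc_f_rc_17_3 lc_f_rc_20_1 lc_f_rc_20_1 lc_f_rc_10_3 lc_f_rc_5_1 lc_f_rc_5_1 lc_f_rc_5_1 lc_f_rc_14_3 lc_f_rc_10_3 lc_f_rc_14_1 lc_f_rc_14_1 lc_f_rc_22_1 lc_f_rc_20_1 lc_f_rc_20_1 lc_f_rc_21_1 lc_f_rc_17_1 lc_f_rc_20_1 lc_f_rc_19_3 lc_f_rc_20_1 lc_f_rc_19_1 lc_f_rc_19_5 lc_f_rc_14_1 lc_f_rc_22_1 lc_f_rc_14_3 lc_f_rc_10_1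 lc_f_rc_14_3 lc_f_rc_17_3 lc_f_rc_10_3 lc_f_rc_10_3 lc_f_rc_17_3 lc_f_rc_5_3 lc_f_rc_5_3 lc_f_rc_20_1 lc_f_Cert_tree lc_f_rc_20_1 lc_f_rc_17_3 lc_f_rc_17_1 lc_f_rc_20_1 lc_f_rc_22_1) (@D3.rec (fun _ => (Cert rels S Gen.f)) lc_f_rc_20_1 lc_f_rc_17_3 lc_f_rc_19_3 lc_f_rc_17_1 lc_f_rc_14_3 lc_f_rc_14_3 lc_f_rc_20_1 lc_f_rc_17_3 lc_f_rc_5_1 lc_f_rc_14_3 lc_f_rc_17_3 lc_f_rc_5_1 lc_f_rc_14_1 lc_f_rc_10_3 lc_f_rc_14_3 lc_f_rc_10_3 lc_f_rc_17_3 lc_f_rc_17_3 lc_f_rc_20_1 lc_f_rc_5_3 lc_f_rc_17_3 lc_f_rc_17_3 lc_f_rc_14_3 lc_f_rc_20_1 lc_f_rc_5_3 lc_f_rc_17_3 lc_f_rc_17_3 lc_f_rc_14_1 lc_f_rc_10_1 lc_f_rc_17_1 lc_f_rc_20_1 lc_f_rc_20_1 lc_f_rc_20_1 lc_f_rc_17_1 lc_f_rc_10_1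 lc_f_rc_20_1 lc_f_rc_19_3 lc_f_rc_17_3 lc_f_rc_5_3 lc_f_rc_21_1 lc_f_Cert_tree lc_f_rc_19_3 lc_f_rc_17_3 lc_f_rc_19_3 lc_f_rc_20_1 lc_f_Cert_tree lc_f_rc_20_1 lc_f_rc_17_1 lc_f_rc_10_3 lc_f_rc_19_5 lc_f_rc_17_1 lc_f_rc_14_1 lc_f_rc_10_3 lc_f_rc_5_3 lc_f_rc_20_1 lc_f_rc_14_3 lc_f_rc_21_1 lc_f_rc_20_1 lc_f_rc_10_1 lc_f_rc_17_3 lc_f_rc_10_3 lc_f_rc_14_1) (@D3.rec (fun _ => (Cert rels S Gen.f)) lc_f_rc_20_1 lc_f_rc_10_3 lc_f_rc_10_3 lc_f_rc_10_3 lc_f_rc_5_1 lc_f_rc_20_1 lc_f_rc_22_1 lc_f_rc_20_1 lc_f_rc_20_1 lc_f_rc_14_3 lc_f_rc_17_3 lc_f_rc_21_1 lc_f_rc_17_3 lc_f_rc_17_1 lc_f_rc_19_1 lc_f_rc_14_3 lc_f_rc_19_3 lc_f_rc_21_1 lc_f_rc_20_1 lc_f_rc_20_1 lc_f_rc_14_3 lc_f_rc_22_1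 lc_f_rc_20_1 lc_f_rc_19_5 lc_f_rc_5_1 lc_f_rc_14_3 lc_f_rc_20_1 lc_f_rc_20_1 lc_f_rc_17_1 lc_f_rc_14_3 lc_f_rc_20_1 lc_f_rc_10_1 lc_f_rc_17_3 lc_f_rc_14_1 lc_f_rc_14_3 lc_f_rc_19_3 lc_f_rc_21_1 lc_f_rc_20_1 lc_f_rc_19_5 lc_f_rc_14_3 lc_f_rc_14_1 lc_f_rc_20_1 lc_f_rc_17_3 lc_f_rc_10_1 lc_f_rc_14_1 lc_f_rc_5_1 lc_f_rc_10_3 lc_f_rc_5_3 lc_f_rc_14_1 lc_f_rc_5_3 lc_f_rc_5_1 lc_f_rc_17_1 lc_f_rc_22_1 lc_f_rc_20_1 lc_f_rc_10_3 lc_f_rc_17_3 lc_f_rc_14_1 lc_f_rc_10_1 lc_f_rc_14_3 lc_f_rc_17_1 lc_f_rc_17_3 lc_f_rc_10_3) (@D3.rec (fun _ => (Cert rels S Gen.f)) lc_f_rc_17_3 lc_f_rc_19_5 lc_f_rc_5_3 lc_f_rc_17_3 lc_f_rc_19_3 lc_f_rc_14_1 lc_f_rc_14_1 lc_f_rc_5_3 lc_f_rc_17_3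 lc_f_rc_20_1 lc_f_rc_20_1 lc_f_rc_14_1 lc_f_rc_20_1 lc_f_rc_10_3 lc_f_rc_14_1 lc_f_rc_20_1 lc_f_rc_21_1 lc_f_rc_20_1 lc_f_rc_14_3 lc_f_rc_19_3 lc_f_rc_21_1 lc_f_rc_20_1 lc_f_rc_10_1 lc_f_rc_14_1 lc_f_rc_20_1 lc_f_rc_21_1 lc_f_rc_20_1 lc_f_rc_21_1 lc_f_rc_20_1 lc_f_rc_21_1 lc_f_rc_20_1 lc_f_rc_22_1 lc_f_rc_10_3 lc_f_rc_17_3 lc_f_rc_20_1 lc_f_rc_20_1 lc_f_rc_17_3 lc_f_rc_20_1 lc_f_rc_21_1 lc_f_rc_20_1 lc_f_rc_21_1 lc_f_rc_21_1 lc_f_rc_19_1 lc_f_rc_14_1 lc_f_rc_14_3 lc_f_rc_20_1 lc_f_rc_17_1 lc_f_rc_14_3 lc_f_rc_21_1 lc_f_rc_17_3 lc_f_rc_14_3 lc_f_rc_17_1 lc_f_rc_14_1 lc_f_rc_20_1 lc_f_rc_5_1 lc_f_rc_5_1 lc_f_rc_20_1 lc_f_rc_19_3 lc_f_rc_14_3 lc_f_rc_10_1 lc_f_rc_17_1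 lc_f_rc_20_1) (@D3.rec (fun _ => (Cert rels S Gen.f)) lc_f_rc_19_1 lc_f_rc_17_3 lc_f_rc_14_3 lc_f_rc_17_3 lc_f_rc_21_1 lc_f_rc_5_3 lc_f_rc_20_1 lc_f_rc_17_3 lc_f_rc_14_3 lc_f_rc_5_3 lc_f_rc_20_1 lc_f_rc_5_1 lc_f_rc_10_3 lc_f_rc_5_3 lc_f_rc_10_3 lc_f_rc_17_3 lc_f_rc_17_3 lc_f_rc_17_3 lc_f_rc_10_3 lc_f_rc_10_1 lc_f_rc_20_1 lc_f_rc_21_1 lc_f_rc_14_3 lc_f_rc_10_3 lc_f_rc_19_1 lc_f_rc_14_3 lc_f_rc_14_3 lc_f_rc_17_1 lc_f_rc_5_3 lc_f_rc_5_1 lc_f_rc_5_1 lc_f_rc_17_1 lc_f_rc_20_1 lc_f_rc_20_1 lc_f_rc_14_3 lc_f_rc_19_3 lc_f_rc_14_1 lc_f_rc_17_3 lc_f_rc_14_3 lc_f_rc_5_3 lc_f_rc_21_1 lc_f_rc_10_3 lc_f_rc_20_1 lc_f_rc_22_1 lc_f_rc_20_1 lc_f_rc_20_1 lc_f_rc_20_1 lc_f_rc_19_3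 lc_f_rc_19_3 lc_f_rc_22_1 lc_f_rc_20_1 lc_f_rc_19_5 lc_f_rc_21_1 lc_f_rc_21_1 lc_f_rc_5_3 lc_f_rc_20_1 lc_f_rc_20_1 lc_f_rc_10_1 lc_f_rc_17_3 lc_f_rc_20_1 lc_f_rc_17_3 lc_f_Cert_tree) (@D3.rec (fun _ => (Cert rels S Gen.f)) lc_f_rc_20_1 lc_f_rc_14_3 lc_f_Cert_tree lc_f_rc_14_3 lc_f_rc_17_3 lc_f_rc_10_3 lc_f_rc_20_1 lc_f_rc_19_3 lc_f_rc_10_3 lc_f_rc_20_1 lc_f_rc_14_3 lc_f_rc_14_1 lc_f_rc_10_3 lc_f_rc_20_1 lc_f_rc_22_1 lc_f_rc_19_3 lc_f_rc_20_1 lc_f_rc_20_1 lc_f_rc_10_3 lc_f_rc_17_1 lc_f_rc_14_3 lc_f_rc_10_3 lc_f_rc_17_3 lc_f_Cert_tree lc_f_rc_17_3 lc_f_rc_22_1 lc_f_rc_20_1 lc_f_rc_14_1 lc_f_rc_20_1 lc_f_rc_19_3 lc_f_rc_14_3 lc_f_rc_20_1 lc_f_rc_19_3 lc_f_rc_10_3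 lc_f_rc_17_3 lc_f_rc_21_1 lc_f_rc_20_1 lc_f_rc_10_1 lc_f_rc_22_1 lc_f_rc_5_1 lc_f_rc_10_3 lc_f_rc_10_3 lc_f_rc_10_3 lc_f_Cert_tree lc_f_Cert_tree lc_f_rc_20_1 lc_f_rc_5_1 lc_f_rc_5_3 lc_f_rc_10_3 lc_f_Cert_tree lc_f_Cert_tree lc_f_rc_20_1 lc_f_rc_20_1 lc_f_rc_14_3 lc_f_rc_14_3 lc_f_rc_10_3 lc_f_rc_14_3 lc_f_rc_14_3 lc_f_rc_22_1 lc_f_rc_17_3 lc_f_rc_5_1 lc_f_rc_14_1) (@D3.rec (fun _ => (Cert rels S Gen.f)) lc_f_rc_10_1 lc_f_rc_17_1 lc_f_rc_14_1 lc_f_rc_20_1 lc_f_rc_17_3 lc_f_Cert_tree lc_f_rc_17_3 lc_f_rc_10_3 lc_f_rc_14_3 lc_f_rc_14_3 lc_f_rc_20_1 lc_f_rc_14_3 lc_f_rc_14_1 lc_f_rc_10_3 lc_f_rc_20_1 lc_f_rc_14_3 lc_f_Cert_tree lc_f_rc_19_5 lc_f_Cert_tree lc_f_rc_20_1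 lc_f_rc_5_1 lc_f_rc_17_3 lc_f_rc_14_3 lc_f_rc_20_1 lc_f_rc_5_3 lc_f_rc_5_1 lc_f_rc_5_3 lc_f_rc_19_5 lc_f_rc_14_1 lc_f_rc_14_1 lc_f_rc_20_1 lc_f_rc_20_1 lc_f_rc_17_3 lc_f_rc_21_1 lc_f_rc_10_1 lc_f_rc_19_3 lc_f_rc_14_3 lc_f_rc_20_1 lc_f_rc_17_3 lc_f_Cert_tree lc_f_rc_14_3 lc_f_rc_17_3 lc_f_Cert_tree lc_f_rc_20_1 lc_f_rc_19_3 lc_f_rc_17_3 lc_f_rc_21_1 lc_f_rc_22_1 lc_f_rc_19_5 lc_f_rc_10_3 lc_f_rc_21_1 lc_f_rc_10_3 lc_f_rc_22_1 lc_f_rc_20_1 lc_f_rc_5_3 lc_f_rc_20_1 lc_f_rc_20_1 lc_f_rc_17_1 lc_f_Cert_tree lc_f_rc_17_3 lc_f_rc_20_1 lc_f_rc_10_3) (@D3.rec (fun _ => (Cert rels S Gen.f)) lc_f_Cert_tree lc_f_rc_10_3 lc_f_rc_22_1 lc_f_rc_20_1 lc_f_rc_5_3 lc_f_Cert_tree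 lc_f_rc_20_1 lc_f_rc_19_3 lc_f_rc_14_3 lc_f_rc_17_1 lc_f_rc_21_1 lc_f_rc_10_3 lc_f_rc_21_1 lc_f_rc_20_1 lc_f_rc_10_1 lc_f_rc_20_1 lc_f_rc_14_1 lc_f_rc_17_3 lc_f_Cert_tree lc_f_rc_14_3 lc_f_rc_5_1 lc_f_rc_5_1 lc_f_rc_14_1 lc_f_rc_20_1 lc_f_rc_17_3 lc_f_rc_14_1 lc_f_rc_5_1 lc_f_rc_17_3 lc_f_rc_20_1 lc_f_rc_14_1 lc_f_rc_21_1 lc_f_rc_19_3 lc_f_rc_14_3 lc_f_rc_14_3 lc_f_rc_10_1 lc_f_rc_19_3 lc_f_rc_20_1 lc_f_rc_21_1 lc_f_rc_20_1 lc_f_rc_20_1 lc_f_rc_10_3 lc_f_Cert_tree lc_f_rc_17_1 lc_f_rc_17_3 lc_f_rc_17_3 lc_f_rc_20_1 lc_f_rc_19_3 lc_f_rc_22_1 lc_f_rc_19_5 lc_f_rc_21_1 lc_f_rc_10_3 lc_f_rc_21_1 lc_f_rc_5_1 lc_f_rc_14_1 lc_f_rc_20_1 lc_f_rc_14_3 lc_f_rc_19_5 lc_f_rc_10_3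 lc_f_rc_5_1 lc_f_rc_10_3 lc_f_rc_20_1 lc_f_rc_5_1) (@D3.rec (fun _ => (Cert rels S Gen.f)) lc_f_rc_14_3 lc_f_rc_17_3 lc_f_rc_17_1 lc_f_rc_20_1 lc_f_rc_20_1 lc_f_rc_5_3 lc_f_rc_20_1 lc_f_rc_21_1 lc_f_rc_17_1 lc_f_rc_22_1 lc_f_rc_20_1 lc_f_rc_17_1 lc_f_rc_10_1 lc_f_rc_17_3 lc_f_rc_21_1 lc_f_rc_17_3 lc_f_rc_17_3 lc_f_rc_21_1 lc_f_rc_17_3 lc_f_rc_20_1 lc_f_rc_20_1 lc_f_rc_17_3 lc_f_rc_20_1 lc_f_rc_20_1 lc_f_rc_21_1 lc_f_rc_20_1 lc_f_rc_10_1 lc_f_rc_5_3 lc_f_rc_5_3 lc_f_rc_19_3 lc_f_rc_17_3 lc_f_rc_21_1 lc_f_rc_14_1 lc_f_rc_20_1 lc_f_rc_21_1 lc_f_rc_22_1 lc_f_rc_20_1 lc_f_rc_10_3 lc_f_rc_10_3 lc_f_rc_17_3 lc_f_rc_20_1 lc_f_rc_14_1 lc_f_rc_10_3 lc_f_rc_14_3 lc_f_rc_10_1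 lc_f_rc_14_1 lc_f_rc_17_1 lc_f_rc_10_1 lc_f_rc_19_3 lc_f_rc_14_3 lc_f_rc_14_1 lc_f_rc_20_1 lc_f_rc_10_3 lc_f_rc_14_1 lc_f_rc_14_3 lc_f_Cert_tree lc_f_rc_14_3 lc_f_rc_5_3 lc_f_rc_14_1 lc_f_rc_21_1 lc_f_rc_10_1 lc_f_rc_17_3) (@D3.rec (fun _ => (Cert rels S Gen.f)) lc_f_rc_14_3 lc_f_rc_10_1 lc_f_rc_20_1 lc_f_rc_20_1 lc_f_rc_20_1 lc_f_rc_14_3 lc_f_rc_17_3 lc_f_rc_10_3 lc_f_rc_14_1 lc_f_rc_14_3 lc_f_rc_20_1 lc_f_rc_20_1 lc_f_Cert_tree lc_f_rc_20_1 lc_f_rc_22_1 lc_f_rc_19_3 lc_f_rc_20_1 lc_f_rc_10_3 lc_f_rc_5_3 lc_f_rc_17_3 lc_f_rc_17_1 lc_f_rc_10_3 lc_f_rc_5_1 lc_f_rc_14_3 lc_f_rc_17_3 lc_f_rc_20_1 lc_f_rc_20_1 lc_f_rc_14_3 lc_f_rc_19_3 lc_f_rc_14_3 lc_f_rc_14_1 lc_f_rc_17_1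 lc_f_rc_20_1 lc_f_rc_21_1 lc_f_rc_14_3 lc_f_rc_14_3 lc_f_Cert_tree lc_f_rc_19_5 lc_f_rc_19_5 lc_f_rc_5_3 lc_f_rc_20_1 lc_f_rc_19_5 lc_f_rc_14_3 lc_f_rc_10_1 lc_f_Cert_tree lc_f_rc_21_1 lc_f_rc_19_3 lc_f_rc_19_3 lc_f_rc_20_1 lc_f_rc_21_1 lc_f_rc_14_3 lc_f_rc_17_3 lc_f_Cert_tree lc_f_rc_19_5 lc_f_rc_10_3 lc_f_rc_20_1 lc_f_rc_20_1 lc_f_rc_10_3 lc_f_rc_14_3 lc_f_rc_20_1 lc_f_rc_10_3 lc_f_rc_14_3) (@D3.rec (fun _ => (Cert rels S Gen.f)) lc_f_rc_21_1 lc_f_rc_14_1 lc_f_rc_17_1 lc_f_rc_10_3 lc_f_rc_17_1 lc_f_Cert_tree lc_f_rc_14_3 lc_f_rc_21_1 lc_f_rc_14_1 lc_f_rc_20_1 lc_f_rc_14_3 lc_f_rc_20_1 lc_f_rc_19_3 lc_f_rc_14_1 lc_f_rc_5_1 lc_f_rc_5_3 lc_f_Cert_tree lc_f_rc_21_1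 lc_f_rc_14_1 lc_f_rc_17_1 lc_f_rc_19_3 lc_f_rc_20_1 lc_f_rc_14_1 lc_f_rc_19_3 lc_f_rc_20_1 lc_f_rc_10_3 lc_f_rc_10_3 lc_f_rc_21_1 lc_f_rc_19_3 lc_f_rc_5_1 lc_f_rc_17_1 lc_f_rc_14_3 lc_f_rc_17_1 lc_f_rc_19_3 lc_f_rc_17_1 lc_f_rc_10_1 lc_f_rc_14_3 lc_f_rc_19_1 lc_f_rc_20_1 lc_f_rc_14_3 lc_f_rc_10_3 lc_f_rc_17_1 lc_f_rc_10_1 lc_f_rc_17_3 lc_f_rc_5_1 lc_f_rc_19_5 lc_f_rc_20_1 lc_f_rc_17_3 lc_f_rc_21_1 lc_f_rc_20_1 lc_f_rc_20_1 lc_f_Cert_tree lc_f_rc_14_3 lc_f_rc_20_1 lc_f_rc_17_1 lc_f_rc_10_3 lc_f_rc_20_1 lc_f_rc_17_1 lc_f_rc_22_1 lc_f_Cert_tree lc_f_rc_19_1 lc_f_rc_14_3) (@D3.rec (fun _ => (Cert rels S Gen.f)) lc_f_rc_19_1 lc_f_rc_20_1 lc_f_rc_22_1 lc_f_rc_17_3 lc_f_rc_20_1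 lc_f_rc_17_1 lc_f_rc_5_1 lc_f_Cert_tree lc_f_rc_10_1 lc_f_rc_17_3 lc_f_rc_14_1 lc_f_rc_20_1 lc_f_rc_17_3 lc_f_rc_20_1 lc_f_rc_14_3 lc_f_rc_14_3 lc_f_rc_19_5 lc_f_rc_10_1 lc_f_rc_14_1 lc_f_rc_14_3 lc_f_rc_14_3 lc_f_rc_10_3 lc_f_rc_14_3 lc_f_rc_10_1 lc_f_rc_10_3 lc_f_rc_21_1 lc_f_rc_10_3 lc_f_rc_5_3 lc_f_rc_10_3 lc_f_rc_5_3 lc_f_rc_5_3 lc_f_Cert_tree lc_f_rc_20_1 lc_f_rc_5_3 lc_f_rc_20_1 lc_f_rc_17_3 lc_f_rc_17_1 lc_f_rc_14_3 lc_f_rc_20_1 lc_f_rc_21_1 lc_f_rc_5_1 lc_f_rc_21_1 lc_f_rc_14_1 lc_f_rc_5_3 lc_f_rc_21_1 lc_f_rc_17_1 lc_f_rc_10_3 lc_f_rc_17_3 lc_f_rc_17_3 lc_f_rc_20_1 lc_f_rc_10_1 lc_f_rc_21_1 lc_f_rc_17_1 lc_f_rc_21_1 lc_f_rc_19_5 lc_f_rc_10_3 lc_f_rc_5_3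 lc_f_rc_22_1 lc_f_rc_17_3 lc_f_rc_10_1 lc_f_rc_14_1 lc_f_rc_20_1) (@D3.rec (fun _ => (Cert rels S Gen.f)) lc_f_rc_17_3 lc_f_rc_5_3 lc_f_rc_17_1 lc_f_rc_21_1 lc_f_Cert_tree lc_f_rc_20_1 lc_f_rc_10_3 lc_f_rc_17_3 lc_f_rc_5_3 lc_f_rc_17_3 lc_f_rc_10_3 lc_f_rc_21_1 lc_f_rc_17_3 lc_f_rc_17_3 lc_f_rc_17_3 lc_f_rc_21_1 lc_f_rc_10_3 lc_f_rc_14_3 lc_f_rc_10_3 lc_f_rc_21_1 lc_f_rc_21_1 lc_f_rc_14_1 lc_f_rc_20_1 lc_f_rc_17_3 lc_f_rc_5_1 lc_f_rc_10_3 lc_f_rc_10_1 lc_f_rc_17_3 lc_f_rc_10_1 lc_f_rc_21_1 lc_f_rc_5_3 lc_f_rc_10_1 lc_f_rc_17_1 lc_f_rc_20_1 lc_f_rc_21_1 lc_f_rc_20_1 lc_f_rc_14_3 lc_f_rc_21_1 lc_f_rc_19_3 lc_f_rc_14_3 lc_f_rc_20_1 lc_f_rc_21_1 lc_f_rc_21_1 lc_f_rc_17_1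 lc_f_rc_14_1 lc_f_rc_14_3 lc_f_rc_22_1 lc_f_rc_17_1 lc_f_rc_20_1 lc_f_rc_21_1 lc_f_rc_19_3 lc_f_rc_10_3 lc_f_rc_14_1 lc_f_rc_17_3 lc_f_rc_20_1 lc_f_rc_19_1 lc_f_rc_14_3 lc_f_rc_14_3 lc_f_rc_17_3 lc_f_rc_14_3 lc_f_rc_20_1 lc_f_rc_10_3) (@D3.rec (fun _ => (Cert rels S Gen.f)) lc_f_rc_14_3 lc_f_rc_17_1 lc_f_rc_20_1 lc_f_rc_17_3 lc_f_rc_14_3 lc_f_rc_17_3 lc_f_rc_14_3 lc_f_rc_10_1 lc_f_rc_17_3 lc_f_rc_5_3 lc_f_rc_21_1 lc_f_rc_17_1 lc_f_rc_17_3 lc_f_rc_5_3 lc_f_rc_19_5 lc_f_rc_14_3 lc_f_rc_21_1 lc_f_Cert_tree lc_f_rc_14_1 lc_f_rc_20_1 lc_f_rc_19_3 lc_f_rc_17_1 lc_f_rc_14_1 lc_f_rc_14_3 lc_f_rc_21_1 lc_f_rc_17_3 lc_f_rc_19_5 lc_f_rc_10_1 lc_f_rc_14_1 lc_f_rc_5_3 lc_f_rc_5_3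 lc_f_rc_10_3 lc_f_rc_10_3 lc_f_rc_14_3 lc_f_rc_19_3 lc_f_Cert_tree lc_f_rc_21_1 lc_f_rc_5_1 lc_f_rc_17_1 lc_f_rc_20_1 lc_f_rc_20_1 lc_f_rc_14_1 lc_f_rc_14_1 lc_f_rc_10_3 lc_f_rc_20_1 lc_f_rc_21_1 lc_f_rc_10_1 lc_f_rc_14_1 lc_f_rc_21_1 lc_f_rc_17_3 lc_f_rc_10_3 lc_f_rc_20_1 lc_f_rc_5_3 lc_f_rc_21_1 lc_f_rc_14_3 lc_f_rc_14_3 lc_f_rc_19_3 lc_f_rc_17_3 lc_f_rc_14_1 lc_f_rc_5_3 lc_f_rc_5_1 lc_f_rc_14_3) (@D3.rec (fun _ => (Cert rels S Gen.f)) lc_f_rc_19_3 lc_f_rc_14_1 lc_f_rc_21_1 lc_f_rc_17_3 lc_f_rc_21_1 lc_f_rc_20_1 lc_f_rc_21_1 lc_f_rc_10_3 lc_f_rc_10_1 lc_f_rc_21_1 lc_f_rc_19_5 lc_f_rc_19_3 lc_f_rc_17_3 lc_f_rc_20_1 lc_f_rc_14_3 lc_f_rc_10_1 lc_f_rc_14_3 lc_f_rc_17_1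 lc_f_rc_19_1 lc_f_rc_17_1 lc_f_rc_20_1 lc_f_Cert_tree lc_f_rc_20_1 lc_f_rc_17_3 lc_f_Cert_tree lc_f_rc_5_3 lc_f_rc_17_1 lc_f_rc_20_1 lc_f_rc_20_1 lc_f_rc_19_1 lc_f_rc_10_3 lc_f_rc_14_1 lc_f_rc_20_1 lc_f_rc_10_1 lc_f_rc_22_1 lc_f_rc_14_3 lc_f_rc_5_1 lc_f_rc_10_3 lc_f_rc_14_1 lc_f_rc_14_1 lc_f_rc_17_1 lc_f_rc_14_1 lc_f_rc_14_1 lc_f_rc_5_3 lc_f_rc_20_1 lc_f_rc_10_3 lc_f_rc_19_5 lc_f_rc_5_1 lc_f_rc_10_3 lc_f_rc_5_3 lc_f_rc_10_3 lc_f_rc_17_3 lc_f_rc_20_1 lc_f_rc_19_5 lc_f_rc_17_1 lc_f_rc_21_1 lc_f_rc_20_1 lc_f_rc_10_3 lc_f_rc_14_3 lc_f_rc_17_3 lc_f_rc_14_3 lc_f_rc_14_1) (@D3.rec (fun _ => (Cert rels S Gen.f)) lc_f_rc_10_3 lc_f_rc_19_5 lc_f_rc_10_3 lc_f_rc_14_3 lc_f_Cert_tree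 lc_f_rc_21_1 lc_f_rc_19_3 lc_f_rc_17_1 lc_f_rc_20_1 lc_f_rc_10_3 lc_f_rc_21_1 lc_f_rc_5_3 lc_f_rc_5_1 lc_f_rc_19_3 lc_f_rc_20_1 lc_f_rc_17_3 lc_f_rc_14_3 lc_f_Cert_tree lc_f_rc_14_3 lc_f_rc_14_3 lc_f_rc_10_3 lc_f_rc_10_3 lc_f_rc_17_3 lc_f_rc_10_1 lc_f_rc_14_3 lc_f_rc_14_1 lc_f_rc_10_1 lc_f_rc_22_1 lc_f_rc_10_3 lc_f_rc_17_3 lc_f_rc_17_1 lc_f_rc_21_1 lc_f_rc_17_3 lc_f_rc_14_3 lc_f_rc_19_3 lc_f_rc_19_3 lc_f_rc_5_3 lc_f_rc_19_5 lc_f_rc_17_1 lc_f_rc_5_3 lc_f_Cert_tree lc_f_rc_10_3 lc_f_rc_22_1 lc_f_rc_14_3 lc_f_rc_20_1 lc_f_rc_14_3 lc_f_rc_22_1 lc_f_rc_10_3 lc_f_rc_22_1 lc_f_rc_19_3 lc_f_rc_10_1 lc_f_rc_17_3 lc_f_rc_21_1 lc_f_rc_19_1 lc_f_rc_20_1 lc_f_rc_10_3 lc_f_rc_22_1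 lc_f_rc_14_3 lc_f_rc_19_3 lc_f_rc_17_1 lc_f_rc_14_3 lc_f_rc_10_3) (@D3.rec (fun _ => (Cert rels S Gen.f)) lc_f_rc_17_3 lc_f_rc_21_1 lc_f_rc_10_3 lc_f_rc_19_3 lc_f_rc_17_1 lc_f_rc_21_1 lc_f_rc_5_1 lc_f_rc_20_1 lc_f_rc_21_1 lc_f_rc_14_1 lc_f_rc_20_1 lc_f_rc_17_3 lc_f_rc_10_1 lc_f_rc_19_5 lc_f_rc_17_3 lc_f_rc_17_1 lc_f_rc_10_3 lc_f_rc_17_3 lc_f_rc_20_1 lc_f_rc_21_1 lc_f_rc_5_1 lc_f_rc_22_1 lc_f_rc_5_3 lc_f_rc_14_3 lc_f_Cert_tree lc_f_rc_14_3 lc_f_rc_20_1 lc_f_rc_10_1 lc_f_rc_19_3 lc_f_rc_5_1 lc_f_rc_17_1 lc_f_rc_14_3 lc_f_rc_5_1 lc_f_rc_21_1 lc_f_rc_17_3 lc_f_rc_19_5 lc_f_rc_21_1 lc_f_rc_20_1 lc_f_rc_14_3 lc_f_rc_10_3 lc_f_rc_21_1 lc_f_rc_14_3 lc_f_rc_21_1 lc_f_rc_21_1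 lc_f_Cert_tree lc_f_rc_17_3 lc_f_rc_5_3 lc_f_rc_10_3 lc_f_rc_19_3 lc_f_rc_21_1 lc_f_rc_20_1 lc_f_rc_20_1 lc_f_rc_21_1 lc_f_rc_14_3 lc_f_rc_14_3 lc_f_rc_22_1 lc_f_rc_14_3 lc_f_rc_21_1 lc_f_rc_20_1 lc_f_rc_14_3 lc_f_rc_17_1 lc_f_rc_10_3) (@D3.rec (fun _ => (Cert rels S Gen.f)) lc_f_rc_21_1 lc_f_rc_14_3 lc_f_rc_17_3 lc_f_rc_14_3 lc_f_rc_19_1 lc_f_rc_19_5 lc_f_rc_17_1 lc_f_rc_19_5 lc_f_rc_17_3 lc_f_rc_20_1 lc_f_rc_21_1 lc_f_rc_20_1 lc_f_rc_17_3 lc_f_rc_20_1 lc_f_rc_20_1 lc_f_rc_17_3 lc_f_rc_17_3 lc_f_rc_14_3 lc_f_rc_10_3 lc_f_rc_17_1 lc_f_rc_10_3 lc_f_rc_17_3 lc_f_rc_20_1 lc_f_rc_17_1 lc_f_rc_17_3 lc_f_rc_14_3 lc_f_rc_14_3 lc_f_rc_14_3 lc_f_rc_17_3 lc_f_rc_19_3 lc_f_rc_20_1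 lc_f_rc_17_3 lc_f_rc_10_3 lc_f_rc_14_3 lc_f_rc_5_1 lc_f_rc_10_3 lc_f_rc_14_1 lc_f_rc_14_3 lc_f_rc_20_1 lc_f_rc_14_1 lc_f_rc_17_1 lc_f_rc_20_1 lc_f_rc_20_1 lc_f_rc_19_3 lc_f_rc_5_1 lc_f_rc_17_3 lc_f_Cert_tree lc_f_rc_21_1 lc_f_Cert_tree lc_f_rc_20_1 lc_f_rc_22_1 lc_f_rc_20_1 lc_f_rc_20_1 lc_f_rc_14_3 lc_f_rc_17_3 lc_f_rc_14_1 lc_f_rc_20_1 lc_f_rc_14_3 lc_f_rc_14_3 lc_f_rc_10_1 lc_f_rc_22_1 lc_f_rc_20_1) (@D3.rec (fun _ => (Cert rels S Gen.f)) lc_f_rc_17_3 lc_f_rc_20_1 lc_f_rc_20_1 lc_f_rc_17_1 lc_f_rc_17_3 lc_f_rc_10_1 lc_f_rc_17_1 lc_f_rc_14_1 lc_f_rc_19_5 lc_f_rc_17_3 lc_f_rc_20_1 lc_f_rc_10_3 lc_f_rc_10_3 lc_f_rc_22_1 lc_f_rc_10_3 lc_f_rc_14_3 lc_f_rc_17_1 lc_f_rc_14_3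 lc_f_rc_10_3 lc_f_rc_19_3 lc_f_rc_19_5 lc_f_rc_19_5 lc_f_rc_17_3 lc_f_rc_20_1 lc_f_rc_21_1 lc_f_rc_21_1 lc_f_rc_17_3 lc_f_rc_17_3 lc_f_rc_14_3 lc_f_rc_17_3 lc_f_rc_17_3 lc_f_rc_17_1 lc_f_rc_20_1 lc_f_rc_10_1 lc_f_rc_14_1 lc_f_rc_17_3 lc_f_rc_17_1 lc_f_rc_5_3 lc_f_rc_10_1 lc_f_rc_17_3 lc_f_rc_5_3 lc_f_rc_17_1 lc_f_rc_21_1 lc_f_Cert_tree lc_f_rc_20_1 lc_f_rc_21_1 lc_f_rc_20_1 lc_f_rc_10_3 lc_f_rc_20_1 lc_f_rc_14_3 lc_f_rc_14_1 lc_f_rc_10_3 lc_f_rc_17_3 lc_f_rc_21_1 lc_f_rc_21_1 lc_f_rc_17_3 lc_f_rc_20_1 lc_f_rc_14_1 lc_f_rc_20_1 lc_f_rc_10_1 lc_f_Cert_tree lc_f_rc_21_1) (@D3.rec (fun _ => (Cert rels S Gen.f)) lc_f_rc_5_1 lc_f_rc_20_1 lc_f_rc_10_1 lc_f_rc_14_3 lc_f_Cert_tree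 lc_f_rc_20_1 lc_f_rc_21_1 lc_f_rc_17_3 lc_f_rc_20_1 lc_f_rc_10_3 lc_f_rc_20_1 lc_f_rc_14_1 lc_f_rc_14_3 lc_f_rc_17_3 lc_f_rc_14_3 lc_f_rc_14_3 lc_f_rc_21_1 lc_f_rc_20_1 lc_f_rc_19_3 lc_f_rc_22_1 lc_f_rc_17_1 lc_f_rc_17_3 lc_f_rc_17_3 lc_f_rc_14_1 lc_f_rc_10_1 lc_f_rc_14_3 lc_f_rc_17_3 lc_f_rc_14_1 lc_f_rc_20_1 lc_f_rc_20_1 lc_f_rc_17_1 lc_f_rc_20_1 lc_f_rc_17_3 lc_f_rc_14_3 lc_f_rc_14_3 lc_f_rc_10_3 lc_f_rc_5_3 lc_f_rc_21_1 lc_f_rc_14_1 lc_f_rc_22_1 lc_f_rc_17_3 lc_f_rc_20_1 lc_f_rc_17_3 lc_f_rc_14_3 lc_f_rc_19_3 lc_f_rc_14_3 lc_f_rc_10_3 lc_f_rc_21_1 lc_f_rc_19_1 lc_f_rc_14_3 lc_f_rc_20_1 lc_f_rc_21_1 lc_f_rc_17_3 lc_f_rc_14_3 lc_f_rc_22_1 lc_f_rc_10_3 lc_f_rc_19_1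 lc_f_rc_21_1 lc_f_rc_20_1 lc_f_rc_21_1 lc_f_rc_14_3 lc_f_Cert_tree) (@D3.rec (fun _ => (Cert rels S Gen.f)) lc_f_rc_21_1 lc_f_rc_19_3 lc_f_rc_10_1 lc_f_rc_17_1 lc_f_rc_21_1 lc_f_rc_10_3 lc_f_rc_20_1 lc_f_rc_5_1 lc_f_rc_19_3 lc_f_rc_22_1 lc_f_rc_10_3 lc_f_rc_21_1 lc_f_rc_20_1 lc_f_rc_21_1 lc_f_rc_20_1 lc_f_rc_17_3 lc_f_rc_10_1 lc_f_rc_17_3 lc_f_rc_20_1 lc_f_rc_20_1 lc_f_rc_19_3 lc_f_rc_20_1 lc_f_rc_10_3 lc_f_rc_5_3 lc_f_rc_14_3 lc_f_rc_17_3 lc_f_rc_5_1 lc_f_rc_14_3 lc_f_rc_10_3 lc_f_rc_10_3 lc_f_rc_20_1 lc_f_rc_17_3 lc_f_Cert_tree lc_f_rc_14_3 lc_f_Cert_tree lc_f_rc_20_1 lc_f_rc_10_3 lc_f_rc_17_3 lc_f_rc_14_1 lc_f_rc_21_1 lc_f_Cert_tree lc_f_rc_14_1 lc_f_rc_14_3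 lc_f_rc_17_1 lc_f_rc_21_1 lc_f_rc_20_1 lc_f_rc_14_1 lc_f_rc_17_3 lc_f_rc_17_3 lc_f_rc_20_1 lc_f_rc_10_3 lc_f_rc_17_3 lc_f_rc_14_3 lc_f_rc_21_1 lc_f_rc_5_3 lc_f_rc_14_1 lc_f_rc_14_3 lc_f_rc_20_1 lc_f_Cert_tree lc_f_rc_5_3 lc_f_rc_17_3 lc_f_Cert_tree) (@D3.rec (fun _ => (Cert rels S Gen.f)) lc_f_rc_10_3 lc_f_rc_10_1 lc_f_rc_20_1 lc_f_rc_5_1 lc_f_rc_10_1 lc_f_rc_17_1 lc_f_rc_20_1 lc_f_rc_10_1 lc_f_rc_17_3 lc_f_rc_14_3 lc_f_rc_17_3 lc_f_rc_19_1 lc_f_rc_14_3 lc_f_rc_10_1 lc_f_Cert_tree lc_f_rc_10_1 lc_f_rc_21_1 lc_f_rc_14_3 lc_f_rc_17_1 lc_f_Cert_tree lc_f_rc_21_1 lc_f_rc_20_1 lc_f_rc_10_3 lc_f_rc_20_1 lc_f_rc_10_3 lc_f_rc_5_3 lc_f_Cert_tree lc_f_rc_21_1 lc_f_rc_17_1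 lc_f_rc_20_1 lc_f_rc_10_3 lc_f_rc_5_3 lc_f_rc_19_5 lc_f_rc_22_1 lc_f_rc_17_3 lc_f_rc_17_1 lc_f_Cert_tree lc_f_rc_20_1 lc_f_rc_19_1 lc_f_rc_10_1 lc_f_rc_19_1 lc_f_rc_20_1 lc_f_rc_20_1 lc_f_rc_17_1 lc_f_rc_5_3 lc_f_Cert_tree lc_f_rc_17_3 lc_f_rc_17_3 lc_f_rc_21_1 lc_f_rc_10_1 lc_f_rc_14_1 lc_f_rc_20_1 lc_f_rc_17_1 lc_f_rc_10_1 lc_f_rc_14_3 lc_f_rc_14_3 lc_f_rc_20_1 lc_f_rc_22_1 lc_f_rc_17_3 lc_f_rc_21_1 lc_f_rc_21_1 lc_f_rc_10_3) (@D3.rec (fun _ => (Cert rels S Gen.f)) lc_f_rc_20_1 lc_f_rc_14_3 lc_f_rc_21_1 lc_f_rc_21_1 lc_f_rc_19_5 lc_f_rc_19_1 lc_f_rc_20_1 lc_f_rc_10_3 lc_f_rc_17_3 lc_f_rc_5_3 lc_f_rc_22_1 lc_f_rc_10_1 lc_f_rc_14_3 lc_f_rc_14_3 lc_f_rc_10_3 lc_f_rc_17_3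 lc_f_rc_21_1 lc_f_rc_14_1 lc_f_rc_19_1 lc_f_rc_10_3 lc_f_rc_17_3 lc_f_rc_19_5 lc_f_rc_21_1 lc_f_rc_20_1 lc_f_rc_14_3 lc_f_rc_20_1 lc_f_rc_14_1 lc_f_rc_19_5 lc_f_rc_5_3 lc_f_rc_10_3 lc_f_rc_19_1 lc_f_rc_20_1 lc_f_rc_21_1 lc_f_rc_10_3 lc_f_rc_17_1 lc_f_rc_5_1 lc_f_rc_14_1 lc_f_rc_10_3 lc_f_rc_19_3 lc_f_rc_21_1 lc_f_rc_5_3 lc_f_rc_19_5 lc_f_rc_20_1 lc_f_rc_17_1 lc_f_rc_19_3 lc_f_rc_14_1 lc_f_rc_20_1 lc_f_rc_20_1 lc_f_rc_17_3 lc_f_rc_14_1 lc_f_rc_14_3 lc_f_rc_5_3 lc_f_rc_17_1 lc_f_rc_17_3 lc_f_rc_10_3 lc_f_rc_19_3 lc_f_rc_21_1 lc_f_rc_21_1 lc_f_Cert_tree lc_f_rc_14_3 lc_f_rc_17_3 lc_f_rc_19_3) (@D3.rec (fun _ => (Cert rels S Gen.f)) lc_f_rc_17_3 lc_f_rc_20_1 lc_f_rc_20_1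 lc_f_rc_5_3 lc_f_rc_19_3 lc_f_rc_22_1 lc_f_rc_20_1 lc_f_rc_17_3 lc_f_rc_10_3 lc_f_rc_20_1 lc_f_rc_17_3 lc_f_rc_10_3 lc_f_rc_21_1 lc_f_rc_14_3 lc_f_rc_5_3 lc_f_rc_14_3 lc_f_rc_10_3 lc_f_Cert_tree lc_f_rc_20_1 lc_f_rc_10_3 lc_f_rc_17_3 lc_f_rc_14_1 lc_f_rc_19_5 lc_f_rc_21_1 lc_f_rc_20_1 lc_f_rc_17_3 lc_f_rc_10_3 lc_f_rc_17_3 lc_f_rc_17_3 lc_f_rc_10_3 lc_f_rc_19_5 lc_f_rc_5_3 lc_f_Cert_tree lc_f_rc_20_1 lc_f_rc_10_3 lc_f_rc_10_3 lc_f_rc_19_3 lc_f_rc_10_3 lc_f_rc_14_3 lc_f_rc_14_1 lc_f_rc_17_3 lc_f_rc_17_3 lc_f_rc_14_1 lc_f_rc_17_3 lc_f_Cert_tree lc_f_rc_17_3 lc_f_rc_17_3 lc_f_Cert_tree lc_f_rc_20_1 lc_f_rc_14_3 lc_f_rc_19_3 lc_f_rc_10_3 lc_f_rc_20_1 lc_f_rc_19_1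 lc_f_rc_10_1 lc_f_rc_20_1 lc_f_rc_10_3 lc_f_rc_17_3 lc_f_rc_17_3 lc_f_rc_17_3 lc_f_rc_20_1 lc_f_rc_10_3) (@D3.rec (fun _ => (Cert rels S Gen.f)) lc_f_rc_14_1 lc_f_rc_20_1 lc_f_rc_14_3 lc_f_rc_17_3 lc_f_rc_14_3 lc_f_rc_14_3 lc_f_rc_14_1 lc_f_rc_20_1 lc_f_rc_5_3 lc_f_rc_17_3 lc_f_rc_14_1 lc_f_Cert_tree lc_f_rc_14_3 lc_f_rc_21_1 lc_f_Cert_tree lc_f_rc_21_1 lc_f_rc_20_1 lc_f_rc_20_1 lc_f_rc_14_1 lc_f_rc_14_1 lc_f_rc_5_3 lc_f_Cert_tree lc_f_Cert_tree lc_f_rc_20_1 lc_f_rc_19_3 lc_f_rc_14_1 lc_f_rc_17_3 lc_f_rc_10_3 lc_f_rc_14_1 lc_f_rc_20_1 lc_f_rc_14_3 lc_f_rc_10_3 lc_f_rc_20_1 lc_f_rc_19_3 lc_f_rc_14_3 lc_f_rc_14_3 lc_f_rc_17_1 lc_f_rc_20_1 lc_f_rc_14_1 lc_f_rc_17_3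 lc_f_rc_14_1 lc_f_rc_17_1 lc_f_rc_10_3 lc_f_rc_10_1 lc_f_rc_21_1 lc_f_rc_10_3 lc_f_rc_21_1 lc_f_rc_19_5 lc_f_rc_19_5 lc_f_rc_5_1 lc_f_rc_21_1 lc_f_rc_10_3 lc_f_rc_10_3 lc_f_rc_14_3 lc_f_rc_17_3 lc_f_rc_14_1 lc_f_rc_17_3 lc_f_rc_22_1 lc_f_rc_17_3 lc_f_Cert_tree lc_f_rc_19_3 lc_f_rc_17_3) (@D3.rec (fun _ => (Cert rels S Gen.f)) lc_f_rc_20_1 lc_f_rc_5_3 lc_f_rc_14_1 lc_f_rc_21_1 lc_f_rc_10_3 lc_f_rc_21_1 lc_f_rc_14_3 lc_f_rc_19_5 lc_f_rc_17_1 lc_f_rc_14_3 lc_f_rc_19_5 lc_f_rc_20_1 lc_f_rc_21_1 lc_f_rc_17_3 lc_f_rc_21_1 lc_f_rc_10_3 lc_f_rc_20_1 lc_f_rc_21_1 lc_f_rc_20_1 lc_f_rc_19_3 lc_f_rc_17_1 lc_f_rc_17_1 lc_f_rc_22_1 lc_f_rc_19_3 lc_f_rc_21_1 lc_f_rc_14_3 lc_f_rc_21_1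 lc_f_rc_10_3 lc_f_Cert_tree lc_f_rc_17_1 lc_f_rc_20_1 lc_f_rc_20_1 lc_f_rc_17_3 lc_f_rc_14_3 lc_f_Cert_tree lc_f_rc_19_5 lc_f_rc_21_1 lc_f_rc_22_1 lc_f_rc_20_1 lc_f_rc_20_1 lc_f_rc_14_3 lc_f_rc_10_3 lc_f_rc_14_1 lc_f_rc_5_1 lc_f_rc_22_1 lc_f_rc_5_3 lc_f_rc_14_3 lc_f_rc_14_3 lc_f_rc_17_3 lc_f_rc_20_1 lc_f_rc_14_3 lc_f_rc_10_3 lc_f_rc_14_1 lc_f_rc_17_3 lc_f_rc_14_3 lc_f_rc_19_3 lc_f_rc_10_1 lc_f_rc_14_3 lc_f_rc_14_3 lc_f_rc_10_3 lc_f_rc_19_5 lc_f_rc_10_1) (@D3.rec (fun _ => (Cert rels S Gen.f)) lc_f_rc_10_3 lc_f_rc_5_1 lc_f_rc_17_3 lc_f_rc_10_1 lc_f_rc_19_5 lc_f_rc_14_3 lc_f_rc_17_3 lc_f_rc_19_3 lc_f_rc_19_3 lc_f_rc_21_1 lc_f_rc_10_3 lc_f_rc_20_1 lc_f_rc_14_3 lc_f_rc_21_1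 lc_f_rc_20_1 lc_f_rc_20_1 lc_f_rc_10_3 lc_f_rc_19_3 lc_f_rc_10_1 lc_f_rc_14_3 lc_f_rc_14_3 lc_f_rc_14_1 lc_f_rc_17_3 lc_f_rc_10_3 lc_f_rc_20_1 lc_f_rc_20_1 lc_f_rc_17_3 lc_f_rc_21_1 lc_f_rc_19_5 lc_f_rc_19_5 lc_f_rc_10_3 lc_f_rc_14_3 lc_f_rc_14_3 lc_f_rc_20_1 lc_f_rc_14_1 lc_f_rc_20_1 lc_f_rc_19_3 lc_f_rc_21_1 lc_f_rc_14_3 lc_f_rc_14_3 lc_f_rc_14_3 lc_f_rc_20_1 lc_f_rc_17_1 lc_f_rc_10_1 lc_f_rc_14_3 lc_f_rc_10_1 lc_f_rc_20_1 lc_f_rc_14_3 lc_f_rc_17_1 lc_f_rc_14_3 lc_f_rc_10_3 lc_f_rc_14_3 lc_f_rc_10_3 lc_f_rc_10_3 lc_f_rc_17_3 lc_f_rc_17_3 lc_f_rc_10_1 lc_f_rc_14_1 lc_f_rc_14_3 lc_f_rc_14_3 lc_f_rc_20_1 lc_f_rc_14_1) (@D3.rec (fun _ => (Cert rels S Gen.f)) lc_f_rc_10_3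 lc_f_rc_20_1 lc_f_rc_14_3 lc_f_rc_19_3 lc_f_rc_22_1 lc_f_rc_21_1 lc_f_rc_17_1 lc_f_rc_14_3 lc_f_rc_17_3 lc_f_rc_20_1 lc_f_rc_14_3 lc_f_rc_14_3 lc_f_rc_20_1 lc_f_rc_22_1 lc_f_rc_17_3 lc_f_rc_20_1 lc_f_rc_19_3 lc_f_rc_14_3 lc_f_rc_21_1 lc_f_rc_14_1 lc_f_rc_14_3 lc_f_rc_19_5 lc_f_rc_14_1 lc_f_rc_14_3 lc_f_rc_17_3 lc_f_rc_14_1 lc_f_rc_5_1 lc_f_rc_22_1 lc_f_rc_20_1 lc_f_rc_17_3 lc_f_rc_5_3 lc_f_rc_22_1 lc_f_rc_17_3 lc_f_rc_21_1 lc_f_rc_19_3 lc_f_rc_20_1 lc_f_rc_5_1 lc_f_rc_5_1 lc_f_rc_14_1 lc_f_rc_17_1 lc_f_rc_14_3 lc_f_rc_10_3 lc_f_rc_17_3 lc_f_rc_19_3 lc_f_rc_14_3 lc_f_rc_19_1 lc_f_Cert_tree lc_f_rc_20_1 lc_f_rc_14_1 lc_f_rc_10_3 lc_f_rc_10_1 lc_f_Cert_tree lc_f_rc_17_3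 lc_f_rc_14_3 lc_f_rc_20_1 lc_f_rc_19_5 lc_f_rc_17_3 lc_f_rc_10_3 lc_f_rc_14_1 lc_f_rc_21_1 lc_f_rc_20_1 lc_f_rc_20_1) (@D3.rec (fun _ => (Cert rels S Gen.f)) lc_f_rc_22_1 lc_f_rc_19_3 lc_f_rc_14_3 lc_f_rc_17_1 lc_f_rc_20_1 lc_f_rc_21_1 lc_f_rc_20_1 lc_f_rc_5_3 lc_f_rc_20_1 lc_f_rc_22_1 lc_f_rc_21_1 lc_f_rc_17_1 lc_f_rc_17_3 lc_f_rc_17_3 lc_f_rc_21_1 lc_f_rc_5_1 lc_f_rc_17_1 lc_f_rc_20_1 lc_f_rc_19_3 lc_f_rc_5_3 lc_f_rc_5_3 lc_f_rc_19_3 lc_f_rc_17_1 lc_f_rc_5_3 lc_f_rc_21_1 lc_f_rc_19_5 lc_f_rc_14_3 lc_f_rc_19_1 lc_f_rc_20_1 lc_f_rc_10_3 lc_f_rc_20_1 lc_f_rc_10_3 lc_f_rc_14_1 lc_f_rc_21_1 lc_f_rc_20_1 lc_f_rc_14_3 lc_f_rc_20_1 lc_f_rc_10_3 lc_f_rc_10_3 lc_f_rc_21_1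 lc_f_rc_20_1 lc_f_rc_20_1 lc_f_rc_14_3 lc_f_rc_14_1 lc_f_rc_10_3 lc_f_rc_17_1 lc_f_rc_14_3 lc_f_rc_10_3 lc_f_rc_20_1 lc_f_rc_21_1 lc_f_rc_21_1 lc_f_rc_21_1 lc_f_rc_20_1 lc_f_rc_20_1 lc_f_rc_20_1 lc_f_Cert_tree lc_f_rc_21_1 lc_f_rc_14_3 lc_f_Cert_tree lc_f_rc_20_1 lc_f_rc_21_1 lc_f_rc_17_1) (@D3.rec (fun _ => (Cert rels S Gen.f)) lc_f_rc_14_1 lc_f_rc_20_1 lc_f_rc_21_1 lc_f_rc_20_1 lc_f_rc_20_1 lc_f_rc_5_3 lc_f_rc_22_1 lc_f_rc_17_3 lc_f_rc_5_1 lc_f_rc_10_3 lc_f_rc_17_3 lc_f_rc_10_1 lc_f_rc_14_3 lc_f_rc_10_3 lc_f_rc_5_1 lc_f_rc_20_1 lc_f_rc_10_3 lc_f_rc_21_1 lc_f_Cert_tree lc_f_rc_19_5 lc_f_rc_20_1 lc_f_rc_19_1 lc_f_rc_14_3 lc_f_rc_17_3 lc_f_rc_19_5 lc_f_rc_20_1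 lc_f_rc_21_1 lc_f_rc_14_3 lc_f_Cert_tree lc_f_rc_5_1 lc_f_rc_20_1 lc_f_rc_19_3 lc_f_rc_21_1 lc_f_rc_19_3 lc_f_rc_20_1 lc_f_rc_10_1 lc_f_rc_21_1 lc_f_rc_19_3 lc_f_rc_20_1 lc_f_rc_20_1 lc_f_rc_19_3 lc_f_rc_17_3 lc_f_rc_19_3 lc_f_rc_21_1 lc_f_rc_20_1 lc_f_rc_20_1 lc_f_Cert_tree lc_f_rc_17_3 lc_f_rc_20_1 lc_f_rc_17_3 lc_f_rc_5_3 lc_f_rc_5_1 lc_f_rc_14_3 lc_f_rc_14_3 lc_f_rc_17_1 lc_f_rc_20_1 lc_f_rc_20_1 lc_f_rc_14_1 lc_f_rc_10_3 lc_f_rc_5_1 lc_f_rc_10_3 lc_f_rc_17_3) (@D3.rec (fun _ => (Cert rels S Gen.f)) lc_f_rc_14_3 lc_f_rc_14_3 lc_f_rc_19_1 lc_f_rc_10_1 lc_f_rc_17_1 lc_f_rc_20_1 lc_f_rc_14_3 lc_f_rc_17_1 lc_f_rc_14_3 lc_f_rc_14_3 lc_f_rc_20_1 lc_f_rc_19_3 lc_f_rc_14_1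 lc_f_rc_5_3 lc_f_rc_17_3 lc_f_rc_21_1 lc_f_rc_14_3 lc_f_rc_5_3 lc_f_rc_10_3 lc_f_rc_17_3 lc_f_Cert_tree lc_f_rc_20_1 lc_f_rc_19_5 lc_f_Cert_tree lc_f_rc_21_1 lc_f_rc_21_1 lc_f_rc_5_3 lc_f_rc_21_1 lc_f_rc_17_3 lc_f_rc_19_1 lc_f_rc_14_1 lc_f_rc_19_5 lc_f_rc_5_3 lc_f_rc_10_1 lc_f_rc_17_1 lc_f_rc_20_1 lc_f_rc_5_3 lc_f_rc_19_5 lc_f_rc_14_1 lc_f_rc_17_3 lc_f_rc_14_1 lc_f_rc_5_1 lc_f_rc_19_1 lc_f_rc_17_3 lc_f_rc_20_1 lc_f_rc_19_5 lc_f_rc_20_1 lc_f_rc_21_1 lc_f_rc_20_1 lc_f_rc_17_3 lc_f_rc_10_3 lc_f_rc_17_1 lc_f_rc_17_3 lc_f_rc_5_1 lc_f_rc_20_1 lc_f_rc_20_1 lc_f_rc_21_1 lc_f_rc_5_1 lc_f_rc_10_1 lc_f_rc_19_5 lc_f_rc_22_1 lc_f_Cert_tree) (@D3.rec (fun _ => (Cert rels S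 Gen.f)) lc_f_rc_17_1 lc_f_rc_20_1 lc_f_rc_19_1 lc_f_rc_20_1 lc_f_rc_20_1 lc_f_rc_19_3 lc_f_rc_22_1 lc_f_Cert_tree lc_f_rc_10_1 lc_f_rc_10_1 lc_f_rc_20_1 lc_f_rc_10_3 lc_f_rc_19_3 lc_f_rc_20_1 lc_f_rc_14_3 lc_f_rc_10_3 lc_f_rc_17_3 lc_f_rc_21_1 lc_f_rc_21_1 lc_f_rc_20_1 lc_f_rc_20_1 lc_f_rc_21_1 lc_f_rc_21_1 lc_f_rc_14_3 lc_f_rc_17_3 lc_f_rc_14_3 lc_f_rc_17_3 lc_f_rc_17_3 lc_f_rc_5_1 lc_f_rc_14_3 lc_f_rc_10_3 lc_f_rc_14_1 lc_f_rc_22_1 lc_f_rc_14_3 lc_f_rc_10_3 lc_f_rc_10_3 lc_f_rc_20_1 lc_f_rc_21_1 lc_f_rc_14_3 lc_f_rc_17_1 lc_f_rc_10_3 lc_f_rc_17_3 lc_f_rc_14_3 lc_f_rc_17_3 lc_f_rc_19_5 lc_f_rc_22_1 lc_f_rc_17_3 lc_f_rc_19_5 lc_f_rc_21_1 lc_f_rc_17_1 lc_f_rc_17_1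 lc_f_rc_10_3 lc_f_rc_19_3 lc_f_rc_10_3 lc_f_rc_10_3 lc_f_rc_20_1 lc_f_rc_17_3 lc_f_Cert_tree lc_f_rc_17_3 lc_f_rc_5_1 lc_f_rc_19_5 lc_f_rc_10_3) (@D3.rec (fun _ => (Cert rels S Gen.f)) lc_f_Cert_tree lc_f_rc_19_3 lc_f_rc_19_1 lc_f_rc_20_1 lc_f_rc_10_3 lc_f_rc_17_3 lc_f_rc_19_1 lc_f_rc_19_1 lc_f_rc_14_3 lc_f_rc_10_1 lc_f_rc_20_1 lc_f_rc_20_1 lc_f_rc_20_1 lc_f_rc_17_1 lc_f_rc_19_1 lc_f_rc_20_1 lc_f_rc_19_3 lc_f_rc_10_3 lc_f_rc_21_1 lc_f_Cert_tree lc_f_rc_20_1 lc_f_rc_21_1 lc_f_Cert_tree lc_f_rc_20_1 lc_f_rc_10_3 lc_f_rc_17_3 lc_f_rc_10_3 lc_f_rc_10_3 lc_f_rc_19_5 lc_f_rc_21_1 lc_f_rc_20_1 lc_f_rc_20_1 lc_f_rc_5_1 lc_f_rc_10_3 lc_f_rc_14_3 lc_f_rc_19_5 lc_f_rc_22_1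 lc_f_rc_17_1 lc_f_rc_20_1 lc_f_rc_5_3 lc_f_rc_17_3 lc_f_rc_20_1 lc_f_rc_14_3 lc_f_rc_20_1 lc_f_rc_14_3 lc_f_rc_5_3 lc_f_rc_14_3 lc_f_rc_10_1 lc_f_rc_14_1 lc_f_rc_10_1 lc_f_rc_19_5 lc_f_rc_14_3 lc_f_rc_17_3 lc_f_rc_17_3 lc_f_rc_10_3 lc_f_rc_14_1 lc_f_rc_14_3 lc_f_rc_20_1 lc_f_rc_10_1 lc_f_rc_21_1 lc_f_rc_17_3 lc_f_rc_20_1) (@D3.rec (fun _ => (Cert rels S Gen.f)) lc_f_rc_17_3 lc_f_Cert_tree lc_f_rc_19_1 lc_f_rc_14_1 lc_f_rc_20_1 lc_f_rc_20_1 lc_f_rc_20_1 lc_f_rc_10_3 lc_f_rc_21_1 lc_f_rc_19_5 lc_f_rc_22_1 lc_f_rc_14_3 lc_f_rc_20_1 lc_f_rc_5_3 lc_f_rc_5_3 lc_f_rc_17_3 lc_f_rc_19_5 lc_f_rc_19_3 lc_f_rc_20_1 lc_f_rc_19_1 lc_f_rc_17_1 lc_f_rc_10_1 lc_f_rc_20_1 lc_f_rc_21_1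 lc_f_rc_20_1 lc_f_rc_17_3 lc_f_rc_17_3 lc_f_rc_17_3 lc_f_rc_14_3 lc_f_rc_22_1 lc_f_rc_20_1 lc_f_rc_10_3 lc_f_rc_20_1 lc_f_rc_21_1 lc_f_rc_20_1 lc_f_rc_14_3 lc_f_rc_20_1 lc_f_rc_17_3 lc_f_rc_5_1 lc_f_rc_10_3 lc_f_rc_14_3 lc_f_rc_21_1 lc_f_rc_19_5 lc_f_rc_10_1 lc_f_Cert_tree lc_f_rc_22_1 lc_f_rc_20_1 lc_f_rc_20_1 lc_f_rc_21_1 lc_f_rc_20_1 lc_f_rc_14_1 lc_f_rc_17_1 lc_f_rc_14_3 lc_f_rc_17_3 lc_f_rc_17_3 lc_f_rc_10_3 lc_f_rc_21_1 lc_f_rc_10_1 lc_f_rc_17_3 lc_f_rc_21_1 lc_f_rc_10_3 lc_f_rc_22_1) (@D3.rec (fun _ => (Cert rels S Gen.f)) lc_f_rc_17_1 lc_f_rc_17_3 lc_f_rc_14_3 lc_f_rc_21_1 lc_f_rc_21_1 lc_f_rc_20_1 lc_f_rc_21_1 lc_f_rc_5_3 lc_f_rc_14_1 lc_f_rc_19_3 lc_f_rc_10_1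 lc_f_rc_10_1 lc_f_rc_5_3 lc_f_rc_14_3 lc_f_rc_10_3 lc_f_rc_17_3 lc_f_rc_10_3 lc_f_rc_14_3 lc_f_rc_17_1 lc_f_rc_19_5 lc_f_rc_14_1 lc_f_rc_17_1 lc_f_rc_21_1 lc_f_rc_20_1 lc_f_rc_5_1 lc_f_rc_19_3 lc_f_rc_21_1 lc_f_rc_20_1 lc_f_rc_10_3 lc_f_rc_17_3 lc_f_rc_19_1 lc_f_rc_14_3 lc_f_rc_22_1 lc_f_rc_17_3 lc_f_rc_17_3 lc_f_rc_10_3 lc_f_rc_14_1 lc_f_rc_20_1 lc_f_rc_20_1 lc_f_rc_5_3 lc_f_rc_10_3 lc_f_rc_19_3 lc_f_rc_21_1 lc_f_rc_20_1 lc_f_rc_17_1 lc_f_rc_14_3 lc_f_rc_14_3 lc_f_rc_10_3 lc_f_rc_14_3 lc_f_rc_17_3 lc_f_rc_20_1 lc_f_rc_5_1 lc_f_rc_17_1 lc_f_rc_10_3 lc_f_rc_22_1 lc_f_rc_14_3 lc_f_rc_14_1 lc_f_rc_10_3 lc_f_rc_14_1 lc_f_rc_20_1 lc_f_rc_21_1 lc_f_rc_20_1) (@D3.rec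 (fun _ => (Cert rels S Gen.f)) lc_f_rc_17_1 lc_f_rc_5_3 lc_f_rc_17_3 lc_f_rc_14_3 lc_f_rc_20_1 lc_f_rc_10_3 lc_f_rc_19_5 lc_f_rc_17_3 lc_f_rc_17_1 lc_f_rc_19_5 lc_f_rc_20_1 lc_f_rc_20_1 lc_f_rc_14_3 lc_f_rc_20_1 lc_f_rc_10_3 lc_f_rc_10_3 lc_f_rc_5_3 lc_f_rc_14_3 lc_f_rc_14_3 lc_f_rc_10_3 lc_f_rc_17_3 lc_f_rc_17_3 lc_f_rc_10_1 lc_f_rc_5_3 lc_f_rc_17_1 lc_f_rc_10_3 lc_f_rc_14_1 lc_f_rc_20_1 lc_f_rc_17_3 lc_f_rc_10_3 lc_f_rc_10_3 lc_f_rc_20_1 lc_f_rc_17_1 lc_f_rc_14_3 lc_f_rc_17_3 lc_f_rc_10_1 lc_f_rc_22_1 lc_f_rc_20_1 lc_f_rc_21_1 lc_f_rc_10_1 lc_f_rc_21_1 lc_f_rc_14_1 lc_f_rc_14_3 lc_f_rc_5_3 lc_f_rc_14_3 lc_f_rc_17_3 lc_f_rc_10_3 lc_f_rc_21_1 lc_f_rc_5_1 lc_f_rc_19_3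 lc_f_rc_14_3 lc_f_rc_17_3 lc_f_rc_17_3 lc_f_rc_17_3 lc_f_rc_17_1 lc_f_rc_21_1 lc_f_rc_10_3 lc_f_rc_20_1 lc_f_rc_21_1 lc_f_rc_5_3 lc_f_rc_17_3 lc_f_rc_10_3) (@D3.rec (fun _ => (Cert rels S Gen.f)) lc_f_rc_10_1 lc_f_rc_17_3 lc_f_rc_14_3 lc_f_rc_20_1 lc_f_rc_14_3 lc_f_rc_22_1 lc_f_rc_10_3 lc_f_rc_5_3 lc_f_rc_14_3 lc_f_rc_20_1 lc_f_rc_14_1 lc_f_rc_10_3 lc_f_rc_17_3 lc_f_rc_20_1 lc_f_rc_5_3 lc_f_rc_5_3 lc_f_rc_14_3 lc_f_rc_20_1 lc_f_rc_21_1 lc_f_rc_5_3 lc_f_rc_21_1 lc_f_rc_17_3 lc_f_rc_22_1 lc_f_rc_20_1 lc_f_rc_21_1 lc_f_rc_10_3 lc_f_rc_5_1 lc_f_rc_14_3 lc_f_rc_17_3 lc_f_rc_20_1 lc_f_rc_5_1 lc_f_rc_10_3 lc_f_rc_19_3 lc_f_rc_14_3 lc_f_rc_21_1 lc_f_rc_14_3 lc_f_rc_19_3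 lc_f_rc_21_1 lc_f_rc_20_1 lc_f_rc_20_1 lc_f_rc_14_1 lc_f_rc_14_1 lc_f_rc_19_3 lc_f_rc_20_1 lc_f_rc_5_3 lc_f_rc_20_1 lc_f_rc_14_3 lc_f_rc_14_3 lc_f_rc_17_1 lc_f_rc_10_1 lc_f_rc_17_3 lc_f_rc_14_1 lc_f_rc_20_1 lc_f_rc_22_1 lc_f_rc_17_3 lc_f_rc_10_3 lc_f_rc_5_3 lc_f_rc_21_1 lc_f_rc_14_3 lc_f_rc_17_1 lc_f_rc_10_3 lc_f_rc_17_3) (@D3.rec (fun _ => (Cert rels S Gen.f)) lc_f_rc_17_3 lc_f_rc_21_1 lc_f_rc_22_1 lc_f_rc_19_3 lc_f_rc_10_3 lc_f_rc_5_1 lc_f_rc_10_3 lc_f_rc_14_1 lc_f_rc_17_1 lc_f_rc_10_3 lc_f_rc_17_1 lc_f_Cert_tree lc_f_rc_21_1 lc_f_rc_10_3 lc_f_rc_20_1 lc_f_rc_17_3 lc_f_rc_21_1 lc_f_rc_5_3 lc_f_rc_22_1 lc_f_rc_14_1 lc_f_rc_20_1 lc_f_rc_14_3 lc_f_rc_17_3 lc_f_rc_20_1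 lc_f_rc_10_1 lc_f_rc_5_3 lc_f_rc_14_3 lc_f_rc_17_3 lc_f_rc_14_1 lc_f_rc_14_3 lc_f_rc_17_3 lc_f_rc_10_3 lc_f_rc_10_3 lc_f_rc_10_3 lc_f_rc_14_1 lc_f_rc_14_1 lc_f_rc_20_1 lc_f_rc_21_1 lc_f_rc_5_3 lc_f_rc_17_3 lc_f_rc_10_3 lc_f_rc_14_3 lc_f_rc_14_3 lc_f_rc_5_3 lc_f_rc_10_3 lc_f_rc_17_3 lc_f_rc_14_3 lc_f_rc_5_3 lc_f_rc_14_1 lc_f_rc_17_1 lc_f_rc_21_1 lc_f_rc_21_1 lc_f_rc_5_3 lc_f_rc_17_1 lc_f_rc_20_1 lc_f_rc_21_1 lc_f_rc_5_3 lc_f_rc_17_3 lc_f_rc_10_3 lc_f_rc_19_3 lc_f_rc_17_3 lc_f_rc_20_1) (@D3.rec (fun _ => (Cert rels S Gen.f)) lc_f_rc_14_3 lc_f_rc_17_1 lc_f_rc_14_3 lc_f_rc_19_1 lc_f_rc_10_3 lc_f_rc_10_3 lc_f_rc_10_3 lc_f_rc_5_3 lc_f_rc_20_1 lc_f_rc_14_3 lc_f_rc_17_3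 lc_f_rc_17_3 lc_f_rc_19_3 lc_f_rc_10_3 lc_f_rc_10_3 lc_f_rc_20_1 lc_f_rc_5_3 lc_f_rc_5_3 lc_f_rc_14_3 lc_f_rc_19_5 lc_f_rc_14_3 lc_f_rc_20_1 lc_f_rc_10_3 lc_f_rc_19_5 lc_f_rc_20_1 lc_f_rc_17_3 lc_f_rc_20_1 lc_f_rc_17_3 lc_f_rc_5_3 lc_f_rc_17_3 lc_f_rc_17_3 lc_f_rc_10_3 lc_f_rc_21_1 lc_f_rc_5_3 lc_f_rc_10_1 lc_f_rc_21_1 lc_f_rc_14_3 lc_f_rc_20_1 lc_f_rc_21_1 lc_f_rc_10_3 lc_f_rc_14_3 lc_f_rc_20_1 lc_f_rc_17_1 lc_f_rc_10_3 lc_f_rc_14_3 lc_f_rc_14_3 lc_f_rc_17_3 lc_f_rc_21_1 lc_f_rc_17_1 lc_f_Cert_tree lc_f_rc_21_1 lc_f_rc_10_1 lc_f_rc_19_1 lc_f_rc_20_1 lc_f_rc_20_1 lc_f_rc_21_1 lc_f_Cert_tree lc_f_rc_20_1 lc_f_rc_20_1 lc_f_rc_20_1 lc_f_rc_21_1 lc_f_rc_10_3) (@D3.rec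 (fun _ => (Cert rels S Gen.f)) lc_f_rc_17_3 lc_f_rc_21_1 lc_f_rc_14_3 lc_f_rc_22_1 lc_f_rc_5_3 lc_f_rc_5_3 lc_f_rc_10_3 lc_f_rc_10_3 lc_f_rc_19_1 lc_f_rc_21_1 lc_f_rc_14_3 lc_f_rc_17_3 lc_f_rc_14_1 lc_f_rc_10_3 lc_f_rc_14_3 lc_f_rc_5_1 lc_f_rc_10_1 lc_f_rc_19_1 lc_f_rc_14_3 lc_f_rc_5_1 lc_f_rc_14_1 lc_f_rc_19_1 lc_f_rc_20_1 lc_f_rc_19_5 lc_f_Cert_tree lc_f_rc_20_1 lc_f_rc_10_3 lc_f_rc_20_1 lc_f_rc_22_1 lc_f_rc_19_3 lc_f_rc_17_3 lc_f_rc_10_3 lc_f_rc_10_3 lc_f_rc_21_1 lc_f_rc_17_1 lc_f_rc_10_3 lc_f_rc_17_3 lc_f_rc_10_3 lc_f_rc_17_3 lc_f_rc_14_3 lc_f_rc_21_1 lc_f_rc_17_3 lc_f_rc_17_3 lc_f_rc_21_1 lc_f_rc_14_3 lc_f_rc_19_3 lc_f_rc_20_1 lc_f_rc_10_3 lc_f_rc_10_3 lc_f_rc_14_1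 lc_f_rc_21_1 lc_f_rc_20_1 lc_f_rc_10_3 lc_f_rc_10_3 lc_f_rc_21_1 lc_f_Cert_tree lc_f_Cert_tree lc_f_rc_20_1 lc_f_rc_17_3 lc_f_rc_14_1 lc_f_rc_20_1 lc_f_Cert_tree) (@D3.rec (fun _ => (Cert rels S Gen.f)) lc_f_rc_19_3 lc_f_rc_17_3 lc_f_rc_10_3 lc_f_rc_19_5 lc_f_rc_10_3 lc_f_rc_14_3 lc_f_rc_5_1 lc_f_rc_14_3 lc_f_rc_17_1 lc_f_rc_10_1 lc_f_Cert_tree lc_f_rc_17_3 lc_f_rc_20_1 lc_f_rc_17_3 lc_f_rc_10_1 lc_f_rc_10_1 lc_f_rc_22_1 lc_f_rc_14_3 lc_f_rc_20_1 lc_f_rc_10_3 lc_f_rc_5_1 lc_f_rc_20_1 lc_f_rc_22_1 lc_f_rc_10_3 lc_f_rc_14_3 lc_f_rc_19_1 lc_f_rc_10_3 lc_f_rc_22_1 lc_f_rc_20_1 lc_f_rc_17_3 lc_f_rc_14_3 lc_f_rc_20_1 lc_f_rc_14_3 lc_f_rc_17_3 lc_f_rc_19_3 lc_f_rc_20_1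 lc_f_rc_22_1 lc_f_rc_21_1 lc_f_rc_20_1 lc_f_rc_5_3 lc_f_rc_19_5 lc_f_rc_10_1 lc_f_rc_20_1 lc_f_rc_10_3 lc_f_rc_14_3 lc_f_rc_10_3 lc_f_rc_22_1 lc_f_rc_17_3 lc_f_rc_17_3 lc_f_rc_17_3 lc_f_rc_20_1 lc_f_rc_10_3 lc_f_rc_5_1 lc_f_rc_14_3 lc_f_rc_10_3 lc_f_rc_14_3 lc_f_rc_10_3 lc_f_rc_19_3 lc_f_rc_19_3 lc_f_rc_17_3 lc_f_rc_17_3 lc_f_rc_10_1) (@D3.rec (fun _ => (Cert rels S Gen.f)) lc_f_rc_10_3 lc_f_rc_21_1 lc_f_rc_22_1 lc_f_rc_20_1 lc_f_rc_10_3 lc_f_rc_17_3 lc_f_rc_21_1 lc_f_rc_14_3 lc_f_rc_17_1 lc_f_rc_10_3 lc_f_rc_17_3 lc_f_rc_5_3 lc_f_rc_14_3 lc_f_rc_10_1 lc_f_rc_22_1 lc_f_rc_20_1 lc_f_rc_14_3 lc_f_rc_17_3 lc_f_rc_17_3 lc_f_Cert_tree lc_f_rc_10_3 lc_f_rc_5_1 lc_f_rc_5_3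 lc_f_rc_17_3 lc_f_rc_20_1 lc_f_rc_21_1 lc_f_rc_20_1 lc_f_rc_10_3 lc_f_rc_14_3 lc_f_rc_17_3 lc_f_rc_17_3 lc_f_rc_5_1 lc_f_rc_10_3 lc_f_rc_14_3 lc_f_rc_21_1 lc_f_rc_10_3 lc_f_rc_10_3 lc_f_rc_19_3 lc_f_rc_19_5 lc_f_rc_20_1 lc_f_rc_10_1 lc_f_rc_17_1 lc_f_rc_14_3 lc_f_rc_20_1 lc_f_rc_21_1 lc_f_rc_19_5 lc_f_rc_14_3 lc_f_rc_21_1 lc_f_rc_14_3 lc_f_rc_10_3 lc_f_rc_17_3 lc_f_rc_14_1 lc_f_rc_17_3 lc_f_rc_20_1 lc_f_rc_10_3 lc_f_rc_21_1 lc_f_rc_20_1 lc_f_rc_5_1 lc_f_rc_10_1 lc_f_rc_10_3 lc_f_rc_14_1 lc_f_rc_19_1) (@D3.rec (fun _ => (Cert rels S Gen.f)) lc_f_rc_5_1 lc_f_rc_10_3 lc_f_rc_5_3 lc_f_rc_17_3 lc_f_Cert_tree lc_f_Cert_tree lc_f_rc_17_1 lc_f_rc_20_1 lc_f_rc_17_1 lc_f_rc_14_3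 lc_f_rc_17_1 lc_f_rc_17_3 lc_f_rc_10_1 lc_f_rc_17_3 lc_f_rc_19_5 lc_f_rc_10_1 lc_f_rc_17_3 lc_f_rc_5_1 lc_f_rc_14_1 lc_f_rc_14_1 lc_f_rc_20_1 lc_f_rc_10_3 lc_f_rc_5_3 lc_f_rc_20_1 lc_f_rc_17_3 lc_f_rc_17_3 lc_f_rc_21_1 lc_f_rc_17_3 lc_f_rc_14_1 lc_f_rc_17_3 lc_f_rc_14_1 lc_f_rc_14_3 lc_f_rc_21_1 lc_f_rc_5_3 lc_f_rc_17_3 lc_f_rc_20_1 lc_f_rc_20_1 lc_f_rc_5_1 lc_f_rc_10_3 lc_f_rc_19_3 lc_f_rc_5_3 lc_f_rc_5_3 lc_f_rc_21_1 lc_f_rc_14_3 lc_f_rc_17_3 lc_f_rc_10_3 lc_f_rc_14_3 lc_f_rc_14_3 lc_f_rc_21_1 lc_f_rc_14_3 lc_f_rc_14_3 lc_f_rc_20_1 lc_f_rc_20_1 lc_f_rc_10_1 lc_f_rc_20_1 lc_f_rc_20_1 lc_f_rc_21_1 lc_f_rc_17_1 lc_f_rc_19_3 lc_f_rc_5_3 lc_f_rc_17_1 lc_f_rc_17_1)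 (@D3.rec (fun _ => (Cert rels S Gen.f)) lc_f_rc_22_1 lc_f_rc_14_3 lc_f_rc_19_3 lc_f_rc_10_3 lc_f_rc_10_1 lc_f_rc_20_1 lc_f_rc_17_3 lc_f_rc_5_3 lc_f_rc_10_3 lc_f_rc_20_1 lc_f_rc_5_1 lc_f_rc_5_3 lc_f_rc_14_1 lc_f_rc_17_3 lc_f_rc_21_1 lc_f_rc_14_1 lc_f_rc_21_1 lc_f_rc_17_3 lc_f_rc_5_1 lc_f_rc_19_3 lc_f_rc_14_3 lc_f_rc_17_1 lc_f_rc_20_1 lc_f_rc_14_3 lc_f_rc_14_3 lc_f_rc_5_1 lc_f_rc_14_3 lc_f_rc_5_3 lc_f_rc_17_3 lc_f_Cert_tree lc_f_rc_10_3 lc_f_Cert_tree lc_f_rc_20_1 lc_f_rc_5_1 lc_f_rc_5_3 lc_f_rc_10_3 lc_f_rc_10_3 lc_f_rc_14_1 lc_f_rc_22_1 lc_f_rc_10_3 lc_f_Cert_tree lc_f_rc_10_3 lc_f_Cert_tree lc_f_rc_17_3 lc_f_rc_10_1 lc_f_rc_19_3 lc_f_rc_20_1 lc_f_rc_10_3 lc_f_rc_17_3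 lc_f_rc_21_1 lc_f_rc_17_3 lc_f_rc_17_3 lc_f_rc_21_1 lc_f_rc_19_3 lc_f_rc_17_3 lc_f_rc_17_3 lc_f_Cert_tree lc_f_rc_20_1 lc_f_rc_10_3 lc_f_rc_17_3 lc_f_rc_14_3 lc_f_rc_5_3) (@D3.rec (fun _ => (Cert rels S Gen.f)) lc_f_rc_20_1 lc_f_rc_14_3 lc_f_rc_5_1 lc_f_rc_5_3 lc_f_rc_14_1 lc_f_rc_17_3 lc_f_rc_10_3 lc_f_rc_10_3 lc_f_rc_20_1 lc_f_Cert_tree lc_f_Cert_tree lc_f_rc_17_1 lc_f_rc_17_1 lc_f_rc_14_3 lc_f_rc_21_1 lc_f_rc_20_1 lc_f_Cert_tree lc_f_rc_20_1 lc_f_rc_19_3 lc_f_rc_10_1 lc_f_Cert_tree lc_f_rc_20_1 lc_f_rc_17_3 lc_f_rc_17_1 lc_f_rc_17_3 lc_f_rc_17_3 lc_f_rc_22_1 lc_f_rc_20_1 lc_f_rc_10_3 lc_f_rc_17_3 lc_f_rc_21_1 lc_f_rc_20_1 lc_f_rc_5_3 lc_f_rc_19_5 lc_f_rc_17_3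 lc_f_rc_20_1 lc_f_rc_19_3 lc_f_rc_10_3 lc_f_rc_17_3 lc_f_rc_21_1 lc_f_rc_10_1 lc_f_rc_20_1 lc_f_Cert_tree lc_f_rc_10_3 lc_f_rc_10_3 lc_f_rc_10_3 lc_f_rc_14_3 lc_f_rc_21_1 lc_f_rc_17_3 lc_f_rc_20_1 lc_f_rc_5_1 lc_f_rc_17_1 lc_f_rc_17_3 lc_f_rc_21_1 lc_f_rc_19_5 lc_f_rc_14_3 lc_f_rc_10_3 lc_f_rc_14_3 lc_f_rc_14_1 lc_f_rc_20_1 lc_f_rc_14_3 lc_f_rc_19_5) (@D3.rec (fun _ => (Cert rels S Gen.f)) lc_f_Cert_tree lc_f_rc_20_1 lc_f_rc_10_1 lc_f_rc_21_1 lc_f_rc_19_3 lc_f_rc_21_1 lc_f_rc_14_3 lc_f_rc_17_1 lc_f_rc_19_3 lc_f_rc_20_1 lc_f_rc_17_3 lc_f_rc_14_3 lc_f_rc_10_3 lc_f_rc_21_1 lc_f_rc_5_1 lc_f_rc_10_3 lc_f_rc_14_1 lc_f_rc_17_3 lc_f_rc_14_1 lc_f_rc_5_1 lc_f_rc_17_3 lc_f_rc_20_1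 lc_f_rc_21_1 lc_f_rc_22_1 lc_f_rc_17_3 lc_f_rc_14_1 lc_f_rc_22_1 lc_f_rc_20_1 lc_f_rc_10_3 lc_f_rc_14_3 lc_f_rc_17_3 lc_f_rc_10_3 lc_f_rc_14_3 lc_f_rc_17_3 lc_f_Cert_tree lc_f_rc_14_1 lc_f_rc_14_3 lc_f_rc_14_3 lc_f_Cert_tree lc_f_rc_17_3 lc_f_rc_10_3 lc_f_Cert_tree lc_f_rc_20_1 lc_f_rc_21_1 lc_f_rc_19_1 lc_f_rc_20_1 lc_f_rc_5_1 lc_f_rc_17_3 lc_f_rc_20_1 lc_f_rc_17_1 lc_f_rc_10_3 lc_f_rc_14_3 lc_f_rc_17_1 lc_f_rc_17_3 lc_f_rc_19_3 lc_f_rc_22_1 lc_f_rc_14_3 lc_f_rc_14_3 lc_f_rc_14_3 lc_f_rc_17_3 lc_f_rc_5_3 lc_f_rc_17_3) (@D3.rec (fun _ => (Cert rels S Gen.f)) lc_f_rc_10_3 lc_f_rc_17_3 lc_f_rc_10_3 lc_f_rc_20_1 lc_f_rc_19_3 lc_f_rc_10_3 lc_f_rc_22_1 lc_f_Cert_tree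 lc_f_rc_19_3 lc_f_rc_5_1 lc_f_rc_17_1 lc_f_rc_10_3 lc_f_rc_17_1 lc_f_rc_20_1 lc_f_rc_10_3 lc_f_rc_17_3 lc_f_rc_14_3 lc_f_rc_17_3 lc_f_rc_19_3 lc_f_rc_10_3 lc_f_rc_19_3 lc_f_rc_20_1 lc_f_rc_21_1 lc_f_rc_20_1 lc_f_rc_20_1 lc_f_rc_10_3 lc_f_rc_10_3 lc_f_rc_20_1 lc_f_rc_22_1 lc_f_rc_10_3 lc_f_rc_17_3 lc_f_rc_21_1 lc_f_rc_17_1 lc_f_rc_14_3 lc_f_rc_14_3 lc_f_rc_17_3 lc_f_rc_20_1 lc_f_rc_10_3 lc_f_rc_5_3 lc_f_rc_17_3 lc_f_rc_10_3 lc_f_rc_21_1 lc_f_rc_17_3 lc_f_rc_14_3 lc_f_rc_22_1 lc_f_rc_19_3 lc_f_rc_19_5 lc_f_rc_22_1 lc_f_rc_21_1 lc_f_rc_19_1 lc_f_rc_14_1 lc_f_rc_17_3 lc_f_rc_5_1 lc_f_rc_5_1 lc_f_rc_14_3 lc_f_rc_19_3 lc_f_rc_17_3 lc_f_rc_14_3 lc_f_rc_20_1 lc_f_rc_14_3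 lc_f_rc_14_3 lc_f_rc_17_1) (@D3.rec (fun _ => (Cert rels S Gen.f)) lc_f_rc_19_5 lc_f_rc_22_1 lc_f_rc_17_1 lc_f_rc_10_3 lc_f_rc_17_3 lc_f_rc_20_1 lc_f_rc_14_3 lc_f_rc_5_1 lc_f_rc_5_3 lc_f_rc_14_3 lc_f_rc_14_3 lc_f_rc_10_3 lc_f_rc_21_1 lc_f_rc_19_5 lc_f_rc_10_3 lc_f_rc_20_1 lc_f_rc_21_1 lc_f_rc_19_5 lc_f_rc_10_1 lc_f_rc_14_1 lc_f_rc_14_1 lc_f_rc_14_3 lc_f_rc_20_1 lc_f_rc_14_1 lc_f_rc_20_1 lc_f_rc_14_3 lc_f_rc_19_1 lc_f_rc_20_1 lc_f_rc_14_3 lc_f_rc_5_1 lc_f_rc_22_1 lc_f_rc_14_3 lc_f_rc_17_3 lc_f_rc_14_1 lc_f_rc_19_5 lc_f_rc_17_3 lc_f_rc_17_1 lc_f_rc_14_3 lc_f_rc_14_3 lc_f_rc_17_3 lc_f_rc_19_5 lc_f_rc_17_3 lc_f_rc_10_3 lc_f_rc_20_1 lc_f_rc_20_1 lc_f_rc_5_1 lc_f_rc_14_3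 lc_f_rc_14_3 lc_f_rc_5_3 lc_f_rc_14_1 lc_f_rc_10_3 lc_f_rc_21_1 lc_f_Cert_tree lc_f_rc_20_1 lc_f_rc_19_1 lc_f_rc_10_1 lc_f_rc_21_1 lc_f_rc_19_1 lc_f_rc_21_1 lc_f_rc_20_1 lc_f_rc_19_5 lc_f_rc_20_1) (@D3.rec (fun _ => (Cert rels S Gen.f)) lc_f_rc_14_3 lc_f_rc_14_3 lc_f_rc_14_3 lc_f_rc_19_1 lc_f_rc_20_1 lc_f_rc_5_3 lc_f_rc_22_1 lc_f_rc_21_1 lc_f_rc_21_1 lc_f_rc_17_3 lc_f_rc_17_3 lc_f_rc_20_1 lc_f_rc_19_3 lc_f_rc_20_1 lc_f_rc_5_1 lc_f_rc_14_3 lc_f_rc_17_1 lc_f_rc_14_3 lc_f_rc_17_1 lc_f_rc_21_1 lc_f_rc_20_1 lc_f_rc_17_1 lc_f_rc_5_3 lc_f_rc_10_3 lc_f_rc_14_3 lc_f_rc_21_1 lc_f_rc_14_3 lc_f_rc_14_3 lc_f_rc_10_3 lc_f_rc_17_1 lc_f_rc_20_1 lc_f_rc_17_3 lc_f_rc_14_3 lc_f_rc_17_1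 lc_f_rc_20_1 lc_f_rc_10_3 lc_f_rc_14_3 lc_f_rc_20_1 lc_f_rc_14_3 lc_f_rc_17_3 lc_f_rc_10_1 lc_f_rc_10_3 lc_f_rc_20_1 lc_f_rc_17_3 lc_f_rc_20_1 lc_f_rc_21_1 lc_f_rc_20_1 lc_f_rc_14_3 lc_f_rc_10_3 lc_f_rc_17_3 lc_f_rc_14_1 lc_f_rc_10_3 lc_f_rc_14_3 lc_f_rc_20_1 lc_f_rc_21_1 lc_f_Cert_tree lc_f_rc_20_1 lc_f_rc_20_1 lc_f_rc_21_1 lc_f_rc_20_1 lc_f_rc_19_5 lc_f_rc_19_3) (@D3.rec (fun _ => (Cert rels S Gen.f)) lc_f_rc_10_1 lc_f_rc_19_3 lc_f_rc_14_1 lc_f_rc_21_1 lc_f_rc_5_3 lc_f_rc_20_1 lc_f_rc_21_1 lc_f_rc_14_3 lc_f_rc_14_3 lc_f_rc_17_3 lc_f_rc_14_3 lc_f_rc_14_3 lc_f_rc_5_3 lc_f_Cert_tree lc_f_rc_10_3 lc_f_rc_17_3 lc_f_rc_20_1 lc_f_rc_17_3 lc_f_rc_10_1 lc_f_rc_17_3 lc_f_rc_14_3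 lc_f_rc_14_3 lc_f_rc_10_1 lc_f_rc_20_1 lc_f_rc_14_3 lc_f_rc_10_3 lc_f_rc_21_1 lc_f_rc_10_1 lc_f_rc_22_1 lc_f_rc_10_1 lc_f_rc_17_3 lc_f_rc_20_1 lc_f_rc_21_1 lc_f_rc_14_1 lc_f_rc_20_1 lc_f_rc_17_1 lc_f_rc_14_3 lc_f_rc_5_1 lc_f_rc_14_1 lc_f_rc_14_1 lc_f_rc_17_1 lc_f_rc_20_1 lc_f_rc_10_3 lc_f_rc_17_3 lc_f_rc_20_1 lc_f_rc_17_1 lc_f_rc_10_1 lc_f_rc_14_1 lc_f_rc_14_3 lc_f_rc_17_1 lc_f_rc_20_1 lc_f_rc_14_3 lc_f_Cert_tree lc_f_rc_20_1 lc_f_rc_10_3 lc_f_rc_5_3 lc_f_rc_21_1 lc_f_Cert_tree lc_f_rc_20_1 lc_f_rc_14_1 lc_f_rc_17_3 lc_f_rc_5_3) (@D3.rec (fun _ => (Cert rels S Gen.f)) lc_f_rc_10_1 lc_f_rc_17_3 lc_f_rc_10_3 lc_f_rc_17_1 lc_f_rc_5_3 lc_f_rc_22_1 lc_f_rc_19_3 lc_f_rc_17_3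 lc_f_rc_5_3 lc_f_rc_17_1 lc_f_rc_20_1 lc_f_rc_19_5 lc_f_rc_20_1 lc_f_rc_17_3 lc_f_rc_5_3 lc_f_rc_10_1 lc_f_rc_19_1 lc_f_rc_21_1 lc_f_rc_14_3 lc_f_rc_14_3 lc_f_rc_10_3 lc_f_rc_5_3 lc_f_rc_17_3 lc_f_rc_10_3 lc_f_rc_17_1 lc_f_rc_20_1 lc_f_rc_5_1 lc_f_rc_21_1 lc_f_rc_14_3 lc_f_rc_20_1 lc_f_rc_14_1 lc_f_rc_20_1 lc_f_rc_17_3 lc_f_rc_21_1 lc_f_rc_21_1 lc_f_rc_17_3 lc_f_rc_20_1 lc_f_rc_20_1 lc_f_rc_19_5 lc_f_rc_20_1 lc_f_rc_17_3 lc_f_rc_5_1 lc_f_rc_20_1 lc_f_rc_19_5 lc_f_rc_14_3 lc_f_rc_17_3 lc_f_rc_22_1 lc_f_rc_17_3 lc_f_rc_21_1 lc_f_rc_14_3 lc_f_rc_14_3 lc_f_rc_19_5 lc_f_rc_21_1 lc_f_rc_5_3 lc_f_rc_17_3 lc_f_rc_17_3 lc_f_rc_17_1 lc_f_rc_10_3 lc_f_rc_17_3 lc_f_rc_20_1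 lc_f_rc_17_3 lc_f_rc_21_1) (@D3.rec (fun _ => (Cert rels S Gen.f)) lc_f_rc_10_3 lc_f_rc_22_1 lc_f_rc_17_3 lc_f_rc_21_1 lc_f_rc_20_1 lc_f_rc_20_1 lc_f_rc_17_3 lc_f_rc_20_1 lc_f_rc_5_3 lc_f_rc_14_3 lc_f_rc_10_3 lc_f_rc_14_3 lc_f_rc_21_1 lc_f_rc_14_3 lc_f_rc_14_1 lc_f_rc_17_1 lc_f_rc_10_3 lc_f_rc_20_1 lc_f_rc_19_1 lc_f_rc_10_3 lc_f_rc_20_1 lc_f_rc_14_3 lc_f_rc_17_1 lc_f_rc_21_1 lc_f_rc_17_3 lc_f_Cert_tree lc_f_rc_20_1 lc_f_rc_17_3 lc_f_rc_20_1 lc_f_rc_20_1 lc_f_rc_20_1 lc_f_rc_10_3 lc_f_rc_14_1 lc_f_rc_20_1 lc_f_rc_5_1 lc_f_rc_5_1 lc_f_rc_5_1 lc_f_rc_14_3 lc_f_rc_10_1 lc_f_rc_14_3 lc_f_rc_20_1 lc_f_rc_10_3 lc_f_rc_17_3 lc_f_rc_14_3 lc_f_rc_20_1 lc_f_rc_17_3 lc_f_rc_19_1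 lc_f_rc_20_1 lc_f_rc_19_3 lc_f_rc_19_3 lc_f_rc_20_1 lc_f_rc_17_3 lc_f_rc_17_3 lc_f_rc_5_1 lc_f_rc_14_3 lc_f_rc_5_3 lc_f_rc_20_1 lc_f_rc_14_3 lc_f_rc_10_3 lc_f_Cert_tree lc_f_Cert_tree lc_f_rc_20_1) (@D3.rec (fun _ => (Cert rels S Gen.f)) lc_f_rc_14_3 lc_f_rc_14_1 lc_f_rc_5_1 lc_f_rc_17_3 lc_f_rc_10_1 lc_f_rc_14_3 lc_f_rc_14_3 lc_f_rc_10_1 lc_f_rc_21_1 lc_f_rc_17_3 lc_f_rc_10_3 lc_f_rc_21_1 lc_f_rc_14_3 lc_f_rc_20_1 lc_f_rc_21_1 lc_f_rc_17_3 lc_f_rc_20_1 lc_f_rc_14_3 lc_f_rc_14_3 lc_f_rc_17_3 lc_f_rc_5_1 lc_f_rc_5_1 lc_f_rc_17_3 lc_f_rc_17_1 lc_f_rc_19_5 lc_f_rc_20_1 lc_f_rc_10_3 lc_f_rc_17_3 lc_f_rc_10_3 lc_f_rc_21_1 lc_f_rc_20_1 lc_f_rc_21_1 lc_f_rc_14_3 lc_f_rc_14_1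 lc_f_rc_21_1 lc_f_rc_17_3 lc_f_rc_5_1 lc_f_rc_20_1 lc_f_rc_5_1 lc_f_rc_5_3 lc_f_rc_10_3 lc_f_rc_17_3 lc_f_rc_10_3 lc_f_rc_21_1 lc_f_rc_20_1 lc_f_rc_19_5 lc_f_rc_14_3 lc_f_rc_5_3 lc_f_rc_17_3 lc_f_rc_5_3 lc_f_rc_17_3 lc_f_rc_20_1 lc_f_rc_10_3 lc_f_rc_10_3 lc_f_rc_14_3 lc_f_rc_17_3 lc_f_rc_10_1 lc_f_rc_17_1 lc_f_rc_21_1 lc_f_rc_14_1 lc_f_rc_5_1 lc_f_rc_10_3) (@D3.rec (fun _ => (Cert rels S Gen.f)) lc_f_rc_14_1 lc_f_rc_19_5 lc_f_rc_19_5 lc_f_rc_5_1 lc_f_rc_5_3 lc_f_rc_17_1 lc_f_rc_20_1 lc_f_rc_5_3 lc_f_rc_17_3 lc_f_rc_19_3 lc_f_rc_14_3 lc_f_rc_21_1 lc_f_rc_20_1 lc_f_rc_14_3 lc_f_rc_17_1 lc_f_rc_14_1 lc_f_rc_21_1 lc_f_rc_17_3 lc_f_rc_17_3 lc_f_rc_21_1 lc_f_rc_14_3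 lc_f_rc_10_1 lc_f_rc_20_1 lc_f_rc_10_1 lc_f_Cert_tree lc_f_rc_20_1 lc_f_rc_21_1 lc_f_rc_10_3 lc_f_rc_14_1 lc_f_rc_20_1 lc_f_rc_21_1 lc_f_Cert_tree lc_f_rc_20_1 lc_f_rc_10_3 lc_f_rc_17_3 lc_f_rc_20_1 lc_f_rc_10_3 lc_f_rc_20_1 lc_f_Cert_tree lc_f_rc_14_1 lc_f_rc_10_3 lc_f_rc_17_3 lc_f_rc_20_1 lc_f_rc_19_1 lc_f_rc_20_1 lc_f_rc_20_1 lc_f_rc_14_3 lc_f_rc_21_1 lc_f_rc_10_3 lc_f_rc_19_5 lc_f_rc_10_3 lc_f_rc_20_1 lc_f_rc_17_3 lc_f_rc_21_1 lc_f_rc_10_3 lc_f_rc_10_1 lc_f_rc_20_1 lc_f_rc_19_5 lc_f_Cert_tree lc_f_rc_17_3 lc_f_rc_20_1 lc_f_rc_10_3)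
def ce_f_25 : D2 → D3 → (Cert rels S Gen.f) := @D2.rec (fun _ => D3 → (Cert rels S Gen.f)) (@D3.rec (fun _ => (Cert rels S Gen.f)) lc_f_rc_17_3 lc_f_rc_5_1 lc_f_rc_17_3 lc_f_rc_19_3 lc_f_rc_17_1 lc_f_rc_20_1 lc_f_rc_20_1 lc_f_rc_5_3 lc_f_rc_14_3 lc_f_rc_10_3 lc_f_rc_17_3 lc_f_rc_5_3 lc_f_rc_10_3 lc_f_rc_19_5 lc_f_rc_17_3 lc_f_rc_17_3 lc_f_rc_10_3 lc_f_rc_19_3 lc_f_rc_17_1 lc_f_rc_5_3 lc_f_rc_14_3 lc_f_rc_5_1 lc_f_rc_10_3 lc_f_rc_21_1 lc_f_rc_17_3 lc_f_Cert_tree lc_f_rc_20_1 lc_f_rc_5_3 lc_f_rc_14_1 lc_f_rc_20_1 lc_f_rc_17_3 lc_f_rc_19_3 lc_f_rc_14_3 lc_f_rc_10_1 lc_f_rc_14_3 lc_f_rc_10_1 lc_f_rc_22_1 lc_f_rc_20_1 lc_f_rc_14_3 lc_f_rc_20_1 lc_f_rc_10_3 lc_f_rc_21_1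 lc_f_rc_17_3 lc_f_rc_17_3 lc_f_rc_20_1 lc_f_rc_17_3 lc_f_rc_17_3 lc_f_rc_10_3 lc_f_rc_14_1 lc_f_rc_17_3 lc_f_rc_21_1 lc_f_rc_21_1 lc_f_rc_22_1 lc_f_rc_20_1 lc_f_rc_10_3 lc_f_rc_10_3 lc_f_rc_17_3 lc_f_rc_10_3 lc_f_rc_20_1 lc_f_rc_10_3 lc_f_rc_10_3 lc_f_rc_17_3) (@D3.rec (fun _ => (Cert rels S Gen.f)) lc_f_rc_14_3 lc_f_rc_5_3 lc_f_rc_14_3 lc_f_Cert_tree lc_f_rc_17_3 lc_f_rc_20_1 lc_f_rc_22_1 lc_f_rc_14_3 lc_f_rc_20_1 lc_f_rc_19_1 lc_f_rc_20_1 lc_f_rc_19_3 lc_f_rc_10_3 lc_f_rc_19_5 lc_f_rc_19_3 lc_f_rc_20_1 lc_f_rc_5_3 lc_f_rc_21_1 lc_f_rc_17_3 lc_f_rc_14_3 lc_f_rc_5_3 lc_f_rc_14_3 lc_f_rc_21_1 lc_f_rc_19_3 lc_f_Cert_tree lc_f_rc_20_1 lc_f_rc_20_1 lc_f_rc_14_3 lc_f_rc_10_3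 lc_f_rc_10_3 lc_f_rc_10_3 lc_f_rc_14_3 lc_f_rc_5_1 lc_f_rc_21_1 lc_f_rc_10_1 lc_f_rc_20_1 lc_f_rc_20_1 lc_f_rc_5_3 lc_f_rc_14_3 lc_f_rc_17_3 lc_f_rc_19_3 lc_f_rc_17_1 lc_f_rc_5_3 lc_f_Cert_tree lc_f_rc_10_3 lc_f_rc_14_1 lc_f_rc_19_3 lc_f_rc_20_1 lc_f_rc_14_1 lc_f_rc_14_3 lc_f_rc_14_3 lc_f_rc_17_3 lc_f_rc_21_1 lc_f_rc_14_3 lc_f_rc_17_3 lc_f_rc_19_1 lc_f_rc_21_1 lc_f_rc_5_3 lc_f_rc_20_1 lc_f_rc_20_1 lc_f_rc_14_3 lc_f_rc_5_3) (@D3.rec (fun _ => (Cert rels S Gen.f)) lc_f_rc_20_1 lc_f_rc_20_1 lc_f_rc_10_3 lc_f_Cert_tree lc_f_rc_10_3 lc_f_rc_21_1 lc_f_rc_19_3 lc_f_rc_19_5 lc_f_rc_14_3 lc_f_rc_10_3 lc_f_rc_20_1 lc_f_rc_10_3 lc_f_rc_20_1 lc_f_rc_14_3 lc_f_Cert_tree lc_f_rc_21_1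 lc_f_rc_10_1 lc_f_rc_17_1 lc_f_Cert_tree lc_f_rc_20_1 lc_f_rc_14_1 lc_f_rc_20_1 lc_f_rc_5_1 lc_f_Cert_tree lc_f_rc_5_3 lc_f_rc_17_1 lc_f_rc_10_3 lc_f_rc_19_5 lc_f_rc_20_1 lc_f_rc_5_3 lc_f_rc_14_3 lc_f_rc_17_1 lc_f_rc_20_1 lc_f_rc_14_3 lc_f_rc_14_3 lc_f_rc_19_5 lc_f_rc_17_3 lc_f_rc_20_1 lc_f_rc_17_3 lc_f_rc_17_3 lc_f_rc_21_1 lc_f_Cert_tree lc_f_rc_19_3 lc_f_rc_20_1 lc_f_rc_5_3 lc_f_rc_19_1 lc_f_rc_20_1 lc_f_rc_17_3 lc_f_rc_14_3 lc_f_rc_21_1 lc_f_rc_14_3 lc_f_rc_17_1 lc_f_rc_20_1 lc_f_rc_14_3 lc_f_rc_17_3 lc_f_rc_19_5 lc_f_rc_10_3 lc_f_rc_17_1 lc_f_rc_17_3 lc_f_rc_21_1 lc_f_rc_14_1 lc_f_rc_20_1) (@D3.rec (fun _ => (Cert rels S Gen.f)) lc_f_rc_21_1 lc_f_rc_5_3 lc_f_rc_14_3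 lc_f_rc_10_3 lc_f_rc_10_3 lc_f_rc_14_3 lc_f_rc_14_3 lc_f_rc_21_1 lc_f_rc_10_3 lc_f_rc_20_1 lc_f_rc_17_3 lc_f_rc_17_3 lc_f_rc_5_3 lc_f_rc_21_1 lc_f_rc_20_1 lc_f_rc_14_3 lc_f_rc_10_3 lc_f_rc_5_3 lc_f_rc_17_3 lc_f_rc_20_1 lc_f_rc_14_3 lc_f_rc_20_1 lc_f_rc_14_3 lc_f_rc_21_1 lc_f_rc_22_1 lc_f_rc_21_1 lc_f_rc_10_1 lc_f_rc_20_1 lc_f_rc_10_3 lc_f_rc_22_1 lc_f_rc_10_3 lc_f_rc_14_3 lc_f_rc_21_1 lc_f_rc_17_1 lc_f_rc_14_1 lc_f_rc_14_3 lc_f_rc_21_1 lc_f_rc_17_3 lc_f_rc_20_1 lc_f_rc_10_3 lc_f_rc_17_3 lc_f_rc_20_1 lc_f_rc_10_3 lc_f_rc_5_3 lc_f_rc_5_3 lc_f_Cert_tree lc_f_rc_21_1 lc_f_rc_14_1 lc_f_rc_14_3 lc_f_rc_17_3 lc_f_rc_10_3 lc_f_rc_14_3 lc_f_rc_17_3 lc_f_rc_5_3 lc_f_rc_17_3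 lc_f_rc_10_3 lc_f_rc_19_3 lc_f_rc_5_1 lc_f_rc_10_3 lc_f_rc_19_3 lc_f_rc_10_3 lc_f_rc_17_3) (@D3.rec (fun _ => (Cert rels S Gen.f)) lc_f_rc_10_3 lc_f_rc_17_3 lc_f_rc_5_1 lc_f_rc_14_3 lc_f_rc_10_3 lc_f_rc_20_1 lc_f_rc_10_3 lc_f_rc_5_1 lc_f_rc_17_3 lc_f_rc_17_3 lc_f_rc_20_1 lc_f_rc_19_1 lc_f_rc_20_1 lc_f_rc_10_3 lc_f_rc_10_3 lc_f_rc_14_3 lc_f_rc_19_3 lc_f_rc_10_3 lc_f_rc_10_3 lc_f_rc_17_3 lc_f_rc_14_3 lc_f_rc_20_1 lc_f_rc_22_1 lc_f_rc_20_1 lc_f_rc_10_3 lc_f_rc_17_3 lc_f_rc_10_3 lc_f_rc_17_3 lc_f_rc_10_3 lc_f_rc_17_3 lc_f_rc_19_3 lc_f_rc_10_3 lc_f_rc_21_1 lc_f_rc_17_1 lc_f_rc_14_3 lc_f_rc_10_3 lc_f_rc_17_3 lc_f_rc_17_3 lc_f_rc_10_3 lc_f_rc_5_3 lc_f_rc_19_3 lc_f_rc_14_3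 lc_f_rc_21_1 lc_f_rc_14_1 lc_f_rc_17_3 lc_f_rc_10_1 lc_f_rc_14_3 lc_f_rc_17_1 lc_f_rc_20_1 lc_f_rc_19_5 lc_f_rc_10_3 lc_f_rc_22_1 lc_f_rc_20_1 lc_f_Cert_tree lc_f_rc_20_1 lc_f_rc_17_3 lc_f_rc_17_3 lc_f_rc_10_3 lc_f_rc_20_1 lc_f_rc_19_3 lc_f_rc_19_3 lc_f_rc_19_5) (@D3.rec (fun _ => (Cert rels S Gen.f)) lc_f_rc_17_1 lc_f_rc_20_1 lc_f_rc_21_1 lc_f_rc_17_3 lc_f_rc_14_3 lc_f_rc_19_3 lc_f_rc_10_3 lc_f_rc_20_1 lc_f_rc_21_1 lc_f_rc_5_1 lc_f_Cert_tree lc_f_rc_14_3 lc_f_rc_19_3 lc_f_rc_5_3 lc_f_rc_20_1 lc_f_rc_10_1 lc_f_rc_17_3 lc_f_rc_5_1 lc_f_rc_20_1 lc_f_rc_17_1 lc_f_rc_10_1 lc_f_rc_17_3 lc_f_rc_14_1 lc_f_rc_21_1 lc_f_Cert_tree lc_f_rc_20_1 lc_f_rc_14_3 lc_f_rc_10_1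 lc_f_rc_17_3 lc_f_rc_10_1 lc_f_rc_17_3 lc_f_rc_17_3 lc_f_rc_17_3 lc_f_rc_14_3 lc_f_Cert_tree lc_f_rc_21_1 lc_f_rc_19_1 lc_f_rc_20_1 lc_f_rc_14_3 lc_f_rc_14_3 lc_f_rc_21_1 lc_f_rc_10_3 lc_f_rc_20_1 lc_f_rc_20_1 lc_f_rc_21_1 lc_f_rc_5_3 lc_f_rc_14_3 lc_f_rc_21_1 lc_f_rc_22_1 lc_f_rc_21_1 lc_f_rc_17_1 lc_f_rc_21_1 lc_f_rc_10_3 lc_f_rc_17_3 lc_f_rc_14_3 lc_f_rc_21_1 lc_f_rc_17_3 lc_f_rc_14_3 lc_f_rc_10_3 lc_f_rc_21_1 lc_f_rc_21_1 lc_f_rc_21_1) (@D3.rec (fun _ => (Cert rels S Gen.f)) lc_f_rc_14_3 lc_f_rc_5_3 lc_f_rc_10_3 lc_f_Cert_tree lc_f_rc_17_3 lc_f_rc_14_3 lc_f_rc_17_1 lc_f_rc_17_3 lc_f_rc_14_3 lc_f_rc_17_3 lc_f_rc_14_3 lc_f_rc_21_1 lc_f_rc_10_1 lc_f_rc_20_1 lc_f_rc_14_1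 lc_f_rc_10_3 lc_f_rc_21_1 lc_f_rc_21_1 lc_f_rc_20_1 lc_f_rc_20_1 lc_f_Cert_tree lc_f_rc_17_3 lc_f_rc_14_1 lc_f_rc_17_3 lc_f_rc_5_1 lc_f_rc_20_1 lc_f_rc_10_3 lc_f_rc_5_3 lc_f_rc_14_3 lc_f_rc_17_3 lc_f_rc_17_3 lc_f_rc_5_1 lc_f_rc_14_3 lc_f_rc_10_3 lc_f_rc_5_1 lc_f_rc_20_1 lc_f_rc_10_1 lc_f_rc_17_3 lc_f_rc_20_1 lc_f_rc_10_3 lc_f_rc_21_1 lc_f_rc_10_3 lc_f_rc_17_3 lc_f_rc_21_1 lc_f_rc_19_3 lc_f_rc_20_1 lc_f_rc_10_3 lc_f_rc_17_3 lc_f_rc_14_3 lc_f_rc_10_3 lc_f_rc_20_1 lc_f_rc_20_1 lc_f_rc_19_3 lc_f_rc_17_3 lc_f_rc_21_1 lc_f_rc_20_1 lc_f_rc_20_1 lc_f_rc_10_3 lc_f_rc_19_3 lc_f_rc_17_3 lc_f_Cert_tree lc_f_rc_17_3) (@D3.rec (fun _ => (Cert rels S Gen.f)) lc_f_Cert_tree lc_f_rc_21_1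 lc_f_rc_14_3 lc_f_rc_10_3 lc_f_rc_17_1 lc_f_rc_10_3 lc_f_rc_17_3 lc_f_rc_10_3 lc_f_rc_21_1 lc_f_rc_19_5 lc_f_rc_19_1 lc_f_rc_17_3 lc_f_Cert_tree lc_f_rc_20_1 lc_f_rc_19_3 lc_f_rc_17_1 lc_f_rc_5_1 lc_f_rc_10_1 lc_f_Cert_tree lc_f_rc_20_1 lc_f_rc_10_1 lc_f_rc_20_1 lc_f_rc_5_1 lc_f_rc_14_1 lc_f_rc_20_1 lc_f_rc_14_3 lc_f_rc_17_3 lc_f_rc_17_3 lc_f_rc_20_1 lc_f_rc_21_1 lc_f_rc_5_3 lc_f_rc_21_1 lc_f_rc_5_3 lc_f_rc_10_3 lc_f_rc_14_3 lc_f_rc_10_1 lc_f_rc_14_3 lc_f_rc_21_1 lc_f_Cert_tree lc_f_rc_20_1 lc_f_rc_20_1 lc_f_rc_21_1 lc_f_rc_10_1 lc_f_rc_14_1 lc_f_rc_14_3 lc_f_rc_22_1 lc_f_rc_20_1 lc_f_rc_10_3 lc_f_rc_17_1 lc_f_rc_20_1 lc_f_rc_10_3 lc_f_rc_14_1 lc_f_rc_14_3 lc_f_rc_5_1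 lc_f_rc_14_3 lc_f_rc_10_3 lc_f_rc_10_3 lc_f_rc_5_1 lc_f_rc_5_3 lc_f_rc_22_1 lc_f_rc_20_1 lc_f_rc_5_1) (@D3.rec (fun _ => (Cert rels S Gen.f)) lc_f_rc_17_3 lc_f_rc_17_3 lc_f_rc_20_1 lc_f_rc_5_1 lc_f_rc_10_3 lc_f_rc_14_3 lc_f_rc_19_1 lc_f_rc_20_1 lc_f_rc_10_3 lc_f_rc_17_1 lc_f_rc_20_1 lc_f_rc_10_3 lc_f_rc_21_1 lc_f_rc_14_3 lc_f_rc_14_3 lc_f_rc_20_1 lc_f_rc_20_1 lc_f_rc_10_3 lc_f_Cert_tree lc_f_rc_20_1 lc_f_rc_19_3 lc_f_rc_17_3 lc_f_rc_17_1 lc_f_Cert_tree lc_f_rc_20_1 lc_f_rc_14_3 lc_f_rc_21_1 lc_f_rc_14_3 lc_f_rc_17_3 lc_f_rc_22_1 lc_f_rc_17_3 lc_f_rc_20_1 lc_f_rc_14_3 lc_f_rc_21_1 lc_f_rc_17_3 lc_f_rc_14_3 lc_f_rc_10_3 lc_f_rc_14_3 lc_f_rc_14_1 lc_f_rc_10_3 lc_f_rc_10_3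 lc_f_rc_17_3 lc_f_rc_17_3 lc_f_rc_17_3 lc_f_rc_5_3 lc_f_rc_21_1 lc_f_rc_20_1 lc_f_rc_10_3 lc_f_rc_17_3 lc_f_rc_14_1 lc_f_rc_19_5 lc_f_rc_5_3 lc_f_rc_20_1 lc_f_rc_10_3 lc_f_rc_21_1 lc_f_rc_14_3 lc_f_rc_21_1 lc_f_rc_17_3 lc_f_rc_14_1 lc_f_rc_17_3 lc_f_rc_10_1 lc_f_rc_14_3) (@D3.rec (fun _ => (Cert rels S Gen.f)) lc_f_rc_17_1 lc_f_rc_10_3 lc_f_rc_14_3 lc_f_rc_10_3 lc_f_rc_19_3 lc_f_rc_21_1 lc_f_rc_5_3 lc_f_rc_10_3 lc_f_rc_14_3 lc_f_rc_17_3 lc_f_rc_10_3 lc_f_rc_14_3 lc_f_rc_10_3 lc_f_rc_10_3 lc_f_rc_21_1 lc_f_rc_20_1 lc_f_rc_14_1 lc_f_Cert_tree lc_f_rc_17_1 lc_f_rc_17_3 lc_f_rc_14_3 lc_f_Cert_tree lc_f_rc_14_3 lc_f_rc_17_1 lc_f_rc_14_1 lc_f_rc_21_1 lc_f_rc_20_1 lc_f_rc_21_1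 lc_f_rc_17_3 lc_f_rc_14_3 lc_f_rc_19_3 lc_f_rc_5_1 lc_f_rc_21_1 lc_f_rc_17_3 lc_f_rc_10_1 lc_f_rc_19_1 lc_f_rc_19_1 lc_f_rc_5_1 lc_f_Cert_tree lc_f_rc_22_1 lc_f_rc_19_5 lc_f_rc_20_1 lc_f_rc_14_3 lc_f_rc_19_3 lc_f_rc_22_1 lc_f_rc_10_3 lc_f_rc_10_3 lc_f_rc_20_1 lc_f_rc_14_3 lc_f_rc_14_3 lc_f_rc_10_3 lc_f_rc_17_3 lc_f_rc_21_1 lc_f_rc_21_1 lc_f_rc_21_1 lc_f_rc_10_3 lc_f_rc_20_1 lc_f_rc_5_3 lc_f_rc_17_3 lc_f_rc_14_3 lc_f_rc_17_1 lc_f_rc_10_3) (@D3.rec (fun _ => (Cert rels S Gen.f)) lc_f_rc_17_3 lc_f_rc_10_3 lc_f_rc_17_3 lc_f_rc_14_3 lc_f_rc_5_1 lc_f_rc_10_1 lc_f_rc_10_3 lc_f_rc_17_3 lc_f_rc_17_3 lc_f_rc_5_1 lc_f_rc_19_3 lc_f_rc_22_1 lc_f_rc_14_1 lc_f_rc_14_3 lc_f_rc_21_1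 lc_f_rc_20_1 lc_f_rc_10_1 lc_f_rc_20_1 lc_f_rc_19_5 lc_f_rc_17_3 lc_f_rc_14_3 lc_f_rc_20_1 lc_f_rc_20_1 lc_f_rc_14_1 lc_f_rc_10_3 lc_f_rc_17_3 lc_f_rc_14_1 lc_f_rc_20_1 lc_f_rc_21_1 lc_f_rc_5_3 lc_f_rc_20_1 lc_f_rc_17_3 lc_f_rc_14_3 lc_f_rc_19_5 lc_f_rc_21_1 lc_f_rc_5_1 lc_f_rc_17_1 lc_f_rc_10_3 lc_f_rc_10_3 lc_f_rc_17_3 lc_f_rc_19_3 lc_f_rc_17_3 lc_f_rc_21_1 lc_f_rc_5_3 lc_f_rc_14_3 lc_f_rc_19_3 lc_f_rc_17_3 lc_f_rc_20_1 lc_f_rc_19_3 lc_f_rc_14_3 lc_f_rc_21_1 lc_f_rc_17_1 lc_f_rc_10_1 lc_f_rc_14_1 lc_f_rc_19_3 lc_f_rc_17_3 lc_f_rc_14_3 lc_f_rc_14_3 lc_f_rc_5_1 lc_f_rc_20_1 lc_f_rc_19_3 lc_f_rc_14_3) (@D3.rec (fun _ => (Cert rels S Gen.f)) lc_f_rc_14_3 lc_f_rc_5_1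 lc_f_rc_17_3 lc_f_rc_22_1 lc_f_rc_10_1 lc_f_rc_10_3 lc_f_rc_21_1 lc_f_rc_10_3 lc_f_rc_20_1 lc_f_rc_19_1 lc_f_rc_19_5 lc_f_rc_19_1 lc_f_rc_20_1 lc_f_rc_10_3 lc_f_rc_17_3 lc_f_rc_14_3 lc_f_rc_17_3 lc_f_rc_19_3 lc_f_rc_10_1 lc_f_rc_20_1 lc_f_rc_10_3 lc_f_rc_19_3 lc_f_rc_14_3 lc_f_rc_17_1 lc_f_rc_14_3 lc_f_rc_5_3 lc_f_rc_22_1 lc_f_rc_10_3 lc_f_rc_5_1 lc_f_rc_10_3 lc_f_rc_19_3 lc_f_rc_10_3 lc_f_rc_10_3 lc_f_rc_5_1 lc_f_rc_17_3 lc_f_rc_17_3 lc_f_rc_14_3 lc_f_rc_10_3 lc_f_rc_10_3 lc_f_rc_19_3 lc_f_rc_14_1 lc_f_rc_10_3 lc_f_rc_17_3 lc_f_rc_14_3 lc_f_rc_20_1 lc_f_rc_17_3 lc_f_rc_19_3 lc_f_rc_17_3 lc_f_rc_20_1 lc_f_rc_14_3 lc_f_rc_10_3 lc_f_rc_22_1 lc_f_rc_20_1 lc_f_rc_17_3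 lc_f_rc_14_3 lc_f_rc_10_3 lc_f_rc_19_3 lc_f_rc_14_3 lc_f_rc_10_1 lc_f_rc_14_3 lc_f_rc_10_3 lc_f_rc_14_3) (@D3.rec (fun _ => (Cert rels S Gen.f)) lc_f_rc_10_3 lc_f_rc_19_3 lc_f_rc_17_3 lc_f_rc_22_1 lc_f_rc_21_1 lc_f_rc_10_1 lc_f_rc_17_1 lc_f_rc_14_1 lc_f_rc_19_3 lc_f_rc_20_1 lc_f_rc_20_1 lc_f_rc_20_1 lc_f_rc_19_3 lc_f_rc_17_3 lc_f_rc_14_3 lc_f_rc_17_1 lc_f_rc_17_3 lc_f_rc_14_3 lc_f_rc_21_1 lc_f_rc_19_5 lc_f_rc_17_1 lc_f_rc_21_1 lc_f_rc_21_1 lc_f_rc_19_3 lc_f_rc_20_1 lc_f_rc_14_1 lc_f_rc_19_5 lc_f_rc_22_1 lc_f_rc_14_3 lc_f_rc_17_1 lc_f_rc_19_5 lc_f_rc_20_1 lc_f_rc_20_1 lc_f_rc_5_1 lc_f_rc_10_1 lc_f_rc_10_3 lc_f_rc_21_1 lc_f_rc_5_1 lc_f_rc_10_1 lc_f_rc_14_3 lc_f_rc_10_3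 lc_f_rc_10_3 lc_f_rc_20_1 lc_f_rc_17_3 lc_f_rc_17_3 lc_f_rc_22_1 lc_f_rc_20_1 lc_f_rc_21_1 lc_f_rc_10_3 lc_f_rc_19_3 lc_f_rc_19_5 lc_f_rc_20_1 lc_f_rc_20_1 lc_f_rc_14_1 lc_f_rc_14_1 lc_f_rc_17_3 lc_f_rc_10_1 lc_f_rc_14_1 lc_f_rc_14_1 lc_f_rc_20_1 lc_f_rc_5_3 lc_f_rc_10_1) (@D3.rec (fun _ => (Cert rels S Gen.f)) lc_f_rc_19_3 lc_f_rc_21_1 lc_f_rc_20_1 lc_f_rc_21_1 lc_f_rc_20_1 lc_f_rc_14_3 lc_f_rc_22_1 lc_f_rc_17_3 lc_f_rc_22_1 lc_f_rc_14_3 lc_f_rc_14_3 lc_f_rc_10_3 lc_f_rc_5_3 lc_f_rc_19_3 lc_f_rc_5_3 lc_f_rc_10_1 lc_f_rc_10_1 lc_f_rc_19_5 lc_f_rc_17_3 lc_f_rc_21_1 lc_f_Cert_tree lc_f_rc_14_3 lc_f_rc_20_1 lc_f_rc_17_3 lc_f_rc_14_1 lc_f_rc_17_3 lc_f_rc_5_1 lc_f_rc_14_3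 lc_f_rc_14_3 lc_f_rc_10_3 lc_f_rc_10_3 lc_f_rc_14_3 lc_f_rc_20_1 lc_f_rc_10_3 lc_f_Cert_tree lc_f_rc_10_3 lc_f_rc_14_3 lc_f_rc_14_3 lc_f_rc_19_3 lc_f_rc_10_1 lc_f_rc_17_1 lc_f_rc_21_1 lc_f_rc_14_3 lc_f_rc_10_3 lc_f_rc_14_1 lc_f_rc_19_3 lc_f_rc_21_1 lc_f_rc_20_1 lc_f_rc_20_1 lc_f_rc_14_3 lc_f_rc_5_3 lc_f_rc_14_3 lc_f_Cert_tree lc_f_rc_14_3 lc_f_rc_14_1 lc_f_rc_10_3 lc_f_rc_20_1 lc_f_rc_10_3 lc_f_rc_5_1 lc_f_rc_10_3 lc_f_rc_17_3 lc_f_rc_17_3) (@D3.rec (fun _ => (Cert rels S Gen.f)) lc_f_rc_14_3 lc_f_rc_14_3 lc_f_rc_5_3 lc_f_rc_20_1 lc_f_rc_20_1 lc_f_Cert_tree lc_f_rc_10_3 lc_f_rc_14_3 lc_f_Cert_tree lc_f_rc_20_1 lc_f_rc_10_3 lc_f_rc_17_3 lc_f_rc_17_3 lc_f_rc_17_3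 lc_f_rc_20_1 lc_f_rc_10_3 lc_f_rc_10_3 lc_f_rc_14_1 lc_f_rc_17_3 lc_f_rc_10_3 lc_f_Cert_tree lc_f_rc_21_1 lc_f_rc_14_3 lc_f_rc_20_1 lc_f_rc_14_3 lc_f_rc_14_3 lc_f_rc_14_3 lc_f_rc_10_3 lc_f_rc_14_3 lc_f_rc_20_1 lc_f_rc_17_3 lc_f_rc_10_3 lc_f_rc_19_3 lc_f_rc_14_3 lc_f_rc_21_1 lc_f_rc_17_3 lc_f_rc_20_1 lc_f_rc_20_1 lc_f_rc_14_3 lc_f_rc_10_3 lc_f_rc_10_3 lc_f_rc_17_3 lc_f_rc_17_3 lc_f_rc_20_1 lc_f_rc_20_1 lc_f_rc_10_3 lc_f_rc_21_1 lc_f_Cert_tree lc_f_rc_10_3 lc_f_rc_17_1 lc_f_Cert_tree lc_f_rc_5_3 lc_f_rc_10_3 lc_f_rc_20_1 lc_f_rc_10_3 lc_f_rc_14_3 lc_f_Cert_tree lc_f_rc_22_1 lc_f_rc_17_3 lc_f_rc_17_3 lc_f_Cert_tree lc_f_rc_20_1) (@D3.rec (fun _ => (Cert rels S Gen.f))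 lc_f_rc_19_3 lc_f_rc_17_3 lc_f_rc_5_1 lc_f_rc_21_1 lc_f_rc_19_1 lc_f_rc_10_3 lc_f_rc_17_3 lc_f_rc_17_1 lc_f_rc_19_5 lc_f_rc_22_1 lc_f_rc_10_3 lc_f_rc_21_1 lc_f_rc_20_1 lc_f_rc_17_1 lc_f_rc_14_3 lc_f_rc_14_3 lc_f_rc_5_1 lc_f_rc_17_1 lc_f_rc_20_1 lc_f_rc_19_3 lc_f_rc_21_1 lc_f_rc_19_5 lc_f_rc_14_3 lc_f_rc_17_3 lc_f_rc_19_5 lc_f_rc_17_3 lc_f_rc_17_1 lc_f_rc_17_3 lc_f_rc_5_3 lc_f_rc_10_3 lc_f_rc_14_3 lc_f_rc_19_3 lc_f_rc_10_3 lc_f_rc_10_3 lc_f_rc_17_3 lc_f_rc_14_3 lc_f_rc_10_3 lc_f_rc_5_1 lc_f_rc_20_1 lc_f_rc_17_3 lc_f_rc_5_1 lc_f_rc_20_1 lc_f_rc_17_3 lc_f_rc_19_1 lc_f_rc_14_1 lc_f_rc_14_3 lc_f_rc_17_1 lc_f_rc_21_1 lc_f_rc_14_3 lc_f_rc_20_1 lc_f_rc_14_3 lc_f_rc_17_3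 lc_f_rc_14_1 lc_f_rc_19_3 lc_f_rc_21_1 lc_f_rc_20_1 lc_f_rc_10_1 lc_f_rc_20_1 lc_f_rc_21_1 lc_f_rc_20_1 lc_f_rc_17_3 lc_f_rc_21_1) (@D3.rec (fun _ => (Cert rels S Gen.f)) lc_f_rc_17_1 lc_f_rc_20_1 lc_f_rc_5_1 lc_f_rc_19_3 lc_f_rc_21_1 lc_f_rc_20_1 lc_f_rc_10_3 lc_f_rc_19_3 lc_f_rc_14_3 lc_f_rc_20_1 lc_f_rc_14_1 lc_f_rc_22_1 lc_f_rc_17_1 lc_f_rc_17_1 lc_f_rc_20_1 lc_f_rc_5_1 lc_f_rc_14_1 lc_f_rc_21_1 lc_f_rc_10_3 lc_f_rc_22_1 lc_f_rc_20_1 lc_f_rc_22_1 lc_f_rc_5_3 lc_f_rc_10_3 lc_f_rc_17_3 lc_f_rc_17_3 lc_f_rc_20_1 lc_f_rc_14_3 lc_f_rc_10_1 lc_f_rc_20_1 lc_f_rc_20_1 lc_f_rc_19_1 lc_f_rc_17_3 lc_f_rc_21_1 lc_f_rc_5_3 lc_f_rc_10_3 lc_f_rc_5_1 lc_f_rc_17_3 lc_f_rc_20_1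 lc_f_rc_14_3 lc_f_rc_10_3 lc_f_rc_14_3 lc_f_rc_14_3 lc_f_rc_10_3 lc_f_rc_17_3 lc_f_rc_10_3 lc_f_rc_20_1 lc_f_rc_19_3 lc_f_rc_17_1 lc_f_rc_20_1 lc_f_rc_14_1 lc_f_rc_14_3 lc_f_rc_21_1 lc_f_rc_19_5 lc_f_rc_5_3 lc_f_rc_19_5 lc_f_rc_19_1 lc_f_rc_14_3 lc_f_rc_20_1 lc_f_rc_14_3 lc_f_rc_17_1 lc_f_rc_5_3) (@D3.rec (fun _ => (Cert rels S Gen.f)) lc_f_rc_17_3 lc_f_rc_14_1 lc_f_rc_14_3 lc_f_rc_14_1 lc_f_rc_17_3 lc_f_rc_22_1 lc_f_rc_17_3 lc_f_rc_21_1 lc_f_rc_10_3 lc_f_rc_19_1 lc_f_rc_10_3 lc_f_rc_21_1 lc_f_rc_14_1 lc_f_rc_10_3 lc_f_rc_17_3 lc_f_rc_19_5 lc_f_rc_10_3 lc_f_rc_22_1 lc_f_rc_20_1 lc_f_rc_10_3 lc_f_rc_20_1 lc_f_rc_21_1 lc_f_rc_5_1 lc_f_rc_14_3 lc_f_rc_5_3 lc_f_rc_21_1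 lc_f_rc_10_3 lc_f_rc_17_1 lc_f_rc_17_3 lc_f_rc_19_5 lc_f_rc_14_1 lc_f_rc_10_1 lc_f_rc_21_1 lc_f_rc_17_1 lc_f_rc_20_1 lc_f_rc_10_3 lc_f_rc_14_1 lc_f_rc_22_1 lc_f_rc_14_1 lc_f_rc_20_1 lc_f_rc_10_3 lc_f_rc_19_3 lc_f_rc_20_1 lc_f_rc_17_3 lc_f_rc_10_1 lc_f_rc_14_3 lc_f_rc_14_3 lc_f_rc_21_1 lc_f_rc_17_1 lc_f_rc_17_1 lc_f_rc_14_1 lc_f_rc_20_1 lc_f_rc_17_3 lc_f_rc_10_1 lc_f_rc_14_1 lc_f_rc_10_3 lc_f_rc_10_3 lc_f_rc_17_3 lc_f_rc_20_1 lc_f_rc_5_1 lc_f_rc_17_3 lc_f_rc_10_3) (@D3.rec (fun _ => (Cert rels S Gen.f)) lc_f_rc_21_1 lc_f_rc_21_1 lc_f_rc_10_3 lc_f_rc_17_3 lc_f_rc_20_1 lc_f_rc_17_3 lc_f_rc_5_3 lc_f_rc_14_1 lc_f_rc_19_3 lc_f_rc_14_3 lc_f_rc_14_3 lc_f_rc_19_3 lc_f_rc_14_3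 lc_f_rc_14_3 lc_f_rc_14_3 lc_f_rc_20_1 lc_f_rc_10_3 lc_f_rc_14_1 lc_f_rc_10_3 lc_f_rc_19_5 lc_f_rc_10_3 lc_f_rc_20_1 lc_f_rc_19_3 lc_f_rc_5_3 lc_f_rc_19_3 lc_f_Cert_tree lc_f_rc_20_1 lc_f_rc_5_3 lc_f_rc_17_3 lc_f_rc_10_3 lc_f_rc_5_3 lc_f_rc_17_3 lc_f_rc_14_3 lc_f_rc_17_3 lc_f_rc_5_3 lc_f_rc_17_3 lc_f_rc_20_1 lc_f_rc_19_3 lc_f_rc_17_1 lc_f_Cert_tree lc_f_rc_10_1 lc_f_rc_19_5 lc_f_rc_14_3 lc_f_rc_19_5 lc_f_rc_20_1 lc_f_rc_17_3 lc_f_Cert_tree lc_f_rc_20_1 lc_f_rc_19_1 lc_f_rc_14_3 lc_f_rc_17_1 lc_f_rc_5_1 lc_f_rc_21_1 lc_f_rc_5_1 lc_f_rc_5_1 lc_f_rc_14_3 lc_f_rc_5_3 lc_f_rc_14_1 lc_f_Cert_tree lc_f_rc_20_1 lc_f_rc_20_1 lc_f_rc_14_3) (@D3.rec (fun _ => (Cert rels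 S Gen.f)) lc_f_rc_21_1 lc_f_rc_10_1 lc_f_rc_10_3 lc_f_rc_10_3 lc_f_rc_17_3 lc_f_rc_5_1 lc_f_rc_5_3 lc_f_Cert_tree lc_f_rc_17_3 lc_f_rc_5_1 lc_f_rc_20_1 lc_f_Cert_tree lc_f_rc_10_3 lc_f_rc_5_1 lc_f_rc_5_3 lc_f_rc_19_1 lc_f_Cert_tree lc_f_rc_14_3 lc_f_rc_5_3 lc_f_rc_20_1 lc_f_rc_20_1 lc_f_rc_5_3 lc_f_rc_10_3 lc_f_rc_20_1 lc_f_rc_10_1 lc_f_rc_10_3 lc_f_rc_21_1 lc_f_rc_10_1 lc_f_rc_14_3 lc_f_rc_10_3 lc_f_Cert_tree lc_f_rc_19_3 lc_f_rc_17_3 lc_f_rc_10_1 lc_f_rc_20_1 lc_f_rc_17_3 lc_f_rc_17_3 lc_f_rc_21_1 lc_f_rc_20_1 lc_f_rc_20_1 lc_f_rc_14_1 lc_f_rc_17_3 lc_f_rc_19_3 lc_f_rc_21_1 lc_f_rc_14_1 lc_f_rc_14_1 lc_f_rc_10_3 lc_f_rc_14_1 lc_f_rc_14_1 lc_f_rc_14_1 lc_f_rc_19_3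 lc_f_rc_17_3 lc_f_rc_20_1 lc_f_Cert_tree lc_f_rc_5_1 lc_f_rc_5_3 lc_f_rc_21_1 lc_f_rc_21_1 lc_f_rc_20_1 lc_f_rc_14_3 lc_f_rc_17_1 lc_f_rc_10_3) (@D3.rec (fun _ => (Cert rels S Gen.f)) lc_f_rc_14_1 lc_f_rc_10_3 lc_f_rc_10_3 lc_f_rc_14_3 lc_f_rc_20_1 lc_f_rc_10_3 lc_f_rc_10_3 lc_f_rc_19_5 lc_f_rc_17_3 lc_f_rc_14_1 lc_f_rc_20_1 lc_f_rc_10_3 lc_f_rc_5_1 lc_f_rc_14_3 lc_f_rc_22_1 lc_f_rc_5_1 lc_f_rc_10_3 lc_f_rc_17_3 lc_f_rc_14_1 lc_f_rc_20_1 lc_f_rc_10_3 lc_f_rc_5_3 lc_f_rc_17_3 lc_f_rc_10_3 lc_f_rc_17_1 lc_f_rc_10_3 lc_f_rc_14_3 lc_f_rc_19_3 lc_f_rc_20_1 lc_f_rc_10_3 lc_f_rc_5_1 lc_f_rc_19_3 lc_f_rc_14_3 lc_f_rc_21_1 lc_f_rc_17_3 lc_f_rc_21_1 lc_f_rc_17_3 lc_f_rc_5_1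 lc_f_rc_14_3 lc_f_rc_14_1 lc_f_rc_14_3 lc_f_rc_20_1 lc_f_rc_20_1 lc_f_rc_14_3 lc_f_rc_19_3 lc_f_rc_5_3 lc_f_rc_5_3 lc_f_Cert_tree lc_f_rc_19_3 lc_f_rc_14_3 lc_f_rc_10_3 lc_f_Cert_tree lc_f_rc_20_1 lc_f_rc_17_3 lc_f_rc_19_3 lc_f_rc_10_3 lc_f_rc_19_3 lc_f_Cert_tree lc_f_rc_20_1 lc_f_rc_10_3 lc_f_rc_17_3 lc_f_rc_10_3) (@D3.rec (fun _ => (Cert rels S Gen.f)) lc_f_rc_21_1 lc_f_rc_19_5 lc_f_rc_17_3 lc_f_Cert_tree lc_f_rc_20_1 lc_f_rc_10_3 lc_f_rc_17_3 lc_f_rc_17_3 lc_f_rc_17_3 lc_f_rc_14_3 lc_f_rc_14_3 lc_f_rc_20_1 lc_f_rc_5_3 lc_f_Cert_tree lc_f_rc_20_1 lc_f_rc_10_1 lc_f_rc_10_1 lc_f_rc_10_3 lc_f_rc_20_1 lc_f_rc_20_1 lc_f_rc_21_1 lc_f_rc_10_3 lc_f_rc_17_3 lc_f_rc_14_1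 lc_f_rc_20_1 lc_f_rc_10_1 lc_f_rc_21_1 lc_f_rc_17_1 lc_f_rc_14_3 lc_f_rc_10_3 lc_f_Cert_tree lc_f_rc_21_1 lc_f_rc_19_5 lc_f_Cert_tree lc_f_rc_20_1 lc_f_rc_17_3 lc_f_rc_14_3 lc_f_rc_14_3 lc_f_rc_10_1 lc_f_Cert_tree lc_f_rc_20_1 lc_f_rc_17_3 lc_f_Cert_tree lc_f_rc_20_1 lc_f_rc_20_1 lc_f_rc_21_1 lc_f_Cert_tree lc_f_rc_20_1 lc_f_rc_14_1 lc_f_rc_20_1 lc_f_rc_17_3 lc_f_rc_19_3 lc_f_rc_17_3 lc_f_rc_19_3 lc_f_rc_5_3 lc_f_Cert_tree lc_f_rc_14_1 lc_f_rc_20_1 lc_f_rc_20_1 lc_f_rc_14_3 lc_f_rc_17_3 lc_f_rc_14_3) (@D3.rec (fun _ => (Cert rels S Gen.f)) lc_f_rc_17_3 lc_f_rc_17_3 lc_f_rc_14_3 lc_f_rc_17_3 lc_f_rc_14_1 lc_f_rc_14_3 lc_f_rc_21_1 lc_f_rc_14_3 lc_f_Cert_tree lc_f_rc_19_1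 lc_f_rc_20_1 lc_f_rc_19_1 lc_f_rc_20_1 lc_f_rc_10_1 lc_f_Cert_tree lc_f_rc_21_1 lc_f_rc_17_1 lc_f_Cert_tree lc_f_rc_20_1 lc_f_rc_10_3 lc_f_rc_17_3 lc_f_rc_17_1 lc_f_rc_20_1 lc_f_rc_10_3 lc_f_rc_10_3 lc_f_rc_10_3 lc_f_rc_10_3 lc_f_rc_10_1 lc_f_rc_20_1 lc_f_rc_17_3 lc_f_rc_21_1 lc_f_rc_22_1 lc_f_rc_10_3 lc_f_rc_14_3 lc_f_rc_10_3 lc_f_rc_19_1 lc_f_rc_17_3 lc_f_rc_10_3 lc_f_rc_22_1 lc_f_rc_10_3 lc_f_rc_17_3 lc_f_rc_21_1 lc_f_rc_17_1 lc_f_rc_17_3 lc_f_rc_14_3 lc_f_rc_14_3 lc_f_rc_14_3 lc_f_rc_10_1 lc_f_rc_10_3 lc_f_rc_20_1 lc_f_rc_10_3 lc_f_rc_5_1 lc_f_rc_19_3 lc_f_rc_14_3 lc_f_rc_14_3 lc_f_rc_5_3 lc_f_rc_10_3 lc_f_rc_10_3 lc_f_rc_14_1 lc_f_rc_20_1 lc_f_rc_14_3 lc_f_Cert_tree)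 (@D3.rec (fun _ => (Cert rels S Gen.f)) lc_f_rc_20_1 lc_f_rc_17_3 lc_f_rc_17_3 lc_f_rc_17_1 lc_f_rc_5_1 lc_f_rc_10_3 lc_f_rc_5_3 lc_f_rc_10_3 lc_f_rc_17_3 lc_f_rc_17_1 lc_f_rc_17_1 lc_f_rc_20_1 lc_f_rc_10_3 lc_f_rc_17_3 lc_f_rc_10_3 lc_f_rc_5_1 lc_f_rc_21_1 lc_f_rc_5_1 lc_f_rc_20_1 lc_f_rc_19_3 lc_f_rc_10_3 lc_f_rc_17_3 lc_f_rc_19_3 lc_f_rc_21_1 lc_f_rc_10_3 lc_f_rc_17_3 lc_f_rc_21_1 lc_f_rc_19_3 lc_f_rc_19_3 lc_f_rc_5_1 lc_f_rc_17_3 lc_f_rc_10_3 lc_f_rc_19_3 lc_f_rc_14_3 lc_f_rc_14_3 lc_f_Cert_tree lc_f_rc_20_1 lc_f_rc_19_5 lc_f_rc_14_1 lc_f_rc_10_3 lc_f_rc_14_3 lc_f_rc_10_3 lc_f_rc_21_1 lc_f_rc_17_1 lc_f_rc_17_1 lc_f_rc_14_3 lc_f_rc_14_3 lc_f_rc_19_5 lc_f_rc_10_1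 lc_f_rc_17_1 lc_f_rc_10_1 lc_f_rc_14_3 lc_f_rc_21_1 lc_f_rc_5_1 lc_f_rc_14_3 lc_f_rc_20_1 lc_f_rc_19_3 lc_f_rc_17_3 lc_f_rc_10_3 lc_f_rc_17_3 lc_f_rc_5_3 lc_f_rc_5_3) (@D3.rec (fun _ => (Cert rels S Gen.f)) lc_f_rc_17_3 lc_f_rc_14_3 lc_f_rc_10_3 lc_f_rc_5_3 lc_f_rc_17_3 lc_f_rc_10_3 lc_f_rc_5_3 lc_f_rc_21_1 lc_f_rc_21_1 lc_f_rc_19_5 lc_f_rc_14_3 lc_f_rc_14_3 lc_f_rc_22_1 lc_f_rc_10_3 lc_f_rc_14_3 lc_f_rc_14_1 lc_f_rc_19_5 lc_f_rc_14_3 lc_f_rc_22_1 lc_f_rc_14_3 lc_f_rc_10_3 lc_f_rc_21_1 lc_f_rc_14_3 lc_f_rc_19_3 lc_f_rc_10_1 lc_f_rc_17_3 lc_f_rc_19_3 lc_f_rc_14_1 lc_f_rc_14_1 lc_f_rc_10_3 lc_f_rc_21_1 lc_f_rc_10_3 lc_f_rc_17_3 lc_f_rc_10_3 lc_f_rc_14_3 lc_f_rc_17_1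 lc_f_rc_17_3 lc_f_rc_19_1 lc_f_rc_10_3 lc_f_rc_21_1 lc_f_rc_19_5 lc_f_rc_10_3 lc_f_rc_17_3 lc_f_rc_5_3 lc_f_rc_21_1 lc_f_rc_19_3 lc_f_rc_10_3 lc_f_rc_10_3 lc_f_rc_19_3 lc_f_rc_10_3 lc_f_rc_5_3 lc_f_rc_17_1 lc_f_rc_20_1 lc_f_rc_19_3 lc_f_rc_10_3 lc_f_rc_17_3 lc_f_rc_17_3 lc_f_rc_17_1 lc_f_rc_10_1 lc_f_rc_17_1 lc_f_rc_17_3 lc_f_rc_20_1) (@D3.rec (fun _ => (Cert rels S Gen.f)) lc_f_rc_5_3 lc_f_rc_10_1 lc_f_rc_17_1 lc_f_rc_17_3 lc_f_rc_17_3 lc_f_rc_20_1 lc_f_rc_21_1 lc_f_rc_20_1 lc_f_rc_17_3 lc_f_rc_17_1 lc_f_rc_17_1 lc_f_rc_20_1 lc_f_rc_14_3 lc_f_rc_19_1 lc_f_rc_21_1 lc_f_rc_14_3 lc_f_rc_17_1 lc_f_rc_14_3 lc_f_rc_17_3 lc_f_rc_17_3 lc_f_rc_10_3 lc_f_rc_17_3 lc_f_rc_22_1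 lc_f_rc_5_3 lc_f_rc_10_3 lc_f_rc_20_1 lc_f_rc_10_3 lc_f_rc_14_3 lc_f_Cert_tree lc_f_rc_17_1 lc_f_rc_21_1 lc_f_rc_20_1 lc_f_rc_14_3 lc_f_rc_20_1 lc_f_rc_5_3 lc_f_rc_10_3 lc_f_rc_5_3 lc_f_rc_17_3 lc_f_rc_21_1 lc_f_rc_10_3 lc_f_rc_20_1 lc_f_rc_20_1 lc_f_rc_14_1 lc_f_rc_14_3 lc_f_rc_19_5 lc_f_rc_10_1 lc_f_rc_21_1 lc_f_rc_10_3 lc_f_rc_21_1 lc_f_rc_14_3 lc_f_rc_19_3 lc_f_rc_17_3 lc_f_rc_21_1 lc_f_rc_17_3 lc_f_rc_10_3 lc_f_rc_17_3 lc_f_rc_10_3 lc_f_rc_17_3 lc_f_rc_10_3 lc_f_rc_17_3 lc_f_rc_5_3 lc_f_rc_5_1) (@D3.rec (fun _ => (Cert rels S Gen.f)) lc_f_rc_10_3 lc_f_rc_10_3 lc_f_rc_21_1 lc_f_rc_17_1 lc_f_rc_20_1 lc_f_rc_10_3 lc_f_rc_5_1 lc_f_rc_21_1 lc_f_rc_21_1 lc_f_rc_20_1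 lc_f_rc_19_3 lc_f_rc_17_3 lc_f_rc_19_3 lc_f_rc_5_3 lc_f_rc_5_1 lc_f_rc_20_1 lc_f_rc_19_5 lc_f_rc_14_3 lc_f_rc_20_1 lc_f_rc_20_1 lc_f_rc_21_1 lc_f_rc_20_1 lc_f_rc_17_1 lc_f_Cert_tree lc_f_rc_14_3 lc_f_rc_10_3 lc_f_rc_14_3 lc_f_rc_10_3 lc_f_rc_17_3 lc_f_rc_10_1 lc_f_rc_17_1 lc_f_rc_20_1 lc_f_rc_10_1 lc_f_rc_10_1 lc_f_rc_14_1 lc_f_rc_17_3 lc_f_rc_5_3 lc_f_rc_10_3 lc_f_rc_17_3 lc_f_rc_17_3 lc_f_rc_17_3 lc_f_rc_5_1 lc_f_rc_21_1 lc_f_rc_17_1 lc_f_rc_19_3 lc_f_rc_17_3 lc_f_rc_17_1 lc_f_rc_20_1 lc_f_rc_20_1 lc_f_rc_19_1 lc_f_rc_17_1 lc_f_rc_14_3 lc_f_rc_10_3 lc_f_rc_5_3 lc_f_rc_14_3 lc_f_rc_10_3 lc_f_rc_5_1 lc_f_rc_14_3 lc_f_rc_5_3 lc_f_rc_10_3 lc_f_rc_5_3 lc_f_rc_14_1)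 (@D3.rec (fun _ => (Cert rels S Gen.f)) lc_f_rc_10_3 lc_f_rc_10_1 lc_f_rc_17_1 lc_f_rc_20_1 lc_f_rc_10_3 lc_f_rc_21_1 lc_f_rc_17_3 lc_f_Cert_tree lc_f_rc_20_1 lc_f_rc_17_3 lc_f_rc_5_3 lc_f_rc_5_1 lc_f_rc_10_3 lc_f_rc_10_3 lc_f_rc_14_3 lc_f_rc_5_1 lc_f_rc_14_1 lc_f_rc_14_3 lc_f_rc_17_3 lc_f_rc_20_1 lc_f_rc_10_3 lc_f_rc_17_3 lc_f_rc_14_1 lc_f_rc_20_1 lc_f_rc_10_3 lc_f_rc_17_3 lc_f_rc_20_1 lc_f_rc_19_3 lc_f_rc_17_3 lc_f_rc_22_1 lc_f_rc_17_3 lc_f_rc_14_1 lc_f_rc_20_1 lc_f_rc_10_3 lc_f_rc_17_3 lc_f_rc_20_1 lc_f_rc_21_1 lc_f_Cert_tree lc_f_rc_20_1 lc_f_rc_17_3 lc_f_rc_5_1 lc_f_rc_14_3 lc_f_rc_14_3 lc_f_rc_17_3 lc_f_rc_17_3 lc_f_rc_10_1 lc_f_rc_20_1 lc_f_rc_17_3 lc_f_rc_5_1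 lc_f_rc_10_3 lc_f_rc_5_1 lc_f_rc_10_3 lc_f_rc_5_1 lc_f_rc_17_1 lc_f_rc_17_3 lc_f_rc_17_3 lc_f_rc_14_3 lc_f_rc_14_3 lc_f_rc_17_1 lc_f_rc_21_1 lc_f_rc_21_1 lc_f_rc_10_3) (@D3.rec (fun _ => (Cert rels S Gen.f)) lc_f_rc_5_1 lc_f_rc_14_3 lc_f_rc_17_3 lc_f_rc_10_3 lc_f_rc_5_3 lc_f_rc_5_3 lc_f_rc_19_3 lc_f_rc_19_5 lc_f_rc_21_1 lc_f_rc_20_1 lc_f_rc_10_3 lc_f_rc_17_3 lc_f_rc_22_1 lc_f_rc_19_5 lc_f_rc_14_3 lc_f_rc_10_3 lc_f_rc_10_1 lc_f_rc_20_1 lc_f_rc_10_3 lc_f_rc_14_1 lc_f_rc_14_3 lc_f_rc_5_1 lc_f_rc_14_3 lc_f_rc_19_1 lc_f_rc_10_3 lc_f_rc_21_1 lc_f_rc_14_3 lc_f_rc_14_1 lc_f_rc_20_1 lc_f_rc_10_1 lc_f_rc_20_1 lc_f_rc_14_3 lc_f_rc_17_3 lc_f_rc_14_1 lc_f_rc_20_1 lc_f_rc_14_1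 lc_f_rc_10_1 lc_f_rc_17_3 lc_f_rc_10_3 lc_f_rc_22_1 lc_f_rc_20_1 lc_f_Cert_tree lc_f_rc_20_1 lc_f_rc_20_1 lc_f_rc_20_1 lc_f_rc_17_3 lc_f_rc_5_1 lc_f_rc_5_3 lc_f_rc_20_1 lc_f_rc_10_3 lc_f_rc_14_3 lc_f_rc_17_1 lc_f_rc_14_3 lc_f_rc_21_1 lc_f_rc_14_1 lc_f_rc_19_3 lc_f_rc_17_3 lc_f_rc_14_3 lc_f_rc_21_1 lc_f_rc_17_3 lc_f_rc_20_1 lc_f_rc_20_1) (@D3.rec (fun _ => (Cert rels S Gen.f)) lc_f_rc_5_1 lc_f_rc_10_3 lc_f_rc_14_3 lc_f_rc_10_1 lc_f_rc_19_5 lc_f_rc_5_1 lc_f_rc_20_1 lc_f_rc_17_3 lc_f_rc_10_1 lc_f_rc_20_1 lc_f_rc_19_3 lc_f_rc_10_3 lc_f_rc_21_1 lc_f_rc_10_1 lc_f_rc_10_3 lc_f_rc_14_3 lc_f_rc_17_1 lc_f_rc_10_3 lc_f_rc_5_3 lc_f_rc_19_5 lc_f_rc_10_3 lc_f_rc_5_1 lc_f_rc_19_1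 lc_f_rc_10_3 lc_f_rc_22_1 lc_f_rc_14_1 lc_f_rc_10_3 lc_f_rc_21_1 lc_f_rc_17_1 lc_f_rc_20_1 lc_f_rc_14_3 lc_f_rc_5_3 lc_f_rc_10_3 lc_f_rc_5_3 lc_f_rc_14_1 lc_f_rc_17_1 lc_f_rc_21_1 lc_f_rc_10_3 lc_f_rc_10_1 lc_f_Cert_tree lc_f_rc_14_3 lc_f_rc_5_1 lc_f_rc_5_1 lc_f_rc_20_1 lc_f_rc_19_3 lc_f_rc_20_1 lc_f_rc_14_3 lc_f_rc_20_1 lc_f_rc_5_1 lc_f_rc_5_1 lc_f_rc_14_1 lc_f_rc_19_3 lc_f_rc_14_3 lc_f_rc_14_1 lc_f_rc_22_1 lc_f_rc_21_1 lc_f_Cert_tree lc_f_rc_20_1 lc_f_rc_20_1 lc_f_rc_14_3 lc_f_rc_21_1 lc_f_rc_5_1) (@D3.rec (fun _ => (Cert rels S Gen.f)) lc_f_rc_20_1 lc_f_rc_5_3 lc_f_rc_21_1 lc_f_rc_19_5 lc_f_rc_17_3 lc_f_rc_17_3 lc_f_rc_14_3 lc_f_rc_21_1 lc_f_Cert_tree lc_f_rc_20_1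 lc_f_rc_10_1 lc_f_rc_20_1 lc_f_rc_20_1 lc_f_rc_21_1 lc_f_rc_20_1 lc_f_rc_17_3 lc_f_rc_10_3 lc_f_rc_21_1 lc_f_rc_10_3 lc_f_rc_19_1 lc_f_rc_10_3 lc_f_rc_21_1 lc_f_rc_20_1 lc_f_rc_10_3 lc_f_rc_17_3 lc_f_rc_21_1 lc_f_rc_21_1 lc_f_rc_5_1 lc_f_rc_10_3 lc_f_rc_10_1 lc_f_rc_10_3 lc_f_rc_14_1 lc_f_rc_19_3 lc_f_rc_21_1 lc_f_rc_19_3 lc_f_rc_14_3 lc_f_rc_10_3 lc_f_rc_21_1 lc_f_rc_19_3 lc_f_rc_5_1 lc_f_rc_14_3 lc_f_rc_22_1 lc_f_rc_14_3 lc_f_rc_20_1 lc_f_rc_20_1 lc_f_rc_10_3 lc_f_rc_21_1 lc_f_rc_14_3 lc_f_rc_17_3 lc_f_rc_14_3 lc_f_rc_14_3 lc_f_rc_10_3 lc_f_rc_19_3 lc_f_rc_10_3 lc_f_rc_22_1 lc_f_rc_17_3 lc_f_rc_17_1 lc_f_rc_17_1 lc_f_rc_17_3 lc_f_rc_21_1 lc_f_rc_19_3 lc_f_rc_20_1)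 (@D3.rec (fun _ => (Cert rels S Gen.f)) lc_f_rc_14_3 lc_f_rc_20_1 lc_f_rc_17_3 lc_f_rc_21_1 lc_f_rc_17_3 lc_f_rc_19_3 lc_f_rc_17_3 lc_f_rc_17_3 lc_f_rc_20_1 lc_f_rc_17_1 lc_f_rc_14_3 lc_f_rc_10_3 lc_f_rc_17_1 lc_f_rc_22_1 lc_f_rc_20_1 lc_f_rc_5_3 lc_f_rc_10_3 lc_f_rc_17_3 lc_f_rc_14_3 lc_f_rc_10_1 lc_f_rc_21_1 lc_f_rc_17_1 lc_f_rc_14_1 lc_f_rc_20_1 lc_f_rc_20_1 lc_f_rc_10_3 lc_f_rc_5_1 lc_f_rc_5_3 lc_f_rc_5_1 lc_f_rc_20_1 lc_f_rc_5_1 lc_f_rc_19_3 lc_f_rc_19_5 lc_f_rc_17_1 lc_f_rc_17_1 lc_f_rc_10_3 lc_f_rc_5_1 lc_f_rc_10_3 lc_f_rc_20_1 lc_f_rc_5_1 lc_f_rc_20_1 lc_f_rc_10_3 lc_f_rc_19_5 lc_f_Cert_tree lc_f_rc_17_3 lc_f_rc_14_3 lc_f_rc_5_3 lc_f_rc_14_3 lc_f_rc_5_3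 lc_f_rc_20_1 lc_f_rc_10_3 lc_f_rc_20_1 lc_f_rc_5_3 lc_f_rc_20_1 lc_f_rc_10_3 lc_f_rc_21_1 lc_f_rc_10_3 lc_f_rc_20_1 lc_f_rc_21_1 lc_f_rc_21_1 lc_f_rc_14_3 lc_f_rc_21_1) (@D3.rec (fun _ => (Cert rels S Gen.f)) lc_f_rc_14_3 lc_f_rc_10_1 lc_f_rc_17_3 lc_f_rc_10_3 lc_f_rc_22_1 lc_f_rc_10_1 lc_f_rc_14_3 lc_f_rc_20_1 lc_f_rc_19_3 lc_f_rc_20_1 lc_f_rc_22_1 lc_f_rc_14_3 lc_f_rc_17_3 lc_f_rc_22_1 lc_f_rc_17_1 lc_f_rc_20_1 lc_f_rc_19_3 lc_f_rc_10_1 lc_f_rc_20_1 lc_f_rc_10_3 lc_f_rc_5_1 lc_f_rc_10_3 lc_f_rc_17_3 lc_f_rc_14_3 lc_f_Cert_tree lc_f_rc_10_3 lc_f_rc_5_1 lc_f_Cert_tree lc_f_rc_20_1 lc_f_rc_17_3 lc_f_rc_14_1 lc_f_rc_10_3 lc_f_rc_20_1 lc_f_rc_5_1 lc_f_rc_19_5 lc_f_rc_21_1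 lc_f_rc_17_3 lc_f_rc_19_5 lc_f_rc_20_1 lc_f_rc_14_3 lc_f_rc_14_3 lc_f_rc_10_3 lc_f_rc_17_3 lc_f_rc_10_3 lc_f_rc_21_1 lc_f_rc_10_3 lc_f_rc_17_3 lc_f_rc_10_1 lc_f_rc_22_1 lc_f_rc_14_3 lc_f_rc_10_3 lc_f_rc_21_1 lc_f_rc_10_1 lc_f_rc_10_3 lc_f_rc_10_3 lc_f_rc_5_3 lc_f_rc_14_3 lc_f_rc_5_3 lc_f_rc_21_1 lc_f_rc_17_3 lc_f_rc_10_1 lc_f_rc_14_3) (@D3.rec (fun _ => (Cert rels S Gen.f)) lc_f_rc_22_1 lc_f_rc_20_1 lc_f_rc_10_3 lc_f_rc_10_3 lc_f_rc_20_1 lc_f_rc_5_3 lc_f_rc_19_3 lc_f_rc_21_1 lc_f_rc_17_1 lc_f_rc_14_1 lc_f_rc_19_3 lc_f_rc_17_1 lc_f_rc_20_1 lc_f_rc_14_3 lc_f_rc_22_1 lc_f_rc_10_1 lc_f_rc_10_1 lc_f_rc_19_5 lc_f_rc_17_3 lc_f_rc_5_3 lc_f_rc_14_3 lc_f_rc_17_3 lc_f_rc_22_1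 lc_f_rc_17_3 lc_f_rc_17_3 lc_f_rc_20_1 lc_f_rc_21_1 lc_f_Cert_tree lc_f_rc_20_1 lc_f_rc_10_1 lc_f_rc_5_3 lc_f_rc_5_3 lc_f_rc_10_3 lc_f_rc_14_3 lc_f_rc_14_3 lc_f_rc_20_1 lc_f_rc_14_1 lc_f_rc_17_3 lc_f_rc_10_3 lc_f_rc_20_1 lc_f_rc_17_1 lc_f_rc_10_1 lc_f_rc_14_1 lc_f_rc_10_3 lc_f_rc_14_3 lc_f_rc_21_1 lc_f_rc_17_1 lc_f_rc_20_1 lc_f_rc_5_3 lc_f_rc_20_1 lc_f_rc_19_3 lc_f_rc_5_3 lc_f_rc_17_3 lc_f_rc_17_3 lc_f_rc_14_1 lc_f_rc_14_3 lc_f_rc_20_1 lc_f_rc_14_3 lc_f_rc_14_3 lc_f_rc_14_3 lc_f_rc_19_5 lc_f_rc_14_3) (@D3.rec (fun _ => (Cert rels S Gen.f)) lc_f_rc_21_1 lc_f_rc_14_3 lc_f_rc_20_1 lc_f_rc_19_3 lc_f_rc_21_1 lc_f_rc_22_1 lc_f_rc_14_1 lc_f_rc_17_3 lc_f_rc_10_3 lc_f_rc_17_3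 lc_f_rc_17_3 lc_f_rc_14_1 lc_f_rc_17_3 lc_f_rc_21_1 lc_f_rc_20_1 lc_f_rc_17_3 lc_f_rc_10_1 lc_f_rc_14_3 lc_f_rc_17_1 lc_f_rc_17_1 lc_f_rc_10_3 lc_f_rc_14_3 lc_f_rc_14_3 lc_f_rc_14_3 lc_f_rc_10_3 lc_f_rc_19_1 lc_f_rc_14_3 lc_f_rc_10_1 lc_f_rc_10_3 lc_f_rc_19_3 lc_f_rc_21_1 lc_f_rc_5_1 lc_f_rc_14_1 lc_f_rc_10_3 lc_f_rc_19_3 lc_f_rc_22_1 lc_f_rc_21_1 lc_f_rc_10_3 lc_f_rc_17_1 lc_f_rc_19_1 lc_f_rc_19_5 lc_f_rc_17_3 lc_f_rc_20_1 lc_f_rc_17_1 lc_f_rc_19_3 lc_f_rc_21_1 lc_f_rc_20_1 lc_f_rc_10_3 lc_f_rc_17_3 lc_f_rc_17_3 lc_f_rc_14_1 lc_f_rc_14_3 lc_f_rc_14_3 lc_f_rc_14_3 lc_f_rc_17_3 lc_f_rc_22_1 lc_f_rc_22_1 lc_f_rc_21_1 lc_f_rc_5_3 lc_f_rc_20_1 lc_f_rc_21_1 lc_f_rc_19_5)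 (@D3.rec (fun _ => (Cert rels S Gen.f)) lc_f_rc_5_3 lc_f_rc_14_3 lc_f_rc_5_1 lc_f_rc_14_3 lc_f_rc_21_1 lc_f_rc_20_1 lc_f_rc_10_1 lc_f_rc_17_1 lc_f_rc_14_3 lc_f_rc_14_3 lc_f_rc_19_3 lc_f_rc_17_1 lc_f_rc_14_1 lc_f_rc_21_1 lc_f_rc_20_1 lc_f_rc_10_3 lc_f_rc_17_3 lc_f_rc_19_3 lc_f_rc_10_3 lc_f_rc_17_1 lc_f_rc_17_3 lc_f_rc_21_1 lc_f_rc_17_1 lc_f_rc_10_3 lc_f_Cert_tree lc_f_rc_14_3 lc_f_rc_17_1 lc_f_rc_10_1 lc_f_rc_10_1 lc_f_rc_21_1 lc_f_rc_10_3 lc_f_rc_14_3 lc_f_rc_14_3 lc_f_rc_20_1 lc_f_rc_19_3 lc_f_rc_20_1 lc_f_rc_17_3 lc_f_rc_17_3 lc_f_rc_14_3 lc_f_rc_14_3 lc_f_rc_19_5 lc_f_rc_14_3 lc_f_rc_14_3 lc_f_rc_17_3 lc_f_rc_10_3 lc_f_rc_5_3 lc_f_rc_17_3 lc_f_rc_14_3 lc_f_rc_14_1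 lc_f_rc_20_1 lc_f_rc_22_1 lc_f_rc_14_3 lc_f_rc_17_1 lc_f_rc_19_5 lc_f_rc_10_3 lc_f_rc_14_3 lc_f_rc_14_1 lc_f_rc_17_3 lc_f_rc_21_1 lc_f_rc_17_1 lc_f_Cert_tree lc_f_rc_20_1) (@D3.rec (fun _ => (Cert rels S Gen.f)) lc_f_rc_14_3 lc_f_rc_10_3 lc_f_rc_14_1 lc_f_rc_10_1 lc_f_rc_14_3 lc_f_rc_14_3 lc_f_rc_5_3 lc_f_rc_14_3 lc_f_rc_14_3 lc_f_rc_22_1 lc_f_rc_20_1 lc_f_rc_5_1 lc_f_rc_14_1 lc_f_rc_14_3 lc_f_rc_5_3 lc_f_rc_14_3 lc_f_rc_20_1 lc_f_rc_10_1 lc_f_rc_10_1 lc_f_rc_20_1 lc_f_rc_19_1 lc_f_rc_19_5 lc_f_rc_14_1 lc_f_rc_20_1 lc_f_rc_5_3 lc_f_rc_17_1 lc_f_rc_20_1 lc_f_rc_14_3 lc_f_rc_14_3 lc_f_rc_5_1 lc_f_rc_14_3 lc_f_rc_22_1 lc_f_rc_19_1 lc_f_rc_17_1 lc_f_rc_21_1 lc_f_rc_17_3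 lc_f_rc_21_1 lc_f_rc_10_3 lc_f_rc_17_1 lc_f_rc_10_1 lc_f_rc_21_1 lc_f_rc_19_5 lc_f_rc_22_1 lc_f_rc_14_3 lc_f_rc_10_3 lc_f_rc_10_3 lc_f_rc_14_3 lc_f_rc_19_3 lc_f_rc_17_3 lc_f_rc_17_3 lc_f_rc_21_1 lc_f_rc_17_3 lc_f_rc_17_3 lc_f_rc_14_1 lc_f_rc_19_1 lc_f_rc_10_3 lc_f_rc_19_3 lc_f_rc_17_3 lc_f_rc_14_3 lc_f_rc_21_1 lc_f_rc_21_1 lc_f_rc_10_3) (@D3.rec (fun _ => (Cert rels S Gen.f)) lc_f_rc_17_1 lc_f_rc_20_1 lc_f_rc_17_3 lc_f_rc_17_3 lc_f_rc_10_3 lc_f_rc_14_3 lc_f_rc_5_1 lc_f_rc_14_3 lc_f_rc_14_3 lc_f_rc_22_1 lc_f_rc_10_1 lc_f_rc_21_1 lc_f_rc_19_3 lc_f_rc_19_5 lc_f_rc_14_3 lc_f_rc_14_1 lc_f_rc_17_3 lc_f_rc_21_1 lc_f_rc_20_1 lc_f_rc_21_1 lc_f_rc_17_3 lc_f_rc_5_1 lc_f_rc_5_3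 lc_f_rc_17_3 lc_f_rc_19_5 lc_f_rc_21_1 lc_f_rc_17_3 lc_f_rc_17_3 lc_f_rc_10_3 lc_f_Cert_tree lc_f_rc_17_3 lc_f_rc_5_1 lc_f_rc_5_1 lc_f_rc_14_3 lc_f_Cert_tree lc_f_rc_20_1 lc_f_rc_17_3 lc_f_rc_14_1 lc_f_rc_20_1 lc_f_rc_17_3 lc_f_rc_17_3 lc_f_rc_20_1 lc_f_rc_20_1 lc_f_rc_20_1 lc_f_rc_19_5 lc_f_rc_19_5 lc_f_rc_21_1 lc_f_rc_20_1 lc_f_rc_21_1 lc_f_rc_10_3 lc_f_rc_21_1 lc_f_rc_14_1 lc_f_rc_20_1 lc_f_rc_14_3 lc_f_rc_19_5 lc_f_rc_10_3 lc_f_rc_5_1 lc_f_rc_10_3 lc_f_rc_19_3 lc_f_rc_17_1 lc_f_rc_20_1 lc_f_rc_19_1) (@D3.rec (fun _ => (Cert rels S Gen.f)) lc_f_rc_20_1 lc_f_rc_20_1 lc_f_rc_14_1 lc_f_rc_20_1 lc_f_rc_5_3 lc_f_rc_10_1 lc_f_rc_10_3 lc_f_rc_19_3 lc_f_rc_20_1 lc_f_rc_14_3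 lc_f_rc_5_3 lc_f_rc_17_1 lc_f_rc_20_1 lc_f_rc_19_5 lc_f_rc_5_3 lc_f_rc_20_1 lc_f_rc_5_3 lc_f_rc_5_1 lc_f_rc_20_1 lc_f_rc_14_1 lc_f_rc_17_3 lc_f_rc_17_3 lc_f_rc_10_3 lc_f_rc_22_1 lc_f_rc_20_1 lc_f_rc_14_3 lc_f_rc_17_3 lc_f_rc_10_3 lc_f_rc_19_1 lc_f_rc_10_3 lc_f_rc_17_3 lc_f_rc_10_3 lc_f_Cert_tree lc_f_rc_20_1 lc_f_rc_17_3 lc_f_rc_17_3 lc_f_rc_17_3 lc_f_rc_20_1 lc_f_rc_20_1 lc_f_rc_22_1 lc_f_rc_20_1 lc_f_rc_5_3 lc_f_rc_17_3 lc_f_rc_5_3 lc_f_rc_10_3 lc_f_rc_19_5 lc_f_rc_22_1 lc_f_rc_14_3 lc_f_rc_19_5 lc_f_rc_19_1 lc_f_Cert_tree lc_f_rc_10_3 lc_f_rc_17_3 lc_f_Cert_tree lc_f_rc_20_1 lc_f_rc_14_1 lc_f_rc_17_3 lc_f_rc_14_3 lc_f_rc_20_1 lc_f_rc_10_3 lc_f_rc_17_3 lc_f_rc_10_3)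 (@D3.rec (fun _ => (Cert rels S Gen.f)) lc_f_rc_10_3 lc_f_rc_20_1 lc_f_rc_19_3 lc_f_rc_17_3 lc_f_rc_10_1 lc_f_rc_14_3 lc_f_rc_20_1 lc_f_rc_17_3 lc_f_rc_14_3 lc_f_Cert_tree lc_f_rc_10_1 lc_f_rc_10_3 lc_f_rc_14_1 lc_f_rc_5_1 lc_f_rc_20_1 lc_f_rc_17_3 lc_f_rc_21_1 lc_f_rc_10_1 lc_f_rc_10_1 lc_f_rc_10_3 lc_f_rc_19_3 lc_f_rc_17_3 lc_f_rc_20_1 lc_f_rc_14_3 lc_f_Cert_tree lc_f_rc_10_3 lc_f_rc_5_3 lc_f_rc_17_3 lc_f_rc_14_3 lc_f_rc_5_1 lc_f_rc_20_1 lc_f_rc_19_5 lc_f_rc_10_3 lc_f_rc_5_3 lc_f_rc_17_3 lc_f_rc_17_3 lc_f_rc_20_1 lc_f_rc_22_1 lc_f_rc_22_1 lc_f_rc_14_3 lc_f_rc_10_3 lc_f_rc_5_1 lc_f_rc_5_1 lc_f_rc_21_1 lc_f_rc_20_1 lc_f_rc_19_5 lc_f_rc_10_1 lc_f_rc_19_3 lc_f_rc_20_1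 lc_f_rc_14_3 lc_f_rc_17_3 lc_f_rc_19_3 lc_f_rc_14_1 lc_f_rc_22_1 lc_f_rc_21_1 lc_f_rc_20_1 lc_f_rc_10_3 lc_f_rc_10_3 lc_f_rc_21_1 lc_f_rc_14_3 lc_f_rc_17_3 lc_f_rc_19_1) (@D3.rec (fun _ => (Cert rels S Gen.f)) lc_f_rc_17_1 lc_f_Cert_tree lc_f_rc_20_1 lc_f_rc_10_3 lc_f_rc_5_3 lc_f_rc_17_3 lc_f_rc_22_1 lc_f_rc_20_1 lc_f_rc_10_3 lc_f_rc_17_1 lc_f_rc_20_1 lc_f_rc_17_3 lc_f_rc_10_3 lc_f_rc_17_1 lc_f_rc_5_1 lc_f_Cert_tree lc_f_rc_14_1 lc_f_rc_21_1 lc_f_rc_14_3 lc_f_rc_5_1 lc_f_rc_14_1 lc_f_rc_20_1 lc_f_rc_17_3 lc_f_rc_14_3 lc_f_rc_14_3 lc_f_rc_20_1 lc_f_rc_20_1 lc_f_rc_21_1 lc_f_rc_10_3 lc_f_rc_5_1 lc_f_rc_21_1 lc_f_rc_17_3 lc_f_rc_10_3 lc_f_rc_20_1 lc_f_rc_20_1 lc_f_rc_19_3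 lc_f_rc_10_3 lc_f_rc_21_1 lc_f_rc_20_1 lc_f_rc_5_3 lc_f_rc_20_1 lc_f_rc_19_1 lc_f_rc_17_3 lc_f_rc_19_3 lc_f_rc_20_1 lc_f_rc_20_1 lc_f_rc_19_3 lc_f_rc_10_1 lc_f_rc_5_3 lc_f_rc_5_3 lc_f_rc_21_1 lc_f_rc_20_1 lc_f_rc_21_1 lc_f_rc_5_1 lc_f_rc_20_1 lc_f_rc_17_3 lc_f_rc_21_1 lc_f_rc_10_3 lc_f_rc_20_1 lc_f_rc_10_3 lc_f_rc_17_3 lc_f_rc_10_3) (@D3.rec (fun _ => (Cert rels S Gen.f)) lc_f_rc_17_3 lc_f_rc_10_3 lc_f_rc_21_1 lc_f_rc_20_1 lc_f_rc_10_3 lc_f_rc_17_1 lc_f_rc_10_3 lc_f_rc_5_3 lc_f_rc_10_3 lc_f_rc_14_1 lc_f_rc_17_1 lc_f_rc_17_3 lc_f_rc_17_3 lc_f_rc_14_1 lc_f_rc_17_1 lc_f_rc_17_3 lc_f_rc_21_1 lc_f_rc_17_1 lc_f_rc_5_3 lc_f_rc_14_3 lc_f_rc_17_3 lc_f_rc_14_3 lc_f_rc_17_3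 lc_f_rc_20_1 lc_f_rc_17_1 lc_f_rc_14_1 lc_f_rc_21_1 lc_f_rc_17_1 lc_f_rc_10_3 lc_f_Cert_tree lc_f_rc_20_1 lc_f_rc_20_1 lc_f_rc_20_1 lc_f_rc_5_3 lc_f_rc_10_3 lc_f_rc_19_3 lc_f_rc_10_3 lc_f_rc_21_1 lc_f_rc_5_3 lc_f_rc_22_1 lc_f_rc_21_1 lc_f_rc_19_5 lc_f_rc_20_1 lc_f_rc_10_1 lc_f_rc_10_3 lc_f_rc_21_1 lc_f_rc_14_3 lc_f_rc_10_1 lc_f_rc_10_1 lc_f_rc_5_1 lc_f_rc_5_3 lc_f_rc_5_3 lc_f_rc_19_3 lc_f_rc_14_3 lc_f_rc_17_3 lc_f_rc_21_1 lc_f_rc_10_3 lc_f_rc_17_3 lc_f_rc_17_3 lc_f_rc_20_1 lc_f_rc_17_1 lc_f_rc_17_3) (@D3.rec (fun _ => (Cert rels S Gen.f)) lc_f_rc_14_1 lc_f_rc_21_1 lc_f_rc_21_1 lc_f_rc_20_1 lc_f_rc_20_1 lc_f_rc_21_1 lc_f_rc_17_3 lc_f_rc_14_3 lc_f_rc_14_1 lc_f_rc_5_3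 lc_f_rc_20_1 lc_f_rc_17_3 lc_f_rc_14_3 lc_f_rc_10_3 lc_f_rc_21_1 lc_f_rc_20_1 lc_f_rc_10_3 lc_f_rc_14_1 lc_f_rc_20_1 lc_f_rc_17_3 lc_f_rc_5_1 lc_f_rc_20_1 lc_f_rc_17_3 lc_f_rc_10_3 lc_f_rc_21_1 lc_f_rc_14_3 lc_f_rc_10_3 lc_f_rc_14_3 lc_f_rc_20_1 lc_f_rc_10_3 lc_f_rc_21_1 lc_f_rc_14_1 lc_f_rc_19_3 lc_f_rc_20_1 lc_f_rc_19_5 lc_f_rc_20_1 lc_f_rc_10_1 lc_f_rc_19_1 lc_f_rc_14_1 lc_f_rc_17_3 lc_f_rc_17_3 lc_f_rc_17_3 lc_f_rc_20_1 lc_f_rc_5_1 lc_f_rc_14_1 lc_f_rc_21_1 lc_f_rc_5_3 lc_f_rc_10_3 lc_f_rc_14_3 lc_f_rc_19_3 lc_f_rc_17_3 lc_f_rc_14_3 lc_f_rc_14_3 lc_f_rc_14_3 lc_f_rc_14_3 lc_f_rc_10_3 lc_f_rc_17_3 lc_f_rc_17_3 lc_f_rc_17_3 lc_f_rc_14_1 lc_f_rc_21_1 lc_f_rc_17_3)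 (@D3.rec (fun _ => (Cert rels S Gen.f)) lc_f_rc_19_3 lc_f_rc_10_1 lc_f_rc_20_1 lc_f_rc_20_1 lc_f_rc_20_1 lc_f_rc_21_1 lc_f_rc_14_3 lc_f_rc_17_1 lc_f_rc_17_3 lc_f_rc_10_3 lc_f_rc_14_3 lc_f_rc_19_3 lc_f_rc_17_1 lc_f_rc_21_1 lc_f_rc_22_1 lc_f_rc_17_1 lc_f_rc_10_1 lc_f_rc_20_1 lc_f_rc_17_3 lc_f_rc_14_3 lc_f_rc_14_1 lc_f_rc_19_3 lc_f_rc_20_1 lc_f_rc_21_1 lc_f_rc_10_3 lc_f_rc_20_1 lc_f_rc_17_3 lc_f_rc_17_3 lc_f_rc_5_3 lc_f_rc_5_1 lc_f_rc_17_1 lc_f_rc_20_1 lc_f_rc_17_3 lc_f_rc_20_1 lc_f_Cert_tree lc_f_rc_20_1 lc_f_rc_10_1 lc_f_rc_21_1 lc_f_rc_5_3 lc_f_rc_5_3 lc_f_rc_21_1 lc_f_rc_17_3 lc_f_rc_17_3 lc_f_rc_19_5 lc_f_rc_10_3 lc_f_rc_20_1 lc_f_rc_17_3 lc_f_rc_10_3 lc_f_rc_21_1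 lc_f_rc_14_3 lc_f_rc_17_1 lc_f_rc_17_3 lc_f_rc_14_1 lc_f_rc_17_3 lc_f_rc_10_3 lc_f_rc_19_3 lc_f_rc_14_3 lc_f_rc_14_3 lc_f_rc_19_3 lc_f_rc_21_1 lc_f_rc_17_3 lc_f_rc_19_5) (@D3.rec (fun _ => (Cert rels S Gen.f)) lc_f_rc_17_3 lc_f_rc_14_1 lc_f_rc_14_3 lc_f_rc_17_3 lc_f_rc_19_5 lc_f_rc_14_1 lc_f_rc_17_3 lc_f_rc_20_1 lc_f_rc_17_3 lc_f_rc_14_3 lc_f_rc_19_1 lc_f_rc_17_1 lc_f_rc_5_1 lc_f_rc_17_3 lc_f_rc_20_1 lc_f_rc_21_1 lc_f_rc_17_3 lc_f_rc_20_1 lc_f_rc_17_3 lc_f_rc_20_1 lc_f_rc_22_1 lc_f_rc_17_3 lc_f_rc_17_1 lc_f_rc_19_5 lc_f_rc_5_1 lc_f_rc_14_3 lc_f_rc_14_1 lc_f_rc_22_1 lc_f_rc_14_3 lc_f_rc_17_1 lc_f_rc_17_1 lc_f_rc_10_3 lc_f_rc_19_3 lc_f_rc_17_3 lc_f_rc_20_1 lc_f_rc_17_3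 lc_f_rc_20_1 lc_f_rc_5_1 lc_f_rc_20_1 lc_f_rc_20_1 lc_f_rc_10_3 lc_f_rc_17_1 lc_f_rc_20_1 lc_f_rc_21_1 lc_f_rc_14_1 lc_f_rc_20_1 lc_f_rc_10_1 lc_f_rc_19_3 lc_f_rc_14_3 lc_f_rc_5_1 lc_f_rc_20_1 lc_f_rc_17_3 lc_f_rc_17_3 lc_f_rc_17_1 lc_f_rc_20_1 lc_f_rc_20_1 lc_f_rc_20_1 lc_f_rc_10_1 lc_f_rc_10_3 lc_f_rc_10_3 lc_f_rc_17_3 lc_f_rc_21_1) (@D3.rec (fun _ => (Cert rels S Gen.f)) lc_f_rc_10_3 lc_f_rc_10_3 lc_f_rc_20_1 lc_f_rc_20_1 lc_f_rc_5_3 lc_f_rc_14_1 lc_f_rc_14_3 lc_f_rc_17_3 lc_f_rc_14_3 lc_f_rc_17_1 lc_f_rc_10_1 lc_f_rc_20_1 lc_f_rc_17_1 lc_f_rc_17_1 lc_f_rc_14_3 lc_f_rc_21_1 lc_f_rc_19_5 lc_f_rc_10_3 lc_f_rc_19_5 lc_f_rc_10_3 lc_f_rc_14_3 lc_f_rc_14_3 lc_f_rc_10_1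 lc_f_rc_20_1 lc_f_rc_21_1 lc_f_rc_20_1 lc_f_rc_10_1 lc_f_rc_10_3 lc_f_rc_21_1 lc_f_rc_17_3 lc_f_rc_14_3 lc_f_rc_17_3 lc_f_rc_17_3 lc_f_rc_10_1 lc_f_rc_19_5 lc_f_rc_14_3 lc_f_rc_19_5 lc_f_rc_14_3 lc_f_rc_19_5 lc_f_rc_19_5 lc_f_rc_10_3 lc_f_rc_19_3 lc_f_rc_20_1 lc_f_rc_17_1 lc_f_rc_14_3 lc_f_rc_17_1 lc_f_rc_17_3 lc_f_rc_14_3 lc_f_rc_14_1 lc_f_rc_19_3 lc_f_rc_17_3 lc_f_rc_19_5 lc_f_rc_21_1 lc_f_rc_19_5 lc_f_rc_5_1 lc_f_rc_17_3 lc_f_rc_17_1 lc_f_rc_17_1 lc_f_rc_14_3 lc_f_rc_20_1 lc_f_rc_17_3 lc_f_rc_5_1) (@D3.rec (fun _ => (Cert rels S Gen.f)) lc_f_rc_22_1 lc_f_rc_20_1 lc_f_rc_10_1 lc_f_rc_10_3 lc_f_rc_17_3 lc_f_rc_21_1 lc_f_rc_14_3 lc_f_rc_10_1 lc_f_rc_5_3 lc_f_rc_20_1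 lc_f_rc_19_1 lc_f_rc_10_1 lc_f_rc_14_3 lc_f_rc_10_3 lc_f_rc_10_3 lc_f_rc_17_3 lc_f_rc_14_3 lc_f_rc_21_1 lc_f_rc_20_1 lc_f_rc_19_3 lc_f_rc_5_1 lc_f_rc_19_3 lc_f_rc_17_1 lc_f_rc_20_1 lc_f_rc_21_1 lc_f_rc_20_1 lc_f_rc_14_1 lc_f_rc_19_1 lc_f_rc_10_3 lc_f_rc_17_3 lc_f_rc_14_1 lc_f_rc_21_1 lc_f_rc_14_1 lc_f_rc_14_1 lc_f_rc_17_3 lc_f_rc_20_1 lc_f_rc_20_1 lc_f_Cert_tree lc_f_rc_14_3 lc_f_rc_20_1 lc_f_rc_17_1 lc_f_rc_5_3 lc_f_rc_20_1 lc_f_rc_19_3 lc_f_rc_5_3 lc_f_rc_17_1 lc_f_rc_10_3 lc_f_rc_10_3 lc_f_rc_10_3 lc_f_rc_20_1 lc_f_rc_17_1 lc_f_rc_14_1 lc_f_rc_5_3 lc_f_rc_10_3 lc_f_rc_17_1 lc_f_rc_17_3 lc_f_rc_14_3 lc_f_rc_5_3 lc_f_rc_17_3 lc_f_rc_5_1 lc_f_rc_17_3 lc_f_rc_21_1)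 (@D3.rec (fun _ => (Cert rels S Gen.f)) lc_f_rc_20_1 lc_f_rc_17_3 lc_f_rc_21_1 lc_f_rc_10_1 lc_f_rc_17_3 lc_f_Cert_tree lc_f_rc_20_1 lc_f_rc_14_1 lc_f_rc_19_3 lc_f_rc_5_1 lc_f_rc_17_3 lc_f_rc_5_3 lc_f_rc_10_3 lc_f_rc_19_5 lc_f_rc_14_3 lc_f_rc_22_1 lc_f_rc_14_3 lc_f_rc_17_3 lc_f_rc_5_3 lc_f_rc_20_1 lc_f_rc_20_1 lc_f_rc_17_1 lc_f_rc_21_1 lc_f_rc_5_1 lc_f_rc_19_3 lc_f_rc_10_3 lc_f_rc_17_1 lc_f_rc_17_3 lc_f_rc_17_3 lc_f_rc_10_1 lc_f_rc_21_1 lc_f_rc_21_1 lc_f_rc_20_1 lc_f_rc_21_1 lc_f_rc_17_1 lc_f_rc_20_1 lc_f_rc_19_3 lc_f_rc_21_1 lc_f_rc_17_1 lc_f_rc_17_3 lc_f_rc_10_3 lc_f_rc_21_1 lc_f_rc_19_5 lc_f_rc_5_1 lc_f_rc_21_1 lc_f_rc_20_1 lc_f_rc_10_3 lc_f_rc_20_1 lc_f_rc_10_3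 lc_f_rc_5_1 lc_f_rc_17_1 lc_f_rc_17_1 lc_f_rc_20_1 lc_f_rc_14_1 lc_f_rc_22_1 lc_f_rc_21_1 lc_f_rc_20_1 lc_f_rc_5_1 lc_f_rc_20_1 lc_f_rc_17_1 lc_f_rc_14_3 lc_f_rc_14_3) (@D3.rec (fun _ => (Cert rels S Gen.f)) lc_f_rc_19_3 lc_f_rc_21_1 lc_f_rc_14_3 lc_f_rc_20_1 lc_f_rc_17_3 lc_f_rc_14_3 lc_f_rc_17_3 lc_f_rc_14_1 lc_f_rc_20_1 lc_f_rc_5_1 lc_f_rc_14_3 lc_f_rc_17_3 lc_f_rc_22_1 lc_f_rc_17_3 lc_f_rc_21_1 lc_f_rc_14_3 lc_f_rc_5_1 lc_f_rc_14_1 lc_f_rc_20_1 lc_f_rc_17_1 lc_f_rc_14_1 lc_f_rc_5_3 lc_f_rc_17_3 lc_f_rc_17_3 lc_f_rc_21_1 lc_f_rc_17_1 lc_f_rc_17_3 lc_f_rc_21_1 lc_f_rc_5_1 lc_f_rc_17_3 lc_f_rc_17_3 lc_f_rc_10_3 lc_f_rc_21_1 lc_f_rc_17_3 lc_f_rc_10_1 lc_f_rc_17_3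 lc_f_rc_10_1 lc_f_rc_14_3 lc_f_rc_20_1 lc_f_rc_10_3 lc_f_rc_19_5 lc_f_rc_20_1 lc_f_rc_20_1 lc_f_rc_10_3 lc_f_rc_14_1 lc_f_rc_19_3 lc_f_rc_10_3 lc_f_rc_17_3 lc_f_rc_10_3 lc_f_rc_17_3 lc_f_rc_10_3 lc_f_rc_20_1 lc_f_rc_20_1 lc_f_rc_14_3 lc_f_rc_10_3 lc_f_rc_17_3 lc_f_rc_10_3 lc_f_rc_17_3 lc_f_rc_17_3 lc_f_rc_10_3 lc_f_rc_14_3 lc_f_rc_5_3) (@D3.rec (fun _ => (Cert rels S Gen.f)) lc_f_rc_20_1 lc_f_rc_5_3 lc_f_rc_17_1 lc_f_rc_20_1 lc_f_rc_14_3 lc_f_rc_21_1 lc_f_rc_10_1 lc_f_rc_19_3 lc_f_rc_14_1 lc_f_Cert_tree lc_f_rc_5_3 lc_f_rc_10_3 lc_f_rc_17_3 lc_f_rc_5_1 lc_f_rc_20_1 lc_f_rc_20_1 lc_f_rc_17_3 lc_f_rc_10_3 lc_f_rc_14_3 lc_f_Cert_tree lc_f_rc_17_3 lc_f_rc_17_1 lc_f_rc_20_1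 lc_f_rc_5_3 lc_f_rc_10_3 lc_f_rc_19_3 lc_f_rc_19_3 lc_f_rc_10_3 lc_f_rc_19_3 lc_f_rc_10_3 lc_f_rc_21_1 lc_f_rc_20_1 lc_f_rc_20_1 lc_f_rc_19_3 lc_f_rc_10_3 lc_f_rc_21_1 lc_f_rc_21_1 lc_f_rc_17_3 lc_f_rc_22_1 lc_f_rc_10_3 lc_f_rc_10_3 lc_f_rc_17_1 lc_f_rc_17_3 lc_f_rc_5_3 lc_f_rc_20_1 lc_f_rc_19_5 lc_f_rc_22_1 lc_f_rc_17_3 lc_f_rc_21_1 lc_f_rc_14_1 lc_f_rc_19_3 lc_f_rc_17_3 lc_f_rc_14_3 lc_f_Cert_tree lc_f_rc_10_3 lc_f_rc_5_1 lc_f_rc_14_1 lc_f_rc_21_1 lc_f_rc_10_3 lc_f_rc_17_3 lc_f_rc_22_1 lc_f_rc_17_3) (@D3.rec (fun _ => (Cert rels S Gen.f)) lc_f_rc_14_3 lc_f_rc_10_3 lc_f_rc_21_1 lc_f_rc_14_3 lc_f_rc_20_1 lc_f_rc_19_3 lc_f_rc_19_3 lc_f_rc_22_1 lc_f_rc_21_1 lc_f_rc_20_1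 lc_f_rc_14_1 lc_f_rc_14_3 lc_f_rc_10_3 lc_f_rc_19_1 lc_f_rc_10_3 lc_f_rc_10_3 lc_f_Cert_tree lc_f_rc_20_1 lc_f_rc_17_1 lc_f_rc_10_3 lc_f_rc_17_1 lc_f_rc_17_1 lc_f_rc_10_1 lc_f_rc_20_1 lc_f_rc_5_3 lc_f_rc_10_3 lc_f_rc_20_1 lc_f_rc_10_1 lc_f_rc_22_1 lc_f_rc_10_3 lc_f_rc_19_3 lc_f_rc_22_1 lc_f_rc_5_3 lc_f_rc_17_3 lc_f_rc_20_1 lc_f_rc_19_1 lc_f_rc_14_3 lc_f_rc_22_1 lc_f_rc_21_1 lc_f_rc_14_3 lc_f_rc_19_5 lc_f_rc_20_1 lc_f_rc_17_1 lc_f_rc_10_1 lc_f_rc_10_3 lc_f_rc_10_3 lc_f_rc_5_3 lc_f_rc_20_1 lc_f_rc_10_3 lc_f_rc_10_3 lc_f_rc_17_3 lc_f_rc_17_3 lc_f_rc_19_5 lc_f_rc_20_1 lc_f_rc_14_3 lc_f_rc_10_3 lc_f_rc_20_1 lc_f_rc_14_3 lc_f_rc_20_1 lc_f_rc_19_1 lc_f_rc_21_1 lc_f_rc_10_1)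 (@D3.rec (fun _ => (Cert rels S Gen.f)) lc_f_rc_20_1 lc_f_rc_14_3 lc_f_rc_17_3 lc_f_rc_14_1 lc_f_rc_22_1 lc_f_rc_17_1 lc_f_rc_14_3 lc_f_Cert_tree lc_f_rc_19_1 lc_f_rc_14_1 lc_f_rc_14_3 lc_f_rc_10_3 lc_f_rc_22_1 lc_f_rc_22_1 lc_f_rc_5_1 lc_f_rc_10_3 lc_f_rc_14_1 lc_f_rc_19_3 lc_f_rc_5_1 lc_f_rc_5_3 lc_f_rc_14_3 lc_f_rc_19_3 lc_f_rc_20_1 lc_f_rc_10_3 lc_f_rc_14_1 lc_f_rc_10_3 lc_f_rc_17_3 lc_f_rc_20_1 lc_f_rc_5_1 lc_f_rc_10_3 lc_f_rc_17_3 lc_f_rc_19_3 lc_f_rc_10_1 lc_f_rc_14_1 lc_f_rc_14_1 lc_f_rc_17_3 lc_f_rc_14_3 lc_f_rc_20_1 lc_f_rc_20_1 lc_f_rc_5_1 lc_f_rc_10_3 lc_f_rc_17_1 lc_f_rc_10_3 lc_f_rc_21_1 lc_f_rc_20_1 lc_f_rc_20_1 lc_f_rc_10_3 lc_f_rc_19_3 lc_f_rc_14_3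 lc_f_rc_10_3 lc_f_rc_17_3 lc_f_rc_17_3 lc_f_rc_20_1 lc_f_rc_17_3 lc_f_rc_10_1 lc_f_rc_17_3 lc_f_rc_19_3 lc_f_rc_14_3 lc_f_rc_21_1 lc_f_rc_22_1 lc_f_rc_20_1 lc_f_rc_5_3) (@D3.rec (fun _ => (Cert rels S Gen.f)) lc_f_rc_10_3 lc_f_rc_5_1 lc_f_rc_10_3 lc_f_rc_20_1 lc_f_rc_19_3 lc_f_rc_20_1 lc_f_rc_17_3 lc_f_rc_14_1 lc_f_rc_5_3 lc_f_rc_14_3 lc_f_rc_20_1 lc_f_rc_17_3 lc_f_rc_10_3 lc_f_rc_5_3 lc_f_rc_17_3 lc_f_rc_14_3 lc_f_rc_14_3 lc_f_rc_5_3 lc_f_rc_20_1 lc_f_rc_14_3 lc_f_rc_17_1 lc_f_rc_19_3 lc_f_rc_5_1 lc_f_rc_17_3 lc_f_rc_17_3 lc_f_rc_17_3 lc_f_rc_10_3 lc_f_rc_10_3 lc_f_rc_19_5 lc_f_rc_10_3 lc_f_rc_17_3 lc_f_rc_14_3 lc_f_rc_17_3 lc_f_rc_5_1 lc_f_rc_10_3 lc_f_rc_14_1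 lc_f_rc_10_3 lc_f_rc_14_1 lc_f_rc_10_3 lc_f_rc_19_5 lc_f_rc_17_3 lc_f_rc_14_1 lc_f_rc_19_3 lc_f_rc_19_3 lc_f_rc_5_1 lc_f_rc_17_3 lc_f_rc_21_1 lc_f_rc_19_3 lc_f_rc_10_1 lc_f_rc_20_1 lc_f_rc_19_3 lc_f_rc_20_1 lc_f_rc_20_1 lc_f_rc_14_3 lc_f_rc_17_3 lc_f_rc_20_1 lc_f_rc_20_1 lc_f_rc_20_1 lc_f_rc_20_1 lc_f_rc_19_3 lc_f_rc_20_1 lc_f_rc_14_1) (@D3.rec (fun _ => (Cert rels S Gen.f)) lc_f_rc_5_1 lc_f_rc_19_5 lc_f_rc_5_3 lc_f_Cert_tree lc_f_rc_20_1 lc_f_rc_14_1 lc_f_rc_5_3 lc_f_rc_5_3 lc_f_rc_17_1 lc_f_rc_20_1 lc_f_rc_17_1 lc_f_rc_10_3 lc_f_rc_10_3 lc_f_rc_17_3 lc_f_rc_10_3 lc_f_rc_5_1 lc_f_rc_5_3 lc_f_rc_14_1 lc_f_rc_14_3 lc_f_rc_14_3 lc_f_rc_10_3 lc_f_rc_14_3 lc_f_rc_14_3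 lc_f_rc_10_3 lc_f_rc_20_1 lc_f_rc_21_1 lc_f_rc_20_1 lc_f_rc_10_3 lc_f_rc_5_3 lc_f_rc_20_1 lc_f_rc_10_1 lc_f_rc_20_1 lc_f_rc_5_3 lc_f_rc_14_3 lc_f_rc_14_3 lc_f_rc_17_3 lc_f_rc_14_3 lc_f_rc_19_3 lc_f_rc_10_3 lc_f_rc_10_3 lc_f_rc_14_3 lc_f_rc_17_3 lc_f_rc_14_3 lc_f_rc_19_1 lc_f_rc_17_3 lc_f_rc_10_3 lc_f_rc_17_1 lc_f_rc_20_1 lc_f_rc_21_1 lc_f_rc_19_5 lc_f_rc_10_3 lc_f_rc_14_3 lc_f_rc_10_3 lc_f_rc_10_3 lc_f_rc_5_3 lc_f_rc_5_1 lc_f_rc_22_1 lc_f_rc_17_3 lc_f_rc_17_3 lc_f_rc_17_3 lc_f_rc_21_1 lc_f_rc_17_3) (@D3.rec (fun _ => (Cert rels S Gen.f)) lc_f_rc_10_3 lc_f_rc_14_3 lc_f_rc_10_3 lc_f_rc_5_3 lc_f_rc_5_3 lc_f_rc_19_3 lc_f_rc_5_3 lc_f_rc_5_1 lc_f_rc_5_1 lc_f_rc_19_5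 lc_f_rc_14_3 lc_f_rc_17_1 lc_f_rc_14_1 lc_f_rc_10_3 lc_f_rc_17_1 lc_f_rc_20_1 lc_f_rc_17_3 lc_f_rc_17_3 lc_f_rc_10_3 lc_f_rc_17_3 lc_f_rc_17_1 lc_f_rc_10_3 lc_f_rc_14_3 lc_f_rc_17_3 lc_f_rc_10_1 lc_f_rc_5_3 lc_f_Cert_tree lc_f_rc_20_1 lc_f_rc_20_1 lc_f_rc_20_1 lc_f_rc_14_1 lc_f_rc_17_3 lc_f_rc_10_3 lc_f_rc_20_1 lc_f_rc_19_3 lc_f_rc_10_3 lc_f_rc_14_1 lc_f_rc_14_3 lc_f_rc_10_3 lc_f_rc_14_3 lc_f_rc_10_3 lc_f_rc_5_3 lc_f_rc_22_1 lc_f_rc_14_3 lc_f_rc_14_3 lc_f_rc_17_1 lc_f_rc_14_3 lc_f_rc_20_1 lc_f_rc_19_3 lc_f_rc_20_1 lc_f_rc_20_1 lc_f_rc_19_3 lc_f_rc_10_3 lc_f_rc_14_3 lc_f_rc_21_1 lc_f_rc_5_1 lc_f_rc_10_3 lc_f_rc_5_1 lc_f_rc_14_3 lc_f_rc_20_1 lc_f_rc_14_1 lc_f_rc_20_1)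 (@D3.rec (fun _ => (Cert rels S Gen.f)) lc_f_rc_10_3 lc_f_rc_17_3 lc_f_rc_10_3 lc_f_rc_17_3 lc_f_rc_17_3 lc_f_rc_21_1 lc_f_rc_20_1 lc_f_rc_21_1 lc_f_rc_14_3 lc_f_rc_10_3 lc_f_rc_5_1 lc_f_rc_10_1 lc_f_rc_10_1 lc_f_rc_17_1 lc_f_rc_14_3 lc_f_rc_5_1 lc_f_rc_10_3 lc_f_rc_20_1 lc_f_rc_14_3 lc_f_rc_21_1 lc_f_rc_20_1 lc_f_rc_21_1 lc_f_rc_20_1 lc_f_rc_20_1 lc_f_rc_5_1 lc_f_rc_20_1 lc_f_rc_17_3 lc_f_rc_5_3 lc_f_rc_20_1 lc_f_rc_14_3 lc_f_rc_21_1 lc_f_rc_10_3 lc_f_rc_22_1 lc_f_rc_19_1 lc_f_rc_17_1 lc_f_rc_20_1 lc_f_rc_17_3 lc_f_rc_14_3 lc_f_rc_21_1 lc_f_rc_14_1 lc_f_rc_10_1 lc_f_rc_19_3 lc_f_rc_20_1 lc_f_rc_5_3 lc_f_rc_10_3 lc_f_rc_21_1 lc_f_rc_17_3 lc_f_rc_19_5 lc_f_rc_14_3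 lc_f_rc_10_3 lc_f_rc_20_1 lc_f_rc_5_3 lc_f_rc_10_1 lc_f_rc_21_1 lc_f_rc_10_1 lc_f_rc_14_1 lc_f_rc_17_3 lc_f_rc_22_1 lc_f_rc_14_3 lc_f_rc_14_3 lc_f_rc_10_1 lc_f_rc_14_3) (@D3.rec (fun _ => (Cert rels S Gen.f)) lc_f_rc_10_3 lc_f_rc_10_1 lc_f_rc_20_1 lc_f_rc_20_1 lc_f_rc_5_3 lc_f_rc_10_3 lc_f_rc_14_3 lc_f_rc_20_1 lc_f_rc_10_3 lc_f_rc_19_3 lc_f_rc_10_3 lc_f_rc_14_3 lc_f_rc_10_3 lc_f_rc_10_3 lc_f_rc_10_3 lc_f_rc_17_1 lc_f_rc_19_3 lc_f_rc_21_1 lc_f_rc_10_3 lc_f_rc_10_3 lc_f_rc_21_1 lc_f_rc_17_3 lc_f_rc_5_1 lc_f_rc_10_3 lc_f_rc_17_3 lc_f_rc_19_3 lc_f_rc_17_3 lc_f_rc_5_1 lc_f_rc_17_1 lc_f_rc_19_3 lc_f_rc_14_1 lc_f_Cert_tree lc_f_rc_14_3 lc_f_rc_17_3 lc_f_rc_5_1 lc_f_rc_19_5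 lc_f_rc_20_1 lc_f_rc_20_1 lc_f_rc_21_1 lc_f_rc_14_3 lc_f_rc_19_3 lc_f_rc_19_5 lc_f_rc_14_3 lc_f_rc_10_3 lc_f_rc_22_1 lc_f_rc_10_1 lc_f_rc_19_5 lc_f_rc_21_1 lc_f_rc_22_1 lc_f_rc_17_1 lc_f_rc_14_1 lc_f_rc_10_1 lc_f_rc_21_1 lc_f_rc_21_1 lc_f_rc_22_1 lc_f_rc_21_1 lc_f_rc_14_3 lc_f_rc_10_3 lc_f_rc_20_1 lc_f_rc_10_1 lc_f_rc_19_3 lc_f_rc_17_1) (@D3.rec (fun _ => (Cert rels S Gen.f)) lc_f_rc_20_1 lc_f_rc_10_3 lc_f_rc_10_3 lc_f_rc_19_5 lc_f_rc_17_3 lc_f_rc_10_3 lc_f_rc_17_1 lc_f_rc_10_3 lc_f_rc_22_1 lc_f_rc_22_1 lc_f_rc_21_1 lc_f_rc_19_5 lc_f_rc_14_1 lc_f_rc_5_3 lc_f_rc_14_3 lc_f_Cert_tree lc_f_rc_21_1 lc_f_rc_20_1 lc_f_rc_20_1 lc_f_rc_20_1 lc_f_rc_19_5 lc_f_rc_14_3 lc_f_rc_10_3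 lc_f_rc_17_3 lc_f_rc_10_3 lc_f_rc_20_1 lc_f_rc_5_1 lc_f_rc_10_1 lc_f_rc_19_1 lc_f_rc_10_1 lc_f_rc_10_1 lc_f_rc_14_3 lc_f_rc_20_1 lc_f_rc_10_3 lc_f_rc_14_1 lc_f_rc_5_1 lc_f_rc_17_3 lc_f_rc_20_1 lc_f_rc_10_1 lc_f_rc_10_3 lc_f_rc_20_1 lc_f_rc_5_3 lc_f_rc_14_1 lc_f_rc_20_1 lc_f_rc_20_1 lc_f_rc_14_3 lc_f_rc_14_3 lc_f_rc_10_3 lc_f_rc_10_3 lc_f_rc_14_3 lc_f_rc_21_1 lc_f_rc_5_1 lc_f_rc_21_1 lc_f_rc_10_1 lc_f_rc_5_3 lc_f_rc_14_3 lc_f_rc_17_1 lc_f_rc_5_1 lc_f_rc_19_5 lc_f_rc_10_3 lc_f_rc_10_3 lc_f_rc_19_3) (@D3.rec (fun _ => (Cert rels S Gen.f)) lc_f_Cert_tree lc_f_rc_17_3 lc_f_rc_5_1 lc_f_rc_10_3 lc_f_rc_20_1 lc_f_rc_14_3 lc_f_rc_21_1 lc_f_rc_5_1 lc_f_rc_17_1 lc_f_rc_19_3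 lc_f_Cert_tree lc_f_rc_17_3 lc_f_rc_14_1 lc_f_rc_5_1 lc_f_rc_19_5 lc_f_rc_14_3 lc_f_rc_19_5 lc_f_rc_17_1 lc_f_rc_14_1 lc_f_rc_20_1 lc_f_rc_17_1 lc_f_rc_19_3 lc_f_rc_17_1 lc_f_rc_21_1 lc_f_rc_5_3 lc_f_rc_10_1 lc_f_rc_19_5 lc_f_rc_21_1 lc_f_rc_5_3 lc_f_rc_5_3 lc_f_rc_21_1 lc_f_rc_21_1 lc_f_rc_14_3 lc_f_rc_17_3 lc_f_rc_19_5 lc_f_rc_20_1 lc_f_rc_20_1 lc_f_rc_10_3 lc_f_rc_21_1 lc_f_rc_10_1 lc_f_rc_14_1 lc_f_rc_10_1 lc_f_rc_10_3 lc_f_rc_19_3 lc_f_rc_14_1 lc_f_rc_19_3 lc_f_rc_21_1 lc_f_rc_5_3 lc_f_Cert_tree lc_f_rc_14_1 lc_f_rc_14_1 lc_f_Cert_tree lc_f_rc_20_1 lc_f_rc_5_1 lc_f_rc_19_3 lc_f_rc_19_1 lc_f_rc_20_1 lc_f_rc_14_1 lc_f_rc_10_3 lc_f_rc_14_3 lc_f_rc_20_1 lc_f_rc_19_1)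 (@D3.rec (fun _ => (Cert rels S Gen.f)) lc_f_rc_17_3 lc_f_rc_19_3 lc_f_rc_22_1 lc_f_rc_10_3 lc_f_rc_14_3 lc_f_Cert_tree lc_f_rc_20_1 lc_f_rc_17_1 lc_f_rc_14_1 lc_f_rc_17_3 lc_f_rc_17_3 lc_f_rc_14_3 lc_f_rc_14_3 lc_f_rc_14_3 lc_f_rc_5_3 lc_f_rc_21_1 lc_f_rc_21_1 lc_f_rc_20_1 lc_f_rc_14_1 lc_f_rc_19_5 lc_f_rc_17_1 lc_f_rc_19_5 lc_f_rc_22_1 lc_f_rc_17_3 lc_f_rc_21_1 lc_f_rc_19_5 lc_f_rc_10_3 lc_f_rc_14_1 lc_f_rc_14_3 lc_f_rc_5_3 lc_f_rc_14_3 lc_f_rc_14_3 lc_f_rc_22_1 lc_f_rc_14_3 lc_f_rc_14_3 lc_f_rc_5_1 lc_f_rc_14_3 lc_f_rc_17_3 lc_f_rc_19_5 lc_f_rc_19_5 lc_f_rc_17_3 lc_f_rc_10_1 lc_f_rc_22_1 lc_f_rc_17_3 lc_f_rc_10_3 lc_f_rc_14_3 lc_f_rc_21_1 lc_f_rc_5_3 lc_f_rc_21_1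 lc_f_rc_17_3 lc_f_rc_17_3 lc_f_rc_14_3 lc_f_rc_17_3 lc_f_rc_17_3 lc_f_rc_14_3 lc_f_rc_19_5 lc_f_rc_19_5 lc_f_rc_22_1 lc_f_rc_17_3 lc_f_rc_17_3 lc_f_rc_10_3 lc_f_rc_5_1)
def ce_f_26 : D2 → D3 → (Cert rels S Gen.f) := @D2.rec (fun _ => D3 → (Cert rels S Gen.f)) (@D3.rec (fun _ => (Cert rels S Gen.f)) lc_f_rc_17_3 lc_f_rc_10_3 lc_f_rc_14_3 lc_f_rc_10_3 lc_f_rc_10_3 lc_f_rc_14_3 lc_f_rc_10_3 lc_f_rc_10_3 lc_f_rc_20_1 lc_f_rc_19_1 lc_f_rc_17_3 lc_f_rc_17_3 lc_f_rc_17_3 lc_f_rc_14_3 lc_f_rc_17_3 lc_f_rc_17_3 lc_f_rc_19_5 lc_f_rc_21_1 lc_f_rc_10_3 lc_f_rc_17_3 lc_f_rc_5_3 lc_f_rc_17_1 lc_f_rc_14_3 lc_f_rc_19_5 lc_f_rc_14_3 lc_f_rc_21_1 lc_f_rc_22_1 lc_f_rc_5_3 lc_f_rc_14_3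 lc_f_rc_10_1 lc_f_rc_5_3 lc_f_rc_10_3 lc_f_rc_20_1 lc_f_rc_21_1 lc_f_rc_19_3 lc_f_rc_5_1 lc_f_rc_19_3 lc_f_rc_10_3 lc_f_rc_14_3 lc_f_rc_20_1 lc_f_rc_21_1 lc_f_rc_14_3 lc_f_rc_21_1 lc_f_rc_5_3 lc_f_rc_20_1 lc_f_rc_20_1 lc_f_rc_21_1 lc_f_rc_10_3 lc_f_rc_5_3 lc_f_rc_17_1 lc_f_rc_21_1 lc_f_rc_14_3 lc_f_rc_10_3 lc_f_rc_10_3 lc_f_rc_21_1 lc_f_rc_20_1 lc_f_rc_21_1 lc_f_rc_5_3 lc_f_rc_5_3 lc_f_rc_20_1 lc_f_rc_21_1 lc_f_rc_20_1) (@D3.rec (fun _ => (Cert rels S Gen.f)) lc_f_rc_10_3 lc_f_rc_19_5 lc_f_rc_14_3 lc_f_rc_10_3 lc_f_rc_10_3 lc_f_rc_14_3 lc_f_rc_14_3 lc_f_rc_19_1 lc_f_rc_5_1 lc_f_rc_21_1 lc_f_rc_21_1 lc_f_rc_19_1 lc_f_rc_17_3 lc_f_rc_14_3 lc_f_rc_21_1 lc_f_rc_10_3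 lc_f_rc_17_1 lc_f_rc_21_1 lc_f_rc_17_1 lc_f_rc_17_1 lc_f_rc_19_3 lc_f_rc_21_1 lc_f_rc_5_1 lc_f_rc_5_3 lc_f_rc_14_1 lc_f_rc_17_3 lc_f_rc_14_1 lc_f_rc_17_1 lc_f_rc_21_1 lc_f_Cert_tree lc_f_rc_20_1 lc_f_rc_20_1 lc_f_rc_20_1 lc_f_rc_21_1 lc_f_rc_17_1 lc_f_rc_20_1 lc_f_rc_17_3 lc_f_rc_20_1 lc_f_rc_20_1 lc_f_rc_21_1 lc_f_rc_20_1 lc_f_rc_17_1 lc_f_rc_19_3 lc_f_rc_5_3 lc_f_rc_5_3 lc_f_rc_21_1 lc_f_rc_10_3 lc_f_rc_17_1 lc_f_rc_17_3 lc_f_rc_14_3 lc_f_rc_10_3 lc_f_rc_14_3 lc_f_rc_17_1 lc_f_rc_20_1 lc_f_rc_14_3 lc_f_rc_14_1 lc_f_rc_19_3 lc_f_rc_14_3 lc_f_rc_20_1 lc_f_rc_14_3 lc_f_rc_5_3 lc_f_rc_14_3) (@D3.rec (fun _ => (Cert rels S Gen.f)) lc_f_rc_14_3 lc_f_rc_17_1 lc_f_rc_20_1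 lc_f_rc_19_5 lc_f_rc_10_3 lc_f_rc_21_1 lc_f_rc_20_1 lc_f_rc_17_3 lc_f_rc_17_3 lc_f_rc_19_3 lc_f_rc_14_1 lc_f_rc_10_3 lc_f_rc_17_3 lc_f_rc_21_1 lc_f_rc_5_3 lc_f_rc_20_1 lc_f_rc_20_1 lc_f_rc_14_1 lc_f_rc_17_3 lc_f_rc_10_1 lc_f_rc_10_1 lc_f_rc_20_1 lc_f_rc_17_3 lc_f_rc_10_3 lc_f_rc_21_1 lc_f_rc_19_5 lc_f_rc_10_3 lc_f_rc_19_5 lc_f_rc_20_1 lc_f_rc_10_1 lc_f_rc_22_1 lc_f_rc_14_3 lc_f_rc_5_1 lc_f_rc_21_1 lc_f_rc_17_3 lc_f_rc_21_1 lc_f_rc_20_1 lc_f_rc_14_3 lc_f_rc_5_1 lc_f_rc_14_3 lc_f_rc_17_1 lc_f_rc_14_1 lc_f_rc_17_3 lc_f_rc_14_3 lc_f_rc_19_3 lc_f_rc_14_3 lc_f_rc_20_1 lc_f_rc_14_3 lc_f_rc_10_3 lc_f_rc_21_1 lc_f_rc_21_1 lc_f_rc_19_5 lc_f_rc_17_1 lc_f_rc_10_3 lc_f_rc_17_1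 lc_f_rc_22_1 lc_f_rc_21_1 lc_f_rc_17_3 lc_f_rc_5_3 lc_f_rc_14_3 lc_f_rc_19_3 lc_f_rc_19_5) (@D3.rec (fun _ => (Cert rels S Gen.f)) lc_f_rc_5_3 lc_f_rc_5_3 lc_f_rc_17_3 lc_f_rc_10_3 lc_f_rc_20_1 lc_f_rc_17_3 lc_f_rc_14_3 lc_f_rc_19_3 lc_f_rc_10_3 lc_f_rc_19_3 lc_f_rc_17_3 lc_f_rc_14_3 lc_f_rc_20_1 lc_f_rc_21_1 lc_f_rc_14_3 lc_f_rc_17_1 lc_f_rc_10_3 lc_f_rc_10_1 lc_f_Cert_tree lc_f_rc_22_1 lc_f_rc_20_1 lc_f_rc_14_3 lc_f_rc_10_3 lc_f_rc_10_3 lc_f_rc_19_5 lc_f_rc_19_5 lc_f_Cert_tree lc_f_rc_20_1 lc_f_rc_21_1 lc_f_rc_5_1 lc_f_rc_10_3 lc_f_rc_21_1 lc_f_rc_21_1 lc_f_rc_17_1 lc_f_rc_5_1 lc_f_rc_22_1 lc_f_rc_20_1 lc_f_rc_21_1 lc_f_rc_17_3 lc_f_rc_17_1 lc_f_rc_5_3 lc_f_rc_17_3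 lc_f_rc_17_1 lc_f_rc_21_1 lc_f_rc_21_1 lc_f_rc_14_3 lc_f_rc_22_1 lc_f_rc_20_1 lc_f_rc_17_3 lc_f_rc_21_1 lc_f_rc_21_1 lc_f_rc_17_3 lc_f_rc_21_1 lc_f_rc_14_3 lc_f_rc_21_1 lc_f_rc_21_1 lc_f_rc_20_1 lc_f_rc_17_3 lc_f_rc_17_3 lc_f_rc_14_3 lc_f_rc_5_3 lc_f_rc_17_3) (@D3.rec (fun _ => (Cert rels S Gen.f)) lc_f_rc_21_1 lc_f_rc_17_3 lc_f_rc_17_1 lc_f_rc_19_5 lc_f_rc_14_3 lc_f_rc_17_1 lc_f_rc_14_3 lc_f_rc_10_3 lc_f_rc_14_3 lc_f_rc_5_3 lc_f_rc_5_1 lc_f_rc_14_3 lc_f_rc_14_1 lc_f_rc_10_3 lc_f_rc_14_3 lc_f_rc_5_1 lc_f_rc_5_3 lc_f_rc_10_1 lc_f_rc_10_3 lc_f_rc_14_3 lc_f_rc_17_3 lc_f_rc_17_3 lc_f_rc_14_3 lc_f_rc_17_3 lc_f_rc_10_1 lc_f_rc_21_1 lc_f_rc_10_3 lc_f_rc_17_3 lc_f_rc_19_5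 lc_f_rc_10_3 lc_f_rc_10_3 lc_f_rc_17_3 lc_f_rc_14_3 lc_f_rc_21_1 lc_f_rc_22_1 lc_f_rc_20_1 lc_f_rc_20_1 lc_f_rc_5_1 lc_f_rc_17_3 lc_f_rc_17_3 lc_f_rc_22_1 lc_f_rc_14_3 lc_f_rc_21_1 lc_f_rc_10_3 lc_f_rc_17_3 lc_f_Cert_tree lc_f_rc_20_1 lc_f_rc_20_1 lc_f_rc_20_1 lc_f_rc_14_1 lc_f_rc_19_3 lc_f_rc_5_1 lc_f_Cert_tree lc_f_rc_17_1 lc_f_rc_20_1 lc_f_rc_19_5 lc_f_rc_20_1 lc_f_rc_19_5 lc_f_rc_14_3 lc_f_rc_17_1 lc_f_rc_22_1 lc_f_rc_19_5) (@D3.rec (fun _ => (Cert rels S Gen.f)) lc_f_rc_17_3 lc_f_rc_19_5 lc_f_rc_19_1 lc_f_rc_5_1 lc_f_rc_20_1 lc_f_rc_17_3 lc_f_rc_19_3 lc_f_rc_17_3 lc_f_rc_10_1 lc_f_rc_17_1 lc_f_rc_20_1 lc_f_rc_14_3 lc_f_rc_14_3 lc_f_rc_20_1 lc_f_rc_14_1 lc_f_rc_20_1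 lc_f_rc_5_1 lc_f_rc_10_3 lc_f_rc_17_3 lc_f_rc_10_3 lc_f_rc_21_1 lc_f_rc_20_1 lc_f_rc_22_1 lc_f_rc_20_1 lc_f_rc_17_3 lc_f_rc_14_3 lc_f_rc_19_3 lc_f_rc_20_1 lc_f_rc_22_1 lc_f_rc_17_3 lc_f_rc_20_1 lc_f_rc_10_3 lc_f_rc_10_1 lc_f_rc_10_1 lc_f_rc_19_3 lc_f_rc_20_1 lc_f_rc_22_1 lc_f_rc_10_3 lc_f_rc_17_3 lc_f_rc_17_1 lc_f_rc_17_1 lc_f_rc_17_1 lc_f_rc_17_1 lc_f_rc_20_1 lc_f_rc_21_1 lc_f_rc_22_1 lc_f_rc_17_1 lc_f_rc_10_3 lc_f_rc_17_3 lc_f_rc_10_3 lc_f_rc_21_1 lc_f_rc_20_1 lc_f_rc_17_3 lc_f_rc_17_3 lc_f_rc_10_3 lc_f_rc_19_3 lc_f_rc_19_5 lc_f_rc_20_1 lc_f_rc_21_1 lc_f_rc_14_3 lc_f_rc_14_1 lc_f_rc_21_1) (@D3.rec (fun _ => (Cert rels S Gen.f)) lc_f_rc_20_1 lc_f_rc_22_1 lc_f_rc_10_3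 lc_f_rc_22_1 lc_f_rc_10_3 lc_f_rc_19_3 lc_f_rc_10_1 lc_f_rc_10_3 lc_f_rc_14_1 lc_f_rc_22_1 lc_f_rc_14_3 lc_f_rc_21_1 lc_f_rc_14_3 lc_f_rc_14_3 lc_f_rc_17_3 lc_f_rc_10_3 lc_f_rc_21_1 lc_f_rc_17_3 lc_f_rc_14_1 lc_f_Cert_tree lc_f_rc_10_1 lc_f_rc_21_1 lc_f_rc_20_1 lc_f_rc_10_3 lc_f_rc_17_3 lc_f_rc_20_1 lc_f_rc_17_3 lc_f_rc_20_1 lc_f_rc_14_3 lc_f_rc_10_1 lc_f_rc_19_5 lc_f_rc_20_1 lc_f_rc_14_3 lc_f_rc_21_1 lc_f_rc_10_3 lc_f_rc_5_1 lc_f_rc_14_3 lc_f_rc_20_1 lc_f_rc_20_1 lc_f_rc_14_1 lc_f_rc_10_3 lc_f_rc_17_3 lc_f_rc_14_3 lc_f_rc_10_3 lc_f_rc_17_3 lc_f_rc_17_3 lc_f_rc_10_3 lc_f_rc_14_3 lc_f_rc_17_3 lc_f_rc_19_3 lc_f_rc_10_1 lc_f_rc_10_1 lc_f_rc_10_1 lc_f_rc_17_1 lc_f_rc_14_1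 lc_f_rc_20_1 lc_f_rc_5_3 lc_f_rc_14_1 lc_f_rc_19_3 lc_f_rc_20_1 lc_f_rc_21_1 lc_f_rc_17_1) (@D3.rec (fun _ => (Cert rels S Gen.f)) lc_f_rc_20_1 lc_f_rc_5_1 lc_f_rc_19_5 lc_f_rc_19_5 lc_f_rc_20_1 lc_f_rc_19_1 lc_f_rc_10_3 lc_f_rc_5_1 lc_f_rc_21_1 lc_f_rc_20_1 lc_f_rc_5_3 lc_f_rc_14_3 lc_f_rc_10_1 lc_f_rc_10_3 lc_f_rc_19_5 lc_f_rc_19_3 lc_f_rc_17_3 lc_f_rc_5_1 lc_f_rc_17_3 lc_f_rc_20_1 lc_f_rc_5_3 lc_f_rc_19_3 lc_f_rc_10_3 lc_f_rc_17_3 lc_f_Cert_tree lc_f_rc_10_1 lc_f_Cert_tree lc_f_rc_20_1 lc_f_rc_10_3 lc_f_rc_21_1 lc_f_rc_19_5 lc_f_rc_5_1 lc_f_rc_20_1 lc_f_rc_20_1 lc_f_rc_14_1 lc_f_rc_19_3 lc_f_rc_19_1 lc_f_rc_17_3 lc_f_rc_10_3 lc_f_rc_10_3 lc_f_rc_21_1 lc_f_rc_20_1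 lc_f_rc_5_3 lc_f_rc_19_5 lc_f_rc_19_3 lc_f_rc_14_1 lc_f_rc_19_3 lc_f_rc_21_1 lc_f_rc_20_1 lc_f_rc_19_1 lc_f_rc_14_3 lc_f_rc_20_1 lc_f_rc_22_1 lc_f_rc_19_3 lc_f_rc_22_1 lc_f_rc_5_1 lc_f_rc_10_3 lc_f_rc_19_5 lc_f_rc_17_1 lc_f_rc_17_3 lc_f_rc_20_1 lc_f_rc_14_3) (@D3.rec (fun _ => (Cert rels S Gen.f)) lc_f_rc_14_1 lc_f_rc_14_3 lc_f_rc_17_3 lc_f_rc_17_3 lc_f_rc_10_3 lc_f_rc_10_1 lc_f_rc_5_1 lc_f_rc_14_1 lc_f_rc_20_1 lc_f_rc_19_1 lc_f_rc_17_3 lc_f_rc_10_1 lc_f_rc_14_1 lc_f_rc_17_1 lc_f_rc_20_1 lc_f_rc_21_1 lc_f_rc_20_1 lc_f_rc_21_1 lc_f_Cert_tree lc_f_rc_20_1 lc_f_rc_17_3 lc_f_rc_10_3 lc_f_rc_10_3 lc_f_rc_17_3 lc_f_rc_19_3 lc_f_rc_10_3 lc_f_rc_21_1 lc_f_rc_10_3 lc_f_rc_14_3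 lc_f_rc_14_1 lc_f_rc_14_1 lc_f_rc_17_1 lc_f_rc_10_3 lc_f_rc_10_3 lc_f_rc_10_3 lc_f_rc_17_3 lc_f_rc_5_1 lc_f_rc_10_3 lc_f_rc_17_3 lc_f_rc_19_1 lc_f_rc_20_1 lc_f_rc_20_1 lc_f_rc_10_3 lc_f_rc_17_3 lc_f_rc_14_1 lc_f_rc_5_3 lc_f_rc_10_3 lc_f_rc_10_1 lc_f_rc_10_1 lc_f_rc_17_1 lc_f_rc_14_3 lc_f_rc_19_3 lc_f_rc_10_3 lc_f_rc_21_1 lc_f_rc_10_3 lc_f_rc_22_1 lc_f_rc_19_3 lc_f_rc_20_1 lc_f_rc_19_1 lc_f_rc_20_1 lc_f_rc_17_3 lc_f_rc_10_3) (@D3.rec (fun _ => (Cert rels S Gen.f)) lc_f_rc_20_1 lc_f_rc_14_3 lc_f_Cert_tree lc_f_rc_10_3 lc_f_rc_22_1 lc_f_rc_21_1 lc_f_rc_14_3 lc_f_rc_10_3 lc_f_rc_17_3 lc_f_rc_14_3 lc_f_rc_17_3 lc_f_rc_14_3 lc_f_rc_10_3 lc_f_rc_14_3 lc_f_rc_17_3 lc_f_rc_14_3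 lc_f_rc_10_1 lc_f_rc_10_3 lc_f_rc_21_1 lc_f_rc_17_1 lc_f_rc_19_3 lc_f_rc_20_1 lc_f_rc_19_5 lc_f_rc_14_1 lc_f_rc_19_3 lc_f_rc_20_1 lc_f_rc_22_1 lc_f_rc_5_1 lc_f_rc_20_1 lc_f_rc_14_1 lc_f_rc_14_3 lc_f_rc_17_1 lc_f_rc_17_3 lc_f_rc_17_3 lc_f_rc_17_3 lc_f_rc_21_1 lc_f_rc_21_1 lc_f_rc_20_1 lc_f_rc_17_3 lc_f_rc_5_3 lc_f_rc_21_1 lc_f_rc_10_3 lc_f_rc_19_3 lc_f_rc_17_3 lc_f_rc_21_1 lc_f_rc_14_3 lc_f_rc_19_3 lc_f_rc_19_3 lc_f_rc_21_1 lc_f_rc_20_1 lc_f_rc_17_3 lc_f_rc_17_3 lc_f_rc_10_1 lc_f_rc_17_3 lc_f_rc_19_3 lc_f_rc_17_3 lc_f_rc_22_1 lc_f_rc_19_3 lc_f_rc_17_1 lc_f_rc_14_1 lc_f_rc_5_3 lc_f_rc_14_1) (@D3.rec (fun _ => (Cert rels S Gen.f)) lc_f_rc_19_3 lc_f_rc_20_1 lc_f_rc_21_1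 lc_f_rc_21_1 lc_f_rc_20_1 lc_f_rc_17_1 lc_f_rc_5_3 lc_f_rc_19_3 lc_f_rc_20_1 lc_f_rc_21_1 lc_f_rc_10_3 lc_f_rc_10_3 lc_f_rc_14_3 lc_f_rc_10_1 lc_f_rc_5_1 lc_f_rc_20_1 lc_f_rc_19_5 lc_f_rc_20_1 lc_f_rc_21_1 lc_f_rc_14_3 lc_f_rc_14_3 lc_f_rc_10_3 lc_f_rc_20_1 lc_f_rc_14_1 lc_f_rc_14_3 lc_f_rc_17_1 lc_f_rc_10_3 lc_f_rc_17_1 lc_f_rc_14_3 lc_f_rc_10_3 lc_f_rc_10_3 lc_f_rc_14_1 lc_f_rc_20_1 lc_f_rc_19_5 lc_f_rc_14_1 lc_f_rc_17_1 lc_f_rc_17_3 lc_f_rc_20_1 lc_f_rc_5_1 lc_f_rc_5_1 lc_f_rc_14_3 lc_f_rc_14_1 lc_f_rc_5_3 lc_f_rc_14_3 lc_f_rc_20_1 lc_f_rc_10_3 lc_f_rc_19_3 lc_f_rc_10_3 lc_f_rc_21_1 lc_f_rc_17_1 lc_f_rc_17_3 lc_f_rc_20_1 lc_f_rc_17_3 lc_f_rc_19_5 lc_f_rc_10_3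 lc_f_rc_14_3 lc_f_rc_20_1 lc_f_rc_10_3 lc_f_rc_10_1 lc_f_rc_19_1 lc_f_rc_10_1 lc_f_rc_10_3) (@D3.rec (fun _ => (Cert rels S Gen.f)) lc_f_rc_21_1 lc_f_rc_19_5 lc_f_rc_20_1 lc_f_rc_5_1 lc_f_rc_17_3 lc_f_rc_19_5 lc_f_rc_14_3 lc_f_rc_17_1 lc_f_rc_14_1 lc_f_rc_17_1 lc_f_rc_19_5 lc_f_rc_17_1 lc_f_rc_14_1 lc_f_rc_17_3 lc_f_rc_5_3 lc_f_rc_14_3 lc_f_rc_22_1 lc_f_rc_14_1 lc_f_rc_10_3 lc_f_rc_21_1 lc_f_rc_19_5 lc_f_rc_17_1 lc_f_rc_5_3 lc_f_rc_14_3 lc_f_rc_5_1 lc_f_rc_10_3 lc_f_rc_21_1 lc_f_rc_19_5 lc_f_rc_10_1 lc_f_rc_21_1 lc_f_rc_14_1 lc_f_rc_20_1 lc_f_rc_10_3 lc_f_rc_22_1 lc_f_rc_5_3 lc_f_rc_19_3 lc_f_rc_10_3 lc_f_rc_10_3 lc_f_rc_17_1 lc_f_rc_17_3 lc_f_rc_17_3 lc_f_rc_5_3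 lc_f_rc_14_3 lc_f_Cert_tree lc_f_rc_20_1 lc_f_rc_14_3 lc_f_rc_20_1 lc_f_rc_22_1 lc_f_rc_14_3 lc_f_rc_14_3 lc_f_rc_14_3 lc_f_Cert_tree lc_f_rc_17_3 lc_f_rc_17_1 lc_f_rc_21_1 lc_f_rc_17_1 lc_f_rc_20_1 lc_f_rc_10_3 lc_f_rc_14_3 lc_f_rc_17_1 lc_f_Cert_tree lc_f_rc_10_3) (@D3.rec (fun _ => (Cert rels S Gen.f)) lc_f_rc_17_3 lc_f_rc_20_1 lc_f_rc_21_1 lc_f_rc_17_3 lc_f_rc_17_3 lc_f_rc_14_3 lc_f_rc_10_3 lc_f_rc_14_1 lc_f_rc_20_1 lc_f_rc_10_3 lc_f_rc_17_1 lc_f_Cert_tree lc_f_rc_10_3 lc_f_rc_14_3 lc_f_rc_14_3 lc_f_rc_14_3 lc_f_rc_5_3 lc_f_rc_17_3 lc_f_rc_19_3 lc_f_rc_20_1 lc_f_rc_19_1 lc_f_rc_14_3 lc_f_rc_17_1 lc_f_rc_10_3 lc_f_rc_19_3 lc_f_rc_21_1 lc_f_rc_20_1 lc_f_rc_14_3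 lc_f_rc_14_3 lc_f_rc_22_1 lc_f_rc_14_3 lc_f_rc_17_3 lc_f_rc_14_3 lc_f_rc_19_5 lc_f_rc_10_3 lc_f_rc_20_1 lc_f_rc_17_3 lc_f_rc_20_1 lc_f_rc_5_1 lc_f_Cert_tree lc_f_rc_20_1 lc_f_rc_14_3 lc_f_rc_10_3 lc_f_rc_14_1 lc_f_rc_14_1 lc_f_rc_5_3 lc_f_rc_20_1 lc_f_rc_19_5 lc_f_rc_5_1 lc_f_rc_10_3 lc_f_rc_20_1 lc_f_rc_10_1 lc_f_rc_19_1 lc_f_rc_19_3 lc_f_rc_10_3 lc_f_rc_10_3 lc_f_rc_14_3 lc_f_rc_17_3 lc_f_rc_20_1 lc_f_rc_21_1 lc_f_rc_21_1 lc_f_rc_14_3) (@D3.rec (fun _ => (Cert rels S Gen.f)) lc_f_rc_21_1 lc_f_rc_10_1 lc_f_rc_19_1 lc_f_rc_5_1 lc_f_rc_19_1 lc_f_rc_17_1 lc_f_rc_10_1 lc_f_rc_10_3 lc_f_rc_19_3 lc_f_rc_14_3 lc_f_rc_14_1 lc_f_rc_14_1 lc_f_rc_14_3 lc_f_rc_17_1 lc_f_rc_20_1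 lc_f_rc_20_1 lc_f_rc_10_3 lc_f_rc_14_3 lc_f_rc_17_1 lc_f_rc_10_3 lc_f_rc_22_1 lc_f_rc_10_3 lc_f_rc_10_1 lc_f_rc_21_1 lc_f_rc_20_1 lc_f_rc_5_3 lc_f_rc_14_1 lc_f_rc_20_1 lc_f_rc_22_1 lc_f_rc_10_1 lc_f_rc_17_3 lc_f_rc_19_3 lc_f_rc_5_1 lc_f_Cert_tree lc_f_rc_20_1 lc_f_rc_17_3 lc_f_rc_17_1 lc_f_rc_20_1 lc_f_rc_17_3 lc_f_rc_17_3 lc_f_rc_20_1 lc_f_rc_14_3 lc_f_rc_17_3 lc_f_rc_14_3 lc_f_rc_20_1 lc_f_rc_19_1 lc_f_rc_21_1 lc_f_rc_14_3 lc_f_rc_10_3 lc_f_rc_19_3 lc_f_rc_17_3 lc_f_rc_17_3 lc_f_Cert_tree lc_f_rc_20_1 lc_f_rc_10_3 lc_f_rc_17_3 lc_f_rc_21_1 lc_f_rc_14_3 lc_f_rc_21_1 lc_f_rc_21_1 lc_f_rc_14_3 lc_f_rc_17_1) (@D3.rec (fun _ => (Cert rels S Gen.f)) lc_f_rc_17_1 lc_f_rc_20_1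 lc_f_rc_10_3 lc_f_rc_14_3 lc_f_rc_10_3 lc_f_rc_14_3 lc_f_rc_19_3 lc_f_rc_10_3 lc_f_rc_21_1 lc_f_rc_17_3 lc_f_rc_20_1 lc_f_rc_10_3 lc_f_rc_21_1 lc_f_rc_19_1 lc_f_rc_10_3 lc_f_rc_17_3 lc_f_rc_14_1 lc_f_rc_21_1 lc_f_rc_17_1 lc_f_rc_10_3 lc_f_rc_5_3 lc_f_rc_10_1 lc_f_rc_19_3 lc_f_rc_5_3 lc_f_rc_14_3 lc_f_rc_14_1 lc_f_rc_20_1 lc_f_rc_19_3 lc_f_rc_17_3 lc_f_rc_17_3 lc_f_rc_14_3 lc_f_rc_10_3 lc_f_rc_19_5 lc_f_rc_10_1 lc_f_rc_17_1 lc_f_rc_20_1 lc_f_rc_20_1 lc_f_rc_14_1 lc_f_rc_10_3 lc_f_rc_10_1 lc_f_rc_17_3 lc_f_rc_14_1 lc_f_rc_14_3 lc_f_rc_21_1 lc_f_rc_14_1 lc_f_rc_10_3 lc_f_rc_14_3 lc_f_rc_19_3 lc_f_rc_14_3 lc_f_rc_20_1 lc_f_rc_19_3 lc_f_rc_10_3 lc_f_rc_5_3 lc_f_rc_14_1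 lc_f_rc_17_3 lc_f_rc_5_1 lc_f_rc_19_5 lc_f_rc_21_1 lc_f_rc_20_1 lc_f_rc_10_1 lc_f_rc_10_1 lc_f_rc_19_3) (@D3.rec (fun _ => (Cert rels S Gen.f)) lc_f_rc_5_1 lc_f_rc_10_1 lc_f_rc_10_3 lc_f_rc_22_1 lc_f_rc_17_3 lc_f_rc_19_3 lc_f_rc_17_3 lc_f_rc_10_3 lc_f_rc_20_1 lc_f_rc_17_3 lc_f_rc_17_3 lc_f_rc_19_1 lc_f_rc_14_3 lc_f_rc_17_3 lc_f_rc_17_1 lc_f_rc_14_1 lc_f_rc_10_1 lc_f_rc_17_1 lc_f_rc_17_3 lc_f_rc_14_3 lc_f_rc_14_3 lc_f_rc_17_1 lc_f_rc_14_3 lc_f_rc_20_1 lc_f_rc_21_1 lc_f_rc_5_1 lc_f_rc_14_3 lc_f_rc_5_3 lc_f_rc_10_3 lc_f_rc_17_3 lc_f_rc_14_3 lc_f_rc_5_3 lc_f_rc_17_1 lc_f_rc_21_1 lc_f_rc_14_3 lc_f_rc_17_1 lc_f_rc_17_3 lc_f_rc_17_3 lc_f_rc_10_3 lc_f_rc_10_3 lc_f_rc_21_1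 lc_f_rc_10_1 lc_f_rc_17_3 lc_f_rc_14_3 lc_f_rc_14_3 lc_f_rc_14_3 lc_f_rc_14_3 lc_f_rc_19_3 lc_f_rc_10_3 lc_f_rc_10_3 lc_f_rc_20_1 lc_f_rc_19_5 lc_f_rc_21_1 lc_f_rc_22_1 lc_f_rc_10_1 lc_f_rc_17_3 lc_f_Cert_tree lc_f_rc_20_1 lc_f_rc_20_1 lc_f_rc_14_3 lc_f_rc_14_3 lc_f_rc_20_1) (@D3.rec (fun _ => (Cert rels S Gen.f)) lc_f_rc_20_1 lc_f_rc_17_3 lc_f_rc_14_3 lc_f_rc_10_3 lc_f_rc_20_1 lc_f_rc_10_1 lc_f_rc_22_1 lc_f_rc_10_3 lc_f_rc_14_3 lc_f_rc_14_3 lc_f_rc_20_1 lc_f_rc_5_1 lc_f_rc_21_1 lc_f_rc_10_1 lc_f_rc_19_5 lc_f_rc_20_1 lc_f_rc_14_3 lc_f_rc_21_1 lc_f_rc_10_3 lc_f_rc_14_3 lc_f_rc_21_1 lc_f_rc_10_3 lc_f_rc_20_1 lc_f_Cert_tree lc_f_rc_20_1 lc_f_rc_21_1 lc_f_rc_5_1 lc_f_rc_14_1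 lc_f_rc_22_1 lc_f_rc_17_3 lc_f_rc_14_3 lc_f_rc_21_1 lc_f_rc_14_3 lc_f_rc_14_3 lc_f_rc_10_3 lc_f_rc_10_1 lc_f_rc_17_1 lc_f_rc_21_1 lc_f_rc_17_3 lc_f_rc_17_3 lc_f_rc_19_3 lc_f_rc_14_3 lc_f_rc_14_3 lc_f_rc_22_1 lc_f_rc_14_3 lc_f_rc_10_1 lc_f_rc_14_3 lc_f_rc_20_1 lc_f_rc_5_3 lc_f_rc_14_3 lc_f_rc_5_1 lc_f_rc_19_5 lc_f_rc_20_1 lc_f_rc_19_3 lc_f_rc_14_3 lc_f_rc_5_3 lc_f_rc_19_1 lc_f_rc_5_3 lc_f_rc_17_1 lc_f_rc_20_1 lc_f_rc_14_3 lc_f_rc_14_3) (@D3.rec (fun _ => (Cert rels S Gen.f)) lc_f_rc_5_3 lc_f_rc_10_3 lc_f_rc_5_1 lc_f_rc_21_1 lc_f_rc_20_1 lc_f_rc_10_3 lc_f_rc_5_1 lc_f_rc_20_1 lc_f_rc_14_3 lc_f_rc_19_5 lc_f_rc_21_1 lc_f_rc_17_3 lc_f_rc_10_3 lc_f_rc_17_3 lc_f_rc_20_1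 lc_f_rc_20_1 lc_f_rc_17_1 lc_f_rc_20_1 lc_f_rc_10_3 lc_f_rc_17_1 lc_f_rc_19_3 lc_f_rc_5_1 lc_f_rc_10_3 lc_f_rc_5_1 lc_f_rc_17_3 lc_f_rc_21_1 lc_f_rc_20_1 lc_f_rc_20_1 lc_f_rc_10_3 lc_f_rc_14_1 lc_f_rc_14_3 lc_f_rc_17_3 lc_f_rc_14_3 lc_f_rc_10_3 lc_f_rc_14_3 lc_f_rc_21_1 lc_f_rc_20_1 lc_f_rc_20_1 lc_f_rc_21_1 lc_f_rc_20_1 lc_f_rc_20_1 lc_f_rc_17_1 lc_f_rc_5_3 lc_f_rc_19_3 lc_f_rc_21_1 lc_f_rc_21_1 lc_f_rc_19_5 lc_f_rc_19_5 lc_f_rc_19_1 lc_f_rc_20_1 lc_f_rc_10_1 lc_f_rc_20_1 lc_f_rc_19_3 lc_f_rc_14_1 lc_f_rc_5_1 lc_f_rc_19_3 lc_f_Cert_tree lc_f_rc_20_1 lc_f_rc_14_3 lc_f_rc_19_1 lc_f_rc_5_1 lc_f_rc_5_3) (@D3.rec (fun _ => (Cert rels S Gen.f)) lc_f_rc_20_1 lc_f_rc_17_1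 lc_f_rc_21_1 lc_f_rc_19_1 lc_f_rc_14_3 lc_f_Cert_tree lc_f_rc_21_1 lc_f_rc_10_3 lc_f_rc_20_1 lc_f_rc_20_1 lc_f_rc_10_3 lc_f_rc_22_1 lc_f_rc_19_3 lc_f_rc_10_3 lc_f_rc_21_1 lc_f_rc_14_1 lc_f_rc_17_1 lc_f_rc_20_1 lc_f_rc_10_3 lc_f_rc_5_1 lc_f_rc_14_3 lc_f_rc_21_1 lc_f_rc_17_1 lc_f_rc_20_1 lc_f_rc_5_3 lc_f_rc_14_3 lc_f_rc_14_3 lc_f_rc_14_3 lc_f_rc_5_1 lc_f_rc_10_3 lc_f_rc_17_1 lc_f_rc_20_1 lc_f_rc_10_3 lc_f_rc_14_1 lc_f_rc_21_1 lc_f_rc_20_1 lc_f_rc_20_1 lc_f_rc_17_3 lc_f_rc_21_1 lc_f_rc_17_3 lc_f_rc_21_1 lc_f_rc_17_1 lc_f_rc_20_1 lc_f_rc_10_3 lc_f_rc_20_1 lc_f_rc_17_3 lc_f_rc_10_1 lc_f_rc_17_3 lc_f_rc_20_1 lc_f_rc_14_3 lc_f_rc_17_1 lc_f_rc_10_3 lc_f_rc_19_1 lc_f_rc_19_5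 lc_f_rc_10_1 lc_f_rc_20_1 lc_f_rc_17_1 lc_f_rc_21_1 lc_f_rc_14_1 lc_f_rc_21_1 lc_f_rc_20_1 lc_f_rc_20_1) (@D3.rec (fun _ => (Cert rels S Gen.f)) lc_f_rc_20_1 lc_f_rc_20_1 lc_f_rc_10_3 lc_f_rc_20_1 lc_f_rc_21_1 lc_f_rc_10_3 lc_f_rc_17_3 lc_f_rc_10_3 lc_f_rc_21_1 lc_f_rc_17_3 lc_f_rc_14_3 lc_f_rc_20_1 lc_f_rc_10_3 lc_f_rc_17_3 lc_f_rc_20_1 lc_f_rc_20_1 lc_f_rc_19_5 lc_f_rc_20_1 lc_f_rc_20_1 lc_f_rc_5_1 lc_f_rc_17_3 lc_f_rc_21_1 lc_f_rc_20_1 lc_f_rc_19_3 lc_f_rc_17_3 lc_f_rc_17_3 lc_f_rc_17_1 lc_f_rc_20_1 lc_f_rc_10_3 lc_f_rc_21_1 lc_f_rc_5_1 lc_f_rc_10_1 lc_f_rc_5_1 lc_f_rc_5_3 lc_f_rc_10_3 lc_f_rc_20_1 lc_f_rc_14_3 lc_f_rc_14_3 lc_f_rc_17_3 lc_f_rc_14_3 lc_f_rc_20_1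 lc_f_rc_19_3 lc_f_rc_17_3 lc_f_rc_19_1 lc_f_rc_20_1 lc_f_rc_5_3 lc_f_rc_17_3 lc_f_rc_20_1 lc_f_rc_21_1 lc_f_rc_10_3 lc_f_rc_22_1 lc_f_rc_17_3 lc_f_rc_17_3 lc_f_rc_14_3 lc_f_rc_21_1 lc_f_rc_17_3 lc_f_rc_17_3 lc_f_rc_19_1 lc_f_rc_17_3 lc_f_rc_20_1 lc_f_rc_10_1 lc_f_rc_22_1) (@D3.rec (fun _ => (Cert rels S Gen.f)) lc_f_rc_17_3 lc_f_rc_5_3 lc_f_rc_20_1 lc_f_rc_21_1 lc_f_rc_17_1 lc_f_rc_19_3 lc_f_rc_20_1 lc_f_rc_20_1 lc_f_rc_21_1 lc_f_rc_17_3 lc_f_rc_10_3 lc_f_rc_17_3 lc_f_rc_10_1 lc_f_rc_17_3 lc_f_rc_5_1 lc_f_rc_17_1 lc_f_rc_10_3 lc_f_rc_17_3 lc_f_rc_10_3 lc_f_rc_14_3 lc_f_rc_14_1 lc_f_rc_17_1 lc_f_rc_14_3 lc_f_rc_21_1 lc_f_rc_19_5 lc_f_rc_21_1 lc_f_rc_20_1 lc_f_rc_19_3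 lc_f_rc_19_3 lc_f_rc_5_1 lc_f_rc_10_3 lc_f_rc_10_1 lc_f_rc_19_5 lc_f_rc_19_1 lc_f_rc_5_3 lc_f_rc_10_1 lc_f_rc_17_1 lc_f_rc_20_1 lc_f_rc_19_3 lc_f_rc_10_3 lc_f_rc_21_1 lc_f_rc_20_1 lc_f_rc_20_1 lc_f_rc_19_1 lc_f_rc_19_5 lc_f_rc_10_3 lc_f_rc_17_3 lc_f_rc_14_3 lc_f_rc_10_3 lc_f_rc_19_3 lc_f_rc_10_1 lc_f_rc_17_3 lc_f_rc_22_1 lc_f_rc_10_1 lc_f_rc_21_1 lc_f_rc_14_3 lc_f_rc_17_1 lc_f_rc_17_1 lc_f_Cert_tree lc_f_rc_21_1 lc_f_rc_17_3 lc_f_rc_14_3) (@D3.rec (fun _ => (Cert rels S Gen.f)) lc_f_rc_17_3 lc_f_rc_14_3 lc_f_rc_17_1 lc_f_rc_19_1 lc_f_rc_17_3 lc_f_rc_14_3 lc_f_rc_10_3 lc_f_rc_17_3 lc_f_rc_17_3 lc_f_rc_5_1 lc_f_rc_17_3 lc_f_rc_14_1 lc_f_rc_20_1 lc_f_rc_10_1 lc_f_rc_17_3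 lc_f_rc_14_3 lc_f_rc_10_3 lc_f_rc_10_3 lc_f_rc_10_3 lc_f_rc_10_3 lc_f_rc_14_1 lc_f_rc_5_3 lc_f_rc_14_3 lc_f_rc_10_3 lc_f_rc_14_3 lc_f_rc_21_1 lc_f_rc_10_3 lc_f_rc_10_3 lc_f_rc_21_1 lc_f_rc_14_3 lc_f_rc_21_1 lc_f_rc_5_3 lc_f_rc_17_1 lc_f_rc_19_1 lc_f_rc_10_1 lc_f_rc_5_3 lc_f_rc_20_1 lc_f_rc_20_1 lc_f_rc_10_3 lc_f_rc_17_1 lc_f_rc_17_3 lc_f_rc_10_1 lc_f_rc_20_1 lc_f_rc_20_1 lc_f_rc_17_3 lc_f_rc_5_3 lc_f_rc_20_1 lc_f_rc_17_3 lc_f_rc_21_1 lc_f_rc_14_3 lc_f_rc_19_3 lc_f_rc_17_3 lc_f_rc_17_3 lc_f_rc_17_3 lc_f_rc_17_1 lc_f_rc_17_3 lc_f_rc_20_1 lc_f_rc_14_3 lc_f_rc_17_3 lc_f_rc_17_1 lc_f_rc_20_1 lc_f_rc_17_3) (@D3.rec (fun _ => (Cert rels S Gen.f)) lc_f_rc_19_3 lc_f_rc_17_3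 lc_f_rc_14_3 lc_f_rc_20_1 lc_f_rc_17_3 lc_f_rc_10_3 lc_f_rc_21_1 lc_f_rc_14_1 lc_f_rc_17_3 lc_f_rc_19_1 lc_f_rc_14_3 lc_f_rc_5_1 lc_f_rc_20_1 lc_f_rc_20_1 lc_f_rc_19_3 lc_f_rc_17_1 lc_f_rc_17_3 lc_f_rc_17_3 lc_f_rc_17_1 lc_f_rc_21_1 lc_f_Cert_tree lc_f_rc_20_1 lc_f_rc_17_3 lc_f_rc_14_3 lc_f_rc_17_3 lc_f_rc_10_3 lc_f_rc_10_1 lc_f_rc_19_5 lc_f_rc_10_1 lc_f_rc_20_1 lc_f_rc_10_1 lc_f_rc_14_1 lc_f_rc_14_1 lc_f_rc_5_3 lc_f_rc_17_1 lc_f_rc_10_1 lc_f_rc_21_1 lc_f_rc_20_1 lc_f_rc_17_3 lc_f_rc_21_1 lc_f_rc_20_1 lc_f_rc_10_3 lc_f_rc_20_1 lc_f_rc_20_1 lc_f_rc_20_1 lc_f_rc_10_3 lc_f_rc_5_1 lc_f_rc_14_1 lc_f_rc_21_1 lc_f_rc_17_3 lc_f_rc_14_3 lc_f_rc_21_1 lc_f_rc_20_1 lc_f_rc_19_3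 lc_f_rc_10_1 lc_f_rc_21_1 lc_f_rc_20_1 lc_f_rc_10_3 lc_f_rc_14_3 lc_f_rc_5_3 lc_f_rc_14_3 lc_f_rc_10_3) (@D3.rec (fun _ => (Cert rels S Gen.f)) lc_f_rc_10_1 lc_f_rc_14_1 lc_f_rc_17_1 lc_f_rc_22_1 lc_f_rc_17_1 lc_f_rc_20_1 lc_f_rc_22_1 lc_f_rc_10_1 lc_f_rc_19_5 lc_f_rc_14_3 lc_f_rc_10_1 lc_f_rc_20_1 lc_f_rc_10_3 lc_f_rc_14_3 lc_f_rc_19_3 lc_f_rc_14_3 lc_f_rc_17_3 lc_f_rc_10_3 lc_f_rc_5_1 lc_f_rc_10_1 lc_f_rc_5_1 lc_f_rc_14_3 lc_f_rc_20_1 lc_f_rc_21_1 lc_f_rc_14_3 lc_f_rc_14_3 lc_f_rc_20_1 lc_f_rc_20_1 lc_f_rc_14_1 lc_f_rc_14_3 lc_f_rc_20_1 lc_f_rc_14_1 lc_f_rc_17_1 lc_f_rc_20_1 lc_f_rc_5_1 lc_f_rc_20_1 lc_f_rc_17_1 lc_f_rc_14_3 lc_f_rc_10_3 lc_f_rc_19_5 lc_f_rc_20_1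 lc_f_rc_20_1 lc_f_rc_14_3 lc_f_rc_21_1 lc_f_rc_21_1 lc_f_rc_19_3 lc_f_rc_17_3 lc_f_rc_21_1 lc_f_rc_19_5 lc_f_rc_17_3 lc_f_rc_10_3 lc_f_rc_10_3 lc_f_rc_5_3 lc_f_rc_5_3 lc_f_rc_14_1 lc_f_rc_19_3 lc_f_rc_20_1 lc_f_rc_17_3 lc_f_rc_17_3 lc_f_rc_21_1 lc_f_rc_14_3 lc_f_rc_10_1) (@D3.rec (fun _ => (Cert rels S Gen.f)) lc_f_rc_20_1 lc_f_rc_10_3 lc_f_rc_20_1 lc_f_rc_10_3 lc_f_rc_14_1 lc_f_rc_19_3 lc_f_rc_10_3 lc_f_rc_19_3 lc_f_rc_17_3 lc_f_rc_21_1 lc_f_rc_14_3 lc_f_rc_10_3 lc_f_rc_20_1 lc_f_rc_19_3 lc_f_rc_19_3 lc_f_rc_21_1 lc_f_rc_20_1 lc_f_rc_17_3 lc_f_rc_21_1 lc_f_rc_20_1 lc_f_rc_5_1 lc_f_rc_20_1 lc_f_rc_10_3 lc_f_rc_20_1 lc_f_rc_14_1 lc_f_rc_10_1 lc_f_rc_19_3 lc_f_rc_21_1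 lc_f_rc_10_3 lc_f_rc_20_1 lc_f_rc_17_3 lc_f_rc_20_1 lc_f_rc_20_1 lc_f_rc_20_1 lc_f_rc_17_3 lc_f_rc_10_3 lc_f_rc_17_3 lc_f_rc_14_3 lc_f_rc_5_3 lc_f_rc_20_1 lc_f_rc_17_1 lc_f_rc_14_1 lc_f_rc_5_3 lc_f_rc_21_1 lc_f_rc_21_1 lc_f_rc_20_1 lc_f_rc_10_3 lc_f_rc_21_1 lc_f_rc_19_3 lc_f_rc_5_3 lc_f_rc_20_1 lc_f_rc_19_1 lc_f_rc_20_1 lc_f_rc_17_3 lc_f_rc_20_1 lc_f_rc_19_5 lc_f_rc_21_1 lc_f_rc_10_3 lc_f_rc_19_3 lc_f_rc_10_1 lc_f_rc_10_3 lc_f_rc_21_1) (@D3.rec (fun _ => (Cert rels S Gen.f)) lc_f_rc_20_1 lc_f_rc_22_1 lc_f_rc_14_1 lc_f_rc_20_1 lc_f_rc_10_3 lc_f_rc_17_1 lc_f_rc_20_1 lc_f_rc_10_3 lc_f_rc_14_1 lc_f_rc_14_3 lc_f_rc_14_1 lc_f_rc_10_1 lc_f_rc_21_1 lc_f_rc_21_1 lc_f_rc_14_3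 lc_f_rc_10_3 lc_f_rc_14_3 lc_f_rc_10_3 lc_f_rc_14_1 lc_f_rc_10_1 lc_f_rc_20_1 lc_f_rc_14_3 lc_f_rc_17_1 lc_f_rc_20_1 lc_f_rc_14_3 lc_f_rc_10_3 lc_f_rc_17_3 lc_f_rc_20_1 lc_f_rc_14_3 lc_f_rc_19_3 lc_f_rc_20_1 lc_f_rc_14_1 lc_f_rc_21_1 lc_f_rc_17_3 lc_f_rc_5_1 lc_f_rc_10_3 lc_f_rc_14_1 lc_f_rc_17_3 lc_f_rc_21_1 lc_f_rc_14_3 lc_f_rc_14_3 lc_f_rc_10_3 lc_f_rc_10_1 lc_f_rc_14_3 lc_f_rc_17_3 lc_f_rc_14_3 lc_f_rc_21_1 lc_f_rc_14_1 lc_f_rc_10_3 lc_f_rc_17_1 lc_f_rc_17_3 lc_f_rc_10_1 lc_f_rc_17_1 lc_f_rc_10_1 lc_f_rc_20_1 lc_f_rc_10_1 lc_f_rc_17_3 lc_f_rc_17_3 lc_f_rc_10_3 lc_f_rc_10_3 lc_f_rc_5_1 lc_f_rc_10_3) (@D3.rec (fun _ => (Cert rels S Gen.f)) lc_f_rc_21_1 lc_f_rc_20_1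 lc_f_rc_20_1 lc_f_rc_20_1 lc_f_rc_17_3 lc_f_rc_20_1 lc_f_rc_20_1 lc_f_rc_5_1 lc_f_rc_14_1 lc_f_rc_20_1 lc_f_rc_21_1 lc_f_rc_10_3 lc_f_rc_5_3 lc_f_rc_17_3 lc_f_rc_19_1 lc_f_rc_20_1 lc_f_rc_21_1 lc_f_rc_5_1 lc_f_rc_20_1 lc_f_rc_17_1 lc_f_rc_14_3 lc_f_rc_14_3 lc_f_rc_17_3 lc_f_rc_5_3 lc_f_rc_20_1 lc_f_rc_17_3 lc_f_rc_14_3 lc_f_rc_17_3 lc_f_rc_21_1 lc_f_rc_20_1 lc_f_rc_10_3 lc_f_rc_5_1 lc_f_rc_5_3 lc_f_rc_10_1 lc_f_rc_17_3 lc_f_rc_14_3 lc_f_rc_14_1 lc_f_rc_17_3 lc_f_rc_10_3 lc_f_rc_10_3 lc_f_rc_5_1 lc_f_rc_10_3 lc_f_rc_19_3 lc_f_rc_20_1 lc_f_rc_10_1 lc_f_rc_17_3 lc_f_rc_10_1 lc_f_rc_5_3 lc_f_rc_17_1 lc_f_rc_20_1 lc_f_rc_17_3 lc_f_rc_14_3 lc_f_rc_19_3 lc_f_rc_14_3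 lc_f_rc_5_3 lc_f_rc_19_5 lc_f_rc_17_3 lc_f_rc_17_1 lc_f_rc_20_1 lc_f_rc_20_1 lc_f_rc_22_1 lc_f_rc_14_1) (@D3.rec (fun _ => (Cert rels S Gen.f)) lc_f_rc_17_1 lc_f_rc_17_3 lc_f_rc_21_1 lc_f_rc_20_1 lc_f_rc_10_3 lc_f_rc_14_1 lc_f_rc_10_3 lc_f_rc_14_3 lc_f_rc_14_3 lc_f_rc_17_3 lc_f_rc_21_1 lc_f_rc_20_1 lc_f_rc_19_5 lc_f_rc_17_3 lc_f_rc_10_3 lc_f_rc_17_3 lc_f_rc_14_3 lc_f_rc_17_3 lc_f_rc_14_3 lc_f_rc_10_1 lc_f_rc_17_3 lc_f_rc_10_1 lc_f_rc_14_1 lc_f_rc_14_3 lc_f_rc_5_1 lc_f_rc_17_3 lc_f_rc_17_1 lc_f_rc_5_1 lc_f_rc_17_3 lc_f_rc_19_3 lc_f_rc_14_3 lc_f_rc_5_3 lc_f_rc_20_1 lc_f_rc_20_1 lc_f_rc_10_1 lc_f_rc_14_1 lc_f_rc_19_3 lc_f_rc_17_3 lc_f_rc_20_1 lc_f_rc_19_1 lc_f_rc_10_3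 lc_f_rc_17_1 lc_f_rc_14_1 lc_f_rc_17_3 lc_f_rc_14_3 lc_f_rc_20_1 lc_f_rc_21_1 lc_f_rc_10_1 lc_f_rc_10_3 lc_f_rc_14_3 lc_f_rc_14_3 lc_f_rc_14_3 lc_f_rc_20_1 lc_f_rc_10_1 lc_f_rc_17_3 lc_f_rc_19_5 lc_f_rc_21_1 lc_f_rc_20_1 lc_f_rc_19_5 lc_f_rc_10_3 lc_f_rc_5_1 lc_f_rc_17_3) (@D3.rec (fun _ => (Cert rels S Gen.f)) lc_f_rc_19_1 lc_f_rc_19_1 lc_f_rc_10_1 lc_f_rc_5_1 lc_f_rc_10_3 lc_f_rc_14_3 lc_f_rc_10_1 lc_f_rc_17_3 lc_f_rc_17_3 lc_f_rc_20_1 lc_f_rc_17_3 lc_f_rc_21_1 lc_f_rc_17_3 lc_f_rc_21_1 lc_f_rc_19_5 lc_f_rc_10_3 lc_f_rc_19_3 lc_f_rc_10_1 lc_f_rc_19_5 lc_f_rc_17_3 lc_f_rc_20_1 lc_f_rc_21_1 lc_f_rc_10_3 lc_f_rc_19_5 lc_f_rc_20_1 lc_f_rc_20_1 lc_f_rc_17_3 lc_f_rc_19_5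 lc_f_rc_10_3 lc_f_rc_21_1 lc_f_rc_17_3 lc_f_rc_14_3 lc_f_rc_5_1 lc_f_rc_10_3 lc_f_rc_14_1 lc_f_rc_19_3 lc_f_rc_17_3 lc_f_rc_14_1 lc_f_rc_10_3 lc_f_rc_19_3 lc_f_rc_17_3 lc_f_rc_17_1 lc_f_rc_21_1 lc_f_rc_21_1 lc_f_rc_10_3 lc_f_rc_10_1 lc_f_rc_14_3 lc_f_rc_17_3 lc_f_rc_21_1 lc_f_rc_19_3 lc_f_rc_14_3 lc_f_rc_14_3 lc_f_rc_14_3 lc_f_Cert_tree lc_f_rc_19_3 lc_f_rc_14_1 lc_f_rc_20_1 lc_f_rc_5_1 lc_f_rc_10_3 lc_f_rc_17_3 lc_f_rc_14_1 lc_f_rc_14_3) (@D3.rec (fun _ => (Cert rels S Gen.f)) lc_f_rc_20_1 lc_f_rc_19_3 lc_f_rc_21_1 lc_f_rc_20_1 lc_f_rc_10_3 lc_f_rc_5_1 lc_f_rc_20_1 lc_f_rc_10_3 lc_f_rc_21_1 lc_f_rc_10_1 lc_f_rc_10_1 lc_f_rc_19_3 lc_f_rc_20_1 lc_f_rc_10_3 lc_f_rc_10_3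 lc_f_Cert_tree lc_f_rc_21_1 lc_f_rc_5_1 lc_f_rc_21_1 lc_f_rc_20_1 lc_f_rc_17_3 lc_f_rc_20_1 lc_f_rc_17_1 lc_f_rc_20_1 lc_f_rc_5_3 lc_f_rc_20_1 lc_f_rc_17_1 lc_f_rc_17_1 lc_f_rc_20_1 lc_f_rc_10_3 lc_f_rc_10_3 lc_f_rc_20_1 lc_f_rc_5_3 lc_f_rc_20_1 lc_f_rc_17_1 lc_f_rc_20_1 lc_f_rc_17_3 lc_f_rc_14_3 lc_f_rc_21_1 lc_f_rc_14_3 lc_f_rc_19_1 lc_f_rc_17_1 lc_f_rc_14_3 lc_f_rc_10_3 lc_f_Cert_tree lc_f_rc_19_5 lc_f_rc_20_1 lc_f_rc_14_1 lc_f_rc_19_3 lc_f_rc_19_5 lc_f_rc_10_3 lc_f_rc_17_1 lc_f_rc_21_1 lc_f_rc_17_3 lc_f_rc_5_1 lc_f_rc_14_1 lc_f_rc_5_1 lc_f_rc_19_3 lc_f_rc_20_1 lc_f_rc_14_3 lc_f_rc_17_1 lc_f_rc_17_3) (@D3.rec (fun _ => (Cert rels S Gen.f)) lc_f_rc_17_3 lc_f_Cert_tree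 lc_f_rc_20_1 lc_f_rc_14_3 lc_f_rc_17_3 lc_f_rc_10_1 lc_f_rc_17_1 lc_f_Cert_tree lc_f_rc_20_1 lc_f_rc_5_1 lc_f_rc_17_1 lc_f_rc_21_1 lc_f_rc_14_3 lc_f_rc_10_3 lc_f_rc_17_3 lc_f_rc_14_1 lc_f_rc_17_3 lc_f_rc_14_3 lc_f_rc_10_1 lc_f_rc_21_1 lc_f_rc_19_3 lc_f_rc_14_3 lc_f_rc_10_3 lc_f_rc_17_3 lc_f_rc_21_1 lc_f_rc_17_3 lc_f_rc_20_1 lc_f_rc_21_1 lc_f_rc_20_1 lc_f_rc_10_3 lc_f_rc_14_3 lc_f_rc_20_1 lc_f_rc_10_3 lc_f_rc_17_3 lc_f_rc_19_5 lc_f_rc_10_3 lc_f_rc_17_3 lc_f_rc_14_3 lc_f_rc_10_3 lc_f_rc_17_1 lc_f_rc_19_5 lc_f_rc_14_3 lc_f_rc_20_1 lc_f_rc_10_3 lc_f_rc_17_3 lc_f_rc_14_3 lc_f_rc_19_5 lc_f_rc_10_3 lc_f_rc_10_3 lc_f_rc_10_3 lc_f_rc_10_3 lc_f_rc_21_1 lc_f_rc_19_3 lc_f_rc_10_1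 lc_f_rc_17_1 lc_f_rc_20_1 lc_f_rc_14_3 lc_f_rc_5_3 lc_f_rc_21_1 lc_f_rc_10_3 lc_f_rc_17_3 lc_f_rc_17_3) (@D3.rec (fun _ => (Cert rels S Gen.f)) lc_f_rc_20_1 lc_f_rc_21_1 lc_f_rc_20_1 lc_f_rc_21_1 lc_f_rc_14_3 lc_f_rc_20_1 lc_f_rc_14_1 lc_f_rc_20_1 lc_f_rc_17_3 lc_f_rc_17_3 lc_f_rc_17_3 lc_f_rc_20_1 lc_f_rc_14_3 lc_f_rc_10_3 lc_f_rc_14_3 lc_f_rc_17_1 lc_f_rc_20_1 lc_f_rc_10_3 lc_f_rc_21_1 lc_f_rc_21_1 lc_f_rc_10_3 lc_f_rc_20_1 lc_f_rc_17_3 lc_f_rc_10_3 lc_f_rc_14_1 lc_f_rc_14_3 lc_f_rc_14_3 lc_f_rc_21_1 lc_f_rc_17_1 lc_f_rc_20_1 lc_f_rc_19_5 lc_f_rc_21_1 lc_f_rc_22_1 lc_f_rc_10_3 lc_f_rc_17_3 lc_f_rc_14_3 lc_f_rc_17_3 lc_f_rc_14_1 lc_f_rc_19_1 lc_f_rc_20_1 lc_f_rc_21_1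 lc_f_rc_19_5 lc_f_rc_19_5 lc_f_rc_19_5 lc_f_rc_19_3 lc_f_rc_10_1 lc_f_rc_14_1 lc_f_rc_10_3 lc_f_rc_14_3 lc_f_rc_10_3 lc_f_rc_14_3 lc_f_rc_14_3 lc_f_rc_20_1 lc_f_rc_14_3 lc_f_rc_20_1 lc_f_rc_10_1 lc_f_rc_14_1 lc_f_rc_21_1 lc_f_rc_21_1 lc_f_rc_17_3 lc_f_rc_10_3 lc_f_rc_21_1) (@D3.rec (fun _ => (Cert rels S Gen.f)) lc_f_rc_20_1 lc_f_rc_5_1 lc_f_rc_17_1 lc_f_rc_20_1 lc_f_rc_20_1 lc_f_rc_10_3 lc_f_rc_5_1 lc_f_rc_5_3 lc_f_rc_5_1 lc_f_rc_14_3 lc_f_rc_21_1 lc_f_rc_14_3 lc_f_rc_5_3 lc_f_rc_19_3 lc_f_rc_10_3 lc_f_rc_5_1 lc_f_rc_20_1 lc_f_rc_19_5 lc_f_rc_17_3 lc_f_rc_10_3 lc_f_rc_19_5 lc_f_rc_10_3 lc_f_rc_19_3 lc_f_rc_14_3 lc_f_rc_19_3 lc_f_rc_22_1 lc_f_rc_14_3 lc_f_rc_14_3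 lc_f_rc_10_3 lc_f_rc_17_3 lc_f_rc_10_3 lc_f_rc_14_3 lc_f_rc_20_1 lc_f_rc_10_3 lc_f_rc_17_3 lc_f_rc_21_1 lc_f_rc_14_1 lc_f_rc_17_3 lc_f_rc_20_1 lc_f_rc_5_1 lc_f_rc_17_3 lc_f_rc_14_1 lc_f_rc_17_3 lc_f_rc_21_1 lc_f_rc_20_1 lc_f_rc_5_3 lc_f_rc_21_1 lc_f_rc_14_3 lc_f_rc_10_1 lc_f_rc_17_3 lc_f_rc_19_5 lc_f_rc_19_3 lc_f_rc_19_5 lc_f_rc_5_3 lc_f_rc_14_3 lc_f_rc_14_1 lc_f_rc_22_1 lc_f_rc_20_1 lc_f_rc_14_3 lc_f_rc_5_3 lc_f_rc_17_3 lc_f_rc_14_3) (@D3.rec (fun _ => (Cert rels S Gen.f)) lc_f_rc_17_3 lc_f_rc_20_1 lc_f_rc_21_1 lc_f_rc_10_3 lc_f_rc_19_5 lc_f_rc_22_1 lc_f_rc_21_1 lc_f_rc_19_5 lc_f_rc_21_1 lc_f_rc_21_1 lc_f_rc_19_3 lc_f_rc_10_1 lc_f_rc_14_1 lc_f_rc_21_1 lc_f_rc_17_3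 lc_f_rc_20_1 lc_f_rc_14_1 lc_f_rc_20_1 lc_f_rc_19_3 lc_f_rc_20_1 lc_f_rc_5_1 lc_f_rc_17_1 lc_f_rc_20_1 lc_f_rc_5_3 lc_f_rc_14_1 lc_f_rc_10_3 lc_f_rc_10_3 lc_f_rc_10_3 lc_f_rc_5_3 lc_f_rc_5_3 lc_f_rc_5_3 lc_f_rc_14_3 lc_f_rc_17_3 lc_f_rc_17_3 lc_f_rc_21_1 lc_f_rc_17_3 lc_f_rc_20_1 lc_f_rc_14_3 lc_f_Cert_tree lc_f_rc_20_1 lc_f_rc_14_3 lc_f_rc_10_3 lc_f_rc_14_3 lc_f_rc_20_1 lc_f_rc_17_3 lc_f_rc_17_3 lc_f_rc_19_3 lc_f_rc_14_1 lc_f_rc_17_3 lc_f_rc_17_3 lc_f_rc_10_3 lc_f_rc_14_1 lc_f_rc_20_1 lc_f_rc_20_1 lc_f_rc_17_1 lc_f_rc_10_3 lc_f_rc_19_3 lc_f_rc_21_1 lc_f_rc_5_3 lc_f_rc_14_3 lc_f_rc_21_1 lc_f_rc_22_1) (@D3.rec (fun _ => (Cert rels S Gen.f)) lc_f_rc_10_3 lc_f_rc_14_1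 lc_f_rc_14_3 lc_f_rc_5_3 lc_f_rc_14_3 lc_f_rc_5_3 lc_f_rc_14_3 lc_f_rc_14_3 lc_f_Cert_tree lc_f_rc_20_1 lc_f_rc_19_3 lc_f_rc_20_1 lc_f_rc_14_3 lc_f_rc_14_1 lc_f_rc_20_1 lc_f_rc_5_1 lc_f_rc_17_3 lc_f_Cert_tree lc_f_rc_5_3 lc_f_rc_14_3 lc_f_rc_20_1 lc_f_rc_10_3 lc_f_rc_10_3 lc_f_rc_20_1 lc_f_rc_20_1 lc_f_rc_5_3 lc_f_rc_14_3 lc_f_rc_10_3 lc_f_rc_5_1 lc_f_rc_14_3 lc_f_rc_14_3 lc_f_rc_10_3 lc_f_rc_10_1 lc_f_rc_14_3 lc_f_rc_20_1 lc_f_rc_14_3 lc_f_rc_14_3 lc_f_rc_14_1 lc_f_rc_19_3 lc_f_rc_10_3 lc_f_rc_21_1 lc_f_rc_20_1 lc_f_rc_10_3 lc_f_rc_10_3 lc_f_rc_10_3 lc_f_rc_14_1 lc_f_rc_14_3 lc_f_rc_22_1 lc_f_rc_19_5 lc_f_rc_21_1 lc_f_rc_17_3 lc_f_rc_10_3 lc_f_rc_17_3 lc_f_rc_10_3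 lc_f_rc_10_3 lc_f_rc_17_3 lc_f_rc_5_1 lc_f_rc_17_3 lc_f_Cert_tree lc_f_rc_10_1 lc_f_rc_17_3 lc_f_rc_19_5) (@D3.rec (fun _ => (Cert rels S Gen.f)) lc_f_rc_19_5 lc_f_Cert_tree lc_f_rc_20_1 lc_f_rc_14_3 lc_f_rc_14_3 lc_f_rc_20_1 lc_f_rc_20_1 lc_f_rc_10_1 lc_f_rc_20_1 lc_f_rc_21_1 lc_f_rc_14_3 lc_f_rc_17_1 lc_f_rc_14_1 lc_f_rc_10_3 lc_f_rc_17_3 lc_f_rc_20_1 lc_f_rc_17_3 lc_f_rc_14_3 lc_f_rc_5_3 lc_f_rc_10_3 lc_f_rc_14_1 lc_f_rc_10_1 lc_f_rc_14_3 lc_f_rc_21_1 lc_f_rc_17_1 lc_f_rc_20_1 lc_f_rc_14_3 lc_f_rc_17_1 lc_f_rc_20_1 lc_f_rc_14_3 lc_f_rc_22_1 lc_f_rc_14_1 lc_f_rc_5_1 lc_f_rc_10_3 lc_f_Cert_tree lc_f_rc_20_1 lc_f_rc_17_3 lc_f_rc_10_3 lc_f_rc_21_1 lc_f_rc_19_5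 lc_f_rc_14_3 lc_f_rc_17_3 lc_f_rc_14_3 lc_f_rc_10_1 lc_f_rc_14_1 lc_f_rc_21_1 lc_f_rc_5_1 lc_f_rc_21_1 lc_f_rc_19_5 lc_f_rc_14_1 lc_f_rc_10_1 lc_f_rc_17_3 lc_f_rc_20_1 lc_f_rc_17_1 lc_f_rc_14_1 lc_f_rc_20_1 lc_f_rc_22_1 lc_f_rc_14_3 lc_f_rc_14_3 lc_f_rc_17_3 lc_f_rc_20_1 lc_f_Cert_tree) (@D3.rec (fun _ => (Cert rels S Gen.f)) lc_f_rc_22_1 lc_f_rc_17_1 lc_f_Cert_tree lc_f_rc_20_1 lc_f_rc_5_3 lc_f_rc_17_3 lc_f_rc_21_1 lc_f_rc_21_1 lc_f_rc_5_1 lc_f_rc_10_3 lc_f_rc_14_1 lc_f_rc_14_3 lc_f_rc_19_1 lc_f_rc_17_3 lc_f_rc_17_3 lc_f_rc_14_3 lc_f_rc_14_3 lc_f_rc_17_3 lc_f_rc_17_3 lc_f_Cert_tree lc_f_rc_21_1 lc_f_rc_14_3 lc_f_Cert_tree lc_f_rc_14_3 lc_f_rc_20_1 lc_f_rc_19_1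 lc_f_rc_21_1 lc_f_rc_17_3 lc_f_rc_10_3 lc_f_rc_17_1 lc_f_rc_14_3 lc_f_rc_19_3 lc_f_rc_14_3 lc_f_rc_21_1 lc_f_rc_14_3 lc_f_rc_21_1 lc_f_rc_19_5 lc_f_rc_10_3 lc_f_rc_19_3 lc_f_rc_14_3 lc_f_rc_14_3 lc_f_rc_5_1 lc_f_rc_20_1 lc_f_rc_20_1 lc_f_rc_14_3 lc_f_rc_5_1 lc_f_rc_5_3 lc_f_rc_19_5 lc_f_rc_17_3 lc_f_rc_20_1 lc_f_rc_21_1 lc_f_rc_14_1 lc_f_rc_19_1 lc_f_rc_19_1 lc_f_rc_14_1 lc_f_rc_14_3 lc_f_rc_17_3 lc_f_rc_17_1 lc_f_rc_14_3 lc_f_rc_20_1 lc_f_rc_19_5 lc_f_rc_10_1) (@D3.rec (fun _ => (Cert rels S Gen.f)) lc_f_rc_21_1 lc_f_Cert_tree lc_f_rc_20_1 lc_f_rc_14_1 lc_f_rc_14_1 lc_f_rc_22_1 lc_f_rc_14_3 lc_f_rc_19_5 lc_f_rc_22_1 lc_f_rc_14_3 lc_f_rc_14_3 lc_f_rc_17_1 lc_f_rc_20_1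 lc_f_rc_14_1 lc_f_rc_14_3 lc_f_rc_22_1 lc_f_rc_17_3 lc_f_rc_14_1 lc_f_rc_10_3 lc_f_rc_10_1 lc_f_rc_20_1 lc_f_rc_22_1 lc_f_rc_10_3 lc_f_rc_10_3 lc_f_rc_21_1 lc_f_rc_17_1 lc_f_rc_14_3 lc_f_rc_17_3 lc_f_rc_17_1 lc_f_rc_10_1 lc_f_rc_10_1 lc_f_rc_14_1 lc_f_rc_10_1 lc_f_rc_20_1 lc_f_rc_19_3 lc_f_rc_20_1 lc_f_rc_21_1 lc_f_rc_14_3 lc_f_rc_14_3 lc_f_rc_10_3 lc_f_rc_10_1 lc_f_rc_14_3 lc_f_rc_17_3 lc_f_rc_20_1 lc_f_rc_5_1 lc_f_rc_14_3 lc_f_rc_10_3 lc_f_rc_10_1 lc_f_rc_17_3 lc_f_rc_10_1 lc_f_rc_5_1 lc_f_rc_10_3 lc_f_rc_10_3 lc_f_rc_14_3 lc_f_rc_17_1 lc_f_rc_19_3 lc_f_rc_5_1 lc_f_rc_5_1 lc_f_rc_14_1 lc_f_rc_19_5 lc_f_rc_14_3 lc_f_rc_10_3) (@D3.rec (fun _ => (Cert rels S Gen.f))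 lc_f_rc_5_1 lc_f_Cert_tree lc_f_rc_14_3 lc_f_Cert_tree lc_f_rc_14_3 lc_f_rc_14_3 lc_f_Cert_tree lc_f_rc_20_1 lc_f_rc_22_1 lc_f_rc_10_1 lc_f_rc_20_1 lc_f_rc_20_1 lc_f_rc_14_3 lc_f_rc_14_3 lc_f_Cert_tree lc_f_Cert_tree lc_f_rc_19_5 lc_f_rc_17_1 lc_f_rc_20_1 lc_f_rc_10_3 lc_f_rc_10_3 lc_f_Cert_tree lc_f_rc_21_1 lc_f_rc_5_1 lc_f_rc_17_3 lc_f_rc_14_3 lc_f_rc_14_3 lc_f_rc_17_1 lc_f_rc_14_3 lc_f_rc_17_3 lc_f_rc_10_3 lc_f_rc_5_3 lc_f_rc_14_3 lc_f_rc_10_3 lc_f_rc_21_1 lc_f_rc_22_1 lc_f_rc_14_1 lc_f_rc_10_3 lc_f_rc_10_3 lc_f_rc_14_3 lc_f_rc_20_1 lc_f_rc_14_3 lc_f_rc_14_3 lc_f_rc_14_3 lc_f_rc_21_1 lc_f_rc_19_3 lc_f_rc_14_3 lc_f_rc_17_3 lc_f_rc_19_1 lc_f_rc_10_3 lc_f_rc_22_1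 lc_f_rc_5_3 lc_f_rc_17_3 lc_f_rc_20_1 lc_f_rc_17_3 lc_f_rc_14_1 lc_f_rc_14_3 lc_f_rc_14_1 lc_f_rc_10_3 lc_f_rc_14_3 lc_f_rc_17_3 lc_f_rc_20_1) (@D3.rec (fun _ => (Cert rels S Gen.f)) lc_f_rc_10_3 lc_f_rc_19_3 lc_f_rc_22_1 lc_f_Cert_tree lc_f_rc_22_1 lc_f_rc_14_3 lc_f_rc_14_1 lc_f_rc_14_1 lc_f_rc_17_3 lc_f_rc_10_1 lc_f_rc_21_1 lc_f_Cert_tree lc_f_rc_21_1 lc_f_rc_17_3 lc_f_rc_10_3 lc_f_rc_22_1 lc_f_rc_19_3 lc_f_rc_21_1 lc_f_rc_17_3 lc_f_rc_20_1 lc_f_rc_17_3 lc_f_rc_17_3 lc_f_rc_19_3 lc_f_rc_20_1 lc_f_rc_17_3 lc_f_rc_10_3 lc_f_rc_21_1 lc_f_rc_10_3 lc_f_rc_14_3 lc_f_rc_14_3 lc_f_rc_20_1 lc_f_rc_14_1 lc_f_rc_19_3 lc_f_rc_5_3 lc_f_rc_17_1 lc_f_rc_17_3 lc_f_rc_14_3 lc_f_rc_21_1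 lc_f_rc_14_3 lc_f_rc_14_1 lc_f_rc_20_1 lc_f_rc_20_1 lc_f_rc_19_3 lc_f_rc_14_3 lc_f_rc_10_3 lc_f_rc_14_1 lc_f_rc_10_3 lc_f_rc_21_1 lc_f_rc_14_1 lc_f_rc_14_3 lc_f_rc_14_3 lc_f_rc_14_1 lc_f_rc_10_3 lc_f_rc_10_1 lc_f_rc_10_1 lc_f_rc_14_3 lc_f_rc_17_3 lc_f_rc_20_1 lc_f_rc_22_1 lc_f_rc_17_3 lc_f_rc_19_3 lc_f_rc_19_5) (@D3.rec (fun _ => (Cert rels S Gen.f)) lc_f_rc_20_1 lc_f_rc_19_3 lc_f_rc_14_3 lc_f_rc_5_3 lc_f_rc_20_1 lc_f_rc_17_1 lc_f_rc_20_1 lc_f_rc_10_3 lc_f_rc_14_3 lc_f_rc_14_3 lc_f_rc_5_3 lc_f_rc_20_1 lc_f_rc_17_1 lc_f_rc_17_3 lc_f_rc_17_1 lc_f_rc_17_1 lc_f_rc_17_1 lc_f_rc_21_1 lc_f_rc_17_1 lc_f_rc_17_3 lc_f_rc_20_1 lc_f_Cert_tree lc_f_rc_17_3 lc_f_rc_10_3 lc_f_Cert_tree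 lc_f_rc_20_1 lc_f_rc_20_1 lc_f_rc_5_1 lc_f_rc_19_1 lc_f_rc_17_3 lc_f_rc_10_3 lc_f_rc_21_1 lc_f_rc_10_1 lc_f_rc_14_3 lc_f_rc_21_1 lc_f_rc_22_1 lc_f_rc_10_3 lc_f_rc_14_3 lc_f_rc_22_1 lc_f_rc_19_1 lc_f_rc_17_1 lc_f_rc_14_3 lc_f_rc_10_1 lc_f_rc_17_1 lc_f_rc_19_5 lc_f_rc_17_3 lc_f_rc_14_1 lc_f_rc_10_3 lc_f_rc_19_3 lc_f_rc_10_3 lc_f_rc_20_1 lc_f_rc_14_1 lc_f_rc_19_3 lc_f_rc_22_1 lc_f_rc_10_1 lc_f_rc_17_1 lc_f_rc_19_3 lc_f_rc_19_5 lc_f_rc_14_1 lc_f_rc_20_1 lc_f_rc_10_3 lc_f_rc_19_5) (@D3.rec (fun _ => (Cert rels S Gen.f)) lc_f_rc_10_1 lc_f_rc_20_1 lc_f_rc_10_3 lc_f_rc_14_3 lc_f_rc_17_3 lc_f_rc_17_3 lc_f_Cert_tree lc_f_rc_14_1 lc_f_rc_22_1 lc_f_rc_5_3 lc_f_rc_17_3 lc_f_rc_22_1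 lc_f_rc_17_1 lc_f_rc_17_3 lc_f_rc_10_3 lc_f_rc_21_1 lc_f_rc_22_1 lc_f_Cert_tree lc_f_rc_10_3 lc_f_rc_10_3 lc_f_rc_5_3 lc_f_rc_22_1 lc_f_rc_19_5 lc_f_rc_17_3 lc_f_rc_10_3 lc_f_rc_17_1 lc_f_rc_21_1 lc_f_rc_14_1 lc_f_rc_17_1 lc_f_rc_10_3 lc_f_rc_21_1 lc_f_rc_17_3 lc_f_rc_17_3 lc_f_rc_10_3 lc_f_rc_17_3 lc_f_rc_20_1 lc_f_rc_10_3 lc_f_rc_20_1 lc_f_rc_20_1 lc_f_rc_14_3 lc_f_rc_5_3 lc_f_rc_14_3 lc_f_rc_14_3 lc_f_rc_5_3 lc_f_rc_14_3 lc_f_rc_14_3 lc_f_rc_14_3 lc_f_rc_10_3 lc_f_rc_10_3 lc_f_rc_5_3 lc_f_rc_10_3 lc_f_rc_17_3 lc_f_rc_17_1 lc_f_rc_17_1 lc_f_rc_14_1 lc_f_rc_21_1 lc_f_rc_19_3 lc_f_rc_5_1 lc_f_rc_5_3 lc_f_Cert_tree lc_f_rc_14_3 lc_f_rc_20_1) (@D3.rec (fun _ =>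 (Cert rels S Gen.f)) lc_f_rc_5_3 lc_f_rc_10_3 lc_f_rc_14_1 lc_f_rc_20_1 lc_f_rc_14_3 lc_f_rc_10_3 lc_f_rc_17_3 lc_f_rc_10_1 lc_f_rc_5_1 lc_f_rc_10_3 lc_f_rc_10_3 lc_f_rc_20_1 lc_f_rc_22_1 lc_f_rc_20_1 lc_f_rc_20_1 lc_f_rc_21_1 lc_f_rc_17_3 lc_f_rc_17_1 lc_f_rc_14_3 lc_f_rc_14_3 lc_f_rc_17_3 lc_f_rc_17_1 lc_f_rc_20_1 lc_f_rc_14_3 lc_f_rc_17_3 lc_f_rc_17_3 lc_f_rc_17_3 lc_f_rc_10_3 lc_f_rc_10_1 lc_f_rc_14_1 lc_f_rc_14_1 lc_f_rc_20_1 lc_f_rc_19_5 lc_f_rc_14_1 lc_f_rc_14_3 lc_f_rc_10_3 lc_f_rc_14_3 lc_f_rc_10_3 lc_f_rc_21_1 lc_f_rc_21_1 lc_f_rc_21_1 lc_f_Cert_tree lc_f_rc_20_1 lc_f_rc_19_5 lc_f_rc_20_1 lc_f_rc_5_1 lc_f_rc_10_1 lc_f_rc_17_3 lc_f_rc_20_1 lc_f_rc_22_1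 lc_f_rc_17_3 lc_f_rc_10_3 lc_f_rc_14_3 lc_f_Cert_tree lc_f_rc_5_1 lc_f_rc_20_1 lc_f_rc_10_3 lc_f_rc_21_1 lc_f_rc_17_3 lc_f_Cert_tree lc_f_rc_20_1 lc_f_rc_10_3) (@D3.rec (fun _ => (Cert rels S Gen.f)) lc_f_rc_21_1 lc_f_rc_20_1 lc_f_rc_17_3 lc_f_rc_21_1 lc_f_rc_14_3 lc_f_rc_10_3 lc_f_rc_10_3 lc_f_rc_14_1 lc_f_rc_21_1 lc_f_rc_20_1 lc_f_rc_21_1 lc_f_rc_17_1 lc_f_rc_10_3 lc_f_Cert_tree lc_f_rc_19_5 lc_f_rc_19_5 lc_f_rc_10_3 lc_f_rc_20_1 lc_f_rc_14_3 lc_f_rc_22_1 lc_f_rc_17_3 lc_f_rc_10_3 lc_f_rc_14_3 lc_f_rc_10_3 lc_f_Cert_tree lc_f_rc_22_1 lc_f_rc_20_1 lc_f_rc_20_1 lc_f_rc_17_3 lc_f_rc_10_3 lc_f_rc_14_3 lc_f_rc_17_1 lc_f_rc_21_1 lc_f_rc_14_3 lc_f_rc_20_1 lc_f_rc_19_3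 lc_f_rc_14_1 lc_f_rc_5_3 lc_f_rc_10_3 lc_f_rc_10_3 lc_f_rc_19_5 lc_f_rc_21_1 lc_f_rc_17_3 lc_f_rc_5_3 lc_f_rc_10_3 lc_f_rc_10_3 lc_f_rc_21_1 lc_f_rc_5_1 lc_f_rc_10_3 lc_f_rc_20_1 lc_f_rc_17_3 lc_f_rc_10_3 lc_f_rc_10_1 lc_f_rc_20_1 lc_f_rc_10_1 lc_f_rc_21_1 lc_f_Cert_tree lc_f_rc_20_1 lc_f_rc_10_3 lc_f_rc_22_1 lc_f_rc_10_3 lc_f_rc_10_3) (@D3.rec (fun _ => (Cert rels S Gen.f)) lc_f_rc_17_3 lc_f_rc_14_3 lc_f_rc_5_1 lc_f_rc_17_3 lc_f_rc_10_3 lc_f_rc_20_1 lc_f_rc_22_1 lc_f_Cert_tree lc_f_rc_19_5 lc_f_rc_10_1 lc_f_rc_5_3 lc_f_rc_10_1 lc_f_rc_10_3 lc_f_rc_19_5 lc_f_rc_17_1 lc_f_rc_10_3 lc_f_rc_21_1 lc_f_rc_17_3 lc_f_rc_17_3 lc_f_rc_20_1 lc_f_rc_21_1 lc_f_rc_10_3 lc_f_rc_22_1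 lc_f_rc_10_3 lc_f_rc_21_1 lc_f_rc_20_1 lc_f_rc_22_1 lc_f_rc_21_1 lc_f_rc_14_3 lc_f_rc_5_3 lc_f_rc_10_1 lc_f_rc_14_3 lc_f_rc_14_1 lc_f_rc_10_3 lc_f_rc_19_5 lc_f_rc_22_1 lc_f_rc_5_3 lc_f_rc_19_1 lc_f_rc_10_3 lc_f_rc_17_1 lc_f_rc_19_3 lc_f_rc_14_3 lc_f_rc_10_3 lc_f_rc_5_1 lc_f_rc_17_3 lc_f_rc_17_1 lc_f_rc_14_3 lc_f_rc_10_3 lc_f_rc_17_3 lc_f_rc_14_1 lc_f_rc_17_1 lc_f_rc_17_3 lc_f_rc_10_3 lc_f_rc_10_1 lc_f_rc_10_3 lc_f_rc_17_3 lc_f_rc_10_3 lc_f_rc_5_1 lc_f_rc_10_1 lc_f_rc_10_3 lc_f_rc_19_3 lc_f_rc_22_1) (@D3.rec (fun _ => (Cert rels S Gen.f)) lc_f_rc_20_1 lc_f_rc_17_3 lc_f_rc_14_3 lc_f_rc_21_1 lc_f_rc_14_3 lc_f_rc_5_3 lc_f_rc_20_1 lc_f_rc_20_1 lc_f_rc_10_3 lc_f_rc_17_1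 lc_f_rc_14_1 lc_f_rc_17_3 lc_f_rc_21_1 lc_f_rc_19_3 lc_f_rc_10_3 lc_f_rc_5_3 lc_f_rc_5_1 lc_f_rc_19_3 lc_f_rc_5_3 lc_f_rc_17_3 lc_f_rc_10_3 lc_f_rc_14_3 lc_f_rc_5_1 lc_f_rc_14_1 lc_f_rc_19_3 lc_f_rc_10_1 lc_f_rc_19_3 lc_f_rc_5_3 lc_f_rc_14_3 lc_f_rc_17_1 lc_f_rc_5_3 lc_f_rc_5_3 lc_f_rc_19_3 lc_f_rc_10_3 lc_f_rc_20_1 lc_f_rc_10_1 lc_f_rc_17_3 lc_f_rc_22_1 lc_f_rc_21_1 lc_f_rc_14_1 lc_f_rc_14_3 lc_f_rc_10_3 lc_f_rc_17_3 lc_f_rc_17_3 lc_f_rc_19_3 lc_f_rc_14_3 lc_f_rc_10_1 lc_f_rc_17_3 lc_f_rc_17_3 lc_f_rc_21_1 lc_f_rc_19_5 lc_f_rc_14_3 lc_f_rc_14_3 lc_f_rc_10_1 lc_f_rc_17_1 lc_f_rc_10_3 lc_f_rc_10_3 lc_f_rc_14_3 lc_f_rc_14_3 lc_f_rc_20_1 lc_f_rc_14_3 lc_f_rc_17_3)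 (@D3.rec (fun _ => (Cert rels S Gen.f)) lc_f_rc_10_3 lc_f_rc_17_3 lc_f_rc_5_3 lc_f_rc_21_1 lc_f_rc_21_1 lc_f_rc_17_1 lc_f_rc_14_3 lc_f_rc_14_3 lc_f_rc_17_1 lc_f_rc_17_1 lc_f_rc_19_3 lc_f_rc_5_3 lc_f_rc_10_1 lc_f_rc_10_3 lc_f_rc_17_3 lc_f_rc_17_3 lc_f_rc_10_3 lc_f_rc_21_1 lc_f_rc_17_3 lc_f_rc_17_1 lc_f_rc_17_3 lc_f_rc_14_3 lc_f_rc_22_1 lc_f_rc_5_3 lc_f_rc_17_3 lc_f_rc_5_3 lc_f_rc_14_3 lc_f_rc_22_1 lc_f_rc_20_1 lc_f_rc_19_5 lc_f_rc_14_1 lc_f_rc_14_1 lc_f_rc_17_3 lc_f_rc_17_3 lc_f_rc_10_1 lc_f_rc_14_3 lc_f_rc_14_3 lc_f_rc_14_3 lc_f_rc_21_1 lc_f_rc_17_1 lc_f_rc_17_3 lc_f_rc_5_1 lc_f_rc_14_3 lc_f_rc_20_1 lc_f_rc_14_3 lc_f_rc_17_3 lc_f_rc_19_1 lc_f_rc_10_3 lc_f_rc_19_3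 lc_f_rc_14_1 lc_f_rc_17_3 lc_f_rc_20_1 lc_f_rc_5_3 lc_f_rc_20_1 lc_f_rc_17_1 lc_f_rc_14_1 lc_f_rc_17_1 lc_f_rc_20_1 lc_f_rc_14_3 lc_f_rc_14_3 lc_f_rc_5_3 lc_f_rc_10_3) (@D3.rec (fun _ => (Cert rels S Gen.f)) lc_f_rc_20_1 lc_f_rc_5_3 lc_f_rc_14_1 lc_f_rc_14_3 lc_f_rc_21_1 lc_f_rc_20_1 lc_f_rc_14_3 lc_f_rc_14_1 lc_f_rc_10_3 lc_f_rc_17_3 lc_f_rc_5_1 lc_f_rc_10_3 lc_f_rc_19_3 lc_f_rc_20_1 lc_f_rc_20_1 lc_f_rc_17_3 lc_f_rc_14_3 lc_f_rc_17_3 lc_f_rc_5_1 lc_f_rc_10_3 lc_f_rc_17_3 lc_f_Cert_tree lc_f_rc_14_3 lc_f_rc_21_1 lc_f_rc_19_5 lc_f_rc_10_1 lc_f_rc_10_3 lc_f_rc_20_1 lc_f_rc_21_1 lc_f_rc_20_1 lc_f_Cert_tree lc_f_rc_20_1 lc_f_rc_10_3 lc_f_rc_21_1 lc_f_rc_17_3 lc_f_rc_20_1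 lc_f_rc_10_3 lc_f_rc_5_1 lc_f_rc_14_3 lc_f_rc_10_3 lc_f_rc_5_3 lc_f_rc_20_1 lc_f_rc_21_1 lc_f_rc_20_1 lc_f_rc_21_1 lc_f_rc_20_1 lc_f_rc_17_1 lc_f_rc_20_1 lc_f_rc_17_3 lc_f_rc_17_3 lc_f_rc_10_3 lc_f_rc_17_3 lc_f_rc_17_1 lc_f_rc_14_3 lc_f_rc_19_5 lc_f_rc_10_1 lc_f_rc_20_1 lc_f_rc_21_1 lc_f_rc_14_3 lc_f_Cert_tree lc_f_rc_20_1 lc_f_rc_5_1) (@D3.rec (fun _ => (Cert rels S Gen.f)) lc_f_rc_20_1 lc_f_rc_19_1 lc_f_rc_17_1 lc_f_rc_14_3 lc_f_rc_20_1 lc_f_rc_20_1 lc_f_rc_10_1 lc_f_rc_17_3 lc_f_rc_10_1 lc_f_rc_19_3 lc_f_rc_17_1 lc_f_rc_20_1 lc_f_rc_17_3 lc_f_rc_21_1 lc_f_rc_10_1 lc_f_rc_14_3 lc_f_rc_14_3 lc_f_rc_20_1 lc_f_rc_10_3 lc_f_rc_19_3 lc_f_rc_10_3 lc_f_rc_14_3 lc_f_rc_21_1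 lc_f_rc_17_3 lc_f_rc_10_3 lc_f_rc_20_1 lc_f_rc_21_1 lc_f_rc_17_3 lc_f_rc_17_3 lc_f_rc_17_3 lc_f_rc_17_3 lc_f_rc_14_3 lc_f_rc_20_1 lc_f_rc_22_1 lc_f_rc_19_3 lc_f_rc_10_3 lc_f_rc_20_1 lc_f_rc_10_3 lc_f_rc_10_1 lc_f_rc_17_3 lc_f_rc_5_1 lc_f_rc_17_3 lc_f_rc_10_3 lc_f_rc_19_3 lc_f_rc_20_1 lc_f_rc_17_1 lc_f_rc_17_1 lc_f_rc_21_1 lc_f_rc_14_3 lc_f_rc_20_1 lc_f_rc_19_3 lc_f_rc_22_1 lc_f_rc_17_3 lc_f_rc_14_3 lc_f_rc_10_1 lc_f_rc_19_1 lc_f_rc_14_1 lc_f_rc_20_1 lc_f_rc_20_1 lc_f_rc_14_3 lc_f_rc_10_3 lc_f_rc_17_1) (@D3.rec (fun _ => (Cert rels S Gen.f)) lc_f_rc_20_1 lc_f_rc_17_3 lc_f_rc_5_3 lc_f_rc_19_3 lc_f_rc_20_1 lc_f_rc_20_1 lc_f_rc_20_1 lc_f_rc_21_1 lc_f_rc_10_3 lc_f_Cert_tree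 lc_f_rc_14_3 lc_f_rc_10_3 lc_f_rc_20_1 lc_f_rc_17_1 lc_f_rc_20_1 lc_f_rc_5_1 lc_f_rc_19_5 lc_f_rc_14_3 lc_f_rc_17_1 lc_f_rc_21_1 lc_f_rc_20_1 lc_f_rc_10_3 lc_f_rc_20_1 lc_f_rc_20_1 lc_f_rc_5_3 lc_f_rc_14_3 lc_f_rc_20_1 lc_f_rc_20_1 lc_f_rc_10_1 lc_f_rc_17_1 lc_f_rc_19_3 lc_f_rc_21_1 lc_f_rc_19_3 lc_f_rc_14_3 lc_f_rc_17_3 lc_f_rc_10_3 lc_f_rc_17_3 lc_f_rc_17_3 lc_f_rc_14_3 lc_f_rc_21_1 lc_f_rc_5_1 lc_f_rc_20_1 lc_f_rc_10_3 lc_f_rc_14_3 lc_f_rc_10_3 lc_f_rc_19_3 lc_f_rc_10_3 lc_f_rc_5_3 lc_f_rc_20_1 lc_f_rc_17_3 lc_f_rc_10_3 lc_f_rc_5_3 lc_f_rc_20_1 lc_f_rc_17_3 lc_f_rc_5_3 lc_f_rc_5_1 lc_f_rc_17_1 lc_f_rc_14_3 lc_f_rc_10_3 lc_f_rc_10_3 lc_f_rc_20_1 lc_f_rc_19_5)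 (@D3.rec (fun _ => (Cert rels S Gen.f)) lc_f_rc_21_1 lc_f_rc_21_1 lc_f_rc_14_3 lc_f_rc_20_1 lc_f_Cert_tree lc_f_rc_20_1 lc_f_rc_14_3 lc_f_rc_10_3 lc_f_rc_19_1 lc_f_rc_21_1 lc_f_rc_10_3 lc_f_rc_17_1 lc_f_rc_10_3 lc_f_rc_17_3 lc_f_rc_17_1 lc_f_rc_5_3 lc_f_rc_10_3 lc_f_rc_22_1 lc_f_rc_17_3 lc_f_rc_14_3 lc_f_rc_19_3 lc_f_rc_10_3 lc_f_rc_21_1 lc_f_rc_21_1 lc_f_rc_10_3 lc_f_rc_10_1 lc_f_rc_14_3 lc_f_rc_20_1 lc_f_rc_17_1 lc_f_rc_21_1 lc_f_rc_14_3 lc_f_rc_20_1 lc_f_rc_17_3 lc_f_rc_17_3 lc_f_rc_17_3 lc_f_rc_5_1 lc_f_rc_20_1 lc_f_rc_19_1 lc_f_rc_17_3 lc_f_rc_5_1 lc_f_rc_17_3 lc_f_rc_14_3 lc_f_rc_10_3 lc_f_rc_20_1 lc_f_rc_5_1 lc_f_rc_17_1 lc_f_rc_20_1 lc_f_rc_17_3 lc_f_rc_20_1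 lc_f_rc_21_1 lc_f_rc_17_3 lc_f_rc_10_1 lc_f_rc_20_1 lc_f_Cert_tree lc_f_Cert_tree lc_f_rc_20_1 lc_f_rc_17_1 lc_f_rc_14_3 lc_f_rc_14_3 lc_f_rc_5_1 lc_f_rc_14_1 lc_f_rc_17_1) (@D3.rec (fun _ => (Cert rels S Gen.f)) lc_f_rc_19_3 lc_f_rc_19_1 lc_f_rc_17_3 lc_f_rc_17_3 lc_f_rc_17_3 lc_f_rc_20_1 lc_f_rc_5_1 lc_f_rc_17_3 lc_f_rc_14_1 lc_f_rc_10_3 lc_f_rc_20_1 lc_f_rc_10_3 lc_f_rc_14_1 lc_f_rc_17_3 lc_f_rc_5_1 lc_f_rc_17_3 lc_f_rc_17_1 lc_f_rc_14_1 lc_f_rc_20_1 lc_f_rc_5_3 lc_f_rc_10_3 lc_f_rc_17_3 lc_f_rc_17_1 lc_f_rc_17_3 lc_f_rc_5_3 lc_f_rc_10_1 lc_f_rc_22_1 lc_f_rc_14_3 lc_f_rc_14_3 lc_f_Cert_tree lc_f_rc_20_1 lc_f_rc_17_3 lc_f_rc_22_1 lc_f_rc_21_1 lc_f_rc_10_3 lc_f_rc_10_3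 lc_f_rc_14_1 lc_f_rc_17_1 lc_f_rc_20_1 lc_f_rc_21_1 lc_f_Cert_tree lc_f_rc_20_1 lc_f_rc_17_3 lc_f_rc_21_1 lc_f_rc_10_3 lc_f_rc_10_3 lc_f_rc_14_3 lc_f_rc_14_3 lc_f_rc_19_5 lc_f_rc_14_1 lc_f_rc_17_1 lc_f_rc_5_1 lc_f_rc_19_3 lc_f_rc_17_3 lc_f_rc_21_1 lc_f_rc_10_3 lc_f_rc_22_1 lc_f_rc_19_3 lc_f_rc_17_1 lc_f_rc_21_1 lc_f_rc_17_3 lc_f_rc_14_1) (@D3.rec (fun _ => (Cert rels S Gen.f)) lc_f_rc_20_1 lc_f_rc_14_3 lc_f_rc_19_3 lc_f_rc_20_1 lc_f_rc_14_3 lc_f_rc_17_1 lc_f_rc_19_3 lc_f_rc_17_3 lc_f_rc_21_1 lc_f_rc_17_1 lc_f_rc_21_1 lc_f_rc_14_3 lc_f_rc_17_1 lc_f_rc_14_3 lc_f_rc_17_3 lc_f_rc_14_3 lc_f_rc_19_5 lc_f_rc_17_1 lc_f_rc_14_3 lc_f_rc_21_1 lc_f_rc_14_1 lc_f_rc_17_3 lc_f_rc_10_3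 lc_f_rc_10_3 lc_f_rc_10_3 lc_f_rc_19_3 lc_f_rc_17_3 lc_f_Cert_tree lc_f_rc_14_3 lc_f_rc_20_1 lc_f_rc_10_3 lc_f_Cert_tree lc_f_rc_17_3 lc_f_rc_20_1 lc_f_rc_20_1 lc_f_rc_10_3 lc_f_rc_17_3 lc_f_rc_10_3 lc_f_rc_19_3 lc_f_rc_21_1 lc_f_rc_20_1 lc_f_rc_10_1 lc_f_rc_20_1 lc_f_rc_10_1 lc_f_rc_17_3 lc_f_rc_17_1 lc_f_rc_14_1 lc_f_rc_17_3 lc_f_rc_14_1 lc_f_rc_20_1 lc_f_rc_5_3 lc_f_rc_10_3 lc_f_rc_19_3 lc_f_rc_20_1 lc_f_rc_17_3 lc_f_rc_19_1 lc_f_rc_17_3 lc_f_rc_14_3 lc_f_rc_14_1 lc_f_rc_14_1 lc_f_rc_14_3 lc_f_rc_14_3) (@D3.rec (fun _ => (Cert rels S Gen.f)) lc_f_rc_17_3 lc_f_rc_21_1 lc_f_rc_5_3 lc_f_rc_10_3 lc_f_rc_10_3 lc_f_rc_17_3 lc_f_rc_14_3 lc_f_rc_14_3 lc_f_rc_5_1 lc_f_rc_17_3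 lc_f_rc_10_3 lc_f_rc_19_3 lc_f_rc_5_3 lc_f_rc_20_1 lc_f_rc_10_3 lc_f_rc_10_3 lc_f_rc_17_3 lc_f_rc_20_1 lc_f_rc_19_3 lc_f_rc_10_3 lc_f_rc_20_1 lc_f_rc_20_1 lc_f_rc_21_1 lc_f_rc_17_3 lc_f_rc_21_1 lc_f_rc_14_1 lc_f_rc_17_3 lc_f_rc_14_3 lc_f_rc_17_3 lc_f_rc_21_1 lc_f_Cert_tree lc_f_rc_20_1 lc_f_rc_21_1 lc_f_rc_14_3 lc_f_rc_10_1 lc_f_Cert_tree lc_f_rc_20_1 lc_f_rc_14_3 lc_f_rc_10_3 lc_f_rc_14_3 lc_f_rc_14_1 lc_f_rc_17_3 lc_f_Cert_tree lc_f_rc_17_3 lc_f_rc_21_1 lc_f_Cert_tree lc_f_rc_14_3 lc_f_rc_17_3 lc_f_rc_10_1 lc_f_rc_21_1 lc_f_rc_14_3 lc_f_rc_21_1 lc_f_rc_14_1 lc_f_rc_14_3 lc_f_rc_20_1 lc_f_rc_19_3 lc_f_rc_5_3 lc_f_rc_20_1 lc_f_rc_21_1 lc_f_rc_14_3 lc_f_Cert_tree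 lc_f_rc_21_1) (@D3.rec (fun _ => (Cert rels S Gen.f)) lc_f_rc_14_3 lc_f_rc_14_3 lc_f_rc_20_1 lc_f_rc_20_1 lc_f_rc_10_1 lc_f_rc_19_1 lc_f_rc_14_3 lc_f_rc_14_1 lc_f_rc_20_1 lc_f_rc_20_1 lc_f_rc_17_3 lc_f_rc_17_3 lc_f_rc_14_3 lc_f_rc_10_3 lc_f_rc_22_1 lc_f_rc_21_1 lc_f_rc_17_1 lc_f_rc_10_3 lc_f_rc_5_1 lc_f_rc_17_3 lc_f_rc_10_3 lc_f_rc_20_1 lc_f_rc_19_3 lc_f_rc_10_3 lc_f_rc_17_3 lc_f_rc_19_3 lc_f_Cert_tree lc_f_rc_17_3 lc_f_rc_5_3 lc_f_rc_17_3 lc_f_rc_17_3 lc_f_rc_10_1 lc_f_rc_10_3 lc_f_rc_19_3 lc_f_rc_10_1 lc_f_rc_19_3 lc_f_rc_17_3 lc_f_rc_21_1 lc_f_rc_5_1 lc_f_rc_17_1 lc_f_rc_10_3 lc_f_Cert_tree lc_f_rc_17_3 lc_f_Cert_tree lc_f_rc_10_3 lc_f_rc_17_1 lc_f_rc_20_1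 lc_f_rc_14_3 lc_f_rc_14_3 lc_f_rc_14_3 lc_f_rc_17_3 lc_f_rc_14_3 lc_f_rc_17_3 lc_f_rc_19_3 lc_f_rc_14_3 lc_f_rc_20_1 lc_f_rc_14_3 lc_f_rc_20_1 lc_f_rc_22_1 lc_f_rc_10_3 lc_f_rc_19_3 lc_f_rc_10_3) (@D3.rec (fun _ => (Cert rels S Gen.f)) lc_f_rc_10_3 lc_f_rc_17_3 lc_f_rc_19_3 lc_f_rc_17_3 lc_f_rc_14_3 lc_f_rc_17_3 lc_f_rc_17_3 lc_f_rc_19_1 lc_f_rc_19_5 lc_f_rc_21_1 lc_f_rc_17_3 lc_f_rc_5_1 lc_f_rc_17_3 lc_f_rc_17_3 lc_f_rc_20_1 lc_f_rc_10_3 lc_f_rc_10_3 lc_f_rc_10_3 lc_f_rc_10_3 lc_f_rc_10_3 lc_f_rc_17_1 lc_f_rc_20_1 lc_f_rc_5_3 lc_f_rc_5_3 lc_f_rc_19_5 lc_f_rc_20_1 lc_f_rc_17_3 lc_f_rc_10_3 lc_f_rc_14_3 lc_f_rc_17_3 lc_f_rc_5_1 lc_f_rc_5_3 lc_f_rc_21_1 lc_f_rc_20_1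 lc_f_rc_14_1 lc_f_rc_20_1 lc_f_rc_14_1 lc_f_rc_20_1 lc_f_rc_20_1 lc_f_rc_17_3 lc_f_rc_10_1 lc_f_rc_21_1 lc_f_rc_20_1 lc_f_rc_10_1 lc_f_rc_14_3 lc_f_rc_20_1 lc_f_rc_17_3 lc_f_rc_21_1 lc_f_rc_14_3 lc_f_rc_17_1 lc_f_rc_20_1 lc_f_rc_20_1 lc_f_rc_17_3 lc_f_rc_17_3 lc_f_rc_17_1 lc_f_rc_14_3 lc_f_rc_20_1 lc_f_rc_17_3 lc_f_rc_17_3 lc_f_rc_20_1 lc_f_rc_21_1 lc_f_rc_5_1) (@D3.rec (fun _ => (Cert rels S Gen.f)) lc_f_rc_17_3 lc_f_rc_14_3 lc_f_rc_20_1 lc_f_rc_14_3 lc_f_rc_14_1 lc_f_rc_20_1 lc_f_rc_17_3 lc_f_rc_22_1 lc_f_rc_20_1 lc_f_rc_17_3 lc_f_rc_22_1 lc_f_rc_10_1 lc_f_rc_20_1 lc_f_rc_10_3 lc_f_rc_14_3 lc_f_rc_17_3 lc_f_rc_17_3 lc_f_rc_14_3 lc_f_rc_14_1 lc_f_rc_17_3 lc_f_rc_10_3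 lc_f_rc_17_1 lc_f_rc_21_1 lc_f_rc_10_3 lc_f_rc_10_1 lc_f_rc_21_1 lc_f_rc_5_1 lc_f_rc_10_1 lc_f_rc_17_3 lc_f_rc_20_1 lc_f_rc_10_1 lc_f_rc_17_1 lc_f_rc_10_1 lc_f_rc_17_1 lc_f_rc_21_1 lc_f_rc_17_1 lc_f_rc_10_3 lc_f_rc_21_1 lc_f_rc_22_1 lc_f_rc_17_3 lc_f_rc_19_3 lc_f_rc_17_3 lc_f_rc_21_1 lc_f_rc_20_1 lc_f_rc_10_3 lc_f_rc_17_3 lc_f_rc_22_1 lc_f_rc_10_3 lc_f_rc_19_5 lc_f_rc_10_3 lc_f_rc_10_1 lc_f_rc_17_3 lc_f_rc_10_1 lc_f_rc_14_1 lc_f_rc_20_1 lc_f_rc_10_3 lc_f_rc_19_5 lc_f_rc_10_3 lc_f_rc_17_3 lc_f_rc_17_1 lc_f_rc_20_1 lc_f_rc_19_3) (@D3.rec (fun _ => (Cert rels S Gen.f)) lc_f_rc_21_1 lc_f_rc_20_1 lc_f_rc_19_1 lc_f_rc_14_1 lc_f_rc_22_1 lc_f_rc_21_1 lc_f_rc_14_3 lc_f_rc_5_3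 lc_f_rc_20_1 lc_f_rc_10_1 lc_f_rc_10_1 lc_f_rc_19_1 lc_f_rc_14_3 lc_f_rc_10_1 lc_f_rc_10_3 lc_f_rc_5_1 lc_f_rc_17_3 lc_f_rc_17_3 lc_f_rc_10_3 lc_f_rc_17_3 lc_f_rc_10_3 lc_f_rc_14_3 lc_f_rc_17_3 lc_f_rc_10_3 lc_f_rc_10_3 lc_f_rc_21_1 lc_f_rc_14_3 lc_f_rc_20_1 lc_f_rc_21_1 lc_f_rc_5_1 lc_f_rc_10_1 lc_f_rc_10_3 lc_f_rc_14_3 lc_f_rc_10_3 lc_f_rc_5_3 lc_f_rc_19_1 lc_f_rc_5_1 lc_f_rc_17_3 lc_f_rc_22_1 lc_f_rc_20_1 lc_f_rc_10_3 lc_f_rc_20_1 lc_f_rc_17_3 lc_f_rc_17_3 lc_f_rc_22_1 lc_f_rc_14_1 lc_f_rc_19_1 lc_f_rc_21_1 lc_f_rc_17_3 lc_f_rc_10_1 lc_f_rc_17_1 lc_f_rc_20_1 lc_f_rc_5_3 lc_f_rc_20_1 lc_f_rc_14_3 lc_f_rc_17_3 lc_f_rc_17_3 lc_f_rc_22_1 lc_f_rc_14_1 lc_f_rc_20_1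 lc_f_rc_10_3 lc_f_rc_10_3) (@D3.rec (fun _ => (Cert rels S Gen.f)) lc_f_rc_5_3 lc_f_rc_19_3 lc_f_rc_19_3 lc_f_rc_21_1 lc_f_rc_10_3 lc_f_rc_22_1 lc_f_rc_17_3 lc_f_rc_17_1 lc_f_rc_5_3 lc_f_rc_14_3 lc_f_rc_22_1 lc_f_rc_14_1 lc_f_rc_10_1 lc_f_rc_17_3 lc_f_rc_20_1 lc_f_rc_14_3 lc_f_rc_19_3 lc_f_rc_10_3 lc_f_rc_17_3 lc_f_rc_5_3 lc_f_rc_17_1 lc_f_rc_10_1 lc_f_rc_14_3 lc_f_rc_17_3 lc_f_rc_14_1 lc_f_rc_20_1 lc_f_rc_21_1 lc_f_rc_17_3 lc_f_rc_5_1 lc_f_rc_19_3 lc_f_rc_10_1 lc_f_rc_21_1 lc_f_rc_14_1 lc_f_rc_14_3 lc_f_rc_17_3 lc_f_rc_21_1 lc_f_rc_20_1 lc_f_rc_14_1 lc_f_rc_20_1 lc_f_rc_21_1 lc_f_rc_20_1 lc_f_rc_10_3 lc_f_rc_21_1 lc_f_rc_14_3 lc_f_rc_19_3 lc_f_rc_17_3 lc_f_rc_20_1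 lc_f_rc_20_1 lc_f_rc_14_3 lc_f_rc_17_3 lc_f_rc_20_1 lc_f_rc_20_1 lc_f_rc_17_1 lc_f_rc_17_3 lc_f_rc_17_3 lc_f_rc_14_3 lc_f_rc_20_1 lc_f_rc_14_3 lc_f_rc_20_1 lc_f_rc_20_1 lc_f_rc_21_1 lc_f_rc_14_3) (@D3.rec (fun _ => (Cert rels S Gen.f)) lc_f_rc_22_1 lc_f_rc_17_3 lc_f_rc_17_3 lc_f_rc_20_1 lc_f_rc_21_1 lc_f_rc_20_1 lc_f_rc_17_3 lc_f_rc_19_5 lc_f_rc_5_1 lc_f_rc_10_3 lc_f_rc_20_1 lc_f_rc_10_1 lc_f_rc_5_3 lc_f_rc_20_1 lc_f_rc_14_3 lc_f_rc_17_1 lc_f_rc_5_3 lc_f_rc_17_3 lc_f_rc_17_3 lc_f_rc_14_3 lc_f_rc_17_3 lc_f_rc_20_1 lc_f_rc_10_1 lc_f_rc_14_1 lc_f_rc_14_1 lc_f_rc_17_1 lc_f_rc_20_1 lc_f_rc_19_3 lc_f_rc_22_1 lc_f_rc_17_3 lc_f_rc_10_1 lc_f_rc_14_1 lc_f_rc_17_3 lc_f_rc_10_1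 lc_f_rc_5_3 lc_f_rc_5_3 lc_f_rc_17_3 lc_f_rc_14_3 lc_f_rc_20_1 lc_f_rc_10_1 lc_f_rc_10_3 lc_f_rc_17_1 lc_f_rc_22_1 lc_f_rc_22_1 lc_f_rc_17_3 lc_f_rc_14_3 lc_f_rc_17_1 lc_f_rc_14_3 lc_f_rc_10_1 lc_f_rc_17_3 lc_f_rc_17_3 lc_f_rc_19_3 lc_f_rc_20_1 lc_f_rc_17_3 lc_f_rc_17_1 lc_f_rc_14_3 lc_f_rc_5_3 lc_f_rc_20_1 lc_f_rc_17_3 lc_f_rc_10_1 lc_f_rc_19_3 lc_f_rc_17_1)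
def ce_f_27 : D2 → D3 → (Cert rels S Gen.f) := @D2.rec (fun _ => D3 → (Cert rels S Gen.f)) (@D3.rec (fun _ => (Cert rels S Gen.f)) lc_f_rc_21_1 lc_f_rc_17_3 lc_f_rc_20_1 lc_f_rc_10_3 lc_f_rc_5_3 lc_f_rc_19_1 lc_f_rc_14_3 lc_f_rc_14_3 lc_f_rc_20_1 lc_f_rc_14_3 lc_f_rc_14_3 lc_f_rc_21_1 lc_f_rc_17_3 lc_f_rc_17_1 lc_f_rc_19_1 lc_f_rc_19_3 lc_f_rc_19_3 lc_f_rc_21_1 lc_f_rc_5_1 lc_f_rc_20_1 lc_f_rc_19_5 lc_f_rc_14_3 lc_f_rc_14_3 lc_f_rc_14_3 lc_f_rc_10_3 lc_f_rc_14_1 lc_f_rc_19_3 lc_f_rc_17_3 lc_f_rc_21_1 lc_f_rc_5_1 lc_f_rc_17_3 lc_f_rc_14_3 lc_f_rc_5_3 lc_f_rc_17_3 lc_f_rc_20_1 lc_f_rc_14_3 lc_f_rc_10_1 lc_f_rc_17_3 lc_f_rc_10_1 lc_f_rc_17_1 lc_f_rc_10_3 lc_f_rc_14_3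 lc_f_rc_10_3 lc_f_rc_20_1 lc_f_rc_14_1 lc_f_rc_10_3 lc_f_rc_14_3 lc_f_rc_10_3 lc_f_rc_19_3 lc_f_rc_22_1 lc_f_rc_17_1 lc_f_rc_14_3 lc_f_rc_5_3 lc_f_rc_22_1 lc_f_rc_22_1 lc_f_rc_17_3 lc_f_rc_19_3 lc_f_rc_20_1 lc_f_rc_17_3 lc_f_rc_14_3 lc_f_rc_14_3 lc_f_rc_17_3) (@D3.rec (fun _ => (Cert rels S Gen.f)) lc_f_rc_17_3 lc_f_rc_5_1 lc_f_rc_14_1 lc_f_rc_5_1 lc_f_rc_10_1 lc_f_rc_14_3 lc_f_rc_17_3 lc_f_rc_10_3 lc_f_rc_17_3 lc_f_rc_17_1 lc_f_rc_14_3 lc_f_rc_22_1 lc_f_rc_10_3 lc_f_rc_17_1 lc_f_rc_21_1 lc_f_rc_20_1 lc_f_rc_5_1 lc_f_rc_5_3 lc_f_rc_14_1 lc_f_rc_19_3 lc_f_rc_14_1 lc_f_rc_17_3 lc_f_rc_19_3 lc_f_rc_14_3 lc_f_rc_20_1 lc_f_rc_14_3 lc_f_rc_14_3 lc_f_rc_19_1 lc_f_rc_19_1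 lc_f_rc_14_3 lc_f_rc_17_3 lc_f_rc_17_3 lc_f_rc_10_1 lc_f_rc_14_3 lc_f_rc_14_3 lc_f_rc_10_3 lc_f_rc_19_3 lc_f_rc_5_3 lc_f_rc_5_1 lc_f_rc_17_3 lc_f_rc_14_3 lc_f_rc_10_3 lc_f_rc_21_1 lc_f_Cert_tree lc_f_rc_20_1 lc_f_rc_17_3 lc_f_rc_17_3 lc_f_rc_14_1 lc_f_rc_17_3 lc_f_rc_21_1 lc_f_rc_17_3 lc_f_rc_14_3 lc_f_rc_17_1 lc_f_rc_20_1 lc_f_rc_17_3 lc_f_rc_10_3 lc_f_rc_10_3 lc_f_rc_10_1 lc_f_rc_10_3 lc_f_rc_14_1 lc_f_rc_20_1 lc_f_rc_17_3) (@D3.rec (fun _ => (Cert rels S Gen.f)) lc_f_rc_5_3 lc_f_rc_10_3 lc_f_rc_10_3 lc_f_rc_21_1 lc_f_rc_10_3 lc_f_rc_10_3 lc_f_rc_5_1 lc_f_rc_19_3 lc_f_rc_10_3 lc_f_rc_21_1 lc_f_rc_17_3 lc_f_rc_14_3 lc_f_rc_14_1 lc_f_rc_20_1 lc_f_rc_19_3 lc_f_rc_10_3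 lc_f_rc_17_3 lc_f_rc_5_3 lc_f_rc_17_1 lc_f_rc_14_1 lc_f_rc_20_1 lc_f_rc_17_3 lc_f_rc_14_3 lc_f_rc_17_3 lc_f_rc_5_3 lc_f_rc_20_1 lc_f_rc_10_3 lc_f_rc_10_3 lc_f_rc_10_3 lc_f_rc_14_3 lc_f_rc_5_1 lc_f_rc_20_1 lc_f_rc_10_1 lc_f_rc_21_1 lc_f_rc_20_1 lc_f_rc_14_3 lc_f_rc_20_1 lc_f_rc_10_1 lc_f_rc_17_3 lc_f_rc_14_1 lc_f_rc_20_1 lc_f_rc_5_3 lc_f_rc_14_3 lc_f_rc_20_1 lc_f_rc_19_3 lc_f_rc_22_1 lc_f_rc_5_1 lc_f_rc_17_3 lc_f_rc_14_3 lc_f_rc_14_3 lc_f_rc_10_3 lc_f_rc_14_1 lc_f_rc_17_1 lc_f_rc_20_1 lc_f_rc_17_1 lc_f_rc_19_1 lc_f_rc_14_3 lc_f_rc_19_1 lc_f_rc_21_1 lc_f_Cert_tree lc_f_rc_10_3 lc_f_rc_20_1) (@D3.rec (fun _ => (Cert rels S Gen.f)) lc_f_Cert_tree lc_f_rc_20_1 lc_f_rc_10_1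 lc_f_rc_21_1 lc_f_rc_5_3 lc_f_rc_10_3 lc_f_rc_19_3 lc_f_rc_21_1 lc_f_rc_21_1 lc_f_rc_19_3 lc_f_rc_20_1 lc_f_rc_14_1 lc_f_rc_10_1 lc_f_rc_20_1 lc_f_rc_10_3 lc_f_rc_17_3 lc_f_rc_17_3 lc_f_rc_10_3 lc_f_rc_5_3 lc_f_rc_10_3 lc_f_rc_10_1 lc_f_rc_10_3 lc_f_rc_17_3 lc_f_rc_17_3 lc_f_rc_5_3 lc_f_rc_20_1 lc_f_rc_14_3 lc_f_rc_10_3 lc_f_rc_10_3 lc_f_rc_14_3 lc_f_rc_5_3 lc_f_rc_20_1 lc_f_rc_19_1 lc_f_rc_10_3 lc_f_rc_21_1 lc_f_rc_22_1 lc_f_rc_10_3 lc_f_rc_17_3 lc_f_rc_20_1 lc_f_rc_17_3 lc_f_rc_14_1 lc_f_rc_10_3 lc_f_rc_14_3 lc_f_rc_21_1 lc_f_rc_14_1 lc_f_rc_14_3 lc_f_rc_19_5 lc_f_rc_21_1 lc_f_rc_17_1 lc_f_rc_17_3 lc_f_rc_17_3 lc_f_rc_19_5 lc_f_rc_5_1 lc_f_rc_19_3 lc_f_rc_14_3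 lc_f_rc_5_3 lc_f_rc_14_3 lc_f_rc_20_1 lc_f_rc_10_3 lc_f_rc_14_3 lc_f_rc_17_3 lc_f_rc_5_3) (@D3.rec (fun _ => (Cert rels S Gen.f)) lc_f_rc_22_1 lc_f_rc_22_1 lc_f_rc_19_1 lc_f_rc_19_5 lc_f_rc_10_3 lc_f_rc_19_1 lc_f_rc_19_1 lc_f_rc_5_3 lc_f_rc_17_3 lc_f_rc_19_1 lc_f_rc_21_1 lc_f_rc_10_1 lc_f_rc_20_1 lc_f_rc_19_3 lc_f_rc_14_3 lc_f_rc_19_5 lc_f_rc_19_5 lc_f_rc_10_3 lc_f_rc_14_3 lc_f_rc_17_3 lc_f_rc_17_3 lc_f_rc_5_1 lc_f_rc_21_1 lc_f_rc_21_1 lc_f_rc_10_3 lc_f_rc_21_1 lc_f_rc_17_1 lc_f_rc_17_3 lc_f_rc_19_3 lc_f_rc_17_3 lc_f_rc_10_3 lc_f_rc_14_3 lc_f_rc_20_1 lc_f_rc_10_3 lc_f_rc_10_1 lc_f_rc_14_3 lc_f_rc_21_1 lc_f_rc_17_3 lc_f_Cert_tree lc_f_rc_20_1 lc_f_rc_17_3 lc_f_rc_17_3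 lc_f_rc_10_3 lc_f_rc_17_3 lc_f_rc_17_3 lc_f_rc_14_1 lc_f_rc_14_1 lc_f_rc_10_3 lc_f_rc_21_1 lc_f_rc_19_5 lc_f_rc_14_3 lc_f_rc_14_3 lc_f_rc_21_1 lc_f_rc_14_1 lc_f_rc_17_3 lc_f_rc_5_3 lc_f_rc_17_3 lc_f_rc_20_1 lc_f_rc_21_1 lc_f_rc_14_3 lc_f_rc_17_1 lc_f_rc_5_3) (@D3.rec (fun _ => (Cert rels S Gen.f)) lc_f_rc_17_1 lc_f_rc_20_1 lc_f_rc_10_3 lc_f_rc_22_1 lc_f_rc_10_1 lc_f_rc_10_1 lc_f_rc_17_1 lc_f_rc_20_1 lc_f_rc_14_3 lc_f_rc_22_1 lc_f_rc_21_1 lc_f_rc_14_1 lc_f_rc_14_1 lc_f_rc_20_1 lc_f_rc_14_3 lc_f_rc_20_1 lc_f_rc_10_3 lc_f_rc_14_1 lc_f_rc_20_1 lc_f_rc_19_3 lc_f_rc_10_1 lc_f_rc_17_3 lc_f_rc_20_1 lc_f_rc_20_1 lc_f_rc_20_1 lc_f_rc_17_3 lc_f_rc_21_1 lc_f_rc_20_1 lc_f_rc_21_1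 lc_f_rc_14_1 lc_f_rc_21_1 lc_f_rc_17_3 lc_f_rc_17_3 lc_f_rc_21_1 lc_f_rc_19_3 lc_f_rc_20_1 lc_f_rc_22_1 lc_f_rc_21_1 lc_f_rc_21_1 lc_f_rc_14_1 lc_f_rc_20_1 lc_f_rc_14_1 lc_f_rc_5_3 lc_f_rc_14_3 lc_f_rc_20_1 lc_f_rc_10_1 lc_f_rc_21_1 lc_f_rc_5_3 lc_f_rc_5_3 lc_f_rc_19_3 lc_f_rc_14_3 lc_f_rc_10_3 lc_f_rc_22_1 lc_f_rc_14_3 lc_f_rc_19_3 lc_f_rc_14_1 lc_f_rc_17_3 lc_f_rc_17_3 lc_f_rc_17_1 lc_f_rc_20_1 lc_f_rc_10_1 lc_f_rc_10_3) (@D3.rec (fun _ => (Cert rels S Gen.f)) lc_f_rc_17_1 lc_f_rc_14_3 lc_f_rc_22_1 lc_f_rc_14_3 lc_f_rc_22_1 lc_f_rc_17_3 lc_f_rc_14_3 lc_f_rc_17_3 lc_f_rc_17_1 lc_f_rc_19_5 lc_f_rc_21_1 lc_f_rc_17_3 lc_f_rc_10_3 lc_f_rc_14_3 lc_f_rc_10_3 lc_f_rc_21_1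 lc_f_rc_5_3 lc_f_rc_17_3 lc_f_rc_10_3 lc_f_rc_20_1 lc_f_rc_17_3 lc_f_rc_17_3 lc_f_rc_5_1 lc_f_rc_17_3 lc_f_rc_20_1 lc_f_rc_10_3 lc_f_rc_17_3 lc_f_rc_17_3 lc_f_rc_14_3 lc_f_rc_17_1 lc_f_rc_14_3 lc_f_rc_10_3 lc_f_rc_5_3 lc_f_rc_5_3 lc_f_rc_10_3 lc_f_rc_19_3 lc_f_rc_21_1 lc_f_rc_17_3 lc_f_rc_10_3 lc_f_rc_14_3 lc_f_rc_17_3 lc_f_rc_10_3 lc_f_rc_5_1 lc_f_Cert_tree lc_f_rc_14_3 lc_f_rc_20_1 lc_f_rc_21_1 lc_f_rc_17_3 lc_f_rc_5_1 lc_f_Cert_tree lc_f_rc_22_1 lc_f_rc_20_1 lc_f_rc_17_3 lc_f_rc_21_1 lc_f_rc_19_3 lc_f_rc_20_1 lc_f_rc_20_1 lc_f_Cert_tree lc_f_rc_20_1 lc_f_rc_17_3 lc_f_rc_10_3 lc_f_rc_14_3) (@D3.rec (fun _ => (Cert rels S Gen.f)) lc_f_rc_14_3 lc_f_rc_21_1 lc_f_rc_20_1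 lc_f_rc_21_1 lc_f_rc_20_1 lc_f_rc_10_3 lc_f_rc_21_1 lc_f_rc_10_3 lc_f_Cert_tree lc_f_rc_10_3 lc_f_rc_21_1 lc_f_rc_5_3 lc_f_rc_10_3 lc_f_rc_21_1 lc_f_rc_10_3 lc_f_rc_19_1 lc_f_rc_14_1 lc_f_rc_19_1 lc_f_rc_17_3 lc_f_rc_5_1 lc_f_rc_21_1 lc_f_rc_17_3 lc_f_rc_14_3 lc_f_Cert_tree lc_f_rc_21_1 lc_f_rc_17_3 lc_f_Cert_tree lc_f_rc_20_1 lc_f_rc_21_1 lc_f_rc_17_3 lc_f_rc_21_1 lc_f_rc_21_1 lc_f_rc_14_3 lc_f_rc_19_3 lc_f_rc_14_3 lc_f_rc_10_3 lc_f_rc_14_3 lc_f_rc_10_3 lc_f_rc_10_3 lc_f_rc_5_3 lc_f_rc_10_3 lc_f_rc_21_1 lc_f_rc_17_3 lc_f_rc_10_3 lc_f_rc_14_3 lc_f_rc_14_3 lc_f_rc_17_3 lc_f_rc_14_3 lc_f_rc_10_3 lc_f_rc_21_1 lc_f_rc_22_1 lc_f_rc_5_3 lc_f_rc_10_3 lc_f_rc_17_3 lc_f_rc_10_3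 lc_f_rc_17_3 lc_f_rc_21_1 lc_f_rc_20_1 lc_f_rc_17_3 lc_f_rc_17_3 lc_f_rc_14_3 lc_f_rc_10_3) (@D3.rec (fun _ => (Cert rels S Gen.f)) lc_f_rc_14_1 lc_f_rc_5_1 lc_f_rc_17_3 lc_f_rc_14_1 lc_f_rc_10_1 lc_f_rc_19_1 lc_f_rc_10_1 lc_f_rc_17_3 lc_f_rc_14_1 lc_f_rc_14_3 lc_f_rc_20_1 lc_f_rc_14_3 lc_f_rc_10_3 lc_f_rc_17_3 lc_f_rc_17_3 lc_f_rc_17_3 lc_f_rc_10_3 lc_f_rc_10_3 lc_f_rc_19_1 lc_f_rc_10_3 lc_f_rc_20_1 lc_f_rc_17_3 lc_f_rc_21_1 lc_f_rc_5_1 lc_f_rc_20_1 lc_f_rc_14_3 lc_f_Cert_tree lc_f_rc_10_3 lc_f_rc_14_1 lc_f_rc_17_3 lc_f_rc_14_1 lc_f_rc_20_1 lc_f_rc_10_3 lc_f_rc_14_3 lc_f_rc_20_1 lc_f_rc_20_1 lc_f_rc_17_3 lc_f_rc_17_3 lc_f_Cert_tree lc_f_rc_20_1 lc_f_rc_20_1 lc_f_rc_14_1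 lc_f_rc_20_1 lc_f_rc_10_3 lc_f_rc_17_3 lc_f_rc_17_3 lc_f_rc_17_3 lc_f_rc_10_3 lc_f_rc_17_1 lc_f_rc_17_3 lc_f_rc_17_1 lc_f_rc_17_3 lc_f_rc_19_1 lc_f_rc_17_3 lc_f_rc_17_3 lc_f_rc_17_1 lc_f_rc_14_3 lc_f_rc_22_1 lc_f_rc_20_1 lc_f_rc_10_1 lc_f_rc_10_1 lc_f_rc_17_1) (@D3.rec (fun _ => (Cert rels S Gen.f)) lc_f_rc_17_3 lc_f_rc_17_3 lc_f_rc_17_3 lc_f_rc_17_3 lc_f_rc_19_3 lc_f_rc_5_1 lc_f_rc_17_1 lc_f_rc_5_1 lc_f_rc_17_3 lc_f_rc_10_3 lc_f_rc_20_1 lc_f_rc_17_3 lc_f_rc_17_3 lc_f_rc_21_1 lc_f_rc_10_3 lc_f_rc_21_1 lc_f_rc_17_3 lc_f_rc_10_3 lc_f_rc_10_3 lc_f_rc_20_1 lc_f_rc_21_1 lc_f_rc_14_3 lc_f_rc_17_3 lc_f_rc_14_3 lc_f_rc_10_1 lc_f_rc_5_1 lc_f_rc_20_1 lc_f_rc_14_1 lc_f_rc_20_1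 lc_f_rc_19_5 lc_f_rc_20_1 lc_f_rc_21_1 lc_f_rc_19_3 lc_f_rc_19_5 lc_f_rc_19_3 lc_f_rc_21_1 lc_f_rc_19_5 lc_f_rc_20_1 lc_f_rc_21_1 lc_f_rc_14_1 lc_f_rc_10_1 lc_f_rc_17_3 lc_f_rc_14_3 lc_f_rc_22_1 lc_f_rc_10_3 lc_f_rc_5_3 lc_f_rc_14_1 lc_f_rc_14_1 lc_f_rc_14_1 lc_f_rc_14_1 lc_f_rc_14_1 lc_f_rc_22_1 lc_f_rc_17_3 lc_f_rc_14_3 lc_f_rc_10_3 lc_f_rc_14_3 lc_f_rc_20_1 lc_f_rc_19_3 lc_f_rc_20_1 lc_f_rc_10_3 lc_f_rc_14_3 lc_f_rc_17_1) (@D3.rec (fun _ => (Cert rels S Gen.f)) lc_f_rc_10_3 lc_f_rc_20_1 lc_f_rc_5_1 lc_f_rc_19_5 lc_f_rc_17_3 lc_f_rc_20_1 lc_f_rc_14_3 lc_f_rc_10_3 lc_f_rc_10_3 lc_f_rc_19_3 lc_f_rc_21_1 lc_f_rc_20_1 lc_f_rc_17_3 lc_f_rc_5_1 lc_f_rc_14_3 lc_f_rc_17_3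 lc_f_rc_14_3 lc_f_rc_10_3 lc_f_rc_21_1 lc_f_rc_19_5 lc_f_rc_19_5 lc_f_rc_10_1 lc_f_rc_14_1 lc_f_rc_17_3 lc_f_rc_20_1 lc_f_rc_14_3 lc_f_rc_17_3 lc_f_rc_10_3 lc_f_rc_17_3 lc_f_rc_17_3 lc_f_rc_19_3 lc_f_rc_14_1 lc_f_rc_10_3 lc_f_rc_21_1 lc_f_rc_17_1 lc_f_rc_20_1 lc_f_rc_14_1 lc_f_rc_17_3 lc_f_rc_17_3 lc_f_rc_17_3 lc_f_rc_5_3 lc_f_rc_20_1 lc_f_rc_17_3 lc_f_rc_10_1 lc_f_rc_19_3 lc_f_rc_14_3 lc_f_rc_10_1 lc_f_rc_20_1 lc_f_rc_5_1 lc_f_rc_10_3 lc_f_rc_21_1 lc_f_rc_14_1 lc_f_rc_20_1 lc_f_rc_20_1 lc_f_rc_20_1 lc_f_rc_17_3 lc_f_rc_21_1 lc_f_rc_14_1 lc_f_rc_20_1 lc_f_rc_20_1 lc_f_rc_10_3 lc_f_rc_5_1) (@D3.rec (fun _ => (Cert rels S Gen.f)) lc_f_rc_17_3 lc_f_rc_14_3 lc_f_rc_14_1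 lc_f_rc_5_3 lc_f_rc_5_3 lc_f_rc_14_1 lc_f_rc_22_1 lc_f_rc_22_1 lc_f_rc_5_3 lc_f_rc_5_1 lc_f_rc_14_3 lc_f_rc_21_1 lc_f_rc_17_3 lc_f_rc_21_1 lc_f_rc_14_3 lc_f_rc_19_5 lc_f_rc_19_1 lc_f_rc_17_1 lc_f_rc_20_1 lc_f_rc_17_3 lc_f_rc_10_1 lc_f_rc_10_1 lc_f_rc_5_3 lc_f_rc_10_3 lc_f_rc_17_3 lc_f_rc_10_3 lc_f_rc_10_3 lc_f_rc_17_3 lc_f_rc_17_1 lc_f_rc_10_3 lc_f_rc_10_3 lc_f_rc_5_3 lc_f_rc_17_3 lc_f_rc_17_3 lc_f_rc_20_1 lc_f_rc_10_3 lc_f_rc_21_1 lc_f_rc_17_1 lc_f_rc_19_5 lc_f_rc_17_3 lc_f_rc_20_1 lc_f_rc_5_3 lc_f_rc_17_1 lc_f_rc_19_3 lc_f_rc_20_1 lc_f_rc_17_3 lc_f_rc_20_1 lc_f_rc_17_3 lc_f_rc_10_3 lc_f_rc_10_3 lc_f_rc_14_1 lc_f_rc_17_3 lc_f_rc_14_3 lc_f_rc_14_1 lc_f_rc_5_3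 lc_f_rc_20_1 lc_f_rc_19_1 lc_f_rc_17_3 lc_f_rc_14_1 lc_f_rc_10_3 lc_f_rc_17_3 lc_f_rc_14_3) (@D3.rec (fun _ => (Cert rels S Gen.f)) lc_f_rc_17_3 lc_f_rc_10_3 lc_f_rc_10_3 lc_f_rc_14_1 lc_f_rc_17_1 lc_f_rc_14_3 lc_f_rc_14_3 lc_f_rc_14_1 lc_f_rc_17_1 lc_f_rc_20_1 lc_f_rc_19_3 lc_f_rc_17_3 lc_f_rc_14_1 lc_f_rc_20_1 lc_f_rc_10_1 lc_f_rc_14_3 lc_f_rc_17_3 lc_f_rc_17_3 lc_f_rc_19_1 lc_f_rc_5_3 lc_f_rc_10_3 lc_f_rc_21_1 lc_f_rc_21_1 lc_f_rc_10_3 lc_f_rc_14_3 lc_f_rc_10_3 lc_f_rc_17_1 lc_f_rc_14_1 lc_f_rc_5_3 lc_f_rc_19_1 lc_f_rc_5_1 lc_f_rc_19_3 lc_f_rc_20_1 lc_f_rc_20_1 lc_f_rc_17_3 lc_f_rc_5_1 lc_f_rc_10_1 lc_f_rc_17_1 lc_f_rc_20_1 lc_f_rc_17_3 lc_f_rc_21_1 lc_f_rc_10_1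 lc_f_rc_10_1 lc_f_rc_17_3 lc_f_rc_17_1 lc_f_rc_20_1 lc_f_rc_21_1 lc_f_rc_20_1 lc_f_rc_10_3 lc_f_rc_17_3 lc_f_rc_5_3 lc_f_rc_14_3 lc_f_rc_10_3 lc_f_rc_14_3 lc_f_rc_14_3 lc_f_rc_17_3 lc_f_rc_14_3 lc_f_rc_19_5 lc_f_rc_17_3 lc_f_rc_10_3 lc_f_rc_17_3 lc_f_rc_20_1) (@D3.rec (fun _ => (Cert rels S Gen.f)) lc_f_rc_20_1 lc_f_Cert_tree lc_f_rc_17_1 lc_f_rc_20_1 lc_f_rc_19_3 lc_f_rc_14_3 lc_f_rc_10_1 lc_f_rc_14_1 lc_f_rc_5_3 lc_f_rc_17_3 lc_f_rc_20_1 lc_f_rc_14_1 lc_f_rc_14_3 lc_f_rc_20_1 lc_f_rc_21_1 lc_f_rc_19_5 lc_f_rc_5_1 lc_f_rc_10_1 lc_f_rc_20_1 lc_f_rc_21_1 lc_f_rc_10_3 lc_f_rc_17_3 lc_f_rc_14_3 lc_f_rc_20_1 lc_f_rc_5_3 lc_f_rc_17_3 lc_f_rc_5_3 lc_f_rc_20_1 lc_f_rc_14_3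 lc_f_rc_5_1 lc_f_rc_20_1 lc_f_rc_17_3 lc_f_rc_14_1 lc_f_rc_17_1 lc_f_rc_17_3 lc_f_rc_21_1 lc_f_rc_17_3 lc_f_rc_10_3 lc_f_rc_14_1 lc_f_rc_19_1 lc_f_rc_17_3 lc_f_rc_17_3 lc_f_rc_14_3 lc_f_rc_19_3 lc_f_rc_17_3 lc_f_rc_10_1 lc_f_rc_19_5 lc_f_rc_20_1 lc_f_rc_17_3 lc_f_rc_10_3 lc_f_rc_10_3 lc_f_rc_21_1 lc_f_rc_19_3 lc_f_rc_20_1 lc_f_rc_14_3 lc_f_rc_19_5 lc_f_rc_19_5 lc_f_rc_14_3 lc_f_rc_14_3 lc_f_rc_17_3 lc_f_rc_10_3 lc_f_rc_21_1) (@D3.rec (fun _ => (Cert rels S Gen.f)) lc_f_Cert_tree lc_f_rc_14_3 lc_f_rc_14_1 lc_f_rc_14_1 lc_f_rc_20_1 lc_f_rc_21_1 lc_f_rc_10_1 lc_f_rc_14_1 lc_f_rc_19_5 lc_f_rc_10_3 lc_f_rc_14_3 lc_f_rc_19_5 lc_f_rc_17_1 lc_f_rc_14_3 lc_f_rc_14_3 lc_f_rc_10_3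 lc_f_rc_17_3 lc_f_rc_19_5 lc_f_rc_17_3 lc_f_rc_17_3 lc_f_rc_14_3 lc_f_rc_17_1 lc_f_rc_19_1 lc_f_rc_19_3 lc_f_rc_17_3 lc_f_rc_21_1 lc_f_rc_17_1 lc_f_rc_5_3 lc_f_rc_5_1 lc_f_rc_17_3 lc_f_rc_19_5 lc_f_rc_17_3 lc_f_rc_10_3 lc_f_rc_5_1 lc_f_rc_20_1 lc_f_rc_17_3 lc_f_rc_10_3 lc_f_rc_17_3 lc_f_rc_14_3 lc_f_rc_14_3 lc_f_rc_17_3 lc_f_rc_14_3 lc_f_rc_10_3 lc_f_rc_14_3 lc_f_rc_21_1 lc_f_rc_17_3 lc_f_rc_14_3 lc_f_rc_14_3 lc_f_rc_10_1 lc_f_rc_17_1 lc_f_rc_17_3 lc_f_rc_20_1 lc_f_rc_17_1 lc_f_rc_19_3 lc_f_rc_19_5 lc_f_rc_20_1 lc_f_rc_5_1 lc_f_rc_20_1 lc_f_rc_14_3 lc_f_rc_5_1 lc_f_rc_20_1 lc_f_rc_5_3) (@D3.rec (fun _ => (Cert rels S Gen.f)) lc_f_rc_17_3 lc_f_rc_10_3 lc_f_rc_5_1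 lc_f_rc_17_3 lc_f_rc_10_1 lc_f_rc_17_1 lc_f_rc_17_1 lc_f_rc_17_3 lc_f_Cert_tree lc_f_rc_20_1 lc_f_rc_14_1 lc_f_rc_5_1 lc_f_rc_19_3 lc_f_rc_14_3 lc_f_rc_14_3 lc_f_Cert_tree lc_f_rc_20_1 lc_f_rc_19_5 lc_f_rc_14_3 lc_f_rc_21_1 lc_f_Cert_tree lc_f_rc_20_1 lc_f_Cert_tree lc_f_rc_5_1 lc_f_rc_20_1 lc_f_rc_20_1 lc_f_rc_10_3 lc_f_rc_17_3 lc_f_rc_17_1 lc_f_rc_14_3 lc_f_rc_19_5 lc_f_rc_5_3 lc_f_rc_14_3 lc_f_rc_14_1 lc_f_rc_10_1 lc_f_rc_17_3 lc_f_rc_17_1 lc_f_rc_20_1 lc_f_rc_21_1 lc_f_rc_14_1 lc_f_rc_17_1 lc_f_rc_21_1 lc_f_rc_14_3 lc_f_rc_14_3 lc_f_rc_21_1 lc_f_rc_5_3 lc_f_rc_20_1 lc_f_rc_10_3 lc_f_rc_20_1 lc_f_rc_17_3 lc_f_rc_5_1 lc_f_rc_20_1 lc_f_rc_14_3 lc_f_rc_14_3 lc_f_rc_17_1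 lc_f_rc_14_3 lc_f_rc_19_3 lc_f_rc_10_1 lc_f_rc_17_3 lc_f_rc_20_1 lc_f_rc_20_1 lc_f_rc_20_1) (@D3.rec (fun _ => (Cert rels S Gen.f)) lc_f_rc_21_1 lc_f_rc_14_3 lc_f_rc_10_3 lc_f_rc_10_3 lc_f_rc_10_1 lc_f_rc_14_3 lc_f_rc_19_5 lc_f_rc_10_3 lc_f_rc_21_1 lc_f_rc_10_3 lc_f_rc_10_3 lc_f_rc_19_5 lc_f_rc_19_5 lc_f_rc_10_3 lc_f_rc_19_3 lc_f_rc_14_3 lc_f_rc_17_3 lc_f_rc_21_1 lc_f_rc_19_5 lc_f_rc_14_3 lc_f_rc_5_3 lc_f_rc_10_3 lc_f_rc_17_3 lc_f_rc_14_1 lc_f_rc_21_1 lc_f_rc_20_1 lc_f_rc_21_1 lc_f_rc_22_1 lc_f_rc_14_1 lc_f_rc_14_1 lc_f_Cert_tree lc_f_rc_14_3 lc_f_rc_20_1 lc_f_rc_14_1 lc_f_rc_10_3 lc_f_rc_17_3 lc_f_rc_21_1 lc_f_rc_22_1 lc_f_rc_14_3 lc_f_rc_14_3 lc_f_rc_10_3 lc_f_rc_17_3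 lc_f_Cert_tree lc_f_rc_5_3 lc_f_rc_17_3 lc_f_rc_14_1 lc_f_rc_10_3 lc_f_rc_19_3 lc_f_rc_20_1 lc_f_rc_20_1 lc_f_rc_14_3 lc_f_rc_10_3 lc_f_rc_21_1 lc_f_rc_21_1 lc_f_rc_22_1 lc_f_rc_10_1 lc_f_rc_14_1 lc_f_rc_21_1 lc_f_rc_20_1 lc_f_rc_20_1 lc_f_rc_5_3 lc_f_rc_10_3) (@D3.rec (fun _ => (Cert rels S Gen.f)) lc_f_rc_10_1 lc_f_rc_14_1 lc_f_rc_5_3 lc_f_rc_5_3 lc_f_rc_17_3 lc_f_rc_10_3 lc_f_rc_14_3 lc_f_rc_17_1 lc_f_rc_21_1 lc_f_rc_10_3 lc_f_rc_19_5 lc_f_rc_21_1 lc_f_rc_17_3 lc_f_rc_19_1 lc_f_rc_10_1 lc_f_rc_10_3 lc_f_rc_10_3 lc_f_rc_14_1 lc_f_rc_21_1 lc_f_rc_10_1 lc_f_rc_10_1 lc_f_rc_19_3 lc_f_rc_19_5 lc_f_rc_14_3 lc_f_rc_14_3 lc_f_rc_14_1 lc_f_rc_14_1 lc_f_rc_17_1 lc_f_rc_5_1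 lc_f_rc_19_1 lc_f_rc_5_3 lc_f_rc_20_1 lc_f_rc_19_5 lc_f_rc_21_1 lc_f_rc_22_1 lc_f_rc_14_3 lc_f_rc_17_1 lc_f_rc_10_1 lc_f_rc_14_1 lc_f_rc_20_1 lc_f_rc_14_3 lc_f_rc_22_1 lc_f_rc_17_3 lc_f_rc_22_1 lc_f_rc_14_1 lc_f_rc_14_1 lc_f_rc_17_3 lc_f_rc_10_3 lc_f_rc_22_1 lc_f_rc_21_1 lc_f_rc_17_3 lc_f_rc_21_1 lc_f_rc_22_1 lc_f_rc_17_3 lc_f_rc_19_1 lc_f_rc_20_1 lc_f_rc_17_1 lc_f_rc_17_3 lc_f_rc_5_1 lc_f_rc_10_1 lc_f_rc_21_1 lc_f_rc_5_3) (@D3.rec (fun _ => (Cert rels S Gen.f)) lc_f_rc_17_3 lc_f_rc_17_3 lc_f_rc_10_3 lc_f_rc_19_5 lc_f_rc_21_1 lc_f_rc_10_1 lc_f_rc_17_3 lc_f_rc_17_3 lc_f_rc_17_3 lc_f_rc_10_1 lc_f_rc_14_3 lc_f_rc_17_3 lc_f_rc_20_1 lc_f_rc_19_5 lc_f_rc_14_3 lc_f_rc_5_3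 lc_f_rc_21_1 lc_f_rc_10_3 lc_f_rc_14_3 lc_f_rc_10_3 lc_f_rc_10_3 lc_f_rc_10_3 lc_f_rc_14_3 lc_f_rc_22_1 lc_f_rc_20_1 lc_f_rc_14_3 lc_f_rc_17_3 lc_f_rc_17_3 lc_f_rc_17_1 lc_f_rc_20_1 lc_f_rc_20_1 lc_f_rc_10_1 lc_f_rc_17_1 lc_f_rc_19_3 lc_f_rc_20_1 lc_f_rc_5_3 lc_f_rc_14_3 lc_f_rc_17_3 lc_f_rc_14_3 lc_f_rc_10_1 lc_f_rc_17_3 lc_f_rc_10_3 lc_f_Cert_tree lc_f_rc_21_1 lc_f_rc_20_1 lc_f_Cert_tree lc_f_rc_20_1 lc_f_rc_17_1 lc_f_rc_17_3 lc_f_rc_21_1 lc_f_rc_20_1 lc_f_rc_20_1 lc_f_rc_20_1 lc_f_rc_14_3 lc_f_rc_19_3 lc_f_rc_10_1 lc_f_rc_17_3 lc_f_rc_14_3 lc_f_rc_17_3 lc_f_rc_20_1 lc_f_Cert_tree lc_f_rc_17_3) (@D3.rec (fun _ => (Cert rels S Gen.f)) lc_f_rc_17_3 lc_f_rc_14_1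 lc_f_rc_10_3 lc_f_rc_14_3 lc_f_rc_10_1 lc_f_rc_17_3 lc_f_rc_19_3 lc_f_rc_17_3 lc_f_rc_21_1 lc_f_rc_14_3 lc_f_rc_20_1 lc_f_rc_14_3 lc_f_rc_5_1 lc_f_rc_19_3 lc_f_rc_10_3 lc_f_rc_17_1 lc_f_Cert_tree lc_f_rc_17_1 lc_f_rc_20_1 lc_f_rc_17_3 lc_f_rc_14_1 lc_f_rc_22_1 lc_f_rc_17_1 lc_f_rc_14_1 lc_f_rc_17_3 lc_f_rc_14_3 lc_f_rc_17_1 lc_f_rc_17_3 lc_f_rc_5_1 lc_f_rc_20_1 lc_f_rc_14_3 lc_f_rc_19_1 lc_f_rc_14_1 lc_f_rc_14_1 lc_f_rc_17_3 lc_f_rc_10_1 lc_f_rc_21_1 lc_f_rc_10_3 lc_f_rc_21_1 lc_f_rc_5_1 lc_f_rc_17_3 lc_f_rc_19_3 lc_f_rc_14_1 lc_f_rc_10_1 lc_f_Cert_tree lc_f_rc_19_5 lc_f_rc_20_1 lc_f_rc_14_3 lc_f_rc_17_1 lc_f_rc_19_5 lc_f_rc_14_3 lc_f_rc_17_1 lc_f_rc_14_3 lc_f_rc_17_3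 lc_f_rc_14_3 lc_f_rc_10_3 lc_f_rc_5_3 lc_f_rc_17_3 lc_f_rc_14_3 lc_f_rc_10_1 lc_f_rc_19_5 lc_f_rc_10_3) (@D3.rec (fun _ => (Cert rels S Gen.f)) lc_f_rc_22_1 lc_f_rc_14_1 lc_f_rc_14_1 lc_f_rc_17_3 lc_f_rc_21_1 lc_f_rc_17_1 lc_f_rc_17_3 lc_f_rc_14_3 lc_f_rc_14_1 lc_f_rc_19_3 lc_f_rc_10_3 lc_f_rc_17_3 lc_f_rc_19_1 lc_f_rc_14_1 lc_f_rc_20_1 lc_f_rc_20_1 lc_f_rc_19_5 lc_f_rc_17_3 lc_f_rc_14_1 lc_f_rc_19_1 lc_f_rc_21_1 lc_f_rc_14_3 lc_f_rc_19_3 lc_f_rc_19_5 lc_f_rc_19_5 lc_f_rc_10_3 lc_f_rc_17_3 lc_f_rc_21_1 lc_f_rc_5_3 lc_f_rc_19_1 lc_f_rc_14_3 lc_f_rc_17_1 lc_f_rc_14_3 lc_f_rc_21_1 lc_f_rc_10_1 lc_f_rc_17_3 lc_f_rc_21_1 lc_f_rc_21_1 lc_f_rc_20_1 lc_f_rc_14_3 lc_f_rc_17_3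 lc_f_rc_17_1 lc_f_rc_10_3 lc_f_rc_17_3 lc_f_rc_22_1 lc_f_rc_10_3 lc_f_rc_14_3 lc_f_rc_10_3 lc_f_rc_22_1 lc_f_rc_17_3 lc_f_rc_17_3 lc_f_rc_17_3 lc_f_rc_19_3 lc_f_rc_10_1 lc_f_rc_17_3 lc_f_rc_17_3 lc_f_rc_21_1 lc_f_rc_14_1 lc_f_rc_10_3 lc_f_rc_17_1 lc_f_rc_14_1 lc_f_rc_17_3) (@D3.rec (fun _ => (Cert rels S Gen.f)) lc_f_rc_14_3 lc_f_rc_17_3 lc_f_rc_14_3 lc_f_rc_17_3 lc_f_rc_20_1 lc_f_rc_17_1 lc_f_rc_20_1 lc_f_rc_21_1 lc_f_rc_10_3 lc_f_rc_17_3 lc_f_rc_20_1 lc_f_rc_17_1 lc_f_rc_5_3 lc_f_rc_17_1 lc_f_rc_20_1 lc_f_rc_10_3 lc_f_rc_20_1 lc_f_rc_10_1 lc_f_rc_20_1 lc_f_rc_17_1 lc_f_rc_19_3 lc_f_rc_14_3 lc_f_rc_10_3 lc_f_rc_14_3 lc_f_rc_21_1 lc_f_Cert_tree lc_f_rc_20_1 lc_f_rc_17_3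 lc_f_rc_5_3 lc_f_rc_14_3 lc_f_rc_10_1 lc_f_rc_19_3 lc_f_rc_21_1 lc_f_rc_20_1 lc_f_rc_20_1 lc_f_rc_14_1 lc_f_rc_14_3 lc_f_rc_10_1 lc_f_rc_10_1 lc_f_rc_17_1 lc_f_rc_17_3 lc_f_rc_17_3 lc_f_rc_17_1 lc_f_rc_17_1 lc_f_rc_20_1 lc_f_rc_17_3 lc_f_rc_10_3 lc_f_rc_19_5 lc_f_rc_17_1 lc_f_rc_14_3 lc_f_rc_14_3 lc_f_rc_22_1 lc_f_rc_10_3 lc_f_rc_17_1 lc_f_rc_10_3 lc_f_rc_10_3 lc_f_rc_17_3 lc_f_rc_17_3 lc_f_rc_19_5 lc_f_rc_20_1 lc_f_rc_19_5 lc_f_rc_17_3) (@D3.rec (fun _ => (Cert rels S Gen.f)) lc_f_rc_17_1 lc_f_rc_17_3 lc_f_rc_17_3 lc_f_rc_17_3 lc_f_rc_22_1 lc_f_rc_17_1 lc_f_rc_17_3 lc_f_rc_10_3 lc_f_rc_14_1 lc_f_rc_21_1 lc_f_rc_20_1 lc_f_rc_10_3 lc_f_rc_10_3 lc_f_rc_17_3 lc_f_rc_14_3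 lc_f_rc_17_3 lc_f_rc_17_3 lc_f_rc_19_5 lc_f_rc_14_3 lc_f_rc_17_3 lc_f_rc_14_1 lc_f_rc_17_1 lc_f_rc_21_1 lc_f_rc_21_1 lc_f_rc_14_3 lc_f_rc_5_3 lc_f_rc_20_1 lc_f_rc_22_1 lc_f_rc_19_5 lc_f_rc_10_1 lc_f_rc_14_1 lc_f_rc_17_1 lc_f_rc_20_1 lc_f_rc_10_3 lc_f_rc_14_1 lc_f_rc_10_3 lc_f_rc_20_1 lc_f_rc_21_1 lc_f_rc_17_3 lc_f_rc_14_3 lc_f_rc_14_1 lc_f_rc_14_3 lc_f_rc_14_3 lc_f_rc_10_1 lc_f_rc_19_1 lc_f_rc_20_1 lc_f_rc_14_3 lc_f_rc_14_3 lc_f_rc_14_3 lc_f_rc_10_3 lc_f_rc_14_1 lc_f_rc_17_3 lc_f_rc_22_1 lc_f_rc_14_1 lc_f_rc_14_3 lc_f_rc_20_1 lc_f_rc_17_3 lc_f_rc_10_3 lc_f_rc_22_1 lc_f_rc_21_1 lc_f_rc_21_1 lc_f_rc_5_3) (@D3.rec (fun _ => (Cert rels S Gen.f)) lc_f_rc_14_3 lc_f_rc_17_3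 lc_f_rc_14_3 lc_f_rc_17_1 lc_f_rc_20_1 lc_f_rc_17_1 lc_f_rc_17_3 lc_f_rc_14_3 lc_f_rc_21_1 lc_f_rc_10_3 lc_f_rc_17_3 lc_f_rc_5_3 lc_f_rc_5_3 lc_f_rc_21_1 lc_f_rc_22_1 lc_f_rc_20_1 lc_f_rc_10_3 lc_f_rc_21_1 lc_f_rc_14_3 lc_f_rc_22_1 lc_f_rc_14_3 lc_f_rc_19_1 lc_f_rc_14_3 lc_f_rc_5_3 lc_f_rc_17_3 lc_f_rc_21_1 lc_f_rc_17_3 lc_f_rc_17_3 lc_f_rc_14_3 lc_f_rc_5_3 lc_f_rc_17_3 lc_f_rc_10_3 lc_f_rc_20_1 lc_f_rc_14_3 lc_f_rc_20_1 lc_f_rc_14_3 lc_f_rc_19_5 lc_f_rc_14_3 lc_f_rc_20_1 lc_f_rc_17_3 lc_f_Cert_tree lc_f_rc_21_1 lc_f_rc_20_1 lc_f_rc_21_1 lc_f_rc_17_3 lc_f_rc_19_3 lc_f_rc_14_3 lc_f_rc_20_1 lc_f_rc_21_1 lc_f_rc_17_3 lc_f_rc_20_1 lc_f_rc_21_1 lc_f_rc_14_1 lc_f_rc_10_1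 lc_f_rc_21_1 lc_f_rc_14_3 lc_f_rc_19_1 lc_f_rc_21_1 lc_f_rc_20_1 lc_f_rc_10_3 lc_f_rc_21_1 lc_f_rc_17_3) (@D3.rec (fun _ => (Cert rels S Gen.f)) lc_f_rc_14_3 lc_f_rc_17_3 lc_f_rc_17_3 lc_f_rc_14_3 lc_f_rc_10_3 lc_f_rc_10_3 lc_f_rc_17_3 lc_f_rc_14_3 lc_f_rc_17_3 lc_f_rc_17_3 lc_f_rc_20_1 lc_f_rc_10_1 lc_f_Cert_tree lc_f_rc_14_3 lc_f_rc_14_3 lc_f_rc_21_1 lc_f_rc_14_3 lc_f_rc_20_1 lc_f_rc_5_3 lc_f_rc_5_3 lc_f_rc_10_3 lc_f_rc_20_1 lc_f_rc_5_1 lc_f_rc_17_1 lc_f_rc_17_3 lc_f_rc_21_1 lc_f_rc_20_1 lc_f_rc_17_1 lc_f_rc_21_1 lc_f_rc_17_1 lc_f_rc_14_3 lc_f_rc_10_1 lc_f_rc_14_3 lc_f_rc_10_1 lc_f_rc_20_1 lc_f_rc_14_3 lc_f_rc_14_1 lc_f_rc_20_1 lc_f_rc_17_3 lc_f_rc_14_3 lc_f_rc_14_3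 lc_f_rc_14_3 lc_f_rc_14_3 lc_f_rc_20_1 lc_f_rc_20_1 lc_f_rc_19_1 lc_f_rc_10_3 lc_f_rc_10_3 lc_f_rc_20_1 lc_f_rc_19_1 lc_f_rc_22_1 lc_f_rc_20_1 lc_f_rc_14_3 lc_f_rc_17_3 lc_f_rc_5_1 lc_f_rc_19_3 lc_f_rc_14_1 lc_f_rc_14_3 lc_f_rc_14_3 lc_f_rc_21_1 lc_f_rc_17_1 lc_f_rc_20_1) (@D3.rec (fun _ => (Cert rels S Gen.f)) lc_f_rc_17_3 lc_f_rc_10_3 lc_f_rc_14_3 lc_f_rc_10_3 lc_f_rc_10_1 lc_f_rc_17_3 lc_f_rc_17_1 lc_f_rc_17_1 lc_f_rc_5_3 lc_f_rc_20_1 lc_f_rc_10_3 lc_f_rc_20_1 lc_f_rc_10_1 lc_f_rc_14_1 lc_f_rc_21_1 lc_f_rc_21_1 lc_f_rc_14_1 lc_f_rc_14_3 lc_f_rc_10_3 lc_f_rc_10_1 lc_f_rc_20_1 lc_f_rc_14_1 lc_f_rc_10_3 lc_f_rc_14_3 lc_f_rc_10_3 lc_f_rc_5_1 lc_f_rc_20_1 lc_f_rc_5_3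 lc_f_rc_19_5 lc_f_rc_21_1 lc_f_rc_5_3 lc_f_rc_17_3 lc_f_rc_17_3 lc_f_rc_14_3 lc_f_rc_14_1 lc_f_rc_5_1 lc_f_rc_10_3 lc_f_rc_5_3 lc_f_rc_20_1 lc_f_rc_21_1 lc_f_rc_10_3 lc_f_rc_22_1 lc_f_rc_5_3 lc_f_rc_19_5 lc_f_rc_19_1 lc_f_rc_14_3 lc_f_rc_20_1 lc_f_rc_14_3 lc_f_rc_21_1 lc_f_rc_22_1 lc_f_rc_17_1 lc_f_rc_20_1 lc_f_rc_14_3 lc_f_rc_17_3 lc_f_rc_5_3 lc_f_rc_14_3 lc_f_rc_10_3 lc_f_rc_19_1 lc_f_rc_21_1 lc_f_rc_17_1 lc_f_rc_20_1 lc_f_rc_20_1) (@D3.rec (fun _ => (Cert rels S Gen.f)) lc_f_rc_10_3 lc_f_rc_17_1 lc_f_rc_5_1 lc_f_rc_20_1 lc_f_rc_10_1 lc_f_rc_19_3 lc_f_rc_14_3 lc_f_rc_17_3 lc_f_rc_17_3 lc_f_rc_19_3 lc_f_rc_20_1 lc_f_rc_10_3 lc_f_rc_10_3 lc_f_rc_14_3 lc_f_rc_10_3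 lc_f_rc_19_5 lc_f_rc_20_1 lc_f_rc_22_1 lc_f_rc_19_5 lc_f_rc_20_1 lc_f_rc_14_1 lc_f_rc_19_3 lc_f_rc_10_3 lc_f_rc_14_3 lc_f_rc_10_3 lc_f_rc_14_3 lc_f_rc_14_3 lc_f_rc_10_3 lc_f_rc_20_1 lc_f_rc_17_3 lc_f_rc_17_3 lc_f_rc_22_1 lc_f_rc_17_3 lc_f_rc_17_3 lc_f_rc_19_3 lc_f_rc_10_3 lc_f_rc_21_1 lc_f_rc_19_1 lc_f_rc_10_3 lc_f_rc_21_1 lc_f_rc_17_1 lc_f_rc_17_3 lc_f_rc_14_1 lc_f_rc_19_3 lc_f_rc_17_1 lc_f_rc_10_3 lc_f_rc_14_3 lc_f_rc_5_3 lc_f_rc_17_3 lc_f_rc_20_1 lc_f_rc_14_3 lc_f_rc_5_1 lc_f_rc_20_1 lc_f_rc_17_3 lc_f_rc_14_1 lc_f_rc_22_1 lc_f_rc_22_1 lc_f_rc_17_1 lc_f_rc_14_3 lc_f_rc_17_3 lc_f_rc_17_3 lc_f_rc_14_1) (@D3.rec (fun _ => (Cert rels S Gen.f)) lc_f_rc_5_3 lc_f_rc_22_1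 lc_f_rc_19_3 lc_f_rc_21_1 lc_f_rc_14_3 lc_f_rc_14_3 lc_f_rc_20_1 lc_f_rc_5_3 lc_f_rc_14_1 lc_f_rc_19_3 lc_f_rc_19_3 lc_f_rc_17_1 lc_f_rc_5_1 lc_f_rc_14_3 lc_f_rc_10_3 lc_f_rc_19_5 lc_f_rc_14_3 lc_f_rc_14_3 lc_f_rc_14_1 lc_f_rc_19_3 lc_f_rc_17_1 lc_f_rc_10_1 lc_f_rc_19_1 lc_f_rc_20_1 lc_f_rc_20_1 lc_f_rc_10_3 lc_f_rc_19_1 lc_f_rc_17_1 lc_f_rc_17_3 lc_f_rc_14_3 lc_f_rc_19_5 lc_f_rc_10_3 lc_f_rc_20_1 lc_f_rc_20_1 lc_f_rc_17_1 lc_f_rc_17_3 lc_f_rc_10_3 lc_f_rc_10_3 lc_f_rc_14_3 lc_f_rc_5_3 lc_f_rc_10_3 lc_f_rc_20_1 lc_f_rc_14_1 lc_f_rc_22_1 lc_f_rc_14_1 lc_f_rc_14_3 lc_f_rc_19_5 lc_f_rc_19_1 lc_f_rc_14_3 lc_f_rc_20_1 lc_f_rc_20_1 lc_f_rc_10_1 lc_f_rc_22_1 lc_f_rc_20_1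 lc_f_rc_19_3 lc_f_rc_10_3 lc_f_rc_17_3 lc_f_rc_17_1 lc_f_rc_5_1 lc_f_rc_20_1 lc_f_rc_14_3 lc_f_rc_17_1) (@D3.rec (fun _ => (Cert rels S Gen.f)) lc_f_rc_17_3 lc_f_rc_19_5 lc_f_rc_5_3 lc_f_rc_20_1 lc_f_rc_20_1 lc_f_rc_14_1 lc_f_rc_14_3 lc_f_rc_14_1 lc_f_rc_20_1 lc_f_rc_21_1 lc_f_rc_21_1 lc_f_rc_17_3 lc_f_rc_19_3 lc_f_rc_17_1 lc_f_rc_17_1 lc_f_rc_20_1 lc_f_rc_14_3 lc_f_rc_22_1 lc_f_rc_20_1 lc_f_rc_21_1 lc_f_rc_20_1 lc_f_rc_20_1 lc_f_rc_22_1 lc_f_rc_14_3 lc_f_rc_21_1 lc_f_rc_20_1 lc_f_rc_5_1 lc_f_rc_14_1 lc_f_rc_14_3 lc_f_rc_19_3 lc_f_rc_10_3 lc_f_rc_14_3 lc_f_rc_20_1 lc_f_rc_22_1 lc_f_rc_19_1 lc_f_rc_14_3 lc_f_rc_10_3 lc_f_rc_14_1 lc_f_rc_20_1 lc_f_rc_10_1 lc_f_rc_17_1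 lc_f_rc_17_1 lc_f_rc_10_1 lc_f_rc_20_1 lc_f_rc_14_3 lc_f_rc_14_1 lc_f_rc_19_3 lc_f_rc_14_3 lc_f_rc_14_3 lc_f_rc_10_3 lc_f_rc_19_3 lc_f_rc_10_3 lc_f_rc_19_1 lc_f_rc_10_3 lc_f_rc_14_3 lc_f_rc_20_1 lc_f_rc_14_3 lc_f_rc_21_1 lc_f_rc_5_3 lc_f_rc_17_3 lc_f_rc_14_3 lc_f_rc_17_3) (@D3.rec (fun _ => (Cert rels S Gen.f)) lc_f_rc_17_1 lc_f_rc_5_1 lc_f_rc_10_3 lc_f_rc_22_1 lc_f_rc_17_3 lc_f_rc_10_3 lc_f_rc_14_3 lc_f_rc_17_1 lc_f_rc_21_1 lc_f_rc_14_1 lc_f_rc_21_1 lc_f_rc_10_3 lc_f_rc_19_5 lc_f_rc_10_1 lc_f_rc_22_1 lc_f_rc_20_1 lc_f_rc_14_3 lc_f_rc_10_3 lc_f_rc_14_1 lc_f_rc_5_3 lc_f_rc_10_3 lc_f_rc_21_1 lc_f_rc_20_1 lc_f_rc_20_1 lc_f_rc_5_3 lc_f_rc_17_3 lc_f_rc_17_1 lc_f_rc_14_3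 lc_f_rc_17_1 lc_f_rc_21_1 lc_f_rc_14_1 lc_f_rc_19_3 lc_f_rc_10_3 lc_f_rc_17_1 lc_f_rc_17_3 lc_f_rc_5_3 lc_f_rc_17_3 lc_f_rc_17_3 lc_f_rc_22_1 lc_f_rc_21_1 lc_f_rc_14_1 lc_f_rc_14_1 lc_f_rc_5_3 lc_f_rc_10_3 lc_f_rc_14_3 lc_f_rc_14_1 lc_f_rc_21_1 lc_f_rc_22_1 lc_f_rc_10_3 lc_f_rc_21_1 lc_f_rc_5_3 lc_f_rc_19_5 lc_f_rc_14_3 lc_f_rc_20_1 lc_f_rc_19_3 lc_f_rc_17_3 lc_f_rc_17_3 lc_f_rc_19_1 lc_f_rc_14_3 lc_f_rc_14_3 lc_f_rc_22_1 lc_f_rc_19_5) (@D3.rec (fun _ => (Cert rels S Gen.f)) lc_f_rc_17_1 lc_f_rc_21_1 lc_f_rc_19_5 lc_f_rc_17_3 lc_f_rc_5_3 lc_f_rc_14_1 lc_f_rc_10_3 lc_f_Cert_tree lc_f_rc_20_1 lc_f_rc_20_1 lc_f_Cert_tree lc_f_rc_5_3 lc_f_rc_14_1 lc_f_rc_21_1 lc_f_rc_20_1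 lc_f_rc_20_1 lc_f_rc_20_1 lc_f_rc_20_1 lc_f_rc_10_3 lc_f_rc_10_1 lc_f_rc_10_3 lc_f_rc_17_3 lc_f_rc_21_1 lc_f_rc_21_1 lc_f_rc_17_1 lc_f_rc_10_3 lc_f_rc_20_1 lc_f_rc_22_1 lc_f_rc_17_1 lc_f_rc_10_1 lc_f_rc_21_1 lc_f_rc_5_1 lc_f_rc_10_1 lc_f_rc_14_1 lc_f_rc_10_1 lc_f_rc_17_1 lc_f_rc_20_1 lc_f_rc_22_1 lc_f_rc_21_1 lc_f_rc_22_1 lc_f_rc_17_1 lc_f_rc_20_1 lc_f_rc_19_5 lc_f_rc_20_1 lc_f_rc_17_1 lc_f_rc_14_3 lc_f_rc_17_3 lc_f_rc_21_1 lc_f_rc_14_1 lc_f_rc_20_1 lc_f_rc_17_3 lc_f_rc_17_1 lc_f_rc_17_3 lc_f_rc_17_3 lc_f_rc_22_1 lc_f_rc_20_1 lc_f_rc_20_1 lc_f_rc_19_1 lc_f_rc_14_1 lc_f_rc_17_1 lc_f_rc_21_1 lc_f_rc_21_1) (@D3.rec (fun _ => (Cert rels S Gen.f)) lc_f_rc_14_3 lc_f_rc_10_3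 lc_f_rc_22_1 lc_f_rc_19_5 lc_f_rc_5_1 lc_f_rc_10_1 lc_f_rc_20_1 lc_f_rc_5_3 lc_f_rc_20_1 lc_f_rc_5_1 lc_f_rc_10_3 lc_f_rc_10_3 lc_f_rc_19_5 lc_f_rc_19_5 lc_f_rc_10_3 lc_f_rc_10_3 lc_f_rc_14_1 lc_f_rc_17_3 lc_f_rc_20_1 lc_f_rc_22_1 lc_f_rc_17_3 lc_f_Cert_tree lc_f_rc_20_1 lc_f_rc_19_3 lc_f_rc_14_3 lc_f_rc_22_1 lc_f_rc_20_1 lc_f_rc_14_3 lc_f_rc_17_3 lc_f_rc_20_1 lc_f_rc_14_3 lc_f_rc_19_3 lc_f_rc_14_3 lc_f_rc_5_3 lc_f_rc_21_1 lc_f_rc_10_3 lc_f_rc_14_1 lc_f_rc_14_3 lc_f_rc_17_3 lc_f_rc_10_3 lc_f_rc_14_3 lc_f_rc_14_3 lc_f_rc_22_1 lc_f_rc_21_1 lc_f_rc_17_3 lc_f_rc_14_1 lc_f_rc_20_1 lc_f_rc_14_3 lc_f_rc_22_1 lc_f_rc_10_3 lc_f_rc_22_1 lc_f_rc_19_3 lc_f_rc_20_1 lc_f_rc_20_1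 lc_f_rc_10_1 lc_f_rc_14_3 lc_f_rc_17_3 lc_f_rc_19_5 lc_f_rc_17_3 lc_f_rc_20_1 lc_f_rc_10_3 lc_f_rc_14_3) (@D3.rec (fun _ => (Cert rels S Gen.f)) lc_f_rc_14_3 lc_f_rc_19_5 lc_f_rc_14_3 lc_f_rc_20_1 lc_f_rc_5_1 lc_f_rc_17_3 lc_f_rc_14_3 lc_f_Cert_tree lc_f_rc_5_3 lc_f_rc_5_3 lc_f_rc_5_1 lc_f_rc_10_3 lc_f_rc_19_1 lc_f_rc_17_1 lc_f_rc_10_3 lc_f_rc_10_3 lc_f_rc_19_3 lc_f_rc_17_3 lc_f_rc_17_3 lc_f_rc_5_1 lc_f_rc_19_3 lc_f_rc_20_1 lc_f_rc_17_3 lc_f_rc_10_3 lc_f_rc_5_1 lc_f_rc_14_3 lc_f_rc_19_3 lc_f_rc_10_3 lc_f_rc_21_1 lc_f_rc_10_1 lc_f_rc_20_1 lc_f_rc_21_1 lc_f_rc_20_1 lc_f_rc_20_1 lc_f_rc_21_1 lc_f_rc_10_3 lc_f_rc_17_3 lc_f_rc_14_3 lc_f_rc_21_1 lc_f_rc_17_3 lc_f_rc_20_1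 lc_f_rc_10_3 lc_f_rc_17_3 lc_f_rc_10_3 lc_f_rc_17_3 lc_f_rc_14_3 lc_f_rc_14_3 lc_f_rc_5_1 lc_f_rc_19_5 lc_f_rc_14_1 lc_f_rc_10_3 lc_f_rc_10_3 lc_f_rc_10_3 lc_f_rc_20_1 lc_f_rc_21_1 lc_f_rc_14_3 lc_f_rc_10_1 lc_f_rc_22_1 lc_f_rc_17_1 lc_f_rc_21_1 lc_f_rc_22_1 lc_f_rc_20_1) (@D3.rec (fun _ => (Cert rels S Gen.f)) lc_f_rc_21_1 lc_f_rc_20_1 lc_f_rc_5_1 lc_f_rc_17_3 lc_f_rc_14_3 lc_f_rc_20_1 lc_f_Cert_tree lc_f_rc_20_1 lc_f_rc_14_3 lc_f_rc_10_3 lc_f_rc_14_3 lc_f_rc_20_1 lc_f_rc_17_1 lc_f_rc_20_1 lc_f_rc_19_1 lc_f_Cert_tree lc_f_rc_14_3 lc_f_rc_22_1 lc_f_rc_20_1 lc_f_rc_19_5 lc_f_rc_17_3 lc_f_rc_14_1 lc_f_Cert_tree lc_f_rc_19_5 lc_f_rc_22_1 lc_f_rc_20_1 lc_f_rc_17_1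 lc_f_rc_17_1 lc_f_rc_5_1 lc_f_rc_10_3 lc_f_rc_21_1 lc_f_rc_10_3 lc_f_rc_17_3 lc_f_rc_21_1 lc_f_rc_17_3 lc_f_rc_17_1 lc_f_rc_10_3 lc_f_rc_21_1 lc_f_rc_14_3 lc_f_rc_21_1 lc_f_rc_10_3 lc_f_rc_17_3 lc_f_rc_17_3 lc_f_rc_17_1 lc_f_rc_19_3 lc_f_rc_17_3 lc_f_rc_5_1 lc_f_rc_14_3 lc_f_rc_14_3 lc_f_Cert_tree lc_f_rc_5_3 lc_f_rc_17_3 lc_f_rc_10_3 lc_f_rc_14_3 lc_f_rc_10_1 lc_f_rc_10_3 lc_f_rc_17_1 lc_f_rc_22_1 lc_f_rc_20_1 lc_f_rc_10_3 lc_f_rc_5_3 lc_f_rc_21_1) (@D3.rec (fun _ => (Cert rels S Gen.f)) lc_f_rc_17_3 lc_f_rc_10_3 lc_f_rc_10_3 lc_f_rc_5_1 lc_f_rc_14_3 lc_f_rc_19_3 lc_f_rc_17_3 lc_f_rc_14_3 lc_f_rc_5_3 lc_f_rc_14_3 lc_f_rc_14_3 lc_f_rc_5_1 lc_f_rc_17_1 lc_f_rc_20_1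 lc_f_rc_17_3 lc_f_rc_14_3 lc_f_rc_10_3 lc_f_rc_21_1 lc_f_rc_10_3 lc_f_rc_17_3 lc_f_rc_14_3 lc_f_rc_10_3 lc_f_rc_17_3 lc_f_rc_10_3 lc_f_rc_19_5 lc_f_rc_14_3 lc_f_rc_14_3 lc_f_rc_20_1 lc_f_rc_21_1 lc_f_rc_20_1 lc_f_rc_14_3 lc_f_rc_14_3 lc_f_rc_14_1 lc_f_rc_17_3 lc_f_rc_21_1 lc_f_rc_10_3 lc_f_rc_14_3 lc_f_rc_5_1 lc_f_rc_14_3 lc_f_rc_14_3 lc_f_rc_10_3 lc_f_rc_20_1 lc_f_rc_5_3 lc_f_rc_20_1 lc_f_rc_19_5 lc_f_rc_19_3 lc_f_rc_20_1 lc_f_rc_14_3 lc_f_rc_21_1 lc_f_rc_5_1 lc_f_rc_5_1 lc_f_rc_14_3 lc_f_rc_22_1 lc_f_rc_20_1 lc_f_rc_20_1 lc_f_rc_17_3 lc_f_rc_10_3 lc_f_rc_21_1 lc_f_rc_19_5 lc_f_rc_20_1 lc_f_rc_10_3 lc_f_rc_10_1) (@D3.rec (fun _ => (Cert rels S Gen.f)) lc_f_rc_10_3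 lc_f_rc_17_3 lc_f_rc_10_1 lc_f_rc_14_3 lc_f_rc_10_3 lc_f_rc_17_3 lc_f_rc_20_1 lc_f_rc_14_3 lc_f_rc_21_1 lc_f_rc_21_1 lc_f_rc_19_1 lc_f_rc_17_3 lc_f_rc_10_3 lc_f_rc_21_1 lc_f_rc_10_3 lc_f_rc_17_3 lc_f_rc_21_1 lc_f_rc_17_3 lc_f_rc_14_3 lc_f_rc_10_3 lc_f_rc_17_3 lc_f_rc_14_3 lc_f_rc_14_3 lc_f_rc_10_3 lc_f_rc_14_3 lc_f_rc_19_3 lc_f_rc_21_1 lc_f_rc_20_1 lc_f_rc_14_3 lc_f_rc_5_1 lc_f_rc_10_3 lc_f_rc_5_3 lc_f_rc_14_3 lc_f_rc_10_3 lc_f_rc_10_3 lc_f_rc_17_3 lc_f_rc_20_1 lc_f_rc_10_3 lc_f_rc_17_3 lc_f_rc_5_1 lc_f_rc_17_3 lc_f_rc_14_3 lc_f_rc_10_3 lc_f_rc_14_3 lc_f_rc_21_1 lc_f_rc_5_1 lc_f_rc_20_1 lc_f_rc_14_3 lc_f_rc_10_1 lc_f_rc_14_1 lc_f_rc_19_5 lc_f_rc_20_1 lc_f_rc_19_3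 lc_f_rc_14_3 lc_f_rc_20_1 lc_f_rc_14_3 lc_f_rc_10_3 lc_f_rc_14_1 lc_f_rc_14_3 lc_f_rc_14_3 lc_f_rc_10_1 lc_f_rc_20_1) (@D3.rec (fun _ => (Cert rels S Gen.f)) lc_f_rc_20_1 lc_f_rc_20_1 lc_f_rc_14_3 lc_f_rc_20_1 lc_f_rc_20_1 lc_f_rc_20_1 lc_f_rc_5_1 lc_f_rc_5_1 lc_f_rc_10_1 lc_f_rc_19_5 lc_f_rc_17_1 lc_f_rc_21_1 lc_f_rc_20_1 lc_f_rc_10_3 lc_f_rc_21_1 lc_f_rc_19_5 lc_f_rc_17_1 lc_f_rc_14_1 lc_f_rc_17_3 lc_f_rc_10_3 lc_f_rc_19_3 lc_f_rc_17_3 lc_f_rc_14_1 lc_f_rc_17_3 lc_f_rc_14_3 lc_f_rc_21_1 lc_f_rc_20_1 lc_f_rc_22_1 lc_f_rc_5_3 lc_f_rc_21_1 lc_f_rc_10_3 lc_f_rc_19_5 lc_f_rc_5_3 lc_f_rc_14_3 lc_f_rc_10_3 lc_f_rc_19_5 lc_f_rc_14_1 lc_f_rc_17_1 lc_f_rc_20_1 lc_f_rc_22_1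 lc_f_rc_10_1 lc_f_rc_5_1 lc_f_rc_20_1 lc_f_rc_19_1 lc_f_rc_14_3 lc_f_rc_10_1 lc_f_rc_10_3 lc_f_rc_20_1 lc_f_rc_5_1 lc_f_rc_14_1 lc_f_rc_20_1 lc_f_rc_10_1 lc_f_rc_10_3 lc_f_rc_20_1 lc_f_rc_14_3 lc_f_rc_17_3 lc_f_rc_21_1 lc_f_rc_14_3 lc_f_rc_14_1 lc_f_rc_14_3 lc_f_rc_5_1 lc_f_rc_10_3) (@D3.rec (fun _ => (Cert rels S Gen.f)) lc_f_rc_21_1 lc_f_rc_17_1 lc_f_rc_21_1 lc_f_rc_5_1 lc_f_Cert_tree lc_f_rc_20_1 lc_f_rc_14_1 lc_f_Cert_tree lc_f_rc_20_1 lc_f_rc_5_3 lc_f_rc_19_3 lc_f_rc_10_1 lc_f_rc_21_1 lc_f_rc_20_1 lc_f_rc_14_3 lc_f_rc_5_3 lc_f_rc_14_1 lc_f_rc_20_1 lc_f_rc_19_1 lc_f_rc_20_1 lc_f_rc_10_3 lc_f_rc_21_1 lc_f_rc_20_1 lc_f_rc_17_3 lc_f_rc_21_1 lc_f_rc_22_1 lc_f_rc_19_3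 lc_f_rc_5_3 lc_f_rc_21_1 lc_f_rc_17_1 lc_f_rc_14_1 lc_f_rc_10_1 lc_f_rc_14_3 lc_f_rc_5_3 lc_f_rc_10_3 lc_f_rc_10_3 lc_f_rc_5_3 lc_f_rc_14_3 lc_f_rc_10_1 lc_f_rc_14_1 lc_f_rc_19_3 lc_f_rc_20_1 lc_f_rc_17_1 lc_f_rc_14_3 lc_f_rc_20_1 lc_f_rc_21_1 lc_f_rc_22_1 lc_f_rc_19_5 lc_f_rc_10_3 lc_f_rc_17_3 lc_f_rc_19_3 lc_f_rc_22_1 lc_f_rc_5_3 lc_f_rc_14_3 lc_f_rc_5_1 lc_f_rc_21_1 lc_f_rc_10_3 lc_f_rc_17_3 lc_f_rc_10_1 lc_f_rc_17_1 lc_f_rc_19_5 lc_f_rc_17_3) (@D3.rec (fun _ => (Cert rels S Gen.f)) lc_f_rc_22_1 lc_f_rc_19_3 lc_f_rc_5_1 lc_f_rc_14_3 lc_f_rc_5_1 lc_f_rc_14_3 lc_f_rc_14_3 lc_f_rc_14_3 lc_f_rc_14_3 lc_f_rc_14_3 lc_f_rc_10_3 lc_f_rc_21_1 lc_f_rc_10_3 lc_f_rc_10_3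 lc_f_rc_19_5 lc_f_rc_21_1 lc_f_rc_5_1 lc_f_rc_17_1 lc_f_rc_20_1 lc_f_rc_10_3 lc_f_rc_10_3 lc_f_rc_20_1 lc_f_rc_19_1 lc_f_rc_10_3 lc_f_rc_5_3 lc_f_rc_14_1 lc_f_rc_19_3 lc_f_rc_5_1 lc_f_rc_14_3 lc_f_rc_10_1 lc_f_rc_14_1 lc_f_rc_19_3 lc_f_rc_10_3 lc_f_rc_17_3 lc_f_rc_21_1 lc_f_rc_20_1 lc_f_rc_14_1 lc_f_rc_17_1 lc_f_rc_14_3 lc_f_rc_14_3 lc_f_rc_20_1 lc_f_rc_5_3 lc_f_rc_5_3 lc_f_rc_10_3 lc_f_rc_5_3 lc_f_rc_10_3 lc_f_rc_19_3 lc_f_rc_14_1 lc_f_rc_22_1 lc_f_rc_14_1 lc_f_rc_14_3 lc_f_rc_17_3 lc_f_rc_10_1 lc_f_rc_21_1 lc_f_rc_21_1 lc_f_rc_17_3 lc_f_rc_10_3 lc_f_rc_21_1 lc_f_rc_5_1 lc_f_rc_14_3 lc_f_rc_22_1 lc_f_rc_10_1) (@D3.rec (fun _ => (Cert rels S Gen.f)) lc_f_rc_21_1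 lc_f_rc_10_1 lc_f_rc_5_3 lc_f_rc_17_3 lc_f_rc_17_3 lc_f_rc_14_1 lc_f_rc_17_3 lc_f_rc_14_1 lc_f_rc_14_3 lc_f_rc_21_1 lc_f_rc_20_1 lc_f_rc_14_3 lc_f_rc_5_3 lc_f_rc_20_1 lc_f_rc_10_3 lc_f_rc_22_1 lc_f_rc_5_3 lc_f_rc_20_1 lc_f_rc_21_1 lc_f_rc_22_1 lc_f_rc_14_1 lc_f_rc_14_1 lc_f_rc_14_1 lc_f_rc_21_1 lc_f_rc_14_3 lc_f_rc_14_1 lc_f_rc_17_3 lc_f_rc_10_3 lc_f_rc_20_1 lc_f_rc_14_3 lc_f_rc_5_1 lc_f_rc_14_1 lc_f_rc_20_1 lc_f_rc_20_1 lc_f_rc_21_1 lc_f_rc_20_1 lc_f_rc_14_3 lc_f_rc_20_1 lc_f_rc_21_1 lc_f_rc_21_1 lc_f_rc_10_3 lc_f_Cert_tree lc_f_rc_20_1 lc_f_rc_17_3 lc_f_rc_17_3 lc_f_rc_10_3 lc_f_rc_21_1 lc_f_rc_17_3 lc_f_rc_14_3 lc_f_Cert_tree lc_f_rc_14_3 lc_f_rc_20_1 lc_f_rc_10_3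 lc_f_rc_5_1 lc_f_rc_20_1 lc_f_rc_21_1 lc_f_rc_5_1 lc_f_rc_10_3 lc_f_rc_14_3 lc_f_rc_10_1 lc_f_rc_19_3 lc_f_rc_19_3) (@D3.rec (fun _ => (Cert rels S Gen.f)) lc_f_rc_20_1 lc_f_rc_19_3 lc_f_rc_10_1 lc_f_rc_14_1 lc_f_rc_17_3 lc_f_rc_14_3 lc_f_rc_10_1 lc_f_rc_5_3 lc_f_rc_19_3 lc_f_rc_17_3 lc_f_rc_17_1 lc_f_rc_20_1 lc_f_rc_5_3 lc_f_rc_20_1 lc_f_rc_14_1 lc_f_rc_14_3 lc_f_rc_21_1 lc_f_rc_20_1 lc_f_rc_19_3 lc_f_rc_5_3 lc_f_rc_20_1 lc_f_rc_14_3 lc_f_rc_21_1 lc_f_rc_20_1 lc_f_rc_21_1 lc_f_rc_5_1 lc_f_rc_14_1 lc_f_rc_17_3 lc_f_rc_21_1 lc_f_rc_21_1 lc_f_rc_22_1 lc_f_rc_5_1 lc_f_rc_20_1 lc_f_rc_10_3 lc_f_rc_17_1 lc_f_rc_14_3 lc_f_rc_17_3 lc_f_rc_10_3 lc_f_rc_22_1 lc_f_rc_20_1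 lc_f_rc_17_3 lc_f_rc_10_3 lc_f_rc_17_1 lc_f_rc_20_1 lc_f_rc_14_3 lc_f_rc_10_3 lc_f_rc_14_3 lc_f_rc_5_1 lc_f_rc_21_1 lc_f_rc_20_1 lc_f_rc_14_1 lc_f_rc_20_1 lc_f_rc_17_3 lc_f_rc_10_3 lc_f_rc_21_1 lc_f_rc_17_3 lc_f_rc_21_1 lc_f_rc_14_3 lc_f_rc_14_3 lc_f_rc_21_1 lc_f_rc_10_1 lc_f_rc_17_3) (@D3.rec (fun _ => (Cert rels S Gen.f)) lc_f_rc_10_3 lc_f_rc_21_1 lc_f_rc_22_1 lc_f_rc_19_3 lc_f_rc_21_1 lc_f_rc_14_3 lc_f_rc_10_1 lc_f_rc_19_3 lc_f_rc_21_1 lc_f_rc_10_3 lc_f_rc_10_3 lc_f_rc_14_3 lc_f_rc_21_1 lc_f_rc_10_1 lc_f_rc_17_1 lc_f_rc_20_1 lc_f_rc_20_1 lc_f_rc_20_1 lc_f_rc_20_1 lc_f_rc_5_3 lc_f_rc_19_3 lc_f_rc_5_3 lc_f_rc_17_1 lc_f_rc_14_3 lc_f_rc_22_1 lc_f_rc_17_3 lc_f_rc_19_1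 lc_f_rc_10_3 lc_f_rc_14_3 lc_f_rc_20_1 lc_f_rc_10_3 lc_f_rc_5_1 lc_f_rc_19_5 lc_f_rc_5_3 lc_f_rc_22_1 lc_f_rc_14_1 lc_f_rc_10_3 lc_f_rc_20_1 lc_f_rc_14_3 lc_f_rc_17_1 lc_f_rc_10_3 lc_f_rc_21_1 lc_f_rc_20_1 lc_f_rc_14_3 lc_f_rc_10_3 lc_f_rc_14_3 lc_f_rc_14_3 lc_f_rc_21_1 lc_f_rc_19_3 lc_f_rc_21_1 lc_f_rc_5_1 lc_f_rc_14_3 lc_f_Cert_tree lc_f_rc_14_3 lc_f_rc_14_3 lc_f_rc_17_3 lc_f_rc_14_1 lc_f_rc_21_1 lc_f_rc_20_1 lc_f_rc_5_1 lc_f_rc_5_3 lc_f_rc_17_3) (@D3.rec (fun _ => (Cert rels S Gen.f)) lc_f_rc_5_3 lc_f_rc_21_1 lc_f_rc_17_3 lc_f_rc_21_1 lc_f_rc_17_3 lc_f_rc_14_1 lc_f_rc_22_1 lc_f_rc_21_1 lc_f_rc_14_3 lc_f_rc_17_3 lc_f_rc_10_1 lc_f_rc_17_3 lc_f_rc_19_1 lc_f_rc_20_1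 lc_f_rc_17_3 lc_f_rc_20_1 lc_f_rc_10_3 lc_f_rc_5_1 lc_f_rc_20_1 lc_f_rc_20_1 lc_f_rc_20_1 lc_f_rc_5_3 lc_f_rc_10_3 lc_f_rc_19_3 lc_f_rc_14_3 lc_f_rc_20_1 lc_f_rc_14_1 lc_f_rc_10_1 lc_f_rc_10_1 lc_f_rc_14_1 lc_f_rc_10_3 lc_f_rc_17_3 lc_f_rc_17_1 lc_f_rc_14_3 lc_f_rc_17_1 lc_f_rc_5_1 lc_f_rc_21_1 lc_f_rc_14_1 lc_f_rc_10_1 lc_f_rc_5_1 lc_f_rc_14_3 lc_f_rc_10_1 lc_f_rc_20_1 lc_f_rc_10_1 lc_f_rc_20_1 lc_f_rc_10_3 lc_f_rc_10_3 lc_f_rc_20_1 lc_f_rc_20_1 lc_f_rc_10_3 lc_f_rc_17_1 lc_f_rc_17_1 lc_f_rc_17_3 lc_f_rc_5_1 lc_f_rc_14_3 lc_f_rc_19_5 lc_f_rc_5_3 lc_f_rc_14_3 lc_f_rc_17_3 lc_f_rc_10_1 lc_f_rc_22_1 lc_f_rc_19_5) (@D3.rec (fun _ => (Cert rels S Gen.f)) lc_f_rc_17_3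 lc_f_rc_21_1 lc_f_rc_20_1 lc_f_rc_17_3 lc_f_rc_19_3 lc_f_rc_10_3 lc_f_rc_20_1 lc_f_rc_22_1 lc_f_rc_19_3 lc_f_rc_20_1 lc_f_rc_14_3 lc_f_rc_21_1 lc_f_rc_19_3 lc_f_rc_17_3 lc_f_rc_14_3 lc_f_rc_10_1 lc_f_rc_17_3 lc_f_rc_22_1 lc_f_rc_20_1 lc_f_rc_14_1 lc_f_rc_21_1 lc_f_rc_19_5 lc_f_rc_19_1 lc_f_rc_14_3 lc_f_rc_19_3 lc_f_rc_10_3 lc_f_rc_10_3 lc_f_rc_21_1 lc_f_rc_20_1 lc_f_rc_21_1 lc_f_rc_19_3 lc_f_rc_19_5 lc_f_rc_20_1 lc_f_rc_10_3 lc_f_rc_19_1 lc_f_rc_14_3 lc_f_rc_19_3 lc_f_rc_19_5 lc_f_rc_19_5 lc_f_rc_17_3 lc_f_rc_5_3 lc_f_rc_21_1 lc_f_rc_5_3 lc_f_rc_17_1 lc_f_rc_19_3 lc_f_rc_10_3 lc_f_rc_10_3 lc_f_rc_20_1 lc_f_rc_20_1 lc_f_rc_14_3 lc_f_rc_10_3 lc_f_rc_10_1 lc_f_rc_5_3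 lc_f_rc_17_3 lc_f_rc_17_1 lc_f_rc_17_1 lc_f_rc_17_1 lc_f_rc_20_1 lc_f_rc_22_1 lc_f_rc_10_1 lc_f_rc_14_3 lc_f_rc_14_3) (@D3.rec (fun _ => (Cert rels S Gen.f)) lc_f_rc_14_3 lc_f_rc_22_1 lc_f_rc_14_1 lc_f_rc_14_3 lc_f_rc_14_3 lc_f_rc_17_3 lc_f_rc_10_3 lc_f_rc_19_1 lc_f_rc_20_1 lc_f_rc_10_3 lc_f_rc_5_1 lc_f_rc_20_1 lc_f_rc_14_3 lc_f_rc_14_3 lc_f_rc_20_1 lc_f_rc_17_3 lc_f_rc_21_1 lc_f_rc_21_1 lc_f_rc_10_3 lc_f_rc_5_3 lc_f_rc_10_1 lc_f_rc_19_3 lc_f_rc_10_3 lc_f_rc_19_3 lc_f_rc_14_3 lc_f_rc_20_1 lc_f_rc_20_1 lc_f_rc_5_3 lc_f_rc_14_3 lc_f_rc_20_1 lc_f_rc_20_1 lc_f_rc_5_3 lc_f_rc_5_1 lc_f_rc_19_3 lc_f_rc_21_1 lc_f_rc_5_3 lc_f_rc_19_3 lc_f_rc_21_1 lc_f_rc_22_1 lc_f_Cert_tree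 lc_f_rc_10_3 lc_f_rc_17_3 lc_f_rc_14_1 lc_f_rc_10_3 lc_f_rc_22_1 lc_f_rc_10_1 lc_f_rc_17_1 lc_f_rc_10_1 lc_f_rc_14_1 lc_f_rc_14_3 lc_f_rc_21_1 lc_f_rc_17_1 lc_f_rc_20_1 lc_f_rc_17_3 lc_f_rc_10_1 lc_f_rc_10_3 lc_f_rc_17_3 lc_f_Cert_tree lc_f_rc_14_3 lc_f_rc_17_1 lc_f_rc_14_3 lc_f_rc_17_3) (@D3.rec (fun _ => (Cert rels S Gen.f)) lc_f_rc_14_3 lc_f_rc_17_3 lc_f_rc_5_3 lc_f_rc_17_3 lc_f_rc_10_3 lc_f_rc_10_3 lc_f_rc_14_3 lc_f_rc_5_3 lc_f_rc_10_1 lc_f_rc_14_3 lc_f_rc_20_1 lc_f_rc_17_3 lc_f_rc_17_3 lc_f_rc_10_3 lc_f_rc_17_3 lc_f_rc_17_3 lc_f_rc_14_3 lc_f_rc_17_3 lc_f_rc_5_1 lc_f_rc_14_3 lc_f_rc_14_3 lc_f_rc_21_1 lc_f_rc_17_1 lc_f_rc_20_1 lc_f_rc_20_1 lc_f_rc_21_1 lc_f_rc_20_1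 lc_f_rc_20_1 lc_f_rc_20_1 lc_f_rc_10_3 lc_f_rc_10_3 lc_f_rc_21_1 lc_f_rc_5_1 lc_f_rc_21_1 lc_f_rc_20_1 lc_f_rc_20_1 lc_f_rc_20_1 lc_f_rc_5_1 lc_f_rc_20_1 lc_f_rc_20_1 lc_f_rc_17_1 lc_f_rc_10_3 lc_f_rc_5_3 lc_f_rc_21_1 lc_f_rc_17_3 lc_f_rc_17_3 lc_f_rc_5_3 lc_f_rc_17_3 lc_f_rc_14_3 lc_f_rc_17_3 lc_f_rc_14_3 lc_f_rc_20_1 lc_f_rc_21_1 lc_f_rc_20_1 lc_f_rc_14_3 lc_f_rc_14_3 lc_f_rc_17_1 lc_f_rc_10_3 lc_f_rc_5_1 lc_f_rc_19_3 lc_f_rc_14_1 lc_f_rc_10_1) (@D3.rec (fun _ => (Cert rels S Gen.f)) lc_f_rc_10_3 lc_f_rc_14_1 lc_f_rc_14_1 lc_f_rc_20_1 lc_f_rc_21_1 lc_f_rc_21_1 lc_f_rc_10_3 lc_f_rc_14_3 lc_f_rc_10_1 lc_f_rc_14_3 lc_f_rc_10_3 lc_f_rc_17_3 lc_f_rc_20_1 lc_f_rc_5_1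 lc_f_rc_14_1 lc_f_rc_14_3 lc_f_rc_17_3 lc_f_rc_22_1 lc_f_rc_14_1 lc_f_rc_14_3 lc_f_rc_22_1 lc_f_rc_21_1 lc_f_rc_14_3 lc_f_rc_10_3 lc_f_rc_19_5 lc_f_Cert_tree lc_f_rc_20_1 lc_f_rc_17_3 lc_f_rc_17_1 lc_f_rc_17_3 lc_f_rc_17_3 lc_f_rc_19_3 lc_f_rc_14_3 lc_f_rc_5_3 lc_f_rc_19_3 lc_f_rc_14_3 lc_f_rc_17_1 lc_f_rc_14_1 lc_f_rc_17_1 lc_f_rc_21_1 lc_f_rc_17_1 lc_f_rc_20_1 lc_f_rc_20_1 lc_f_rc_17_1 lc_f_rc_17_1 lc_f_rc_10_3 lc_f_rc_21_1 lc_f_rc_17_3 lc_f_rc_17_3 lc_f_rc_21_1 lc_f_rc_19_5 lc_f_rc_10_3 lc_f_rc_14_1 lc_f_rc_14_1 lc_f_rc_19_3 lc_f_rc_10_3 lc_f_rc_10_3 lc_f_rc_10_3 lc_f_rc_5_1 lc_f_rc_17_1 lc_f_rc_21_1 lc_f_rc_20_1) (@D3.rec (fun _ => (Cert rels S Gen.f)) lc_f_rc_17_3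 lc_f_rc_19_5 lc_f_rc_10_3 lc_f_rc_19_5 lc_f_rc_17_3 lc_f_rc_21_1 lc_f_rc_17_3 lc_f_rc_19_3 lc_f_rc_5_1 lc_f_rc_19_3 lc_f_rc_17_1 lc_f_rc_5_3 lc_f_rc_17_3 lc_f_rc_17_3 lc_f_rc_14_1 lc_f_rc_5_3 lc_f_rc_17_3 lc_f_rc_21_1 lc_f_rc_21_1 lc_f_rc_5_3 lc_f_rc_10_3 lc_f_rc_17_3 lc_f_rc_14_3 lc_f_rc_20_1 lc_f_rc_14_3 lc_f_rc_10_3 lc_f_rc_14_1 lc_f_rc_17_3 lc_f_rc_17_1 lc_f_rc_21_1 lc_f_rc_10_3 lc_f_rc_19_5 lc_f_rc_17_3 lc_f_rc_20_1 lc_f_rc_10_3 lc_f_rc_17_1 lc_f_rc_19_3 lc_f_rc_19_1 lc_f_rc_17_3 lc_f_rc_17_3 lc_f_rc_21_1 lc_f_rc_10_3 lc_f_rc_21_1 lc_f_rc_21_1 lc_f_rc_17_3 lc_f_rc_20_1 lc_f_rc_22_1 lc_f_rc_17_1 lc_f_rc_10_3 lc_f_rc_10_3 lc_f_rc_10_1 lc_f_rc_14_3 lc_f_rc_19_3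 lc_f_rc_22_1 lc_f_rc_20_1 lc_f_rc_17_3 lc_f_rc_22_1 lc_f_rc_17_3 lc_f_rc_14_1 lc_f_rc_22_1 lc_f_rc_22_1 lc_f_rc_22_1) (@D3.rec (fun _ => (Cert rels S Gen.f)) lc_f_rc_22_1 lc_f_rc_20_1 lc_f_rc_20_1 lc_f_rc_21_1 lc_f_rc_20_1 lc_f_rc_10_3 lc_f_rc_19_5 lc_f_rc_17_1 lc_f_rc_17_3 lc_f_rc_20_1 lc_f_rc_14_3 lc_f_rc_22_1 lc_f_rc_21_1 lc_f_rc_22_1 lc_f_rc_10_3 lc_f_rc_10_3 lc_f_rc_20_1 lc_f_rc_17_1 lc_f_rc_19_3 lc_f_rc_21_1 lc_f_rc_17_1 lc_f_rc_20_1 lc_f_rc_17_3 lc_f_rc_17_3 lc_f_rc_17_1 lc_f_rc_14_3 lc_f_rc_10_1 lc_f_rc_10_3 lc_f_rc_22_1 lc_f_rc_17_1 lc_f_rc_10_3 lc_f_rc_17_3 lc_f_rc_22_1 lc_f_rc_19_3 lc_f_rc_17_3 lc_f_rc_14_3 lc_f_rc_20_1 lc_f_rc_20_1 lc_f_rc_14_3 lc_f_rc_17_3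 lc_f_rc_17_3 lc_f_rc_17_3 lc_f_rc_17_3 lc_f_rc_20_1 lc_f_rc_21_1 lc_f_rc_5_3 lc_f_rc_17_1 lc_f_rc_19_5 lc_f_rc_19_5 lc_f_rc_14_1 lc_f_rc_17_3 lc_f_rc_22_1 lc_f_rc_17_3 lc_f_rc_17_3 lc_f_rc_17_3 lc_f_rc_21_1 lc_f_rc_19_3 lc_f_rc_22_1 lc_f_rc_10_3 lc_f_rc_21_1 lc_f_rc_19_5 lc_f_rc_20_1) (@D3.rec (fun _ => (Cert rels S Gen.f)) lc_f_rc_20_1 lc_f_rc_5_3 lc_f_rc_22_1 lc_f_rc_22_1 lc_f_rc_14_3 lc_f_rc_14_3 lc_f_rc_10_1 lc_f_rc_17_3 lc_f_rc_14_3 lc_f_rc_17_3 lc_f_rc_10_1 lc_f_rc_14_3 lc_f_Cert_tree lc_f_rc_10_3 lc_f_rc_19_3 lc_f_rc_10_1 lc_f_rc_20_1 lc_f_rc_10_3 lc_f_rc_14_3 lc_f_rc_17_3 lc_f_rc_5_3 lc_f_rc_20_1 lc_f_rc_10_3 lc_f_rc_5_1 lc_f_rc_10_3 lc_f_rc_17_3 lc_f_rc_5_3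 lc_f_Cert_tree lc_f_rc_5_1 lc_f_rc_21_1 lc_f_rc_14_3 lc_f_rc_20_1 lc_f_rc_22_1 lc_f_rc_20_1 lc_f_rc_20_1 lc_f_rc_17_1 lc_f_rc_14_3 lc_f_rc_10_3 lc_f_rc_17_3 lc_f_rc_10_3 lc_f_rc_5_1 lc_f_rc_17_3 lc_f_rc_22_1 lc_f_rc_10_3 lc_f_rc_14_1 lc_f_rc_20_1 lc_f_rc_19_3 lc_f_rc_19_3 lc_f_rc_17_1 lc_f_rc_21_1 lc_f_rc_21_1 lc_f_rc_20_1 lc_f_rc_20_1 lc_f_rc_14_3 lc_f_rc_14_3 lc_f_rc_20_1 lc_f_rc_14_3 lc_f_Cert_tree lc_f_rc_20_1 lc_f_rc_20_1 lc_f_rc_10_3 lc_f_rc_10_1) (@D3.rec (fun _ => (Cert rels S Gen.f)) lc_f_rc_10_3 lc_f_rc_20_1 lc_f_rc_10_1 lc_f_rc_17_3 lc_f_rc_5_3 lc_f_rc_17_3 lc_f_rc_21_1 lc_f_rc_17_3 lc_f_rc_10_3 lc_f_rc_5_1 lc_f_rc_17_3 lc_f_rc_17_3 lc_f_rc_14_3 lc_f_rc_19_3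 lc_f_rc_17_3 lc_f_rc_22_1 lc_f_rc_19_1 lc_f_rc_14_3 lc_f_rc_21_1 lc_f_rc_5_1 lc_f_rc_17_1 lc_f_rc_17_3 lc_f_rc_14_1 lc_f_rc_17_1 lc_f_rc_19_5 lc_f_rc_14_3 lc_f_rc_21_1 lc_f_rc_17_3 lc_f_rc_17_3 lc_f_rc_10_1 lc_f_rc_10_3 lc_f_rc_10_3 lc_f_rc_14_3 lc_f_rc_14_3 lc_f_rc_14_3 lc_f_rc_21_1 lc_f_rc_17_1 lc_f_rc_21_1 lc_f_rc_10_3 lc_f_rc_14_3 lc_f_rc_17_3 lc_f_rc_20_1 lc_f_rc_17_3 lc_f_rc_10_3 lc_f_rc_14_1 lc_f_rc_21_1 lc_f_rc_17_3 lc_f_rc_14_3 lc_f_rc_10_3 lc_f_rc_10_3 lc_f_rc_20_1 lc_f_rc_14_3 lc_f_rc_17_3 lc_f_rc_19_1 lc_f_rc_20_1 lc_f_rc_14_3 lc_f_rc_14_3 lc_f_rc_10_1 lc_f_rc_17_3 lc_f_rc_17_3 lc_f_rc_14_3 lc_f_rc_20_1) (@D3.rec (fun _ => (Cert rels S Gen.f)) lc_f_rc_21_1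 lc_f_rc_19_5 lc_f_rc_20_1 lc_f_rc_20_1 lc_f_rc_10_3 lc_f_rc_21_1 lc_f_rc_22_1 lc_f_rc_22_1 lc_f_rc_5_3 lc_f_rc_22_1 lc_f_rc_20_1 lc_f_rc_14_1 lc_f_rc_17_3 lc_f_rc_10_1 lc_f_rc_14_3 lc_f_rc_14_3 lc_f_rc_19_3 lc_f_rc_20_1 lc_f_rc_5_3 lc_f_rc_10_1 lc_f_rc_20_1 lc_f_rc_22_1 lc_f_rc_19_3 lc_f_rc_17_3 lc_f_rc_5_3 lc_f_rc_17_3 lc_f_rc_5_3 lc_f_rc_20_1 lc_f_rc_20_1 lc_f_rc_20_1 lc_f_rc_21_1 lc_f_rc_10_1 lc_f_rc_10_1 lc_f_rc_20_1 lc_f_rc_14_3 lc_f_rc_14_3 lc_f_rc_14_3 lc_f_rc_20_1 lc_f_rc_20_1 lc_f_rc_5_1 lc_f_rc_10_3 lc_f_rc_20_1 lc_f_rc_20_1 lc_f_rc_19_1 lc_f_rc_5_3 lc_f_rc_10_3 lc_f_rc_20_1 lc_f_rc_14_1 lc_f_rc_14_3 lc_f_rc_10_1 lc_f_rc_22_1 lc_f_rc_22_1 lc_f_rc_21_1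 lc_f_rc_14_3 lc_f_rc_20_1 lc_f_rc_20_1 lc_f_rc_21_1 lc_f_rc_14_1 lc_f_rc_17_1 lc_f_rc_17_1 lc_f_rc_19_3 lc_f_rc_14_1) (@D3.rec (fun _ => (Cert rels S Gen.f)) lc_f_rc_14_1 lc_f_rc_22_1 lc_f_rc_20_1 lc_f_rc_20_1 lc_f_rc_20_1 lc_f_rc_10_3 lc_f_rc_5_1 lc_f_rc_5_3 lc_f_rc_19_1 lc_f_rc_17_3 lc_f_rc_19_3 lc_f_Cert_tree lc_f_rc_10_3 lc_f_rc_14_1 lc_f_rc_10_3 lc_f_rc_20_1 lc_f_rc_14_3 lc_f_rc_21_1 lc_f_Cert_tree lc_f_rc_20_1 lc_f_rc_10_3 lc_f_rc_17_3 lc_f_rc_10_3 lc_f_rc_17_3 lc_f_rc_14_3 lc_f_rc_10_3 lc_f_rc_17_1 lc_f_rc_17_3 lc_f_rc_14_3 lc_f_rc_10_1 lc_f_rc_10_3 lc_f_rc_19_3 lc_f_rc_21_1 lc_f_rc_17_3 lc_f_rc_17_1 lc_f_rc_17_3 lc_f_rc_22_1 lc_f_rc_21_1 lc_f_rc_17_3 lc_f_rc_5_3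 lc_f_rc_5_3 lc_f_rc_14_3 lc_f_rc_5_1 lc_f_rc_21_1 lc_f_rc_14_3 lc_f_rc_10_1 lc_f_rc_20_1 lc_f_rc_10_1 lc_f_rc_19_3 lc_f_rc_20_1 lc_f_rc_14_3 lc_f_rc_5_1 lc_f_rc_19_3 lc_f_rc_10_3 lc_f_rc_14_3 lc_f_rc_17_3 lc_f_rc_21_1 lc_f_rc_19_3 lc_f_rc_10_3 lc_f_rc_20_1 lc_f_rc_10_1 lc_f_rc_20_1) (@D3.rec (fun _ => (Cert rels S Gen.f)) lc_f_rc_22_1 lc_f_rc_14_1 lc_f_rc_14_3 lc_f_rc_14_1 lc_f_rc_10_3 lc_f_rc_17_3 lc_f_rc_14_1 lc_f_rc_14_1 lc_f_rc_20_1 lc_f_rc_17_3 lc_f_rc_5_1 lc_f_rc_14_3 lc_f_rc_14_1 lc_f_rc_19_3 lc_f_rc_5_3 lc_f_rc_17_3 lc_f_rc_19_3 lc_f_rc_10_3 lc_f_rc_17_3 lc_f_rc_5_3 lc_f_rc_17_1 lc_f_rc_19_3 lc_f_rc_17_3 lc_f_rc_5_1 lc_f_rc_10_1 lc_f_rc_21_1 lc_f_rc_20_1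 lc_f_rc_20_1 lc_f_rc_19_5 lc_f_rc_20_1 lc_f_rc_20_1 lc_f_rc_20_1 lc_f_rc_17_3 lc_f_rc_5_3 lc_f_rc_21_1 lc_f_rc_20_1 lc_f_rc_10_1 lc_f_rc_10_3 lc_f_rc_10_3 lc_f_rc_21_1 lc_f_rc_17_3 lc_f_rc_22_1 lc_f_rc_10_3 lc_f_rc_5_1 lc_f_rc_17_3 lc_f_rc_21_1 lc_f_rc_14_3 lc_f_rc_14_3 lc_f_rc_19_1 lc_f_rc_17_3 lc_f_rc_17_3 lc_f_rc_14_3 lc_f_rc_20_1 lc_f_rc_14_3 lc_f_rc_21_1 lc_f_rc_5_3 lc_f_rc_5_3 lc_f_rc_10_3 lc_f_rc_22_1 lc_f_rc_17_3 lc_f_rc_14_3 lc_f_rc_21_1) (@D3.rec (fun _ => (Cert rels S Gen.f)) lc_f_rc_20_1 lc_f_rc_19_5 lc_f_rc_17_3 lc_f_rc_10_3 lc_f_rc_19_1 lc_f_rc_17_3 lc_f_rc_10_3 lc_f_rc_21_1 lc_f_rc_14_1 lc_f_rc_17_3 lc_f_rc_17_1 lc_f_rc_14_1 lc_f_rc_17_3 lc_f_rc_10_1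 lc_f_rc_14_1 lc_f_rc_22_1 lc_f_rc_10_3 lc_f_rc_14_1 lc_f_rc_19_5 lc_f_rc_21_1 lc_f_rc_20_1 lc_f_rc_14_3 lc_f_rc_21_1 lc_f_rc_10_3 lc_f_rc_19_5 lc_f_rc_14_3 lc_f_rc_17_1 lc_f_rc_14_3 lc_f_rc_21_1 lc_f_rc_17_1 lc_f_rc_14_3 lc_f_rc_17_3 lc_f_rc_17_3 lc_f_rc_17_3 lc_f_rc_21_1 lc_f_rc_19_3 lc_f_rc_5_3 lc_f_rc_5_3 lc_f_rc_5_1 lc_f_rc_17_3 lc_f_rc_14_3 lc_f_rc_14_1 lc_f_rc_17_3 lc_f_rc_22_1 lc_f_rc_5_3 lc_f_rc_17_3 lc_f_rc_14_3 lc_f_rc_17_3 lc_f_rc_5_3 lc_f_rc_10_3 lc_f_rc_22_1 lc_f_rc_20_1 lc_f_rc_10_1 lc_f_rc_14_3 lc_f_rc_17_3 lc_f_Cert_tree lc_f_Cert_tree lc_f_rc_19_1 lc_f_rc_19_5 lc_f_rc_22_1 lc_f_rc_20_1 lc_f_rc_14_3) (@D3.rec (fun _ => (Cert rels S Gen.f)) lc_f_rc_14_3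 lc_f_rc_14_1 lc_f_rc_14_3 lc_f_rc_17_1 lc_f_rc_19_5 lc_f_rc_19_5 lc_f_rc_10_1 lc_f_rc_17_3 lc_f_rc_10_3 lc_f_rc_22_1 lc_f_rc_20_1 lc_f_rc_21_1 lc_f_rc_22_1 lc_f_rc_14_3 lc_f_rc_10_3 lc_f_rc_19_5 lc_f_rc_17_3 lc_f_rc_10_1 lc_f_rc_17_3 lc_f_rc_19_3 lc_f_rc_17_3 lc_f_rc_10_3 lc_f_rc_5_3 lc_f_rc_10_3 lc_f_rc_5_1 lc_f_rc_17_1 lc_f_rc_21_1 lc_f_rc_14_3 lc_f_rc_22_1 lc_f_rc_17_3 lc_f_rc_17_1 lc_f_rc_14_3 lc_f_rc_22_1 lc_f_rc_14_3 lc_f_rc_22_1 lc_f_rc_10_1 lc_f_rc_14_3 lc_f_rc_17_3 lc_f_rc_10_3 lc_f_rc_21_1 lc_f_rc_10_3 lc_f_rc_10_3 lc_f_rc_17_1 lc_f_rc_14_3 lc_f_rc_17_1 lc_f_rc_14_3 lc_f_rc_22_1 lc_f_rc_17_3 lc_f_rc_22_1 lc_f_rc_10_3 lc_f_rc_20_1 lc_f_rc_17_3 lc_f_rc_19_5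 lc_f_rc_10_3 lc_f_rc_20_1 lc_f_rc_22_1 lc_f_rc_10_3 lc_f_rc_14_3 lc_f_rc_20_1 lc_f_rc_17_3 lc_f_rc_5_3 lc_f_rc_20_1) (@D3.rec (fun _ => (Cert rels S Gen.f)) lc_f_rc_20_1 lc_f_rc_14_3 lc_f_rc_10_1 lc_f_rc_17_3 lc_f_rc_14_3 lc_f_rc_17_1 lc_f_rc_19_1 lc_f_rc_17_1 lc_f_rc_19_3 lc_f_rc_19_5 lc_f_rc_17_3 lc_f_rc_17_1 lc_f_rc_17_1 lc_f_rc_20_1 lc_f_rc_21_1 lc_f_rc_21_1 lc_f_rc_17_3 lc_f_rc_10_3 lc_f_rc_22_1 lc_f_rc_10_1 lc_f_rc_17_1 lc_f_rc_20_1 lc_f_rc_10_1 lc_f_rc_22_1 lc_f_rc_14_3 lc_f_rc_20_1 lc_f_rc_21_1 lc_f_rc_10_1 lc_f_rc_17_3 lc_f_rc_17_3 lc_f_rc_17_3 lc_f_rc_14_3 lc_f_Cert_tree lc_f_rc_19_3 lc_f_rc_10_1 lc_f_rc_21_1 lc_f_rc_5_3 lc_f_rc_19_1 lc_f_rc_5_3 lc_f_rc_17_3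 lc_f_rc_10_3 lc_f_rc_10_3 lc_f_rc_10_3 lc_f_rc_17_3 lc_f_rc_14_1 lc_f_rc_19_3 lc_f_rc_10_3 lc_f_rc_21_1 lc_f_rc_19_5 lc_f_rc_10_1 lc_f_rc_20_1 lc_f_rc_17_1 lc_f_rc_20_1 lc_f_rc_17_1 lc_f_rc_14_1 lc_f_rc_17_3 lc_f_rc_14_3 lc_f_rc_5_1 lc_f_rc_5_3 lc_f_rc_5_1 lc_f_rc_20_1 lc_f_rc_14_3) (@D3.rec (fun _ => (Cert rels S Gen.f)) lc_f_rc_14_3 lc_f_rc_14_1 lc_f_rc_17_1 lc_f_rc_19_3 lc_f_rc_14_3 lc_f_rc_20_1 lc_f_rc_20_1 lc_f_rc_17_1 lc_f_rc_17_3 lc_f_rc_20_1 lc_f_rc_17_3 lc_f_rc_10_3 lc_f_rc_19_5 lc_f_rc_21_1 lc_f_rc_22_1 lc_f_rc_20_1 lc_f_rc_10_3 lc_f_rc_14_3 lc_f_rc_20_1 lc_f_rc_5_3 lc_f_rc_5_1 lc_f_rc_17_1 lc_f_rc_20_1 lc_f_rc_20_1 lc_f_rc_5_1 lc_f_rc_19_1 lc_f_rc_17_3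 lc_f_rc_20_1 lc_f_rc_5_1 lc_f_rc_20_1 lc_f_rc_10_1 lc_f_rc_19_3 lc_f_rc_21_1 lc_f_rc_21_1 lc_f_rc_10_3 lc_f_rc_17_3 lc_f_rc_20_1 lc_f_rc_20_1 lc_f_rc_20_1 lc_f_rc_10_3 lc_f_rc_5_1 lc_f_rc_17_3 lc_f_rc_5_1 lc_f_rc_21_1 lc_f_rc_19_3 lc_f_rc_20_1 lc_f_rc_17_1 lc_f_rc_10_1 lc_f_rc_10_1 lc_f_rc_10_3 lc_f_rc_14_3 lc_f_rc_20_1 lc_f_rc_17_1 lc_f_rc_20_1 lc_f_rc_21_1 lc_f_rc_19_3 lc_f_rc_17_1 lc_f_rc_17_1 lc_f_rc_20_1 lc_f_rc_22_1 lc_f_rc_17_1 lc_f_rc_14_3) (@D3.rec (fun _ => (Cert rels S Gen.f)) lc_f_Cert_tree lc_f_rc_20_1 lc_f_rc_10_3 lc_f_rc_17_3 lc_f_rc_10_3 lc_f_rc_17_1 lc_f_rc_21_1 lc_f_rc_20_1 lc_f_rc_14_1 lc_f_rc_20_1 lc_f_rc_10_3 lc_f_rc_14_1 lc_f_rc_10_3 lc_f_rc_17_1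 lc_f_rc_14_1 lc_f_rc_21_1 lc_f_rc_5_1 lc_f_rc_17_3 lc_f_rc_19_3 lc_f_rc_10_3 lc_f_rc_20_1 lc_f_rc_19_5 lc_f_rc_10_3 lc_f_rc_21_1 lc_f_rc_14_1 lc_f_rc_17_3 lc_f_rc_19_5 lc_f_rc_5_1 lc_f_rc_19_3 lc_f_rc_17_3 lc_f_rc_20_1 lc_f_rc_17_3 lc_f_rc_22_1 lc_f_rc_20_1 lc_f_rc_17_1 lc_f_rc_14_3 lc_f_rc_17_1 lc_f_rc_17_1 lc_f_rc_10_1 lc_f_rc_14_3 lc_f_rc_20_1 lc_f_rc_14_3 lc_f_rc_10_1 lc_f_rc_14_1 lc_f_rc_20_1 lc_f_rc_14_3 lc_f_rc_14_1 lc_f_rc_17_3 lc_f_rc_10_3 lc_f_rc_14_3 lc_f_rc_17_3 lc_f_rc_14_1 lc_f_rc_14_3 lc_f_rc_22_1 lc_f_rc_10_3 lc_f_rc_19_3 lc_f_rc_10_1 lc_f_rc_14_3 lc_f_rc_10_3 lc_f_rc_19_1 lc_f_rc_20_1 lc_f_rc_14_3) (@D3.rec (fun _ => (Cert rels S Gen.f)) lc_f_rc_19_3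 lc_f_rc_17_3 lc_f_rc_20_1 lc_f_rc_17_3 lc_f_rc_20_1 lc_f_rc_20_1 lc_f_rc_17_1 lc_f_rc_17_1 lc_f_rc_14_1 lc_f_rc_10_1 lc_f_rc_20_1 lc_f_rc_10_3 lc_f_rc_14_3 lc_f_rc_20_1 lc_f_rc_14_3 lc_f_rc_20_1 lc_f_rc_10_3 lc_f_rc_21_1 lc_f_rc_20_1 lc_f_rc_10_1 lc_f_rc_14_3 lc_f_rc_17_3 lc_f_rc_10_3 lc_f_rc_10_3 lc_f_rc_19_5 lc_f_rc_10_3 lc_f_rc_19_3 lc_f_rc_17_3 lc_f_rc_17_3 lc_f_rc_10_3 lc_f_rc_17_3 lc_f_rc_5_3 lc_f_rc_14_3 lc_f_rc_20_1 lc_f_rc_14_3 lc_f_rc_21_1 lc_f_rc_19_3 lc_f_rc_10_3 lc_f_rc_19_3 lc_f_rc_14_3 lc_f_rc_19_3 lc_f_rc_10_3 lc_f_rc_10_3 lc_f_rc_10_3 lc_f_rc_5_1 lc_f_rc_5_3 lc_f_rc_20_1 lc_f_rc_20_1 lc_f_rc_10_3 lc_f_rc_10_3 lc_f_rc_17_3 lc_f_rc_20_1 lc_f_rc_20_1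 lc_f_rc_14_3 lc_f_rc_10_3 lc_f_rc_14_1 lc_f_rc_20_1 lc_f_rc_10_3 lc_f_rc_14_1 lc_f_rc_20_1 lc_f_rc_20_1 lc_f_rc_20_1)
def ce_f_28 : D2 → D3 → (Cert rels S Gen.f) := @D2.rec (fun _ => D3 → (Cert rels S Gen.f)) (@D3.rec (fun _ => (Cert rels S Gen.f)) lc_f_rc_20_1 lc_f_rc_14_3 lc_f_rc_10_3 lc_f_rc_14_1 lc_f_rc_17_1 lc_f_rc_20_1 lc_f_rc_10_3 lc_f_rc_21_1 lc_f_rc_14_1 lc_f_rc_21_1 lc_f_Cert_tree lc_f_rc_20_1 lc_f_rc_10_3 lc_f_rc_5_3 lc_f_rc_17_3 lc_f_rc_17_3 lc_f_rc_19_3 lc_f_rc_5_1 lc_f_rc_20_1 lc_f_rc_14_3 lc_f_Cert_tree lc_f_rc_20_1 lc_f_rc_14_3 lc_f_rc_10_1 lc_f_rc_17_1 lc_f_rc_10_1 lc_f_rc_10_3 lc_f_rc_20_1 lc_f_rc_21_1 lc_f_rc_20_1 lc_f_rc_17_1 lc_f_rc_20_1 lc_f_rc_17_1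 lc_f_rc_5_1 lc_f_rc_19_3 lc_f_rc_20_1 lc_f_rc_10_3 lc_f_rc_20_1 lc_f_rc_14_1 lc_f_rc_20_1 lc_f_rc_20_1 lc_f_rc_10_3 lc_f_rc_22_1 lc_f_rc_17_1 lc_f_rc_17_1 lc_f_rc_20_1 lc_f_rc_5_1 lc_f_rc_21_1 lc_f_rc_19_3 lc_f_rc_20_1 lc_f_rc_17_3 lc_f_rc_17_1 lc_f_rc_20_1 lc_f_rc_17_3 lc_f_rc_10_1 lc_f_rc_19_3 lc_f_rc_19_3 lc_f_rc_21_1 lc_f_rc_10_1 lc_f_rc_20_1 lc_f_rc_20_1 lc_f_rc_17_1) (@D3.rec (fun _ => (Cert rels S Gen.f)) lc_f_rc_5_1 lc_f_rc_21_1 lc_f_rc_17_1 lc_f_rc_17_1 lc_f_rc_20_1 lc_f_rc_5_3 lc_f_rc_19_5 lc_f_rc_22_1 lc_f_rc_14_3 lc_f_rc_21_1 lc_f_rc_21_1 lc_f_rc_20_1 lc_f_rc_19_3 lc_f_rc_14_3 lc_f_rc_17_3 lc_f_rc_14_3 lc_f_rc_10_3 lc_f_rc_10_3 lc_f_rc_21_1 lc_f_rc_19_1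 lc_f_rc_17_3 lc_f_rc_14_3 lc_f_rc_22_1 lc_f_rc_5_3 lc_f_rc_14_3 lc_f_rc_22_1 lc_f_rc_19_3 lc_f_rc_22_1 lc_f_rc_5_1 lc_f_rc_14_1 lc_f_rc_17_3 lc_f_rc_5_3 lc_f_rc_21_1 lc_f_rc_10_3 lc_f_rc_21_1 lc_f_rc_19_3 lc_f_rc_14_3 lc_f_rc_14_3 lc_f_rc_10_1 lc_f_rc_14_3 lc_f_rc_20_1 lc_f_rc_17_3 lc_f_rc_14_1 lc_f_rc_14_3 lc_f_rc_14_3 lc_f_rc_19_3 lc_f_rc_17_1 lc_f_rc_17_1 lc_f_rc_20_1 lc_f_rc_17_3 lc_f_rc_5_3 lc_f_rc_21_1 lc_f_rc_20_1 lc_f_Cert_tree lc_f_rc_10_3 lc_f_rc_10_3 lc_f_rc_20_1 lc_f_rc_21_1 lc_f_rc_14_3 lc_f_rc_20_1 lc_f_rc_20_1 lc_f_rc_10_3) (@D3.rec (fun _ => (Cert rels S Gen.f)) lc_f_rc_17_3 lc_f_rc_14_3 lc_f_rc_10_3 lc_f_rc_10_1 lc_f_rc_20_1 lc_f_rc_5_3 lc_f_rc_20_1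 lc_f_rc_10_3 lc_f_rc_10_3 lc_f_rc_22_1 lc_f_rc_17_1 lc_f_rc_5_3 lc_f_rc_10_3 lc_f_rc_5_3 lc_f_rc_17_3 lc_f_rc_14_3 lc_f_rc_17_3 lc_f_rc_21_1 lc_f_rc_17_3 lc_f_rc_10_3 lc_f_rc_10_1 lc_f_rc_10_3 lc_f_rc_17_3 lc_f_rc_17_3 lc_f_rc_17_3 lc_f_rc_20_1 lc_f_rc_10_3 lc_f_rc_19_1 lc_f_rc_17_3 lc_f_rc_20_1 lc_f_rc_17_1 lc_f_rc_5_3 lc_f_rc_19_3 lc_f_rc_17_3 lc_f_rc_14_3 lc_f_rc_17_3 lc_f_rc_19_5 lc_f_rc_14_3 lc_f_rc_5_1 lc_f_rc_19_3 lc_f_rc_5_3 lc_f_rc_17_3 lc_f_rc_14_3 lc_f_rc_14_3 lc_f_rc_21_1 lc_f_rc_10_3 lc_f_rc_17_3 lc_f_rc_21_1 lc_f_rc_20_1 lc_f_rc_20_1 lc_f_rc_19_3 lc_f_rc_21_1 lc_f_rc_19_3 lc_f_rc_10_3 lc_f_rc_5_1 lc_f_rc_19_5 lc_f_rc_10_3 lc_f_rc_5_1 lc_f_rc_19_3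 lc_f_rc_10_3 lc_f_rc_10_1 lc_f_rc_17_3) (@D3.rec (fun _ => (Cert rels S Gen.f)) lc_f_rc_20_1 lc_f_rc_22_1 lc_f_rc_10_3 lc_f_rc_20_1 lc_f_rc_20_1 lc_f_rc_17_1 lc_f_rc_21_1 lc_f_rc_14_3 lc_f_rc_10_3 lc_f_rc_20_1 lc_f_rc_10_3 lc_f_rc_14_3 lc_f_rc_10_3 lc_f_rc_20_1 lc_f_rc_20_1 lc_f_rc_14_3 lc_f_rc_10_3 lc_f_rc_20_1 lc_f_rc_21_1 lc_f_rc_10_1 lc_f_rc_17_1 lc_f_rc_20_1 lc_f_rc_10_1 lc_f_rc_17_3 lc_f_rc_14_3 lc_f_rc_19_5 lc_f_rc_21_1 lc_f_rc_14_3 lc_f_rc_19_1 lc_f_rc_19_5 lc_f_rc_20_1 lc_f_rc_5_3 lc_f_rc_5_1 lc_f_rc_19_3 lc_f_rc_10_3 lc_f_rc_14_3 lc_f_rc_14_3 lc_f_rc_20_1 lc_f_rc_14_3 lc_f_rc_14_3 lc_f_rc_14_3 lc_f_rc_14_1 lc_f_rc_10_1 lc_f_rc_17_3 lc_f_rc_17_3 lc_f_rc_10_3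 lc_f_rc_17_1 lc_f_rc_17_3 lc_f_rc_22_1 lc_f_rc_22_1 lc_f_rc_17_1 lc_f_rc_10_1 lc_f_rc_22_1 lc_f_rc_14_3 lc_f_rc_20_1 lc_f_rc_10_3 lc_f_rc_20_1 lc_f_rc_22_1 lc_f_rc_17_1 lc_f_rc_20_1 lc_f_rc_19_5 lc_f_rc_10_1) (@D3.rec (fun _ => (Cert rels S Gen.f)) lc_f_rc_10_1 lc_f_rc_20_1 lc_f_rc_14_1 lc_f_rc_5_3 lc_f_rc_17_1 lc_f_rc_10_3 lc_f_rc_17_3 lc_f_rc_5_1 lc_f_rc_5_3 lc_f_rc_10_1 lc_f_rc_10_1 lc_f_rc_17_3 lc_f_rc_17_3 lc_f_rc_20_1 lc_f_rc_21_1 lc_f_rc_20_1 lc_f_rc_10_1 lc_f_rc_19_5 lc_f_rc_10_3 lc_f_rc_19_5 lc_f_rc_20_1 lc_f_rc_14_3 lc_f_rc_14_3 lc_f_rc_14_3 lc_f_rc_14_3 lc_f_rc_10_3 lc_f_rc_17_3 lc_f_rc_17_1 lc_f_rc_14_3 lc_f_rc_17_3 lc_f_rc_14_1 lc_f_rc_17_1 lc_f_rc_14_3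 lc_f_rc_10_3 lc_f_rc_17_1 lc_f_rc_10_1 lc_f_rc_21_1 lc_f_rc_17_3 lc_f_Cert_tree lc_f_rc_20_1 lc_f_rc_17_3 lc_f_rc_10_3 lc_f_rc_17_3 lc_f_rc_21_1 lc_f_rc_5_3 lc_f_rc_21_1 lc_f_rc_14_3 lc_f_rc_14_3 lc_f_rc_19_1 lc_f_rc_21_1 lc_f_rc_14_3 lc_f_rc_10_3 lc_f_rc_20_1 lc_f_rc_17_1 lc_f_rc_10_3 lc_f_rc_5_1 lc_f_rc_5_3 lc_f_rc_20_1 lc_f_rc_10_1 lc_f_rc_10_1 lc_f_rc_5_3 lc_f_rc_17_1) (@D3.rec (fun _ => (Cert rels S Gen.f)) lc_f_rc_20_1 lc_f_rc_10_1 lc_f_rc_21_1 lc_f_rc_10_3 lc_f_rc_17_3 lc_f_rc_14_3 lc_f_rc_21_1 lc_f_rc_17_3 lc_f_rc_14_3 lc_f_rc_5_1 lc_f_rc_20_1 lc_f_rc_5_3 lc_f_rc_21_1 lc_f_rc_17_1 lc_f_rc_20_1 lc_f_rc_5_3 lc_f_rc_21_1 lc_f_rc_20_1 lc_f_rc_20_1 lc_f_rc_17_3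 lc_f_rc_17_3 lc_f_rc_10_3 lc_f_rc_17_3 lc_f_rc_17_1 lc_f_rc_10_1 lc_f_rc_20_1 lc_f_rc_19_3 lc_f_rc_10_3 lc_f_rc_21_1 lc_f_rc_20_1 lc_f_rc_21_1 lc_f_rc_19_3 lc_f_rc_5_3 lc_f_rc_10_3 lc_f_rc_17_3 lc_f_rc_10_3 lc_f_rc_20_1 lc_f_rc_17_3 lc_f_rc_5_1 lc_f_rc_20_1 lc_f_rc_21_1 lc_f_rc_17_3 lc_f_rc_10_3 lc_f_rc_19_3 lc_f_rc_20_1 lc_f_rc_5_3 lc_f_rc_14_3 lc_f_rc_19_3 lc_f_rc_14_3 lc_f_rc_14_3 lc_f_Cert_tree lc_f_rc_20_1 lc_f_rc_19_3 lc_f_rc_19_1 lc_f_rc_17_3 lc_f_rc_5_3 lc_f_rc_10_3 lc_f_rc_22_1 lc_f_rc_14_3 lc_f_rc_14_3 lc_f_rc_10_1 lc_f_rc_22_1) (@D3.rec (fun _ => (Cert rels S Gen.f)) lc_f_rc_10_1 lc_f_rc_14_3 lc_f_rc_14_1 lc_f_rc_17_3 lc_f_rc_17_3 lc_f_rc_14_1 lc_f_rc_20_1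 lc_f_rc_21_1 lc_f_rc_10_1 lc_f_rc_14_1 lc_f_rc_10_1 lc_f_rc_19_3 lc_f_rc_14_1 lc_f_rc_14_1 lc_f_rc_17_3 lc_f_rc_10_1 lc_f_rc_5_3 lc_f_rc_17_1 lc_f_rc_19_5 lc_f_rc_5_1 lc_f_rc_22_1 lc_f_rc_19_5 lc_f_rc_19_3 lc_f_rc_14_3 lc_f_rc_17_3 lc_f_rc_20_1 lc_f_rc_20_1 lc_f_rc_5_3 lc_f_rc_10_3 lc_f_rc_14_3 lc_f_rc_20_1 lc_f_rc_17_1 lc_f_rc_10_3 lc_f_rc_20_1 lc_f_rc_21_1 lc_f_rc_20_1 lc_f_rc_10_3 lc_f_rc_17_3 lc_f_rc_10_1 lc_f_rc_19_1 lc_f_rc_17_1 lc_f_rc_20_1 lc_f_rc_10_3 lc_f_rc_14_3 lc_f_rc_14_3 lc_f_rc_20_1 lc_f_rc_20_1 lc_f_rc_10_3 lc_f_rc_21_1 lc_f_rc_20_1 lc_f_rc_17_1 lc_f_rc_14_3 lc_f_rc_5_3 lc_f_rc_22_1 lc_f_rc_19_1 lc_f_rc_21_1 lc_f_rc_20_1 lc_f_rc_20_1 lc_f_rc_19_5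 lc_f_rc_19_3 lc_f_rc_19_3 lc_f_rc_17_1) (@D3.rec (fun _ => (Cert rels S Gen.f)) lc_f_rc_21_1 lc_f_rc_17_3 lc_f_rc_17_3 lc_f_rc_21_1 lc_f_rc_5_3 lc_f_rc_17_3 lc_f_rc_5_3 lc_f_rc_5_3 lc_f_rc_14_3 lc_f_rc_14_3 lc_f_rc_22_1 lc_f_rc_20_1 lc_f_rc_17_3 lc_f_rc_10_3 lc_f_rc_14_3 lc_f_rc_17_3 lc_f_rc_20_1 lc_f_rc_10_3 lc_f_rc_5_1 lc_f_rc_10_1 lc_f_rc_21_1 lc_f_rc_17_1 lc_f_rc_5_3 lc_f_rc_19_5 lc_f_rc_14_3 lc_f_rc_17_3 lc_f_rc_14_1 lc_f_rc_21_1 lc_f_rc_20_1 lc_f_rc_20_1 lc_f_rc_14_1 lc_f_rc_10_3 lc_f_rc_19_3 lc_f_rc_19_1 lc_f_rc_19_5 lc_f_rc_19_3 lc_f_rc_20_1 lc_f_rc_14_3 lc_f_rc_21_1 lc_f_rc_10_3 lc_f_rc_10_1 lc_f_rc_14_3 lc_f_rc_22_1 lc_f_rc_17_3 lc_f_rc_10_1 lc_f_rc_21_1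 lc_f_rc_17_3 lc_f_rc_10_1 lc_f_rc_17_3 lc_f_rc_21_1 lc_f_rc_14_1 lc_f_rc_14_1 lc_f_rc_14_1 lc_f_rc_5_3 lc_f_rc_14_3 lc_f_rc_14_3 lc_f_rc_21_1 lc_f_rc_10_1 lc_f_rc_21_1 lc_f_rc_17_1 lc_f_rc_17_1 lc_f_rc_20_1) (@D3.rec (fun _ => (Cert rels S Gen.f)) lc_f_rc_5_3 lc_f_rc_17_3 lc_f_rc_20_1 lc_f_rc_20_1 lc_f_rc_17_3 lc_f_rc_14_3 lc_f_rc_19_3 lc_f_rc_5_3 lc_f_rc_10_1 lc_f_rc_19_5 lc_f_rc_10_3 lc_f_rc_10_1 lc_f_rc_21_1 lc_f_rc_17_3 lc_f_rc_17_3 lc_f_rc_10_3 lc_f_rc_17_3 lc_f_rc_19_3 lc_f_rc_17_3 lc_f_rc_21_1 lc_f_rc_19_3 lc_f_rc_17_3 lc_f_rc_14_3 lc_f_rc_20_1 lc_f_rc_10_3 lc_f_rc_17_3 lc_f_rc_14_1 lc_f_rc_17_3 lc_f_rc_5_3 lc_f_rc_20_1 lc_f_rc_21_1 lc_f_rc_19_5 lc_f_rc_20_1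 lc_f_rc_20_1 lc_f_rc_5_1 lc_f_rc_5_1 lc_f_rc_20_1 lc_f_rc_5_3 lc_f_rc_10_3 lc_f_rc_19_1 lc_f_rc_5_3 lc_f_rc_21_1 lc_f_Cert_tree lc_f_rc_20_1 lc_f_rc_19_5 lc_f_rc_10_3 lc_f_rc_10_3 lc_f_rc_19_5 lc_f_rc_19_5 lc_f_rc_20_1 lc_f_rc_10_1 lc_f_rc_20_1 lc_f_rc_14_1 lc_f_rc_10_1 lc_f_rc_5_3 lc_f_rc_10_1 lc_f_rc_22_1 lc_f_rc_19_5 lc_f_rc_10_3 lc_f_rc_21_1 lc_f_rc_10_1 lc_f_rc_17_3) (@D3.rec (fun _ => (Cert rels S Gen.f)) lc_f_rc_14_1 lc_f_rc_22_1 lc_f_rc_10_1 lc_f_rc_5_1 lc_f_rc_14_3 lc_f_rc_14_1 lc_f_rc_21_1 lc_f_rc_17_3 lc_f_rc_14_1 lc_f_rc_5_3 lc_f_rc_14_1 lc_f_rc_17_3 lc_f_rc_21_1 lc_f_rc_10_3 lc_f_rc_14_3 lc_f_rc_14_3 lc_f_rc_10_3 lc_f_rc_10_3 lc_f_rc_19_5 lc_f_rc_10_3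 lc_f_rc_20_1 lc_f_rc_14_1 lc_f_rc_22_1 lc_f_rc_10_3 lc_f_rc_17_3 lc_f_rc_21_1 lc_f_rc_5_3 lc_f_rc_10_3 lc_f_rc_17_3 lc_f_rc_17_3 lc_f_rc_22_1 lc_f_rc_10_1 lc_f_rc_17_1 lc_f_rc_19_3 lc_f_rc_10_3 lc_f_rc_17_3 lc_f_rc_19_5 lc_f_rc_5_1 lc_f_rc_17_3 lc_f_rc_19_3 lc_f_rc_14_3 lc_f_rc_21_1 lc_f_rc_17_1 lc_f_rc_21_1 lc_f_rc_20_1 lc_f_rc_22_1 lc_f_rc_19_5 lc_f_rc_17_3 lc_f_rc_21_1 lc_f_rc_14_1 lc_f_rc_20_1 lc_f_rc_22_1 lc_f_rc_17_1 lc_f_rc_10_3 lc_f_rc_19_5 lc_f_rc_17_3 lc_f_rc_19_3 lc_f_rc_14_1 lc_f_rc_14_3 lc_f_rc_20_1 lc_f_rc_17_1 lc_f_rc_14_3) (@D3.rec (fun _ => (Cert rels S Gen.f)) lc_f_rc_10_3 lc_f_rc_14_3 lc_f_rc_5_3 lc_f_rc_17_1 lc_f_rc_14_3 lc_f_rc_17_1 lc_f_rc_5_3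 lc_f_rc_10_3 lc_f_rc_17_3 lc_f_rc_19_3 lc_f_rc_17_3 lc_f_rc_5_3 lc_f_rc_10_3 lc_f_rc_14_1 lc_f_rc_17_1 lc_f_rc_5_3 lc_f_rc_14_3 lc_f_rc_14_3 lc_f_rc_20_1 lc_f_rc_20_1 lc_f_rc_10_3 lc_f_rc_17_3 lc_f_rc_10_3 lc_f_rc_17_3 lc_f_rc_20_1 lc_f_rc_19_3 lc_f_rc_10_3 lc_f_rc_5_3 lc_f_rc_17_3 lc_f_rc_19_5 lc_f_rc_20_1 lc_f_rc_14_1 lc_f_rc_20_1 lc_f_rc_10_3 lc_f_rc_17_3 lc_f_rc_14_3 lc_f_Cert_tree lc_f_rc_17_3 lc_f_rc_22_1 lc_f_rc_20_1 lc_f_rc_5_1 lc_f_rc_20_1 lc_f_rc_22_1 lc_f_rc_22_1 lc_f_rc_20_1 lc_f_rc_21_1 lc_f_rc_10_3 lc_f_rc_14_1 lc_f_rc_20_1 lc_f_rc_14_3 lc_f_rc_14_1 lc_f_rc_20_1 lc_f_rc_5_3 lc_f_rc_17_1 lc_f_rc_14_3 lc_f_rc_19_5 lc_f_rc_22_1 lc_f_rc_20_1 lc_f_rc_20_1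 lc_f_rc_17_1 lc_f_rc_21_1 lc_f_rc_17_3) (@D3.rec (fun _ => (Cert rels S Gen.f)) lc_f_rc_19_5 lc_f_rc_20_1 lc_f_rc_17_1 lc_f_rc_19_5 lc_f_rc_17_1 lc_f_rc_20_1 lc_f_rc_10_1 lc_f_rc_21_1 lc_f_rc_17_3 lc_f_rc_5_3 lc_f_rc_10_3 lc_f_rc_14_3 lc_f_rc_5_3 lc_f_rc_14_3 lc_f_rc_21_1 lc_f_rc_14_3 lc_f_rc_19_3 lc_f_rc_22_1 lc_f_rc_10_1 lc_f_rc_10_3 lc_f_rc_10_3 lc_f_rc_5_1 lc_f_rc_10_3 lc_f_rc_10_3 lc_f_rc_10_1 lc_f_rc_17_3 lc_f_rc_10_3 lc_f_rc_14_3 lc_f_rc_5_3 lc_f_rc_20_1 lc_f_rc_14_3 lc_f_rc_17_3 lc_f_rc_22_1 lc_f_rc_19_3 lc_f_rc_14_3 lc_f_rc_19_1 lc_f_rc_20_1 lc_f_rc_19_3 lc_f_rc_10_3 lc_f_rc_14_3 lc_f_rc_10_3 lc_f_rc_14_3 lc_f_rc_20_1 lc_f_rc_10_3 lc_f_rc_20_1 lc_f_rc_10_3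 lc_f_rc_17_3 lc_f_rc_14_1 lc_f_rc_21_1 lc_f_rc_20_1 lc_f_rc_20_1 lc_f_rc_20_1 lc_f_rc_10_3 lc_f_rc_10_3 lc_f_rc_14_3 lc_f_rc_10_1 lc_f_rc_14_1 lc_f_rc_19_3 lc_f_rc_17_3 lc_f_rc_14_1 lc_f_rc_19_1 lc_f_rc_21_1) (@D3.rec (fun _ => (Cert rels S Gen.f)) lc_f_rc_20_1 lc_f_rc_20_1 lc_f_rc_19_5 lc_f_rc_19_5 lc_f_rc_19_3 lc_f_rc_17_3 lc_f_rc_10_3 lc_f_rc_20_1 lc_f_rc_19_3 lc_f_rc_19_5 lc_f_rc_20_1 lc_f_rc_17_3 lc_f_rc_19_3 lc_f_rc_20_1 lc_f_rc_17_3 lc_f_rc_14_3 lc_f_rc_10_1 lc_f_rc_19_3 lc_f_rc_17_3 lc_f_rc_17_3 lc_f_rc_14_3 lc_f_rc_10_3 lc_f_rc_21_1 lc_f_rc_19_3 lc_f_rc_19_5 lc_f_rc_22_1 lc_f_rc_10_3 lc_f_rc_17_1 lc_f_rc_10_3 lc_f_rc_14_3 lc_f_rc_10_3 lc_f_rc_17_3 lc_f_rc_20_1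 lc_f_rc_21_1 lc_f_rc_14_3 lc_f_rc_14_3 lc_f_rc_14_3 lc_f_rc_20_1 lc_f_rc_10_3 lc_f_rc_21_1 lc_f_rc_19_3 lc_f_rc_20_1 lc_f_rc_19_5 lc_f_rc_19_5 lc_f_rc_20_1 lc_f_rc_20_1 lc_f_rc_14_3 lc_f_rc_5_3 lc_f_rc_19_3 lc_f_rc_21_1 lc_f_rc_10_1 lc_f_rc_17_3 lc_f_rc_20_1 lc_f_rc_14_3 lc_f_rc_14_1 lc_f_rc_19_3 lc_f_rc_17_3 lc_f_rc_20_1 lc_f_rc_17_1 lc_f_rc_21_1 lc_f_rc_19_5 lc_f_rc_10_3) (@D3.rec (fun _ => (Cert rels S Gen.f)) lc_f_rc_10_1 lc_f_rc_10_3 lc_f_rc_10_1 lc_f_rc_19_5 lc_f_rc_14_3 lc_f_rc_10_3 lc_f_rc_10_3 lc_f_rc_20_1 lc_f_rc_19_5 lc_f_rc_10_1 lc_f_rc_20_1 lc_f_rc_20_1 lc_f_rc_20_1 lc_f_rc_10_3 lc_f_rc_10_1 lc_f_rc_5_3 lc_f_rc_20_1 lc_f_rc_19_3 lc_f_rc_5_3 lc_f_rc_10_3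 lc_f_rc_10_1 lc_f_rc_5_3 lc_f_rc_17_3 lc_f_rc_5_3 lc_f_rc_20_1 lc_f_rc_21_1 lc_f_rc_20_1 lc_f_rc_17_1 lc_f_rc_20_1 lc_f_rc_10_3 lc_f_rc_20_1 lc_f_rc_17_3 lc_f_rc_19_3 lc_f_rc_14_3 lc_f_rc_10_3 lc_f_rc_17_3 lc_f_rc_19_5 lc_f_rc_20_1 lc_f_rc_5_3 lc_f_rc_20_1 lc_f_rc_10_3 lc_f_rc_19_3 lc_f_rc_21_1 lc_f_rc_10_1 lc_f_rc_20_1 lc_f_rc_21_1 lc_f_rc_5_1 lc_f_rc_21_1 lc_f_rc_20_1 lc_f_rc_14_3 lc_f_rc_14_1 lc_f_rc_10_1 lc_f_rc_21_1 lc_f_rc_14_1 lc_f_rc_19_3 lc_f_rc_14_3 lc_f_rc_5_1 lc_f_rc_20_1 lc_f_rc_19_3 lc_f_rc_19_3 lc_f_rc_17_3 lc_f_rc_10_3) (@D3.rec (fun _ => (Cert rels S Gen.f)) lc_f_rc_21_1 lc_f_rc_14_3 lc_f_rc_17_3 lc_f_rc_21_1 lc_f_rc_10_3 lc_f_rc_17_3 lc_f_rc_10_3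 lc_f_rc_10_1 lc_f_rc_17_3 lc_f_rc_19_3 lc_f_rc_20_1 lc_f_rc_14_1 lc_f_rc_10_3 lc_f_rc_10_1 lc_f_rc_22_1 lc_f_rc_10_3 lc_f_rc_5_1 lc_f_rc_5_3 lc_f_rc_5_1 lc_f_rc_17_1 lc_f_rc_17_1 lc_f_rc_21_1 lc_f_rc_17_3 lc_f_rc_22_1 lc_f_rc_17_3 lc_f_rc_19_5 lc_f_rc_21_1 lc_f_rc_20_1 lc_f_rc_17_3 lc_f_rc_14_1 lc_f_rc_20_1 lc_f_rc_14_3 lc_f_rc_17_3 lc_f_rc_10_1 lc_f_rc_5_1 lc_f_rc_10_3 lc_f_rc_20_1 lc_f_rc_17_1 lc_f_rc_21_1 lc_f_rc_5_3 lc_f_rc_5_3 lc_f_rc_5_1 lc_f_rc_19_5 lc_f_rc_21_1 lc_f_Cert_tree lc_f_rc_20_1 lc_f_rc_17_3 lc_f_rc_14_1 lc_f_rc_20_1 lc_f_rc_17_3 lc_f_rc_5_1 lc_f_rc_14_3 lc_f_rc_14_3 lc_f_rc_22_1 lc_f_rc_20_1 lc_f_rc_14_1 lc_f_rc_20_1 lc_f_rc_10_3 lc_f_rc_14_1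 lc_f_rc_20_1 lc_f_rc_20_1 lc_f_rc_20_1) (@D3.rec (fun _ => (Cert rels S Gen.f)) lc_f_rc_19_5 lc_f_rc_17_1 lc_f_rc_17_1 lc_f_rc_14_3 lc_f_rc_21_1 lc_f_rc_19_3 lc_f_rc_10_3 lc_f_rc_19_3 lc_f_rc_19_5 lc_f_rc_5_3 lc_f_rc_17_3 lc_f_rc_17_3 lc_f_rc_19_5 lc_f_rc_17_1 lc_f_rc_14_3 lc_f_rc_14_1 lc_f_rc_10_1 lc_f_rc_19_5 lc_f_rc_5_3 lc_f_rc_10_1 lc_f_rc_21_1 lc_f_rc_19_3 lc_f_rc_17_1 lc_f_rc_14_1 lc_f_rc_19_5 lc_f_rc_14_3 lc_f_rc_19_3 lc_f_rc_5_1 lc_f_rc_10_3 lc_f_rc_5_1 lc_f_rc_10_3 lc_f_rc_19_1 lc_f_rc_10_3 lc_f_rc_17_3 lc_f_rc_19_1 lc_f_rc_21_1 lc_f_rc_17_3 lc_f_rc_14_3 lc_f_rc_14_3 lc_f_rc_17_1 lc_f_rc_17_3 lc_f_rc_10_3 lc_f_rc_20_1 lc_f_rc_17_3 lc_f_rc_5_3 lc_f_rc_10_3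 lc_f_rc_20_1 lc_f_rc_10_3 lc_f_rc_21_1 lc_f_rc_17_3 lc_f_rc_14_3 lc_f_rc_21_1 lc_f_rc_10_3 lc_f_rc_17_1 lc_f_rc_5_1 lc_f_rc_10_3 lc_f_rc_19_5 lc_f_rc_17_1 lc_f_rc_17_3 lc_f_rc_10_3 lc_f_rc_14_3 lc_f_rc_19_3) (@D3.rec (fun _ => (Cert rels S Gen.f)) lc_f_rc_17_1 lc_f_rc_20_1 lc_f_rc_5_1 lc_f_rc_17_1 lc_f_rc_10_3 lc_f_rc_5_1 lc_f_rc_14_3 lc_f_rc_19_3 lc_f_rc_20_1 lc_f_rc_14_3 lc_f_rc_19_5 lc_f_rc_19_5 lc_f_rc_17_3 lc_f_rc_17_3 lc_f_rc_22_1 lc_f_rc_19_3 lc_f_rc_17_3 lc_f_rc_20_1 lc_f_rc_5_1 lc_f_rc_17_1 lc_f_rc_5_1 lc_f_rc_17_3 lc_f_rc_21_1 lc_f_rc_14_1 lc_f_rc_20_1 lc_f_rc_21_1 lc_f_rc_14_3 lc_f_rc_19_3 lc_f_rc_5_3 lc_f_rc_20_1 lc_f_rc_17_1 lc_f_rc_17_3 lc_f_rc_21_1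 lc_f_rc_10_3 lc_f_rc_14_3 lc_f_rc_19_5 lc_f_rc_10_1 lc_f_rc_14_3 lc_f_rc_5_1 lc_f_rc_17_3 lc_f_rc_19_3 lc_f_rc_10_3 lc_f_rc_14_3 lc_f_rc_19_5 lc_f_rc_14_3 lc_f_rc_20_1 lc_f_rc_17_3 lc_f_rc_17_1 lc_f_rc_19_5 lc_f_rc_10_3 lc_f_rc_5_3 lc_f_rc_14_3 lc_f_rc_14_1 lc_f_rc_21_1 lc_f_rc_17_3 lc_f_rc_10_3 lc_f_rc_20_1 lc_f_rc_10_3 lc_f_rc_17_1 lc_f_rc_5_1 lc_f_rc_17_3 lc_f_rc_10_1) (@D3.rec (fun _ => (Cert rels S Gen.f)) lc_f_rc_10_3 lc_f_rc_20_1 lc_f_rc_10_3 lc_f_rc_10_3 lc_f_rc_20_1 lc_f_rc_17_3 lc_f_rc_10_3 lc_f_rc_10_3 lc_f_rc_10_3 lc_f_rc_10_3 lc_f_rc_14_1 lc_f_rc_20_1 lc_f_rc_5_1 lc_f_rc_17_1 lc_f_rc_21_1 lc_f_rc_10_1 lc_f_rc_21_1 lc_f_rc_20_1 lc_f_rc_10_1 lc_f_rc_14_3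 lc_f_rc_20_1 lc_f_rc_17_3 lc_f_rc_22_1 lc_f_rc_5_3 lc_f_rc_14_1 lc_f_rc_20_1 lc_f_rc_17_3 lc_f_rc_20_1 lc_f_rc_21_1 lc_f_rc_14_3 lc_f_rc_20_1 lc_f_rc_20_1 lc_f_rc_14_3 lc_f_rc_10_1 lc_f_rc_17_1 lc_f_rc_20_1 lc_f_rc_19_3 lc_f_rc_19_5 lc_f_rc_20_1 lc_f_rc_21_1 lc_f_rc_17_1 lc_f_rc_19_3 lc_f_rc_17_3 lc_f_rc_21_1 lc_f_rc_17_1 lc_f_rc_21_1 lc_f_rc_10_1 lc_f_rc_22_1 lc_f_rc_17_1 lc_f_rc_20_1 lc_f_rc_17_3 lc_f_rc_10_3 lc_f_rc_21_1 lc_f_Cert_tree lc_f_rc_20_1 lc_f_rc_17_3 lc_f_rc_19_1 lc_f_rc_22_1 lc_f_rc_20_1 lc_f_rc_21_1 lc_f_rc_21_1 lc_f_rc_14_3) (@D3.rec (fun _ => (Cert rels S Gen.f)) lc_f_rc_10_1 lc_f_rc_19_5 lc_f_rc_10_3 lc_f_rc_19_5 lc_f_rc_20_1 lc_f_rc_17_3 lc_f_rc_14_3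 lc_f_rc_14_1 lc_f_rc_10_3 lc_f_rc_22_1 lc_f_rc_22_1 lc_f_rc_19_1 lc_f_rc_14_1 lc_f_rc_14_3 lc_f_rc_10_3 lc_f_rc_17_3 lc_f_rc_14_3 lc_f_rc_19_5 lc_f_rc_10_1 lc_f_rc_17_3 lc_f_rc_17_1 lc_f_rc_14_3 lc_f_rc_17_3 lc_f_rc_14_3 lc_f_rc_21_1 lc_f_rc_19_3 lc_f_rc_5_1 lc_f_rc_17_3 lc_f_rc_17_1 lc_f_rc_14_1 lc_f_rc_14_3 lc_f_rc_10_3 lc_f_rc_22_1 lc_f_rc_17_1 lc_f_rc_5_1 lc_f_rc_20_1 lc_f_rc_17_3 lc_f_rc_14_3 lc_f_rc_19_3 lc_f_rc_14_3 lc_f_rc_17_3 lc_f_rc_14_3 lc_f_rc_10_3 lc_f_rc_5_3 lc_f_rc_17_3 lc_f_rc_14_3 lc_f_rc_17_1 lc_f_rc_10_3 lc_f_rc_14_3 lc_f_rc_19_5 lc_f_rc_10_3 lc_f_rc_17_3 lc_f_rc_10_3 lc_f_rc_20_1 lc_f_rc_14_1 lc_f_rc_22_1 lc_f_rc_14_3 lc_f_rc_19_5 lc_f_rc_21_1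 lc_f_rc_14_1 lc_f_rc_20_1 lc_f_rc_10_1) (@D3.rec (fun _ => (Cert rels S Gen.f)) lc_f_rc_14_3 lc_f_rc_21_1 lc_f_rc_14_3 lc_f_rc_14_3 lc_f_rc_14_3 lc_f_rc_21_1 lc_f_rc_17_3 lc_f_rc_20_1 lc_f_rc_19_3 lc_f_rc_10_3 lc_f_rc_19_5 lc_f_rc_17_1 lc_f_rc_10_3 lc_f_rc_22_1 lc_f_rc_5_3 lc_f_rc_5_1 lc_f_rc_5_1 lc_f_rc_19_3 lc_f_rc_10_1 lc_f_rc_5_3 lc_f_rc_17_3 lc_f_rc_10_3 lc_f_rc_5_3 lc_f_rc_19_1 lc_f_rc_20_1 lc_f_rc_14_3 lc_f_rc_10_1 lc_f_rc_17_1 lc_f_rc_17_3 lc_f_rc_5_3 lc_f_rc_14_3 lc_f_rc_14_3 lc_f_rc_19_5 lc_f_rc_14_1 lc_f_rc_20_1 lc_f_rc_21_1 lc_f_rc_17_1 lc_f_rc_20_1 lc_f_rc_17_3 lc_f_rc_14_3 lc_f_rc_21_1 lc_f_rc_21_1 lc_f_rc_14_3 lc_f_rc_20_1 lc_f_rc_21_1 lc_f_rc_21_1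 lc_f_rc_19_1 lc_f_rc_10_3 lc_f_rc_10_1 lc_f_rc_5_3 lc_f_rc_5_1 lc_f_rc_20_1 lc_f_rc_10_3 lc_f_rc_5_1 lc_f_rc_10_3 lc_f_rc_14_3 lc_f_rc_17_3 lc_f_rc_14_3 lc_f_rc_14_3 lc_f_rc_5_3 lc_f_rc_5_3 lc_f_rc_14_3) (@D3.rec (fun _ => (Cert rels S Gen.f)) lc_f_rc_5_3 lc_f_rc_17_3 lc_f_rc_17_3 lc_f_rc_10_1 lc_f_rc_14_3 lc_f_rc_17_3 lc_f_rc_10_3 lc_f_rc_17_3 lc_f_rc_5_1 lc_f_rc_10_3 lc_f_rc_20_1 lc_f_rc_14_3 lc_f_rc_20_1 lc_f_rc_17_1 lc_f_rc_10_3 lc_f_rc_5_1 lc_f_rc_21_1 lc_f_rc_10_1 lc_f_rc_10_3 lc_f_rc_21_1 lc_f_rc_14_3 lc_f_rc_21_1 lc_f_rc_22_1 lc_f_rc_17_3 lc_f_rc_17_3 lc_f_rc_5_3 lc_f_rc_14_3 lc_f_rc_10_3 lc_f_rc_10_3 lc_f_rc_14_3 lc_f_rc_5_3 lc_f_rc_17_3 lc_f_rc_14_3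 lc_f_rc_10_3 lc_f_rc_14_1 lc_f_rc_10_3 lc_f_rc_17_3 lc_f_rc_20_1 lc_f_rc_10_1 lc_f_rc_14_1 lc_f_rc_20_1 lc_f_rc_20_1 lc_f_rc_5_1 lc_f_rc_10_3 lc_f_rc_17_3 lc_f_rc_21_1 lc_f_rc_14_1 lc_f_rc_14_3 lc_f_rc_14_1 lc_f_rc_19_5 lc_f_rc_14_3 lc_f_rc_14_1 lc_f_rc_10_3 lc_f_rc_17_3 lc_f_rc_22_1 lc_f_rc_14_1 lc_f_rc_20_1 lc_f_rc_10_3 lc_f_rc_20_1 lc_f_rc_21_1 lc_f_rc_17_1 lc_f_rc_20_1) (@D3.rec (fun _ => (Cert rels S Gen.f)) lc_f_rc_17_3 lc_f_rc_10_1 lc_f_rc_20_1 lc_f_rc_20_1 lc_f_rc_14_3 lc_f_rc_14_1 lc_f_rc_17_1 lc_f_rc_20_1 lc_f_rc_19_3 lc_f_rc_14_1 lc_f_rc_19_3 lc_f_rc_20_1 lc_f_rc_14_3 lc_f_rc_14_3 lc_f_rc_5_3 lc_f_rc_19_3 lc_f_rc_10_1 lc_f_rc_22_1 lc_f_rc_19_1 lc_f_rc_19_3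 lc_f_rc_21_1 lc_f_rc_17_1 lc_f_rc_20_1 lc_f_rc_20_1 lc_f_rc_19_5 lc_f_rc_5_3 lc_f_rc_10_1 lc_f_rc_10_3 lc_f_rc_14_3 lc_f_rc_14_3 lc_f_rc_21_1 lc_f_rc_10_3 lc_f_rc_14_1 lc_f_rc_19_3 lc_f_rc_21_1 lc_f_rc_10_3 lc_f_rc_10_1 lc_f_Cert_tree lc_f_Cert_tree lc_f_rc_20_1 lc_f_rc_17_3 lc_f_rc_5_1 lc_f_rc_21_1 lc_f_rc_20_1 lc_f_rc_20_1 lc_f_rc_10_3 lc_f_rc_22_1 lc_f_rc_20_1 lc_f_rc_10_3 lc_f_rc_10_3 lc_f_rc_21_1 lc_f_rc_20_1 lc_f_rc_21_1 lc_f_rc_10_3 lc_f_rc_17_3 lc_f_rc_19_5 lc_f_rc_14_3 lc_f_rc_21_1 lc_f_rc_5_1 lc_f_rc_14_3 lc_f_rc_10_3 lc_f_rc_17_3) (@D3.rec (fun _ => (Cert rels S Gen.f)) lc_f_rc_19_1 lc_f_rc_14_3 lc_f_rc_22_1 lc_f_rc_22_1 lc_f_rc_17_1 lc_f_rc_19_3 lc_f_rc_19_1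 lc_f_rc_19_1 lc_f_rc_17_3 lc_f_rc_14_3 lc_f_rc_19_3 lc_f_rc_17_3 lc_f_rc_10_3 lc_f_rc_19_5 lc_f_rc_10_3 lc_f_rc_14_3 lc_f_rc_14_1 lc_f_rc_10_3 lc_f_rc_10_1 lc_f_rc_5_3 lc_f_rc_10_3 lc_f_rc_17_1 lc_f_rc_14_3 lc_f_rc_20_1 lc_f_rc_20_1 lc_f_Cert_tree lc_f_rc_19_1 lc_f_rc_21_1 lc_f_Cert_tree lc_f_rc_20_1 lc_f_rc_21_1 lc_f_rc_5_1 lc_f_rc_17_3 lc_f_rc_17_3 lc_f_rc_10_3 lc_f_rc_5_1 lc_f_rc_10_3 lc_f_rc_14_1 lc_f_rc_10_3 lc_f_rc_14_3 lc_f_rc_5_3 lc_f_rc_19_3 lc_f_rc_17_3 lc_f_rc_5_1 lc_f_rc_10_3 lc_f_rc_22_1 lc_f_rc_17_3 lc_f_rc_17_3 lc_f_rc_17_1 lc_f_rc_14_1 lc_f_rc_20_1 lc_f_rc_22_1 lc_f_rc_17_1 lc_f_rc_14_1 lc_f_rc_19_5 lc_f_rc_17_3 lc_f_Cert_tree lc_f_rc_10_3 lc_f_rc_14_3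 lc_f_rc_19_5 lc_f_rc_19_5 lc_f_rc_17_1) (@D3.rec (fun _ => (Cert rels S Gen.f)) lc_f_rc_21_1 lc_f_rc_5_1 lc_f_rc_17_3 lc_f_rc_19_3 lc_f_rc_17_3 lc_f_rc_20_1 lc_f_rc_10_3 lc_f_rc_20_1 lc_f_rc_20_1 lc_f_rc_14_1 lc_f_rc_10_3 lc_f_rc_21_1 lc_f_rc_14_3 lc_f_rc_10_3 lc_f_rc_19_5 lc_f_rc_22_1 lc_f_rc_20_1 lc_f_rc_10_3 lc_f_rc_21_1 lc_f_rc_17_3 lc_f_rc_10_1 lc_f_rc_20_1 lc_f_rc_10_1 lc_f_rc_20_1 lc_f_rc_17_3 lc_f_rc_5_1 lc_f_rc_17_3 lc_f_rc_14_3 lc_f_rc_21_1 lc_f_rc_22_1 lc_f_rc_14_1 lc_f_rc_5_1 lc_f_rc_19_3 lc_f_rc_14_3 lc_f_rc_21_1 lc_f_rc_14_3 lc_f_rc_17_1 lc_f_rc_5_3 lc_f_rc_5_1 lc_f_rc_14_1 lc_f_rc_10_1 lc_f_rc_17_1 lc_f_rc_19_3 lc_f_rc_21_1 lc_f_rc_14_3 lc_f_rc_19_3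 lc_f_rc_17_1 lc_f_rc_20_1 lc_f_rc_14_1 lc_f_rc_10_3 lc_f_rc_19_1 lc_f_rc_5_3 lc_f_rc_19_3 lc_f_rc_21_1 lc_f_rc_22_1 lc_f_rc_17_1 lc_f_rc_17_1 lc_f_rc_17_3 lc_f_rc_10_3 lc_f_rc_14_3 lc_f_rc_10_3 lc_f_rc_14_1) (@D3.rec (fun _ => (Cert rels S Gen.f)) lc_f_rc_19_5 lc_f_rc_19_5 lc_f_rc_14_3 lc_f_rc_10_3 lc_f_rc_21_1 lc_f_rc_14_3 lc_f_rc_21_1 lc_f_rc_19_3 lc_f_rc_17_3 lc_f_rc_21_1 lc_f_rc_14_3 lc_f_rc_19_1 lc_f_rc_14_3 lc_f_rc_17_3 lc_f_rc_14_3 lc_f_rc_10_3 lc_f_rc_17_1 lc_f_rc_17_3 lc_f_rc_5_3 lc_f_rc_17_3 lc_f_rc_20_1 lc_f_rc_10_3 lc_f_rc_21_1 lc_f_rc_21_1 lc_f_rc_10_3 lc_f_rc_17_3 lc_f_rc_14_1 lc_f_rc_19_3 lc_f_rc_17_3 lc_f_rc_17_1 lc_f_rc_14_3 lc_f_rc_14_3 lc_f_rc_14_3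 lc_f_rc_19_3 lc_f_rc_22_1 lc_f_rc_14_3 lc_f_rc_10_3 lc_f_rc_17_3 lc_f_rc_21_1 lc_f_rc_5_3 lc_f_rc_17_1 lc_f_rc_5_1 lc_f_rc_21_1 lc_f_rc_21_1 lc_f_rc_22_1 lc_f_rc_20_1 lc_f_rc_20_1 lc_f_rc_14_3 lc_f_rc_17_1 lc_f_rc_20_1 lc_f_Cert_tree lc_f_rc_20_1 lc_f_rc_17_3 lc_f_rc_5_3 lc_f_rc_17_3 lc_f_rc_17_1 lc_f_rc_19_5 lc_f_rc_22_1 lc_f_rc_5_3 lc_f_rc_10_3 lc_f_rc_20_1 lc_f_rc_19_3) (@D3.rec (fun _ => (Cert rels S Gen.f)) lc_f_rc_17_3 lc_f_rc_19_3 lc_f_rc_10_3 lc_f_rc_22_1 lc_f_rc_19_3 lc_f_rc_20_1 lc_f_rc_19_1 lc_f_rc_10_3 lc_f_rc_10_1 lc_f_rc_10_3 lc_f_rc_17_3 lc_f_rc_17_3 lc_f_rc_10_3 lc_f_rc_14_1 lc_f_rc_10_3 lc_f_rc_20_1 lc_f_Cert_tree lc_f_rc_21_1 lc_f_rc_5_1 lc_f_rc_22_1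 lc_f_rc_14_1 lc_f_rc_20_1 lc_f_rc_17_1 lc_f_rc_17_3 lc_f_Cert_tree lc_f_Cert_tree lc_f_rc_17_3 lc_f_rc_20_1 lc_f_rc_19_3 lc_f_rc_10_1 lc_f_rc_19_5 lc_f_rc_21_1 lc_f_rc_21_1 lc_f_rc_22_1 lc_f_rc_14_3 lc_f_rc_21_1 lc_f_rc_5_1 lc_f_rc_14_3 lc_f_rc_5_1 lc_f_rc_14_3 lc_f_rc_19_3 lc_f_rc_10_3 lc_f_rc_20_1 lc_f_Cert_tree lc_f_rc_10_3 lc_f_rc_14_1 lc_f_rc_19_3 lc_f_rc_20_1 lc_f_rc_22_1 lc_f_rc_14_3 lc_f_rc_21_1 lc_f_rc_17_1 lc_f_rc_20_1 lc_f_rc_10_1 lc_f_rc_17_3 lc_f_rc_14_1 lc_f_rc_10_1 lc_f_rc_19_1 lc_f_rc_17_3 lc_f_rc_17_3 lc_f_rc_17_3 lc_f_rc_19_3) (@D3.rec (fun _ => (Cert rels S Gen.f)) lc_f_rc_20_1 lc_f_rc_10_3 lc_f_rc_5_3 lc_f_rc_17_3 lc_f_rc_21_1 lc_f_rc_20_1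 lc_f_rc_14_3 lc_f_rc_14_1 lc_f_rc_14_3 lc_f_rc_17_3 lc_f_rc_17_3 lc_f_rc_5_3 lc_f_rc_22_1 lc_f_rc_20_1 lc_f_rc_21_1 lc_f_rc_19_5 lc_f_rc_10_3 lc_f_rc_21_1 lc_f_rc_17_3 lc_f_rc_21_1 lc_f_rc_10_1 lc_f_rc_20_1 lc_f_rc_10_3 lc_f_rc_14_3 lc_f_rc_19_5 lc_f_rc_22_1 lc_f_rc_20_1 lc_f_rc_21_1 lc_f_rc_10_1 lc_f_rc_21_1 lc_f_rc_14_3 lc_f_rc_10_1 lc_f_rc_20_1 lc_f_rc_19_3 lc_f_rc_14_3 lc_f_rc_22_1 lc_f_rc_14_3 lc_f_rc_10_3 lc_f_rc_5_1 lc_f_rc_5_3 lc_f_rc_21_1 lc_f_rc_14_3 lc_f_rc_5_3 lc_f_rc_17_3 lc_f_rc_20_1 lc_f_rc_17_3 lc_f_rc_14_1 lc_f_rc_20_1 lc_f_rc_20_1 lc_f_rc_19_5 lc_f_rc_19_3 lc_f_rc_5_3 lc_f_rc_5_3 lc_f_rc_17_3 lc_f_rc_21_1 lc_f_rc_14_1 lc_f_rc_20_1 lc_f_rc_17_3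 lc_f_rc_5_1 lc_f_rc_17_1 lc_f_rc_19_3 lc_f_rc_14_3) (@D3.rec (fun _ => (Cert rels S Gen.f)) lc_f_rc_21_1 lc_f_rc_20_1 lc_f_rc_20_1 lc_f_rc_21_1 lc_f_rc_14_3 lc_f_rc_20_1 lc_f_rc_10_3 lc_f_rc_10_3 lc_f_rc_21_1 lc_f_rc_20_1 lc_f_rc_14_3 lc_f_rc_5_3 lc_f_Cert_tree lc_f_rc_20_1 lc_f_rc_20_1 lc_f_rc_20_1 lc_f_rc_19_5 lc_f_rc_14_3 lc_f_rc_5_1 lc_f_rc_17_3 lc_f_rc_20_1 lc_f_rc_10_3 lc_f_rc_17_3 lc_f_rc_20_1 lc_f_rc_21_1 lc_f_rc_20_1 lc_f_rc_17_3 lc_f_rc_17_1 lc_f_rc_14_1 lc_f_rc_22_1 lc_f_rc_10_3 lc_f_rc_19_5 lc_f_rc_10_1 lc_f_rc_14_3 lc_f_rc_17_3 lc_f_rc_19_5 lc_f_rc_17_3 lc_f_rc_21_1 lc_f_rc_10_3 lc_f_rc_14_3 lc_f_rc_10_3 lc_f_rc_17_1 lc_f_rc_20_1 lc_f_rc_17_3 lc_f_rc_10_3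 lc_f_rc_5_1 lc_f_rc_10_3 lc_f_rc_19_5 lc_f_rc_19_3 lc_f_rc_19_3 lc_f_rc_10_3 lc_f_rc_17_3 lc_f_rc_21_1 lc_f_rc_17_3 lc_f_rc_10_3 lc_f_rc_19_3 lc_f_rc_10_3 lc_f_rc_14_3 lc_f_rc_14_3 lc_f_rc_10_3 lc_f_rc_20_1 lc_f_rc_20_1) (@D3.rec (fun _ => (Cert rels S Gen.f)) lc_f_rc_17_1 lc_f_rc_19_5 lc_f_rc_10_3 lc_f_rc_17_3 lc_f_rc_20_1 lc_f_rc_14_3 lc_f_rc_10_3 lc_f_rc_14_3 lc_f_rc_17_3 lc_f_rc_10_3 lc_f_rc_20_1 lc_f_rc_21_1 lc_f_rc_10_3 lc_f_rc_5_3 lc_f_rc_21_1 lc_f_rc_22_1 lc_f_rc_21_1 lc_f_rc_19_5 lc_f_rc_20_1 lc_f_rc_17_3 lc_f_rc_17_3 lc_f_rc_19_3 lc_f_rc_20_1 lc_f_rc_10_1 lc_f_rc_17_1 lc_f_rc_20_1 lc_f_rc_19_5 lc_f_rc_21_1 lc_f_rc_17_3 lc_f_rc_10_1 lc_f_rc_22_1 lc_f_rc_21_1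 lc_f_rc_5_3 lc_f_rc_19_3 lc_f_rc_17_3 lc_f_rc_17_1 lc_f_rc_19_5 lc_f_rc_17_1 lc_f_rc_17_1 lc_f_rc_10_3 lc_f_rc_17_3 lc_f_rc_20_1 lc_f_rc_21_1 lc_f_rc_20_1 lc_f_rc_21_1 lc_f_rc_17_1 lc_f_rc_20_1 lc_f_rc_5_1 lc_f_rc_10_3 lc_f_rc_14_3 lc_f_rc_17_3 lc_f_rc_14_3 lc_f_rc_5_3 lc_f_rc_14_3 lc_f_rc_14_3 lc_f_rc_20_1 lc_f_rc_21_1 lc_f_rc_10_3 lc_f_rc_17_3 lc_f_rc_20_1 lc_f_rc_5_1 lc_f_rc_21_1) (@D3.rec (fun _ => (Cert rels S Gen.f)) lc_f_rc_14_3 lc_f_rc_21_1 lc_f_rc_5_3 lc_f_rc_14_1 lc_f_rc_14_3 lc_f_rc_20_1 lc_f_rc_10_3 lc_f_rc_19_1 lc_f_rc_21_1 lc_f_rc_17_1 lc_f_rc_20_1 lc_f_rc_21_1 lc_f_rc_20_1 lc_f_rc_20_1 lc_f_rc_14_3 lc_f_rc_17_3 lc_f_rc_17_3 lc_f_rc_10_3 lc_f_rc_17_3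 lc_f_rc_20_1 lc_f_Cert_tree lc_f_rc_20_1 lc_f_rc_14_3 lc_f_rc_5_1 lc_f_rc_20_1 lc_f_rc_10_1 lc_f_rc_20_1 lc_f_rc_10_3 lc_f_rc_10_3 lc_f_rc_20_1 lc_f_rc_10_3 lc_f_rc_10_3 lc_f_rc_17_3 lc_f_rc_14_3 lc_f_rc_19_5 lc_f_rc_10_3 lc_f_rc_14_3 lc_f_rc_5_3 lc_f_rc_14_3 lc_f_rc_17_3 lc_f_rc_21_1 lc_f_rc_14_1 lc_f_rc_19_5 lc_f_rc_10_3 lc_f_rc_20_1 lc_f_rc_14_3 lc_f_rc_20_1 lc_f_rc_10_3 lc_f_rc_20_1 lc_f_rc_20_1 lc_f_rc_5_3 lc_f_rc_20_1 lc_f_rc_17_3 lc_f_rc_20_1 lc_f_rc_17_1 lc_f_rc_22_1 lc_f_rc_17_1 lc_f_rc_14_1 lc_f_rc_19_5 lc_f_rc_20_1 lc_f_rc_10_3 lc_f_rc_5_3) (@D3.rec (fun _ => (Cert rels S Gen.f)) lc_f_rc_17_3 lc_f_rc_17_3 lc_f_rc_10_3 lc_f_rc_5_1 lc_f_rc_19_3 lc_f_rc_17_3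 lc_f_rc_14_3 lc_f_rc_17_3 lc_f_rc_21_1 lc_f_rc_10_1 lc_f_rc_14_3 lc_f_rc_20_1 lc_f_rc_10_3 lc_f_rc_14_3 lc_f_rc_5_3 lc_f_rc_21_1 lc_f_rc_14_3 lc_f_rc_17_1 lc_f_rc_20_1 lc_f_rc_10_3 lc_f_rc_19_3 lc_f_rc_10_3 lc_f_rc_19_3 lc_f_rc_21_1 lc_f_rc_19_1 lc_f_rc_19_1 lc_f_rc_20_1 lc_f_rc_20_1 lc_f_rc_21_1 lc_f_rc_5_3 lc_f_rc_14_3 lc_f_rc_20_1 lc_f_rc_20_1 lc_f_rc_19_3 lc_f_rc_5_1 lc_f_rc_5_1 lc_f_rc_14_3 lc_f_rc_10_1 lc_f_rc_20_1 lc_f_rc_17_1 lc_f_rc_14_3 lc_f_rc_17_3 lc_f_rc_17_3 lc_f_rc_5_3 lc_f_rc_22_1 lc_f_rc_19_3 lc_f_rc_17_1 lc_f_rc_20_1 lc_f_rc_5_3 lc_f_rc_14_3 lc_f_rc_14_3 lc_f_rc_17_3 lc_f_rc_5_1 lc_f_Cert_tree lc_f_rc_10_3 lc_f_rc_17_3 lc_f_rc_17_3 lc_f_rc_14_1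 lc_f_rc_19_5 lc_f_rc_14_3 lc_f_rc_19_3 lc_f_rc_21_1) (@D3.rec (fun _ => (Cert rels S Gen.f)) lc_f_rc_20_1 lc_f_rc_22_1 lc_f_rc_17_3 lc_f_rc_17_1 lc_f_rc_21_1 lc_f_rc_17_3 lc_f_rc_20_1 lc_f_rc_19_5 lc_f_rc_19_5 lc_f_rc_14_3 lc_f_rc_10_1 lc_f_rc_10_3 lc_f_rc_19_5 lc_f_rc_17_3 lc_f_rc_17_3 lc_f_rc_19_3 lc_f_rc_14_1 lc_f_rc_14_1 lc_f_rc_21_1 lc_f_rc_20_1 lc_f_rc_17_1 lc_f_rc_10_3 lc_f_rc_10_3 lc_f_rc_19_5 lc_f_rc_21_1 lc_f_rc_20_1 lc_f_rc_14_3 lc_f_rc_19_3 lc_f_rc_20_1 lc_f_rc_19_5 lc_f_rc_19_3 lc_f_rc_17_3 lc_f_rc_17_3 lc_f_rc_19_5 lc_f_rc_20_1 lc_f_rc_17_1 lc_f_rc_17_3 lc_f_rc_5_3 lc_f_rc_10_1 lc_f_rc_17_1 lc_f_rc_17_1 lc_f_rc_20_1 lc_f_rc_22_1 lc_f_rc_22_1 lc_f_rc_10_3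 lc_f_rc_14_3 lc_f_rc_5_1 lc_f_rc_10_1 lc_f_rc_21_1 lc_f_rc_17_1 lc_f_rc_20_1 lc_f_rc_21_1 lc_f_rc_17_1 lc_f_rc_20_1 lc_f_rc_17_1 lc_f_rc_20_1 lc_f_rc_21_1 lc_f_rc_20_1 lc_f_rc_14_1 lc_f_rc_17_1 lc_f_rc_14_3 lc_f_rc_17_3) (@D3.rec (fun _ => (Cert rels S Gen.f)) lc_f_rc_14_3 lc_f_rc_19_1 lc_f_rc_14_3 lc_f_rc_19_5 lc_f_rc_10_3 lc_f_rc_22_1 lc_f_rc_19_3 lc_f_rc_20_1 lc_f_rc_17_3 lc_f_rc_17_3 lc_f_rc_20_1 lc_f_rc_14_1 lc_f_rc_10_1 lc_f_rc_14_3 lc_f_rc_5_3 lc_f_rc_14_3 lc_f_rc_14_3 lc_f_rc_14_3 lc_f_rc_19_5 lc_f_rc_17_1 lc_f_rc_14_3 lc_f_rc_14_1 lc_f_rc_10_3 lc_f_rc_14_3 lc_f_rc_17_3 lc_f_rc_21_1 lc_f_rc_10_3 lc_f_rc_14_3 lc_f_rc_5_3 lc_f_rc_10_3 lc_f_rc_21_1 lc_f_rc_10_1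 lc_f_rc_21_1 lc_f_rc_17_1 lc_f_rc_17_3 lc_f_rc_20_1 lc_f_rc_10_1 lc_f_rc_20_1 lc_f_rc_21_1 lc_f_rc_14_3 lc_f_rc_19_5 lc_f_rc_14_1 lc_f_rc_17_3 lc_f_rc_17_3 lc_f_rc_10_3 lc_f_rc_17_3 lc_f_rc_17_3 lc_f_rc_21_1 lc_f_rc_10_3 lc_f_rc_14_3 lc_f_rc_17_1 lc_f_rc_14_3 lc_f_rc_19_1 lc_f_rc_10_1 lc_f_rc_10_3 lc_f_rc_19_5 lc_f_rc_21_1 lc_f_rc_21_1 lc_f_rc_17_3 lc_f_rc_22_1 lc_f_rc_20_1 lc_f_rc_21_1) (@D3.rec (fun _ => (Cert rels S Gen.f)) lc_f_rc_19_5 lc_f_rc_5_3 lc_f_rc_17_3 lc_f_rc_19_3 lc_f_rc_14_3 lc_f_rc_17_1 lc_f_rc_14_3 lc_f_rc_20_1 lc_f_rc_14_1 lc_f_rc_21_1 lc_f_rc_14_1 lc_f_rc_5_3 lc_f_rc_10_3 lc_f_rc_20_1 lc_f_rc_20_1 lc_f_rc_20_1 lc_f_rc_10_3 lc_f_rc_20_1 lc_f_rc_5_3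 lc_f_rc_17_1 lc_f_rc_10_3 lc_f_rc_17_3 lc_f_rc_10_3 lc_f_rc_19_3 lc_f_rc_5_3 lc_f_rc_10_3 lc_f_rc_20_1 lc_f_rc_14_3 lc_f_rc_21_1 lc_f_rc_5_3 lc_f_rc_10_3 lc_f_rc_20_1 lc_f_rc_10_3 lc_f_rc_17_3 lc_f_rc_10_3 lc_f_rc_21_1 lc_f_rc_20_1 lc_f_rc_5_3 lc_f_rc_17_1 lc_f_rc_14_3 lc_f_rc_19_3 lc_f_rc_17_3 lc_f_rc_20_1 lc_f_rc_14_3 lc_f_rc_5_3 lc_f_rc_14_3 lc_f_rc_20_1 lc_f_rc_21_1 lc_f_rc_5_3 lc_f_rc_20_1 lc_f_rc_21_1 lc_f_rc_21_1 lc_f_rc_20_1 lc_f_rc_17_1 lc_f_rc_10_3 lc_f_rc_14_1 lc_f_rc_19_3 lc_f_rc_20_1 lc_f_rc_20_1 lc_f_rc_19_3 lc_f_rc_21_1 lc_f_rc_10_1) (@D3.rec (fun _ => (Cert rels S Gen.f)) lc_f_rc_14_3 lc_f_rc_20_1 lc_f_rc_10_3 lc_f_rc_20_1 lc_f_rc_14_3 lc_f_rc_10_3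 lc_f_rc_14_3 lc_f_rc_21_1 lc_f_rc_5_3 lc_f_rc_10_3 lc_f_rc_10_1 lc_f_rc_21_1 lc_f_rc_10_3 lc_f_rc_5_3 lc_f_rc_14_3 lc_f_rc_10_1 lc_f_rc_17_1 lc_f_rc_20_1 lc_f_rc_17_3 lc_f_rc_10_3 lc_f_rc_20_1 lc_f_rc_17_1 lc_f_rc_10_1 lc_f_rc_5_3 lc_f_rc_10_1 lc_f_rc_10_3 lc_f_rc_17_3 lc_f_rc_17_3 lc_f_rc_14_3 lc_f_rc_10_3 lc_f_rc_10_3 lc_f_rc_10_3 lc_f_rc_14_1 lc_f_rc_14_3 lc_f_rc_19_3 lc_f_rc_10_1 lc_f_rc_17_3 lc_f_rc_20_1 lc_f_rc_20_1 lc_f_rc_20_1 lc_f_rc_10_3 lc_f_rc_21_1 lc_f_rc_21_1 lc_f_rc_20_1 lc_f_rc_5_1 lc_f_rc_10_3 lc_f_rc_19_5 lc_f_rc_17_3 lc_f_rc_17_3 lc_f_rc_22_1 lc_f_rc_17_3 lc_f_rc_17_3 lc_f_rc_21_1 lc_f_rc_10_3 lc_f_rc_20_1 lc_f_rc_14_3 lc_f_rc_19_5 lc_f_rc_10_3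 lc_f_rc_17_3 lc_f_rc_21_1 lc_f_rc_5_1 lc_f_rc_21_1) (@D3.rec (fun _ => (Cert rels S Gen.f)) lc_f_Cert_tree lc_f_rc_20_1 lc_f_rc_10_3 lc_f_rc_10_3 lc_f_rc_22_1 lc_f_rc_21_1 lc_f_rc_19_5 lc_f_rc_19_5 lc_f_rc_10_3 lc_f_rc_14_1 lc_f_rc_14_1 lc_f_rc_20_1 lc_f_rc_5_3 lc_f_rc_20_1 lc_f_rc_21_1 lc_f_Cert_tree lc_f_rc_20_1 lc_f_Cert_tree lc_f_rc_17_1 lc_f_rc_20_1 lc_f_rc_17_1 lc_f_rc_20_1 lc_f_rc_10_3 lc_f_rc_17_3 lc_f_rc_17_3 lc_f_rc_14_3 lc_f_rc_14_3 lc_f_rc_19_1 lc_f_rc_19_3 lc_f_rc_19_3 lc_f_rc_22_1 lc_f_rc_20_1 lc_f_rc_14_3 lc_f_rc_21_1 lc_f_rc_14_1 lc_f_rc_17_3 lc_f_rc_10_3 lc_f_rc_10_3 lc_f_rc_10_1 lc_f_rc_10_1 lc_f_rc_5_1 lc_f_rc_10_1 lc_f_rc_10_1 lc_f_rc_19_5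 lc_f_rc_20_1 lc_f_rc_20_1 lc_f_rc_21_1 lc_f_rc_19_3 lc_f_rc_14_3 lc_f_rc_22_1 lc_f_rc_14_3 lc_f_rc_20_1 lc_f_rc_17_3 lc_f_rc_17_1 lc_f_rc_17_3 lc_f_rc_14_1 lc_f_rc_5_1 lc_f_rc_10_3 lc_f_rc_14_3 lc_f_rc_14_1 lc_f_rc_14_3 lc_f_rc_14_3) (@D3.rec (fun _ => (Cert rels S Gen.f)) lc_f_rc_21_1 lc_f_rc_14_3 lc_f_rc_19_5 lc_f_rc_10_1 lc_f_rc_10_3 lc_f_rc_5_3 lc_f_rc_22_1 lc_f_rc_10_3 lc_f_rc_21_1 lc_f_rc_14_1 lc_f_rc_20_1 lc_f_rc_17_3 lc_f_rc_5_3 lc_f_rc_19_3 lc_f_rc_22_1 lc_f_rc_21_1 lc_f_rc_17_3 lc_f_rc_14_3 lc_f_rc_14_3 lc_f_rc_17_3 lc_f_rc_17_3 lc_f_rc_19_3 lc_f_rc_14_3 lc_f_rc_19_3 lc_f_rc_17_3 lc_f_rc_17_3 lc_f_rc_5_3 lc_f_rc_21_1 lc_f_rc_17_3 lc_f_rc_19_5 lc_f_rc_21_1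 lc_f_rc_17_3 lc_f_rc_10_3 lc_f_rc_22_1 lc_f_rc_20_1 lc_f_rc_17_3 lc_f_rc_10_1 lc_f_rc_14_3 lc_f_rc_21_1 lc_f_rc_5_1 lc_f_rc_10_3 lc_f_Cert_tree lc_f_rc_20_1 lc_f_rc_14_1 lc_f_rc_10_3 lc_f_rc_22_1 lc_f_rc_5_1 lc_f_rc_14_1 lc_f_rc_14_1 lc_f_rc_17_3 lc_f_rc_17_3 lc_f_rc_14_3 lc_f_rc_17_3 lc_f_rc_14_3 lc_f_rc_14_3 lc_f_rc_14_3 lc_f_rc_14_3 lc_f_rc_14_3 lc_f_rc_14_3 lc_f_rc_22_1 lc_f_rc_10_1 lc_f_rc_17_1) (@D3.rec (fun _ => (Cert rels S Gen.f)) lc_f_rc_20_1 lc_f_rc_20_1 lc_f_Cert_tree lc_f_rc_10_3 lc_f_rc_14_3 lc_f_rc_14_3 lc_f_rc_17_3 lc_f_rc_14_1 lc_f_rc_20_1 lc_f_rc_20_1 lc_f_rc_21_1 lc_f_rc_20_1 lc_f_rc_14_3 lc_f_rc_14_3 lc_f_rc_10_1 lc_f_rc_14_3 lc_f_rc_20_1 lc_f_rc_14_3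 lc_f_rc_21_1 lc_f_rc_5_3 lc_f_rc_5_3 lc_f_rc_21_1 lc_f_rc_21_1 lc_f_rc_5_1 lc_f_rc_20_1 lc_f_rc_10_3 lc_f_rc_5_1 lc_f_Cert_tree lc_f_rc_5_3 lc_f_rc_19_3 lc_f_rc_5_1 lc_f_rc_22_1 lc_f_rc_10_3 lc_f_rc_17_3 lc_f_rc_19_3 lc_f_rc_5_3 lc_f_rc_19_3 lc_f_rc_17_3 lc_f_rc_14_3 lc_f_rc_22_1 lc_f_rc_17_3 lc_f_rc_17_1 lc_f_rc_20_1 lc_f_rc_14_3 lc_f_rc_21_1 lc_f_rc_10_1 lc_f_rc_14_3 lc_f_rc_21_1 lc_f_rc_5_3 lc_f_rc_10_3 lc_f_rc_20_1 lc_f_rc_10_3 lc_f_rc_10_1 lc_f_rc_14_1 lc_f_rc_21_1 lc_f_rc_14_1 lc_f_rc_10_3 lc_f_rc_14_1 lc_f_rc_22_1 lc_f_rc_10_3 lc_f_rc_10_3 lc_f_rc_10_3) (@D3.rec (fun _ => (Cert rels S Gen.f)) lc_f_rc_10_3 lc_f_rc_17_1 lc_f_rc_10_3 lc_f_rc_21_1 lc_f_rc_20_1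 lc_f_rc_19_5 lc_f_rc_14_3 lc_f_rc_10_3 lc_f_rc_14_3 lc_f_rc_5_3 lc_f_rc_10_3 lc_f_rc_21_1 lc_f_rc_19_1 lc_f_rc_19_3 lc_f_rc_20_1 lc_f_rc_19_3 lc_f_rc_10_1 lc_f_rc_22_1 lc_f_rc_20_1 lc_f_rc_14_1 lc_f_rc_19_3 lc_f_rc_14_3 lc_f_rc_10_3 lc_f_rc_14_3 lc_f_rc_19_3 lc_f_rc_17_3 lc_f_rc_20_1 lc_f_rc_10_3 lc_f_rc_17_1 lc_f_rc_14_3 lc_f_rc_22_1 lc_f_rc_20_1 lc_f_rc_10_3 lc_f_rc_19_1 lc_f_rc_19_3 lc_f_rc_19_5 lc_f_rc_17_1 lc_f_rc_5_1 lc_f_rc_10_1 lc_f_rc_14_3 lc_f_rc_14_3 lc_f_rc_22_1 lc_f_rc_20_1 lc_f_rc_10_3 lc_f_rc_19_3 lc_f_rc_20_1 lc_f_Cert_tree lc_f_rc_10_3 lc_f_rc_10_1 lc_f_rc_17_3 lc_f_rc_17_1 lc_f_rc_10_1 lc_f_rc_20_1 lc_f_rc_10_3 lc_f_rc_17_3 lc_f_rc_20_1 lc_f_rc_14_3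 lc_f_rc_20_1 lc_f_rc_17_1 lc_f_rc_14_3 lc_f_rc_21_1 lc_f_rc_10_3) (@D3.rec (fun _ => (Cert rels S Gen.f)) lc_f_rc_10_3 lc_f_rc_21_1 lc_f_rc_10_3 lc_f_rc_10_3 lc_f_rc_10_3 lc_f_rc_21_1 lc_f_rc_14_3 lc_f_rc_17_3 lc_f_rc_19_3 lc_f_rc_19_5 lc_f_rc_22_1 lc_f_rc_17_3 lc_f_rc_14_1 lc_f_rc_14_1 lc_f_rc_21_1 lc_f_rc_19_5 lc_f_rc_20_1 lc_f_rc_20_1 lc_f_rc_14_3 lc_f_rc_20_1 lc_f_rc_20_1 lc_f_rc_19_3 lc_f_rc_14_3 lc_f_rc_17_3 lc_f_rc_19_5 lc_f_rc_21_1 lc_f_rc_14_3 lc_f_rc_20_1 lc_f_rc_10_3 lc_f_rc_17_3 lc_f_rc_21_1 lc_f_rc_17_3 lc_f_rc_19_1 lc_f_rc_17_3 lc_f_rc_10_3 lc_f_rc_17_3 lc_f_rc_10_3 lc_f_rc_10_3 lc_f_rc_14_3 lc_f_rc_17_3 lc_f_rc_14_3 lc_f_rc_22_1 lc_f_rc_14_3 lc_f_rc_10_3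 lc_f_rc_19_3 lc_f_rc_21_1 lc_f_rc_20_1 lc_f_rc_20_1 lc_f_rc_10_3 lc_f_rc_14_1 lc_f_rc_14_3 lc_f_rc_14_3 lc_f_rc_14_3 lc_f_rc_17_1 lc_f_rc_20_1 lc_f_rc_17_1 lc_f_rc_17_3 lc_f_rc_14_1 lc_f_rc_17_1 lc_f_rc_17_3 lc_f_rc_10_3 lc_f_rc_10_3) (@D3.rec (fun _ => (Cert rels S Gen.f)) lc_f_rc_5_3 lc_f_rc_20_1 lc_f_rc_20_1 lc_f_rc_19_3 lc_f_rc_10_3 lc_f_rc_5_3 lc_f_rc_14_3 lc_f_rc_22_1 lc_f_rc_20_1 lc_f_rc_10_3 lc_f_rc_17_3 lc_f_rc_19_3 lc_f_rc_10_1 lc_f_rc_14_3 lc_f_rc_17_3 lc_f_rc_17_3 lc_f_rc_10_3 lc_f_rc_17_3 lc_f_rc_10_3 lc_f_rc_14_1 lc_f_rc_10_3 lc_f_rc_5_3 lc_f_rc_20_1 lc_f_rc_14_3 lc_f_rc_17_3 lc_f_rc_10_1 lc_f_rc_14_3 lc_f_rc_17_3 lc_f_rc_20_1 lc_f_rc_10_3 lc_f_rc_17_3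 lc_f_rc_10_1 lc_f_rc_10_1 lc_f_rc_21_1 lc_f_rc_20_1 lc_f_rc_19_1 lc_f_rc_5_1 lc_f_rc_14_3 lc_f_rc_19_5 lc_f_rc_17_1 lc_f_rc_10_3 lc_f_rc_21_1 lc_f_Cert_tree lc_f_rc_20_1 lc_f_rc_5_1 lc_f_rc_10_3 lc_f_rc_10_3 lc_f_rc_14_3 lc_f_rc_19_5 lc_f_rc_22_1 lc_f_rc_20_1 lc_f_rc_21_1 lc_f_rc_17_3 lc_f_rc_14_1 lc_f_rc_14_3 lc_f_rc_20_1 lc_f_rc_17_1 lc_f_rc_19_1 lc_f_rc_5_3 lc_f_rc_10_3 lc_f_rc_17_3 lc_f_rc_5_1) (@D3.rec (fun _ => (Cert rels S Gen.f)) lc_f_rc_5_1 lc_f_rc_10_3 lc_f_rc_5_1 lc_f_rc_14_3 lc_f_rc_10_3 lc_f_rc_10_3 lc_f_rc_10_3 lc_f_rc_22_1 lc_f_rc_10_3 lc_f_rc_20_1 lc_f_rc_19_3 lc_f_rc_17_3 lc_f_rc_14_3 lc_f_rc_17_3 lc_f_rc_20_1 lc_f_rc_19_3 lc_f_rc_10_1 lc_f_rc_17_1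 lc_f_rc_20_1 lc_f_rc_14_1 lc_f_rc_20_1 lc_f_rc_14_3 lc_f_rc_17_1 lc_f_rc_14_3 lc_f_rc_20_1 lc_f_rc_10_3 lc_f_rc_17_1 lc_f_rc_20_1 lc_f_rc_14_3 lc_f_rc_19_3 lc_f_rc_14_3 lc_f_rc_10_1 lc_f_rc_21_1 lc_f_rc_17_3 lc_f_rc_20_1 lc_f_rc_14_3 lc_f_rc_21_1 lc_f_rc_14_3 lc_f_rc_22_1 lc_f_rc_19_5 lc_f_rc_10_3 lc_f_rc_17_3 lc_f_rc_10_3 lc_f_rc_14_3 lc_f_rc_14_3 lc_f_rc_19_3 lc_f_rc_17_1 lc_f_rc_20_1 lc_f_rc_14_3 lc_f_rc_10_3 lc_f_rc_22_1 lc_f_rc_17_3 lc_f_rc_14_1 lc_f_rc_17_3 lc_f_rc_17_3 lc_f_rc_17_3 lc_f_rc_21_1 lc_f_rc_14_1 lc_f_rc_14_1 lc_f_rc_19_5 lc_f_rc_19_1 lc_f_rc_19_5) (@D3.rec (fun _ => (Cert rels S Gen.f)) lc_f_rc_20_1 lc_f_rc_19_3 lc_f_rc_19_3 lc_f_rc_20_1 lc_f_rc_17_1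 lc_f_rc_21_1 lc_f_rc_10_1 lc_f_rc_14_1 lc_f_rc_17_3 lc_f_rc_17_1 lc_f_rc_10_3 lc_f_rc_19_1 lc_f_rc_19_1 lc_f_rc_20_1 lc_f_rc_20_1 lc_f_rc_14_1 lc_f_rc_14_3 lc_f_rc_5_1 lc_f_rc_10_3 lc_f_rc_19_3 lc_f_rc_10_3 lc_f_rc_10_3 lc_f_rc_20_1 lc_f_rc_10_1 lc_f_rc_20_1 lc_f_rc_10_3 lc_f_rc_14_1 lc_f_rc_10_3 lc_f_rc_17_3 lc_f_rc_19_1 lc_f_rc_17_3 lc_f_rc_10_3 lc_f_rc_5_1 lc_f_rc_14_3 lc_f_rc_19_3 lc_f_rc_14_1 lc_f_rc_10_3 lc_f_rc_14_1 lc_f_rc_19_3 lc_f_rc_22_1 lc_f_rc_10_3 lc_f_rc_17_3 lc_f_rc_20_1 lc_f_rc_14_3 lc_f_rc_10_1 lc_f_rc_21_1 lc_f_rc_20_1 lc_f_rc_20_1 lc_f_rc_21_1 lc_f_rc_17_3 lc_f_rc_20_1 lc_f_rc_17_3 lc_f_rc_19_3 lc_f_rc_21_1 lc_f_rc_19_3 lc_f_rc_19_5 lc_f_rc_19_5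 lc_f_rc_19_1 lc_f_rc_17_3 lc_f_rc_14_3 lc_f_rc_14_1 lc_f_rc_21_1) (@D3.rec (fun _ => (Cert rels S Gen.f)) lc_f_rc_17_3 lc_f_rc_5_1 lc_f_rc_14_3 lc_f_rc_19_1 lc_f_rc_17_3 lc_f_rc_17_3 lc_f_rc_19_3 lc_f_rc_17_3 lc_f_rc_10_3 lc_f_rc_17_1 lc_f_rc_14_3 lc_f_rc_19_1 lc_f_rc_5_3 lc_f_rc_20_1 lc_f_rc_17_1 lc_f_rc_10_3 lc_f_rc_14_1 lc_f_rc_14_3 lc_f_rc_14_3 lc_f_rc_20_1 lc_f_rc_21_1 lc_f_rc_14_1 lc_f_rc_19_3 lc_f_rc_21_1 lc_f_rc_17_3 lc_f_rc_17_3 lc_f_rc_14_3 lc_f_rc_22_1 lc_f_rc_21_1 lc_f_rc_20_1 lc_f_rc_14_3 lc_f_rc_21_1 lc_f_rc_22_1 lc_f_rc_20_1 lc_f_rc_5_3 lc_f_rc_20_1 lc_f_rc_20_1 lc_f_rc_5_1 lc_f_rc_22_1 lc_f_rc_10_3 lc_f_rc_10_3 lc_f_rc_14_3 lc_f_rc_20_1 lc_f_rc_14_3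 lc_f_rc_10_3 lc_f_rc_5_3 lc_f_rc_10_3 lc_f_rc_21_1 lc_f_rc_14_3 lc_f_rc_17_3 lc_f_Cert_tree lc_f_rc_21_1 lc_f_rc_20_1 lc_f_rc_10_3 lc_f_rc_22_1 lc_f_rc_19_5 lc_f_rc_5_3 lc_f_rc_14_1 lc_f_rc_17_3 lc_f_rc_21_1 lc_f_rc_5_3 lc_f_rc_10_1) (@D3.rec (fun _ => (Cert rels S Gen.f)) lc_f_rc_20_1 lc_f_rc_19_3 lc_f_rc_10_1 lc_f_rc_17_1 lc_f_rc_19_1 lc_f_rc_14_3 lc_f_rc_14_3 lc_f_rc_10_3 lc_f_rc_22_1 lc_f_rc_20_1 lc_f_rc_5_1 lc_f_rc_20_1 lc_f_rc_10_3 lc_f_rc_14_3 lc_f_rc_14_3 lc_f_rc_14_3 lc_f_rc_5_3 lc_f_rc_17_3 lc_f_rc_14_3 lc_f_rc_10_1 lc_f_rc_14_3 lc_f_rc_10_3 lc_f_rc_5_3 lc_f_rc_17_1 lc_f_rc_21_1 lc_f_rc_5_1 lc_f_rc_17_3 lc_f_rc_5_3 lc_f_rc_20_1 lc_f_Cert_tree lc_f_rc_19_3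 lc_f_rc_17_1 lc_f_rc_20_1 lc_f_rc_5_3 lc_f_rc_17_1 lc_f_rc_5_1 lc_f_rc_14_1 lc_f_rc_20_1 lc_f_rc_20_1 lc_f_rc_19_1 lc_f_rc_19_3 lc_f_rc_21_1 lc_f_rc_22_1 lc_f_rc_10_1 lc_f_rc_17_1 lc_f_rc_17_1 lc_f_rc_19_5 lc_f_rc_14_3 lc_f_rc_19_3 lc_f_rc_22_1 lc_f_rc_22_1 lc_f_rc_14_3 lc_f_rc_20_1 lc_f_rc_10_3 lc_f_rc_20_1 lc_f_rc_17_3 lc_f_rc_22_1 lc_f_rc_21_1 lc_f_rc_5_1 lc_f_rc_19_5 lc_f_rc_14_3 lc_f_rc_19_1) (@D3.rec (fun _ => (Cert rels S Gen.f)) lc_f_rc_20_1 lc_f_rc_10_3 lc_f_rc_17_3 lc_f_rc_21_1 lc_f_rc_22_1 lc_f_rc_17_3 lc_f_rc_17_3 lc_f_rc_10_3 lc_f_rc_19_5 lc_f_rc_14_3 lc_f_rc_14_3 lc_f_rc_14_3 lc_f_rc_14_1 lc_f_rc_14_3 lc_f_rc_14_3 lc_f_rc_17_3 lc_f_Cert_tree lc_f_rc_20_1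 lc_f_rc_20_1 lc_f_rc_19_1 lc_f_rc_17_3 lc_f_rc_17_3 lc_f_rc_10_3 lc_f_rc_20_1 lc_f_rc_20_1 lc_f_rc_20_1 lc_f_rc_17_3 lc_f_rc_14_1 lc_f_rc_20_1 lc_f_rc_21_1 lc_f_rc_14_3 lc_f_rc_20_1 lc_f_rc_10_1 lc_f_rc_14_3 lc_f_rc_17_3 lc_f_rc_5_3 lc_f_rc_5_1 lc_f_rc_20_1 lc_f_rc_19_5 lc_f_rc_22_1 lc_f_rc_19_3 lc_f_rc_19_3 lc_f_rc_5_3 lc_f_rc_20_1 lc_f_rc_19_3 lc_f_rc_20_1 lc_f_rc_14_3 lc_f_rc_17_3 lc_f_rc_17_3 lc_f_rc_19_5 lc_f_rc_14_1 lc_f_rc_14_1 lc_f_rc_10_3 lc_f_rc_21_1 lc_f_rc_14_3 lc_f_rc_14_3 lc_f_rc_10_1 lc_f_rc_14_3 lc_f_rc_10_3 lc_f_rc_10_3 lc_f_rc_21_1 lc_f_rc_14_1) (@D3.rec (fun _ => (Cert rels S Gen.f)) lc_f_rc_10_3 lc_f_rc_10_1 lc_f_rc_20_1 lc_f_rc_19_3 lc_f_rc_19_5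 lc_f_rc_10_3 lc_f_rc_20_1 lc_f_rc_19_5 lc_f_rc_21_1 lc_f_rc_14_1 lc_f_rc_17_1 lc_f_rc_21_1 lc_f_rc_17_3 lc_f_rc_14_1 lc_f_rc_5_3 lc_f_rc_22_1 lc_f_rc_20_1 lc_f_rc_19_5 lc_f_rc_19_5 lc_f_rc_14_3 lc_f_rc_5_3 lc_f_rc_17_1 lc_f_rc_20_1 lc_f_rc_14_3 lc_f_rc_5_1 lc_f_rc_17_3 lc_f_rc_10_1 lc_f_rc_14_1 lc_f_rc_21_1 lc_f_rc_17_3 lc_f_rc_17_3 lc_f_rc_17_3 lc_f_rc_14_3 lc_f_rc_10_3 lc_f_rc_10_3 lc_f_rc_17_1 lc_f_rc_19_5 lc_f_rc_22_1 lc_f_rc_21_1 lc_f_rc_19_5 lc_f_rc_21_1 lc_f_rc_21_1 lc_f_rc_21_1 lc_f_rc_5_1 lc_f_rc_10_1 lc_f_rc_17_1 lc_f_rc_5_1 lc_f_rc_20_1 lc_f_rc_19_3 lc_f_rc_20_1 lc_f_rc_19_1 lc_f_rc_20_1 lc_f_rc_5_1 lc_f_rc_5_1 lc_f_rc_19_5 lc_f_rc_17_3 lc_f_rc_22_1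 lc_f_rc_20_1 lc_f_rc_14_1 lc_f_rc_20_1 lc_f_rc_19_5 lc_f_rc_20_1) (@D3.rec (fun _ => (Cert rels S Gen.f)) lc_f_rc_19_5 lc_f_rc_14_3 lc_f_rc_20_1 lc_f_rc_21_1 lc_f_rc_17_3 lc_f_rc_19_5 lc_f_rc_20_1 lc_f_rc_14_3 lc_f_rc_14_3 lc_f_rc_10_3 lc_f_rc_14_3 lc_f_rc_14_3 lc_f_rc_19_3 lc_f_rc_17_1 lc_f_rc_19_5 lc_f_rc_19_5 lc_f_rc_14_3 lc_f_rc_14_1 lc_f_rc_19_5 lc_f_rc_14_1 lc_f_rc_10_3 lc_f_rc_22_1 lc_f_rc_19_5 lc_f_rc_5_3 lc_f_rc_10_3 lc_f_rc_10_3 lc_f_rc_10_3 lc_f_rc_17_3 lc_f_rc_10_3 lc_f_rc_14_3 lc_f_rc_10_3 lc_f_rc_14_3 lc_f_rc_17_1 lc_f_rc_17_3 lc_f_rc_20_1 lc_f_rc_21_1 lc_f_rc_21_1 lc_f_rc_14_3 lc_f_rc_14_3 lc_f_rc_10_1 lc_f_rc_14_3 lc_f_rc_14_3 lc_f_rc_21_1 lc_f_rc_17_3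 lc_f_rc_10_3 lc_f_rc_20_1 lc_f_rc_14_3 lc_f_rc_10_3 lc_f_rc_17_3 lc_f_rc_10_3 lc_f_rc_14_1 lc_f_rc_19_5 lc_f_rc_5_1 lc_f_rc_14_3 lc_f_rc_21_1 lc_f_rc_5_1 lc_f_rc_17_1 lc_f_rc_10_3 lc_f_rc_22_1 lc_f_rc_20_1 lc_f_rc_21_1 lc_f_rc_10_1) (@D3.rec (fun _ => (Cert rels S Gen.f)) lc_f_rc_5_1 lc_f_rc_19_5 lc_f_rc_17_3 lc_f_rc_21_1 lc_f_rc_21_1 lc_f_rc_17_3 lc_f_rc_14_3 lc_f_rc_5_3 lc_f_rc_17_3 lc_f_rc_19_3 lc_f_rc_21_1 lc_f_rc_17_3 lc_f_rc_14_3 lc_f_rc_10_3 lc_f_rc_10_3 lc_f_rc_10_3 lc_f_rc_20_1 lc_f_rc_17_3 lc_f_rc_14_3 lc_f_rc_20_1 lc_f_rc_10_3 lc_f_rc_20_1 lc_f_rc_10_3 lc_f_rc_17_1 lc_f_rc_5_3 lc_f_rc_14_1 lc_f_rc_21_1 lc_f_rc_10_3 lc_f_rc_5_1 lc_f_rc_21_1 lc_f_rc_5_3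 lc_f_rc_10_3 lc_f_rc_10_1 lc_f_rc_14_1 lc_f_rc_5_3 lc_f_rc_10_3 lc_f_rc_19_5 lc_f_rc_5_3 lc_f_rc_17_3 lc_f_rc_20_1 lc_f_rc_20_1 lc_f_rc_10_3 lc_f_rc_21_1 lc_f_rc_21_1 lc_f_rc_10_1 lc_f_rc_17_3 lc_f_rc_14_1 lc_f_rc_19_5 lc_f_rc_19_1 lc_f_rc_17_1 lc_f_rc_21_1 lc_f_rc_5_1 lc_f_rc_17_1 lc_f_rc_17_1 lc_f_rc_19_3 lc_f_rc_21_1 lc_f_rc_5_1 lc_f_rc_19_3 lc_f_rc_20_1 lc_f_rc_20_1 lc_f_rc_20_1 lc_f_rc_19_1) (@D3.rec (fun _ => (Cert rels S Gen.f)) lc_f_rc_21_1 lc_f_Cert_tree lc_f_rc_20_1 lc_f_rc_10_1 lc_f_rc_14_1 lc_f_rc_10_3 lc_f_rc_10_3 lc_f_rc_21_1 lc_f_rc_19_5 lc_f_rc_21_1 lc_f_rc_5_1 lc_f_rc_21_1 lc_f_rc_10_1 lc_f_rc_14_3 lc_f_rc_20_1 lc_f_rc_10_3 lc_f_rc_17_1 lc_f_rc_17_3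 lc_f_rc_19_5 lc_f_rc_17_1 lc_f_rc_17_3 lc_f_rc_21_1 lc_f_rc_21_1 lc_f_rc_17_3 lc_f_rc_10_3 lc_f_rc_17_1 lc_f_rc_17_1 lc_f_rc_5_1 lc_f_rc_10_3 lc_f_rc_10_1 lc_f_rc_5_1 lc_f_rc_19_5 lc_f_rc_14_3 lc_f_rc_19_1 lc_f_rc_10_3 lc_f_rc_14_3 lc_f_rc_10_1 lc_f_rc_5_1 lc_f_rc_17_3 lc_f_rc_17_3 lc_f_rc_21_1 lc_f_rc_21_1 lc_f_rc_21_1 lc_f_rc_10_1 lc_f_rc_14_3 lc_f_rc_14_3 lc_f_rc_5_3 lc_f_rc_5_1 lc_f_rc_5_1 lc_f_rc_22_1 lc_f_rc_19_3 lc_f_Cert_tree lc_f_rc_14_3 lc_f_rc_17_3 lc_f_rc_5_1 lc_f_rc_21_1 lc_f_rc_17_1 lc_f_rc_5_1 lc_f_rc_5_1 lc_f_rc_20_1 lc_f_rc_20_1 lc_f_rc_19_1) (@D3.rec (fun _ => (Cert rels S Gen.f)) lc_f_rc_17_1 lc_f_rc_20_1 lc_f_rc_10_1 lc_f_rc_19_3 lc_f_rc_17_3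 lc_f_rc_19_5 lc_f_rc_17_1 lc_f_rc_14_3 lc_f_rc_14_3 lc_f_rc_19_3 lc_f_rc_10_3 lc_f_rc_19_3 lc_f_rc_20_1 lc_f_rc_5_3 lc_f_rc_22_1 lc_f_rc_14_3 lc_f_rc_14_3 lc_f_rc_14_3 lc_f_rc_19_3 lc_f_rc_17_3 lc_f_rc_19_3 lc_f_rc_17_3 lc_f_rc_14_1 lc_f_rc_17_3 lc_f_rc_21_1 lc_f_rc_22_1 lc_f_rc_21_1 lc_f_rc_14_3 lc_f_rc_14_3 lc_f_rc_14_3 lc_f_rc_5_1 lc_f_rc_19_5 lc_f_rc_5_1 lc_f_rc_10_3 lc_f_Cert_tree lc_f_rc_14_1 lc_f_rc_14_1 lc_f_rc_14_1 lc_f_rc_17_3 lc_f_rc_19_3 lc_f_rc_5_1 lc_f_rc_20_1 lc_f_rc_14_1 lc_f_rc_14_3 lc_f_rc_14_3 lc_f_Cert_tree lc_f_rc_19_3 lc_f_rc_5_1 lc_f_rc_10_3 lc_f_rc_20_1 lc_f_rc_21_1 lc_f_rc_14_3 lc_f_rc_20_1 lc_f_rc_14_1 lc_f_rc_14_3 lc_f_rc_10_3 lc_f_rc_10_3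 lc_f_rc_17_3 lc_f_rc_10_3 lc_f_rc_20_1 lc_f_rc_17_1 lc_f_rc_20_1) (@D3.rec (fun _ => (Cert rels S Gen.f)) lc_f_rc_21_1 lc_f_rc_14_1 lc_f_rc_20_1 lc_f_rc_17_1 lc_f_rc_20_1 lc_f_rc_17_1 lc_f_rc_22_1 lc_f_rc_20_1 lc_f_rc_10_3 lc_f_rc_21_1 lc_f_rc_21_1 lc_f_rc_14_3 lc_f_rc_14_3 lc_f_rc_5_3 lc_f_rc_10_3 lc_f_rc_17_1 lc_f_rc_19_3 lc_f_rc_5_1 lc_f_rc_20_1 lc_f_rc_20_1 lc_f_rc_5_3 lc_f_Cert_tree lc_f_rc_5_3 lc_f_rc_17_3 lc_f_rc_10_3 lc_f_rc_17_1 lc_f_rc_10_1 lc_f_rc_20_1 lc_f_rc_17_1 lc_f_rc_14_1 lc_f_rc_22_1 lc_f_rc_20_1 lc_f_rc_17_3 lc_f_rc_17_3 lc_f_rc_14_1 lc_f_rc_20_1 lc_f_rc_14_1 lc_f_rc_14_3 lc_f_rc_19_3 lc_f_rc_19_3 lc_f_rc_21_1 lc_f_Cert_tree lc_f_rc_20_1 lc_f_rc_14_3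 lc_f_rc_14_1 lc_f_rc_10_3 lc_f_rc_20_1 lc_f_rc_10_3 lc_f_rc_17_3 lc_f_rc_14_3 lc_f_rc_10_3 lc_f_rc_22_1 lc_f_rc_19_5 lc_f_rc_21_1 lc_f_rc_14_1 lc_f_rc_20_1 lc_f_rc_17_3 lc_f_rc_19_5 lc_f_rc_19_1 lc_f_Cert_tree lc_f_rc_20_1 lc_f_rc_5_1) (@D3.rec (fun _ => (Cert rels S Gen.f)) lc_f_rc_14_3 lc_f_rc_19_3 lc_f_rc_20_1 lc_f_rc_21_1 lc_f_rc_10_1 lc_f_rc_14_3 lc_f_rc_19_5 lc_f_rc_14_3 lc_f_rc_19_1 lc_f_rc_10_1 lc_f_rc_22_1 lc_f_rc_14_3 lc_f_rc_14_3 lc_f_rc_19_5 lc_f_rc_19_3 lc_f_Cert_tree lc_f_rc_20_1 lc_f_rc_14_3 lc_f_rc_10_1 lc_f_rc_10_3 lc_f_rc_14_3 lc_f_rc_17_3 lc_f_rc_10_1 lc_f_rc_20_1 lc_f_rc_10_1 lc_f_rc_17_3 lc_f_rc_19_3 lc_f_rc_22_1 lc_f_rc_14_3 lc_f_rc_21_1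 lc_f_rc_21_1 lc_f_rc_17_3 lc_f_rc_14_1 lc_f_rc_20_1 lc_f_rc_10_3 lc_f_rc_5_3 lc_f_rc_20_1 lc_f_rc_17_3 lc_f_rc_17_3 lc_f_rc_14_1 lc_f_rc_20_1 lc_f_rc_21_1 lc_f_rc_14_3 lc_f_rc_22_1 lc_f_rc_20_1 lc_f_rc_14_3 lc_f_rc_17_3 lc_f_rc_14_3 lc_f_rc_20_1 lc_f_rc_17_3 lc_f_rc_14_3 lc_f_rc_17_3 lc_f_rc_10_1 lc_f_rc_14_3 lc_f_rc_14_3 lc_f_rc_17_1 lc_f_rc_22_1 lc_f_rc_14_1 lc_f_rc_20_1 lc_f_rc_17_3 lc_f_rc_21_1 lc_f_rc_10_3) (@D3.rec (fun _ => (Cert rels S Gen.f)) lc_f_rc_20_1 lc_f_rc_14_3 lc_f_rc_22_1 lc_f_rc_19_1 lc_f_rc_20_1 lc_f_rc_20_1 lc_f_rc_19_3 lc_f_rc_17_3 lc_f_rc_14_3 lc_f_rc_10_3 lc_f_rc_21_1 lc_f_rc_10_3 lc_f_rc_20_1 lc_f_rc_22_1 lc_f_rc_22_1 lc_f_rc_17_3 lc_f_rc_10_3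 lc_f_rc_5_1 lc_f_rc_14_3 lc_f_rc_5_1 lc_f_rc_19_3 lc_f_Cert_tree lc_f_rc_20_1 lc_f_rc_22_1 lc_f_rc_10_3 lc_f_rc_17_1 lc_f_Cert_tree lc_f_rc_20_1 lc_f_rc_20_1 lc_f_rc_21_1 lc_f_Cert_tree lc_f_rc_20_1 lc_f_rc_10_1 lc_f_rc_14_1 lc_f_rc_14_3 lc_f_rc_17_3 lc_f_rc_17_3 lc_f_rc_20_1 lc_f_rc_10_3 lc_f_rc_17_1 lc_f_rc_10_3 lc_f_rc_14_3 lc_f_rc_17_3 lc_f_rc_21_1 lc_f_rc_22_1 lc_f_rc_17_3 lc_f_rc_19_3 lc_f_rc_21_1 lc_f_rc_14_3 lc_f_rc_21_1 lc_f_rc_17_3 lc_f_rc_10_3 lc_f_rc_22_1 lc_f_rc_5_1 lc_f_rc_5_3 lc_f_rc_20_1 lc_f_rc_10_3 lc_f_rc_14_1 lc_f_rc_14_3 lc_f_rc_10_3 lc_f_rc_10_3 lc_f_rc_19_3) (@D3.rec (fun _ => (Cert rels S Gen.f)) lc_f_rc_19_5 lc_f_rc_10_3 lc_f_rc_17_1 lc_f_rc_17_3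 lc_f_rc_14_3 lc_f_rc_5_3 lc_f_rc_14_1 lc_f_rc_20_1 lc_f_rc_10_3 lc_f_rc_14_1 lc_f_rc_17_3 lc_f_rc_17_3 lc_f_rc_10_1 lc_f_rc_10_1 lc_f_rc_14_3 lc_f_rc_14_1 lc_f_rc_14_1 lc_f_rc_20_1 lc_f_rc_19_3 lc_f_rc_17_3 lc_f_Cert_tree lc_f_rc_20_1 lc_f_rc_22_1 lc_f_rc_10_3 lc_f_rc_10_3 lc_f_rc_17_3 lc_f_rc_17_3 lc_f_rc_17_3 lc_f_rc_20_1 lc_f_rc_21_1 lc_f_rc_14_1 lc_f_rc_14_3 lc_f_rc_14_3 lc_f_rc_17_3 lc_f_rc_21_1 lc_f_rc_20_1 lc_f_rc_21_1 lc_f_rc_5_1 lc_f_rc_10_1 lc_f_rc_21_1 lc_f_rc_19_3 lc_f_rc_17_3 lc_f_rc_20_1 lc_f_rc_19_3 lc_f_rc_10_3 lc_f_rc_5_3 lc_f_rc_19_3 lc_f_rc_10_1 lc_f_rc_21_1 lc_f_rc_10_3 lc_f_rc_10_3 lc_f_Cert_tree lc_f_rc_17_3 lc_f_rc_10_3 lc_f_rc_17_1 lc_f_rc_14_3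 lc_f_rc_19_3 lc_f_rc_14_3 lc_f_rc_17_3 lc_f_rc_17_3 lc_f_rc_17_1 lc_f_rc_10_3) (@D3.rec (fun _ => (Cert rels S Gen.f)) lc_f_rc_17_3 lc_f_rc_10_1 lc_f_rc_10_1 lc_f_rc_20_1 lc_f_rc_5_1 lc_f_rc_21_1 lc_f_rc_17_1 lc_f_rc_10_1 lc_f_rc_17_3 lc_f_rc_14_3 lc_f_rc_21_1 lc_f_rc_20_1 lc_f_rc_20_1 lc_f_rc_14_3 lc_f_rc_14_3 lc_f_rc_17_3 lc_f_rc_17_3 lc_f_Cert_tree lc_f_rc_20_1 lc_f_rc_10_3 lc_f_rc_17_3 lc_f_rc_10_3 lc_f_rc_14_1 lc_f_rc_21_1 lc_f_Cert_tree lc_f_rc_20_1 lc_f_rc_14_3 lc_f_rc_17_3 lc_f_rc_14_3 lc_f_rc_10_1 lc_f_rc_14_1 lc_f_rc_19_5 lc_f_rc_17_3 lc_f_rc_19_5 lc_f_rc_10_3 lc_f_rc_17_1 lc_f_rc_14_3 lc_f_rc_5_3 lc_f_rc_20_1 lc_f_rc_22_1 lc_f_rc_10_3 lc_f_rc_5_3 lc_f_rc_5_1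 lc_f_rc_19_1 lc_f_Cert_tree lc_f_rc_20_1 lc_f_rc_10_3 lc_f_rc_17_3 lc_f_rc_21_1 lc_f_rc_21_1 lc_f_rc_17_3 lc_f_rc_20_1 lc_f_rc_20_1 lc_f_rc_21_1 lc_f_rc_10_3 lc_f_rc_20_1 lc_f_rc_17_1 lc_f_rc_20_1 lc_f_rc_17_3 lc_f_rc_19_5 lc_f_rc_19_5 lc_f_rc_20_1) (@D3.rec (fun _ => (Cert rels S Gen.f)) lc_f_rc_5_3 lc_f_rc_10_1 lc_f_rc_22_1 lc_f_rc_19_3 lc_f_rc_5_3 lc_f_rc_19_5 lc_f_rc_19_3 lc_f_rc_20_1 lc_f_rc_19_3 lc_f_rc_20_1 lc_f_rc_21_1 lc_f_rc_21_1 lc_f_rc_14_3 lc_f_rc_21_1 lc_f_rc_20_1 lc_f_rc_17_3 lc_f_rc_10_1 lc_f_rc_17_1 lc_f_rc_20_1 lc_f_rc_17_1 lc_f_rc_20_1 lc_f_rc_5_3 lc_f_rc_20_1 lc_f_rc_17_3 lc_f_rc_14_1 lc_f_rc_20_1 lc_f_rc_17_3 lc_f_rc_20_1 lc_f_rc_17_3 lc_f_rc_14_3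 lc_f_rc_10_3 lc_f_rc_14_1 lc_f_rc_17_1 lc_f_Cert_tree lc_f_rc_17_3 lc_f_rc_22_1 lc_f_rc_17_3 lc_f_rc_10_3 lc_f_rc_17_1 lc_f_rc_10_1 lc_f_rc_14_3 lc_f_Cert_tree lc_f_rc_20_1 lc_f_rc_22_1 lc_f_rc_20_1 lc_f_rc_10_1 lc_f_rc_10_3 lc_f_rc_14_1 lc_f_rc_14_3 lc_f_rc_17_3 lc_f_rc_20_1 lc_f_rc_14_3 lc_f_rc_14_3 lc_f_rc_14_3 lc_f_rc_10_3 lc_f_rc_20_1 lc_f_rc_10_1 lc_f_rc_10_1 lc_f_rc_17_1 lc_f_rc_10_3 lc_f_rc_21_1 lc_f_rc_17_3) (@D3.rec (fun _ => (Cert rels S Gen.f)) lc_f_rc_19_3 lc_f_rc_20_1 lc_f_rc_17_3 lc_f_rc_21_1 lc_f_rc_14_3 lc_f_rc_17_3 lc_f_rc_17_1 lc_f_rc_20_1 lc_f_rc_21_1 lc_f_rc_14_3 lc_f_rc_14_1 lc_f_rc_20_1 lc_f_rc_10_3 lc_f_rc_17_3 lc_f_rc_19_3 lc_f_rc_10_3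 lc_f_rc_17_3 lc_f_rc_17_3 lc_f_rc_21_1 lc_f_rc_14_3 lc_f_rc_19_5 lc_f_rc_17_3 lc_f_rc_17_3 lc_f_rc_14_3 lc_f_rc_14_3 lc_f_rc_10_3 lc_f_rc_14_3 lc_f_rc_19_3 lc_f_rc_21_1 lc_f_rc_14_3 lc_f_rc_14_1 lc_f_rc_20_1 lc_f_rc_17_3 lc_f_rc_17_3 lc_f_rc_17_1 lc_f_rc_14_1 lc_f_rc_14_3 lc_f_rc_14_3 lc_f_rc_20_1 lc_f_rc_14_3 lc_f_rc_10_3 lc_f_rc_20_1 lc_f_rc_10_3 lc_f_rc_5_1 lc_f_rc_10_1 lc_f_rc_10_3 lc_f_rc_20_1 lc_f_rc_20_1 lc_f_rc_20_1 lc_f_rc_17_3 lc_f_rc_17_3 lc_f_rc_19_3 lc_f_rc_10_1 lc_f_rc_21_1 lc_f_rc_22_1 lc_f_rc_20_1 lc_f_rc_14_3 lc_f_rc_21_1 lc_f_rc_10_3 lc_f_rc_21_1 lc_f_rc_20_1 lc_f_rc_20_1) (@D3.rec (fun _ => (Cert rels S Gen.f)) lc_f_rc_22_1 lc_f_rc_22_1 lc_f_rc_21_1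 lc_f_rc_19_3 lc_f_rc_14_1 lc_f_rc_20_1 lc_f_rc_14_1 lc_f_rc_14_3 lc_f_rc_10_3 lc_f_rc_21_1 lc_f_rc_20_1 lc_f_rc_20_1 lc_f_rc_22_1 lc_f_rc_17_3 lc_f_rc_14_1 lc_f_rc_21_1 lc_f_rc_10_3 lc_f_rc_14_3 lc_f_rc_17_3 lc_f_rc_14_1 lc_f_rc_17_3 lc_f_rc_20_1 lc_f_rc_21_1 lc_f_rc_21_1 lc_f_rc_10_3 lc_f_rc_19_1 lc_f_rc_19_5 lc_f_rc_10_3 lc_f_rc_20_1 lc_f_rc_17_3 lc_f_rc_22_1 lc_f_rc_14_3 lc_f_rc_19_1 lc_f_rc_14_3 lc_f_rc_17_3 lc_f_rc_14_3 lc_f_rc_10_1 lc_f_rc_17_3 lc_f_rc_21_1 lc_f_rc_20_1 lc_f_rc_10_3 lc_f_rc_14_3 lc_f_rc_17_3 lc_f_rc_14_3 lc_f_rc_10_3 lc_f_rc_5_1 lc_f_rc_5_1 lc_f_rc_17_3 lc_f_rc_21_1 lc_f_rc_5_1 lc_f_rc_19_3 lc_f_rc_17_3 lc_f_rc_21_1 lc_f_rc_14_3 lc_f_rc_19_3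 lc_f_rc_20_1 lc_f_rc_17_3 lc_f_rc_17_3 lc_f_rc_14_3 lc_f_rc_20_1 lc_f_rc_10_1 lc_f_rc_17_3) (@D3.rec (fun _ => (Cert rels S Gen.f)) lc_f_rc_21_1 lc_f_rc_17_3 lc_f_rc_20_1 lc_f_rc_17_1 lc_f_rc_17_1 lc_f_rc_17_3 lc_f_rc_10_1 lc_f_rc_21_1 lc_f_rc_20_1 lc_f_rc_10_3 lc_f_rc_14_1 lc_f_rc_10_1 lc_f_rc_17_1 lc_f_rc_14_3 lc_f_rc_17_3 lc_f_rc_14_3 lc_f_rc_22_1 lc_f_rc_17_3 lc_f_rc_21_1 lc_f_rc_21_1 lc_f_rc_19_3 lc_f_rc_19_3 lc_f_rc_14_1 lc_f_rc_21_1 lc_f_rc_17_1 lc_f_rc_10_3 lc_f_rc_22_1 lc_f_rc_21_1 lc_f_rc_10_3 lc_f_rc_21_1 lc_f_rc_10_3 lc_f_rc_10_3 lc_f_rc_20_1 lc_f_rc_19_5 lc_f_rc_10_3 lc_f_rc_21_1 lc_f_rc_10_3 lc_f_rc_14_3 lc_f_rc_19_5 lc_f_rc_21_1 lc_f_rc_14_1 lc_f_rc_14_3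 lc_f_rc_14_3 lc_f_rc_21_1 lc_f_rc_10_1 lc_f_rc_14_3 lc_f_rc_21_1 lc_f_rc_19_3 lc_f_rc_17_3 lc_f_rc_5_3 lc_f_rc_5_3 lc_f_rc_14_1 lc_f_rc_14_1 lc_f_rc_10_3 lc_f_rc_14_3 lc_f_rc_14_1 lc_f_rc_10_1 lc_f_rc_20_1 lc_f_rc_17_1 lc_f_rc_21_1 lc_f_rc_22_1 lc_f_rc_14_3)
def ce_f_29 : D2 → D3 → (Cert rels S Gen.f) := @D2.rec (fun _ => D3 → (Cert rels S Gen.f)) (@D3.rec (fun _ => (Cert rels S Gen.f)) lc_f_rc_17_1 lc_f_rc_14_3 lc_f_rc_14_3 lc_f_rc_10_3 lc_f_rc_17_3 lc_f_rc_20_1 lc_f_rc_17_1 lc_f_rc_20_1 lc_f_rc_17_3 lc_f_rc_10_3 lc_f_rc_5_1 lc_f_rc_19_3 lc_f_rc_10_1 lc_f_rc_5_1 lc_f_rc_21_1 lc_f_rc_10_3 lc_f_rc_22_1 lc_f_rc_17_1 lc_f_rc_17_1 lc_f_rc_21_1 lc_f_rc_19_1 lc_f_rc_5_3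 lc_f_rc_19_3 lc_f_rc_21_1 lc_f_rc_20_1 lc_f_rc_17_1 lc_f_rc_17_3 lc_f_rc_17_1 lc_f_rc_14_3 lc_f_rc_20_1 lc_f_rc_19_1 lc_f_rc_14_3 lc_f_rc_20_1 lc_f_rc_10_3 lc_f_rc_21_1 lc_f_rc_21_1 lc_f_rc_20_1 lc_f_rc_20_1 lc_f_rc_22_1 lc_f_rc_17_3 lc_f_rc_19_5 lc_f_rc_10_3 lc_f_rc_14_3 lc_f_rc_19_5 lc_f_rc_22_1 lc_f_rc_10_3 lc_f_rc_19_5 lc_f_rc_17_3 lc_f_rc_10_3 lc_f_rc_14_3 lc_f_rc_14_3 lc_f_rc_19_3 lc_f_rc_10_3 lc_f_rc_14_1 lc_f_rc_14_3 lc_f_rc_17_3 lc_f_rc_20_1 lc_f_rc_21_1 lc_f_rc_10_3 lc_f_rc_10_3 lc_f_rc_10_3 lc_f_rc_21_1) (@D3.rec (fun _ => (Cert rels S Gen.f)) lc_f_rc_10_3 lc_f_rc_17_3 lc_f_rc_19_5 lc_f_rc_17_1 lc_f_rc_10_3 lc_f_rc_5_3 lc_f_rc_20_1 lc_f_rc_20_1 lc_f_rc_10_1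 lc_f_rc_14_1 lc_f_rc_14_3 lc_f_rc_19_5 lc_f_rc_17_1 lc_f_rc_14_3 lc_f_rc_21_1 lc_f_rc_19_5 lc_f_rc_10_3 lc_f_rc_21_1 lc_f_rc_17_1 lc_f_rc_17_1 lc_f_rc_10_1 lc_f_rc_19_5 lc_f_rc_17_3 lc_f_rc_14_1 lc_f_rc_14_3 lc_f_rc_17_1 lc_f_rc_17_3 lc_f_rc_17_3 lc_f_rc_14_1 lc_f_rc_21_1 lc_f_rc_10_3 lc_f_rc_20_1 lc_f_rc_10_3 lc_f_rc_10_1 lc_f_rc_5_1 lc_f_rc_14_1 lc_f_rc_21_1 lc_f_rc_20_1 lc_f_rc_5_3 lc_f_rc_20_1 lc_f_rc_10_3 lc_f_rc_14_3 lc_f_rc_17_1 lc_f_rc_20_1 lc_f_rc_14_3 lc_f_rc_14_1 lc_f_rc_14_3 lc_f_rc_17_3 lc_f_rc_21_1 lc_f_rc_10_3 lc_f_rc_22_1 lc_f_rc_10_3 lc_f_rc_22_1 lc_f_rc_14_3 lc_f_rc_14_3 lc_f_rc_10_1 lc_f_rc_17_3 lc_f_rc_10_3 lc_f_rc_20_1 lc_f_rc_19_5 lc_f_rc_19_1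 lc_f_rc_14_1) (@D3.rec (fun _ => (Cert rels S Gen.f)) lc_f_rc_20_1 lc_f_rc_10_1 lc_f_rc_14_1 lc_f_rc_17_1 lc_f_rc_20_1 lc_f_rc_21_1 lc_f_rc_19_3 lc_f_rc_17_1 lc_f_Cert_tree lc_f_rc_20_1 lc_f_rc_17_3 lc_f_rc_20_1 lc_f_rc_5_1 lc_f_rc_19_5 lc_f_rc_17_3 lc_f_rc_17_1 lc_f_rc_20_1 lc_f_rc_14_3 lc_f_rc_17_3 lc_f_rc_10_1 lc_f_rc_19_5 lc_f_rc_17_3 lc_f_rc_10_3 lc_f_rc_14_3 lc_f_rc_10_3 lc_f_rc_5_1 lc_f_rc_10_1 lc_f_rc_17_1 lc_f_rc_20_1 lc_f_rc_14_3 lc_f_rc_14_1 lc_f_rc_10_1 lc_f_rc_14_3 lc_f_rc_21_1 lc_f_rc_19_3 lc_f_rc_14_1 lc_f_rc_19_3 lc_f_rc_17_1 lc_f_rc_5_3 lc_f_Cert_tree lc_f_rc_20_1 lc_f_rc_20_1 lc_f_rc_22_1 lc_f_rc_19_5 lc_f_rc_10_1 lc_f_rc_5_3 lc_f_rc_17_3 lc_f_rc_17_1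 lc_f_rc_17_3 lc_f_rc_19_1 lc_f_rc_10_1 lc_f_rc_14_3 lc_f_rc_10_3 lc_f_rc_14_3 lc_f_rc_14_3 lc_f_rc_14_1 lc_f_rc_20_1 lc_f_rc_5_1 lc_f_rc_19_3 lc_f_rc_14_1 lc_f_rc_10_3 lc_f_rc_14_3) (@D3.rec (fun _ => (Cert rels S Gen.f)) lc_f_rc_14_3 lc_f_rc_19_3 lc_f_rc_21_1 lc_f_rc_5_1 lc_f_rc_17_3 lc_f_rc_19_1 lc_f_rc_19_1 lc_f_rc_17_3 lc_f_rc_19_3 lc_f_rc_17_1 lc_f_rc_5_1 lc_f_rc_20_1 lc_f_rc_14_3 lc_f_rc_10_3 lc_f_rc_14_3 lc_f_rc_22_1 lc_f_rc_19_5 lc_f_rc_10_3 lc_f_rc_17_1 lc_f_rc_22_1 lc_f_Cert_tree lc_f_rc_10_1 lc_f_rc_21_1 lc_f_rc_20_1 lc_f_rc_14_3 lc_f_rc_19_3 lc_f_rc_19_3 lc_f_rc_14_3 lc_f_rc_17_1 lc_f_rc_10_3 lc_f_rc_5_3 lc_f_rc_22_1 lc_f_rc_20_1 lc_f_rc_14_3 lc_f_rc_22_1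 lc_f_rc_22_1 lc_f_rc_20_1 lc_f_rc_17_3 lc_f_rc_5_1 lc_f_rc_20_1 lc_f_rc_5_3 lc_f_rc_17_3 lc_f_rc_14_3 lc_f_rc_14_3 lc_f_rc_10_3 lc_f_rc_14_3 lc_f_rc_14_3 lc_f_rc_14_3 lc_f_rc_17_3 lc_f_rc_14_3 lc_f_rc_17_3 lc_f_rc_19_3 lc_f_rc_17_3 lc_f_rc_14_3 lc_f_rc_17_3 lc_f_rc_20_1 lc_f_rc_14_1 lc_f_rc_14_3 lc_f_rc_10_1 lc_f_rc_17_3 lc_f_rc_10_3 lc_f_rc_19_5) (@D3.rec (fun _ => (Cert rels S Gen.f)) lc_f_rc_10_1 lc_f_rc_10_1 lc_f_rc_21_1 lc_f_rc_10_3 lc_f_rc_20_1 lc_f_Cert_tree lc_f_rc_5_3 lc_f_rc_17_3 lc_f_rc_17_3 lc_f_rc_10_3 lc_f_rc_17_3 lc_f_rc_17_3 lc_f_rc_14_1 lc_f_rc_19_1 lc_f_rc_17_3 lc_f_rc_21_1 lc_f_rc_21_1 lc_f_rc_14_3 lc_f_rc_10_3 lc_f_rc_17_3 lc_f_rc_14_3 lc_f_rc_14_3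 lc_f_rc_10_1 lc_f_rc_14_3 lc_f_rc_10_3 lc_f_rc_10_3 lc_f_rc_17_3 lc_f_rc_17_3 lc_f_rc_10_3 lc_f_rc_17_3 lc_f_rc_10_3 lc_f_rc_22_1 lc_f_rc_17_3 lc_f_rc_17_3 lc_f_rc_22_1 lc_f_rc_10_3 lc_f_rc_22_1 lc_f_rc_17_3 lc_f_rc_19_3 lc_f_rc_10_3 lc_f_rc_21_1 lc_f_rc_22_1 lc_f_rc_14_1 lc_f_rc_19_3 lc_f_rc_17_3 lc_f_rc_10_3 lc_f_rc_17_3 lc_f_rc_19_5 lc_f_rc_21_1 lc_f_Cert_tree lc_f_rc_17_1 lc_f_rc_20_1 lc_f_rc_19_3 lc_f_rc_5_3 lc_f_rc_5_3 lc_f_rc_10_3 lc_f_rc_14_3 lc_f_rc_10_3 lc_f_rc_14_3 lc_f_rc_10_1 lc_f_rc_19_5 lc_f_rc_22_1) (@D3.rec (fun _ => (Cert rels S Gen.f)) lc_f_rc_19_5 lc_f_rc_5_3 lc_f_rc_17_3 lc_f_rc_14_3 lc_f_rc_17_3 lc_f_rc_17_3 lc_f_rc_10_3 lc_f_rc_10_3 lc_f_rc_14_1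 lc_f_rc_14_3 lc_f_rc_17_1 lc_f_rc_20_1 lc_f_rc_10_1 lc_f_rc_19_3 lc_f_rc_10_3 lc_f_rc_22_1 lc_f_rc_17_3 lc_f_rc_17_3 lc_f_rc_14_3 lc_f_rc_14_3 lc_f_rc_21_1 lc_f_rc_17_3 lc_f_rc_14_3 lc_f_rc_14_3 lc_f_rc_10_3 lc_f_rc_10_1 lc_f_rc_20_1 lc_f_rc_14_3 lc_f_rc_14_1 lc_f_rc_17_3 lc_f_rc_5_1 lc_f_rc_17_1 lc_f_rc_21_1 lc_f_rc_14_1 lc_f_rc_17_3 lc_f_rc_17_3 lc_f_rc_10_1 lc_f_rc_19_3 lc_f_rc_22_1 lc_f_rc_19_5 lc_f_rc_14_3 lc_f_rc_17_1 lc_f_rc_21_1 lc_f_rc_10_3 lc_f_rc_21_1 lc_f_rc_5_1 lc_f_rc_17_3 lc_f_rc_14_3 lc_f_rc_14_1 lc_f_rc_20_1 lc_f_rc_17_3 lc_f_rc_10_3 lc_f_rc_10_3 lc_f_rc_10_3 lc_f_rc_17_1 lc_f_rc_14_3 lc_f_rc_5_1 lc_f_rc_20_1 lc_f_rc_17_3 lc_f_rc_14_1 lc_f_rc_17_3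 lc_f_rc_14_3) (@D3.rec (fun _ => (Cert rels S Gen.f)) lc_f_rc_14_1 lc_f_rc_5_1 lc_f_rc_19_3 lc_f_rc_10_3 lc_f_rc_14_3 lc_f_rc_21_1 lc_f_rc_21_1 lc_f_rc_20_1 lc_f_rc_14_3 lc_f_rc_5_3 lc_f_rc_10_3 lc_f_rc_19_5 lc_f_rc_22_1 lc_f_rc_14_3 lc_f_rc_10_3 lc_f_rc_10_3 lc_f_rc_5_1 lc_f_rc_10_3 lc_f_rc_5_3 lc_f_rc_17_3 lc_f_rc_14_3 lc_f_rc_14_1 lc_f_rc_10_3 lc_f_rc_22_1 lc_f_rc_14_3 lc_f_rc_17_3 lc_f_rc_14_1 lc_f_rc_5_1 lc_f_rc_21_1 lc_f_rc_20_1 lc_f_rc_22_1 lc_f_rc_21_1 lc_f_rc_10_3 lc_f_rc_17_3 lc_f_rc_14_3 lc_f_rc_14_1 lc_f_rc_19_3 lc_f_rc_17_3 lc_f_rc_17_3 lc_f_rc_10_1 lc_f_rc_17_3 lc_f_rc_17_3 lc_f_rc_20_1 lc_f_rc_5_1 lc_f_rc_14_3 lc_f_rc_17_3 lc_f_rc_10_1 lc_f_rc_5_1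 lc_f_rc_21_1 lc_f_rc_20_1 lc_f_rc_21_1 lc_f_rc_17_3 lc_f_rc_17_3 lc_f_rc_14_3 lc_f_rc_10_3 lc_f_rc_14_1 lc_f_rc_10_3 lc_f_rc_22_1 lc_f_rc_14_3 lc_f_rc_14_1 lc_f_rc_17_3 lc_f_rc_10_3) (@D3.rec (fun _ => (Cert rels S Gen.f)) lc_f_rc_22_1 lc_f_rc_21_1 lc_f_rc_14_3 lc_f_rc_10_3 lc_f_rc_19_5 lc_f_rc_17_1 lc_f_rc_10_3 lc_f_rc_19_3 lc_f_rc_21_1 lc_f_rc_17_3 lc_f_rc_10_3 lc_f_rc_14_3 lc_f_rc_14_3 lc_f_rc_22_1 lc_f_rc_20_1 lc_f_rc_14_3 lc_f_rc_14_1 lc_f_rc_10_3 lc_f_rc_21_1 lc_f_rc_20_1 lc_f_rc_14_1 lc_f_rc_21_1 lc_f_rc_10_3 lc_f_rc_14_3 lc_f_rc_17_3 lc_f_rc_17_3 lc_f_rc_21_1 lc_f_rc_19_3 lc_f_rc_17_3 lc_f_rc_10_3 lc_f_rc_21_1 lc_f_rc_19_1 lc_f_rc_19_5 lc_f_rc_14_3 lc_f_rc_20_1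 lc_f_rc_19_1 lc_f_rc_14_3 lc_f_rc_10_1 lc_f_rc_10_3 lc_f_rc_17_3 lc_f_rc_5_3 lc_f_rc_21_1 lc_f_rc_14_1 lc_f_rc_17_3 lc_f_rc_19_3 lc_f_rc_17_1 lc_f_rc_19_3 lc_f_rc_14_3 lc_f_rc_10_3 lc_f_rc_20_1 lc_f_rc_21_1 lc_f_rc_17_1 lc_f_rc_21_1 lc_f_rc_10_3 lc_f_rc_17_3 lc_f_rc_17_3 lc_f_rc_22_1 lc_f_rc_20_1 lc_f_rc_10_3 lc_f_rc_21_1 lc_f_rc_21_1 lc_f_rc_20_1) (@D3.rec (fun _ => (Cert rels S Gen.f)) lc_f_rc_17_3 lc_f_rc_20_1 lc_f_rc_5_3 lc_f_rc_19_3 lc_f_rc_19_5 lc_f_rc_19_3 lc_f_rc_20_1 lc_f_rc_14_1 lc_f_rc_21_1 lc_f_rc_17_3 lc_f_rc_20_1 lc_f_rc_17_3 lc_f_rc_20_1 lc_f_rc_20_1 lc_f_rc_5_3 lc_f_rc_17_1 lc_f_rc_19_1 lc_f_rc_17_3 lc_f_rc_14_1 lc_f_rc_17_1 lc_f_rc_14_3 lc_f_rc_14_3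 lc_f_rc_22_1 lc_f_rc_20_1 lc_f_rc_14_3 lc_f_rc_20_1 lc_f_rc_21_1 lc_f_rc_19_5 lc_f_rc_19_5 lc_f_rc_10_1 lc_f_rc_10_3 lc_f_rc_21_1 lc_f_rc_17_3 lc_f_rc_19_5 lc_f_rc_17_3 lc_f_rc_19_5 lc_f_rc_20_1 lc_f_rc_14_3 lc_f_rc_10_3 lc_f_rc_17_3 lc_f_rc_14_3 lc_f_rc_5_3 lc_f_rc_17_3 lc_f_Cert_tree lc_f_rc_17_1 lc_f_rc_21_1 lc_f_rc_14_1 lc_f_rc_17_3 lc_f_rc_14_1 lc_f_rc_14_1 lc_f_rc_17_1 lc_f_Cert_tree lc_f_rc_17_3 lc_f_rc_14_1 lc_f_rc_19_1 lc_f_rc_17_1 lc_f_rc_20_1 lc_f_rc_14_1 lc_f_rc_22_1 lc_f_rc_10_1 lc_f_rc_14_1 lc_f_rc_10_3) (@D3.rec (fun _ => (Cert rels S Gen.f)) lc_f_rc_10_3 lc_f_rc_17_1 lc_f_rc_10_3 lc_f_rc_5_3 lc_f_rc_5_3 lc_f_rc_10_3 lc_f_rc_17_3 lc_f_rc_19_5 lc_f_rc_14_3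 lc_f_rc_10_3 lc_f_rc_17_3 lc_f_rc_14_3 lc_f_rc_20_1 lc_f_rc_14_3 lc_f_rc_17_3 lc_f_rc_17_3 lc_f_rc_17_3 lc_f_rc_10_3 lc_f_rc_10_3 lc_f_rc_14_3 lc_f_rc_14_3 lc_f_rc_14_3 lc_f_rc_19_3 lc_f_rc_21_1 lc_f_rc_19_5 lc_f_rc_14_3 lc_f_rc_10_3 lc_f_rc_5_1 lc_f_rc_10_3 lc_f_rc_17_1 lc_f_rc_20_1 lc_f_rc_14_3 lc_f_rc_10_3 lc_f_rc_10_3 lc_f_rc_22_1 lc_f_rc_21_1 lc_f_rc_19_5 lc_f_rc_21_1 lc_f_rc_19_5 lc_f_rc_10_3 lc_f_rc_17_1 lc_f_rc_17_1 lc_f_rc_10_3 lc_f_rc_21_1 lc_f_rc_17_3 lc_f_rc_19_3 lc_f_rc_22_1 lc_f_rc_14_3 lc_f_rc_17_3 lc_f_rc_19_3 lc_f_rc_17_1 lc_f_rc_19_3 lc_f_rc_5_1 lc_f_Cert_tree lc_f_rc_10_3 lc_f_rc_5_1 lc_f_rc_20_1 lc_f_rc_21_1 lc_f_rc_17_1 lc_f_rc_20_1 lc_f_rc_20_1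 lc_f_rc_21_1) (@D3.rec (fun _ => (Cert rels S Gen.f)) lc_f_rc_20_1 lc_f_rc_10_3 lc_f_rc_17_3 lc_f_rc_17_3 lc_f_rc_10_1 lc_f_rc_20_1 lc_f_rc_19_3 lc_f_rc_19_5 lc_f_rc_20_1 lc_f_rc_20_1 lc_f_rc_21_1 lc_f_rc_19_1 lc_f_rc_17_3 lc_f_rc_20_1 lc_f_rc_21_1 lc_f_rc_19_3 lc_f_rc_20_1 lc_f_rc_19_5 lc_f_rc_17_3 lc_f_rc_14_1 lc_f_rc_20_1 lc_f_rc_21_1 lc_f_rc_19_5 lc_f_rc_10_1 lc_f_rc_17_3 lc_f_rc_14_3 lc_f_rc_10_3 lc_f_rc_22_1 lc_f_rc_14_3 lc_f_rc_22_1 lc_f_rc_10_1 lc_f_rc_14_1 lc_f_rc_19_3 lc_f_rc_10_3 lc_f_rc_14_1 lc_f_Cert_tree lc_f_rc_14_3 lc_f_rc_14_3 lc_f_rc_10_3 lc_f_rc_20_1 lc_f_rc_10_3 lc_f_rc_17_3 lc_f_rc_17_1 lc_f_rc_5_1 lc_f_rc_19_1 lc_f_rc_10_1 lc_f_rc_20_1 lc_f_rc_14_1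 lc_f_rc_5_1 lc_f_rc_5_1 lc_f_rc_21_1 lc_f_Cert_tree lc_f_rc_20_1 lc_f_rc_10_3 lc_f_rc_14_3 lc_f_rc_10_3 lc_f_rc_21_1 lc_f_rc_19_1 lc_f_rc_10_3 lc_f_rc_14_1 lc_f_rc_20_1 lc_f_rc_21_1) (@D3.rec (fun _ => (Cert rels S Gen.f)) lc_f_rc_10_3 lc_f_rc_14_1 lc_f_rc_21_1 lc_f_rc_17_1 lc_f_rc_19_5 lc_f_rc_20_1 lc_f_rc_19_1 lc_f_rc_10_3 lc_f_rc_10_1 lc_f_rc_5_3 lc_f_rc_14_1 lc_f_rc_14_3 lc_f_rc_17_3 lc_f_rc_20_1 lc_f_rc_14_3 lc_f_rc_17_3 lc_f_rc_5_1 lc_f_rc_21_1 lc_f_rc_10_3 lc_f_rc_10_3 lc_f_rc_20_1 lc_f_rc_17_3 lc_f_rc_17_3 lc_f_rc_22_1 lc_f_rc_20_1 lc_f_rc_14_3 lc_f_rc_10_3 lc_f_rc_17_3 lc_f_rc_17_3 lc_f_rc_10_3 lc_f_rc_20_1 lc_f_rc_17_1 lc_f_rc_20_1 lc_f_rc_21_1 lc_f_Cert_tree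 lc_f_rc_20_1 lc_f_rc_5_3 lc_f_rc_20_1 lc_f_rc_14_3 lc_f_rc_17_3 lc_f_rc_5_1 lc_f_rc_17_3 lc_f_rc_14_3 lc_f_rc_17_3 lc_f_rc_17_3 lc_f_rc_20_1 lc_f_rc_14_3 lc_f_rc_14_3 lc_f_rc_10_1 lc_f_rc_20_1 lc_f_rc_10_3 lc_f_rc_5_3 lc_f_rc_21_1 lc_f_rc_20_1 lc_f_rc_21_1 lc_f_rc_17_3 lc_f_rc_14_3 lc_f_rc_14_3 lc_f_rc_14_1 lc_f_rc_20_1 lc_f_rc_17_3 lc_f_rc_10_1) (@D3.rec (fun _ => (Cert rels S Gen.f)) lc_f_rc_19_3 lc_f_rc_17_1 lc_f_rc_20_1 lc_f_rc_14_3 lc_f_rc_19_1 lc_f_rc_22_1 lc_f_rc_17_3 lc_f_rc_21_1 lc_f_rc_17_3 lc_f_rc_20_1 lc_f_rc_20_1 lc_f_rc_14_3 lc_f_rc_10_3 lc_f_rc_10_3 lc_f_rc_19_5 lc_f_rc_20_1 lc_f_rc_5_3 lc_f_rc_17_3 lc_f_rc_14_1 lc_f_rc_14_1 lc_f_rc_10_3 lc_f_rc_20_1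 lc_f_Cert_tree lc_f_rc_5_1 lc_f_rc_20_1 lc_f_rc_17_3 lc_f_rc_5_3 lc_f_rc_5_1 lc_f_rc_21_1 lc_f_rc_21_1 lc_f_rc_20_1 lc_f_rc_20_1 lc_f_rc_10_1 lc_f_rc_17_1 lc_f_rc_10_3 lc_f_rc_5_1 lc_f_rc_20_1 lc_f_rc_17_3 lc_f_rc_17_1 lc_f_rc_21_1 lc_f_rc_10_3 lc_f_rc_10_3 lc_f_rc_22_1 lc_f_rc_5_3 lc_f_rc_21_1 lc_f_rc_22_1 lc_f_rc_20_1 lc_f_rc_17_1 lc_f_rc_21_1 lc_f_rc_20_1 lc_f_rc_14_3 lc_f_rc_21_1 lc_f_rc_20_1 lc_f_rc_20_1 lc_f_rc_14_3 lc_f_rc_10_3 lc_f_rc_10_1 lc_f_rc_17_1 lc_f_rc_14_3 lc_f_rc_17_3 lc_f_rc_14_1 lc_f_rc_10_3) (@D3.rec (fun _ => (Cert rels S Gen.f)) lc_f_rc_17_1 lc_f_rc_14_1 lc_f_rc_19_3 lc_f_rc_14_3 lc_f_rc_10_3 lc_f_rc_17_3 lc_f_rc_17_3 lc_f_rc_5_3 lc_f_rc_19_3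 lc_f_rc_14_3 lc_f_rc_17_3 lc_f_rc_21_1 lc_f_rc_10_3 lc_f_rc_10_3 lc_f_rc_17_1 lc_f_rc_20_1 lc_f_rc_14_1 lc_f_rc_19_5 lc_f_Cert_tree lc_f_rc_20_1 lc_f_rc_10_3 lc_f_rc_17_1 lc_f_rc_22_1 lc_f_rc_22_1 lc_f_rc_22_1 lc_f_rc_14_3 lc_f_rc_14_3 lc_f_rc_20_1 lc_f_rc_21_1 lc_f_rc_22_1 lc_f_rc_20_1 lc_f_rc_17_1 lc_f_rc_14_3 lc_f_rc_5_1 lc_f_rc_21_1 lc_f_rc_19_1 lc_f_rc_14_3 lc_f_rc_5_3 lc_f_rc_14_3 lc_f_rc_5_1 lc_f_rc_21_1 lc_f_rc_10_3 lc_f_rc_19_5 lc_f_rc_10_3 lc_f_rc_20_1 lc_f_rc_20_1 lc_f_rc_14_3 lc_f_Cert_tree lc_f_rc_17_1 lc_f_rc_5_1 lc_f_rc_19_5 lc_f_rc_14_1 lc_f_rc_20_1 lc_f_rc_14_1 lc_f_rc_20_1 lc_f_rc_14_3 lc_f_rc_14_3 lc_f_rc_14_3 lc_f_rc_17_1 lc_f_rc_20_1 lc_f_rc_5_1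 lc_f_rc_19_5) (@D3.rec (fun _ => (Cert rels S Gen.f)) lc_f_rc_20_1 lc_f_rc_17_3 lc_f_rc_19_3 lc_f_rc_14_1 lc_f_rc_21_1 lc_f_rc_19_1 lc_f_rc_21_1 lc_f_rc_17_3 lc_f_rc_20_1 lc_f_rc_10_3 lc_f_rc_5_3 lc_f_rc_20_1 lc_f_rc_20_1 lc_f_rc_20_1 lc_f_rc_19_1 lc_f_rc_22_1 lc_f_rc_21_1 lc_f_rc_5_1 lc_f_rc_5_3 lc_f_rc_17_3 lc_f_rc_14_3 lc_f_rc_5_3 lc_f_rc_10_3 lc_f_Cert_tree lc_f_rc_5_3 lc_f_rc_20_1 lc_f_rc_10_3 lc_f_rc_22_1 lc_f_rc_17_3 lc_f_rc_14_3 lc_f_rc_10_3 lc_f_rc_10_1 lc_f_rc_14_3 lc_f_rc_5_1 lc_f_rc_19_1 lc_f_rc_14_3 lc_f_rc_17_3 lc_f_rc_14_3 lc_f_rc_17_3 lc_f_rc_10_3 lc_f_rc_21_1 lc_f_rc_17_3 lc_f_rc_20_1 lc_f_rc_21_1 lc_f_rc_19_1 lc_f_rc_14_3 lc_f_rc_20_1 lc_f_rc_20_1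 lc_f_rc_20_1 lc_f_rc_17_1 lc_f_rc_21_1 lc_f_rc_20_1 lc_f_rc_17_3 lc_f_rc_20_1 lc_f_rc_10_3 lc_f_rc_5_3 lc_f_rc_22_1 lc_f_rc_14_1 lc_f_rc_20_1 lc_f_rc_20_1 lc_f_rc_17_1 lc_f_rc_20_1) (@D3.rec (fun _ => (Cert rels S Gen.f)) lc_f_rc_17_3 lc_f_rc_19_1 lc_f_rc_10_3 lc_f_rc_20_1 lc_f_rc_14_1 lc_f_rc_10_3 lc_f_rc_10_3 lc_f_rc_5_3 lc_f_rc_10_3 lc_f_rc_10_3 lc_f_rc_5_3 lc_f_rc_17_3 lc_f_rc_19_1 lc_f_rc_5_3 lc_f_rc_19_3 lc_f_rc_17_3 lc_f_rc_5_1 lc_f_Cert_tree lc_f_rc_17_3 lc_f_rc_14_3 lc_f_rc_20_1 lc_f_rc_17_1 lc_f_rc_19_3 lc_f_rc_14_3 lc_f_rc_17_1 lc_f_rc_17_3 lc_f_rc_20_1 lc_f_rc_14_3 lc_f_rc_10_1 lc_f_rc_10_3 lc_f_rc_19_5 lc_f_rc_20_1 lc_f_rc_21_1 lc_f_rc_14_3 lc_f_rc_20_1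 lc_f_rc_10_3 lc_f_rc_14_1 lc_f_rc_10_1 lc_f_rc_10_3 lc_f_rc_19_1 lc_f_rc_22_1 lc_f_rc_14_3 lc_f_rc_20_1 lc_f_rc_20_1 lc_f_rc_14_3 lc_f_rc_10_1 lc_f_rc_17_3 lc_f_rc_19_1 lc_f_rc_14_3 lc_f_rc_14_3 lc_f_rc_14_3 lc_f_rc_10_1 lc_f_rc_14_3 lc_f_rc_20_1 lc_f_rc_19_3 lc_f_rc_21_1 lc_f_rc_5_1 lc_f_rc_20_1 lc_f_rc_17_3 lc_f_rc_14_3 lc_f_rc_19_5 lc_f_rc_21_1) (@D3.rec (fun _ => (Cert rels S Gen.f)) lc_f_rc_10_3 lc_f_rc_21_1 lc_f_rc_10_3 lc_f_rc_14_3 lc_f_rc_19_5 lc_f_rc_20_1 lc_f_rc_14_1 lc_f_rc_22_1 lc_f_rc_14_3 lc_f_rc_21_1 lc_f_rc_10_3 lc_f_rc_19_3 lc_f_rc_10_1 lc_f_rc_14_3 lc_f_rc_22_1 lc_f_rc_17_1 lc_f_rc_17_3 lc_f_rc_10_3 lc_f_rc_21_1 lc_f_rc_22_1 lc_f_rc_14_1 lc_f_rc_20_1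 lc_f_rc_20_1 lc_f_rc_20_1 lc_f_rc_19_3 lc_f_rc_14_3 lc_f_rc_17_1 lc_f_rc_17_1 lc_f_rc_14_1 lc_f_rc_20_1 lc_f_rc_17_3 lc_f_rc_21_1 lc_f_rc_14_3 lc_f_rc_19_3 lc_f_rc_19_3 lc_f_rc_17_3 lc_f_rc_10_3 lc_f_rc_17_3 lc_f_rc_20_1 lc_f_rc_20_1 lc_f_Cert_tree lc_f_rc_19_5 lc_f_rc_17_1 lc_f_rc_14_1 lc_f_rc_20_1 lc_f_rc_22_1 lc_f_rc_17_3 lc_f_rc_20_1 lc_f_rc_14_3 lc_f_rc_19_1 lc_f_rc_10_3 lc_f_rc_14_3 lc_f_rc_5_3 lc_f_rc_21_1 lc_f_rc_10_1 lc_f_rc_14_1 lc_f_rc_17_1 lc_f_rc_14_1 lc_f_rc_19_5 lc_f_rc_14_3 lc_f_rc_5_3 lc_f_rc_19_3) (@D3.rec (fun _ => (Cert rels S Gen.f)) lc_f_rc_21_1 lc_f_rc_20_1 lc_f_rc_20_1 lc_f_rc_22_1 lc_f_rc_17_1 lc_f_rc_14_3 lc_f_rc_10_3 lc_f_rc_10_1 lc_f_rc_14_3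 lc_f_rc_14_3 lc_f_rc_22_1 lc_f_rc_17_3 lc_f_rc_10_3 lc_f_rc_10_3 lc_f_rc_14_1 lc_f_rc_21_1 lc_f_rc_10_3 lc_f_rc_19_3 lc_f_rc_21_1 lc_f_rc_20_1 lc_f_rc_19_3 lc_f_rc_10_3 lc_f_rc_10_3 lc_f_rc_10_3 lc_f_rc_14_1 lc_f_rc_10_3 lc_f_rc_10_1 lc_f_rc_20_1 lc_f_rc_20_1 lc_f_rc_20_1 lc_f_rc_21_1 lc_f_rc_17_1 lc_f_rc_20_1 lc_f_rc_10_3 lc_f_rc_19_5 lc_f_rc_22_1 lc_f_rc_20_1 lc_f_rc_10_3 lc_f_rc_10_1 lc_f_rc_17_3 lc_f_rc_17_1 lc_f_rc_10_3 lc_f_rc_20_1 lc_f_rc_10_3 lc_f_rc_17_1 lc_f_rc_17_3 lc_f_rc_20_1 lc_f_rc_14_3 lc_f_rc_10_3 lc_f_rc_10_3 lc_f_rc_14_3 lc_f_rc_17_3 lc_f_rc_21_1 lc_f_rc_14_1 lc_f_rc_14_1 lc_f_rc_19_3 lc_f_rc_10_3 lc_f_rc_14_3 lc_f_rc_10_3 lc_f_rc_14_3 lc_f_rc_14_3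 lc_f_rc_21_1) (@D3.rec (fun _ => (Cert rels S Gen.f)) lc_f_rc_19_5 lc_f_rc_17_3 lc_f_rc_17_3 lc_f_rc_22_1 lc_f_rc_20_1 lc_f_rc_14_3 lc_f_rc_17_1 lc_f_rc_17_1 lc_f_rc_21_1 lc_f_rc_14_3 lc_f_rc_14_3 lc_f_rc_20_1 lc_f_rc_5_3 lc_f_rc_10_3 lc_f_rc_10_1 lc_f_rc_17_3 lc_f_rc_21_1 lc_f_rc_19_3 lc_f_rc_20_1 lc_f_rc_20_1 lc_f_rc_10_3 lc_f_rc_20_1 lc_f_rc_19_3 lc_f_rc_14_3 lc_f_rc_17_3 lc_f_rc_20_1 lc_f_rc_5_1 lc_f_rc_5_3 lc_f_rc_10_3 lc_f_rc_17_3 lc_f_rc_5_3 lc_f_rc_10_1 lc_f_rc_17_3 lc_f_rc_22_1 lc_f_rc_20_1 lc_f_rc_14_1 lc_f_rc_20_1 lc_f_rc_10_3 lc_f_rc_10_3 lc_f_rc_19_5 lc_f_rc_20_1 lc_f_rc_19_3 lc_f_rc_5_3 lc_f_rc_17_1 lc_f_rc_5_3 lc_f_rc_17_3 lc_f_rc_14_3 lc_f_rc_19_3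 lc_f_rc_20_1 lc_f_rc_14_3 lc_f_rc_14_3 lc_f_rc_22_1 lc_f_rc_17_1 lc_f_rc_17_3 lc_f_rc_17_3 lc_f_rc_20_1 lc_f_rc_20_1 lc_f_rc_10_3 lc_f_rc_20_1 lc_f_rc_5_1 lc_f_rc_17_3 lc_f_rc_17_3) (@D3.rec (fun _ => (Cert rels S Gen.f)) lc_f_rc_14_3 lc_f_rc_17_1 lc_f_rc_10_1 lc_f_rc_22_1 lc_f_rc_10_1 lc_f_rc_17_3 lc_f_rc_20_1 lc_f_rc_21_1 lc_f_rc_14_3 lc_f_rc_17_3 lc_f_rc_20_1 lc_f_rc_5_1 lc_f_rc_14_3 lc_f_rc_22_1 lc_f_rc_19_5 lc_f_rc_19_1 lc_f_rc_20_1 lc_f_rc_21_1 lc_f_rc_17_1 lc_f_rc_20_1 lc_f_rc_5_3 lc_f_rc_17_3 lc_f_rc_17_3 lc_f_rc_17_3 lc_f_rc_21_1 lc_f_rc_14_3 lc_f_rc_21_1 lc_f_rc_10_3 lc_f_rc_17_1 lc_f_rc_14_3 lc_f_rc_17_3 lc_f_rc_5_3 lc_f_rc_14_3 lc_f_rc_10_3 lc_f_rc_20_1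 lc_f_rc_5_3 lc_f_rc_10_1 lc_f_rc_10_3 lc_f_rc_20_1 lc_f_rc_14_1 lc_f_rc_14_3 lc_f_rc_14_1 lc_f_rc_21_1 lc_f_rc_19_1 lc_f_rc_5_3 lc_f_rc_10_3 lc_f_rc_10_1 lc_f_rc_17_3 lc_f_rc_10_3 lc_f_rc_17_3 lc_f_rc_19_1 lc_f_rc_19_5 lc_f_rc_17_3 lc_f_rc_21_1 lc_f_rc_17_3 lc_f_rc_14_1 lc_f_rc_14_1 lc_f_rc_19_5 lc_f_rc_17_3 lc_f_rc_14_3 lc_f_rc_10_3 lc_f_rc_10_3) (@D3.rec (fun _ => (Cert rels S Gen.f)) lc_f_rc_17_1 lc_f_rc_10_3 lc_f_rc_20_1 lc_f_rc_20_1 lc_f_rc_17_1 lc_f_rc_22_1 lc_f_rc_17_1 lc_f_rc_5_3 lc_f_rc_14_3 lc_f_rc_10_3 lc_f_rc_14_3 lc_f_rc_19_3 lc_f_rc_17_1 lc_f_rc_17_3 lc_f_rc_21_1 lc_f_rc_17_1 lc_f_rc_14_1 lc_f_rc_20_1 lc_f_rc_21_1 lc_f_rc_20_1 lc_f_rc_14_1 lc_f_rc_22_1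 lc_f_rc_17_1 lc_f_rc_10_3 lc_f_rc_14_1 lc_f_rc_19_3 lc_f_rc_17_3 lc_f_rc_14_3 lc_f_rc_17_3 lc_f_rc_10_3 lc_f_rc_10_1 lc_f_rc_14_1 lc_f_rc_14_3 lc_f_rc_5_3 lc_f_rc_22_1 lc_f_rc_17_3 lc_f_rc_22_1 lc_f_rc_17_3 lc_f_rc_19_5 lc_f_rc_17_3 lc_f_rc_19_3 lc_f_rc_17_1 lc_f_rc_17_1 lc_f_rc_5_3 lc_f_rc_17_1 lc_f_rc_20_1 lc_f_rc_10_1 lc_f_rc_10_1 lc_f_rc_5_3 lc_f_rc_5_1 lc_f_rc_10_3 lc_f_rc_10_3 lc_f_rc_14_1 lc_f_rc_17_3 lc_f_rc_19_5 lc_f_rc_20_1 lc_f_rc_10_3 lc_f_rc_17_3 lc_f_rc_17_3 lc_f_rc_17_3 lc_f_rc_10_1 lc_f_rc_17_3) (@D3.rec (fun _ => (Cert rels S Gen.f)) lc_f_rc_19_5 lc_f_rc_10_3 lc_f_rc_22_1 lc_f_rc_20_1 lc_f_rc_10_1 lc_f_rc_20_1 lc_f_rc_20_1 lc_f_rc_14_3 lc_f_rc_10_1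 lc_f_rc_19_3 lc_f_rc_10_3 lc_f_rc_14_3 lc_f_rc_22_1 lc_f_rc_17_3 lc_f_rc_5_1 lc_f_rc_14_1 lc_f_rc_21_1 lc_f_rc_17_1 lc_f_rc_19_1 lc_f_rc_20_1 lc_f_rc_21_1 lc_f_Cert_tree lc_f_rc_20_1 lc_f_rc_5_1 lc_f_rc_17_1 lc_f_rc_14_1 lc_f_rc_20_1 lc_f_rc_17_3 lc_f_rc_14_3 lc_f_rc_21_1 lc_f_rc_17_3 lc_f_rc_17_1 lc_f_rc_14_1 lc_f_rc_19_1 lc_f_rc_5_1 lc_f_rc_20_1 lc_f_rc_10_1 lc_f_rc_21_1 lc_f_rc_20_1 lc_f_rc_20_1 lc_f_rc_17_1 lc_f_rc_17_3 lc_f_rc_19_3 lc_f_rc_19_1 lc_f_rc_10_3 lc_f_rc_10_3 lc_f_rc_10_3 lc_f_rc_17_3 lc_f_rc_17_3 lc_f_rc_5_3 lc_f_rc_14_3 lc_f_rc_17_1 lc_f_rc_17_1 lc_f_rc_10_3 lc_f_rc_10_3 lc_f_rc_17_3 lc_f_rc_14_3 lc_f_rc_10_1 lc_f_rc_17_3 lc_f_rc_10_3 lc_f_rc_17_3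 lc_f_rc_17_3) (@D3.rec (fun _ => (Cert rels S Gen.f)) lc_f_rc_17_3 lc_f_rc_20_1 lc_f_rc_20_1 lc_f_rc_21_1 lc_f_rc_14_3 lc_f_rc_5_1 lc_f_rc_20_1 lc_f_rc_17_3 lc_f_rc_14_3 lc_f_rc_17_3 lc_f_rc_5_1 lc_f_rc_17_3 lc_f_rc_5_1 lc_f_rc_14_1 lc_f_rc_14_3 lc_f_rc_20_1 lc_f_rc_17_3 lc_f_rc_10_3 lc_f_rc_14_1 lc_f_rc_21_1 lc_f_rc_5_3 lc_f_rc_10_3 lc_f_rc_21_1 lc_f_rc_5_3 lc_f_rc_10_1 lc_f_rc_20_1 lc_f_rc_10_3 lc_f_rc_21_1 lc_f_rc_10_1 lc_f_rc_17_3 lc_f_rc_20_1 lc_f_rc_20_1 lc_f_rc_10_3 lc_f_rc_20_1 lc_f_rc_20_1 lc_f_rc_19_5 lc_f_rc_14_3 lc_f_rc_10_3 lc_f_rc_21_1 lc_f_rc_17_3 lc_f_rc_14_3 lc_f_rc_21_1 lc_f_rc_20_1 lc_f_rc_17_3 lc_f_rc_17_3 lc_f_rc_20_1 lc_f_rc_17_1 lc_f_rc_14_3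 lc_f_rc_17_1 lc_f_rc_17_3 lc_f_rc_5_3 lc_f_rc_20_1 lc_f_rc_17_3 lc_f_rc_19_5 lc_f_rc_14_3 lc_f_rc_17_1 lc_f_rc_21_1 lc_f_rc_14_3 lc_f_rc_21_1 lc_f_rc_21_1 lc_f_rc_19_5 lc_f_rc_19_5) (@D3.rec (fun _ => (Cert rels S Gen.f)) lc_f_rc_14_3 lc_f_rc_10_3 lc_f_rc_21_1 lc_f_rc_14_3 lc_f_rc_10_1 lc_f_rc_17_1 lc_f_rc_17_1 lc_f_rc_10_3 lc_f_rc_10_3 lc_f_rc_22_1 lc_f_rc_22_1 lc_f_rc_14_3 lc_f_rc_14_3 lc_f_rc_17_3 lc_f_rc_10_3 lc_f_rc_14_1 lc_f_rc_17_3 lc_f_rc_5_3 lc_f_rc_19_5 lc_f_rc_10_3 lc_f_rc_10_3 lc_f_rc_22_1 lc_f_rc_10_3 lc_f_rc_5_1 lc_f_rc_14_3 lc_f_rc_10_3 lc_f_rc_17_3 lc_f_rc_10_1 lc_f_rc_14_1 lc_f_rc_17_3 lc_f_rc_10_1 lc_f_rc_17_3 lc_f_rc_14_1 lc_f_rc_10_3 lc_f_rc_10_3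 lc_f_rc_14_1 lc_f_rc_21_1 lc_f_rc_5_3 lc_f_rc_10_1 lc_f_rc_17_3 lc_f_rc_20_1 lc_f_rc_10_1 lc_f_rc_17_3 lc_f_rc_10_1 lc_f_rc_17_3 lc_f_rc_5_3 lc_f_rc_10_3 lc_f_rc_10_3 lc_f_rc_14_1 lc_f_rc_5_1 lc_f_rc_5_3 lc_f_rc_17_3 lc_f_rc_17_3 lc_f_rc_14_3 lc_f_rc_20_1 lc_f_rc_14_3 lc_f_rc_21_1 lc_f_rc_14_3 lc_f_rc_10_3 lc_f_rc_21_1 lc_f_rc_14_1 lc_f_rc_17_1) (@D3.rec (fun _ => (Cert rels S Gen.f)) lc_f_rc_14_3 lc_f_rc_17_3 lc_f_rc_19_5 lc_f_rc_20_1 lc_f_rc_21_1 lc_f_rc_20_1 lc_f_rc_19_3 lc_f_rc_10_1 lc_f_rc_19_5 lc_f_rc_5_1 lc_f_rc_22_1 lc_f_rc_10_3 lc_f_rc_19_5 lc_f_rc_19_5 lc_f_rc_10_1 lc_f_rc_19_5 lc_f_rc_19_5 lc_f_rc_10_3 lc_f_rc_14_3 lc_f_rc_17_3 lc_f_rc_14_3 lc_f_rc_17_3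 lc_f_rc_19_3 lc_f_rc_19_1 lc_f_Cert_tree lc_f_rc_20_1 lc_f_rc_17_3 lc_f_rc_21_1 lc_f_rc_19_3 lc_f_rc_21_1 lc_f_rc_22_1 lc_f_rc_5_3 lc_f_rc_22_1 lc_f_rc_5_3 lc_f_rc_17_1 lc_f_rc_19_5 lc_f_rc_22_1 lc_f_rc_19_3 lc_f_rc_14_1 lc_f_rc_14_3 lc_f_rc_5_3 lc_f_rc_10_3 lc_f_rc_17_3 lc_f_rc_17_1 lc_f_rc_10_3 lc_f_rc_10_1 lc_f_rc_14_3 lc_f_rc_17_3 lc_f_rc_14_3 lc_f_rc_20_1 lc_f_rc_21_1 lc_f_rc_21_1 lc_f_rc_17_3 lc_f_rc_21_1 lc_f_rc_5_3 lc_f_rc_20_1 lc_f_rc_20_1 lc_f_rc_20_1 lc_f_rc_17_1 lc_f_rc_21_1 lc_f_rc_17_1 lc_f_rc_21_1) (@D3.rec (fun _ => (Cert rels S Gen.f)) lc_f_rc_19_5 lc_f_rc_20_1 lc_f_rc_17_3 lc_f_rc_21_1 lc_f_rc_5_3 lc_f_rc_20_1 lc_f_rc_21_1 lc_f_rc_14_3 lc_f_rc_21_1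 lc_f_rc_10_3 lc_f_rc_20_1 lc_f_rc_14_3 lc_f_rc_19_3 lc_f_rc_20_1 lc_f_rc_5_3 lc_f_rc_14_3 lc_f_rc_14_1 lc_f_rc_17_3 lc_f_rc_17_1 lc_f_rc_14_1 lc_f_rc_17_1 lc_f_rc_14_3 lc_f_rc_17_1 lc_f_rc_20_1 lc_f_rc_20_1 lc_f_rc_17_3 lc_f_rc_5_3 lc_f_rc_21_1 lc_f_rc_20_1 lc_f_rc_20_1 lc_f_rc_19_3 lc_f_rc_10_1 lc_f_Cert_tree lc_f_rc_20_1 lc_f_rc_17_3 lc_f_rc_5_3 lc_f_rc_21_1 lc_f_rc_20_1 lc_f_rc_17_3 lc_f_rc_20_1 lc_f_rc_21_1 lc_f_rc_21_1 lc_f_rc_17_1 lc_f_rc_10_1 lc_f_rc_20_1 lc_f_rc_19_5 lc_f_rc_20_1 lc_f_rc_22_1 lc_f_rc_14_3 lc_f_rc_20_1 lc_f_rc_17_1 lc_f_rc_14_3 lc_f_rc_20_1 lc_f_rc_5_3 lc_f_rc_10_3 lc_f_rc_14_3 lc_f_rc_14_1 lc_f_rc_10_1 lc_f_rc_14_3 lc_f_rc_14_3 lc_f_rc_10_3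 lc_f_rc_20_1) (@D3.rec (fun _ => (Cert rels S Gen.f)) lc_f_rc_10_1 lc_f_rc_20_1 lc_f_rc_19_3 lc_f_rc_14_3 lc_f_rc_20_1 lc_f_rc_19_3 lc_f_rc_10_3 lc_f_rc_21_1 lc_f_rc_14_3 lc_f_rc_14_1 lc_f_rc_5_1 lc_f_rc_21_1 lc_f_rc_20_1 lc_f_rc_14_3 lc_f_rc_22_1 lc_f_rc_10_3 lc_f_rc_14_1 lc_f_rc_5_1 lc_f_rc_14_3 lc_f_rc_21_1 lc_f_rc_19_3 lc_f_rc_14_3 lc_f_rc_10_1 lc_f_rc_10_1 lc_f_rc_10_1 lc_f_rc_14_3 lc_f_rc_5_3 lc_f_rc_21_1 lc_f_rc_10_3 lc_f_rc_5_1 lc_f_rc_20_1 lc_f_rc_10_3 lc_f_rc_21_1 lc_f_rc_20_1 lc_f_rc_14_3 lc_f_rc_14_3 lc_f_rc_14_3 lc_f_rc_19_5 lc_f_rc_14_1 lc_f_rc_5_3 lc_f_rc_17_1 lc_f_rc_19_1 lc_f_rc_17_1 lc_f_rc_14_3 lc_f_rc_14_1 lc_f_rc_5_1 lc_f_rc_14_1 lc_f_rc_17_3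 lc_f_rc_17_3 lc_f_rc_10_3 lc_f_rc_21_1 lc_f_rc_14_1 lc_f_rc_20_1 lc_f_rc_10_1 lc_f_rc_20_1 lc_f_rc_14_3 lc_f_rc_14_3 lc_f_rc_17_3 lc_f_rc_21_1 lc_f_rc_5_3 lc_f_rc_17_3 lc_f_rc_20_1) (@D3.rec (fun _ => (Cert rels S Gen.f)) lc_f_rc_19_5 lc_f_rc_17_3 lc_f_rc_21_1 lc_f_rc_5_1 lc_f_rc_17_3 lc_f_rc_21_1 lc_f_rc_21_1 lc_f_rc_17_3 lc_f_rc_5_3 lc_f_rc_21_1 lc_f_rc_21_1 lc_f_rc_14_3 lc_f_rc_17_3 lc_f_rc_5_3 lc_f_rc_10_3 lc_f_rc_5_3 lc_f_rc_17_3 lc_f_Cert_tree lc_f_rc_17_3 lc_f_rc_5_3 lc_f_rc_10_3 lc_f_rc_10_3 lc_f_rc_5_1 lc_f_rc_17_3 lc_f_rc_19_3 lc_f_rc_14_1 lc_f_rc_17_3 lc_f_rc_22_1 lc_f_rc_14_1 lc_f_Cert_tree lc_f_rc_10_3 lc_f_Cert_tree lc_f_rc_17_1 lc_f_rc_20_1 lc_f_rc_14_1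 lc_f_rc_20_1 lc_f_rc_17_1 lc_f_rc_14_3 lc_f_rc_19_3 lc_f_rc_17_3 lc_f_rc_14_3 lc_f_rc_17_3 lc_f_rc_17_1 lc_f_rc_17_3 lc_f_rc_14_3 lc_f_rc_14_3 lc_f_rc_19_3 lc_f_rc_14_3 lc_f_rc_21_1 lc_f_rc_17_3 lc_f_rc_21_1 lc_f_rc_21_1 lc_f_rc_5_3 lc_f_rc_14_3 lc_f_rc_17_3 lc_f_rc_17_3 lc_f_rc_10_3 lc_f_rc_17_3 lc_f_rc_17_3 lc_f_rc_14_3 lc_f_rc_14_1 lc_f_rc_19_3) (@D3.rec (fun _ => (Cert rels S Gen.f)) lc_f_rc_10_1 lc_f_rc_22_1 lc_f_rc_14_3 lc_f_rc_19_3 lc_f_rc_17_3 lc_f_rc_19_5 lc_f_rc_14_3 lc_f_rc_10_3 lc_f_rc_17_1 lc_f_rc_10_1 lc_f_rc_14_3 lc_f_rc_17_3 lc_f_rc_21_1 lc_f_rc_19_3 lc_f_rc_17_3 lc_f_rc_17_3 lc_f_rc_5_1 lc_f_rc_10_3 lc_f_rc_20_1 lc_f_rc_5_3 lc_f_rc_14_3 lc_f_rc_19_3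 lc_f_rc_10_1 lc_f_rc_10_3 lc_f_rc_10_1 lc_f_rc_19_5 lc_f_rc_21_1 lc_f_rc_19_5 lc_f_rc_20_1 lc_f_rc_20_1 lc_f_rc_21_1 lc_f_rc_20_1 lc_f_rc_10_1 lc_f_rc_17_3 lc_f_rc_21_1 lc_f_rc_21_1 lc_f_rc_5_3 lc_f_rc_14_1 lc_f_rc_5_3 lc_f_Cert_tree lc_f_rc_20_1 lc_f_rc_19_3 lc_f_rc_10_1 lc_f_rc_19_5 lc_f_rc_21_1 lc_f_rc_20_1 lc_f_rc_20_1 lc_f_rc_17_1 lc_f_rc_19_5 lc_f_rc_17_3 lc_f_rc_17_3 lc_f_rc_19_1 lc_f_rc_19_5 lc_f_rc_17_3 lc_f_rc_20_1 lc_f_rc_17_3 lc_f_rc_21_1 lc_f_rc_10_3 lc_f_rc_20_1 lc_f_rc_17_3 lc_f_rc_19_3 lc_f_rc_17_3) (@D3.rec (fun _ => (Cert rels S Gen.f)) lc_f_rc_14_1 lc_f_rc_20_1 lc_f_rc_19_3 lc_f_rc_17_3 lc_f_rc_10_1 lc_f_rc_20_1 lc_f_rc_20_1 lc_f_rc_21_1 lc_f_rc_10_3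 lc_f_rc_20_1 lc_f_rc_21_1 lc_f_rc_14_1 lc_f_rc_10_1 lc_f_rc_14_1 lc_f_rc_17_3 lc_f_rc_19_3 lc_f_rc_5_3 lc_f_rc_14_3 lc_f_rc_17_3 lc_f_rc_5_1 lc_f_rc_17_3 lc_f_rc_10_3 lc_f_rc_10_3 lc_f_rc_17_3 lc_f_rc_10_3 lc_f_rc_5_3 lc_f_rc_10_3 lc_f_rc_5_1 lc_f_rc_17_1 lc_f_rc_19_3 lc_f_rc_20_1 lc_f_rc_21_1 lc_f_rc_20_1 lc_f_rc_20_1 lc_f_rc_17_3 lc_f_rc_5_1 lc_f_rc_17_3 lc_f_rc_20_1 lc_f_rc_19_3 lc_f_rc_10_1 lc_f_rc_22_1 lc_f_rc_14_1 lc_f_rc_5_1 lc_f_rc_14_3 lc_f_rc_20_1 lc_f_rc_10_3 lc_f_rc_14_3 lc_f_rc_10_3 lc_f_rc_17_3 lc_f_rc_20_1 lc_f_rc_14_3 lc_f_rc_19_5 lc_f_rc_20_1 lc_f_rc_5_3 lc_f_rc_21_1 lc_f_rc_14_1 lc_f_rc_10_3 lc_f_rc_21_1 lc_f_rc_20_1 lc_f_rc_14_3 lc_f_rc_19_3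 lc_f_rc_19_3) (@D3.rec (fun _ => (Cert rels S Gen.f)) lc_f_rc_14_1 lc_f_rc_20_1 lc_f_rc_19_3 lc_f_rc_20_1 lc_f_rc_5_3 lc_f_rc_14_1 lc_f_rc_10_1 lc_f_rc_20_1 lc_f_rc_5_3 lc_f_rc_14_3 lc_f_rc_14_3 lc_f_rc_20_1 lc_f_rc_21_1 lc_f_rc_5_1 lc_f_rc_20_1 lc_f_rc_19_3 lc_f_rc_20_1 lc_f_rc_10_3 lc_f_rc_10_3 lc_f_rc_17_3 lc_f_rc_10_3 lc_f_Cert_tree lc_f_rc_20_1 lc_f_rc_20_1 lc_f_rc_20_1 lc_f_rc_19_3 lc_f_rc_19_5 lc_f_rc_19_3 lc_f_rc_20_1 lc_f_rc_21_1 lc_f_rc_19_3 lc_f_rc_17_3 lc_f_rc_10_1 lc_f_rc_22_1 lc_f_rc_20_1 lc_f_rc_22_1 lc_f_rc_19_3 lc_f_rc_14_3 lc_f_rc_17_1 lc_f_rc_5_1 lc_f_rc_10_1 lc_f_rc_20_1 lc_f_rc_21_1 lc_f_rc_20_1 lc_f_rc_17_1 lc_f_rc_10_3 lc_f_rc_17_3 lc_f_rc_14_1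 lc_f_rc_22_1 lc_f_rc_14_3 lc_f_rc_19_1 lc_f_rc_19_5 lc_f_rc_14_3 lc_f_rc_14_3 lc_f_rc_10_3 lc_f_rc_17_3 lc_f_rc_5_1 lc_f_rc_5_3 lc_f_rc_10_3 lc_f_rc_21_1 lc_f_rc_14_3 lc_f_rc_17_3) (@D3.rec (fun _ => (Cert rels S Gen.f)) lc_f_rc_5_3 lc_f_rc_21_1 lc_f_rc_14_1 lc_f_rc_10_3 lc_f_rc_20_1 lc_f_rc_20_1 lc_f_rc_14_3 lc_f_rc_21_1 lc_f_rc_19_3 lc_f_rc_22_1 lc_f_rc_17_3 lc_f_rc_19_3 lc_f_rc_20_1 lc_f_rc_17_3 lc_f_rc_10_3 lc_f_rc_17_3 lc_f_rc_14_3 lc_f_rc_10_3 lc_f_rc_20_1 lc_f_rc_10_3 lc_f_rc_17_3 lc_f_rc_22_1 lc_f_rc_10_3 lc_f_rc_20_1 lc_f_rc_19_3 lc_f_rc_17_3 lc_f_rc_10_1 lc_f_rc_17_3 lc_f_rc_14_3 lc_f_rc_10_3 lc_f_rc_17_1 lc_f_rc_14_3 lc_f_rc_14_3 lc_f_rc_14_3 lc_f_rc_17_1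 lc_f_rc_10_3 lc_f_Cert_tree lc_f_rc_17_3 lc_f_rc_20_1 lc_f_rc_10_3 lc_f_rc_5_3 lc_f_rc_5_3 lc_f_rc_17_3 lc_f_rc_17_3 lc_f_rc_21_1 lc_f_rc_10_3 lc_f_rc_10_1 lc_f_rc_19_5 lc_f_rc_17_1 lc_f_rc_20_1 lc_f_rc_14_3 lc_f_rc_19_5 lc_f_rc_5_3 lc_f_rc_20_1 lc_f_rc_10_1 lc_f_rc_17_3 lc_f_rc_10_1 lc_f_rc_14_3 lc_f_rc_14_3 lc_f_rc_19_5 lc_f_rc_14_3 lc_f_rc_14_3) (@D3.rec (fun _ => (Cert rels S Gen.f)) lc_f_rc_22_1 lc_f_rc_14_3 lc_f_rc_17_3 lc_f_rc_14_3 lc_f_rc_14_3 lc_f_rc_17_3 lc_f_rc_10_3 lc_f_rc_21_1 lc_f_rc_20_1 lc_f_rc_21_1 lc_f_rc_14_3 lc_f_rc_10_1 lc_f_rc_10_1 lc_f_rc_17_3 lc_f_rc_21_1 lc_f_Cert_tree lc_f_rc_21_1 lc_f_rc_14_1 lc_f_rc_17_1 lc_f_rc_20_1 lc_f_rc_19_3 lc_f_rc_17_3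 lc_f_rc_14_1 lc_f_rc_19_1 lc_f_rc_20_1 lc_f_rc_19_3 lc_f_rc_10_1 lc_f_rc_17_1 lc_f_rc_5_1 lc_f_rc_17_3 lc_f_rc_21_1 lc_f_rc_10_1 lc_f_rc_17_1 lc_f_rc_17_3 lc_f_rc_19_3 lc_f_rc_22_1 lc_f_rc_20_1 lc_f_rc_10_1 lc_f_rc_21_1 lc_f_rc_5_3 lc_f_rc_5_3 lc_f_rc_19_5 lc_f_rc_20_1 lc_f_rc_20_1 lc_f_rc_14_3 lc_f_Cert_tree lc_f_rc_20_1 lc_f_rc_19_3 lc_f_rc_5_1 lc_f_rc_17_1 lc_f_rc_21_1 lc_f_rc_14_1 lc_f_rc_17_1 lc_f_rc_14_3 lc_f_rc_14_3 lc_f_rc_17_3 lc_f_rc_5_1 lc_f_rc_14_1 lc_f_rc_14_3 lc_f_rc_21_1 lc_f_rc_17_1 lc_f_rc_19_1) (@D3.rec (fun _ => (Cert rels S Gen.f)) lc_f_rc_10_1 lc_f_rc_20_1 lc_f_rc_10_3 lc_f_rc_5_3 lc_f_rc_10_1 lc_f_rc_20_1 lc_f_rc_21_1 lc_f_rc_21_1 lc_f_rc_17_1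 lc_f_rc_19_5 lc_f_rc_10_3 lc_f_rc_20_1 lc_f_rc_17_1 lc_f_rc_10_1 lc_f_rc_5_3 lc_f_rc_10_3 lc_f_rc_21_1 lc_f_rc_10_3 lc_f_rc_20_1 lc_f_rc_10_1 lc_f_rc_5_3 lc_f_rc_14_3 lc_f_rc_21_1 lc_f_rc_10_3 lc_f_rc_20_1 lc_f_rc_17_1 lc_f_rc_10_1 lc_f_rc_10_3 lc_f_rc_20_1 lc_f_rc_10_1 lc_f_rc_22_1 lc_f_rc_17_1 lc_f_rc_17_3 lc_f_rc_17_3 lc_f_rc_17_1 lc_f_rc_20_1 lc_f_rc_5_1 lc_f_rc_17_3 lc_f_rc_10_1 lc_f_rc_10_3 lc_f_rc_17_1 lc_f_rc_21_1 lc_f_rc_19_3 lc_f_rc_14_3 lc_f_rc_17_3 lc_f_rc_14_3 lc_f_rc_10_3 lc_f_rc_14_3 lc_f_rc_17_3 lc_f_rc_5_1 lc_f_rc_20_1 lc_f_Cert_tree lc_f_rc_17_3 lc_f_rc_20_1 lc_f_rc_17_3 lc_f_rc_22_1 lc_f_rc_17_3 lc_f_rc_17_3 lc_f_rc_10_3 lc_f_rc_17_3 lc_f_rc_5_3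 lc_f_rc_19_3) (@D3.rec (fun _ => (Cert rels S Gen.f)) lc_f_rc_10_1 lc_f_rc_14_3 lc_f_rc_20_1 lc_f_rc_19_3 lc_f_rc_17_3 lc_f_rc_14_3 lc_f_rc_10_1 lc_f_rc_10_1 lc_f_rc_14_1 lc_f_rc_17_3 lc_f_rc_20_1 lc_f_rc_14_3 lc_f_rc_21_1 lc_f_rc_14_1 lc_f_rc_21_1 lc_f_rc_20_1 lc_f_rc_5_3 lc_f_rc_10_3 lc_f_rc_19_5 lc_f_rc_17_3 lc_f_rc_14_3 lc_f_rc_19_1 lc_f_rc_20_1 lc_f_rc_10_3 lc_f_rc_20_1 lc_f_rc_14_1 lc_f_rc_19_1 lc_f_rc_20_1 lc_f_rc_10_3 lc_f_rc_22_1 lc_f_rc_14_3 lc_f_rc_19_1 lc_f_rc_10_1 lc_f_rc_10_1 lc_f_rc_14_1 lc_f_rc_5_1 lc_f_rc_20_1 lc_f_rc_20_1 lc_f_rc_14_3 lc_f_rc_14_1 lc_f_rc_17_3 lc_f_rc_21_1 lc_f_rc_10_3 lc_f_rc_10_3 lc_f_rc_21_1 lc_f_rc_10_1 lc_f_rc_17_3 lc_f_rc_17_3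 lc_f_rc_10_3 lc_f_rc_14_1 lc_f_rc_19_5 lc_f_rc_17_1 lc_f_rc_21_1 lc_f_rc_21_1 lc_f_rc_20_1 lc_f_rc_14_1 lc_f_rc_17_1 lc_f_rc_10_3 lc_f_rc_21_1 lc_f_rc_14_3 lc_f_rc_17_3 lc_f_rc_20_1) (@D3.rec (fun _ => (Cert rels S Gen.f)) lc_f_rc_10_3 lc_f_rc_17_3 lc_f_rc_5_3 lc_f_rc_17_1 lc_f_rc_21_1 lc_f_rc_20_1 lc_f_rc_5_3 lc_f_rc_10_3 lc_f_rc_17_3 lc_f_rc_19_5 lc_f_rc_17_3 lc_f_rc_19_5 lc_f_rc_10_3 lc_f_rc_14_3 lc_f_rc_17_3 lc_f_rc_21_1 lc_f_rc_17_3 lc_f_rc_19_5 lc_f_rc_17_3 lc_f_rc_21_1 lc_f_rc_14_3 lc_f_rc_19_3 lc_f_rc_10_3 lc_f_rc_10_3 lc_f_rc_14_1 lc_f_rc_10_3 lc_f_rc_14_1 lc_f_rc_21_1 lc_f_rc_17_3 lc_f_rc_20_1 lc_f_rc_17_3 lc_f_rc_21_1 lc_f_rc_17_1 lc_f_rc_20_1 lc_f_rc_21_1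 lc_f_rc_5_1 lc_f_rc_19_5 lc_f_rc_19_3 lc_f_rc_5_3 lc_f_rc_5_1 lc_f_rc_17_3 lc_f_rc_14_3 lc_f_rc_10_3 lc_f_rc_14_3 lc_f_rc_14_1 lc_f_rc_21_1 lc_f_rc_21_1 lc_f_rc_5_1 lc_f_rc_14_3 lc_f_rc_14_3 lc_f_rc_19_3 lc_f_rc_21_1 lc_f_rc_17_1 lc_f_rc_20_1 lc_f_rc_19_3 lc_f_rc_10_3 lc_f_rc_17_3 lc_f_rc_20_1 lc_f_rc_14_3 lc_f_rc_14_1 lc_f_rc_14_3 lc_f_rc_17_1) (@D3.rec (fun _ => (Cert rels S Gen.f)) lc_f_rc_20_1 lc_f_rc_21_1 lc_f_rc_17_1 lc_f_rc_20_1 lc_f_rc_19_3 lc_f_rc_14_1 lc_f_rc_10_3 lc_f_rc_10_3 lc_f_rc_10_1 lc_f_rc_20_1 lc_f_rc_10_1 lc_f_rc_5_1 lc_f_rc_14_1 lc_f_Cert_tree lc_f_rc_20_1 lc_f_rc_21_1 lc_f_rc_10_1 lc_f_Cert_tree lc_f_rc_21_1 lc_f_rc_20_1 lc_f_rc_14_1 lc_f_rc_14_3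 lc_f_rc_17_1 lc_f_rc_17_3 lc_f_rc_17_3 lc_f_rc_19_3 lc_f_rc_10_1 lc_f_rc_14_3 lc_f_rc_17_3 lc_f_rc_10_1 lc_f_rc_14_1 lc_f_rc_19_3 lc_f_rc_20_1 lc_f_rc_5_3 lc_f_rc_10_3 lc_f_rc_17_3 lc_f_rc_20_1 lc_f_rc_14_3 lc_f_rc_14_1 lc_f_rc_17_3 lc_f_rc_17_3 lc_f_rc_14_3 lc_f_rc_22_1 lc_f_rc_19_3 lc_f_rc_19_1 lc_f_rc_20_1 lc_f_rc_10_1 lc_f_rc_19_3 lc_f_rc_17_3 lc_f_rc_14_3 lc_f_rc_19_5 lc_f_rc_5_3 lc_f_rc_20_1 lc_f_rc_17_1 lc_f_rc_10_3 lc_f_rc_10_1 lc_f_rc_14_1 lc_f_rc_17_3 lc_f_rc_21_1 lc_f_rc_19_1 lc_f_rc_19_5 lc_f_rc_20_1) (@D3.rec (fun _ => (Cert rels S Gen.f)) lc_f_rc_10_3 lc_f_rc_14_3 lc_f_rc_14_3 lc_f_rc_5_1 lc_f_rc_14_3 lc_f_rc_20_1 lc_f_rc_14_3 lc_f_rc_17_3 lc_f_rc_17_3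 lc_f_rc_17_3 lc_f_rc_21_1 lc_f_rc_10_1 lc_f_rc_21_1 lc_f_rc_10_3 lc_f_rc_19_5 lc_f_rc_5_1 lc_f_rc_20_1 lc_f_rc_10_3 lc_f_rc_21_1 lc_f_rc_20_1 lc_f_rc_14_1 lc_f_rc_10_3 lc_f_rc_19_3 lc_f_rc_14_3 lc_f_rc_5_3 lc_f_rc_17_3 lc_f_rc_14_3 lc_f_rc_5_3 lc_f_rc_20_1 lc_f_rc_14_3 lc_f_rc_5_1 lc_f_rc_5_3 lc_f_rc_21_1 lc_f_rc_22_1 lc_f_rc_19_5 lc_f_rc_10_1 lc_f_rc_21_1 lc_f_rc_20_1 lc_f_rc_5_3 lc_f_rc_10_3 lc_f_rc_21_1 lc_f_rc_5_1 lc_f_rc_20_1 lc_f_rc_10_1 lc_f_rc_14_3 lc_f_rc_5_3 lc_f_rc_10_3 lc_f_rc_10_3 lc_f_rc_10_3 lc_f_rc_14_3 lc_f_rc_17_3 lc_f_rc_17_3 lc_f_rc_17_3 lc_f_rc_10_3 lc_f_rc_17_3 lc_f_rc_19_5 lc_f_rc_20_1 lc_f_rc_14_1 lc_f_rc_17_3 lc_f_rc_14_3 lc_f_rc_14_3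 lc_f_rc_14_1) (@D3.rec (fun _ => (Cert rels S Gen.f)) lc_f_rc_14_3 lc_f_rc_22_1 lc_f_rc_17_1 lc_f_rc_10_3 lc_f_rc_17_1 lc_f_rc_14_3 lc_f_rc_17_3 lc_f_rc_19_5 lc_f_rc_14_3 lc_f_rc_14_3 lc_f_rc_10_3 lc_f_rc_19_3 lc_f_rc_14_3 lc_f_rc_10_3 lc_f_rc_10_3 lc_f_rc_17_3 lc_f_rc_21_1 lc_f_rc_14_3 lc_f_rc_14_1 lc_f_rc_20_1 lc_f_rc_17_3 lc_f_rc_22_1 lc_f_rc_14_3 lc_f_rc_14_1 lc_f_rc_21_1 lc_f_rc_20_1 lc_f_Cert_tree lc_f_rc_10_3 lc_f_rc_21_1 lc_f_rc_14_3 lc_f_rc_10_1 lc_f_rc_19_5 lc_f_rc_17_3 lc_f_rc_21_1 lc_f_rc_14_3 lc_f_rc_14_3 lc_f_rc_21_1 lc_f_rc_20_1 lc_f_rc_10_3 lc_f_rc_20_1 lc_f_rc_20_1 lc_f_rc_10_1 lc_f_rc_19_3 lc_f_rc_14_3 lc_f_rc_17_3 lc_f_rc_14_3 lc_f_rc_19_5 lc_f_rc_20_1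 lc_f_rc_10_3 lc_f_rc_10_3 lc_f_rc_5_3 lc_f_rc_20_1 lc_f_rc_10_1 lc_f_rc_17_1 lc_f_rc_14_3 lc_f_rc_14_1 lc_f_rc_17_3 lc_f_rc_21_1 lc_f_rc_14_3 lc_f_rc_14_1 lc_f_rc_17_3 lc_f_rc_19_5) (@D3.rec (fun _ => (Cert rels S Gen.f)) lc_f_rc_21_1 lc_f_rc_20_1 lc_f_rc_20_1 lc_f_rc_21_1 lc_f_rc_20_1 lc_f_rc_14_3 lc_f_rc_20_1 lc_f_rc_17_3 lc_f_rc_10_3 lc_f_rc_10_3 lc_f_rc_20_1 lc_f_rc_14_1 lc_f_rc_20_1 lc_f_rc_20_1 lc_f_rc_10_3 lc_f_rc_19_3 lc_f_rc_10_3 lc_f_rc_20_1 lc_f_rc_14_1 lc_f_rc_20_1 lc_f_rc_21_1 lc_f_rc_20_1 lc_f_rc_10_3 lc_f_rc_17_1 lc_f_rc_14_3 lc_f_rc_14_3 lc_f_rc_10_3 lc_f_rc_5_3 lc_f_rc_17_3 lc_f_rc_17_3 lc_f_rc_20_1 lc_f_rc_5_3 lc_f_rc_17_3 lc_f_rc_17_3 lc_f_rc_5_1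 lc_f_rc_5_1 lc_f_rc_19_5 lc_f_rc_5_3 lc_f_rc_14_3 lc_f_rc_14_3 lc_f_rc_21_1 lc_f_rc_14_3 lc_f_rc_19_5 lc_f_rc_21_1 lc_f_rc_17_1 lc_f_rc_17_3 lc_f_rc_20_1 lc_f_rc_10_3 lc_f_rc_21_1 lc_f_rc_22_1 lc_f_rc_21_1 lc_f_rc_19_5 lc_f_rc_21_1 lc_f_rc_21_1 lc_f_rc_21_1 lc_f_rc_21_1 lc_f_rc_20_1 lc_f_rc_19_3 lc_f_rc_14_3 lc_f_rc_20_1 lc_f_rc_10_3 lc_f_rc_14_3) (@D3.rec (fun _ => (Cert rels S Gen.f)) lc_f_rc_14_1 lc_f_rc_14_3 lc_f_rc_17_3 lc_f_rc_17_3 lc_f_rc_14_3 lc_f_rc_21_1 lc_f_rc_21_1 lc_f_rc_5_1 lc_f_rc_10_3 lc_f_rc_19_5 lc_f_rc_14_1 lc_f_rc_10_3 lc_f_rc_14_3 lc_f_rc_20_1 lc_f_rc_19_3 lc_f_rc_14_3 lc_f_rc_14_3 lc_f_rc_19_3 lc_f_rc_14_3 lc_f_rc_20_1 lc_f_rc_17_3 lc_f_rc_14_3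 lc_f_rc_5_1 lc_f_rc_14_3 lc_f_rc_14_3 lc_f_rc_5_3 lc_f_rc_20_1 lc_f_rc_21_1 lc_f_Cert_tree lc_f_rc_20_1 lc_f_rc_22_1 lc_f_rc_20_1 lc_f_rc_17_3 lc_f_rc_10_3 lc_f_rc_21_1 lc_f_rc_14_3 lc_f_rc_19_5 lc_f_rc_20_1 lc_f_rc_14_3 lc_f_rc_19_3 lc_f_rc_10_3 lc_f_rc_17_1 lc_f_rc_5_3 lc_f_rc_5_1 lc_f_rc_14_1 lc_f_rc_21_1 lc_f_rc_21_1 lc_f_rc_5_3 lc_f_rc_14_3 lc_f_rc_14_3 lc_f_rc_17_3 lc_f_rc_5_3 lc_f_rc_21_1 lc_f_rc_14_1 lc_f_rc_14_3 lc_f_rc_22_1 lc_f_rc_20_1 lc_f_rc_21_1 lc_f_rc_17_1 lc_f_rc_10_3 lc_f_rc_19_3 lc_f_rc_17_1) (@D3.rec (fun _ => (Cert rels S Gen.f)) lc_f_rc_21_1 lc_f_rc_14_3 lc_f_rc_14_3 lc_f_rc_21_1 lc_f_rc_14_3 lc_f_rc_17_3 lc_f_rc_21_1 lc_f_rc_14_3 lc_f_rc_10_1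 lc_f_rc_5_3 lc_f_rc_5_1 lc_f_rc_21_1 lc_f_rc_20_1 lc_f_rc_14_3 lc_f_rc_10_1 lc_f_rc_21_1 lc_f_rc_10_3 lc_f_rc_17_1 lc_f_rc_19_3 lc_f_rc_10_1 lc_f_rc_14_1 lc_f_rc_10_3 lc_f_rc_10_3 lc_f_rc_19_5 lc_f_rc_10_3 lc_f_rc_20_1 lc_f_rc_10_3 lc_f_rc_10_1 lc_f_rc_14_3 lc_f_rc_21_1 lc_f_rc_20_1 lc_f_rc_17_1 lc_f_rc_21_1 lc_f_rc_20_1 lc_f_rc_21_1 lc_f_rc_5_1 lc_f_rc_17_3 lc_f_rc_14_1 lc_f_rc_5_3 lc_f_rc_10_1 lc_f_rc_17_3 lc_f_rc_19_1 lc_f_rc_10_1 lc_f_rc_17_3 lc_f_rc_14_1 lc_f_Cert_tree lc_f_rc_20_1 lc_f_rc_19_5 lc_f_rc_17_1 lc_f_rc_20_1 lc_f_rc_17_3 lc_f_rc_10_3 lc_f_rc_17_3 lc_f_rc_20_1 lc_f_rc_14_3 lc_f_rc_20_1 lc_f_rc_17_3 lc_f_rc_19_5 lc_f_rc_17_1 lc_f_rc_10_3 lc_f_rc_10_3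 lc_f_rc_14_1) (@D3.rec (fun _ => (Cert rels S Gen.f)) lc_f_rc_14_3 lc_f_rc_21_1 lc_f_rc_10_3 lc_f_rc_5_1 lc_f_rc_14_1 lc_f_rc_21_1 lc_f_rc_5_3 lc_f_rc_5_1 lc_f_rc_19_1 lc_f_rc_10_1 lc_f_rc_10_3 lc_f_rc_10_1 lc_f_rc_14_1 lc_f_rc_14_3 lc_f_rc_17_1 lc_f_rc_20_1 lc_f_rc_17_3 lc_f_rc_17_3 lc_f_rc_10_3 lc_f_rc_5_3 lc_f_rc_14_3 lc_f_rc_17_3 lc_f_rc_14_1 lc_f_rc_17_1 lc_f_rc_17_3 lc_f_rc_5_1 lc_f_rc_19_5 lc_f_rc_14_1 lc_f_rc_5_3 lc_f_rc_10_3 lc_f_rc_14_1 lc_f_rc_19_3 lc_f_rc_19_3 lc_f_rc_14_1 lc_f_rc_14_3 lc_f_rc_17_1 lc_f_rc_5_3 lc_f_rc_19_3 lc_f_rc_19_1 lc_f_rc_22_1 lc_f_rc_19_5 lc_f_rc_20_1 lc_f_rc_17_3 lc_f_rc_14_1 lc_f_rc_20_1 lc_f_rc_10_1 lc_f_rc_17_3 lc_f_rc_22_1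 lc_f_rc_20_1 lc_f_rc_17_1 lc_f_rc_17_3 lc_f_rc_21_1 lc_f_rc_10_1 lc_f_rc_21_1 lc_f_rc_21_1 lc_f_rc_19_5 lc_f_rc_22_1 lc_f_rc_21_1 lc_f_rc_14_1 lc_f_rc_21_1 lc_f_rc_14_3 lc_f_rc_10_3) (@D3.rec (fun _ => (Cert rels S Gen.f)) lc_f_rc_10_3 lc_f_rc_14_3 lc_f_rc_22_1 lc_f_rc_10_3 lc_f_rc_17_3 lc_f_rc_17_3 lc_f_rc_5_1 lc_f_rc_5_1 lc_f_rc_14_3 lc_f_rc_21_1 lc_f_rc_5_3 lc_f_rc_14_1 lc_f_rc_19_3 lc_f_rc_5_3 lc_f_rc_14_3 lc_f_rc_20_1 lc_f_rc_22_1 lc_f_rc_14_1 lc_f_rc_22_1 lc_f_rc_17_3 lc_f_rc_17_3 lc_f_rc_21_1 lc_f_rc_14_3 lc_f_rc_17_1 lc_f_rc_19_5 lc_f_rc_17_3 lc_f_rc_10_3 lc_f_rc_10_1 lc_f_rc_21_1 lc_f_rc_14_3 lc_f_rc_21_1 lc_f_rc_10_1 lc_f_rc_19_1 lc_f_rc_20_1 lc_f_rc_14_3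 lc_f_rc_17_3 lc_f_rc_10_3 lc_f_rc_17_1 lc_f_rc_20_1 lc_f_rc_17_1 lc_f_rc_10_1 lc_f_rc_17_1 lc_f_rc_14_1 lc_f_rc_14_3 lc_f_rc_19_5 lc_f_rc_17_3 lc_f_rc_14_1 lc_f_rc_17_3 lc_f_rc_21_1 lc_f_rc_5_1 lc_f_rc_19_3 lc_f_rc_14_3 lc_f_rc_20_1 lc_f_rc_21_1 lc_f_rc_10_3 lc_f_rc_5_3 lc_f_rc_21_1 lc_f_rc_21_1 lc_f_rc_10_1 lc_f_rc_5_1 lc_f_rc_20_1 lc_f_rc_17_3) (@D3.rec (fun _ => (Cert rels S Gen.f)) lc_f_rc_14_3 lc_f_rc_19_3 lc_f_rc_17_3 lc_f_rc_20_1 lc_f_rc_17_3 lc_f_rc_10_3 lc_f_rc_17_3 lc_f_rc_21_1 lc_f_rc_10_3 lc_f_rc_17_3 lc_f_rc_10_1 lc_f_rc_5_1 lc_f_rc_14_3 lc_f_rc_14_3 lc_f_rc_20_1 lc_f_rc_14_1 lc_f_rc_14_3 lc_f_rc_20_1 lc_f_rc_5_3 lc_f_rc_20_1 lc_f_rc_21_1 lc_f_rc_20_1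 lc_f_rc_10_3 lc_f_rc_17_3 lc_f_rc_21_1 lc_f_rc_14_3 lc_f_rc_14_3 lc_f_rc_19_5 lc_f_rc_20_1 lc_f_rc_14_3 lc_f_rc_5_1 lc_f_rc_14_3 lc_f_rc_14_3 lc_f_rc_14_1 lc_f_rc_17_1 lc_f_rc_21_1 lc_f_rc_20_1 lc_f_rc_17_3 lc_f_rc_10_1 lc_f_rc_14_3 lc_f_rc_19_5 lc_f_rc_20_1 lc_f_rc_10_1 lc_f_rc_20_1 lc_f_rc_10_3 lc_f_rc_10_1 lc_f_rc_17_1 lc_f_rc_14_3 lc_f_rc_10_3 lc_f_rc_10_1 lc_f_rc_20_1 lc_f_rc_20_1 lc_f_rc_14_3 lc_f_rc_10_1 lc_f_rc_19_5 lc_f_rc_14_3 lc_f_rc_14_1 lc_f_rc_20_1 lc_f_rc_14_3 lc_f_rc_5_1 lc_f_rc_10_3 lc_f_rc_10_1) (@D3.rec (fun _ => (Cert rels S Gen.f)) lc_f_rc_10_3 lc_f_rc_19_3 lc_f_rc_14_3 lc_f_rc_21_1 lc_f_rc_5_3 lc_f_rc_17_3 lc_f_rc_20_1 lc_f_rc_17_3 lc_f_rc_14_3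 lc_f_rc_21_1 lc_f_rc_14_3 lc_f_rc_20_1 lc_f_rc_10_3 lc_f_rc_19_5 lc_f_rc_19_1 lc_f_rc_22_1 lc_f_rc_17_3 lc_f_rc_21_1 lc_f_rc_14_1 lc_f_rc_20_1 lc_f_rc_21_1 lc_f_rc_21_1 lc_f_rc_14_3 lc_f_rc_21_1 lc_f_rc_17_1 lc_f_rc_14_3 lc_f_rc_14_3 lc_f_rc_14_3 lc_f_rc_17_3 lc_f_rc_17_3 lc_f_rc_10_3 lc_f_rc_17_1 lc_f_rc_10_3 lc_f_rc_14_1 lc_f_rc_22_1 lc_f_rc_5_3 lc_f_rc_17_3 lc_f_rc_10_3 lc_f_rc_19_3 lc_f_rc_14_1 lc_f_rc_14_3 lc_f_rc_10_3 lc_f_rc_17_3 lc_f_rc_17_3 lc_f_rc_5_1 lc_f_rc_20_1 lc_f_rc_19_3 lc_f_rc_20_1 lc_f_rc_14_1 lc_f_rc_10_1 lc_f_rc_14_1 lc_f_rc_10_3 lc_f_rc_19_3 lc_f_rc_14_3 lc_f_rc_19_3 lc_f_rc_5_1 lc_f_rc_14_3 lc_f_rc_20_1 lc_f_rc_5_3 lc_f_rc_21_1 lc_f_rc_21_1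 lc_f_rc_20_1) (@D3.rec (fun _ => (Cert rels S Gen.f)) lc_f_rc_10_3 lc_f_rc_19_3 lc_f_rc_10_3 lc_f_rc_22_1 lc_f_rc_22_1 lc_f_rc_19_3 lc_f_rc_17_3 lc_f_rc_10_3 lc_f_rc_20_1 lc_f_rc_20_1 lc_f_rc_17_1 lc_f_rc_17_3 lc_f_rc_14_3 lc_f_rc_10_1 lc_f_rc_10_3 lc_f_rc_10_3 lc_f_rc_21_1 lc_f_rc_10_1 lc_f_rc_22_1 lc_f_rc_10_3 lc_f_rc_14_3 lc_f_rc_10_3 lc_f_rc_19_3 lc_f_rc_20_1 lc_f_rc_10_1 lc_f_rc_19_3 lc_f_rc_20_1 lc_f_rc_21_1 lc_f_rc_14_3 lc_f_rc_21_1 lc_f_rc_14_3 lc_f_rc_14_3 lc_f_rc_14_1 lc_f_rc_14_1 lc_f_rc_10_3 lc_f_rc_19_1 lc_f_rc_21_1 lc_f_rc_14_3 lc_f_rc_17_1 lc_f_rc_20_1 lc_f_rc_20_1 lc_f_rc_19_3 lc_f_rc_10_3 lc_f_rc_10_1 lc_f_rc_21_1 lc_f_Cert_tree lc_f_rc_20_1 lc_f_rc_14_3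 lc_f_rc_5_3 lc_f_rc_17_3 lc_f_rc_14_3 lc_f_rc_10_3 lc_f_Cert_tree lc_f_rc_20_1 lc_f_rc_10_3 lc_f_rc_17_3 lc_f_rc_14_1 lc_f_rc_17_1 lc_f_rc_20_1 lc_f_rc_19_3 lc_f_rc_19_5 lc_f_rc_17_3) (@D3.rec (fun _ => (Cert rels S Gen.f)) lc_f_rc_14_3 lc_f_rc_14_1 lc_f_rc_10_3 lc_f_rc_20_1 lc_f_rc_21_1 lc_f_rc_19_5 lc_f_rc_19_3 lc_f_rc_21_1 lc_f_rc_10_3 lc_f_rc_5_3 lc_f_rc_20_1 lc_f_rc_10_3 lc_f_rc_19_5 lc_f_rc_14_1 lc_f_rc_14_3 lc_f_rc_19_5 lc_f_rc_21_1 lc_f_rc_20_1 lc_f_rc_20_1 lc_f_rc_20_1 lc_f_rc_10_1 lc_f_rc_10_3 lc_f_rc_10_1 lc_f_rc_14_1 lc_f_rc_20_1 lc_f_rc_19_5 lc_f_rc_14_3 lc_f_rc_20_1 lc_f_rc_14_1 lc_f_rc_14_3 lc_f_rc_20_1 lc_f_rc_22_1 lc_f_rc_14_3 lc_f_rc_21_1 lc_f_rc_22_1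 lc_f_rc_17_3 lc_f_rc_17_3 lc_f_rc_14_1 lc_f_rc_17_3 lc_f_rc_10_3 lc_f_rc_22_1 lc_f_rc_17_3 lc_f_rc_17_3 lc_f_rc_14_3 lc_f_rc_21_1 lc_f_rc_14_3 lc_f_rc_14_3 lc_f_rc_21_1 lc_f_rc_20_1 lc_f_rc_5_3 lc_f_rc_19_3 lc_f_rc_10_3 lc_f_rc_14_1 lc_f_rc_20_1 lc_f_rc_10_3 lc_f_rc_14_3 lc_f_rc_5_1 lc_f_rc_17_1 lc_f_rc_5_3 lc_f_rc_17_3 lc_f_rc_14_1 lc_f_rc_17_3) (@D3.rec (fun _ => (Cert rels S Gen.f)) lc_f_rc_14_3 lc_f_rc_14_3 lc_f_rc_14_3 lc_f_rc_20_1 lc_f_rc_10_3 lc_f_rc_21_1 lc_f_rc_20_1 lc_f_rc_14_3 lc_f_rc_10_1 lc_f_rc_10_3 lc_f_rc_5_1 lc_f_rc_22_1 lc_f_rc_21_1 lc_f_rc_10_1 lc_f_rc_10_3 lc_f_rc_14_3 lc_f_rc_20_1 lc_f_rc_14_3 lc_f_rc_17_3 lc_f_rc_14_3 lc_f_rc_14_3 lc_f_rc_14_3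 lc_f_rc_10_1 lc_f_rc_20_1 lc_f_rc_19_3 lc_f_rc_5_1 lc_f_rc_10_1 lc_f_rc_10_3 lc_f_rc_17_3 lc_f_rc_14_3 lc_f_rc_10_3 lc_f_rc_5_3 lc_f_rc_5_3 lc_f_rc_10_1 lc_f_rc_10_1 lc_f_rc_19_1 lc_f_rc_21_1 lc_f_rc_10_1 lc_f_rc_20_1 lc_f_rc_19_5 lc_f_rc_10_3 lc_f_rc_22_1 lc_f_rc_20_1 lc_f_rc_14_3 lc_f_rc_20_1 lc_f_rc_20_1 lc_f_rc_19_3 lc_f_rc_21_1 lc_f_rc_10_3 lc_f_rc_17_3 lc_f_rc_10_3 lc_f_rc_5_3 lc_f_rc_17_1 lc_f_rc_5_1 lc_f_rc_10_3 lc_f_rc_14_3 lc_f_rc_14_3 lc_f_rc_10_3 lc_f_rc_14_3 lc_f_rc_14_3 lc_f_rc_14_3 lc_f_rc_14_3) (@D3.rec (fun _ => (Cert rels S Gen.f)) lc_f_rc_14_1 lc_f_rc_17_3 lc_f_rc_19_1 lc_f_rc_17_3 lc_f_rc_14_1 lc_f_rc_19_3 lc_f_rc_10_3 lc_f_rc_14_1 lc_f_rc_20_1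 lc_f_rc_19_3 lc_f_rc_14_1 lc_f_rc_5_3 lc_f_rc_17_1 lc_f_rc_14_3 lc_f_rc_19_3 lc_f_rc_14_1 lc_f_rc_21_1 lc_f_rc_14_3 lc_f_rc_17_1 lc_f_rc_14_3 lc_f_rc_17_3 lc_f_rc_21_1 lc_f_rc_20_1 lc_f_rc_10_3 lc_f_rc_10_3 lc_f_rc_14_3 lc_f_rc_19_1 lc_f_rc_19_3 lc_f_rc_10_3 lc_f_rc_10_3 lc_f_rc_10_3 lc_f_rc_17_3 lc_f_rc_10_1 lc_f_rc_17_3 lc_f_rc_10_1 lc_f_rc_17_1 lc_f_rc_20_1 lc_f_rc_5_3 lc_f_rc_10_3 lc_f_rc_20_1 lc_f_rc_10_3 lc_f_rc_17_3 lc_f_rc_20_1 lc_f_rc_20_1 lc_f_rc_14_3 lc_f_rc_5_3 lc_f_rc_17_3 lc_f_rc_14_1 lc_f_rc_21_1 lc_f_rc_20_1 lc_f_rc_19_5 lc_f_rc_10_3 lc_f_rc_5_3 lc_f_rc_14_1 lc_f_rc_20_1 lc_f_rc_19_1 lc_f_rc_20_1 lc_f_rc_10_3 lc_f_rc_5_3 lc_f_rc_20_1 lc_f_rc_14_1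 lc_f_rc_21_1) (@D3.rec (fun _ => (Cert rels S Gen.f)) lc_f_rc_20_1 lc_f_rc_10_1 lc_f_rc_14_3 lc_f_rc_5_3 lc_f_rc_10_3 lc_f_rc_10_1 lc_f_rc_14_1 lc_f_rc_14_1 lc_f_rc_17_3 lc_f_rc_5_3 lc_f_rc_17_3 lc_f_rc_20_1 lc_f_rc_22_1 lc_f_rc_20_1 lc_f_rc_19_3 lc_f_rc_10_3 lc_f_rc_17_3 lc_f_rc_14_3 lc_f_rc_17_3 lc_f_rc_5_3 lc_f_rc_20_1 lc_f_rc_14_1 lc_f_rc_14_1 lc_f_rc_21_1 lc_f_rc_17_3 lc_f_rc_14_3 lc_f_rc_21_1 lc_f_rc_5_3 lc_f_rc_10_3 lc_f_rc_22_1 lc_f_rc_21_1 lc_f_rc_22_1 lc_f_rc_17_3 lc_f_rc_17_3 lc_f_rc_20_1 lc_f_rc_14_3 lc_f_rc_5_3 lc_f_rc_19_1 lc_f_rc_17_3 lc_f_rc_17_3 lc_f_rc_10_3 lc_f_rc_19_1 lc_f_rc_17_1 lc_f_rc_10_3 lc_f_rc_5_3 lc_f_rc_22_1 lc_f_rc_14_3 lc_f_rc_10_1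 lc_f_rc_20_1 lc_f_rc_20_1 lc_f_rc_14_3 lc_f_rc_21_1 lc_f_rc_5_3 lc_f_rc_17_3 lc_f_rc_5_1 lc_f_rc_10_3 lc_f_rc_10_3 lc_f_rc_21_1 lc_f_rc_5_1 lc_f_rc_10_3 lc_f_rc_20_1 lc_f_rc_10_1) (@D3.rec (fun _ => (Cert rels S Gen.f)) lc_f_rc_17_1 lc_f_rc_14_1 lc_f_rc_14_1 lc_f_rc_10_3 lc_f_rc_14_3 lc_f_rc_22_1 lc_f_rc_10_3 lc_f_rc_5_3 lc_f_rc_20_1 lc_f_Cert_tree lc_f_rc_10_3 lc_f_rc_14_3 lc_f_rc_5_1 lc_f_rc_17_3 lc_f_rc_10_3 lc_f_rc_14_3 lc_f_rc_14_3 lc_f_rc_20_1 lc_f_rc_17_3 lc_f_rc_5_1 lc_f_rc_14_3 lc_f_rc_10_3 lc_f_rc_20_1 lc_f_rc_10_3 lc_f_rc_10_3 lc_f_rc_10_1 lc_f_rc_20_1 lc_f_rc_5_3 lc_f_rc_14_3 lc_f_rc_14_1 lc_f_rc_14_3 lc_f_rc_14_1 lc_f_rc_22_1 lc_f_rc_17_3 lc_f_rc_14_3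 lc_f_rc_5_3 lc_f_rc_20_1 lc_f_rc_17_3 lc_f_rc_20_1 lc_f_rc_14_3 lc_f_rc_10_1 lc_f_rc_20_1 lc_f_rc_20_1 lc_f_rc_10_3 lc_f_rc_14_3 lc_f_rc_19_5 lc_f_rc_20_1 lc_f_rc_10_3 lc_f_rc_17_3 lc_f_rc_10_1 lc_f_rc_19_3 lc_f_rc_20_1 lc_f_rc_19_3 lc_f_rc_20_1 lc_f_rc_17_3 lc_f_rc_21_1 lc_f_rc_17_1 lc_f_rc_14_3 lc_f_rc_20_1 lc_f_rc_20_1 lc_f_rc_17_3 lc_f_rc_21_1) (@D3.rec (fun _ => (Cert rels S Gen.f)) lc_f_rc_17_1 lc_f_rc_20_1 lc_f_rc_19_3 lc_f_rc_20_1 lc_f_rc_17_1 lc_f_rc_5_1 lc_f_rc_17_3 lc_f_rc_10_3 lc_f_rc_20_1 lc_f_rc_20_1 lc_f_rc_21_1 lc_f_rc_20_1 lc_f_rc_14_1 lc_f_rc_10_3 lc_f_rc_14_3 lc_f_rc_19_3 lc_f_rc_10_3 lc_f_rc_14_3 lc_f_rc_17_3 lc_f_rc_17_3 lc_f_rc_10_1 lc_f_rc_22_1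 lc_f_rc_17_3 lc_f_rc_5_1 lc_f_rc_14_3 lc_f_rc_20_1 lc_f_rc_22_1 lc_f_rc_21_1 lc_f_rc_19_5 lc_f_rc_17_3 lc_f_rc_14_1 lc_f_rc_10_3 lc_f_rc_17_3 lc_f_rc_10_1 lc_f_rc_17_3 lc_f_rc_21_1 lc_f_rc_14_3 lc_f_rc_17_3 lc_f_rc_5_1 lc_f_rc_19_3 lc_f_rc_10_1 lc_f_rc_10_3 lc_f_rc_17_3 lc_f_rc_14_3 lc_f_rc_17_3 lc_f_rc_21_1 lc_f_rc_14_3 lc_f_rc_10_3 lc_f_rc_20_1 lc_f_rc_20_1 lc_f_rc_20_1 lc_f_rc_14_3 lc_f_rc_20_1 lc_f_rc_17_3 lc_f_rc_14_1 lc_f_Cert_tree lc_f_rc_20_1 lc_f_rc_21_1 lc_f_rc_5_1 lc_f_rc_17_3 lc_f_rc_10_3 lc_f_rc_20_1) (@D3.rec (fun _ => (Cert rels S Gen.f)) lc_f_rc_10_3 lc_f_rc_14_3 lc_f_rc_14_3 lc_f_rc_20_1 lc_f_rc_14_1 lc_f_rc_21_1 lc_f_rc_10_3 lc_f_rc_14_3 lc_f_rc_14_3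 lc_f_rc_14_3 lc_f_rc_14_3 lc_f_rc_14_1 lc_f_rc_10_3 lc_f_rc_10_1 lc_f_rc_19_5 lc_f_rc_14_3 lc_f_rc_17_3 lc_f_rc_20_1 lc_f_rc_14_3 lc_f_rc_20_1 lc_f_rc_5_3 lc_f_rc_17_3 lc_f_rc_5_3 lc_f_rc_5_1 lc_f_rc_10_3 lc_f_rc_10_3 lc_f_rc_10_3 lc_f_rc_14_3 lc_f_rc_10_3 lc_f_rc_10_3 lc_f_rc_10_1 lc_f_rc_19_5 lc_f_rc_14_3 lc_f_rc_10_3 lc_f_rc_14_3 lc_f_rc_14_1 lc_f_rc_10_1 lc_f_rc_10_3 lc_f_rc_19_3 lc_f_rc_17_3 lc_f_rc_17_3 lc_f_rc_20_1 lc_f_rc_10_3 lc_f_rc_20_1 lc_f_rc_10_1 lc_f_rc_17_1 lc_f_rc_10_3 lc_f_rc_19_3 lc_f_rc_14_3 lc_f_rc_10_3 lc_f_rc_14_3 lc_f_rc_14_3 lc_f_rc_21_1 lc_f_rc_21_1 lc_f_rc_14_1 lc_f_rc_19_5 lc_f_rc_5_1 lc_f_rc_17_1 lc_f_rc_5_3 lc_f_rc_5_3 lc_f_rc_17_3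 lc_f_rc_17_3) (@D3.rec (fun _ => (Cert rels S Gen.f)) lc_f_rc_20_1 lc_f_rc_10_3 lc_f_rc_14_3 lc_f_rc_20_1 lc_f_rc_17_1 lc_f_rc_14_1 lc_f_rc_20_1 lc_f_rc_20_1 lc_f_rc_14_3 lc_f_rc_19_3 lc_f_rc_17_3 lc_f_rc_19_5 lc_f_rc_5_3 lc_f_rc_21_1 lc_f_rc_17_3 lc_f_rc_10_3 lc_f_rc_20_1 lc_f_rc_14_3 lc_f_rc_22_1 lc_f_rc_21_1 lc_f_rc_21_1 lc_f_rc_20_1 lc_f_rc_20_1 lc_f_rc_20_1 lc_f_rc_5_1 lc_f_rc_10_1 lc_f_rc_20_1 lc_f_rc_14_1 lc_f_rc_21_1 lc_f_rc_14_1 lc_f_rc_20_1 lc_f_rc_17_3 lc_f_rc_17_3 lc_f_rc_22_1 lc_f_rc_20_1 lc_f_rc_10_3 lc_f_rc_19_1 lc_f_rc_14_1 lc_f_rc_14_3 lc_f_rc_19_3 lc_f_rc_17_3 lc_f_rc_5_3 lc_f_rc_17_3 lc_f_rc_5_3 lc_f_rc_17_3 lc_f_rc_21_1 lc_f_rc_14_1 lc_f_rc_20_1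 lc_f_rc_20_1 lc_f_rc_21_1 lc_f_rc_17_1 lc_f_rc_14_1 lc_f_rc_14_1 lc_f_rc_14_1 lc_f_rc_19_3 lc_f_rc_10_1 lc_f_rc_22_1 lc_f_rc_17_3 lc_f_rc_5_3 lc_f_rc_17_1 lc_f_rc_17_1 lc_f_rc_14_3) (@D3.rec (fun _ => (Cert rels S Gen.f)) lc_f_rc_22_1 lc_f_rc_10_3 lc_f_rc_17_3 lc_f_rc_20_1 lc_f_rc_14_1 lc_f_rc_17_3 lc_f_rc_20_1 lc_f_rc_22_1 lc_f_rc_21_1 lc_f_rc_5_3 lc_f_rc_14_3 lc_f_rc_10_3 lc_f_rc_10_3 lc_f_rc_21_1 lc_f_rc_20_1 lc_f_rc_20_1 lc_f_rc_17_3 lc_f_rc_17_3 lc_f_rc_10_1 lc_f_rc_5_1 lc_f_rc_10_3 lc_f_rc_14_1 lc_f_rc_19_3 lc_f_rc_5_1 lc_f_rc_14_3 lc_f_rc_20_1 lc_f_rc_5_1 lc_f_rc_5_3 lc_f_rc_5_1 lc_f_rc_10_3 lc_f_rc_17_3 lc_f_rc_10_3 lc_f_rc_10_3 lc_f_rc_17_3 lc_f_rc_17_3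 lc_f_rc_10_3 lc_f_rc_21_1 lc_f_rc_19_3 lc_f_rc_14_3 lc_f_rc_17_3 lc_f_rc_10_1 lc_f_rc_10_1 lc_f_rc_14_3 lc_f_rc_17_3 lc_f_rc_17_3 lc_f_rc_5_1 lc_f_rc_17_3 lc_f_rc_17_3 lc_f_rc_20_1 lc_f_rc_10_3 lc_f_rc_19_5 lc_f_rc_17_1 lc_f_rc_20_1 lc_f_rc_17_1 lc_f_rc_22_1 lc_f_rc_14_1 lc_f_rc_5_1 lc_f_rc_20_1 lc_f_rc_20_1 lc_f_rc_21_1 lc_f_rc_14_1 lc_f_rc_20_1) (@D3.rec (fun _ => (Cert rels S Gen.f)) lc_f_rc_17_3 lc_f_rc_17_3 lc_f_rc_14_3 lc_f_rc_14_3 lc_f_rc_17_3 lc_f_rc_17_3 lc_f_rc_21_1 lc_f_rc_10_3 lc_f_rc_22_1 lc_f_rc_14_1 lc_f_rc_19_3 lc_f_rc_14_3 lc_f_rc_17_1 lc_f_rc_14_3 lc_f_rc_14_3 lc_f_rc_14_1 lc_f_rc_17_3 lc_f_rc_19_5 lc_f_rc_5_3 lc_f_rc_10_3 lc_f_rc_19_3 lc_f_rc_5_1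 lc_f_rc_17_3 lc_f_rc_19_3 lc_f_rc_10_3 lc_f_rc_17_3 lc_f_Cert_tree lc_f_rc_14_1 lc_f_rc_10_3 lc_f_rc_21_1 lc_f_rc_20_1 lc_f_rc_17_3 lc_f_rc_10_3 lc_f_rc_20_1 lc_f_rc_19_3 lc_f_rc_21_1 lc_f_rc_19_3 lc_f_rc_5_1 lc_f_rc_17_1 lc_f_rc_17_3 lc_f_rc_21_1 lc_f_rc_10_3 lc_f_rc_5_3 lc_f_rc_17_1 lc_f_rc_10_1 lc_f_rc_14_3 lc_f_rc_21_1 lc_f_rc_5_3 lc_f_rc_17_1 lc_f_rc_14_3 lc_f_rc_17_3 lc_f_rc_22_1 lc_f_Cert_tree lc_f_rc_14_3 lc_f_rc_17_3 lc_f_rc_17_3 lc_f_rc_14_3 lc_f_rc_17_3 lc_f_rc_14_1 lc_f_rc_19_5 lc_f_rc_19_5 lc_f_rc_20_1) (@D3.rec (fun _ => (Cert rels S Gen.f)) lc_f_rc_5_1 lc_f_rc_14_1 lc_f_rc_19_3 lc_f_rc_5_3 lc_f_rc_14_3 lc_f_rc_14_1 lc_f_rc_22_1 lc_f_rc_10_1 lc_f_rc_14_3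 lc_f_rc_5_3 lc_f_rc_22_1 lc_f_rc_20_1 lc_f_rc_17_3 lc_f_rc_14_3 lc_f_rc_5_3 lc_f_rc_17_3 lc_f_rc_14_3 lc_f_rc_14_1 lc_f_rc_14_3 lc_f_rc_10_1 lc_f_rc_14_3 lc_f_rc_5_1 lc_f_rc_19_1 lc_f_rc_17_3 lc_f_rc_17_3 lc_f_rc_14_3 lc_f_rc_10_3 lc_f_rc_14_1 lc_f_rc_20_1 lc_f_rc_14_3 lc_f_rc_5_3 lc_f_rc_17_3 lc_f_rc_19_3 lc_f_Cert_tree lc_f_rc_17_3 lc_f_rc_14_3 lc_f_rc_17_1 lc_f_rc_10_3 lc_f_rc_5_3 lc_f_rc_17_3 lc_f_rc_14_3 lc_f_rc_21_1 lc_f_rc_5_1 lc_f_rc_17_1 lc_f_rc_17_3 lc_f_rc_14_3 lc_f_rc_17_1 lc_f_rc_21_1 lc_f_rc_20_1 lc_f_rc_17_3 lc_f_rc_19_5 lc_f_rc_19_1 lc_f_rc_10_3 lc_f_rc_5_3 lc_f_rc_19_5 lc_f_rc_10_3 lc_f_rc_10_3 lc_f_rc_20_1 lc_f_rc_5_1 lc_f_rc_20_1 lc_f_rc_10_3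 lc_f_rc_10_1) (@D3.rec (fun _ => (Cert rels S Gen.f)) lc_f_rc_14_3 lc_f_rc_10_3 lc_f_rc_5_1 lc_f_rc_5_1 lc_f_rc_5_1 lc_f_rc_20_1 lc_f_rc_10_3 lc_f_rc_21_1 lc_f_rc_14_3 lc_f_rc_17_3 lc_f_rc_21_1 lc_f_rc_20_1 lc_f_rc_17_3 lc_f_rc_14_3 lc_f_rc_17_3 lc_f_rc_17_3 lc_f_rc_20_1 lc_f_rc_17_1 lc_f_rc_17_3 lc_f_rc_14_3 lc_f_rc_5_1 lc_f_rc_10_3 lc_f_rc_14_3 lc_f_rc_19_3 lc_f_rc_21_1 lc_f_rc_17_1 lc_f_rc_21_1 lc_f_rc_20_1 lc_f_rc_17_3 lc_f_rc_14_1 lc_f_rc_14_3 lc_f_rc_20_1 lc_f_rc_14_3 lc_f_rc_20_1 lc_f_rc_14_3 lc_f_rc_21_1 lc_f_rc_14_3 lc_f_rc_19_3 lc_f_rc_19_5 lc_f_rc_17_3 lc_f_rc_10_1 lc_f_rc_10_1 lc_f_rc_17_3 lc_f_rc_21_1 lc_f_rc_21_1 lc_f_rc_17_3 lc_f_rc_14_1 lc_f_rc_17_1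 lc_f_rc_14_1 lc_f_rc_10_3 lc_f_rc_10_3 lc_f_rc_20_1 lc_f_rc_19_3 lc_f_rc_5_1 lc_f_rc_20_1 lc_f_rc_22_1 lc_f_rc_10_3 lc_f_rc_14_1 lc_f_rc_14_1 lc_f_rc_14_3 lc_f_rc_14_3 lc_f_rc_5_1) (@D3.rec (fun _ => (Cert rels S Gen.f)) lc_f_rc_17_3 lc_f_rc_5_3 lc_f_rc_21_1 lc_f_rc_19_3 lc_f_rc_20_1 lc_f_rc_17_1 lc_f_rc_10_1 lc_f_rc_17_1 lc_f_rc_17_1 lc_f_rc_17_3 lc_f_rc_17_3 lc_f_rc_5_1 lc_f_rc_14_3 lc_f_rc_14_1 lc_f_rc_20_1 lc_f_rc_14_1 lc_f_rc_10_3 lc_f_rc_14_1 lc_f_rc_10_1 lc_f_rc_22_1 lc_f_rc_17_3 lc_f_rc_10_3 lc_f_rc_14_3 lc_f_rc_19_3 lc_f_rc_10_1 lc_f_rc_14_3 lc_f_rc_19_3 lc_f_rc_10_3 lc_f_rc_19_1 lc_f_rc_10_1 lc_f_rc_19_1 lc_f_rc_20_1 lc_f_rc_19_3 lc_f_rc_5_1 lc_f_rc_22_1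 lc_f_rc_10_3 lc_f_rc_17_3 lc_f_rc_19_1 lc_f_rc_20_1 lc_f_rc_14_3 lc_f_rc_19_3 lc_f_rc_14_3 lc_f_rc_21_1 lc_f_rc_19_3 lc_f_rc_14_3 lc_f_rc_10_3 lc_f_rc_10_3 lc_f_rc_19_1 lc_f_rc_14_1 lc_f_rc_21_1 lc_f_rc_21_1 lc_f_rc_17_3 lc_f_rc_21_1 lc_f_rc_14_3 lc_f_rc_17_1 lc_f_rc_19_1 lc_f_rc_17_1 lc_f_rc_17_1 lc_f_rc_10_1 lc_f_rc_17_3 lc_f_rc_19_5 lc_f_rc_19_5)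
def ce_f_30 : D2 → D3 → (Cert rels S Gen.f) := @D2.rec (fun _ => D3 → (Cert rels S Gen.f)) (@D3.rec (fun _ => (Cert rels S Gen.f)) lc_f_rc_19_5 lc_f_rc_21_1 lc_f_rc_21_1 lc_f_rc_14_3 lc_f_rc_21_1 lc_f_rc_17_1 lc_f_rc_17_1 lc_f_rc_14_3 lc_f_rc_21_1 lc_f_rc_10_3 lc_f_rc_14_3 lc_f_rc_5_3 lc_f_rc_14_1 lc_f_rc_14_3 lc_f_rc_10_1 lc_f_rc_22_1 lc_f_rc_10_3 lc_f_rc_17_3 lc_f_rc_14_3 lc_f_rc_14_3 lc_f_rc_20_1 lc_f_rc_20_1 lc_f_rc_10_1 lc_f_rc_21_1 lc_f_rc_20_1 lc_f_rc_17_3 lc_f_rc_17_3 lc_f_rc_19_3 lc_f_rc_22_1 lc_f_rc_10_3 lc_f_rc_14_3 lc_f_rc_14_3 lc_f_rc_22_1 lc_f_rc_17_3 lc_f_rc_10_3 lc_f_rc_20_1 lc_f_rc_14_3 lc_f_rc_14_3 lc_f_rc_19_1 lc_f_rc_19_1 lc_f_rc_5_3 lc_f_rc_17_3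 lc_f_rc_21_1 lc_f_rc_19_3 lc_f_rc_17_1 lc_f_rc_20_1 lc_f_rc_22_1 lc_f_rc_14_1 lc_f_rc_14_3 lc_f_rc_20_1 lc_f_rc_17_3 lc_f_rc_10_3 lc_f_rc_21_1 lc_f_rc_20_1 lc_f_rc_17_1 lc_f_rc_14_3 lc_f_rc_10_1 lc_f_rc_14_3 lc_f_rc_21_1 lc_f_rc_20_1 lc_f_rc_21_1 lc_f_rc_14_3) (@D3.rec (fun _ => (Cert rels S Gen.f)) lc_f_rc_14_1 lc_f_rc_5_3 lc_f_rc_14_3 lc_f_rc_17_3 lc_f_rc_10_1 lc_f_rc_19_3 lc_f_rc_20_1 lc_f_rc_10_3 lc_f_rc_17_3 lc_f_rc_10_3 lc_f_rc_14_3 lc_f_rc_14_3 lc_f_rc_14_3 lc_f_rc_10_3 lc_f_rc_5_3 lc_f_rc_14_3 lc_f_rc_17_1 lc_f_rc_19_5 lc_f_rc_20_1 lc_f_rc_21_1 lc_f_rc_14_3 lc_f_rc_17_1 lc_f_rc_10_3 lc_f_rc_17_3 lc_f_rc_5_3 lc_f_rc_10_3 lc_f_rc_22_1 lc_f_rc_17_3 lc_f_rc_17_3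 lc_f_rc_20_1 lc_f_rc_21_1 lc_f_rc_19_5 lc_f_rc_14_1 lc_f_rc_20_1 lc_f_rc_5_3 lc_f_rc_10_3 lc_f_rc_19_5 lc_f_rc_5_3 lc_f_rc_14_1 lc_f_rc_20_1 lc_f_rc_20_1 lc_f_rc_14_3 lc_f_rc_22_1 lc_f_rc_22_1 lc_f_rc_17_3 lc_f_rc_10_1 lc_f_rc_22_1 lc_f_rc_5_1 lc_f_rc_17_1 lc_f_rc_14_3 lc_f_rc_5_1 lc_f_rc_20_1 lc_f_rc_5_3 lc_f_rc_21_1 lc_f_rc_20_1 lc_f_rc_17_3 lc_f_rc_14_3 lc_f_rc_10_3 lc_f_rc_21_1 lc_f_rc_10_3 lc_f_rc_14_3 lc_f_rc_21_1) (@D3.rec (fun _ => (Cert rels S Gen.f)) lc_f_rc_17_1 lc_f_rc_20_1 lc_f_rc_22_1 lc_f_rc_10_3 lc_f_rc_21_1 lc_f_rc_10_3 lc_f_rc_5_3 lc_f_rc_22_1 lc_f_rc_20_1 lc_f_rc_14_3 lc_f_rc_14_1 lc_f_rc_10_1 lc_f_rc_14_3 lc_f_rc_19_1 lc_f_rc_14_3 lc_f_rc_14_3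 lc_f_rc_17_3 lc_f_rc_10_3 lc_f_rc_17_1 lc_f_rc_22_1 lc_f_rc_20_1 lc_f_rc_14_3 lc_f_rc_10_1 lc_f_rc_5_3 lc_f_rc_21_1 lc_f_rc_14_3 lc_f_rc_5_1 lc_f_rc_14_3 lc_f_rc_21_1 lc_f_rc_17_3 lc_f_rc_10_3 lc_f_rc_17_3 lc_f_rc_14_3 lc_f_rc_22_1 lc_f_rc_17_1 lc_f_rc_17_3 lc_f_rc_20_1 lc_f_rc_14_1 lc_f_rc_17_3 lc_f_rc_19_3 lc_f_rc_20_1 lc_f_rc_20_1 lc_f_rc_14_1 lc_f_rc_14_1 lc_f_rc_10_1 lc_f_rc_14_3 lc_f_rc_20_1 lc_f_rc_21_1 lc_f_rc_14_1 lc_f_rc_17_1 lc_f_rc_17_1 lc_f_rc_14_1 lc_f_rc_19_3 lc_f_rc_17_3 lc_f_rc_17_1 lc_f_rc_14_1 lc_f_rc_17_3 lc_f_rc_10_3 lc_f_rc_14_1 lc_f_rc_10_1 lc_f_rc_20_1 lc_f_rc_19_5) (@D3.rec (fun _ => (Cert rels S Gen.f)) lc_f_rc_10_1 lc_f_rc_14_1 lc_f_rc_14_3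 lc_f_rc_20_1 lc_f_rc_14_3 lc_f_rc_14_1 lc_f_rc_20_1 lc_f_rc_14_3 lc_f_rc_14_3 lc_f_rc_10_1 lc_f_rc_14_3 lc_f_rc_20_1 lc_f_rc_19_3 lc_f_rc_20_1 lc_f_rc_21_1 lc_f_rc_20_1 lc_f_rc_17_3 lc_f_rc_20_1 lc_f_rc_22_1 lc_f_rc_17_1 lc_f_rc_10_3 lc_f_rc_5_3 lc_f_rc_17_1 lc_f_rc_20_1 lc_f_rc_10_3 lc_f_rc_21_1 lc_f_rc_17_3 lc_f_rc_14_3 lc_f_rc_14_1 lc_f_rc_19_5 lc_f_rc_22_1 lc_f_rc_17_1 lc_f_rc_21_1 lc_f_rc_17_3 lc_f_rc_20_1 lc_f_rc_17_1 lc_f_rc_20_1 lc_f_Cert_tree lc_f_rc_14_3 lc_f_rc_17_1 lc_f_rc_5_3 lc_f_rc_17_1 lc_f_rc_5_3 lc_f_rc_5_3 lc_f_rc_10_1 lc_f_rc_19_3 lc_f_rc_10_1 lc_f_rc_21_1 lc_f_rc_10_3 lc_f_rc_17_3 lc_f_rc_10_3 lc_f_rc_10_3 lc_f_rc_10_3 lc_f_rc_5_3 lc_f_rc_14_3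 lc_f_rc_10_1 lc_f_rc_19_3 lc_f_rc_20_1 lc_f_rc_14_1 lc_f_rc_17_1 lc_f_rc_14_1 lc_f_rc_17_3) (@D3.rec (fun _ => (Cert rels S Gen.f)) lc_f_rc_17_1 lc_f_rc_17_3 lc_f_rc_10_3 lc_f_rc_17_3 lc_f_rc_21_1 lc_f_rc_10_3 lc_f_rc_17_3 lc_f_rc_14_3 lc_f_rc_14_3 lc_f_rc_10_3 lc_f_rc_17_1 lc_f_rc_22_1 lc_f_rc_21_1 lc_f_rc_5_3 lc_f_rc_14_1 lc_f_rc_10_1 lc_f_rc_17_3 lc_f_rc_17_3 lc_f_rc_19_5 lc_f_rc_14_3 lc_f_rc_10_3 lc_f_rc_5_3 lc_f_rc_17_1 lc_f_rc_5_1 lc_f_rc_5_3 lc_f_rc_22_1 lc_f_rc_22_1 lc_f_rc_17_3 lc_f_rc_10_1 lc_f_rc_17_3 lc_f_rc_14_3 lc_f_rc_14_3 lc_f_rc_10_1 lc_f_rc_17_3 lc_f_rc_20_1 lc_f_rc_17_1 lc_f_rc_21_1 lc_f_rc_20_1 lc_f_rc_20_1 lc_f_rc_14_1 lc_f_rc_14_1 lc_f_rc_21_1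 lc_f_rc_14_3 lc_f_rc_10_3 lc_f_rc_14_3 lc_f_rc_17_3 lc_f_rc_14_3 lc_f_rc_14_3 lc_f_rc_14_3 lc_f_rc_14_1 lc_f_rc_14_1 lc_f_rc_10_3 lc_f_rc_17_3 lc_f_rc_14_1 lc_f_rc_21_1 lc_f_rc_17_1 lc_f_rc_22_1 lc_f_rc_22_1 lc_f_rc_17_3 lc_f_rc_21_1 lc_f_rc_10_3 lc_f_rc_14_1) (@D3.rec (fun _ => (Cert rels S Gen.f)) lc_f_rc_20_1 lc_f_rc_14_1 lc_f_rc_22_1 lc_f_rc_10_3 lc_f_rc_10_3 lc_f_rc_14_1 lc_f_rc_21_1 lc_f_rc_19_3 lc_f_rc_20_1 lc_f_rc_14_3 lc_f_rc_10_3 lc_f_rc_14_3 lc_f_rc_5_1 lc_f_rc_20_1 lc_f_rc_21_1 lc_f_rc_10_3 lc_f_rc_5_1 lc_f_rc_14_1 lc_f_rc_17_3 lc_f_rc_20_1 lc_f_rc_20_1 lc_f_rc_14_3 lc_f_rc_21_1 lc_f_rc_10_1 lc_f_rc_14_3 lc_f_rc_5_3 lc_f_rc_10_3 lc_f_rc_5_1 lc_f_rc_14_1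 lc_f_rc_10_3 lc_f_rc_20_1 lc_f_rc_22_1 lc_f_rc_17_3 lc_f_rc_19_3 lc_f_rc_21_1 lc_f_rc_14_1 lc_f_rc_10_3 lc_f_rc_10_3 lc_f_Cert_tree lc_f_rc_20_1 lc_f_rc_20_1 lc_f_rc_10_1 lc_f_Cert_tree lc_f_Cert_tree lc_f_rc_19_3 lc_f_rc_20_1 lc_f_rc_10_3 lc_f_rc_10_3 lc_f_rc_21_1 lc_f_rc_5_3 lc_f_rc_10_3 lc_f_rc_19_3 lc_f_rc_17_3 lc_f_rc_20_1 lc_f_rc_17_3 lc_f_rc_14_3 lc_f_rc_14_3 lc_f_rc_10_3 lc_f_rc_19_1 lc_f_rc_14_3 lc_f_rc_19_3 lc_f_rc_10_3) (@D3.rec (fun _ => (Cert rels S Gen.f)) lc_f_rc_14_3 lc_f_rc_20_1 lc_f_rc_19_3 lc_f_rc_17_1 lc_f_rc_10_3 lc_f_rc_10_1 lc_f_rc_10_3 lc_f_rc_17_1 lc_f_rc_5_3 lc_f_rc_17_3 lc_f_rc_17_3 lc_f_rc_10_1 lc_f_rc_10_3 lc_f_rc_22_1 lc_f_rc_19_5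 lc_f_rc_20_1 lc_f_rc_10_1 lc_f_rc_10_1 lc_f_rc_21_1 lc_f_rc_21_1 lc_f_rc_19_3 lc_f_rc_14_1 lc_f_rc_10_3 lc_f_rc_10_3 lc_f_rc_10_3 lc_f_rc_14_3 lc_f_rc_17_3 lc_f_rc_21_1 lc_f_rc_14_3 lc_f_rc_10_1 lc_f_rc_17_3 lc_f_rc_14_3 lc_f_rc_14_1 lc_f_rc_14_1 lc_f_rc_17_3 lc_f_rc_10_3 lc_f_rc_17_3 lc_f_rc_5_1 lc_f_rc_17_3 lc_f_rc_10_3 lc_f_rc_20_1 lc_f_rc_10_1 lc_f_rc_17_3 lc_f_rc_14_3 lc_f_rc_21_1 lc_f_rc_17_1 lc_f_rc_14_3 lc_f_rc_20_1 lc_f_rc_17_1 lc_f_rc_14_1 lc_f_rc_14_3 lc_f_rc_20_1 lc_f_rc_10_3 lc_f_rc_5_1 lc_f_rc_14_3 lc_f_rc_10_1 lc_f_rc_17_3 lc_f_rc_14_3 lc_f_rc_5_3 lc_f_rc_14_3 lc_f_rc_17_3 lc_f_rc_14_3) (@D3.rec (fun _ => (Cert rels S Gen.f)) lc_f_rc_21_1 lc_f_rc_5_3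 lc_f_rc_19_3 lc_f_rc_14_3 lc_f_rc_20_1 lc_f_rc_17_3 lc_f_rc_10_3 lc_f_rc_10_3 lc_f_rc_5_1 lc_f_rc_10_3 lc_f_rc_19_3 lc_f_rc_14_3 lc_f_rc_5_3 lc_f_rc_10_3 lc_f_rc_21_1 lc_f_rc_20_1 lc_f_rc_5_3 lc_f_rc_14_3 lc_f_rc_21_1 lc_f_Cert_tree lc_f_rc_10_1 lc_f_rc_10_3 lc_f_rc_21_1 lc_f_rc_17_3 lc_f_rc_14_1 lc_f_rc_20_1 lc_f_rc_17_3 lc_f_rc_17_3 lc_f_rc_17_3 lc_f_rc_14_1 lc_f_rc_5_3 lc_f_rc_17_1 lc_f_rc_21_1 lc_f_rc_17_3 lc_f_rc_17_3 lc_f_rc_21_1 lc_f_rc_14_3 lc_f_rc_10_3 lc_f_rc_19_1 lc_f_rc_22_1 lc_f_rc_14_3 lc_f_rc_14_1 lc_f_rc_14_3 lc_f_rc_20_1 lc_f_rc_20_1 lc_f_rc_20_1 lc_f_rc_21_1 lc_f_rc_17_3 lc_f_rc_14_1 lc_f_rc_14_3 lc_f_rc_10_3 lc_f_rc_17_3 lc_f_rc_17_3 lc_f_rc_19_5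 lc_f_rc_19_5 lc_f_rc_14_3 lc_f_rc_17_3 lc_f_rc_17_3 lc_f_rc_17_3 lc_f_rc_10_3 lc_f_rc_20_1 lc_f_rc_5_3) (@D3.rec (fun _ => (Cert rels S Gen.f)) lc_f_rc_20_1 lc_f_rc_14_1 lc_f_rc_5_1 lc_f_rc_17_1 lc_f_rc_17_3 lc_f_rc_20_1 lc_f_rc_19_5 lc_f_rc_10_3 lc_f_rc_10_1 lc_f_rc_14_3 lc_f_rc_14_3 lc_f_rc_20_1 lc_f_rc_17_3 lc_f_rc_10_1 lc_f_rc_17_3 lc_f_rc_14_3 lc_f_rc_20_1 lc_f_rc_5_1 lc_f_rc_19_3 lc_f_rc_14_3 lc_f_rc_14_1 lc_f_rc_19_3 lc_f_rc_21_1 lc_f_rc_22_1 lc_f_rc_17_1 lc_f_rc_14_3 lc_f_rc_20_1 lc_f_rc_10_3 lc_f_rc_10_3 lc_f_rc_14_3 lc_f_rc_14_3 lc_f_rc_17_3 lc_f_rc_14_1 lc_f_rc_5_1 lc_f_rc_10_3 lc_f_rc_19_1 lc_f_rc_10_1 lc_f_rc_20_1 lc_f_rc_5_3 lc_f_rc_10_3 lc_f_rc_17_3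 lc_f_rc_14_3 lc_f_rc_10_3 lc_f_rc_21_1 lc_f_rc_5_3 lc_f_rc_10_1 lc_f_rc_10_3 lc_f_rc_19_5 lc_f_rc_10_3 lc_f_rc_10_3 lc_f_rc_14_3 lc_f_rc_17_3 lc_f_rc_17_3 lc_f_rc_20_1 lc_f_rc_20_1 lc_f_rc_14_1 lc_f_rc_5_3 lc_f_rc_14_1 lc_f_rc_17_3 lc_f_rc_14_3 lc_f_rc_19_1 lc_f_rc_17_3) (@D3.rec (fun _ => (Cert rels S Gen.f)) lc_f_rc_19_5 lc_f_rc_10_1 lc_f_rc_14_3 lc_f_rc_5_1 lc_f_rc_19_3 lc_f_rc_19_3 lc_f_rc_14_3 lc_f_rc_14_1 lc_f_rc_14_1 lc_f_rc_10_3 lc_f_rc_10_3 lc_f_rc_22_1 lc_f_rc_19_5 lc_f_rc_20_1 lc_f_rc_10_1 lc_f_rc_17_3 lc_f_rc_14_3 lc_f_rc_19_5 lc_f_rc_17_1 lc_f_rc_14_1 lc_f_rc_10_1 lc_f_Cert_tree lc_f_rc_20_1 lc_f_rc_10_1 lc_f_rc_14_1 lc_f_rc_20_1 lc_f_rc_5_1 lc_f_rc_14_3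 lc_f_rc_20_1 lc_f_rc_17_1 lc_f_rc_17_3 lc_f_rc_5_1 lc_f_rc_20_1 lc_f_rc_5_3 lc_f_rc_14_3 lc_f_rc_17_3 lc_f_rc_14_1 lc_f_rc_14_1 lc_f_rc_14_3 lc_f_rc_21_1 lc_f_rc_19_5 lc_f_rc_14_1 lc_f_rc_20_1 lc_f_rc_22_1 lc_f_rc_17_3 lc_f_rc_10_3 lc_f_rc_5_1 lc_f_rc_10_3 lc_f_rc_22_1 lc_f_rc_20_1 lc_f_rc_19_5 lc_f_rc_21_1 lc_f_rc_10_3 lc_f_rc_14_1 lc_f_rc_17_3 lc_f_rc_14_1 lc_f_rc_10_3 lc_f_rc_5_3 lc_f_rc_20_1 lc_f_rc_20_1 lc_f_rc_5_3 lc_f_rc_14_3) (@D3.rec (fun _ => (Cert rels S Gen.f)) lc_f_rc_14_3 lc_f_rc_5_3 lc_f_rc_10_1 lc_f_rc_22_1 lc_f_rc_17_3 lc_f_rc_10_3 lc_f_rc_20_1 lc_f_rc_19_1 lc_f_rc_17_3 lc_f_rc_19_3 lc_f_rc_17_3 lc_f_rc_10_3 lc_f_rc_20_1 lc_f_rc_14_3 lc_f_rc_10_3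 lc_f_rc_10_3 lc_f_rc_19_1 lc_f_rc_10_1 lc_f_rc_10_1 lc_f_rc_19_3 lc_f_rc_19_5 lc_f_rc_19_5 lc_f_rc_21_1 lc_f_rc_10_3 lc_f_rc_10_3 lc_f_rc_10_1 lc_f_rc_19_5 lc_f_rc_10_3 lc_f_rc_5_3 lc_f_rc_21_1 lc_f_rc_17_3 lc_f_rc_17_3 lc_f_rc_10_3 lc_f_rc_20_1 lc_f_rc_17_3 lc_f_rc_20_1 lc_f_rc_17_3 lc_f_rc_10_3 lc_f_rc_14_3 lc_f_rc_19_3 lc_f_rc_10_3 lc_f_rc_17_3 lc_f_rc_21_1 lc_f_rc_14_3 lc_f_rc_19_5 lc_f_rc_22_1 lc_f_rc_22_1 lc_f_rc_20_1 lc_f_rc_14_3 lc_f_rc_19_5 lc_f_rc_19_1 lc_f_rc_20_1 lc_f_rc_21_1 lc_f_rc_20_1 lc_f_rc_21_1 lc_f_rc_14_3 lc_f_rc_14_3 lc_f_rc_22_1 lc_f_rc_19_1 lc_f_rc_10_3 lc_f_rc_10_3 lc_f_rc_10_3) (@D3.rec (fun _ => (Cert rels S Gen.f)) lc_f_rc_14_1 lc_f_rc_17_3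 lc_f_rc_14_1 lc_f_rc_10_3 lc_f_rc_17_3 lc_f_rc_5_3 lc_f_rc_19_5 lc_f_rc_20_1 lc_f_rc_19_5 lc_f_rc_5_1 lc_f_rc_10_3 lc_f_rc_14_1 lc_f_rc_5_3 lc_f_rc_20_1 lc_f_rc_5_1 lc_f_rc_20_1 lc_f_rc_21_1 lc_f_rc_19_5 lc_f_rc_17_1 lc_f_rc_14_3 lc_f_rc_10_3 lc_f_rc_5_3 lc_f_rc_10_3 lc_f_rc_17_3 lc_f_rc_21_1 lc_f_rc_10_3 lc_f_rc_14_3 lc_f_rc_19_3 lc_f_rc_14_3 lc_f_rc_17_1 lc_f_rc_17_1 lc_f_rc_10_1 lc_f_rc_21_1 lc_f_rc_21_1 lc_f_rc_20_1 lc_f_rc_17_3 lc_f_rc_10_3 lc_f_rc_10_1 lc_f_rc_10_3 lc_f_rc_5_3 lc_f_rc_14_3 lc_f_rc_19_3 lc_f_rc_14_3 lc_f_rc_14_3 lc_f_rc_10_3 lc_f_rc_21_1 lc_f_rc_5_3 lc_f_rc_19_3 lc_f_rc_20_1 lc_f_rc_10_3 lc_f_Cert_tree lc_f_rc_17_3 lc_f_rc_19_1 lc_f_rc_20_1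 lc_f_rc_17_3 lc_f_rc_21_1 lc_f_rc_17_1 lc_f_rc_10_3 lc_f_rc_14_3 lc_f_rc_21_1 lc_f_rc_19_3 lc_f_rc_19_3) (@D3.rec (fun _ => (Cert rels S Gen.f)) lc_f_rc_5_3 lc_f_rc_20_1 lc_f_rc_20_1 lc_f_rc_14_1 lc_f_rc_20_1 lc_f_rc_19_5 lc_f_rc_17_1 lc_f_rc_14_3 lc_f_rc_17_3 lc_f_rc_10_3 lc_f_rc_17_3 lc_f_rc_21_1 lc_f_rc_10_3 lc_f_rc_5_1 lc_f_rc_22_1 lc_f_rc_21_1 lc_f_rc_17_3 lc_f_rc_14_3 lc_f_rc_17_3 lc_f_rc_21_1 lc_f_rc_17_1 lc_f_rc_10_3 lc_f_rc_14_3 lc_f_rc_14_1 lc_f_rc_14_1 lc_f_rc_10_3 lc_f_rc_10_1 lc_f_rc_17_1 lc_f_rc_20_1 lc_f_rc_5_3 lc_f_rc_22_1 lc_f_rc_17_1 lc_f_rc_17_3 lc_f_rc_14_3 lc_f_rc_17_3 lc_f_rc_20_1 lc_f_rc_17_1 lc_f_rc_17_3 lc_f_rc_10_1 lc_f_rc_14_3 lc_f_rc_17_3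 lc_f_rc_22_1 lc_f_rc_20_1 lc_f_rc_17_1 lc_f_rc_19_5 lc_f_rc_14_3 lc_f_rc_21_1 lc_f_rc_14_3 lc_f_rc_21_1 lc_f_rc_14_3 lc_f_rc_10_3 lc_f_rc_21_1 lc_f_rc_10_3 lc_f_rc_10_3 lc_f_rc_5_3 lc_f_rc_19_5 lc_f_rc_14_3 lc_f_rc_22_1 lc_f_rc_14_3 lc_f_rc_21_1 lc_f_rc_14_3 lc_f_rc_17_3) (@D3.rec (fun _ => (Cert rels S Gen.f)) lc_f_rc_10_1 lc_f_rc_5_1 lc_f_rc_10_3 lc_f_rc_19_3 lc_f_rc_10_1 lc_f_rc_10_3 lc_f_rc_20_1 lc_f_rc_5_1 lc_f_rc_17_3 lc_f_rc_17_3 lc_f_rc_17_1 lc_f_rc_10_3 lc_f_rc_19_1 lc_f_rc_19_5 lc_f_rc_5_3 lc_f_rc_17_3 lc_f_rc_22_1 lc_f_rc_10_1 lc_f_rc_21_1 lc_f_rc_10_1 lc_f_rc_10_1 lc_f_rc_14_1 lc_f_rc_21_1 lc_f_rc_19_3 lc_f_rc_20_1 lc_f_rc_19_3 lc_f_rc_20_1 lc_f_rc_10_3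 lc_f_rc_22_1 lc_f_rc_21_1 lc_f_rc_19_5 lc_f_rc_22_1 lc_f_rc_5_3 lc_f_rc_21_1 lc_f_rc_21_1 lc_f_rc_14_3 lc_f_rc_19_5 lc_f_rc_21_1 lc_f_rc_10_1 lc_f_rc_19_3 lc_f_rc_17_1 lc_f_rc_14_3 lc_f_rc_17_3 lc_f_rc_14_1 lc_f_rc_14_3 lc_f_rc_19_5 lc_f_rc_14_3 lc_f_rc_17_3 lc_f_rc_14_1 lc_f_rc_17_3 lc_f_rc_10_3 lc_f_rc_10_1 lc_f_rc_20_1 lc_f_rc_20_1 lc_f_rc_20_1 lc_f_rc_17_3 lc_f_rc_20_1 lc_f_rc_21_1 lc_f_rc_20_1 lc_f_rc_20_1 lc_f_rc_17_1 lc_f_rc_20_1) (@D3.rec (fun _ => (Cert rels S Gen.f)) lc_f_rc_19_5 lc_f_rc_20_1 lc_f_rc_21_1 lc_f_rc_20_1 lc_f_rc_20_1 lc_f_rc_20_1 lc_f_rc_14_1 lc_f_rc_21_1 lc_f_rc_10_3 lc_f_rc_17_3 lc_f_rc_17_3 lc_f_rc_10_3 lc_f_rc_14_1 lc_f_rc_10_3 lc_f_rc_21_1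 lc_f_rc_10_1 lc_f_rc_20_1 lc_f_rc_19_5 lc_f_rc_19_3 lc_f_rc_21_1 lc_f_rc_20_1 lc_f_rc_17_3 lc_f_rc_19_5 lc_f_rc_20_1 lc_f_rc_19_1 lc_f_rc_14_1 lc_f_rc_19_1 lc_f_rc_17_1 lc_f_rc_19_5 lc_f_rc_19_3 lc_f_rc_17_3 lc_f_rc_10_3 lc_f_rc_17_3 lc_f_rc_17_3 lc_f_rc_19_1 lc_f_rc_20_1 lc_f_rc_17_1 lc_f_rc_22_1 lc_f_rc_17_3 lc_f_rc_22_1 lc_f_rc_22_1 lc_f_rc_5_1 lc_f_rc_19_5 lc_f_rc_5_3 lc_f_rc_14_3 lc_f_rc_10_1 lc_f_rc_19_5 lc_f_rc_10_1 lc_f_rc_19_3 lc_f_rc_14_3 lc_f_rc_20_1 lc_f_rc_14_3 lc_f_rc_21_1 lc_f_rc_14_3 lc_f_rc_21_1 lc_f_rc_10_3 lc_f_rc_17_3 lc_f_rc_14_3 lc_f_rc_17_3 lc_f_rc_14_1 lc_f_rc_14_3 lc_f_rc_14_3) (@D3.rec (fun _ => (Cert rels S Gen.f)) lc_f_rc_10_3 lc_f_rc_14_3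 lc_f_rc_22_1 lc_f_rc_10_1 lc_f_rc_10_3 lc_f_rc_14_3 lc_f_rc_19_1 lc_f_rc_19_5 lc_f_rc_5_3 lc_f_rc_5_1 lc_f_rc_10_3 lc_f_rc_17_3 lc_f_rc_14_3 lc_f_rc_14_3 lc_f_rc_20_1 lc_f_rc_19_3 lc_f_rc_17_3 lc_f_rc_17_3 lc_f_rc_20_1 lc_f_rc_17_3 lc_f_rc_19_3 lc_f_rc_20_1 lc_f_rc_14_3 lc_f_rc_10_1 lc_f_rc_14_3 lc_f_rc_14_3 lc_f_rc_17_1 lc_f_rc_14_1 lc_f_rc_17_3 lc_f_rc_17_1 lc_f_rc_17_3 lc_f_rc_17_3 lc_f_rc_19_5 lc_f_rc_20_1 lc_f_rc_17_3 lc_f_rc_10_3 lc_f_rc_10_3 lc_f_rc_17_3 lc_f_rc_14_3 lc_f_rc_20_1 lc_f_rc_5_1 lc_f_rc_21_1 lc_f_rc_14_3 lc_f_rc_22_1 lc_f_rc_20_1 lc_f_rc_21_1 lc_f_rc_17_3 lc_f_rc_20_1 lc_f_rc_5_3 lc_f_rc_19_3 lc_f_rc_10_3 lc_f_rc_22_1 lc_f_rc_17_3 lc_f_rc_20_1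 lc_f_rc_10_3 lc_f_rc_5_1 lc_f_rc_22_1 lc_f_rc_14_3 lc_f_rc_20_1 lc_f_rc_20_1 lc_f_rc_14_1 lc_f_rc_5_3) (@D3.rec (fun _ => (Cert rels S Gen.f)) lc_f_rc_10_1 lc_f_rc_10_3 lc_f_rc_14_3 lc_f_rc_14_3 lc_f_rc_17_3 lc_f_rc_21_1 lc_f_rc_10_1 lc_f_rc_10_1 lc_f_rc_5_3 lc_f_rc_22_1 lc_f_rc_20_1 lc_f_rc_5_3 lc_f_rc_20_1 lc_f_rc_21_1 lc_f_rc_19_3 lc_f_rc_14_3 lc_f_rc_20_1 lc_f_rc_19_3 lc_f_rc_22_1 lc_f_rc_10_3 lc_f_rc_14_3 lc_f_rc_19_3 lc_f_rc_17_3 lc_f_rc_14_3 lc_f_rc_21_1 lc_f_rc_14_3 lc_f_rc_17_3 lc_f_rc_10_1 lc_f_rc_21_1 lc_f_rc_20_1 lc_f_rc_20_1 lc_f_rc_10_1 lc_f_rc_20_1 lc_f_rc_14_3 lc_f_rc_14_3 lc_f_rc_14_1 lc_f_rc_10_3 lc_f_rc_10_3 lc_f_rc_10_3 lc_f_rc_19_3 lc_f_rc_10_3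 lc_f_rc_10_1 lc_f_rc_22_1 lc_f_rc_14_1 lc_f_rc_21_1 lc_f_rc_14_3 lc_f_rc_10_3 lc_f_rc_14_3 lc_f_rc_17_3 lc_f_rc_19_5 lc_f_rc_14_1 lc_f_rc_14_3 lc_f_rc_14_3 lc_f_rc_17_1 lc_f_rc_20_1 lc_f_rc_22_1 lc_f_rc_20_1 lc_f_rc_21_1 lc_f_rc_14_3 lc_f_rc_14_3 lc_f_rc_10_3 lc_f_rc_10_3) (@D3.rec (fun _ => (Cert rels S Gen.f)) lc_f_rc_17_3 lc_f_rc_21_1 lc_f_rc_10_3 lc_f_rc_19_5 lc_f_rc_17_3 lc_f_rc_21_1 lc_f_rc_17_3 lc_f_rc_5_3 lc_f_rc_20_1 lc_f_rc_21_1 lc_f_rc_14_1 lc_f_rc_14_3 lc_f_rc_5_3 lc_f_rc_14_3 lc_f_rc_10_3 lc_f_rc_20_1 lc_f_rc_10_3 lc_f_rc_21_1 lc_f_rc_17_3 lc_f_rc_14_3 lc_f_rc_22_1 lc_f_rc_10_3 lc_f_rc_21_1 lc_f_rc_20_1 lc_f_rc_14_3 lc_f_rc_20_1 lc_f_rc_21_1 lc_f_rc_17_3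 lc_f_rc_21_1 lc_f_rc_20_1 lc_f_rc_14_3 lc_f_rc_10_3 lc_f_rc_10_3 lc_f_rc_10_3 lc_f_rc_17_3 lc_f_rc_10_1 lc_f_rc_17_3 lc_f_rc_14_3 lc_f_rc_10_3 lc_f_rc_19_3 lc_f_rc_19_1 lc_f_rc_14_3 lc_f_rc_21_1 lc_f_rc_14_1 lc_f_rc_17_1 lc_f_rc_10_1 lc_f_rc_19_5 lc_f_rc_20_1 lc_f_rc_14_3 lc_f_rc_5_1 lc_f_rc_17_1 lc_f_rc_20_1 lc_f_rc_22_1 lc_f_rc_14_3 lc_f_rc_14_1 lc_f_rc_14_3 lc_f_rc_5_3 lc_f_rc_20_1 lc_f_rc_17_3 lc_f_rc_5_3 lc_f_rc_22_1 lc_f_rc_14_3) (@D3.rec (fun _ => (Cert rels S Gen.f)) lc_f_rc_14_1 lc_f_rc_20_1 lc_f_rc_5_3 lc_f_rc_10_3 lc_f_rc_10_3 lc_f_rc_19_1 lc_f_rc_17_3 lc_f_rc_22_1 lc_f_rc_5_3 lc_f_rc_17_3 lc_f_rc_14_3 lc_f_rc_10_3 lc_f_rc_10_1 lc_f_rc_14_1 lc_f_rc_17_3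 lc_f_rc_17_1 lc_f_rc_19_5 lc_f_rc_10_3 lc_f_rc_10_3 lc_f_rc_10_3 lc_f_rc_17_3 lc_f_rc_20_1 lc_f_rc_20_1 lc_f_rc_20_1 lc_f_rc_20_1 lc_f_Cert_tree lc_f_rc_20_1 lc_f_rc_10_3 lc_f_rc_14_1 lc_f_rc_17_3 lc_f_rc_17_3 lc_f_rc_10_3 lc_f_rc_22_1 lc_f_rc_21_1 lc_f_rc_19_3 lc_f_rc_21_1 lc_f_rc_20_1 lc_f_rc_20_1 lc_f_rc_14_3 lc_f_rc_21_1 lc_f_rc_5_3 lc_f_rc_22_1 lc_f_rc_10_3 lc_f_rc_21_1 lc_f_rc_19_3 lc_f_rc_19_5 lc_f_rc_10_1 lc_f_rc_5_3 lc_f_rc_10_1 lc_f_rc_10_3 lc_f_rc_14_3 lc_f_rc_19_1 lc_f_rc_22_1 lc_f_rc_14_3 lc_f_rc_10_3 lc_f_rc_21_1 lc_f_rc_14_3 lc_f_rc_19_5 lc_f_rc_5_3 lc_f_rc_17_3 lc_f_rc_20_1 lc_f_rc_10_1) (@D3.rec (fun _ => (Cert rels S Gen.f)) lc_f_rc_19_5 lc_f_rc_19_1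 lc_f_rc_14_3 lc_f_rc_19_3 lc_f_rc_19_1 lc_f_rc_21_1 lc_f_rc_17_1 lc_f_rc_20_1 lc_f_rc_10_1 lc_f_rc_17_3 lc_f_rc_17_3 lc_f_Cert_tree lc_f_rc_10_3 lc_f_rc_10_3 lc_f_rc_5_3 lc_f_rc_17_3 lc_f_rc_14_1 lc_f_rc_21_1 lc_f_rc_5_1 lc_f_rc_20_1 lc_f_rc_22_1 lc_f_rc_17_3 lc_f_rc_17_3 lc_f_rc_10_3 lc_f_rc_5_3 lc_f_rc_17_3 lc_f_rc_10_1 lc_f_rc_10_1 lc_f_rc_21_1 lc_f_rc_14_1 lc_f_rc_14_3 lc_f_rc_17_3 lc_f_rc_20_1 lc_f_rc_10_3 lc_f_rc_21_1 lc_f_rc_17_3 lc_f_rc_21_1 lc_f_rc_19_5 lc_f_rc_14_3 lc_f_rc_14_3 lc_f_rc_19_5 lc_f_rc_22_1 lc_f_rc_10_3 lc_f_rc_21_1 lc_f_rc_14_1 lc_f_rc_10_3 lc_f_rc_10_1 lc_f_rc_14_1 lc_f_rc_17_3 lc_f_rc_10_3 lc_f_rc_19_3 lc_f_rc_14_1 lc_f_rc_19_3 lc_f_rc_14_1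 lc_f_rc_21_1 lc_f_rc_14_3 lc_f_rc_10_1 lc_f_rc_14_3 lc_f_rc_5_3 lc_f_rc_10_3 lc_f_rc_10_3 lc_f_rc_14_3) (@D3.rec (fun _ => (Cert rels S Gen.f)) lc_f_rc_10_1 lc_f_rc_14_1 lc_f_rc_14_3 lc_f_rc_14_1 lc_f_rc_14_1 lc_f_rc_14_3 lc_f_rc_5_3 lc_f_rc_21_1 lc_f_rc_14_1 lc_f_rc_14_3 lc_f_rc_19_1 lc_f_rc_10_3 lc_f_rc_19_5 lc_f_rc_19_5 lc_f_rc_5_3 lc_f_rc_17_3 lc_f_rc_17_3 lc_f_rc_14_3 lc_f_rc_17_3 lc_f_rc_10_3 lc_f_rc_17_3 lc_f_rc_10_1 lc_f_rc_14_3 lc_f_rc_10_1 lc_f_rc_14_3 lc_f_rc_14_3 lc_f_rc_14_1 lc_f_rc_10_3 lc_f_rc_10_1 lc_f_rc_17_3 lc_f_rc_19_1 lc_f_rc_10_3 lc_f_rc_17_3 lc_f_rc_19_1 lc_f_rc_14_3 lc_f_rc_17_1 lc_f_rc_14_3 lc_f_rc_20_1 lc_f_rc_14_3 lc_f_rc_5_3 lc_f_rc_17_3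 lc_f_rc_5_3 lc_f_rc_14_1 lc_f_rc_17_3 lc_f_rc_22_1 lc_f_rc_20_1 lc_f_Cert_tree lc_f_rc_20_1 lc_f_rc_20_1 lc_f_rc_20_1 lc_f_rc_10_1 lc_f_rc_17_3 lc_f_rc_21_1 lc_f_rc_14_3 lc_f_rc_10_3 lc_f_rc_14_1 lc_f_rc_14_1 lc_f_rc_5_3 lc_f_rc_20_1 lc_f_rc_14_1 lc_f_rc_19_5 lc_f_rc_10_3) (@D3.rec (fun _ => (Cert rels S Gen.f)) lc_f_rc_14_3 lc_f_rc_14_3 lc_f_rc_20_1 lc_f_rc_17_3 lc_f_rc_17_3 lc_f_rc_20_1 lc_f_rc_14_1 lc_f_rc_10_1 lc_f_rc_20_1 lc_f_rc_20_1 lc_f_rc_17_1 lc_f_rc_20_1 lc_f_rc_10_3 lc_f_rc_19_5 lc_f_rc_14_1 lc_f_rc_20_1 lc_f_rc_21_1 lc_f_rc_20_1 lc_f_rc_14_3 lc_f_rc_14_3 lc_f_rc_14_3 lc_f_rc_10_3 lc_f_rc_20_1 lc_f_rc_14_3 lc_f_rc_19_3 lc_f_rc_14_1 lc_f_rc_19_1 lc_f_rc_5_1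 lc_f_rc_10_3 lc_f_rc_17_3 lc_f_rc_14_3 lc_f_rc_14_3 lc_f_rc_14_3 lc_f_rc_21_1 lc_f_rc_10_1 lc_f_rc_5_3 lc_f_rc_19_1 lc_f_rc_21_1 lc_f_rc_20_1 lc_f_rc_19_5 lc_f_rc_17_3 lc_f_rc_10_1 lc_f_rc_20_1 lc_f_rc_10_3 lc_f_rc_17_3 lc_f_rc_10_1 lc_f_rc_17_1 lc_f_rc_10_3 lc_f_rc_21_1 lc_f_rc_14_3 lc_f_rc_5_1 lc_f_rc_14_3 lc_f_rc_14_1 lc_f_rc_22_1 lc_f_rc_14_3 lc_f_rc_17_3 lc_f_rc_14_3 lc_f_rc_5_1 lc_f_rc_10_1 lc_f_rc_19_3 lc_f_rc_21_1 lc_f_rc_10_3) (@D3.rec (fun _ => (Cert rels S Gen.f)) lc_f_rc_20_1 lc_f_rc_10_3 lc_f_rc_19_5 lc_f_rc_10_1 lc_f_rc_10_3 lc_f_rc_17_3 lc_f_rc_5_3 lc_f_rc_10_3 lc_f_rc_19_5 lc_f_rc_5_1 lc_f_rc_5_1 lc_f_rc_10_3 lc_f_rc_19_3 lc_f_rc_14_1 lc_f_rc_20_1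 lc_f_rc_17_1 lc_f_rc_14_1 lc_f_rc_5_3 lc_f_rc_20_1 lc_f_Cert_tree lc_f_rc_17_3 lc_f_rc_19_5 lc_f_rc_22_1 lc_f_rc_20_1 lc_f_rc_20_1 lc_f_rc_17_3 lc_f_rc_19_5 lc_f_rc_5_3 lc_f_rc_21_1 lc_f_rc_19_3 lc_f_rc_20_1 lc_f_rc_19_3 lc_f_rc_19_5 lc_f_rc_17_3 lc_f_rc_14_3 lc_f_rc_14_3 lc_f_rc_5_3 lc_f_rc_22_1 lc_f_rc_14_1 lc_f_rc_17_1 lc_f_rc_20_1 lc_f_rc_14_1 lc_f_rc_10_3 lc_f_rc_20_1 lc_f_rc_14_1 lc_f_rc_10_3 lc_f_rc_5_1 lc_f_rc_19_5 lc_f_rc_17_1 lc_f_rc_19_5 lc_f_rc_21_1 lc_f_rc_10_3 lc_f_rc_14_3 lc_f_rc_21_1 lc_f_rc_21_1 lc_f_rc_5_3 lc_f_rc_20_1 lc_f_rc_20_1 lc_f_rc_19_1 lc_f_rc_10_3 lc_f_rc_21_1 lc_f_rc_10_1) (@D3.rec (fun _ => (Cert rels S Gen.f)) lc_f_rc_19_3 lc_f_rc_10_3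 lc_f_rc_5_3 lc_f_rc_5_1 lc_f_rc_5_1 lc_f_rc_14_1 lc_f_rc_10_3 lc_f_rc_14_1 lc_f_rc_10_3 lc_f_rc_14_3 lc_f_rc_20_1 lc_f_rc_10_1 lc_f_rc_14_3 lc_f_rc_10_3 lc_f_rc_22_1 lc_f_rc_22_1 lc_f_rc_10_1 lc_f_rc_20_1 lc_f_rc_14_3 lc_f_rc_21_1 lc_f_rc_17_1 lc_f_rc_10_3 lc_f_rc_22_1 lc_f_rc_17_1 lc_f_rc_10_1 lc_f_rc_17_3 lc_f_rc_21_1 lc_f_rc_20_1 lc_f_rc_14_3 lc_f_rc_19_3 lc_f_rc_20_1 lc_f_rc_5_3 lc_f_rc_19_1 lc_f_rc_10_3 lc_f_rc_14_1 lc_f_rc_10_3 lc_f_rc_21_1 lc_f_rc_22_1 lc_f_rc_19_3 lc_f_rc_20_1 lc_f_rc_14_3 lc_f_rc_19_3 lc_f_rc_14_3 lc_f_rc_17_3 lc_f_rc_10_3 lc_f_rc_22_1 lc_f_rc_17_1 lc_f_rc_14_1 lc_f_rc_20_1 lc_f_rc_20_1 lc_f_rc_20_1 lc_f_rc_19_3 lc_f_rc_20_1 lc_f_rc_17_3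 lc_f_rc_14_3 lc_f_rc_17_1 lc_f_rc_17_3 lc_f_rc_14_1 lc_f_rc_10_1 lc_f_rc_17_1 lc_f_rc_14_3 lc_f_rc_5_3) (@D3.rec (fun _ => (Cert rels S Gen.f)) lc_f_rc_10_3 lc_f_rc_22_1 lc_f_rc_21_1 lc_f_rc_10_3 lc_f_rc_14_3 lc_f_rc_14_3 lc_f_rc_20_1 lc_f_rc_17_1 lc_f_rc_17_3 lc_f_rc_17_3 lc_f_rc_20_1 lc_f_rc_10_3 lc_f_rc_14_3 lc_f_rc_19_5 lc_f_rc_14_1 lc_f_rc_17_1 lc_f_rc_22_1 lc_f_rc_20_1 lc_f_rc_10_3 lc_f_rc_21_1 lc_f_rc_19_5 lc_f_rc_5_3 lc_f_rc_17_1 lc_f_rc_10_3 lc_f_rc_19_5 lc_f_rc_10_3 lc_f_rc_5_3 lc_f_rc_17_3 lc_f_rc_14_3 lc_f_rc_17_3 lc_f_rc_14_3 lc_f_rc_14_3 lc_f_rc_21_1 lc_f_rc_14_3 lc_f_rc_10_1 lc_f_rc_17_3 lc_f_rc_19_1 lc_f_rc_22_1 lc_f_rc_10_3 lc_f_rc_17_1 lc_f_rc_17_3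 lc_f_rc_20_1 lc_f_rc_10_3 lc_f_rc_22_1 lc_f_rc_20_1 lc_f_rc_22_1 lc_f_rc_19_3 lc_f_rc_14_1 lc_f_rc_19_5 lc_f_rc_21_1 lc_f_rc_20_1 lc_f_rc_10_1 lc_f_rc_17_3 lc_f_rc_22_1 lc_f_rc_10_3 lc_f_rc_10_3 lc_f_rc_17_3 lc_f_rc_14_1 lc_f_rc_20_1 lc_f_rc_17_1 lc_f_rc_17_1 lc_f_rc_10_3) (@D3.rec (fun _ => (Cert rels S Gen.f)) lc_f_rc_20_1 lc_f_rc_17_3 lc_f_rc_21_1 lc_f_rc_5_1 lc_f_rc_19_5 lc_f_rc_21_1 lc_f_rc_14_3 lc_f_rc_14_3 lc_f_rc_10_3 lc_f_rc_14_3 lc_f_rc_21_1 lc_f_rc_20_1 lc_f_rc_10_1 lc_f_rc_22_1 lc_f_rc_20_1 lc_f_rc_20_1 lc_f_rc_17_3 lc_f_Cert_tree lc_f_rc_10_3 lc_f_rc_19_3 lc_f_rc_19_3 lc_f_rc_5_1 lc_f_rc_20_1 lc_f_rc_17_3 lc_f_rc_10_3 lc_f_rc_17_3 lc_f_rc_14_1 lc_f_rc_20_1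 lc_f_rc_21_1 lc_f_rc_20_1 lc_f_rc_20_1 lc_f_rc_14_1 lc_f_rc_14_1 lc_f_rc_14_1 lc_f_rc_14_3 lc_f_rc_17_1 lc_f_rc_14_1 lc_f_rc_22_1 lc_f_rc_20_1 lc_f_rc_22_1 lc_f_rc_20_1 lc_f_rc_17_3 lc_f_rc_21_1 lc_f_rc_5_3 lc_f_rc_10_3 lc_f_rc_5_3 lc_f_rc_10_3 lc_f_rc_10_3 lc_f_rc_14_1 lc_f_rc_17_3 lc_f_rc_21_1 lc_f_rc_5_3 lc_f_rc_5_3 lc_f_rc_17_3 lc_f_rc_21_1 lc_f_rc_20_1 lc_f_rc_14_3 lc_f_rc_17_3 lc_f_rc_22_1 lc_f_rc_17_3 lc_f_rc_22_1 lc_f_Cert_tree) (@D3.rec (fun _ => (Cert rels S Gen.f)) lc_f_rc_5_1 lc_f_rc_21_1 lc_f_rc_21_1 lc_f_rc_19_3 lc_f_rc_19_5 lc_f_rc_5_3 lc_f_rc_14_1 lc_f_rc_10_3 lc_f_rc_14_3 lc_f_rc_5_1 lc_f_rc_19_3 lc_f_rc_17_3 lc_f_rc_20_1 lc_f_rc_10_3 lc_f_rc_21_1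 lc_f_rc_20_1 lc_f_rc_21_1 lc_f_rc_14_1 lc_f_rc_20_1 lc_f_rc_20_1 lc_f_rc_20_1 lc_f_rc_14_1 lc_f_rc_5_1 lc_f_rc_17_3 lc_f_rc_19_3 lc_f_rc_20_1 lc_f_rc_22_1 lc_f_rc_20_1 lc_f_rc_10_3 lc_f_rc_10_3 lc_f_rc_20_1 lc_f_rc_19_1 lc_f_rc_21_1 lc_f_rc_19_3 lc_f_rc_14_3 lc_f_rc_21_1 lc_f_rc_21_1 lc_f_rc_20_1 lc_f_rc_19_5 lc_f_rc_20_1 lc_f_rc_5_3 lc_f_rc_5_1 lc_f_rc_14_3 lc_f_rc_17_3 lc_f_rc_14_3 lc_f_rc_20_1 lc_f_rc_10_3 lc_f_rc_14_3 lc_f_rc_21_1 lc_f_rc_14_3 lc_f_rc_20_1 lc_f_rc_5_1 lc_f_rc_14_3 lc_f_rc_17_3 lc_f_rc_17_3 lc_f_rc_19_5 lc_f_rc_10_3 lc_f_rc_17_3 lc_f_rc_17_1 lc_f_rc_10_1 lc_f_rc_17_1 lc_f_rc_19_3) (@D3.rec (fun _ => (Cert rels S Gen.f)) lc_f_rc_19_5 lc_f_rc_19_3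 lc_f_rc_10_1 lc_f_rc_17_1 lc_f_rc_21_1 lc_f_rc_14_3 lc_f_rc_17_3 lc_f_rc_19_3 lc_f_rc_21_1 lc_f_rc_20_1 lc_f_rc_17_1 lc_f_rc_19_1 lc_f_rc_10_3 lc_f_rc_17_3 lc_f_rc_17_3 lc_f_rc_5_1 lc_f_rc_21_1 lc_f_rc_19_3 lc_f_rc_20_1 lc_f_rc_17_3 lc_f_rc_14_3 lc_f_rc_14_3 lc_f_rc_20_1 lc_f_rc_21_1 lc_f_rc_20_1 lc_f_rc_17_3 lc_f_rc_19_3 lc_f_rc_10_1 lc_f_rc_14_3 lc_f_rc_20_1 lc_f_rc_10_3 lc_f_rc_14_3 lc_f_rc_14_1 lc_f_rc_17_1 lc_f_rc_20_1 lc_f_rc_14_1 lc_f_rc_20_1 lc_f_rc_14_3 lc_f_rc_22_1 lc_f_rc_20_1 lc_f_rc_5_1 lc_f_rc_5_1 lc_f_rc_20_1 lc_f_rc_17_3 lc_f_rc_14_3 lc_f_rc_20_1 lc_f_rc_17_1 lc_f_rc_10_3 lc_f_rc_17_3 lc_f_rc_19_3 lc_f_rc_20_1 lc_f_rc_14_1 lc_f_rc_17_3 lc_f_rc_14_3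 lc_f_rc_10_1 lc_f_rc_14_3 lc_f_rc_17_3 lc_f_rc_10_3 lc_f_rc_20_1 lc_f_rc_14_3 lc_f_rc_17_1 lc_f_rc_22_1) (@D3.rec (fun _ => (Cert rels S Gen.f)) lc_f_rc_14_3 lc_f_rc_20_1 lc_f_rc_21_1 lc_f_rc_10_3 lc_f_rc_5_3 lc_f_rc_10_3 lc_f_rc_14_3 lc_f_rc_21_1 lc_f_rc_10_3 lc_f_rc_5_3 lc_f_rc_14_3 lc_f_rc_17_3 lc_f_rc_21_1 lc_f_rc_19_5 lc_f_rc_21_1 lc_f_rc_14_3 lc_f_rc_14_1 lc_f_rc_17_3 lc_f_rc_5_1 lc_f_rc_14_3 lc_f_rc_10_3 lc_f_rc_14_3 lc_f_rc_10_3 lc_f_rc_19_1 lc_f_rc_10_1 lc_f_rc_10_3 lc_f_rc_14_3 lc_f_rc_17_3 lc_f_rc_14_3 lc_f_rc_19_3 lc_f_rc_14_3 lc_f_rc_17_1 lc_f_rc_21_1 lc_f_rc_20_1 lc_f_rc_19_5 lc_f_rc_20_1 lc_f_rc_14_3 lc_f_rc_5_3 lc_f_rc_14_3 lc_f_rc_10_1 lc_f_rc_17_3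 lc_f_rc_17_3 lc_f_rc_10_3 lc_f_rc_21_1 lc_f_rc_14_3 lc_f_rc_5_3 lc_f_rc_17_1 lc_f_rc_17_3 lc_f_rc_10_3 lc_f_rc_14_3 lc_f_rc_17_3 lc_f_rc_14_3 lc_f_rc_21_1 lc_f_rc_21_1 lc_f_rc_17_1 lc_f_rc_19_3 lc_f_rc_10_3 lc_f_rc_17_3 lc_f_rc_17_3 lc_f_rc_10_3 lc_f_rc_22_1 lc_f_rc_21_1) (@D3.rec (fun _ => (Cert rels S Gen.f)) lc_f_rc_10_1 lc_f_rc_17_3 lc_f_rc_21_1 lc_f_rc_14_3 lc_f_rc_17_1 lc_f_rc_21_1 lc_f_rc_10_1 lc_f_rc_14_3 lc_f_rc_19_3 lc_f_rc_14_3 lc_f_rc_20_1 lc_f_rc_19_5 lc_f_rc_14_1 lc_f_rc_17_3 lc_f_rc_10_1 lc_f_rc_17_1 lc_f_rc_14_1 lc_f_rc_10_3 lc_f_rc_10_3 lc_f_rc_10_3 lc_f_rc_17_3 lc_f_rc_10_3 lc_f_rc_21_1 lc_f_rc_20_1 lc_f_rc_14_3 lc_f_rc_10_3 lc_f_rc_10_1 lc_f_rc_14_3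 lc_f_rc_14_3 lc_f_rc_5_1 lc_f_rc_14_3 lc_f_rc_17_3 lc_f_rc_10_3 lc_f_rc_17_3 lc_f_rc_14_3 lc_f_rc_17_3 lc_f_rc_10_3 lc_f_rc_17_3 lc_f_rc_22_1 lc_f_rc_22_1 lc_f_rc_14_3 lc_f_rc_22_1 lc_f_rc_19_3 lc_f_rc_21_1 lc_f_rc_10_3 lc_f_rc_22_1 lc_f_rc_5_1 lc_f_rc_10_3 lc_f_rc_14_3 lc_f_rc_21_1 lc_f_rc_5_1 lc_f_rc_17_3 lc_f_rc_19_5 lc_f_rc_20_1 lc_f_rc_5_3 lc_f_rc_14_3 lc_f_rc_17_3 lc_f_rc_17_3 lc_f_rc_21_1 lc_f_rc_10_3 lc_f_rc_17_3 lc_f_rc_22_1) (@D3.rec (fun _ => (Cert rels S Gen.f)) lc_f_rc_5_3 lc_f_rc_14_1 lc_f_rc_19_5 lc_f_rc_22_1 lc_f_rc_17_3 lc_f_rc_5_1 lc_f_rc_22_1 lc_f_rc_17_3 lc_f_rc_14_3 lc_f_rc_10_1 lc_f_rc_17_3 lc_f_rc_5_3 lc_f_rc_14_3 lc_f_rc_14_3 lc_f_rc_21_1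 lc_f_rc_17_3 lc_f_rc_17_3 lc_f_rc_14_3 lc_f_rc_5_1 lc_f_rc_5_3 lc_f_rc_17_3 lc_f_rc_21_1 lc_f_rc_20_1 lc_f_rc_14_3 lc_f_rc_22_1 lc_f_rc_14_1 lc_f_rc_14_1 lc_f_rc_19_1 lc_f_rc_14_3 lc_f_rc_10_3 lc_f_rc_17_3 lc_f_rc_20_1 lc_f_rc_20_1 lc_f_rc_14_3 lc_f_rc_14_3 lc_f_rc_17_3 lc_f_rc_14_3 lc_f_rc_20_1 lc_f_rc_21_1 lc_f_rc_14_3 lc_f_rc_17_3 lc_f_Cert_tree lc_f_rc_14_3 lc_f_rc_21_1 lc_f_rc_20_1 lc_f_rc_19_5 lc_f_rc_21_1 lc_f_rc_14_3 lc_f_rc_5_3 lc_f_rc_17_3 lc_f_rc_21_1 lc_f_rc_21_1 lc_f_rc_20_1 lc_f_rc_14_3 lc_f_rc_10_3 lc_f_rc_17_3 lc_f_rc_22_1 lc_f_rc_20_1 lc_f_rc_5_1 lc_f_rc_21_1 lc_f_rc_20_1 lc_f_rc_14_3) (@D3.rec (fun _ => (Cert rels S Gen.f)) lc_f_rc_14_3 lc_f_rc_14_1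 lc_f_rc_17_3 lc_f_rc_19_3 lc_f_rc_17_3 lc_f_rc_17_1 lc_f_rc_5_1 lc_f_rc_20_1 lc_f_rc_5_1 lc_f_rc_14_3 lc_f_rc_17_3 lc_f_rc_19_1 lc_f_rc_17_3 lc_f_rc_21_1 lc_f_rc_14_3 lc_f_rc_21_1 lc_f_rc_5_1 lc_f_rc_10_3 lc_f_rc_21_1 lc_f_rc_10_1 lc_f_rc_17_3 lc_f_rc_10_3 lc_f_rc_20_1 lc_f_rc_17_3 lc_f_rc_17_1 lc_f_rc_17_1 lc_f_rc_10_1 lc_f_rc_21_1 lc_f_rc_19_1 lc_f_rc_14_3 lc_f_rc_14_3 lc_f_Cert_tree lc_f_rc_14_3 lc_f_rc_10_1 lc_f_rc_14_1 lc_f_rc_22_1 lc_f_rc_14_1 lc_f_rc_21_1 lc_f_rc_20_1 lc_f_rc_5_1 lc_f_rc_14_3 lc_f_rc_17_3 lc_f_rc_20_1 lc_f_rc_21_1 lc_f_rc_10_3 lc_f_rc_20_1 lc_f_rc_20_1 lc_f_rc_5_1 lc_f_rc_17_3 lc_f_rc_10_1 lc_f_rc_14_3 lc_f_rc_17_1 lc_f_rc_14_1 lc_f_rc_20_1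 lc_f_rc_14_1 lc_f_rc_5_1 lc_f_rc_17_3 lc_f_rc_20_1 lc_f_rc_14_1 lc_f_rc_14_3 lc_f_rc_20_1 lc_f_rc_10_3) (@D3.rec (fun _ => (Cert rels S Gen.f)) lc_f_rc_10_3 lc_f_rc_10_3 lc_f_rc_14_3 lc_f_rc_19_5 lc_f_rc_19_5 lc_f_rc_22_1 lc_f_rc_19_5 lc_f_rc_14_3 lc_f_rc_14_3 lc_f_rc_14_3 lc_f_rc_19_3 lc_f_rc_20_1 lc_f_rc_20_1 lc_f_rc_10_3 lc_f_rc_17_3 lc_f_rc_21_1 lc_f_rc_17_3 lc_f_rc_14_3 lc_f_rc_5_3 lc_f_rc_17_3 lc_f_rc_21_1 lc_f_rc_10_3 lc_f_rc_20_1 lc_f_rc_14_1 lc_f_rc_21_1 lc_f_rc_20_1 lc_f_rc_17_3 lc_f_rc_10_3 lc_f_rc_14_3 lc_f_rc_19_1 lc_f_rc_10_3 lc_f_rc_14_1 lc_f_rc_21_1 lc_f_rc_20_1 lc_f_rc_20_1 lc_f_rc_17_3 lc_f_rc_14_1 lc_f_rc_21_1 lc_f_rc_20_1 lc_f_rc_22_1 lc_f_rc_19_1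 lc_f_rc_20_1 lc_f_rc_20_1 lc_f_rc_10_3 lc_f_rc_14_3 lc_f_rc_10_1 lc_f_rc_17_3 lc_f_rc_5_1 lc_f_rc_20_1 lc_f_rc_20_1 lc_f_rc_17_1 lc_f_rc_20_1 lc_f_rc_20_1 lc_f_rc_17_3 lc_f_rc_21_1 lc_f_rc_19_1 lc_f_rc_17_1 lc_f_rc_19_5 lc_f_rc_14_3 lc_f_rc_14_3 lc_f_rc_20_1 lc_f_rc_14_3) (@D3.rec (fun _ => (Cert rels S Gen.f)) lc_f_rc_17_3 lc_f_rc_14_3 lc_f_rc_5_1 lc_f_rc_14_3 lc_f_rc_22_1 lc_f_rc_5_3 lc_f_rc_10_3 lc_f_rc_19_3 lc_f_rc_20_1 lc_f_rc_14_3 lc_f_rc_17_3 lc_f_rc_21_1 lc_f_rc_20_1 lc_f_rc_19_1 lc_f_rc_14_3 lc_f_rc_14_1 lc_f_rc_20_1 lc_f_rc_20_1 lc_f_rc_10_3 lc_f_rc_17_3 lc_f_rc_14_3 lc_f_rc_14_1 lc_f_rc_10_1 lc_f_rc_14_3 lc_f_rc_10_1 lc_f_rc_22_1 lc_f_rc_14_1 lc_f_rc_14_3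 lc_f_rc_20_1 lc_f_rc_17_3 lc_f_rc_20_1 lc_f_rc_10_1 lc_f_rc_10_3 lc_f_rc_17_3 lc_f_rc_17_3 lc_f_rc_22_1 lc_f_rc_14_3 lc_f_rc_19_3 lc_f_rc_21_1 lc_f_rc_17_1 lc_f_rc_17_3 lc_f_rc_20_1 lc_f_rc_17_3 lc_f_rc_20_1 lc_f_rc_14_3 lc_f_rc_20_1 lc_f_rc_21_1 lc_f_rc_17_3 lc_f_rc_10_3 lc_f_rc_20_1 lc_f_rc_21_1 lc_f_rc_17_3 lc_f_rc_17_3 lc_f_rc_5_1 lc_f_rc_20_1 lc_f_rc_17_3 lc_f_rc_10_3 lc_f_rc_14_1 lc_f_rc_19_3 lc_f_rc_20_1 lc_f_rc_14_3 lc_f_rc_14_3) (@D3.rec (fun _ => (Cert rels S Gen.f)) lc_f_rc_20_1 lc_f_rc_14_3 lc_f_rc_17_3 lc_f_rc_14_3 lc_f_rc_14_3 lc_f_rc_10_3 lc_f_rc_10_3 lc_f_rc_10_1 lc_f_rc_17_1 lc_f_rc_20_1 lc_f_rc_21_1 lc_f_rc_14_3 lc_f_rc_21_1 lc_f_rc_17_3 lc_f_rc_20_1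 lc_f_rc_5_3 lc_f_rc_20_1 lc_f_rc_21_1 lc_f_rc_17_3 lc_f_rc_21_1 lc_f_rc_20_1 lc_f_rc_14_1 lc_f_rc_19_3 lc_f_rc_21_1 lc_f_rc_21_1 lc_f_rc_10_3 lc_f_rc_14_3 lc_f_rc_10_1 lc_f_rc_17_1 lc_f_rc_19_3 lc_f_rc_20_1 lc_f_rc_21_1 lc_f_rc_10_1 lc_f_rc_20_1 lc_f_rc_5_1 lc_f_rc_17_3 lc_f_rc_20_1 lc_f_rc_5_1 lc_f_rc_20_1 lc_f_rc_17_3 lc_f_rc_14_3 lc_f_rc_21_1 lc_f_rc_21_1 lc_f_rc_21_1 lc_f_rc_20_1 lc_f_rc_5_3 lc_f_rc_20_1 lc_f_rc_5_3 lc_f_rc_14_3 lc_f_rc_21_1 lc_f_rc_20_1 lc_f_rc_14_1 lc_f_rc_20_1 lc_f_rc_14_3 lc_f_rc_17_3 lc_f_rc_10_1 lc_f_rc_14_3 lc_f_rc_14_3 lc_f_rc_17_3 lc_f_rc_14_1 lc_f_rc_19_3 lc_f_rc_10_3) (@D3.rec (fun _ => (Cert rels S Gen.f)) lc_f_rc_20_1 lc_f_rc_20_1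 lc_f_rc_20_1 lc_f_rc_14_3 lc_f_rc_5_1 lc_f_rc_10_3 lc_f_rc_14_3 lc_f_rc_20_1 lc_f_rc_10_1 lc_f_rc_17_3 lc_f_rc_22_1 lc_f_rc_14_1 lc_f_rc_21_1 lc_f_rc_20_1 lc_f_rc_20_1 lc_f_rc_19_3 lc_f_rc_14_1 lc_f_rc_10_3 lc_f_rc_14_3 lc_f_Cert_tree lc_f_rc_22_1 lc_f_rc_20_1 lc_f_rc_5_3 lc_f_rc_14_3 lc_f_Cert_tree lc_f_rc_14_3 lc_f_rc_14_3 lc_f_rc_14_1 lc_f_rc_10_1 lc_f_rc_10_3 lc_f_rc_20_1 lc_f_rc_10_3 lc_f_rc_10_1 lc_f_rc_5_3 lc_f_rc_20_1 lc_f_rc_20_1 lc_f_rc_14_3 lc_f_rc_14_3 lc_f_rc_10_1 lc_f_rc_5_3 lc_f_rc_20_1 lc_f_rc_14_1 lc_f_rc_20_1 lc_f_rc_20_1 lc_f_rc_17_3 lc_f_rc_21_1 lc_f_rc_17_3 lc_f_rc_20_1 lc_f_rc_10_1 lc_f_rc_10_3 lc_f_rc_19_1 lc_f_rc_17_3 lc_f_rc_5_1 lc_f_rc_20_1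 lc_f_rc_20_1 lc_f_rc_20_1 lc_f_rc_14_3 lc_f_rc_14_3 lc_f_rc_14_3 lc_f_rc_10_3 lc_f_rc_10_1 lc_f_rc_20_1) (@D3.rec (fun _ => (Cert rels S Gen.f)) lc_f_rc_5_3 lc_f_rc_5_1 lc_f_rc_14_1 lc_f_rc_14_1 lc_f_rc_14_1 lc_f_rc_20_1 lc_f_rc_10_3 lc_f_rc_20_1 lc_f_rc_17_3 lc_f_rc_14_1 lc_f_rc_10_1 lc_f_rc_17_3 lc_f_rc_14_1 lc_f_rc_19_5 lc_f_rc_20_1 lc_f_rc_14_1 lc_f_rc_14_3 lc_f_rc_14_1 lc_f_rc_17_3 lc_f_rc_19_3 lc_f_rc_19_3 lc_f_rc_20_1 lc_f_rc_17_1 lc_f_rc_19_3 lc_f_rc_10_3 lc_f_rc_14_3 lc_f_rc_10_1 lc_f_rc_20_1 lc_f_rc_19_3 lc_f_rc_17_3 lc_f_rc_5_1 lc_f_rc_17_3 lc_f_rc_5_1 lc_f_rc_17_3 lc_f_rc_14_3 lc_f_rc_5_1 lc_f_rc_14_3 lc_f_rc_20_1 lc_f_rc_5_1 lc_f_rc_10_1 lc_f_rc_14_3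 lc_f_Cert_tree lc_f_rc_14_1 lc_f_rc_22_1 lc_f_rc_10_3 lc_f_rc_17_3 lc_f_rc_10_3 lc_f_rc_17_3 lc_f_rc_19_5 lc_f_rc_5_1 lc_f_rc_10_3 lc_f_rc_21_1 lc_f_rc_14_3 lc_f_rc_14_1 lc_f_rc_14_1 lc_f_rc_20_1 lc_f_rc_14_3 lc_f_rc_19_3 lc_f_rc_21_1 lc_f_rc_14_1 lc_f_rc_17_3 lc_f_rc_20_1) (@D3.rec (fun _ => (Cert rels S Gen.f)) lc_f_rc_20_1 lc_f_rc_14_3 lc_f_rc_20_1 lc_f_rc_21_1 lc_f_rc_14_1 lc_f_Cert_tree lc_f_rc_20_1 lc_f_rc_20_1 lc_f_rc_21_1 lc_f_rc_22_1 lc_f_rc_10_1 lc_f_rc_21_1 lc_f_rc_17_1 lc_f_rc_19_3 lc_f_rc_19_5 lc_f_rc_10_3 lc_f_rc_10_3 lc_f_rc_20_1 lc_f_rc_14_3 lc_f_rc_21_1 lc_f_rc_14_3 lc_f_rc_10_3 lc_f_rc_19_3 lc_f_rc_17_3 lc_f_rc_20_1 lc_f_rc_17_3 lc_f_rc_17_3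 lc_f_rc_17_3 lc_f_rc_21_1 lc_f_rc_19_5 lc_f_rc_17_3 lc_f_rc_20_1 lc_f_rc_17_3 lc_f_rc_5_1 lc_f_rc_17_1 lc_f_rc_17_3 lc_f_rc_10_3 lc_f_rc_20_1 lc_f_rc_14_3 lc_f_rc_5_3 lc_f_rc_14_1 lc_f_rc_19_5 lc_f_rc_14_3 lc_f_rc_10_3 lc_f_rc_19_1 lc_f_rc_14_1 lc_f_rc_10_1 lc_f_rc_14_3 lc_f_rc_17_3 lc_f_rc_21_1 lc_f_rc_5_1 lc_f_rc_10_1 lc_f_rc_14_3 lc_f_rc_17_3 lc_f_rc_19_1 lc_f_rc_5_3 lc_f_rc_22_1 lc_f_rc_20_1 lc_f_rc_14_1 lc_f_rc_19_3 lc_f_rc_20_1 lc_f_Cert_tree) (@D3.rec (fun _ => (Cert rels S Gen.f)) lc_f_rc_14_1 lc_f_rc_20_1 lc_f_rc_20_1 lc_f_rc_10_3 lc_f_rc_14_3 lc_f_rc_19_3 lc_f_rc_21_1 lc_f_rc_20_1 lc_f_rc_19_1 lc_f_rc_21_1 lc_f_rc_14_3 lc_f_rc_20_1 lc_f_rc_14_1 lc_f_rc_19_1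 lc_f_rc_14_1 lc_f_rc_10_1 lc_f_rc_5_3 lc_f_rc_20_1 lc_f_rc_10_3 lc_f_rc_14_3 lc_f_rc_14_3 lc_f_rc_10_3 lc_f_rc_14_3 lc_f_rc_14_3 lc_f_rc_14_3 lc_f_rc_20_1 lc_f_rc_21_1 lc_f_rc_5_1 lc_f_Cert_tree lc_f_rc_17_3 lc_f_rc_20_1 lc_f_rc_10_3 lc_f_rc_14_1 lc_f_rc_10_3 lc_f_rc_22_1 lc_f_rc_20_1 lc_f_rc_19_5 lc_f_rc_19_5 lc_f_rc_10_1 lc_f_rc_17_3 lc_f_rc_10_1 lc_f_rc_20_1 lc_f_rc_21_1 lc_f_rc_19_5 lc_f_rc_14_1 lc_f_rc_21_1 lc_f_rc_20_1 lc_f_rc_20_1 lc_f_rc_5_3 lc_f_rc_19_3 lc_f_rc_17_3 lc_f_rc_17_3 lc_f_rc_20_1 lc_f_rc_19_3 lc_f_rc_10_3 lc_f_rc_21_1 lc_f_rc_21_1 lc_f_rc_17_3 lc_f_rc_17_3 lc_f_rc_20_1 lc_f_rc_20_1 lc_f_rc_10_3) (@D3.rec (fun _ => (Cert rels S Gen.f)) lc_f_rc_20_1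 lc_f_rc_21_1 lc_f_rc_17_3 lc_f_rc_14_3 lc_f_rc_10_3 lc_f_rc_21_1 lc_f_rc_22_1 lc_f_rc_17_3 lc_f_rc_17_1 lc_f_rc_20_1 lc_f_rc_14_3 lc_f_rc_10_3 lc_f_rc_14_3 lc_f_rc_14_3 lc_f_rc_5_1 lc_f_rc_10_3 lc_f_rc_17_1 lc_f_rc_17_1 lc_f_rc_21_1 lc_f_rc_20_1 lc_f_rc_17_3 lc_f_rc_17_3 lc_f_rc_14_1 lc_f_rc_21_1 lc_f_rc_20_1 lc_f_rc_20_1 lc_f_Cert_tree lc_f_rc_10_3 lc_f_rc_22_1 lc_f_rc_20_1 lc_f_rc_10_3 lc_f_rc_10_3 lc_f_rc_21_1 lc_f_rc_14_1 lc_f_rc_20_1 lc_f_rc_14_1 lc_f_rc_21_1 lc_f_rc_20_1 lc_f_rc_14_1 lc_f_rc_19_3 lc_f_rc_14_1 lc_f_rc_21_1 lc_f_rc_10_3 lc_f_rc_20_1 lc_f_rc_14_3 lc_f_rc_19_5 lc_f_rc_10_1 lc_f_rc_10_3 lc_f_rc_21_1 lc_f_rc_22_1 lc_f_rc_14_1 lc_f_rc_20_1 lc_f_rc_19_3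 lc_f_rc_17_3 lc_f_rc_10_3 lc_f_rc_17_3 lc_f_rc_10_3 lc_f_rc_10_3 lc_f_rc_22_1 lc_f_rc_21_1 lc_f_rc_19_3 lc_f_rc_10_3) (@D3.rec (fun _ => (Cert rels S Gen.f)) lc_f_rc_14_3 lc_f_rc_21_1 lc_f_rc_21_1 lc_f_rc_20_1 lc_f_rc_5_3 lc_f_rc_17_1 lc_f_rc_20_1 lc_f_rc_19_5 lc_f_rc_19_5 lc_f_rc_17_3 lc_f_rc_14_3 lc_f_rc_10_1 lc_f_rc_17_3 lc_f_rc_14_3 lc_f_Cert_tree lc_f_rc_20_1 lc_f_Cert_tree lc_f_rc_14_3 lc_f_rc_10_3 lc_f_rc_14_3 lc_f_rc_17_3 lc_f_rc_10_1 lc_f_rc_19_3 lc_f_rc_19_3 lc_f_rc_5_3 lc_f_rc_19_3 lc_f_rc_14_1 lc_f_rc_10_3 lc_f_rc_5_1 lc_f_rc_20_1 lc_f_rc_21_1 lc_f_rc_20_1 lc_f_rc_14_3 lc_f_rc_17_3 lc_f_rc_17_3 lc_f_rc_21_1 lc_f_rc_5_1 lc_f_rc_21_1 lc_f_rc_17_1 lc_f_rc_20_1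 lc_f_rc_19_1 lc_f_rc_21_1 lc_f_rc_20_1 lc_f_rc_10_3 lc_f_rc_14_3 lc_f_rc_20_1 lc_f_rc_22_1 lc_f_rc_19_5 lc_f_rc_14_3 lc_f_rc_17_3 lc_f_rc_20_1 lc_f_rc_20_1 lc_f_rc_20_1 lc_f_rc_14_3 lc_f_rc_20_1 lc_f_rc_14_1 lc_f_rc_17_3 lc_f_rc_5_1 lc_f_rc_20_1 lc_f_rc_20_1 lc_f_rc_21_1 lc_f_rc_5_1) (@D3.rec (fun _ => (Cert rels S Gen.f)) lc_f_rc_14_1 lc_f_rc_14_3 lc_f_rc_17_3 lc_f_rc_10_1 lc_f_rc_10_3 lc_f_rc_10_3 lc_f_rc_14_3 lc_f_rc_14_3 lc_f_rc_19_3 lc_f_rc_10_1 lc_f_rc_5_3 lc_f_rc_10_3 lc_f_rc_14_3 lc_f_rc_21_1 lc_f_rc_10_3 lc_f_rc_14_1 lc_f_rc_20_1 lc_f_rc_14_3 lc_f_rc_14_3 lc_f_rc_19_1 lc_f_rc_19_3 lc_f_rc_17_3 lc_f_rc_10_3 lc_f_rc_14_3 lc_f_rc_19_3 lc_f_rc_21_1 lc_f_rc_20_1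 lc_f_rc_14_3 lc_f_rc_10_3 lc_f_rc_20_1 lc_f_rc_14_3 lc_f_rc_17_3 lc_f_rc_17_1 lc_f_rc_21_1 lc_f_rc_20_1 lc_f_rc_20_1 lc_f_rc_10_3 lc_f_rc_20_1 lc_f_rc_10_3 lc_f_rc_21_1 lc_f_rc_19_3 lc_f_rc_17_3 lc_f_rc_17_3 lc_f_rc_14_3 lc_f_rc_14_3 lc_f_rc_10_3 lc_f_rc_20_1 lc_f_rc_21_1 lc_f_rc_21_1 lc_f_rc_5_3 lc_f_rc_17_1 lc_f_rc_20_1 lc_f_rc_20_1 lc_f_rc_14_3 lc_f_rc_17_3 lc_f_rc_20_1 lc_f_rc_21_1 lc_f_rc_10_3 lc_f_rc_20_1 lc_f_rc_20_1 lc_f_rc_17_3 lc_f_rc_10_1) (@D3.rec (fun _ => (Cert rels S Gen.f)) lc_f_rc_20_1 lc_f_rc_21_1 lc_f_rc_19_3 lc_f_rc_17_1 lc_f_rc_19_1 lc_f_rc_14_1 lc_f_rc_17_3 lc_f_rc_20_1 lc_f_rc_10_3 lc_f_rc_14_3 lc_f_rc_20_1 lc_f_rc_5_1 lc_f_rc_14_3 lc_f_rc_14_1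 lc_f_rc_5_1 lc_f_rc_17_3 lc_f_rc_10_1 lc_f_rc_10_3 lc_f_rc_14_1 lc_f_rc_17_3 lc_f_rc_21_1 lc_f_rc_19_5 lc_f_rc_21_1 lc_f_rc_22_1 lc_f_rc_5_3 lc_f_rc_22_1 lc_f_rc_21_1 lc_f_rc_10_1 lc_f_rc_10_1 lc_f_rc_14_1 lc_f_rc_14_1 lc_f_rc_10_3 lc_f_rc_17_1 lc_f_rc_14_3 lc_f_rc_14_1 lc_f_rc_19_1 lc_f_rc_21_1 lc_f_rc_20_1 lc_f_rc_14_3 lc_f_rc_22_1 lc_f_rc_10_3 lc_f_rc_17_3 lc_f_rc_14_3 lc_f_rc_14_3 lc_f_rc_19_3 lc_f_rc_21_1 lc_f_rc_20_1 lc_f_rc_21_1 lc_f_rc_20_1 lc_f_rc_14_3 lc_f_rc_17_3 lc_f_rc_22_1 lc_f_rc_21_1 lc_f_rc_17_1 lc_f_rc_17_1 lc_f_rc_14_3 lc_f_rc_20_1 lc_f_rc_10_3 lc_f_rc_19_5 lc_f_rc_10_3 lc_f_rc_19_3 lc_f_rc_21_1) (@D3.rec (fun _ => (Cert rels S Gen.f)) lc_f_rc_22_1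 lc_f_rc_21_1 lc_f_rc_21_1 lc_f_rc_10_3 lc_f_rc_14_1 lc_f_rc_14_1 lc_f_rc_14_1 lc_f_rc_21_1 lc_f_rc_14_3 lc_f_rc_20_1 lc_f_rc_14_3 lc_f_rc_22_1 lc_f_rc_10_3 lc_f_rc_14_1 lc_f_rc_5_1 lc_f_rc_20_1 lc_f_rc_19_3 lc_f_rc_5_1 lc_f_rc_20_1 lc_f_rc_19_3 lc_f_rc_14_3 lc_f_rc_5_1 lc_f_rc_10_3 lc_f_rc_14_3 lc_f_rc_21_1 lc_f_rc_17_3 lc_f_rc_10_3 lc_f_rc_20_1 lc_f_rc_17_3 lc_f_rc_20_1 lc_f_rc_17_3 lc_f_rc_20_1 lc_f_rc_17_3 lc_f_rc_21_1 lc_f_rc_20_1 lc_f_rc_19_1 lc_f_rc_21_1 lc_f_rc_20_1 lc_f_rc_14_3 lc_f_rc_19_3 lc_f_rc_17_3 lc_f_rc_19_3 lc_f_rc_14_3 lc_f_rc_14_1 lc_f_rc_10_3 lc_f_rc_14_3 lc_f_rc_22_1 lc_f_rc_10_3 lc_f_rc_14_3 lc_f_rc_17_3 lc_f_rc_14_3 lc_f_rc_17_3 lc_f_rc_20_1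 lc_f_rc_10_3 lc_f_rc_5_1 lc_f_rc_20_1 lc_f_rc_20_1 lc_f_rc_17_3 lc_f_rc_14_3 lc_f_rc_5_1 lc_f_rc_17_3 lc_f_rc_19_3) (@D3.rec (fun _ => (Cert rels S Gen.f)) lc_f_rc_21_1 lc_f_rc_20_1 lc_f_rc_21_1 lc_f_rc_22_1 lc_f_rc_21_1 lc_f_rc_20_1 lc_f_rc_10_3 lc_f_rc_10_3 lc_f_rc_10_1 lc_f_rc_10_3 lc_f_rc_19_1 lc_f_rc_22_1 lc_f_rc_5_1 lc_f_rc_20_1 lc_f_rc_10_1 lc_f_rc_19_5 lc_f_rc_14_3 lc_f_rc_19_5 lc_f_rc_21_1 lc_f_rc_20_1 lc_f_rc_20_1 lc_f_rc_17_3 lc_f_rc_17_1 lc_f_rc_14_1 lc_f_rc_20_1 lc_f_rc_10_3 lc_f_rc_10_3 lc_f_rc_20_1 lc_f_rc_5_1 lc_f_rc_10_1 lc_f_rc_14_1 lc_f_rc_10_1 lc_f_rc_17_3 lc_f_rc_14_1 lc_f_rc_17_1 lc_f_rc_21_1 lc_f_rc_20_1 lc_f_rc_10_3 lc_f_rc_14_1 lc_f_rc_17_3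 lc_f_rc_5_3 lc_f_rc_21_1 lc_f_rc_20_1 lc_f_rc_17_1 lc_f_rc_20_1 lc_f_rc_10_3 lc_f_rc_14_1 lc_f_rc_20_1 lc_f_rc_14_3 lc_f_rc_14_1 lc_f_rc_21_1 lc_f_rc_5_3 lc_f_rc_10_1 lc_f_rc_21_1 lc_f_rc_14_1 lc_f_rc_19_3 lc_f_rc_20_1 lc_f_rc_14_1 lc_f_rc_10_3 lc_f_rc_10_3 lc_f_rc_20_1 lc_f_rc_10_3) (@D3.rec (fun _ => (Cert rels S Gen.f)) lc_f_rc_21_1 lc_f_rc_5_3 lc_f_rc_22_1 lc_f_rc_14_1 lc_f_rc_20_1 lc_f_rc_20_1 lc_f_rc_14_3 lc_f_rc_20_1 lc_f_rc_14_3 lc_f_rc_20_1 lc_f_rc_10_3 lc_f_rc_5_1 lc_f_rc_17_3 lc_f_rc_21_1 lc_f_rc_20_1 lc_f_rc_22_1 lc_f_rc_17_1 lc_f_rc_21_1 lc_f_rc_20_1 lc_f_rc_10_3 lc_f_rc_17_3 lc_f_rc_17_3 lc_f_rc_20_1 lc_f_rc_17_1 lc_f_rc_17_3 lc_f_rc_14_3 lc_f_rc_20_1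 lc_f_rc_21_1 lc_f_rc_20_1 lc_f_rc_17_3 lc_f_rc_17_3 lc_f_rc_17_1 lc_f_rc_10_3 lc_f_rc_17_3 lc_f_rc_10_1 lc_f_rc_19_3 lc_f_rc_17_3 lc_f_rc_20_1 lc_f_rc_14_1 lc_f_rc_20_1 lc_f_rc_10_3 lc_f_rc_19_3 lc_f_rc_14_3 lc_f_rc_17_1 lc_f_rc_5_1 lc_f_rc_14_3 lc_f_rc_21_1 lc_f_rc_5_3 lc_f_rc_5_3 lc_f_rc_20_1 lc_f_rc_5_1 lc_f_rc_14_1 lc_f_rc_17_3 lc_f_rc_20_1 lc_f_rc_17_1 lc_f_rc_20_1 lc_f_rc_20_1 lc_f_rc_19_1 lc_f_rc_20_1 lc_f_rc_17_1 lc_f_rc_14_3 lc_f_rc_20_1) (@D3.rec (fun _ => (Cert rels S Gen.f)) lc_f_rc_19_5 lc_f_rc_10_3 lc_f_rc_20_1 lc_f_rc_14_1 lc_f_rc_20_1 lc_f_rc_21_1 lc_f_rc_14_1 lc_f_rc_20_1 lc_f_rc_10_3 lc_f_rc_10_1 lc_f_rc_5_1 lc_f_rc_10_3 lc_f_rc_20_1 lc_f_rc_14_3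 lc_f_rc_14_3 lc_f_rc_20_1 lc_f_rc_19_3 lc_f_rc_14_3 lc_f_rc_17_1 lc_f_rc_10_3 lc_f_rc_20_1 lc_f_rc_10_1 lc_f_rc_21_1 lc_f_rc_20_1 lc_f_rc_19_5 lc_f_rc_20_1 lc_f_rc_14_3 lc_f_rc_19_5 lc_f_rc_21_1 lc_f_rc_20_1 lc_f_rc_14_3 lc_f_rc_21_1 lc_f_rc_20_1 lc_f_rc_5_3 lc_f_rc_21_1 lc_f_rc_10_3 lc_f_rc_20_1 lc_f_rc_17_1 lc_f_rc_10_1 lc_f_rc_10_1 lc_f_rc_17_3 lc_f_rc_21_1 lc_f_rc_17_3 lc_f_rc_21_1 lc_f_rc_14_1 lc_f_rc_19_5 lc_f_rc_17_1 lc_f_rc_17_3 lc_f_rc_17_3 lc_f_rc_5_1 lc_f_rc_10_3 lc_f_rc_19_5 lc_f_rc_22_1 lc_f_rc_5_3 lc_f_rc_21_1 lc_f_rc_10_3 lc_f_rc_20_1 lc_f_rc_14_1 lc_f_rc_19_5 lc_f_rc_5_3 lc_f_rc_17_3 lc_f_rc_17_3) (@D3.rec (fun _ => (Cert rels S Gen.f)) lc_f_rc_14_3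 lc_f_rc_14_3 lc_f_rc_17_3 lc_f_rc_10_3 lc_f_rc_10_3 lc_f_rc_10_1 lc_f_rc_20_1 lc_f_rc_14_3 lc_f_rc_10_1 lc_f_rc_21_1 lc_f_rc_19_5 lc_f_rc_10_1 lc_f_rc_19_5 lc_f_rc_17_1 lc_f_rc_20_1 lc_f_rc_10_3 lc_f_rc_19_5 lc_f_rc_10_3 lc_f_rc_17_3 lc_f_rc_20_1 lc_f_rc_20_1 lc_f_rc_5_3 lc_f_rc_22_1 lc_f_rc_22_1 lc_f_rc_20_1 lc_f_rc_22_1 lc_f_rc_22_1 lc_f_rc_21_1 lc_f_rc_19_3 lc_f_rc_19_5 lc_f_rc_17_3 lc_f_rc_20_1 lc_f_rc_17_1 lc_f_rc_10_3 lc_f_rc_14_1 lc_f_rc_5_3 lc_f_rc_5_1 lc_f_rc_10_1 lc_f_rc_21_1 lc_f_rc_20_1 lc_f_rc_5_1 lc_f_rc_20_1 lc_f_rc_5_1 lc_f_rc_19_3 lc_f_rc_19_1 lc_f_rc_5_1 lc_f_rc_10_1 lc_f_rc_17_1 lc_f_rc_19_5 lc_f_rc_17_1 lc_f_rc_19_5 lc_f_rc_17_3 lc_f_rc_19_1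 lc_f_rc_19_3 lc_f_rc_14_1 lc_f_rc_17_3 lc_f_rc_14_1 lc_f_rc_19_3 lc_f_rc_14_1 lc_f_rc_17_3 lc_f_rc_21_1 lc_f_rc_5_1) (@D3.rec (fun _ => (Cert rels S Gen.f)) lc_f_rc_19_5 lc_f_rc_14_1 lc_f_rc_14_1 lc_f_rc_17_1 lc_f_rc_21_1 lc_f_rc_21_1 lc_f_rc_19_3 lc_f_rc_14_3 lc_f_rc_10_3 lc_f_rc_19_5 lc_f_rc_14_3 lc_f_rc_20_1 lc_f_rc_5_1 lc_f_rc_21_1 lc_f_rc_21_1 lc_f_rc_20_1 lc_f_rc_17_3 lc_f_rc_20_1 lc_f_rc_14_3 lc_f_rc_17_3 lc_f_rc_17_3 lc_f_rc_20_1 lc_f_rc_14_3 lc_f_rc_14_3 lc_f_rc_17_1 lc_f_rc_10_3 lc_f_rc_14_3 lc_f_rc_5_3 lc_f_rc_17_1 lc_f_rc_20_1 lc_f_rc_10_1 lc_f_rc_21_1 lc_f_rc_5_3 lc_f_rc_10_1 lc_f_rc_17_1 lc_f_rc_21_1 lc_f_rc_20_1 lc_f_rc_14_3 lc_f_Cert_tree lc_f_rc_19_3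 lc_f_rc_17_3 lc_f_rc_14_1 lc_f_rc_21_1 lc_f_rc_10_1 lc_f_rc_20_1 lc_f_rc_21_1 lc_f_rc_10_1 lc_f_rc_10_3 lc_f_rc_14_3 lc_f_rc_17_3 lc_f_rc_21_1 lc_f_rc_21_1 lc_f_rc_17_3 lc_f_rc_19_3 lc_f_rc_17_3 lc_f_rc_17_3 lc_f_rc_17_1 lc_f_rc_19_3 lc_f_rc_21_1 lc_f_rc_21_1 lc_f_rc_20_1 lc_f_rc_17_3) (@D3.rec (fun _ => (Cert rels S Gen.f)) lc_f_rc_20_1 lc_f_rc_14_3 lc_f_rc_14_3 lc_f_rc_14_3 lc_f_rc_14_3 lc_f_rc_17_3 lc_f_rc_10_3 lc_f_rc_10_3 lc_f_rc_14_3 lc_f_rc_14_3 lc_f_rc_14_3 lc_f_rc_19_5 lc_f_rc_21_1 lc_f_rc_19_3 lc_f_rc_21_1 lc_f_rc_20_1 lc_f_rc_19_5 lc_f_rc_17_3 lc_f_rc_5_3 lc_f_rc_21_1 lc_f_rc_10_3 lc_f_rc_21_1 lc_f_rc_14_1 lc_f_rc_14_3 lc_f_rc_17_3 lc_f_rc_20_1 lc_f_rc_19_3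 lc_f_rc_10_3 lc_f_rc_14_3 lc_f_rc_17_3 lc_f_rc_10_1 lc_f_rc_19_3 lc_f_rc_10_3 lc_f_rc_20_1 lc_f_rc_5_3 lc_f_rc_10_1 lc_f_rc_17_1 lc_f_rc_20_1 lc_f_rc_19_3 lc_f_rc_14_1 lc_f_rc_10_3 lc_f_rc_17_3 lc_f_rc_20_1 lc_f_rc_14_3 lc_f_rc_14_3 lc_f_rc_14_1 lc_f_rc_10_1 lc_f_rc_14_3 lc_f_rc_5_3 lc_f_rc_14_3 lc_f_rc_10_3 lc_f_rc_19_3 lc_f_rc_5_1 lc_f_rc_10_3 lc_f_rc_10_3 lc_f_rc_5_3 lc_f_rc_17_3 lc_f_rc_19_5 lc_f_rc_14_3 lc_f_rc_20_1 lc_f_rc_10_3 lc_f_rc_19_1) (@D3.rec (fun _ => (Cert rels S Gen.f)) lc_f_rc_14_1 lc_f_rc_22_1 lc_f_rc_17_1 lc_f_rc_20_1 lc_f_rc_5_3 lc_f_rc_21_1 lc_f_rc_14_3 lc_f_rc_14_3 lc_f_rc_17_3 lc_f_rc_14_3 lc_f_rc_14_3 lc_f_rc_21_1 lc_f_rc_20_1 lc_f_rc_14_1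 lc_f_rc_14_1 lc_f_rc_17_3 lc_f_rc_20_1 lc_f_rc_14_3 lc_f_rc_10_1 lc_f_rc_19_3 lc_f_rc_22_1 lc_f_rc_5_1 lc_f_rc_5_3 lc_f_rc_14_3 lc_f_rc_20_1 lc_f_rc_5_1 lc_f_rc_14_1 lc_f_rc_21_1 lc_f_rc_17_3 lc_f_rc_20_1 lc_f_rc_20_1 lc_f_rc_21_1 lc_f_Cert_tree lc_f_rc_20_1 lc_f_rc_21_1 lc_f_rc_19_5 lc_f_rc_21_1 lc_f_rc_20_1 lc_f_rc_10_1 lc_f_rc_10_1 lc_f_rc_14_3 lc_f_rc_19_5 lc_f_rc_10_3 lc_f_rc_14_1 lc_f_rc_21_1 lc_f_rc_20_1 lc_f_rc_5_1 lc_f_rc_14_3 lc_f_rc_17_3 lc_f_rc_19_1 lc_f_rc_17_1 lc_f_rc_19_5 lc_f_rc_10_3 lc_f_rc_20_1 lc_f_rc_14_3 lc_f_rc_5_3 lc_f_rc_10_1 lc_f_rc_10_3 lc_f_rc_19_5 lc_f_rc_14_3 lc_f_rc_20_1 lc_f_rc_5_1) (@D3.rec (fun _ => (Cert rels S Gen.f)) lc_f_rc_14_3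 lc_f_rc_10_1 lc_f_rc_10_3 lc_f_rc_17_1 lc_f_rc_17_3 lc_f_rc_14_3 lc_f_rc_20_1 lc_f_rc_17_3 lc_f_rc_22_1 lc_f_rc_10_3 lc_f_rc_17_3 lc_f_rc_22_1 lc_f_rc_21_1 lc_f_rc_22_1 lc_f_rc_17_3 lc_f_rc_20_1 lc_f_rc_21_1 lc_f_rc_17_3 lc_f_rc_10_3 lc_f_rc_21_1 lc_f_rc_10_3 lc_f_rc_19_3 lc_f_rc_14_1 lc_f_rc_14_3 lc_f_rc_19_5 lc_f_rc_17_3 lc_f_rc_14_3 lc_f_rc_10_3 lc_f_rc_20_1 lc_f_rc_20_1 lc_f_rc_19_3 lc_f_rc_17_3 lc_f_rc_14_3 lc_f_rc_10_3 lc_f_rc_17_1 lc_f_rc_10_3 lc_f_rc_20_1 lc_f_rc_19_5 lc_f_rc_14_1 lc_f_rc_17_3 lc_f_rc_10_1 lc_f_rc_21_1 lc_f_rc_10_1 lc_f_rc_14_3 lc_f_rc_17_1 lc_f_rc_5_3 lc_f_rc_17_1 lc_f_rc_5_3 lc_f_rc_19_5 lc_f_rc_22_1 lc_f_rc_10_1 lc_f_rc_10_3 lc_f_rc_17_1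 lc_f_rc_21_1 lc_f_rc_19_5 lc_f_rc_17_3 lc_f_rc_21_1 lc_f_rc_21_1 lc_f_rc_21_1 lc_f_rc_22_1 lc_f_rc_19_5 lc_f_rc_10_3) (@D3.rec (fun _ => (Cert rels S Gen.f)) lc_f_rc_20_1 lc_f_rc_20_1 lc_f_rc_17_3 lc_f_rc_17_3 lc_f_rc_14_3 lc_f_rc_17_3 lc_f_rc_20_1 lc_f_rc_5_3 lc_f_rc_5_3 lc_f_rc_17_1 lc_f_rc_21_1 lc_f_rc_10_1 lc_f_rc_14_3 lc_f_rc_5_3 lc_f_rc_17_3 lc_f_rc_21_1 lc_f_rc_20_1 lc_f_rc_20_1 lc_f_rc_10_3 lc_f_rc_10_3 lc_f_rc_10_3 lc_f_rc_17_3 lc_f_rc_10_1 lc_f_rc_20_1 lc_f_rc_14_3 lc_f_rc_5_1 lc_f_rc_10_3 lc_f_rc_10_3 lc_f_rc_17_1 lc_f_rc_20_1 lc_f_rc_17_3 lc_f_rc_5_3 lc_f_rc_5_3 lc_f_rc_21_1 lc_f_rc_20_1 lc_f_rc_17_3 lc_f_rc_22_1 lc_f_rc_17_3 lc_f_rc_21_1 lc_f_rc_20_1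 lc_f_rc_14_3 lc_f_rc_17_3 lc_f_rc_5_3 lc_f_rc_10_3 lc_f_rc_14_3 lc_f_rc_10_3 lc_f_rc_21_1 lc_f_rc_21_1 lc_f_rc_14_3 lc_f_rc_19_5 lc_f_rc_20_1 lc_f_rc_21_1 lc_f_rc_20_1 lc_f_rc_5_1 lc_f_rc_20_1 lc_f_rc_21_1 lc_f_rc_5_3 lc_f_rc_20_1 lc_f_rc_19_3 lc_f_rc_17_3 lc_f_rc_19_5 lc_f_rc_20_1) (@D3.rec (fun _ => (Cert rels S Gen.f)) lc_f_rc_14_3 lc_f_rc_10_1 lc_f_rc_14_3 lc_f_rc_10_3 lc_f_rc_20_1 lc_f_rc_19_3 lc_f_rc_10_3 lc_f_rc_21_1 lc_f_rc_14_3 lc_f_rc_21_1 lc_f_rc_17_3 lc_f_rc_10_3 lc_f_rc_10_1 lc_f_rc_14_1 lc_f_rc_14_1 lc_f_rc_14_3 lc_f_rc_21_1 lc_f_rc_20_1 lc_f_rc_14_3 lc_f_rc_19_5 lc_f_rc_20_1 lc_f_rc_19_3 lc_f_rc_17_3 lc_f_rc_17_1 lc_f_rc_20_1 lc_f_rc_20_1 lc_f_rc_10_1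 lc_f_rc_20_1 lc_f_rc_17_3 lc_f_rc_17_3 lc_f_rc_19_3 lc_f_rc_17_3 lc_f_rc_5_3 lc_f_rc_21_1 lc_f_rc_17_3 lc_f_rc_10_3 lc_f_rc_22_1 lc_f_rc_14_1 lc_f_rc_14_3 lc_f_rc_20_1 lc_f_rc_10_3 lc_f_rc_14_3 lc_f_rc_21_1 lc_f_rc_20_1 lc_f_rc_20_1 lc_f_rc_10_3 lc_f_rc_20_1 lc_f_rc_14_3 lc_f_rc_10_3 lc_f_rc_17_3 lc_f_rc_19_5 lc_f_rc_17_3 lc_f_rc_21_1 lc_f_rc_14_3 lc_f_rc_19_3 lc_f_rc_14_3 lc_f_rc_17_3 lc_f_rc_22_1 lc_f_rc_21_1 lc_f_rc_17_3 lc_f_rc_10_3 lc_f_rc_10_3) (@D3.rec (fun _ => (Cert rels S Gen.f)) lc_f_rc_21_1 lc_f_rc_5_3 lc_f_rc_10_3 lc_f_rc_21_1 lc_f_rc_17_3 lc_f_rc_10_3 lc_f_rc_14_3 lc_f_rc_17_3 lc_f_rc_10_3 lc_f_rc_17_1 lc_f_rc_10_3 lc_f_rc_14_3 lc_f_rc_10_1 lc_f_rc_17_3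 lc_f_rc_14_3 lc_f_rc_5_1 lc_f_rc_21_1 lc_f_rc_20_1 lc_f_rc_14_1 lc_f_rc_17_3 lc_f_rc_5_3 lc_f_rc_17_1 lc_f_rc_19_5 lc_f_rc_21_1 lc_f_rc_20_1 lc_f_rc_14_3 lc_f_rc_17_1 lc_f_rc_10_3 lc_f_rc_10_1 lc_f_rc_14_1 lc_f_rc_21_1 lc_f_rc_20_1 lc_f_rc_20_1 lc_f_rc_10_1 lc_f_rc_20_1 lc_f_rc_21_1 lc_f_rc_17_3 lc_f_rc_21_1 lc_f_rc_17_3 lc_f_rc_10_3 lc_f_rc_5_1 lc_f_rc_17_1 lc_f_rc_17_3 lc_f_rc_20_1 lc_f_rc_5_1 lc_f_rc_10_3 lc_f_rc_5_1 lc_f_rc_14_3 lc_f_rc_19_3 lc_f_rc_21_1 lc_f_rc_19_5 lc_f_rc_22_1 lc_f_rc_5_1 lc_f_rc_14_3 lc_f_rc_17_3 lc_f_rc_19_3 lc_f_rc_10_3 lc_f_rc_17_1 lc_f_rc_17_3 lc_f_rc_21_1 lc_f_rc_17_3 lc_f_rc_17_1) (@D3.rec (fun _ => (Cert rels S Gen.f)) lc_f_rc_19_1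 lc_f_rc_17_1 lc_f_rc_17_1 lc_f_rc_14_3 lc_f_rc_20_1 lc_f_rc_17_1 lc_f_rc_14_3 lc_f_rc_14_3 lc_f_rc_14_3 lc_f_rc_10_3 lc_f_rc_19_5 lc_f_rc_17_3 lc_f_rc_14_1 lc_f_rc_19_3 lc_f_rc_5_3 lc_f_rc_14_3 lc_f_rc_17_1 lc_f_rc_20_1 lc_f_rc_19_3 lc_f_rc_21_1 lc_f_rc_10_3 lc_f_rc_5_3 lc_f_rc_14_1 lc_f_rc_17_3 lc_f_rc_22_1 lc_f_rc_20_1 lc_f_rc_5_1 lc_f_rc_17_3 lc_f_rc_5_3 lc_f_rc_17_3 lc_f_rc_19_5 lc_f_rc_10_1 lc_f_rc_19_3 lc_f_rc_5_1 lc_f_rc_17_3 lc_f_rc_17_3 lc_f_rc_21_1 lc_f_rc_19_5 lc_f_rc_10_1 lc_f_rc_14_3 lc_f_rc_10_3 lc_f_rc_5_3 lc_f_rc_5_3 lc_f_rc_20_1 lc_f_rc_19_5 lc_f_rc_19_1 lc_f_rc_17_3 lc_f_rc_10_3 lc_f_rc_14_3 lc_f_rc_19_3 lc_f_rc_20_1 lc_f_rc_21_1 lc_f_rc_10_3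 lc_f_rc_19_5 lc_f_rc_5_1 lc_f_rc_14_1 lc_f_rc_20_1 lc_f_rc_21_1 lc_f_rc_10_3 lc_f_rc_14_1 lc_f_rc_19_5 lc_f_rc_19_5) (@D3.rec (fun _ => (Cert rels S Gen.f)) lc_f_rc_20_1 lc_f_rc_19_5 lc_f_rc_19_3 lc_f_rc_17_3 lc_f_rc_5_3 lc_f_rc_14_1 lc_f_rc_10_1 lc_f_rc_5_1 lc_f_rc_10_1 lc_f_rc_17_3 lc_f_rc_20_1 lc_f_rc_17_1 lc_f_rc_14_3 lc_f_rc_10_1 lc_f_rc_10_3 lc_f_rc_17_3 lc_f_rc_10_1 lc_f_rc_14_3 lc_f_rc_20_1 lc_f_rc_22_1 lc_f_rc_19_1 lc_f_rc_21_1 lc_f_rc_20_1 lc_f_rc_19_5 lc_f_rc_10_3 lc_f_rc_14_3 lc_f_rc_22_1 lc_f_rc_14_3 lc_f_rc_14_3 lc_f_rc_10_3 lc_f_rc_14_1 lc_f_rc_21_1 lc_f_rc_14_3 lc_f_rc_14_1 lc_f_rc_10_3 lc_f_rc_17_1 lc_f_rc_14_3 lc_f_rc_20_1 lc_f_rc_21_1 lc_f_rc_14_3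 lc_f_rc_14_3 lc_f_rc_19_3 lc_f_rc_14_3 lc_f_rc_20_1 lc_f_rc_17_3 lc_f_rc_20_1 lc_f_rc_14_3 lc_f_rc_20_1 lc_f_rc_14_3 lc_f_rc_22_1 lc_f_rc_22_1 lc_f_rc_21_1 lc_f_rc_5_3 lc_f_rc_17_3 lc_f_rc_20_1 lc_f_rc_19_3 lc_f_rc_5_1 lc_f_rc_17_1 lc_f_rc_10_3 lc_f_rc_10_3 lc_f_rc_10_3 lc_f_rc_22_1) (@D3.rec (fun _ => (Cert rels S Gen.f)) lc_f_rc_14_3 lc_f_rc_5_3 lc_f_rc_21_1 lc_f_rc_17_3 lc_f_rc_14_3 lc_f_rc_17_1 lc_f_rc_5_1 lc_f_rc_5_3 lc_f_rc_17_3 lc_f_rc_10_1 lc_f_rc_5_1 lc_f_rc_10_1 lc_f_rc_22_1 lc_f_rc_20_1 lc_f_rc_17_3 lc_f_rc_20_1 lc_f_rc_14_3 lc_f_rc_19_3 lc_f_rc_5_1 lc_f_rc_14_3 lc_f_rc_17_3 lc_f_rc_20_1 lc_f_rc_14_3 lc_f_rc_21_1 lc_f_rc_14_3 lc_f_rc_10_1 lc_f_rc_21_1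 lc_f_rc_14_3 lc_f_rc_10_1 lc_f_rc_20_1 lc_f_rc_10_1 lc_f_rc_14_3 lc_f_rc_10_3 lc_f_rc_21_1 lc_f_rc_17_3 lc_f_rc_21_1 lc_f_rc_20_1 lc_f_rc_21_1 lc_f_rc_5_3 lc_f_rc_10_1 lc_f_rc_10_1 lc_f_rc_5_3 lc_f_rc_17_1 lc_f_rc_20_1 lc_f_rc_10_3 lc_f_rc_17_3 lc_f_rc_17_3 lc_f_rc_22_1 lc_f_rc_19_3 lc_f_rc_10_3 lc_f_rc_14_3 lc_f_rc_22_1 lc_f_rc_21_1 lc_f_rc_5_3 lc_f_rc_21_1 lc_f_rc_20_1 lc_f_rc_14_3 lc_f_rc_21_1 lc_f_rc_10_3 lc_f_rc_21_1 lc_f_rc_14_3 lc_f_rc_10_1) (@D3.rec (fun _ => (Cert rels S Gen.f)) lc_f_rc_19_1 lc_f_rc_17_3 lc_f_rc_10_3 lc_f_rc_19_5 lc_f_rc_14_3 lc_f_rc_5_3 lc_f_rc_21_1 lc_f_rc_17_1 lc_f_rc_14_3 lc_f_rc_17_3 lc_f_rc_14_1 lc_f_rc_20_1 lc_f_rc_22_1 lc_f_rc_14_3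 lc_f_rc_14_1 lc_f_rc_17_3 lc_f_rc_19_3 lc_f_rc_20_1 lc_f_rc_17_3 lc_f_rc_14_3 lc_f_rc_10_1 lc_f_rc_10_1 lc_f_rc_10_3 lc_f_rc_20_1 lc_f_rc_17_1 lc_f_rc_14_1 lc_f_rc_21_1 lc_f_rc_17_3 lc_f_rc_14_1 lc_f_rc_21_1 lc_f_rc_20_1 lc_f_rc_10_1 lc_f_rc_14_3 lc_f_rc_17_1 lc_f_rc_22_1 lc_f_rc_21_1 lc_f_rc_10_3 lc_f_rc_14_1 lc_f_rc_14_3 lc_f_rc_5_3 lc_f_rc_10_3 lc_f_rc_10_3 lc_f_rc_14_3 lc_f_rc_5_3 lc_f_rc_10_3 lc_f_rc_19_5 lc_f_rc_14_3 lc_f_rc_19_3 lc_f_rc_14_1 lc_f_rc_14_1 lc_f_rc_10_1 lc_f_rc_19_3 lc_f_rc_14_3 lc_f_rc_17_3 lc_f_rc_14_3 lc_f_rc_20_1 lc_f_rc_14_3 lc_f_rc_21_1 lc_f_rc_21_1 lc_f_rc_5_3 lc_f_rc_19_3 lc_f_rc_14_3) (@D3.rec (fun _ => (Cert rels S Gen.f)) lc_f_rc_14_3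 lc_f_rc_14_3 lc_f_rc_10_3 lc_f_rc_20_1 lc_f_rc_5_3 lc_f_rc_20_1 lc_f_rc_10_3 lc_f_rc_21_1 lc_f_rc_17_3 lc_f_rc_17_3 lc_f_rc_22_1 lc_f_rc_14_1 lc_f_rc_10_3 lc_f_rc_5_1 lc_f_rc_5_3 lc_f_rc_21_1 lc_f_rc_17_1 lc_f_rc_20_1 lc_f_rc_14_3 lc_f_rc_22_1 lc_f_rc_19_1 lc_f_rc_14_3 lc_f_rc_17_1 lc_f_rc_10_1 lc_f_rc_21_1 lc_f_rc_10_1 lc_f_rc_17_3 lc_f_rc_20_1 lc_f_rc_22_1 lc_f_rc_10_3 lc_f_rc_20_1 lc_f_rc_17_3 lc_f_rc_21_1 lc_f_rc_19_5 lc_f_rc_20_1 lc_f_rc_20_1 lc_f_rc_10_1 lc_f_rc_17_3 lc_f_rc_17_3 lc_f_rc_21_1 lc_f_rc_14_3 lc_f_rc_14_3 lc_f_rc_10_3 lc_f_rc_17_3 lc_f_rc_17_3 lc_f_rc_14_3 lc_f_rc_22_1 lc_f_rc_10_3 lc_f_rc_17_3 lc_f_rc_10_3 lc_f_rc_21_1 lc_f_rc_20_1 lc_f_rc_17_1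 lc_f_rc_10_3 lc_f_rc_19_3 lc_f_rc_17_3 lc_f_rc_20_1 lc_f_rc_21_1 lc_f_rc_5_3 lc_f_rc_21_1 lc_f_rc_17_1 lc_f_rc_20_1)
def ce_f_31 : D2 → D3 → (Cert rels S Gen.f) := @D2.rec (fun _ => D3 → (Cert rels S Gen.f)) (@D3.rec (fun _ => (Cert rels S Gen.f)) lc_f_rc_17_3 lc_f_rc_14_1 lc_f_rc_10_1 lc_f_rc_21_1 lc_f_rc_21_1 lc_f_rc_20_1 lc_f_rc_5_3 lc_f_rc_19_1 lc_f_rc_10_3 lc_f_rc_20_1 lc_f_rc_20_1 lc_f_rc_10_3 lc_f_rc_21_1 lc_f_rc_22_1 lc_f_rc_19_3 lc_f_rc_21_1 lc_f_rc_14_1 lc_f_rc_17_1 lc_f_rc_20_1 lc_f_rc_10_3 lc_f_rc_17_3 lc_f_rc_10_3 lc_f_rc_22_1 lc_f_rc_17_3 lc_f_rc_20_1 lc_f_rc_21_1 lc_f_rc_19_1 lc_f_rc_17_3 lc_f_rc_14_3 lc_f_rc_14_3 lc_f_rc_19_5 lc_f_rc_19_3 lc_f_rc_10_3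 lc_f_rc_14_3 lc_f_rc_14_3 lc_f_rc_20_1 lc_f_rc_20_1 lc_f_rc_14_1 lc_f_rc_14_3 lc_f_rc_17_3 lc_f_rc_10_3 lc_f_rc_14_1 lc_f_rc_10_1 lc_f_rc_22_1 lc_f_rc_17_3 lc_f_rc_10_3 lc_f_rc_5_3 lc_f_rc_19_3 lc_f_rc_21_1 lc_f_rc_20_1 lc_f_rc_10_1 lc_f_rc_20_1 lc_f_rc_19_3 lc_f_rc_14_1 lc_f_rc_14_1 lc_f_rc_5_1 lc_f_rc_14_1 lc_f_rc_22_1 lc_f_rc_17_3 lc_f_rc_5_3 lc_f_rc_10_1 lc_f_rc_10_3) (@D3.rec (fun _ => (Cert rels S Gen.f)) lc_f_rc_14_1 lc_f_rc_14_3 lc_f_rc_20_1 lc_f_rc_17_3 lc_f_rc_20_1 lc_f_rc_17_1 lc_f_rc_21_1 lc_f_rc_22_1 lc_f_rc_20_1 lc_f_rc_17_3 lc_f_rc_10_1 lc_f_rc_22_1 lc_f_rc_17_3 lc_f_rc_17_3 lc_f_rc_17_3 lc_f_rc_14_3 lc_f_rc_17_3 lc_f_rc_14_3 lc_f_rc_14_3 lc_f_rc_14_3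 lc_f_rc_17_3 lc_f_rc_21_1 lc_f_rc_14_1 lc_f_rc_10_3 lc_f_rc_22_1 lc_f_rc_5_3 lc_f_rc_19_5 lc_f_rc_19_5 lc_f_rc_22_1 lc_f_rc_14_3 lc_f_rc_21_1 lc_f_rc_14_1 lc_f_rc_5_1 lc_f_rc_19_3 lc_f_rc_19_1 lc_f_rc_21_1 lc_f_rc_10_1 lc_f_rc_22_1 lc_f_rc_10_3 lc_f_rc_10_3 lc_f_rc_20_1 lc_f_rc_17_3 lc_f_rc_10_3 lc_f_rc_14_1 lc_f_rc_20_1 lc_f_rc_14_3 lc_f_rc_20_1 lc_f_rc_20_1 lc_f_rc_14_3 lc_f_rc_14_3 lc_f_rc_19_1 lc_f_rc_17_1 lc_f_rc_14_3 lc_f_rc_21_1 lc_f_rc_17_3 lc_f_rc_21_1 lc_f_rc_10_3 lc_f_rc_19_3 lc_f_rc_14_1 lc_f_rc_5_1 lc_f_rc_14_3 lc_f_rc_14_1) (@D3.rec (fun _ => (Cert rels S Gen.f)) lc_f_rc_20_1 lc_f_rc_14_3 lc_f_rc_5_1 lc_f_rc_10_3 lc_f_rc_22_1 lc_f_rc_10_3 lc_f_rc_17_3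 lc_f_rc_10_1 lc_f_rc_19_3 lc_f_rc_14_1 lc_f_rc_17_3 lc_f_rc_19_3 lc_f_rc_21_1 lc_f_rc_20_1 lc_f_rc_10_3 lc_f_rc_5_3 lc_f_rc_19_3 lc_f_rc_20_1 lc_f_rc_19_5 lc_f_rc_20_1 lc_f_rc_17_3 lc_f_rc_17_3 lc_f_rc_17_3 lc_f_rc_17_3 lc_f_rc_17_3 lc_f_rc_20_1 lc_f_rc_14_3 lc_f_rc_19_3 lc_f_rc_10_3 lc_f_rc_19_3 lc_f_rc_14_3 lc_f_rc_17_3 lc_f_rc_20_1 lc_f_rc_20_1 lc_f_rc_17_3 lc_f_rc_5_3 lc_f_rc_14_3 lc_f_rc_14_3 lc_f_rc_21_1 lc_f_rc_22_1 lc_f_rc_19_1 lc_f_rc_10_3 lc_f_rc_19_5 lc_f_rc_20_1 lc_f_rc_20_1 lc_f_rc_19_5 lc_f_rc_5_3 lc_f_rc_17_1 lc_f_rc_20_1 lc_f_rc_19_5 lc_f_rc_20_1 lc_f_rc_20_1 lc_f_rc_17_3 lc_f_rc_14_3 lc_f_rc_20_1 lc_f_rc_19_5 lc_f_rc_20_1 lc_f_rc_17_3 lc_f_rc_10_3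 lc_f_rc_10_1 lc_f_rc_5_1 lc_f_rc_19_5) (@D3.rec (fun _ => (Cert rels S Gen.f)) lc_f_rc_21_1 lc_f_rc_10_3 lc_f_rc_14_3 lc_f_rc_17_1 lc_f_rc_14_3 lc_f_rc_10_1 lc_f_rc_10_1 lc_f_rc_19_5 lc_f_rc_14_3 lc_f_rc_20_1 lc_f_rc_10_3 lc_f_rc_17_1 lc_f_rc_21_1 lc_f_rc_14_3 lc_f_rc_5_3 lc_f_rc_14_3 lc_f_rc_20_1 lc_f_rc_10_1 lc_f_rc_14_3 lc_f_rc_10_3 lc_f_rc_10_3 lc_f_rc_21_1 lc_f_rc_14_3 lc_f_rc_20_1 lc_f_rc_20_1 lc_f_rc_21_1 lc_f_rc_14_1 lc_f_rc_5_3 lc_f_rc_17_3 lc_f_rc_19_3 lc_f_rc_14_1 lc_f_rc_14_1 lc_f_rc_14_3 lc_f_rc_10_3 lc_f_rc_14_3 lc_f_rc_14_3 lc_f_rc_21_1 lc_f_rc_14_3 lc_f_rc_17_3 lc_f_rc_14_1 lc_f_rc_10_3 lc_f_rc_20_1 lc_f_rc_5_3 lc_f_rc_14_3 lc_f_rc_17_3 lc_f_rc_5_3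 lc_f_rc_14_3 lc_f_rc_5_1 lc_f_rc_21_1 lc_f_rc_17_3 lc_f_rc_17_3 lc_f_rc_10_3 lc_f_rc_19_3 lc_f_rc_19_3 lc_f_rc_17_1 lc_f_rc_14_3 lc_f_rc_19_1 lc_f_rc_10_3 lc_f_rc_5_3 lc_f_rc_14_3 lc_f_rc_21_1 lc_f_rc_17_3) (@D3.rec (fun _ => (Cert rels S Gen.f)) lc_f_rc_10_3 lc_f_rc_20_1 lc_f_rc_21_1 lc_f_rc_17_3 lc_f_rc_20_1 lc_f_rc_10_3 lc_f_rc_14_1 lc_f_rc_14_3 lc_f_rc_14_3 lc_f_rc_19_5 lc_f_rc_22_1 lc_f_rc_21_1 lc_f_rc_20_1 lc_f_rc_22_1 lc_f_rc_5_3 lc_f_rc_10_1 lc_f_rc_19_3 lc_f_rc_14_1 lc_f_rc_17_1 lc_f_rc_14_1 lc_f_rc_14_3 lc_f_rc_20_1 lc_f_rc_20_1 lc_f_rc_21_1 lc_f_rc_20_1 lc_f_rc_22_1 lc_f_rc_17_3 lc_f_rc_20_1 lc_f_rc_17_3 lc_f_rc_17_1 lc_f_rc_10_1 lc_f_rc_17_1 lc_f_rc_19_5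 lc_f_rc_14_3 lc_f_rc_21_1 lc_f_rc_5_3 lc_f_rc_20_1 lc_f_rc_14_3 lc_f_rc_20_1 lc_f_rc_19_5 lc_f_rc_10_1 lc_f_rc_10_1 lc_f_rc_14_3 lc_f_rc_17_3 lc_f_rc_21_1 lc_f_rc_20_1 lc_f_rc_14_3 lc_f_rc_14_1 lc_f_rc_21_1 lc_f_rc_20_1 lc_f_rc_20_1 lc_f_rc_17_3 lc_f_rc_14_3 lc_f_rc_20_1 lc_f_rc_14_3 lc_f_rc_14_3 lc_f_rc_17_3 lc_f_rc_5_3 lc_f_rc_10_3 lc_f_rc_14_1 lc_f_rc_19_5 lc_f_rc_14_1) (@D3.rec (fun _ => (Cert rels S Gen.f)) lc_f_rc_10_3 lc_f_rc_5_1 lc_f_rc_20_1 lc_f_rc_10_1 lc_f_rc_10_3 lc_f_rc_10_3 lc_f_rc_14_3 lc_f_rc_14_3 lc_f_rc_10_3 lc_f_rc_20_1 lc_f_rc_14_3 lc_f_rc_14_3 lc_f_rc_17_3 lc_f_rc_17_3 lc_f_rc_19_5 lc_f_rc_17_3 lc_f_rc_14_3 lc_f_rc_14_1 lc_f_rc_5_1 lc_f_rc_20_1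 lc_f_rc_19_5 lc_f_rc_19_3 lc_f_rc_14_1 lc_f_rc_19_1 lc_f_rc_14_3 lc_f_rc_20_1 lc_f_rc_19_3 lc_f_rc_21_1 lc_f_rc_19_3 lc_f_rc_21_1 lc_f_rc_14_3 lc_f_rc_20_1 lc_f_rc_21_1 lc_f_rc_10_3 lc_f_rc_20_1 lc_f_rc_10_3 lc_f_rc_10_3 lc_f_rc_17_3 lc_f_rc_14_3 lc_f_rc_20_1 lc_f_rc_19_3 lc_f_rc_17_3 lc_f_rc_17_3 lc_f_rc_17_3 lc_f_rc_17_1 lc_f_rc_10_1 lc_f_rc_10_1 lc_f_rc_17_3 lc_f_rc_20_1 lc_f_rc_14_1 lc_f_rc_17_3 lc_f_rc_10_3 lc_f_rc_14_1 lc_f_rc_20_1 lc_f_rc_20_1 lc_f_rc_20_1 lc_f_rc_14_3 lc_f_rc_19_3 lc_f_rc_14_3 lc_f_rc_21_1 lc_f_rc_20_1 lc_f_rc_20_1) (@D3.rec (fun _ => (Cert rels S Gen.f)) lc_f_rc_14_1 lc_f_rc_19_1 lc_f_rc_17_1 lc_f_rc_10_1 lc_f_rc_17_1 lc_f_rc_14_3 lc_f_rc_10_3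 lc_f_rc_20_1 lc_f_rc_17_3 lc_f_rc_10_1 lc_f_rc_17_3 lc_f_rc_17_3 lc_f_rc_10_3 lc_f_rc_20_1 lc_f_rc_10_1 lc_f_rc_17_3 lc_f_rc_17_3 lc_f_rc_19_3 lc_f_rc_21_1 lc_f_rc_17_3 lc_f_rc_17_1 lc_f_rc_17_1 lc_f_rc_14_1 lc_f_rc_19_3 lc_f_rc_10_3 lc_f_rc_14_3 lc_f_rc_14_3 lc_f_rc_17_3 lc_f_rc_14_3 lc_f_rc_14_3 lc_f_rc_17_3 lc_f_rc_14_3 lc_f_rc_10_3 lc_f_rc_19_3 lc_f_rc_20_1 lc_f_rc_10_3 lc_f_rc_20_1 lc_f_rc_14_1 lc_f_rc_14_3 lc_f_rc_10_3 lc_f_rc_14_3 lc_f_rc_17_1 lc_f_rc_14_3 lc_f_rc_19_5 lc_f_rc_19_5 lc_f_rc_20_1 lc_f_rc_21_1 lc_f_rc_19_5 lc_f_rc_14_3 lc_f_rc_17_1 lc_f_rc_19_5 lc_f_rc_20_1 lc_f_rc_19_3 lc_f_rc_10_3 lc_f_rc_5_3 lc_f_rc_17_3 lc_f_rc_10_3 lc_f_rc_14_3 lc_f_rc_10_1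 lc_f_rc_20_1 lc_f_rc_5_3 lc_f_rc_17_1) (@D3.rec (fun _ => (Cert rels S Gen.f)) lc_f_rc_5_1 lc_f_rc_19_1 lc_f_rc_20_1 lc_f_rc_5_3 lc_f_rc_14_3 lc_f_rc_14_1 lc_f_rc_20_1 lc_f_rc_10_3 lc_f_rc_19_5 lc_f_rc_20_1 lc_f_rc_17_1 lc_f_rc_10_1 lc_f_rc_20_1 lc_f_rc_19_3 lc_f_rc_17_3 lc_f_rc_14_3 lc_f_rc_17_3 lc_f_rc_14_3 lc_f_rc_20_1 lc_f_rc_17_3 lc_f_rc_20_1 lc_f_rc_17_3 lc_f_rc_19_5 lc_f_rc_14_3 lc_f_rc_17_3 lc_f_rc_19_1 lc_f_rc_14_1 lc_f_rc_10_3 lc_f_rc_19_3 lc_f_rc_14_3 lc_f_rc_14_1 lc_f_rc_17_3 lc_f_rc_17_3 lc_f_rc_21_1 lc_f_rc_20_1 lc_f_rc_19_3 lc_f_rc_19_5 lc_f_rc_22_1 lc_f_rc_14_3 lc_f_rc_14_1 lc_f_rc_10_3 lc_f_rc_17_3 lc_f_rc_10_3 lc_f_rc_19_5 lc_f_rc_14_3 lc_f_rc_19_3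 lc_f_rc_17_3 lc_f_rc_20_1 lc_f_rc_21_1 lc_f_rc_5_1 lc_f_rc_19_1 lc_f_rc_22_1 lc_f_rc_17_1 lc_f_rc_19_1 lc_f_rc_17_3 lc_f_rc_10_3 lc_f_rc_10_1 lc_f_rc_17_3 lc_f_rc_20_1 lc_f_rc_21_1 lc_f_rc_17_3 lc_f_rc_10_3) (@D3.rec (fun _ => (Cert rels S Gen.f)) lc_f_rc_5_1 lc_f_rc_10_3 lc_f_rc_17_3 lc_f_rc_17_1 lc_f_rc_21_1 lc_f_rc_20_1 lc_f_rc_20_1 lc_f_rc_20_1 lc_f_rc_20_1 lc_f_rc_17_3 lc_f_rc_14_3 lc_f_rc_10_3 lc_f_rc_10_3 lc_f_rc_5_3 lc_f_rc_5_1 lc_f_rc_14_3 lc_f_rc_14_3 lc_f_rc_19_5 lc_f_rc_22_1 lc_f_rc_17_3 lc_f_rc_17_3 lc_f_rc_20_1 lc_f_rc_14_1 lc_f_rc_14_3 lc_f_rc_14_3 lc_f_rc_17_3 lc_f_rc_19_3 lc_f_rc_14_3 lc_f_rc_20_1 lc_f_rc_21_1 lc_f_rc_17_1 lc_f_rc_10_3 lc_f_rc_21_1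 lc_f_rc_20_1 lc_f_rc_21_1 lc_f_rc_20_1 lc_f_rc_10_3 lc_f_rc_5_1 lc_f_rc_22_1 lc_f_rc_5_3 lc_f_rc_17_1 lc_f_rc_19_3 lc_f_rc_20_1 lc_f_rc_19_3 lc_f_rc_17_3 lc_f_rc_21_1 lc_f_rc_20_1 lc_f_rc_10_3 lc_f_rc_14_3 lc_f_rc_14_1 lc_f_rc_14_1 lc_f_rc_19_5 lc_f_rc_10_1 lc_f_rc_17_3 lc_f_rc_5_1 lc_f_rc_20_1 lc_f_rc_20_1 lc_f_rc_20_1 lc_f_rc_21_1 lc_f_rc_17_3 lc_f_rc_17_3 lc_f_rc_14_1) (@D3.rec (fun _ => (Cert rels S Gen.f)) lc_f_rc_14_3 lc_f_rc_17_1 lc_f_rc_21_1 lc_f_rc_14_3 lc_f_rc_10_3 lc_f_rc_10_3 lc_f_rc_5_3 lc_f_rc_10_3 lc_f_rc_20_1 lc_f_rc_20_1 lc_f_rc_14_3 lc_f_rc_19_3 lc_f_rc_14_1 lc_f_rc_19_3 lc_f_rc_17_1 lc_f_rc_14_1 lc_f_rc_17_3 lc_f_rc_19_3 lc_f_rc_17_3 lc_f_rc_14_3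 lc_f_rc_22_1 lc_f_rc_5_3 lc_f_rc_20_1 lc_f_rc_10_3 lc_f_rc_21_1 lc_f_rc_19_5 lc_f_rc_20_1 lc_f_rc_21_1 lc_f_rc_14_1 lc_f_rc_10_3 lc_f_rc_21_1 lc_f_rc_10_3 lc_f_rc_17_3 lc_f_rc_21_1 lc_f_rc_10_3 lc_f_rc_10_1 lc_f_rc_14_3 lc_f_rc_21_1 lc_f_rc_17_3 lc_f_rc_10_1 lc_f_rc_19_3 lc_f_rc_17_1 lc_f_rc_20_1 lc_f_rc_20_1 lc_f_rc_10_1 lc_f_rc_22_1 lc_f_rc_14_3 lc_f_rc_22_1 lc_f_rc_20_1 lc_f_rc_5_3 lc_f_rc_21_1 lc_f_rc_22_1 lc_f_rc_10_3 lc_f_rc_19_3 lc_f_rc_19_3 lc_f_rc_14_3 lc_f_rc_14_1 lc_f_rc_17_1 lc_f_rc_17_3 lc_f_rc_17_3 lc_f_rc_17_3 lc_f_rc_10_3) (@D3.rec (fun _ => (Cert rels S Gen.f)) lc_f_rc_14_1 lc_f_rc_10_3 lc_f_rc_21_1 lc_f_rc_14_1 lc_f_rc_17_3 lc_f_rc_20_1 lc_f_rc_21_1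 lc_f_rc_20_1 lc_f_rc_10_3 lc_f_rc_10_1 lc_f_rc_17_1 lc_f_rc_17_1 lc_f_rc_14_1 lc_f_rc_10_1 lc_f_rc_17_1 lc_f_rc_14_3 lc_f_rc_14_3 lc_f_rc_5_3 lc_f_rc_14_3 lc_f_rc_10_3 lc_f_rc_5_3 lc_f_rc_14_3 lc_f_rc_19_3 lc_f_rc_14_3 lc_f_rc_10_3 lc_f_rc_17_3 lc_f_rc_17_1 lc_f_rc_17_3 lc_f_rc_10_3 lc_f_rc_22_1 lc_f_rc_10_3 lc_f_rc_5_1 lc_f_rc_19_5 lc_f_rc_20_1 lc_f_rc_17_3 lc_f_rc_21_1 lc_f_rc_20_1 lc_f_rc_14_3 lc_f_rc_17_3 lc_f_rc_10_3 lc_f_rc_17_1 lc_f_rc_20_1 lc_f_rc_17_1 lc_f_rc_14_1 lc_f_rc_10_3 lc_f_rc_22_1 lc_f_rc_19_3 lc_f_rc_21_1 lc_f_rc_10_3 lc_f_rc_5_3 lc_f_rc_10_3 lc_f_rc_17_3 lc_f_rc_10_1 lc_f_rc_20_1 lc_f_rc_10_1 lc_f_rc_14_3 lc_f_rc_5_1 lc_f_rc_10_3 lc_f_rc_5_1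 lc_f_rc_17_3 lc_f_rc_14_3 lc_f_rc_10_3) (@D3.rec (fun _ => (Cert rels S Gen.f)) lc_f_rc_17_1 lc_f_rc_19_1 lc_f_rc_20_1 lc_f_rc_10_3 lc_f_rc_19_3 lc_f_rc_14_3 lc_f_rc_20_1 lc_f_rc_14_3 lc_f_rc_17_1 lc_f_rc_14_3 lc_f_rc_14_3 lc_f_rc_14_1 lc_f_rc_20_1 lc_f_rc_14_3 lc_f_rc_22_1 lc_f_rc_10_3 lc_f_rc_10_3 lc_f_rc_10_3 lc_f_rc_5_3 lc_f_rc_10_3 lc_f_rc_10_1 lc_f_rc_14_3 lc_f_rc_10_3 lc_f_rc_14_3 lc_f_rc_19_5 lc_f_rc_10_1 lc_f_rc_14_1 lc_f_rc_14_1 lc_f_rc_10_3 lc_f_rc_10_3 lc_f_rc_14_3 lc_f_rc_14_3 lc_f_rc_17_3 lc_f_rc_17_1 lc_f_rc_19_3 lc_f_rc_14_3 lc_f_rc_17_3 lc_f_rc_14_1 lc_f_rc_10_3 lc_f_rc_21_1 lc_f_rc_14_1 lc_f_rc_17_1 lc_f_rc_20_1 lc_f_rc_14_3 lc_f_rc_17_1 lc_f_rc_10_3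 lc_f_rc_19_5 lc_f_rc_17_3 lc_f_rc_17_3 lc_f_rc_19_3 lc_f_rc_14_3 lc_f_rc_14_3 lc_f_rc_14_3 lc_f_rc_10_3 lc_f_rc_14_3 lc_f_rc_10_3 lc_f_rc_14_1 lc_f_rc_5_3 lc_f_rc_14_1 lc_f_rc_22_1 lc_f_rc_22_1 lc_f_rc_10_3) (@D3.rec (fun _ => (Cert rels S Gen.f)) lc_f_rc_14_3 lc_f_rc_17_3 lc_f_rc_17_1 lc_f_rc_17_1 lc_f_rc_14_1 lc_f_rc_10_3 lc_f_rc_17_3 lc_f_rc_14_3 lc_f_rc_14_3 lc_f_rc_21_1 lc_f_rc_5_3 lc_f_rc_20_1 lc_f_rc_17_3 lc_f_rc_17_3 lc_f_rc_10_1 lc_f_rc_17_1 lc_f_rc_20_1 lc_f_rc_20_1 lc_f_rc_20_1 lc_f_rc_17_3 lc_f_rc_17_3 lc_f_rc_14_3 lc_f_rc_17_3 lc_f_rc_17_1 lc_f_rc_20_1 lc_f_rc_22_1 lc_f_rc_14_3 lc_f_rc_20_1 lc_f_rc_17_3 lc_f_rc_17_3 lc_f_rc_19_3 lc_f_rc_10_3 lc_f_rc_14_1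 lc_f_rc_10_3 lc_f_rc_17_3 lc_f_rc_10_3 lc_f_rc_17_3 lc_f_rc_19_3 lc_f_rc_20_1 lc_f_rc_14_3 lc_f_rc_17_3 lc_f_rc_20_1 lc_f_rc_19_3 lc_f_rc_21_1 lc_f_rc_10_3 lc_f_rc_20_1 lc_f_rc_21_1 lc_f_rc_17_1 lc_f_rc_17_1 lc_f_rc_17_1 lc_f_rc_14_3 lc_f_rc_20_1 lc_f_rc_17_3 lc_f_rc_10_3 lc_f_rc_14_1 lc_f_rc_14_1 lc_f_rc_19_5 lc_f_rc_5_1 lc_f_rc_17_3 lc_f_rc_17_1 lc_f_rc_21_1 lc_f_rc_21_1) (@D3.rec (fun _ => (Cert rels S Gen.f)) lc_f_rc_10_3 lc_f_rc_14_3 lc_f_rc_14_1 lc_f_rc_21_1 lc_f_rc_17_3 lc_f_rc_5_1 lc_f_rc_19_3 lc_f_rc_20_1 lc_f_rc_19_3 lc_f_rc_17_1 lc_f_rc_14_1 lc_f_rc_22_1 lc_f_rc_14_1 lc_f_rc_17_3 lc_f_rc_10_1 lc_f_rc_14_3 lc_f_rc_14_3 lc_f_rc_14_3 lc_f_rc_5_3 lc_f_rc_5_3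 lc_f_rc_20_1 lc_f_rc_10_3 lc_f_rc_19_3 lc_f_rc_17_3 lc_f_rc_14_1 lc_f_rc_5_1 lc_f_rc_19_3 lc_f_rc_14_1 lc_f_rc_10_3 lc_f_rc_21_1 lc_f_rc_5_1 lc_f_rc_10_3 lc_f_rc_10_3 lc_f_rc_14_3 lc_f_rc_21_1 lc_f_rc_10_3 lc_f_rc_14_3 lc_f_rc_20_1 lc_f_rc_10_3 lc_f_rc_19_1 lc_f_rc_17_3 lc_f_rc_14_3 lc_f_rc_5_3 lc_f_rc_14_1 lc_f_rc_5_3 lc_f_rc_20_1 lc_f_rc_17_3 lc_f_rc_5_1 lc_f_rc_14_1 lc_f_rc_10_3 lc_f_rc_19_3 lc_f_rc_17_3 lc_f_rc_17_1 lc_f_rc_20_1 lc_f_rc_19_3 lc_f_rc_21_1 lc_f_rc_10_3 lc_f_rc_17_1 lc_f_rc_14_3 lc_f_rc_17_3 lc_f_rc_10_3 lc_f_rc_10_3) (@D3.rec (fun _ => (Cert rels S Gen.f)) lc_f_rc_17_3 lc_f_rc_14_1 lc_f_rc_21_1 lc_f_rc_14_1 lc_f_rc_17_1 lc_f_rc_19_3 lc_f_rc_21_1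 lc_f_rc_20_1 lc_f_rc_19_3 lc_f_rc_19_3 lc_f_rc_17_3 lc_f_rc_14_3 lc_f_rc_17_1 lc_f_rc_21_1 lc_f_rc_10_3 lc_f_rc_22_1 lc_f_rc_10_1 lc_f_rc_22_1 lc_f_rc_17_3 lc_f_rc_20_1 lc_f_rc_14_3 lc_f_rc_10_1 lc_f_rc_14_3 lc_f_rc_22_1 lc_f_rc_10_3 lc_f_rc_10_3 lc_f_rc_17_1 lc_f_rc_17_3 lc_f_rc_20_1 lc_f_rc_14_1 lc_f_rc_17_3 lc_f_rc_14_3 lc_f_rc_10_3 lc_f_rc_10_3 lc_f_rc_17_1 lc_f_rc_17_1 lc_f_rc_14_1 lc_f_rc_20_1 lc_f_rc_10_1 lc_f_rc_14_3 lc_f_rc_10_3 lc_f_rc_19_5 lc_f_rc_10_3 lc_f_rc_14_1 lc_f_rc_21_1 lc_f_rc_21_1 lc_f_rc_17_3 lc_f_rc_5_3 lc_f_rc_20_1 lc_f_rc_10_3 lc_f_rc_20_1 lc_f_rc_17_3 lc_f_rc_19_3 lc_f_rc_22_1 lc_f_rc_21_1 lc_f_rc_17_3 lc_f_rc_14_3 lc_f_rc_19_3 lc_f_rc_17_1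 lc_f_rc_20_1 lc_f_rc_20_1 lc_f_rc_10_3) (@D3.rec (fun _ => (Cert rels S Gen.f)) lc_f_rc_17_3 lc_f_rc_5_3 lc_f_rc_14_3 lc_f_rc_17_3 lc_f_rc_20_1 lc_f_rc_21_1 lc_f_rc_19_5 lc_f_rc_21_1 lc_f_rc_21_1 lc_f_rc_20_1 lc_f_rc_5_3 lc_f_rc_21_1 lc_f_rc_10_3 lc_f_Cert_tree lc_f_rc_20_1 lc_f_rc_17_1 lc_f_rc_14_3 lc_f_rc_19_5 lc_f_rc_19_5 lc_f_rc_14_1 lc_f_rc_21_1 lc_f_rc_19_3 lc_f_rc_10_1 lc_f_rc_10_3 lc_f_rc_10_3 lc_f_rc_17_3 lc_f_rc_19_5 lc_f_rc_17_3 lc_f_rc_22_1 lc_f_rc_19_5 lc_f_rc_10_3 lc_f_rc_17_3 lc_f_rc_5_3 lc_f_rc_20_1 lc_f_rc_17_3 lc_f_rc_17_1 lc_f_rc_21_1 lc_f_rc_5_1 lc_f_rc_5_1 lc_f_rc_14_3 lc_f_rc_17_3 lc_f_rc_17_3 lc_f_rc_17_3 lc_f_rc_19_5 lc_f_rc_17_3 lc_f_rc_17_1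 lc_f_rc_19_3 lc_f_rc_20_1 lc_f_rc_17_1 lc_f_rc_19_1 lc_f_rc_10_3 lc_f_rc_20_1 lc_f_rc_21_1 lc_f_rc_10_3 lc_f_rc_14_1 lc_f_rc_17_3 lc_f_rc_14_3 lc_f_rc_21_1 lc_f_rc_20_1 lc_f_rc_21_1 lc_f_rc_10_3 lc_f_rc_20_1) (@D3.rec (fun _ => (Cert rels S Gen.f)) lc_f_rc_14_3 lc_f_rc_21_1 lc_f_rc_10_3 lc_f_rc_19_5 lc_f_rc_14_3 lc_f_rc_14_3 lc_f_rc_17_3 lc_f_rc_17_3 lc_f_rc_17_1 lc_f_rc_14_3 lc_f_rc_20_1 lc_f_rc_10_3 lc_f_rc_10_1 lc_f_rc_14_3 lc_f_rc_14_3 lc_f_rc_10_3 lc_f_rc_14_1 lc_f_rc_22_1 lc_f_rc_17_3 lc_f_rc_5_1 lc_f_rc_10_3 lc_f_rc_14_3 lc_f_rc_10_3 lc_f_rc_14_3 lc_f_rc_20_1 lc_f_rc_17_1 lc_f_rc_21_1 lc_f_rc_20_1 lc_f_rc_20_1 lc_f_rc_10_1 lc_f_rc_5_1 lc_f_rc_14_3 lc_f_rc_14_3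 lc_f_rc_20_1 lc_f_rc_14_3 lc_f_rc_5_3 lc_f_rc_17_3 lc_f_rc_5_1 lc_f_rc_14_1 lc_f_rc_5_1 lc_f_rc_5_3 lc_f_rc_17_3 lc_f_rc_5_1 lc_f_rc_14_1 lc_f_rc_14_1 lc_f_rc_14_3 lc_f_rc_19_3 lc_f_rc_17_1 lc_f_rc_19_5 lc_f_rc_17_1 lc_f_rc_17_1 lc_f_rc_10_3 lc_f_rc_17_3 lc_f_rc_10_3 lc_f_rc_14_3 lc_f_rc_19_5 lc_f_rc_19_5 lc_f_rc_14_3 lc_f_rc_21_1 lc_f_rc_5_3 lc_f_rc_14_3 lc_f_rc_14_1) (@D3.rec (fun _ => (Cert rels S Gen.f)) lc_f_rc_20_1 lc_f_rc_10_3 lc_f_rc_19_5 lc_f_rc_20_1 lc_f_rc_17_3 lc_f_rc_14_3 lc_f_rc_14_3 lc_f_rc_10_3 lc_f_rc_17_3 lc_f_rc_17_3 lc_f_rc_14_1 lc_f_rc_10_3 lc_f_rc_22_1 lc_f_rc_17_3 lc_f_rc_20_1 lc_f_rc_21_1 lc_f_rc_20_1 lc_f_rc_14_3 lc_f_rc_17_3 lc_f_rc_10_3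 lc_f_rc_20_1 lc_f_rc_14_1 lc_f_rc_20_1 lc_f_rc_10_3 lc_f_rc_10_3 lc_f_rc_17_3 lc_f_rc_19_3 lc_f_rc_10_3 lc_f_rc_21_1 lc_f_rc_19_3 lc_f_rc_20_1 lc_f_rc_14_1 lc_f_rc_17_3 lc_f_rc_10_3 lc_f_rc_17_1 lc_f_rc_10_1 lc_f_rc_14_1 lc_f_rc_19_5 lc_f_rc_5_3 lc_f_rc_14_3 lc_f_rc_10_3 lc_f_rc_20_1 lc_f_rc_14_3 lc_f_rc_14_1 lc_f_rc_14_1 lc_f_rc_14_1 lc_f_rc_17_1 lc_f_rc_21_1 lc_f_rc_10_3 lc_f_rc_20_1 lc_f_rc_21_1 lc_f_rc_14_1 lc_f_rc_14_3 lc_f_rc_5_3 lc_f_rc_17_1 lc_f_rc_20_1 lc_f_rc_17_3 lc_f_rc_22_1 lc_f_rc_10_1 lc_f_rc_21_1 lc_f_rc_14_1 lc_f_rc_14_1) (@D3.rec (fun _ => (Cert rels S Gen.f)) lc_f_rc_20_1 lc_f_rc_21_1 lc_f_rc_17_3 lc_f_rc_10_1 lc_f_rc_17_1 lc_f_rc_19_1 lc_f_rc_10_3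 lc_f_rc_17_3 lc_f_rc_20_1 lc_f_rc_5_1 lc_f_rc_17_1 lc_f_rc_14_3 lc_f_rc_22_1 lc_f_rc_10_3 lc_f_rc_21_1 lc_f_rc_20_1 lc_f_rc_20_1 lc_f_rc_14_3 lc_f_rc_20_1 lc_f_rc_14_3 lc_f_rc_19_3 lc_f_rc_14_3 lc_f_rc_10_3 lc_f_rc_10_3 lc_f_rc_10_1 lc_f_rc_5_1 lc_f_rc_17_3 lc_f_rc_10_3 lc_f_rc_21_1 lc_f_rc_10_3 lc_f_rc_14_3 lc_f_rc_17_1 lc_f_rc_17_3 lc_f_rc_14_1 lc_f_rc_10_3 lc_f_rc_21_1 lc_f_rc_20_1 lc_f_rc_14_3 lc_f_rc_17_3 lc_f_rc_17_3 lc_f_rc_10_3 lc_f_rc_19_1 lc_f_rc_14_3 lc_f_rc_20_1 lc_f_rc_10_3 lc_f_rc_20_1 lc_f_rc_17_1 lc_f_rc_17_3 lc_f_rc_19_5 lc_f_rc_14_1 lc_f_rc_5_3 lc_f_rc_20_1 lc_f_rc_10_1 lc_f_rc_19_1 lc_f_rc_20_1 lc_f_rc_17_3 lc_f_rc_17_3 lc_f_rc_5_3 lc_f_rc_20_1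 lc_f_rc_10_3 lc_f_rc_22_1 lc_f_rc_14_3) (@D3.rec (fun _ => (Cert rels S Gen.f)) lc_f_rc_20_1 lc_f_rc_20_1 lc_f_rc_20_1 lc_f_rc_14_3 lc_f_rc_14_3 lc_f_rc_5_1 lc_f_rc_20_1 lc_f_rc_21_1 lc_f_rc_22_1 lc_f_rc_14_3 lc_f_rc_10_3 lc_f_rc_20_1 lc_f_rc_19_5 lc_f_rc_19_3 lc_f_rc_14_3 lc_f_rc_17_3 lc_f_rc_14_3 lc_f_rc_14_3 lc_f_rc_17_1 lc_f_rc_14_1 lc_f_rc_10_3 lc_f_rc_17_3 lc_f_rc_14_3 lc_f_rc_19_1 lc_f_rc_17_3 lc_f_rc_19_3 lc_f_rc_5_3 lc_f_Cert_tree lc_f_rc_20_1 lc_f_rc_14_3 lc_f_rc_5_3 lc_f_rc_20_1 lc_f_rc_20_1 lc_f_rc_10_3 lc_f_rc_21_1 lc_f_rc_20_1 lc_f_rc_21_1 lc_f_rc_14_3 lc_f_rc_14_3 lc_f_rc_10_1 lc_f_rc_17_3 lc_f_rc_10_1 lc_f_rc_14_3 lc_f_rc_10_3 lc_f_rc_5_3 lc_f_rc_17_3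 lc_f_rc_14_1 lc_f_rc_10_3 lc_f_rc_5_3 lc_f_rc_20_1 lc_f_rc_14_3 lc_f_rc_20_1 lc_f_rc_19_1 lc_f_rc_21_1 lc_f_rc_5_1 lc_f_rc_10_3 lc_f_rc_14_1 lc_f_rc_20_1 lc_f_rc_14_3 lc_f_rc_5_3 lc_f_rc_14_3 lc_f_rc_14_3) (@D3.rec (fun _ => (Cert rels S Gen.f)) lc_f_rc_17_3 lc_f_rc_21_1 lc_f_rc_20_1 lc_f_rc_14_3 lc_f_rc_14_3 lc_f_rc_20_1 lc_f_rc_19_3 lc_f_rc_20_1 lc_f_rc_20_1 lc_f_rc_10_3 lc_f_rc_14_1 lc_f_rc_20_1 lc_f_rc_5_1 lc_f_rc_20_1 lc_f_rc_14_3 lc_f_rc_10_3 lc_f_rc_14_3 lc_f_rc_14_3 lc_f_rc_10_1 lc_f_rc_14_1 lc_f_rc_14_1 lc_f_rc_10_1 lc_f_rc_20_1 lc_f_rc_5_3 lc_f_rc_17_3 lc_f_rc_14_3 lc_f_rc_5_3 lc_f_rc_10_1 lc_f_rc_10_1 lc_f_rc_19_1 lc_f_rc_17_1 lc_f_rc_20_1 lc_f_rc_20_1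 lc_f_rc_20_1 lc_f_rc_5_3 lc_f_rc_14_3 lc_f_rc_10_1 lc_f_rc_17_1 lc_f_rc_19_3 lc_f_rc_19_5 lc_f_rc_17_1 lc_f_rc_20_1 lc_f_rc_14_1 lc_f_rc_5_1 lc_f_rc_17_3 lc_f_rc_10_3 lc_f_rc_5_1 lc_f_rc_10_3 lc_f_rc_17_1 lc_f_rc_19_5 lc_f_rc_20_1 lc_f_rc_19_3 lc_f_rc_19_5 lc_f_rc_20_1 lc_f_rc_5_1 lc_f_rc_17_1 lc_f_rc_19_3 lc_f_rc_10_1 lc_f_rc_5_3 lc_f_rc_10_1 lc_f_rc_10_1 lc_f_rc_20_1) (@D3.rec (fun _ => (Cert rels S Gen.f)) lc_f_rc_17_3 lc_f_rc_17_3 lc_f_rc_5_1 lc_f_rc_17_3 lc_f_rc_19_5 lc_f_rc_10_1 lc_f_rc_17_3 lc_f_rc_17_3 lc_f_rc_22_1 lc_f_rc_14_3 lc_f_rc_14_1 lc_f_rc_5_1 lc_f_rc_17_1 lc_f_rc_20_1 lc_f_rc_22_1 lc_f_rc_19_3 lc_f_rc_17_1 lc_f_rc_19_3 lc_f_rc_10_1 lc_f_rc_17_1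 lc_f_rc_10_3 lc_f_rc_21_1 lc_f_rc_14_1 lc_f_rc_10_3 lc_f_rc_19_5 lc_f_rc_17_1 lc_f_rc_17_3 lc_f_rc_14_1 lc_f_rc_14_1 lc_f_rc_17_3 lc_f_rc_14_3 lc_f_rc_20_1 lc_f_rc_5_3 lc_f_rc_21_1 lc_f_rc_5_3 lc_f_rc_10_3 lc_f_rc_10_1 lc_f_rc_20_1 lc_f_rc_21_1 lc_f_rc_20_1 lc_f_rc_22_1 lc_f_rc_14_3 lc_f_rc_17_3 lc_f_rc_17_3 lc_f_rc_10_1 lc_f_rc_20_1 lc_f_rc_17_3 lc_f_rc_14_1 lc_f_rc_17_3 lc_f_rc_21_1 lc_f_rc_14_1 lc_f_rc_10_3 lc_f_rc_10_3 lc_f_rc_10_3 lc_f_rc_17_3 lc_f_rc_20_1 lc_f_rc_14_3 lc_f_rc_17_1 lc_f_rc_20_1 lc_f_rc_20_1 lc_f_rc_20_1 lc_f_rc_14_3) (@D3.rec (fun _ => (Cert rels S Gen.f)) lc_f_rc_10_1 lc_f_rc_17_3 lc_f_rc_17_3 lc_f_rc_17_1 lc_f_rc_22_1 lc_f_rc_19_5 lc_f_rc_22_1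 lc_f_rc_17_3 lc_f_rc_17_3 lc_f_rc_22_1 lc_f_rc_14_3 lc_f_rc_5_3 lc_f_rc_14_3 lc_f_rc_21_1 lc_f_rc_14_3 lc_f_rc_17_3 lc_f_rc_14_3 lc_f_rc_14_1 lc_f_rc_21_1 lc_f_rc_14_3 lc_f_rc_21_1 lc_f_rc_21_1 lc_f_rc_20_1 lc_f_rc_14_1 lc_f_rc_10_1 lc_f_rc_17_3 lc_f_rc_10_1 lc_f_rc_14_1 lc_f_rc_17_3 lc_f_rc_22_1 lc_f_rc_19_5 lc_f_rc_20_1 lc_f_rc_17_1 lc_f_rc_10_3 lc_f_rc_5_3 lc_f_rc_20_1 lc_f_rc_10_3 lc_f_rc_21_1 lc_f_rc_5_3 lc_f_rc_17_3 lc_f_rc_10_3 lc_f_rc_17_3 lc_f_rc_19_1 lc_f_rc_14_1 lc_f_rc_20_1 lc_f_rc_20_1 lc_f_rc_14_3 lc_f_rc_20_1 lc_f_rc_10_1 lc_f_rc_21_1 lc_f_rc_10_1 lc_f_rc_17_1 lc_f_rc_19_3 lc_f_rc_14_3 lc_f_rc_19_5 lc_f_rc_21_1 lc_f_rc_22_1 lc_f_rc_10_3 lc_f_rc_21_1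 lc_f_rc_21_1 lc_f_rc_22_1 lc_f_rc_17_3) (@D3.rec (fun _ => (Cert rels S Gen.f)) lc_f_rc_19_3 lc_f_rc_22_1 lc_f_rc_21_1 lc_f_rc_10_3 lc_f_rc_10_3 lc_f_rc_21_1 lc_f_rc_17_3 lc_f_rc_19_5 lc_f_rc_14_1 lc_f_rc_20_1 lc_f_rc_10_1 lc_f_rc_10_3 lc_f_rc_19_5 lc_f_rc_19_3 lc_f_rc_17_3 lc_f_rc_14_3 lc_f_rc_22_1 lc_f_rc_21_1 lc_f_rc_22_1 lc_f_rc_21_1 lc_f_rc_10_3 lc_f_rc_20_1 lc_f_rc_14_3 lc_f_rc_21_1 lc_f_rc_20_1 lc_f_rc_21_1 lc_f_rc_19_5 lc_f_rc_17_3 lc_f_rc_10_3 lc_f_rc_14_1 lc_f_rc_20_1 lc_f_rc_19_3 lc_f_rc_10_3 lc_f_rc_17_1 lc_f_rc_22_1 lc_f_rc_22_1 lc_f_rc_17_1 lc_f_rc_10_3 lc_f_rc_21_1 lc_f_rc_21_1 lc_f_rc_19_1 lc_f_rc_21_1 lc_f_rc_21_1 lc_f_rc_21_1 lc_f_rc_14_1 lc_f_rc_5_1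 lc_f_rc_17_3 lc_f_rc_19_3 lc_f_rc_5_3 lc_f_rc_5_3 lc_f_rc_17_3 lc_f_rc_14_3 lc_f_rc_10_1 lc_f_rc_17_1 lc_f_rc_14_3 lc_f_rc_10_3 lc_f_rc_14_1 lc_f_rc_17_1 lc_f_rc_14_1 lc_f_rc_10_3 lc_f_rc_19_5 lc_f_rc_14_3) (@D3.rec (fun _ => (Cert rels S Gen.f)) lc_f_rc_14_1 lc_f_rc_10_3 lc_f_rc_5_3 lc_f_rc_19_3 lc_f_rc_19_5 lc_f_rc_17_3 lc_f_rc_22_1 lc_f_rc_14_1 lc_f_rc_14_3 lc_f_rc_5_3 lc_f_rc_14_3 lc_f_rc_10_1 lc_f_rc_20_1 lc_f_rc_20_1 lc_f_rc_20_1 lc_f_rc_5_3 lc_f_rc_19_3 lc_f_rc_21_1 lc_f_rc_10_1 lc_f_rc_14_1 lc_f_rc_5_3 lc_f_rc_10_3 lc_f_rc_10_3 lc_f_rc_5_3 lc_f_rc_14_3 lc_f_rc_17_1 lc_f_rc_21_1 lc_f_rc_20_1 lc_f_rc_10_3 lc_f_rc_14_1 lc_f_rc_17_1 lc_f_rc_14_3 lc_f_rc_5_1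 lc_f_rc_10_1 lc_f_rc_10_3 lc_f_rc_10_3 lc_f_rc_20_1 lc_f_rc_17_3 lc_f_rc_5_1 lc_f_rc_20_1 lc_f_rc_10_3 lc_f_rc_14_3 lc_f_rc_17_3 lc_f_rc_14_1 lc_f_rc_19_5 lc_f_rc_20_1 lc_f_rc_17_3 lc_f_rc_20_1 lc_f_rc_20_1 lc_f_rc_10_3 lc_f_rc_14_3 lc_f_rc_17_3 lc_f_rc_10_3 lc_f_rc_10_3 lc_f_rc_21_1 lc_f_rc_19_3 lc_f_rc_20_1 lc_f_rc_10_3 lc_f_rc_19_1 lc_f_rc_10_3 lc_f_rc_17_3 lc_f_rc_20_1) (@D3.rec (fun _ => (Cert rels S Gen.f)) lc_f_rc_10_1 lc_f_rc_19_5 lc_f_rc_10_1 lc_f_rc_20_1 lc_f_rc_20_1 lc_f_rc_5_3 lc_f_rc_5_1 lc_f_rc_19_3 lc_f_rc_19_5 lc_f_rc_17_1 lc_f_rc_20_1 lc_f_rc_19_3 lc_f_rc_20_1 lc_f_rc_14_3 lc_f_rc_17_1 lc_f_rc_10_3 lc_f_rc_10_3 lc_f_rc_17_3 lc_f_rc_14_3 lc_f_rc_22_1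 lc_f_rc_20_1 lc_f_rc_14_1 lc_f_rc_10_3 lc_f_rc_19_1 lc_f_rc_17_1 lc_f_rc_20_1 lc_f_rc_19_3 lc_f_rc_5_3 lc_f_rc_20_1 lc_f_rc_14_3 lc_f_rc_20_1 lc_f_rc_17_3 lc_f_rc_14_1 lc_f_rc_10_1 lc_f_rc_21_1 lc_f_rc_22_1 lc_f_rc_10_3 lc_f_rc_17_1 lc_f_rc_20_1 lc_f_rc_5_3 lc_f_rc_22_1 lc_f_rc_10_1 lc_f_rc_10_1 lc_f_rc_21_1 lc_f_rc_10_3 lc_f_rc_19_5 lc_f_rc_21_1 lc_f_rc_17_1 lc_f_rc_20_1 lc_f_rc_10_3 lc_f_rc_21_1 lc_f_rc_21_1 lc_f_rc_14_3 lc_f_rc_14_3 lc_f_rc_10_1 lc_f_rc_17_3 lc_f_rc_19_3 lc_f_rc_10_3 lc_f_rc_21_1 lc_f_rc_14_3 lc_f_rc_5_1 lc_f_rc_14_1) (@D3.rec (fun _ => (Cert rels S Gen.f)) lc_f_rc_14_1 lc_f_rc_20_1 lc_f_rc_10_3 lc_f_rc_14_1 lc_f_rc_5_3 lc_f_rc_14_1 lc_f_rc_10_3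 lc_f_rc_17_1 lc_f_rc_14_3 lc_f_rc_10_3 lc_f_rc_5_1 lc_f_rc_10_3 lc_f_rc_10_3 lc_f_rc_5_3 lc_f_rc_20_1 lc_f_rc_10_1 lc_f_rc_21_1 lc_f_rc_17_3 lc_f_rc_19_5 lc_f_rc_14_1 lc_f_rc_10_3 lc_f_rc_20_1 lc_f_rc_20_1 lc_f_rc_10_3 lc_f_rc_19_1 lc_f_rc_17_3 lc_f_rc_17_3 lc_f_rc_20_1 lc_f_rc_14_3 lc_f_rc_10_3 lc_f_rc_17_3 lc_f_rc_19_1 lc_f_rc_21_1 lc_f_rc_20_1 lc_f_rc_21_1 lc_f_rc_5_3 lc_f_rc_19_3 lc_f_rc_21_1 lc_f_rc_10_3 lc_f_rc_14_1 lc_f_rc_21_1 lc_f_rc_19_5 lc_f_rc_20_1 lc_f_rc_14_1 lc_f_rc_20_1 lc_f_rc_10_1 lc_f_rc_10_3 lc_f_rc_22_1 lc_f_rc_14_3 lc_f_rc_20_1 lc_f_rc_14_1 lc_f_rc_5_3 lc_f_rc_20_1 lc_f_rc_20_1 lc_f_rc_20_1 lc_f_rc_20_1 lc_f_rc_5_3 lc_f_rc_5_3 lc_f_rc_10_3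 lc_f_rc_20_1 lc_f_rc_17_3 lc_f_rc_17_3) (@D3.rec (fun _ => (Cert rels S Gen.f)) lc_f_rc_17_3 lc_f_rc_5_3 lc_f_rc_14_3 lc_f_rc_5_3 lc_f_rc_21_1 lc_f_rc_10_1 lc_f_rc_20_1 lc_f_rc_10_3 lc_f_rc_5_1 lc_f_rc_10_1 lc_f_rc_10_1 lc_f_rc_10_3 lc_f_rc_17_3 lc_f_rc_17_3 lc_f_rc_20_1 lc_f_rc_10_3 lc_f_rc_10_3 lc_f_rc_20_1 lc_f_rc_10_1 lc_f_rc_17_1 lc_f_rc_20_1 lc_f_rc_10_3 lc_f_rc_5_1 lc_f_rc_21_1 lc_f_rc_20_1 lc_f_rc_14_3 lc_f_rc_14_3 lc_f_rc_17_3 lc_f_rc_14_3 lc_f_rc_20_1 lc_f_rc_14_3 lc_f_rc_17_3 lc_f_rc_22_1 lc_f_rc_17_3 lc_f_rc_21_1 lc_f_rc_17_3 lc_f_rc_17_3 lc_f_rc_19_5 lc_f_rc_17_3 lc_f_rc_21_1 lc_f_rc_5_3 lc_f_rc_21_1 lc_f_rc_20_1 lc_f_rc_17_3 lc_f_rc_17_3 lc_f_rc_5_3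 lc_f_rc_17_3 lc_f_rc_14_3 lc_f_rc_17_3 lc_f_rc_17_3 lc_f_rc_17_3 lc_f_rc_21_1 lc_f_rc_17_3 lc_f_rc_17_3 lc_f_rc_17_3 lc_f_rc_17_3 lc_f_rc_17_3 lc_f_rc_5_3 lc_f_rc_20_1 lc_f_rc_17_1 lc_f_rc_19_1 lc_f_rc_17_3) (@D3.rec (fun _ => (Cert rels S Gen.f)) lc_f_rc_14_3 lc_f_rc_10_1 lc_f_rc_14_3 lc_f_rc_20_1 lc_f_rc_10_3 lc_f_rc_17_1 lc_f_rc_14_1 lc_f_rc_10_1 lc_f_rc_21_1 lc_f_rc_14_3 lc_f_rc_19_5 lc_f_rc_17_3 lc_f_rc_20_1 lc_f_rc_17_1 lc_f_rc_19_3 lc_f_rc_14_1 lc_f_rc_22_1 lc_f_rc_10_3 lc_f_rc_21_1 lc_f_rc_17_1 lc_f_rc_20_1 lc_f_rc_20_1 lc_f_rc_10_3 lc_f_rc_22_1 lc_f_rc_17_3 lc_f_rc_17_3 lc_f_Cert_tree lc_f_rc_5_3 lc_f_rc_14_1 lc_f_rc_21_1 lc_f_rc_10_3 lc_f_rc_21_1 lc_f_rc_21_1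 lc_f_rc_5_3 lc_f_rc_20_1 lc_f_rc_10_3 lc_f_rc_20_1 lc_f_rc_22_1 lc_f_rc_10_3 lc_f_rc_17_3 lc_f_rc_21_1 lc_f_rc_10_3 lc_f_rc_20_1 lc_f_rc_19_5 lc_f_rc_19_5 lc_f_rc_19_3 lc_f_rc_17_3 lc_f_rc_10_3 lc_f_rc_19_1 lc_f_rc_17_3 lc_f_rc_10_3 lc_f_rc_20_1 lc_f_rc_20_1 lc_f_rc_17_1 lc_f_rc_19_5 lc_f_rc_14_1 lc_f_rc_14_3 lc_f_rc_5_3 lc_f_rc_21_1 lc_f_rc_10_3 lc_f_rc_10_1 lc_f_rc_22_1) (@D3.rec (fun _ => (Cert rels S Gen.f)) lc_f_rc_19_5 lc_f_rc_10_1 lc_f_rc_10_3 lc_f_rc_10_3 lc_f_rc_10_3 lc_f_rc_20_1 lc_f_rc_17_3 lc_f_rc_14_3 lc_f_rc_21_1 lc_f_rc_14_3 lc_f_rc_19_3 lc_f_rc_10_1 lc_f_rc_22_1 lc_f_rc_20_1 lc_f_rc_22_1 lc_f_rc_10_3 lc_f_rc_19_5 lc_f_rc_5_3 lc_f_rc_14_3 lc_f_rc_17_1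 lc_f_rc_17_3 lc_f_rc_10_3 lc_f_rc_22_1 lc_f_rc_20_1 lc_f_rc_10_1 lc_f_rc_19_3 lc_f_rc_10_3 lc_f_rc_19_5 lc_f_rc_17_3 lc_f_rc_10_1 lc_f_rc_19_3 lc_f_rc_20_1 lc_f_rc_20_1 lc_f_rc_17_3 lc_f_rc_10_1 lc_f_rc_14_1 lc_f_rc_17_1 lc_f_rc_20_1 lc_f_rc_17_3 lc_f_rc_20_1 lc_f_rc_22_1 lc_f_rc_21_1 lc_f_rc_20_1 lc_f_rc_19_5 lc_f_rc_17_3 lc_f_rc_20_1 lc_f_rc_17_1 lc_f_rc_20_1 lc_f_rc_21_1 lc_f_rc_20_1 lc_f_rc_5_3 lc_f_rc_21_1 lc_f_rc_17_1 lc_f_rc_5_3 lc_f_rc_21_1 lc_f_rc_22_1 lc_f_rc_17_3 lc_f_rc_20_1 lc_f_rc_14_3 lc_f_rc_19_3 lc_f_rc_10_3 lc_f_rc_14_3) (@D3.rec (fun _ => (Cert rels S Gen.f)) lc_f_rc_14_3 lc_f_rc_14_1 lc_f_rc_17_3 lc_f_rc_5_3 lc_f_rc_14_3 lc_f_rc_21_1 lc_f_rc_17_3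 lc_f_rc_14_3 lc_f_rc_17_3 lc_f_rc_14_3 lc_f_rc_17_1 lc_f_rc_19_1 lc_f_rc_5_1 lc_f_rc_10_3 lc_f_rc_14_3 lc_f_rc_10_3 lc_f_rc_20_1 lc_f_rc_5_3 lc_f_rc_21_1 lc_f_rc_20_1 lc_f_rc_19_1 lc_f_rc_14_1 lc_f_rc_17_3 lc_f_rc_17_3 lc_f_rc_19_5 lc_f_rc_10_3 lc_f_rc_10_1 lc_f_rc_14_3 lc_f_rc_10_1 lc_f_rc_19_3 lc_f_rc_10_3 lc_f_rc_10_3 lc_f_rc_17_1 lc_f_rc_10_3 lc_f_rc_10_3 lc_f_rc_20_1 lc_f_rc_22_1 lc_f_rc_20_1 lc_f_rc_21_1 lc_f_rc_19_1 lc_f_rc_10_1 lc_f_rc_17_3 lc_f_rc_19_3 lc_f_rc_14_1 lc_f_rc_10_1 lc_f_rc_14_1 lc_f_rc_10_3 lc_f_rc_14_3 lc_f_rc_20_1 lc_f_rc_21_1 lc_f_rc_17_1 lc_f_rc_17_3 lc_f_rc_20_1 lc_f_rc_10_3 lc_f_rc_17_1 lc_f_rc_17_3 lc_f_rc_19_3 lc_f_rc_14_1 lc_f_rc_14_1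 lc_f_rc_14_3 lc_f_rc_14_3 lc_f_rc_14_3) (@D3.rec (fun _ => (Cert rels S Gen.f)) lc_f_rc_21_1 lc_f_rc_14_1 lc_f_rc_17_1 lc_f_rc_17_3 lc_f_rc_22_1 lc_f_rc_17_1 lc_f_rc_19_3 lc_f_rc_10_3 lc_f_rc_17_3 lc_f_rc_19_3 lc_f_rc_10_3 lc_f_rc_17_3 lc_f_rc_10_1 lc_f_rc_21_1 lc_f_rc_14_3 lc_f_rc_10_3 lc_f_rc_17_3 lc_f_rc_14_3 lc_f_rc_10_3 lc_f_rc_19_3 lc_f_rc_5_3 lc_f_rc_20_1 lc_f_rc_21_1 lc_f_rc_21_1 lc_f_rc_17_1 lc_f_rc_21_1 lc_f_rc_22_1 lc_f_rc_10_1 lc_f_rc_5_1 lc_f_rc_22_1 lc_f_rc_10_3 lc_f_rc_20_1 lc_f_rc_20_1 lc_f_rc_19_1 lc_f_rc_20_1 lc_f_rc_19_3 lc_f_rc_14_3 lc_f_rc_10_3 lc_f_rc_14_3 lc_f_rc_14_3 lc_f_rc_10_3 lc_f_rc_19_3 lc_f_rc_10_3 lc_f_rc_5_1 lc_f_rc_17_1 lc_f_rc_20_1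 lc_f_rc_20_1 lc_f_rc_21_1 lc_f_rc_14_3 lc_f_rc_10_3 lc_f_rc_17_3 lc_f_rc_20_1 lc_f_rc_10_3 lc_f_rc_10_1 lc_f_rc_14_3 lc_f_rc_20_1 lc_f_rc_17_1 lc_f_rc_10_3 lc_f_rc_10_1 lc_f_rc_17_1 lc_f_rc_21_1 lc_f_rc_20_1) (@D3.rec (fun _ => (Cert rels S Gen.f)) lc_f_rc_10_3 lc_f_rc_10_3 lc_f_rc_10_3 lc_f_rc_20_1 lc_f_rc_21_1 lc_f_rc_17_3 lc_f_rc_5_3 lc_f_rc_19_5 lc_f_rc_22_1 lc_f_rc_22_1 lc_f_rc_10_3 lc_f_rc_21_1 lc_f_rc_20_1 lc_f_rc_10_1 lc_f_rc_14_1 lc_f_rc_20_1 lc_f_rc_14_1 lc_f_rc_22_1 lc_f_rc_14_1 lc_f_rc_10_3 lc_f_rc_20_1 lc_f_rc_19_5 lc_f_rc_20_1 lc_f_rc_10_1 lc_f_rc_17_3 lc_f_rc_10_3 lc_f_rc_14_1 lc_f_rc_10_3 lc_f_rc_21_1 lc_f_rc_10_3 lc_f_rc_20_1 lc_f_rc_14_1 lc_f_rc_17_3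 lc_f_rc_5_3 lc_f_rc_10_3 lc_f_rc_10_3 lc_f_rc_17_3 lc_f_rc_19_3 lc_f_rc_14_3 lc_f_rc_17_3 lc_f_rc_5_3 lc_f_rc_20_1 lc_f_rc_17_3 lc_f_rc_10_3 lc_f_rc_19_3 lc_f_rc_20_1 lc_f_rc_10_1 lc_f_rc_17_3 lc_f_rc_17_1 lc_f_rc_14_3 lc_f_rc_17_1 lc_f_rc_20_1 lc_f_rc_22_1 lc_f_rc_10_3 lc_f_rc_10_3 lc_f_rc_22_1 lc_f_rc_17_1 lc_f_rc_5_3 lc_f_rc_19_5 lc_f_rc_14_1 lc_f_rc_20_1 lc_f_rc_19_3) (@D3.rec (fun _ => (Cert rels S Gen.f)) lc_f_rc_10_3 lc_f_rc_14_1 lc_f_rc_10_1 lc_f_rc_14_1 lc_f_rc_17_1 lc_f_rc_20_1 lc_f_rc_20_1 lc_f_rc_14_1 lc_f_rc_10_1 lc_f_rc_14_1 lc_f_rc_5_3 lc_f_rc_14_1 lc_f_rc_20_1 lc_f_rc_17_1 lc_f_rc_21_1 lc_f_rc_10_3 lc_f_rc_21_1 lc_f_rc_17_3 lc_f_rc_17_3 lc_f_rc_17_1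 lc_f_rc_21_1 lc_f_rc_10_3 lc_f_rc_17_3 lc_f_rc_10_3 lc_f_rc_10_3 lc_f_rc_5_3 lc_f_rc_20_1 lc_f_rc_14_1 lc_f_rc_17_3 lc_f_rc_10_3 lc_f_rc_20_1 lc_f_rc_19_1 lc_f_rc_10_3 lc_f_rc_20_1 lc_f_rc_20_1 lc_f_rc_10_3 lc_f_rc_19_1 lc_f_rc_20_1 lc_f_rc_14_3 lc_f_rc_17_3 lc_f_rc_5_1 lc_f_rc_14_3 lc_f_rc_14_3 lc_f_rc_19_5 lc_f_rc_14_1 lc_f_rc_20_1 lc_f_rc_20_1 lc_f_rc_21_1 lc_f_rc_17_1 lc_f_rc_20_1 lc_f_rc_21_1 lc_f_rc_20_1 lc_f_rc_21_1 lc_f_rc_21_1 lc_f_rc_20_1 lc_f_rc_10_3 lc_f_rc_14_3 lc_f_rc_14_1 lc_f_rc_22_1 lc_f_rc_20_1 lc_f_rc_14_3 lc_f_rc_22_1) (@D3.rec (fun _ => (Cert rels S Gen.f)) lc_f_rc_17_3 lc_f_rc_19_3 lc_f_rc_17_1 lc_f_rc_17_3 lc_f_rc_14_3 lc_f_rc_5_3 lc_f_rc_22_1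 lc_f_rc_14_3 lc_f_rc_10_3 lc_f_rc_10_1 lc_f_rc_17_3 lc_f_rc_5_1 lc_f_rc_21_1 lc_f_rc_17_3 lc_f_rc_22_1 lc_f_rc_17_3 lc_f_rc_14_3 lc_f_rc_14_3 lc_f_rc_17_3 lc_f_rc_21_1 lc_f_rc_19_3 lc_f_rc_10_3 lc_f_rc_17_3 lc_f_rc_19_5 lc_f_rc_14_3 lc_f_rc_14_1 lc_f_rc_21_1 lc_f_rc_17_3 lc_f_rc_17_3 lc_f_rc_22_1 lc_f_rc_17_3 lc_f_rc_17_3 lc_f_rc_17_3 lc_f_rc_17_1 lc_f_rc_14_3 lc_f_rc_10_3 lc_f_rc_20_1 lc_f_rc_5_1 lc_f_rc_21_1 lc_f_rc_20_1 lc_f_rc_14_3 lc_f_rc_17_3 lc_f_rc_21_1 lc_f_rc_14_1 lc_f_rc_17_3 lc_f_rc_19_5 lc_f_rc_21_1 lc_f_rc_14_1 lc_f_rc_17_3 lc_f_rc_19_3 lc_f_rc_21_1 lc_f_rc_20_1 lc_f_rc_20_1 lc_f_rc_10_3 lc_f_rc_14_3 lc_f_rc_17_1 lc_f_rc_17_3 lc_f_rc_5_1 lc_f_rc_14_3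 lc_f_rc_17_3 lc_f_rc_21_1 lc_f_rc_20_1) (@D3.rec (fun _ => (Cert rels S Gen.f)) lc_f_rc_10_3 lc_f_rc_17_1 lc_f_rc_17_1 lc_f_rc_20_1 lc_f_rc_22_1 lc_f_rc_17_3 lc_f_rc_22_1 lc_f_rc_14_1 lc_f_rc_20_1 lc_f_rc_20_1 lc_f_rc_17_3 lc_f_rc_19_3 lc_f_rc_21_1 lc_f_rc_14_3 lc_f_rc_14_3 lc_f_rc_10_3 lc_f_rc_19_3 lc_f_rc_20_1 lc_f_rc_21_1 lc_f_rc_17_1 lc_f_rc_22_1 lc_f_rc_19_1 lc_f_rc_19_5 lc_f_rc_19_3 lc_f_rc_19_5 lc_f_rc_22_1 lc_f_rc_20_1 lc_f_rc_17_1 lc_f_rc_20_1 lc_f_rc_17_1 lc_f_rc_10_3 lc_f_rc_14_3 lc_f_rc_22_1 lc_f_rc_10_1 lc_f_rc_10_3 lc_f_rc_17_3 lc_f_rc_10_3 lc_f_rc_21_1 lc_f_rc_14_1 lc_f_rc_10_3 lc_f_rc_10_1 lc_f_rc_14_3 lc_f_rc_14_3 lc_f_rc_19_1 lc_f_rc_10_3 lc_f_rc_20_1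 lc_f_rc_19_1 lc_f_rc_17_3 lc_f_rc_14_1 lc_f_rc_10_1 lc_f_rc_10_3 lc_f_rc_20_1 lc_f_rc_17_3 lc_f_rc_5_3 lc_f_rc_17_1 lc_f_rc_5_1 lc_f_rc_5_1 lc_f_rc_10_1 lc_f_rc_5_3 lc_f_rc_14_3 lc_f_rc_20_1 lc_f_rc_10_1) (@D3.rec (fun _ => (Cert rels S Gen.f)) lc_f_rc_17_1 lc_f_rc_14_3 lc_f_rc_21_1 lc_f_rc_14_1 lc_f_rc_14_3 lc_f_rc_5_3 lc_f_rc_5_3 lc_f_rc_19_5 lc_f_rc_5_3 lc_f_rc_22_1 lc_f_rc_17_3 lc_f_rc_20_1 lc_f_rc_14_3 lc_f_rc_10_1 lc_f_rc_20_1 lc_f_rc_17_1 lc_f_rc_17_1 lc_f_rc_20_1 lc_f_rc_10_3 lc_f_rc_17_3 lc_f_rc_10_3 lc_f_rc_5_3 lc_f_rc_17_3 lc_f_rc_22_1 lc_f_rc_21_1 lc_f_rc_17_1 lc_f_rc_20_1 lc_f_rc_22_1 lc_f_rc_20_1 lc_f_rc_22_1 lc_f_rc_10_3 lc_f_rc_14_3 lc_f_rc_21_1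 lc_f_rc_20_1 lc_f_rc_14_3 lc_f_rc_10_3 lc_f_rc_17_3 lc_f_rc_14_1 lc_f_rc_5_1 lc_f_rc_10_3 lc_f_rc_21_1 lc_f_rc_20_1 lc_f_rc_20_1 lc_f_rc_19_3 lc_f_rc_19_5 lc_f_rc_5_3 lc_f_rc_14_1 lc_f_rc_5_1 lc_f_rc_14_3 lc_f_rc_20_1 lc_f_rc_14_1 lc_f_rc_19_5 lc_f_rc_10_3 lc_f_rc_20_1 lc_f_rc_10_1 lc_f_rc_5_3 lc_f_rc_22_1 lc_f_rc_14_3 lc_f_rc_19_5 lc_f_rc_5_3 lc_f_rc_10_3 lc_f_rc_14_3) (@D3.rec (fun _ => (Cert rels S Gen.f)) lc_f_rc_17_1 lc_f_rc_14_1 lc_f_rc_20_1 lc_f_rc_22_1 lc_f_rc_19_5 lc_f_rc_19_5 lc_f_rc_14_3 lc_f_rc_10_1 lc_f_rc_14_3 lc_f_rc_19_1 lc_f_rc_19_1 lc_f_rc_20_1 lc_f_rc_21_1 lc_f_rc_19_5 lc_f_rc_10_1 lc_f_rc_14_1 lc_f_rc_14_1 lc_f_rc_17_1 lc_f_rc_21_1 lc_f_rc_14_1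 lc_f_rc_14_1 lc_f_rc_20_1 lc_f_rc_10_1 lc_f_rc_17_1 lc_f_rc_21_1 lc_f_rc_21_1 lc_f_rc_19_3 lc_f_rc_14_3 lc_f_rc_21_1 lc_f_rc_17_1 lc_f_rc_10_3 lc_f_rc_17_3 lc_f_rc_21_1 lc_f_rc_14_3 lc_f_rc_17_3 lc_f_rc_19_5 lc_f_rc_17_1 lc_f_rc_10_3 lc_f_rc_10_1 lc_f_rc_21_1 lc_f_rc_10_3 lc_f_rc_14_3 lc_f_rc_17_3 lc_f_rc_21_1 lc_f_rc_14_3 lc_f_rc_20_1 lc_f_rc_19_3 lc_f_rc_21_1 lc_f_rc_17_3 lc_f_rc_20_1 lc_f_rc_21_1 lc_f_rc_14_1 lc_f_rc_14_3 lc_f_rc_10_3 lc_f_rc_14_3 lc_f_rc_17_1 lc_f_rc_14_1 lc_f_rc_20_1 lc_f_rc_22_1 lc_f_rc_21_1 lc_f_rc_14_3 lc_f_rc_14_3) (@D3.rec (fun _ => (Cert rels S Gen.f)) lc_f_rc_10_1 lc_f_rc_21_1 lc_f_rc_10_3 lc_f_rc_14_3 lc_f_rc_17_1 lc_f_rc_21_1 lc_f_rc_14_3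 lc_f_rc_19_5 lc_f_rc_5_1 lc_f_rc_5_3 lc_f_rc_10_3 lc_f_rc_14_1 lc_f_rc_10_3 lc_f_rc_14_1 lc_f_rc_19_1 lc_f_rc_20_1 lc_f_rc_19_5 lc_f_rc_14_3 lc_f_rc_20_1 lc_f_rc_17_3 lc_f_rc_17_3 lc_f_rc_17_1 lc_f_rc_21_1 lc_f_rc_14_3 lc_f_rc_10_1 lc_f_rc_5_3 lc_f_rc_20_1 lc_f_rc_17_3 lc_f_rc_10_3 lc_f_rc_10_3 lc_f_rc_14_3 lc_f_rc_14_3 lc_f_rc_14_3 lc_f_rc_5_1 lc_f_rc_20_1 lc_f_rc_14_3 lc_f_rc_14_3 lc_f_rc_19_5 lc_f_rc_19_5 lc_f_rc_20_1 lc_f_rc_19_3 lc_f_Cert_tree lc_f_rc_20_1 lc_f_rc_19_5 lc_f_rc_5_3 lc_f_rc_5_1 lc_f_rc_20_1 lc_f_rc_19_1 lc_f_rc_21_1 lc_f_rc_19_1 lc_f_rc_20_1 lc_f_rc_20_1 lc_f_rc_14_3 lc_f_rc_21_1 lc_f_rc_17_3 lc_f_rc_19_5 lc_f_rc_5_1 lc_f_rc_17_3 lc_f_rc_22_1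 lc_f_rc_10_3 lc_f_rc_17_3 lc_f_rc_19_3) (@D3.rec (fun _ => (Cert rels S Gen.f)) lc_f_rc_21_1 lc_f_rc_14_3 lc_f_rc_14_3 lc_f_rc_21_1 lc_f_rc_21_1 lc_f_rc_14_3 lc_f_rc_20_1 lc_f_rc_14_3 lc_f_rc_14_3 lc_f_rc_10_3 lc_f_rc_14_1 lc_f_rc_10_3 lc_f_rc_19_3 lc_f_rc_17_3 lc_f_rc_5_3 lc_f_rc_14_1 lc_f_rc_17_3 lc_f_rc_5_1 lc_f_rc_14_3 lc_f_rc_22_1 lc_f_rc_10_3 lc_f_rc_14_3 lc_f_rc_20_1 lc_f_rc_20_1 lc_f_rc_5_1 lc_f_rc_5_3 lc_f_rc_14_3 lc_f_rc_17_3 lc_f_rc_10_3 lc_f_rc_14_1 lc_f_rc_10_3 lc_f_rc_20_1 lc_f_rc_14_3 lc_f_rc_10_1 lc_f_rc_17_1 lc_f_rc_10_3 lc_f_rc_10_1 lc_f_rc_17_3 lc_f_rc_14_3 lc_f_rc_14_3 lc_f_rc_10_3 lc_f_rc_17_1 lc_f_rc_17_3 lc_f_rc_17_3 lc_f_rc_17_3 lc_f_rc_22_1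 lc_f_rc_20_1 lc_f_rc_10_3 lc_f_rc_14_1 lc_f_rc_19_1 lc_f_rc_17_1 lc_f_rc_14_3 lc_f_rc_19_5 lc_f_rc_14_3 lc_f_rc_10_3 lc_f_rc_17_3 lc_f_rc_14_3 lc_f_rc_5_3 lc_f_rc_19_1 lc_f_rc_10_3 lc_f_rc_14_1 lc_f_rc_21_1) (@D3.rec (fun _ => (Cert rels S Gen.f)) lc_f_rc_17_3 lc_f_rc_19_1 lc_f_rc_21_1 lc_f_rc_17_3 lc_f_rc_10_3 lc_f_rc_17_3 lc_f_rc_14_3 lc_f_rc_17_3 lc_f_rc_10_3 lc_f_rc_21_1 lc_f_Cert_tree lc_f_rc_17_1 lc_f_rc_14_3 lc_f_rc_10_1 lc_f_rc_20_1 lc_f_rc_14_3 lc_f_rc_5_1 lc_f_rc_21_1 lc_f_rc_20_1 lc_f_rc_10_3 lc_f_rc_17_3 lc_f_rc_10_3 lc_f_rc_21_1 lc_f_rc_10_1 lc_f_rc_14_3 lc_f_rc_19_5 lc_f_rc_17_1 lc_f_rc_5_3 lc_f_rc_19_3 lc_f_rc_20_1 lc_f_rc_17_3 lc_f_rc_20_1 lc_f_rc_14_3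 lc_f_rc_17_3 lc_f_rc_17_3 lc_f_rc_22_1 lc_f_rc_20_1 lc_f_rc_20_1 lc_f_rc_20_1 lc_f_rc_19_3 lc_f_rc_10_3 lc_f_rc_14_3 lc_f_rc_14_3 lc_f_rc_10_3 lc_f_rc_21_1 lc_f_rc_20_1 lc_f_rc_5_1 lc_f_rc_20_1 lc_f_rc_20_1 lc_f_rc_17_1 lc_f_rc_5_1 lc_f_rc_21_1 lc_f_rc_10_1 lc_f_rc_20_1 lc_f_rc_22_1 lc_f_rc_10_3 lc_f_rc_22_1 lc_f_rc_10_3 lc_f_rc_10_3 lc_f_rc_19_5 lc_f_rc_20_1 lc_f_rc_17_3) (@D3.rec (fun _ => (Cert rels S Gen.f)) lc_f_rc_14_3 lc_f_rc_22_1 lc_f_rc_14_3 lc_f_rc_17_3 lc_f_rc_10_3 lc_f_rc_17_3 lc_f_rc_5_3 lc_f_rc_20_1 lc_f_rc_14_3 lc_f_rc_14_1 lc_f_rc_19_3 lc_f_rc_19_5 lc_f_rc_21_1 lc_f_Cert_tree lc_f_rc_20_1 lc_f_rc_14_1 lc_f_rc_21_1 lc_f_rc_21_1 lc_f_rc_14_3 lc_f_rc_20_1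 lc_f_rc_10_3 lc_f_rc_20_1 lc_f_rc_19_3 lc_f_rc_17_3 lc_f_rc_10_1 lc_f_rc_21_1 lc_f_rc_21_1 lc_f_rc_14_3 lc_f_rc_19_3 lc_f_rc_21_1 lc_f_rc_17_3 lc_f_rc_10_3 lc_f_rc_17_1 lc_f_rc_17_1 lc_f_rc_20_1 lc_f_rc_17_3 lc_f_rc_14_3 lc_f_rc_14_3 lc_f_rc_20_1 lc_f_rc_17_3 lc_f_rc_10_3 lc_f_rc_20_1 lc_f_rc_19_5 lc_f_rc_17_3 lc_f_rc_14_3 lc_f_rc_19_5 lc_f_rc_17_3 lc_f_rc_10_3 lc_f_rc_21_1 lc_f_rc_10_3 lc_f_rc_17_3 lc_f_rc_14_3 lc_f_rc_14_3 lc_f_rc_20_1 lc_f_rc_14_3 lc_f_rc_10_3 lc_f_rc_10_3 lc_f_rc_10_1 lc_f_rc_21_1 lc_f_rc_10_3 lc_f_rc_22_1 lc_f_rc_14_3) (@D3.rec (fun _ => (Cert rels S Gen.f)) lc_f_rc_19_5 lc_f_rc_14_1 lc_f_rc_17_3 lc_f_rc_10_3 lc_f_rc_14_1 lc_f_rc_14_3 lc_f_rc_17_3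 lc_f_rc_10_3 lc_f_rc_21_1 lc_f_rc_22_1 lc_f_rc_17_1 lc_f_rc_10_3 lc_f_rc_17_3 lc_f_rc_21_1 lc_f_rc_17_1 lc_f_rc_20_1 lc_f_rc_19_1 lc_f_rc_21_1 lc_f_rc_17_1 lc_f_rc_20_1 lc_f_rc_21_1 lc_f_rc_17_1 lc_f_rc_17_1 lc_f_rc_19_1 lc_f_rc_21_1 lc_f_rc_20_1 lc_f_rc_21_1 lc_f_rc_14_3 lc_f_rc_19_3 lc_f_rc_5_3 lc_f_rc_14_3 lc_f_rc_21_1 lc_f_rc_5_3 lc_f_rc_19_3 lc_f_rc_5_3 lc_f_rc_21_1 lc_f_rc_14_3 lc_f_rc_10_3 lc_f_rc_14_3 lc_f_rc_21_1 lc_f_rc_17_1 lc_f_rc_20_1 lc_f_rc_21_1 lc_f_rc_17_1 lc_f_rc_10_3 lc_f_rc_5_3 lc_f_rc_10_3 lc_f_rc_5_1 lc_f_rc_17_3 lc_f_rc_14_3 lc_f_rc_17_3 lc_f_rc_10_3 lc_f_rc_17_1 lc_f_rc_14_3 lc_f_rc_20_1 lc_f_rc_21_1 lc_f_rc_10_3 lc_f_rc_17_1 lc_f_rc_20_1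 lc_f_rc_17_3 lc_f_rc_14_3 lc_f_rc_17_1) (@D3.rec (fun _ => (Cert rels S Gen.f)) lc_f_rc_17_1 lc_f_rc_17_3 lc_f_rc_21_1 lc_f_rc_5_1 lc_f_rc_17_3 lc_f_rc_17_3 lc_f_rc_17_3 lc_f_rc_20_1 lc_f_rc_20_1 lc_f_rc_19_3 lc_f_rc_5_3 lc_f_rc_17_3 lc_f_rc_14_3 lc_f_rc_10_3 lc_f_rc_14_3 lc_f_rc_5_1 lc_f_rc_14_1 lc_f_rc_14_3 lc_f_rc_17_1 lc_f_rc_10_3 lc_f_rc_17_3 lc_f_rc_10_3 lc_f_rc_14_1 lc_f_rc_10_3 lc_f_rc_14_3 lc_f_rc_10_3 lc_f_rc_14_1 lc_f_rc_22_1 lc_f_rc_14_1 lc_f_rc_17_1 lc_f_rc_20_1 lc_f_rc_14_3 lc_f_rc_14_3 lc_f_rc_14_3 lc_f_rc_14_3 lc_f_rc_10_3 lc_f_rc_17_3 lc_f_rc_5_1 lc_f_rc_17_1 lc_f_rc_5_1 lc_f_rc_19_3 lc_f_rc_17_3 lc_f_rc_20_1 lc_f_rc_5_3 lc_f_rc_20_1 lc_f_rc_5_1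 lc_f_rc_10_3 lc_f_rc_21_1 lc_f_rc_21_1 lc_f_rc_17_3 lc_f_rc_17_3 lc_f_rc_5_1 lc_f_rc_21_1 lc_f_rc_10_3 lc_f_rc_17_3 lc_f_rc_21_1 lc_f_rc_14_3 lc_f_rc_22_1 lc_f_rc_21_1 lc_f_rc_21_1 lc_f_rc_20_1 lc_f_rc_19_5) (@D3.rec (fun _ => (Cert rels S Gen.f)) lc_f_rc_22_1 lc_f_rc_10_3 lc_f_rc_21_1 lc_f_rc_19_5 lc_f_rc_20_1 lc_f_rc_19_5 lc_f_rc_21_1 lc_f_rc_20_1 lc_f_rc_20_1 lc_f_rc_20_1 lc_f_rc_14_3 lc_f_rc_14_3 lc_f_rc_20_1 lc_f_rc_17_1 lc_f_rc_10_3 lc_f_rc_17_1 lc_f_rc_19_3 lc_f_rc_20_1 lc_f_rc_10_3 lc_f_rc_19_3 lc_f_rc_5_3 lc_f_rc_17_3 lc_f_rc_20_1 lc_f_rc_17_1 lc_f_rc_17_3 lc_f_rc_20_1 lc_f_rc_10_3 lc_f_rc_14_3 lc_f_rc_14_3 lc_f_rc_17_3 lc_f_rc_22_1 lc_f_rc_21_1 lc_f_rc_10_1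 lc_f_rc_14_3 lc_f_rc_21_1 lc_f_rc_20_1 lc_f_rc_20_1 lc_f_rc_21_1 lc_f_rc_14_1 lc_f_rc_20_1 lc_f_rc_21_1 lc_f_rc_17_3 lc_f_rc_10_3 lc_f_rc_19_3 lc_f_rc_19_5 lc_f_rc_20_1 lc_f_rc_10_3 lc_f_rc_10_1 lc_f_rc_5_1 lc_f_rc_19_5 lc_f_rc_21_1 lc_f_rc_10_3 lc_f_rc_22_1 lc_f_rc_17_1 lc_f_rc_20_1 lc_f_rc_5_3 lc_f_rc_20_1 lc_f_rc_10_3 lc_f_rc_17_1 lc_f_rc_5_3 lc_f_rc_17_1 lc_f_rc_20_1) (@D3.rec (fun _ => (Cert rels S Gen.f)) lc_f_rc_20_1 lc_f_rc_5_3 lc_f_rc_17_3 lc_f_rc_17_3 lc_f_rc_20_1 lc_f_rc_17_3 lc_f_rc_17_3 lc_f_rc_14_1 lc_f_rc_17_3 lc_f_rc_14_3 lc_f_rc_19_5 lc_f_rc_20_1 lc_f_rc_21_1 lc_f_rc_20_1 lc_f_rc_17_3 lc_f_rc_17_3 lc_f_rc_19_1 lc_f_rc_10_3 lc_f_rc_22_1 lc_f_rc_14_3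 lc_f_rc_10_1 lc_f_rc_10_3 lc_f_rc_10_3 lc_f_rc_17_3 lc_f_rc_10_1 lc_f_rc_21_1 lc_f_rc_14_3 lc_f_rc_10_3 lc_f_rc_20_1 lc_f_rc_5_1 lc_f_rc_17_3 lc_f_rc_17_1 lc_f_rc_5_3 lc_f_rc_10_3 lc_f_rc_14_1 lc_f_rc_22_1 lc_f_rc_10_3 lc_f_rc_21_1 lc_f_rc_20_1 lc_f_rc_21_1 lc_f_rc_19_3 lc_f_rc_17_3 lc_f_rc_14_1 lc_f_rc_10_3 lc_f_rc_17_3 lc_f_rc_10_3 lc_f_rc_20_1 lc_f_rc_14_1 lc_f_rc_20_1 lc_f_rc_10_3 lc_f_rc_19_1 lc_f_rc_14_3 lc_f_rc_10_3 lc_f_rc_21_1 lc_f_rc_14_1 lc_f_rc_20_1 lc_f_rc_21_1 lc_f_rc_20_1 lc_f_rc_14_3 lc_f_rc_20_1 lc_f_rc_14_1 lc_f_rc_17_3) (@D3.rec (fun _ => (Cert rels S Gen.f)) lc_f_rc_20_1 lc_f_rc_14_3 lc_f_rc_17_3 lc_f_rc_10_3 lc_f_rc_21_1 lc_f_rc_22_1 lc_f_rc_5_1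 lc_f_rc_14_3 lc_f_rc_20_1 lc_f_rc_10_3 lc_f_rc_5_1 lc_f_rc_17_3 lc_f_rc_14_3 lc_f_rc_14_3 lc_f_rc_5_1 lc_f_rc_21_1 lc_f_rc_10_3 lc_f_rc_19_5 lc_f_rc_17_3 lc_f_rc_14_3 lc_f_rc_5_1 lc_f_rc_10_3 lc_f_rc_20_1 lc_f_rc_20_1 lc_f_rc_5_3 lc_f_rc_17_1 lc_f_rc_21_1 lc_f_rc_20_1 lc_f_rc_21_1 lc_f_rc_20_1 lc_f_rc_17_3 lc_f_rc_17_3 lc_f_rc_17_3 lc_f_rc_10_3 lc_f_rc_19_3 lc_f_rc_17_3 lc_f_rc_14_1 lc_f_rc_19_3 lc_f_rc_10_3 lc_f_rc_21_1 lc_f_rc_20_1 lc_f_rc_14_3 lc_f_rc_21_1 lc_f_rc_20_1 lc_f_rc_20_1 lc_f_rc_10_3 lc_f_rc_17_3 lc_f_rc_17_3 lc_f_rc_17_3 lc_f_rc_14_3 lc_f_rc_21_1 lc_f_Cert_tree lc_f_rc_20_1 lc_f_rc_14_3 lc_f_rc_20_1 lc_f_rc_22_1 lc_f_rc_14_3 lc_f_rc_14_3 lc_f_rc_20_1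 lc_f_rc_10_3 lc_f_rc_14_3 lc_f_rc_22_1) (@D3.rec (fun _ => (Cert rels S Gen.f)) lc_f_rc_5_1 lc_f_rc_17_3 lc_f_rc_17_3 lc_f_rc_20_1 lc_f_rc_14_3 lc_f_rc_20_1 lc_f_rc_17_3 lc_f_rc_14_3 lc_f_rc_14_1 lc_f_rc_17_3 lc_f_rc_17_3 lc_f_rc_21_1 lc_f_rc_20_1 lc_f_rc_14_3 lc_f_rc_17_3 lc_f_rc_14_3 lc_f_rc_19_3 lc_f_rc_10_3 lc_f_rc_21_1 lc_f_rc_17_3 lc_f_rc_17_3 lc_f_rc_10_3 lc_f_rc_10_3 lc_f_rc_19_5 lc_f_rc_17_3 lc_f_rc_14_3 lc_f_rc_10_3 lc_f_rc_14_3 lc_f_rc_14_3 lc_f_rc_19_3 lc_f_rc_20_1 lc_f_rc_10_3 lc_f_rc_14_3 lc_f_rc_14_1 lc_f_rc_17_1 lc_f_rc_20_1 lc_f_rc_20_1 lc_f_rc_10_3 lc_f_rc_14_3 lc_f_rc_5_1 lc_f_rc_10_3 lc_f_rc_17_3 lc_f_rc_19_3 lc_f_rc_20_1 lc_f_rc_20_1 lc_f_rc_17_3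 lc_f_rc_20_1 lc_f_rc_19_5 lc_f_rc_20_1 lc_f_rc_14_3 lc_f_rc_14_3 lc_f_rc_19_3 lc_f_rc_17_1 lc_f_rc_17_1 lc_f_rc_17_1 lc_f_rc_19_3 lc_f_rc_10_3 lc_f_rc_17_3 lc_f_rc_19_5 lc_f_rc_10_1 lc_f_rc_22_1 lc_f_rc_19_3) (@D3.rec (fun _ => (Cert rels S Gen.f)) lc_f_rc_14_3 lc_f_rc_22_1 lc_f_rc_20_1 lc_f_rc_19_5 lc_f_rc_17_1 lc_f_rc_19_5 lc_f_rc_10_3 lc_f_rc_10_3 lc_f_rc_21_1 lc_f_rc_17_1 lc_f_rc_5_1 lc_f_rc_5_1 lc_f_rc_21_1 lc_f_rc_14_1 lc_f_rc_10_3 lc_f_rc_14_3 lc_f_rc_5_1 lc_f_rc_10_3 lc_f_rc_10_3 lc_f_rc_5_3 lc_f_rc_21_1 lc_f_rc_5_1 lc_f_rc_19_5 lc_f_rc_17_3 lc_f_rc_17_3 lc_f_rc_10_3 lc_f_rc_17_3 lc_f_rc_21_1 lc_f_rc_19_1 lc_f_rc_17_3 lc_f_rc_22_1 lc_f_rc_14_3 lc_f_rc_10_1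 lc_f_rc_5_3 lc_f_rc_14_3 lc_f_rc_17_1 lc_f_rc_21_1 lc_f_rc_5_1 lc_f_rc_10_3 lc_f_rc_5_1 lc_f_rc_10_1 lc_f_rc_10_1 lc_f_rc_14_1 lc_f_rc_5_3 lc_f_rc_21_1 lc_f_rc_14_3 lc_f_rc_5_3 lc_f_rc_17_3 lc_f_rc_17_3 lc_f_rc_10_1 lc_f_rc_19_3 lc_f_rc_17_3 lc_f_rc_19_5 lc_f_rc_21_1 lc_f_rc_14_1 lc_f_rc_14_3 lc_f_rc_5_1 lc_f_rc_17_3 lc_f_rc_14_3 lc_f_rc_21_1 lc_f_rc_19_5 lc_f_rc_10_3) (@D3.rec (fun _ => (Cert rels S Gen.f)) lc_f_rc_19_1 lc_f_rc_14_3 lc_f_rc_14_1 lc_f_rc_17_3 lc_f_rc_17_1 lc_f_rc_20_1 lc_f_rc_17_1 lc_f_rc_14_3 lc_f_rc_17_1 lc_f_rc_20_1 lc_f_rc_10_3 lc_f_rc_14_3 lc_f_rc_14_1 lc_f_rc_17_1 lc_f_rc_20_1 lc_f_rc_17_3 lc_f_rc_14_3 lc_f_rc_17_3 lc_f_rc_5_3 lc_f_rc_17_3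 lc_f_rc_14_1 lc_f_rc_14_3 lc_f_rc_10_3 lc_f_rc_10_1 lc_f_rc_20_1 lc_f_rc_21_1 lc_f_rc_10_3 lc_f_rc_20_1 lc_f_rc_21_1 lc_f_rc_21_1 lc_f_rc_19_3 lc_f_rc_20_1 lc_f_rc_20_1 lc_f_rc_14_1 lc_f_rc_17_3 lc_f_rc_10_3 lc_f_rc_17_3 lc_f_rc_20_1 lc_f_rc_21_1 lc_f_rc_17_3 lc_f_rc_20_1 lc_f_rc_5_3 lc_f_rc_17_1 lc_f_rc_20_1 lc_f_rc_17_1 lc_f_rc_17_1 lc_f_rc_5_1 lc_f_rc_20_1 lc_f_rc_10_1 lc_f_rc_20_1 lc_f_rc_14_3 lc_f_rc_19_1 lc_f_rc_22_1 lc_f_rc_17_3 lc_f_rc_19_3 lc_f_rc_17_3 lc_f_rc_19_3 lc_f_rc_14_3 lc_f_rc_10_3 lc_f_rc_20_1 lc_f_rc_20_1 lc_f_rc_20_1) (@D3.rec (fun _ => (Cert rels S Gen.f)) lc_f_rc_5_1 lc_f_rc_19_3 lc_f_rc_14_3 lc_f_rc_10_3 lc_f_rc_17_1 lc_f_rc_17_3 lc_f_rc_19_3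 lc_f_rc_10_3 lc_f_rc_10_3 lc_f_rc_14_3 lc_f_rc_17_3 lc_f_rc_20_1 lc_f_rc_21_1 lc_f_rc_14_3 lc_f_rc_17_1 lc_f_rc_10_3 lc_f_rc_14_3 lc_f_rc_17_3 lc_f_rc_14_1 lc_f_rc_10_3 lc_f_rc_5_1 lc_f_rc_10_3 lc_f_rc_14_3 lc_f_rc_17_3 lc_f_rc_10_1 lc_f_rc_20_1 lc_f_rc_10_3 lc_f_rc_20_1 lc_f_rc_14_1 lc_f_rc_19_1 lc_f_rc_10_3 lc_f_rc_14_3 lc_f_rc_20_1 lc_f_rc_22_1 lc_f_rc_20_1 lc_f_rc_5_3 lc_f_rc_10_1 lc_f_rc_20_1 lc_f_rc_14_1 lc_f_rc_20_1 lc_f_rc_20_1 lc_f_rc_14_3 lc_f_rc_17_3 lc_f_rc_14_1 lc_f_rc_22_1 lc_f_Cert_tree lc_f_rc_20_1 lc_f_rc_10_3 lc_f_rc_17_3 lc_f_rc_14_1 lc_f_rc_14_3 lc_f_rc_19_3 lc_f_rc_19_3 lc_f_rc_10_3 lc_f_rc_17_3 lc_f_rc_20_1 lc_f_rc_17_3 lc_f_rc_17_3 lc_f_rc_21_1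 lc_f_rc_14_1 lc_f_rc_14_3 lc_f_rc_14_3) (@D3.rec (fun _ => (Cert rels S Gen.f)) lc_f_rc_20_1 lc_f_rc_21_1 lc_f_rc_19_5 lc_f_rc_17_3 lc_f_rc_14_1 lc_f_rc_14_3 lc_f_rc_5_1 lc_f_rc_17_1 lc_f_rc_14_3 lc_f_rc_17_3 lc_f_rc_14_3 lc_f_rc_14_3 lc_f_rc_14_3 lc_f_rc_19_1 lc_f_rc_21_1 lc_f_rc_10_1 lc_f_rc_5_1 lc_f_rc_19_3 lc_f_rc_10_3 lc_f_rc_14_1 lc_f_rc_19_3 lc_f_rc_10_1 lc_f_rc_14_3 lc_f_rc_10_1 lc_f_rc_14_3 lc_f_rc_14_3 lc_f_rc_20_1 lc_f_rc_5_3 lc_f_rc_20_1 lc_f_rc_17_1 lc_f_rc_14_3 lc_f_rc_17_3 lc_f_rc_10_3 lc_f_rc_14_1 lc_f_rc_20_1 lc_f_rc_17_3 lc_f_rc_17_3 lc_f_rc_21_1 lc_f_rc_10_3 lc_f_rc_21_1 lc_f_rc_14_3 lc_f_rc_10_3 lc_f_rc_21_1 lc_f_Cert_tree lc_f_rc_20_1 lc_f_rc_10_3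 lc_f_rc_10_1 lc_f_rc_10_3 lc_f_rc_14_3 lc_f_rc_10_3 lc_f_rc_14_1 lc_f_rc_10_3 lc_f_rc_14_3 lc_f_rc_20_1 lc_f_rc_19_3 lc_f_rc_5_3 lc_f_rc_5_1 lc_f_rc_21_1 lc_f_rc_20_1 lc_f_rc_10_3 lc_f_rc_14_3 lc_f_rc_17_1) (@D3.rec (fun _ => (Cert rels S Gen.f)) lc_f_rc_14_3 lc_f_rc_14_3 lc_f_rc_17_1 lc_f_rc_17_1 lc_f_rc_10_3 lc_f_rc_19_3 lc_f_rc_19_1 lc_f_Cert_tree lc_f_rc_20_1 lc_f_rc_22_1 lc_f_rc_14_1 lc_f_rc_19_3 lc_f_rc_17_3 lc_f_rc_14_1 lc_f_rc_21_1 lc_f_rc_10_1 lc_f_rc_20_1 lc_f_rc_19_3 lc_f_rc_5_1 lc_f_rc_14_3 lc_f_rc_20_1 lc_f_rc_17_3 lc_f_rc_14_3 lc_f_rc_10_1 lc_f_rc_20_1 lc_f_Cert_tree lc_f_rc_14_3 lc_f_rc_20_1 lc_f_rc_19_3 lc_f_rc_17_3 lc_f_rc_10_3 lc_f_rc_20_1 lc_f_rc_17_1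 lc_f_rc_21_1 lc_f_rc_10_1 lc_f_rc_14_1 lc_f_rc_20_1 lc_f_rc_14_3 lc_f_rc_10_3 lc_f_rc_17_1 lc_f_rc_14_3 lc_f_rc_22_1 lc_f_rc_20_1 lc_f_rc_17_1 lc_f_rc_14_3 lc_f_rc_21_1 lc_f_rc_22_1 lc_f_rc_20_1 lc_f_rc_19_1 lc_f_rc_10_3 lc_f_rc_20_1 lc_f_rc_22_1 lc_f_rc_21_1 lc_f_rc_21_1 lc_f_rc_20_1 lc_f_rc_14_3 lc_f_rc_22_1 lc_f_rc_17_3 lc_f_rc_14_3 lc_f_rc_10_3 lc_f_rc_10_3 lc_f_rc_10_3) (@D3.rec (fun _ => (Cert rels S Gen.f)) lc_f_rc_17_1 lc_f_rc_22_1 lc_f_rc_17_1 lc_f_rc_14_1 lc_f_Cert_tree lc_f_rc_20_1 lc_f_rc_14_3 lc_f_rc_10_3 lc_f_rc_14_3 lc_f_rc_17_1 lc_f_rc_5_1 lc_f_rc_17_3 lc_f_rc_19_3 lc_f_rc_17_3 lc_f_rc_14_3 lc_f_rc_10_1 lc_f_rc_17_3 lc_f_rc_21_1 lc_f_rc_20_1 lc_f_rc_5_3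 lc_f_rc_5_1 lc_f_rc_20_1 lc_f_rc_10_3 lc_f_rc_5_3 lc_f_rc_10_3 lc_f_rc_10_3 lc_f_rc_5_3 lc_f_rc_5_1 lc_f_rc_5_1 lc_f_rc_19_5 lc_f_rc_5_1 lc_f_rc_5_3 lc_f_rc_14_3 lc_f_rc_14_3 lc_f_rc_17_1 lc_f_rc_21_1 lc_f_rc_10_3 lc_f_rc_14_3 lc_f_rc_5_3 lc_f_rc_14_1 lc_f_rc_10_3 lc_f_rc_20_1 lc_f_rc_17_3 lc_f_rc_14_1 lc_f_rc_14_3 lc_f_rc_14_3 lc_f_rc_14_1 lc_f_rc_5_3 lc_f_rc_20_1 lc_f_rc_19_3 lc_f_rc_10_3 lc_f_rc_20_1 lc_f_rc_17_1 lc_f_rc_10_3 lc_f_rc_10_1 lc_f_rc_10_3 lc_f_rc_17_1 lc_f_rc_19_3 lc_f_rc_14_1 lc_f_rc_21_1 lc_f_rc_10_3 lc_f_rc_5_3) (@D3.rec (fun _ => (Cert rels S Gen.f)) lc_f_rc_14_1 lc_f_rc_21_1 lc_f_rc_17_3 lc_f_rc_17_1 lc_f_rc_10_1 lc_f_rc_21_1 lc_f_rc_5_1 lc_f_rc_20_1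 lc_f_rc_5_3 lc_f_rc_21_1 lc_f_rc_19_1 lc_f_rc_20_1 lc_f_rc_20_1 lc_f_rc_14_3 lc_f_rc_20_1 lc_f_rc_10_3 lc_f_rc_14_3 lc_f_rc_17_3 lc_f_rc_10_1 lc_f_rc_22_1 lc_f_rc_20_1 lc_f_rc_20_1 lc_f_rc_19_3 lc_f_rc_17_3 lc_f_rc_10_3 lc_f_rc_17_3 lc_f_rc_22_1 lc_f_rc_20_1 lc_f_rc_10_1 lc_f_rc_14_3 lc_f_rc_14_3 lc_f_rc_14_3 lc_f_rc_10_1 lc_f_rc_10_3 lc_f_rc_10_1 lc_f_rc_22_1 lc_f_rc_14_3 lc_f_rc_10_3 lc_f_rc_20_1 lc_f_rc_5_1 lc_f_rc_22_1 lc_f_rc_19_3 lc_f_rc_20_1 lc_f_rc_5_3 lc_f_rc_21_1 lc_f_rc_20_1 lc_f_rc_20_1 lc_f_rc_21_1 lc_f_rc_17_1 lc_f_rc_21_1 lc_f_rc_14_3 lc_f_rc_14_3 lc_f_rc_14_3 lc_f_rc_5_3 lc_f_rc_17_3 lc_f_rc_10_3 lc_f_rc_20_1 lc_f_rc_14_3 lc_f_rc_22_1 lc_f_rc_10_3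 lc_f_rc_14_1 lc_f_rc_14_1) (@D3.rec (fun _ => (Cert rels S Gen.f)) lc_f_rc_14_1 lc_f_rc_10_1 lc_f_rc_10_1 lc_f_rc_17_1 lc_f_rc_5_3 lc_f_rc_10_3 lc_f_rc_14_3 lc_f_rc_10_3 lc_f_rc_10_3 lc_f_rc_14_1 lc_f_rc_20_1 lc_f_rc_17_3 lc_f_rc_21_1 lc_f_rc_5_1 lc_f_rc_20_1 lc_f_rc_22_1 lc_f_rc_10_3 lc_f_rc_14_3 lc_f_rc_17_3 lc_f_rc_21_1 lc_f_rc_20_1 lc_f_rc_14_3 lc_f_rc_19_3 lc_f_rc_21_1 lc_f_rc_14_3 lc_f_rc_14_3 lc_f_rc_17_3 lc_f_rc_20_1 lc_f_rc_14_3 lc_f_rc_10_3 lc_f_rc_14_3 lc_f_rc_20_1 lc_f_rc_14_3 lc_f_rc_14_3 lc_f_rc_10_1 lc_f_rc_19_3 lc_f_rc_5_3 lc_f_rc_19_5 lc_f_rc_10_3 lc_f_rc_10_3 lc_f_rc_20_1 lc_f_rc_10_3 lc_f_rc_17_3 lc_f_rc_17_3 lc_f_rc_17_3 lc_f_rc_20_1 lc_f_rc_10_1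 lc_f_rc_10_3 lc_f_rc_17_3 lc_f_rc_10_3 lc_f_rc_14_3 lc_f_rc_22_1 lc_f_rc_10_3 lc_f_rc_17_1 lc_f_rc_10_1 lc_f_rc_14_3 lc_f_rc_10_3 lc_f_rc_20_1 lc_f_rc_14_1 lc_f_rc_17_3 lc_f_rc_19_5 lc_f_rc_20_1) (@D3.rec (fun _ => (Cert rels S Gen.f)) lc_f_rc_19_5 lc_f_rc_5_1 lc_f_rc_21_1 lc_f_rc_14_3 lc_f_rc_17_1 lc_f_rc_17_3 lc_f_rc_22_1 lc_f_rc_22_1 lc_f_rc_10_1 lc_f_rc_5_3 lc_f_rc_10_1 lc_f_rc_10_3 lc_f_rc_14_3 lc_f_rc_19_5 lc_f_rc_19_3 lc_f_rc_19_5 lc_f_rc_5_3 lc_f_rc_14_3 lc_f_rc_14_3 lc_f_rc_19_3 lc_f_rc_17_3 lc_f_rc_21_1 lc_f_rc_20_1 lc_f_rc_22_1 lc_f_rc_5_3 lc_f_rc_14_3 lc_f_rc_20_1 lc_f_rc_22_1 lc_f_rc_14_3 lc_f_rc_22_1 lc_f_rc_5_1 lc_f_rc_10_3 lc_f_rc_17_3 lc_f_rc_5_3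 lc_f_rc_5_3 lc_f_rc_10_3 lc_f_rc_5_3 lc_f_rc_21_1 lc_f_rc_17_1 lc_f_rc_14_3 lc_f_rc_14_3 lc_f_rc_19_3 lc_f_rc_14_3 lc_f_rc_21_1 lc_f_rc_19_1 lc_f_rc_21_1 lc_f_rc_17_3 lc_f_rc_19_3 lc_f_rc_10_3 lc_f_rc_14_3 lc_f_rc_10_3 lc_f_rc_21_1 lc_f_rc_10_3 lc_f_rc_5_1 lc_f_rc_10_3 lc_f_rc_17_3 lc_f_rc_14_1 lc_f_rc_20_1 lc_f_rc_5_1 lc_f_rc_17_3 lc_f_rc_10_1 lc_f_rc_14_1) (@D3.rec (fun _ => (Cert rels S Gen.f)) lc_f_rc_21_1 lc_f_Cert_tree lc_f_rc_20_1 lc_f_rc_10_3 lc_f_rc_19_5 lc_f_rc_19_3 lc_f_rc_14_3 lc_f_rc_14_3 lc_f_rc_10_3 lc_f_rc_14_3 lc_f_rc_19_5 lc_f_rc_10_1 lc_f_rc_22_1 lc_f_rc_14_1 lc_f_rc_19_3 lc_f_rc_17_3 lc_f_rc_14_3 lc_f_rc_21_1 lc_f_rc_20_1 lc_f_rc_21_1 lc_f_rc_14_3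 lc_f_rc_10_3 lc_f_rc_10_3 lc_f_rc_19_5 lc_f_rc_14_3 lc_f_rc_22_1 lc_f_rc_21_1 lc_f_rc_20_1 lc_f_rc_21_1 lc_f_rc_14_3 lc_f_rc_20_1 lc_f_rc_5_3 lc_f_rc_5_3 lc_f_rc_10_3 lc_f_rc_17_3 lc_f_rc_14_3 lc_f_rc_17_3 lc_f_rc_10_1 lc_f_rc_19_3 lc_f_rc_14_3 lc_f_rc_21_1 lc_f_rc_19_5 lc_f_rc_14_3 lc_f_rc_21_1 lc_f_rc_19_5 lc_f_rc_19_1 lc_f_rc_5_1 lc_f_rc_14_1 lc_f_rc_22_1 lc_f_rc_5_3 lc_f_rc_14_3 lc_f_rc_20_1 lc_f_rc_17_3 lc_f_rc_19_3 lc_f_rc_17_3 lc_f_rc_20_1 lc_f_rc_10_3 lc_f_rc_17_3 lc_f_rc_14_1 lc_f_rc_17_3 lc_f_rc_10_3 lc_f_rc_19_5) (@D3.rec (fun _ => (Cert rels S Gen.f)) lc_f_rc_14_3 lc_f_rc_10_3 lc_f_rc_21_1 lc_f_rc_14_1 lc_f_rc_20_1 lc_f_rc_5_1 lc_f_rc_14_1 lc_f_rc_14_3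 lc_f_rc_17_3 lc_f_rc_20_1 lc_f_rc_21_1 lc_f_rc_19_5 lc_f_rc_5_3 lc_f_rc_14_3 lc_f_rc_17_3 lc_f_rc_19_3 lc_f_rc_22_1 lc_f_rc_14_1 lc_f_rc_21_1 lc_f_rc_21_1 lc_f_rc_21_1 lc_f_rc_5_1 lc_f_rc_20_1 lc_f_rc_19_5 lc_f_rc_21_1 lc_f_rc_21_1 lc_f_rc_5_1 lc_f_rc_19_1 lc_f_rc_21_1 lc_f_rc_20_1 lc_f_rc_5_3 lc_f_rc_14_3 lc_f_rc_5_3 lc_f_rc_10_3 lc_f_rc_14_3 lc_f_rc_21_1 lc_f_rc_17_3 lc_f_rc_14_3 lc_f_rc_14_3 lc_f_rc_10_3 lc_f_rc_22_1 lc_f_rc_19_5 lc_f_rc_22_1 lc_f_rc_5_3 lc_f_rc_19_3 lc_f_rc_19_3 lc_f_rc_5_3 lc_f_rc_14_3 lc_f_rc_17_3 lc_f_rc_21_1 lc_f_rc_19_5 lc_f_rc_21_1 lc_f_rc_17_3 lc_f_rc_10_3 lc_f_rc_14_1 lc_f_rc_20_1 lc_f_rc_14_3 lc_f_rc_17_3 lc_f_rc_20_1 lc_f_rc_19_5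 lc_f_rc_14_1 lc_f_rc_17_3) (@D3.rec (fun _ => (Cert rels S Gen.f)) lc_f_rc_14_3 lc_f_rc_14_3 lc_f_rc_14_1 lc_f_rc_17_3 lc_f_rc_20_1 lc_f_rc_21_1 lc_f_rc_20_1 lc_f_rc_17_3 lc_f_rc_10_1 lc_f_rc_5_1 lc_f_rc_14_3 lc_f_rc_10_3 lc_f_rc_17_3 lc_f_rc_22_1 lc_f_rc_14_3 lc_f_rc_20_1 lc_f_rc_21_1 lc_f_rc_22_1 lc_f_rc_14_3 lc_f_rc_17_3 lc_f_rc_17_3 lc_f_rc_10_3 lc_f_rc_10_3 lc_f_rc_14_1 lc_f_rc_14_1 lc_f_rc_19_1 lc_f_rc_10_3 lc_f_rc_17_1 lc_f_rc_5_3 lc_f_rc_20_1 lc_f_rc_20_1 lc_f_rc_20_1 lc_f_rc_5_1 lc_f_rc_19_5 lc_f_rc_19_3 lc_f_rc_5_3 lc_f_rc_20_1 lc_f_rc_19_3 lc_f_rc_10_3 lc_f_rc_10_1 lc_f_rc_20_1 lc_f_rc_20_1 lc_f_rc_21_1 lc_f_rc_19_5 lc_f_rc_17_1 lc_f_rc_22_1 lc_f_rc_22_1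 lc_f_rc_5_1 lc_f_rc_10_1 lc_f_rc_14_3 lc_f_rc_10_1 lc_f_rc_10_1 lc_f_rc_10_3 lc_f_rc_5_3 lc_f_rc_10_3 lc_f_rc_10_3 lc_f_rc_14_1 lc_f_rc_19_3 lc_f_rc_10_3 lc_f_rc_10_1 lc_f_rc_14_1 lc_f_rc_17_1)
def ce_f_32 : D2 → D3 → (Cert rels S Gen.f) := @D2.rec (fun _ => D3 → (Cert rels S Gen.f)) (@D3.rec (fun _ => (Cert rels S Gen.f)) lc_f_rc_10_3 lc_f_rc_20_1 lc_f_rc_17_1 lc_f_rc_10_1 lc_f_rc_14_3 lc_f_rc_14_3 lc_f_rc_21_1 lc_f_rc_20_1 lc_f_rc_5_1 lc_f_rc_19_5 lc_f_rc_19_3 lc_f_rc_20_1 lc_f_rc_21_1 lc_f_rc_14_3 lc_f_rc_10_1 lc_f_rc_21_1 lc_f_rc_20_1 lc_f_rc_19_3 lc_f_rc_21_1 lc_f_rc_10_1 lc_f_rc_22_1 lc_f_rc_20_1 lc_f_rc_17_3 lc_f_rc_21_1 lc_f_rc_20_1 lc_f_rc_14_3 lc_f_rc_14_1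 lc_f_rc_10_1 lc_f_rc_17_3 lc_f_rc_5_3 lc_f_rc_5_3 lc_f_rc_14_3 lc_f_rc_10_3 lc_f_rc_21_1 lc_f_rc_14_3 lc_f_rc_5_3 lc_f_rc_14_1 lc_f_rc_21_1 lc_f_rc_10_3 lc_f_rc_19_5 lc_f_rc_21_1 lc_f_rc_19_5 lc_f_rc_20_1 lc_f_rc_10_3 lc_f_rc_10_3 lc_f_rc_21_1 lc_f_rc_14_3 lc_f_rc_21_1 lc_f_rc_10_3 lc_f_rc_17_3 lc_f_rc_14_3 lc_f_rc_21_1 lc_f_rc_17_1 lc_f_rc_22_1 lc_f_rc_14_3 lc_f_rc_14_3 lc_f_rc_19_5 lc_f_rc_5_3 lc_f_rc_10_3 lc_f_rc_14_3 lc_f_rc_19_3 lc_f_rc_10_3) (@D3.rec (fun _ => (Cert rels S Gen.f)) lc_f_rc_14_1 lc_f_rc_10_3 lc_f_rc_14_1 lc_f_rc_20_1 lc_f_rc_19_3 lc_f_rc_14_3 lc_f_Cert_tree lc_f_rc_20_1 lc_f_rc_5_3 lc_f_rc_14_3 lc_f_rc_20_1 lc_f_rc_14_3 lc_f_rc_17_1 lc_f_rc_20_1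 lc_f_rc_10_3 lc_f_rc_21_1 lc_f_rc_10_3 lc_f_rc_10_3 lc_f_rc_10_3 lc_f_rc_20_1 lc_f_rc_5_1 lc_f_rc_14_1 lc_f_rc_19_1 lc_f_rc_17_3 lc_f_rc_5_1 lc_f_rc_17_1 lc_f_rc_19_5 lc_f_rc_21_1 lc_f_rc_17_1 lc_f_rc_20_1 lc_f_rc_17_3 lc_f_rc_17_3 lc_f_rc_5_3 lc_f_rc_14_3 lc_f_rc_20_1 lc_f_rc_19_3 lc_f_rc_14_1 lc_f_rc_17_1 lc_f_rc_19_1 lc_f_rc_22_1 lc_f_rc_17_3 lc_f_rc_5_3 lc_f_rc_5_1 lc_f_rc_17_3 lc_f_rc_17_1 lc_f_rc_10_3 lc_f_rc_14_3 lc_f_rc_20_1 lc_f_rc_5_1 lc_f_rc_14_3 lc_f_rc_10_3 lc_f_rc_14_3 lc_f_rc_20_1 lc_f_rc_14_3 lc_f_rc_5_1 lc_f_rc_5_3 lc_f_rc_14_3 lc_f_rc_10_1 lc_f_rc_10_1 lc_f_rc_19_5 lc_f_rc_19_3 lc_f_rc_21_1) (@D3.rec (fun _ => (Cert rels S Gen.f)) lc_f_rc_21_1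 lc_f_rc_17_3 lc_f_rc_10_3 lc_f_rc_19_1 lc_f_rc_10_3 lc_f_rc_22_1 lc_f_rc_5_1 lc_f_rc_5_1 lc_f_rc_20_1 lc_f_rc_14_3 lc_f_rc_10_3 lc_f_rc_21_1 lc_f_rc_22_1 lc_f_rc_21_1 lc_f_rc_20_1 lc_f_rc_10_3 lc_f_rc_5_1 lc_f_rc_17_3 lc_f_rc_22_1 lc_f_rc_22_1 lc_f_rc_14_1 lc_f_rc_19_3 lc_f_rc_10_3 lc_f_rc_19_5 lc_f_rc_20_1 lc_f_rc_10_3 lc_f_rc_10_3 lc_f_rc_10_3 lc_f_rc_14_3 lc_f_rc_21_1 lc_f_rc_10_1 lc_f_rc_22_1 lc_f_rc_19_5 lc_f_rc_10_3 lc_f_rc_19_5 lc_f_rc_14_3 lc_f_rc_10_3 lc_f_rc_5_3 lc_f_rc_19_5 lc_f_rc_19_3 lc_f_rc_20_1 lc_f_rc_14_3 lc_f_rc_19_5 lc_f_rc_20_1 lc_f_rc_17_3 lc_f_rc_22_1 lc_f_rc_14_3 lc_f_rc_17_3 lc_f_rc_21_1 lc_f_rc_10_3 lc_f_rc_21_1 lc_f_rc_20_1 lc_f_rc_14_3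 lc_f_rc_10_1 lc_f_rc_20_1 lc_f_rc_21_1 lc_f_rc_17_1 lc_f_rc_17_3 lc_f_rc_21_1 lc_f_rc_10_3 lc_f_rc_20_1 lc_f_rc_21_1) (@D3.rec (fun _ => (Cert rels S Gen.f)) lc_f_rc_10_1 lc_f_rc_22_1 lc_f_rc_14_1 lc_f_rc_20_1 lc_f_rc_21_1 lc_f_rc_20_1 lc_f_rc_19_5 lc_f_rc_17_1 lc_f_rc_21_1 lc_f_rc_17_3 lc_f_rc_17_3 lc_f_rc_14_1 lc_f_rc_19_3 lc_f_rc_17_3 lc_f_rc_20_1 lc_f_rc_19_3 lc_f_rc_19_5 lc_f_rc_20_1 lc_f_rc_17_3 lc_f_rc_14_3 lc_f_rc_14_3 lc_f_rc_17_3 lc_f_rc_14_3 lc_f_rc_22_1 lc_f_rc_19_3 lc_f_rc_21_1 lc_f_rc_14_3 lc_f_rc_17_3 lc_f_rc_10_3 lc_f_rc_5_3 lc_f_rc_22_1 lc_f_rc_22_1 lc_f_rc_21_1 lc_f_rc_10_3 lc_f_rc_17_1 lc_f_rc_14_1 lc_f_rc_19_5 lc_f_rc_10_3 lc_f_rc_14_3 lc_f_rc_20_1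 lc_f_rc_22_1 lc_f_rc_14_3 lc_f_rc_20_1 lc_f_rc_21_1 lc_f_rc_20_1 lc_f_rc_5_3 lc_f_rc_14_3 lc_f_rc_20_1 lc_f_rc_19_3 lc_f_rc_21_1 lc_f_rc_5_3 lc_f_rc_19_3 lc_f_rc_17_3 lc_f_rc_17_3 lc_f_rc_17_1 lc_f_rc_17_3 lc_f_rc_14_3 lc_f_rc_5_1 lc_f_rc_10_1 lc_f_rc_10_3 lc_f_rc_14_3 lc_f_rc_10_1) (@D3.rec (fun _ => (Cert rels S Gen.f)) lc_f_rc_14_3 lc_f_rc_14_3 lc_f_rc_10_1 lc_f_rc_17_1 lc_f_rc_20_1 lc_f_rc_17_1 lc_f_rc_14_3 lc_f_rc_20_1 lc_f_rc_22_1 lc_f_rc_19_1 lc_f_rc_19_1 lc_f_rc_21_1 lc_f_rc_10_3 lc_f_rc_14_3 lc_f_rc_17_3 lc_f_rc_10_3 lc_f_rc_14_3 lc_f_rc_14_1 lc_f_rc_14_1 lc_f_rc_10_3 lc_f_rc_10_3 lc_f_rc_17_3 lc_f_rc_10_3 lc_f_rc_14_3 lc_f_rc_14_1 lc_f_rc_19_5 lc_f_rc_20_1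 lc_f_rc_21_1 lc_f_rc_20_1 lc_f_rc_14_1 lc_f_rc_19_3 lc_f_rc_19_5 lc_f_rc_10_3 lc_f_rc_17_3 lc_f_rc_20_1 lc_f_rc_10_1 lc_f_rc_19_3 lc_f_rc_10_3 lc_f_rc_10_3 lc_f_rc_17_3 lc_f_rc_17_1 lc_f_rc_5_3 lc_f_rc_14_1 lc_f_rc_17_3 lc_f_rc_20_1 lc_f_rc_19_1 lc_f_rc_5_3 lc_f_rc_17_1 lc_f_rc_10_3 lc_f_rc_5_3 lc_f_rc_14_3 lc_f_rc_10_3 lc_f_rc_10_1 lc_f_rc_5_3 lc_f_rc_5_1 lc_f_rc_19_3 lc_f_rc_20_1 lc_f_rc_5_3 lc_f_rc_14_3 lc_f_rc_20_1 lc_f_rc_17_3 lc_f_rc_14_3) (@D3.rec (fun _ => (Cert rels S Gen.f)) lc_f_rc_19_5 lc_f_rc_17_3 lc_f_rc_5_1 lc_f_rc_19_3 lc_f_rc_20_1 lc_f_rc_21_1 lc_f_rc_20_1 lc_f_rc_20_1 lc_f_rc_22_1 lc_f_rc_10_3 lc_f_rc_19_3 lc_f_rc_5_3 lc_f_rc_14_3 lc_f_rc_19_5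 lc_f_rc_22_1 lc_f_rc_17_3 lc_f_rc_19_3 lc_f_rc_5_1 lc_f_rc_17_3 lc_f_rc_10_3 lc_f_rc_19_5 lc_f_rc_17_3 lc_f_rc_17_3 lc_f_rc_10_3 lc_f_rc_10_3 lc_f_rc_17_3 lc_f_rc_5_3 lc_f_rc_19_3 lc_f_rc_20_1 lc_f_rc_5_1 lc_f_rc_21_1 lc_f_rc_10_3 lc_f_rc_5_1 lc_f_rc_14_3 lc_f_rc_22_1 lc_f_rc_14_3 lc_f_rc_20_1 lc_f_rc_17_3 lc_f_rc_10_3 lc_f_rc_17_1 lc_f_rc_20_1 lc_f_rc_17_3 lc_f_rc_17_3 lc_f_rc_10_3 lc_f_rc_10_1 lc_f_rc_17_1 lc_f_rc_20_1 lc_f_rc_20_1 lc_f_rc_14_1 lc_f_rc_21_1 lc_f_rc_17_3 lc_f_rc_17_3 lc_f_rc_17_1 lc_f_rc_17_3 lc_f_rc_21_1 lc_f_rc_14_3 lc_f_rc_22_1 lc_f_rc_20_1 lc_f_rc_17_1 lc_f_rc_17_1 lc_f_rc_17_1 lc_f_rc_17_3) (@D3.rec (fun _ => (Cert rels S Gen.f)) lc_f_rc_20_1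 lc_f_rc_20_1 lc_f_rc_19_3 lc_f_rc_19_5 lc_f_rc_20_1 lc_f_rc_17_1 lc_f_rc_14_3 lc_f_rc_14_3 lc_f_rc_20_1 lc_f_rc_19_3 lc_f_rc_17_1 lc_f_rc_14_1 lc_f_rc_17_1 lc_f_rc_20_1 lc_f_rc_17_3 lc_f_rc_22_1 lc_f_rc_5_1 lc_f_rc_20_1 lc_f_rc_5_3 lc_f_rc_10_1 lc_f_rc_10_3 lc_f_rc_21_1 lc_f_rc_19_3 lc_f_rc_14_1 lc_f_rc_19_5 lc_f_rc_22_1 lc_f_rc_5_3 lc_f_rc_17_1 lc_f_rc_10_3 lc_f_rc_5_1 lc_f_rc_17_3 lc_f_rc_20_1 lc_f_rc_14_3 lc_f_rc_17_3 lc_f_rc_19_3 lc_f_rc_5_1 lc_f_rc_17_3 lc_f_rc_17_3 lc_f_rc_19_5 lc_f_rc_14_3 lc_f_rc_14_3 lc_f_rc_20_1 lc_f_rc_17_3 lc_f_rc_17_1 lc_f_rc_17_1 lc_f_rc_22_1 lc_f_rc_21_1 lc_f_rc_10_3 lc_f_rc_20_1 lc_f_rc_17_3 lc_f_rc_22_1 lc_f_rc_17_3 lc_f_rc_19_3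 lc_f_rc_19_5 lc_f_rc_17_3 lc_f_rc_21_1 lc_f_rc_10_1 lc_f_rc_21_1 lc_f_rc_14_3 lc_f_rc_20_1 lc_f_rc_20_1 lc_f_rc_14_3) (@D3.rec (fun _ => (Cert rels S Gen.f)) lc_f_rc_17_3 lc_f_rc_17_3 lc_f_rc_14_1 lc_f_rc_21_1 lc_f_rc_21_1 lc_f_rc_19_3 lc_f_rc_17_3 lc_f_rc_17_3 lc_f_rc_10_3 lc_f_rc_5_1 lc_f_rc_17_1 lc_f_rc_17_3 lc_f_rc_17_3 lc_f_rc_20_1 lc_f_rc_10_1 lc_f_rc_17_1 lc_f_rc_14_3 lc_f_rc_20_1 lc_f_rc_17_3 lc_f_rc_19_5 lc_f_rc_5_1 lc_f_rc_19_3 lc_f_rc_14_3 lc_f_rc_17_3 lc_f_rc_17_3 lc_f_rc_21_1 lc_f_rc_22_1 lc_f_rc_14_3 lc_f_rc_21_1 lc_f_rc_5_3 lc_f_rc_17_1 lc_f_rc_21_1 lc_f_rc_19_5 lc_f_rc_10_3 lc_f_rc_14_3 lc_f_rc_17_1 lc_f_rc_17_1 lc_f_rc_19_5 lc_f_rc_20_1 lc_f_rc_17_3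 lc_f_rc_21_1 lc_f_rc_10_3 lc_f_rc_5_3 lc_f_rc_20_1 lc_f_rc_17_3 lc_f_rc_21_1 lc_f_rc_14_3 lc_f_rc_14_3 lc_f_rc_20_1 lc_f_rc_20_1 lc_f_rc_10_1 lc_f_rc_17_3 lc_f_rc_21_1 lc_f_rc_5_3 lc_f_rc_21_1 lc_f_rc_10_3 lc_f_rc_19_5 lc_f_rc_10_1 lc_f_rc_14_3 lc_f_rc_17_3 lc_f_rc_10_1 lc_f_rc_17_3) (@D3.rec (fun _ => (Cert rels S Gen.f)) lc_f_rc_21_1 lc_f_rc_20_1 lc_f_rc_19_5 lc_f_rc_19_5 lc_f_rc_19_1 lc_f_rc_10_1 lc_f_rc_17_3 lc_f_rc_14_3 lc_f_rc_5_3 lc_f_rc_10_3 lc_f_rc_17_1 lc_f_rc_21_1 lc_f_rc_14_3 lc_f_rc_19_3 lc_f_rc_20_1 lc_f_rc_17_3 lc_f_rc_22_1 lc_f_rc_10_3 lc_f_rc_17_3 lc_f_rc_10_1 lc_f_rc_17_3 lc_f_rc_17_3 lc_f_rc_17_3 lc_f_rc_20_1 lc_f_rc_21_1 lc_f_rc_14_3 lc_f_rc_5_3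 lc_f_rc_10_1 lc_f_rc_10_1 lc_f_rc_20_1 lc_f_rc_20_1 lc_f_rc_14_3 lc_f_rc_14_3 lc_f_rc_14_3 lc_f_rc_17_3 lc_f_rc_20_1 lc_f_rc_20_1 lc_f_rc_20_1 lc_f_rc_14_3 lc_f_rc_14_1 lc_f_rc_19_3 lc_f_rc_5_3 lc_f_rc_10_3 lc_f_rc_10_1 lc_f_rc_5_3 lc_f_rc_5_1 lc_f_rc_20_1 lc_f_rc_17_3 lc_f_rc_20_1 lc_f_rc_14_3 lc_f_rc_14_3 lc_f_rc_14_3 lc_f_rc_17_3 lc_f_rc_14_3 lc_f_rc_17_1 lc_f_rc_10_3 lc_f_rc_22_1 lc_f_rc_19_1 lc_f_rc_21_1 lc_f_rc_19_1 lc_f_rc_21_1 lc_f_rc_10_3) (@D3.rec (fun _ => (Cert rels S Gen.f)) lc_f_rc_17_3 lc_f_rc_14_1 lc_f_rc_14_3 lc_f_rc_14_1 lc_f_rc_17_3 lc_f_rc_17_3 lc_f_rc_22_1 lc_f_rc_10_3 lc_f_rc_17_3 lc_f_rc_10_3 lc_f_rc_10_3 lc_f_rc_10_3 lc_f_rc_20_1 lc_f_rc_20_1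 lc_f_rc_10_3 lc_f_rc_14_3 lc_f_rc_17_1 lc_f_rc_10_1 lc_f_rc_14_1 lc_f_rc_17_3 lc_f_rc_19_3 lc_f_rc_5_3 lc_f_rc_14_3 lc_f_rc_10_3 lc_f_rc_20_1 lc_f_rc_14_3 lc_f_rc_21_1 lc_f_rc_20_1 lc_f_rc_17_3 lc_f_rc_20_1 lc_f_rc_17_3 lc_f_rc_19_5 lc_f_rc_14_3 lc_f_rc_5_3 lc_f_rc_5_3 lc_f_rc_20_1 lc_f_rc_14_1 lc_f_rc_20_1 lc_f_rc_17_3 lc_f_rc_19_5 lc_f_rc_10_3 lc_f_rc_10_3 lc_f_rc_5_1 lc_f_rc_20_1 lc_f_rc_19_5 lc_f_rc_17_3 lc_f_rc_14_1 lc_f_rc_10_1 lc_f_rc_5_1 lc_f_rc_17_1 lc_f_rc_20_1 lc_f_rc_17_1 lc_f_rc_20_1 lc_f_rc_10_3 lc_f_rc_21_1 lc_f_rc_10_1 lc_f_rc_14_3 lc_f_rc_10_3 lc_f_rc_10_3 lc_f_rc_14_3 lc_f_rc_10_3 lc_f_rc_5_3) (@D3.rec (fun _ => (Cert rels S Gen.f)) lc_f_rc_14_3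 lc_f_rc_19_5 lc_f_rc_22_1 lc_f_rc_5_3 lc_f_rc_10_1 lc_f_rc_19_5 lc_f_rc_14_1 lc_f_rc_21_1 lc_f_rc_20_1 lc_f_rc_21_1 lc_f_rc_17_3 lc_f_rc_14_3 lc_f_rc_17_1 lc_f_rc_10_3 lc_f_rc_10_1 lc_f_rc_21_1 lc_f_rc_14_1 lc_f_rc_5_1 lc_f_rc_14_3 lc_f_rc_10_3 lc_f_rc_17_3 lc_f_rc_17_3 lc_f_rc_17_3 lc_f_rc_10_3 lc_f_rc_19_3 lc_f_rc_14_1 lc_f_rc_21_1 lc_f_rc_10_3 lc_f_rc_17_3 lc_f_rc_5_3 lc_f_rc_21_1 lc_f_rc_19_3 lc_f_rc_14_3 lc_f_rc_14_3 lc_f_rc_10_1 lc_f_rc_14_3 lc_f_rc_17_1 lc_f_rc_20_1 lc_f_rc_14_1 lc_f_rc_17_3 lc_f_rc_17_3 lc_f_rc_10_1 lc_f_rc_17_1 lc_f_rc_21_1 lc_f_rc_14_3 lc_f_rc_20_1 lc_f_rc_14_3 lc_f_rc_22_1 lc_f_rc_19_5 lc_f_rc_10_1 lc_f_rc_21_1 lc_f_rc_10_3 lc_f_rc_14_3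 lc_f_rc_10_1 lc_f_rc_20_1 lc_f_rc_20_1 lc_f_rc_22_1 lc_f_rc_17_3 lc_f_rc_22_1 lc_f_rc_14_3 lc_f_rc_20_1 lc_f_rc_10_1) (@D3.rec (fun _ => (Cert rels S Gen.f)) lc_f_rc_17_1 lc_f_rc_20_1 lc_f_rc_17_3 lc_f_rc_5_3 lc_f_rc_14_3 lc_f_rc_5_3 lc_f_rc_14_3 lc_f_rc_10_1 lc_f_rc_22_1 lc_f_rc_10_1 lc_f_rc_10_3 lc_f_rc_22_1 lc_f_rc_22_1 lc_f_rc_14_3 lc_f_rc_14_1 lc_f_rc_20_1 lc_f_rc_17_1 lc_f_rc_17_1 lc_f_rc_21_1 lc_f_rc_21_1 lc_f_rc_14_3 lc_f_rc_14_3 lc_f_rc_20_1 lc_f_rc_17_1 lc_f_rc_14_3 lc_f_rc_21_1 lc_f_rc_21_1 lc_f_rc_20_1 lc_f_rc_10_3 lc_f_rc_14_3 lc_f_rc_14_3 lc_f_rc_20_1 lc_f_rc_10_3 lc_f_rc_21_1 lc_f_rc_19_3 lc_f_rc_10_3 lc_f_rc_14_3 lc_f_rc_5_3 lc_f_rc_5_1 lc_f_rc_22_1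 lc_f_rc_21_1 lc_f_rc_17_1 lc_f_rc_17_1 lc_f_rc_19_5 lc_f_rc_14_3 lc_f_rc_21_1 lc_f_rc_10_3 lc_f_rc_14_3 lc_f_rc_20_1 lc_f_rc_5_3 lc_f_rc_17_3 lc_f_rc_10_3 lc_f_rc_14_1 lc_f_rc_10_3 lc_f_rc_17_3 lc_f_rc_14_3 lc_f_rc_14_3 lc_f_rc_5_3 lc_f_rc_10_3 lc_f_rc_14_3 lc_f_rc_14_1 lc_f_rc_10_3) (@D3.rec (fun _ => (Cert rels S Gen.f)) lc_f_rc_22_1 lc_f_rc_5_3 lc_f_rc_21_1 lc_f_rc_22_1 lc_f_rc_10_3 lc_f_rc_17_3 lc_f_rc_17_3 lc_f_rc_19_3 lc_f_rc_20_1 lc_f_rc_21_1 lc_f_rc_17_1 lc_f_rc_19_5 lc_f_rc_14_3 lc_f_rc_20_1 lc_f_rc_19_5 lc_f_rc_20_1 lc_f_rc_5_1 lc_f_rc_21_1 lc_f_rc_17_1 lc_f_rc_10_3 lc_f_rc_20_1 lc_f_rc_20_1 lc_f_rc_21_1 lc_f_rc_14_3 lc_f_rc_20_1 lc_f_rc_19_5 lc_f_rc_17_1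 lc_f_rc_20_1 lc_f_rc_10_1 lc_f_rc_10_3 lc_f_rc_20_1 lc_f_rc_20_1 lc_f_rc_14_3 lc_f_rc_17_3 lc_f_rc_21_1 lc_f_rc_20_1 lc_f_rc_19_1 lc_f_rc_14_3 lc_f_rc_17_3 lc_f_rc_17_3 lc_f_rc_10_3 lc_f_rc_17_3 lc_f_rc_21_1 lc_f_rc_5_3 lc_f_rc_19_3 lc_f_rc_10_1 lc_f_rc_19_3 lc_f_rc_21_1 lc_f_rc_5_3 lc_f_rc_19_5 lc_f_rc_17_3 lc_f_rc_14_3 lc_f_rc_14_3 lc_f_rc_20_1 lc_f_rc_21_1 lc_f_rc_14_1 lc_f_rc_21_1 lc_f_rc_17_3 lc_f_rc_14_3 lc_f_rc_21_1 lc_f_rc_19_5 lc_f_rc_19_3) (@D3.rec (fun _ => (Cert rels S Gen.f)) lc_f_rc_10_1 lc_f_rc_10_3 lc_f_rc_5_1 lc_f_rc_10_3 lc_f_rc_17_1 lc_f_rc_17_1 lc_f_rc_22_1 lc_f_rc_21_1 lc_f_rc_10_3 lc_f_rc_20_1 lc_f_rc_5_3 lc_f_rc_19_5 lc_f_rc_20_1 lc_f_rc_10_3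 lc_f_rc_20_1 lc_f_rc_19_5 lc_f_rc_21_1 lc_f_rc_20_1 lc_f_rc_19_1 lc_f_rc_10_3 lc_f_rc_20_1 lc_f_rc_21_1 lc_f_rc_20_1 lc_f_rc_14_3 lc_f_rc_19_3 lc_f_rc_14_3 lc_f_rc_20_1 lc_f_rc_14_3 lc_f_rc_10_3 lc_f_rc_17_3 lc_f_rc_10_3 lc_f_rc_22_1 lc_f_rc_17_1 lc_f_rc_17_3 lc_f_rc_14_3 lc_f_rc_22_1 lc_f_rc_21_1 lc_f_rc_14_3 lc_f_rc_22_1 lc_f_rc_17_3 lc_f_rc_21_1 lc_f_rc_21_1 lc_f_rc_10_3 lc_f_rc_21_1 lc_f_rc_17_3 lc_f_rc_20_1 lc_f_rc_14_3 lc_f_rc_20_1 lc_f_rc_10_3 lc_f_rc_20_1 lc_f_rc_19_5 lc_f_rc_21_1 lc_f_rc_14_3 lc_f_rc_10_1 lc_f_rc_17_3 lc_f_rc_17_1 lc_f_rc_10_3 lc_f_rc_10_3 lc_f_rc_17_1 lc_f_rc_21_1 lc_f_rc_10_3 lc_f_rc_17_3) (@D3.rec (fun _ => (Cert rels S Gen.f)) lc_f_rc_17_1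 lc_f_rc_21_1 lc_f_rc_14_3 lc_f_rc_10_3 lc_f_rc_14_3 lc_f_rc_22_1 lc_f_rc_10_3 lc_f_rc_20_1 lc_f_rc_21_1 lc_f_rc_21_1 lc_f_rc_14_3 lc_f_rc_19_5 lc_f_rc_20_1 lc_f_rc_14_3 lc_f_rc_21_1 lc_f_rc_21_1 lc_f_rc_22_1 lc_f_rc_17_3 lc_f_rc_17_3 lc_f_rc_17_3 lc_f_rc_19_1 lc_f_rc_10_3 lc_f_rc_14_1 lc_f_rc_14_3 lc_f_rc_22_1 lc_f_rc_17_3 lc_f_rc_19_5 lc_f_rc_20_1 lc_f_rc_17_3 lc_f_rc_17_3 lc_f_rc_17_1 lc_f_rc_17_1 lc_f_rc_20_1 lc_f_rc_21_1 lc_f_rc_14_1 lc_f_rc_19_5 lc_f_rc_14_1 lc_f_rc_10_3 lc_f_rc_20_1 lc_f_rc_17_3 lc_f_rc_17_3 lc_f_rc_14_3 lc_f_rc_20_1 lc_f_rc_14_3 lc_f_rc_5_1 lc_f_rc_21_1 lc_f_rc_20_1 lc_f_rc_10_3 lc_f_rc_19_1 lc_f_rc_20_1 lc_f_rc_14_3 lc_f_rc_19_3 lc_f_rc_10_3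 lc_f_rc_14_1 lc_f_rc_10_3 lc_f_rc_20_1 lc_f_rc_21_1 lc_f_rc_5_3 lc_f_rc_17_3 lc_f_rc_14_3 lc_f_rc_10_3 lc_f_rc_17_1) (@D3.rec (fun _ => (Cert rels S Gen.f)) lc_f_rc_14_3 lc_f_rc_5_3 lc_f_rc_20_1 lc_f_rc_17_1 lc_f_rc_19_3 lc_f_rc_21_1 lc_f_rc_22_1 lc_f_rc_20_1 lc_f_rc_20_1 lc_f_rc_10_3 lc_f_rc_20_1 lc_f_rc_14_3 lc_f_rc_10_3 lc_f_rc_19_1 lc_f_rc_20_1 lc_f_rc_10_3 lc_f_rc_10_3 lc_f_rc_19_1 lc_f_rc_10_3 lc_f_rc_5_3 lc_f_rc_21_1 lc_f_rc_19_1 lc_f_rc_20_1 lc_f_rc_20_1 lc_f_rc_10_1 lc_f_rc_19_1 lc_f_rc_21_1 lc_f_rc_21_1 lc_f_rc_20_1 lc_f_rc_17_3 lc_f_rc_10_1 lc_f_rc_17_3 lc_f_rc_10_3 lc_f_rc_21_1 lc_f_rc_22_1 lc_f_rc_5_1 lc_f_rc_21_1 lc_f_rc_19_5 lc_f_rc_14_1 lc_f_rc_5_3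 lc_f_rc_14_3 lc_f_rc_10_1 lc_f_rc_5_3 lc_f_rc_20_1 lc_f_rc_19_5 lc_f_rc_21_1 lc_f_rc_10_3 lc_f_rc_17_1 lc_f_rc_17_3 lc_f_rc_14_3 lc_f_rc_19_3 lc_f_rc_17_3 lc_f_rc_14_3 lc_f_rc_17_3 lc_f_rc_14_3 lc_f_rc_17_1 lc_f_rc_17_3 lc_f_rc_17_3 lc_f_rc_20_1 lc_f_rc_20_1 lc_f_rc_20_1 lc_f_rc_21_1) (@D3.rec (fun _ => (Cert rels S Gen.f)) lc_f_rc_19_1 lc_f_rc_17_1 lc_f_rc_17_3 lc_f_rc_10_1 lc_f_rc_20_1 lc_f_rc_10_1 lc_f_rc_10_3 lc_f_rc_10_3 lc_f_rc_14_1 lc_f_rc_10_3 lc_f_rc_20_1 lc_f_rc_20_1 lc_f_rc_14_3 lc_f_rc_21_1 lc_f_rc_17_3 lc_f_rc_14_3 lc_f_rc_14_3 lc_f_rc_21_1 lc_f_rc_14_1 lc_f_rc_20_1 lc_f_rc_17_1 lc_f_rc_17_3 lc_f_rc_21_1 lc_f_rc_10_3 lc_f_rc_10_3 lc_f_rc_17_3 lc_f_rc_21_1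 lc_f_rc_20_1 lc_f_rc_5_1 lc_f_rc_14_3 lc_f_rc_17_3 lc_f_rc_20_1 lc_f_rc_21_1 lc_f_rc_14_3 lc_f_rc_17_3 lc_f_rc_5_1 lc_f_rc_20_1 lc_f_rc_20_1 lc_f_rc_14_3 lc_f_rc_17_3 lc_f_rc_14_3 lc_f_rc_20_1 lc_f_rc_20_1 lc_f_rc_5_1 lc_f_rc_10_3 lc_f_rc_20_1 lc_f_rc_10_3 lc_f_rc_21_1 lc_f_rc_20_1 lc_f_rc_10_3 lc_f_rc_22_1 lc_f_rc_19_5 lc_f_rc_21_1 lc_f_rc_20_1 lc_f_rc_19_3 lc_f_rc_10_3 lc_f_rc_19_5 lc_f_rc_14_3 lc_f_rc_14_1 lc_f_rc_14_3 lc_f_rc_17_3 lc_f_rc_19_3) (@D3.rec (fun _ => (Cert rels S Gen.f)) lc_f_rc_19_1 lc_f_rc_14_1 lc_f_rc_20_1 lc_f_rc_17_3 lc_f_rc_10_1 lc_f_rc_19_3 lc_f_rc_20_1 lc_f_rc_19_1 lc_f_rc_10_3 lc_f_rc_20_1 lc_f_rc_21_1 lc_f_rc_20_1 lc_f_rc_20_1 lc_f_rc_19_3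 lc_f_rc_20_1 lc_f_rc_14_1 lc_f_rc_10_3 lc_f_rc_14_3 lc_f_rc_17_1 lc_f_rc_17_3 lc_f_rc_14_3 lc_f_rc_14_1 lc_f_rc_10_3 lc_f_rc_14_3 lc_f_rc_20_1 lc_f_rc_17_3 lc_f_rc_20_1 lc_f_rc_17_3 lc_f_rc_21_1 lc_f_rc_20_1 lc_f_rc_14_3 lc_f_rc_10_1 lc_f_rc_22_1 lc_f_rc_20_1 lc_f_rc_19_5 lc_f_rc_5_1 lc_f_rc_5_1 lc_f_rc_20_1 lc_f_rc_10_1 lc_f_rc_19_1 lc_f_rc_21_1 lc_f_rc_20_1 lc_f_rc_21_1 lc_f_rc_17_3 lc_f_rc_14_3 lc_f_rc_17_3 lc_f_rc_19_5 lc_f_rc_14_1 lc_f_Cert_tree lc_f_rc_20_1 lc_f_rc_10_3 lc_f_rc_14_1 lc_f_rc_10_3 lc_f_rc_14_1 lc_f_rc_14_3 lc_f_rc_5_1 lc_f_rc_10_3 lc_f_rc_19_5 lc_f_rc_20_1 lc_f_rc_17_1 lc_f_rc_19_3 lc_f_rc_14_1) (@D3.rec (fun _ => (Cert rels S Gen.f)) lc_f_rc_19_5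 lc_f_Cert_tree lc_f_rc_20_1 lc_f_rc_22_1 lc_f_rc_10_3 lc_f_rc_21_1 lc_f_rc_14_1 lc_f_rc_21_1 lc_f_rc_19_3 lc_f_rc_10_3 lc_f_rc_20_1 lc_f_rc_5_1 lc_f_rc_17_1 lc_f_rc_17_1 lc_f_rc_17_3 lc_f_rc_14_1 lc_f_rc_10_3 lc_f_rc_21_1 lc_f_rc_10_1 lc_f_rc_10_3 lc_f_rc_21_1 lc_f_rc_5_1 lc_f_rc_10_3 lc_f_rc_10_1 lc_f_rc_19_3 lc_f_rc_14_3 lc_f_rc_14_3 lc_f_rc_14_3 lc_f_rc_19_1 lc_f_rc_10_3 lc_f_rc_21_1 lc_f_rc_19_5 lc_f_rc_17_3 lc_f_rc_17_3 lc_f_rc_17_3 lc_f_rc_14_1 lc_f_rc_10_3 lc_f_rc_19_1 lc_f_rc_17_3 lc_f_rc_21_1 lc_f_rc_14_3 lc_f_rc_17_1 lc_f_rc_14_1 lc_f_rc_14_1 lc_f_rc_5_1 lc_f_rc_10_3 lc_f_rc_17_1 lc_f_rc_19_5 lc_f_rc_14_3 lc_f_rc_14_3 lc_f_rc_20_1 lc_f_rc_5_3 lc_f_rc_17_3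 lc_f_rc_14_1 lc_f_rc_20_1 lc_f_rc_17_3 lc_f_rc_14_3 lc_f_rc_10_3 lc_f_rc_19_5 lc_f_rc_10_3 lc_f_rc_22_1 lc_f_rc_10_1) (@D3.rec (fun _ => (Cert rels S Gen.f)) lc_f_rc_22_1 lc_f_rc_17_3 lc_f_rc_19_3 lc_f_rc_21_1 lc_f_rc_14_1 lc_f_rc_19_3 lc_f_rc_10_3 lc_f_rc_14_1 lc_f_rc_10_1 lc_f_rc_17_1 lc_f_rc_5_1 lc_f_rc_14_3 lc_f_rc_19_5 lc_f_rc_22_1 lc_f_rc_21_1 lc_f_rc_21_1 lc_f_rc_14_3 lc_f_rc_19_5 lc_f_rc_20_1 lc_f_rc_21_1 lc_f_rc_10_1 lc_f_rc_14_1 lc_f_rc_20_1 lc_f_rc_10_3 lc_f_rc_14_3 lc_f_rc_22_1 lc_f_rc_17_1 lc_f_rc_19_1 lc_f_rc_21_1 lc_f_rc_21_1 lc_f_rc_5_3 lc_f_rc_14_3 lc_f_rc_5_3 lc_f_rc_17_3 lc_f_rc_19_5 lc_f_rc_10_3 lc_f_rc_10_3 lc_f_rc_22_1 lc_f_rc_14_3 lc_f_rc_21_1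 lc_f_rc_20_1 lc_f_Cert_tree lc_f_rc_20_1 lc_f_rc_22_1 lc_f_rc_21_1 lc_f_rc_14_1 lc_f_rc_10_1 lc_f_rc_14_3 lc_f_rc_20_1 lc_f_rc_14_1 lc_f_rc_22_1 lc_f_rc_19_3 lc_f_rc_20_1 lc_f_rc_21_1 lc_f_rc_14_3 lc_f_rc_17_1 lc_f_rc_19_3 lc_f_rc_5_1 lc_f_rc_14_3 lc_f_rc_5_1 lc_f_rc_5_1 lc_f_rc_22_1) (@D3.rec (fun _ => (Cert rels S Gen.f)) lc_f_rc_17_3 lc_f_rc_14_3 lc_f_rc_14_3 lc_f_rc_19_3 lc_f_rc_10_3 lc_f_rc_21_1 lc_f_rc_14_3 lc_f_rc_19_1 lc_f_rc_14_3 lc_f_rc_10_1 lc_f_rc_19_1 lc_f_rc_10_1 lc_f_rc_21_1 lc_f_rc_20_1 lc_f_rc_19_3 lc_f_rc_10_1 lc_f_rc_20_1 lc_f_rc_21_1 lc_f_rc_14_1 lc_f_rc_21_1 lc_f_rc_20_1 lc_f_rc_10_3 lc_f_rc_14_3 lc_f_rc_14_3 lc_f_rc_20_1 lc_f_rc_20_1 lc_f_rc_10_1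 lc_f_rc_14_1 lc_f_rc_17_1 lc_f_rc_21_1 lc_f_rc_19_5 lc_f_rc_10_3 lc_f_rc_10_1 lc_f_rc_5_3 lc_f_rc_14_3 lc_f_rc_5_1 lc_f_rc_20_1 lc_f_rc_17_3 lc_f_rc_17_3 lc_f_rc_14_3 lc_f_rc_5_3 lc_f_rc_22_1 lc_f_rc_14_3 lc_f_rc_14_3 lc_f_rc_20_1 lc_f_rc_21_1 lc_f_rc_17_3 lc_f_Cert_tree lc_f_rc_10_3 lc_f_rc_20_1 lc_f_rc_20_1 lc_f_rc_10_1 lc_f_rc_5_3 lc_f_rc_17_3 lc_f_rc_20_1 lc_f_rc_20_1 lc_f_rc_14_3 lc_f_rc_21_1 lc_f_rc_14_3 lc_f_rc_10_1 lc_f_rc_10_3 lc_f_rc_10_3) (@D3.rec (fun _ => (Cert rels S Gen.f)) lc_f_rc_5_1 lc_f_rc_17_3 lc_f_rc_14_3 lc_f_rc_14_3 lc_f_rc_14_1 lc_f_rc_14_3 lc_f_rc_5_3 lc_f_rc_17_3 lc_f_rc_17_3 lc_f_rc_22_1 lc_f_rc_10_1 lc_f_rc_14_1 lc_f_rc_21_1 lc_f_rc_17_3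 lc_f_rc_14_3 lc_f_rc_22_1 lc_f_rc_19_5 lc_f_rc_17_1 lc_f_rc_19_3 lc_f_rc_17_3 lc_f_rc_20_1 lc_f_rc_19_3 lc_f_rc_19_5 lc_f_rc_17_1 lc_f_rc_20_1 lc_f_rc_17_1 lc_f_rc_10_3 lc_f_rc_14_1 lc_f_rc_10_1 lc_f_rc_10_1 lc_f_rc_14_1 lc_f_rc_14_3 lc_f_rc_19_3 lc_f_rc_10_3 lc_f_rc_14_3 lc_f_rc_17_3 lc_f_rc_20_1 lc_f_rc_10_3 lc_f_rc_14_3 lc_f_rc_17_3 lc_f_rc_21_1 lc_f_rc_14_1 lc_f_rc_10_1 lc_f_rc_14_3 lc_f_rc_10_3 lc_f_rc_5_1 lc_f_rc_17_3 lc_f_rc_14_3 lc_f_rc_21_1 lc_f_rc_5_1 lc_f_rc_14_1 lc_f_rc_19_3 lc_f_rc_10_1 lc_f_rc_14_1 lc_f_rc_5_1 lc_f_rc_17_3 lc_f_rc_17_1 lc_f_rc_17_3 lc_f_rc_10_3 lc_f_rc_20_1 lc_f_rc_19_5 lc_f_rc_10_3) (@D3.rec (fun _ => (Cert rels S Gen.f)) lc_f_rc_17_3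 lc_f_rc_17_3 lc_f_rc_19_5 lc_f_rc_20_1 lc_f_rc_17_3 lc_f_rc_10_3 lc_f_rc_10_3 lc_f_rc_10_3 lc_f_rc_14_3 lc_f_rc_17_1 lc_f_rc_19_1 lc_f_rc_14_3 lc_f_rc_10_1 lc_f_rc_10_3 lc_f_rc_10_1 lc_f_rc_20_1 lc_f_rc_20_1 lc_f_rc_20_1 lc_f_rc_19_3 lc_f_rc_21_1 lc_f_rc_19_5 lc_f_rc_10_3 lc_f_rc_22_1 lc_f_rc_17_3 lc_f_rc_14_3 lc_f_rc_10_3 lc_f_rc_10_3 lc_f_rc_10_1 lc_f_rc_20_1 lc_f_rc_14_3 lc_f_rc_10_3 lc_f_rc_22_1 lc_f_rc_17_1 lc_f_rc_17_3 lc_f_rc_21_1 lc_f_rc_20_1 lc_f_rc_5_3 lc_f_rc_17_3 lc_f_rc_19_5 lc_f_rc_20_1 lc_f_rc_20_1 lc_f_rc_20_1 lc_f_rc_21_1 lc_f_rc_20_1 lc_f_rc_19_5 lc_f_rc_14_1 lc_f_rc_20_1 lc_f_rc_10_3 lc_f_rc_14_3 lc_f_rc_14_3 lc_f_rc_17_3 lc_f_rc_14_3 lc_f_rc_5_1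 lc_f_rc_14_3 lc_f_rc_14_3 lc_f_rc_21_1 lc_f_rc_17_1 lc_f_rc_21_1 lc_f_rc_21_1 lc_f_rc_10_1 lc_f_rc_17_1 lc_f_rc_10_3) (@D3.rec (fun _ => (Cert rels S Gen.f)) lc_f_rc_17_1 lc_f_rc_20_1 lc_f_rc_14_1 lc_f_rc_21_1 lc_f_rc_19_5 lc_f_rc_14_1 lc_f_rc_5_3 lc_f_rc_10_3 lc_f_rc_10_1 lc_f_rc_20_1 lc_f_rc_10_3 lc_f_rc_19_5 lc_f_rc_21_1 lc_f_rc_20_1 lc_f_rc_19_5 lc_f_rc_10_3 lc_f_rc_21_1 lc_f_rc_10_3 lc_f_rc_14_3 lc_f_rc_19_5 lc_f_rc_10_1 lc_f_rc_10_1 lc_f_rc_19_5 lc_f_rc_17_1 lc_f_rc_5_3 lc_f_rc_10_3 lc_f_rc_14_1 lc_f_rc_21_1 lc_f_rc_14_3 lc_f_rc_21_1 lc_f_rc_5_1 lc_f_rc_10_3 lc_f_rc_21_1 lc_f_rc_17_3 lc_f_rc_10_3 lc_f_rc_14_1 lc_f_rc_17_1 lc_f_rc_20_1 lc_f_rc_17_3 lc_f_rc_5_1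 lc_f_rc_17_3 lc_f_rc_17_3 lc_f_rc_14_1 lc_f_rc_22_1 lc_f_rc_5_1 lc_f_rc_14_3 lc_f_rc_19_5 lc_f_rc_14_3 lc_f_rc_17_1 lc_f_rc_14_3 lc_f_rc_5_1 lc_f_rc_14_3 lc_f_rc_5_3 lc_f_rc_17_1 lc_f_rc_21_1 lc_f_rc_17_3 lc_f_rc_20_1 lc_f_rc_20_1 lc_f_rc_17_3 lc_f_rc_20_1 lc_f_rc_5_1 lc_f_rc_10_3) (@D3.rec (fun _ => (Cert rels S Gen.f)) lc_f_rc_21_1 lc_f_rc_10_3 lc_f_rc_10_1 lc_f_rc_14_3 lc_f_rc_20_1 lc_f_rc_10_3 lc_f_rc_5_3 lc_f_rc_21_1 lc_f_rc_14_1 lc_f_rc_19_5 lc_f_rc_20_1 lc_f_rc_14_3 lc_f_rc_19_5 lc_f_rc_10_1 lc_f_rc_20_1 lc_f_rc_14_3 lc_f_rc_21_1 lc_f_rc_20_1 lc_f_rc_17_3 lc_f_rc_21_1 lc_f_rc_14_1 lc_f_rc_14_3 lc_f_rc_19_5 lc_f_rc_14_3 lc_f_rc_14_3 lc_f_rc_17_3 lc_f_rc_17_1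 lc_f_rc_21_1 lc_f_rc_5_1 lc_f_rc_14_3 lc_f_rc_20_1 lc_f_rc_10_3 lc_f_rc_5_1 lc_f_rc_21_1 lc_f_rc_20_1 lc_f_rc_10_3 lc_f_rc_5_3 lc_f_rc_17_3 lc_f_rc_5_1 lc_f_rc_14_3 lc_f_rc_17_1 lc_f_rc_10_3 lc_f_rc_17_1 lc_f_rc_14_3 lc_f_rc_20_1 lc_f_rc_21_1 lc_f_rc_19_3 lc_f_rc_17_1 lc_f_rc_10_3 lc_f_rc_14_3 lc_f_rc_22_1 lc_f_rc_14_3 lc_f_rc_5_3 lc_f_rc_22_1 lc_f_rc_14_1 lc_f_rc_19_5 lc_f_rc_21_1 lc_f_rc_17_1 lc_f_rc_5_3 lc_f_rc_17_1 lc_f_rc_17_1 lc_f_rc_21_1) (@D3.rec (fun _ => (Cert rels S Gen.f)) lc_f_rc_14_3 lc_f_rc_14_1 lc_f_rc_10_3 lc_f_rc_14_3 lc_f_rc_17_3 lc_f_rc_19_3 lc_f_rc_17_3 lc_f_rc_5_1 lc_f_rc_14_3 lc_f_rc_17_3 lc_f_rc_17_3 lc_f_rc_17_1 lc_f_rc_14_3 lc_f_rc_14_1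 lc_f_rc_17_3 lc_f_rc_10_3 lc_f_rc_21_1 lc_f_rc_17_1 lc_f_rc_10_3 lc_f_rc_10_1 lc_f_rc_22_1 lc_f_rc_20_1 lc_f_rc_20_1 lc_f_rc_17_3 lc_f_rc_10_3 lc_f_rc_17_3 lc_f_rc_14_1 lc_f_rc_10_3 lc_f_rc_17_1 lc_f_rc_20_1 lc_f_rc_17_3 lc_f_rc_10_3 lc_f_rc_17_3 lc_f_rc_5_3 lc_f_rc_5_1 lc_f_rc_14_3 lc_f_rc_20_1 lc_f_rc_10_3 lc_f_rc_21_1 lc_f_rc_19_5 lc_f_rc_5_1 lc_f_rc_17_3 lc_f_rc_17_3 lc_f_rc_10_3 lc_f_rc_20_1 lc_f_rc_10_1 lc_f_rc_10_1 lc_f_rc_10_1 lc_f_rc_10_1 lc_f_rc_10_3 lc_f_rc_14_3 lc_f_rc_10_3 lc_f_rc_22_1 lc_f_rc_22_1 lc_f_rc_19_1 lc_f_rc_17_3 lc_f_rc_17_3 lc_f_rc_19_3 lc_f_rc_21_1 lc_f_rc_5_1 lc_f_rc_10_3 lc_f_rc_14_3) (@D3.rec (fun _ => (Cert rels S Gen.f)) lc_f_rc_19_1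 lc_f_rc_17_3 lc_f_rc_19_5 lc_f_rc_17_3 lc_f_rc_17_3 lc_f_rc_14_1 lc_f_rc_20_1 lc_f_rc_17_3 lc_f_rc_21_1 lc_f_rc_14_3 lc_f_rc_20_1 lc_f_rc_22_1 lc_f_rc_17_1 lc_f_rc_17_3 lc_f_rc_10_3 lc_f_rc_20_1 lc_f_rc_22_1 lc_f_rc_17_3 lc_f_rc_19_3 lc_f_rc_10_3 lc_f_rc_10_3 lc_f_rc_17_3 lc_f_rc_21_1 lc_f_rc_14_3 lc_f_rc_14_3 lc_f_rc_10_3 lc_f_rc_14_3 lc_f_rc_10_3 lc_f_rc_19_3 lc_f_rc_17_3 lc_f_rc_14_3 lc_f_rc_21_1 lc_f_rc_20_1 lc_f_rc_17_3 lc_f_rc_19_3 lc_f_rc_17_3 lc_f_rc_5_3 lc_f_rc_17_3 lc_f_rc_22_1 lc_f_rc_10_3 lc_f_rc_10_3 lc_f_rc_5_1 lc_f_rc_20_1 lc_f_rc_14_3 lc_f_rc_21_1 lc_f_rc_10_3 lc_f_rc_10_3 lc_f_rc_14_1 lc_f_rc_17_3 lc_f_rc_10_3 lc_f_rc_17_3 lc_f_rc_22_1 lc_f_rc_10_3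 lc_f_rc_10_1 lc_f_rc_21_1 lc_f_rc_17_3 lc_f_rc_10_3 lc_f_rc_14_3 lc_f_rc_21_1 lc_f_rc_17_1 lc_f_rc_10_1 lc_f_rc_21_1) (@D3.rec (fun _ => (Cert rels S Gen.f)) lc_f_rc_14_3 lc_f_rc_10_3 lc_f_rc_14_3 lc_f_rc_17_3 lc_f_rc_5_1 lc_f_rc_22_1 lc_f_rc_17_1 lc_f_rc_17_1 lc_f_rc_17_1 lc_f_rc_20_1 lc_f_rc_17_3 lc_f_rc_20_1 lc_f_rc_5_3 lc_f_rc_14_3 lc_f_rc_10_3 lc_f_rc_14_1 lc_f_rc_5_3 lc_f_rc_17_3 lc_f_rc_20_1 lc_f_rc_10_3 lc_f_rc_20_1 lc_f_rc_19_1 lc_f_rc_22_1 lc_f_rc_17_1 lc_f_rc_10_3 lc_f_rc_17_3 lc_f_rc_14_3 lc_f_rc_5_1 lc_f_rc_10_3 lc_f_rc_17_3 lc_f_rc_14_3 lc_f_rc_20_1 lc_f_rc_17_1 lc_f_rc_20_1 lc_f_rc_14_1 lc_f_rc_10_3 lc_f_rc_17_1 lc_f_rc_14_3 lc_f_rc_19_3 lc_f_rc_10_3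 lc_f_rc_5_1 lc_f_rc_19_3 lc_f_rc_17_1 lc_f_rc_14_3 lc_f_rc_20_1 lc_f_rc_20_1 lc_f_rc_19_3 lc_f_rc_14_3 lc_f_rc_10_1 lc_f_rc_21_1 lc_f_rc_5_3 lc_f_rc_5_3 lc_f_rc_14_3 lc_f_rc_5_1 lc_f_rc_5_3 lc_f_rc_10_1 lc_f_rc_20_1 lc_f_rc_17_1 lc_f_rc_10_1 lc_f_rc_14_3 lc_f_rc_5_3 lc_f_rc_14_1) (@D3.rec (fun _ => (Cert rels S Gen.f)) lc_f_rc_22_1 lc_f_rc_14_3 lc_f_rc_10_1 lc_f_rc_20_1 lc_f_rc_14_3 lc_f_rc_10_3 lc_f_rc_10_3 lc_f_rc_10_3 lc_f_rc_17_1 lc_f_rc_14_3 lc_f_rc_17_3 lc_f_rc_17_3 lc_f_rc_20_1 lc_f_rc_22_1 lc_f_rc_21_1 lc_f_rc_20_1 lc_f_rc_19_5 lc_f_rc_20_1 lc_f_rc_17_1 lc_f_rc_20_1 lc_f_rc_17_1 lc_f_rc_14_3 lc_f_rc_20_1 lc_f_rc_20_1 lc_f_rc_5_3 lc_f_rc_20_1 lc_f_rc_10_1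 lc_f_rc_17_3 lc_f_rc_14_1 lc_f_rc_17_3 lc_f_rc_5_1 lc_f_rc_10_1 lc_f_rc_19_1 lc_f_rc_20_1 lc_f_rc_19_5 lc_f_rc_17_3 lc_f_rc_21_1 lc_f_rc_10_3 lc_f_rc_17_1 lc_f_rc_14_1 lc_f_rc_14_3 lc_f_rc_20_1 lc_f_rc_10_3 lc_f_rc_10_1 lc_f_rc_10_1 lc_f_rc_5_3 lc_f_rc_17_1 lc_f_rc_20_1 lc_f_rc_14_1 lc_f_rc_19_1 lc_f_rc_14_3 lc_f_rc_10_1 lc_f_rc_14_3 lc_f_rc_19_5 lc_f_rc_19_5 lc_f_rc_17_1 lc_f_rc_22_1 lc_f_rc_19_5 lc_f_rc_10_3 lc_f_rc_20_1 lc_f_rc_22_1 lc_f_rc_14_3) (@D3.rec (fun _ => (Cert rels S Gen.f)) lc_f_rc_5_3 lc_f_rc_14_3 lc_f_rc_14_1 lc_f_rc_19_1 lc_f_rc_14_3 lc_f_rc_17_3 lc_f_rc_22_1 lc_f_rc_17_3 lc_f_rc_14_3 lc_f_rc_22_1 lc_f_rc_19_3 lc_f_rc_22_1 lc_f_rc_14_3 lc_f_rc_10_1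 lc_f_rc_17_3 lc_f_rc_10_3 lc_f_rc_10_1 lc_f_rc_14_3 lc_f_rc_14_3 lc_f_rc_17_3 lc_f_rc_17_1 lc_f_rc_14_1 lc_f_rc_21_1 lc_f_rc_14_1 lc_f_rc_14_1 lc_f_rc_10_3 lc_f_rc_19_3 lc_f_rc_22_1 lc_f_rc_10_3 lc_f_rc_14_1 lc_f_rc_17_3 lc_f_rc_5_3 lc_f_rc_14_3 lc_f_rc_19_3 lc_f_rc_14_3 lc_f_rc_10_3 lc_f_rc_20_1 lc_f_rc_5_3 lc_f_rc_14_3 lc_f_rc_19_3 lc_f_rc_20_1 lc_f_rc_5_3 lc_f_rc_10_1 lc_f_rc_19_5 lc_f_rc_17_1 lc_f_rc_14_3 lc_f_rc_14_1 lc_f_rc_10_3 lc_f_rc_14_3 lc_f_rc_19_1 lc_f_rc_21_1 lc_f_rc_20_1 lc_f_rc_21_1 lc_f_rc_10_3 lc_f_rc_10_1 lc_f_rc_10_3 lc_f_rc_14_1 lc_f_rc_14_3 lc_f_rc_14_1 lc_f_rc_19_5 lc_f_rc_14_3 lc_f_rc_10_1) (@D3.rec (fun _ => (Cert rels S Gen.f)) lc_f_rc_17_1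 lc_f_rc_21_1 lc_f_rc_20_1 lc_f_rc_14_3 lc_f_rc_17_3 lc_f_rc_21_1 lc_f_rc_17_3 lc_f_rc_22_1 lc_f_rc_14_1 lc_f_rc_17_3 lc_f_rc_19_5 lc_f_rc_14_3 lc_f_rc_17_3 lc_f_rc_20_1 lc_f_rc_14_3 lc_f_rc_21_1 lc_f_rc_20_1 lc_f_rc_20_1 lc_f_rc_21_1 lc_f_rc_10_3 lc_f_rc_14_3 lc_f_rc_17_3 lc_f_rc_5_3 lc_f_rc_21_1 lc_f_rc_22_1 lc_f_rc_14_3 lc_f_rc_14_3 lc_f_rc_17_3 lc_f_rc_10_1 lc_f_rc_10_3 lc_f_rc_14_3 lc_f_rc_14_3 lc_f_rc_19_3 lc_f_rc_19_3 lc_f_rc_14_1 lc_f_rc_20_1 lc_f_rc_19_5 lc_f_rc_10_1 lc_f_rc_14_3 lc_f_rc_14_1 lc_f_rc_21_1 lc_f_rc_5_1 lc_f_rc_17_3 lc_f_rc_20_1 lc_f_rc_17_3 lc_f_rc_10_3 lc_f_rc_20_1 lc_f_rc_20_1 lc_f_rc_17_3 lc_f_rc_17_1 lc_f_rc_21_1 lc_f_rc_14_3 lc_f_rc_10_3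 lc_f_rc_14_3 lc_f_rc_19_3 lc_f_rc_21_1 lc_f_rc_20_1 lc_f_rc_20_1 lc_f_rc_17_1 lc_f_rc_21_1 lc_f_rc_22_1 lc_f_rc_5_3) (@D3.rec (fun _ => (Cert rels S Gen.f)) lc_f_rc_20_1 lc_f_rc_21_1 lc_f_rc_20_1 lc_f_rc_5_1 lc_f_rc_10_1 lc_f_rc_17_1 lc_f_rc_17_1 lc_f_rc_14_1 lc_f_rc_5_1 lc_f_rc_14_1 lc_f_rc_20_1 lc_f_rc_17_3 lc_f_rc_10_1 lc_f_rc_21_1 lc_f_rc_10_3 lc_f_rc_14_3 lc_f_rc_14_3 lc_f_rc_17_3 lc_f_rc_14_3 lc_f_rc_19_5 lc_f_rc_14_3 lc_f_rc_14_3 lc_f_rc_17_3 lc_f_rc_19_5 lc_f_rc_5_3 lc_f_rc_14_3 lc_f_rc_10_3 lc_f_rc_10_3 lc_f_rc_17_3 lc_f_rc_17_3 lc_f_rc_10_1 lc_f_rc_10_3 lc_f_rc_21_1 lc_f_rc_17_3 lc_f_rc_5_3 lc_f_rc_20_1 lc_f_rc_17_1 lc_f_rc_17_3 lc_f_rc_10_3 lc_f_rc_19_3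 lc_f_rc_14_3 lc_f_rc_10_1 lc_f_rc_10_3 lc_f_rc_14_3 lc_f_rc_21_1 lc_f_rc_10_3 lc_f_rc_21_1 lc_f_rc_17_3 lc_f_rc_19_3 lc_f_rc_19_5 lc_f_rc_10_3 lc_f_rc_17_3 lc_f_rc_10_3 lc_f_rc_17_3 lc_f_rc_17_1 lc_f_rc_20_1 lc_f_rc_10_1 lc_f_rc_19_3 lc_f_rc_10_3 lc_f_rc_10_3 lc_f_rc_10_3 lc_f_rc_17_3) (@D3.rec (fun _ => (Cert rels S Gen.f)) lc_f_rc_5_1 lc_f_rc_14_3 lc_f_rc_21_1 lc_f_rc_17_3 lc_f_rc_14_1 lc_f_rc_14_3 lc_f_rc_5_1 lc_f_rc_14_3 lc_f_rc_10_1 lc_f_rc_10_1 lc_f_rc_10_1 lc_f_rc_17_3 lc_f_rc_17_3 lc_f_rc_22_1 lc_f_rc_14_3 lc_f_rc_14_3 lc_f_rc_20_1 lc_f_rc_10_3 lc_f_rc_22_1 lc_f_rc_21_1 lc_f_rc_10_1 lc_f_rc_22_1 lc_f_rc_14_1 lc_f_rc_19_3 lc_f_rc_10_3 lc_f_rc_14_3 lc_f_rc_14_1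 lc_f_rc_10_3 lc_f_rc_22_1 lc_f_rc_14_3 lc_f_rc_10_3 lc_f_rc_17_3 lc_f_rc_19_5 lc_f_rc_20_1 lc_f_rc_19_5 lc_f_rc_17_3 lc_f_rc_10_3 lc_f_rc_21_1 lc_f_rc_19_5 lc_f_rc_17_3 lc_f_rc_10_3 lc_f_rc_17_3 lc_f_rc_21_1 lc_f_rc_14_1 lc_f_rc_10_1 lc_f_rc_14_3 lc_f_rc_19_3 lc_f_rc_21_1 lc_f_rc_21_1 lc_f_rc_10_1 lc_f_rc_21_1 lc_f_rc_14_1 lc_f_rc_20_1 lc_f_rc_14_3 lc_f_rc_22_1 lc_f_rc_21_1 lc_f_rc_10_3 lc_f_rc_21_1 lc_f_rc_14_3 lc_f_rc_22_1 lc_f_rc_20_1 lc_f_rc_10_1) (@D3.rec (fun _ => (Cert rels S Gen.f)) lc_f_rc_22_1 lc_f_rc_14_3 lc_f_rc_21_1 lc_f_rc_20_1 lc_f_rc_10_3 lc_f_rc_17_3 lc_f_rc_10_3 lc_f_rc_14_1 lc_f_rc_14_3 lc_f_rc_10_3 lc_f_rc_14_3 lc_f_rc_10_1 lc_f_rc_19_5 lc_f_rc_17_3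 lc_f_rc_19_3 lc_f_rc_10_3 lc_f_rc_17_3 lc_f_rc_21_1 lc_f_rc_17_3 lc_f_rc_10_1 lc_f_rc_17_3 lc_f_rc_17_3 lc_f_rc_20_1 lc_f_rc_19_5 lc_f_rc_21_1 lc_f_rc_20_1 lc_f_rc_19_1 lc_f_rc_19_5 lc_f_rc_14_3 lc_f_rc_10_3 lc_f_rc_10_1 lc_f_rc_14_1 lc_f_rc_10_1 lc_f_rc_17_1 lc_f_rc_14_3 lc_f_rc_14_3 lc_f_rc_17_3 lc_f_rc_10_3 lc_f_rc_19_5 lc_f_rc_20_1 lc_f_rc_19_3 lc_f_rc_14_3 lc_f_rc_19_3 lc_f_rc_10_1 lc_f_rc_20_1 lc_f_rc_22_1 lc_f_rc_22_1 lc_f_rc_17_1 lc_f_rc_21_1 lc_f_rc_5_3 lc_f_rc_17_1 lc_f_rc_10_3 lc_f_rc_10_1 lc_f_rc_14_1 lc_f_rc_5_1 lc_f_rc_19_3 lc_f_rc_21_1 lc_f_rc_20_1 lc_f_rc_20_1 lc_f_rc_20_1 lc_f_rc_10_3 lc_f_rc_19_5) (@D3.rec (fun _ => (Cert rels S Gen.f)) lc_f_rc_14_3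 lc_f_rc_17_3 lc_f_rc_14_3 lc_f_rc_17_1 lc_f_rc_21_1 lc_f_rc_21_1 lc_f_rc_17_1 lc_f_rc_14_3 lc_f_rc_20_1 lc_f_rc_20_1 lc_f_rc_10_3 lc_f_rc_17_3 lc_f_rc_17_3 lc_f_rc_20_1 lc_f_rc_21_1 lc_f_rc_17_3 lc_f_rc_21_1 lc_f_rc_10_1 lc_f_rc_17_3 lc_f_rc_10_3 lc_f_rc_10_3 lc_f_rc_10_1 lc_f_rc_21_1 lc_f_rc_17_3 lc_f_rc_22_1 lc_f_rc_10_3 lc_f_rc_5_1 lc_f_rc_10_3 lc_f_rc_10_1 lc_f_rc_21_1 lc_f_rc_20_1 lc_f_rc_17_1 lc_f_rc_20_1 lc_f_rc_19_5 lc_f_rc_17_3 lc_f_rc_10_3 lc_f_rc_21_1 lc_f_rc_20_1 lc_f_rc_17_3 lc_f_rc_21_1 lc_f_rc_20_1 lc_f_rc_20_1 lc_f_rc_10_3 lc_f_rc_20_1 lc_f_rc_10_3 lc_f_rc_14_3 lc_f_rc_20_1 lc_f_rc_21_1 lc_f_rc_10_3 lc_f_rc_19_3 lc_f_rc_5_3 lc_f_rc_17_3 lc_f_rc_17_3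 lc_f_rc_20_1 lc_f_rc_17_3 lc_f_rc_17_3 lc_f_rc_17_1 lc_f_rc_5_3 lc_f_rc_21_1 lc_f_rc_5_3 lc_f_rc_19_3 lc_f_rc_14_1) (@D3.rec (fun _ => (Cert rels S Gen.f)) lc_f_rc_21_1 lc_f_rc_22_1 lc_f_rc_14_1 lc_f_rc_5_3 lc_f_rc_5_3 lc_f_rc_10_3 lc_f_rc_14_3 lc_f_rc_17_1 lc_f_rc_5_3 lc_f_rc_17_1 lc_f_rc_21_1 lc_f_rc_21_1 lc_f_rc_21_1 lc_f_rc_21_1 lc_f_rc_21_1 lc_f_rc_5_1 lc_f_rc_20_1 lc_f_rc_17_1 lc_f_rc_22_1 lc_f_rc_17_3 lc_f_rc_5_3 lc_f_rc_5_3 lc_f_rc_21_1 lc_f_rc_17_3 lc_f_rc_22_1 lc_f_rc_10_3 lc_f_rc_14_3 lc_f_rc_10_3 lc_f_rc_17_3 lc_f_rc_14_3 lc_f_rc_20_1 lc_f_rc_10_3 lc_f_rc_17_3 lc_f_rc_5_3 lc_f_rc_19_3 lc_f_rc_19_5 lc_f_rc_5_3 lc_f_rc_22_1 lc_f_rc_17_3 lc_f_rc_17_3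 lc_f_rc_10_1 lc_f_rc_20_1 lc_f_rc_14_1 lc_f_rc_21_1 lc_f_rc_17_3 lc_f_rc_17_1 lc_f_rc_14_3 lc_f_rc_10_1 lc_f_rc_19_3 lc_f_rc_17_3 lc_f_rc_21_1 lc_f_rc_22_1 lc_f_rc_17_3 lc_f_rc_19_5 lc_f_rc_20_1 lc_f_rc_14_1 lc_f_rc_14_3 lc_f_rc_5_3 lc_f_rc_21_1 lc_f_rc_10_1 lc_f_rc_14_3 lc_f_rc_14_3) (@D3.rec (fun _ => (Cert rels S Gen.f)) lc_f_rc_14_1 lc_f_rc_5_3 lc_f_rc_5_1 lc_f_rc_5_3 lc_f_rc_14_3 lc_f_rc_20_1 lc_f_rc_14_3 lc_f_rc_10_3 lc_f_rc_14_3 lc_f_rc_14_3 lc_f_rc_19_1 lc_f_rc_21_1 lc_f_rc_20_1 lc_f_rc_17_1 lc_f_rc_17_3 lc_f_rc_14_1 lc_f_rc_10_1 lc_f_rc_14_3 lc_f_rc_14_3 lc_f_rc_10_1 lc_f_rc_20_1 lc_f_rc_20_1 lc_f_rc_10_3 lc_f_rc_17_3 lc_f_rc_14_1 lc_f_rc_10_3 lc_f_rc_14_1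 lc_f_rc_10_3 lc_f_rc_21_1 lc_f_rc_17_3 lc_f_rc_14_3 lc_f_rc_21_1 lc_f_rc_22_1 lc_f_rc_20_1 lc_f_rc_10_1 lc_f_rc_5_3 lc_f_rc_17_1 lc_f_rc_5_3 lc_f_rc_21_1 lc_f_rc_17_3 lc_f_rc_20_1 lc_f_rc_17_1 lc_f_rc_17_3 lc_f_rc_20_1 lc_f_rc_10_1 lc_f_rc_5_3 lc_f_rc_17_3 lc_f_rc_10_1 lc_f_rc_20_1 lc_f_rc_5_1 lc_f_rc_19_3 lc_f_rc_10_3 lc_f_rc_17_3 lc_f_rc_10_3 lc_f_rc_10_1 lc_f_rc_20_1 lc_f_rc_22_1 lc_f_rc_19_1 lc_f_rc_20_1 lc_f_rc_22_1 lc_f_rc_17_1 lc_f_rc_14_1) (@D3.rec (fun _ => (Cert rels S Gen.f)) lc_f_rc_21_1 lc_f_rc_10_3 lc_f_rc_14_3 lc_f_rc_5_3 lc_f_rc_14_1 lc_f_rc_19_5 lc_f_rc_10_3 lc_f_rc_22_1 lc_f_rc_14_3 lc_f_rc_22_1 lc_f_rc_14_3 lc_f_rc_19_3 lc_f_rc_20_1 lc_f_rc_14_1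 lc_f_rc_5_1 lc_f_rc_14_1 lc_f_rc_22_1 lc_f_rc_22_1 lc_f_rc_5_3 lc_f_rc_10_3 lc_f_rc_14_3 lc_f_rc_14_1 lc_f_rc_14_3 lc_f_rc_19_1 lc_f_rc_10_3 lc_f_rc_20_1 lc_f_rc_14_3 lc_f_rc_5_1 lc_f_rc_14_3 lc_f_rc_10_1 lc_f_rc_22_1 lc_f_rc_20_1 lc_f_rc_10_3 lc_f_rc_20_1 lc_f_rc_14_1 lc_f_rc_17_1 lc_f_rc_14_3 lc_f_rc_14_3 lc_f_rc_17_3 lc_f_rc_21_1 lc_f_rc_10_3 lc_f_rc_19_3 lc_f_rc_5_3 lc_f_rc_10_1 lc_f_rc_14_3 lc_f_rc_14_3 lc_f_rc_14_3 lc_f_rc_14_3 lc_f_rc_5_3 lc_f_rc_21_1 lc_f_rc_10_1 lc_f_rc_17_3 lc_f_rc_5_1 lc_f_rc_10_3 lc_f_rc_17_3 lc_f_rc_19_3 lc_f_rc_21_1 lc_f_rc_19_1 lc_f_rc_17_1 lc_f_rc_17_3 lc_f_rc_19_5 lc_f_rc_21_1) (@D3.rec (fun _ => (Cert rels S Gen.f)) lc_f_rc_20_1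 lc_f_rc_10_3 lc_f_rc_22_1 lc_f_rc_21_1 lc_f_rc_17_3 lc_f_rc_14_3 lc_f_rc_19_5 lc_f_rc_10_3 lc_f_rc_14_3 lc_f_rc_10_1 lc_f_rc_10_1 lc_f_rc_10_3 lc_f_rc_14_1 lc_f_rc_14_3 lc_f_rc_10_3 lc_f_rc_10_3 lc_f_rc_20_1 lc_f_rc_17_1 lc_f_rc_5_3 lc_f_rc_21_1 lc_f_rc_14_3 lc_f_rc_10_3 lc_f_rc_20_1 lc_f_rc_14_3 lc_f_rc_14_3 lc_f_rc_17_1 lc_f_rc_20_1 lc_f_rc_14_1 lc_f_rc_20_1 lc_f_rc_14_3 lc_f_rc_17_1 lc_f_rc_19_1 lc_f_rc_21_1 lc_f_rc_20_1 lc_f_rc_19_5 lc_f_rc_19_1 lc_f_rc_17_3 lc_f_rc_19_5 lc_f_rc_17_3 lc_f_rc_17_3 lc_f_rc_10_3 lc_f_rc_14_3 lc_f_rc_10_1 lc_f_rc_10_3 lc_f_rc_10_3 lc_f_rc_17_1 lc_f_rc_10_3 lc_f_rc_14_1 lc_f_rc_17_3 lc_f_rc_21_1 lc_f_rc_21_1 lc_f_rc_20_1 lc_f_rc_22_1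 lc_f_rc_10_3 lc_f_rc_10_3 lc_f_rc_5_3 lc_f_rc_5_1 lc_f_rc_17_3 lc_f_rc_10_3 lc_f_rc_14_1 lc_f_rc_10_3 lc_f_rc_14_3) (@D3.rec (fun _ => (Cert rels S Gen.f)) lc_f_rc_10_1 lc_f_rc_17_3 lc_f_rc_20_1 lc_f_rc_14_3 lc_f_rc_19_5 lc_f_rc_17_3 lc_f_rc_5_3 lc_f_rc_17_3 lc_f_rc_17_3 lc_f_rc_5_3 lc_f_rc_14_3 lc_f_rc_5_1 lc_f_rc_17_3 lc_f_rc_20_1 lc_f_rc_21_1 lc_f_rc_10_1 lc_f_rc_10_3 lc_f_rc_10_3 lc_f_rc_20_1 lc_f_rc_10_1 lc_f_rc_19_5 lc_f_rc_19_5 lc_f_rc_19_5 lc_f_rc_20_1 lc_f_rc_17_3 lc_f_rc_10_3 lc_f_rc_5_3 lc_f_rc_21_1 lc_f_rc_5_3 lc_f_rc_17_1 lc_f_rc_21_1 lc_f_rc_17_1 lc_f_rc_20_1 lc_f_rc_22_1 lc_f_rc_5_1 lc_f_rc_14_3 lc_f_rc_14_3 lc_f_rc_20_1 lc_f_rc_14_1 lc_f_rc_14_1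 lc_f_rc_10_3 lc_f_rc_22_1 lc_f_rc_19_1 lc_f_rc_14_3 lc_f_Cert_tree lc_f_rc_20_1 lc_f_rc_19_3 lc_f_rc_19_3 lc_f_rc_14_1 lc_f_rc_20_1 lc_f_rc_10_1 lc_f_rc_19_5 lc_f_rc_14_3 lc_f_rc_19_1 lc_f_rc_14_3 lc_f_rc_5_1 lc_f_rc_20_1 lc_f_rc_14_3 lc_f_rc_20_1 lc_f_rc_21_1 lc_f_rc_17_3 lc_f_rc_14_3) (@D3.rec (fun _ => (Cert rels S Gen.f)) lc_f_rc_10_3 lc_f_rc_17_3 lc_f_rc_17_3 lc_f_rc_20_1 lc_f_rc_5_3 lc_f_rc_20_1 lc_f_rc_20_1 lc_f_rc_21_1 lc_f_rc_20_1 lc_f_rc_21_1 lc_f_rc_19_3 lc_f_rc_21_1 lc_f_rc_19_5 lc_f_rc_10_3 lc_f_rc_17_3 lc_f_rc_20_1 lc_f_rc_17_3 lc_f_rc_17_3 lc_f_rc_14_3 lc_f_rc_20_1 lc_f_rc_21_1 lc_f_rc_10_1 lc_f_rc_22_1 lc_f_rc_19_3 lc_f_rc_14_3 lc_f_rc_10_3 lc_f_rc_10_3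 lc_f_rc_14_1 lc_f_rc_10_1 lc_f_rc_20_1 lc_f_rc_10_3 lc_f_rc_14_3 lc_f_rc_22_1 lc_f_rc_14_3 lc_f_rc_10_3 lc_f_rc_14_1 lc_f_rc_22_1 lc_f_rc_14_3 lc_f_rc_20_1 lc_f_rc_5_3 lc_f_rc_5_1 lc_f_rc_17_3 lc_f_rc_21_1 lc_f_rc_22_1 lc_f_rc_10_3 lc_f_rc_20_1 lc_f_rc_20_1 lc_f_rc_14_3 lc_f_rc_14_1 lc_f_rc_20_1 lc_f_rc_14_3 lc_f_rc_21_1 lc_f_rc_22_1 lc_f_rc_21_1 lc_f_rc_19_3 lc_f_rc_17_3 lc_f_rc_5_1 lc_f_rc_17_3 lc_f_rc_20_1 lc_f_rc_17_3 lc_f_rc_14_3 lc_f_rc_10_1) (@D3.rec (fun _ => (Cert rels S Gen.f)) lc_f_rc_10_3 lc_f_rc_17_3 lc_f_rc_19_5 lc_f_rc_19_3 lc_f_rc_21_1 lc_f_rc_19_3 lc_f_rc_14_1 lc_f_rc_20_1 lc_f_rc_14_3 lc_f_rc_17_1 lc_f_rc_10_3 lc_f_rc_17_3 lc_f_rc_20_1 lc_f_rc_21_1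 lc_f_rc_19_3 lc_f_rc_10_1 lc_f_rc_21_1 lc_f_rc_17_3 lc_f_rc_10_3 lc_f_rc_14_3 lc_f_rc_14_1 lc_f_rc_17_3 lc_f_rc_17_3 lc_f_rc_19_3 lc_f_rc_19_5 lc_f_rc_17_3 lc_f_rc_20_1 lc_f_rc_17_3 lc_f_rc_22_1 lc_f_rc_10_3 lc_f_rc_10_3 lc_f_rc_10_3 lc_f_rc_14_1 lc_f_rc_17_1 lc_f_rc_10_1 lc_f_rc_22_1 lc_f_rc_19_3 lc_f_rc_14_1 lc_f_rc_10_3 lc_f_rc_17_3 lc_f_rc_19_5 lc_f_rc_14_3 lc_f_rc_10_1 lc_f_rc_17_3 lc_f_rc_14_3 lc_f_rc_20_1 lc_f_rc_21_1 lc_f_rc_14_1 lc_f_rc_22_1 lc_f_rc_20_1 lc_f_rc_19_3 lc_f_rc_17_3 lc_f_rc_20_1 lc_f_rc_14_1 lc_f_rc_17_1 lc_f_rc_20_1 lc_f_rc_21_1 lc_f_rc_17_3 lc_f_rc_14_3 lc_f_rc_10_3 lc_f_rc_21_1 lc_f_rc_19_5) (@D3.rec (fun _ => (Cert rels S Gen.f)) lc_f_rc_20_1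 lc_f_rc_17_3 lc_f_rc_17_3 lc_f_rc_17_3 lc_f_rc_10_3 lc_f_rc_14_3 lc_f_rc_14_3 lc_f_rc_10_3 lc_f_rc_10_3 lc_f_rc_17_3 lc_f_rc_17_1 lc_f_rc_5_3 lc_f_rc_21_1 lc_f_rc_20_1 lc_f_rc_22_1 lc_f_rc_14_1 lc_f_rc_14_1 lc_f_rc_10_3 lc_f_rc_19_5 lc_f_rc_20_1 lc_f_rc_5_1 lc_f_rc_17_1 lc_f_rc_14_3 lc_f_rc_14_3 lc_f_rc_10_3 lc_f_rc_19_5 lc_f_rc_17_3 lc_f_rc_17_1 lc_f_rc_5_1 lc_f_rc_14_3 lc_f_rc_20_1 lc_f_rc_21_1 lc_f_rc_19_5 lc_f_rc_19_3 lc_f_rc_5_3 lc_f_rc_22_1 lc_f_rc_17_3 lc_f_rc_14_3 lc_f_rc_10_3 lc_f_rc_10_3 lc_f_rc_10_3 lc_f_rc_17_3 lc_f_rc_17_3 lc_f_rc_19_5 lc_f_rc_10_3 lc_f_rc_14_3 lc_f_rc_14_3 lc_f_rc_17_3 lc_f_rc_19_5 lc_f_rc_20_1 lc_f_rc_17_3 lc_f_rc_19_5 lc_f_rc_17_1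 lc_f_rc_5_3 lc_f_rc_20_1 lc_f_rc_5_3 lc_f_rc_5_3 lc_f_rc_5_3 lc_f_rc_19_1 lc_f_rc_17_3 lc_f_rc_19_5 lc_f_rc_14_1) (@D3.rec (fun _ => (Cert rels S Gen.f)) lc_f_rc_14_3 lc_f_rc_20_1 lc_f_rc_14_3 lc_f_rc_14_3 lc_f_rc_19_5 lc_f_rc_14_3 lc_f_rc_17_3 lc_f_rc_22_1 lc_f_rc_20_1 lc_f_rc_5_3 lc_f_rc_21_1 lc_f_rc_10_3 lc_f_rc_5_1 lc_f_rc_19_3 lc_f_rc_19_5 lc_f_rc_10_3 lc_f_rc_20_1 lc_f_rc_17_3 lc_f_rc_17_3 lc_f_rc_20_1 lc_f_rc_14_1 lc_f_rc_14_3 lc_f_rc_5_1 lc_f_rc_14_3 lc_f_rc_20_1 lc_f_rc_19_1 lc_f_rc_20_1 lc_f_rc_19_5 lc_f_rc_17_1 lc_f_rc_14_1 lc_f_rc_5_1 lc_f_rc_5_3 lc_f_rc_14_1 lc_f_rc_19_3 lc_f_rc_19_5 lc_f_rc_19_5 lc_f_rc_20_1 lc_f_rc_19_3 lc_f_rc_21_1 lc_f_rc_14_3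 lc_f_rc_19_3 lc_f_rc_14_3 lc_f_rc_17_3 lc_f_rc_20_1 lc_f_rc_10_3 lc_f_rc_10_3 lc_f_rc_10_1 lc_f_rc_17_3 lc_f_rc_19_3 lc_f_rc_21_1 lc_f_rc_14_3 lc_f_rc_14_3 lc_f_rc_19_3 lc_f_rc_19_1 lc_f_rc_20_1 lc_f_rc_5_1 lc_f_rc_17_3 lc_f_rc_21_1 lc_f_rc_14_3 lc_f_rc_10_3 lc_f_rc_17_3 lc_f_rc_21_1) (@D3.rec (fun _ => (Cert rels S Gen.f)) lc_f_rc_14_3 lc_f_rc_17_3 lc_f_rc_17_1 lc_f_rc_21_1 lc_f_rc_17_1 lc_f_rc_10_1 lc_f_rc_21_1 lc_f_rc_10_3 lc_f_rc_20_1 lc_f_rc_17_1 lc_f_rc_17_1 lc_f_rc_21_1 lc_f_rc_17_1 lc_f_rc_17_3 lc_f_rc_5_3 lc_f_rc_21_1 lc_f_rc_17_3 lc_f_rc_17_3 lc_f_rc_22_1 lc_f_rc_10_3 lc_f_rc_10_3 lc_f_rc_17_3 lc_f_rc_5_1 lc_f_rc_20_1 lc_f_rc_10_3 lc_f_rc_10_1 lc_f_rc_14_3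 lc_f_rc_17_3 lc_f_rc_20_1 lc_f_rc_5_1 lc_f_rc_14_3 lc_f_rc_14_3 lc_f_rc_5_1 lc_f_rc_5_1 lc_f_rc_21_1 lc_f_rc_17_1 lc_f_rc_5_3 lc_f_rc_14_1 lc_f_rc_17_3 lc_f_rc_10_3 lc_f_rc_14_3 lc_f_rc_17_3 lc_f_rc_17_3 lc_f_rc_20_1 lc_f_rc_19_5 lc_f_rc_5_1 lc_f_rc_21_1 lc_f_rc_20_1 lc_f_rc_14_3 lc_f_rc_20_1 lc_f_rc_10_3 lc_f_rc_21_1 lc_f_rc_14_3 lc_f_rc_10_3 lc_f_rc_21_1 lc_f_rc_20_1 lc_f_rc_20_1 lc_f_rc_14_3 lc_f_rc_19_5 lc_f_rc_21_1 lc_f_rc_5_3 lc_f_rc_17_3) (@D3.rec (fun _ => (Cert rels S Gen.f)) lc_f_rc_14_3 lc_f_rc_20_1 lc_f_rc_17_3 lc_f_rc_5_1 lc_f_rc_14_3 lc_f_rc_14_1 lc_f_rc_10_1 lc_f_rc_14_3 lc_f_rc_14_3 lc_f_rc_14_1 lc_f_rc_20_1 lc_f_rc_21_1 lc_f_rc_17_3 lc_f_rc_10_3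 lc_f_rc_10_1 lc_f_rc_20_1 lc_f_rc_17_3 lc_f_rc_5_1 lc_f_rc_14_1 lc_f_rc_10_3 lc_f_rc_20_1 lc_f_rc_5_3 lc_f_rc_14_3 lc_f_rc_20_1 lc_f_rc_19_5 lc_f_rc_22_1 lc_f_rc_22_1 lc_f_rc_14_3 lc_f_rc_17_3 lc_f_rc_10_1 lc_f_rc_17_1 lc_f_rc_14_1 lc_f_rc_21_1 lc_f_rc_14_1 lc_f_rc_22_1 lc_f_rc_5_3 lc_f_rc_19_5 lc_f_rc_22_1 lc_f_rc_5_1 lc_f_rc_19_3 lc_f_rc_14_1 lc_f_rc_14_3 lc_f_rc_20_1 lc_f_rc_14_3 lc_f_rc_14_3 lc_f_rc_20_1 lc_f_rc_17_1 lc_f_rc_14_3 lc_f_rc_14_3 lc_f_rc_14_3 lc_f_rc_14_3 lc_f_rc_19_3 lc_f_rc_14_3 lc_f_rc_17_3 lc_f_rc_10_3 lc_f_rc_10_3 lc_f_rc_14_3 lc_f_rc_10_3 lc_f_rc_17_3 lc_f_rc_14_3 lc_f_rc_5_3 lc_f_rc_17_3) (@D3.rec (fun _ => (Cert rels S Gen.f)) lc_f_rc_17_1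 lc_f_rc_17_3 lc_f_rc_10_1 lc_f_rc_14_3 lc_f_rc_10_3 lc_f_rc_10_3 lc_f_rc_17_3 lc_f_rc_17_3 lc_f_rc_19_3 lc_f_rc_22_1 lc_f_rc_14_3 lc_f_rc_17_1 lc_f_rc_20_1 lc_f_rc_19_5 lc_f_rc_21_1 lc_f_rc_19_3 lc_f_rc_20_1 lc_f_rc_22_1 lc_f_rc_17_3 lc_f_rc_21_1 lc_f_rc_19_5 lc_f_rc_5_3 lc_f_rc_5_3 lc_f_rc_10_3 lc_f_rc_17_3 lc_f_rc_17_1 lc_f_rc_22_1 lc_f_rc_14_3 lc_f_rc_17_3 lc_f_rc_5_3 lc_f_rc_10_1 lc_f_rc_19_3 lc_f_rc_19_5 lc_f_rc_20_1 lc_f_rc_14_3 lc_f_rc_20_1 lc_f_rc_10_3 lc_f_rc_17_3 lc_f_rc_20_1 lc_f_rc_20_1 lc_f_rc_5_3 lc_f_rc_10_3 lc_f_rc_14_3 lc_f_rc_10_3 lc_f_rc_19_5 lc_f_rc_14_3 lc_f_rc_10_3 lc_f_rc_21_1 lc_f_rc_20_1 lc_f_rc_19_5 lc_f_rc_14_1 lc_f_rc_17_1 lc_f_rc_22_1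 lc_f_rc_17_3 lc_f_rc_20_1 lc_f_rc_10_1 lc_f_rc_10_3 lc_f_rc_10_1 lc_f_rc_19_1 lc_f_rc_10_1 lc_f_rc_10_3 lc_f_rc_19_5) (@D3.rec (fun _ => (Cert rels S Gen.f)) lc_f_rc_22_1 lc_f_rc_20_1 lc_f_rc_10_1 lc_f_rc_19_3 lc_f_rc_17_3 lc_f_rc_21_1 lc_f_rc_19_3 lc_f_rc_14_1 lc_f_rc_5_3 lc_f_rc_10_1 lc_f_rc_17_3 lc_f_rc_21_1 lc_f_rc_10_3 lc_f_rc_19_3 lc_f_rc_22_1 lc_f_rc_19_1 lc_f_rc_10_3 lc_f_rc_21_1 lc_f_rc_17_1 lc_f_rc_10_1 lc_f_rc_17_1 lc_f_rc_21_1 lc_f_rc_17_3 lc_f_rc_21_1 lc_f_rc_20_1 lc_f_rc_19_5 lc_f_rc_14_3 lc_f_rc_14_3 lc_f_rc_14_3 lc_f_rc_14_3 lc_f_rc_17_1 lc_f_rc_21_1 lc_f_rc_10_1 lc_f_rc_22_1 lc_f_rc_14_1 lc_f_rc_14_1 lc_f_rc_14_3 lc_f_rc_17_3 lc_f_rc_22_1 lc_f_rc_10_3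 lc_f_rc_21_1 lc_f_rc_17_3 lc_f_rc_17_3 lc_f_rc_17_3 lc_f_rc_19_1 lc_f_rc_21_1 lc_f_rc_19_3 lc_f_rc_21_1 lc_f_rc_22_1 lc_f_rc_21_1 lc_f_rc_19_1 lc_f_rc_20_1 lc_f_rc_20_1 lc_f_rc_22_1 lc_f_rc_5_1 lc_f_rc_14_3 lc_f_rc_10_3 lc_f_rc_5_3 lc_f_rc_17_1 lc_f_rc_10_3 lc_f_rc_14_3 lc_f_rc_14_3) (@D3.rec (fun _ => (Cert rels S Gen.f)) lc_f_rc_17_3 lc_f_rc_14_3 lc_f_rc_17_1 lc_f_rc_19_3 lc_f_rc_10_1 lc_f_rc_10_3 lc_f_rc_5_3 lc_f_rc_17_3 lc_f_rc_17_3 lc_f_rc_5_1 lc_f_rc_10_1 lc_f_rc_10_1 lc_f_rc_20_1 lc_f_rc_20_1 lc_f_rc_10_3 lc_f_rc_19_1 lc_f_rc_17_3 lc_f_rc_20_1 lc_f_rc_5_1 lc_f_rc_14_1 lc_f_rc_17_3 lc_f_rc_20_1 lc_f_rc_19_1 lc_f_rc_21_1 lc_f_rc_22_1 lc_f_rc_14_1 lc_f_rc_14_3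 lc_f_rc_5_3 lc_f_rc_21_1 lc_f_rc_14_1 lc_f_rc_20_1 lc_f_rc_19_5 lc_f_rc_20_1 lc_f_rc_22_1 lc_f_rc_17_3 lc_f_rc_22_1 lc_f_rc_20_1 lc_f_rc_14_1 lc_f_rc_14_3 lc_f_rc_22_1 lc_f_rc_22_1 lc_f_rc_20_1 lc_f_rc_19_5 lc_f_rc_14_3 lc_f_rc_19_5 lc_f_rc_14_3 lc_f_rc_17_3 lc_f_rc_14_3 lc_f_rc_19_1 lc_f_rc_17_3 lc_f_rc_20_1 lc_f_rc_14_3 lc_f_rc_5_3 lc_f_rc_20_1 lc_f_rc_22_1 lc_f_rc_10_1 lc_f_rc_20_1 lc_f_rc_17_3 lc_f_rc_20_1 lc_f_rc_14_1 lc_f_rc_20_1 lc_f_rc_17_1) (@D3.rec (fun _ => (Cert rels S Gen.f)) lc_f_rc_20_1 lc_f_rc_22_1 lc_f_rc_17_3 lc_f_rc_19_5 lc_f_rc_10_3 lc_f_rc_22_1 lc_f_rc_22_1 lc_f_rc_10_3 lc_f_rc_17_3 lc_f_rc_10_3 lc_f_rc_22_1 lc_f_rc_19_5 lc_f_rc_17_3 lc_f_rc_21_1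 lc_f_rc_10_1 lc_f_rc_17_3 lc_f_rc_22_1 lc_f_rc_14_3 lc_f_rc_22_1 lc_f_rc_22_1 lc_f_rc_5_3 lc_f_rc_19_3 lc_f_rc_14_3 lc_f_rc_21_1 lc_f_rc_10_3 lc_f_rc_17_3 lc_f_rc_14_3 lc_f_rc_19_5 lc_f_rc_22_1 lc_f_rc_5_3 lc_f_rc_10_3 lc_f_rc_19_3 lc_f_rc_21_1 lc_f_rc_10_3 lc_f_rc_14_3 lc_f_rc_17_1 lc_f_rc_17_1 lc_f_rc_10_3 lc_f_rc_14_3 lc_f_rc_19_1 lc_f_rc_20_1 lc_f_rc_10_3 lc_f_rc_14_3 lc_f_rc_22_1 lc_f_rc_5_3 lc_f_rc_17_3 lc_f_rc_21_1 lc_f_rc_19_5 lc_f_rc_14_3 lc_f_rc_19_5 lc_f_rc_10_3 lc_f_rc_17_3 lc_f_rc_14_3 lc_f_rc_21_1 lc_f_rc_10_3 lc_f_rc_14_3 lc_f_rc_5_3 lc_f_rc_20_1 lc_f_rc_17_3 lc_f_rc_21_1 lc_f_rc_20_1 lc_f_rc_19_1) (@D3.rec (fun _ => (Cert rels S Gen.f)) lc_f_rc_17_1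 lc_f_rc_20_1 lc_f_rc_5_3 lc_f_rc_14_3 lc_f_rc_14_3 lc_f_rc_21_1 lc_f_rc_21_1 lc_f_rc_14_1 lc_f_rc_14_1 lc_f_rc_17_3 lc_f_rc_14_1 lc_f_rc_17_3 lc_f_rc_5_1 lc_f_rc_14_3 lc_f_rc_10_3 lc_f_rc_19_3 lc_f_rc_17_3 lc_f_rc_14_3 lc_f_rc_20_1 lc_f_rc_17_1 lc_f_rc_20_1 lc_f_rc_17_1 lc_f_rc_10_3 lc_f_rc_5_1 lc_f_rc_19_5 lc_f_rc_20_1 lc_f_rc_22_1 lc_f_rc_17_1 lc_f_rc_21_1 lc_f_rc_20_1 lc_f_rc_17_3 lc_f_rc_10_1 lc_f_rc_10_3 lc_f_rc_21_1 lc_f_rc_14_3 lc_f_rc_17_1 lc_f_rc_17_1 lc_f_rc_17_1 lc_f_rc_19_5 lc_f_rc_20_1 lc_f_rc_14_1 lc_f_rc_10_1 lc_f_rc_20_1 lc_f_rc_10_3 lc_f_rc_17_1 lc_f_rc_5_3 lc_f_rc_14_3 lc_f_rc_22_1 lc_f_rc_21_1 lc_f_rc_20_1 lc_f_rc_22_1 lc_f_rc_17_3 lc_f_rc_10_1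 lc_f_rc_14_3 lc_f_rc_19_5 lc_f_rc_20_1 lc_f_rc_22_1 lc_f_rc_5_3 lc_f_rc_14_3 lc_f_rc_10_1 lc_f_rc_10_3 lc_f_rc_14_3) (@D3.rec (fun _ => (Cert rels S Gen.f)) lc_f_rc_17_3 lc_f_rc_14_3 lc_f_rc_14_1 lc_f_rc_22_1 lc_f_rc_17_3 lc_f_rc_14_1 lc_f_rc_5_1 lc_f_rc_14_3 lc_f_rc_17_1 lc_f_rc_14_3 lc_f_rc_19_1 lc_f_rc_20_1 lc_f_rc_14_3 lc_f_rc_5_3 lc_f_rc_14_3 lc_f_rc_21_1 lc_f_rc_17_3 lc_f_rc_19_3 lc_f_rc_20_1 lc_f_rc_17_1 lc_f_rc_17_1 lc_f_rc_21_1 lc_f_rc_10_1 lc_f_rc_17_1 lc_f_rc_20_1 lc_f_rc_10_3 lc_f_rc_17_3 lc_f_rc_14_3 lc_f_rc_10_1 lc_f_rc_5_3 lc_f_rc_20_1 lc_f_rc_20_1 lc_f_rc_14_3 lc_f_rc_20_1 lc_f_rc_20_1 lc_f_rc_5_3 lc_f_rc_17_1 lc_f_rc_14_3 lc_f_rc_17_3 lc_f_rc_17_1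 lc_f_rc_14_1 lc_f_rc_21_1 lc_f_rc_22_1 lc_f_rc_17_3 lc_f_rc_10_1 lc_f_rc_10_3 lc_f_rc_20_1 lc_f_rc_17_3 lc_f_rc_21_1 lc_f_rc_17_1 lc_f_rc_10_3 lc_f_rc_10_3 lc_f_rc_10_3 lc_f_rc_14_1 lc_f_rc_10_3 lc_f_rc_17_3 lc_f_rc_5_3 lc_f_rc_19_5 lc_f_rc_14_3 lc_f_rc_19_5 lc_f_rc_21_1 lc_f_rc_14_3) (@D3.rec (fun _ => (Cert rels S Gen.f)) lc_f_rc_10_3 lc_f_rc_10_3 lc_f_rc_10_1 lc_f_rc_10_3 lc_f_rc_10_3 lc_f_rc_17_3 lc_f_rc_14_3 lc_f_rc_10_3 lc_f_rc_20_1 lc_f_rc_22_1 lc_f_rc_19_3 lc_f_rc_21_1 lc_f_rc_22_1 lc_f_rc_10_3 lc_f_rc_19_5 lc_f_rc_14_3 lc_f_rc_20_1 lc_f_rc_17_3 lc_f_rc_21_1 lc_f_rc_20_1 lc_f_rc_21_1 lc_f_rc_14_3 lc_f_rc_20_1 lc_f_rc_17_1 lc_f_rc_10_3 lc_f_rc_10_1 lc_f_rc_17_3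 lc_f_rc_22_1 lc_f_rc_5_1 lc_f_rc_5_3 lc_f_rc_22_1 lc_f_rc_10_3 lc_f_rc_14_1 lc_f_rc_14_1 lc_f_rc_21_1 lc_f_rc_17_3 lc_f_rc_14_1 lc_f_rc_10_3 lc_f_rc_17_3 lc_f_rc_10_3 lc_f_rc_14_3 lc_f_rc_10_3 lc_f_rc_17_3 lc_f_rc_5_1 lc_f_rc_10_3 lc_f_rc_10_1 lc_f_rc_19_1 lc_f_rc_14_3 lc_f_rc_22_1 lc_f_rc_10_3 lc_f_rc_14_3 lc_f_rc_10_3 lc_f_rc_5_3 lc_f_rc_14_3 lc_f_rc_14_3 lc_f_rc_10_3 lc_f_rc_19_3 lc_f_rc_20_1 lc_f_rc_20_1 lc_f_rc_20_1 lc_f_rc_22_1 lc_f_rc_10_1) (@D3.rec (fun _ => (Cert rels S Gen.f)) lc_f_rc_22_1 lc_f_rc_19_5 lc_f_rc_17_1 lc_f_rc_20_1 lc_f_rc_10_3 lc_f_rc_14_3 lc_f_rc_17_1 lc_f_rc_19_3 lc_f_rc_17_3 lc_f_rc_10_3 lc_f_rc_21_1 lc_f_rc_10_1 lc_f_rc_20_1 lc_f_rc_10_1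 lc_f_rc_10_1 lc_f_rc_14_3 lc_f_rc_14_1 lc_f_rc_19_3 lc_f_rc_14_3 lc_f_rc_10_3 lc_f_rc_10_3 lc_f_rc_5_3 lc_f_rc_10_1 lc_f_rc_20_1 lc_f_rc_5_3 lc_f_rc_14_3 lc_f_rc_14_3 lc_f_rc_14_3 lc_f_rc_10_3 lc_f_rc_20_1 lc_f_rc_14_1 lc_f_rc_20_1 lc_f_rc_19_5 lc_f_rc_21_1 lc_f_rc_14_3 lc_f_rc_10_3 lc_f_rc_5_1 lc_f_rc_14_3 lc_f_rc_10_1 lc_f_rc_20_1 lc_f_rc_14_1 lc_f_rc_20_1 lc_f_rc_20_1 lc_f_rc_20_1 lc_f_rc_19_1 lc_f_rc_14_3 lc_f_rc_19_5 lc_f_rc_20_1 lc_f_rc_21_1 lc_f_rc_22_1 lc_f_rc_10_1 lc_f_rc_20_1 lc_f_rc_20_1 lc_f_rc_14_1 lc_f_rc_20_1 lc_f_rc_10_3 lc_f_rc_10_3 lc_f_rc_10_3 lc_f_rc_20_1 lc_f_rc_17_3 lc_f_rc_10_3 lc_f_rc_5_3) (@D3.rec (fun _ => (Cert rels S Gen.f)) lc_f_rc_21_1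 lc_f_rc_20_1 lc_f_rc_10_1 lc_f_rc_19_3 lc_f_rc_20_1 lc_f_rc_5_1 lc_f_rc_10_3 lc_f_rc_10_1 lc_f_rc_14_3 lc_f_rc_22_1 lc_f_rc_17_1 lc_f_rc_10_1 lc_f_rc_14_3 lc_f_rc_10_3 lc_f_rc_20_1 lc_f_rc_10_3 lc_f_rc_5_1 lc_f_rc_14_1 lc_f_rc_14_3 lc_f_rc_19_1 lc_f_rc_14_3 lc_f_rc_10_1 lc_f_rc_14_1 lc_f_rc_20_1 lc_f_rc_22_1 lc_f_rc_19_5 lc_f_rc_17_3 lc_f_rc_21_1 lc_f_rc_17_1 lc_f_rc_14_1 lc_f_rc_21_1 lc_f_rc_10_3 lc_f_rc_22_1 lc_f_rc_17_3 lc_f_rc_10_3 lc_f_rc_22_1 lc_f_rc_17_3 lc_f_rc_10_1 lc_f_rc_17_3 lc_f_rc_14_3 lc_f_rc_21_1 lc_f_rc_20_1 lc_f_rc_21_1 lc_f_rc_19_5 lc_f_rc_17_1 lc_f_rc_10_1 lc_f_rc_17_3 lc_f_rc_19_3 lc_f_rc_5_3 lc_f_rc_17_3 lc_f_rc_5_1 lc_f_rc_5_1 lc_f_rc_14_1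 lc_f_rc_17_3 lc_f_rc_22_1 lc_f_rc_20_1 lc_f_rc_10_1 lc_f_rc_14_3 lc_f_rc_17_3 lc_f_rc_20_1 lc_f_rc_21_1 lc_f_rc_22_1) (@D3.rec (fun _ => (Cert rels S Gen.f)) lc_f_rc_21_1 lc_f_rc_19_5 lc_f_rc_10_3 lc_f_rc_21_1 lc_f_rc_5_1 lc_f_rc_19_3 lc_f_rc_19_3 lc_f_rc_14_3 lc_f_rc_19_5 lc_f_rc_19_5 lc_f_rc_10_3 lc_f_rc_17_3 lc_f_rc_10_3 lc_f_rc_17_1 lc_f_rc_19_5 lc_f_rc_14_1 lc_f_rc_14_3 lc_f_rc_14_3 lc_f_rc_5_3 lc_f_rc_10_3 lc_f_rc_20_1 lc_f_rc_5_1 lc_f_rc_14_3 lc_f_rc_5_3 lc_f_rc_19_3 lc_f_rc_17_3 lc_f_rc_5_3 lc_f_rc_10_1 lc_f_rc_19_3 lc_f_rc_21_1 lc_f_rc_10_1 lc_f_rc_20_1 lc_f_rc_14_1 lc_f_rc_10_3 lc_f_rc_10_3 lc_f_rc_14_3 lc_f_rc_20_1 lc_f_rc_10_3 lc_f_rc_17_3 lc_f_rc_21_1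 lc_f_rc_10_3 lc_f_rc_14_1 lc_f_rc_17_3 lc_f_rc_14_1 lc_f_rc_17_3 lc_f_rc_21_1 lc_f_rc_10_1 lc_f_rc_19_3 lc_f_rc_19_1 lc_f_rc_17_3 lc_f_rc_14_3 lc_f_rc_17_3 lc_f_rc_14_1 lc_f_rc_5_1 lc_f_rc_10_3 lc_f_rc_21_1 lc_f_rc_17_3 lc_f_rc_17_3 lc_f_rc_10_3 lc_f_rc_21_1 lc_f_rc_19_5 lc_f_rc_10_1) (@D3.rec (fun _ => (Cert rels S Gen.f)) lc_f_rc_10_3 lc_f_rc_19_3 lc_f_rc_19_3 lc_f_rc_17_3 lc_f_rc_10_1 lc_f_rc_10_3 lc_f_rc_17_3 lc_f_rc_5_1 lc_f_rc_10_3 lc_f_rc_19_5 lc_f_rc_21_1 lc_f_rc_22_1 lc_f_rc_22_1 lc_f_rc_10_1 lc_f_rc_20_1 lc_f_rc_10_3 lc_f_rc_5_3 lc_f_rc_20_1 lc_f_rc_14_3 lc_f_rc_10_3 lc_f_rc_21_1 lc_f_rc_19_5 lc_f_rc_14_3 lc_f_rc_17_3 lc_f_rc_10_1 lc_f_rc_17_1 lc_f_rc_22_1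 lc_f_rc_19_3 lc_f_rc_14_3 lc_f_rc_20_1 lc_f_rc_17_1 lc_f_rc_10_3 lc_f_rc_5_1 lc_f_rc_5_1 lc_f_rc_19_3 lc_f_rc_22_1 lc_f_rc_14_3 lc_f_rc_10_1 lc_f_rc_10_1 lc_f_rc_5_1 lc_f_rc_10_3 lc_f_rc_19_5 lc_f_rc_10_1 lc_f_rc_21_1 lc_f_rc_17_3 lc_f_rc_14_1 lc_f_rc_21_1 lc_f_rc_14_3 lc_f_rc_14_3 lc_f_rc_14_3 lc_f_rc_10_3 lc_f_rc_10_3 lc_f_rc_10_1 lc_f_rc_17_3 lc_f_rc_14_3 lc_f_rc_10_3 lc_f_rc_17_1 lc_f_rc_14_3 lc_f_rc_5_3 lc_f_rc_21_1 lc_f_rc_19_1 lc_f_rc_10_3) (@D3.rec (fun _ => (Cert rels S Gen.f)) lc_f_rc_10_3 lc_f_rc_5_1 lc_f_rc_10_3 lc_f_rc_10_3 lc_f_rc_21_1 lc_f_rc_5_1 lc_f_rc_20_1 lc_f_rc_17_3 lc_f_rc_20_1 lc_f_rc_10_1 lc_f_rc_10_3 lc_f_rc_20_1 lc_f_rc_10_3 lc_f_rc_10_3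 lc_f_rc_21_1 lc_f_rc_10_3 lc_f_rc_19_3 lc_f_rc_14_1 lc_f_rc_17_1 lc_f_rc_19_5 lc_f_rc_14_3 lc_f_rc_21_1 lc_f_rc_17_1 lc_f_rc_19_1 lc_f_rc_19_3 lc_f_rc_10_3 lc_f_rc_10_1 lc_f_rc_19_5 lc_f_rc_19_5 lc_f_rc_22_1 lc_f_rc_14_3 lc_f_rc_21_1 lc_f_rc_21_1 lc_f_rc_10_3 lc_f_rc_22_1 lc_f_rc_14_3 lc_f_rc_20_1 lc_f_rc_19_5 lc_f_rc_10_3 lc_f_rc_17_3 lc_f_rc_14_1 lc_f_rc_20_1 lc_f_rc_21_1 lc_f_rc_14_1 lc_f_rc_10_3 lc_f_rc_20_1 lc_f_rc_20_1 lc_f_rc_21_1 lc_f_rc_19_5 lc_f_rc_17_3 lc_f_rc_20_1 lc_f_rc_5_3 lc_f_rc_19_1 lc_f_rc_5_1 lc_f_rc_5_1 lc_f_rc_19_3 lc_f_rc_21_1 lc_f_rc_17_3 lc_f_rc_17_1 lc_f_rc_19_1 lc_f_rc_19_3 lc_f_rc_5_1) (@D3.rec (fun _ => (Cert rels S Gen.f)) lc_f_rc_20_1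 lc_f_rc_22_1 lc_f_rc_14_3 lc_f_rc_14_1 lc_f_rc_21_1 lc_f_rc_5_3 lc_f_rc_14_1 lc_f_rc_17_3 lc_f_rc_17_1 lc_f_rc_20_1 lc_f_rc_14_3 lc_f_rc_5_3 lc_f_rc_14_3 lc_f_rc_14_3 lc_f_rc_19_1 lc_f_rc_5_3 lc_f_rc_20_1 lc_f_rc_19_3 lc_f_rc_5_3 lc_f_rc_14_3 lc_f_rc_17_3 lc_f_rc_20_1 lc_f_rc_17_3 lc_f_rc_14_3 lc_f_rc_19_3 lc_f_rc_20_1 lc_f_rc_17_3 lc_f_rc_21_1 lc_f_rc_20_1 lc_f_rc_17_3 lc_f_rc_22_1 lc_f_rc_14_3 lc_f_rc_17_1 lc_f_rc_10_3 lc_f_rc_14_3 lc_f_rc_14_3 lc_f_rc_14_3 lc_f_rc_22_1 lc_f_rc_14_1 lc_f_rc_20_1 lc_f_rc_20_1 lc_f_rc_10_1 lc_f_rc_17_1 lc_f_rc_20_1 lc_f_rc_10_1 lc_f_rc_14_3 lc_f_rc_5_1 lc_f_rc_14_3 lc_f_rc_21_1 lc_f_rc_14_1 lc_f_rc_14_1 lc_f_rc_19_5 lc_f_rc_21_1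 lc_f_rc_17_1 lc_f_rc_17_1 lc_f_rc_21_1 lc_f_rc_14_3 lc_f_rc_19_1 lc_f_rc_14_3 lc_f_rc_17_3 lc_f_rc_10_3 lc_f_rc_17_3) (@D3.rec (fun _ => (Cert rels S Gen.f)) lc_f_rc_19_3 lc_f_rc_22_1 lc_f_rc_19_5 lc_f_rc_20_1 lc_f_rc_17_3 lc_f_rc_21_1 lc_f_rc_20_1 lc_f_rc_21_1 lc_f_rc_20_1 lc_f_rc_10_1 lc_f_rc_17_3 lc_f_rc_14_1 lc_f_rc_14_1 lc_f_rc_20_1 lc_f_rc_17_3 lc_f_rc_17_1 lc_f_rc_22_1 lc_f_rc_19_3 lc_f_rc_19_1 lc_f_rc_19_5 lc_f_rc_14_3 lc_f_rc_17_1 lc_f_rc_14_3 lc_f_rc_17_3 lc_f_rc_14_3 lc_f_rc_19_1 lc_f_rc_14_3 lc_f_rc_5_3 lc_f_rc_10_3 lc_f_rc_17_3 lc_f_rc_10_3 lc_f_rc_10_3 lc_f_rc_14_3 lc_f_rc_14_3 lc_f_rc_14_3 lc_f_rc_20_1 lc_f_rc_17_1 lc_f_rc_10_3 lc_f_rc_17_3 lc_f_rc_21_1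 lc_f_rc_17_1 lc_f_rc_19_3 lc_f_rc_14_3 lc_f_rc_17_1 lc_f_rc_22_1 lc_f_rc_14_1 lc_f_rc_17_3 lc_f_rc_17_3 lc_f_rc_10_3 lc_f_rc_21_1 lc_f_rc_17_3 lc_f_rc_17_3 lc_f_rc_10_3 lc_f_rc_14_3 lc_f_rc_19_5 lc_f_rc_10_3 lc_f_rc_17_3 lc_f_rc_14_1 lc_f_rc_10_1 lc_f_rc_21_1 lc_f_rc_10_3 lc_f_rc_14_3)
def ce_f : Pt → (Cert rels S Gen.f) := @Pt.rec (fun _ => (Cert rels S Gen.f)) (@D1.rec (fun _ => D2 → D3 → (Cert rels S Gen.f)) ce_f_0 ce_f_1 ce_f_2 ce_f_3 ce_f_4 ce_f_5 ce_f_6 ce_f_7 ce_f_8 ce_f_9 ce_f_10 ce_f_11 ce_f_12 ce_f_13 ce_f_14 ce_f_15 ce_f_16 ce_f_17 ce_f_18 ce_f_19 ce_f_20 ce_f_21 ce_f_22 ce_f_23 ce_f_24 ce_f_25 ce_f_26 ce_f_27 ce_f_28 ce_f_29 ce_f_30 ce_f_31 ce_f_32)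
def z3_f : D3 → Nat := fun _ => 0
def z2_f : D2 → D3 → Nat := fun _ _ => 0
def sd_f_0 : D2 → D3 → Nat := @D2.rec (fun _ => D3 → Nat) (@D3.rec (fun _ => Nat) 0 0 0 0 0 0 0 0 0 0 0 0 0 0 0 0 0 0 0 0 0 0 0 0 0 0 0 0 0 0 0 0 0 0 0 0 0 0 0 0 0 7 0 0 0 0 0 0 0 0 0 0 0 0 0 0 0 0 0 0 0 0) z3_f z3_f z3_f z3_f z3_f z3_f z3_f z3_f (@D3.rec (fun _ => Nat) 0 0 0 0 0 0 0 0 0 0 0 0 0 0 0 0 0 0 0 0 0 0 0 0 17 0 0 0 0 0 0 0 0 0 0 0 0 0 0 0 0 0 0 0 0 0 0 0 0 0 0 0 0 0 0 0 0 0 0 0 0 0) z3_f z3_f z3_f z3_f z3_f z3_f z3_f z3_f z3_f z3_f z3_f z3_f z3_f z3_f z3_f z3_f z3_f z3_f z3_f z3_f z3_f z3_f z3_f z3_f z3_f z3_f z3_f z3_f z3_f z3_f z3_f z3_f z3_f z3_f z3_f z3_f z3_f z3_f z3_f z3_f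 z3_f z3_f z3_f z3_f z3_f z3_f z3_f z3_f z3_f z3_f
def sd_f_1 : D2 → D3 → Nat := @D2.rec (fun _ => D3 → Nat) z3_f z3_f z3_f z3_f z3_f z3_f z3_f z3_f (@D3.rec (fun _ => Nat) 0 0 0 0 0 0 0 0 0 0 0 0 0 0 0 0 0 0 0 0 0 0 0 0 0 0 0 0 0 0 32 0 0 0 0 0 0 0 0 0 0 0 0 0 0 0 0 0 0 0 0 0 0 0 0 0 0 0 0 0 0 0) z3_f z3_f z3_f z3_f z3_f z3_f z3_f z3_f z3_f z3_f z3_f z3_f z3_f z3_f z3_f z3_f z3_f z3_f z3_f z3_f z3_f (@D3.rec (fun _ => Nat) 0 0 0 0 0 0 0 716 0 0 0 0 0 0 0 0 0 0 0 0 0 0 0 0 0 0 0 0 0 0 0 0 0 0 0 0 0 0 0 0 0 0 0 0 0 0 0 0 0 0 0 0 0 0 0 0 0 0 0 0 0 0) z3_f z3_f z3_f (@D3.rec (fun _ => Nat) 0 0 0 0 0 0 0 0 0 0 0 0 142 0 0 0 0 0 0 0 0 0 0 0 0 0 0 0 0 0 0 0 0 0 0 0 0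 0 0 0 0 0 0 0 0 0 0 0 0 0 0 0 0 0 0 0 0 0 0 0 0 0) z3_f z3_f z3_f z3_f z3_f z3_f z3_f z3_f z3_f z3_f z3_f (@D3.rec (fun _ => Nat) 0 0 0 0 0 0 0 0 0 0 0 0 0 0 0 0 0 0 0 0 0 0 0 0 0 0 0 0 0 0 0 0 0 0 0 0 0 0 0 0 0 0 0 0 0 0 0 0 180 0 0 0 0 0 0 0 0 0 0 0 0 0) z3_f z3_f z3_f (@D3.rec (fun _ => Nat) 0 0 0 0 0 0 0 0 0 0 0 0 0 0 0 0 0 0 0 0 0 0 0 0 0 0 0 0 0 0 179 0 0 0 0 0 0 0 0 0 0 0 0 0 0 0 0 0 0 0 0 0 0 0 0 0 0 0 0 0 0 0) z3_f z3_f z3_f z3_f z3_f z3_f z3_f z3_f z3_f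
def sd_f_3 : D2 → D3 → Nat := @D2.rec (fun _ => D3 → Nat) z3_f z3_f (@D3.rec (fun _ => Nat) 0 0 0 0 0 0 0 0 0 0 0 0 0 0 0 0 0 0 0 0 0 0 0 0 0 0 0 0 0 0 0 0 0 0 0 0 0 0 284 0 0 0 0 0 0 0 0 0 0 0 0 0 0 131 0 0 0 0 0 0 0 0) z3_f z3_f z3_f (@D3.rec (fun _ => Nat) 0 0 0 0 0 0 0 0 0 0 0 0 0 0 0 0 0 0 0 0 0 0 0 0 0 0 0 0 0 0 0 0 0 0 0 0 0 0 0 0 0 0 0 0 0 307 0 0 0 0 0 0 0 0 0 0 0 0 0 0 0 0) (@D3.rec (fun _ => Nat) 0 0 0 0 0 0 0 0 0 0 0 0 0 0 0 0 0 0 0 0 0 0 0 0 0 0 0 0 0 0 0 0 0 0 0 0 0 0 0 0 0 0 0 0 0 0 0 0 0 0 0 0 0 0 0 714 0 0 0 0 0 0) z3_f z3_f z3_f z3_f z3_f (@D3.rec (fun _ => Nat) 0 0 155 0 0 0 0 0 0 0 0 0 0 0 0 0 0 0 0 0 0 0 0 0 0 0 0 0 0 0 0 0 0 0 0 0 0 0 0 0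 0 0 0 0 0 0 0 0 0 0 0 0 0 0 0 0 0 0 0 0 0 0) z3_f z3_f (@D3.rec (fun _ => Nat) 0 0 0 0 0 0 0 0 0 0 0 0 0 0 0 0 0 0 0 0 0 0 0 0 0 0 0 149 0 0 0 0 0 0 0 0 0 0 0 0 0 0 0 0 0 0 0 0 0 0 0 0 0 0 0 0 0 0 0 0 0 0) z3_f z3_f z3_f z3_f (@D3.rec (fun _ => Nat) 0 0 0 0 0 0 0 0 0 0 0 0 0 0 0 0 0 0 0 0 0 0 555 0 0 0 0 0 0 0 0 0 0 0 0 0 0 0 0 0 0 0 0 0 0 0 0 0 0 0 0 0 0 0 0 0 0 0 0 0 0 0) z3_f (@D3.rec (fun _ => Nat) 0 0 0 0 0 0 0 0 0 0 0 0 0 0 0 0 0 0 0 0 0 0 0 0 0 0 0 0 0 0 0 0 0 0 0 0 0 0 0 0 0 0 0 0 0 0 0 0 0 0 0 383 0 0 0 0 0 0 0 0 0 0) z3_f (@D3.rec (fun _ => Nat) 0 0 0 0 0 0 0 0 0 0 0 0 0 0 0 0 0 0 0 0 0 0 0 0 0 0 0 0 0 0 0 108 0 0 0 0 0 0 0 0 0 0 0 0 0 0 0 0 0 0 0 0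 0 0 0 0 0 0 0 0 0 0) (@D3.rec (fun _ => Nat) 0 0 0 0 0 0 0 258 0 0 0 0 0 0 0 0 0 0 0 0 0 0 0 0 0 0 0 0 0 0 0 0 0 0 0 0 0 0 0 0 0 0 0 0 0 0 0 0 0 0 0 0 0 0 0 0 0 0 0 0 0 0) z3_f z3_f z3_f z3_f (@D3.rec (fun _ => Nat) 0 0 0 0 0 0 0 0 0 0 0 0 0 0 0 0 0 0 0 0 0 0 0 0 0 0 0 0 0 0 0 0 0 0 0 0 0 0 0 0 0 0 0 0 0 0 0 0 210 0 0 0 0 0 0 0 0 0 0 0 0 0) z3_f z3_f z3_f z3_f z3_f z3_f z3_f z3_f z3_f z3_f z3_f z3_f z3_f (@D3.rec (fun _ => Nat) 0 0 0 0 0 0 0 0 0 0 0 0 0 0 0 0 0 0 0 0 0 0 0 0 0 0 0 0 0 0 0 0 0 0 0 1335 0 0 0 0 0 0 0 0 0 0 0 0 0 0 0 0 0 0 0 0 0 0 0 0 0 0) (@D3.rec (fun _ => Nat) 0 0 0 0 0 0 0 0 0 0 0 0 0 0 0 0 0 0 0 0 0 0 0 0 0 0 0 0 0 0 0 0 0 0 0 0 0 0 0 0 0 0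 0 0 0 0 0 0 0 0 0 0 0 0 0 488 0 0 0 0 0 0) z3_f z3_f z3_f z3_f z3_f z3_f z3_f z3_f z3_f z3_f z3_f z3_f z3_f
def sd_f_4 : D2 → D3 → Nat := @D2.rec (fun _ => D3 → Nat) z3_f z3_f z3_f z3_f z3_f z3_f z3_f z3_f z3_f z3_f (@D3.rec (fun _ => Nat) 0 0 0 0 0 0 0 0 0 0 0 0 0 0 0 0 0 0 0 0 0 0 0 0 0 0 0 0 0 0 0 0 0 0 0 261 0 0 0 0 0 0 0 0 0 0 0 0 0 0 0 0 0 0 0 0 0 0 0 0 0 0) (@D3.rec (fun _ => Nat) 0 0 0 0 0 0 0 0 0 0 0 0 0 0 0 0 0 0 0 0 0 0 0 0 0 0 0 0 0 0 0 0 0 0 0 0 0 0 0 0 262 0 0 0 0 0 0 0 0 0 0 0 0 0 0 0 0 0 0 0 0 0) z3_f z3_f z3_f z3_f z3_f z3_f z3_f (@D3.rec (fun _ => Nat) 624 0 0 0 0 0 0 0 0 0 0 0 0 0 0 0 0 0 0 0 0 0 0 0 0 0 0 0 0 0 0 0 0 0 0 0 0 0 0 0 0 0 0 0 0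 0 0 0 0 0 0 0 0 0 0 0 0 0 0 0 0 0) z3_f z3_f z3_f z3_f z3_f z3_f z3_f z3_f z3_f z3_f z3_f z3_f z3_f z3_f z3_f z3_f z3_f z3_f z3_f z3_f z3_f z3_f z3_f z3_f (@D3.rec (fun _ => Nat) 0 0 0 0 0 0 0 0 0 0 0 0 0 0 0 0 0 0 0 0 0 0 0 0 0 0 0 0 0 0 0 0 0 0 0 0 0 0 0 1272 0 0 0 0 0 0 0 0 0 0 0 0 0 0 0 0 0 0 0 0 0 0) z3_f z3_f z3_f (@D3.rec (fun _ => Nat) 0 0 0 0 0 0 0 0 0 0 0 0 0 0 554 0 0 0 0 0 0 0 0 0 0 0 0 0 0 0 0 0 0 0 0 0 0 0 0 0 0 0 0 0 0 0 0 0 0 0 0 0 0 0 0 0 0 0 0 0 0 0) z3_f z3_f z3_f (@D3.rec (fun _ => Nat) 0 0 0 0 0 0 0 0 0 0 0 0 0 0 0 0 0 0 0 0 0 0 0 0 0 0 0 277 0 0 0 0 0 0 0 0 0 0 0 0 0 0 0 0 0 0 0 0 0 0 0 0 0 0 0 0 0 0 0 0 0 0) z3_f z3_f z3_f (@D3.rec (fun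 _ => Nat) 0 0 0 0 0 0 0 0 602 0 0 0 0 0 0 0 0 0 0 0 0 0 0 0 0 0 0 0 0 0 0 0 0 0 0 0 0 0 0 0 0 0 0 0 0 0 0 0 0 0 0 0 0 0 0 0 0 0 0 0 0 0) z3_f z3_f z3_f
def sd_f_5 : D2 → D3 → Nat := @D2.rec (fun _ => D3 → Nat) z3_f z3_f z3_f z3_f z3_f z3_f z3_f z3_f z3_f z3_f z3_f z3_f z3_f (@D3.rec (fun _ => Nat) 0 0 0 0 0 0 0 0 0 0 0 0 0 0 0 0 0 0 0 0 0 0 0 0 0 0 0 0 0 0 0 0 0 0 0 0 0 0 0 0 0 0 0 0 0 0 0 0 0 306 0 0 0 0 0 0 0 0 0 0 0 0) z3_f z3_f z3_f z3_f z3_f z3_f z3_f z3_f z3_f z3_f z3_f z3_f z3_f z3_f z3_f z3_f z3_f z3_f z3_f z3_f z3_f z3_f z3_f (@D3.rec (fun _ => Nat) 598 0 0 0 0 0 0 0 0 0 0 0 0 0 0 0 0 0 0 0 0 0 0 0 0 0 0 0 0 0 0 0 0 0 0 0 0 0 0 0 0 0 0 0 0 0 0 0 0 0 0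 0 0 0 0 0 0 0 0 0 0 0) z3_f z3_f z3_f z3_f z3_f z3_f z3_f z3_f z3_f z3_f z3_f z3_f z3_f z3_f (@D3.rec (fun _ => Nat) 0 0 0 0 0 0 0 0 0 288 0 0 0 0 0 0 0 0 0 0 0 0 0 0 0 0 0 0 0 0 0 0 0 0 0 0 0 0 0 0 0 0 0 0 0 0 0 0 0 0 0 0 0 0 0 0 0 0 0 0 0 0) z3_f z3_f z3_f z3_f z3_f z3_f z3_f
def sd_f_6 : D2 → D3 → Nat := @D2.rec (fun _ => D3 → Nat) z3_f z3_f z3_f z3_f z3_f z3_f z3_f (@D3.rec (fun _ => Nat) 0 0 0 0 0 0 0 0 0 0 906 0 0 0 0 0 0 0 0 0 0 0 0 0 0 0 0 0 0 0 0 0 0 0 0 0 0 0 0 0 0 0 0 0 0 0 606 0 0 0 0 0 0 0 0 0 0 0 0 0 0 0) z3_f z3_f z3_f z3_f (@D3.rec (fun _ => Nat) 0 0 0 0 0 0 0 0 0 0 653 0 0 0 0 0 0 0 0 0 0 0 0 0 0 0 0 0 0 0 0 0 0 0 0 0 0 0 0 0 0 0 0 0 0 0 0 0 0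 0 0 0 0 0 0 0 0 0 0 0 0 0) z3_f z3_f z3_f z3_f z3_f z3_f (@D3.rec (fun _ => Nat) 0 0 0 0 0 0 0 0 0 0 0 0 0 0 0 0 0 0 0 0 0 0 0 0 0 0 0 0 0 0 0 0 0 0 0 0 0 0 0 0 0 0 0 0 0 0 0 0 0 0 0 0 0 0 710 0 0 0 0 0 0 0) z3_f z3_f z3_f z3_f z3_f (@D3.rec (fun _ => Nat) 0 0 0 0 0 0 0 0 0 0 0 0 0 0 0 0 0 0 0 0 0 0 813 0 0 0 0 0 0 0 0 0 0 0 0 0 0 0 0 0 0 0 0 0 0 0 0 0 0 0 0 0 0 0 0 0 0 0 0 0 0 0) z3_f z3_f z3_f (@D3.rec (fun _ => Nat) 0 0 0 0 0 0 0 0 0 0 0 0 0 717 0 0 0 0 0 0 0 0 0 0 0 0 0 0 0 0 0 0 0 0 0 0 0 0 0 0 0 0 0 0 0 0 0 0 0 0 0 0 0 0 0 0 0 0 0 0 0 0) z3_f (@D3.rec (fun _ => Nat) 0 0 0 0 0 0 0 0 0 0 0 0 0 1336 0 0 0 0 0 0 0 0 0 0 0 0 0 0 0 0 0 0 0 0 0 0 0 0 0 0 0 0 0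 0 0 0 0 0 0 0 0 0 0 0 0 0 0 0 0 0 0 0) (@D3.rec (fun _ => Nat) 0 0 0 0 0 0 0 0 0 0 0 0 0 0 0 0 0 0 0 0 0 0 0 0 0 0 0 0 0 0 0 0 0 1364 0 0 0 0 0 0 0 0 0 0 0 0 0 0 0 0 0 0 0 0 0 0 0 0 0 0 0 0) z3_f z3_f (@D3.rec (fun _ => Nat) 0 0 0 0 0 0 0 0 0 0 0 0 0 0 0 0 0 0 0 0 0 0 0 0 581 0 0 0 0 0 0 0 0 0 0 0 0 0 0 0 0 0 0 0 0 0 0 0 0 0 0 0 0 0 0 0 0 0 0 0 0 0) z3_f z3_f (@D3.rec (fun _ => Nat) 0 0 0 0 0 0 0 0 0 0 0 0 0 0 0 0 0 0 0 0 0 0 0 0 0 0 0 0 0 0 0 0 0 0 1120 0 0 0 0 0 0 0 0 0 0 0 0 0 0 0 0 0 0 0 0 0 0 0 0 0 0 0) z3_f z3_f (@D3.rec (fun _ => Nat) 1330 0 0 0 0 0 0 0 0 0 0 0 0 0 0 0 0 0 0 0 0 0 0 0 0 0 0 0 0 0 0 0 0 0 0 0 0 0 0 0 0 0 0 0 0 0 0 0 0 0 0 0 0 0 0 0 0 0 0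 0 0 0) (@D3.rec (fun _ => Nat) 0 0 0 0 0 0 0 0 0 0 0 0 0 0 0 0 0 0 0 0 0 0 0 0 0 0 0 0 0 0 0 0 0 0 0 0 0 0 0 0 553 0 0 0 0 0 0 0 0 0 0 0 0 0 0 0 0 0 0 0 0 0) (@D3.rec (fun _ => Nat) 0 0 0 0 0 0 0 0 0 0 0 0 0 0 0 1388 0 0 0 0 0 0 0 0 0 0 0 0 0 0 0 0 0 0 0 0 0 0 0 0 0 0 0 0 0 746 0 0 0 0 0 0 0 0 0 0 0 0 0 0 0 0) z3_f z3_f z3_f z3_f (@D3.rec (fun _ => Nat) 0 0 0 0 0 0 0 0 0 0 0 0 0 0 0 0 0 0 0 0 0 0 0 0 0 0 0 0 0 0 0 0 0 0 0 0 0 0 0 0 0 0 0 1486 0 0 0 0 0 0 0 0 0 0 0 0 0 0 0 0 0 0) z3_f z3_f z3_f z3_f z3_f z3_f z3_f (@D3.rec (fun _ => Nat) 0 0 0 0 0 0 0 0 0 0 457 0 0 0 0 0 0 0 0 0 0 0 0 0 0 0 0 0 0 0 0 0 0 0 0 0 0 0 0 0 0 0 0 0 0 0 0 0 0 0 0 0 0 0 0 0 0 0 0 0 0 0)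 z3_f z3_f z3_f
def sd_f_7 : D2 → D3 → Nat := @D2.rec (fun _ => D3 → Nat) z3_f z3_f z3_f z3_f z3_f z3_f z3_f z3_f z3_f z3_f z3_f z3_f z3_f z3_f z3_f z3_f (@D3.rec (fun _ => Nat) 0 0 0 0 0 0 0 0 0 0 0 0 0 0 0 0 0 0 0 0 0 0 0 0 0 591 0 0 0 0 0 0 0 0 0 0 0 0 0 0 0 0 0 0 0 0 0 0 0 0 0 0 0 0 0 0 0 0 0 0 0 0) z3_f z3_f z3_f (@D3.rec (fun _ => Nat) 0 0 0 0 0 1173 0 0 0 0 0 0 0 0 0 0 0 0 0 0 0 0 0 0 0 0 0 0 0 0 0 0 0 0 0 0 0 0 0 0 0 0 0 0 0 0 0 0 464 0 0 0 0 0 0 0 0 0 0 0 0 0) z3_f z3_f z3_f z3_f z3_f z3_f z3_f z3_f z3_f z3_f z3_f z3_f z3_f z3_f z3_f z3_f z3_f z3_f z3_f z3_f (@D3.rec (fun _ => Nat) 0 0 0 0 0 0 0 0 0 0 0 0 760 0 0 0 0 0 0 0 0 0 0 0 0 0 0 0 0 0 0 0 0 0 0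 0 0 0 0 0 0 0 0 0 0 0 0 0 0 0 0 0 0 0 0 0 0 0 0 0 0 0) z3_f z3_f z3_f z3_f z3_f z3_f z3_f z3_f z3_f z3_f z3_f z3_f z3_f z3_f z3_f z3_f z3_f z3_f
def sd_f_8 : D2 → D3 → Nat := @D2.rec (fun _ => D3 → Nat) z3_f z3_f z3_f z3_f z3_f z3_f z3_f z3_f z3_f z3_f z3_f z3_f z3_f z3_f (@D3.rec (fun _ => Nat) 0 0 0 0 0 0 0 0 0 0 0 0 0 0 0 0 0 0 0 0 0 0 0 0 0 0 0 0 0 0 0 0 0 0 0 0 0 0 0 0 0 2068 0 0 0 0 0 0 0 0 0 0 0 0 0 0 0 0 0 0 0 0) z3_f z3_f z3_f z3_f z3_f (@D3.rec (fun _ => Nat) 0 0 0 0 0 0 0 0 0 0 0 0 0 0 0 0 0 0 0 0 0 0 0 0 0 0 0 0 0 0 0 0 0 0 0 0 0 0 0 0 0 0 0 0 0 0 0 0 0 0 0 0 0 0 0 0 0 0 0 0 0 618) z3_f z3_f z3_f (@D3.rec (fun _ => Nat) 0 0 0 0 0 0 0 0 0 0 0 0 0 0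 0 0 0 0 0 0 0 0 0 0 0 0 0 0 0 0 0 0 0 0 0 0 0 0 0 0 0 0 0 0 622 0 0 0 0 0 0 0 0 0 0 0 0 0 0 0 0 0) z3_f z3_f z3_f (@D3.rec (fun _ => Nat) 0 0 0 0 0 0 892 0 0 0 0 0 0 0 0 0 0 0 0 0 0 0 0 0 0 0 0 0 0 0 0 0 0 0 0 0 0 0 0 0 0 0 0 0 0 0 0 0 0 0 0 0 0 0 0 0 0 0 0 0 0 0) z3_f z3_f z3_f z3_f (@D3.rec (fun _ => Nat) 0 0 0 0 0 0 626 0 0 0 0 0 0 0 0 0 0 0 0 0 0 0 0 0 0 0 0 0 0 0 0 0 0 0 0 0 0 0 0 0 0 0 0 0 0 0 0 0 0 0 0 0 0 0 0 0 1857 0 0 0 0 0) z3_f z3_f z3_f z3_f z3_f z3_f z3_f z3_f z3_f z3_f z3_f z3_f z3_f z3_f z3_f z3_f z3_f z3_f z3_f z3_f z3_f z3_f z3_f z3_f z3_f z3_f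
def sd_f_9 : D2 → D3 → Nat := @D2.rec (fun _ => D3 → Nat) z3_f z3_f z3_f z3_f z3_f z3_f z3_f z3_f z3_f z3_f z3_f z3_f z3_f z3_f z3_f (@D3.rec (fun _ => Nat) 0 0 0 0 0 0 0 0 0 0 0 0 841 0 0 0 0 0 0 0 0 0 0 0 0 0 0 0 0 0 0 0 0 0 0 0 0 0 0 0 0 0 0 0 0 0 0 0 0 0 0 0 0 0 0 0 0 0 0 0 0 0) z3_f (@D3.rec (fun _ => Nat) 0 0 0 0 0 0 0 0 0 0 0 0 0 0 0 0 0 0 0 0 0 0 0 0 0 0 0 0 0 0 0 0 0 0 0 0 743 0 0 0 0 0 0 0 0 0 0 0 0 0 0 0 0 0 0 0 0 0 0 0 0 0) z3_f z3_f z3_f z3_f (@D3.rec (fun _ => Nat) 0 0 0 0 0 0 0 0 0 0 0 0 0 0 0 0 0 0 0 0 0 0 0 0 0 0 0 0 0 0 0 0 0 0 0 0 0 0 0 0 0 0 0 0 0 0 0 0 0 0 0 0 0 0 0 0 0 1315 0 0 0 0) z3_f (@D3.rec (fun _ => Nat) 0 0 0 0 0 0 0 0 0 0 0 0 0 0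 0 0 0 0 0 0 0 0 0 0 0 0 0 0 0 0 0 0 0 0 0 0 0 0 0 0 0 0 0 0 0 0 0 0 0 0 0 0 0 0 0 0 0 0 2325 0 0 0) z3_f z3_f (@D3.rec (fun _ => Nat) 0 0 0 0 0 0 0 0 0 0 0 0 0 0 0 0 0 0 0 0 0 0 0 0 0 0 0 0 0 0 0 0 0 0 0 0 0 0 0 0 0 0 0 0 0 0 0 0 0 0 0 0 0 0 0 0 0 0 0 0 1305 0) (@D3.rec (fun _ => Nat) 1983 0 0 0 0 0 0 0 0 0 0 0 0 0 0 0 0 0 0 0 0 0 0 0 0 0 0 0 0 0 0 0 0 0 0 0 0 0 0 0 0 0 0 0 0 0 0 0 0 0 0 0 0 1313 0 0 0 0 0 0 0 0) (@D3.rec (fun _ => Nat) 0 0 0 0 0 0 0 0 0 0 0 1243 0 0 0 0 0 0 0 0 0 0 0 0 0 0 0 0 0 0 0 0 0 0 0 0 0 0 0 0 0 0 0 0 0 0 0 0 0 0 0 0 0 0 0 0 0 0 0 0 0 0) z3_f z3_f (@D3.rec (fun _ => Nat) 0 0 0 0 0 0 0 0 0 0 0 0 0 0 0 0 0 0 0 0 0 0 0 0 0 0 0 0 0 0 0 0 1347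 0 0 0 0 0 0 0 0 0 0 0 0 0 0 0 0 0 0 0 0 0 0 0 0 0 0 0 0 0) z3_f z3_f z3_f z3_f z3_f z3_f z3_f z3_f z3_f z3_f z3_f z3_f z3_f z3_f z3_f z3_f z3_f z3_f z3_f z3_f z3_f z3_f z3_f z3_f z3_f z3_f z3_f
def sd_f_10 : D2 → D3 → Nat := @D2.rec (fun _ => D3 → Nat) z3_f z3_f (@D3.rec (fun _ => Nat) 0 0 0 0 0 0 0 0 0 0 0 0 0 0 0 0 0 0 0 0 0 0 0 0 0 0 0 0 0 0 0 0 0 0 0 0 0 0 0 0 0 0 0 0 0 0 0 0 0 2195 0 0 0 0 0 0 0 0 0 0 0 0) z3_f z3_f z3_f z3_f z3_f z3_f z3_f z3_f z3_f z3_f z3_f (@D3.rec (fun _ => Nat) 0 0 0 0 0 0 0 0 0 0 0 0 0 0 0 0 0 0 0 0 0 0 771 0 0 0 0 0 0 0 0 0 0 0 0 0 0 0 0 0 0 0 0 0 0 0 0 0 0 0 0 0 0 0 0 0 0 0 0 0 0 0) (@D3.rec (fun _ => Nat) 0 0 0 0 0 0 0 0 0 0 0 0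 0 0 0 0 0 0 0 0 0 0 0 0 0 0 0 0 0 0 1870 0 0 0 0 0 0 0 0 0 0 0 0 0 0 0 0 0 0 0 0 0 0 0 0 0 0 0 0 0 0 0) (@D3.rec (fun _ => Nat) 0 0 0 0 0 0 0 0 0 0 0 0 0 0 0 0 0 0 0 0 0 0 0 0 0 0 0 0 0 0 0 0 0 0 0 0 0 0 0 0 0 0 0 0 0 0 0 0 0 0 0 0 0 0 0 2547 0 0 0 0 0 0) z3_f z3_f z3_f z3_f z3_f z3_f z3_f z3_f z3_f z3_f z3_f z3_f z3_f z3_f z3_f z3_f (@D3.rec (fun _ => Nat) 0 0 0 0 0 0 0 0 0 0 0 0 0 0 0 0 0 856 0 0 0 0 0 0 0 0 0 0 0 0 0 0 0 0 0 0 0 0 0 0 0 0 0 0 0 0 0 0 0 0 0 0 0 0 0 0 0 0 0 0 0 0) z3_f z3_f z3_f z3_f z3_f z3_f z3_f z3_f (@D3.rec (fun _ => Nat) 0 0 0 0 0 0 0 0 0 0 0 0 0 0 0 0 0 0 0 0 0 0 0 0 0 0 0 0 0 0 0 0 0 0 0 0 0 0 2676 0 0 0 0 0 0 0 0 0 0 0 0 0 0 0 0 0 0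 0 0 0 0 0) z3_f z3_f z3_f z3_f z3_f (@D3.rec (fun _ => Nat) 0 0 0 0 0 0 0 0 0 0 0 0 0 0 0 0 0 0 0 0 0 0 0 0 0 0 0 0 0 0 0 0 0 0 0 0 0 0 0 0 0 0 0 0 0 0 0 0 0 0 0 0 0 0 0 0 869 0 0 0 0 0) z3_f z3_f z3_f (@D3.rec (fun _ => Nat) 0 0 0 0 0 0 0 0 0 0 0 0 0 0 0 0 0 0 0 0 0 0 0 0 0 0 0 0 0 0 0 0 0 0 0 0 0 0 0 0 0 0 0 2169 0 0 0 0 0 0 0 0 0 0 0 0 0 0 0 0 0 0) (@D3.rec (fun _ => Nat) 0 0 0 0 0 0 0 0 0 0 0 0 0 0 0 2678 0 0 0 0 0 0 0 0 0 0 0 0 0 0 0 0 0 0 0 0 0 0 0 0 0 0 0 0 0 0 0 0 0 0 0 0 0 0 0 0 0 0 0 0 0 0) z3_f z3_f z3_f z3_f z3_f z3_f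
def sd_f_11 : D2 → D3 → Nat := @D2.rec (fun _ => D3 → Nat) z3_f z3_f z3_f z3_f z3_f z3_f z3_f (@D3.rec (fun _ => Nat) 1131 0 0 0 0 0 0 0 0 0 0 0 0 0 0 0 0 0 0 0 0 0 0 0 0 0 0 0 0 0 0 0 0 0 0 0 0 0 0 0 0 0 0 0 0 0 0 0 0 0 0 0 0 0 0 0 0 0 0 0 0 0) z3_f (@D3.rec (fun _ => Nat) 0 0 0 0 0 0 0 0 0 0 0 0 0 0 0 0 0 0 0 0 0 0 0 0 0 0 0 0 0 0 0 0 0 0 0 0 0 2055 0 0 0 0 0 0 0 0 0 0 0 0 0 0 0 0 0 0 0 0 0 0 0 0) z3_f z3_f z3_f (@D3.rec (fun _ => Nat) 0 0 0 0 0 0 0 0 0 0 0 0 0 0 0 0 0 0 0 0 0 0 0 0 0 0 0 0 0 0 0 0 0 0 0 0 0 0 0 0 0 0 0 0 0 0 0 911 0 0 0 0 0 0 0 0 0 0 0 0 0 0) z3_f z3_f z3_f z3_f z3_f z3_f z3_f z3_f z3_f z3_f z3_f z3_f z3_f (@D3.rec (fun _ => Nat) 0 0 0 0 0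 0 0 0 0 0 0 0 0 0 0 0 0 0 0 847 0 0 0 0 0 0 0 0 0 0 0 0 0 0 0 0 0 0 0 0 0 0 0 0 0 0 0 0 0 0 0 0 0 0 0 0 0 0 0 0 0 0) z3_f z3_f (@D3.rec (fun _ => Nat) 0 0 0 0 0 0 0 0 0 0 0 0 0 0 0 0 0 0 0 0 0 0 0 0 0 0 0 0 0 0 0 0 0 0 0 0 0 0 0 0 0 0 0 0 0 0 0 0 0 0 1895 0 0 0 0 0 0 0 0 0 0 0) (@D3.rec (fun _ => Nat) 0 0 0 0 0 0 0 0 0 0 0 0 0 0 0 0 0 0 0 0 0 0 0 0 0 0 0 0 0 0 0 0 0 0 0 0 0 0 0 0 0 0 0 0 0 0 0 0 0 0 985 0 0 0 0 0 0 0 0 0 0 0) z3_f z3_f z3_f z3_f z3_f z3_f z3_f z3_f z3_f z3_f z3_f (@D3.rec (fun _ => Nat) 0 0 0 0 0 0 0 0 0 0 0 0 0 0 0 0 0 0 0 0 0 0 0 0 0 0 0 0 0 0 0 0 0 0 0 0 0 0 0 0 0 0 0 0 952 0 0 0 0 0 0 0 0 0 0 0 0 0 0 0 0 0) z3_f z3_f z3_f z3_f z3_f (@D3.rec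 (fun _ => Nat) 0 0 0 0 0 0 0 0 0 0 0 0 0 0 0 0 0 0 0 0 0 0 0 0 0 0 0 0 0 0 0 893 0 0 0 0 0 0 0 0 0 0 0 0 0 0 0 0 0 0 0 0 0 0 0 0 0 0 0 0 0 0) z3_f z3_f z3_f z3_f z3_f z3_f z3_f (@D3.rec (fun _ => Nat) 0 0 0 0 0 0 0 0 0 0 0 0 0 0 0 0 0 0 0 0 0 0 0 0 0 0 0 0 0 0 0 0 0 0 0 0 0 0 0 0 0 0 0 0 0 0 0 0 0 0 0 832 0 0 0 0 0 0 0 0 0 0) (@D3.rec (fun _ => Nat) 0 0 0 0 0 0 0 0 2527 0 0 0 0 0 0 0 0 0 0 0 0 0 0 0 0 0 0 0 0 0 0 0 0 0 0 0 0 0 0 0 0 0 0 0 0 0 0 0 0 0 0 0 0 0 0 0 0 0 0 0 0 0) z3_f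
def sd_f_12 : D2 → D3 → Nat := @D2.rec (fun _ => D3 → Nat) z3_f z3_f z3_f z3_f (@D3.rec (fun _ => Nat) 0 0 0 0 0 0 0 0 0 0 0 0 0 0 0 0 0 1979 0 0 0 0 0 0 0 0 0 0 0 0 0 0 0 0 0 0 0 0 0 0 0 0 0 0 0 0 0 0 0 0 0 0 0 0 0 0 0 0 0 0 0 0) z3_f z3_f z3_f z3_f z3_f z3_f z3_f z3_f (@D3.rec (fun _ => Nat) 0 0 0 0 0 0 0 0 0 0 0 0 0 0 0 0 0 0 0 0 0 0 0 0 0 0 0 0 0 0 0 0 0 0 0 0 0 0 0 0 0 0 0 0 0 0 0 0 0 0 0 0 0 0 0 0 0 0 0 1538 0 0) (@D3.rec (fun _ => Nat) 0 0 0 0 0 0 0 0 0 0 0 0 0 0 0 0 0 0 0 0 0 0 0 0 0 0 0 0 0 0 0 0 0 0 0 0 2286 0 0 0 0 0 0 0 0 0 0 0 0 0 0 0 0 0 0 0 0 0 0 0 0 0) (@D3.rec (fun _ => Nat) 0 0 0 0 0 0 0 0 0 0 0 0 0 0 0 0 0 0 0 0 0 0 0 0 0 0 0 0 0 0 0 0 0 0 0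 0 0 0 0 0 0 0 0 0 0 0 0 0 0 0 0 2333 0 0 0 0 0 0 0 0 0 0) z3_f z3_f z3_f (@D3.rec (fun _ => Nat) 0 0 1197 0 0 0 0 0 0 0 0 0 0 0 0 0 0 0 0 0 0 0 0 0 0 0 0 0 0 0 0 0 0 0 0 0 0 0 0 0 0 0 0 0 0 0 0 0 0 0 0 0 0 0 0 0 0 0 0 0 0 1198) z3_f z3_f z3_f z3_f z3_f (@D3.rec (fun _ => Nat) 0 1031 0 0 0 0 0 0 0 0 0 0 0 0 0 0 0 0 0 0 0 0 0 0 0 0 0 0 0 0 0 0 0 0 0 0 0 0 0 0 0 0 0 0 0 0 0 0 0 0 0 0 0 0 0 0 0 0 0 0 0 0) z3_f z3_f z3_f z3_f z3_f z3_f (@D3.rec (fun _ => Nat) 0 0 0 0 0 0 0 0 0 0 0 0 0 0 0 0 0 0 0 0 0 0 0 0 0 0 2799 0 0 0 0 0 0 0 0 0 0 0 2327 0 0 0 0 0 0 0 0 0 0 0 0 0 0 0 0 0 0 0 0 0 0 0) (@D3.rec (fun _ => Nat) 0 0 0 0 0 0 0 0 0 0 1232 0 0 0 0 0 0 0 0 0 0 0 0 0 0 0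 0 0 0 0 0 0 0 0 0 0 0 0 0 0 0 0 0 0 0 0 0 0 0 0 0 0 0 0 0 0 0 0 0 0 0 0) z3_f z3_f (@D3.rec (fun _ => Nat) 0 0 0 0 0 0 0 0 0 0 0 0 0 0 0 0 0 0 0 0 0 0 0 0 0 0 0 0 0 0 0 0 0 0 0 0 0 0 0 0 0 0 0 1400 0 0 0 0 0 0 0 0 0 0 0 0 0 0 0 0 0 0) z3_f z3_f z3_f z3_f z3_f z3_f (@D3.rec (fun _ => Nat) 0 0 0 0 0 0 0 0 0 0 0 0 0 0 0 0 0 0 0 0 0 0 0 0 0 0 0 0 0 0 0 0 0 0 0 0 0 0 0 0 0 0 0 1782 0 0 0 0 0 0 0 0 0 0 0 0 0 0 0 0 0 0) z3_f (@D3.rec (fun _ => Nat) 0 0 0 0 0 0 0 0 0 0 0 0 0 0 0 0 0 0 0 0 0 0 0 0 0 0 0 0 0 0 0 0 0 0 0 0 0 0 0 0 0 0 3068 0 0 0 0 0 0 0 0 0 0 0 0 0 0 0 0 0 0 0) (@D3.rec (fun _ => Nat) 0 0 0 0 0 0 0 0 0 0 0 0 0 0 1407 0 0 0 0 0 0 0 0 0 0 0 0 0 0 0 0 0 0 0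 0 0 0 0 0 0 0 0 0 0 0 0 0 0 0 0 0 0 0 0 0 0 0 0 0 0 0 0) z3_f z3_f z3_f z3_f z3_f z3_f z3_f z3_f (@D3.rec (fun _ => Nat) 0 0 0 0 0 0 0 0 0 0 0 0 0 0 0 0 0 0 0 0 0 0 0 0 0 0 0 0 0 0 2997 0 0 0 0 0 0 0 2381 0 0 0 0 0 0 0 0 0 0 0 0 0 0 0 0 0 0 0 0 0 0 0) (@D3.rec (fun _ => Nat) 0 0 0 0 0 0 0 0 0 0 0 0 0 0 0 0 0 0 0 0 0 0 0 0 0 703 0 0 0 0 0 0 0 0 0 0 0 0 0 0 0 0 0 0 0 0 0 0 0 0 0 0 0 0 0 0 0 0 0 0 0 0) (@D3.rec (fun _ => Nat) 0 0 0 0 0 0 0 0 0 0 0 0 0 0 0 0 0 0 0 0 0 0 0 0 0 0 0 0 0 0 0 0 0 0 0 0 0 0 0 0 0 0 0 0 0 0 0 2369 0 0 0 0 0 0 0 0 0 0 0 0 0 0) z3_f z3_f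
def sd_f_13 : D2 → D3 → Nat := @D2.rec (fun _ => D3 → Nat) z3_f z3_f z3_f z3_f z3_f z3_f z3_f z3_f z3_f z3_f z3_f z3_f z3_f z3_f z3_f z3_f z3_f z3_f (@D3.rec (fun _ => Nat) 0 0 0 0 0 0 0 0 0 0 0 0 0 0 0 0 0 0 0 0 0 0 0 0 0 0 0 1507 0 0 0 0 0 0 0 0 0 0 0 0 0 0 0 0 0 0 0 0 0 0 0 0 0 0 0 0 0 0 0 0 0 0) z3_f z3_f z3_f z3_f z3_f z3_f z3_f z3_f z3_f z3_f z3_f z3_f z3_f z3_f z3_f z3_f z3_f z3_f z3_f z3_f z3_f z3_f z3_f z3_f z3_f z3_f z3_f z3_f z3_f z3_f z3_f z3_f z3_f z3_f z3_f z3_f z3_f z3_f z3_f z3_f z3_f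
def sd_f_14 : D2 → D3 → Nat := @D2.rec (fun _ => D3 → Nat) z3_f z3_f z3_f z3_f z3_f z3_f z3_f z3_f z3_f z3_f z3_f z3_f z3_f z3_f z3_f (@D3.rec (fun _ => Nat) 0 0 0 0 0 0 0 0 0 0 0 0 0 0 0 0 0 0 0 0 0 0 0 1536 0 0 0 0 0 0 0 0 0 0 0 0 0 0 0 0 0 0 0 0 0 0 0 0 0 0 0 0 0 0 0 0 0 0 0 0 0 0) z3_f z3_f z3_f z3_f z3_f z3_f z3_f z3_f z3_f z3_f z3_f z3_f z3_f z3_f z3_f (@D3.rec (fun _ => Nat) 0 0 0 0 0 0 0 0 0 0 0 0 0 0 0 0 0 0 0 0 0 0 0 0 0 0 0 0 0 0 0 0 0 0 0 0 0 0 0 0 0 0 0 1780 0 0 0 0 0 0 0 0 0 0 0 0 0 0 0 0 0 0) z3_f z3_f z3_f z3_f z3_f z3_f z3_f z3_f z3_f z3_f z3_f z3_f z3_f z3_f z3_f z3_f z3_f z3_f z3_f (@D3.rec (fun _ => Nat) 0 0 0 0 0 0 0 0 0 0 0 0 0 0 0 0 0 0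 0 0 0 0 0 0 0 0 0 0 0 0 0 0 0 0 0 0 0 0 0 0 0 0 0 0 0 0 0 1626 0 0 0 0 0 0 0 0 0 0 0 0 0 0) z3_f z3_f z3_f z3_f z3_f z3_f z3_f z3_f
def sd_f_15 : D2 → D3 → Nat := @D2.rec (fun _ => D3 → Nat) z3_f z3_f z3_f z3_f z3_f (@D3.rec (fun _ => Nat) 0 0 0 0 0 0 0 0 0 0 0 0 0 0 0 0 0 0 0 0 0 0 0 0 0 0 0 0 0 0 0 0 0 0 0 823 0 0 0 0 0 0 0 0 0 0 0 0 0 0 0 0 0 0 0 0 0 0 0 0 0 0) z3_f z3_f z3_f z3_f z3_f z3_f z3_f z3_f z3_f z3_f z3_f z3_f z3_f z3_f z3_f z3_f z3_f z3_f z3_f z3_f (@D3.rec (fun _ => Nat) 0 0 0 0 0 0 0 0 0 937 0 0 0 0 0 0 0 0 0 0 0 0 0 0 0 0 0 0 0 0 0 0 0 0 0 0 0 0 0 0 0 0 0 0 2059 0 0 0 0 0 0 0 0 0 0 0 0 0 0 0 0 0) z3_f z3_f z3_f z3_f (@D3.rec (fun _ => Nat) 0 0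 0 0 0 0 0 0 0 0 0 0 0 0 0 0 0 0 0 0 0 0 0 0 0 0 0 0 0 0 0 0 0 2712 0 0 0 0 0 0 0 0 0 0 0 0 0 0 0 0 0 0 0 0 0 0 0 0 0 0 0 0) z3_f z3_f z3_f z3_f z3_f z3_f (@D3.rec (fun _ => Nat) 0 0 0 0 0 0 0 0 0 0 0 0 0 0 0 0 0 2110 0 0 0 0 0 0 0 0 0 0 0 0 0 0 0 0 0 0 0 0 0 0 0 0 0 0 0 0 0 0 0 0 0 0 0 0 0 0 0 0 0 0 0 0) z3_f z3_f z3_f z3_f z3_f z3_f z3_f z3_f z3_f z3_f z3_f z3_f z3_f z3_f z3_f z3_f z3_f z3_f z3_f z3_f z3_f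
def sd_f_16 : D2 → D3 → Nat := @D2.rec (fun _ => D3 → Nat) z3_f z3_f z3_f z3_f z3_f z3_f (@D3.rec (fun _ => Nat) 0 0 0 0 0 0 0 0 0 0 0 0 0 0 0 0 0 0 0 0 0 0 0 0 0 0 0 0 0 0 0 0 0 0 0 0 0 0 0 0 0 0 0 0 0 0 920 0 0 0 0 0 0 0 0 0 0 0 0 0 0 0) z3_f z3_f z3_f z3_f z3_f z3_f z3_f z3_f z3_f z3_f z3_f z3_f z3_f z3_f z3_f z3_f z3_f z3_f z3_f z3_f z3_f z3_f z3_f z3_f z3_f z3_f z3_f z3_f (@D3.rec (fun _ => Nat) 0 0 0 0 0 0 0 0 0 0 0 0 0 0 0 0 0 0 0 0 0 0 0 0 0 0 0 0 0 0 2660 0 0 0 0 0 0 0 0 0 0 0 0 0 0 0 0 0 0 0 0 0 0 0 0 0 0 0 0 0 0 0) z3_f z3_f z3_f z3_f z3_f z3_f z3_f z3_f z3_f z3_f z3_f z3_f z3_f z3_f z3_f z3_f (@D3.rec (fun _ => Nat) 0 0 0 0 0 0 0 0 0 0 0 0 0 0 0 0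 0 0 0 0 0 0 0 0 0 0 0 0 0 0 0 0 0 0 0 0 0 0 0 0 0 0 0 0 0 0 0 775 0 0 0 0 0 0 0 0 0 0 0 0 0 0) z3_f (@D3.rec (fun _ => Nat) 0 0 0 0 0 0 0 0 0 0 0 0 0 0 2199 0 0 0 0 0 0 0 0 0 0 0 0 0 0 0 0 0 0 0 0 0 0 0 0 0 0 0 0 0 0 0 0 0 0 0 0 0 0 0 0 0 0 0 0 0 0 0) z3_f z3_f z3_f z3_f (@D3.rec (fun _ => Nat) 0 0 0 0 0 0 0 0 0 0 0 0 0 0 0 0 0 0 0 0 0 0 0 0 0 0 0 0 0 0 0 0 0 0 0 0 0 0 0 0 0 0 0 0 0 2596 0 0 0 0 0 0 0 0 0 0 0 0 0 0 0 0)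
def sd_f_17 : D2 → D3 → Nat := @D2.rec (fun _ => D3 → Nat) z3_f (@D3.rec (fun _ => Nat) 0 0 0 0 0 0 0 0 0 0 0 0 0 0 0 0 0 0 0 0 0 0 0 0 0 0 0 0 0 0 0 0 0 0 0 0 0 2264 0 0 0 0 0 0 0 0 0 0 0 0 0 0 0 0 0 0 0 0 0 0 0 0) z3_f z3_f z3_f z3_f z3_f z3_f z3_f (@D3.rec (fun _ => Nat) 0 0 0 0 0 0 0 0 2149 0 0 0 0 0 0 0 0 0 0 0 0 0 0 0 0 0 0 0 0 0 0 0 0 0 2265 0 0 0 0 0 0 0 0 0 0 0 0 0 0 0 0 0 0 0 0 0 0 0 0 0 0 0) z3_f z3_f z3_f z3_f z3_f z3_f z3_f z3_f z3_f z3_f z3_f z3_f z3_f z3_f z3_f z3_f (@D3.rec (fun _ => Nat) 0 0 0 0 0 0 0 0 0 0 0 0 0 0 0 0 0 0 0 0 0 0 0 0 0 0 0 0 0 0 0 0 0 0 0 0 0 0 0 0 0 0 0 0 0 0 0 0 0 0 0 0 0 2317 0 0 0 0 0 0 0 0) z3_f (@D3.rec (fun _ => Nat) 0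 0 0 0 0 0 0 0 0 0 0 0 0 0 0 0 0 0 0 0 0 0 0 0 0 0 0 0 2347 0 0 0 0 0 0 0 0 0 0 0 0 0 0 0 0 0 0 0 0 0 0 0 0 0 0 0 0 0 0 0 0 0) z3_f z3_f z3_f (@D3.rec (fun _ => Nat) 0 0 0 0 0 0 0 0 0 0 0 2852 0 0 0 0 0 0 0 0 0 0 0 0 0 0 0 0 0 0 0 0 0 0 0 0 0 0 0 0 0 0 0 0 0 0 0 0 0 0 0 0 0 0 0 0 0 0 0 0 0 0) z3_f (@D3.rec (fun _ => Nat) 0 0 0 0 0 0 0 0 0 0 0 0 0 0 0 0 0 0 0 0 0 0 0 0 0 0 0 0 0 0 0 0 0 0 0 0 0 0 0 0 0 0 0 0 0 0 0 0 0 0 0 0 0 0 0 0 0 0 1166 0 0 0) z3_f z3_f z3_f z3_f z3_f z3_f z3_f z3_f z3_f z3_f z3_f z3_f z3_f z3_f z3_f z3_f z3_f z3_f z3_f z3_f z3_f (@D3.rec (fun _ => Nat) 0 0 0 0 0 0 0 0 0 0 2818 0 0 0 0 0 0 0 0 0 0 0 0 0 0 0 0 0 0 0 0 0 0 0 0 0 0 0 0 0 0 0 0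 0 0 0 0 0 0 0 0 0 0 0 0 0 0 0 0 0 0 0) z3_f z3_f z3_f
def sd_f_18 : D2 → D3 → Nat := @D2.rec (fun _ => D3 → Nat) z3_f z3_f z3_f z3_f z3_f z3_f z3_f z3_f z3_f z3_f z3_f z3_f z3_f z3_f z3_f z3_f z3_f z3_f z3_f z3_f z3_f z3_f z3_f (@D3.rec (fun _ => Nat) 0 0 0 0 0 0 0 0 0 0 0 0 0 0 0 0 0 0 0 0 0 0 0 0 0 0 0 0 0 0 645 0 0 0 0 0 0 0 0 0 0 0 0 0 0 0 0 0 0 0 0 0 0 0 0 0 0 0 0 0 0 0) z3_f z3_f z3_f z3_f z3_f z3_f z3_f z3_f (@D3.rec (fun _ => Nat) 0 0 0 0 0 0 0 0 0 0 0 0 0 0 0 0 0 0 0 0 0 0 0 0 2538 0 0 0 0 0 0 0 0 0 0 0 0 0 0 0 0 0 0 0 0 0 0 0 0 0 0 0 0 0 0 0 0 0 0 0 0 0) z3_f z3_f z3_f z3_f z3_f z3_f z3_f z3_f z3_f z3_f (@D3.rec (fun _ => Nat) 0 0 834 0 0 0 0 0 0 0 0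 0 0 0 0 0 0 0 0 0 0 0 0 0 0 0 0 0 0 0 0 0 0 0 0 0 0 0 0 0 0 0 0 0 0 0 0 0 0 0 0 0 0 0 0 0 0 0 0 0 0 0) z3_f z3_f z3_f z3_f z3_f z3_f z3_f z3_f z3_f z3_f (@D3.rec (fun _ => Nat) 0 0 0 0 0 0 0 0 0 0 0 0 0 0 0 0 0 0 0 0 0 0 0 0 0 0 0 0 0 0 0 0 0 0 0 0 2447 0 0 0 0 0 0 0 0 0 0 0 0 0 0 0 0 0 0 0 0 0 0 0 0 0) z3_f z3_f z3_f z3_f z3_f
def sd_f_19 : D2 → D3 → Nat := @D2.rec (fun _ => D3 → Nat) z3_f z3_f z3_f z3_f z3_f (@D3.rec (fun _ => Nat) 0 0 0 0 0 0 2665 0 0 0 0 0 0 0 0 0 0 0 0 0 0 0 0 0 0 0 0 0 0 0 0 0 0 0 0 0 0 0 0 0 0 0 0 0 0 0 0 0 0 0 0 0 0 0 0 0 0 0 0 0 0 0) z3_f z3_f z3_f z3_f z3_f z3_f z3_f z3_f z3_f z3_f z3_f z3_f z3_f z3_f z3_f z3_f z3_f z3_f (@D3.rec (fun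 _ => Nat) 0 0 0 0 0 0 0 0 0 0 0 0 0 0 0 0 0 0 0 3018 0 0 0 0 0 0 0 0 0 0 0 0 0 0 0 0 0 0 0 0 0 0 0 0 0 0 0 0 0 0 0 0 0 0 0 0 0 0 0 0 0 0) z3_f z3_f z3_f z3_f z3_f z3_f z3_f z3_f z3_f z3_f z3_f z3_f z3_f z3_f z3_f z3_f z3_f z3_f z3_f z3_f z3_f z3_f z3_f z3_f z3_f z3_f z3_f z3_f z3_f z3_f z3_f z3_f z3_f z3_f z3_f
def sd_f_20 : D2 → D3 → Nat := @D2.rec (fun _ => D3 → Nat) (@D3.rec (fun _ => Nat) 0 0 0 0 0 0 0 0 0 0 0 0 0 0 0 0 0 0 0 0 0 0 0 2041 0 0 0 0 0 0 0 0 0 0 2757 0 0 0 0 0 0 0 0 2738 0 0 0 0 0 0 0 0 0 0 0 0 0 0 0 0 0 0) z3_f z3_f z3_f z3_f z3_f (@D3.rec (fun _ => Nat) 0 0 0 0 0 0 0 0 0 0 0 0 0 0 0 0 0 0 0 0 0 0 0 0 0 0 0 0 0 0 0 0 0 0 0 0 0 0 0 0 0 0 0 0 0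 0 0 0 0 0 0 0 0 0 0 0 0 0 2766 0 0 0) z3_f z3_f z3_f z3_f (@D3.rec (fun _ => Nat) 0 0 0 0 0 0 0 0 0 0 0 0 0 0 0 0 0 0 0 0 0 2780 0 0 0 0 0 0 0 0 0 0 0 0 0 0 0 0 0 0 0 0 0 0 0 0 0 0 0 0 0 0 0 0 0 0 0 0 0 0 0 0) (@D3.rec (fun _ => Nat) 0 0 0 0 0 0 0 0 0 0 0 0 0 0 0 0 0 0 0 0 0 0 0 0 2411 0 0 0 0 0 0 0 0 0 0 0 0 0 0 0 0 0 0 0 0 0 0 0 0 0 0 0 0 0 0 0 0 0 0 0 0 0) z3_f z3_f z3_f z3_f z3_f z3_f z3_f z3_f z3_f (@D3.rec (fun _ => Nat) 0 0 0 0 0 0 0 0 0 0 0 0 0 0 0 0 2435 0 0 0 0 0 0 0 0 0 0 0 0 0 0 0 0 0 0 0 0 0 0 0 0 0 0 0 0 0 0 0 0 0 0 0 0 0 0 0 0 0 0 0 0 0) z3_f z3_f z3_f (@D3.rec (fun _ => Nat) 0 0 0 0 0 0 0 0 0 0 0 0 0 0 2977 0 0 0 0 0 0 0 0 0 0 0 0 0 0 0 0 0 0 0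 0 0 0 0 0 0 0 0 0 0 0 0 0 0 0 0 0 0 0 0 0 0 0 0 0 0 0 0) z3_f (@D3.rec (fun _ => Nat) 0 0 0 0 0 0 0 0 0 0 0 0 0 0 0 0 2926 0 0 0 0 0 0 0 0 0 0 0 0 0 0 0 0 0 0 0 0 0 0 0 0 0 0 0 0 0 0 0 0 0 0 0 0 0 0 0 0 0 0 0 0 0) (@D3.rec (fun _ => Nat) 0 0 0 0 0 0 0 0 0 0 0 0 0 0 0 0 0 0 0 0 0 0 0 0 0 0 0 0 0 0 0 0 0 0 0 0 0 0 0 0 0 0 0 0 0 0 0 0 0 0 0 0 0 0 0 2249 0 0 0 0 0 0) z3_f z3_f z3_f (@D3.rec (fun _ => Nat) 0 0 0 0 2937 0 0 0 0 0 0 0 0 0 0 0 0 0 0 0 0 0 0 0 0 0 0 0 0 0 0 0 0 0 0 0 0 0 0 0 0 0 0 0 0 0 0 0 0 0 0 0 0 0 0 0 0 0 0 0 0 0) (@D3.rec (fun _ => Nat) 0 0 0 0 0 0 0 0 0 0 0 0 0 0 0 0 0 0 0 0 0 0 0 0 0 0 0 0 0 0 0 0 0 0 0 0 0 0 0 0 0 0 3081 0 0 0 0 0 0 0 0 0 0 0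 0 0 0 0 0 0 0 0) z3_f z3_f z3_f z3_f z3_f z3_f z3_f z3_f z3_f z3_f z3_f z3_f z3_f z3_f z3_f z3_f z3_f (@D3.rec (fun _ => Nat) 0 0 2923 0 0 0 0 0 0 0 0 0 0 0 0 0 0 0 0 0 0 0 0 0 0 0 0 0 0 0 0 0 0 0 0 0 0 0 0 0 0 0 0 0 0 0 0 0 0 0 0 0 0 0 0 0 0 0 0 0 0 0) z3_f z3_f z3_f z3_f z3_f z3_f z3_f
def sd_f_21 : D2 → D3 → Nat := @D2.rec (fun _ => D3 → Nat) z3_f z3_f z3_f (@D3.rec (fun _ => Nat) 0 0 0 0 0 0 0 0 0 2657 0 0 0 0 0 0 0 0 0 0 0 0 0 0 0 0 0 0 0 0 0 0 0 0 0 0 0 0 0 0 0 0 0 0 0 0 0 0 0 0 0 0 0 0 0 0 0 0 0 0 0 0) z3_f z3_f z3_f z3_f z3_f z3_f z3_f z3_f z3_f z3_f z3_f z3_f z3_f z3_f z3_f z3_f z3_f z3_f z3_f z3_f z3_f z3_f z3_f z3_f z3_f z3_f z3_f (@D3.rec (fun _ =>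 Nat) 0 0 0 0 1457 0 0 0 0 0 0 0 0 0 0 0 0 0 0 0 0 0 0 0 0 0 0 0 0 0 0 0 0 0 0 0 0 0 0 0 0 0 0 0 0 0 0 0 0 0 0 0 0 0 0 0 0 0 0 0 0 0) z3_f (@D3.rec (fun _ => Nat) 0 0 0 0 0 0 0 0 0 0 0 0 0 0 0 0 0 0 0 0 0 0 0 0 0 0 0 0 0 0 0 0 0 0 0 0 0 0 0 0 0 0 1984 0 0 0 0 0 0 0 0 0 0 0 0 0 0 0 0 0 0 0) z3_f z3_f z3_f z3_f z3_f z3_f z3_f z3_f z3_f z3_f z3_f z3_f z3_f z3_f z3_f z3_f z3_f z3_f (@D3.rec (fun _ => Nat) 0 0 0 0 0 0 0 0 0 0 0 0 0 0 0 0 0 0 0 0 0 0 0 0 0 0 0 0 0 0 0 1784 0 0 0 0 0 0 0 0 0 0 0 0 0 0 0 0 0 0 0 0 0 0 0 0 0 0 0 0 0 0) z3_f z3_f z3_f z3_f z3_f z3_f z3_f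
def sd_f_22 : D2 → D3 → Nat := @D2.rec (fun _ => D3 → Nat) z3_f z3_f z3_f z3_f z3_f z3_f z3_f z3_f z3_f z3_f z3_f z3_f z3_f z3_f z3_f z3_f z3_f z3_f z3_f z3_f (@D3.rec (fun _ => Nat) 0 1710 0 0 0 0 0 0 0 0 0 0 0 0 0 0 0 0 0 0 0 0 0 0 0 0 0 0 0 0 0 0 0 0 0 0 0 0 0 0 0 0 0 0 0 0 0 0 0 0 0 0 0 0 0 0 0 0 0 0 0 0) z3_f z3_f z3_f z3_f z3_f z3_f z3_f z3_f z3_f z3_f z3_f z3_f z3_f z3_f z3_f z3_f z3_f z3_f z3_f z3_f z3_f z3_f z3_f z3_f z3_f z3_f z3_f z3_f z3_f z3_f z3_f z3_f z3_f z3_f z3_f z3_f z3_f z3_f z3_f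
def sd_f_23 : D2 → D3 → Nat := @D2.rec (fun _ => D3 → Nat) z3_f z3_f z3_f z3_f z3_f z3_f z3_f z3_f z3_f z3_f z3_f z3_f z3_f z3_f z3_f z3_f z3_f z3_f z3_f z3_f z3_f z3_f z3_f (@D3.rec (fun _ => Nat) 0 0 0 0 0 0 0 0 0 0 0 0 0 0 0 0 0 0 0 0 0 0 0 0 0 0 0 0 0 0 0 0 0 0 0 0 0 0 0 0 0 0 0 0 0 0 0 0 0 0 0 2298 0 0 0 0 0 0 0 0 0 0) (@D3.rec (fun _ => Nat) 0 0 0 0 0 0 0 0 0 0 0 0 0 0 0 0 0 0 0 0 0 0 0 0 0 0 0 0 0 0 0 0 0 0 0 0 0 0 0 0 0 0 0 0 2985 0 0 0 0 0 0 0 0 0 0 0 0 0 0 0 0 0) z3_f z3_f z3_f z3_f z3_f z3_f (@D3.rec (fun _ => Nat) 0 0 0 0 0 0 0 0 0 0 0 0 0 0 0 0 0 0 0 0 0 0 0 0 0 0 0 0 0 0 0 0 0 0 0 0 0 0 0 0 0 0 0 0 2903 0 0 0 0 0 0 0 0 0 0 0 0 0 0 0 0 0) z3_f z3_f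 z3_f z3_f z3_f z3_f z3_f z3_f z3_f z3_f (@D3.rec (fun _ => Nat) 0 0 0 0 0 0 0 0 0 0 0 0 0 0 0 0 0 0 0 0 0 0 0 0 0 0 0 0 0 0 0 0 0 0 0 0 0 0 0 0 0 0 0 0 2797 0 0 0 0 0 0 0 0 0 0 0 0 0 0 0 0 0) z3_f z3_f z3_f z3_f z3_f z3_f z3_f z3_f z3_f z3_f z3_f z3_f z3_f z3_f z3_f z3_f z3_f
def sd_f_24 : D2 → D3 → Nat := @D2.rec (fun _ => D3 → Nat) z3_f z3_f z3_f z3_f z3_f z3_f z3_f z3_f z3_f z3_f z3_f z3_f z3_f z3_f z3_f z3_f z3_f z3_f z3_f z3_f z3_f z3_f z3_f z3_f z3_f z3_f z3_f z3_f z3_f z3_f z3_f z3_f z3_f z3_f z3_f z3_f (@D3.rec (fun _ => Nat) 0 0 0 0 0 0 0 0 0 0 0 0 0 0 0 0 0 0 0 0 0 0 0 2029 0 0 0 0 0 0 0 0 0 0 0 0 0 0 0 0 0 0 0 0 0 0 0 0 0 0 0 0 0 0 0 0 0 0 0 0 0 0)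 z3_f z3_f z3_f z3_f z3_f z3_f z3_f z3_f z3_f z3_f (@D3.rec (fun _ => Nat) 0 0 0 0 0 0 0 0 0 0 0 0 0 0 0 0 0 0 0 2929 0 0 0 0 0 0 0 0 0 0 0 0 0 0 0 0 0 0 0 0 0 0 0 0 0 0 0 0 0 0 0 0 0 0 0 0 0 0 0 0 0 0) z3_f z3_f z3_f z3_f z3_f z3_f z3_f z3_f z3_f z3_f z3_f z3_f
def sd_f_25 : D2 → D3 → Nat := @D2.rec (fun _ => D3 → Nat) z3_f z3_f (@D3.rec (fun _ => Nat) 0 0 0 0 0 0 0 0 0 0 0 0 0 0 0 0 0 0 0 0 0 0 0 0 0 0 0 0 0 0 0 0 0 0 0 0 0 0 0 0 0 2809 0 0 0 0 0 0 0 0 0 0 0 0 0 0 0 0 0 0 0 0) z3_f z3_f z3_f z3_f z3_f z3_f z3_f z3_f z3_f z3_f z3_f z3_f z3_f z3_f z3_f z3_f z3_f z3_f z3_f z3_f z3_f z3_f z3_f z3_f z3_f z3_f z3_f z3_f z3_f z3_f z3_f z3_f z3_f z3_f z3_f z3_f z3_f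 z3_f z3_f z3_f z3_f z3_f z3_f z3_f z3_f z3_f z3_f z3_f z3_f z3_f z3_f z3_f z3_f z3_f z3_f z3_f z3_f
def sd_f_26 : D2 → D3 → Nat := @D2.rec (fun _ => D3 → Nat) z3_f z3_f z3_f z3_f z3_f z3_f z3_f (@D3.rec (fun _ => Nat) 0 0 0 0 0 0 0 0 0 0 0 0 0 0 0 0 0 0 0 0 0 0 0 0 0 0 1590 0 0 0 0 0 0 0 0 0 0 0 0 0 0 0 0 0 0 0 0 0 0 0 0 0 0 0 0 0 0 0 0 0 0 0) z3_f z3_f z3_f z3_f z3_f z3_f z3_f z3_f z3_f z3_f z3_f z3_f z3_f z3_f z3_f z3_f z3_f z3_f z3_f z3_f z3_f z3_f z3_f z3_f z3_f z3_f z3_f z3_f z3_f z3_f z3_f z3_f z3_f z3_f z3_f z3_f z3_f z3_f z3_f z3_f z3_f z3_f z3_f z3_f z3_f z3_f z3_f z3_f z3_f z3_f z3_f z3_f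
def sd_f_29 : D2 → D3 → Nat := @D2.rec (fun _ => D3 → Nat) z3_f z3_f z3_f z3_f z3_f z3_f z3_f z3_f (@D3.rec (fun _ => Nat) 0 0 0 0 0 0 0 0 0 0 0 0 0 0 0 0 0 0 0 0 0 0 0 0 0 0 0 0 0 0 0 0 0 0 0 0 0 0 0 0 0 0 0 0 0 0 0 0 0 0 0 3005 0 0 0 0 0 0 0 0 0 0) z3_f z3_f z3_f z3_f z3_f z3_f z3_f z3_f z3_f z3_f z3_f z3_f z3_f z3_f z3_f z3_f z3_f z3_f z3_f z3_f z3_f z3_f z3_f z3_f z3_f z3_f z3_f z3_f z3_f z3_f z3_f z3_f z3_f z3_f z3_f z3_f z3_f z3_f z3_f z3_f z3_f z3_f z3_f z3_f z3_f z3_f z3_f z3_f z3_f z3_f z3_f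
def sd_f : Pt → Nat := @Pt.rec (fun _ => Nat) (@D1.rec (fun _ => D2 → D3 → Nat) sd_f_0 sd_f_1 z2_f sd_f_3 sd_f_4 sd_f_5 sd_f_6 sd_f_7 sd_f_8 sd_f_9 sd_f_10 sd_f_11 sd_f_12 sd_f_13 sd_f_14 sd_f_15 sd_f_16 sd_f_17 sd_f_18 sd_f_19 sd_f_20 sd_f_21 sd_f_22 sd_f_23 sd_f_24 sd_f_25 sd_f_26 z2_f z2_f sd_f_29 z2_f z2_f z2_f)

end

end Cfsg.Agent.Helper28.S1692
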