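import Cfsg.Agent.Lib.Helper28.S1692.Tree

set_option autoImplicit false
set_option maxRecDepth 100000
set_option linter.all false

namespace Cfsg.Agent.Helper28.S1692

open Cfsg.Agent.Helper28
open Cfsg.Spor.ON (Gen)

noncomputable section

abbrev lc_g_Cert_tree : Cert rels S Gen.g := Cert.tree
abbrev lc_g_rc_21_2 : Cert rels S Gen.g := rc_21_2
abbrev lc_g_rc_21_3 : Cert rels S Gen.g := rc_21_3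
abbrev lc_g_rc_23_1 : Cert rels S Gen.g := rc_23_1
abbrev lc_g_rc_23_3 : Cert rels S Gen.g := rc_23_3
abbrev lc_g_rc_23_7 : Cert rels S Gen.g := rc_23_7
abbrev lc_g_rc_23_9 : Cert rels S Gen.g := rc_23_9
abbrev lc_g_rc_24_1 : Cert rels S Gen.g := rc_24_1
abbrev lc_g_rc_24_3 : Cert rels S Gen.g := rc_24_3
abbrev lc_g_rc_24_7 : Cert rels S Gen.g := rc_24_7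
abbrev lc_g_rc_24_9 : Cert rels S Gen.g := rc_24_9
abbrev lc_g_rc_25_11 : Cert rels S Gen.g := rc_25_11
abbrev lc_g_rc_25_15 : Cert rels S Gen.g := rc_25_15
abbrev lc_g_rc_25_19 : Cert rels S Gen.g := rc_25_19
abbrev lc_g_rc_25_3 : Cert rels S Gen.g := rc_25_3
abbrev lc_g_rc_25_7 : Cert rels S Gen.g := rc_25_7
abbrev lc_g_rc_26_0 : Cert rels S Gen.g := rc_26_0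
abbrev lc_g_rc_26_3 : Cert rels S Gen.g := rc_26_3
abbrev lc_g_rc_26_6 : Cert rels S Gen.g := rc_26_6
abbrev lc_g_rc_26_9 : Cert rels S Gen.g := rc_26_9
abbrev lc_g_rc_27_0 : Cert rels S Gen.g := rc_27_0
abbrev lc_g_rc_27_3 : Cert rels S Gen.g := rc_27_3
abbrev lc_g_rc_27_6 : Cert rels S Gen.g := rc_27_6
abbrev lc_g_rc_27_9 : Cert rels S Gen.g := rc_27_9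
def ce_g_0 : D2 → D3 → (Cert rels S Gen.g) := @D2.rec (fun _ => D3 → (Cert rels S Gen.g)) (@D3.rec (fun _ => (Cert rels S Gen.g)) lc_g_Cert_tree lc_g_rc_21_3 lc_g_Cert_tree lc_g_Cert_tree lc_g_Cert_tree lc_g_Cert_tree lc_g_rc_21_3 lc_g_Cert_tree lc_g_rc_21_2 lc_g_Cert_tree lc_g_Cert_tree lc_g_Cert_tree lc_g_Cert_tree lc_g_Cert_tree lc_g_Cert_tree lc_g_Cert_tree lc_g_Cert_tree lc_g_Cert_tree lc_g_rc_21_3 lc_g_Cert_tree lc_g_Cert_tree lc_g_rc_21_2 lc_g_Cert_tree lc_g_Cert_tree lc_g_rc_21_2 lc_g_rc_21_2 lc_g_Cert_tree lc_g_rc_21_3 lc_g_Cert_tree lc_g_rc_21_2 lc_g_Cert_tree lc_g_Cert_tree lc_g_rc_21_3 lc_g_Cert_tree lc_g_Cert_tree lc_g_Cert_tree lc_g_rc_21_3 lc_g_Cert_tree lc_g_Cert_tree lc_g_rc_21_2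 lc_g_rc_21_2 lc_g_rc_21_3 lc_g_rc_21_2 lc_g_Cert_tree lc_g_Cert_tree lc_g_Cert_tree lc_g_Cert_tree lc_g_rc_21_3 lc_g_Cert_tree lc_g_Cert_tree lc_g_rc_21_2 lc_g_rc_21_2 lc_g_rc_26_0 lc_g_rc_21_2 lc_g_rc_21_2 lc_g_rc_27_9 lc_g_rc_27_9 lc_g_rc_21_3 lc_g_Cert_tree lc_g_Cert_tree lc_g_rc_21_2 lc_g_Cert_tree) (@D3.rec (fun _ => (Cert rels S Gen.g)) lc_g_Cert_tree lc_g_Cert_tree lc_g_rc_26_3 lc_g_rc_23_1 lc_g_rc_26_6 lc_g_rc_21_2 lc_g_Cert_tree lc_g_rc_21_2 lc_g_Cert_tree lc_g_rc_21_3 lc_g_Cert_tree lc_g_Cert_tree lc_g_rc_21_2 lc_g_rc_23_7 lc_g_Cert_tree lc_g_Cert_tree lc_g_Cert_tree lc_g_rc_24_9 lc_g_rc_21_3 lc_g_Cert_tree lc_g_Cert_tree lc_g_Cert_tree lc_g_rc_21_3 lc_g_Cert_tree lc_g_Cert_tree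 lc_g_rc_21_2 lc_g_Cert_tree lc_g_rc_27_6 lc_g_rc_24_3 lc_g_rc_27_6 lc_g_rc_24_3 lc_g_Cert_tree lc_g_rc_21_2 lc_g_rc_21_3 lc_g_Cert_tree lc_g_rc_21_3 lc_g_rc_27_3 lc_g_rc_21_2 lc_g_Cert_tree lc_g_Cert_tree lc_g_rc_23_1 lc_g_rc_23_7 lc_g_rc_21_3 lc_g_Cert_tree lc_g_Cert_tree lc_g_rc_21_2 lc_g_rc_21_2 lc_g_rc_26_6 lc_g_rc_23_1 lc_g_Cert_tree lc_g_Cert_tree lc_g_rc_21_3 lc_g_Cert_tree lc_g_Cert_tree lc_g_rc_21_2 lc_g_rc_27_6 lc_g_rc_21_3 lc_g_rc_21_2 lc_g_rc_21_2 lc_g_rc_21_3 lc_g_rc_27_9 lc_g_rc_27_9) (@D3.rec (fun _ => (Cert rels S Gen.g)) lc_g_rc_21_3 lc_g_Cert_tree lc_g_rc_24_7 lc_g_rc_21_2 lc_g_rc_24_7 lc_g_rc_21_2 lc_g_Cert_tree lc_g_Cert_tree lc_g_rc_23_1 lc_g_rc_27_6 lc_g_rc_24_7 lc_g_rc_24_3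 lc_g_Cert_tree lc_g_rc_21_3 lc_g_Cert_tree lc_g_Cert_tree lc_g_Cert_tree lc_g_rc_21_2 lc_g_rc_27_6 lc_g_rc_27_6 lc_g_rc_21_2 lc_g_rc_24_9 lc_g_rc_24_1 lc_g_Cert_tree lc_g_rc_23_9 lc_g_Cert_tree lc_g_rc_23_3 lc_g_Cert_tree lc_g_rc_21_3 lc_g_Cert_tree lc_g_rc_27_3 lc_g_rc_26_6 lc_g_rc_23_3 lc_g_Cert_tree lc_g_Cert_tree lc_g_Cert_tree lc_g_rc_21_2 lc_g_Cert_tree lc_g_rc_21_3 lc_g_Cert_tree lc_g_Cert_tree lc_g_rc_21_2 lc_g_rc_26_6 lc_g_rc_23_3 lc_g_Cert_tree lc_g_rc_21_3 lc_g_rc_27_3 lc_g_rc_21_2 lc_g_rc_24_7 lc_g_rc_23_7 lc_g_rc_23_9 lc_g_rc_23_7 lc_g_rc_21_3 lc_g_Cert_tree lc_g_Cert_tree lc_g_rc_21_2 lc_g_rc_24_9 lc_g_Cert_tree lc_g_rc_21_3 lc_g_Cert_tree lc_g_rc_21_2 lc_g_Cert_tree) (@D3.rec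 (fun _ => (Cert rels S Gen.g)) lc_g_rc_21_3 lc_g_Cert_tree lc_g_rc_24_1 lc_g_Cert_tree lc_g_Cert_tree lc_g_rc_21_2 lc_g_rc_24_7 lc_g_Cert_tree lc_g_rc_26_6 lc_g_rc_24_3 lc_g_Cert_tree lc_g_rc_21_3 lc_g_Cert_tree lc_g_Cert_tree lc_g_rc_23_7 lc_g_Cert_tree lc_g_rc_21_3 lc_g_Cert_tree lc_g_Cert_tree lc_g_rc_21_2 lc_g_Cert_tree lc_g_rc_24_1 lc_g_rc_23_9 lc_g_rc_27_9 lc_g_rc_21_3 lc_g_Cert_tree lc_g_Cert_tree lc_g_rc_21_2 lc_g_rc_24_9 lc_g_Cert_tree lc_g_rc_27_6 lc_g_rc_26_6 lc_g_rc_27_6 lc_g_rc_27_6 lc_g_Cert_tree lc_g_rc_27_6 lc_g_rc_21_2 lc_g_rc_24_3 lc_g_Cert_tree lc_g_rc_21_3 lc_g_rc_27_3 lc_g_rc_21_2 lc_g_rc_26_9 lc_g_Cert_tree lc_g_rc_21_2 lc_g_rc_26_3 lc_g_Cert_tree lc_g_Cert_tree lc_g_rc_27_3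 lc_g_Cert_tree lc_g_Cert_tree lc_g_rc_26_3 lc_g_rc_27_3 lc_g_rc_23_1 lc_g_rc_27_6 lc_g_Cert_tree lc_g_rc_26_9 lc_g_Cert_tree lc_g_rc_21_3 lc_g_Cert_tree lc_g_Cert_tree lc_g_Cert_tree) (@D3.rec (fun _ => (Cert rels S Gen.g)) lc_g_rc_21_2 lc_g_rc_27_6 lc_g_rc_26_0 lc_g_rc_27_3 lc_g_rc_21_2 lc_g_rc_27_9 lc_g_rc_27_6 lc_g_rc_21_3 lc_g_rc_21_2 lc_g_rc_21_2 lc_g_Cert_tree lc_g_rc_27_9 lc_g_rc_21_3 lc_g_Cert_tree lc_g_rc_26_3 lc_g_rc_26_0 lc_g_rc_26_0 lc_g_rc_24_3 lc_g_rc_21_2 lc_g_rc_27_9 lc_g_rc_24_7 lc_g_Cert_tree lc_g_rc_21_3 lc_g_rc_27_6 lc_g_rc_21_3 lc_g_Cert_tree lc_g_Cert_tree lc_g_rc_23_3 lc_g_rc_24_3 lc_g_rc_27_6 lc_g_Cert_tree lc_g_rc_21_2 lc_g_rc_24_3 lc_g_rc_21_3 lc_g_rc_23_1 lc_g_Cert_tree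 lc_g_rc_21_3 lc_g_Cert_tree lc_g_rc_21_3 lc_g_Cert_tree lc_g_rc_27_9 lc_g_Cert_tree lc_g_rc_24_3 lc_g_rc_27_6 lc_g_rc_26_9 lc_g_Cert_tree lc_g_rc_23_3 lc_g_Cert_tree lc_g_rc_21_2 lc_g_Cert_tree lc_g_rc_21_3 lc_g_Cert_tree lc_g_rc_23_7 lc_g_Cert_tree lc_g_rc_23_3 lc_g_rc_23_3 lc_g_Cert_tree lc_g_Cert_tree lc_g_rc_21_2 lc_g_Cert_tree lc_g_rc_21_3 lc_g_rc_21_3) (@D3.rec (fun _ => (Cert rels S Gen.g)) lc_g_Cert_tree lc_g_rc_23_3 lc_g_Cert_tree lc_g_rc_21_2 lc_g_rc_27_6 lc_g_rc_21_2 lc_g_Cert_tree lc_g_rc_21_2 lc_g_Cert_tree lc_g_rc_27_3 lc_g_Cert_tree lc_g_rc_23_7 lc_g_rc_24_9 lc_g_rc_24_9 lc_g_rc_27_0 lc_g_rc_21_3 lc_g_Cert_tree lc_g_Cert_tree lc_g_Cert_tree lc_g_rc_21_3 lc_g_rc_24_7 lc_g_Cert_tree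 lc_g_rc_21_3 lc_g_Cert_tree lc_g_Cert_tree lc_g_Cert_tree lc_g_rc_21_3 lc_g_Cert_tree lc_g_rc_21_2 lc_g_rc_27_0 lc_g_Cert_tree lc_g_rc_24_9 lc_g_rc_26_6 lc_g_Cert_tree lc_g_Cert_tree lc_g_rc_21_3 lc_g_Cert_tree lc_g_rc_21_2 lc_g_rc_21_3 lc_g_Cert_tree lc_g_Cert_tree lc_g_Cert_tree lc_g_rc_26_6 lc_g_Cert_tree lc_g_Cert_tree lc_g_rc_26_6 lc_g_Cert_tree lc_g_Cert_tree lc_g_rc_21_3 lc_g_Cert_tree lc_g_Cert_tree lc_g_rc_21_2 lc_g_rc_26_6 lc_g_rc_27_9 lc_g_rc_27_9 lc_g_rc_21_3 lc_g_Cert_tree lc_g_Cert_tree lc_g_rc_21_2 lc_g_Cert_tree lc_g_rc_21_2 lc_g_Cert_tree) (@D3.rec (fun _ => (Cert rels S Gen.g)) lc_g_Cert_tree lc_g_rc_21_3 lc_g_rc_27_3 lc_g_rc_21_2 lc_g_rc_26_9 lc_g_rc_23_9 lc_g_Cert_tree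 lc_g_Cert_tree lc_g_rc_23_1 lc_g_rc_21_3 lc_g_rc_27_9 lc_g_rc_26_9 lc_g_rc_27_6 lc_g_rc_26_3 lc_g_rc_26_9 lc_g_rc_27_6 lc_g_rc_21_3 lc_g_Cert_tree lc_g_Cert_tree lc_g_Cert_tree lc_g_rc_21_2 lc_g_rc_27_3 lc_g_rc_25_7 lc_g_rc_24_7 lc_g_rc_21_3 lc_g_Cert_tree lc_g_rc_21_2 lc_g_rc_21_2 lc_g_rc_26_6 lc_g_rc_21_3 lc_g_Cert_tree lc_g_rc_21_2 lc_g_rc_24_7 lc_g_rc_21_3 lc_g_Cert_tree lc_g_rc_21_2 lc_g_rc_21_3 lc_g_Cert_tree lc_g_Cert_tree lc_g_Cert_tree lc_g_rc_26_0 lc_g_rc_21_3 lc_g_Cert_tree lc_g_Cert_tree lc_g_rc_21_2 lc_g_rc_23_3 lc_g_Cert_tree lc_g_rc_24_9 lc_g_rc_24_9 lc_g_Cert_tree lc_g_Cert_tree lc_g_rc_21_3 lc_g_Cert_tree lc_g_Cert_tree lc_g_rc_21_2 lc_g_Cert_tree lc_g_rc_26_0 lc_g_Cert_tree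 lc_g_rc_21_3 lc_g_Cert_tree lc_g_Cert_tree lc_g_rc_21_2) (@D3.rec (fun _ => (Cert rels S Gen.g)) lc_g_Cert_tree lc_g_rc_24_9 lc_g_rc_26_3 lc_g_rc_21_2 lc_g_rc_21_3 lc_g_Cert_tree lc_g_rc_21_2 lc_g_Cert_tree lc_g_Cert_tree lc_g_Cert_tree lc_g_rc_21_3 lc_g_Cert_tree lc_g_Cert_tree lc_g_rc_21_2 lc_g_rc_24_7 lc_g_Cert_tree lc_g_rc_23_9 lc_g_rc_27_3 lc_g_rc_24_7 lc_g_rc_24_9 lc_g_rc_27_0 lc_g_rc_21_3 lc_g_Cert_tree lc_g_Cert_tree lc_g_rc_21_2 lc_g_rc_27_3 lc_g_Cert_tree lc_g_Cert_tree lc_g_Cert_tree lc_g_Cert_tree lc_g_rc_27_9 lc_g_rc_24_1 lc_g_Cert_tree lc_g_rc_26_3 lc_g_rc_27_9 lc_g_rc_24_7 lc_g_Cert_tree lc_g_rc_21_3 lc_g_Cert_tree lc_g_Cert_tree lc_g_Cert_tree lc_g_rc_21_2 lc_g_Cert_tree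 lc_g_rc_21_2 lc_g_rc_21_3 lc_g_Cert_tree lc_g_rc_23_3 lc_g_rc_26_6 lc_g_Cert_tree lc_g_rc_26_6 lc_g_Cert_tree lc_g_rc_24_1 lc_g_rc_24_3 lc_g_rc_27_6 lc_g_rc_27_3 lc_g_Cert_tree lc_g_Cert_tree lc_g_rc_21_3 lc_g_Cert_tree lc_g_Cert_tree lc_g_rc_21_2 lc_g_rc_24_3) (@D3.rec (fun _ => (Cert rels S Gen.g)) lc_g_rc_21_2 lc_g_Cert_tree lc_g_rc_24_1 lc_g_rc_21_3 lc_g_Cert_tree lc_g_Cert_tree lc_g_rc_23_9 lc_g_rc_24_3 lc_g_rc_26_0 lc_g_rc_21_2 lc_g_rc_24_9 lc_g_rc_21_2 lc_g_rc_23_9 lc_g_Cert_tree lc_g_rc_24_1 lc_g_rc_21_3 lc_g_Cert_tree lc_g_rc_24_3 lc_g_rc_26_6 lc_g_rc_24_7 lc_g_Cert_tree lc_g_Cert_tree lc_g_Cert_tree lc_g_Cert_tree lc_g_rc_21_3 lc_g_Cert_tree lc_g_rc_21_2 lc_g_Cert_tree lc_g_rc_21_3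 lc_g_Cert_tree lc_g_Cert_tree lc_g_rc_23_1 lc_g_Cert_tree lc_g_rc_21_2 lc_g_rc_26_3 lc_g_Cert_tree lc_g_Cert_tree lc_g_Cert_tree lc_g_rc_23_1 lc_g_Cert_tree lc_g_rc_21_3 lc_g_Cert_tree lc_g_Cert_tree lc_g_rc_23_7 lc_g_Cert_tree lc_g_rc_21_3 lc_g_rc_23_7 lc_g_rc_21_2 lc_g_Cert_tree lc_g_Cert_tree lc_g_rc_21_2 lc_g_Cert_tree lc_g_rc_21_3 lc_g_rc_21_3 lc_g_Cert_tree lc_g_rc_21_2 lc_g_Cert_tree lc_g_rc_21_2 lc_g_Cert_tree lc_g_rc_23_7 lc_g_rc_21_2 lc_g_rc_24_3) (@D3.rec (fun _ => (Cert rels S Gen.g)) lc_g_rc_21_2 lc_g_rc_21_2 lc_g_rc_21_2 lc_g_rc_24_3 lc_g_Cert_tree lc_g_rc_24_3 lc_g_rc_27_6 lc_g_Cert_tree lc_g_Cert_tree lc_g_rc_23_3 lc_g_rc_21_2 lc_g_rc_21_2 lc_g_Cert_tree lc_g_rc_24_3 lc_g_rc_26_6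 lc_g_Cert_tree lc_g_Cert_tree lc_g_rc_26_3 lc_g_rc_26_6 lc_g_Cert_tree lc_g_rc_21_2 lc_g_Cert_tree lc_g_rc_27_6 lc_g_rc_21_2 lc_g_rc_27_3 lc_g_Cert_tree lc_g_Cert_tree lc_g_rc_26_3 lc_g_Cert_tree lc_g_rc_24_1 lc_g_Cert_tree lc_g_rc_27_6 lc_g_Cert_tree lc_g_Cert_tree lc_g_rc_21_2 lc_g_Cert_tree lc_g_rc_26_0 lc_g_rc_24_7 lc_g_Cert_tree lc_g_rc_21_2 lc_g_rc_21_2 lc_g_Cert_tree lc_g_rc_21_3 lc_g_rc_21_3 lc_g_Cert_tree lc_g_rc_24_9 lc_g_Cert_tree lc_g_Cert_tree lc_g_Cert_tree lc_g_rc_21_3 lc_g_Cert_tree lc_g_rc_27_3 lc_g_rc_26_9 lc_g_rc_23_3 lc_g_rc_21_3 lc_g_rc_23_1 lc_g_rc_23_1 lc_g_Cert_tree lc_g_rc_21_2 lc_g_Cert_tree lc_g_rc_27_6 lc_g_Cert_tree) (@D3.rec (fun _ => (Cert rels S Gen.g)) lc_g_rc_23_7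 lc_g_rc_21_2 lc_g_rc_21_3 lc_g_Cert_tree lc_g_rc_21_2 lc_g_rc_23_7 lc_g_rc_24_3 lc_g_rc_21_3 lc_g_Cert_tree lc_g_rc_21_2 lc_g_rc_23_7 lc_g_Cert_tree lc_g_rc_27_0 lc_g_rc_21_3 lc_g_rc_24_9 lc_g_rc_21_3 lc_g_Cert_tree lc_g_rc_21_2 lc_g_Cert_tree lc_g_Cert_tree lc_g_rc_21_3 lc_g_Cert_tree lc_g_rc_21_2 lc_g_Cert_tree lc_g_Cert_tree lc_g_Cert_tree lc_g_rc_23_3 lc_g_rc_21_2 lc_g_rc_26_6 lc_g_rc_26_9 lc_g_Cert_tree lc_g_rc_23_7 lc_g_rc_21_3 lc_g_rc_26_0 lc_g_rc_21_2 lc_g_rc_23_7 lc_g_rc_27_6 lc_g_Cert_tree lc_g_rc_21_3 lc_g_Cert_tree lc_g_Cert_tree lc_g_Cert_tree lc_g_rc_21_2 lc_g_Cert_tree lc_g_rc_26_6 lc_g_Cert_tree lc_g_rc_26_6 lc_g_rc_27_6 lc_g_Cert_tree lc_g_Cert_tree lc_g_rc_21_3 lc_g_Cert_tree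 lc_g_rc_21_2 lc_g_rc_21_2 lc_g_Cert_tree lc_g_rc_27_3 lc_g_rc_21_2 lc_g_Cert_tree lc_g_rc_21_3 lc_g_Cert_tree lc_g_Cert_tree lc_g_rc_21_2) (@D3.rec (fun _ => (Cert rels S Gen.g)) lc_g_rc_21_3 lc_g_Cert_tree lc_g_Cert_tree lc_g_rc_21_2 lc_g_rc_23_3 lc_g_rc_21_3 lc_g_Cert_tree lc_g_Cert_tree lc_g_rc_21_2 lc_g_rc_21_2 lc_g_Cert_tree lc_g_rc_23_7 lc_g_rc_24_9 lc_g_rc_26_3 lc_g_Cert_tree lc_g_Cert_tree lc_g_rc_24_1 lc_g_Cert_tree lc_g_rc_26_3 lc_g_Cert_tree lc_g_rc_21_3 lc_g_rc_21_3 lc_g_Cert_tree lc_g_rc_21_3 lc_g_Cert_tree lc_g_rc_21_2 lc_g_Cert_tree lc_g_Cert_tree lc_g_rc_27_6 lc_g_rc_21_3 lc_g_Cert_tree lc_g_Cert_tree lc_g_rc_21_2 lc_g_Cert_tree lc_g_Cert_tree lc_g_rc_21_3 lc_g_Cert_tree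 lc_g_Cert_tree lc_g_rc_21_2 lc_g_rc_21_3 lc_g_Cert_tree lc_g_rc_21_2 lc_g_Cert_tree lc_g_rc_21_3 lc_g_Cert_tree lc_g_Cert_tree lc_g_rc_21_2 lc_g_Cert_tree lc_g_rc_21_3 lc_g_Cert_tree lc_g_rc_27_3 lc_g_rc_27_6 lc_g_rc_27_0 lc_g_Cert_tree lc_g_rc_23_9 lc_g_rc_21_2 lc_g_rc_27_6 lc_g_Cert_tree lc_g_rc_21_3 lc_g_Cert_tree lc_g_Cert_tree lc_g_rc_26_6) (@D3.rec (fun _ => (Cert rels S Gen.g)) lc_g_rc_21_3 lc_g_Cert_tree lc_g_rc_21_2 lc_g_Cert_tree lc_g_rc_21_3 lc_g_Cert_tree lc_g_Cert_tree lc_g_rc_21_2 lc_g_rc_21_3 lc_g_Cert_tree lc_g_rc_27_3 lc_g_rc_21_3 lc_g_rc_27_6 lc_g_rc_27_0 lc_g_Cert_tree lc_g_rc_24_7 lc_g_Cert_tree lc_g_rc_23_1 lc_g_rc_27_3 lc_g_rc_21_3 lc_g_Cert_tree lc_g_Cert_tree lc_g_rc_24_1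 lc_g_Cert_tree lc_g_rc_21_3 lc_g_Cert_tree lc_g_Cert_tree lc_g_rc_26_6 lc_g_rc_27_9 lc_g_rc_24_1 lc_g_rc_26_6 lc_g_Cert_tree lc_g_Cert_tree lc_g_rc_26_6 lc_g_rc_21_3 lc_g_Cert_tree lc_g_rc_21_2 lc_g_Cert_tree lc_g_rc_21_3 lc_g_Cert_tree lc_g_Cert_tree lc_g_rc_21_2 lc_g_rc_26_6 lc_g_rc_21_3 lc_g_Cert_tree lc_g_rc_24_7 lc_g_rc_21_3 lc_g_rc_24_9 lc_g_rc_27_0 lc_g_rc_21_3 lc_g_Cert_tree lc_g_Cert_tree lc_g_rc_21_2 lc_g_rc_27_3 lc_g_rc_24_7 lc_g_Cert_tree lc_g_rc_24_3 lc_g_Cert_tree lc_g_rc_27_3 lc_g_rc_24_7 lc_g_rc_24_7 lc_g_Cert_tree) (@D3.rec (fun _ => (Cert rels S Gen.g)) lc_g_rc_21_3 lc_g_Cert_tree lc_g_Cert_tree lc_g_Cert_tree lc_g_rc_21_2 lc_g_Cert_tree lc_g_rc_27_6 lc_g_rc_27_0 lc_g_rc_26_6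 lc_g_rc_27_3 lc_g_rc_26_3 lc_g_rc_21_3 lc_g_Cert_tree lc_g_rc_27_6 lc_g_rc_21_2 lc_g_rc_21_2 lc_g_rc_24_3 lc_g_Cert_tree lc_g_rc_23_9 lc_g_rc_23_3 lc_g_Cert_tree lc_g_rc_21_3 lc_g_Cert_tree lc_g_rc_24_1 lc_g_Cert_tree lc_g_Cert_tree lc_g_rc_23_9 lc_g_Cert_tree lc_g_Cert_tree lc_g_rc_21_2 lc_g_Cert_tree lc_g_rc_21_3 lc_g_Cert_tree lc_g_Cert_tree lc_g_rc_24_3 lc_g_rc_27_6 lc_g_rc_23_9 lc_g_Cert_tree lc_g_rc_23_3 lc_g_Cert_tree lc_g_rc_23_7 lc_g_rc_27_6 lc_g_Cert_tree lc_g_rc_23_7 lc_g_rc_23_7 lc_g_rc_27_6 lc_g_Cert_tree lc_g_Cert_tree lc_g_rc_21_3 lc_g_Cert_tree lc_g_rc_26_6 lc_g_rc_21_3 lc_g_Cert_tree lc_g_rc_21_2 lc_g_Cert_tree lc_g_rc_21_2 lc_g_rc_27_6 lc_g_Cert_tree lc_g_rc_21_2 lc_g_Cert_tree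 lc_g_Cert_tree lc_g_rc_21_2) (@D3.rec (fun _ => (Cert rels S Gen.g)) lc_g_rc_26_6 lc_g_rc_27_9 lc_g_rc_27_3 lc_g_rc_27_0 lc_g_rc_24_3 lc_g_rc_27_6 lc_g_rc_27_3 lc_g_rc_21_2 lc_g_rc_21_3 lc_g_Cert_tree lc_g_rc_21_2 lc_g_rc_26_3 lc_g_Cert_tree lc_g_rc_21_2 lc_g_rc_27_9 lc_g_rc_27_6 lc_g_rc_27_0 lc_g_rc_23_9 lc_g_Cert_tree lc_g_rc_21_3 lc_g_Cert_tree lc_g_Cert_tree lc_g_rc_21_2 lc_g_rc_21_3 lc_g_Cert_tree lc_g_Cert_tree lc_g_rc_21_2 lc_g_rc_21_3 lc_g_Cert_tree lc_g_rc_21_2 lc_g_Cert_tree lc_g_Cert_tree lc_g_rc_21_2 lc_g_rc_24_7 lc_g_rc_27_9 lc_g_rc_23_9 lc_g_rc_21_3 lc_g_rc_24_1 lc_g_rc_27_6 lc_g_rc_21_3 lc_g_Cert_tree lc_g_rc_21_2 lc_g_rc_21_2 lc_g_rc_24_7 lc_g_rc_26_6 lc_g_Cert_tree lc_g_Cert_tree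 lc_g_rc_23_3 lc_g_rc_21_2 lc_g_Cert_tree lc_g_rc_21_3 lc_g_Cert_tree lc_g_rc_21_2 lc_g_Cert_tree lc_g_rc_21_3 lc_g_Cert_tree lc_g_Cert_tree lc_g_rc_21_2 lc_g_rc_26_6 lc_g_rc_21_3 lc_g_Cert_tree lc_g_rc_27_6) (@D3.rec (fun _ => (Cert rels S Gen.g)) lc_g_rc_24_9 lc_g_rc_27_6 lc_g_rc_21_3 lc_g_Cert_tree lc_g_Cert_tree lc_g_rc_21_2 lc_g_rc_21_3 lc_g_Cert_tree lc_g_Cert_tree lc_g_rc_21_2 lc_g_Cert_tree lc_g_rc_21_3 lc_g_Cert_tree lc_g_Cert_tree lc_g_rc_21_2 lc_g_rc_23_1 lc_g_Cert_tree lc_g_rc_27_6 lc_g_rc_27_6 lc_g_rc_24_9 lc_g_rc_21_3 lc_g_rc_21_3 lc_g_Cert_tree lc_g_Cert_tree lc_g_rc_24_9 lc_g_rc_21_3 lc_g_Cert_tree lc_g_rc_21_2 lc_g_Cert_tree lc_g_Cert_tree lc_g_rc_21_2 lc_g_Cert_tree lc_g_rc_23_3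 lc_g_Cert_tree lc_g_Cert_tree lc_g_Cert_tree lc_g_rc_23_3 lc_g_rc_24_1 lc_g_rc_26_9 lc_g_Cert_tree lc_g_rc_23_1 lc_g_rc_21_2 lc_g_rc_21_2 lc_g_Cert_tree lc_g_rc_21_3 lc_g_Cert_tree lc_g_Cert_tree lc_g_Cert_tree lc_g_rc_21_3 lc_g_Cert_tree lc_g_Cert_tree lc_g_rc_21_2 lc_g_rc_21_3 lc_g_Cert_tree lc_g_Cert_tree lc_g_rc_21_2 lc_g_Cert_tree lc_g_Cert_tree lc_g_rc_24_7 lc_g_rc_26_3 lc_g_rc_24_1 lc_g_rc_27_6) (@D3.rec (fun _ => (Cert rels S Gen.g)) lc_g_rc_21_3 lc_g_Cert_tree lc_g_Cert_tree lc_g_rc_21_2 lc_g_Cert_tree lc_g_Cert_tree lc_g_rc_24_7 lc_g_rc_27_0 lc_g_Cert_tree lc_g_Cert_tree lc_g_Cert_tree lc_g_Cert_tree lc_g_rc_27_3 lc_g_rc_27_0 lc_g_Cert_tree lc_g_Cert_tree lc_g_rc_27_0 lc_g_rc_26_6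 lc_g_rc_24_1 lc_g_rc_23_1 lc_g_rc_23_7 lc_g_rc_21_3 lc_g_rc_27_3 lc_g_rc_21_3 lc_g_rc_26_6 lc_g_Cert_tree lc_g_rc_27_3 lc_g_rc_27_6 lc_g_rc_27_9 lc_g_Cert_tree lc_g_rc_21_3 lc_g_Cert_tree lc_g_Cert_tree lc_g_Cert_tree lc_g_rc_21_2 lc_g_rc_21_2 lc_g_rc_26_6 lc_g_rc_24_7 lc_g_Cert_tree lc_g_rc_23_1 lc_g_Cert_tree lc_g_Cert_tree lc_g_rc_21_3 lc_g_Cert_tree lc_g_rc_21_3 lc_g_Cert_tree lc_g_rc_21_2 lc_g_rc_21_2 lc_g_rc_27_3 lc_g_Cert_tree lc_g_rc_24_7 lc_g_rc_27_6 lc_g_Cert_tree lc_g_rc_21_3 lc_g_rc_21_3 lc_g_Cert_tree lc_g_rc_21_2 lc_g_Cert_tree lc_g_Cert_tree lc_g_rc_21_2 lc_g_Cert_tree lc_g_Cert_tree) (@D3.rec (fun _ => (Cert rels S Gen.g)) lc_g_rc_24_1 lc_g_Cert_tree lc_g_rc_27_9 lc_g_Cert_tree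 lc_g_rc_27_6 lc_g_Cert_tree lc_g_rc_23_7 lc_g_rc_21_2 lc_g_Cert_tree lc_g_rc_23_7 lc_g_rc_24_7 lc_g_Cert_tree lc_g_Cert_tree lc_g_rc_26_3 lc_g_Cert_tree lc_g_rc_26_6 lc_g_rc_21_3 lc_g_Cert_tree lc_g_Cert_tree lc_g_Cert_tree lc_g_rc_21_3 lc_g_Cert_tree lc_g_rc_21_3 lc_g_rc_26_3 lc_g_rc_23_3 lc_g_Cert_tree lc_g_rc_21_2 lc_g_rc_26_9 lc_g_Cert_tree lc_g_rc_23_3 lc_g_rc_21_3 lc_g_Cert_tree lc_g_rc_21_2 lc_g_Cert_tree lc_g_rc_21_3 lc_g_Cert_tree lc_g_Cert_tree lc_g_rc_21_2 lc_g_rc_23_1 lc_g_rc_27_9 lc_g_rc_27_9 lc_g_rc_26_6 lc_g_rc_27_6 lc_g_rc_24_1 lc_g_rc_27_3 lc_g_rc_21_3 lc_g_Cert_tree lc_g_Cert_tree lc_g_rc_27_9 lc_g_Cert_tree lc_g_rc_24_3 lc_g_rc_24_3 lc_g_Cert_tree lc_g_rc_21_3 lc_g_rc_21_2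 lc_g_rc_26_6 lc_g_Cert_tree lc_g_Cert_tree lc_g_rc_24_9 lc_g_Cert_tree lc_g_rc_27_6 lc_g_Cert_tree) (@D3.rec (fun _ => (Cert rels S Gen.g)) lc_g_Cert_tree lc_g_rc_23_1 lc_g_Cert_tree lc_g_rc_21_3 lc_g_rc_21_2 lc_g_Cert_tree lc_g_rc_23_9 lc_g_rc_21_2 lc_g_rc_27_9 lc_g_rc_24_3 lc_g_Cert_tree lc_g_rc_21_2 lc_g_rc_24_3 lc_g_rc_23_9 lc_g_Cert_tree lc_g_Cert_tree lc_g_Cert_tree lc_g_rc_21_2 lc_g_rc_24_7 lc_g_Cert_tree lc_g_Cert_tree lc_g_rc_21_2 lc_g_rc_21_3 lc_g_Cert_tree lc_g_rc_21_2 lc_g_Cert_tree lc_g_rc_21_2 lc_g_rc_21_2 lc_g_Cert_tree lc_g_rc_23_7 lc_g_rc_21_3 lc_g_Cert_tree lc_g_rc_24_1 lc_g_rc_21_3 lc_g_Cert_tree lc_g_rc_21_2 lc_g_Cert_tree lc_g_Cert_tree lc_g_rc_24_1 lc_g_Cert_tree lc_g_rc_21_3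 lc_g_Cert_tree lc_g_rc_27_3 lc_g_rc_21_2 lc_g_Cert_tree lc_g_rc_23_1 lc_g_rc_21_2 lc_g_rc_24_7 lc_g_Cert_tree lc_g_Cert_tree lc_g_rc_27_6 lc_g_rc_26_0 lc_g_Cert_tree lc_g_rc_21_2 lc_g_rc_21_3 lc_g_Cert_tree lc_g_rc_21_2 lc_g_Cert_tree lc_g_Cert_tree lc_g_Cert_tree lc_g_rc_21_3 lc_g_Cert_tree) (@D3.rec (fun _ => (Cert rels S Gen.g)) lc_g_rc_23_3 lc_g_rc_21_2 lc_g_Cert_tree lc_g_rc_21_3 lc_g_Cert_tree lc_g_rc_26_9 lc_g_Cert_tree lc_g_rc_24_1 lc_g_Cert_tree lc_g_Cert_tree lc_g_rc_21_3 lc_g_Cert_tree lc_g_rc_26_9 lc_g_Cert_tree lc_g_Cert_tree lc_g_rc_27_6 lc_g_Cert_tree lc_g_rc_23_9 lc_g_rc_27_6 lc_g_rc_21_3 lc_g_Cert_tree lc_g_rc_21_2 lc_g_Cert_tree lc_g_Cert_tree lc_g_rc_21_3 lc_g_Cert_tree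 lc_g_rc_21_2 lc_g_Cert_tree lc_g_Cert_tree lc_g_rc_21_2 lc_g_Cert_tree lc_g_rc_23_7 lc_g_rc_21_2 lc_g_rc_26_6 lc_g_rc_21_2 lc_g_Cert_tree lc_g_rc_24_1 lc_g_rc_26_9 lc_g_rc_26_9 lc_g_rc_26_6 lc_g_rc_26_6 lc_g_rc_27_6 lc_g_Cert_tree lc_g_rc_21_3 lc_g_Cert_tree lc_g_Cert_tree lc_g_Cert_tree lc_g_rc_21_2 lc_g_Cert_tree lc_g_rc_26_6 lc_g_Cert_tree lc_g_rc_26_6 lc_g_Cert_tree lc_g_Cert_tree lc_g_Cert_tree lc_g_rc_21_3 lc_g_Cert_tree lc_g_rc_21_2 lc_g_Cert_tree lc_g_rc_27_6 lc_g_Cert_tree lc_g_rc_27_3) (@D3.rec (fun _ => (Cert rels S Gen.g)) lc_g_Cert_tree lc_g_rc_23_3 lc_g_rc_21_2 lc_g_rc_21_3 lc_g_rc_23_1 lc_g_Cert_tree lc_g_rc_24_1 lc_g_rc_24_1 lc_g_Cert_tree lc_g_rc_21_2 lc_g_Cert_tree lc_g_rc_21_2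 lc_g_rc_27_3 lc_g_Cert_tree lc_g_Cert_tree lc_g_Cert_tree lc_g_rc_21_2 lc_g_Cert_tree lc_g_rc_26_6 lc_g_rc_23_3 lc_g_Cert_tree lc_g_rc_23_3 lc_g_rc_27_6 lc_g_rc_21_3 lc_g_Cert_tree lc_g_rc_21_2 lc_g_Cert_tree lc_g_Cert_tree lc_g_rc_23_1 lc_g_Cert_tree lc_g_rc_21_2 lc_g_rc_26_3 lc_g_Cert_tree lc_g_rc_21_2 lc_g_Cert_tree lc_g_rc_27_3 lc_g_rc_21_2 lc_g_rc_24_7 lc_g_Cert_tree lc_g_rc_26_3 lc_g_rc_27_6 lc_g_rc_23_3 lc_g_rc_21_2 lc_g_rc_24_3 lc_g_rc_26_0 lc_g_Cert_tree lc_g_rc_23_7 lc_g_rc_26_3 lc_g_Cert_tree lc_g_rc_23_1 lc_g_rc_26_6 lc_g_rc_26_3 lc_g_rc_21_2 lc_g_rc_21_3 lc_g_Cert_tree lc_g_Cert_tree lc_g_Cert_tree lc_g_Cert_tree lc_g_rc_21_3 lc_g_Cert_tree lc_g_rc_21_2 lc_g_rc_27_3) (@D3.rec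 (fun _ => (Cert rels S Gen.g)) lc_g_rc_21_2 lc_g_rc_26_9 lc_g_rc_21_2 lc_g_Cert_tree lc_g_Cert_tree lc_g_rc_21_3 lc_g_rc_21_2 lc_g_rc_21_2 lc_g_rc_21_3 lc_g_rc_21_2 lc_g_rc_21_3 lc_g_Cert_tree lc_g_Cert_tree lc_g_Cert_tree lc_g_rc_21_2 lc_g_Cert_tree lc_g_rc_23_9 lc_g_Cert_tree lc_g_rc_21_3 lc_g_Cert_tree lc_g_rc_21_2 lc_g_rc_21_2 lc_g_rc_21_2 lc_g_rc_21_3 lc_g_Cert_tree lc_g_rc_21_2 lc_g_rc_26_6 lc_g_Cert_tree lc_g_rc_23_7 lc_g_rc_26_0 lc_g_rc_24_3 lc_g_rc_21_3 lc_g_Cert_tree lc_g_rc_26_0 lc_g_rc_26_3 lc_g_rc_26_6 lc_g_rc_21_2 lc_g_Cert_tree lc_g_rc_21_3 lc_g_Cert_tree lc_g_Cert_tree lc_g_Cert_tree lc_g_rc_21_3 lc_g_Cert_tree lc_g_rc_27_3 lc_g_rc_21_2 lc_g_rc_21_3 lc_g_Cert_tree lc_g_rc_21_3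 lc_g_rc_21_2 lc_g_Cert_tree lc_g_rc_21_3 lc_g_rc_21_3 lc_g_rc_26_3 lc_g_rc_27_3 lc_g_rc_21_3 lc_g_rc_23_9 lc_g_rc_26_3 lc_g_rc_24_9 lc_g_rc_26_0 lc_g_Cert_tree lc_g_rc_21_3) (@D3.rec (fun _ => (Cert rels S Gen.g)) lc_g_Cert_tree lc_g_rc_21_3 lc_g_rc_26_6 lc_g_rc_26_3 lc_g_rc_21_2 lc_g_rc_27_6 lc_g_rc_21_3 lc_g_Cert_tree lc_g_Cert_tree lc_g_Cert_tree lc_g_Cert_tree lc_g_Cert_tree lc_g_rc_26_3 lc_g_rc_21_3 lc_g_Cert_tree lc_g_rc_27_6 lc_g_rc_21_2 lc_g_rc_23_7 lc_g_rc_23_3 lc_g_rc_26_6 lc_g_rc_26_3 lc_g_rc_27_6 lc_g_rc_26_0 lc_g_rc_21_3 lc_g_rc_21_2 lc_g_Cert_tree lc_g_Cert_tree lc_g_Cert_tree lc_g_rc_21_2 lc_g_rc_26_6 lc_g_Cert_tree lc_g_rc_21_3 lc_g_rc_26_3 lc_g_rc_21_2 lc_g_rc_21_2 lc_g_Cert_tree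 lc_g_Cert_tree lc_g_rc_21_3 lc_g_Cert_tree lc_g_rc_24_9 lc_g_Cert_tree lc_g_rc_21_3 lc_g_rc_26_9 lc_g_rc_25_3 lc_g_rc_27_6 lc_g_rc_26_0 lc_g_rc_26_9 lc_g_rc_24_1 lc_g_rc_21_2 lc_g_rc_21_3 lc_g_Cert_tree lc_g_Cert_tree lc_g_Cert_tree lc_g_rc_21_3 lc_g_Cert_tree lc_g_rc_21_2 lc_g_Cert_tree lc_g_rc_23_1 lc_g_Cert_tree lc_g_rc_26_3 lc_g_rc_26_6 lc_g_rc_26_6) (@D3.rec (fun _ => (Cert rels S Gen.g)) lc_g_rc_21_2 lc_g_rc_21_2 lc_g_rc_21_2 lc_g_rc_21_3 lc_g_Cert_tree lc_g_Cert_tree lc_g_Cert_tree lc_g_rc_21_3 lc_g_Cert_tree lc_g_Cert_tree lc_g_Cert_tree lc_g_rc_21_3 lc_g_Cert_tree lc_g_rc_21_2 lc_g_rc_27_6 lc_g_rc_21_2 lc_g_rc_23_1 lc_g_Cert_tree lc_g_rc_26_6 lc_g_rc_26_3 lc_g_rc_24_1 lc_g_rc_21_2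 lc_g_rc_21_3 lc_g_Cert_tree lc_g_rc_26_6 lc_g_Cert_tree lc_g_rc_21_2 lc_g_Cert_tree lc_g_Cert_tree lc_g_rc_21_2 lc_g_rc_26_0 lc_g_rc_26_6 lc_g_rc_26_0 lc_g_rc_21_3 lc_g_rc_21_2 lc_g_Cert_tree lc_g_rc_23_1 lc_g_rc_27_0 lc_g_Cert_tree lc_g_rc_21_3 lc_g_Cert_tree lc_g_Cert_tree lc_g_Cert_tree lc_g_rc_24_1 lc_g_Cert_tree lc_g_Cert_tree lc_g_rc_26_6 lc_g_rc_23_1 lc_g_rc_27_6 lc_g_rc_21_3 lc_g_Cert_tree lc_g_Cert_tree lc_g_Cert_tree lc_g_Cert_tree lc_g_rc_21_2 lc_g_rc_21_3 lc_g_Cert_tree lc_g_rc_21_2 lc_g_Cert_tree lc_g_rc_21_3 lc_g_Cert_tree lc_g_rc_21_2) (@D3.rec (fun _ => (Cert rels S Gen.g)) lc_g_rc_24_9 lc_g_Cert_tree lc_g_Cert_tree lc_g_rc_21_3 lc_g_Cert_tree lc_g_rc_21_2 lc_g_rc_21_2 lc_g_Cert_tree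 lc_g_Cert_tree lc_g_Cert_tree lc_g_Cert_tree lc_g_rc_21_2 lc_g_rc_21_3 lc_g_Cert_tree lc_g_rc_21_2 lc_g_Cert_tree lc_g_rc_21_3 lc_g_Cert_tree lc_g_Cert_tree lc_g_rc_21_2 lc_g_Cert_tree lc_g_rc_26_9 lc_g_rc_27_9 lc_g_rc_21_2 lc_g_rc_23_9 lc_g_rc_26_9 lc_g_Cert_tree lc_g_rc_21_3 lc_g_Cert_tree lc_g_rc_26_9 lc_g_Cert_tree lc_g_rc_26_9 lc_g_rc_23_7 lc_g_Cert_tree lc_g_rc_21_3 lc_g_Cert_tree lc_g_rc_21_2 lc_g_rc_27_9 lc_g_rc_24_1 lc_g_Cert_tree lc_g_rc_21_3 lc_g_Cert_tree lc_g_rc_21_2 lc_g_Cert_tree lc_g_Cert_tree lc_g_rc_24_7 lc_g_rc_27_9 lc_g_rc_27_3 lc_g_rc_26_6 lc_g_rc_24_1 lc_g_rc_27_6 lc_g_rc_21_3 lc_g_Cert_tree lc_g_rc_24_9 lc_g_rc_21_2 lc_g_Cert_tree lc_g_rc_23_3 lc_g_Cert_tree lc_g_rc_21_3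 lc_g_Cert_tree lc_g_rc_21_2 lc_g_rc_21_3) (@D3.rec (fun _ => (Cert rels S Gen.g)) lc_g_rc_26_3 lc_g_rc_21_2 lc_g_Cert_tree lc_g_rc_24_9 lc_g_rc_27_3 lc_g_rc_23_9 lc_g_Cert_tree lc_g_rc_24_9 lc_g_rc_21_2 lc_g_rc_26_0 lc_g_rc_27_3 lc_g_rc_26_9 lc_g_rc_21_3 lc_g_Cert_tree lc_g_rc_21_2 lc_g_rc_21_3 lc_g_Cert_tree lc_g_Cert_tree lc_g_rc_21_2 lc_g_Cert_tree lc_g_rc_21_3 lc_g_Cert_tree lc_g_Cert_tree lc_g_rc_21_2 lc_g_rc_21_2 lc_g_rc_24_1 lc_g_rc_26_3 lc_g_Cert_tree lc_g_Cert_tree lc_g_rc_21_3 lc_g_Cert_tree lc_g_Cert_tree lc_g_rc_26_3 lc_g_rc_26_3 lc_g_Cert_tree lc_g_rc_27_6 lc_g_rc_27_6 lc_g_rc_24_1 lc_g_Cert_tree lc_g_rc_21_3 lc_g_Cert_tree lc_g_Cert_tree lc_g_rc_21_2 lc_g_rc_21_3 lc_g_Cert_tree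 lc_g_rc_21_2 lc_g_Cert_tree lc_g_Cert_tree lc_g_rc_21_2 lc_g_rc_27_6 lc_g_Cert_tree lc_g_rc_27_9 lc_g_rc_23_3 lc_g_rc_26_6 lc_g_rc_21_3 lc_g_Cert_tree lc_g_rc_27_6 lc_g_rc_21_2 lc_g_rc_21_3 lc_g_Cert_tree lc_g_rc_26_9 lc_g_Cert_tree) (@D3.rec (fun _ => (Cert rels S Gen.g)) lc_g_rc_21_3 lc_g_Cert_tree lc_g_Cert_tree lc_g_rc_21_2 lc_g_Cert_tree lc_g_rc_27_9 lc_g_rc_23_7 lc_g_rc_26_6 lc_g_rc_21_3 lc_g_Cert_tree lc_g_rc_27_6 lc_g_rc_21_2 lc_g_Cert_tree lc_g_Cert_tree lc_g_rc_26_0 lc_g_rc_23_1 lc_g_rc_21_2 lc_g_Cert_tree lc_g_rc_21_3 lc_g_Cert_tree lc_g_Cert_tree lc_g_rc_21_2 lc_g_Cert_tree lc_g_rc_27_9 lc_g_rc_24_3 lc_g_rc_27_6 lc_g_rc_23_7 lc_g_rc_23_9 lc_g_rc_21_3 lc_g_Cert_tree lc_g_Cert_tree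 lc_g_rc_23_3 lc_g_rc_21_2 lc_g_Cert_tree lc_g_Cert_tree lc_g_Cert_tree lc_g_Cert_tree lc_g_rc_24_7 lc_g_rc_27_3 lc_g_Cert_tree lc_g_rc_27_0 lc_g_Cert_tree lc_g_rc_27_3 lc_g_rc_26_0 lc_g_rc_26_6 lc_g_rc_24_1 lc_g_Cert_tree lc_g_rc_23_9 lc_g_rc_26_6 lc_g_rc_27_0 lc_g_rc_21_2 lc_g_rc_26_0 lc_g_rc_26_3 lc_g_Cert_tree lc_g_rc_27_6 lc_g_rc_21_2 lc_g_rc_21_3 lc_g_Cert_tree lc_g_rc_26_3 lc_g_rc_26_3 lc_g_Cert_tree lc_g_Cert_tree) (@D3.rec (fun _ => (Cert rels S Gen.g)) lc_g_rc_21_3 lc_g_Cert_tree lc_g_rc_26_3 lc_g_rc_26_6 lc_g_Cert_tree lc_g_Cert_tree lc_g_rc_24_1 lc_g_rc_26_3 lc_g_Cert_tree lc_g_rc_21_3 lc_g_Cert_tree lc_g_Cert_tree lc_g_rc_21_2 lc_g_Cert_tree lc_g_Cert_tree lc_g_rc_24_3 lc_g_rc_21_3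 lc_g_rc_24_1 lc_g_Cert_tree lc_g_rc_21_3 lc_g_Cert_tree lc_g_Cert_tree lc_g_rc_21_2 lc_g_Cert_tree lc_g_rc_23_3 lc_g_rc_24_7 lc_g_rc_27_3 lc_g_rc_24_1 lc_g_rc_27_0 lc_g_Cert_tree lc_g_rc_27_3 lc_g_rc_26_0 lc_g_rc_21_3 lc_g_rc_24_1 lc_g_Cert_tree lc_g_rc_27_6 lc_g_rc_23_7 lc_g_rc_24_7 lc_g_rc_23_1 lc_g_rc_21_3 lc_g_rc_27_0 lc_g_rc_26_0 lc_g_Cert_tree lc_g_rc_21_3 lc_g_Cert_tree lc_g_rc_26_0 lc_g_rc_26_0 lc_g_rc_26_9 lc_g_Cert_tree lc_g_rc_26_6 lc_g_rc_21_2 lc_g_rc_24_1 lc_g_rc_26_3 lc_g_rc_26_0 lc_g_rc_23_3 lc_g_rc_26_3 lc_g_rc_21_3 lc_g_rc_24_3 lc_g_rc_26_6 lc_g_Cert_tree lc_g_rc_26_0 lc_g_rc_21_3) (@D3.rec (fun _ => (Cert rels S Gen.g)) lc_g_Cert_tree lc_g_Cert_tree lc_g_rc_21_2 lc_g_rc_24_7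 lc_g_rc_26_6 lc_g_rc_23_9 lc_g_rc_26_3 lc_g_rc_24_1 lc_g_rc_27_0 lc_g_rc_21_3 lc_g_Cert_tree lc_g_Cert_tree lc_g_rc_26_6 lc_g_Cert_tree lc_g_rc_27_0 lc_g_rc_26_9 lc_g_Cert_tree lc_g_rc_26_3 lc_g_rc_26_9 lc_g_rc_21_3 lc_g_Cert_tree lc_g_rc_26_3 lc_g_Cert_tree lc_g_Cert_tree lc_g_rc_21_2 lc_g_rc_26_3 lc_g_Cert_tree lc_g_rc_26_6 lc_g_Cert_tree lc_g_rc_21_2 lc_g_rc_26_3 lc_g_rc_21_3 lc_g_Cert_tree lc_g_Cert_tree lc_g_rc_21_2 lc_g_rc_26_3 lc_g_rc_27_9 lc_g_rc_24_7 lc_g_rc_27_6 lc_g_rc_24_1 lc_g_rc_27_6 lc_g_rc_21_3 lc_g_Cert_tree lc_g_Cert_tree lc_g_rc_21_2 lc_g_rc_23_7 lc_g_rc_26_6 lc_g_rc_23_3 lc_g_rc_23_9 lc_g_rc_27_0 lc_g_Cert_tree lc_g_rc_24_9 lc_g_Cert_tree lc_g_Cert_tree lc_g_rc_21_2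 lc_g_rc_27_6 lc_g_rc_24_9 lc_g_rc_23_1 lc_g_rc_24_1 lc_g_rc_27_3 lc_g_rc_26_6 lc_g_rc_24_7) (@D3.rec (fun _ => (Cert rels S Gen.g)) lc_g_rc_21_3 lc_g_Cert_tree lc_g_rc_26_9 lc_g_Cert_tree lc_g_rc_21_3 lc_g_Cert_tree lc_g_Cert_tree lc_g_Cert_tree lc_g_rc_21_2 lc_g_rc_21_2 lc_g_rc_24_3 lc_g_Cert_tree lc_g_rc_26_9 lc_g_rc_21_3 lc_g_rc_23_1 lc_g_rc_23_1 lc_g_Cert_tree lc_g_rc_21_2 lc_g_Cert_tree lc_g_rc_24_7 lc_g_rc_27_6 lc_g_rc_23_1 lc_g_Cert_tree lc_g_rc_21_2 lc_g_rc_26_3 lc_g_Cert_tree lc_g_rc_23_3 lc_g_Cert_tree lc_g_rc_23_7 lc_g_Cert_tree lc_g_rc_27_3 lc_g_Cert_tree lc_g_rc_21_2 lc_g_Cert_tree lc_g_rc_23_7 lc_g_rc_21_2 lc_g_Cert_tree lc_g_rc_23_3 lc_g_rc_24_7 lc_g_Cert_tree lc_g_Cert_tree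 lc_g_rc_24_7 lc_g_Cert_tree lc_g_rc_24_7 lc_g_rc_21_3 lc_g_Cert_tree lc_g_Cert_tree lc_g_Cert_tree lc_g_rc_21_3 lc_g_Cert_tree lc_g_rc_26_3 lc_g_rc_26_0 lc_g_rc_27_9 lc_g_rc_24_1 lc_g_rc_27_6 lc_g_rc_27_6 lc_g_rc_21_2 lc_g_Cert_tree lc_g_rc_21_2 lc_g_rc_21_3 lc_g_Cert_tree lc_g_rc_21_2) (@D3.rec (fun _ => (Cert rels S Gen.g)) lc_g_Cert_tree lc_g_rc_21_2 lc_g_Cert_tree lc_g_Cert_tree lc_g_Cert_tree lc_g_rc_21_2 lc_g_rc_24_1 lc_g_Cert_tree lc_g_rc_21_2 lc_g_Cert_tree lc_g_rc_21_3 lc_g_Cert_tree lc_g_rc_21_2 lc_g_Cert_tree lc_g_Cert_tree lc_g_Cert_tree lc_g_rc_21_3 lc_g_Cert_tree lc_g_rc_27_3 lc_g_rc_21_2 lc_g_rc_23_1 lc_g_rc_24_7 lc_g_Cert_tree lc_g_rc_26_3 lc_g_Cert_tree lc_g_Cert_tree lc_g_rc_27_6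 lc_g_rc_27_0 lc_g_Cert_tree lc_g_rc_21_2 lc_g_rc_21_3 lc_g_Cert_tree lc_g_rc_21_2 lc_g_Cert_tree lc_g_rc_26_0 lc_g_Cert_tree lc_g_rc_23_7 lc_g_rc_21_2 lc_g_rc_21_3 lc_g_Cert_tree lc_g_rc_27_0 lc_g_rc_23_7 lc_g_Cert_tree lc_g_rc_21_3 lc_g_Cert_tree lc_g_rc_21_2 lc_g_rc_26_6 lc_g_Cert_tree lc_g_rc_23_3 lc_g_rc_24_1 lc_g_rc_21_3 lc_g_Cert_tree lc_g_rc_21_2 lc_g_Cert_tree lc_g_Cert_tree lc_g_Cert_tree lc_g_rc_27_3 lc_g_rc_21_2 lc_g_rc_21_2 lc_g_rc_21_2 lc_g_Cert_tree lc_g_rc_24_1) (@D3.rec (fun _ => (Cert rels S Gen.g)) lc_g_rc_21_3 lc_g_rc_26_3 lc_g_rc_26_6 lc_g_rc_21_3 lc_g_rc_27_6 lc_g_Cert_tree lc_g_rc_21_3 lc_g_Cert_tree lc_g_Cert_tree lc_g_Cert_tree lc_g_rc_21_2 lc_g_Cert_tree lc_g_rc_23_7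 lc_g_Cert_tree lc_g_rc_23_7 lc_g_Cert_tree lc_g_Cert_tree lc_g_Cert_tree lc_g_rc_21_3 lc_g_Cert_tree lc_g_rc_21_2 lc_g_Cert_tree lc_g_Cert_tree lc_g_rc_27_3 lc_g_Cert_tree lc_g_rc_21_2 lc_g_Cert_tree lc_g_rc_21_3 lc_g_Cert_tree lc_g_Cert_tree lc_g_rc_21_2 lc_g_rc_21_3 lc_g_Cert_tree lc_g_rc_21_2 lc_g_rc_21_2 lc_g_rc_26_3 lc_g_rc_27_9 lc_g_rc_27_6 lc_g_rc_27_6 lc_g_Cert_tree lc_g_rc_27_0 lc_g_rc_23_9 lc_g_rc_21_2 lc_g_rc_24_1 lc_g_rc_26_9 lc_g_rc_21_2 lc_g_rc_21_2 lc_g_rc_27_9 lc_g_rc_23_9 lc_g_rc_24_1 lc_g_rc_23_1 lc_g_Cert_tree lc_g_rc_26_9 lc_g_rc_21_3 lc_g_Cert_tree lc_g_rc_21_2 lc_g_rc_21_2 lc_g_rc_24_7 lc_g_Cert_tree lc_g_rc_24_3 lc_g_rc_23_9 lc_g_rc_26_0) (@D3.rec (fun _ => (Cert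 rels S Gen.g)) lc_g_rc_21_3 lc_g_Cert_tree lc_g_Cert_tree lc_g_rc_26_0 lc_g_rc_27_9 lc_g_rc_24_1 lc_g_rc_21_3 lc_g_rc_21_3 lc_g_rc_23_3 lc_g_rc_27_9 lc_g_rc_24_1 lc_g_rc_26_9 lc_g_rc_21_3 lc_g_rc_23_3 lc_g_rc_25_19 lc_g_rc_23_1 lc_g_Cert_tree lc_g_rc_26_6 lc_g_rc_26_3 lc_g_Cert_tree lc_g_rc_21_3 lc_g_Cert_tree lc_g_Cert_tree lc_g_rc_21_2 lc_g_rc_21_3 lc_g_Cert_tree lc_g_rc_24_9 lc_g_rc_21_2 lc_g_Cert_tree lc_g_Cert_tree lc_g_Cert_tree lc_g_rc_24_9 lc_g_rc_27_6 lc_g_rc_24_3 lc_g_rc_26_3 lc_g_Cert_tree lc_g_rc_27_6 lc_g_rc_24_9 lc_g_rc_24_7 lc_g_Cert_tree lc_g_rc_21_3 lc_g_rc_27_3 lc_g_Cert_tree lc_g_rc_23_3 lc_g_rc_21_2 lc_g_rc_21_2 lc_g_rc_26_3 lc_g_Cert_tree lc_g_rc_27_3 lc_g_Cert_tree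 lc_g_rc_27_0 lc_g_Cert_tree lc_g_Cert_tree lc_g_rc_21_3 lc_g_Cert_tree lc_g_rc_26_6 lc_g_Cert_tree lc_g_rc_23_3 lc_g_rc_27_6 lc_g_rc_21_3 lc_g_Cert_tree lc_g_rc_26_6) (@D3.rec (fun _ => (Cert rels S Gen.g)) lc_g_rc_27_6 lc_g_rc_26_0 lc_g_rc_27_0 lc_g_Cert_tree lc_g_rc_21_3 lc_g_Cert_tree lc_g_Cert_tree lc_g_rc_21_2 lc_g_rc_26_6 lc_g_Cert_tree lc_g_rc_27_6 lc_g_rc_23_3 lc_g_rc_27_6 lc_g_rc_21_3 lc_g_Cert_tree lc_g_Cert_tree lc_g_rc_21_2 lc_g_rc_26_3 lc_g_Cert_tree lc_g_rc_26_0 lc_g_Cert_tree lc_g_rc_27_0 lc_g_Cert_tree lc_g_Cert_tree lc_g_rc_24_1 lc_g_rc_24_1 lc_g_rc_21_3 lc_g_rc_27_6 lc_g_rc_23_9 lc_g_rc_26_6 lc_g_rc_24_7 lc_g_rc_23_9 lc_g_rc_23_1 lc_g_rc_27_3 lc_g_rc_21_3 lc_g_Cert_tree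 lc_g_Cert_tree lc_g_Cert_tree lc_g_rc_21_2 lc_g_rc_27_9 lc_g_rc_26_6 lc_g_rc_27_3 lc_g_rc_21_3 lc_g_rc_21_3 lc_g_Cert_tree lc_g_rc_27_0 lc_g_rc_21_2 lc_g_rc_21_3 lc_g_Cert_tree lc_g_Cert_tree lc_g_rc_21_2 lc_g_Cert_tree lc_g_Cert_tree lc_g_rc_26_6 lc_g_rc_23_3 lc_g_rc_21_3 lc_g_rc_21_3 lc_g_Cert_tree lc_g_Cert_tree lc_g_rc_21_2 lc_g_rc_26_3 lc_g_Cert_tree) (@D3.rec (fun _ => (Cert rels S Gen.g)) lc_g_rc_27_0 lc_g_Cert_tree lc_g_Cert_tree lc_g_rc_26_0 lc_g_Cert_tree lc_g_rc_24_3 lc_g_rc_21_3 lc_g_rc_24_1 lc_g_rc_27_0 lc_g_rc_24_9 lc_g_rc_23_9 lc_g_rc_24_7 lc_g_rc_24_1 lc_g_rc_26_6 lc_g_rc_23_1 lc_g_rc_27_3 lc_g_rc_21_3 lc_g_Cert_tree lc_g_Cert_tree lc_g_Cert_tree lc_g_rc_21_2 lc_g_rc_24_7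 lc_g_rc_27_6 lc_g_rc_26_3 lc_g_rc_23_1 lc_g_rc_24_9 lc_g_Cert_tree lc_g_rc_21_3 lc_g_Cert_tree lc_g_Cert_tree lc_g_rc_21_2 lc_g_rc_21_3 lc_g_Cert_tree lc_g_rc_21_2 lc_g_rc_21_2 lc_g_rc_25_19 lc_g_rc_26_3 lc_g_rc_26_3 lc_g_Cert_tree lc_g_rc_24_7 lc_g_Cert_tree lc_g_Cert_tree lc_g_rc_21_3 lc_g_Cert_tree lc_g_Cert_tree lc_g_rc_21_2 lc_g_rc_21_3 lc_g_Cert_tree lc_g_rc_21_2 lc_g_rc_21_2 lc_g_Cert_tree lc_g_Cert_tree lc_g_rc_21_3 lc_g_Cert_tree lc_g_rc_21_2 lc_g_rc_26_0 lc_g_Cert_tree lc_g_rc_21_2 lc_g_rc_26_9 lc_g_rc_21_2 lc_g_rc_21_3 lc_g_Cert_tree) (@D3.rec (fun _ => (Cert rels S Gen.g)) lc_g_Cert_tree lc_g_rc_21_2 lc_g_rc_21_3 lc_g_rc_26_6 lc_g_rc_21_3 lc_g_Cert_tree lc_g_rc_21_3 lc_g_Cert_tree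 lc_g_Cert_tree lc_g_rc_21_2 lc_g_Cert_tree lc_g_Cert_tree lc_g_Cert_tree lc_g_rc_24_1 lc_g_rc_26_6 lc_g_rc_21_3 lc_g_rc_24_1 lc_g_rc_23_9 lc_g_rc_21_3 lc_g_Cert_tree lc_g_Cert_tree lc_g_rc_21_2 lc_g_rc_26_3 lc_g_rc_23_7 lc_g_rc_23_1 lc_g_rc_26_0 lc_g_rc_24_1 lc_g_rc_27_6 lc_g_rc_21_3 lc_g_Cert_tree lc_g_Cert_tree lc_g_rc_21_2 lc_g_rc_21_2 lc_g_rc_27_0 lc_g_Cert_tree lc_g_Cert_tree lc_g_rc_23_9 lc_g_Cert_tree lc_g_Cert_tree lc_g_Cert_tree lc_g_Cert_tree lc_g_rc_24_1 lc_g_Cert_tree lc_g_rc_21_2 lc_g_rc_27_6 lc_g_Cert_tree lc_g_Cert_tree lc_g_rc_24_1 lc_g_Cert_tree lc_g_rc_27_3 lc_g_rc_27_0 lc_g_rc_21_3 lc_g_Cert_tree lc_g_rc_26_3 lc_g_Cert_tree lc_g_rc_26_6 lc_g_rc_24_7 lc_g_Cert_tree lc_g_rc_21_3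 lc_g_Cert_tree lc_g_Cert_tree lc_g_Cert_tree) (@D3.rec (fun _ => (Cert rels S Gen.g)) lc_g_rc_21_2 lc_g_Cert_tree lc_g_rc_26_6 lc_g_rc_21_2 lc_g_Cert_tree lc_g_Cert_tree lc_g_rc_23_9 lc_g_Cert_tree lc_g_rc_24_1 lc_g_Cert_tree lc_g_Cert_tree lc_g_rc_27_3 lc_g_rc_26_0 lc_g_rc_26_6 lc_g_rc_24_7 lc_g_rc_23_1 lc_g_rc_24_3 lc_g_Cert_tree lc_g_Cert_tree lc_g_rc_21_3 lc_g_Cert_tree lc_g_rc_27_3 lc_g_Cert_tree lc_g_rc_27_6 lc_g_rc_24_7 lc_g_rc_24_1 lc_g_rc_26_0 lc_g_Cert_tree lc_g_rc_27_9 lc_g_rc_26_6 lc_g_rc_27_3 lc_g_Cert_tree lc_g_Cert_tree lc_g_Cert_tree lc_g_rc_24_9 lc_g_Cert_tree lc_g_rc_27_3 lc_g_rc_26_0 lc_g_rc_23_9 lc_g_rc_23_3 lc_g_rc_21_3 lc_g_Cert_tree lc_g_Cert_tree lc_g_Cert_tree lc_g_rc_26_3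 lc_g_rc_21_3 lc_g_Cert_tree lc_g_rc_21_3 lc_g_rc_21_2 lc_g_rc_26_3 lc_g_rc_27_9 lc_g_Cert_tree lc_g_rc_26_0 lc_g_rc_24_3 lc_g_Cert_tree lc_g_rc_23_1 lc_g_rc_21_3 lc_g_rc_27_0 lc_g_rc_21_2 lc_g_Cert_tree lc_g_Cert_tree lc_g_rc_21_2) (@D3.rec (fun _ => (Cert rels S Gen.g)) lc_g_Cert_tree lc_g_rc_24_1 lc_g_rc_27_6 lc_g_Cert_tree lc_g_Cert_tree lc_g_rc_21_2 lc_g_Cert_tree lc_g_rc_26_6 lc_g_rc_21_3 lc_g_Cert_tree lc_g_rc_21_2 lc_g_Cert_tree lc_g_rc_21_2 lc_g_rc_21_2 lc_g_rc_26_3 lc_g_Cert_tree lc_g_Cert_tree lc_g_Cert_tree lc_g_rc_27_0 lc_g_rc_21_2 lc_g_Cert_tree lc_g_rc_23_7 lc_g_rc_26_3 lc_g_Cert_tree lc_g_rc_23_3 lc_g_rc_21_3 lc_g_Cert_tree lc_g_rc_21_2 lc_g_Cert_tree lc_g_Cert_tree lc_g_Cert_tree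 lc_g_rc_26_3 lc_g_Cert_tree lc_g_Cert_tree lc_g_rc_21_2 lc_g_rc_27_0 lc_g_rc_24_7 lc_g_rc_27_9 lc_g_rc_27_6 lc_g_rc_27_6 lc_g_rc_27_0 lc_g_rc_26_3 lc_g_rc_27_6 lc_g_rc_26_9 lc_g_rc_26_3 lc_g_rc_21_3 lc_g_rc_21_2 lc_g_rc_26_6 lc_g_Cert_tree lc_g_Cert_tree lc_g_Cert_tree lc_g_rc_21_3 lc_g_rc_27_3 lc_g_rc_23_1 lc_g_rc_21_3 lc_g_Cert_tree lc_g_rc_21_2 lc_g_Cert_tree lc_g_rc_23_1 lc_g_Cert_tree lc_g_Cert_tree lc_g_rc_26_0) (@D3.rec (fun _ => (Cert rels S Gen.g)) lc_g_rc_23_3 lc_g_rc_27_0 lc_g_rc_21_3 lc_g_Cert_tree lc_g_rc_21_2 lc_g_rc_21_3 lc_g_Cert_tree lc_g_rc_21_2 lc_g_Cert_tree lc_g_rc_26_6 lc_g_Cert_tree lc_g_rc_21_3 lc_g_Cert_tree lc_g_Cert_tree lc_g_rc_21_2 lc_g_rc_21_3 lc_g_rc_27_6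 lc_g_rc_23_1 lc_g_rc_21_3 lc_g_Cert_tree lc_g_rc_21_2 lc_g_Cert_tree lc_g_Cert_tree lc_g_Cert_tree lc_g_Cert_tree lc_g_rc_27_3 lc_g_rc_21_2 lc_g_rc_21_3 lc_g_Cert_tree lc_g_rc_21_2 lc_g_Cert_tree lc_g_Cert_tree lc_g_rc_26_3 lc_g_Cert_tree lc_g_Cert_tree lc_g_rc_21_2 lc_g_rc_21_2 lc_g_rc_26_3 lc_g_rc_26_0 lc_g_Cert_tree lc_g_Cert_tree lc_g_Cert_tree lc_g_rc_27_9 lc_g_Cert_tree lc_g_rc_21_2 lc_g_rc_23_7 lc_g_rc_27_6 lc_g_rc_21_2 lc_g_rc_21_3 lc_g_Cert_tree lc_g_Cert_tree lc_g_Cert_tree lc_g_Cert_tree lc_g_rc_24_3 lc_g_Cert_tree lc_g_rc_21_2 lc_g_Cert_tree lc_g_rc_21_3 lc_g_Cert_tree lc_g_rc_21_2 lc_g_rc_21_3 lc_g_Cert_tree) (@D3.rec (fun _ => (Cert rels S Gen.g)) lc_g_Cert_tree lc_g_rc_21_3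 lc_g_Cert_tree lc_g_rc_27_9 lc_g_Cert_tree lc_g_rc_23_1 lc_g_rc_27_6 lc_g_rc_26_3 lc_g_Cert_tree lc_g_rc_21_3 lc_g_Cert_tree lc_g_Cert_tree lc_g_rc_21_2 lc_g_rc_26_6 lc_g_rc_23_7 lc_g_rc_24_1 lc_g_rc_26_3 lc_g_rc_23_7 lc_g_rc_21_3 lc_g_rc_21_3 lc_g_Cert_tree lc_g_Cert_tree lc_g_rc_21_2 lc_g_rc_26_6 lc_g_rc_27_9 lc_g_rc_23_1 lc_g_Cert_tree lc_g_rc_27_0 lc_g_rc_24_9 lc_g_rc_26_6 lc_g_rc_26_6 lc_g_rc_27_3 lc_g_rc_26_3 lc_g_rc_24_1 lc_g_rc_24_7 lc_g_rc_26_6 lc_g_rc_24_7 lc_g_rc_27_6 lc_g_rc_21_3 lc_g_Cert_tree lc_g_Cert_tree lc_g_Cert_tree lc_g_rc_21_2 lc_g_rc_27_3 lc_g_Cert_tree lc_g_Cert_tree lc_g_rc_26_3 lc_g_rc_26_6 lc_g_rc_23_1 lc_g_Cert_tree lc_g_Cert_tree lc_g_rc_27_6 lc_g_Cert_tree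 lc_g_rc_26_3 lc_g_rc_26_0 lc_g_rc_27_3 lc_g_Cert_tree lc_g_rc_27_0 lc_g_rc_26_6 lc_g_Cert_tree lc_g_rc_26_0 lc_g_Cert_tree) (@D3.rec (fun _ => (Cert rels S Gen.g)) lc_g_rc_27_3 lc_g_rc_21_2 lc_g_rc_24_7 lc_g_Cert_tree lc_g_rc_23_3 lc_g_Cert_tree lc_g_rc_23_9 lc_g_rc_21_2 lc_g_rc_24_1 lc_g_rc_26_9 lc_g_rc_21_3 lc_g_Cert_tree lc_g_rc_24_3 lc_g_rc_24_9 lc_g_rc_26_9 lc_g_rc_21_3 lc_g_rc_21_2 lc_g_rc_21_3 lc_g_Cert_tree lc_g_Cert_tree lc_g_Cert_tree lc_g_rc_21_2 lc_g_Cert_tree lc_g_rc_26_6 lc_g_Cert_tree lc_g_rc_21_3 lc_g_Cert_tree lc_g_rc_21_2 lc_g_Cert_tree lc_g_rc_21_2 lc_g_rc_21_2 lc_g_Cert_tree lc_g_Cert_tree lc_g_rc_26_9 lc_g_rc_27_6 lc_g_Cert_tree lc_g_rc_21_2 lc_g_rc_21_2 lc_g_Cert_tree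 lc_g_rc_21_2 lc_g_Cert_tree lc_g_rc_26_9 lc_g_Cert_tree lc_g_rc_24_9 lc_g_rc_24_7 lc_g_Cert_tree lc_g_rc_23_3 lc_g_Cert_tree lc_g_rc_21_3 lc_g_Cert_tree lc_g_rc_21_2 lc_g_Cert_tree lc_g_Cert_tree lc_g_rc_27_6 lc_g_rc_27_0 lc_g_Cert_tree lc_g_rc_21_2 lc_g_rc_21_3 lc_g_Cert_tree lc_g_rc_21_2 lc_g_Cert_tree lc_g_Cert_tree) (@D3.rec (fun _ => (Cert rels S Gen.g)) lc_g_rc_21_2 lc_g_Cert_tree lc_g_rc_26_3 lc_g_rc_27_9 lc_g_rc_27_3 lc_g_rc_26_9 lc_g_rc_27_6 lc_g_rc_27_0 lc_g_rc_21_3 lc_g_Cert_tree lc_g_rc_21_2 lc_g_rc_21_2 lc_g_Cert_tree lc_g_Cert_tree lc_g_rc_21_2 lc_g_rc_21_3 lc_g_Cert_tree lc_g_rc_21_2 lc_g_Cert_tree lc_g_Cert_tree lc_g_Cert_tree lc_g_rc_27_3 lc_g_rc_21_3 lc_g_Cert_tree lc_g_rc_26_3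 lc_g_rc_26_6 lc_g_Cert_tree lc_g_rc_21_3 lc_g_rc_26_9 lc_g_rc_21_3 lc_g_Cert_tree lc_g_rc_26_0 lc_g_rc_26_0 lc_g_rc_26_6 lc_g_rc_21_2 lc_g_Cert_tree lc_g_rc_21_3 lc_g_Cert_tree lc_g_Cert_tree lc_g_Cert_tree lc_g_rc_21_3 lc_g_Cert_tree lc_g_rc_27_3 lc_g_rc_21_2 lc_g_rc_21_2 lc_g_rc_21_2 lc_g_rc_21_3 lc_g_Cert_tree lc_g_Cert_tree lc_g_rc_21_2 lc_g_Cert_tree lc_g_rc_23_7 lc_g_rc_24_3 lc_g_rc_21_3 lc_g_Cert_tree lc_g_rc_24_7 lc_g_rc_24_9 lc_g_rc_24_1 lc_g_Cert_tree lc_g_rc_23_9 lc_g_rc_24_3 lc_g_rc_24_3) (@D3.rec (fun _ => (Cert rels S Gen.g)) lc_g_rc_21_3 lc_g_Cert_tree lc_g_rc_24_1 lc_g_Cert_tree lc_g_rc_21_3 lc_g_rc_27_3 lc_g_rc_21_3 lc_g_Cert_tree lc_g_rc_21_2 lc_g_rc_25_15 lc_g_Cert_tree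 lc_g_rc_21_2 lc_g_rc_26_3 lc_g_Cert_tree lc_g_rc_27_3 lc_g_rc_24_7 lc_g_rc_24_1 lc_g_rc_27_0 lc_g_rc_26_0 lc_g_Cert_tree lc_g_rc_27_3 lc_g_rc_24_1 lc_g_rc_26_9 lc_g_rc_23_3 lc_g_rc_26_3 lc_g_rc_21_2 lc_g_rc_27_0 lc_g_rc_21_3 lc_g_Cert_tree lc_g_Cert_tree lc_g_rc_27_3 lc_g_rc_21_3 lc_g_Cert_tree lc_g_Cert_tree lc_g_rc_26_0 lc_g_rc_21_3 lc_g_Cert_tree lc_g_Cert_tree lc_g_rc_21_2 lc_g_Cert_tree lc_g_rc_27_3 lc_g_rc_27_6 lc_g_rc_27_3 lc_g_rc_24_7 lc_g_rc_21_2 lc_g_rc_21_3 lc_g_Cert_tree lc_g_rc_21_2 lc_g_rc_26_0 lc_g_rc_26_9 lc_g_rc_21_3 lc_g_rc_26_0 lc_g_rc_21_3 lc_g_rc_21_2 lc_g_rc_21_3 lc_g_Cert_tree lc_g_Cert_tree lc_g_Cert_tree lc_g_rc_21_2 lc_g_Cert_tree lc_g_rc_23_9 lc_g_Cert_tree) (@D3.rec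 (fun _ => (Cert rels S Gen.g)) lc_g_rc_27_6 lc_g_Cert_tree lc_g_rc_21_2 lc_g_Cert_tree lc_g_rc_24_1 lc_g_rc_26_3 lc_g_rc_21_3 lc_g_Cert_tree lc_g_rc_23_3 lc_g_Cert_tree lc_g_rc_27_6 lc_g_rc_26_6 lc_g_rc_27_6 lc_g_rc_23_3 lc_g_rc_27_6 lc_g_rc_27_3 lc_g_rc_26_6 lc_g_rc_26_6 lc_g_Cert_tree lc_g_rc_23_1 lc_g_rc_24_1 lc_g_rc_21_2 lc_g_rc_21_3 lc_g_Cert_tree lc_g_Cert_tree lc_g_Cert_tree lc_g_rc_21_3 lc_g_Cert_tree lc_g_rc_21_2 lc_g_rc_26_9 lc_g_rc_24_3 lc_g_rc_26_0 lc_g_rc_24_7 lc_g_rc_26_6 lc_g_rc_21_2 lc_g_rc_21_2 lc_g_rc_21_3 lc_g_Cert_tree lc_g_Cert_tree lc_g_rc_21_3 lc_g_Cert_tree lc_g_rc_21_3 lc_g_Cert_tree lc_g_rc_21_2 lc_g_rc_26_3 lc_g_rc_21_2 lc_g_rc_27_6 lc_g_rc_21_2 lc_g_Cert_tree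 lc_g_rc_21_2 lc_g_rc_26_6 lc_g_rc_26_0 lc_g_rc_21_3 lc_g_rc_26_0 lc_g_Cert_tree lc_g_rc_21_2 lc_g_Cert_tree lc_g_Cert_tree lc_g_rc_21_2 lc_g_rc_26_0 lc_g_rc_26_0 lc_g_Cert_tree) (@D3.rec (fun _ => (Cert rels S Gen.g)) lc_g_rc_26_6 lc_g_rc_23_9 lc_g_rc_21_2 lc_g_rc_24_1 lc_g_rc_27_6 lc_g_Cert_tree lc_g_rc_27_3 lc_g_rc_21_3 lc_g_Cert_tree lc_g_Cert_tree lc_g_Cert_tree lc_g_rc_26_6 lc_g_Cert_tree lc_g_Cert_tree lc_g_rc_26_0 lc_g_rc_23_1 lc_g_Cert_tree lc_g_rc_21_3 lc_g_Cert_tree lc_g_Cert_tree lc_g_Cert_tree lc_g_Cert_tree lc_g_rc_21_2 lc_g_rc_21_3 lc_g_Cert_tree lc_g_rc_21_2 lc_g_Cert_tree lc_g_rc_21_3 lc_g_Cert_tree lc_g_rc_21_2 lc_g_rc_26_0 lc_g_Cert_tree lc_g_Cert_tree lc_g_rc_21_3 lc_g_Cert_tree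 lc_g_Cert_tree lc_g_rc_21_2 lc_g_rc_21_2 lc_g_Cert_tree lc_g_rc_27_6 lc_g_rc_21_3 lc_g_Cert_tree lc_g_Cert_tree lc_g_rc_21_2 lc_g_rc_21_3 lc_g_Cert_tree lc_g_rc_21_2 lc_g_Cert_tree lc_g_rc_21_3 lc_g_Cert_tree lc_g_Cert_tree lc_g_rc_21_2 lc_g_Cert_tree lc_g_Cert_tree lc_g_Cert_tree lc_g_rc_27_0 lc_g_Cert_tree lc_g_rc_24_7 lc_g_rc_27_0 lc_g_Cert_tree lc_g_rc_21_2 lc_g_rc_21_3) (@D3.rec (fun _ => (Cert rels S Gen.g)) lc_g_Cert_tree lc_g_Cert_tree lc_g_rc_27_6 lc_g_rc_23_7 lc_g_rc_26_3 lc_g_rc_23_7 lc_g_Cert_tree lc_g_rc_21_2 lc_g_rc_21_3 lc_g_Cert_tree lc_g_rc_26_3 lc_g_Cert_tree lc_g_Cert_tree lc_g_rc_24_7 lc_g_Cert_tree lc_g_rc_24_9 lc_g_rc_26_3 lc_g_rc_27_3 lc_g_rc_26_6 lc_g_Cert_tree lc_g_rc_24_9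 lc_g_rc_21_2 lc_g_rc_21_3 lc_g_rc_26_0 lc_g_rc_23_3 lc_g_rc_27_6 lc_g_Cert_tree lc_g_rc_21_3 lc_g_Cert_tree lc_g_Cert_tree lc_g_Cert_tree lc_g_rc_21_2 lc_g_Cert_tree lc_g_Cert_tree lc_g_rc_27_6 lc_g_rc_21_3 lc_g_Cert_tree lc_g_rc_21_2 lc_g_Cert_tree lc_g_rc_26_0 lc_g_Cert_tree lc_g_rc_21_3 lc_g_rc_21_3 lc_g_rc_26_9 lc_g_rc_27_6 lc_g_rc_21_2 lc_g_rc_21_3 lc_g_Cert_tree lc_g_Cert_tree lc_g_Cert_tree lc_g_rc_21_3 lc_g_Cert_tree lc_g_rc_21_2 lc_g_rc_26_9 lc_g_rc_26_3 lc_g_rc_26_0 lc_g_rc_26_3 lc_g_rc_21_3 lc_g_Cert_tree lc_g_rc_23_7 lc_g_rc_21_2 lc_g_rc_21_3) (@D3.rec (fun _ => (Cert rels S Gen.g)) lc_g_Cert_tree lc_g_Cert_tree lc_g_rc_26_6 lc_g_rc_26_3 lc_g_rc_27_6 lc_g_Cert_tree lc_g_rc_27_6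 lc_g_rc_26_0 lc_g_Cert_tree lc_g_rc_23_1 lc_g_rc_21_3 lc_g_rc_26_0 lc_g_Cert_tree lc_g_rc_21_2 lc_g_Cert_tree lc_g_Cert_tree lc_g_rc_21_2 lc_g_rc_26_3 lc_g_rc_26_0 lc_g_rc_26_0 lc_g_Cert_tree lc_g_Cert_tree lc_g_rc_23_1 lc_g_Cert_tree lc_g_rc_23_1 lc_g_rc_27_0 lc_g_Cert_tree lc_g_rc_26_9 lc_g_Cert_tree lc_g_rc_24_3 lc_g_Cert_tree lc_g_Cert_tree lc_g_rc_26_6 lc_g_rc_23_1 lc_g_rc_21_3 lc_g_rc_21_3 lc_g_Cert_tree lc_g_Cert_tree lc_g_Cert_tree lc_g_rc_21_3 lc_g_Cert_tree lc_g_rc_21_2 lc_g_rc_21_3 lc_g_Cert_tree lc_g_rc_21_2 lc_g_Cert_tree lc_g_rc_23_1 lc_g_Cert_tree lc_g_rc_21_3 lc_g_rc_24_3 lc_g_rc_24_7 lc_g_rc_21_2 lc_g_rc_21_2 lc_g_rc_21_2 lc_g_rc_23_1 lc_g_rc_26_6 lc_g_Cert_tree lc_g_rc_21_2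 lc_g_rc_26_3 lc_g_Cert_tree lc_g_rc_21_2 lc_g_rc_21_3) (@D3.rec (fun _ => (Cert rels S Gen.g)) lc_g_Cert_tree lc_g_rc_26_6 lc_g_rc_21_2 lc_g_Cert_tree lc_g_rc_21_2 lc_g_rc_21_3 lc_g_rc_27_3 lc_g_rc_24_1 lc_g_rc_26_0 lc_g_rc_27_6 lc_g_rc_21_3 lc_g_rc_23_9 lc_g_rc_27_6 lc_g_rc_27_3 lc_g_rc_24_3 lc_g_Cert_tree lc_g_rc_23_1 lc_g_Cert_tree lc_g_rc_27_0 lc_g_rc_26_0 lc_g_rc_23_1 lc_g_rc_21_3 lc_g_rc_21_3 lc_g_Cert_tree lc_g_Cert_tree lc_g_rc_23_9 lc_g_Cert_tree lc_g_rc_24_3 lc_g_rc_21_3 lc_g_Cert_tree lc_g_rc_21_2 lc_g_Cert_tree lc_g_rc_21_3 lc_g_rc_21_3 lc_g_rc_21_2 lc_g_Cert_tree lc_g_rc_21_3 lc_g_Cert_tree lc_g_rc_21_2 lc_g_Cert_tree lc_g_rc_26_9 lc_g_Cert_tree lc_g_Cert_tree lc_g_rc_21_2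 lc_g_rc_26_9 lc_g_rc_27_9 lc_g_rc_21_3 lc_g_rc_21_2 lc_g_rc_26_9 lc_g_rc_21_3 lc_g_rc_26_9 lc_g_rc_24_1 lc_g_rc_21_2 lc_g_rc_21_2 lc_g_rc_21_3 lc_g_Cert_tree lc_g_Cert_tree lc_g_rc_27_0 lc_g_rc_26_6 lc_g_rc_26_0 lc_g_rc_26_6 lc_g_rc_21_3) (@D3.rec (fun _ => (Cert rels S Gen.g)) lc_g_Cert_tree lc_g_rc_24_3 lc_g_Cert_tree lc_g_rc_21_2 lc_g_Cert_tree lc_g_rc_21_2 lc_g_rc_26_9 lc_g_rc_23_7 lc_g_rc_23_7 lc_g_rc_26_3 lc_g_rc_21_2 lc_g_rc_21_2 lc_g_Cert_tree lc_g_rc_21_3 lc_g_Cert_tree lc_g_rc_27_3 lc_g_rc_21_2 lc_g_rc_23_3 lc_g_rc_26_9 lc_g_Cert_tree lc_g_rc_24_7 lc_g_rc_26_3 lc_g_rc_26_6 lc_g_rc_21_3 lc_g_Cert_tree lc_g_Cert_tree lc_g_Cert_tree lc_g_rc_21_3 lc_g_Cert_tree lc_g_Cert_tree lc_g_rc_21_2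 lc_g_Cert_tree lc_g_Cert_tree lc_g_rc_24_3 lc_g_rc_23_9 lc_g_Cert_tree lc_g_Cert_tree lc_g_Cert_tree lc_g_rc_21_2 lc_g_rc_21_3 lc_g_Cert_tree lc_g_rc_26_6 lc_g_rc_27_0 lc_g_rc_26_3 lc_g_rc_21_3 lc_g_rc_23_9 lc_g_Cert_tree lc_g_Cert_tree lc_g_rc_21_2 lc_g_rc_23_9 lc_g_Cert_tree lc_g_rc_24_3 lc_g_rc_27_0 lc_g_rc_24_3 lc_g_rc_23_3 lc_g_Cert_tree lc_g_rc_21_2 lc_g_rc_23_7 lc_g_Cert_tree lc_g_rc_21_2 lc_g_rc_24_1 lc_g_rc_26_0) (@D3.rec (fun _ => (Cert rels S Gen.g)) lc_g_rc_21_3 lc_g_rc_24_3 lc_g_Cert_tree lc_g_rc_21_3 lc_g_rc_27_0 lc_g_rc_21_3 lc_g_Cert_tree lc_g_rc_21_3 lc_g_rc_21_3 lc_g_rc_26_3 lc_g_rc_27_6 lc_g_rc_27_3 lc_g_rc_21_2 lc_g_Cert_tree lc_g_rc_27_3 lc_g_rc_23_3 lc_g_Cert_tree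 lc_g_rc_21_3 lc_g_rc_24_9 lc_g_rc_26_3 lc_g_rc_21_2 lc_g_rc_24_1 lc_g_Cert_tree lc_g_Cert_tree lc_g_Cert_tree lc_g_rc_21_3 lc_g_Cert_tree lc_g_Cert_tree lc_g_rc_21_2 lc_g_rc_26_0 lc_g_rc_21_3 lc_g_rc_27_3 lc_g_Cert_tree lc_g_rc_21_2 lc_g_Cert_tree lc_g_rc_21_3 lc_g_rc_21_3 lc_g_Cert_tree lc_g_rc_27_6 lc_g_rc_21_2 lc_g_rc_26_0 lc_g_rc_21_3 lc_g_rc_26_6 lc_g_rc_21_3 lc_g_rc_26_6 lc_g_rc_26_3 lc_g_rc_27_3 lc_g_rc_26_3 lc_g_rc_23_7 lc_g_rc_21_2 lc_g_Cert_tree lc_g_rc_21_3 lc_g_Cert_tree lc_g_rc_23_7 lc_g_Cert_tree lc_g_rc_21_3 lc_g_Cert_tree lc_g_rc_21_2 lc_g_rc_21_3 lc_g_Cert_tree lc_g_rc_21_2 lc_g_rc_26_6) (@D3.rec (fun _ => (Cert rels S Gen.g)) lc_g_rc_26_6 lc_g_rc_21_2 lc_g_rc_27_0 lc_g_rc_21_3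 lc_g_Cert_tree lc_g_rc_23_7 lc_g_Cert_tree lc_g_rc_23_3 lc_g_Cert_tree lc_g_rc_26_6 lc_g_rc_21_3 lc_g_rc_26_6 lc_g_rc_21_3 lc_g_Cert_tree lc_g_Cert_tree lc_g_Cert_tree lc_g_Cert_tree lc_g_Cert_tree lc_g_rc_26_3 lc_g_Cert_tree lc_g_rc_27_3 lc_g_rc_26_6 lc_g_rc_26_0 lc_g_rc_23_3 lc_g_rc_26_3 lc_g_rc_24_1 lc_g_rc_21_2 lc_g_Cert_tree lc_g_rc_24_7 lc_g_rc_26_6 lc_g_rc_23_7 lc_g_rc_26_3 lc_g_rc_27_6 lc_g_rc_21_3 lc_g_Cert_tree lc_g_Cert_tree lc_g_Cert_tree lc_g_rc_21_3 lc_g_Cert_tree lc_g_rc_21_2 lc_g_rc_21_2 lc_g_rc_27_6 lc_g_rc_27_0 lc_g_rc_21_3 lc_g_rc_24_3 lc_g_rc_26_0 lc_g_Cert_tree lc_g_Cert_tree lc_g_Cert_tree lc_g_rc_21_3 lc_g_rc_21_2 lc_g_Cert_tree lc_g_Cert_tree lc_g_rc_26_6 lc_g_Cert_tree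 lc_g_rc_26_3 lc_g_rc_21_2 lc_g_Cert_tree lc_g_rc_27_3 lc_g_rc_21_2 lc_g_rc_21_2 lc_g_rc_21_2) (@D3.rec (fun _ => (Cert rels S Gen.g)) lc_g_rc_24_1 lc_g_rc_26_6 lc_g_rc_26_6 lc_g_rc_26_6 lc_g_rc_23_7 lc_g_rc_26_6 lc_g_rc_21_3 lc_g_Cert_tree lc_g_Cert_tree lc_g_Cert_tree lc_g_rc_21_3 lc_g_Cert_tree lc_g_rc_24_9 lc_g_Cert_tree lc_g_Cert_tree lc_g_rc_21_3 lc_g_rc_26_3 lc_g_rc_21_3 lc_g_rc_21_3 lc_g_Cert_tree lc_g_Cert_tree lc_g_Cert_tree lc_g_rc_21_3 lc_g_Cert_tree lc_g_rc_21_3 lc_g_rc_21_3 lc_g_rc_26_9 lc_g_rc_26_3 lc_g_rc_21_2 lc_g_Cert_tree lc_g_rc_27_3 lc_g_rc_24_7 lc_g_rc_24_1 lc_g_rc_23_9 lc_g_rc_26_0 lc_g_rc_26_6 lc_g_Cert_tree lc_g_rc_26_3 lc_g_Cert_tree lc_g_rc_26_0 lc_g_rc_23_7 lc_g_rc_24_9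 lc_g_rc_24_1 lc_g_rc_24_9 lc_g_rc_26_0 lc_g_rc_21_3 lc_g_Cert_tree lc_g_rc_21_3 lc_g_Cert_tree lc_g_rc_23_1 lc_g_rc_21_2 lc_g_rc_24_3 lc_g_Cert_tree lc_g_rc_25_11 lc_g_Cert_tree lc_g_Cert_tree lc_g_rc_21_3 lc_g_rc_21_2 lc_g_rc_23_3 lc_g_rc_26_0 lc_g_rc_26_3 lc_g_Cert_tree) (@D3.rec (fun _ => (Cert rels S Gen.g)) lc_g_rc_21_3 lc_g_rc_21_3 lc_g_rc_21_3 lc_g_rc_24_9 lc_g_rc_21_3 lc_g_Cert_tree lc_g_rc_26_6 lc_g_Cert_tree lc_g_rc_23_9 lc_g_Cert_tree lc_g_Cert_tree lc_g_rc_26_6 lc_g_Cert_tree lc_g_rc_26_9 lc_g_rc_23_1 lc_g_rc_26_9 lc_g_rc_27_6 lc_g_rc_21_3 lc_g_Cert_tree lc_g_Cert_tree lc_g_rc_21_2 lc_g_Cert_tree lc_g_rc_21_3 lc_g_Cert_tree lc_g_rc_21_2 lc_g_rc_21_2 lc_g_rc_26_3 lc_g_Cert_tree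 lc_g_rc_23_3 lc_g_Cert_tree lc_g_rc_25_19 lc_g_Cert_tree lc_g_Cert_tree lc_g_rc_27_3 lc_g_Cert_tree lc_g_rc_21_2 lc_g_rc_21_2 lc_g_rc_26_0 lc_g_Cert_tree lc_g_Cert_tree lc_g_rc_23_1 lc_g_Cert_tree lc_g_Cert_tree lc_g_Cert_tree lc_g_rc_21_2 lc_g_Cert_tree lc_g_rc_23_9 lc_g_Cert_tree lc_g_rc_21_2 lc_g_Cert_tree lc_g_rc_24_1 lc_g_rc_23_7 lc_g_rc_26_3 lc_g_rc_21_3 lc_g_rc_21_2 lc_g_Cert_tree lc_g_Cert_tree lc_g_rc_21_3 lc_g_Cert_tree lc_g_rc_21_2 lc_g_Cert_tree lc_g_rc_21_2) (@D3.rec (fun _ => (Cert rels S Gen.g)) lc_g_rc_21_3 lc_g_Cert_tree lc_g_Cert_tree lc_g_rc_21_2 lc_g_Cert_tree lc_g_Cert_tree lc_g_Cert_tree lc_g_Cert_tree lc_g_rc_24_3 lc_g_rc_26_0 lc_g_rc_27_6 lc_g_rc_23_7 lc_g_rc_21_2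 lc_g_rc_23_9 lc_g_rc_21_3 lc_g_Cert_tree lc_g_Cert_tree lc_g_rc_27_6 lc_g_rc_27_6 lc_g_rc_26_6 lc_g_rc_21_2 lc_g_Cert_tree lc_g_Cert_tree lc_g_rc_24_9 lc_g_Cert_tree lc_g_rc_23_1 lc_g_Cert_tree lc_g_rc_23_9 lc_g_Cert_tree lc_g_rc_21_3 lc_g_Cert_tree lc_g_rc_21_2 lc_g_rc_26_6 lc_g_rc_27_9 lc_g_rc_27_6 lc_g_rc_27_0 lc_g_rc_21_2 lc_g_Cert_tree lc_g_rc_23_1 lc_g_Cert_tree lc_g_rc_27_0 lc_g_Cert_tree lc_g_rc_21_3 lc_g_Cert_tree lc_g_Cert_tree lc_g_rc_21_2 lc_g_rc_26_6 lc_g_Cert_tree lc_g_rc_21_3 lc_g_Cert_tree lc_g_rc_21_2 lc_g_rc_26_3 lc_g_rc_21_3 lc_g_rc_26_6 lc_g_rc_23_9 lc_g_rc_26_0 lc_g_Cert_tree lc_g_rc_21_3 lc_g_Cert_tree lc_g_Cert_tree lc_g_rc_21_2 lc_g_rc_26_6) (@D3.rec (fun _ => (Cert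 rels S Gen.g)) lc_g_Cert_tree lc_g_rc_26_6 lc_g_rc_21_3 lc_g_rc_24_1 lc_g_rc_21_3 lc_g_rc_21_2 lc_g_Cert_tree lc_g_Cert_tree lc_g_Cert_tree lc_g_rc_26_6 lc_g_Cert_tree lc_g_rc_21_2 lc_g_rc_26_3 lc_g_rc_24_7 lc_g_rc_26_3 lc_g_rc_23_3 lc_g_rc_26_3 lc_g_rc_24_1 lc_g_rc_24_1 lc_g_rc_27_0 lc_g_rc_26_0 lc_g_rc_21_3 lc_g_Cert_tree lc_g_Cert_tree lc_g_rc_21_2 lc_g_rc_26_9 lc_g_rc_24_1 lc_g_rc_24_3 lc_g_rc_21_3 lc_g_Cert_tree lc_g_rc_21_2 lc_g_rc_23_3 lc_g_rc_27_3 lc_g_rc_23_3 lc_g_rc_21_3 lc_g_Cert_tree lc_g_rc_21_3 lc_g_rc_23_9 lc_g_rc_21_3 lc_g_rc_26_3 lc_g_Cert_tree lc_g_rc_21_3 lc_g_Cert_tree lc_g_Cert_tree lc_g_rc_21_2 lc_g_rc_21_3 lc_g_Cert_tree lc_g_rc_24_9 lc_g_rc_21_2 lc_g_rc_24_9 lc_g_rc_27_6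 lc_g_rc_26_6 lc_g_rc_24_9 lc_g_rc_26_0 lc_g_rc_24_9 lc_g_rc_27_9 lc_g_rc_26_6 lc_g_rc_27_3 lc_g_Cert_tree lc_g_rc_27_3 lc_g_rc_26_3 lc_g_rc_21_3) (@D3.rec (fun _ => (Cert rels S Gen.g)) lc_g_Cert_tree lc_g_rc_21_2 lc_g_Cert_tree lc_g_Cert_tree lc_g_rc_27_0 lc_g_Cert_tree lc_g_rc_21_2 lc_g_rc_27_9 lc_g_rc_24_7 lc_g_rc_21_3 lc_g_rc_26_3 lc_g_rc_21_2 lc_g_Cert_tree lc_g_rc_23_3 lc_g_Cert_tree lc_g_rc_26_9 lc_g_rc_24_9 lc_g_rc_27_0 lc_g_Cert_tree lc_g_rc_21_2 lc_g_rc_27_3 lc_g_rc_21_3 lc_g_Cert_tree lc_g_Cert_tree lc_g_Cert_tree lc_g_rc_23_3 lc_g_rc_21_2 lc_g_rc_21_2 lc_g_rc_26_0 lc_g_Cert_tree lc_g_Cert_tree lc_g_rc_21_2 lc_g_rc_24_9 lc_g_rc_27_6 lc_g_rc_24_1 lc_g_rc_27_0 lc_g_rc_26_3 lc_g_Cert_tree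 lc_g_rc_23_9 lc_g_rc_24_7 lc_g_rc_24_9 lc_g_rc_24_7 lc_g_rc_21_3 lc_g_Cert_tree lc_g_Cert_tree lc_g_rc_21_2 lc_g_rc_21_3 lc_g_Cert_tree lc_g_Cert_tree lc_g_rc_21_2 lc_g_rc_26_3 lc_g_Cert_tree lc_g_rc_27_9 lc_g_rc_26_9 lc_g_rc_24_9 lc_g_rc_26_3 lc_g_rc_21_3 lc_g_Cert_tree lc_g_Cert_tree lc_g_rc_21_2 lc_g_Cert_tree lc_g_rc_26_3) (@D3.rec (fun _ => (Cert rels S Gen.g)) lc_g_rc_26_0 lc_g_Cert_tree lc_g_rc_21_2 lc_g_rc_21_3 lc_g_Cert_tree lc_g_rc_24_9 lc_g_rc_21_3 lc_g_Cert_tree lc_g_Cert_tree lc_g_rc_21_2 lc_g_rc_26_6 lc_g_Cert_tree lc_g_rc_27_6 lc_g_rc_26_3 lc_g_rc_23_3 lc_g_Cert_tree lc_g_rc_21_3 lc_g_Cert_tree lc_g_Cert_tree lc_g_rc_21_2 lc_g_Cert_tree lc_g_rc_27_6 lc_g_rc_23_9 lc_g_Cert_tree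 lc_g_rc_27_0 lc_g_Cert_tree lc_g_rc_27_3 lc_g_rc_23_9 lc_g_rc_26_6 lc_g_rc_24_1 lc_g_Cert_tree lc_g_rc_24_1 lc_g_rc_21_3 lc_g_rc_23_9 lc_g_rc_21_3 lc_g_rc_24_1 lc_g_rc_27_9 lc_g_rc_24_1 lc_g_rc_24_1 lc_g_rc_21_3 lc_g_Cert_tree lc_g_rc_21_2 lc_g_rc_21_2 lc_g_rc_26_9 lc_g_rc_23_3 lc_g_rc_21_3 lc_g_rc_26_0 lc_g_Cert_tree lc_g_rc_21_3 lc_g_Cert_tree lc_g_Cert_tree lc_g_rc_21_2 lc_g_rc_21_3 lc_g_Cert_tree lc_g_rc_21_2 lc_g_rc_23_3 lc_g_Cert_tree lc_g_rc_27_0 lc_g_rc_27_0 lc_g_Cert_tree lc_g_rc_24_1 lc_g_rc_27_0) (@D3.rec (fun _ => (Cert rels S Gen.g)) lc_g_rc_27_6 lc_g_rc_27_0 lc_g_rc_21_3 lc_g_rc_24_7 lc_g_rc_24_7 lc_g_rc_27_6 lc_g_Cert_tree lc_g_rc_23_3 lc_g_rc_21_2 lc_g_rc_26_0 lc_g_rc_26_9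 lc_g_rc_26_9 lc_g_rc_26_3 lc_g_Cert_tree lc_g_rc_21_3 lc_g_Cert_tree lc_g_Cert_tree lc_g_rc_21_2 lc_g_rc_26_3 lc_g_rc_27_9 lc_g_rc_26_6 lc_g_rc_24_1 lc_g_rc_26_3 lc_g_rc_21_3 lc_g_rc_21_2 lc_g_rc_21_2 lc_g_rc_27_0 lc_g_Cert_tree lc_g_rc_24_1 lc_g_rc_27_0 lc_g_rc_24_9 lc_g_rc_27_0 lc_g_rc_27_6 lc_g_Cert_tree lc_g_rc_23_7 lc_g_rc_21_2 lc_g_rc_27_3 lc_g_rc_26_0 lc_g_Cert_tree lc_g_rc_21_3 lc_g_Cert_tree lc_g_rc_21_2 lc_g_rc_21_2 lc_g_rc_27_6 lc_g_Cert_tree lc_g_rc_24_9 lc_g_rc_26_0 lc_g_rc_21_3 lc_g_Cert_tree lc_g_Cert_tree lc_g_rc_21_2 lc_g_rc_21_3 lc_g_Cert_tree lc_g_Cert_tree lc_g_rc_21_3 lc_g_rc_26_3 lc_g_rc_26_6 lc_g_rc_24_1 lc_g_rc_27_0 lc_g_rc_21_3 lc_g_Cert_tree lc_g_Cert_tree) (@D3.rec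 (fun _ => (Cert rels S Gen.g)) lc_g_rc_21_2 lc_g_rc_21_3 lc_g_rc_21_2 lc_g_Cert_tree lc_g_Cert_tree lc_g_Cert_tree lc_g_Cert_tree lc_g_rc_24_7 lc_g_Cert_tree lc_g_Cert_tree lc_g_rc_27_0 lc_g_Cert_tree lc_g_rc_26_0 lc_g_Cert_tree lc_g_rc_24_1 lc_g_rc_24_1 lc_g_Cert_tree lc_g_rc_23_9 lc_g_rc_21_2 lc_g_rc_21_3 lc_g_rc_26_9 lc_g_Cert_tree lc_g_rc_27_3 lc_g_rc_24_3 lc_g_Cert_tree lc_g_rc_21_3 lc_g_Cert_tree lc_g_Cert_tree lc_g_rc_21_2 lc_g_rc_24_9 lc_g_Cert_tree lc_g_rc_24_9 lc_g_rc_26_3 lc_g_rc_27_0 lc_g_rc_27_6 lc_g_Cert_tree lc_g_rc_27_3 lc_g_rc_23_9 lc_g_rc_21_3 lc_g_rc_23_9 lc_g_Cert_tree lc_g_Cert_tree lc_g_rc_27_3 lc_g_Cert_tree lc_g_rc_23_1 lc_g_Cert_tree lc_g_Cert_tree lc_g_rc_26_3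 lc_g_rc_24_9 lc_g_rc_23_1 lc_g_Cert_tree lc_g_rc_27_6 lc_g_Cert_tree lc_g_rc_26_0 lc_g_Cert_tree lc_g_Cert_tree lc_g_rc_24_3 lc_g_Cert_tree lc_g_rc_26_3 lc_g_rc_21_2 lc_g_Cert_tree lc_g_rc_26_0) (@D3.rec (fun _ => (Cert rels S Gen.g)) lc_g_rc_26_0 lc_g_rc_26_6 lc_g_rc_26_6 lc_g_Cert_tree lc_g_rc_21_2 lc_g_rc_21_2 lc_g_rc_26_3 lc_g_Cert_tree lc_g_rc_26_9 lc_g_rc_26_0 lc_g_Cert_tree lc_g_rc_24_9 lc_g_rc_21_3 lc_g_Cert_tree lc_g_Cert_tree lc_g_rc_26_6 lc_g_rc_21_3 lc_g_Cert_tree lc_g_rc_21_2 lc_g_rc_27_3 lc_g_rc_27_6 lc_g_rc_21_3 lc_g_Cert_tree lc_g_rc_21_2 lc_g_rc_23_3 lc_g_rc_26_3 lc_g_rc_21_3 lc_g_rc_24_3 lc_g_rc_21_3 lc_g_Cert_tree lc_g_rc_21_2 lc_g_rc_23_7 lc_g_rc_26_0 lc_g_Cert_tree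 lc_g_rc_21_2 lc_g_rc_21_2 lc_g_rc_21_3 lc_g_Cert_tree lc_g_Cert_tree lc_g_rc_21_2 lc_g_Cert_tree lc_g_rc_21_3 lc_g_rc_27_6 lc_g_rc_27_6 lc_g_rc_26_6 lc_g_Cert_tree lc_g_rc_21_3 lc_g_Cert_tree lc_g_Cert_tree lc_g_rc_21_2 lc_g_rc_26_3 lc_g_rc_26_0 lc_g_Cert_tree lc_g_Cert_tree lc_g_rc_27_3 lc_g_Cert_tree lc_g_rc_24_1 lc_g_Cert_tree lc_g_Cert_tree lc_g_rc_21_2 lc_g_Cert_tree lc_g_rc_21_2)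
def ce_g_1 : D2 → D3 → (Cert rels S Gen.g) := @D2.rec (fun _ => D3 → (Cert rels S Gen.g)) (@D3.rec (fun _ => (Cert rels S Gen.g)) lc_g_Cert_tree lc_g_Cert_tree lc_g_rc_24_1 lc_g_Cert_tree lc_g_rc_21_3 lc_g_rc_23_9 lc_g_rc_26_6 lc_g_rc_26_9 lc_g_Cert_tree lc_g_rc_27_3 lc_g_rc_24_3 lc_g_Cert_tree lc_g_rc_24_3 lc_g_Cert_tree lc_g_Cert_tree lc_g_Cert_tree lc_g_rc_26_3 lc_g_rc_21_3 lc_g_Cert_tree lc_g_Cert_tree lc_g_Cert_tree lc_g_rc_24_9 lc_g_Cert_tree lc_g_Cert_tree lc_g_rc_23_9 lc_g_rc_26_6 lc_g_rc_23_1 lc_g_Cert_tree lc_g_rc_23_1 lc_g_rc_27_6 lc_g_Cert_tree lc_g_Cert_tree lc_g_rc_26_3 lc_g_rc_27_3 lc_g_rc_23_9 lc_g_rc_24_3 lc_g_Cert_tree lc_g_rc_27_0 lc_g_Cert_tree lc_g_Cert_tree lc_g_rc_24_9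 lc_g_Cert_tree lc_g_rc_27_3 lc_g_rc_26_3 lc_g_Cert_tree lc_g_rc_23_1 lc_g_rc_21_3 lc_g_Cert_tree lc_g_rc_21_2 lc_g_rc_26_3 lc_g_rc_27_9 lc_g_rc_21_3 lc_g_Cert_tree lc_g_rc_26_6 lc_g_rc_26_0 lc_g_Cert_tree lc_g_rc_24_1 lc_g_rc_21_2 lc_g_rc_27_6 lc_g_rc_24_1 lc_g_rc_21_3 lc_g_Cert_tree) (@D3.rec (fun _ => (Cert rels S Gen.g)) lc_g_rc_24_9 lc_g_rc_26_6 lc_g_Cert_tree lc_g_rc_26_3 lc_g_rc_26_0 lc_g_rc_26_9 lc_g_Cert_tree lc_g_rc_21_2 lc_g_rc_26_0 lc_g_rc_26_3 lc_g_rc_26_9 lc_g_rc_26_3 lc_g_Cert_tree lc_g_rc_21_3 lc_g_Cert_tree lc_g_rc_26_0 lc_g_rc_21_2 lc_g_rc_23_7 lc_g_rc_24_3 lc_g_rc_26_6 lc_g_rc_24_1 lc_g_rc_23_1 lc_g_rc_21_3 lc_g_Cert_tree lc_g_Cert_tree lc_g_rc_21_2 lc_g_rc_26_9 lc_g_rc_23_3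 lc_g_rc_23_7 lc_g_Cert_tree lc_g_rc_26_9 lc_g_rc_27_6 lc_g_Cert_tree lc_g_rc_24_3 lc_g_rc_27_6 lc_g_rc_26_6 lc_g_rc_23_1 lc_g_rc_24_1 lc_g_rc_21_3 lc_g_Cert_tree lc_g_rc_24_7 lc_g_Cert_tree lc_g_rc_21_3 lc_g_Cert_tree lc_g_Cert_tree lc_g_Cert_tree lc_g_rc_21_2 lc_g_rc_26_6 lc_g_rc_23_1 lc_g_Cert_tree lc_g_Cert_tree lc_g_rc_23_1 lc_g_Cert_tree lc_g_Cert_tree lc_g_rc_27_9 lc_g_Cert_tree lc_g_rc_21_3 lc_g_rc_23_9 lc_g_rc_26_6 lc_g_rc_21_2 lc_g_Cert_tree lc_g_rc_23_1) (@D3.rec (fun _ => (Cert rels S Gen.g)) lc_g_Cert_tree lc_g_rc_24_3 lc_g_Cert_tree lc_g_rc_27_3 lc_g_Cert_tree lc_g_rc_21_2 lc_g_rc_23_7 lc_g_rc_26_3 lc_g_Cert_tree lc_g_rc_23_3 lc_g_rc_26_3 lc_g_Cert_tree lc_g_Cert_tree lc_g_rc_26_3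 lc_g_Cert_tree lc_g_rc_26_0 lc_g_Cert_tree lc_g_rc_21_2 lc_g_Cert_tree lc_g_rc_21_2 lc_g_Cert_tree lc_g_rc_21_3 lc_g_Cert_tree lc_g_Cert_tree lc_g_rc_21_3 lc_g_Cert_tree lc_g_rc_21_2 lc_g_Cert_tree lc_g_rc_21_2 lc_g_rc_26_6 lc_g_Cert_tree lc_g_rc_21_2 lc_g_rc_21_2 lc_g_rc_27_0 lc_g_Cert_tree lc_g_rc_27_6 lc_g_rc_24_1 lc_g_rc_26_3 lc_g_rc_21_3 lc_g_Cert_tree lc_g_Cert_tree lc_g_rc_21_2 lc_g_Cert_tree lc_g_Cert_tree lc_g_Cert_tree lc_g_rc_24_1 lc_g_Cert_tree lc_g_Cert_tree lc_g_rc_24_3 lc_g_Cert_tree lc_g_Cert_tree lc_g_rc_23_9 lc_g_rc_24_1 lc_g_Cert_tree lc_g_rc_26_6 lc_g_rc_24_7 lc_g_Cert_tree lc_g_rc_27_3 lc_g_rc_24_7 lc_g_Cert_tree lc_g_rc_21_3 lc_g_Cert_tree) (@D3.rec (fun _ => (Cert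 rels S Gen.g)) lc_g_Cert_tree lc_g_Cert_tree lc_g_rc_21_2 lc_g_Cert_tree lc_g_rc_24_1 lc_g_rc_27_0 lc_g_Cert_tree lc_g_rc_26_0 lc_g_Cert_tree lc_g_rc_24_9 lc_g_Cert_tree lc_g_rc_21_2 lc_g_rc_24_7 lc_g_rc_23_1 lc_g_Cert_tree lc_g_rc_26_6 lc_g_rc_21_3 lc_g_rc_24_7 lc_g_rc_27_3 lc_g_Cert_tree lc_g_Cert_tree lc_g_Cert_tree lc_g_Cert_tree lc_g_rc_24_9 lc_g_Cert_tree lc_g_Cert_tree lc_g_rc_21_3 lc_g_rc_26_3 lc_g_rc_21_3 lc_g_Cert_tree lc_g_rc_23_9 lc_g_rc_27_6 lc_g_Cert_tree lc_g_rc_21_2 lc_g_Cert_tree lc_g_rc_23_3 lc_g_rc_27_6 lc_g_rc_21_3 lc_g_rc_21_2 lc_g_Cert_tree lc_g_rc_23_9 lc_g_rc_24_7 lc_g_Cert_tree lc_g_rc_23_7 lc_g_rc_23_1 lc_g_Cert_tree lc_g_Cert_tree lc_g_rc_21_2 lc_g_Cert_tree lc_g_rc_26_6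 lc_g_rc_21_3 lc_g_Cert_tree lc_g_rc_21_2 lc_g_Cert_tree lc_g_rc_21_2 lc_g_rc_21_2 lc_g_Cert_tree lc_g_rc_21_2 lc_g_Cert_tree lc_g_Cert_tree lc_g_Cert_tree lc_g_rc_23_1) (@D3.rec (fun _ => (Cert rels S Gen.g)) lc_g_rc_24_7 lc_g_Cert_tree lc_g_rc_24_7 lc_g_rc_27_9 lc_g_rc_27_6 lc_g_rc_26_6 lc_g_rc_27_0 lc_g_rc_21_3 lc_g_Cert_tree lc_g_rc_21_2 lc_g_Cert_tree lc_g_rc_21_2 lc_g_rc_23_7 lc_g_rc_21_3 lc_g_rc_23_1 lc_g_rc_21_3 lc_g_Cert_tree lc_g_rc_21_2 lc_g_rc_26_6 lc_g_rc_26_3 lc_g_rc_21_3 lc_g_Cert_tree lc_g_rc_21_2 lc_g_rc_24_3 lc_g_rc_27_6 lc_g_rc_24_7 lc_g_rc_21_3 lc_g_Cert_tree lc_g_Cert_tree lc_g_rc_21_2 lc_g_rc_21_3 lc_g_rc_23_1 lc_g_rc_21_3 lc_g_Cert_tree lc_g_rc_21_2 lc_g_rc_21_2 lc_g_Cert_tree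 lc_g_Cert_tree lc_g_rc_27_3 lc_g_rc_21_2 lc_g_rc_21_3 lc_g_Cert_tree lc_g_rc_21_2 lc_g_Cert_tree lc_g_rc_26_6 lc_g_Cert_tree lc_g_Cert_tree lc_g_Cert_tree lc_g_rc_21_2 lc_g_rc_21_2 lc_g_rc_23_3 lc_g_rc_26_0 lc_g_Cert_tree lc_g_Cert_tree lc_g_Cert_tree lc_g_rc_24_3 lc_g_rc_26_0 lc_g_rc_21_2 lc_g_rc_21_2 lc_g_rc_26_3 lc_g_rc_21_2 lc_g_rc_21_3) (@D3.rec (fun _ => (Cert rels S Gen.g)) lc_g_Cert_tree lc_g_Cert_tree lc_g_Cert_tree lc_g_Cert_tree lc_g_rc_26_3 lc_g_Cert_tree lc_g_rc_24_3 lc_g_Cert_tree lc_g_rc_21_3 lc_g_Cert_tree lc_g_rc_21_2 lc_g_rc_21_3 lc_g_Cert_tree lc_g_Cert_tree lc_g_rc_27_6 lc_g_rc_27_6 lc_g_rc_27_9 lc_g_rc_26_9 lc_g_rc_27_9 lc_g_rc_27_0 lc_g_Cert_tree lc_g_rc_21_2 lc_g_rc_24_1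 lc_g_Cert_tree lc_g_rc_23_3 lc_g_rc_21_2 lc_g_rc_21_3 lc_g_rc_21_2 lc_g_rc_24_3 lc_g_Cert_tree lc_g_Cert_tree lc_g_rc_26_3 lc_g_rc_26_3 lc_g_rc_23_1 lc_g_rc_21_3 lc_g_rc_23_9 lc_g_rc_21_3 lc_g_Cert_tree lc_g_Cert_tree lc_g_Cert_tree lc_g_rc_21_3 lc_g_Cert_tree lc_g_rc_21_3 lc_g_Cert_tree lc_g_rc_21_2 lc_g_rc_21_3 lc_g_Cert_tree lc_g_rc_21_3 lc_g_Cert_tree lc_g_rc_21_2 lc_g_rc_26_6 lc_g_Cert_tree lc_g_rc_21_2 lc_g_rc_27_9 lc_g_rc_27_3 lc_g_rc_27_9 lc_g_rc_27_6 lc_g_rc_27_0 lc_g_rc_26_6 lc_g_Cert_tree lc_g_rc_26_3 lc_g_rc_26_6) (@D3.rec (fun _ => (Cert rels S Gen.g)) lc_g_rc_21_3 lc_g_rc_21_2 lc_g_rc_26_3 lc_g_rc_21_3 lc_g_Cert_tree lc_g_Cert_tree lc_g_Cert_tree lc_g_rc_21_3 lc_g_Cert_tree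 lc_g_rc_27_3 lc_g_rc_21_2 lc_g_rc_21_3 lc_g_Cert_tree lc_g_Cert_tree lc_g_rc_21_2 lc_g_rc_27_9 lc_g_rc_26_6 lc_g_rc_21_3 lc_g_rc_24_3 lc_g_rc_21_2 lc_g_rc_26_6 lc_g_rc_23_9 lc_g_rc_21_2 lc_g_Cert_tree lc_g_rc_23_3 lc_g_rc_27_6 lc_g_rc_21_3 lc_g_Cert_tree lc_g_rc_26_6 lc_g_rc_21_3 lc_g_Cert_tree lc_g_rc_21_2 lc_g_Cert_tree lc_g_Cert_tree lc_g_rc_21_2 lc_g_rc_27_6 lc_g_rc_27_9 lc_g_rc_21_3 lc_g_rc_24_3 lc_g_rc_26_9 lc_g_rc_26_9 lc_g_rc_27_6 lc_g_rc_21_2 lc_g_rc_27_6 lc_g_rc_21_3 lc_g_Cert_tree lc_g_Cert_tree lc_g_rc_27_6 lc_g_Cert_tree lc_g_Cert_tree lc_g_rc_26_6 lc_g_rc_21_3 lc_g_Cert_tree lc_g_Cert_tree lc_g_rc_21_2 lc_g_rc_24_7 lc_g_rc_24_9 lc_g_rc_26_9 lc_g_rc_21_3 lc_g_rc_23_3 lc_g_rc_24_3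 lc_g_rc_27_6) (@D3.rec (fun _ => (Cert rels S Gen.g)) lc_g_rc_27_0 lc_g_Cert_tree lc_g_rc_26_9 lc_g_rc_21_3 lc_g_rc_26_3 lc_g_rc_26_0 lc_g_rc_21_2 lc_g_rc_21_2 lc_g_Cert_tree lc_g_rc_21_3 lc_g_Cert_tree lc_g_rc_26_6 lc_g_rc_21_3 lc_g_rc_27_6 lc_g_rc_21_3 lc_g_rc_26_6 lc_g_rc_21_2 lc_g_rc_21_3 lc_g_Cert_tree lc_g_Cert_tree lc_g_Cert_tree lc_g_rc_21_3 lc_g_Cert_tree lc_g_rc_21_2 lc_g_rc_21_3 lc_g_Cert_tree lc_g_rc_21_2 lc_g_rc_21_2 lc_g_rc_26_3 lc_g_rc_21_2 lc_g_rc_21_2 lc_g_rc_23_1 lc_g_rc_21_3 lc_g_Cert_tree lc_g_rc_26_6 lc_g_Cert_tree lc_g_rc_21_2 lc_g_rc_21_2 lc_g_rc_23_1 lc_g_rc_27_6 lc_g_rc_23_9 lc_g_Cert_tree lc_g_rc_21_3 lc_g_Cert_tree lc_g_Cert_tree lc_g_rc_27_0 lc_g_rc_23_7 lc_g_Cert_tree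 lc_g_Cert_tree lc_g_rc_24_9 lc_g_rc_23_1 lc_g_rc_27_6 lc_g_rc_21_3 lc_g_Cert_tree lc_g_Cert_tree lc_g_Cert_tree lc_g_Cert_tree lc_g_rc_21_2 lc_g_rc_21_3 lc_g_Cert_tree lc_g_rc_21_2 lc_g_Cert_tree) (@D3.rec (fun _ => (Cert rels S Gen.g)) lc_g_rc_21_3 lc_g_Cert_tree lc_g_rc_21_2 lc_g_rc_24_3 lc_g_Cert_tree lc_g_Cert_tree lc_g_rc_21_3 lc_g_Cert_tree lc_g_Cert_tree lc_g_rc_21_2 lc_g_rc_26_0 lc_g_rc_24_3 lc_g_Cert_tree lc_g_rc_21_3 lc_g_Cert_tree lc_g_Cert_tree lc_g_rc_21_2 lc_g_rc_21_3 lc_g_Cert_tree lc_g_rc_21_2 lc_g_Cert_tree lc_g_rc_21_3 lc_g_Cert_tree lc_g_Cert_tree lc_g_rc_21_2 lc_g_Cert_tree lc_g_Cert_tree lc_g_rc_27_9 lc_g_rc_27_3 lc_g_rc_23_1 lc_g_rc_23_9 lc_g_rc_21_2 lc_g_rc_21_3 lc_g_Cert_tree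 lc_g_Cert_tree lc_g_rc_23_7 lc_g_Cert_tree lc_g_rc_21_2 lc_g_rc_24_9 lc_g_Cert_tree lc_g_Cert_tree lc_g_rc_24_1 lc_g_rc_21_2 lc_g_rc_21_3 lc_g_Cert_tree lc_g_Cert_tree lc_g_rc_21_2 lc_g_rc_26_9 lc_g_rc_26_3 lc_g_Cert_tree lc_g_rc_23_9 lc_g_rc_26_9 lc_g_rc_26_3 lc_g_rc_26_6 lc_g_rc_27_0 lc_g_rc_21_3 lc_g_Cert_tree lc_g_Cert_tree lc_g_rc_21_2 lc_g_rc_21_3 lc_g_Cert_tree lc_g_rc_27_3) (@D3.rec (fun _ => (Cert rels S Gen.g)) lc_g_Cert_tree lc_g_Cert_tree lc_g_rc_24_9 lc_g_rc_24_9 lc_g_Cert_tree lc_g_rc_27_9 lc_g_rc_27_6 lc_g_rc_26_3 lc_g_Cert_tree lc_g_rc_27_0 lc_g_Cert_tree lc_g_rc_24_1 lc_g_rc_26_9 lc_g_rc_24_9 lc_g_rc_21_2 lc_g_Cert_tree lc_g_rc_26_0 lc_g_rc_26_0 lc_g_rc_21_3 lc_g_Cert_tree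 lc_g_Cert_tree lc_g_rc_21_2 lc_g_rc_26_0 lc_g_Cert_tree lc_g_rc_27_3 lc_g_Cert_tree lc_g_Cert_tree lc_g_Cert_tree lc_g_Cert_tree lc_g_rc_27_0 lc_g_rc_27_9 lc_g_rc_26_6 lc_g_rc_24_7 lc_g_rc_21_3 lc_g_Cert_tree lc_g_rc_26_6 lc_g_rc_27_6 lc_g_rc_24_9 lc_g_rc_27_6 lc_g_rc_24_9 lc_g_Cert_tree lc_g_Cert_tree lc_g_rc_21_3 lc_g_Cert_tree lc_g_rc_21_2 lc_g_rc_26_3 lc_g_Cert_tree lc_g_rc_26_6 lc_g_rc_26_9 lc_g_rc_21_3 lc_g_Cert_tree lc_g_Cert_tree lc_g_rc_21_2 lc_g_rc_26_0 lc_g_Cert_tree lc_g_Cert_tree lc_g_rc_23_7 lc_g_rc_21_3 lc_g_rc_26_9 lc_g_rc_26_6 lc_g_rc_26_0 lc_g_rc_21_3) (@D3.rec (fun _ => (Cert rels S Gen.g)) lc_g_Cert_tree lc_g_Cert_tree lc_g_rc_21_2 lc_g_rc_26_0 lc_g_Cert_tree lc_g_rc_27_3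 lc_g_Cert_tree lc_g_Cert_tree lc_g_rc_23_3 lc_g_rc_21_2 lc_g_Cert_tree lc_g_rc_23_9 lc_g_Cert_tree lc_g_rc_26_3 lc_g_rc_23_1 lc_g_rc_26_6 lc_g_Cert_tree lc_g_rc_26_0 lc_g_Cert_tree lc_g_rc_24_7 lc_g_Cert_tree lc_g_Cert_tree lc_g_rc_23_9 lc_g_rc_23_9 lc_g_rc_24_9 lc_g_rc_26_3 lc_g_Cert_tree lc_g_rc_27_0 lc_g_Cert_tree lc_g_rc_21_2 lc_g_rc_26_3 lc_g_rc_27_9 lc_g_rc_27_0 lc_g_Cert_tree lc_g_Cert_tree lc_g_rc_21_3 lc_g_Cert_tree lc_g_rc_21_2 lc_g_rc_23_3 lc_g_Cert_tree lc_g_rc_23_3 lc_g_rc_27_6 lc_g_rc_24_1 lc_g_Cert_tree lc_g_rc_27_3 lc_g_rc_26_0 lc_g_rc_21_2 lc_g_rc_21_2 lc_g_rc_24_9 lc_g_Cert_tree lc_g_Cert_tree lc_g_Cert_tree lc_g_rc_26_0 lc_g_Cert_tree lc_g_rc_24_7 lc_g_rc_26_6 lc_g_rc_26_9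 lc_g_Cert_tree lc_g_rc_21_3 lc_g_Cert_tree lc_g_Cert_tree lc_g_Cert_tree) (@D3.rec (fun _ => (Cert rels S Gen.g)) lc_g_rc_21_2 lc_g_Cert_tree lc_g_rc_21_3 lc_g_Cert_tree lc_g_rc_21_2 lc_g_rc_23_7 lc_g_Cert_tree lc_g_rc_27_0 lc_g_rc_27_9 lc_g_rc_26_6 lc_g_rc_27_9 lc_g_rc_27_0 lc_g_rc_21_2 lc_g_rc_26_6 lc_g_rc_21_2 lc_g_rc_26_6 lc_g_rc_21_3 lc_g_Cert_tree lc_g_Cert_tree lc_g_rc_21_2 lc_g_rc_26_9 lc_g_rc_26_9 lc_g_Cert_tree lc_g_rc_26_6 lc_g_rc_24_7 lc_g_rc_27_6 lc_g_rc_24_1 lc_g_rc_27_6 lc_g_rc_21_3 lc_g_Cert_tree lc_g_Cert_tree lc_g_rc_21_2 lc_g_Cert_tree lc_g_rc_23_7 lc_g_Cert_tree lc_g_Cert_tree lc_g_Cert_tree lc_g_Cert_tree lc_g_rc_23_9 lc_g_Cert_tree lc_g_Cert_tree lc_g_rc_24_1 lc_g_Cert_tree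 lc_g_rc_23_9 lc_g_rc_21_3 lc_g_rc_24_7 lc_g_Cert_tree lc_g_rc_27_3 lc_g_rc_24_3 lc_g_Cert_tree lc_g_rc_21_3 lc_g_Cert_tree lc_g_Cert_tree lc_g_Cert_tree lc_g_rc_21_2 lc_g_Cert_tree lc_g_rc_26_3 lc_g_Cert_tree lc_g_rc_27_0 lc_g_Cert_tree lc_g_Cert_tree lc_g_Cert_tree) (@D3.rec (fun _ => (Cert rels S Gen.g)) lc_g_rc_23_3 lc_g_Cert_tree lc_g_rc_24_7 lc_g_Cert_tree lc_g_rc_27_0 lc_g_rc_24_7 lc_g_rc_23_1 lc_g_rc_23_1 lc_g_Cert_tree lc_g_Cert_tree lc_g_rc_21_3 lc_g_Cert_tree lc_g_rc_26_6 lc_g_rc_24_9 lc_g_Cert_tree lc_g_rc_23_3 lc_g_Cert_tree lc_g_rc_24_7 lc_g_rc_24_7 lc_g_rc_26_3 lc_g_rc_27_9 lc_g_rc_21_3 lc_g_Cert_tree lc_g_rc_27_0 lc_g_rc_21_3 lc_g_rc_24_1 lc_g_rc_23_1 lc_g_rc_21_2 lc_g_Cert_tree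 lc_g_rc_27_0 lc_g_rc_21_2 lc_g_rc_24_1 lc_g_rc_23_7 lc_g_rc_26_6 lc_g_Cert_tree lc_g_rc_26_6 lc_g_Cert_tree lc_g_rc_26_6 lc_g_rc_21_3 lc_g_Cert_tree lc_g_rc_21_2 lc_g_Cert_tree lc_g_rc_21_2 lc_g_Cert_tree lc_g_rc_24_1 lc_g_rc_26_6 lc_g_rc_27_6 lc_g_rc_26_9 lc_g_rc_21_3 lc_g_Cert_tree lc_g_rc_23_9 lc_g_rc_21_3 lc_g_rc_24_1 lc_g_rc_27_6 lc_g_rc_21_3 lc_g_Cert_tree lc_g_Cert_tree lc_g_rc_21_2 lc_g_rc_21_3 lc_g_rc_21_2 lc_g_rc_26_3 lc_g_Cert_tree) (@D3.rec (fun _ => (Cert rels S Gen.g)) lc_g_rc_23_7 lc_g_Cert_tree lc_g_rc_24_9 lc_g_Cert_tree lc_g_Cert_tree lc_g_rc_21_3 lc_g_rc_24_9 lc_g_Cert_tree lc_g_rc_23_9 lc_g_rc_26_6 lc_g_rc_24_7 lc_g_Cert_tree lc_g_rc_27_3 lc_g_rc_24_3 lc_g_Cert_tree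 lc_g_rc_21_3 lc_g_Cert_tree lc_g_Cert_tree lc_g_Cert_tree lc_g_rc_21_2 lc_g_Cert_tree lc_g_Cert_tree lc_g_rc_23_3 lc_g_Cert_tree lc_g_rc_24_7 lc_g_Cert_tree lc_g_rc_24_7 lc_g_rc_23_1 lc_g_rc_24_7 lc_g_Cert_tree lc_g_Cert_tree lc_g_rc_21_3 lc_g_rc_27_6 lc_g_Cert_tree lc_g_rc_23_1 lc_g_rc_26_6 lc_g_Cert_tree lc_g_Cert_tree lc_g_rc_26_6 lc_g_Cert_tree lc_g_rc_26_6 lc_g_rc_24_9 lc_g_Cert_tree lc_g_rc_23_9 lc_g_Cert_tree lc_g_rc_24_7 lc_g_rc_24_7 lc_g_rc_26_6 lc_g_rc_27_9 lc_g_rc_23_9 lc_g_rc_26_3 lc_g_rc_26_0 lc_g_rc_21_3 lc_g_rc_23_3 lc_g_rc_23_1 lc_g_Cert_tree lc_g_rc_23_9 lc_g_rc_23_9 lc_g_rc_23_1 lc_g_rc_23_7 lc_g_rc_24_1 lc_g_rc_24_9) (@D3.rec (fun _ => (Cert rels S Gen.g)) lc_g_rc_21_2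 lc_g_rc_21_3 lc_g_Cert_tree lc_g_rc_21_2 lc_g_Cert_tree lc_g_rc_21_2 lc_g_rc_26_9 lc_g_rc_21_3 lc_g_rc_24_9 lc_g_rc_26_0 lc_g_rc_23_3 lc_g_rc_21_3 lc_g_Cert_tree lc_g_Cert_tree lc_g_rc_21_2 lc_g_rc_26_9 lc_g_Cert_tree lc_g_Cert_tree lc_g_rc_27_0 lc_g_rc_21_3 lc_g_rc_27_6 lc_g_rc_23_7 lc_g_rc_24_3 lc_g_rc_21_3 lc_g_Cert_tree lc_g_Cert_tree lc_g_rc_27_9 lc_g_rc_26_0 lc_g_Cert_tree lc_g_rc_27_3 lc_g_Cert_tree lc_g_Cert_tree lc_g_rc_23_3 lc_g_rc_21_2 lc_g_Cert_tree lc_g_rc_26_0 lc_g_rc_21_2 lc_g_rc_21_2 lc_g_rc_21_3 lc_g_Cert_tree lc_g_Cert_tree lc_g_rc_21_2 lc_g_rc_27_0 lc_g_rc_26_3 lc_g_rc_21_3 lc_g_Cert_tree lc_g_Cert_tree lc_g_rc_26_6 lc_g_Cert_tree lc_g_rc_21_3 lc_g_rc_26_6 lc_g_rc_26_6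 lc_g_rc_27_0 lc_g_rc_21_3 lc_g_Cert_tree lc_g_Cert_tree lc_g_rc_26_6 lc_g_rc_26_6 lc_g_Cert_tree lc_g_rc_27_3 lc_g_Cert_tree lc_g_Cert_tree) (@D3.rec (fun _ => (Cert rels S Gen.g)) lc_g_rc_23_3 lc_g_rc_21_2 lc_g_Cert_tree lc_g_rc_21_3 lc_g_Cert_tree lc_g_Cert_tree lc_g_rc_26_9 lc_g_rc_21_3 lc_g_Cert_tree lc_g_rc_21_2 lc_g_rc_24_1 lc_g_rc_27_0 lc_g_rc_21_3 lc_g_Cert_tree lc_g_rc_21_2 lc_g_Cert_tree lc_g_rc_21_2 lc_g_rc_24_1 lc_g_Cert_tree lc_g_Cert_tree lc_g_Cert_tree lc_g_rc_21_2 lc_g_Cert_tree lc_g_Cert_tree lc_g_rc_21_2 lc_g_rc_26_0 lc_g_rc_26_6 lc_g_rc_24_7 lc_g_rc_26_3 lc_g_rc_24_1 lc_g_rc_21_3 lc_g_rc_21_3 lc_g_Cert_tree lc_g_Cert_tree lc_g_rc_21_2 lc_g_rc_21_3 lc_g_rc_26_6 lc_g_rc_27_6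 lc_g_rc_21_3 lc_g_Cert_tree lc_g_rc_21_2 lc_g_rc_21_3 lc_g_Cert_tree lc_g_rc_27_0 lc_g_rc_24_9 lc_g_rc_23_1 lc_g_rc_21_3 lc_g_Cert_tree lc_g_Cert_tree lc_g_rc_21_2 lc_g_rc_26_0 lc_g_Cert_tree lc_g_rc_24_1 lc_g_rc_24_9 lc_g_rc_26_6 lc_g_Cert_tree lc_g_rc_24_7 lc_g_rc_23_9 lc_g_Cert_tree lc_g_Cert_tree lc_g_Cert_tree lc_g_Cert_tree) (@D3.rec (fun _ => (Cert rels S Gen.g)) lc_g_rc_27_3 lc_g_rc_21_3 lc_g_Cert_tree lc_g_rc_27_6 lc_g_Cert_tree lc_g_Cert_tree lc_g_rc_24_1 lc_g_Cert_tree lc_g_rc_24_9 lc_g_Cert_tree lc_g_rc_26_6 lc_g_rc_26_3 lc_g_rc_21_3 lc_g_Cert_tree lc_g_Cert_tree lc_g_Cert_tree lc_g_rc_26_6 lc_g_rc_21_3 lc_g_rc_23_9 lc_g_Cert_tree lc_g_rc_21_3 lc_g_Cert_tree lc_g_Cert_tree lc_g_Cert_tree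 lc_g_rc_21_2 lc_g_Cert_tree lc_g_Cert_tree lc_g_rc_24_9 lc_g_Cert_tree lc_g_rc_24_9 lc_g_Cert_tree lc_g_Cert_tree lc_g_rc_26_3 lc_g_rc_24_1 lc_g_Cert_tree lc_g_rc_26_6 lc_g_rc_24_7 lc_g_Cert_tree lc_g_rc_23_9 lc_g_rc_24_7 lc_g_Cert_tree lc_g_rc_21_3 lc_g_Cert_tree lc_g_Cert_tree lc_g_Cert_tree lc_g_rc_21_2 lc_g_rc_21_2 lc_g_rc_26_9 lc_g_rc_21_3 lc_g_rc_24_9 lc_g_rc_24_3 lc_g_rc_27_3 lc_g_Cert_tree lc_g_Cert_tree lc_g_Cert_tree lc_g_rc_21_3 lc_g_Cert_tree lc_g_rc_21_2 lc_g_rc_23_9 lc_g_rc_24_7 lc_g_Cert_tree lc_g_rc_23_1) (@D3.rec (fun _ => (Cert rels S Gen.g)) lc_g_rc_27_0 lc_g_rc_23_1 lc_g_Cert_tree lc_g_Cert_tree lc_g_rc_21_3 lc_g_rc_23_3 lc_g_rc_21_3 lc_g_Cert_tree lc_g_rc_21_2 lc_g_rc_23_9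 lc_g_rc_23_7 lc_g_rc_21_2 lc_g_rc_21_2 lc_g_Cert_tree lc_g_Cert_tree lc_g_Cert_tree lc_g_Cert_tree lc_g_rc_23_9 lc_g_Cert_tree lc_g_Cert_tree lc_g_Cert_tree lc_g_rc_21_3 lc_g_Cert_tree lc_g_rc_26_6 lc_g_rc_23_9 lc_g_Cert_tree lc_g_rc_24_3 lc_g_Cert_tree lc_g_rc_21_3 lc_g_Cert_tree lc_g_Cert_tree lc_g_rc_21_2 lc_g_rc_24_7 lc_g_rc_21_2 lc_g_Cert_tree lc_g_Cert_tree lc_g_Cert_tree lc_g_rc_21_2 lc_g_Cert_tree lc_g_Cert_tree lc_g_Cert_tree lc_g_rc_21_3 lc_g_Cert_tree lc_g_rc_27_3 lc_g_rc_21_2 lc_g_rc_21_2 lc_g_Cert_tree lc_g_Cert_tree lc_g_Cert_tree lc_g_rc_23_1 lc_g_Cert_tree lc_g_rc_21_3 lc_g_Cert_tree lc_g_rc_21_2 lc_g_Cert_tree lc_g_Cert_tree lc_g_rc_21_2 lc_g_Cert_tree lc_g_rc_24_1 lc_g_rc_24_7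 lc_g_Cert_tree lc_g_Cert_tree) (@D3.rec (fun _ => (Cert rels S Gen.g)) lc_g_rc_21_3 lc_g_Cert_tree lc_g_rc_26_6 lc_g_rc_21_3 lc_g_Cert_tree lc_g_Cert_tree lc_g_Cert_tree lc_g_rc_21_3 lc_g_Cert_tree lc_g_rc_26_0 lc_g_rc_21_3 lc_g_rc_27_3 lc_g_rc_21_2 lc_g_rc_21_2 lc_g_rc_27_3 lc_g_Cert_tree lc_g_Cert_tree lc_g_Cert_tree lc_g_rc_21_3 lc_g_Cert_tree lc_g_rc_27_9 lc_g_rc_21_2 lc_g_rc_23_9 lc_g_rc_24_7 lc_g_Cert_tree lc_g_rc_26_6 lc_g_rc_23_9 lc_g_rc_27_0 lc_g_Cert_tree lc_g_rc_27_0 lc_g_rc_21_3 lc_g_Cert_tree lc_g_Cert_tree lc_g_rc_21_2 lc_g_rc_23_9 lc_g_rc_24_9 lc_g_rc_23_9 lc_g_Cert_tree lc_g_rc_23_3 lc_g_Cert_tree lc_g_rc_24_1 lc_g_Cert_tree lc_g_rc_23_7 lc_g_Cert_tree lc_g_rc_24_1 lc_g_rc_21_3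 lc_g_Cert_tree lc_g_rc_21_2 lc_g_Cert_tree lc_g_Cert_tree lc_g_Cert_tree lc_g_rc_24_3 lc_g_Cert_tree lc_g_rc_23_3 lc_g_rc_27_0 lc_g_rc_27_9 lc_g_rc_24_7 lc_g_rc_27_6 lc_g_rc_27_0 lc_g_rc_21_2 lc_g_Cert_tree lc_g_rc_26_3) (@D3.rec (fun _ => (Cert rels S Gen.g)) lc_g_rc_27_6 lc_g_rc_23_9 lc_g_rc_24_3 lc_g_rc_26_6 lc_g_rc_21_2 lc_g_rc_23_3 lc_g_Cert_tree lc_g_Cert_tree lc_g_Cert_tree lc_g_rc_21_3 lc_g_Cert_tree lc_g_rc_23_9 lc_g_rc_21_2 lc_g_Cert_tree lc_g_rc_21_2 lc_g_rc_21_3 lc_g_Cert_tree lc_g_Cert_tree lc_g_rc_21_2 lc_g_rc_24_3 lc_g_Cert_tree lc_g_rc_23_1 lc_g_Cert_tree lc_g_Cert_tree lc_g_rc_27_9 lc_g_rc_21_3 lc_g_Cert_tree lc_g_rc_21_2 lc_g_Cert_tree lc_g_rc_23_1 lc_g_Cert_tree lc_g_Cert_tree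 lc_g_rc_26_3 lc_g_Cert_tree lc_g_rc_27_3 lc_g_rc_23_1 lc_g_Cert_tree lc_g_rc_27_0 lc_g_rc_24_3 lc_g_rc_23_1 lc_g_rc_27_0 lc_g_rc_27_3 lc_g_rc_23_1 lc_g_Cert_tree lc_g_rc_26_3 lc_g_rc_27_3 lc_g_rc_24_3 lc_g_rc_27_6 lc_g_rc_21_3 lc_g_Cert_tree lc_g_rc_21_2 lc_g_Cert_tree lc_g_Cert_tree lc_g_Cert_tree lc_g_rc_23_1 lc_g_Cert_tree lc_g_Cert_tree lc_g_rc_27_3 lc_g_rc_21_2 lc_g_rc_21_3 lc_g_Cert_tree lc_g_rc_21_2) (@D3.rec (fun _ => (Cert rels S Gen.g)) lc_g_Cert_tree lc_g_Cert_tree lc_g_rc_26_3 lc_g_Cert_tree lc_g_rc_27_3 lc_g_rc_23_9 lc_g_rc_21_2 lc_g_rc_26_3 lc_g_rc_24_9 lc_g_Cert_tree lc_g_Cert_tree lc_g_rc_21_3 lc_g_Cert_tree lc_g_rc_21_2 lc_g_rc_23_7 lc_g_rc_27_0 lc_g_Cert_tree lc_g_rc_21_3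 lc_g_Cert_tree lc_g_Cert_tree lc_g_Cert_tree lc_g_rc_21_2 lc_g_rc_21_2 lc_g_rc_23_9 lc_g_Cert_tree lc_g_rc_26_9 lc_g_rc_23_1 lc_g_Cert_tree lc_g_Cert_tree lc_g_rc_21_3 lc_g_Cert_tree lc_g_rc_21_2 lc_g_Cert_tree lc_g_rc_21_2 lc_g_Cert_tree lc_g_rc_21_2 lc_g_Cert_tree lc_g_rc_21_3 lc_g_Cert_tree lc_g_rc_21_2 lc_g_rc_21_3 lc_g_Cert_tree lc_g_rc_26_3 lc_g_Cert_tree lc_g_rc_21_3 lc_g_Cert_tree lc_g_Cert_tree lc_g_rc_21_2 lc_g_rc_21_3 lc_g_Cert_tree lc_g_rc_21_2 lc_g_rc_21_3 lc_g_Cert_tree lc_g_rc_24_9 lc_g_rc_27_3 lc_g_rc_21_3 lc_g_Cert_tree lc_g_rc_21_2 lc_g_Cert_tree lc_g_Cert_tree lc_g_Cert_tree lc_g_rc_24_9) (@D3.rec (fun _ => (Cert rels S Gen.g)) lc_g_Cert_tree lc_g_rc_21_3 lc_g_Cert_tree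 lc_g_rc_24_1 lc_g_rc_26_6 lc_g_rc_26_3 lc_g_rc_21_2 lc_g_Cert_tree lc_g_rc_21_3 lc_g_Cert_tree lc_g_Cert_tree lc_g_Cert_tree lc_g_rc_21_3 lc_g_Cert_tree lc_g_rc_21_3 lc_g_Cert_tree lc_g_Cert_tree lc_g_rc_21_2 lc_g_Cert_tree lc_g_rc_23_7 lc_g_rc_24_7 lc_g_rc_21_2 lc_g_rc_24_3 lc_g_rc_23_7 lc_g_Cert_tree lc_g_Cert_tree lc_g_rc_21_2 lc_g_rc_26_3 lc_g_rc_27_9 lc_g_rc_21_3 lc_g_rc_27_3 lc_g_rc_27_6 lc_g_rc_23_9 lc_g_rc_27_3 lc_g_rc_24_7 lc_g_rc_26_6 lc_g_Cert_tree lc_g_rc_26_0 lc_g_rc_23_1 lc_g_rc_26_6 lc_g_rc_23_3 lc_g_rc_21_2 lc_g_rc_26_6 lc_g_Cert_tree lc_g_Cert_tree lc_g_Cert_tree lc_g_rc_21_3 lc_g_Cert_tree lc_g_rc_21_2 lc_g_rc_26_0 lc_g_Cert_tree lc_g_rc_27_6 lc_g_rc_27_3 lc_g_rc_26_9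 lc_g_rc_24_3 lc_g_rc_21_3 lc_g_rc_26_0 lc_g_rc_21_3 lc_g_rc_21_2 lc_g_rc_21_3 lc_g_Cert_tree lc_g_Cert_tree) (@D3.rec (fun _ => (Cert rels S Gen.g)) lc_g_Cert_tree lc_g_rc_23_9 lc_g_Cert_tree lc_g_rc_26_3 lc_g_rc_21_2 lc_g_rc_21_3 lc_g_Cert_tree lc_g_rc_21_2 lc_g_rc_27_0 lc_g_rc_21_3 lc_g_rc_27_9 lc_g_rc_21_3 lc_g_rc_27_9 lc_g_rc_21_3 lc_g_rc_26_9 lc_g_rc_21_3 lc_g_rc_21_3 lc_g_Cert_tree lc_g_Cert_tree lc_g_Cert_tree lc_g_Cert_tree lc_g_rc_21_3 lc_g_Cert_tree lc_g_Cert_tree lc_g_rc_21_2 lc_g_Cert_tree lc_g_rc_23_3 lc_g_rc_21_2 lc_g_rc_23_3 lc_g_rc_21_3 lc_g_Cert_tree lc_g_rc_23_3 lc_g_Cert_tree lc_g_Cert_tree lc_g_rc_27_6 lc_g_rc_21_2 lc_g_rc_23_3 lc_g_rc_23_1 lc_g_rc_26_9 lc_g_rc_21_3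 lc_g_Cert_tree lc_g_rc_21_3 lc_g_rc_21_2 lc_g_rc_24_1 lc_g_rc_21_2 lc_g_rc_21_2 lc_g_Cert_tree lc_g_rc_21_3 lc_g_Cert_tree lc_g_Cert_tree lc_g_Cert_tree lc_g_rc_21_3 lc_g_Cert_tree lc_g_Cert_tree lc_g_rc_21_3 lc_g_Cert_tree lc_g_Cert_tree lc_g_rc_21_2 lc_g_Cert_tree lc_g_Cert_tree lc_g_Cert_tree lc_g_rc_23_3) (@D3.rec (fun _ => (Cert rels S Gen.g)) lc_g_rc_23_3 lc_g_Cert_tree lc_g_rc_26_3 lc_g_rc_26_6 lc_g_rc_23_7 lc_g_rc_26_6 lc_g_rc_27_6 lc_g_rc_26_3 lc_g_rc_23_9 lc_g_rc_27_6 lc_g_rc_21_3 lc_g_Cert_tree lc_g_Cert_tree lc_g_Cert_tree lc_g_rc_21_3 lc_g_Cert_tree lc_g_Cert_tree lc_g_Cert_tree lc_g_Cert_tree lc_g_Cert_tree lc_g_rc_26_3 lc_g_rc_21_3 lc_g_Cert_tree lc_g_Cert_tree lc_g_rc_21_2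 lc_g_rc_27_3 lc_g_rc_27_3 lc_g_rc_21_2 lc_g_rc_26_3 lc_g_rc_21_2 lc_g_rc_26_3 lc_g_Cert_tree lc_g_rc_24_9 lc_g_Cert_tree lc_g_rc_21_3 lc_g_Cert_tree lc_g_rc_26_6 lc_g_rc_25_7 lc_g_rc_21_2 lc_g_rc_21_2 lc_g_rc_21_3 lc_g_Cert_tree lc_g_Cert_tree lc_g_rc_26_0 lc_g_rc_21_3 lc_g_Cert_tree lc_g_rc_21_3 lc_g_rc_27_6 lc_g_rc_21_3 lc_g_rc_25_19 lc_g_rc_24_1 lc_g_rc_27_6 lc_g_rc_21_2 lc_g_rc_27_0 lc_g_rc_21_2 lc_g_rc_21_3 lc_g_Cert_tree lc_g_rc_23_7 lc_g_rc_27_0 lc_g_rc_21_2 lc_g_Cert_tree lc_g_rc_26_0) (@D3.rec (fun _ => (Cert rels S Gen.g)) lc_g_Cert_tree lc_g_Cert_tree lc_g_rc_24_3 lc_g_rc_23_1 lc_g_Cert_tree lc_g_rc_21_3 lc_g_Cert_tree lc_g_Cert_tree lc_g_Cert_tree lc_g_rc_21_3 lc_g_Cert_tree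 lc_g_rc_21_2 lc_g_rc_21_3 lc_g_Cert_tree lc_g_Cert_tree lc_g_rc_21_2 lc_g_Cert_tree lc_g_Cert_tree lc_g_rc_21_3 lc_g_Cert_tree lc_g_Cert_tree lc_g_rc_21_2 lc_g_rc_23_9 lc_g_Cert_tree lc_g_Cert_tree lc_g_rc_21_3 lc_g_Cert_tree lc_g_Cert_tree lc_g_rc_21_2 lc_g_Cert_tree lc_g_rc_23_1 lc_g_Cert_tree lc_g_Cert_tree lc_g_rc_21_3 lc_g_rc_26_9 lc_g_Cert_tree lc_g_rc_23_9 lc_g_rc_21_2 lc_g_Cert_tree lc_g_rc_23_3 lc_g_rc_21_3 lc_g_Cert_tree lc_g_Cert_tree lc_g_rc_21_2 lc_g_rc_27_9 lc_g_rc_27_0 lc_g_Cert_tree lc_g_rc_24_9 lc_g_rc_21_3 lc_g_Cert_tree lc_g_rc_21_2 lc_g_rc_27_6 lc_g_rc_21_3 lc_g_rc_27_3 lc_g_rc_21_3 lc_g_Cert_tree lc_g_Cert_tree lc_g_rc_21_2 lc_g_rc_23_1 lc_g_rc_26_9 lc_g_rc_27_9 lc_g_rc_23_1)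 (@D3.rec (fun _ => (Cert rels S Gen.g)) lc_g_rc_26_6 lc_g_rc_21_3 lc_g_rc_23_7 lc_g_rc_26_6 lc_g_rc_21_3 lc_g_Cert_tree lc_g_Cert_tree lc_g_rc_21_2 lc_g_rc_27_9 lc_g_rc_24_1 lc_g_rc_24_7 lc_g_Cert_tree lc_g_rc_27_6 lc_g_Cert_tree lc_g_rc_27_0 lc_g_rc_24_1 lc_g_Cert_tree lc_g_rc_26_6 lc_g_rc_24_7 lc_g_Cert_tree lc_g_rc_27_3 lc_g_rc_21_3 lc_g_Cert_tree lc_g_rc_21_3 lc_g_Cert_tree lc_g_Cert_tree lc_g_Cert_tree lc_g_rc_21_2 lc_g_rc_21_2 lc_g_rc_27_9 lc_g_rc_27_0 lc_g_rc_24_1 lc_g_Cert_tree lc_g_rc_23_1 lc_g_rc_21_3 lc_g_Cert_tree lc_g_rc_26_6 lc_g_rc_24_1 lc_g_Cert_tree lc_g_rc_21_3 lc_g_Cert_tree lc_g_rc_27_9 lc_g_rc_26_6 lc_g_rc_21_2 lc_g_rc_24_3 lc_g_Cert_tree lc_g_rc_27_3 lc_g_rc_26_3 lc_g_rc_23_7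 lc_g_rc_27_6 lc_g_Cert_tree lc_g_Cert_tree lc_g_rc_27_6 lc_g_rc_27_3 lc_g_rc_21_3 lc_g_rc_21_3 lc_g_Cert_tree lc_g_rc_21_2 lc_g_Cert_tree lc_g_rc_23_3 lc_g_rc_21_2 lc_g_rc_21_2) (@D3.rec (fun _ => (Cert rels S Gen.g)) lc_g_rc_23_9 lc_g_rc_23_7 lc_g_rc_26_6 lc_g_Cert_tree lc_g_rc_24_1 lc_g_rc_24_1 lc_g_rc_23_1 lc_g_rc_27_6 lc_g_Cert_tree lc_g_Cert_tree lc_g_Cert_tree lc_g_rc_21_3 lc_g_Cert_tree lc_g_rc_21_2 lc_g_rc_21_3 lc_g_Cert_tree lc_g_rc_21_3 lc_g_rc_21_2 lc_g_rc_23_3 lc_g_rc_26_3 lc_g_Cert_tree lc_g_rc_26_0 lc_g_rc_27_9 lc_g_rc_21_3 lc_g_rc_26_0 lc_g_rc_23_9 lc_g_rc_26_9 lc_g_rc_21_3 lc_g_Cert_tree lc_g_rc_27_3 lc_g_rc_21_2 lc_g_rc_24_7 lc_g_rc_26_9 lc_g_rc_26_0 lc_g_rc_21_3 lc_g_rc_27_6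 lc_g_rc_26_0 lc_g_Cert_tree lc_g_rc_24_1 lc_g_rc_21_2 lc_g_rc_21_2 lc_g_rc_21_2 lc_g_rc_24_1 lc_g_Cert_tree lc_g_rc_26_0 lc_g_Cert_tree lc_g_rc_21_2 lc_g_Cert_tree lc_g_rc_23_1 lc_g_rc_27_3 lc_g_rc_21_3 lc_g_rc_26_0 lc_g_rc_26_0 lc_g_rc_27_6 lc_g_rc_27_6 lc_g_rc_27_3 lc_g_rc_23_1 lc_g_Cert_tree lc_g_rc_26_6 lc_g_rc_23_1 lc_g_rc_26_6 lc_g_rc_24_3) (@D3.rec (fun _ => (Cert rels S Gen.g)) lc_g_rc_21_3 lc_g_rc_21_3 lc_g_Cert_tree lc_g_Cert_tree lc_g_rc_24_3 lc_g_Cert_tree lc_g_rc_24_3 lc_g_rc_21_3 lc_g_Cert_tree lc_g_rc_21_2 lc_g_Cert_tree lc_g_rc_21_3 lc_g_rc_21_3 lc_g_rc_24_7 lc_g_Cert_tree lc_g_rc_21_3 lc_g_Cert_tree lc_g_Cert_tree lc_g_rc_21_2 lc_g_Cert_tree lc_g_rc_21_3 lc_g_Cert_tree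 lc_g_rc_27_9 lc_g_rc_21_3 lc_g_rc_27_6 lc_g_rc_27_0 lc_g_Cert_tree lc_g_rc_21_2 lc_g_rc_27_6 lc_g_Cert_tree lc_g_Cert_tree lc_g_rc_24_1 lc_g_Cert_tree lc_g_Cert_tree lc_g_rc_21_3 lc_g_rc_21_2 lc_g_rc_21_3 lc_g_Cert_tree lc_g_rc_21_2 lc_g_Cert_tree lc_g_rc_27_3 lc_g_rc_21_2 lc_g_rc_27_9 lc_g_rc_21_3 lc_g_rc_27_9 lc_g_rc_27_6 lc_g_rc_26_6 lc_g_rc_21_2 lc_g_rc_26_9 lc_g_rc_21_3 lc_g_rc_21_2 lc_g_Cert_tree lc_g_rc_23_9 lc_g_rc_21_2 lc_g_rc_21_3 lc_g_Cert_tree lc_g_rc_21_2 lc_g_rc_24_3 lc_g_rc_24_1 lc_g_rc_21_2 lc_g_rc_21_3 lc_g_Cert_tree) (@D3.rec (fun _ => (Cert rels S Gen.g)) lc_g_rc_21_2 lc_g_Cert_tree lc_g_rc_23_3 lc_g_rc_26_3 lc_g_rc_21_2 lc_g_rc_21_2 lc_g_rc_21_3 lc_g_Cert_tree lc_g_rc_21_2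 lc_g_rc_21_2 lc_g_Cert_tree lc_g_Cert_tree lc_g_rc_21_3 lc_g_Cert_tree lc_g_Cert_tree lc_g_rc_21_2 lc_g_rc_26_9 lc_g_rc_24_1 lc_g_rc_27_6 lc_g_rc_26_3 lc_g_rc_27_0 lc_g_rc_21_3 lc_g_Cert_tree lc_g_rc_21_2 lc_g_rc_21_3 lc_g_Cert_tree lc_g_rc_21_2 lc_g_Cert_tree lc_g_rc_27_3 lc_g_rc_24_1 lc_g_rc_27_3 lc_g_rc_23_1 lc_g_Cert_tree lc_g_rc_21_3 lc_g_Cert_tree lc_g_rc_24_3 lc_g_rc_23_1 lc_g_rc_26_6 lc_g_rc_27_6 lc_g_Cert_tree lc_g_rc_21_3 lc_g_Cert_tree lc_g_Cert_tree lc_g_rc_21_2 lc_g_rc_21_3 lc_g_Cert_tree lc_g_Cert_tree lc_g_rc_21_2 lc_g_rc_21_2 lc_g_rc_27_6 lc_g_rc_27_3 lc_g_Cert_tree lc_g_rc_27_3 lc_g_rc_26_3 lc_g_rc_27_0 lc_g_rc_25_3 lc_g_rc_23_7 lc_g_rc_24_7 lc_g_rc_27_0 lc_g_rc_26_3 lc_g_rc_26_9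 lc_g_rc_23_1) (@D3.rec (fun _ => (Cert rels S Gen.g)) lc_g_rc_24_9 lc_g_rc_21_2 lc_g_rc_21_2 lc_g_rc_24_3 lc_g_Cert_tree lc_g_rc_21_3 lc_g_Cert_tree lc_g_rc_27_6 lc_g_Cert_tree lc_g_Cert_tree lc_g_rc_21_2 lc_g_rc_21_2 lc_g_rc_26_9 lc_g_rc_24_9 lc_g_rc_21_3 lc_g_rc_26_3 lc_g_rc_21_3 lc_g_rc_26_6 lc_g_rc_23_9 lc_g_rc_21_2 lc_g_rc_21_3 lc_g_Cert_tree lc_g_Cert_tree lc_g_rc_21_3 lc_g_Cert_tree lc_g_Cert_tree lc_g_rc_21_3 lc_g_Cert_tree lc_g_rc_27_9 lc_g_rc_21_2 lc_g_rc_24_9 lc_g_rc_27_0 lc_g_rc_21_2 lc_g_rc_27_6 lc_g_rc_21_2 lc_g_rc_24_3 lc_g_Cert_tree lc_g_rc_27_0 lc_g_Cert_tree lc_g_rc_21_2 lc_g_rc_21_2 lc_g_rc_21_3 lc_g_Cert_tree lc_g_rc_21_2 lc_g_Cert_tree lc_g_rc_26_9 lc_g_Cert_tree lc_g_rc_21_2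 lc_g_rc_21_2 lc_g_rc_26_0 lc_g_rc_21_3 lc_g_rc_24_7 lc_g_rc_21_2 lc_g_rc_21_2 lc_g_Cert_tree lc_g_rc_21_3 lc_g_Cert_tree lc_g_rc_27_3 lc_g_rc_21_2 lc_g_rc_21_3 lc_g_rc_26_9 lc_g_rc_26_0) (@D3.rec (fun _ => (Cert rels S Gen.g)) lc_g_rc_24_9 lc_g_rc_21_3 lc_g_rc_21_2 lc_g_rc_21_3 lc_g_Cert_tree lc_g_Cert_tree lc_g_Cert_tree lc_g_rc_21_3 lc_g_Cert_tree lc_g_Cert_tree lc_g_rc_21_2 lc_g_Cert_tree lc_g_Cert_tree lc_g_rc_27_9 lc_g_rc_21_3 lc_g_rc_23_1 lc_g_rc_21_2 lc_g_Cert_tree lc_g_rc_27_3 lc_g_rc_21_2 lc_g_rc_21_2 lc_g_Cert_tree lc_g_Cert_tree lc_g_Cert_tree lc_g_rc_27_9 lc_g_Cert_tree lc_g_rc_24_7 lc_g_Cert_tree lc_g_Cert_tree lc_g_rc_21_2 lc_g_rc_27_6 lc_g_rc_24_1 lc_g_rc_26_6 lc_g_rc_21_3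 lc_g_Cert_tree lc_g_Cert_tree lc_g_rc_21_2 lc_g_rc_21_3 lc_g_rc_26_3 lc_g_rc_27_9 lc_g_rc_23_1 lc_g_rc_23_3 lc_g_Cert_tree lc_g_rc_24_3 lc_g_Cert_tree lc_g_rc_23_9 lc_g_Cert_tree lc_g_rc_27_3 lc_g_rc_21_2 lc_g_Cert_tree lc_g_Cert_tree lc_g_rc_23_1 lc_g_rc_24_3 lc_g_Cert_tree lc_g_rc_21_2 lc_g_rc_26_3 lc_g_rc_21_3 lc_g_rc_27_9 lc_g_rc_24_3 lc_g_Cert_tree lc_g_Cert_tree lc_g_rc_21_2) (@D3.rec (fun _ => (Cert rels S Gen.g)) lc_g_rc_21_3 lc_g_rc_21_3 lc_g_Cert_tree lc_g_rc_23_9 lc_g_rc_21_3 lc_g_Cert_tree lc_g_rc_21_2 lc_g_rc_21_2 lc_g_Cert_tree lc_g_Cert_tree lc_g_rc_21_3 lc_g_Cert_tree lc_g_rc_21_2 lc_g_rc_21_3 lc_g_rc_27_6 lc_g_Cert_tree lc_g_rc_24_1 lc_g_rc_26_6 lc_g_rc_23_1 lc_g_rc_21_3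 lc_g_rc_21_2 lc_g_rc_21_3 lc_g_Cert_tree lc_g_Cert_tree lc_g_rc_21_2 lc_g_rc_23_9 lc_g_rc_27_0 lc_g_rc_24_3 lc_g_rc_23_9 lc_g_rc_27_9 lc_g_rc_23_1 lc_g_Cert_tree lc_g_rc_23_1 lc_g_rc_26_3 lc_g_rc_26_0 lc_g_rc_21_3 lc_g_rc_23_9 lc_g_rc_21_3 lc_g_rc_24_1 lc_g_rc_26_3 lc_g_Cert_tree lc_g_rc_27_3 lc_g_rc_27_3 lc_g_rc_21_2 lc_g_Cert_tree lc_g_rc_21_2 lc_g_rc_24_7 lc_g_rc_26_3 lc_g_rc_21_3 lc_g_Cert_tree lc_g_Cert_tree lc_g_Cert_tree lc_g_rc_26_3 lc_g_Cert_tree lc_g_Cert_tree lc_g_rc_26_0 lc_g_rc_26_6 lc_g_rc_27_3 lc_g_rc_24_9 lc_g_Cert_tree lc_g_rc_21_2 lc_g_Cert_tree) (@D3.rec (fun _ => (Cert rels S Gen.g)) lc_g_rc_21_3 lc_g_Cert_tree lc_g_rc_21_3 lc_g_rc_27_6 lc_g_rc_24_1 lc_g_rc_27_9 lc_g_rc_21_3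 lc_g_Cert_tree lc_g_Cert_tree lc_g_rc_21_2 lc_g_rc_21_3 lc_g_rc_21_2 lc_g_Cert_tree lc_g_rc_24_9 lc_g_Cert_tree lc_g_Cert_tree lc_g_rc_21_2 lc_g_Cert_tree lc_g_rc_21_2 lc_g_Cert_tree lc_g_rc_27_6 lc_g_rc_26_3 lc_g_rc_24_1 lc_g_rc_26_6 lc_g_rc_21_3 lc_g_rc_21_3 lc_g_rc_26_6 lc_g_rc_23_7 lc_g_rc_26_9 lc_g_rc_27_3 lc_g_rc_26_0 lc_g_rc_24_9 lc_g_rc_24_7 lc_g_Cert_tree lc_g_rc_21_3 lc_g_rc_24_7 lc_g_Cert_tree lc_g_rc_21_3 lc_g_rc_24_7 lc_g_Cert_tree lc_g_rc_21_3 lc_g_Cert_tree lc_g_rc_23_7 lc_g_Cert_tree lc_g_rc_26_6 lc_g_rc_27_9 lc_g_rc_24_7 lc_g_Cert_tree lc_g_rc_27_0 lc_g_Cert_tree lc_g_rc_21_2 lc_g_rc_21_2 lc_g_rc_24_3 lc_g_Cert_tree lc_g_rc_21_3 lc_g_Cert_tree lc_g_rc_21_2 lc_g_rc_21_3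 lc_g_rc_21_3 lc_g_Cert_tree lc_g_rc_24_9 lc_g_rc_26_6) (@D3.rec (fun _ => (Cert rels S Gen.g)) lc_g_rc_27_6 lc_g_rc_24_1 lc_g_Cert_tree lc_g_rc_26_3 lc_g_rc_23_7 lc_g_rc_26_6 lc_g_rc_23_9 lc_g_rc_23_3 lc_g_rc_23_3 lc_g_rc_24_7 lc_g_rc_24_7 lc_g_rc_26_6 lc_g_rc_26_9 lc_g_rc_21_2 lc_g_rc_26_3 lc_g_rc_21_2 lc_g_rc_26_6 lc_g_rc_23_3 lc_g_Cert_tree lc_g_rc_26_6 lc_g_rc_26_6 lc_g_Cert_tree lc_g_Cert_tree lc_g_rc_26_0 lc_g_rc_27_3 lc_g_rc_24_9 lc_g_rc_26_3 lc_g_rc_27_3 lc_g_rc_21_2 lc_g_Cert_tree lc_g_rc_21_3 lc_g_Cert_tree lc_g_rc_21_3 lc_g_rc_24_7 lc_g_rc_23_1 lc_g_rc_21_2 lc_g_rc_21_3 lc_g_Cert_tree lc_g_Cert_tree lc_g_Cert_tree lc_g_rc_21_3 lc_g_Cert_tree lc_g_rc_21_2 lc_g_rc_27_9 lc_g_rc_27_9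 lc_g_rc_27_0 lc_g_rc_27_3 lc_g_rc_27_3 lc_g_rc_21_3 lc_g_rc_21_3 lc_g_Cert_tree lc_g_rc_27_0 lc_g_rc_23_7 lc_g_rc_26_9 lc_g_rc_24_1 lc_g_rc_26_6 lc_g_Cert_tree lc_g_rc_27_3 lc_g_rc_21_2 lc_g_Cert_tree lc_g_Cert_tree lc_g_rc_21_3) (@D3.rec (fun _ => (Cert rels S Gen.g)) lc_g_rc_23_1 lc_g_rc_24_9 lc_g_rc_21_3 lc_g_Cert_tree lc_g_Cert_tree lc_g_rc_26_9 lc_g_rc_26_3 lc_g_rc_26_3 lc_g_rc_27_6 lc_g_rc_21_3 lc_g_rc_23_3 lc_g_rc_27_9 lc_g_rc_23_9 lc_g_rc_21_2 lc_g_Cert_tree lc_g_rc_27_3 lc_g_rc_24_1 lc_g_rc_26_0 lc_g_rc_26_3 lc_g_rc_21_2 lc_g_rc_26_6 lc_g_rc_24_9 lc_g_rc_27_6 lc_g_rc_26_6 lc_g_rc_21_3 lc_g_rc_21_3 lc_g_Cert_tree lc_g_rc_21_2 lc_g_rc_21_2 lc_g_rc_21_3 lc_g_Cert_tree lc_g_rc_25_7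 lc_g_Cert_tree lc_g_Cert_tree lc_g_Cert_tree lc_g_rc_23_1 lc_g_rc_21_3 lc_g_rc_26_3 lc_g_rc_21_3 lc_g_rc_27_0 lc_g_Cert_tree lc_g_Cert_tree lc_g_rc_23_1 lc_g_rc_23_9 lc_g_rc_26_6 lc_g_rc_24_7 lc_g_rc_24_1 lc_g_rc_23_9 lc_g_rc_24_7 lc_g_rc_27_6 lc_g_rc_21_3 lc_g_Cert_tree lc_g_Cert_tree lc_g_rc_23_9 lc_g_Cert_tree lc_g_rc_21_3 lc_g_Cert_tree lc_g_rc_21_2 lc_g_rc_21_2 lc_g_rc_26_3 lc_g_Cert_tree lc_g_rc_23_1) (@D3.rec (fun _ => (Cert rels S Gen.g)) lc_g_Cert_tree lc_g_rc_25_19 lc_g_Cert_tree lc_g_Cert_tree lc_g_rc_21_3 lc_g_Cert_tree lc_g_Cert_tree lc_g_rc_21_2 lc_g_rc_24_1 lc_g_rc_26_3 lc_g_rc_27_6 lc_g_Cert_tree lc_g_rc_23_1 lc_g_Cert_tree lc_g_rc_21_3 lc_g_Cert_tree lc_g_Cert_tree lc_g_rc_21_2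 lc_g_Cert_tree lc_g_rc_23_7 lc_g_rc_21_2 lc_g_rc_25_15 lc_g_rc_23_7 lc_g_Cert_tree lc_g_rc_21_3 lc_g_Cert_tree lc_g_rc_21_2 lc_g_Cert_tree lc_g_Cert_tree lc_g_rc_21_3 lc_g_Cert_tree lc_g_rc_21_2 lc_g_Cert_tree lc_g_rc_23_9 lc_g_rc_21_3 lc_g_Cert_tree lc_g_Cert_tree lc_g_rc_21_2 lc_g_Cert_tree lc_g_rc_21_3 lc_g_Cert_tree lc_g_Cert_tree lc_g_rc_21_3 lc_g_rc_27_6 lc_g_Cert_tree lc_g_Cert_tree lc_g_rc_21_2 lc_g_rc_21_3 lc_g_Cert_tree lc_g_Cert_tree lc_g_rc_26_9 lc_g_rc_21_3 lc_g_rc_27_3 lc_g_rc_21_2 lc_g_rc_23_1 lc_g_rc_24_1 lc_g_Cert_tree lc_g_Cert_tree lc_g_rc_24_1 lc_g_Cert_tree lc_g_rc_26_3 lc_g_Cert_tree) (@D3.rec (fun _ => (Cert rels S Gen.g)) lc_g_Cert_tree lc_g_Cert_tree lc_g_rc_21_3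 lc_g_Cert_tree lc_g_Cert_tree lc_g_rc_21_2 lc_g_rc_21_2 lc_g_rc_27_9 lc_g_rc_27_3 lc_g_rc_24_1 lc_g_Cert_tree lc_g_rc_21_3 lc_g_Cert_tree lc_g_Cert_tree lc_g_rc_21_2 lc_g_rc_24_3 lc_g_rc_27_6 lc_g_rc_21_3 lc_g_Cert_tree lc_g_Cert_tree lc_g_Cert_tree lc_g_Cert_tree lc_g_Cert_tree lc_g_rc_21_2 lc_g_Cert_tree lc_g_rc_27_3 lc_g_rc_24_9 lc_g_rc_27_0 lc_g_rc_21_3 lc_g_Cert_tree lc_g_Cert_tree lc_g_rc_21_2 lc_g_rc_26_0 lc_g_Cert_tree lc_g_Cert_tree lc_g_rc_21_3 lc_g_rc_26_6 lc_g_Cert_tree lc_g_rc_21_3 lc_g_Cert_tree lc_g_rc_26_6 lc_g_rc_21_2 lc_g_Cert_tree lc_g_Cert_tree lc_g_rc_24_9 lc_g_rc_26_6 lc_g_rc_24_1 lc_g_Cert_tree lc_g_rc_21_3 lc_g_Cert_tree lc_g_Cert_tree lc_g_rc_21_2 lc_g_rc_21_3 lc_g_rc_21_2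 lc_g_Cert_tree lc_g_Cert_tree lc_g_Cert_tree lc_g_rc_21_2 lc_g_rc_23_1 lc_g_Cert_tree lc_g_rc_23_9 lc_g_rc_27_3) (@D3.rec (fun _ => (Cert rels S Gen.g)) lc_g_Cert_tree lc_g_rc_23_7 lc_g_rc_27_6 lc_g_Cert_tree lc_g_Cert_tree lc_g_rc_21_3 lc_g_rc_21_3 lc_g_rc_27_6 lc_g_rc_26_0 lc_g_rc_26_6 lc_g_rc_24_1 lc_g_rc_27_0 lc_g_rc_24_3 lc_g_rc_27_3 lc_g_rc_27_0 lc_g_rc_21_2 lc_g_Cert_tree lc_g_rc_27_9 lc_g_rc_27_9 lc_g_rc_27_9 lc_g_rc_21_3 lc_g_Cert_tree lc_g_Cert_tree lc_g_Cert_tree lc_g_rc_24_1 lc_g_rc_27_3 lc_g_rc_24_9 lc_g_rc_27_6 lc_g_rc_26_6 lc_g_rc_21_3 lc_g_Cert_tree lc_g_Cert_tree lc_g_Cert_tree lc_g_rc_23_7 lc_g_rc_21_3 lc_g_Cert_tree lc_g_rc_26_3 lc_g_Cert_tree lc_g_rc_21_3 lc_g_Cert_tree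 lc_g_rc_21_2 lc_g_rc_26_6 lc_g_rc_27_0 lc_g_Cert_tree lc_g_rc_26_6 lc_g_rc_24_7 lc_g_rc_26_0 lc_g_rc_26_3 lc_g_rc_21_2 lc_g_rc_27_6 lc_g_rc_24_3 lc_g_Cert_tree lc_g_rc_21_2 lc_g_rc_21_2 lc_g_rc_21_2 lc_g_rc_23_3 lc_g_rc_27_3 lc_g_rc_21_3 lc_g_Cert_tree lc_g_rc_21_2 lc_g_Cert_tree lc_g_rc_23_3) (@D3.rec (fun _ => (Cert rels S Gen.g)) lc_g_Cert_tree lc_g_Cert_tree lc_g_rc_23_7 lc_g_rc_21_2 lc_g_Cert_tree lc_g_rc_21_3 lc_g_Cert_tree lc_g_Cert_tree lc_g_Cert_tree lc_g_rc_26_3 lc_g_rc_21_2 lc_g_rc_21_3 lc_g_Cert_tree lc_g_rc_21_2 lc_g_Cert_tree lc_g_rc_21_3 lc_g_Cert_tree lc_g_rc_21_3 lc_g_Cert_tree lc_g_rc_21_2 lc_g_Cert_tree lc_g_Cert_tree lc_g_Cert_tree lc_g_rc_27_9 lc_g_rc_23_7 lc_g_Cert_tree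 lc_g_rc_24_1 lc_g_rc_23_1 lc_g_rc_21_2 lc_g_rc_21_3 lc_g_rc_26_6 lc_g_rc_26_0 lc_g_rc_26_0 lc_g_rc_23_9 lc_g_Cert_tree lc_g_rc_27_3 lc_g_rc_21_3 lc_g_rc_23_1 lc_g_rc_27_6 lc_g_rc_27_3 lc_g_rc_21_2 lc_g_Cert_tree lc_g_rc_26_9 lc_g_rc_27_0 lc_g_rc_23_3 lc_g_rc_23_1 lc_g_rc_26_6 lc_g_rc_21_3 lc_g_rc_21_2 lc_g_Cert_tree lc_g_rc_21_3 lc_g_Cert_tree lc_g_rc_21_2 lc_g_rc_26_6 lc_g_rc_27_9 lc_g_Cert_tree lc_g_rc_21_3 lc_g_Cert_tree lc_g_rc_26_6 lc_g_rc_26_6 lc_g_rc_23_7 lc_g_Cert_tree) (@D3.rec (fun _ => (Cert rels S Gen.g)) lc_g_rc_27_3 lc_g_rc_21_2 lc_g_rc_23_1 lc_g_Cert_tree lc_g_rc_21_3 lc_g_rc_21_3 lc_g_rc_24_1 lc_g_Cert_tree lc_g_rc_21_3 lc_g_rc_26_0 lc_g_Cert_tree lc_g_rc_27_3 lc_g_rc_26_3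 lc_g_rc_21_3 lc_g_rc_24_9 lc_g_rc_23_7 lc_g_rc_21_2 lc_g_Cert_tree lc_g_rc_21_2 lc_g_rc_26_0 lc_g_Cert_tree lc_g_Cert_tree lc_g_rc_24_1 lc_g_rc_26_0 lc_g_rc_24_1 lc_g_rc_21_3 lc_g_rc_24_9 lc_g_Cert_tree lc_g_Cert_tree lc_g_Cert_tree lc_g_Cert_tree lc_g_rc_21_2 lc_g_Cert_tree lc_g_rc_26_6 lc_g_rc_26_6 lc_g_rc_21_2 lc_g_rc_26_6 lc_g_rc_26_3 lc_g_Cert_tree lc_g_rc_21_3 lc_g_rc_21_3 lc_g_rc_25_19 lc_g_Cert_tree lc_g_Cert_tree lc_g_rc_23_1 lc_g_Cert_tree lc_g_Cert_tree lc_g_rc_21_2 lc_g_rc_23_7 lc_g_rc_21_2 lc_g_rc_21_3 lc_g_Cert_tree lc_g_rc_21_2 lc_g_Cert_tree lc_g_rc_23_3 lc_g_Cert_tree lc_g_Cert_tree lc_g_rc_26_0 lc_g_Cert_tree lc_g_rc_21_3 lc_g_rc_21_3 lc_g_rc_26_0) (@D3.rec (fun _ => (Cert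 rels S Gen.g)) lc_g_rc_26_0 lc_g_Cert_tree lc_g_Cert_tree lc_g_rc_23_9 lc_g_Cert_tree lc_g_Cert_tree lc_g_rc_27_9 lc_g_rc_26_0 lc_g_Cert_tree lc_g_Cert_tree lc_g_rc_21_2 lc_g_Cert_tree lc_g_rc_21_3 lc_g_rc_21_3 lc_g_rc_21_3 lc_g_Cert_tree lc_g_rc_21_2 lc_g_rc_27_6 lc_g_rc_21_3 lc_g_Cert_tree lc_g_Cert_tree lc_g_rc_21_2 lc_g_Cert_tree lc_g_Cert_tree lc_g_Cert_tree lc_g_rc_24_3 lc_g_rc_21_3 lc_g_rc_26_3 lc_g_Cert_tree lc_g_rc_26_6 lc_g_rc_26_0 lc_g_rc_26_6 lc_g_rc_26_3 lc_g_Cert_tree lc_g_Cert_tree lc_g_rc_21_3 lc_g_rc_21_2 lc_g_Cert_tree lc_g_Cert_tree lc_g_Cert_tree lc_g_Cert_tree lc_g_rc_21_2 lc_g_rc_21_2 lc_g_Cert_tree lc_g_rc_26_6 lc_g_rc_21_2 lc_g_Cert_tree lc_g_rc_21_2 lc_g_rc_24_9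 lc_g_rc_26_6 lc_g_rc_21_3 lc_g_rc_24_9 lc_g_rc_26_6 lc_g_rc_21_3 lc_g_rc_26_6 lc_g_rc_21_3 lc_g_Cert_tree lc_g_rc_27_3 lc_g_rc_24_1 lc_g_rc_23_7 lc_g_rc_21_3 lc_g_rc_24_1) (@D3.rec (fun _ => (Cert rels S Gen.g)) lc_g_rc_24_1 lc_g_rc_26_0 lc_g_Cert_tree lc_g_rc_21_2 lc_g_rc_26_0 lc_g_Cert_tree lc_g_rc_27_3 lc_g_rc_26_3 lc_g_Cert_tree lc_g_rc_21_2 lc_g_rc_27_6 lc_g_Cert_tree lc_g_rc_27_3 lc_g_rc_21_2 lc_g_Cert_tree lc_g_Cert_tree lc_g_rc_21_2 lc_g_Cert_tree lc_g_rc_21_3 lc_g_Cert_tree lc_g_rc_21_2 lc_g_rc_24_1 lc_g_rc_26_3 lc_g_rc_27_0 lc_g_rc_24_9 lc_g_Cert_tree lc_g_rc_26_0 lc_g_Cert_tree lc_g_rc_27_0 lc_g_rc_23_3 lc_g_rc_26_3 lc_g_Cert_tree lc_g_Cert_tree lc_g_rc_23_1 lc_g_Cert_tree lc_g_Cert_tree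 lc_g_rc_26_6 lc_g_Cert_tree lc_g_rc_27_9 lc_g_rc_27_0 lc_g_Cert_tree lc_g_rc_27_9 lc_g_rc_23_3 lc_g_rc_21_3 lc_g_rc_21_2 lc_g_rc_21_2 lc_g_Cert_tree lc_g_rc_21_2 lc_g_Cert_tree lc_g_rc_21_2 lc_g_rc_21_3 lc_g_Cert_tree lc_g_Cert_tree lc_g_rc_21_2 lc_g_Cert_tree lc_g_Cert_tree lc_g_Cert_tree lc_g_Cert_tree lc_g_Cert_tree lc_g_rc_21_3 lc_g_rc_27_6 lc_g_rc_27_9) (@D3.rec (fun _ => (Cert rels S Gen.g)) lc_g_rc_27_9 lc_g_rc_21_2 lc_g_rc_21_3 lc_g_Cert_tree lc_g_rc_23_9 lc_g_rc_23_1 lc_g_rc_23_3 lc_g_Cert_tree lc_g_Cert_tree lc_g_rc_21_3 lc_g_Cert_tree lc_g_rc_21_2 lc_g_rc_21_3 lc_g_rc_24_3 lc_g_rc_21_3 lc_g_rc_21_3 lc_g_rc_21_2 lc_g_Cert_tree lc_g_Cert_tree lc_g_Cert_tree lc_g_rc_21_3 lc_g_rc_21_3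 lc_g_Cert_tree lc_g_rc_23_1 lc_g_Cert_tree lc_g_rc_27_6 lc_g_rc_21_3 lc_g_Cert_tree lc_g_Cert_tree lc_g_rc_21_2 lc_g_rc_21_3 lc_g_rc_23_9 lc_g_rc_26_6 lc_g_rc_27_0 lc_g_rc_27_3 lc_g_rc_21_2 lc_g_rc_23_1 lc_g_rc_23_3 lc_g_rc_21_3 lc_g_Cert_tree lc_g_rc_24_9 lc_g_rc_26_6 lc_g_rc_21_2 lc_g_Cert_tree lc_g_Cert_tree lc_g_rc_24_1 lc_g_rc_26_0 lc_g_Cert_tree lc_g_rc_26_0 lc_g_Cert_tree lc_g_Cert_tree lc_g_Cert_tree lc_g_rc_23_7 lc_g_Cert_tree lc_g_rc_21_3 lc_g_rc_21_2 lc_g_rc_21_2 lc_g_rc_27_3 lc_g_Cert_tree lc_g_rc_26_0 lc_g_rc_26_0 lc_g_Cert_tree) (@D3.rec (fun _ => (Cert rels S Gen.g)) lc_g_rc_24_1 lc_g_Cert_tree lc_g_Cert_tree lc_g_rc_26_6 lc_g_Cert_tree lc_g_rc_23_1 lc_g_Cert_tree lc_g_rc_21_3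 lc_g_Cert_tree lc_g_rc_21_2 lc_g_rc_21_2 lc_g_rc_24_3 lc_g_rc_21_3 lc_g_rc_23_9 lc_g_Cert_tree lc_g_Cert_tree lc_g_Cert_tree lc_g_rc_25_7 lc_g_rc_23_7 lc_g_Cert_tree lc_g_rc_21_3 lc_g_Cert_tree lc_g_rc_21_2 lc_g_rc_21_3 lc_g_rc_21_2 lc_g_Cert_tree lc_g_rc_24_1 lc_g_Cert_tree lc_g_Cert_tree lc_g_rc_21_3 lc_g_rc_21_3 lc_g_rc_25_7 lc_g_rc_21_3 lc_g_rc_26_3 lc_g_rc_24_1 lc_g_Cert_tree lc_g_rc_23_9 lc_g_Cert_tree lc_g_rc_21_3 lc_g_Cert_tree lc_g_Cert_tree lc_g_rc_21_2 lc_g_Cert_tree lc_g_Cert_tree lc_g_Cert_tree lc_g_rc_24_7 lc_g_rc_21_3 lc_g_rc_23_1 lc_g_rc_21_3 lc_g_rc_27_0 lc_g_rc_21_3 lc_g_Cert_tree lc_g_rc_24_1 lc_g_rc_26_0 lc_g_rc_26_3 lc_g_rc_24_1 lc_g_rc_21_3 lc_g_rc_27_9 lc_g_Cert_tree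 lc_g_rc_21_2 lc_g_rc_26_3 lc_g_Cert_tree) (@D3.rec (fun _ => (Cert rels S Gen.g)) lc_g_rc_24_1 lc_g_rc_24_7 lc_g_rc_24_1 lc_g_rc_24_7 lc_g_rc_23_3 lc_g_rc_21_3 lc_g_Cert_tree lc_g_Cert_tree lc_g_rc_23_1 lc_g_rc_21_2 lc_g_rc_27_0 lc_g_rc_21_3 lc_g_Cert_tree lc_g_Cert_tree lc_g_Cert_tree lc_g_rc_21_2 lc_g_rc_21_3 lc_g_rc_27_0 lc_g_rc_26_6 lc_g_rc_26_9 lc_g_rc_24_9 lc_g_rc_21_3 lc_g_rc_27_9 lc_g_rc_24_1 lc_g_rc_27_3 lc_g_Cert_tree lc_g_rc_23_9 lc_g_Cert_tree lc_g_rc_26_0 lc_g_rc_26_0 lc_g_rc_23_9 lc_g_rc_24_3 lc_g_Cert_tree lc_g_rc_24_9 lc_g_rc_21_2 lc_g_rc_24_9 lc_g_Cert_tree lc_g_rc_23_3 lc_g_Cert_tree lc_g_rc_21_2 lc_g_rc_24_9 lc_g_Cert_tree lc_g_Cert_tree lc_g_Cert_tree lc_g_Cert_tree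 lc_g_Cert_tree lc_g_rc_21_3 lc_g_rc_21_2 lc_g_rc_23_3 lc_g_rc_21_2 lc_g_Cert_tree lc_g_rc_26_9 lc_g_Cert_tree lc_g_Cert_tree lc_g_rc_21_3 lc_g_Cert_tree lc_g_rc_24_1 lc_g_Cert_tree lc_g_Cert_tree lc_g_rc_26_6 lc_g_Cert_tree lc_g_Cert_tree) (@D3.rec (fun _ => (Cert rels S Gen.g)) lc_g_Cert_tree lc_g_rc_21_3 lc_g_Cert_tree lc_g_rc_27_0 lc_g_rc_21_2 lc_g_rc_23_9 lc_g_rc_23_3 lc_g_rc_26_3 lc_g_Cert_tree lc_g_Cert_tree lc_g_rc_23_7 lc_g_Cert_tree lc_g_Cert_tree lc_g_Cert_tree lc_g_rc_23_3 lc_g_Cert_tree lc_g_Cert_tree lc_g_rc_21_2 lc_g_Cert_tree lc_g_rc_23_7 lc_g_rc_27_6 lc_g_rc_25_7 lc_g_rc_21_3 lc_g_rc_26_3 lc_g_rc_24_1 lc_g_Cert_tree lc_g_Cert_tree lc_g_rc_21_3 lc_g_Cert_tree lc_g_Cert_tree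 lc_g_rc_21_2 lc_g_rc_21_3 lc_g_Cert_tree lc_g_rc_27_6 lc_g_rc_27_6 lc_g_rc_21_3 lc_g_rc_24_3 lc_g_rc_21_3 lc_g_Cert_tree lc_g_Cert_tree lc_g_rc_21_2 lc_g_rc_24_1 lc_g_rc_24_1 lc_g_rc_24_7 lc_g_rc_23_3 lc_g_Cert_tree lc_g_Cert_tree lc_g_rc_23_9 lc_g_rc_21_2 lc_g_rc_27_0 lc_g_rc_21_3 lc_g_rc_21_2 lc_g_Cert_tree lc_g_rc_26_3 lc_g_rc_24_3 lc_g_rc_21_2 lc_g_rc_21_3 lc_g_rc_26_0 lc_g_Cert_tree lc_g_rc_23_7 lc_g_rc_23_3 lc_g_rc_21_3) (@D3.rec (fun _ => (Cert rels S Gen.g)) lc_g_Cert_tree lc_g_rc_27_3 lc_g_rc_24_3 lc_g_rc_26_0 lc_g_rc_24_9 lc_g_Cert_tree lc_g_rc_23_3 lc_g_Cert_tree lc_g_rc_21_3 lc_g_Cert_tree lc_g_rc_21_2 lc_g_Cert_tree lc_g_rc_21_2 lc_g_rc_25_7 lc_g_rc_26_3 lc_g_rc_23_3 lc_g_Cert_tree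 lc_g_rc_21_3 lc_g_Cert_tree lc_g_Cert_tree lc_g_rc_21_2 lc_g_Cert_tree lc_g_Cert_tree lc_g_rc_21_3 lc_g_rc_23_1 lc_g_rc_26_0 lc_g_rc_26_9 lc_g_rc_26_0 lc_g_Cert_tree lc_g_Cert_tree lc_g_rc_21_3 lc_g_rc_26_3 lc_g_Cert_tree lc_g_rc_23_1 lc_g_Cert_tree lc_g_Cert_tree lc_g_Cert_tree lc_g_rc_23_9 lc_g_Cert_tree lc_g_rc_21_2 lc_g_Cert_tree lc_g_rc_26_3 lc_g_Cert_tree lc_g_rc_24_3 lc_g_Cert_tree lc_g_Cert_tree lc_g_rc_23_9 lc_g_rc_24_3 lc_g_rc_23_9 lc_g_rc_24_1 lc_g_rc_27_6 lc_g_rc_21_3 lc_g_rc_26_6 lc_g_rc_27_6 lc_g_rc_21_2 lc_g_rc_24_1 lc_g_rc_26_6 lc_g_Cert_tree lc_g_rc_27_0 lc_g_rc_27_6 lc_g_Cert_tree lc_g_Cert_tree) (@D3.rec (fun _ => (Cert rels S Gen.g)) lc_g_Cert_tree lc_g_Cert_tree lc_g_rc_23_7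 lc_g_Cert_tree lc_g_rc_21_3 lc_g_Cert_tree lc_g_rc_21_2 lc_g_Cert_tree lc_g_rc_26_0 lc_g_rc_23_9 lc_g_rc_26_6 lc_g_rc_27_0 lc_g_Cert_tree lc_g_rc_23_3 lc_g_Cert_tree lc_g_Cert_tree lc_g_rc_21_2 lc_g_rc_21_2 lc_g_rc_21_3 lc_g_Cert_tree lc_g_rc_21_2 lc_g_Cert_tree lc_g_Cert_tree lc_g_Cert_tree lc_g_Cert_tree lc_g_rc_24_7 lc_g_Cert_tree lc_g_Cert_tree lc_g_rc_24_3 lc_g_Cert_tree lc_g_Cert_tree lc_g_rc_21_2 lc_g_Cert_tree lc_g_rc_21_3 lc_g_rc_21_2 lc_g_Cert_tree lc_g_rc_23_3 lc_g_rc_26_3 lc_g_rc_21_3 lc_g_Cert_tree lc_g_rc_21_2 lc_g_Cert_tree lc_g_rc_21_3 lc_g_Cert_tree lc_g_Cert_tree lc_g_rc_21_2 lc_g_rc_23_1 lc_g_Cert_tree lc_g_rc_27_6 lc_g_rc_27_0 lc_g_rc_27_3 lc_g_rc_26_3 lc_g_Cert_tree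 lc_g_Cert_tree lc_g_rc_21_2 lc_g_rc_23_3 lc_g_rc_24_3 lc_g_rc_26_3 lc_g_rc_24_7 lc_g_rc_23_7 lc_g_rc_24_1 lc_g_rc_27_6) (@D3.rec (fun _ => (Cert rels S Gen.g)) lc_g_rc_26_6 lc_g_Cert_tree lc_g_rc_26_3 lc_g_rc_27_0 lc_g_rc_26_3 lc_g_Cert_tree lc_g_Cert_tree lc_g_Cert_tree lc_g_Cert_tree lc_g_rc_21_2 lc_g_rc_21_2 lc_g_Cert_tree lc_g_rc_21_2 lc_g_rc_27_3 lc_g_rc_26_3 lc_g_rc_27_0 lc_g_Cert_tree lc_g_Cert_tree lc_g_Cert_tree lc_g_rc_23_3 lc_g_Cert_tree lc_g_Cert_tree lc_g_rc_23_7 lc_g_rc_21_2 lc_g_rc_23_9 lc_g_Cert_tree lc_g_Cert_tree lc_g_rc_21_2 lc_g_Cert_tree lc_g_rc_21_2 lc_g_rc_24_3 lc_g_rc_26_6 lc_g_rc_26_3 lc_g_rc_21_3 lc_g_rc_24_9 lc_g_rc_26_9 lc_g_rc_26_3 lc_g_rc_21_2 lc_g_rc_26_6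 lc_g_rc_26_9 lc_g_Cert_tree lc_g_rc_27_3 lc_g_rc_24_3 lc_g_rc_24_9 lc_g_rc_21_3 lc_g_Cert_tree lc_g_rc_24_7 lc_g_rc_21_2 lc_g_rc_27_0 lc_g_rc_24_1 lc_g_rc_26_3 lc_g_Cert_tree lc_g_Cert_tree lc_g_rc_23_7 lc_g_Cert_tree lc_g_rc_21_3 lc_g_rc_24_1 lc_g_rc_21_2 lc_g_rc_26_6 lc_g_Cert_tree lc_g_rc_21_3 lc_g_Cert_tree) (@D3.rec (fun _ => (Cert rels S Gen.g)) lc_g_Cert_tree lc_g_rc_23_7 lc_g_rc_21_3 lc_g_Cert_tree lc_g_rc_23_3 lc_g_rc_26_3 lc_g_rc_21_3 lc_g_Cert_tree lc_g_rc_24_3 lc_g_Cert_tree lc_g_rc_27_9 lc_g_Cert_tree lc_g_Cert_tree lc_g_rc_23_1 lc_g_Cert_tree lc_g_rc_24_7 lc_g_rc_27_6 lc_g_rc_27_6 lc_g_rc_23_7 lc_g_rc_24_7 lc_g_Cert_tree lc_g_Cert_tree lc_g_rc_21_3 lc_g_rc_27_9 lc_g_rc_21_2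 lc_g_rc_21_2 lc_g_rc_27_0 lc_g_rc_27_6 lc_g_Cert_tree lc_g_rc_23_7 lc_g_rc_24_7 lc_g_rc_27_6 lc_g_rc_27_6 lc_g_Cert_tree lc_g_rc_27_9 lc_g_rc_26_3 lc_g_rc_21_3 lc_g_Cert_tree lc_g_rc_21_2 lc_g_rc_23_3 lc_g_rc_21_3 lc_g_rc_27_3 lc_g_rc_23_3 lc_g_rc_24_9 lc_g_Cert_tree lc_g_rc_24_9 lc_g_rc_21_3 lc_g_rc_24_9 lc_g_rc_21_2 lc_g_rc_24_1 lc_g_Cert_tree lc_g_rc_23_1 lc_g_Cert_tree lc_g_Cert_tree lc_g_rc_21_2 lc_g_rc_21_3 lc_g_rc_27_0 lc_g_Cert_tree lc_g_rc_23_7 lc_g_rc_27_6 lc_g_rc_26_0 lc_g_rc_24_1) (@D3.rec (fun _ => (Cert rels S Gen.g)) lc_g_rc_21_2 lc_g_Cert_tree lc_g_rc_23_7 lc_g_Cert_tree lc_g_rc_23_3 lc_g_Cert_tree lc_g_Cert_tree lc_g_rc_21_3 lc_g_Cert_tree lc_g_Cert_tree lc_g_rc_21_2 lc_g_rc_21_2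 lc_g_rc_27_9 lc_g_Cert_tree lc_g_Cert_tree lc_g_Cert_tree lc_g_rc_23_7 lc_g_rc_24_7 lc_g_rc_21_3 lc_g_Cert_tree lc_g_rc_26_9 lc_g_rc_25_15 lc_g_rc_27_6 lc_g_rc_26_0 lc_g_rc_21_3 lc_g_Cert_tree lc_g_rc_26_9 lc_g_Cert_tree lc_g_Cert_tree lc_g_Cert_tree lc_g_rc_24_3 lc_g_Cert_tree lc_g_Cert_tree lc_g_rc_23_9 lc_g_rc_24_3 lc_g_rc_26_0 lc_g_rc_21_3 lc_g_Cert_tree lc_g_rc_23_9 lc_g_Cert_tree lc_g_Cert_tree lc_g_Cert_tree lc_g_rc_26_6 lc_g_rc_23_9 lc_g_Cert_tree lc_g_Cert_tree lc_g_rc_27_9 lc_g_rc_21_3 lc_g_Cert_tree lc_g_rc_27_9 lc_g_rc_27_6 lc_g_rc_21_3 lc_g_Cert_tree lc_g_rc_21_2 lc_g_Cert_tree lc_g_Cert_tree lc_g_Cert_tree lc_g_rc_21_3 lc_g_Cert_tree lc_g_Cert_tree lc_g_rc_21_2 lc_g_rc_26_0)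 (@D3.rec (fun _ => (Cert rels S Gen.g)) lc_g_Cert_tree lc_g_rc_26_6 lc_g_rc_21_3 lc_g_rc_24_7 lc_g_rc_21_2 lc_g_Cert_tree lc_g_Cert_tree lc_g_rc_21_3 lc_g_rc_26_9 lc_g_rc_21_3 lc_g_Cert_tree lc_g_rc_21_2 lc_g_Cert_tree lc_g_rc_26_3 lc_g_rc_26_6 lc_g_Cert_tree lc_g_Cert_tree lc_g_rc_21_3 lc_g_rc_26_0 lc_g_Cert_tree lc_g_rc_23_3 lc_g_Cert_tree lc_g_Cert_tree lc_g_rc_24_3 lc_g_Cert_tree lc_g_Cert_tree lc_g_rc_26_3 lc_g_rc_26_0 lc_g_rc_27_9 lc_g_rc_21_3 lc_g_rc_26_6 lc_g_rc_24_3 lc_g_rc_26_6 lc_g_rc_21_2 lc_g_Cert_tree lc_g_rc_24_3 lc_g_rc_26_0 lc_g_rc_21_3 lc_g_Cert_tree lc_g_Cert_tree lc_g_rc_21_2 lc_g_rc_21_3 lc_g_Cert_tree lc_g_rc_21_2 lc_g_Cert_tree lc_g_Cert_tree lc_g_Cert_tree lc_g_rc_21_2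 lc_g_Cert_tree lc_g_Cert_tree lc_g_rc_21_2 lc_g_rc_27_6 lc_g_rc_23_7 lc_g_rc_21_2 lc_g_Cert_tree lc_g_Cert_tree lc_g_Cert_tree lc_g_rc_21_3 lc_g_Cert_tree lc_g_rc_21_2 lc_g_rc_26_0 lc_g_rc_26_6) (@D3.rec (fun _ => (Cert rels S Gen.g)) lc_g_Cert_tree lc_g_Cert_tree lc_g_rc_21_2 lc_g_Cert_tree lc_g_Cert_tree lc_g_rc_26_9 lc_g_rc_21_3 lc_g_Cert_tree lc_g_rc_21_2 lc_g_rc_25_19 lc_g_Cert_tree lc_g_Cert_tree lc_g_rc_26_0 lc_g_Cert_tree lc_g_Cert_tree lc_g_rc_26_3 lc_g_rc_26_6 lc_g_rc_23_7 lc_g_rc_21_3 lc_g_rc_21_2 lc_g_Cert_tree lc_g_rc_21_3 lc_g_Cert_tree lc_g_Cert_tree lc_g_rc_21_3 lc_g_Cert_tree lc_g_Cert_tree lc_g_rc_21_2 lc_g_rc_26_3 lc_g_Cert_tree lc_g_rc_24_3 lc_g_Cert_tree lc_g_Cert_tree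 lc_g_Cert_tree lc_g_rc_21_3 lc_g_Cert_tree lc_g_Cert_tree lc_g_rc_21_2 lc_g_Cert_tree lc_g_Cert_tree lc_g_Cert_tree lc_g_Cert_tree lc_g_rc_24_1 lc_g_rc_26_6 lc_g_rc_21_3 lc_g_rc_24_1 lc_g_rc_23_3 lc_g_rc_21_3 lc_g_Cert_tree lc_g_Cert_tree lc_g_rc_21_2 lc_g_rc_24_7 lc_g_rc_21_3 lc_g_Cert_tree lc_g_Cert_tree lc_g_rc_21_2 lc_g_rc_26_0 lc_g_rc_26_3 lc_g_Cert_tree lc_g_Cert_tree lc_g_rc_21_2 lc_g_Cert_tree) (@D3.rec (fun _ => (Cert rels S Gen.g)) lc_g_Cert_tree lc_g_rc_23_9 lc_g_rc_23_9 lc_g_Cert_tree lc_g_Cert_tree lc_g_rc_27_6 lc_g_Cert_tree lc_g_rc_26_0 lc_g_rc_26_3 lc_g_Cert_tree lc_g_Cert_tree lc_g_rc_26_3 lc_g_rc_24_1 lc_g_Cert_tree lc_g_rc_24_9 lc_g_rc_26_6 lc_g_rc_21_2 lc_g_rc_26_0 lc_g_rc_26_9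 lc_g_rc_23_3 lc_g_rc_26_0 lc_g_rc_26_9 lc_g_rc_23_3 lc_g_Cert_tree lc_g_rc_27_6 lc_g_rc_21_2 lc_g_rc_27_3 lc_g_rc_21_2 lc_g_rc_21_2 lc_g_rc_24_1 lc_g_rc_21_3 lc_g_Cert_tree lc_g_rc_27_0 lc_g_rc_23_1 lc_g_Cert_tree lc_g_rc_21_2 lc_g_rc_21_2 lc_g_rc_21_3 lc_g_Cert_tree lc_g_rc_21_2 lc_g_Cert_tree lc_g_rc_21_3 lc_g_Cert_tree lc_g_rc_26_3 lc_g_rc_24_3 lc_g_Cert_tree lc_g_rc_21_3 lc_g_Cert_tree lc_g_Cert_tree lc_g_rc_21_2 lc_g_rc_26_6 lc_g_Cert_tree lc_g_Cert_tree lc_g_Cert_tree lc_g_rc_26_0 lc_g_rc_21_3 lc_g_rc_26_6 lc_g_rc_26_3 lc_g_rc_21_2 lc_g_rc_27_0 lc_g_Cert_tree lc_g_rc_21_2) (@D3.rec (fun _ => (Cert rels S Gen.g)) lc_g_rc_21_2 lc_g_rc_21_3 lc_g_Cert_tree lc_g_rc_27_0 lc_g_rc_21_2 lc_g_Cert_tree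 lc_g_rc_21_3 lc_g_Cert_tree lc_g_rc_26_6 lc_g_rc_24_3 lc_g_Cert_tree lc_g_rc_21_3 lc_g_Cert_tree lc_g_Cert_tree lc_g_rc_21_2 lc_g_rc_26_9 lc_g_Cert_tree lc_g_rc_26_6 lc_g_rc_27_6 lc_g_rc_21_3 lc_g_rc_21_3 lc_g_Cert_tree lc_g_Cert_tree lc_g_rc_27_3 lc_g_rc_21_3 lc_g_rc_27_3 lc_g_Cert_tree lc_g_rc_23_9 lc_g_Cert_tree lc_g_rc_26_6 lc_g_rc_21_3 lc_g_rc_23_1 lc_g_Cert_tree lc_g_rc_21_3 lc_g_rc_27_9 lc_g_rc_21_2 lc_g_rc_21_3 lc_g_Cert_tree lc_g_Cert_tree lc_g_rc_26_9 lc_g_rc_26_9 lc_g_rc_23_1 lc_g_Cert_tree lc_g_rc_26_6 lc_g_rc_21_3 lc_g_rc_26_6 lc_g_rc_23_3 lc_g_rc_26_9 lc_g_rc_21_2 lc_g_rc_21_2 lc_g_rc_26_6 lc_g_rc_21_3 lc_g_rc_21_3 lc_g_Cert_tree lc_g_Cert_tree lc_g_rc_21_3 lc_g_Cert_tree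 lc_g_rc_21_3 lc_g_Cert_tree lc_g_rc_21_2 lc_g_rc_21_3 lc_g_rc_27_0) (@D3.rec (fun _ => (Cert rels S Gen.g)) lc_g_Cert_tree lc_g_rc_21_3 lc_g_Cert_tree lc_g_Cert_tree lc_g_rc_23_3 lc_g_rc_21_2 lc_g_Cert_tree lc_g_rc_27_0 lc_g_Cert_tree lc_g_rc_27_0 lc_g_Cert_tree lc_g_rc_21_2 lc_g_rc_26_0 lc_g_rc_27_9 lc_g_rc_23_1 lc_g_rc_24_1 lc_g_rc_23_9 lc_g_rc_21_3 lc_g_Cert_tree lc_g_Cert_tree lc_g_rc_21_2 lc_g_rc_26_6 lc_g_rc_27_9 lc_g_rc_23_9 lc_g_rc_24_1 lc_g_rc_27_0 lc_g_rc_21_2 lc_g_rc_24_7 lc_g_rc_27_9 lc_g_rc_21_3 lc_g_Cert_tree lc_g_rc_26_6 lc_g_Cert_tree lc_g_rc_21_2 lc_g_Cert_tree lc_g_rc_24_3 lc_g_rc_21_2 lc_g_Cert_tree lc_g_rc_23_9 lc_g_Cert_tree lc_g_rc_23_7 lc_g_rc_26_3 lc_g_rc_21_3 lc_g_Cert_tree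 lc_g_rc_21_2 lc_g_Cert_tree lc_g_Cert_tree lc_g_rc_26_9 lc_g_rc_27_6 lc_g_rc_24_9 lc_g_rc_21_3 lc_g_Cert_tree lc_g_Cert_tree lc_g_rc_21_2 lc_g_rc_26_9 lc_g_rc_26_0 lc_g_Cert_tree lc_g_rc_21_3 lc_g_rc_26_9 lc_g_rc_26_6 lc_g_rc_23_9 lc_g_rc_21_3) (@D3.rec (fun _ => (Cert rels S Gen.g)) lc_g_Cert_tree lc_g_Cert_tree lc_g_rc_21_2 lc_g_rc_26_6 lc_g_Cert_tree lc_g_Cert_tree lc_g_Cert_tree lc_g_rc_23_3 lc_g_Cert_tree lc_g_rc_26_3 lc_g_rc_24_7 lc_g_rc_24_9 lc_g_Cert_tree lc_g_rc_27_3 lc_g_Cert_tree lc_g_Cert_tree lc_g_rc_21_3 lc_g_Cert_tree lc_g_rc_27_6 lc_g_rc_24_1 lc_g_Cert_tree lc_g_rc_23_3 lc_g_rc_26_0 lc_g_Cert_tree lc_g_rc_21_3 lc_g_rc_26_6 lc_g_rc_26_0 lc_g_rc_23_9 lc_g_rc_26_6 lc_g_rc_27_6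 lc_g_rc_21_2 lc_g_rc_21_3 lc_g_Cert_tree lc_g_Cert_tree lc_g_Cert_tree lc_g_rc_21_3 lc_g_Cert_tree lc_g_rc_21_2 lc_g_rc_23_7 lc_g_rc_21_3 lc_g_rc_21_2 lc_g_rc_24_9 lc_g_rc_27_0 lc_g_rc_26_0 lc_g_rc_26_9 lc_g_rc_27_6 lc_g_rc_27_0 lc_g_rc_24_1 lc_g_rc_26_9 lc_g_rc_21_3 lc_g_Cert_tree lc_g_rc_21_2 lc_g_rc_21_3 lc_g_Cert_tree lc_g_rc_21_3 lc_g_Cert_tree lc_g_rc_24_9 lc_g_rc_21_2 lc_g_rc_26_3 lc_g_Cert_tree lc_g_Cert_tree lc_g_rc_23_3) (@D3.rec (fun _ => (Cert rels S Gen.g)) lc_g_rc_24_9 lc_g_rc_23_7 lc_g_Cert_tree lc_g_rc_27_6 lc_g_rc_21_3 lc_g_rc_21_2 lc_g_rc_21_3 lc_g_rc_21_2 lc_g_Cert_tree lc_g_Cert_tree lc_g_rc_26_3 lc_g_Cert_tree lc_g_rc_26_6 lc_g_rc_23_3 lc_g_Cert_tree lc_g_rc_27_6 lc_g_Cert_tree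 lc_g_rc_26_6 lc_g_rc_21_3 lc_g_Cert_tree lc_g_rc_21_2 lc_g_rc_21_3 lc_g_Cert_tree lc_g_rc_24_9 lc_g_rc_21_2 lc_g_rc_24_1 lc_g_Cert_tree lc_g_rc_26_3 lc_g_rc_24_3 lc_g_rc_23_7 lc_g_rc_27_0 lc_g_rc_23_9 lc_g_Cert_tree lc_g_rc_24_9 lc_g_rc_27_0 lc_g_rc_24_9 lc_g_rc_27_6 lc_g_rc_26_3 lc_g_rc_27_0 lc_g_rc_24_7 lc_g_rc_26_3 lc_g_rc_23_1 lc_g_rc_21_3 lc_g_Cert_tree lc_g_rc_27_0 lc_g_Cert_tree lc_g_rc_21_2 lc_g_rc_21_3 lc_g_rc_27_9 lc_g_rc_24_1 lc_g_rc_27_6 lc_g_rc_21_3 lc_g_Cert_tree lc_g_Cert_tree lc_g_rc_21_2 lc_g_Cert_tree lc_g_rc_23_9 lc_g_rc_23_9 lc_g_Cert_tree lc_g_Cert_tree lc_g_rc_27_0 lc_g_rc_24_9) (@D3.rec (fun _ => (Cert rels S Gen.g)) lc_g_rc_27_6 lc_g_rc_24_1 lc_g_rc_27_0 lc_g_rc_26_9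 lc_g_rc_21_3 lc_g_rc_27_6 lc_g_rc_21_3 lc_g_Cert_tree lc_g_Cert_tree lc_g_Cert_tree lc_g_rc_21_2 lc_g_rc_21_2 lc_g_rc_21_3 lc_g_Cert_tree lc_g_rc_24_9 lc_g_rc_21_2 lc_g_Cert_tree lc_g_rc_24_9 lc_g_rc_21_2 lc_g_rc_21_3 lc_g_Cert_tree lc_g_rc_24_9 lc_g_rc_21_2 lc_g_rc_21_2 lc_g_rc_21_2 lc_g_rc_21_2 lc_g_rc_21_3 lc_g_Cert_tree lc_g_rc_21_3 lc_g_Cert_tree lc_g_rc_27_9 lc_g_rc_26_0 lc_g_rc_24_1 lc_g_Cert_tree lc_g_rc_21_3 lc_g_Cert_tree lc_g_Cert_tree lc_g_rc_23_3 lc_g_rc_26_0 lc_g_rc_26_3 lc_g_rc_27_3 lc_g_Cert_tree lc_g_rc_24_1 lc_g_Cert_tree lc_g_Cert_tree lc_g_rc_27_3 lc_g_rc_27_0 lc_g_Cert_tree lc_g_rc_23_9 lc_g_Cert_tree lc_g_Cert_tree lc_g_rc_24_9 lc_g_Cert_tree lc_g_rc_21_3 lc_g_rc_23_9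 lc_g_rc_21_2 lc_g_rc_26_0 lc_g_rc_24_7 lc_g_Cert_tree lc_g_rc_27_3 lc_g_rc_24_7 lc_g_Cert_tree) (@D3.rec (fun _ => (Cert rels S Gen.g)) lc_g_rc_21_3 lc_g_Cert_tree lc_g_Cert_tree lc_g_rc_21_2 lc_g_rc_21_2 lc_g_Cert_tree lc_g_rc_23_9 lc_g_Cert_tree lc_g_rc_24_7 lc_g_Cert_tree lc_g_Cert_tree lc_g_rc_27_3 lc_g_rc_27_0 lc_g_rc_26_9 lc_g_rc_26_3 lc_g_rc_23_1 lc_g_rc_24_9 lc_g_rc_26_3 lc_g_rc_21_2 lc_g_rc_24_3 lc_g_rc_24_3 lc_g_Cert_tree lc_g_rc_21_3 lc_g_rc_23_1 lc_g_rc_24_3 lc_g_rc_26_6 lc_g_rc_21_3 lc_g_rc_24_7 lc_g_Cert_tree lc_g_rc_24_1 lc_g_rc_27_0 lc_g_rc_24_9 lc_g_rc_27_6 lc_g_Cert_tree lc_g_rc_23_3 lc_g_rc_24_9 lc_g_rc_26_3 lc_g_rc_26_9 lc_g_rc_21_3 lc_g_rc_27_3 lc_g_rc_21_3 lc_g_Cert_tree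 lc_g_Cert_tree lc_g_rc_21_2 lc_g_rc_26_9 lc_g_rc_21_3 lc_g_Cert_tree lc_g_rc_21_3 lc_g_rc_26_9 lc_g_rc_26_6 lc_g_rc_26_6 lc_g_rc_21_3 lc_g_Cert_tree lc_g_Cert_tree lc_g_rc_21_2 lc_g_rc_26_6 lc_g_Cert_tree lc_g_Cert_tree lc_g_rc_25_7 lc_g_rc_23_3 lc_g_rc_24_9 lc_g_rc_21_2)
def ce_g_2 : D2 → D3 → (Cert rels S Gen.g) := @D2.rec (fun _ => D3 → (Cert rels S Gen.g)) (@D3.rec (fun _ => (Cert rels S Gen.g)) lc_g_rc_27_0 lc_g_rc_24_1 lc_g_rc_27_3 lc_g_rc_26_6 lc_g_rc_21_3 lc_g_rc_27_6 lc_g_Cert_tree lc_g_rc_21_3 lc_g_rc_26_3 lc_g_rc_27_3 lc_g_rc_23_9 lc_g_rc_23_7 lc_g_rc_27_6 lc_g_Cert_tree lc_g_Cert_tree lc_g_rc_21_3 lc_g_Cert_tree lc_g_rc_26_6 lc_g_rc_23_3 lc_g_Cert_tree lc_g_rc_21_2 lc_g_rc_26_0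 lc_g_rc_26_6 lc_g_rc_21_3 lc_g_rc_26_6 lc_g_rc_21_3 lc_g_Cert_tree lc_g_Cert_tree lc_g_rc_21_2 lc_g_rc_26_0 lc_g_Cert_tree lc_g_Cert_tree lc_g_rc_26_3 lc_g_rc_21_3 lc_g_rc_26_9 lc_g_rc_24_1 lc_g_rc_26_9 lc_g_rc_21_3 lc_g_Cert_tree lc_g_Cert_tree lc_g_rc_21_2 lc_g_rc_23_3 lc_g_Cert_tree lc_g_rc_24_1 lc_g_rc_27_6 lc_g_Cert_tree lc_g_rc_26_3 lc_g_rc_23_1 lc_g_rc_21_3 lc_g_rc_26_0 lc_g_Cert_tree lc_g_Cert_tree lc_g_rc_24_1 lc_g_rc_21_2 lc_g_rc_21_2 lc_g_Cert_tree lc_g_rc_27_6 lc_g_rc_26_3 lc_g_Cert_tree lc_g_Cert_tree lc_g_rc_26_3 lc_g_Cert_tree) (@D3.rec (fun _ => (Cert rels S Gen.g)) lc_g_rc_21_3 lc_g_Cert_tree lc_g_rc_23_3 lc_g_Cert_tree lc_g_rc_23_3 lc_g_rc_26_0 lc_g_rc_21_3 lc_g_Cert_tree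 lc_g_Cert_tree lc_g_rc_21_2 lc_g_rc_27_9 lc_g_rc_23_1 lc_g_rc_21_3 lc_g_Cert_tree lc_g_rc_21_2 lc_g_Cert_tree lc_g_Cert_tree lc_g_rc_21_2 lc_g_Cert_tree lc_g_rc_26_0 lc_g_rc_21_2 lc_g_rc_27_3 lc_g_Cert_tree lc_g_Cert_tree lc_g_Cert_tree lc_g_rc_23_7 lc_g_rc_26_3 lc_g_rc_26_0 lc_g_rc_26_6 lc_g_rc_21_3 lc_g_rc_27_9 lc_g_rc_23_9 lc_g_rc_21_3 lc_g_Cert_tree lc_g_Cert_tree lc_g_rc_21_2 lc_g_rc_27_9 lc_g_rc_24_1 lc_g_rc_26_0 lc_g_Cert_tree lc_g_rc_24_1 lc_g_rc_23_9 lc_g_Cert_tree lc_g_Cert_tree lc_g_Cert_tree lc_g_Cert_tree lc_g_rc_27_3 lc_g_rc_24_3 lc_g_Cert_tree lc_g_rc_21_2 lc_g_rc_26_3 lc_g_Cert_tree lc_g_rc_23_9 lc_g_rc_21_3 lc_g_rc_23_9 lc_g_Cert_tree lc_g_rc_23_7 lc_g_Cert_tree lc_g_rc_27_3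 lc_g_rc_24_3 lc_g_rc_21_3 lc_g_Cert_tree) (@D3.rec (fun _ => (Cert rels S Gen.g)) lc_g_Cert_tree lc_g_Cert_tree lc_g_rc_21_3 lc_g_rc_21_3 lc_g_rc_26_9 lc_g_Cert_tree lc_g_rc_21_3 lc_g_Cert_tree lc_g_Cert_tree lc_g_Cert_tree lc_g_rc_21_2 lc_g_Cert_tree lc_g_rc_21_3 lc_g_rc_21_2 lc_g_rc_21_2 lc_g_rc_26_0 lc_g_Cert_tree lc_g_Cert_tree lc_g_rc_23_1 lc_g_Cert_tree lc_g_Cert_tree lc_g_Cert_tree lc_g_rc_21_3 lc_g_Cert_tree lc_g_rc_21_2 lc_g_rc_24_3 lc_g_rc_27_0 lc_g_Cert_tree lc_g_Cert_tree lc_g_Cert_tree lc_g_rc_21_3 lc_g_Cert_tree lc_g_rc_21_2 lc_g_rc_21_2 lc_g_rc_21_2 lc_g_rc_26_6 lc_g_rc_24_3 lc_g_rc_21_3 lc_g_Cert_tree lc_g_Cert_tree lc_g_rc_23_9 lc_g_rc_26_6 lc_g_Cert_tree lc_g_Cert_tree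 lc_g_rc_21_3 lc_g_Cert_tree lc_g_rc_21_2 lc_g_rc_24_3 lc_g_rc_23_3 lc_g_Cert_tree lc_g_Cert_tree lc_g_Cert_tree lc_g_Cert_tree lc_g_rc_21_3 lc_g_Cert_tree lc_g_rc_27_3 lc_g_rc_21_2 lc_g_rc_21_2 lc_g_Cert_tree lc_g_Cert_tree lc_g_Cert_tree lc_g_rc_23_9) (@D3.rec (fun _ => (Cert rels S Gen.g)) lc_g_rc_21_3 lc_g_Cert_tree lc_g_rc_21_2 lc_g_Cert_tree lc_g_rc_27_6 lc_g_Cert_tree lc_g_Cert_tree lc_g_rc_21_2 lc_g_Cert_tree lc_g_rc_26_3 lc_g_Cert_tree lc_g_Cert_tree lc_g_rc_21_3 lc_g_rc_24_3 lc_g_rc_26_3 lc_g_rc_23_9 lc_g_rc_23_9 lc_g_rc_23_9 lc_g_rc_26_3 lc_g_rc_26_9 lc_g_rc_21_3 lc_g_rc_21_2 lc_g_rc_27_0 lc_g_rc_23_1 lc_g_Cert_tree lc_g_Cert_tree lc_g_Cert_tree lc_g_rc_21_3 lc_g_Cert_tree lc_g_rc_21_2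 lc_g_rc_23_9 lc_g_rc_24_7 lc_g_Cert_tree lc_g_rc_23_9 lc_g_rc_23_1 lc_g_rc_27_0 lc_g_Cert_tree lc_g_rc_24_3 lc_g_rc_21_3 lc_g_Cert_tree lc_g_rc_21_2 lc_g_rc_26_6 lc_g_rc_21_3 lc_g_rc_21_2 lc_g_rc_21_3 lc_g_rc_26_6 lc_g_rc_27_3 lc_g_Cert_tree lc_g_rc_23_1 lc_g_Cert_tree lc_g_Cert_tree lc_g_Cert_tree lc_g_rc_21_3 lc_g_Cert_tree lc_g_rc_26_0 lc_g_Cert_tree lc_g_rc_21_3 lc_g_rc_21_3 lc_g_rc_21_2 lc_g_rc_21_3 lc_g_Cert_tree lc_g_rc_26_0) (@D3.rec (fun _ => (Cert rels S Gen.g)) lc_g_rc_26_0 lc_g_rc_24_9 lc_g_rc_21_2 lc_g_rc_24_9 lc_g_rc_27_6 lc_g_Cert_tree lc_g_rc_23_3 lc_g_rc_26_3 lc_g_rc_26_0 lc_g_rc_21_3 lc_g_Cert_tree lc_g_rc_21_2 lc_g_rc_26_9 lc_g_Cert_tree lc_g_rc_24_9 lc_g_rc_21_2 lc_g_rc_21_3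 lc_g_Cert_tree lc_g_rc_21_2 lc_g_Cert_tree lc_g_rc_21_2 lc_g_rc_26_0 lc_g_Cert_tree lc_g_rc_21_3 lc_g_rc_21_3 lc_g_rc_27_6 lc_g_rc_24_9 lc_g_rc_23_9 lc_g_rc_21_3 lc_g_Cert_tree lc_g_rc_26_3 lc_g_rc_26_6 lc_g_rc_27_9 lc_g_rc_21_3 lc_g_rc_21_2 lc_g_rc_21_2 lc_g_rc_24_1 lc_g_Cert_tree lc_g_rc_27_3 lc_g_rc_27_0 lc_g_rc_26_6 lc_g_rc_24_7 lc_g_Cert_tree lc_g_rc_24_7 lc_g_Cert_tree lc_g_Cert_tree lc_g_rc_21_2 lc_g_rc_21_2 lc_g_Cert_tree lc_g_rc_21_3 lc_g_rc_27_9 lc_g_rc_27_0 lc_g_rc_21_3 lc_g_Cert_tree lc_g_rc_27_9 lc_g_rc_26_0 lc_g_Cert_tree lc_g_rc_26_0 lc_g_rc_24_1 lc_g_Cert_tree lc_g_Cert_tree lc_g_Cert_tree) (@D3.rec (fun _ => (Cert rels S Gen.g)) lc_g_rc_21_2 lc_g_rc_27_6 lc_g_rc_27_9 lc_g_rc_21_3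 lc_g_rc_24_1 lc_g_rc_27_0 lc_g_rc_21_3 lc_g_Cert_tree lc_g_Cert_tree lc_g_rc_21_2 lc_g_rc_23_9 lc_g_Cert_tree lc_g_Cert_tree lc_g_Cert_tree lc_g_Cert_tree lc_g_rc_21_3 lc_g_rc_27_9 lc_g_rc_26_3 lc_g_Cert_tree lc_g_rc_24_3 lc_g_rc_21_2 lc_g_rc_24_3 lc_g_rc_24_9 lc_g_Cert_tree lc_g_rc_21_3 lc_g_rc_24_3 lc_g_Cert_tree lc_g_Cert_tree lc_g_rc_21_3 lc_g_rc_24_3 lc_g_Cert_tree lc_g_rc_21_3 lc_g_Cert_tree lc_g_Cert_tree lc_g_Cert_tree lc_g_rc_21_2 lc_g_Cert_tree lc_g_rc_26_9 lc_g_rc_21_3 lc_g_rc_27_3 lc_g_rc_26_0 lc_g_rc_23_1 lc_g_Cert_tree lc_g_Cert_tree lc_g_Cert_tree lc_g_rc_21_3 lc_g_Cert_tree lc_g_rc_26_6 lc_g_rc_26_6 lc_g_rc_24_7 lc_g_Cert_tree lc_g_rc_23_1 lc_g_rc_27_0 lc_g_Cert_tree lc_g_rc_26_3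 lc_g_rc_21_3 lc_g_Cert_tree lc_g_rc_27_6 lc_g_rc_21_2 lc_g_rc_24_9 lc_g_rc_21_2 lc_g_rc_21_3) (@D3.rec (fun _ => (Cert rels S Gen.g)) lc_g_Cert_tree lc_g_Cert_tree lc_g_Cert_tree lc_g_rc_21_3 lc_g_Cert_tree lc_g_rc_27_0 lc_g_Cert_tree lc_g_rc_26_3 lc_g_rc_21_3 lc_g_rc_21_2 lc_g_rc_23_3 lc_g_Cert_tree lc_g_Cert_tree lc_g_Cert_tree lc_g_Cert_tree lc_g_rc_21_3 lc_g_Cert_tree lc_g_rc_21_2 lc_g_rc_23_3 lc_g_Cert_tree lc_g_Cert_tree lc_g_Cert_tree lc_g_Cert_tree lc_g_rc_21_3 lc_g_Cert_tree lc_g_rc_21_2 lc_g_Cert_tree lc_g_rc_24_3 lc_g_Cert_tree lc_g_rc_26_3 lc_g_rc_21_3 lc_g_Cert_tree lc_g_rc_21_2 lc_g_rc_21_3 lc_g_rc_24_9 lc_g_rc_26_9 lc_g_rc_21_3 lc_g_rc_27_9 lc_g_rc_26_0 lc_g_rc_27_3 lc_g_Cert_tree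 lc_g_Cert_tree lc_g_Cert_tree lc_g_rc_21_3 lc_g_Cert_tree lc_g_rc_27_6 lc_g_rc_23_9 lc_g_rc_27_0 lc_g_Cert_tree lc_g_rc_26_3 lc_g_rc_21_3 lc_g_Cert_tree lc_g_rc_21_2 lc_g_rc_27_0 lc_g_rc_26_3 lc_g_rc_26_6 lc_g_rc_21_3 lc_g_rc_21_2 lc_g_rc_27_0 lc_g_rc_24_1 lc_g_Cert_tree lc_g_rc_24_1) (@D3.rec (fun _ => (Cert rels S Gen.g)) lc_g_Cert_tree lc_g_rc_21_3 lc_g_rc_23_9 lc_g_rc_21_2 lc_g_rc_24_3 lc_g_rc_26_6 lc_g_rc_24_9 lc_g_rc_27_3 lc_g_rc_21_2 lc_g_rc_21_3 lc_g_Cert_tree lc_g_Cert_tree lc_g_Cert_tree lc_g_rc_21_3 lc_g_Cert_tree lc_g_rc_26_6 lc_g_rc_23_9 lc_g_rc_21_2 lc_g_rc_21_3 lc_g_rc_21_3 lc_g_Cert_tree lc_g_rc_21_2 lc_g_rc_21_3 lc_g_Cert_tree lc_g_rc_23_9 lc_g_rc_27_0 lc_g_rc_27_9 lc_g_rc_21_3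 lc_g_Cert_tree lc_g_rc_21_2 lc_g_rc_27_9 lc_g_rc_26_9 lc_g_rc_26_3 lc_g_rc_21_3 lc_g_Cert_tree lc_g_Cert_tree lc_g_rc_21_2 lc_g_Cert_tree lc_g_rc_26_6 lc_g_rc_23_7 lc_g_rc_21_3 lc_g_Cert_tree lc_g_rc_21_2 lc_g_rc_23_3 lc_g_rc_26_3 lc_g_rc_26_3 lc_g_rc_21_3 lc_g_Cert_tree lc_g_rc_27_6 lc_g_Cert_tree lc_g_rc_21_2 lc_g_rc_26_6 lc_g_rc_21_3 lc_g_Cert_tree lc_g_rc_26_3 lc_g_rc_23_7 lc_g_rc_24_9 lc_g_rc_26_0 lc_g_Cert_tree lc_g_rc_21_3 lc_g_rc_21_2 lc_g_rc_21_2) (@D3.rec (fun _ => (Cert rels S Gen.g)) lc_g_rc_24_9 lc_g_rc_21_2 lc_g_rc_21_2 lc_g_rc_24_9 lc_g_rc_26_9 lc_g_rc_21_2 lc_g_rc_26_0 lc_g_rc_21_3 lc_g_Cert_tree lc_g_rc_21_3 lc_g_rc_24_1 lc_g_Cert_tree lc_g_Cert_tree lc_g_rc_21_2 lc_g_rc_21_2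 lc_g_Cert_tree lc_g_rc_24_9 lc_g_Cert_tree lc_g_Cert_tree lc_g_rc_24_1 lc_g_rc_26_0 lc_g_rc_24_3 lc_g_rc_24_1 lc_g_Cert_tree lc_g_rc_21_3 lc_g_Cert_tree lc_g_rc_27_3 lc_g_rc_24_7 lc_g_Cert_tree lc_g_rc_21_3 lc_g_Cert_tree lc_g_Cert_tree lc_g_Cert_tree lc_g_rc_21_2 lc_g_Cert_tree lc_g_rc_21_2 lc_g_rc_21_2 lc_g_rc_24_1 lc_g_Cert_tree lc_g_rc_23_3 lc_g_rc_23_1 lc_g_Cert_tree lc_g_Cert_tree lc_g_rc_21_3 lc_g_Cert_tree lc_g_Cert_tree lc_g_Cert_tree lc_g_rc_23_1 lc_g_rc_24_9 lc_g_rc_26_0 lc_g_Cert_tree lc_g_rc_21_3 lc_g_Cert_tree lc_g_Cert_tree lc_g_Cert_tree lc_g_rc_23_9 lc_g_Cert_tree lc_g_rc_26_6 lc_g_Cert_tree lc_g_rc_27_9 lc_g_Cert_tree lc_g_rc_27_3) (@D3.rec (fun _ => (Cert rels S Gen.g))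 lc_g_rc_27_0 lc_g_Cert_tree lc_g_rc_21_2 lc_g_Cert_tree lc_g_rc_23_7 lc_g_rc_27_6 lc_g_Cert_tree lc_g_Cert_tree lc_g_rc_21_3 lc_g_Cert_tree lc_g_rc_21_2 lc_g_rc_21_3 lc_g_Cert_tree lc_g_rc_21_2 lc_g_Cert_tree lc_g_rc_21_2 lc_g_rc_21_2 lc_g_Cert_tree lc_g_rc_23_7 lc_g_rc_21_2 lc_g_rc_24_3 lc_g_rc_24_1 lc_g_rc_21_3 lc_g_Cert_tree lc_g_rc_21_2 lc_g_Cert_tree lc_g_Cert_tree lc_g_Cert_tree lc_g_rc_21_3 lc_g_Cert_tree lc_g_rc_27_3 lc_g_rc_21_2 lc_g_rc_27_6 lc_g_rc_27_0 lc_g_rc_24_1 lc_g_Cert_tree lc_g_rc_26_3 lc_g_Cert_tree lc_g_rc_23_9 lc_g_Cert_tree lc_g_Cert_tree lc_g_rc_23_7 lc_g_rc_26_3 lc_g_rc_26_9 lc_g_rc_21_3 lc_g_Cert_tree lc_g_rc_21_2 lc_g_rc_24_3 lc_g_Cert_tree lc_g_rc_21_3 lc_g_Cert_tree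 lc_g_rc_21_2 lc_g_Cert_tree lc_g_Cert_tree lc_g_Cert_tree lc_g_rc_21_3 lc_g_Cert_tree lc_g_Cert_tree lc_g_rc_21_2 lc_g_rc_26_3 lc_g_rc_23_1 lc_g_Cert_tree) (@D3.rec (fun _ => (Cert rels S Gen.g)) lc_g_rc_27_3 lc_g_rc_26_3 lc_g_rc_21_3 lc_g_Cert_tree lc_g_rc_21_2 lc_g_Cert_tree lc_g_Cert_tree lc_g_Cert_tree lc_g_Cert_tree lc_g_rc_26_3 lc_g_rc_21_2 lc_g_rc_24_3 lc_g_rc_26_0 lc_g_Cert_tree lc_g_Cert_tree lc_g_Cert_tree lc_g_rc_21_2 lc_g_rc_26_0 lc_g_rc_26_9 lc_g_rc_23_7 lc_g_rc_27_6 lc_g_Cert_tree lc_g_rc_21_3 lc_g_Cert_tree lc_g_Cert_tree lc_g_Cert_tree lc_g_rc_21_2 lc_g_Cert_tree lc_g_rc_21_2 lc_g_Cert_tree lc_g_Cert_tree lc_g_Cert_tree lc_g_rc_21_3 lc_g_Cert_tree lc_g_rc_21_2 lc_g_Cert_tree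 lc_g_rc_21_3 lc_g_Cert_tree lc_g_Cert_tree lc_g_rc_26_3 lc_g_Cert_tree lc_g_rc_26_9 lc_g_rc_27_9 lc_g_rc_27_6 lc_g_rc_21_3 lc_g_Cert_tree lc_g_Cert_tree lc_g_rc_26_6 lc_g_rc_23_3 lc_g_rc_26_3 lc_g_rc_21_3 lc_g_Cert_tree lc_g_rc_21_2 lc_g_rc_23_3 lc_g_rc_27_6 lc_g_Cert_tree lc_g_Cert_tree lc_g_rc_21_2 lc_g_rc_24_1 lc_g_rc_21_3 lc_g_Cert_tree lc_g_Cert_tree) (@D3.rec (fun _ => (Cert rels S Gen.g)) lc_g_rc_21_2 lc_g_rc_27_9 lc_g_rc_24_1 lc_g_rc_23_9 lc_g_Cert_tree lc_g_Cert_tree lc_g_Cert_tree lc_g_Cert_tree lc_g_rc_27_3 lc_g_rc_24_1 lc_g_rc_26_3 lc_g_Cert_tree lc_g_rc_26_6 lc_g_rc_21_3 lc_g_Cert_tree lc_g_Cert_tree lc_g_rc_26_3 lc_g_Cert_tree lc_g_rc_21_3 lc_g_Cert_tree lc_g_Cert_tree lc_g_Cert_tree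 lc_g_rc_21_2 lc_g_Cert_tree lc_g_rc_23_1 lc_g_Cert_tree lc_g_Cert_tree lc_g_Cert_tree lc_g_rc_21_3 lc_g_Cert_tree lc_g_rc_21_2 lc_g_rc_23_1 lc_g_rc_27_0 lc_g_Cert_tree lc_g_rc_21_3 lc_g_rc_21_3 lc_g_Cert_tree lc_g_rc_21_2 lc_g_rc_26_0 lc_g_rc_24_1 lc_g_rc_23_1 lc_g_Cert_tree lc_g_Cert_tree lc_g_Cert_tree lc_g_rc_24_3 lc_g_rc_26_3 lc_g_rc_21_3 lc_g_rc_21_2 lc_g_Cert_tree lc_g_Cert_tree lc_g_Cert_tree lc_g_rc_23_9 lc_g_Cert_tree lc_g_rc_21_3 lc_g_Cert_tree lc_g_rc_27_3 lc_g_rc_21_2 lc_g_rc_21_2 lc_g_rc_26_3 lc_g_Cert_tree lc_g_Cert_tree lc_g_rc_23_7) (@D3.rec (fun _ => (Cert rels S Gen.g)) lc_g_rc_23_3 lc_g_rc_21_3 lc_g_Cert_tree lc_g_rc_21_2 lc_g_Cert_tree lc_g_rc_23_1 lc_g_rc_27_6 lc_g_Cert_tree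 lc_g_rc_23_7 lc_g_rc_26_3 lc_g_Cert_tree lc_g_Cert_tree lc_g_rc_21_3 lc_g_Cert_tree lc_g_rc_23_1 lc_g_rc_21_3 lc_g_Cert_tree lc_g_Cert_tree lc_g_Cert_tree lc_g_rc_21_3 lc_g_Cert_tree lc_g_rc_23_9 lc_g_rc_27_0 lc_g_Cert_tree lc_g_rc_23_3 lc_g_rc_21_3 lc_g_Cert_tree lc_g_rc_21_2 lc_g_rc_25_3 lc_g_Cert_tree lc_g_Cert_tree lc_g_Cert_tree lc_g_Cert_tree lc_g_Cert_tree lc_g_rc_23_3 lc_g_rc_24_7 lc_g_rc_27_6 lc_g_rc_21_2 lc_g_rc_21_3 lc_g_Cert_tree lc_g_Cert_tree lc_g_Cert_tree lc_g_rc_21_3 lc_g_Cert_tree lc_g_Cert_tree lc_g_rc_21_3 lc_g_rc_21_3 lc_g_Cert_tree lc_g_rc_21_2 lc_g_rc_21_3 lc_g_Cert_tree lc_g_rc_21_2 lc_g_Cert_tree lc_g_rc_25_19 lc_g_rc_24_3 lc_g_Cert_tree lc_g_rc_24_9 lc_g_Cert_tree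 lc_g_rc_24_7 lc_g_rc_23_1 lc_g_rc_21_3 lc_g_Cert_tree) (@D3.rec (fun _ => (Cert rels S Gen.g)) lc_g_rc_21_2 lc_g_rc_26_6 lc_g_Cert_tree lc_g_Cert_tree lc_g_rc_27_3 lc_g_rc_23_9 lc_g_rc_27_6 lc_g_rc_21_3 lc_g_Cert_tree lc_g_rc_21_2 lc_g_rc_27_3 lc_g_rc_26_3 lc_g_Cert_tree lc_g_rc_27_3 lc_g_rc_21_2 lc_g_rc_21_3 lc_g_Cert_tree lc_g_rc_21_2 lc_g_Cert_tree lc_g_Cert_tree lc_g_Cert_tree lc_g_Cert_tree lc_g_rc_27_3 lc_g_rc_27_0 lc_g_rc_21_2 lc_g_rc_21_2 lc_g_Cert_tree lc_g_rc_27_9 lc_g_rc_21_2 lc_g_rc_21_2 lc_g_rc_26_6 lc_g_rc_27_0 lc_g_Cert_tree lc_g_rc_21_3 lc_g_Cert_tree lc_g_Cert_tree lc_g_Cert_tree lc_g_rc_21_2 lc_g_rc_21_3 lc_g_rc_21_2 lc_g_Cert_tree lc_g_rc_21_2 lc_g_rc_23_9 lc_g_Cert_tree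 lc_g_Cert_tree lc_g_rc_21_3 lc_g_Cert_tree lc_g_rc_21_2 lc_g_Cert_tree lc_g_rc_21_2 lc_g_rc_26_6 lc_g_rc_26_6 lc_g_rc_23_7 lc_g_Cert_tree lc_g_rc_26_6 lc_g_Cert_tree lc_g_rc_24_9 lc_g_Cert_tree lc_g_rc_21_2 lc_g_rc_21_2 lc_g_Cert_tree lc_g_Cert_tree) (@D3.rec (fun _ => (Cert rels S Gen.g)) lc_g_rc_25_3 lc_g_rc_27_3 lc_g_rc_27_6 lc_g_rc_21_3 lc_g_rc_27_3 lc_g_rc_23_1 lc_g_rc_26_6 lc_g_rc_26_9 lc_g_rc_24_1 lc_g_rc_26_3 lc_g_Cert_tree lc_g_rc_21_2 lc_g_rc_21_3 lc_g_Cert_tree lc_g_Cert_tree lc_g_Cert_tree lc_g_Cert_tree lc_g_rc_21_2 lc_g_rc_21_2 lc_g_rc_24_9 lc_g_rc_26_0 lc_g_rc_27_9 lc_g_rc_26_9 lc_g_rc_24_3 lc_g_rc_21_2 lc_g_Cert_tree lc_g_rc_21_2 lc_g_rc_26_9 lc_g_rc_21_3 lc_g_rc_26_6 lc_g_rc_21_2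 lc_g_rc_27_6 lc_g_Cert_tree lc_g_Cert_tree lc_g_Cert_tree lc_g_Cert_tree lc_g_rc_26_3 lc_g_Cert_tree lc_g_rc_21_2 lc_g_Cert_tree lc_g_rc_23_7 lc_g_rc_27_6 lc_g_rc_23_3 lc_g_rc_21_3 lc_g_rc_21_2 lc_g_Cert_tree lc_g_rc_23_3 lc_g_rc_26_6 lc_g_rc_23_3 lc_g_rc_26_9 lc_g_rc_21_3 lc_g_rc_26_6 lc_g_rc_21_3 lc_g_rc_21_2 lc_g_Cert_tree lc_g_Cert_tree lc_g_Cert_tree lc_g_rc_21_3 lc_g_Cert_tree lc_g_Cert_tree lc_g_rc_26_6 lc_g_rc_24_3) (@D3.rec (fun _ => (Cert rels S Gen.g)) lc_g_Cert_tree lc_g_rc_23_7 lc_g_rc_21_2 lc_g_rc_23_3 lc_g_rc_23_3 lc_g_rc_21_2 lc_g_rc_21_3 lc_g_Cert_tree lc_g_rc_21_2 lc_g_rc_26_6 lc_g_rc_26_9 lc_g_rc_26_9 lc_g_rc_21_2 lc_g_rc_27_6 lc_g_rc_21_3 lc_g_Cert_tree lc_g_rc_21_2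 lc_g_Cert_tree lc_g_Cert_tree lc_g_Cert_tree lc_g_rc_21_3 lc_g_Cert_tree lc_g_Cert_tree lc_g_rc_21_2 lc_g_rc_21_3 lc_g_Cert_tree lc_g_Cert_tree lc_g_rc_21_2 lc_g_rc_27_9 lc_g_rc_27_3 lc_g_rc_27_6 lc_g_rc_21_2 lc_g_rc_21_3 lc_g_Cert_tree lc_g_rc_24_3 lc_g_rc_26_3 lc_g_rc_24_1 lc_g_rc_21_2 lc_g_rc_26_0 lc_g_rc_21_3 lc_g_Cert_tree lc_g_rc_26_0 lc_g_Cert_tree lc_g_Cert_tree lc_g_rc_21_3 lc_g_rc_21_3 lc_g_Cert_tree lc_g_Cert_tree lc_g_rc_21_2 lc_g_rc_21_3 lc_g_Cert_tree lc_g_rc_21_2 lc_g_rc_27_6 lc_g_rc_25_3 lc_g_rc_23_9 lc_g_rc_21_3 lc_g_rc_21_2 lc_g_rc_27_6 lc_g_rc_21_2 lc_g_rc_21_3 lc_g_Cert_tree lc_g_rc_21_3) (@D3.rec (fun _ => (Cert rels S Gen.g)) lc_g_rc_26_6 lc_g_rc_21_2 lc_g_Cert_tree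 lc_g_rc_21_3 lc_g_Cert_tree lc_g_Cert_tree lc_g_rc_23_1 lc_g_Cert_tree lc_g_rc_21_3 lc_g_Cert_tree lc_g_Cert_tree lc_g_Cert_tree lc_g_rc_21_3 lc_g_Cert_tree lc_g_rc_21_2 lc_g_rc_21_2 lc_g_Cert_tree lc_g_rc_21_2 lc_g_Cert_tree lc_g_Cert_tree lc_g_rc_21_3 lc_g_Cert_tree lc_g_Cert_tree lc_g_rc_21_2 lc_g_rc_21_2 lc_g_Cert_tree lc_g_Cert_tree lc_g_rc_21_3 lc_g_Cert_tree lc_g_Cert_tree lc_g_rc_21_2 lc_g_Cert_tree lc_g_Cert_tree lc_g_rc_21_3 lc_g_rc_21_2 lc_g_rc_23_3 lc_g_rc_23_7 lc_g_rc_26_3 lc_g_rc_24_1 lc_g_rc_21_3 lc_g_Cert_tree lc_g_Cert_tree lc_g_rc_27_3 lc_g_rc_27_9 lc_g_rc_24_1 lc_g_rc_23_7 lc_g_rc_24_9 lc_g_rc_21_3 lc_g_Cert_tree lc_g_rc_21_2 lc_g_rc_23_7 lc_g_Cert_tree lc_g_rc_26_3 lc_g_Cert_tree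 lc_g_Cert_tree lc_g_rc_21_2 lc_g_rc_27_3 lc_g_rc_21_3 lc_g_rc_24_7 lc_g_Cert_tree lc_g_rc_21_2 lc_g_rc_24_1) (@D3.rec (fun _ => (Cert rels S Gen.g)) lc_g_rc_26_9 lc_g_rc_21_2 lc_g_Cert_tree lc_g_Cert_tree lc_g_rc_21_3 lc_g_Cert_tree lc_g_rc_21_2 lc_g_rc_26_3 lc_g_rc_23_9 lc_g_Cert_tree lc_g_rc_27_3 lc_g_rc_26_0 lc_g_rc_23_9 lc_g_rc_27_6 lc_g_rc_23_1 lc_g_rc_26_3 lc_g_Cert_tree lc_g_rc_26_9 lc_g_rc_23_1 lc_g_Cert_tree lc_g_rc_21_3 lc_g_Cert_tree lc_g_rc_26_3 lc_g_rc_21_2 lc_g_Cert_tree lc_g_rc_21_3 lc_g_Cert_tree lc_g_rc_21_2 lc_g_rc_21_3 lc_g_Cert_tree lc_g_rc_21_3 lc_g_Cert_tree lc_g_Cert_tree lc_g_rc_21_2 lc_g_Cert_tree lc_g_rc_24_7 lc_g_rc_27_9 lc_g_rc_27_9 lc_g_rc_21_3 lc_g_rc_24_7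 lc_g_rc_23_7 lc_g_rc_27_0 lc_g_rc_27_0 lc_g_Cert_tree lc_g_rc_26_0 lc_g_rc_24_1 lc_g_rc_27_6 lc_g_rc_21_3 lc_g_Cert_tree lc_g_Cert_tree lc_g_rc_26_6 lc_g_rc_27_3 lc_g_Cert_tree lc_g_rc_24_7 lc_g_rc_21_2 lc_g_rc_27_6 lc_g_rc_27_6 lc_g_rc_24_3 lc_g_rc_27_0 lc_g_rc_26_3 lc_g_rc_26_6 lc_g_rc_27_6) (@D3.rec (fun _ => (Cert rels S Gen.g)) lc_g_Cert_tree lc_g_rc_27_3 lc_g_rc_21_2 lc_g_rc_26_9 lc_g_rc_26_3 lc_g_rc_27_0 lc_g_rc_23_9 lc_g_Cert_tree lc_g_rc_23_7 lc_g_rc_27_9 lc_g_rc_27_0 lc_g_Cert_tree lc_g_rc_21_3 lc_g_rc_26_6 lc_g_rc_23_1 lc_g_rc_27_9 lc_g_rc_26_6 lc_g_rc_26_6 lc_g_Cert_tree lc_g_rc_21_2 lc_g_rc_26_6 lc_g_Cert_tree lc_g_rc_21_2 lc_g_rc_24_9 lc_g_rc_21_3 lc_g_Cert_tree lc_g_Cert_tree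 lc_g_rc_21_2 lc_g_rc_23_1 lc_g_Cert_tree lc_g_rc_26_0 lc_g_rc_26_6 lc_g_rc_23_9 lc_g_Cert_tree lc_g_Cert_tree lc_g_rc_24_3 lc_g_rc_27_0 lc_g_Cert_tree lc_g_rc_21_3 lc_g_rc_21_3 lc_g_rc_24_3 lc_g_Cert_tree lc_g_Cert_tree lc_g_rc_21_3 lc_g_Cert_tree lc_g_rc_21_2 lc_g_rc_26_6 lc_g_rc_21_3 lc_g_Cert_tree lc_g_Cert_tree lc_g_rc_26_3 lc_g_rc_27_6 lc_g_rc_24_1 lc_g_Cert_tree lc_g_rc_27_6 lc_g_rc_26_6 lc_g_rc_21_2 lc_g_rc_27_6 lc_g_rc_21_2 lc_g_rc_23_1 lc_g_rc_23_1 lc_g_rc_23_1) (@D3.rec (fun _ => (Cert rels S Gen.g)) lc_g_rc_21_3 lc_g_Cert_tree lc_g_rc_26_9 lc_g_rc_21_2 lc_g_rc_26_0 lc_g_rc_26_9 lc_g_rc_27_3 lc_g_rc_21_2 lc_g_rc_27_6 lc_g_rc_27_3 lc_g_rc_21_3 lc_g_rc_26_9 lc_g_rc_21_3 lc_g_rc_24_9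 lc_g_rc_26_9 lc_g_Cert_tree lc_g_rc_21_3 lc_g_Cert_tree lc_g_rc_21_2 lc_g_rc_21_3 lc_g_Cert_tree lc_g_rc_24_9 lc_g_rc_21_2 lc_g_rc_26_9 lc_g_rc_26_0 lc_g_rc_24_3 lc_g_Cert_tree lc_g_Cert_tree lc_g_Cert_tree lc_g_rc_26_6 lc_g_rc_24_9 lc_g_rc_27_0 lc_g_rc_21_3 lc_g_Cert_tree lc_g_Cert_tree lc_g_rc_21_2 lc_g_Cert_tree lc_g_rc_26_6 lc_g_rc_26_6 lc_g_rc_27_3 lc_g_rc_26_6 lc_g_rc_21_2 lc_g_rc_27_9 lc_g_rc_27_6 lc_g_rc_27_3 lc_g_Cert_tree lc_g_rc_26_6 lc_g_rc_23_7 lc_g_rc_21_2 lc_g_rc_21_3 lc_g_Cert_tree lc_g_rc_23_7 lc_g_rc_27_6 lc_g_rc_26_6 lc_g_rc_26_3 lc_g_rc_23_7 lc_g_Cert_tree lc_g_rc_27_3 lc_g_rc_23_7 lc_g_rc_26_3 lc_g_rc_27_6 lc_g_rc_21_2) (@D3.rec (fun _ => (Cert rels S Gen.g)) lc_g_rc_21_2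 lc_g_rc_26_9 lc_g_rc_27_6 lc_g_rc_21_3 lc_g_rc_24_3 lc_g_rc_21_3 lc_g_rc_21_3 lc_g_rc_21_3 lc_g_Cert_tree lc_g_rc_21_3 lc_g_Cert_tree lc_g_rc_27_6 lc_g_rc_27_0 lc_g_rc_23_1 lc_g_rc_27_9 lc_g_rc_21_2 lc_g_rc_23_3 lc_g_rc_21_2 lc_g_rc_26_6 lc_g_rc_21_2 lc_g_rc_23_9 lc_g_rc_26_3 lc_g_rc_21_2 lc_g_rc_24_1 lc_g_rc_24_9 lc_g_rc_21_3 lc_g_rc_21_3 lc_g_rc_21_2 lc_g_rc_24_3 lc_g_rc_21_2 lc_g_rc_24_1 lc_g_Cert_tree lc_g_Cert_tree lc_g_Cert_tree lc_g_rc_21_2 lc_g_rc_26_3 lc_g_Cert_tree lc_g_Cert_tree lc_g_rc_21_2 lc_g_rc_21_2 lc_g_rc_24_7 lc_g_rc_21_3 lc_g_rc_26_9 lc_g_rc_27_6 lc_g_rc_21_3 lc_g_Cert_tree lc_g_Cert_tree lc_g_rc_27_0 lc_g_Cert_tree lc_g_Cert_tree lc_g_rc_21_2 lc_g_rc_26_3 lc_g_Cert_tree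 lc_g_rc_26_3 lc_g_Cert_tree lc_g_Cert_tree lc_g_Cert_tree lc_g_Cert_tree lc_g_rc_21_3 lc_g_Cert_tree lc_g_Cert_tree lc_g_rc_21_2) (@D3.rec (fun _ => (Cert rels S Gen.g)) lc_g_rc_23_7 lc_g_rc_26_3 lc_g_Cert_tree lc_g_rc_23_1 lc_g_Cert_tree lc_g_Cert_tree lc_g_Cert_tree lc_g_rc_21_2 lc_g_Cert_tree lc_g_rc_23_7 lc_g_rc_21_2 lc_g_Cert_tree lc_g_rc_23_7 lc_g_rc_27_6 lc_g_rc_21_3 lc_g_Cert_tree lc_g_rc_21_2 lc_g_Cert_tree lc_g_Cert_tree lc_g_rc_21_3 lc_g_Cert_tree lc_g_rc_21_2 lc_g_Cert_tree lc_g_rc_23_9 lc_g_rc_21_3 lc_g_Cert_tree lc_g_Cert_tree lc_g_rc_21_2 lc_g_Cert_tree lc_g_rc_27_6 lc_g_Cert_tree lc_g_rc_24_1 lc_g_rc_26_9 lc_g_Cert_tree lc_g_rc_26_6 lc_g_rc_21_2 lc_g_Cert_tree lc_g_rc_26_3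 lc_g_rc_23_1 lc_g_rc_26_3 lc_g_rc_26_3 lc_g_rc_23_9 lc_g_Cert_tree lc_g_Cert_tree lc_g_rc_21_2 lc_g_Cert_tree lc_g_rc_21_3 lc_g_Cert_tree lc_g_rc_21_3 lc_g_Cert_tree lc_g_rc_27_0 lc_g_Cert_tree lc_g_Cert_tree lc_g_rc_26_6 lc_g_rc_24_3 lc_g_rc_27_9 lc_g_rc_24_9 lc_g_rc_27_0 lc_g_rc_21_3 lc_g_Cert_tree lc_g_rc_27_6 lc_g_rc_21_2) (@D3.rec (fun _ => (Cert rels S Gen.g)) lc_g_rc_26_3 lc_g_rc_27_3 lc_g_rc_23_7 lc_g_Cert_tree lc_g_rc_26_0 lc_g_Cert_tree lc_g_Cert_tree lc_g_rc_21_2 lc_g_Cert_tree lc_g_rc_27_3 lc_g_rc_27_6 lc_g_rc_21_3 lc_g_Cert_tree lc_g_rc_21_2 lc_g_rc_21_2 lc_g_rc_23_9 lc_g_Cert_tree lc_g_Cert_tree lc_g_rc_24_7 lc_g_rc_24_3 lc_g_rc_21_2 lc_g_Cert_tree lc_g_rc_21_3 lc_g_Cert_tree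 lc_g_Cert_tree lc_g_rc_21_2 lc_g_Cert_tree lc_g_Cert_tree lc_g_rc_24_9 lc_g_rc_21_2 lc_g_rc_24_1 lc_g_Cert_tree lc_g_rc_21_3 lc_g_Cert_tree lc_g_Cert_tree lc_g_rc_21_2 lc_g_rc_21_3 lc_g_Cert_tree lc_g_rc_21_2 lc_g_Cert_tree lc_g_Cert_tree lc_g_rc_23_7 lc_g_Cert_tree lc_g_rc_21_2 lc_g_rc_21_2 lc_g_rc_21_2 lc_g_rc_23_1 lc_g_rc_24_1 lc_g_rc_24_7 lc_g_rc_21_2 lc_g_rc_27_9 lc_g_rc_27_9 lc_g_rc_26_6 lc_g_rc_24_1 lc_g_rc_21_3 lc_g_Cert_tree lc_g_Cert_tree lc_g_rc_24_9 lc_g_rc_27_6 lc_g_rc_24_1 lc_g_rc_21_3 lc_g_Cert_tree) (@D3.rec (fun _ => (Cert rels S Gen.g)) lc_g_Cert_tree lc_g_rc_26_6 lc_g_rc_21_3 lc_g_Cert_tree lc_g_Cert_tree lc_g_rc_21_2 lc_g_rc_24_1 lc_g_rc_26_6 lc_g_Cert_tree lc_g_Cert_tree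 lc_g_rc_24_1 lc_g_rc_26_6 lc_g_rc_26_6 lc_g_rc_27_9 lc_g_rc_27_3 lc_g_rc_26_9 lc_g_rc_21_3 lc_g_Cert_tree lc_g_rc_21_2 lc_g_rc_21_2 lc_g_rc_27_9 lc_g_rc_24_1 lc_g_Cert_tree lc_g_rc_27_9 lc_g_rc_23_9 lc_g_Cert_tree lc_g_Cert_tree lc_g_rc_27_3 lc_g_rc_26_6 lc_g_rc_26_0 lc_g_Cert_tree lc_g_Cert_tree lc_g_rc_24_1 lc_g_rc_23_1 lc_g_rc_24_9 lc_g_rc_27_0 lc_g_rc_26_6 lc_g_rc_23_9 lc_g_Cert_tree lc_g_Cert_tree lc_g_rc_27_3 lc_g_rc_26_3 lc_g_Cert_tree lc_g_rc_21_3 lc_g_Cert_tree lc_g_Cert_tree lc_g_Cert_tree lc_g_rc_21_2 lc_g_Cert_tree lc_g_rc_23_3 lc_g_Cert_tree lc_g_Cert_tree lc_g_rc_21_3 lc_g_Cert_tree lc_g_rc_21_2 lc_g_rc_23_3 lc_g_rc_26_3 lc_g_Cert_tree lc_g_rc_24_1 lc_g_Cert_tree lc_g_rc_21_2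 lc_g_Cert_tree) (@D3.rec (fun _ => (Cert rels S Gen.g)) lc_g_Cert_tree lc_g_rc_26_3 lc_g_Cert_tree lc_g_rc_21_3 lc_g_rc_21_2 lc_g_rc_21_2 lc_g_rc_21_3 lc_g_rc_24_1 lc_g_Cert_tree lc_g_Cert_tree lc_g_rc_27_0 lc_g_Cert_tree lc_g_rc_27_6 lc_g_rc_21_3 lc_g_rc_27_0 lc_g_Cert_tree lc_g_rc_21_2 lc_g_rc_21_3 lc_g_Cert_tree lc_g_rc_27_3 lc_g_Cert_tree lc_g_rc_21_3 lc_g_Cert_tree lc_g_Cert_tree lc_g_Cert_tree lc_g_rc_21_2 lc_g_Cert_tree lc_g_rc_23_3 lc_g_rc_26_3 lc_g_Cert_tree lc_g_rc_21_3 lc_g_Cert_tree lc_g_rc_21_2 lc_g_rc_26_0 lc_g_rc_24_7 lc_g_Cert_tree lc_g_rc_27_0 lc_g_Cert_tree lc_g_rc_21_3 lc_g_Cert_tree lc_g_rc_21_2 lc_g_rc_21_3 lc_g_rc_26_3 lc_g_rc_26_3 lc_g_rc_26_3 lc_g_rc_24_1 lc_g_rc_21_3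 lc_g_rc_26_6 lc_g_rc_26_0 lc_g_Cert_tree lc_g_Cert_tree lc_g_rc_21_3 lc_g_Cert_tree lc_g_Cert_tree lc_g_rc_21_2 lc_g_rc_21_3 lc_g_Cert_tree lc_g_rc_21_2 lc_g_rc_24_1 lc_g_rc_21_3 lc_g_Cert_tree lc_g_rc_21_2) (@D3.rec (fun _ => (Cert rels S Gen.g)) lc_g_Cert_tree lc_g_rc_26_6 lc_g_rc_26_3 lc_g_rc_24_1 lc_g_rc_24_9 lc_g_Cert_tree lc_g_Cert_tree lc_g_rc_21_2 lc_g_rc_23_7 lc_g_rc_26_6 lc_g_rc_21_3 lc_g_rc_21_3 lc_g_Cert_tree lc_g_rc_21_2 lc_g_rc_21_2 lc_g_rc_23_3 lc_g_rc_23_1 lc_g_rc_21_2 lc_g_Cert_tree lc_g_rc_21_3 lc_g_rc_23_9 lc_g_Cert_tree lc_g_Cert_tree lc_g_rc_27_3 lc_g_rc_24_9 lc_g_rc_26_3 lc_g_Cert_tree lc_g_Cert_tree lc_g_rc_23_7 lc_g_rc_26_3 lc_g_rc_24_9 lc_g_rc_27_0 lc_g_rc_21_3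 lc_g_Cert_tree lc_g_Cert_tree lc_g_rc_21_3 lc_g_rc_24_7 lc_g_Cert_tree lc_g_rc_21_3 lc_g_Cert_tree lc_g_Cert_tree lc_g_Cert_tree lc_g_rc_21_2 lc_g_Cert_tree lc_g_Cert_tree lc_g_rc_21_3 lc_g_Cert_tree lc_g_rc_27_3 lc_g_rc_21_2 lc_g_rc_27_3 lc_g_rc_24_3 lc_g_Cert_tree lc_g_rc_21_3 lc_g_Cert_tree lc_g_rc_21_2 lc_g_Cert_tree lc_g_Cert_tree lc_g_rc_21_3 lc_g_rc_27_6 lc_g_rc_26_6 lc_g_Cert_tree lc_g_rc_27_6) (@D3.rec (fun _ => (Cert rels S Gen.g)) lc_g_rc_21_3 lc_g_Cert_tree lc_g_rc_24_7 lc_g_rc_23_1 lc_g_Cert_tree lc_g_rc_27_0 lc_g_Cert_tree lc_g_rc_23_1 lc_g_rc_21_3 lc_g_Cert_tree lc_g_rc_21_2 lc_g_rc_23_9 lc_g_rc_23_3 lc_g_rc_23_1 lc_g_Cert_tree lc_g_Cert_tree lc_g_rc_24_7 lc_g_Cert_tree lc_g_rc_27_3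 lc_g_Cert_tree lc_g_rc_21_3 lc_g_rc_21_3 lc_g_Cert_tree lc_g_rc_27_3 lc_g_rc_23_9 lc_g_Cert_tree lc_g_rc_27_0 lc_g_rc_21_2 lc_g_rc_21_3 lc_g_rc_21_3 lc_g_Cert_tree lc_g_Cert_tree lc_g_rc_27_6 lc_g_Cert_tree lc_g_rc_26_9 lc_g_rc_26_6 lc_g_rc_23_3 lc_g_Cert_tree lc_g_rc_21_3 lc_g_Cert_tree lc_g_Cert_tree lc_g_Cert_tree lc_g_rc_21_2 lc_g_Cert_tree lc_g_Cert_tree lc_g_rc_21_2 lc_g_rc_21_3 lc_g_Cert_tree lc_g_rc_21_2 lc_g_Cert_tree lc_g_rc_23_3 lc_g_Cert_tree lc_g_rc_21_3 lc_g_Cert_tree lc_g_Cert_tree lc_g_rc_21_2 lc_g_rc_26_9 lc_g_rc_27_9 lc_g_rc_21_2 lc_g_rc_21_2 lc_g_rc_21_2 lc_g_rc_23_3) (@D3.rec (fun _ => (Cert rels S Gen.g)) lc_g_rc_21_2 lc_g_Cert_tree lc_g_rc_23_7 lc_g_Cert_tree lc_g_rc_21_3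 lc_g_rc_26_0 lc_g_Cert_tree lc_g_Cert_tree lc_g_rc_26_3 lc_g_rc_21_3 lc_g_Cert_tree lc_g_Cert_tree lc_g_rc_24_9 lc_g_rc_23_1 lc_g_Cert_tree lc_g_rc_21_2 lc_g_rc_27_6 lc_g_rc_26_6 lc_g_rc_26_0 lc_g_rc_26_0 lc_g_Cert_tree lc_g_rc_26_6 lc_g_rc_24_1 lc_g_rc_21_3 lc_g_rc_21_2 lc_g_rc_21_3 lc_g_Cert_tree lc_g_rc_21_3 lc_g_rc_27_0 lc_g_rc_21_3 lc_g_Cert_tree lc_g_rc_21_2 lc_g_Cert_tree lc_g_rc_26_9 lc_g_Cert_tree lc_g_Cert_tree lc_g_rc_26_0 lc_g_rc_23_1 lc_g_rc_21_2 lc_g_rc_21_3 lc_g_Cert_tree lc_g_Cert_tree lc_g_Cert_tree lc_g_rc_21_2 lc_g_rc_21_3 lc_g_Cert_tree lc_g_rc_21_2 lc_g_Cert_tree lc_g_rc_21_3 lc_g_Cert_tree lc_g_Cert_tree lc_g_Cert_tree lc_g_rc_23_1 lc_g_rc_21_2 lc_g_rc_21_3 lc_g_rc_21_2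 lc_g_rc_21_3 lc_g_Cert_tree lc_g_rc_21_2 lc_g_Cert_tree lc_g_rc_24_7 lc_g_rc_26_3) (@D3.rec (fun _ => (Cert rels S Gen.g)) lc_g_rc_26_6 lc_g_rc_27_6 lc_g_rc_24_7 lc_g_Cert_tree lc_g_Cert_tree lc_g_rc_24_9 lc_g_Cert_tree lc_g_rc_27_9 lc_g_rc_24_1 lc_g_rc_21_3 lc_g_Cert_tree lc_g_rc_21_2 lc_g_rc_26_3 lc_g_Cert_tree lc_g_rc_24_1 lc_g_rc_27_9 lc_g_rc_21_3 lc_g_rc_23_9 lc_g_Cert_tree lc_g_Cert_tree lc_g_Cert_tree lc_g_Cert_tree lc_g_Cert_tree lc_g_rc_24_1 lc_g_rc_27_0 lc_g_rc_24_9 lc_g_Cert_tree lc_g_rc_23_9 lc_g_rc_21_3 lc_g_Cert_tree lc_g_Cert_tree lc_g_rc_21_3 lc_g_rc_24_7 lc_g_Cert_tree lc_g_rc_21_3 lc_g_Cert_tree lc_g_Cert_tree lc_g_Cert_tree lc_g_rc_21_2 lc_g_Cert_tree lc_g_rc_23_9 lc_g_Cert_tree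 lc_g_Cert_tree lc_g_Cert_tree lc_g_rc_23_9 lc_g_rc_24_7 lc_g_Cert_tree lc_g_rc_24_3 lc_g_rc_27_3 lc_g_rc_23_1 lc_g_Cert_tree lc_g_Cert_tree lc_g_rc_21_3 lc_g_Cert_tree lc_g_rc_21_3 lc_g_Cert_tree lc_g_rc_21_2 lc_g_rc_24_1 lc_g_rc_23_3 lc_g_rc_21_2 lc_g_rc_23_7 lc_g_Cert_tree) (@D3.rec (fun _ => (Cert rels S Gen.g)) lc_g_Cert_tree lc_g_Cert_tree lc_g_rc_27_6 lc_g_Cert_tree lc_g_rc_23_9 lc_g_Cert_tree lc_g_rc_21_3 lc_g_Cert_tree lc_g_rc_21_3 lc_g_Cert_tree lc_g_rc_21_2 lc_g_rc_24_7 lc_g_Cert_tree lc_g_Cert_tree lc_g_Cert_tree lc_g_Cert_tree lc_g_Cert_tree lc_g_rc_21_3 lc_g_Cert_tree lc_g_rc_27_3 lc_g_rc_27_9 lc_g_rc_26_3 lc_g_Cert_tree lc_g_Cert_tree lc_g_rc_24_1 lc_g_Cert_tree lc_g_rc_21_3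 lc_g_Cert_tree lc_g_rc_21_2 lc_g_rc_25_7 lc_g_Cert_tree lc_g_rc_21_2 lc_g_Cert_tree lc_g_rc_24_1 lc_g_rc_21_2 lc_g_Cert_tree lc_g_Cert_tree lc_g_rc_26_6 lc_g_Cert_tree lc_g_rc_21_3 lc_g_rc_21_3 lc_g_Cert_tree lc_g_Cert_tree lc_g_Cert_tree lc_g_rc_21_3 lc_g_Cert_tree lc_g_rc_23_9 lc_g_Cert_tree lc_g_Cert_tree lc_g_Cert_tree lc_g_rc_24_7 lc_g_rc_26_0 lc_g_rc_23_1 lc_g_rc_26_3 lc_g_Cert_tree lc_g_Cert_tree lc_g_rc_24_3 lc_g_rc_23_9 lc_g_Cert_tree lc_g_Cert_tree lc_g_Cert_tree lc_g_rc_26_6) (@D3.rec (fun _ => (Cert rels S Gen.g)) lc_g_rc_24_7 lc_g_Cert_tree lc_g_rc_23_9 lc_g_rc_23_1 lc_g_Cert_tree lc_g_rc_26_3 lc_g_rc_21_3 lc_g_Cert_tree lc_g_rc_21_2 lc_g_rc_23_1 lc_g_rc_27_0 lc_g_rc_23_3 lc_g_rc_27_3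 lc_g_rc_24_9 lc_g_rc_23_9 lc_g_rc_27_3 lc_g_rc_21_3 lc_g_rc_26_9 lc_g_rc_21_3 lc_g_Cert_tree lc_g_rc_24_3 lc_g_Cert_tree lc_g_Cert_tree lc_g_Cert_tree lc_g_rc_26_6 lc_g_Cert_tree lc_g_rc_21_2 lc_g_rc_27_6 lc_g_Cert_tree lc_g_rc_27_6 lc_g_rc_24_7 lc_g_rc_21_3 lc_g_Cert_tree lc_g_rc_21_2 lc_g_rc_27_9 lc_g_Cert_tree lc_g_rc_26_0 lc_g_rc_23_9 lc_g_rc_21_2 lc_g_Cert_tree lc_g_rc_27_6 lc_g_Cert_tree lc_g_rc_26_6 lc_g_rc_23_3 lc_g_Cert_tree lc_g_Cert_tree lc_g_Cert_tree lc_g_rc_21_3 lc_g_rc_21_3 lc_g_rc_26_0 lc_g_Cert_tree lc_g_rc_23_7 lc_g_Cert_tree lc_g_rc_21_3 lc_g_rc_23_1 lc_g_Cert_tree lc_g_Cert_tree lc_g_Cert_tree lc_g_rc_21_2 lc_g_rc_26_6 lc_g_Cert_tree lc_g_rc_26_6) (@D3.rec (fun _ =>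 (Cert rels S Gen.g)) lc_g_Cert_tree lc_g_rc_23_3 lc_g_rc_26_6 lc_g_rc_21_3 lc_g_Cert_tree lc_g_rc_27_3 lc_g_rc_21_3 lc_g_rc_26_6 lc_g_rc_21_3 lc_g_rc_21_3 lc_g_rc_26_6 lc_g_Cert_tree lc_g_rc_26_6 lc_g_Cert_tree lc_g_Cert_tree lc_g_Cert_tree lc_g_rc_21_2 lc_g_rc_21_2 lc_g_Cert_tree lc_g_rc_27_9 lc_g_Cert_tree lc_g_Cert_tree lc_g_rc_23_3 lc_g_rc_21_3 lc_g_Cert_tree lc_g_rc_21_2 lc_g_Cert_tree lc_g_Cert_tree lc_g_rc_21_2 lc_g_rc_23_9 lc_g_Cert_tree lc_g_Cert_tree lc_g_Cert_tree lc_g_Cert_tree lc_g_rc_21_3 lc_g_rc_24_1 lc_g_Cert_tree lc_g_rc_23_3 lc_g_rc_21_3 lc_g_rc_24_7 lc_g_Cert_tree lc_g_rc_27_3 lc_g_rc_24_7 lc_g_Cert_tree lc_g_rc_21_3 lc_g_Cert_tree lc_g_Cert_tree lc_g_Cert_tree lc_g_rc_21_2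 lc_g_Cert_tree lc_g_rc_26_9 lc_g_rc_23_7 lc_g_rc_27_3 lc_g_rc_27_9 lc_g_rc_21_3 lc_g_Cert_tree lc_g_Cert_tree lc_g_Cert_tree lc_g_rc_23_9 lc_g_rc_24_7 lc_g_Cert_tree lc_g_rc_23_1) (@D3.rec (fun _ => (Cert rels S Gen.g)) lc_g_Cert_tree lc_g_rc_21_3 lc_g_rc_21_2 lc_g_rc_21_3 lc_g_Cert_tree lc_g_rc_21_2 lc_g_rc_23_9 lc_g_Cert_tree lc_g_Cert_tree lc_g_Cert_tree lc_g_rc_23_9 lc_g_Cert_tree lc_g_rc_23_3 lc_g_rc_21_3 lc_g_rc_21_3 lc_g_Cert_tree lc_g_rc_21_2 lc_g_rc_24_7 lc_g_rc_24_9 lc_g_Cert_tree lc_g_Cert_tree lc_g_Cert_tree lc_g_rc_23_9 lc_g_Cert_tree lc_g_rc_21_3 lc_g_Cert_tree lc_g_rc_21_2 lc_g_rc_21_3 lc_g_Cert_tree lc_g_Cert_tree lc_g_rc_23_7 lc_g_Cert_tree lc_g_rc_21_3 lc_g_Cert_tree lc_g_rc_21_2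 lc_g_Cert_tree lc_g_rc_23_1 lc_g_rc_21_2 lc_g_Cert_tree lc_g_rc_23_7 lc_g_rc_21_2 lc_g_Cert_tree lc_g_Cert_tree lc_g_rc_21_3 lc_g_Cert_tree lc_g_rc_26_6 lc_g_rc_21_3 lc_g_Cert_tree lc_g_Cert_tree lc_g_Cert_tree lc_g_rc_21_3 lc_g_rc_23_3 lc_g_Cert_tree lc_g_Cert_tree lc_g_Cert_tree lc_g_rc_23_9 lc_g_Cert_tree lc_g_rc_26_6 lc_g_Cert_tree lc_g_rc_24_7 lc_g_rc_21_3 lc_g_Cert_tree) (@D3.rec (fun _ => (Cert rels S Gen.g)) lc_g_rc_21_2 lc_g_rc_26_6 lc_g_rc_23_9 lc_g_rc_26_3 lc_g_rc_21_3 lc_g_Cert_tree lc_g_rc_21_2 lc_g_rc_21_2 lc_g_Cert_tree lc_g_Cert_tree lc_g_rc_27_6 lc_g_rc_23_9 lc_g_Cert_tree lc_g_Cert_tree lc_g_Cert_tree lc_g_rc_23_9 lc_g_rc_26_9 lc_g_rc_21_2 lc_g_rc_24_1 lc_g_rc_23_1 lc_g_Cert_tree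 lc_g_Cert_tree lc_g_rc_23_7 lc_g_rc_23_9 lc_g_rc_23_9 lc_g_Cert_tree lc_g_Cert_tree lc_g_Cert_tree lc_g_rc_23_9 lc_g_Cert_tree lc_g_rc_21_2 lc_g_rc_21_2 lc_g_Cert_tree lc_g_rc_27_6 lc_g_rc_24_3 lc_g_rc_21_3 lc_g_rc_27_3 lc_g_Cert_tree lc_g_rc_27_3 lc_g_rc_21_2 lc_g_rc_26_6 lc_g_Cert_tree lc_g_Cert_tree lc_g_rc_21_3 lc_g_rc_27_3 lc_g_rc_24_3 lc_g_rc_26_9 lc_g_rc_21_3 lc_g_rc_21_3 lc_g_Cert_tree lc_g_rc_23_3 lc_g_rc_21_3 lc_g_Cert_tree lc_g_rc_21_2 lc_g_rc_26_3 lc_g_Cert_tree lc_g_Cert_tree lc_g_Cert_tree lc_g_Cert_tree lc_g_rc_23_9 lc_g_Cert_tree lc_g_rc_26_0) (@D3.rec (fun _ => (Cert rels S Gen.g)) lc_g_Cert_tree lc_g_rc_23_3 lc_g_rc_26_9 lc_g_rc_23_3 lc_g_rc_23_3 lc_g_Cert_tree lc_g_rc_21_3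 lc_g_Cert_tree lc_g_rc_21_2 lc_g_Cert_tree lc_g_Cert_tree lc_g_rc_23_3 lc_g_rc_21_3 lc_g_Cert_tree lc_g_rc_21_2 lc_g_Cert_tree lc_g_rc_23_3 lc_g_rc_26_9 lc_g_rc_27_3 lc_g_rc_24_9 lc_g_Cert_tree lc_g_rc_26_0 lc_g_rc_26_6 lc_g_rc_21_3 lc_g_rc_21_3 lc_g_rc_21_2 lc_g_rc_21_2 lc_g_rc_27_9 lc_g_rc_23_7 lc_g_rc_24_9 lc_g_Cert_tree lc_g_rc_23_1 lc_g_rc_23_9 lc_g_Cert_tree lc_g_Cert_tree lc_g_Cert_tree lc_g_rc_23_1 lc_g_rc_21_3 lc_g_rc_24_1 lc_g_rc_21_3 lc_g_rc_24_9 lc_g_rc_21_3 lc_g_rc_23_9 lc_g_rc_21_3 lc_g_Cert_tree lc_g_Cert_tree lc_g_rc_27_3 lc_g_rc_24_7 lc_g_Cert_tree lc_g_rc_21_3 lc_g_Cert_tree lc_g_Cert_tree lc_g_Cert_tree lc_g_rc_21_2 lc_g_Cert_tree lc_g_Cert_tree lc_g_Cert_tree lc_g_rc_21_3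 lc_g_Cert_tree lc_g_rc_21_2 lc_g_rc_23_9 lc_g_Cert_tree) (@D3.rec (fun _ => (Cert rels S Gen.g)) lc_g_rc_21_3 lc_g_Cert_tree lc_g_rc_21_2 lc_g_Cert_tree lc_g_Cert_tree lc_g_rc_21_3 lc_g_Cert_tree lc_g_rc_26_6 lc_g_Cert_tree lc_g_rc_21_2 lc_g_rc_21_3 lc_g_rc_26_6 lc_g_Cert_tree lc_g_Cert_tree lc_g_rc_21_2 lc_g_rc_27_9 lc_g_rc_21_3 lc_g_rc_21_3 lc_g_rc_21_2 lc_g_rc_21_2 lc_g_rc_24_9 lc_g_rc_24_9 lc_g_Cert_tree lc_g_rc_21_3 lc_g_rc_26_9 lc_g_rc_24_1 lc_g_rc_27_0 lc_g_rc_21_3 lc_g_Cert_tree lc_g_rc_26_3 lc_g_rc_26_6 lc_g_rc_21_2 lc_g_Cert_tree lc_g_Cert_tree lc_g_Cert_tree lc_g_rc_21_3 lc_g_rc_24_9 lc_g_rc_21_3 lc_g_rc_23_9 lc_g_Cert_tree lc_g_Cert_tree lc_g_rc_21_3 lc_g_rc_23_1 lc_g_Cert_tree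 lc_g_rc_21_3 lc_g_Cert_tree lc_g_Cert_tree lc_g_Cert_tree lc_g_rc_21_2 lc_g_Cert_tree lc_g_Cert_tree lc_g_Cert_tree lc_g_rc_21_3 lc_g_Cert_tree lc_g_rc_21_2 lc_g_Cert_tree lc_g_Cert_tree lc_g_rc_21_3 lc_g_Cert_tree lc_g_rc_21_2 lc_g_Cert_tree lc_g_Cert_tree) (@D3.rec (fun _ => (Cert rels S Gen.g)) lc_g_rc_21_3 lc_g_Cert_tree lc_g_rc_26_6 lc_g_Cert_tree lc_g_rc_21_2 lc_g_rc_21_3 lc_g_Cert_tree lc_g_rc_23_9 lc_g_rc_24_9 lc_g_rc_21_3 lc_g_rc_21_3 lc_g_Cert_tree lc_g_rc_26_3 lc_g_rc_24_9 lc_g_rc_24_9 lc_g_rc_26_6 lc_g_rc_21_3 lc_g_rc_21_2 lc_g_rc_21_2 lc_g_rc_24_7 lc_g_Cert_tree lc_g_rc_24_3 lc_g_rc_21_2 lc_g_Cert_tree lc_g_rc_21_3 lc_g_Cert_tree lc_g_Cert_tree lc_g_Cert_tree lc_g_rc_21_2 lc_g_Cert_tree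 lc_g_rc_21_3 lc_g_Cert_tree lc_g_rc_21_2 lc_g_rc_21_2 lc_g_rc_24_1 lc_g_Cert_tree lc_g_rc_21_3 lc_g_rc_23_9 lc_g_rc_24_9 lc_g_rc_24_3 lc_g_Cert_tree lc_g_rc_21_3 lc_g_Cert_tree lc_g_Cert_tree lc_g_rc_23_3 lc_g_rc_21_2 lc_g_rc_27_3 lc_g_rc_24_1 lc_g_rc_21_3 lc_g_Cert_tree lc_g_rc_21_2 lc_g_rc_27_9 lc_g_rc_24_1 lc_g_Cert_tree lc_g_Cert_tree lc_g_rc_27_6 lc_g_rc_24_1 lc_g_rc_27_0 lc_g_rc_26_3 lc_g_Cert_tree lc_g_rc_21_3 lc_g_Cert_tree) (@D3.rec (fun _ => (Cert rels S Gen.g)) lc_g_rc_26_9 lc_g_rc_27_3 lc_g_rc_27_3 lc_g_rc_24_7 lc_g_Cert_tree lc_g_rc_21_3 lc_g_Cert_tree lc_g_Cert_tree lc_g_Cert_tree lc_g_rc_21_2 lc_g_Cert_tree lc_g_Cert_tree lc_g_Cert_tree lc_g_rc_26_0 lc_g_rc_24_1 lc_g_rc_21_3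 lc_g_rc_21_3 lc_g_rc_24_3 lc_g_rc_21_2 lc_g_rc_23_7 lc_g_rc_27_0 lc_g_rc_23_9 lc_g_Cert_tree lc_g_Cert_tree lc_g_Cert_tree lc_g_rc_24_1 lc_g_Cert_tree lc_g_rc_21_3 lc_g_Cert_tree lc_g_Cert_tree lc_g_rc_26_3 lc_g_Cert_tree lc_g_rc_21_3 lc_g_Cert_tree lc_g_Cert_tree lc_g_Cert_tree lc_g_rc_21_2 lc_g_rc_21_2 lc_g_rc_21_2 lc_g_rc_24_3 lc_g_Cert_tree lc_g_rc_24_9 lc_g_Cert_tree lc_g_Cert_tree lc_g_rc_27_3 lc_g_rc_23_1 lc_g_rc_23_3 lc_g_rc_21_2 lc_g_rc_24_7 lc_g_rc_23_9 lc_g_Cert_tree lc_g_rc_24_1 lc_g_Cert_tree lc_g_Cert_tree lc_g_rc_27_3 lc_g_rc_26_3 lc_g_rc_24_7 lc_g_Cert_tree lc_g_rc_23_1 lc_g_rc_27_6 lc_g_rc_24_3 lc_g_Cert_tree) (@D3.rec (fun _ => (Cert rels S Gen.g)) lc_g_Cert_tree lc_g_Cert_tree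 lc_g_Cert_tree lc_g_rc_21_3 lc_g_Cert_tree lc_g_Cert_tree lc_g_rc_21_2 lc_g_rc_26_6 lc_g_rc_26_3 lc_g_rc_21_2 lc_g_rc_21_2 lc_g_rc_21_2 lc_g_rc_23_9 lc_g_Cert_tree lc_g_rc_26_3 lc_g_Cert_tree lc_g_rc_23_3 lc_g_rc_27_0 lc_g_rc_27_0 lc_g_rc_26_3 lc_g_Cert_tree lc_g_rc_21_2 lc_g_rc_27_9 lc_g_rc_26_0 lc_g_Cert_tree lc_g_rc_23_7 lc_g_Cert_tree lc_g_rc_21_3 lc_g_Cert_tree lc_g_Cert_tree lc_g_rc_27_0 lc_g_Cert_tree lc_g_rc_26_0 lc_g_rc_26_3 lc_g_rc_26_6 lc_g_Cert_tree lc_g_rc_26_0 lc_g_Cert_tree lc_g_Cert_tree lc_g_Cert_tree lc_g_Cert_tree lc_g_rc_23_1 lc_g_rc_26_3 lc_g_rc_26_6 lc_g_rc_21_3 lc_g_Cert_tree lc_g_rc_27_3 lc_g_rc_21_2 lc_g_rc_26_0 lc_g_rc_26_0 lc_g_Cert_tree lc_g_Cert_tree lc_g_rc_24_1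 lc_g_Cert_tree lc_g_rc_27_0 lc_g_rc_21_3 lc_g_Cert_tree lc_g_Cert_tree lc_g_rc_27_6 lc_g_Cert_tree lc_g_rc_21_3 lc_g_Cert_tree) (@D3.rec (fun _ => (Cert rels S Gen.g)) lc_g_rc_27_6 lc_g_Cert_tree lc_g_rc_21_3 lc_g_rc_24_1 lc_g_rc_26_9 lc_g_Cert_tree lc_g_Cert_tree lc_g_rc_26_9 lc_g_Cert_tree lc_g_rc_21_3 lc_g_rc_21_3 lc_g_Cert_tree lc_g_rc_21_2 lc_g_Cert_tree lc_g_rc_21_2 lc_g_Cert_tree lc_g_rc_21_3 lc_g_Cert_tree lc_g_rc_23_9 lc_g_Cert_tree lc_g_Cert_tree lc_g_Cert_tree lc_g_rc_23_1 lc_g_Cert_tree lc_g_Cert_tree lc_g_rc_21_3 lc_g_rc_27_6 lc_g_rc_21_3 lc_g_Cert_tree lc_g_rc_21_2 lc_g_rc_23_9 lc_g_Cert_tree lc_g_Cert_tree lc_g_Cert_tree lc_g_rc_21_3 lc_g_Cert_tree lc_g_rc_21_3 lc_g_rc_21_2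 lc_g_Cert_tree lc_g_Cert_tree lc_g_Cert_tree lc_g_rc_24_1 lc_g_Cert_tree lc_g_rc_21_3 lc_g_Cert_tree lc_g_rc_21_2 lc_g_rc_21_3 lc_g_Cert_tree lc_g_Cert_tree lc_g_rc_24_1 lc_g_rc_21_3 lc_g_Cert_tree lc_g_rc_21_2 lc_g_Cert_tree lc_g_rc_26_6 lc_g_rc_26_3 lc_g_Cert_tree lc_g_rc_23_7 lc_g_Cert_tree lc_g_Cert_tree lc_g_rc_21_2 lc_g_Cert_tree) (@D3.rec (fun _ => (Cert rels S Gen.g)) lc_g_rc_21_3 lc_g_rc_21_3 lc_g_Cert_tree lc_g_rc_21_2 lc_g_rc_21_2 lc_g_rc_26_9 lc_g_Cert_tree lc_g_rc_26_9 lc_g_Cert_tree lc_g_Cert_tree lc_g_rc_21_2 lc_g_rc_24_7 lc_g_Cert_tree lc_g_rc_26_0 lc_g_rc_23_1 lc_g_rc_27_3 lc_g_rc_24_3 lc_g_Cert_tree lc_g_Cert_tree lc_g_rc_21_3 lc_g_Cert_tree lc_g_rc_21_3 lc_g_Cert_tree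 lc_g_rc_21_2 lc_g_Cert_tree lc_g_rc_23_7 lc_g_rc_27_0 lc_g_rc_23_1 lc_g_rc_23_7 lc_g_rc_24_9 lc_g_Cert_tree lc_g_Cert_tree lc_g_Cert_tree lc_g_rc_23_3 lc_g_Cert_tree lc_g_rc_21_3 lc_g_Cert_tree lc_g_rc_21_2 lc_g_Cert_tree lc_g_rc_23_9 lc_g_rc_27_6 lc_g_Cert_tree lc_g_rc_23_7 lc_g_rc_21_2 lc_g_Cert_tree lc_g_rc_23_1 lc_g_rc_27_6 lc_g_rc_21_3 lc_g_Cert_tree lc_g_rc_21_2 lc_g_Cert_tree lc_g_Cert_tree lc_g_rc_21_3 lc_g_rc_27_0 lc_g_rc_24_3 lc_g_rc_21_2 lc_g_rc_27_6 lc_g_rc_21_2 lc_g_Cert_tree lc_g_rc_21_2 lc_g_Cert_tree lc_g_rc_21_3) (@D3.rec (fun _ => (Cert rels S Gen.g)) lc_g_rc_21_2 lc_g_rc_21_3 lc_g_rc_24_9 lc_g_rc_21_3 lc_g_Cert_tree lc_g_rc_26_3 lc_g_Cert_tree lc_g_rc_21_3 lc_g_Cert_tree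 lc_g_rc_26_6 lc_g_rc_27_0 lc_g_rc_24_7 lc_g_rc_26_6 lc_g_rc_27_0 lc_g_rc_24_3 lc_g_rc_26_6 lc_g_rc_23_9 lc_g_Cert_tree lc_g_Cert_tree lc_g_Cert_tree lc_g_Cert_tree lc_g_rc_21_3 lc_g_Cert_tree lc_g_Cert_tree lc_g_rc_21_2 lc_g_rc_27_0 lc_g_Cert_tree lc_g_rc_21_3 lc_g_Cert_tree lc_g_rc_21_2 lc_g_Cert_tree lc_g_Cert_tree lc_g_rc_27_6 lc_g_rc_27_6 lc_g_Cert_tree lc_g_rc_21_3 lc_g_rc_21_2 lc_g_rc_26_9 lc_g_rc_27_0 lc_g_rc_27_3 lc_g_rc_23_1 lc_g_rc_27_0 lc_g_Cert_tree lc_g_Cert_tree lc_g_rc_21_2 lc_g_rc_26_3 lc_g_rc_21_2 lc_g_rc_27_3 lc_g_Cert_tree lc_g_rc_21_2 lc_g_Cert_tree lc_g_Cert_tree lc_g_Cert_tree lc_g_rc_21_3 lc_g_rc_21_3 lc_g_Cert_tree lc_g_rc_27_6 lc_g_rc_21_2 lc_g_Cert_tree lc_g_rc_27_6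 lc_g_rc_21_3 lc_g_Cert_tree) (@D3.rec (fun _ => (Cert rels S Gen.g)) lc_g_rc_21_2 lc_g_Cert_tree lc_g_Cert_tree lc_g_rc_24_1 lc_g_Cert_tree lc_g_Cert_tree lc_g_rc_21_3 lc_g_Cert_tree lc_g_Cert_tree lc_g_rc_21_2 lc_g_rc_26_0 lc_g_rc_24_7 lc_g_rc_27_9 lc_g_rc_24_7 lc_g_rc_27_3 lc_g_rc_27_0 lc_g_rc_27_6 lc_g_rc_21_2 lc_g_Cert_tree lc_g_rc_21_2 lc_g_Cert_tree lc_g_Cert_tree lc_g_Cert_tree lc_g_Cert_tree lc_g_rc_21_3 lc_g_Cert_tree lc_g_rc_21_2 lc_g_rc_21_3 lc_g_Cert_tree lc_g_rc_21_2 lc_g_Cert_tree lc_g_Cert_tree lc_g_rc_27_6 lc_g_rc_23_3 lc_g_Cert_tree lc_g_rc_21_2 lc_g_rc_23_1 lc_g_rc_27_0 lc_g_rc_27_3 lc_g_rc_26_3 lc_g_rc_26_6 lc_g_Cert_tree lc_g_rc_21_2 lc_g_Cert_tree lc_g_Cert_tree lc_g_Cert_tree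 lc_g_rc_23_1 lc_g_Cert_tree lc_g_Cert_tree lc_g_Cert_tree lc_g_rc_21_2 lc_g_rc_21_3 lc_g_Cert_tree lc_g_rc_26_9 lc_g_Cert_tree lc_g_Cert_tree lc_g_Cert_tree lc_g_rc_27_6 lc_g_rc_21_2 lc_g_rc_21_2 lc_g_rc_21_2 lc_g_rc_24_9) (@D3.rec (fun _ => (Cert rels S Gen.g)) lc_g_Cert_tree lc_g_Cert_tree lc_g_Cert_tree lc_g_rc_26_6 lc_g_Cert_tree lc_g_rc_21_2 lc_g_rc_26_6 lc_g_rc_27_3 lc_g_rc_21_2 lc_g_rc_21_3 lc_g_Cert_tree lc_g_Cert_tree lc_g_Cert_tree lc_g_Cert_tree lc_g_rc_26_6 lc_g_rc_21_2 lc_g_Cert_tree lc_g_rc_21_3 lc_g_Cert_tree lc_g_rc_21_2 lc_g_rc_21_3 lc_g_Cert_tree lc_g_Cert_tree lc_g_rc_27_6 lc_g_rc_27_6 lc_g_Cert_tree lc_g_rc_27_0 lc_g_rc_27_3 lc_g_rc_27_6 lc_g_rc_27_9 lc_g_rc_27_0 lc_g_rc_24_1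 lc_g_rc_26_6 lc_g_rc_26_9 lc_g_Cert_tree lc_g_rc_21_2 lc_g_Cert_tree lc_g_Cert_tree lc_g_rc_21_2 lc_g_rc_24_7 lc_g_rc_26_3 lc_g_Cert_tree lc_g_rc_24_1 lc_g_rc_24_3 lc_g_rc_27_3 lc_g_rc_24_3 lc_g_Cert_tree lc_g_Cert_tree lc_g_Cert_tree lc_g_Cert_tree lc_g_rc_21_3 lc_g_Cert_tree lc_g_Cert_tree lc_g_rc_21_2 lc_g_rc_26_6 lc_g_rc_27_6 lc_g_rc_24_9 lc_g_rc_27_0 lc_g_rc_23_1 lc_g_rc_27_0 lc_g_rc_26_3 lc_g_rc_26_3) (@D3.rec (fun _ => (Cert rels S Gen.g)) lc_g_rc_24_3 lc_g_Cert_tree lc_g_Cert_tree lc_g_Cert_tree lc_g_rc_21_3 lc_g_Cert_tree lc_g_rc_21_2 lc_g_rc_24_3 lc_g_rc_24_3 lc_g_Cert_tree lc_g_Cert_tree lc_g_rc_27_6 lc_g_Cert_tree lc_g_rc_21_3 lc_g_rc_21_3 lc_g_Cert_tree lc_g_rc_21_2 lc_g_rc_23_3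 lc_g_rc_27_9 lc_g_rc_21_3 lc_g_rc_27_3 lc_g_Cert_tree lc_g_rc_26_0 lc_g_Cert_tree lc_g_rc_26_0 lc_g_Cert_tree lc_g_rc_24_9 lc_g_rc_23_9 lc_g_Cert_tree lc_g_rc_23_9 lc_g_rc_21_3 lc_g_Cert_tree lc_g_rc_26_9 lc_g_rc_21_2 lc_g_rc_27_6 lc_g_rc_21_3 lc_g_Cert_tree lc_g_rc_21_2 lc_g_rc_26_6 lc_g_Cert_tree lc_g_rc_21_3 lc_g_Cert_tree lc_g_rc_21_2 lc_g_rc_21_3 lc_g_Cert_tree lc_g_rc_21_3 lc_g_Cert_tree lc_g_rc_21_2 lc_g_Cert_tree lc_g_Cert_tree lc_g_Cert_tree lc_g_rc_26_0 lc_g_Cert_tree lc_g_rc_26_6 lc_g_rc_24_1 lc_g_Cert_tree lc_g_rc_27_6 lc_g_rc_21_3 lc_g_rc_21_2 lc_g_Cert_tree lc_g_rc_21_3 lc_g_Cert_tree) (@D3.rec (fun _ => (Cert rels S Gen.g)) lc_g_Cert_tree lc_g_Cert_tree lc_g_rc_21_3 lc_g_Cert_tree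 lc_g_rc_27_3 lc_g_rc_21_2 lc_g_rc_21_3 lc_g_Cert_tree lc_g_rc_21_2 lc_g_Cert_tree lc_g_rc_27_6 lc_g_rc_23_1 lc_g_rc_26_3 lc_g_rc_23_3 lc_g_rc_24_7 lc_g_Cert_tree lc_g_rc_23_9 lc_g_rc_23_9 lc_g_rc_27_3 lc_g_rc_24_1 lc_g_rc_27_6 lc_g_rc_24_9 lc_g_rc_27_6 lc_g_rc_26_6 lc_g_rc_24_7 lc_g_rc_27_6 lc_g_rc_24_7 lc_g_rc_23_1 lc_g_rc_26_6 lc_g_rc_23_3 lc_g_Cert_tree lc_g_Cert_tree lc_g_Cert_tree lc_g_rc_21_3 lc_g_Cert_tree lc_g_Cert_tree lc_g_rc_21_2 lc_g_rc_26_6 lc_g_rc_26_6 lc_g_rc_24_3 lc_g_rc_26_6 lc_g_Cert_tree lc_g_rc_26_3 lc_g_Cert_tree lc_g_Cert_tree lc_g_rc_21_2 lc_g_Cert_tree lc_g_rc_26_9 lc_g_rc_21_2 lc_g_rc_27_6 lc_g_rc_26_9 lc_g_rc_21_3 lc_g_Cert_tree lc_g_rc_21_2 lc_g_rc_21_2 lc_g_rc_25_7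 lc_g_rc_25_19 lc_g_rc_24_1 lc_g_rc_23_3 lc_g_rc_21_3 lc_g_Cert_tree lc_g_Cert_tree) (@D3.rec (fun _ => (Cert rels S Gen.g)) lc_g_Cert_tree lc_g_rc_26_6 lc_g_Cert_tree lc_g_rc_25_19 lc_g_rc_21_2 lc_g_rc_26_6 lc_g_rc_26_9 lc_g_rc_26_0 lc_g_rc_21_3 lc_g_rc_23_7 lc_g_rc_21_3 lc_g_Cert_tree lc_g_Cert_tree lc_g_Cert_tree lc_g_rc_23_1 lc_g_Cert_tree lc_g_rc_21_2 lc_g_rc_27_6 lc_g_rc_21_3 lc_g_Cert_tree lc_g_Cert_tree lc_g_rc_21_2 lc_g_rc_24_1 lc_g_rc_23_1 lc_g_Cert_tree lc_g_rc_21_3 lc_g_rc_23_3 lc_g_rc_24_1 lc_g_rc_26_6 lc_g_rc_26_3 lc_g_rc_27_3 lc_g_rc_25_15 lc_g_rc_23_3 lc_g_rc_21_3 lc_g_Cert_tree lc_g_rc_21_3 lc_g_rc_21_3 lc_g_Cert_tree lc_g_Cert_tree lc_g_rc_21_2 lc_g_rc_26_6 lc_g_rc_24_1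 lc_g_rc_21_3 lc_g_rc_26_9 lc_g_rc_21_3 lc_g_rc_21_2 lc_g_rc_26_0 lc_g_rc_21_2 lc_g_rc_24_1 lc_g_rc_21_2 lc_g_rc_21_2 lc_g_rc_21_3 lc_g_Cert_tree lc_g_Cert_tree lc_g_Cert_tree lc_g_rc_21_3 lc_g_Cert_tree lc_g_Cert_tree lc_g_Cert_tree lc_g_rc_26_0 lc_g_rc_27_3 lc_g_rc_26_9) (@D3.rec (fun _ => (Cert rels S Gen.g)) lc_g_rc_21_3 lc_g_Cert_tree lc_g_rc_21_3 lc_g_rc_27_6 lc_g_rc_21_3 lc_g_Cert_tree lc_g_Cert_tree lc_g_rc_21_2 lc_g_Cert_tree lc_g_rc_24_7 lc_g_rc_21_2 lc_g_rc_27_6 lc_g_rc_21_3 lc_g_rc_21_3 lc_g_rc_26_6 lc_g_rc_21_3 lc_g_rc_21_2 lc_g_rc_21_2 lc_g_rc_21_2 lc_g_rc_21_3 lc_g_Cert_tree lc_g_Cert_tree lc_g_Cert_tree lc_g_rc_21_3 lc_g_Cert_tree lc_g_Cert_tree lc_g_Cert_tree lc_g_Cert_tree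 lc_g_rc_21_3 lc_g_rc_21_3 lc_g_Cert_tree lc_g_rc_24_1 lc_g_rc_21_2 lc_g_rc_24_3 lc_g_rc_27_3 lc_g_rc_21_2 lc_g_rc_21_2 lc_g_rc_21_2 lc_g_rc_21_2 lc_g_rc_21_2 lc_g_rc_21_3 lc_g_Cert_tree lc_g_rc_26_6 lc_g_rc_21_2 lc_g_rc_21_2 lc_g_rc_21_3 lc_g_Cert_tree lc_g_Cert_tree lc_g_rc_21_3 lc_g_rc_27_0 lc_g_rc_21_3 lc_g_rc_26_0 lc_g_rc_23_7 lc_g_Cert_tree lc_g_rc_21_2 lc_g_rc_21_2 lc_g_rc_21_2 lc_g_rc_21_3 lc_g_Cert_tree lc_g_rc_21_3 lc_g_rc_21_2 lc_g_rc_21_3) (@D3.rec (fun _ => (Cert rels S Gen.g)) lc_g_Cert_tree lc_g_Cert_tree lc_g_Cert_tree lc_g_rc_23_1 lc_g_Cert_tree lc_g_Cert_tree lc_g_rc_21_2 lc_g_rc_23_1 lc_g_rc_24_9 lc_g_rc_21_3 lc_g_Cert_tree lc_g_Cert_tree lc_g_Cert_tree lc_g_Cert_tree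 lc_g_rc_21_2 lc_g_rc_21_3 lc_g_Cert_tree lc_g_rc_21_2 lc_g_Cert_tree lc_g_Cert_tree lc_g_Cert_tree lc_g_rc_21_2 lc_g_Cert_tree lc_g_Cert_tree lc_g_rc_21_3 lc_g_Cert_tree lc_g_rc_27_0 lc_g_rc_21_2 lc_g_rc_23_9 lc_g_Cert_tree lc_g_Cert_tree lc_g_Cert_tree lc_g_rc_26_0 lc_g_rc_21_2 lc_g_rc_21_3 lc_g_Cert_tree lc_g_rc_21_2 lc_g_Cert_tree lc_g_rc_21_3 lc_g_Cert_tree lc_g_rc_27_3 lc_g_rc_21_2 lc_g_Cert_tree lc_g_Cert_tree lc_g_Cert_tree lc_g_rc_21_2 lc_g_rc_26_6 lc_g_rc_24_7 lc_g_rc_24_1 lc_g_Cert_tree lc_g_rc_21_2 lc_g_rc_21_3 lc_g_Cert_tree lc_g_Cert_tree lc_g_rc_21_2 lc_g_rc_21_3 lc_g_Cert_tree lc_g_rc_21_2 lc_g_rc_21_3 lc_g_Cert_tree lc_g_Cert_tree lc_g_rc_21_3) (@D3.rec (fun _ => (Cert rels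 S Gen.g)) lc_g_Cert_tree lc_g_Cert_tree lc_g_rc_26_3 lc_g_rc_26_3 lc_g_rc_21_3 lc_g_rc_26_9 lc_g_rc_26_9 lc_g_rc_26_3 lc_g_rc_21_2 lc_g_rc_21_3 lc_g_rc_21_3 lc_g_rc_27_3 lc_g_rc_27_6 lc_g_rc_23_3 lc_g_rc_21_3 lc_g_rc_24_7 lc_g_rc_27_3 lc_g_rc_26_9 lc_g_rc_26_6 lc_g_rc_24_9 lc_g_rc_23_1 lc_g_rc_23_3 lc_g_rc_21_3 lc_g_rc_26_0 lc_g_rc_24_3 lc_g_Cert_tree lc_g_rc_21_3 lc_g_Cert_tree lc_g_Cert_tree lc_g_rc_23_3 lc_g_rc_21_2 lc_g_rc_24_1 lc_g_rc_26_9 lc_g_rc_23_7 lc_g_rc_24_9 lc_g_rc_23_1 lc_g_rc_27_0 lc_g_rc_26_3 lc_g_rc_21_2 lc_g_rc_21_3 lc_g_Cert_tree lc_g_Cert_tree lc_g_rc_21_3 lc_g_Cert_tree lc_g_Cert_tree lc_g_Cert_tree lc_g_rc_21_3 lc_g_Cert_tree lc_g_rc_21_2 lc_g_Cert_tree lc_g_rc_21_2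 lc_g_rc_23_1 lc_g_rc_24_3 lc_g_Cert_tree lc_g_rc_21_3 lc_g_rc_23_9 lc_g_Cert_tree lc_g_rc_23_1 lc_g_rc_24_9 lc_g_rc_26_0 lc_g_Cert_tree lc_g_Cert_tree) (@D3.rec (fun _ => (Cert rels S Gen.g)) lc_g_rc_21_3 lc_g_Cert_tree lc_g_rc_23_9 lc_g_rc_26_9 lc_g_rc_27_3 lc_g_rc_21_2 lc_g_Cert_tree lc_g_rc_26_3 lc_g_rc_26_6 lc_g_rc_21_2 lc_g_rc_21_3 lc_g_rc_24_9 lc_g_rc_23_1 lc_g_rc_26_6 lc_g_rc_23_3 lc_g_Cert_tree lc_g_rc_21_3 lc_g_Cert_tree lc_g_rc_21_3 lc_g_Cert_tree lc_g_Cert_tree lc_g_rc_21_2 lc_g_rc_24_7 lc_g_rc_26_6 lc_g_Cert_tree lc_g_rc_21_3 lc_g_Cert_tree lc_g_rc_21_2 lc_g_Cert_tree lc_g_rc_21_2 lc_g_rc_27_3 lc_g_rc_23_7 lc_g_rc_21_3 lc_g_Cert_tree lc_g_rc_21_2 lc_g_rc_21_3 lc_g_rc_21_2 lc_g_Cert_tree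 lc_g_Cert_tree lc_g_Cert_tree lc_g_rc_21_2 lc_g_rc_26_3 lc_g_Cert_tree lc_g_Cert_tree lc_g_rc_26_9 lc_g_rc_23_3 lc_g_rc_23_1 lc_g_rc_24_7 lc_g_rc_27_6 lc_g_rc_27_3 lc_g_rc_21_3 lc_g_Cert_tree lc_g_rc_24_7 lc_g_Cert_tree lc_g_rc_21_2 lc_g_Cert_tree lc_g_Cert_tree lc_g_rc_24_9 lc_g_rc_24_3 lc_g_Cert_tree lc_g_Cert_tree lc_g_Cert_tree) (@D3.rec (fun _ => (Cert rels S Gen.g)) lc_g_rc_24_7 lc_g_rc_23_7 lc_g_rc_23_9 lc_g_rc_23_1 lc_g_Cert_tree lc_g_rc_23_3 lc_g_rc_21_3 lc_g_rc_21_2 lc_g_rc_23_1 lc_g_rc_26_9 lc_g_rc_24_3 lc_g_rc_25_19 lc_g_rc_21_2 lc_g_rc_21_2 lc_g_rc_21_3 lc_g_rc_23_1 lc_g_rc_24_7 lc_g_rc_21_3 lc_g_rc_24_9 lc_g_rc_21_3 lc_g_Cert_tree lc_g_Cert_tree lc_g_rc_21_3 lc_g_Cert_tree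 lc_g_rc_21_2 lc_g_Cert_tree lc_g_Cert_tree lc_g_rc_21_3 lc_g_rc_21_2 lc_g_rc_21_2 lc_g_rc_21_3 lc_g_rc_26_0 lc_g_rc_21_3 lc_g_Cert_tree lc_g_rc_24_7 lc_g_rc_26_0 lc_g_Cert_tree lc_g_Cert_tree lc_g_rc_21_3 lc_g_Cert_tree lc_g_rc_26_3 lc_g_Cert_tree lc_g_rc_26_6 lc_g_rc_21_3 lc_g_rc_27_6 lc_g_rc_27_3 lc_g_rc_23_3 lc_g_rc_21_2 lc_g_rc_21_2 lc_g_Cert_tree lc_g_rc_23_9 lc_g_rc_26_9 lc_g_Cert_tree lc_g_rc_23_3 lc_g_rc_23_1 lc_g_rc_21_2 lc_g_rc_21_3 lc_g_Cert_tree lc_g_rc_21_3 lc_g_rc_21_3 lc_g_Cert_tree lc_g_rc_21_2) (@D3.rec (fun _ => (Cert rels S Gen.g)) lc_g_Cert_tree lc_g_Cert_tree lc_g_rc_21_3 lc_g_Cert_tree lc_g_rc_21_2 lc_g_rc_21_2 lc_g_Cert_tree lc_g_Cert_tree lc_g_rc_23_3 lc_g_rc_21_2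 lc_g_rc_27_6 lc_g_Cert_tree lc_g_Cert_tree lc_g_Cert_tree lc_g_Cert_tree lc_g_rc_24_9 lc_g_Cert_tree lc_g_rc_27_9 lc_g_rc_24_7 lc_g_Cert_tree lc_g_rc_23_1 lc_g_rc_26_6 lc_g_Cert_tree lc_g_rc_23_1 lc_g_rc_23_1 lc_g_rc_24_3 lc_g_rc_21_3 lc_g_Cert_tree lc_g_rc_26_6 lc_g_Cert_tree lc_g_rc_21_3 lc_g_Cert_tree lc_g_Cert_tree lc_g_rc_21_2 lc_g_rc_23_3 lc_g_Cert_tree lc_g_Cert_tree lc_g_Cert_tree lc_g_rc_23_9 lc_g_rc_21_3 lc_g_rc_23_9 lc_g_rc_21_3 lc_g_Cert_tree lc_g_rc_23_3 lc_g_rc_27_6 lc_g_rc_26_9 lc_g_rc_26_6 lc_g_Cert_tree lc_g_Cert_tree lc_g_rc_23_9 lc_g_rc_27_3 lc_g_rc_27_6 lc_g_rc_27_3 lc_g_rc_27_0 lc_g_rc_21_2 lc_g_rc_27_6 lc_g_Cert_tree lc_g_rc_23_3 lc_g_Cert_tree lc_g_rc_26_3 lc_g_rc_27_3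 lc_g_Cert_tree) (@D3.rec (fun _ => (Cert rels S Gen.g)) lc_g_rc_24_3 lc_g_Cert_tree lc_g_rc_21_2 lc_g_rc_26_9 lc_g_Cert_tree lc_g_Cert_tree lc_g_rc_26_3 lc_g_rc_24_3 lc_g_rc_26_6 lc_g_rc_21_3 lc_g_Cert_tree lc_g_rc_26_0 lc_g_rc_21_3 lc_g_rc_21_2 lc_g_rc_23_1 lc_g_rc_26_6 lc_g_rc_26_9 lc_g_rc_21_2 lc_g_rc_21_2 lc_g_rc_21_2 lc_g_rc_21_3 lc_g_Cert_tree lc_g_Cert_tree lc_g_rc_21_2 lc_g_rc_26_0 lc_g_rc_23_7 lc_g_rc_21_3 lc_g_rc_26_0 lc_g_rc_23_3 lc_g_rc_21_3 lc_g_Cert_tree lc_g_Cert_tree lc_g_Cert_tree lc_g_rc_21_3 lc_g_Cert_tree lc_g_Cert_tree lc_g_rc_21_2 lc_g_rc_24_7 lc_g_Cert_tree lc_g_rc_23_3 lc_g_rc_23_1 lc_g_rc_21_2 lc_g_rc_21_3 lc_g_Cert_tree lc_g_Cert_tree lc_g_rc_21_3 lc_g_Cert_tree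 lc_g_Cert_tree lc_g_rc_24_1 lc_g_rc_26_0 lc_g_rc_21_3 lc_g_rc_23_7 lc_g_rc_21_3 lc_g_Cert_tree lc_g_Cert_tree lc_g_rc_21_2 lc_g_rc_21_3 lc_g_rc_27_9 lc_g_rc_23_9 lc_g_Cert_tree lc_g_rc_23_3 lc_g_rc_27_0) (@D3.rec (fun _ => (Cert rels S Gen.g)) lc_g_rc_27_0 lc_g_Cert_tree lc_g_rc_23_9 lc_g_Cert_tree lc_g_Cert_tree lc_g_rc_26_0 lc_g_Cert_tree lc_g_Cert_tree lc_g_rc_27_6 lc_g_rc_23_3 lc_g_rc_24_9 lc_g_rc_27_0 lc_g_rc_23_1 lc_g_rc_27_6 lc_g_rc_23_7 lc_g_rc_23_9 lc_g_rc_27_6 lc_g_rc_21_2 lc_g_Cert_tree lc_g_Cert_tree lc_g_rc_21_3 lc_g_rc_26_6 lc_g_rc_23_7 lc_g_rc_24_9 lc_g_rc_23_7 lc_g_rc_26_3 lc_g_rc_21_3 lc_g_Cert_tree lc_g_Cert_tree lc_g_Cert_tree lc_g_rc_21_3 lc_g_Cert_tree lc_g_Cert_tree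 lc_g_rc_21_2 lc_g_Cert_tree lc_g_Cert_tree lc_g_rc_24_9 lc_g_rc_23_1 lc_g_rc_21_2 lc_g_rc_21_3 lc_g_Cert_tree lc_g_Cert_tree lc_g_Cert_tree lc_g_rc_21_3 lc_g_Cert_tree lc_g_Cert_tree lc_g_rc_21_2 lc_g_rc_27_6 lc_g_rc_27_9 lc_g_rc_21_3 lc_g_Cert_tree lc_g_Cert_tree lc_g_rc_21_2 lc_g_Cert_tree lc_g_rc_21_2 lc_g_rc_27_6 lc_g_rc_24_9 lc_g_rc_24_3 lc_g_rc_21_3 lc_g_Cert_tree lc_g_rc_27_3 lc_g_rc_21_3) (@D3.rec (fun _ => (Cert rels S Gen.g)) lc_g_Cert_tree lc_g_rc_21_2 lc_g_rc_24_9 lc_g_rc_21_2 lc_g_Cert_tree lc_g_rc_27_6 lc_g_rc_27_3 lc_g_rc_24_9 lc_g_Cert_tree lc_g_rc_26_3 lc_g_Cert_tree lc_g_rc_21_3 lc_g_Cert_tree lc_g_rc_21_2 lc_g_rc_24_1 lc_g_rc_26_6 lc_g_rc_23_3 lc_g_rc_23_3 lc_g_rc_26_6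 lc_g_Cert_tree lc_g_rc_23_3 lc_g_Cert_tree lc_g_rc_21_2 lc_g_Cert_tree lc_g_rc_27_3 lc_g_rc_26_9 lc_g_rc_23_1 lc_g_Cert_tree lc_g_rc_21_3 lc_g_Cert_tree lc_g_Cert_tree lc_g_Cert_tree lc_g_rc_21_3 lc_g_rc_26_9 lc_g_rc_21_3 lc_g_rc_23_3 lc_g_rc_23_3 lc_g_rc_27_6 lc_g_rc_21_2 lc_g_rc_21_2 lc_g_rc_27_0 lc_g_rc_21_2 lc_g_rc_23_7 lc_g_rc_21_3 lc_g_rc_26_0 lc_g_rc_27_6 lc_g_rc_26_3 lc_g_Cert_tree lc_g_Cert_tree lc_g_Cert_tree lc_g_rc_21_3 lc_g_rc_21_3 lc_g_Cert_tree lc_g_Cert_tree lc_g_rc_26_3 lc_g_rc_21_2 lc_g_Cert_tree lc_g_Cert_tree lc_g_rc_21_2 lc_g_rc_21_2 lc_g_rc_27_3 lc_g_Cert_tree) (@D3.rec (fun _ => (Cert rels S Gen.g)) lc_g_Cert_tree lc_g_rc_23_1 lc_g_rc_21_2 lc_g_rc_21_2 lc_g_Cert_tree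 lc_g_rc_21_3 lc_g_Cert_tree lc_g_rc_21_2 lc_g_rc_23_9 lc_g_rc_26_3 lc_g_Cert_tree lc_g_rc_24_9 lc_g_Cert_tree lc_g_Cert_tree lc_g_Cert_tree lc_g_rc_21_2 lc_g_rc_21_3 lc_g_Cert_tree lc_g_Cert_tree lc_g_rc_21_2 lc_g_rc_23_3 lc_g_rc_21_3 lc_g_Cert_tree lc_g_Cert_tree lc_g_rc_23_1 lc_g_Cert_tree lc_g_rc_21_3 lc_g_Cert_tree lc_g_Cert_tree lc_g_rc_21_3 lc_g_Cert_tree lc_g_rc_23_1 lc_g_Cert_tree lc_g_rc_26_3 lc_g_Cert_tree lc_g_rc_24_7 lc_g_rc_23_7 lc_g_rc_21_2 lc_g_rc_21_3 lc_g_Cert_tree lc_g_rc_21_2 lc_g_Cert_tree lc_g_rc_21_3 lc_g_Cert_tree lc_g_Cert_tree lc_g_rc_24_1 lc_g_Cert_tree lc_g_Cert_tree lc_g_Cert_tree lc_g_rc_27_0 lc_g_rc_21_3 lc_g_rc_21_3 lc_g_Cert_tree lc_g_rc_26_6 lc_g_rc_27_3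 lc_g_rc_21_2 lc_g_rc_21_3 lc_g_Cert_tree lc_g_Cert_tree lc_g_rc_21_2 lc_g_Cert_tree lc_g_rc_21_3) (@D3.rec (fun _ => (Cert rels S Gen.g)) lc_g_Cert_tree lc_g_Cert_tree lc_g_rc_21_3 lc_g_Cert_tree lc_g_Cert_tree lc_g_rc_21_2 lc_g_rc_21_3 lc_g_Cert_tree lc_g_rc_27_3 lc_g_rc_24_3 lc_g_rc_21_3 lc_g_rc_27_6 lc_g_rc_21_2 lc_g_Cert_tree lc_g_rc_21_3 lc_g_Cert_tree lc_g_Cert_tree lc_g_Cert_tree lc_g_rc_21_3 lc_g_Cert_tree lc_g_rc_21_2 lc_g_Cert_tree lc_g_rc_21_2 lc_g_rc_26_0 lc_g_rc_21_2 lc_g_rc_21_2 lc_g_rc_21_3 lc_g_Cert_tree lc_g_Cert_tree lc_g_rc_21_2 lc_g_rc_21_3 lc_g_rc_21_2 lc_g_Cert_tree lc_g_Cert_tree lc_g_rc_27_9 lc_g_Cert_tree lc_g_Cert_tree lc_g_Cert_tree lc_g_rc_27_0 lc_g_Cert_tree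 lc_g_rc_27_3 lc_g_Cert_tree lc_g_rc_21_3 lc_g_rc_24_7 lc_g_Cert_tree lc_g_Cert_tree lc_g_rc_24_1 lc_g_rc_24_3 lc_g_rc_21_3 lc_g_rc_27_0 lc_g_rc_21_2 lc_g_Cert_tree lc_g_rc_23_7 lc_g_Cert_tree lc_g_rc_24_7 lc_g_Cert_tree lc_g_rc_24_1 lc_g_Cert_tree lc_g_rc_21_3 lc_g_rc_24_7 lc_g_Cert_tree lc_g_rc_27_3) (@D3.rec (fun _ => (Cert rels S Gen.g)) lc_g_rc_21_3 lc_g_Cert_tree lc_g_rc_21_3 lc_g_Cert_tree lc_g_Cert_tree lc_g_rc_21_2 lc_g_rc_21_2 lc_g_rc_21_2 lc_g_Cert_tree lc_g_rc_23_9 lc_g_rc_23_1 lc_g_rc_23_1 lc_g_rc_21_2 lc_g_rc_23_3 lc_g_rc_21_3 lc_g_rc_26_9 lc_g_rc_26_6 lc_g_rc_23_3 lc_g_rc_23_1 lc_g_rc_24_1 lc_g_rc_21_3 lc_g_Cert_tree lc_g_Cert_tree lc_g_rc_27_9 lc_g_rc_21_3 lc_g_rc_21_3 lc_g_Cert_tree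 lc_g_rc_21_2 lc_g_rc_23_3 lc_g_rc_27_9 lc_g_rc_26_3 lc_g_Cert_tree lc_g_Cert_tree lc_g_Cert_tree lc_g_rc_26_6 lc_g_rc_23_9 lc_g_rc_27_0 lc_g_rc_23_1 lc_g_Cert_tree lc_g_rc_21_3 lc_g_Cert_tree lc_g_Cert_tree lc_g_rc_27_3 lc_g_rc_24_3 lc_g_Cert_tree lc_g_rc_21_3 lc_g_Cert_tree lc_g_Cert_tree lc_g_Cert_tree lc_g_rc_21_2 lc_g_Cert_tree lc_g_Cert_tree lc_g_Cert_tree lc_g_Cert_tree lc_g_Cert_tree lc_g_rc_24_3 lc_g_rc_21_3 lc_g_Cert_tree lc_g_rc_21_2 lc_g_rc_21_2 lc_g_rc_26_6 lc_g_rc_23_9) (@D3.rec (fun _ => (Cert rels S Gen.g)) lc_g_Cert_tree lc_g_Cert_tree lc_g_Cert_tree lc_g_rc_21_3 lc_g_rc_21_3 lc_g_rc_21_3 lc_g_rc_21_2 lc_g_Cert_tree lc_g_Cert_tree lc_g_Cert_tree lc_g_rc_24_1 lc_g_Cert_tree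 lc_g_rc_21_3 lc_g_Cert_tree lc_g_rc_21_2 lc_g_Cert_tree lc_g_Cert_tree lc_g_Cert_tree lc_g_rc_24_1 lc_g_rc_21_3 lc_g_Cert_tree lc_g_rc_21_2 lc_g_Cert_tree lc_g_rc_24_1 lc_g_rc_27_3 lc_g_Cert_tree lc_g_rc_23_7 lc_g_Cert_tree lc_g_Cert_tree lc_g_rc_26_9 lc_g_Cert_tree lc_g_rc_26_6 lc_g_rc_21_3 lc_g_Cert_tree lc_g_Cert_tree lc_g_rc_21_2 lc_g_Cert_tree lc_g_Cert_tree lc_g_Cert_tree lc_g_rc_23_3 lc_g_rc_21_3 lc_g_Cert_tree lc_g_rc_21_2 lc_g_rc_26_9 lc_g_rc_21_2 lc_g_rc_27_3 lc_g_rc_24_9 lc_g_Cert_tree lc_g_Cert_tree lc_g_rc_27_6 lc_g_rc_21_2 lc_g_rc_21_2 lc_g_Cert_tree lc_g_rc_21_3 lc_g_rc_21_3 lc_g_rc_27_6 lc_g_rc_23_3 lc_g_rc_21_2 lc_g_rc_23_1 lc_g_Cert_tree lc_g_Cert_tree lc_g_rc_25_19)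
def ce_g_3 : D2 → D3 → (Cert rels S Gen.g) := @D2.rec (fun _ => D3 → (Cert rels S Gen.g)) (@D3.rec (fun _ => (Cert rels S Gen.g)) lc_g_rc_23_9 lc_g_rc_27_3 lc_g_rc_27_0 lc_g_Cert_tree lc_g_rc_23_3 lc_g_rc_21_2 lc_g_rc_21_3 lc_g_rc_27_3 lc_g_rc_21_3 lc_g_rc_21_2 lc_g_rc_26_0 lc_g_rc_21_2 lc_g_rc_26_9 lc_g_rc_27_3 lc_g_Cert_tree lc_g_rc_24_7 lc_g_Cert_tree lc_g_rc_23_7 lc_g_rc_24_1 lc_g_rc_21_2 lc_g_Cert_tree lc_g_rc_24_9 lc_g_Cert_tree lc_g_Cert_tree lc_g_Cert_tree lc_g_rc_21_3 lc_g_Cert_tree lc_g_rc_21_2 lc_g_Cert_tree lc_g_rc_24_1 lc_g_rc_26_3 lc_g_rc_23_3 lc_g_rc_26_6 lc_g_rc_23_1 lc_g_Cert_tree lc_g_rc_24_9 lc_g_rc_21_3 lc_g_Cert_tree lc_g_rc_23_9 lc_g_Cert_tree lc_g_rc_27_6 lc_g_Cert_tree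 lc_g_rc_21_2 lc_g_rc_26_9 lc_g_Cert_tree lc_g_rc_24_9 lc_g_rc_26_6 lc_g_rc_27_9 lc_g_rc_23_7 lc_g_rc_21_2 lc_g_rc_23_7 lc_g_rc_24_7 lc_g_rc_23_1 lc_g_rc_27_3 lc_g_rc_24_9 lc_g_rc_26_3 lc_g_rc_23_7 lc_g_rc_24_3 lc_g_rc_27_3 lc_g_Cert_tree lc_g_Cert_tree lc_g_rc_26_3) (@D3.rec (fun _ => (Cert rels S Gen.g)) lc_g_rc_27_9 lc_g_rc_27_0 lc_g_rc_24_9 lc_g_Cert_tree lc_g_rc_27_3 lc_g_rc_21_2 lc_g_rc_26_9 lc_g_rc_27_9 lc_g_rc_23_1 lc_g_rc_24_1 lc_g_Cert_tree lc_g_Cert_tree lc_g_rc_26_6 lc_g_rc_26_0 lc_g_rc_26_0 lc_g_rc_21_2 lc_g_rc_26_6 lc_g_rc_26_0 lc_g_rc_21_3 lc_g_Cert_tree lc_g_Cert_tree lc_g_Cert_tree lc_g_rc_21_2 lc_g_Cert_tree lc_g_rc_21_2 lc_g_rc_26_6 lc_g_rc_27_3 lc_g_rc_26_6 lc_g_rc_21_3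 lc_g_Cert_tree lc_g_rc_27_3 lc_g_rc_24_1 lc_g_rc_21_3 lc_g_rc_21_3 lc_g_rc_21_3 lc_g_rc_27_9 lc_g_Cert_tree lc_g_rc_21_2 lc_g_rc_27_6 lc_g_rc_26_0 lc_g_rc_26_6 lc_g_Cert_tree lc_g_Cert_tree lc_g_rc_21_2 lc_g_rc_26_3 lc_g_rc_21_3 lc_g_Cert_tree lc_g_rc_21_2 lc_g_rc_26_3 lc_g_rc_25_19 lc_g_rc_23_3 lc_g_rc_24_9 lc_g_rc_26_3 lc_g_Cert_tree lc_g_Cert_tree lc_g_rc_24_9 lc_g_rc_27_6 lc_g_Cert_tree lc_g_rc_27_9 lc_g_Cert_tree lc_g_rc_21_3 lc_g_rc_23_9) (@D3.rec (fun _ => (Cert rels S Gen.g)) lc_g_rc_26_0 lc_g_rc_21_3 lc_g_rc_21_3 lc_g_rc_21_3 lc_g_Cert_tree lc_g_rc_21_2 lc_g_rc_21_2 lc_g_Cert_tree lc_g_Cert_tree lc_g_rc_23_9 lc_g_rc_21_3 lc_g_Cert_tree lc_g_rc_24_9 lc_g_rc_21_2 lc_g_Cert_tree lc_g_Cert_tree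 lc_g_Cert_tree lc_g_Cert_tree lc_g_Cert_tree lc_g_rc_27_6 lc_g_Cert_tree lc_g_Cert_tree lc_g_rc_21_2 lc_g_rc_21_3 lc_g_Cert_tree lc_g_rc_27_3 lc_g_rc_26_9 lc_g_rc_27_9 lc_g_Cert_tree lc_g_Cert_tree lc_g_rc_21_3 lc_g_Cert_tree lc_g_Cert_tree lc_g_rc_21_2 lc_g_rc_21_3 lc_g_rc_27_9 lc_g_rc_26_6 lc_g_rc_24_1 lc_g_rc_27_6 lc_g_rc_21_3 lc_g_Cert_tree lc_g_Cert_tree lc_g_rc_21_2 lc_g_rc_24_1 lc_g_rc_21_2 lc_g_Cert_tree lc_g_Cert_tree lc_g_Cert_tree lc_g_rc_21_2 lc_g_rc_27_9 lc_g_rc_24_1 lc_g_rc_27_0 lc_g_rc_23_1 lc_g_rc_27_0 lc_g_Cert_tree lc_g_rc_21_2 lc_g_Cert_tree lc_g_rc_21_3 lc_g_rc_24_7 lc_g_rc_26_0 lc_g_rc_27_3 lc_g_rc_24_1) (@D3.rec (fun _ => (Cert rels S Gen.g)) lc_g_rc_27_6 lc_g_rc_24_1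 lc_g_rc_27_6 lc_g_rc_27_0 lc_g_rc_27_0 lc_g_rc_27_3 lc_g_rc_27_3 lc_g_rc_27_9 lc_g_rc_26_9 lc_g_rc_24_1 lc_g_rc_27_0 lc_g_rc_21_3 lc_g_Cert_tree lc_g_Cert_tree lc_g_Cert_tree lc_g_rc_21_3 lc_g_rc_21_2 lc_g_rc_26_6 lc_g_rc_21_3 lc_g_Cert_tree lc_g_Cert_tree lc_g_rc_21_2 lc_g_rc_21_3 lc_g_rc_26_9 lc_g_rc_21_3 lc_g_rc_21_3 lc_g_rc_26_3 lc_g_Cert_tree lc_g_rc_21_3 lc_g_Cert_tree lc_g_Cert_tree lc_g_rc_26_6 lc_g_rc_21_2 lc_g_rc_21_2 lc_g_rc_24_1 lc_g_Cert_tree lc_g_rc_21_2 lc_g_rc_23_7 lc_g_Cert_tree lc_g_Cert_tree lc_g_rc_26_9 lc_g_rc_27_9 lc_g_rc_21_3 lc_g_Cert_tree lc_g_rc_21_2 lc_g_Cert_tree lc_g_Cert_tree lc_g_rc_21_2 lc_g_rc_23_3 lc_g_rc_26_3 lc_g_Cert_tree lc_g_Cert_tree lc_g_rc_26_9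 lc_g_rc_23_9 lc_g_rc_21_2 lc_g_rc_24_1 lc_g_rc_26_3 lc_g_rc_21_3 lc_g_Cert_tree lc_g_rc_21_2 lc_g_rc_25_3 lc_g_Cert_tree) (@D3.rec (fun _ => (Cert rels S Gen.g)) lc_g_Cert_tree lc_g_rc_21_2 lc_g_rc_21_2 lc_g_rc_26_6 lc_g_Cert_tree lc_g_Cert_tree lc_g_rc_21_2 lc_g_rc_21_3 lc_g_rc_23_7 lc_g_Cert_tree lc_g_rc_23_7 lc_g_rc_26_6 lc_g_rc_21_2 lc_g_rc_26_3 lc_g_rc_24_3 lc_g_Cert_tree lc_g_rc_21_3 lc_g_Cert_tree lc_g_rc_23_9 lc_g_rc_21_2 lc_g_rc_21_3 lc_g_Cert_tree lc_g_Cert_tree lc_g_rc_21_2 lc_g_rc_26_3 lc_g_rc_26_9 lc_g_rc_23_3 lc_g_rc_24_1 lc_g_rc_24_3 lc_g_rc_24_9 lc_g_Cert_tree lc_g_rc_24_3 lc_g_rc_23_3 lc_g_rc_21_3 lc_g_rc_24_1 lc_g_rc_26_6 lc_g_rc_24_3 lc_g_rc_23_1 lc_g_rc_24_9 lc_g_rc_23_1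 lc_g_rc_24_9 lc_g_rc_26_3 lc_g_rc_26_9 lc_g_rc_21_3 lc_g_rc_26_3 lc_g_rc_24_9 lc_g_Cert_tree lc_g_rc_21_3 lc_g_Cert_tree lc_g_rc_23_9 lc_g_rc_21_2 lc_g_rc_21_3 lc_g_rc_23_1 lc_g_Cert_tree lc_g_rc_26_0 lc_g_Cert_tree lc_g_rc_26_3 lc_g_Cert_tree lc_g_rc_26_9 lc_g_Cert_tree lc_g_Cert_tree lc_g_rc_21_3) (@D3.rec (fun _ => (Cert rels S Gen.g)) lc_g_Cert_tree lc_g_rc_21_2 lc_g_rc_26_0 lc_g_rc_26_6 lc_g_rc_24_9 lc_g_rc_23_1 lc_g_Cert_tree lc_g_rc_23_1 lc_g_rc_21_2 lc_g_Cert_tree lc_g_rc_27_3 lc_g_rc_21_2 lc_g_rc_21_3 lc_g_Cert_tree lc_g_Cert_tree lc_g_rc_21_2 lc_g_rc_24_3 lc_g_rc_23_3 lc_g_Cert_tree lc_g_rc_26_6 lc_g_rc_26_0 lc_g_rc_23_7 lc_g_rc_26_0 lc_g_rc_21_3 lc_g_Cert_tree lc_g_Cert_tree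 lc_g_rc_21_2 lc_g_rc_21_3 lc_g_rc_27_6 lc_g_rc_27_3 lc_g_rc_24_3 lc_g_rc_21_3 lc_g_Cert_tree lc_g_rc_25_3 lc_g_rc_24_7 lc_g_Cert_tree lc_g_rc_21_2 lc_g_rc_27_0 lc_g_rc_21_3 lc_g_rc_21_2 lc_g_Cert_tree lc_g_Cert_tree lc_g_Cert_tree lc_g_rc_23_7 lc_g_Cert_tree lc_g_Cert_tree lc_g_rc_23_7 lc_g_rc_25_15 lc_g_rc_21_2 lc_g_rc_24_9 lc_g_rc_23_9 lc_g_rc_23_1 lc_g_rc_27_3 lc_g_rc_21_2 lc_g_rc_26_6 lc_g_rc_21_2 lc_g_rc_23_9 lc_g_Cert_tree lc_g_rc_21_3 lc_g_Cert_tree lc_g_rc_27_6 lc_g_rc_21_2) (@D3.rec (fun _ => (Cert rels S Gen.g)) lc_g_rc_23_1 lc_g_rc_21_3 lc_g_rc_21_3 lc_g_Cert_tree lc_g_rc_21_2 lc_g_rc_27_9 lc_g_rc_21_2 lc_g_rc_27_9 lc_g_rc_23_1 lc_g_rc_21_3 lc_g_Cert_tree lc_g_rc_21_2 lc_g_rc_27_3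 lc_g_Cert_tree lc_g_rc_21_2 lc_g_rc_27_0 lc_g_rc_24_3 lc_g_rc_27_6 lc_g_rc_21_3 lc_g_rc_24_9 lc_g_rc_26_9 lc_g_rc_26_6 lc_g_rc_27_3 lc_g_rc_26_3 lc_g_Cert_tree lc_g_rc_21_2 lc_g_rc_26_9 lc_g_rc_21_3 lc_g_Cert_tree lc_g_rc_24_9 lc_g_rc_21_3 lc_g_Cert_tree lc_g_rc_27_6 lc_g_rc_21_2 lc_g_rc_24_7 lc_g_rc_26_6 lc_g_rc_27_3 lc_g_rc_21_3 lc_g_Cert_tree lc_g_Cert_tree lc_g_rc_27_9 lc_g_rc_24_1 lc_g_rc_26_0 lc_g_rc_24_1 lc_g_rc_21_3 lc_g_Cert_tree lc_g_rc_21_2 lc_g_rc_21_2 lc_g_Cert_tree lc_g_rc_27_3 lc_g_rc_26_3 lc_g_rc_27_3 lc_g_rc_24_3 lc_g_rc_24_3 lc_g_rc_21_2 lc_g_rc_21_2 lc_g_rc_21_3 lc_g_Cert_tree lc_g_rc_26_0 lc_g_rc_26_6 lc_g_rc_27_9 lc_g_rc_27_9) (@D3.rec (fun _ => (Cert rels S Gen.g))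 lc_g_Cert_tree lc_g_rc_21_3 lc_g_Cert_tree lc_g_rc_26_0 lc_g_rc_26_0 lc_g_Cert_tree lc_g_Cert_tree lc_g_Cert_tree lc_g_rc_21_3 lc_g_rc_27_6 lc_g_rc_21_2 lc_g_Cert_tree lc_g_rc_26_6 lc_g_rc_21_2 lc_g_Cert_tree lc_g_Cert_tree lc_g_rc_21_2 lc_g_Cert_tree lc_g_rc_21_2 lc_g_Cert_tree lc_g_rc_21_3 lc_g_Cert_tree lc_g_rc_24_3 lc_g_rc_21_2 lc_g_rc_26_9 lc_g_rc_23_9 lc_g_rc_26_3 lc_g_Cert_tree lc_g_Cert_tree lc_g_Cert_tree lc_g_Cert_tree lc_g_rc_26_0 lc_g_rc_24_9 lc_g_rc_26_0 lc_g_Cert_tree lc_g_rc_23_3 lc_g_Cert_tree lc_g_Cert_tree lc_g_rc_26_6 lc_g_Cert_tree lc_g_rc_23_7 lc_g_rc_26_3 lc_g_Cert_tree lc_g_rc_23_3 lc_g_rc_26_3 lc_g_rc_21_3 lc_g_Cert_tree lc_g_Cert_tree lc_g_rc_21_3 lc_g_Cert_tree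 lc_g_Cert_tree lc_g_rc_21_2 lc_g_Cert_tree lc_g_Cert_tree lc_g_rc_26_6 lc_g_Cert_tree lc_g_rc_21_3 lc_g_rc_21_3 lc_g_rc_21_3 lc_g_rc_27_6 lc_g_rc_24_1 lc_g_rc_26_0) (@D3.rec (fun _ => (Cert rels S Gen.g)) lc_g_rc_21_3 lc_g_rc_26_0 lc_g_rc_26_0 lc_g_Cert_tree lc_g_rc_21_2 lc_g_rc_23_7 lc_g_rc_26_0 lc_g_rc_24_1 lc_g_Cert_tree lc_g_rc_27_3 lc_g_Cert_tree lc_g_Cert_tree lc_g_rc_26_3 lc_g_rc_24_3 lc_g_rc_21_3 lc_g_rc_23_7 lc_g_rc_24_3 lc_g_rc_26_0 lc_g_Cert_tree lc_g_rc_21_2 lc_g_rc_21_3 lc_g_Cert_tree lc_g_rc_21_2 lc_g_rc_21_2 lc_g_rc_21_3 lc_g_rc_21_2 lc_g_Cert_tree lc_g_Cert_tree lc_g_Cert_tree lc_g_Cert_tree lc_g_Cert_tree lc_g_rc_21_3 lc_g_rc_23_9 lc_g_Cert_tree lc_g_Cert_tree lc_g_rc_27_9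 lc_g_Cert_tree lc_g_Cert_tree lc_g_rc_21_3 lc_g_rc_21_3 lc_g_Cert_tree lc_g_rc_21_3 lc_g_rc_26_6 lc_g_rc_21_3 lc_g_Cert_tree lc_g_rc_21_3 lc_g_rc_27_6 lc_g_rc_27_3 lc_g_rc_27_0 lc_g_rc_21_3 lc_g_rc_24_1 lc_g_rc_21_2 lc_g_rc_24_3 lc_g_rc_21_3 lc_g_Cert_tree lc_g_Cert_tree lc_g_Cert_tree lc_g_rc_21_2 lc_g_rc_26_9 lc_g_rc_27_3 lc_g_Cert_tree lc_g_Cert_tree) (@D3.rec (fun _ => (Cert rels S Gen.g)) lc_g_rc_23_3 lc_g_Cert_tree lc_g_rc_27_6 lc_g_Cert_tree lc_g_rc_27_3 lc_g_rc_21_2 lc_g_rc_27_9 lc_g_Cert_tree lc_g_Cert_tree lc_g_Cert_tree lc_g_Cert_tree lc_g_rc_27_3 lc_g_Cert_tree lc_g_rc_21_2 lc_g_rc_21_2 lc_g_Cert_tree lc_g_Cert_tree lc_g_Cert_tree lc_g_rc_21_2 lc_g_rc_21_3 lc_g_Cert_tree lc_g_rc_21_2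 lc_g_Cert_tree lc_g_Cert_tree lc_g_rc_21_3 lc_g_Cert_tree lc_g_rc_26_6 lc_g_Cert_tree lc_g_Cert_tree lc_g_rc_21_3 lc_g_Cert_tree lc_g_rc_21_2 lc_g_rc_21_3 lc_g_rc_23_3 lc_g_Cert_tree lc_g_rc_24_9 lc_g_Cert_tree lc_g_rc_26_3 lc_g_rc_27_6 lc_g_Cert_tree lc_g_rc_26_9 lc_g_rc_21_2 lc_g_Cert_tree lc_g_Cert_tree lc_g_Cert_tree lc_g_rc_21_2 lc_g_rc_21_3 lc_g_Cert_tree lc_g_rc_21_2 lc_g_Cert_tree lc_g_rc_26_9 lc_g_rc_23_9 lc_g_rc_23_7 lc_g_rc_21_3 lc_g_rc_26_0 lc_g_rc_23_7 lc_g_rc_26_0 lc_g_rc_21_2 lc_g_rc_24_3 lc_g_Cert_tree lc_g_rc_24_9 lc_g_rc_23_1) (@D3.rec (fun _ => (Cert rels S Gen.g)) lc_g_rc_21_3 lc_g_Cert_tree lc_g_Cert_tree lc_g_rc_21_2 lc_g_rc_23_3 lc_g_rc_21_3 lc_g_Cert_tree lc_g_rc_21_2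 lc_g_rc_27_3 lc_g_rc_23_1 lc_g_rc_26_0 lc_g_Cert_tree lc_g_Cert_tree lc_g_Cert_tree lc_g_Cert_tree lc_g_rc_24_7 lc_g_rc_21_2 lc_g_rc_24_9 lc_g_rc_27_6 lc_g_rc_21_3 lc_g_Cert_tree lc_g_rc_21_3 lc_g_Cert_tree lc_g_Cert_tree lc_g_rc_25_19 lc_g_rc_26_0 lc_g_Cert_tree lc_g_Cert_tree lc_g_rc_26_3 lc_g_Cert_tree lc_g_rc_27_0 lc_g_rc_23_7 lc_g_rc_26_0 lc_g_Cert_tree lc_g_rc_23_1 lc_g_rc_23_3 lc_g_Cert_tree lc_g_rc_24_1 lc_g_Cert_tree lc_g_Cert_tree lc_g_rc_24_3 lc_g_rc_26_3 lc_g_Cert_tree lc_g_rc_25_19 lc_g_rc_24_7 lc_g_Cert_tree lc_g_Cert_tree lc_g_rc_24_1 lc_g_rc_27_6 lc_g_rc_21_3 lc_g_Cert_tree lc_g_Cert_tree lc_g_rc_21_2 lc_g_Cert_tree lc_g_rc_27_3 lc_g_rc_26_0 lc_g_rc_26_0 lc_g_rc_26_0 lc_g_rc_27_3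 lc_g_Cert_tree lc_g_rc_23_3 lc_g_rc_24_1) (@D3.rec (fun _ => (Cert rels S Gen.g)) lc_g_rc_27_6 lc_g_rc_21_3 lc_g_rc_21_2 lc_g_rc_21_3 lc_g_Cert_tree lc_g_rc_24_3 lc_g_rc_27_6 lc_g_rc_21_2 lc_g_rc_21_2 lc_g_Cert_tree lc_g_Cert_tree lc_g_Cert_tree lc_g_rc_27_0 lc_g_Cert_tree lc_g_Cert_tree lc_g_Cert_tree lc_g_Cert_tree lc_g_rc_21_3 lc_g_Cert_tree lc_g_Cert_tree lc_g_rc_26_6 lc_g_rc_21_2 lc_g_rc_23_7 lc_g_rc_21_3 lc_g_rc_27_0 lc_g_rc_21_3 lc_g_rc_24_7 lc_g_rc_27_9 lc_g_rc_21_2 lc_g_rc_21_2 lc_g_rc_24_7 lc_g_rc_27_0 lc_g_rc_21_3 lc_g_Cert_tree lc_g_Cert_tree lc_g_Cert_tree lc_g_rc_21_2 lc_g_rc_21_2 lc_g_rc_23_1 lc_g_rc_23_3 lc_g_rc_21_3 lc_g_Cert_tree lc_g_Cert_tree lc_g_Cert_tree lc_g_Cert_tree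 lc_g_rc_21_2 lc_g_rc_21_3 lc_g_Cert_tree lc_g_rc_27_9 lc_g_rc_21_2 lc_g_rc_21_3 lc_g_Cert_tree lc_g_Cert_tree lc_g_Cert_tree lc_g_rc_21_3 lc_g_Cert_tree lc_g_rc_21_2 lc_g_Cert_tree lc_g_rc_21_2 lc_g_rc_27_6 lc_g_Cert_tree lc_g_rc_27_3) (@D3.rec (fun _ => (Cert rels S Gen.g)) lc_g_rc_24_9 lc_g_rc_26_0 lc_g_rc_21_3 lc_g_Cert_tree lc_g_Cert_tree lc_g_rc_21_3 lc_g_Cert_tree lc_g_Cert_tree lc_g_rc_25_19 lc_g_Cert_tree lc_g_Cert_tree lc_g_rc_21_3 lc_g_Cert_tree lc_g_rc_21_2 lc_g_rc_26_0 lc_g_rc_21_3 lc_g_Cert_tree lc_g_Cert_tree lc_g_rc_23_3 lc_g_Cert_tree lc_g_rc_21_3 lc_g_Cert_tree lc_g_rc_27_3 lc_g_rc_21_2 lc_g_Cert_tree lc_g_rc_23_7 lc_g_rc_21_2 lc_g_Cert_tree lc_g_rc_24_1 lc_g_rc_26_3 lc_g_rc_26_9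 lc_g_rc_27_9 lc_g_rc_26_3 lc_g_Cert_tree lc_g_Cert_tree lc_g_rc_21_2 lc_g_Cert_tree lc_g_Cert_tree lc_g_Cert_tree lc_g_rc_21_3 lc_g_Cert_tree lc_g_rc_21_2 lc_g_Cert_tree lc_g_rc_27_9 lc_g_rc_27_3 lc_g_rc_23_9 lc_g_rc_26_3 lc_g_Cert_tree lc_g_rc_24_3 lc_g_Cert_tree lc_g_rc_21_3 lc_g_Cert_tree lc_g_rc_21_2 lc_g_rc_27_0 lc_g_Cert_tree lc_g_rc_27_3 lc_g_rc_23_9 lc_g_rc_27_3 lc_g_rc_23_9 lc_g_Cert_tree lc_g_Cert_tree lc_g_Cert_tree) (@D3.rec (fun _ => (Cert rels S Gen.g)) lc_g_rc_23_1 lc_g_rc_24_9 lc_g_Cert_tree lc_g_rc_21_3 lc_g_rc_21_3 lc_g_Cert_tree lc_g_rc_21_2 lc_g_Cert_tree lc_g_rc_27_3 lc_g_rc_23_1 lc_g_Cert_tree lc_g_Cert_tree lc_g_rc_21_2 lc_g_rc_24_9 lc_g_Cert_tree lc_g_rc_21_3 lc_g_rc_27_0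 lc_g_rc_27_0 lc_g_rc_27_0 lc_g_rc_26_0 lc_g_Cert_tree lc_g_rc_26_3 lc_g_rc_24_3 lc_g_rc_21_2 lc_g_rc_21_2 lc_g_Cert_tree lc_g_rc_26_0 lc_g_rc_24_3 lc_g_rc_24_1 lc_g_rc_24_1 lc_g_Cert_tree lc_g_Cert_tree lc_g_rc_27_3 lc_g_rc_21_2 lc_g_Cert_tree lc_g_rc_25_7 lc_g_Cert_tree lc_g_rc_26_3 lc_g_rc_21_3 lc_g_Cert_tree lc_g_rc_27_3 lc_g_rc_21_2 lc_g_Cert_tree lc_g_rc_24_7 lc_g_rc_27_0 lc_g_Cert_tree lc_g_rc_24_9 lc_g_rc_27_0 lc_g_Cert_tree lc_g_rc_21_2 lc_g_Cert_tree lc_g_Cert_tree lc_g_rc_21_2 lc_g_rc_24_7 lc_g_Cert_tree lc_g_Cert_tree lc_g_Cert_tree lc_g_Cert_tree lc_g_rc_24_3 lc_g_rc_21_2 lc_g_Cert_tree lc_g_rc_24_1) (@D3.rec (fun _ => (Cert rels S Gen.g)) lc_g_Cert_tree lc_g_Cert_tree lc_g_rc_21_2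 lc_g_rc_21_3 lc_g_Cert_tree lc_g_rc_24_1 lc_g_rc_27_0 lc_g_Cert_tree lc_g_rc_23_7 lc_g_rc_26_3 lc_g_rc_21_3 lc_g_Cert_tree lc_g_Cert_tree lc_g_rc_21_3 lc_g_Cert_tree lc_g_Cert_tree lc_g_rc_21_2 lc_g_rc_21_3 lc_g_rc_26_9 lc_g_Cert_tree lc_g_rc_21_3 lc_g_rc_21_2 lc_g_rc_21_3 lc_g_rc_27_0 lc_g_Cert_tree lc_g_rc_27_9 lc_g_Cert_tree lc_g_rc_21_3 lc_g_rc_27_0 lc_g_rc_24_1 lc_g_rc_23_9 lc_g_rc_23_3 lc_g_rc_21_3 lc_g_rc_21_2 lc_g_rc_27_0 lc_g_Cert_tree lc_g_rc_26_3 lc_g_Cert_tree lc_g_rc_26_9 lc_g_rc_24_7 lc_g_rc_24_3 lc_g_rc_23_3 lc_g_Cert_tree lc_g_rc_23_7 lc_g_rc_26_9 lc_g_rc_21_3 lc_g_rc_21_2 lc_g_Cert_tree lc_g_Cert_tree lc_g_Cert_tree lc_g_rc_26_3 lc_g_rc_24_3 lc_g_Cert_tree lc_g_Cert_tree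 lc_g_rc_21_3 lc_g_rc_27_3 lc_g_rc_21_2 lc_g_rc_26_3 lc_g_rc_27_6 lc_g_Cert_tree lc_g_rc_21_2 lc_g_Cert_tree) (@D3.rec (fun _ => (Cert rels S Gen.g)) lc_g_rc_21_2 lc_g_rc_21_3 lc_g_rc_26_3 lc_g_rc_21_3 lc_g_Cert_tree lc_g_rc_21_3 lc_g_rc_21_2 lc_g_Cert_tree lc_g_rc_21_2 lc_g_rc_21_3 lc_g_Cert_tree lc_g_Cert_tree lc_g_rc_21_2 lc_g_rc_21_2 lc_g_rc_26_9 lc_g_Cert_tree lc_g_Cert_tree lc_g_rc_21_3 lc_g_Cert_tree lc_g_rc_26_0 lc_g_rc_27_3 lc_g_rc_27_6 lc_g_rc_26_0 lc_g_Cert_tree lc_g_rc_21_3 lc_g_rc_21_3 lc_g_rc_21_2 lc_g_rc_24_7 lc_g_rc_23_9 lc_g_rc_21_2 lc_g_rc_26_6 lc_g_rc_24_1 lc_g_rc_21_2 lc_g_Cert_tree lc_g_rc_21_3 lc_g_Cert_tree lc_g_rc_24_1 lc_g_Cert_tree lc_g_Cert_tree lc_g_Cert_tree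 lc_g_Cert_tree lc_g_Cert_tree lc_g_Cert_tree lc_g_rc_27_9 lc_g_rc_21_2 lc_g_rc_26_0 lc_g_Cert_tree lc_g_rc_23_7 lc_g_rc_25_15 lc_g_Cert_tree lc_g_rc_21_3 lc_g_Cert_tree lc_g_rc_21_2 lc_g_Cert_tree lc_g_Cert_tree lc_g_Cert_tree lc_g_rc_24_3 lc_g_rc_26_3 lc_g_Cert_tree lc_g_rc_26_3 lc_g_rc_23_9 lc_g_Cert_tree) (@D3.rec (fun _ => (Cert rels S Gen.g)) lc_g_Cert_tree lc_g_rc_21_3 lc_g_rc_21_2 lc_g_rc_26_3 lc_g_rc_21_3 lc_g_rc_25_19 lc_g_rc_21_2 lc_g_Cert_tree lc_g_rc_21_2 lc_g_rc_26_3 lc_g_Cert_tree lc_g_rc_21_3 lc_g_rc_27_6 lc_g_rc_21_3 lc_g_Cert_tree lc_g_rc_21_2 lc_g_Cert_tree lc_g_Cert_tree lc_g_Cert_tree lc_g_rc_21_3 lc_g_Cert_tree lc_g_Cert_tree lc_g_rc_21_2 lc_g_rc_21_3 lc_g_Cert_tree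 lc_g_rc_27_6 lc_g_Cert_tree lc_g_rc_21_2 lc_g_rc_26_3 lc_g_Cert_tree lc_g_Cert_tree lc_g_Cert_tree lc_g_rc_23_7 lc_g_rc_26_3 lc_g_rc_21_3 lc_g_Cert_tree lc_g_Cert_tree lc_g_rc_21_2 lc_g_Cert_tree lc_g_Cert_tree lc_g_rc_26_6 lc_g_Cert_tree lc_g_Cert_tree lc_g_rc_21_2 lc_g_rc_26_3 lc_g_Cert_tree lc_g_rc_24_1 lc_g_Cert_tree lc_g_Cert_tree lc_g_rc_21_3 lc_g_Cert_tree lc_g_Cert_tree lc_g_rc_21_2 lc_g_Cert_tree lc_g_rc_27_9 lc_g_rc_21_3 lc_g_rc_21_3 lc_g_Cert_tree lc_g_rc_23_1 lc_g_Cert_tree lc_g_Cert_tree lc_g_rc_21_2) (@D3.rec (fun _ => (Cert rels S Gen.g)) lc_g_rc_26_9 lc_g_rc_27_6 lc_g_Cert_tree lc_g_rc_23_7 lc_g_rc_27_6 lc_g_Cert_tree lc_g_rc_21_2 lc_g_rc_26_0 lc_g_rc_21_3 lc_g_Cert_tree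 lc_g_rc_21_2 lc_g_Cert_tree lc_g_Cert_tree lc_g_Cert_tree lc_g_rc_21_3 lc_g_Cert_tree lc_g_Cert_tree lc_g_rc_21_2 lc_g_rc_21_2 lc_g_Cert_tree lc_g_rc_23_1 lc_g_Cert_tree lc_g_Cert_tree lc_g_rc_21_3 lc_g_Cert_tree lc_g_Cert_tree lc_g_rc_23_1 lc_g_rc_21_3 lc_g_Cert_tree lc_g_rc_21_2 lc_g_rc_21_3 lc_g_rc_26_3 lc_g_Cert_tree lc_g_Cert_tree lc_g_Cert_tree lc_g_rc_21_2 lc_g_Cert_tree lc_g_Cert_tree lc_g_Cert_tree lc_g_Cert_tree lc_g_rc_26_3 lc_g_rc_25_11 lc_g_rc_26_9 lc_g_Cert_tree lc_g_Cert_tree lc_g_Cert_tree lc_g_rc_24_1 lc_g_rc_21_2 lc_g_rc_21_2 lc_g_Cert_tree lc_g_rc_21_3 lc_g_Cert_tree lc_g_rc_21_2 lc_g_Cert_tree lc_g_rc_21_3 lc_g_Cert_tree lc_g_Cert_tree lc_g_rc_21_2 lc_g_rc_26_3 lc_g_Cert_tree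 lc_g_Cert_tree lc_g_Cert_tree) (@D3.rec (fun _ => (Cert rels S Gen.g)) lc_g_Cert_tree lc_g_rc_21_3 lc_g_Cert_tree lc_g_Cert_tree lc_g_rc_21_2 lc_g_Cert_tree lc_g_Cert_tree lc_g_rc_26_6 lc_g_Cert_tree lc_g_Cert_tree lc_g_rc_26_9 lc_g_rc_27_3 lc_g_Cert_tree lc_g_Cert_tree lc_g_rc_21_3 lc_g_Cert_tree lc_g_Cert_tree lc_g_rc_21_2 lc_g_rc_26_0 lc_g_rc_21_3 lc_g_Cert_tree lc_g_Cert_tree lc_g_rc_24_7 lc_g_Cert_tree lc_g_Cert_tree lc_g_rc_23_7 lc_g_Cert_tree lc_g_Cert_tree lc_g_rc_26_9 lc_g_rc_27_6 lc_g_Cert_tree lc_g_rc_21_3 lc_g_rc_21_3 lc_g_rc_26_0 lc_g_Cert_tree lc_g_rc_26_6 lc_g_rc_21_2 lc_g_Cert_tree lc_g_rc_21_2 lc_g_Cert_tree lc_g_rc_27_6 lc_g_rc_21_2 lc_g_rc_26_3 lc_g_rc_27_9 lc_g_rc_24_7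 lc_g_Cert_tree lc_g_rc_21_3 lc_g_Cert_tree lc_g_Cert_tree lc_g_Cert_tree lc_g_Cert_tree lc_g_rc_21_2 lc_g_rc_24_7 lc_g_rc_21_3 lc_g_Cert_tree lc_g_Cert_tree lc_g_Cert_tree lc_g_Cert_tree lc_g_Cert_tree lc_g_rc_21_3 lc_g_Cert_tree lc_g_Cert_tree) (@D3.rec (fun _ => (Cert rels S Gen.g)) lc_g_rc_21_2 lc_g_Cert_tree lc_g_rc_21_3 lc_g_Cert_tree lc_g_rc_26_3 lc_g_rc_24_1 lc_g_Cert_tree lc_g_Cert_tree lc_g_rc_21_3 lc_g_Cert_tree lc_g_Cert_tree lc_g_rc_21_2 lc_g_rc_21_3 lc_g_Cert_tree lc_g_Cert_tree lc_g_rc_21_3 lc_g_rc_21_3 lc_g_rc_26_3 lc_g_Cert_tree lc_g_rc_21_2 lc_g_Cert_tree lc_g_Cert_tree lc_g_rc_21_2 lc_g_rc_21_3 lc_g_rc_26_6 lc_g_Cert_tree lc_g_Cert_tree lc_g_Cert_tree lc_g_rc_27_0 lc_g_rc_21_2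 lc_g_rc_27_6 lc_g_rc_27_9 lc_g_rc_27_0 lc_g_rc_21_2 lc_g_Cert_tree lc_g_rc_27_6 lc_g_rc_21_3 lc_g_Cert_tree lc_g_Cert_tree lc_g_Cert_tree lc_g_rc_21_2 lc_g_rc_21_2 lc_g_Cert_tree lc_g_rc_23_9 lc_g_rc_27_6 lc_g_Cert_tree lc_g_Cert_tree lc_g_rc_27_6 lc_g_rc_26_9 lc_g_rc_21_2 lc_g_Cert_tree lc_g_rc_21_2 lc_g_Cert_tree lc_g_Cert_tree lc_g_rc_21_2 lc_g_rc_26_3 lc_g_rc_24_9 lc_g_rc_27_3 lc_g_Cert_tree lc_g_Cert_tree lc_g_rc_21_2 lc_g_rc_27_0) (@D3.rec (fun _ => (Cert rels S Gen.g)) lc_g_Cert_tree lc_g_rc_24_7 lc_g_rc_21_3 lc_g_rc_26_6 lc_g_rc_27_6 lc_g_rc_27_3 lc_g_rc_21_3 lc_g_rc_27_3 lc_g_rc_23_9 lc_g_rc_21_3 lc_g_Cert_tree lc_g_Cert_tree lc_g_Cert_tree lc_g_rc_21_2 lc_g_rc_21_2 lc_g_Cert_tree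 lc_g_rc_26_3 lc_g_Cert_tree lc_g_rc_23_7 lc_g_Cert_tree lc_g_Cert_tree lc_g_Cert_tree lc_g_rc_21_3 lc_g_rc_21_2 lc_g_rc_21_3 lc_g_rc_23_9 lc_g_Cert_tree lc_g_Cert_tree lc_g_rc_21_3 lc_g_rc_21_2 lc_g_rc_21_3 lc_g_Cert_tree lc_g_rc_21_2 lc_g_Cert_tree lc_g_Cert_tree lc_g_Cert_tree lc_g_Cert_tree lc_g_rc_26_6 lc_g_rc_21_3 lc_g_Cert_tree lc_g_Cert_tree lc_g_Cert_tree lc_g_rc_21_3 lc_g_rc_21_2 lc_g_Cert_tree lc_g_rc_27_3 lc_g_Cert_tree lc_g_rc_27_0 lc_g_Cert_tree lc_g_Cert_tree lc_g_Cert_tree lc_g_rc_27_3 lc_g_rc_21_2 lc_g_Cert_tree lc_g_rc_21_3 lc_g_rc_21_2 lc_g_Cert_tree lc_g_Cert_tree lc_g_rc_23_1 lc_g_rc_27_6 lc_g_rc_24_3 lc_g_rc_21_2) (@D3.rec (fun _ => (Cert rels S Gen.g)) lc_g_rc_26_6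 lc_g_Cert_tree lc_g_rc_24_1 lc_g_Cert_tree lc_g_rc_27_3 lc_g_rc_21_3 lc_g_Cert_tree lc_g_rc_21_3 lc_g_Cert_tree lc_g_Cert_tree lc_g_rc_21_2 lc_g_rc_21_2 lc_g_rc_21_2 lc_g_rc_23_9 lc_g_rc_26_3 lc_g_rc_27_6 lc_g_rc_21_3 lc_g_Cert_tree lc_g_rc_26_0 lc_g_Cert_tree lc_g_rc_21_3 lc_g_rc_23_9 lc_g_rc_21_3 lc_g_Cert_tree lc_g_rc_21_2 lc_g_rc_26_0 lc_g_Cert_tree lc_g_rc_23_9 lc_g_Cert_tree lc_g_rc_24_1 lc_g_Cert_tree lc_g_Cert_tree lc_g_rc_27_3 lc_g_rc_24_7 lc_g_rc_24_3 lc_g_rc_27_0 lc_g_Cert_tree lc_g_rc_21_3 lc_g_rc_27_6 lc_g_rc_21_2 lc_g_rc_26_3 lc_g_rc_27_0 lc_g_Cert_tree lc_g_rc_21_3 lc_g_Cert_tree lc_g_Cert_tree lc_g_Cert_tree lc_g_Cert_tree lc_g_Cert_tree lc_g_rc_21_3 lc_g_Cert_tree lc_g_Cert_tree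 lc_g_rc_24_1 lc_g_rc_24_9 lc_g_rc_24_9 lc_g_rc_23_9 lc_g_Cert_tree lc_g_rc_21_3 lc_g_rc_21_2 lc_g_Cert_tree lc_g_rc_27_9 lc_g_rc_24_9) (@D3.rec (fun _ => (Cert rels S Gen.g)) lc_g_Cert_tree lc_g_rc_24_7 lc_g_rc_27_0 lc_g_rc_24_3 lc_g_rc_21_2 lc_g_rc_24_7 lc_g_Cert_tree lc_g_rc_27_3 lc_g_rc_24_7 lc_g_rc_21_3 lc_g_Cert_tree lc_g_Cert_tree lc_g_Cert_tree lc_g_rc_21_3 lc_g_Cert_tree lc_g_Cert_tree lc_g_Cert_tree lc_g_Cert_tree lc_g_Cert_tree lc_g_Cert_tree lc_g_Cert_tree lc_g_Cert_tree lc_g_Cert_tree lc_g_Cert_tree lc_g_Cert_tree lc_g_Cert_tree lc_g_rc_21_2 lc_g_rc_21_3 lc_g_Cert_tree lc_g_rc_21_2 lc_g_rc_21_2 lc_g_Cert_tree lc_g_rc_21_3 lc_g_Cert_tree lc_g_rc_21_2 lc_g_rc_27_0 lc_g_rc_24_7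 lc_g_Cert_tree lc_g_rc_24_7 lc_g_Cert_tree lc_g_rc_21_2 lc_g_rc_23_9 lc_g_rc_21_3 lc_g_Cert_tree lc_g_rc_21_2 lc_g_rc_21_3 lc_g_rc_27_3 lc_g_rc_23_1 lc_g_Cert_tree lc_g_Cert_tree lc_g_rc_21_3 lc_g_rc_24_9 lc_g_rc_21_2 lc_g_Cert_tree lc_g_Cert_tree lc_g_rc_21_3 lc_g_rc_27_0 lc_g_rc_21_2 lc_g_rc_21_2 lc_g_Cert_tree lc_g_rc_21_2 lc_g_rc_26_3) (@D3.rec (fun _ => (Cert rels S Gen.g)) lc_g_rc_26_6 lc_g_rc_24_7 lc_g_rc_21_2 lc_g_rc_26_3 lc_g_rc_27_3 lc_g_Cert_tree lc_g_Cert_tree lc_g_rc_26_9 lc_g_rc_21_3 lc_g_Cert_tree lc_g_rc_21_2 lc_g_rc_27_3 lc_g_rc_21_3 lc_g_Cert_tree lc_g_rc_27_6 lc_g_Cert_tree lc_g_rc_21_2 lc_g_Cert_tree lc_g_rc_21_3 lc_g_rc_24_1 lc_g_rc_24_7 lc_g_rc_27_6 lc_g_Cert_tree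 lc_g_rc_23_1 lc_g_rc_24_7 lc_g_Cert_tree lc_g_rc_27_3 lc_g_rc_21_2 lc_g_Cert_tree lc_g_rc_23_7 lc_g_rc_21_3 lc_g_Cert_tree lc_g_rc_21_3 lc_g_rc_26_3 lc_g_rc_21_3 lc_g_Cert_tree lc_g_rc_21_2 lc_g_Cert_tree lc_g_Cert_tree lc_g_rc_21_3 lc_g_Cert_tree lc_g_Cert_tree lc_g_rc_23_7 lc_g_Cert_tree lc_g_rc_21_2 lc_g_rc_24_3 lc_g_rc_26_9 lc_g_rc_26_9 lc_g_rc_26_3 lc_g_rc_21_2 lc_g_rc_27_9 lc_g_rc_21_2 lc_g_rc_26_9 lc_g_rc_21_3 lc_g_rc_21_3 lc_g_rc_27_3 lc_g_rc_21_3 lc_g_Cert_tree lc_g_rc_21_3 lc_g_rc_26_6 lc_g_rc_24_3 lc_g_rc_21_3) (@D3.rec (fun _ => (Cert rels S Gen.g)) lc_g_rc_21_3 lc_g_rc_24_7 lc_g_rc_21_2 lc_g_rc_21_2 lc_g_rc_21_3 lc_g_Cert_tree lc_g_Cert_tree lc_g_rc_21_3 lc_g_Cert_tree lc_g_rc_21_2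 lc_g_rc_21_2 lc_g_rc_21_3 lc_g_Cert_tree lc_g_Cert_tree lc_g_rc_26_6 lc_g_rc_27_9 lc_g_rc_24_1 lc_g_rc_21_3 lc_g_rc_26_6 lc_g_rc_27_9 lc_g_rc_21_3 lc_g_rc_27_3 lc_g_Cert_tree lc_g_rc_23_1 lc_g_rc_27_3 lc_g_rc_26_6 lc_g_Cert_tree lc_g_rc_21_2 lc_g_rc_23_9 lc_g_rc_21_2 lc_g_rc_21_3 lc_g_Cert_tree lc_g_rc_21_2 lc_g_Cert_tree lc_g_rc_26_6 lc_g_rc_23_7 lc_g_rc_26_9 lc_g_rc_21_3 lc_g_rc_26_6 lc_g_rc_21_2 lc_g_Cert_tree lc_g_Cert_tree lc_g_rc_26_9 lc_g_rc_23_9 lc_g_rc_26_3 lc_g_rc_21_3 lc_g_Cert_tree lc_g_Cert_tree lc_g_rc_21_2 lc_g_rc_23_1 lc_g_Cert_tree lc_g_Cert_tree lc_g_Cert_tree lc_g_rc_23_7 lc_g_rc_26_3 lc_g_rc_26_6 lc_g_rc_26_0 lc_g_rc_21_3 lc_g_Cert_tree lc_g_Cert_tree lc_g_rc_21_3 lc_g_rc_21_2)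 (@D3.rec (fun _ => (Cert rels S Gen.g)) lc_g_rc_27_0 lc_g_rc_27_3 lc_g_rc_26_3 lc_g_rc_23_9 lc_g_rc_26_9 lc_g_rc_24_1 lc_g_rc_27_9 lc_g_rc_26_0 lc_g_rc_23_7 lc_g_rc_24_7 lc_g_rc_21_2 lc_g_Cert_tree lc_g_rc_23_9 lc_g_rc_23_7 lc_g_rc_24_1 lc_g_Cert_tree lc_g_Cert_tree lc_g_rc_26_3 lc_g_rc_23_1 lc_g_rc_26_9 lc_g_rc_24_3 lc_g_Cert_tree lc_g_rc_21_3 lc_g_rc_21_2 lc_g_rc_21_2 lc_g_rc_26_0 lc_g_rc_21_3 lc_g_Cert_tree lc_g_rc_21_2 lc_g_rc_24_3 lc_g_rc_27_3 lc_g_rc_24_7 lc_g_Cert_tree lc_g_rc_25_7 lc_g_Cert_tree lc_g_rc_23_7 lc_g_rc_26_0 lc_g_rc_24_1 lc_g_rc_21_2 lc_g_rc_21_3 lc_g_Cert_tree lc_g_rc_23_9 lc_g_rc_26_3 lc_g_Cert_tree lc_g_rc_23_3 lc_g_Cert_tree lc_g_Cert_tree lc_g_rc_21_3 lc_g_Cert_tree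 lc_g_Cert_tree lc_g_Cert_tree lc_g_rc_26_9 lc_g_rc_27_3 lc_g_Cert_tree lc_g_rc_26_6 lc_g_Cert_tree lc_g_Cert_tree lc_g_Cert_tree lc_g_rc_23_7 lc_g_rc_23_3 lc_g_rc_23_3 lc_g_Cert_tree) (@D3.rec (fun _ => (Cert rels S Gen.g)) lc_g_Cert_tree lc_g_rc_23_9 lc_g_rc_21_3 lc_g_rc_21_2 lc_g_Cert_tree lc_g_Cert_tree lc_g_Cert_tree lc_g_rc_21_2 lc_g_Cert_tree lc_g_Cert_tree lc_g_rc_23_9 lc_g_rc_23_1 lc_g_rc_21_2 lc_g_Cert_tree lc_g_Cert_tree lc_g_Cert_tree lc_g_rc_21_2 lc_g_rc_27_0 lc_g_Cert_tree lc_g_rc_23_1 lc_g_rc_24_7 lc_g_rc_21_3 lc_g_Cert_tree lc_g_rc_26_0 lc_g_Cert_tree lc_g_rc_26_3 lc_g_rc_26_3 lc_g_rc_21_3 lc_g_Cert_tree lc_g_rc_21_2 lc_g_Cert_tree lc_g_Cert_tree lc_g_Cert_tree lc_g_rc_21_3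 lc_g_Cert_tree lc_g_Cert_tree lc_g_rc_26_6 lc_g_rc_26_9 lc_g_rc_21_2 lc_g_rc_26_0 lc_g_Cert_tree lc_g_rc_24_7 lc_g_rc_21_2 lc_g_rc_21_3 lc_g_Cert_tree lc_g_Cert_tree lc_g_rc_21_2 lc_g_rc_21_3 lc_g_rc_26_6 lc_g_Cert_tree lc_g_Cert_tree lc_g_Cert_tree lc_g_rc_21_3 lc_g_Cert_tree lc_g_Cert_tree lc_g_rc_21_2 lc_g_rc_27_6 lc_g_rc_23_9 lc_g_Cert_tree lc_g_Cert_tree lc_g_Cert_tree lc_g_rc_21_3) (@D3.rec (fun _ => (Cert rels S Gen.g)) lc_g_Cert_tree lc_g_rc_21_2 lc_g_rc_26_3 lc_g_Cert_tree lc_g_Cert_tree lc_g_rc_23_9 lc_g_Cert_tree lc_g_Cert_tree lc_g_rc_21_3 lc_g_rc_21_3 lc_g_Cert_tree lc_g_rc_21_2 lc_g_Cert_tree lc_g_Cert_tree lc_g_Cert_tree lc_g_rc_21_2 lc_g_rc_21_2 lc_g_Cert_tree lc_g_rc_26_0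 lc_g_Cert_tree lc_g_Cert_tree lc_g_Cert_tree lc_g_Cert_tree lc_g_Cert_tree lc_g_rc_24_1 lc_g_rc_26_6 lc_g_rc_24_1 lc_g_rc_23_9 lc_g_rc_21_3 lc_g_Cert_tree lc_g_Cert_tree lc_g_rc_21_2 lc_g_rc_24_1 lc_g_rc_23_3 lc_g_rc_23_7 lc_g_rc_26_3 lc_g_Cert_tree lc_g_Cert_tree lc_g_rc_23_1 lc_g_rc_23_9 lc_g_Cert_tree lc_g_rc_21_3 lc_g_Cert_tree lc_g_rc_27_3 lc_g_rc_21_3 lc_g_Cert_tree lc_g_Cert_tree lc_g_rc_21_3 lc_g_rc_23_1 lc_g_Cert_tree lc_g_rc_24_9 lc_g_rc_21_2 lc_g_rc_24_1 lc_g_rc_21_2 lc_g_rc_26_3 lc_g_rc_21_3 lc_g_Cert_tree lc_g_rc_27_0 lc_g_rc_27_9 lc_g_rc_26_9 lc_g_rc_21_2 lc_g_rc_23_3) (@D3.rec (fun _ => (Cert rels S Gen.g)) lc_g_rc_24_1 lc_g_rc_21_3 lc_g_Cert_tree lc_g_Cert_tree lc_g_rc_21_3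 lc_g_Cert_tree lc_g_rc_21_3 lc_g_rc_21_2 lc_g_rc_24_7 lc_g_rc_27_6 lc_g_Cert_tree lc_g_Cert_tree lc_g_Cert_tree lc_g_Cert_tree lc_g_rc_27_0 lc_g_Cert_tree lc_g_Cert_tree lc_g_rc_21_3 lc_g_Cert_tree lc_g_rc_21_2 lc_g_rc_21_2 lc_g_rc_27_3 lc_g_rc_27_3 lc_g_Cert_tree lc_g_rc_24_9 lc_g_rc_27_3 lc_g_rc_21_2 lc_g_rc_26_6 lc_g_rc_24_1 lc_g_Cert_tree lc_g_rc_24_7 lc_g_rc_21_2 lc_g_rc_27_6 lc_g_rc_23_7 lc_g_rc_26_3 lc_g_rc_21_2 lc_g_Cert_tree lc_g_rc_27_3 lc_g_rc_21_2 lc_g_rc_21_3 lc_g_Cert_tree lc_g_Cert_tree lc_g_rc_26_9 lc_g_rc_27_6 lc_g_rc_27_9 lc_g_rc_24_9 lc_g_rc_21_2 lc_g_rc_21_3 lc_g_Cert_tree lc_g_Cert_tree lc_g_rc_27_9 lc_g_rc_26_3 lc_g_rc_27_3 lc_g_rc_24_9 lc_g_rc_24_1 lc_g_Cert_tree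 lc_g_Cert_tree lc_g_rc_21_2 lc_g_rc_24_7 lc_g_rc_23_7 lc_g_Cert_tree lc_g_Cert_tree) (@D3.rec (fun _ => (Cert rels S Gen.g)) lc_g_rc_21_3 lc_g_Cert_tree lc_g_rc_21_2 lc_g_rc_26_6 lc_g_Cert_tree lc_g_Cert_tree lc_g_rc_21_3 lc_g_Cert_tree lc_g_Cert_tree lc_g_rc_21_2 lc_g_rc_26_0 lc_g_Cert_tree lc_g_rc_27_9 lc_g_Cert_tree lc_g_rc_26_6 lc_g_rc_26_9 lc_g_rc_23_7 lc_g_rc_27_3 lc_g_rc_25_15 lc_g_Cert_tree lc_g_Cert_tree lc_g_rc_21_2 lc_g_rc_26_6 lc_g_rc_21_2 lc_g_Cert_tree lc_g_rc_24_1 lc_g_Cert_tree lc_g_Cert_tree lc_g_Cert_tree lc_g_Cert_tree lc_g_rc_21_2 lc_g_Cert_tree lc_g_rc_23_3 lc_g_rc_27_6 lc_g_rc_21_3 lc_g_Cert_tree lc_g_rc_21_2 lc_g_rc_21_3 lc_g_Cert_tree lc_g_rc_21_2 lc_g_rc_21_2 lc_g_Cert_tree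 lc_g_Cert_tree lc_g_rc_21_3 lc_g_Cert_tree lc_g_Cert_tree lc_g_rc_21_2 lc_g_rc_21_2 lc_g_rc_23_3 lc_g_rc_21_3 lc_g_Cert_tree lc_g_rc_21_2 lc_g_rc_26_3 lc_g_rc_26_6 lc_g_Cert_tree lc_g_Cert_tree lc_g_rc_27_3 lc_g_rc_21_3 lc_g_Cert_tree lc_g_rc_21_2 lc_g_rc_26_9 lc_g_Cert_tree) (@D3.rec (fun _ => (Cert rels S Gen.g)) lc_g_Cert_tree lc_g_Cert_tree lc_g_rc_21_2 lc_g_rc_26_6 lc_g_rc_26_9 lc_g_Cert_tree lc_g_rc_23_1 lc_g_rc_27_0 lc_g_rc_21_3 lc_g_Cert_tree lc_g_Cert_tree lc_g_rc_21_2 lc_g_Cert_tree lc_g_rc_26_3 lc_g_rc_21_3 lc_g_Cert_tree lc_g_Cert_tree lc_g_rc_21_2 lc_g_Cert_tree lc_g_Cert_tree lc_g_rc_23_1 lc_g_Cert_tree lc_g_rc_21_3 lc_g_rc_21_3 lc_g_rc_27_3 lc_g_rc_24_1 lc_g_rc_27_6 lc_g_rc_21_3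 lc_g_Cert_tree lc_g_Cert_tree lc_g_rc_27_3 lc_g_rc_21_2 lc_g_rc_21_3 lc_g_Cert_tree lc_g_Cert_tree lc_g_rc_21_2 lc_g_rc_26_0 lc_g_rc_26_3 lc_g_Cert_tree lc_g_rc_21_3 lc_g_rc_24_9 lc_g_rc_26_3 lc_g_Cert_tree lc_g_rc_27_6 lc_g_rc_23_9 lc_g_Cert_tree lc_g_rc_27_0 lc_g_Cert_tree lc_g_rc_27_3 lc_g_rc_27_9 lc_g_Cert_tree lc_g_rc_26_0 lc_g_rc_21_3 lc_g_Cert_tree lc_g_Cert_tree lc_g_rc_21_3 lc_g_rc_24_1 lc_g_Cert_tree lc_g_rc_24_7 lc_g_rc_21_3 lc_g_rc_26_6 lc_g_rc_27_6) (@D3.rec (fun _ => (Cert rels S Gen.g)) lc_g_rc_21_3 lc_g_rc_26_0 lc_g_rc_26_9 lc_g_rc_21_3 lc_g_rc_21_2 lc_g_rc_24_7 lc_g_rc_27_0 lc_g_rc_21_3 lc_g_Cert_tree lc_g_Cert_tree lc_g_rc_21_3 lc_g_Cert_tree lc_g_rc_21_2 lc_g_rc_21_3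 lc_g_Cert_tree lc_g_rc_24_9 lc_g_rc_23_7 lc_g_rc_26_0 lc_g_rc_26_9 lc_g_rc_24_7 lc_g_rc_21_3 lc_g_rc_21_3 lc_g_rc_26_9 lc_g_rc_21_2 lc_g_rc_21_2 lc_g_Cert_tree lc_g_rc_21_3 lc_g_rc_21_3 lc_g_Cert_tree lc_g_Cert_tree lc_g_rc_21_3 lc_g_Cert_tree lc_g_rc_23_1 lc_g_Cert_tree lc_g_rc_23_1 lc_g_rc_26_0 lc_g_rc_23_9 lc_g_rc_21_2 lc_g_rc_21_2 lc_g_rc_21_2 lc_g_rc_27_9 lc_g_Cert_tree lc_g_rc_21_3 lc_g_Cert_tree lc_g_Cert_tree lc_g_rc_21_3 lc_g_Cert_tree lc_g_Cert_tree lc_g_rc_27_6 lc_g_Cert_tree lc_g_rc_21_3 lc_g_rc_23_1 lc_g_Cert_tree lc_g_rc_21_2 lc_g_rc_23_1 lc_g_rc_26_9 lc_g_rc_21_2 lc_g_rc_24_7 lc_g_rc_21_3 lc_g_Cert_tree lc_g_rc_26_0 lc_g_Cert_tree) (@D3.rec (fun _ => (Cert rels S Gen.g))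 lc_g_rc_21_3 lc_g_rc_24_1 lc_g_rc_21_2 lc_g_rc_21_3 lc_g_Cert_tree lc_g_rc_21_2 lc_g_rc_26_0 lc_g_rc_23_3 lc_g_rc_26_9 lc_g_rc_27_3 lc_g_rc_21_3 lc_g_rc_24_9 lc_g_rc_21_2 lc_g_rc_21_2 lc_g_rc_26_6 lc_g_rc_23_3 lc_g_rc_27_6 lc_g_rc_21_3 lc_g_Cert_tree lc_g_Cert_tree lc_g_Cert_tree lc_g_rc_21_3 lc_g_Cert_tree lc_g_Cert_tree lc_g_rc_21_2 lc_g_rc_26_9 lc_g_rc_24_9 lc_g_Cert_tree lc_g_rc_21_2 lc_g_rc_21_2 lc_g_rc_24_3 lc_g_Cert_tree lc_g_Cert_tree lc_g_rc_21_3 lc_g_rc_21_2 lc_g_rc_21_3 lc_g_rc_21_2 lc_g_rc_27_3 lc_g_Cert_tree lc_g_rc_26_3 lc_g_rc_21_3 lc_g_Cert_tree lc_g_rc_21_2 lc_g_rc_27_6 lc_g_rc_27_0 lc_g_rc_21_3 lc_g_Cert_tree lc_g_Cert_tree lc_g_Cert_tree lc_g_rc_21_3 lc_g_Cert_tree lc_g_Cert_tree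 lc_g_rc_21_2 lc_g_Cert_tree lc_g_rc_21_3 lc_g_rc_26_9 lc_g_rc_27_6 lc_g_rc_26_9 lc_g_Cert_tree lc_g_Cert_tree lc_g_rc_27_0 lc_g_rc_21_3) (@D3.rec (fun _ => (Cert rels S Gen.g)) lc_g_Cert_tree lc_g_Cert_tree lc_g_rc_21_2 lc_g_rc_26_0 lc_g_rc_21_2 lc_g_rc_21_3 lc_g_Cert_tree lc_g_Cert_tree lc_g_Cert_tree lc_g_rc_21_3 lc_g_Cert_tree lc_g_Cert_tree lc_g_rc_21_2 lc_g_rc_21_2 lc_g_Cert_tree lc_g_Cert_tree lc_g_Cert_tree lc_g_Cert_tree lc_g_rc_27_6 lc_g_rc_21_3 lc_g_rc_26_9 lc_g_Cert_tree lc_g_Cert_tree lc_g_Cert_tree lc_g_rc_21_3 lc_g_Cert_tree lc_g_rc_21_3 lc_g_Cert_tree lc_g_rc_21_2 lc_g_rc_26_6 lc_g_rc_26_6 lc_g_Cert_tree lc_g_Cert_tree lc_g_Cert_tree lc_g_rc_21_3 lc_g_Cert_tree lc_g_rc_26_3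 lc_g_rc_24_9 lc_g_Cert_tree lc_g_Cert_tree lc_g_Cert_tree lc_g_rc_26_6 lc_g_rc_26_0 lc_g_Cert_tree lc_g_Cert_tree lc_g_rc_21_3 lc_g_Cert_tree lc_g_Cert_tree lc_g_rc_21_2 lc_g_Cert_tree lc_g_Cert_tree lc_g_Cert_tree lc_g_rc_23_1 lc_g_rc_26_3 lc_g_rc_21_3 lc_g_rc_21_2 lc_g_rc_23_7 lc_g_rc_21_3 lc_g_Cert_tree lc_g_Cert_tree lc_g_rc_21_2 lc_g_rc_21_2) (@D3.rec (fun _ => (Cert rels S Gen.g)) lc_g_rc_26_0 lc_g_rc_26_3 lc_g_Cert_tree lc_g_rc_26_6 lc_g_rc_21_2 lc_g_Cert_tree lc_g_Cert_tree lc_g_rc_21_3 lc_g_rc_27_0 lc_g_Cert_tree lc_g_rc_21_3 lc_g_rc_27_0 lc_g_rc_21_3 lc_g_rc_26_6 lc_g_rc_21_2 lc_g_rc_24_7 lc_g_rc_26_9 lc_g_rc_27_9 lc_g_rc_23_1 lc_g_rc_26_9 lc_g_rc_27_9 lc_g_rc_26_3 lc_g_Cert_tree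 lc_g_rc_24_9 lc_g_rc_24_1 lc_g_rc_24_9 lc_g_rc_21_2 lc_g_rc_24_3 lc_g_Cert_tree lc_g_rc_23_3 lc_g_rc_21_3 lc_g_Cert_tree lc_g_Cert_tree lc_g_rc_21_2 lc_g_Cert_tree lc_g_Cert_tree lc_g_rc_21_2 lc_g_Cert_tree lc_g_rc_21_2 lc_g_rc_21_3 lc_g_Cert_tree lc_g_rc_23_3 lc_g_Cert_tree lc_g_rc_27_6 lc_g_Cert_tree lc_g_rc_26_9 lc_g_rc_23_7 lc_g_rc_21_2 lc_g_Cert_tree lc_g_rc_21_2 lc_g_Cert_tree lc_g_rc_21_2 lc_g_rc_26_3 lc_g_Cert_tree lc_g_rc_21_3 lc_g_Cert_tree lc_g_Cert_tree lc_g_rc_27_6 lc_g_rc_26_9 lc_g_rc_21_2 lc_g_rc_21_2 lc_g_rc_21_3) (@D3.rec (fun _ => (Cert rels S Gen.g)) lc_g_Cert_tree lc_g_Cert_tree lc_g_Cert_tree lc_g_Cert_tree lc_g_rc_27_0 lc_g_Cert_tree lc_g_rc_21_2 lc_g_rc_27_3 lc_g_rc_24_3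 lc_g_rc_23_3 lc_g_rc_21_2 lc_g_rc_21_2 lc_g_rc_24_7 lc_g_Cert_tree lc_g_rc_23_9 lc_g_Cert_tree lc_g_Cert_tree lc_g_rc_24_3 lc_g_Cert_tree lc_g_rc_26_3 lc_g_rc_23_3 lc_g_Cert_tree lc_g_rc_26_9 lc_g_rc_26_0 lc_g_Cert_tree lc_g_rc_21_2 lc_g_rc_23_9 lc_g_rc_27_9 lc_g_rc_24_7 lc_g_Cert_tree lc_g_rc_23_9 lc_g_rc_26_6 lc_g_rc_21_3 lc_g_Cert_tree lc_g_rc_24_1 lc_g_rc_26_0 lc_g_rc_27_3 lc_g_rc_21_3 lc_g_rc_26_6 lc_g_rc_26_6 lc_g_rc_27_6 lc_g_rc_23_7 lc_g_Cert_tree lc_g_rc_21_3 lc_g_Cert_tree lc_g_rc_24_3 lc_g_Cert_tree lc_g_Cert_tree lc_g_rc_21_3 lc_g_Cert_tree lc_g_Cert_tree lc_g_rc_26_3 lc_g_rc_26_9 lc_g_rc_27_9 lc_g_rc_26_9 lc_g_rc_26_6 lc_g_rc_21_2 lc_g_rc_21_3 lc_g_Cert_tree lc_g_rc_21_2 lc_g_rc_27_3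 lc_g_rc_21_3) (@D3.rec (fun _ => (Cert rels S Gen.g)) lc_g_Cert_tree lc_g_rc_24_1 lc_g_rc_26_0 lc_g_rc_21_3 lc_g_rc_21_2 lc_g_rc_26_6 lc_g_Cert_tree lc_g_rc_23_1 lc_g_rc_21_3 lc_g_Cert_tree lc_g_Cert_tree lc_g_rc_21_2 lc_g_rc_26_9 lc_g_rc_24_3 lc_g_Cert_tree lc_g_Cert_tree lc_g_rc_27_3 lc_g_rc_21_3 lc_g_Cert_tree lc_g_rc_21_3 lc_g_Cert_tree lc_g_Cert_tree lc_g_rc_21_2 lc_g_rc_21_3 lc_g_Cert_tree lc_g_rc_21_3 lc_g_Cert_tree lc_g_rc_27_0 lc_g_rc_21_2 lc_g_Cert_tree lc_g_rc_21_2 lc_g_Cert_tree lc_g_rc_21_2 lc_g_rc_26_0 lc_g_rc_21_2 lc_g_rc_21_3 lc_g_Cert_tree lc_g_rc_26_3 lc_g_Cert_tree lc_g_rc_26_3 lc_g_Cert_tree lc_g_Cert_tree lc_g_rc_21_3 lc_g_rc_21_2 lc_g_rc_21_3 lc_g_rc_21_2 lc_g_rc_21_2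 lc_g_Cert_tree lc_g_rc_27_6 lc_g_rc_21_3 lc_g_Cert_tree lc_g_Cert_tree lc_g_rc_21_2 lc_g_rc_21_2 lc_g_rc_21_3 lc_g_Cert_tree lc_g_rc_21_2 lc_g_rc_26_6 lc_g_Cert_tree lc_g_Cert_tree lc_g_Cert_tree lc_g_rc_21_2) (@D3.rec (fun _ => (Cert rels S Gen.g)) lc_g_Cert_tree lc_g_Cert_tree lc_g_rc_21_2 lc_g_rc_25_19 lc_g_rc_21_3 lc_g_Cert_tree lc_g_Cert_tree lc_g_rc_21_2 lc_g_Cert_tree lc_g_Cert_tree lc_g_rc_24_1 lc_g_rc_24_1 lc_g_rc_21_3 lc_g_rc_21_3 lc_g_Cert_tree lc_g_Cert_tree lc_g_rc_21_2 lc_g_rc_26_3 lc_g_rc_21_2 lc_g_Cert_tree lc_g_Cert_tree lc_g_Cert_tree lc_g_rc_26_6 lc_g_rc_27_3 lc_g_rc_23_7 lc_g_rc_21_3 lc_g_rc_27_3 lc_g_Cert_tree lc_g_rc_26_9 lc_g_rc_24_7 lc_g_rc_21_2 lc_g_Cert_tree lc_g_rc_21_3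 lc_g_rc_27_6 lc_g_rc_23_9 lc_g_rc_21_3 lc_g_rc_21_3 lc_g_rc_21_3 lc_g_Cert_tree lc_g_Cert_tree lc_g_rc_27_9 lc_g_rc_21_2 lc_g_rc_27_0 lc_g_rc_26_0 lc_g_rc_24_7 lc_g_Cert_tree lc_g_rc_27_3 lc_g_Cert_tree lc_g_rc_23_7 lc_g_rc_27_6 lc_g_Cert_tree lc_g_rc_21_3 lc_g_rc_26_3 lc_g_Cert_tree lc_g_rc_21_2 lc_g_Cert_tree lc_g_rc_21_2 lc_g_rc_27_0 lc_g_rc_21_2 lc_g_rc_21_3 lc_g_rc_21_3 lc_g_Cert_tree) (@D3.rec (fun _ => (Cert rels S Gen.g)) lc_g_Cert_tree lc_g_rc_24_7 lc_g_rc_23_9 lc_g_rc_24_7 lc_g_Cert_tree lc_g_rc_26_0 lc_g_rc_21_3 lc_g_Cert_tree lc_g_rc_21_2 lc_g_Cert_tree lc_g_rc_23_3 lc_g_rc_26_0 lc_g_rc_21_3 lc_g_rc_25_11 lc_g_Cert_tree lc_g_rc_21_3 lc_g_rc_21_3 lc_g_Cert_tree lc_g_Cert_tree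 lc_g_rc_21_2 lc_g_rc_21_2 lc_g_rc_27_3 lc_g_rc_24_9 lc_g_rc_27_9 lc_g_rc_21_3 lc_g_Cert_tree lc_g_Cert_tree lc_g_Cert_tree lc_g_rc_21_2 lc_g_Cert_tree lc_g_rc_25_15 lc_g_rc_26_3 lc_g_rc_26_3 lc_g_rc_26_9 lc_g_rc_21_3 lc_g_Cert_tree lc_g_Cert_tree lc_g_rc_21_2 lc_g_Cert_tree lc_g_Cert_tree lc_g_rc_27_9 lc_g_rc_21_2 lc_g_rc_27_3 lc_g_Cert_tree lc_g_rc_21_3 lc_g_Cert_tree lc_g_Cert_tree lc_g_rc_21_2 lc_g_rc_21_2 lc_g_rc_21_2 lc_g_rc_26_3 lc_g_rc_24_1 lc_g_rc_27_6 lc_g_rc_21_2 lc_g_Cert_tree lc_g_Cert_tree lc_g_rc_27_0 lc_g_Cert_tree lc_g_rc_21_3 lc_g_Cert_tree lc_g_Cert_tree lc_g_rc_23_3) (@D3.rec (fun _ => (Cert rels S Gen.g)) lc_g_Cert_tree lc_g_rc_21_3 lc_g_rc_27_3 lc_g_rc_21_2 lc_g_rc_26_3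 lc_g_rc_26_9 lc_g_rc_24_3 lc_g_Cert_tree lc_g_Cert_tree lc_g_Cert_tree lc_g_rc_24_7 lc_g_Cert_tree lc_g_rc_21_3 lc_g_rc_26_6 lc_g_rc_21_3 lc_g_Cert_tree lc_g_rc_21_2 lc_g_rc_21_3 lc_g_Cert_tree lc_g_rc_23_9 lc_g_rc_23_1 lc_g_Cert_tree lc_g_rc_24_3 lc_g_Cert_tree lc_g_Cert_tree lc_g_rc_21_2 lc_g_rc_23_3 lc_g_Cert_tree lc_g_Cert_tree lc_g_rc_23_7 lc_g_rc_26_3 lc_g_rc_21_3 lc_g_Cert_tree lc_g_Cert_tree lc_g_rc_21_2 lc_g_Cert_tree lc_g_rc_23_7 lc_g_Cert_tree lc_g_rc_27_6 lc_g_rc_27_3 lc_g_rc_23_9 lc_g_rc_24_7 lc_g_Cert_tree lc_g_Cert_tree lc_g_rc_21_2 lc_g_Cert_tree lc_g_rc_21_3 lc_g_rc_24_9 lc_g_rc_23_1 lc_g_rc_27_6 lc_g_rc_24_9 lc_g_Cert_tree lc_g_Cert_tree lc_g_rc_23_9 lc_g_rc_24_9 lc_g_rc_24_7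 lc_g_rc_26_3 lc_g_Cert_tree lc_g_Cert_tree lc_g_rc_24_1 lc_g_rc_21_2 lc_g_rc_24_9) (@D3.rec (fun _ => (Cert rels S Gen.g)) lc_g_rc_27_3 lc_g_Cert_tree lc_g_rc_26_9 lc_g_rc_23_3 lc_g_rc_26_0 lc_g_rc_21_3 lc_g_Cert_tree lc_g_rc_21_2 lc_g_rc_26_6 lc_g_Cert_tree lc_g_Cert_tree lc_g_Cert_tree lc_g_rc_21_3 lc_g_Cert_tree lc_g_Cert_tree lc_g_rc_21_2 lc_g_rc_26_9 lc_g_Cert_tree lc_g_rc_23_1 lc_g_Cert_tree lc_g_rc_26_3 lc_g_Cert_tree lc_g_Cert_tree lc_g_Cert_tree lc_g_Cert_tree lc_g_rc_23_7 lc_g_rc_26_3 lc_g_Cert_tree lc_g_rc_21_2 lc_g_rc_26_6 lc_g_rc_24_3 lc_g_Cert_tree lc_g_Cert_tree lc_g_Cert_tree lc_g_rc_24_3 lc_g_Cert_tree lc_g_rc_21_3 lc_g_Cert_tree lc_g_Cert_tree lc_g_Cert_tree lc_g_Cert_tree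 lc_g_Cert_tree lc_g_rc_21_2 lc_g_Cert_tree lc_g_rc_21_3 lc_g_rc_26_0 lc_g_rc_26_3 lc_g_rc_21_3 lc_g_Cert_tree lc_g_rc_23_7 lc_g_Cert_tree lc_g_rc_24_1 lc_g_Cert_tree lc_g_Cert_tree lc_g_rc_21_3 lc_g_Cert_tree lc_g_Cert_tree lc_g_Cert_tree lc_g_rc_26_0 lc_g_rc_21_3 lc_g_Cert_tree lc_g_rc_21_2) (@D3.rec (fun _ => (Cert rels S Gen.g)) lc_g_rc_21_3 lc_g_rc_23_1 lc_g_Cert_tree lc_g_Cert_tree lc_g_Cert_tree lc_g_rc_21_3 lc_g_Cert_tree lc_g_Cert_tree lc_g_rc_21_2 lc_g_rc_21_2 lc_g_rc_21_3 lc_g_Cert_tree lc_g_rc_26_0 lc_g_Cert_tree lc_g_Cert_tree lc_g_Cert_tree lc_g_Cert_tree lc_g_rc_21_3 lc_g_Cert_tree lc_g_rc_21_2 lc_g_Cert_tree lc_g_Cert_tree lc_g_Cert_tree lc_g_rc_25_15 lc_g_rc_26_3 lc_g_rc_23_7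 lc_g_rc_23_1 lc_g_rc_26_0 lc_g_Cert_tree lc_g_Cert_tree lc_g_Cert_tree lc_g_rc_21_3 lc_g_Cert_tree lc_g_Cert_tree lc_g_rc_21_2 lc_g_Cert_tree lc_g_Cert_tree lc_g_rc_24_1 lc_g_rc_26_6 lc_g_rc_27_3 lc_g_rc_27_0 lc_g_rc_21_3 lc_g_Cert_tree lc_g_Cert_tree lc_g_rc_21_2 lc_g_rc_27_9 lc_g_rc_27_0 lc_g_rc_26_9 lc_g_Cert_tree lc_g_Cert_tree lc_g_rc_27_0 lc_g_rc_26_9 lc_g_rc_27_3 lc_g_rc_21_3 lc_g_rc_24_7 lc_g_Cert_tree lc_g_rc_26_6 lc_g_rc_23_7 lc_g_Cert_tree lc_g_rc_23_7 lc_g_Cert_tree lc_g_Cert_tree) (@D3.rec (fun _ => (Cert rels S Gen.g)) lc_g_Cert_tree lc_g_Cert_tree lc_g_rc_27_0 lc_g_Cert_tree lc_g_rc_27_3 lc_g_Cert_tree lc_g_rc_23_7 lc_g_Cert_tree lc_g_rc_21_2 lc_g_Cert_tree lc_g_rc_21_2 lc_g_rc_26_0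 lc_g_rc_26_3 lc_g_rc_21_3 lc_g_Cert_tree lc_g_rc_21_2 lc_g_Cert_tree lc_g_Cert_tree lc_g_rc_24_1 lc_g_Cert_tree lc_g_rc_24_7 lc_g_Cert_tree lc_g_rc_27_0 lc_g_Cert_tree lc_g_Cert_tree lc_g_rc_26_6 lc_g_rc_26_0 lc_g_Cert_tree lc_g_rc_21_3 lc_g_rc_21_3 lc_g_Cert_tree lc_g_rc_27_3 lc_g_rc_27_3 lc_g_rc_27_3 lc_g_Cert_tree lc_g_rc_26_3 lc_g_rc_21_3 lc_g_rc_23_1 lc_g_Cert_tree lc_g_Cert_tree lc_g_Cert_tree lc_g_rc_21_3 lc_g_Cert_tree lc_g_Cert_tree lc_g_rc_21_2 lc_g_rc_26_9 lc_g_Cert_tree lc_g_rc_21_2 lc_g_rc_21_2 lc_g_rc_24_3 lc_g_Cert_tree lc_g_Cert_tree lc_g_rc_21_2 lc_g_Cert_tree lc_g_rc_21_3 lc_g_Cert_tree lc_g_Cert_tree lc_g_Cert_tree lc_g_rc_23_1 lc_g_rc_27_6 lc_g_Cert_tree lc_g_rc_23_7)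 (@D3.rec (fun _ => (Cert rels S Gen.g)) lc_g_rc_27_0 lc_g_rc_27_6 lc_g_rc_23_3 lc_g_Cert_tree lc_g_rc_23_7 lc_g_rc_21_3 lc_g_rc_21_3 lc_g_rc_21_2 lc_g_Cert_tree lc_g_rc_24_7 lc_g_Cert_tree lc_g_rc_24_1 lc_g_rc_23_1 lc_g_rc_21_3 lc_g_rc_27_6 lc_g_rc_21_2 lc_g_Cert_tree lc_g_rc_23_3 lc_g_Cert_tree lc_g_Cert_tree lc_g_rc_24_1 lc_g_Cert_tree lc_g_rc_21_2 lc_g_Cert_tree lc_g_Cert_tree lc_g_rc_21_2 lc_g_rc_25_3 lc_g_Cert_tree lc_g_rc_27_3 lc_g_rc_26_0 lc_g_Cert_tree lc_g_rc_21_2 lc_g_rc_27_6 lc_g_rc_24_7 lc_g_Cert_tree lc_g_rc_21_3 lc_g_rc_24_3 lc_g_Cert_tree lc_g_Cert_tree lc_g_rc_21_3 lc_g_Cert_tree lc_g_Cert_tree lc_g_rc_21_2 lc_g_rc_21_3 lc_g_rc_24_1 lc_g_rc_26_0 lc_g_rc_24_3 lc_g_rc_23_1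 lc_g_rc_23_3 lc_g_Cert_tree lc_g_Cert_tree lc_g_rc_27_6 lc_g_Cert_tree lc_g_Cert_tree lc_g_rc_21_3 lc_g_Cert_tree lc_g_rc_26_3 lc_g_Cert_tree lc_g_Cert_tree lc_g_Cert_tree lc_g_Cert_tree lc_g_rc_21_3) (@D3.rec (fun _ => (Cert rels S Gen.g)) lc_g_rc_21_3 lc_g_Cert_tree lc_g_rc_21_2 lc_g_Cert_tree lc_g_Cert_tree lc_g_rc_23_7 lc_g_rc_23_7 lc_g_Cert_tree lc_g_rc_24_7 lc_g_rc_23_9 lc_g_Cert_tree lc_g_Cert_tree lc_g_rc_21_3 lc_g_Cert_tree lc_g_Cert_tree lc_g_rc_21_2 lc_g_Cert_tree lc_g_rc_23_7 lc_g_Cert_tree lc_g_rc_27_6 lc_g_rc_27_3 lc_g_rc_24_3 lc_g_rc_21_3 lc_g_Cert_tree lc_g_Cert_tree lc_g_rc_21_2 lc_g_rc_21_2 lc_g_Cert_tree lc_g_Cert_tree lc_g_rc_23_9 lc_g_rc_26_6 lc_g_rc_21_3 lc_g_Cert_tree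 lc_g_Cert_tree lc_g_rc_21_3 lc_g_Cert_tree lc_g_Cert_tree lc_g_rc_21_3 lc_g_Cert_tree lc_g_rc_21_2 lc_g_rc_21_2 lc_g_rc_27_9 lc_g_Cert_tree lc_g_rc_21_2 lc_g_Cert_tree lc_g_rc_24_9 lc_g_rc_21_3 lc_g_rc_21_2 lc_g_Cert_tree lc_g_Cert_tree lc_g_rc_21_2 lc_g_rc_21_2 lc_g_Cert_tree lc_g_rc_21_2 lc_g_rc_24_1 lc_g_Cert_tree lc_g_rc_24_3 lc_g_Cert_tree lc_g_rc_23_3 lc_g_Cert_tree lc_g_rc_23_7 lc_g_Cert_tree) (@D3.rec (fun _ => (Cert rels S Gen.g)) lc_g_rc_27_6 lc_g_rc_27_3 lc_g_rc_21_2 lc_g_rc_21_2 lc_g_rc_26_6 lc_g_rc_24_9 lc_g_Cert_tree lc_g_rc_27_3 lc_g_rc_21_3 lc_g_Cert_tree lc_g_rc_24_9 lc_g_rc_21_3 lc_g_Cert_tree lc_g_rc_26_6 lc_g_rc_23_3 lc_g_Cert_tree lc_g_Cert_tree lc_g_rc_26_0 lc_g_Cert_tree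 lc_g_Cert_tree lc_g_rc_27_9 lc_g_Cert_tree lc_g_rc_26_0 lc_g_Cert_tree lc_g_Cert_tree lc_g_rc_21_3 lc_g_Cert_tree lc_g_rc_27_6 lc_g_rc_21_2 lc_g_rc_21_3 lc_g_Cert_tree lc_g_rc_21_2 lc_g_Cert_tree lc_g_Cert_tree lc_g_rc_21_2 lc_g_rc_27_6 lc_g_rc_23_7 lc_g_rc_24_1 lc_g_rc_21_3 lc_g_Cert_tree lc_g_rc_21_2 lc_g_Cert_tree lc_g_Cert_tree lc_g_Cert_tree lc_g_Cert_tree lc_g_Cert_tree lc_g_rc_26_0 lc_g_rc_26_6 lc_g_Cert_tree lc_g_Cert_tree lc_g_rc_23_7 lc_g_rc_21_2 lc_g_Cert_tree lc_g_rc_27_6 lc_g_Cert_tree lc_g_rc_21_3 lc_g_Cert_tree lc_g_Cert_tree lc_g_rc_21_2 lc_g_rc_26_6 lc_g_Cert_tree lc_g_rc_26_6) (@D3.rec (fun _ => (Cert rels S Gen.g)) lc_g_Cert_tree lc_g_rc_21_3 lc_g_Cert_tree lc_g_Cert_tree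 lc_g_rc_21_2 lc_g_Cert_tree lc_g_rc_23_7 lc_g_rc_27_0 lc_g_rc_21_2 lc_g_rc_21_3 lc_g_rc_27_0 lc_g_rc_21_3 lc_g_Cert_tree lc_g_Cert_tree lc_g_rc_21_2 lc_g_Cert_tree lc_g_rc_27_9 lc_g_rc_27_0 lc_g_rc_24_1 lc_g_rc_21_3 lc_g_Cert_tree lc_g_rc_21_2 lc_g_Cert_tree lc_g_Cert_tree lc_g_rc_26_9 lc_g_rc_21_2 lc_g_rc_21_2 lc_g_rc_24_9 lc_g_rc_25_7 lc_g_rc_23_3 lc_g_Cert_tree lc_g_rc_21_3 lc_g_rc_23_3 lc_g_rc_26_3 lc_g_Cert_tree lc_g_rc_21_3 lc_g_rc_26_3 lc_g_rc_26_6 lc_g_rc_21_3 lc_g_Cert_tree lc_g_rc_21_3 lc_g_Cert_tree lc_g_rc_21_3 lc_g_Cert_tree lc_g_Cert_tree lc_g_rc_21_3 lc_g_Cert_tree lc_g_Cert_tree lc_g_rc_21_2 lc_g_rc_26_3 lc_g_rc_27_9 lc_g_rc_23_3 lc_g_rc_27_6 lc_g_rc_24_9 lc_g_rc_23_7 lc_g_rc_21_3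 lc_g_Cert_tree lc_g_Cert_tree lc_g_Cert_tree lc_g_rc_26_6 lc_g_rc_27_6 lc_g_rc_21_3) (@D3.rec (fun _ => (Cert rels S Gen.g)) lc_g_rc_21_2 lc_g_rc_21_2 lc_g_Cert_tree lc_g_Cert_tree lc_g_rc_26_9 lc_g_Cert_tree lc_g_rc_21_3 lc_g_rc_27_0 lc_g_rc_27_0 lc_g_Cert_tree lc_g_Cert_tree lc_g_Cert_tree lc_g_rc_26_3 lc_g_Cert_tree lc_g_Cert_tree lc_g_rc_21_3 lc_g_Cert_tree lc_g_rc_26_9 lc_g_Cert_tree lc_g_Cert_tree lc_g_rc_23_7 lc_g_rc_21_3 lc_g_rc_21_3 lc_g_Cert_tree lc_g_rc_21_2 lc_g_rc_26_6 lc_g_Cert_tree lc_g_Cert_tree lc_g_Cert_tree lc_g_rc_21_3 lc_g_rc_21_3 lc_g_rc_21_3 lc_g_rc_21_3 lc_g_Cert_tree lc_g_rc_21_3 lc_g_rc_24_9 lc_g_rc_26_6 lc_g_rc_21_2 lc_g_Cert_tree lc_g_rc_21_3 lc_g_Cert_tree lc_g_Cert_tree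 lc_g_Cert_tree lc_g_rc_21_3 lc_g_Cert_tree lc_g_Cert_tree lc_g_rc_21_2 lc_g_rc_21_3 lc_g_Cert_tree lc_g_Cert_tree lc_g_rc_21_2 lc_g_Cert_tree lc_g_rc_23_1 lc_g_rc_24_9 lc_g_rc_21_3 lc_g_rc_21_3 lc_g_rc_24_1 lc_g_rc_24_1 lc_g_rc_21_3 lc_g_Cert_tree lc_g_Cert_tree lc_g_rc_21_2) (@D3.rec (fun _ => (Cert rels S Gen.g)) lc_g_rc_21_2 lc_g_rc_21_2 lc_g_Cert_tree lc_g_Cert_tree lc_g_rc_24_9 lc_g_rc_21_2 lc_g_Cert_tree lc_g_rc_24_1 lc_g_rc_23_9 lc_g_rc_21_3 lc_g_rc_21_2 lc_g_rc_21_3 lc_g_Cert_tree lc_g_Cert_tree lc_g_Cert_tree lc_g_Cert_tree lc_g_Cert_tree lc_g_rc_26_9 lc_g_rc_27_0 lc_g_rc_26_0 lc_g_rc_21_3 lc_g_Cert_tree lc_g_rc_21_2 lc_g_Cert_tree lc_g_Cert_tree lc_g_rc_21_2 lc_g_Cert_tree lc_g_rc_26_0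 lc_g_Cert_tree lc_g_rc_23_3 lc_g_rc_26_0 lc_g_rc_26_3 lc_g_Cert_tree lc_g_rc_26_3 lc_g_rc_23_3 lc_g_Cert_tree lc_g_rc_26_0 lc_g_rc_21_2 lc_g_rc_26_6 lc_g_Cert_tree lc_g_rc_26_6 lc_g_rc_24_7 lc_g_rc_21_3 lc_g_Cert_tree lc_g_Cert_tree lc_g_rc_21_2 lc_g_Cert_tree lc_g_rc_23_7 lc_g_rc_21_3 lc_g_rc_26_3 lc_g_rc_21_2 lc_g_rc_21_3 lc_g_rc_24_7 lc_g_Cert_tree lc_g_rc_23_9 lc_g_rc_21_2 lc_g_rc_21_2 lc_g_rc_27_9 lc_g_rc_21_2 lc_g_Cert_tree lc_g_rc_21_2 lc_g_rc_26_3) (@D3.rec (fun _ => (Cert rels S Gen.g)) lc_g_rc_24_1 lc_g_Cert_tree lc_g_rc_21_3 lc_g_rc_21_2 lc_g_rc_21_3 lc_g_Cert_tree lc_g_rc_21_2 lc_g_rc_24_1 lc_g_Cert_tree lc_g_rc_26_0 lc_g_Cert_tree lc_g_rc_26_6 lc_g_rc_23_9 lc_g_rc_21_3 lc_g_Cert_tree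 lc_g_rc_27_0 lc_g_rc_21_2 lc_g_rc_24_1 lc_g_rc_21_3 lc_g_rc_21_2 lc_g_rc_25_3 lc_g_rc_21_2 lc_g_rc_21_3 lc_g_Cert_tree lc_g_rc_21_2 lc_g_Cert_tree lc_g_rc_21_3 lc_g_Cert_tree lc_g_Cert_tree lc_g_rc_21_2 lc_g_rc_21_3 lc_g_Cert_tree lc_g_Cert_tree lc_g_rc_21_2 lc_g_rc_26_6 lc_g_rc_26_6 lc_g_rc_27_0 lc_g_rc_26_3 lc_g_rc_24_9 lc_g_rc_24_3 lc_g_rc_27_0 lc_g_Cert_tree lc_g_Cert_tree lc_g_rc_21_2 lc_g_rc_21_3 lc_g_rc_27_3 lc_g_rc_23_9 lc_g_rc_24_7 lc_g_rc_23_9 lc_g_rc_24_1 lc_g_rc_27_0 lc_g_Cert_tree lc_g_Cert_tree lc_g_rc_27_3 lc_g_rc_23_9 lc_g_Cert_tree lc_g_rc_26_6 lc_g_Cert_tree lc_g_rc_24_1 lc_g_rc_26_9 lc_g_rc_24_3 lc_g_rc_26_3) (@D3.rec (fun _ => (Cert rels S Gen.g)) lc_g_rc_21_2 lc_g_Cert_tree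 lc_g_rc_26_6 lc_g_Cert_tree lc_g_Cert_tree lc_g_Cert_tree lc_g_Cert_tree lc_g_rc_21_3 lc_g_Cert_tree lc_g_Cert_tree lc_g_rc_21_2 lc_g_rc_21_3 lc_g_rc_21_2 lc_g_rc_24_1 lc_g_Cert_tree lc_g_rc_21_3 lc_g_Cert_tree lc_g_Cert_tree lc_g_rc_21_2 lc_g_rc_27_0 lc_g_Cert_tree lc_g_rc_23_7 lc_g_rc_26_9 lc_g_rc_26_0 lc_g_rc_21_3 lc_g_rc_24_9 lc_g_rc_26_9 lc_g_rc_24_3 lc_g_Cert_tree lc_g_Cert_tree lc_g_rc_26_6 lc_g_rc_26_0 lc_g_rc_24_1 lc_g_Cert_tree lc_g_Cert_tree lc_g_rc_21_3 lc_g_Cert_tree lc_g_Cert_tree lc_g_rc_21_2 lc_g_rc_21_3 lc_g_Cert_tree lc_g_Cert_tree lc_g_rc_21_2 lc_g_rc_21_3 lc_g_Cert_tree lc_g_Cert_tree lc_g_rc_21_2 lc_g_Cert_tree lc_g_rc_21_2 lc_g_rc_21_2 lc_g_Cert_tree lc_g_Cert_tree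 lc_g_Cert_tree lc_g_Cert_tree lc_g_rc_21_3 lc_g_Cert_tree lc_g_Cert_tree lc_g_rc_21_2 lc_g_rc_21_2 lc_g_Cert_tree lc_g_rc_21_3 lc_g_Cert_tree) (@D3.rec (fun _ => (Cert rels S Gen.g)) lc_g_Cert_tree lc_g_rc_21_3 lc_g_Cert_tree lc_g_Cert_tree lc_g_rc_21_2 lc_g_Cert_tree lc_g_Cert_tree lc_g_Cert_tree lc_g_rc_21_3 lc_g_rc_24_1 lc_g_rc_21_3 lc_g_Cert_tree lc_g_Cert_tree lc_g_rc_21_2 lc_g_rc_21_2 lc_g_Cert_tree lc_g_Cert_tree lc_g_rc_21_3 lc_g_Cert_tree lc_g_Cert_tree lc_g_rc_21_2 lc_g_rc_21_3 lc_g_Cert_tree lc_g_rc_21_3 lc_g_Cert_tree lc_g_Cert_tree lc_g_rc_21_2 lc_g_rc_21_3 lc_g_Cert_tree lc_g_rc_21_2 lc_g_Cert_tree lc_g_rc_21_3 lc_g_Cert_tree lc_g_Cert_tree lc_g_rc_21_2 lc_g_Cert_tree lc_g_Cert_tree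 lc_g_Cert_tree lc_g_rc_27_6 lc_g_rc_26_9 lc_g_rc_27_6 lc_g_Cert_tree lc_g_Cert_tree lc_g_rc_21_3 lc_g_Cert_tree lc_g_Cert_tree lc_g_rc_21_2 lc_g_rc_21_2 lc_g_rc_21_3 lc_g_Cert_tree lc_g_Cert_tree lc_g_rc_21_3 lc_g_rc_21_2 lc_g_rc_26_6 lc_g_Cert_tree lc_g_Cert_tree lc_g_rc_24_1 lc_g_rc_26_0 lc_g_rc_24_9 lc_g_rc_24_1 lc_g_rc_23_9 lc_g_Cert_tree) (@D3.rec (fun _ => (Cert rels S Gen.g)) lc_g_Cert_tree lc_g_Cert_tree lc_g_rc_21_3 lc_g_rc_23_9 lc_g_Cert_tree lc_g_rc_26_3 lc_g_rc_26_3 lc_g_Cert_tree lc_g_rc_24_9 lc_g_rc_21_3 lc_g_rc_26_9 lc_g_rc_21_3 lc_g_Cert_tree lc_g_rc_24_9 lc_g_Cert_tree lc_g_rc_27_3 lc_g_rc_23_1 lc_g_rc_21_2 lc_g_Cert_tree lc_g_rc_21_3 lc_g_Cert_tree lc_g_Cert_tree lc_g_rc_21_2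 lc_g_rc_21_2 lc_g_Cert_tree lc_g_rc_21_2 lc_g_rc_26_0 lc_g_Cert_tree lc_g_rc_26_6 lc_g_rc_21_2 lc_g_rc_24_1 lc_g_rc_21_3 lc_g_Cert_tree lc_g_Cert_tree lc_g_rc_24_9 lc_g_rc_24_1 lc_g_Cert_tree lc_g_rc_21_3 lc_g_rc_23_7 lc_g_rc_21_3 lc_g_Cert_tree lc_g_rc_24_7 lc_g_rc_27_0 lc_g_rc_23_7 lc_g_Cert_tree lc_g_Cert_tree lc_g_rc_23_7 lc_g_rc_21_3 lc_g_rc_21_2 lc_g_Cert_tree lc_g_Cert_tree lc_g_rc_23_9 lc_g_Cert_tree lc_g_rc_24_1 lc_g_Cert_tree lc_g_Cert_tree lc_g_rc_27_3 lc_g_rc_24_7 lc_g_rc_26_3 lc_g_rc_24_9 lc_g_Cert_tree lc_g_Cert_tree) (@D3.rec (fun _ => (Cert rels S Gen.g)) lc_g_rc_21_3 lc_g_rc_27_0 lc_g_rc_24_9 lc_g_rc_21_2 lc_g_rc_26_6 lc_g_Cert_tree lc_g_rc_24_9 lc_g_rc_23_1 lc_g_Cert_tree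 lc_g_rc_26_9 lc_g_rc_21_3 lc_g_Cert_tree lc_g_rc_27_0 lc_g_Cert_tree lc_g_rc_26_3 lc_g_Cert_tree lc_g_Cert_tree lc_g_rc_24_9 lc_g_Cert_tree lc_g_rc_21_3 lc_g_rc_23_9 lc_g_rc_27_0 lc_g_Cert_tree lc_g_rc_23_1 lc_g_rc_23_9 lc_g_rc_21_3 lc_g_rc_24_1 lc_g_Cert_tree lc_g_rc_27_9 lc_g_rc_21_3 lc_g_rc_27_9 lc_g_rc_23_3 lc_g_rc_23_9 lc_g_rc_24_3 lc_g_rc_21_3 lc_g_rc_24_9 lc_g_rc_21_2 lc_g_Cert_tree lc_g_rc_21_2 lc_g_Cert_tree lc_g_rc_24_9 lc_g_Cert_tree lc_g_rc_21_2 lc_g_rc_24_3 lc_g_Cert_tree lc_g_rc_27_9 lc_g_Cert_tree lc_g_rc_23_7 lc_g_rc_23_1 lc_g_Cert_tree lc_g_rc_27_0 lc_g_rc_27_0 lc_g_rc_21_2 lc_g_Cert_tree lc_g_rc_21_3 lc_g_Cert_tree lc_g_Cert_tree lc_g_Cert_tree lc_g_Cert_tree lc_g_rc_21_2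 lc_g_rc_27_6 lc_g_rc_21_3) (@D3.rec (fun _ => (Cert rels S Gen.g)) lc_g_rc_27_0 lc_g_rc_27_0 lc_g_rc_21_3 lc_g_Cert_tree lc_g_rc_26_0 lc_g_Cert_tree lc_g_Cert_tree lc_g_rc_21_2 lc_g_rc_21_3 lc_g_Cert_tree lc_g_rc_21_2 lc_g_Cert_tree lc_g_rc_23_3 lc_g_Cert_tree lc_g_Cert_tree lc_g_rc_21_3 lc_g_Cert_tree lc_g_Cert_tree lc_g_rc_21_2 lc_g_Cert_tree lc_g_Cert_tree lc_g_rc_23_7 lc_g_rc_21_3 lc_g_rc_23_7 lc_g_rc_27_0 lc_g_rc_21_3 lc_g_Cert_tree lc_g_Cert_tree lc_g_rc_21_2 lc_g_rc_27_9 lc_g_rc_26_0 lc_g_Cert_tree lc_g_Cert_tree lc_g_Cert_tree lc_g_Cert_tree lc_g_Cert_tree lc_g_rc_21_3 lc_g_rc_27_3 lc_g_rc_26_6 lc_g_rc_21_3 lc_g_rc_21_2 lc_g_Cert_tree lc_g_Cert_tree lc_g_rc_24_1 lc_g_rc_23_1 lc_g_rc_27_9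 lc_g_rc_23_9 lc_g_rc_26_6 lc_g_rc_25_7 lc_g_Cert_tree lc_g_Cert_tree lc_g_Cert_tree lc_g_Cert_tree lc_g_rc_21_2 lc_g_rc_23_1 lc_g_rc_26_9 lc_g_rc_23_9 lc_g_rc_21_2 lc_g_rc_21_3 lc_g_Cert_tree lc_g_rc_24_3 lc_g_Cert_tree) (@D3.rec (fun _ => (Cert rels S Gen.g)) lc_g_Cert_tree lc_g_rc_21_3 lc_g_Cert_tree lc_g_rc_21_2 lc_g_Cert_tree lc_g_Cert_tree lc_g_rc_26_6 lc_g_Cert_tree lc_g_Cert_tree lc_g_rc_21_3 lc_g_Cert_tree lc_g_Cert_tree lc_g_rc_21_2 lc_g_Cert_tree lc_g_Cert_tree lc_g_rc_26_6 lc_g_rc_23_7 lc_g_rc_21_3 lc_g_rc_21_3 lc_g_Cert_tree lc_g_Cert_tree lc_g_rc_21_2 lc_g_rc_21_2 lc_g_Cert_tree lc_g_Cert_tree lc_g_rc_26_0 lc_g_rc_21_2 lc_g_Cert_tree lc_g_rc_21_2 lc_g_Cert_tree lc_g_rc_27_6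 lc_g_rc_23_9 lc_g_Cert_tree lc_g_rc_21_3 lc_g_Cert_tree lc_g_rc_27_9 lc_g_rc_21_2 lc_g_Cert_tree lc_g_rc_24_7 lc_g_rc_24_1 lc_g_rc_26_0 lc_g_rc_23_3 lc_g_Cert_tree lc_g_rc_21_3 lc_g_Cert_tree lc_g_Cert_tree lc_g_rc_21_2 lc_g_rc_21_3 lc_g_rc_21_3 lc_g_Cert_tree lc_g_rc_21_3 lc_g_Cert_tree lc_g_rc_26_3 lc_g_Cert_tree lc_g_Cert_tree lc_g_rc_26_0 lc_g_rc_26_0 lc_g_Cert_tree lc_g_rc_26_3 lc_g_rc_21_3 lc_g_rc_21_2 lc_g_rc_23_3) (@D3.rec (fun _ => (Cert rels S Gen.g)) lc_g_rc_26_9 lc_g_rc_26_9 lc_g_rc_21_3 lc_g_rc_26_0 lc_g_Cert_tree lc_g_Cert_tree lc_g_rc_23_9 lc_g_Cert_tree lc_g_rc_21_2 lc_g_Cert_tree lc_g_rc_21_2 lc_g_rc_23_9 lc_g_rc_21_2 lc_g_Cert_tree lc_g_rc_23_7 lc_g_rc_21_2 lc_g_Cert_tree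 lc_g_rc_21_3 lc_g_Cert_tree lc_g_Cert_tree lc_g_Cert_tree lc_g_rc_21_3 lc_g_Cert_tree lc_g_rc_27_3 lc_g_rc_24_7 lc_g_rc_21_3 lc_g_rc_21_3 lc_g_Cert_tree lc_g_rc_23_9 lc_g_Cert_tree lc_g_rc_21_2 lc_g_rc_21_3 lc_g_rc_21_2 lc_g_rc_27_6 lc_g_Cert_tree lc_g_rc_23_7 lc_g_Cert_tree lc_g_rc_21_3 lc_g_Cert_tree lc_g_rc_21_2 lc_g_Cert_tree lc_g_rc_27_6 lc_g_Cert_tree lc_g_rc_21_3 lc_g_rc_24_3 lc_g_rc_26_3 lc_g_rc_26_6 lc_g_rc_26_9 lc_g_rc_24_1 lc_g_rc_26_3 lc_g_rc_26_0 lc_g_rc_23_9 lc_g_rc_21_3 lc_g_Cert_tree lc_g_rc_26_9 lc_g_rc_21_2 lc_g_rc_27_9 lc_g_rc_23_1 lc_g_Cert_tree lc_g_rc_24_1 lc_g_Cert_tree lc_g_rc_26_3) (@D3.rec (fun _ => (Cert rels S Gen.g)) lc_g_rc_24_1 lc_g_Cert_tree lc_g_rc_26_0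 lc_g_Cert_tree lc_g_Cert_tree lc_g_rc_21_3 lc_g_Cert_tree lc_g_Cert_tree lc_g_rc_24_9 lc_g_rc_21_2 lc_g_Cert_tree lc_g_rc_26_0 lc_g_Cert_tree lc_g_rc_24_9 lc_g_rc_24_9 lc_g_rc_24_9 lc_g_rc_21_2 lc_g_Cert_tree lc_g_rc_21_3 lc_g_rc_23_1 lc_g_rc_21_2 lc_g_rc_23_9 lc_g_rc_26_3 lc_g_rc_21_2 lc_g_rc_23_9 lc_g_rc_24_1 lc_g_rc_24_1 lc_g_rc_27_6 lc_g_Cert_tree lc_g_Cert_tree lc_g_Cert_tree lc_g_rc_26_6 lc_g_rc_21_3 lc_g_Cert_tree lc_g_rc_23_7 lc_g_Cert_tree lc_g_rc_21_2 lc_g_rc_26_6 lc_g_Cert_tree lc_g_Cert_tree lc_g_Cert_tree lc_g_rc_21_3 lc_g_Cert_tree lc_g_rc_26_3 lc_g_rc_26_6 lc_g_Cert_tree lc_g_rc_21_3 lc_g_Cert_tree lc_g_Cert_tree lc_g_Cert_tree lc_g_rc_27_3 lc_g_rc_26_6 lc_g_rc_23_7 lc_g_rc_21_3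 lc_g_rc_23_3 lc_g_rc_24_1 lc_g_rc_27_6 lc_g_rc_21_2 lc_g_rc_21_3 lc_g_Cert_tree lc_g_Cert_tree lc_g_Cert_tree) (@D3.rec (fun _ => (Cert rels S Gen.g)) lc_g_rc_21_3 lc_g_Cert_tree lc_g_rc_21_2 lc_g_rc_24_9 lc_g_Cert_tree lc_g_rc_26_3 lc_g_rc_26_6 lc_g_rc_21_3 lc_g_rc_21_3 lc_g_Cert_tree lc_g_rc_26_3 lc_g_rc_21_2 lc_g_rc_26_6 lc_g_rc_27_0 lc_g_rc_24_9 lc_g_rc_26_6 lc_g_rc_24_3 lc_g_Cert_tree lc_g_Cert_tree lc_g_rc_27_3 lc_g_rc_24_1 lc_g_rc_27_0 lc_g_rc_24_9 lc_g_rc_26_0 lc_g_rc_21_3 lc_g_Cert_tree lc_g_Cert_tree lc_g_rc_21_3 lc_g_rc_24_7 lc_g_Cert_tree lc_g_rc_21_3 lc_g_Cert_tree lc_g_Cert_tree lc_g_Cert_tree lc_g_rc_26_3 lc_g_Cert_tree lc_g_rc_24_3 lc_g_Cert_tree lc_g_rc_21_3 lc_g_Cert_tree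 lc_g_rc_21_2 lc_g_rc_27_0 lc_g_Cert_tree lc_g_rc_21_2 lc_g_rc_21_3 lc_g_Cert_tree lc_g_rc_21_2 lc_g_rc_27_6 lc_g_rc_21_3 lc_g_rc_21_3 lc_g_Cert_tree lc_g_rc_26_6 lc_g_rc_21_3 lc_g_rc_21_3 lc_g_Cert_tree lc_g_rc_21_2 lc_g_rc_21_2 lc_g_rc_21_2 lc_g_rc_26_6 lc_g_Cert_tree lc_g_rc_23_7 lc_g_rc_23_3) (@D3.rec (fun _ => (Cert rels S Gen.g)) lc_g_rc_27_0 lc_g_rc_26_0 lc_g_rc_21_2 lc_g_rc_24_1 lc_g_rc_24_1 lc_g_Cert_tree lc_g_rc_21_3 lc_g_Cert_tree lc_g_rc_24_3 lc_g_Cert_tree lc_g_rc_21_2 lc_g_rc_21_3 lc_g_rc_21_2 lc_g_rc_21_3 lc_g_Cert_tree lc_g_rc_21_2 lc_g_Cert_tree lc_g_rc_24_9 lc_g_rc_26_9 lc_g_rc_26_0 lc_g_Cert_tree lc_g_rc_26_0 lc_g_rc_21_2 lc_g_Cert_tree lc_g_rc_24_3 lc_g_rc_25_19 lc_g_rc_21_3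 lc_g_rc_26_0 lc_g_rc_26_0 lc_g_rc_21_3 lc_g_rc_27_6 lc_g_rc_21_3 lc_g_rc_21_2 lc_g_rc_27_6 lc_g_rc_24_3 lc_g_rc_21_3 lc_g_Cert_tree lc_g_rc_23_3 lc_g_rc_21_2 lc_g_rc_21_2 lc_g_Cert_tree lc_g_rc_23_1 lc_g_Cert_tree lc_g_rc_24_9 lc_g_rc_26_0 lc_g_rc_21_3 lc_g_rc_26_0 lc_g_rc_21_3 lc_g_rc_21_3 lc_g_Cert_tree lc_g_rc_21_3 lc_g_Cert_tree lc_g_rc_21_2 lc_g_Cert_tree lc_g_rc_27_9 lc_g_rc_23_1 lc_g_Cert_tree lc_g_rc_27_9 lc_g_rc_27_6 lc_g_Cert_tree lc_g_rc_23_1 lc_g_Cert_tree)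
def ce_g_4 : D2 → D3 → (Cert rels S Gen.g) := @D2.rec (fun _ => D3 → (Cert rels S Gen.g)) (@D3.rec (fun _ => (Cert rels S Gen.g)) lc_g_rc_27_0 lc_g_rc_24_9 lc_g_rc_23_9 lc_g_rc_21_2 lc_g_Cert_tree lc_g_rc_23_3 lc_g_rc_23_7 lc_g_rc_21_2 lc_g_rc_21_2 lc_g_rc_23_7 lc_g_Cert_tree lc_g_rc_21_3 lc_g_Cert_tree lc_g_rc_21_2 lc_g_rc_21_3 lc_g_rc_24_9 lc_g_rc_27_3 lc_g_Cert_tree lc_g_Cert_tree lc_g_rc_23_3 lc_g_rc_21_2 lc_g_rc_21_2 lc_g_Cert_tree lc_g_rc_24_9 lc_g_rc_27_0 lc_g_Cert_tree lc_g_Cert_tree lc_g_rc_26_3 lc_g_Cert_tree lc_g_rc_26_6 lc_g_rc_23_3 lc_g_Cert_tree lc_g_rc_23_3 lc_g_rc_21_2 lc_g_rc_21_3 lc_g_Cert_tree lc_g_rc_21_2 lc_g_rc_25_15 lc_g_rc_27_3 lc_g_rc_21_2 lc_g_rc_26_3 lc_g_Cert_tree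 lc_g_rc_24_7 lc_g_Cert_tree lc_g_rc_26_0 lc_g_rc_21_2 lc_g_rc_26_6 lc_g_rc_21_2 lc_g_Cert_tree lc_g_rc_21_3 lc_g_Cert_tree lc_g_Cert_tree lc_g_rc_25_3 lc_g_rc_27_6 lc_g_rc_21_2 lc_g_rc_21_3 lc_g_Cert_tree lc_g_rc_21_2 lc_g_Cert_tree lc_g_Cert_tree lc_g_rc_21_2 lc_g_rc_23_3) (@D3.rec (fun _ => (Cert rels S Gen.g)) lc_g_rc_26_9 lc_g_rc_21_3 lc_g_rc_26_3 lc_g_rc_21_2 lc_g_rc_21_3 lc_g_rc_24_7 lc_g_Cert_tree lc_g_rc_24_7 lc_g_Cert_tree lc_g_Cert_tree lc_g_Cert_tree lc_g_Cert_tree lc_g_rc_24_1 lc_g_Cert_tree lc_g_rc_24_7 lc_g_rc_23_1 lc_g_Cert_tree lc_g_rc_21_3 lc_g_rc_27_6 lc_g_rc_24_9 lc_g_Cert_tree lc_g_rc_21_3 lc_g_rc_21_3 lc_g_Cert_tree lc_g_rc_27_3 lc_g_rc_21_3 lc_g_rc_24_1 lc_g_rc_27_6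 lc_g_rc_23_1 lc_g_Cert_tree lc_g_rc_26_6 lc_g_rc_24_1 lc_g_rc_23_1 lc_g_rc_24_9 lc_g_rc_21_3 lc_g_Cert_tree lc_g_rc_21_2 lc_g_Cert_tree lc_g_rc_21_2 lc_g_Cert_tree lc_g_Cert_tree lc_g_rc_24_1 lc_g_rc_27_3 lc_g_rc_24_9 lc_g_Cert_tree lc_g_rc_23_3 lc_g_rc_21_3 lc_g_rc_21_3 lc_g_rc_24_1 lc_g_rc_27_3 lc_g_rc_24_7 lc_g_Cert_tree lc_g_rc_21_3 lc_g_Cert_tree lc_g_Cert_tree lc_g_Cert_tree lc_g_rc_21_2 lc_g_rc_21_2 lc_g_rc_24_3 lc_g_Cert_tree lc_g_rc_24_1 lc_g_Cert_tree) (@D3.rec (fun _ => (Cert rels S Gen.g)) lc_g_rc_24_7 lc_g_rc_23_1 lc_g_rc_23_1 lc_g_rc_21_3 lc_g_rc_24_9 lc_g_Cert_tree lc_g_rc_26_0 lc_g_rc_21_3 lc_g_rc_27_3 lc_g_rc_23_1 lc_g_rc_23_9 lc_g_rc_27_6 lc_g_Cert_tree lc_g_rc_24_1 lc_g_rc_24_1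 lc_g_rc_26_3 lc_g_rc_21_3 lc_g_Cert_tree lc_g_rc_27_6 lc_g_Cert_tree lc_g_rc_21_3 lc_g_rc_21_3 lc_g_Cert_tree lc_g_rc_21_2 lc_g_Cert_tree lc_g_rc_21_2 lc_g_rc_26_3 lc_g_Cert_tree lc_g_Cert_tree lc_g_Cert_tree lc_g_rc_23_3 lc_g_rc_21_2 lc_g_Cert_tree lc_g_rc_24_1 lc_g_Cert_tree lc_g_rc_21_2 lc_g_rc_21_2 lc_g_Cert_tree lc_g_Cert_tree lc_g_Cert_tree lc_g_rc_23_3 lc_g_rc_21_2 lc_g_Cert_tree lc_g_rc_21_2 lc_g_rc_27_6 lc_g_rc_21_2 lc_g_rc_27_0 lc_g_rc_21_2 lc_g_rc_21_2 lc_g_rc_24_1 lc_g_Cert_tree lc_g_rc_21_3 lc_g_Cert_tree lc_g_Cert_tree lc_g_Cert_tree lc_g_rc_21_2 lc_g_Cert_tree lc_g_rc_24_3 lc_g_Cert_tree lc_g_rc_24_1 lc_g_Cert_tree lc_g_Cert_tree) (@D3.rec (fun _ => (Cert rels S Gen.g)) lc_g_rc_21_2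 lc_g_rc_26_6 lc_g_rc_23_1 lc_g_rc_24_9 lc_g_Cert_tree lc_g_rc_23_1 lc_g_rc_23_9 lc_g_rc_23_3 lc_g_rc_24_7 lc_g_rc_24_1 lc_g_Cert_tree lc_g_rc_23_1 lc_g_Cert_tree lc_g_rc_21_3 lc_g_Cert_tree lc_g_Cert_tree lc_g_rc_23_7 lc_g_rc_26_9 lc_g_rc_21_2 lc_g_Cert_tree lc_g_Cert_tree lc_g_rc_26_0 lc_g_Cert_tree lc_g_rc_27_0 lc_g_rc_24_7 lc_g_Cert_tree lc_g_rc_24_3 lc_g_rc_27_6 lc_g_Cert_tree lc_g_Cert_tree lc_g_rc_21_3 lc_g_Cert_tree lc_g_Cert_tree lc_g_rc_21_2 lc_g_rc_24_7 lc_g_rc_24_1 lc_g_rc_21_2 lc_g_rc_23_9 lc_g_rc_23_9 lc_g_Cert_tree lc_g_rc_24_7 lc_g_Cert_tree lc_g_rc_21_3 lc_g_Cert_tree lc_g_rc_27_3 lc_g_rc_26_6 lc_g_Cert_tree lc_g_rc_21_2 lc_g_rc_21_3 lc_g_Cert_tree lc_g_Cert_tree lc_g_rc_21_2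 lc_g_rc_24_7 lc_g_Cert_tree lc_g_rc_26_6 lc_g_Cert_tree lc_g_Cert_tree lc_g_rc_21_3 lc_g_Cert_tree lc_g_rc_27_6 lc_g_rc_21_2 lc_g_rc_21_2) (@D3.rec (fun _ => (Cert rels S Gen.g)) lc_g_rc_26_3 lc_g_Cert_tree lc_g_Cert_tree lc_g_Cert_tree lc_g_rc_21_3 lc_g_Cert_tree lc_g_rc_21_2 lc_g_Cert_tree lc_g_rc_21_2 lc_g_Cert_tree lc_g_rc_27_6 lc_g_Cert_tree lc_g_Cert_tree lc_g_rc_26_0 lc_g_Cert_tree lc_g_rc_26_6 lc_g_Cert_tree lc_g_Cert_tree lc_g_rc_21_3 lc_g_Cert_tree lc_g_rc_24_7 lc_g_Cert_tree lc_g_rc_23_1 lc_g_rc_23_1 lc_g_rc_27_6 lc_g_Cert_tree lc_g_rc_27_6 lc_g_rc_21_3 lc_g_Cert_tree lc_g_Cert_tree lc_g_rc_27_0 lc_g_rc_27_0 lc_g_rc_27_3 lc_g_rc_24_3 lc_g_rc_27_0 lc_g_rc_23_7 lc_g_rc_21_2 lc_g_Cert_tree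 lc_g_rc_27_0 lc_g_Cert_tree lc_g_rc_21_2 lc_g_rc_21_3 lc_g_Cert_tree lc_g_Cert_tree lc_g_rc_21_2 lc_g_rc_21_2 lc_g_rc_24_3 lc_g_Cert_tree lc_g_rc_27_0 lc_g_rc_24_1 lc_g_rc_27_6 lc_g_rc_21_2 lc_g_Cert_tree lc_g_Cert_tree lc_g_rc_21_3 lc_g_rc_26_6 lc_g_rc_26_6 lc_g_rc_23_3 lc_g_Cert_tree lc_g_rc_23_3 lc_g_rc_23_7 lc_g_rc_24_9) (@D3.rec (fun _ => (Cert rels S Gen.g)) lc_g_Cert_tree lc_g_rc_21_2 lc_g_rc_26_6 lc_g_rc_27_3 lc_g_rc_21_3 lc_g_rc_21_2 lc_g_rc_21_2 lc_g_rc_26_6 lc_g_rc_26_6 lc_g_rc_26_6 lc_g_rc_26_9 lc_g_rc_23_9 lc_g_Cert_tree lc_g_Cert_tree lc_g_Cert_tree lc_g_rc_24_1 lc_g_rc_26_6 lc_g_rc_21_3 lc_g_Cert_tree lc_g_Cert_tree lc_g_rc_21_3 lc_g_rc_23_1 lc_g_Cert_tree lc_g_rc_21_3 lc_g_Cert_tree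 lc_g_Cert_tree lc_g_rc_21_2 lc_g_Cert_tree lc_g_Cert_tree lc_g_rc_21_3 lc_g_Cert_tree lc_g_rc_21_2 lc_g_rc_27_0 lc_g_rc_27_0 lc_g_rc_21_2 lc_g_Cert_tree lc_g_rc_26_6 lc_g_Cert_tree lc_g_rc_21_3 lc_g_Cert_tree lc_g_rc_21_2 lc_g_rc_21_2 lc_g_Cert_tree lc_g_rc_27_9 lc_g_Cert_tree lc_g_rc_21_2 lc_g_rc_27_6 lc_g_rc_21_2 lc_g_rc_21_2 lc_g_rc_27_0 lc_g_Cert_tree lc_g_rc_27_3 lc_g_rc_26_6 lc_g_rc_26_0 lc_g_rc_26_9 lc_g_rc_23_1 lc_g_rc_24_1 lc_g_rc_21_3 lc_g_Cert_tree lc_g_rc_21_3 lc_g_Cert_tree lc_g_rc_26_3) (@D3.rec (fun _ => (Cert rels S Gen.g)) lc_g_Cert_tree lc_g_rc_21_2 lc_g_rc_23_9 lc_g_rc_23_9 lc_g_rc_21_3 lc_g_Cert_tree lc_g_rc_21_2 lc_g_Cert_tree lc_g_rc_24_9 lc_g_rc_21_3 lc_g_Cert_tree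 lc_g_rc_26_3 lc_g_rc_23_7 lc_g_rc_24_1 lc_g_rc_21_3 lc_g_rc_21_2 lc_g_rc_21_2 lc_g_rc_27_9 lc_g_rc_24_1 lc_g_rc_24_9 lc_g_Cert_tree lc_g_rc_27_6 lc_g_rc_23_9 lc_g_Cert_tree lc_g_Cert_tree lc_g_Cert_tree lc_g_Cert_tree lc_g_rc_27_0 lc_g_rc_26_6 lc_g_rc_27_0 lc_g_rc_26_3 lc_g_rc_21_3 lc_g_rc_26_6 lc_g_Cert_tree lc_g_Cert_tree lc_g_rc_27_3 lc_g_rc_24_7 lc_g_rc_26_0 lc_g_rc_21_3 lc_g_Cert_tree lc_g_Cert_tree lc_g_Cert_tree lc_g_rc_26_9 lc_g_Cert_tree lc_g_rc_24_3 lc_g_rc_27_6 lc_g_rc_27_3 lc_g_Cert_tree lc_g_rc_21_2 lc_g_rc_23_1 lc_g_Cert_tree lc_g_rc_27_0 lc_g_Cert_tree lc_g_rc_21_3 lc_g_rc_26_3 lc_g_Cert_tree lc_g_rc_21_3 lc_g_Cert_tree lc_g_rc_21_2 lc_g_Cert_tree lc_g_Cert_tree lc_g_rc_21_2)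 (@D3.rec (fun _ => (Cert rels S Gen.g)) lc_g_Cert_tree lc_g_rc_26_3 lc_g_Cert_tree lc_g_rc_26_9 lc_g_rc_21_3 lc_g_rc_23_7 lc_g_rc_21_2 lc_g_rc_23_9 lc_g_rc_26_0 lc_g_rc_21_3 lc_g_rc_21_2 lc_g_rc_26_6 lc_g_rc_26_9 lc_g_rc_23_3 lc_g_rc_26_9 lc_g_rc_23_3 lc_g_rc_21_3 lc_g_Cert_tree lc_g_rc_21_3 lc_g_rc_27_3 lc_g_rc_21_2 lc_g_rc_27_3 lc_g_Cert_tree lc_g_rc_26_0 lc_g_rc_23_9 lc_g_rc_21_3 lc_g_Cert_tree lc_g_rc_21_2 lc_g_Cert_tree lc_g_rc_24_1 lc_g_rc_23_7 lc_g_rc_24_1 lc_g_rc_24_1 lc_g_rc_21_3 lc_g_Cert_tree lc_g_rc_21_2 lc_g_rc_21_2 lc_g_rc_26_3 lc_g_Cert_tree lc_g_rc_24_7 lc_g_rc_27_6 lc_g_rc_21_3 lc_g_Cert_tree lc_g_Cert_tree lc_g_Cert_tree lc_g_rc_21_2 lc_g_rc_21_2 lc_g_rc_23_3 lc_g_Cert_tree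 lc_g_rc_21_3 lc_g_Cert_tree lc_g_rc_21_2 lc_g_rc_21_2 lc_g_rc_24_1 lc_g_Cert_tree lc_g_Cert_tree lc_g_rc_26_3 lc_g_rc_21_2 lc_g_rc_24_1 lc_g_Cert_tree lc_g_rc_21_3 lc_g_rc_27_0) (@D3.rec (fun _ => (Cert rels S Gen.g)) lc_g_rc_24_7 lc_g_Cert_tree lc_g_rc_21_3 lc_g_Cert_tree lc_g_Cert_tree lc_g_Cert_tree lc_g_rc_21_2 lc_g_rc_27_3 lc_g_rc_23_3 lc_g_rc_26_3 lc_g_rc_24_9 lc_g_rc_27_6 lc_g_Cert_tree lc_g_rc_24_9 lc_g_rc_21_2 lc_g_rc_24_1 lc_g_Cert_tree lc_g_rc_26_6 lc_g_rc_24_7 lc_g_rc_24_1 lc_g_rc_24_7 lc_g_Cert_tree lc_g_rc_21_3 lc_g_Cert_tree lc_g_Cert_tree lc_g_Cert_tree lc_g_rc_21_2 lc_g_rc_21_2 lc_g_Cert_tree lc_g_rc_26_3 lc_g_Cert_tree lc_g_rc_23_3 lc_g_rc_27_3 lc_g_Cert_tree lc_g_rc_24_9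 lc_g_Cert_tree lc_g_Cert_tree lc_g_rc_21_3 lc_g_rc_24_7 lc_g_Cert_tree lc_g_rc_23_1 lc_g_rc_27_3 lc_g_rc_24_9 lc_g_Cert_tree lc_g_Cert_tree lc_g_Cert_tree lc_g_Cert_tree lc_g_rc_21_3 lc_g_Cert_tree lc_g_Cert_tree lc_g_rc_21_2 lc_g_rc_24_3 lc_g_rc_24_1 lc_g_rc_27_3 lc_g_rc_21_2 lc_g_rc_26_6 lc_g_rc_26_3 lc_g_rc_26_0 lc_g_Cert_tree lc_g_rc_26_3 lc_g_Cert_tree lc_g_rc_27_0) (@D3.rec (fun _ => (Cert rels S Gen.g)) lc_g_rc_24_9 lc_g_rc_24_7 lc_g_rc_24_1 lc_g_Cert_tree lc_g_rc_24_1 lc_g_rc_27_3 lc_g_rc_26_3 lc_g_Cert_tree lc_g_rc_23_3 lc_g_Cert_tree lc_g_rc_27_9 lc_g_Cert_tree lc_g_Cert_tree lc_g_rc_21_2 lc_g_rc_23_1 lc_g_rc_26_3 lc_g_rc_27_6 lc_g_Cert_tree lc_g_rc_26_9 lc_g_Cert_tree lc_g_Cert_tree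 lc_g_Cert_tree lc_g_Cert_tree lc_g_rc_27_0 lc_g_Cert_tree lc_g_rc_27_0 lc_g_Cert_tree lc_g_rc_27_3 lc_g_rc_21_2 lc_g_rc_21_2 lc_g_rc_26_3 lc_g_Cert_tree lc_g_Cert_tree lc_g_rc_23_3 lc_g_Cert_tree lc_g_rc_23_7 lc_g_rc_21_3 lc_g_Cert_tree lc_g_rc_26_6 lc_g_rc_27_0 lc_g_Cert_tree lc_g_rc_21_3 lc_g_Cert_tree lc_g_rc_21_2 lc_g_Cert_tree lc_g_rc_21_2 lc_g_rc_21_2 lc_g_Cert_tree lc_g_Cert_tree lc_g_rc_21_2 lc_g_Cert_tree lc_g_rc_21_2 lc_g_rc_21_3 lc_g_Cert_tree lc_g_rc_21_2 lc_g_Cert_tree lc_g_rc_21_2 lc_g_Cert_tree lc_g_rc_21_3 lc_g_Cert_tree lc_g_rc_21_2 lc_g_Cert_tree) (@D3.rec (fun _ => (Cert rels S Gen.g)) lc_g_rc_21_2 lc_g_Cert_tree lc_g_Cert_tree lc_g_rc_21_2 lc_g_rc_21_3 lc_g_rc_23_1 lc_g_rc_26_3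 lc_g_Cert_tree lc_g_rc_21_3 lc_g_rc_27_3 lc_g_rc_24_1 lc_g_rc_24_7 lc_g_Cert_tree lc_g_rc_26_3 lc_g_rc_27_3 lc_g_rc_24_7 lc_g_Cert_tree lc_g_Cert_tree lc_g_Cert_tree lc_g_Cert_tree lc_g_rc_21_3 lc_g_Cert_tree lc_g_rc_21_2 lc_g_Cert_tree lc_g_rc_27_6 lc_g_rc_27_6 lc_g_rc_27_6 lc_g_rc_21_3 lc_g_Cert_tree lc_g_rc_21_2 lc_g_rc_21_3 lc_g_rc_24_3 lc_g_Cert_tree lc_g_rc_21_2 lc_g_rc_27_0 lc_g_rc_27_0 lc_g_rc_24_9 lc_g_rc_21_2 lc_g_rc_26_0 lc_g_rc_26_3 lc_g_rc_27_6 lc_g_rc_21_3 lc_g_rc_26_3 lc_g_rc_27_6 lc_g_rc_24_3 lc_g_Cert_tree lc_g_Cert_tree lc_g_Cert_tree lc_g_Cert_tree lc_g_rc_21_2 lc_g_Cert_tree lc_g_rc_21_2 lc_g_rc_24_3 lc_g_rc_21_3 lc_g_Cert_tree lc_g_rc_21_2 lc_g_rc_21_2 lc_g_rc_24_3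 lc_g_rc_21_3 lc_g_Cert_tree lc_g_Cert_tree lc_g_rc_21_2) (@D3.rec (fun _ => (Cert rels S Gen.g)) lc_g_Cert_tree lc_g_rc_24_3 lc_g_Cert_tree lc_g_rc_24_3 lc_g_Cert_tree lc_g_Cert_tree lc_g_Cert_tree lc_g_Cert_tree lc_g_rc_21_3 lc_g_Cert_tree lc_g_rc_27_6 lc_g_rc_21_2 lc_g_rc_21_3 lc_g_Cert_tree lc_g_rc_21_2 lc_g_rc_26_0 lc_g_rc_21_3 lc_g_Cert_tree lc_g_Cert_tree lc_g_rc_21_2 lc_g_rc_21_3 lc_g_rc_27_9 lc_g_rc_27_3 lc_g_rc_27_6 lc_g_rc_24_3 lc_g_Cert_tree lc_g_rc_24_7 lc_g_Cert_tree lc_g_Cert_tree lc_g_Cert_tree lc_g_Cert_tree lc_g_rc_21_3 lc_g_Cert_tree lc_g_rc_21_2 lc_g_rc_21_3 lc_g_Cert_tree lc_g_rc_21_2 lc_g_rc_26_0 lc_g_rc_27_3 lc_g_rc_23_1 lc_g_rc_27_0 lc_g_rc_27_3 lc_g_rc_21_3 lc_g_Cert_tree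 lc_g_rc_21_2 lc_g_Cert_tree lc_g_rc_21_2 lc_g_rc_26_9 lc_g_rc_24_1 lc_g_Cert_tree lc_g_Cert_tree lc_g_Cert_tree lc_g_rc_21_3 lc_g_Cert_tree lc_g_rc_21_2 lc_g_rc_21_2 lc_g_rc_27_6 lc_g_rc_21_2 lc_g_rc_21_3 lc_g_Cert_tree lc_g_Cert_tree lc_g_Cert_tree) (@D3.rec (fun _ => (Cert rels S Gen.g)) lc_g_Cert_tree lc_g_rc_21_3 lc_g_rc_21_3 lc_g_rc_27_0 lc_g_rc_26_3 lc_g_rc_27_9 lc_g_rc_27_9 lc_g_rc_26_6 lc_g_rc_27_0 lc_g_rc_24_3 lc_g_rc_26_6 lc_g_rc_24_9 lc_g_rc_21_2 lc_g_Cert_tree lc_g_rc_21_2 lc_g_Cert_tree lc_g_Cert_tree lc_g_rc_21_2 lc_g_rc_26_0 lc_g_rc_24_7 lc_g_Cert_tree lc_g_rc_27_9 lc_g_rc_23_1 lc_g_rc_27_3 lc_g_rc_21_3 lc_g_Cert_tree lc_g_Cert_tree lc_g_Cert_tree lc_g_Cert_tree lc_g_rc_21_3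 lc_g_Cert_tree lc_g_rc_21_2 lc_g_rc_26_3 lc_g_rc_27_0 lc_g_rc_26_6 lc_g_rc_24_7 lc_g_Cert_tree lc_g_rc_25_7 lc_g_Cert_tree lc_g_rc_21_3 lc_g_Cert_tree lc_g_rc_21_2 lc_g_rc_24_3 lc_g_rc_27_0 lc_g_rc_21_3 lc_g_rc_27_6 lc_g_rc_27_6 lc_g_Cert_tree lc_g_rc_23_9 lc_g_rc_24_7 lc_g_rc_21_3 lc_g_rc_24_7 lc_g_rc_27_0 lc_g_rc_23_1 lc_g_rc_24_7 lc_g_rc_27_9 lc_g_rc_26_3 lc_g_rc_21_2 lc_g_rc_26_9 lc_g_rc_21_2 lc_g_rc_21_3 lc_g_rc_21_2) (@D3.rec (fun _ => (Cert rels S Gen.g)) lc_g_rc_24_7 lc_g_Cert_tree lc_g_rc_27_6 lc_g_rc_24_3 lc_g_rc_26_3 lc_g_rc_27_3 lc_g_rc_24_7 lc_g_Cert_tree lc_g_Cert_tree lc_g_Cert_tree lc_g_Cert_tree lc_g_rc_21_3 lc_g_rc_21_2 lc_g_rc_26_0 lc_g_rc_26_9 lc_g_rc_27_0 lc_g_rc_27_6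 lc_g_Cert_tree lc_g_rc_27_6 lc_g_rc_21_2 lc_g_rc_24_9 lc_g_rc_26_3 lc_g_rc_24_3 lc_g_rc_24_9 lc_g_rc_24_9 lc_g_rc_21_2 lc_g_Cert_tree lc_g_Cert_tree lc_g_Cert_tree lc_g_Cert_tree lc_g_rc_21_2 lc_g_Cert_tree lc_g_rc_21_3 lc_g_rc_23_3 lc_g_Cert_tree lc_g_rc_23_7 lc_g_Cert_tree lc_g_rc_27_9 lc_g_rc_24_7 lc_g_rc_21_3 lc_g_rc_21_2 lc_g_rc_21_2 lc_g_rc_26_6 lc_g_rc_21_2 lc_g_rc_24_1 lc_g_rc_21_2 lc_g_Cert_tree lc_g_rc_21_2 lc_g_rc_21_2 lc_g_rc_23_7 lc_g_rc_24_7 lc_g_rc_21_3 lc_g_rc_21_3 lc_g_rc_21_2 lc_g_rc_21_3 lc_g_Cert_tree lc_g_rc_26_9 lc_g_rc_24_1 lc_g_rc_27_9 lc_g_rc_24_7 lc_g_rc_27_3 lc_g_rc_26_9) (@D3.rec (fun _ => (Cert rels S Gen.g)) lc_g_Cert_tree lc_g_rc_26_0 lc_g_rc_23_3 lc_g_rc_26_0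 lc_g_rc_23_7 lc_g_rc_24_3 lc_g_rc_24_7 lc_g_rc_26_6 lc_g_rc_27_0 lc_g_rc_24_7 lc_g_Cert_tree lc_g_rc_26_6 lc_g_rc_24_7 lc_g_Cert_tree lc_g_Cert_tree lc_g_Cert_tree lc_g_rc_23_3 lc_g_rc_26_9 lc_g_Cert_tree lc_g_rc_24_9 lc_g_Cert_tree lc_g_rc_26_3 lc_g_Cert_tree lc_g_Cert_tree lc_g_rc_27_3 lc_g_rc_21_2 lc_g_rc_21_2 lc_g_Cert_tree lc_g_Cert_tree lc_g_rc_21_3 lc_g_Cert_tree lc_g_Cert_tree lc_g_rc_27_0 lc_g_rc_24_3 lc_g_rc_26_3 lc_g_Cert_tree lc_g_Cert_tree lc_g_Cert_tree lc_g_rc_21_3 lc_g_Cert_tree lc_g_rc_27_3 lc_g_rc_21_2 lc_g_Cert_tree lc_g_rc_21_3 lc_g_Cert_tree lc_g_rc_21_2 lc_g_Cert_tree lc_g_Cert_tree lc_g_rc_21_3 lc_g_Cert_tree lc_g_rc_26_6 lc_g_Cert_tree lc_g_rc_27_6 lc_g_rc_21_3 lc_g_Cert_tree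 lc_g_rc_21_2 lc_g_Cert_tree lc_g_rc_26_9 lc_g_Cert_tree lc_g_rc_21_3 lc_g_Cert_tree lc_g_Cert_tree) (@D3.rec (fun _ => (Cert rels S Gen.g)) lc_g_Cert_tree lc_g_rc_21_2 lc_g_Cert_tree lc_g_rc_24_9 lc_g_rc_21_3 lc_g_rc_26_3 lc_g_rc_21_2 lc_g_rc_24_1 lc_g_rc_21_3 lc_g_rc_21_3 lc_g_rc_27_0 lc_g_rc_24_7 lc_g_Cert_tree lc_g_rc_21_3 lc_g_Cert_tree lc_g_Cert_tree lc_g_Cert_tree lc_g_rc_21_2 lc_g_rc_27_6 lc_g_rc_27_3 lc_g_rc_24_1 lc_g_Cert_tree lc_g_rc_24_7 lc_g_rc_27_6 lc_g_rc_26_9 lc_g_Cert_tree lc_g_rc_21_2 lc_g_Cert_tree lc_g_rc_27_3 lc_g_rc_24_7 lc_g_Cert_tree lc_g_rc_21_3 lc_g_Cert_tree lc_g_Cert_tree lc_g_Cert_tree lc_g_rc_21_2 lc_g_rc_21_2 lc_g_rc_24_7 lc_g_Cert_tree lc_g_rc_24_3 lc_g_rc_27_6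 lc_g_rc_24_7 lc_g_Cert_tree lc_g_Cert_tree lc_g_Cert_tree lc_g_Cert_tree lc_g_rc_21_3 lc_g_Cert_tree lc_g_Cert_tree lc_g_rc_21_2 lc_g_rc_24_7 lc_g_rc_24_9 lc_g_rc_26_0 lc_g_rc_26_0 lc_g_rc_26_3 lc_g_Cert_tree lc_g_rc_23_1 lc_g_rc_21_2 lc_g_Cert_tree lc_g_Cert_tree lc_g_rc_23_1 lc_g_Cert_tree) (@D3.rec (fun _ => (Cert rels S Gen.g)) lc_g_rc_21_3 lc_g_Cert_tree lc_g_rc_21_2 lc_g_rc_21_2 lc_g_Cert_tree lc_g_Cert_tree lc_g_Cert_tree lc_g_Cert_tree lc_g_rc_21_3 lc_g_Cert_tree lc_g_rc_27_3 lc_g_rc_21_2 lc_g_rc_26_3 lc_g_Cert_tree lc_g_Cert_tree lc_g_rc_21_2 lc_g_Cert_tree lc_g_rc_21_3 lc_g_Cert_tree lc_g_rc_26_6 lc_g_rc_27_6 lc_g_Cert_tree lc_g_rc_21_3 lc_g_Cert_tree lc_g_rc_27_6 lc_g_Cert_tree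 lc_g_rc_23_1 lc_g_rc_23_7 lc_g_rc_26_9 lc_g_rc_21_3 lc_g_Cert_tree lc_g_rc_21_2 lc_g_Cert_tree lc_g_rc_21_3 lc_g_Cert_tree lc_g_rc_21_2 lc_g_Cert_tree lc_g_rc_21_2 lc_g_Cert_tree lc_g_rc_21_3 lc_g_Cert_tree lc_g_rc_26_6 lc_g_rc_24_3 lc_g_Cert_tree lc_g_rc_26_3 lc_g_Cert_tree lc_g_rc_24_7 lc_g_Cert_tree lc_g_rc_24_7 lc_g_rc_26_3 lc_g_rc_27_3 lc_g_rc_24_7 lc_g_Cert_tree lc_g_Cert_tree lc_g_Cert_tree lc_g_Cert_tree lc_g_rc_21_3 lc_g_Cert_tree lc_g_rc_21_2 lc_g_rc_26_0 lc_g_rc_23_1 lc_g_rc_24_7) (@D3.rec (fun _ => (Cert rels S Gen.g)) lc_g_Cert_tree lc_g_rc_25_7 lc_g_rc_27_0 lc_g_Cert_tree lc_g_rc_21_2 lc_g_rc_25_7 lc_g_rc_27_6 lc_g_rc_21_3 lc_g_Cert_tree lc_g_rc_21_2 lc_g_rc_24_7 lc_g_rc_27_0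 lc_g_rc_21_2 lc_g_rc_27_6 lc_g_rc_21_2 lc_g_rc_21_3 lc_g_rc_21_2 lc_g_rc_23_3 lc_g_Cert_tree lc_g_rc_27_6 lc_g_rc_23_1 lc_g_rc_26_6 lc_g_rc_21_3 lc_g_Cert_tree lc_g_Cert_tree lc_g_Cert_tree lc_g_Cert_tree lc_g_rc_21_3 lc_g_rc_21_2 lc_g_rc_27_6 lc_g_rc_21_3 lc_g_Cert_tree lc_g_rc_21_2 lc_g_rc_26_3 lc_g_rc_21_2 lc_g_rc_21_2 lc_g_rc_26_3 lc_g_rc_24_3 lc_g_Cert_tree lc_g_rc_23_3 lc_g_Cert_tree lc_g_Cert_tree lc_g_rc_23_3 lc_g_Cert_tree lc_g_rc_21_3 lc_g_Cert_tree lc_g_rc_21_2 lc_g_rc_21_3 lc_g_Cert_tree lc_g_rc_21_2 lc_g_rc_25_7 lc_g_rc_21_3 lc_g_Cert_tree lc_g_rc_27_3 lc_g_rc_21_2 lc_g_rc_21_3 lc_g_rc_27_9 lc_g_rc_26_3 lc_g_rc_27_0 lc_g_rc_27_3 lc_g_rc_24_3 lc_g_Cert_tree) (@D3.rec (fun _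 => (Cert rels S Gen.g)) lc_g_rc_23_3 lc_g_Cert_tree lc_g_Cert_tree lc_g_rc_23_7 lc_g_Cert_tree lc_g_rc_21_3 lc_g_Cert_tree lc_g_rc_21_2 lc_g_rc_21_3 lc_g_Cert_tree lc_g_rc_21_2 lc_g_rc_21_3 lc_g_rc_21_3 lc_g_rc_27_0 lc_g_rc_27_3 lc_g_rc_21_3 lc_g_Cert_tree lc_g_rc_24_7 lc_g_rc_21_2 lc_g_rc_21_3 lc_g_Cert_tree lc_g_rc_21_2 lc_g_Cert_tree lc_g_rc_26_9 lc_g_Cert_tree lc_g_rc_21_3 lc_g_rc_27_3 lc_g_Cert_tree lc_g_Cert_tree lc_g_rc_23_7 lc_g_rc_27_0 lc_g_rc_21_3 lc_g_rc_26_9 lc_g_rc_27_9 lc_g_rc_27_9 lc_g_rc_23_3 lc_g_rc_21_2 lc_g_rc_21_2 lc_g_Cert_tree lc_g_rc_26_9 lc_g_Cert_tree lc_g_rc_21_2 lc_g_rc_21_3 lc_g_rc_24_7 lc_g_Cert_tree lc_g_rc_23_1 lc_g_rc_27_3 lc_g_rc_24_3 lc_g_Cert_tree lc_g_Cert_tree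 lc_g_Cert_tree lc_g_Cert_tree lc_g_rc_21_3 lc_g_Cert_tree lc_g_rc_21_2 lc_g_rc_26_0 lc_g_Cert_tree lc_g_rc_21_3 lc_g_rc_23_1 lc_g_rc_27_3 lc_g_rc_24_3 lc_g_rc_27_3) (@D3.rec (fun _ => (Cert rels S Gen.g)) lc_g_rc_21_3 lc_g_rc_27_0 lc_g_rc_27_0 lc_g_rc_27_0 lc_g_Cert_tree lc_g_rc_21_2 lc_g_rc_26_0 lc_g_rc_26_9 lc_g_rc_26_0 lc_g_rc_27_6 lc_g_Cert_tree lc_g_Cert_tree lc_g_rc_21_2 lc_g_rc_21_3 lc_g_Cert_tree lc_g_Cert_tree lc_g_rc_21_2 lc_g_rc_26_6 lc_g_rc_24_3 lc_g_rc_26_6 lc_g_rc_23_7 lc_g_rc_26_0 lc_g_rc_21_2 lc_g_rc_27_6 lc_g_rc_21_2 lc_g_rc_27_0 lc_g_rc_21_2 lc_g_rc_21_3 lc_g_rc_24_7 lc_g_rc_27_6 lc_g_rc_23_9 lc_g_rc_24_1 lc_g_rc_24_9 lc_g_rc_21_3 lc_g_Cert_tree lc_g_rc_21_2 lc_g_rc_23_7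 lc_g_Cert_tree lc_g_rc_21_3 lc_g_Cert_tree lc_g_rc_21_2 lc_g_rc_24_1 lc_g_rc_26_6 lc_g_rc_27_6 lc_g_rc_24_3 lc_g_Cert_tree lc_g_rc_21_3 lc_g_Cert_tree lc_g_rc_21_2 lc_g_rc_24_3 lc_g_rc_24_7 lc_g_rc_23_1 lc_g_Cert_tree lc_g_rc_21_2 lc_g_rc_24_3 lc_g_Cert_tree lc_g_rc_24_7 lc_g_Cert_tree lc_g_rc_21_3 lc_g_Cert_tree lc_g_Cert_tree lc_g_rc_24_7) (@D3.rec (fun _ => (Cert rels S Gen.g)) lc_g_rc_21_2 lc_g_Cert_tree lc_g_rc_24_7 lc_g_Cert_tree lc_g_rc_26_6 lc_g_rc_24_1 lc_g_rc_27_3 lc_g_rc_26_6 lc_g_rc_27_9 lc_g_rc_21_3 lc_g_Cert_tree lc_g_Cert_tree lc_g_rc_21_2 lc_g_Cert_tree lc_g_rc_21_3 lc_g_rc_21_3 lc_g_rc_23_7 lc_g_Cert_tree lc_g_rc_21_2 lc_g_rc_21_3 lc_g_Cert_tree lc_g_rc_21_2 lc_g_rc_23_3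 lc_g_rc_24_1 lc_g_rc_26_0 lc_g_rc_21_3 lc_g_Cert_tree lc_g_rc_23_3 lc_g_rc_21_2 lc_g_rc_27_6 lc_g_rc_24_1 lc_g_Cert_tree lc_g_rc_21_3 lc_g_rc_27_9 lc_g_rc_27_6 lc_g_rc_21_3 lc_g_rc_23_3 lc_g_Cert_tree lc_g_rc_27_6 lc_g_Cert_tree lc_g_rc_26_6 lc_g_rc_21_3 lc_g_Cert_tree lc_g_rc_21_2 lc_g_Cert_tree lc_g_rc_23_1 lc_g_rc_26_3 lc_g_Cert_tree lc_g_Cert_tree lc_g_Cert_tree lc_g_rc_23_3 lc_g_rc_21_2 lc_g_rc_27_6 lc_g_rc_21_2 lc_g_rc_23_3 lc_g_rc_21_3 lc_g_rc_26_3 lc_g_Cert_tree lc_g_Cert_tree lc_g_rc_24_7 lc_g_rc_21_2 lc_g_Cert_tree) (@D3.rec (fun _ => (Cert rels S Gen.g)) lc_g_rc_26_9 lc_g_rc_21_2 lc_g_rc_21_2 lc_g_rc_24_7 lc_g_rc_26_6 lc_g_rc_24_9 lc_g_rc_21_2 lc_g_rc_21_2 lc_g_Cert_tree lc_g_rc_27_3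 lc_g_rc_27_0 lc_g_rc_24_7 lc_g_rc_26_6 lc_g_rc_21_3 lc_g_Cert_tree lc_g_rc_23_7 lc_g_rc_24_7 lc_g_Cert_tree lc_g_rc_24_1 lc_g_Cert_tree lc_g_rc_23_3 lc_g_rc_21_3 lc_g_rc_26_0 lc_g_rc_24_7 lc_g_Cert_tree lc_g_Cert_tree lc_g_rc_23_3 lc_g_rc_21_2 lc_g_rc_21_2 lc_g_rc_23_1 lc_g_rc_27_6 lc_g_Cert_tree lc_g_Cert_tree lc_g_rc_21_3 lc_g_rc_21_2 lc_g_rc_21_3 lc_g_Cert_tree lc_g_rc_21_2 lc_g_Cert_tree lc_g_rc_24_3 lc_g_rc_26_0 lc_g_Cert_tree lc_g_rc_21_3 lc_g_Cert_tree lc_g_rc_21_3 lc_g_Cert_tree lc_g_rc_21_2 lc_g_Cert_tree lc_g_rc_24_1 lc_g_Cert_tree lc_g_rc_21_3 lc_g_Cert_tree lc_g_rc_21_2 lc_g_rc_21_2 lc_g_rc_26_3 lc_g_rc_26_9 lc_g_Cert_tree lc_g_rc_24_3 lc_g_Cert_tree lc_g_rc_21_3 lc_g_Cert_tree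 lc_g_rc_21_2) (@D3.rec (fun _ => (Cert rels S Gen.g)) lc_g_Cert_tree lc_g_rc_24_1 lc_g_rc_21_2 lc_g_Cert_tree lc_g_rc_23_7 lc_g_rc_27_6 lc_g_Cert_tree lc_g_Cert_tree lc_g_rc_21_3 lc_g_Cert_tree lc_g_rc_26_6 lc_g_rc_21_3 lc_g_Cert_tree lc_g_Cert_tree lc_g_Cert_tree lc_g_rc_21_3 lc_g_Cert_tree lc_g_Cert_tree lc_g_rc_26_3 lc_g_Cert_tree lc_g_Cert_tree lc_g_rc_26_6 lc_g_Cert_tree lc_g_rc_26_3 lc_g_rc_21_3 lc_g_rc_21_2 lc_g_Cert_tree lc_g_rc_24_3 lc_g_rc_24_1 lc_g_rc_21_3 lc_g_Cert_tree lc_g_rc_21_2 lc_g_Cert_tree lc_g_Cert_tree lc_g_Cert_tree lc_g_rc_24_9 lc_g_Cert_tree lc_g_rc_23_9 lc_g_rc_27_6 lc_g_rc_26_6 lc_g_rc_26_3 lc_g_Cert_tree lc_g_Cert_tree lc_g_rc_27_6 lc_g_Cert_tree lc_g_rc_21_2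 lc_g_rc_21_3 lc_g_Cert_tree lc_g_rc_21_2 lc_g_Cert_tree lc_g_Cert_tree lc_g_rc_21_3 lc_g_Cert_tree lc_g_rc_21_2 lc_g_Cert_tree lc_g_Cert_tree lc_g_rc_24_3 lc_g_Cert_tree lc_g_Cert_tree lc_g_rc_23_1 lc_g_rc_27_3 lc_g_rc_27_6) (@D3.rec (fun _ => (Cert rels S Gen.g)) lc_g_rc_24_7 lc_g_rc_23_1 lc_g_rc_21_3 lc_g_Cert_tree lc_g_Cert_tree lc_g_Cert_tree lc_g_rc_27_6 lc_g_rc_26_3 lc_g_rc_23_1 lc_g_Cert_tree lc_g_rc_27_3 lc_g_rc_24_1 lc_g_rc_21_3 lc_g_Cert_tree lc_g_Cert_tree lc_g_Cert_tree lc_g_rc_21_2 lc_g_rc_21_3 lc_g_rc_26_6 lc_g_Cert_tree lc_g_rc_23_7 lc_g_rc_23_3 lc_g_rc_27_0 lc_g_rc_26_6 lc_g_rc_21_3 lc_g_rc_23_7 lc_g_rc_27_0 lc_g_Cert_tree lc_g_rc_21_3 lc_g_Cert_tree lc_g_Cert_tree lc_g_Cert_tree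 lc_g_rc_21_2 lc_g_rc_21_2 lc_g_rc_23_9 lc_g_Cert_tree lc_g_rc_24_7 lc_g_Cert_tree lc_g_Cert_tree lc_g_Cert_tree lc_g_rc_21_3 lc_g_Cert_tree lc_g_rc_21_2 lc_g_Cert_tree lc_g_rc_21_2 lc_g_rc_21_3 lc_g_Cert_tree lc_g_rc_21_2 lc_g_rc_25_11 lc_g_rc_21_2 lc_g_Cert_tree lc_g_rc_23_3 lc_g_rc_26_6 lc_g_Cert_tree lc_g_rc_24_1 lc_g_Cert_tree lc_g_rc_26_0 lc_g_rc_24_9 lc_g_rc_21_2 lc_g_rc_21_3 lc_g_Cert_tree lc_g_Cert_tree) (@D3.rec (fun _ => (Cert rels S Gen.g)) lc_g_Cert_tree lc_g_rc_25_19 lc_g_Cert_tree lc_g_rc_26_6 lc_g_rc_21_3 lc_g_Cert_tree lc_g_Cert_tree lc_g_rc_21_2 lc_g_rc_21_3 lc_g_rc_24_9 lc_g_rc_24_3 lc_g_rc_26_3 lc_g_rc_21_3 lc_g_rc_27_6 lc_g_rc_23_9 lc_g_rc_21_3 lc_g_rc_23_1 lc_g_rc_21_3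 lc_g_rc_24_3 lc_g_rc_23_7 lc_g_Cert_tree lc_g_Cert_tree lc_g_Cert_tree lc_g_Cert_tree lc_g_rc_21_3 lc_g_Cert_tree lc_g_rc_21_3 lc_g_rc_21_2 lc_g_rc_23_3 lc_g_Cert_tree lc_g_rc_21_2 lc_g_rc_23_7 lc_g_rc_21_3 lc_g_rc_21_3 lc_g_Cert_tree lc_g_rc_21_2 lc_g_rc_24_3 lc_g_Cert_tree lc_g_rc_21_3 lc_g_Cert_tree lc_g_rc_21_2 lc_g_rc_26_9 lc_g_rc_23_7 lc_g_rc_26_9 lc_g_rc_23_9 lc_g_rc_27_6 lc_g_rc_21_3 lc_g_Cert_tree lc_g_Cert_tree lc_g_Cert_tree lc_g_rc_21_3 lc_g_Cert_tree lc_g_Cert_tree lc_g_rc_21_2 lc_g_rc_21_3 lc_g_Cert_tree lc_g_Cert_tree lc_g_rc_21_2 lc_g_rc_27_9 lc_g_rc_26_3 lc_g_rc_27_9 lc_g_rc_21_3) (@D3.rec (fun _ => (Cert rels S Gen.g)) lc_g_Cert_tree lc_g_Cert_tree lc_g_rc_21_2 lc_g_Cert_tree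 lc_g_rc_23_3 lc_g_rc_26_6 lc_g_rc_27_9 lc_g_rc_21_3 lc_g_Cert_tree lc_g_Cert_tree lc_g_rc_21_2 lc_g_rc_23_7 lc_g_rc_23_7 lc_g_rc_26_9 lc_g_rc_23_1 lc_g_rc_24_9 lc_g_rc_26_9 lc_g_rc_21_2 lc_g_rc_23_3 lc_g_rc_24_3 lc_g_rc_21_2 lc_g_Cert_tree lc_g_rc_21_3 lc_g_Cert_tree lc_g_rc_21_3 lc_g_Cert_tree lc_g_rc_27_0 lc_g_Cert_tree lc_g_rc_21_3 lc_g_rc_21_2 lc_g_rc_21_3 lc_g_Cert_tree lc_g_Cert_tree lc_g_rc_21_2 lc_g_rc_27_9 lc_g_Cert_tree lc_g_Cert_tree lc_g_rc_23_3 lc_g_rc_21_2 lc_g_Cert_tree lc_g_rc_26_0 lc_g_rc_21_2 lc_g_rc_26_3 lc_g_Cert_tree lc_g_rc_26_6 lc_g_rc_21_3 lc_g_rc_21_3 lc_g_rc_26_0 lc_g_rc_26_6 lc_g_Cert_tree lc_g_rc_21_2 lc_g_rc_21_3 lc_g_Cert_tree lc_g_Cert_tree lc_g_rc_21_3 lc_g_rc_21_3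 lc_g_Cert_tree lc_g_rc_21_2 lc_g_rc_27_6 lc_g_rc_24_1 lc_g_rc_26_3 lc_g_rc_26_9) (@D3.rec (fun _ => (Cert rels S Gen.g)) lc_g_rc_27_6 lc_g_rc_21_2 lc_g_rc_27_6 lc_g_Cert_tree lc_g_rc_21_3 lc_g_rc_26_3 lc_g_rc_21_3 lc_g_Cert_tree lc_g_rc_21_2 lc_g_Cert_tree lc_g_rc_26_0 lc_g_Cert_tree lc_g_Cert_tree lc_g_rc_24_7 lc_g_rc_23_1 lc_g_Cert_tree lc_g_rc_21_3 lc_g_Cert_tree lc_g_Cert_tree lc_g_rc_21_3 lc_g_Cert_tree lc_g_rc_21_2 lc_g_rc_21_3 lc_g_Cert_tree lc_g_rc_21_2 lc_g_Cert_tree lc_g_rc_26_0 lc_g_Cert_tree lc_g_rc_21_2 lc_g_Cert_tree lc_g_Cert_tree lc_g_rc_21_3 lc_g_Cert_tree lc_g_Cert_tree lc_g_rc_21_2 lc_g_rc_21_3 lc_g_Cert_tree lc_g_rc_21_2 lc_g_Cert_tree lc_g_rc_21_3 lc_g_Cert_tree lc_g_Cert_tree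 lc_g_rc_21_2 lc_g_Cert_tree lc_g_rc_24_7 lc_g_Cert_tree lc_g_rc_27_9 lc_g_rc_21_3 lc_g_rc_27_6 lc_g_rc_24_9 lc_g_Cert_tree lc_g_rc_21_2 lc_g_rc_21_3 lc_g_Cert_tree lc_g_Cert_tree lc_g_Cert_tree lc_g_rc_27_6 lc_g_rc_24_1 lc_g_rc_27_6 lc_g_rc_21_3 lc_g_Cert_tree lc_g_Cert_tree) (@D3.rec (fun _ => (Cert rels S Gen.g)) lc_g_rc_21_2 lc_g_rc_23_3 lc_g_rc_23_9 lc_g_rc_24_1 lc_g_rc_27_6 lc_g_rc_23_7 lc_g_rc_23_1 lc_g_rc_23_7 lc_g_rc_24_9 lc_g_rc_21_3 lc_g_rc_21_2 lc_g_rc_21_2 lc_g_rc_24_9 lc_g_rc_27_0 lc_g_rc_24_3 lc_g_Cert_tree lc_g_rc_21_3 lc_g_Cert_tree lc_g_Cert_tree lc_g_Cert_tree lc_g_rc_21_2 lc_g_rc_21_2 lc_g_rc_24_7 lc_g_Cert_tree lc_g_rc_24_7 lc_g_Cert_tree lc_g_rc_21_3 lc_g_Cert_tree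 lc_g_Cert_tree lc_g_Cert_tree lc_g_rc_21_2 lc_g_rc_27_6 lc_g_rc_26_9 lc_g_Cert_tree lc_g_rc_27_6 lc_g_Cert_tree lc_g_rc_21_3 lc_g_Cert_tree lc_g_Cert_tree lc_g_Cert_tree lc_g_rc_21_2 lc_g_rc_21_2 lc_g_rc_26_3 lc_g_Cert_tree lc_g_Cert_tree lc_g_rc_24_9 lc_g_rc_24_7 lc_g_Cert_tree lc_g_rc_23_1 lc_g_rc_27_0 lc_g_rc_21_3 lc_g_Cert_tree lc_g_Cert_tree lc_g_Cert_tree lc_g_Cert_tree lc_g_rc_21_3 lc_g_Cert_tree lc_g_Cert_tree lc_g_rc_21_2 lc_g_rc_26_9 lc_g_Cert_tree lc_g_rc_21_2) (@D3.rec (fun _ => (Cert rels S Gen.g)) lc_g_Cert_tree lc_g_rc_21_3 lc_g_Cert_tree lc_g_rc_21_2 lc_g_rc_21_3 lc_g_Cert_tree lc_g_rc_26_9 lc_g_Cert_tree lc_g_Cert_tree lc_g_Cert_tree lc_g_Cert_tree lc_g_rc_21_3 lc_g_Cert_tree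 lc_g_rc_27_3 lc_g_rc_21_2 lc_g_Cert_tree lc_g_rc_23_7 lc_g_Cert_tree lc_g_rc_21_3 lc_g_Cert_tree lc_g_rc_27_0 lc_g_rc_27_6 lc_g_Cert_tree lc_g_rc_21_3 lc_g_Cert_tree lc_g_rc_26_3 lc_g_Cert_tree lc_g_rc_27_3 lc_g_rc_23_7 lc_g_rc_26_3 lc_g_Cert_tree lc_g_Cert_tree lc_g_rc_21_3 lc_g_Cert_tree lc_g_rc_25_3 lc_g_rc_21_3 lc_g_Cert_tree lc_g_rc_25_19 lc_g_Cert_tree lc_g_rc_21_2 lc_g_Cert_tree lc_g_rc_21_3 lc_g_Cert_tree lc_g_rc_24_7 lc_g_Cert_tree lc_g_rc_23_1 lc_g_rc_27_0 lc_g_rc_21_3 lc_g_Cert_tree lc_g_Cert_tree lc_g_Cert_tree lc_g_Cert_tree lc_g_rc_21_3 lc_g_Cert_tree lc_g_rc_21_2 lc_g_Cert_tree lc_g_rc_26_9 lc_g_rc_21_3 lc_g_Cert_tree lc_g_rc_21_2 lc_g_Cert_tree lc_g_rc_27_0) (@D3.rec (fun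 _ => (Cert rels S Gen.g)) lc_g_rc_27_0 lc_g_rc_23_7 lc_g_rc_21_2 lc_g_rc_27_6 lc_g_rc_24_7 lc_g_rc_26_9 lc_g_rc_27_0 lc_g_rc_24_3 lc_g_Cert_tree lc_g_Cert_tree lc_g_rc_23_7 lc_g_Cert_tree lc_g_rc_21_3 lc_g_Cert_tree lc_g_rc_21_2 lc_g_rc_21_3 lc_g_Cert_tree lc_g_rc_21_2 lc_g_Cert_tree lc_g_Cert_tree lc_g_rc_27_6 lc_g_rc_27_3 lc_g_rc_21_2 lc_g_rc_27_0 lc_g_rc_21_3 lc_g_Cert_tree lc_g_Cert_tree lc_g_rc_21_2 lc_g_Cert_tree lc_g_rc_21_3 lc_g_Cert_tree lc_g_rc_27_6 lc_g_rc_21_2 lc_g_rc_21_3 lc_g_Cert_tree lc_g_rc_21_2 lc_g_rc_21_2 lc_g_Cert_tree lc_g_rc_21_3 lc_g_rc_21_3 lc_g_Cert_tree lc_g_Cert_tree lc_g_rc_21_2 lc_g_rc_21_3 lc_g_rc_27_3 lc_g_rc_23_1 lc_g_rc_27_3 lc_g_rc_27_3 lc_g_rc_27_6 lc_g_Cert_tree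 lc_g_Cert_tree lc_g_rc_23_7 lc_g_Cert_tree lc_g_rc_21_3 lc_g_Cert_tree lc_g_rc_21_2 lc_g_rc_21_3 lc_g_Cert_tree lc_g_rc_21_2 lc_g_rc_26_6 lc_g_Cert_tree lc_g_Cert_tree) (@D3.rec (fun _ => (Cert rels S Gen.g)) lc_g_rc_26_9 lc_g_rc_27_0 lc_g_rc_27_3 lc_g_rc_26_9 lc_g_rc_21_3 lc_g_Cert_tree lc_g_rc_21_2 lc_g_rc_26_6 lc_g_rc_27_6 lc_g_Cert_tree lc_g_Cert_tree lc_g_rc_21_2 lc_g_rc_26_6 lc_g_Cert_tree lc_g_rc_21_2 lc_g_Cert_tree lc_g_rc_26_6 lc_g_Cert_tree lc_g_rc_27_6 lc_g_rc_21_2 lc_g_rc_23_3 lc_g_rc_26_0 lc_g_Cert_tree lc_g_Cert_tree lc_g_Cert_tree lc_g_rc_24_9 lc_g_Cert_tree lc_g_rc_21_2 lc_g_rc_21_2 lc_g_rc_23_3 lc_g_rc_21_2 lc_g_rc_21_3 lc_g_Cert_tree lc_g_Cert_tree lc_g_rc_27_9 lc_g_Cert_tree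 lc_g_rc_21_2 lc_g_rc_24_1 lc_g_rc_21_2 lc_g_rc_21_3 lc_g_Cert_tree lc_g_rc_21_2 lc_g_rc_21_3 lc_g_Cert_tree lc_g_Cert_tree lc_g_rc_27_0 lc_g_rc_27_6 lc_g_rc_27_9 lc_g_rc_27_0 lc_g_rc_27_3 lc_g_rc_27_6 lc_g_rc_27_9 lc_g_rc_26_0 lc_g_rc_24_3 lc_g_rc_27_6 lc_g_rc_26_6 lc_g_Cert_tree lc_g_rc_26_9 lc_g_rc_24_1 lc_g_rc_23_9 lc_g_rc_27_3 lc_g_rc_27_0) (@D3.rec (fun _ => (Cert rels S Gen.g)) lc_g_Cert_tree lc_g_rc_21_2 lc_g_rc_21_3 lc_g_rc_21_3 lc_g_Cert_tree lc_g_rc_21_2 lc_g_rc_21_3 lc_g_Cert_tree lc_g_Cert_tree lc_g_Cert_tree lc_g_rc_21_3 lc_g_Cert_tree lc_g_rc_21_2 lc_g_rc_21_2 lc_g_rc_21_3 lc_g_rc_21_2 lc_g_rc_21_2 lc_g_rc_27_6 lc_g_rc_24_7 lc_g_rc_23_9 lc_g_rc_26_6 lc_g_rc_23_1 lc_g_rc_23_3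 lc_g_rc_24_7 lc_g_Cert_tree lc_g_Cert_tree lc_g_rc_23_7 lc_g_Cert_tree lc_g_rc_21_3 lc_g_Cert_tree lc_g_rc_21_2 lc_g_rc_21_3 lc_g_Cert_tree lc_g_rc_21_2 lc_g_Cert_tree lc_g_Cert_tree lc_g_rc_21_2 lc_g_Cert_tree lc_g_rc_27_3 lc_g_rc_27_6 lc_g_rc_24_9 lc_g_rc_21_2 lc_g_rc_23_1 lc_g_rc_21_2 lc_g_rc_21_3 lc_g_Cert_tree lc_g_Cert_tree lc_g_rc_26_0 lc_g_Cert_tree lc_g_rc_21_3 lc_g_Cert_tree lc_g_rc_21_3 lc_g_Cert_tree lc_g_rc_21_2 lc_g_rc_21_3 lc_g_rc_23_3 lc_g_rc_21_3 lc_g_rc_26_0 lc_g_rc_21_2 lc_g_rc_21_2 lc_g_rc_25_19 lc_g_Cert_tree) (@D3.rec (fun _ => (Cert rels S Gen.g)) lc_g_Cert_tree lc_g_rc_21_3 lc_g_rc_26_3 lc_g_rc_21_3 lc_g_Cert_tree lc_g_Cert_tree lc_g_rc_21_2 lc_g_rc_26_6 lc_g_rc_26_9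 lc_g_rc_23_7 lc_g_rc_21_3 lc_g_rc_23_7 lc_g_rc_21_2 lc_g_Cert_tree lc_g_Cert_tree lc_g_Cert_tree lc_g_rc_26_6 lc_g_rc_21_3 lc_g_Cert_tree lc_g_Cert_tree lc_g_rc_21_2 lc_g_rc_24_7 lc_g_rc_21_2 lc_g_rc_23_7 lc_g_rc_21_2 lc_g_rc_21_2 lc_g_rc_26_6 lc_g_rc_21_2 lc_g_rc_21_2 lc_g_rc_21_2 lc_g_rc_27_6 lc_g_rc_21_3 lc_g_Cert_tree lc_g_Cert_tree lc_g_rc_23_3 lc_g_rc_21_3 lc_g_Cert_tree lc_g_Cert_tree lc_g_Cert_tree lc_g_rc_26_3 lc_g_Cert_tree lc_g_rc_23_7 lc_g_rc_21_2 lc_g_rc_21_3 lc_g_Cert_tree lc_g_rc_27_6 lc_g_rc_21_2 lc_g_rc_26_3 lc_g_rc_21_2 lc_g_Cert_tree lc_g_rc_26_3 lc_g_rc_27_9 lc_g_rc_21_2 lc_g_rc_21_3 lc_g_Cert_tree lc_g_rc_21_2 lc_g_rc_21_2 lc_g_rc_21_2 lc_g_Cert_tree lc_g_Cert_tree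 lc_g_rc_27_9 lc_g_rc_26_9) (@D3.rec (fun _ => (Cert rels S Gen.g)) lc_g_rc_21_2 lc_g_rc_26_6 lc_g_rc_21_2 lc_g_rc_21_3 lc_g_Cert_tree lc_g_rc_21_2 lc_g_rc_21_3 lc_g_Cert_tree lc_g_Cert_tree lc_g_Cert_tree lc_g_rc_21_3 lc_g_Cert_tree lc_g_Cert_tree lc_g_rc_21_2 lc_g_rc_26_0 lc_g_rc_21_3 lc_g_Cert_tree lc_g_Cert_tree lc_g_rc_24_9 lc_g_Cert_tree lc_g_rc_21_2 lc_g_rc_21_3 lc_g_Cert_tree lc_g_rc_21_2 lc_g_Cert_tree lc_g_Cert_tree lc_g_rc_23_9 lc_g_Cert_tree lc_g_Cert_tree lc_g_rc_21_3 lc_g_Cert_tree lc_g_rc_21_2 lc_g_rc_21_2 lc_g_Cert_tree lc_g_rc_25_19 lc_g_Cert_tree lc_g_rc_21_3 lc_g_Cert_tree lc_g_rc_21_2 lc_g_Cert_tree lc_g_rc_21_3 lc_g_Cert_tree lc_g_rc_27_3 lc_g_rc_21_2 lc_g_Cert_tree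 lc_g_rc_24_7 lc_g_rc_24_1 lc_g_Cert_tree lc_g_rc_27_3 lc_g_Cert_tree lc_g_rc_23_1 lc_g_Cert_tree lc_g_rc_21_2 lc_g_rc_21_3 lc_g_Cert_tree lc_g_Cert_tree lc_g_rc_26_6 lc_g_Cert_tree lc_g_rc_24_9 lc_g_rc_24_1 lc_g_rc_26_6 lc_g_Cert_tree) (@D3.rec (fun _ => (Cert rels S Gen.g)) lc_g_Cert_tree lc_g_rc_21_3 lc_g_Cert_tree lc_g_Cert_tree lc_g_rc_21_2 lc_g_rc_21_3 lc_g_rc_21_3 lc_g_rc_21_2 lc_g_rc_26_3 lc_g_rc_27_6 lc_g_rc_27_3 lc_g_rc_24_7 lc_g_Cert_tree lc_g_rc_23_3 lc_g_rc_27_9 lc_g_rc_26_6 lc_g_rc_27_3 lc_g_rc_21_3 lc_g_rc_26_3 lc_g_Cert_tree lc_g_rc_21_3 lc_g_rc_23_1 lc_g_rc_26_9 lc_g_rc_21_3 lc_g_rc_25_19 lc_g_rc_23_9 lc_g_Cert_tree lc_g_rc_24_9 lc_g_Cert_tree lc_g_rc_26_0 lc_g_rc_21_2 lc_g_rc_21_3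 lc_g_Cert_tree lc_g_rc_21_3 lc_g_Cert_tree lc_g_rc_27_6 lc_g_rc_21_3 lc_g_Cert_tree lc_g_Cert_tree lc_g_rc_21_2 lc_g_rc_23_1 lc_g_rc_27_6 lc_g_Cert_tree lc_g_rc_27_6 lc_g_rc_21_3 lc_g_Cert_tree lc_g_rc_26_6 lc_g_rc_27_6 lc_g_rc_27_3 lc_g_rc_21_2 lc_g_Cert_tree lc_g_rc_23_7 lc_g_rc_21_3 lc_g_Cert_tree lc_g_rc_21_3 lc_g_Cert_tree lc_g_Cert_tree lc_g_rc_21_2 lc_g_rc_21_2 lc_g_rc_27_9 lc_g_rc_21_3 lc_g_Cert_tree) (@D3.rec (fun _ => (Cert rels S Gen.g)) lc_g_Cert_tree lc_g_rc_21_2 lc_g_rc_21_3 lc_g_rc_21_2 lc_g_rc_21_2 lc_g_rc_27_6 lc_g_Cert_tree lc_g_Cert_tree lc_g_rc_27_0 lc_g_rc_21_2 lc_g_rc_27_0 lc_g_rc_21_2 lc_g_Cert_tree lc_g_Cert_tree lc_g_rc_21_2 lc_g_rc_23_1 lc_g_rc_26_9 lc_g_rc_27_6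 lc_g_rc_26_0 lc_g_rc_23_9 lc_g_rc_21_2 lc_g_rc_26_3 lc_g_Cert_tree lc_g_rc_21_3 lc_g_Cert_tree lc_g_rc_21_2 lc_g_rc_21_3 lc_g_rc_21_3 lc_g_Cert_tree lc_g_rc_21_3 lc_g_Cert_tree lc_g_Cert_tree lc_g_rc_21_2 lc_g_rc_27_0 lc_g_rc_27_3 lc_g_rc_26_3 lc_g_rc_21_3 lc_g_rc_21_3 lc_g_Cert_tree lc_g_Cert_tree lc_g_rc_21_2 lc_g_rc_23_1 lc_g_rc_21_2 lc_g_rc_24_9 lc_g_Cert_tree lc_g_rc_21_2 lc_g_Cert_tree lc_g_rc_27_0 lc_g_Cert_tree lc_g_Cert_tree lc_g_Cert_tree lc_g_rc_21_2 lc_g_rc_24_1 lc_g_rc_27_6 lc_g_rc_21_2 lc_g_rc_26_0 lc_g_rc_23_9 lc_g_rc_21_2 lc_g_Cert_tree lc_g_rc_27_3 lc_g_rc_21_2 lc_g_rc_21_2) (@D3.rec (fun _ => (Cert rels S Gen.g)) lc_g_rc_21_2 lc_g_rc_27_3 lc_g_Cert_tree lc_g_Cert_tree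 lc_g_rc_21_2 lc_g_rc_23_7 lc_g_rc_26_0 lc_g_rc_23_7 lc_g_rc_24_3 lc_g_Cert_tree lc_g_rc_21_3 lc_g_Cert_tree lc_g_Cert_tree lc_g_rc_26_6 lc_g_rc_21_3 lc_g_Cert_tree lc_g_Cert_tree lc_g_rc_26_6 lc_g_rc_21_3 lc_g_Cert_tree lc_g_Cert_tree lc_g_rc_26_0 lc_g_Cert_tree lc_g_rc_26_0 lc_g_rc_23_7 lc_g_rc_21_3 lc_g_Cert_tree lc_g_Cert_tree lc_g_rc_21_2 lc_g_Cert_tree lc_g_rc_23_9 lc_g_rc_21_2 lc_g_rc_24_3 lc_g_rc_21_3 lc_g_rc_21_2 lc_g_rc_27_9 lc_g_Cert_tree lc_g_rc_27_9 lc_g_rc_21_2 lc_g_Cert_tree lc_g_rc_27_6 lc_g_rc_24_9 lc_g_rc_23_7 lc_g_rc_26_0 lc_g_rc_23_7 lc_g_rc_27_6 lc_g_Cert_tree lc_g_rc_21_3 lc_g_rc_23_9 lc_g_rc_26_0 lc_g_rc_21_2 lc_g_rc_24_1 lc_g_rc_27_6 lc_g_rc_23_7 lc_g_rc_21_3 lc_g_rc_26_6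 lc_g_rc_27_3 lc_g_rc_26_0 lc_g_rc_21_3 lc_g_Cert_tree lc_g_rc_21_2 lc_g_rc_23_1) (@D3.rec (fun _ => (Cert rels S Gen.g)) lc_g_rc_23_3 lc_g_rc_21_3 lc_g_Cert_tree lc_g_Cert_tree lc_g_rc_21_2 lc_g_rc_27_6 lc_g_rc_23_1 lc_g_Cert_tree lc_g_rc_21_3 lc_g_Cert_tree lc_g_rc_25_7 lc_g_Cert_tree lc_g_Cert_tree lc_g_rc_23_3 lc_g_rc_21_3 lc_g_rc_25_19 lc_g_rc_26_6 lc_g_rc_21_3 lc_g_rc_27_9 lc_g_rc_21_3 lc_g_rc_27_6 lc_g_rc_21_2 lc_g_rc_27_3 lc_g_rc_21_3 lc_g_Cert_tree lc_g_rc_23_7 lc_g_rc_26_6 lc_g_Cert_tree lc_g_Cert_tree lc_g_Cert_tree lc_g_rc_21_3 lc_g_rc_21_2 lc_g_Cert_tree lc_g_Cert_tree lc_g_rc_21_3 lc_g_rc_21_2 lc_g_rc_27_9 lc_g_Cert_tree lc_g_Cert_tree lc_g_rc_27_3 lc_g_rc_21_2 lc_g_rc_21_2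 lc_g_Cert_tree lc_g_rc_21_3 lc_g_Cert_tree lc_g_rc_21_2 lc_g_rc_21_3 lc_g_Cert_tree lc_g_rc_26_0 lc_g_Cert_tree lc_g_Cert_tree lc_g_rc_21_3 lc_g_Cert_tree lc_g_Cert_tree lc_g_rc_21_2 lc_g_rc_21_3 lc_g_rc_21_3 lc_g_Cert_tree lc_g_rc_21_3 lc_g_Cert_tree lc_g_rc_26_6 lc_g_Cert_tree) (@D3.rec (fun _ => (Cert rels S Gen.g)) lc_g_rc_23_1 lc_g_rc_23_7 lc_g_rc_21_2 lc_g_Cert_tree lc_g_rc_23_1 lc_g_rc_26_6 lc_g_rc_26_3 lc_g_rc_21_3 lc_g_Cert_tree lc_g_rc_21_2 lc_g_Cert_tree lc_g_rc_21_3 lc_g_Cert_tree lc_g_Cert_tree lc_g_rc_21_2 lc_g_Cert_tree lc_g_Cert_tree lc_g_Cert_tree lc_g_rc_21_3 lc_g_rc_26_6 lc_g_rc_26_9 lc_g_rc_23_7 lc_g_rc_27_0 lc_g_rc_27_0 lc_g_rc_27_9 lc_g_rc_21_3 lc_g_Cert_tree lc_g_Cert_tree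 lc_g_rc_21_2 lc_g_Cert_tree lc_g_rc_21_3 lc_g_Cert_tree lc_g_rc_26_6 lc_g_Cert_tree lc_g_rc_21_3 lc_g_Cert_tree lc_g_Cert_tree lc_g_rc_21_2 lc_g_rc_26_6 lc_g_Cert_tree lc_g_rc_23_3 lc_g_rc_21_3 lc_g_rc_24_1 lc_g_rc_21_2 lc_g_Cert_tree lc_g_rc_21_3 lc_g_Cert_tree lc_g_rc_23_9 lc_g_Cert_tree lc_g_rc_21_3 lc_g_Cert_tree lc_g_Cert_tree lc_g_rc_21_2 lc_g_Cert_tree lc_g_rc_21_2 lc_g_rc_21_2 lc_g_rc_27_6 lc_g_rc_21_3 lc_g_Cert_tree lc_g_rc_21_2 lc_g_rc_21_2 lc_g_rc_21_3) (@D3.rec (fun _ => (Cert rels S Gen.g)) lc_g_rc_21_2 lc_g_Cert_tree lc_g_Cert_tree lc_g_Cert_tree lc_g_rc_21_2 lc_g_Cert_tree lc_g_Cert_tree lc_g_rc_21_2 lc_g_Cert_tree lc_g_rc_21_2 lc_g_Cert_tree lc_g_rc_26_9 lc_g_rc_21_3 lc_g_Cert_tree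 lc_g_rc_24_3 lc_g_rc_27_3 lc_g_rc_27_6 lc_g_Cert_tree lc_g_rc_24_3 lc_g_Cert_tree lc_g_rc_21_3 lc_g_rc_24_7 lc_g_Cert_tree lc_g_rc_26_6 lc_g_rc_24_7 lc_g_Cert_tree lc_g_rc_21_3 lc_g_Cert_tree lc_g_Cert_tree lc_g_Cert_tree lc_g_rc_24_1 lc_g_rc_27_3 lc_g_rc_24_9 lc_g_Cert_tree lc_g_rc_26_0 lc_g_rc_24_1 lc_g_rc_21_3 lc_g_Cert_tree lc_g_rc_21_3 lc_g_Cert_tree lc_g_rc_21_2 lc_g_rc_21_2 lc_g_rc_21_2 lc_g_Cert_tree lc_g_rc_27_9 lc_g_rc_21_2 lc_g_rc_23_9 lc_g_rc_27_3 lc_g_rc_26_6 lc_g_Cert_tree lc_g_Cert_tree lc_g_rc_26_6 lc_g_rc_27_0 lc_g_rc_21_3 lc_g_rc_21_2 lc_g_Cert_tree lc_g_rc_23_1 lc_g_rc_21_3 lc_g_rc_21_3 lc_g_Cert_tree lc_g_rc_21_2 lc_g_Cert_tree) (@D3.rec (fun _ => (Cert rels S Gen.g))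 lc_g_rc_21_3 lc_g_Cert_tree lc_g_rc_21_2 lc_g_rc_26_0 lc_g_rc_27_9 lc_g_rc_27_9 lc_g_rc_26_6 lc_g_rc_23_7 lc_g_rc_27_0 lc_g_rc_26_3 lc_g_Cert_tree lc_g_rc_21_3 lc_g_rc_21_2 lc_g_Cert_tree lc_g_rc_27_6 lc_g_rc_23_1 lc_g_Cert_tree lc_g_Cert_tree lc_g_rc_21_2 lc_g_Cert_tree lc_g_rc_21_3 lc_g_Cert_tree lc_g_rc_21_2 lc_g_Cert_tree lc_g_rc_25_19 lc_g_rc_23_7 lc_g_Cert_tree lc_g_rc_23_1 lc_g_rc_21_2 lc_g_Cert_tree lc_g_Cert_tree lc_g_rc_21_3 lc_g_Cert_tree lc_g_rc_21_3 lc_g_Cert_tree lc_g_Cert_tree lc_g_rc_21_2 lc_g_rc_23_9 lc_g_Cert_tree lc_g_rc_23_9 lc_g_Cert_tree lc_g_rc_21_3 lc_g_Cert_tree lc_g_Cert_tree lc_g_rc_21_2 lc_g_rc_24_1 lc_g_Cert_tree lc_g_rc_27_9 lc_g_rc_24_9 lc_g_rc_24_7 lc_g_Cert_tree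 lc_g_rc_21_3 lc_g_Cert_tree lc_g_Cert_tree lc_g_rc_21_2 lc_g_rc_26_6 lc_g_rc_23_7 lc_g_rc_26_6 lc_g_rc_23_9 lc_g_rc_27_0 lc_g_rc_21_3 lc_g_Cert_tree) (@D3.rec (fun _ => (Cert rels S Gen.g)) lc_g_rc_21_2 lc_g_rc_21_3 lc_g_Cert_tree lc_g_rc_26_0 lc_g_rc_26_6 lc_g_rc_23_3 lc_g_rc_24_1 lc_g_rc_24_9 lc_g_rc_27_0 lc_g_Cert_tree lc_g_rc_21_2 lc_g_rc_21_3 lc_g_Cert_tree lc_g_rc_21_3 lc_g_rc_24_1 lc_g_rc_23_1 lc_g_rc_27_0 lc_g_rc_27_0 lc_g_rc_26_0 lc_g_Cert_tree lc_g_rc_23_9 lc_g_rc_23_9 lc_g_rc_21_2 lc_g_rc_27_3 lc_g_rc_23_9 lc_g_rc_23_7 lc_g_rc_23_1 lc_g_rc_26_3 lc_g_rc_27_3 lc_g_Cert_tree lc_g_Cert_tree lc_g_rc_26_6 lc_g_rc_26_6 lc_g_rc_27_6 lc_g_rc_23_9 lc_g_rc_26_6 lc_g_rc_23_3 lc_g_rc_21_2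 lc_g_Cert_tree lc_g_rc_24_3 lc_g_rc_26_0 lc_g_rc_26_3 lc_g_rc_26_3 lc_g_Cert_tree lc_g_Cert_tree lc_g_rc_26_6 lc_g_Cert_tree lc_g_rc_21_3 lc_g_rc_21_2 lc_g_rc_27_6 lc_g_rc_27_0 lc_g_rc_27_0 lc_g_rc_27_0 lc_g_rc_26_6 lc_g_rc_24_3 lc_g_rc_27_6 lc_g_rc_26_3 lc_g_rc_27_3 lc_g_rc_21_3 lc_g_Cert_tree lc_g_Cert_tree lc_g_rc_26_3) (@D3.rec (fun _ => (Cert rels S Gen.g)) lc_g_rc_26_0 lc_g_Cert_tree lc_g_rc_27_0 lc_g_Cert_tree lc_g_rc_23_1 lc_g_Cert_tree lc_g_rc_21_2 lc_g_rc_21_3 lc_g_Cert_tree lc_g_rc_21_3 lc_g_rc_21_2 lc_g_rc_21_3 lc_g_Cert_tree lc_g_Cert_tree lc_g_Cert_tree lc_g_rc_21_2 lc_g_Cert_tree lc_g_rc_23_3 lc_g_rc_26_3 lc_g_Cert_tree lc_g_Cert_tree lc_g_rc_27_6 lc_g_rc_27_0 lc_g_Cert_tree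 lc_g_rc_21_3 lc_g_Cert_tree lc_g_rc_21_3 lc_g_rc_27_9 lc_g_Cert_tree lc_g_Cert_tree lc_g_rc_26_3 lc_g_rc_27_6 lc_g_rc_21_3 lc_g_Cert_tree lc_g_rc_21_2 lc_g_rc_21_3 lc_g_rc_21_2 lc_g_rc_24_3 lc_g_Cert_tree lc_g_rc_21_3 lc_g_Cert_tree lc_g_Cert_tree lc_g_rc_21_2 lc_g_rc_21_3 lc_g_Cert_tree lc_g_rc_21_2 lc_g_rc_26_0 lc_g_Cert_tree lc_g_rc_23_9 lc_g_rc_21_2 lc_g_rc_27_3 lc_g_rc_26_3 lc_g_rc_23_1 lc_g_rc_26_0 lc_g_Cert_tree lc_g_rc_27_3 lc_g_rc_21_2 lc_g_rc_23_7 lc_g_rc_24_1 lc_g_rc_27_6 lc_g_rc_26_3 lc_g_rc_26_0) (@D3.rec (fun _ => (Cert rels S Gen.g)) lc_g_rc_27_3 lc_g_rc_24_1 lc_g_Cert_tree lc_g_rc_21_3 lc_g_Cert_tree lc_g_rc_21_2 lc_g_rc_27_0 lc_g_rc_21_3 lc_g_rc_21_2 lc_g_rc_26_3 lc_g_rc_26_6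 lc_g_rc_24_7 lc_g_rc_21_3 lc_g_Cert_tree lc_g_rc_27_6 lc_g_Cert_tree lc_g_Cert_tree lc_g_rc_21_2 lc_g_Cert_tree lc_g_rc_21_3 lc_g_rc_26_6 lc_g_rc_21_2 lc_g_rc_21_3 lc_g_rc_23_9 lc_g_rc_21_3 lc_g_rc_21_3 lc_g_Cert_tree lc_g_rc_27_0 lc_g_Cert_tree lc_g_rc_24_7 lc_g_rc_24_7 lc_g_rc_26_0 lc_g_rc_21_3 lc_g_rc_21_2 lc_g_rc_21_3 lc_g_rc_21_3 lc_g_Cert_tree lc_g_rc_24_3 lc_g_Cert_tree lc_g_rc_21_2 lc_g_rc_24_1 lc_g_Cert_tree lc_g_rc_24_9 lc_g_rc_21_2 lc_g_rc_27_6 lc_g_rc_23_3 lc_g_rc_27_0 lc_g_rc_21_2 lc_g_Cert_tree lc_g_rc_21_3 lc_g_Cert_tree lc_g_Cert_tree lc_g_rc_21_3 lc_g_rc_21_2 lc_g_rc_26_6 lc_g_rc_21_3 lc_g_rc_26_3 lc_g_rc_21_2 lc_g_rc_21_3 lc_g_rc_27_3 lc_g_Cert_tree lc_g_rc_26_6) (@D3.rec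 (fun _ => (Cert rels S Gen.g)) lc_g_Cert_tree lc_g_Cert_tree lc_g_rc_24_7 lc_g_rc_21_2 lc_g_Cert_tree lc_g_Cert_tree lc_g_Cert_tree lc_g_Cert_tree lc_g_rc_26_3 lc_g_rc_27_6 lc_g_rc_21_2 lc_g_rc_27_6 lc_g_Cert_tree lc_g_rc_27_3 lc_g_rc_21_2 lc_g_rc_26_3 lc_g_Cert_tree lc_g_rc_24_1 lc_g_Cert_tree lc_g_Cert_tree lc_g_rc_26_9 lc_g_rc_21_2 lc_g_Cert_tree lc_g_rc_21_3 lc_g_rc_21_2 lc_g_Cert_tree lc_g_Cert_tree lc_g_rc_26_0 lc_g_Cert_tree lc_g_Cert_tree lc_g_Cert_tree lc_g_rc_21_2 lc_g_Cert_tree lc_g_rc_21_2 lc_g_rc_24_7 lc_g_Cert_tree lc_g_rc_27_3 lc_g_rc_26_0 lc_g_Cert_tree lc_g_rc_24_3 lc_g_rc_24_9 lc_g_rc_23_7 lc_g_rc_21_3 lc_g_rc_26_6 lc_g_rc_24_9 lc_g_rc_21_2 lc_g_rc_21_3 lc_g_Cert_tree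 lc_g_rc_21_2 lc_g_rc_21_2 lc_g_Cert_tree lc_g_rc_21_3 lc_g_Cert_tree lc_g_Cert_tree lc_g_rc_21_2 lc_g_Cert_tree lc_g_rc_21_3 lc_g_Cert_tree lc_g_rc_21_2 lc_g_Cert_tree lc_g_Cert_tree lc_g_rc_24_1) (@D3.rec (fun _ => (Cert rels S Gen.g)) lc_g_Cert_tree lc_g_rc_23_9 lc_g_Cert_tree lc_g_Cert_tree lc_g_Cert_tree lc_g_rc_21_2 lc_g_rc_25_19 lc_g_rc_23_3 lc_g_rc_27_6 lc_g_Cert_tree lc_g_Cert_tree lc_g_rc_23_7 lc_g_rc_26_3 lc_g_Cert_tree lc_g_rc_21_3 lc_g_rc_26_9 lc_g_rc_21_3 lc_g_Cert_tree lc_g_rc_21_2 lc_g_Cert_tree lc_g_Cert_tree lc_g_Cert_tree lc_g_rc_21_3 lc_g_Cert_tree lc_g_Cert_tree lc_g_rc_21_2 lc_g_rc_26_9 lc_g_rc_27_0 lc_g_Cert_tree lc_g_rc_26_3 lc_g_rc_26_6 lc_g_Cert_tree lc_g_rc_27_6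 lc_g_rc_26_0 lc_g_Cert_tree lc_g_rc_26_9 lc_g_rc_26_6 lc_g_rc_26_0 lc_g_rc_21_3 lc_g_Cert_tree lc_g_rc_21_2 lc_g_rc_21_3 lc_g_Cert_tree lc_g_rc_24_3 lc_g_Cert_tree lc_g_rc_27_6 lc_g_rc_21_3 lc_g_Cert_tree lc_g_rc_21_3 lc_g_rc_26_9 lc_g_rc_21_2 lc_g_rc_21_3 lc_g_Cert_tree lc_g_rc_26_3 lc_g_rc_21_2 lc_g_rc_26_6 lc_g_rc_26_6 lc_g_Cert_tree lc_g_rc_21_2 lc_g_Cert_tree lc_g_rc_23_7 lc_g_rc_21_3) (@D3.rec (fun _ => (Cert rels S Gen.g)) lc_g_Cert_tree lc_g_rc_21_2 lc_g_Cert_tree lc_g_rc_26_0 lc_g_rc_27_6 lc_g_rc_26_3 lc_g_Cert_tree lc_g_Cert_tree lc_g_rc_21_2 lc_g_Cert_tree lc_g_rc_24_9 lc_g_rc_21_2 lc_g_Cert_tree lc_g_Cert_tree lc_g_rc_21_2 lc_g_rc_21_3 lc_g_Cert_tree lc_g_rc_21_2 lc_g_rc_26_6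 lc_g_Cert_tree lc_g_Cert_tree lc_g_rc_27_6 lc_g_rc_21_3 lc_g_rc_21_2 lc_g_rc_21_3 lc_g_Cert_tree lc_g_rc_21_2 lc_g_Cert_tree lc_g_Cert_tree lc_g_rc_26_3 lc_g_rc_23_9 lc_g_Cert_tree lc_g_rc_26_3 lc_g_rc_27_0 lc_g_rc_26_9 lc_g_rc_21_3 lc_g_Cert_tree lc_g_Cert_tree lc_g_rc_24_3 lc_g_rc_24_1 lc_g_rc_21_2 lc_g_Cert_tree lc_g_rc_21_3 lc_g_Cert_tree lc_g_rc_24_7 lc_g_Cert_tree lc_g_rc_21_3 lc_g_Cert_tree lc_g_Cert_tree lc_g_rc_21_2 lc_g_rc_26_6 lc_g_Cert_tree lc_g_rc_26_9 lc_g_Cert_tree lc_g_Cert_tree lc_g_Cert_tree lc_g_rc_21_3 lc_g_Cert_tree lc_g_Cert_tree lc_g_rc_27_9 lc_g_Cert_tree lc_g_Cert_tree) (@D3.rec (fun _ => (Cert rels S Gen.g)) lc_g_Cert_tree lc_g_rc_23_7 lc_g_rc_24_3 lc_g_rc_26_6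 lc_g_rc_21_2 lc_g_rc_21_2 lc_g_rc_26_3 lc_g_rc_21_3 lc_g_Cert_tree lc_g_Cert_tree lc_g_rc_21_2 lc_g_rc_26_3 lc_g_rc_26_3 lc_g_Cert_tree lc_g_Cert_tree lc_g_rc_26_3 lc_g_Cert_tree lc_g_Cert_tree lc_g_rc_23_7 lc_g_rc_26_9 lc_g_Cert_tree lc_g_rc_27_9 lc_g_Cert_tree lc_g_rc_21_2 lc_g_rc_26_6 lc_g_rc_26_9 lc_g_rc_27_9 lc_g_rc_24_9 lc_g_rc_21_2 lc_g_Cert_tree lc_g_Cert_tree lc_g_rc_23_1 lc_g_rc_24_1 lc_g_rc_23_7 lc_g_rc_21_2 lc_g_rc_27_6 lc_g_rc_21_3 lc_g_rc_21_2 lc_g_Cert_tree lc_g_rc_21_3 lc_g_Cert_tree lc_g_Cert_tree lc_g_Cert_tree lc_g_Cert_tree lc_g_Cert_tree lc_g_Cert_tree lc_g_rc_27_6 lc_g_rc_21_2 lc_g_rc_26_3 lc_g_rc_21_3 lc_g_rc_26_0 lc_g_Cert_tree lc_g_Cert_tree lc_g_rc_27_6 lc_g_rc_27_0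 lc_g_rc_26_6 lc_g_Cert_tree lc_g_rc_26_3 lc_g_rc_21_3 lc_g_rc_21_2 lc_g_Cert_tree lc_g_Cert_tree) (@D3.rec (fun _ => (Cert rels S Gen.g)) lc_g_rc_27_9 lc_g_rc_21_3 lc_g_Cert_tree lc_g_Cert_tree lc_g_rc_27_6 lc_g_rc_21_2 lc_g_rc_21_3 lc_g_rc_27_0 lc_g_rc_23_3 lc_g_Cert_tree lc_g_rc_23_3 lc_g_rc_21_2 lc_g_rc_26_0 lc_g_rc_27_6 lc_g_Cert_tree lc_g_Cert_tree lc_g_Cert_tree lc_g_rc_21_2 lc_g_Cert_tree lc_g_Cert_tree lc_g_rc_21_2 lc_g_rc_26_9 lc_g_rc_23_3 lc_g_rc_21_3 lc_g_Cert_tree lc_g_rc_21_3 lc_g_Cert_tree lc_g_Cert_tree lc_g_rc_21_2 lc_g_rc_27_0 lc_g_Cert_tree lc_g_rc_24_7 lc_g_rc_21_3 lc_g_Cert_tree lc_g_rc_24_7 lc_g_rc_21_3 lc_g_rc_27_3 lc_g_rc_27_6 lc_g_Cert_tree lc_g_rc_23_3 lc_g_rc_21_2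 lc_g_rc_27_3 lc_g_Cert_tree lc_g_rc_24_9 lc_g_Cert_tree lc_g_rc_26_0 lc_g_rc_23_9 lc_g_Cert_tree lc_g_rc_21_3 lc_g_rc_21_2 lc_g_rc_23_3 lc_g_rc_26_0 lc_g_Cert_tree lc_g_rc_26_3 lc_g_rc_23_9 lc_g_rc_26_3 lc_g_Cert_tree lc_g_rc_21_3 lc_g_rc_21_2 lc_g_rc_21_3 lc_g_Cert_tree lc_g_Cert_tree) (@D3.rec (fun _ => (Cert rels S Gen.g)) lc_g_rc_21_2 lc_g_Cert_tree lc_g_Cert_tree lc_g_Cert_tree lc_g_rc_21_3 lc_g_rc_21_2 lc_g_rc_27_6 lc_g_rc_27_9 lc_g_rc_21_3 lc_g_rc_21_3 lc_g_Cert_tree lc_g_Cert_tree lc_g_rc_21_2 lc_g_rc_21_3 lc_g_rc_21_2 lc_g_Cert_tree lc_g_Cert_tree lc_g_rc_23_9 lc_g_Cert_tree lc_g_rc_24_1 lc_g_Cert_tree lc_g_Cert_tree lc_g_rc_21_2 lc_g_rc_21_3 lc_g_rc_26_6 lc_g_Cert_tree lc_g_rc_24_9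 lc_g_rc_27_6 lc_g_rc_24_3 lc_g_rc_21_2 lc_g_rc_24_7 lc_g_rc_21_3 lc_g_rc_24_9 lc_g_rc_24_9 lc_g_rc_24_7 lc_g_Cert_tree lc_g_rc_21_3 lc_g_Cert_tree lc_g_Cert_tree lc_g_rc_24_9 lc_g_rc_21_2 lc_g_rc_21_2 lc_g_rc_26_9 lc_g_rc_21_3 lc_g_Cert_tree lc_g_Cert_tree lc_g_Cert_tree lc_g_rc_21_2 lc_g_rc_21_3 lc_g_rc_21_2 lc_g_Cert_tree lc_g_rc_23_1 lc_g_Cert_tree lc_g_rc_24_9 lc_g_Cert_tree lc_g_Cert_tree lc_g_rc_21_3 lc_g_rc_23_3 lc_g_rc_21_2 lc_g_rc_21_2 lc_g_Cert_tree lc_g_rc_23_1) (@D3.rec (fun _ => (Cert rels S Gen.g)) lc_g_Cert_tree lc_g_rc_24_9 lc_g_rc_23_3 lc_g_rc_21_2 lc_g_Cert_tree lc_g_rc_24_3 lc_g_rc_27_0 lc_g_Cert_tree lc_g_rc_21_2 lc_g_rc_24_3 lc_g_rc_26_6 lc_g_rc_24_7 lc_g_Cert_tree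 lc_g_rc_27_3 lc_g_rc_24_7 lc_g_rc_21_3 lc_g_Cert_tree lc_g_Cert_tree lc_g_Cert_tree lc_g_Cert_tree lc_g_rc_27_6 lc_g_Cert_tree lc_g_rc_26_3 lc_g_Cert_tree lc_g_rc_24_9 lc_g_rc_21_3 lc_g_Cert_tree lc_g_rc_21_3 lc_g_Cert_tree lc_g_rc_21_2 lc_g_rc_24_1 lc_g_rc_26_6 lc_g_rc_26_9 lc_g_rc_26_6 lc_g_rc_21_3 lc_g_Cert_tree lc_g_rc_26_9 lc_g_rc_23_3 lc_g_rc_24_9 lc_g_rc_21_3 lc_g_Cert_tree lc_g_rc_21_3 lc_g_Cert_tree lc_g_Cert_tree lc_g_Cert_tree lc_g_rc_26_9 lc_g_rc_21_2 lc_g_rc_27_9 lc_g_rc_24_1 lc_g_Cert_tree lc_g_rc_26_6 lc_g_rc_26_9 lc_g_rc_21_3 lc_g_rc_21_3 lc_g_rc_24_7 lc_g_rc_26_6 lc_g_rc_24_7 lc_g_Cert_tree lc_g_Cert_tree lc_g_rc_23_3 lc_g_rc_21_2 lc_g_rc_21_2) (@D3.rec (fun _ => (Cert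 rels S Gen.g)) lc_g_Cert_tree lc_g_rc_26_3 lc_g_Cert_tree lc_g_rc_23_1 lc_g_rc_23_1 lc_g_rc_24_9 lc_g_Cert_tree lc_g_rc_27_9 lc_g_rc_24_7 lc_g_Cert_tree lc_g_rc_24_9 lc_g_Cert_tree lc_g_Cert_tree lc_g_Cert_tree lc_g_Cert_tree lc_g_rc_21_3 lc_g_Cert_tree lc_g_rc_27_3 lc_g_rc_24_7 lc_g_rc_21_2 lc_g_rc_26_0 lc_g_rc_26_3 lc_g_Cert_tree lc_g_rc_26_9 lc_g_rc_24_1 lc_g_Cert_tree lc_g_Cert_tree lc_g_rc_21_3 lc_g_Cert_tree lc_g_Cert_tree lc_g_rc_21_2 lc_g_Cert_tree lc_g_rc_26_9 lc_g_Cert_tree lc_g_Cert_tree lc_g_Cert_tree lc_g_rc_21_3 lc_g_Cert_tree lc_g_rc_21_2 lc_g_rc_21_2 lc_g_rc_26_3 lc_g_Cert_tree lc_g_Cert_tree lc_g_rc_24_1 lc_g_Cert_tree lc_g_rc_27_6 lc_g_Cert_tree lc_g_rc_27_6 lc_g_rc_27_0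 lc_g_Cert_tree lc_g_Cert_tree lc_g_rc_27_6 lc_g_Cert_tree lc_g_rc_23_7 lc_g_rc_23_3 lc_g_Cert_tree lc_g_Cert_tree lc_g_rc_21_2 lc_g_Cert_tree lc_g_rc_21_3 lc_g_rc_21_3 lc_g_Cert_tree) (@D3.rec (fun _ => (Cert rels S Gen.g)) lc_g_rc_21_2 lc_g_Cert_tree lc_g_rc_23_7 lc_g_rc_26_9 lc_g_rc_21_3 lc_g_Cert_tree lc_g_rc_21_3 lc_g_Cert_tree lc_g_rc_26_3 lc_g_Cert_tree lc_g_rc_23_7 lc_g_Cert_tree lc_g_rc_21_3 lc_g_Cert_tree lc_g_rc_21_2 lc_g_rc_23_1 lc_g_rc_27_0 lc_g_rc_27_0 lc_g_rc_27_0 lc_g_rc_24_3 lc_g_Cert_tree lc_g_Cert_tree lc_g_rc_23_7 lc_g_Cert_tree lc_g_rc_21_3 lc_g_Cert_tree lc_g_rc_21_2 lc_g_rc_27_0 lc_g_rc_27_3 lc_g_rc_21_2 lc_g_rc_26_3 lc_g_rc_26_0 lc_g_Cert_tree lc_g_rc_21_3 lc_g_rc_27_0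 lc_g_rc_21_2 lc_g_rc_21_2 lc_g_rc_21_2 lc_g_rc_21_3 lc_g_Cert_tree lc_g_Cert_tree lc_g_Cert_tree lc_g_Cert_tree lc_g_rc_27_3 lc_g_rc_27_9 lc_g_rc_27_0 lc_g_Cert_tree lc_g_rc_21_2 lc_g_rc_21_3 lc_g_Cert_tree lc_g_rc_21_2 lc_g_rc_24_1 lc_g_rc_21_2 lc_g_rc_26_6 lc_g_Cert_tree lc_g_rc_21_3 lc_g_Cert_tree lc_g_rc_27_3 lc_g_rc_21_2 lc_g_rc_21_2 lc_g_rc_24_3 lc_g_Cert_tree) (@D3.rec (fun _ => (Cert rels S Gen.g)) lc_g_rc_21_3 lc_g_Cert_tree lc_g_rc_27_6 lc_g_Cert_tree lc_g_rc_23_9 lc_g_rc_21_2 lc_g_Cert_tree lc_g_rc_23_7 lc_g_rc_24_7 lc_g_rc_21_3 lc_g_Cert_tree lc_g_rc_21_2 lc_g_Cert_tree lc_g_rc_21_3 lc_g_Cert_tree lc_g_Cert_tree lc_g_Cert_tree lc_g_rc_21_3 lc_g_Cert_tree lc_g_Cert_tree lc_g_rc_23_7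 lc_g_rc_27_6 lc_g_rc_21_3 lc_g_Cert_tree lc_g_rc_21_2 lc_g_rc_21_3 lc_g_rc_27_0 lc_g_rc_27_0 lc_g_rc_27_6 lc_g_rc_24_3 lc_g_rc_24_3 lc_g_Cert_tree lc_g_rc_23_7 lc_g_rc_26_0 lc_g_Cert_tree lc_g_rc_27_0 lc_g_rc_27_0 lc_g_rc_26_0 lc_g_Cert_tree lc_g_rc_21_3 lc_g_rc_27_6 lc_g_rc_23_9 lc_g_rc_21_2 lc_g_rc_23_7 lc_g_rc_27_0 lc_g_rc_27_9 lc_g_rc_27_0 lc_g_rc_26_9 lc_g_Cert_tree lc_g_rc_21_2 lc_g_rc_27_6 lc_g_rc_21_3 lc_g_rc_21_2 lc_g_rc_21_3 lc_g_Cert_tree lc_g_rc_21_2 lc_g_Cert_tree lc_g_rc_24_9 lc_g_rc_21_3 lc_g_Cert_tree lc_g_rc_26_3 lc_g_rc_24_9) (@D3.rec (fun _ => (Cert rels S Gen.g)) lc_g_rc_24_1 lc_g_rc_24_1 lc_g_rc_21_3 lc_g_rc_21_2 lc_g_rc_21_2 lc_g_rc_24_1 lc_g_rc_27_0 lc_g_rc_24_7 lc_g_Cert_tree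 lc_g_rc_21_3 lc_g_Cert_tree lc_g_Cert_tree lc_g_Cert_tree lc_g_rc_21_2 lc_g_Cert_tree lc_g_rc_24_1 lc_g_rc_26_0 lc_g_Cert_tree lc_g_rc_26_3 lc_g_rc_21_2 lc_g_rc_26_9 lc_g_Cert_tree lc_g_rc_24_3 lc_g_Cert_tree lc_g_rc_24_7 lc_g_Cert_tree lc_g_Cert_tree lc_g_Cert_tree lc_g_rc_21_2 lc_g_rc_21_2 lc_g_rc_24_9 lc_g_rc_24_9 lc_g_rc_24_9 lc_g_rc_21_3 lc_g_rc_24_7 lc_g_rc_26_6 lc_g_rc_26_9 lc_g_Cert_tree lc_g_Cert_tree lc_g_Cert_tree lc_g_rc_23_7 lc_g_rc_21_2 lc_g_rc_21_2 lc_g_Cert_tree lc_g_rc_26_3 lc_g_Cert_tree lc_g_Cert_tree lc_g_rc_23_9 lc_g_rc_26_0 lc_g_rc_26_0 lc_g_rc_24_9 lc_g_Cert_tree lc_g_rc_27_3 lc_g_rc_26_0 lc_g_rc_24_7 lc_g_Cert_tree lc_g_rc_24_3 lc_g_Cert_tree lc_g_Cert_tree lc_g_Cert_tree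 lc_g_Cert_tree lc_g_rc_21_3) (@D3.rec (fun _ => (Cert rels S Gen.g)) lc_g_Cert_tree lc_g_rc_27_3 lc_g_rc_24_7 lc_g_rc_24_1 lc_g_rc_23_9 lc_g_rc_23_9 lc_g_rc_24_9 lc_g_Cert_tree lc_g_rc_27_6 lc_g_rc_24_9 lc_g_rc_26_6 lc_g_Cert_tree lc_g_rc_21_3 lc_g_Cert_tree lc_g_Cert_tree lc_g_rc_27_9 lc_g_Cert_tree lc_g_rc_21_2 lc_g_Cert_tree lc_g_Cert_tree lc_g_Cert_tree lc_g_rc_27_3 lc_g_Cert_tree lc_g_rc_27_6 lc_g_rc_24_9 lc_g_rc_26_3 lc_g_Cert_tree lc_g_Cert_tree lc_g_rc_24_1 lc_g_Cert_tree lc_g_rc_27_6 lc_g_Cert_tree lc_g_rc_24_9 lc_g_rc_21_2 lc_g_Cert_tree lc_g_Cert_tree lc_g_rc_21_2 lc_g_Cert_tree lc_g_rc_23_7 lc_g_rc_21_2 lc_g_Cert_tree lc_g_Cert_tree lc_g_rc_21_2 lc_g_Cert_tree lc_g_rc_21_2 lc_g_rc_21_3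 lc_g_Cert_tree lc_g_rc_21_2 lc_g_rc_24_7 lc_g_rc_21_2 lc_g_Cert_tree lc_g_rc_21_3 lc_g_Cert_tree lc_g_rc_26_0 lc_g_Cert_tree lc_g_rc_27_6 lc_g_rc_21_2 lc_g_rc_21_3 lc_g_rc_27_9 lc_g_rc_27_6 lc_g_rc_27_3 lc_g_rc_27_6) (@D3.rec (fun _ => (Cert rels S Gen.g)) lc_g_rc_26_3 lc_g_Cert_tree lc_g_Cert_tree lc_g_rc_23_3 lc_g_Cert_tree lc_g_rc_21_3 lc_g_Cert_tree lc_g_rc_21_2 lc_g_rc_24_1 lc_g_rc_27_3 lc_g_rc_21_2 lc_g_rc_21_2 lc_g_rc_24_9 lc_g_Cert_tree lc_g_Cert_tree lc_g_rc_27_9 lc_g_rc_26_0 lc_g_Cert_tree lc_g_rc_24_7 lc_g_rc_26_6 lc_g_rc_27_3 lc_g_rc_27_6 lc_g_rc_26_6 lc_g_Cert_tree lc_g_rc_21_3 lc_g_Cert_tree lc_g_rc_24_7 lc_g_Cert_tree lc_g_rc_27_0 lc_g_rc_27_9 lc_g_rc_27_9 lc_g_rc_27_0 lc_g_rc_27_9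 lc_g_Cert_tree lc_g_rc_21_2 lc_g_rc_26_9 lc_g_rc_27_6 lc_g_rc_23_3 lc_g_rc_24_1 lc_g_Cert_tree lc_g_rc_24_1 lc_g_rc_23_1 lc_g_rc_27_6 lc_g_Cert_tree lc_g_rc_27_3 lc_g_rc_23_1 lc_g_Cert_tree lc_g_rc_21_3 lc_g_Cert_tree lc_g_rc_21_3 lc_g_rc_21_2 lc_g_rc_21_3 lc_g_Cert_tree lc_g_rc_21_2 lc_g_rc_21_2 lc_g_rc_24_3 lc_g_Cert_tree lc_g_rc_26_0 lc_g_rc_26_9 lc_g_rc_24_1 lc_g_Cert_tree lc_g_rc_27_0) (@D3.rec (fun _ => (Cert rels S Gen.g)) lc_g_rc_27_6 lc_g_rc_21_2 lc_g_rc_27_6 lc_g_rc_23_3 lc_g_Cert_tree lc_g_rc_27_9 lc_g_rc_26_0 lc_g_rc_21_3 lc_g_rc_23_1 lc_g_rc_27_6 lc_g_rc_21_3 lc_g_Cert_tree lc_g_rc_27_6 lc_g_rc_24_9 lc_g_rc_21_2 lc_g_rc_21_3 lc_g_rc_27_0 lc_g_rc_21_3 lc_g_Cert_tree lc_g_rc_27_0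 lc_g_rc_23_1 lc_g_rc_23_9 lc_g_rc_21_2 lc_g_rc_21_3 lc_g_Cert_tree lc_g_rc_21_3 lc_g_rc_21_3 lc_g_Cert_tree lc_g_rc_26_9 lc_g_Cert_tree lc_g_rc_21_3 lc_g_rc_23_1 lc_g_Cert_tree lc_g_rc_21_3 lc_g_rc_26_9 lc_g_Cert_tree lc_g_Cert_tree lc_g_rc_24_3 lc_g_rc_26_3 lc_g_rc_21_3 lc_g_Cert_tree lc_g_rc_21_2 lc_g_Cert_tree lc_g_rc_21_3 lc_g_Cert_tree lc_g_Cert_tree lc_g_rc_21_3 lc_g_Cert_tree lc_g_rc_21_2 lc_g_Cert_tree lc_g_rc_21_2 lc_g_rc_21_2 lc_g_Cert_tree lc_g_rc_24_1 lc_g_rc_21_3 lc_g_rc_27_3 lc_g_Cert_tree lc_g_rc_21_2 lc_g_rc_21_3 lc_g_Cert_tree lc_g_Cert_tree lc_g_rc_24_9) (@D3.rec (fun _ => (Cert rels S Gen.g)) lc_g_rc_21_3 lc_g_Cert_tree lc_g_Cert_tree lc_g_rc_21_2 lc_g_Cert_tree lc_g_rc_27_9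 lc_g_rc_23_3 lc_g_rc_21_3 lc_g_Cert_tree lc_g_Cert_tree lc_g_rc_21_2 lc_g_rc_27_9 lc_g_rc_27_6 lc_g_rc_21_2 lc_g_rc_21_2 lc_g_rc_21_2 lc_g_rc_21_3 lc_g_rc_21_3 lc_g_rc_26_3 lc_g_rc_27_6 lc_g_rc_27_3 lc_g_rc_26_0 lc_g_Cert_tree lc_g_Cert_tree lc_g_rc_21_3 lc_g_Cert_tree lc_g_Cert_tree lc_g_rc_26_9 lc_g_rc_24_9 lc_g_rc_24_1 lc_g_rc_26_0 lc_g_rc_21_3 lc_g_rc_23_7 lc_g_rc_21_3 lc_g_rc_21_3 lc_g_rc_24_7 lc_g_rc_23_1 lc_g_rc_21_3 lc_g_Cert_tree lc_g_rc_25_7 lc_g_Cert_tree lc_g_Cert_tree lc_g_rc_26_9 lc_g_rc_26_6 lc_g_Cert_tree lc_g_rc_23_3 lc_g_rc_21_3 lc_g_rc_21_2 lc_g_rc_21_2 lc_g_rc_23_9 lc_g_rc_21_2 lc_g_rc_21_3 lc_g_rc_23_1 lc_g_rc_24_9 lc_g_rc_23_7 lc_g_rc_26_0 lc_g_rc_21_2 lc_g_rc_24_9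 lc_g_Cert_tree lc_g_Cert_tree lc_g_Cert_tree lc_g_rc_27_3) (@D3.rec (fun _ => (Cert rels S Gen.g)) lc_g_Cert_tree lc_g_rc_23_1 lc_g_Cert_tree lc_g_Cert_tree lc_g_rc_24_1 lc_g_rc_24_9 lc_g_rc_27_3 lc_g_Cert_tree lc_g_Cert_tree lc_g_rc_27_9 lc_g_rc_26_0 lc_g_rc_24_7 lc_g_rc_24_9 lc_g_rc_26_9 lc_g_rc_27_6 lc_g_Cert_tree lc_g_Cert_tree lc_g_rc_26_9 lc_g_rc_21_3 lc_g_Cert_tree lc_g_rc_21_2 lc_g_Cert_tree lc_g_rc_26_0 lc_g_Cert_tree lc_g_rc_25_7 lc_g_Cert_tree lc_g_Cert_tree lc_g_rc_21_2 lc_g_Cert_tree lc_g_rc_21_2 lc_g_rc_21_3 lc_g_rc_26_0 lc_g_Cert_tree lc_g_Cert_tree lc_g_rc_24_1 lc_g_Cert_tree lc_g_Cert_tree lc_g_rc_21_2 lc_g_rc_21_3 lc_g_Cert_tree lc_g_rc_23_7 lc_g_rc_21_3 lc_g_Cert_tree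 lc_g_rc_23_7 lc_g_rc_21_3 lc_g_rc_21_3 lc_g_Cert_tree lc_g_Cert_tree lc_g_rc_21_2 lc_g_rc_21_3 lc_g_Cert_tree lc_g_Cert_tree lc_g_rc_21_2 lc_g_Cert_tree lc_g_Cert_tree lc_g_Cert_tree lc_g_Cert_tree lc_g_rc_21_3 lc_g_rc_26_0 lc_g_rc_21_3 lc_g_Cert_tree lc_g_rc_27_6)
def ce_g_5 : D2 → D3 → (Cert rels S Gen.g) := @D2.rec (fun _ => D3 → (Cert rels S Gen.g)) (@D3.rec (fun _ => (Cert rels S Gen.g)) lc_g_rc_27_6 lc_g_Cert_tree lc_g_Cert_tree lc_g_rc_26_0 lc_g_rc_27_9 lc_g_rc_21_3 lc_g_Cert_tree lc_g_Cert_tree lc_g_rc_21_3 lc_g_rc_21_3 lc_g_rc_26_6 lc_g_Cert_tree lc_g_rc_26_3 lc_g_rc_23_3 lc_g_Cert_tree lc_g_Cert_tree lc_g_rc_26_3 lc_g_Cert_tree lc_g_rc_21_2 lc_g_Cert_tree lc_g_rc_24_3 lc_g_rc_21_3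 lc_g_Cert_tree lc_g_rc_24_9 lc_g_Cert_tree lc_g_rc_27_3 lc_g_Cert_tree lc_g_Cert_tree lc_g_rc_24_9 lc_g_rc_24_9 lc_g_rc_24_9 lc_g_Cert_tree lc_g_Cert_tree lc_g_rc_24_1 lc_g_rc_26_6 lc_g_rc_21_3 lc_g_Cert_tree lc_g_rc_24_7 lc_g_Cert_tree lc_g_Cert_tree lc_g_Cert_tree lc_g_rc_26_9 lc_g_rc_21_3 lc_g_Cert_tree lc_g_Cert_tree lc_g_Cert_tree lc_g_rc_24_1 lc_g_rc_24_9 lc_g_rc_21_3 lc_g_rc_24_7 lc_g_rc_27_6 lc_g_rc_21_3 lc_g_Cert_tree lc_g_Cert_tree lc_g_Cert_tree lc_g_rc_21_2 lc_g_rc_21_2 lc_g_rc_23_7 lc_g_rc_27_3 lc_g_Cert_tree lc_g_rc_24_9 lc_g_Cert_tree) (@D3.rec (fun _ => (Cert rels S Gen.g)) lc_g_Cert_tree lc_g_rc_24_1 lc_g_rc_27_0 lc_g_rc_24_7 lc_g_Cert_tree lc_g_rc_23_1 lc_g_rc_27_6 lc_g_rc_23_9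 lc_g_Cert_tree lc_g_Cert_tree lc_g_Cert_tree lc_g_rc_27_3 lc_g_rc_27_9 lc_g_Cert_tree lc_g_rc_27_3 lc_g_rc_27_3 lc_g_Cert_tree lc_g_rc_26_3 lc_g_Cert_tree lc_g_rc_24_1 lc_g_rc_26_6 lc_g_rc_24_9 lc_g_rc_27_0 lc_g_rc_23_9 lc_g_Cert_tree lc_g_rc_24_3 lc_g_Cert_tree lc_g_rc_27_9 lc_g_Cert_tree lc_g_rc_21_2 lc_g_rc_24_7 lc_g_rc_26_3 lc_g_Cert_tree lc_g_rc_21_2 lc_g_Cert_tree lc_g_Cert_tree lc_g_Cert_tree lc_g_rc_21_3 lc_g_Cert_tree lc_g_rc_21_2 lc_g_Cert_tree lc_g_Cert_tree lc_g_rc_24_1 lc_g_Cert_tree lc_g_rc_21_3 lc_g_Cert_tree lc_g_rc_21_2 lc_g_Cert_tree lc_g_Cert_tree lc_g_rc_21_2 lc_g_Cert_tree lc_g_rc_24_1 lc_g_rc_27_0 lc_g_Cert_tree lc_g_Cert_tree lc_g_rc_26_3 lc_g_Cert_tree lc_g_rc_21_3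 lc_g_rc_21_3 lc_g_Cert_tree lc_g_rc_21_2 lc_g_Cert_tree) (@D3.rec (fun _ => (Cert rels S Gen.g)) lc_g_rc_21_2 lc_g_Cert_tree lc_g_rc_21_3 lc_g_Cert_tree lc_g_rc_24_7 lc_g_Cert_tree lc_g_rc_24_7 lc_g_rc_23_1 lc_g_rc_27_6 lc_g_rc_24_3 lc_g_Cert_tree lc_g_Cert_tree lc_g_rc_24_3 lc_g_Cert_tree lc_g_rc_21_3 lc_g_Cert_tree lc_g_rc_21_2 lc_g_rc_24_3 lc_g_Cert_tree lc_g_Cert_tree lc_g_rc_23_1 lc_g_Cert_tree lc_g_rc_21_3 lc_g_Cert_tree lc_g_rc_21_2 lc_g_Cert_tree lc_g_rc_23_3 lc_g_rc_27_6 lc_g_Cert_tree lc_g_rc_24_1 lc_g_rc_21_2 lc_g_Cert_tree lc_g_rc_23_3 lc_g_rc_21_3 lc_g_Cert_tree lc_g_rc_21_2 lc_g_Cert_tree lc_g_Cert_tree lc_g_Cert_tree lc_g_rc_21_3 lc_g_Cert_tree lc_g_rc_26_9 lc_g_rc_27_0 lc_g_rc_24_7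 lc_g_rc_26_9 lc_g_rc_27_0 lc_g_rc_21_2 lc_g_rc_21_2 lc_g_rc_24_3 lc_g_rc_21_3 lc_g_rc_23_9 lc_g_rc_24_7 lc_g_rc_27_6 lc_g_rc_23_1 lc_g_rc_26_6 lc_g_rc_24_7 lc_g_Cert_tree lc_g_Cert_tree lc_g_rc_23_7 lc_g_Cert_tree lc_g_rc_21_3 lc_g_Cert_tree) (@D3.rec (fun _ => (Cert rels S Gen.g)) lc_g_rc_21_2 lc_g_rc_24_9 lc_g_rc_26_9 lc_g_rc_24_3 lc_g_rc_21_3 lc_g_Cert_tree lc_g_rc_21_2 lc_g_Cert_tree lc_g_Cert_tree lc_g_Cert_tree lc_g_rc_21_3 lc_g_rc_27_3 lc_g_rc_21_2 lc_g_rc_26_9 lc_g_rc_27_6 lc_g_Cert_tree lc_g_rc_27_3 lc_g_rc_21_2 lc_g_Cert_tree lc_g_Cert_tree lc_g_Cert_tree lc_g_rc_21_3 lc_g_Cert_tree lc_g_rc_24_1 lc_g_rc_21_3 lc_g_Cert_tree lc_g_rc_21_2 lc_g_Cert_tree lc_g_Cert_tree lc_g_rc_23_1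 lc_g_Cert_tree lc_g_rc_27_6 lc_g_rc_21_3 lc_g_Cert_tree lc_g_rc_27_6 lc_g_rc_21_2 lc_g_rc_23_9 lc_g_rc_24_7 lc_g_rc_27_0 lc_g_rc_23_9 lc_g_rc_27_9 lc_g_rc_27_0 lc_g_rc_23_9 lc_g_Cert_tree lc_g_Cert_tree lc_g_Cert_tree lc_g_Cert_tree lc_g_Cert_tree lc_g_rc_21_3 lc_g_Cert_tree lc_g_rc_21_2 lc_g_rc_21_3 lc_g_Cert_tree lc_g_rc_21_2 lc_g_Cert_tree lc_g_Cert_tree lc_g_rc_27_6 lc_g_rc_21_3 lc_g_Cert_tree lc_g_rc_21_2 lc_g_rc_26_9 lc_g_rc_27_0) (@D3.rec (fun _ => (Cert rels S Gen.g)) lc_g_rc_27_3 lc_g_rc_27_6 lc_g_Cert_tree lc_g_rc_21_2 lc_g_Cert_tree lc_g_rc_24_3 lc_g_Cert_tree lc_g_rc_23_1 lc_g_Cert_tree lc_g_Cert_tree lc_g_Cert_tree lc_g_rc_21_2 lc_g_rc_21_3 lc_g_Cert_tree lc_g_rc_21_2 lc_g_Cert_tree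 lc_g_Cert_tree lc_g_Cert_tree lc_g_rc_27_6 lc_g_rc_21_2 lc_g_rc_21_2 lc_g_rc_21_2 lc_g_rc_26_6 lc_g_rc_26_3 lc_g_Cert_tree lc_g_Cert_tree lc_g_Cert_tree lc_g_rc_21_2 lc_g_Cert_tree lc_g_rc_21_2 lc_g_rc_21_2 lc_g_rc_27_6 lc_g_rc_21_2 lc_g_rc_21_3 lc_g_Cert_tree lc_g_Cert_tree lc_g_Cert_tree lc_g_Cert_tree lc_g_Cert_tree lc_g_rc_21_2 lc_g_Cert_tree lc_g_rc_21_3 lc_g_Cert_tree lc_g_rc_21_2 lc_g_rc_21_3 lc_g_rc_24_1 lc_g_rc_27_3 lc_g_rc_26_9 lc_g_rc_27_9 lc_g_rc_23_9 lc_g_Cert_tree lc_g_rc_24_9 lc_g_Cert_tree lc_g_rc_24_7 lc_g_Cert_tree lc_g_rc_23_1 lc_g_rc_24_3 lc_g_rc_21_3 lc_g_rc_23_1 lc_g_Cert_tree lc_g_Cert_tree lc_g_rc_21_3) (@D3.rec (fun _ => (Cert rels S Gen.g)) lc_g_Cert_tree lc_g_rc_21_3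 lc_g_Cert_tree lc_g_rc_21_2 lc_g_rc_21_2 lc_g_Cert_tree lc_g_rc_27_3 lc_g_rc_21_3 lc_g_rc_27_9 lc_g_Cert_tree lc_g_rc_23_3 lc_g_rc_21_3 lc_g_Cert_tree lc_g_rc_21_2 lc_g_rc_21_2 lc_g_rc_24_3 lc_g_Cert_tree lc_g_rc_27_3 lc_g_rc_24_7 lc_g_Cert_tree lc_g_rc_24_3 lc_g_rc_27_6 lc_g_rc_24_3 lc_g_Cert_tree lc_g_Cert_tree lc_g_Cert_tree lc_g_Cert_tree lc_g_rc_27_9 lc_g_Cert_tree lc_g_rc_21_2 lc_g_rc_24_7 lc_g_Cert_tree lc_g_Cert_tree lc_g_Cert_tree lc_g_rc_21_3 lc_g_Cert_tree lc_g_rc_21_2 lc_g_rc_21_2 lc_g_rc_24_3 lc_g_Cert_tree lc_g_rc_21_3 lc_g_Cert_tree lc_g_rc_21_2 lc_g_Cert_tree lc_g_rc_27_6 lc_g_rc_26_3 lc_g_rc_24_1 lc_g_rc_26_9 lc_g_rc_27_3 lc_g_rc_26_9 lc_g_rc_27_0 lc_g_rc_27_6 lc_g_rc_27_3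 lc_g_Cert_tree lc_g_rc_27_6 lc_g_rc_26_6 lc_g_Cert_tree lc_g_rc_23_1 lc_g_rc_23_7 lc_g_rc_26_9 lc_g_Cert_tree lc_g_Cert_tree) (@D3.rec (fun _ => (Cert rels S Gen.g)) lc_g_rc_21_3 lc_g_Cert_tree lc_g_rc_21_2 lc_g_rc_23_9 lc_g_rc_26_9 lc_g_rc_24_3 lc_g_rc_23_1 lc_g_rc_27_0 lc_g_rc_24_3 lc_g_Cert_tree lc_g_Cert_tree lc_g_rc_21_3 lc_g_Cert_tree lc_g_rc_21_3 lc_g_Cert_tree lc_g_rc_21_2 lc_g_Cert_tree lc_g_rc_21_3 lc_g_Cert_tree lc_g_rc_21_2 lc_g_Cert_tree lc_g_rc_21_2 lc_g_Cert_tree lc_g_rc_21_3 lc_g_rc_27_6 lc_g_Cert_tree lc_g_rc_27_0 lc_g_rc_26_6 lc_g_rc_23_1 lc_g_rc_23_9 lc_g_rc_23_9 lc_g_rc_26_3 lc_g_rc_27_9 lc_g_Cert_tree lc_g_rc_26_3 lc_g_rc_21_3 lc_g_rc_21_3 lc_g_Cert_tree lc_g_rc_21_2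 lc_g_rc_27_9 lc_g_rc_24_3 lc_g_rc_27_6 lc_g_Cert_tree lc_g_rc_23_1 lc_g_rc_23_9 lc_g_Cert_tree lc_g_Cert_tree lc_g_Cert_tree lc_g_rc_21_3 lc_g_rc_24_3 lc_g_Cert_tree lc_g_rc_23_3 lc_g_rc_21_2 lc_g_rc_27_9 lc_g_rc_27_6 lc_g_rc_21_3 lc_g_rc_21_2 lc_g_rc_26_3 lc_g_rc_23_3 lc_g_rc_21_3 lc_g_rc_21_3 lc_g_Cert_tree) (@D3.rec (fun _ => (Cert rels S Gen.g)) lc_g_Cert_tree lc_g_rc_21_2 lc_g_rc_23_9 lc_g_rc_21_3 lc_g_Cert_tree lc_g_Cert_tree lc_g_Cert_tree lc_g_Cert_tree lc_g_rc_21_2 lc_g_rc_27_6 lc_g_rc_21_3 lc_g_rc_21_2 lc_g_rc_26_6 lc_g_rc_21_2 lc_g_rc_23_7 lc_g_rc_21_3 lc_g_rc_21_2 lc_g_rc_26_0 lc_g_Cert_tree lc_g_rc_26_6 lc_g_rc_21_3 lc_g_Cert_tree lc_g_rc_24_7 lc_g_rc_21_3 lc_g_Cert_tree lc_g_rc_24_1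 lc_g_rc_21_3 lc_g_Cert_tree lc_g_Cert_tree lc_g_rc_21_2 lc_g_rc_27_3 lc_g_rc_26_3 lc_g_rc_26_3 lc_g_rc_23_1 lc_g_rc_23_7 lc_g_rc_21_2 lc_g_rc_21_3 lc_g_Cert_tree lc_g_rc_26_9 lc_g_rc_21_2 lc_g_rc_26_9 lc_g_Cert_tree lc_g_rc_27_3 lc_g_rc_27_3 lc_g_rc_26_0 lc_g_rc_23_7 lc_g_rc_27_3 lc_g_rc_21_2 lc_g_rc_21_3 lc_g_rc_21_3 lc_g_Cert_tree lc_g_Cert_tree lc_g_rc_21_2 lc_g_Cert_tree lc_g_Cert_tree lc_g_rc_27_3 lc_g_rc_21_2 lc_g_Cert_tree lc_g_rc_21_3 lc_g_Cert_tree lc_g_Cert_tree lc_g_Cert_tree) (@D3.rec (fun _ => (Cert rels S Gen.g)) lc_g_Cert_tree lc_g_rc_21_2 lc_g_rc_21_3 lc_g_Cert_tree lc_g_rc_21_2 lc_g_Cert_tree lc_g_rc_24_3 lc_g_Cert_tree lc_g_rc_21_3 lc_g_Cert_tree lc_g_rc_21_2 lc_g_rc_27_3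 lc_g_rc_21_3 lc_g_Cert_tree lc_g_rc_21_3 lc_g_Cert_tree lc_g_rc_21_2 lc_g_rc_21_3 lc_g_Cert_tree lc_g_rc_21_2 lc_g_Cert_tree lc_g_rc_21_3 lc_g_rc_24_1 lc_g_rc_24_3 lc_g_Cert_tree lc_g_rc_21_2 lc_g_rc_21_3 lc_g_Cert_tree lc_g_rc_21_3 lc_g_Cert_tree lc_g_rc_26_3 lc_g_Cert_tree lc_g_rc_24_7 lc_g_Cert_tree lc_g_rc_23_1 lc_g_rc_23_3 lc_g_Cert_tree lc_g_Cert_tree lc_g_rc_21_3 lc_g_Cert_tree lc_g_rc_21_3 lc_g_Cert_tree lc_g_rc_21_2 lc_g_rc_26_6 lc_g_Cert_tree lc_g_rc_26_3 lc_g_Cert_tree lc_g_rc_26_6 lc_g_rc_27_3 lc_g_rc_24_3 lc_g_Cert_tree lc_g_rc_21_3 lc_g_Cert_tree lc_g_Cert_tree lc_g_rc_21_2 lc_g_rc_24_7 lc_g_rc_26_3 lc_g_Cert_tree lc_g_Cert_tree lc_g_Cert_tree lc_g_Cert_tree lc_g_rc_21_3)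 (@D3.rec (fun _ => (Cert rels S Gen.g)) lc_g_Cert_tree lc_g_rc_21_2 lc_g_Cert_tree lc_g_Cert_tree lc_g_rc_24_1 lc_g_rc_23_3 lc_g_rc_21_3 lc_g_Cert_tree lc_g_rc_27_3 lc_g_Cert_tree lc_g_Cert_tree lc_g_rc_21_2 lc_g_Cert_tree lc_g_rc_23_9 lc_g_rc_26_3 lc_g_Cert_tree lc_g_Cert_tree lc_g_rc_21_3 lc_g_Cert_tree lc_g_rc_26_6 lc_g_rc_21_3 lc_g_Cert_tree lc_g_Cert_tree lc_g_Cert_tree lc_g_rc_21_3 lc_g_Cert_tree lc_g_rc_24_9 lc_g_rc_26_3 lc_g_rc_21_2 lc_g_rc_23_9 lc_g_rc_27_0 lc_g_Cert_tree lc_g_Cert_tree lc_g_rc_24_7 lc_g_Cert_tree lc_g_rc_24_7 lc_g_rc_23_1 lc_g_rc_27_3 lc_g_rc_24_7 lc_g_Cert_tree lc_g_Cert_tree lc_g_Cert_tree lc_g_Cert_tree lc_g_rc_21_3 lc_g_Cert_tree lc_g_rc_21_2 lc_g_rc_24_7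 lc_g_Cert_tree lc_g_Cert_tree lc_g_Cert_tree lc_g_rc_23_1 lc_g_Cert_tree lc_g_rc_21_2 lc_g_Cert_tree lc_g_rc_21_3 lc_g_Cert_tree lc_g_rc_21_2 lc_g_rc_26_6 lc_g_Cert_tree lc_g_rc_21_3 lc_g_rc_21_2 lc_g_rc_27_3) (@D3.rec (fun _ => (Cert rels S Gen.g)) lc_g_rc_21_3 lc_g_rc_26_3 lc_g_rc_27_0 lc_g_rc_26_0 lc_g_rc_24_7 lc_g_rc_23_1 lc_g_rc_27_6 lc_g_rc_23_9 lc_g_Cert_tree lc_g_Cert_tree lc_g_rc_23_1 lc_g_Cert_tree lc_g_rc_21_3 lc_g_Cert_tree lc_g_rc_26_0 lc_g_rc_24_7 lc_g_rc_21_3 lc_g_Cert_tree lc_g_rc_21_2 lc_g_Cert_tree lc_g_Cert_tree lc_g_rc_21_2 lc_g_rc_21_2 lc_g_rc_26_9 lc_g_rc_27_6 lc_g_Cert_tree lc_g_rc_27_3 lc_g_rc_27_0 lc_g_rc_26_9 lc_g_Cert_tree lc_g_rc_23_7 lc_g_Cert_tree lc_g_rc_21_2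 lc_g_Cert_tree lc_g_rc_21_3 lc_g_Cert_tree lc_g_rc_21_2 lc_g_rc_21_3 lc_g_Cert_tree lc_g_rc_21_2 lc_g_rc_21_2 lc_g_Cert_tree lc_g_Cert_tree lc_g_rc_21_3 lc_g_Cert_tree lc_g_rc_27_3 lc_g_rc_21_2 lc_g_rc_26_0 lc_g_rc_24_7 lc_g_rc_27_0 lc_g_rc_23_9 lc_g_rc_27_0 lc_g_Cert_tree lc_g_Cert_tree lc_g_rc_23_7 lc_g_Cert_tree lc_g_rc_21_3 lc_g_Cert_tree lc_g_rc_21_2 lc_g_rc_21_3 lc_g_Cert_tree lc_g_rc_26_3) (@D3.rec (fun _ => (Cert rels S Gen.g)) lc_g_rc_25_3 lc_g_Cert_tree lc_g_rc_27_6 lc_g_rc_21_3 lc_g_Cert_tree lc_g_rc_21_2 lc_g_rc_26_9 lc_g_rc_27_0 lc_g_rc_27_3 lc_g_rc_26_9 lc_g_rc_21_3 lc_g_Cert_tree lc_g_rc_21_2 lc_g_Cert_tree lc_g_Cert_tree lc_g_Cert_tree lc_g_rc_26_3 lc_g_rc_27_3 lc_g_rc_21_2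 lc_g_rc_21_3 lc_g_Cert_tree lc_g_rc_21_2 lc_g_Cert_tree lc_g_rc_24_3 lc_g_Cert_tree lc_g_rc_27_6 lc_g_rc_23_3 lc_g_rc_21_2 lc_g_rc_21_2 lc_g_rc_21_2 lc_g_rc_26_0 lc_g_Cert_tree lc_g_Cert_tree lc_g_Cert_tree lc_g_rc_21_3 lc_g_Cert_tree lc_g_rc_21_2 lc_g_rc_21_2 lc_g_rc_27_6 lc_g_rc_21_2 lc_g_rc_21_3 lc_g_Cert_tree lc_g_Cert_tree lc_g_Cert_tree lc_g_Cert_tree lc_g_rc_23_7 lc_g_Cert_tree lc_g_rc_24_3 lc_g_Cert_tree lc_g_rc_21_3 lc_g_Cert_tree lc_g_rc_21_2 lc_g_rc_21_3 lc_g_rc_24_1 lc_g_rc_23_9 lc_g_rc_26_9 lc_g_rc_27_9 lc_g_rc_27_3 lc_g_rc_21_3 lc_g_rc_26_9 lc_g_Cert_tree lc_g_rc_21_3) (@D3.rec (fun _ => (Cert rels S Gen.g)) lc_g_rc_27_0 lc_g_rc_24_3 lc_g_Cert_tree lc_g_Cert_tree lc_g_rc_21_3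 lc_g_Cert_tree lc_g_rc_27_9 lc_g_Cert_tree lc_g_rc_21_2 lc_g_rc_24_3 lc_g_Cert_tree lc_g_rc_21_3 lc_g_Cert_tree lc_g_rc_21_2 lc_g_rc_21_2 lc_g_rc_24_3 lc_g_rc_21_3 lc_g_Cert_tree lc_g_rc_21_2 lc_g_Cert_tree lc_g_rc_27_6 lc_g_rc_21_2 lc_g_rc_27_0 lc_g_rc_23_3 lc_g_rc_27_0 lc_g_Cert_tree lc_g_rc_23_9 lc_g_rc_23_1 lc_g_Cert_tree lc_g_rc_26_0 lc_g_Cert_tree lc_g_rc_21_3 lc_g_Cert_tree lc_g_rc_21_2 lc_g_rc_23_9 lc_g_Cert_tree lc_g_Cert_tree lc_g_Cert_tree lc_g_rc_26_6 lc_g_rc_24_7 lc_g_rc_26_0 lc_g_rc_23_1 lc_g_Cert_tree lc_g_rc_23_9 lc_g_Cert_tree lc_g_rc_21_3 lc_g_Cert_tree lc_g_rc_21_3 lc_g_Cert_tree lc_g_Cert_tree lc_g_rc_21_2 lc_g_rc_24_3 lc_g_rc_27_3 lc_g_rc_26_0 lc_g_rc_23_9 lc_g_rc_24_1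 lc_g_Cert_tree lc_g_rc_23_1 lc_g_rc_21_3 lc_g_Cert_tree lc_g_rc_27_3 lc_g_Cert_tree) (@D3.rec (fun _ => (Cert rels S Gen.g)) lc_g_rc_24_7 lc_g_Cert_tree lc_g_rc_24_1 lc_g_rc_23_9 lc_g_rc_24_7 lc_g_rc_24_3 lc_g_rc_26_6 lc_g_rc_23_1 lc_g_Cert_tree lc_g_Cert_tree lc_g_Cert_tree lc_g_rc_23_3 lc_g_rc_21_3 lc_g_Cert_tree lc_g_rc_21_2 lc_g_Cert_tree lc_g_rc_21_3 lc_g_Cert_tree lc_g_rc_21_2 lc_g_Cert_tree lc_g_rc_23_3 lc_g_rc_21_2 lc_g_Cert_tree lc_g_rc_27_6 lc_g_Cert_tree lc_g_rc_27_3 lc_g_Cert_tree lc_g_rc_26_9 lc_g_Cert_tree lc_g_Cert_tree lc_g_rc_21_3 lc_g_Cert_tree lc_g_rc_21_2 lc_g_rc_27_6 lc_g_Cert_tree lc_g_rc_21_3 lc_g_rc_21_2 lc_g_rc_26_6 lc_g_Cert_tree lc_g_rc_26_3 lc_g_rc_21_2 lc_g_rc_26_9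 lc_g_rc_23_9 lc_g_Cert_tree lc_g_rc_23_7 lc_g_rc_23_7 lc_g_Cert_tree lc_g_Cert_tree lc_g_rc_21_3 lc_g_rc_21_3 lc_g_Cert_tree lc_g_rc_21_2 lc_g_rc_26_9 lc_g_rc_26_9 lc_g_rc_23_3 lc_g_rc_26_0 lc_g_rc_27_6 lc_g_rc_24_1 lc_g_rc_21_2 lc_g_rc_21_2 lc_g_rc_23_1 lc_g_rc_26_6) (@D3.rec (fun _ => (Cert rels S Gen.g)) lc_g_rc_25_11 lc_g_rc_21_3 lc_g_Cert_tree lc_g_rc_26_3 lc_g_Cert_tree lc_g_rc_21_3 lc_g_Cert_tree lc_g_rc_21_3 lc_g_Cert_tree lc_g_rc_26_0 lc_g_rc_26_6 lc_g_rc_24_9 lc_g_rc_21_2 lc_g_rc_21_3 lc_g_rc_21_3 lc_g_Cert_tree lc_g_rc_21_2 lc_g_rc_24_3 lc_g_rc_21_3 lc_g_Cert_tree lc_g_rc_27_6 lc_g_rc_21_2 lc_g_Cert_tree lc_g_rc_27_0 lc_g_rc_26_3 lc_g_rc_21_3 lc_g_Cert_tree lc_g_Cert_tree lc_g_rc_23_9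 lc_g_rc_21_3 lc_g_rc_21_2 lc_g_rc_21_2 lc_g_rc_26_3 lc_g_Cert_tree lc_g_rc_21_3 lc_g_Cert_tree lc_g_rc_21_2 lc_g_rc_21_2 lc_g_rc_21_3 lc_g_rc_27_3 lc_g_rc_21_3 lc_g_Cert_tree lc_g_rc_21_2 lc_g_rc_21_3 lc_g_Cert_tree lc_g_rc_21_2 lc_g_rc_26_0 lc_g_rc_23_3 lc_g_Cert_tree lc_g_Cert_tree lc_g_Cert_tree lc_g_rc_21_2 lc_g_rc_21_3 lc_g_Cert_tree lc_g_rc_21_3 lc_g_Cert_tree lc_g_rc_23_3 lc_g_rc_21_2 lc_g_Cert_tree lc_g_rc_21_3 lc_g_Cert_tree lc_g_Cert_tree) (@D3.rec (fun _ => (Cert rels S Gen.g)) lc_g_rc_27_3 lc_g_rc_23_1 lc_g_rc_26_9 lc_g_rc_27_0 lc_g_rc_24_3 lc_g_rc_26_6 lc_g_Cert_tree lc_g_Cert_tree lc_g_rc_23_7 lc_g_rc_21_2 lc_g_rc_21_2 lc_g_Cert_tree lc_g_rc_26_3 lc_g_Cert_tree lc_g_Cert_tree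 lc_g_rc_23_3 lc_g_rc_23_3 lc_g_Cert_tree lc_g_rc_24_9 lc_g_Cert_tree lc_g_Cert_tree lc_g_rc_24_7 lc_g_Cert_tree lc_g_rc_23_1 lc_g_Cert_tree lc_g_Cert_tree lc_g_Cert_tree lc_g_Cert_tree lc_g_rc_27_3 lc_g_rc_27_3 lc_g_rc_26_6 lc_g_rc_26_3 lc_g_Cert_tree lc_g_rc_26_6 lc_g_rc_24_9 lc_g_Cert_tree lc_g_rc_23_9 lc_g_Cert_tree lc_g_rc_21_3 lc_g_Cert_tree lc_g_Cert_tree lc_g_rc_27_3 lc_g_rc_27_3 lc_g_rc_24_7 lc_g_Cert_tree lc_g_rc_26_9 lc_g_Cert_tree lc_g_Cert_tree lc_g_Cert_tree lc_g_rc_21_3 lc_g_Cert_tree lc_g_rc_21_2 lc_g_rc_26_3 lc_g_Cert_tree lc_g_Cert_tree lc_g_rc_24_1 lc_g_Cert_tree lc_g_rc_21_3 lc_g_Cert_tree lc_g_rc_21_2 lc_g_Cert_tree lc_g_Cert_tree) (@D3.rec (fun _ => (Cert rels S Gen.g))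 lc_g_rc_21_2 lc_g_Cert_tree lc_g_rc_24_1 lc_g_rc_26_3 lc_g_Cert_tree lc_g_Cert_tree lc_g_rc_21_2 lc_g_Cert_tree lc_g_rc_26_0 lc_g_rc_21_3 lc_g_Cert_tree lc_g_rc_21_2 lc_g_Cert_tree lc_g_rc_21_2 lc_g_Cert_tree lc_g_rc_21_3 lc_g_Cert_tree lc_g_rc_21_2 lc_g_rc_23_7 lc_g_Cert_tree lc_g_rc_21_3 lc_g_Cert_tree lc_g_rc_21_2 lc_g_rc_26_6 lc_g_rc_27_9 lc_g_rc_27_0 lc_g_Cert_tree lc_g_rc_23_7 lc_g_Cert_tree lc_g_rc_21_3 lc_g_Cert_tree lc_g_rc_21_2 lc_g_rc_27_0 lc_g_rc_27_3 lc_g_rc_21_2 lc_g_rc_21_2 lc_g_rc_26_0 lc_g_Cert_tree lc_g_Cert_tree lc_g_Cert_tree lc_g_rc_26_0 lc_g_Cert_tree lc_g_rc_21_2 lc_g_Cert_tree lc_g_rc_27_6 lc_g_rc_21_2 lc_g_rc_21_3 lc_g_Cert_tree lc_g_Cert_tree lc_g_Cert_tree lc_g_Cert_tree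 lc_g_Cert_tree lc_g_Cert_tree lc_g_rc_27_0 lc_g_rc_27_9 lc_g_rc_21_2 lc_g_rc_21_3 lc_g_Cert_tree lc_g_Cert_tree lc_g_Cert_tree lc_g_rc_21_3 lc_g_rc_21_2) (@D3.rec (fun _ => (Cert rels S Gen.g)) lc_g_rc_21_2 lc_g_rc_24_1 lc_g_rc_26_9 lc_g_rc_27_0 lc_g_rc_24_7 lc_g_rc_26_6 lc_g_Cert_tree lc_g_Cert_tree lc_g_rc_23_7 lc_g_rc_21_2 lc_g_rc_21_2 lc_g_rc_21_2 lc_g_Cert_tree lc_g_rc_23_3 lc_g_Cert_tree lc_g_rc_24_9 lc_g_Cert_tree lc_g_rc_26_6 lc_g_rc_27_0 lc_g_rc_24_1 lc_g_Cert_tree lc_g_rc_21_3 lc_g_Cert_tree lc_g_rc_21_3 lc_g_Cert_tree lc_g_Cert_tree lc_g_rc_23_7 lc_g_rc_26_3 lc_g_Cert_tree lc_g_rc_24_7 lc_g_Cert_tree lc_g_rc_21_3 lc_g_Cert_tree lc_g_Cert_tree lc_g_rc_21_3 lc_g_Cert_tree lc_g_rc_21_3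 lc_g_rc_21_2 lc_g_rc_21_3 lc_g_rc_24_9 lc_g_Cert_tree lc_g_rc_24_3 lc_g_Cert_tree lc_g_rc_21_3 lc_g_Cert_tree lc_g_Cert_tree lc_g_rc_27_3 lc_g_rc_21_2 lc_g_rc_24_7 lc_g_rc_21_2 lc_g_Cert_tree lc_g_Cert_tree lc_g_Cert_tree lc_g_rc_21_3 lc_g_Cert_tree lc_g_rc_21_2 lc_g_Cert_tree lc_g_Cert_tree lc_g_rc_24_1 lc_g_Cert_tree lc_g_rc_21_3 lc_g_Cert_tree) (@D3.rec (fun _ => (Cert rels S Gen.g)) lc_g_rc_27_6 lc_g_Cert_tree lc_g_Cert_tree lc_g_rc_26_3 lc_g_Cert_tree lc_g_rc_23_7 lc_g_rc_24_7 lc_g_Cert_tree lc_g_Cert_tree lc_g_rc_21_2 lc_g_Cert_tree lc_g_rc_21_3 lc_g_rc_21_3 lc_g_Cert_tree lc_g_rc_23_7 lc_g_Cert_tree lc_g_rc_21_2 lc_g_Cert_tree lc_g_rc_21_3 lc_g_Cert_tree lc_g_rc_21_2 lc_g_rc_23_7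 lc_g_Cert_tree lc_g_rc_21_3 lc_g_Cert_tree lc_g_rc_21_2 lc_g_rc_21_3 lc_g_rc_27_9 lc_g_rc_27_0 lc_g_rc_21_2 lc_g_Cert_tree lc_g_rc_23_7 lc_g_Cert_tree lc_g_rc_21_3 lc_g_Cert_tree lc_g_rc_21_2 lc_g_rc_27_0 lc_g_rc_27_3 lc_g_rc_21_2 lc_g_rc_21_2 lc_g_rc_26_0 lc_g_Cert_tree lc_g_Cert_tree lc_g_Cert_tree lc_g_rc_26_0 lc_g_Cert_tree lc_g_rc_21_2 lc_g_rc_21_2 lc_g_rc_26_3 lc_g_rc_21_2 lc_g_rc_21_3 lc_g_Cert_tree lc_g_Cert_tree lc_g_Cert_tree lc_g_Cert_tree lc_g_rc_21_3 lc_g_Cert_tree lc_g_rc_21_2 lc_g_rc_27_3 lc_g_rc_27_9 lc_g_rc_26_6 lc_g_rc_24_9) (@D3.rec (fun _ => (Cert rels S Gen.g)) lc_g_Cert_tree lc_g_rc_24_9 lc_g_rc_26_6 lc_g_rc_26_9 lc_g_Cert_tree lc_g_rc_27_6 lc_g_rc_25_11 lc_g_rc_21_2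 lc_g_rc_24_9 lc_g_rc_26_6 lc_g_rc_24_9 lc_g_rc_24_1 lc_g_Cert_tree lc_g_rc_23_3 lc_g_Cert_tree lc_g_Cert_tree lc_g_rc_21_3 lc_g_Cert_tree lc_g_rc_27_9 lc_g_Cert_tree lc_g_rc_21_2 lc_g_Cert_tree lc_g_rc_21_2 lc_g_Cert_tree lc_g_rc_21_3 lc_g_Cert_tree lc_g_rc_27_3 lc_g_rc_21_2 lc_g_Cert_tree lc_g_rc_23_7 lc_g_rc_21_2 lc_g_Cert_tree lc_g_rc_21_2 lc_g_rc_21_2 lc_g_rc_24_1 lc_g_Cert_tree lc_g_rc_24_1 lc_g_rc_21_3 lc_g_Cert_tree lc_g_rc_23_3 lc_g_Cert_tree lc_g_rc_27_3 lc_g_rc_21_3 lc_g_Cert_tree lc_g_Cert_tree lc_g_Cert_tree lc_g_rc_23_3 lc_g_rc_21_2 lc_g_Cert_tree lc_g_rc_21_3 lc_g_Cert_tree lc_g_rc_21_3 lc_g_Cert_tree lc_g_rc_21_2 lc_g_rc_24_3 lc_g_rc_27_3 lc_g_Cert_tree lc_g_rc_23_7 lc_g_Cert_tree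 lc_g_rc_21_3 lc_g_Cert_tree lc_g_rc_21_2) (@D3.rec (fun _ => (Cert rels S Gen.g)) lc_g_Cert_tree lc_g_rc_21_2 lc_g_rc_21_2 lc_g_Cert_tree lc_g_rc_21_2 lc_g_rc_21_2 lc_g_rc_26_6 lc_g_Cert_tree lc_g_rc_26_3 lc_g_rc_21_3 lc_g_rc_21_3 lc_g_rc_23_7 lc_g_Cert_tree lc_g_rc_27_3 lc_g_Cert_tree lc_g_rc_26_3 lc_g_rc_27_6 lc_g_rc_26_3 lc_g_rc_27_3 lc_g_rc_21_3 lc_g_Cert_tree lc_g_Cert_tree lc_g_Cert_tree lc_g_rc_21_2 lc_g_rc_21_2 lc_g_rc_24_1 lc_g_rc_27_0 lc_g_rc_23_1 lc_g_rc_23_1 lc_g_Cert_tree lc_g_Cert_tree lc_g_Cert_tree lc_g_Cert_tree lc_g_Cert_tree lc_g_rc_21_2 lc_g_rc_26_9 lc_g_rc_26_6 lc_g_Cert_tree lc_g_rc_23_9 lc_g_Cert_tree lc_g_rc_27_3 lc_g_rc_27_6 lc_g_Cert_tree lc_g_rc_26_9 lc_g_Cert_tree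 lc_g_rc_23_7 lc_g_rc_21_2 lc_g_Cert_tree lc_g_rc_21_2 lc_g_Cert_tree lc_g_Cert_tree lc_g_rc_23_7 lc_g_Cert_tree lc_g_rc_21_3 lc_g_rc_21_2 lc_g_Cert_tree lc_g_rc_23_9 lc_g_rc_27_6 lc_g_Cert_tree lc_g_rc_21_3 lc_g_rc_23_7 lc_g_rc_26_9) (@D3.rec (fun _ => (Cert rels S Gen.g)) lc_g_Cert_tree lc_g_Cert_tree lc_g_rc_27_6 lc_g_Cert_tree lc_g_rc_26_6 lc_g_rc_21_3 lc_g_Cert_tree lc_g_Cert_tree lc_g_Cert_tree lc_g_rc_21_3 lc_g_Cert_tree lc_g_rc_26_3 lc_g_Cert_tree lc_g_Cert_tree lc_g_Cert_tree lc_g_rc_21_3 lc_g_Cert_tree lc_g_Cert_tree lc_g_rc_26_9 lc_g_rc_26_3 lc_g_rc_27_6 lc_g_rc_26_3 lc_g_rc_24_1 lc_g_Cert_tree lc_g_rc_23_7 lc_g_rc_21_2 lc_g_rc_26_3 lc_g_Cert_tree lc_g_rc_24_7 lc_g_Cert_tree lc_g_rc_23_1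 lc_g_rc_24_3 lc_g_Cert_tree lc_g_Cert_tree lc_g_Cert_tree lc_g_rc_24_1 lc_g_rc_27_3 lc_g_Cert_tree lc_g_rc_21_2 lc_g_rc_27_6 lc_g_rc_23_3 lc_g_Cert_tree lc_g_rc_21_2 lc_g_rc_21_2 lc_g_rc_26_3 lc_g_Cert_tree lc_g_rc_26_3 lc_g_Cert_tree lc_g_Cert_tree lc_g_Cert_tree lc_g_Cert_tree lc_g_rc_21_3 lc_g_Cert_tree lc_g_rc_21_2 lc_g_Cert_tree lc_g_rc_24_1 lc_g_Cert_tree lc_g_rc_21_3 lc_g_Cert_tree lc_g_rc_27_0 lc_g_Cert_tree lc_g_Cert_tree) (@D3.rec (fun _ => (Cert rels S Gen.g)) lc_g_rc_26_9 lc_g_Cert_tree lc_g_rc_23_7 lc_g_rc_21_2 lc_g_Cert_tree lc_g_Cert_tree lc_g_rc_21_3 lc_g_Cert_tree lc_g_rc_26_6 lc_g_rc_21_3 lc_g_Cert_tree lc_g_rc_21_2 lc_g_Cert_tree lc_g_rc_21_2 lc_g_rc_21_2 lc_g_Cert_tree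 lc_g_Cert_tree lc_g_rc_27_3 lc_g_Cert_tree lc_g_Cert_tree lc_g_rc_21_3 lc_g_rc_21_2 lc_g_rc_21_3 lc_g_Cert_tree lc_g_Cert_tree lc_g_rc_21_2 lc_g_rc_21_2 lc_g_rc_26_0 lc_g_rc_21_2 lc_g_rc_27_6 lc_g_Cert_tree lc_g_rc_23_3 lc_g_rc_24_7 lc_g_Cert_tree lc_g_rc_23_1 lc_g_rc_27_6 lc_g_Cert_tree lc_g_rc_21_2 lc_g_rc_21_3 lc_g_Cert_tree lc_g_Cert_tree lc_g_rc_21_2 lc_g_rc_23_9 lc_g_rc_24_9 lc_g_rc_21_3 lc_g_Cert_tree lc_g_rc_23_7 lc_g_Cert_tree lc_g_rc_27_0 lc_g_Cert_tree lc_g_rc_21_2 lc_g_Cert_tree lc_g_rc_23_7 lc_g_Cert_tree lc_g_Cert_tree lc_g_rc_23_7 lc_g_rc_21_2 lc_g_Cert_tree lc_g_rc_23_9 lc_g_rc_23_7 lc_g_rc_27_6 lc_g_rc_21_3) (@D3.rec (fun _ => (Cert rels S Gen.g)) lc_g_Cert_tree lc_g_rc_21_2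 lc_g_Cert_tree lc_g_Cert_tree lc_g_rc_24_1 lc_g_Cert_tree lc_g_Cert_tree lc_g_rc_21_3 lc_g_Cert_tree lc_g_Cert_tree lc_g_rc_21_2 lc_g_Cert_tree lc_g_rc_27_3 lc_g_rc_23_1 lc_g_rc_27_0 lc_g_rc_21_3 lc_g_Cert_tree lc_g_Cert_tree lc_g_rc_21_2 lc_g_rc_24_3 lc_g_Cert_tree lc_g_Cert_tree lc_g_Cert_tree lc_g_rc_21_2 lc_g_rc_21_2 lc_g_rc_27_3 lc_g_rc_26_6 lc_g_Cert_tree lc_g_rc_23_7 lc_g_Cert_tree lc_g_rc_21_2 lc_g_Cert_tree lc_g_rc_27_6 lc_g_Cert_tree lc_g_rc_26_3 lc_g_rc_21_3 lc_g_Cert_tree lc_g_Cert_tree lc_g_rc_27_6 lc_g_rc_24_9 lc_g_rc_21_3 lc_g_Cert_tree lc_g_rc_26_3 lc_g_Cert_tree lc_g_Cert_tree lc_g_Cert_tree lc_g_rc_21_3 lc_g_Cert_tree lc_g_Cert_tree lc_g_rc_24_3 lc_g_Cert_tree lc_g_rc_21_2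 lc_g_rc_23_1 lc_g_rc_27_3 lc_g_Cert_tree lc_g_Cert_tree lc_g_rc_21_2 lc_g_rc_24_7 lc_g_Cert_tree lc_g_Cert_tree lc_g_Cert_tree lc_g_rc_26_6) (@D3.rec (fun _ => (Cert rels S Gen.g)) lc_g_Cert_tree lc_g_rc_21_2 lc_g_Cert_tree lc_g_rc_21_3 lc_g_Cert_tree lc_g_rc_27_3 lc_g_rc_27_3 lc_g_Cert_tree lc_g_rc_21_2 lc_g_Cert_tree lc_g_rc_21_3 lc_g_Cert_tree lc_g_rc_21_2 lc_g_Cert_tree lc_g_Cert_tree lc_g_rc_24_1 lc_g_Cert_tree lc_g_Cert_tree lc_g_rc_26_3 lc_g_Cert_tree lc_g_Cert_tree lc_g_rc_21_2 lc_g_rc_21_3 lc_g_rc_27_6 lc_g_Cert_tree lc_g_rc_26_9 lc_g_rc_27_9 lc_g_rc_27_0 lc_g_rc_27_6 lc_g_rc_27_3 lc_g_Cert_tree lc_g_rc_24_1 lc_g_Cert_tree lc_g_rc_21_3 lc_g_Cert_tree lc_g_rc_23_3 lc_g_rc_21_3 lc_g_Cert_tree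 lc_g_rc_26_3 lc_g_Cert_tree lc_g_Cert_tree lc_g_rc_21_3 lc_g_Cert_tree lc_g_rc_21_2 lc_g_rc_27_9 lc_g_rc_27_0 lc_g_rc_27_6 lc_g_rc_21_3 lc_g_Cert_tree lc_g_Cert_tree lc_g_rc_21_2 lc_g_rc_21_2 lc_g_Cert_tree lc_g_rc_24_3 lc_g_Cert_tree lc_g_Cert_tree lc_g_Cert_tree lc_g_rc_26_0 lc_g_rc_24_3 lc_g_rc_23_3 lc_g_Cert_tree lc_g_rc_27_3) (@D3.rec (fun _ => (Cert rels S Gen.g)) lc_g_rc_26_3 lc_g_rc_21_3 lc_g_Cert_tree lc_g_rc_21_2 lc_g_Cert_tree lc_g_Cert_tree lc_g_rc_21_3 lc_g_Cert_tree lc_g_Cert_tree lc_g_rc_24_1 lc_g_rc_21_2 lc_g_rc_21_2 lc_g_rc_26_3 lc_g_rc_24_7 lc_g_Cert_tree lc_g_Cert_tree lc_g_Cert_tree lc_g_rc_21_2 lc_g_Cert_tree lc_g_rc_21_2 lc_g_rc_23_3 lc_g_rc_26_3 lc_g_Cert_tree lc_g_rc_21_3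 lc_g_Cert_tree lc_g_Cert_tree lc_g_Cert_tree lc_g_rc_21_2 lc_g_Cert_tree lc_g_rc_26_0 lc_g_rc_27_6 lc_g_rc_23_7 lc_g_rc_21_3 lc_g_Cert_tree lc_g_rc_21_2 lc_g_rc_21_3 lc_g_Cert_tree lc_g_rc_27_6 lc_g_Cert_tree lc_g_rc_21_3 lc_g_Cert_tree lc_g_Cert_tree lc_g_rc_27_0 lc_g_rc_27_6 lc_g_Cert_tree lc_g_rc_27_9 lc_g_rc_27_0 lc_g_rc_27_6 lc_g_rc_27_0 lc_g_rc_27_6 lc_g_rc_24_7 lc_g_Cert_tree lc_g_rc_23_1 lc_g_rc_21_3 lc_g_Cert_tree lc_g_rc_26_3 lc_g_Cert_tree lc_g_Cert_tree lc_g_rc_21_3 lc_g_Cert_tree lc_g_rc_21_2 lc_g_Cert_tree) (@D3.rec (fun _ => (Cert rels S Gen.g)) lc_g_rc_21_3 lc_g_Cert_tree lc_g_rc_21_2 lc_g_Cert_tree lc_g_Cert_tree lc_g_rc_27_0 lc_g_rc_24_7 lc_g_rc_21_3 lc_g_Cert_tree lc_g_rc_24_7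 lc_g_rc_21_3 lc_g_Cert_tree lc_g_rc_21_3 lc_g_rc_21_2 lc_g_rc_21_3 lc_g_Cert_tree lc_g_rc_21_2 lc_g_Cert_tree lc_g_Cert_tree lc_g_rc_21_3 lc_g_rc_27_6 lc_g_rc_21_2 lc_g_rc_26_3 lc_g_rc_26_9 lc_g_rc_24_7 lc_g_rc_21_2 lc_g_Cert_tree lc_g_rc_21_3 lc_g_Cert_tree lc_g_rc_21_2 lc_g_rc_21_3 lc_g_Cert_tree lc_g_rc_21_2 lc_g_rc_26_6 lc_g_Cert_tree lc_g_rc_26_3 lc_g_Cert_tree lc_g_rc_27_3 lc_g_rc_21_3 lc_g_rc_23_1 lc_g_rc_27_0 lc_g_rc_23_9 lc_g_rc_27_6 lc_g_Cert_tree lc_g_Cert_tree lc_g_Cert_tree lc_g_rc_27_0 lc_g_Cert_tree lc_g_rc_21_2 lc_g_rc_21_3 lc_g_Cert_tree lc_g_rc_21_2 lc_g_rc_21_2 lc_g_rc_27_0 lc_g_rc_27_9 lc_g_rc_27_3 lc_g_Cert_tree lc_g_Cert_tree lc_g_rc_27_6 lc_g_rc_27_3 lc_g_rc_21_3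 lc_g_Cert_tree) (@D3.rec (fun _ => (Cert rels S Gen.g)) lc_g_rc_21_2 lc_g_Cert_tree lc_g_rc_27_6 lc_g_rc_21_2 lc_g_Cert_tree lc_g_Cert_tree lc_g_Cert_tree lc_g_rc_26_3 lc_g_Cert_tree lc_g_rc_21_3 lc_g_rc_23_3 lc_g_rc_21_2 lc_g_rc_23_3 lc_g_rc_23_3 lc_g_rc_21_2 lc_g_rc_21_3 lc_g_Cert_tree lc_g_Cert_tree lc_g_Cert_tree lc_g_Cert_tree lc_g_Cert_tree lc_g_rc_21_3 lc_g_Cert_tree lc_g_rc_21_2 lc_g_rc_21_2 lc_g_Cert_tree lc_g_Cert_tree lc_g_rc_23_7 lc_g_Cert_tree lc_g_rc_21_3 lc_g_Cert_tree lc_g_rc_21_3 lc_g_Cert_tree lc_g_rc_21_3 lc_g_Cert_tree lc_g_rc_21_2 lc_g_Cert_tree lc_g_Cert_tree lc_g_rc_24_1 lc_g_Cert_tree lc_g_rc_21_3 lc_g_Cert_tree lc_g_rc_21_2 lc_g_rc_26_3 lc_g_rc_27_3 lc_g_Cert_tree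 lc_g_rc_23_7 lc_g_rc_27_6 lc_g_Cert_tree lc_g_rc_21_2 lc_g_Cert_tree lc_g_rc_23_7 lc_g_rc_21_2 lc_g_Cert_tree lc_g_rc_21_3 lc_g_rc_27_6 lc_g_rc_21_3 lc_g_Cert_tree lc_g_rc_21_2 lc_g_Cert_tree lc_g_rc_26_3 lc_g_Cert_tree) (@D3.rec (fun _ => (Cert rels S Gen.g)) lc_g_rc_21_2 lc_g_Cert_tree lc_g_rc_23_7 lc_g_rc_21_2 lc_g_rc_27_0 lc_g_rc_26_3 lc_g_rc_27_9 lc_g_rc_27_0 lc_g_rc_27_6 lc_g_rc_21_3 lc_g_rc_27_0 lc_g_rc_24_1 lc_g_rc_23_9 lc_g_Cert_tree lc_g_rc_23_9 lc_g_rc_21_3 lc_g_rc_26_6 lc_g_rc_23_9 lc_g_rc_23_9 lc_g_rc_26_3 lc_g_Cert_tree lc_g_rc_24_3 lc_g_Cert_tree lc_g_rc_21_3 lc_g_Cert_tree lc_g_rc_21_2 lc_g_rc_21_3 lc_g_Cert_tree lc_g_rc_21_2 lc_g_rc_23_9 lc_g_Cert_tree lc_g_Cert_tree lc_g_rc_21_3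 lc_g_Cert_tree lc_g_rc_27_3 lc_g_rc_21_2 lc_g_rc_21_3 lc_g_rc_24_7 lc_g_rc_24_7 lc_g_rc_21_3 lc_g_Cert_tree lc_g_rc_21_2 lc_g_rc_26_6 lc_g_Cert_tree lc_g_rc_27_9 lc_g_Cert_tree lc_g_Cert_tree lc_g_rc_21_3 lc_g_Cert_tree lc_g_rc_21_2 lc_g_Cert_tree lc_g_rc_26_3 lc_g_Cert_tree lc_g_Cert_tree lc_g_rc_27_3 lc_g_rc_21_2 lc_g_rc_21_3 lc_g_Cert_tree lc_g_rc_21_2 lc_g_Cert_tree lc_g_rc_26_6 lc_g_rc_27_6) (@D3.rec (fun _ => (Cert rels S Gen.g)) lc_g_Cert_tree lc_g_Cert_tree lc_g_rc_26_0 lc_g_Cert_tree lc_g_rc_26_6 lc_g_Cert_tree lc_g_Cert_tree lc_g_rc_23_9 lc_g_rc_26_6 lc_g_rc_27_6 lc_g_rc_21_2 lc_g_rc_24_1 lc_g_rc_21_3 lc_g_Cert_tree lc_g_Cert_tree lc_g_rc_21_3 lc_g_Cert_tree lc_g_Cert_tree lc_g_Cert_tree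 lc_g_Cert_tree lc_g_Cert_tree lc_g_rc_24_9 lc_g_Cert_tree lc_g_rc_21_3 lc_g_rc_21_2 lc_g_Cert_tree lc_g_rc_21_2 lc_g_Cert_tree lc_g_rc_21_3 lc_g_rc_21_2 lc_g_rc_23_1 lc_g_rc_24_9 lc_g_rc_21_2 lc_g_rc_24_7 lc_g_rc_27_6 lc_g_rc_27_3 lc_g_rc_24_7 lc_g_Cert_tree lc_g_Cert_tree lc_g_rc_27_6 lc_g_rc_21_3 lc_g_Cert_tree lc_g_Cert_tree lc_g_rc_21_2 lc_g_rc_21_3 lc_g_Cert_tree lc_g_rc_24_3 lc_g_Cert_tree lc_g_Cert_tree lc_g_rc_24_3 lc_g_Cert_tree lc_g_Cert_tree lc_g_rc_26_6 lc_g_Cert_tree lc_g_rc_24_3 lc_g_rc_23_7 lc_g_rc_27_6 lc_g_Cert_tree lc_g_rc_24_1 lc_g_rc_26_3 lc_g_rc_21_3 lc_g_Cert_tree) (@D3.rec (fun _ => (Cert rels S Gen.g)) lc_g_rc_21_2 lc_g_Cert_tree lc_g_Cert_tree lc_g_rc_24_1 lc_g_Cert_tree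 lc_g_Cert_tree lc_g_rc_21_3 lc_g_Cert_tree lc_g_Cert_tree lc_g_rc_21_2 lc_g_Cert_tree lc_g_rc_27_9 lc_g_rc_27_3 lc_g_rc_27_6 lc_g_rc_27_0 lc_g_Cert_tree lc_g_Cert_tree lc_g_rc_21_2 lc_g_rc_24_9 lc_g_Cert_tree lc_g_rc_23_3 lc_g_rc_26_9 lc_g_Cert_tree lc_g_rc_24_9 lc_g_rc_23_3 lc_g_Cert_tree lc_g_rc_21_2 lc_g_rc_26_6 lc_g_rc_27_9 lc_g_rc_21_2 lc_g_Cert_tree lc_g_rc_21_3 lc_g_Cert_tree lc_g_Cert_tree lc_g_Cert_tree lc_g_rc_21_3 lc_g_Cert_tree lc_g_Cert_tree lc_g_rc_27_0 lc_g_Cert_tree lc_g_rc_21_2 lc_g_Cert_tree lc_g_rc_23_1 lc_g_rc_21_2 lc_g_rc_21_2 lc_g_Cert_tree lc_g_rc_27_6 lc_g_rc_21_2 lc_g_Cert_tree lc_g_rc_27_9 lc_g_rc_27_6 lc_g_rc_27_3 lc_g_rc_21_2 lc_g_rc_24_7 lc_g_rc_26_6 lc_g_rc_24_7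 lc_g_rc_23_1 lc_g_Cert_tree lc_g_Cert_tree lc_g_rc_23_1 lc_g_Cert_tree lc_g_rc_23_7) (@D3.rec (fun _ => (Cert rels S Gen.g)) lc_g_Cert_tree lc_g_rc_21_3 lc_g_Cert_tree lc_g_rc_21_2 lc_g_Cert_tree lc_g_rc_27_6 lc_g_rc_21_3 lc_g_Cert_tree lc_g_rc_21_2 lc_g_Cert_tree lc_g_Cert_tree lc_g_rc_21_3 lc_g_Cert_tree lc_g_Cert_tree lc_g_rc_21_3 lc_g_Cert_tree lc_g_rc_27_3 lc_g_rc_21_2 lc_g_rc_21_3 lc_g_Cert_tree lc_g_Cert_tree lc_g_rc_27_9 lc_g_rc_21_3 lc_g_rc_27_6 lc_g_rc_27_0 lc_g_rc_27_0 lc_g_rc_27_3 lc_g_rc_26_6 lc_g_Cert_tree lc_g_rc_21_2 lc_g_Cert_tree lc_g_Cert_tree lc_g_Cert_tree lc_g_rc_26_0 lc_g_rc_26_9 lc_g_Cert_tree lc_g_rc_26_0 lc_g_rc_21_3 lc_g_rc_26_6 lc_g_Cert_tree lc_g_rc_21_3 lc_g_Cert_tree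 lc_g_Cert_tree lc_g_Cert_tree lc_g_rc_21_3 lc_g_Cert_tree lc_g_Cert_tree lc_g_rc_21_2 lc_g_rc_26_3 lc_g_rc_24_1 lc_g_rc_21_3 lc_g_Cert_tree lc_g_rc_23_1 lc_g_Cert_tree lc_g_rc_21_2 lc_g_Cert_tree lc_g_rc_27_0 lc_g_rc_24_7 lc_g_rc_21_3 lc_g_Cert_tree lc_g_rc_21_2 lc_g_rc_21_3) (@D3.rec (fun _ => (Cert rels S Gen.g)) lc_g_rc_27_9 lc_g_rc_27_0 lc_g_rc_23_1 lc_g_rc_27_0 lc_g_rc_23_1 lc_g_rc_21_3 lc_g_Cert_tree lc_g_Cert_tree lc_g_Cert_tree lc_g_rc_23_9 lc_g_Cert_tree lc_g_rc_21_3 lc_g_Cert_tree lc_g_rc_21_2 lc_g_Cert_tree lc_g_Cert_tree lc_g_rc_26_3 lc_g_rc_21_3 lc_g_Cert_tree lc_g_rc_21_2 lc_g_Cert_tree lc_g_Cert_tree lc_g_rc_21_3 lc_g_Cert_tree lc_g_Cert_tree lc_g_rc_21_3 lc_g_Cert_tree lc_g_Cert_tree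 lc_g_rc_21_2 lc_g_Cert_tree lc_g_rc_27_9 lc_g_rc_27_0 lc_g_rc_23_1 lc_g_rc_27_6 lc_g_rc_21_3 lc_g_Cert_tree lc_g_rc_21_3 lc_g_rc_21_2 lc_g_rc_27_0 lc_g_rc_21_2 lc_g_Cert_tree lc_g_rc_21_3 lc_g_Cert_tree lc_g_Cert_tree lc_g_rc_26_9 lc_g_rc_27_0 lc_g_Cert_tree lc_g_rc_21_2 lc_g_Cert_tree lc_g_rc_23_1 lc_g_rc_23_3 lc_g_Cert_tree lc_g_rc_23_1 lc_g_rc_26_9 lc_g_rc_26_0 lc_g_rc_26_9 lc_g_Cert_tree lc_g_rc_27_6 lc_g_Cert_tree lc_g_rc_21_3 lc_g_rc_23_7 lc_g_rc_21_2) (@D3.rec (fun _ => (Cert rels S Gen.g)) lc_g_rc_24_1 lc_g_rc_27_6 lc_g_rc_21_3 lc_g_Cert_tree lc_g_Cert_tree lc_g_Cert_tree lc_g_rc_26_0 lc_g_Cert_tree lc_g_Cert_tree lc_g_Cert_tree lc_g_rc_21_3 lc_g_Cert_tree lc_g_Cert_tree lc_g_rc_21_2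 lc_g_rc_21_2 lc_g_rc_21_3 lc_g_rc_21_3 lc_g_Cert_tree lc_g_rc_21_3 lc_g_Cert_tree lc_g_rc_21_2 lc_g_rc_21_3 lc_g_Cert_tree lc_g_rc_23_7 lc_g_rc_21_2 lc_g_rc_26_6 lc_g_Cert_tree lc_g_rc_23_7 lc_g_Cert_tree lc_g_rc_21_3 lc_g_rc_23_7 lc_g_rc_27_0 lc_g_rc_21_2 lc_g_rc_21_2 lc_g_rc_23_3 lc_g_rc_21_3 lc_g_Cert_tree lc_g_Cert_tree lc_g_rc_21_3 lc_g_Cert_tree lc_g_Cert_tree lc_g_rc_26_0 lc_g_rc_21_3 lc_g_Cert_tree lc_g_rc_21_2 lc_g_rc_21_2 lc_g_rc_26_0 lc_g_rc_21_2 lc_g_rc_21_2 lc_g_rc_27_3 lc_g_Cert_tree lc_g_rc_23_1 lc_g_rc_26_3 lc_g_rc_23_3 lc_g_Cert_tree lc_g_rc_21_2 lc_g_rc_21_3 lc_g_Cert_tree lc_g_rc_26_0 lc_g_Cert_tree lc_g_Cert_tree lc_g_rc_21_2) (@D3.rec (fun _ => (Cert rels S Gen.g))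 lc_g_rc_21_3 lc_g_Cert_tree lc_g_Cert_tree lc_g_rc_26_6 lc_g_rc_27_3 lc_g_Cert_tree lc_g_rc_27_3 lc_g_rc_21_3 lc_g_rc_21_3 lc_g_rc_26_0 lc_g_rc_26_0 lc_g_rc_26_6 lc_g_Cert_tree lc_g_rc_21_3 lc_g_rc_21_2 lc_g_Cert_tree lc_g_rc_21_2 lc_g_rc_27_6 lc_g_Cert_tree lc_g_rc_27_3 lc_g_rc_21_2 lc_g_rc_21_2 lc_g_Cert_tree lc_g_rc_23_1 lc_g_Cert_tree lc_g_rc_24_1 lc_g_Cert_tree lc_g_rc_21_3 lc_g_Cert_tree lc_g_Cert_tree lc_g_Cert_tree lc_g_rc_21_3 lc_g_Cert_tree lc_g_rc_21_2 lc_g_rc_21_3 lc_g_Cert_tree lc_g_Cert_tree lc_g_rc_23_7 lc_g_Cert_tree lc_g_rc_23_7 lc_g_Cert_tree lc_g_rc_26_3 lc_g_rc_26_9 lc_g_Cert_tree lc_g_Cert_tree lc_g_Cert_tree lc_g_rc_27_6 lc_g_Cert_tree lc_g_rc_24_1 lc_g_rc_26_3 lc_g_rc_21_3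 lc_g_rc_27_3 lc_g_rc_21_3 lc_g_rc_24_3 lc_g_rc_27_9 lc_g_rc_27_9 lc_g_rc_23_1 lc_g_rc_21_3 lc_g_Cert_tree lc_g_rc_21_3 lc_g_rc_26_3 lc_g_Cert_tree) (@D3.rec (fun _ => (Cert rels S Gen.g)) lc_g_rc_27_9 lc_g_rc_21_3 lc_g_rc_24_7 lc_g_rc_27_0 lc_g_rc_21_3 lc_g_rc_21_3 lc_g_rc_27_9 lc_g_rc_27_3 lc_g_rc_26_3 lc_g_rc_24_7 lc_g_rc_27_9 lc_g_Cert_tree lc_g_rc_26_3 lc_g_rc_21_2 lc_g_Cert_tree lc_g_rc_23_7 lc_g_Cert_tree lc_g_rc_21_3 lc_g_Cert_tree lc_g_rc_23_1 lc_g_rc_24_3 lc_g_rc_21_3 lc_g_Cert_tree lc_g_rc_21_2 lc_g_Cert_tree lc_g_Cert_tree lc_g_rc_23_1 lc_g_Cert_tree lc_g_rc_21_3 lc_g_Cert_tree lc_g_rc_21_2 lc_g_rc_26_3 lc_g_rc_27_3 lc_g_Cert_tree lc_g_rc_24_3 lc_g_rc_27_6 lc_g_Cert_tree lc_g_rc_21_2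 lc_g_Cert_tree lc_g_rc_24_1 lc_g_rc_21_2 lc_g_Cert_tree lc_g_rc_21_3 lc_g_rc_27_6 lc_g_rc_21_3 lc_g_Cert_tree lc_g_rc_21_2 lc_g_rc_23_7 lc_g_Cert_tree lc_g_rc_21_3 lc_g_Cert_tree lc_g_rc_21_2 lc_g_Cert_tree lc_g_rc_21_3 lc_g_Cert_tree lc_g_Cert_tree lc_g_rc_21_2 lc_g_rc_21_3 lc_g_Cert_tree lc_g_rc_21_3 lc_g_rc_21_3 lc_g_rc_27_6) (@D3.rec (fun _ => (Cert rels S Gen.g)) lc_g_Cert_tree lc_g_rc_21_3 lc_g_Cert_tree lc_g_Cert_tree lc_g_rc_21_2 lc_g_rc_27_3 lc_g_rc_23_9 lc_g_Cert_tree lc_g_rc_26_6 lc_g_rc_27_6 lc_g_rc_23_1 lc_g_Cert_tree lc_g_rc_26_3 lc_g_rc_24_1 lc_g_Cert_tree lc_g_rc_21_3 lc_g_Cert_tree lc_g_rc_21_2 lc_g_rc_21_3 lc_g_Cert_tree lc_g_rc_21_2 lc_g_Cert_tree lc_g_rc_21_3 lc_g_Cert_tree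 lc_g_rc_27_3 lc_g_rc_21_2 lc_g_rc_21_3 lc_g_rc_27_9 lc_g_rc_21_3 lc_g_rc_27_6 lc_g_Cert_tree lc_g_Cert_tree lc_g_rc_23_9 lc_g_Cert_tree lc_g_rc_21_3 lc_g_Cert_tree lc_g_rc_21_2 lc_g_rc_21_3 lc_g_Cert_tree lc_g_rc_21_2 lc_g_Cert_tree lc_g_Cert_tree lc_g_Cert_tree lc_g_rc_21_2 lc_g_rc_26_0 lc_g_rc_26_9 lc_g_Cert_tree lc_g_rc_26_6 lc_g_Cert_tree lc_g_rc_26_6 lc_g_rc_21_3 lc_g_rc_21_3 lc_g_rc_27_6 lc_g_rc_26_3 lc_g_rc_27_3 lc_g_Cert_tree lc_g_rc_21_2 lc_g_rc_26_3 lc_g_Cert_tree lc_g_rc_27_9 lc_g_rc_27_0 lc_g_rc_21_3) (@D3.rec (fun _ => (Cert rels S Gen.g)) lc_g_rc_27_0 lc_g_rc_27_6 lc_g_rc_24_9 lc_g_rc_27_3 lc_g_rc_26_3 lc_g_rc_21_3 lc_g_Cert_tree lc_g_rc_26_3 lc_g_rc_21_2 lc_g_rc_24_3 lc_g_Cert_tree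 lc_g_rc_23_1 lc_g_rc_26_6 lc_g_rc_27_3 lc_g_rc_23_1 lc_g_Cert_tree lc_g_Cert_tree lc_g_rc_21_2 lc_g_rc_26_3 lc_g_rc_27_0 lc_g_rc_26_0 lc_g_Cert_tree lc_g_Cert_tree lc_g_rc_21_3 lc_g_Cert_tree lc_g_rc_21_2 lc_g_rc_24_1 lc_g_rc_24_7 lc_g_rc_26_9 lc_g_rc_27_0 lc_g_rc_21_3 lc_g_rc_24_3 lc_g_Cert_tree lc_g_rc_21_3 lc_g_Cert_tree lc_g_rc_21_2 lc_g_rc_24_1 lc_g_rc_21_3 lc_g_rc_24_7 lc_g_rc_24_7 lc_g_rc_21_2 lc_g_rc_21_3 lc_g_Cert_tree lc_g_Cert_tree lc_g_rc_21_3 lc_g_Cert_tree lc_g_Cert_tree lc_g_rc_21_3 lc_g_Cert_tree lc_g_rc_21_2 lc_g_Cert_tree lc_g_rc_21_2 lc_g_rc_24_7 lc_g_rc_26_6 lc_g_rc_26_0 lc_g_Cert_tree lc_g_rc_24_1 lc_g_rc_26_9 lc_g_Cert_tree lc_g_Cert_tree lc_g_rc_21_3 lc_g_rc_26_0)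 (@D3.rec (fun _ => (Cert rels S Gen.g)) lc_g_rc_27_3 lc_g_rc_21_3 lc_g_rc_26_3 lc_g_rc_21_3 lc_g_rc_24_3 lc_g_Cert_tree lc_g_rc_21_3 lc_g_Cert_tree lc_g_rc_24_1 lc_g_rc_24_3 lc_g_Cert_tree lc_g_rc_24_1 lc_g_rc_21_2 lc_g_rc_27_6 lc_g_rc_26_3 lc_g_Cert_tree lc_g_Cert_tree lc_g_rc_21_2 lc_g_rc_27_6 lc_g_Cert_tree lc_g_rc_21_2 lc_g_rc_26_0 lc_g_rc_26_3 lc_g_rc_27_9 lc_g_rc_24_7 lc_g_rc_26_9 lc_g_rc_27_9 lc_g_Cert_tree lc_g_rc_27_9 lc_g_rc_21_3 lc_g_rc_27_9 lc_g_rc_24_3 lc_g_rc_27_0 lc_g_Cert_tree lc_g_rc_21_3 lc_g_rc_26_0 lc_g_rc_21_2 lc_g_rc_27_0 lc_g_rc_23_9 lc_g_rc_26_0 lc_g_rc_27_0 lc_g_Cert_tree lc_g_rc_21_3 lc_g_rc_21_3 lc_g_rc_21_2 lc_g_rc_26_0 lc_g_Cert_tree lc_g_Cert_tree lc_g_rc_27_6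 lc_g_Cert_tree lc_g_rc_21_2 lc_g_rc_21_2 lc_g_Cert_tree lc_g_rc_27_6 lc_g_Cert_tree lc_g_Cert_tree lc_g_rc_21_2 lc_g_Cert_tree lc_g_rc_26_3 lc_g_Cert_tree lc_g_Cert_tree lc_g_rc_21_2) (@D3.rec (fun _ => (Cert rels S Gen.g)) lc_g_Cert_tree lc_g_rc_27_6 lc_g_Cert_tree lc_g_rc_21_2 lc_g_rc_21_3 lc_g_Cert_tree lc_g_rc_26_3 lc_g_Cert_tree lc_g_rc_21_3 lc_g_Cert_tree lc_g_Cert_tree lc_g_rc_24_7 lc_g_rc_21_3 lc_g_rc_26_9 lc_g_rc_24_1 lc_g_rc_27_3 lc_g_rc_27_6 lc_g_rc_21_3 lc_g_Cert_tree lc_g_Cert_tree lc_g_rc_21_2 lc_g_Cert_tree lc_g_rc_24_3 lc_g_rc_26_9 lc_g_Cert_tree lc_g_rc_21_3 lc_g_Cert_tree lc_g_Cert_tree lc_g_rc_24_9 lc_g_rc_26_6 lc_g_rc_27_6 lc_g_Cert_tree lc_g_rc_21_3 lc_g_Cert_tree lc_g_rc_26_0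 lc_g_rc_21_2 lc_g_rc_21_3 lc_g_Cert_tree lc_g_rc_21_2 lc_g_rc_21_3 lc_g_rc_27_9 lc_g_Cert_tree lc_g_Cert_tree lc_g_rc_21_2 lc_g_rc_23_3 lc_g_rc_21_2 lc_g_rc_27_6 lc_g_rc_23_3 lc_g_rc_27_6 lc_g_rc_27_0 lc_g_rc_27_3 lc_g_rc_27_0 lc_g_rc_26_6 lc_g_Cert_tree lc_g_rc_21_3 lc_g_rc_21_2 lc_g_rc_24_9 lc_g_rc_26_0 lc_g_rc_24_9 lc_g_rc_24_1 lc_g_rc_27_6 lc_g_rc_24_1) (@D3.rec (fun _ => (Cert rels S Gen.g)) lc_g_Cert_tree lc_g_rc_23_1 lc_g_rc_24_7 lc_g_rc_27_6 lc_g_Cert_tree lc_g_rc_21_3 lc_g_rc_27_6 lc_g_rc_23_9 lc_g_Cert_tree lc_g_rc_23_7 lc_g_Cert_tree lc_g_rc_21_2 lc_g_Cert_tree lc_g_rc_21_2 lc_g_rc_23_1 lc_g_Cert_tree lc_g_rc_21_3 lc_g_rc_24_3 lc_g_rc_23_3 lc_g_rc_26_6 lc_g_rc_21_3 lc_g_rc_21_2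 lc_g_Cert_tree lc_g_rc_23_1 lc_g_rc_26_9 lc_g_rc_21_3 lc_g_rc_23_3 lc_g_rc_26_9 lc_g_rc_27_6 lc_g_rc_21_3 lc_g_Cert_tree lc_g_rc_21_2 lc_g_rc_27_6 lc_g_rc_21_3 lc_g_Cert_tree lc_g_rc_21_2 lc_g_Cert_tree lc_g_Cert_tree lc_g_rc_21_3 lc_g_Cert_tree lc_g_rc_21_2 lc_g_rc_21_2 lc_g_rc_26_3 lc_g_rc_27_3 lc_g_Cert_tree lc_g_rc_21_2 lc_g_Cert_tree lc_g_rc_27_3 lc_g_Cert_tree lc_g_Cert_tree lc_g_rc_21_3 lc_g_Cert_tree lc_g_Cert_tree lc_g_rc_21_2 lc_g_rc_21_2 lc_g_rc_21_2 lc_g_Cert_tree lc_g_Cert_tree lc_g_Cert_tree lc_g_Cert_tree lc_g_rc_21_3 lc_g_rc_27_3) (@D3.rec (fun _ => (Cert rels S Gen.g)) lc_g_rc_24_9 lc_g_rc_27_6 lc_g_Cert_tree lc_g_rc_21_3 lc_g_Cert_tree lc_g_rc_27_6 lc_g_rc_21_2 lc_g_Cert_tree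 lc_g_rc_21_2 lc_g_rc_27_3 lc_g_Cert_tree lc_g_rc_24_9 lc_g_rc_21_3 lc_g_Cert_tree lc_g_rc_21_2 lc_g_rc_21_2 lc_g_rc_26_6 lc_g_rc_23_1 lc_g_rc_21_3 lc_g_rc_21_2 lc_g_Cert_tree lc_g_Cert_tree lc_g_rc_21_2 lc_g_rc_26_9 lc_g_Cert_tree lc_g_rc_21_2 lc_g_rc_21_3 lc_g_rc_23_3 lc_g_rc_21_2 lc_g_rc_21_2 lc_g_rc_21_3 lc_g_rc_21_2 lc_g_rc_27_9 lc_g_rc_26_3 lc_g_Cert_tree lc_g_rc_26_0 lc_g_Cert_tree lc_g_rc_27_6 lc_g_rc_23_1 lc_g_rc_23_3 lc_g_rc_21_3 lc_g_Cert_tree lc_g_rc_21_3 lc_g_rc_27_3 lc_g_rc_21_2 lc_g_rc_27_9 lc_g_rc_21_3 lc_g_rc_24_7 lc_g_rc_23_3 lc_g_rc_26_6 lc_g_rc_23_1 lc_g_rc_27_6 lc_g_rc_21_3 lc_g_Cert_tree lc_g_Cert_tree lc_g_Cert_tree lc_g_rc_21_3 lc_g_Cert_tree lc_g_Cert_tree lc_g_rc_21_2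 lc_g_rc_27_6 lc_g_rc_24_9) (@D3.rec (fun _ => (Cert rels S Gen.g)) lc_g_rc_24_3 lc_g_rc_21_2 lc_g_rc_23_3 lc_g_Cert_tree lc_g_rc_21_3 lc_g_Cert_tree lc_g_rc_21_2 lc_g_rc_21_2 lc_g_rc_24_3 lc_g_Cert_tree lc_g_Cert_tree lc_g_rc_21_2 lc_g_rc_21_3 lc_g_rc_27_9 lc_g_rc_21_2 lc_g_rc_21_3 lc_g_rc_24_3 lc_g_rc_21_3 lc_g_Cert_tree lc_g_Cert_tree lc_g_rc_21_2 lc_g_rc_26_0 lc_g_Cert_tree lc_g_Cert_tree lc_g_rc_24_3 lc_g_rc_21_2 lc_g_Cert_tree lc_g_Cert_tree lc_g_Cert_tree lc_g_rc_21_3 lc_g_rc_23_3 lc_g_rc_23_9 lc_g_rc_21_2 lc_g_rc_27_6 lc_g_rc_21_2 lc_g_rc_21_2 lc_g_Cert_tree lc_g_rc_23_9 lc_g_rc_26_6 lc_g_rc_26_6 lc_g_rc_24_1 lc_g_rc_23_7 lc_g_rc_21_3 lc_g_Cert_tree lc_g_Cert_tree lc_g_Cert_tree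 lc_g_rc_26_6 lc_g_Cert_tree lc_g_Cert_tree lc_g_Cert_tree lc_g_rc_26_0 lc_g_rc_23_1 lc_g_rc_21_2 lc_g_rc_21_3 lc_g_Cert_tree lc_g_Cert_tree lc_g_rc_25_15 lc_g_rc_21_3 lc_g_Cert_tree lc_g_Cert_tree lc_g_rc_21_2 lc_g_rc_23_1) (@D3.rec (fun _ => (Cert rels S Gen.g)) lc_g_Cert_tree lc_g_Cert_tree lc_g_Cert_tree lc_g_rc_27_6 lc_g_Cert_tree lc_g_rc_27_6 lc_g_rc_21_2 lc_g_rc_25_11 lc_g_rc_24_7 lc_g_rc_27_6 lc_g_rc_21_2 lc_g_Cert_tree lc_g_rc_21_2 lc_g_rc_27_9 lc_g_Cert_tree lc_g_Cert_tree lc_g_rc_26_3 lc_g_Cert_tree lc_g_rc_26_6 lc_g_rc_26_6 lc_g_rc_23_3 lc_g_rc_26_6 lc_g_Cert_tree lc_g_rc_24_9 lc_g_Cert_tree lc_g_rc_21_2 lc_g_rc_24_7 lc_g_Cert_tree lc_g_rc_21_3 lc_g_Cert_tree lc_g_rc_25_7 lc_g_Cert_tree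 lc_g_Cert_tree lc_g_rc_26_3 lc_g_Cert_tree lc_g_rc_21_3 lc_g_rc_21_3 lc_g_rc_21_3 lc_g_rc_24_1 lc_g_rc_24_1 lc_g_rc_23_3 lc_g_rc_24_9 lc_g_Cert_tree lc_g_rc_23_1 lc_g_rc_25_19 lc_g_rc_21_3 lc_g_Cert_tree lc_g_rc_23_3 lc_g_Cert_tree lc_g_rc_21_2 lc_g_Cert_tree lc_g_Cert_tree lc_g_rc_26_6 lc_g_rc_21_2 lc_g_rc_23_3 lc_g_Cert_tree lc_g_rc_23_3 lc_g_rc_21_2 lc_g_rc_21_2 lc_g_Cert_tree lc_g_rc_21_2 lc_g_rc_21_2) (@D3.rec (fun _ => (Cert rels S Gen.g)) lc_g_rc_23_9 lc_g_rc_25_19 lc_g_rc_21_3 lc_g_Cert_tree lc_g_Cert_tree lc_g_Cert_tree lc_g_Cert_tree lc_g_rc_21_3 lc_g_Cert_tree lc_g_rc_21_2 lc_g_rc_26_6 lc_g_rc_26_3 lc_g_Cert_tree lc_g_rc_24_1 lc_g_Cert_tree lc_g_rc_26_0 lc_g_Cert_tree lc_g_Cert_tree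 lc_g_rc_21_3 lc_g_Cert_tree lc_g_Cert_tree lc_g_rc_21_2 lc_g_rc_24_1 lc_g_Cert_tree lc_g_rc_21_2 lc_g_Cert_tree lc_g_Cert_tree lc_g_rc_26_9 lc_g_rc_21_2 lc_g_Cert_tree lc_g_rc_23_9 lc_g_Cert_tree lc_g_rc_21_3 lc_g_Cert_tree lc_g_rc_23_1 lc_g_rc_23_7 lc_g_rc_23_9 lc_g_rc_21_3 lc_g_Cert_tree lc_g_rc_21_2 lc_g_Cert_tree lc_g_Cert_tree lc_g_rc_21_3 lc_g_Cert_tree lc_g_rc_21_2 lc_g_Cert_tree lc_g_rc_21_2 lc_g_rc_21_3 lc_g_Cert_tree lc_g_Cert_tree lc_g_rc_21_2 lc_g_Cert_tree lc_g_Cert_tree lc_g_Cert_tree lc_g_Cert_tree lc_g_rc_21_2 lc_g_rc_27_3 lc_g_rc_21_2 lc_g_rc_21_3 lc_g_Cert_tree lc_g_rc_21_2 lc_g_rc_21_3) (@D3.rec (fun _ => (Cert rels S Gen.g)) lc_g_Cert_tree lc_g_Cert_tree lc_g_rc_26_0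 lc_g_rc_27_9 lc_g_rc_21_3 lc_g_Cert_tree lc_g_Cert_tree lc_g_rc_21_2 lc_g_Cert_tree lc_g_rc_21_3 lc_g_Cert_tree lc_g_Cert_tree lc_g_Cert_tree lc_g_rc_21_3 lc_g_Cert_tree lc_g_rc_27_0 lc_g_rc_21_2 lc_g_Cert_tree lc_g_rc_21_2 lc_g_rc_27_9 lc_g_rc_21_3 lc_g_Cert_tree lc_g_rc_21_2 lc_g_Cert_tree lc_g_rc_21_3 lc_g_Cert_tree lc_g_Cert_tree lc_g_rc_26_9 lc_g_rc_21_3 lc_g_Cert_tree lc_g_rc_27_0 lc_g_rc_21_2 lc_g_rc_27_3 lc_g_rc_25_19 lc_g_Cert_tree lc_g_Cert_tree lc_g_rc_26_9 lc_g_rc_21_3 lc_g_Cert_tree lc_g_rc_21_3 lc_g_Cert_tree lc_g_rc_26_6 lc_g_rc_27_3 lc_g_Cert_tree lc_g_rc_27_6 lc_g_rc_26_3 lc_g_rc_27_0 lc_g_rc_21_2 lc_g_rc_21_2 lc_g_rc_21_3 lc_g_rc_21_2 lc_g_Cert_tree lc_g_Cert_tree lc_g_Cert_tree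 lc_g_rc_21_2 lc_g_Cert_tree lc_g_rc_21_3 lc_g_rc_21_3 lc_g_rc_23_1 lc_g_rc_27_0 lc_g_Cert_tree lc_g_rc_27_3) (@D3.rec (fun _ => (Cert rels S Gen.g)) lc_g_rc_21_2 lc_g_Cert_tree lc_g_rc_27_3 lc_g_rc_21_3 lc_g_Cert_tree lc_g_rc_27_0 lc_g_rc_27_0 lc_g_rc_27_6 lc_g_rc_27_0 lc_g_rc_21_2 lc_g_rc_27_6 lc_g_rc_21_2 lc_g_Cert_tree lc_g_rc_21_3 lc_g_rc_21_2 lc_g_rc_21_3 lc_g_Cert_tree lc_g_rc_27_6 lc_g_rc_21_3 lc_g_Cert_tree lc_g_Cert_tree lc_g_Cert_tree lc_g_rc_26_0 lc_g_rc_26_3 lc_g_rc_23_9 lc_g_rc_26_9 lc_g_rc_24_3 lc_g_Cert_tree lc_g_rc_26_0 lc_g_Cert_tree lc_g_Cert_tree lc_g_rc_27_6 lc_g_rc_21_3 lc_g_Cert_tree lc_g_Cert_tree lc_g_rc_21_2 lc_g_rc_23_7 lc_g_rc_26_3 lc_g_rc_27_0 lc_g_rc_23_7 lc_g_rc_21_3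 lc_g_Cert_tree lc_g_Cert_tree lc_g_rc_21_2 lc_g_rc_21_2 lc_g_rc_26_3 lc_g_rc_23_7 lc_g_rc_24_1 lc_g_rc_23_7 lc_g_rc_27_0 lc_g_Cert_tree lc_g_rc_27_6 lc_g_rc_21_3 lc_g_rc_21_3 lc_g_rc_24_3 lc_g_rc_21_3 lc_g_rc_24_7 lc_g_Cert_tree lc_g_Cert_tree lc_g_rc_24_7 lc_g_Cert_tree lc_g_rc_24_3) (@D3.rec (fun _ => (Cert rels S Gen.g)) lc_g_rc_21_2 lc_g_Cert_tree lc_g_rc_24_9 lc_g_rc_24_3 lc_g_Cert_tree lc_g_rc_21_3 lc_g_Cert_tree lc_g_Cert_tree lc_g_rc_21_2 lc_g_rc_27_0 lc_g_rc_21_3 lc_g_Cert_tree lc_g_rc_21_2 lc_g_rc_23_3 lc_g_Cert_tree lc_g_rc_21_3 lc_g_rc_24_1 lc_g_rc_21_3 lc_g_rc_21_3 lc_g_rc_21_2 lc_g_rc_26_3 lc_g_Cert_tree lc_g_rc_26_6 lc_g_rc_21_3 lc_g_rc_27_3 lc_g_Cert_tree lc_g_rc_26_9 lc_g_rc_26_6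 lc_g_rc_24_1 lc_g_rc_24_7 lc_g_rc_23_3 lc_g_rc_21_3 lc_g_rc_26_3 lc_g_Cert_tree lc_g_rc_21_3 lc_g_Cert_tree lc_g_rc_21_2 lc_g_rc_26_0 lc_g_rc_27_9 lc_g_rc_21_3 lc_g_rc_23_7 lc_g_rc_21_3 lc_g_rc_24_9 lc_g_rc_26_0 lc_g_rc_23_9 lc_g_Cert_tree lc_g_Cert_tree lc_g_rc_26_0 lc_g_Cert_tree lc_g_rc_21_3 lc_g_rc_21_2 lc_g_rc_21_2 lc_g_rc_26_0 lc_g_rc_26_0 lc_g_rc_24_1 lc_g_rc_26_9 lc_g_Cert_tree lc_g_rc_21_3 lc_g_Cert_tree lc_g_rc_27_3 lc_g_Cert_tree lc_g_rc_26_3) (@D3.rec (fun _ => (Cert rels S Gen.g)) lc_g_rc_27_3 lc_g_Cert_tree lc_g_Cert_tree lc_g_rc_21_3 lc_g_rc_21_2 lc_g_rc_24_3 lc_g_rc_21_2 lc_g_rc_27_6 lc_g_rc_21_3 lc_g_Cert_tree lc_g_Cert_tree lc_g_rc_21_2 lc_g_rc_24_3 lc_g_rc_26_3 lc_g_rc_26_6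 lc_g_Cert_tree lc_g_rc_26_0 lc_g_Cert_tree lc_g_rc_21_2 lc_g_rc_21_2 lc_g_Cert_tree lc_g_rc_21_3 lc_g_rc_21_3 lc_g_Cert_tree lc_g_Cert_tree lc_g_rc_21_2 lc_g_Cert_tree lc_g_Cert_tree lc_g_Cert_tree lc_g_rc_26_3 lc_g_rc_26_0 lc_g_rc_27_6 lc_g_Cert_tree lc_g_rc_27_0 lc_g_rc_21_3 lc_g_Cert_tree lc_g_Cert_tree lc_g_rc_21_2 lc_g_rc_23_9 lc_g_rc_26_3 lc_g_Cert_tree lc_g_rc_25_7 lc_g_rc_23_9 lc_g_rc_24_7 lc_g_rc_21_3 lc_g_rc_26_6 lc_g_Cert_tree lc_g_Cert_tree lc_g_rc_21_3 lc_g_rc_21_3 lc_g_Cert_tree lc_g_rc_27_3 lc_g_Cert_tree lc_g_Cert_tree lc_g_rc_21_3 lc_g_rc_21_3 lc_g_Cert_tree lc_g_Cert_tree lc_g_rc_27_6 lc_g_rc_23_9 lc_g_Cert_tree lc_g_rc_21_3) (@D3.rec (fun _ => (Cert rels S Gen.g)) lc_g_rc_27_3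 lc_g_rc_21_2 lc_g_rc_26_3 lc_g_rc_27_9 lc_g_rc_21_3 lc_g_Cert_tree lc_g_rc_21_2 lc_g_rc_27_6 lc_g_rc_21_3 lc_g_rc_24_1 lc_g_rc_21_2 lc_g_rc_27_6 lc_g_rc_26_6 lc_g_rc_21_3 lc_g_Cert_tree lc_g_rc_23_3 lc_g_rc_23_9 lc_g_rc_21_3 lc_g_Cert_tree lc_g_rc_27_3 lc_g_rc_24_7 lc_g_rc_23_9 lc_g_rc_21_2 lc_g_rc_27_6 lc_g_rc_26_0 lc_g_Cert_tree lc_g_rc_21_2 lc_g_rc_27_3 lc_g_rc_26_3 lc_g_Cert_tree lc_g_Cert_tree lc_g_rc_21_3 lc_g_Cert_tree lc_g_Cert_tree lc_g_rc_23_9 lc_g_rc_27_6 lc_g_rc_21_3 lc_g_Cert_tree lc_g_rc_21_3 lc_g_rc_26_0 lc_g_Cert_tree lc_g_rc_21_3 lc_g_rc_26_9 lc_g_Cert_tree lc_g_rc_21_2 lc_g_rc_27_6 lc_g_rc_25_3 lc_g_rc_24_1 lc_g_rc_21_2 lc_g_rc_27_0 lc_g_rc_24_1 lc_g_Cert_tree lc_g_Cert_tree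 lc_g_rc_27_3 lc_g_rc_24_1 lc_g_rc_21_3 lc_g_Cert_tree lc_g_rc_27_6 lc_g_rc_24_3 lc_g_rc_21_2 lc_g_Cert_tree lc_g_Cert_tree) (@D3.rec (fun _ => (Cert rels S Gen.g)) lc_g_Cert_tree lc_g_Cert_tree lc_g_rc_21_2 lc_g_rc_24_9 lc_g_rc_26_3 lc_g_Cert_tree lc_g_Cert_tree lc_g_Cert_tree lc_g_Cert_tree lc_g_rc_24_1 lc_g_Cert_tree lc_g_rc_21_3 lc_g_rc_26_6 lc_g_rc_27_3 lc_g_rc_27_6 lc_g_Cert_tree lc_g_rc_21_3 lc_g_Cert_tree lc_g_rc_27_3 lc_g_rc_21_2 lc_g_rc_26_6 lc_g_rc_24_7 lc_g_rc_24_9 lc_g_Cert_tree lc_g_rc_21_2 lc_g_rc_24_3 lc_g_rc_21_3 lc_g_rc_21_3 lc_g_rc_21_2 lc_g_Cert_tree lc_g_Cert_tree lc_g_Cert_tree lc_g_rc_21_3 lc_g_Cert_tree lc_g_rc_21_3 lc_g_Cert_tree lc_g_Cert_tree lc_g_rc_27_3 lc_g_rc_21_3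 lc_g_rc_21_3 lc_g_rc_24_3 lc_g_Cert_tree lc_g_rc_26_0 lc_g_rc_26_6 lc_g_rc_27_6 lc_g_rc_21_3 lc_g_Cert_tree lc_g_rc_24_1 lc_g_rc_21_2 lc_g_rc_21_2 lc_g_Cert_tree lc_g_rc_24_7 lc_g_Cert_tree lc_g_Cert_tree lc_g_rc_21_3 lc_g_rc_21_3 lc_g_rc_27_3 lc_g_rc_26_6 lc_g_rc_21_2 lc_g_Cert_tree lc_g_Cert_tree lc_g_Cert_tree) (@D3.rec (fun _ => (Cert rels S Gen.g)) lc_g_Cert_tree lc_g_rc_26_0 lc_g_rc_27_6 lc_g_rc_21_2 lc_g_rc_21_3 lc_g_Cert_tree lc_g_rc_21_2 lc_g_rc_21_2 lc_g_Cert_tree lc_g_Cert_tree lc_g_Cert_tree lc_g_rc_21_3 lc_g_Cert_tree lc_g_rc_21_2 lc_g_rc_23_7 lc_g_Cert_tree lc_g_rc_26_0 lc_g_Cert_tree lc_g_Cert_tree lc_g_rc_21_2 lc_g_rc_26_6 lc_g_rc_21_2 lc_g_rc_26_9 lc_g_rc_21_2 lc_g_Cert_tree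 lc_g_Cert_tree lc_g_Cert_tree lc_g_Cert_tree lc_g_rc_21_3 lc_g_rc_27_6 lc_g_rc_27_6 lc_g_rc_21_2 lc_g_rc_21_3 lc_g_rc_21_3 lc_g_rc_21_2 lc_g_Cert_tree lc_g_rc_21_3 lc_g_Cert_tree lc_g_rc_21_2 lc_g_rc_23_7 lc_g_rc_27_9 lc_g_rc_23_9 lc_g_rc_24_3 lc_g_Cert_tree lc_g_rc_21_3 lc_g_rc_24_3 lc_g_Cert_tree lc_g_Cert_tree lc_g_rc_23_1 lc_g_rc_21_2 lc_g_rc_23_3 lc_g_Cert_tree lc_g_Cert_tree lc_g_Cert_tree lc_g_Cert_tree lc_g_Cert_tree lc_g_Cert_tree lc_g_rc_21_2 lc_g_Cert_tree lc_g_Cert_tree lc_g_Cert_tree lc_g_rc_21_3) (@D3.rec (fun _ => (Cert rels S Gen.g)) lc_g_rc_24_1 lc_g_rc_21_2 lc_g_rc_27_0 lc_g_rc_21_3 lc_g_Cert_tree lc_g_rc_21_2 lc_g_Cert_tree lc_g_rc_26_6 lc_g_rc_26_9 lc_g_rc_21_3 lc_g_rc_21_2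 lc_g_Cert_tree lc_g_rc_21_3 lc_g_Cert_tree lc_g_rc_26_6 lc_g_rc_21_3 lc_g_rc_21_3 lc_g_Cert_tree lc_g_rc_21_2 lc_g_rc_21_3 lc_g_Cert_tree lc_g_rc_23_3 lc_g_rc_27_3 lc_g_rc_26_6 lc_g_rc_21_3 lc_g_rc_23_3 lc_g_rc_23_9 lc_g_Cert_tree lc_g_rc_24_7 lc_g_rc_27_6 lc_g_rc_26_6 lc_g_rc_21_3 lc_g_Cert_tree lc_g_Cert_tree lc_g_rc_21_2 lc_g_rc_21_2 lc_g_rc_24_7 lc_g_rc_27_6 lc_g_rc_27_3 lc_g_rc_23_3 lc_g_rc_23_1 lc_g_Cert_tree lc_g_rc_21_3 lc_g_rc_21_2 lc_g_Cert_tree lc_g_Cert_tree lc_g_Cert_tree lc_g_rc_21_2 lc_g_rc_21_3 lc_g_rc_26_6 lc_g_rc_23_3 lc_g_rc_27_0 lc_g_Cert_tree lc_g_rc_27_3 lc_g_rc_27_0 lc_g_rc_26_3 lc_g_rc_23_3 lc_g_rc_27_3 lc_g_rc_26_6 lc_g_rc_21_3 lc_g_Cert_tree lc_g_rc_26_3) (@D3.rec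 (fun _ => (Cert rels S Gen.g)) lc_g_rc_21_3 lc_g_Cert_tree lc_g_rc_21_2 lc_g_Cert_tree lc_g_rc_27_3 lc_g_rc_26_3 lc_g_Cert_tree lc_g_rc_24_7 lc_g_rc_23_3 lc_g_rc_27_3 lc_g_rc_27_3 lc_g_Cert_tree lc_g_rc_24_7 lc_g_rc_21_2 lc_g_rc_21_3 lc_g_Cert_tree lc_g_Cert_tree lc_g_rc_24_7 lc_g_Cert_tree lc_g_rc_21_3 lc_g_Cert_tree lc_g_Cert_tree lc_g_rc_26_0 lc_g_rc_21_3 lc_g_Cert_tree lc_g_rc_27_6 lc_g_rc_27_3 lc_g_rc_24_1 lc_g_rc_26_3 lc_g_rc_23_3 lc_g_Cert_tree lc_g_rc_23_3 lc_g_Cert_tree lc_g_Cert_tree lc_g_Cert_tree lc_g_Cert_tree lc_g_rc_21_3 lc_g_rc_26_9 lc_g_rc_27_9 lc_g_rc_21_3 lc_g_rc_24_3 lc_g_rc_23_7 lc_g_rc_26_0 lc_g_rc_26_0 lc_g_rc_24_9 lc_g_Cert_tree lc_g_Cert_tree lc_g_rc_21_2 lc_g_Cert_tree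 lc_g_rc_21_2 lc_g_rc_27_6 lc_g_rc_24_3 lc_g_Cert_tree lc_g_Cert_tree lc_g_rc_27_3 lc_g_rc_21_2 lc_g_rc_26_9 lc_g_rc_21_3 lc_g_rc_23_7 lc_g_rc_26_3 lc_g_rc_26_6 lc_g_rc_21_3) (@D3.rec (fun _ => (Cert rels S Gen.g)) lc_g_Cert_tree lc_g_rc_26_3 lc_g_rc_21_2 lc_g_rc_21_3 lc_g_Cert_tree lc_g_Cert_tree lc_g_Cert_tree lc_g_rc_23_1 lc_g_rc_27_6 lc_g_Cert_tree lc_g_Cert_tree lc_g_rc_24_7 lc_g_rc_26_6 lc_g_rc_21_3 lc_g_rc_21_3 lc_g_Cert_tree lc_g_rc_21_3 lc_g_Cert_tree lc_g_Cert_tree lc_g_rc_21_2 lc_g_rc_26_3 lc_g_Cert_tree lc_g_rc_23_3 lc_g_rc_26_6 lc_g_rc_21_2 lc_g_Cert_tree lc_g_rc_27_3 lc_g_Cert_tree lc_g_rc_21_2 lc_g_rc_21_3 lc_g_Cert_tree lc_g_rc_21_2 lc_g_rc_26_3 lc_g_rc_27_6 lc_g_rc_26_6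 lc_g_rc_23_1 lc_g_Cert_tree lc_g_Cert_tree lc_g_rc_26_6 lc_g_rc_21_2 lc_g_Cert_tree lc_g_rc_21_3 lc_g_rc_26_3 lc_g_rc_21_3 lc_g_rc_23_3 lc_g_rc_26_3 lc_g_rc_21_3 lc_g_Cert_tree lc_g_rc_26_9 lc_g_rc_21_2 lc_g_rc_26_0 lc_g_rc_23_7 lc_g_rc_26_9 lc_g_rc_24_1 lc_g_rc_24_3 lc_g_Cert_tree lc_g_rc_27_3 lc_g_rc_21_3 lc_g_rc_23_3 lc_g_rc_21_3 lc_g_rc_21_2 lc_g_rc_21_3) (@D3.rec (fun _ => (Cert rels S Gen.g)) lc_g_Cert_tree lc_g_rc_21_3 lc_g_Cert_tree lc_g_Cert_tree lc_g_rc_21_2 lc_g_rc_21_3 lc_g_rc_21_2 lc_g_Cert_tree lc_g_Cert_tree lc_g_rc_21_3 lc_g_Cert_tree lc_g_rc_26_6 lc_g_rc_26_6 lc_g_Cert_tree lc_g_rc_27_0 lc_g_rc_26_0 lc_g_Cert_tree lc_g_Cert_tree lc_g_rc_21_3 lc_g_rc_23_9 lc_g_rc_24_3 lc_g_Cert_tree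 lc_g_Cert_tree lc_g_Cert_tree lc_g_rc_21_3 lc_g_Cert_tree lc_g_rc_21_2 lc_g_rc_27_6 lc_g_Cert_tree lc_g_rc_23_7 lc_g_rc_26_0 lc_g_rc_24_1 lc_g_rc_21_3 lc_g_Cert_tree lc_g_rc_26_0 lc_g_Cert_tree lc_g_Cert_tree lc_g_Cert_tree lc_g_rc_26_0 lc_g_rc_24_1 lc_g_Cert_tree lc_g_rc_27_3 lc_g_Cert_tree lc_g_rc_23_1 lc_g_Cert_tree lc_g_rc_27_3 lc_g_rc_21_2 lc_g_rc_21_2 lc_g_Cert_tree lc_g_Cert_tree lc_g_Cert_tree lc_g_rc_26_0 lc_g_rc_26_3 lc_g_Cert_tree lc_g_rc_21_3 lc_g_Cert_tree lc_g_Cert_tree lc_g_rc_21_2 lc_g_rc_21_3 lc_g_Cert_tree lc_g_Cert_tree lc_g_rc_25_3) (@D3.rec (fun _ => (Cert rels S Gen.g)) lc_g_rc_23_9 lc_g_Cert_tree lc_g_Cert_tree lc_g_rc_23_3 lc_g_rc_23_9 lc_g_Cert_tree lc_g_Cert_tree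 lc_g_rc_21_3 lc_g_Cert_tree lc_g_rc_26_6 lc_g_rc_23_1 lc_g_Cert_tree lc_g_rc_21_3 lc_g_Cert_tree lc_g_Cert_tree lc_g_rc_23_1 lc_g_Cert_tree lc_g_rc_21_3 lc_g_Cert_tree lc_g_Cert_tree lc_g_rc_21_2 lc_g_rc_26_0 lc_g_Cert_tree lc_g_rc_21_3 lc_g_rc_24_1 lc_g_rc_21_3 lc_g_Cert_tree lc_g_Cert_tree lc_g_rc_21_2 lc_g_rc_26_3 lc_g_Cert_tree lc_g_rc_26_3 lc_g_rc_21_3 lc_g_rc_21_2 lc_g_Cert_tree lc_g_Cert_tree lc_g_rc_23_7 lc_g_Cert_tree lc_g_Cert_tree lc_g_rc_21_2 lc_g_rc_21_2 lc_g_rc_21_2 lc_g_rc_21_2 lc_g_rc_26_3 lc_g_rc_21_3 lc_g_rc_21_2 lc_g_rc_24_3 lc_g_Cert_tree lc_g_rc_21_2 lc_g_rc_21_3 lc_g_Cert_tree lc_g_Cert_tree lc_g_rc_21_2 lc_g_rc_26_0 lc_g_rc_27_6 lc_g_rc_23_3 lc_g_rc_21_3 lc_g_rc_21_3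 lc_g_Cert_tree lc_g_Cert_tree lc_g_rc_21_2 lc_g_rc_21_3) (@D3.rec (fun _ => (Cert rels S Gen.g)) lc_g_rc_21_2 lc_g_rc_21_2 lc_g_Cert_tree lc_g_Cert_tree lc_g_rc_21_3 lc_g_rc_27_6 lc_g_rc_27_3 lc_g_rc_26_3 lc_g_rc_26_3 lc_g_rc_21_3 lc_g_Cert_tree lc_g_Cert_tree lc_g_rc_21_2 lc_g_Cert_tree lc_g_rc_21_3 lc_g_rc_21_2 lc_g_rc_21_3 lc_g_Cert_tree lc_g_Cert_tree lc_g_rc_24_3 lc_g_rc_21_3 lc_g_Cert_tree lc_g_rc_21_2 lc_g_Cert_tree lc_g_rc_27_3 lc_g_rc_21_2 lc_g_rc_21_3 lc_g_rc_24_3 lc_g_rc_21_3 lc_g_Cert_tree lc_g_rc_21_2 lc_g_rc_25_19 lc_g_rc_24_1 lc_g_rc_21_3 lc_g_rc_26_0 lc_g_rc_21_2 lc_g_rc_24_9 lc_g_rc_24_9 lc_g_Cert_tree lc_g_rc_21_3 lc_g_rc_26_3 lc_g_rc_21_3 lc_g_Cert_tree lc_g_Cert_tree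 lc_g_rc_21_2 lc_g_rc_27_9 lc_g_rc_21_2 lc_g_rc_26_3 lc_g_rc_21_2 lc_g_rc_23_3 lc_g_rc_26_0 lc_g_rc_26_0 lc_g_rc_21_3 lc_g_rc_26_9 lc_g_rc_26_0 lc_g_rc_24_7 lc_g_Cert_tree lc_g_Cert_tree lc_g_rc_26_3 lc_g_rc_21_3 lc_g_Cert_tree lc_g_Cert_tree) (@D3.rec (fun _ => (Cert rels S Gen.g)) lc_g_rc_21_2 lc_g_Cert_tree lc_g_rc_21_3 lc_g_rc_21_3 lc_g_rc_21_2 lc_g_rc_24_7 lc_g_Cert_tree lc_g_rc_21_3 lc_g_Cert_tree lc_g_Cert_tree lc_g_rc_21_2 lc_g_Cert_tree lc_g_rc_24_1 lc_g_rc_21_2 lc_g_rc_24_1 lc_g_rc_21_2 lc_g_Cert_tree lc_g_Cert_tree lc_g_rc_21_2 lc_g_rc_21_3 lc_g_rc_21_3 lc_g_rc_26_6 lc_g_rc_21_3 lc_g_Cert_tree lc_g_rc_24_1 lc_g_rc_21_2 lc_g_Cert_tree lc_g_rc_21_2 lc_g_rc_21_2 lc_g_rc_27_6 lc_g_rc_26_9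 lc_g_rc_27_0 lc_g_Cert_tree lc_g_rc_26_9 lc_g_rc_21_2 lc_g_Cert_tree lc_g_Cert_tree lc_g_rc_26_0 lc_g_rc_24_1 lc_g_rc_26_6 lc_g_rc_24_1 lc_g_Cert_tree lc_g_rc_21_3 lc_g_Cert_tree lc_g_Cert_tree lc_g_rc_21_2 lc_g_rc_21_2 lc_g_rc_21_3 lc_g_Cert_tree lc_g_rc_24_7 lc_g_rc_23_7 lc_g_Cert_tree lc_g_rc_26_3 lc_g_rc_21_3 lc_g_Cert_tree lc_g_Cert_tree lc_g_rc_21_2 lc_g_rc_21_3 lc_g_rc_26_9 lc_g_rc_21_3 lc_g_rc_24_1 lc_g_Cert_tree) (@D3.rec (fun _ => (Cert rels S Gen.g)) lc_g_Cert_tree lc_g_rc_27_6 lc_g_Cert_tree lc_g_Cert_tree lc_g_rc_21_2 lc_g_rc_27_6 lc_g_rc_27_3 lc_g_rc_21_2 lc_g_Cert_tree lc_g_Cert_tree lc_g_rc_27_3 lc_g_rc_21_2 lc_g_Cert_tree lc_g_rc_24_3 lc_g_rc_21_3 lc_g_rc_21_3 lc_g_Cert_tree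 lc_g_Cert_tree lc_g_Cert_tree lc_g_rc_21_2 lc_g_rc_27_6 lc_g_rc_21_2 lc_g_Cert_tree lc_g_Cert_tree lc_g_rc_21_3 lc_g_Cert_tree lc_g_rc_21_2 lc_g_rc_21_2 lc_g_rc_24_3 lc_g_rc_27_9 lc_g_rc_27_6 lc_g_rc_21_3 lc_g_rc_24_7 lc_g_rc_24_1 lc_g_rc_27_0 lc_g_Cert_tree lc_g_rc_24_7 lc_g_rc_23_7 lc_g_rc_26_3 lc_g_rc_21_3 lc_g_Cert_tree lc_g_Cert_tree lc_g_rc_21_3 lc_g_Cert_tree lc_g_rc_21_3 lc_g_rc_23_3 lc_g_rc_21_3 lc_g_Cert_tree lc_g_rc_21_2 lc_g_rc_26_6 lc_g_Cert_tree lc_g_rc_23_9 lc_g_Cert_tree lc_g_Cert_tree lc_g_Cert_tree lc_g_Cert_tree lc_g_rc_21_3 lc_g_Cert_tree lc_g_Cert_tree lc_g_rc_21_2 lc_g_rc_27_0 lc_g_rc_21_3)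
def ce_g_6 : D2 → D3 → (Cert rels S Gen.g) := @D2.rec (fun _ => D3 → (Cert rels S Gen.g)) (@D3.rec (fun _ => (Cert rels S Gen.g)) lc_g_rc_21_2 lc_g_rc_24_3 lc_g_rc_26_6 lc_g_Cert_tree lc_g_rc_23_7 lc_g_rc_21_3 lc_g_Cert_tree lc_g_rc_21_2 lc_g_rc_21_2 lc_g_rc_26_6 lc_g_rc_24_1 lc_g_Cert_tree lc_g_Cert_tree lc_g_rc_21_3 lc_g_Cert_tree lc_g_Cert_tree lc_g_rc_21_2 lc_g_rc_24_7 lc_g_Cert_tree lc_g_rc_26_6 lc_g_rc_24_7 lc_g_rc_21_2 lc_g_rc_21_3 lc_g_rc_21_3 lc_g_Cert_tree lc_g_Cert_tree lc_g_rc_21_2 lc_g_rc_24_3 lc_g_Cert_tree lc_g_rc_25_19 lc_g_rc_26_3 lc_g_Cert_tree lc_g_rc_26_9 lc_g_rc_23_1 lc_g_Cert_tree lc_g_Cert_tree lc_g_rc_21_3 lc_g_rc_26_9 lc_g_Cert_tree lc_g_rc_21_2 lc_g_rc_25_19 lc_g_rc_24_7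 lc_g_Cert_tree lc_g_Cert_tree lc_g_Cert_tree lc_g_rc_26_0 lc_g_Cert_tree lc_g_Cert_tree lc_g_Cert_tree lc_g_rc_21_3 lc_g_Cert_tree lc_g_Cert_tree lc_g_rc_21_2 lc_g_Cert_tree lc_g_Cert_tree lc_g_rc_27_6 lc_g_Cert_tree lc_g_Cert_tree lc_g_rc_21_3 lc_g_Cert_tree lc_g_Cert_tree lc_g_rc_21_2) (@D3.rec (fun _ => (Cert rels S Gen.g)) lc_g_rc_21_2 lc_g_rc_21_2 lc_g_rc_21_3 lc_g_Cert_tree lc_g_Cert_tree lc_g_Cert_tree lc_g_Cert_tree lc_g_Cert_tree lc_g_Cert_tree lc_g_rc_27_0 lc_g_Cert_tree lc_g_Cert_tree lc_g_rc_27_0 lc_g_Cert_tree lc_g_rc_27_3 lc_g_rc_24_9 lc_g_Cert_tree lc_g_rc_26_0 lc_g_rc_21_3 lc_g_Cert_tree lc_g_rc_26_9 lc_g_rc_26_3 lc_g_rc_21_2 lc_g_rc_21_2 lc_g_rc_21_3 lc_g_rc_27_0 lc_g_Cert_tree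 lc_g_rc_21_2 lc_g_Cert_tree lc_g_rc_21_2 lc_g_Cert_tree lc_g_rc_26_9 lc_g_Cert_tree lc_g_rc_24_9 lc_g_rc_24_3 lc_g_Cert_tree lc_g_rc_21_3 lc_g_Cert_tree lc_g_Cert_tree lc_g_Cert_tree lc_g_rc_21_2 lc_g_rc_21_2 lc_g_rc_21_3 lc_g_Cert_tree lc_g_rc_21_2 lc_g_rc_21_2 lc_g_rc_26_6 lc_g_Cert_tree lc_g_rc_25_19 lc_g_rc_21_3 lc_g_rc_26_3 lc_g_Cert_tree lc_g_Cert_tree lc_g_Cert_tree lc_g_Cert_tree lc_g_rc_21_3 lc_g_rc_26_3 lc_g_Cert_tree lc_g_rc_27_0 lc_g_rc_23_3 lc_g_Cert_tree lc_g_rc_27_6) (@D3.rec (fun _ => (Cert rels S Gen.g)) lc_g_rc_24_3 lc_g_Cert_tree lc_g_rc_27_0 lc_g_Cert_tree lc_g_rc_24_7 lc_g_rc_26_3 lc_g_rc_21_3 lc_g_rc_27_0 lc_g_rc_21_3 lc_g_rc_21_2 lc_g_rc_21_2 lc_g_rc_21_2 lc_g_rc_26_3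 lc_g_rc_26_6 lc_g_rc_21_3 lc_g_Cert_tree lc_g_rc_21_2 lc_g_Cert_tree lc_g_rc_21_3 lc_g_rc_21_3 lc_g_rc_21_3 lc_g_rc_26_9 lc_g_Cert_tree lc_g_rc_21_3 lc_g_Cert_tree lc_g_Cert_tree lc_g_rc_21_2 lc_g_Cert_tree lc_g_Cert_tree lc_g_rc_21_3 lc_g_rc_26_3 lc_g_rc_21_2 lc_g_rc_27_0 lc_g_rc_27_0 lc_g_Cert_tree lc_g_rc_27_6 lc_g_Cert_tree lc_g_rc_21_3 lc_g_rc_21_2 lc_g_rc_26_3 lc_g_rc_27_0 lc_g_rc_23_1 lc_g_rc_27_6 lc_g_rc_27_0 lc_g_rc_21_3 lc_g_Cert_tree lc_g_Cert_tree lc_g_rc_27_3 lc_g_rc_21_2 lc_g_rc_24_7 lc_g_rc_26_9 lc_g_rc_21_2 lc_g_rc_26_3 lc_g_rc_21_3 lc_g_Cert_tree lc_g_Cert_tree lc_g_rc_27_0 lc_g_rc_21_3 lc_g_Cert_tree lc_g_rc_27_3 lc_g_Cert_tree lc_g_rc_24_7) (@D3.rec (fun _ => (Cert rels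 S Gen.g)) lc_g_rc_21_2 lc_g_rc_24_7 lc_g_rc_24_3 lc_g_rc_23_9 lc_g_rc_24_3 lc_g_Cert_tree lc_g_Cert_tree lc_g_rc_27_3 lc_g_rc_26_3 lc_g_rc_21_2 lc_g_rc_21_2 lc_g_Cert_tree lc_g_Cert_tree lc_g_rc_21_3 lc_g_Cert_tree lc_g_Cert_tree lc_g_rc_27_6 lc_g_rc_23_7 lc_g_Cert_tree lc_g_Cert_tree lc_g_rc_24_7 lc_g_Cert_tree lc_g_rc_21_2 lc_g_rc_27_9 lc_g_Cert_tree lc_g_rc_21_3 lc_g_Cert_tree lc_g_rc_24_7 lc_g_Cert_tree lc_g_rc_26_6 lc_g_Cert_tree lc_g_Cert_tree lc_g_rc_24_3 lc_g_rc_21_3 lc_g_Cert_tree lc_g_rc_27_3 lc_g_rc_26_6 lc_g_Cert_tree lc_g_rc_21_3 lc_g_Cert_tree lc_g_rc_21_2 lc_g_Cert_tree lc_g_Cert_tree lc_g_Cert_tree lc_g_Cert_tree lc_g_rc_21_3 lc_g_Cert_tree lc_g_rc_21_2 lc_g_Cert_tree lc_g_rc_21_3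 lc_g_rc_24_3 lc_g_Cert_tree lc_g_rc_21_3 lc_g_Cert_tree lc_g_rc_21_2 lc_g_Cert_tree lc_g_rc_21_3 lc_g_Cert_tree lc_g_Cert_tree lc_g_rc_21_3 lc_g_Cert_tree lc_g_rc_21_2) (@D3.rec (fun _ => (Cert rels S Gen.g)) lc_g_Cert_tree lc_g_Cert_tree lc_g_rc_21_2 lc_g_Cert_tree lc_g_rc_27_3 lc_g_rc_23_3 lc_g_rc_21_3 lc_g_Cert_tree lc_g_rc_27_3 lc_g_rc_26_3 lc_g_rc_27_0 lc_g_rc_27_9 lc_g_Cert_tree lc_g_rc_27_3 lc_g_rc_26_0 lc_g_rc_21_3 lc_g_rc_24_3 lc_g_Cert_tree lc_g_rc_21_3 lc_g_rc_23_3 lc_g_rc_21_3 lc_g_Cert_tree lc_g_Cert_tree lc_g_Cert_tree lc_g_rc_26_9 lc_g_Cert_tree lc_g_rc_26_9 lc_g_rc_26_0 lc_g_rc_21_3 lc_g_Cert_tree lc_g_Cert_tree lc_g_Cert_tree lc_g_rc_21_2 lc_g_rc_21_2 lc_g_rc_24_1 lc_g_Cert_tree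 lc_g_rc_24_1 lc_g_Cert_tree lc_g_rc_24_3 lc_g_Cert_tree lc_g_Cert_tree lc_g_Cert_tree lc_g_rc_21_3 lc_g_Cert_tree lc_g_rc_21_2 lc_g_rc_26_0 lc_g_rc_24_9 lc_g_rc_27_0 lc_g_rc_24_9 lc_g_rc_21_3 lc_g_Cert_tree lc_g_rc_21_2 lc_g_Cert_tree lc_g_rc_27_3 lc_g_Cert_tree lc_g_rc_27_3 lc_g_rc_26_3 lc_g_Cert_tree lc_g_rc_26_3 lc_g_Cert_tree lc_g_Cert_tree lc_g_rc_21_3) (@D3.rec (fun _ => (Cert rels S Gen.g)) lc_g_Cert_tree lc_g_rc_21_2 lc_g_Cert_tree lc_g_Cert_tree lc_g_rc_23_3 lc_g_Cert_tree lc_g_rc_21_3 lc_g_Cert_tree lc_g_rc_21_2 lc_g_Cert_tree lc_g_Cert_tree lc_g_rc_26_9 lc_g_Cert_tree lc_g_rc_23_7 lc_g_rc_23_1 lc_g_Cert_tree lc_g_Cert_tree lc_g_rc_21_2 lc_g_Cert_tree lc_g_rc_21_3 lc_g_rc_21_3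 lc_g_Cert_tree lc_g_rc_21_2 lc_g_Cert_tree lc_g_rc_21_2 lc_g_Cert_tree lc_g_rc_21_3 lc_g_Cert_tree lc_g_rc_21_3 lc_g_Cert_tree lc_g_Cert_tree lc_g_rc_21_3 lc_g_Cert_tree lc_g_rc_21_3 lc_g_Cert_tree lc_g_rc_21_2 lc_g_rc_21_2 lc_g_rc_21_3 lc_g_Cert_tree lc_g_rc_21_2 lc_g_Cert_tree lc_g_rc_27_9 lc_g_rc_26_3 lc_g_Cert_tree lc_g_rc_23_9 lc_g_rc_24_7 lc_g_rc_21_3 lc_g_Cert_tree lc_g_rc_26_3 lc_g_Cert_tree lc_g_Cert_tree lc_g_rc_21_3 lc_g_rc_21_2 lc_g_rc_21_3 lc_g_Cert_tree lc_g_rc_21_2 lc_g_Cert_tree lc_g_rc_27_6 lc_g_rc_21_2 lc_g_rc_21_2 lc_g_rc_24_7 lc_g_rc_24_1) (@D3.rec (fun _ => (Cert rels S Gen.g)) lc_g_Cert_tree lc_g_rc_21_3 lc_g_Cert_tree lc_g_rc_21_2 lc_g_rc_21_3 lc_g_Cert_tree lc_g_rc_21_2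 lc_g_rc_23_9 lc_g_Cert_tree lc_g_rc_27_6 lc_g_rc_21_3 lc_g_Cert_tree lc_g_rc_27_3 lc_g_rc_24_9 lc_g_rc_27_0 lc_g_rc_27_6 lc_g_rc_26_3 lc_g_Cert_tree lc_g_rc_26_3 lc_g_rc_23_1 lc_g_rc_23_9 lc_g_rc_21_3 lc_g_Cert_tree lc_g_rc_21_2 lc_g_rc_21_3 lc_g_Cert_tree lc_g_rc_21_2 lc_g_rc_21_2 lc_g_rc_27_6 lc_g_rc_27_9 lc_g_rc_21_3 lc_g_Cert_tree lc_g_rc_21_2 lc_g_Cert_tree lc_g_rc_21_2 lc_g_rc_27_3 lc_g_rc_27_6 lc_g_rc_27_3 lc_g_rc_21_3 lc_g_Cert_tree lc_g_rc_21_2 lc_g_rc_26_3 lc_g_Cert_tree lc_g_rc_27_3 lc_g_rc_21_2 lc_g_rc_21_2 lc_g_rc_21_3 lc_g_Cert_tree lc_g_Cert_tree lc_g_rc_26_6 lc_g_Cert_tree lc_g_rc_25_7 lc_g_rc_24_3 lc_g_rc_21_3 lc_g_Cert_tree lc_g_rc_21_2 lc_g_rc_21_2 lc_g_rc_24_3 lc_g_Cert_tree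 lc_g_Cert_tree lc_g_rc_21_3 lc_g_Cert_tree) (@D3.rec (fun _ => (Cert rels S Gen.g)) lc_g_rc_21_3 lc_g_Cert_tree lc_g_rc_21_2 lc_g_rc_21_3 lc_g_Cert_tree lc_g_rc_21_2 lc_g_rc_27_6 lc_g_rc_27_6 lc_g_rc_27_9 lc_g_rc_27_0 lc_g_Cert_tree lc_g_rc_21_2 lc_g_Cert_tree lc_g_rc_21_3 lc_g_Cert_tree lc_g_rc_21_3 lc_g_rc_21_2 lc_g_rc_21_2 lc_g_rc_27_3 lc_g_Cert_tree lc_g_rc_21_2 lc_g_rc_21_2 lc_g_Cert_tree lc_g_rc_21_3 lc_g_Cert_tree lc_g_rc_21_2 lc_g_rc_21_2 lc_g_rc_26_3 lc_g_rc_24_3 lc_g_rc_27_0 lc_g_rc_21_2 lc_g_rc_27_9 lc_g_rc_27_0 lc_g_rc_21_2 lc_g_rc_21_2 lc_g_rc_21_3 lc_g_rc_21_3 lc_g_Cert_tree lc_g_rc_21_3 lc_g_rc_23_3 lc_g_Cert_tree lc_g_Cert_tree lc_g_rc_23_9 lc_g_Cert_tree lc_g_Cert_tree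 lc_g_rc_21_3 lc_g_rc_27_6 lc_g_Cert_tree lc_g_rc_27_0 lc_g_rc_21_2 lc_g_rc_27_3 lc_g_rc_24_3 lc_g_rc_21_2 lc_g_rc_21_3 lc_g_rc_27_3 lc_g_rc_26_0 lc_g_rc_24_3 lc_g_rc_27_6 lc_g_rc_21_2 lc_g_rc_27_6 lc_g_rc_24_7 lc_g_rc_24_1) (@D3.rec (fun _ => (Cert rels S Gen.g)) lc_g_rc_24_3 lc_g_Cert_tree lc_g_Cert_tree lc_g_Cert_tree lc_g_rc_24_9 lc_g_Cert_tree lc_g_rc_26_9 lc_g_rc_21_3 lc_g_Cert_tree lc_g_rc_21_2 lc_g_Cert_tree lc_g_rc_21_3 lc_g_Cert_tree lc_g_rc_27_6 lc_g_rc_21_2 lc_g_rc_24_3 lc_g_Cert_tree lc_g_rc_21_3 lc_g_Cert_tree lc_g_rc_21_3 lc_g_Cert_tree lc_g_rc_21_2 lc_g_Cert_tree lc_g_rc_24_1 lc_g_rc_24_3 lc_g_rc_27_0 lc_g_rc_21_2 lc_g_rc_26_0 lc_g_rc_21_3 lc_g_rc_21_2 lc_g_rc_21_3 lc_g_Cert_tree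 lc_g_rc_24_3 lc_g_rc_23_9 lc_g_rc_23_9 lc_g_rc_27_6 lc_g_Cert_tree lc_g_rc_24_3 lc_g_Cert_tree lc_g_rc_21_3 lc_g_Cert_tree lc_g_rc_27_3 lc_g_rc_21_2 lc_g_rc_21_3 lc_g_rc_23_1 lc_g_rc_27_9 lc_g_rc_21_3 lc_g_rc_27_6 lc_g_Cert_tree lc_g_rc_27_9 lc_g_rc_27_0 lc_g_rc_27_0 lc_g_rc_27_3 lc_g_rc_24_7 lc_g_rc_21_2 lc_g_rc_27_9 lc_g_rc_26_3 lc_g_rc_21_2 lc_g_rc_21_3 lc_g_Cert_tree lc_g_rc_27_6 lc_g_rc_26_3) (@D3.rec (fun _ => (Cert rels S Gen.g)) lc_g_rc_21_3 lc_g_rc_21_2 lc_g_rc_23_1 lc_g_rc_24_7 lc_g_Cert_tree lc_g_rc_27_6 lc_g_rc_24_7 lc_g_Cert_tree lc_g_Cert_tree lc_g_rc_23_7 lc_g_Cert_tree lc_g_rc_21_3 lc_g_Cert_tree lc_g_Cert_tree lc_g_rc_21_2 lc_g_rc_27_3 lc_g_rc_21_2 lc_g_rc_23_3 lc_g_rc_26_9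 lc_g_rc_26_3 lc_g_rc_24_3 lc_g_rc_24_1 lc_g_rc_21_3 lc_g_rc_23_9 lc_g_rc_27_6 lc_g_rc_26_3 lc_g_Cert_tree lc_g_Cert_tree lc_g_rc_21_3 lc_g_Cert_tree lc_g_rc_21_2 lc_g_Cert_tree lc_g_rc_26_6 lc_g_rc_21_2 lc_g_rc_21_2 lc_g_rc_24_1 lc_g_rc_21_2 lc_g_Cert_tree lc_g_Cert_tree lc_g_rc_23_3 lc_g_rc_24_3 lc_g_rc_21_3 lc_g_Cert_tree lc_g_Cert_tree lc_g_Cert_tree lc_g_rc_21_3 lc_g_Cert_tree lc_g_rc_21_2 lc_g_Cert_tree lc_g_rc_24_3 lc_g_rc_21_3 lc_g_Cert_tree lc_g_rc_27_3 lc_g_rc_21_2 lc_g_rc_21_2 lc_g_rc_24_3 lc_g_rc_27_3 lc_g_rc_24_1 lc_g_Cert_tree lc_g_rc_26_3 lc_g_rc_21_2 lc_g_rc_24_3) (@D3.rec (fun _ => (Cert rels S Gen.g)) lc_g_rc_21_3 lc_g_Cert_tree lc_g_Cert_tree lc_g_rc_24_3 lc_g_rc_21_3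 lc_g_Cert_tree lc_g_Cert_tree lc_g_Cert_tree lc_g_rc_21_3 lc_g_Cert_tree lc_g_rc_21_2 lc_g_rc_21_2 lc_g_Cert_tree lc_g_rc_26_6 lc_g_Cert_tree lc_g_rc_21_2 lc_g_Cert_tree lc_g_Cert_tree lc_g_Cert_tree lc_g_rc_27_3 lc_g_rc_26_6 lc_g_rc_24_7 lc_g_Cert_tree lc_g_Cert_tree lc_g_rc_21_3 lc_g_rc_27_6 lc_g_Cert_tree lc_g_Cert_tree lc_g_rc_21_3 lc_g_rc_21_3 lc_g_Cert_tree lc_g_rc_21_2 lc_g_rc_26_9 lc_g_Cert_tree lc_g_rc_26_0 lc_g_Cert_tree lc_g_rc_21_2 lc_g_rc_27_6 lc_g_rc_21_3 lc_g_rc_21_3 lc_g_Cert_tree lc_g_rc_21_2 lc_g_rc_21_3 lc_g_rc_21_2 lc_g_rc_25_19 lc_g_Cert_tree lc_g_rc_23_9 lc_g_Cert_tree lc_g_Cert_tree lc_g_Cert_tree lc_g_rc_21_3 lc_g_rc_26_6 lc_g_Cert_tree lc_g_Cert_tree lc_g_rc_26_3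 lc_g_rc_21_2 lc_g_Cert_tree lc_g_rc_26_3 lc_g_Cert_tree lc_g_rc_21_3 lc_g_Cert_tree lc_g_rc_24_9) (@D3.rec (fun _ => (Cert rels S Gen.g)) lc_g_rc_26_3 lc_g_rc_21_3 lc_g_Cert_tree lc_g_Cert_tree lc_g_rc_21_2 lc_g_rc_26_6 lc_g_rc_26_3 lc_g_Cert_tree lc_g_Cert_tree lc_g_rc_21_3 lc_g_Cert_tree lc_g_rc_26_9 lc_g_rc_21_2 lc_g_rc_21_3 lc_g_Cert_tree lc_g_rc_26_6 lc_g_rc_21_2 lc_g_rc_26_3 lc_g_rc_24_3 lc_g_rc_21_2 lc_g_Cert_tree lc_g_rc_23_1 lc_g_Cert_tree lc_g_rc_27_3 lc_g_rc_21_2 lc_g_Cert_tree lc_g_rc_21_2 lc_g_rc_21_3 lc_g_rc_26_0 lc_g_rc_26_6 lc_g_rc_24_9 lc_g_Cert_tree lc_g_rc_24_9 lc_g_rc_24_9 lc_g_Cert_tree lc_g_rc_27_0 lc_g_rc_26_6 lc_g_Cert_tree lc_g_rc_23_1 lc_g_Cert_tree lc_g_rc_21_3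 lc_g_Cert_tree lc_g_Cert_tree lc_g_Cert_tree lc_g_rc_26_6 lc_g_rc_21_2 lc_g_rc_21_3 lc_g_Cert_tree lc_g_Cert_tree lc_g_rc_21_2 lc_g_rc_21_3 lc_g_Cert_tree lc_g_rc_21_2 lc_g_Cert_tree lc_g_rc_21_3 lc_g_rc_27_3 lc_g_rc_26_9 lc_g_rc_21_2 lc_g_rc_27_0 lc_g_rc_21_3 lc_g_Cert_tree lc_g_Cert_tree) (@D3.rec (fun _ => (Cert rels S Gen.g)) lc_g_rc_27_9 lc_g_rc_21_3 lc_g_Cert_tree lc_g_Cert_tree lc_g_Cert_tree lc_g_rc_27_3 lc_g_rc_23_3 lc_g_rc_27_0 lc_g_rc_26_6 lc_g_rc_24_7 lc_g_Cert_tree lc_g_rc_21_3 lc_g_rc_21_3 lc_g_Cert_tree lc_g_rc_21_3 lc_g_Cert_tree lc_g_Cert_tree lc_g_rc_21_2 lc_g_rc_21_2 lc_g_rc_21_2 lc_g_rc_21_2 lc_g_rc_23_9 lc_g_rc_27_9 lc_g_rc_27_6 lc_g_rc_27_0 lc_g_rc_21_3 lc_g_Cert_tree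 lc_g_rc_21_2 lc_g_Cert_tree lc_g_rc_26_0 lc_g_Cert_tree lc_g_rc_24_1 lc_g_rc_27_0 lc_g_rc_21_2 lc_g_rc_26_3 lc_g_Cert_tree lc_g_rc_21_2 lc_g_rc_27_3 lc_g_rc_21_3 lc_g_rc_26_6 lc_g_Cert_tree lc_g_rc_27_0 lc_g_rc_24_1 lc_g_rc_27_3 lc_g_rc_21_2 lc_g_rc_24_7 lc_g_rc_21_2 lc_g_rc_26_6 lc_g_rc_21_2 lc_g_rc_21_3 lc_g_rc_27_9 lc_g_rc_21_3 lc_g_rc_21_2 lc_g_Cert_tree lc_g_rc_24_7 lc_g_rc_24_9 lc_g_Cert_tree lc_g_rc_24_7 lc_g_rc_27_0 lc_g_rc_21_3 lc_g_Cert_tree lc_g_Cert_tree) (@D3.rec (fun _ => (Cert rels S Gen.g)) lc_g_Cert_tree lc_g_rc_21_3 lc_g_Cert_tree lc_g_rc_21_2 lc_g_Cert_tree lc_g_rc_26_0 lc_g_rc_27_9 lc_g_rc_24_1 lc_g_rc_21_3 lc_g_Cert_tree lc_g_Cert_tree lc_g_rc_21_2 lc_g_Cert_tree lc_g_rc_27_9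 lc_g_rc_21_2 lc_g_rc_26_3 lc_g_rc_21_2 lc_g_rc_21_3 lc_g_Cert_tree lc_g_rc_21_2 lc_g_rc_21_2 lc_g_rc_27_9 lc_g_rc_27_6 lc_g_rc_27_6 lc_g_rc_24_9 lc_g_rc_21_3 lc_g_Cert_tree lc_g_rc_24_7 lc_g_rc_21_2 lc_g_Cert_tree lc_g_rc_27_6 lc_g_rc_26_6 lc_g_rc_23_1 lc_g_Cert_tree lc_g_rc_21_3 lc_g_Cert_tree lc_g_Cert_tree lc_g_rc_21_2 lc_g_rc_21_3 lc_g_Cert_tree lc_g_rc_21_2 lc_g_rc_21_2 lc_g_rc_23_1 lc_g_rc_24_7 lc_g_Cert_tree lc_g_rc_26_9 lc_g_rc_21_3 lc_g_rc_27_6 lc_g_rc_23_9 lc_g_rc_21_3 lc_g_Cert_tree lc_g_Cert_tree lc_g_rc_21_3 lc_g_Cert_tree lc_g_rc_21_2 lc_g_rc_21_3 lc_g_Cert_tree lc_g_rc_27_6 lc_g_Cert_tree lc_g_rc_26_9 lc_g_rc_21_2 lc_g_rc_21_3) (@D3.rec (fun _ => (Cert rels S Gen.g)) lc_g_Cert_tree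 lc_g_Cert_tree lc_g_rc_21_2 lc_g_rc_27_0 lc_g_rc_23_7 lc_g_rc_24_1 lc_g_rc_24_9 lc_g_rc_23_7 lc_g_rc_26_3 lc_g_rc_25_15 lc_g_Cert_tree lc_g_Cert_tree lc_g_rc_27_0 lc_g_Cert_tree lc_g_rc_21_2 lc_g_rc_21_2 lc_g_rc_27_0 lc_g_rc_26_3 lc_g_Cert_tree lc_g_Cert_tree lc_g_rc_26_6 lc_g_rc_26_6 lc_g_rc_21_3 lc_g_Cert_tree lc_g_Cert_tree lc_g_rc_21_2 lc_g_rc_21_3 lc_g_Cert_tree lc_g_rc_21_2 lc_g_rc_21_3 lc_g_rc_21_3 lc_g_rc_27_3 lc_g_rc_21_2 lc_g_rc_24_3 lc_g_rc_27_6 lc_g_Cert_tree lc_g_rc_26_6 lc_g_rc_21_3 lc_g_Cert_tree lc_g_Cert_tree lc_g_rc_21_3 lc_g_Cert_tree lc_g_rc_21_3 lc_g_Cert_tree lc_g_Cert_tree lc_g_rc_21_2 lc_g_rc_26_9 lc_g_rc_26_3 lc_g_rc_26_6 lc_g_Cert_tree lc_g_rc_26_6 lc_g_rc_27_0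 lc_g_rc_27_3 lc_g_rc_24_1 lc_g_Cert_tree lc_g_rc_27_0 lc_g_Cert_tree lc_g_Cert_tree lc_g_rc_21_2 lc_g_rc_26_3 lc_g_Cert_tree lc_g_rc_26_0) (@D3.rec (fun _ => (Cert rels S Gen.g)) lc_g_rc_23_1 lc_g_Cert_tree lc_g_rc_23_9 lc_g_rc_26_3 lc_g_rc_26_0 lc_g_Cert_tree lc_g_rc_23_1 lc_g_Cert_tree lc_g_rc_21_3 lc_g_rc_26_0 lc_g_rc_27_0 lc_g_rc_26_9 lc_g_rc_23_9 lc_g_rc_21_2 lc_g_Cert_tree lc_g_rc_27_3 lc_g_rc_27_9 lc_g_rc_21_3 lc_g_rc_21_3 lc_g_rc_21_3 lc_g_rc_23_3 lc_g_rc_21_3 lc_g_rc_21_3 lc_g_Cert_tree lc_g_rc_27_3 lc_g_rc_21_2 lc_g_rc_24_7 lc_g_rc_23_7 lc_g_rc_21_3 lc_g_rc_26_6 lc_g_rc_23_1 lc_g_rc_24_9 lc_g_Cert_tree lc_g_rc_26_3 lc_g_Cert_tree lc_g_Cert_tree lc_g_rc_26_0 lc_g_rc_27_3 lc_g_rc_26_3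 lc_g_rc_24_1 lc_g_Cert_tree lc_g_rc_21_3 lc_g_Cert_tree lc_g_Cert_tree lc_g_rc_21_2 lc_g_rc_24_1 lc_g_Cert_tree lc_g_rc_26_3 lc_g_rc_21_3 lc_g_Cert_tree lc_g_rc_21_2 lc_g_rc_23_9 lc_g_rc_27_3 lc_g_rc_26_9 lc_g_rc_21_2 lc_g_rc_23_7 lc_g_rc_26_6 lc_g_rc_26_3 lc_g_rc_21_2 lc_g_rc_23_7 lc_g_Cert_tree lc_g_rc_21_3) (@D3.rec (fun _ => (Cert rels S Gen.g)) lc_g_Cert_tree lc_g_rc_27_3 lc_g_rc_24_9 lc_g_rc_23_1 lc_g_Cert_tree lc_g_Cert_tree lc_g_rc_21_2 lc_g_rc_21_2 lc_g_rc_21_2 lc_g_rc_21_2 lc_g_Cert_tree lc_g_rc_24_3 lc_g_rc_21_2 lc_g_rc_23_7 lc_g_rc_27_6 lc_g_rc_23_3 lc_g_rc_26_6 lc_g_rc_27_0 lc_g_rc_21_3 lc_g_rc_21_2 lc_g_rc_21_2 lc_g_rc_23_3 lc_g_rc_26_9 lc_g_rc_26_3 lc_g_rc_23_9 lc_g_rc_24_9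 lc_g_rc_27_3 lc_g_rc_21_2 lc_g_rc_26_0 lc_g_rc_24_1 lc_g_rc_27_6 lc_g_rc_27_3 lc_g_rc_26_3 lc_g_rc_25_3 lc_g_rc_23_3 lc_g_rc_27_6 lc_g_rc_24_7 lc_g_rc_27_3 lc_g_rc_21_3 lc_g_Cert_tree lc_g_Cert_tree lc_g_Cert_tree lc_g_rc_21_2 lc_g_Cert_tree lc_g_rc_23_3 lc_g_rc_27_6 lc_g_Cert_tree lc_g_rc_21_2 lc_g_rc_24_1 lc_g_rc_27_3 lc_g_Cert_tree lc_g_Cert_tree lc_g_Cert_tree lc_g_rc_26_3 lc_g_rc_23_3 lc_g_rc_24_1 lc_g_Cert_tree lc_g_rc_27_0 lc_g_rc_21_3 lc_g_Cert_tree lc_g_rc_23_3 lc_g_rc_23_7) (@D3.rec (fun _ => (Cert rels S Gen.g)) lc_g_rc_21_2 lc_g_rc_27_6 lc_g_rc_21_3 lc_g_Cert_tree lc_g_rc_23_3 lc_g_rc_21_3 lc_g_Cert_tree lc_g_rc_21_3 lc_g_rc_21_2 lc_g_rc_23_9 lc_g_rc_21_3 lc_g_Cert_tree lc_g_rc_21_3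 lc_g_Cert_tree lc_g_rc_24_1 lc_g_rc_27_6 lc_g_rc_27_3 lc_g_Cert_tree lc_g_rc_27_3 lc_g_Cert_tree lc_g_Cert_tree lc_g_Cert_tree lc_g_Cert_tree lc_g_rc_21_2 lc_g_rc_21_2 lc_g_Cert_tree lc_g_rc_21_3 lc_g_Cert_tree lc_g_Cert_tree lc_g_rc_21_2 lc_g_rc_26_6 lc_g_Cert_tree lc_g_rc_24_1 lc_g_rc_26_9 lc_g_rc_24_9 lc_g_Cert_tree lc_g_Cert_tree lc_g_rc_21_2 lc_g_rc_21_2 lc_g_rc_27_0 lc_g_rc_26_9 lc_g_rc_27_0 lc_g_rc_21_3 lc_g_Cert_tree lc_g_rc_21_2 lc_g_Cert_tree lc_g_rc_21_3 lc_g_rc_26_6 lc_g_rc_24_7 lc_g_rc_21_3 lc_g_Cert_tree lc_g_rc_21_3 lc_g_rc_21_2 lc_g_rc_24_7 lc_g_rc_27_3 lc_g_rc_24_7 lc_g_rc_27_9 lc_g_Cert_tree lc_g_Cert_tree lc_g_Cert_tree lc_g_rc_21_2 lc_g_rc_21_3) (@D3.rec (fun _ => (Cert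 rels S Gen.g)) lc_g_Cert_tree lc_g_rc_21_2 lc_g_rc_23_7 lc_g_Cert_tree lc_g_rc_23_7 lc_g_rc_27_6 lc_g_rc_27_0 lc_g_Cert_tree lc_g_Cert_tree lc_g_rc_21_2 lc_g_Cert_tree lc_g_rc_27_6 lc_g_Cert_tree lc_g_Cert_tree lc_g_rc_21_2 lc_g_rc_24_1 lc_g_rc_21_3 lc_g_Cert_tree lc_g_rc_27_6 lc_g_rc_21_2 lc_g_rc_21_2 lc_g_rc_26_0 lc_g_rc_25_19 lc_g_Cert_tree lc_g_rc_23_7 lc_g_rc_21_3 lc_g_rc_21_2 lc_g_Cert_tree lc_g_Cert_tree lc_g_rc_23_7 lc_g_rc_24_9 lc_g_rc_21_3 lc_g_Cert_tree lc_g_Cert_tree lc_g_Cert_tree lc_g_rc_23_9 lc_g_rc_21_2 lc_g_rc_21_3 lc_g_Cert_tree lc_g_rc_23_9 lc_g_rc_24_1 lc_g_rc_26_9 lc_g_Cert_tree lc_g_rc_21_2 lc_g_rc_26_6 lc_g_rc_26_9 lc_g_rc_21_3 lc_g_Cert_tree lc_g_Cert_tree lc_g_Cert_tree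 lc_g_rc_21_3 lc_g_Cert_tree lc_g_rc_21_3 lc_g_Cert_tree lc_g_rc_23_3 lc_g_rc_21_2 lc_g_rc_21_3 lc_g_Cert_tree lc_g_rc_21_2 lc_g_Cert_tree lc_g_rc_23_7 lc_g_Cert_tree) (@D3.rec (fun _ => (Cert rels S Gen.g)) lc_g_rc_26_6 lc_g_rc_21_2 lc_g_rc_21_3 lc_g_rc_27_9 lc_g_rc_21_3 lc_g_rc_27_9 lc_g_rc_23_3 lc_g_rc_21_3 lc_g_rc_21_2 lc_g_rc_21_3 lc_g_Cert_tree lc_g_rc_27_6 lc_g_rc_21_2 lc_g_rc_27_9 lc_g_rc_21_3 lc_g_rc_26_3 lc_g_rc_24_1 lc_g_rc_21_3 lc_g_rc_26_6 lc_g_rc_21_3 lc_g_Cert_tree lc_g_Cert_tree lc_g_rc_21_2 lc_g_rc_21_2 lc_g_rc_21_3 lc_g_Cert_tree lc_g_rc_21_2 lc_g_Cert_tree lc_g_Cert_tree lc_g_rc_26_3 lc_g_rc_21_3 lc_g_rc_26_9 lc_g_rc_21_2 lc_g_rc_24_7 lc_g_rc_21_3 lc_g_Cert_tree lc_g_rc_21_2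 lc_g_Cert_tree lc_g_rc_26_3 lc_g_rc_21_3 lc_g_Cert_tree lc_g_Cert_tree lc_g_rc_21_2 lc_g_rc_27_3 lc_g_rc_27_6 lc_g_rc_24_3 lc_g_rc_21_3 lc_g_rc_26_9 lc_g_rc_26_0 lc_g_Cert_tree lc_g_rc_26_6 lc_g_rc_21_3 lc_g_rc_26_0 lc_g_Cert_tree lc_g_rc_21_3 lc_g_Cert_tree lc_g_rc_26_0 lc_g_Cert_tree lc_g_rc_23_7 lc_g_rc_27_0 lc_g_rc_21_2 lc_g_rc_21_3) (@D3.rec (fun _ => (Cert rels S Gen.g)) lc_g_Cert_tree lc_g_Cert_tree lc_g_rc_21_3 lc_g_Cert_tree lc_g_rc_21_2 lc_g_rc_21_2 lc_g_rc_26_0 lc_g_rc_26_6 lc_g_Cert_tree lc_g_rc_21_2 lc_g_rc_26_6 lc_g_rc_21_3 lc_g_Cert_tree lc_g_Cert_tree lc_g_rc_27_6 lc_g_rc_21_3 lc_g_Cert_tree lc_g_rc_26_3 lc_g_Cert_tree lc_g_Cert_tree lc_g_rc_26_3 lc_g_rc_26_6 lc_g_Cert_tree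 lc_g_rc_23_3 lc_g_rc_21_3 lc_g_Cert_tree lc_g_Cert_tree lc_g_rc_21_2 lc_g_Cert_tree lc_g_rc_27_6 lc_g_Cert_tree lc_g_rc_23_1 lc_g_rc_24_3 lc_g_rc_24_1 lc_g_Cert_tree lc_g_rc_27_3 lc_g_rc_21_2 lc_g_rc_21_3 lc_g_rc_26_3 lc_g_Cert_tree lc_g_rc_23_1 lc_g_Cert_tree lc_g_Cert_tree lc_g_Cert_tree lc_g_Cert_tree lc_g_rc_21_2 lc_g_rc_21_3 lc_g_Cert_tree lc_g_rc_21_3 lc_g_rc_21_3 lc_g_rc_27_6 lc_g_rc_21_2 lc_g_rc_27_3 lc_g_Cert_tree lc_g_rc_21_2 lc_g_rc_23_9 lc_g_Cert_tree lc_g_rc_26_3 lc_g_rc_21_3 lc_g_rc_21_3 lc_g_Cert_tree lc_g_rc_21_3) (@D3.rec (fun _ => (Cert rels S Gen.g)) lc_g_Cert_tree lc_g_rc_23_3 lc_g_Cert_tree lc_g_rc_23_9 lc_g_Cert_tree lc_g_rc_23_9 lc_g_Cert_tree lc_g_Cert_tree lc_g_rc_23_7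 lc_g_Cert_tree lc_g_Cert_tree lc_g_rc_23_1 lc_g_rc_26_9 lc_g_rc_23_7 lc_g_rc_27_9 lc_g_Cert_tree lc_g_Cert_tree lc_g_rc_21_2 lc_g_Cert_tree lc_g_Cert_tree lc_g_rc_24_1 lc_g_rc_21_2 lc_g_rc_26_9 lc_g_rc_27_3 lc_g_rc_24_3 lc_g_rc_21_2 lc_g_rc_21_2 lc_g_rc_21_3 lc_g_rc_21_3 lc_g_rc_23_3 lc_g_rc_21_3 lc_g_Cert_tree lc_g_Cert_tree lc_g_rc_27_0 lc_g_rc_21_3 lc_g_Cert_tree lc_g_rc_21_2 lc_g_rc_21_3 lc_g_Cert_tree lc_g_rc_27_0 lc_g_rc_27_3 lc_g_Cert_tree lc_g_rc_24_7 lc_g_rc_23_1 lc_g_rc_23_1 lc_g_Cert_tree lc_g_Cert_tree lc_g_rc_21_3 lc_g_rc_24_7 lc_g_rc_21_2 lc_g_rc_21_2 lc_g_rc_21_2 lc_g_Cert_tree lc_g_rc_27_9 lc_g_Cert_tree lc_g_rc_26_3 lc_g_rc_21_3 lc_g_rc_21_3 lc_g_Cert_tree lc_g_rc_24_7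 lc_g_Cert_tree lc_g_Cert_tree) (@D3.rec (fun _ => (Cert rels S Gen.g)) lc_g_rc_27_3 lc_g_Cert_tree lc_g_rc_21_2 lc_g_rc_27_6 lc_g_rc_21_2 lc_g_Cert_tree lc_g_rc_27_3 lc_g_Cert_tree lc_g_rc_21_3 lc_g_rc_27_6 lc_g_rc_24_7 lc_g_rc_24_9 lc_g_rc_23_3 lc_g_rc_27_6 lc_g_Cert_tree lc_g_rc_21_2 lc_g_rc_24_3 lc_g_Cert_tree lc_g_rc_23_7 lc_g_Cert_tree lc_g_Cert_tree lc_g_rc_27_6 lc_g_Cert_tree lc_g_rc_21_3 lc_g_Cert_tree lc_g_rc_21_2 lc_g_Cert_tree lc_g_rc_21_3 lc_g_Cert_tree lc_g_rc_27_3 lc_g_Cert_tree lc_g_rc_23_3 lc_g_rc_26_3 lc_g_rc_26_9 lc_g_rc_27_3 lc_g_rc_24_7 lc_g_Cert_tree lc_g_Cert_tree lc_g_rc_21_3 lc_g_rc_21_3 lc_g_Cert_tree lc_g_rc_21_2 lc_g_Cert_tree lc_g_Cert_tree lc_g_Cert_tree lc_g_rc_24_3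 lc_g_rc_24_9 lc_g_rc_21_2 lc_g_Cert_tree lc_g_rc_26_9 lc_g_rc_27_6 lc_g_rc_24_1 lc_g_Cert_tree lc_g_Cert_tree lc_g_Cert_tree lc_g_Cert_tree lc_g_rc_21_3 lc_g_Cert_tree lc_g_rc_21_3 lc_g_rc_21_3 lc_g_Cert_tree lc_g_rc_21_2) (@D3.rec (fun _ => (Cert rels S Gen.g)) lc_g_Cert_tree lc_g_rc_21_3 lc_g_Cert_tree lc_g_rc_23_3 lc_g_rc_21_2 lc_g_rc_21_2 lc_g_rc_27_6 lc_g_rc_27_6 lc_g_rc_21_2 lc_g_Cert_tree lc_g_rc_21_3 lc_g_Cert_tree lc_g_Cert_tree lc_g_rc_26_9 lc_g_Cert_tree lc_g_rc_21_3 lc_g_Cert_tree lc_g_rc_21_2 lc_g_rc_21_3 lc_g_Cert_tree lc_g_rc_21_2 lc_g_Cert_tree lc_g_rc_23_3 lc_g_rc_21_2 lc_g_rc_27_6 lc_g_rc_21_2 lc_g_rc_21_2 lc_g_rc_21_2 lc_g_rc_23_9 lc_g_Cert_tree lc_g_Cert_tree lc_g_rc_21_3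 lc_g_Cert_tree lc_g_rc_23_9 lc_g_rc_21_3 lc_g_rc_27_0 lc_g_rc_21_2 lc_g_rc_21_3 lc_g_Cert_tree lc_g_rc_27_3 lc_g_Cert_tree lc_g_rc_21_3 lc_g_Cert_tree lc_g_rc_21_2 lc_g_Cert_tree lc_g_Cert_tree lc_g_Cert_tree lc_g_rc_26_6 lc_g_Cert_tree lc_g_rc_23_1 lc_g_Cert_tree lc_g_rc_21_3 lc_g_rc_27_3 lc_g_rc_23_9 lc_g_rc_24_7 lc_g_Cert_tree lc_g_Cert_tree lc_g_rc_21_3 lc_g_rc_23_9 lc_g_rc_21_3 lc_g_Cert_tree lc_g_rc_21_2) (@D3.rec (fun _ => (Cert rels S Gen.g)) lc_g_Cert_tree lc_g_rc_26_3 lc_g_rc_21_2 lc_g_rc_23_9 lc_g_rc_27_6 lc_g_rc_24_1 lc_g_Cert_tree lc_g_rc_24_1 lc_g_Cert_tree lc_g_rc_21_3 lc_g_Cert_tree lc_g_rc_21_2 lc_g_rc_21_3 lc_g_Cert_tree lc_g_rc_21_2 lc_g_Cert_tree lc_g_rc_21_2 lc_g_Cert_tree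 lc_g_rc_27_6 lc_g_rc_27_3 lc_g_rc_27_6 lc_g_rc_21_3 lc_g_Cert_tree lc_g_rc_21_2 lc_g_rc_21_3 lc_g_rc_26_3 lc_g_rc_26_6 lc_g_rc_26_9 lc_g_Cert_tree lc_g_rc_27_3 lc_g_rc_21_2 lc_g_rc_23_3 lc_g_rc_26_3 lc_g_rc_24_1 lc_g_rc_26_6 lc_g_rc_27_3 lc_g_rc_21_2 lc_g_rc_21_2 lc_g_Cert_tree lc_g_rc_21_2 lc_g_Cert_tree lc_g_rc_21_3 lc_g_Cert_tree lc_g_Cert_tree lc_g_rc_21_2 lc_g_rc_23_7 lc_g_rc_21_3 lc_g_Cert_tree lc_g_Cert_tree lc_g_rc_23_9 lc_g_rc_21_2 lc_g_rc_23_1 lc_g_Cert_tree lc_g_rc_21_3 lc_g_Cert_tree lc_g_rc_21_2 lc_g_rc_23_9 lc_g_Cert_tree lc_g_rc_23_9 lc_g_Cert_tree lc_g_rc_21_3 lc_g_Cert_tree) (@D3.rec (fun _ => (Cert rels S Gen.g)) lc_g_Cert_tree lc_g_rc_24_3 lc_g_Cert_tree lc_g_rc_24_1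 lc_g_Cert_tree lc_g_rc_21_3 lc_g_Cert_tree lc_g_rc_24_7 lc_g_Cert_tree lc_g_Cert_tree lc_g_rc_21_3 lc_g_rc_21_2 lc_g_rc_26_3 lc_g_rc_26_6 lc_g_rc_21_3 lc_g_rc_21_3 lc_g_rc_24_7 lc_g_Cert_tree lc_g_Cert_tree lc_g_rc_21_2 lc_g_rc_21_2 lc_g_rc_26_3 lc_g_rc_21_3 lc_g_Cert_tree lc_g_rc_21_3 lc_g_Cert_tree lc_g_rc_21_2 lc_g_rc_21_3 lc_g_Cert_tree lc_g_rc_26_3 lc_g_rc_21_2 lc_g_rc_24_1 lc_g_rc_27_3 lc_g_Cert_tree lc_g_rc_24_7 lc_g_Cert_tree lc_g_rc_24_9 lc_g_rc_21_2 lc_g_rc_26_0 lc_g_rc_21_3 lc_g_rc_21_3 lc_g_rc_21_3 lc_g_Cert_tree lc_g_rc_21_2 lc_g_rc_23_9 lc_g_rc_21_3 lc_g_Cert_tree lc_g_Cert_tree lc_g_rc_26_3 lc_g_rc_26_6 lc_g_Cert_tree lc_g_rc_24_3 lc_g_rc_27_0 lc_g_rc_23_1 lc_g_rc_21_3 lc_g_Cert_tree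 lc_g_rc_23_1 lc_g_rc_21_3 lc_g_rc_26_0 lc_g_rc_26_6 lc_g_rc_27_9 lc_g_rc_26_6) (@D3.rec (fun _ => (Cert rels S Gen.g)) lc_g_rc_27_6 lc_g_rc_23_3 lc_g_rc_21_3 lc_g_Cert_tree lc_g_rc_27_9 lc_g_rc_21_3 lc_g_rc_24_7 lc_g_rc_23_1 lc_g_Cert_tree lc_g_Cert_tree lc_g_rc_26_3 lc_g_rc_27_3 lc_g_rc_21_2 lc_g_rc_26_3 lc_g_Cert_tree lc_g_rc_21_3 lc_g_rc_27_9 lc_g_Cert_tree lc_g_rc_24_9 lc_g_rc_26_3 lc_g_Cert_tree lc_g_Cert_tree lc_g_rc_21_3 lc_g_Cert_tree lc_g_rc_21_2 lc_g_rc_21_3 lc_g_rc_21_2 lc_g_rc_21_2 lc_g_Cert_tree lc_g_Cert_tree lc_g_rc_21_3 lc_g_Cert_tree lc_g_rc_24_7 lc_g_rc_21_3 lc_g_rc_21_2 lc_g_Cert_tree lc_g_rc_27_3 lc_g_rc_24_7 lc_g_rc_23_1 lc_g_rc_23_1 lc_g_Cert_tree lc_g_Cert_tree lc_g_rc_21_3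 lc_g_rc_26_9 lc_g_rc_21_3 lc_g_rc_26_3 lc_g_Cert_tree lc_g_rc_26_0 lc_g_rc_23_9 lc_g_Cert_tree lc_g_rc_21_3 lc_g_Cert_tree lc_g_rc_21_2 lc_g_rc_27_9 lc_g_rc_24_9 lc_g_Cert_tree lc_g_rc_23_9 lc_g_Cert_tree lc_g_Cert_tree lc_g_rc_27_0 lc_g_Cert_tree lc_g_rc_23_3) (@D3.rec (fun _ => (Cert rels S Gen.g)) lc_g_rc_26_3 lc_g_rc_21_3 lc_g_rc_21_2 lc_g_rc_21_3 lc_g_rc_23_1 lc_g_rc_21_2 lc_g_rc_27_6 lc_g_Cert_tree lc_g_rc_21_3 lc_g_rc_21_2 lc_g_rc_24_7 lc_g_Cert_tree lc_g_rc_21_2 lc_g_rc_21_2 lc_g_rc_23_1 lc_g_Cert_tree lc_g_rc_24_9 lc_g_rc_27_6 lc_g_rc_24_9 lc_g_rc_24_3 lc_g_Cert_tree lc_g_Cert_tree lc_g_rc_24_3 lc_g_Cert_tree lc_g_rc_24_7 lc_g_rc_21_3 lc_g_Cert_tree lc_g_rc_21_2 lc_g_rc_24_9 lc_g_rc_21_2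 lc_g_rc_27_3 lc_g_rc_24_7 lc_g_rc_26_9 lc_g_rc_27_3 lc_g_rc_24_7 lc_g_rc_27_6 lc_g_rc_21_3 lc_g_Cert_tree lc_g_Cert_tree lc_g_rc_21_2 lc_g_rc_27_6 lc_g_rc_21_3 lc_g_Cert_tree lc_g_rc_21_2 lc_g_rc_21_3 lc_g_Cert_tree lc_g_rc_21_2 lc_g_Cert_tree lc_g_rc_23_3 lc_g_rc_21_2 lc_g_rc_21_2 lc_g_rc_24_7 lc_g_rc_27_6 lc_g_rc_24_7 lc_g_rc_24_9 lc_g_rc_21_3 lc_g_Cert_tree lc_g_Cert_tree lc_g_rc_21_2 lc_g_rc_21_3 lc_g_Cert_tree lc_g_rc_21_2) (@D3.rec (fun _ => (Cert rels S Gen.g)) lc_g_rc_21_3 lc_g_Cert_tree lc_g_Cert_tree lc_g_Cert_tree lc_g_Cert_tree lc_g_rc_21_3 lc_g_rc_21_2 lc_g_Cert_tree lc_g_rc_21_2 lc_g_rc_26_3 lc_g_rc_21_3 lc_g_rc_23_3 lc_g_Cert_tree lc_g_rc_26_3 lc_g_rc_23_1 lc_g_rc_26_9 lc_g_Cert_tree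 lc_g_rc_21_3 lc_g_Cert_tree lc_g_rc_24_1 lc_g_rc_26_6 lc_g_Cert_tree lc_g_rc_23_3 lc_g_Cert_tree lc_g_rc_27_0 lc_g_rc_21_3 lc_g_Cert_tree lc_g_rc_26_3 lc_g_rc_24_7 lc_g_rc_26_0 lc_g_rc_24_7 lc_g_rc_26_0 lc_g_rc_24_9 lc_g_rc_24_3 lc_g_rc_21_3 lc_g_Cert_tree lc_g_rc_27_6 lc_g_rc_21_2 lc_g_rc_23_3 lc_g_rc_21_2 lc_g_rc_21_2 lc_g_Cert_tree lc_g_Cert_tree lc_g_rc_21_3 lc_g_Cert_tree lc_g_rc_27_6 lc_g_rc_21_2 lc_g_rc_21_2 lc_g_rc_26_3 lc_g_rc_24_7 lc_g_rc_26_6 lc_g_Cert_tree lc_g_rc_21_2 lc_g_rc_26_6 lc_g_rc_21_3 lc_g_rc_26_6 lc_g_rc_27_0 lc_g_rc_27_6 lc_g_rc_21_3 lc_g_rc_23_9 lc_g_Cert_tree lc_g_rc_26_3) (@D3.rec (fun _ => (Cert rels S Gen.g)) lc_g_Cert_tree lc_g_rc_23_7 lc_g_rc_26_3 lc_g_rc_26_3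 lc_g_rc_24_3 lc_g_Cert_tree lc_g_Cert_tree lc_g_rc_21_3 lc_g_Cert_tree lc_g_Cert_tree lc_g_rc_21_3 lc_g_rc_24_1 lc_g_Cert_tree lc_g_rc_27_0 lc_g_Cert_tree lc_g_rc_26_6 lc_g_Cert_tree lc_g_rc_21_2 lc_g_rc_21_3 lc_g_Cert_tree lc_g_rc_21_2 lc_g_rc_21_3 lc_g_Cert_tree lc_g_Cert_tree lc_g_rc_21_3 lc_g_Cert_tree lc_g_rc_21_2 lc_g_rc_23_9 lc_g_rc_21_3 lc_g_rc_26_9 lc_g_rc_27_9 lc_g_Cert_tree lc_g_rc_26_3 lc_g_rc_27_0 lc_g_Cert_tree lc_g_rc_21_2 lc_g_rc_21_3 lc_g_Cert_tree lc_g_rc_21_2 lc_g_rc_24_3 lc_g_rc_21_3 lc_g_Cert_tree lc_g_rc_27_3 lc_g_rc_21_2 lc_g_rc_21_3 lc_g_rc_27_9 lc_g_Cert_tree lc_g_Cert_tree lc_g_rc_27_3 lc_g_rc_21_3 lc_g_rc_21_3 lc_g_rc_21_3 lc_g_Cert_tree lc_g_Cert_tree lc_g_Cert_tree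 lc_g_Cert_tree lc_g_Cert_tree lc_g_rc_27_3 lc_g_Cert_tree lc_g_rc_23_1 lc_g_rc_21_3 lc_g_rc_21_3) (@D3.rec (fun _ => (Cert rels S Gen.g)) lc_g_Cert_tree lc_g_rc_21_2 lc_g_rc_21_3 lc_g_rc_21_2 lc_g_Cert_tree lc_g_Cert_tree lc_g_Cert_tree lc_g_rc_27_6 lc_g_Cert_tree lc_g_Cert_tree lc_g_rc_21_2 lc_g_rc_23_3 lc_g_rc_26_3 lc_g_rc_21_3 lc_g_Cert_tree lc_g_rc_21_2 lc_g_rc_21_3 lc_g_Cert_tree lc_g_rc_27_3 lc_g_rc_21_2 lc_g_Cert_tree lc_g_rc_26_0 lc_g_Cert_tree lc_g_Cert_tree lc_g_rc_24_1 lc_g_rc_23_9 lc_g_rc_24_3 lc_g_rc_21_3 lc_g_rc_21_2 lc_g_rc_21_3 lc_g_Cert_tree lc_g_rc_21_2 lc_g_rc_21_2 lc_g_rc_27_6 lc_g_Cert_tree lc_g_rc_27_0 lc_g_Cert_tree lc_g_Cert_tree lc_g_rc_27_6 lc_g_Cert_tree lc_g_rc_21_3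 lc_g_rc_27_0 lc_g_rc_21_3 lc_g_rc_26_6 lc_g_rc_21_2 lc_g_rc_26_3 lc_g_rc_24_3 lc_g_rc_24_3 lc_g_rc_23_3 lc_g_rc_21_3 lc_g_rc_21_2 lc_g_Cert_tree lc_g_rc_24_1 lc_g_Cert_tree lc_g_rc_21_2 lc_g_rc_21_2 lc_g_rc_26_9 lc_g_rc_26_3 lc_g_rc_27_9 lc_g_rc_21_3 lc_g_rc_26_9 lc_g_rc_21_2) (@D3.rec (fun _ => (Cert rels S Gen.g)) lc_g_rc_21_2 lc_g_rc_21_2 lc_g_Cert_tree lc_g_Cert_tree lc_g_Cert_tree lc_g_rc_24_3 lc_g_rc_23_3 lc_g_rc_21_3 lc_g_rc_21_3 lc_g_Cert_tree lc_g_rc_21_3 lc_g_Cert_tree lc_g_Cert_tree lc_g_Cert_tree lc_g_rc_23_3 lc_g_rc_21_3 lc_g_rc_27_9 lc_g_rc_27_6 lc_g_rc_26_9 lc_g_rc_27_0 lc_g_rc_26_6 lc_g_rc_24_3 lc_g_rc_23_3 lc_g_rc_23_3 lc_g_Cert_tree lc_g_rc_23_9 lc_g_Cert_tree lc_g_rc_27_6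 lc_g_Cert_tree lc_g_Cert_tree lc_g_rc_26_3 lc_g_rc_26_3 lc_g_Cert_tree lc_g_rc_27_9 lc_g_rc_21_3 lc_g_Cert_tree lc_g_rc_21_2 lc_g_rc_21_3 lc_g_Cert_tree lc_g_rc_21_2 lc_g_Cert_tree lc_g_rc_27_3 lc_g_rc_21_3 lc_g_rc_27_6 lc_g_rc_27_3 lc_g_rc_21_3 lc_g_Cert_tree lc_g_rc_26_9 lc_g_Cert_tree lc_g_Cert_tree lc_g_rc_27_6 lc_g_rc_23_3 lc_g_rc_21_3 lc_g_Cert_tree lc_g_rc_21_2 lc_g_rc_26_9 lc_g_rc_27_6 lc_g_rc_27_0 lc_g_rc_27_3 lc_g_rc_26_3 lc_g_rc_25_3 lc_g_Cert_tree) (@D3.rec (fun _ => (Cert rels S Gen.g)) lc_g_rc_26_9 lc_g_rc_21_3 lc_g_Cert_tree lc_g_rc_27_3 lc_g_rc_21_2 lc_g_Cert_tree lc_g_rc_27_9 lc_g_Cert_tree lc_g_rc_27_9 lc_g_Cert_tree lc_g_rc_27_3 lc_g_Cert_tree lc_g_rc_23_9 lc_g_rc_21_2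 lc_g_rc_27_9 lc_g_Cert_tree lc_g_Cert_tree lc_g_rc_27_9 lc_g_rc_26_3 lc_g_Cert_tree lc_g_rc_21_2 lc_g_rc_24_9 lc_g_rc_27_3 lc_g_rc_27_9 lc_g_rc_21_3 lc_g_rc_21_2 lc_g_rc_24_7 lc_g_rc_27_9 lc_g_rc_27_0 lc_g_rc_21_2 lc_g_Cert_tree lc_g_Cert_tree lc_g_Cert_tree lc_g_rc_21_2 lc_g_Cert_tree lc_g_Cert_tree lc_g_Cert_tree lc_g_rc_27_0 lc_g_rc_21_2 lc_g_rc_27_0 lc_g_rc_21_2 lc_g_rc_24_7 lc_g_rc_26_0 lc_g_rc_21_3 lc_g_rc_26_6 lc_g_Cert_tree lc_g_Cert_tree lc_g_rc_21_3 lc_g_Cert_tree lc_g_rc_25_3 lc_g_rc_23_9 lc_g_rc_27_9 lc_g_rc_26_9 lc_g_rc_21_3 lc_g_Cert_tree lc_g_rc_26_3 lc_g_Cert_tree lc_g_Cert_tree lc_g_rc_27_3 lc_g_Cert_tree lc_g_Cert_tree lc_g_rc_21_2) (@D3.rec (fun _ => (Cert rels S Gen.g))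 lc_g_rc_21_2 lc_g_rc_21_2 lc_g_rc_26_3 lc_g_rc_24_3 lc_g_Cert_tree lc_g_Cert_tree lc_g_Cert_tree lc_g_rc_21_3 lc_g_Cert_tree lc_g_rc_26_0 lc_g_rc_26_9 lc_g_Cert_tree lc_g_rc_21_3 lc_g_Cert_tree lc_g_rc_27_3 lc_g_rc_21_2 lc_g_rc_26_3 lc_g_rc_21_3 lc_g_rc_27_6 lc_g_rc_26_6 lc_g_rc_23_7 lc_g_Cert_tree lc_g_rc_21_3 lc_g_Cert_tree lc_g_Cert_tree lc_g_Cert_tree lc_g_rc_21_3 lc_g_Cert_tree lc_g_rc_23_7 lc_g_Cert_tree lc_g_rc_23_7 lc_g_rc_21_2 lc_g_rc_23_7 lc_g_rc_26_6 lc_g_rc_21_3 lc_g_Cert_tree lc_g_rc_21_2 lc_g_rc_23_7 lc_g_rc_21_2 lc_g_rc_21_3 lc_g_Cert_tree lc_g_Cert_tree lc_g_Cert_tree lc_g_rc_21_2 lc_g_rc_21_3 lc_g_rc_21_2 lc_g_Cert_tree lc_g_rc_27_6 lc_g_rc_21_3 lc_g_rc_21_2 lc_g_rc_21_2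 lc_g_Cert_tree lc_g_rc_21_2 lc_g_rc_23_3 lc_g_rc_27_6 lc_g_rc_21_3 lc_g_Cert_tree lc_g_rc_26_3 lc_g_Cert_tree lc_g_Cert_tree lc_g_rc_24_9 lc_g_Cert_tree) (@D3.rec (fun _ => (Cert rels S Gen.g)) lc_g_rc_21_2 lc_g_Cert_tree lc_g_rc_21_2 lc_g_Cert_tree lc_g_rc_26_0 lc_g_rc_21_3 lc_g_Cert_tree lc_g_rc_21_2 lc_g_Cert_tree lc_g_rc_23_3 lc_g_rc_24_7 lc_g_rc_27_3 lc_g_Cert_tree lc_g_rc_26_3 lc_g_rc_26_6 lc_g_rc_26_0 lc_g_Cert_tree lc_g_rc_27_3 lc_g_rc_21_2 lc_g_rc_26_3 lc_g_rc_27_0 lc_g_rc_23_7 lc_g_rc_21_2 lc_g_rc_26_6 lc_g_rc_21_2 lc_g_rc_21_2 lc_g_rc_21_3 lc_g_Cert_tree lc_g_rc_26_6 lc_g_rc_23_7 lc_g_Cert_tree lc_g_Cert_tree lc_g_rc_21_3 lc_g_Cert_tree lc_g_Cert_tree lc_g_rc_21_2 lc_g_rc_23_7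 lc_g_rc_24_1 lc_g_Cert_tree lc_g_Cert_tree lc_g_Cert_tree lc_g_Cert_tree lc_g_Cert_tree lc_g_Cert_tree lc_g_Cert_tree lc_g_rc_27_9 lc_g_rc_21_2 lc_g_Cert_tree lc_g_rc_21_2 lc_g_rc_21_2 lc_g_rc_21_3 lc_g_Cert_tree lc_g_rc_21_2 lc_g_Cert_tree lc_g_Cert_tree lc_g_rc_21_2 lc_g_rc_24_3 lc_g_rc_21_3 lc_g_rc_21_3 lc_g_rc_23_7 lc_g_Cert_tree lc_g_rc_26_6) (@D3.rec (fun _ => (Cert rels S Gen.g)) lc_g_rc_26_0 lc_g_Cert_tree lc_g_rc_21_3 lc_g_Cert_tree lc_g_rc_21_3 lc_g_Cert_tree lc_g_Cert_tree lc_g_rc_21_3 lc_g_Cert_tree lc_g_Cert_tree lc_g_rc_26_0 lc_g_Cert_tree lc_g_rc_21_3 lc_g_Cert_tree lc_g_rc_26_3 lc_g_rc_23_1 lc_g_Cert_tree lc_g_rc_21_2 lc_g_rc_21_3 lc_g_Cert_tree lc_g_Cert_tree lc_g_rc_21_2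 lc_g_Cert_tree lc_g_rc_21_2 lc_g_Cert_tree lc_g_Cert_tree lc_g_Cert_tree lc_g_Cert_tree lc_g_rc_27_6 lc_g_Cert_tree lc_g_Cert_tree lc_g_rc_21_2 lc_g_rc_21_3 lc_g_Cert_tree lc_g_rc_21_2 lc_g_Cert_tree lc_g_rc_21_3 lc_g_rc_21_3 lc_g_Cert_tree lc_g_Cert_tree lc_g_Cert_tree lc_g_Cert_tree lc_g_rc_21_2 lc_g_rc_26_9 lc_g_rc_23_7 lc_g_Cert_tree lc_g_Cert_tree lc_g_rc_26_9 lc_g_rc_21_3 lc_g_rc_26_3 lc_g_rc_21_2 lc_g_Cert_tree lc_g_rc_21_3 lc_g_Cert_tree lc_g_rc_27_6 lc_g_rc_21_3 lc_g_Cert_tree lc_g_Cert_tree lc_g_rc_21_2 lc_g_rc_21_3 lc_g_Cert_tree lc_g_Cert_tree) (@D3.rec (fun _ => (Cert rels S Gen.g)) lc_g_rc_21_2 lc_g_Cert_tree lc_g_rc_26_3 lc_g_rc_21_2 lc_g_Cert_tree lc_g_rc_21_3 lc_g_Cert_tree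 lc_g_Cert_tree lc_g_rc_21_2 lc_g_rc_21_3 lc_g_Cert_tree lc_g_rc_23_7 lc_g_rc_26_9 lc_g_rc_26_6 lc_g_rc_24_1 lc_g_rc_26_9 lc_g_Cert_tree lc_g_rc_21_3 lc_g_Cert_tree lc_g_rc_27_0 lc_g_rc_21_2 lc_g_rc_26_3 lc_g_rc_21_3 lc_g_Cert_tree lc_g_rc_26_3 lc_g_Cert_tree lc_g_Cert_tree lc_g_Cert_tree lc_g_Cert_tree lc_g_rc_26_3 lc_g_rc_21_3 lc_g_rc_27_3 lc_g_rc_21_2 lc_g_rc_27_3 lc_g_rc_24_7 lc_g_rc_26_3 lc_g_rc_26_6 lc_g_rc_21_3 lc_g_Cert_tree lc_g_rc_21_2 lc_g_rc_27_3 lc_g_rc_23_9 lc_g_rc_26_6 lc_g_rc_23_7 lc_g_rc_26_0 lc_g_rc_26_0 lc_g_Cert_tree lc_g_rc_26_3 lc_g_rc_21_3 lc_g_Cert_tree lc_g_rc_23_7 lc_g_rc_21_2 lc_g_rc_21_2 lc_g_Cert_tree lc_g_rc_21_3 lc_g_Cert_tree lc_g_rc_21_3 lc_g_Cert_tree lc_g_Cert_tree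 lc_g_rc_26_0 lc_g_rc_27_0 lc_g_rc_23_7) (@D3.rec (fun _ => (Cert rels S Gen.g)) lc_g_rc_26_3 lc_g_rc_21_3 lc_g_rc_23_7 lc_g_rc_21_3 lc_g_Cert_tree lc_g_Cert_tree lc_g_rc_27_3 lc_g_rc_26_6 lc_g_rc_27_9 lc_g_rc_21_2 lc_g_Cert_tree lc_g_Cert_tree lc_g_rc_27_0 lc_g_rc_21_2 lc_g_rc_21_2 lc_g_rc_24_3 lc_g_Cert_tree lc_g_Cert_tree lc_g_rc_26_3 lc_g_Cert_tree lc_g_Cert_tree lc_g_Cert_tree lc_g_rc_26_9 lc_g_rc_26_6 lc_g_rc_27_6 lc_g_rc_21_3 lc_g_Cert_tree lc_g_rc_21_2 lc_g_rc_23_1 lc_g_Cert_tree lc_g_rc_27_6 lc_g_Cert_tree lc_g_rc_24_7 lc_g_rc_26_0 lc_g_rc_24_3 lc_g_rc_26_3 lc_g_rc_21_3 lc_g_rc_26_6 lc_g_rc_23_9 lc_g_Cert_tree lc_g_rc_24_9 lc_g_Cert_tree lc_g_Cert_tree lc_g_rc_21_3 lc_g_Cert_tree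 lc_g_Cert_tree lc_g_rc_21_2 lc_g_rc_21_3 lc_g_Cert_tree lc_g_Cert_tree lc_g_rc_21_2 lc_g_Cert_tree lc_g_Cert_tree lc_g_Cert_tree lc_g_Cert_tree lc_g_rc_21_3 lc_g_Cert_tree lc_g_Cert_tree lc_g_rc_21_2 lc_g_Cert_tree lc_g_Cert_tree lc_g_Cert_tree) (@D3.rec (fun _ => (Cert rels S Gen.g)) lc_g_rc_21_2 lc_g_rc_26_0 lc_g_Cert_tree lc_g_rc_24_3 lc_g_rc_26_3 lc_g_rc_24_1 lc_g_rc_24_7 lc_g_rc_24_3 lc_g_rc_21_3 lc_g_Cert_tree lc_g_rc_24_3 lc_g_Cert_tree lc_g_rc_21_2 lc_g_rc_26_9 lc_g_rc_23_1 lc_g_rc_26_3 lc_g_Cert_tree lc_g_rc_25_7 lc_g_rc_26_9 lc_g_rc_23_3 lc_g_rc_26_3 lc_g_Cert_tree lc_g_rc_21_3 lc_g_rc_26_6 lc_g_Cert_tree lc_g_rc_21_3 lc_g_Cert_tree lc_g_Cert_tree lc_g_rc_21_2 lc_g_rc_21_3 lc_g_Cert_tree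 lc_g_Cert_tree lc_g_rc_21_2 lc_g_rc_23_3 lc_g_Cert_tree lc_g_Cert_tree lc_g_rc_21_2 lc_g_rc_21_2 lc_g_rc_27_6 lc_g_rc_21_3 lc_g_Cert_tree lc_g_rc_27_6 lc_g_rc_21_2 lc_g_rc_21_3 lc_g_Cert_tree lc_g_Cert_tree lc_g_rc_21_2 lc_g_rc_24_3 lc_g_Cert_tree lc_g_Cert_tree lc_g_rc_21_2 lc_g_Cert_tree lc_g_rc_26_6 lc_g_rc_21_3 lc_g_rc_26_6 lc_g_Cert_tree lc_g_rc_21_2 lc_g_rc_27_6 lc_g_Cert_tree lc_g_rc_21_3 lc_g_Cert_tree lc_g_rc_21_2) (@D3.rec (fun _ => (Cert rels S Gen.g)) lc_g_rc_24_1 lc_g_rc_27_6 lc_g_rc_26_0 lc_g_Cert_tree lc_g_rc_23_3 lc_g_rc_26_3 lc_g_Cert_tree lc_g_rc_21_3 lc_g_Cert_tree lc_g_Cert_tree lc_g_rc_21_2 lc_g_rc_21_3 lc_g_Cert_tree lc_g_rc_23_9 lc_g_rc_24_3 lc_g_Cert_tree lc_g_rc_23_1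 lc_g_rc_27_6 lc_g_rc_21_3 lc_g_Cert_tree lc_g_Cert_tree lc_g_rc_21_2 lc_g_Cert_tree lc_g_Cert_tree lc_g_Cert_tree lc_g_Cert_tree lc_g_rc_26_6 lc_g_rc_21_3 lc_g_Cert_tree lc_g_Cert_tree lc_g_rc_21_3 lc_g_Cert_tree lc_g_Cert_tree lc_g_rc_21_2 lc_g_rc_24_3 lc_g_Cert_tree lc_g_rc_21_3 lc_g_Cert_tree lc_g_Cert_tree lc_g_rc_21_2 lc_g_rc_21_3 lc_g_Cert_tree lc_g_Cert_tree lc_g_rc_21_2 lc_g_rc_21_3 lc_g_Cert_tree lc_g_Cert_tree lc_g_rc_21_3 lc_g_Cert_tree lc_g_Cert_tree lc_g_rc_21_2 lc_g_Cert_tree lc_g_Cert_tree lc_g_rc_23_1 lc_g_Cert_tree lc_g_rc_24_3 lc_g_rc_21_3 lc_g_Cert_tree lc_g_Cert_tree lc_g_rc_21_2 lc_g_rc_21_2 lc_g_rc_21_3) (@D3.rec (fun _ => (Cert rels S Gen.g)) lc_g_Cert_tree lc_g_Cert_tree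 lc_g_rc_21_3 lc_g_rc_21_2 lc_g_Cert_tree lc_g_Cert_tree lc_g_rc_23_9 lc_g_rc_27_9 lc_g_Cert_tree lc_g_Cert_tree lc_g_Cert_tree lc_g_rc_27_3 lc_g_Cert_tree lc_g_Cert_tree lc_g_rc_26_0 lc_g_rc_23_7 lc_g_rc_24_3 lc_g_rc_21_3 lc_g_rc_21_2 lc_g_Cert_tree lc_g_rc_23_1 lc_g_rc_24_3 lc_g_rc_21_3 lc_g_rc_21_2 lc_g_Cert_tree lc_g_Cert_tree lc_g_rc_23_3 lc_g_rc_24_3 lc_g_rc_23_3 lc_g_rc_24_1 lc_g_Cert_tree lc_g_rc_23_9 lc_g_Cert_tree lc_g_rc_21_2 lc_g_Cert_tree lc_g_rc_21_2 lc_g_rc_21_2 lc_g_Cert_tree lc_g_rc_26_6 lc_g_rc_23_3 lc_g_rc_21_3 lc_g_Cert_tree lc_g_rc_21_3 lc_g_rc_26_3 lc_g_rc_23_7 lc_g_Cert_tree lc_g_rc_23_7 lc_g_rc_21_3 lc_g_rc_21_2 lc_g_rc_26_6 lc_g_Cert_tree lc_g_rc_21_2 lc_g_rc_27_6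 lc_g_rc_26_3 lc_g_rc_24_3 lc_g_rc_26_0 lc_g_Cert_tree lc_g_rc_24_7 lc_g_rc_24_7 lc_g_Cert_tree lc_g_Cert_tree lc_g_rc_26_6) (@D3.rec (fun _ => (Cert rels S Gen.g)) lc_g_rc_26_3 lc_g_rc_27_9 lc_g_Cert_tree lc_g_rc_21_2 lc_g_Cert_tree lc_g_Cert_tree lc_g_rc_21_2 lc_g_rc_21_3 lc_g_rc_21_3 lc_g_rc_23_9 lc_g_rc_24_7 lc_g_Cert_tree lc_g_rc_27_3 lc_g_rc_21_2 lc_g_rc_26_0 lc_g_rc_23_7 lc_g_Cert_tree lc_g_rc_21_3 lc_g_rc_26_6 lc_g_rc_21_2 lc_g_Cert_tree lc_g_rc_24_7 lc_g_rc_27_6 lc_g_rc_23_9 lc_g_rc_27_6 lc_g_rc_21_3 lc_g_Cert_tree lc_g_Cert_tree lc_g_Cert_tree lc_g_rc_26_6 lc_g_rc_26_3 lc_g_rc_21_3 lc_g_Cert_tree lc_g_Cert_tree lc_g_rc_23_7 lc_g_rc_21_2 lc_g_rc_23_3 lc_g_Cert_tree lc_g_rc_24_1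 lc_g_rc_21_3 lc_g_Cert_tree lc_g_rc_23_7 lc_g_rc_21_3 lc_g_rc_21_3 lc_g_Cert_tree lc_g_rc_21_2 lc_g_Cert_tree lc_g_rc_21_3 lc_g_Cert_tree lc_g_rc_23_7 lc_g_Cert_tree lc_g_rc_21_3 lc_g_Cert_tree lc_g_Cert_tree lc_g_rc_21_3 lc_g_Cert_tree lc_g_rc_23_3 lc_g_rc_21_2 lc_g_rc_21_3 lc_g_rc_27_3 lc_g_Cert_tree lc_g_Cert_tree) (@D3.rec (fun _ => (Cert rels S Gen.g)) lc_g_Cert_tree lc_g_rc_26_3 lc_g_rc_21_3 lc_g_Cert_tree lc_g_rc_26_9 lc_g_Cert_tree lc_g_Cert_tree lc_g_rc_21_2 lc_g_rc_21_3 lc_g_Cert_tree lc_g_rc_21_2 lc_g_rc_25_3 lc_g_rc_24_3 lc_g_rc_27_3 lc_g_rc_21_3 lc_g_Cert_tree lc_g_Cert_tree lc_g_rc_21_2 lc_g_Cert_tree lc_g_rc_27_0 lc_g_Cert_tree lc_g_rc_21_3 lc_g_rc_27_6 lc_g_Cert_tree lc_g_rc_21_2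 lc_g_rc_24_7 lc_g_rc_23_7 lc_g_Cert_tree lc_g_Cert_tree lc_g_rc_21_3 lc_g_Cert_tree lc_g_Cert_tree lc_g_rc_24_7 lc_g_rc_27_6 lc_g_rc_21_3 lc_g_rc_21_3 lc_g_rc_21_3 lc_g_rc_21_2 lc_g_rc_21_2 lc_g_rc_24_3 lc_g_rc_27_6 lc_g_Cert_tree lc_g_rc_21_2 lc_g_rc_24_1 lc_g_rc_26_0 lc_g_Cert_tree lc_g_Cert_tree lc_g_rc_21_3 lc_g_rc_27_3 lc_g_rc_21_3 lc_g_Cert_tree lc_g_rc_27_6 lc_g_rc_23_1 lc_g_Cert_tree lc_g_Cert_tree lc_g_rc_27_9 lc_g_rc_24_7 lc_g_rc_21_2 lc_g_Cert_tree lc_g_rc_23_7 lc_g_rc_26_0 lc_g_rc_23_7) (@D3.rec (fun _ => (Cert rels S Gen.g)) lc_g_Cert_tree lc_g_Cert_tree lc_g_rc_23_3 lc_g_Cert_tree lc_g_rc_23_3 lc_g_rc_21_3 lc_g_rc_27_3 lc_g_Cert_tree lc_g_rc_23_3 lc_g_rc_21_2 lc_g_rc_21_3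 lc_g_Cert_tree lc_g_rc_26_0 lc_g_rc_27_6 lc_g_rc_24_3 lc_g_Cert_tree lc_g_Cert_tree lc_g_Cert_tree lc_g_Cert_tree lc_g_rc_21_3 lc_g_Cert_tree lc_g_Cert_tree lc_g_rc_27_0 lc_g_rc_24_1 lc_g_rc_26_9 lc_g_rc_21_3 lc_g_Cert_tree lc_g_Cert_tree lc_g_rc_21_2 lc_g_rc_26_3 lc_g_Cert_tree lc_g_Cert_tree lc_g_Cert_tree lc_g_rc_21_3 lc_g_Cert_tree lc_g_Cert_tree lc_g_rc_21_2 lc_g_rc_21_2 lc_g_rc_27_3 lc_g_rc_21_2 lc_g_Cert_tree lc_g_Cert_tree lc_g_rc_26_6 lc_g_rc_27_6 lc_g_rc_21_2 lc_g_Cert_tree lc_g_rc_26_0 lc_g_Cert_tree lc_g_Cert_tree lc_g_Cert_tree lc_g_rc_21_2 lc_g_rc_27_6 lc_g_rc_27_3 lc_g_rc_24_7 lc_g_rc_23_1 lc_g_Cert_tree lc_g_rc_26_9 lc_g_Cert_tree lc_g_rc_24_7 lc_g_Cert_tree lc_g_rc_27_3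 lc_g_rc_21_3) (@D3.rec (fun _ => (Cert rels S Gen.g)) lc_g_rc_25_7 lc_g_rc_27_6 lc_g_Cert_tree lc_g_Cert_tree lc_g_Cert_tree lc_g_rc_27_0 lc_g_Cert_tree lc_g_rc_26_6 lc_g_rc_21_3 lc_g_Cert_tree lc_g_rc_27_3 lc_g_rc_23_3 lc_g_rc_21_2 lc_g_rc_26_0 lc_g_rc_26_6 lc_g_rc_21_3 lc_g_rc_21_3 lc_g_Cert_tree lc_g_rc_21_2 lc_g_rc_26_9 lc_g_rc_21_2 lc_g_rc_23_9 lc_g_rc_21_2 lc_g_rc_24_1 lc_g_Cert_tree lc_g_Cert_tree lc_g_rc_21_3 lc_g_Cert_tree lc_g_Cert_tree lc_g_rc_21_2 lc_g_rc_21_2 lc_g_rc_27_0 lc_g_rc_21_3 lc_g_rc_21_3 lc_g_rc_21_3 lc_g_rc_27_6 lc_g_rc_21_3 lc_g_Cert_tree lc_g_Cert_tree lc_g_rc_21_2 lc_g_rc_27_9 lc_g_rc_21_2 lc_g_Cert_tree lc_g_Cert_tree lc_g_rc_26_6 lc_g_rc_21_2 lc_g_Cert_tree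 lc_g_rc_23_9 lc_g_rc_26_9 lc_g_rc_21_2 lc_g_rc_27_0 lc_g_rc_21_3 lc_g_rc_27_0 lc_g_rc_27_0 lc_g_Cert_tree lc_g_Cert_tree lc_g_Cert_tree lc_g_Cert_tree lc_g_Cert_tree lc_g_Cert_tree lc_g_rc_27_3 lc_g_rc_27_6) (@D3.rec (fun _ => (Cert rels S Gen.g)) lc_g_rc_21_2 lc_g_rc_21_3 lc_g_rc_21_2 lc_g_Cert_tree lc_g_Cert_tree lc_g_rc_21_2 lc_g_rc_27_3 lc_g_rc_21_3 lc_g_rc_21_3 lc_g_Cert_tree lc_g_Cert_tree lc_g_Cert_tree lc_g_rc_21_2 lc_g_rc_21_2 lc_g_rc_27_3 lc_g_rc_21_3 lc_g_rc_21_3 lc_g_Cert_tree lc_g_Cert_tree lc_g_Cert_tree lc_g_Cert_tree lc_g_rc_21_3 lc_g_Cert_tree lc_g_rc_26_6 lc_g_rc_21_2 lc_g_rc_21_3 lc_g_rc_24_7 lc_g_rc_27_3 lc_g_rc_23_1 lc_g_rc_23_1 lc_g_rc_24_9 lc_g_Cert_tree lc_g_Cert_tree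 lc_g_rc_23_1 lc_g_rc_21_3 lc_g_Cert_tree lc_g_rc_21_2 lc_g_rc_21_2 lc_g_rc_24_7 lc_g_rc_21_2 lc_g_rc_27_3 lc_g_rc_21_2 lc_g_rc_21_2 lc_g_Cert_tree lc_g_rc_26_6 lc_g_rc_21_2 lc_g_rc_21_3 lc_g_Cert_tree lc_g_rc_24_7 lc_g_Cert_tree lc_g_rc_21_2 lc_g_Cert_tree lc_g_Cert_tree lc_g_rc_27_6 lc_g_Cert_tree lc_g_rc_25_15 lc_g_rc_24_9 lc_g_Cert_tree lc_g_rc_26_0 lc_g_rc_21_3 lc_g_Cert_tree lc_g_rc_21_2) (@D3.rec (fun _ => (Cert rels S Gen.g)) lc_g_rc_24_9 lc_g_rc_24_7 lc_g_Cert_tree lc_g_rc_26_6 lc_g_rc_21_3 lc_g_Cert_tree lc_g_rc_21_2 lc_g_Cert_tree lc_g_Cert_tree lc_g_Cert_tree lc_g_rc_25_11 lc_g_Cert_tree lc_g_rc_25_3 lc_g_Cert_tree lc_g_rc_21_2 lc_g_rc_23_3 lc_g_rc_26_6 lc_g_rc_26_0 lc_g_rc_21_3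 lc_g_rc_21_2 lc_g_rc_21_3 lc_g_rc_26_3 lc_g_rc_24_1 lc_g_rc_27_0 lc_g_rc_26_9 lc_g_rc_21_3 lc_g_Cert_tree lc_g_rc_21_2 lc_g_Cert_tree lc_g_rc_24_9 lc_g_rc_24_9 lc_g_rc_21_2 lc_g_rc_21_2 lc_g_rc_21_3 lc_g_Cert_tree lc_g_rc_26_0 lc_g_rc_24_7 lc_g_Cert_tree lc_g_rc_21_2 lc_g_rc_23_1 lc_g_rc_26_3 lc_g_rc_21_3 lc_g_Cert_tree lc_g_Cert_tree lc_g_rc_21_2 lc_g_Cert_tree lc_g_rc_21_3 lc_g_rc_21_3 lc_g_rc_24_3 lc_g_Cert_tree lc_g_rc_27_0 lc_g_rc_21_3 lc_g_Cert_tree lc_g_rc_21_2 lc_g_rc_21_2 lc_g_rc_27_0 lc_g_rc_26_6 lc_g_rc_23_7 lc_g_rc_21_3 lc_g_Cert_tree lc_g_rc_23_9 lc_g_rc_21_2) (@D3.rec (fun _ => (Cert rels S Gen.g)) lc_g_Cert_tree lc_g_rc_23_7 lc_g_Cert_tree lc_g_rc_27_6 lc_g_Cert_tree lc_g_Cert_tree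 lc_g_rc_23_3 lc_g_Cert_tree lc_g_Cert_tree lc_g_Cert_tree lc_g_rc_24_9 lc_g_Cert_tree lc_g_Cert_tree lc_g_rc_21_2 lc_g_Cert_tree lc_g_rc_27_3 lc_g_rc_23_9 lc_g_rc_26_0 lc_g_rc_21_2 lc_g_Cert_tree lc_g_rc_21_3 lc_g_Cert_tree lc_g_Cert_tree lc_g_rc_27_6 lc_g_rc_21_3 lc_g_Cert_tree lc_g_Cert_tree lc_g_rc_27_0 lc_g_Cert_tree lc_g_rc_24_7 lc_g_rc_27_0 lc_g_rc_21_2 lc_g_rc_21_3 lc_g_Cert_tree lc_g_rc_21_2 lc_g_rc_27_3 lc_g_Cert_tree lc_g_Cert_tree lc_g_rc_21_3 lc_g_rc_21_2 lc_g_Cert_tree lc_g_Cert_tree lc_g_rc_26_6 lc_g_Cert_tree lc_g_Cert_tree lc_g_Cert_tree lc_g_Cert_tree lc_g_rc_27_6 lc_g_rc_23_1 lc_g_rc_21_3 lc_g_Cert_tree lc_g_Cert_tree lc_g_Cert_tree lc_g_rc_24_9 lc_g_Cert_tree lc_g_Cert_tree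 lc_g_rc_27_0 lc_g_rc_26_6 lc_g_rc_23_7 lc_g_rc_21_3 lc_g_Cert_tree lc_g_rc_21_2) (@D3.rec (fun _ => (Cert rels S Gen.g)) lc_g_Cert_tree lc_g_rc_21_3 lc_g_rc_24_7 lc_g_rc_21_3 lc_g_rc_21_3 lc_g_rc_24_3 lc_g_rc_21_3 lc_g_Cert_tree lc_g_Cert_tree lc_g_rc_21_2 lc_g_rc_21_3 lc_g_Cert_tree lc_g_rc_21_2 lc_g_rc_24_3 lc_g_rc_21_2 lc_g_rc_21_3 lc_g_Cert_tree lc_g_Cert_tree lc_g_rc_24_1 lc_g_rc_21_3 lc_g_rc_21_3 lc_g_Cert_tree lc_g_rc_21_3 lc_g_Cert_tree lc_g_rc_21_2 lc_g_rc_26_6 lc_g_rc_21_3 lc_g_Cert_tree lc_g_rc_21_2 lc_g_Cert_tree lc_g_rc_23_9 lc_g_rc_23_3 lc_g_rc_24_3 lc_g_Cert_tree lc_g_rc_21_2 lc_g_rc_21_3 lc_g_Cert_tree lc_g_rc_21_2 lc_g_rc_26_6 lc_g_rc_27_3 lc_g_rc_27_6 lc_g_rc_21_3 lc_g_rc_23_3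 lc_g_rc_27_9 lc_g_rc_27_6 lc_g_rc_24_7 lc_g_rc_27_9 lc_g_rc_21_2 lc_g_Cert_tree lc_g_Cert_tree lc_g_Cert_tree lc_g_rc_21_2 lc_g_rc_21_3 lc_g_Cert_tree lc_g_rc_21_3 lc_g_Cert_tree lc_g_Cert_tree lc_g_rc_23_1 lc_g_rc_26_6 lc_g_rc_23_1 lc_g_rc_21_2 lc_g_rc_25_19) (@D3.rec (fun _ => (Cert rels S Gen.g)) lc_g_rc_23_3 lc_g_rc_26_9 lc_g_rc_26_6 lc_g_rc_23_1 lc_g_Cert_tree lc_g_rc_27_9 lc_g_rc_21_2 lc_g_rc_21_3 lc_g_rc_24_3 lc_g_rc_21_2 lc_g_Cert_tree lc_g_rc_23_9 lc_g_rc_21_3 lc_g_Cert_tree lc_g_rc_21_2 lc_g_rc_26_9 lc_g_Cert_tree lc_g_rc_21_3 lc_g_rc_21_2 lc_g_rc_26_3 lc_g_rc_21_3 lc_g_rc_23_3 lc_g_rc_21_3 lc_g_rc_21_2 lc_g_Cert_tree lc_g_rc_25_3 lc_g_rc_24_3 lc_g_rc_21_3 lc_g_rc_25_19 lc_g_rc_27_0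 lc_g_rc_23_1 lc_g_rc_21_3 lc_g_rc_26_6 lc_g_rc_21_2 lc_g_rc_24_7 lc_g_rc_21_3 lc_g_rc_25_3 lc_g_rc_21_3 lc_g_Cert_tree lc_g_rc_21_2 lc_g_Cert_tree lc_g_rc_26_0 lc_g_rc_26_3 lc_g_rc_26_9 lc_g_rc_26_6 lc_g_rc_21_2 lc_g_rc_26_6 lc_g_Cert_tree lc_g_rc_26_6 lc_g_Cert_tree lc_g_rc_21_3 lc_g_Cert_tree lc_g_rc_23_3 lc_g_rc_24_3 lc_g_rc_21_2 lc_g_rc_21_2 lc_g_rc_21_3 lc_g_rc_21_3 lc_g_rc_21_2 lc_g_rc_27_6 lc_g_rc_26_0 lc_g_rc_27_6) (@D3.rec (fun _ => (Cert rels S Gen.g)) lc_g_rc_23_3 lc_g_rc_21_2 lc_g_rc_23_1 lc_g_Cert_tree lc_g_rc_26_3 lc_g_rc_21_3 lc_g_Cert_tree lc_g_Cert_tree lc_g_Cert_tree lc_g_rc_24_3 lc_g_Cert_tree lc_g_Cert_tree lc_g_Cert_tree lc_g_rc_27_3 lc_g_rc_21_3 lc_g_Cert_tree lc_g_rc_21_2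 lc_g_rc_26_6 lc_g_rc_23_3 lc_g_Cert_tree lc_g_rc_27_6 lc_g_rc_23_1 lc_g_rc_23_3 lc_g_rc_21_2 lc_g_rc_21_3 lc_g_rc_26_3 lc_g_rc_26_3 lc_g_rc_27_6 lc_g_rc_21_3 lc_g_rc_26_3 lc_g_Cert_tree lc_g_rc_21_3 lc_g_Cert_tree lc_g_rc_25_19 lc_g_rc_26_6 lc_g_rc_21_3 lc_g_Cert_tree lc_g_rc_21_3 lc_g_Cert_tree lc_g_rc_24_9 lc_g_rc_21_2 lc_g_rc_26_0 lc_g_rc_21_2 lc_g_Cert_tree lc_g_Cert_tree lc_g_rc_23_3 lc_g_rc_27_0 lc_g_rc_21_3 lc_g_rc_21_3 lc_g_rc_21_3 lc_g_rc_26_3 lc_g_rc_24_7 lc_g_rc_26_3 lc_g_rc_27_9 lc_g_Cert_tree lc_g_rc_21_2 lc_g_rc_26_0 lc_g_rc_24_3 lc_g_rc_24_7 lc_g_rc_27_6 lc_g_rc_23_9 lc_g_rc_27_0) (@D3.rec (fun _ => (Cert rels S Gen.g)) lc_g_rc_21_3 lc_g_rc_21_3 lc_g_rc_24_1 lc_g_Cert_tree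 lc_g_rc_21_3 lc_g_Cert_tree lc_g_rc_26_6 lc_g_rc_26_3 lc_g_rc_27_9 lc_g_rc_24_9 lc_g_rc_21_3 lc_g_rc_26_9 lc_g_rc_21_3 lc_g_rc_26_6 lc_g_rc_27_3 lc_g_Cert_tree lc_g_Cert_tree lc_g_Cert_tree lc_g_rc_24_9 lc_g_rc_21_3 lc_g_rc_21_3 lc_g_rc_26_3 lc_g_rc_21_2 lc_g_rc_26_9 lc_g_Cert_tree lc_g_Cert_tree lc_g_rc_25_7 lc_g_rc_23_7 lc_g_rc_27_9 lc_g_rc_23_7 lc_g_Cert_tree lc_g_Cert_tree lc_g_rc_23_7 lc_g_Cert_tree lc_g_rc_21_3 lc_g_Cert_tree lc_g_rc_23_3 lc_g_rc_21_2 lc_g_Cert_tree lc_g_rc_26_3 lc_g_rc_26_3 lc_g_rc_21_2 lc_g_rc_26_0 lc_g_rc_24_3 lc_g_Cert_tree lc_g_rc_24_9 lc_g_rc_21_3 lc_g_rc_27_6 lc_g_Cert_tree lc_g_rc_21_3 lc_g_Cert_tree lc_g_rc_21_3 lc_g_Cert_tree lc_g_Cert_tree lc_g_rc_23_7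 lc_g_rc_24_9 lc_g_rc_27_6 lc_g_Cert_tree lc_g_Cert_tree lc_g_Cert_tree lc_g_rc_26_6 lc_g_rc_26_6) (@D3.rec (fun _ => (Cert rels S Gen.g)) lc_g_rc_23_7 lc_g_rc_24_3 lc_g_rc_21_3 lc_g_Cert_tree lc_g_Cert_tree lc_g_rc_21_2 lc_g_rc_23_3 lc_g_rc_21_2 lc_g_rc_26_0 lc_g_Cert_tree lc_g_Cert_tree lc_g_Cert_tree lc_g_rc_23_9 lc_g_Cert_tree lc_g_rc_27_6 lc_g_Cert_tree lc_g_rc_26_0 lc_g_rc_24_1 lc_g_Cert_tree lc_g_rc_23_7 lc_g_Cert_tree lc_g_Cert_tree lc_g_rc_23_9 lc_g_Cert_tree lc_g_Cert_tree lc_g_rc_27_6 lc_g_rc_21_2 lc_g_Cert_tree lc_g_rc_21_2 lc_g_rc_26_6 lc_g_rc_24_1 lc_g_rc_24_3 lc_g_rc_24_1 lc_g_rc_26_9 lc_g_rc_23_1 lc_g_Cert_tree lc_g_rc_23_7 lc_g_Cert_tree lc_g_rc_23_3 lc_g_Cert_tree lc_g_rc_23_9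 lc_g_Cert_tree lc_g_rc_21_2 lc_g_Cert_tree lc_g_rc_21_3 lc_g_rc_27_0 lc_g_rc_27_3 lc_g_Cert_tree lc_g_rc_24_3 lc_g_Cert_tree lc_g_rc_23_9 lc_g_Cert_tree lc_g_rc_21_2 lc_g_Cert_tree lc_g_rc_23_1 lc_g_Cert_tree lc_g_rc_24_1 lc_g_rc_24_3 lc_g_Cert_tree lc_g_Cert_tree lc_g_rc_21_2 lc_g_Cert_tree) (@D3.rec (fun _ => (Cert rels S Gen.g)) lc_g_rc_21_2 lc_g_rc_23_1 lc_g_rc_24_1 lc_g_rc_21_3 lc_g_rc_21_3 lc_g_rc_23_3 lc_g_Cert_tree lc_g_rc_24_9 lc_g_Cert_tree lc_g_rc_24_9 lc_g_Cert_tree lc_g_rc_23_7 lc_g_rc_21_2 lc_g_rc_26_0 lc_g_rc_26_0 lc_g_rc_26_3 lc_g_Cert_tree lc_g_rc_21_3 lc_g_rc_21_3 lc_g_Cert_tree lc_g_Cert_tree lc_g_rc_21_2 lc_g_rc_26_0 lc_g_rc_21_2 lc_g_rc_21_3 lc_g_Cert_tree lc_g_Cert_tree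 lc_g_rc_21_2 lc_g_Cert_tree lc_g_rc_27_9 lc_g_rc_27_0 lc_g_rc_21_2 lc_g_rc_27_0 lc_g_rc_21_3 lc_g_Cert_tree lc_g_Cert_tree lc_g_rc_21_2 lc_g_rc_21_2 lc_g_rc_23_3 lc_g_Cert_tree lc_g_rc_21_2 lc_g_rc_21_3 lc_g_rc_21_2 lc_g_rc_21_2 lc_g_rc_21_3 lc_g_Cert_tree lc_g_rc_26_3 lc_g_rc_21_2 lc_g_Cert_tree lc_g_rc_23_3 lc_g_rc_26_0 lc_g_rc_21_3 lc_g_rc_21_2 lc_g_rc_24_9 lc_g_rc_21_3 lc_g_Cert_tree lc_g_rc_23_9 lc_g_rc_24_9 lc_g_Cert_tree lc_g_rc_26_6 lc_g_rc_26_9 lc_g_rc_21_3) (@D3.rec (fun _ => (Cert rels S Gen.g)) lc_g_rc_26_9 lc_g_Cert_tree lc_g_rc_21_2 lc_g_Cert_tree lc_g_rc_21_2 lc_g_Cert_tree lc_g_rc_21_2 lc_g_rc_21_2 lc_g_rc_23_7 lc_g_rc_26_6 lc_g_rc_27_6 lc_g_rc_24_9 lc_g_rc_24_7 lc_g_rc_24_1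 lc_g_Cert_tree lc_g_rc_24_1 lc_g_rc_26_9 lc_g_rc_27_3 lc_g_rc_24_3 lc_g_rc_21_2 lc_g_rc_21_3 lc_g_Cert_tree lc_g_Cert_tree lc_g_rc_21_2 lc_g_rc_23_1 lc_g_rc_24_1 lc_g_rc_21_3 lc_g_Cert_tree lc_g_Cert_tree lc_g_rc_21_2 lc_g_rc_24_9 lc_g_rc_26_3 lc_g_Cert_tree lc_g_Cert_tree lc_g_rc_24_9 lc_g_rc_24_3 lc_g_rc_27_3 lc_g_rc_26_9 lc_g_rc_27_3 lc_g_rc_21_3 lc_g_rc_21_3 lc_g_Cert_tree lc_g_Cert_tree lc_g_Cert_tree lc_g_rc_23_3 lc_g_rc_26_0 lc_g_rc_26_0 lc_g_rc_26_3 lc_g_Cert_tree lc_g_rc_21_3 lc_g_Cert_tree lc_g_Cert_tree lc_g_rc_21_2 lc_g_rc_21_3 lc_g_Cert_tree lc_g_Cert_tree lc_g_rc_21_2 lc_g_Cert_tree lc_g_rc_27_9 lc_g_rc_26_9 lc_g_rc_21_2 lc_g_rc_24_7) (@D3.rec (fun _ => (Cert rels S Gen.g))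 lc_g_rc_21_3 lc_g_Cert_tree lc_g_rc_23_7 lc_g_rc_21_2 lc_g_rc_26_6 lc_g_rc_21_2 lc_g_rc_21_2 lc_g_Cert_tree lc_g_rc_21_3 lc_g_rc_21_2 lc_g_rc_21_3 lc_g_Cert_tree lc_g_rc_26_3 lc_g_rc_26_6 lc_g_Cert_tree lc_g_rc_27_6 lc_g_Cert_tree lc_g_rc_24_3 lc_g_rc_21_3 lc_g_Cert_tree lc_g_rc_27_0 lc_g_rc_21_2 lc_g_rc_21_3 lc_g_rc_26_6 lc_g_rc_21_3 lc_g_Cert_tree lc_g_rc_21_3 lc_g_Cert_tree lc_g_rc_21_3 lc_g_rc_21_3 lc_g_Cert_tree lc_g_rc_27_3 lc_g_rc_21_2 lc_g_rc_26_6 lc_g_rc_23_7 lc_g_rc_27_6 lc_g_rc_23_7 lc_g_rc_23_7 lc_g_rc_21_3 lc_g_Cert_tree lc_g_Cert_tree lc_g_rc_21_2 lc_g_rc_26_6 lc_g_rc_21_2 lc_g_rc_24_3 lc_g_rc_23_9 lc_g_rc_24_1 lc_g_rc_27_0 lc_g_Cert_tree lc_g_Cert_tree lc_g_rc_27_9 lc_g_rc_24_3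 lc_g_rc_26_6 lc_g_rc_24_9 lc_g_rc_26_3 lc_g_rc_26_9 lc_g_rc_27_6 lc_g_Cert_tree lc_g_rc_26_3 lc_g_rc_21_3 lc_g_Cert_tree lc_g_rc_26_3) (@D3.rec (fun _ => (Cert rels S Gen.g)) lc_g_Cert_tree lc_g_rc_21_3 lc_g_Cert_tree lc_g_Cert_tree lc_g_rc_21_2 lc_g_rc_21_2 lc_g_rc_21_3 lc_g_Cert_tree lc_g_rc_21_2 lc_g_rc_21_2 lc_g_rc_21_3 lc_g_Cert_tree lc_g_rc_21_2 lc_g_rc_26_0 lc_g_rc_26_6 lc_g_rc_26_9 lc_g_rc_26_6 lc_g_rc_21_3 lc_g_Cert_tree lc_g_rc_21_2 lc_g_rc_21_2 lc_g_rc_21_3 lc_g_Cert_tree lc_g_rc_27_3 lc_g_rc_26_6 lc_g_rc_21_3 lc_g_Cert_tree lc_g_rc_21_3 lc_g_rc_27_9 lc_g_rc_21_2 lc_g_rc_21_2 lc_g_rc_21_3 lc_g_Cert_tree lc_g_Cert_tree lc_g_rc_21_2 lc_g_Cert_tree lc_g_rc_21_3 lc_g_Cert_tree lc_g_rc_21_2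 lc_g_rc_27_6 lc_g_rc_23_3 lc_g_Cert_tree lc_g_Cert_tree lc_g_rc_27_3 lc_g_Cert_tree lc_g_Cert_tree lc_g_rc_21_3 lc_g_rc_21_2 lc_g_rc_26_3 lc_g_Cert_tree lc_g_Cert_tree lc_g_rc_23_9 lc_g_Cert_tree lc_g_Cert_tree lc_g_Cert_tree lc_g_rc_27_3 lc_g_rc_23_3 lc_g_Cert_tree lc_g_rc_21_3 lc_g_Cert_tree lc_g_Cert_tree lc_g_rc_24_1) (@D3.rec (fun _ => (Cert rels S Gen.g)) lc_g_Cert_tree lc_g_rc_21_3 lc_g_rc_21_2 lc_g_Cert_tree lc_g_rc_24_9 lc_g_Cert_tree lc_g_rc_27_3 lc_g_rc_24_3 lc_g_rc_24_1 lc_g_rc_27_0 lc_g_rc_21_3 lc_g_Cert_tree lc_g_Cert_tree lc_g_rc_21_2 lc_g_rc_21_2 lc_g_Cert_tree lc_g_Cert_tree lc_g_rc_26_3 lc_g_rc_27_0 lc_g_Cert_tree lc_g_Cert_tree lc_g_rc_23_7 lc_g_rc_21_3 lc_g_rc_21_2 lc_g_Cert_tree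 lc_g_Cert_tree lc_g_rc_23_3 lc_g_Cert_tree lc_g_rc_21_3 lc_g_Cert_tree lc_g_rc_27_3 lc_g_rc_24_7 lc_g_rc_23_9 lc_g_Cert_tree lc_g_Cert_tree lc_g_rc_21_3 lc_g_rc_27_0 lc_g_rc_23_1 lc_g_rc_23_9 lc_g_rc_26_3 lc_g_Cert_tree lc_g_rc_24_9 lc_g_rc_23_1 lc_g_Cert_tree lc_g_rc_24_1 lc_g_rc_24_1 lc_g_Cert_tree lc_g_rc_26_3 lc_g_Cert_tree lc_g_Cert_tree lc_g_rc_24_1 lc_g_Cert_tree lc_g_rc_26_3 lc_g_rc_23_9 lc_g_Cert_tree lc_g_rc_21_3 lc_g_rc_24_7 lc_g_rc_21_2 lc_g_rc_25_19 lc_g_Cert_tree lc_g_rc_21_2 lc_g_Cert_tree) (@D3.rec (fun _ => (Cert rels S Gen.g)) lc_g_rc_27_9 lc_g_Cert_tree lc_g_rc_23_7 lc_g_Cert_tree lc_g_rc_27_0 lc_g_rc_24_9 lc_g_rc_24_1 lc_g_Cert_tree lc_g_Cert_tree lc_g_rc_21_2 lc_g_Cert_tree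 lc_g_rc_21_2 lc_g_rc_26_9 lc_g_rc_24_3 lc_g_Cert_tree lc_g_rc_21_2 lc_g_rc_21_3 lc_g_Cert_tree lc_g_Cert_tree lc_g_rc_27_0 lc_g_rc_21_3 lc_g_rc_27_3 lc_g_rc_24_7 lc_g_rc_21_3 lc_g_rc_21_3 lc_g_rc_24_7 lc_g_Cert_tree lc_g_rc_21_2 lc_g_rc_21_3 lc_g_rc_21_2 lc_g_rc_27_6 lc_g_Cert_tree lc_g_rc_27_9 lc_g_rc_21_3 lc_g_Cert_tree lc_g_Cert_tree lc_g_Cert_tree lc_g_rc_23_7 lc_g_Cert_tree lc_g_rc_23_7 lc_g_rc_23_9 lc_g_rc_21_3 lc_g_Cert_tree lc_g_Cert_tree lc_g_rc_21_3 lc_g_Cert_tree lc_g_rc_24_3 lc_g_rc_21_2 lc_g_rc_27_6 lc_g_rc_26_9 lc_g_Cert_tree lc_g_rc_21_3 lc_g_Cert_tree lc_g_rc_27_9 lc_g_Cert_tree lc_g_rc_26_0 lc_g_rc_24_1 lc_g_Cert_tree lc_g_Cert_tree lc_g_rc_27_3 lc_g_rc_21_2 lc_g_rc_21_3)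 (@D3.rec (fun _ => (Cert rels S Gen.g)) lc_g_rc_21_3 lc_g_Cert_tree lc_g_rc_27_6 lc_g_rc_26_0 lc_g_rc_23_3 lc_g_rc_23_7 lc_g_rc_27_9 lc_g_rc_21_2 lc_g_rc_21_2 lc_g_Cert_tree lc_g_Cert_tree lc_g_rc_23_1 lc_g_rc_26_6 lc_g_rc_27_3 lc_g_Cert_tree lc_g_Cert_tree lc_g_Cert_tree lc_g_rc_23_7 lc_g_rc_27_3 lc_g_rc_23_1 lc_g_Cert_tree lc_g_Cert_tree lc_g_rc_23_7 lc_g_Cert_tree lc_g_rc_21_3 lc_g_rc_24_1 lc_g_rc_23_1 lc_g_Cert_tree lc_g_rc_21_3 lc_g_rc_21_2 lc_g_Cert_tree lc_g_rc_23_3 lc_g_rc_26_0 lc_g_rc_27_0 lc_g_rc_21_3 lc_g_Cert_tree lc_g_rc_26_3 lc_g_Cert_tree lc_g_rc_24_3 lc_g_Cert_tree lc_g_rc_24_7 lc_g_Cert_tree lc_g_rc_26_0 lc_g_rc_21_3 lc_g_rc_26_3 lc_g_Cert_tree lc_g_rc_26_9 lc_g_rc_26_3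 lc_g_Cert_tree lc_g_rc_21_2 lc_g_Cert_tree lc_g_rc_21_3 lc_g_Cert_tree lc_g_Cert_tree lc_g_rc_21_2 lc_g_rc_21_3 lc_g_Cert_tree lc_g_rc_23_1 lc_g_rc_21_2 lc_g_Cert_tree lc_g_rc_27_9 lc_g_rc_27_6)
def ce_g_7 : D2 → D3 → (Cert rels S Gen.g) := @D2.rec (fun _ => D3 → (Cert rels S Gen.g)) (@D3.rec (fun _ => (Cert rels S Gen.g)) lc_g_rc_26_3 lc_g_rc_23_9 lc_g_rc_21_3 lc_g_Cert_tree lc_g_rc_21_2 lc_g_rc_27_9 lc_g_rc_27_6 lc_g_rc_21_2 lc_g_Cert_tree lc_g_rc_23_9 lc_g_rc_27_6 lc_g_rc_23_9 lc_g_rc_23_1 lc_g_rc_24_1 lc_g_rc_23_9 lc_g_rc_24_1 lc_g_rc_21_3 lc_g_Cert_tree lc_g_rc_21_2 lc_g_Cert_tree lc_g_rc_23_7 lc_g_rc_21_2 lc_g_Cert_tree lc_g_rc_23_3 lc_g_rc_21_3 lc_g_Cert_tree lc_g_Cert_tree lc_g_rc_26_6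 lc_g_rc_21_2 lc_g_rc_21_3 lc_g_rc_26_3 lc_g_rc_27_6 lc_g_Cert_tree lc_g_Cert_tree lc_g_rc_21_2 lc_g_rc_24_9 lc_g_rc_24_3 lc_g_rc_23_3 lc_g_Cert_tree lc_g_rc_21_2 lc_g_rc_21_3 lc_g_Cert_tree lc_g_rc_21_2 lc_g_rc_24_1 lc_g_Cert_tree lc_g_rc_26_0 lc_g_rc_23_1 lc_g_Cert_tree lc_g_rc_27_0 lc_g_rc_23_7 lc_g_rc_26_6 lc_g_rc_26_3 lc_g_rc_21_3 lc_g_Cert_tree lc_g_rc_21_3 lc_g_Cert_tree lc_g_Cert_tree lc_g_rc_21_2 lc_g_rc_21_3 lc_g_Cert_tree lc_g_Cert_tree lc_g_rc_21_2) (@D3.rec (fun _ => (Cert rels S Gen.g)) lc_g_rc_24_3 lc_g_rc_27_9 lc_g_rc_24_9 lc_g_rc_21_3 lc_g_rc_23_3 lc_g_rc_23_1 lc_g_rc_21_3 lc_g_Cert_tree lc_g_Cert_tree lc_g_rc_21_2 lc_g_rc_21_2 lc_g_rc_21_2 lc_g_rc_26_0 lc_g_rc_26_0 lc_g_Cert_tree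 lc_g_rc_21_2 lc_g_rc_26_9 lc_g_rc_26_3 lc_g_rc_26_0 lc_g_rc_26_3 lc_g_rc_26_6 lc_g_Cert_tree lc_g_Cert_tree lc_g_rc_21_2 lc_g_rc_21_3 lc_g_Cert_tree lc_g_Cert_tree lc_g_rc_21_3 lc_g_Cert_tree lc_g_Cert_tree lc_g_rc_21_2 lc_g_rc_26_0 lc_g_rc_21_2 lc_g_rc_26_6 lc_g_rc_21_2 lc_g_Cert_tree lc_g_rc_26_9 lc_g_rc_21_3 lc_g_Cert_tree lc_g_Cert_tree lc_g_rc_21_2 lc_g_rc_21_3 lc_g_Cert_tree lc_g_Cert_tree lc_g_rc_21_2 lc_g_rc_27_3 lc_g_Cert_tree lc_g_rc_23_9 lc_g_rc_23_7 lc_g_Cert_tree lc_g_rc_26_6 lc_g_Cert_tree lc_g_rc_23_7 lc_g_rc_21_3 lc_g_Cert_tree lc_g_rc_23_7 lc_g_rc_21_2 lc_g_rc_21_2 lc_g_Cert_tree lc_g_Cert_tree lc_g_rc_21_3 lc_g_rc_26_6) (@D3.rec (fun _ => (Cert rels S Gen.g)) lc_g_rc_23_7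 lc_g_rc_27_6 lc_g_rc_21_3 lc_g_Cert_tree lc_g_rc_26_3 lc_g_rc_27_9 lc_g_rc_21_3 lc_g_Cert_tree lc_g_rc_23_7 lc_g_rc_23_1 lc_g_rc_21_2 lc_g_rc_23_1 lc_g_Cert_tree lc_g_rc_23_1 lc_g_rc_27_6 lc_g_rc_24_9 lc_g_Cert_tree lc_g_rc_21_3 lc_g_Cert_tree lc_g_Cert_tree lc_g_rc_21_2 lc_g_rc_21_2 lc_g_rc_21_3 lc_g_Cert_tree lc_g_Cert_tree lc_g_rc_21_3 lc_g_rc_21_2 lc_g_rc_26_6 lc_g_Cert_tree lc_g_Cert_tree lc_g_rc_21_3 lc_g_rc_23_1 lc_g_rc_24_7 lc_g_rc_23_9 lc_g_Cert_tree lc_g_Cert_tree lc_g_Cert_tree lc_g_Cert_tree lc_g_rc_27_3 lc_g_rc_23_7 lc_g_Cert_tree lc_g_rc_26_0 lc_g_rc_21_3 lc_g_Cert_tree lc_g_Cert_tree lc_g_rc_24_1 lc_g_rc_23_3 lc_g_Cert_tree lc_g_rc_21_3 lc_g_rc_21_2 lc_g_Cert_tree lc_g_Cert_tree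 lc_g_rc_23_3 lc_g_rc_24_7 lc_g_Cert_tree lc_g_rc_21_3 lc_g_Cert_tree lc_g_rc_27_6 lc_g_rc_21_2 lc_g_rc_21_2 lc_g_Cert_tree lc_g_rc_27_9) (@D3.rec (fun _ => (Cert rels S Gen.g)) lc_g_rc_21_3 lc_g_Cert_tree lc_g_rc_23_7 lc_g_rc_21_3 lc_g_rc_23_7 lc_g_rc_21_3 lc_g_rc_21_3 lc_g_Cert_tree lc_g_Cert_tree lc_g_rc_24_9 lc_g_rc_27_6 lc_g_Cert_tree lc_g_rc_27_9 lc_g_Cert_tree lc_g_rc_23_1 lc_g_rc_24_1 lc_g_Cert_tree lc_g_Cert_tree lc_g_rc_27_3 lc_g_rc_21_2 lc_g_Cert_tree lc_g_rc_23_7 lc_g_Cert_tree lc_g_Cert_tree lc_g_rc_23_9 lc_g_Cert_tree lc_g_rc_24_1 lc_g_Cert_tree lc_g_Cert_tree lc_g_rc_27_3 lc_g_rc_21_2 lc_g_rc_24_3 lc_g_rc_24_3 lc_g_Cert_tree lc_g_rc_24_7 lc_g_rc_23_1 lc_g_Cert_tree lc_g_rc_24_9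 lc_g_rc_27_6 lc_g_rc_26_3 lc_g_rc_23_7 lc_g_rc_24_7 lc_g_rc_26_0 lc_g_Cert_tree lc_g_rc_24_1 lc_g_rc_21_2 lc_g_rc_21_3 lc_g_Cert_tree lc_g_rc_26_3 lc_g_Cert_tree lc_g_Cert_tree lc_g_rc_24_1 lc_g_Cert_tree lc_g_rc_27_6 lc_g_rc_21_3 lc_g_Cert_tree lc_g_rc_27_3 lc_g_rc_23_9 lc_g_rc_27_9 lc_g_rc_21_3 lc_g_Cert_tree lc_g_rc_24_9) (@D3.rec (fun _ => (Cert rels S Gen.g)) lc_g_rc_21_3 lc_g_rc_21_2 lc_g_rc_27_6 lc_g_Cert_tree lc_g_rc_26_6 lc_g_rc_24_3 lc_g_rc_23_9 lc_g_Cert_tree lc_g_Cert_tree lc_g_rc_21_3 lc_g_Cert_tree lc_g_Cert_tree lc_g_rc_21_3 lc_g_rc_26_3 lc_g_rc_24_9 lc_g_rc_26_0 lc_g_rc_26_6 lc_g_Cert_tree lc_g_rc_24_7 lc_g_rc_26_9 lc_g_rc_21_3 lc_g_rc_21_2 lc_g_Cert_tree lc_g_Cert_tree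 lc_g_rc_24_7 lc_g_rc_21_2 lc_g_rc_21_2 lc_g_Cert_tree lc_g_rc_21_2 lc_g_Cert_tree lc_g_rc_21_2 lc_g_Cert_tree lc_g_rc_21_2 lc_g_rc_21_2 lc_g_Cert_tree lc_g_rc_21_3 lc_g_Cert_tree lc_g_Cert_tree lc_g_Cert_tree lc_g_rc_24_7 lc_g_Cert_tree lc_g_rc_27_3 lc_g_rc_21_2 lc_g_rc_23_9 lc_g_rc_21_3 lc_g_rc_21_3 lc_g_rc_26_9 lc_g_rc_21_2 lc_g_Cert_tree lc_g_rc_26_3 lc_g_rc_26_3 lc_g_Cert_tree lc_g_rc_21_2 lc_g_rc_21_2 lc_g_rc_21_2 lc_g_rc_26_3 lc_g_rc_24_1 lc_g_Cert_tree lc_g_rc_23_7 lc_g_rc_23_7 lc_g_rc_21_3 lc_g_Cert_tree) (@D3.rec (fun _ => (Cert rels S Gen.g)) lc_g_Cert_tree lc_g_Cert_tree lc_g_rc_26_9 lc_g_Cert_tree lc_g_rc_21_3 lc_g_Cert_tree lc_g_rc_23_9 lc_g_rc_21_3 lc_g_Cert_tree lc_g_rc_27_3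 lc_g_rc_27_6 lc_g_rc_27_6 lc_g_rc_27_6 lc_g_rc_26_3 lc_g_Cert_tree lc_g_rc_27_9 lc_g_Cert_tree lc_g_rc_23_7 lc_g_rc_26_0 lc_g_Cert_tree lc_g_Cert_tree lc_g_rc_23_7 lc_g_Cert_tree lc_g_rc_21_3 lc_g_Cert_tree lc_g_rc_23_7 lc_g_Cert_tree lc_g_rc_26_0 lc_g_Cert_tree lc_g_Cert_tree lc_g_Cert_tree lc_g_rc_23_7 lc_g_rc_24_9 lc_g_rc_26_3 lc_g_rc_27_0 lc_g_rc_23_7 lc_g_rc_27_0 lc_g_rc_26_0 lc_g_rc_27_6 lc_g_rc_27_0 lc_g_Cert_tree lc_g_rc_21_2 lc_g_rc_21_2 lc_g_Cert_tree lc_g_rc_27_3 lc_g_rc_26_0 lc_g_rc_23_7 lc_g_rc_27_0 lc_g_rc_21_3 lc_g_Cert_tree lc_g_Cert_tree lc_g_rc_21_2 lc_g_Cert_tree lc_g_rc_27_9 lc_g_rc_26_3 lc_g_rc_21_3 lc_g_Cert_tree lc_g_Cert_tree lc_g_Cert_tree lc_g_Cert_tree lc_g_rc_23_3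 lc_g_rc_21_3) (@D3.rec (fun _ => (Cert rels S Gen.g)) lc_g_Cert_tree lc_g_rc_21_2 lc_g_Cert_tree lc_g_Cert_tree lc_g_rc_26_3 lc_g_rc_26_3 lc_g_rc_21_3 lc_g_rc_24_1 lc_g_rc_21_3 lc_g_rc_26_0 lc_g_rc_26_6 lc_g_rc_23_7 lc_g_rc_21_3 lc_g_rc_21_3 lc_g_Cert_tree lc_g_rc_23_7 lc_g_rc_21_2 lc_g_rc_26_3 lc_g_rc_27_9 lc_g_rc_21_2 lc_g_rc_26_9 lc_g_rc_26_6 lc_g_rc_23_9 lc_g_rc_27_6 lc_g_rc_21_3 lc_g_Cert_tree lc_g_rc_21_3 lc_g_Cert_tree lc_g_Cert_tree lc_g_rc_21_2 lc_g_rc_21_3 lc_g_Cert_tree lc_g_rc_27_3 lc_g_rc_21_2 lc_g_rc_21_2 lc_g_rc_23_7 lc_g_rc_26_3 lc_g_rc_23_7 lc_g_rc_21_3 lc_g_rc_21_3 lc_g_Cert_tree lc_g_Cert_tree lc_g_rc_21_2 lc_g_rc_21_2 lc_g_Cert_tree lc_g_rc_23_7 lc_g_rc_26_6 lc_g_rc_23_7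 lc_g_Cert_tree lc_g_rc_27_3 lc_g_Cert_tree lc_g_rc_23_7 lc_g_Cert_tree lc_g_rc_23_7 lc_g_Cert_tree lc_g_rc_21_3 lc_g_Cert_tree lc_g_Cert_tree lc_g_rc_26_6 lc_g_Cert_tree lc_g_Cert_tree lc_g_rc_21_3) (@D3.rec (fun _ => (Cert rels S Gen.g)) lc_g_Cert_tree lc_g_Cert_tree lc_g_rc_21_3 lc_g_Cert_tree lc_g_Cert_tree lc_g_rc_26_3 lc_g_rc_26_6 lc_g_rc_26_9 lc_g_rc_21_3 lc_g_Cert_tree lc_g_Cert_tree lc_g_rc_21_2 lc_g_Cert_tree lc_g_rc_27_9 lc_g_Cert_tree lc_g_rc_26_6 lc_g_rc_23_7 lc_g_rc_21_3 lc_g_Cert_tree lc_g_Cert_tree lc_g_rc_21_2 lc_g_rc_21_2 lc_g_rc_27_9 lc_g_Cert_tree lc_g_Cert_tree lc_g_Cert_tree lc_g_Cert_tree lc_g_rc_21_3 lc_g_rc_21_3 lc_g_Cert_tree lc_g_rc_21_2 lc_g_Cert_tree lc_g_rc_23_3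 lc_g_rc_21_3 lc_g_rc_26_6 lc_g_rc_26_6 lc_g_rc_21_3 lc_g_Cert_tree lc_g_rc_21_3 lc_g_Cert_tree lc_g_rc_27_0 lc_g_rc_21_2 lc_g_rc_21_2 lc_g_rc_21_2 lc_g_rc_21_3 lc_g_Cert_tree lc_g_Cert_tree lc_g_rc_26_9 lc_g_rc_21_3 lc_g_rc_26_3 lc_g_rc_21_2 lc_g_Cert_tree lc_g_rc_27_6 lc_g_rc_21_3 lc_g_Cert_tree lc_g_Cert_tree lc_g_rc_21_2 lc_g_rc_21_3 lc_g_Cert_tree lc_g_Cert_tree lc_g_rc_21_3 lc_g_Cert_tree) (@D3.rec (fun _ => (Cert rels S Gen.g)) lc_g_Cert_tree lc_g_rc_21_2 lc_g_rc_26_3 lc_g_rc_21_2 lc_g_rc_21_3 lc_g_Cert_tree lc_g_Cert_tree lc_g_rc_21_3 lc_g_Cert_tree lc_g_Cert_tree lc_g_rc_21_2 lc_g_rc_21_3 lc_g_Cert_tree lc_g_Cert_tree lc_g_Cert_tree lc_g_rc_21_3 lc_g_Cert_tree lc_g_rc_21_3 lc_g_Cert_tree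 lc_g_rc_27_3 lc_g_rc_21_2 lc_g_rc_26_3 lc_g_Cert_tree lc_g_rc_27_9 lc_g_rc_23_1 lc_g_rc_23_9 lc_g_rc_23_7 lc_g_rc_21_3 lc_g_Cert_tree lc_g_Cert_tree lc_g_rc_21_2 lc_g_rc_21_3 lc_g_rc_26_3 lc_g_rc_26_3 lc_g_Cert_tree lc_g_Cert_tree lc_g_rc_26_0 lc_g_rc_27_6 lc_g_rc_21_3 lc_g_rc_21_3 lc_g_Cert_tree lc_g_Cert_tree lc_g_Cert_tree lc_g_rc_27_3 lc_g_Cert_tree lc_g_rc_26_0 lc_g_rc_27_6 lc_g_Cert_tree lc_g_Cert_tree lc_g_rc_27_3 lc_g_rc_24_7 lc_g_rc_21_2 lc_g_Cert_tree lc_g_rc_21_3 lc_g_rc_21_2 lc_g_rc_21_3 lc_g_Cert_tree lc_g_rc_24_7 lc_g_Cert_tree lc_g_rc_21_2 lc_g_rc_24_3 lc_g_rc_26_9) (@D3.rec (fun _ => (Cert rels S Gen.g)) lc_g_Cert_tree lc_g_rc_21_3 lc_g_Cert_tree lc_g_Cert_tree lc_g_Cert_tree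 lc_g_rc_21_2 lc_g_Cert_tree lc_g_rc_27_9 lc_g_rc_26_0 lc_g_Cert_tree lc_g_rc_27_9 lc_g_rc_23_3 lc_g_Cert_tree lc_g_Cert_tree lc_g_Cert_tree lc_g_rc_27_3 lc_g_rc_21_2 lc_g_rc_26_0 lc_g_Cert_tree lc_g_rc_26_0 lc_g_rc_21_3 lc_g_Cert_tree lc_g_rc_21_2 lc_g_Cert_tree lc_g_Cert_tree lc_g_rc_27_3 lc_g_rc_27_6 lc_g_Cert_tree lc_g_Cert_tree lc_g_rc_24_9 lc_g_rc_27_6 lc_g_rc_23_7 lc_g_rc_21_3 lc_g_Cert_tree lc_g_rc_24_3 lc_g_rc_21_2 lc_g_Cert_tree lc_g_rc_26_3 lc_g_Cert_tree lc_g_Cert_tree lc_g_rc_21_2 lc_g_Cert_tree lc_g_rc_21_3 lc_g_Cert_tree lc_g_rc_27_0 lc_g_rc_24_3 lc_g_rc_24_1 lc_g_rc_21_3 lc_g_rc_26_6 lc_g_rc_24_9 lc_g_rc_27_6 lc_g_Cert_tree lc_g_rc_27_9 lc_g_rc_27_9 lc_g_rc_27_3 lc_g_Cert_tree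 lc_g_rc_23_3 lc_g_Cert_tree lc_g_rc_21_2 lc_g_Cert_tree lc_g_rc_21_3 lc_g_Cert_tree) (@D3.rec (fun _ => (Cert rels S Gen.g)) lc_g_rc_21_3 lc_g_Cert_tree lc_g_rc_26_3 lc_g_Cert_tree lc_g_Cert_tree lc_g_Cert_tree lc_g_rc_27_9 lc_g_rc_21_3 lc_g_rc_27_3 lc_g_rc_21_3 lc_g_Cert_tree lc_g_rc_21_2 lc_g_rc_23_7 lc_g_Cert_tree lc_g_Cert_tree lc_g_rc_24_3 lc_g_rc_21_3 lc_g_rc_26_9 lc_g_rc_21_2 lc_g_rc_21_3 lc_g_Cert_tree lc_g_rc_21_2 lc_g_rc_26_6 lc_g_Cert_tree lc_g_rc_26_0 lc_g_Cert_tree lc_g_Cert_tree lc_g_rc_21_3 lc_g_Cert_tree lc_g_rc_21_2 lc_g_Cert_tree lc_g_Cert_tree lc_g_Cert_tree lc_g_rc_23_7 lc_g_rc_27_9 lc_g_rc_26_6 lc_g_rc_21_2 lc_g_rc_27_9 lc_g_Cert_tree lc_g_Cert_tree lc_g_Cert_tree lc_g_rc_23_7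 lc_g_Cert_tree lc_g_rc_21_3 lc_g_Cert_tree lc_g_rc_21_2 lc_g_rc_27_3 lc_g_Cert_tree lc_g_Cert_tree lc_g_Cert_tree lc_g_rc_21_3 lc_g_Cert_tree lc_g_rc_21_2 lc_g_Cert_tree lc_g_rc_21_3 lc_g_Cert_tree lc_g_Cert_tree lc_g_Cert_tree lc_g_rc_24_7 lc_g_rc_24_3 lc_g_rc_21_3 lc_g_Cert_tree) (@D3.rec (fun _ => (Cert rels S Gen.g)) lc_g_rc_27_3 lc_g_rc_27_9 lc_g_Cert_tree lc_g_rc_21_2 lc_g_rc_26_6 lc_g_rc_21_2 lc_g_rc_24_7 lc_g_rc_21_2 lc_g_rc_21_2 lc_g_rc_23_7 lc_g_rc_21_3 lc_g_Cert_tree lc_g_Cert_tree lc_g_Cert_tree lc_g_rc_21_2 lc_g_Cert_tree lc_g_rc_21_3 lc_g_rc_23_9 lc_g_Cert_tree lc_g_rc_23_7 lc_g_Cert_tree lc_g_rc_23_9 lc_g_Cert_tree lc_g_rc_21_2 lc_g_rc_26_0 lc_g_rc_21_2 lc_g_rc_26_0 lc_g_Cert_tree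 lc_g_rc_24_3 lc_g_Cert_tree lc_g_rc_23_9 lc_g_rc_26_0 lc_g_Cert_tree lc_g_rc_26_0 lc_g_rc_23_7 lc_g_rc_26_0 lc_g_rc_21_3 lc_g_rc_21_3 lc_g_Cert_tree lc_g_rc_21_2 lc_g_rc_21_3 lc_g_rc_21_3 lc_g_Cert_tree lc_g_rc_21_2 lc_g_Cert_tree lc_g_rc_21_2 lc_g_rc_24_9 lc_g_rc_26_3 lc_g_rc_21_2 lc_g_rc_26_0 lc_g_rc_27_0 lc_g_Cert_tree lc_g_rc_24_3 lc_g_Cert_tree lc_g_rc_23_9 lc_g_rc_23_1 lc_g_rc_23_7 lc_g_rc_27_6 lc_g_rc_21_2 lc_g_rc_24_7 lc_g_rc_23_3 lc_g_rc_27_6) (@D3.rec (fun _ => (Cert rels S Gen.g)) lc_g_rc_26_0 lc_g_rc_27_6 lc_g_Cert_tree lc_g_rc_21_3 lc_g_Cert_tree lc_g_Cert_tree lc_g_rc_21_2 lc_g_rc_24_9 lc_g_rc_26_6 lc_g_rc_26_3 lc_g_rc_21_3 lc_g_Cert_tree lc_g_Cert_tree lc_g_rc_23_7 lc_g_rc_27_6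 lc_g_rc_26_6 lc_g_rc_24_1 lc_g_rc_21_3 lc_g_Cert_tree lc_g_rc_23_1 lc_g_rc_21_2 lc_g_Cert_tree lc_g_rc_27_9 lc_g_Cert_tree lc_g_rc_21_2 lc_g_rc_24_1 lc_g_rc_23_7 lc_g_rc_27_0 lc_g_rc_24_1 lc_g_rc_24_1 lc_g_rc_26_3 lc_g_rc_26_3 lc_g_rc_21_3 lc_g_Cert_tree lc_g_rc_21_3 lc_g_rc_23_9 lc_g_rc_26_0 lc_g_rc_23_7 lc_g_rc_24_1 lc_g_rc_27_6 lc_g_Cert_tree lc_g_rc_24_9 lc_g_rc_21_3 lc_g_Cert_tree lc_g_rc_23_3 lc_g_rc_21_2 lc_g_rc_26_6 lc_g_rc_21_2 lc_g_rc_26_6 lc_g_Cert_tree lc_g_rc_21_3 lc_g_Cert_tree lc_g_rc_21_2 lc_g_rc_23_7 lc_g_Cert_tree lc_g_rc_26_6 lc_g_rc_24_3 lc_g_rc_21_3 lc_g_rc_21_3 lc_g_Cert_tree lc_g_Cert_tree lc_g_rc_21_2) (@D3.rec (fun _ => (Cert rels S Gen.g)) lc_g_rc_26_3 lc_g_rc_27_9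 lc_g_rc_26_0 lc_g_rc_21_2 lc_g_rc_21_3 lc_g_Cert_tree lc_g_Cert_tree lc_g_rc_21_2 lc_g_rc_26_0 lc_g_Cert_tree lc_g_rc_27_9 lc_g_rc_27_6 lc_g_rc_23_7 lc_g_rc_24_7 lc_g_Cert_tree lc_g_Cert_tree lc_g_rc_27_9 lc_g_rc_21_2 lc_g_rc_21_3 lc_g_Cert_tree lc_g_rc_26_6 lc_g_Cert_tree lc_g_rc_21_3 lc_g_Cert_tree lc_g_rc_21_2 lc_g_Cert_tree lc_g_rc_23_7 lc_g_rc_21_2 lc_g_Cert_tree lc_g_rc_26_9 lc_g_rc_26_0 lc_g_rc_26_3 lc_g_rc_21_2 lc_g_rc_21_3 lc_g_Cert_tree lc_g_Cert_tree lc_g_Cert_tree lc_g_rc_26_0 lc_g_rc_21_2 lc_g_rc_24_3 lc_g_rc_21_3 lc_g_Cert_tree lc_g_Cert_tree lc_g_Cert_tree lc_g_rc_26_3 lc_g_rc_26_9 lc_g_rc_21_3 lc_g_Cert_tree lc_g_rc_21_3 lc_g_Cert_tree lc_g_rc_21_2 lc_g_rc_26_0 lc_g_Cert_tree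 lc_g_rc_24_1 lc_g_rc_26_3 lc_g_rc_24_1 lc_g_rc_21_3 lc_g_Cert_tree lc_g_Cert_tree lc_g_rc_21_2 lc_g_rc_21_2 lc_g_rc_21_2) (@D3.rec (fun _ => (Cert rels S Gen.g)) lc_g_rc_26_9 lc_g_rc_21_3 lc_g_rc_26_9 lc_g_rc_26_0 lc_g_rc_26_6 lc_g_rc_23_3 lc_g_rc_21_2 lc_g_Cert_tree lc_g_rc_26_3 lc_g_rc_21_3 lc_g_Cert_tree lc_g_Cert_tree lc_g_rc_21_3 lc_g_Cert_tree lc_g_Cert_tree lc_g_rc_21_2 lc_g_rc_21_3 lc_g_Cert_tree lc_g_rc_21_3 lc_g_rc_21_2 lc_g_rc_21_3 lc_g_Cert_tree lc_g_rc_21_2 lc_g_rc_21_3 lc_g_Cert_tree lc_g_rc_21_2 lc_g_rc_21_2 lc_g_Cert_tree lc_g_rc_26_0 lc_g_rc_26_0 lc_g_rc_21_3 lc_g_Cert_tree lc_g_rc_23_1 lc_g_rc_23_9 lc_g_rc_21_3 lc_g_rc_21_3 lc_g_Cert_tree lc_g_rc_26_3 lc_g_rc_21_2 lc_g_rc_21_3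 lc_g_rc_21_2 lc_g_Cert_tree lc_g_rc_21_3 lc_g_Cert_tree lc_g_Cert_tree lc_g_Cert_tree lc_g_Cert_tree lc_g_rc_26_9 lc_g_rc_27_6 lc_g_Cert_tree lc_g_rc_27_0 lc_g_rc_21_2 lc_g_Cert_tree lc_g_rc_23_7 lc_g_rc_21_3 lc_g_Cert_tree lc_g_rc_24_1 lc_g_Cert_tree lc_g_rc_27_3 lc_g_rc_24_7 lc_g_rc_24_1 lc_g_Cert_tree) (@D3.rec (fun _ => (Cert rels S Gen.g)) lc_g_rc_21_3 lc_g_Cert_tree lc_g_Cert_tree lc_g_Cert_tree lc_g_rc_21_2 lc_g_Cert_tree lc_g_rc_23_3 lc_g_rc_27_9 lc_g_Cert_tree lc_g_rc_21_2 lc_g_rc_21_3 lc_g_rc_21_2 lc_g_Cert_tree lc_g_rc_27_3 lc_g_Cert_tree lc_g_rc_21_2 lc_g_Cert_tree lc_g_rc_24_3 lc_g_Cert_tree lc_g_rc_26_3 lc_g_Cert_tree lc_g_Cert_tree lc_g_rc_21_2 lc_g_Cert_tree lc_g_rc_26_3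 lc_g_rc_23_9 lc_g_Cert_tree lc_g_rc_24_9 lc_g_rc_23_9 lc_g_rc_27_9 lc_g_rc_21_3 lc_g_rc_25_7 lc_g_rc_24_1 lc_g_rc_24_3 lc_g_rc_27_3 lc_g_Cert_tree lc_g_rc_27_6 lc_g_rc_23_7 lc_g_rc_27_9 lc_g_rc_27_0 lc_g_Cert_tree lc_g_rc_27_3 lc_g_Cert_tree lc_g_rc_23_7 lc_g_rc_23_1 lc_g_rc_21_3 lc_g_Cert_tree lc_g_rc_27_3 lc_g_Cert_tree lc_g_rc_24_7 lc_g_Cert_tree lc_g_rc_21_2 lc_g_rc_26_3 lc_g_rc_21_3 lc_g_Cert_tree lc_g_rc_21_2 lc_g_Cert_tree lc_g_Cert_tree lc_g_rc_21_3 lc_g_Cert_tree lc_g_rc_26_6 lc_g_rc_26_3) (@D3.rec (fun _ => (Cert rels S Gen.g)) lc_g_Cert_tree lc_g_Cert_tree lc_g_Cert_tree lc_g_rc_27_3 lc_g_rc_21_3 lc_g_Cert_tree lc_g_rc_21_2 lc_g_Cert_tree lc_g_rc_21_2 lc_g_Cert_tree lc_g_rc_24_3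 lc_g_Cert_tree lc_g_Cert_tree lc_g_Cert_tree lc_g_rc_21_3 lc_g_Cert_tree lc_g_rc_21_2 lc_g_Cert_tree lc_g_rc_24_9 lc_g_rc_26_0 lc_g_rc_21_2 lc_g_Cert_tree lc_g_rc_21_2 lc_g_Cert_tree lc_g_rc_21_2 lc_g_rc_21_3 lc_g_Cert_tree lc_g_Cert_tree lc_g_Cert_tree lc_g_rc_21_3 lc_g_Cert_tree lc_g_Cert_tree lc_g_Cert_tree lc_g_rc_23_7 lc_g_rc_23_7 lc_g_Cert_tree lc_g_rc_23_7 lc_g_Cert_tree lc_g_rc_23_1 lc_g_rc_21_3 lc_g_Cert_tree lc_g_rc_21_2 lc_g_rc_21_2 lc_g_Cert_tree lc_g_rc_26_3 lc_g_rc_26_9 lc_g_rc_26_3 lc_g_Cert_tree lc_g_rc_26_3 lc_g_Cert_tree lc_g_Cert_tree lc_g_rc_21_2 lc_g_rc_21_2 lc_g_rc_21_2 lc_g_rc_27_0 lc_g_rc_27_9 lc_g_rc_27_6 lc_g_rc_24_7 lc_g_rc_24_7 lc_g_rc_21_3 lc_g_Cert_tree lc_g_rc_21_2)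 (@D3.rec (fun _ => (Cert rels S Gen.g)) lc_g_rc_21_3 lc_g_rc_27_9 lc_g_rc_24_7 lc_g_rc_27_9 lc_g_rc_24_3 lc_g_rc_26_0 lc_g_rc_26_9 lc_g_rc_27_6 lc_g_rc_23_9 lc_g_rc_26_0 lc_g_rc_21_2 lc_g_rc_26_3 lc_g_Cert_tree lc_g_rc_21_2 lc_g_rc_21_3 lc_g_rc_23_3 lc_g_rc_21_2 lc_g_rc_27_6 lc_g_Cert_tree lc_g_Cert_tree lc_g_rc_21_2 lc_g_Cert_tree lc_g_rc_21_2 lc_g_rc_21_2 lc_g_rc_26_0 lc_g_Cert_tree lc_g_rc_21_2 lc_g_rc_21_2 lc_g_rc_21_2 lc_g_Cert_tree lc_g_rc_26_0 lc_g_rc_21_2 lc_g_rc_21_3 lc_g_Cert_tree lc_g_Cert_tree lc_g_rc_21_2 lc_g_rc_21_3 lc_g_rc_21_3 lc_g_Cert_tree lc_g_Cert_tree lc_g_rc_23_9 lc_g_Cert_tree lc_g_Cert_tree lc_g_Cert_tree lc_g_rc_21_3 lc_g_rc_26_6 lc_g_Cert_tree lc_g_Cert_tree lc_g_rc_21_3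 lc_g_Cert_tree lc_g_rc_21_2 lc_g_rc_21_3 lc_g_rc_21_2 lc_g_rc_21_3 lc_g_Cert_tree lc_g_Cert_tree lc_g_rc_27_3 lc_g_rc_24_7 lc_g_Cert_tree lc_g_rc_21_3 lc_g_Cert_tree lc_g_Cert_tree) (@D3.rec (fun _ => (Cert rels S Gen.g)) lc_g_rc_21_2 lc_g_rc_21_3 lc_g_Cert_tree lc_g_Cert_tree lc_g_Cert_tree lc_g_rc_27_9 lc_g_Cert_tree lc_g_rc_23_7 lc_g_rc_27_9 lc_g_rc_21_3 lc_g_Cert_tree lc_g_Cert_tree lc_g_rc_21_2 lc_g_Cert_tree lc_g_rc_24_1 lc_g_Cert_tree lc_g_Cert_tree lc_g_rc_21_3 lc_g_rc_23_1 lc_g_Cert_tree lc_g_rc_24_7 lc_g_rc_21_2 lc_g_Cert_tree lc_g_Cert_tree lc_g_Cert_tree lc_g_rc_26_9 lc_g_Cert_tree lc_g_rc_27_0 lc_g_rc_21_3 lc_g_Cert_tree lc_g_Cert_tree lc_g_rc_27_3 lc_g_rc_21_3 lc_g_rc_21_2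 lc_g_rc_21_2 lc_g_rc_27_3 lc_g_rc_26_3 lc_g_Cert_tree lc_g_Cert_tree lc_g_Cert_tree lc_g_Cert_tree lc_g_rc_24_7 lc_g_rc_21_3 lc_g_rc_21_2 lc_g_Cert_tree lc_g_rc_27_6 lc_g_rc_21_2 lc_g_rc_26_6 lc_g_rc_26_9 lc_g_rc_21_3 lc_g_Cert_tree lc_g_Cert_tree lc_g_Cert_tree lc_g_rc_26_9 lc_g_rc_21_3 lc_g_rc_25_7 lc_g_rc_27_6 lc_g_Cert_tree lc_g_rc_21_3 lc_g_Cert_tree lc_g_rc_26_6 lc_g_rc_21_2) (@D3.rec (fun _ => (Cert rels S Gen.g)) lc_g_rc_21_3 lc_g_Cert_tree lc_g_rc_21_2 lc_g_rc_21_2 lc_g_rc_26_0 lc_g_rc_21_3 lc_g_rc_26_3 lc_g_rc_21_3 lc_g_Cert_tree lc_g_rc_21_2 lc_g_Cert_tree lc_g_rc_24_7 lc_g_rc_21_2 lc_g_rc_21_3 lc_g_rc_27_9 lc_g_rc_21_2 lc_g_rc_21_2 lc_g_rc_24_1 lc_g_rc_21_3 lc_g_Cert_tree lc_g_Cert_tree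 lc_g_rc_21_2 lc_g_rc_21_3 lc_g_rc_26_6 lc_g_Cert_tree lc_g_Cert_tree lc_g_Cert_tree lc_g_Cert_tree lc_g_rc_27_6 lc_g_Cert_tree lc_g_Cert_tree lc_g_Cert_tree lc_g_rc_23_9 lc_g_Cert_tree lc_g_rc_21_3 lc_g_Cert_tree lc_g_rc_21_3 lc_g_Cert_tree lc_g_Cert_tree lc_g_rc_21_3 lc_g_Cert_tree lc_g_Cert_tree lc_g_Cert_tree lc_g_rc_27_6 lc_g_rc_21_2 lc_g_rc_21_3 lc_g_Cert_tree lc_g_Cert_tree lc_g_Cert_tree lc_g_rc_21_3 lc_g_Cert_tree lc_g_rc_26_3 lc_g_Cert_tree lc_g_Cert_tree lc_g_Cert_tree lc_g_rc_23_1 lc_g_rc_21_3 lc_g_rc_21_3 lc_g_rc_23_3 lc_g_Cert_tree lc_g_rc_21_2 lc_g_rc_21_2) (@D3.rec (fun _ => (Cert rels S Gen.g)) lc_g_rc_24_1 lc_g_rc_23_9 lc_g_rc_21_3 lc_g_rc_21_3 lc_g_Cert_tree lc_g_rc_21_3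 lc_g_rc_21_2 lc_g_rc_21_2 lc_g_Cert_tree lc_g_rc_24_7 lc_g_rc_21_3 lc_g_rc_26_3 lc_g_rc_26_9 lc_g_Cert_tree lc_g_rc_24_7 lc_g_Cert_tree lc_g_rc_27_3 lc_g_rc_26_3 lc_g_rc_21_3 lc_g_rc_26_9 lc_g_rc_21_3 lc_g_rc_26_9 lc_g_rc_21_2 lc_g_rc_21_2 lc_g_Cert_tree lc_g_rc_21_3 lc_g_Cert_tree lc_g_Cert_tree lc_g_rc_26_0 lc_g_rc_21_2 lc_g_Cert_tree lc_g_rc_24_1 lc_g_Cert_tree lc_g_rc_27_3 lc_g_rc_21_2 lc_g_Cert_tree lc_g_rc_27_9 lc_g_Cert_tree lc_g_rc_26_0 lc_g_rc_23_7 lc_g_rc_21_3 lc_g_Cert_tree lc_g_rc_21_2 lc_g_rc_21_2 lc_g_rc_21_2 lc_g_rc_27_9 lc_g_rc_27_9 lc_g_rc_24_7 lc_g_rc_24_7 lc_g_Cert_tree lc_g_rc_27_3 lc_g_Cert_tree lc_g_rc_26_3 lc_g_rc_23_1 lc_g_Cert_tree lc_g_Cert_tree lc_g_rc_27_3 lc_g_rc_24_3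 lc_g_Cert_tree lc_g_rc_24_1 lc_g_rc_27_6 lc_g_rc_21_2) (@D3.rec (fun _ => (Cert rels S Gen.g)) lc_g_Cert_tree lc_g_rc_26_3 lc_g_rc_24_9 lc_g_Cert_tree lc_g_Cert_tree lc_g_rc_21_2 lc_g_rc_23_7 lc_g_Cert_tree lc_g_rc_23_3 lc_g_rc_26_6 lc_g_rc_23_7 lc_g_Cert_tree lc_g_rc_21_3 lc_g_Cert_tree lc_g_rc_21_3 lc_g_Cert_tree lc_g_Cert_tree lc_g_rc_21_2 lc_g_rc_23_3 lc_g_rc_24_9 lc_g_rc_21_3 lc_g_Cert_tree lc_g_rc_23_3 lc_g_rc_26_9 lc_g_Cert_tree lc_g_rc_24_9 lc_g_rc_21_3 lc_g_Cert_tree lc_g_rc_26_3 lc_g_Cert_tree lc_g_Cert_tree lc_g_rc_21_2 lc_g_rc_21_3 lc_g_Cert_tree lc_g_Cert_tree lc_g_rc_21_2 lc_g_rc_26_3 lc_g_rc_27_3 lc_g_rc_21_3 lc_g_Cert_tree lc_g_Cert_tree lc_g_rc_21_2 lc_g_rc_26_3 lc_g_rc_26_6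 lc_g_Cert_tree lc_g_rc_24_1 lc_g_rc_26_6 lc_g_rc_23_3 lc_g_Cert_tree lc_g_rc_26_0 lc_g_rc_26_3 lc_g_Cert_tree lc_g_rc_26_0 lc_g_Cert_tree lc_g_Cert_tree lc_g_rc_21_3 lc_g_Cert_tree lc_g_rc_26_6 lc_g_Cert_tree lc_g_rc_21_3 lc_g_Cert_tree lc_g_Cert_tree) (@D3.rec (fun _ => (Cert rels S Gen.g)) lc_g_rc_21_2 lc_g_Cert_tree lc_g_rc_23_7 lc_g_rc_27_6 lc_g_rc_26_6 lc_g_rc_23_7 lc_g_rc_21_3 lc_g_Cert_tree lc_g_rc_24_1 lc_g_rc_21_3 lc_g_Cert_tree lc_g_Cert_tree lc_g_rc_27_9 lc_g_rc_23_1 lc_g_rc_26_6 lc_g_rc_24_9 lc_g_rc_26_3 lc_g_rc_23_7 lc_g_rc_27_9 lc_g_Cert_tree lc_g_rc_21_3 lc_g_Cert_tree lc_g_rc_21_3 lc_g_rc_21_3 lc_g_Cert_tree lc_g_Cert_tree lc_g_rc_21_2 lc_g_rc_26_6 lc_g_Cert_tree lc_g_rc_24_9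 lc_g_rc_26_6 lc_g_rc_24_1 lc_g_rc_24_3 lc_g_rc_21_3 lc_g_Cert_tree lc_g_rc_21_2 lc_g_rc_21_2 lc_g_rc_26_6 lc_g_rc_21_2 lc_g_rc_26_0 lc_g_rc_21_3 lc_g_rc_27_6 lc_g_rc_26_6 lc_g_rc_21_3 lc_g_rc_26_6 lc_g_rc_26_6 lc_g_rc_23_3 lc_g_rc_21_2 lc_g_rc_21_3 lc_g_Cert_tree lc_g_rc_26_3 lc_g_Cert_tree lc_g_rc_21_3 lc_g_Cert_tree lc_g_Cert_tree lc_g_rc_21_3 lc_g_Cert_tree lc_g_Cert_tree lc_g_rc_21_2 lc_g_rc_21_3 lc_g_Cert_tree lc_g_rc_21_3) (@D3.rec (fun _ => (Cert rels S Gen.g)) lc_g_rc_27_6 lc_g_rc_26_6 lc_g_rc_26_0 lc_g_rc_23_1 lc_g_rc_21_2 lc_g_rc_21_3 lc_g_Cert_tree lc_g_Cert_tree lc_g_rc_21_3 lc_g_Cert_tree lc_g_Cert_tree lc_g_rc_26_0 lc_g_rc_21_3 lc_g_Cert_tree lc_g_Cert_tree lc_g_rc_21_2 lc_g_Cert_tree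 lc_g_Cert_tree lc_g_rc_21_2 lc_g_rc_24_9 lc_g_Cert_tree lc_g_rc_23_9 lc_g_Cert_tree lc_g_rc_27_3 lc_g_rc_24_3 lc_g_Cert_tree lc_g_rc_21_3 lc_g_Cert_tree lc_g_Cert_tree lc_g_rc_21_2 lc_g_rc_24_1 lc_g_Cert_tree lc_g_rc_23_3 lc_g_Cert_tree lc_g_rc_21_3 lc_g_Cert_tree lc_g_rc_21_2 lc_g_Cert_tree lc_g_Cert_tree lc_g_Cert_tree lc_g_rc_24_3 lc_g_rc_27_6 lc_g_rc_21_2 lc_g_Cert_tree lc_g_Cert_tree lc_g_rc_21_3 lc_g_Cert_tree lc_g_Cert_tree lc_g_rc_21_2 lc_g_rc_21_3 lc_g_rc_21_2 lc_g_Cert_tree lc_g_Cert_tree lc_g_rc_23_9 lc_g_Cert_tree lc_g_Cert_tree lc_g_rc_27_3 lc_g_Cert_tree lc_g_rc_21_3 lc_g_rc_27_3 lc_g_Cert_tree lc_g_rc_21_2) (@D3.rec (fun _ => (Cert rels S Gen.g)) lc_g_Cert_tree lc_g_rc_21_3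 lc_g_rc_21_3 lc_g_Cert_tree lc_g_Cert_tree lc_g_rc_27_3 lc_g_rc_23_1 lc_g_Cert_tree lc_g_rc_21_3 lc_g_Cert_tree lc_g_Cert_tree lc_g_rc_21_2 lc_g_rc_21_2 lc_g_Cert_tree lc_g_Cert_tree lc_g_rc_23_7 lc_g_rc_21_3 lc_g_rc_21_2 lc_g_rc_27_3 lc_g_Cert_tree lc_g_rc_23_9 lc_g_Cert_tree lc_g_rc_23_3 lc_g_Cert_tree lc_g_Cert_tree lc_g_rc_27_3 lc_g_Cert_tree lc_g_rc_25_15 lc_g_rc_21_3 lc_g_rc_24_7 lc_g_rc_21_3 lc_g_rc_24_9 lc_g_rc_24_1 lc_g_rc_21_2 lc_g_Cert_tree lc_g_Cert_tree lc_g_Cert_tree lc_g_rc_26_9 lc_g_Cert_tree lc_g_rc_24_3 lc_g_rc_21_3 lc_g_rc_26_0 lc_g_rc_27_3 lc_g_rc_21_3 lc_g_Cert_tree lc_g_Cert_tree lc_g_Cert_tree lc_g_rc_21_2 lc_g_Cert_tree lc_g_rc_27_3 lc_g_rc_24_1 lc_g_rc_21_3 lc_g_rc_24_1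 lc_g_Cert_tree lc_g_rc_26_0 lc_g_Cert_tree lc_g_rc_21_3 lc_g_Cert_tree lc_g_rc_26_9 lc_g_Cert_tree lc_g_rc_26_0 lc_g_rc_21_3) (@D3.rec (fun _ => (Cert rels S Gen.g)) lc_g_Cert_tree lc_g_rc_21_2 lc_g_Cert_tree lc_g_rc_23_7 lc_g_rc_26_6 lc_g_rc_23_7 lc_g_rc_21_2 lc_g_rc_21_3 lc_g_rc_26_0 lc_g_rc_26_3 lc_g_rc_23_7 lc_g_rc_21_2 lc_g_rc_21_3 lc_g_Cert_tree lc_g_Cert_tree lc_g_rc_21_3 lc_g_Cert_tree lc_g_Cert_tree lc_g_rc_25_19 lc_g_Cert_tree lc_g_Cert_tree lc_g_rc_26_9 lc_g_rc_21_2 lc_g_rc_21_3 lc_g_Cert_tree lc_g_rc_26_6 lc_g_rc_21_2 lc_g_Cert_tree lc_g_rc_23_7 lc_g_rc_26_6 lc_g_rc_23_9 lc_g_rc_21_3 lc_g_Cert_tree lc_g_rc_21_3 lc_g_Cert_tree lc_g_rc_24_7 lc_g_rc_27_9 lc_g_Cert_tree lc_g_rc_23_3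 lc_g_rc_21_3 lc_g_Cert_tree lc_g_rc_21_2 lc_g_rc_21_2 lc_g_rc_21_2 lc_g_rc_27_6 lc_g_rc_24_9 lc_g_Cert_tree lc_g_Cert_tree lc_g_rc_23_7 lc_g_Cert_tree lc_g_rc_23_3 lc_g_rc_26_3 lc_g_rc_21_3 lc_g_rc_24_3 lc_g_rc_25_19 lc_g_rc_21_3 lc_g_rc_26_3 lc_g_rc_21_3 lc_g_Cert_tree lc_g_Cert_tree lc_g_Cert_tree lc_g_rc_26_6) (@D3.rec (fun _ => (Cert rels S Gen.g)) lc_g_rc_27_9 lc_g_rc_21_3 lc_g_rc_26_6 lc_g_rc_24_7 lc_g_rc_21_3 lc_g_Cert_tree lc_g_rc_21_2 lc_g_rc_26_6 lc_g_rc_21_2 lc_g_rc_21_3 lc_g_Cert_tree lc_g_Cert_tree lc_g_rc_23_7 lc_g_rc_21_2 lc_g_rc_21_3 lc_g_Cert_tree lc_g_rc_21_2 lc_g_rc_26_6 lc_g_rc_23_1 lc_g_Cert_tree lc_g_rc_23_7 lc_g_rc_21_3 lc_g_Cert_tree lc_g_rc_21_2 lc_g_rc_27_3 lc_g_rc_23_3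 lc_g_Cert_tree lc_g_rc_21_3 lc_g_Cert_tree lc_g_rc_21_2 lc_g_rc_26_3 lc_g_rc_26_9 lc_g_rc_26_3 lc_g_rc_21_3 lc_g_Cert_tree lc_g_Cert_tree lc_g_Cert_tree lc_g_Cert_tree lc_g_rc_21_3 lc_g_Cert_tree lc_g_Cert_tree lc_g_rc_21_2 lc_g_rc_21_3 lc_g_rc_21_2 lc_g_rc_26_6 lc_g_rc_27_0 lc_g_rc_27_9 lc_g_rc_21_3 lc_g_rc_24_1 lc_g_rc_26_3 lc_g_rc_24_9 lc_g_rc_21_3 lc_g_rc_26_0 lc_g_Cert_tree lc_g_Cert_tree lc_g_rc_21_2 lc_g_rc_21_2 lc_g_Cert_tree lc_g_rc_23_3 lc_g_rc_21_3 lc_g_Cert_tree lc_g_rc_27_6) (@D3.rec (fun _ => (Cert rels S Gen.g)) lc_g_rc_21_2 lc_g_Cert_tree lc_g_rc_23_7 lc_g_rc_21_2 lc_g_rc_21_2 lc_g_rc_24_9 lc_g_rc_27_6 lc_g_rc_21_2 lc_g_rc_21_3 lc_g_Cert_tree lc_g_rc_21_2 lc_g_rc_21_3 lc_g_rc_27_6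 lc_g_rc_21_3 lc_g_Cert_tree lc_g_rc_24_3 lc_g_rc_21_2 lc_g_rc_23_9 lc_g_rc_21_3 lc_g_Cert_tree lc_g_rc_21_2 lc_g_rc_27_6 lc_g_rc_21_2 lc_g_rc_21_3 lc_g_Cert_tree lc_g_rc_21_2 lc_g_rc_26_9 lc_g_Cert_tree lc_g_rc_26_3 lc_g_rc_26_3 lc_g_rc_21_3 lc_g_Cert_tree lc_g_Cert_tree lc_g_rc_21_2 lc_g_Cert_tree lc_g_rc_26_3 lc_g_Cert_tree lc_g_rc_21_2 lc_g_Cert_tree lc_g_rc_23_7 lc_g_rc_23_7 lc_g_rc_21_3 lc_g_rc_26_0 lc_g_Cert_tree lc_g_rc_23_1 lc_g_rc_21_2 lc_g_Cert_tree lc_g_rc_21_3 lc_g_Cert_tree lc_g_Cert_tree lc_g_rc_26_0 lc_g_rc_21_3 lc_g_Cert_tree lc_g_Cert_tree lc_g_rc_21_2 lc_g_Cert_tree lc_g_rc_27_3 lc_g_rc_24_1 lc_g_rc_26_0 lc_g_rc_23_7 lc_g_rc_21_3 lc_g_rc_21_3) (@D3.rec (fun _ => (Cert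 rels S Gen.g)) lc_g_Cert_tree lc_g_Cert_tree lc_g_rc_21_2 lc_g_rc_21_2 lc_g_rc_27_9 lc_g_rc_21_3 lc_g_Cert_tree lc_g_rc_26_0 lc_g_Cert_tree lc_g_rc_21_3 lc_g_rc_23_3 lc_g_rc_26_3 lc_g_Cert_tree lc_g_rc_21_3 lc_g_Cert_tree lc_g_rc_21_3 lc_g_Cert_tree lc_g_Cert_tree lc_g_rc_21_2 lc_g_rc_23_7 lc_g_rc_21_3 lc_g_rc_23_1 lc_g_rc_23_9 lc_g_rc_24_7 lc_g_rc_21_3 lc_g_Cert_tree lc_g_rc_21_2 lc_g_rc_26_9 lc_g_rc_23_3 lc_g_rc_21_3 lc_g_rc_26_3 lc_g_rc_24_1 lc_g_rc_26_0 lc_g_rc_21_2 lc_g_Cert_tree lc_g_rc_23_1 lc_g_Cert_tree lc_g_rc_26_3 lc_g_Cert_tree lc_g_rc_21_3 lc_g_Cert_tree lc_g_Cert_tree lc_g_rc_21_2 lc_g_rc_21_3 lc_g_Cert_tree lc_g_Cert_tree lc_g_rc_21_2 lc_g_rc_21_3 lc_g_Cert_tree lc_g_rc_21_2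 lc_g_rc_21_2 lc_g_rc_21_3 lc_g_rc_21_3 lc_g_rc_26_3 lc_g_rc_21_2 lc_g_rc_21_3 lc_g_Cert_tree lc_g_Cert_tree lc_g_rc_21_3 lc_g_Cert_tree lc_g_Cert_tree lc_g_rc_21_2) (@D3.rec (fun _ => (Cert rels S Gen.g)) lc_g_Cert_tree lc_g_rc_21_2 lc_g_rc_23_3 lc_g_rc_26_3 lc_g_Cert_tree lc_g_rc_21_3 lc_g_Cert_tree lc_g_Cert_tree lc_g_rc_21_2 lc_g_rc_21_2 lc_g_Cert_tree lc_g_Cert_tree lc_g_rc_21_3 lc_g_Cert_tree lc_g_Cert_tree lc_g_rc_21_3 lc_g_Cert_tree lc_g_rc_27_3 lc_g_rc_21_2 lc_g_Cert_tree lc_g_Cert_tree lc_g_Cert_tree lc_g_rc_21_2 lc_g_rc_26_9 lc_g_rc_27_6 lc_g_rc_21_2 lc_g_Cert_tree lc_g_rc_21_3 lc_g_Cert_tree lc_g_Cert_tree lc_g_rc_21_2 lc_g_rc_21_3 lc_g_rc_21_2 lc_g_Cert_tree lc_g_Cert_tree lc_g_rc_24_3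 lc_g_Cert_tree lc_g_rc_27_3 lc_g_Cert_tree lc_g_rc_27_6 lc_g_rc_27_3 lc_g_Cert_tree lc_g_rc_24_1 lc_g_Cert_tree lc_g_rc_23_9 lc_g_Cert_tree lc_g_Cert_tree lc_g_Cert_tree lc_g_Cert_tree lc_g_Cert_tree lc_g_rc_21_3 lc_g_Cert_tree lc_g_Cert_tree lc_g_Cert_tree lc_g_rc_21_2 lc_g_rc_21_3 lc_g_rc_26_3 lc_g_Cert_tree lc_g_Cert_tree lc_g_Cert_tree lc_g_Cert_tree lc_g_rc_23_9) (@D3.rec (fun _ => (Cert rels S Gen.g)) lc_g_Cert_tree lc_g_Cert_tree lc_g_rc_21_3 lc_g_Cert_tree lc_g_rc_27_6 lc_g_Cert_tree lc_g_Cert_tree lc_g_rc_24_3 lc_g_rc_21_2 lc_g_rc_24_1 lc_g_rc_21_3 lc_g_rc_21_3 lc_g_rc_21_3 lc_g_rc_21_3 lc_g_rc_26_9 lc_g_rc_26_3 lc_g_rc_24_9 lc_g_rc_21_3 lc_g_rc_21_3 lc_g_Cert_tree lc_g_Cert_tree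 lc_g_rc_21_2 lc_g_Cert_tree lc_g_rc_27_9 lc_g_rc_21_3 lc_g_Cert_tree lc_g_rc_21_2 lc_g_Cert_tree lc_g_rc_27_9 lc_g_Cert_tree lc_g_rc_21_3 lc_g_Cert_tree lc_g_Cert_tree lc_g_rc_21_2 lc_g_rc_27_6 lc_g_rc_27_9 lc_g_rc_26_3 lc_g_Cert_tree lc_g_rc_24_3 lc_g_rc_23_1 lc_g_rc_26_3 lc_g_rc_27_6 lc_g_rc_21_2 lc_g_rc_26_0 lc_g_rc_27_6 lc_g_rc_26_9 lc_g_rc_21_2 lc_g_rc_21_3 lc_g_Cert_tree lc_g_Cert_tree lc_g_rc_21_3 lc_g_Cert_tree lc_g_Cert_tree lc_g_rc_21_2 lc_g_rc_21_3 lc_g_rc_21_3 lc_g_rc_21_2 lc_g_rc_21_2 lc_g_rc_26_6 lc_g_Cert_tree lc_g_rc_21_2 lc_g_rc_27_3) (@D3.rec (fun _ => (Cert rels S Gen.g)) lc_g_rc_21_3 lc_g_Cert_tree lc_g_rc_23_3 lc_g_rc_21_3 lc_g_Cert_tree lc_g_rc_21_2 lc_g_Cert_tree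 lc_g_Cert_tree lc_g_rc_21_2 lc_g_rc_27_0 lc_g_rc_21_3 lc_g_rc_27_3 lc_g_rc_21_2 lc_g_rc_21_2 lc_g_Cert_tree lc_g_rc_26_3 lc_g_rc_23_7 lc_g_rc_21_2 lc_g_rc_21_2 lc_g_rc_27_6 lc_g_rc_21_3 lc_g_Cert_tree lc_g_rc_23_9 lc_g_rc_26_6 lc_g_rc_21_2 lc_g_rc_21_2 lc_g_rc_21_3 lc_g_rc_26_6 lc_g_Cert_tree lc_g_rc_21_3 lc_g_Cert_tree lc_g_rc_27_3 lc_g_rc_21_3 lc_g_rc_21_2 lc_g_Cert_tree lc_g_rc_27_6 lc_g_rc_26_9 lc_g_rc_26_6 lc_g_rc_23_3 lc_g_rc_21_3 lc_g_rc_26_0 lc_g_Cert_tree lc_g_rc_27_6 lc_g_Cert_tree lc_g_rc_27_3 lc_g_rc_21_2 lc_g_rc_24_1 lc_g_Cert_tree lc_g_Cert_tree lc_g_rc_27_3 lc_g_Cert_tree lc_g_rc_24_1 lc_g_rc_24_1 lc_g_rc_27_9 lc_g_rc_26_9 lc_g_rc_21_3 lc_g_rc_21_3 lc_g_rc_24_1 lc_g_rc_27_6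 lc_g_rc_24_9 lc_g_rc_21_2 lc_g_rc_21_3) (@D3.rec (fun _ => (Cert rels S Gen.g)) lc_g_Cert_tree lc_g_rc_26_3 lc_g_rc_26_6 lc_g_rc_21_3 lc_g_Cert_tree lc_g_Cert_tree lc_g_rc_21_3 lc_g_rc_23_3 lc_g_rc_23_9 lc_g_rc_21_3 lc_g_rc_21_2 lc_g_rc_27_6 lc_g_Cert_tree lc_g_Cert_tree lc_g_rc_26_6 lc_g_rc_21_3 lc_g_Cert_tree lc_g_Cert_tree lc_g_rc_26_6 lc_g_rc_21_3 lc_g_Cert_tree lc_g_Cert_tree lc_g_rc_21_2 lc_g_Cert_tree lc_g_rc_24_1 lc_g_rc_27_3 lc_g_rc_21_3 lc_g_rc_21_2 lc_g_Cert_tree lc_g_Cert_tree lc_g_rc_21_3 lc_g_rc_21_2 lc_g_rc_21_3 lc_g_Cert_tree lc_g_rc_21_2 lc_g_rc_21_2 lc_g_rc_21_3 lc_g_Cert_tree lc_g_rc_21_3 lc_g_Cert_tree lc_g_rc_27_3 lc_g_rc_21_3 lc_g_rc_27_3 lc_g_Cert_tree lc_g_rc_23_9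 lc_g_rc_21_2 lc_g_rc_26_3 lc_g_Cert_tree lc_g_Cert_tree lc_g_rc_21_2 lc_g_rc_23_3 lc_g_Cert_tree lc_g_rc_24_7 lc_g_rc_21_3 lc_g_Cert_tree lc_g_Cert_tree lc_g_rc_26_3 lc_g_Cert_tree lc_g_rc_27_6 lc_g_Cert_tree lc_g_rc_27_0 lc_g_rc_21_3) (@D3.rec (fun _ => (Cert rels S Gen.g)) lc_g_rc_21_3 lc_g_Cert_tree lc_g_rc_27_0 lc_g_rc_21_3 lc_g_Cert_tree lc_g_Cert_tree lc_g_rc_21_2 lc_g_rc_21_3 lc_g_rc_21_2 lc_g_Cert_tree lc_g_Cert_tree lc_g_Cert_tree lc_g_rc_24_9 lc_g_Cert_tree lc_g_Cert_tree lc_g_rc_21_2 lc_g_rc_26_6 lc_g_Cert_tree lc_g_rc_23_1 lc_g_Cert_tree lc_g_rc_23_7 lc_g_Cert_tree lc_g_rc_21_3 lc_g_rc_21_3 lc_g_Cert_tree lc_g_Cert_tree lc_g_rc_21_3 lc_g_rc_21_3 lc_g_Cert_tree lc_g_rc_21_3 lc_g_Cert_tree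 lc_g_rc_27_6 lc_g_rc_21_2 lc_g_rc_21_2 lc_g_rc_21_3 lc_g_Cert_tree lc_g_Cert_tree lc_g_rc_21_2 lc_g_Cert_tree lc_g_Cert_tree lc_g_rc_26_9 lc_g_rc_23_1 lc_g_rc_21_2 lc_g_rc_21_3 lc_g_rc_21_2 lc_g_rc_21_2 lc_g_rc_21_3 lc_g_Cert_tree lc_g_rc_21_3 lc_g_Cert_tree lc_g_Cert_tree lc_g_Cert_tree lc_g_Cert_tree lc_g_rc_21_2 lc_g_rc_21_3 lc_g_Cert_tree lc_g_Cert_tree lc_g_rc_24_9 lc_g_Cert_tree lc_g_rc_24_3 lc_g_rc_26_9 lc_g_rc_21_3) (@D3.rec (fun _ => (Cert rels S Gen.g)) lc_g_Cert_tree lc_g_rc_21_2 lc_g_rc_26_3 lc_g_rc_21_2 lc_g_rc_26_3 lc_g_rc_23_9 lc_g_rc_26_3 lc_g_rc_23_1 lc_g_Cert_tree lc_g_rc_21_3 lc_g_Cert_tree lc_g_Cert_tree lc_g_rc_21_2 lc_g_rc_21_3 lc_g_rc_27_9 lc_g_rc_27_0 lc_g_rc_26_6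 lc_g_rc_26_3 lc_g_rc_21_3 lc_g_Cert_tree lc_g_Cert_tree lc_g_Cert_tree lc_g_rc_21_3 lc_g_rc_24_1 lc_g_rc_23_9 lc_g_rc_26_6 lc_g_rc_27_6 lc_g_Cert_tree lc_g_Cert_tree lc_g_rc_21_3 lc_g_Cert_tree lc_g_rc_21_2 lc_g_rc_21_2 lc_g_rc_27_9 lc_g_rc_23_9 lc_g_Cert_tree lc_g_Cert_tree lc_g_rc_26_0 lc_g_Cert_tree lc_g_Cert_tree lc_g_rc_24_9 lc_g_Cert_tree lc_g_Cert_tree lc_g_rc_21_2 lc_g_Cert_tree lc_g_Cert_tree lc_g_Cert_tree lc_g_rc_26_3 lc_g_rc_26_3 lc_g_rc_21_3 lc_g_rc_26_3 lc_g_rc_26_3 lc_g_rc_21_3 lc_g_Cert_tree lc_g_rc_26_6 lc_g_Cert_tree lc_g_rc_27_3 lc_g_rc_21_3 lc_g_Cert_tree lc_g_Cert_tree lc_g_rc_21_2 lc_g_rc_26_0) (@D3.rec (fun _ => (Cert rels S Gen.g)) lc_g_rc_23_7 lc_g_Cert_tree lc_g_Cert_tree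 lc_g_rc_24_7 lc_g_rc_26_6 lc_g_rc_23_7 lc_g_rc_23_9 lc_g_rc_21_2 lc_g_Cert_tree lc_g_rc_21_2 lc_g_rc_21_3 lc_g_Cert_tree lc_g_Cert_tree lc_g_rc_21_2 lc_g_Cert_tree lc_g_rc_27_9 lc_g_rc_26_3 lc_g_rc_27_3 lc_g_rc_21_2 lc_g_Cert_tree lc_g_Cert_tree lc_g_rc_26_0 lc_g_rc_26_6 lc_g_rc_26_3 lc_g_Cert_tree lc_g_rc_21_3 lc_g_Cert_tree lc_g_Cert_tree lc_g_rc_21_2 lc_g_rc_21_3 lc_g_Cert_tree lc_g_Cert_tree lc_g_rc_21_2 lc_g_rc_21_3 lc_g_rc_26_0 lc_g_rc_26_3 lc_g_rc_21_2 lc_g_rc_24_7 lc_g_rc_26_9 lc_g_rc_26_3 lc_g_rc_26_0 lc_g_rc_26_6 lc_g_rc_26_0 lc_g_Cert_tree lc_g_Cert_tree lc_g_rc_21_3 lc_g_Cert_tree lc_g_Cert_tree lc_g_rc_21_2 lc_g_rc_21_2 lc_g_rc_21_3 lc_g_Cert_tree lc_g_rc_26_9 lc_g_rc_21_3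 lc_g_Cert_tree lc_g_Cert_tree lc_g_rc_26_3 lc_g_Cert_tree lc_g_rc_21_2 lc_g_rc_21_3 lc_g_rc_26_6 lc_g_Cert_tree) (@D3.rec (fun _ => (Cert rels S Gen.g)) lc_g_Cert_tree lc_g_rc_21_2 lc_g_rc_21_3 lc_g_rc_26_9 lc_g_rc_21_2 lc_g_Cert_tree lc_g_rc_21_3 lc_g_Cert_tree lc_g_Cert_tree lc_g_rc_21_2 lc_g_rc_21_3 lc_g_rc_24_7 lc_g_Cert_tree lc_g_rc_21_3 lc_g_rc_24_3 lc_g_rc_27_0 lc_g_rc_21_3 lc_g_Cert_tree lc_g_Cert_tree lc_g_rc_21_3 lc_g_rc_21_3 lc_g_Cert_tree lc_g_Cert_tree lc_g_rc_21_2 lc_g_Cert_tree lc_g_Cert_tree lc_g_rc_26_6 lc_g_rc_21_3 lc_g_rc_26_3 lc_g_rc_21_3 lc_g_rc_26_3 lc_g_rc_21_3 lc_g_Cert_tree lc_g_Cert_tree lc_g_rc_21_2 lc_g_rc_26_3 lc_g_rc_23_1 lc_g_Cert_tree lc_g_rc_21_2 lc_g_rc_21_3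 lc_g_rc_27_6 lc_g_rc_21_2 lc_g_Cert_tree lc_g_rc_21_3 lc_g_Cert_tree lc_g_Cert_tree lc_g_rc_21_2 lc_g_rc_21_3 lc_g_rc_21_2 lc_g_Cert_tree lc_g_Cert_tree lc_g_rc_24_1 lc_g_Cert_tree lc_g_Cert_tree lc_g_rc_26_3 lc_g_rc_23_9 lc_g_Cert_tree lc_g_rc_24_1 lc_g_rc_21_3 lc_g_rc_24_7 lc_g_Cert_tree lc_g_rc_27_3) (@D3.rec (fun _ => (Cert rels S Gen.g)) lc_g_rc_24_7 lc_g_Cert_tree lc_g_rc_21_3 lc_g_Cert_tree lc_g_Cert_tree lc_g_Cert_tree lc_g_rc_24_7 lc_g_rc_26_6 lc_g_rc_23_7 lc_g_rc_26_9 lc_g_rc_21_2 lc_g_Cert_tree lc_g_rc_24_9 lc_g_Cert_tree lc_g_rc_24_7 lc_g_Cert_tree lc_g_rc_26_6 lc_g_Cert_tree lc_g_rc_26_6 lc_g_Cert_tree lc_g_rc_26_0 lc_g_rc_24_1 lc_g_Cert_tree lc_g_rc_21_2 lc_g_rc_21_3 lc_g_rc_21_2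 lc_g_rc_24_7 lc_g_Cert_tree lc_g_Cert_tree lc_g_rc_21_3 lc_g_Cert_tree lc_g_Cert_tree lc_g_rc_21_2 lc_g_rc_21_3 lc_g_Cert_tree lc_g_rc_21_2 lc_g_rc_21_3 lc_g_rc_27_3 lc_g_rc_27_0 lc_g_rc_24_1 lc_g_rc_24_9 lc_g_Cert_tree lc_g_rc_21_3 lc_g_rc_21_3 lc_g_rc_24_9 lc_g_rc_26_0 lc_g_Cert_tree lc_g_rc_21_3 lc_g_Cert_tree lc_g_Cert_tree lc_g_rc_21_2 lc_g_rc_21_3 lc_g_rc_21_3 lc_g_rc_27_3 lc_g_rc_26_6 lc_g_rc_26_3 lc_g_rc_21_2 lc_g_rc_21_3 lc_g_Cert_tree lc_g_Cert_tree lc_g_rc_24_9 lc_g_rc_24_1) (@D3.rec (fun _ => (Cert rels S Gen.g)) lc_g_rc_21_2 lc_g_rc_23_3 lc_g_rc_26_3 lc_g_Cert_tree lc_g_Cert_tree lc_g_rc_24_1 lc_g_rc_26_3 lc_g_rc_21_3 lc_g_rc_21_2 lc_g_rc_23_9 lc_g_rc_21_3 lc_g_rc_21_3 lc_g_rc_26_6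 lc_g_Cert_tree lc_g_rc_26_3 lc_g_rc_26_3 lc_g_rc_26_3 lc_g_Cert_tree lc_g_rc_21_3 lc_g_Cert_tree lc_g_Cert_tree lc_g_rc_21_2 lc_g_rc_21_2 lc_g_rc_26_6 lc_g_rc_26_6 lc_g_rc_21_2 lc_g_Cert_tree lc_g_rc_27_0 lc_g_Cert_tree lc_g_rc_24_1 lc_g_rc_21_3 lc_g_Cert_tree lc_g_Cert_tree lc_g_Cert_tree lc_g_rc_21_3 lc_g_Cert_tree lc_g_Cert_tree lc_g_rc_21_2 lc_g_rc_21_3 lc_g_rc_26_6 lc_g_Cert_tree lc_g_Cert_tree lc_g_Cert_tree lc_g_rc_23_3 lc_g_Cert_tree lc_g_Cert_tree lc_g_rc_21_2 lc_g_rc_21_3 lc_g_Cert_tree lc_g_rc_27_0 lc_g_rc_24_7 lc_g_Cert_tree lc_g_rc_21_3 lc_g_rc_21_2 lc_g_rc_24_7 lc_g_Cert_tree lc_g_rc_21_3 lc_g_rc_21_3 lc_g_Cert_tree lc_g_rc_24_3 lc_g_rc_24_7 lc_g_Cert_tree) (@D3.rec (fun _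 => (Cert rels S Gen.g)) lc_g_rc_21_2 lc_g_Cert_tree lc_g_rc_21_2 lc_g_Cert_tree lc_g_rc_21_3 lc_g_Cert_tree lc_g_rc_21_2 lc_g_Cert_tree lc_g_rc_21_3 lc_g_Cert_tree lc_g_rc_21_2 lc_g_rc_26_0 lc_g_rc_27_6 lc_g_rc_21_2 lc_g_Cert_tree lc_g_rc_21_3 lc_g_Cert_tree lc_g_Cert_tree lc_g_rc_27_3 lc_g_rc_21_2 lc_g_rc_21_3 lc_g_rc_21_2 lc_g_rc_27_3 lc_g_Cert_tree lc_g_Cert_tree lc_g_Cert_tree lc_g_Cert_tree lc_g_rc_26_6 lc_g_rc_26_3 lc_g_rc_26_6 lc_g_Cert_tree lc_g_Cert_tree lc_g_Cert_tree lc_g_rc_21_2 lc_g_rc_24_9 lc_g_rc_25_11 lc_g_rc_27_0 lc_g_rc_26_3 lc_g_rc_26_6 lc_g_rc_21_3 lc_g_Cert_tree lc_g_rc_21_3 lc_g_Cert_tree lc_g_Cert_tree lc_g_rc_21_2 lc_g_Cert_tree lc_g_Cert_tree lc_g_rc_26_6 lc_g_rc_27_6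 lc_g_rc_23_1 lc_g_Cert_tree lc_g_Cert_tree lc_g_rc_21_2 lc_g_rc_21_3 lc_g_rc_26_9 lc_g_Cert_tree lc_g_rc_21_2 lc_g_rc_21_2 lc_g_rc_21_3 lc_g_Cert_tree lc_g_Cert_tree lc_g_rc_21_3) (@D3.rec (fun _ => (Cert rels S Gen.g)) lc_g_Cert_tree lc_g_Cert_tree lc_g_rc_21_2 lc_g_rc_21_2 lc_g_Cert_tree lc_g_Cert_tree lc_g_Cert_tree lc_g_Cert_tree lc_g_rc_21_2 lc_g_Cert_tree lc_g_Cert_tree lc_g_rc_21_2 lc_g_Cert_tree lc_g_rc_21_2 lc_g_rc_24_7 lc_g_rc_21_2 lc_g_Cert_tree lc_g_rc_21_3 lc_g_rc_21_3 lc_g_Cert_tree lc_g_rc_24_7 lc_g_Cert_tree lc_g_Cert_tree lc_g_rc_21_2 lc_g_Cert_tree lc_g_Cert_tree lc_g_rc_26_6 lc_g_Cert_tree lc_g_rc_23_3 lc_g_rc_27_0 lc_g_rc_27_3 lc_g_rc_24_9 lc_g_rc_26_3 lc_g_rc_27_9 lc_g_rc_26_6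 lc_g_rc_27_3 lc_g_rc_23_9 lc_g_Cert_tree lc_g_Cert_tree lc_g_rc_21_2 lc_g_rc_26_0 lc_g_rc_26_6 lc_g_Cert_tree lc_g_rc_27_9 lc_g_rc_21_3 lc_g_Cert_tree lc_g_rc_26_6 lc_g_Cert_tree lc_g_Cert_tree lc_g_rc_26_6 lc_g_Cert_tree lc_g_rc_26_3 lc_g_rc_21_2 lc_g_rc_26_0 lc_g_rc_23_3 lc_g_Cert_tree lc_g_rc_26_6 lc_g_rc_26_6 lc_g_rc_21_2 lc_g_Cert_tree lc_g_rc_21_3 lc_g_Cert_tree) (@D3.rec (fun _ => (Cert rels S Gen.g)) lc_g_Cert_tree lc_g_rc_21_2 lc_g_rc_23_9 lc_g_Cert_tree lc_g_rc_21_3 lc_g_Cert_tree lc_g_rc_24_1 lc_g_rc_26_3 lc_g_rc_21_2 lc_g_rc_26_0 lc_g_rc_26_3 lc_g_Cert_tree lc_g_rc_21_3 lc_g_Cert_tree lc_g_Cert_tree lc_g_rc_26_6 lc_g_rc_21_3 lc_g_Cert_tree lc_g_Cert_tree lc_g_rc_21_3 lc_g_rc_21_3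 lc_g_rc_26_9 lc_g_rc_26_6 lc_g_rc_24_3 lc_g_rc_21_3 lc_g_Cert_tree lc_g_rc_26_3 lc_g_rc_26_6 lc_g_Cert_tree lc_g_Cert_tree lc_g_rc_21_3 lc_g_Cert_tree lc_g_Cert_tree lc_g_rc_21_2 lc_g_rc_26_0 lc_g_rc_27_9 lc_g_rc_21_3 lc_g_rc_26_6 lc_g_Cert_tree lc_g_Cert_tree lc_g_rc_21_3 lc_g_Cert_tree lc_g_Cert_tree lc_g_rc_21_2 lc_g_rc_24_7 lc_g_rc_27_3 lc_g_rc_24_3 lc_g_Cert_tree lc_g_Cert_tree lc_g_rc_21_3 lc_g_Cert_tree lc_g_rc_21_2 lc_g_rc_24_3 lc_g_rc_24_3 lc_g_rc_24_1 lc_g_rc_27_6 lc_g_rc_21_2 lc_g_Cert_tree lc_g_rc_21_3 lc_g_rc_21_2 lc_g_rc_21_2 lc_g_rc_21_3) (@D3.rec (fun _ => (Cert rels S Gen.g)) lc_g_Cert_tree lc_g_Cert_tree lc_g_rc_21_2 lc_g_rc_26_0 lc_g_rc_21_3 lc_g_Cert_tree lc_g_rc_26_6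 lc_g_rc_21_2 lc_g_Cert_tree lc_g_rc_21_2 lc_g_rc_21_3 lc_g_Cert_tree lc_g_Cert_tree lc_g_rc_21_2 lc_g_rc_26_0 lc_g_Cert_tree lc_g_rc_26_6 lc_g_rc_21_2 lc_g_rc_21_3 lc_g_rc_21_3 lc_g_Cert_tree lc_g_Cert_tree lc_g_rc_21_2 lc_g_Cert_tree lc_g_rc_21_2 lc_g_rc_26_6 lc_g_Cert_tree lc_g_rc_27_0 lc_g_rc_21_3 lc_g_Cert_tree lc_g_Cert_tree lc_g_rc_21_2 lc_g_Cert_tree lc_g_rc_27_3 lc_g_Cert_tree lc_g_rc_24_7 lc_g_Cert_tree lc_g_Cert_tree lc_g_rc_21_3 lc_g_Cert_tree lc_g_rc_24_9 lc_g_rc_26_3 lc_g_rc_21_2 lc_g_rc_26_3 lc_g_Cert_tree lc_g_rc_21_3 lc_g_Cert_tree lc_g_Cert_tree lc_g_rc_21_3 lc_g_rc_21_3 lc_g_rc_21_2 lc_g_rc_21_3 lc_g_rc_26_3 lc_g_rc_21_3 lc_g_Cert_tree lc_g_rc_27_3 lc_g_rc_21_2 lc_g_rc_26_6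 lc_g_rc_27_9 lc_g_rc_21_2 lc_g_rc_21_2 lc_g_rc_21_3) (@D3.rec (fun _ => (Cert rels S Gen.g)) lc_g_Cert_tree lc_g_Cert_tree lc_g_rc_21_2 lc_g_rc_26_3 lc_g_Cert_tree lc_g_rc_26_3 lc_g_Cert_tree lc_g_rc_24_1 lc_g_rc_27_6 lc_g_rc_21_3 lc_g_Cert_tree lc_g_rc_21_2 lc_g_Cert_tree lc_g_rc_21_3 lc_g_Cert_tree lc_g_Cert_tree lc_g_rc_21_2 lc_g_Cert_tree lc_g_rc_23_9 lc_g_Cert_tree lc_g_rc_21_3 lc_g_rc_27_0 lc_g_rc_27_0 lc_g_Cert_tree lc_g_rc_24_3 lc_g_rc_27_0 lc_g_Cert_tree lc_g_rc_21_2 lc_g_rc_26_3 lc_g_rc_23_1 lc_g_rc_23_1 lc_g_rc_26_6 lc_g_rc_21_3 lc_g_Cert_tree lc_g_Cert_tree lc_g_Cert_tree lc_g_rc_21_3 lc_g_Cert_tree lc_g_rc_21_3 lc_g_Cert_tree lc_g_rc_21_3 lc_g_rc_23_9 lc_g_rc_21_2 lc_g_Cert_tree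 lc_g_Cert_tree lc_g_rc_27_3 lc_g_Cert_tree lc_g_Cert_tree lc_g_rc_21_3 lc_g_Cert_tree lc_g_Cert_tree lc_g_rc_23_3 lc_g_rc_21_2 lc_g_Cert_tree lc_g_Cert_tree lc_g_rc_21_3 lc_g_Cert_tree lc_g_Cert_tree lc_g_Cert_tree lc_g_rc_21_3 lc_g_Cert_tree lc_g_Cert_tree) (@D3.rec (fun _ => (Cert rels S Gen.g)) lc_g_rc_26_6 lc_g_rc_26_0 lc_g_Cert_tree lc_g_Cert_tree lc_g_Cert_tree lc_g_rc_21_3 lc_g_Cert_tree lc_g_Cert_tree lc_g_rc_21_2 lc_g_Cert_tree lc_g_rc_21_3 lc_g_Cert_tree lc_g_Cert_tree lc_g_rc_24_3 lc_g_Cert_tree lc_g_rc_27_0 lc_g_Cert_tree lc_g_rc_21_3 lc_g_rc_21_3 lc_g_Cert_tree lc_g_rc_21_2 lc_g_rc_26_0 lc_g_rc_24_3 lc_g_Cert_tree lc_g_rc_26_9 lc_g_rc_26_9 lc_g_Cert_tree lc_g_rc_21_3 lc_g_Cert_tree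 lc_g_Cert_tree lc_g_rc_21_2 lc_g_Cert_tree lc_g_rc_21_3 lc_g_rc_23_1 lc_g_rc_24_1 lc_g_rc_21_3 lc_g_Cert_tree lc_g_Cert_tree lc_g_rc_21_2 lc_g_rc_21_3 lc_g_rc_21_2 lc_g_Cert_tree lc_g_Cert_tree lc_g_Cert_tree lc_g_rc_21_2 lc_g_Cert_tree lc_g_Cert_tree lc_g_rc_23_1 lc_g_Cert_tree lc_g_Cert_tree lc_g_Cert_tree lc_g_Cert_tree lc_g_Cert_tree lc_g_rc_27_3 lc_g_rc_21_2 lc_g_Cert_tree lc_g_rc_26_3 lc_g_rc_27_6 lc_g_Cert_tree lc_g_Cert_tree lc_g_rc_27_6 lc_g_rc_21_2) (@D3.rec (fun _ => (Cert rels S Gen.g)) lc_g_Cert_tree lc_g_rc_21_3 lc_g_rc_27_0 lc_g_rc_27_0 lc_g_rc_23_3 lc_g_Cert_tree lc_g_Cert_tree lc_g_Cert_tree lc_g_rc_27_3 lc_g_rc_24_3 lc_g_rc_24_9 lc_g_Cert_tree lc_g_rc_21_3 lc_g_Cert_tree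 lc_g_Cert_tree lc_g_Cert_tree lc_g_rc_21_2 lc_g_rc_21_2 lc_g_rc_21_2 lc_g_rc_26_6 lc_g_Cert_tree lc_g_Cert_tree lc_g_rc_27_6 lc_g_rc_23_1 lc_g_rc_27_6 lc_g_rc_27_3 lc_g_rc_27_0 lc_g_rc_21_3 lc_g_Cert_tree lc_g_Cert_tree lc_g_rc_26_6 lc_g_rc_23_7 lc_g_Cert_tree lc_g_rc_24_3 lc_g_rc_21_2 lc_g_rc_21_2 lc_g_rc_26_6 lc_g_Cert_tree lc_g_rc_23_1 lc_g_rc_21_2 lc_g_rc_21_3 lc_g_Cert_tree lc_g_rc_27_3 lc_g_rc_23_1 lc_g_rc_24_1 lc_g_rc_27_0 lc_g_rc_26_0 lc_g_rc_24_7 lc_g_Cert_tree lc_g_rc_23_1 lc_g_rc_27_6 lc_g_rc_24_1 lc_g_Cert_tree lc_g_Cert_tree lc_g_rc_23_1 lc_g_rc_27_6 lc_g_Cert_tree lc_g_Cert_tree lc_g_rc_21_2 lc_g_rc_24_7 lc_g_rc_21_2 lc_g_rc_26_3) (@D3.rec (fun _ => (Cert rels S Gen.g)) lc_g_rc_21_2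 lc_g_Cert_tree lc_g_Cert_tree lc_g_rc_21_3 lc_g_Cert_tree lc_g_rc_26_9 lc_g_rc_24_7 lc_g_rc_21_3 lc_g_rc_25_11 lc_g_Cert_tree lc_g_rc_24_9 lc_g_Cert_tree lc_g_rc_25_7 lc_g_Cert_tree lc_g_rc_27_6 lc_g_Cert_tree lc_g_Cert_tree lc_g_rc_21_2 lc_g_rc_21_3 lc_g_rc_23_3 lc_g_Cert_tree lc_g_rc_27_0 lc_g_rc_23_3 lc_g_Cert_tree lc_g_rc_21_3 lc_g_Cert_tree lc_g_Cert_tree lc_g_rc_21_2 lc_g_rc_24_9 lc_g_rc_21_2 lc_g_rc_25_7 lc_g_rc_21_2 lc_g_Cert_tree lc_g_Cert_tree lc_g_rc_27_6 lc_g_Cert_tree lc_g_rc_23_3 lc_g_Cert_tree lc_g_Cert_tree lc_g_rc_21_3 lc_g_Cert_tree lc_g_Cert_tree lc_g_rc_21_3 lc_g_Cert_tree lc_g_rc_24_1 lc_g_rc_27_0 lc_g_Cert_tree lc_g_rc_26_3 lc_g_Cert_tree lc_g_rc_21_3 lc_g_Cert_tree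 lc_g_rc_21_3 lc_g_Cert_tree lc_g_rc_21_3 lc_g_Cert_tree lc_g_Cert_tree lc_g_rc_27_3 lc_g_Cert_tree lc_g_Cert_tree lc_g_rc_21_3 lc_g_Cert_tree lc_g_Cert_tree) (@D3.rec (fun _ => (Cert rels S Gen.g)) lc_g_rc_21_3 lc_g_rc_21_3 lc_g_rc_21_2 lc_g_Cert_tree lc_g_Cert_tree lc_g_Cert_tree lc_g_rc_23_3 lc_g_Cert_tree lc_g_rc_21_3 lc_g_rc_21_3 lc_g_Cert_tree lc_g_rc_21_2 lc_g_Cert_tree lc_g_rc_24_9 lc_g_Cert_tree lc_g_rc_23_3 lc_g_rc_21_2 lc_g_rc_27_9 lc_g_rc_21_2 lc_g_rc_21_2 lc_g_rc_21_3 lc_g_Cert_tree lc_g_Cert_tree lc_g_Cert_tree lc_g_rc_21_3 lc_g_Cert_tree lc_g_rc_23_3 lc_g_rc_21_2 lc_g_rc_24_7 lc_g_Cert_tree lc_g_Cert_tree lc_g_rc_23_1 lc_g_rc_24_1 lc_g_Cert_tree lc_g_Cert_tree lc_g_rc_24_1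 lc_g_rc_21_3 lc_g_Cert_tree lc_g_Cert_tree lc_g_rc_21_2 lc_g_rc_26_6 lc_g_Cert_tree lc_g_rc_24_7 lc_g_rc_26_6 lc_g_rc_23_9 lc_g_rc_23_9 lc_g_Cert_tree lc_g_rc_23_7 lc_g_rc_24_3 lc_g_rc_23_7 lc_g_rc_21_3 lc_g_Cert_tree lc_g_rc_21_2 lc_g_rc_27_3 lc_g_Cert_tree lc_g_Cert_tree lc_g_rc_21_2 lc_g_Cert_tree lc_g_rc_23_1 lc_g_Cert_tree lc_g_Cert_tree lc_g_rc_21_3) (@D3.rec (fun _ => (Cert rels S Gen.g)) lc_g_Cert_tree lc_g_rc_24_3 lc_g_Cert_tree lc_g_rc_23_1 lc_g_Cert_tree lc_g_rc_21_2 lc_g_rc_21_2 lc_g_rc_24_7 lc_g_rc_21_3 lc_g_Cert_tree lc_g_Cert_tree lc_g_Cert_tree lc_g_rc_26_3 lc_g_Cert_tree lc_g_rc_21_3 lc_g_Cert_tree lc_g_rc_27_3 lc_g_rc_21_3 lc_g_Cert_tree lc_g_Cert_tree lc_g_rc_21_2 lc_g_rc_24_7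 lc_g_rc_21_2 lc_g_rc_21_3 lc_g_Cert_tree lc_g_rc_21_2 lc_g_rc_21_3 lc_g_Cert_tree lc_g_Cert_tree lc_g_rc_24_1 lc_g_Cert_tree lc_g_Cert_tree lc_g_rc_24_7 lc_g_Cert_tree lc_g_rc_21_3 lc_g_Cert_tree lc_g_Cert_tree lc_g_Cert_tree lc_g_Cert_tree lc_g_rc_26_0 lc_g_rc_21_2 lc_g_rc_23_1 lc_g_rc_21_3 lc_g_rc_23_3 lc_g_Cert_tree lc_g_rc_21_2 lc_g_rc_26_6 lc_g_Cert_tree lc_g_rc_23_3 lc_g_Cert_tree lc_g_Cert_tree lc_g_rc_21_3 lc_g_rc_27_6 lc_g_Cert_tree lc_g_rc_27_6 lc_g_rc_21_3 lc_g_Cert_tree lc_g_rc_21_2 lc_g_rc_27_3 lc_g_rc_26_0 lc_g_Cert_tree lc_g_rc_21_2) (@D3.rec (fun _ => (Cert rels S Gen.g)) lc_g_rc_21_3 lc_g_Cert_tree lc_g_rc_21_2 lc_g_rc_27_3 lc_g_Cert_tree lc_g_rc_21_3 lc_g_Cert_tree lc_g_rc_21_2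 lc_g_Cert_tree lc_g_rc_26_0 lc_g_Cert_tree lc_g_rc_21_3 lc_g_Cert_tree lc_g_rc_27_3 lc_g_rc_21_3 lc_g_Cert_tree lc_g_Cert_tree lc_g_rc_24_3 lc_g_rc_21_3 lc_g_Cert_tree lc_g_rc_21_2 lc_g_rc_26_0 lc_g_rc_26_3 lc_g_rc_21_3 lc_g_Cert_tree lc_g_Cert_tree lc_g_rc_21_2 lc_g_rc_21_3 lc_g_Cert_tree lc_g_rc_26_6 lc_g_rc_21_2 lc_g_rc_23_7 lc_g_rc_24_7 lc_g_rc_21_3 lc_g_Cert_tree lc_g_rc_21_2 lc_g_rc_21_3 lc_g_rc_21_2 lc_g_rc_26_6 lc_g_rc_21_3 lc_g_rc_23_9 lc_g_rc_26_9 lc_g_rc_21_3 lc_g_rc_26_0 lc_g_Cert_tree lc_g_rc_21_3 lc_g_Cert_tree lc_g_rc_27_0 lc_g_rc_21_2 lc_g_rc_21_3 lc_g_rc_21_2 lc_g_rc_21_2 lc_g_rc_21_3 lc_g_rc_26_6 lc_g_rc_21_2 lc_g_rc_21_3 lc_g_Cert_tree lc_g_Cert_tree lc_g_Cert_tree lc_g_rc_24_1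 lc_g_rc_21_3 lc_g_Cert_tree) (@D3.rec (fun _ => (Cert rels S Gen.g)) lc_g_rc_27_6 lc_g_rc_27_3 lc_g_Cert_tree lc_g_rc_21_2 lc_g_Cert_tree lc_g_rc_27_9 lc_g_Cert_tree lc_g_rc_21_2 lc_g_rc_26_9 lc_g_Cert_tree lc_g_rc_21_3 lc_g_Cert_tree lc_g_Cert_tree lc_g_rc_21_2 lc_g_rc_21_3 lc_g_rc_21_2 lc_g_Cert_tree lc_g_Cert_tree lc_g_rc_21_3 lc_g_Cert_tree lc_g_Cert_tree lc_g_Cert_tree lc_g_rc_26_0 lc_g_Cert_tree lc_g_Cert_tree lc_g_rc_24_3 lc_g_Cert_tree lc_g_rc_21_3 lc_g_rc_21_3 lc_g_Cert_tree lc_g_Cert_tree lc_g_rc_27_3 lc_g_rc_24_3 lc_g_Cert_tree lc_g_rc_24_1 lc_g_Cert_tree lc_g_Cert_tree lc_g_rc_21_2 lc_g_rc_24_3 lc_g_Cert_tree lc_g_Cert_tree lc_g_rc_27_3 lc_g_rc_26_9 lc_g_rc_23_3 lc_g_Cert_tree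 lc_g_Cert_tree lc_g_rc_21_3 lc_g_Cert_tree lc_g_rc_21_2 lc_g_rc_26_3 lc_g_Cert_tree lc_g_rc_27_3 lc_g_rc_26_3 lc_g_rc_21_3 lc_g_Cert_tree lc_g_Cert_tree lc_g_rc_23_7 lc_g_rc_26_6 lc_g_rc_21_2 lc_g_Cert_tree lc_g_Cert_tree lc_g_rc_21_2) (@D3.rec (fun _ => (Cert rels S Gen.g)) lc_g_Cert_tree lc_g_Cert_tree lc_g_rc_24_7 lc_g_Cert_tree lc_g_rc_21_2 lc_g_rc_21_3 lc_g_Cert_tree lc_g_rc_21_3 lc_g_rc_23_7 lc_g_rc_24_9 lc_g_rc_23_9 lc_g_Cert_tree lc_g_rc_27_3 lc_g_rc_21_2 lc_g_rc_21_3 lc_g_Cert_tree lc_g_rc_21_3 lc_g_Cert_tree lc_g_Cert_tree lc_g_rc_21_2 lc_g_rc_21_3 lc_g_Cert_tree lc_g_Cert_tree lc_g_rc_21_2 lc_g_rc_27_6 lc_g_rc_23_7 lc_g_rc_21_3 lc_g_Cert_tree lc_g_rc_21_2 lc_g_rc_27_9 lc_g_rc_23_7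 lc_g_Cert_tree lc_g_Cert_tree lc_g_rc_21_2 lc_g_rc_21_3 lc_g_rc_26_9 lc_g_rc_26_0 lc_g_rc_21_2 lc_g_rc_21_3 lc_g_Cert_tree lc_g_Cert_tree lc_g_rc_21_2 lc_g_rc_21_2 lc_g_rc_21_3 lc_g_rc_21_3 lc_g_rc_21_3 lc_g_rc_26_0 lc_g_rc_21_3 lc_g_Cert_tree lc_g_Cert_tree lc_g_rc_21_2 lc_g_rc_21_3 lc_g_Cert_tree lc_g_rc_21_2 lc_g_rc_21_2 lc_g_rc_21_3 lc_g_Cert_tree lc_g_rc_21_3 lc_g_Cert_tree lc_g_rc_21_3 lc_g_Cert_tree lc_g_Cert_tree) (@D3.rec (fun _ => (Cert rels S Gen.g)) lc_g_rc_21_2 lc_g_Cert_tree lc_g_Cert_tree lc_g_Cert_tree lc_g_rc_27_9 lc_g_rc_24_7 lc_g_rc_24_7 lc_g_Cert_tree lc_g_Cert_tree lc_g_rc_21_3 lc_g_Cert_tree lc_g_Cert_tree lc_g_rc_21_2 lc_g_rc_25_15 lc_g_rc_21_3 lc_g_rc_21_3 lc_g_Cert_tree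 lc_g_Cert_tree lc_g_Cert_tree lc_g_rc_21_2 lc_g_Cert_tree lc_g_Cert_tree lc_g_rc_21_2 lc_g_Cert_tree lc_g_rc_27_3 lc_g_Cert_tree lc_g_Cert_tree lc_g_rc_24_7 lc_g_rc_21_3 lc_g_Cert_tree lc_g_Cert_tree lc_g_rc_23_3 lc_g_rc_21_2 lc_g_Cert_tree lc_g_rc_21_2 lc_g_rc_23_7 lc_g_rc_21_3 lc_g_rc_21_2 lc_g_Cert_tree lc_g_rc_27_3 lc_g_Cert_tree lc_g_rc_21_3 lc_g_Cert_tree lc_g_Cert_tree lc_g_Cert_tree lc_g_rc_24_7 lc_g_Cert_tree lc_g_rc_24_1 lc_g_rc_23_1 lc_g_rc_21_3 lc_g_Cert_tree lc_g_rc_27_3 lc_g_Cert_tree lc_g_rc_27_0 lc_g_rc_23_7 lc_g_rc_21_3 lc_g_Cert_tree lc_g_Cert_tree lc_g_Cert_tree lc_g_rc_21_3 lc_g_Cert_tree lc_g_rc_27_3) (@D3.rec (fun _ => (Cert rels S Gen.g)) lc_g_Cert_tree lc_g_Cert_tree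 lc_g_Cert_tree lc_g_Cert_tree lc_g_rc_27_6 lc_g_rc_24_1 lc_g_rc_27_9 lc_g_rc_21_3 lc_g_Cert_tree lc_g_rc_21_3 lc_g_rc_21_2 lc_g_Cert_tree lc_g_rc_27_9 lc_g_rc_27_3 lc_g_rc_21_3 lc_g_Cert_tree lc_g_rc_21_2 lc_g_Cert_tree lc_g_rc_21_3 lc_g_rc_21_3 lc_g_Cert_tree lc_g_rc_21_2 lc_g_rc_21_2 lc_g_rc_23_7 lc_g_rc_27_9 lc_g_Cert_tree lc_g_rc_21_2 lc_g_rc_27_9 lc_g_Cert_tree lc_g_rc_21_2 lc_g_Cert_tree lc_g_rc_26_0 lc_g_rc_26_6 lc_g_Cert_tree lc_g_Cert_tree lc_g_Cert_tree lc_g_rc_24_3 lc_g_Cert_tree lc_g_rc_23_3 lc_g_rc_26_6 lc_g_rc_26_3 lc_g_rc_27_0 lc_g_rc_26_0 lc_g_rc_24_9 lc_g_rc_23_1 lc_g_rc_27_0 lc_g_rc_24_3 lc_g_Cert_tree lc_g_rc_21_3 lc_g_Cert_tree lc_g_Cert_tree lc_g_Cert_tree lc_g_rc_21_3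 lc_g_Cert_tree lc_g_Cert_tree lc_g_rc_27_9 lc_g_rc_21_3 lc_g_Cert_tree lc_g_rc_21_2 lc_g_Cert_tree lc_g_rc_21_3 lc_g_Cert_tree) (@D3.rec (fun _ => (Cert rels S Gen.g)) lc_g_rc_21_3 lc_g_rc_27_3 lc_g_rc_26_6 lc_g_Cert_tree lc_g_rc_21_3 lc_g_Cert_tree lc_g_rc_26_3 lc_g_Cert_tree lc_g_rc_21_2 lc_g_Cert_tree lc_g_rc_21_3 lc_g_Cert_tree lc_g_Cert_tree lc_g_Cert_tree lc_g_rc_21_2 lc_g_rc_23_1 lc_g_Cert_tree lc_g_rc_26_6 lc_g_rc_24_7 lc_g_Cert_tree lc_g_rc_21_3 lc_g_Cert_tree lc_g_rc_26_6 lc_g_rc_24_3 lc_g_rc_24_1 lc_g_Cert_tree lc_g_rc_21_3 lc_g_rc_25_19 lc_g_Cert_tree lc_g_rc_26_0 lc_g_rc_26_6 lc_g_rc_23_7 lc_g_rc_26_6 lc_g_rc_24_3 lc_g_rc_24_3 lc_g_Cert_tree lc_g_rc_24_7 lc_g_Cert_tree lc_g_rc_24_1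 lc_g_rc_21_3 lc_g_rc_23_1 lc_g_rc_21_3 lc_g_rc_21_2 lc_g_Cert_tree lc_g_rc_21_3 lc_g_Cert_tree lc_g_Cert_tree lc_g_rc_26_6 lc_g_rc_21_2 lc_g_Cert_tree lc_g_rc_21_3 lc_g_Cert_tree lc_g_rc_21_2 lc_g_Cert_tree lc_g_rc_24_9 lc_g_Cert_tree lc_g_rc_21_3 lc_g_rc_26_3 lc_g_Cert_tree lc_g_rc_21_2 lc_g_rc_24_7 lc_g_Cert_tree) (@D3.rec (fun _ => (Cert rels S Gen.g)) lc_g_rc_21_2 lc_g_rc_24_7 lc_g_Cert_tree lc_g_Cert_tree lc_g_rc_23_1 lc_g_rc_25_3 lc_g_rc_24_9 lc_g_Cert_tree lc_g_Cert_tree lc_g_rc_21_2 lc_g_Cert_tree lc_g_Cert_tree lc_g_rc_24_3 lc_g_rc_24_9 lc_g_Cert_tree lc_g_rc_23_7 lc_g_Cert_tree lc_g_Cert_tree lc_g_rc_26_6 lc_g_rc_26_3 lc_g_rc_21_2 lc_g_Cert_tree lc_g_rc_27_3 lc_g_rc_21_3 lc_g_rc_27_3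 lc_g_Cert_tree lc_g_Cert_tree lc_g_Cert_tree lc_g_rc_23_3 lc_g_rc_21_2 lc_g_rc_26_3 lc_g_rc_26_6 lc_g_rc_27_6 lc_g_Cert_tree lc_g_rc_21_2 lc_g_rc_21_3 lc_g_Cert_tree lc_g_rc_21_2 lc_g_Cert_tree lc_g_rc_21_2 lc_g_rc_21_3 lc_g_Cert_tree lc_g_rc_21_2 lc_g_rc_26_3 lc_g_rc_26_6 lc_g_rc_21_3 lc_g_Cert_tree lc_g_rc_21_2 lc_g_rc_21_3 lc_g_Cert_tree lc_g_rc_21_2 lc_g_Cert_tree lc_g_rc_21_2 lc_g_Cert_tree lc_g_rc_23_7 lc_g_rc_27_6 lc_g_Cert_tree lc_g_Cert_tree lc_g_rc_21_3 lc_g_Cert_tree lc_g_rc_26_6 lc_g_Cert_tree) (@D3.rec (fun _ => (Cert rels S Gen.g)) lc_g_rc_21_2 lc_g_rc_21_3 lc_g_Cert_tree lc_g_rc_24_9 lc_g_rc_26_3 lc_g_rc_21_3 lc_g_Cert_tree lc_g_rc_26_6 lc_g_Cert_tree lc_g_rc_21_2 lc_g_Cert_tree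 lc_g_rc_26_6 lc_g_rc_21_3 lc_g_Cert_tree lc_g_rc_21_2 lc_g_rc_23_9 lc_g_Cert_tree lc_g_rc_23_9 lc_g_rc_26_6 lc_g_Cert_tree lc_g_rc_21_2 lc_g_Cert_tree lc_g_Cert_tree lc_g_rc_27_3 lc_g_rc_21_2 lc_g_rc_21_3 lc_g_Cert_tree lc_g_Cert_tree lc_g_Cert_tree lc_g_rc_26_6 lc_g_rc_23_9 lc_g_rc_21_2 lc_g_rc_23_9 lc_g_Cert_tree lc_g_Cert_tree lc_g_Cert_tree lc_g_rc_21_3 lc_g_Cert_tree lc_g_rc_21_2 lc_g_Cert_tree lc_g_rc_26_6 lc_g_rc_26_3 lc_g_rc_21_3 lc_g_Cert_tree lc_g_rc_23_9 lc_g_rc_27_6 lc_g_Cert_tree lc_g_rc_21_2 lc_g_rc_23_1 lc_g_rc_21_3 lc_g_rc_21_2 lc_g_Cert_tree lc_g_Cert_tree lc_g_rc_21_3 lc_g_Cert_tree lc_g_rc_21_2 lc_g_rc_21_3 lc_g_rc_27_0 lc_g_rc_26_9 lc_g_rc_21_3 lc_g_Cert_tree lc_g_Cert_tree)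 (@D3.rec (fun _ => (Cert rels S Gen.g)) lc_g_rc_21_3 lc_g_Cert_tree lc_g_Cert_tree lc_g_rc_21_2 lc_g_rc_23_3 lc_g_rc_21_3 lc_g_rc_21_3 lc_g_rc_26_3 lc_g_rc_24_9 lc_g_rc_27_6 lc_g_rc_21_2 lc_g_rc_23_1 lc_g_rc_27_9 lc_g_rc_27_3 lc_g_Cert_tree lc_g_rc_21_3 lc_g_rc_24_7 lc_g_rc_23_1 lc_g_rc_21_2 lc_g_rc_21_3 lc_g_rc_24_1 lc_g_Cert_tree lc_g_rc_21_3 lc_g_Cert_tree lc_g_rc_21_2 lc_g_Cert_tree lc_g_Cert_tree lc_g_rc_27_6 lc_g_rc_21_2 lc_g_rc_24_9 lc_g_rc_27_6 lc_g_rc_24_3 lc_g_Cert_tree lc_g_Cert_tree lc_g_Cert_tree lc_g_Cert_tree lc_g_rc_23_3 lc_g_rc_24_9 lc_g_rc_27_6 lc_g_rc_26_9 lc_g_rc_27_0 lc_g_rc_24_7 lc_g_rc_26_6 lc_g_rc_26_3 lc_g_Cert_tree lc_g_Cert_tree lc_g_rc_24_9 lc_g_rc_21_2 lc_g_rc_21_2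 lc_g_rc_24_9 lc_g_rc_27_3 lc_g_rc_24_9 lc_g_rc_23_1 lc_g_Cert_tree lc_g_rc_23_1 lc_g_Cert_tree lc_g_rc_24_3 lc_g_Cert_tree lc_g_Cert_tree lc_g_Cert_tree lc_g_Cert_tree lc_g_rc_21_3) (@D3.rec (fun _ => (Cert rels S Gen.g)) lc_g_Cert_tree lc_g_rc_21_3 lc_g_rc_24_7 lc_g_rc_24_9 lc_g_rc_26_0 lc_g_Cert_tree lc_g_rc_23_3 lc_g_Cert_tree lc_g_Cert_tree lc_g_rc_27_3 lc_g_rc_26_6 lc_g_rc_21_2 lc_g_Cert_tree lc_g_rc_24_3 lc_g_Cert_tree lc_g_rc_26_6 lc_g_Cert_tree lc_g_rc_21_2 lc_g_rc_27_6 lc_g_Cert_tree lc_g_rc_24_1 lc_g_Cert_tree lc_g_rc_24_1 lc_g_Cert_tree lc_g_rc_24_9 lc_g_rc_21_2 lc_g_Cert_tree lc_g_rc_23_7 lc_g_rc_21_2 lc_g_Cert_tree lc_g_rc_23_7 lc_g_rc_27_6 lc_g_rc_21_3 lc_g_Cert_tree lc_g_rc_26_9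 lc_g_Cert_tree lc_g_rc_21_3 lc_g_Cert_tree lc_g_rc_21_2 lc_g_Cert_tree lc_g_rc_23_7 lc_g_Cert_tree lc_g_rc_21_3 lc_g_Cert_tree lc_g_rc_24_3 lc_g_Cert_tree lc_g_rc_26_0 lc_g_Cert_tree lc_g_rc_21_2 lc_g_rc_26_6 lc_g_rc_27_9 lc_g_rc_27_3 lc_g_rc_27_0 lc_g_rc_27_3 lc_g_rc_26_0 lc_g_rc_26_9 lc_g_rc_21_2 lc_g_rc_27_6 lc_g_rc_26_6 lc_g_rc_21_2 lc_g_rc_26_6 lc_g_rc_24_1) (@D3.rec (fun _ => (Cert rels S Gen.g)) lc_g_rc_21_2 lc_g_Cert_tree lc_g_rc_21_3 lc_g_rc_27_3 lc_g_rc_21_2 lc_g_rc_27_6 lc_g_Cert_tree lc_g_rc_26_0 lc_g_rc_21_2 lc_g_rc_26_0 lc_g_rc_21_2 lc_g_rc_21_2 lc_g_rc_21_3 lc_g_Cert_tree lc_g_rc_26_0 lc_g_rc_27_9 lc_g_rc_27_6 lc_g_rc_24_7 lc_g_rc_27_6 lc_g_rc_27_3 lc_g_rc_27_6 lc_g_rc_26_3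 lc_g_rc_23_3 lc_g_rc_24_1 lc_g_rc_21_3 lc_g_rc_23_7 lc_g_rc_23_3 lc_g_rc_24_7 lc_g_rc_26_3 lc_g_rc_21_3 lc_g_Cert_tree lc_g_rc_26_3 lc_g_Cert_tree lc_g_rc_23_7 lc_g_Cert_tree lc_g_rc_21_2 lc_g_rc_23_9 lc_g_rc_27_6 lc_g_Cert_tree lc_g_rc_23_7 lc_g_Cert_tree lc_g_rc_26_3 lc_g_rc_21_3 lc_g_Cert_tree lc_g_rc_21_2 lc_g_Cert_tree lc_g_rc_23_3 lc_g_Cert_tree lc_g_Cert_tree lc_g_rc_27_3 lc_g_rc_21_2 lc_g_rc_21_3 lc_g_Cert_tree lc_g_rc_23_7 lc_g_rc_26_0 lc_g_rc_24_1 lc_g_rc_26_0 lc_g_rc_24_1 lc_g_rc_21_2 lc_g_rc_21_3 lc_g_Cert_tree lc_g_rc_23_7)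
def ce_g_8 : D2 → D3 → (Cert rels S Gen.g) := @D2.rec (fun _ => D3 → (Cert rels S Gen.g)) (@D3.rec (fun _ => (Cert rels S Gen.g)) lc_g_Cert_tree lc_g_rc_25_11 lc_g_rc_25_3 lc_g_rc_26_9 lc_g_rc_26_0 lc_g_rc_26_3 lc_g_rc_27_6 lc_g_rc_21_3 lc_g_rc_24_9 lc_g_rc_21_2 lc_g_rc_27_6 lc_g_Cert_tree lc_g_Cert_tree lc_g_rc_26_3 lc_g_rc_26_9 lc_g_rc_21_3 lc_g_Cert_tree lc_g_rc_26_0 lc_g_rc_27_3 lc_g_Cert_tree lc_g_rc_21_2 lc_g_rc_26_3 lc_g_rc_21_3 lc_g_Cert_tree lc_g_rc_21_2 lc_g_rc_24_1 lc_g_rc_26_0 lc_g_Cert_tree lc_g_rc_27_6 lc_g_Cert_tree lc_g_rc_21_2 lc_g_rc_24_3 lc_g_rc_24_9 lc_g_rc_21_3 lc_g_rc_24_1 lc_g_rc_27_0 lc_g_rc_26_6 lc_g_rc_21_2 lc_g_rc_21_3 lc_g_rc_26_3 lc_g_rc_21_3 lc_g_Cert_tree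 lc_g_Cert_tree lc_g_rc_21_2 lc_g_rc_21_2 lc_g_Cert_tree lc_g_Cert_tree lc_g_Cert_tree lc_g_rc_26_0 lc_g_rc_26_9 lc_g_Cert_tree lc_g_rc_21_3 lc_g_rc_21_2 lc_g_Cert_tree lc_g_Cert_tree lc_g_rc_26_9 lc_g_Cert_tree lc_g_rc_21_2 lc_g_rc_26_0 lc_g_rc_24_7 lc_g_rc_21_2 lc_g_rc_21_3) (@D3.rec (fun _ => (Cert rels S Gen.g)) lc_g_Cert_tree lc_g_rc_21_2 lc_g_rc_23_3 lc_g_rc_24_9 lc_g_rc_27_3 lc_g_rc_24_3 lc_g_Cert_tree lc_g_rc_27_3 lc_g_Cert_tree lc_g_rc_24_9 lc_g_rc_21_3 lc_g_Cert_tree lc_g_rc_21_2 lc_g_Cert_tree lc_g_Cert_tree lc_g_rc_21_2 lc_g_rc_27_6 lc_g_Cert_tree lc_g_rc_21_3 lc_g_Cert_tree lc_g_rc_21_2 lc_g_rc_27_6 lc_g_Cert_tree lc_g_rc_27_9 lc_g_rc_26_6 lc_g_rc_24_9 lc_g_Cert_tree lc_g_rc_21_2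 lc_g_Cert_tree lc_g_Cert_tree lc_g_rc_21_2 lc_g_rc_21_2 lc_g_rc_21_3 lc_g_rc_21_2 lc_g_Cert_tree lc_g_Cert_tree lc_g_rc_21_3 lc_g_Cert_tree lc_g_rc_26_6 lc_g_Cert_tree lc_g_rc_21_2 lc_g_rc_21_3 lc_g_Cert_tree lc_g_rc_21_2 lc_g_rc_21_2 lc_g_rc_26_3 lc_g_rc_26_9 lc_g_rc_27_9 lc_g_rc_27_6 lc_g_rc_27_6 lc_g_rc_27_9 lc_g_rc_25_19 lc_g_Cert_tree lc_g_rc_21_3 lc_g_Cert_tree lc_g_Cert_tree lc_g_Cert_tree lc_g_rc_21_2 lc_g_rc_21_3 lc_g_Cert_tree lc_g_rc_24_9 lc_g_rc_21_3) (@D3.rec (fun _ => (Cert rels S Gen.g)) lc_g_Cert_tree lc_g_rc_21_2 lc_g_Cert_tree lc_g_rc_21_2 lc_g_rc_27_6 lc_g_rc_26_9 lc_g_rc_27_0 lc_g_rc_24_9 lc_g_Cert_tree lc_g_rc_21_2 lc_g_rc_26_3 lc_g_rc_26_0 lc_g_rc_24_1 lc_g_rc_26_3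 lc_g_rc_27_6 lc_g_rc_21_3 lc_g_rc_26_6 lc_g_rc_21_3 lc_g_rc_27_6 lc_g_rc_27_6 lc_g_rc_21_3 lc_g_rc_21_3 lc_g_rc_21_3 lc_g_Cert_tree lc_g_Cert_tree lc_g_rc_26_9 lc_g_rc_21_2 lc_g_rc_21_3 lc_g_Cert_tree lc_g_rc_21_2 lc_g_rc_21_2 lc_g_Cert_tree lc_g_Cert_tree lc_g_rc_21_2 lc_g_Cert_tree lc_g_Cert_tree lc_g_rc_24_1 lc_g_rc_26_6 lc_g_rc_24_9 lc_g_Cert_tree lc_g_rc_21_3 lc_g_Cert_tree lc_g_rc_21_2 lc_g_Cert_tree lc_g_Cert_tree lc_g_rc_23_3 lc_g_rc_23_9 lc_g_rc_27_0 lc_g_rc_24_9 lc_g_Cert_tree lc_g_rc_27_3 lc_g_rc_21_2 lc_g_rc_21_2 lc_g_Cert_tree lc_g_rc_26_6 lc_g_rc_21_2 lc_g_rc_21_3 lc_g_Cert_tree lc_g_rc_27_3 lc_g_rc_21_2 lc_g_Cert_tree lc_g_Cert_tree) (@D3.rec (fun _ => (Cert rels S Gen.g))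 lc_g_rc_21_3 lc_g_Cert_tree lc_g_rc_21_2 lc_g_rc_21_3 lc_g_Cert_tree lc_g_rc_21_2 lc_g_rc_21_3 lc_g_Cert_tree lc_g_rc_23_1 lc_g_Cert_tree lc_g_rc_21_2 lc_g_rc_21_3 lc_g_Cert_tree lc_g_rc_21_2 lc_g_rc_23_9 lc_g_rc_24_3 lc_g_rc_23_1 lc_g_Cert_tree lc_g_Cert_tree lc_g_rc_27_6 lc_g_rc_21_3 lc_g_Cert_tree lc_g_rc_21_2 lc_g_rc_27_9 lc_g_Cert_tree lc_g_rc_26_0 lc_g_rc_26_6 lc_g_rc_27_9 lc_g_Cert_tree lc_g_Cert_tree lc_g_rc_21_3 lc_g_rc_21_2 lc_g_Cert_tree lc_g_rc_23_3 lc_g_rc_21_2 lc_g_rc_24_1 lc_g_Cert_tree lc_g_Cert_tree lc_g_Cert_tree lc_g_rc_21_2 lc_g_rc_27_3 lc_g_rc_26_6 lc_g_Cert_tree lc_g_rc_24_3 lc_g_rc_24_3 lc_g_Cert_tree lc_g_rc_21_3 lc_g_Cert_tree lc_g_rc_21_2 lc_g_Cert_tree lc_g_Cert_tree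 lc_g_Cert_tree lc_g_rc_21_3 lc_g_Cert_tree lc_g_rc_21_2 lc_g_Cert_tree lc_g_rc_26_6 lc_g_rc_26_3 lc_g_Cert_tree lc_g_rc_23_1 lc_g_Cert_tree lc_g_rc_21_3) (@D3.rec (fun _ => (Cert rels S Gen.g)) lc_g_rc_21_2 lc_g_Cert_tree lc_g_rc_21_2 lc_g_Cert_tree lc_g_rc_21_3 lc_g_rc_21_2 lc_g_rc_21_3 lc_g_Cert_tree lc_g_rc_21_2 lc_g_Cert_tree lc_g_Cert_tree lc_g_rc_23_9 lc_g_Cert_tree lc_g_Cert_tree lc_g_rc_21_2 lc_g_Cert_tree lc_g_Cert_tree lc_g_rc_24_3 lc_g_Cert_tree lc_g_rc_21_3 lc_g_rc_21_2 lc_g_Cert_tree lc_g_rc_24_1 lc_g_rc_26_3 lc_g_Cert_tree lc_g_rc_23_9 lc_g_rc_23_3 lc_g_Cert_tree lc_g_Cert_tree lc_g_rc_27_6 lc_g_Cert_tree lc_g_rc_23_1 lc_g_rc_21_3 lc_g_Cert_tree lc_g_Cert_tree lc_g_rc_21_2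 lc_g_Cert_tree lc_g_Cert_tree lc_g_rc_21_2 lc_g_rc_21_3 lc_g_Cert_tree lc_g_rc_21_2 lc_g_rc_26_6 lc_g_Cert_tree lc_g_Cert_tree lc_g_rc_21_2 lc_g_rc_21_3 lc_g_Cert_tree lc_g_rc_21_2 lc_g_rc_27_3 lc_g_Cert_tree lc_g_Cert_tree lc_g_Cert_tree lc_g_Cert_tree lc_g_rc_21_3 lc_g_rc_21_2 lc_g_Cert_tree lc_g_Cert_tree lc_g_Cert_tree lc_g_rc_23_9 lc_g_rc_27_0 lc_g_rc_27_0) (@D3.rec (fun _ => (Cert rels S Gen.g)) lc_g_Cert_tree lc_g_rc_27_9 lc_g_rc_24_1 lc_g_rc_21_2 lc_g_rc_23_9 lc_g_rc_23_1 lc_g_rc_21_3 lc_g_rc_27_0 lc_g_rc_21_2 lc_g_rc_21_3 lc_g_Cert_tree lc_g_rc_24_3 lc_g_Cert_tree lc_g_rc_21_2 lc_g_rc_21_2 lc_g_rc_24_1 lc_g_Cert_tree lc_g_rc_21_2 lc_g_Cert_tree lc_g_Cert_tree lc_g_Cert_tree lc_g_rc_21_3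 lc_g_Cert_tree lc_g_rc_21_2 lc_g_Cert_tree lc_g_rc_21_2 lc_g_rc_27_6 lc_g_Cert_tree lc_g_rc_21_2 lc_g_rc_21_3 lc_g_Cert_tree lc_g_rc_21_2 lc_g_Cert_tree lc_g_Cert_tree lc_g_rc_23_1 lc_g_rc_21_3 lc_g_rc_23_3 lc_g_Cert_tree lc_g_rc_24_1 lc_g_rc_21_3 lc_g_Cert_tree lc_g_rc_24_9 lc_g_rc_27_0 lc_g_rc_27_0 lc_g_Cert_tree lc_g_rc_23_3 lc_g_rc_21_2 lc_g_rc_21_2 lc_g_rc_21_3 lc_g_Cert_tree lc_g_rc_21_2 lc_g_rc_21_3 lc_g_Cert_tree lc_g_rc_21_2 lc_g_Cert_tree lc_g_Cert_tree lc_g_rc_21_3 lc_g_Cert_tree lc_g_rc_26_6 lc_g_Cert_tree lc_g_rc_21_2 lc_g_rc_21_3) (@D3.rec (fun _ => (Cert rels S Gen.g)) lc_g_Cert_tree lc_g_rc_21_2 lc_g_Cert_tree lc_g_rc_21_2 lc_g_Cert_tree lc_g_rc_21_2 lc_g_rc_26_3 lc_g_rc_21_2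 lc_g_Cert_tree lc_g_rc_21_2 lc_g_Cert_tree lc_g_rc_21_3 lc_g_Cert_tree lc_g_rc_21_2 lc_g_Cert_tree lc_g_rc_23_9 lc_g_rc_27_6 lc_g_Cert_tree lc_g_rc_23_7 lc_g_rc_24_9 lc_g_Cert_tree lc_g_Cert_tree lc_g_rc_21_3 lc_g_Cert_tree lc_g_rc_26_6 lc_g_rc_21_3 lc_g_Cert_tree lc_g_rc_21_2 lc_g_Cert_tree lc_g_rc_21_2 lc_g_Cert_tree lc_g_rc_21_3 lc_g_Cert_tree lc_g_Cert_tree lc_g_Cert_tree lc_g_rc_21_3 lc_g_Cert_tree lc_g_rc_27_0 lc_g_Cert_tree lc_g_rc_21_2 lc_g_rc_24_1 lc_g_Cert_tree lc_g_Cert_tree lc_g_rc_21_3 lc_g_rc_21_3 lc_g_rc_27_3 lc_g_Cert_tree lc_g_rc_23_3 lc_g_rc_24_3 lc_g_Cert_tree lc_g_rc_23_3 lc_g_Cert_tree lc_g_rc_21_3 lc_g_Cert_tree lc_g_rc_21_2 lc_g_Cert_tree lc_g_rc_23_7 lc_g_rc_23_1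 lc_g_rc_21_3 lc_g_Cert_tree lc_g_rc_27_0 lc_g_Cert_tree) (@D3.rec (fun _ => (Cert rels S Gen.g)) lc_g_rc_21_2 lc_g_Cert_tree lc_g_rc_24_1 lc_g_rc_27_6 lc_g_Cert_tree lc_g_Cert_tree lc_g_rc_24_3 lc_g_Cert_tree lc_g_rc_26_0 lc_g_Cert_tree lc_g_rc_21_2 lc_g_Cert_tree lc_g_rc_23_3 lc_g_rc_21_2 lc_g_rc_23_1 lc_g_rc_26_3 lc_g_Cert_tree lc_g_Cert_tree lc_g_Cert_tree lc_g_rc_21_2 lc_g_rc_23_1 lc_g_rc_26_3 lc_g_Cert_tree lc_g_rc_27_0 lc_g_Cert_tree lc_g_rc_21_2 lc_g_Cert_tree lc_g_rc_27_6 lc_g_rc_21_3 lc_g_Cert_tree lc_g_rc_21_2 lc_g_rc_26_6 lc_g_rc_21_3 lc_g_Cert_tree lc_g_Cert_tree lc_g_rc_21_2 lc_g_rc_27_6 lc_g_rc_27_9 lc_g_rc_27_6 lc_g_rc_27_9 lc_g_rc_21_3 lc_g_Cert_tree lc_g_Cert_tree lc_g_rc_21_2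 lc_g_Cert_tree lc_g_rc_27_6 lc_g_Cert_tree lc_g_rc_27_6 lc_g_rc_26_0 lc_g_Cert_tree lc_g_rc_21_3 lc_g_rc_21_3 lc_g_rc_21_3 lc_g_Cert_tree lc_g_Cert_tree lc_g_rc_21_2 lc_g_rc_21_3 lc_g_Cert_tree lc_g_rc_21_2 lc_g_Cert_tree lc_g_Cert_tree lc_g_rc_21_2) (@D3.rec (fun _ => (Cert rels S Gen.g)) lc_g_rc_26_9 lc_g_rc_27_3 lc_g_rc_24_1 lc_g_rc_27_6 lc_g_rc_21_3 lc_g_Cert_tree lc_g_rc_21_2 lc_g_rc_21_2 lc_g_Cert_tree lc_g_rc_23_7 lc_g_rc_21_2 lc_g_Cert_tree lc_g_rc_23_3 lc_g_Cert_tree lc_g_Cert_tree lc_g_rc_21_2 lc_g_rc_21_3 lc_g_Cert_tree lc_g_rc_21_2 lc_g_rc_27_3 lc_g_rc_21_3 lc_g_Cert_tree lc_g_Cert_tree lc_g_rc_21_2 lc_g_rc_21_3 lc_g_rc_23_1 lc_g_Cert_tree lc_g_rc_27_6 lc_g_rc_27_6 lc_g_rc_27_3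 lc_g_Cert_tree lc_g_rc_27_6 lc_g_rc_21_2 lc_g_Cert_tree lc_g_Cert_tree lc_g_rc_23_7 lc_g_Cert_tree lc_g_rc_21_3 lc_g_Cert_tree lc_g_rc_21_2 lc_g_rc_21_3 lc_g_Cert_tree lc_g_rc_21_2 lc_g_rc_21_3 lc_g_rc_21_3 lc_g_Cert_tree lc_g_Cert_tree lc_g_rc_21_2 lc_g_rc_27_6 lc_g_rc_21_3 lc_g_rc_23_9 lc_g_rc_27_9 lc_g_rc_21_3 lc_g_rc_27_3 lc_g_rc_21_3 lc_g_Cert_tree lc_g_rc_21_2 lc_g_Cert_tree lc_g_Cert_tree lc_g_rc_21_2 lc_g_rc_21_3 lc_g_Cert_tree) (@D3.rec (fun _ => (Cert rels S Gen.g)) lc_g_rc_21_2 lc_g_Cert_tree lc_g_Cert_tree lc_g_Cert_tree lc_g_rc_21_2 lc_g_rc_21_2 lc_g_rc_21_2 lc_g_rc_26_6 lc_g_Cert_tree lc_g_rc_21_3 lc_g_Cert_tree lc_g_rc_26_0 lc_g_Cert_tree lc_g_rc_21_2 lc_g_rc_26_6 lc_g_rc_26_3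 lc_g_rc_21_2 lc_g_rc_21_3 lc_g_Cert_tree lc_g_rc_21_2 lc_g_Cert_tree lc_g_Cert_tree lc_g_rc_21_3 lc_g_Cert_tree lc_g_rc_21_2 lc_g_rc_21_3 lc_g_Cert_tree lc_g_Cert_tree lc_g_rc_27_6 lc_g_Cert_tree lc_g_rc_27_9 lc_g_rc_27_3 lc_g_rc_27_6 lc_g_rc_27_3 lc_g_rc_23_9 lc_g_Cert_tree lc_g_Cert_tree lc_g_rc_27_0 lc_g_Cert_tree lc_g_rc_21_2 lc_g_rc_27_6 lc_g_Cert_tree lc_g_rc_27_6 lc_g_Cert_tree lc_g_rc_24_1 lc_g_rc_21_3 lc_g_Cert_tree lc_g_rc_21_2 lc_g_Cert_tree lc_g_Cert_tree lc_g_rc_21_2 lc_g_rc_21_3 lc_g_rc_23_1 lc_g_rc_23_9 lc_g_rc_23_1 lc_g_rc_27_0 lc_g_rc_27_9 lc_g_Cert_tree lc_g_rc_27_6 lc_g_rc_23_3 lc_g_rc_24_1 lc_g_rc_24_9) (@D3.rec (fun _ => (Cert rels S Gen.g)) lc_g_Cert_tree lc_g_Cert_tree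 lc_g_Cert_tree lc_g_rc_21_3 lc_g_rc_21_2 lc_g_rc_21_3 lc_g_Cert_tree lc_g_rc_21_2 lc_g_Cert_tree lc_g_rc_24_1 lc_g_rc_21_2 lc_g_Cert_tree lc_g_rc_26_9 lc_g_rc_27_9 lc_g_rc_27_6 lc_g_rc_27_6 lc_g_rc_23_1 lc_g_rc_21_3 lc_g_Cert_tree lc_g_rc_21_2 lc_g_rc_21_2 lc_g_Cert_tree lc_g_rc_24_9 lc_g_rc_21_3 lc_g_Cert_tree lc_g_rc_21_2 lc_g_Cert_tree lc_g_rc_21_2 lc_g_rc_23_9 lc_g_rc_27_6 lc_g_Cert_tree lc_g_rc_21_2 lc_g_rc_21_2 lc_g_rc_27_3 lc_g_rc_23_7 lc_g_rc_27_3 lc_g_Cert_tree lc_g_Cert_tree lc_g_Cert_tree lc_g_rc_21_2 lc_g_Cert_tree lc_g_rc_24_7 lc_g_rc_21_3 lc_g_Cert_tree lc_g_rc_21_2 lc_g_rc_21_2 lc_g_rc_26_3 lc_g_Cert_tree lc_g_Cert_tree lc_g_Cert_tree lc_g_Cert_tree lc_g_rc_23_7 lc_g_rc_26_3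 lc_g_rc_26_3 lc_g_rc_21_3 lc_g_rc_24_7 lc_g_rc_24_9 lc_g_Cert_tree lc_g_rc_21_2 lc_g_rc_21_2 lc_g_rc_21_2 lc_g_rc_21_2) (@D3.rec (fun _ => (Cert rels S Gen.g)) lc_g_Cert_tree lc_g_rc_26_3 lc_g_Cert_tree lc_g_Cert_tree lc_g_rc_26_3 lc_g_rc_27_6 lc_g_Cert_tree lc_g_rc_24_7 lc_g_Cert_tree lc_g_rc_23_9 lc_g_Cert_tree lc_g_rc_27_6 lc_g_Cert_tree lc_g_Cert_tree lc_g_rc_27_3 lc_g_rc_21_2 lc_g_rc_23_1 lc_g_rc_24_9 lc_g_Cert_tree lc_g_rc_21_3 lc_g_rc_21_3 lc_g_Cert_tree lc_g_Cert_tree lc_g_rc_24_9 lc_g_Cert_tree lc_g_rc_21_2 lc_g_Cert_tree lc_g_Cert_tree lc_g_Cert_tree lc_g_rc_21_3 lc_g_Cert_tree lc_g_rc_21_2 lc_g_rc_26_3 lc_g_Cert_tree lc_g_rc_23_1 lc_g_Cert_tree lc_g_rc_21_3 lc_g_Cert_tree lc_g_rc_27_6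 lc_g_rc_26_6 lc_g_Cert_tree lc_g_rc_21_2 lc_g_Cert_tree lc_g_rc_23_7 lc_g_rc_24_3 lc_g_rc_21_3 lc_g_Cert_tree lc_g_rc_21_2 lc_g_Cert_tree lc_g_rc_23_7 lc_g_Cert_tree lc_g_rc_21_3 lc_g_Cert_tree lc_g_rc_21_3 lc_g_Cert_tree lc_g_rc_21_2 lc_g_rc_23_9 lc_g_rc_27_9 lc_g_rc_27_0 lc_g_rc_27_0 lc_g_Cert_tree lc_g_rc_21_2) (@D3.rec (fun _ => (Cert rels S Gen.g)) lc_g_rc_21_2 lc_g_rc_21_3 lc_g_rc_21_3 lc_g_Cert_tree lc_g_rc_21_2 lc_g_rc_24_1 lc_g_rc_21_3 lc_g_rc_21_2 lc_g_rc_21_3 lc_g_Cert_tree lc_g_Cert_tree lc_g_rc_21_3 lc_g_rc_21_3 lc_g_rc_27_6 lc_g_Cert_tree lc_g_rc_21_2 lc_g_rc_21_2 lc_g_rc_21_2 lc_g_rc_21_3 lc_g_Cert_tree lc_g_rc_26_0 lc_g_rc_24_1 lc_g_rc_27_6 lc_g_rc_26_3 lc_g_rc_24_7 lc_g_rc_27_3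 lc_g_rc_27_0 lc_g_Cert_tree lc_g_Cert_tree lc_g_rc_23_7 lc_g_Cert_tree lc_g_rc_21_3 lc_g_rc_27_6 lc_g_rc_27_3 lc_g_rc_21_3 lc_g_Cert_tree lc_g_rc_21_3 lc_g_Cert_tree lc_g_rc_26_3 lc_g_rc_23_7 lc_g_rc_21_3 lc_g_Cert_tree lc_g_Cert_tree lc_g_rc_26_6 lc_g_Cert_tree lc_g_Cert_tree lc_g_rc_26_3 lc_g_rc_26_6 lc_g_Cert_tree lc_g_rc_23_3 lc_g_Cert_tree lc_g_Cert_tree lc_g_rc_27_9 lc_g_rc_21_2 lc_g_rc_21_2 lc_g_rc_21_2 lc_g_rc_21_3 lc_g_Cert_tree lc_g_rc_21_3 lc_g_rc_25_19 lc_g_Cert_tree lc_g_Cert_tree) (@D3.rec (fun _ => (Cert rels S Gen.g)) lc_g_rc_23_7 lc_g_Cert_tree lc_g_rc_26_3 lc_g_rc_26_9 lc_g_rc_24_7 lc_g_rc_24_1 lc_g_Cert_tree lc_g_rc_23_3 lc_g_rc_21_2 lc_g_rc_21_2 lc_g_Cert_tree lc_g_rc_26_3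 lc_g_rc_24_1 lc_g_rc_23_3 lc_g_rc_24_9 lc_g_rc_23_7 lc_g_Cert_tree lc_g_rc_24_7 lc_g_rc_21_2 lc_g_rc_23_1 lc_g_rc_24_3 lc_g_Cert_tree lc_g_Cert_tree lc_g_Cert_tree lc_g_Cert_tree lc_g_rc_23_1 lc_g_Cert_tree lc_g_rc_26_0 lc_g_rc_23_9 lc_g_rc_23_7 lc_g_Cert_tree lc_g_rc_26_3 lc_g_rc_21_3 lc_g_Cert_tree lc_g_rc_21_3 lc_g_Cert_tree lc_g_Cert_tree lc_g_rc_21_2 lc_g_Cert_tree lc_g_Cert_tree lc_g_Cert_tree lc_g_rc_21_3 lc_g_Cert_tree lc_g_rc_21_2 lc_g_Cert_tree lc_g_Cert_tree lc_g_rc_24_1 lc_g_Cert_tree lc_g_Cert_tree lc_g_rc_26_6 lc_g_Cert_tree lc_g_Cert_tree lc_g_rc_26_3 lc_g_rc_25_11 lc_g_rc_21_2 lc_g_Cert_tree lc_g_Cert_tree lc_g_rc_21_2 lc_g_Cert_tree lc_g_rc_21_3 lc_g_rc_21_3 lc_g_Cert_tree)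 (@D3.rec (fun _ => (Cert rels S Gen.g)) lc_g_rc_21_2 lc_g_Cert_tree lc_g_rc_23_7 lc_g_rc_26_3 lc_g_rc_21_3 lc_g_Cert_tree lc_g_Cert_tree lc_g_rc_21_3 lc_g_rc_21_2 lc_g_Cert_tree lc_g_rc_21_2 lc_g_rc_23_9 lc_g_Cert_tree lc_g_Cert_tree lc_g_rc_21_3 lc_g_rc_21_3 lc_g_rc_21_3 lc_g_Cert_tree lc_g_rc_21_2 lc_g_rc_21_3 lc_g_rc_24_3 lc_g_Cert_tree lc_g_rc_21_3 lc_g_Cert_tree lc_g_rc_21_2 lc_g_rc_21_3 lc_g_rc_27_9 lc_g_rc_21_2 lc_g_rc_26_3 lc_g_Cert_tree lc_g_Cert_tree lc_g_Cert_tree lc_g_rc_21_3 lc_g_Cert_tree lc_g_rc_21_2 lc_g_Cert_tree lc_g_rc_26_6 lc_g_Cert_tree lc_g_Cert_tree lc_g_rc_27_0 lc_g_Cert_tree lc_g_rc_21_3 lc_g_Cert_tree lc_g_rc_21_2 lc_g_rc_21_2 lc_g_rc_26_0 lc_g_rc_21_2 lc_g_rc_26_3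 lc_g_rc_26_0 lc_g_rc_24_9 lc_g_Cert_tree lc_g_rc_24_9 lc_g_rc_27_0 lc_g_rc_26_3 lc_g_Cert_tree lc_g_Cert_tree lc_g_Cert_tree lc_g_rc_27_3 lc_g_rc_21_2 lc_g_rc_27_3 lc_g_rc_21_2 lc_g_rc_21_3) (@D3.rec (fun _ => (Cert rels S Gen.g)) lc_g_Cert_tree lc_g_rc_24_1 lc_g_Cert_tree lc_g_rc_24_9 lc_g_Cert_tree lc_g_rc_26_6 lc_g_Cert_tree lc_g_Cert_tree lc_g_Cert_tree lc_g_rc_23_3 lc_g_Cert_tree lc_g_Cert_tree lc_g_rc_21_3 lc_g_Cert_tree lc_g_rc_21_3 lc_g_Cert_tree lc_g_rc_21_2 lc_g_Cert_tree lc_g_rc_21_2 lc_g_rc_27_6 lc_g_Cert_tree lc_g_rc_21_2 lc_g_Cert_tree lc_g_rc_23_7 lc_g_rc_26_3 lc_g_Cert_tree lc_g_rc_23_7 lc_g_rc_26_3 lc_g_Cert_tree lc_g_Cert_tree lc_g_rc_23_3 lc_g_rc_26_0 lc_g_rc_25_3 lc_g_rc_21_3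 lc_g_Cert_tree lc_g_rc_23_3 lc_g_Cert_tree lc_g_rc_21_2 lc_g_rc_21_2 lc_g_rc_24_1 lc_g_rc_27_6 lc_g_rc_26_0 lc_g_rc_26_6 lc_g_Cert_tree lc_g_Cert_tree lc_g_rc_26_3 lc_g_rc_21_2 lc_g_rc_24_1 lc_g_Cert_tree lc_g_rc_24_1 lc_g_rc_23_9 lc_g_rc_21_2 lc_g_Cert_tree lc_g_rc_27_3 lc_g_rc_21_2 lc_g_rc_26_6 lc_g_Cert_tree lc_g_rc_21_3 lc_g_Cert_tree lc_g_rc_21_3 lc_g_rc_27_3 lc_g_Cert_tree) (@D3.rec (fun _ => (Cert rels S Gen.g)) lc_g_rc_23_7 lc_g_Cert_tree lc_g_rc_21_3 lc_g_Cert_tree lc_g_rc_21_2 lc_g_Cert_tree lc_g_rc_23_9 lc_g_rc_26_3 lc_g_Cert_tree lc_g_rc_23_9 lc_g_rc_21_3 lc_g_Cert_tree lc_g_Cert_tree lc_g_rc_21_3 lc_g_Cert_tree lc_g_rc_21_2 lc_g_rc_21_3 lc_g_Cert_tree lc_g_rc_23_3 lc_g_Cert_tree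 lc_g_rc_21_2 lc_g_rc_21_2 lc_g_rc_26_3 lc_g_rc_27_6 lc_g_rc_24_7 lc_g_rc_26_6 lc_g_rc_21_3 lc_g_Cert_tree lc_g_rc_24_3 lc_g_Cert_tree lc_g_Cert_tree lc_g_rc_21_2 lc_g_Cert_tree lc_g_rc_23_3 lc_g_rc_26_3 lc_g_rc_27_3 lc_g_rc_24_9 lc_g_rc_24_7 lc_g_Cert_tree lc_g_rc_23_9 lc_g_Cert_tree lc_g_Cert_tree lc_g_rc_24_1 lc_g_Cert_tree lc_g_rc_24_1 lc_g_Cert_tree lc_g_rc_27_6 lc_g_rc_21_2 lc_g_Cert_tree lc_g_rc_24_7 lc_g_rc_21_2 lc_g_Cert_tree lc_g_rc_23_7 lc_g_rc_26_3 lc_g_rc_23_3 lc_g_Cert_tree lc_g_rc_21_3 lc_g_Cert_tree lc_g_rc_27_3 lc_g_rc_21_3 lc_g_Cert_tree lc_g_rc_27_3) (@D3.rec (fun _ => (Cert rels S Gen.g)) lc_g_rc_21_2 lc_g_Cert_tree lc_g_Cert_tree lc_g_rc_21_3 lc_g_rc_21_2 lc_g_rc_27_3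 lc_g_Cert_tree lc_g_rc_27_0 lc_g_rc_21_2 lc_g_rc_26_0 lc_g_Cert_tree lc_g_rc_27_6 lc_g_Cert_tree lc_g_rc_27_6 lc_g_rc_21_3 lc_g_Cert_tree lc_g_rc_21_2 lc_g_Cert_tree lc_g_rc_21_3 lc_g_Cert_tree lc_g_rc_27_6 lc_g_Cert_tree lc_g_rc_21_2 lc_g_rc_21_3 lc_g_rc_21_3 lc_g_rc_27_6 lc_g_Cert_tree lc_g_rc_23_7 lc_g_rc_26_9 lc_g_Cert_tree lc_g_rc_23_1 lc_g_rc_27_6 lc_g_rc_21_3 lc_g_Cert_tree lc_g_rc_26_3 lc_g_Cert_tree lc_g_Cert_tree lc_g_rc_23_3 lc_g_Cert_tree lc_g_Cert_tree lc_g_rc_21_3 lc_g_Cert_tree lc_g_Cert_tree lc_g_rc_21_2 lc_g_Cert_tree lc_g_rc_27_9 lc_g_rc_26_9 lc_g_rc_27_0 lc_g_rc_21_3 lc_g_Cert_tree lc_g_rc_21_2 lc_g_Cert_tree lc_g_Cert_tree lc_g_rc_24_1 lc_g_rc_27_6 lc_g_rc_23_9 lc_g_rc_27_3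 lc_g_rc_26_3 lc_g_rc_27_6 lc_g_rc_27_6 lc_g_rc_23_7 lc_g_Cert_tree) (@D3.rec (fun _ => (Cert rels S Gen.g)) lc_g_rc_21_3 lc_g_Cert_tree lc_g_rc_21_3 lc_g_Cert_tree lc_g_rc_21_2 lc_g_rc_24_9 lc_g_rc_26_0 lc_g_Cert_tree lc_g_rc_26_3 lc_g_rc_21_3 lc_g_Cert_tree lc_g_Cert_tree lc_g_rc_24_9 lc_g_rc_26_3 lc_g_rc_21_3 lc_g_Cert_tree lc_g_rc_21_2 lc_g_Cert_tree lc_g_Cert_tree lc_g_Cert_tree lc_g_rc_21_2 lc_g_Cert_tree lc_g_Cert_tree lc_g_rc_24_3 lc_g_Cert_tree lc_g_rc_27_6 lc_g_rc_21_3 lc_g_Cert_tree lc_g_Cert_tree lc_g_rc_21_2 lc_g_Cert_tree lc_g_rc_23_7 lc_g_Cert_tree lc_g_rc_23_7 lc_g_rc_27_6 lc_g_rc_27_3 lc_g_Cert_tree lc_g_Cert_tree lc_g_rc_26_9 lc_g_Cert_tree lc_g_rc_21_3 lc_g_Cert_tree lc_g_rc_24_3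 lc_g_Cert_tree lc_g_Cert_tree lc_g_rc_23_1 lc_g_Cert_tree lc_g_Cert_tree lc_g_rc_24_3 lc_g_Cert_tree lc_g_Cert_tree lc_g_rc_21_2 lc_g_rc_23_9 lc_g_rc_24_7 lc_g_rc_27_0 lc_g_rc_23_1 lc_g_rc_27_9 lc_g_rc_27_6 lc_g_rc_21_2 lc_g_Cert_tree lc_g_rc_24_3 lc_g_Cert_tree) (@D3.rec (fun _ => (Cert rels S Gen.g)) lc_g_rc_21_3 lc_g_Cert_tree lc_g_rc_27_6 lc_g_rc_27_3 lc_g_rc_21_3 lc_g_Cert_tree lc_g_rc_21_2 lc_g_Cert_tree lc_g_Cert_tree lc_g_Cert_tree lc_g_rc_26_3 lc_g_Cert_tree lc_g_Cert_tree lc_g_rc_24_7 lc_g_rc_26_9 lc_g_rc_27_0 lc_g_rc_26_3 lc_g_Cert_tree lc_g_Cert_tree lc_g_rc_27_3 lc_g_rc_21_3 lc_g_Cert_tree lc_g_rc_21_2 lc_g_Cert_tree lc_g_Cert_tree lc_g_Cert_tree lc_g_Cert_tree lc_g_rc_21_3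 lc_g_Cert_tree lc_g_Cert_tree lc_g_Cert_tree lc_g_rc_21_2 lc_g_rc_21_3 lc_g_Cert_tree lc_g_rc_21_2 lc_g_Cert_tree lc_g_Cert_tree lc_g_Cert_tree lc_g_Cert_tree lc_g_rc_26_3 lc_g_rc_21_2 lc_g_rc_26_6 lc_g_Cert_tree lc_g_Cert_tree lc_g_Cert_tree lc_g_Cert_tree lc_g_rc_23_7 lc_g_Cert_tree lc_g_rc_21_3 lc_g_Cert_tree lc_g_Cert_tree lc_g_rc_27_6 lc_g_rc_27_6 lc_g_Cert_tree lc_g_rc_25_11 lc_g_Cert_tree lc_g_rc_21_2 lc_g_Cert_tree lc_g_Cert_tree lc_g_rc_27_6 lc_g_rc_21_3 lc_g_Cert_tree) (@D3.rec (fun _ => (Cert rels S Gen.g)) lc_g_rc_21_2 lc_g_rc_27_6 lc_g_rc_21_3 lc_g_Cert_tree lc_g_rc_26_3 lc_g_rc_26_3 lc_g_Cert_tree lc_g_rc_27_3 lc_g_rc_21_3 lc_g_rc_26_9 lc_g_rc_27_6 lc_g_rc_27_6 lc_g_Cert_tree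 lc_g_Cert_tree lc_g_rc_21_3 lc_g_Cert_tree lc_g_rc_21_2 lc_g_Cert_tree lc_g_rc_21_3 lc_g_Cert_tree lc_g_rc_21_2 lc_g_rc_21_2 lc_g_rc_21_2 lc_g_rc_26_9 lc_g_rc_21_2 lc_g_Cert_tree lc_g_rc_21_2 lc_g_rc_21_3 lc_g_Cert_tree lc_g_rc_21_2 lc_g_rc_23_1 lc_g_rc_23_3 lc_g_Cert_tree lc_g_rc_21_3 lc_g_rc_21_2 lc_g_Cert_tree lc_g_rc_24_3 lc_g_rc_27_6 lc_g_Cert_tree lc_g_rc_21_2 lc_g_Cert_tree lc_g_rc_23_7 lc_g_rc_26_9 lc_g_Cert_tree lc_g_rc_23_3 lc_g_rc_27_6 lc_g_rc_21_3 lc_g_Cert_tree lc_g_rc_21_2 lc_g_Cert_tree lc_g_rc_24_3 lc_g_rc_21_3 lc_g_Cert_tree lc_g_Cert_tree lc_g_rc_21_3 lc_g_Cert_tree lc_g_Cert_tree lc_g_rc_21_2 lc_g_rc_26_6 lc_g_Cert_tree lc_g_rc_27_6 lc_g_rc_27_3) (@D3.rec (fun _ => (Cert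 rels S Gen.g)) lc_g_rc_21_3 lc_g_Cert_tree lc_g_rc_21_2 lc_g_Cert_tree lc_g_rc_21_2 lc_g_rc_26_3 lc_g_rc_23_3 lc_g_Cert_tree lc_g_rc_26_9 lc_g_rc_23_1 lc_g_Cert_tree lc_g_rc_27_6 lc_g_Cert_tree lc_g_rc_23_3 lc_g_rc_21_2 lc_g_rc_26_6 lc_g_rc_23_3 lc_g_rc_26_9 lc_g_Cert_tree lc_g_rc_21_3 lc_g_rc_27_6 lc_g_Cert_tree lc_g_rc_23_3 lc_g_rc_21_2 lc_g_rc_21_3 lc_g_Cert_tree lc_g_rc_21_2 lc_g_rc_26_6 lc_g_rc_23_3 lc_g_Cert_tree lc_g_rc_23_3 lc_g_Cert_tree lc_g_rc_26_3 lc_g_Cert_tree lc_g_rc_21_3 lc_g_rc_21_2 lc_g_rc_21_3 lc_g_Cert_tree lc_g_Cert_tree lc_g_rc_21_2 lc_g_Cert_tree lc_g_rc_23_3 lc_g_rc_21_2 lc_g_rc_26_0 lc_g_rc_23_3 lc_g_rc_26_0 lc_g_rc_26_6 lc_g_rc_21_3 lc_g_Cert_tree lc_g_Cert_tree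 lc_g_rc_27_3 lc_g_rc_21_2 lc_g_rc_21_3 lc_g_Cert_tree lc_g_rc_21_2 lc_g_Cert_tree lc_g_rc_23_9 lc_g_Cert_tree lc_g_rc_21_3 lc_g_Cert_tree lc_g_rc_21_2 lc_g_Cert_tree) (@D3.rec (fun _ => (Cert rels S Gen.g)) lc_g_rc_26_3 lc_g_Cert_tree lc_g_rc_21_3 lc_g_Cert_tree lc_g_rc_21_2 lc_g_Cert_tree lc_g_rc_21_3 lc_g_rc_23_3 lc_g_Cert_tree lc_g_Cert_tree lc_g_rc_21_3 lc_g_Cert_tree lc_g_Cert_tree lc_g_rc_21_2 lc_g_rc_27_0 lc_g_Cert_tree lc_g_rc_27_0 lc_g_rc_27_9 lc_g_rc_23_9 lc_g_rc_27_3 lc_g_rc_27_6 lc_g_rc_26_9 lc_g_rc_27_0 lc_g_rc_26_0 lc_g_rc_24_7 lc_g_rc_23_3 lc_g_rc_26_3 lc_g_rc_27_0 lc_g_rc_27_6 lc_g_rc_21_2 lc_g_rc_27_6 lc_g_Cert_tree lc_g_rc_23_9 lc_g_Cert_tree lc_g_rc_21_3 lc_g_rc_21_2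 lc_g_Cert_tree lc_g_Cert_tree lc_g_rc_26_3 lc_g_rc_21_3 lc_g_Cert_tree lc_g_rc_21_2 lc_g_Cert_tree lc_g_rc_23_7 lc_g_Cert_tree lc_g_rc_21_2 lc_g_Cert_tree lc_g_rc_21_3 lc_g_Cert_tree lc_g_Cert_tree lc_g_rc_27_0 lc_g_Cert_tree lc_g_rc_27_0 lc_g_rc_27_3 lc_g_rc_23_1 lc_g_Cert_tree lc_g_rc_24_7 lc_g_rc_27_6 lc_g_rc_26_3 lc_g_rc_21_2 lc_g_rc_26_9 lc_g_rc_27_0) (@D3.rec (fun _ => (Cert rels S Gen.g)) lc_g_rc_26_9 lc_g_rc_23_9 lc_g_rc_21_2 lc_g_rc_21_3 lc_g_Cert_tree lc_g_rc_24_3 lc_g_rc_21_2 lc_g_rc_26_0 lc_g_rc_21_3 lc_g_rc_21_2 lc_g_rc_27_6 lc_g_Cert_tree lc_g_rc_26_3 lc_g_rc_26_3 lc_g_Cert_tree lc_g_rc_21_3 lc_g_Cert_tree lc_g_rc_26_6 lc_g_Cert_tree lc_g_rc_27_6 lc_g_rc_21_2 lc_g_rc_21_3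 lc_g_rc_24_3 lc_g_rc_23_1 lc_g_rc_21_3 lc_g_rc_21_3 lc_g_rc_27_6 lc_g_rc_23_1 lc_g_rc_26_0 lc_g_rc_21_3 lc_g_rc_21_2 lc_g_rc_27_6 lc_g_rc_21_2 lc_g_rc_21_2 lc_g_rc_21_2 lc_g_rc_26_9 lc_g_rc_26_0 lc_g_rc_26_9 lc_g_rc_23_3 lc_g_rc_21_3 lc_g_Cert_tree lc_g_Cert_tree lc_g_Cert_tree lc_g_rc_21_3 lc_g_Cert_tree lc_g_rc_21_3 lc_g_Cert_tree lc_g_rc_23_3 lc_g_rc_26_9 lc_g_Cert_tree lc_g_rc_27_9 lc_g_rc_27_6 lc_g_rc_26_3 lc_g_rc_24_3 lc_g_rc_24_1 lc_g_Cert_tree lc_g_rc_23_9 lc_g_rc_24_1 lc_g_Cert_tree lc_g_rc_27_6 lc_g_rc_21_2 lc_g_Cert_tree) (@D3.rec (fun _ => (Cert rels S Gen.g)) lc_g_rc_23_7 lc_g_Cert_tree lc_g_rc_21_3 lc_g_Cert_tree lc_g_rc_21_2 lc_g_rc_23_1 lc_g_rc_21_3 lc_g_Cert_tree lc_g_rc_21_2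 lc_g_rc_26_6 lc_g_Cert_tree lc_g_rc_23_7 lc_g_Cert_tree lc_g_rc_21_3 lc_g_Cert_tree lc_g_rc_21_2 lc_g_rc_23_7 lc_g_rc_27_6 lc_g_rc_25_7 lc_g_rc_23_9 lc_g_rc_27_6 lc_g_Cert_tree lc_g_rc_24_1 lc_g_Cert_tree lc_g_rc_24_1 lc_g_rc_21_2 lc_g_Cert_tree lc_g_rc_21_3 lc_g_rc_27_6 lc_g_rc_27_6 lc_g_Cert_tree lc_g_rc_26_3 lc_g_rc_21_3 lc_g_Cert_tree lc_g_rc_23_3 lc_g_Cert_tree lc_g_rc_24_3 lc_g_Cert_tree lc_g_rc_26_6 lc_g_Cert_tree lc_g_rc_27_9 lc_g_rc_26_6 lc_g_rc_24_7 lc_g_rc_21_3 lc_g_rc_27_0 lc_g_rc_26_0 lc_g_Cert_tree lc_g_rc_23_7 lc_g_Cert_tree lc_g_rc_21_3 lc_g_Cert_tree lc_g_rc_21_2 lc_g_rc_21_2 lc_g_rc_26_0 lc_g_rc_21_3 lc_g_Cert_tree lc_g_rc_21_2 lc_g_rc_27_0 lc_g_rc_27_6 lc_g_rc_27_6 lc_g_rc_26_0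 lc_g_rc_27_6) (@D3.rec (fun _ => (Cert rels S Gen.g)) lc_g_rc_27_6 lc_g_rc_27_3 lc_g_Cert_tree lc_g_rc_24_7 lc_g_rc_27_0 lc_g_rc_23_1 lc_g_rc_26_0 lc_g_rc_24_7 lc_g_rc_23_7 lc_g_rc_21_2 lc_g_Cert_tree lc_g_rc_24_3 lc_g_rc_21_2 lc_g_rc_27_6 lc_g_rc_26_3 lc_g_Cert_tree lc_g_rc_21_3 lc_g_rc_27_6 lc_g_Cert_tree lc_g_Cert_tree lc_g_rc_23_3 lc_g_rc_23_1 lc_g_Cert_tree lc_g_rc_24_1 lc_g_Cert_tree lc_g_rc_24_1 lc_g_rc_27_6 lc_g_rc_23_9 lc_g_rc_23_3 lc_g_rc_27_3 lc_g_rc_26_0 lc_g_Cert_tree lc_g_rc_23_9 lc_g_rc_24_1 lc_g_rc_21_3 lc_g_rc_21_2 lc_g_rc_27_0 lc_g_rc_21_3 lc_g_rc_24_9 lc_g_rc_21_2 lc_g_rc_21_2 lc_g_rc_26_9 lc_g_rc_21_2 lc_g_rc_27_6 lc_g_rc_21_2 lc_g_rc_26_3 lc_g_Cert_tree lc_g_rc_23_3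 lc_g_rc_21_3 lc_g_Cert_tree lc_g_rc_21_2 lc_g_rc_21_3 lc_g_rc_21_2 lc_g_rc_26_0 lc_g_rc_23_7 lc_g_rc_23_1 lc_g_rc_27_9 lc_g_rc_21_3 lc_g_Cert_tree lc_g_rc_21_3 lc_g_Cert_tree lc_g_Cert_tree) (@D3.rec (fun _ => (Cert rels S Gen.g)) lc_g_Cert_tree lc_g_rc_21_2 lc_g_Cert_tree lc_g_rc_24_7 lc_g_rc_21_3 lc_g_Cert_tree lc_g_rc_21_2 lc_g_Cert_tree lc_g_rc_21_3 lc_g_rc_21_3 lc_g_Cert_tree lc_g_Cert_tree lc_g_Cert_tree lc_g_rc_23_3 lc_g_rc_21_2 lc_g_rc_21_2 lc_g_rc_21_3 lc_g_Cert_tree lc_g_Cert_tree lc_g_rc_23_9 lc_g_rc_23_3 lc_g_rc_21_2 lc_g_rc_26_6 lc_g_rc_24_9 lc_g_Cert_tree lc_g_rc_23_7 lc_g_Cert_tree lc_g_Cert_tree lc_g_rc_26_6 lc_g_Cert_tree lc_g_rc_23_3 lc_g_rc_26_6 lc_g_rc_24_1 lc_g_Cert_tree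 lc_g_Cert_tree lc_g_Cert_tree lc_g_rc_24_3 lc_g_rc_24_7 lc_g_rc_21_3 lc_g_Cert_tree lc_g_rc_21_2 lc_g_Cert_tree lc_g_rc_26_3 lc_g_rc_27_0 lc_g_rc_26_6 lc_g_rc_21_3 lc_g_rc_26_3 lc_g_Cert_tree lc_g_rc_21_2 lc_g_Cert_tree lc_g_rc_24_1 lc_g_rc_26_3 lc_g_rc_21_3 lc_g_Cert_tree lc_g_rc_27_3 lc_g_rc_21_2 lc_g_Cert_tree lc_g_rc_26_6 lc_g_rc_23_7 lc_g_rc_24_7 lc_g_rc_21_3 lc_g_Cert_tree) (@D3.rec (fun _ => (Cert rels S Gen.g)) lc_g_rc_27_6 lc_g_rc_27_3 lc_g_Cert_tree lc_g_rc_21_2 lc_g_rc_24_3 lc_g_Cert_tree lc_g_Cert_tree lc_g_rc_24_3 lc_g_Cert_tree lc_g_rc_24_3 lc_g_Cert_tree lc_g_rc_21_2 lc_g_Cert_tree lc_g_rc_23_3 lc_g_rc_26_3 lc_g_rc_21_3 lc_g_Cert_tree lc_g_Cert_tree lc_g_rc_21_3 lc_g_Cert_tree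 lc_g_rc_21_3 lc_g_Cert_tree lc_g_rc_21_2 lc_g_Cert_tree lc_g_rc_24_1 lc_g_Cert_tree lc_g_rc_21_3 lc_g_Cert_tree lc_g_rc_21_2 lc_g_Cert_tree lc_g_Cert_tree lc_g_rc_23_7 lc_g_Cert_tree lc_g_rc_25_3 lc_g_Cert_tree lc_g_rc_21_2 lc_g_rc_21_3 lc_g_Cert_tree lc_g_rc_21_2 lc_g_rc_21_3 lc_g_Cert_tree lc_g_Cert_tree lc_g_rc_21_2 lc_g_rc_27_9 lc_g_rc_27_0 lc_g_rc_26_6 lc_g_Cert_tree lc_g_Cert_tree lc_g_rc_21_2 lc_g_Cert_tree lc_g_rc_23_7 lc_g_Cert_tree lc_g_rc_23_9 lc_g_rc_21_2 lc_g_rc_27_6 lc_g_Cert_tree lc_g_rc_21_2 lc_g_rc_21_3 lc_g_Cert_tree lc_g_rc_21_2 lc_g_Cert_tree lc_g_rc_21_3) (@D3.rec (fun _ => (Cert rels S Gen.g)) lc_g_Cert_tree lc_g_Cert_tree lc_g_rc_21_2 lc_g_rc_21_3 lc_g_rc_27_6 lc_g_rc_27_9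 lc_g_rc_27_9 lc_g_Cert_tree lc_g_rc_27_6 lc_g_rc_23_3 lc_g_rc_21_3 lc_g_Cert_tree lc_g_Cert_tree lc_g_rc_23_1 lc_g_rc_27_0 lc_g_rc_26_6 lc_g_rc_21_2 lc_g_rc_26_3 lc_g_rc_26_9 lc_g_rc_26_9 lc_g_rc_21_3 lc_g_Cert_tree lc_g_rc_26_6 lc_g_Cert_tree lc_g_rc_21_2 lc_g_rc_26_3 lc_g_rc_27_6 lc_g_rc_21_2 lc_g_rc_21_3 lc_g_Cert_tree lc_g_Cert_tree lc_g_Cert_tree lc_g_rc_21_3 lc_g_Cert_tree lc_g_rc_21_2 lc_g_Cert_tree lc_g_rc_27_9 lc_g_rc_27_0 lc_g_rc_27_9 lc_g_rc_27_0 lc_g_Cert_tree lc_g_rc_23_9 lc_g_Cert_tree lc_g_rc_21_3 lc_g_Cert_tree lc_g_rc_21_2 lc_g_Cert_tree lc_g_rc_21_2 lc_g_Cert_tree lc_g_rc_21_3 lc_g_Cert_tree lc_g_rc_21_2 lc_g_Cert_tree lc_g_rc_21_2 lc_g_rc_24_9 lc_g_Cert_tree lc_g_rc_23_7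 lc_g_rc_24_3 lc_g_Cert_tree lc_g_Cert_tree lc_g_rc_23_3 lc_g_Cert_tree) (@D3.rec (fun _ => (Cert rels S Gen.g)) lc_g_rc_25_3 lc_g_rc_21_3 lc_g_Cert_tree lc_g_rc_21_2 lc_g_rc_21_2 lc_g_Cert_tree lc_g_rc_21_3 lc_g_Cert_tree lc_g_Cert_tree lc_g_rc_23_3 lc_g_rc_27_3 lc_g_rc_26_6 lc_g_rc_23_1 lc_g_rc_26_3 lc_g_Cert_tree lc_g_rc_21_2 lc_g_rc_27_3 lc_g_rc_21_3 lc_g_rc_21_2 lc_g_Cert_tree lc_g_rc_21_2 lc_g_rc_24_9 lc_g_Cert_tree lc_g_rc_21_2 lc_g_rc_26_3 lc_g_Cert_tree lc_g_Cert_tree lc_g_rc_26_3 lc_g_rc_26_9 lc_g_rc_21_3 lc_g_rc_21_3 lc_g_Cert_tree lc_g_rc_27_3 lc_g_rc_21_2 lc_g_Cert_tree lc_g_rc_23_1 lc_g_Cert_tree lc_g_rc_23_1 lc_g_Cert_tree lc_g_Cert_tree lc_g_rc_21_2 lc_g_Cert_tree lc_g_rc_23_7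 lc_g_Cert_tree lc_g_rc_21_3 lc_g_rc_21_2 lc_g_Cert_tree lc_g_rc_21_3 lc_g_Cert_tree lc_g_rc_23_9 lc_g_Cert_tree lc_g_Cert_tree lc_g_rc_21_2 lc_g_Cert_tree lc_g_rc_21_2 lc_g_Cert_tree lc_g_rc_21_3 lc_g_rc_21_2 lc_g_Cert_tree lc_g_rc_23_7 lc_g_rc_26_9 lc_g_Cert_tree) (@D3.rec (fun _ => (Cert rels S Gen.g)) lc_g_rc_23_7 lc_g_rc_24_7 lc_g_rc_21_3 lc_g_Cert_tree lc_g_rc_21_3 lc_g_Cert_tree lc_g_rc_25_3 lc_g_rc_21_3 lc_g_Cert_tree lc_g_Cert_tree lc_g_rc_21_2 lc_g_Cert_tree lc_g_rc_24_3 lc_g_Cert_tree lc_g_rc_27_3 lc_g_Cert_tree lc_g_rc_27_3 lc_g_rc_24_7 lc_g_rc_23_9 lc_g_rc_27_6 lc_g_Cert_tree lc_g_rc_23_7 lc_g_rc_26_9 lc_g_rc_26_6 lc_g_rc_24_1 lc_g_rc_27_6 lc_g_rc_21_3 lc_g_Cert_tree lc_g_rc_21_2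 lc_g_Cert_tree lc_g_Cert_tree lc_g_rc_24_1 lc_g_Cert_tree lc_g_rc_21_2 lc_g_rc_21_3 lc_g_Cert_tree lc_g_Cert_tree lc_g_rc_26_3 lc_g_Cert_tree lc_g_rc_26_9 lc_g_rc_27_0 lc_g_rc_21_3 lc_g_Cert_tree lc_g_rc_21_2 lc_g_Cert_tree lc_g_rc_21_2 lc_g_rc_27_0 lc_g_rc_27_6 lc_g_Cert_tree lc_g_rc_21_3 lc_g_rc_21_3 lc_g_rc_21_3 lc_g_Cert_tree lc_g_rc_21_2 lc_g_Cert_tree lc_g_rc_26_3 lc_g_rc_27_6 lc_g_rc_27_9 lc_g_rc_21_3 lc_g_Cert_tree lc_g_rc_21_2 lc_g_Cert_tree) (@D3.rec (fun _ => (Cert rels S Gen.g)) lc_g_Cert_tree lc_g_Cert_tree lc_g_rc_21_2 lc_g_Cert_tree lc_g_rc_21_2 lc_g_rc_21_2 lc_g_rc_21_3 lc_g_rc_21_2 lc_g_rc_27_6 lc_g_Cert_tree lc_g_rc_21_2 lc_g_rc_26_6 lc_g_rc_21_3 lc_g_Cert_tree lc_g_rc_21_2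 lc_g_Cert_tree lc_g_Cert_tree lc_g_rc_21_3 lc_g_Cert_tree lc_g_Cert_tree lc_g_rc_21_3 lc_g_Cert_tree lc_g_rc_23_3 lc_g_rc_21_2 lc_g_rc_23_1 lc_g_Cert_tree lc_g_rc_26_3 lc_g_rc_27_9 lc_g_rc_27_9 lc_g_rc_26_3 lc_g_Cert_tree lc_g_rc_21_2 lc_g_rc_23_9 lc_g_rc_21_3 lc_g_Cert_tree lc_g_rc_24_1 lc_g_rc_21_3 lc_g_Cert_tree lc_g_rc_21_2 lc_g_Cert_tree lc_g_rc_25_15 lc_g_Cert_tree lc_g_rc_21_3 lc_g_Cert_tree lc_g_rc_27_9 lc_g_rc_21_2 lc_g_rc_26_3 lc_g_rc_27_0 lc_g_rc_26_9 lc_g_Cert_tree lc_g_rc_27_0 lc_g_rc_21_3 lc_g_Cert_tree lc_g_rc_21_2 lc_g_Cert_tree lc_g_Cert_tree lc_g_Cert_tree lc_g_rc_26_0 lc_g_Cert_tree lc_g_rc_23_1 lc_g_Cert_tree lc_g_rc_23_3) (@D3.rec (fun _ => (Cert rels S Gen.g)) lc_g_rc_26_3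 lc_g_rc_21_3 lc_g_Cert_tree lc_g_rc_26_9 lc_g_Cert_tree lc_g_Cert_tree lc_g_Cert_tree lc_g_Cert_tree lc_g_Cert_tree lc_g_rc_23_7 lc_g_rc_23_9 lc_g_rc_26_6 lc_g_rc_21_3 lc_g_Cert_tree lc_g_rc_25_19 lc_g_rc_21_2 lc_g_rc_21_3 lc_g_Cert_tree lc_g_Cert_tree lc_g_rc_23_1 lc_g_rc_26_6 lc_g_rc_21_2 lc_g_rc_26_6 lc_g_Cert_tree lc_g_Cert_tree lc_g_Cert_tree lc_g_rc_21_3 lc_g_Cert_tree lc_g_rc_21_2 lc_g_Cert_tree lc_g_rc_21_3 lc_g_Cert_tree lc_g_Cert_tree lc_g_rc_27_6 lc_g_rc_27_9 lc_g_rc_27_9 lc_g_rc_27_6 lc_g_rc_26_3 lc_g_rc_27_6 lc_g_rc_27_0 lc_g_rc_26_6 lc_g_rc_25_11 lc_g_rc_23_7 lc_g_Cert_tree lc_g_rc_21_3 lc_g_rc_23_7 lc_g_rc_24_3 lc_g_rc_21_3 lc_g_Cert_tree lc_g_rc_21_2 lc_g_Cert_tree lc_g_rc_25_19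 lc_g_rc_23_7 lc_g_Cert_tree lc_g_rc_21_3 lc_g_Cert_tree lc_g_rc_21_2 lc_g_rc_23_9 lc_g_Cert_tree lc_g_rc_23_7 lc_g_Cert_tree lc_g_Cert_tree) (@D3.rec (fun _ => (Cert rels S Gen.g)) lc_g_rc_21_2 lc_g_Cert_tree lc_g_rc_21_2 lc_g_Cert_tree lc_g_rc_26_3 lc_g_rc_21_3 lc_g_Cert_tree lc_g_rc_21_2 lc_g_Cert_tree lc_g_rc_23_7 lc_g_Cert_tree lc_g_Cert_tree lc_g_rc_24_3 lc_g_Cert_tree lc_g_Cert_tree lc_g_rc_21_3 lc_g_Cert_tree lc_g_rc_27_9 lc_g_rc_27_3 lc_g_rc_24_7 lc_g_rc_27_9 lc_g_rc_27_0 lc_g_Cert_tree lc_g_Cert_tree lc_g_rc_27_3 lc_g_Cert_tree lc_g_rc_21_2 lc_g_rc_26_0 lc_g_rc_27_6 lc_g_rc_27_3 lc_g_Cert_tree lc_g_rc_27_3 lc_g_rc_26_0 lc_g_rc_27_0 lc_g_Cert_tree lc_g_Cert_tree lc_g_rc_21_2 lc_g_rc_21_2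 lc_g_rc_26_6 lc_g_rc_21_2 lc_g_rc_26_3 lc_g_rc_26_3 lc_g_Cert_tree lc_g_Cert_tree lc_g_rc_24_3 lc_g_rc_27_6 lc_g_Cert_tree lc_g_rc_24_3 lc_g_Cert_tree lc_g_Cert_tree lc_g_rc_26_6 lc_g_Cert_tree lc_g_rc_27_6 lc_g_Cert_tree lc_g_rc_21_2 lc_g_rc_21_3 lc_g_Cert_tree lc_g_rc_21_2 lc_g_rc_26_6 lc_g_rc_26_3 lc_g_rc_24_3 lc_g_Cert_tree) (@D3.rec (fun _ => (Cert rels S Gen.g)) lc_g_rc_21_3 lc_g_Cert_tree lc_g_rc_26_3 lc_g_Cert_tree lc_g_rc_21_2 lc_g_rc_26_0 lc_g_rc_26_3 lc_g_rc_26_0 lc_g_rc_23_9 lc_g_Cert_tree lc_g_rc_27_0 lc_g_rc_21_3 lc_g_Cert_tree lc_g_rc_21_2 lc_g_Cert_tree lc_g_rc_21_3 lc_g_Cert_tree lc_g_rc_21_2 lc_g_Cert_tree lc_g_rc_26_9 lc_g_Cert_tree lc_g_rc_21_3 lc_g_Cert_tree lc_g_rc_21_2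 lc_g_rc_21_3 lc_g_rc_27_0 lc_g_rc_23_9 lc_g_Cert_tree lc_g_rc_21_3 lc_g_Cert_tree lc_g_rc_27_3 lc_g_rc_21_2 lc_g_rc_26_6 lc_g_Cert_tree lc_g_rc_27_0 lc_g_rc_27_9 lc_g_rc_27_0 lc_g_rc_23_9 lc_g_rc_27_0 lc_g_rc_27_0 lc_g_rc_26_9 lc_g_rc_27_0 lc_g_rc_26_6 lc_g_rc_21_2 lc_g_rc_23_3 lc_g_rc_23_9 lc_g_rc_26_3 lc_g_rc_27_9 lc_g_rc_26_9 lc_g_rc_27_6 lc_g_rc_26_3 lc_g_Cert_tree lc_g_rc_23_9 lc_g_Cert_tree lc_g_rc_21_3 lc_g_rc_21_2 lc_g_Cert_tree lc_g_Cert_tree lc_g_rc_21_2 lc_g_rc_21_3 lc_g_Cert_tree lc_g_rc_21_2) (@D3.rec (fun _ => (Cert rels S Gen.g)) lc_g_rc_24_7 lc_g_rc_24_3 lc_g_Cert_tree lc_g_rc_21_3 lc_g_Cert_tree lc_g_Cert_tree lc_g_rc_27_6 lc_g_rc_27_6 lc_g_Cert_tree lc_g_rc_27_0 lc_g_rc_23_1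 lc_g_rc_26_9 lc_g_rc_26_6 lc_g_rc_24_7 lc_g_rc_27_0 lc_g_Cert_tree lc_g_rc_26_3 lc_g_Cert_tree lc_g_rc_27_0 lc_g_rc_27_0 lc_g_Cert_tree lc_g_rc_21_3 lc_g_rc_26_6 lc_g_rc_24_1 lc_g_rc_24_7 lc_g_rc_26_3 lc_g_rc_26_3 lc_g_rc_24_1 lc_g_rc_21_2 lc_g_rc_21_3 lc_g_Cert_tree lc_g_rc_24_3 lc_g_Cert_tree lc_g_rc_21_2 lc_g_rc_26_3 lc_g_rc_27_6 lc_g_rc_26_0 lc_g_Cert_tree lc_g_rc_26_0 lc_g_rc_26_9 lc_g_rc_24_3 lc_g_rc_27_3 lc_g_rc_21_2 lc_g_rc_23_9 lc_g_rc_26_0 lc_g_rc_26_6 lc_g_rc_23_3 lc_g_rc_21_2 lc_g_Cert_tree lc_g_rc_21_3 lc_g_rc_27_9 lc_g_rc_27_9 lc_g_rc_27_6 lc_g_rc_23_1 lc_g_rc_27_6 lc_g_rc_21_2 lc_g_rc_25_11 lc_g_rc_23_7 lc_g_rc_21_2 lc_g_rc_21_3 lc_g_Cert_tree lc_g_rc_27_6) (@D3.rec (fun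 _ => (Cert rels S Gen.g)) lc_g_rc_21_3 lc_g_Cert_tree lc_g_rc_21_2 lc_g_Cert_tree lc_g_Cert_tree lc_g_rc_23_7 lc_g_rc_23_9 lc_g_rc_27_6 lc_g_rc_21_2 lc_g_Cert_tree lc_g_rc_23_3 lc_g_rc_27_6 lc_g_Cert_tree lc_g_rc_21_2 lc_g_Cert_tree lc_g_rc_24_9 lc_g_rc_27_3 lc_g_rc_27_6 lc_g_rc_21_3 lc_g_rc_27_3 lc_g_rc_21_3 lc_g_Cert_tree lc_g_Cert_tree lc_g_rc_26_3 lc_g_Cert_tree lc_g_Cert_tree lc_g_Cert_tree lc_g_Cert_tree lc_g_rc_27_9 lc_g_rc_26_6 lc_g_rc_24_7 lc_g_rc_21_3 lc_g_rc_27_0 lc_g_rc_24_1 lc_g_rc_24_3 lc_g_rc_23_9 lc_g_rc_21_2 lc_g_rc_26_3 lc_g_Cert_tree lc_g_rc_26_0 lc_g_rc_23_9 lc_g_rc_27_9 lc_g_Cert_tree lc_g_rc_27_3 lc_g_rc_27_0 lc_g_Cert_tree lc_g_rc_21_2 lc_g_rc_21_3 lc_g_Cert_tree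 lc_g_rc_21_2 lc_g_Cert_tree lc_g_Cert_tree lc_g_rc_21_2 lc_g_rc_21_3 lc_g_rc_27_3 lc_g_rc_24_1 lc_g_rc_21_3 lc_g_Cert_tree lc_g_rc_21_2 lc_g_rc_21_2 lc_g_Cert_tree lc_g_rc_24_3) (@D3.rec (fun _ => (Cert rels S Gen.g)) lc_g_rc_26_6 lc_g_rc_23_9 lc_g_rc_27_6 lc_g_Cert_tree lc_g_Cert_tree lc_g_rc_21_2 lc_g_rc_21_2 lc_g_rc_21_2 lc_g_rc_21_2 lc_g_rc_21_2 lc_g_rc_27_6 lc_g_Cert_tree lc_g_rc_23_9 lc_g_rc_27_6 lc_g_Cert_tree lc_g_Cert_tree lc_g_rc_23_3 lc_g_Cert_tree lc_g_Cert_tree lc_g_rc_21_2 lc_g_Cert_tree lc_g_rc_23_7 lc_g_rc_27_6 lc_g_Cert_tree lc_g_rc_23_3 lc_g_rc_21_2 lc_g_rc_26_3 lc_g_Cert_tree lc_g_rc_26_3 lc_g_Cert_tree lc_g_rc_24_1 lc_g_rc_21_2 lc_g_rc_21_3 lc_g_Cert_tree lc_g_Cert_tree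 lc_g_rc_21_2 lc_g_rc_23_3 lc_g_rc_21_3 lc_g_rc_27_3 lc_g_Cert_tree lc_g_rc_26_0 lc_g_rc_21_3 lc_g_rc_23_1 lc_g_Cert_tree lc_g_rc_21_2 lc_g_rc_21_3 lc_g_Cert_tree lc_g_rc_21_2 lc_g_rc_27_3 lc_g_Cert_tree lc_g_rc_21_3 lc_g_Cert_tree lc_g_rc_21_2 lc_g_Cert_tree lc_g_rc_21_2 lc_g_rc_23_7 lc_g_Cert_tree lc_g_Cert_tree lc_g_rc_27_3 lc_g_Cert_tree lc_g_rc_27_3 lc_g_Cert_tree) (@D3.rec (fun _ => (Cert rels S Gen.g)) lc_g_rc_26_9 lc_g_rc_21_3 lc_g_Cert_tree lc_g_rc_24_7 lc_g_rc_21_3 lc_g_Cert_tree lc_g_rc_21_2 lc_g_rc_26_6 lc_g_rc_21_3 lc_g_rc_26_6 lc_g_rc_27_3 lc_g_rc_21_2 lc_g_rc_27_3 lc_g_rc_21_2 lc_g_rc_27_3 lc_g_rc_21_2 lc_g_rc_24_1 lc_g_Cert_tree lc_g_rc_21_3 lc_g_Cert_tree lc_g_rc_26_3 lc_g_Cert_tree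 lc_g_rc_21_2 lc_g_rc_21_2 lc_g_Cert_tree lc_g_Cert_tree lc_g_Cert_tree lc_g_rc_21_3 lc_g_Cert_tree lc_g_rc_21_2 lc_g_Cert_tree lc_g_Cert_tree lc_g_rc_24_9 lc_g_Cert_tree lc_g_rc_23_3 lc_g_rc_21_2 lc_g_Cert_tree lc_g_rc_21_3 lc_g_rc_21_2 lc_g_Cert_tree lc_g_rc_21_2 lc_g_Cert_tree lc_g_Cert_tree lc_g_rc_26_3 lc_g_Cert_tree lc_g_rc_26_3 lc_g_Cert_tree lc_g_rc_21_2 lc_g_rc_21_2 lc_g_rc_21_2 lc_g_rc_21_3 lc_g_Cert_tree lc_g_rc_27_9 lc_g_Cert_tree lc_g_Cert_tree lc_g_Cert_tree lc_g_rc_21_3 lc_g_Cert_tree lc_g_rc_27_9 lc_g_Cert_tree lc_g_rc_21_3 lc_g_Cert_tree) (@D3.rec (fun _ => (Cert rels S Gen.g)) lc_g_Cert_tree lc_g_Cert_tree lc_g_rc_21_2 lc_g_Cert_tree lc_g_Cert_tree lc_g_Cert_tree lc_g_Cert_tree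 lc_g_rc_21_3 lc_g_Cert_tree lc_g_rc_21_2 lc_g_Cert_tree lc_g_Cert_tree lc_g_rc_21_3 lc_g_Cert_tree lc_g_rc_21_2 lc_g_rc_21_3 lc_g_Cert_tree lc_g_rc_21_2 lc_g_Cert_tree lc_g_Cert_tree lc_g_rc_21_2 lc_g_Cert_tree lc_g_rc_21_3 lc_g_Cert_tree lc_g_rc_26_3 lc_g_Cert_tree lc_g_Cert_tree lc_g_rc_23_3 lc_g_rc_21_2 lc_g_rc_27_6 lc_g_rc_24_9 lc_g_rc_25_3 lc_g_rc_24_1 lc_g_rc_21_3 lc_g_Cert_tree lc_g_rc_21_2 lc_g_Cert_tree lc_g_Cert_tree lc_g_rc_21_3 lc_g_Cert_tree lc_g_rc_24_3 lc_g_Cert_tree lc_g_rc_26_3 lc_g_rc_21_3 lc_g_Cert_tree lc_g_rc_25_7 lc_g_rc_27_3 lc_g_rc_21_2 lc_g_rc_27_3 lc_g_Cert_tree lc_g_Cert_tree lc_g_rc_21_3 lc_g_rc_24_1 lc_g_rc_26_6 lc_g_rc_21_3 lc_g_rc_24_7 lc_g_Cert_tree lc_g_rc_26_0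 lc_g_rc_21_2 lc_g_rc_26_6 lc_g_rc_23_7 lc_g_rc_21_2) (@D3.rec (fun _ => (Cert rels S Gen.g)) lc_g_Cert_tree lc_g_rc_24_1 lc_g_Cert_tree lc_g_rc_23_7 lc_g_rc_27_6 lc_g_Cert_tree lc_g_Cert_tree lc_g_rc_26_3 lc_g_Cert_tree lc_g_rc_21_3 lc_g_rc_21_2 lc_g_Cert_tree lc_g_rc_26_3 lc_g_rc_21_3 lc_g_Cert_tree lc_g_rc_21_3 lc_g_rc_21_3 lc_g_rc_27_6 lc_g_Cert_tree lc_g_rc_27_6 lc_g_Cert_tree lc_g_rc_23_3 lc_g_rc_21_3 lc_g_rc_27_6 lc_g_rc_21_2 lc_g_Cert_tree lc_g_Cert_tree lc_g_rc_21_3 lc_g_Cert_tree lc_g_rc_26_6 lc_g_rc_23_3 lc_g_Cert_tree lc_g_rc_21_2 lc_g_rc_26_3 lc_g_rc_27_6 lc_g_Cert_tree lc_g_rc_24_1 lc_g_rc_27_6 lc_g_rc_21_3 lc_g_Cert_tree lc_g_rc_21_2 lc_g_Cert_tree lc_g_Cert_tree lc_g_rc_27_6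 lc_g_Cert_tree lc_g_rc_26_3 lc_g_rc_21_2 lc_g_rc_21_3 lc_g_rc_27_9 lc_g_rc_27_6 lc_g_rc_27_3 lc_g_rc_27_0 lc_g_rc_26_9 lc_g_rc_21_3 lc_g_rc_21_3 lc_g_rc_21_3 lc_g_rc_21_2 lc_g_rc_26_6 lc_g_Cert_tree lc_g_rc_21_2 lc_g_Cert_tree lc_g_Cert_tree) (@D3.rec (fun _ => (Cert rels S Gen.g)) lc_g_Cert_tree lc_g_rc_26_9 lc_g_Cert_tree lc_g_rc_21_2 lc_g_rc_26_9 lc_g_rc_27_9 lc_g_rc_24_9 lc_g_rc_23_1 lc_g_rc_21_3 lc_g_Cert_tree lc_g_rc_21_2 lc_g_rc_26_3 lc_g_Cert_tree lc_g_Cert_tree lc_g_rc_21_3 lc_g_Cert_tree lc_g_rc_27_3 lc_g_rc_21_2 lc_g_rc_24_7 lc_g_rc_27_6 lc_g_rc_24_7 lc_g_rc_23_1 lc_g_rc_27_0 lc_g_Cert_tree lc_g_rc_27_6 lc_g_rc_21_2 lc_g_rc_26_6 lc_g_rc_23_7 lc_g_rc_26_3 lc_g_rc_21_2 lc_g_rc_21_3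 lc_g_Cert_tree lc_g_rc_21_2 lc_g_Cert_tree lc_g_Cert_tree lc_g_Cert_tree lc_g_rc_21_3 lc_g_Cert_tree lc_g_rc_24_3 lc_g_rc_21_2 lc_g_rc_21_3 lc_g_rc_21_3 lc_g_rc_27_0 lc_g_rc_27_6 lc_g_rc_23_7 lc_g_rc_21_3 lc_g_Cert_tree lc_g_rc_21_2 lc_g_Cert_tree lc_g_Cert_tree lc_g_Cert_tree lc_g_Cert_tree lc_g_rc_21_2 lc_g_rc_21_3 lc_g_Cert_tree lc_g_rc_21_2 lc_g_Cert_tree lc_g_Cert_tree lc_g_Cert_tree lc_g_rc_27_6 lc_g_Cert_tree lc_g_rc_24_7) (@D3.rec (fun _ => (Cert rels S Gen.g)) lc_g_rc_21_2 lc_g_rc_21_2 lc_g_rc_21_2 lc_g_Cert_tree lc_g_Cert_tree lc_g_Cert_tree lc_g_rc_26_6 lc_g_Cert_tree lc_g_rc_21_2 lc_g_rc_21_2 lc_g_rc_26_3 lc_g_rc_21_2 lc_g_rc_21_3 lc_g_Cert_tree lc_g_rc_23_9 lc_g_Cert_tree lc_g_Cert_tree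 lc_g_rc_26_6 lc_g_rc_21_2 lc_g_rc_21_2 lc_g_Cert_tree lc_g_rc_21_3 lc_g_Cert_tree lc_g_rc_21_2 lc_g_rc_21_3 lc_g_Cert_tree lc_g_Cert_tree lc_g_rc_23_1 lc_g_rc_27_6 lc_g_rc_27_0 lc_g_rc_26_9 lc_g_rc_27_9 lc_g_rc_23_9 lc_g_rc_24_1 lc_g_Cert_tree lc_g_rc_26_9 lc_g_rc_21_3 lc_g_Cert_tree lc_g_rc_21_2 lc_g_rc_21_3 lc_g_Cert_tree lc_g_rc_21_2 lc_g_Cert_tree lc_g_Cert_tree lc_g_rc_21_2 lc_g_rc_26_9 lc_g_rc_27_9 lc_g_rc_21_3 lc_g_Cert_tree lc_g_rc_27_3 lc_g_Cert_tree lc_g_Cert_tree lc_g_rc_26_9 lc_g_rc_21_3 lc_g_rc_23_9 lc_g_rc_21_2 lc_g_rc_21_3 lc_g_Cert_tree lc_g_Cert_tree lc_g_rc_27_6 lc_g_rc_21_3 lc_g_Cert_tree) (@D3.rec (fun _ => (Cert rels S Gen.g)) lc_g_rc_27_3 lc_g_rc_21_3 lc_g_Cert_tree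 lc_g_Cert_tree lc_g_rc_21_2 lc_g_rc_21_3 lc_g_rc_21_2 lc_g_rc_24_3 lc_g_rc_21_2 lc_g_rc_27_6 lc_g_rc_23_1 lc_g_rc_21_3 lc_g_rc_27_6 lc_g_rc_21_3 lc_g_rc_21_2 lc_g_rc_21_3 lc_g_Cert_tree lc_g_rc_21_2 lc_g_Cert_tree lc_g_Cert_tree lc_g_rc_21_2 lc_g_rc_27_0 lc_g_rc_21_3 lc_g_rc_21_3 lc_g_rc_27_9 lc_g_rc_24_9 lc_g_rc_23_1 lc_g_rc_21_3 lc_g_Cert_tree lc_g_Cert_tree lc_g_rc_27_3 lc_g_rc_21_3 lc_g_Cert_tree lc_g_rc_21_2 lc_g_rc_21_2 lc_g_rc_21_2 lc_g_rc_21_3 lc_g_Cert_tree lc_g_rc_26_3 lc_g_rc_27_0 lc_g_rc_21_3 lc_g_rc_27_3 lc_g_rc_21_2 lc_g_Cert_tree lc_g_rc_27_6 lc_g_rc_21_3 lc_g_Cert_tree lc_g_Cert_tree lc_g_rc_21_2 lc_g_rc_23_7 lc_g_rc_24_7 lc_g_rc_23_9 lc_g_rc_23_9 lc_g_rc_27_6 lc_g_rc_21_3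 lc_g_Cert_tree lc_g_Cert_tree lc_g_rc_21_3 lc_g_Cert_tree lc_g_rc_21_2 lc_g_rc_23_7 lc_g_Cert_tree) (@D3.rec (fun _ => (Cert rels S Gen.g)) lc_g_rc_21_3 lc_g_Cert_tree lc_g_Cert_tree lc_g_rc_21_2 lc_g_rc_24_7 lc_g_rc_23_7 lc_g_rc_26_6 lc_g_rc_21_3 lc_g_rc_27_0 lc_g_rc_21_3 lc_g_Cert_tree lc_g_rc_23_9 lc_g_rc_21_3 lc_g_Cert_tree lc_g_rc_21_2 lc_g_rc_21_2 lc_g_rc_21_2 lc_g_Cert_tree lc_g_rc_24_1 lc_g_rc_21_3 lc_g_rc_27_9 lc_g_rc_23_9 lc_g_rc_21_2 lc_g_rc_24_9 lc_g_rc_23_3 lc_g_rc_24_9 lc_g_rc_27_0 lc_g_rc_24_1 lc_g_rc_23_9 lc_g_rc_26_6 lc_g_Cert_tree lc_g_rc_21_3 lc_g_Cert_tree lc_g_Cert_tree lc_g_rc_27_9 lc_g_rc_27_9 lc_g_rc_26_3 lc_g_rc_27_0 lc_g_rc_24_1 lc_g_rc_23_9 lc_g_Cert_tree lc_g_rc_21_3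 lc_g_Cert_tree lc_g_rc_27_0 lc_g_rc_24_9 lc_g_rc_21_2 lc_g_rc_21_2 lc_g_rc_21_2 lc_g_rc_27_9 lc_g_Cert_tree lc_g_Cert_tree lc_g_Cert_tree lc_g_rc_21_2 lc_g_rc_24_3 lc_g_Cert_tree lc_g_rc_21_3 lc_g_Cert_tree lc_g_Cert_tree lc_g_rc_21_2 lc_g_rc_23_3 lc_g_Cert_tree lc_g_rc_27_6) (@D3.rec (fun _ => (Cert rels S Gen.g)) lc_g_rc_21_3 lc_g_Cert_tree lc_g_rc_21_2 lc_g_rc_21_3 lc_g_Cert_tree lc_g_rc_21_2 lc_g_rc_26_9 lc_g_rc_21_3 lc_g_Cert_tree lc_g_Cert_tree lc_g_rc_21_2 lc_g_Cert_tree lc_g_rc_21_3 lc_g_Cert_tree lc_g_rc_27_6 lc_g_rc_27_3 lc_g_rc_24_7 lc_g_rc_24_9 lc_g_rc_24_9 lc_g_rc_21_2 lc_g_rc_21_3 lc_g_Cert_tree lc_g_Cert_tree lc_g_rc_21_2 lc_g_rc_26_9 lc_g_rc_23_7 lc_g_rc_23_7 lc_g_Cert_tree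 lc_g_rc_27_3 lc_g_rc_21_3 lc_g_Cert_tree lc_g_Cert_tree lc_g_rc_21_2 lc_g_rc_21_2 lc_g_Cert_tree lc_g_rc_21_3 lc_g_Cert_tree lc_g_rc_21_2 lc_g_rc_21_2 lc_g_rc_27_3 lc_g_rc_24_7 lc_g_rc_23_1 lc_g_rc_26_9 lc_g_Cert_tree lc_g_rc_24_1 lc_g_rc_27_6 lc_g_rc_21_3 lc_g_Cert_tree lc_g_rc_21_3 lc_g_Cert_tree lc_g_rc_21_3 lc_g_Cert_tree lc_g_rc_21_2 lc_g_rc_26_6 lc_g_rc_21_2 lc_g_rc_26_6 lc_g_rc_27_0 lc_g_rc_27_3 lc_g_rc_24_1 lc_g_Cert_tree lc_g_rc_27_0 lc_g_Cert_tree) (@D3.rec (fun _ => (Cert rels S Gen.g)) lc_g_rc_21_2 lc_g_rc_23_9 lc_g_rc_26_6 lc_g_rc_26_6 lc_g_rc_26_3 lc_g_Cert_tree lc_g_rc_27_3 lc_g_rc_21_2 lc_g_rc_21_2 lc_g_Cert_tree lc_g_rc_27_3 lc_g_rc_26_6 lc_g_Cert_tree lc_g_rc_23_9 lc_g_rc_26_3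 lc_g_rc_21_3 lc_g_rc_21_2 lc_g_rc_26_6 lc_g_rc_21_2 lc_g_rc_21_3 lc_g_Cert_tree lc_g_rc_27_6 lc_g_Cert_tree lc_g_Cert_tree lc_g_rc_21_2 lc_g_rc_25_3 lc_g_rc_21_3 lc_g_rc_21_2 lc_g_Cert_tree lc_g_rc_27_0 lc_g_Cert_tree lc_g_rc_23_3 lc_g_rc_23_1 lc_g_Cert_tree lc_g_Cert_tree lc_g_rc_21_3 lc_g_Cert_tree lc_g_Cert_tree lc_g_Cert_tree lc_g_rc_21_3 lc_g_rc_21_2 lc_g_Cert_tree lc_g_rc_21_2 lc_g_Cert_tree lc_g_rc_21_3 lc_g_Cert_tree lc_g_rc_21_3 lc_g_Cert_tree lc_g_rc_21_2 lc_g_rc_26_9 lc_g_rc_27_9 lc_g_rc_24_1 lc_g_rc_21_2 lc_g_rc_21_2 lc_g_Cert_tree lc_g_Cert_tree lc_g_rc_27_3 lc_g_rc_21_2 lc_g_rc_27_6 lc_g_Cert_tree lc_g_Cert_tree lc_g_rc_21_2) (@D3.rec (fun _ => (Cert rels S Gen.g)) lc_g_Cert_tree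 lc_g_rc_21_2 lc_g_rc_27_6 lc_g_rc_21_3 lc_g_Cert_tree lc_g_Cert_tree lc_g_rc_21_3 lc_g_Cert_tree lc_g_Cert_tree lc_g_rc_21_2 lc_g_rc_26_6 lc_g_rc_27_3 lc_g_rc_21_3 lc_g_Cert_tree lc_g_Cert_tree lc_g_rc_21_2 lc_g_Cert_tree lc_g_Cert_tree lc_g_rc_24_1 lc_g_rc_26_6 lc_g_rc_23_3 lc_g_rc_23_9 lc_g_rc_21_3 lc_g_Cert_tree lc_g_Cert_tree lc_g_rc_27_3 lc_g_rc_24_3 lc_g_rc_27_6 lc_g_rc_21_2 lc_g_rc_24_1 lc_g_Cert_tree lc_g_rc_24_9 lc_g_rc_24_7 lc_g_Cert_tree lc_g_rc_27_3 lc_g_rc_24_7 lc_g_Cert_tree lc_g_rc_21_3 lc_g_Cert_tree lc_g_Cert_tree lc_g_rc_21_2 lc_g_rc_21_2 lc_g_Cert_tree lc_g_rc_21_2 lc_g_Cert_tree lc_g_rc_24_7 lc_g_Cert_tree lc_g_rc_21_2 lc_g_rc_24_3 lc_g_Cert_tree lc_g_rc_21_3 lc_g_rc_27_9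 lc_g_rc_27_9 lc_g_rc_23_1 lc_g_rc_21_3 lc_g_Cert_tree lc_g_rc_21_3 lc_g_Cert_tree lc_g_rc_21_2 lc_g_rc_21_2 lc_g_Cert_tree lc_g_Cert_tree) (@D3.rec (fun _ => (Cert rels S Gen.g)) lc_g_rc_25_3 lc_g_rc_23_7 lc_g_rc_26_3 lc_g_rc_21_3 lc_g_rc_23_1 lc_g_rc_26_0 lc_g_rc_21_2 lc_g_rc_23_1 lc_g_Cert_tree lc_g_rc_26_6 lc_g_rc_21_2 lc_g_rc_27_6 lc_g_rc_21_3 lc_g_Cert_tree lc_g_rc_25_7 lc_g_Cert_tree lc_g_rc_23_7 lc_g_rc_23_1 lc_g_rc_27_6 lc_g_Cert_tree lc_g_rc_21_3 lc_g_rc_26_3 lc_g_rc_21_3 lc_g_Cert_tree lc_g_Cert_tree lc_g_rc_21_2 lc_g_rc_23_7 lc_g_rc_26_0 lc_g_rc_21_3 lc_g_rc_27_0 lc_g_Cert_tree lc_g_rc_26_9 lc_g_Cert_tree lc_g_rc_21_3 lc_g_rc_21_2 lc_g_rc_23_9 lc_g_rc_21_3 lc_g_Cert_tree lc_g_Cert_tree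 lc_g_rc_21_2 lc_g_rc_21_2 lc_g_Cert_tree lc_g_rc_27_3 lc_g_rc_27_6 lc_g_rc_21_3 lc_g_Cert_tree lc_g_Cert_tree lc_g_rc_21_2 lc_g_rc_24_7 lc_g_Cert_tree lc_g_rc_21_2 lc_g_Cert_tree lc_g_rc_21_2 lc_g_rc_27_6 lc_g_rc_24_1 lc_g_rc_23_9 lc_g_rc_23_7 lc_g_rc_26_6 lc_g_Cert_tree lc_g_Cert_tree lc_g_Cert_tree lc_g_Cert_tree) (@D3.rec (fun _ => (Cert rels S Gen.g)) lc_g_rc_26_0 lc_g_Cert_tree lc_g_rc_21_3 lc_g_Cert_tree lc_g_rc_21_2 lc_g_rc_24_7 lc_g_Cert_tree lc_g_rc_24_1 lc_g_Cert_tree lc_g_rc_21_3 lc_g_rc_23_9 lc_g_rc_21_3 lc_g_rc_21_2 lc_g_rc_27_3 lc_g_Cert_tree lc_g_rc_24_1 lc_g_rc_21_3 lc_g_rc_24_1 lc_g_Cert_tree lc_g_Cert_tree lc_g_Cert_tree lc_g_Cert_tree lc_g_rc_27_3 lc_g_rc_26_0 lc_g_rc_25_3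 lc_g_rc_26_3 lc_g_rc_21_2 lc_g_Cert_tree lc_g_rc_26_6 lc_g_rc_21_2 lc_g_rc_27_3 lc_g_Cert_tree lc_g_Cert_tree lc_g_rc_21_2 lc_g_rc_24_1 lc_g_rc_26_9 lc_g_rc_24_3 lc_g_Cert_tree lc_g_Cert_tree lc_g_rc_26_0 lc_g_Cert_tree lc_g_rc_21_3 lc_g_rc_21_2 lc_g_rc_23_3 lc_g_rc_21_3 lc_g_rc_24_9 lc_g_Cert_tree lc_g_rc_27_6 lc_g_rc_21_3 lc_g_rc_26_0 lc_g_rc_21_2 lc_g_rc_24_1 lc_g_rc_23_3 lc_g_Cert_tree lc_g_rc_27_3 lc_g_rc_21_2 lc_g_rc_21_2 lc_g_rc_21_3 lc_g_Cert_tree lc_g_rc_21_2 lc_g_rc_26_6 lc_g_rc_27_6) (@D3.rec (fun _ => (Cert rels S Gen.g)) lc_g_rc_27_0 lc_g_rc_21_3 lc_g_rc_21_2 lc_g_rc_21_2 lc_g_Cert_tree lc_g_rc_21_3 lc_g_Cert_tree lc_g_Cert_tree lc_g_rc_21_2 lc_g_Cert_tree lc_g_Cert_tree lc_g_Cert_tree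 lc_g_rc_21_2 lc_g_rc_27_6 lc_g_rc_21_2 lc_g_rc_21_2 lc_g_rc_21_3 lc_g_Cert_tree lc_g_Cert_tree lc_g_rc_21_2 lc_g_rc_27_3 lc_g_rc_24_9 lc_g_rc_21_3 lc_g_Cert_tree lc_g_Cert_tree lc_g_rc_26_3 lc_g_Cert_tree lc_g_rc_21_3 lc_g_Cert_tree lc_g_rc_21_3 lc_g_Cert_tree lc_g_rc_21_3 lc_g_Cert_tree lc_g_rc_26_0 lc_g_rc_21_2 lc_g_Cert_tree lc_g_rc_23_9 lc_g_rc_26_6 lc_g_rc_24_1 lc_g_rc_21_3 lc_g_rc_21_3 lc_g_Cert_tree lc_g_rc_21_2 lc_g_rc_21_2 lc_g_rc_24_3 lc_g_rc_23_1 lc_g_Cert_tree lc_g_rc_26_0 lc_g_Cert_tree lc_g_Cert_tree lc_g_rc_21_2 lc_g_Cert_tree lc_g_rc_27_9 lc_g_rc_27_6 lc_g_rc_27_0 lc_g_rc_24_1 lc_g_rc_21_2 lc_g_rc_21_3 lc_g_Cert_tree lc_g_Cert_tree lc_g_rc_21_2 lc_g_rc_21_2) (@D3.rec (fun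 _ => (Cert rels S Gen.g)) lc_g_rc_21_3 lc_g_Cert_tree lc_g_Cert_tree lc_g_Cert_tree lc_g_Cert_tree lc_g_rc_27_9 lc_g_rc_27_6 lc_g_rc_27_0 lc_g_Cert_tree lc_g_Cert_tree lc_g_rc_27_6 lc_g_Cert_tree lc_g_rc_21_2 lc_g_Cert_tree lc_g_rc_27_3 lc_g_rc_26_6 lc_g_rc_21_2 lc_g_rc_27_6 lc_g_rc_24_3 lc_g_rc_24_1 lc_g_rc_27_6 lc_g_rc_21_2 lc_g_rc_21_3 lc_g_rc_24_1 lc_g_rc_27_0 lc_g_rc_24_1 lc_g_rc_21_2 lc_g_rc_21_3 lc_g_Cert_tree lc_g_rc_21_3 lc_g_rc_21_3 lc_g_rc_24_9 lc_g_rc_27_0 lc_g_rc_21_3 lc_g_Cert_tree lc_g_Cert_tree lc_g_rc_23_9 lc_g_Cert_tree lc_g_rc_24_1 lc_g_Cert_tree lc_g_rc_21_3 lc_g_rc_24_1 lc_g_Cert_tree lc_g_rc_27_9 lc_g_rc_24_7 lc_g_Cert_tree lc_g_rc_21_3 lc_g_Cert_tree lc_g_rc_21_3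 lc_g_Cert_tree lc_g_Cert_tree lc_g_rc_21_2 lc_g_rc_27_3 lc_g_rc_24_1 lc_g_Cert_tree lc_g_rc_26_9 lc_g_Cert_tree lc_g_Cert_tree lc_g_rc_24_9 lc_g_rc_27_3 lc_g_rc_26_3 lc_g_rc_26_9) (@D3.rec (fun _ => (Cert rels S Gen.g)) lc_g_rc_26_0 lc_g_rc_24_1 lc_g_Cert_tree lc_g_rc_24_1 lc_g_rc_27_6 lc_g_Cert_tree lc_g_rc_24_3 lc_g_Cert_tree lc_g_rc_21_2 lc_g_Cert_tree lc_g_rc_23_7 lc_g_Cert_tree lc_g_rc_21_3 lc_g_Cert_tree lc_g_rc_21_2 lc_g_rc_27_3 lc_g_rc_23_7 lc_g_rc_26_3 lc_g_rc_26_6 lc_g_rc_23_7 lc_g_rc_27_6 lc_g_Cert_tree lc_g_Cert_tree lc_g_rc_21_2 lc_g_rc_21_3 lc_g_rc_21_3 lc_g_rc_21_3 lc_g_Cert_tree lc_g_rc_21_2 lc_g_Cert_tree lc_g_rc_21_3 lc_g_rc_21_2 lc_g_Cert_tree lc_g_rc_23_7 lc_g_Cert_tree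 lc_g_rc_21_3 lc_g_Cert_tree lc_g_rc_21_2 lc_g_Cert_tree lc_g_rc_23_7 lc_g_rc_21_2 lc_g_rc_25_7 lc_g_rc_23_7 lc_g_rc_27_6 lc_g_Cert_tree lc_g_Cert_tree lc_g_rc_26_3 lc_g_Cert_tree lc_g_rc_21_3 lc_g_rc_21_3 lc_g_Cert_tree lc_g_rc_21_2 lc_g_Cert_tree lc_g_rc_27_6 lc_g_Cert_tree lc_g_Cert_tree lc_g_rc_21_3 lc_g_rc_21_2 lc_g_Cert_tree lc_g_rc_23_7 lc_g_Cert_tree lc_g_rc_21_3) (@D3.rec (fun _ => (Cert rels S Gen.g)) lc_g_rc_21_2 lc_g_Cert_tree lc_g_rc_23_7 lc_g_rc_26_3 lc_g_Cert_tree lc_g_rc_23_7 lc_g_rc_24_7 lc_g_Cert_tree lc_g_Cert_tree lc_g_rc_21_2 lc_g_Cert_tree lc_g_rc_21_3 lc_g_rc_21_3 lc_g_Cert_tree lc_g_Cert_tree lc_g_rc_21_2 lc_g_Cert_tree lc_g_rc_24_7 lc_g_rc_21_3 lc_g_Cert_tree lc_g_rc_27_6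 lc_g_Cert_tree lc_g_rc_23_7 lc_g_Cert_tree lc_g_rc_21_3 lc_g_Cert_tree lc_g_rc_21_2 lc_g_Cert_tree lc_g_rc_23_7 lc_g_Cert_tree lc_g_Cert_tree lc_g_rc_23_7 lc_g_rc_26_9 lc_g_Cert_tree lc_g_rc_23_3 lc_g_rc_26_3 lc_g_rc_21_3 lc_g_Cert_tree lc_g_rc_21_2 lc_g_Cert_tree lc_g_Cert_tree lc_g_rc_23_3 lc_g_Cert_tree lc_g_Cert_tree lc_g_rc_21_3 lc_g_Cert_tree lc_g_Cert_tree lc_g_rc_21_2 lc_g_Cert_tree lc_g_rc_24_7 lc_g_rc_23_9 lc_g_rc_21_3 lc_g_Cert_tree lc_g_rc_21_2 lc_g_Cert_tree lc_g_Cert_tree lc_g_rc_23_7 lc_g_rc_21_3 lc_g_Cert_tree lc_g_rc_21_2 lc_g_Cert_tree lc_g_Cert_tree) (@D3.rec (fun _ => (Cert rels S Gen.g)) lc_g_Cert_tree lc_g_rc_21_3 lc_g_Cert_tree lc_g_Cert_tree lc_g_rc_24_3 lc_g_Cert_tree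 lc_g_rc_27_3 lc_g_rc_27_6 lc_g_Cert_tree lc_g_rc_21_2 lc_g_rc_21_3 lc_g_Cert_tree lc_g_rc_27_3 lc_g_rc_26_6 lc_g_Cert_tree lc_g_rc_26_3 lc_g_Cert_tree lc_g_rc_21_3 lc_g_Cert_tree lc_g_rc_21_2 lc_g_Cert_tree lc_g_Cert_tree lc_g_rc_24_1 lc_g_Cert_tree lc_g_rc_25_19 lc_g_rc_21_3 lc_g_Cert_tree lc_g_Cert_tree lc_g_rc_21_2 lc_g_rc_24_7 lc_g_rc_27_9 lc_g_rc_26_9 lc_g_rc_27_0 lc_g_rc_27_0 lc_g_rc_26_9 lc_g_rc_21_3 lc_g_Cert_tree lc_g_rc_21_2 lc_g_rc_26_6 lc_g_Cert_tree lc_g_Cert_tree lc_g_rc_21_3 lc_g_Cert_tree lc_g_rc_24_1 lc_g_rc_21_2 lc_g_rc_21_3 lc_g_rc_27_0 lc_g_rc_27_6 lc_g_Cert_tree lc_g_rc_21_3 lc_g_Cert_tree lc_g_rc_21_2 lc_g_Cert_tree lc_g_Cert_tree lc_g_Cert_tree lc_g_rc_24_3 lc_g_rc_21_2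 lc_g_rc_21_3 lc_g_Cert_tree lc_g_rc_21_2 lc_g_Cert_tree lc_g_rc_21_2) (@D3.rec (fun _ => (Cert rels S Gen.g)) lc_g_Cert_tree lc_g_Cert_tree lc_g_rc_21_2 lc_g_Cert_tree lc_g_rc_21_2 lc_g_rc_21_2 lc_g_rc_21_2 lc_g_rc_21_3 lc_g_Cert_tree lc_g_Cert_tree lc_g_Cert_tree lc_g_rc_21_3 lc_g_Cert_tree lc_g_rc_21_2 lc_g_rc_23_7 lc_g_rc_26_3 lc_g_Cert_tree lc_g_rc_21_3 lc_g_Cert_tree lc_g_Cert_tree lc_g_Cert_tree lc_g_rc_21_2 lc_g_Cert_tree lc_g_rc_26_6 lc_g_Cert_tree lc_g_rc_21_2 lc_g_Cert_tree lc_g_Cert_tree lc_g_rc_27_0 lc_g_rc_21_3 lc_g_Cert_tree lc_g_rc_21_2 lc_g_rc_26_9 lc_g_rc_21_3 lc_g_Cert_tree lc_g_Cert_tree lc_g_rc_23_1 lc_g_rc_26_9 lc_g_rc_27_9 lc_g_rc_27_9 lc_g_rc_21_3 lc_g_rc_23_1 lc_g_Cert_tree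 lc_g_rc_23_3 lc_g_Cert_tree lc_g_rc_27_0 lc_g_rc_21_2 lc_g_Cert_tree lc_g_rc_23_3 lc_g_rc_27_6 lc_g_Cert_tree lc_g_rc_26_3 lc_g_Cert_tree lc_g_rc_27_6 lc_g_rc_21_3 lc_g_Cert_tree lc_g_rc_21_2 lc_g_Cert_tree lc_g_rc_24_1 lc_g_Cert_tree lc_g_rc_21_3 lc_g_rc_26_3) (@D3.rec (fun _ => (Cert rels S Gen.g)) lc_g_Cert_tree lc_g_Cert_tree lc_g_rc_21_2 lc_g_rc_23_1 lc_g_rc_27_6 lc_g_rc_27_3 lc_g_rc_21_3 lc_g_Cert_tree lc_g_rc_21_2 lc_g_Cert_tree lc_g_rc_23_1 lc_g_rc_26_9 lc_g_Cert_tree lc_g_Cert_tree lc_g_Cert_tree lc_g_rc_21_2 lc_g_rc_23_3 lc_g_rc_21_2 lc_g_rc_21_3 lc_g_Cert_tree lc_g_Cert_tree lc_g_Cert_tree lc_g_rc_27_6 lc_g_Cert_tree lc_g_rc_23_3 lc_g_rc_21_2 lc_g_Cert_tree lc_g_rc_24_1 lc_g_rc_27_6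 lc_g_Cert_tree lc_g_rc_27_6 lc_g_Cert_tree lc_g_rc_21_2 lc_g_rc_21_3 lc_g_Cert_tree lc_g_rc_21_2 lc_g_Cert_tree lc_g_Cert_tree lc_g_rc_23_3 lc_g_rc_26_3 lc_g_Cert_tree lc_g_rc_24_3 lc_g_rc_21_2 lc_g_rc_24_9 lc_g_Cert_tree lc_g_rc_27_6 lc_g_Cert_tree lc_g_rc_23_9 lc_g_rc_27_9 lc_g_rc_21_2 lc_g_rc_21_2 lc_g_rc_21_3 lc_g_Cert_tree lc_g_Cert_tree lc_g_rc_26_6 lc_g_rc_21_3 lc_g_Cert_tree lc_g_Cert_tree lc_g_rc_21_2 lc_g_rc_21_2 lc_g_rc_21_2 lc_g_rc_26_6) (@D3.rec (fun _ => (Cert rels S Gen.g)) lc_g_rc_21_2 lc_g_Cert_tree lc_g_rc_21_3 lc_g_Cert_tree lc_g_rc_21_2 lc_g_rc_21_2 lc_g_rc_26_9 lc_g_Cert_tree lc_g_rc_21_3 lc_g_Cert_tree lc_g_Cert_tree lc_g_rc_21_2 lc_g_rc_21_3 lc_g_rc_27_9 lc_g_rc_27_3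 lc_g_rc_23_1 lc_g_rc_27_6 lc_g_rc_27_3 lc_g_rc_27_0 lc_g_rc_21_3 lc_g_rc_26_9 lc_g_rc_27_0 lc_g_rc_26_0 lc_g_rc_21_2 lc_g_rc_21_2 lc_g_Cert_tree lc_g_Cert_tree lc_g_rc_27_9 lc_g_rc_21_3 lc_g_Cert_tree lc_g_Cert_tree lc_g_rc_27_6 lc_g_rc_27_0 lc_g_rc_24_7 lc_g_rc_21_3 lc_g_Cert_tree lc_g_rc_27_6 lc_g_rc_21_2 lc_g_rc_26_3 lc_g_rc_24_3 lc_g_rc_21_3 lc_g_rc_27_0 lc_g_rc_24_7 lc_g_rc_21_3 lc_g_rc_27_0 lc_g_rc_21_3 lc_g_Cert_tree lc_g_rc_21_2 lc_g_rc_21_3 lc_g_Cert_tree lc_g_rc_21_2 lc_g_rc_21_2 lc_g_Cert_tree lc_g_Cert_tree lc_g_rc_21_3 lc_g_Cert_tree lc_g_Cert_tree lc_g_rc_24_7 lc_g_Cert_tree lc_g_rc_27_0 lc_g_rc_27_6 lc_g_rc_21_3) (@D3.rec (fun _ => (Cert rels S Gen.g)) lc_g_rc_26_9 lc_g_rc_21_3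 lc_g_rc_21_3 lc_g_rc_26_3 lc_g_rc_21_2 lc_g_rc_23_3 lc_g_Cert_tree lc_g_rc_21_3 lc_g_Cert_tree lc_g_rc_27_0 lc_g_rc_27_3 lc_g_rc_23_9 lc_g_rc_26_3 lc_g_rc_27_3 lc_g_rc_26_9 lc_g_rc_26_9 lc_g_rc_23_7 lc_g_Cert_tree lc_g_rc_26_0 lc_g_rc_23_9 lc_g_rc_26_6 lc_g_rc_21_2 lc_g_rc_27_6 lc_g_Cert_tree lc_g_Cert_tree lc_g_Cert_tree lc_g_Cert_tree lc_g_rc_27_0 lc_g_rc_21_3 lc_g_Cert_tree lc_g_rc_21_2 lc_g_rc_21_3 lc_g_Cert_tree lc_g_Cert_tree lc_g_rc_21_2 lc_g_rc_26_0 lc_g_Cert_tree lc_g_rc_21_2 lc_g_rc_23_1 lc_g_rc_21_2 lc_g_rc_27_3 lc_g_rc_26_3 lc_g_rc_21_2 lc_g_rc_24_1 lc_g_rc_21_3 lc_g_Cert_tree lc_g_rc_21_2 lc_g_Cert_tree lc_g_Cert_tree lc_g_rc_27_6 lc_g_rc_21_3 lc_g_Cert_tree lc_g_rc_21_2 lc_g_rc_26_0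 lc_g_rc_23_9 lc_g_rc_21_3 lc_g_rc_27_6 lc_g_rc_26_3 lc_g_rc_26_6 lc_g_rc_21_3 lc_g_Cert_tree lc_g_rc_27_9) (@D3.rec (fun _ => (Cert rels S Gen.g)) lc_g_rc_24_3 lc_g_rc_21_3 lc_g_Cert_tree lc_g_rc_27_0 lc_g_Cert_tree lc_g_rc_27_6 lc_g_rc_21_3 lc_g_rc_27_9 lc_g_rc_26_6 lc_g_rc_21_3 lc_g_rc_26_0 lc_g_Cert_tree lc_g_Cert_tree lc_g_rc_21_3 lc_g_rc_21_2 lc_g_Cert_tree lc_g_rc_21_2 lc_g_rc_24_9 lc_g_Cert_tree lc_g_rc_21_2 lc_g_rc_27_3 lc_g_Cert_tree lc_g_rc_26_9 lc_g_rc_27_3 lc_g_rc_24_1 lc_g_rc_21_3 lc_g_Cert_tree lc_g_rc_21_3 lc_g_Cert_tree lc_g_rc_21_2 lc_g_rc_21_3 lc_g_Cert_tree lc_g_rc_27_0 lc_g_rc_21_2 lc_g_Cert_tree lc_g_rc_27_3 lc_g_Cert_tree lc_g_rc_23_9 lc_g_rc_27_3 lc_g_rc_27_6 lc_g_rc_23_3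 lc_g_rc_24_3 lc_g_rc_27_3 lc_g_rc_23_1 lc_g_rc_21_3 lc_g_Cert_tree lc_g_rc_27_0 lc_g_rc_21_3 lc_g_rc_27_9 lc_g_rc_27_9 lc_g_rc_27_3 lc_g_rc_24_3 lc_g_rc_23_1 lc_g_rc_26_3 lc_g_rc_27_6 lc_g_rc_23_3 lc_g_rc_27_9 lc_g_rc_21_2 lc_g_rc_26_0 lc_g_Cert_tree lc_g_Cert_tree lc_g_Cert_tree)
def ce_g_9 : D2 → D3 → (Cert rels S Gen.g) := @D2.rec (fun _ => D3 → (Cert rels S Gen.g)) (@D3.rec (fun _ => (Cert rels S Gen.g)) lc_g_rc_23_1 lc_g_rc_23_3 lc_g_rc_26_3 lc_g_Cert_tree lc_g_rc_21_2 lc_g_rc_21_3 lc_g_rc_27_0 lc_g_rc_27_6 lc_g_rc_26_6 lc_g_rc_27_6 lc_g_rc_24_9 lc_g_rc_24_7 lc_g_rc_27_3 lc_g_rc_24_9 lc_g_rc_23_9 lc_g_rc_27_6 lc_g_rc_21_3 lc_g_Cert_tree lc_g_rc_21_3 lc_g_rc_21_3 lc_g_Cert_tree lc_g_rc_21_2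 lc_g_rc_27_9 lc_g_rc_27_9 lc_g_rc_21_2 lc_g_rc_24_1 lc_g_Cert_tree lc_g_rc_21_2 lc_g_rc_21_2 lc_g_Cert_tree lc_g_rc_21_2 lc_g_rc_21_2 lc_g_Cert_tree lc_g_rc_24_1 lc_g_rc_27_0 lc_g_Cert_tree lc_g_Cert_tree lc_g_rc_23_3 lc_g_Cert_tree lc_g_Cert_tree lc_g_rc_21_2 lc_g_Cert_tree lc_g_rc_23_7 lc_g_rc_27_6 lc_g_Cert_tree lc_g_rc_23_3 lc_g_rc_26_3 lc_g_rc_21_3 lc_g_Cert_tree lc_g_rc_21_2 lc_g_rc_21_2 lc_g_Cert_tree lc_g_Cert_tree lc_g_Cert_tree lc_g_rc_21_3 lc_g_Cert_tree lc_g_rc_21_2 lc_g_rc_21_3 lc_g_rc_21_2 lc_g_rc_27_6 lc_g_rc_27_6 lc_g_rc_26_6) (@D3.rec (fun _ => (Cert rels S Gen.g)) lc_g_Cert_tree lc_g_rc_27_6 lc_g_rc_26_6 lc_g_rc_21_3 lc_g_rc_27_0 lc_g_Cert_tree lc_g_rc_21_3 lc_g_Cert_tree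 lc_g_rc_27_3 lc_g_rc_27_6 lc_g_rc_21_3 lc_g_rc_24_3 lc_g_rc_27_6 lc_g_rc_21_3 lc_g_rc_27_3 lc_g_Cert_tree lc_g_rc_27_3 lc_g_rc_27_6 lc_g_Cert_tree lc_g_rc_23_1 lc_g_rc_21_2 lc_g_rc_23_9 lc_g_rc_21_2 lc_g_rc_26_3 lc_g_rc_21_3 lc_g_rc_27_3 lc_g_rc_24_1 lc_g_rc_21_3 lc_g_rc_21_2 lc_g_rc_24_7 lc_g_rc_21_3 lc_g_Cert_tree lc_g_rc_21_2 lc_g_Cert_tree lc_g_rc_27_9 lc_g_rc_27_3 lc_g_rc_24_1 lc_g_rc_24_3 lc_g_rc_21_2 lc_g_rc_27_6 lc_g_rc_21_3 lc_g_rc_21_2 lc_g_Cert_tree lc_g_rc_21_3 lc_g_Cert_tree lc_g_rc_21_2 lc_g_Cert_tree lc_g_rc_21_3 lc_g_Cert_tree lc_g_rc_27_6 lc_g_rc_21_2 lc_g_rc_23_3 lc_g_Cert_tree lc_g_rc_27_6 lc_g_rc_21_3 lc_g_Cert_tree lc_g_rc_21_2 lc_g_rc_23_1 lc_g_rc_26_9 lc_g_Cert_tree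 lc_g_rc_21_2 lc_g_rc_26_3) (@D3.rec (fun _ => (Cert rels S Gen.g)) lc_g_rc_21_3 lc_g_rc_21_2 lc_g_Cert_tree lc_g_rc_23_1 lc_g_rc_27_6 lc_g_rc_21_3 lc_g_Cert_tree lc_g_Cert_tree lc_g_rc_27_6 lc_g_rc_21_3 lc_g_Cert_tree lc_g_Cert_tree lc_g_rc_21_2 lc_g_Cert_tree lc_g_rc_21_3 lc_g_rc_27_9 lc_g_rc_21_3 lc_g_rc_21_3 lc_g_rc_27_0 lc_g_rc_21_3 lc_g_Cert_tree lc_g_rc_21_2 lc_g_Cert_tree lc_g_rc_23_1 lc_g_rc_26_9 lc_g_rc_21_3 lc_g_rc_24_1 lc_g_rc_23_7 lc_g_rc_24_3 lc_g_rc_21_2 lc_g_rc_23_3 lc_g_rc_21_2 lc_g_rc_21_2 lc_g_Cert_tree lc_g_rc_21_3 lc_g_rc_23_3 lc_g_rc_21_3 lc_g_Cert_tree lc_g_Cert_tree lc_g_rc_24_7 lc_g_Cert_tree lc_g_rc_21_2 lc_g_Cert_tree lc_g_rc_21_3 lc_g_Cert_tree lc_g_rc_21_2 lc_g_rc_21_3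 lc_g_Cert_tree lc_g_Cert_tree lc_g_rc_21_2 lc_g_rc_23_3 lc_g_rc_23_9 lc_g_Cert_tree lc_g_rc_27_6 lc_g_Cert_tree lc_g_rc_27_6 lc_g_rc_21_2 lc_g_rc_23_7 lc_g_rc_21_2 lc_g_Cert_tree lc_g_rc_24_9 lc_g_rc_27_9) (@D3.rec (fun _ => (Cert rels S Gen.g)) lc_g_rc_26_3 lc_g_Cert_tree lc_g_rc_24_1 lc_g_rc_24_9 lc_g_rc_21_2 lc_g_Cert_tree lc_g_rc_23_1 lc_g_rc_27_9 lc_g_rc_21_3 lc_g_Cert_tree lc_g_Cert_tree lc_g_rc_27_6 lc_g_rc_23_1 lc_g_rc_26_9 lc_g_rc_21_3 lc_g_rc_21_2 lc_g_rc_21_3 lc_g_rc_24_3 lc_g_rc_21_3 lc_g_Cert_tree lc_g_rc_25_19 lc_g_Cert_tree lc_g_rc_27_6 lc_g_rc_21_2 lc_g_rc_24_1 lc_g_rc_27_6 lc_g_Cert_tree lc_g_rc_27_6 lc_g_rc_21_3 lc_g_rc_26_9 lc_g_rc_24_3 lc_g_rc_21_3 lc_g_Cert_tree lc_g_Cert_tree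 lc_g_Cert_tree lc_g_rc_21_3 lc_g_Cert_tree lc_g_rc_21_2 lc_g_rc_26_3 lc_g_rc_27_6 lc_g_rc_26_3 lc_g_Cert_tree lc_g_Cert_tree lc_g_rc_27_9 lc_g_Cert_tree lc_g_rc_27_0 lc_g_Cert_tree lc_g_rc_21_2 lc_g_Cert_tree lc_g_rc_23_7 lc_g_rc_27_9 lc_g_Cert_tree lc_g_rc_21_2 lc_g_rc_21_2 lc_g_rc_21_3 lc_g_rc_21_2 lc_g_rc_21_3 lc_g_rc_27_0 lc_g_rc_21_3 lc_g_rc_27_6 lc_g_rc_24_1 lc_g_rc_21_3) (@D3.rec (fun _ => (Cert rels S Gen.g)) lc_g_Cert_tree lc_g_rc_21_2 lc_g_Cert_tree lc_g_Cert_tree lc_g_rc_24_1 lc_g_rc_27_6 lc_g_rc_21_3 lc_g_Cert_tree lc_g_Cert_tree lc_g_rc_21_2 lc_g_Cert_tree lc_g_Cert_tree lc_g_Cert_tree lc_g_Cert_tree lc_g_rc_21_2 lc_g_rc_21_2 lc_g_rc_24_7 lc_g_rc_21_3 lc_g_rc_27_0 lc_g_rc_21_2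 lc_g_rc_21_3 lc_g_Cert_tree lc_g_Cert_tree lc_g_rc_21_3 lc_g_Cert_tree lc_g_rc_21_2 lc_g_Cert_tree lc_g_rc_21_3 lc_g_Cert_tree lc_g_rc_21_2 lc_g_Cert_tree lc_g_rc_21_3 lc_g_Cert_tree lc_g_rc_21_2 lc_g_Cert_tree lc_g_rc_27_3 lc_g_rc_27_9 lc_g_rc_27_0 lc_g_rc_21_2 lc_g_rc_21_2 lc_g_rc_21_2 lc_g_rc_21_3 lc_g_Cert_tree lc_g_rc_23_9 lc_g_Cert_tree lc_g_Cert_tree lc_g_rc_21_3 lc_g_rc_23_9 lc_g_Cert_tree lc_g_rc_21_2 lc_g_rc_21_3 lc_g_Cert_tree lc_g_rc_21_3 lc_g_Cert_tree lc_g_rc_21_2 lc_g_rc_27_9 lc_g_Cert_tree lc_g_rc_27_6 lc_g_rc_24_3 lc_g_rc_24_1 lc_g_rc_21_3 lc_g_rc_21_2) (@D3.rec (fun _ => (Cert rels S Gen.g)) lc_g_Cert_tree lc_g_rc_21_2 lc_g_Cert_tree lc_g_rc_27_6 lc_g_rc_24_7 lc_g_Cert_tree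 lc_g_rc_21_2 lc_g_Cert_tree lc_g_rc_27_3 lc_g_rc_21_2 lc_g_rc_21_3 lc_g_Cert_tree lc_g_rc_27_6 lc_g_Cert_tree lc_g_rc_27_0 lc_g_rc_27_6 lc_g_rc_27_9 lc_g_rc_21_2 lc_g_rc_21_2 lc_g_rc_27_9 lc_g_rc_27_6 lc_g_rc_21_3 lc_g_Cert_tree lc_g_rc_26_9 lc_g_rc_27_6 lc_g_rc_21_3 lc_g_Cert_tree lc_g_rc_21_2 lc_g_rc_24_9 lc_g_rc_21_3 lc_g_Cert_tree lc_g_rc_21_3 lc_g_rc_24_3 lc_g_rc_26_9 lc_g_Cert_tree lc_g_rc_21_2 lc_g_rc_21_3 lc_g_Cert_tree lc_g_rc_27_0 lc_g_rc_21_2 lc_g_rc_21_3 lc_g_rc_21_2 lc_g_rc_27_6 lc_g_Cert_tree lc_g_rc_24_7 lc_g_rc_27_0 lc_g_rc_23_3 lc_g_Cert_tree lc_g_rc_27_3 lc_g_rc_21_2 lc_g_rc_27_0 lc_g_rc_21_3 lc_g_rc_21_2 lc_g_rc_26_0 lc_g_rc_21_2 lc_g_Cert_tree lc_g_rc_21_3 lc_g_Cert_tree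 lc_g_Cert_tree lc_g_rc_27_9 lc_g_rc_21_3 lc_g_rc_27_3) (@D3.rec (fun _ => (Cert rels S Gen.g)) lc_g_rc_21_3 lc_g_rc_21_3 lc_g_rc_27_0 lc_g_rc_26_0 lc_g_rc_26_6 lc_g_rc_26_6 lc_g_rc_21_3 lc_g_Cert_tree lc_g_rc_21_2 lc_g_rc_21_2 lc_g_rc_21_3 lc_g_rc_21_2 lc_g_rc_21_2 lc_g_rc_27_3 lc_g_Cert_tree lc_g_rc_21_2 lc_g_Cert_tree lc_g_rc_21_3 lc_g_Cert_tree lc_g_Cert_tree lc_g_rc_21_2 lc_g_Cert_tree lc_g_rc_21_2 lc_g_rc_21_3 lc_g_Cert_tree lc_g_Cert_tree lc_g_rc_21_2 lc_g_rc_26_0 lc_g_rc_26_9 lc_g_rc_27_9 lc_g_rc_21_3 lc_g_rc_26_0 lc_g_rc_24_7 lc_g_rc_27_3 lc_g_Cert_tree lc_g_rc_21_3 lc_g_Cert_tree lc_g_Cert_tree lc_g_rc_21_2 lc_g_rc_24_1 lc_g_rc_26_9 lc_g_rc_27_0 lc_g_rc_23_1 lc_g_rc_24_7 lc_g_Cert_tree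 lc_g_rc_21_3 lc_g_rc_24_7 lc_g_rc_21_3 lc_g_Cert_tree lc_g_Cert_tree lc_g_rc_21_2 lc_g_Cert_tree lc_g_rc_21_3 lc_g_rc_21_2 lc_g_rc_27_9 lc_g_rc_21_2 lc_g_rc_21_3 lc_g_Cert_tree lc_g_rc_24_7 lc_g_rc_21_3 lc_g_rc_26_3 lc_g_Cert_tree) (@D3.rec (fun _ => (Cert rels S Gen.g)) lc_g_rc_21_2 lc_g_rc_24_3 lc_g_rc_27_3 lc_g_rc_21_3 lc_g_Cert_tree lc_g_rc_21_3 lc_g_Cert_tree lc_g_Cert_tree lc_g_Cert_tree lc_g_Cert_tree lc_g_Cert_tree lc_g_Cert_tree lc_g_rc_26_0 lc_g_rc_24_9 lc_g_rc_27_6 lc_g_rc_21_2 lc_g_rc_21_3 lc_g_Cert_tree lc_g_rc_23_3 lc_g_rc_21_2 lc_g_rc_27_9 lc_g_rc_21_3 lc_g_rc_21_2 lc_g_rc_21_2 lc_g_rc_21_2 lc_g_rc_26_3 lc_g_Cert_tree lc_g_rc_26_9 lc_g_Cert_tree lc_g_rc_23_7 lc_g_rc_21_2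 lc_g_rc_21_3 lc_g_Cert_tree lc_g_rc_21_3 lc_g_Cert_tree lc_g_Cert_tree lc_g_rc_26_0 lc_g_rc_27_3 lc_g_Cert_tree lc_g_rc_21_3 lc_g_rc_26_0 lc_g_rc_27_6 lc_g_Cert_tree lc_g_Cert_tree lc_g_rc_24_3 lc_g_rc_21_3 lc_g_rc_21_3 lc_g_Cert_tree lc_g_Cert_tree lc_g_rc_24_1 lc_g_rc_21_2 lc_g_Cert_tree lc_g_Cert_tree lc_g_rc_21_2 lc_g_rc_26_6 lc_g_rc_21_2 lc_g_rc_21_3 lc_g_Cert_tree lc_g_rc_21_2 lc_g_rc_21_3 lc_g_rc_23_3 lc_g_Cert_tree) (@D3.rec (fun _ => (Cert rels S Gen.g)) lc_g_rc_23_3 lc_g_Cert_tree lc_g_Cert_tree lc_g_Cert_tree lc_g_rc_23_7 lc_g_rc_21_3 lc_g_Cert_tree lc_g_rc_21_2 lc_g_Cert_tree lc_g_rc_21_2 lc_g_rc_23_9 lc_g_Cert_tree lc_g_Cert_tree lc_g_rc_21_2 lc_g_rc_26_3 lc_g_rc_27_6 lc_g_Cert_tree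 lc_g_rc_24_9 lc_g_rc_26_9 lc_g_rc_23_7 lc_g_rc_21_3 lc_g_rc_21_2 lc_g_rc_21_2 lc_g_rc_24_9 lc_g_rc_27_6 lc_g_rc_23_1 lc_g_rc_26_0 lc_g_Cert_tree lc_g_rc_21_3 lc_g_Cert_tree lc_g_Cert_tree lc_g_rc_21_2 lc_g_rc_23_3 lc_g_rc_26_6 lc_g_rc_21_3 lc_g_Cert_tree lc_g_Cert_tree lc_g_rc_21_2 lc_g_rc_24_7 lc_g_Cert_tree lc_g_rc_26_3 lc_g_rc_21_3 lc_g_rc_27_0 lc_g_rc_26_0 lc_g_rc_21_3 lc_g_rc_26_6 lc_g_Cert_tree lc_g_rc_21_3 lc_g_rc_21_2 lc_g_rc_27_9 lc_g_Cert_tree lc_g_Cert_tree lc_g_Cert_tree lc_g_rc_21_2 lc_g_rc_24_9 lc_g_rc_21_2 lc_g_rc_24_7 lc_g_rc_27_0 lc_g_rc_21_3 lc_g_rc_24_7 lc_g_rc_27_6 lc_g_rc_24_7) (@D3.rec (fun _ => (Cert rels S Gen.g)) lc_g_rc_21_3 lc_g_Cert_tree lc_g_Cert_tree lc_g_rc_21_2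 lc_g_Cert_tree lc_g_rc_21_3 lc_g_rc_21_2 lc_g_rc_26_6 lc_g_Cert_tree lc_g_Cert_tree lc_g_rc_21_2 lc_g_rc_21_2 lc_g_rc_21_3 lc_g_rc_21_2 lc_g_rc_27_3 lc_g_Cert_tree lc_g_rc_21_3 lc_g_Cert_tree lc_g_rc_26_3 lc_g_rc_23_1 lc_g_rc_21_3 lc_g_rc_24_3 lc_g_rc_23_3 lc_g_rc_24_9 lc_g_rc_21_2 lc_g_rc_23_3 lc_g_rc_23_1 lc_g_rc_27_6 lc_g_rc_23_7 lc_g_rc_26_0 lc_g_rc_23_1 lc_g_rc_26_6 lc_g_rc_24_1 lc_g_Cert_tree lc_g_rc_24_9 lc_g_rc_24_9 lc_g_rc_26_0 lc_g_rc_21_3 lc_g_Cert_tree lc_g_rc_23_3 lc_g_rc_24_9 lc_g_rc_26_0 lc_g_rc_21_2 lc_g_rc_23_1 lc_g_Cert_tree lc_g_rc_24_7 lc_g_Cert_tree lc_g_rc_23_3 lc_g_rc_24_9 lc_g_rc_23_9 lc_g_rc_26_3 lc_g_rc_23_7 lc_g_rc_23_7 lc_g_rc_21_3 lc_g_rc_24_3 lc_g_rc_21_2 lc_g_rc_27_3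 lc_g_rc_21_2 lc_g_Cert_tree lc_g_rc_21_3 lc_g_Cert_tree lc_g_rc_21_2) (@D3.rec (fun _ => (Cert rels S Gen.g)) lc_g_Cert_tree lc_g_rc_26_3 lc_g_Cert_tree lc_g_rc_23_3 lc_g_Cert_tree lc_g_Cert_tree lc_g_rc_21_3 lc_g_Cert_tree lc_g_rc_21_2 lc_g_rc_26_9 lc_g_Cert_tree lc_g_rc_25_19 lc_g_rc_21_3 lc_g_rc_24_7 lc_g_rc_27_6 lc_g_rc_24_7 lc_g_Cert_tree lc_g_Cert_tree lc_g_rc_21_2 lc_g_rc_26_9 lc_g_rc_26_3 lc_g_Cert_tree lc_g_rc_23_1 lc_g_Cert_tree lc_g_rc_21_3 lc_g_Cert_tree lc_g_rc_21_2 lc_g_rc_27_6 lc_g_rc_26_3 lc_g_rc_21_3 lc_g_Cert_tree lc_g_Cert_tree lc_g_rc_21_2 lc_g_rc_23_3 lc_g_rc_26_0 lc_g_Cert_tree lc_g_rc_23_9 lc_g_rc_26_6 lc_g_rc_21_3 lc_g_rc_21_2 lc_g_rc_26_3 lc_g_Cert_tree lc_g_rc_27_3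 lc_g_rc_21_2 lc_g_rc_27_6 lc_g_rc_21_2 lc_g_rc_23_9 lc_g_Cert_tree lc_g_Cert_tree lc_g_rc_21_2 lc_g_rc_21_2 lc_g_rc_21_2 lc_g_rc_23_1 lc_g_rc_21_3 lc_g_Cert_tree lc_g_rc_21_2 lc_g_Cert_tree lc_g_Cert_tree lc_g_rc_26_6 lc_g_rc_21_3 lc_g_Cert_tree lc_g_Cert_tree) (@D3.rec (fun _ => (Cert rels S Gen.g)) lc_g_rc_21_2 lc_g_rc_26_6 lc_g_Cert_tree lc_g_rc_23_7 lc_g_rc_27_6 lc_g_rc_21_2 lc_g_rc_24_7 lc_g_rc_24_1 lc_g_rc_27_0 lc_g_rc_21_3 lc_g_rc_21_3 lc_g_Cert_tree lc_g_Cert_tree lc_g_Cert_tree lc_g_rc_26_3 lc_g_rc_21_3 lc_g_Cert_tree lc_g_rc_21_3 lc_g_Cert_tree lc_g_rc_21_2 lc_g_rc_21_2 lc_g_Cert_tree lc_g_rc_23_3 lc_g_rc_21_2 lc_g_rc_27_3 lc_g_rc_21_3 lc_g_Cert_tree lc_g_rc_21_2 lc_g_Cert_tree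 lc_g_Cert_tree lc_g_rc_21_3 lc_g_Cert_tree lc_g_rc_24_1 lc_g_rc_21_2 lc_g_rc_26_3 lc_g_Cert_tree lc_g_rc_26_9 lc_g_rc_27_3 lc_g_rc_21_3 lc_g_rc_26_6 lc_g_Cert_tree lc_g_rc_26_0 lc_g_rc_24_1 lc_g_rc_21_2 lc_g_Cert_tree lc_g_Cert_tree lc_g_rc_21_2 lc_g_rc_23_1 lc_g_Cert_tree lc_g_rc_25_19 lc_g_Cert_tree lc_g_rc_26_0 lc_g_rc_27_3 lc_g_rc_24_1 lc_g_rc_21_2 lc_g_rc_21_3 lc_g_Cert_tree lc_g_rc_26_3 lc_g_rc_21_3 lc_g_Cert_tree lc_g_Cert_tree lc_g_rc_21_2) (@D3.rec (fun _ => (Cert rels S Gen.g)) lc_g_rc_26_0 lc_g_Cert_tree lc_g_Cert_tree lc_g_rc_21_3 lc_g_rc_26_3 lc_g_rc_23_1 lc_g_rc_27_9 lc_g_rc_24_1 lc_g_rc_21_3 lc_g_Cert_tree lc_g_rc_23_7 lc_g_rc_21_2 lc_g_Cert_tree lc_g_rc_26_9 lc_g_rc_21_3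 lc_g_Cert_tree lc_g_Cert_tree lc_g_Cert_tree lc_g_rc_23_1 lc_g_Cert_tree lc_g_Cert_tree lc_g_rc_21_2 lc_g_Cert_tree lc_g_Cert_tree lc_g_rc_27_0 lc_g_Cert_tree lc_g_rc_21_3 lc_g_rc_26_6 lc_g_rc_21_2 lc_g_rc_24_3 lc_g_rc_21_2 lc_g_Cert_tree lc_g_rc_21_2 lc_g_rc_23_9 lc_g_rc_21_2 lc_g_rc_27_6 lc_g_rc_27_0 lc_g_rc_21_2 lc_g_rc_21_2 lc_g_Cert_tree lc_g_Cert_tree lc_g_Cert_tree lc_g_rc_21_2 lc_g_rc_21_3 lc_g_Cert_tree lc_g_Cert_tree lc_g_Cert_tree lc_g_rc_21_2 lc_g_rc_21_2 lc_g_rc_21_3 lc_g_Cert_tree lc_g_rc_23_1 lc_g_rc_21_2 lc_g_rc_21_2 lc_g_rc_21_2 lc_g_rc_26_3 lc_g_rc_21_2 lc_g_rc_21_3 lc_g_rc_21_3 lc_g_Cert_tree lc_g_Cert_tree lc_g_rc_21_2) (@D3.rec (fun _ => (Cert rels S Gen.g)) lc_g_rc_21_2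 lc_g_rc_26_3 lc_g_rc_27_3 lc_g_rc_21_2 lc_g_rc_21_2 lc_g_Cert_tree lc_g_rc_21_2 lc_g_Cert_tree lc_g_rc_23_3 lc_g_Cert_tree lc_g_rc_27_0 lc_g_rc_21_3 lc_g_rc_21_3 lc_g_rc_21_2 lc_g_rc_23_9 lc_g_rc_21_2 lc_g_rc_21_2 lc_g_rc_21_3 lc_g_Cert_tree lc_g_rc_21_2 lc_g_rc_21_2 lc_g_Cert_tree lc_g_rc_27_3 lc_g_rc_21_3 lc_g_Cert_tree lc_g_rc_21_3 lc_g_Cert_tree lc_g_Cert_tree lc_g_Cert_tree lc_g_rc_26_0 lc_g_rc_26_9 lc_g_Cert_tree lc_g_rc_21_3 lc_g_rc_21_2 lc_g_rc_27_0 lc_g_Cert_tree lc_g_Cert_tree lc_g_rc_26_6 lc_g_rc_27_0 lc_g_rc_21_2 lc_g_rc_26_0 lc_g_Cert_tree lc_g_rc_26_6 lc_g_rc_21_2 lc_g_rc_21_2 lc_g_rc_21_2 lc_g_rc_21_2 lc_g_rc_21_2 lc_g_rc_27_6 lc_g_rc_21_3 lc_g_Cert_tree lc_g_Cert_tree lc_g_rc_21_3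 lc_g_Cert_tree lc_g_rc_21_2 lc_g_rc_21_3 lc_g_Cert_tree lc_g_rc_21_2 lc_g_rc_21_2 lc_g_rc_24_7 lc_g_rc_27_6 lc_g_rc_27_3) (@D3.rec (fun _ => (Cert rels S Gen.g)) lc_g_rc_21_3 lc_g_rc_21_2 lc_g_rc_21_3 lc_g_Cert_tree lc_g_rc_21_2 lc_g_rc_24_9 lc_g_Cert_tree lc_g_rc_23_1 lc_g_rc_24_3 lc_g_rc_21_2 lc_g_Cert_tree lc_g_rc_21_3 lc_g_rc_26_3 lc_g_Cert_tree lc_g_rc_26_6 lc_g_rc_21_3 lc_g_rc_21_3 lc_g_Cert_tree lc_g_rc_21_2 lc_g_Cert_tree lc_g_rc_23_3 lc_g_rc_25_11 lc_g_rc_23_3 lc_g_rc_21_3 lc_g_Cert_tree lc_g_rc_21_2 lc_g_rc_21_3 lc_g_Cert_tree lc_g_rc_26_6 lc_g_Cert_tree lc_g_rc_21_3 lc_g_Cert_tree lc_g_rc_21_2 lc_g_Cert_tree lc_g_rc_21_2 lc_g_Cert_tree lc_g_rc_23_7 lc_g_rc_21_3 lc_g_Cert_tree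 lc_g_rc_21_2 lc_g_rc_21_2 lc_g_rc_21_2 lc_g_rc_23_3 lc_g_rc_23_3 lc_g_rc_21_3 lc_g_Cert_tree lc_g_rc_21_2 lc_g_Cert_tree lc_g_Cert_tree lc_g_rc_21_3 lc_g_Cert_tree lc_g_rc_21_2 lc_g_rc_21_3 lc_g_rc_27_9 lc_g_rc_24_1 lc_g_rc_21_2 lc_g_rc_21_2 lc_g_rc_27_6 lc_g_rc_21_3 lc_g_rc_21_2 lc_g_rc_21_2 lc_g_rc_21_2) (@D3.rec (fun _ => (Cert rels S Gen.g)) lc_g_Cert_tree lc_g_rc_21_2 lc_g_rc_21_2 lc_g_rc_27_3 lc_g_rc_21_2 lc_g_rc_27_6 lc_g_rc_21_3 lc_g_Cert_tree lc_g_rc_21_3 lc_g_rc_24_1 lc_g_Cert_tree lc_g_rc_21_3 lc_g_Cert_tree lc_g_rc_27_3 lc_g_Cert_tree lc_g_rc_21_2 lc_g_rc_27_3 lc_g_rc_21_2 lc_g_rc_24_9 lc_g_rc_21_2 lc_g_rc_21_3 lc_g_Cert_tree lc_g_rc_26_9 lc_g_rc_26_6 lc_g_rc_21_3 lc_g_Cert_tree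 lc_g_rc_23_9 lc_g_rc_21_3 lc_g_Cert_tree lc_g_rc_27_6 lc_g_rc_21_2 lc_g_Cert_tree lc_g_rc_26_9 lc_g_Cert_tree lc_g_Cert_tree lc_g_rc_27_9 lc_g_rc_27_0 lc_g_rc_21_3 lc_g_rc_27_9 lc_g_rc_25_15 lc_g_rc_21_2 lc_g_rc_21_3 lc_g_Cert_tree lc_g_rc_21_3 lc_g_rc_27_6 lc_g_rc_21_2 lc_g_rc_27_9 lc_g_rc_21_3 lc_g_Cert_tree lc_g_Cert_tree lc_g_Cert_tree lc_g_Cert_tree lc_g_rc_23_1 lc_g_rc_21_2 lc_g_rc_26_3 lc_g_rc_21_3 lc_g_Cert_tree lc_g_Cert_tree lc_g_Cert_tree lc_g_rc_21_3 lc_g_Cert_tree lc_g_rc_21_2) (@D3.rec (fun _ => (Cert rels S Gen.g)) lc_g_rc_21_2 lc_g_rc_26_0 lc_g_Cert_tree lc_g_rc_21_3 lc_g_Cert_tree lc_g_rc_23_7 lc_g_rc_21_2 lc_g_rc_26_9 lc_g_rc_27_3 lc_g_rc_26_9 lc_g_Cert_tree lc_g_rc_21_2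 lc_g_Cert_tree lc_g_rc_23_3 lc_g_rc_21_3 lc_g_Cert_tree lc_g_rc_21_2 lc_g_rc_21_2 lc_g_rc_21_2 lc_g_Cert_tree lc_g_rc_23_9 lc_g_rc_21_3 lc_g_Cert_tree lc_g_rc_21_2 lc_g_Cert_tree lc_g_Cert_tree lc_g_rc_21_3 lc_g_rc_21_3 lc_g_rc_26_6 lc_g_rc_21_2 lc_g_Cert_tree lc_g_rc_21_2 lc_g_rc_21_3 lc_g_Cert_tree lc_g_rc_21_2 lc_g_Cert_tree lc_g_rc_21_3 lc_g_Cert_tree lc_g_rc_23_7 lc_g_rc_23_9 lc_g_Cert_tree lc_g_Cert_tree lc_g_rc_21_3 lc_g_Cert_tree lc_g_rc_27_3 lc_g_rc_21_3 lc_g_Cert_tree lc_g_rc_23_7 lc_g_rc_21_3 lc_g_rc_26_6 lc_g_rc_27_9 lc_g_rc_21_2 lc_g_rc_21_3 lc_g_Cert_tree lc_g_rc_24_3 lc_g_rc_21_2 lc_g_rc_27_0 lc_g_Cert_tree lc_g_rc_23_7 lc_g_rc_21_2 lc_g_rc_26_3 lc_g_rc_27_6) (@D3.rec (fun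 _ => (Cert rels S Gen.g)) lc_g_rc_27_3 lc_g_rc_23_9 lc_g_rc_26_3 lc_g_rc_23_7 lc_g_rc_21_3 lc_g_Cert_tree lc_g_Cert_tree lc_g_rc_21_2 lc_g_rc_21_3 lc_g_Cert_tree lc_g_rc_21_3 lc_g_rc_21_3 lc_g_rc_21_3 lc_g_Cert_tree lc_g_rc_21_3 lc_g_Cert_tree lc_g_Cert_tree lc_g_rc_27_9 lc_g_rc_21_2 lc_g_Cert_tree lc_g_rc_24_7 lc_g_rc_21_2 lc_g_rc_21_2 lc_g_rc_27_0 lc_g_rc_24_1 lc_g_rc_21_2 lc_g_rc_24_7 lc_g_rc_23_3 lc_g_rc_21_3 lc_g_Cert_tree lc_g_rc_21_2 lc_g_rc_21_2 lc_g_rc_21_3 lc_g_rc_21_3 lc_g_rc_21_2 lc_g_rc_21_3 lc_g_Cert_tree lc_g_rc_27_6 lc_g_rc_26_6 lc_g_rc_23_3 lc_g_rc_27_0 lc_g_rc_26_3 lc_g_rc_27_3 lc_g_rc_26_6 lc_g_rc_24_3 lc_g_Cert_tree lc_g_rc_21_3 lc_g_rc_26_3 lc_g_rc_26_9 lc_g_rc_23_1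 lc_g_rc_26_6 lc_g_Cert_tree lc_g_rc_27_6 lc_g_rc_26_6 lc_g_rc_27_6 lc_g_rc_21_3 lc_g_Cert_tree lc_g_Cert_tree lc_g_rc_23_3 lc_g_rc_27_6 lc_g_Cert_tree lc_g_rc_21_2) (@D3.rec (fun _ => (Cert rels S Gen.g)) lc_g_Cert_tree lc_g_rc_21_2 lc_g_rc_23_1 lc_g_rc_21_2 lc_g_rc_27_0 lc_g_rc_21_3 lc_g_Cert_tree lc_g_rc_21_3 lc_g_rc_21_3 lc_g_Cert_tree lc_g_rc_21_3 lc_g_rc_26_3 lc_g_rc_26_6 lc_g_rc_23_7 lc_g_rc_27_6 lc_g_rc_27_0 lc_g_rc_27_6 lc_g_rc_21_3 lc_g_rc_24_3 lc_g_rc_27_9 lc_g_Cert_tree lc_g_Cert_tree lc_g_rc_21_2 lc_g_Cert_tree lc_g_Cert_tree lc_g_rc_21_3 lc_g_Cert_tree lc_g_rc_21_2 lc_g_rc_21_3 lc_g_Cert_tree lc_g_rc_26_3 lc_g_rc_24_7 lc_g_rc_23_1 lc_g_Cert_tree lc_g_rc_21_3 lc_g_rc_21_2 lc_g_rc_27_9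 lc_g_rc_21_3 lc_g_Cert_tree lc_g_rc_21_2 lc_g_Cert_tree lc_g_rc_21_2 lc_g_rc_27_6 lc_g_rc_27_6 lc_g_rc_27_6 lc_g_rc_21_2 lc_g_Cert_tree lc_g_Cert_tree lc_g_rc_26_3 lc_g_rc_26_3 lc_g_rc_21_3 lc_g_rc_21_2 lc_g_rc_21_3 lc_g_Cert_tree lc_g_rc_21_2 lc_g_rc_24_9 lc_g_rc_27_6 lc_g_Cert_tree lc_g_rc_21_3 lc_g_rc_21_2 lc_g_rc_27_6 lc_g_Cert_tree) (@D3.rec (fun _ => (Cert rels S Gen.g)) lc_g_rc_21_3 lc_g_Cert_tree lc_g_rc_21_2 lc_g_Cert_tree lc_g_rc_27_6 lc_g_Cert_tree lc_g_rc_21_2 lc_g_Cert_tree lc_g_rc_27_0 lc_g_rc_26_0 lc_g_rc_21_2 lc_g_rc_23_3 lc_g_rc_23_3 lc_g_rc_21_2 lc_g_rc_24_7 lc_g_rc_26_6 lc_g_rc_24_9 lc_g_Cert_tree lc_g_rc_27_3 lc_g_Cert_tree lc_g_rc_21_2 lc_g_rc_26_6 lc_g_rc_21_2 lc_g_rc_27_6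 lc_g_rc_27_3 lc_g_rc_27_3 lc_g_rc_24_3 lc_g_Cert_tree lc_g_Cert_tree lc_g_rc_21_3 lc_g_Cert_tree lc_g_rc_21_2 lc_g_rc_26_6 lc_g_Cert_tree lc_g_rc_27_0 lc_g_Cert_tree lc_g_rc_24_1 lc_g_rc_27_3 lc_g_rc_21_3 lc_g_Cert_tree lc_g_rc_21_2 lc_g_Cert_tree lc_g_rc_24_1 lc_g_Cert_tree lc_g_Cert_tree lc_g_rc_27_3 lc_g_rc_23_7 lc_g_Cert_tree lc_g_rc_27_3 lc_g_rc_21_2 lc_g_rc_24_3 lc_g_rc_24_3 lc_g_rc_26_6 lc_g_rc_21_3 lc_g_Cert_tree lc_g_Cert_tree lc_g_rc_27_6 lc_g_rc_27_6 lc_g_Cert_tree lc_g_rc_26_6 lc_g_rc_27_6 lc_g_Cert_tree) (@D3.rec (fun _ => (Cert rels S Gen.g)) lc_g_Cert_tree lc_g_rc_21_2 lc_g_rc_21_2 lc_g_rc_21_2 lc_g_rc_21_3 lc_g_Cert_tree lc_g_rc_24_1 lc_g_rc_24_9 lc_g_rc_27_9 lc_g_rc_23_1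 lc_g_rc_21_2 lc_g_rc_21_3 lc_g_Cert_tree lc_g_rc_21_2 lc_g_rc_24_7 lc_g_rc_23_1 lc_g_rc_23_9 lc_g_rc_21_2 lc_g_rc_21_2 lc_g_Cert_tree lc_g_rc_21_3 lc_g_rc_23_9 lc_g_Cert_tree lc_g_rc_27_6 lc_g_rc_23_7 lc_g_rc_23_9 lc_g_Cert_tree lc_g_rc_24_3 lc_g_Cert_tree lc_g_rc_21_3 lc_g_Cert_tree lc_g_rc_21_2 lc_g_rc_24_1 lc_g_rc_27_0 lc_g_Cert_tree lc_g_rc_24_9 lc_g_Cert_tree lc_g_rc_24_7 lc_g_rc_21_3 lc_g_Cert_tree lc_g_Cert_tree lc_g_rc_27_9 lc_g_Cert_tree lc_g_rc_27_0 lc_g_Cert_tree lc_g_rc_26_6 lc_g_rc_26_9 lc_g_rc_21_2 lc_g_rc_23_1 lc_g_rc_26_3 lc_g_Cert_tree lc_g_rc_26_9 lc_g_rc_26_0 lc_g_rc_27_0 lc_g_Cert_tree lc_g_rc_21_3 lc_g_rc_26_6 lc_g_Cert_tree lc_g_rc_21_2 lc_g_rc_23_3 lc_g_Cert_tree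 lc_g_rc_21_3) (@D3.rec (fun _ => (Cert rels S Gen.g)) lc_g_rc_21_3 lc_g_rc_21_3 lc_g_Cert_tree lc_g_Cert_tree lc_g_rc_21_2 lc_g_rc_21_3 lc_g_Cert_tree lc_g_rc_23_7 lc_g_rc_21_2 lc_g_rc_24_1 lc_g_rc_26_3 lc_g_Cert_tree lc_g_Cert_tree lc_g_Cert_tree lc_g_rc_21_2 lc_g_rc_21_2 lc_g_rc_27_9 lc_g_rc_24_3 lc_g_rc_23_7 lc_g_rc_21_3 lc_g_Cert_tree lc_g_Cert_tree lc_g_rc_21_2 lc_g_rc_26_6 lc_g_rc_27_9 lc_g_rc_21_2 lc_g_rc_23_3 lc_g_rc_21_3 lc_g_rc_27_9 lc_g_Cert_tree lc_g_Cert_tree lc_g_Cert_tree lc_g_rc_26_3 lc_g_Cert_tree lc_g_rc_24_7 lc_g_rc_26_3 lc_g_rc_21_2 lc_g_rc_23_1 lc_g_rc_21_3 lc_g_Cert_tree lc_g_rc_24_9 lc_g_rc_21_3 lc_g_rc_21_3 lc_g_Cert_tree lc_g_Cert_tree lc_g_Cert_tree lc_g_Cert_tree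 lc_g_Cert_tree lc_g_Cert_tree lc_g_Cert_tree lc_g_rc_21_2 lc_g_rc_21_3 lc_g_Cert_tree lc_g_Cert_tree lc_g_rc_21_2 lc_g_rc_26_6 lc_g_Cert_tree lc_g_rc_21_2 lc_g_Cert_tree lc_g_rc_21_2 lc_g_rc_21_3 lc_g_Cert_tree) (@D3.rec (fun _ => (Cert rels S Gen.g)) lc_g_rc_21_2 lc_g_Cert_tree lc_g_rc_23_7 lc_g_rc_24_7 lc_g_rc_23_9 lc_g_Cert_tree lc_g_rc_26_6 lc_g_rc_26_6 lc_g_Cert_tree lc_g_rc_27_3 lc_g_rc_21_2 lc_g_rc_21_3 lc_g_Cert_tree lc_g_rc_27_6 lc_g_rc_21_2 lc_g_rc_21_2 lc_g_rc_21_3 lc_g_Cert_tree lc_g_Cert_tree lc_g_rc_23_7 lc_g_rc_27_6 lc_g_rc_26_6 lc_g_Cert_tree lc_g_rc_21_3 lc_g_Cert_tree lc_g_Cert_tree lc_g_rc_21_2 lc_g_rc_23_3 lc_g_rc_21_3 lc_g_Cert_tree lc_g_rc_26_6 lc_g_rc_26_6 lc_g_rc_21_3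 lc_g_rc_26_9 lc_g_rc_21_3 lc_g_rc_21_3 lc_g_rc_21_2 lc_g_rc_21_3 lc_g_Cert_tree lc_g_rc_23_3 lc_g_rc_27_9 lc_g_rc_23_3 lc_g_rc_21_2 lc_g_rc_21_3 lc_g_Cert_tree lc_g_rc_26_9 lc_g_rc_23_9 lc_g_Cert_tree lc_g_rc_27_6 lc_g_rc_21_3 lc_g_rc_21_2 lc_g_rc_26_3 lc_g_rc_21_2 lc_g_Cert_tree lc_g_rc_21_2 lc_g_Cert_tree lc_g_rc_23_9 lc_g_Cert_tree lc_g_Cert_tree lc_g_Cert_tree lc_g_rc_26_6 lc_g_rc_21_3) (@D3.rec (fun _ => (Cert rels S Gen.g)) lc_g_Cert_tree lc_g_rc_21_2 lc_g_Cert_tree lc_g_rc_27_6 lc_g_rc_26_3 lc_g_rc_21_3 lc_g_Cert_tree lc_g_rc_21_2 lc_g_rc_24_1 lc_g_rc_27_6 lc_g_rc_23_9 lc_g_Cert_tree lc_g_rc_21_3 lc_g_rc_24_1 lc_g_Cert_tree lc_g_Cert_tree lc_g_rc_26_9 lc_g_rc_23_7 lc_g_rc_26_3 lc_g_rc_21_2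 lc_g_Cert_tree lc_g_rc_21_3 lc_g_Cert_tree lc_g_Cert_tree lc_g_rc_21_3 lc_g_Cert_tree lc_g_Cert_tree lc_g_rc_21_2 lc_g_rc_21_3 lc_g_Cert_tree lc_g_rc_21_2 lc_g_Cert_tree lc_g_rc_23_7 lc_g_rc_23_7 lc_g_rc_23_9 lc_g_rc_21_3 lc_g_Cert_tree lc_g_rc_24_7 lc_g_rc_21_2 lc_g_rc_26_0 lc_g_rc_23_3 lc_g_rc_21_2 lc_g_rc_23_3 lc_g_Cert_tree lc_g_rc_27_0 lc_g_rc_27_6 lc_g_rc_27_0 lc_g_Cert_tree lc_g_rc_26_3 lc_g_Cert_tree lc_g_rc_24_7 lc_g_rc_27_6 lc_g_Cert_tree lc_g_Cert_tree lc_g_Cert_tree lc_g_rc_23_3 lc_g_rc_21_3 lc_g_Cert_tree lc_g_rc_21_2 lc_g_rc_26_3 lc_g_Cert_tree lc_g_Cert_tree) (@D3.rec (fun _ => (Cert rels S Gen.g)) lc_g_rc_21_3 lc_g_Cert_tree lc_g_Cert_tree lc_g_rc_21_2 lc_g_rc_24_7 lc_g_rc_27_6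 lc_g_Cert_tree lc_g_rc_21_2 lc_g_rc_24_7 lc_g_rc_23_7 lc_g_Cert_tree lc_g_rc_21_2 lc_g_rc_23_7 lc_g_rc_23_9 lc_g_rc_21_3 lc_g_rc_21_3 lc_g_rc_21_3 lc_g_Cert_tree lc_g_rc_21_2 lc_g_rc_21_2 lc_g_rc_21_2 lc_g_Cert_tree lc_g_rc_21_2 lc_g_rc_23_3 lc_g_Cert_tree lc_g_Cert_tree lc_g_rc_24_3 lc_g_rc_26_9 lc_g_rc_21_3 lc_g_Cert_tree lc_g_rc_21_2 lc_g_rc_23_9 lc_g_rc_27_9 lc_g_rc_21_3 lc_g_rc_26_3 lc_g_rc_27_0 lc_g_rc_21_3 lc_g_rc_23_9 lc_g_rc_27_6 lc_g_rc_21_3 lc_g_rc_25_15 lc_g_rc_26_6 lc_g_Cert_tree lc_g_Cert_tree lc_g_rc_21_2 lc_g_rc_26_3 lc_g_Cert_tree lc_g_rc_24_1 lc_g_rc_23_7 lc_g_Cert_tree lc_g_rc_21_2 lc_g_rc_21_2 lc_g_rc_21_2 lc_g_rc_21_2 lc_g_rc_21_2 lc_g_rc_27_6 lc_g_rc_21_2 lc_g_rc_26_6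 lc_g_rc_26_0 lc_g_Cert_tree lc_g_Cert_tree lc_g_rc_27_3) (@D3.rec (fun _ => (Cert rels S Gen.g)) lc_g_rc_21_2 lc_g_rc_27_6 lc_g_rc_24_9 lc_g_Cert_tree lc_g_rc_26_6 lc_g_Cert_tree lc_g_rc_26_3 lc_g_rc_26_9 lc_g_rc_21_3 lc_g_rc_24_3 lc_g_rc_26_3 lc_g_rc_24_1 lc_g_Cert_tree lc_g_Cert_tree lc_g_rc_26_6 lc_g_Cert_tree lc_g_rc_23_1 lc_g_rc_25_7 lc_g_Cert_tree lc_g_rc_21_3 lc_g_Cert_tree lc_g_Cert_tree lc_g_rc_21_2 lc_g_rc_21_2 lc_g_rc_23_7 lc_g_rc_26_0 lc_g_rc_21_3 lc_g_rc_21_3 lc_g_rc_26_9 lc_g_rc_23_1 lc_g_rc_24_1 lc_g_rc_21_3 lc_g_rc_27_9 lc_g_Cert_tree lc_g_rc_27_6 lc_g_rc_21_3 lc_g_Cert_tree lc_g_Cert_tree lc_g_Cert_tree lc_g_rc_24_9 lc_g_rc_21_2 lc_g_rc_27_9 lc_g_Cert_tree lc_g_Cert_tree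 lc_g_rc_21_2 lc_g_Cert_tree lc_g_rc_26_0 lc_g_rc_24_3 lc_g_rc_24_9 lc_g_rc_23_9 lc_g_Cert_tree lc_g_rc_21_3 lc_g_rc_23_3 lc_g_rc_21_2 lc_g_rc_21_3 lc_g_rc_23_9 lc_g_rc_26_6 lc_g_rc_23_3 lc_g_rc_26_6 lc_g_rc_27_3 lc_g_Cert_tree lc_g_rc_21_3) (@D3.rec (fun _ => (Cert rels S Gen.g)) lc_g_Cert_tree lc_g_rc_27_3 lc_g_rc_21_2 lc_g_rc_24_7 lc_g_Cert_tree lc_g_rc_24_7 lc_g_Cert_tree lc_g_Cert_tree lc_g_Cert_tree lc_g_rc_21_3 lc_g_Cert_tree lc_g_rc_27_3 lc_g_rc_21_2 lc_g_rc_26_6 lc_g_rc_27_9 lc_g_rc_26_0 lc_g_rc_23_1 lc_g_rc_23_7 lc_g_rc_26_3 lc_g_rc_21_3 lc_g_Cert_tree lc_g_Cert_tree lc_g_rc_21_2 lc_g_rc_26_3 lc_g_Cert_tree lc_g_Cert_tree lc_g_rc_21_3 lc_g_Cert_tree lc_g_Cert_tree lc_g_rc_21_2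 lc_g_rc_23_3 lc_g_rc_21_3 lc_g_Cert_tree lc_g_rc_23_3 lc_g_rc_21_3 lc_g_Cert_tree lc_g_Cert_tree lc_g_rc_21_3 lc_g_Cert_tree lc_g_Cert_tree lc_g_rc_21_2 lc_g_rc_26_6 lc_g_Cert_tree lc_g_Cert_tree lc_g_rc_21_2 lc_g_rc_27_3 lc_g_rc_27_6 lc_g_Cert_tree lc_g_rc_21_3 lc_g_Cert_tree lc_g_Cert_tree lc_g_rc_21_2 lc_g_rc_21_2 lc_g_rc_21_3 lc_g_Cert_tree lc_g_Cert_tree lc_g_rc_21_3 lc_g_Cert_tree lc_g_Cert_tree lc_g_rc_21_3 lc_g_Cert_tree lc_g_rc_24_7) (@D3.rec (fun _ => (Cert rels S Gen.g)) lc_g_rc_27_0 lc_g_rc_27_3 lc_g_Cert_tree lc_g_rc_21_3 lc_g_rc_23_9 lc_g_Cert_tree lc_g_rc_26_6 lc_g_rc_21_2 lc_g_rc_21_3 lc_g_Cert_tree lc_g_rc_27_0 lc_g_Cert_tree lc_g_rc_21_2 lc_g_Cert_tree lc_g_rc_23_3 lc_g_rc_26_6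 lc_g_rc_21_2 lc_g_Cert_tree lc_g_rc_21_3 lc_g_Cert_tree lc_g_Cert_tree lc_g_rc_26_9 lc_g_rc_21_2 lc_g_rc_27_9 lc_g_rc_21_2 lc_g_rc_26_3 lc_g_Cert_tree lc_g_rc_21_2 lc_g_rc_21_2 lc_g_rc_27_3 lc_g_Cert_tree lc_g_Cert_tree lc_g_Cert_tree lc_g_rc_23_7 lc_g_Cert_tree lc_g_rc_23_7 lc_g_rc_21_3 lc_g_rc_21_2 lc_g_Cert_tree lc_g_Cert_tree lc_g_rc_27_3 lc_g_Cert_tree lc_g_rc_26_3 lc_g_Cert_tree lc_g_rc_23_1 lc_g_rc_24_1 lc_g_Cert_tree lc_g_rc_21_3 lc_g_rc_27_0 lc_g_rc_21_2 lc_g_rc_26_3 lc_g_rc_27_9 lc_g_rc_21_2 lc_g_rc_24_9 lc_g_rc_26_9 lc_g_rc_21_3 lc_g_rc_21_2 lc_g_rc_27_3 lc_g_rc_26_6 lc_g_Cert_tree lc_g_rc_27_6 lc_g_Cert_tree) (@D3.rec (fun _ => (Cert rels S Gen.g)) lc_g_rc_26_3 lc_g_Cert_tree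 lc_g_Cert_tree lc_g_Cert_tree lc_g_rc_21_3 lc_g_Cert_tree lc_g_Cert_tree lc_g_rc_23_7 lc_g_Cert_tree lc_g_rc_21_2 lc_g_rc_27_6 lc_g_rc_27_0 lc_g_Cert_tree lc_g_rc_21_2 lc_g_rc_27_3 lc_g_Cert_tree lc_g_rc_23_7 lc_g_Cert_tree lc_g_Cert_tree lc_g_rc_23_7 lc_g_rc_21_3 lc_g_Cert_tree lc_g_rc_21_2 lc_g_Cert_tree lc_g_rc_21_3 lc_g_Cert_tree lc_g_rc_21_2 lc_g_Cert_tree lc_g_rc_21_3 lc_g_Cert_tree lc_g_Cert_tree lc_g_Cert_tree lc_g_rc_26_3 lc_g_Cert_tree lc_g_rc_27_0 lc_g_Cert_tree lc_g_Cert_tree lc_g_rc_27_9 lc_g_rc_23_1 lc_g_rc_23_3 lc_g_rc_27_3 lc_g_Cert_tree lc_g_Cert_tree lc_g_rc_21_2 lc_g_rc_27_9 lc_g_Cert_tree lc_g_rc_21_3 lc_g_Cert_tree lc_g_rc_21_3 lc_g_Cert_tree lc_g_rc_27_6 lc_g_Cert_tree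 lc_g_rc_27_6 lc_g_Cert_tree lc_g_Cert_tree lc_g_Cert_tree lc_g_rc_23_7 lc_g_rc_21_3 lc_g_Cert_tree lc_g_rc_24_7 lc_g_Cert_tree lc_g_Cert_tree) (@D3.rec (fun _ => (Cert rels S Gen.g)) lc_g_rc_27_9 lc_g_rc_24_7 lc_g_rc_21_2 lc_g_Cert_tree lc_g_Cert_tree lc_g_rc_25_3 lc_g_Cert_tree lc_g_rc_26_6 lc_g_rc_23_7 lc_g_rc_21_2 lc_g_rc_27_6 lc_g_Cert_tree lc_g_Cert_tree lc_g_rc_26_9 lc_g_rc_21_2 lc_g_Cert_tree lc_g_Cert_tree lc_g_Cert_tree lc_g_Cert_tree lc_g_Cert_tree lc_g_Cert_tree lc_g_rc_24_1 lc_g_rc_21_2 lc_g_Cert_tree lc_g_Cert_tree lc_g_rc_21_2 lc_g_rc_21_3 lc_g_Cert_tree lc_g_rc_26_9 lc_g_rc_21_3 lc_g_rc_21_2 lc_g_rc_26_3 lc_g_rc_24_7 lc_g_rc_27_6 lc_g_rc_26_3 lc_g_Cert_tree lc_g_Cert_tree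 lc_g_Cert_tree lc_g_rc_21_2 lc_g_Cert_tree lc_g_Cert_tree lc_g_rc_27_6 lc_g_Cert_tree lc_g_Cert_tree lc_g_Cert_tree lc_g_rc_21_3 lc_g_rc_27_6 lc_g_Cert_tree lc_g_Cert_tree lc_g_rc_24_1 lc_g_Cert_tree lc_g_rc_26_6 lc_g_rc_21_2 lc_g_rc_21_2 lc_g_rc_21_3 lc_g_rc_21_2 lc_g_rc_26_6 lc_g_rc_23_7 lc_g_rc_21_3 lc_g_rc_24_1 lc_g_rc_21_3 lc_g_Cert_tree) (@D3.rec (fun _ => (Cert rels S Gen.g)) lc_g_rc_21_2 lc_g_Cert_tree lc_g_rc_27_3 lc_g_rc_21_3 lc_g_Cert_tree lc_g_rc_23_3 lc_g_rc_21_2 lc_g_rc_21_2 lc_g_rc_27_6 lc_g_rc_21_2 lc_g_rc_26_9 lc_g_rc_26_3 lc_g_rc_21_3 lc_g_Cert_tree lc_g_Cert_tree lc_g_rc_24_1 lc_g_rc_23_7 lc_g_rc_26_0 lc_g_rc_23_3 lc_g_Cert_tree lc_g_Cert_tree lc_g_rc_21_2 lc_g_rc_21_3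 lc_g_Cert_tree lc_g_rc_26_6 lc_g_rc_21_2 lc_g_rc_21_3 lc_g_rc_27_9 lc_g_rc_26_6 lc_g_rc_21_2 lc_g_Cert_tree lc_g_rc_21_2 lc_g_rc_21_3 lc_g_rc_21_3 lc_g_Cert_tree lc_g_rc_24_7 lc_g_rc_21_2 lc_g_rc_23_1 lc_g_rc_21_3 lc_g_rc_21_3 lc_g_rc_21_3 lc_g_Cert_tree lc_g_Cert_tree lc_g_rc_27_3 lc_g_rc_21_2 lc_g_Cert_tree lc_g_rc_23_9 lc_g_Cert_tree lc_g_rc_21_3 lc_g_rc_21_3 lc_g_Cert_tree lc_g_rc_27_6 lc_g_rc_21_3 lc_g_Cert_tree lc_g_Cert_tree lc_g_rc_26_3 lc_g_rc_24_1 lc_g_Cert_tree lc_g_rc_24_7 lc_g_rc_27_3 lc_g_rc_27_3 lc_g_rc_21_2) (@D3.rec (fun _ => (Cert rels S Gen.g)) lc_g_rc_26_9 lc_g_rc_21_3 lc_g_rc_26_0 lc_g_rc_24_3 lc_g_Cert_tree lc_g_Cert_tree lc_g_rc_21_3 lc_g_Cert_tree lc_g_Cert_tree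 lc_g_rc_24_7 lc_g_Cert_tree lc_g_rc_21_2 lc_g_rc_27_3 lc_g_rc_23_9 lc_g_rc_21_2 lc_g_rc_21_3 lc_g_rc_21_3 lc_g_Cert_tree lc_g_rc_24_3 lc_g_Cert_tree lc_g_Cert_tree lc_g_rc_24_7 lc_g_rc_27_6 lc_g_rc_23_1 lc_g_rc_26_6 lc_g_rc_27_6 lc_g_rc_21_3 lc_g_Cert_tree lc_g_rc_21_2 lc_g_rc_21_2 lc_g_rc_27_6 lc_g_rc_21_3 lc_g_Cert_tree lc_g_Cert_tree lc_g_Cert_tree lc_g_Cert_tree lc_g_rc_27_0 lc_g_Cert_tree lc_g_rc_27_0 lc_g_Cert_tree lc_g_rc_24_3 lc_g_rc_21_2 lc_g_rc_23_1 lc_g_rc_26_6 lc_g_rc_26_3 lc_g_Cert_tree lc_g_rc_21_2 lc_g_rc_24_7 lc_g_rc_27_0 lc_g_rc_24_7 lc_g_rc_21_3 lc_g_Cert_tree lc_g_rc_21_2 lc_g_Cert_tree lc_g_rc_21_3 lc_g_Cert_tree lc_g_rc_23_1 lc_g_Cert_tree lc_g_rc_24_7 lc_g_Cert_tree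 lc_g_rc_21_2 lc_g_rc_23_7) (@D3.rec (fun _ => (Cert rels S Gen.g)) lc_g_rc_21_2 lc_g_rc_23_7 lc_g_rc_21_3 lc_g_rc_21_2 lc_g_Cert_tree lc_g_rc_21_3 lc_g_Cert_tree lc_g_rc_21_3 lc_g_Cert_tree lc_g_rc_21_2 lc_g_Cert_tree lc_g_Cert_tree lc_g_rc_21_2 lc_g_rc_26_0 lc_g_rc_26_6 lc_g_Cert_tree lc_g_Cert_tree lc_g_Cert_tree lc_g_Cert_tree lc_g_rc_23_9 lc_g_rc_21_2 lc_g_Cert_tree lc_g_rc_24_3 lc_g_rc_21_3 lc_g_Cert_tree lc_g_rc_21_2 lc_g_rc_21_3 lc_g_rc_21_2 lc_g_rc_21_2 lc_g_rc_23_9 lc_g_rc_23_3 lc_g_rc_21_3 lc_g_rc_21_3 lc_g_rc_21_3 lc_g_rc_21_3 lc_g_rc_24_3 lc_g_Cert_tree lc_g_rc_23_1 lc_g_rc_21_2 lc_g_rc_24_9 lc_g_Cert_tree lc_g_rc_21_3 lc_g_rc_23_3 lc_g_Cert_tree lc_g_rc_21_2 lc_g_rc_27_3 lc_g_rc_21_3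 lc_g_Cert_tree lc_g_rc_24_7 lc_g_rc_25_11 lc_g_rc_21_2 lc_g_Cert_tree lc_g_rc_26_3 lc_g_rc_21_2 lc_g_rc_21_3 lc_g_Cert_tree lc_g_rc_21_2 lc_g_Cert_tree lc_g_rc_21_3 lc_g_rc_21_3 lc_g_Cert_tree lc_g_rc_21_2) (@D3.rec (fun _ => (Cert rels S Gen.g)) lc_g_Cert_tree lc_g_Cert_tree lc_g_rc_23_1 lc_g_rc_21_3 lc_g_Cert_tree lc_g_rc_21_2 lc_g_Cert_tree lc_g_rc_27_0 lc_g_rc_21_3 lc_g_Cert_tree lc_g_rc_21_3 lc_g_Cert_tree lc_g_rc_23_1 lc_g_rc_27_0 lc_g_rc_26_9 lc_g_Cert_tree lc_g_rc_26_3 lc_g_rc_21_3 lc_g_Cert_tree lc_g_Cert_tree lc_g_Cert_tree lc_g_rc_23_3 lc_g_Cert_tree lc_g_Cert_tree lc_g_rc_21_3 lc_g_rc_21_3 lc_g_Cert_tree lc_g_rc_21_2 lc_g_Cert_tree lc_g_rc_23_7 lc_g_rc_21_2 lc_g_rc_24_1 lc_g_rc_23_1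 lc_g_rc_23_1 lc_g_Cert_tree lc_g_Cert_tree lc_g_rc_26_3 lc_g_Cert_tree lc_g_rc_26_0 lc_g_rc_21_3 lc_g_Cert_tree lc_g_rc_21_2 lc_g_rc_23_3 lc_g_rc_23_1 lc_g_rc_24_1 lc_g_Cert_tree lc_g_rc_21_3 lc_g_Cert_tree lc_g_Cert_tree lc_g_rc_21_3 lc_g_Cert_tree lc_g_rc_24_9 lc_g_Cert_tree lc_g_rc_23_1 lc_g_Cert_tree lc_g_Cert_tree lc_g_rc_23_1 lc_g_Cert_tree lc_g_rc_27_6 lc_g_rc_27_0 lc_g_Cert_tree lc_g_Cert_tree) (@D3.rec (fun _ => (Cert rels S Gen.g)) lc_g_rc_21_2 lc_g_Cert_tree lc_g_rc_26_0 lc_g_Cert_tree lc_g_rc_21_2 lc_g_Cert_tree lc_g_rc_27_6 lc_g_rc_21_3 lc_g_Cert_tree lc_g_rc_21_2 lc_g_rc_24_1 lc_g_Cert_tree lc_g_rc_26_3 lc_g_rc_21_3 lc_g_rc_21_2 lc_g_Cert_tree lc_g_rc_24_3 lc_g_Cert_tree lc_g_rc_21_3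 lc_g_Cert_tree lc_g_rc_21_2 lc_g_Cert_tree lc_g_rc_23_7 lc_g_rc_21_2 lc_g_Cert_tree lc_g_rc_24_1 lc_g_rc_27_6 lc_g_rc_21_3 lc_g_Cert_tree lc_g_rc_26_3 lc_g_Cert_tree lc_g_Cert_tree lc_g_rc_23_3 lc_g_Cert_tree lc_g_rc_21_3 lc_g_Cert_tree lc_g_Cert_tree lc_g_rc_21_2 lc_g_rc_24_7 lc_g_rc_21_3 lc_g_rc_27_6 lc_g_rc_21_2 lc_g_Cert_tree lc_g_rc_23_7 lc_g_rc_26_0 lc_g_rc_27_6 lc_g_Cert_tree lc_g_rc_24_3 lc_g_rc_26_3 lc_g_rc_21_3 lc_g_rc_27_3 lc_g_Cert_tree lc_g_rc_26_3 lc_g_rc_26_6 lc_g_rc_21_2 lc_g_rc_21_3 lc_g_Cert_tree lc_g_rc_26_3 lc_g_Cert_tree lc_g_Cert_tree lc_g_Cert_tree lc_g_rc_21_3) (@D3.rec (fun _ => (Cert rels S Gen.g)) lc_g_Cert_tree lc_g_Cert_tree lc_g_rc_21_3 lc_g_rc_21_3 lc_g_Cert_tree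 lc_g_rc_21_2 lc_g_Cert_tree lc_g_rc_21_2 lc_g_rc_21_3 lc_g_Cert_tree lc_g_rc_21_2 lc_g_Cert_tree lc_g_Cert_tree lc_g_rc_23_1 lc_g_Cert_tree lc_g_Cert_tree lc_g_rc_21_3 lc_g_Cert_tree lc_g_rc_27_3 lc_g_rc_26_3 lc_g_rc_24_7 lc_g_rc_27_0 lc_g_rc_23_9 lc_g_rc_27_3 lc_g_rc_21_2 lc_g_Cert_tree lc_g_rc_21_3 lc_g_rc_26_3 lc_g_rc_21_3 lc_g_Cert_tree lc_g_Cert_tree lc_g_rc_21_2 lc_g_rc_21_3 lc_g_Cert_tree lc_g_rc_21_2 lc_g_rc_26_0 lc_g_rc_26_6 lc_g_rc_27_6 lc_g_rc_21_3 lc_g_Cert_tree lc_g_rc_23_3 lc_g_rc_27_6 lc_g_rc_27_0 lc_g_rc_26_3 lc_g_rc_23_3 lc_g_rc_27_3 lc_g_rc_21_3 lc_g_Cert_tree lc_g_rc_21_2 lc_g_Cert_tree lc_g_rc_26_6 lc_g_rc_23_1 lc_g_rc_24_3 lc_g_rc_27_3 lc_g_rc_24_3 lc_g_rc_21_3 lc_g_Cert_tree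 lc_g_rc_21_2 lc_g_rc_26_6 lc_g_Cert_tree lc_g_rc_27_6 lc_g_rc_21_3) (@D3.rec (fun _ => (Cert rels S Gen.g)) lc_g_rc_24_3 lc_g_rc_21_2 lc_g_Cert_tree lc_g_Cert_tree lc_g_rc_27_0 lc_g_rc_21_2 lc_g_rc_21_3 lc_g_rc_24_1 lc_g_Cert_tree lc_g_rc_21_3 lc_g_Cert_tree lc_g_Cert_tree lc_g_Cert_tree lc_g_rc_21_2 lc_g_Cert_tree lc_g_rc_26_6 lc_g_Cert_tree lc_g_rc_21_2 lc_g_Cert_tree lc_g_Cert_tree lc_g_Cert_tree lc_g_rc_21_3 lc_g_Cert_tree lc_g_rc_21_2 lc_g_Cert_tree lc_g_Cert_tree lc_g_rc_27_6 lc_g_rc_23_1 lc_g_rc_24_1 lc_g_rc_27_3 lc_g_rc_27_6 lc_g_rc_23_1 lc_g_rc_27_3 lc_g_rc_27_3 lc_g_rc_21_2 lc_g_rc_21_2 lc_g_rc_21_3 lc_g_Cert_tree lc_g_rc_21_2 lc_g_rc_26_6 lc_g_rc_26_3 lc_g_Cert_tree lc_g_Cert_tree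 lc_g_rc_21_3 lc_g_Cert_tree lc_g_rc_27_3 lc_g_rc_27_0 lc_g_Cert_tree lc_g_rc_27_0 lc_g_rc_27_9 lc_g_rc_21_3 lc_g_rc_23_9 lc_g_rc_27_3 lc_g_rc_27_0 lc_g_rc_27_9 lc_g_rc_24_3 lc_g_Cert_tree lc_g_rc_23_9 lc_g_rc_26_9 lc_g_rc_21_3 lc_g_rc_21_2 lc_g_Cert_tree) (@D3.rec (fun _ => (Cert rels S Gen.g)) lc_g_rc_21_2 lc_g_Cert_tree lc_g_rc_26_3 lc_g_Cert_tree lc_g_Cert_tree lc_g_rc_21_3 lc_g_rc_26_3 lc_g_rc_27_0 lc_g_rc_27_3 lc_g_rc_27_6 lc_g_rc_21_2 lc_g_rc_21_2 lc_g_rc_21_3 lc_g_Cert_tree lc_g_rc_26_0 lc_g_Cert_tree lc_g_rc_23_9 lc_g_rc_26_9 lc_g_rc_26_9 lc_g_rc_21_3 lc_g_rc_27_3 lc_g_rc_21_2 lc_g_rc_27_0 lc_g_rc_26_9 lc_g_rc_21_3 lc_g_Cert_tree lc_g_rc_21_3 lc_g_Cert_tree lc_g_rc_21_3 lc_g_rc_26_3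 lc_g_rc_27_9 lc_g_rc_27_0 lc_g_rc_21_3 lc_g_Cert_tree lc_g_rc_21_2 lc_g_rc_26_6 lc_g_Cert_tree lc_g_rc_21_2 lc_g_rc_27_3 lc_g_rc_21_3 lc_g_rc_27_9 lc_g_rc_27_0 lc_g_rc_21_3 lc_g_Cert_tree lc_g_rc_27_6 lc_g_rc_26_6 lc_g_rc_23_1 lc_g_rc_27_0 lc_g_rc_23_9 lc_g_rc_24_1 lc_g_rc_27_0 lc_g_rc_27_6 lc_g_rc_27_6 lc_g_rc_23_9 lc_g_rc_21_2 lc_g_rc_21_3 lc_g_Cert_tree lc_g_rc_21_2 lc_g_rc_21_3 lc_g_rc_27_9 lc_g_rc_24_7 lc_g_rc_21_3) (@D3.rec (fun _ => (Cert rels S Gen.g)) lc_g_Cert_tree lc_g_rc_21_2 lc_g_rc_26_6 lc_g_rc_26_6 lc_g_Cert_tree lc_g_rc_21_2 lc_g_rc_27_3 lc_g_rc_21_2 lc_g_rc_21_3 lc_g_Cert_tree lc_g_rc_21_2 lc_g_rc_23_9 lc_g_Cert_tree lc_g_rc_27_6 lc_g_rc_27_3 lc_g_rc_21_2 lc_g_rc_26_9 lc_g_Cert_tree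 lc_g_rc_27_0 lc_g_Cert_tree lc_g_rc_24_1 lc_g_rc_21_2 lc_g_rc_21_3 lc_g_Cert_tree lc_g_Cert_tree lc_g_rc_26_3 lc_g_rc_26_6 lc_g_rc_27_6 lc_g_rc_21_2 lc_g_rc_21_2 lc_g_rc_21_3 lc_g_Cert_tree lc_g_rc_21_2 lc_g_rc_21_3 lc_g_Cert_tree lc_g_Cert_tree lc_g_rc_27_3 lc_g_rc_27_6 lc_g_rc_27_3 lc_g_rc_27_3 lc_g_rc_26_6 lc_g_rc_27_9 lc_g_rc_21_3 lc_g_Cert_tree lc_g_rc_21_2 lc_g_rc_23_3 lc_g_Cert_tree lc_g_rc_27_3 lc_g_rc_21_2 lc_g_rc_27_3 lc_g_Cert_tree lc_g_rc_27_9 lc_g_rc_27_0 lc_g_rc_27_6 lc_g_rc_27_3 lc_g_rc_27_0 lc_g_rc_26_3 lc_g_rc_27_9 lc_g_rc_24_3 lc_g_Cert_tree lc_g_rc_21_2 lc_g_rc_27_6) (@D3.rec (fun _ => (Cert rels S Gen.g)) lc_g_rc_24_7 lc_g_rc_27_0 lc_g_rc_27_3 lc_g_rc_26_3 lc_g_rc_27_6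 lc_g_rc_24_9 lc_g_rc_21_3 lc_g_Cert_tree lc_g_rc_26_0 lc_g_Cert_tree lc_g_rc_27_0 lc_g_rc_26_9 lc_g_rc_26_0 lc_g_rc_21_2 lc_g_Cert_tree lc_g_rc_26_3 lc_g_rc_27_9 lc_g_rc_27_0 lc_g_rc_26_0 lc_g_rc_21_3 lc_g_rc_23_3 lc_g_rc_26_3 lc_g_rc_26_3 lc_g_rc_24_1 lc_g_Cert_tree lc_g_rc_27_0 lc_g_Cert_tree lc_g_rc_23_3 lc_g_rc_27_6 lc_g_rc_26_3 lc_g_rc_21_2 lc_g_rc_24_1 lc_g_rc_26_6 lc_g_rc_27_3 lc_g_rc_26_0 lc_g_Cert_tree lc_g_rc_21_3 lc_g_Cert_tree lc_g_rc_21_2 lc_g_Cert_tree lc_g_rc_23_9 lc_g_Cert_tree lc_g_rc_21_3 lc_g_Cert_tree lc_g_rc_21_2 lc_g_Cert_tree lc_g_rc_23_7 lc_g_rc_21_2 lc_g_Cert_tree lc_g_rc_23_7 lc_g_rc_21_2 lc_g_Cert_tree lc_g_Cert_tree lc_g_rc_23_3 lc_g_rc_26_6 lc_g_rc_26_6 lc_g_rc_21_3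 lc_g_Cert_tree lc_g_rc_23_3 lc_g_rc_23_7 lc_g_rc_21_2 lc_g_Cert_tree) (@D3.rec (fun _ => (Cert rels S Gen.g)) lc_g_rc_21_3 lc_g_rc_26_9 lc_g_rc_21_2 lc_g_rc_21_2 lc_g_Cert_tree lc_g_rc_23_7 lc_g_rc_26_0 lc_g_Cert_tree lc_g_rc_21_2 lc_g_Cert_tree lc_g_rc_21_3 lc_g_rc_21_2 lc_g_Cert_tree lc_g_rc_24_1 lc_g_Cert_tree lc_g_rc_21_3 lc_g_Cert_tree lc_g_rc_21_2 lc_g_Cert_tree lc_g_rc_21_2 lc_g_rc_21_2 lc_g_Cert_tree lc_g_rc_21_2 lc_g_rc_26_3 lc_g_Cert_tree lc_g_Cert_tree lc_g_rc_21_3 lc_g_Cert_tree lc_g_rc_26_6 lc_g_rc_21_3 lc_g_Cert_tree lc_g_rc_23_3 lc_g_Cert_tree lc_g_rc_21_2 lc_g_Cert_tree lc_g_Cert_tree lc_g_Cert_tree lc_g_rc_21_3 lc_g_rc_26_3 lc_g_Cert_tree lc_g_rc_21_3 lc_g_rc_21_2 lc_g_Cert_tree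 lc_g_rc_24_1 lc_g_rc_26_3 lc_g_Cert_tree lc_g_rc_27_3 lc_g_rc_23_7 lc_g_Cert_tree lc_g_rc_27_3 lc_g_rc_26_0 lc_g_Cert_tree lc_g_rc_24_1 lc_g_rc_24_3 lc_g_Cert_tree lc_g_Cert_tree lc_g_rc_26_3 lc_g_rc_26_6 lc_g_rc_21_3 lc_g_Cert_tree lc_g_rc_23_9 lc_g_rc_26_3) (@D3.rec (fun _ => (Cert rels S Gen.g)) lc_g_rc_27_6 lc_g_Cert_tree lc_g_rc_24_1 lc_g_rc_21_3 lc_g_Cert_tree lc_g_rc_26_0 lc_g_rc_27_6 lc_g_rc_21_2 lc_g_Cert_tree lc_g_rc_23_1 lc_g_rc_21_3 lc_g_Cert_tree lc_g_rc_24_9 lc_g_Cert_tree lc_g_rc_23_7 lc_g_Cert_tree lc_g_rc_21_3 lc_g_Cert_tree lc_g_rc_21_2 lc_g_Cert_tree lc_g_rc_23_7 lc_g_rc_26_3 lc_g_Cert_tree lc_g_rc_24_1 lc_g_rc_27_6 lc_g_rc_21_3 lc_g_Cert_tree lc_g_rc_26_9 lc_g_Cert_tree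 lc_g_Cert_tree lc_g_rc_23_3 lc_g_Cert_tree lc_g_rc_24_3 lc_g_Cert_tree lc_g_Cert_tree lc_g_rc_21_2 lc_g_rc_24_7 lc_g_rc_21_3 lc_g_Cert_tree lc_g_rc_21_2 lc_g_Cert_tree lc_g_rc_23_7 lc_g_rc_27_0 lc_g_rc_27_6 lc_g_Cert_tree lc_g_rc_21_3 lc_g_rc_21_2 lc_g_rc_21_3 lc_g_rc_21_2 lc_g_Cert_tree lc_g_rc_21_3 lc_g_Cert_tree lc_g_rc_27_3 lc_g_rc_21_3 lc_g_Cert_tree lc_g_rc_26_3 lc_g_Cert_tree lc_g_Cert_tree lc_g_Cert_tree lc_g_rc_21_3 lc_g_Cert_tree lc_g_Cert_tree) (@D3.rec (fun _ => (Cert rels S Gen.g)) lc_g_rc_24_3 lc_g_rc_27_6 lc_g_rc_21_3 lc_g_Cert_tree lc_g_rc_27_3 lc_g_rc_21_2 lc_g_Cert_tree lc_g_rc_26_3 lc_g_rc_21_3 lc_g_Cert_tree lc_g_rc_26_9 lc_g_Cert_tree lc_g_rc_23_1 lc_g_Cert_tree lc_g_Cert_tree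 lc_g_rc_21_3 lc_g_Cert_tree lc_g_rc_26_3 lc_g_rc_26_3 lc_g_Cert_tree lc_g_rc_27_6 lc_g_rc_27_6 lc_g_rc_27_3 lc_g_rc_27_6 lc_g_Cert_tree lc_g_rc_23_3 lc_g_rc_26_9 lc_g_rc_26_6 lc_g_Cert_tree lc_g_rc_21_2 lc_g_rc_26_6 lc_g_Cert_tree lc_g_rc_21_3 lc_g_Cert_tree lc_g_Cert_tree lc_g_rc_23_3 lc_g_rc_26_3 lc_g_Cert_tree lc_g_Cert_tree lc_g_rc_21_2 lc_g_rc_26_9 lc_g_rc_27_0 lc_g_rc_21_3 lc_g_Cert_tree lc_g_Cert_tree lc_g_rc_27_6 lc_g_rc_21_3 lc_g_Cert_tree lc_g_rc_21_2 lc_g_rc_26_6 lc_g_Cert_tree lc_g_rc_21_3 lc_g_rc_23_1 lc_g_Cert_tree lc_g_rc_21_2 lc_g_rc_21_2 lc_g_rc_21_3 lc_g_Cert_tree lc_g_rc_21_2 lc_g_rc_21_2 lc_g_rc_27_0 lc_g_rc_21_3) (@D3.rec (fun _ => (Cert rels S Gen.g)) lc_g_Cert_tree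 lc_g_rc_24_3 lc_g_rc_21_2 lc_g_rc_26_9 lc_g_rc_24_3 lc_g_rc_27_6 lc_g_rc_23_3 lc_g_rc_24_3 lc_g_rc_24_3 lc_g_Cert_tree lc_g_rc_23_9 lc_g_rc_26_6 lc_g_rc_26_6 lc_g_rc_26_6 lc_g_rc_26_6 lc_g_Cert_tree lc_g_rc_23_3 lc_g_Cert_tree lc_g_rc_21_2 lc_g_Cert_tree lc_g_rc_21_3 lc_g_Cert_tree lc_g_rc_23_1 lc_g_rc_26_9 lc_g_Cert_tree lc_g_rc_27_9 lc_g_rc_26_0 lc_g_rc_26_9 lc_g_rc_27_6 lc_g_rc_26_6 lc_g_rc_24_7 lc_g_rc_27_6 lc_g_rc_27_6 lc_g_rc_27_3 lc_g_rc_27_6 lc_g_rc_26_3 lc_g_rc_27_0 lc_g_rc_27_9 lc_g_rc_27_6 lc_g_rc_26_6 lc_g_rc_24_1 lc_g_rc_21_2 lc_g_rc_24_7 lc_g_rc_21_3 lc_g_Cert_tree lc_g_rc_21_2 lc_g_Cert_tree lc_g_rc_26_3 lc_g_Cert_tree lc_g_rc_26_3 lc_g_Cert_tree lc_g_rc_27_3 lc_g_rc_24_7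 lc_g_rc_21_3 lc_g_rc_21_3 lc_g_rc_27_0 lc_g_rc_27_3 lc_g_rc_27_6 lc_g_rc_26_3 lc_g_rc_21_2 lc_g_rc_26_3 lc_g_rc_23_3) (@D3.rec (fun _ => (Cert rels S Gen.g)) lc_g_rc_21_2 lc_g_rc_21_3 lc_g_Cert_tree lc_g_rc_21_2 lc_g_Cert_tree lc_g_rc_26_0 lc_g_rc_26_0 lc_g_rc_27_6 lc_g_rc_21_3 lc_g_rc_27_0 lc_g_rc_27_6 lc_g_rc_27_3 lc_g_rc_27_3 lc_g_rc_21_3 lc_g_rc_26_0 lc_g_rc_26_0 lc_g_Cert_tree lc_g_Cert_tree lc_g_rc_26_0 lc_g_rc_23_3 lc_g_Cert_tree lc_g_rc_26_6 lc_g_Cert_tree lc_g_Cert_tree lc_g_Cert_tree lc_g_rc_23_3 lc_g_rc_21_3 lc_g_Cert_tree lc_g_rc_27_3 lc_g_rc_27_3 lc_g_rc_27_9 lc_g_rc_23_1 lc_g_rc_27_3 lc_g_rc_21_3 lc_g_Cert_tree lc_g_rc_27_6 lc_g_Cert_tree lc_g_rc_27_3 lc_g_rc_24_7 lc_g_rc_21_2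 lc_g_rc_24_1 lc_g_Cert_tree lc_g_rc_23_7 lc_g_rc_26_3 lc_g_rc_27_3 lc_g_rc_27_3 lc_g_rc_21_2 lc_g_rc_24_3 lc_g_Cert_tree lc_g_rc_21_3 lc_g_Cert_tree lc_g_rc_21_2 lc_g_Cert_tree lc_g_Cert_tree lc_g_rc_24_1 lc_g_rc_21_3 lc_g_Cert_tree lc_g_rc_21_2 lc_g_rc_21_2 lc_g_rc_24_3 lc_g_Cert_tree lc_g_Cert_tree) (@D3.rec (fun _ => (Cert rels S Gen.g)) lc_g_rc_27_9 lc_g_rc_21_3 lc_g_Cert_tree lc_g_rc_21_2 lc_g_rc_21_2 lc_g_rc_21_2 lc_g_Cert_tree lc_g_rc_21_3 lc_g_Cert_tree lc_g_rc_21_2 lc_g_rc_26_6 lc_g_Cert_tree lc_g_rc_21_2 lc_g_rc_23_9 lc_g_rc_26_0 lc_g_Cert_tree lc_g_rc_26_3 lc_g_Cert_tree lc_g_rc_24_9 lc_g_rc_24_9 lc_g_rc_23_7 lc_g_Cert_tree lc_g_rc_24_7 lc_g_rc_21_3 lc_g_rc_21_3 lc_g_Cert_tree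 lc_g_rc_25_7 lc_g_rc_23_1 lc_g_rc_27_6 lc_g_rc_24_3 lc_g_rc_21_3 lc_g_rc_26_6 lc_g_rc_21_3 lc_g_rc_24_1 lc_g_rc_23_3 lc_g_rc_21_2 lc_g_rc_26_0 lc_g_Cert_tree lc_g_rc_21_3 lc_g_Cert_tree lc_g_Cert_tree lc_g_rc_21_2 lc_g_Cert_tree lc_g_Cert_tree lc_g_rc_27_3 lc_g_rc_21_2 lc_g_rc_27_6 lc_g_rc_26_3 lc_g_rc_26_9 lc_g_rc_21_3 lc_g_Cert_tree lc_g_rc_21_2 lc_g_Cert_tree lc_g_rc_25_19 lc_g_rc_21_2 lc_g_rc_21_3 lc_g_rc_21_3 lc_g_Cert_tree lc_g_rc_21_2 lc_g_rc_24_3 lc_g_Cert_tree lc_g_rc_24_9) (@D3.rec (fun _ => (Cert rels S Gen.g)) lc_g_Cert_tree lc_g_Cert_tree lc_g_rc_21_3 lc_g_rc_21_2 lc_g_Cert_tree lc_g_rc_21_3 lc_g_Cert_tree lc_g_rc_27_3 lc_g_rc_26_3 lc_g_Cert_tree lc_g_Cert_tree lc_g_Cert_tree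 lc_g_Cert_tree lc_g_rc_27_3 lc_g_rc_23_9 lc_g_rc_21_3 lc_g_Cert_tree lc_g_rc_27_0 lc_g_rc_21_3 lc_g_Cert_tree lc_g_rc_27_0 lc_g_rc_24_1 lc_g_rc_27_9 lc_g_rc_21_3 lc_g_Cert_tree lc_g_rc_21_2 lc_g_rc_23_1 lc_g_Cert_tree lc_g_Cert_tree lc_g_rc_23_1 lc_g_Cert_tree lc_g_rc_21_3 lc_g_Cert_tree lc_g_rc_21_2 lc_g_rc_27_3 lc_g_rc_23_3 lc_g_rc_21_3 lc_g_Cert_tree lc_g_rc_27_6 lc_g_Cert_tree lc_g_Cert_tree lc_g_rc_21_2 lc_g_rc_23_9 lc_g_Cert_tree lc_g_rc_27_6 lc_g_rc_27_6 lc_g_rc_27_9 lc_g_rc_21_3 lc_g_Cert_tree lc_g_rc_23_7 lc_g_rc_27_6 lc_g_rc_21_3 lc_g_Cert_tree lc_g_rc_21_3 lc_g_Cert_tree lc_g_rc_26_6 lc_g_Cert_tree lc_g_rc_23_1 lc_g_rc_26_0 lc_g_rc_27_9 lc_g_rc_23_9 lc_g_rc_21_3) (@D3.rec (fun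 _ => (Cert rels S Gen.g)) lc_g_Cert_tree lc_g_Cert_tree lc_g_rc_21_2 lc_g_rc_21_3 lc_g_Cert_tree lc_g_rc_24_1 lc_g_rc_27_6 lc_g_rc_24_9 lc_g_Cert_tree lc_g_rc_21_2 lc_g_Cert_tree lc_g_Cert_tree lc_g_rc_21_3 lc_g_Cert_tree lc_g_Cert_tree lc_g_Cert_tree lc_g_rc_24_3 lc_g_rc_27_6 lc_g_rc_21_2 lc_g_rc_26_3 lc_g_rc_24_9 lc_g_rc_21_2 lc_g_rc_21_3 lc_g_rc_26_9 lc_g_rc_26_0 lc_g_rc_26_0 lc_g_rc_26_3 lc_g_Cert_tree lc_g_rc_24_9 lc_g_rc_21_2 lc_g_rc_21_3 lc_g_rc_26_0 lc_g_rc_23_7 lc_g_rc_21_3 lc_g_Cert_tree lc_g_rc_26_3 lc_g_rc_23_7 lc_g_rc_26_0 lc_g_rc_26_3 lc_g_rc_26_0 lc_g_rc_21_3 lc_g_rc_21_2 lc_g_rc_21_2 lc_g_Cert_tree lc_g_rc_21_2 lc_g_Cert_tree lc_g_rc_24_7 lc_g_rc_27_6 lc_g_rc_24_3 lc_g_rc_21_2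 lc_g_rc_24_1 lc_g_rc_25_19 lc_g_rc_24_1 lc_g_Cert_tree lc_g_Cert_tree lc_g_rc_26_9 lc_g_rc_25_3 lc_g_rc_21_3 lc_g_rc_21_3 lc_g_rc_21_2 lc_g_Cert_tree lc_g_rc_21_2) (@D3.rec (fun _ => (Cert rels S Gen.g)) lc_g_rc_21_3 lc_g_rc_24_7 lc_g_Cert_tree lc_g_rc_21_2 lc_g_Cert_tree lc_g_rc_25_19 lc_g_Cert_tree lc_g_rc_21_2 lc_g_rc_27_6 lc_g_rc_24_1 lc_g_rc_27_6 lc_g_rc_24_9 lc_g_Cert_tree lc_g_rc_24_9 lc_g_rc_21_2 lc_g_rc_26_3 lc_g_Cert_tree lc_g_rc_21_2 lc_g_rc_26_0 lc_g_rc_27_9 lc_g_rc_21_2 lc_g_rc_21_3 lc_g_Cert_tree lc_g_rc_21_3 lc_g_Cert_tree lc_g_rc_26_9 lc_g_rc_21_2 lc_g_rc_26_6 lc_g_rc_24_3 lc_g_rc_21_3 lc_g_rc_21_3 lc_g_Cert_tree lc_g_rc_27_3 lc_g_rc_21_2 lc_g_rc_27_6 lc_g_rc_21_2 lc_g_rc_21_2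 lc_g_Cert_tree lc_g_Cert_tree lc_g_rc_21_2 lc_g_rc_24_3 lc_g_rc_21_2 lc_g_rc_24_7 lc_g_rc_21_3 lc_g_Cert_tree lc_g_Cert_tree lc_g_rc_23_7 lc_g_rc_21_2 lc_g_rc_27_3 lc_g_rc_27_6 lc_g_rc_26_6 lc_g_rc_27_6 lc_g_rc_27_3 lc_g_rc_21_2 lc_g_rc_21_3 lc_g_rc_21_3 lc_g_Cert_tree lc_g_Cert_tree lc_g_Cert_tree lc_g_Cert_tree lc_g_rc_21_2 lc_g_rc_26_6) (@D3.rec (fun _ => (Cert rels S Gen.g)) lc_g_rc_21_3 lc_g_rc_26_9 lc_g_rc_26_0 lc_g_rc_21_3 lc_g_Cert_tree lc_g_Cert_tree lc_g_rc_21_2 lc_g_Cert_tree lc_g_rc_27_0 lc_g_rc_26_3 lc_g_Cert_tree lc_g_rc_21_2 lc_g_rc_27_6 lc_g_rc_24_1 lc_g_Cert_tree lc_g_Cert_tree lc_g_rc_21_3 lc_g_Cert_tree lc_g_Cert_tree lc_g_rc_26_9 lc_g_rc_21_2 lc_g_rc_21_2 lc_g_rc_23_1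 lc_g_Cert_tree lc_g_rc_21_2 lc_g_rc_26_6 lc_g_rc_26_3 lc_g_rc_21_3 lc_g_rc_24_1 lc_g_rc_27_6 lc_g_rc_23_3 lc_g_rc_27_3 lc_g_Cert_tree lc_g_Cert_tree lc_g_rc_21_3 lc_g_Cert_tree lc_g_rc_27_3 lc_g_rc_26_9 lc_g_rc_26_9 lc_g_Cert_tree lc_g_rc_24_9 lc_g_rc_21_2 lc_g_Cert_tree lc_g_rc_21_2 lc_g_rc_23_3 lc_g_Cert_tree lc_g_Cert_tree lc_g_Cert_tree lc_g_rc_21_2 lc_g_rc_21_3 lc_g_Cert_tree lc_g_rc_21_2 lc_g_rc_21_2 lc_g_rc_27_6 lc_g_rc_24_1 lc_g_rc_26_9 lc_g_rc_24_1 lc_g_Cert_tree lc_g_rc_26_9 lc_g_rc_23_3 lc_g_rc_21_3 lc_g_Cert_tree) (@D3.rec (fun _ => (Cert rels S Gen.g)) lc_g_Cert_tree lc_g_rc_21_2 lc_g_Cert_tree lc_g_Cert_tree lc_g_Cert_tree lc_g_rc_24_3 lc_g_rc_26_3 lc_g_rc_21_2 lc_g_rc_21_3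 lc_g_Cert_tree lc_g_rc_24_7 lc_g_rc_21_2 lc_g_rc_21_3 lc_g_Cert_tree lc_g_Cert_tree lc_g_Cert_tree lc_g_Cert_tree lc_g_rc_21_3 lc_g_Cert_tree lc_g_rc_21_2 lc_g_Cert_tree lc_g_rc_21_2 lc_g_Cert_tree lc_g_Cert_tree lc_g_Cert_tree lc_g_rc_27_3 lc_g_Cert_tree lc_g_rc_21_3 lc_g_Cert_tree lc_g_rc_23_7 lc_g_rc_27_0 lc_g_rc_27_0 lc_g_rc_21_3 lc_g_Cert_tree lc_g_rc_21_3 lc_g_Cert_tree lc_g_rc_27_9 lc_g_rc_21_3 lc_g_rc_21_3 lc_g_Cert_tree lc_g_rc_26_3 lc_g_rc_27_9 lc_g_rc_24_3 lc_g_rc_24_1 lc_g_rc_24_7 lc_g_Cert_tree lc_g_rc_24_7 lc_g_Cert_tree lc_g_rc_21_3 lc_g_Cert_tree lc_g_Cert_tree lc_g_rc_23_7 lc_g_rc_27_9 lc_g_rc_27_9 lc_g_rc_23_3 lc_g_rc_21_3 lc_g_Cert_tree lc_g_rc_23_3 lc_g_rc_24_3 lc_g_rc_26_6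 lc_g_rc_26_3 lc_g_rc_21_3) (@D3.rec (fun _ => (Cert rels S Gen.g)) lc_g_rc_26_6 lc_g_Cert_tree lc_g_rc_21_2 lc_g_rc_21_3 lc_g_rc_25_11 lc_g_rc_21_2 lc_g_rc_26_6 lc_g_rc_21_2 lc_g_rc_21_3 lc_g_Cert_tree lc_g_rc_21_2 lc_g_rc_26_3 lc_g_rc_21_2 lc_g_rc_27_6 lc_g_rc_27_6 lc_g_rc_21_3 lc_g_Cert_tree lc_g_rc_21_2 lc_g_Cert_tree lc_g_rc_24_9 lc_g_rc_21_3 lc_g_rc_26_0 lc_g_rc_27_6 lc_g_rc_23_9 lc_g_Cert_tree lc_g_Cert_tree lc_g_rc_27_6 lc_g_rc_26_0 lc_g_rc_27_6 lc_g_rc_21_2 lc_g_rc_23_7 lc_g_rc_21_2 lc_g_rc_26_6 lc_g_rc_23_7 lc_g_rc_27_6 lc_g_rc_21_3 lc_g_Cert_tree lc_g_rc_21_2 lc_g_rc_21_2 lc_g_rc_21_3 lc_g_Cert_tree lc_g_Cert_tree lc_g_Cert_tree lc_g_rc_23_3 lc_g_rc_23_9 lc_g_rc_21_2 lc_g_rc_21_3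 lc_g_Cert_tree lc_g_rc_21_2 lc_g_Cert_tree lc_g_rc_21_3 lc_g_Cert_tree lc_g_rc_23_1 lc_g_Cert_tree lc_g_Cert_tree lc_g_rc_21_3 lc_g_Cert_tree lc_g_rc_21_3 lc_g_rc_21_3 lc_g_rc_26_3 lc_g_rc_23_9 lc_g_Cert_tree) (@D3.rec (fun _ => (Cert rels S Gen.g)) lc_g_Cert_tree lc_g_rc_21_2 lc_g_Cert_tree lc_g_rc_23_7 lc_g_rc_26_9 lc_g_Cert_tree lc_g_rc_23_7 lc_g_rc_24_7 lc_g_Cert_tree lc_g_Cert_tree lc_g_rc_21_3 lc_g_Cert_tree lc_g_rc_26_3 lc_g_rc_21_3 lc_g_Cert_tree lc_g_Cert_tree lc_g_rc_21_2 lc_g_rc_24_1 lc_g_Cert_tree lc_g_rc_27_6 lc_g_Cert_tree lc_g_Cert_tree lc_g_rc_21_3 lc_g_rc_26_9 lc_g_rc_21_3 lc_g_Cert_tree lc_g_rc_24_9 lc_g_Cert_tree lc_g_rc_27_0 lc_g_rc_27_3 lc_g_Cert_tree lc_g_rc_24_3 lc_g_Cert_tree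 lc_g_rc_27_6 lc_g_Cert_tree lc_g_rc_21_2 lc_g_Cert_tree lc_g_rc_23_9 lc_g_rc_27_6 lc_g_Cert_tree lc_g_rc_23_7 lc_g_rc_24_1 lc_g_rc_25_7 lc_g_rc_23_7 lc_g_rc_27_6 lc_g_rc_21_3 lc_g_Cert_tree lc_g_rc_21_2 lc_g_Cert_tree lc_g_rc_25_15 lc_g_rc_23_3 lc_g_Cert_tree lc_g_Cert_tree lc_g_rc_21_2 lc_g_rc_21_2 lc_g_rc_26_3 lc_g_rc_27_0 lc_g_rc_27_6 lc_g_rc_26_0 lc_g_rc_21_3 lc_g_Cert_tree lc_g_rc_27_6) (@D3.rec (fun _ => (Cert rels S Gen.g)) lc_g_rc_26_0 lc_g_Cert_tree lc_g_rc_21_3 lc_g_rc_27_6 lc_g_rc_21_3 lc_g_Cert_tree lc_g_rc_21_2 lc_g_Cert_tree lc_g_Cert_tree lc_g_rc_21_2 lc_g_rc_24_3 lc_g_rc_21_2 lc_g_rc_21_2 lc_g_rc_23_9 lc_g_Cert_tree lc_g_Cert_tree lc_g_Cert_tree lc_g_rc_24_1 lc_g_Cert_tree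 lc_g_rc_23_7 lc_g_rc_21_3 lc_g_Cert_tree lc_g_rc_26_6 lc_g_Cert_tree lc_g_rc_21_2 lc_g_rc_26_0 lc_g_Cert_tree lc_g_rc_21_3 lc_g_Cert_tree lc_g_Cert_tree lc_g_rc_23_1 lc_g_Cert_tree lc_g_Cert_tree lc_g_rc_21_3 lc_g_Cert_tree lc_g_Cert_tree lc_g_rc_21_2 lc_g_rc_23_1 lc_g_rc_27_3 lc_g_rc_23_9 lc_g_rc_27_3 lc_g_rc_27_6 lc_g_rc_27_9 lc_g_Cert_tree lc_g_rc_21_2 lc_g_rc_21_3 lc_g_Cert_tree lc_g_rc_21_2 lc_g_Cert_tree lc_g_rc_24_1 lc_g_rc_27_6 lc_g_rc_24_3 lc_g_Cert_tree lc_g_rc_24_1 lc_g_rc_21_2 lc_g_rc_21_3 lc_g_rc_27_0 lc_g_rc_21_3 lc_g_rc_21_3 lc_g_Cert_tree lc_g_rc_21_2 lc_g_Cert_tree) (@D3.rec (fun _ => (Cert rels S Gen.g)) lc_g_Cert_tree lc_g_rc_27_3 lc_g_rc_23_1 lc_g_Cert_tree lc_g_Cert_tree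 lc_g_Cert_tree lc_g_rc_21_2 lc_g_rc_21_3 lc_g_Cert_tree lc_g_rc_21_2 lc_g_Cert_tree lc_g_rc_24_7 lc_g_rc_21_2 lc_g_rc_23_1 lc_g_rc_27_6 lc_g_rc_21_2 lc_g_rc_26_3 lc_g_rc_26_3 lc_g_rc_27_3 lc_g_Cert_tree lc_g_rc_23_3 lc_g_rc_21_2 lc_g_Cert_tree lc_g_rc_21_2 lc_g_rc_23_7 lc_g_rc_26_6 lc_g_Cert_tree lc_g_rc_21_3 lc_g_Cert_tree lc_g_Cert_tree lc_g_rc_21_3 lc_g_rc_21_2 lc_g_Cert_tree lc_g_rc_25_7 lc_g_Cert_tree lc_g_rc_23_9 lc_g_Cert_tree lc_g_Cert_tree lc_g_Cert_tree lc_g_rc_21_3 lc_g_Cert_tree lc_g_rc_21_2 lc_g_Cert_tree lc_g_rc_21_3 lc_g_Cert_tree lc_g_rc_24_1 lc_g_rc_21_3 lc_g_rc_27_6 lc_g_rc_27_9 lc_g_rc_27_9 lc_g_rc_27_6 lc_g_rc_24_1 lc_g_rc_23_3 lc_g_Cert_tree lc_g_rc_23_1 lc_g_Cert_tree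 lc_g_rc_27_9 lc_g_rc_23_9 lc_g_Cert_tree lc_g_rc_24_3 lc_g_rc_27_6 lc_g_Cert_tree) (@D3.rec (fun _ => (Cert rels S Gen.g)) lc_g_rc_21_2 lc_g_Cert_tree lc_g_rc_24_1 lc_g_rc_27_6 lc_g_rc_25_11 lc_g_rc_23_3 lc_g_rc_27_6 lc_g_rc_21_3 lc_g_Cert_tree lc_g_rc_21_2 lc_g_Cert_tree lc_g_Cert_tree lc_g_Cert_tree lc_g_rc_21_3 lc_g_Cert_tree lc_g_Cert_tree lc_g_rc_21_2 lc_g_rc_27_3 lc_g_Cert_tree lc_g_rc_21_3 lc_g_rc_27_6 lc_g_rc_27_0 lc_g_Cert_tree lc_g_rc_24_3 lc_g_rc_26_6 lc_g_rc_27_0 lc_g_Cert_tree lc_g_rc_21_3 lc_g_Cert_tree lc_g_rc_26_3 lc_g_rc_25_7 lc_g_Cert_tree lc_g_rc_27_6 lc_g_rc_21_3 lc_g_Cert_tree lc_g_rc_23_7 lc_g_rc_21_2 lc_g_rc_21_3 lc_g_rc_24_7 lc_g_rc_23_1 lc_g_rc_21_3 lc_g_Cert_tree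 lc_g_rc_21_2 lc_g_Cert_tree lc_g_rc_27_6 lc_g_rc_23_7 lc_g_rc_21_3 lc_g_Cert_tree lc_g_rc_27_6 lc_g_rc_27_6 lc_g_rc_21_2 lc_g_Cert_tree lc_g_Cert_tree lc_g_rc_21_3 lc_g_rc_21_2 lc_g_rc_21_3 lc_g_Cert_tree lc_g_rc_21_2 lc_g_Cert_tree lc_g_rc_21_3 lc_g_rc_27_6 lc_g_rc_21_2) (@D3.rec (fun _ => (Cert rels S Gen.g)) lc_g_Cert_tree lc_g_rc_21_3 lc_g_Cert_tree lc_g_rc_24_9 lc_g_rc_21_2 lc_g_rc_23_7 lc_g_rc_27_3 lc_g_rc_23_3 lc_g_rc_21_3 lc_g_Cert_tree lc_g_Cert_tree lc_g_rc_21_3 lc_g_Cert_tree lc_g_rc_21_3 lc_g_Cert_tree lc_g_rc_21_2 lc_g_rc_23_7 lc_g_rc_26_3 lc_g_rc_24_3 lc_g_rc_23_9 lc_g_Cert_tree lc_g_rc_27_6 lc_g_rc_23_1 lc_g_Cert_tree lc_g_rc_21_2 lc_g_rc_21_2 lc_g_Cert_tree lc_g_rc_23_9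 lc_g_rc_21_3 lc_g_Cert_tree lc_g_rc_24_3 lc_g_rc_27_6 lc_g_Cert_tree lc_g_rc_24_3 lc_g_Cert_tree lc_g_Cert_tree lc_g_rc_21_2 lc_g_Cert_tree lc_g_rc_23_7 lc_g_rc_21_3 lc_g_Cert_tree lc_g_rc_24_1 lc_g_rc_21_2 lc_g_rc_21_3 lc_g_Cert_tree lc_g_rc_21_2 lc_g_Cert_tree lc_g_Cert_tree lc_g_Cert_tree lc_g_rc_21_3 lc_g_Cert_tree lc_g_rc_21_2 lc_g_rc_26_0 lc_g_rc_21_3 lc_g_rc_27_3 lc_g_Cert_tree lc_g_Cert_tree lc_g_rc_23_7 lc_g_rc_21_2 lc_g_Cert_tree lc_g_rc_24_1 lc_g_rc_27_6) (@D3.rec (fun _ => (Cert rels S Gen.g)) lc_g_Cert_tree lc_g_Cert_tree lc_g_rc_23_7 lc_g_rc_27_6 lc_g_rc_21_2 lc_g_rc_27_6 lc_g_rc_21_3 lc_g_Cert_tree lc_g_Cert_tree lc_g_rc_26_6 lc_g_rc_21_2 lc_g_rc_26_3 lc_g_rc_21_2 lc_g_rc_21_3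 lc_g_Cert_tree lc_g_rc_27_3 lc_g_rc_21_2 lc_g_Cert_tree lc_g_rc_27_0 lc_g_rc_26_0 lc_g_rc_23_3 lc_g_rc_27_0 lc_g_Cert_tree lc_g_rc_26_9 lc_g_rc_21_3 lc_g_Cert_tree lc_g_rc_21_2 lc_g_Cert_tree lc_g_Cert_tree lc_g_rc_24_3 lc_g_Cert_tree lc_g_rc_21_3 lc_g_Cert_tree lc_g_Cert_tree lc_g_rc_21_2 lc_g_rc_21_3 lc_g_rc_24_7 lc_g_rc_27_9 lc_g_rc_23_9 lc_g_rc_26_0 lc_g_rc_23_9 lc_g_rc_27_9 lc_g_rc_24_1 lc_g_rc_21_2 lc_g_rc_26_9 lc_g_Cert_tree lc_g_rc_26_0 lc_g_rc_23_9 lc_g_rc_21_2 lc_g_Cert_tree lc_g_rc_21_3 lc_g_Cert_tree lc_g_rc_21_3 lc_g_Cert_tree lc_g_Cert_tree lc_g_rc_21_2 lc_g_Cert_tree lc_g_rc_27_6 lc_g_rc_23_7 lc_g_Cert_tree lc_g_rc_27_3 lc_g_rc_23_7) (@D3.rec (fun _ => (Cert rels S Gen.g))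 lc_g_rc_27_9 lc_g_rc_23_3 lc_g_Cert_tree lc_g_rc_24_3 lc_g_rc_21_2 lc_g_rc_21_3 lc_g_rc_23_3 lc_g_rc_26_6 lc_g_rc_24_1 lc_g_rc_23_1 lc_g_rc_23_3 lc_g_rc_24_3 lc_g_rc_24_7 lc_g_Cert_tree lc_g_rc_23_3 lc_g_Cert_tree lc_g_rc_21_3 lc_g_rc_21_2 lc_g_Cert_tree lc_g_rc_26_3 lc_g_rc_21_3 lc_g_Cert_tree lc_g_rc_21_2 lc_g_Cert_tree lc_g_Cert_tree lc_g_rc_23_7 lc_g_Cert_tree lc_g_Cert_tree lc_g_rc_21_3 lc_g_Cert_tree lc_g_Cert_tree lc_g_rc_27_0 lc_g_rc_27_3 lc_g_Cert_tree lc_g_rc_27_0 lc_g_rc_27_9 lc_g_rc_26_9 lc_g_rc_23_3 lc_g_Cert_tree lc_g_rc_21_2 lc_g_Cert_tree lc_g_rc_21_2 lc_g_rc_21_2 lc_g_rc_23_3 lc_g_rc_21_3 lc_g_Cert_tree lc_g_rc_21_2 lc_g_Cert_tree lc_g_rc_21_3 lc_g_Cert_tree lc_g_rc_26_3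 lc_g_rc_21_2 lc_g_rc_27_6 lc_g_Cert_tree lc_g_rc_24_7 lc_g_rc_21_3 lc_g_rc_27_6 lc_g_rc_21_3 lc_g_rc_21_2 lc_g_rc_24_9 lc_g_rc_21_3 lc_g_Cert_tree) (@D3.rec (fun _ => (Cert rels S Gen.g)) lc_g_rc_24_3 lc_g_Cert_tree lc_g_rc_27_6 lc_g_rc_25_11 lc_g_rc_21_3 lc_g_rc_27_6 lc_g_rc_21_2 lc_g_rc_27_6 lc_g_rc_21_2 lc_g_Cert_tree lc_g_rc_23_3 lc_g_rc_23_7 lc_g_Cert_tree lc_g_rc_24_3 lc_g_rc_21_2 lc_g_rc_26_9 lc_g_Cert_tree lc_g_rc_23_7 lc_g_Cert_tree lc_g_rc_23_7 lc_g_rc_23_3 lc_g_rc_21_2 lc_g_Cert_tree lc_g_rc_21_3 lc_g_Cert_tree lc_g_rc_24_7 lc_g_Cert_tree lc_g_rc_26_6 lc_g_Cert_tree lc_g_Cert_tree lc_g_rc_21_3 lc_g_Cert_tree lc_g_rc_26_6 lc_g_rc_21_2 lc_g_rc_21_2 lc_g_rc_23_1 lc_g_rc_21_2 lc_g_rc_21_2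 lc_g_rc_23_3 lc_g_Cert_tree lc_g_rc_21_2 lc_g_rc_26_3 lc_g_rc_23_7 lc_g_Cert_tree lc_g_rc_26_3 lc_g_rc_21_3 lc_g_Cert_tree lc_g_rc_26_0 lc_g_rc_27_6 lc_g_Cert_tree lc_g_rc_21_2 lc_g_rc_21_3 lc_g_Cert_tree lc_g_rc_21_2 lc_g_rc_27_3 lc_g_Cert_tree lc_g_rc_23_3 lc_g_rc_21_3 lc_g_rc_23_1 lc_g_Cert_tree lc_g_rc_26_0 lc_g_Cert_tree)
def ce_g_10 : D2 → D3 → (Cert rels S Gen.g) := @D2.rec (fun _ => D3 → (Cert rels S Gen.g)) (@D3.rec (fun _ => (Cert rels S Gen.g)) lc_g_rc_26_3 lc_g_rc_21_3 lc_g_rc_24_1 lc_g_rc_21_2 lc_g_rc_26_3 lc_g_Cert_tree lc_g_rc_27_3 lc_g_rc_21_2 lc_g_rc_21_2 lc_g_Cert_tree lc_g_rc_21_3 lc_g_rc_23_9 lc_g_rc_21_2 lc_g_rc_23_9 lc_g_rc_27_0 lc_g_rc_21_3 lc_g_Cert_tree lc_g_rc_21_3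 lc_g_Cert_tree lc_g_rc_21_2 lc_g_rc_21_3 lc_g_Cert_tree lc_g_Cert_tree lc_g_rc_21_3 lc_g_Cert_tree lc_g_rc_21_2 lc_g_rc_26_6 lc_g_rc_27_6 lc_g_rc_21_3 lc_g_Cert_tree lc_g_rc_21_2 lc_g_rc_21_2 lc_g_rc_27_9 lc_g_rc_23_3 lc_g_rc_27_6 lc_g_rc_21_3 lc_g_rc_27_3 lc_g_rc_21_3 lc_g_rc_27_9 lc_g_rc_27_3 lc_g_rc_26_9 lc_g_rc_24_7 lc_g_Cert_tree lc_g_rc_26_3 lc_g_Cert_tree lc_g_rc_24_7 lc_g_rc_21_3 lc_g_Cert_tree lc_g_rc_21_2 lc_g_Cert_tree lc_g_rc_24_1 lc_g_Cert_tree lc_g_rc_21_3 lc_g_Cert_tree lc_g_rc_21_2 lc_g_rc_27_3 lc_g_Cert_tree lc_g_rc_23_3 lc_g_rc_27_6 lc_g_Cert_tree lc_g_rc_24_3 lc_g_rc_21_2) (@D3.rec (fun _ => (Cert rels S Gen.g)) lc_g_Cert_tree lc_g_rc_23_1 lc_g_rc_21_3 lc_g_Cert_tree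 lc_g_rc_21_2 lc_g_Cert_tree lc_g_rc_27_3 lc_g_Cert_tree lc_g_rc_23_7 lc_g_Cert_tree lc_g_rc_27_9 lc_g_rc_21_2 lc_g_rc_24_7 lc_g_rc_27_3 lc_g_rc_21_3 lc_g_rc_27_0 lc_g_Cert_tree lc_g_rc_21_3 lc_g_rc_27_9 lc_g_Cert_tree lc_g_rc_27_3 lc_g_Cert_tree lc_g_rc_24_1 lc_g_Cert_tree lc_g_rc_24_1 lc_g_rc_27_9 lc_g_Cert_tree lc_g_rc_26_6 lc_g_rc_24_9 lc_g_rc_24_1 lc_g_rc_27_9 lc_g_rc_24_7 lc_g_Cert_tree lc_g_Cert_tree lc_g_Cert_tree lc_g_rc_21_3 lc_g_Cert_tree lc_g_rc_21_2 lc_g_Cert_tree lc_g_rc_23_3 lc_g_rc_23_3 lc_g_Cert_tree lc_g_rc_27_0 lc_g_Cert_tree lc_g_rc_21_2 lc_g_Cert_tree lc_g_rc_23_9 lc_g_rc_27_6 lc_g_rc_26_6 lc_g_rc_23_7 lc_g_rc_21_2 lc_g_rc_23_3 lc_g_rc_23_3 lc_g_rc_27_6 lc_g_rc_21_3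 lc_g_Cert_tree lc_g_rc_21_2 lc_g_Cert_tree lc_g_rc_21_2 lc_g_rc_24_3 lc_g_rc_21_3 lc_g_Cert_tree) (@D3.rec (fun _ => (Cert rels S Gen.g)) lc_g_Cert_tree lc_g_rc_21_2 lc_g_rc_27_9 lc_g_rc_21_2 lc_g_rc_26_3 lc_g_rc_27_6 lc_g_Cert_tree lc_g_rc_24_1 lc_g_Cert_tree lc_g_rc_21_3 lc_g_Cert_tree lc_g_rc_21_2 lc_g_rc_21_3 lc_g_Cert_tree lc_g_rc_21_2 lc_g_Cert_tree lc_g_rc_21_3 lc_g_Cert_tree lc_g_rc_21_2 lc_g_rc_21_3 lc_g_rc_24_3 lc_g_Cert_tree lc_g_rc_21_3 lc_g_rc_21_2 lc_g_rc_27_3 lc_g_rc_24_3 lc_g_Cert_tree lc_g_Cert_tree lc_g_rc_24_7 lc_g_rc_27_6 lc_g_Cert_tree lc_g_rc_21_3 lc_g_Cert_tree lc_g_rc_26_3 lc_g_rc_21_2 lc_g_rc_24_1 lc_g_Cert_tree lc_g_rc_26_3 lc_g_rc_27_9 lc_g_rc_24_7 lc_g_rc_23_1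 lc_g_Cert_tree lc_g_rc_21_2 lc_g_rc_26_0 lc_g_Cert_tree lc_g_rc_21_2 lc_g_Cert_tree lc_g_rc_21_2 lc_g_rc_24_3 lc_g_rc_21_3 lc_g_rc_21_2 lc_g_rc_27_3 lc_g_rc_26_9 lc_g_rc_21_2 lc_g_rc_27_6 lc_g_rc_21_3 lc_g_Cert_tree lc_g_Cert_tree lc_g_rc_21_3 lc_g_Cert_tree lc_g_rc_21_2 lc_g_rc_26_6) (@D3.rec (fun _ => (Cert rels S Gen.g)) lc_g_Cert_tree lc_g_Cert_tree lc_g_Cert_tree lc_g_rc_21_3 lc_g_Cert_tree lc_g_rc_27_9 lc_g_rc_25_11 lc_g_Cert_tree lc_g_Cert_tree lc_g_rc_23_3 lc_g_rc_21_2 lc_g_Cert_tree lc_g_rc_26_6 lc_g_rc_25_7 lc_g_rc_23_9 lc_g_Cert_tree lc_g_rc_23_3 lc_g_rc_26_3 lc_g_rc_21_3 lc_g_Cert_tree lc_g_rc_21_2 lc_g_rc_21_3 lc_g_Cert_tree lc_g_Cert_tree lc_g_rc_21_3 lc_g_Cert_tree lc_g_rc_26_3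 lc_g_rc_21_3 lc_g_rc_26_9 lc_g_rc_27_0 lc_g_Cert_tree lc_g_Cert_tree lc_g_rc_24_1 lc_g_Cert_tree lc_g_rc_24_9 lc_g_rc_26_9 lc_g_Cert_tree lc_g_rc_26_6 lc_g_rc_27_6 lc_g_rc_24_1 lc_g_rc_21_3 lc_g_rc_23_7 lc_g_rc_24_1 lc_g_rc_26_6 lc_g_rc_21_3 lc_g_rc_21_2 lc_g_rc_21_3 lc_g_rc_21_3 lc_g_Cert_tree lc_g_rc_27_0 lc_g_rc_27_0 lc_g_rc_27_3 lc_g_Cert_tree lc_g_rc_27_6 lc_g_rc_26_0 lc_g_rc_21_2 lc_g_rc_24_1 lc_g_Cert_tree lc_g_rc_21_2 lc_g_rc_24_3 lc_g_rc_27_6 lc_g_Cert_tree) (@D3.rec (fun _ => (Cert rels S Gen.g)) lc_g_Cert_tree lc_g_rc_21_3 lc_g_Cert_tree lc_g_rc_21_2 lc_g_rc_27_0 lc_g_Cert_tree lc_g_rc_21_2 lc_g_rc_21_3 lc_g_Cert_tree lc_g_Cert_tree lc_g_Cert_tree lc_g_rc_24_7 lc_g_Cert_tree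 lc_g_rc_23_1 lc_g_rc_27_6 lc_g_rc_23_1 lc_g_Cert_tree lc_g_rc_27_6 lc_g_rc_23_3 lc_g_rc_27_0 lc_g_rc_21_2 lc_g_rc_24_7 lc_g_rc_21_2 lc_g_Cert_tree lc_g_rc_27_6 lc_g_Cert_tree lc_g_rc_21_2 lc_g_rc_21_2 lc_g_Cert_tree lc_g_rc_24_1 lc_g_rc_27_9 lc_g_rc_26_3 lc_g_rc_27_6 lc_g_Cert_tree lc_g_rc_21_2 lc_g_rc_27_6 lc_g_rc_24_9 lc_g_rc_27_0 lc_g_rc_21_2 lc_g_rc_21_2 lc_g_rc_21_3 lc_g_Cert_tree lc_g_rc_24_3 lc_g_rc_21_2 lc_g_rc_24_1 lc_g_rc_26_3 lc_g_rc_23_1 lc_g_rc_27_6 lc_g_rc_27_0 lc_g_rc_21_2 lc_g_rc_27_6 lc_g_Cert_tree lc_g_rc_21_2 lc_g_Cert_tree lc_g_Cert_tree lc_g_rc_23_1 lc_g_Cert_tree lc_g_Cert_tree lc_g_rc_21_2 lc_g_rc_27_6 lc_g_rc_21_3 lc_g_rc_23_7) (@D3.rec (fun _ => (Cert rels S Gen.g))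 lc_g_rc_23_3 lc_g_rc_21_2 lc_g_Cert_tree lc_g_rc_21_2 lc_g_rc_21_2 lc_g_rc_27_9 lc_g_Cert_tree lc_g_Cert_tree lc_g_Cert_tree lc_g_rc_26_3 lc_g_rc_23_1 lc_g_Cert_tree lc_g_rc_27_3 lc_g_rc_21_2 lc_g_rc_26_9 lc_g_rc_26_3 lc_g_Cert_tree lc_g_Cert_tree lc_g_rc_27_3 lc_g_rc_26_3 lc_g_rc_21_2 lc_g_rc_21_3 lc_g_rc_27_6 lc_g_rc_26_6 lc_g_rc_23_9 lc_g_rc_23_7 lc_g_rc_26_3 lc_g_Cert_tree lc_g_rc_21_2 lc_g_rc_27_3 lc_g_rc_21_3 lc_g_rc_23_7 lc_g_Cert_tree lc_g_rc_21_2 lc_g_Cert_tree lc_g_rc_26_3 lc_g_rc_23_1 lc_g_rc_26_3 lc_g_rc_24_3 lc_g_rc_21_2 lc_g_rc_27_0 lc_g_rc_21_3 lc_g_rc_21_3 lc_g_rc_23_1 lc_g_rc_24_9 lc_g_rc_26_3 lc_g_Cert_tree lc_g_rc_21_3 lc_g_rc_26_9 lc_g_rc_26_6 lc_g_Cert_tree lc_g_Cert_tree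 lc_g_rc_21_2 lc_g_rc_21_2 lc_g_rc_21_2 lc_g_rc_21_3 lc_g_Cert_tree lc_g_Cert_tree lc_g_Cert_tree lc_g_rc_26_3 lc_g_rc_21_3 lc_g_Cert_tree) (@D3.rec (fun _ => (Cert rels S Gen.g)) lc_g_rc_21_2 lc_g_rc_21_2 lc_g_rc_26_3 lc_g_Cert_tree lc_g_rc_26_3 lc_g_Cert_tree lc_g_Cert_tree lc_g_Cert_tree lc_g_Cert_tree lc_g_rc_21_3 lc_g_Cert_tree lc_g_rc_21_2 lc_g_rc_21_3 lc_g_Cert_tree lc_g_rc_23_7 lc_g_rc_24_3 lc_g_rc_21_3 lc_g_rc_23_3 lc_g_rc_24_3 lc_g_rc_21_3 lc_g_rc_23_7 lc_g_rc_27_6 lc_g_rc_26_6 lc_g_rc_23_3 lc_g_rc_26_3 lc_g_rc_21_3 lc_g_Cert_tree lc_g_rc_21_2 lc_g_rc_27_3 lc_g_rc_21_3 lc_g_Cert_tree lc_g_rc_21_2 lc_g_Cert_tree lc_g_rc_21_2 lc_g_rc_21_3 lc_g_Cert_tree lc_g_rc_23_1 lc_g_rc_26_3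 lc_g_Cert_tree lc_g_rc_21_2 lc_g_rc_27_6 lc_g_Cert_tree lc_g_rc_21_2 lc_g_rc_21_3 lc_g_Cert_tree lc_g_rc_27_9 lc_g_rc_21_3 lc_g_Cert_tree lc_g_rc_21_2 lc_g_rc_21_3 lc_g_Cert_tree lc_g_rc_21_3 lc_g_Cert_tree lc_g_rc_27_3 lc_g_rc_27_3 lc_g_Cert_tree lc_g_rc_23_7 lc_g_Cert_tree lc_g_rc_21_3 lc_g_Cert_tree lc_g_rc_23_1 lc_g_rc_21_2) (@D3.rec (fun _ => (Cert rels S Gen.g)) lc_g_Cert_tree lc_g_rc_21_2 lc_g_Cert_tree lc_g_Cert_tree lc_g_Cert_tree lc_g_rc_21_3 lc_g_rc_26_6 lc_g_rc_24_1 lc_g_rc_21_3 lc_g_Cert_tree lc_g_Cert_tree lc_g_Cert_tree lc_g_rc_24_9 lc_g_rc_26_3 lc_g_rc_23_7 lc_g_rc_26_0 lc_g_Cert_tree lc_g_rc_26_3 lc_g_Cert_tree lc_g_rc_26_0 lc_g_rc_27_6 lc_g_Cert_tree lc_g_rc_21_3 lc_g_rc_27_0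 lc_g_rc_21_3 lc_g_Cert_tree lc_g_rc_26_6 lc_g_Cert_tree lc_g_rc_23_9 lc_g_Cert_tree lc_g_rc_27_6 lc_g_Cert_tree lc_g_rc_21_2 lc_g_Cert_tree lc_g_rc_23_3 lc_g_Cert_tree lc_g_rc_24_3 lc_g_rc_21_2 lc_g_Cert_tree lc_g_rc_23_1 lc_g_rc_27_6 lc_g_rc_21_3 lc_g_Cert_tree lc_g_rc_21_2 lc_g_Cert_tree lc_g_rc_23_9 lc_g_Cert_tree lc_g_rc_21_3 lc_g_Cert_tree lc_g_Cert_tree lc_g_rc_21_2 lc_g_rc_24_7 lc_g_rc_23_1 lc_g_rc_27_0 lc_g_rc_26_6 lc_g_rc_26_3 lc_g_rc_21_3 lc_g_Cert_tree lc_g_rc_21_2 lc_g_Cert_tree lc_g_rc_26_6 lc_g_rc_21_2) (@D3.rec (fun _ => (Cert rels S Gen.g)) lc_g_Cert_tree lc_g_Cert_tree lc_g_rc_21_3 lc_g_Cert_tree lc_g_rc_23_3 lc_g_rc_21_2 lc_g_rc_21_2 lc_g_rc_27_0 lc_g_rc_27_6 lc_g_rc_21_3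 lc_g_Cert_tree lc_g_Cert_tree lc_g_rc_27_6 lc_g_Cert_tree lc_g_Cert_tree lc_g_rc_24_1 lc_g_rc_21_2 lc_g_rc_21_3 lc_g_Cert_tree lc_g_rc_26_6 lc_g_rc_21_3 lc_g_Cert_tree lc_g_rc_21_2 lc_g_Cert_tree lc_g_rc_26_6 lc_g_rc_23_1 lc_g_Cert_tree lc_g_Cert_tree lc_g_rc_21_3 lc_g_Cert_tree lc_g_rc_27_3 lc_g_rc_21_2 lc_g_rc_24_7 lc_g_rc_27_0 lc_g_rc_23_9 lc_g_rc_27_0 lc_g_rc_21_3 lc_g_Cert_tree lc_g_rc_21_2 lc_g_rc_21_3 lc_g_Cert_tree lc_g_rc_21_2 lc_g_Cert_tree lc_g_Cert_tree lc_g_rc_23_9 lc_g_Cert_tree lc_g_rc_21_2 lc_g_rc_26_3 lc_g_rc_27_0 lc_g_rc_26_9 lc_g_rc_21_3 lc_g_Cert_tree lc_g_rc_21_2 lc_g_Cert_tree lc_g_rc_23_1 lc_g_rc_27_3 lc_g_rc_21_2 lc_g_rc_21_3 lc_g_Cert_tree lc_g_rc_21_2 lc_g_Cert_tree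 lc_g_rc_23_9) (@D3.rec (fun _ => (Cert rels S Gen.g)) lc_g_rc_23_3 lc_g_rc_26_3 lc_g_rc_21_2 lc_g_rc_21_2 lc_g_rc_26_6 lc_g_Cert_tree lc_g_Cert_tree lc_g_Cert_tree lc_g_rc_26_0 lc_g_Cert_tree lc_g_rc_21_3 lc_g_rc_23_3 lc_g_rc_26_0 lc_g_rc_21_2 lc_g_rc_21_3 lc_g_Cert_tree lc_g_rc_23_9 lc_g_rc_26_6 lc_g_Cert_tree lc_g_rc_25_15 lc_g_Cert_tree lc_g_rc_25_7 lc_g_rc_27_6 lc_g_rc_21_3 lc_g_Cert_tree lc_g_rc_21_2 lc_g_rc_21_3 lc_g_Cert_tree lc_g_Cert_tree lc_g_rc_27_3 lc_g_rc_26_9 lc_g_rc_27_9 lc_g_rc_27_3 lc_g_rc_26_9 lc_g_rc_27_6 lc_g_rc_27_0 lc_g_rc_27_3 lc_g_Cert_tree lc_g_rc_23_3 lc_g_rc_21_2 lc_g_Cert_tree lc_g_rc_23_1 lc_g_rc_26_9 lc_g_rc_21_2 lc_g_rc_23_1 lc_g_rc_23_1 lc_g_Cert_tree lc_g_rc_23_7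 lc_g_Cert_tree lc_g_rc_23_7 lc_g_Cert_tree lc_g_rc_21_3 lc_g_Cert_tree lc_g_rc_21_2 lc_g_rc_23_9 lc_g_rc_27_3 lc_g_Cert_tree lc_g_rc_23_7 lc_g_rc_27_6 lc_g_Cert_tree lc_g_rc_21_2 lc_g_Cert_tree) (@D3.rec (fun _ => (Cert rels S Gen.g)) lc_g_rc_27_6 lc_g_rc_21_3 lc_g_Cert_tree lc_g_rc_21_2 lc_g_Cert_tree lc_g_rc_23_3 lc_g_rc_23_7 lc_g_rc_21_3 lc_g_Cert_tree lc_g_rc_21_3 lc_g_Cert_tree lc_g_Cert_tree lc_g_rc_21_2 lc_g_rc_26_0 lc_g_Cert_tree lc_g_rc_23_3 lc_g_rc_27_6 lc_g_rc_23_7 lc_g_Cert_tree lc_g_Cert_tree lc_g_rc_27_0 lc_g_Cert_tree lc_g_rc_21_3 lc_g_Cert_tree lc_g_rc_21_2 lc_g_Cert_tree lc_g_rc_21_3 lc_g_Cert_tree lc_g_rc_21_2 lc_g_rc_27_0 lc_g_rc_21_3 lc_g_Cert_tree lc_g_rc_26_9 lc_g_rc_24_3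 lc_g_Cert_tree lc_g_Cert_tree lc_g_rc_21_2 lc_g_rc_21_2 lc_g_rc_27_6 lc_g_rc_21_2 lc_g_rc_27_0 lc_g_Cert_tree lc_g_Cert_tree lc_g_Cert_tree lc_g_rc_21_3 lc_g_Cert_tree lc_g_rc_23_7 lc_g_rc_21_2 lc_g_rc_26_3 lc_g_Cert_tree lc_g_rc_21_2 lc_g_rc_24_7 lc_g_rc_25_11 lc_g_rc_23_7 lc_g_rc_25_7 lc_g_rc_23_7 lc_g_Cert_tree lc_g_Cert_tree lc_g_rc_23_3 lc_g_Cert_tree lc_g_rc_27_6 lc_g_rc_26_3) (@D3.rec (fun _ => (Cert rels S Gen.g)) lc_g_rc_21_3 lc_g_Cert_tree lc_g_rc_21_2 lc_g_Cert_tree lc_g_Cert_tree lc_g_Cert_tree lc_g_rc_26_3 lc_g_Cert_tree lc_g_rc_26_3 lc_g_rc_26_9 lc_g_rc_21_3 lc_g_Cert_tree lc_g_Cert_tree lc_g_rc_26_3 lc_g_rc_23_7 lc_g_rc_24_7 lc_g_rc_26_3 lc_g_rc_27_3 lc_g_Cert_tree lc_g_rc_23_9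 lc_g_rc_27_6 lc_g_rc_21_3 lc_g_rc_27_6 lc_g_rc_26_0 lc_g_rc_23_1 lc_g_rc_21_2 lc_g_rc_21_2 lc_g_rc_21_2 lc_g_Cert_tree lc_g_rc_24_9 lc_g_rc_27_3 lc_g_Cert_tree lc_g_Cert_tree lc_g_rc_24_9 lc_g_Cert_tree lc_g_rc_21_3 lc_g_Cert_tree lc_g_rc_21_2 lc_g_Cert_tree lc_g_rc_21_2 lc_g_rc_21_3 lc_g_Cert_tree lc_g_rc_26_9 lc_g_rc_21_2 lc_g_Cert_tree lc_g_Cert_tree lc_g_rc_21_3 lc_g_Cert_tree lc_g_rc_27_9 lc_g_rc_21_2 lc_g_rc_21_3 lc_g_Cert_tree lc_g_rc_27_0 lc_g_rc_21_3 lc_g_rc_23_9 lc_g_rc_27_3 lc_g_rc_24_9 lc_g_rc_26_9 lc_g_Cert_tree lc_g_rc_26_0 lc_g_rc_21_3 lc_g_rc_21_2) (@D3.rec (fun _ => (Cert rels S Gen.g)) lc_g_Cert_tree lc_g_rc_21_3 lc_g_Cert_tree lc_g_rc_21_3 lc_g_rc_21_2 lc_g_rc_27_3 lc_g_rc_21_2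 lc_g_rc_24_1 lc_g_rc_27_9 lc_g_Cert_tree lc_g_rc_24_3 lc_g_rc_21_2 lc_g_rc_24_7 lc_g_rc_27_0 lc_g_rc_24_3 lc_g_rc_23_3 lc_g_rc_23_1 lc_g_rc_26_6 lc_g_rc_23_3 lc_g_Cert_tree lc_g_rc_26_3 lc_g_rc_21_3 lc_g_Cert_tree lc_g_rc_21_2 lc_g_rc_21_2 lc_g_rc_23_3 lc_g_Cert_tree lc_g_rc_21_3 lc_g_Cert_tree lc_g_Cert_tree lc_g_rc_21_2 lc_g_rc_21_3 lc_g_rc_26_9 lc_g_rc_27_0 lc_g_rc_26_0 lc_g_rc_23_1 lc_g_rc_21_2 lc_g_rc_21_2 lc_g_rc_26_3 lc_g_rc_27_3 lc_g_rc_21_2 lc_g_Cert_tree lc_g_rc_21_2 lc_g_rc_21_3 lc_g_Cert_tree lc_g_rc_23_1 lc_g_rc_24_3 lc_g_Cert_tree lc_g_rc_24_7 lc_g_rc_21_3 lc_g_rc_26_6 lc_g_rc_26_9 lc_g_rc_26_9 lc_g_rc_24_1 lc_g_Cert_tree lc_g_rc_26_0 lc_g_rc_26_0 lc_g_rc_23_7 lc_g_rc_21_2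 lc_g_Cert_tree lc_g_rc_21_3 lc_g_Cert_tree) (@D3.rec (fun _ => (Cert rels S Gen.g)) lc_g_rc_21_3 lc_g_Cert_tree lc_g_rc_21_3 lc_g_rc_21_3 lc_g_Cert_tree lc_g_rc_27_3 lc_g_rc_21_2 lc_g_rc_27_3 lc_g_Cert_tree lc_g_rc_21_2 lc_g_rc_26_9 lc_g_rc_21_3 lc_g_Cert_tree lc_g_rc_26_3 lc_g_rc_27_3 lc_g_rc_21_2 lc_g_Cert_tree lc_g_rc_21_3 lc_g_Cert_tree lc_g_rc_21_2 lc_g_rc_27_6 lc_g_rc_21_3 lc_g_Cert_tree lc_g_Cert_tree lc_g_rc_23_1 lc_g_Cert_tree lc_g_rc_21_2 lc_g_rc_26_0 lc_g_rc_21_3 lc_g_Cert_tree lc_g_rc_27_3 lc_g_Cert_tree lc_g_rc_21_3 lc_g_rc_26_3 lc_g_rc_26_3 lc_g_Cert_tree lc_g_rc_26_0 lc_g_rc_21_3 lc_g_Cert_tree lc_g_rc_26_6 lc_g_Cert_tree lc_g_Cert_tree lc_g_rc_26_9 lc_g_rc_21_3 lc_g_Cert_tree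 lc_g_Cert_tree lc_g_rc_21_3 lc_g_rc_21_2 lc_g_rc_21_3 lc_g_rc_23_3 lc_g_rc_27_6 lc_g_rc_21_3 lc_g_rc_21_2 lc_g_rc_26_0 lc_g_rc_24_1 lc_g_Cert_tree lc_g_rc_21_3 lc_g_rc_21_2 lc_g_Cert_tree lc_g_rc_21_2 lc_g_rc_21_3 lc_g_Cert_tree) (@D3.rec (fun _ => (Cert rels S Gen.g)) lc_g_rc_27_3 lc_g_rc_21_2 lc_g_rc_21_2 lc_g_rc_21_2 lc_g_rc_24_1 lc_g_rc_21_2 lc_g_Cert_tree lc_g_rc_21_3 lc_g_rc_24_3 lc_g_Cert_tree lc_g_rc_21_3 lc_g_Cert_tree lc_g_rc_23_1 lc_g_rc_21_2 lc_g_rc_21_3 lc_g_rc_27_9 lc_g_rc_21_3 lc_g_Cert_tree lc_g_rc_26_6 lc_g_rc_21_3 lc_g_rc_26_6 lc_g_Cert_tree lc_g_rc_21_3 lc_g_Cert_tree lc_g_rc_21_2 lc_g_rc_23_1 lc_g_rc_21_3 lc_g_Cert_tree lc_g_Cert_tree lc_g_rc_21_2 lc_g_rc_27_3 lc_g_rc_27_6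 lc_g_rc_27_9 lc_g_rc_26_6 lc_g_rc_27_3 lc_g_Cert_tree lc_g_rc_26_6 lc_g_rc_21_3 lc_g_rc_27_3 lc_g_rc_27_0 lc_g_rc_27_3 lc_g_rc_24_7 lc_g_Cert_tree lc_g_rc_25_11 lc_g_Cert_tree lc_g_rc_27_6 lc_g_Cert_tree lc_g_rc_27_0 lc_g_rc_25_3 lc_g_rc_23_7 lc_g_rc_26_6 lc_g_rc_23_7 lc_g_rc_23_3 lc_g_rc_21_3 lc_g_Cert_tree lc_g_rc_21_2 lc_g_rc_26_6 lc_g_Cert_tree lc_g_Cert_tree lc_g_rc_21_3 lc_g_Cert_tree lc_g_rc_21_3) (@D3.rec (fun _ => (Cert rels S Gen.g)) lc_g_rc_21_2 lc_g_rc_21_3 lc_g_Cert_tree lc_g_rc_24_3 lc_g_rc_27_0 lc_g_rc_21_3 lc_g_Cert_tree lc_g_rc_21_2 lc_g_rc_26_6 lc_g_rc_21_2 lc_g_rc_23_1 lc_g_Cert_tree lc_g_rc_23_1 lc_g_Cert_tree lc_g_rc_21_3 lc_g_rc_27_6 lc_g_Cert_tree lc_g_rc_21_3 lc_g_Cert_tree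 lc_g_rc_27_3 lc_g_rc_21_2 lc_g_rc_26_3 lc_g_rc_27_0 lc_g_rc_27_9 lc_g_rc_21_3 lc_g_rc_21_3 lc_g_Cert_tree lc_g_rc_21_2 lc_g_rc_21_2 lc_g_rc_21_3 lc_g_rc_27_0 lc_g_rc_26_6 lc_g_rc_27_9 lc_g_Cert_tree lc_g_rc_24_1 lc_g_Cert_tree lc_g_rc_21_3 lc_g_Cert_tree lc_g_rc_21_2 lc_g_Cert_tree lc_g_rc_21_2 lc_g_Cert_tree lc_g_rc_24_3 lc_g_rc_27_6 lc_g_Cert_tree lc_g_Cert_tree lc_g_rc_21_3 lc_g_Cert_tree lc_g_rc_21_2 lc_g_Cert_tree lc_g_rc_21_3 lc_g_Cert_tree lc_g_rc_21_2 lc_g_Cert_tree lc_g_Cert_tree lc_g_Cert_tree lc_g_rc_21_3 lc_g_Cert_tree lc_g_rc_21_2 lc_g_rc_26_9 lc_g_rc_24_1 lc_g_rc_24_1) (@D3.rec (fun _ => (Cert rels S Gen.g)) lc_g_rc_27_9 lc_g_Cert_tree lc_g_rc_21_2 lc_g_rc_27_3 lc_g_Cert_tree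 lc_g_Cert_tree lc_g_rc_26_0 lc_g_rc_27_3 lc_g_rc_26_0 lc_g_rc_27_6 lc_g_rc_21_3 lc_g_Cert_tree lc_g_rc_27_6 lc_g_rc_24_1 lc_g_Cert_tree lc_g_rc_21_3 lc_g_Cert_tree lc_g_rc_23_7 lc_g_Cert_tree lc_g_Cert_tree lc_g_Cert_tree lc_g_rc_21_3 lc_g_Cert_tree lc_g_rc_21_2 lc_g_rc_21_3 lc_g_Cert_tree lc_g_rc_24_1 lc_g_Cert_tree lc_g_rc_23_7 lc_g_Cert_tree lc_g_Cert_tree lc_g_rc_21_2 lc_g_Cert_tree lc_g_rc_24_3 lc_g_rc_27_6 lc_g_rc_21_3 lc_g_rc_23_3 lc_g_rc_26_3 lc_g_rc_21_3 lc_g_Cert_tree lc_g_rc_21_2 lc_g_rc_26_0 lc_g_rc_23_3 lc_g_Cert_tree lc_g_rc_24_7 lc_g_rc_21_3 lc_g_rc_27_6 lc_g_Cert_tree lc_g_rc_23_3 lc_g_rc_23_7 lc_g_Cert_tree lc_g_rc_23_7 lc_g_rc_21_2 lc_g_Cert_tree lc_g_rc_27_6 lc_g_Cert_tree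 lc_g_rc_21_2 lc_g_rc_27_6 lc_g_rc_27_6 lc_g_rc_21_3 lc_g_rc_23_1 lc_g_rc_21_2) (@D3.rec (fun _ => (Cert rels S Gen.g)) lc_g_Cert_tree lc_g_rc_21_3 lc_g_rc_21_2 lc_g_rc_27_0 lc_g_rc_27_0 lc_g_rc_27_3 lc_g_Cert_tree lc_g_rc_21_3 lc_g_Cert_tree lc_g_rc_21_2 lc_g_rc_21_2 lc_g_Cert_tree lc_g_rc_27_3 lc_g_Cert_tree lc_g_rc_21_3 lc_g_rc_21_2 lc_g_rc_21_2 lc_g_rc_27_0 lc_g_Cert_tree lc_g_rc_27_3 lc_g_rc_27_9 lc_g_Cert_tree lc_g_Cert_tree lc_g_rc_21_2 lc_g_rc_21_3 lc_g_rc_21_2 lc_g_Cert_tree lc_g_Cert_tree lc_g_rc_21_2 lc_g_rc_21_2 lc_g_rc_21_3 lc_g_Cert_tree lc_g_rc_23_7 lc_g_Cert_tree lc_g_Cert_tree lc_g_rc_21_3 lc_g_Cert_tree lc_g_Cert_tree lc_g_rc_21_2 lc_g_Cert_tree lc_g_rc_21_3 lc_g_Cert_tree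 lc_g_rc_21_2 lc_g_Cert_tree lc_g_rc_21_3 lc_g_Cert_tree lc_g_rc_21_2 lc_g_rc_21_2 lc_g_Cert_tree lc_g_rc_21_2 lc_g_rc_21_2 lc_g_rc_21_3 lc_g_Cert_tree lc_g_rc_21_2 lc_g_rc_24_9 lc_g_Cert_tree lc_g_rc_21_3 lc_g_rc_21_3 lc_g_rc_21_2 lc_g_rc_21_2 lc_g_Cert_tree lc_g_Cert_tree) (@D3.rec (fun _ => (Cert rels S Gen.g)) lc_g_Cert_tree lc_g_rc_27_6 lc_g_rc_27_3 lc_g_rc_24_3 lc_g_rc_27_6 lc_g_Cert_tree lc_g_rc_23_3 lc_g_rc_27_0 lc_g_rc_21_3 lc_g_Cert_tree lc_g_rc_24_3 lc_g_rc_26_0 lc_g_rc_27_0 lc_g_Cert_tree lc_g_rc_21_2 lc_g_rc_21_2 lc_g_rc_27_3 lc_g_rc_27_6 lc_g_rc_27_0 lc_g_Cert_tree lc_g_rc_27_0 lc_g_rc_24_1 lc_g_rc_27_3 lc_g_Cert_tree lc_g_rc_27_9 lc_g_rc_26_3 lc_g_Cert_tree lc_g_rc_21_3 lc_g_rc_21_2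 lc_g_rc_21_3 lc_g_Cert_tree lc_g_rc_21_2 lc_g_Cert_tree lc_g_rc_21_3 lc_g_rc_21_2 lc_g_Cert_tree lc_g_rc_21_2 lc_g_rc_24_1 lc_g_rc_21_3 lc_g_Cert_tree lc_g_rc_21_2 lc_g_Cert_tree lc_g_rc_27_9 lc_g_Cert_tree lc_g_rc_27_0 lc_g_rc_21_2 lc_g_rc_27_3 lc_g_Cert_tree lc_g_Cert_tree lc_g_Cert_tree lc_g_rc_21_2 lc_g_Cert_tree lc_g_rc_27_3 lc_g_rc_21_3 lc_g_rc_21_3 lc_g_Cert_tree lc_g_Cert_tree lc_g_rc_26_0 lc_g_rc_26_6 lc_g_rc_24_3 lc_g_rc_23_3 lc_g_rc_24_1) (@D3.rec (fun _ => (Cert rels S Gen.g)) lc_g_rc_27_3 lc_g_rc_21_2 lc_g_Cert_tree lc_g_Cert_tree lc_g_Cert_tree lc_g_rc_23_1 lc_g_rc_21_3 lc_g_Cert_tree lc_g_rc_21_2 lc_g_rc_26_3 lc_g_Cert_tree lc_g_rc_23_3 lc_g_rc_21_3 lc_g_Cert_tree lc_g_rc_21_2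 lc_g_Cert_tree lc_g_rc_23_3 lc_g_Cert_tree lc_g_rc_23_3 lc_g_rc_27_6 lc_g_rc_23_9 lc_g_rc_26_3 lc_g_rc_21_3 lc_g_Cert_tree lc_g_rc_21_2 lc_g_rc_26_0 lc_g_rc_21_3 lc_g_Cert_tree lc_g_rc_24_1 lc_g_rc_26_6 lc_g_Cert_tree lc_g_rc_21_3 lc_g_Cert_tree lc_g_rc_21_3 lc_g_Cert_tree lc_g_Cert_tree lc_g_rc_26_9 lc_g_Cert_tree lc_g_Cert_tree lc_g_rc_21_2 lc_g_Cert_tree lc_g_rc_24_1 lc_g_rc_21_2 lc_g_Cert_tree lc_g_Cert_tree lc_g_rc_26_3 lc_g_rc_26_3 lc_g_rc_21_3 lc_g_Cert_tree lc_g_rc_27_6 lc_g_rc_21_2 lc_g_Cert_tree lc_g_rc_24_7 lc_g_rc_27_3 lc_g_Cert_tree lc_g_rc_27_0 lc_g_rc_21_2 lc_g_Cert_tree lc_g_Cert_tree lc_g_rc_26_9 lc_g_rc_27_3 lc_g_Cert_tree) (@D3.rec (fun _ => (Cert rels S Gen.g)) lc_g_rc_21_2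 lc_g_Cert_tree lc_g_rc_21_3 lc_g_Cert_tree lc_g_rc_21_2 lc_g_Cert_tree lc_g_Cert_tree lc_g_rc_21_3 lc_g_rc_21_3 lc_g_Cert_tree lc_g_rc_27_3 lc_g_Cert_tree lc_g_rc_23_3 lc_g_rc_21_3 lc_g_Cert_tree lc_g_rc_26_3 lc_g_rc_21_3 lc_g_rc_27_3 lc_g_Cert_tree lc_g_rc_21_3 lc_g_rc_27_6 lc_g_rc_26_6 lc_g_rc_24_9 lc_g_rc_21_3 lc_g_Cert_tree lc_g_rc_21_3 lc_g_rc_27_3 lc_g_rc_24_1 lc_g_rc_21_2 lc_g_rc_24_7 lc_g_rc_21_3 lc_g_Cert_tree lc_g_rc_26_9 lc_g_Cert_tree lc_g_Cert_tree lc_g_rc_27_0 lc_g_rc_21_3 lc_g_Cert_tree lc_g_Cert_tree lc_g_rc_21_2 lc_g_rc_27_6 lc_g_Cert_tree lc_g_Cert_tree lc_g_rc_21_2 lc_g_Cert_tree lc_g_rc_23_7 lc_g_rc_21_3 lc_g_Cert_tree lc_g_Cert_tree lc_g_rc_26_9 lc_g_rc_21_3 lc_g_Cert_tree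 lc_g_rc_21_2 lc_g_rc_21_3 lc_g_rc_27_0 lc_g_rc_23_1 lc_g_Cert_tree lc_g_rc_21_3 lc_g_Cert_tree lc_g_Cert_tree lc_g_rc_21_2 lc_g_rc_24_7) (@D3.rec (fun _ => (Cert rels S Gen.g)) lc_g_rc_27_3 lc_g_rc_23_9 lc_g_rc_27_9 lc_g_Cert_tree lc_g_rc_23_7 lc_g_rc_21_2 lc_g_rc_27_9 lc_g_Cert_tree lc_g_rc_23_3 lc_g_rc_21_3 lc_g_Cert_tree lc_g_rc_26_3 lc_g_Cert_tree lc_g_Cert_tree lc_g_Cert_tree lc_g_rc_21_3 lc_g_Cert_tree lc_g_Cert_tree lc_g_rc_21_2 lc_g_rc_26_9 lc_g_rc_27_0 lc_g_rc_26_9 lc_g_rc_21_3 lc_g_Cert_tree lc_g_rc_21_2 lc_g_Cert_tree lc_g_Cert_tree lc_g_rc_21_3 lc_g_Cert_tree lc_g_Cert_tree lc_g_rc_21_2 lc_g_rc_21_3 lc_g_Cert_tree lc_g_rc_21_2 lc_g_Cert_tree lc_g_Cert_tree lc_g_Cert_tree lc_g_rc_23_7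 lc_g_rc_26_3 lc_g_rc_21_2 lc_g_Cert_tree lc_g_Cert_tree lc_g_Cert_tree lc_g_rc_26_6 lc_g_Cert_tree lc_g_rc_23_3 lc_g_rc_21_3 lc_g_rc_26_3 lc_g_rc_23_3 lc_g_Cert_tree lc_g_Cert_tree lc_g_rc_26_0 lc_g_Cert_tree lc_g_rc_23_9 lc_g_rc_26_6 lc_g_rc_26_3 lc_g_Cert_tree lc_g_rc_27_6 lc_g_rc_21_3 lc_g_Cert_tree lc_g_rc_21_2 lc_g_rc_27_6) (@D3.rec (fun _ => (Cert rels S Gen.g)) lc_g_rc_21_3 lc_g_Cert_tree lc_g_Cert_tree lc_g_rc_26_3 lc_g_rc_27_9 lc_g_rc_27_9 lc_g_rc_23_1 lc_g_rc_23_1 lc_g_rc_27_3 lc_g_Cert_tree lc_g_rc_21_2 lc_g_rc_27_6 lc_g_rc_21_3 lc_g_Cert_tree lc_g_rc_21_2 lc_g_rc_21_3 lc_g_rc_26_3 lc_g_rc_27_9 lc_g_rc_26_9 lc_g_rc_27_3 lc_g_rc_27_0 lc_g_rc_23_9 lc_g_rc_27_0 lc_g_rc_23_1 lc_g_rc_27_6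 lc_g_rc_21_2 lc_g_Cert_tree lc_g_rc_21_3 lc_g_Cert_tree lc_g_Cert_tree lc_g_rc_21_2 lc_g_rc_27_0 lc_g_rc_26_9 lc_g_rc_27_0 lc_g_rc_21_3 lc_g_rc_21_2 lc_g_rc_21_2 lc_g_rc_27_3 lc_g_Cert_tree lc_g_rc_23_3 lc_g_Cert_tree lc_g_rc_21_3 lc_g_Cert_tree lc_g_rc_26_0 lc_g_Cert_tree lc_g_Cert_tree lc_g_rc_26_3 lc_g_rc_21_3 lc_g_rc_21_3 lc_g_rc_21_2 lc_g_Cert_tree lc_g_rc_23_3 lc_g_rc_27_6 lc_g_rc_23_3 lc_g_rc_26_0 lc_g_rc_26_3 lc_g_rc_27_6 lc_g_rc_21_3 lc_g_rc_21_2 lc_g_rc_27_6 lc_g_rc_26_0 lc_g_Cert_tree) (@D3.rec (fun _ => (Cert rels S Gen.g)) lc_g_rc_27_3 lc_g_rc_21_2 lc_g_rc_26_3 lc_g_rc_24_9 lc_g_rc_24_1 lc_g_Cert_tree lc_g_Cert_tree lc_g_rc_24_3 lc_g_rc_21_3 lc_g_Cert_tree lc_g_Cert_tree lc_g_Cert_tree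 lc_g_rc_21_3 lc_g_Cert_tree lc_g_rc_21_3 lc_g_rc_26_3 lc_g_rc_21_2 lc_g_rc_24_3 lc_g_rc_21_3 lc_g_rc_27_3 lc_g_rc_27_6 lc_g_rc_27_3 lc_g_Cert_tree lc_g_rc_23_3 lc_g_rc_23_7 lc_g_rc_26_9 lc_g_Cert_tree lc_g_rc_23_7 lc_g_rc_24_9 lc_g_rc_21_3 lc_g_Cert_tree lc_g_rc_21_2 lc_g_Cert_tree lc_g_rc_21_3 lc_g_Cert_tree lc_g_Cert_tree lc_g_rc_26_6 lc_g_rc_26_6 lc_g_rc_27_3 lc_g_rc_21_2 lc_g_Cert_tree lc_g_rc_21_3 lc_g_Cert_tree lc_g_rc_21_3 lc_g_Cert_tree lc_g_Cert_tree lc_g_rc_23_7 lc_g_Cert_tree lc_g_rc_21_2 lc_g_Cert_tree lc_g_rc_23_7 lc_g_rc_23_3 lc_g_Cert_tree lc_g_Cert_tree lc_g_rc_21_2 lc_g_Cert_tree lc_g_rc_21_3 lc_g_Cert_tree lc_g_rc_23_3 lc_g_Cert_tree lc_g_rc_21_2 lc_g_rc_21_2) (@D3.rec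 (fun _ => (Cert rels S Gen.g)) lc_g_Cert_tree lc_g_rc_23_3 lc_g_rc_27_6 lc_g_Cert_tree lc_g_Cert_tree lc_g_rc_26_9 lc_g_rc_27_3 lc_g_Cert_tree lc_g_rc_24_9 lc_g_Cert_tree lc_g_Cert_tree lc_g_rc_26_3 lc_g_rc_26_0 lc_g_Cert_tree lc_g_rc_21_2 lc_g_rc_21_3 lc_g_Cert_tree lc_g_rc_21_2 lc_g_Cert_tree lc_g_rc_21_3 lc_g_Cert_tree lc_g_rc_21_2 lc_g_Cert_tree lc_g_Cert_tree lc_g_rc_26_3 lc_g_Cert_tree lc_g_rc_21_3 lc_g_Cert_tree lc_g_rc_26_3 lc_g_rc_21_3 lc_g_Cert_tree lc_g_Cert_tree lc_g_rc_23_1 lc_g_Cert_tree lc_g_rc_21_3 lc_g_Cert_tree lc_g_rc_21_2 lc_g_Cert_tree lc_g_rc_23_7 lc_g_rc_24_9 lc_g_Cert_tree lc_g_rc_23_3 lc_g_rc_27_6 lc_g_rc_21_3 lc_g_Cert_tree lc_g_rc_21_2 lc_g_Cert_tree lc_g_rc_21_2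 lc_g_rc_27_6 lc_g_rc_21_3 lc_g_Cert_tree lc_g_rc_27_9 lc_g_rc_21_2 lc_g_rc_26_9 lc_g_rc_27_6 lc_g_Cert_tree lc_g_rc_21_2 lc_g_rc_21_3 lc_g_Cert_tree lc_g_rc_21_2 lc_g_rc_21_3 lc_g_Cert_tree) (@D3.rec (fun _ => (Cert rels S Gen.g)) lc_g_rc_21_2 lc_g_Cert_tree lc_g_Cert_tree lc_g_Cert_tree lc_g_rc_26_3 lc_g_Cert_tree lc_g_rc_23_3 lc_g_rc_24_7 lc_g_rc_27_6 lc_g_Cert_tree lc_g_Cert_tree lc_g_rc_27_6 lc_g_Cert_tree lc_g_Cert_tree lc_g_rc_26_3 lc_g_rc_21_3 lc_g_Cert_tree lc_g_rc_26_9 lc_g_Cert_tree lc_g_rc_24_1 lc_g_rc_23_1 lc_g_Cert_tree lc_g_rc_23_3 lc_g_Cert_tree lc_g_rc_21_3 lc_g_rc_27_0 lc_g_rc_24_3 lc_g_rc_27_0 lc_g_rc_21_3 lc_g_Cert_tree lc_g_rc_21_2 lc_g_rc_21_3 lc_g_Cert_tree lc_g_rc_21_2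 lc_g_Cert_tree lc_g_Cert_tree lc_g_rc_21_2 lc_g_rc_21_2 lc_g_Cert_tree lc_g_rc_21_2 lc_g_rc_21_2 lc_g_rc_23_1 lc_g_rc_27_0 lc_g_rc_24_7 lc_g_rc_21_3 lc_g_Cert_tree lc_g_rc_21_2 lc_g_Cert_tree lc_g_Cert_tree lc_g_rc_24_1 lc_g_rc_26_6 lc_g_Cert_tree lc_g_rc_21_2 lc_g_rc_21_2 lc_g_Cert_tree lc_g_Cert_tree lc_g_rc_23_3 lc_g_rc_21_2 lc_g_rc_26_0 lc_g_rc_23_7 lc_g_rc_26_3 lc_g_Cert_tree) (@D3.rec (fun _ => (Cert rels S Gen.g)) lc_g_rc_21_3 lc_g_Cert_tree lc_g_Cert_tree lc_g_rc_27_3 lc_g_rc_21_2 lc_g_rc_24_7 lc_g_rc_21_3 lc_g_rc_27_6 lc_g_rc_23_1 lc_g_rc_27_6 lc_g_rc_27_6 lc_g_Cert_tree lc_g_rc_21_3 lc_g_Cert_tree lc_g_rc_21_2 lc_g_Cert_tree lc_g_rc_21_3 lc_g_Cert_tree lc_g_rc_27_3 lc_g_rc_26_3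 lc_g_rc_27_9 lc_g_rc_27_3 lc_g_rc_27_0 lc_g_rc_21_3 lc_g_rc_27_6 lc_g_rc_26_6 lc_g_rc_21_2 lc_g_Cert_tree lc_g_rc_21_3 lc_g_Cert_tree lc_g_rc_21_2 lc_g_rc_21_2 lc_g_rc_21_3 lc_g_rc_26_9 lc_g_rc_27_9 lc_g_rc_23_1 lc_g_rc_27_0 lc_g_rc_26_3 lc_g_rc_27_9 lc_g_rc_27_9 lc_g_rc_26_6 lc_g_Cert_tree lc_g_rc_21_2 lc_g_rc_23_3 lc_g_Cert_tree lc_g_rc_21_3 lc_g_Cert_tree lc_g_Cert_tree lc_g_rc_21_2 lc_g_rc_23_1 lc_g_rc_24_3 lc_g_rc_26_3 lc_g_rc_23_3 lc_g_rc_26_0 lc_g_rc_21_2 lc_g_rc_23_7 lc_g_rc_24_1 lc_g_Cert_tree lc_g_Cert_tree lc_g_rc_21_3 lc_g_Cert_tree lc_g_rc_26_0) (@D3.rec (fun _ => (Cert rels S Gen.g)) lc_g_Cert_tree lc_g_Cert_tree lc_g_rc_26_9 lc_g_rc_21_3 lc_g_rc_26_9 lc_g_Cert_tree lc_g_rc_21_3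 lc_g_rc_21_3 lc_g_Cert_tree lc_g_rc_21_2 lc_g_rc_21_3 lc_g_rc_21_2 lc_g_rc_21_3 lc_g_rc_26_0 lc_g_rc_21_3 lc_g_Cert_tree lc_g_rc_21_3 lc_g_rc_21_2 lc_g_rc_27_0 lc_g_rc_26_6 lc_g_rc_24_7 lc_g_Cert_tree lc_g_rc_27_3 lc_g_rc_21_2 lc_g_rc_21_2 lc_g_Cert_tree lc_g_rc_26_9 lc_g_rc_26_9 lc_g_Cert_tree lc_g_rc_23_7 lc_g_rc_23_1 lc_g_rc_21_2 lc_g_rc_21_3 lc_g_Cert_tree lc_g_Cert_tree lc_g_Cert_tree lc_g_rc_21_3 lc_g_Cert_tree lc_g_rc_21_2 lc_g_rc_21_3 lc_g_Cert_tree lc_g_rc_26_3 lc_g_rc_27_6 lc_g_rc_27_3 lc_g_rc_24_7 lc_g_rc_27_9 lc_g_Cert_tree lc_g_rc_26_3 lc_g_rc_27_9 lc_g_rc_26_3 lc_g_Cert_tree lc_g_Cert_tree lc_g_rc_24_3 lc_g_rc_21_3 lc_g_Cert_tree lc_g_rc_21_2 lc_g_rc_26_6 lc_g_rc_21_2 lc_g_rc_21_2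 lc_g_rc_21_3 lc_g_Cert_tree lc_g_rc_21_2) (@D3.rec (fun _ => (Cert rels S Gen.g)) lc_g_Cert_tree lc_g_rc_21_2 lc_g_Cert_tree lc_g_rc_26_6 lc_g_rc_27_0 lc_g_Cert_tree lc_g_rc_21_2 lc_g_Cert_tree lc_g_rc_21_2 lc_g_rc_21_3 lc_g_Cert_tree lc_g_rc_21_2 lc_g_rc_21_2 lc_g_rc_21_3 lc_g_rc_21_3 lc_g_Cert_tree lc_g_rc_21_2 lc_g_rc_26_0 lc_g_Cert_tree lc_g_Cert_tree lc_g_rc_21_3 lc_g_Cert_tree lc_g_rc_21_2 lc_g_rc_21_2 lc_g_Cert_tree lc_g_rc_24_7 lc_g_rc_27_0 lc_g_rc_21_3 lc_g_Cert_tree lc_g_rc_21_2 lc_g_rc_24_7 lc_g_Cert_tree lc_g_Cert_tree lc_g_rc_21_3 lc_g_Cert_tree lc_g_rc_27_3 lc_g_rc_21_2 lc_g_rc_24_7 lc_g_rc_27_0 lc_g_rc_26_9 lc_g_rc_27_9 lc_g_Cert_tree lc_g_rc_27_6 lc_g_rc_21_2 lc_g_rc_21_3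 lc_g_Cert_tree lc_g_rc_25_3 lc_g_rc_21_3 lc_g_rc_27_0 lc_g_Cert_tree lc_g_rc_23_3 lc_g_rc_21_2 lc_g_rc_21_3 lc_g_Cert_tree lc_g_rc_21_2 lc_g_Cert_tree lc_g_Cert_tree lc_g_rc_23_3 lc_g_Cert_tree lc_g_rc_26_3 lc_g_rc_26_6 lc_g_Cert_tree) (@D3.rec (fun _ => (Cert rels S Gen.g)) lc_g_Cert_tree lc_g_rc_21_2 lc_g_rc_21_2 lc_g_Cert_tree lc_g_rc_26_6 lc_g_rc_26_6 lc_g_Cert_tree lc_g_rc_21_3 lc_g_Cert_tree lc_g_rc_21_2 lc_g_Cert_tree lc_g_Cert_tree lc_g_rc_26_9 lc_g_rc_27_9 lc_g_rc_24_3 lc_g_rc_26_0 lc_g_rc_21_2 lc_g_rc_21_3 lc_g_Cert_tree lc_g_rc_21_2 lc_g_rc_21_3 lc_g_Cert_tree lc_g_rc_26_3 lc_g_Cert_tree lc_g_Cert_tree lc_g_rc_21_3 lc_g_Cert_tree lc_g_rc_21_2 lc_g_rc_26_0 lc_g_rc_23_9 lc_g_rc_27_0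 lc_g_rc_26_3 lc_g_Cert_tree lc_g_rc_21_2 lc_g_rc_26_3 lc_g_rc_27_6 lc_g_Cert_tree lc_g_rc_26_6 lc_g_rc_21_2 lc_g_Cert_tree lc_g_rc_23_3 lc_g_rc_23_9 lc_g_rc_21_3 lc_g_Cert_tree lc_g_rc_21_2 lc_g_rc_26_0 lc_g_Cert_tree lc_g_Cert_tree lc_g_rc_21_3 lc_g_Cert_tree lc_g_rc_23_3 lc_g_rc_21_2 lc_g_rc_24_7 lc_g_rc_27_0 lc_g_rc_26_9 lc_g_rc_21_3 lc_g_Cert_tree lc_g_rc_21_2 lc_g_rc_27_6 lc_g_Cert_tree lc_g_rc_26_3 lc_g_rc_27_3) (@D3.rec (fun _ => (Cert rels S Gen.g)) lc_g_rc_26_3 lc_g_rc_21_3 lc_g_rc_21_2 lc_g_rc_26_9 lc_g_rc_27_0 lc_g_Cert_tree lc_g_rc_27_3 lc_g_rc_26_3 lc_g_rc_26_3 lc_g_rc_23_1 lc_g_Cert_tree lc_g_rc_26_6 lc_g_Cert_tree lc_g_rc_21_2 lc_g_rc_26_0 lc_g_rc_26_3 lc_g_rc_21_3 lc_g_rc_26_6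 lc_g_rc_21_2 lc_g_Cert_tree lc_g_Cert_tree lc_g_rc_21_2 lc_g_Cert_tree lc_g_rc_21_3 lc_g_Cert_tree lc_g_rc_21_2 lc_g_rc_27_0 lc_g_rc_26_3 lc_g_rc_27_9 lc_g_rc_27_0 lc_g_rc_21_2 lc_g_rc_27_6 lc_g_Cert_tree lc_g_rc_23_7 lc_g_Cert_tree lc_g_Cert_tree lc_g_rc_21_2 lc_g_Cert_tree lc_g_rc_23_7 lc_g_rc_26_9 lc_g_Cert_tree lc_g_rc_23_7 lc_g_rc_24_9 lc_g_Cert_tree lc_g_Cert_tree lc_g_rc_26_3 lc_g_Cert_tree lc_g_rc_21_3 lc_g_rc_21_3 lc_g_Cert_tree lc_g_Cert_tree lc_g_rc_21_2 lc_g_rc_21_2 lc_g_Cert_tree lc_g_rc_24_7 lc_g_rc_21_2 lc_g_Cert_tree lc_g_Cert_tree lc_g_rc_21_2 lc_g_Cert_tree lc_g_rc_27_0 lc_g_rc_21_3) (@D3.rec (fun _ => (Cert rels S Gen.g)) lc_g_Cert_tree lc_g_rc_21_2 lc_g_Cert_tree lc_g_rc_24_1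 lc_g_rc_27_9 lc_g_rc_21_3 lc_g_Cert_tree lc_g_Cert_tree lc_g_rc_21_2 lc_g_rc_23_1 lc_g_rc_27_0 lc_g_Cert_tree lc_g_rc_21_3 lc_g_rc_27_6 lc_g_rc_21_3 lc_g_Cert_tree lc_g_rc_21_2 lc_g_Cert_tree lc_g_Cert_tree lc_g_Cert_tree lc_g_rc_26_3 lc_g_Cert_tree lc_g_Cert_tree lc_g_rc_21_2 lc_g_rc_21_2 lc_g_rc_21_2 lc_g_rc_27_0 lc_g_Cert_tree lc_g_rc_21_2 lc_g_rc_26_0 lc_g_rc_21_2 lc_g_rc_21_3 lc_g_Cert_tree lc_g_rc_26_3 lc_g_rc_21_2 lc_g_rc_21_2 lc_g_rc_27_3 lc_g_Cert_tree lc_g_rc_23_9 lc_g_rc_21_2 lc_g_rc_27_6 lc_g_rc_27_9 lc_g_rc_21_3 lc_g_rc_27_3 lc_g_rc_21_3 lc_g_Cert_tree lc_g_rc_21_2 lc_g_rc_21_2 lc_g_rc_27_3 lc_g_rc_23_3 lc_g_rc_21_3 lc_g_Cert_tree lc_g_rc_21_2 lc_g_rc_26_3 lc_g_rc_23_9 lc_g_rc_21_3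 lc_g_Cert_tree lc_g_rc_26_3 lc_g_Cert_tree lc_g_rc_23_3 lc_g_rc_21_3 lc_g_rc_21_3) (@D3.rec (fun _ => (Cert rels S Gen.g)) lc_g_Cert_tree lc_g_rc_26_6 lc_g_rc_26_0 lc_g_rc_27_0 lc_g_rc_21_2 lc_g_rc_27_0 lc_g_rc_23_1 lc_g_Cert_tree lc_g_rc_21_3 lc_g_rc_23_3 lc_g_rc_26_0 lc_g_rc_21_2 lc_g_rc_21_3 lc_g_rc_21_2 lc_g_rc_21_3 lc_g_Cert_tree lc_g_rc_21_2 lc_g_rc_27_0 lc_g_rc_27_9 lc_g_rc_26_0 lc_g_Cert_tree lc_g_rc_21_3 lc_g_rc_21_2 lc_g_rc_21_3 lc_g_Cert_tree lc_g_rc_27_0 lc_g_rc_26_9 lc_g_rc_27_3 lc_g_rc_27_3 lc_g_rc_27_6 lc_g_rc_27_9 lc_g_rc_27_9 lc_g_rc_25_7 lc_g_rc_21_3 lc_g_rc_26_3 lc_g_rc_26_0 lc_g_rc_23_7 lc_g_rc_24_3 lc_g_rc_21_3 lc_g_Cert_tree lc_g_rc_21_2 lc_g_Cert_tree lc_g_rc_21_3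 lc_g_Cert_tree lc_g_Cert_tree lc_g_rc_23_7 lc_g_rc_23_1 lc_g_rc_21_3 lc_g_Cert_tree lc_g_rc_21_2 lc_g_Cert_tree lc_g_rc_21_3 lc_g_rc_21_2 lc_g_Cert_tree lc_g_rc_27_6 lc_g_rc_23_3 lc_g_rc_26_6 lc_g_rc_21_3 lc_g_rc_27_6 lc_g_Cert_tree lc_g_rc_27_9 lc_g_rc_23_9) (@D3.rec (fun _ => (Cert rels S Gen.g)) lc_g_rc_26_9 lc_g_Cert_tree lc_g_rc_21_2 lc_g_rc_21_3 lc_g_Cert_tree lc_g_rc_26_9 lc_g_Cert_tree lc_g_Cert_tree lc_g_Cert_tree lc_g_rc_26_9 lc_g_rc_21_3 lc_g_Cert_tree lc_g_rc_21_2 lc_g_Cert_tree lc_g_rc_23_1 lc_g_rc_27_6 lc_g_rc_27_6 lc_g_Cert_tree lc_g_Cert_tree lc_g_rc_23_7 lc_g_Cert_tree lc_g_rc_23_7 lc_g_rc_27_6 lc_g_Cert_tree lc_g_rc_24_3 lc_g_rc_25_3 lc_g_Cert_tree lc_g_Cert_tree lc_g_rc_21_2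 lc_g_Cert_tree lc_g_rc_23_3 lc_g_rc_27_3 lc_g_Cert_tree lc_g_rc_26_3 lc_g_rc_27_0 lc_g_rc_26_0 lc_g_Cert_tree lc_g_rc_21_3 lc_g_Cert_tree lc_g_rc_21_2 lc_g_Cert_tree lc_g_rc_21_2 lc_g_rc_21_3 lc_g_Cert_tree lc_g_rc_26_6 lc_g_Cert_tree lc_g_rc_21_2 lc_g_Cert_tree lc_g_rc_21_3 lc_g_Cert_tree lc_g_rc_21_2 lc_g_Cert_tree lc_g_Cert_tree lc_g_rc_21_3 lc_g_Cert_tree lc_g_Cert_tree lc_g_rc_21_3 lc_g_Cert_tree lc_g_rc_27_3 lc_g_rc_21_2 lc_g_rc_23_1 lc_g_rc_24_1) (@D3.rec (fun _ => (Cert rels S Gen.g)) lc_g_rc_23_9 lc_g_rc_27_9 lc_g_rc_21_3 lc_g_Cert_tree lc_g_rc_21_2 lc_g_Cert_tree lc_g_Cert_tree lc_g_rc_27_6 lc_g_rc_21_3 lc_g_Cert_tree lc_g_rc_21_2 lc_g_rc_21_2 lc_g_rc_27_6 lc_g_rc_27_0 lc_g_rc_24_7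 lc_g_rc_21_3 lc_g_Cert_tree lc_g_rc_21_2 lc_g_Cert_tree lc_g_rc_26_6 lc_g_rc_24_1 lc_g_Cert_tree lc_g_rc_27_3 lc_g_rc_21_2 lc_g_rc_21_3 lc_g_Cert_tree lc_g_rc_21_2 lc_g_Cert_tree lc_g_Cert_tree lc_g_Cert_tree lc_g_rc_24_9 lc_g_rc_24_7 lc_g_rc_21_2 lc_g_rc_21_2 lc_g_Cert_tree lc_g_rc_27_9 lc_g_rc_26_3 lc_g_Cert_tree lc_g_rc_26_0 lc_g_Cert_tree lc_g_Cert_tree lc_g_Cert_tree lc_g_rc_21_3 lc_g_Cert_tree lc_g_Cert_tree lc_g_Cert_tree lc_g_rc_21_2 lc_g_Cert_tree lc_g_rc_26_3 lc_g_rc_23_3 lc_g_rc_26_9 lc_g_Cert_tree lc_g_rc_21_2 lc_g_Cert_tree lc_g_rc_21_3 lc_g_Cert_tree lc_g_rc_21_2 lc_g_Cert_tree lc_g_rc_21_2 lc_g_rc_21_3 lc_g_rc_27_0 lc_g_Cert_tree) (@D3.rec (fun _ => (Cert rels S Gen.g)) lc_g_rc_21_2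 lc_g_Cert_tree lc_g_rc_27_6 lc_g_rc_21_3 lc_g_Cert_tree lc_g_rc_21_2 lc_g_rc_26_6 lc_g_Cert_tree lc_g_rc_21_3 lc_g_Cert_tree lc_g_rc_23_7 lc_g_rc_26_9 lc_g_rc_27_6 lc_g_rc_21_3 lc_g_Cert_tree lc_g_rc_21_2 lc_g_rc_23_3 lc_g_rc_26_9 lc_g_Cert_tree lc_g_rc_26_6 lc_g_rc_24_7 lc_g_rc_27_0 lc_g_Cert_tree lc_g_rc_21_2 lc_g_rc_21_3 lc_g_Cert_tree lc_g_rc_21_2 lc_g_Cert_tree lc_g_rc_27_6 lc_g_Cert_tree lc_g_rc_21_2 lc_g_rc_21_3 lc_g_Cert_tree lc_g_rc_21_2 lc_g_rc_23_1 lc_g_rc_23_3 lc_g_rc_21_2 lc_g_rc_24_7 lc_g_rc_24_7 lc_g_rc_27_0 lc_g_rc_21_3 lc_g_Cert_tree lc_g_rc_23_1 lc_g_rc_21_2 lc_g_rc_23_9 lc_g_Cert_tree lc_g_rc_24_1 lc_g_rc_21_3 lc_g_Cert_tree lc_g_rc_21_2 lc_g_rc_25_15 lc_g_rc_21_3 lc_g_Cert_tree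 lc_g_Cert_tree lc_g_rc_21_2 lc_g_rc_27_3 lc_g_rc_24_7 lc_g_rc_24_3 lc_g_rc_21_3 lc_g_Cert_tree lc_g_rc_26_9 lc_g_rc_21_3) (@D3.rec (fun _ => (Cert rels S Gen.g)) lc_g_Cert_tree lc_g_Cert_tree lc_g_rc_27_6 lc_g_Cert_tree lc_g_Cert_tree lc_g_rc_21_3 lc_g_Cert_tree lc_g_rc_21_2 lc_g_rc_24_1 lc_g_Cert_tree lc_g_rc_23_3 lc_g_Cert_tree lc_g_rc_21_2 lc_g_rc_21_3 lc_g_Cert_tree lc_g_rc_21_2 lc_g_rc_26_6 lc_g_Cert_tree lc_g_rc_27_3 lc_g_Cert_tree lc_g_Cert_tree lc_g_rc_26_6 lc_g_rc_21_2 lc_g_rc_23_7 lc_g_rc_27_0 lc_g_Cert_tree lc_g_rc_26_3 lc_g_rc_23_9 lc_g_rc_21_3 lc_g_rc_21_2 lc_g_rc_27_6 lc_g_rc_21_3 lc_g_Cert_tree lc_g_Cert_tree lc_g_rc_21_3 lc_g_Cert_tree lc_g_Cert_tree lc_g_rc_21_2 lc_g_rc_21_2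 lc_g_rc_21_3 lc_g_rc_26_6 lc_g_rc_26_0 lc_g_rc_23_3 lc_g_Cert_tree lc_g_Cert_tree lc_g_rc_21_2 lc_g_Cert_tree lc_g_rc_23_7 lc_g_rc_26_3 lc_g_rc_23_1 lc_g_rc_27_9 lc_g_rc_24_3 lc_g_rc_21_3 lc_g_Cert_tree lc_g_Cert_tree lc_g_rc_21_2 lc_g_rc_24_9 lc_g_Cert_tree lc_g_rc_21_3 lc_g_rc_23_1 lc_g_rc_27_0 lc_g_rc_23_1) (@D3.rec (fun _ => (Cert rels S Gen.g)) lc_g_rc_24_3 lc_g_rc_26_9 lc_g_rc_27_0 lc_g_rc_24_7 lc_g_rc_21_3 lc_g_Cert_tree lc_g_Cert_tree lc_g_Cert_tree lc_g_rc_21_2 lc_g_rc_23_3 lc_g_rc_26_6 lc_g_rc_27_9 lc_g_rc_21_2 lc_g_rc_24_1 lc_g_Cert_tree lc_g_rc_23_3 lc_g_rc_21_3 lc_g_Cert_tree lc_g_rc_23_3 lc_g_Cert_tree lc_g_rc_26_6 lc_g_rc_21_3 lc_g_Cert_tree lc_g_rc_21_3 lc_g_Cert_tree lc_g_rc_21_2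 lc_g_Cert_tree lc_g_Cert_tree lc_g_Cert_tree lc_g_rc_21_3 lc_g_Cert_tree lc_g_rc_21_2 lc_g_rc_21_3 lc_g_Cert_tree lc_g_rc_27_9 lc_g_rc_21_3 lc_g_Cert_tree lc_g_rc_21_2 lc_g_Cert_tree lc_g_rc_26_6 lc_g_rc_21_2 lc_g_rc_26_9 lc_g_rc_27_9 lc_g_rc_27_6 lc_g_rc_26_3 lc_g_rc_27_3 lc_g_Cert_tree lc_g_rc_21_2 lc_g_rc_23_1 lc_g_Cert_tree lc_g_rc_23_7 lc_g_rc_26_0 lc_g_rc_21_2 lc_g_rc_26_6 lc_g_rc_27_0 lc_g_rc_21_2 lc_g_Cert_tree lc_g_rc_21_3 lc_g_Cert_tree lc_g_Cert_tree lc_g_rc_27_6 lc_g_rc_27_0) (@D3.rec (fun _ => (Cert rels S Gen.g)) lc_g_Cert_tree lc_g_Cert_tree lc_g_rc_27_0 lc_g_rc_21_3 lc_g_Cert_tree lc_g_Cert_tree lc_g_rc_21_2 lc_g_Cert_tree lc_g_rc_21_3 lc_g_Cert_tree lc_g_rc_21_3 lc_g_rc_27_6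 lc_g_rc_27_9 lc_g_rc_21_3 lc_g_Cert_tree lc_g_Cert_tree lc_g_rc_21_2 lc_g_rc_21_3 lc_g_rc_24_7 lc_g_Cert_tree lc_g_rc_21_3 lc_g_rc_26_6 lc_g_rc_21_2 lc_g_rc_26_3 lc_g_rc_23_1 lc_g_rc_21_3 lc_g_Cert_tree lc_g_Cert_tree lc_g_Cert_tree lc_g_rc_21_2 lc_g_rc_26_6 lc_g_rc_23_1 lc_g_rc_26_9 lc_g_Cert_tree lc_g_rc_23_1 lc_g_rc_21_2 lc_g_rc_26_6 lc_g_Cert_tree lc_g_Cert_tree lc_g_rc_21_2 lc_g_rc_26_3 lc_g_rc_21_2 lc_g_rc_21_2 lc_g_rc_21_3 lc_g_Cert_tree lc_g_rc_21_2 lc_g_rc_21_2 lc_g_Cert_tree lc_g_rc_24_3 lc_g_rc_26_3 lc_g_Cert_tree lc_g_rc_27_3 lc_g_rc_26_9 lc_g_rc_27_3 lc_g_rc_21_3 lc_g_rc_27_3 lc_g_rc_27_0 lc_g_Cert_tree lc_g_rc_21_3 lc_g_Cert_tree lc_g_rc_21_2 lc_g_Cert_tree) (@D3.rec (fun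 _ => (Cert rels S Gen.g)) lc_g_rc_24_1 lc_g_rc_21_3 lc_g_Cert_tree lc_g_rc_21_2 lc_g_rc_21_3 lc_g_rc_24_3 lc_g_rc_27_9 lc_g_Cert_tree lc_g_rc_24_9 lc_g_rc_23_1 lc_g_Cert_tree lc_g_rc_21_3 lc_g_Cert_tree lc_g_rc_27_9 lc_g_rc_26_3 lc_g_rc_21_3 lc_g_Cert_tree lc_g_Cert_tree lc_g_rc_21_2 lc_g_rc_26_9 lc_g_Cert_tree lc_g_rc_26_6 lc_g_rc_24_1 lc_g_rc_24_3 lc_g_Cert_tree lc_g_rc_27_0 lc_g_rc_23_3 lc_g_Cert_tree lc_g_rc_23_9 lc_g_rc_21_3 lc_g_rc_24_1 lc_g_rc_23_9 lc_g_rc_27_0 lc_g_rc_27_3 lc_g_rc_27_0 lc_g_rc_27_6 lc_g_Cert_tree lc_g_Cert_tree lc_g_rc_27_6 lc_g_rc_21_2 lc_g_rc_21_3 lc_g_Cert_tree lc_g_rc_21_2 lc_g_Cert_tree lc_g_Cert_tree lc_g_rc_26_3 lc_g_Cert_tree lc_g_rc_23_3 lc_g_rc_23_9 lc_g_rc_27_0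 lc_g_rc_24_1 lc_g_Cert_tree lc_g_rc_26_9 lc_g_rc_21_2 lc_g_rc_27_0 lc_g_rc_21_2 lc_g_rc_21_3 lc_g_Cert_tree lc_g_Cert_tree lc_g_rc_21_3 lc_g_Cert_tree lc_g_rc_21_2) (@D3.rec (fun _ => (Cert rels S Gen.g)) lc_g_Cert_tree lc_g_rc_27_3 lc_g_rc_26_9 lc_g_rc_26_9 lc_g_rc_23_3 lc_g_rc_23_7 lc_g_Cert_tree lc_g_rc_23_3 lc_g_rc_23_1 lc_g_Cert_tree lc_g_rc_27_3 lc_g_Cert_tree lc_g_rc_24_3 lc_g_rc_27_0 lc_g_rc_21_3 lc_g_Cert_tree lc_g_Cert_tree lc_g_rc_23_7 lc_g_rc_21_2 lc_g_rc_21_3 lc_g_Cert_tree lc_g_rc_21_3 lc_g_Cert_tree lc_g_rc_21_2 lc_g_rc_21_2 lc_g_rc_24_3 lc_g_rc_23_9 lc_g_rc_24_3 lc_g_rc_21_2 lc_g_rc_24_1 lc_g_Cert_tree lc_g_Cert_tree lc_g_Cert_tree lc_g_rc_21_2 lc_g_Cert_tree lc_g_Cert_tree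 lc_g_rc_27_6 lc_g_rc_21_3 lc_g_Cert_tree lc_g_rc_24_1 lc_g_rc_21_2 lc_g_Cert_tree lc_g_rc_21_3 lc_g_rc_27_0 lc_g_Cert_tree lc_g_rc_21_2 lc_g_rc_23_1 lc_g_rc_23_7 lc_g_rc_21_3 lc_g_rc_26_3 lc_g_rc_26_6 lc_g_rc_23_3 lc_g_rc_21_2 lc_g_rc_21_2 lc_g_rc_26_6 lc_g_Cert_tree lc_g_Cert_tree lc_g_Cert_tree lc_g_rc_21_3 lc_g_Cert_tree lc_g_rc_21_3 lc_g_rc_21_3) (@D3.rec (fun _ => (Cert rels S Gen.g)) lc_g_Cert_tree lc_g_rc_26_6 lc_g_rc_26_3 lc_g_Cert_tree lc_g_rc_21_2 lc_g_rc_23_3 lc_g_Cert_tree lc_g_rc_21_3 lc_g_rc_21_2 lc_g_rc_21_2 lc_g_rc_21_2 lc_g_rc_26_0 lc_g_rc_23_3 lc_g_rc_26_3 lc_g_Cert_tree lc_g_rc_26_6 lc_g_rc_23_3 lc_g_Cert_tree lc_g_rc_26_0 lc_g_rc_21_3 lc_g_rc_26_0 lc_g_Cert_tree lc_g_rc_27_6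 lc_g_rc_21_2 lc_g_rc_21_3 lc_g_Cert_tree lc_g_rc_26_6 lc_g_rc_21_2 lc_g_rc_23_1 lc_g_Cert_tree lc_g_rc_24_7 lc_g_rc_27_0 lc_g_rc_21_3 lc_g_rc_25_19 lc_g_Cert_tree lc_g_rc_27_0 lc_g_rc_21_2 lc_g_Cert_tree lc_g_rc_21_2 lc_g_rc_27_9 lc_g_Cert_tree lc_g_rc_27_3 lc_g_rc_26_6 lc_g_rc_21_3 lc_g_Cert_tree lc_g_Cert_tree lc_g_Cert_tree lc_g_rc_21_2 lc_g_Cert_tree lc_g_rc_27_6 lc_g_rc_21_2 lc_g_rc_21_2 lc_g_rc_26_6 lc_g_rc_21_3 lc_g_rc_27_6 lc_g_Cert_tree lc_g_Cert_tree lc_g_rc_23_1 lc_g_rc_21_3 lc_g_Cert_tree lc_g_rc_27_6 lc_g_Cert_tree) (@D3.rec (fun _ => (Cert rels S Gen.g)) lc_g_rc_21_3 lc_g_Cert_tree lc_g_rc_23_9 lc_g_rc_21_3 lc_g_rc_24_3 lc_g_Cert_tree lc_g_Cert_tree lc_g_Cert_tree lc_g_rc_21_2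 lc_g_rc_23_9 lc_g_Cert_tree lc_g_rc_27_6 lc_g_Cert_tree lc_g_Cert_tree lc_g_rc_26_3 lc_g_rc_21_3 lc_g_rc_21_2 lc_g_rc_23_9 lc_g_Cert_tree lc_g_Cert_tree lc_g_rc_24_3 lc_g_Cert_tree lc_g_rc_27_3 lc_g_rc_27_6 lc_g_rc_27_6 lc_g_Cert_tree lc_g_rc_27_3 lc_g_rc_21_3 lc_g_Cert_tree lc_g_Cert_tree lc_g_rc_23_3 lc_g_rc_26_9 lc_g_rc_23_3 lc_g_rc_21_3 lc_g_rc_23_3 lc_g_rc_27_3 lc_g_rc_21_3 lc_g_rc_23_1 lc_g_rc_21_3 lc_g_Cert_tree lc_g_rc_21_2 lc_g_rc_21_3 lc_g_rc_27_9 lc_g_rc_27_6 lc_g_rc_23_3 lc_g_rc_21_2 lc_g_rc_21_2 lc_g_rc_27_0 lc_g_Cert_tree lc_g_rc_21_3 lc_g_rc_27_9 lc_g_rc_27_9 lc_g_rc_23_1 lc_g_rc_27_6 lc_g_Cert_tree lc_g_rc_23_1 lc_g_Cert_tree lc_g_rc_27_0 lc_g_Cert_tree lc_g_Cert_tree lc_g_rc_26_3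 lc_g_Cert_tree) (@D3.rec (fun _ => (Cert rels S Gen.g)) lc_g_Cert_tree lc_g_rc_21_2 lc_g_rc_23_7 lc_g_rc_24_7 lc_g_rc_23_3 lc_g_rc_21_3 lc_g_Cert_tree lc_g_rc_21_2 lc_g_rc_21_2 lc_g_rc_21_3 lc_g_rc_27_0 lc_g_rc_24_7 lc_g_rc_27_6 lc_g_rc_21_3 lc_g_Cert_tree lc_g_rc_26_9 lc_g_rc_27_3 lc_g_rc_24_7 lc_g_Cert_tree lc_g_rc_27_0 lc_g_Cert_tree lc_g_rc_24_7 lc_g_rc_21_2 lc_g_rc_26_3 lc_g_rc_24_1 lc_g_rc_21_3 lc_g_Cert_tree lc_g_rc_21_3 lc_g_Cert_tree lc_g_Cert_tree lc_g_rc_23_3 lc_g_Cert_tree lc_g_rc_24_1 lc_g_rc_27_6 lc_g_Cert_tree lc_g_rc_23_7 lc_g_rc_21_3 lc_g_rc_21_2 lc_g_Cert_tree lc_g_Cert_tree lc_g_rc_23_3 lc_g_rc_21_2 lc_g_rc_21_2 lc_g_rc_21_2 lc_g_rc_24_9 lc_g_Cert_tree lc_g_rc_23_1 lc_g_rc_27_6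 lc_g_rc_24_7 lc_g_rc_27_3 lc_g_rc_21_3 lc_g_Cert_tree lc_g_rc_23_9 lc_g_rc_21_2 lc_g_rc_23_7 lc_g_rc_27_0 lc_g_rc_21_2 lc_g_Cert_tree lc_g_rc_21_2 lc_g_Cert_tree lc_g_rc_21_2 lc_g_rc_26_6) (@D3.rec (fun _ => (Cert rels S Gen.g)) lc_g_Cert_tree lc_g_Cert_tree lc_g_Cert_tree lc_g_rc_21_3 lc_g_Cert_tree lc_g_rc_27_3 lc_g_rc_21_2 lc_g_rc_21_3 lc_g_rc_27_0 lc_g_rc_23_1 lc_g_rc_23_1 lc_g_rc_27_3 lc_g_rc_26_9 lc_g_rc_21_2 lc_g_rc_26_0 lc_g_rc_21_2 lc_g_Cert_tree lc_g_rc_27_6 lc_g_Cert_tree lc_g_rc_27_6 lc_g_Cert_tree lc_g_rc_27_3 lc_g_rc_27_6 lc_g_rc_21_3 lc_g_rc_27_6 lc_g_rc_24_3 lc_g_rc_26_3 lc_g_rc_27_9 lc_g_rc_21_3 lc_g_rc_27_3 lc_g_rc_21_3 lc_g_rc_24_7 lc_g_rc_21_3 lc_g_Cert_tree lc_g_rc_21_2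 lc_g_Cert_tree lc_g_rc_23_1 lc_g_Cert_tree lc_g_rc_23_3 lc_g_rc_21_3 lc_g_Cert_tree lc_g_Cert_tree lc_g_rc_21_2 lc_g_rc_21_3 lc_g_rc_27_0 lc_g_rc_24_7 lc_g_Cert_tree lc_g_rc_21_3 lc_g_rc_27_0 lc_g_rc_23_9 lc_g_rc_23_3 lc_g_rc_21_2 lc_g_Cert_tree lc_g_rc_27_3 lc_g_rc_21_2 lc_g_Cert_tree lc_g_Cert_tree lc_g_Cert_tree lc_g_rc_27_6 lc_g_Cert_tree lc_g_rc_27_6 lc_g_rc_27_9) (@D3.rec (fun _ => (Cert rels S Gen.g)) lc_g_Cert_tree lc_g_rc_24_7 lc_g_rc_23_7 lc_g_rc_21_2 lc_g_rc_23_7 lc_g_rc_21_2 lc_g_rc_21_3 lc_g_Cert_tree lc_g_rc_26_6 lc_g_Cert_tree lc_g_rc_21_2 lc_g_rc_24_7 lc_g_rc_27_3 lc_g_Cert_tree lc_g_rc_23_3 lc_g_rc_26_3 lc_g_rc_26_0 lc_g_Cert_tree lc_g_rc_21_2 lc_g_rc_21_3 lc_g_Cert_tree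 lc_g_rc_26_0 lc_g_Cert_tree lc_g_Cert_tree lc_g_rc_21_2 lc_g_rc_21_3 lc_g_rc_26_0 lc_g_rc_21_3 lc_g_Cert_tree lc_g_rc_21_3 lc_g_rc_26_0 lc_g_rc_26_0 lc_g_rc_21_2 lc_g_Cert_tree lc_g_rc_27_3 lc_g_rc_21_2 lc_g_Cert_tree lc_g_Cert_tree lc_g_Cert_tree lc_g_rc_21_2 lc_g_rc_21_3 lc_g_rc_21_3 lc_g_Cert_tree lc_g_rc_21_3 lc_g_Cert_tree lc_g_rc_21_2 lc_g_rc_21_3 lc_g_Cert_tree lc_g_rc_27_0 lc_g_rc_27_0 lc_g_Cert_tree lc_g_rc_26_6 lc_g_rc_27_0 lc_g_rc_27_0 lc_g_rc_21_3 lc_g_rc_21_3 lc_g_Cert_tree lc_g_rc_21_2 lc_g_Cert_tree lc_g_Cert_tree lc_g_Cert_tree lc_g_rc_21_3) (@D3.rec (fun _ => (Cert rels S Gen.g)) lc_g_Cert_tree lc_g_Cert_tree lc_g_rc_26_3 lc_g_rc_27_9 lc_g_rc_23_9 lc_g_rc_21_3 lc_g_Cert_tree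 lc_g_rc_21_2 lc_g_Cert_tree lc_g_rc_27_9 lc_g_rc_24_3 lc_g_Cert_tree lc_g_rc_21_3 lc_g_rc_24_7 lc_g_rc_27_0 lc_g_rc_26_6 lc_g_rc_26_3 lc_g_rc_21_3 lc_g_Cert_tree lc_g_rc_21_2 lc_g_rc_21_3 lc_g_Cert_tree lc_g_rc_27_3 lc_g_rc_21_3 lc_g_Cert_tree lc_g_Cert_tree lc_g_rc_21_2 lc_g_rc_24_7 lc_g_rc_27_9 lc_g_rc_27_9 lc_g_rc_23_1 lc_g_Cert_tree lc_g_rc_23_7 lc_g_rc_27_6 lc_g_Cert_tree lc_g_rc_26_6 lc_g_rc_21_3 lc_g_Cert_tree lc_g_rc_21_2 lc_g_Cert_tree lc_g_Cert_tree lc_g_Cert_tree lc_g_Cert_tree lc_g_Cert_tree lc_g_rc_21_2 lc_g_rc_26_3 lc_g_rc_21_3 lc_g_Cert_tree lc_g_rc_21_2 lc_g_Cert_tree lc_g_Cert_tree lc_g_Cert_tree lc_g_Cert_tree lc_g_rc_21_2 lc_g_rc_21_3 lc_g_Cert_tree lc_g_rc_21_2 lc_g_Cert_tree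 lc_g_Cert_tree lc_g_Cert_tree lc_g_rc_23_3 lc_g_rc_21_2) (@D3.rec (fun _ => (Cert rels S Gen.g)) lc_g_rc_24_7 lc_g_rc_26_9 lc_g_rc_23_7 lc_g_Cert_tree lc_g_Cert_tree lc_g_rc_23_7 lc_g_rc_26_3 lc_g_rc_21_2 lc_g_rc_24_3 lc_g_rc_21_3 lc_g_Cert_tree lc_g_Cert_tree lc_g_rc_26_6 lc_g_Cert_tree lc_g_rc_26_0 lc_g_rc_23_3 lc_g_Cert_tree lc_g_rc_27_6 lc_g_rc_21_2 lc_g_rc_26_0 lc_g_rc_21_2 lc_g_rc_23_3 lc_g_Cert_tree lc_g_rc_24_3 lc_g_rc_21_3 lc_g_rc_23_9 lc_g_rc_21_3 lc_g_rc_23_3 lc_g_rc_24_7 lc_g_rc_27_0 lc_g_rc_24_3 lc_g_Cert_tree lc_g_rc_21_3 lc_g_rc_27_3 lc_g_Cert_tree lc_g_rc_26_9 lc_g_Cert_tree lc_g_rc_23_1 lc_g_Cert_tree lc_g_rc_21_3 lc_g_Cert_tree lc_g_rc_23_1 lc_g_rc_25_7 lc_g_rc_21_3 lc_g_rc_21_3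 lc_g_Cert_tree lc_g_rc_21_2 lc_g_rc_21_3 lc_g_Cert_tree lc_g_Cert_tree lc_g_rc_21_3 lc_g_Cert_tree lc_g_Cert_tree lc_g_rc_21_2 lc_g_rc_23_1 lc_g_rc_23_1 lc_g_rc_27_9 lc_g_rc_27_9 lc_g_rc_24_7 lc_g_rc_27_0 lc_g_rc_26_9 lc_g_rc_26_3) (@D3.rec (fun _ => (Cert rels S Gen.g)) lc_g_rc_23_1 lc_g_rc_21_3 lc_g_Cert_tree lc_g_Cert_tree lc_g_rc_26_3 lc_g_rc_25_7 lc_g_Cert_tree lc_g_rc_21_2 lc_g_rc_21_3 lc_g_Cert_tree lc_g_rc_27_6 lc_g_rc_21_2 lc_g_rc_21_3 lc_g_rc_23_3 lc_g_rc_27_9 lc_g_rc_27_0 lc_g_rc_21_2 lc_g_rc_23_7 lc_g_rc_21_3 lc_g_rc_21_2 lc_g_rc_27_0 lc_g_rc_23_7 lc_g_rc_23_1 lc_g_rc_26_9 lc_g_rc_26_0 lc_g_rc_23_1 lc_g_rc_27_0 lc_g_rc_27_6 lc_g_Cert_tree lc_g_rc_27_6 lc_g_rc_21_3 lc_g_Cert_tree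 lc_g_Cert_tree lc_g_rc_21_3 lc_g_rc_27_6 lc_g_rc_21_3 lc_g_Cert_tree lc_g_rc_23_1 lc_g_rc_21_2 lc_g_rc_26_9 lc_g_Cert_tree lc_g_rc_26_0 lc_g_rc_23_1 lc_g_rc_21_2 lc_g_rc_21_2 lc_g_Cert_tree lc_g_rc_21_3 lc_g_Cert_tree lc_g_rc_23_9 lc_g_Cert_tree lc_g_Cert_tree lc_g_rc_27_9 lc_g_rc_21_3 lc_g_Cert_tree lc_g_rc_21_3 lc_g_rc_21_2 lc_g_rc_21_3 lc_g_rc_21_2 lc_g_rc_21_2 lc_g_rc_21_2 lc_g_rc_26_9 lc_g_rc_23_9) (@D3.rec (fun _ => (Cert rels S Gen.g)) lc_g_rc_21_2 lc_g_rc_23_1 lc_g_rc_27_6 lc_g_rc_27_6 lc_g_Cert_tree lc_g_rc_23_1 lc_g_Cert_tree lc_g_rc_24_1 lc_g_rc_27_9 lc_g_rc_21_3 lc_g_Cert_tree lc_g_rc_24_7 lc_g_Cert_tree lc_g_rc_26_0 lc_g_rc_21_3 lc_g_rc_27_0 lc_g_rc_26_0 lc_g_Cert_tree lc_g_rc_26_0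 lc_g_Cert_tree lc_g_Cert_tree lc_g_rc_21_2 lc_g_Cert_tree lc_g_rc_21_3 lc_g_Cert_tree lc_g_rc_21_2 lc_g_rc_24_1 lc_g_rc_25_19 lc_g_rc_26_3 lc_g_Cert_tree lc_g_Cert_tree lc_g_rc_21_3 lc_g_rc_23_7 lc_g_Cert_tree lc_g_rc_26_3 lc_g_rc_27_9 lc_g_Cert_tree lc_g_rc_27_0 lc_g_rc_21_2 lc_g_rc_21_2 lc_g_rc_26_3 lc_g_rc_26_9 lc_g_rc_21_3 lc_g_rc_24_1 lc_g_rc_21_2 lc_g_rc_23_3 lc_g_rc_21_3 lc_g_Cert_tree lc_g_Cert_tree lc_g_rc_24_7 lc_g_rc_21_2 lc_g_rc_21_3 lc_g_rc_24_1 lc_g_rc_24_7 lc_g_Cert_tree lc_g_rc_21_3 lc_g_Cert_tree lc_g_rc_21_2 lc_g_Cert_tree lc_g_rc_21_3 lc_g_Cert_tree lc_g_Cert_tree) (@D3.rec (fun _ => (Cert rels S Gen.g)) lc_g_rc_26_9 lc_g_rc_27_3 lc_g_rc_27_0 lc_g_Cert_tree lc_g_rc_21_3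 lc_g_rc_21_3 lc_g_rc_21_2 lc_g_rc_21_3 lc_g_Cert_tree lc_g_rc_21_2 lc_g_rc_26_6 lc_g_Cert_tree lc_g_Cert_tree lc_g_rc_21_3 lc_g_Cert_tree lc_g_rc_21_2 lc_g_rc_23_1 lc_g_rc_21_2 lc_g_rc_26_0 lc_g_rc_23_3 lc_g_rc_26_9 lc_g_Cert_tree lc_g_Cert_tree lc_g_rc_21_2 lc_g_Cert_tree lc_g_Cert_tree lc_g_rc_26_3 lc_g_rc_27_6 lc_g_Cert_tree lc_g_rc_24_9 lc_g_rc_21_3 lc_g_Cert_tree lc_g_rc_21_2 lc_g_Cert_tree lc_g_rc_24_1 lc_g_rc_21_2 lc_g_rc_26_3 lc_g_Cert_tree lc_g_rc_21_2 lc_g_rc_24_1 lc_g_rc_21_3 lc_g_Cert_tree lc_g_rc_26_6 lc_g_rc_21_3 lc_g_Cert_tree lc_g_rc_21_2 lc_g_Cert_tree lc_g_Cert_tree lc_g_rc_23_1 lc_g_Cert_tree lc_g_rc_21_3 lc_g_Cert_tree lc_g_rc_21_2 lc_g_rc_27_0 lc_g_Cert_tree lc_g_rc_21_3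 lc_g_Cert_tree lc_g_rc_21_2 lc_g_rc_24_3 lc_g_rc_27_0 lc_g_rc_21_3 lc_g_Cert_tree) (@D3.rec (fun _ => (Cert rels S Gen.g)) lc_g_rc_26_9 lc_g_Cert_tree lc_g_rc_24_1 lc_g_rc_23_1 lc_g_rc_21_2 lc_g_rc_26_6 lc_g_Cert_tree lc_g_rc_21_2 lc_g_rc_24_3 lc_g_Cert_tree lc_g_rc_21_2 lc_g_rc_26_6 lc_g_rc_26_3 lc_g_rc_23_7 lc_g_rc_27_6 lc_g_Cert_tree lc_g_rc_23_7 lc_g_rc_24_3 lc_g_rc_21_2 lc_g_Cert_tree lc_g_rc_21_3 lc_g_Cert_tree lc_g_Cert_tree lc_g_Cert_tree lc_g_rc_21_3 lc_g_Cert_tree lc_g_Cert_tree lc_g_rc_27_6 lc_g_rc_21_2 lc_g_rc_27_6 lc_g_rc_21_2 lc_g_rc_27_6 lc_g_rc_21_3 lc_g_Cert_tree lc_g_Cert_tree lc_g_rc_21_2 lc_g_Cert_tree lc_g_rc_21_2 lc_g_Cert_tree lc_g_rc_21_2 lc_g_rc_24_1 lc_g_rc_24_1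 lc_g_rc_21_3 lc_g_Cert_tree lc_g_Cert_tree lc_g_rc_21_2 lc_g_rc_26_3 lc_g_Cert_tree lc_g_Cert_tree lc_g_rc_26_3 lc_g_rc_27_6 lc_g_rc_23_3 lc_g_rc_26_3 lc_g_rc_27_9 lc_g_rc_26_6 lc_g_rc_24_3 lc_g_rc_27_0 lc_g_rc_21_3 lc_g_Cert_tree lc_g_rc_26_3 lc_g_rc_21_2 lc_g_rc_21_2) (@D3.rec (fun _ => (Cert rels S Gen.g)) lc_g_Cert_tree lc_g_rc_21_3 lc_g_rc_21_3 lc_g_Cert_tree lc_g_rc_21_2 lc_g_rc_21_2 lc_g_Cert_tree lc_g_Cert_tree lc_g_rc_26_0 lc_g_rc_21_3 lc_g_Cert_tree lc_g_rc_26_0 lc_g_Cert_tree lc_g_rc_26_6 lc_g_rc_21_2 lc_g_rc_27_6 lc_g_rc_24_3 lc_g_rc_21_3 lc_g_rc_21_3 lc_g_rc_21_3 lc_g_rc_21_2 lc_g_rc_26_0 lc_g_rc_24_9 lc_g_rc_27_6 lc_g_rc_21_3 lc_g_rc_21_2 lc_g_Cert_tree lc_g_rc_21_2 lc_g_rc_27_0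 lc_g_Cert_tree lc_g_rc_27_3 lc_g_rc_27_6 lc_g_rc_24_3 lc_g_rc_27_6 lc_g_rc_21_3 lc_g_rc_24_9 lc_g_rc_21_2 lc_g_rc_21_3 lc_g_rc_26_9 lc_g_rc_27_6 lc_g_rc_21_3 lc_g_rc_26_6 lc_g_rc_26_3 lc_g_rc_21_3 lc_g_Cert_tree lc_g_rc_23_3 lc_g_rc_21_3 lc_g_Cert_tree lc_g_Cert_tree lc_g_Cert_tree lc_g_rc_27_0 lc_g_rc_26_0 lc_g_rc_26_9 lc_g_Cert_tree lc_g_rc_21_3 lc_g_Cert_tree lc_g_Cert_tree lc_g_rc_21_2 lc_g_rc_21_3 lc_g_rc_26_0 lc_g_rc_27_3 lc_g_Cert_tree) (@D3.rec (fun _ => (Cert rels S Gen.g)) lc_g_Cert_tree lc_g_rc_27_6 lc_g_Cert_tree lc_g_rc_23_3 lc_g_rc_24_7 lc_g_rc_21_3 lc_g_rc_21_2 lc_g_Cert_tree lc_g_rc_21_2 lc_g_rc_27_3 lc_g_Cert_tree lc_g_rc_27_3 lc_g_Cert_tree lc_g_Cert_tree lc_g_rc_27_9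 lc_g_Cert_tree lc_g_Cert_tree lc_g_rc_27_6 lc_g_rc_27_0 lc_g_rc_27_0 lc_g_rc_24_3 lc_g_rc_25_7 lc_g_rc_26_0 lc_g_Cert_tree lc_g_rc_25_19 lc_g_rc_21_3 lc_g_Cert_tree lc_g_rc_21_2 lc_g_Cert_tree lc_g_rc_27_6 lc_g_rc_27_6 lc_g_rc_21_3 lc_g_Cert_tree lc_g_rc_24_1 lc_g_rc_21_2 lc_g_rc_27_0 lc_g_rc_27_3 lc_g_rc_27_6 lc_g_rc_27_9 lc_g_rc_21_3 lc_g_Cert_tree lc_g_rc_21_2 lc_g_Cert_tree lc_g_Cert_tree lc_g_rc_26_6 lc_g_rc_26_9 lc_g_Cert_tree lc_g_Cert_tree lc_g_rc_21_2 lc_g_Cert_tree lc_g_rc_21_3 lc_g_Cert_tree lc_g_Cert_tree lc_g_rc_27_6 lc_g_rc_21_3 lc_g_Cert_tree lc_g_Cert_tree lc_g_rc_21_2 lc_g_rc_21_2 lc_g_Cert_tree lc_g_rc_21_2 lc_g_Cert_tree) (@D3.rec (fun _ => (Cert rels S Gen.g)) lc_g_rc_23_3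 lc_g_Cert_tree lc_g_rc_23_1 lc_g_rc_21_2 lc_g_Cert_tree lc_g_rc_24_3 lc_g_rc_24_3 lc_g_rc_27_6 lc_g_rc_23_3 lc_g_rc_24_3 lc_g_rc_26_9 lc_g_rc_24_9 lc_g_rc_26_3 lc_g_rc_27_0 lc_g_rc_26_3 lc_g_Cert_tree lc_g_rc_23_3 lc_g_rc_21_3 lc_g_rc_27_0 lc_g_rc_23_3 lc_g_rc_24_3 lc_g_rc_24_1 lc_g_Cert_tree lc_g_rc_27_6 lc_g_rc_23_1 lc_g_rc_21_2 lc_g_rc_24_7 lc_g_rc_26_0 lc_g_Cert_tree lc_g_rc_23_9 lc_g_rc_26_9 lc_g_rc_21_3 lc_g_rc_26_0 lc_g_rc_21_2 lc_g_rc_21_2 lc_g_rc_21_3 lc_g_rc_21_2 lc_g_rc_21_2 lc_g_rc_21_3 lc_g_rc_21_2 lc_g_Cert_tree lc_g_rc_21_3 lc_g_Cert_tree lc_g_Cert_tree lc_g_rc_21_3 lc_g_Cert_tree lc_g_rc_21_3 lc_g_rc_23_9 lc_g_rc_21_2 lc_g_Cert_tree lc_g_rc_26_0 lc_g_rc_23_7 lc_g_Cert_tree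 lc_g_rc_21_3 lc_g_rc_24_3 lc_g_rc_21_3 lc_g_rc_24_1 lc_g_rc_21_3 lc_g_rc_23_9 lc_g_rc_21_2 lc_g_Cert_tree lc_g_rc_21_3) (@D3.rec (fun _ => (Cert rels S Gen.g)) lc_g_Cert_tree lc_g_rc_27_6 lc_g_rc_21_2 lc_g_rc_21_3 lc_g_rc_24_7 lc_g_Cert_tree lc_g_rc_26_0 lc_g_rc_24_3 lc_g_Cert_tree lc_g_rc_21_3 lc_g_Cert_tree lc_g_rc_21_2 lc_g_rc_26_6 lc_g_rc_21_3 lc_g_Cert_tree lc_g_rc_21_2 lc_g_Cert_tree lc_g_rc_27_0 lc_g_rc_27_6 lc_g_rc_24_1 lc_g_rc_27_6 lc_g_rc_21_2 lc_g_Cert_tree lc_g_rc_27_6 lc_g_rc_21_3 lc_g_Cert_tree lc_g_rc_21_2 lc_g_rc_21_2 lc_g_rc_27_9 lc_g_rc_24_3 lc_g_rc_27_0 lc_g_Cert_tree lc_g_rc_26_9 lc_g_rc_27_0 lc_g_rc_24_7 lc_g_rc_27_9 lc_g_rc_24_3 lc_g_rc_21_2 lc_g_rc_24_7 lc_g_Cert_tree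 lc_g_rc_23_9 lc_g_rc_23_1 lc_g_rc_21_3 lc_g_Cert_tree lc_g_rc_27_0 lc_g_Cert_tree lc_g_rc_23_9 lc_g_rc_23_3 lc_g_rc_26_6 lc_g_Cert_tree lc_g_Cert_tree lc_g_rc_26_0 lc_g_rc_24_7 lc_g_Cert_tree lc_g_rc_24_1 lc_g_rc_21_3 lc_g_Cert_tree lc_g_rc_21_2 lc_g_Cert_tree lc_g_Cert_tree lc_g_Cert_tree lc_g_rc_21_3) (@D3.rec (fun _ => (Cert rels S Gen.g)) lc_g_Cert_tree lc_g_Cert_tree lc_g_rc_21_2 lc_g_rc_23_1 lc_g_rc_27_6 lc_g_rc_21_3 lc_g_Cert_tree lc_g_rc_21_2 lc_g_rc_21_3 lc_g_Cert_tree lc_g_rc_21_2 lc_g_Cert_tree lc_g_Cert_tree lc_g_Cert_tree lc_g_rc_26_3 lc_g_rc_27_0 lc_g_rc_21_2 lc_g_Cert_tree lc_g_rc_21_3 lc_g_Cert_tree lc_g_Cert_tree lc_g_Cert_tree lc_g_rc_21_3 lc_g_Cert_tree lc_g_Cert_tree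 lc_g_rc_21_2 lc_g_rc_23_1 lc_g_rc_24_3 lc_g_rc_23_9 lc_g_rc_21_3 lc_g_Cert_tree lc_g_Cert_tree lc_g_rc_21_2 lc_g_Cert_tree lc_g_rc_21_3 lc_g_rc_21_2 lc_g_rc_23_9 lc_g_rc_24_3 lc_g_rc_27_3 lc_g_rc_23_7 lc_g_rc_21_3 lc_g_rc_21_3 lc_g_Cert_tree lc_g_Cert_tree lc_g_rc_21_2 lc_g_rc_24_9 lc_g_Cert_tree lc_g_Cert_tree lc_g_rc_23_1 lc_g_rc_21_3 lc_g_rc_21_2 lc_g_rc_26_9 lc_g_rc_27_0 lc_g_Cert_tree lc_g_rc_26_0 lc_g_rc_24_9 lc_g_Cert_tree lc_g_rc_26_6 lc_g_rc_21_2 lc_g_rc_27_0 lc_g_rc_21_2 lc_g_Cert_tree) (@D3.rec (fun _ => (Cert rels S Gen.g)) lc_g_Cert_tree lc_g_rc_24_9 lc_g_rc_21_2 lc_g_rc_27_6 lc_g_Cert_tree lc_g_Cert_tree lc_g_rc_21_3 lc_g_Cert_tree lc_g_Cert_tree lc_g_rc_24_1 lc_g_rc_21_2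 lc_g_rc_21_3 lc_g_Cert_tree lc_g_Cert_tree lc_g_rc_26_3 lc_g_Cert_tree lc_g_rc_23_9 lc_g_Cert_tree lc_g_rc_27_9 lc_g_rc_27_0 lc_g_rc_26_0 lc_g_rc_24_3 lc_g_rc_21_3 lc_g_rc_27_6 lc_g_rc_23_3 lc_g_rc_23_3 lc_g_rc_23_9 lc_g_rc_27_3 lc_g_rc_27_3 lc_g_rc_27_0 lc_g_rc_23_9 lc_g_Cert_tree lc_g_Cert_tree lc_g_rc_23_1 lc_g_rc_27_3 lc_g_rc_26_0 lc_g_Cert_tree lc_g_rc_26_0 lc_g_Cert_tree lc_g_Cert_tree lc_g_rc_21_2 lc_g_rc_23_3 lc_g_rc_21_3 lc_g_rc_21_2 lc_g_rc_21_3 lc_g_rc_21_3 lc_g_Cert_tree lc_g_rc_27_3 lc_g_rc_24_3 lc_g_rc_21_2 lc_g_Cert_tree lc_g_rc_21_2 lc_g_rc_26_3 lc_g_Cert_tree lc_g_rc_27_3 lc_g_rc_21_2 lc_g_rc_21_3 lc_g_rc_21_3 lc_g_rc_21_3 lc_g_Cert_tree lc_g_rc_24_1 lc_g_rc_21_3) (@D3.rec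 (fun _ => (Cert rels S Gen.g)) lc_g_Cert_tree lc_g_Cert_tree lc_g_Cert_tree lc_g_rc_21_3 lc_g_Cert_tree lc_g_rc_21_3 lc_g_rc_21_2 lc_g_rc_21_3 lc_g_Cert_tree lc_g_rc_27_6 lc_g_rc_23_1 lc_g_rc_27_6 lc_g_rc_21_3 lc_g_Cert_tree lc_g_Cert_tree lc_g_Cert_tree lc_g_rc_21_3 lc_g_Cert_tree lc_g_rc_21_2 lc_g_rc_24_9 lc_g_rc_25_15 lc_g_rc_27_6 lc_g_rc_21_3 lc_g_rc_23_3 lc_g_rc_21_3 lc_g_Cert_tree lc_g_Cert_tree lc_g_rc_21_2 lc_g_Cert_tree lc_g_rc_26_6 lc_g_rc_21_3 lc_g_rc_24_3 lc_g_Cert_tree lc_g_rc_21_3 lc_g_Cert_tree lc_g_rc_21_2 lc_g_rc_21_2 lc_g_rc_27_9 lc_g_rc_23_1 lc_g_rc_21_2 lc_g_rc_27_3 lc_g_rc_27_0 lc_g_Cert_tree lc_g_rc_26_0 lc_g_rc_27_0 lc_g_rc_21_2 lc_g_Cert_tree lc_g_rc_26_3 lc_g_Cert_tree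 lc_g_rc_26_6 lc_g_rc_26_9 lc_g_rc_26_6 lc_g_rc_27_0 lc_g_rc_21_2 lc_g_rc_21_2 lc_g_rc_26_0 lc_g_rc_21_3 lc_g_Cert_tree lc_g_rc_21_3 lc_g_rc_26_3 lc_g_Cert_tree lc_g_rc_23_1) (@D3.rec (fun _ => (Cert rels S Gen.g)) lc_g_rc_23_1 lc_g_Cert_tree lc_g_Cert_tree lc_g_rc_21_2 lc_g_Cert_tree lc_g_rc_26_6 lc_g_Cert_tree lc_g_rc_26_3 lc_g_rc_21_3 lc_g_Cert_tree lc_g_Cert_tree lc_g_rc_21_2 lc_g_rc_24_1 lc_g_Cert_tree lc_g_Cert_tree lc_g_rc_23_7 lc_g_rc_27_6 lc_g_rc_21_3 lc_g_rc_21_3 lc_g_Cert_tree lc_g_Cert_tree lc_g_Cert_tree lc_g_rc_27_3 lc_g_Cert_tree lc_g_rc_27_0 lc_g_rc_23_3 lc_g_rc_23_9 lc_g_rc_27_6 lc_g_rc_21_2 lc_g_rc_26_3 lc_g_rc_24_9 lc_g_rc_27_6 lc_g_Cert_tree lc_g_rc_24_9 lc_g_Cert_tree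 lc_g_Cert_tree lc_g_rc_27_0 lc_g_rc_27_3 lc_g_rc_26_0 lc_g_rc_24_9 lc_g_rc_21_3 lc_g_rc_27_6 lc_g_rc_26_0 lc_g_rc_23_7 lc_g_rc_26_3 lc_g_Cert_tree lc_g_rc_26_3 lc_g_rc_27_6 lc_g_rc_24_1 lc_g_rc_21_3 lc_g_Cert_tree lc_g_Cert_tree lc_g_rc_27_0 lc_g_rc_23_3 lc_g_rc_26_0 lc_g_rc_26_6 lc_g_rc_27_0 lc_g_rc_24_9 lc_g_Cert_tree lc_g_rc_21_3 lc_g_rc_24_1 lc_g_rc_26_0)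
def ce_g_11 : D2 → D3 → (Cert rels S Gen.g) := @D2.rec (fun _ => D3 → (Cert rels S Gen.g)) (@D3.rec (fun _ => (Cert rels S Gen.g)) lc_g_rc_26_0 lc_g_rc_21_3 lc_g_Cert_tree lc_g_rc_21_2 lc_g_rc_26_6 lc_g_rc_24_9 lc_g_rc_21_3 lc_g_Cert_tree lc_g_Cert_tree lc_g_rc_21_2 lc_g_Cert_tree lc_g_rc_24_7 lc_g_Cert_tree lc_g_rc_21_3 lc_g_Cert_tree lc_g_rc_21_2 lc_g_Cert_tree lc_g_rc_23_1 lc_g_rc_24_3 lc_g_rc_27_9 lc_g_rc_27_3 lc_g_rc_21_3 lc_g_rc_27_6 lc_g_Cert_tree lc_g_rc_21_2 lc_g_rc_21_3 lc_g_rc_26_0 lc_g_rc_24_1 lc_g_rc_24_9 lc_g_rc_26_3 lc_g_rc_24_1 lc_g_Cert_tree lc_g_rc_24_9 lc_g_rc_23_1 lc_g_rc_21_3 lc_g_Cert_tree lc_g_Cert_tree lc_g_rc_21_2 lc_g_rc_21_3 lc_g_rc_27_6 lc_g_rc_23_3 lc_g_rc_27_3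 lc_g_rc_25_19 lc_g_Cert_tree lc_g_rc_23_9 lc_g_rc_21_3 lc_g_rc_24_3 lc_g_rc_24_3 lc_g_Cert_tree lc_g_rc_24_9 lc_g_rc_21_2 lc_g_rc_27_3 lc_g_rc_21_2 lc_g_rc_21_2 lc_g_rc_24_7 lc_g_rc_21_3 lc_g_Cert_tree lc_g_rc_21_2 lc_g_rc_21_2 lc_g_rc_26_3 lc_g_Cert_tree lc_g_rc_27_0) (@D3.rec (fun _ => (Cert rels S Gen.g)) lc_g_Cert_tree lc_g_rc_24_3 lc_g_rc_21_3 lc_g_rc_24_3 lc_g_Cert_tree lc_g_rc_21_2 lc_g_Cert_tree lc_g_rc_24_1 lc_g_rc_23_7 lc_g_rc_21_3 lc_g_Cert_tree lc_g_rc_24_7 lc_g_Cert_tree lc_g_rc_21_3 lc_g_Cert_tree lc_g_Cert_tree lc_g_rc_21_2 lc_g_Cert_tree lc_g_Cert_tree lc_g_rc_21_2 lc_g_rc_27_6 lc_g_rc_24_3 lc_g_rc_21_3 lc_g_rc_27_3 lc_g_rc_24_7 lc_g_rc_27_9 lc_g_rc_23_3 lc_g_rc_25_19 lc_g_rc_27_9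 lc_g_rc_21_3 lc_g_rc_27_6 lc_g_rc_21_3 lc_g_Cert_tree lc_g_rc_26_3 lc_g_rc_24_3 lc_g_rc_24_7 lc_g_Cert_tree lc_g_Cert_tree lc_g_rc_21_2 lc_g_rc_24_1 lc_g_Cert_tree lc_g_Cert_tree lc_g_rc_23_9 lc_g_Cert_tree lc_g_rc_24_9 lc_g_rc_24_3 lc_g_rc_21_3 lc_g_rc_27_3 lc_g_rc_27_3 lc_g_Cert_tree lc_g_rc_21_3 lc_g_rc_21_3 lc_g_rc_24_3 lc_g_Cert_tree lc_g_rc_26_3 lc_g_rc_23_1 lc_g_Cert_tree lc_g_rc_21_2 lc_g_rc_26_3 lc_g_Cert_tree lc_g_rc_27_3 lc_g_rc_26_3) (@D3.rec (fun _ => (Cert rels S Gen.g)) lc_g_Cert_tree lc_g_rc_26_3 lc_g_rc_26_0 lc_g_rc_27_6 lc_g_rc_27_6 lc_g_rc_27_3 lc_g_rc_24_3 lc_g_rc_23_1 lc_g_rc_27_6 lc_g_rc_27_6 lc_g_rc_27_3 lc_g_rc_26_6 lc_g_rc_26_6 lc_g_rc_27_0 lc_g_rc_26_3 lc_g_rc_23_3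 lc_g_rc_23_9 lc_g_rc_27_0 lc_g_Cert_tree lc_g_rc_27_6 lc_g_rc_21_3 lc_g_rc_23_9 lc_g_rc_26_6 lc_g_rc_21_2 lc_g_Cert_tree lc_g_rc_24_3 lc_g_Cert_tree lc_g_Cert_tree lc_g_rc_27_0 lc_g_rc_21_3 lc_g_rc_27_3 lc_g_rc_21_3 lc_g_Cert_tree lc_g_Cert_tree lc_g_rc_26_3 lc_g_rc_21_3 lc_g_Cert_tree lc_g_rc_21_2 lc_g_Cert_tree lc_g_rc_21_3 lc_g_Cert_tree lc_g_Cert_tree lc_g_rc_26_9 lc_g_rc_27_9 lc_g_rc_27_0 lc_g_rc_21_3 lc_g_Cert_tree lc_g_rc_21_2 lc_g_Cert_tree lc_g_Cert_tree lc_g_Cert_tree lc_g_Cert_tree lc_g_rc_21_2 lc_g_rc_24_7 lc_g_rc_21_3 lc_g_rc_27_0 lc_g_rc_21_3 lc_g_Cert_tree lc_g_rc_21_2 lc_g_rc_21_3 lc_g_Cert_tree lc_g_rc_21_2) (@D3.rec (fun _ => (Cert rels S Gen.g)) lc_g_rc_24_3 lc_g_Cert_tree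 lc_g_Cert_tree lc_g_rc_21_3 lc_g_Cert_tree lc_g_Cert_tree lc_g_rc_21_2 lc_g_rc_26_3 lc_g_rc_27_0 lc_g_rc_27_9 lc_g_rc_24_7 lc_g_Cert_tree lc_g_rc_26_3 lc_g_Cert_tree lc_g_rc_21_2 lc_g_rc_21_3 lc_g_Cert_tree lc_g_rc_26_3 lc_g_Cert_tree lc_g_Cert_tree lc_g_Cert_tree lc_g_Cert_tree lc_g_Cert_tree lc_g_rc_26_3 lc_g_rc_21_2 lc_g_rc_21_3 lc_g_Cert_tree lc_g_rc_21_2 lc_g_Cert_tree lc_g_Cert_tree lc_g_Cert_tree lc_g_Cert_tree lc_g_Cert_tree lc_g_rc_21_2 lc_g_rc_21_3 lc_g_Cert_tree lc_g_rc_21_2 lc_g_Cert_tree lc_g_Cert_tree lc_g_Cert_tree lc_g_Cert_tree lc_g_rc_21_3 lc_g_rc_23_7 lc_g_Cert_tree lc_g_rc_25_11 lc_g_rc_23_7 lc_g_rc_27_6 lc_g_rc_23_3 lc_g_rc_21_2 lc_g_Cert_tree lc_g_rc_26_6 lc_g_Cert_tree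 lc_g_rc_26_6 lc_g_rc_24_3 lc_g_Cert_tree lc_g_rc_27_0 lc_g_Cert_tree lc_g_rc_21_2 lc_g_rc_24_7 lc_g_rc_23_3 lc_g_Cert_tree lc_g_rc_27_6) (@D3.rec (fun _ => (Cert rels S Gen.g)) lc_g_rc_21_2 lc_g_rc_23_3 lc_g_rc_24_3 lc_g_rc_21_2 lc_g_rc_24_1 lc_g_Cert_tree lc_g_rc_23_1 lc_g_Cert_tree lc_g_rc_24_7 lc_g_rc_21_2 lc_g_rc_27_6 lc_g_rc_27_0 lc_g_rc_21_2 lc_g_rc_26_3 lc_g_rc_26_3 lc_g_Cert_tree lc_g_rc_21_2 lc_g_rc_21_3 lc_g_Cert_tree lc_g_rc_27_0 lc_g_rc_27_3 lc_g_rc_21_3 lc_g_rc_21_3 lc_g_rc_27_0 lc_g_rc_27_9 lc_g_rc_24_3 lc_g_rc_24_1 lc_g_Cert_tree lc_g_rc_27_3 lc_g_rc_23_1 lc_g_Cert_tree lc_g_Cert_tree lc_g_rc_23_1 lc_g_Cert_tree lc_g_rc_27_6 lc_g_Cert_tree lc_g_rc_24_1 lc_g_rc_24_3 lc_g_Cert_tree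 lc_g_Cert_tree lc_g_rc_27_6 lc_g_Cert_tree lc_g_rc_21_3 lc_g_Cert_tree lc_g_Cert_tree lc_g_rc_21_2 lc_g_rc_23_1 lc_g_rc_24_7 lc_g_rc_27_0 lc_g_rc_27_6 lc_g_rc_26_0 lc_g_rc_24_7 lc_g_rc_27_3 lc_g_rc_23_1 lc_g_rc_21_2 lc_g_rc_27_0 lc_g_Cert_tree lc_g_rc_27_0 lc_g_rc_23_3 lc_g_rc_27_3 lc_g_rc_23_7 lc_g_rc_26_3) (@D3.rec (fun _ => (Cert rels S Gen.g)) lc_g_Cert_tree lc_g_rc_23_9 lc_g_rc_27_6 lc_g_Cert_tree lc_g_rc_21_2 lc_g_Cert_tree lc_g_rc_26_9 lc_g_rc_21_3 lc_g_Cert_tree lc_g_rc_21_2 lc_g_rc_21_2 lc_g_Cert_tree lc_g_Cert_tree lc_g_rc_21_3 lc_g_Cert_tree lc_g_Cert_tree lc_g_rc_21_2 lc_g_rc_26_3 lc_g_rc_26_0 lc_g_rc_24_3 lc_g_rc_23_1 lc_g_rc_26_9 lc_g_rc_26_6 lc_g_rc_23_1 lc_g_rc_27_6 lc_g_rc_27_6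 lc_g_rc_21_3 lc_g_Cert_tree lc_g_Cert_tree lc_g_rc_27_3 lc_g_rc_21_2 lc_g_rc_21_3 lc_g_rc_24_1 lc_g_rc_21_2 lc_g_rc_21_3 lc_g_Cert_tree lc_g_rc_21_3 lc_g_Cert_tree lc_g_rc_26_0 lc_g_Cert_tree lc_g_rc_26_0 lc_g_Cert_tree lc_g_Cert_tree lc_g_Cert_tree lc_g_rc_27_0 lc_g_rc_21_3 lc_g_rc_27_3 lc_g_rc_21_2 lc_g_rc_21_3 lc_g_rc_27_0 lc_g_rc_21_3 lc_g_rc_23_7 lc_g_Cert_tree lc_g_rc_21_3 lc_g_rc_21_3 lc_g_Cert_tree lc_g_rc_26_0 lc_g_rc_21_2 lc_g_rc_26_3 lc_g_rc_26_3 lc_g_rc_21_2 lc_g_rc_21_2) (@D3.rec (fun _ => (Cert rels S Gen.g)) lc_g_Cert_tree lc_g_Cert_tree lc_g_Cert_tree lc_g_rc_24_1 lc_g_Cert_tree lc_g_rc_27_0 lc_g_rc_26_3 lc_g_rc_27_0 lc_g_rc_24_1 lc_g_rc_26_0 lc_g_rc_26_3 lc_g_rc_26_3 lc_g_rc_27_6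 lc_g_Cert_tree lc_g_rc_21_3 lc_g_Cert_tree lc_g_rc_21_2 lc_g_rc_27_3 lc_g_rc_21_3 lc_g_rc_21_2 lc_g_rc_21_3 lc_g_Cert_tree lc_g_rc_21_3 lc_g_Cert_tree lc_g_rc_27_6 lc_g_rc_21_2 lc_g_rc_21_3 lc_g_Cert_tree lc_g_rc_21_2 lc_g_Cert_tree lc_g_rc_21_3 lc_g_Cert_tree lc_g_rc_21_2 lc_g_Cert_tree lc_g_rc_27_9 lc_g_rc_27_9 lc_g_rc_24_9 lc_g_rc_26_3 lc_g_rc_27_6 lc_g_rc_23_3 lc_g_rc_27_6 lc_g_rc_27_6 lc_g_rc_21_3 lc_g_rc_27_9 lc_g_rc_21_3 lc_g_rc_27_0 lc_g_rc_21_3 lc_g_Cert_tree lc_g_rc_27_0 lc_g_rc_27_0 lc_g_rc_21_3 lc_g_rc_27_6 lc_g_Cert_tree lc_g_rc_26_9 lc_g_rc_21_3 lc_g_rc_23_1 lc_g_rc_26_9 lc_g_rc_21_2 lc_g_rc_21_3 lc_g_Cert_tree lc_g_rc_23_1 lc_g_rc_21_3) (@D3.rec (fun _ => (Cert rels S Gen.g))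 lc_g_Cert_tree lc_g_rc_24_9 lc_g_rc_26_0 lc_g_rc_27_9 lc_g_rc_21_2 lc_g_Cert_tree lc_g_Cert_tree lc_g_rc_26_0 lc_g_Cert_tree lc_g_rc_24_3 lc_g_Cert_tree lc_g_rc_27_6 lc_g_rc_23_7 lc_g_rc_23_3 lc_g_rc_21_3 lc_g_rc_21_2 lc_g_Cert_tree lc_g_rc_23_3 lc_g_Cert_tree lc_g_Cert_tree lc_g_rc_25_3 lc_g_rc_23_3 lc_g_Cert_tree lc_g_rc_21_2 lc_g_Cert_tree lc_g_rc_25_19 lc_g_Cert_tree lc_g_Cert_tree lc_g_rc_26_0 lc_g_rc_26_0 lc_g_rc_21_3 lc_g_rc_26_6 lc_g_Cert_tree lc_g_Cert_tree lc_g_rc_25_3 lc_g_rc_25_19 lc_g_Cert_tree lc_g_rc_27_6 lc_g_rc_27_3 lc_g_rc_26_3 lc_g_rc_24_9 lc_g_Cert_tree lc_g_rc_21_2 lc_g_Cert_tree lc_g_rc_21_3 lc_g_rc_23_7 lc_g_rc_26_3 lc_g_rc_21_3 lc_g_rc_26_3 lc_g_rc_24_1 lc_g_Cert_tree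 lc_g_rc_23_9 lc_g_rc_23_9 lc_g_rc_21_2 lc_g_rc_26_6 lc_g_rc_26_3 lc_g_rc_27_9 lc_g_Cert_tree lc_g_Cert_tree lc_g_rc_21_3 lc_g_rc_21_3 lc_g_rc_27_0) (@D3.rec (fun _ => (Cert rels S Gen.g)) lc_g_rc_23_1 lc_g_rc_26_3 lc_g_rc_27_9 lc_g_rc_27_3 lc_g_rc_24_7 lc_g_Cert_tree lc_g_rc_23_9 lc_g_rc_26_3 lc_g_rc_26_6 lc_g_rc_21_3 lc_g_rc_21_3 lc_g_Cert_tree lc_g_rc_24_3 lc_g_Cert_tree lc_g_rc_21_2 lc_g_rc_27_6 lc_g_rc_21_3 lc_g_Cert_tree lc_g_rc_21_3 lc_g_Cert_tree lc_g_rc_23_9 lc_g_rc_21_2 lc_g_rc_26_6 lc_g_rc_21_3 lc_g_rc_27_3 lc_g_Cert_tree lc_g_rc_26_9 lc_g_rc_26_3 lc_g_Cert_tree lc_g_rc_21_3 lc_g_rc_27_6 lc_g_rc_26_6 lc_g_Cert_tree lc_g_rc_21_2 lc_g_Cert_tree lc_g_rc_21_3 lc_g_rc_27_6 lc_g_rc_27_9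 lc_g_rc_27_0 lc_g_rc_21_3 lc_g_Cert_tree lc_g_rc_21_2 lc_g_Cert_tree lc_g_rc_21_3 lc_g_Cert_tree lc_g_Cert_tree lc_g_rc_21_2 lc_g_rc_21_3 lc_g_Cert_tree lc_g_rc_21_2 lc_g_rc_21_2 lc_g_Cert_tree lc_g_rc_21_3 lc_g_Cert_tree lc_g_Cert_tree lc_g_rc_21_2 lc_g_rc_24_7 lc_g_rc_27_0 lc_g_rc_21_3 lc_g_Cert_tree lc_g_rc_21_2 lc_g_Cert_tree) (@D3.rec (fun _ => (Cert rels S Gen.g)) lc_g_Cert_tree lc_g_rc_21_2 lc_g_rc_21_3 lc_g_Cert_tree lc_g_rc_21_2 lc_g_Cert_tree lc_g_Cert_tree lc_g_rc_21_2 lc_g_rc_24_1 lc_g_rc_24_3 lc_g_Cert_tree lc_g_Cert_tree lc_g_rc_27_6 lc_g_Cert_tree lc_g_rc_27_6 lc_g_Cert_tree lc_g_rc_21_2 lc_g_Cert_tree lc_g_Cert_tree lc_g_rc_26_3 lc_g_rc_27_6 lc_g_rc_24_1 lc_g_rc_21_3 lc_g_Cert_tree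 lc_g_Cert_tree lc_g_rc_21_2 lc_g_rc_21_3 lc_g_rc_26_0 lc_g_Cert_tree lc_g_Cert_tree lc_g_rc_24_9 lc_g_rc_27_6 lc_g_rc_21_2 lc_g_rc_23_9 lc_g_rc_27_9 lc_g_rc_21_3 lc_g_rc_24_7 lc_g_rc_27_0 lc_g_rc_21_3 lc_g_Cert_tree lc_g_Cert_tree lc_g_rc_23_3 lc_g_rc_21_2 lc_g_rc_21_3 lc_g_Cert_tree lc_g_rc_26_6 lc_g_rc_23_9 lc_g_Cert_tree lc_g_rc_24_1 lc_g_rc_24_1 lc_g_rc_26_3 lc_g_Cert_tree lc_g_rc_26_6 lc_g_rc_23_7 lc_g_Cert_tree lc_g_rc_24_3 lc_g_rc_21_3 lc_g_rc_21_3 lc_g_rc_27_0 lc_g_rc_21_2 lc_g_rc_23_1 lc_g_rc_26_0) (@D3.rec (fun _ => (Cert rels S Gen.g)) lc_g_rc_26_0 lc_g_rc_21_3 lc_g_rc_27_6 lc_g_rc_26_9 lc_g_rc_27_6 lc_g_rc_26_3 lc_g_rc_27_0 lc_g_Cert_tree lc_g_rc_27_3 lc_g_rc_21_2 lc_g_rc_21_3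 lc_g_Cert_tree lc_g_rc_27_9 lc_g_rc_21_2 lc_g_rc_21_3 lc_g_rc_26_3 lc_g_Cert_tree lc_g_rc_27_9 lc_g_rc_27_6 lc_g_rc_24_3 lc_g_rc_27_9 lc_g_rc_25_3 lc_g_rc_27_6 lc_g_rc_26_6 lc_g_rc_24_1 lc_g_rc_26_6 lc_g_rc_27_0 lc_g_rc_21_3 lc_g_rc_26_9 lc_g_rc_21_2 lc_g_rc_21_2 lc_g_rc_21_2 lc_g_Cert_tree lc_g_Cert_tree lc_g_rc_21_3 lc_g_Cert_tree lc_g_Cert_tree lc_g_Cert_tree lc_g_rc_21_2 lc_g_Cert_tree lc_g_rc_27_3 lc_g_rc_24_1 lc_g_rc_23_9 lc_g_rc_26_3 lc_g_rc_27_9 lc_g_rc_27_6 lc_g_rc_21_3 lc_g_rc_23_9 lc_g_rc_24_9 lc_g_rc_24_3 lc_g_rc_27_6 lc_g_Cert_tree lc_g_rc_21_3 lc_g_Cert_tree lc_g_rc_21_2 lc_g_Cert_tree lc_g_rc_21_2 lc_g_rc_21_3 lc_g_Cert_tree lc_g_rc_27_0 lc_g_rc_27_6 lc_g_rc_27_6) (@D3.rec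 (fun _ => (Cert rels S Gen.g)) lc_g_rc_24_3 lc_g_rc_21_3 lc_g_rc_23_3 lc_g_Cert_tree lc_g_rc_23_1 lc_g_rc_23_3 lc_g_rc_26_3 lc_g_Cert_tree lc_g_rc_23_7 lc_g_rc_21_2 lc_g_rc_26_6 lc_g_rc_24_7 lc_g_rc_21_2 lc_g_rc_27_3 lc_g_rc_27_6 lc_g_rc_24_3 lc_g_rc_21_3 lc_g_Cert_tree lc_g_rc_26_6 lc_g_rc_24_9 lc_g_rc_21_3 lc_g_rc_23_7 lc_g_rc_21_3 lc_g_Cert_tree lc_g_rc_21_2 lc_g_rc_21_2 lc_g_Cert_tree lc_g_Cert_tree lc_g_Cert_tree lc_g_rc_24_1 lc_g_Cert_tree lc_g_Cert_tree lc_g_rc_21_2 lc_g_rc_26_3 lc_g_Cert_tree lc_g_Cert_tree lc_g_rc_23_7 lc_g_Cert_tree lc_g_Cert_tree lc_g_rc_21_2 lc_g_Cert_tree lc_g_rc_23_7 lc_g_rc_26_3 lc_g_rc_23_1 lc_g_rc_23_7 lc_g_rc_26_9 lc_g_rc_23_7 lc_g_rc_27_3 lc_g_Cert_tree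 lc_g_Cert_tree lc_g_rc_26_6 lc_g_Cert_tree lc_g_rc_26_9 lc_g_Cert_tree lc_g_rc_21_2 lc_g_rc_24_3 lc_g_rc_23_9 lc_g_rc_21_3 lc_g_Cert_tree lc_g_rc_21_2 lc_g_Cert_tree lc_g_rc_26_9) (@D3.rec (fun _ => (Cert rels S Gen.g)) lc_g_rc_27_3 lc_g_Cert_tree lc_g_Cert_tree lc_g_rc_27_6 lc_g_rc_21_2 lc_g_Cert_tree lc_g_Cert_tree lc_g_rc_21_3 lc_g_Cert_tree lc_g_rc_21_3 lc_g_rc_21_3 lc_g_rc_27_0 lc_g_rc_27_0 lc_g_rc_23_9 lc_g_rc_27_0 lc_g_rc_21_3 lc_g_rc_23_9 lc_g_rc_27_6 lc_g_Cert_tree lc_g_rc_27_6 lc_g_rc_21_2 lc_g_Cert_tree lc_g_Cert_tree lc_g_rc_21_3 lc_g_rc_21_3 lc_g_rc_21_2 lc_g_Cert_tree lc_g_rc_21_2 lc_g_rc_21_3 lc_g_Cert_tree lc_g_rc_26_3 lc_g_rc_21_3 lc_g_Cert_tree lc_g_rc_24_3 lc_g_Cert_tree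 lc_g_rc_27_6 lc_g_rc_21_2 lc_g_rc_23_9 lc_g_rc_21_3 lc_g_rc_23_3 lc_g_Cert_tree lc_g_rc_21_2 lc_g_rc_24_3 lc_g_rc_24_3 lc_g_Cert_tree lc_g_rc_27_9 lc_g_Cert_tree lc_g_rc_27_0 lc_g_rc_27_3 lc_g_rc_23_1 lc_g_rc_21_2 lc_g_Cert_tree lc_g_Cert_tree lc_g_rc_23_7 lc_g_rc_27_9 lc_g_rc_21_3 lc_g_Cert_tree lc_g_Cert_tree lc_g_rc_21_2 lc_g_Cert_tree lc_g_rc_21_2 lc_g_Cert_tree) (@D3.rec (fun _ => (Cert rels S Gen.g)) lc_g_rc_21_3 lc_g_Cert_tree lc_g_rc_21_2 lc_g_rc_21_2 lc_g_rc_26_0 lc_g_rc_27_6 lc_g_rc_27_6 lc_g_rc_21_3 lc_g_Cert_tree lc_g_rc_26_6 lc_g_rc_21_2 lc_g_rc_23_1 lc_g_rc_21_2 lc_g_rc_21_2 lc_g_rc_25_19 lc_g_Cert_tree lc_g_rc_21_2 lc_g_rc_27_6 lc_g_rc_21_3 lc_g_Cert_tree lc_g_rc_21_2 lc_g_rc_26_6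 lc_g_rc_21_2 lc_g_rc_27_6 lc_g_rc_21_2 lc_g_rc_27_3 lc_g_rc_24_3 lc_g_rc_26_3 lc_g_rc_27_6 lc_g_rc_23_1 lc_g_Cert_tree lc_g_rc_21_2 lc_g_rc_21_2 lc_g_rc_27_6 lc_g_Cert_tree lc_g_Cert_tree lc_g_rc_23_9 lc_g_rc_26_3 lc_g_Cert_tree lc_g_rc_21_2 lc_g_rc_27_6 lc_g_rc_21_2 lc_g_rc_24_7 lc_g_Cert_tree lc_g_rc_25_3 lc_g_Cert_tree lc_g_rc_26_9 lc_g_Cert_tree lc_g_rc_23_3 lc_g_rc_21_2 lc_g_Cert_tree lc_g_rc_27_6 lc_g_rc_23_7 lc_g_rc_27_0 lc_g_Cert_tree lc_g_rc_21_3 lc_g_rc_21_2 lc_g_rc_26_6 lc_g_rc_23_7 lc_g_rc_23_3 lc_g_Cert_tree lc_g_rc_24_1) (@D3.rec (fun _ => (Cert rels S Gen.g)) lc_g_Cert_tree lc_g_rc_21_3 lc_g_Cert_tree lc_g_rc_23_9 lc_g_Cert_tree lc_g_rc_21_3 lc_g_Cert_tree lc_g_Cert_tree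 lc_g_rc_21_2 lc_g_Cert_tree lc_g_rc_26_0 lc_g_rc_21_3 lc_g_rc_21_3 lc_g_rc_27_6 lc_g_rc_21_3 lc_g_rc_27_6 lc_g_rc_21_2 lc_g_rc_26_0 lc_g_rc_26_9 lc_g_rc_21_3 lc_g_Cert_tree lc_g_Cert_tree lc_g_rc_23_7 lc_g_Cert_tree lc_g_rc_21_3 lc_g_rc_21_2 lc_g_rc_26_6 lc_g_rc_27_9 lc_g_rc_27_9 lc_g_rc_21_2 lc_g_rc_27_6 lc_g_rc_21_2 lc_g_rc_24_3 lc_g_rc_21_3 lc_g_Cert_tree lc_g_rc_27_3 lc_g_rc_21_2 lc_g_Cert_tree lc_g_rc_27_9 lc_g_Cert_tree lc_g_rc_27_0 lc_g_Cert_tree lc_g_rc_21_2 lc_g_rc_21_2 lc_g_Cert_tree lc_g_Cert_tree lc_g_rc_27_6 lc_g_rc_27_0 lc_g_Cert_tree lc_g_rc_27_3 lc_g_rc_27_0 lc_g_rc_23_9 lc_g_Cert_tree lc_g_rc_26_3 lc_g_rc_21_2 lc_g_rc_21_3 lc_g_rc_21_3 lc_g_Cert_tree lc_g_Cert_tree lc_g_Cert_tree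 lc_g_rc_21_3 lc_g_Cert_tree) (@D3.rec (fun _ => (Cert rels S Gen.g)) lc_g_rc_26_6 lc_g_rc_27_6 lc_g_rc_25_19 lc_g_rc_21_3 lc_g_Cert_tree lc_g_rc_21_3 lc_g_rc_21_3 lc_g_rc_21_3 lc_g_Cert_tree lc_g_Cert_tree lc_g_Cert_tree lc_g_Cert_tree lc_g_rc_26_3 lc_g_rc_26_3 lc_g_Cert_tree lc_g_rc_23_3 lc_g_rc_23_9 lc_g_Cert_tree lc_g_rc_21_2 lc_g_rc_21_2 lc_g_Cert_tree lc_g_rc_21_2 lc_g_rc_26_0 lc_g_rc_21_3 lc_g_Cert_tree lc_g_rc_27_6 lc_g_rc_21_2 lc_g_rc_23_3 lc_g_rc_24_3 lc_g_rc_21_2 lc_g_Cert_tree lc_g_Cert_tree lc_g_rc_21_2 lc_g_Cert_tree lc_g_rc_26_6 lc_g_rc_24_1 lc_g_Cert_tree lc_g_rc_23_1 lc_g_Cert_tree lc_g_rc_21_3 lc_g_Cert_tree lc_g_Cert_tree lc_g_rc_24_3 lc_g_Cert_tree lc_g_rc_21_3 lc_g_Cert_tree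 lc_g_rc_21_2 lc_g_rc_24_7 lc_g_rc_24_9 lc_g_Cert_tree lc_g_Cert_tree lc_g_Cert_tree lc_g_Cert_tree lc_g_rc_21_3 lc_g_rc_21_2 lc_g_Cert_tree lc_g_rc_23_1 lc_g_Cert_tree lc_g_rc_21_2 lc_g_Cert_tree lc_g_rc_23_7 lc_g_rc_27_6) (@D3.rec (fun _ => (Cert rels S Gen.g)) lc_g_Cert_tree lc_g_rc_23_7 lc_g_rc_26_3 lc_g_rc_21_3 lc_g_Cert_tree lc_g_rc_24_3 lc_g_Cert_tree lc_g_Cert_tree lc_g_rc_27_3 lc_g_rc_26_6 lc_g_Cert_tree lc_g_rc_21_2 lc_g_rc_21_3 lc_g_rc_27_3 lc_g_rc_21_3 lc_g_Cert_tree lc_g_Cert_tree lc_g_rc_21_2 lc_g_rc_23_1 lc_g_rc_23_3 lc_g_Cert_tree lc_g_rc_23_3 lc_g_rc_21_3 lc_g_rc_21_3 lc_g_Cert_tree lc_g_rc_27_6 lc_g_rc_21_3 lc_g_Cert_tree lc_g_Cert_tree lc_g_rc_21_2 lc_g_rc_21_2 lc_g_Cert_tree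 lc_g_Cert_tree lc_g_rc_21_2 lc_g_rc_21_3 lc_g_Cert_tree lc_g_rc_21_2 lc_g_rc_21_2 lc_g_rc_21_2 lc_g_rc_27_6 lc_g_rc_21_3 lc_g_rc_27_6 lc_g_rc_21_2 lc_g_Cert_tree lc_g_Cert_tree lc_g_rc_27_6 lc_g_rc_26_0 lc_g_rc_21_3 lc_g_rc_24_7 lc_g_rc_21_3 lc_g_Cert_tree lc_g_rc_27_9 lc_g_Cert_tree lc_g_rc_21_2 lc_g_Cert_tree lc_g_Cert_tree lc_g_rc_21_2 lc_g_Cert_tree lc_g_rc_21_3 lc_g_Cert_tree lc_g_rc_21_2 lc_g_Cert_tree) (@D3.rec (fun _ => (Cert rels S Gen.g)) lc_g_rc_23_7 lc_g_rc_21_3 lc_g_rc_26_6 lc_g_rc_24_1 lc_g_rc_27_6 lc_g_rc_27_6 lc_g_rc_21_3 lc_g_Cert_tree lc_g_Cert_tree lc_g_rc_21_3 lc_g_Cert_tree lc_g_Cert_tree lc_g_rc_21_2 lc_g_Cert_tree lc_g_rc_21_2 lc_g_rc_27_9 lc_g_rc_27_6 lc_g_Cert_tree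 lc_g_rc_21_3 lc_g_rc_21_3 lc_g_rc_26_6 lc_g_rc_21_3 lc_g_Cert_tree lc_g_rc_21_3 lc_g_Cert_tree lc_g_Cert_tree lc_g_rc_21_2 lc_g_rc_23_7 lc_g_rc_24_3 lc_g_rc_26_3 lc_g_rc_21_3 lc_g_Cert_tree lc_g_rc_26_3 lc_g_rc_21_3 lc_g_rc_21_3 lc_g_Cert_tree lc_g_rc_21_2 lc_g_rc_21_2 lc_g_Cert_tree lc_g_rc_21_2 lc_g_rc_21_3 lc_g_Cert_tree lc_g_rc_24_9 lc_g_rc_21_2 lc_g_rc_26_9 lc_g_rc_27_6 lc_g_rc_21_2 lc_g_Cert_tree lc_g_Cert_tree lc_g_Cert_tree lc_g_rc_24_1 lc_g_rc_23_3 lc_g_rc_27_6 lc_g_rc_26_0 lc_g_rc_24_1 lc_g_Cert_tree lc_g_Cert_tree lc_g_rc_21_2 lc_g_Cert_tree lc_g_Cert_tree lc_g_rc_27_6 lc_g_rc_21_2) (@D3.rec (fun _ => (Cert rels S Gen.g)) lc_g_rc_24_3 lc_g_rc_21_2 lc_g_rc_23_7 lc_g_rc_21_3 lc_g_rc_26_6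 lc_g_rc_23_7 lc_g_rc_24_7 lc_g_rc_21_3 lc_g_Cert_tree lc_g_rc_21_2 lc_g_rc_26_0 lc_g_Cert_tree lc_g_rc_21_3 lc_g_Cert_tree lc_g_rc_26_9 lc_g_rc_21_3 lc_g_Cert_tree lc_g_Cert_tree lc_g_rc_21_2 lc_g_rc_21_2 lc_g_Cert_tree lc_g_rc_26_6 lc_g_rc_21_3 lc_g_rc_27_3 lc_g_rc_26_3 lc_g_rc_21_2 lc_g_rc_26_0 lc_g_rc_23_3 lc_g_Cert_tree lc_g_Cert_tree lc_g_rc_26_3 lc_g_rc_21_3 lc_g_rc_26_6 lc_g_rc_27_0 lc_g_rc_26_3 lc_g_rc_21_3 lc_g_Cert_tree lc_g_rc_21_3 lc_g_Cert_tree lc_g_Cert_tree lc_g_rc_21_2 lc_g_rc_21_3 lc_g_rc_27_3 lc_g_rc_21_3 lc_g_Cert_tree lc_g_rc_27_0 lc_g_Cert_tree lc_g_rc_27_3 lc_g_Cert_tree lc_g_rc_21_2 lc_g_rc_21_3 lc_g_Cert_tree lc_g_rc_21_2 lc_g_rc_27_3 lc_g_Cert_tree lc_g_rc_23_3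 lc_g_Cert_tree lc_g_rc_23_3 lc_g_Cert_tree lc_g_Cert_tree lc_g_Cert_tree lc_g_rc_21_3) (@D3.rec (fun _ => (Cert rels S Gen.g)) lc_g_Cert_tree lc_g_rc_21_3 lc_g_rc_26_3 lc_g_rc_26_3 lc_g_rc_21_2 lc_g_Cert_tree lc_g_rc_21_2 lc_g_rc_27_3 lc_g_rc_21_2 lc_g_rc_21_3 lc_g_rc_27_6 lc_g_rc_27_6 lc_g_rc_26_0 lc_g_rc_21_3 lc_g_Cert_tree lc_g_rc_23_1 lc_g_rc_21_2 lc_g_rc_26_9 lc_g_rc_23_1 lc_g_rc_24_7 lc_g_rc_27_0 lc_g_rc_23_9 lc_g_rc_21_2 lc_g_Cert_tree lc_g_rc_21_3 lc_g_rc_26_6 lc_g_rc_27_3 lc_g_rc_21_3 lc_g_Cert_tree lc_g_rc_24_3 lc_g_rc_21_2 lc_g_rc_26_9 lc_g_Cert_tree lc_g_Cert_tree lc_g_Cert_tree lc_g_rc_26_6 lc_g_rc_27_3 lc_g_Cert_tree lc_g_rc_24_3 lc_g_Cert_tree lc_g_Cert_tree lc_g_Cert_tree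 lc_g_rc_26_9 lc_g_rc_23_9 lc_g_rc_23_1 lc_g_rc_23_3 lc_g_Cert_tree lc_g_rc_21_3 lc_g_Cert_tree lc_g_Cert_tree lc_g_rc_21_2 lc_g_rc_21_2 lc_g_rc_21_3 lc_g_Cert_tree lc_g_rc_21_3 lc_g_rc_21_2 lc_g_rc_21_2 lc_g_rc_26_3 lc_g_Cert_tree lc_g_rc_21_3 lc_g_rc_24_9 lc_g_rc_26_3) (@D3.rec (fun _ => (Cert rels S Gen.g)) lc_g_Cert_tree lc_g_rc_26_3 lc_g_rc_27_0 lc_g_Cert_tree lc_g_rc_27_0 lc_g_Cert_tree lc_g_rc_27_3 lc_g_rc_21_2 lc_g_Cert_tree lc_g_rc_27_3 lc_g_rc_26_3 lc_g_Cert_tree lc_g_rc_27_6 lc_g_rc_27_6 lc_g_rc_21_2 lc_g_rc_24_7 lc_g_rc_21_3 lc_g_rc_21_3 lc_g_rc_21_3 lc_g_rc_27_0 lc_g_rc_27_6 lc_g_Cert_tree lc_g_rc_24_1 lc_g_Cert_tree lc_g_rc_26_0 lc_g_rc_21_3 lc_g_Cert_tree lc_g_rc_21_3 lc_g_rc_21_3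 lc_g_Cert_tree lc_g_Cert_tree lc_g_rc_27_3 lc_g_rc_21_3 lc_g_rc_23_7 lc_g_rc_26_9 lc_g_rc_23_3 lc_g_rc_24_7 lc_g_rc_24_1 lc_g_rc_21_3 lc_g_Cert_tree lc_g_rc_26_6 lc_g_rc_21_2 lc_g_Cert_tree lc_g_rc_24_3 lc_g_Cert_tree lc_g_rc_21_3 lc_g_Cert_tree lc_g_rc_21_2 lc_g_rc_21_2 lc_g_Cert_tree lc_g_rc_26_3 lc_g_rc_21_3 lc_g_Cert_tree lc_g_Cert_tree lc_g_Cert_tree lc_g_rc_21_3 lc_g_Cert_tree lc_g_Cert_tree lc_g_rc_21_2 lc_g_rc_26_0 lc_g_rc_26_9 lc_g_Cert_tree) (@D3.rec (fun _ => (Cert rels S Gen.g)) lc_g_Cert_tree lc_g_rc_27_6 lc_g_rc_23_9 lc_g_rc_27_0 lc_g_rc_27_9 lc_g_rc_26_9 lc_g_rc_21_2 lc_g_rc_21_2 lc_g_rc_21_3 lc_g_rc_21_3 lc_g_rc_27_0 lc_g_rc_26_3 lc_g_rc_21_2 lc_g_rc_23_9 lc_g_rc_21_3 lc_g_Cert_tree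 lc_g_rc_21_2 lc_g_rc_21_2 lc_g_Cert_tree lc_g_rc_26_3 lc_g_rc_21_3 lc_g_Cert_tree lc_g_Cert_tree lc_g_rc_24_9 lc_g_Cert_tree lc_g_rc_23_9 lc_g_rc_21_2 lc_g_rc_21_2 lc_g_rc_21_2 lc_g_rc_27_0 lc_g_rc_23_3 lc_g_rc_21_2 lc_g_rc_24_1 lc_g_rc_26_3 lc_g_rc_27_3 lc_g_rc_24_3 lc_g_rc_24_3 lc_g_Cert_tree lc_g_Cert_tree lc_g_rc_21_3 lc_g_rc_26_0 lc_g_rc_26_0 lc_g_rc_21_3 lc_g_rc_26_3 lc_g_rc_21_2 lc_g_Cert_tree lc_g_Cert_tree lc_g_rc_23_3 lc_g_rc_26_9 lc_g_rc_27_0 lc_g_Cert_tree lc_g_rc_21_2 lc_g_rc_21_3 lc_g_rc_26_3 lc_g_rc_23_3 lc_g_rc_26_6 lc_g_Cert_tree lc_g_rc_27_3 lc_g_Cert_tree lc_g_rc_21_2 lc_g_rc_21_3 lc_g_Cert_tree) (@D3.rec (fun _ => (Cert rels S Gen.g)) lc_g_rc_21_3 lc_g_rc_26_9 lc_g_rc_27_3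 lc_g_rc_27_9 lc_g_rc_21_3 lc_g_Cert_tree lc_g_rc_21_3 lc_g_rc_24_3 lc_g_rc_21_3 lc_g_rc_21_3 lc_g_Cert_tree lc_g_rc_21_2 lc_g_rc_24_1 lc_g_rc_21_3 lc_g_rc_21_2 lc_g_rc_27_6 lc_g_rc_26_0 lc_g_Cert_tree lc_g_rc_27_3 lc_g_rc_27_0 lc_g_rc_21_2 lc_g_rc_21_2 lc_g_rc_21_2 lc_g_rc_23_9 lc_g_rc_21_2 lc_g_Cert_tree lc_g_rc_27_0 lc_g_rc_23_1 lc_g_Cert_tree lc_g_rc_21_3 lc_g_Cert_tree lc_g_Cert_tree lc_g_Cert_tree lc_g_Cert_tree lc_g_rc_27_0 lc_g_Cert_tree lc_g_rc_27_0 lc_g_rc_21_2 lc_g_rc_21_2 lc_g_rc_21_2 lc_g_rc_21_3 lc_g_rc_24_7 lc_g_rc_27_3 lc_g_rc_27_0 lc_g_Cert_tree lc_g_Cert_tree lc_g_rc_27_0 lc_g_rc_23_9 lc_g_rc_21_3 lc_g_rc_21_2 lc_g_rc_21_2 lc_g_rc_27_3 lc_g_rc_24_7 lc_g_rc_27_3 lc_g_rc_23_1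 lc_g_rc_21_3 lc_g_rc_21_3 lc_g_Cert_tree lc_g_Cert_tree lc_g_rc_21_3 lc_g_Cert_tree lc_g_rc_21_2) (@D3.rec (fun _ => (Cert rels S Gen.g)) lc_g_Cert_tree lc_g_rc_24_9 lc_g_rc_21_2 lc_g_rc_26_3 lc_g_Cert_tree lc_g_rc_21_3 lc_g_Cert_tree lc_g_rc_23_3 lc_g_rc_21_2 lc_g_rc_26_6 lc_g_rc_24_1 lc_g_rc_21_3 lc_g_rc_21_3 lc_g_rc_27_3 lc_g_rc_21_3 lc_g_rc_27_3 lc_g_rc_24_9 lc_g_rc_23_9 lc_g_rc_26_3 lc_g_rc_21_3 lc_g_rc_21_3 lc_g_Cert_tree lc_g_rc_26_3 lc_g_rc_21_2 lc_g_rc_24_7 lc_g_Cert_tree lc_g_Cert_tree lc_g_rc_26_0 lc_g_rc_24_7 lc_g_Cert_tree lc_g_rc_24_7 lc_g_Cert_tree lc_g_rc_21_2 lc_g_rc_21_3 lc_g_rc_26_3 lc_g_rc_21_3 lc_g_Cert_tree lc_g_Cert_tree lc_g_rc_21_2 lc_g_rc_21_2 lc_g_Cert_tree lc_g_rc_21_2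 lc_g_Cert_tree lc_g_rc_26_0 lc_g_rc_21_2 lc_g_rc_21_3 lc_g_rc_24_3 lc_g_rc_21_3 lc_g_rc_24_9 lc_g_Cert_tree lc_g_Cert_tree lc_g_rc_23_9 lc_g_Cert_tree lc_g_rc_21_2 lc_g_rc_21_3 lc_g_rc_21_3 lc_g_rc_23_1 lc_g_rc_21_2 lc_g_Cert_tree lc_g_Cert_tree lc_g_rc_21_2 lc_g_rc_26_6) (@D3.rec (fun _ => (Cert rels S Gen.g)) lc_g_rc_23_7 lc_g_rc_21_3 lc_g_Cert_tree lc_g_rc_21_2 lc_g_Cert_tree lc_g_Cert_tree lc_g_rc_23_1 lc_g_rc_27_3 lc_g_rc_21_2 lc_g_rc_21_3 lc_g_Cert_tree lc_g_rc_24_1 lc_g_rc_21_2 lc_g_rc_21_2 lc_g_rc_21_3 lc_g_Cert_tree lc_g_rc_21_3 lc_g_rc_21_2 lc_g_rc_27_0 lc_g_rc_21_3 lc_g_Cert_tree lc_g_rc_27_3 lc_g_rc_21_2 lc_g_rc_21_3 lc_g_Cert_tree lc_g_Cert_tree lc_g_rc_21_3 lc_g_rc_21_3 lc_g_rc_21_3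 lc_g_rc_21_2 lc_g_rc_27_0 lc_g_rc_21_3 lc_g_Cert_tree lc_g_rc_21_2 lc_g_rc_26_0 lc_g_Cert_tree lc_g_Cert_tree lc_g_rc_21_3 lc_g_Cert_tree lc_g_rc_26_3 lc_g_Cert_tree lc_g_rc_24_1 lc_g_rc_27_6 lc_g_Cert_tree lc_g_rc_21_2 lc_g_rc_26_0 lc_g_rc_21_3 lc_g_Cert_tree lc_g_rc_21_2 lc_g_rc_21_3 lc_g_rc_24_3 lc_g_Cert_tree lc_g_rc_21_2 lc_g_rc_27_6 lc_g_rc_27_6 lc_g_rc_21_3 lc_g_rc_21_3 lc_g_rc_26_3 lc_g_rc_26_3 lc_g_rc_21_3 lc_g_rc_27_3 lc_g_rc_21_3) (@D3.rec (fun _ => (Cert rels S Gen.g)) lc_g_rc_21_3 lc_g_rc_21_2 lc_g_rc_21_3 lc_g_rc_21_3 lc_g_rc_26_9 lc_g_rc_21_2 lc_g_rc_21_3 lc_g_rc_21_2 lc_g_Cert_tree lc_g_rc_23_1 lc_g_rc_26_0 lc_g_Cert_tree lc_g_rc_24_9 lc_g_Cert_tree lc_g_rc_26_0 lc_g_rc_21_3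 lc_g_Cert_tree lc_g_rc_26_0 lc_g_rc_23_7 lc_g_rc_21_3 lc_g_rc_21_2 lc_g_rc_23_1 lc_g_rc_27_9 lc_g_Cert_tree lc_g_rc_23_3 lc_g_rc_26_0 lc_g_rc_27_3 lc_g_rc_27_6 lc_g_rc_21_3 lc_g_Cert_tree lc_g_Cert_tree lc_g_rc_21_2 lc_g_Cert_tree lc_g_rc_21_3 lc_g_Cert_tree lc_g_Cert_tree lc_g_rc_21_2 lc_g_rc_21_3 lc_g_Cert_tree lc_g_Cert_tree lc_g_rc_21_2 lc_g_rc_27_6 lc_g_rc_21_3 lc_g_Cert_tree lc_g_rc_26_3 lc_g_rc_27_3 lc_g_Cert_tree lc_g_Cert_tree lc_g_rc_21_2 lc_g_rc_27_6 lc_g_Cert_tree lc_g_Cert_tree lc_g_rc_21_2 lc_g_rc_21_3 lc_g_rc_27_9 lc_g_rc_21_3 lc_g_rc_24_1 lc_g_rc_21_3 lc_g_Cert_tree lc_g_rc_21_2 lc_g_rc_26_3 lc_g_rc_25_19) (@D3.rec (fun _ => (Cert rels S Gen.g)) lc_g_rc_26_6 lc_g_rc_21_3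 lc_g_Cert_tree lc_g_rc_21_3 lc_g_rc_27_9 lc_g_rc_26_3 lc_g_rc_26_6 lc_g_rc_25_19 lc_g_rc_21_3 lc_g_Cert_tree lc_g_Cert_tree lc_g_Cert_tree lc_g_rc_23_1 lc_g_Cert_tree lc_g_rc_23_3 lc_g_Cert_tree lc_g_Cert_tree lc_g_rc_21_2 lc_g_rc_21_3 lc_g_rc_21_2 lc_g_rc_26_3 lc_g_Cert_tree lc_g_rc_21_2 lc_g_Cert_tree lc_g_Cert_tree lc_g_Cert_tree lc_g_Cert_tree lc_g_Cert_tree lc_g_rc_21_3 lc_g_rc_27_3 lc_g_rc_24_3 lc_g_rc_21_3 lc_g_rc_21_2 lc_g_rc_24_7 lc_g_rc_21_2 lc_g_rc_26_9 lc_g_rc_27_0 lc_g_rc_21_2 lc_g_Cert_tree lc_g_rc_21_3 lc_g_rc_23_7 lc_g_rc_21_3 lc_g_rc_21_2 lc_g_rc_21_2 lc_g_rc_21_3 lc_g_Cert_tree lc_g_Cert_tree lc_g_rc_21_2 lc_g_rc_24_9 lc_g_rc_21_3 lc_g_Cert_tree lc_g_rc_27_6 lc_g_rc_25_11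 lc_g_rc_27_6 lc_g_rc_24_3 lc_g_rc_26_3 lc_g_rc_25_11 lc_g_rc_24_1 lc_g_rc_26_0 lc_g_Cert_tree lc_g_rc_21_3 lc_g_Cert_tree) (@D3.rec (fun _ => (Cert rels S Gen.g)) lc_g_rc_27_6 lc_g_rc_23_3 lc_g_rc_26_9 lc_g_Cert_tree lc_g_rc_21_3 lc_g_Cert_tree lc_g_rc_24_3 lc_g_rc_24_7 lc_g_rc_21_2 lc_g_rc_24_9 lc_g_rc_21_2 lc_g_Cert_tree lc_g_rc_23_7 lc_g_rc_21_3 lc_g_Cert_tree lc_g_Cert_tree lc_g_rc_21_2 lc_g_Cert_tree lc_g_rc_27_0 lc_g_rc_23_3 lc_g_rc_24_3 lc_g_Cert_tree lc_g_rc_26_0 lc_g_rc_27_3 lc_g_rc_21_3 lc_g_rc_26_6 lc_g_Cert_tree lc_g_rc_26_6 lc_g_rc_21_3 lc_g_rc_21_3 lc_g_rc_27_6 lc_g_rc_24_7 lc_g_rc_21_3 lc_g_rc_27_3 lc_g_rc_25_19 lc_g_rc_27_6 lc_g_Cert_tree lc_g_Cert_tree lc_g_rc_24_3 lc_g_Cert_tree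 lc_g_rc_26_9 lc_g_rc_23_9 lc_g_Cert_tree lc_g_rc_25_3 lc_g_rc_23_3 lc_g_rc_21_3 lc_g_rc_23_3 lc_g_rc_21_3 lc_g_rc_21_2 lc_g_rc_26_3 lc_g_rc_21_3 lc_g_Cert_tree lc_g_rc_21_3 lc_g_rc_21_2 lc_g_rc_21_3 lc_g_rc_21_2 lc_g_rc_26_6 lc_g_rc_27_3 lc_g_rc_21_2 lc_g_rc_21_3 lc_g_Cert_tree lc_g_rc_26_0) (@D3.rec (fun _ => (Cert rels S Gen.g)) lc_g_rc_26_3 lc_g_rc_21_2 lc_g_rc_27_6 lc_g_rc_25_19 lc_g_rc_21_2 lc_g_rc_27_6 lc_g_rc_24_1 lc_g_Cert_tree lc_g_rc_21_2 lc_g_rc_23_1 lc_g_Cert_tree lc_g_rc_23_1 lc_g_rc_26_0 lc_g_Cert_tree lc_g_rc_26_6 lc_g_rc_21_3 lc_g_rc_23_9 lc_g_Cert_tree lc_g_rc_26_0 lc_g_rc_26_0 lc_g_rc_24_7 lc_g_rc_27_6 lc_g_rc_21_3 lc_g_rc_23_9 lc_g_rc_26_6 lc_g_rc_21_3 lc_g_Cert_tree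 lc_g_rc_21_2 lc_g_rc_21_3 lc_g_rc_21_2 lc_g_rc_27_6 lc_g_rc_24_1 lc_g_rc_26_0 lc_g_rc_21_3 lc_g_Cert_tree lc_g_rc_21_3 lc_g_rc_21_3 lc_g_rc_26_6 lc_g_Cert_tree lc_g_rc_26_3 lc_g_Cert_tree lc_g_rc_24_7 lc_g_rc_24_3 lc_g_rc_21_3 lc_g_rc_26_9 lc_g_Cert_tree lc_g_rc_21_2 lc_g_Cert_tree lc_g_rc_27_6 lc_g_Cert_tree lc_g_rc_26_6 lc_g_rc_26_3 lc_g_rc_21_2 lc_g_rc_21_2 lc_g_rc_21_2 lc_g_rc_21_3 lc_g_rc_27_9 lc_g_rc_27_6 lc_g_Cert_tree lc_g_rc_21_3 lc_g_Cert_tree lc_g_Cert_tree) (@D3.rec (fun _ => (Cert rels S Gen.g)) lc_g_Cert_tree lc_g_rc_21_3 lc_g_rc_21_3 lc_g_Cert_tree lc_g_rc_26_6 lc_g_rc_26_3 lc_g_rc_27_6 lc_g_Cert_tree lc_g_rc_21_2 lc_g_rc_26_6 lc_g_Cert_tree lc_g_rc_27_9 lc_g_rc_21_2 lc_g_rc_26_0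 lc_g_Cert_tree lc_g_rc_21_3 lc_g_rc_21_3 lc_g_Cert_tree lc_g_rc_21_2 lc_g_rc_24_1 lc_g_Cert_tree lc_g_Cert_tree lc_g_rc_21_2 lc_g_rc_23_7 lc_g_rc_21_2 lc_g_rc_21_2 lc_g_rc_21_3 lc_g_Cert_tree lc_g_rc_26_3 lc_g_rc_21_2 lc_g_rc_21_3 lc_g_rc_21_3 lc_g_rc_21_3 lc_g_Cert_tree lc_g_Cert_tree lc_g_Cert_tree lc_g_rc_26_0 lc_g_rc_21_2 lc_g_rc_27_9 lc_g_rc_21_2 lc_g_rc_21_2 lc_g_rc_23_3 lc_g_Cert_tree lc_g_rc_21_3 lc_g_Cert_tree lc_g_rc_26_6 lc_g_rc_21_3 lc_g_rc_21_3 lc_g_Cert_tree lc_g_Cert_tree lc_g_rc_21_2 lc_g_Cert_tree lc_g_rc_27_9 lc_g_rc_21_3 lc_g_rc_21_2 lc_g_rc_27_0 lc_g_rc_26_9 lc_g_rc_21_3 lc_g_Cert_tree lc_g_rc_21_2 lc_g_rc_26_6 lc_g_rc_21_3) (@D3.rec (fun _ => (Cert rels S Gen.g)) lc_g_Cert_tree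 lc_g_Cert_tree lc_g_rc_21_2 lc_g_rc_21_2 lc_g_rc_21_3 lc_g_rc_21_3 lc_g_rc_26_6 lc_g_Cert_tree lc_g_rc_21_2 lc_g_rc_23_3 lc_g_rc_21_3 lc_g_rc_26_9 lc_g_rc_21_3 lc_g_Cert_tree lc_g_rc_21_2 lc_g_rc_21_2 lc_g_rc_26_9 lc_g_Cert_tree lc_g_Cert_tree lc_g_rc_26_9 lc_g_rc_21_3 lc_g_Cert_tree lc_g_rc_27_0 lc_g_Cert_tree lc_g_rc_23_7 lc_g_rc_21_3 lc_g_rc_24_9 lc_g_rc_27_0 lc_g_rc_24_1 lc_g_Cert_tree lc_g_rc_26_6 lc_g_rc_21_3 lc_g_Cert_tree lc_g_rc_21_3 lc_g_Cert_tree lc_g_Cert_tree lc_g_rc_21_2 lc_g_rc_21_3 lc_g_Cert_tree lc_g_rc_21_3 lc_g_rc_23_1 lc_g_rc_21_2 lc_g_Cert_tree lc_g_Cert_tree lc_g_rc_21_3 lc_g_rc_23_7 lc_g_rc_21_3 lc_g_rc_21_3 lc_g_rc_26_6 lc_g_Cert_tree lc_g_rc_23_7 lc_g_Cert_tree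 lc_g_rc_23_3 lc_g_rc_21_2 lc_g_Cert_tree lc_g_rc_21_3 lc_g_Cert_tree lc_g_rc_27_0 lc_g_rc_21_3 lc_g_Cert_tree lc_g_rc_21_2 lc_g_rc_21_3) (@D3.rec (fun _ => (Cert rels S Gen.g)) lc_g_Cert_tree lc_g_rc_21_2 lc_g_Cert_tree lc_g_Cert_tree lc_g_rc_21_2 lc_g_rc_27_3 lc_g_rc_21_2 lc_g_rc_23_7 lc_g_rc_21_3 lc_g_Cert_tree lc_g_Cert_tree lc_g_rc_24_7 lc_g_rc_23_9 lc_g_rc_21_2 lc_g_rc_21_2 lc_g_rc_21_3 lc_g_Cert_tree lc_g_rc_21_2 lc_g_rc_21_2 lc_g_rc_27_6 lc_g_rc_24_3 lc_g_rc_26_0 lc_g_rc_26_3 lc_g_rc_26_3 lc_g_rc_26_0 lc_g_Cert_tree lc_g_rc_21_3 lc_g_rc_26_6 lc_g_rc_23_3 lc_g_rc_27_0 lc_g_rc_21_3 lc_g_rc_27_3 lc_g_rc_21_2 lc_g_rc_21_2 lc_g_rc_27_3 lc_g_rc_27_6 lc_g_rc_24_3 lc_g_Cert_tree lc_g_rc_21_2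 lc_g_Cert_tree lc_g_rc_24_1 lc_g_rc_26_0 lc_g_rc_27_6 lc_g_Cert_tree lc_g_Cert_tree lc_g_rc_27_3 lc_g_rc_21_2 lc_g_rc_27_3 lc_g_rc_21_2 lc_g_Cert_tree lc_g_rc_21_3 lc_g_rc_24_7 lc_g_rc_21_3 lc_g_Cert_tree lc_g_rc_21_3 lc_g_Cert_tree lc_g_rc_23_3 lc_g_rc_23_9 lc_g_Cert_tree lc_g_rc_23_9 lc_g_rc_27_9 lc_g_Cert_tree) (@D3.rec (fun _ => (Cert rels S Gen.g)) lc_g_rc_26_3 lc_g_rc_27_3 lc_g_rc_24_3 lc_g_rc_21_3 lc_g_rc_21_2 lc_g_Cert_tree lc_g_Cert_tree lc_g_rc_21_3 lc_g_rc_24_7 lc_g_rc_27_0 lc_g_rc_27_3 lc_g_rc_24_3 lc_g_Cert_tree lc_g_rc_23_7 lc_g_rc_23_3 lc_g_Cert_tree lc_g_rc_21_3 lc_g_rc_27_6 lc_g_Cert_tree lc_g_rc_27_6 lc_g_rc_27_6 lc_g_Cert_tree lc_g_rc_23_3 lc_g_rc_21_2 lc_g_Cert_tree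 lc_g_rc_21_2 lc_g_rc_24_7 lc_g_rc_27_9 lc_g_rc_26_0 lc_g_rc_24_3 lc_g_rc_23_3 lc_g_Cert_tree lc_g_rc_27_6 lc_g_rc_21_3 lc_g_Cert_tree lc_g_Cert_tree lc_g_rc_23_3 lc_g_rc_24_7 lc_g_Cert_tree lc_g_Cert_tree lc_g_Cert_tree lc_g_rc_21_3 lc_g_Cert_tree lc_g_rc_21_2 lc_g_rc_24_7 lc_g_rc_21_3 lc_g_Cert_tree lc_g_rc_24_3 lc_g_rc_23_3 lc_g_Cert_tree lc_g_rc_21_3 lc_g_rc_21_3 lc_g_rc_27_0 lc_g_rc_27_9 lc_g_rc_23_7 lc_g_rc_27_3 lc_g_rc_21_2 lc_g_rc_27_6 lc_g_rc_24_1 lc_g_rc_24_7 lc_g_rc_24_9 lc_g_rc_24_7) (@D3.rec (fun _ => (Cert rels S Gen.g)) lc_g_rc_21_3 lc_g_rc_21_2 lc_g_Cert_tree lc_g_rc_21_3 lc_g_Cert_tree lc_g_Cert_tree lc_g_rc_21_2 lc_g_rc_21_3 lc_g_Cert_tree lc_g_rc_21_2 lc_g_rc_21_3 lc_g_Cert_tree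 lc_g_rc_24_3 lc_g_rc_27_9 lc_g_Cert_tree lc_g_rc_24_7 lc_g_Cert_tree lc_g_Cert_tree lc_g_rc_23_3 lc_g_rc_23_9 lc_g_rc_27_6 lc_g_rc_25_7 lc_g_rc_23_7 lc_g_rc_21_3 lc_g_rc_21_2 lc_g_rc_21_3 lc_g_Cert_tree lc_g_rc_21_2 lc_g_rc_25_7 lc_g_rc_21_2 lc_g_rc_21_3 lc_g_rc_21_2 lc_g_Cert_tree lc_g_rc_21_2 lc_g_Cert_tree lc_g_rc_23_7 lc_g_rc_21_3 lc_g_Cert_tree lc_g_Cert_tree lc_g_rc_21_2 lc_g_rc_21_3 lc_g_Cert_tree lc_g_rc_27_9 lc_g_rc_26_3 lc_g_Cert_tree lc_g_rc_23_1 lc_g_rc_26_3 lc_g_rc_26_0 lc_g_rc_24_7 lc_g_rc_24_3 lc_g_Cert_tree lc_g_Cert_tree lc_g_rc_23_3 lc_g_rc_27_0 lc_g_rc_23_3 lc_g_rc_24_3 lc_g_Cert_tree lc_g_Cert_tree lc_g_rc_21_2 lc_g_Cert_tree lc_g_rc_21_3 lc_g_rc_21_3) (@D3.rec (fun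 _ => (Cert rels S Gen.g)) lc_g_Cert_tree lc_g_Cert_tree lc_g_Cert_tree lc_g_rc_21_2 lc_g_rc_21_2 lc_g_Cert_tree lc_g_Cert_tree lc_g_rc_21_3 lc_g_Cert_tree lc_g_Cert_tree lc_g_rc_21_2 lc_g_rc_26_0 lc_g_Cert_tree lc_g_Cert_tree lc_g_rc_26_6 lc_g_rc_21_3 lc_g_rc_26_3 lc_g_rc_21_3 lc_g_Cert_tree lc_g_rc_24_3 lc_g_rc_26_9 lc_g_rc_24_7 lc_g_rc_26_3 lc_g_Cert_tree lc_g_rc_21_3 lc_g_rc_21_2 lc_g_rc_27_6 lc_g_Cert_tree lc_g_Cert_tree lc_g_rc_21_3 lc_g_Cert_tree lc_g_Cert_tree lc_g_rc_21_2 lc_g_rc_27_9 lc_g_rc_21_3 lc_g_Cert_tree lc_g_rc_27_0 lc_g_rc_21_2 lc_g_rc_27_6 lc_g_rc_21_2 lc_g_rc_26_9 lc_g_Cert_tree lc_g_rc_21_3 lc_g_Cert_tree lc_g_Cert_tree lc_g_Cert_tree lc_g_rc_21_2 lc_g_Cert_tree lc_g_rc_23_1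 lc_g_rc_24_9 lc_g_rc_21_2 lc_g_rc_21_2 lc_g_rc_21_2 lc_g_rc_21_2 lc_g_rc_27_6 lc_g_rc_21_3 lc_g_Cert_tree lc_g_rc_27_9 lc_g_Cert_tree lc_g_Cert_tree lc_g_rc_21_3 lc_g_rc_26_6) (@D3.rec (fun _ => (Cert rels S Gen.g)) lc_g_rc_26_6 lc_g_rc_21_2 lc_g_rc_21_2 lc_g_rc_21_2 lc_g_rc_26_6 lc_g_rc_26_3 lc_g_rc_21_2 lc_g_Cert_tree lc_g_rc_26_0 lc_g_rc_27_6 lc_g_rc_23_7 lc_g_rc_21_3 lc_g_Cert_tree lc_g_rc_24_7 lc_g_rc_24_1 lc_g_Cert_tree lc_g_Cert_tree lc_g_rc_21_2 lc_g_rc_27_0 lc_g_rc_21_3 lc_g_rc_24_7 lc_g_rc_23_7 lc_g_rc_21_3 lc_g_rc_26_3 lc_g_Cert_tree lc_g_rc_21_2 lc_g_Cert_tree lc_g_Cert_tree lc_g_rc_21_2 lc_g_rc_27_6 lc_g_rc_21_3 lc_g_Cert_tree lc_g_rc_24_9 lc_g_Cert_tree lc_g_Cert_tree lc_g_rc_21_3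 lc_g_Cert_tree lc_g_rc_23_3 lc_g_Cert_tree lc_g_Cert_tree lc_g_rc_21_2 lc_g_rc_21_2 lc_g_rc_21_2 lc_g_rc_21_3 lc_g_Cert_tree lc_g_rc_21_2 lc_g_Cert_tree lc_g_rc_21_3 lc_g_Cert_tree lc_g_rc_21_2 lc_g_rc_24_1 lc_g_rc_23_7 lc_g_rc_21_3 lc_g_rc_21_3 lc_g_Cert_tree lc_g_rc_23_9 lc_g_rc_26_6 lc_g_Cert_tree lc_g_rc_21_3 lc_g_Cert_tree lc_g_rc_27_0 lc_g_rc_27_0) (@D3.rec (fun _ => (Cert rels S Gen.g)) lc_g_Cert_tree lc_g_rc_27_3 lc_g_rc_21_2 lc_g_rc_27_0 lc_g_rc_23_1 lc_g_Cert_tree lc_g_rc_26_0 lc_g_Cert_tree lc_g_rc_26_9 lc_g_Cert_tree lc_g_rc_26_3 lc_g_rc_26_3 lc_g_rc_27_6 lc_g_rc_21_3 lc_g_Cert_tree lc_g_rc_21_3 lc_g_rc_21_3 lc_g_rc_26_0 lc_g_rc_24_7 lc_g_rc_24_9 lc_g_rc_24_3 lc_g_rc_23_3 lc_g_Cert_tree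 lc_g_rc_27_6 lc_g_rc_21_2 lc_g_rc_26_3 lc_g_rc_26_3 lc_g_rc_26_3 lc_g_rc_24_1 lc_g_rc_26_3 lc_g_Cert_tree lc_g_Cert_tree lc_g_rc_21_3 lc_g_Cert_tree lc_g_Cert_tree lc_g_rc_21_3 lc_g_rc_26_3 lc_g_rc_26_0 lc_g_rc_21_2 lc_g_rc_26_0 lc_g_rc_21_3 lc_g_Cert_tree lc_g_rc_21_3 lc_g_rc_23_9 lc_g_rc_23_1 lc_g_rc_21_3 lc_g_rc_21_3 lc_g_Cert_tree lc_g_rc_21_2 lc_g_rc_21_2 lc_g_rc_26_9 lc_g_rc_23_7 lc_g_rc_21_3 lc_g_Cert_tree lc_g_Cert_tree lc_g_rc_26_3 lc_g_rc_26_3 lc_g_Cert_tree lc_g_rc_26_3 lc_g_rc_21_2 lc_g_rc_26_9 lc_g_rc_21_2) (@D3.rec (fun _ => (Cert rels S Gen.g)) lc_g_rc_21_3 lc_g_Cert_tree lc_g_Cert_tree lc_g_rc_21_2 lc_g_rc_24_7 lc_g_rc_26_3 lc_g_rc_21_3 lc_g_Cert_tree lc_g_Cert_tree lc_g_Cert_tree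 lc_g_rc_26_3 lc_g_Cert_tree lc_g_rc_23_9 lc_g_rc_21_3 lc_g_Cert_tree lc_g_rc_27_6 lc_g_rc_27_6 lc_g_rc_21_3 lc_g_rc_21_2 lc_g_rc_26_3 lc_g_rc_21_2 lc_g_Cert_tree lc_g_rc_21_3 lc_g_Cert_tree lc_g_Cert_tree lc_g_rc_21_2 lc_g_rc_27_9 lc_g_Cert_tree lc_g_Cert_tree lc_g_rc_26_3 lc_g_rc_24_1 lc_g_Cert_tree lc_g_rc_26_3 lc_g_rc_23_1 lc_g_rc_26_3 lc_g_Cert_tree lc_g_rc_26_3 lc_g_Cert_tree lc_g_rc_26_6 lc_g_rc_21_2 lc_g_rc_25_7 lc_g_rc_27_6 lc_g_rc_21_3 lc_g_rc_23_1 lc_g_rc_26_6 lc_g_rc_21_2 lc_g_rc_26_3 lc_g_Cert_tree lc_g_rc_26_6 lc_g_rc_26_3 lc_g_Cert_tree lc_g_Cert_tree lc_g_Cert_tree lc_g_rc_21_3 lc_g_rc_26_6 lc_g_rc_21_2 lc_g_Cert_tree lc_g_rc_21_3 lc_g_Cert_tree lc_g_Cert_tree lc_g_rc_21_2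 lc_g_rc_24_9) (@D3.rec (fun _ => (Cert rels S Gen.g)) lc_g_rc_27_9 lc_g_Cert_tree lc_g_rc_27_6 lc_g_rc_23_7 lc_g_rc_26_9 lc_g_rc_26_3 lc_g_rc_24_9 lc_g_Cert_tree lc_g_rc_21_3 lc_g_Cert_tree lc_g_rc_26_6 lc_g_rc_26_9 lc_g_Cert_tree lc_g_rc_21_3 lc_g_Cert_tree lc_g_Cert_tree lc_g_rc_23_7 lc_g_rc_21_2 lc_g_Cert_tree lc_g_Cert_tree lc_g_Cert_tree lc_g_rc_23_3 lc_g_rc_21_2 lc_g_rc_24_7 lc_g_rc_27_9 lc_g_rc_21_3 lc_g_Cert_tree lc_g_rc_21_2 lc_g_rc_26_0 lc_g_rc_27_6 lc_g_rc_27_6 lc_g_rc_21_3 lc_g_Cert_tree lc_g_rc_23_7 lc_g_rc_21_2 lc_g_rc_26_3 lc_g_rc_21_3 lc_g_rc_27_6 lc_g_Cert_tree lc_g_Cert_tree lc_g_rc_27_3 lc_g_rc_26_0 lc_g_Cert_tree lc_g_rc_21_2 lc_g_rc_23_7 lc_g_rc_26_3 lc_g_Cert_tree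 lc_g_rc_27_6 lc_g_Cert_tree lc_g_rc_21_3 lc_g_rc_23_1 lc_g_rc_27_6 lc_g_rc_27_9 lc_g_rc_21_3 lc_g_rc_23_3 lc_g_rc_21_2 lc_g_rc_21_3 lc_g_Cert_tree lc_g_rc_26_9 lc_g_rc_27_3 lc_g_Cert_tree lc_g_Cert_tree) (@D3.rec (fun _ => (Cert rels S Gen.g)) lc_g_rc_27_3 lc_g_rc_21_2 lc_g_rc_27_3 lc_g_rc_21_3 lc_g_rc_21_3 lc_g_rc_21_2 lc_g_Cert_tree lc_g_Cert_tree lc_g_rc_27_6 lc_g_Cert_tree lc_g_rc_24_1 lc_g_rc_21_3 lc_g_rc_26_3 lc_g_rc_21_3 lc_g_Cert_tree lc_g_Cert_tree lc_g_rc_21_2 lc_g_rc_27_3 lc_g_rc_27_9 lc_g_rc_26_3 lc_g_rc_21_2 lc_g_Cert_tree lc_g_rc_21_2 lc_g_Cert_tree lc_g_Cert_tree lc_g_rc_26_6 lc_g_rc_24_9 lc_g_Cert_tree lc_g_Cert_tree lc_g_Cert_tree lc_g_Cert_tree lc_g_rc_26_9 lc_g_Cert_tree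 lc_g_rc_23_9 lc_g_rc_23_1 lc_g_Cert_tree lc_g_rc_23_9 lc_g_Cert_tree lc_g_rc_27_6 lc_g_Cert_tree lc_g_rc_21_3 lc_g_rc_21_3 lc_g_Cert_tree lc_g_rc_24_7 lc_g_Cert_tree lc_g_rc_21_2 lc_g_Cert_tree lc_g_rc_21_3 lc_g_Cert_tree lc_g_rc_21_2 lc_g_rc_27_6 lc_g_rc_21_2 lc_g_Cert_tree lc_g_Cert_tree lc_g_rc_21_3 lc_g_Cert_tree lc_g_rc_27_6 lc_g_Cert_tree lc_g_Cert_tree lc_g_rc_23_9 lc_g_rc_27_9 lc_g_rc_26_6) (@D3.rec (fun _ => (Cert rels S Gen.g)) lc_g_rc_27_9 lc_g_Cert_tree lc_g_rc_26_6 lc_g_rc_26_9 lc_g_rc_26_6 lc_g_rc_21_3 lc_g_rc_21_2 lc_g_Cert_tree lc_g_rc_23_7 lc_g_rc_21_2 lc_g_Cert_tree lc_g_rc_24_9 lc_g_Cert_tree lc_g_rc_27_3 lc_g_rc_21_3 lc_g_Cert_tree lc_g_rc_21_2 lc_g_rc_24_3 lc_g_Cert_tree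 lc_g_rc_24_9 lc_g_rc_23_7 lc_g_rc_24_9 lc_g_Cert_tree lc_g_Cert_tree lc_g_rc_27_6 lc_g_Cert_tree lc_g_rc_24_3 lc_g_rc_26_3 lc_g_Cert_tree lc_g_rc_24_9 lc_g_rc_21_3 lc_g_Cert_tree lc_g_rc_27_3 lc_g_rc_26_0 lc_g_rc_21_2 lc_g_rc_21_2 lc_g_rc_21_3 lc_g_rc_21_2 lc_g_rc_21_3 lc_g_rc_26_9 lc_g_rc_21_3 lc_g_rc_21_2 lc_g_rc_21_2 lc_g_rc_21_2 lc_g_Cert_tree lc_g_rc_21_2 lc_g_rc_21_2 lc_g_rc_21_3 lc_g_Cert_tree lc_g_rc_21_2 lc_g_Cert_tree lc_g_rc_26_3 lc_g_rc_21_3 lc_g_Cert_tree lc_g_rc_23_7 lc_g_rc_21_2 lc_g_rc_23_1 lc_g_rc_27_9 lc_g_rc_24_7 lc_g_rc_23_7 lc_g_rc_21_3 lc_g_rc_21_2) (@D3.rec (fun _ => (Cert rels S Gen.g)) lc_g_rc_21_2 lc_g_rc_24_7 lc_g_rc_27_6 lc_g_Cert_tree lc_g_rc_27_3 lc_g_rc_21_2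 lc_g_rc_24_3 lc_g_Cert_tree lc_g_rc_26_3 lc_g_rc_21_2 lc_g_rc_26_3 lc_g_rc_26_3 lc_g_Cert_tree lc_g_rc_26_6 lc_g_rc_21_2 lc_g_rc_26_3 lc_g_rc_21_3 lc_g_Cert_tree lc_g_rc_26_3 lc_g_rc_26_6 lc_g_rc_26_0 lc_g_rc_26_0 lc_g_rc_26_0 lc_g_rc_26_6 lc_g_rc_23_3 lc_g_Cert_tree lc_g_rc_27_0 lc_g_Cert_tree lc_g_Cert_tree lc_g_rc_21_2 lc_g_Cert_tree lc_g_Cert_tree lc_g_rc_21_2 lc_g_rc_24_3 lc_g_Cert_tree lc_g_Cert_tree lc_g_rc_23_7 lc_g_rc_21_3 lc_g_rc_21_2 lc_g_Cert_tree lc_g_rc_24_9 lc_g_rc_21_2 lc_g_rc_24_3 lc_g_Cert_tree lc_g_rc_21_2 lc_g_rc_26_0 lc_g_Cert_tree lc_g_rc_21_3 lc_g_rc_21_3 lc_g_Cert_tree lc_g_Cert_tree lc_g_rc_21_2 lc_g_rc_26_0 lc_g_Cert_tree lc_g_rc_21_3 lc_g_rc_23_3 lc_g_Cert_tree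 lc_g_rc_21_3 lc_g_Cert_tree lc_g_Cert_tree lc_g_rc_21_2 lc_g_Cert_tree) (@D3.rec (fun _ => (Cert rels S Gen.g)) lc_g_Cert_tree lc_g_Cert_tree lc_g_rc_23_3 lc_g_rc_21_2 lc_g_Cert_tree lc_g_rc_21_3 lc_g_Cert_tree lc_g_rc_21_2 lc_g_rc_26_6 lc_g_Cert_tree lc_g_rc_21_2 lc_g_rc_21_2 lc_g_rc_26_9 lc_g_rc_27_3 lc_g_rc_21_3 lc_g_rc_21_3 lc_g_Cert_tree lc_g_rc_21_2 lc_g_rc_24_9 lc_g_rc_24_7 lc_g_rc_27_6 lc_g_Cert_tree lc_g_rc_23_3 lc_g_rc_26_3 lc_g_Cert_tree lc_g_rc_21_3 lc_g_Cert_tree lc_g_rc_21_3 lc_g_Cert_tree lc_g_Cert_tree lc_g_rc_21_2 lc_g_rc_21_2 lc_g_Cert_tree lc_g_rc_24_9 lc_g_rc_26_0 lc_g_rc_21_2 lc_g_rc_27_6 lc_g_rc_21_2 lc_g_Cert_tree lc_g_Cert_tree lc_g_rc_21_2 lc_g_rc_26_6 lc_g_rc_21_2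 lc_g_rc_24_1 lc_g_rc_21_2 lc_g_rc_24_3 lc_g_rc_21_3 lc_g_Cert_tree lc_g_rc_21_3 lc_g_Cert_tree lc_g_rc_21_2 lc_g_rc_23_3 lc_g_rc_25_11 lc_g_rc_23_3 lc_g_Cert_tree lc_g_rc_27_9 lc_g_Cert_tree lc_g_rc_27_6 lc_g_rc_25_11 lc_g_rc_21_2 lc_g_rc_26_3 lc_g_rc_21_3) (@D3.rec (fun _ => (Cert rels S Gen.g)) lc_g_rc_23_7 lc_g_rc_27_6 lc_g_rc_26_0 lc_g_rc_23_3 lc_g_rc_21_2 lc_g_rc_26_3 lc_g_rc_25_3 lc_g_rc_26_0 lc_g_rc_21_3 lc_g_Cert_tree lc_g_rc_24_1 lc_g_Cert_tree lc_g_rc_23_7 lc_g_Cert_tree lc_g_Cert_tree lc_g_rc_21_2 lc_g_Cert_tree lc_g_rc_26_6 lc_g_Cert_tree lc_g_Cert_tree lc_g_rc_26_9 lc_g_rc_21_3 lc_g_Cert_tree lc_g_Cert_tree lc_g_rc_21_2 lc_g_rc_21_2 lc_g_rc_27_9 lc_g_rc_21_3 lc_g_Cert_tree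 lc_g_rc_24_7 lc_g_rc_21_2 lc_g_rc_21_3 lc_g_Cert_tree lc_g_Cert_tree lc_g_Cert_tree lc_g_rc_27_3 lc_g_rc_21_2 lc_g_Cert_tree lc_g_rc_21_2 lc_g_rc_24_9 lc_g_rc_26_0 lc_g_rc_26_6 lc_g_rc_21_2 lc_g_rc_24_3 lc_g_rc_21_3 lc_g_rc_21_2 lc_g_rc_26_9 lc_g_rc_24_7 lc_g_rc_26_9 lc_g_Cert_tree lc_g_Cert_tree lc_g_Cert_tree lc_g_rc_26_9 lc_g_rc_27_3 lc_g_rc_25_19 lc_g_rc_21_2 lc_g_rc_21_3 lc_g_Cert_tree lc_g_rc_27_6 lc_g_rc_21_3 lc_g_Cert_tree lc_g_rc_23_7) (@D3.rec (fun _ => (Cert rels S Gen.g)) lc_g_rc_23_3 lc_g_rc_26_3 lc_g_rc_26_9 lc_g_rc_26_0 lc_g_rc_21_3 lc_g_rc_27_6 lc_g_Cert_tree lc_g_rc_21_3 lc_g_Cert_tree lc_g_Cert_tree lc_g_rc_21_2 lc_g_rc_26_9 lc_g_Cert_tree lc_g_rc_21_3 lc_g_Cert_tree lc_g_rc_21_2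 lc_g_rc_21_2 lc_g_rc_21_3 lc_g_rc_27_9 lc_g_rc_23_7 lc_g_Cert_tree lc_g_Cert_tree lc_g_rc_21_2 lc_g_rc_27_0 lc_g_Cert_tree lc_g_Cert_tree lc_g_rc_24_7 lc_g_rc_21_3 lc_g_rc_27_0 lc_g_rc_21_2 lc_g_rc_21_2 lc_g_rc_26_3 lc_g_Cert_tree lc_g_rc_21_2 lc_g_rc_26_0 lc_g_Cert_tree lc_g_rc_26_3 lc_g_Cert_tree lc_g_rc_27_6 lc_g_rc_26_3 lc_g_Cert_tree lc_g_rc_21_3 lc_g_rc_21_2 lc_g_rc_27_6 lc_g_rc_21_3 lc_g_rc_23_3 lc_g_rc_21_3 lc_g_rc_27_6 lc_g_rc_21_2 lc_g_rc_26_6 lc_g_rc_21_3 lc_g_rc_21_3 lc_g_Cert_tree lc_g_Cert_tree lc_g_rc_21_2 lc_g_rc_26_3 lc_g_rc_21_3 lc_g_rc_27_9 lc_g_Cert_tree lc_g_rc_26_3 lc_g_rc_21_2 lc_g_rc_21_3) (@D3.rec (fun _ => (Cert rels S Gen.g)) lc_g_rc_23_7 lc_g_rc_21_3 lc_g_rc_27_3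 lc_g_rc_23_3 lc_g_rc_27_6 lc_g_rc_21_3 lc_g_Cert_tree lc_g_rc_26_3 lc_g_rc_23_3 lc_g_rc_21_2 lc_g_rc_27_0 lc_g_rc_27_3 lc_g_rc_21_2 lc_g_rc_23_3 lc_g_rc_21_3 lc_g_rc_21_3 lc_g_Cert_tree lc_g_rc_21_2 lc_g_rc_24_1 lc_g_rc_27_0 lc_g_rc_26_0 lc_g_rc_25_3 lc_g_rc_21_3 lc_g_rc_26_3 lc_g_Cert_tree lc_g_rc_24_9 lc_g_rc_21_2 lc_g_rc_24_7 lc_g_rc_21_3 lc_g_Cert_tree lc_g_rc_21_2 lc_g_rc_21_3 lc_g_Cert_tree lc_g_Cert_tree lc_g_rc_21_2 lc_g_rc_26_0 lc_g_rc_27_6 lc_g_rc_27_6 lc_g_rc_26_6 lc_g_rc_21_3 lc_g_Cert_tree lc_g_rc_21_3 lc_g_Cert_tree lc_g_Cert_tree lc_g_rc_26_3 lc_g_rc_21_3 lc_g_Cert_tree lc_g_rc_26_6 lc_g_rc_26_6 lc_g_rc_21_3 lc_g_Cert_tree lc_g_rc_23_7 lc_g_rc_21_3 lc_g_Cert_tree lc_g_Cert_tree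 lc_g_rc_21_2 lc_g_rc_21_3 lc_g_Cert_tree lc_g_rc_21_2 lc_g_rc_24_1 lc_g_rc_21_3 lc_g_Cert_tree) (@D3.rec (fun _ => (Cert rels S Gen.g)) lc_g_Cert_tree lc_g_rc_21_2 lc_g_Cert_tree lc_g_rc_26_9 lc_g_Cert_tree lc_g_rc_27_0 lc_g_rc_27_6 lc_g_rc_27_9 lc_g_rc_27_6 lc_g_rc_21_3 lc_g_Cert_tree lc_g_rc_26_3 lc_g_rc_21_2 lc_g_Cert_tree lc_g_rc_26_0 lc_g_Cert_tree lc_g_rc_23_3 lc_g_Cert_tree lc_g_Cert_tree lc_g_Cert_tree lc_g_Cert_tree lc_g_rc_27_6 lc_g_Cert_tree lc_g_rc_24_9 lc_g_rc_21_2 lc_g_rc_27_0 lc_g_Cert_tree lc_g_rc_24_1 lc_g_rc_21_2 lc_g_rc_27_3 lc_g_rc_21_2 lc_g_rc_23_9 lc_g_rc_27_6 lc_g_rc_21_3 lc_g_Cert_tree lc_g_Cert_tree lc_g_rc_21_2 lc_g_rc_21_2 lc_g_Cert_tree lc_g_rc_26_6 lc_g_rc_27_9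 lc_g_rc_26_3 lc_g_rc_27_3 lc_g_Cert_tree lc_g_Cert_tree lc_g_rc_27_6 lc_g_rc_27_6 lc_g_rc_23_7 lc_g_rc_21_3 lc_g_rc_21_2 lc_g_Cert_tree lc_g_rc_26_0 lc_g_rc_21_3 lc_g_Cert_tree lc_g_rc_27_3 lc_g_Cert_tree lc_g_Cert_tree lc_g_rc_27_3 lc_g_rc_23_9 lc_g_rc_27_9 lc_g_rc_23_1 lc_g_rc_27_0) (@D3.rec (fun _ => (Cert rels S Gen.g)) lc_g_rc_21_3 lc_g_Cert_tree lc_g_rc_26_6 lc_g_rc_23_9 lc_g_rc_27_0 lc_g_Cert_tree lc_g_Cert_tree lc_g_rc_21_3 lc_g_rc_21_3 lc_g_rc_23_9 lc_g_Cert_tree lc_g_rc_21_2 lc_g_Cert_tree lc_g_rc_21_3 lc_g_rc_23_3 lc_g_Cert_tree lc_g_rc_26_9 lc_g_Cert_tree lc_g_rc_27_0 lc_g_Cert_tree lc_g_rc_21_3 lc_g_Cert_tree lc_g_rc_23_7 lc_g_rc_26_6 lc_g_rc_23_1 lc_g_rc_27_6 lc_g_Cert_tree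 lc_g_Cert_tree lc_g_rc_23_7 lc_g_Cert_tree lc_g_rc_21_3 lc_g_Cert_tree lc_g_rc_21_2 lc_g_Cert_tree lc_g_rc_21_2 lc_g_Cert_tree lc_g_rc_21_3 lc_g_rc_21_2 lc_g_Cert_tree lc_g_rc_25_19 lc_g_rc_24_3 lc_g_Cert_tree lc_g_rc_27_0 lc_g_Cert_tree lc_g_rc_26_3 lc_g_rc_27_3 lc_g_Cert_tree lc_g_rc_23_1 lc_g_Cert_tree lc_g_rc_27_9 lc_g_Cert_tree lc_g_rc_21_2 lc_g_Cert_tree lc_g_rc_23_7 lc_g_rc_27_6 lc_g_Cert_tree lc_g_rc_23_7 lc_g_rc_27_6 lc_g_rc_21_3 lc_g_Cert_tree lc_g_rc_21_2 lc_g_Cert_tree) (@D3.rec (fun _ => (Cert rels S Gen.g)) lc_g_rc_23_3 lc_g_rc_23_7 lc_g_Cert_tree lc_g_rc_23_9 lc_g_rc_26_9 lc_g_rc_27_9 lc_g_rc_26_6 lc_g_rc_21_2 lc_g_Cert_tree lc_g_rc_23_1 lc_g_rc_27_3 lc_g_Cert_tree lc_g_rc_26_3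 lc_g_rc_27_6 lc_g_rc_26_0 lc_g_rc_26_9 lc_g_rc_21_3 lc_g_rc_21_2 lc_g_rc_23_3 lc_g_Cert_tree lc_g_rc_26_6 lc_g_Cert_tree lc_g_Cert_tree lc_g_rc_21_3 lc_g_rc_21_3 lc_g_rc_27_9 lc_g_rc_21_2 lc_g_Cert_tree lc_g_rc_27_0 lc_g_rc_21_3 lc_g_rc_23_1 lc_g_rc_24_3 lc_g_rc_24_7 lc_g_Cert_tree lc_g_Cert_tree lc_g_rc_21_2 lc_g_rc_21_2 lc_g_Cert_tree lc_g_rc_21_3 lc_g_Cert_tree lc_g_rc_27_3 lc_g_rc_23_7 lc_g_rc_26_0 lc_g_rc_26_6 lc_g_rc_23_3 lc_g_rc_24_3 lc_g_Cert_tree lc_g_rc_27_6 lc_g_rc_24_1 lc_g_rc_21_2 lc_g_rc_26_9 lc_g_Cert_tree lc_g_rc_23_1 lc_g_rc_21_2 lc_g_rc_21_2 lc_g_rc_24_7 lc_g_rc_21_3 lc_g_Cert_tree lc_g_Cert_tree lc_g_Cert_tree lc_g_rc_21_2 lc_g_Cert_tree) (@D3.rec (fun _ => (Cert rels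 S Gen.g)) lc_g_Cert_tree lc_g_rc_26_0 lc_g_rc_21_3 lc_g_rc_25_15 lc_g_Cert_tree lc_g_rc_26_6 lc_g_Cert_tree lc_g_Cert_tree lc_g_rc_21_3 lc_g_rc_21_3 lc_g_rc_21_3 lc_g_rc_21_3 lc_g_Cert_tree lc_g_rc_21_2 lc_g_rc_21_3 lc_g_rc_21_3 lc_g_rc_23_1 lc_g_rc_21_3 lc_g_rc_23_1 lc_g_rc_26_6 lc_g_rc_21_2 lc_g_Cert_tree lc_g_rc_27_0 lc_g_rc_27_6 lc_g_rc_26_3 lc_g_rc_21_3 lc_g_Cert_tree lc_g_rc_21_2 lc_g_rc_27_0 lc_g_rc_21_2 lc_g_rc_26_0 lc_g_Cert_tree lc_g_rc_21_2 lc_g_rc_26_6 lc_g_rc_24_3 lc_g_Cert_tree lc_g_Cert_tree lc_g_rc_21_2 lc_g_rc_27_3 lc_g_rc_21_2 lc_g_rc_27_3 lc_g_rc_21_3 lc_g_rc_23_3 lc_g_rc_27_3 lc_g_rc_21_2 lc_g_Cert_tree lc_g_rc_24_7 lc_g_rc_27_3 lc_g_rc_21_3 lc_g_Cert_tree lc_g_rc_26_3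 lc_g_rc_23_9 lc_g_Cert_tree lc_g_rc_21_2 lc_g_Cert_tree lc_g_rc_21_2 lc_g_Cert_tree lc_g_rc_27_6 lc_g_rc_26_3 lc_g_rc_27_0 lc_g_rc_21_3 lc_g_Cert_tree) (@D3.rec (fun _ => (Cert rels S Gen.g)) lc_g_rc_21_2 lc_g_rc_21_3 lc_g_rc_26_3 lc_g_rc_21_2 lc_g_rc_21_2 lc_g_rc_21_2 lc_g_rc_26_6 lc_g_rc_23_7 lc_g_rc_21_3 lc_g_Cert_tree lc_g_Cert_tree lc_g_rc_27_6 lc_g_Cert_tree lc_g_rc_27_9 lc_g_rc_21_2 lc_g_rc_21_3 lc_g_rc_21_3 lc_g_Cert_tree lc_g_Cert_tree lc_g_rc_21_3 lc_g_rc_27_6 lc_g_rc_26_3 lc_g_rc_27_6 lc_g_rc_27_0 lc_g_rc_23_7 lc_g_Cert_tree lc_g_rc_21_3 lc_g_Cert_tree lc_g_rc_21_2 lc_g_rc_21_2 lc_g_Cert_tree lc_g_rc_27_3 lc_g_rc_24_3 lc_g_Cert_tree lc_g_rc_24_7 lc_g_rc_24_3 lc_g_rc_27_6 lc_g_rc_23_3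 lc_g_Cert_tree lc_g_rc_21_3 lc_g_Cert_tree lc_g_rc_21_2 lc_g_Cert_tree lc_g_rc_25_15 lc_g_rc_23_9 lc_g_rc_25_7 lc_g_rc_27_3 lc_g_rc_23_1 lc_g_rc_26_9 lc_g_Cert_tree lc_g_rc_21_2 lc_g_rc_21_2 lc_g_rc_21_2 lc_g_Cert_tree lc_g_rc_21_3 lc_g_Cert_tree lc_g_rc_21_2 lc_g_rc_24_1 lc_g_Cert_tree lc_g_rc_24_9 lc_g_Cert_tree lc_g_rc_27_0) (@D3.rec (fun _ => (Cert rels S Gen.g)) lc_g_rc_21_3 lc_g_rc_23_9 lc_g_rc_21_2 lc_g_rc_21_3 lc_g_rc_21_3 lc_g_Cert_tree lc_g_rc_21_3 lc_g_Cert_tree lc_g_rc_26_0 lc_g_Cert_tree lc_g_Cert_tree lc_g_rc_23_3 lc_g_rc_26_0 lc_g_rc_27_0 lc_g_rc_21_2 lc_g_rc_23_1 lc_g_Cert_tree lc_g_rc_27_0 lc_g_rc_27_9 lc_g_rc_21_3 lc_g_Cert_tree lc_g_rc_24_1 lc_g_Cert_tree lc_g_Cert_tree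 lc_g_rc_24_7 lc_g_rc_21_2 lc_g_rc_21_3 lc_g_Cert_tree lc_g_rc_24_3 lc_g_rc_26_9 lc_g_Cert_tree lc_g_Cert_tree lc_g_rc_23_3 lc_g_Cert_tree lc_g_rc_23_7 lc_g_rc_26_3 lc_g_rc_21_2 lc_g_rc_21_3 lc_g_Cert_tree lc_g_rc_25_3 lc_g_Cert_tree lc_g_rc_21_3 lc_g_Cert_tree lc_g_rc_26_0 lc_g_rc_21_2 lc_g_Cert_tree lc_g_rc_21_3 lc_g_Cert_tree lc_g_rc_21_2 lc_g_Cert_tree lc_g_rc_26_0 lc_g_rc_27_6 lc_g_Cert_tree lc_g_rc_21_2 lc_g_rc_21_2 lc_g_Cert_tree lc_g_rc_21_3 lc_g_Cert_tree lc_g_rc_21_2 lc_g_rc_26_0 lc_g_Cert_tree lc_g_rc_24_3) (@D3.rec (fun _ => (Cert rels S Gen.g)) lc_g_rc_21_2 lc_g_rc_26_6 lc_g_rc_23_7 lc_g_rc_27_6 lc_g_rc_27_6 lc_g_rc_21_2 lc_g_rc_21_3 lc_g_Cert_tree lc_g_rc_21_2 lc_g_Cert_tree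 lc_g_rc_21_3 lc_g_rc_27_6 lc_g_rc_24_3 lc_g_Cert_tree lc_g_Cert_tree lc_g_rc_24_3 lc_g_rc_25_11 lc_g_rc_26_3 lc_g_rc_27_9 lc_g_rc_21_2 lc_g_Cert_tree lc_g_Cert_tree lc_g_Cert_tree lc_g_rc_21_2 lc_g_Cert_tree lc_g_rc_24_3 lc_g_rc_21_2 lc_g_rc_23_7 lc_g_rc_24_3 lc_g_rc_21_2 lc_g_Cert_tree lc_g_Cert_tree lc_g_rc_25_3 lc_g_Cert_tree lc_g_rc_25_3 lc_g_rc_21_3 lc_g_Cert_tree lc_g_Cert_tree lc_g_rc_21_2 lc_g_Cert_tree lc_g_rc_21_3 lc_g_rc_27_6 lc_g_rc_27_9 lc_g_rc_26_6 lc_g_Cert_tree lc_g_rc_21_2 lc_g_rc_21_3 lc_g_rc_27_0 lc_g_Cert_tree lc_g_rc_21_2 lc_g_Cert_tree lc_g_rc_21_3 lc_g_rc_24_1 lc_g_Cert_tree lc_g_Cert_tree lc_g_rc_21_3 lc_g_Cert_tree lc_g_Cert_tree lc_g_rc_21_2 lc_g_Cert_tree lc_g_rc_24_3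 lc_g_rc_23_1) (@D3.rec (fun _ => (Cert rels S Gen.g)) lc_g_rc_21_3 lc_g_rc_21_3 lc_g_Cert_tree lc_g_rc_21_2 lc_g_Cert_tree lc_g_Cert_tree lc_g_rc_21_2 lc_g_Cert_tree lc_g_rc_26_3 lc_g_Cert_tree lc_g_rc_27_6 lc_g_rc_26_9 lc_g_rc_21_3 lc_g_Cert_tree lc_g_rc_21_2 lc_g_Cert_tree lc_g_rc_26_3 lc_g_Cert_tree lc_g_rc_21_3 lc_g_Cert_tree lc_g_rc_27_3 lc_g_rc_21_2 lc_g_rc_24_7 lc_g_rc_27_9 lc_g_rc_23_9 lc_g_rc_27_0 lc_g_rc_27_3 lc_g_Cert_tree lc_g_rc_21_2 lc_g_rc_21_3 lc_g_Cert_tree lc_g_rc_21_2 lc_g_rc_21_2 lc_g_Cert_tree lc_g_Cert_tree lc_g_rc_21_3 lc_g_Cert_tree lc_g_rc_21_2 lc_g_rc_21_2 lc_g_rc_24_9 lc_g_rc_27_0 lc_g_rc_24_7 lc_g_rc_21_3 lc_g_Cert_tree lc_g_rc_23_7 lc_g_Cert_tree lc_g_rc_23_1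 lc_g_Cert_tree lc_g_rc_27_3 lc_g_rc_21_2 lc_g_rc_21_3 lc_g_Cert_tree lc_g_rc_21_2 lc_g_Cert_tree lc_g_Cert_tree lc_g_rc_26_0 lc_g_Cert_tree lc_g_rc_24_3 lc_g_rc_21_2 lc_g_rc_21_2 lc_g_rc_26_6 lc_g_rc_26_3) (@D3.rec (fun _ => (Cert rels S Gen.g)) lc_g_rc_24_9 lc_g_rc_21_2 lc_g_rc_21_3 lc_g_rc_21_3 lc_g_rc_21_2 lc_g_rc_23_9 lc_g_rc_21_2 lc_g_rc_21_3 lc_g_Cert_tree lc_g_Cert_tree lc_g_rc_26_3 lc_g_rc_21_2 lc_g_Cert_tree lc_g_rc_26_6 lc_g_Cert_tree lc_g_rc_23_9 lc_g_Cert_tree lc_g_Cert_tree lc_g_rc_26_3 lc_g_rc_21_3 lc_g_Cert_tree lc_g_rc_21_2 lc_g_Cert_tree lc_g_rc_21_3 lc_g_Cert_tree lc_g_Cert_tree lc_g_rc_27_6 lc_g_rc_26_9 lc_g_rc_27_9 lc_g_rc_26_9 lc_g_rc_24_1 lc_g_Cert_tree lc_g_rc_27_6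 lc_g_Cert_tree lc_g_rc_21_3 lc_g_Cert_tree lc_g_rc_21_2 lc_g_rc_23_7 lc_g_Cert_tree lc_g_rc_21_3 lc_g_Cert_tree lc_g_rc_27_3 lc_g_rc_21_2 lc_g_rc_26_3 lc_g_rc_26_9 lc_g_rc_21_2 lc_g_rc_23_1 lc_g_rc_24_7 lc_g_Cert_tree lc_g_rc_21_2 lc_g_rc_26_9 lc_g_Cert_tree lc_g_rc_21_3 lc_g_Cert_tree lc_g_Cert_tree lc_g_Cert_tree lc_g_rc_27_6 lc_g_rc_21_3 lc_g_rc_27_9 lc_g_rc_21_2 lc_g_Cert_tree lc_g_Cert_tree) (@D3.rec (fun _ => (Cert rels S Gen.g)) lc_g_Cert_tree lc_g_Cert_tree lc_g_rc_21_2 lc_g_rc_25_15 lc_g_Cert_tree lc_g_rc_24_1 lc_g_Cert_tree lc_g_rc_27_6 lc_g_rc_26_3 lc_g_Cert_tree lc_g_rc_21_2 lc_g_rc_21_2 lc_g_rc_24_3 lc_g_Cert_tree lc_g_rc_24_7 lc_g_rc_27_0 lc_g_rc_27_6 lc_g_rc_21_2 lc_g_rc_27_3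 lc_g_rc_21_2 lc_g_Cert_tree lc_g_rc_21_2 lc_g_rc_21_2 lc_g_rc_23_3 lc_g_rc_21_2 lc_g_rc_23_3 lc_g_rc_21_3 lc_g_Cert_tree lc_g_rc_24_1 lc_g_rc_21_2 lc_g_rc_21_3 lc_g_rc_24_3 lc_g_rc_27_3 lc_g_rc_21_3 lc_g_rc_24_3 lc_g_rc_27_6 lc_g_rc_21_3 lc_g_rc_26_3 lc_g_rc_21_2 lc_g_rc_24_7 lc_g_rc_26_0 lc_g_rc_27_6 lc_g_rc_27_3 lc_g_Cert_tree lc_g_rc_27_3 lc_g_rc_27_3 lc_g_rc_25_11 lc_g_rc_21_3 lc_g_rc_21_3 lc_g_rc_24_3 lc_g_rc_26_3 lc_g_rc_27_0 lc_g_rc_26_3 lc_g_Cert_tree lc_g_Cert_tree lc_g_rc_26_3 lc_g_Cert_tree lc_g_rc_21_2 lc_g_rc_25_11 lc_g_rc_21_2 lc_g_Cert_tree lc_g_rc_24_3) (@D3.rec (fun _ => (Cert rels S Gen.g)) lc_g_rc_24_3 lc_g_rc_27_6 lc_g_rc_24_7 lc_g_rc_21_3 lc_g_rc_24_7 lc_g_rc_21_2 lc_g_rc_24_7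 lc_g_rc_23_3 lc_g_rc_21_3 lc_g_rc_24_7 lc_g_rc_26_9 lc_g_rc_21_2 lc_g_rc_21_2 lc_g_rc_21_3 lc_g_Cert_tree lc_g_rc_26_6 lc_g_rc_21_2 lc_g_rc_24_1 lc_g_rc_27_0 lc_g_rc_26_6 lc_g_rc_21_3 lc_g_rc_21_3 lc_g_Cert_tree lc_g_Cert_tree lc_g_rc_21_2 lc_g_rc_23_9 lc_g_Cert_tree lc_g_Cert_tree lc_g_rc_26_6 lc_g_rc_24_9 lc_g_rc_21_2 lc_g_rc_21_3 lc_g_rc_21_2 lc_g_rc_21_2 lc_g_rc_26_0 lc_g_rc_26_9 lc_g_rc_26_9 lc_g_rc_21_3 lc_g_Cert_tree lc_g_Cert_tree lc_g_rc_24_3 lc_g_Cert_tree lc_g_rc_21_3 lc_g_Cert_tree lc_g_Cert_tree lc_g_rc_21_3 lc_g_rc_26_0 lc_g_rc_27_0 lc_g_Cert_tree lc_g_rc_26_9 lc_g_Cert_tree lc_g_rc_21_3 lc_g_Cert_tree lc_g_rc_21_2 lc_g_rc_21_2 lc_g_Cert_tree lc_g_Cert_tree lc_g_rc_21_3 lc_g_Cert_tree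 lc_g_rc_21_2 lc_g_rc_21_2 lc_g_rc_23_1) (@D3.rec (fun _ => (Cert rels S Gen.g)) lc_g_rc_23_1 lc_g_rc_27_0 lc_g_rc_24_7 lc_g_rc_27_0 lc_g_rc_24_7 lc_g_rc_27_0 lc_g_rc_24_9 lc_g_rc_23_9 lc_g_rc_26_3 lc_g_Cert_tree lc_g_rc_24_1 lc_g_rc_26_3 lc_g_rc_27_0 lc_g_rc_21_3 lc_g_Cert_tree lc_g_Cert_tree lc_g_Cert_tree lc_g_Cert_tree lc_g_rc_21_3 lc_g_rc_21_3 lc_g_Cert_tree lc_g_rc_21_2 lc_g_rc_26_3 lc_g_rc_21_3 lc_g_rc_27_6 lc_g_rc_27_6 lc_g_rc_27_6 lc_g_rc_27_6 lc_g_rc_21_3 lc_g_rc_27_0 lc_g_rc_26_3 lc_g_rc_21_3 lc_g_rc_21_3 lc_g_Cert_tree lc_g_rc_24_1 lc_g_rc_21_2 lc_g_rc_21_2 lc_g_rc_21_3 lc_g_rc_27_6 lc_g_rc_27_3 lc_g_Cert_tree lc_g_Cert_tree lc_g_Cert_tree lc_g_rc_27_6 lc_g_rc_23_3 lc_g_rc_21_3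 lc_g_rc_26_3 lc_g_rc_27_6 lc_g_rc_21_2 lc_g_rc_21_3 lc_g_rc_23_3 lc_g_rc_21_3 lc_g_Cert_tree lc_g_Cert_tree lc_g_rc_21_2 lc_g_Cert_tree lc_g_rc_27_6 lc_g_rc_27_6 lc_g_rc_27_0 lc_g_rc_27_6 lc_g_Cert_tree lc_g_rc_21_3) (@D3.rec (fun _ => (Cert rels S Gen.g)) lc_g_Cert_tree lc_g_rc_27_6 lc_g_rc_21_2 lc_g_rc_26_6 lc_g_rc_21_2 lc_g_rc_21_3 lc_g_rc_21_3 lc_g_Cert_tree lc_g_rc_21_3 lc_g_Cert_tree lc_g_rc_21_2 lc_g_rc_21_3 lc_g_rc_27_6 lc_g_Cert_tree lc_g_rc_27_3 lc_g_rc_21_3 lc_g_rc_21_2 lc_g_rc_21_3 lc_g_rc_21_2 lc_g_rc_21_3 lc_g_Cert_tree lc_g_rc_21_3 lc_g_rc_27_6 lc_g_rc_23_1 lc_g_rc_21_2 lc_g_Cert_tree lc_g_rc_27_0 lc_g_rc_21_3 lc_g_rc_21_2 lc_g_rc_26_9 lc_g_rc_26_0 lc_g_rc_24_3 lc_g_rc_21_2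 lc_g_rc_27_3 lc_g_rc_27_0 lc_g_Cert_tree lc_g_rc_24_7 lc_g_rc_21_3 lc_g_rc_21_3 lc_g_rc_21_3 lc_g_rc_27_6 lc_g_rc_21_2 lc_g_rc_26_3 lc_g_Cert_tree lc_g_Cert_tree lc_g_Cert_tree lc_g_rc_21_3 lc_g_Cert_tree lc_g_Cert_tree lc_g_rc_21_2 lc_g_rc_27_0 lc_g_rc_27_0 lc_g_rc_21_3 lc_g_rc_23_3 lc_g_rc_26_3 lc_g_Cert_tree lc_g_Cert_tree lc_g_rc_23_7 lc_g_rc_26_3 lc_g_rc_21_3 lc_g_rc_27_9 lc_g_Cert_tree) (@D3.rec (fun _ => (Cert rels S Gen.g)) lc_g_rc_21_3 lc_g_rc_21_3 lc_g_rc_27_3 lc_g_rc_27_6 lc_g_rc_21_2 lc_g_rc_21_3 lc_g_Cert_tree lc_g_rc_24_3 lc_g_Cert_tree lc_g_rc_27_6 lc_g_rc_21_3 lc_g_Cert_tree lc_g_rc_27_6 lc_g_rc_27_6 lc_g_rc_27_0 lc_g_Cert_tree lc_g_rc_27_3 lc_g_rc_27_0 lc_g_rc_23_1 lc_g_rc_21_3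 lc_g_rc_21_2 lc_g_rc_21_3 lc_g_Cert_tree lc_g_rc_21_2 lc_g_rc_24_9 lc_g_rc_27_6 lc_g_rc_21_3 lc_g_Cert_tree lc_g_rc_21_2 lc_g_rc_27_9 lc_g_rc_21_3 lc_g_rc_26_6 lc_g_rc_21_2 lc_g_rc_23_9 lc_g_rc_21_3 lc_g_Cert_tree lc_g_rc_24_7 lc_g_rc_21_2 lc_g_Cert_tree lc_g_rc_21_2 lc_g_Cert_tree lc_g_rc_23_3 lc_g_Cert_tree lc_g_rc_23_3 lc_g_rc_21_3 lc_g_rc_21_2 lc_g_rc_21_2 lc_g_rc_24_7 lc_g_rc_27_6 lc_g_Cert_tree lc_g_rc_26_3 lc_g_rc_23_1 lc_g_rc_21_2 lc_g_Cert_tree lc_g_rc_26_9 lc_g_Cert_tree lc_g_rc_21_3 lc_g_Cert_tree lc_g_Cert_tree lc_g_rc_26_0 lc_g_rc_26_9 lc_g_Cert_tree)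
def ce_g_12 : D2 → D3 → (Cert rels S Gen.g) := @D2.rec (fun _ => D3 → (Cert rels S Gen.g)) (@D3.rec (fun _ => (Cert rels S Gen.g)) lc_g_rc_26_0 lc_g_rc_21_3 lc_g_rc_27_6 lc_g_rc_21_3 lc_g_rc_21_2 lc_g_rc_21_2 lc_g_Cert_tree lc_g_rc_21_2 lc_g_Cert_tree lc_g_rc_21_2 lc_g_rc_26_3 lc_g_rc_21_2 lc_g_rc_21_2 lc_g_rc_23_3 lc_g_rc_23_7 lc_g_Cert_tree lc_g_rc_21_3 lc_g_rc_21_3 lc_g_Cert_tree lc_g_rc_23_1 lc_g_Cert_tree lc_g_rc_23_7 lc_g_rc_27_6 lc_g_rc_23_7 lc_g_rc_21_3 lc_g_Cert_tree lc_g_rc_21_2 lc_g_Cert_tree lc_g_rc_21_3 lc_g_rc_24_1 lc_g_Cert_tree lc_g_Cert_tree lc_g_rc_25_15 lc_g_Cert_tree lc_g_Cert_tree lc_g_rc_27_6 lc_g_rc_21_3 lc_g_Cert_tree lc_g_Cert_tree lc_g_Cert_tree lc_g_rc_23_3 lc_g_rc_21_2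 lc_g_rc_27_3 lc_g_rc_27_6 lc_g_Cert_tree lc_g_rc_24_3 lc_g_rc_26_3 lc_g_Cert_tree lc_g_rc_23_7 lc_g_Cert_tree lc_g_Cert_tree lc_g_rc_23_7 lc_g_rc_26_6 lc_g_Cert_tree lc_g_rc_21_3 lc_g_Cert_tree lc_g_rc_26_6 lc_g_rc_23_3 lc_g_Cert_tree lc_g_Cert_tree lc_g_Cert_tree lc_g_rc_21_3) (@D3.rec (fun _ => (Cert rels S Gen.g)) lc_g_Cert_tree lc_g_rc_21_3 lc_g_Cert_tree lc_g_rc_27_0 lc_g_Cert_tree lc_g_rc_21_3 lc_g_Cert_tree lc_g_Cert_tree lc_g_rc_21_3 lc_g_rc_26_9 lc_g_rc_25_19 lc_g_rc_21_3 lc_g_rc_21_3 lc_g_rc_21_3 lc_g_rc_21_2 lc_g_rc_26_0 lc_g_rc_26_9 lc_g_rc_24_3 lc_g_rc_21_2 lc_g_Cert_tree lc_g_rc_21_2 lc_g_rc_26_0 lc_g_rc_26_0 lc_g_rc_24_9 lc_g_Cert_tree lc_g_Cert_tree lc_g_rc_21_2 lc_g_rc_23_7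 lc_g_rc_26_9 lc_g_rc_21_3 lc_g_Cert_tree lc_g_Cert_tree lc_g_rc_21_3 lc_g_Cert_tree lc_g_rc_21_2 lc_g_rc_26_0 lc_g_rc_25_11 lc_g_rc_21_2 lc_g_rc_21_2 lc_g_rc_21_3 lc_g_Cert_tree lc_g_Cert_tree lc_g_rc_21_2 lc_g_rc_23_3 lc_g_rc_21_2 lc_g_rc_24_7 lc_g_Cert_tree lc_g_Cert_tree lc_g_rc_21_2 lc_g_rc_26_0 lc_g_rc_27_3 lc_g_rc_23_1 lc_g_rc_26_6 lc_g_rc_24_9 lc_g_rc_26_6 lc_g_rc_26_0 lc_g_rc_21_2 lc_g_Cert_tree lc_g_rc_21_3 lc_g_Cert_tree lc_g_Cert_tree lc_g_rc_21_2) (@D3.rec (fun _ => (Cert rels S Gen.g)) lc_g_Cert_tree lc_g_rc_21_3 lc_g_Cert_tree lc_g_rc_21_3 lc_g_Cert_tree lc_g_Cert_tree lc_g_rc_21_2 lc_g_Cert_tree lc_g_rc_24_9 lc_g_rc_24_9 lc_g_rc_23_3 lc_g_Cert_tree lc_g_rc_27_3 lc_g_rc_26_6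 lc_g_rc_21_3 lc_g_rc_24_9 lc_g_rc_21_2 lc_g_rc_21_2 lc_g_rc_21_3 lc_g_Cert_tree lc_g_rc_24_1 lc_g_rc_21_2 lc_g_rc_24_9 lc_g_rc_21_3 lc_g_rc_26_6 lc_g_rc_24_9 lc_g_Cert_tree lc_g_Cert_tree lc_g_rc_27_3 lc_g_rc_24_1 lc_g_Cert_tree lc_g_Cert_tree lc_g_rc_23_3 lc_g_Cert_tree lc_g_rc_26_6 lc_g_Cert_tree lc_g_rc_23_9 lc_g_Cert_tree lc_g_rc_27_3 lc_g_rc_21_2 lc_g_rc_21_2 lc_g_rc_21_3 lc_g_Cert_tree lc_g_rc_21_2 lc_g_rc_23_3 lc_g_rc_27_3 lc_g_rc_21_3 lc_g_rc_23_3 lc_g_rc_26_3 lc_g_rc_24_3 lc_g_rc_26_9 lc_g_rc_23_7 lc_g_rc_21_3 lc_g_rc_26_0 lc_g_rc_27_3 lc_g_rc_24_1 lc_g_Cert_tree lc_g_rc_26_9 lc_g_rc_23_3 lc_g_Cert_tree lc_g_rc_24_9 lc_g_Cert_tree) (@D3.rec (fun _ => (Cert rels S Gen.g)) lc_g_rc_24_7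 lc_g_rc_21_2 lc_g_rc_24_9 lc_g_rc_21_3 lc_g_rc_23_1 lc_g_Cert_tree lc_g_rc_21_3 lc_g_rc_21_3 lc_g_rc_24_3 lc_g_rc_23_7 lc_g_rc_24_3 lc_g_rc_23_3 lc_g_rc_26_3 lc_g_rc_23_7 lc_g_rc_23_9 lc_g_rc_23_9 lc_g_rc_21_3 lc_g_rc_21_3 lc_g_Cert_tree lc_g_Cert_tree lc_g_Cert_tree lc_g_Cert_tree lc_g_rc_21_2 lc_g_rc_21_2 lc_g_rc_26_6 lc_g_rc_26_3 lc_g_rc_21_3 lc_g_Cert_tree lc_g_rc_21_2 lc_g_Cert_tree lc_g_rc_23_1 lc_g_rc_27_9 lc_g_rc_21_3 lc_g_rc_27_0 lc_g_Cert_tree lc_g_Cert_tree lc_g_rc_21_2 lc_g_rc_27_0 lc_g_rc_27_6 lc_g_rc_26_9 lc_g_rc_27_6 lc_g_rc_23_1 lc_g_rc_21_3 lc_g_Cert_tree lc_g_Cert_tree lc_g_rc_21_2 lc_g_rc_21_2 lc_g_Cert_tree lc_g_rc_21_3 lc_g_Cert_tree lc_g_rc_23_1 lc_g_rc_23_1 lc_g_rc_23_1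 lc_g_Cert_tree lc_g_rc_26_6 lc_g_rc_24_7 lc_g_rc_27_3 lc_g_rc_26_6 lc_g_rc_21_2 lc_g_rc_24_3 lc_g_rc_27_6 lc_g_rc_26_6) (@D3.rec (fun _ => (Cert rels S Gen.g)) lc_g_rc_21_3 lc_g_Cert_tree lc_g_rc_26_3 lc_g_rc_27_6 lc_g_rc_21_3 lc_g_Cert_tree lc_g_rc_21_2 lc_g_Cert_tree lc_g_rc_21_3 lc_g_rc_27_6 lc_g_rc_21_3 lc_g_Cert_tree lc_g_rc_21_2 lc_g_rc_21_2 lc_g_Cert_tree lc_g_rc_21_2 lc_g_rc_27_0 lc_g_Cert_tree lc_g_rc_27_3 lc_g_rc_26_3 lc_g_Cert_tree lc_g_rc_21_3 lc_g_Cert_tree lc_g_rc_21_3 lc_g_rc_21_2 lc_g_rc_23_1 lc_g_Cert_tree lc_g_rc_21_2 lc_g_rc_23_7 lc_g_rc_26_3 lc_g_rc_27_3 lc_g_Cert_tree lc_g_rc_21_2 lc_g_rc_21_2 lc_g_Cert_tree lc_g_rc_27_9 lc_g_rc_27_6 lc_g_rc_21_3 lc_g_rc_21_2 lc_g_rc_27_3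 lc_g_rc_26_6 lc_g_rc_21_2 lc_g_Cert_tree lc_g_rc_21_2 lc_g_rc_21_2 lc_g_rc_21_3 lc_g_rc_24_3 lc_g_rc_21_3 lc_g_Cert_tree lc_g_rc_21_3 lc_g_rc_27_3 lc_g_rc_23_3 lc_g_rc_21_3 lc_g_rc_25_3 lc_g_rc_21_3 lc_g_Cert_tree lc_g_rc_27_9 lc_g_rc_26_0 lc_g_rc_21_3 lc_g_rc_21_3 lc_g_Cert_tree lc_g_Cert_tree) (@D3.rec (fun _ => (Cert rels S Gen.g)) lc_g_rc_21_2 lc_g_rc_21_2 lc_g_rc_27_6 lc_g_rc_27_9 lc_g_Cert_tree lc_g_Cert_tree lc_g_Cert_tree lc_g_rc_24_1 lc_g_Cert_tree lc_g_rc_24_7 lc_g_Cert_tree lc_g_rc_27_9 lc_g_rc_24_7 lc_g_Cert_tree lc_g_rc_24_7 lc_g_Cert_tree lc_g_rc_21_3 lc_g_Cert_tree lc_g_Cert_tree lc_g_Cert_tree lc_g_rc_21_3 lc_g_rc_26_6 lc_g_rc_21_2 lc_g_rc_24_9 lc_g_Cert_tree lc_g_Cert_tree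 lc_g_rc_26_9 lc_g_rc_21_3 lc_g_Cert_tree lc_g_rc_26_9 lc_g_rc_21_2 lc_g_rc_23_3 lc_g_rc_26_9 lc_g_Cert_tree lc_g_rc_24_1 lc_g_rc_21_2 lc_g_rc_26_3 lc_g_Cert_tree lc_g_rc_26_9 lc_g_rc_21_3 lc_g_rc_24_7 lc_g_rc_23_3 lc_g_Cert_tree lc_g_Cert_tree lc_g_rc_21_3 lc_g_rc_21_2 lc_g_rc_27_0 lc_g_rc_21_3 lc_g_Cert_tree lc_g_rc_21_2 lc_g_rc_27_6 lc_g_rc_23_3 lc_g_rc_21_3 lc_g_Cert_tree lc_g_rc_21_2 lc_g_Cert_tree lc_g_rc_21_2 lc_g_rc_26_6 lc_g_rc_21_2 lc_g_rc_21_3 lc_g_rc_21_3 lc_g_Cert_tree) (@D3.rec (fun _ => (Cert rels S Gen.g)) lc_g_rc_21_2 lc_g_rc_21_2 lc_g_Cert_tree lc_g_rc_27_9 lc_g_Cert_tree lc_g_Cert_tree lc_g_rc_24_9 lc_g_rc_24_9 lc_g_Cert_tree lc_g_rc_24_1 lc_g_rc_24_9 lc_g_rc_27_3 lc_g_rc_21_3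 lc_g_rc_26_0 lc_g_rc_24_3 lc_g_rc_27_3 lc_g_rc_21_2 lc_g_rc_21_3 lc_g_rc_24_7 lc_g_rc_21_3 lc_g_rc_21_3 lc_g_rc_21_3 lc_g_rc_21_3 lc_g_rc_24_1 lc_g_rc_21_3 lc_g_Cert_tree lc_g_rc_21_3 lc_g_Cert_tree lc_g_Cert_tree lc_g_rc_24_1 lc_g_rc_26_6 lc_g_rc_23_3 lc_g_rc_23_1 lc_g_Cert_tree lc_g_rc_24_3 lc_g_rc_24_1 lc_g_Cert_tree lc_g_rc_21_2 lc_g_rc_26_6 lc_g_rc_21_3 lc_g_Cert_tree lc_g_rc_21_2 lc_g_rc_24_9 lc_g_rc_26_6 lc_g_rc_26_0 lc_g_rc_24_1 lc_g_rc_27_6 lc_g_rc_24_7 lc_g_Cert_tree lc_g_Cert_tree lc_g_rc_21_3 lc_g_Cert_tree lc_g_rc_21_2 lc_g_rc_21_3 lc_g_rc_27_9 lc_g_rc_24_9 lc_g_rc_27_6 lc_g_rc_21_2 lc_g_rc_27_0 lc_g_rc_23_1 lc_g_Cert_tree lc_g_rc_21_2) (@D3.rec (fun _ => (Cert rels S Gen.g))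 lc_g_rc_21_3 lc_g_Cert_tree lc_g_rc_26_0 lc_g_rc_21_2 lc_g_rc_24_7 lc_g_rc_27_9 lc_g_rc_21_3 lc_g_rc_21_2 lc_g_rc_27_6 lc_g_rc_21_3 lc_g_Cert_tree lc_g_rc_21_3 lc_g_rc_21_2 lc_g_rc_21_3 lc_g_Cert_tree lc_g_Cert_tree lc_g_rc_26_6 lc_g_rc_21_2 lc_g_rc_27_9 lc_g_rc_27_0 lc_g_rc_24_3 lc_g_rc_21_2 lc_g_rc_24_7 lc_g_Cert_tree lc_g_rc_26_6 lc_g_rc_21_2 lc_g_rc_24_3 lc_g_rc_24_9 lc_g_Cert_tree lc_g_rc_21_3 lc_g_Cert_tree lc_g_rc_21_2 lc_g_rc_24_3 lc_g_rc_26_3 lc_g_rc_21_3 lc_g_Cert_tree lc_g_Cert_tree lc_g_rc_21_2 lc_g_Cert_tree lc_g_Cert_tree lc_g_rc_27_9 lc_g_rc_21_3 lc_g_rc_24_3 lc_g_rc_24_7 lc_g_rc_26_6 lc_g_Cert_tree lc_g_rc_26_3 lc_g_Cert_tree lc_g_rc_26_9 lc_g_rc_27_3 lc_g_rc_21_2 lc_g_rc_21_2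 lc_g_rc_21_3 lc_g_rc_21_3 lc_g_rc_26_6 lc_g_Cert_tree lc_g_rc_26_6 lc_g_rc_27_6 lc_g_Cert_tree lc_g_rc_27_3 lc_g_rc_27_0 lc_g_Cert_tree) (@D3.rec (fun _ => (Cert rels S Gen.g)) lc_g_rc_27_3 lc_g_rc_26_9 lc_g_Cert_tree lc_g_rc_24_1 lc_g_rc_24_9 lc_g_rc_21_3 lc_g_rc_27_0 lc_g_rc_27_0 lc_g_rc_26_9 lc_g_rc_27_9 lc_g_rc_24_1 lc_g_rc_27_6 lc_g_rc_21_3 lc_g_Cert_tree lc_g_rc_21_3 lc_g_Cert_tree lc_g_Cert_tree lc_g_rc_21_2 lc_g_rc_21_2 lc_g_rc_24_3 lc_g_rc_26_0 lc_g_Cert_tree lc_g_rc_27_3 lc_g_rc_21_3 lc_g_Cert_tree lc_g_rc_21_2 lc_g_rc_24_7 lc_g_rc_27_3 lc_g_rc_21_2 lc_g_rc_21_2 lc_g_rc_21_3 lc_g_Cert_tree lc_g_rc_21_3 lc_g_Cert_tree lc_g_rc_26_0 lc_g_Cert_tree lc_g_rc_27_3 lc_g_rc_27_6 lc_g_Cert_tree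 lc_g_Cert_tree lc_g_rc_21_2 lc_g_rc_24_3 lc_g_rc_23_1 lc_g_rc_26_0 lc_g_rc_26_0 lc_g_rc_21_2 lc_g_Cert_tree lc_g_rc_26_9 lc_g_Cert_tree lc_g_rc_27_6 lc_g_rc_21_3 lc_g_rc_24_9 lc_g_rc_24_9 lc_g_rc_24_7 lc_g_rc_26_3 lc_g_rc_27_6 lc_g_rc_27_3 lc_g_rc_21_3 lc_g_Cert_tree lc_g_Cert_tree lc_g_rc_21_3 lc_g_Cert_tree) (@D3.rec (fun _ => (Cert rels S Gen.g)) lc_g_rc_27_9 lc_g_rc_21_3 lc_g_Cert_tree lc_g_Cert_tree lc_g_rc_24_9 lc_g_rc_26_6 lc_g_rc_26_6 lc_g_rc_26_0 lc_g_rc_26_9 lc_g_rc_21_2 lc_g_rc_21_3 lc_g_Cert_tree lc_g_Cert_tree lc_g_rc_21_2 lc_g_rc_21_3 lc_g_Cert_tree lc_g_rc_21_3 lc_g_rc_21_2 lc_g_rc_26_9 lc_g_rc_27_9 lc_g_rc_21_3 lc_g_rc_21_3 lc_g_rc_26_9 lc_g_rc_21_2 lc_g_rc_21_3 lc_g_rc_24_3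 lc_g_rc_26_0 lc_g_rc_23_9 lc_g_rc_26_9 lc_g_rc_27_3 lc_g_rc_23_7 lc_g_rc_26_3 lc_g_Cert_tree lc_g_rc_26_6 lc_g_Cert_tree lc_g_rc_21_3 lc_g_Cert_tree lc_g_Cert_tree lc_g_rc_21_2 lc_g_rc_27_9 lc_g_rc_23_7 lc_g_rc_26_3 lc_g_rc_21_2 lc_g_rc_27_0 lc_g_rc_26_3 lc_g_Cert_tree lc_g_rc_21_2 lc_g_rc_24_1 lc_g_rc_26_9 lc_g_rc_27_0 lc_g_rc_27_6 lc_g_rc_24_1 lc_g_Cert_tree lc_g_Cert_tree lc_g_rc_26_0 lc_g_rc_23_9 lc_g_rc_27_6 lc_g_Cert_tree lc_g_rc_21_2 lc_g_rc_27_3 lc_g_rc_21_2 lc_g_rc_24_7) (@D3.rec (fun _ => (Cert rels S Gen.g)) lc_g_rc_27_6 lc_g_rc_24_3 lc_g_rc_24_7 lc_g_rc_27_3 lc_g_rc_27_6 lc_g_rc_26_3 lc_g_Cert_tree lc_g_rc_24_9 lc_g_rc_24_7 lc_g_rc_27_6 lc_g_rc_26_6 lc_g_rc_27_6 lc_g_Cert_tree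 lc_g_rc_27_6 lc_g_rc_27_3 lc_g_rc_24_7 lc_g_Cert_tree lc_g_rc_27_3 lc_g_rc_24_3 lc_g_rc_27_6 lc_g_rc_26_3 lc_g_rc_24_3 lc_g_rc_27_6 lc_g_rc_21_3 lc_g_Cert_tree lc_g_rc_26_0 lc_g_rc_21_3 lc_g_rc_21_3 lc_g_Cert_tree lc_g_Cert_tree lc_g_rc_21_3 lc_g_Cert_tree lc_g_rc_23_3 lc_g_rc_21_2 lc_g_rc_24_7 lc_g_rc_21_3 lc_g_Cert_tree lc_g_rc_21_2 lc_g_rc_21_2 lc_g_rc_23_9 lc_g_rc_23_1 lc_g_rc_24_3 lc_g_rc_27_6 lc_g_rc_26_6 lc_g_rc_21_3 lc_g_rc_21_2 lc_g_Cert_tree lc_g_rc_27_6 lc_g_rc_27_0 lc_g_rc_21_3 lc_g_Cert_tree lc_g_rc_26_6 lc_g_rc_21_3 lc_g_rc_23_3 lc_g_rc_21_3 lc_g_rc_25_3 lc_g_rc_27_6 lc_g_rc_26_9 lc_g_rc_26_3 lc_g_rc_26_9 lc_g_rc_26_0 lc_g_rc_23_9) (@D3.rec (fun _ => (Cert rels S Gen.g)) lc_g_rc_26_3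 lc_g_Cert_tree lc_g_rc_21_3 lc_g_Cert_tree lc_g_rc_26_0 lc_g_rc_26_6 lc_g_rc_21_3 lc_g_Cert_tree lc_g_rc_23_3 lc_g_rc_21_3 lc_g_Cert_tree lc_g_rc_26_3 lc_g_rc_21_3 lc_g_Cert_tree lc_g_rc_27_3 lc_g_rc_21_2 lc_g_rc_26_9 lc_g_Cert_tree lc_g_Cert_tree lc_g_rc_21_3 lc_g_Cert_tree lc_g_rc_27_3 lc_g_rc_21_2 lc_g_rc_23_7 lc_g_rc_21_2 lc_g_rc_21_2 lc_g_rc_26_3 lc_g_rc_21_3 lc_g_Cert_tree lc_g_rc_21_3 lc_g_rc_21_2 lc_g_rc_26_3 lc_g_rc_21_2 lc_g_rc_21_3 lc_g_rc_27_3 lc_g_rc_26_9 lc_g_Cert_tree lc_g_rc_26_3 lc_g_rc_21_3 lc_g_Cert_tree lc_g_Cert_tree lc_g_Cert_tree lc_g_Cert_tree lc_g_rc_21_2 lc_g_rc_27_6 lc_g_Cert_tree lc_g_rc_23_1 lc_g_Cert_tree lc_g_rc_21_2 lc_g_Cert_tree lc_g_rc_23_7 lc_g_Cert_tree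 lc_g_Cert_tree lc_g_rc_21_2 lc_g_Cert_tree lc_g_rc_21_3 lc_g_Cert_tree lc_g_Cert_tree lc_g_rc_23_7 lc_g_rc_23_3 lc_g_rc_24_1 lc_g_rc_21_3) (@D3.rec (fun _ => (Cert rels S Gen.g)) lc_g_Cert_tree lc_g_rc_21_3 lc_g_rc_21_3 lc_g_Cert_tree lc_g_Cert_tree lc_g_rc_21_3 lc_g_rc_21_3 lc_g_rc_23_7 lc_g_Cert_tree lc_g_rc_27_9 lc_g_rc_23_7 lc_g_rc_21_3 lc_g_rc_24_1 lc_g_rc_21_3 lc_g_rc_26_9 lc_g_rc_24_1 lc_g_rc_21_2 lc_g_rc_23_1 lc_g_rc_27_3 lc_g_Cert_tree lc_g_Cert_tree lc_g_rc_24_7 lc_g_rc_24_3 lc_g_Cert_tree lc_g_rc_21_3 lc_g_rc_21_3 lc_g_rc_21_2 lc_g_rc_26_6 lc_g_rc_27_3 lc_g_Cert_tree lc_g_rc_26_9 lc_g_rc_21_3 lc_g_rc_26_3 lc_g_rc_23_7 lc_g_rc_21_3 lc_g_Cert_tree lc_g_rc_21_2 lc_g_rc_26_9 lc_g_rc_24_7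 lc_g_rc_23_1 lc_g_rc_26_3 lc_g_rc_27_3 lc_g_Cert_tree lc_g_rc_23_3 lc_g_rc_21_2 lc_g_rc_23_9 lc_g_rc_26_6 lc_g_Cert_tree lc_g_rc_24_3 lc_g_rc_24_9 lc_g_Cert_tree lc_g_rc_24_3 lc_g_Cert_tree lc_g_rc_21_2 lc_g_Cert_tree lc_g_rc_21_3 lc_g_Cert_tree lc_g_rc_27_3 lc_g_rc_26_6 lc_g_rc_26_6 lc_g_rc_23_3 lc_g_rc_23_9) (@D3.rec (fun _ => (Cert rels S Gen.g)) lc_g_Cert_tree lc_g_Cert_tree lc_g_rc_21_3 lc_g_rc_21_3 lc_g_rc_24_7 lc_g_rc_26_3 lc_g_rc_26_3 lc_g_rc_21_3 lc_g_rc_24_3 lc_g_rc_24_9 lc_g_Cert_tree lc_g_rc_23_7 lc_g_Cert_tree lc_g_rc_21_3 lc_g_rc_26_9 lc_g_rc_21_3 lc_g_rc_21_2 lc_g_rc_26_6 lc_g_rc_21_3 lc_g_rc_26_3 lc_g_Cert_tree lc_g_rc_23_3 lc_g_rc_24_1 lc_g_rc_21_3 lc_g_Cert_tree lc_g_rc_21_2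 lc_g_Cert_tree lc_g_rc_21_3 lc_g_Cert_tree lc_g_rc_21_2 lc_g_Cert_tree lc_g_rc_26_6 lc_g_Cert_tree lc_g_Cert_tree lc_g_Cert_tree lc_g_rc_27_9 lc_g_Cert_tree lc_g_rc_21_3 lc_g_rc_23_3 lc_g_rc_26_0 lc_g_rc_26_9 lc_g_rc_26_0 lc_g_rc_26_3 lc_g_rc_26_3 lc_g_rc_21_3 lc_g_Cert_tree lc_g_rc_21_3 lc_g_rc_21_2 lc_g_rc_21_3 lc_g_Cert_tree lc_g_Cert_tree lc_g_rc_24_1 lc_g_Cert_tree lc_g_rc_27_0 lc_g_rc_27_3 lc_g_rc_27_9 lc_g_rc_26_3 lc_g_rc_27_0 lc_g_rc_27_3 lc_g_rc_21_3 lc_g_rc_27_6 lc_g_rc_23_3) (@D3.rec (fun _ => (Cert rels S Gen.g)) lc_g_rc_21_2 lc_g_rc_26_0 lc_g_rc_26_6 lc_g_Cert_tree lc_g_rc_21_3 lc_g_Cert_tree lc_g_rc_27_3 lc_g_rc_23_9 lc_g_rc_21_2 lc_g_rc_21_3 lc_g_Cert_tree lc_g_rc_23_7 lc_g_rc_26_6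 lc_g_Cert_tree lc_g_rc_23_7 lc_g_rc_21_3 lc_g_rc_27_6 lc_g_rc_23_3 lc_g_rc_26_0 lc_g_rc_26_3 lc_g_rc_21_3 lc_g_rc_21_3 lc_g_Cert_tree lc_g_Cert_tree lc_g_rc_27_6 lc_g_rc_21_2 lc_g_Cert_tree lc_g_rc_21_3 lc_g_Cert_tree lc_g_rc_27_3 lc_g_rc_21_3 lc_g_rc_21_2 lc_g_Cert_tree lc_g_rc_23_3 lc_g_rc_26_3 lc_g_rc_24_1 lc_g_rc_21_3 lc_g_Cert_tree lc_g_rc_26_0 lc_g_rc_26_6 lc_g_rc_26_3 lc_g_rc_24_9 lc_g_rc_27_3 lc_g_rc_24_3 lc_g_rc_26_6 lc_g_rc_26_6 lc_g_Cert_tree lc_g_rc_26_6 lc_g_rc_21_3 lc_g_Cert_tree lc_g_rc_21_2 lc_g_rc_23_3 lc_g_Cert_tree lc_g_rc_21_3 lc_g_rc_21_3 lc_g_rc_26_3 lc_g_rc_21_3 lc_g_rc_23_1 lc_g_rc_24_7 lc_g_rc_21_2 lc_g_rc_21_2 lc_g_rc_23_9) (@D3.rec (fun _ => (Cert rels S Gen.g))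 lc_g_rc_21_3 lc_g_Cert_tree lc_g_rc_21_2 lc_g_rc_27_6 lc_g_Cert_tree lc_g_rc_26_6 lc_g_rc_26_0 lc_g_Cert_tree lc_g_rc_24_9 lc_g_rc_21_3 lc_g_rc_23_3 lc_g_rc_21_3 lc_g_rc_23_1 lc_g_Cert_tree lc_g_rc_23_3 lc_g_Cert_tree lc_g_rc_23_7 lc_g_rc_27_6 lc_g_rc_21_3 lc_g_rc_23_3 lc_g_rc_21_2 lc_g_rc_26_3 lc_g_rc_21_3 lc_g_rc_21_3 lc_g_rc_24_1 lc_g_rc_21_2 lc_g_rc_21_2 lc_g_rc_21_3 lc_g_rc_21_2 lc_g_Cert_tree lc_g_Cert_tree lc_g_Cert_tree lc_g_rc_23_9 lc_g_rc_26_3 lc_g_Cert_tree lc_g_rc_21_2 lc_g_rc_24_1 lc_g_rc_21_2 lc_g_rc_26_6 lc_g_rc_27_9 lc_g_rc_26_9 lc_g_Cert_tree lc_g_Cert_tree lc_g_rc_26_3 lc_g_Cert_tree lc_g_rc_21_3 lc_g_rc_26_3 lc_g_rc_23_7 lc_g_rc_21_3 lc_g_Cert_tree lc_g_rc_24_7 lc_g_Cert_tree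 lc_g_Cert_tree lc_g_rc_27_6 lc_g_rc_27_0 lc_g_Cert_tree lc_g_rc_24_3 lc_g_rc_23_9 lc_g_rc_24_9 lc_g_rc_26_3 lc_g_rc_21_3 lc_g_Cert_tree) (@D3.rec (fun _ => (Cert rels S Gen.g)) lc_g_Cert_tree lc_g_rc_23_7 lc_g_rc_21_3 lc_g_Cert_tree lc_g_Cert_tree lc_g_rc_26_9 lc_g_rc_25_3 lc_g_rc_23_3 lc_g_rc_21_3 lc_g_Cert_tree lc_g_Cert_tree lc_g_Cert_tree lc_g_Cert_tree lc_g_rc_24_1 lc_g_rc_21_3 lc_g_Cert_tree lc_g_rc_21_2 lc_g_Cert_tree lc_g_rc_21_3 lc_g_Cert_tree lc_g_Cert_tree lc_g_rc_21_2 lc_g_rc_23_9 lc_g_Cert_tree lc_g_Cert_tree lc_g_rc_26_6 lc_g_rc_21_2 lc_g_rc_24_9 lc_g_rc_23_1 lc_g_rc_27_6 lc_g_rc_23_3 lc_g_rc_24_7 lc_g_Cert_tree lc_g_rc_26_3 lc_g_rc_23_1 lc_g_Cert_tree lc_g_Cert_tree lc_g_rc_21_3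 lc_g_rc_21_2 lc_g_rc_21_2 lc_g_rc_27_3 lc_g_Cert_tree lc_g_rc_27_3 lc_g_rc_21_2 lc_g_rc_27_9 lc_g_rc_24_3 lc_g_rc_26_6 lc_g_rc_23_7 lc_g_rc_24_7 lc_g_rc_23_3 lc_g_rc_23_7 lc_g_Cert_tree lc_g_Cert_tree lc_g_Cert_tree lc_g_rc_24_3 lc_g_Cert_tree lc_g_rc_24_7 lc_g_rc_24_9 lc_g_rc_24_7 lc_g_rc_27_0 lc_g_Cert_tree lc_g_Cert_tree) (@D3.rec (fun _ => (Cert rels S Gen.g)) lc_g_rc_21_3 lc_g_rc_24_9 lc_g_rc_26_0 lc_g_rc_21_2 lc_g_rc_21_2 lc_g_Cert_tree lc_g_rc_27_6 lc_g_rc_27_6 lc_g_Cert_tree lc_g_Cert_tree lc_g_rc_23_3 lc_g_Cert_tree lc_g_rc_21_2 lc_g_Cert_tree lc_g_rc_21_2 lc_g_rc_21_3 lc_g_Cert_tree lc_g_rc_21_2 lc_g_rc_27_6 lc_g_Cert_tree lc_g_rc_23_3 lc_g_rc_21_2 lc_g_rc_23_7 lc_g_rc_24_3 lc_g_rc_21_2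 lc_g_rc_24_3 lc_g_rc_26_0 lc_g_rc_27_3 lc_g_rc_21_2 lc_g_rc_23_7 lc_g_Cert_tree lc_g_rc_21_3 lc_g_rc_24_7 lc_g_rc_21_2 lc_g_rc_26_9 lc_g_rc_27_9 lc_g_Cert_tree lc_g_rc_26_9 lc_g_rc_27_3 lc_g_rc_26_3 lc_g_rc_21_2 lc_g_rc_21_2 lc_g_rc_21_2 lc_g_rc_24_9 lc_g_rc_26_9 lc_g_rc_24_9 lc_g_rc_21_3 lc_g_Cert_tree lc_g_rc_27_9 lc_g_rc_21_3 lc_g_Cert_tree lc_g_rc_21_2 lc_g_Cert_tree lc_g_Cert_tree lc_g_Cert_tree lc_g_rc_26_3 lc_g_Cert_tree lc_g_rc_23_7 lc_g_rc_27_6 lc_g_rc_26_6 lc_g_rc_21_2 lc_g_Cert_tree) (@D3.rec (fun _ => (Cert rels S Gen.g)) lc_g_rc_27_3 lc_g_rc_21_3 lc_g_Cert_tree lc_g_rc_27_6 lc_g_rc_27_6 lc_g_rc_21_3 lc_g_rc_21_2 lc_g_rc_26_6 lc_g_Cert_tree lc_g_rc_21_3 lc_g_Cert_tree lc_g_Cert_tree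 lc_g_rc_27_6 lc_g_rc_24_7 lc_g_rc_25_19 lc_g_rc_23_9 lc_g_Cert_tree lc_g_Cert_tree lc_g_Cert_tree lc_g_rc_24_1 lc_g_rc_23_3 lc_g_rc_23_3 lc_g_Cert_tree lc_g_Cert_tree lc_g_Cert_tree lc_g_rc_27_0 lc_g_rc_26_3 lc_g_rc_27_9 lc_g_rc_23_3 lc_g_rc_21_3 lc_g_rc_21_3 lc_g_Cert_tree lc_g_Cert_tree lc_g_rc_24_9 lc_g_Cert_tree lc_g_rc_21_3 lc_g_rc_26_3 lc_g_Cert_tree lc_g_Cert_tree lc_g_rc_23_7 lc_g_Cert_tree lc_g_rc_23_1 lc_g_rc_21_3 lc_g_Cert_tree lc_g_rc_21_2 lc_g_rc_21_2 lc_g_rc_24_3 lc_g_Cert_tree lc_g_rc_24_1 lc_g_Cert_tree lc_g_rc_27_0 lc_g_rc_23_7 lc_g_rc_23_1 lc_g_rc_21_3 lc_g_rc_27_6 lc_g_rc_21_3 lc_g_Cert_tree lc_g_rc_26_6 lc_g_rc_21_3 lc_g_Cert_tree lc_g_rc_24_7 lc_g_Cert_tree) (@D3.rec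 (fun _ => (Cert rels S Gen.g)) lc_g_rc_26_6 lc_g_rc_26_6 lc_g_rc_21_3 lc_g_rc_21_2 lc_g_Cert_tree lc_g_rc_23_7 lc_g_rc_21_3 lc_g_Cert_tree lc_g_rc_23_7 lc_g_rc_27_3 lc_g_rc_21_3 lc_g_rc_26_3 lc_g_rc_21_3 lc_g_Cert_tree lc_g_rc_21_2 lc_g_Cert_tree lc_g_rc_27_6 lc_g_rc_24_1 lc_g_Cert_tree lc_g_Cert_tree lc_g_rc_21_3 lc_g_Cert_tree lc_g_rc_26_3 lc_g_rc_26_3 lc_g_rc_26_9 lc_g_Cert_tree lc_g_rc_27_6 lc_g_rc_21_2 lc_g_rc_24_1 lc_g_rc_26_9 lc_g_rc_27_0 lc_g_rc_21_3 lc_g_rc_26_9 lc_g_rc_21_3 lc_g_Cert_tree lc_g_rc_21_3 lc_g_Cert_tree lc_g_Cert_tree lc_g_rc_27_6 lc_g_rc_26_6 lc_g_rc_27_3 lc_g_rc_24_3 lc_g_rc_27_0 lc_g_rc_26_6 lc_g_rc_26_6 lc_g_Cert_tree lc_g_rc_21_3 lc_g_rc_21_2 lc_g_rc_21_2 lc_g_Cert_tree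 lc_g_rc_21_3 lc_g_Cert_tree lc_g_rc_21_2 lc_g_Cert_tree lc_g_rc_26_3 lc_g_rc_21_2 lc_g_rc_23_9 lc_g_Cert_tree lc_g_rc_23_7 lc_g_rc_21_2 lc_g_rc_26_3 lc_g_rc_27_0) (@D3.rec (fun _ => (Cert rels S Gen.g)) lc_g_rc_27_3 lc_g_rc_21_2 lc_g_rc_24_9 lc_g_rc_26_3 lc_g_Cert_tree lc_g_rc_21_3 lc_g_Cert_tree lc_g_Cert_tree lc_g_rc_21_2 lc_g_rc_27_6 lc_g_rc_23_1 lc_g_Cert_tree lc_g_rc_21_2 lc_g_rc_26_3 lc_g_rc_24_9 lc_g_Cert_tree lc_g_rc_21_3 lc_g_rc_25_3 lc_g_rc_27_9 lc_g_rc_27_0 lc_g_rc_26_9 lc_g_rc_21_3 lc_g_rc_21_3 lc_g_rc_21_2 lc_g_rc_26_9 lc_g_rc_23_9 lc_g_rc_26_0 lc_g_rc_24_7 lc_g_rc_21_3 lc_g_rc_25_11 lc_g_rc_27_0 lc_g_rc_21_2 lc_g_rc_27_0 lc_g_Cert_tree lc_g_rc_27_3 lc_g_rc_21_2 lc_g_rc_21_2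 lc_g_rc_21_3 lc_g_Cert_tree lc_g_rc_27_6 lc_g_rc_21_2 lc_g_rc_24_1 lc_g_rc_23_3 lc_g_Cert_tree lc_g_rc_26_0 lc_g_rc_21_3 lc_g_Cert_tree lc_g_rc_21_2 lc_g_Cert_tree lc_g_rc_27_6 lc_g_rc_26_6 lc_g_rc_27_6 lc_g_rc_27_9 lc_g_Cert_tree lc_g_rc_25_7 lc_g_rc_21_3 lc_g_rc_23_3 lc_g_Cert_tree lc_g_rc_21_3 lc_g_Cert_tree lc_g_rc_21_3 lc_g_Cert_tree) (@D3.rec (fun _ => (Cert rels S Gen.g)) lc_g_rc_21_3 lc_g_Cert_tree lc_g_rc_21_2 lc_g_rc_27_3 lc_g_Cert_tree lc_g_rc_24_3 lc_g_Cert_tree lc_g_rc_23_1 lc_g_rc_21_2 lc_g_Cert_tree lc_g_rc_27_6 lc_g_rc_21_3 lc_g_rc_21_2 lc_g_rc_26_3 lc_g_rc_27_6 lc_g_rc_21_3 lc_g_Cert_tree lc_g_rc_26_3 lc_g_rc_23_1 lc_g_Cert_tree lc_g_rc_26_9 lc_g_Cert_tree lc_g_rc_21_2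 lc_g_Cert_tree lc_g_rc_21_3 lc_g_rc_21_3 lc_g_Cert_tree lc_g_rc_21_2 lc_g_rc_21_2 lc_g_Cert_tree lc_g_Cert_tree lc_g_rc_21_3 lc_g_Cert_tree lc_g_Cert_tree lc_g_rc_21_2 lc_g_rc_21_3 lc_g_rc_27_6 lc_g_rc_27_6 lc_g_rc_21_3 lc_g_rc_26_9 lc_g_rc_23_9 lc_g_rc_24_1 lc_g_rc_21_2 lc_g_rc_21_3 lc_g_rc_27_6 lc_g_rc_21_3 lc_g_Cert_tree lc_g_rc_21_3 lc_g_rc_27_6 lc_g_rc_21_3 lc_g_rc_23_1 lc_g_rc_27_6 lc_g_rc_26_3 lc_g_Cert_tree lc_g_rc_27_9 lc_g_rc_24_9 lc_g_rc_27_0 lc_g_rc_27_0 lc_g_Cert_tree lc_g_rc_27_6 lc_g_rc_21_2 lc_g_Cert_tree) (@D3.rec (fun _ => (Cert rels S Gen.g)) lc_g_rc_26_3 lc_g_rc_21_2 lc_g_rc_24_3 lc_g_rc_26_0 lc_g_rc_27_3 lc_g_rc_27_3 lc_g_rc_21_2 lc_g_Cert_tree lc_g_rc_21_3 lc_g_Cert_tree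 lc_g_rc_21_2 lc_g_rc_27_0 lc_g_rc_21_3 lc_g_Cert_tree lc_g_Cert_tree lc_g_rc_21_2 lc_g_rc_21_3 lc_g_rc_26_9 lc_g_rc_24_9 lc_g_rc_26_9 lc_g_rc_26_6 lc_g_Cert_tree lc_g_rc_21_3 lc_g_Cert_tree lc_g_rc_27_3 lc_g_Cert_tree lc_g_rc_27_3 lc_g_rc_27_0 lc_g_rc_21_3 lc_g_rc_27_9 lc_g_rc_27_0 lc_g_Cert_tree lc_g_Cert_tree lc_g_Cert_tree lc_g_Cert_tree lc_g_rc_24_9 lc_g_rc_24_3 lc_g_rc_23_3 lc_g_Cert_tree lc_g_rc_24_1 lc_g_rc_27_6 lc_g_rc_24_9 lc_g_rc_27_0 lc_g_rc_27_0 lc_g_rc_24_7 lc_g_rc_27_6 lc_g_rc_27_6 lc_g_rc_21_3 lc_g_Cert_tree lc_g_Cert_tree lc_g_rc_21_2 lc_g_rc_21_2 lc_g_rc_27_3 lc_g_rc_21_3 lc_g_Cert_tree lc_g_rc_21_2 lc_g_rc_26_0 lc_g_Cert_tree lc_g_rc_21_3 lc_g_Cert_tree lc_g_rc_27_6 lc_g_rc_21_2)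 (@D3.rec (fun _ => (Cert rels S Gen.g)) lc_g_rc_25_15 lc_g_Cert_tree lc_g_rc_27_6 lc_g_rc_21_3 lc_g_rc_21_3 lc_g_rc_21_3 lc_g_rc_21_3 lc_g_Cert_tree lc_g_rc_21_2 lc_g_rc_27_6 lc_g_rc_27_6 lc_g_rc_26_3 lc_g_rc_27_6 lc_g_rc_27_6 lc_g_Cert_tree lc_g_rc_21_2 lc_g_rc_26_0 lc_g_rc_26_3 lc_g_rc_21_3 lc_g_Cert_tree lc_g_rc_23_7 lc_g_rc_21_2 lc_g_rc_23_9 lc_g_rc_27_9 lc_g_rc_26_3 lc_g_rc_26_6 lc_g_rc_26_0 lc_g_rc_21_3 lc_g_Cert_tree lc_g_Cert_tree lc_g_rc_21_2 lc_g_rc_24_7 lc_g_Cert_tree lc_g_Cert_tree lc_g_rc_21_2 lc_g_rc_26_6 lc_g_rc_21_3 lc_g_rc_21_2 lc_g_rc_24_3 lc_g_rc_26_3 lc_g_rc_26_9 lc_g_rc_21_2 lc_g_rc_21_2 lc_g_rc_26_0 lc_g_Cert_tree lc_g_rc_21_3 lc_g_rc_26_0 lc_g_Cert_tree lc_g_Cert_tree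 lc_g_rc_21_3 lc_g_Cert_tree lc_g_rc_21_3 lc_g_Cert_tree lc_g_rc_21_2 lc_g_rc_27_0 lc_g_rc_23_1 lc_g_rc_26_6 lc_g_rc_21_3 lc_g_Cert_tree lc_g_rc_26_3 lc_g_rc_21_3 lc_g_rc_26_0) (@D3.rec (fun _ => (Cert rels S Gen.g)) lc_g_Cert_tree lc_g_rc_21_2 lc_g_Cert_tree lc_g_rc_21_3 lc_g_rc_25_19 lc_g_rc_27_6 lc_g_rc_23_1 lc_g_rc_21_3 lc_g_rc_27_0 lc_g_rc_23_9 lc_g_rc_21_2 lc_g_Cert_tree lc_g_rc_26_3 lc_g_rc_21_3 lc_g_rc_23_1 lc_g_rc_27_9 lc_g_rc_26_3 lc_g_Cert_tree lc_g_Cert_tree lc_g_rc_23_9 lc_g_rc_23_3 lc_g_Cert_tree lc_g_rc_27_3 lc_g_Cert_tree lc_g_rc_21_3 lc_g_Cert_tree lc_g_rc_21_2 lc_g_rc_21_3 lc_g_Cert_tree lc_g_rc_21_2 lc_g_Cert_tree lc_g_rc_21_3 lc_g_Cert_tree lc_g_rc_26_3 lc_g_Cert_tree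 lc_g_rc_21_3 lc_g_rc_21_2 lc_g_rc_21_3 lc_g_rc_21_2 lc_g_rc_26_6 lc_g_rc_26_6 lc_g_rc_21_3 lc_g_rc_23_3 lc_g_rc_21_3 lc_g_Cert_tree lc_g_rc_27_3 lc_g_rc_23_3 lc_g_rc_27_0 lc_g_rc_23_3 lc_g_rc_23_9 lc_g_rc_21_2 lc_g_rc_26_3 lc_g_Cert_tree lc_g_rc_23_7 lc_g_Cert_tree lc_g_rc_26_3 lc_g_rc_23_1 lc_g_rc_26_6 lc_g_rc_21_3 lc_g_Cert_tree lc_g_Cert_tree lc_g_rc_23_7) (@D3.rec (fun _ => (Cert rels S Gen.g)) lc_g_rc_21_2 lc_g_rc_21_2 lc_g_rc_21_2 lc_g_rc_21_2 lc_g_rc_21_3 lc_g_Cert_tree lc_g_rc_21_3 lc_g_rc_21_3 lc_g_rc_27_6 lc_g_rc_27_6 lc_g_rc_24_9 lc_g_Cert_tree lc_g_rc_27_3 lc_g_rc_26_3 lc_g_Cert_tree lc_g_rc_21_3 lc_g_Cert_tree lc_g_rc_21_2 lc_g_rc_26_6 lc_g_rc_21_3 lc_g_rc_27_3 lc_g_rc_26_9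 lc_g_rc_26_6 lc_g_rc_21_3 lc_g_rc_23_1 lc_g_Cert_tree lc_g_rc_21_3 lc_g_Cert_tree lc_g_rc_26_9 lc_g_Cert_tree lc_g_rc_24_7 lc_g_rc_26_9 lc_g_rc_27_6 lc_g_rc_26_0 lc_g_rc_23_3 lc_g_rc_21_2 lc_g_rc_21_2 lc_g_rc_21_3 lc_g_Cert_tree lc_g_Cert_tree lc_g_Cert_tree lc_g_rc_21_3 lc_g_Cert_tree lc_g_rc_27_0 lc_g_rc_27_0 lc_g_rc_23_7 lc_g_Cert_tree lc_g_rc_23_9 lc_g_rc_23_1 lc_g_rc_26_0 lc_g_rc_24_7 lc_g_Cert_tree lc_g_rc_27_9 lc_g_Cert_tree lc_g_rc_21_2 lc_g_rc_21_2 lc_g_rc_21_3 lc_g_rc_21_2 lc_g_rc_26_0 lc_g_rc_26_3 lc_g_rc_24_7 lc_g_Cert_tree) (@D3.rec (fun _ => (Cert rels S Gen.g)) lc_g_Cert_tree lc_g_rc_25_15 lc_g_rc_23_3 lc_g_rc_27_3 lc_g_rc_21_3 lc_g_rc_21_2 lc_g_Cert_tree lc_g_Cert_tree lc_g_rc_27_6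 lc_g_rc_21_3 lc_g_Cert_tree lc_g_rc_21_2 lc_g_rc_24_3 lc_g_rc_24_9 lc_g_rc_21_3 lc_g_Cert_tree lc_g_rc_27_6 lc_g_rc_24_3 lc_g_rc_27_3 lc_g_rc_25_19 lc_g_rc_26_3 lc_g_rc_21_2 lc_g_rc_21_3 lc_g_Cert_tree lc_g_Cert_tree lc_g_rc_21_2 lc_g_rc_26_0 lc_g_rc_24_3 lc_g_rc_23_9 lc_g_Cert_tree lc_g_rc_26_3 lc_g_rc_27_6 lc_g_Cert_tree lc_g_rc_21_2 lc_g_Cert_tree lc_g_Cert_tree lc_g_rc_21_3 lc_g_Cert_tree lc_g_Cert_tree lc_g_rc_21_3 lc_g_Cert_tree lc_g_rc_21_2 lc_g_rc_21_2 lc_g_Cert_tree lc_g_Cert_tree lc_g_Cert_tree lc_g_rc_24_3 lc_g_rc_21_3 lc_g_rc_21_2 lc_g_rc_23_9 lc_g_rc_26_9 lc_g_rc_27_3 lc_g_Cert_tree lc_g_Cert_tree lc_g_rc_26_6 lc_g_rc_23_3 lc_g_rc_21_3 lc_g_Cert_tree lc_g_rc_26_0 lc_g_rc_25_7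 lc_g_rc_23_3 lc_g_Cert_tree) (@D3.rec (fun _ => (Cert rels S Gen.g)) lc_g_Cert_tree lc_g_rc_23_7 lc_g_Cert_tree lc_g_rc_21_2 lc_g_rc_23_1 lc_g_Cert_tree lc_g_rc_24_9 lc_g_rc_23_7 lc_g_Cert_tree lc_g_rc_21_2 lc_g_rc_23_7 lc_g_rc_21_3 lc_g_Cert_tree lc_g_rc_21_2 lc_g_rc_26_3 lc_g_Cert_tree lc_g_rc_23_9 lc_g_rc_26_3 lc_g_Cert_tree lc_g_Cert_tree lc_g_rc_21_3 lc_g_rc_26_3 lc_g_rc_27_0 lc_g_rc_26_0 lc_g_Cert_tree lc_g_rc_26_0 lc_g_Cert_tree lc_g_rc_21_3 lc_g_rc_21_3 lc_g_rc_23_3 lc_g_rc_21_2 lc_g_rc_21_3 lc_g_rc_21_2 lc_g_rc_27_6 lc_g_rc_21_3 lc_g_rc_26_6 lc_g_Cert_tree lc_g_Cert_tree lc_g_rc_21_2 lc_g_rc_21_3 lc_g_rc_26_9 lc_g_rc_21_3 lc_g_rc_21_3 lc_g_rc_21_2 lc_g_rc_23_1 lc_g_rc_26_3 lc_g_rc_26_6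 lc_g_rc_26_3 lc_g_rc_27_0 lc_g_rc_26_9 lc_g_Cert_tree lc_g_rc_21_3 lc_g_Cert_tree lc_g_rc_21_2 lc_g_rc_26_0 lc_g_rc_21_2 lc_g_rc_21_2 lc_g_rc_26_6 lc_g_rc_21_2 lc_g_rc_21_2 lc_g_Cert_tree lc_g_rc_21_2) (@D3.rec (fun _ => (Cert rels S Gen.g)) lc_g_rc_24_9 lc_g_rc_21_2 lc_g_rc_26_6 lc_g_rc_21_2 lc_g_rc_21_3 lc_g_Cert_tree lc_g_rc_27_3 lc_g_rc_21_2 lc_g_rc_21_3 lc_g_rc_21_3 lc_g_rc_21_2 lc_g_Cert_tree lc_g_rc_26_6 lc_g_rc_27_3 lc_g_rc_21_2 lc_g_rc_27_3 lc_g_rc_21_3 lc_g_rc_21_2 lc_g_Cert_tree lc_g_rc_26_3 lc_g_rc_27_6 lc_g_rc_26_0 lc_g_rc_26_0 lc_g_Cert_tree lc_g_Cert_tree lc_g_rc_21_2 lc_g_rc_21_3 lc_g_rc_26_0 lc_g_rc_21_3 lc_g_rc_26_3 lc_g_Cert_tree lc_g_Cert_tree lc_g_rc_21_2 lc_g_rc_21_3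 lc_g_rc_24_1 lc_g_rc_27_9 lc_g_Cert_tree lc_g_rc_21_3 lc_g_Cert_tree lc_g_rc_21_3 lc_g_Cert_tree lc_g_rc_23_9 lc_g_Cert_tree lc_g_Cert_tree lc_g_rc_26_3 lc_g_rc_26_9 lc_g_rc_26_3 lc_g_Cert_tree lc_g_rc_21_3 lc_g_Cert_tree lc_g_rc_24_3 lc_g_rc_21_3 lc_g_rc_21_2 lc_g_rc_23_9 lc_g_Cert_tree lc_g_Cert_tree lc_g_rc_21_3 lc_g_Cert_tree lc_g_Cert_tree lc_g_rc_26_6 lc_g_Cert_tree lc_g_rc_21_3) (@D3.rec (fun _ => (Cert rels S Gen.g)) lc_g_rc_27_0 lc_g_rc_26_6 lc_g_rc_21_2 lc_g_rc_24_3 lc_g_rc_21_2 lc_g_rc_26_0 lc_g_rc_21_2 lc_g_rc_21_3 lc_g_Cert_tree lc_g_Cert_tree lc_g_Cert_tree lc_g_rc_21_3 lc_g_rc_21_2 lc_g_rc_21_3 lc_g_rc_24_9 lc_g_rc_23_7 lc_g_rc_21_3 lc_g_rc_23_3 lc_g_rc_23_1 lc_g_Cert_tree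 lc_g_Cert_tree lc_g_rc_21_2 lc_g_rc_24_7 lc_g_rc_21_3 lc_g_rc_23_1 lc_g_rc_24_7 lc_g_rc_24_1 lc_g_rc_24_7 lc_g_rc_21_2 lc_g_rc_21_3 lc_g_rc_21_2 lc_g_Cert_tree lc_g_Cert_tree lc_g_rc_27_3 lc_g_Cert_tree lc_g_Cert_tree lc_g_Cert_tree lc_g_rc_21_3 lc_g_rc_27_3 lc_g_rc_21_3 lc_g_Cert_tree lc_g_rc_26_6 lc_g_rc_21_2 lc_g_rc_21_2 lc_g_Cert_tree lc_g_rc_21_3 lc_g_Cert_tree lc_g_Cert_tree lc_g_rc_21_3 lc_g_rc_27_0 lc_g_rc_27_6 lc_g_rc_21_3 lc_g_rc_27_0 lc_g_rc_21_2 lc_g_Cert_tree lc_g_rc_21_3 lc_g_Cert_tree lc_g_rc_23_3 lc_g_rc_27_0 lc_g_Cert_tree lc_g_rc_23_1 lc_g_rc_27_3) (@D3.rec (fun _ => (Cert rels S Gen.g)) lc_g_Cert_tree lc_g_rc_21_2 lc_g_rc_21_2 lc_g_rc_21_2 lc_g_Cert_tree lc_g_rc_27_3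 lc_g_Cert_tree lc_g_Cert_tree lc_g_rc_21_2 lc_g_Cert_tree lc_g_rc_27_0 lc_g_rc_26_6 lc_g_Cert_tree lc_g_rc_27_6 lc_g_Cert_tree lc_g_rc_21_3 lc_g_rc_23_1 lc_g_rc_21_3 lc_g_Cert_tree lc_g_rc_21_3 lc_g_rc_23_3 lc_g_rc_26_0 lc_g_rc_23_7 lc_g_rc_27_6 lc_g_Cert_tree lc_g_rc_21_2 lc_g_Cert_tree lc_g_Cert_tree lc_g_rc_26_6 lc_g_rc_24_9 lc_g_rc_21_3 lc_g_rc_21_2 lc_g_rc_21_2 lc_g_rc_23_3 lc_g_rc_21_3 lc_g_rc_21_3 lc_g_rc_23_1 lc_g_rc_21_3 lc_g_rc_21_2 lc_g_Cert_tree lc_g_Cert_tree lc_g_rc_23_7 lc_g_rc_26_6 lc_g_rc_23_7 lc_g_rc_24_1 lc_g_rc_23_1 lc_g_rc_24_3 lc_g_rc_23_3 lc_g_Cert_tree lc_g_rc_26_3 lc_g_rc_25_7 lc_g_rc_26_0 lc_g_rc_23_9 lc_g_rc_26_3 lc_g_rc_26_6 lc_g_rc_21_2 lc_g_rc_26_9 lc_g_rc_27_6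 lc_g_rc_21_3 lc_g_Cert_tree lc_g_rc_27_3 lc_g_rc_21_3) (@D3.rec (fun _ => (Cert rels S Gen.g)) lc_g_Cert_tree lc_g_rc_21_2 lc_g_rc_27_6 lc_g_rc_27_9 lc_g_rc_26_3 lc_g_Cert_tree lc_g_rc_27_6 lc_g_rc_21_3 lc_g_Cert_tree lc_g_rc_27_9 lc_g_rc_21_3 lc_g_Cert_tree lc_g_rc_21_2 lc_g_rc_23_3 lc_g_Cert_tree lc_g_Cert_tree lc_g_rc_21_2 lc_g_rc_26_3 lc_g_rc_21_3 lc_g_rc_26_6 lc_g_rc_24_3 lc_g_rc_21_3 lc_g_Cert_tree lc_g_rc_21_2 lc_g_rc_24_3 lc_g_rc_26_6 lc_g_rc_21_3 lc_g_rc_26_3 lc_g_rc_21_3 lc_g_rc_26_0 lc_g_rc_21_2 lc_g_Cert_tree lc_g_rc_21_3 lc_g_rc_26_3 lc_g_rc_27_6 lc_g_rc_26_0 lc_g_Cert_tree lc_g_rc_25_19 lc_g_rc_27_6 lc_g_rc_26_0 lc_g_rc_24_1 lc_g_rc_27_3 lc_g_Cert_tree lc_g_rc_24_3 lc_g_rc_21_2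 lc_g_rc_24_7 lc_g_rc_21_2 lc_g_rc_21_3 lc_g_rc_27_3 lc_g_Cert_tree lc_g_rc_27_6 lc_g_rc_21_2 lc_g_rc_27_9 lc_g_rc_27_0 lc_g_rc_27_0 lc_g_rc_21_2 lc_g_Cert_tree lc_g_Cert_tree lc_g_rc_27_3 lc_g_rc_21_2 lc_g_rc_21_3 lc_g_rc_26_9) (@D3.rec (fun _ => (Cert rels S Gen.g)) lc_g_rc_27_3 lc_g_rc_21_3 lc_g_rc_24_3 lc_g_rc_21_2 lc_g_rc_27_3 lc_g_rc_23_1 lc_g_rc_23_1 lc_g_rc_24_9 lc_g_rc_24_7 lc_g_rc_24_7 lc_g_Cert_tree lc_g_Cert_tree lc_g_rc_21_2 lc_g_rc_23_9 lc_g_rc_21_2 lc_g_rc_21_3 lc_g_rc_27_9 lc_g_Cert_tree lc_g_Cert_tree lc_g_rc_27_9 lc_g_rc_21_3 lc_g_Cert_tree lc_g_rc_26_6 lc_g_rc_27_3 lc_g_rc_26_9 lc_g_rc_24_7 lc_g_Cert_tree lc_g_rc_21_2 lc_g_rc_26_3 lc_g_rc_27_3 lc_g_rc_23_1 lc_g_Cert_tree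 lc_g_rc_21_2 lc_g_Cert_tree lc_g_Cert_tree lc_g_Cert_tree lc_g_Cert_tree lc_g_rc_26_3 lc_g_Cert_tree lc_g_rc_27_3 lc_g_rc_26_9 lc_g_rc_21_3 lc_g_rc_26_3 lc_g_rc_21_2 lc_g_rc_21_2 lc_g_rc_21_3 lc_g_rc_21_3 lc_g_rc_21_3 lc_g_Cert_tree lc_g_rc_27_6 lc_g_rc_27_3 lc_g_Cert_tree lc_g_rc_27_6 lc_g_Cert_tree lc_g_rc_23_3 lc_g_Cert_tree lc_g_rc_26_6 lc_g_rc_26_0 lc_g_rc_23_7 lc_g_rc_24_3 lc_g_rc_21_3 lc_g_Cert_tree) (@D3.rec (fun _ => (Cert rels S Gen.g)) lc_g_rc_21_3 lc_g_Cert_tree lc_g_rc_27_6 lc_g_rc_27_9 lc_g_rc_23_3 lc_g_Cert_tree lc_g_rc_23_3 lc_g_rc_23_1 lc_g_rc_27_6 lc_g_rc_26_9 lc_g_Cert_tree lc_g_Cert_tree lc_g_rc_26_9 lc_g_Cert_tree lc_g_rc_24_3 lc_g_rc_21_3 lc_g_Cert_tree lc_g_Cert_tree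 lc_g_Cert_tree lc_g_Cert_tree lc_g_rc_21_2 lc_g_Cert_tree lc_g_Cert_tree lc_g_rc_23_7 lc_g_rc_21_3 lc_g_Cert_tree lc_g_rc_23_1 lc_g_rc_21_3 lc_g_Cert_tree lc_g_rc_21_2 lc_g_Cert_tree lc_g_rc_21_3 lc_g_Cert_tree lc_g_rc_24_7 lc_g_rc_27_6 lc_g_rc_24_7 lc_g_rc_26_3 lc_g_rc_26_0 lc_g_Cert_tree lc_g_rc_21_2 lc_g_rc_21_3 lc_g_Cert_tree lc_g_rc_21_2 lc_g_rc_27_6 lc_g_rc_27_9 lc_g_rc_26_6 lc_g_rc_27_9 lc_g_rc_21_3 lc_g_rc_26_3 lc_g_rc_23_7 lc_g_rc_24_3 lc_g_Cert_tree lc_g_rc_27_6 lc_g_rc_26_6 lc_g_rc_27_3 lc_g_rc_21_2 lc_g_rc_26_6 lc_g_rc_21_3 lc_g_Cert_tree lc_g_Cert_tree lc_g_rc_26_3 lc_g_Cert_tree) (@D3.rec (fun _ => (Cert rels S Gen.g)) lc_g_Cert_tree lc_g_rc_24_3 lc_g_rc_21_3 lc_g_Cert_tree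 lc_g_rc_21_2 lc_g_rc_24_3 lc_g_rc_21_2 lc_g_rc_26_6 lc_g_rc_27_0 lc_g_rc_23_7 lc_g_rc_23_7 lc_g_rc_21_2 lc_g_rc_26_6 lc_g_rc_26_6 lc_g_rc_26_9 lc_g_rc_27_6 lc_g_rc_26_0 lc_g_rc_24_7 lc_g_rc_21_3 lc_g_rc_21_3 lc_g_Cert_tree lc_g_Cert_tree lc_g_rc_21_2 lc_g_rc_21_3 lc_g_rc_21_2 lc_g_Cert_tree lc_g_rc_27_9 lc_g_rc_23_3 lc_g_rc_26_3 lc_g_rc_24_7 lc_g_Cert_tree lc_g_rc_23_3 lc_g_rc_21_2 lc_g_rc_21_3 lc_g_Cert_tree lc_g_rc_21_2 lc_g_Cert_tree lc_g_rc_27_6 lc_g_Cert_tree lc_g_rc_26_3 lc_g_rc_27_6 lc_g_rc_21_2 lc_g_rc_21_3 lc_g_Cert_tree lc_g_rc_21_3 lc_g_Cert_tree lc_g_Cert_tree lc_g_rc_21_2 lc_g_rc_24_3 lc_g_rc_26_0 lc_g_rc_21_3 lc_g_rc_21_2 lc_g_rc_26_0 lc_g_rc_21_2 lc_g_rc_21_3 lc_g_Cert_tree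 lc_g_Cert_tree lc_g_rc_24_9 lc_g_rc_26_9 lc_g_rc_26_0 lc_g_rc_21_3 lc_g_Cert_tree) (@D3.rec (fun _ => (Cert rels S Gen.g)) lc_g_rc_26_3 lc_g_rc_26_6 lc_g_Cert_tree lc_g_rc_24_9 lc_g_rc_21_3 lc_g_Cert_tree lc_g_rc_21_2 lc_g_rc_26_3 lc_g_rc_24_3 lc_g_Cert_tree lc_g_rc_23_7 lc_g_rc_24_9 lc_g_rc_21_2 lc_g_rc_26_9 lc_g_rc_27_6 lc_g_rc_26_6 lc_g_rc_21_3 lc_g_rc_27_9 lc_g_rc_23_3 lc_g_Cert_tree lc_g_rc_26_3 lc_g_rc_26_6 lc_g_Cert_tree lc_g_rc_21_2 lc_g_rc_21_3 lc_g_Cert_tree lc_g_Cert_tree lc_g_rc_21_2 lc_g_Cert_tree lc_g_rc_23_9 lc_g_rc_21_3 lc_g_rc_24_1 lc_g_Cert_tree lc_g_rc_21_3 lc_g_Cert_tree lc_g_rc_23_9 lc_g_rc_21_2 lc_g_Cert_tree lc_g_Cert_tree lc_g_rc_23_1 lc_g_rc_21_2 lc_g_Cert_tree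 lc_g_rc_26_6 lc_g_Cert_tree lc_g_rc_24_3 lc_g_Cert_tree lc_g_rc_21_3 lc_g_rc_23_3 lc_g_rc_21_3 lc_g_rc_21_2 lc_g_Cert_tree lc_g_rc_24_3 lc_g_Cert_tree lc_g_Cert_tree lc_g_rc_21_2 lc_g_rc_21_3 lc_g_rc_26_3 lc_g_rc_26_6 lc_g_Cert_tree lc_g_rc_21_2 lc_g_rc_27_6 lc_g_rc_21_2) (@D3.rec (fun _ => (Cert rels S Gen.g)) lc_g_Cert_tree lc_g_rc_24_1 lc_g_rc_21_2 lc_g_rc_24_9 lc_g_Cert_tree lc_g_rc_26_9 lc_g_rc_23_3 lc_g_rc_24_1 lc_g_rc_26_9 lc_g_rc_23_3 lc_g_rc_26_9 lc_g_rc_26_6 lc_g_rc_26_0 lc_g_rc_21_3 lc_g_Cert_tree lc_g_rc_26_6 lc_g_rc_27_6 lc_g_rc_24_9 lc_g_rc_26_0 lc_g_rc_24_1 lc_g_Cert_tree lc_g_rc_23_3 lc_g_rc_21_3 lc_g_rc_27_6 lc_g_rc_21_3 lc_g_Cert_tree lc_g_rc_27_9 lc_g_rc_21_3 lc_g_Cert_tree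 lc_g_rc_21_2 lc_g_Cert_tree lc_g_rc_26_6 lc_g_rc_21_2 lc_g_rc_26_0 lc_g_rc_21_3 lc_g_Cert_tree lc_g_rc_27_6 lc_g_rc_21_2 lc_g_rc_24_1 lc_g_rc_21_2 lc_g_rc_26_6 lc_g_rc_27_9 lc_g_Cert_tree lc_g_rc_21_3 lc_g_Cert_tree lc_g_rc_21_2 lc_g_rc_26_6 lc_g_rc_27_3 lc_g_rc_24_7 lc_g_rc_24_7 lc_g_Cert_tree lc_g_Cert_tree lc_g_rc_21_3 lc_g_Cert_tree lc_g_rc_21_3 lc_g_Cert_tree lc_g_rc_26_6 lc_g_rc_26_6 lc_g_Cert_tree lc_g_rc_21_2 lc_g_rc_26_3 lc_g_rc_27_3) (@D3.rec (fun _ => (Cert rels S Gen.g)) lc_g_rc_21_3 lc_g_Cert_tree lc_g_Cert_tree lc_g_rc_21_2 lc_g_rc_23_1 lc_g_rc_21_3 lc_g_Cert_tree lc_g_rc_25_11 lc_g_rc_27_3 lc_g_rc_21_2 lc_g_rc_21_2 lc_g_Cert_tree lc_g_rc_21_3 lc_g_rc_26_9 lc_g_rc_26_0 lc_g_rc_26_0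 lc_g_rc_26_3 lc_g_rc_21_3 lc_g_Cert_tree lc_g_Cert_tree lc_g_rc_21_3 lc_g_Cert_tree lc_g_Cert_tree lc_g_rc_21_2 lc_g_rc_21_2 lc_g_Cert_tree lc_g_rc_24_9 lc_g_rc_26_9 lc_g_rc_23_9 lc_g_Cert_tree lc_g_rc_21_3 lc_g_Cert_tree lc_g_rc_21_2 lc_g_rc_26_3 lc_g_rc_23_1 lc_g_rc_21_2 lc_g_rc_21_3 lc_g_Cert_tree lc_g_rc_21_2 lc_g_Cert_tree lc_g_rc_26_6 lc_g_rc_21_2 lc_g_rc_27_6 lc_g_rc_21_3 lc_g_Cert_tree lc_g_rc_27_6 lc_g_rc_21_2 lc_g_rc_26_3 lc_g_rc_24_3 lc_g_rc_26_3 lc_g_Cert_tree lc_g_rc_21_2 lc_g_rc_23_9 lc_g_Cert_tree lc_g_Cert_tree lc_g_rc_24_1 lc_g_rc_21_3 lc_g_rc_26_9 lc_g_rc_23_3 lc_g_rc_27_0 lc_g_rc_26_9 lc_g_rc_21_2) (@D3.rec (fun _ => (Cert rels S Gen.g)) lc_g_Cert_tree lc_g_rc_26_6 lc_g_rc_26_6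 lc_g_rc_26_6 lc_g_rc_21_3 lc_g_Cert_tree lc_g_Cert_tree lc_g_rc_21_2 lc_g_rc_21_3 lc_g_Cert_tree lc_g_rc_24_3 lc_g_Cert_tree lc_g_rc_26_9 lc_g_Cert_tree lc_g_rc_21_2 lc_g_Cert_tree lc_g_Cert_tree lc_g_rc_26_0 lc_g_Cert_tree lc_g_Cert_tree lc_g_rc_27_6 lc_g_Cert_tree lc_g_Cert_tree lc_g_Cert_tree lc_g_Cert_tree lc_g_rc_21_2 lc_g_rc_21_3 lc_g_rc_21_2 lc_g_Cert_tree lc_g_rc_23_1 lc_g_rc_27_3 lc_g_rc_23_3 lc_g_Cert_tree lc_g_rc_26_9 lc_g_rc_26_6 lc_g_rc_26_6 lc_g_rc_23_1 lc_g_rc_21_3 lc_g_Cert_tree lc_g_rc_21_2 lc_g_rc_23_3 lc_g_rc_23_7 lc_g_Cert_tree lc_g_rc_21_2 lc_g_Cert_tree lc_g_rc_23_1 lc_g_Cert_tree lc_g_rc_26_6 lc_g_rc_21_3 lc_g_Cert_tree lc_g_rc_26_0 lc_g_rc_21_2 lc_g_rc_26_3 lc_g_rc_21_2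 lc_g_rc_21_3 lc_g_Cert_tree lc_g_rc_21_2 lc_g_rc_26_6 lc_g_rc_23_7 lc_g_rc_21_3 lc_g_rc_23_3 lc_g_rc_21_3) (@D3.rec (fun _ => (Cert rels S Gen.g)) lc_g_rc_26_3 lc_g_Cert_tree lc_g_Cert_tree lc_g_Cert_tree lc_g_rc_26_3 lc_g_rc_26_3 lc_g_rc_24_1 lc_g_rc_24_3 lc_g_rc_21_3 lc_g_rc_21_2 lc_g_Cert_tree lc_g_rc_24_3 lc_g_Cert_tree lc_g_rc_23_7 lc_g_rc_21_2 lc_g_rc_26_0 lc_g_rc_26_3 lc_g_rc_23_1 lc_g_rc_21_3 lc_g_Cert_tree lc_g_rc_21_3 lc_g_rc_21_2 lc_g_rc_24_3 lc_g_rc_21_3 lc_g_rc_26_9 lc_g_rc_21_3 lc_g_rc_21_3 lc_g_rc_24_1 lc_g_Cert_tree lc_g_Cert_tree lc_g_rc_27_3 lc_g_rc_21_2 lc_g_rc_26_0 lc_g_rc_21_2 lc_g_rc_21_3 lc_g_rc_21_3 lc_g_Cert_tree lc_g_rc_24_1 lc_g_rc_21_2 lc_g_rc_26_9 lc_g_Cert_tree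 lc_g_rc_21_2 lc_g_rc_21_2 lc_g_Cert_tree lc_g_rc_23_1 lc_g_Cert_tree lc_g_rc_24_7 lc_g_rc_21_2 lc_g_rc_21_3 lc_g_rc_21_2 lc_g_rc_27_6 lc_g_Cert_tree lc_g_rc_21_3 lc_g_rc_27_6 lc_g_rc_26_6 lc_g_rc_24_3 lc_g_rc_27_3 lc_g_rc_27_3 lc_g_Cert_tree lc_g_rc_23_3 lc_g_Cert_tree lc_g_rc_24_7) (@D3.rec (fun _ => (Cert rels S Gen.g)) lc_g_Cert_tree lc_g_rc_21_3 lc_g_Cert_tree lc_g_Cert_tree lc_g_Cert_tree lc_g_rc_21_2 lc_g_Cert_tree lc_g_Cert_tree lc_g_rc_21_2 lc_g_Cert_tree lc_g_rc_21_2 lc_g_rc_26_9 lc_g_rc_21_3 lc_g_Cert_tree lc_g_rc_25_11 lc_g_rc_26_9 lc_g_rc_24_7 lc_g_rc_27_3 lc_g_Cert_tree lc_g_Cert_tree lc_g_rc_25_11 lc_g_rc_23_7 lc_g_rc_23_3 lc_g_Cert_tree lc_g_Cert_tree lc_g_Cert_tree lc_g_rc_21_2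 lc_g_rc_27_6 lc_g_Cert_tree lc_g_rc_27_6 lc_g_rc_27_3 lc_g_rc_27_9 lc_g_rc_23_1 lc_g_Cert_tree lc_g_rc_26_6 lc_g_Cert_tree lc_g_rc_21_2 lc_g_rc_26_0 lc_g_rc_27_6 lc_g_rc_27_6 lc_g_rc_23_1 lc_g_rc_26_3 lc_g_rc_21_3 lc_g_rc_27_6 lc_g_rc_27_6 lc_g_rc_21_3 lc_g_Cert_tree lc_g_Cert_tree lc_g_rc_26_3 lc_g_rc_27_6 lc_g_rc_21_2 lc_g_rc_24_1 lc_g_Cert_tree lc_g_Cert_tree lc_g_Cert_tree lc_g_Cert_tree lc_g_rc_24_1 lc_g_rc_21_2 lc_g_rc_23_9 lc_g_rc_21_3 lc_g_Cert_tree lc_g_rc_27_6) (@D3.rec (fun _ => (Cert rels S Gen.g)) lc_g_rc_21_2 lc_g_rc_26_0 lc_g_rc_21_3 lc_g_Cert_tree lc_g_rc_27_3 lc_g_rc_21_2 lc_g_rc_21_3 lc_g_rc_26_0 lc_g_Cert_tree lc_g_rc_26_0 lc_g_rc_21_2 lc_g_Cert_tree lc_g_rc_21_3 lc_g_Cert_tree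 lc_g_rc_27_6 lc_g_rc_21_2 lc_g_rc_21_3 lc_g_rc_23_7 lc_g_rc_21_3 lc_g_rc_21_3 lc_g_rc_21_2 lc_g_Cert_tree lc_g_rc_21_3 lc_g_Cert_tree lc_g_Cert_tree lc_g_rc_21_2 lc_g_rc_26_6 lc_g_Cert_tree lc_g_rc_21_3 lc_g_Cert_tree lc_g_Cert_tree lc_g_Cert_tree lc_g_Cert_tree lc_g_rc_27_3 lc_g_rc_23_3 lc_g_Cert_tree lc_g_rc_27_0 lc_g_Cert_tree lc_g_rc_27_3 lc_g_Cert_tree lc_g_rc_27_0 lc_g_rc_21_3 lc_g_Cert_tree lc_g_Cert_tree lc_g_Cert_tree lc_g_rc_21_2 lc_g_Cert_tree lc_g_rc_21_3 lc_g_Cert_tree lc_g_rc_21_2 lc_g_Cert_tree lc_g_rc_26_9 lc_g_rc_24_7 lc_g_rc_21_3 lc_g_rc_23_3 lc_g_rc_23_1 lc_g_Cert_tree lc_g_rc_27_3 lc_g_Cert_tree lc_g_rc_23_3 lc_g_Cert_tree lc_g_rc_21_2) (@D3.rec (fun _ => (Cert rels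 S Gen.g)) lc_g_Cert_tree lc_g_rc_23_3 lc_g_Cert_tree lc_g_rc_23_7 lc_g_Cert_tree lc_g_rc_23_9 lc_g_Cert_tree lc_g_rc_21_3 lc_g_Cert_tree lc_g_rc_23_7 lc_g_Cert_tree lc_g_rc_21_2 lc_g_rc_26_9 lc_g_rc_21_3 lc_g_rc_26_6 lc_g_rc_21_3 lc_g_rc_27_3 lc_g_rc_21_2 lc_g_rc_21_2 lc_g_rc_26_0 lc_g_rc_26_6 lc_g_rc_21_3 lc_g_Cert_tree lc_g_rc_21_2 lc_g_rc_21_3 lc_g_rc_21_3 lc_g_rc_21_3 lc_g_rc_21_3 lc_g_rc_23_3 lc_g_rc_21_2 lc_g_rc_21_3 lc_g_rc_26_3 lc_g_rc_27_9 lc_g_rc_21_3 lc_g_rc_27_3 lc_g_rc_21_3 lc_g_rc_27_0 lc_g_rc_23_3 lc_g_rc_21_3 lc_g_Cert_tree lc_g_Cert_tree lc_g_rc_27_3 lc_g_rc_26_6 lc_g_rc_27_9 lc_g_rc_21_3 lc_g_rc_21_3 lc_g_rc_27_9 lc_g_rc_23_7 lc_g_Cert_tree lc_g_rc_21_2 lc_g_rc_23_7 lc_g_rc_24_7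 lc_g_Cert_tree lc_g_Cert_tree lc_g_rc_21_2 lc_g_rc_21_2 lc_g_rc_26_3 lc_g_rc_24_3 lc_g_Cert_tree lc_g_rc_23_3 lc_g_rc_21_2 lc_g_rc_21_3) (@D3.rec (fun _ => (Cert rels S Gen.g)) lc_g_rc_27_9 lc_g_rc_26_9 lc_g_rc_21_2 lc_g_Cert_tree lc_g_rc_21_2 lc_g_rc_23_7 lc_g_rc_26_0 lc_g_rc_26_6 lc_g_rc_21_3 lc_g_rc_21_3 lc_g_Cert_tree lc_g_Cert_tree lc_g_rc_21_2 lc_g_rc_21_2 lc_g_rc_27_3 lc_g_Cert_tree lc_g_rc_24_7 lc_g_Cert_tree lc_g_rc_24_3 lc_g_rc_23_7 lc_g_rc_21_2 lc_g_rc_25_3 lc_g_rc_26_3 lc_g_rc_26_0 lc_g_rc_24_3 lc_g_rc_26_3 lc_g_rc_26_9 lc_g_Cert_tree lc_g_rc_23_7 lc_g_rc_21_3 lc_g_rc_21_3 lc_g_rc_26_0 lc_g_rc_21_3 lc_g_Cert_tree lc_g_rc_23_1 lc_g_rc_23_9 lc_g_rc_27_3 lc_g_rc_26_3 lc_g_rc_21_2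 lc_g_rc_26_6 lc_g_Cert_tree lc_g_Cert_tree lc_g_rc_21_2 lc_g_Cert_tree lc_g_rc_27_3 lc_g_rc_21_2 lc_g_rc_21_2 lc_g_rc_23_1 lc_g_Cert_tree lc_g_rc_24_7 lc_g_rc_21_2 lc_g_rc_21_3 lc_g_Cert_tree lc_g_Cert_tree lc_g_rc_21_2 lc_g_rc_26_3 lc_g_rc_27_9 lc_g_Cert_tree lc_g_rc_26_6 lc_g_rc_21_3 lc_g_rc_21_2 lc_g_rc_21_3) (@D3.rec (fun _ => (Cert rels S Gen.g)) lc_g_rc_21_3 lc_g_Cert_tree lc_g_rc_24_7 lc_g_rc_21_2 lc_g_rc_26_3 lc_g_Cert_tree lc_g_rc_24_3 lc_g_Cert_tree lc_g_rc_23_1 lc_g_Cert_tree lc_g_Cert_tree lc_g_Cert_tree lc_g_Cert_tree lc_g_rc_27_6 lc_g_Cert_tree lc_g_Cert_tree lc_g_rc_26_6 lc_g_Cert_tree lc_g_Cert_tree lc_g_rc_26_3 lc_g_rc_21_2 lc_g_rc_27_9 lc_g_Cert_tree lc_g_rc_21_3 lc_g_Cert_tree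 lc_g_Cert_tree lc_g_rc_21_2 lc_g_rc_26_3 lc_g_rc_27_3 lc_g_rc_26_0 lc_g_rc_21_3 lc_g_Cert_tree lc_g_Cert_tree lc_g_rc_26_6 lc_g_rc_27_6 lc_g_Cert_tree lc_g_rc_26_3 lc_g_rc_21_2 lc_g_rc_23_7 lc_g_rc_26_3 lc_g_Cert_tree lc_g_Cert_tree lc_g_rc_21_2 lc_g_Cert_tree lc_g_rc_26_6 lc_g_rc_27_3 lc_g_rc_21_2 lc_g_rc_24_1 lc_g_rc_26_6 lc_g_rc_26_0 lc_g_rc_21_2 lc_g_rc_23_3 lc_g_rc_21_2 lc_g_Cert_tree lc_g_rc_24_1 lc_g_rc_21_3 lc_g_Cert_tree lc_g_rc_25_15 lc_g_Cert_tree lc_g_rc_23_3 lc_g_rc_26_3 lc_g_rc_26_3) (@D3.rec (fun _ => (Cert rels S Gen.g)) lc_g_rc_26_6 lc_g_Cert_tree lc_g_rc_24_3 lc_g_rc_26_0 lc_g_rc_27_9 lc_g_rc_21_3 lc_g_rc_24_7 lc_g_rc_21_3 lc_g_Cert_tree lc_g_rc_24_7 lc_g_rc_21_2 lc_g_rc_27_9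 lc_g_rc_26_6 lc_g_rc_26_0 lc_g_rc_23_3 lc_g_rc_21_3 lc_g_Cert_tree lc_g_rc_21_2 lc_g_rc_21_3 lc_g_rc_26_9 lc_g_rc_26_9 lc_g_Cert_tree lc_g_Cert_tree lc_g_rc_26_0 lc_g_rc_23_3 lc_g_rc_26_3 lc_g_rc_27_3 lc_g_rc_24_1 lc_g_rc_21_3 lc_g_Cert_tree lc_g_Cert_tree lc_g_rc_21_2 lc_g_rc_21_2 lc_g_rc_27_9 lc_g_Cert_tree lc_g_Cert_tree lc_g_rc_21_3 lc_g_rc_21_2 lc_g_rc_26_0 lc_g_rc_27_3 lc_g_rc_23_3 lc_g_Cert_tree lc_g_rc_26_6 lc_g_rc_27_6 lc_g_rc_21_2 lc_g_rc_24_1 lc_g_rc_21_3 lc_g_Cert_tree lc_g_rc_26_3 lc_g_rc_27_3 lc_g_rc_26_9 lc_g_rc_21_2 lc_g_rc_21_2 lc_g_rc_23_1 lc_g_rc_23_1 lc_g_Cert_tree lc_g_rc_21_3 lc_g_rc_27_9 lc_g_rc_21_3 lc_g_Cert_tree lc_g_rc_26_9 lc_g_rc_23_3) (@D3.rec (fun _ => (Cert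 rels S Gen.g)) lc_g_rc_21_2 lc_g_rc_23_7 lc_g_rc_21_2 lc_g_Cert_tree lc_g_rc_21_3 lc_g_Cert_tree lc_g_Cert_tree lc_g_rc_27_6 lc_g_rc_23_7 lc_g_rc_24_7 lc_g_rc_27_0 lc_g_rc_24_3 lc_g_Cert_tree lc_g_Cert_tree lc_g_Cert_tree lc_g_Cert_tree lc_g_Cert_tree lc_g_rc_21_2 lc_g_rc_27_3 lc_g_rc_23_3 lc_g_rc_21_2 lc_g_rc_26_0 lc_g_rc_27_9 lc_g_rc_21_3 lc_g_Cert_tree lc_g_rc_27_6 lc_g_rc_21_2 lc_g_rc_24_7 lc_g_rc_23_7 lc_g_rc_21_2 lc_g_rc_24_3 lc_g_rc_21_2 lc_g_Cert_tree lc_g_Cert_tree lc_g_rc_21_3 lc_g_Cert_tree lc_g_rc_27_6 lc_g_rc_26_3 lc_g_rc_24_1 lc_g_Cert_tree lc_g_rc_27_0 lc_g_rc_25_15 lc_g_rc_21_3 lc_g_Cert_tree lc_g_rc_26_0 lc_g_rc_23_9 lc_g_rc_21_3 lc_g_Cert_tree lc_g_Cert_tree lc_g_Cert_tree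 lc_g_Cert_tree lc_g_Cert_tree lc_g_rc_24_1 lc_g_Cert_tree lc_g_rc_21_2 lc_g_Cert_tree lc_g_rc_21_3 lc_g_rc_23_1 lc_g_Cert_tree lc_g_rc_23_1 lc_g_Cert_tree lc_g_rc_21_3) (@D3.rec (fun _ => (Cert rels S Gen.g)) lc_g_Cert_tree lc_g_rc_21_2 lc_g_rc_21_3 lc_g_rc_24_3 lc_g_Cert_tree lc_g_rc_26_9 lc_g_rc_23_7 lc_g_rc_21_3 lc_g_Cert_tree lc_g_Cert_tree lc_g_rc_27_3 lc_g_rc_23_3 lc_g_rc_24_7 lc_g_Cert_tree lc_g_rc_25_15 lc_g_Cert_tree lc_g_rc_21_2 lc_g_rc_27_6 lc_g_rc_26_6 lc_g_rc_26_6 lc_g_Cert_tree lc_g_rc_26_6 lc_g_rc_21_2 lc_g_rc_21_2 lc_g_rc_26_6 lc_g_rc_21_2 lc_g_rc_24_1 lc_g_Cert_tree lc_g_rc_21_3 lc_g_Cert_tree lc_g_rc_26_3 lc_g_Cert_tree lc_g_rc_21_3 lc_g_Cert_tree lc_g_Cert_tree lc_g_rc_21_3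 lc_g_Cert_tree lc_g_rc_24_1 lc_g_rc_27_3 lc_g_rc_26_3 lc_g_rc_24_7 lc_g_rc_21_3 lc_g_Cert_tree lc_g_rc_24_1 lc_g_rc_26_9 lc_g_rc_23_3 lc_g_rc_24_1 lc_g_Cert_tree lc_g_rc_23_9 lc_g_rc_27_0 lc_g_rc_21_3 lc_g_Cert_tree lc_g_rc_23_7 lc_g_rc_24_9 lc_g_Cert_tree lc_g_rc_23_3 lc_g_rc_27_0 lc_g_rc_24_1 lc_g_rc_25_11 lc_g_rc_24_9 lc_g_rc_24_9 lc_g_Cert_tree) (@D3.rec (fun _ => (Cert rels S Gen.g)) lc_g_rc_24_9 lc_g_rc_27_3 lc_g_rc_23_9 lc_g_Cert_tree lc_g_rc_21_3 lc_g_Cert_tree lc_g_rc_23_9 lc_g_rc_21_2 lc_g_Cert_tree lc_g_Cert_tree lc_g_rc_21_3 lc_g_rc_26_6 lc_g_rc_24_1 lc_g_rc_21_3 lc_g_Cert_tree lc_g_rc_21_3 lc_g_rc_26_6 lc_g_Cert_tree lc_g_rc_27_3 lc_g_rc_21_3 lc_g_rc_21_3 lc_g_Cert_tree lc_g_rc_21_2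 lc_g_Cert_tree lc_g_rc_23_3 lc_g_Cert_tree lc_g_rc_21_2 lc_g_rc_21_2 lc_g_rc_21_3 lc_g_Cert_tree lc_g_rc_21_2 lc_g_rc_24_3 lc_g_Cert_tree lc_g_rc_27_3 lc_g_rc_26_9 lc_g_rc_27_3 lc_g_Cert_tree lc_g_Cert_tree lc_g_rc_26_6 lc_g_rc_26_0 lc_g_rc_23_7 lc_g_rc_23_9 lc_g_rc_21_2 lc_g_rc_21_3 lc_g_Cert_tree lc_g_Cert_tree lc_g_Cert_tree lc_g_rc_25_7 lc_g_Cert_tree lc_g_rc_23_1 lc_g_Cert_tree lc_g_rc_21_2 lc_g_Cert_tree lc_g_rc_21_3 lc_g_Cert_tree lc_g_rc_21_2 lc_g_rc_25_3 lc_g_rc_27_6 lc_g_rc_21_3 lc_g_Cert_tree lc_g_rc_27_3 lc_g_rc_26_0) (@D3.rec (fun _ => (Cert rels S Gen.g)) lc_g_rc_27_3 lc_g_rc_24_7 lc_g_rc_21_3 lc_g_rc_26_3 lc_g_rc_21_2 lc_g_rc_24_3 lc_g_Cert_tree lc_g_rc_23_3 lc_g_rc_26_0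 lc_g_rc_21_3 lc_g_rc_27_6 lc_g_rc_26_3 lc_g_rc_21_2 lc_g_rc_24_9 lc_g_Cert_tree lc_g_rc_21_3 lc_g_Cert_tree lc_g_Cert_tree lc_g_rc_21_2 lc_g_rc_21_3 lc_g_Cert_tree lc_g_rc_21_2 lc_g_Cert_tree lc_g_rc_23_3 lc_g_rc_21_2 lc_g_rc_27_0 lc_g_rc_23_3 lc_g_rc_24_1 lc_g_rc_25_19 lc_g_rc_27_6 lc_g_Cert_tree lc_g_Cert_tree lc_g_rc_26_6 lc_g_rc_21_3 lc_g_rc_27_3 lc_g_rc_26_3 lc_g_rc_21_2 lc_g_rc_27_9 lc_g_rc_27_6 lc_g_rc_21_3 lc_g_rc_24_3 lc_g_rc_21_2 lc_g_rc_21_3 lc_g_rc_21_2 lc_g_rc_24_9 lc_g_rc_21_2 lc_g_rc_27_3 lc_g_rc_21_3 lc_g_Cert_tree lc_g_Cert_tree lc_g_Cert_tree lc_g_rc_27_6 lc_g_rc_26_3 lc_g_rc_27_0 lc_g_rc_21_2 lc_g_Cert_tree lc_g_Cert_tree lc_g_rc_27_9 lc_g_rc_24_3 lc_g_rc_21_2 lc_g_rc_21_2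 lc_g_rc_26_3) (@D3.rec (fun _ => (Cert rels S Gen.g)) lc_g_rc_26_6 lc_g_rc_24_7 lc_g_rc_24_3 lc_g_rc_27_3 lc_g_rc_27_6 lc_g_rc_21_3 lc_g_Cert_tree lc_g_rc_21_2 lc_g_rc_23_1 lc_g_rc_21_2 lc_g_rc_25_11 lc_g_rc_21_2 lc_g_Cert_tree lc_g_Cert_tree lc_g_rc_21_3 lc_g_rc_21_3 lc_g_Cert_tree lc_g_rc_21_2 lc_g_rc_26_3 lc_g_rc_21_2 lc_g_rc_24_3 lc_g_Cert_tree lc_g_Cert_tree lc_g_rc_21_2 lc_g_Cert_tree lc_g_rc_21_3 lc_g_rc_27_3 lc_g_Cert_tree lc_g_rc_21_2 lc_g_Cert_tree lc_g_rc_21_2 lc_g_rc_24_3 lc_g_rc_27_3 lc_g_rc_27_3 lc_g_rc_23_1 lc_g_Cert_tree lc_g_Cert_tree lc_g_rc_26_3 lc_g_rc_27_6 lc_g_rc_21_3 lc_g_Cert_tree lc_g_rc_21_2 lc_g_rc_21_3 lc_g_Cert_tree lc_g_rc_21_2 lc_g_rc_23_3 lc_g_rc_21_2 lc_g_rc_21_3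 lc_g_rc_21_2 lc_g_Cert_tree lc_g_rc_27_0 lc_g_rc_27_6 lc_g_rc_21_2 lc_g_rc_21_2 lc_g_rc_27_3 lc_g_rc_26_3 lc_g_Cert_tree lc_g_rc_23_1 lc_g_rc_23_3 lc_g_rc_21_2 lc_g_Cert_tree lc_g_rc_21_2) (@D3.rec (fun _ => (Cert rels S Gen.g)) lc_g_rc_21_2 lc_g_rc_27_0 lc_g_rc_23_9 lc_g_rc_21_3 lc_g_Cert_tree lc_g_Cert_tree lc_g_rc_26_6 lc_g_rc_21_2 lc_g_Cert_tree lc_g_rc_27_3 lc_g_rc_27_3 lc_g_rc_24_3 lc_g_rc_24_1 lc_g_rc_27_6 lc_g_rc_21_3 lc_g_rc_27_0 lc_g_rc_26_0 lc_g_Cert_tree lc_g_Cert_tree lc_g_Cert_tree lc_g_Cert_tree lc_g_rc_27_3 lc_g_Cert_tree lc_g_Cert_tree lc_g_Cert_tree lc_g_rc_24_7 lc_g_rc_21_3 lc_g_Cert_tree lc_g_Cert_tree lc_g_Cert_tree lc_g_rc_27_3 lc_g_rc_24_3 lc_g_rc_21_3 lc_g_rc_26_9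 lc_g_rc_26_3 lc_g_rc_21_3 lc_g_Cert_tree lc_g_Cert_tree lc_g_Cert_tree lc_g_rc_23_9 lc_g_rc_26_0 lc_g_rc_27_9 lc_g_rc_24_1 lc_g_rc_21_2 lc_g_rc_21_3 lc_g_Cert_tree lc_g_Cert_tree lc_g_rc_21_2 lc_g_Cert_tree lc_g_rc_21_3 lc_g_Cert_tree lc_g_Cert_tree lc_g_Cert_tree lc_g_rc_24_3 lc_g_Cert_tree lc_g_rc_24_3 lc_g_Cert_tree lc_g_rc_26_9 lc_g_rc_23_3 lc_g_rc_24_1 lc_g_rc_21_2 lc_g_Cert_tree) (@D3.rec (fun _ => (Cert rels S Gen.g)) lc_g_rc_21_3 lc_g_Cert_tree lc_g_Cert_tree lc_g_rc_24_3 lc_g_rc_21_2 lc_g_Cert_tree lc_g_rc_21_2 lc_g_rc_21_2 lc_g_Cert_tree lc_g_Cert_tree lc_g_rc_23_3 lc_g_rc_21_2 lc_g_Cert_tree lc_g_Cert_tree lc_g_rc_26_6 lc_g_Cert_tree lc_g_rc_27_6 lc_g_rc_26_9 lc_g_Cert_tree lc_g_rc_21_2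 lc_g_Cert_tree lc_g_Cert_tree lc_g_rc_27_9 lc_g_Cert_tree lc_g_rc_27_6 lc_g_rc_23_9 lc_g_rc_27_0 lc_g_Cert_tree lc_g_Cert_tree lc_g_rc_21_2 lc_g_Cert_tree lc_g_rc_24_1 lc_g_rc_23_3 lc_g_Cert_tree lc_g_rc_21_3 lc_g_rc_27_3 lc_g_rc_21_2 lc_g_rc_27_0 lc_g_Cert_tree lc_g_rc_21_3 lc_g_Cert_tree lc_g_rc_21_2 lc_g_Cert_tree lc_g_rc_21_3 lc_g_rc_21_3 lc_g_Cert_tree lc_g_rc_21_2 lc_g_Cert_tree lc_g_Cert_tree lc_g_rc_21_3 lc_g_Cert_tree lc_g_rc_25_19 lc_g_Cert_tree lc_g_rc_27_6 lc_g_Cert_tree lc_g_rc_27_6 lc_g_rc_24_3 lc_g_rc_23_3 lc_g_rc_21_2 lc_g_rc_23_3 lc_g_Cert_tree lc_g_rc_24_3) (@D3.rec (fun _ => (Cert rels S Gen.g)) lc_g_rc_26_0 lc_g_Cert_tree lc_g_rc_21_2 lc_g_rc_26_6 lc_g_Cert_tree lc_g_rc_26_3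 lc_g_Cert_tree lc_g_rc_21_3 lc_g_rc_26_0 lc_g_rc_24_3 lc_g_rc_26_6 lc_g_rc_24_3 lc_g_rc_21_3 lc_g_Cert_tree lc_g_rc_21_3 lc_g_rc_27_6 lc_g_Cert_tree lc_g_rc_27_6 lc_g_rc_27_9 lc_g_rc_26_0 lc_g_rc_23_7 lc_g_rc_21_2 lc_g_rc_21_3 lc_g_Cert_tree lc_g_rc_27_3 lc_g_rc_21_2 lc_g_rc_21_3 lc_g_rc_21_2 lc_g_rc_21_2 lc_g_Cert_tree lc_g_rc_21_3 lc_g_rc_24_3 lc_g_Cert_tree lc_g_rc_21_3 lc_g_rc_21_3 lc_g_rc_27_0 lc_g_rc_23_3 lc_g_Cert_tree lc_g_rc_23_3 lc_g_rc_21_2 lc_g_rc_23_1 lc_g_Cert_tree lc_g_rc_21_3 lc_g_rc_26_3 lc_g_rc_23_7 lc_g_rc_21_3 lc_g_Cert_tree lc_g_rc_21_2 lc_g_rc_21_2 lc_g_rc_21_2 lc_g_rc_21_3 lc_g_rc_26_3 lc_g_rc_24_1 lc_g_rc_21_3 lc_g_Cert_tree lc_g_rc_27_6 lc_g_Cert_tree lc_g_rc_21_2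 lc_g_rc_24_1 lc_g_rc_27_6 lc_g_rc_21_2 lc_g_rc_26_9) (@D3.rec (fun _ => (Cert rels S Gen.g)) lc_g_rc_26_9 lc_g_rc_26_9 lc_g_rc_26_3 lc_g_Cert_tree lc_g_rc_21_2 lc_g_rc_24_1 lc_g_rc_21_3 lc_g_Cert_tree lc_g_rc_24_7 lc_g_rc_24_7 lc_g_rc_21_3 lc_g_rc_26_9 lc_g_rc_21_3 lc_g_Cert_tree lc_g_Cert_tree lc_g_rc_21_3 lc_g_Cert_tree lc_g_rc_21_3 lc_g_Cert_tree lc_g_Cert_tree lc_g_rc_21_2 lc_g_rc_26_9 lc_g_rc_27_6 lc_g_rc_21_2 lc_g_rc_21_2 lc_g_rc_27_6 lc_g_rc_26_3 lc_g_rc_21_2 lc_g_rc_21_2 lc_g_rc_23_7 lc_g_Cert_tree lc_g_rc_26_0 lc_g_Cert_tree lc_g_rc_26_0 lc_g_Cert_tree lc_g_rc_26_3 lc_g_rc_21_3 lc_g_Cert_tree lc_g_rc_21_2 lc_g_rc_21_2 lc_g_rc_21_3 lc_g_Cert_tree lc_g_rc_24_3 lc_g_Cert_tree lc_g_rc_26_3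 lc_g_rc_21_2 lc_g_rc_21_3 lc_g_Cert_tree lc_g_rc_21_2 lc_g_rc_21_2 lc_g_Cert_tree lc_g_rc_21_3 lc_g_rc_26_9 lc_g_rc_21_3 lc_g_Cert_tree lc_g_Cert_tree lc_g_Cert_tree lc_g_rc_27_0 lc_g_Cert_tree lc_g_rc_27_6 lc_g_rc_21_2 lc_g_rc_21_2) (@D3.rec (fun _ => (Cert rels S Gen.g)) lc_g_rc_21_3 lc_g_rc_26_3 lc_g_rc_24_7 lc_g_rc_27_3 lc_g_rc_23_1 lc_g_rc_24_3 lc_g_rc_27_3 lc_g_rc_27_6 lc_g_rc_24_3 lc_g_Cert_tree lc_g_rc_27_6 lc_g_rc_21_3 lc_g_Cert_tree lc_g_rc_21_2 lc_g_Cert_tree lc_g_rc_21_2 lc_g_rc_27_6 lc_g_rc_21_2 lc_g_Cert_tree lc_g_rc_21_2 lc_g_rc_24_7 lc_g_rc_21_2 lc_g_rc_27_6 lc_g_rc_26_3 lc_g_Cert_tree lc_g_rc_21_2 lc_g_Cert_tree lc_g_rc_26_0 lc_g_rc_21_3 lc_g_Cert_tree lc_g_rc_24_9 lc_g_rc_24_1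 lc_g_rc_27_6 lc_g_rc_27_6 lc_g_rc_21_3 lc_g_Cert_tree lc_g_rc_21_2 lc_g_rc_21_3 lc_g_Cert_tree lc_g_rc_21_3 lc_g_Cert_tree lc_g_rc_27_0 lc_g_rc_21_3 lc_g_rc_21_3 lc_g_Cert_tree lc_g_rc_21_2 lc_g_Cert_tree lc_g_rc_26_0 lc_g_rc_24_9 lc_g_rc_21_3 lc_g_rc_23_7 lc_g_Cert_tree lc_g_rc_27_9 lc_g_Cert_tree lc_g_rc_27_9 lc_g_Cert_tree lc_g_rc_21_3 lc_g_rc_21_3 lc_g_rc_23_3 lc_g_rc_21_3 lc_g_Cert_tree lc_g_Cert_tree) (@D3.rec (fun _ => (Cert rels S Gen.g)) lc_g_rc_26_3 lc_g_rc_21_2 lc_g_rc_21_2 lc_g_rc_26_6 lc_g_Cert_tree lc_g_rc_27_6 lc_g_rc_21_3 lc_g_rc_26_0 lc_g_rc_23_7 lc_g_rc_27_6 lc_g_rc_21_2 lc_g_rc_21_3 lc_g_Cert_tree lc_g_rc_26_6 lc_g_rc_21_3 lc_g_Cert_tree lc_g_rc_21_3 lc_g_Cert_tree lc_g_Cert_tree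 lc_g_rc_23_9 lc_g_rc_26_6 lc_g_rc_26_6 lc_g_rc_21_2 lc_g_rc_27_9 lc_g_rc_21_2 lc_g_rc_21_3 lc_g_Cert_tree lc_g_rc_23_3 lc_g_rc_27_6 lc_g_rc_21_2 lc_g_Cert_tree lc_g_rc_24_7 lc_g_Cert_tree lc_g_rc_26_0 lc_g_rc_27_6 lc_g_rc_21_2 lc_g_rc_27_0 lc_g_rc_24_3 lc_g_rc_21_2 lc_g_rc_26_3 lc_g_Cert_tree lc_g_rc_27_9 lc_g_Cert_tree lc_g_Cert_tree lc_g_Cert_tree lc_g_rc_27_9 lc_g_Cert_tree lc_g_rc_21_2 lc_g_Cert_tree lc_g_Cert_tree lc_g_rc_27_0 lc_g_rc_23_7 lc_g_rc_26_3 lc_g_rc_21_2 lc_g_rc_21_2 lc_g_rc_21_3 lc_g_rc_27_0 lc_g_rc_24_3 lc_g_Cert_tree lc_g_rc_21_3 lc_g_rc_27_3 lc_g_rc_21_2) (@D3.rec (fun _ => (Cert rels S Gen.g)) lc_g_rc_27_3 lc_g_rc_21_2 lc_g_rc_21_2 lc_g_rc_21_3 lc_g_Cert_tree lc_g_rc_23_9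 lc_g_Cert_tree lc_g_rc_21_3 lc_g_Cert_tree lc_g_Cert_tree lc_g_rc_26_6 lc_g_rc_24_7 lc_g_rc_21_2 lc_g_Cert_tree lc_g_rc_27_3 lc_g_rc_21_2 lc_g_rc_24_1 lc_g_Cert_tree lc_g_rc_21_3 lc_g_rc_23_1 lc_g_rc_21_3 lc_g_Cert_tree lc_g_Cert_tree lc_g_rc_21_2 lc_g_rc_26_6 lc_g_rc_23_1 lc_g_rc_21_3 lc_g_rc_24_7 lc_g_rc_26_6 lc_g_Cert_tree lc_g_rc_21_3 lc_g_Cert_tree lc_g_rc_26_3 lc_g_rc_27_3 lc_g_rc_24_7 lc_g_Cert_tree lc_g_rc_26_6 lc_g_rc_27_3 lc_g_rc_21_2 lc_g_rc_21_3 lc_g_rc_27_3 lc_g_rc_21_2 lc_g_rc_23_1 lc_g_Cert_tree lc_g_rc_26_6 lc_g_rc_23_9 lc_g_rc_21_2 lc_g_Cert_tree lc_g_Cert_tree lc_g_rc_23_7 lc_g_rc_27_6 lc_g_rc_21_2 lc_g_rc_26_6 lc_g_Cert_tree lc_g_rc_27_0 lc_g_rc_26_0 lc_g_rc_21_3 lc_g_rc_23_3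 lc_g_Cert_tree lc_g_rc_21_3 lc_g_Cert_tree lc_g_Cert_tree) (@D3.rec (fun _ => (Cert rels S Gen.g)) lc_g_rc_26_6 lc_g_Cert_tree lc_g_rc_27_0 lc_g_rc_26_0 lc_g_rc_21_2 lc_g_rc_21_2 lc_g_rc_24_7 lc_g_rc_27_6 lc_g_rc_27_3 lc_g_rc_21_2 lc_g_rc_21_3 lc_g_rc_21_2 lc_g_Cert_tree lc_g_rc_24_7 lc_g_rc_21_3 lc_g_rc_27_6 lc_g_Cert_tree lc_g_rc_27_6 lc_g_rc_21_2 lc_g_rc_21_3 lc_g_Cert_tree lc_g_rc_21_2 lc_g_rc_21_2 lc_g_rc_23_3 lc_g_Cert_tree lc_g_rc_21_3 lc_g_rc_21_3 lc_g_Cert_tree lc_g_Cert_tree lc_g_rc_21_2 lc_g_rc_21_3 lc_g_Cert_tree lc_g_rc_21_2 lc_g_rc_21_2 lc_g_rc_26_3 lc_g_rc_24_1 lc_g_rc_26_6 lc_g_rc_23_7 lc_g_Cert_tree lc_g_rc_27_3 lc_g_rc_26_0 lc_g_rc_21_3 lc_g_rc_23_3 lc_g_Cert_tree lc_g_Cert_tree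 lc_g_rc_21_2 lc_g_rc_26_3 lc_g_rc_26_9 lc_g_rc_26_3 lc_g_rc_24_1 lc_g_rc_21_2 lc_g_Cert_tree lc_g_rc_23_3 lc_g_rc_26_3 lc_g_rc_21_2 lc_g_Cert_tree lc_g_rc_23_7 lc_g_rc_21_3 lc_g_Cert_tree lc_g_rc_21_2 lc_g_rc_21_3 lc_g_Cert_tree) (@D3.rec (fun _ => (Cert rels S Gen.g)) lc_g_rc_26_0 lc_g_Cert_tree lc_g_rc_23_3 lc_g_rc_26_0 lc_g_rc_26_3 lc_g_rc_27_6 lc_g_Cert_tree lc_g_rc_21_3 lc_g_rc_21_2 lc_g_Cert_tree lc_g_rc_24_3 lc_g_rc_23_7 lc_g_rc_27_6 lc_g_rc_21_3 lc_g_rc_21_2 lc_g_Cert_tree lc_g_Cert_tree lc_g_Cert_tree lc_g_rc_21_2 lc_g_rc_21_3 lc_g_rc_26_6 lc_g_Cert_tree lc_g_rc_26_0 lc_g_rc_23_3 lc_g_rc_21_3 lc_g_rc_27_6 lc_g_rc_21_3 lc_g_Cert_tree lc_g_rc_24_1 lc_g_rc_27_6 lc_g_rc_27_6 lc_g_Cert_tree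 lc_g_rc_21_3 lc_g_Cert_tree lc_g_rc_21_2 lc_g_rc_21_2 lc_g_Cert_tree lc_g_rc_23_3 lc_g_rc_26_6 lc_g_Cert_tree lc_g_rc_27_0 lc_g_rc_26_9 lc_g_rc_24_9 lc_g_rc_21_3 lc_g_rc_23_3 lc_g_Cert_tree lc_g_rc_26_0 lc_g_rc_26_6 lc_g_rc_27_6 lc_g_rc_21_3 lc_g_rc_21_3 lc_g_rc_27_6 lc_g_rc_23_3 lc_g_rc_21_2 lc_g_rc_21_3 lc_g_Cert_tree lc_g_rc_26_3 lc_g_rc_21_3 lc_g_Cert_tree lc_g_rc_21_2 lc_g_rc_26_0 lc_g_rc_21_3)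
def ce_g_13 : D2 → D3 → (Cert rels S Gen.g) := @D2.rec (fun _ => D3 → (Cert rels S Gen.g)) (@D3.rec (fun _ => (Cert rels S Gen.g)) lc_g_rc_27_6 lc_g_Cert_tree lc_g_rc_21_3 lc_g_rc_21_2 lc_g_Cert_tree lc_g_rc_26_0 lc_g_Cert_tree lc_g_rc_26_6 lc_g_Cert_tree lc_g_Cert_tree lc_g_rc_26_9 lc_g_rc_21_3 lc_g_rc_23_3 lc_g_Cert_tree lc_g_rc_21_2 lc_g_rc_21_2 lc_g_rc_26_0 lc_g_rc_26_0 lc_g_rc_23_7 lc_g_rc_26_0 lc_g_rc_21_3 lc_g_rc_21_2 lc_g_rc_27_6 lc_g_rc_23_1 lc_g_rc_25_19 lc_g_Cert_tree lc_g_rc_27_3 lc_g_rc_21_2 lc_g_rc_21_3 lc_g_rc_26_3 lc_g_rc_21_3 lc_g_Cert_tree lc_g_Cert_tree lc_g_rc_21_2 lc_g_Cert_tree lc_g_rc_27_3 lc_g_rc_21_3 lc_g_Cert_tree lc_g_rc_21_2 lc_g_rc_23_7 lc_g_Cert_tree lc_g_rc_26_9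 lc_g_rc_26_0 lc_g_rc_26_3 lc_g_rc_27_6 lc_g_rc_26_3 lc_g_rc_21_3 lc_g_rc_21_3 lc_g_Cert_tree lc_g_rc_24_7 lc_g_rc_21_2 lc_g_rc_21_3 lc_g_Cert_tree lc_g_rc_26_0 lc_g_rc_26_0 lc_g_rc_24_9 lc_g_rc_26_9 lc_g_Cert_tree lc_g_rc_21_3 lc_g_rc_27_3 lc_g_rc_26_9 lc_g_rc_26_9) (@D3.rec (fun _ => (Cert rels S Gen.g)) lc_g_rc_27_6 lc_g_rc_24_3 lc_g_Cert_tree lc_g_rc_23_1 lc_g_rc_26_3 lc_g_rc_21_2 lc_g_rc_21_3 lc_g_Cert_tree lc_g_Cert_tree lc_g_rc_24_7 lc_g_rc_26_6 lc_g_rc_21_2 lc_g_rc_27_6 lc_g_Cert_tree lc_g_Cert_tree lc_g_Cert_tree lc_g_rc_27_6 lc_g_Cert_tree lc_g_Cert_tree lc_g_rc_26_6 lc_g_rc_27_9 lc_g_rc_26_3 lc_g_rc_27_0 lc_g_rc_21_3 lc_g_rc_24_9 lc_g_rc_23_3 lc_g_rc_21_3 lc_g_rc_26_6 lc_g_rc_27_3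 lc_g_rc_24_7 lc_g_rc_23_9 lc_g_rc_26_3 lc_g_rc_24_7 lc_g_rc_27_6 lc_g_rc_26_6 lc_g_Cert_tree lc_g_rc_21_2 lc_g_rc_27_0 lc_g_rc_21_2 lc_g_rc_27_6 lc_g_rc_21_3 lc_g_rc_26_3 lc_g_rc_27_3 lc_g_rc_27_3 lc_g_Cert_tree lc_g_rc_21_2 lc_g_rc_25_7 lc_g_rc_21_3 lc_g_Cert_tree lc_g_rc_27_3 lc_g_rc_23_9 lc_g_rc_23_7 lc_g_rc_27_9 lc_g_rc_24_3 lc_g_Cert_tree lc_g_rc_26_6 lc_g_rc_21_2 lc_g_rc_23_3 lc_g_Cert_tree lc_g_rc_21_3 lc_g_rc_26_6 lc_g_rc_26_6) (@D3.rec (fun _ => (Cert rels S Gen.g)) lc_g_rc_26_3 lc_g_rc_27_6 lc_g_Cert_tree lc_g_rc_23_7 lc_g_rc_21_3 lc_g_Cert_tree lc_g_Cert_tree lc_g_rc_27_6 lc_g_Cert_tree lc_g_rc_21_3 lc_g_rc_21_3 lc_g_rc_21_3 lc_g_rc_24_7 lc_g_rc_21_3 lc_g_rc_27_3 lc_g_rc_24_1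 lc_g_rc_21_3 lc_g_rc_26_6 lc_g_rc_21_3 lc_g_rc_21_2 lc_g_rc_23_1 lc_g_rc_27_3 lc_g_rc_24_3 lc_g_rc_26_3 lc_g_rc_24_3 lc_g_rc_27_0 lc_g_rc_21_3 lc_g_Cert_tree lc_g_rc_21_2 lc_g_Cert_tree lc_g_rc_21_2 lc_g_Cert_tree lc_g_rc_27_9 lc_g_Cert_tree lc_g_rc_26_6 lc_g_rc_21_3 lc_g_Cert_tree lc_g_rc_21_2 lc_g_rc_23_7 lc_g_Cert_tree lc_g_Cert_tree lc_g_Cert_tree lc_g_rc_21_2 lc_g_rc_23_1 lc_g_Cert_tree lc_g_rc_23_3 lc_g_Cert_tree lc_g_rc_24_9 lc_g_rc_26_0 lc_g_rc_21_3 lc_g_Cert_tree lc_g_Cert_tree lc_g_rc_21_2 lc_g_rc_27_9 lc_g_rc_26_6 lc_g_rc_24_1 lc_g_Cert_tree lc_g_rc_21_2 lc_g_rc_21_2 lc_g_rc_23_9 lc_g_rc_23_3 lc_g_rc_23_3) (@D3.rec (fun _ => (Cert rels S Gen.g)) lc_g_rc_26_6 lc_g_Cert_tree lc_g_rc_23_3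 lc_g_rc_23_1 lc_g_rc_23_7 lc_g_rc_27_6 lc_g_rc_21_3 lc_g_rc_21_3 lc_g_Cert_tree lc_g_Cert_tree lc_g_rc_21_2 lc_g_rc_23_7 lc_g_rc_21_3 lc_g_Cert_tree lc_g_rc_24_7 lc_g_rc_21_2 lc_g_rc_26_0 lc_g_rc_21_3 lc_g_Cert_tree lc_g_rc_21_2 lc_g_rc_21_3 lc_g_rc_27_3 lc_g_rc_21_3 lc_g_Cert_tree lc_g_Cert_tree lc_g_rc_21_3 lc_g_rc_21_2 lc_g_Cert_tree lc_g_rc_25_11 lc_g_rc_23_9 lc_g_Cert_tree lc_g_Cert_tree lc_g_Cert_tree lc_g_rc_21_3 lc_g_Cert_tree lc_g_rc_24_7 lc_g_rc_24_1 lc_g_Cert_tree lc_g_rc_21_2 lc_g_Cert_tree lc_g_Cert_tree lc_g_rc_27_3 lc_g_rc_24_7 lc_g_rc_21_3 lc_g_Cert_tree lc_g_Cert_tree lc_g_rc_21_2 lc_g_rc_21_2 lc_g_rc_21_2 lc_g_rc_21_2 lc_g_rc_23_7 lc_g_rc_21_3 lc_g_rc_21_2 lc_g_Cert_tree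 lc_g_rc_25_7 lc_g_rc_24_3 lc_g_Cert_tree lc_g_rc_23_7 lc_g_Cert_tree lc_g_Cert_tree lc_g_rc_27_3 lc_g_rc_24_7) (@D3.rec (fun _ => (Cert rels S Gen.g)) lc_g_rc_24_1 lc_g_rc_24_3 lc_g_rc_21_3 lc_g_Cert_tree lc_g_rc_21_2 lc_g_Cert_tree lc_g_Cert_tree lc_g_rc_24_1 lc_g_Cert_tree lc_g_rc_27_6 lc_g_rc_21_3 lc_g_rc_26_6 lc_g_rc_21_3 lc_g_rc_23_7 lc_g_Cert_tree lc_g_rc_24_7 lc_g_rc_24_3 lc_g_rc_23_9 lc_g_Cert_tree lc_g_rc_21_3 lc_g_Cert_tree lc_g_Cert_tree lc_g_rc_27_3 lc_g_Cert_tree lc_g_Cert_tree lc_g_rc_21_2 lc_g_Cert_tree lc_g_rc_21_3 lc_g_Cert_tree lc_g_rc_21_2 lc_g_rc_26_6 lc_g_Cert_tree lc_g_rc_27_6 lc_g_rc_21_3 lc_g_Cert_tree lc_g_rc_21_2 lc_g_Cert_tree lc_g_rc_21_3 lc_g_Cert_tree lc_g_Cert_tree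 lc_g_Cert_tree lc_g_rc_21_3 lc_g_Cert_tree lc_g_rc_21_2 lc_g_rc_21_3 lc_g_Cert_tree lc_g_rc_21_2 lc_g_rc_21_3 lc_g_rc_23_3 lc_g_rc_26_3 lc_g_Cert_tree lc_g_rc_27_3 lc_g_rc_27_3 lc_g_rc_21_3 lc_g_Cert_tree lc_g_rc_21_2 lc_g_rc_21_3 lc_g_Cert_tree lc_g_rc_26_9 lc_g_Cert_tree lc_g_rc_21_2 lc_g_rc_26_0) (@D3.rec (fun _ => (Cert rels S Gen.g)) lc_g_Cert_tree lc_g_rc_24_9 lc_g_Cert_tree lc_g_Cert_tree lc_g_rc_21_2 lc_g_rc_21_3 lc_g_rc_21_3 lc_g_Cert_tree lc_g_rc_26_9 lc_g_rc_21_2 lc_g_rc_27_0 lc_g_rc_24_7 lc_g_Cert_tree lc_g_rc_27_6 lc_g_Cert_tree lc_g_rc_21_3 lc_g_Cert_tree lc_g_Cert_tree lc_g_rc_27_3 lc_g_rc_21_3 lc_g_rc_24_9 lc_g_Cert_tree lc_g_rc_24_7 lc_g_rc_27_9 lc_g_Cert_tree lc_g_rc_26_0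 lc_g_Cert_tree lc_g_rc_23_7 lc_g_rc_21_2 lc_g_rc_21_3 lc_g_Cert_tree lc_g_Cert_tree lc_g_rc_21_2 lc_g_Cert_tree lc_g_Cert_tree lc_g_rc_27_6 lc_g_rc_26_0 lc_g_rc_21_2 lc_g_rc_26_3 lc_g_rc_21_3 lc_g_Cert_tree lc_g_Cert_tree lc_g_rc_21_2 lc_g_rc_26_6 lc_g_rc_21_3 lc_g_Cert_tree lc_g_rc_23_7 lc_g_rc_23_7 lc_g_rc_24_1 lc_g_rc_21_3 lc_g_Cert_tree lc_g_Cert_tree lc_g_rc_21_2 lc_g_rc_21_3 lc_g_Cert_tree lc_g_Cert_tree lc_g_Cert_tree lc_g_rc_21_2 lc_g_Cert_tree lc_g_rc_24_7 lc_g_Cert_tree lc_g_rc_24_7) (@D3.rec (fun _ => (Cert rels S Gen.g)) lc_g_rc_21_3 lc_g_rc_24_7 lc_g_Cert_tree lc_g_rc_24_3 lc_g_Cert_tree lc_g_rc_21_3 lc_g_Cert_tree lc_g_rc_26_9 lc_g_rc_24_7 lc_g_Cert_tree lc_g_rc_21_2 lc_g_rc_21_2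 lc_g_rc_21_2 lc_g_Cert_tree lc_g_Cert_tree lc_g_rc_26_3 lc_g_rc_23_1 lc_g_rc_23_7 lc_g_rc_21_3 lc_g_rc_23_3 lc_g_rc_21_2 lc_g_rc_21_2 lc_g_rc_21_2 lc_g_Cert_tree lc_g_rc_24_7 lc_g_Cert_tree lc_g_rc_21_3 lc_g_Cert_tree lc_g_Cert_tree lc_g_rc_21_3 lc_g_Cert_tree lc_g_rc_21_2 lc_g_Cert_tree lc_g_rc_26_9 lc_g_rc_21_2 lc_g_rc_26_9 lc_g_rc_23_1 lc_g_rc_21_3 lc_g_rc_26_9 lc_g_rc_21_2 lc_g_rc_26_6 lc_g_Cert_tree lc_g_rc_21_3 lc_g_rc_27_9 lc_g_rc_21_3 lc_g_rc_27_6 lc_g_rc_26_6 lc_g_rc_26_6 lc_g_rc_21_2 lc_g_Cert_tree lc_g_Cert_tree lc_g_Cert_tree lc_g_rc_21_2 lc_g_rc_27_9 lc_g_Cert_tree lc_g_Cert_tree lc_g_rc_21_2 lc_g_rc_23_3 lc_g_rc_23_1 lc_g_Cert_tree lc_g_Cert_tree lc_g_rc_27_6) (@D3.rec (fun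 _ => (Cert rels S Gen.g)) lc_g_Cert_tree lc_g_Cert_tree lc_g_Cert_tree lc_g_rc_21_2 lc_g_rc_26_3 lc_g_rc_27_6 lc_g_Cert_tree lc_g_rc_23_1 lc_g_Cert_tree lc_g_Cert_tree lc_g_Cert_tree lc_g_Cert_tree lc_g_Cert_tree lc_g_rc_21_2 lc_g_Cert_tree lc_g_rc_26_9 lc_g_Cert_tree lc_g_rc_21_3 lc_g_rc_26_0 lc_g_rc_26_3 lc_g_rc_21_2 lc_g_rc_21_3 lc_g_Cert_tree lc_g_Cert_tree lc_g_rc_21_2 lc_g_Cert_tree lc_g_rc_23_1 lc_g_Cert_tree lc_g_rc_23_1 lc_g_rc_21_3 lc_g_rc_21_3 lc_g_rc_24_7 lc_g_rc_24_9 lc_g_rc_27_3 lc_g_rc_24_7 lc_g_rc_27_0 lc_g_rc_21_3 lc_g_Cert_tree lc_g_Cert_tree lc_g_rc_21_2 lc_g_rc_23_7 lc_g_rc_21_3 lc_g_rc_21_2 lc_g_Cert_tree lc_g_rc_24_9 lc_g_Cert_tree lc_g_rc_24_1 lc_g_rc_23_1 lc_g_rc_21_3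 lc_g_rc_23_7 lc_g_rc_21_2 lc_g_rc_27_0 lc_g_rc_26_0 lc_g_rc_26_3 lc_g_rc_21_3 lc_g_Cert_tree lc_g_rc_26_0 lc_g_rc_21_2 lc_g_rc_21_3 lc_g_rc_21_2 lc_g_rc_23_7 lc_g_rc_26_3) (@D3.rec (fun _ => (Cert rels S Gen.g)) lc_g_rc_23_3 lc_g_rc_21_3 lc_g_Cert_tree lc_g_Cert_tree lc_g_rc_21_2 lc_g_rc_26_9 lc_g_Cert_tree lc_g_rc_26_9 lc_g_rc_26_6 lc_g_rc_21_3 lc_g_rc_21_3 lc_g_rc_26_3 lc_g_rc_21_2 lc_g_Cert_tree lc_g_rc_26_3 lc_g_rc_21_2 lc_g_rc_25_11 lc_g_rc_27_9 lc_g_rc_21_3 lc_g_rc_27_9 lc_g_rc_21_3 lc_g_Cert_tree lc_g_rc_24_7 lc_g_rc_23_7 lc_g_rc_21_3 lc_g_Cert_tree lc_g_Cert_tree lc_g_Cert_tree lc_g_rc_21_2 lc_g_rc_27_0 lc_g_rc_21_2 lc_g_Cert_tree lc_g_rc_21_3 lc_g_rc_21_3 lc_g_rc_24_7 lc_g_Cert_tree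 lc_g_rc_24_3 lc_g_Cert_tree lc_g_Cert_tree lc_g_rc_21_2 lc_g_Cert_tree lc_g_rc_21_2 lc_g_rc_21_2 lc_g_rc_24_3 lc_g_Cert_tree lc_g_Cert_tree lc_g_rc_21_2 lc_g_rc_21_3 lc_g_rc_21_2 lc_g_rc_21_2 lc_g_rc_21_2 lc_g_Cert_tree lc_g_rc_26_6 lc_g_rc_26_0 lc_g_Cert_tree lc_g_Cert_tree lc_g_Cert_tree lc_g_rc_21_2 lc_g_rc_21_3 lc_g_rc_21_2 lc_g_Cert_tree lc_g_Cert_tree) (@D3.rec (fun _ => (Cert rels S Gen.g)) lc_g_rc_27_3 lc_g_rc_23_7 lc_g_rc_21_3 lc_g_Cert_tree lc_g_Cert_tree lc_g_rc_21_2 lc_g_rc_21_3 lc_g_Cert_tree lc_g_rc_21_3 lc_g_rc_23_3 lc_g_rc_26_6 lc_g_rc_23_3 lc_g_Cert_tree lc_g_rc_24_7 lc_g_rc_21_2 lc_g_Cert_tree lc_g_Cert_tree lc_g_rc_21_2 lc_g_Cert_tree lc_g_Cert_tree lc_g_Cert_tree lc_g_rc_24_1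 lc_g_Cert_tree lc_g_rc_21_3 lc_g_rc_24_7 lc_g_Cert_tree lc_g_rc_21_3 lc_g_Cert_tree lc_g_rc_23_3 lc_g_rc_26_3 lc_g_rc_21_2 lc_g_rc_21_2 lc_g_rc_24_3 lc_g_Cert_tree lc_g_rc_21_2 lc_g_rc_21_3 lc_g_rc_27_0 lc_g_rc_26_3 lc_g_rc_27_9 lc_g_rc_26_3 lc_g_Cert_tree lc_g_Cert_tree lc_g_rc_21_2 lc_g_rc_27_3 lc_g_rc_21_3 lc_g_rc_26_6 lc_g_rc_27_9 lc_g_rc_26_0 lc_g_rc_21_3 lc_g_rc_26_3 lc_g_rc_26_0 lc_g_rc_21_3 lc_g_rc_21_3 lc_g_rc_21_2 lc_g_rc_21_2 lc_g_rc_26_6 lc_g_rc_25_11 lc_g_rc_21_3 lc_g_Cert_tree lc_g_rc_26_9 lc_g_Cert_tree lc_g_rc_21_3) (@D3.rec (fun _ => (Cert rels S Gen.g)) lc_g_Cert_tree lc_g_rc_21_2 lc_g_rc_21_2 lc_g_rc_26_0 lc_g_rc_27_3 lc_g_rc_24_1 lc_g_rc_26_9 lc_g_rc_26_3 lc_g_rc_26_6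 lc_g_Cert_tree lc_g_rc_21_3 lc_g_Cert_tree lc_g_rc_26_6 lc_g_rc_26_6 lc_g_rc_21_2 lc_g_rc_21_3 lc_g_rc_27_3 lc_g_rc_21_3 lc_g_rc_23_3 lc_g_rc_24_3 lc_g_rc_21_2 lc_g_Cert_tree lc_g_rc_21_3 lc_g_rc_21_3 lc_g_Cert_tree lc_g_rc_21_2 lc_g_rc_21_2 lc_g_Cert_tree lc_g_rc_26_9 lc_g_rc_21_3 lc_g_rc_21_3 lc_g_Cert_tree lc_g_rc_24_9 lc_g_rc_21_2 lc_g_rc_21_3 lc_g_rc_21_3 lc_g_rc_21_2 lc_g_rc_21_2 lc_g_rc_26_3 lc_g_rc_21_3 lc_g_rc_23_1 lc_g_rc_24_3 lc_g_Cert_tree lc_g_rc_27_3 lc_g_Cert_tree lc_g_rc_24_3 lc_g_rc_26_3 lc_g_rc_21_2 lc_g_rc_23_7 lc_g_rc_21_2 lc_g_rc_21_3 lc_g_rc_21_3 lc_g_Cert_tree lc_g_Cert_tree lc_g_rc_21_2 lc_g_Cert_tree lc_g_Cert_tree lc_g_rc_24_7 lc_g_rc_27_0 lc_g_rc_26_6 lc_g_Cert_tree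 lc_g_rc_24_9) (@D3.rec (fun _ => (Cert rels S Gen.g)) lc_g_rc_27_3 lc_g_rc_24_9 lc_g_rc_27_9 lc_g_Cert_tree lc_g_rc_21_3 lc_g_rc_21_2 lc_g_rc_24_3 lc_g_rc_23_9 lc_g_rc_27_6 lc_g_rc_24_1 lc_g_rc_23_9 lc_g_rc_21_3 lc_g_Cert_tree lc_g_Cert_tree lc_g_Cert_tree lc_g_rc_26_9 lc_g_rc_27_9 lc_g_rc_21_2 lc_g_rc_23_1 lc_g_rc_21_2 lc_g_rc_21_3 lc_g_Cert_tree lc_g_Cert_tree lc_g_Cert_tree lc_g_rc_21_3 lc_g_Cert_tree lc_g_Cert_tree lc_g_rc_26_6 lc_g_rc_21_3 lc_g_rc_24_7 lc_g_Cert_tree lc_g_rc_23_1 lc_g_rc_27_6 lc_g_rc_23_1 lc_g_Cert_tree lc_g_Cert_tree lc_g_rc_24_1 lc_g_Cert_tree lc_g_rc_27_6 lc_g_rc_21_2 lc_g_rc_21_2 lc_g_rc_26_0 lc_g_rc_21_3 lc_g_Cert_tree lc_g_Cert_tree lc_g_Cert_tree lc_g_rc_21_3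 lc_g_Cert_tree lc_g_Cert_tree lc_g_Cert_tree lc_g_rc_27_6 lc_g_rc_26_0 lc_g_Cert_tree lc_g_rc_21_2 lc_g_rc_24_3 lc_g_rc_21_2 lc_g_Cert_tree lc_g_Cert_tree lc_g_Cert_tree lc_g_rc_21_2 lc_g_Cert_tree lc_g_Cert_tree) (@D3.rec (fun _ => (Cert rels S Gen.g)) lc_g_rc_21_3 lc_g_Cert_tree lc_g_rc_27_6 lc_g_rc_27_3 lc_g_rc_21_2 lc_g_rc_24_7 lc_g_rc_21_2 lc_g_rc_27_0 lc_g_Cert_tree lc_g_Cert_tree lc_g_rc_27_0 lc_g_rc_21_2 lc_g_Cert_tree lc_g_rc_23_3 lc_g_Cert_tree lc_g_rc_24_7 lc_g_Cert_tree lc_g_Cert_tree lc_g_rc_23_3 lc_g_Cert_tree lc_g_rc_23_7 lc_g_Cert_tree lc_g_Cert_tree lc_g_rc_21_3 lc_g_Cert_tree lc_g_Cert_tree lc_g_rc_21_3 lc_g_Cert_tree lc_g_rc_21_2 lc_g_Cert_tree lc_g_rc_21_2 lc_g_Cert_tree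 lc_g_rc_26_6 lc_g_rc_23_3 lc_g_rc_21_2 lc_g_rc_21_2 lc_g_rc_21_3 lc_g_Cert_tree lc_g_Cert_tree lc_g_rc_21_3 lc_g_Cert_tree lc_g_rc_27_3 lc_g_rc_21_2 lc_g_Cert_tree lc_g_rc_24_9 lc_g_rc_24_1 lc_g_Cert_tree lc_g_rc_24_3 lc_g_Cert_tree lc_g_rc_24_7 lc_g_rc_26_3 lc_g_rc_21_2 lc_g_Cert_tree lc_g_rc_24_9 lc_g_rc_24_3 lc_g_rc_23_7 lc_g_rc_21_3 lc_g_Cert_tree lc_g_rc_21_2 lc_g_rc_21_2 lc_g_rc_27_0 lc_g_Cert_tree) (@D3.rec (fun _ => (Cert rels S Gen.g)) lc_g_Cert_tree lc_g_rc_27_6 lc_g_rc_23_9 lc_g_Cert_tree lc_g_rc_23_1 lc_g_Cert_tree lc_g_rc_24_7 lc_g_Cert_tree lc_g_rc_23_7 lc_g_Cert_tree lc_g_rc_24_3 lc_g_rc_21_3 lc_g_rc_23_3 lc_g_rc_21_3 lc_g_Cert_tree lc_g_Cert_tree lc_g_Cert_tree lc_g_rc_21_2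 lc_g_Cert_tree lc_g_Cert_tree lc_g_rc_27_6 lc_g_rc_21_3 lc_g_Cert_tree lc_g_Cert_tree lc_g_rc_24_7 lc_g_rc_21_3 lc_g_Cert_tree lc_g_rc_21_2 lc_g_rc_27_3 lc_g_Cert_tree lc_g_Cert_tree lc_g_Cert_tree lc_g_rc_21_3 lc_g_Cert_tree lc_g_rc_21_2 lc_g_rc_27_3 lc_g_Cert_tree lc_g_rc_21_3 lc_g_Cert_tree lc_g_rc_21_2 lc_g_rc_27_3 lc_g_Cert_tree lc_g_rc_21_3 lc_g_Cert_tree lc_g_rc_21_2 lc_g_rc_26_3 lc_g_Cert_tree lc_g_Cert_tree lc_g_rc_21_3 lc_g_rc_24_3 lc_g_Cert_tree lc_g_Cert_tree lc_g_Cert_tree lc_g_rc_21_3 lc_g_Cert_tree lc_g_rc_21_2 lc_g_rc_21_3 lc_g_Cert_tree lc_g_rc_21_2 lc_g_rc_21_2 lc_g_rc_21_3 lc_g_Cert_tree) (@D3.rec (fun _ => (Cert rels S Gen.g)) lc_g_rc_26_6 lc_g_Cert_tree lc_g_rc_21_3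 lc_g_Cert_tree lc_g_rc_21_2 lc_g_rc_21_2 lc_g_rc_21_2 lc_g_rc_24_1 lc_g_rc_27_6 lc_g_rc_27_9 lc_g_rc_21_3 lc_g_Cert_tree lc_g_rc_21_3 lc_g_Cert_tree lc_g_rc_21_2 lc_g_rc_23_9 lc_g_rc_23_7 lc_g_rc_21_2 lc_g_rc_21_2 lc_g_rc_21_3 lc_g_Cert_tree lc_g_rc_23_3 lc_g_rc_21_3 lc_g_rc_21_2 lc_g_rc_21_2 lc_g_rc_21_2 lc_g_Cert_tree lc_g_rc_26_6 lc_g_rc_21_2 lc_g_rc_23_3 lc_g_Cert_tree lc_g_rc_21_3 lc_g_Cert_tree lc_g_rc_21_2 lc_g_rc_21_2 lc_g_rc_27_3 lc_g_Cert_tree lc_g_rc_27_0 lc_g_rc_27_6 lc_g_rc_23_1 lc_g_Cert_tree lc_g_rc_26_6 lc_g_Cert_tree lc_g_rc_21_3 lc_g_Cert_tree lc_g_Cert_tree lc_g_rc_21_2 lc_g_Cert_tree lc_g_rc_21_3 lc_g_rc_24_3 lc_g_rc_21_3 lc_g_rc_24_9 lc_g_rc_21_3 lc_g_Cert_tree lc_g_Cert_tree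 lc_g_rc_21_2 lc_g_rc_26_6 lc_g_rc_27_9 lc_g_rc_26_6 lc_g_rc_27_3 lc_g_rc_23_3 lc_g_rc_21_2) (@D3.rec (fun _ => (Cert rels S Gen.g)) lc_g_rc_26_6 lc_g_rc_27_9 lc_g_rc_27_9 lc_g_rc_21_3 lc_g_Cert_tree lc_g_rc_21_3 lc_g_Cert_tree lc_g_rc_21_2 lc_g_rc_27_3 lc_g_rc_21_2 lc_g_rc_21_3 lc_g_Cert_tree lc_g_rc_21_2 lc_g_rc_26_6 lc_g_rc_21_3 lc_g_rc_27_6 lc_g_rc_21_2 lc_g_rc_21_3 lc_g_rc_21_3 lc_g_rc_21_3 lc_g_rc_21_3 lc_g_Cert_tree lc_g_rc_21_2 lc_g_Cert_tree lc_g_rc_27_6 lc_g_Cert_tree lc_g_rc_21_3 lc_g_rc_26_6 lc_g_rc_26_6 lc_g_rc_27_6 lc_g_rc_21_2 lc_g_rc_21_3 lc_g_rc_21_3 lc_g_rc_26_6 lc_g_Cert_tree lc_g_rc_27_9 lc_g_rc_21_2 lc_g_Cert_tree lc_g_rc_21_3 lc_g_rc_27_9 lc_g_rc_27_3 lc_g_Cert_tree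 lc_g_rc_24_1 lc_g_Cert_tree lc_g_rc_27_3 lc_g_rc_26_6 lc_g_Cert_tree lc_g_rc_21_3 lc_g_Cert_tree lc_g_rc_21_2 lc_g_Cert_tree lc_g_rc_21_3 lc_g_Cert_tree lc_g_rc_26_0 lc_g_Cert_tree lc_g_Cert_tree lc_g_rc_21_2 lc_g_rc_26_6 lc_g_rc_23_3 lc_g_rc_26_3 lc_g_rc_21_3 lc_g_Cert_tree) (@D3.rec (fun _ => (Cert rels S Gen.g)) lc_g_rc_21_2 lc_g_rc_24_3 lc_g_Cert_tree lc_g_Cert_tree lc_g_rc_21_2 lc_g_rc_24_9 lc_g_rc_23_1 lc_g_rc_26_9 lc_g_rc_27_9 lc_g_rc_27_9 lc_g_rc_27_9 lc_g_rc_21_3 lc_g_Cert_tree lc_g_Cert_tree lc_g_Cert_tree lc_g_rc_26_6 lc_g_Cert_tree lc_g_rc_21_2 lc_g_rc_27_3 lc_g_Cert_tree lc_g_Cert_tree lc_g_rc_21_3 lc_g_Cert_tree lc_g_rc_21_2 lc_g_rc_26_0 lc_g_Cert_tree lc_g_rc_21_3 lc_g_rc_21_2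 lc_g_rc_26_6 lc_g_rc_21_2 lc_g_Cert_tree lc_g_rc_21_3 lc_g_Cert_tree lc_g_rc_24_9 lc_g_rc_21_2 lc_g_rc_21_2 lc_g_rc_24_1 lc_g_Cert_tree lc_g_rc_21_2 lc_g_Cert_tree lc_g_rc_26_9 lc_g_Cert_tree lc_g_rc_26_3 lc_g_rc_26_6 lc_g_rc_26_9 lc_g_rc_21_2 lc_g_rc_27_0 lc_g_rc_27_3 lc_g_Cert_tree lc_g_rc_21_2 lc_g_rc_21_3 lc_g_Cert_tree lc_g_rc_21_2 lc_g_rc_21_3 lc_g_rc_26_6 lc_g_Cert_tree lc_g_Cert_tree lc_g_rc_24_9 lc_g_Cert_tree lc_g_Cert_tree lc_g_rc_24_3 lc_g_Cert_tree) (@D3.rec (fun _ => (Cert rels S Gen.g)) lc_g_rc_24_9 lc_g_Cert_tree lc_g_rc_24_9 lc_g_rc_24_7 lc_g_Cert_tree lc_g_rc_21_3 lc_g_Cert_tree lc_g_rc_26_3 lc_g_rc_26_6 lc_g_rc_21_2 lc_g_Cert_tree lc_g_rc_24_1 lc_g_Cert_tree lc_g_Cert_tree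 lc_g_rc_21_3 lc_g_rc_21_3 lc_g_rc_21_3 lc_g_rc_24_3 lc_g_Cert_tree lc_g_rc_21_3 lc_g_rc_27_3 lc_g_rc_21_3 lc_g_rc_24_1 lc_g_Cert_tree lc_g_rc_21_3 lc_g_Cert_tree lc_g_Cert_tree lc_g_rc_21_2 lc_g_rc_21_2 lc_g_rc_21_2 lc_g_rc_21_3 lc_g_Cert_tree lc_g_rc_23_7 lc_g_rc_21_2 lc_g_rc_27_9 lc_g_rc_23_3 lc_g_rc_26_0 lc_g_rc_21_3 lc_g_rc_23_1 lc_g_rc_21_3 lc_g_Cert_tree lc_g_rc_27_3 lc_g_rc_21_2 lc_g_rc_26_6 lc_g_Cert_tree lc_g_rc_21_2 lc_g_rc_26_6 lc_g_rc_26_6 lc_g_rc_26_6 lc_g_rc_27_9 lc_g_rc_24_1 lc_g_rc_21_3 lc_g_rc_26_6 lc_g_rc_27_0 lc_g_rc_21_3 lc_g_Cert_tree lc_g_Cert_tree lc_g_rc_21_2 lc_g_rc_26_0 lc_g_rc_26_6 lc_g_Cert_tree lc_g_rc_27_3) (@D3.rec (fun _ => (Cert rels S Gen.g)) lc_g_rc_24_9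 lc_g_rc_21_3 lc_g_Cert_tree lc_g_rc_21_2 lc_g_rc_27_6 lc_g_rc_26_6 lc_g_Cert_tree lc_g_Cert_tree lc_g_rc_27_9 lc_g_rc_24_7 lc_g_Cert_tree lc_g_rc_27_3 lc_g_Cert_tree lc_g_rc_23_7 lc_g_rc_26_3 lc_g_Cert_tree lc_g_rc_21_3 lc_g_rc_21_2 lc_g_rc_21_3 lc_g_rc_21_2 lc_g_rc_21_3 lc_g_rc_26_6 lc_g_rc_27_9 lc_g_rc_23_9 lc_g_rc_21_2 lc_g_rc_26_6 lc_g_rc_27_3 lc_g_Cert_tree lc_g_Cert_tree lc_g_rc_21_2 lc_g_rc_21_3 lc_g_rc_27_9 lc_g_rc_26_6 lc_g_rc_27_3 lc_g_rc_21_3 lc_g_Cert_tree lc_g_rc_26_3 lc_g_rc_21_2 lc_g_rc_27_9 lc_g_rc_21_2 lc_g_rc_24_1 lc_g_Cert_tree lc_g_Cert_tree lc_g_rc_21_2 lc_g_Cert_tree lc_g_Cert_tree lc_g_rc_23_1 lc_g_Cert_tree lc_g_rc_26_6 lc_g_rc_24_7 lc_g_Cert_tree lc_g_rc_27_3 lc_g_rc_24_7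 lc_g_rc_27_3 lc_g_rc_21_3 lc_g_Cert_tree lc_g_rc_23_3 lc_g_rc_27_3 lc_g_rc_21_3 lc_g_rc_21_2 lc_g_Cert_tree lc_g_rc_23_3) (@D3.rec (fun _ => (Cert rels S Gen.g)) lc_g_rc_26_3 lc_g_rc_21_3 lc_g_Cert_tree lc_g_rc_21_2 lc_g_rc_21_2 lc_g_rc_26_3 lc_g_Cert_tree lc_g_rc_21_3 lc_g_rc_21_3 lc_g_rc_21_2 lc_g_rc_23_3 lc_g_rc_27_6 lc_g_rc_27_3 lc_g_rc_26_0 lc_g_Cert_tree lc_g_Cert_tree lc_g_rc_21_2 lc_g_rc_26_3 lc_g_rc_23_1 lc_g_rc_27_9 lc_g_rc_21_3 lc_g_rc_26_9 lc_g_rc_26_6 lc_g_rc_21_3 lc_g_Cert_tree lc_g_Cert_tree lc_g_rc_27_9 lc_g_Cert_tree lc_g_rc_27_9 lc_g_rc_27_0 lc_g_rc_21_3 lc_g_Cert_tree lc_g_rc_21_2 lc_g_rc_26_9 lc_g_Cert_tree lc_g_rc_26_6 lc_g_rc_26_6 lc_g_rc_21_3 lc_g_Cert_tree lc_g_Cert_tree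 lc_g_rc_21_2 lc_g_rc_27_6 lc_g_rc_26_0 lc_g_rc_23_3 lc_g_rc_21_3 lc_g_rc_23_3 lc_g_rc_21_3 lc_g_rc_21_3 lc_g_Cert_tree lc_g_rc_21_2 lc_g_rc_23_3 lc_g_Cert_tree lc_g_rc_21_3 lc_g_rc_27_6 lc_g_rc_21_2 lc_g_rc_21_3 lc_g_Cert_tree lc_g_rc_21_2 lc_g_rc_21_2 lc_g_Cert_tree lc_g_rc_26_0 lc_g_rc_26_6) (@D3.rec (fun _ => (Cert rels S Gen.g)) lc_g_rc_26_6 lc_g_rc_24_9 lc_g_rc_21_2 lc_g_rc_24_1 lc_g_rc_26_9 lc_g_rc_21_2 lc_g_rc_26_6 lc_g_Cert_tree lc_g_Cert_tree lc_g_rc_21_3 lc_g_rc_27_6 lc_g_rc_27_9 lc_g_rc_21_3 lc_g_rc_21_2 lc_g_rc_24_7 lc_g_rc_21_2 lc_g_rc_21_2 lc_g_rc_26_3 lc_g_Cert_tree lc_g_rc_27_0 lc_g_rc_21_3 lc_g_rc_21_2 lc_g_rc_27_0 lc_g_Cert_tree lc_g_rc_21_3 lc_g_Cert_tree lc_g_rc_23_3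 lc_g_rc_21_2 lc_g_rc_23_7 lc_g_rc_24_7 lc_g_rc_27_6 lc_g_rc_23_3 lc_g_rc_24_7 lc_g_Cert_tree lc_g_Cert_tree lc_g_Cert_tree lc_g_rc_23_7 lc_g_rc_24_3 lc_g_rc_21_2 lc_g_rc_21_2 lc_g_rc_21_2 lc_g_rc_26_6 lc_g_rc_23_1 lc_g_Cert_tree lc_g_Cert_tree lc_g_Cert_tree lc_g_Cert_tree lc_g_rc_26_6 lc_g_Cert_tree lc_g_rc_21_3 lc_g_rc_21_2 lc_g_rc_27_0 lc_g_rc_23_1 lc_g_Cert_tree lc_g_rc_26_0 lc_g_rc_21_3 lc_g_rc_26_3 lc_g_rc_21_2 lc_g_rc_21_2 lc_g_rc_26_6 lc_g_rc_27_9 lc_g_rc_27_6) (@D3.rec (fun _ => (Cert rels S Gen.g)) lc_g_rc_21_3 lc_g_rc_27_0 lc_g_rc_21_3 lc_g_Cert_tree lc_g_Cert_tree lc_g_rc_26_6 lc_g_rc_23_7 lc_g_rc_23_3 lc_g_rc_21_2 lc_g_rc_27_9 lc_g_rc_21_2 lc_g_rc_21_3 lc_g_Cert_tree lc_g_Cert_tree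 lc_g_rc_27_0 lc_g_rc_21_3 lc_g_Cert_tree lc_g_rc_27_3 lc_g_rc_21_2 lc_g_rc_21_3 lc_g_rc_24_7 lc_g_Cert_tree lc_g_rc_23_1 lc_g_rc_27_6 lc_g_rc_23_1 lc_g_Cert_tree lc_g_rc_23_9 lc_g_Cert_tree lc_g_rc_21_3 lc_g_Cert_tree lc_g_Cert_tree lc_g_rc_21_2 lc_g_Cert_tree lc_g_rc_27_9 lc_g_rc_26_3 lc_g_rc_21_2 lc_g_rc_21_2 lc_g_Cert_tree lc_g_rc_21_2 lc_g_rc_21_3 lc_g_Cert_tree lc_g_Cert_tree lc_g_rc_23_9 lc_g_rc_21_3 lc_g_Cert_tree lc_g_rc_26_6 lc_g_rc_24_3 lc_g_Cert_tree lc_g_rc_21_3 lc_g_Cert_tree lc_g_Cert_tree lc_g_rc_27_3 lc_g_rc_24_3 lc_g_rc_21_2 lc_g_Cert_tree lc_g_Cert_tree lc_g_rc_21_2 lc_g_Cert_tree lc_g_rc_21_3 lc_g_Cert_tree lc_g_rc_27_3 lc_g_rc_21_2) (@D3.rec (fun _ => (Cert rels S Gen.g))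 lc_g_rc_27_3 lc_g_rc_21_3 lc_g_Cert_tree lc_g_rc_21_2 lc_g_rc_26_3 lc_g_rc_24_7 lc_g_rc_26_0 lc_g_Cert_tree lc_g_rc_26_6 lc_g_rc_26_6 lc_g_rc_21_2 lc_g_Cert_tree lc_g_rc_26_3 lc_g_rc_21_3 lc_g_Cert_tree lc_g_rc_27_6 lc_g_rc_26_3 lc_g_Cert_tree lc_g_rc_27_6 lc_g_rc_21_3 lc_g_rc_21_2 lc_g_Cert_tree lc_g_Cert_tree lc_g_rc_26_0 lc_g_rc_21_2 lc_g_Cert_tree lc_g_rc_21_3 lc_g_rc_24_7 lc_g_Cert_tree lc_g_rc_21_3 lc_g_rc_24_7 lc_g_rc_23_3 lc_g_rc_21_3 lc_g_Cert_tree lc_g_Cert_tree lc_g_rc_21_2 lc_g_rc_21_3 lc_g_Cert_tree lc_g_Cert_tree lc_g_rc_24_7 lc_g_Cert_tree lc_g_rc_23_9 lc_g_Cert_tree lc_g_rc_21_3 lc_g_Cert_tree lc_g_rc_21_2 lc_g_Cert_tree lc_g_rc_21_2 lc_g_Cert_tree lc_g_rc_21_3 lc_g_Cert_tree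 lc_g_rc_21_2 lc_g_rc_21_2 lc_g_rc_21_3 lc_g_Cert_tree lc_g_rc_21_2 lc_g_rc_21_3 lc_g_rc_24_7 lc_g_Cert_tree lc_g_rc_23_1 lc_g_Cert_tree lc_g_rc_21_2) (@D3.rec (fun _ => (Cert rels S Gen.g)) lc_g_rc_21_3 lc_g_Cert_tree lc_g_Cert_tree lc_g_rc_21_2 lc_g_rc_21_2 lc_g_Cert_tree lc_g_rc_21_3 lc_g_rc_21_2 lc_g_Cert_tree lc_g_rc_26_3 lc_g_rc_23_9 lc_g_rc_23_9 lc_g_rc_21_3 lc_g_rc_27_6 lc_g_Cert_tree lc_g_rc_21_3 lc_g_rc_25_15 lc_g_rc_26_6 lc_g_Cert_tree lc_g_rc_26_6 lc_g_Cert_tree lc_g_rc_23_7 lc_g_Cert_tree lc_g_rc_26_6 lc_g_rc_24_9 lc_g_Cert_tree lc_g_rc_21_2 lc_g_rc_27_6 lc_g_Cert_tree lc_g_rc_21_2 lc_g_rc_21_2 lc_g_rc_21_3 lc_g_Cert_tree lc_g_rc_26_9 lc_g_rc_21_2 lc_g_rc_26_3 lc_g_Cert_tree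 lc_g_rc_21_3 lc_g_Cert_tree lc_g_rc_21_2 lc_g_rc_27_3 lc_g_Cert_tree lc_g_Cert_tree lc_g_Cert_tree lc_g_Cert_tree lc_g_rc_21_3 lc_g_Cert_tree lc_g_rc_21_2 lc_g_Cert_tree lc_g_rc_26_0 lc_g_rc_21_3 lc_g_Cert_tree lc_g_rc_24_7 lc_g_rc_24_7 lc_g_Cert_tree lc_g_rc_27_3 lc_g_Cert_tree lc_g_Cert_tree lc_g_rc_23_9 lc_g_rc_21_2 lc_g_rc_26_6 lc_g_Cert_tree) (@D3.rec (fun _ => (Cert rels S Gen.g)) lc_g_rc_21_3 lc_g_Cert_tree lc_g_rc_21_2 lc_g_rc_21_3 lc_g_Cert_tree lc_g_rc_26_9 lc_g_rc_21_2 lc_g_Cert_tree lc_g_rc_21_2 lc_g_Cert_tree lc_g_rc_21_3 lc_g_Cert_tree lc_g_rc_21_2 lc_g_rc_23_7 lc_g_rc_21_2 lc_g_Cert_tree lc_g_rc_26_3 lc_g_Cert_tree lc_g_rc_25_3 lc_g_rc_21_3 lc_g_Cert_tree lc_g_Cert_tree lc_g_rc_27_3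 lc_g_rc_26_6 lc_g_rc_21_3 lc_g_rc_23_3 lc_g_rc_21_3 lc_g_rc_24_3 lc_g_rc_21_3 lc_g_rc_27_3 lc_g_rc_21_3 lc_g_Cert_tree lc_g_rc_24_7 lc_g_Cert_tree lc_g_rc_21_3 lc_g_rc_26_6 lc_g_rc_21_2 lc_g_rc_23_3 lc_g_Cert_tree lc_g_rc_21_3 lc_g_Cert_tree lc_g_Cert_tree lc_g_rc_21_2 lc_g_Cert_tree lc_g_Cert_tree lc_g_rc_26_6 lc_g_rc_21_3 lc_g_Cert_tree lc_g_rc_21_2 lc_g_Cert_tree lc_g_rc_21_2 lc_g_Cert_tree lc_g_rc_21_3 lc_g_Cert_tree lc_g_Cert_tree lc_g_Cert_tree lc_g_rc_21_2 lc_g_rc_24_7 lc_g_Cert_tree lc_g_rc_21_2 lc_g_rc_24_7 lc_g_Cert_tree) (@D3.rec (fun _ => (Cert rels S Gen.g)) lc_g_rc_21_3 lc_g_Cert_tree lc_g_Cert_tree lc_g_rc_24_3 lc_g_rc_27_6 lc_g_rc_23_3 lc_g_Cert_tree lc_g_rc_23_1 lc_g_rc_26_6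 lc_g_rc_21_2 lc_g_rc_21_2 lc_g_rc_21_3 lc_g_rc_23_9 lc_g_rc_24_3 lc_g_rc_27_6 lc_g_Cert_tree lc_g_rc_21_3 lc_g_rc_21_2 lc_g_rc_21_3 lc_g_rc_21_2 lc_g_Cert_tree lc_g_rc_23_1 lc_g_Cert_tree lc_g_Cert_tree lc_g_Cert_tree lc_g_Cert_tree lc_g_rc_21_2 lc_g_Cert_tree lc_g_rc_25_11 lc_g_rc_21_3 lc_g_Cert_tree lc_g_rc_21_2 lc_g_Cert_tree lc_g_rc_26_6 lc_g_Cert_tree lc_g_rc_24_7 lc_g_Cert_tree lc_g_rc_26_6 lc_g_rc_24_7 lc_g_Cert_tree lc_g_rc_23_9 lc_g_rc_24_7 lc_g_Cert_tree lc_g_rc_21_3 lc_g_Cert_tree lc_g_Cert_tree lc_g_rc_24_7 lc_g_rc_26_3 lc_g_rc_21_3 lc_g_Cert_tree lc_g_rc_23_7 lc_g_rc_21_2 lc_g_Cert_tree lc_g_rc_24_7 lc_g_rc_24_3 lc_g_rc_24_1 lc_g_Cert_tree lc_g_rc_21_2 lc_g_Cert_tree lc_g_rc_23_9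 lc_g_rc_24_3 lc_g_Cert_tree) (@D3.rec (fun _ => (Cert rels S Gen.g)) lc_g_Cert_tree lc_g_rc_21_3 lc_g_rc_21_3 lc_g_Cert_tree lc_g_rc_21_2 lc_g_rc_27_3 lc_g_Cert_tree lc_g_rc_21_3 lc_g_Cert_tree lc_g_rc_26_6 lc_g_Cert_tree lc_g_Cert_tree lc_g_rc_26_3 lc_g_rc_26_6 lc_g_rc_21_3 lc_g_rc_21_3 lc_g_Cert_tree lc_g_rc_21_2 lc_g_rc_27_3 lc_g_Cert_tree lc_g_rc_21_3 lc_g_Cert_tree lc_g_rc_21_2 lc_g_rc_21_2 lc_g_Cert_tree lc_g_rc_23_3 lc_g_Cert_tree lc_g_Cert_tree lc_g_rc_23_3 lc_g_rc_21_3 lc_g_Cert_tree lc_g_rc_21_2 lc_g_rc_21_3 lc_g_Cert_tree lc_g_rc_21_2 lc_g_rc_25_11 lc_g_rc_21_2 lc_g_rc_26_6 lc_g_rc_27_6 lc_g_rc_26_0 lc_g_rc_23_3 lc_g_rc_24_1 lc_g_rc_26_0 lc_g_rc_27_0 lc_g_Cert_tree lc_g_rc_27_3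 lc_g_rc_21_2 lc_g_rc_21_3 lc_g_rc_21_2 lc_g_Cert_tree lc_g_rc_21_2 lc_g_Cert_tree lc_g_Cert_tree lc_g_rc_21_2 lc_g_rc_23_3 lc_g_rc_26_0 lc_g_rc_21_2 lc_g_rc_21_3 lc_g_rc_27_3 lc_g_rc_21_2 lc_g_rc_24_7 lc_g_rc_21_3) (@D3.rec (fun _ => (Cert rels S Gen.g)) lc_g_rc_27_3 lc_g_rc_24_7 lc_g_Cert_tree lc_g_rc_21_3 lc_g_Cert_tree lc_g_rc_24_1 lc_g_rc_25_19 lc_g_rc_21_3 lc_g_Cert_tree lc_g_rc_26_6 lc_g_rc_21_2 lc_g_Cert_tree lc_g_rc_26_3 lc_g_rc_24_1 lc_g_rc_21_3 lc_g_rc_23_7 lc_g_Cert_tree lc_g_rc_21_3 lc_g_Cert_tree lc_g_rc_21_3 lc_g_Cert_tree lc_g_rc_21_2 lc_g_Cert_tree lc_g_rc_24_7 lc_g_rc_21_3 lc_g_rc_26_3 lc_g_Cert_tree lc_g_rc_27_3 lc_g_rc_21_3 lc_g_Cert_tree lc_g_rc_27_6 lc_g_rc_21_3 lc_g_Cert_tree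 lc_g_rc_21_2 lc_g_rc_21_3 lc_g_rc_21_3 lc_g_rc_21_3 lc_g_rc_21_2 lc_g_rc_26_3 lc_g_rc_26_6 lc_g_rc_24_1 lc_g_rc_24_9 lc_g_rc_27_6 lc_g_rc_21_2 lc_g_rc_27_6 lc_g_rc_27_9 lc_g_rc_21_2 lc_g_rc_21_2 lc_g_Cert_tree lc_g_rc_24_7 lc_g_rc_21_3 lc_g_rc_26_6 lc_g_Cert_tree lc_g_rc_26_9 lc_g_rc_26_3 lc_g_rc_26_6 lc_g_rc_21_3 lc_g_rc_21_3 lc_g_Cert_tree lc_g_Cert_tree lc_g_rc_21_2 lc_g_Cert_tree) (@D3.rec (fun _ => (Cert rels S Gen.g)) lc_g_Cert_tree lc_g_Cert_tree lc_g_rc_21_3 lc_g_rc_21_3 lc_g_rc_21_3 lc_g_rc_26_6 lc_g_rc_21_3 lc_g_Cert_tree lc_g_Cert_tree lc_g_rc_21_2 lc_g_rc_27_6 lc_g_rc_27_9 lc_g_Cert_tree lc_g_Cert_tree lc_g_rc_21_2 lc_g_rc_27_9 lc_g_rc_21_2 lc_g_Cert_tree lc_g_Cert_tree lc_g_rc_21_2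 lc_g_Cert_tree lc_g_rc_27_0 lc_g_rc_21_2 lc_g_Cert_tree lc_g_rc_27_0 lc_g_rc_21_2 lc_g_Cert_tree lc_g_rc_21_3 lc_g_rc_24_7 lc_g_Cert_tree lc_g_rc_21_3 lc_g_Cert_tree lc_g_rc_26_6 lc_g_rc_21_2 lc_g_Cert_tree lc_g_Cert_tree lc_g_rc_26_3 lc_g_rc_26_3 lc_g_rc_21_2 lc_g_rc_23_3 lc_g_Cert_tree lc_g_Cert_tree lc_g_rc_23_3 lc_g_Cert_tree lc_g_rc_21_3 lc_g_Cert_tree lc_g_rc_24_3 lc_g_Cert_tree lc_g_rc_21_3 lc_g_Cert_tree lc_g_rc_21_2 lc_g_Cert_tree lc_g_Cert_tree lc_g_rc_21_3 lc_g_Cert_tree lc_g_rc_21_2 lc_g_rc_21_2 lc_g_Cert_tree lc_g_rc_27_3 lc_g_rc_26_3 lc_g_Cert_tree lc_g_rc_27_9) (@D3.rec (fun _ => (Cert rels S Gen.g)) lc_g_Cert_tree lc_g_rc_23_1 lc_g_rc_27_9 lc_g_rc_26_3 lc_g_rc_21_2 lc_g_Cert_tree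 lc_g_Cert_tree lc_g_Cert_tree lc_g_rc_21_3 lc_g_Cert_tree lc_g_rc_21_2 lc_g_rc_21_3 lc_g_rc_21_3 lc_g_rc_21_3 lc_g_rc_21_2 lc_g_Cert_tree lc_g_rc_26_0 lc_g_rc_21_2 lc_g_rc_27_3 lc_g_Cert_tree lc_g_Cert_tree lc_g_rc_26_6 lc_g_rc_23_7 lc_g_rc_21_3 lc_g_rc_24_1 lc_g_rc_21_3 lc_g_rc_26_0 lc_g_rc_21_2 lc_g_Cert_tree lc_g_Cert_tree lc_g_rc_21_3 lc_g_rc_21_3 lc_g_rc_26_6 lc_g_rc_21_3 lc_g_Cert_tree lc_g_rc_21_2 lc_g_rc_24_7 lc_g_rc_27_6 lc_g_rc_26_6 lc_g_rc_24_7 lc_g_Cert_tree lc_g_rc_21_3 lc_g_Cert_tree lc_g_Cert_tree lc_g_rc_21_2 lc_g_rc_23_3 lc_g_rc_21_2 lc_g_rc_21_3 lc_g_Cert_tree lc_g_rc_26_3 lc_g_rc_24_9 lc_g_rc_23_1 lc_g_rc_27_3 lc_g_rc_21_3 lc_g_rc_21_2 lc_g_rc_21_2 lc_g_Cert_tree lc_g_rc_21_3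 lc_g_rc_21_2 lc_g_rc_21_2 lc_g_rc_21_3 lc_g_Cert_tree) (@D3.rec (fun _ => (Cert rels S Gen.g)) lc_g_Cert_tree lc_g_Cert_tree lc_g_rc_21_2 lc_g_rc_27_6 lc_g_rc_21_3 lc_g_Cert_tree lc_g_rc_21_3 lc_g_rc_21_3 lc_g_rc_23_7 lc_g_rc_21_2 lc_g_rc_27_3 lc_g_rc_24_1 lc_g_rc_27_6 lc_g_rc_27_3 lc_g_rc_24_7 lc_g_Cert_tree lc_g_rc_21_3 lc_g_Cert_tree lc_g_rc_21_2 lc_g_rc_26_6 lc_g_rc_21_3 lc_g_rc_26_9 lc_g_rc_24_9 lc_g_rc_21_3 lc_g_Cert_tree lc_g_rc_21_2 lc_g_rc_26_6 lc_g_rc_26_3 lc_g_Cert_tree lc_g_rc_27_6 lc_g_rc_26_6 lc_g_rc_26_6 lc_g_rc_27_3 lc_g_Cert_tree lc_g_Cert_tree lc_g_rc_21_2 lc_g_rc_26_0 lc_g_rc_24_1 lc_g_rc_21_3 lc_g_rc_21_3 lc_g_rc_24_1 lc_g_rc_21_2 lc_g_rc_24_3 lc_g_Cert_tree lc_g_rc_21_3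 lc_g_Cert_tree lc_g_Cert_tree lc_g_rc_21_2 lc_g_Cert_tree lc_g_rc_27_6 lc_g_rc_26_6 lc_g_rc_27_0 lc_g_rc_21_3 lc_g_rc_27_9 lc_g_rc_27_0 lc_g_Cert_tree lc_g_Cert_tree lc_g_rc_27_3 lc_g_rc_26_0 lc_g_rc_21_2 lc_g_rc_21_3 lc_g_Cert_tree) (@D3.rec (fun _ => (Cert rels S Gen.g)) lc_g_rc_21_3 lc_g_rc_27_3 lc_g_Cert_tree lc_g_rc_26_9 lc_g_Cert_tree lc_g_Cert_tree lc_g_rc_23_1 lc_g_rc_26_3 lc_g_rc_21_3 lc_g_Cert_tree lc_g_rc_27_3 lc_g_rc_21_2 lc_g_rc_27_9 lc_g_Cert_tree lc_g_rc_21_3 lc_g_rc_21_2 lc_g_rc_27_3 lc_g_rc_21_2 lc_g_rc_27_9 lc_g_Cert_tree lc_g_Cert_tree lc_g_rc_27_3 lc_g_rc_27_3 lc_g_rc_24_3 lc_g_Cert_tree lc_g_rc_26_9 lc_g_Cert_tree lc_g_rc_24_3 lc_g_Cert_tree lc_g_rc_21_3 lc_g_Cert_tree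 lc_g_rc_26_9 lc_g_rc_21_2 lc_g_rc_21_2 lc_g_rc_21_3 lc_g_rc_21_2 lc_g_rc_27_0 lc_g_rc_27_9 lc_g_rc_21_3 lc_g_Cert_tree lc_g_Cert_tree lc_g_Cert_tree lc_g_rc_21_3 lc_g_Cert_tree lc_g_rc_27_3 lc_g_rc_21_3 lc_g_rc_24_7 lc_g_Cert_tree lc_g_rc_24_3 lc_g_rc_27_3 lc_g_rc_21_3 lc_g_Cert_tree lc_g_Cert_tree lc_g_rc_24_3 lc_g_Cert_tree lc_g_rc_21_3 lc_g_Cert_tree lc_g_Cert_tree lc_g_rc_21_2 lc_g_rc_21_3 lc_g_rc_21_3 lc_g_rc_26_0) (@D3.rec (fun _ => (Cert rels S Gen.g)) lc_g_rc_21_2 lc_g_rc_23_1 lc_g_rc_21_2 lc_g_rc_24_1 lc_g_rc_21_3 lc_g_Cert_tree lc_g_rc_21_3 lc_g_rc_21_3 lc_g_Cert_tree lc_g_rc_23_7 lc_g_rc_21_2 lc_g_rc_23_1 lc_g_rc_24_7 lc_g_Cert_tree lc_g_rc_21_3 lc_g_Cert_tree lc_g_rc_21_2 lc_g_rc_21_2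 lc_g_Cert_tree lc_g_Cert_tree lc_g_Cert_tree lc_g_rc_21_2 lc_g_Cert_tree lc_g_Cert_tree lc_g_Cert_tree lc_g_rc_21_3 lc_g_Cert_tree lc_g_rc_21_2 lc_g_rc_21_2 lc_g_rc_23_1 lc_g_rc_27_9 lc_g_Cert_tree lc_g_rc_21_2 lc_g_rc_21_2 lc_g_Cert_tree lc_g_rc_21_3 lc_g_Cert_tree lc_g_rc_21_2 lc_g_Cert_tree lc_g_rc_24_9 lc_g_Cert_tree lc_g_rc_24_1 lc_g_rc_27_6 lc_g_rc_21_3 lc_g_Cert_tree lc_g_rc_26_6 lc_g_rc_26_3 lc_g_rc_21_3 lc_g_Cert_tree lc_g_Cert_tree lc_g_Cert_tree lc_g_rc_21_3 lc_g_Cert_tree lc_g_rc_21_3 lc_g_rc_26_0 lc_g_Cert_tree lc_g_rc_23_1 lc_g_Cert_tree lc_g_rc_21_3 lc_g_Cert_tree lc_g_rc_21_2 lc_g_rc_24_3) (@D3.rec (fun _ => (Cert rels S Gen.g)) lc_g_rc_21_2 lc_g_Cert_tree lc_g_rc_26_9 lc_g_rc_21_2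 lc_g_rc_21_2 lc_g_rc_27_6 lc_g_rc_21_3 lc_g_Cert_tree lc_g_Cert_tree lc_g_Cert_tree lc_g_Cert_tree lc_g_rc_27_3 lc_g_rc_24_3 lc_g_Cert_tree lc_g_Cert_tree lc_g_rc_21_2 lc_g_rc_24_3 lc_g_rc_27_3 lc_g_Cert_tree lc_g_rc_21_2 lc_g_rc_21_3 lc_g_Cert_tree lc_g_Cert_tree lc_g_rc_21_2 lc_g_rc_24_1 lc_g_rc_21_2 lc_g_Cert_tree lc_g_rc_21_3 lc_g_Cert_tree lc_g_rc_26_0 lc_g_rc_21_3 lc_g_Cert_tree lc_g_Cert_tree lc_g_rc_21_2 lc_g_Cert_tree lc_g_rc_23_1 lc_g_rc_21_2 lc_g_Cert_tree lc_g_rc_27_0 lc_g_rc_27_3 lc_g_rc_23_7 lc_g_rc_26_6 lc_g_rc_26_3 lc_g_rc_21_3 lc_g_Cert_tree lc_g_Cert_tree lc_g_rc_21_3 lc_g_rc_21_2 lc_g_rc_21_3 lc_g_rc_21_2 lc_g_rc_21_3 lc_g_rc_21_2 lc_g_rc_21_3 lc_g_Cert_tree lc_g_Cert_tree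 lc_g_rc_21_2 lc_g_rc_24_3 lc_g_rc_21_3 lc_g_Cert_tree lc_g_rc_27_0 lc_g_rc_26_0 lc_g_Cert_tree) (@D3.rec (fun _ => (Cert rels S Gen.g)) lc_g_Cert_tree lc_g_rc_21_3 lc_g_Cert_tree lc_g_rc_26_0 lc_g_Cert_tree lc_g_Cert_tree lc_g_rc_27_3 lc_g_Cert_tree lc_g_rc_26_6 lc_g_Cert_tree lc_g_rc_23_7 lc_g_Cert_tree lc_g_rc_21_3 lc_g_Cert_tree lc_g_rc_21_2 lc_g_rc_21_3 lc_g_Cert_tree lc_g_rc_21_2 lc_g_rc_21_2 lc_g_Cert_tree lc_g_rc_21_3 lc_g_Cert_tree lc_g_rc_21_2 lc_g_rc_21_2 lc_g_rc_21_2 lc_g_rc_27_9 lc_g_rc_27_9 lc_g_rc_27_3 lc_g_rc_21_3 lc_g_Cert_tree lc_g_rc_21_2 lc_g_rc_21_2 lc_g_rc_21_3 lc_g_Cert_tree lc_g_rc_21_2 lc_g_rc_21_3 lc_g_Cert_tree lc_g_rc_21_2 lc_g_Cert_tree lc_g_rc_21_2 lc_g_rc_27_9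 lc_g_rc_21_2 lc_g_Cert_tree lc_g_Cert_tree lc_g_rc_21_3 lc_g_rc_21_3 lc_g_rc_26_6 lc_g_rc_21_3 lc_g_Cert_tree lc_g_Cert_tree lc_g_rc_21_2 lc_g_rc_23_3 lc_g_rc_26_0 lc_g_rc_26_9 lc_g_Cert_tree lc_g_rc_21_3 lc_g_rc_26_9 lc_g_rc_26_3 lc_g_rc_21_2 lc_g_rc_26_6 lc_g_rc_23_9 lc_g_Cert_tree) (@D3.rec (fun _ => (Cert rels S Gen.g)) lc_g_rc_26_6 lc_g_rc_21_3 lc_g_Cert_tree lc_g_Cert_tree lc_g_rc_26_6 lc_g_Cert_tree lc_g_Cert_tree lc_g_rc_21_3 lc_g_Cert_tree lc_g_Cert_tree lc_g_rc_21_2 lc_g_rc_24_1 lc_g_Cert_tree lc_g_rc_21_3 lc_g_rc_27_9 lc_g_rc_21_3 lc_g_rc_26_9 lc_g_rc_27_9 lc_g_rc_21_3 lc_g_rc_21_2 lc_g_rc_21_3 lc_g_rc_21_3 lc_g_Cert_tree lc_g_Cert_tree lc_g_rc_26_3 lc_g_rc_21_3 lc_g_Cert_tree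 lc_g_Cert_tree lc_g_rc_21_2 lc_g_rc_21_3 lc_g_Cert_tree lc_g_Cert_tree lc_g_rc_21_2 lc_g_rc_23_3 lc_g_Cert_tree lc_g_rc_21_3 lc_g_rc_21_2 lc_g_rc_23_9 lc_g_rc_24_7 lc_g_rc_24_3 lc_g_rc_26_9 lc_g_rc_26_0 lc_g_rc_26_6 lc_g_rc_23_1 lc_g_rc_27_6 lc_g_rc_24_7 lc_g_Cert_tree lc_g_rc_21_2 lc_g_rc_24_1 lc_g_rc_26_6 lc_g_Cert_tree lc_g_rc_25_19 lc_g_rc_24_7 lc_g_rc_21_3 lc_g_Cert_tree lc_g_rc_21_2 lc_g_Cert_tree lc_g_rc_21_2 lc_g_rc_21_2 lc_g_Cert_tree lc_g_rc_21_3 lc_g_Cert_tree) (@D3.rec (fun _ => (Cert rels S Gen.g)) lc_g_rc_21_2 lc_g_rc_21_3 lc_g_Cert_tree lc_g_rc_21_2 lc_g_rc_21_3 lc_g_rc_21_3 lc_g_Cert_tree lc_g_rc_27_6 lc_g_rc_21_2 lc_g_Cert_tree lc_g_rc_27_6 lc_g_Cert_tree lc_g_rc_27_3 lc_g_rc_25_19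 lc_g_rc_27_6 lc_g_rc_23_9 lc_g_Cert_tree lc_g_rc_21_2 lc_g_rc_21_3 lc_g_Cert_tree lc_g_rc_21_3 lc_g_rc_24_7 lc_g_rc_24_1 lc_g_rc_21_3 lc_g_rc_24_7 lc_g_Cert_tree lc_g_rc_21_3 lc_g_Cert_tree lc_g_rc_24_3 lc_g_rc_24_3 lc_g_Cert_tree lc_g_Cert_tree lc_g_rc_27_3 lc_g_rc_21_3 lc_g_rc_27_9 lc_g_rc_21_2 lc_g_rc_24_3 lc_g_Cert_tree lc_g_rc_21_3 lc_g_rc_26_3 lc_g_rc_21_2 lc_g_rc_24_3 lc_g_rc_23_9 lc_g_rc_21_2 lc_g_rc_21_3 lc_g_rc_21_2 lc_g_rc_27_0 lc_g_rc_27_0 lc_g_rc_23_7 lc_g_rc_21_2 lc_g_rc_21_2 lc_g_rc_26_3 lc_g_rc_21_3 lc_g_rc_24_7 lc_g_rc_27_6 lc_g_rc_23_3 lc_g_rc_24_7 lc_g_Cert_tree lc_g_rc_21_3 lc_g_Cert_tree lc_g_Cert_tree lc_g_rc_23_3) (@D3.rec (fun _ => (Cert rels S Gen.g)) lc_g_Cert_tree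 lc_g_rc_21_2 lc_g_Cert_tree lc_g_rc_21_2 lc_g_rc_26_0 lc_g_Cert_tree lc_g_rc_26_9 lc_g_Cert_tree lc_g_rc_24_1 lc_g_rc_23_3 lc_g_Cert_tree lc_g_rc_21_3 lc_g_Cert_tree lc_g_rc_21_3 lc_g_Cert_tree lc_g_rc_24_3 lc_g_rc_26_3 lc_g_Cert_tree lc_g_rc_21_2 lc_g_Cert_tree lc_g_Cert_tree lc_g_rc_24_3 lc_g_rc_21_3 lc_g_rc_21_2 lc_g_rc_26_6 lc_g_Cert_tree lc_g_rc_21_3 lc_g_Cert_tree lc_g_rc_21_2 lc_g_Cert_tree lc_g_Cert_tree lc_g_rc_26_3 lc_g_rc_21_3 lc_g_rc_21_3 lc_g_Cert_tree lc_g_rc_26_9 lc_g_rc_24_9 lc_g_rc_23_7 lc_g_Cert_tree lc_g_rc_27_6 lc_g_rc_21_3 lc_g_Cert_tree lc_g_rc_21_2 lc_g_rc_21_2 lc_g_Cert_tree lc_g_Cert_tree lc_g_rc_23_3 lc_g_rc_21_3 lc_g_rc_26_9 lc_g_rc_26_0 lc_g_Cert_tree lc_g_rc_26_3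 lc_g_rc_23_1 lc_g_rc_21_2 lc_g_rc_21_3 lc_g_Cert_tree lc_g_Cert_tree lc_g_rc_21_2 lc_g_Cert_tree lc_g_Cert_tree lc_g_rc_26_9 lc_g_Cert_tree) (@D3.rec (fun _ => (Cert rels S Gen.g)) lc_g_rc_21_3 lc_g_rc_26_0 lc_g_Cert_tree lc_g_Cert_tree lc_g_rc_21_3 lc_g_Cert_tree lc_g_rc_21_2 lc_g_rc_24_9 lc_g_Cert_tree lc_g_Cert_tree lc_g_rc_21_3 lc_g_rc_21_2 lc_g_rc_21_3 lc_g_Cert_tree lc_g_rc_21_2 lc_g_rc_26_9 lc_g_Cert_tree lc_g_rc_27_6 lc_g_rc_26_6 lc_g_rc_21_3 lc_g_rc_23_7 lc_g_rc_27_0 lc_g_rc_21_3 lc_g_Cert_tree lc_g_Cert_tree lc_g_rc_27_3 lc_g_rc_27_3 lc_g_rc_21_2 lc_g_rc_21_3 lc_g_rc_21_3 lc_g_rc_23_3 lc_g_rc_21_3 lc_g_rc_21_2 lc_g_rc_23_3 lc_g_Cert_tree lc_g_Cert_tree lc_g_rc_21_3 lc_g_rc_24_7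 lc_g_rc_21_3 lc_g_rc_21_2 lc_g_rc_23_7 lc_g_rc_27_6 lc_g_Cert_tree lc_g_rc_21_3 lc_g_rc_26_3 lc_g_rc_26_3 lc_g_rc_21_2 lc_g_rc_21_3 lc_g_Cert_tree lc_g_rc_21_2 lc_g_rc_23_7 lc_g_rc_21_2 lc_g_rc_21_3 lc_g_rc_21_3 lc_g_rc_26_3 lc_g_rc_21_2 lc_g_rc_23_7 lc_g_rc_26_6 lc_g_rc_21_2 lc_g_Cert_tree lc_g_Cert_tree lc_g_rc_21_3) (@D3.rec (fun _ => (Cert rels S Gen.g)) lc_g_Cert_tree lc_g_Cert_tree lc_g_rc_23_1 lc_g_rc_24_7 lc_g_rc_21_3 lc_g_rc_24_7 lc_g_rc_25_19 lc_g_Cert_tree lc_g_rc_21_2 lc_g_rc_21_2 lc_g_rc_21_2 lc_g_rc_23_3 lc_g_Cert_tree lc_g_rc_21_3 lc_g_Cert_tree lc_g_rc_21_2 lc_g_rc_21_2 lc_g_rc_27_9 lc_g_rc_27_6 lc_g_rc_27_3 lc_g_Cert_tree lc_g_Cert_tree lc_g_rc_21_3 lc_g_Cert_tree lc_g_rc_21_2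 lc_g_rc_26_9 lc_g_rc_21_3 lc_g_rc_21_3 lc_g_rc_26_3 lc_g_rc_27_9 lc_g_rc_26_3 lc_g_rc_21_2 lc_g_rc_27_0 lc_g_rc_21_3 lc_g_Cert_tree lc_g_rc_26_3 lc_g_rc_21_2 lc_g_Cert_tree lc_g_Cert_tree lc_g_rc_21_2 lc_g_Cert_tree lc_g_Cert_tree lc_g_rc_21_2 lc_g_rc_21_3 lc_g_rc_21_2 lc_g_Cert_tree lc_g_rc_27_0 lc_g_rc_24_7 lc_g_Cert_tree lc_g_rc_27_3 lc_g_rc_24_7 lc_g_Cert_tree lc_g_rc_21_3 lc_g_Cert_tree lc_g_Cert_tree lc_g_rc_24_9 lc_g_rc_21_2 lc_g_Cert_tree lc_g_rc_23_7 lc_g_rc_21_3 lc_g_rc_26_3 lc_g_Cert_tree) (@D3.rec (fun _ => (Cert rels S Gen.g)) lc_g_rc_24_3 lc_g_Cert_tree lc_g_Cert_tree lc_g_rc_27_6 lc_g_Cert_tree lc_g_rc_24_3 lc_g_Cert_tree lc_g_rc_27_6 lc_g_rc_27_6 lc_g_rc_21_3 lc_g_Cert_tree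 lc_g_rc_26_6 lc_g_rc_26_6 lc_g_rc_24_3 lc_g_Cert_tree lc_g_rc_26_0 lc_g_rc_26_9 lc_g_rc_23_9 lc_g_rc_26_0 lc_g_Cert_tree lc_g_Cert_tree lc_g_rc_21_3 lc_g_Cert_tree lc_g_rc_21_2 lc_g_rc_26_6 lc_g_rc_21_3 lc_g_rc_21_2 lc_g_rc_26_6 lc_g_Cert_tree lc_g_rc_27_6 lc_g_rc_26_6 lc_g_rc_21_3 lc_g_Cert_tree lc_g_rc_21_2 lc_g_Cert_tree lc_g_rc_26_0 lc_g_rc_26_9 lc_g_Cert_tree lc_g_rc_21_3 lc_g_rc_21_3 lc_g_rc_21_3 lc_g_rc_23_7 lc_g_rc_21_3 lc_g_rc_21_3 lc_g_rc_21_2 lc_g_Cert_tree lc_g_Cert_tree lc_g_Cert_tree lc_g_rc_21_3 lc_g_rc_21_3 lc_g_rc_21_2 lc_g_rc_27_3 lc_g_rc_27_6 lc_g_rc_27_3 lc_g_rc_21_3 lc_g_rc_21_3 lc_g_Cert_tree lc_g_rc_23_3 lc_g_rc_21_2 lc_g_rc_23_3 lc_g_rc_26_0 lc_g_rc_21_2) (@D3.rec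 (fun _ => (Cert rels S Gen.g)) lc_g_Cert_tree lc_g_rc_26_6 lc_g_Cert_tree lc_g_rc_21_3 lc_g_Cert_tree lc_g_rc_21_3 lc_g_rc_27_0 lc_g_Cert_tree lc_g_rc_21_2 lc_g_Cert_tree lc_g_rc_21_3 lc_g_Cert_tree lc_g_Cert_tree lc_g_rc_27_3 lc_g_Cert_tree lc_g_rc_21_3 lc_g_Cert_tree lc_g_rc_24_1 lc_g_rc_24_3 lc_g_rc_21_2 lc_g_rc_21_2 lc_g_rc_21_3 lc_g_rc_27_6 lc_g_rc_24_9 lc_g_rc_26_6 lc_g_rc_21_3 lc_g_rc_26_9 lc_g_rc_24_9 lc_g_rc_23_9 lc_g_rc_27_3 lc_g_rc_21_2 lc_g_rc_26_9 lc_g_rc_26_0 lc_g_rc_21_3 lc_g_rc_26_0 lc_g_rc_21_3 lc_g_rc_24_1 lc_g_rc_21_2 lc_g_rc_21_3 lc_g_Cert_tree lc_g_rc_26_3 lc_g_rc_24_3 lc_g_rc_24_3 lc_g_rc_21_3 lc_g_rc_21_2 lc_g_rc_21_2 lc_g_rc_24_1 lc_g_rc_27_9 lc_g_Cert_tree lc_g_Cert_tree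 lc_g_rc_23_9 lc_g_Cert_tree lc_g_rc_21_2 lc_g_rc_23_1 lc_g_Cert_tree lc_g_rc_27_9 lc_g_rc_21_3 lc_g_Cert_tree lc_g_rc_27_3 lc_g_rc_21_3 lc_g_Cert_tree lc_g_rc_23_3) (@D3.rec (fun _ => (Cert rels S Gen.g)) lc_g_rc_21_2 lc_g_Cert_tree lc_g_rc_24_9 lc_g_rc_27_9 lc_g_rc_27_0 lc_g_Cert_tree lc_g_rc_21_3 lc_g_Cert_tree lc_g_rc_27_3 lc_g_rc_24_7 lc_g_Cert_tree lc_g_Cert_tree lc_g_Cert_tree lc_g_rc_24_7 lc_g_Cert_tree lc_g_Cert_tree lc_g_rc_26_3 lc_g_rc_21_2 lc_g_rc_26_3 lc_g_rc_24_1 lc_g_rc_27_3 lc_g_rc_21_3 lc_g_Cert_tree lc_g_rc_21_3 lc_g_rc_24_7 lc_g_Cert_tree lc_g_rc_23_1 lc_g_rc_21_3 lc_g_rc_21_3 lc_g_Cert_tree lc_g_rc_21_3 lc_g_Cert_tree lc_g_rc_21_3 lc_g_Cert_tree lc_g_rc_21_2 lc_g_rc_21_2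 lc_g_rc_26_3 lc_g_rc_21_2 lc_g_Cert_tree lc_g_rc_21_3 lc_g_Cert_tree lc_g_rc_26_9 lc_g_rc_27_0 lc_g_Cert_tree lc_g_Cert_tree lc_g_rc_21_3 lc_g_Cert_tree lc_g_Cert_tree lc_g_rc_21_2 lc_g_rc_24_3 lc_g_rc_21_3 lc_g_Cert_tree lc_g_rc_24_1 lc_g_rc_21_2 lc_g_rc_24_3 lc_g_Cert_tree lc_g_rc_21_3 lc_g_Cert_tree lc_g_rc_27_6 lc_g_rc_21_2 lc_g_rc_21_2 lc_g_rc_24_7) (@D3.rec (fun _ => (Cert rels S Gen.g)) lc_g_rc_23_9 lc_g_Cert_tree lc_g_rc_26_6 lc_g_rc_24_3 lc_g_Cert_tree lc_g_rc_21_3 lc_g_Cert_tree lc_g_Cert_tree lc_g_rc_21_2 lc_g_rc_23_1 lc_g_rc_24_3 lc_g_rc_21_2 lc_g_rc_21_2 lc_g_rc_24_3 lc_g_rc_21_2 lc_g_Cert_tree lc_g_Cert_tree lc_g_rc_26_9 lc_g_Cert_tree lc_g_rc_24_7 lc_g_rc_21_3 lc_g_Cert_tree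 lc_g_Cert_tree lc_g_rc_21_3 lc_g_Cert_tree lc_g_rc_26_0 lc_g_rc_21_3 lc_g_rc_21_3 lc_g_Cert_tree lc_g_rc_21_2 lc_g_Cert_tree lc_g_rc_21_2 lc_g_Cert_tree lc_g_rc_21_2 lc_g_rc_27_9 lc_g_rc_27_0 lc_g_Cert_tree lc_g_rc_23_3 lc_g_Cert_tree lc_g_rc_27_0 lc_g_rc_24_7 lc_g_Cert_tree lc_g_rc_21_3 lc_g_rc_24_3 lc_g_rc_27_3 lc_g_rc_25_11 lc_g_rc_24_9 lc_g_rc_21_3 lc_g_Cert_tree lc_g_rc_21_2 lc_g_rc_21_2 lc_g_rc_21_3 lc_g_rc_26_6 lc_g_rc_21_2 lc_g_Cert_tree lc_g_rc_27_3 lc_g_Cert_tree lc_g_rc_21_3 lc_g_rc_26_0 lc_g_rc_23_3 lc_g_rc_21_2 lc_g_rc_21_3) (@D3.rec (fun _ => (Cert rels S Gen.g)) lc_g_Cert_tree lc_g_Cert_tree lc_g_rc_21_2 lc_g_rc_21_2 lc_g_rc_24_7 lc_g_rc_26_0 lc_g_rc_23_9 lc_g_Cert_tree lc_g_rc_21_2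 lc_g_rc_21_3 lc_g_Cert_tree lc_g_rc_27_3 lc_g_rc_27_6 lc_g_rc_21_3 lc_g_Cert_tree lc_g_rc_21_2 lc_g_rc_27_3 lc_g_Cert_tree lc_g_rc_21_3 lc_g_Cert_tree lc_g_rc_21_2 lc_g_rc_26_0 lc_g_rc_21_2 lc_g_rc_24_3 lc_g_rc_27_6 lc_g_rc_26_3 lc_g_rc_26_6 lc_g_rc_21_3 lc_g_Cert_tree lc_g_rc_21_2 lc_g_rc_25_19 lc_g_Cert_tree lc_g_Cert_tree lc_g_rc_21_3 lc_g_Cert_tree lc_g_rc_21_2 lc_g_rc_23_7 lc_g_rc_23_9 lc_g_Cert_tree lc_g_rc_21_2 lc_g_rc_21_3 lc_g_Cert_tree lc_g_rc_27_3 lc_g_rc_21_3 lc_g_Cert_tree lc_g_rc_21_2 lc_g_rc_26_9 lc_g_rc_27_0 lc_g_rc_24_3 lc_g_rc_26_0 lc_g_rc_26_6 lc_g_rc_21_2 lc_g_rc_26_3 lc_g_Cert_tree lc_g_rc_26_6 lc_g_rc_21_3 lc_g_Cert_tree lc_g_Cert_tree lc_g_rc_26_6 lc_g_rc_21_3 lc_g_Cert_tree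 lc_g_rc_21_2) (@D3.rec (fun _ => (Cert rels S Gen.g)) lc_g_rc_21_3 lc_g_Cert_tree lc_g_rc_24_9 lc_g_rc_21_2 lc_g_rc_26_0 lc_g_rc_26_9 lc_g_rc_21_2 lc_g_rc_21_3 lc_g_Cert_tree lc_g_Cert_tree lc_g_Cert_tree lc_g_rc_21_2 lc_g_rc_26_9 lc_g_rc_21_2 lc_g_Cert_tree lc_g_Cert_tree lc_g_rc_21_3 lc_g_Cert_tree lc_g_rc_21_2 lc_g_rc_26_6 lc_g_Cert_tree lc_g_rc_27_3 lc_g_Cert_tree lc_g_rc_21_3 lc_g_Cert_tree lc_g_rc_21_2 lc_g_Cert_tree lc_g_rc_23_9 lc_g_rc_27_9 lc_g_rc_27_9 lc_g_rc_27_6 lc_g_rc_27_3 lc_g_rc_21_3 lc_g_rc_27_6 lc_g_rc_21_2 lc_g_rc_21_3 lc_g_Cert_tree lc_g_Cert_tree lc_g_rc_24_3 lc_g_rc_21_2 lc_g_rc_27_3 lc_g_rc_21_2 lc_g_rc_24_3 lc_g_rc_21_3 lc_g_rc_26_6 lc_g_rc_24_7 lc_g_rc_21_2 lc_g_rc_21_3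 lc_g_Cert_tree lc_g_rc_21_2 lc_g_Cert_tree lc_g_rc_21_2 lc_g_rc_21_2 lc_g_Cert_tree lc_g_rc_21_2 lc_g_rc_24_3 lc_g_rc_27_3 lc_g_rc_21_3 lc_g_Cert_tree lc_g_rc_21_2 lc_g_Cert_tree lc_g_rc_21_3) (@D3.rec (fun _ => (Cert rels S Gen.g)) lc_g_Cert_tree lc_g_rc_21_2 lc_g_rc_27_3 lc_g_rc_26_3 lc_g_rc_21_3 lc_g_rc_21_3 lc_g_Cert_tree lc_g_rc_21_3 lc_g_rc_21_3 lc_g_Cert_tree lc_g_Cert_tree lc_g_rc_21_2 lc_g_rc_26_3 lc_g_Cert_tree lc_g_rc_21_2 lc_g_rc_27_3 lc_g_rc_26_9 lc_g_Cert_tree lc_g_rc_21_3 lc_g_rc_21_2 lc_g_Cert_tree lc_g_rc_21_3 lc_g_Cert_tree lc_g_rc_21_2 lc_g_rc_26_0 lc_g_rc_26_6 lc_g_rc_26_6 lc_g_rc_21_3 lc_g_rc_27_3 lc_g_rc_26_3 lc_g_rc_26_6 lc_g_rc_26_0 lc_g_rc_27_9 lc_g_rc_24_9 lc_g_rc_21_3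 lc_g_Cert_tree lc_g_rc_27_3 lc_g_rc_26_6 lc_g_rc_21_3 lc_g_Cert_tree lc_g_rc_26_3 lc_g_rc_21_2 lc_g_Cert_tree lc_g_rc_21_2 lc_g_Cert_tree lc_g_rc_24_9 lc_g_Cert_tree lc_g_rc_27_3 lc_g_rc_23_1 lc_g_rc_24_9 lc_g_Cert_tree lc_g_rc_27_6 lc_g_rc_24_7 lc_g_Cert_tree lc_g_rc_21_3 lc_g_Cert_tree lc_g_rc_21_2 lc_g_rc_21_3 lc_g_Cert_tree lc_g_rc_24_7 lc_g_Cert_tree lc_g_Cert_tree) (@D3.rec (fun _ => (Cert rels S Gen.g)) lc_g_rc_26_0 lc_g_rc_23_7 lc_g_Cert_tree lc_g_rc_24_9 lc_g_rc_27_6 lc_g_Cert_tree lc_g_rc_26_0 lc_g_Cert_tree lc_g_rc_21_3 lc_g_rc_26_9 lc_g_rc_27_6 lc_g_rc_23_7 lc_g_rc_27_0 lc_g_rc_21_2 lc_g_Cert_tree lc_g_rc_26_6 lc_g_rc_21_2 lc_g_rc_26_0 lc_g_rc_27_9 lc_g_rc_21_3 lc_g_rc_21_3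 lc_g_rc_24_1 lc_g_rc_21_3 lc_g_rc_21_2 lc_g_rc_27_3 lc_g_rc_27_0 lc_g_rc_24_3 lc_g_rc_21_2 lc_g_Cert_tree lc_g_rc_23_7 lc_g_rc_21_2 lc_g_rc_21_2 lc_g_rc_27_9 lc_g_rc_21_3 lc_g_Cert_tree lc_g_Cert_tree lc_g_Cert_tree lc_g_rc_21_2 lc_g_rc_26_0 lc_g_Cert_tree lc_g_Cert_tree lc_g_rc_24_7 lc_g_rc_27_0 lc_g_rc_21_3 lc_g_Cert_tree lc_g_Cert_tree lc_g_Cert_tree lc_g_rc_26_3 lc_g_rc_21_2 lc_g_rc_26_9 lc_g_rc_21_2 lc_g_rc_27_9 lc_g_Cert_tree lc_g_rc_27_3 lc_g_Cert_tree lc_g_rc_26_9 lc_g_Cert_tree lc_g_rc_21_3 lc_g_Cert_tree lc_g_rc_27_0 lc_g_rc_24_7 lc_g_Cert_tree) (@D3.rec (fun _ => (Cert rels S Gen.g)) lc_g_rc_23_1 lc_g_Cert_tree lc_g_Cert_tree lc_g_Cert_tree lc_g_rc_21_3 lc_g_Cert_tree lc_g_rc_21_2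 lc_g_rc_21_3 lc_g_rc_21_2 lc_g_rc_24_1 lc_g_rc_21_3 lc_g_Cert_tree lc_g_rc_21_2 lc_g_rc_21_3 lc_g_Cert_tree lc_g_rc_27_9 lc_g_rc_21_2 lc_g_rc_21_3 lc_g_rc_23_7 lc_g_rc_27_3 lc_g_rc_26_6 lc_g_rc_26_3 lc_g_rc_21_3 lc_g_Cert_tree lc_g_Cert_tree lc_g_rc_21_2 lc_g_rc_24_7 lc_g_rc_21_2 lc_g_rc_26_3 lc_g_rc_24_9 lc_g_rc_24_1 lc_g_rc_27_6 lc_g_Cert_tree lc_g_rc_21_3 lc_g_Cert_tree lc_g_rc_27_3 lc_g_rc_21_2 lc_g_rc_27_3 lc_g_rc_21_3 lc_g_Cert_tree lc_g_rc_26_3 lc_g_rc_27_6 lc_g_rc_21_3 lc_g_Cert_tree lc_g_rc_21_2 lc_g_Cert_tree lc_g_rc_21_2 lc_g_Cert_tree lc_g_rc_26_0 lc_g_Cert_tree lc_g_Cert_tree lc_g_rc_27_9 lc_g_Cert_tree lc_g_rc_23_1 lc_g_Cert_tree lc_g_Cert_tree lc_g_rc_21_3 lc_g_Cert_tree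 lc_g_rc_21_3 lc_g_rc_21_2 lc_g_rc_21_3 lc_g_Cert_tree) (@D3.rec (fun _ => (Cert rels S Gen.g)) lc_g_Cert_tree lc_g_rc_24_7 lc_g_Cert_tree lc_g_rc_27_9 lc_g_rc_21_2 lc_g_rc_21_3 lc_g_Cert_tree lc_g_Cert_tree lc_g_Cert_tree lc_g_rc_24_7 lc_g_Cert_tree lc_g_rc_26_6 lc_g_rc_27_0 lc_g_rc_24_7 lc_g_Cert_tree lc_g_rc_24_3 lc_g_rc_27_3 lc_g_Cert_tree lc_g_rc_26_0 lc_g_rc_21_3 lc_g_Cert_tree lc_g_Cert_tree lc_g_rc_21_2 lc_g_rc_27_0 lc_g_rc_21_3 lc_g_rc_21_2 lc_g_rc_21_2 lc_g_Cert_tree lc_g_rc_27_3 lc_g_rc_21_3 lc_g_rc_23_7 lc_g_rc_24_3 lc_g_rc_27_6 lc_g_rc_27_0 lc_g_rc_21_3 lc_g_Cert_tree lc_g_rc_21_2 lc_g_rc_21_3 lc_g_Cert_tree lc_g_rc_27_3 lc_g_rc_21_2 lc_g_rc_21_2 lc_g_rc_24_3 lc_g_rc_21_2 lc_g_rc_21_2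 lc_g_rc_27_3 lc_g_Cert_tree lc_g_rc_21_3 lc_g_Cert_tree lc_g_rc_26_6 lc_g_rc_23_1 lc_g_Cert_tree lc_g_rc_21_3 lc_g_rc_21_2 lc_g_rc_26_6 lc_g_rc_24_7 lc_g_Cert_tree lc_g_rc_24_3 lc_g_Cert_tree lc_g_rc_21_3 lc_g_Cert_tree lc_g_Cert_tree) (@D3.rec (fun _ => (Cert rels S Gen.g)) lc_g_rc_21_2 lc_g_Cert_tree lc_g_rc_24_7 lc_g_rc_25_7 lc_g_rc_24_9 lc_g_rc_21_3 lc_g_rc_21_3 lc_g_rc_26_3 lc_g_rc_26_0 lc_g_rc_26_3 lc_g_rc_27_9 lc_g_rc_21_3 lc_g_rc_21_3 lc_g_rc_26_9 lc_g_rc_21_3 lc_g_rc_26_3 lc_g_Cert_tree lc_g_Cert_tree lc_g_Cert_tree lc_g_rc_26_0 lc_g_rc_21_3 lc_g_rc_26_9 lc_g_rc_24_9 lc_g_rc_21_3 lc_g_Cert_tree lc_g_rc_21_2 lc_g_rc_26_6 lc_g_rc_26_0 lc_g_rc_26_9 lc_g_rc_21_3 lc_g_rc_27_9 lc_g_rc_26_6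 lc_g_rc_21_3 lc_g_Cert_tree lc_g_Cert_tree lc_g_rc_24_3 lc_g_rc_24_9 lc_g_rc_21_2 lc_g_rc_21_2 lc_g_rc_27_6 lc_g_rc_26_6 lc_g_rc_27_6 lc_g_rc_21_3 lc_g_rc_27_0 lc_g_rc_21_2 lc_g_rc_23_3 lc_g_Cert_tree lc_g_rc_26_3 lc_g_Cert_tree lc_g_rc_26_3 lc_g_rc_21_3 lc_g_rc_24_7 lc_g_Cert_tree lc_g_rc_24_7 lc_g_rc_27_0 lc_g_rc_24_1 lc_g_Cert_tree lc_g_rc_25_3 lc_g_Cert_tree lc_g_rc_24_3 lc_g_rc_21_2 lc_g_rc_21_3) (@D3.rec (fun _ => (Cert rels S Gen.g)) lc_g_rc_27_3 lc_g_rc_21_2 lc_g_rc_27_0 lc_g_Cert_tree lc_g_Cert_tree lc_g_rc_27_0 lc_g_rc_21_3 lc_g_Cert_tree lc_g_rc_21_3 lc_g_Cert_tree lc_g_rc_21_2 lc_g_Cert_tree lc_g_rc_23_9 lc_g_Cert_tree lc_g_rc_21_3 lc_g_Cert_tree lc_g_rc_24_7 lc_g_rc_27_9 lc_g_rc_21_3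 lc_g_Cert_tree lc_g_rc_23_9 lc_g_rc_21_3 lc_g_Cert_tree lc_g_rc_21_2 lc_g_rc_21_2 lc_g_rc_26_3 lc_g_Cert_tree lc_g_rc_25_7 lc_g_Cert_tree lc_g_rc_21_3 lc_g_Cert_tree lc_g_rc_27_3 lc_g_rc_21_2 lc_g_rc_27_6 lc_g_Cert_tree lc_g_Cert_tree lc_g_rc_26_9 lc_g_rc_21_3 lc_g_rc_21_3 lc_g_Cert_tree lc_g_rc_21_2 lc_g_Cert_tree lc_g_rc_21_2 lc_g_Cert_tree lc_g_rc_24_1 lc_g_rc_21_3 lc_g_Cert_tree lc_g_rc_21_2 lc_g_rc_21_3 lc_g_rc_21_3 lc_g_rc_21_2 lc_g_rc_23_3 lc_g_Cert_tree lc_g_rc_21_3 lc_g_Cert_tree lc_g_rc_21_3 lc_g_rc_21_3 lc_g_Cert_tree lc_g_Cert_tree lc_g_rc_21_2 lc_g_rc_27_0 lc_g_rc_26_6) (@D3.rec (fun _ => (Cert rels S Gen.g)) lc_g_rc_21_2 lc_g_rc_24_3 lc_g_rc_21_3 lc_g_Cert_tree lc_g_Cert_tree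 lc_g_Cert_tree lc_g_rc_21_2 lc_g_rc_21_3 lc_g_rc_21_3 lc_g_Cert_tree lc_g_rc_27_6 lc_g_rc_27_3 lc_g_rc_26_3 lc_g_rc_26_6 lc_g_Cert_tree lc_g_Cert_tree lc_g_rc_21_3 lc_g_Cert_tree lc_g_rc_27_6 lc_g_rc_21_2 lc_g_rc_23_9 lc_g_rc_21_3 lc_g_Cert_tree lc_g_rc_27_0 lc_g_Cert_tree lc_g_Cert_tree lc_g_rc_23_3 lc_g_Cert_tree lc_g_rc_23_3 lc_g_Cert_tree lc_g_rc_21_2 lc_g_rc_26_9 lc_g_rc_26_0 lc_g_Cert_tree lc_g_Cert_tree lc_g_rc_21_3 lc_g_Cert_tree lc_g_rc_26_9 lc_g_rc_26_6 lc_g_rc_23_9 lc_g_rc_21_3 lc_g_rc_23_3 lc_g_rc_21_2 lc_g_rc_27_9 lc_g_rc_26_0 lc_g_rc_23_3 lc_g_Cert_tree lc_g_Cert_tree lc_g_rc_21_2 lc_g_rc_21_3 lc_g_Cert_tree lc_g_Cert_tree lc_g_rc_21_2 lc_g_rc_27_3 lc_g_rc_23_9 lc_g_rc_26_6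 lc_g_rc_23_7 lc_g_rc_21_3 lc_g_Cert_tree lc_g_rc_24_3 lc_g_rc_21_2 lc_g_rc_21_2) (@D3.rec (fun _ => (Cert rels S Gen.g)) lc_g_rc_26_6 lc_g_rc_21_3 lc_g_Cert_tree lc_g_Cert_tree lc_g_rc_21_2 lc_g_rc_26_3 lc_g_rc_23_3 lc_g_rc_27_6 lc_g_rc_21_3 lc_g_rc_24_9 lc_g_Cert_tree lc_g_Cert_tree lc_g_rc_21_2 lc_g_rc_21_3 lc_g_rc_21_2 lc_g_Cert_tree lc_g_Cert_tree lc_g_rc_21_3 lc_g_rc_26_9 lc_g_rc_26_6 lc_g_rc_21_3 lc_g_Cert_tree lc_g_rc_21_2 lc_g_rc_24_7 lc_g_rc_23_7 lc_g_rc_21_3 lc_g_rc_21_3 lc_g_Cert_tree lc_g_rc_26_6 lc_g_rc_26_9 lc_g_Cert_tree lc_g_rc_26_0 lc_g_rc_23_7 lc_g_rc_26_6 lc_g_rc_27_9 lc_g_rc_21_3 lc_g_rc_26_0 lc_g_rc_21_2 lc_g_rc_26_3 lc_g_rc_21_3 lc_g_Cert_tree lc_g_rc_26_3 lc_g_rc_23_3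 lc_g_Cert_tree lc_g_rc_21_3 lc_g_rc_21_2 lc_g_rc_27_3 lc_g_Cert_tree lc_g_Cert_tree lc_g_Cert_tree lc_g_rc_24_7 lc_g_Cert_tree lc_g_rc_21_2 lc_g_rc_21_2 lc_g_rc_21_2 lc_g_rc_21_3 lc_g_Cert_tree lc_g_Cert_tree lc_g_rc_21_3 lc_g_rc_21_3 lc_g_rc_26_6 lc_g_rc_21_3) (@D3.rec (fun _ => (Cert rels S Gen.g)) lc_g_rc_26_3 lc_g_rc_21_2 lc_g_rc_26_6 lc_g_rc_27_6 lc_g_rc_21_3 lc_g_Cert_tree lc_g_rc_21_2 lc_g_rc_21_2 lc_g_rc_21_3 lc_g_rc_21_3 lc_g_rc_24_7 lc_g_rc_26_6 lc_g_rc_21_3 lc_g_rc_27_9 lc_g_rc_24_3 lc_g_rc_23_9 lc_g_rc_23_1 lc_g_rc_21_3 lc_g_Cert_tree lc_g_rc_21_2 lc_g_rc_24_7 lc_g_rc_24_7 lc_g_rc_27_6 lc_g_rc_26_0 lc_g_rc_21_3 lc_g_rc_21_2 lc_g_Cert_tree lc_g_rc_21_2 lc_g_rc_24_3 lc_g_rc_21_3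 lc_g_rc_23_1 lc_g_rc_23_9 lc_g_rc_21_3 lc_g_Cert_tree lc_g_Cert_tree lc_g_rc_21_2 lc_g_Cert_tree lc_g_rc_26_0 lc_g_rc_27_9 lc_g_rc_21_3 lc_g_Cert_tree lc_g_rc_21_3 lc_g_Cert_tree lc_g_rc_27_0 lc_g_rc_21_2 lc_g_rc_21_2 lc_g_rc_21_2 lc_g_Cert_tree lc_g_rc_27_0 lc_g_rc_21_2 lc_g_rc_23_7 lc_g_rc_21_3 lc_g_Cert_tree lc_g_rc_23_3 lc_g_rc_21_2 lc_g_Cert_tree lc_g_rc_21_2 lc_g_rc_21_2 lc_g_rc_24_9 lc_g_rc_24_9 lc_g_rc_21_2 lc_g_rc_24_7) (@D3.rec (fun _ => (Cert rels S Gen.g)) lc_g_Cert_tree lc_g_rc_27_3 lc_g_rc_24_7 lc_g_Cert_tree lc_g_rc_21_3 lc_g_Cert_tree lc_g_Cert_tree lc_g_Cert_tree lc_g_rc_23_7 lc_g_rc_27_9 lc_g_rc_23_1 lc_g_rc_23_9 lc_g_Cert_tree lc_g_rc_23_7 lc_g_Cert_tree lc_g_rc_26_6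 lc_g_rc_24_9 lc_g_rc_21_3 lc_g_Cert_tree lc_g_rc_26_6 lc_g_rc_21_3 lc_g_Cert_tree lc_g_Cert_tree lc_g_rc_21_2 lc_g_Cert_tree lc_g_rc_26_9 lc_g_rc_21_3 lc_g_rc_26_6 lc_g_rc_27_6 lc_g_rc_21_3 lc_g_Cert_tree lc_g_rc_21_2 lc_g_rc_21_2 lc_g_rc_24_7 lc_g_Cert_tree lc_g_rc_21_3 lc_g_Cert_tree lc_g_rc_21_3 lc_g_rc_21_2 lc_g_rc_21_3 lc_g_Cert_tree lc_g_Cert_tree lc_g_rc_26_0 lc_g_Cert_tree lc_g_rc_26_9 lc_g_rc_23_7 lc_g_rc_27_6 lc_g_rc_26_6 lc_g_rc_21_3 lc_g_rc_23_3 lc_g_rc_27_0 lc_g_rc_21_3 lc_g_Cert_tree lc_g_Cert_tree lc_g_rc_21_2 lc_g_rc_21_3 lc_g_rc_21_2 lc_g_Cert_tree lc_g_Cert_tree lc_g_rc_24_7 lc_g_rc_21_3 lc_g_Cert_tree) (@D3.rec (fun _ => (Cert rels S Gen.g)) lc_g_rc_21_2 lc_g_Cert_tree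 lc_g_rc_24_9 lc_g_rc_27_3 lc_g_rc_21_2 lc_g_rc_23_1 lc_g_rc_27_0 lc_g_rc_21_3 lc_g_rc_24_7 lc_g_rc_25_19 lc_g_Cert_tree lc_g_rc_26_6 lc_g_rc_26_3 lc_g_rc_26_0 lc_g_Cert_tree lc_g_rc_21_2 lc_g_rc_26_6 lc_g_rc_21_2 lc_g_rc_26_6 lc_g_Cert_tree lc_g_rc_26_6 lc_g_rc_27_0 lc_g_Cert_tree lc_g_rc_21_3 lc_g_rc_21_2 lc_g_rc_24_1 lc_g_rc_21_3 lc_g_Cert_tree lc_g_rc_21_3 lc_g_rc_26_6 lc_g_Cert_tree lc_g_rc_26_6 lc_g_rc_26_9 lc_g_rc_21_2 lc_g_Cert_tree lc_g_rc_21_3 lc_g_Cert_tree lc_g_Cert_tree lc_g_rc_21_2 lc_g_rc_27_9 lc_g_rc_26_6 lc_g_rc_21_3 lc_g_Cert_tree lc_g_rc_26_3 lc_g_Cert_tree lc_g_Cert_tree lc_g_rc_21_2 lc_g_Cert_tree lc_g_Cert_tree lc_g_rc_23_1 lc_g_Cert_tree lc_g_rc_21_2 lc_g_rc_24_7 lc_g_Cert_tree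 lc_g_rc_27_3 lc_g_rc_24_7 lc_g_rc_24_9 lc_g_rc_25_7 lc_g_rc_21_2 lc_g_Cert_tree lc_g_rc_21_2 lc_g_rc_21_2) (@D3.rec (fun _ => (Cert rels S Gen.g)) lc_g_Cert_tree lc_g_rc_26_0 lc_g_rc_26_6 lc_g_Cert_tree lc_g_rc_21_2 lc_g_rc_21_2 lc_g_rc_21_2 lc_g_Cert_tree lc_g_rc_24_7 lc_g_Cert_tree lc_g_rc_21_2 lc_g_rc_26_9 lc_g_rc_26_6 lc_g_Cert_tree lc_g_rc_21_3 lc_g_Cert_tree lc_g_Cert_tree lc_g_rc_21_2 lc_g_rc_26_9 lc_g_rc_21_3 lc_g_rc_21_3 lc_g_rc_26_9 lc_g_rc_21_3 lc_g_rc_21_2 lc_g_rc_27_6 lc_g_rc_21_3 lc_g_Cert_tree lc_g_Cert_tree lc_g_rc_21_2 lc_g_rc_27_9 lc_g_rc_21_3 lc_g_rc_27_9 lc_g_rc_27_6 lc_g_rc_21_3 lc_g_Cert_tree lc_g_Cert_tree lc_g_rc_21_2 lc_g_rc_21_2 lc_g_Cert_tree lc_g_rc_21_3 lc_g_Cert_tree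 lc_g_rc_26_0 lc_g_rc_21_3 lc_g_rc_21_3 lc_g_rc_27_3 lc_g_rc_23_3 lc_g_rc_21_2 lc_g_rc_23_3 lc_g_rc_23_3 lc_g_rc_24_3 lc_g_rc_21_3 lc_g_Cert_tree lc_g_Cert_tree lc_g_rc_26_9 lc_g_rc_26_0 lc_g_Cert_tree lc_g_rc_21_3 lc_g_rc_21_3 lc_g_rc_21_3 lc_g_Cert_tree lc_g_Cert_tree lc_g_rc_23_7) (@D3.rec (fun _ => (Cert rels S Gen.g)) lc_g_Cert_tree lc_g_rc_26_0 lc_g_rc_21_3 lc_g_rc_24_3 lc_g_rc_21_3 lc_g_Cert_tree lc_g_Cert_tree lc_g_rc_21_2 lc_g_rc_27_3 lc_g_Cert_tree lc_g_rc_21_3 lc_g_Cert_tree lc_g_Cert_tree lc_g_rc_21_2 lc_g_Cert_tree lc_g_rc_24_3 lc_g_rc_24_7 lc_g_Cert_tree lc_g_rc_24_1 lc_g_rc_27_9 lc_g_Cert_tree lc_g_rc_27_6 lc_g_rc_27_6 lc_g_Cert_tree lc_g_rc_24_1 lc_g_rc_21_2 lc_g_Cert_tree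 lc_g_rc_27_9 lc_g_rc_26_0 lc_g_rc_23_3 lc_g_rc_21_2 lc_g_rc_21_3 lc_g_Cert_tree lc_g_rc_26_3 lc_g_rc_21_2 lc_g_rc_25_3 lc_g_rc_23_3 lc_g_rc_27_3 lc_g_rc_21_2 lc_g_rc_21_3 lc_g_Cert_tree lc_g_rc_21_2 lc_g_rc_27_0 lc_g_rc_26_0 lc_g_rc_21_2 lc_g_rc_21_3 lc_g_rc_21_2 lc_g_Cert_tree lc_g_rc_24_3 lc_g_Cert_tree lc_g_Cert_tree lc_g_rc_27_0 lc_g_rc_27_0 lc_g_Cert_tree lc_g_rc_24_1 lc_g_Cert_tree lc_g_Cert_tree lc_g_rc_27_3 lc_g_rc_21_2 lc_g_Cert_tree lc_g_rc_27_6 lc_g_rc_21_3) (@D3.rec (fun _ => (Cert rels S Gen.g)) lc_g_rc_27_0 lc_g_rc_23_9 lc_g_Cert_tree lc_g_rc_21_2 lc_g_rc_27_6 lc_g_rc_27_6 lc_g_rc_27_0 lc_g_rc_24_3 lc_g_rc_24_3 lc_g_Cert_tree lc_g_rc_27_9 lc_g_rc_21_2 lc_g_Cert_tree lc_g_rc_23_1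 lc_g_rc_24_1 lc_g_rc_24_3 lc_g_rc_21_3 lc_g_Cert_tree lc_g_rc_25_7 lc_g_rc_21_2 lc_g_rc_21_2 lc_g_rc_21_2 lc_g_rc_26_0 lc_g_rc_21_3 lc_g_rc_23_3 lc_g_Cert_tree lc_g_Cert_tree lc_g_rc_25_15 lc_g_Cert_tree lc_g_rc_27_3 lc_g_rc_24_7 lc_g_Cert_tree lc_g_rc_21_3 lc_g_Cert_tree lc_g_rc_27_6 lc_g_Cert_tree lc_g_rc_21_3 lc_g_Cert_tree lc_g_rc_21_2 lc_g_rc_21_2 lc_g_rc_26_3 lc_g_rc_21_2 lc_g_rc_21_2 lc_g_rc_27_6 lc_g_Cert_tree lc_g_rc_27_3 lc_g_rc_26_6 lc_g_rc_21_2 lc_g_rc_21_3 lc_g_Cert_tree lc_g_rc_24_9 lc_g_rc_21_2 lc_g_rc_24_7 lc_g_rc_21_2 lc_g_Cert_tree lc_g_rc_27_6 lc_g_rc_24_1 lc_g_Cert_tree lc_g_Cert_tree lc_g_Cert_tree lc_g_rc_21_3 lc_g_Cert_tree)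
def ce_g_14 : D2 → D3 → (Cert rels S Gen.g) := @D2.rec (fun _ => D3 → (Cert rels S Gen.g)) (@D3.rec (fun _ => (Cert rels S Gen.g)) lc_g_rc_21_2 lc_g_rc_21_2 lc_g_rc_27_3 lc_g_rc_21_3 lc_g_rc_27_6 lc_g_rc_26_6 lc_g_Cert_tree lc_g_rc_21_3 lc_g_Cert_tree lc_g_rc_26_3 lc_g_Cert_tree lc_g_rc_27_6 lc_g_Cert_tree lc_g_rc_21_2 lc_g_Cert_tree lc_g_Cert_tree lc_g_rc_21_3 lc_g_Cert_tree lc_g_rc_25_11 lc_g_rc_27_6 lc_g_Cert_tree lc_g_rc_21_3 lc_g_Cert_tree lc_g_rc_21_3 lc_g_Cert_tree lc_g_rc_21_2 lc_g_Cert_tree lc_g_rc_23_3 lc_g_Cert_tree lc_g_rc_23_1 lc_g_rc_23_9 lc_g_Cert_tree lc_g_rc_24_7 lc_g_rc_27_6 lc_g_rc_21_3 lc_g_Cert_tree lc_g_rc_27_3 lc_g_rc_21_2 lc_g_rc_24_7 lc_g_rc_27_6 lc_g_rc_26_6 lc_g_rc_24_3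 lc_g_rc_24_3 lc_g_rc_23_1 lc_g_rc_24_1 lc_g_rc_21_3 lc_g_Cert_tree lc_g_rc_26_0 lc_g_rc_21_2 lc_g_Cert_tree lc_g_rc_24_7 lc_g_rc_21_2 lc_g_rc_26_0 lc_g_Cert_tree lc_g_Cert_tree lc_g_Cert_tree lc_g_rc_25_7 lc_g_rc_21_2 lc_g_Cert_tree lc_g_Cert_tree lc_g_rc_27_0 lc_g_rc_21_2) (@D3.rec (fun _ => (Cert rels S Gen.g)) lc_g_rc_27_6 lc_g_Cert_tree lc_g_rc_21_2 lc_g_rc_21_3 lc_g_Cert_tree lc_g_rc_21_2 lc_g_rc_21_2 lc_g_rc_27_3 lc_g_rc_21_3 lc_g_rc_26_6 lc_g_rc_23_1 lc_g_rc_24_9 lc_g_rc_27_6 lc_g_rc_21_3 lc_g_Cert_tree lc_g_Cert_tree lc_g_rc_26_3 lc_g_rc_21_3 lc_g_Cert_tree lc_g_Cert_tree lc_g_rc_21_2 lc_g_Cert_tree lc_g_Cert_tree lc_g_rc_24_3 lc_g_rc_27_0 lc_g_rc_27_3 lc_g_rc_23_1 lc_g_Cert_tree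 lc_g_Cert_tree lc_g_rc_21_3 lc_g_Cert_tree lc_g_Cert_tree lc_g_rc_21_2 lc_g_rc_24_7 lc_g_rc_21_3 lc_g_rc_21_3 lc_g_rc_26_3 lc_g_rc_21_2 lc_g_rc_21_2 lc_g_rc_21_3 lc_g_Cert_tree lc_g_rc_21_3 lc_g_rc_26_0 lc_g_rc_23_3 lc_g_rc_21_3 lc_g_rc_21_2 lc_g_rc_26_6 lc_g_Cert_tree lc_g_rc_24_9 lc_g_rc_21_2 lc_g_rc_26_0 lc_g_rc_23_7 lc_g_Cert_tree lc_g_rc_21_2 lc_g_rc_23_3 lc_g_rc_26_6 lc_g_rc_21_2 lc_g_rc_21_3 lc_g_Cert_tree lc_g_Cert_tree lc_g_rc_21_3 lc_g_Cert_tree) (@D3.rec (fun _ => (Cert rels S Gen.g)) lc_g_rc_26_6 lc_g_rc_21_3 lc_g_rc_23_7 lc_g_rc_21_3 lc_g_Cert_tree lc_g_rc_26_3 lc_g_rc_21_2 lc_g_Cert_tree lc_g_rc_21_3 lc_g_Cert_tree lc_g_Cert_tree lc_g_rc_21_2 lc_g_rc_21_3 lc_g_Cert_tree lc_g_rc_27_3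 lc_g_rc_24_9 lc_g_Cert_tree lc_g_rc_23_9 lc_g_rc_26_6 lc_g_rc_27_3 lc_g_rc_24_3 lc_g_Cert_tree lc_g_rc_27_0 lc_g_rc_21_2 lc_g_rc_21_3 lc_g_rc_21_2 lc_g_Cert_tree lc_g_rc_23_3 lc_g_Cert_tree lc_g_rc_21_3 lc_g_rc_24_9 lc_g_rc_25_3 lc_g_rc_24_7 lc_g_Cert_tree lc_g_Cert_tree lc_g_rc_21_3 lc_g_Cert_tree lc_g_rc_26_3 lc_g_rc_21_2 lc_g_rc_24_1 lc_g_Cert_tree lc_g_rc_26_6 lc_g_rc_27_6 lc_g_rc_21_3 lc_g_Cert_tree lc_g_rc_21_2 lc_g_Cert_tree lc_g_rc_26_3 lc_g_rc_21_3 lc_g_Cert_tree lc_g_rc_21_2 lc_g_Cert_tree lc_g_rc_23_1 lc_g_rc_21_3 lc_g_rc_24_1 lc_g_rc_21_2 lc_g_rc_21_2 lc_g_rc_23_3 lc_g_Cert_tree lc_g_rc_21_3 lc_g_rc_26_6 lc_g_rc_24_9) (@D3.rec (fun _ => (Cert rels S Gen.g)) lc_g_rc_24_3 lc_g_rc_26_6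 lc_g_rc_23_7 lc_g_rc_26_0 lc_g_Cert_tree lc_g_Cert_tree lc_g_rc_27_9 lc_g_rc_21_2 lc_g_rc_21_3 lc_g_rc_24_7 lc_g_Cert_tree lc_g_rc_21_3 lc_g_Cert_tree lc_g_rc_21_3 lc_g_Cert_tree lc_g_rc_26_6 lc_g_rc_24_7 lc_g_Cert_tree lc_g_rc_27_3 lc_g_rc_24_7 lc_g_rc_27_6 lc_g_rc_21_2 lc_g_Cert_tree lc_g_Cert_tree lc_g_rc_26_3 lc_g_rc_26_3 lc_g_rc_21_3 lc_g_rc_26_3 lc_g_Cert_tree lc_g_Cert_tree lc_g_rc_27_6 lc_g_rc_26_6 lc_g_Cert_tree lc_g_rc_24_9 lc_g_rc_26_3 lc_g_Cert_tree lc_g_rc_21_3 lc_g_Cert_tree lc_g_rc_21_3 lc_g_Cert_tree lc_g_rc_21_2 lc_g_Cert_tree lc_g_Cert_tree lc_g_rc_21_2 lc_g_rc_26_9 lc_g_rc_27_9 lc_g_rc_27_9 lc_g_Cert_tree lc_g_Cert_tree lc_g_Cert_tree lc_g_rc_27_6 lc_g_rc_27_6 lc_g_Cert_tree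 lc_g_rc_21_2 lc_g_rc_23_1 lc_g_rc_26_6 lc_g_rc_26_0 lc_g_rc_21_3 lc_g_rc_21_3 lc_g_Cert_tree lc_g_Cert_tree lc_g_rc_21_2) (@D3.rec (fun _ => (Cert rels S Gen.g)) lc_g_rc_26_6 lc_g_rc_27_9 lc_g_rc_26_3 lc_g_rc_21_3 lc_g_rc_26_9 lc_g_rc_27_3 lc_g_rc_26_6 lc_g_Cert_tree lc_g_Cert_tree lc_g_Cert_tree lc_g_rc_21_3 lc_g_rc_21_2 lc_g_rc_27_9 lc_g_rc_21_3 lc_g_rc_21_2 lc_g_rc_27_0 lc_g_rc_21_2 lc_g_Cert_tree lc_g_rc_21_3 lc_g_Cert_tree lc_g_rc_21_2 lc_g_rc_21_3 lc_g_rc_21_3 lc_g_Cert_tree lc_g_rc_23_3 lc_g_rc_27_6 lc_g_rc_23_3 lc_g_rc_27_0 lc_g_rc_23_3 lc_g_Cert_tree lc_g_rc_24_7 lc_g_rc_25_11 lc_g_rc_23_7 lc_g_rc_24_7 lc_g_rc_21_3 lc_g_Cert_tree lc_g_rc_26_6 lc_g_Cert_tree lc_g_rc_24_1 lc_g_rc_26_6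 lc_g_Cert_tree lc_g_rc_27_3 lc_g_rc_21_2 lc_g_rc_21_2 lc_g_rc_23_3 lc_g_Cert_tree lc_g_rc_26_6 lc_g_Cert_tree lc_g_rc_21_3 lc_g_rc_21_2 lc_g_rc_26_6 lc_g_rc_21_3 lc_g_rc_21_2 lc_g_rc_26_3 lc_g_rc_25_3 lc_g_rc_27_6 lc_g_Cert_tree lc_g_rc_27_9 lc_g_Cert_tree lc_g_rc_24_1 lc_g_rc_21_3 lc_g_rc_24_3) (@D3.rec (fun _ => (Cert rels S Gen.g)) lc_g_Cert_tree lc_g_rc_21_3 lc_g_rc_26_0 lc_g_rc_21_2 lc_g_rc_21_3 lc_g_Cert_tree lc_g_Cert_tree lc_g_rc_23_9 lc_g_rc_24_1 lc_g_rc_26_0 lc_g_rc_27_3 lc_g_Cert_tree lc_g_rc_21_2 lc_g_rc_21_3 lc_g_Cert_tree lc_g_rc_21_2 lc_g_rc_21_3 lc_g_Cert_tree lc_g_rc_26_6 lc_g_rc_26_0 lc_g_rc_26_6 lc_g_rc_24_3 lc_g_rc_21_3 lc_g_Cert_tree lc_g_Cert_tree lc_g_rc_21_2 lc_g_Cert_tree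 lc_g_Cert_tree lc_g_rc_26_6 lc_g_rc_21_2 lc_g_rc_27_0 lc_g_rc_21_3 lc_g_Cert_tree lc_g_Cert_tree lc_g_rc_21_2 lc_g_rc_21_3 lc_g_rc_21_2 lc_g_Cert_tree lc_g_rc_27_6 lc_g_rc_21_2 lc_g_Cert_tree lc_g_rc_26_6 lc_g_rc_26_3 lc_g_rc_21_2 lc_g_Cert_tree lc_g_rc_27_3 lc_g_rc_26_6 lc_g_Cert_tree lc_g_rc_27_3 lc_g_Cert_tree lc_g_rc_21_3 lc_g_Cert_tree lc_g_Cert_tree lc_g_rc_24_9 lc_g_rc_26_3 lc_g_Cert_tree lc_g_rc_21_2 lc_g_rc_23_9 lc_g_Cert_tree lc_g_rc_26_3 lc_g_rc_24_3 lc_g_rc_24_9) (@D3.rec (fun _ => (Cert rels S Gen.g)) lc_g_rc_23_1 lc_g_rc_23_7 lc_g_rc_21_3 lc_g_rc_26_6 lc_g_rc_21_2 lc_g_rc_21_3 lc_g_Cert_tree lc_g_rc_21_3 lc_g_rc_21_2 lc_g_rc_21_3 lc_g_Cert_tree lc_g_rc_26_6 lc_g_rc_24_1 lc_g_rc_21_3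 lc_g_rc_21_2 lc_g_rc_27_3 lc_g_rc_21_3 lc_g_rc_21_3 lc_g_Cert_tree lc_g_rc_24_3 lc_g_rc_21_2 lc_g_rc_24_1 lc_g_rc_27_0 lc_g_Cert_tree lc_g_rc_21_2 lc_g_Cert_tree lc_g_rc_26_6 lc_g_rc_24_1 lc_g_rc_27_3 lc_g_rc_26_6 lc_g_Cert_tree lc_g_rc_27_3 lc_g_Cert_tree lc_g_rc_26_0 lc_g_rc_26_6 lc_g_rc_21_3 lc_g_rc_23_3 lc_g_rc_26_3 lc_g_rc_26_0 lc_g_rc_27_3 lc_g_rc_24_9 lc_g_rc_21_2 lc_g_rc_27_6 lc_g_rc_21_3 lc_g_Cert_tree lc_g_Cert_tree lc_g_rc_21_2 lc_g_rc_27_6 lc_g_Cert_tree lc_g_rc_26_3 lc_g_rc_27_6 lc_g_rc_21_3 lc_g_Cert_tree lc_g_Cert_tree lc_g_rc_21_2 lc_g_rc_23_1 lc_g_Cert_tree lc_g_rc_21_3 lc_g_rc_26_9 lc_g_rc_24_7 lc_g_rc_23_7 lc_g_rc_26_3) (@D3.rec (fun _ => (Cert rels S Gen.g)) lc_g_rc_21_3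 lc_g_Cert_tree lc_g_rc_26_9 lc_g_rc_21_2 lc_g_rc_26_0 lc_g_rc_27_9 lc_g_rc_21_3 lc_g_rc_27_0 lc_g_rc_21_3 lc_g_Cert_tree lc_g_rc_21_2 lc_g_rc_21_2 lc_g_rc_21_3 lc_g_Cert_tree lc_g_Cert_tree lc_g_Cert_tree lc_g_rc_21_2 lc_g_rc_21_2 lc_g_Cert_tree lc_g_rc_21_2 lc_g_rc_27_3 lc_g_rc_21_3 lc_g_rc_21_2 lc_g_rc_26_0 lc_g_rc_27_9 lc_g_rc_26_9 lc_g_rc_21_3 lc_g_rc_24_3 lc_g_rc_21_3 lc_g_Cert_tree lc_g_Cert_tree lc_g_rc_21_3 lc_g_rc_21_2 lc_g_rc_21_2 lc_g_rc_21_3 lc_g_rc_21_2 lc_g_rc_21_2 lc_g_rc_27_3 lc_g_Cert_tree lc_g_rc_21_3 lc_g_Cert_tree lc_g_Cert_tree lc_g_rc_26_6 lc_g_rc_21_3 lc_g_Cert_tree lc_g_Cert_tree lc_g_rc_21_2 lc_g_rc_27_9 lc_g_rc_21_3 lc_g_rc_23_1 lc_g_rc_21_3 lc_g_Cert_tree lc_g_rc_26_6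 lc_g_rc_21_2 lc_g_rc_21_2 lc_g_rc_21_3 lc_g_Cert_tree lc_g_rc_21_2 lc_g_rc_21_3 lc_g_rc_26_3 lc_g_rc_26_9 lc_g_rc_24_1) (@D3.rec (fun _ => (Cert rels S Gen.g)) lc_g_rc_21_3 lc_g_rc_27_3 lc_g_rc_23_1 lc_g_Cert_tree lc_g_rc_27_9 lc_g_rc_26_6 lc_g_rc_21_3 lc_g_Cert_tree lc_g_Cert_tree lc_g_rc_24_7 lc_g_rc_21_2 lc_g_rc_21_3 lc_g_rc_27_6 lc_g_Cert_tree lc_g_rc_23_3 lc_g_rc_21_3 lc_g_Cert_tree lc_g_rc_23_9 lc_g_rc_21_3 lc_g_Cert_tree lc_g_Cert_tree lc_g_Cert_tree lc_g_Cert_tree lc_g_rc_27_3 lc_g_rc_27_6 lc_g_Cert_tree lc_g_rc_27_6 lc_g_rc_24_9 lc_g_Cert_tree lc_g_rc_26_6 lc_g_rc_27_9 lc_g_rc_23_1 lc_g_rc_26_6 lc_g_rc_27_0 lc_g_rc_21_3 lc_g_rc_27_0 lc_g_rc_21_2 lc_g_rc_25_3 lc_g_rc_23_1 lc_g_Cert_tree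 lc_g_rc_21_3 lc_g_rc_26_6 lc_g_rc_26_6 lc_g_Cert_tree lc_g_rc_21_3 lc_g_Cert_tree lc_g_rc_26_6 lc_g_rc_26_0 lc_g_rc_21_2 lc_g_rc_21_2 lc_g_rc_26_6 lc_g_rc_21_2 lc_g_rc_21_2 lc_g_rc_21_3 lc_g_Cert_tree lc_g_Cert_tree lc_g_rc_27_0 lc_g_rc_21_3 lc_g_Cert_tree lc_g_rc_27_3 lc_g_Cert_tree lc_g_Cert_tree) (@D3.rec (fun _ => (Cert rels S Gen.g)) lc_g_rc_21_3 lc_g_Cert_tree lc_g_rc_21_2 lc_g_rc_21_2 lc_g_rc_26_3 lc_g_rc_21_2 lc_g_rc_21_2 lc_g_rc_21_2 lc_g_Cert_tree lc_g_Cert_tree lc_g_rc_21_3 lc_g_Cert_tree lc_g_rc_24_3 lc_g_Cert_tree lc_g_rc_21_3 lc_g_Cert_tree lc_g_rc_21_2 lc_g_rc_27_9 lc_g_rc_26_3 lc_g_Cert_tree lc_g_rc_21_2 lc_g_rc_21_3 lc_g_Cert_tree lc_g_rc_21_2 lc_g_rc_27_3 lc_g_rc_24_3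 lc_g_Cert_tree lc_g_rc_21_3 lc_g_Cert_tree lc_g_rc_21_2 lc_g_Cert_tree lc_g_rc_27_0 lc_g_rc_26_6 lc_g_rc_21_2 lc_g_rc_21_3 lc_g_Cert_tree lc_g_rc_21_2 lc_g_rc_21_3 lc_g_Cert_tree lc_g_rc_21_2 lc_g_rc_21_2 lc_g_rc_23_3 lc_g_Cert_tree lc_g_rc_21_2 lc_g_rc_21_2 lc_g_rc_27_6 lc_g_rc_21_3 lc_g_Cert_tree lc_g_Cert_tree lc_g_rc_27_9 lc_g_Cert_tree lc_g_rc_21_2 lc_g_Cert_tree lc_g_Cert_tree lc_g_rc_23_1 lc_g_Cert_tree lc_g_rc_24_9 lc_g_rc_24_7 lc_g_rc_21_3 lc_g_Cert_tree lc_g_rc_26_6 lc_g_rc_26_6) (@D3.rec (fun _ => (Cert rels S Gen.g)) lc_g_rc_26_6 lc_g_Cert_tree lc_g_rc_23_9 lc_g_rc_21_3 lc_g_Cert_tree lc_g_rc_21_3 lc_g_Cert_tree lc_g_rc_21_2 lc_g_rc_21_3 lc_g_Cert_tree lc_g_rc_21_2 lc_g_Cert_tree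 lc_g_rc_21_2 lc_g_rc_26_0 lc_g_rc_21_2 lc_g_rc_21_3 lc_g_rc_21_3 lc_g_rc_26_9 lc_g_rc_21_3 lc_g_rc_21_3 lc_g_rc_26_0 lc_g_rc_26_0 lc_g_rc_27_9 lc_g_rc_26_3 lc_g_rc_26_3 lc_g_rc_21_3 lc_g_rc_21_3 lc_g_Cert_tree lc_g_Cert_tree lc_g_rc_21_2 lc_g_rc_21_2 lc_g_rc_21_3 lc_g_Cert_tree lc_g_rc_26_9 lc_g_rc_21_2 lc_g_rc_24_7 lc_g_rc_23_1 lc_g_rc_21_3 lc_g_rc_27_9 lc_g_rc_21_2 lc_g_rc_23_7 lc_g_rc_21_2 lc_g_Cert_tree lc_g_Cert_tree lc_g_rc_21_3 lc_g_rc_26_3 lc_g_rc_27_6 lc_g_rc_26_0 lc_g_rc_21_3 lc_g_rc_27_3 lc_g_Cert_tree lc_g_rc_27_6 lc_g_Cert_tree lc_g_rc_21_2 lc_g_rc_21_2 lc_g_Cert_tree lc_g_rc_21_3 lc_g_rc_21_2 lc_g_Cert_tree lc_g_rc_27_9 lc_g_rc_26_0 lc_g_rc_23_3) (@D3.rec (fun _ => (Cert rels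 S Gen.g)) lc_g_rc_23_3 lc_g_rc_27_3 lc_g_rc_24_1 lc_g_rc_23_7 lc_g_Cert_tree lc_g_rc_21_2 lc_g_rc_23_3 lc_g_rc_23_3 lc_g_rc_27_0 lc_g_rc_21_3 lc_g_Cert_tree lc_g_rc_24_3 lc_g_rc_21_2 lc_g_rc_26_6 lc_g_rc_26_3 lc_g_rc_24_3 lc_g_rc_21_3 lc_g_Cert_tree lc_g_Cert_tree lc_g_Cert_tree lc_g_rc_26_3 lc_g_rc_23_3 lc_g_rc_21_3 lc_g_Cert_tree lc_g_rc_21_2 lc_g_Cert_tree lc_g_rc_26_9 lc_g_rc_21_3 lc_g_rc_26_3 lc_g_rc_21_2 lc_g_rc_26_9 lc_g_rc_26_0 lc_g_rc_26_6 lc_g_rc_21_3 lc_g_Cert_tree lc_g_rc_27_3 lc_g_Cert_tree lc_g_rc_21_2 lc_g_rc_27_6 lc_g_rc_21_2 lc_g_rc_21_3 lc_g_Cert_tree lc_g_Cert_tree lc_g_rc_26_6 lc_g_Cert_tree lc_g_rc_26_3 lc_g_rc_24_3 lc_g_rc_27_3 lc_g_rc_27_0 lc_g_rc_24_3 lc_g_rc_24_7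 lc_g_rc_21_3 lc_g_Cert_tree lc_g_rc_24_3 lc_g_rc_26_6 lc_g_rc_21_3 lc_g_rc_21_3 lc_g_rc_24_1 lc_g_rc_25_15 lc_g_rc_26_0 lc_g_rc_26_0 lc_g_Cert_tree) (@D3.rec (fun _ => (Cert rels S Gen.g)) lc_g_Cert_tree lc_g_rc_26_9 lc_g_rc_23_3 lc_g_rc_21_3 lc_g_rc_26_6 lc_g_rc_21_3 lc_g_rc_27_9 lc_g_rc_26_3 lc_g_rc_21_2 lc_g_rc_21_3 lc_g_rc_27_3 lc_g_rc_27_3 lc_g_rc_21_3 lc_g_Cert_tree lc_g_rc_25_11 lc_g_rc_21_2 lc_g_rc_21_2 lc_g_rc_21_2 lc_g_rc_21_3 lc_g_rc_21_2 lc_g_Cert_tree lc_g_Cert_tree lc_g_rc_24_3 lc_g_rc_24_7 lc_g_Cert_tree lc_g_rc_21_3 lc_g_rc_26_6 lc_g_rc_21_2 lc_g_rc_21_2 lc_g_rc_26_3 lc_g_rc_26_0 lc_g_rc_21_3 lc_g_rc_26_9 lc_g_rc_24_9 lc_g_rc_26_9 lc_g_rc_21_3 lc_g_rc_27_9 lc_g_rc_21_3 lc_g_rc_21_2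 lc_g_rc_26_3 lc_g_rc_21_3 lc_g_Cert_tree lc_g_Cert_tree lc_g_rc_21_3 lc_g_rc_21_2 lc_g_Cert_tree lc_g_rc_21_2 lc_g_rc_21_3 lc_g_Cert_tree lc_g_rc_21_2 lc_g_rc_26_3 lc_g_Cert_tree lc_g_rc_24_9 lc_g_Cert_tree lc_g_Cert_tree lc_g_rc_26_6 lc_g_rc_26_6 lc_g_rc_27_9 lc_g_rc_21_2 lc_g_rc_27_0 lc_g_rc_21_3 lc_g_Cert_tree) (@D3.rec (fun _ => (Cert rels S Gen.g)) lc_g_Cert_tree lc_g_rc_26_6 lc_g_rc_27_9 lc_g_rc_21_3 lc_g_rc_21_2 lc_g_rc_27_0 lc_g_rc_21_3 lc_g_Cert_tree lc_g_Cert_tree lc_g_rc_21_2 lc_g_rc_21_3 lc_g_Cert_tree lc_g_Cert_tree lc_g_rc_21_2 lc_g_Cert_tree lc_g_rc_26_0 lc_g_rc_21_2 lc_g_rc_26_3 lc_g_Cert_tree lc_g_Cert_tree lc_g_rc_24_9 lc_g_rc_21_2 lc_g_Cert_tree lc_g_Cert_tree lc_g_rc_21_2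 lc_g_Cert_tree lc_g_rc_24_1 lc_g_rc_21_3 lc_g_rc_27_3 lc_g_rc_27_3 lc_g_Cert_tree lc_g_rc_21_3 lc_g_rc_26_6 lc_g_Cert_tree lc_g_Cert_tree lc_g_rc_21_3 lc_g_rc_21_3 lc_g_rc_27_3 lc_g_Cert_tree lc_g_rc_27_6 lc_g_rc_26_0 lc_g_Cert_tree lc_g_Cert_tree lc_g_rc_26_0 lc_g_rc_21_3 lc_g_rc_21_2 lc_g_rc_27_3 lc_g_rc_26_3 lc_g_rc_26_3 lc_g_rc_24_1 lc_g_Cert_tree lc_g_rc_27_0 lc_g_Cert_tree lc_g_Cert_tree lc_g_rc_21_2 lc_g_rc_27_9 lc_g_rc_21_3 lc_g_rc_21_3 lc_g_rc_24_1 lc_g_rc_21_3 lc_g_Cert_tree lc_g_rc_21_2) (@D3.rec (fun _ => (Cert rels S Gen.g)) lc_g_rc_21_2 lc_g_rc_27_6 lc_g_rc_26_0 lc_g_Cert_tree lc_g_rc_26_6 lc_g_rc_26_0 lc_g_Cert_tree lc_g_rc_23_9 lc_g_rc_27_0 lc_g_Cert_tree lc_g_Cert_tree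 lc_g_Cert_tree lc_g_rc_27_3 lc_g_rc_26_6 lc_g_Cert_tree lc_g_rc_26_0 lc_g_rc_26_3 lc_g_rc_26_6 lc_g_Cert_tree lc_g_rc_23_3 lc_g_rc_24_1 lc_g_rc_24_7 lc_g_rc_21_2 lc_g_rc_27_3 lc_g_rc_24_7 lc_g_Cert_tree lc_g_rc_24_9 lc_g_Cert_tree lc_g_rc_24_7 lc_g_rc_23_7 lc_g_rc_21_3 lc_g_Cert_tree lc_g_Cert_tree lc_g_rc_21_2 lc_g_rc_21_3 lc_g_rc_21_2 lc_g_rc_21_2 lc_g_rc_21_3 lc_g_Cert_tree lc_g_Cert_tree lc_g_Cert_tree lc_g_rc_21_3 lc_g_Cert_tree lc_g_Cert_tree lc_g_rc_21_3 lc_g_rc_21_3 lc_g_Cert_tree lc_g_rc_21_2 lc_g_rc_21_2 lc_g_rc_27_9 lc_g_rc_24_3 lc_g_rc_26_3 lc_g_Cert_tree lc_g_rc_21_3 lc_g_Cert_tree lc_g_Cert_tree lc_g_Cert_tree lc_g_rc_21_3 lc_g_Cert_tree lc_g_Cert_tree lc_g_rc_21_2 lc_g_Cert_tree)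 (@D3.rec (fun _ => (Cert rels S Gen.g)) lc_g_rc_21_2 lc_g_rc_24_7 lc_g_rc_21_2 lc_g_Cert_tree lc_g_Cert_tree lc_g_Cert_tree lc_g_rc_21_3 lc_g_Cert_tree lc_g_rc_21_2 lc_g_rc_21_2 lc_g_Cert_tree lc_g_Cert_tree lc_g_Cert_tree lc_g_Cert_tree lc_g_rc_23_1 lc_g_rc_27_0 lc_g_rc_24_1 lc_g_Cert_tree lc_g_rc_26_0 lc_g_Cert_tree lc_g_rc_21_3 lc_g_rc_21_2 lc_g_rc_21_2 lc_g_rc_21_3 lc_g_rc_26_6 lc_g_rc_21_3 lc_g_Cert_tree lc_g_rc_26_3 lc_g_Cert_tree lc_g_rc_27_0 lc_g_Cert_tree lc_g_Cert_tree lc_g_rc_24_7 lc_g_rc_21_3 lc_g_Cert_tree lc_g_rc_21_2 lc_g_rc_23_1 lc_g_Cert_tree lc_g_Cert_tree lc_g_rc_26_9 lc_g_rc_26_9 lc_g_rc_27_9 lc_g_rc_25_11 lc_g_rc_26_0 lc_g_rc_24_1 lc_g_rc_21_3 lc_g_Cert_tree lc_g_Cert_tree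 lc_g_rc_27_6 lc_g_rc_21_3 lc_g_rc_21_2 lc_g_Cert_tree lc_g_rc_27_3 lc_g_rc_21_2 lc_g_rc_23_1 lc_g_Cert_tree lc_g_rc_26_3 lc_g_rc_26_3 lc_g_rc_21_2 lc_g_rc_21_3 lc_g_Cert_tree lc_g_Cert_tree) (@D3.rec (fun _ => (Cert rels S Gen.g)) lc_g_rc_21_2 lc_g_rc_21_2 lc_g_rc_27_3 lc_g_rc_27_9 lc_g_rc_21_3 lc_g_Cert_tree lc_g_rc_21_2 lc_g_rc_24_7 lc_g_rc_26_3 lc_g_Cert_tree lc_g_rc_27_6 lc_g_rc_21_2 lc_g_rc_26_3 lc_g_rc_21_2 lc_g_rc_21_2 lc_g_rc_26_0 lc_g_rc_26_9 lc_g_rc_27_9 lc_g_rc_26_6 lc_g_rc_23_7 lc_g_rc_21_3 lc_g_rc_21_3 lc_g_Cert_tree lc_g_rc_23_9 lc_g_rc_21_2 lc_g_rc_21_2 lc_g_rc_27_6 lc_g_Cert_tree lc_g_rc_27_0 lc_g_rc_21_2 lc_g_rc_26_6 lc_g_rc_21_3 lc_g_Cert_tree lc_g_Cert_tree lc_g_rc_21_2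 lc_g_rc_23_3 lc_g_rc_21_3 lc_g_Cert_tree lc_g_rc_27_6 lc_g_rc_21_2 lc_g_rc_24_7 lc_g_Cert_tree lc_g_rc_23_3 lc_g_Cert_tree lc_g_rc_26_9 lc_g_Cert_tree lc_g_rc_27_3 lc_g_rc_26_6 lc_g_Cert_tree lc_g_rc_26_6 lc_g_rc_26_3 lc_g_rc_25_19 lc_g_rc_26_6 lc_g_rc_26_0 lc_g_rc_23_3 lc_g_rc_24_3 lc_g_rc_21_3 lc_g_rc_23_9 lc_g_rc_24_1 lc_g_rc_27_6 lc_g_rc_21_3 lc_g_Cert_tree) (@D3.rec (fun _ => (Cert rels S Gen.g)) lc_g_Cert_tree lc_g_rc_23_3 lc_g_Cert_tree lc_g_rc_27_9 lc_g_rc_23_9 lc_g_Cert_tree lc_g_Cert_tree lc_g_Cert_tree lc_g_Cert_tree lc_g_rc_27_6 lc_g_Cert_tree lc_g_rc_27_0 lc_g_Cert_tree lc_g_Cert_tree lc_g_rc_21_2 lc_g_rc_21_2 lc_g_rc_21_3 lc_g_Cert_tree lc_g_Cert_tree lc_g_Cert_tree lc_g_rc_21_3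 lc_g_Cert_tree lc_g_rc_21_2 lc_g_rc_21_2 lc_g_Cert_tree lc_g_rc_21_3 lc_g_Cert_tree lc_g_rc_21_2 lc_g_rc_27_3 lc_g_Cert_tree lc_g_Cert_tree lc_g_rc_21_3 lc_g_Cert_tree lc_g_Cert_tree lc_g_rc_21_2 lc_g_Cert_tree lc_g_rc_26_9 lc_g_rc_21_3 lc_g_Cert_tree lc_g_rc_21_3 lc_g_rc_26_6 lc_g_rc_21_3 lc_g_rc_21_2 lc_g_Cert_tree lc_g_rc_21_3 lc_g_Cert_tree lc_g_rc_21_2 lc_g_rc_21_2 lc_g_rc_21_3 lc_g_rc_21_3 lc_g_rc_24_1 lc_g_rc_24_1 lc_g_rc_26_9 lc_g_rc_21_2 lc_g_rc_23_9 lc_g_rc_21_3 lc_g_rc_21_2 lc_g_rc_21_2 lc_g_rc_26_6 lc_g_rc_21_2 lc_g_rc_21_3 lc_g_Cert_tree) (@D3.rec (fun _ => (Cert rels S Gen.g)) lc_g_rc_21_2 lc_g_Cert_tree lc_g_rc_21_2 lc_g_rc_23_9 lc_g_Cert_tree lc_g_rc_26_0 lc_g_rc_27_3 lc_g_rc_21_3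 lc_g_rc_27_3 lc_g_rc_21_2 lc_g_Cert_tree lc_g_Cert_tree lc_g_rc_21_2 lc_g_rc_23_7 lc_g_rc_23_1 lc_g_rc_21_3 lc_g_Cert_tree lc_g_rc_21_2 lc_g_rc_21_3 lc_g_rc_21_2 lc_g_rc_27_9 lc_g_rc_24_3 lc_g_rc_27_9 lc_g_rc_24_7 lc_g_Cert_tree lc_g_rc_21_2 lc_g_Cert_tree lc_g_rc_27_3 lc_g_rc_27_3 lc_g_rc_21_2 lc_g_rc_21_3 lc_g_rc_26_0 lc_g_rc_21_3 lc_g_rc_27_3 lc_g_rc_21_3 lc_g_Cert_tree lc_g_rc_27_3 lc_g_rc_21_2 lc_g_rc_24_3 lc_g_rc_27_9 lc_g_rc_21_2 lc_g_rc_27_9 lc_g_Cert_tree lc_g_Cert_tree lc_g_rc_27_9 lc_g_rc_27_0 lc_g_rc_26_0 lc_g_rc_27_9 lc_g_rc_27_0 lc_g_rc_21_3 lc_g_Cert_tree lc_g_rc_21_2 lc_g_rc_21_2 lc_g_rc_26_6 lc_g_rc_26_6 lc_g_rc_21_2 lc_g_rc_21_3 lc_g_rc_26_0 lc_g_rc_21_2 lc_g_rc_24_9 lc_g_rc_21_2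 lc_g_rc_26_9) (@D3.rec (fun _ => (Cert rels S Gen.g)) lc_g_rc_26_6 lc_g_rc_26_6 lc_g_rc_26_0 lc_g_rc_24_1 lc_g_rc_26_3 lc_g_rc_21_3 lc_g_rc_24_9 lc_g_rc_21_3 lc_g_rc_21_3 lc_g_Cert_tree lc_g_Cert_tree lc_g_rc_26_6 lc_g_rc_27_9 lc_g_rc_21_2 lc_g_rc_21_2 lc_g_rc_21_3 lc_g_Cert_tree lc_g_rc_21_2 lc_g_rc_26_6 lc_g_rc_27_6 lc_g_rc_26_0 lc_g_rc_26_0 lc_g_rc_26_3 lc_g_rc_21_3 lc_g_Cert_tree lc_g_rc_21_3 lc_g_rc_26_0 lc_g_rc_26_6 lc_g_Cert_tree lc_g_rc_21_3 lc_g_rc_21_3 lc_g_rc_24_3 lc_g_rc_21_2 lc_g_rc_26_9 lc_g_rc_21_2 lc_g_rc_26_9 lc_g_rc_26_0 lc_g_rc_21_3 lc_g_Cert_tree lc_g_Cert_tree lc_g_rc_21_2 lc_g_rc_21_3 lc_g_Cert_tree lc_g_rc_26_9 lc_g_Cert_tree lc_g_rc_21_3 lc_g_rc_21_2 lc_g_Cert_tree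 lc_g_Cert_tree lc_g_rc_21_2 lc_g_rc_24_9 lc_g_rc_21_3 lc_g_Cert_tree lc_g_Cert_tree lc_g_rc_21_2 lc_g_rc_26_9 lc_g_rc_26_0 lc_g_rc_21_2 lc_g_rc_21_3 lc_g_rc_21_3 lc_g_Cert_tree lc_g_rc_23_3) (@D3.rec (fun _ => (Cert rels S Gen.g)) lc_g_rc_21_2 lc_g_rc_21_2 lc_g_rc_21_3 lc_g_rc_26_9 lc_g_rc_21_2 lc_g_rc_21_3 lc_g_rc_23_3 lc_g_rc_21_3 lc_g_rc_26_0 lc_g_rc_21_3 lc_g_rc_27_6 lc_g_rc_21_3 lc_g_Cert_tree lc_g_rc_27_9 lc_g_rc_27_3 lc_g_rc_23_1 lc_g_rc_26_9 lc_g_rc_21_3 lc_g_rc_26_0 lc_g_rc_23_9 lc_g_rc_23_9 lc_g_rc_21_3 lc_g_Cert_tree lc_g_rc_24_9 lc_g_rc_21_2 lc_g_rc_21_2 lc_g_rc_26_3 lc_g_Cert_tree lc_g_rc_21_3 lc_g_rc_26_0 lc_g_rc_26_9 lc_g_rc_27_3 lc_g_rc_26_6 lc_g_Cert_tree lc_g_rc_26_3 lc_g_Cert_tree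 lc_g_rc_26_9 lc_g_rc_21_3 lc_g_rc_21_3 lc_g_rc_23_3 lc_g_rc_27_3 lc_g_rc_26_9 lc_g_Cert_tree lc_g_rc_21_3 lc_g_Cert_tree lc_g_Cert_tree lc_g_rc_21_2 lc_g_rc_23_1 lc_g_Cert_tree lc_g_Cert_tree lc_g_Cert_tree lc_g_Cert_tree lc_g_rc_21_2 lc_g_Cert_tree lc_g_rc_21_2 lc_g_rc_23_3 lc_g_rc_21_2 lc_g_rc_21_2 lc_g_rc_21_2 lc_g_rc_21_3 lc_g_Cert_tree lc_g_rc_27_9) (@D3.rec (fun _ => (Cert rels S Gen.g)) lc_g_rc_23_9 lc_g_rc_27_0 lc_g_Cert_tree lc_g_Cert_tree lc_g_Cert_tree lc_g_rc_26_6 lc_g_rc_24_7 lc_g_Cert_tree lc_g_rc_21_3 lc_g_Cert_tree lc_g_Cert_tree lc_g_rc_21_2 lc_g_rc_21_2 lc_g_rc_21_2 lc_g_rc_21_3 lc_g_rc_21_3 lc_g_rc_21_3 lc_g_rc_23_1 lc_g_rc_27_6 lc_g_rc_24_7 lc_g_Cert_tree lc_g_Cert_tree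 lc_g_rc_23_9 lc_g_rc_21_2 lc_g_Cert_tree lc_g_Cert_tree lc_g_rc_21_3 lc_g_Cert_tree lc_g_rc_25_3 lc_g_Cert_tree lc_g_Cert_tree lc_g_rc_27_3 lc_g_rc_21_2 lc_g_Cert_tree lc_g_rc_21_3 lc_g_Cert_tree lc_g_rc_21_2 lc_g_rc_26_6 lc_g_rc_27_3 lc_g_rc_24_3 lc_g_rc_24_9 lc_g_rc_21_3 lc_g_Cert_tree lc_g_rc_21_2 lc_g_rc_21_3 lc_g_Cert_tree lc_g_rc_27_9 lc_g_Cert_tree lc_g_rc_21_2 lc_g_rc_26_6 lc_g_Cert_tree lc_g_rc_21_2 lc_g_rc_27_9 lc_g_rc_21_2 lc_g_rc_21_3 lc_g_Cert_tree lc_g_Cert_tree lc_g_Cert_tree lc_g_rc_21_2 lc_g_Cert_tree lc_g_rc_21_2 lc_g_rc_27_6) (@D3.rec (fun _ => (Cert rels S Gen.g)) lc_g_rc_26_6 lc_g_rc_27_0 lc_g_rc_21_3 lc_g_Cert_tree lc_g_rc_21_2 lc_g_rc_21_2 lc_g_rc_25_11 lc_g_rc_21_2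 lc_g_rc_21_2 lc_g_rc_26_0 lc_g_rc_21_3 lc_g_Cert_tree lc_g_Cert_tree lc_g_rc_27_3 lc_g_Cert_tree lc_g_rc_27_3 lc_g_rc_21_3 lc_g_Cert_tree lc_g_Cert_tree lc_g_rc_21_2 lc_g_Cert_tree lc_g_rc_21_3 lc_g_Cert_tree lc_g_rc_21_2 lc_g_rc_21_3 lc_g_rc_26_6 lc_g_rc_26_3 lc_g_rc_21_3 lc_g_Cert_tree lc_g_rc_21_3 lc_g_rc_21_3 lc_g_Cert_tree lc_g_rc_21_2 lc_g_rc_21_2 lc_g_rc_24_7 lc_g_rc_26_9 lc_g_rc_24_7 lc_g_Cert_tree lc_g_rc_26_3 lc_g_rc_24_1 lc_g_rc_26_0 lc_g_rc_21_3 lc_g_rc_21_3 lc_g_Cert_tree lc_g_Cert_tree lc_g_rc_21_2 lc_g_rc_26_0 lc_g_Cert_tree lc_g_rc_24_1 lc_g_rc_26_0 lc_g_rc_21_3 lc_g_rc_21_3 lc_g_Cert_tree lc_g_rc_21_3 lc_g_rc_21_2 lc_g_rc_21_3 lc_g_rc_24_3 lc_g_Cert_tree lc_g_rc_21_2 lc_g_Cert_tree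 lc_g_rc_21_3 lc_g_rc_21_2) (@D3.rec (fun _ => (Cert rels S Gen.g)) lc_g_rc_26_6 lc_g_rc_21_3 lc_g_Cert_tree lc_g_Cert_tree lc_g_Cert_tree lc_g_rc_26_9 lc_g_rc_27_6 lc_g_Cert_tree lc_g_Cert_tree lc_g_rc_26_0 lc_g_rc_23_9 lc_g_rc_21_3 lc_g_rc_26_0 lc_g_rc_27_3 lc_g_Cert_tree lc_g_Cert_tree lc_g_rc_27_9 lc_g_Cert_tree lc_g_rc_26_3 lc_g_Cert_tree lc_g_rc_21_2 lc_g_Cert_tree lc_g_Cert_tree lc_g_rc_21_2 lc_g_rc_23_9 lc_g_rc_24_9 lc_g_rc_21_3 lc_g_rc_21_2 lc_g_rc_21_2 lc_g_rc_26_3 lc_g_rc_21_3 lc_g_Cert_tree lc_g_Cert_tree lc_g_rc_21_2 lc_g_rc_21_3 lc_g_rc_27_9 lc_g_rc_21_3 lc_g_rc_27_3 lc_g_rc_23_9 lc_g_rc_21_3 lc_g_Cert_tree lc_g_rc_21_3 lc_g_rc_21_2 lc_g_rc_24_9 lc_g_rc_23_9 lc_g_Cert_tree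 lc_g_rc_27_3 lc_g_rc_21_2 lc_g_Cert_tree lc_g_rc_21_3 lc_g_rc_21_2 lc_g_rc_21_3 lc_g_Cert_tree lc_g_Cert_tree lc_g_rc_23_3 lc_g_rc_21_3 lc_g_rc_27_0 lc_g_Cert_tree lc_g_rc_21_2 lc_g_rc_27_0 lc_g_Cert_tree lc_g_rc_24_1) (@D3.rec (fun _ => (Cert rels S Gen.g)) lc_g_Cert_tree lc_g_rc_26_6 lc_g_rc_21_3 lc_g_Cert_tree lc_g_Cert_tree lc_g_rc_21_3 lc_g_rc_21_2 lc_g_Cert_tree lc_g_rc_21_2 lc_g_rc_21_3 lc_g_rc_21_3 lc_g_rc_23_7 lc_g_rc_27_6 lc_g_rc_27_3 lc_g_rc_24_7 lc_g_rc_26_6 lc_g_rc_26_6 lc_g_rc_24_7 lc_g_rc_23_7 lc_g_rc_21_3 lc_g_Cert_tree lc_g_Cert_tree lc_g_rc_21_2 lc_g_rc_24_1 lc_g_rc_21_2 lc_g_rc_21_3 lc_g_Cert_tree lc_g_rc_26_3 lc_g_Cert_tree lc_g_rc_24_9 lc_g_Cert_tree lc_g_rc_24_3 lc_g_Cert_tree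 lc_g_rc_26_0 lc_g_Cert_tree lc_g_rc_21_2 lc_g_rc_21_2 lc_g_rc_21_2 lc_g_rc_23_3 lc_g_rc_26_9 lc_g_rc_21_3 lc_g_Cert_tree lc_g_rc_21_3 lc_g_rc_27_6 lc_g_rc_21_3 lc_g_Cert_tree lc_g_Cert_tree lc_g_Cert_tree lc_g_rc_21_2 lc_g_Cert_tree lc_g_Cert_tree lc_g_rc_21_3 lc_g_Cert_tree lc_g_Cert_tree lc_g_rc_21_2 lc_g_rc_24_7 lc_g_rc_21_3 lc_g_Cert_tree lc_g_Cert_tree lc_g_Cert_tree lc_g_Cert_tree lc_g_rc_21_3) (@D3.rec (fun _ => (Cert rels S Gen.g)) lc_g_Cert_tree lc_g_rc_21_2 lc_g_rc_21_2 lc_g_rc_26_3 lc_g_Cert_tree lc_g_Cert_tree lc_g_Cert_tree lc_g_rc_21_3 lc_g_Cert_tree lc_g_rc_24_9 lc_g_rc_21_3 lc_g_Cert_tree lc_g_Cert_tree lc_g_rc_27_6 lc_g_rc_21_3 lc_g_rc_24_7 lc_g_Cert_tree lc_g_Cert_tree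 lc_g_rc_21_3 lc_g_rc_21_3 lc_g_Cert_tree lc_g_rc_21_2 lc_g_rc_26_6 lc_g_rc_21_3 lc_g_Cert_tree lc_g_rc_23_3 lc_g_rc_21_3 lc_g_Cert_tree lc_g_Cert_tree lc_g_rc_21_2 lc_g_rc_24_3 lc_g_rc_23_3 lc_g_rc_21_3 lc_g_rc_21_2 lc_g_rc_21_3 lc_g_rc_27_3 lc_g_rc_21_3 lc_g_rc_23_7 lc_g_rc_26_3 lc_g_rc_21_3 lc_g_Cert_tree lc_g_rc_21_3 lc_g_rc_24_3 lc_g_rc_21_3 lc_g_Cert_tree lc_g_Cert_tree lc_g_rc_21_3 lc_g_Cert_tree lc_g_rc_21_2 lc_g_rc_21_3 lc_g_Cert_tree lc_g_rc_21_3 lc_g_rc_21_3 lc_g_Cert_tree lc_g_rc_23_7 lc_g_Cert_tree lc_g_rc_23_1 lc_g_rc_21_2 lc_g_Cert_tree lc_g_rc_21_3 lc_g_Cert_tree lc_g_rc_26_6) (@D3.rec (fun _ => (Cert rels S Gen.g)) lc_g_rc_21_2 lc_g_rc_26_9 lc_g_rc_21_2 lc_g_rc_21_2 lc_g_Cert_tree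 lc_g_Cert_tree lc_g_Cert_tree lc_g_Cert_tree lc_g_rc_26_6 lc_g_rc_26_0 lc_g_rc_26_3 lc_g_Cert_tree lc_g_rc_23_1 lc_g_rc_27_0 lc_g_rc_26_0 lc_g_Cert_tree lc_g_rc_27_0 lc_g_rc_26_9 lc_g_rc_27_9 lc_g_rc_27_6 lc_g_rc_21_3 lc_g_Cert_tree lc_g_Cert_tree lc_g_rc_21_2 lc_g_rc_26_3 lc_g_Cert_tree lc_g_rc_21_3 lc_g_Cert_tree lc_g_rc_27_6 lc_g_rc_21_2 lc_g_Cert_tree lc_g_rc_21_3 lc_g_Cert_tree lc_g_rc_27_6 lc_g_Cert_tree lc_g_rc_24_3 lc_g_rc_24_3 lc_g_rc_24_7 lc_g_Cert_tree lc_g_Cert_tree lc_g_Cert_tree lc_g_rc_21_2 lc_g_rc_21_3 lc_g_rc_23_3 lc_g_Cert_tree lc_g_Cert_tree lc_g_rc_26_3 lc_g_rc_27_0 lc_g_Cert_tree lc_g_Cert_tree lc_g_rc_27_0 lc_g_Cert_tree lc_g_rc_21_3 lc_g_Cert_tree lc_g_rc_21_3 lc_g_rc_26_3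 lc_g_Cert_tree lc_g_rc_26_3 lc_g_rc_21_2 lc_g_rc_21_2 lc_g_rc_23_9 lc_g_rc_26_9) (@D3.rec (fun _ => (Cert rels S Gen.g)) lc_g_rc_27_6 lc_g_rc_23_9 lc_g_rc_27_0 lc_g_rc_27_0 lc_g_rc_26_0 lc_g_rc_24_7 lc_g_Cert_tree lc_g_rc_26_6 lc_g_rc_23_1 lc_g_rc_23_7 lc_g_rc_21_3 lc_g_Cert_tree lc_g_rc_24_3 lc_g_rc_23_3 lc_g_rc_21_2 lc_g_rc_21_2 lc_g_rc_27_9 lc_g_rc_27_9 lc_g_Cert_tree lc_g_Cert_tree lc_g_rc_21_3 lc_g_Cert_tree lc_g_Cert_tree lc_g_rc_21_3 lc_g_Cert_tree lc_g_rc_21_2 lc_g_rc_26_9 lc_g_rc_23_7 lc_g_rc_27_3 lc_g_rc_21_2 lc_g_rc_21_3 lc_g_Cert_tree lc_g_Cert_tree lc_g_rc_21_3 lc_g_Cert_tree lc_g_rc_26_0 lc_g_rc_21_3 lc_g_Cert_tree lc_g_rc_21_2 lc_g_rc_24_3 lc_g_rc_27_6 lc_g_Cert_tree lc_g_Cert_tree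 lc_g_rc_21_3 lc_g_Cert_tree lc_g_Cert_tree lc_g_rc_21_2 lc_g_rc_27_3 lc_g_Cert_tree lc_g_rc_23_3 lc_g_rc_21_3 lc_g_Cert_tree lc_g_rc_21_2 lc_g_rc_26_6 lc_g_rc_23_3 lc_g_rc_21_2 lc_g_rc_26_6 lc_g_rc_24_3 lc_g_rc_21_2 lc_g_Cert_tree lc_g_Cert_tree lc_g_rc_26_6) (@D3.rec (fun _ => (Cert rels S Gen.g)) lc_g_rc_26_6 lc_g_rc_27_3 lc_g_rc_27_6 lc_g_Cert_tree lc_g_Cert_tree lc_g_Cert_tree lc_g_Cert_tree lc_g_Cert_tree lc_g_rc_21_3 lc_g_Cert_tree lc_g_rc_21_2 lc_g_Cert_tree lc_g_rc_27_3 lc_g_rc_26_0 lc_g_rc_27_0 lc_g_Cert_tree lc_g_rc_21_3 lc_g_Cert_tree lc_g_Cert_tree lc_g_rc_27_0 lc_g_Cert_tree lc_g_Cert_tree lc_g_rc_21_2 lc_g_rc_27_6 lc_g_Cert_tree lc_g_rc_27_9 lc_g_rc_26_0 lc_g_rc_27_0 lc_g_rc_27_3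 lc_g_rc_24_3 lc_g_rc_25_19 lc_g_rc_26_0 lc_g_rc_21_3 lc_g_Cert_tree lc_g_rc_21_2 lc_g_Cert_tree lc_g_rc_21_2 lc_g_rc_21_2 lc_g_rc_26_3 lc_g_rc_21_3 lc_g_Cert_tree lc_g_Cert_tree lc_g_rc_26_3 lc_g_rc_21_2 lc_g_Cert_tree lc_g_Cert_tree lc_g_rc_27_9 lc_g_rc_23_9 lc_g_rc_21_3 lc_g_Cert_tree lc_g_rc_27_9 lc_g_rc_26_3 lc_g_rc_21_3 lc_g_rc_25_19 lc_g_rc_21_3 lc_g_Cert_tree lc_g_rc_26_6 lc_g_rc_21_3 lc_g_Cert_tree lc_g_rc_21_2 lc_g_rc_21_3 lc_g_rc_27_9) (@D3.rec (fun _ => (Cert rels S Gen.g)) lc_g_rc_21_3 lc_g_rc_26_3 lc_g_rc_21_3 lc_g_rc_21_3 lc_g_rc_23_9 lc_g_rc_21_2 lc_g_rc_25_11 lc_g_rc_26_6 lc_g_rc_21_3 lc_g_Cert_tree lc_g_Cert_tree lc_g_rc_26_0 lc_g_Cert_tree lc_g_rc_27_3 lc_g_rc_21_2 lc_g_Cert_tree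 lc_g_rc_23_7 lc_g_rc_26_3 lc_g_rc_25_7 lc_g_Cert_tree lc_g_rc_23_1 lc_g_rc_21_2 lc_g_Cert_tree lc_g_rc_21_3 lc_g_Cert_tree lc_g_rc_23_3 lc_g_rc_26_6 lc_g_rc_21_2 lc_g_rc_21_2 lc_g_rc_26_9 lc_g_rc_21_3 lc_g_rc_23_1 lc_g_rc_27_3 lc_g_rc_26_3 lc_g_rc_24_1 lc_g_Cert_tree lc_g_rc_26_0 lc_g_Cert_tree lc_g_rc_23_9 lc_g_rc_21_2 lc_g_rc_26_6 lc_g_rc_21_2 lc_g_rc_25_7 lc_g_rc_27_3 lc_g_rc_23_1 lc_g_rc_26_0 lc_g_rc_21_3 lc_g_rc_21_3 lc_g_rc_21_3 lc_g_Cert_tree lc_g_rc_23_3 lc_g_rc_21_2 lc_g_rc_21_3 lc_g_Cert_tree lc_g_Cert_tree lc_g_rc_21_2 lc_g_rc_27_9 lc_g_rc_27_6 lc_g_rc_24_1 lc_g_rc_27_0 lc_g_rc_21_3 lc_g_rc_21_2) (@D3.rec (fun _ => (Cert rels S Gen.g)) lc_g_rc_21_2 lc_g_rc_21_2 lc_g_Cert_tree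 lc_g_rc_21_2 lc_g_rc_27_0 lc_g_Cert_tree lc_g_rc_23_3 lc_g_rc_24_9 lc_g_rc_27_6 lc_g_rc_21_3 lc_g_rc_27_0 lc_g_rc_21_3 lc_g_rc_27_6 lc_g_Cert_tree lc_g_Cert_tree lc_g_rc_21_3 lc_g_Cert_tree lc_g_rc_21_2 lc_g_Cert_tree lc_g_rc_21_2 lc_g_rc_26_0 lc_g_Cert_tree lc_g_Cert_tree lc_g_Cert_tree lc_g_rc_27_3 lc_g_Cert_tree lc_g_rc_21_2 lc_g_Cert_tree lc_g_rc_24_3 lc_g_rc_21_3 lc_g_Cert_tree lc_g_rc_24_3 lc_g_rc_21_2 lc_g_Cert_tree lc_g_rc_21_3 lc_g_Cert_tree lc_g_rc_23_3 lc_g_rc_21_3 lc_g_rc_26_9 lc_g_rc_26_6 lc_g_rc_21_3 lc_g_rc_23_3 lc_g_rc_26_3 lc_g_rc_21_2 lc_g_Cert_tree lc_g_Cert_tree lc_g_rc_21_2 lc_g_rc_21_3 lc_g_rc_27_9 lc_g_rc_24_7 lc_g_rc_21_3 lc_g_Cert_tree lc_g_rc_21_2 lc_g_rc_21_2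 lc_g_rc_26_6 lc_g_rc_21_3 lc_g_rc_21_2 lc_g_Cert_tree lc_g_rc_24_7 lc_g_rc_23_7 lc_g_rc_21_2 lc_g_rc_21_3) (@D3.rec (fun _ => (Cert rels S Gen.g)) lc_g_rc_23_3 lc_g_rc_26_3 lc_g_rc_21_2 lc_g_rc_23_3 lc_g_rc_21_3 lc_g_Cert_tree lc_g_rc_23_9 lc_g_rc_21_2 lc_g_rc_24_1 lc_g_rc_21_3 lc_g_rc_26_9 lc_g_Cert_tree lc_g_rc_26_9 lc_g_rc_21_3 lc_g_rc_26_6 lc_g_rc_24_3 lc_g_rc_23_1 lc_g_rc_23_9 lc_g_rc_23_3 lc_g_rc_23_7 lc_g_Cert_tree lc_g_rc_21_3 lc_g_rc_24_7 lc_g_rc_26_3 lc_g_Cert_tree lc_g_rc_21_3 lc_g_Cert_tree lc_g_Cert_tree lc_g_Cert_tree lc_g_rc_21_3 lc_g_rc_27_6 lc_g_rc_27_0 lc_g_Cert_tree lc_g_rc_21_2 lc_g_rc_27_6 lc_g_Cert_tree lc_g_rc_21_2 lc_g_rc_21_3 lc_g_rc_26_6 lc_g_rc_21_3 lc_g_rc_21_2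 lc_g_rc_21_2 lc_g_rc_27_0 lc_g_rc_27_6 lc_g_Cert_tree lc_g_rc_26_0 lc_g_rc_27_0 lc_g_rc_21_3 lc_g_Cert_tree lc_g_Cert_tree lc_g_Cert_tree lc_g_rc_23_7 lc_g_rc_21_3 lc_g_Cert_tree lc_g_rc_21_2 lc_g_rc_21_2 lc_g_rc_24_3 lc_g_Cert_tree lc_g_rc_27_0 lc_g_Cert_tree lc_g_rc_21_2 lc_g_rc_26_0) (@D3.rec (fun _ => (Cert rels S Gen.g)) lc_g_rc_23_3 lc_g_Cert_tree lc_g_Cert_tree lc_g_rc_21_3 lc_g_rc_27_6 lc_g_Cert_tree lc_g_rc_21_3 lc_g_Cert_tree lc_g_rc_26_9 lc_g_rc_24_9 lc_g_Cert_tree lc_g_rc_23_7 lc_g_rc_24_9 lc_g_rc_26_6 lc_g_rc_26_9 lc_g_rc_21_3 lc_g_Cert_tree lc_g_Cert_tree lc_g_rc_21_2 lc_g_rc_26_0 lc_g_rc_21_3 lc_g_rc_21_3 lc_g_rc_26_3 lc_g_rc_24_1 lc_g_rc_21_3 lc_g_rc_21_3 lc_g_Cert_tree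 lc_g_rc_21_3 lc_g_rc_27_9 lc_g_rc_24_7 lc_g_rc_23_7 lc_g_rc_24_7 lc_g_Cert_tree lc_g_rc_21_2 lc_g_rc_26_3 lc_g_rc_27_9 lc_g_rc_26_6 lc_g_rc_23_7 lc_g_Cert_tree lc_g_Cert_tree lc_g_rc_24_9 lc_g_rc_27_9 lc_g_rc_24_3 lc_g_rc_25_19 lc_g_rc_21_3 lc_g_rc_24_7 lc_g_rc_24_9 lc_g_rc_27_3 lc_g_rc_21_3 lc_g_Cert_tree lc_g_rc_21_3 lc_g_Cert_tree lc_g_rc_21_3 lc_g_rc_21_2 lc_g_Cert_tree lc_g_Cert_tree lc_g_rc_21_2 lc_g_rc_26_3 lc_g_Cert_tree lc_g_rc_27_3 lc_g_rc_21_3 lc_g_rc_24_9) (@D3.rec (fun _ => (Cert rels S Gen.g)) lc_g_rc_23_3 lc_g_Cert_tree lc_g_rc_24_7 lc_g_rc_21_2 lc_g_rc_26_6 lc_g_rc_26_3 lc_g_rc_21_2 lc_g_rc_27_6 lc_g_rc_23_1 lc_g_Cert_tree lc_g_rc_21_2 lc_g_rc_21_2 lc_g_rc_21_2 lc_g_rc_27_6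 lc_g_rc_24_1 lc_g_rc_21_2 lc_g_rc_21_3 lc_g_rc_27_0 lc_g_Cert_tree lc_g_rc_27_3 lc_g_Cert_tree lc_g_rc_21_3 lc_g_rc_27_9 lc_g_Cert_tree lc_g_Cert_tree lc_g_rc_23_7 lc_g_Cert_tree lc_g_Cert_tree lc_g_rc_27_3 lc_g_rc_26_3 lc_g_rc_27_3 lc_g_rc_27_3 lc_g_rc_24_3 lc_g_Cert_tree lc_g_rc_21_3 lc_g_rc_21_2 lc_g_rc_24_7 lc_g_Cert_tree lc_g_rc_24_7 lc_g_Cert_tree lc_g_Cert_tree lc_g_Cert_tree lc_g_rc_21_2 lc_g_rc_21_2 lc_g_rc_26_0 lc_g_rc_23_3 lc_g_rc_21_3 lc_g_rc_21_2 lc_g_Cert_tree lc_g_rc_26_3 lc_g_rc_23_3 lc_g_Cert_tree lc_g_rc_23_3 lc_g_rc_24_7 lc_g_Cert_tree lc_g_rc_21_2 lc_g_Cert_tree lc_g_rc_21_3 lc_g_Cert_tree lc_g_Cert_tree lc_g_rc_24_3 lc_g_rc_21_3) (@D3.rec (fun _ => (Cert rels S Gen.g))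 lc_g_Cert_tree lc_g_Cert_tree lc_g_rc_21_2 lc_g_rc_24_7 lc_g_rc_27_3 lc_g_rc_24_1 lc_g_rc_21_3 lc_g_Cert_tree lc_g_rc_21_2 lc_g_rc_27_6 lc_g_rc_26_3 lc_g_rc_27_3 lc_g_rc_21_3 lc_g_rc_21_2 lc_g_rc_26_3 lc_g_rc_26_6 lc_g_rc_21_3 lc_g_Cert_tree lc_g_rc_24_3 lc_g_Cert_tree lc_g_rc_21_3 lc_g_Cert_tree lc_g_rc_21_2 lc_g_rc_26_0 lc_g_rc_24_7 lc_g_Cert_tree lc_g_Cert_tree lc_g_rc_21_3 lc_g_Cert_tree lc_g_rc_21_3 lc_g_Cert_tree lc_g_rc_23_3 lc_g_rc_23_9 lc_g_rc_24_1 lc_g_rc_21_2 lc_g_Cert_tree lc_g_rc_24_1 lc_g_rc_26_3 lc_g_Cert_tree lc_g_Cert_tree lc_g_rc_24_1 lc_g_Cert_tree lc_g_rc_24_3 lc_g_Cert_tree lc_g_Cert_tree lc_g_rc_27_6 lc_g_Cert_tree lc_g_rc_21_3 lc_g_rc_27_6 lc_g_rc_21_2 lc_g_rc_26_3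 lc_g_rc_23_3 lc_g_rc_27_0 lc_g_rc_21_3 lc_g_Cert_tree lc_g_Cert_tree lc_g_rc_26_3 lc_g_rc_21_2 lc_g_rc_24_3 lc_g_rc_21_3 lc_g_rc_27_6 lc_g_rc_21_2) (@D3.rec (fun _ => (Cert rels S Gen.g)) lc_g_rc_21_3 lc_g_Cert_tree lc_g_rc_26_3 lc_g_rc_21_2 lc_g_rc_26_3 lc_g_Cert_tree lc_g_rc_21_2 lc_g_Cert_tree lc_g_Cert_tree lc_g_rc_24_7 lc_g_rc_27_6 lc_g_rc_26_3 lc_g_rc_27_9 lc_g_rc_21_2 lc_g_rc_24_9 lc_g_Cert_tree lc_g_rc_21_3 lc_g_Cert_tree lc_g_Cert_tree lc_g_Cert_tree lc_g_rc_21_2 lc_g_rc_21_2 lc_g_rc_21_3 lc_g_Cert_tree lc_g_rc_26_3 lc_g_Cert_tree lc_g_rc_21_3 lc_g_Cert_tree lc_g_rc_21_2 lc_g_rc_24_3 lc_g_rc_21_3 lc_g_Cert_tree lc_g_Cert_tree lc_g_rc_21_2 lc_g_rc_27_3 lc_g_Cert_tree lc_g_rc_26_3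 lc_g_rc_27_0 lc_g_Cert_tree lc_g_rc_21_2 lc_g_rc_27_6 lc_g_Cert_tree lc_g_rc_27_6 lc_g_rc_26_0 lc_g_Cert_tree lc_g_Cert_tree lc_g_rc_24_7 lc_g_rc_26_3 lc_g_rc_26_3 lc_g_rc_24_1 lc_g_Cert_tree lc_g_rc_27_3 lc_g_rc_21_2 lc_g_rc_21_3 lc_g_Cert_tree lc_g_rc_23_7 lc_g_rc_21_2 lc_g_rc_26_6 lc_g_rc_23_9 lc_g_rc_27_9 lc_g_rc_27_6 lc_g_rc_26_0) (@D3.rec (fun _ => (Cert rels S Gen.g)) lc_g_rc_21_3 lc_g_rc_21_2 lc_g_Cert_tree lc_g_rc_21_2 lc_g_rc_23_9 lc_g_Cert_tree lc_g_Cert_tree lc_g_rc_27_0 lc_g_Cert_tree lc_g_rc_23_3 lc_g_rc_24_3 lc_g_rc_27_0 lc_g_Cert_tree lc_g_rc_26_3 lc_g_rc_24_7 lc_g_rc_21_3 lc_g_Cert_tree lc_g_Cert_tree lc_g_Cert_tree lc_g_rc_21_2 lc_g_rc_21_2 lc_g_rc_27_3 lc_g_rc_26_6 lc_g_rc_26_3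 lc_g_Cert_tree lc_g_Cert_tree lc_g_rc_21_3 lc_g_rc_23_1 lc_g_rc_27_6 lc_g_rc_21_3 lc_g_Cert_tree lc_g_rc_27_3 lc_g_rc_21_2 lc_g_rc_27_3 lc_g_rc_21_3 lc_g_rc_27_3 lc_g_Cert_tree lc_g_rc_21_3 lc_g_Cert_tree lc_g_rc_21_2 lc_g_Cert_tree lc_g_rc_27_3 lc_g_rc_24_1 lc_g_rc_24_9 lc_g_rc_24_7 lc_g_rc_23_1 lc_g_rc_21_3 lc_g_Cert_tree lc_g_Cert_tree lc_g_Cert_tree lc_g_rc_23_7 lc_g_rc_21_3 lc_g_Cert_tree lc_g_rc_27_0 lc_g_rc_21_2 lc_g_rc_21_2 lc_g_rc_24_7 lc_g_rc_24_1 lc_g_Cert_tree lc_g_rc_21_3 lc_g_rc_21_3 lc_g_Cert_tree) (@D3.rec (fun _ => (Cert rels S Gen.g)) lc_g_rc_23_7 lc_g_rc_23_1 lc_g_Cert_tree lc_g_rc_25_19 lc_g_rc_21_3 lc_g_rc_23_9 lc_g_rc_21_2 lc_g_Cert_tree lc_g_rc_21_3 lc_g_Cert_tree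 lc_g_rc_21_2 lc_g_rc_24_7 lc_g_rc_21_2 lc_g_rc_26_0 lc_g_Cert_tree lc_g_rc_26_6 lc_g_Cert_tree lc_g_rc_21_2 lc_g_Cert_tree lc_g_rc_21_3 lc_g_Cert_tree lc_g_Cert_tree lc_g_rc_21_3 lc_g_rc_21_3 lc_g_Cert_tree lc_g_rc_21_2 lc_g_rc_23_1 lc_g_rc_21_2 lc_g_rc_23_3 lc_g_Cert_tree lc_g_rc_21_3 lc_g_Cert_tree lc_g_rc_24_7 lc_g_Cert_tree lc_g_Cert_tree lc_g_rc_21_3 lc_g_rc_25_11 lc_g_rc_23_3 lc_g_rc_27_3 lc_g_Cert_tree lc_g_Cert_tree lc_g_rc_23_3 lc_g_rc_27_0 lc_g_rc_27_0 lc_g_rc_21_3 lc_g_rc_23_3 lc_g_rc_21_3 lc_g_rc_21_2 lc_g_rc_21_2 lc_g_rc_21_2 lc_g_rc_21_2 lc_g_Cert_tree lc_g_rc_23_3 lc_g_rc_21_2 lc_g_Cert_tree lc_g_rc_26_9 lc_g_Cert_tree lc_g_Cert_tree lc_g_rc_21_2 lc_g_rc_26_6 lc_g_rc_24_7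 lc_g_rc_27_6) (@D3.rec (fun _ => (Cert rels S Gen.g)) lc_g_rc_21_3 lc_g_rc_26_6 lc_g_Cert_tree lc_g_rc_26_6 lc_g_rc_23_3 lc_g_rc_24_7 lc_g_rc_21_3 lc_g_rc_21_3 lc_g_Cert_tree lc_g_rc_27_3 lc_g_Cert_tree lc_g_rc_27_6 lc_g_rc_27_3 lc_g_rc_21_2 lc_g_Cert_tree lc_g_Cert_tree lc_g_rc_21_3 lc_g_rc_24_1 lc_g_Cert_tree lc_g_Cert_tree lc_g_rc_21_2 lc_g_rc_21_2 lc_g_Cert_tree lc_g_rc_21_2 lc_g_rc_21_3 lc_g_Cert_tree lc_g_rc_24_3 lc_g_rc_26_6 lc_g_rc_27_6 lc_g_rc_21_3 lc_g_rc_24_3 lc_g_Cert_tree lc_g_rc_21_3 lc_g_Cert_tree lc_g_rc_26_3 lc_g_rc_21_3 lc_g_rc_24_3 lc_g_Cert_tree lc_g_Cert_tree lc_g_rc_21_2 lc_g_rc_21_3 lc_g_rc_27_6 lc_g_rc_21_3 lc_g_Cert_tree lc_g_rc_21_2 lc_g_Cert_tree lc_g_Cert_tree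 lc_g_rc_23_9 lc_g_rc_24_3 lc_g_rc_27_6 lc_g_rc_26_9 lc_g_rc_21_3 lc_g_rc_27_0 lc_g_rc_21_3 lc_g_Cert_tree lc_g_rc_23_9 lc_g_rc_21_2 lc_g_rc_26_6 lc_g_rc_26_3 lc_g_rc_21_2 lc_g_rc_21_2 lc_g_rc_26_0) (@D3.rec (fun _ => (Cert rels S Gen.g)) lc_g_rc_21_2 lc_g_rc_21_3 lc_g_Cert_tree lc_g_rc_21_2 lc_g_Cert_tree lc_g_rc_26_0 lc_g_rc_26_6 lc_g_rc_27_0 lc_g_rc_21_3 lc_g_Cert_tree lc_g_rc_27_6 lc_g_rc_24_3 lc_g_Cert_tree lc_g_rc_21_2 lc_g_Cert_tree lc_g_rc_21_3 lc_g_Cert_tree lc_g_rc_21_2 lc_g_rc_21_2 lc_g_rc_23_9 lc_g_rc_24_7 lc_g_rc_27_0 lc_g_rc_24_3 lc_g_rc_26_3 lc_g_rc_27_3 lc_g_Cert_tree lc_g_Cert_tree lc_g_rc_21_2 lc_g_rc_27_0 lc_g_rc_27_0 lc_g_rc_27_6 lc_g_Cert_tree lc_g_Cert_tree lc_g_Cert_tree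 lc_g_rc_21_3 lc_g_Cert_tree lc_g_rc_27_3 lc_g_rc_21_2 lc_g_rc_24_7 lc_g_rc_21_3 lc_g_rc_24_3 lc_g_rc_24_7 lc_g_rc_27_0 lc_g_rc_21_3 lc_g_Cert_tree lc_g_rc_21_2 lc_g_rc_21_2 lc_g_Cert_tree lc_g_rc_21_3 lc_g_Cert_tree lc_g_Cert_tree lc_g_Cert_tree lc_g_rc_21_2 lc_g_Cert_tree lc_g_rc_21_3 lc_g_Cert_tree lc_g_rc_26_6 lc_g_Cert_tree lc_g_rc_21_2 lc_g_rc_21_2 lc_g_rc_21_2 lc_g_rc_21_3) (@D3.rec (fun _ => (Cert rels S Gen.g)) lc_g_Cert_tree lc_g_rc_27_6 lc_g_rc_24_9 lc_g_rc_27_3 lc_g_rc_26_0 lc_g_rc_21_2 lc_g_rc_24_1 lc_g_rc_25_3 lc_g_rc_21_2 lc_g_rc_21_3 lc_g_Cert_tree lc_g_rc_26_0 lc_g_rc_23_9 lc_g_Cert_tree lc_g_rc_21_3 lc_g_rc_26_6 lc_g_rc_21_3 lc_g_Cert_tree lc_g_rc_21_2 lc_g_rc_21_3 lc_g_Cert_tree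 lc_g_rc_21_2 lc_g_rc_21_3 lc_g_rc_27_9 lc_g_rc_21_3 lc_g_Cert_tree lc_g_Cert_tree lc_g_Cert_tree lc_g_rc_21_3 lc_g_Cert_tree lc_g_rc_26_3 lc_g_rc_27_6 lc_g_rc_27_3 lc_g_rc_21_3 lc_g_rc_24_7 lc_g_rc_27_6 lc_g_rc_21_2 lc_g_Cert_tree lc_g_rc_21_3 lc_g_Cert_tree lc_g_Cert_tree lc_g_rc_21_2 lc_g_rc_21_3 lc_g_Cert_tree lc_g_rc_23_3 lc_g_Cert_tree lc_g_rc_23_3 lc_g_rc_27_6 lc_g_rc_21_3 lc_g_Cert_tree lc_g_rc_21_2 lc_g_rc_26_3 lc_g_Cert_tree lc_g_rc_21_3 lc_g_Cert_tree lc_g_Cert_tree lc_g_rc_23_3 lc_g_rc_21_2 lc_g_rc_24_3 lc_g_rc_21_2 lc_g_rc_21_3 lc_g_Cert_tree) (@D3.rec (fun _ => (Cert rels S Gen.g)) lc_g_rc_21_2 lc_g_Cert_tree lc_g_rc_27_6 lc_g_Cert_tree lc_g_rc_23_3 lc_g_rc_27_3 lc_g_rc_21_3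 lc_g_Cert_tree lc_g_rc_21_2 lc_g_rc_24_3 lc_g_Cert_tree lc_g_rc_21_2 lc_g_rc_21_3 lc_g_rc_21_2 lc_g_rc_23_9 lc_g_rc_21_3 lc_g_Cert_tree lc_g_rc_21_2 lc_g_rc_21_3 lc_g_Cert_tree lc_g_rc_21_2 lc_g_rc_23_1 lc_g_rc_27_3 lc_g_rc_21_3 lc_g_rc_21_2 lc_g_rc_21_2 lc_g_rc_24_3 lc_g_Cert_tree lc_g_rc_24_1 lc_g_rc_23_7 lc_g_rc_21_2 lc_g_rc_21_3 lc_g_Cert_tree lc_g_Cert_tree lc_g_rc_26_6 lc_g_rc_21_3 lc_g_Cert_tree lc_g_rc_21_2 lc_g_rc_26_0 lc_g_rc_21_2 lc_g_rc_21_2 lc_g_rc_21_2 lc_g_Cert_tree lc_g_rc_27_3 lc_g_rc_26_9 lc_g_Cert_tree lc_g_rc_26_6 lc_g_rc_23_1 lc_g_rc_24_1 lc_g_rc_27_6 lc_g_rc_21_3 lc_g_Cert_tree lc_g_Cert_tree lc_g_Cert_tree lc_g_Cert_tree lc_g_rc_23_3 lc_g_Cert_tree lc_g_rc_27_6 lc_g_rc_27_3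 lc_g_rc_21_3 lc_g_rc_21_2 lc_g_Cert_tree) (@D3.rec (fun _ => (Cert rels S Gen.g)) lc_g_rc_24_7 lc_g_rc_21_2 lc_g_Cert_tree lc_g_Cert_tree lc_g_rc_24_1 lc_g_rc_27_6 lc_g_rc_21_3 lc_g_Cert_tree lc_g_rc_21_2 lc_g_rc_27_3 lc_g_Cert_tree lc_g_rc_26_3 lc_g_Cert_tree lc_g_rc_27_9 lc_g_rc_27_6 lc_g_rc_21_3 lc_g_Cert_tree lc_g_rc_21_2 lc_g_rc_21_3 lc_g_Cert_tree lc_g_rc_21_2 lc_g_rc_26_0 lc_g_rc_26_3 lc_g_rc_26_0 lc_g_rc_24_7 lc_g_rc_27_3 lc_g_rc_23_1 lc_g_rc_27_3 lc_g_rc_21_3 lc_g_Cert_tree lc_g_rc_24_3 lc_g_Cert_tree lc_g_rc_27_6 lc_g_rc_21_2 lc_g_rc_23_3 lc_g_rc_26_3 lc_g_rc_26_3 lc_g_Cert_tree lc_g_rc_21_2 lc_g_Cert_tree lc_g_rc_21_3 lc_g_Cert_tree lc_g_rc_21_2 lc_g_rc_21_2 lc_g_rc_27_6 lc_g_Cert_tree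 lc_g_rc_26_3 lc_g_rc_27_3 lc_g_Cert_tree lc_g_Cert_tree lc_g_rc_26_3 lc_g_rc_21_2 lc_g_rc_21_2 lc_g_rc_21_3 lc_g_Cert_tree lc_g_rc_23_3 lc_g_rc_27_9 lc_g_rc_23_1 lc_g_rc_21_3 lc_g_Cert_tree lc_g_rc_26_3 lc_g_Cert_tree) (@D3.rec (fun _ => (Cert rels S Gen.g)) lc_g_rc_21_3 lc_g_Cert_tree lc_g_rc_21_3 lc_g_rc_27_6 lc_g_rc_21_2 lc_g_rc_27_6 lc_g_rc_21_2 lc_g_rc_21_2 lc_g_rc_21_2 lc_g_rc_21_2 lc_g_rc_27_0 lc_g_Cert_tree lc_g_Cert_tree lc_g_rc_21_2 lc_g_rc_23_9 lc_g_rc_26_3 lc_g_rc_26_3 lc_g_rc_21_3 lc_g_Cert_tree lc_g_rc_21_2 lc_g_Cert_tree lc_g_rc_21_2 lc_g_rc_26_3 lc_g_rc_21_3 lc_g_Cert_tree lc_g_Cert_tree lc_g_Cert_tree lc_g_rc_21_2 lc_g_Cert_tree lc_g_Cert_tree lc_g_rc_21_2 lc_g_rc_21_2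 lc_g_Cert_tree lc_g_rc_21_2 lc_g_rc_21_3 lc_g_Cert_tree lc_g_rc_21_2 lc_g_rc_26_6 lc_g_Cert_tree lc_g_rc_21_3 lc_g_rc_26_9 lc_g_rc_21_2 lc_g_rc_27_6 lc_g_rc_26_0 lc_g_rc_27_6 lc_g_rc_23_1 lc_g_rc_21_3 lc_g_Cert_tree lc_g_rc_27_6 lc_g_rc_21_2 lc_g_rc_23_3 lc_g_rc_27_6 lc_g_rc_26_3 lc_g_rc_26_6 lc_g_rc_21_2 lc_g_rc_24_1 lc_g_Cert_tree lc_g_Cert_tree lc_g_rc_21_3 lc_g_Cert_tree lc_g_rc_24_9 lc_g_Cert_tree) (@D3.rec (fun _ => (Cert rels S Gen.g)) lc_g_rc_27_3 lc_g_rc_21_3 lc_g_rc_21_2 lc_g_Cert_tree lc_g_rc_21_2 lc_g_rc_23_1 lc_g_Cert_tree lc_g_rc_24_9 lc_g_rc_21_3 lc_g_Cert_tree lc_g_Cert_tree lc_g_rc_21_2 lc_g_rc_21_3 lc_g_Cert_tree lc_g_Cert_tree lc_g_Cert_tree lc_g_Cert_tree lc_g_rc_21_2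 lc_g_rc_21_3 lc_g_Cert_tree lc_g_rc_21_2 lc_g_rc_26_0 lc_g_rc_23_3 lc_g_rc_24_9 lc_g_rc_27_6 lc_g_Cert_tree lc_g_rc_26_3 lc_g_rc_24_1 lc_g_Cert_tree lc_g_Cert_tree lc_g_rc_21_3 lc_g_Cert_tree lc_g_rc_21_2 lc_g_rc_21_2 lc_g_Cert_tree lc_g_rc_21_3 lc_g_Cert_tree lc_g_rc_21_2 lc_g_rc_26_6 lc_g_rc_27_3 lc_g_rc_21_3 lc_g_Cert_tree lc_g_rc_21_2 lc_g_rc_26_6 lc_g_rc_26_3 lc_g_rc_21_2 lc_g_rc_26_9 lc_g_rc_27_0 lc_g_rc_26_6 lc_g_rc_26_3 lc_g_Cert_tree lc_g_rc_26_6 lc_g_rc_21_3 lc_g_Cert_tree lc_g_rc_27_6 lc_g_rc_21_2 lc_g_rc_23_3 lc_g_rc_26_3 lc_g_rc_23_1 lc_g_rc_26_0 lc_g_rc_21_2 lc_g_Cert_tree) (@D3.rec (fun _ => (Cert rels S Gen.g)) lc_g_rc_21_2 lc_g_Cert_tree lc_g_rc_21_3 lc_g_Cert_tree lc_g_rc_21_2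 lc_g_Cert_tree lc_g_rc_23_9 lc_g_rc_26_9 lc_g_rc_26_6 lc_g_rc_26_0 lc_g_rc_21_3 lc_g_rc_21_3 lc_g_rc_21_3 lc_g_Cert_tree lc_g_rc_21_2 lc_g_rc_21_3 lc_g_rc_24_7 lc_g_rc_27_6 lc_g_rc_23_3 lc_g_rc_27_3 lc_g_Cert_tree lc_g_Cert_tree lc_g_rc_21_3 lc_g_Cert_tree lc_g_rc_21_2 lc_g_rc_21_3 lc_g_Cert_tree lc_g_rc_21_2 lc_g_rc_24_1 lc_g_Cert_tree lc_g_rc_26_3 lc_g_rc_27_6 lc_g_Cert_tree lc_g_rc_26_0 lc_g_rc_24_1 lc_g_rc_21_2 lc_g_rc_21_2 lc_g_rc_27_3 lc_g_rc_26_6 lc_g_rc_21_3 lc_g_rc_26_6 lc_g_Cert_tree lc_g_rc_26_3 lc_g_rc_21_3 lc_g_rc_26_6 lc_g_rc_21_3 lc_g_Cert_tree lc_g_rc_24_3 lc_g_rc_21_2 lc_g_rc_27_9 lc_g_rc_24_1 lc_g_rc_24_7 lc_g_rc_21_2 lc_g_rc_24_3 lc_g_Cert_tree lc_g_rc_21_2 lc_g_Cert_tree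 lc_g_Cert_tree lc_g_rc_26_0 lc_g_rc_27_3 lc_g_rc_21_2 lc_g_rc_21_2) (@D3.rec (fun _ => (Cert rels S Gen.g)) lc_g_rc_21_2 lc_g_rc_24_1 lc_g_Cert_tree lc_g_rc_26_6 lc_g_rc_21_3 lc_g_rc_26_9 lc_g_rc_21_2 lc_g_rc_27_3 lc_g_rc_21_3 lc_g_Cert_tree lc_g_rc_21_2 lc_g_rc_26_0 lc_g_rc_21_2 lc_g_rc_27_6 lc_g_rc_23_3 lc_g_Cert_tree lc_g_rc_21_3 lc_g_rc_21_3 lc_g_rc_26_9 lc_g_Cert_tree lc_g_rc_21_2 lc_g_rc_21_3 lc_g_rc_21_3 lc_g_rc_21_3 lc_g_rc_21_3 lc_g_Cert_tree lc_g_Cert_tree lc_g_rc_27_3 lc_g_rc_21_2 lc_g_rc_24_3 lc_g_rc_25_3 lc_g_rc_24_7 lc_g_rc_27_3 lc_g_rc_26_0 lc_g_rc_27_9 lc_g_rc_27_0 lc_g_Cert_tree lc_g_rc_23_1 lc_g_rc_21_2 lc_g_rc_21_3 lc_g_rc_21_2 lc_g_Cert_tree lc_g_rc_26_9 lc_g_Cert_tree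 lc_g_rc_27_0 lc_g_Cert_tree lc_g_Cert_tree lc_g_Cert_tree lc_g_Cert_tree lc_g_rc_23_3 lc_g_rc_23_1 lc_g_rc_21_3 lc_g_rc_21_2 lc_g_Cert_tree lc_g_Cert_tree lc_g_rc_23_7 lc_g_rc_24_9 lc_g_rc_27_9 lc_g_rc_25_11 lc_g_Cert_tree lc_g_rc_26_3 lc_g_rc_21_2) (@D3.rec (fun _ => (Cert rels S Gen.g)) lc_g_rc_21_2 lc_g_rc_21_3 lc_g_rc_27_9 lc_g_rc_21_3 lc_g_Cert_tree lc_g_Cert_tree lc_g_rc_21_3 lc_g_Cert_tree lc_g_rc_27_3 lc_g_rc_24_7 lc_g_Cert_tree lc_g_rc_21_3 lc_g_rc_21_2 lc_g_rc_24_1 lc_g_rc_21_3 lc_g_Cert_tree lc_g_rc_27_3 lc_g_rc_23_7 lc_g_rc_21_2 lc_g_rc_27_0 lc_g_rc_21_3 lc_g_Cert_tree lc_g_Cert_tree lc_g_Cert_tree lc_g_rc_26_9 lc_g_Cert_tree lc_g_rc_23_9 lc_g_Cert_tree lc_g_Cert_tree lc_g_rc_21_3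 lc_g_Cert_tree lc_g_Cert_tree lc_g_rc_21_2 lc_g_rc_21_2 lc_g_Cert_tree lc_g_rc_21_3 lc_g_rc_21_3 lc_g_rc_21_2 lc_g_Cert_tree lc_g_rc_21_3 lc_g_Cert_tree lc_g_rc_21_2 lc_g_Cert_tree lc_g_rc_24_3 lc_g_Cert_tree lc_g_rc_26_6 lc_g_rc_21_3 lc_g_rc_21_3 lc_g_Cert_tree lc_g_rc_24_9 lc_g_rc_21_2 lc_g_rc_27_6 lc_g_Cert_tree lc_g_Cert_tree lc_g_rc_21_2 lc_g_rc_26_3 lc_g_rc_26_6 lc_g_rc_27_6 lc_g_rc_21_3 lc_g_Cert_tree lc_g_rc_26_0 lc_g_Cert_tree) (@D3.rec (fun _ => (Cert rels S Gen.g)) lc_g_rc_21_2 lc_g_rc_26_6 lc_g_rc_21_2 lc_g_rc_23_3 lc_g_Cert_tree lc_g_rc_21_3 lc_g_Cert_tree lc_g_rc_27_3 lc_g_rc_25_19 lc_g_rc_21_2 lc_g_rc_27_6 lc_g_rc_21_3 lc_g_Cert_tree lc_g_rc_25_3 lc_g_rc_26_9 lc_g_rc_21_2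 lc_g_rc_21_3 lc_g_Cert_tree lc_g_rc_27_6 lc_g_rc_27_3 lc_g_Cert_tree lc_g_rc_21_2 lc_g_rc_21_2 lc_g_Cert_tree lc_g_rc_23_9 lc_g_rc_27_9 lc_g_rc_21_2 lc_g_Cert_tree lc_g_rc_21_2 lc_g_rc_27_3 lc_g_Cert_tree lc_g_rc_21_2 lc_g_rc_21_3 lc_g_rc_21_2 lc_g_rc_21_3 lc_g_rc_21_3 lc_g_rc_26_0 lc_g_rc_21_2 lc_g_rc_21_3 lc_g_Cert_tree lc_g_Cert_tree lc_g_rc_27_6 lc_g_rc_24_1 lc_g_rc_24_3 lc_g_rc_24_3 lc_g_Cert_tree lc_g_rc_21_3 lc_g_Cert_tree lc_g_rc_21_2 lc_g_rc_24_3 lc_g_Cert_tree lc_g_rc_25_3 lc_g_rc_21_3 lc_g_rc_21_3 lc_g_Cert_tree lc_g_rc_23_3 lc_g_rc_21_2 lc_g_rc_26_0 lc_g_rc_26_0 lc_g_rc_27_9 lc_g_rc_26_9 lc_g_rc_21_2) (@D3.rec (fun _ => (Cert rels S Gen.g)) lc_g_rc_26_3 lc_g_rc_21_3 lc_g_Cert_tree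 lc_g_rc_24_7 lc_g_rc_21_2 lc_g_rc_26_3 lc_g_rc_27_6 lc_g_rc_27_9 lc_g_rc_21_2 lc_g_rc_21_2 lc_g_rc_21_2 lc_g_rc_24_7 lc_g_rc_21_3 lc_g_Cert_tree lc_g_rc_21_2 lc_g_Cert_tree lc_g_Cert_tree lc_g_rc_24_7 lc_g_Cert_tree lc_g_rc_21_3 lc_g_rc_26_0 lc_g_rc_21_2 lc_g_Cert_tree lc_g_rc_24_3 lc_g_Cert_tree lc_g_rc_23_3 lc_g_Cert_tree lc_g_rc_23_1 lc_g_rc_21_3 lc_g_Cert_tree lc_g_rc_26_6 lc_g_rc_26_3 lc_g_rc_21_2 lc_g_rc_26_9 lc_g_rc_24_1 lc_g_rc_21_3 lc_g_rc_21_2 lc_g_rc_21_3 lc_g_Cert_tree lc_g_rc_21_2 lc_g_rc_21_2 lc_g_rc_27_6 lc_g_Cert_tree lc_g_rc_26_3 lc_g_rc_21_2 lc_g_Cert_tree lc_g_rc_24_9 lc_g_rc_21_2 lc_g_rc_24_1 lc_g_rc_21_3 lc_g_Cert_tree lc_g_Cert_tree lc_g_rc_26_6 lc_g_rc_21_3 lc_g_rc_21_3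 lc_g_Cert_tree lc_g_Cert_tree lc_g_rc_21_2 lc_g_Cert_tree lc_g_rc_21_2 lc_g_rc_27_0 lc_g_rc_26_0) (@D3.rec (fun _ => (Cert rels S Gen.g)) lc_g_rc_21_3 lc_g_rc_27_6 lc_g_rc_27_6 lc_g_rc_24_3 lc_g_Cert_tree lc_g_rc_21_2 lc_g_Cert_tree lc_g_rc_27_9 lc_g_rc_21_2 lc_g_rc_26_6 lc_g_rc_27_9 lc_g_rc_27_6 lc_g_rc_21_3 lc_g_Cert_tree lc_g_Cert_tree lc_g_rc_21_2 lc_g_rc_26_6 lc_g_rc_26_6 lc_g_rc_21_2 lc_g_Cert_tree lc_g_Cert_tree lc_g_rc_27_6 lc_g_Cert_tree lc_g_Cert_tree lc_g_rc_26_3 lc_g_rc_27_0 lc_g_Cert_tree lc_g_Cert_tree lc_g_rc_23_3 lc_g_rc_26_3 lc_g_rc_23_3 lc_g_Cert_tree lc_g_rc_26_3 lc_g_rc_23_9 lc_g_rc_21_2 lc_g_rc_27_6 lc_g_rc_21_3 lc_g_rc_27_0 lc_g_rc_23_1 lc_g_rc_21_3 lc_g_rc_24_7 lc_g_rc_21_2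 lc_g_rc_27_6 lc_g_rc_21_3 lc_g_Cert_tree lc_g_rc_26_0 lc_g_rc_27_6 lc_g_rc_21_2 lc_g_rc_21_2 lc_g_rc_26_9 lc_g_rc_21_3 lc_g_Cert_tree lc_g_rc_24_3 lc_g_Cert_tree lc_g_rc_21_2 lc_g_rc_21_3 lc_g_Cert_tree lc_g_rc_21_2 lc_g_rc_21_2 lc_g_rc_24_3 lc_g_Cert_tree lc_g_rc_27_0) (@D3.rec (fun _ => (Cert rels S Gen.g)) lc_g_rc_21_3 lc_g_Cert_tree lc_g_rc_23_1 lc_g_Cert_tree lc_g_rc_21_3 lc_g_Cert_tree lc_g_rc_21_2 lc_g_rc_26_3 lc_g_rc_21_2 lc_g_rc_21_2 lc_g_rc_21_3 lc_g_Cert_tree lc_g_rc_27_6 lc_g_rc_21_2 lc_g_rc_25_11 lc_g_rc_21_2 lc_g_rc_26_6 lc_g_rc_24_1 lc_g_rc_27_3 lc_g_rc_27_3 lc_g_Cert_tree lc_g_rc_26_0 lc_g_rc_25_19 lc_g_Cert_tree lc_g_rc_21_3 lc_g_Cert_tree lc_g_Cert_tree lc_g_Cert_tree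 lc_g_rc_21_3 lc_g_Cert_tree lc_g_rc_23_7 lc_g_rc_21_2 lc_g_rc_21_3 lc_g_Cert_tree lc_g_rc_21_3 lc_g_rc_27_3 lc_g_rc_21_3 lc_g_Cert_tree lc_g_Cert_tree lc_g_rc_24_3 lc_g_Cert_tree lc_g_rc_24_3 lc_g_rc_26_3 lc_g_rc_21_3 lc_g_Cert_tree lc_g_rc_21_2 lc_g_rc_21_3 lc_g_Cert_tree lc_g_rc_26_3 lc_g_Cert_tree lc_g_rc_21_3 lc_g_rc_21_3 lc_g_rc_26_6 lc_g_rc_21_2 lc_g_rc_21_3 lc_g_Cert_tree lc_g_Cert_tree lc_g_rc_26_6 lc_g_Cert_tree lc_g_rc_21_3 lc_g_Cert_tree lc_g_rc_21_2) (@D3.rec (fun _ => (Cert rels S Gen.g)) lc_g_rc_21_3 lc_g_Cert_tree lc_g_rc_27_0 lc_g_rc_21_3 lc_g_rc_21_3 lc_g_rc_27_6 lc_g_rc_21_3 lc_g_Cert_tree lc_g_rc_21_2 lc_g_rc_21_3 lc_g_Cert_tree lc_g_rc_24_3 lc_g_rc_21_2 lc_g_rc_27_6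 lc_g_Cert_tree lc_g_rc_21_3 lc_g_Cert_tree lc_g_rc_21_2 lc_g_rc_21_3 lc_g_rc_21_3 lc_g_Cert_tree lc_g_rc_24_7 lc_g_Cert_tree lc_g_rc_26_6 lc_g_Cert_tree lc_g_rc_21_3 lc_g_Cert_tree lc_g_rc_21_2 lc_g_rc_24_3 lc_g_rc_21_3 lc_g_rc_21_3 lc_g_rc_26_0 lc_g_rc_23_7 lc_g_rc_24_9 lc_g_rc_23_7 lc_g_rc_27_0 lc_g_rc_24_3 lc_g_rc_21_3 lc_g_rc_24_3 lc_g_rc_21_2 lc_g_Cert_tree lc_g_rc_25_3 lc_g_Cert_tree lc_g_Cert_tree lc_g_Cert_tree lc_g_rc_23_3 lc_g_rc_23_9 lc_g_Cert_tree lc_g_rc_24_9 lc_g_rc_26_0 lc_g_rc_27_9 lc_g_rc_24_3 lc_g_rc_21_2 lc_g_rc_21_2 lc_g_rc_25_19 lc_g_Cert_tree lc_g_rc_27_3 lc_g_Cert_tree lc_g_rc_21_2 lc_g_rc_21_3 lc_g_rc_26_6 lc_g_rc_21_3) (@D3.rec (fun _ => (Cert rels S Gen.g)) lc_g_Cert_tree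 lc_g_Cert_tree lc_g_rc_21_3 lc_g_Cert_tree lc_g_rc_23_3 lc_g_rc_24_1 lc_g_rc_21_2 lc_g_Cert_tree lc_g_rc_26_3 lc_g_Cert_tree lc_g_rc_24_9 lc_g_rc_24_1 lc_g_rc_21_3 lc_g_Cert_tree lc_g_Cert_tree lc_g_rc_26_9 lc_g_Cert_tree lc_g_rc_23_1 lc_g_Cert_tree lc_g_rc_23_9 lc_g_rc_24_9 lc_g_rc_27_6 lc_g_Cert_tree lc_g_rc_27_0 lc_g_rc_26_6 lc_g_rc_21_2 lc_g_Cert_tree lc_g_rc_21_3 lc_g_Cert_tree lc_g_rc_21_2 lc_g_rc_21_2 lc_g_rc_24_7 lc_g_rc_27_6 lc_g_rc_21_2 lc_g_rc_24_7 lc_g_rc_21_2 lc_g_rc_21_3 lc_g_Cert_tree lc_g_Cert_tree lc_g_Cert_tree lc_g_rc_21_3 lc_g_Cert_tree lc_g_rc_21_2 lc_g_rc_21_2 lc_g_rc_24_7 lc_g_rc_21_3 lc_g_rc_21_2 lc_g_rc_21_2 lc_g_rc_27_6 lc_g_rc_21_2 lc_g_rc_21_2 lc_g_rc_23_1 lc_g_rc_27_6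 lc_g_Cert_tree lc_g_rc_26_0 lc_g_rc_23_7 lc_g_rc_26_3 lc_g_rc_21_2 lc_g_rc_21_3 lc_g_Cert_tree lc_g_rc_26_3 lc_g_Cert_tree) (@D3.rec (fun _ => (Cert rels S Gen.g)) lc_g_Cert_tree lc_g_rc_27_3 lc_g_rc_21_3 lc_g_Cert_tree lc_g_rc_21_2 lc_g_rc_26_9 lc_g_rc_27_3 lc_g_Cert_tree lc_g_rc_23_9 lc_g_rc_21_3 lc_g_rc_26_3 lc_g_rc_23_7 lc_g_rc_24_1 lc_g_rc_27_0 lc_g_rc_21_2 lc_g_rc_21_3 lc_g_Cert_tree lc_g_rc_21_3 lc_g_rc_23_3 lc_g_Cert_tree lc_g_rc_26_3 lc_g_rc_21_3 lc_g_Cert_tree lc_g_rc_21_2 lc_g_rc_21_3 lc_g_rc_24_7 lc_g_rc_26_0 lc_g_rc_27_3 lc_g_rc_24_3 lc_g_rc_27_6 lc_g_rc_24_3 lc_g_Cert_tree lc_g_rc_23_7 lc_g_rc_21_3 lc_g_Cert_tree lc_g_rc_21_2 lc_g_rc_21_2 lc_g_rc_21_3 lc_g_rc_27_6 lc_g_Cert_tree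 lc_g_rc_27_6 lc_g_rc_21_3 lc_g_Cert_tree lc_g_rc_23_7 lc_g_rc_23_7 lc_g_rc_23_1 lc_g_Cert_tree lc_g_rc_24_9 lc_g_rc_21_3 lc_g_Cert_tree lc_g_rc_21_2 lc_g_Cert_tree lc_g_rc_26_3 lc_g_rc_21_3 lc_g_rc_27_6 lc_g_Cert_tree lc_g_rc_21_2 lc_g_Cert_tree lc_g_Cert_tree lc_g_rc_27_6 lc_g_rc_24_3 lc_g_Cert_tree) (@D3.rec (fun _ => (Cert rels S Gen.g)) lc_g_rc_21_3 lc_g_rc_21_2 lc_g_Cert_tree lc_g_rc_21_2 lc_g_Cert_tree lc_g_rc_21_2 lc_g_rc_21_2 lc_g_rc_27_6 lc_g_Cert_tree lc_g_rc_21_2 lc_g_rc_26_3 lc_g_rc_27_3 lc_g_rc_21_3 lc_g_Cert_tree lc_g_Cert_tree lc_g_rc_21_3 lc_g_rc_21_2 lc_g_rc_23_9 lc_g_Cert_tree lc_g_rc_23_9 lc_g_rc_21_3 lc_g_rc_27_6 lc_g_rc_21_2 lc_g_rc_27_9 lc_g_rc_21_3 lc_g_Cert_tree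 lc_g_rc_21_3 lc_g_rc_27_3 lc_g_rc_21_3 lc_g_Cert_tree lc_g_rc_21_2 lc_g_rc_21_2 lc_g_rc_26_9 lc_g_rc_21_2 lc_g_rc_23_3 lc_g_Cert_tree lc_g_Cert_tree lc_g_Cert_tree lc_g_rc_21_3 lc_g_rc_23_7 lc_g_rc_21_3 lc_g_rc_21_3 lc_g_rc_21_2 lc_g_rc_21_3 lc_g_Cert_tree lc_g_rc_21_3 lc_g_Cert_tree lc_g_Cert_tree lc_g_rc_26_3 lc_g_rc_21_3 lc_g_Cert_tree lc_g_rc_21_2 lc_g_rc_21_3 lc_g_rc_24_7 lc_g_Cert_tree lc_g_rc_21_2 lc_g_rc_27_3 lc_g_rc_21_3 lc_g_Cert_tree lc_g_rc_21_2 lc_g_rc_21_2 lc_g_rc_21_2) (@D3.rec (fun _ => (Cert rels S Gen.g)) lc_g_Cert_tree lc_g_rc_27_3 lc_g_rc_23_9 lc_g_rc_21_3 lc_g_Cert_tree lc_g_rc_21_2 lc_g_rc_23_7 lc_g_rc_24_3 lc_g_rc_27_3 lc_g_Cert_tree lc_g_rc_27_6 lc_g_rc_21_3 lc_g_rc_21_2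 lc_g_rc_21_3 lc_g_Cert_tree lc_g_rc_21_2 lc_g_rc_25_11 lc_g_Cert_tree lc_g_rc_25_3 lc_g_rc_26_6 lc_g_Cert_tree lc_g_rc_23_3 lc_g_rc_24_3 lc_g_rc_27_3 lc_g_rc_21_2 lc_g_rc_24_1 lc_g_rc_21_2 lc_g_rc_21_2 lc_g_rc_23_9 lc_g_Cert_tree lc_g_rc_26_0 lc_g_rc_21_2 lc_g_rc_21_3 lc_g_Cert_tree lc_g_Cert_tree lc_g_rc_24_7 lc_g_Cert_tree lc_g_rc_24_3 lc_g_rc_27_6 lc_g_rc_21_3 lc_g_Cert_tree lc_g_rc_21_2 lc_g_rc_21_2 lc_g_rc_21_2 lc_g_Cert_tree lc_g_rc_21_2 lc_g_rc_23_9 lc_g_Cert_tree lc_g_rc_21_2 lc_g_Cert_tree lc_g_Cert_tree lc_g_rc_27_0 lc_g_Cert_tree lc_g_rc_27_9 lc_g_rc_23_9 lc_g_Cert_tree lc_g_Cert_tree lc_g_rc_24_9 lc_g_rc_27_6 lc_g_rc_27_0 lc_g_rc_21_3 lc_g_Cert_tree) (@D3.rec (fun _ => (Cert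 rels S Gen.g)) lc_g_rc_21_2 lc_g_rc_23_3 lc_g_Cert_tree lc_g_rc_26_6 lc_g_rc_21_3 lc_g_rc_27_6 lc_g_Cert_tree lc_g_rc_21_2 lc_g_rc_21_3 lc_g_Cert_tree lc_g_rc_21_2 lc_g_Cert_tree lc_g_rc_21_2 lc_g_rc_27_0 lc_g_rc_26_9 lc_g_rc_24_7 lc_g_rc_27_0 lc_g_rc_21_3 lc_g_Cert_tree lc_g_rc_21_2 lc_g_Cert_tree lc_g_Cert_tree lc_g_rc_21_2 lc_g_rc_23_1 lc_g_rc_26_3 lc_g_rc_21_2 lc_g_rc_24_7 lc_g_rc_27_9 lc_g_rc_24_7 lc_g_rc_27_0 lc_g_rc_21_3 lc_g_rc_27_9 lc_g_rc_27_9 lc_g_rc_21_3 lc_g_rc_21_3 lc_g_Cert_tree lc_g_rc_21_2 lc_g_Cert_tree lc_g_rc_27_6 lc_g_rc_21_2 lc_g_rc_21_3 lc_g_Cert_tree lc_g_rc_21_2 lc_g_rc_26_3 lc_g_Cert_tree lc_g_rc_26_6 lc_g_rc_27_3 lc_g_rc_21_2 lc_g_rc_21_2 lc_g_rc_21_2 lc_g_rc_26_3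 lc_g_Cert_tree lc_g_Cert_tree lc_g_rc_26_0 lc_g_Cert_tree lc_g_rc_21_2 lc_g_rc_23_9 lc_g_rc_21_2 lc_g_rc_21_3 lc_g_Cert_tree lc_g_rc_21_2 lc_g_rc_24_3) (@D3.rec (fun _ => (Cert rels S Gen.g)) lc_g_rc_21_3 lc_g_Cert_tree lc_g_rc_21_2 lc_g_Cert_tree lc_g_rc_26_0 lc_g_rc_27_9 lc_g_rc_27_9 lc_g_rc_24_9 lc_g_rc_27_0 lc_g_rc_21_2 lc_g_rc_24_9 lc_g_rc_21_3 lc_g_Cert_tree lc_g_rc_27_3 lc_g_rc_21_3 lc_g_Cert_tree lc_g_rc_21_2 lc_g_rc_26_3 lc_g_rc_24_1 lc_g_rc_21_2 lc_g_rc_27_0 lc_g_rc_21_2 lc_g_rc_21_3 lc_g_rc_27_6 lc_g_rc_21_3 lc_g_Cert_tree lc_g_rc_27_6 lc_g_rc_27_3 lc_g_rc_24_3 lc_g_rc_23_9 lc_g_rc_21_3 lc_g_Cert_tree lc_g_rc_21_2 lc_g_rc_23_9 lc_g_rc_21_2 lc_g_rc_21_3 lc_g_Cert_tree lc_g_rc_21_2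 lc_g_rc_21_3 lc_g_Cert_tree lc_g_rc_21_2 lc_g_rc_26_3 lc_g_Cert_tree lc_g_Cert_tree lc_g_rc_24_7 lc_g_rc_27_3 lc_g_rc_21_3 lc_g_rc_24_7 lc_g_rc_27_6 lc_g_rc_21_3 lc_g_Cert_tree lc_g_rc_23_9 lc_g_rc_24_7 lc_g_Cert_tree lc_g_rc_21_2 lc_g_rc_21_3 lc_g_Cert_tree lc_g_rc_26_6 lc_g_Cert_tree lc_g_rc_23_9 lc_g_rc_21_3 lc_g_Cert_tree) (@D3.rec (fun _ => (Cert rels S Gen.g)) lc_g_Cert_tree lc_g_rc_27_6 lc_g_rc_21_2 lc_g_rc_24_3 lc_g_rc_27_6 lc_g_rc_21_3 lc_g_Cert_tree lc_g_rc_21_2 lc_g_rc_21_3 lc_g_Cert_tree lc_g_rc_21_2 lc_g_Cert_tree lc_g_rc_21_3 lc_g_Cert_tree lc_g_Cert_tree lc_g_rc_21_2 lc_g_rc_21_2 lc_g_rc_21_3 lc_g_rc_24_1 lc_g_rc_23_7 lc_g_rc_27_3 lc_g_rc_24_7 lc_g_rc_21_2 lc_g_rc_21_3 lc_g_Cert_tree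 lc_g_rc_27_3 lc_g_rc_21_3 lc_g_rc_23_9 lc_g_rc_21_3 lc_g_rc_21_3 lc_g_rc_23_9 lc_g_rc_27_3 lc_g_rc_23_1 lc_g_rc_24_3 lc_g_rc_21_2 lc_g_rc_27_0 lc_g_rc_21_3 lc_g_rc_26_3 lc_g_rc_21_3 lc_g_rc_21_2 lc_g_rc_27_9 lc_g_rc_21_2 lc_g_rc_27_0 lc_g_rc_27_6 lc_g_rc_26_9 lc_g_rc_21_3 lc_g_Cert_tree lc_g_rc_21_2 lc_g_rc_27_9 lc_g_rc_23_7 lc_g_rc_27_3 lc_g_rc_27_0 lc_g_rc_21_3 lc_g_rc_21_2 lc_g_rc_21_2 lc_g_Cert_tree lc_g_rc_26_6 lc_g_rc_26_6 lc_g_rc_24_3 lc_g_rc_21_3 lc_g_rc_27_6 lc_g_rc_24_9)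
def ce_g_15 : D2 → D3 → (Cert rels S Gen.g) := @D2.rec (fun _ => D3 → (Cert rels S Gen.g)) (@D3.rec (fun _ => (Cert rels S Gen.g)) lc_g_rc_27_0 lc_g_rc_21_3 lc_g_Cert_tree lc_g_rc_21_2 lc_g_rc_27_3 lc_g_rc_27_6 lc_g_Cert_tree lc_g_rc_21_2 lc_g_rc_27_6 lc_g_rc_27_6 lc_g_Cert_tree lc_g_rc_23_1 lc_g_rc_21_2 lc_g_rc_27_6 lc_g_Cert_tree lc_g_rc_21_2 lc_g_rc_26_9 lc_g_rc_27_6 lc_g_rc_27_9 lc_g_rc_27_9 lc_g_rc_21_3 lc_g_rc_21_2 lc_g_rc_21_2 lc_g_rc_27_0 lc_g_rc_27_0 lc_g_Cert_tree lc_g_Cert_tree lc_g_rc_27_0 lc_g_Cert_tree lc_g_rc_24_9 lc_g_rc_21_3 lc_g_rc_21_2 lc_g_rc_27_0 lc_g_rc_21_2 lc_g_rc_27_0 lc_g_Cert_tree lc_g_rc_23_9 lc_g_rc_21_2 lc_g_rc_26_6 lc_g_rc_23_9 lc_g_rc_21_2 lc_g_rc_21_3 lc_g_Cert_tree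 lc_g_rc_21_2 lc_g_Cert_tree lc_g_rc_21_3 lc_g_Cert_tree lc_g_Cert_tree lc_g_rc_21_3 lc_g_Cert_tree lc_g_rc_21_2 lc_g_Cert_tree lc_g_rc_24_3 lc_g_Cert_tree lc_g_Cert_tree lc_g_rc_21_3 lc_g_rc_21_2 lc_g_Cert_tree lc_g_rc_21_3 lc_g_Cert_tree lc_g_Cert_tree lc_g_rc_23_9) (@D3.rec (fun _ => (Cert rels S Gen.g)) lc_g_rc_24_3 lc_g_Cert_tree lc_g_rc_21_2 lc_g_rc_23_9 lc_g_Cert_tree lc_g_rc_21_3 lc_g_rc_21_2 lc_g_rc_21_3 lc_g_Cert_tree lc_g_rc_26_6 lc_g_Cert_tree lc_g_rc_24_3 lc_g_Cert_tree lc_g_rc_21_2 lc_g_Cert_tree lc_g_rc_26_9 lc_g_rc_24_9 lc_g_rc_26_6 lc_g_rc_27_0 lc_g_Cert_tree lc_g_rc_24_9 lc_g_Cert_tree lc_g_rc_21_2 lc_g_rc_21_2 lc_g_rc_21_3 lc_g_Cert_tree lc_g_rc_21_2 lc_g_Cert_tree lc_g_rc_23_7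 lc_g_rc_21_2 lc_g_rc_26_6 lc_g_rc_23_3 lc_g_rc_27_6 lc_g_rc_23_9 lc_g_Cert_tree lc_g_rc_26_9 lc_g_rc_24_3 lc_g_Cert_tree lc_g_rc_24_1 lc_g_rc_26_6 lc_g_rc_26_3 lc_g_Cert_tree lc_g_Cert_tree lc_g_rc_26_3 lc_g_rc_26_9 lc_g_rc_21_3 lc_g_Cert_tree lc_g_rc_21_2 lc_g_rc_23_3 lc_g_Cert_tree lc_g_rc_21_2 lc_g_rc_21_2 lc_g_rc_21_3 lc_g_Cert_tree lc_g_rc_21_2 lc_g_Cert_tree lc_g_Cert_tree lc_g_Cert_tree lc_g_rc_21_3 lc_g_Cert_tree lc_g_Cert_tree lc_g_rc_21_2) (@D3.rec (fun _ => (Cert rels S Gen.g)) lc_g_rc_21_2 lc_g_rc_27_0 lc_g_Cert_tree lc_g_rc_27_6 lc_g_rc_26_6 lc_g_Cert_tree lc_g_rc_26_3 lc_g_rc_21_2 lc_g_Cert_tree lc_g_Cert_tree lc_g_Cert_tree lc_g_rc_27_0 lc_g_Cert_tree lc_g_rc_21_2 lc_g_rc_24_7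 lc_g_rc_27_9 lc_g_rc_26_3 lc_g_rc_27_0 lc_g_rc_21_2 lc_g_rc_21_3 lc_g_Cert_tree lc_g_rc_26_9 lc_g_Cert_tree lc_g_Cert_tree lc_g_Cert_tree lc_g_rc_26_3 lc_g_Cert_tree lc_g_Cert_tree lc_g_rc_21_2 lc_g_rc_26_9 lc_g_rc_24_1 lc_g_rc_27_6 lc_g_rc_26_3 lc_g_rc_21_3 lc_g_Cert_tree lc_g_rc_21_2 lc_g_Cert_tree lc_g_Cert_tree lc_g_Cert_tree lc_g_rc_23_3 lc_g_rc_21_2 lc_g_rc_21_3 lc_g_Cert_tree lc_g_rc_21_2 lc_g_Cert_tree lc_g_Cert_tree lc_g_rc_27_6 lc_g_Cert_tree lc_g_rc_21_2 lc_g_rc_26_6 lc_g_rc_21_3 lc_g_rc_27_6 lc_g_rc_26_0 lc_g_rc_23_7 lc_g_rc_26_3 lc_g_rc_23_7 lc_g_rc_21_3 lc_g_Cert_tree lc_g_Cert_tree lc_g_rc_21_2 lc_g_rc_26_3 lc_g_rc_21_2) (@D3.rec (fun _ => (Cert rels S Gen.g)) lc_g_Cert_tree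 lc_g_rc_27_9 lc_g_rc_24_9 lc_g_rc_21_3 lc_g_Cert_tree lc_g_rc_21_2 lc_g_Cert_tree lc_g_rc_21_3 lc_g_Cert_tree lc_g_rc_27_9 lc_g_rc_27_0 lc_g_rc_21_3 lc_g_rc_27_9 lc_g_rc_26_9 lc_g_Cert_tree lc_g_rc_21_3 lc_g_Cert_tree lc_g_rc_23_3 lc_g_rc_21_2 lc_g_rc_21_3 lc_g_rc_24_3 lc_g_rc_27_9 lc_g_rc_27_0 lc_g_rc_23_9 lc_g_rc_27_0 lc_g_rc_27_9 lc_g_rc_21_3 lc_g_rc_21_2 lc_g_rc_27_6 lc_g_rc_26_0 lc_g_Cert_tree lc_g_rc_24_3 lc_g_rc_21_2 lc_g_rc_27_0 lc_g_rc_27_3 lc_g_rc_26_6 lc_g_rc_27_3 lc_g_rc_26_6 lc_g_rc_21_2 lc_g_Cert_tree lc_g_rc_21_2 lc_g_rc_23_3 lc_g_rc_24_7 lc_g_Cert_tree lc_g_Cert_tree lc_g_rc_26_3 lc_g_rc_26_3 lc_g_rc_21_2 lc_g_rc_23_9 lc_g_rc_21_2 lc_g_Cert_tree lc_g_rc_24_1 lc_g_rc_23_7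 lc_g_rc_23_7 lc_g_rc_21_3 lc_g_rc_27_6 lc_g_Cert_tree lc_g_rc_26_3 lc_g_rc_21_3 lc_g_rc_21_3 lc_g_rc_24_9 lc_g_rc_26_3) (@D3.rec (fun _ => (Cert rels S Gen.g)) lc_g_rc_26_6 lc_g_rc_26_3 lc_g_rc_21_3 lc_g_rc_27_6 lc_g_Cert_tree lc_g_rc_21_2 lc_g_rc_23_3 lc_g_rc_26_9 lc_g_rc_23_7 lc_g_rc_26_3 lc_g_rc_21_3 lc_g_Cert_tree lc_g_rc_21_2 lc_g_rc_21_3 lc_g_rc_26_3 lc_g_rc_26_0 lc_g_rc_21_3 lc_g_rc_27_6 lc_g_Cert_tree lc_g_rc_21_2 lc_g_rc_26_6 lc_g_rc_27_3 lc_g_Cert_tree lc_g_rc_21_2 lc_g_rc_27_0 lc_g_rc_21_2 lc_g_rc_21_2 lc_g_rc_27_3 lc_g_rc_23_1 lc_g_rc_27_3 lc_g_rc_27_3 lc_g_rc_21_3 lc_g_Cert_tree lc_g_rc_21_3 lc_g_Cert_tree lc_g_rc_26_6 lc_g_rc_21_2 lc_g_rc_21_3 lc_g_rc_23_7 lc_g_rc_27_6 lc_g_rc_21_2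 lc_g_rc_21_2 lc_g_rc_23_7 lc_g_rc_23_7 lc_g_rc_21_3 lc_g_rc_24_1 lc_g_rc_27_6 lc_g_rc_24_1 lc_g_Cert_tree lc_g_rc_24_9 lc_g_rc_21_3 lc_g_rc_21_2 lc_g_rc_21_3 lc_g_rc_26_3 lc_g_rc_23_3 lc_g_rc_26_3 lc_g_rc_21_3 lc_g_Cert_tree lc_g_rc_21_2 lc_g_rc_24_3 lc_g_rc_23_3 lc_g_rc_21_3) (@D3.rec (fun _ => (Cert rels S Gen.g)) lc_g_rc_23_7 lc_g_rc_21_2 lc_g_rc_21_2 lc_g_rc_23_9 lc_g_rc_24_7 lc_g_rc_26_6 lc_g_rc_26_6 lc_g_Cert_tree lc_g_rc_27_0 lc_g_rc_21_2 lc_g_rc_21_3 lc_g_Cert_tree lc_g_rc_26_6 lc_g_rc_27_0 lc_g_rc_27_3 lc_g_Cert_tree lc_g_rc_27_0 lc_g_rc_26_9 lc_g_rc_26_0 lc_g_rc_26_9 lc_g_rc_21_2 lc_g_rc_21_2 lc_g_rc_23_1 lc_g_rc_21_2 lc_g_rc_26_0 lc_g_rc_24_3 lc_g_rc_26_9 lc_g_rc_21_3 lc_g_Cert_tree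 lc_g_rc_27_6 lc_g_rc_23_3 lc_g_rc_24_9 lc_g_rc_24_3 lc_g_rc_26_9 lc_g_rc_27_9 lc_g_rc_21_2 lc_g_Cert_tree lc_g_rc_27_6 lc_g_rc_21_3 lc_g_Cert_tree lc_g_Cert_tree lc_g_rc_21_2 lc_g_rc_21_2 lc_g_rc_26_0 lc_g_rc_24_7 lc_g_rc_24_3 lc_g_Cert_tree lc_g_Cert_tree lc_g_rc_21_3 lc_g_rc_21_3 lc_g_Cert_tree lc_g_rc_24_1 lc_g_Cert_tree lc_g_rc_21_3 lc_g_Cert_tree lc_g_rc_21_2 lc_g_rc_24_1 lc_g_rc_23_3 lc_g_rc_21_2 lc_g_rc_27_0 lc_g_rc_27_6 lc_g_rc_27_6) (@D3.rec (fun _ => (Cert rels S Gen.g)) lc_g_rc_26_6 lc_g_rc_24_1 lc_g_Cert_tree lc_g_rc_21_2 lc_g_rc_21_3 lc_g_Cert_tree lc_g_rc_21_2 lc_g_rc_21_3 lc_g_rc_24_1 lc_g_rc_26_6 lc_g_Cert_tree lc_g_rc_21_2 lc_g_rc_21_3 lc_g_Cert_tree lc_g_Cert_tree lc_g_rc_21_2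 lc_g_Cert_tree lc_g_Cert_tree lc_g_rc_27_9 lc_g_rc_26_6 lc_g_rc_21_3 lc_g_Cert_tree lc_g_rc_26_3 lc_g_Cert_tree lc_g_rc_27_0 lc_g_rc_23_3 lc_g_Cert_tree lc_g_rc_24_1 lc_g_rc_27_0 lc_g_Cert_tree lc_g_rc_21_3 lc_g_rc_26_3 lc_g_rc_27_9 lc_g_rc_21_2 lc_g_rc_24_9 lc_g_rc_21_3 lc_g_rc_23_1 lc_g_rc_27_0 lc_g_rc_21_2 lc_g_rc_21_2 lc_g_rc_21_3 lc_g_Cert_tree lc_g_rc_26_6 lc_g_rc_27_0 lc_g_Cert_tree lc_g_rc_27_9 lc_g_rc_21_2 lc_g_rc_21_2 lc_g_rc_26_0 lc_g_rc_26_3 lc_g_Cert_tree lc_g_rc_24_3 lc_g_rc_26_0 lc_g_Cert_tree lc_g_rc_26_9 lc_g_rc_23_7 lc_g_rc_27_6 lc_g_rc_21_2 lc_g_rc_21_3 lc_g_Cert_tree lc_g_Cert_tree lc_g_Cert_tree) (@D3.rec (fun _ => (Cert rels S Gen.g)) lc_g_rc_21_3 lc_g_Cert_tree lc_g_rc_21_2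 lc_g_rc_27_3 lc_g_rc_26_9 lc_g_rc_21_2 lc_g_rc_21_2 lc_g_rc_27_9 lc_g_Cert_tree lc_g_Cert_tree lc_g_rc_24_9 lc_g_rc_21_2 lc_g_rc_21_2 lc_g_rc_26_6 lc_g_rc_21_3 lc_g_Cert_tree lc_g_rc_21_2 lc_g_Cert_tree lc_g_rc_21_3 lc_g_Cert_tree lc_g_Cert_tree lc_g_rc_26_3 lc_g_rc_27_6 lc_g_rc_21_3 lc_g_Cert_tree lc_g_Cert_tree lc_g_rc_23_1 lc_g_Cert_tree lc_g_rc_21_2 lc_g_rc_21_3 lc_g_Cert_tree lc_g_rc_21_2 lc_g_Cert_tree lc_g_rc_21_2 lc_g_rc_21_3 lc_g_Cert_tree lc_g_rc_21_2 lc_g_rc_26_3 lc_g_rc_23_3 lc_g_rc_21_2 lc_g_rc_24_3 lc_g_rc_27_6 lc_g_rc_27_6 lc_g_rc_27_3 lc_g_Cert_tree lc_g_rc_21_2 lc_g_rc_21_3 lc_g_Cert_tree lc_g_Cert_tree lc_g_rc_27_3 lc_g_rc_24_9 lc_g_rc_27_3 lc_g_rc_21_2 lc_g_rc_21_3 lc_g_rc_23_1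 lc_g_Cert_tree lc_g_rc_21_3 lc_g_rc_21_3 lc_g_Cert_tree lc_g_Cert_tree lc_g_rc_21_3 lc_g_rc_21_2) (@D3.rec (fun _ => (Cert rels S Gen.g)) lc_g_rc_23_3 lc_g_rc_24_3 lc_g_rc_27_3 lc_g_rc_21_3 lc_g_rc_21_3 lc_g_Cert_tree lc_g_rc_21_2 lc_g_rc_21_3 lc_g_rc_21_2 lc_g_Cert_tree lc_g_rc_21_2 lc_g_rc_27_6 lc_g_Cert_tree lc_g_rc_27_6 lc_g_rc_26_0 lc_g_rc_26_0 lc_g_rc_21_2 lc_g_rc_24_1 lc_g_rc_26_9 lc_g_Cert_tree lc_g_rc_21_2 lc_g_rc_21_3 lc_g_Cert_tree lc_g_Cert_tree lc_g_rc_21_3 lc_g_Cert_tree lc_g_rc_21_2 lc_g_rc_21_2 lc_g_rc_21_3 lc_g_rc_21_2 lc_g_Cert_tree lc_g_rc_27_9 lc_g_rc_24_1 lc_g_rc_23_3 lc_g_Cert_tree lc_g_rc_24_1 lc_g_rc_27_0 lc_g_Cert_tree lc_g_rc_24_1 lc_g_Cert_tree lc_g_rc_21_3 lc_g_rc_26_3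 lc_g_rc_26_6 lc_g_rc_23_3 lc_g_rc_24_9 lc_g_rc_21_3 lc_g_rc_21_3 lc_g_rc_27_0 lc_g_rc_27_0 lc_g_rc_27_9 lc_g_Cert_tree lc_g_rc_21_3 lc_g_Cert_tree lc_g_Cert_tree lc_g_rc_21_3 lc_g_rc_27_0 lc_g_rc_21_3 lc_g_Cert_tree lc_g_rc_21_2 lc_g_rc_26_6 lc_g_rc_26_3 lc_g_Cert_tree) (@D3.rec (fun _ => (Cert rels S Gen.g)) lc_g_rc_24_3 lc_g_Cert_tree lc_g_rc_21_2 lc_g_Cert_tree lc_g_Cert_tree lc_g_Cert_tree lc_g_rc_21_3 lc_g_Cert_tree lc_g_rc_26_6 lc_g_rc_21_3 lc_g_rc_21_2 lc_g_Cert_tree lc_g_rc_21_2 lc_g_Cert_tree lc_g_rc_23_7 lc_g_rc_21_2 lc_g_rc_24_9 lc_g_rc_27_6 lc_g_rc_27_3 lc_g_Cert_tree lc_g_rc_21_2 lc_g_rc_21_3 lc_g_Cert_tree lc_g_rc_21_2 lc_g_Cert_tree lc_g_rc_21_3 lc_g_Cert_tree lc_g_rc_27_3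 lc_g_rc_21_2 lc_g_rc_27_0 lc_g_rc_24_9 lc_g_Cert_tree lc_g_Cert_tree lc_g_Cert_tree lc_g_rc_26_3 lc_g_rc_27_6 lc_g_rc_27_6 lc_g_rc_27_6 lc_g_rc_27_9 lc_g_rc_27_6 lc_g_rc_27_0 lc_g_rc_23_7 lc_g_rc_21_3 lc_g_Cert_tree lc_g_rc_21_2 lc_g_rc_26_6 lc_g_Cert_tree lc_g_rc_21_2 lc_g_rc_27_3 lc_g_rc_24_7 lc_g_rc_24_7 lc_g_rc_27_0 lc_g_Cert_tree lc_g_rc_26_6 lc_g_rc_21_2 lc_g_Cert_tree lc_g_rc_21_3 lc_g_Cert_tree lc_g_rc_21_2 lc_g_Cert_tree lc_g_Cert_tree lc_g_rc_21_2) (@D3.rec (fun _ => (Cert rels S Gen.g)) lc_g_rc_26_9 lc_g_rc_27_9 lc_g_rc_24_7 lc_g_Cert_tree lc_g_rc_21_3 lc_g_Cert_tree lc_g_rc_21_2 lc_g_rc_24_3 lc_g_rc_27_6 lc_g_rc_21_3 lc_g_Cert_tree lc_g_rc_21_2 lc_g_rc_21_3 lc_g_Cert_tree lc_g_Cert_tree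 lc_g_rc_21_2 lc_g_rc_24_7 lc_g_rc_26_3 lc_g_rc_24_3 lc_g_rc_21_3 lc_g_Cert_tree lc_g_rc_21_2 lc_g_rc_27_9 lc_g_rc_27_3 lc_g_Cert_tree lc_g_rc_21_3 lc_g_rc_26_6 lc_g_rc_27_9 lc_g_rc_21_3 lc_g_Cert_tree lc_g_Cert_tree lc_g_rc_21_2 lc_g_rc_27_0 lc_g_Cert_tree lc_g_rc_21_3 lc_g_Cert_tree lc_g_rc_21_2 lc_g_rc_26_3 lc_g_rc_23_9 lc_g_rc_21_3 lc_g_Cert_tree lc_g_rc_21_2 lc_g_rc_21_2 lc_g_rc_27_0 lc_g_rc_21_3 lc_g_rc_21_2 lc_g_rc_21_3 lc_g_Cert_tree lc_g_rc_21_2 lc_g_rc_26_6 lc_g_rc_21_3 lc_g_Cert_tree lc_g_rc_24_9 lc_g_rc_21_2 lc_g_rc_25_3 lc_g_rc_21_2 lc_g_rc_27_3 lc_g_rc_24_7 lc_g_rc_27_0 lc_g_rc_21_2 lc_g_rc_21_3 lc_g_Cert_tree) (@D3.rec (fun _ => (Cert rels S Gen.g)) lc_g_Cert_tree lc_g_rc_21_2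 lc_g_rc_21_3 lc_g_Cert_tree lc_g_rc_21_2 lc_g_Cert_tree lc_g_rc_21_3 lc_g_rc_21_2 lc_g_rc_24_1 lc_g_rc_21_2 lc_g_rc_21_2 lc_g_rc_27_6 lc_g_rc_27_0 lc_g_rc_21_3 lc_g_Cert_tree lc_g_rc_21_2 lc_g_Cert_tree lc_g_rc_24_3 lc_g_rc_27_6 lc_g_Cert_tree lc_g_rc_21_2 lc_g_rc_26_9 lc_g_rc_27_0 lc_g_rc_21_3 lc_g_Cert_tree lc_g_rc_23_3 lc_g_rc_21_3 lc_g_Cert_tree lc_g_rc_21_2 lc_g_rc_27_3 lc_g_rc_23_9 lc_g_rc_24_7 lc_g_rc_21_3 lc_g_Cert_tree lc_g_rc_23_1 lc_g_rc_21_2 lc_g_rc_23_9 lc_g_rc_27_3 lc_g_rc_21_3 lc_g_Cert_tree lc_g_rc_27_0 lc_g_rc_21_3 lc_g_Cert_tree lc_g_rc_21_2 lc_g_rc_26_3 lc_g_rc_26_6 lc_g_rc_23_1 lc_g_rc_21_3 lc_g_Cert_tree lc_g_rc_21_2 lc_g_rc_27_0 lc_g_rc_21_3 lc_g_Cert_tree lc_g_rc_21_2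 lc_g_rc_24_3 lc_g_rc_24_3 lc_g_rc_23_3 lc_g_rc_27_3 lc_g_rc_21_2 lc_g_rc_21_3 lc_g_Cert_tree lc_g_rc_21_2) (@D3.rec (fun _ => (Cert rels S Gen.g)) lc_g_rc_25_3 lc_g_rc_26_6 lc_g_rc_23_3 lc_g_rc_26_3 lc_g_rc_21_2 lc_g_rc_25_19 lc_g_rc_21_3 lc_g_Cert_tree lc_g_rc_21_3 lc_g_Cert_tree lc_g_rc_24_1 lc_g_rc_26_0 lc_g_rc_21_3 lc_g_rc_24_1 lc_g_rc_27_0 lc_g_rc_21_2 lc_g_rc_21_3 lc_g_Cert_tree lc_g_rc_21_2 lc_g_rc_27_6 lc_g_rc_24_3 lc_g_rc_21_2 lc_g_rc_27_3 lc_g_rc_25_15 lc_g_Cert_tree lc_g_rc_21_3 lc_g_Cert_tree lc_g_rc_21_2 lc_g_rc_21_2 lc_g_rc_27_9 lc_g_Cert_tree lc_g_rc_21_2 lc_g_rc_21_3 lc_g_Cert_tree lc_g_rc_21_2 lc_g_rc_27_6 lc_g_rc_23_7 lc_g_rc_21_2 lc_g_rc_27_0 lc_g_rc_23_1 lc_g_Cert_tree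 lc_g_rc_21_2 lc_g_rc_21_3 lc_g_Cert_tree lc_g_rc_21_2 lc_g_Cert_tree lc_g_rc_21_3 lc_g_rc_21_2 lc_g_rc_27_9 lc_g_rc_27_0 lc_g_Cert_tree lc_g_Cert_tree lc_g_Cert_tree lc_g_rc_21_3 lc_g_Cert_tree lc_g_rc_21_2 lc_g_rc_21_3 lc_g_Cert_tree lc_g_rc_21_2 lc_g_rc_26_6 lc_g_rc_21_3 lc_g_Cert_tree) (@D3.rec (fun _ => (Cert rels S Gen.g)) lc_g_rc_21_2 lc_g_rc_23_7 lc_g_rc_21_2 lc_g_rc_21_3 lc_g_Cert_tree lc_g_rc_21_3 lc_g_Cert_tree lc_g_rc_21_2 lc_g_rc_21_3 lc_g_Cert_tree lc_g_Cert_tree lc_g_rc_21_2 lc_g_rc_24_7 lc_g_rc_26_6 lc_g_rc_23_7 lc_g_rc_26_0 lc_g_rc_27_9 lc_g_rc_23_1 lc_g_rc_24_3 lc_g_Cert_tree lc_g_rc_27_3 lc_g_rc_21_2 lc_g_rc_21_3 lc_g_rc_21_3 lc_g_rc_24_7 lc_g_rc_27_6 lc_g_rc_27_0 lc_g_Cert_tree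 lc_g_rc_26_3 lc_g_rc_27_6 lc_g_Cert_tree lc_g_rc_27_3 lc_g_rc_21_2 lc_g_rc_27_0 lc_g_rc_23_1 lc_g_Cert_tree lc_g_rc_24_7 lc_g_rc_21_3 lc_g_rc_21_3 lc_g_Cert_tree lc_g_rc_26_6 lc_g_Cert_tree lc_g_rc_23_3 lc_g_Cert_tree lc_g_rc_23_7 lc_g_rc_21_3 lc_g_Cert_tree lc_g_rc_21_2 lc_g_rc_26_3 lc_g_rc_21_3 lc_g_Cert_tree lc_g_rc_25_19 lc_g_rc_21_3 lc_g_Cert_tree lc_g_rc_21_2 lc_g_rc_27_6 lc_g_rc_21_3 lc_g_Cert_tree lc_g_rc_24_9 lc_g_rc_21_2 lc_g_Cert_tree lc_g_rc_24_7) (@D3.rec (fun _ => (Cert rels S Gen.g)) lc_g_rc_21_3 lc_g_rc_26_6 lc_g_rc_24_7 lc_g_rc_27_3 lc_g_rc_21_2 lc_g_rc_21_3 lc_g_Cert_tree lc_g_rc_27_6 lc_g_rc_21_3 lc_g_rc_27_0 lc_g_rc_27_0 lc_g_rc_27_0 lc_g_rc_21_2 lc_g_rc_26_6 lc_g_rc_21_3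 lc_g_rc_23_3 lc_g_Cert_tree lc_g_rc_23_7 lc_g_rc_23_3 lc_g_rc_26_0 lc_g_rc_27_6 lc_g_rc_21_2 lc_g_rc_26_3 lc_g_rc_21_3 lc_g_Cert_tree lc_g_rc_21_2 lc_g_Cert_tree lc_g_rc_27_9 lc_g_rc_27_9 lc_g_rc_27_0 lc_g_Cert_tree lc_g_rc_21_3 lc_g_rc_21_2 lc_g_rc_21_3 lc_g_Cert_tree lc_g_rc_25_11 lc_g_rc_27_0 lc_g_rc_26_6 lc_g_rc_23_3 lc_g_Cert_tree lc_g_rc_21_2 lc_g_rc_27_9 lc_g_rc_27_0 lc_g_rc_27_9 lc_g_rc_21_2 lc_g_rc_21_2 lc_g_Cert_tree lc_g_rc_21_3 lc_g_Cert_tree lc_g_rc_21_2 lc_g_rc_21_2 lc_g_rc_21_2 lc_g_rc_25_19 lc_g_Cert_tree lc_g_rc_21_3 lc_g_Cert_tree lc_g_rc_21_2 lc_g_rc_21_3 lc_g_Cert_tree lc_g_rc_21_2 lc_g_rc_27_9 lc_g_rc_27_9) (@D3.rec (fun _ => (Cert rels S Gen.g)) lc_g_rc_27_0 lc_g_Cert_tree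 lc_g_rc_21_2 lc_g_rc_21_3 lc_g_rc_21_2 lc_g_rc_21_3 lc_g_Cert_tree lc_g_rc_21_2 lc_g_Cert_tree lc_g_Cert_tree lc_g_rc_24_1 lc_g_rc_21_3 lc_g_Cert_tree lc_g_rc_21_2 lc_g_rc_26_6 lc_g_rc_27_6 lc_g_rc_26_9 lc_g_rc_21_3 lc_g_Cert_tree lc_g_rc_23_3 lc_g_rc_21_2 lc_g_rc_24_3 lc_g_rc_27_6 lc_g_rc_23_9 lc_g_rc_27_9 lc_g_rc_21_3 lc_g_Cert_tree lc_g_rc_21_2 lc_g_Cert_tree lc_g_Cert_tree lc_g_Cert_tree lc_g_rc_27_3 lc_g_rc_21_2 lc_g_rc_21_3 lc_g_Cert_tree lc_g_rc_21_2 lc_g_Cert_tree lc_g_Cert_tree lc_g_rc_21_2 lc_g_rc_21_2 lc_g_rc_21_3 lc_g_rc_26_9 lc_g_rc_23_7 lc_g_Cert_tree lc_g_rc_26_6 lc_g_Cert_tree lc_g_rc_21_3 lc_g_rc_23_7 lc_g_rc_27_6 lc_g_rc_23_1 lc_g_Cert_tree lc_g_rc_21_2 lc_g_Cert_tree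 lc_g_rc_21_2 lc_g_Cert_tree lc_g_rc_26_9 lc_g_Cert_tree lc_g_Cert_tree lc_g_rc_27_6 lc_g_Cert_tree lc_g_Cert_tree lc_g_rc_27_6) (@D3.rec (fun _ => (Cert rels S Gen.g)) lc_g_rc_21_3 lc_g_Cert_tree lc_g_Cert_tree lc_g_rc_26_9 lc_g_rc_27_3 lc_g_rc_27_0 lc_g_rc_27_0 lc_g_Cert_tree lc_g_Cert_tree lc_g_rc_23_7 lc_g_rc_21_3 lc_g_Cert_tree lc_g_rc_23_1 lc_g_Cert_tree lc_g_rc_26_6 lc_g_rc_21_2 lc_g_rc_24_3 lc_g_Cert_tree lc_g_rc_27_3 lc_g_rc_23_9 lc_g_rc_27_0 lc_g_Cert_tree lc_g_rc_21_3 lc_g_rc_21_2 lc_g_rc_26_0 lc_g_rc_25_15 lc_g_Cert_tree lc_g_rc_26_3 lc_g_rc_21_3 lc_g_Cert_tree lc_g_rc_25_19 lc_g_Cert_tree lc_g_rc_26_9 lc_g_rc_27_0 lc_g_Cert_tree lc_g_rc_24_7 lc_g_rc_26_6 lc_g_Cert_tree lc_g_rc_21_2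 lc_g_rc_21_3 lc_g_Cert_tree lc_g_rc_27_3 lc_g_rc_21_2 lc_g_rc_26_6 lc_g_rc_24_7 lc_g_rc_27_9 lc_g_rc_23_1 lc_g_rc_27_6 lc_g_rc_26_6 lc_g_Cert_tree lc_g_rc_26_9 lc_g_rc_21_2 lc_g_rc_26_6 lc_g_rc_23_3 lc_g_rc_23_7 lc_g_rc_23_1 lc_g_rc_27_6 lc_g_rc_27_0 lc_g_rc_27_9 lc_g_rc_21_3 lc_g_rc_23_1 lc_g_Cert_tree) (@D3.rec (fun _ => (Cert rels S Gen.g)) lc_g_Cert_tree lc_g_rc_27_3 lc_g_rc_21_2 lc_g_rc_21_3 lc_g_Cert_tree lc_g_Cert_tree lc_g_rc_26_0 lc_g_rc_27_3 lc_g_rc_21_2 lc_g_rc_24_3 lc_g_rc_26_0 lc_g_rc_26_3 lc_g_Cert_tree lc_g_Cert_tree lc_g_rc_26_9 lc_g_Cert_tree lc_g_rc_26_3 lc_g_rc_23_7 lc_g_rc_24_1 lc_g_rc_24_1 lc_g_rc_21_3 lc_g_Cert_tree lc_g_Cert_tree lc_g_Cert_tree lc_g_rc_21_2 lc_g_Cert_tree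 lc_g_Cert_tree lc_g_Cert_tree lc_g_rc_21_3 lc_g_Cert_tree lc_g_rc_21_2 lc_g_rc_21_2 lc_g_Cert_tree lc_g_Cert_tree lc_g_rc_26_9 lc_g_rc_21_3 lc_g_Cert_tree lc_g_rc_21_2 lc_g_Cert_tree lc_g_Cert_tree lc_g_rc_21_3 lc_g_Cert_tree lc_g_rc_21_3 lc_g_rc_21_2 lc_g_rc_21_2 lc_g_rc_21_2 lc_g_Cert_tree lc_g_rc_21_3 lc_g_Cert_tree lc_g_Cert_tree lc_g_rc_21_2 lc_g_rc_23_1 lc_g_rc_27_0 lc_g_rc_21_3 lc_g_Cert_tree lc_g_rc_21_2 lc_g_Cert_tree lc_g_Cert_tree lc_g_Cert_tree lc_g_Cert_tree lc_g_Cert_tree lc_g_rc_26_6) (@D3.rec (fun _ => (Cert rels S Gen.g)) lc_g_rc_23_1 lc_g_rc_27_6 lc_g_rc_21_3 lc_g_Cert_tree lc_g_rc_26_3 lc_g_rc_26_6 lc_g_rc_27_3 lc_g_rc_23_7 lc_g_rc_24_3 lc_g_rc_21_2 lc_g_rc_23_9 lc_g_rc_21_3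 lc_g_Cert_tree lc_g_rc_21_2 lc_g_rc_26_6 lc_g_rc_27_3 lc_g_rc_27_0 lc_g_rc_26_6 lc_g_rc_27_3 lc_g_rc_24_7 lc_g_rc_27_0 lc_g_rc_27_3 lc_g_Cert_tree lc_g_rc_23_3 lc_g_rc_21_2 lc_g_rc_21_3 lc_g_Cert_tree lc_g_rc_21_2 lc_g_rc_21_3 lc_g_rc_21_2 lc_g_Cert_tree lc_g_rc_21_2 lc_g_rc_21_3 lc_g_Cert_tree lc_g_rc_21_2 lc_g_rc_26_6 lc_g_Cert_tree lc_g_Cert_tree lc_g_Cert_tree lc_g_rc_21_2 lc_g_rc_21_3 lc_g_Cert_tree lc_g_rc_21_2 lc_g_Cert_tree lc_g_rc_21_3 lc_g_rc_26_0 lc_g_rc_24_3 lc_g_rc_23_7 lc_g_rc_21_3 lc_g_Cert_tree lc_g_rc_24_3 lc_g_Cert_tree lc_g_rc_21_3 lc_g_rc_25_11 lc_g_Cert_tree lc_g_rc_26_9 lc_g_rc_24_9 lc_g_rc_26_6 lc_g_rc_27_3 lc_g_rc_24_7 lc_g_rc_24_7 lc_g_rc_27_3) (@D3.rec (fun _ =>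 (Cert rels S Gen.g)) lc_g_rc_26_3 lc_g_rc_24_3 lc_g_rc_21_2 lc_g_rc_21_3 lc_g_Cert_tree lc_g_rc_21_2 lc_g_rc_26_6 lc_g_rc_26_6 lc_g_rc_21_2 lc_g_rc_21_3 lc_g_Cert_tree lc_g_rc_21_2 lc_g_rc_21_2 lc_g_rc_25_3 lc_g_rc_26_3 lc_g_rc_21_3 lc_g_Cert_tree lc_g_rc_27_3 lc_g_rc_21_2 lc_g_rc_24_7 lc_g_rc_27_0 lc_g_rc_26_9 lc_g_rc_26_9 lc_g_rc_27_0 lc_g_rc_24_1 lc_g_rc_26_9 lc_g_rc_27_6 lc_g_Cert_tree lc_g_rc_21_2 lc_g_rc_23_3 lc_g_Cert_tree lc_g_Cert_tree lc_g_rc_27_0 lc_g_rc_24_1 lc_g_rc_24_3 lc_g_rc_21_3 lc_g_Cert_tree lc_g_Cert_tree lc_g_rc_21_2 lc_g_rc_26_3 lc_g_rc_26_6 lc_g_rc_26_6 lc_g_Cert_tree lc_g_rc_27_0 lc_g_rc_26_3 lc_g_rc_27_0 lc_g_rc_26_3 lc_g_rc_27_9 lc_g_rc_24_7 lc_g_rc_24_7 lc_g_rc_24_3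 lc_g_Cert_tree lc_g_Cert_tree lc_g_rc_24_7 lc_g_rc_21_3 lc_g_Cert_tree lc_g_rc_21_2 lc_g_rc_21_3 lc_g_Cert_tree lc_g_rc_21_2 lc_g_Cert_tree lc_g_Cert_tree) (@D3.rec (fun _ => (Cert rels S Gen.g)) lc_g_Cert_tree lc_g_rc_21_3 lc_g_Cert_tree lc_g_rc_26_3 lc_g_rc_27_0 lc_g_Cert_tree lc_g_rc_21_3 lc_g_rc_21_3 lc_g_rc_27_0 lc_g_rc_27_6 lc_g_Cert_tree lc_g_rc_27_6 lc_g_rc_26_6 lc_g_Cert_tree lc_g_rc_23_7 lc_g_rc_24_1 lc_g_rc_26_6 lc_g_rc_23_1 lc_g_rc_21_3 lc_g_Cert_tree lc_g_rc_27_3 lc_g_rc_26_6 lc_g_rc_23_7 lc_g_rc_24_1 lc_g_rc_24_3 lc_g_rc_27_0 lc_g_Cert_tree lc_g_rc_26_3 lc_g_rc_26_6 lc_g_rc_27_3 lc_g_rc_21_3 lc_g_rc_21_3 lc_g_rc_24_9 lc_g_rc_27_6 lc_g_rc_21_3 lc_g_Cert_tree lc_g_Cert_tree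 lc_g_rc_21_2 lc_g_rc_21_3 lc_g_Cert_tree lc_g_rc_23_7 lc_g_rc_21_2 lc_g_rc_26_9 lc_g_Cert_tree lc_g_rc_26_0 lc_g_rc_26_9 lc_g_rc_26_6 lc_g_rc_21_3 lc_g_Cert_tree lc_g_rc_21_3 lc_g_Cert_tree lc_g_rc_27_6 lc_g_rc_21_3 lc_g_Cert_tree lc_g_rc_27_6 lc_g_rc_21_2 lc_g_rc_21_2 lc_g_rc_21_2 lc_g_rc_21_2 lc_g_rc_26_3 lc_g_Cert_tree lc_g_rc_26_9) (@D3.rec (fun _ => (Cert rels S Gen.g)) lc_g_rc_26_9 lc_g_Cert_tree lc_g_rc_21_2 lc_g_rc_21_3 lc_g_Cert_tree lc_g_rc_26_0 lc_g_Cert_tree lc_g_Cert_tree lc_g_rc_23_7 lc_g_rc_23_1 lc_g_rc_21_3 lc_g_rc_21_2 lc_g_Cert_tree lc_g_rc_27_3 lc_g_rc_21_3 lc_g_rc_21_3 lc_g_rc_26_0 lc_g_rc_26_0 lc_g_Cert_tree lc_g_Cert_tree lc_g_rc_21_3 lc_g_rc_23_7 lc_g_rc_21_2 lc_g_rc_27_6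 lc_g_rc_26_3 lc_g_Cert_tree lc_g_rc_23_9 lc_g_rc_21_2 lc_g_rc_21_2 lc_g_Cert_tree lc_g_rc_26_9 lc_g_rc_27_6 lc_g_Cert_tree lc_g_rc_26_3 lc_g_rc_26_3 lc_g_rc_27_6 lc_g_Cert_tree lc_g_rc_26_6 lc_g_rc_26_6 lc_g_rc_21_3 lc_g_Cert_tree lc_g_rc_21_2 lc_g_rc_21_3 lc_g_Cert_tree lc_g_Cert_tree lc_g_Cert_tree lc_g_rc_23_7 lc_g_rc_23_1 lc_g_rc_27_3 lc_g_rc_23_9 lc_g_rc_24_3 lc_g_Cert_tree lc_g_rc_23_9 lc_g_rc_26_0 lc_g_rc_27_3 lc_g_rc_27_9 lc_g_rc_21_3 lc_g_Cert_tree lc_g_Cert_tree lc_g_rc_23_9 lc_g_Cert_tree lc_g_rc_24_7) (@D3.rec (fun _ => (Cert rels S Gen.g)) lc_g_rc_27_3 lc_g_rc_24_7 lc_g_rc_27_0 lc_g_rc_26_3 lc_g_rc_26_6 lc_g_rc_26_6 lc_g_rc_26_6 lc_g_rc_27_3 lc_g_rc_24_3 lc_g_rc_26_3 lc_g_rc_21_3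 lc_g_Cert_tree lc_g_rc_21_2 lc_g_Cert_tree lc_g_rc_21_3 lc_g_Cert_tree lc_g_rc_23_7 lc_g_rc_21_2 lc_g_rc_27_0 lc_g_Cert_tree lc_g_rc_21_3 lc_g_rc_21_3 lc_g_Cert_tree lc_g_rc_26_3 lc_g_Cert_tree lc_g_Cert_tree lc_g_Cert_tree lc_g_rc_21_2 lc_g_rc_23_1 lc_g_Cert_tree lc_g_rc_24_1 lc_g_rc_26_3 lc_g_rc_23_9 lc_g_Cert_tree lc_g_rc_23_9 lc_g_rc_23_3 lc_g_Cert_tree lc_g_rc_24_3 lc_g_rc_23_3 lc_g_rc_27_0 lc_g_rc_26_6 lc_g_rc_21_2 lc_g_rc_24_7 lc_g_rc_27_0 lc_g_rc_27_3 lc_g_Cert_tree lc_g_rc_21_3 lc_g_Cert_tree lc_g_rc_21_2 lc_g_rc_21_3 lc_g_Cert_tree lc_g_rc_21_2 lc_g_rc_21_2 lc_g_rc_21_3 lc_g_rc_23_3 lc_g_rc_21_2 lc_g_rc_21_3 lc_g_rc_26_9 lc_g_rc_24_7 lc_g_Cert_tree lc_g_rc_23_3 lc_g_rc_26_6) (@D3.rec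 (fun _ => (Cert rels S Gen.g)) lc_g_rc_27_3 lc_g_Cert_tree lc_g_rc_21_3 lc_g_Cert_tree lc_g_Cert_tree lc_g_rc_21_2 lc_g_Cert_tree lc_g_Cert_tree lc_g_rc_21_2 lc_g_rc_27_3 lc_g_rc_27_9 lc_g_Cert_tree lc_g_Cert_tree lc_g_rc_23_3 lc_g_rc_27_6 lc_g_rc_24_9 lc_g_rc_27_6 lc_g_rc_27_3 lc_g_rc_21_3 lc_g_rc_23_9 lc_g_rc_27_6 lc_g_rc_27_6 lc_g_rc_24_7 lc_g_rc_26_6 lc_g_rc_23_3 lc_g_rc_21_2 lc_g_rc_21_3 lc_g_Cert_tree lc_g_rc_21_2 lc_g_rc_21_3 lc_g_Cert_tree lc_g_rc_26_0 lc_g_rc_26_3 lc_g_Cert_tree lc_g_rc_26_3 lc_g_rc_27_6 lc_g_Cert_tree lc_g_rc_21_2 lc_g_rc_26_3 lc_g_Cert_tree lc_g_rc_24_3 lc_g_rc_27_6 lc_g_rc_26_9 lc_g_rc_23_3 lc_g_rc_21_2 lc_g_rc_24_3 lc_g_rc_21_3 lc_g_Cert_tree lc_g_Cert_tree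 lc_g_rc_24_7 lc_g_rc_21_3 lc_g_Cert_tree lc_g_rc_27_3 lc_g_rc_21_3 lc_g_Cert_tree lc_g_rc_21_2 lc_g_rc_27_6 lc_g_rc_21_3 lc_g_rc_27_0 lc_g_rc_21_2 lc_g_Cert_tree lc_g_Cert_tree) (@D3.rec (fun _ => (Cert rels S Gen.g)) lc_g_rc_23_1 lc_g_rc_24_7 lc_g_rc_26_6 lc_g_rc_23_7 lc_g_rc_26_3 lc_g_rc_21_3 lc_g_Cert_tree lc_g_rc_21_2 lc_g_rc_24_3 lc_g_rc_21_3 lc_g_Cert_tree lc_g_rc_26_6 lc_g_rc_21_3 lc_g_Cert_tree lc_g_rc_21_2 lc_g_rc_27_3 lc_g_rc_21_3 lc_g_rc_21_2 lc_g_rc_21_3 lc_g_rc_26_3 lc_g_rc_21_3 lc_g_rc_23_9 lc_g_rc_23_1 lc_g_Cert_tree lc_g_rc_21_2 lc_g_rc_24_7 lc_g_rc_24_3 lc_g_rc_27_6 lc_g_rc_21_2 lc_g_rc_27_3 lc_g_rc_21_2 lc_g_rc_27_6 lc_g_rc_21_3 lc_g_Cert_tree lc_g_rc_24_9 lc_g_rc_26_6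 lc_g_rc_27_0 lc_g_Cert_tree lc_g_rc_24_9 lc_g_rc_21_2 lc_g_rc_24_3 lc_g_rc_21_3 lc_g_rc_27_6 lc_g_Cert_tree lc_g_rc_21_2 lc_g_Cert_tree lc_g_rc_24_3 lc_g_rc_21_2 lc_g_rc_25_3 lc_g_rc_23_3 lc_g_Cert_tree lc_g_rc_27_3 lc_g_Cert_tree lc_g_rc_23_3 lc_g_rc_24_3 lc_g_Cert_tree lc_g_rc_26_3 lc_g_rc_23_1 lc_g_rc_27_3 lc_g_rc_21_3 lc_g_rc_27_0 lc_g_rc_21_2) (@D3.rec (fun _ => (Cert rels S Gen.g)) lc_g_rc_24_3 lc_g_rc_21_2 lc_g_rc_24_3 lc_g_rc_21_3 lc_g_rc_23_7 lc_g_rc_26_3 lc_g_rc_21_3 lc_g_Cert_tree lc_g_rc_21_2 lc_g_Cert_tree lc_g_rc_21_2 lc_g_rc_21_3 lc_g_Cert_tree lc_g_rc_21_2 lc_g_Cert_tree lc_g_rc_25_7 lc_g_rc_23_1 lc_g_Cert_tree lc_g_Cert_tree lc_g_rc_21_3 lc_g_Cert_tree lc_g_rc_27_3 lc_g_rc_23_9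 lc_g_rc_24_7 lc_g_rc_27_0 lc_g_rc_23_9 lc_g_rc_26_6 lc_g_rc_21_2 lc_g_rc_21_2 lc_g_rc_26_3 lc_g_rc_21_3 lc_g_rc_24_3 lc_g_rc_21_3 lc_g_Cert_tree lc_g_rc_23_3 lc_g_rc_26_3 lc_g_rc_27_0 lc_g_Cert_tree lc_g_rc_26_6 lc_g_rc_24_1 lc_g_rc_23_1 lc_g_rc_27_3 lc_g_rc_21_2 lc_g_rc_21_3 lc_g_Cert_tree lc_g_rc_26_6 lc_g_rc_25_15 lc_g_rc_26_3 lc_g_rc_23_3 lc_g_rc_21_2 lc_g_rc_21_3 lc_g_rc_23_3 lc_g_rc_23_7 lc_g_Cert_tree lc_g_rc_21_2 lc_g_rc_26_3 lc_g_rc_21_3 lc_g_rc_26_0 lc_g_rc_26_9 lc_g_rc_27_9 lc_g_rc_26_3 lc_g_rc_27_3) (@D3.rec (fun _ => (Cert rels S Gen.g)) lc_g_rc_23_1 lc_g_rc_26_3 lc_g_rc_27_0 lc_g_rc_27_0 lc_g_rc_23_9 lc_g_rc_21_3 lc_g_rc_27_0 lc_g_rc_24_1 lc_g_rc_27_0 lc_g_Cert_tree lc_g_rc_26_6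 lc_g_Cert_tree lc_g_rc_21_2 lc_g_rc_21_3 lc_g_Cert_tree lc_g_rc_21_2 lc_g_rc_27_6 lc_g_rc_27_6 lc_g_rc_21_2 lc_g_rc_23_7 lc_g_rc_24_1 lc_g_rc_27_9 lc_g_rc_27_9 lc_g_rc_24_1 lc_g_rc_23_3 lc_g_rc_21_3 lc_g_rc_25_3 lc_g_rc_23_3 lc_g_rc_26_3 lc_g_rc_24_1 lc_g_rc_26_0 lc_g_rc_23_1 lc_g_rc_27_3 lc_g_rc_24_3 lc_g_Cert_tree lc_g_rc_23_9 lc_g_rc_21_3 lc_g_Cert_tree lc_g_rc_21_2 lc_g_rc_27_6 lc_g_rc_27_3 lc_g_rc_24_7 lc_g_rc_26_6 lc_g_rc_23_7 lc_g_Cert_tree lc_g_rc_21_3 lc_g_rc_23_3 lc_g_rc_21_3 lc_g_rc_26_6 lc_g_rc_23_3 lc_g_rc_21_2 lc_g_Cert_tree lc_g_rc_27_3 lc_g_rc_21_2 lc_g_rc_21_2 lc_g_rc_26_3 lc_g_Cert_tree lc_g_rc_26_6 lc_g_rc_21_3 lc_g_Cert_tree lc_g_rc_23_3 lc_g_Cert_tree) (@D3.rec (fun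 _ => (Cert rels S Gen.g)) lc_g_rc_23_7 lc_g_rc_26_9 lc_g_rc_23_7 lc_g_rc_26_3 lc_g_rc_27_0 lc_g_Cert_tree lc_g_Cert_tree lc_g_rc_21_3 lc_g_Cert_tree lc_g_rc_26_0 lc_g_rc_26_9 lc_g_rc_27_0 lc_g_rc_27_9 lc_g_rc_21_2 lc_g_Cert_tree lc_g_rc_21_2 lc_g_rc_26_3 lc_g_Cert_tree lc_g_rc_21_3 lc_g_rc_26_6 lc_g_rc_21_3 lc_g_rc_26_9 lc_g_rc_24_1 lc_g_rc_26_3 lc_g_Cert_tree lc_g_rc_26_3 lc_g_Cert_tree lc_g_rc_21_3 lc_g_Cert_tree lc_g_rc_21_3 lc_g_Cert_tree lc_g_rc_23_9 lc_g_Cert_tree lc_g_Cert_tree lc_g_rc_21_2 lc_g_rc_21_3 lc_g_Cert_tree lc_g_rc_21_3 lc_g_Cert_tree lc_g_rc_26_6 lc_g_Cert_tree lc_g_rc_21_2 lc_g_Cert_tree lc_g_rc_27_6 lc_g_rc_27_9 lc_g_rc_26_0 lc_g_rc_27_6 lc_g_rc_25_7 lc_g_rc_27_6 lc_g_rc_27_0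 lc_g_Cert_tree lc_g_rc_21_2 lc_g_rc_26_3 lc_g_rc_24_3 lc_g_rc_21_2 lc_g_rc_23_9 lc_g_Cert_tree lc_g_rc_23_7 lc_g_rc_24_3 lc_g_rc_26_3 lc_g_rc_23_3 lc_g_rc_27_6) (@D3.rec (fun _ => (Cert rels S Gen.g)) lc_g_rc_21_3 lc_g_Cert_tree lc_g_rc_21_2 lc_g_rc_26_6 lc_g_Cert_tree lc_g_rc_23_3 lc_g_Cert_tree lc_g_rc_26_3 lc_g_Cert_tree lc_g_rc_26_3 lc_g_rc_26_3 lc_g_rc_24_7 lc_g_rc_26_3 lc_g_Cert_tree lc_g_rc_21_3 lc_g_Cert_tree lc_g_rc_26_3 lc_g_rc_21_3 lc_g_Cert_tree lc_g_rc_21_2 lc_g_Cert_tree lc_g_Cert_tree lc_g_Cert_tree lc_g_rc_26_9 lc_g_Cert_tree lc_g_rc_23_9 lc_g_Cert_tree lc_g_rc_21_2 lc_g_Cert_tree lc_g_rc_21_2 lc_g_rc_21_3 lc_g_Cert_tree lc_g_rc_21_2 lc_g_rc_26_6 lc_g_Cert_tree lc_g_rc_24_3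 lc_g_Cert_tree lc_g_Cert_tree lc_g_rc_21_3 lc_g_Cert_tree lc_g_rc_27_3 lc_g_rc_21_2 lc_g_rc_26_3 lc_g_rc_27_9 lc_g_rc_23_9 lc_g_rc_21_3 lc_g_Cert_tree lc_g_rc_21_2 lc_g_rc_21_3 lc_g_Cert_tree lc_g_rc_21_2 lc_g_rc_26_9 lc_g_Cert_tree lc_g_Cert_tree lc_g_rc_21_3 lc_g_Cert_tree lc_g_rc_23_3 lc_g_rc_21_2 lc_g_rc_21_3 lc_g_rc_21_3 lc_g_Cert_tree lc_g_rc_21_2) (@D3.rec (fun _ => (Cert rels S Gen.g)) lc_g_Cert_tree lc_g_rc_21_2 lc_g_Cert_tree lc_g_rc_27_3 lc_g_rc_21_2 lc_g_Cert_tree lc_g_rc_23_7 lc_g_rc_26_9 lc_g_rc_21_2 lc_g_rc_21_2 lc_g_rc_23_7 lc_g_Cert_tree lc_g_rc_21_2 lc_g_rc_21_2 lc_g_rc_24_1 lc_g_rc_23_7 lc_g_rc_21_3 lc_g_Cert_tree lc_g_rc_26_3 lc_g_Cert_tree lc_g_rc_23_7 lc_g_Cert_tree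 lc_g_rc_21_2 lc_g_Cert_tree lc_g_Cert_tree lc_g_Cert_tree lc_g_Cert_tree lc_g_rc_21_3 lc_g_Cert_tree lc_g_rc_21_2 lc_g_Cert_tree lc_g_Cert_tree lc_g_Cert_tree lc_g_rc_26_3 lc_g_rc_27_6 lc_g_rc_27_3 lc_g_rc_27_6 lc_g_rc_27_3 lc_g_rc_21_3 lc_g_Cert_tree lc_g_rc_21_2 lc_g_rc_24_9 lc_g_Cert_tree lc_g_rc_21_2 lc_g_rc_24_7 lc_g_Cert_tree lc_g_Cert_tree lc_g_rc_27_6 lc_g_rc_21_3 lc_g_Cert_tree lc_g_rc_21_2 lc_g_rc_21_2 lc_g_rc_21_3 lc_g_Cert_tree lc_g_Cert_tree lc_g_rc_26_9 lc_g_rc_24_1 lc_g_rc_21_2 lc_g_rc_27_0 lc_g_rc_24_9 lc_g_rc_27_6 lc_g_Cert_tree) (@D3.rec (fun _ => (Cert rels S Gen.g)) lc_g_rc_27_3 lc_g_rc_21_2 lc_g_rc_21_3 lc_g_rc_24_7 lc_g_rc_27_9 lc_g_rc_23_1 lc_g_rc_23_9 lc_g_rc_27_0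 lc_g_rc_26_3 lc_g_rc_27_9 lc_g_rc_21_2 lc_g_rc_27_9 lc_g_rc_26_9 lc_g_rc_27_6 lc_g_Cert_tree lc_g_Cert_tree lc_g_rc_26_0 lc_g_Cert_tree lc_g_Cert_tree lc_g_rc_23_3 lc_g_rc_21_2 lc_g_rc_27_6 lc_g_rc_21_3 lc_g_rc_21_2 lc_g_rc_21_3 lc_g_Cert_tree lc_g_rc_26_9 lc_g_rc_26_9 lc_g_Cert_tree lc_g_rc_26_6 lc_g_Cert_tree lc_g_rc_27_9 lc_g_rc_21_2 lc_g_rc_21_3 lc_g_Cert_tree lc_g_rc_27_0 lc_g_Cert_tree lc_g_rc_26_3 lc_g_rc_27_0 lc_g_rc_27_0 lc_g_rc_23_3 lc_g_rc_27_9 lc_g_Cert_tree lc_g_Cert_tree lc_g_Cert_tree lc_g_Cert_tree lc_g_rc_21_2 lc_g_rc_27_3 lc_g_rc_21_2 lc_g_Cert_tree lc_g_rc_23_1 lc_g_rc_26_6 lc_g_rc_21_2 lc_g_rc_25_7 lc_g_rc_21_3 lc_g_rc_24_7 lc_g_rc_24_9 lc_g_rc_24_9 lc_g_rc_21_3 lc_g_rc_21_2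 lc_g_rc_24_7 lc_g_Cert_tree) (@D3.rec (fun _ => (Cert rels S Gen.g)) lc_g_rc_21_3 lc_g_Cert_tree lc_g_rc_21_2 lc_g_Cert_tree lc_g_Cert_tree lc_g_rc_21_3 lc_g_rc_21_3 lc_g_Cert_tree lc_g_rc_21_2 lc_g_rc_21_2 lc_g_rc_26_6 lc_g_Cert_tree lc_g_rc_21_3 lc_g_Cert_tree lc_g_rc_27_9 lc_g_rc_21_2 lc_g_rc_21_3 lc_g_rc_24_7 lc_g_rc_27_0 lc_g_rc_21_3 lc_g_Cert_tree lc_g_rc_21_2 lc_g_Cert_tree lc_g_Cert_tree lc_g_rc_27_0 lc_g_Cert_tree lc_g_rc_24_9 lc_g_rc_21_2 lc_g_rc_27_6 lc_g_rc_21_3 lc_g_Cert_tree lc_g_rc_21_2 lc_g_Cert_tree lc_g_rc_21_3 lc_g_Cert_tree lc_g_rc_26_9 lc_g_Cert_tree lc_g_rc_26_6 lc_g_rc_23_7 lc_g_rc_21_2 lc_g_rc_21_2 lc_g_rc_23_7 lc_g_rc_21_3 lc_g_rc_26_9 lc_g_Cert_tree lc_g_rc_21_3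 lc_g_rc_25_7 lc_g_rc_24_3 lc_g_rc_27_0 lc_g_rc_21_2 lc_g_Cert_tree lc_g_rc_26_0 lc_g_Cert_tree lc_g_rc_23_1 lc_g_Cert_tree lc_g_Cert_tree lc_g_rc_26_3 lc_g_rc_21_3 lc_g_Cert_tree lc_g_rc_21_2 lc_g_Cert_tree lc_g_rc_21_2) (@D3.rec (fun _ => (Cert rels S Gen.g)) lc_g_rc_21_2 lc_g_rc_26_3 lc_g_rc_21_2 lc_g_rc_21_3 lc_g_rc_27_0 lc_g_rc_21_3 lc_g_Cert_tree lc_g_rc_21_2 lc_g_Cert_tree lc_g_Cert_tree lc_g_Cert_tree lc_g_rc_27_3 lc_g_Cert_tree lc_g_Cert_tree lc_g_rc_21_2 lc_g_Cert_tree lc_g_rc_26_6 lc_g_rc_27_3 lc_g_rc_21_2 lc_g_Cert_tree lc_g_rc_21_3 lc_g_Cert_tree lc_g_rc_21_2 lc_g_rc_26_6 lc_g_Cert_tree lc_g_rc_23_3 lc_g_rc_26_3 lc_g_rc_21_3 lc_g_Cert_tree lc_g_rc_21_2 lc_g_rc_23_3 lc_g_Cert_tree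 lc_g_rc_21_3 lc_g_Cert_tree lc_g_rc_21_2 lc_g_rc_21_2 lc_g_rc_27_0 lc_g_rc_27_6 lc_g_rc_21_3 lc_g_Cert_tree lc_g_rc_21_2 lc_g_rc_21_2 lc_g_rc_26_6 lc_g_rc_21_2 lc_g_rc_24_9 lc_g_rc_21_2 lc_g_rc_21_3 lc_g_Cert_tree lc_g_rc_21_2 lc_g_rc_23_7 lc_g_rc_26_6 lc_g_rc_27_3 lc_g_rc_21_2 lc_g_rc_21_2 lc_g_rc_23_3 lc_g_rc_26_6 lc_g_rc_21_2 lc_g_Cert_tree lc_g_Cert_tree lc_g_rc_24_9 lc_g_rc_21_3 lc_g_rc_21_3) (@D3.rec (fun _ => (Cert rels S Gen.g)) lc_g_Cert_tree lc_g_Cert_tree lc_g_rc_26_6 lc_g_Cert_tree lc_g_rc_26_6 lc_g_Cert_tree lc_g_rc_21_2 lc_g_rc_27_3 lc_g_Cert_tree lc_g_Cert_tree lc_g_rc_21_3 lc_g_Cert_tree lc_g_rc_21_2 lc_g_rc_21_2 lc_g_rc_21_2 lc_g_rc_23_3 lc_g_rc_26_3 lc_g_Cert_tree lc_g_rc_21_2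 lc_g_rc_26_6 lc_g_rc_26_3 lc_g_Cert_tree lc_g_rc_21_2 lc_g_Cert_tree lc_g_rc_21_3 lc_g_Cert_tree lc_g_rc_21_2 lc_g_rc_21_2 lc_g_rc_26_6 lc_g_rc_23_1 lc_g_rc_21_3 lc_g_Cert_tree lc_g_rc_21_2 lc_g_rc_21_2 lc_g_rc_24_7 lc_g_rc_27_0 lc_g_rc_21_3 lc_g_Cert_tree lc_g_rc_21_2 lc_g_Cert_tree lc_g_rc_21_2 lc_g_rc_27_6 lc_g_rc_27_3 lc_g_rc_26_3 lc_g_rc_26_9 lc_g_Cert_tree lc_g_rc_21_3 lc_g_Cert_tree lc_g_rc_26_3 lc_g_rc_23_7 lc_g_rc_21_3 lc_g_rc_21_2 lc_g_rc_24_7 lc_g_Cert_tree lc_g_Cert_tree lc_g_rc_26_3 lc_g_rc_23_1 lc_g_rc_27_9 lc_g_rc_26_6 lc_g_Cert_tree lc_g_rc_21_2 lc_g_rc_26_6) (@D3.rec (fun _ => (Cert rels S Gen.g)) lc_g_Cert_tree lc_g_rc_24_9 lc_g_rc_27_6 lc_g_Cert_tree lc_g_rc_26_3 lc_g_rc_21_2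 lc_g_rc_26_3 lc_g_rc_27_0 lc_g_rc_21_3 lc_g_Cert_tree lc_g_rc_21_2 lc_g_rc_21_2 lc_g_Cert_tree lc_g_Cert_tree lc_g_rc_27_3 lc_g_rc_21_2 lc_g_rc_21_3 lc_g_Cert_tree lc_g_rc_21_2 lc_g_Cert_tree lc_g_rc_24_1 lc_g_rc_21_2 lc_g_rc_23_3 lc_g_rc_26_6 lc_g_rc_26_3 lc_g_Cert_tree lc_g_rc_23_3 lc_g_rc_23_7 lc_g_Cert_tree lc_g_rc_21_3 lc_g_Cert_tree lc_g_rc_27_3 lc_g_rc_21_2 lc_g_rc_21_3 lc_g_Cert_tree lc_g_Cert_tree lc_g_Cert_tree lc_g_rc_26_3 lc_g_rc_27_0 lc_g_rc_21_3 lc_g_rc_27_6 lc_g_Cert_tree lc_g_rc_21_2 lc_g_Cert_tree lc_g_rc_21_3 lc_g_Cert_tree lc_g_rc_21_2 lc_g_Cert_tree lc_g_Cert_tree lc_g_Cert_tree lc_g_Cert_tree lc_g_rc_23_7 lc_g_rc_21_2 lc_g_rc_27_0 lc_g_rc_24_9 lc_g_rc_21_3 lc_g_Cert_tree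 lc_g_rc_21_2 lc_g_rc_21_3 lc_g_Cert_tree lc_g_rc_26_9 lc_g_rc_26_6) (@D3.rec (fun _ => (Cert rels S Gen.g)) lc_g_rc_23_3 lc_g_rc_21_2 lc_g_rc_26_6 lc_g_rc_27_9 lc_g_rc_27_0 lc_g_rc_26_6 lc_g_Cert_tree lc_g_rc_21_3 lc_g_rc_21_3 lc_g_rc_23_3 lc_g_rc_21_3 lc_g_Cert_tree lc_g_rc_21_2 lc_g_rc_21_3 lc_g_rc_26_3 lc_g_rc_27_6 lc_g_Cert_tree lc_g_rc_26_6 lc_g_rc_21_3 lc_g_Cert_tree lc_g_rc_21_2 lc_g_Cert_tree lc_g_rc_26_3 lc_g_rc_21_3 lc_g_Cert_tree lc_g_rc_21_2 lc_g_rc_21_3 lc_g_Cert_tree lc_g_rc_21_3 lc_g_rc_26_3 lc_g_rc_21_3 lc_g_Cert_tree lc_g_Cert_tree lc_g_rc_21_2 lc_g_rc_21_3 lc_g_rc_27_6 lc_g_rc_23_1 lc_g_Cert_tree lc_g_rc_21_3 lc_g_Cert_tree lc_g_rc_23_1 lc_g_Cert_tree lc_g_rc_21_3 lc_g_Cert_tree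 lc_g_rc_26_6 lc_g_rc_26_3 lc_g_rc_21_3 lc_g_rc_27_6 lc_g_rc_26_6 lc_g_rc_27_3 lc_g_rc_21_3 lc_g_Cert_tree lc_g_Cert_tree lc_g_rc_21_2 lc_g_Cert_tree lc_g_rc_23_7 lc_g_rc_26_6 lc_g_rc_27_3 lc_g_rc_24_3 lc_g_rc_21_3 lc_g_Cert_tree lc_g_Cert_tree) (@D3.rec (fun _ => (Cert rels S Gen.g)) lc_g_rc_21_2 lc_g_rc_24_9 lc_g_rc_21_2 lc_g_rc_27_3 lc_g_rc_24_7 lc_g_rc_27_0 lc_g_rc_23_3 lc_g_rc_26_3 lc_g_rc_26_9 lc_g_rc_27_0 lc_g_rc_21_3 lc_g_Cert_tree lc_g_Cert_tree lc_g_Cert_tree lc_g_rc_21_2 lc_g_rc_26_6 lc_g_rc_23_3 lc_g_rc_21_2 lc_g_rc_21_3 lc_g_Cert_tree lc_g_rc_26_3 lc_g_rc_27_0 lc_g_rc_26_6 lc_g_rc_26_3 lc_g_rc_21_2 lc_g_rc_26_6 lc_g_rc_26_3 lc_g_rc_27_3 lc_g_Cert_tree lc_g_rc_21_2 lc_g_rc_21_3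 lc_g_Cert_tree lc_g_rc_23_3 lc_g_rc_24_3 lc_g_Cert_tree lc_g_rc_27_6 lc_g_rc_21_3 lc_g_Cert_tree lc_g_rc_21_2 lc_g_rc_24_9 lc_g_rc_26_6 lc_g_rc_23_3 lc_g_rc_26_3 lc_g_rc_21_3 lc_g_Cert_tree lc_g_rc_21_2 lc_g_rc_21_3 lc_g_Cert_tree lc_g_rc_21_2 lc_g_rc_24_1 lc_g_rc_27_6 lc_g_Cert_tree lc_g_rc_26_3 lc_g_rc_21_2 lc_g_Cert_tree lc_g_rc_21_2 lc_g_rc_26_3 lc_g_rc_27_9 lc_g_rc_27_3 lc_g_Cert_tree lc_g_rc_27_9 lc_g_rc_21_3) (@D3.rec (fun _ => (Cert rels S Gen.g)) lc_g_rc_27_0 lc_g_rc_21_2 lc_g_rc_26_6 lc_g_rc_21_3 lc_g_Cert_tree lc_g_Cert_tree lc_g_rc_26_6 lc_g_rc_21_3 lc_g_Cert_tree lc_g_rc_23_7 lc_g_rc_24_9 lc_g_rc_21_2 lc_g_rc_24_1 lc_g_rc_21_2 lc_g_rc_26_6 lc_g_Cert_tree lc_g_rc_24_3 lc_g_rc_27_6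 lc_g_rc_21_2 lc_g_rc_21_3 lc_g_Cert_tree lc_g_rc_21_2 lc_g_rc_24_1 lc_g_rc_21_3 lc_g_Cert_tree lc_g_rc_27_6 lc_g_rc_21_2 lc_g_rc_24_7 lc_g_rc_23_1 lc_g_rc_21_3 lc_g_Cert_tree lc_g_Cert_tree lc_g_Cert_tree lc_g_rc_21_2 lc_g_rc_21_3 lc_g_Cert_tree lc_g_rc_21_2 lc_g_rc_26_6 lc_g_Cert_tree lc_g_rc_21_3 lc_g_Cert_tree lc_g_rc_21_2 lc_g_Cert_tree lc_g_Cert_tree lc_g_rc_27_6 lc_g_Cert_tree lc_g_rc_27_3 lc_g_rc_27_0 lc_g_rc_21_3 lc_g_Cert_tree lc_g_rc_21_2 lc_g_rc_21_3 lc_g_Cert_tree lc_g_rc_21_2 lc_g_rc_21_3 lc_g_rc_26_9 lc_g_rc_23_1 lc_g_Cert_tree lc_g_rc_21_3 lc_g_rc_21_3 lc_g_rc_25_19 lc_g_rc_21_3) (@D3.rec (fun _ => (Cert rels S Gen.g)) lc_g_Cert_tree lc_g_Cert_tree lc_g_Cert_tree lc_g_rc_21_3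 lc_g_Cert_tree lc_g_Cert_tree lc_g_rc_21_2 lc_g_rc_24_7 lc_g_rc_26_6 lc_g_rc_21_3 lc_g_Cert_tree lc_g_Cert_tree lc_g_rc_21_2 lc_g_Cert_tree lc_g_rc_23_7 lc_g_rc_26_6 lc_g_rc_23_7 lc_g_rc_27_0 lc_g_rc_23_7 lc_g_Cert_tree lc_g_Cert_tree lc_g_rc_21_2 lc_g_rc_27_6 lc_g_rc_23_7 lc_g_rc_23_9 lc_g_rc_27_6 lc_g_Cert_tree lc_g_rc_27_6 lc_g_Cert_tree lc_g_rc_21_2 lc_g_rc_21_3 lc_g_Cert_tree lc_g_rc_21_2 lc_g_rc_26_3 lc_g_rc_24_3 lc_g_Cert_tree lc_g_rc_23_3 lc_g_rc_24_7 lc_g_rc_27_0 lc_g_Cert_tree lc_g_rc_24_7 lc_g_rc_21_2 lc_g_rc_24_3 lc_g_rc_25_7 lc_g_rc_21_2 lc_g_rc_27_3 lc_g_rc_25_19 lc_g_rc_26_6 lc_g_rc_23_3 lc_g_rc_21_3 lc_g_Cert_tree lc_g_Cert_tree lc_g_rc_27_3 lc_g_rc_21_3 lc_g_rc_23_3 lc_g_rc_21_3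 lc_g_Cert_tree lc_g_rc_21_2 lc_g_rc_26_6 lc_g_rc_27_6 lc_g_rc_27_3 lc_g_rc_24_3) (@D3.rec (fun _ => (Cert rels S Gen.g)) lc_g_rc_23_3 lc_g_rc_27_9 lc_g_Cert_tree lc_g_rc_21_3 lc_g_rc_23_9 lc_g_Cert_tree lc_g_rc_27_9 lc_g_rc_23_3 lc_g_rc_27_0 lc_g_rc_21_3 lc_g_Cert_tree lc_g_rc_26_6 lc_g_rc_24_3 lc_g_rc_26_9 lc_g_rc_26_6 lc_g_rc_21_2 lc_g_Cert_tree lc_g_rc_21_3 lc_g_rc_21_2 lc_g_rc_21_2 lc_g_rc_21_2 lc_g_rc_23_3 lc_g_Cert_tree lc_g_rc_21_3 lc_g_Cert_tree lc_g_rc_24_3 lc_g_rc_26_6 lc_g_rc_21_3 lc_g_Cert_tree lc_g_rc_27_6 lc_g_rc_21_3 lc_g_Cert_tree lc_g_Cert_tree lc_g_rc_21_2 lc_g_rc_21_3 lc_g_rc_21_2 lc_g_rc_24_3 lc_g_rc_21_3 lc_g_rc_21_3 lc_g_Cert_tree lc_g_rc_27_0 lc_g_rc_21_2 lc_g_rc_23_3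 lc_g_Cert_tree lc_g_Cert_tree lc_g_rc_21_2 lc_g_rc_26_6 lc_g_rc_23_7 lc_g_rc_23_7 lc_g_rc_27_3 lc_g_rc_23_1 lc_g_rc_23_7 lc_g_rc_24_1 lc_g_rc_23_9 lc_g_rc_21_2 lc_g_rc_21_3 lc_g_Cert_tree lc_g_Cert_tree lc_g_rc_21_3 lc_g_rc_21_3 lc_g_Cert_tree lc_g_Cert_tree) (@D3.rec (fun _ => (Cert rels S Gen.g)) lc_g_rc_21_2 lc_g_rc_21_3 lc_g_Cert_tree lc_g_rc_27_3 lc_g_rc_21_2 lc_g_rc_27_9 lc_g_Cert_tree lc_g_rc_23_9 lc_g_rc_21_2 lc_g_rc_21_2 lc_g_rc_21_2 lc_g_rc_25_19 lc_g_rc_27_0 lc_g_Cert_tree lc_g_rc_25_11 lc_g_rc_21_2 lc_g_Cert_tree lc_g_Cert_tree lc_g_Cert_tree lc_g_rc_27_6 lc_g_rc_21_3 lc_g_Cert_tree lc_g_rc_21_3 lc_g_rc_21_2 lc_g_rc_21_3 lc_g_Cert_tree lc_g_rc_21_2 lc_g_rc_24_1 lc_g_rc_21_3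 lc_g_Cert_tree lc_g_rc_27_6 lc_g_rc_24_3 lc_g_Cert_tree lc_g_rc_24_1 lc_g_rc_23_3 lc_g_rc_27_6 lc_g_rc_21_3 lc_g_Cert_tree lc_g_Cert_tree lc_g_rc_24_7 lc_g_Cert_tree lc_g_rc_21_3 lc_g_Cert_tree lc_g_rc_21_3 lc_g_rc_23_9 lc_g_Cert_tree lc_g_rc_21_3 lc_g_Cert_tree lc_g_Cert_tree lc_g_rc_21_2 lc_g_rc_21_2 lc_g_rc_24_3 lc_g_Cert_tree lc_g_rc_24_3 lc_g_rc_24_1 lc_g_rc_23_1 lc_g_rc_21_3 lc_g_Cert_tree lc_g_rc_21_2 lc_g_rc_24_1 lc_g_rc_24_9 lc_g_Cert_tree) (@D3.rec (fun _ => (Cert rels S Gen.g)) lc_g_rc_27_6 lc_g_rc_24_3 lc_g_rc_24_7 lc_g_rc_21_3 lc_g_rc_21_2 lc_g_Cert_tree lc_g_Cert_tree lc_g_rc_27_6 lc_g_rc_21_3 lc_g_rc_21_3 lc_g_rc_24_3 lc_g_rc_23_1 lc_g_rc_27_3 lc_g_rc_24_9 lc_g_rc_26_0 lc_g_Cert_tree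 lc_g_rc_23_1 lc_g_rc_27_0 lc_g_Cert_tree lc_g_rc_26_3 lc_g_rc_27_9 lc_g_rc_27_6 lc_g_rc_23_1 lc_g_rc_21_2 lc_g_rc_24_7 lc_g_rc_21_2 lc_g_rc_21_3 lc_g_Cert_tree lc_g_rc_21_2 lc_g_rc_21_3 lc_g_Cert_tree lc_g_Cert_tree lc_g_rc_21_3 lc_g_rc_27_9 lc_g_rc_27_6 lc_g_rc_21_3 lc_g_Cert_tree lc_g_rc_26_6 lc_g_rc_26_3 lc_g_Cert_tree lc_g_rc_21_3 lc_g_Cert_tree lc_g_Cert_tree lc_g_rc_21_2 lc_g_rc_26_3 lc_g_rc_23_1 lc_g_rc_27_0 lc_g_rc_26_6 lc_g_rc_23_3 lc_g_rc_26_9 lc_g_rc_21_2 lc_g_Cert_tree lc_g_rc_21_2 lc_g_rc_21_3 lc_g_Cert_tree lc_g_rc_21_2 lc_g_Cert_tree lc_g_Cert_tree lc_g_rc_21_3 lc_g_rc_24_7 lc_g_rc_21_3 lc_g_rc_27_0) (@D3.rec (fun _ => (Cert rels S Gen.g)) lc_g_Cert_tree lc_g_rc_23_1 lc_g_rc_26_6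 lc_g_rc_26_0 lc_g_Cert_tree lc_g_rc_21_3 lc_g_Cert_tree lc_g_Cert_tree lc_g_rc_21_2 lc_g_rc_23_1 lc_g_rc_27_9 lc_g_rc_27_9 lc_g_rc_21_3 lc_g_Cert_tree lc_g_rc_21_2 lc_g_Cert_tree lc_g_rc_21_3 lc_g_rc_27_6 lc_g_Cert_tree lc_g_rc_23_3 lc_g_rc_21_2 lc_g_rc_21_3 lc_g_Cert_tree lc_g_rc_21_2 lc_g_rc_26_3 lc_g_Cert_tree lc_g_Cert_tree lc_g_Cert_tree lc_g_rc_21_2 lc_g_rc_21_3 lc_g_Cert_tree lc_g_rc_21_2 lc_g_Cert_tree lc_g_rc_26_6 lc_g_Cert_tree lc_g_Cert_tree lc_g_Cert_tree lc_g_rc_21_2 lc_g_rc_26_0 lc_g_rc_24_1 lc_g_rc_26_6 lc_g_Cert_tree lc_g_rc_26_6 lc_g_rc_25_19 lc_g_rc_21_2 lc_g_rc_24_9 lc_g_rc_21_3 lc_g_Cert_tree lc_g_Cert_tree lc_g_rc_21_2 lc_g_rc_26_6 lc_g_rc_26_6 lc_g_rc_27_9 lc_g_rc_26_0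 lc_g_rc_21_3 lc_g_rc_23_7 lc_g_rc_27_0 lc_g_rc_27_3 lc_g_Cert_tree lc_g_Cert_tree lc_g_rc_21_2 lc_g_rc_23_9) (@D3.rec (fun _ => (Cert rels S Gen.g)) lc_g_rc_26_0 lc_g_rc_21_3 lc_g_rc_21_3 lc_g_rc_21_3 lc_g_rc_24_3 lc_g_rc_26_9 lc_g_rc_26_3 lc_g_Cert_tree lc_g_rc_24_7 lc_g_Cert_tree lc_g_rc_24_7 lc_g_rc_23_3 lc_g_Cert_tree lc_g_rc_24_1 lc_g_Cert_tree lc_g_rc_21_3 lc_g_rc_27_3 lc_g_rc_21_2 lc_g_rc_27_3 lc_g_rc_21_3 lc_g_Cert_tree lc_g_rc_21_2 lc_g_Cert_tree lc_g_rc_27_6 lc_g_rc_21_2 lc_g_rc_21_2 lc_g_rc_21_2 lc_g_rc_21_3 lc_g_Cert_tree lc_g_rc_21_2 lc_g_rc_26_6 lc_g_rc_26_6 lc_g_rc_21_3 lc_g_Cert_tree lc_g_rc_21_2 lc_g_rc_26_0 lc_g_rc_27_0 lc_g_rc_21_3 lc_g_rc_21_2 lc_g_rc_23_1 lc_g_rc_21_2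 lc_g_Cert_tree lc_g_rc_26_6 lc_g_rc_27_6 lc_g_Cert_tree lc_g_rc_27_0 lc_g_rc_21_2 lc_g_rc_26_3 lc_g_Cert_tree lc_g_Cert_tree lc_g_rc_27_6 lc_g_Cert_tree lc_g_rc_23_3 lc_g_rc_23_3 lc_g_Cert_tree lc_g_Cert_tree lc_g_rc_26_3 lc_g_Cert_tree lc_g_rc_27_9 lc_g_rc_23_1 lc_g_rc_27_0 lc_g_rc_23_1) (@D3.rec (fun _ => (Cert rels S Gen.g)) lc_g_rc_24_3 lc_g_rc_27_0 lc_g_rc_21_3 lc_g_Cert_tree lc_g_rc_27_6 lc_g_rc_23_7 lc_g_rc_21_2 lc_g_rc_21_3 lc_g_Cert_tree lc_g_rc_26_9 lc_g_rc_26_0 lc_g_rc_26_0 lc_g_rc_21_3 lc_g_rc_21_2 lc_g_rc_24_3 lc_g_rc_26_3 lc_g_rc_27_6 lc_g_Cert_tree lc_g_Cert_tree lc_g_rc_27_0 lc_g_rc_21_3 lc_g_rc_21_2 lc_g_rc_26_9 lc_g_rc_26_9 lc_g_rc_27_6 lc_g_rc_23_1 lc_g_rc_21_3 lc_g_Cert_tree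 lc_g_rc_21_2 lc_g_rc_23_7 lc_g_rc_26_6 lc_g_Cert_tree lc_g_rc_21_3 lc_g_Cert_tree lc_g_rc_27_3 lc_g_rc_21_2 lc_g_rc_24_3 lc_g_rc_23_9 lc_g_rc_21_3 lc_g_Cert_tree lc_g_rc_21_2 lc_g_Cert_tree lc_g_Cert_tree lc_g_rc_21_3 lc_g_rc_21_2 lc_g_rc_25_19 lc_g_rc_27_0 lc_g_Cert_tree lc_g_rc_21_2 lc_g_rc_21_3 lc_g_Cert_tree lc_g_Cert_tree lc_g_rc_27_0 lc_g_rc_23_3 lc_g_rc_26_6 lc_g_Cert_tree lc_g_rc_23_1 lc_g_rc_27_6 lc_g_rc_21_3 lc_g_Cert_tree lc_g_rc_26_0 lc_g_rc_21_2) (@D3.rec (fun _ => (Cert rels S Gen.g)) lc_g_Cert_tree lc_g_rc_23_1 lc_g_rc_23_7 lc_g_rc_21_3 lc_g_rc_24_7 lc_g_rc_23_9 lc_g_rc_23_7 lc_g_rc_26_9 lc_g_rc_21_3 lc_g_Cert_tree lc_g_Cert_tree lc_g_rc_21_2 lc_g_rc_27_6 lc_g_rc_26_3 lc_g_rc_23_1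 lc_g_rc_27_3 lc_g_rc_26_3 lc_g_rc_23_9 lc_g_rc_21_3 lc_g_rc_27_9 lc_g_Cert_tree lc_g_Cert_tree lc_g_rc_27_6 lc_g_Cert_tree lc_g_rc_26_0 lc_g_rc_23_9 lc_g_rc_26_0 lc_g_rc_21_3 lc_g_rc_23_1 lc_g_rc_27_6 lc_g_Cert_tree lc_g_rc_21_2 lc_g_rc_21_2 lc_g_rc_21_3 lc_g_rc_27_3 lc_g_Cert_tree lc_g_rc_27_6 lc_g_Cert_tree lc_g_rc_21_3 lc_g_rc_21_2 lc_g_rc_21_2 lc_g_rc_27_6 lc_g_rc_21_3 lc_g_Cert_tree lc_g_rc_21_2 lc_g_rc_21_3 lc_g_Cert_tree lc_g_rc_21_2 lc_g_rc_24_7 lc_g_rc_21_2 lc_g_rc_23_1 lc_g_rc_23_9 lc_g_rc_26_6 lc_g_rc_26_6 lc_g_Cert_tree lc_g_rc_21_3 lc_g_rc_26_6 lc_g_rc_21_2 lc_g_rc_26_3 lc_g_rc_21_3 lc_g_Cert_tree lc_g_Cert_tree) (@D3.rec (fun _ => (Cert rels S Gen.g)) lc_g_rc_21_2 lc_g_rc_26_3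 lc_g_rc_21_3 lc_g_rc_25_3 lc_g_rc_21_3 lc_g_Cert_tree lc_g_Cert_tree lc_g_rc_21_2 lc_g_rc_21_2 lc_g_rc_27_3 lc_g_rc_23_9 lc_g_rc_26_6 lc_g_rc_27_3 lc_g_rc_21_3 lc_g_rc_26_6 lc_g_rc_26_0 lc_g_rc_24_3 lc_g_rc_27_3 lc_g_rc_27_0 lc_g_rc_26_0 lc_g_rc_26_0 lc_g_rc_21_3 lc_g_rc_21_3 lc_g_Cert_tree lc_g_rc_26_0 lc_g_rc_21_3 lc_g_Cert_tree lc_g_rc_23_7 lc_g_rc_21_3 lc_g_rc_26_0 lc_g_rc_26_6 lc_g_rc_23_1 lc_g_rc_23_3 lc_g_rc_26_3 lc_g_rc_23_3 lc_g_Cert_tree lc_g_rc_21_3 lc_g_rc_26_6 lc_g_rc_24_1 lc_g_rc_24_3 lc_g_rc_21_3 lc_g_Cert_tree lc_g_rc_21_2 lc_g_rc_26_6 lc_g_rc_26_6 lc_g_rc_23_3 lc_g_rc_21_2 lc_g_rc_27_6 lc_g_rc_25_3 lc_g_rc_24_1 lc_g_rc_24_3 lc_g_rc_26_3 lc_g_rc_24_1 lc_g_rc_21_2 lc_g_rc_26_6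 lc_g_rc_24_3 lc_g_rc_23_1 lc_g_rc_24_9 lc_g_rc_21_3 lc_g_rc_21_2 lc_g_rc_21_2 lc_g_rc_21_2) (@D3.rec (fun _ => (Cert rels S Gen.g)) lc_g_Cert_tree lc_g_rc_26_0 lc_g_Cert_tree lc_g_Cert_tree lc_g_rc_21_2 lc_g_Cert_tree lc_g_rc_23_7 lc_g_rc_21_2 lc_g_rc_21_2 lc_g_rc_21_3 lc_g_Cert_tree lc_g_rc_21_2 lc_g_rc_27_9 lc_g_rc_21_3 lc_g_Cert_tree lc_g_rc_26_6 lc_g_rc_26_9 lc_g_rc_26_9 lc_g_rc_26_9 lc_g_rc_24_9 lc_g_rc_26_0 lc_g_rc_26_9 lc_g_rc_23_7 lc_g_rc_24_1 lc_g_rc_27_6 lc_g_Cert_tree lc_g_rc_24_3 lc_g_rc_27_0 lc_g_rc_26_9 lc_g_rc_25_3 lc_g_Cert_tree lc_g_rc_21_3 lc_g_Cert_tree lc_g_rc_21_2 lc_g_Cert_tree lc_g_Cert_tree lc_g_rc_21_3 lc_g_Cert_tree lc_g_rc_21_2 lc_g_rc_21_2 lc_g_rc_26_6 lc_g_rc_24_9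 lc_g_rc_21_3 lc_g_Cert_tree lc_g_rc_24_1 lc_g_rc_26_3 lc_g_rc_27_9 lc_g_rc_27_0 lc_g_rc_21_3 lc_g_Cert_tree lc_g_Cert_tree lc_g_Cert_tree lc_g_rc_24_7 lc_g_rc_27_0 lc_g_Cert_tree lc_g_rc_24_9 lc_g_rc_21_3 lc_g_Cert_tree lc_g_rc_21_2 lc_g_rc_21_2 lc_g_rc_21_3 lc_g_rc_24_1) (@D3.rec (fun _ => (Cert rels S Gen.g)) lc_g_rc_21_3 lc_g_Cert_tree lc_g_Cert_tree lc_g_rc_21_2 lc_g_rc_23_9 lc_g_rc_27_3 lc_g_rc_27_9 lc_g_rc_24_7 lc_g_Cert_tree lc_g_rc_21_3 lc_g_Cert_tree lc_g_Cert_tree lc_g_rc_24_1 lc_g_rc_21_2 lc_g_rc_21_2 lc_g_rc_27_9 lc_g_Cert_tree lc_g_rc_26_3 lc_g_rc_26_6 lc_g_rc_27_6 lc_g_rc_27_3 lc_g_rc_21_2 lc_g_rc_21_3 lc_g_Cert_tree lc_g_rc_21_2 lc_g_rc_21_2 lc_g_rc_27_3 lc_g_rc_26_6 lc_g_rc_27_6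 lc_g_Cert_tree lc_g_rc_21_2 lc_g_rc_27_0 lc_g_rc_26_9 lc_g_rc_27_3 lc_g_Cert_tree lc_g_Cert_tree lc_g_rc_21_3 lc_g_Cert_tree lc_g_rc_21_2 lc_g_rc_21_3 lc_g_rc_26_0 lc_g_rc_24_3 lc_g_rc_26_0 lc_g_rc_21_2 lc_g_rc_26_0 lc_g_rc_27_9 lc_g_rc_27_6 lc_g_rc_27_0 lc_g_rc_21_3 lc_g_rc_27_9 lc_g_rc_23_3 lc_g_rc_21_3 lc_g_rc_27_6 lc_g_rc_21_3 lc_g_rc_21_2 lc_g_rc_26_9 lc_g_rc_26_3 lc_g_Cert_tree lc_g_rc_21_3 lc_g_Cert_tree lc_g_rc_21_3 lc_g_rc_21_2) (@D3.rec (fun _ => (Cert rels S Gen.g)) lc_g_rc_26_3 lc_g_rc_27_9 lc_g_rc_23_1 lc_g_rc_27_6 lc_g_rc_27_0 lc_g_Cert_tree lc_g_Cert_tree lc_g_Cert_tree lc_g_rc_24_1 lc_g_rc_21_2 lc_g_rc_24_3 lc_g_rc_26_6 lc_g_rc_25_15 lc_g_rc_27_3 lc_g_rc_24_9 lc_g_rc_26_6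 lc_g_Cert_tree lc_g_rc_27_0 lc_g_Cert_tree lc_g_rc_23_1 lc_g_rc_26_3 lc_g_rc_21_3 lc_g_Cert_tree lc_g_rc_26_0 lc_g_Cert_tree lc_g_Cert_tree lc_g_rc_27_9 lc_g_rc_21_3 lc_g_rc_21_2 lc_g_rc_21_3 lc_g_Cert_tree lc_g_rc_21_2 lc_g_Cert_tree lc_g_rc_23_9 lc_g_rc_24_3 lc_g_rc_27_0 lc_g_rc_21_3 lc_g_rc_21_2 lc_g_rc_21_2 lc_g_rc_27_6 lc_g_rc_21_2 lc_g_Cert_tree lc_g_rc_27_6 lc_g_rc_27_6 lc_g_rc_26_3 lc_g_rc_26_9 lc_g_Cert_tree lc_g_rc_23_3 lc_g_rc_26_0 lc_g_Cert_tree lc_g_Cert_tree lc_g_rc_25_19 lc_g_rc_26_3 lc_g_rc_26_3 lc_g_rc_26_3 lc_g_rc_23_3 lc_g_rc_26_3 lc_g_rc_21_3 lc_g_Cert_tree lc_g_rc_21_3 lc_g_Cert_tree lc_g_rc_21_2) (@D3.rec (fun _ => (Cert rels S Gen.g)) lc_g_Cert_tree lc_g_Cert_tree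 lc_g_rc_21_2 lc_g_rc_27_3 lc_g_rc_26_6 lc_g_Cert_tree lc_g_rc_23_3 lc_g_rc_26_3 lc_g_Cert_tree lc_g_rc_23_3 lc_g_rc_27_6 lc_g_rc_21_3 lc_g_Cert_tree lc_g_rc_26_3 lc_g_Cert_tree lc_g_rc_24_7 lc_g_rc_24_3 lc_g_rc_27_6 lc_g_rc_21_3 lc_g_Cert_tree lc_g_rc_27_3 lc_g_Cert_tree lc_g_Cert_tree lc_g_rc_21_2 lc_g_rc_21_3 lc_g_Cert_tree lc_g_rc_21_2 lc_g_rc_21_3 lc_g_rc_21_3 lc_g_Cert_tree lc_g_rc_21_2 lc_g_rc_21_2 lc_g_rc_21_2 lc_g_rc_21_3 lc_g_rc_27_9 lc_g_rc_27_3 lc_g_rc_27_3 lc_g_rc_21_2 lc_g_rc_21_3 lc_g_Cert_tree lc_g_rc_27_3 lc_g_rc_24_7 lc_g_rc_21_3 lc_g_rc_21_2 lc_g_rc_21_3 lc_g_rc_21_2 lc_g_rc_21_3 lc_g_Cert_tree lc_g_rc_21_2 lc_g_rc_26_0 lc_g_rc_27_6 lc_g_rc_21_2 lc_g_rc_26_6 lc_g_rc_21_3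 lc_g_rc_21_2 lc_g_rc_21_3 lc_g_rc_21_2 lc_g_Cert_tree lc_g_rc_24_7 lc_g_rc_25_3 lc_g_rc_27_6 lc_g_rc_21_2) (@D3.rec (fun _ => (Cert rels S Gen.g)) lc_g_Cert_tree lc_g_rc_26_0 lc_g_rc_21_3 lc_g_Cert_tree lc_g_rc_21_2 lc_g_Cert_tree lc_g_Cert_tree lc_g_rc_21_3 lc_g_rc_23_1 lc_g_Cert_tree lc_g_Cert_tree lc_g_rc_26_6 lc_g_rc_23_3 lc_g_Cert_tree lc_g_Cert_tree lc_g_rc_21_2 lc_g_rc_27_0 lc_g_Cert_tree lc_g_rc_26_3 lc_g_rc_21_3 lc_g_rc_21_2 lc_g_rc_21_3 lc_g_rc_21_2 lc_g_rc_21_3 lc_g_Cert_tree lc_g_rc_27_0 lc_g_rc_27_3 lc_g_rc_21_2 lc_g_Cert_tree lc_g_rc_21_3 lc_g_Cert_tree lc_g_rc_21_2 lc_g_rc_26_6 lc_g_rc_21_2 lc_g_rc_26_9 lc_g_Cert_tree lc_g_rc_26_3 lc_g_rc_21_2 lc_g_rc_27_6 lc_g_rc_24_3 lc_g_rc_27_0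 lc_g_rc_27_6 lc_g_rc_27_3 lc_g_rc_27_6 lc_g_rc_21_2 lc_g_Cert_tree lc_g_rc_21_2 lc_g_rc_26_6 lc_g_Cert_tree lc_g_Cert_tree lc_g_Cert_tree lc_g_rc_26_3 lc_g_rc_21_3 lc_g_rc_24_1 lc_g_rc_21_3 lc_g_rc_27_3 lc_g_Cert_tree lc_g_rc_27_9 lc_g_rc_21_3 lc_g_Cert_tree lc_g_rc_21_2 lc_g_rc_23_7) (@D3.rec (fun _ => (Cert rels S Gen.g)) lc_g_rc_27_6 lc_g_rc_27_6 lc_g_rc_23_3 lc_g_rc_21_2 lc_g_rc_21_2 lc_g_rc_21_2 lc_g_rc_26_0 lc_g_rc_26_6 lc_g_rc_23_7 lc_g_rc_27_9 lc_g_rc_26_0 lc_g_rc_21_2 lc_g_rc_23_7 lc_g_rc_27_6 lc_g_rc_27_6 lc_g_rc_21_2 lc_g_Cert_tree lc_g_rc_24_7 lc_g_Cert_tree lc_g_rc_21_2 lc_g_rc_21_2 lc_g_Cert_tree lc_g_rc_27_3 lc_g_rc_21_3 lc_g_Cert_tree lc_g_rc_21_2 lc_g_Cert_tree lc_g_Cert_tree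 lc_g_Cert_tree lc_g_rc_27_9 lc_g_rc_27_6 lc_g_rc_27_0 lc_g_rc_21_3 lc_g_Cert_tree lc_g_rc_21_2 lc_g_Cert_tree lc_g_Cert_tree lc_g_rc_21_3 lc_g_Cert_tree lc_g_rc_21_2 lc_g_rc_21_2 lc_g_rc_27_0 lc_g_rc_21_3 lc_g_Cert_tree lc_g_Cert_tree lc_g_rc_26_6 lc_g_rc_26_0 lc_g_rc_26_0 lc_g_rc_21_3 lc_g_Cert_tree lc_g_rc_27_3 lc_g_rc_21_2 lc_g_rc_27_0 lc_g_rc_21_2 lc_g_rc_21_2 lc_g_rc_21_3 lc_g_rc_27_3 lc_g_Cert_tree lc_g_Cert_tree lc_g_rc_21_3 lc_g_Cert_tree lc_g_rc_21_2) (@D3.rec (fun _ => (Cert rels S Gen.g)) lc_g_rc_23_1 lc_g_rc_27_0 lc_g_rc_21_2 lc_g_rc_21_3 lc_g_Cert_tree lc_g_Cert_tree lc_g_rc_21_3 lc_g_Cert_tree lc_g_rc_21_2 lc_g_rc_21_2 lc_g_rc_24_1 lc_g_Cert_tree lc_g_Cert_tree lc_g_Cert_tree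 lc_g_rc_26_3 lc_g_rc_27_6 lc_g_rc_26_3 lc_g_rc_27_3 lc_g_rc_26_3 lc_g_rc_23_7 lc_g_rc_23_1 lc_g_rc_24_1 lc_g_Cert_tree lc_g_rc_24_3 lc_g_rc_21_2 lc_g_rc_24_9 lc_g_rc_27_0 lc_g_rc_26_6 lc_g_Cert_tree lc_g_rc_21_3 lc_g_Cert_tree lc_g_rc_21_2 lc_g_Cert_tree lc_g_rc_23_7 lc_g_rc_27_6 lc_g_rc_24_7 lc_g_Cert_tree lc_g_rc_21_3 lc_g_rc_26_3 lc_g_rc_24_3 lc_g_rc_27_3 lc_g_rc_23_1 lc_g_rc_24_3 lc_g_rc_27_9 lc_g_rc_23_1 lc_g_rc_26_9 lc_g_rc_26_6 lc_g_rc_26_0 lc_g_rc_26_9 lc_g_rc_27_6 lc_g_rc_21_3 lc_g_Cert_tree lc_g_Cert_tree lc_g_rc_26_3 lc_g_rc_26_3 lc_g_Cert_tree lc_g_rc_26_6 lc_g_rc_27_9 lc_g_rc_24_7 lc_g_rc_21_3 lc_g_Cert_tree lc_g_rc_24_7) (@D3.rec (fun _ => (Cert rels S Gen.g)) lc_g_rc_21_2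 lc_g_Cert_tree lc_g_rc_26_0 lc_g_rc_24_1 lc_g_rc_21_2 lc_g_rc_26_3 lc_g_rc_27_9 lc_g_rc_23_9 lc_g_rc_26_6 lc_g_rc_27_9 lc_g_rc_21_3 lc_g_Cert_tree lc_g_rc_27_0 lc_g_rc_21_2 lc_g_rc_26_9 lc_g_rc_21_2 lc_g_rc_23_1 lc_g_rc_26_3 lc_g_rc_21_2 lc_g_Cert_tree lc_g_Cert_tree lc_g_rc_26_0 lc_g_Cert_tree lc_g_rc_27_6 lc_g_rc_26_6 lc_g_rc_26_9 lc_g_rc_21_3 lc_g_rc_21_2 lc_g_Cert_tree lc_g_rc_21_2 lc_g_rc_27_6 lc_g_rc_26_9 lc_g_rc_26_0 lc_g_rc_26_0 lc_g_rc_24_9 lc_g_Cert_tree lc_g_rc_21_2 lc_g_Cert_tree lc_g_rc_21_2 lc_g_rc_26_3 lc_g_Cert_tree lc_g_rc_27_3 lc_g_rc_26_6 lc_g_Cert_tree lc_g_rc_26_6 lc_g_rc_26_9 lc_g_rc_21_3 lc_g_rc_26_3 lc_g_rc_26_3 lc_g_rc_21_3 lc_g_Cert_tree lc_g_rc_21_2 lc_g_rc_23_1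 lc_g_Cert_tree lc_g_rc_24_9 lc_g_rc_24_9 lc_g_rc_26_9 lc_g_rc_23_3 lc_g_rc_24_3 lc_g_rc_21_3 lc_g_Cert_tree lc_g_rc_24_7) (@D3.rec (fun _ => (Cert rels S Gen.g)) lc_g_rc_24_7 lc_g_rc_24_1 lc_g_rc_21_3 lc_g_Cert_tree lc_g_rc_21_2 lc_g_rc_21_2 lc_g_rc_23_9 lc_g_rc_21_3 lc_g_rc_21_3 lc_g_Cert_tree lc_g_rc_23_3 lc_g_rc_21_2 lc_g_Cert_tree lc_g_rc_24_7 lc_g_rc_21_3 lc_g_Cert_tree lc_g_rc_26_3 lc_g_rc_21_2 lc_g_rc_21_2 lc_g_Cert_tree lc_g_rc_21_3 lc_g_Cert_tree lc_g_rc_27_3 lc_g_rc_21_2 lc_g_rc_21_3 lc_g_rc_23_1 lc_g_rc_27_9 lc_g_rc_21_3 lc_g_Cert_tree lc_g_Cert_tree lc_g_rc_27_9 lc_g_rc_27_0 lc_g_Cert_tree lc_g_rc_27_3 lc_g_rc_21_2 lc_g_rc_21_3 lc_g_Cert_tree lc_g_rc_21_2 lc_g_rc_26_0 lc_g_rc_21_2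 lc_g_rc_21_2 lc_g_rc_27_3 lc_g_rc_26_3 lc_g_rc_21_2 lc_g_rc_24_3 lc_g_rc_23_3 lc_g_rc_26_9 lc_g_rc_26_0 lc_g_Cert_tree lc_g_rc_27_6 lc_g_rc_21_2 lc_g_rc_21_2 lc_g_Cert_tree lc_g_rc_21_3 lc_g_Cert_tree lc_g_Cert_tree lc_g_rc_21_2 lc_g_Cert_tree lc_g_rc_23_7 lc_g_rc_21_3 lc_g_rc_21_3 lc_g_Cert_tree) (@D3.rec (fun _ => (Cert rels S Gen.g)) lc_g_rc_27_6 lc_g_rc_21_3 lc_g_Cert_tree lc_g_Cert_tree lc_g_rc_27_0 lc_g_rc_21_3 lc_g_rc_21_3 lc_g_Cert_tree lc_g_rc_21_2 lc_g_Cert_tree lc_g_Cert_tree lc_g_Cert_tree lc_g_rc_21_2 lc_g_Cert_tree lc_g_Cert_tree lc_g_rc_27_9 lc_g_rc_21_3 lc_g_Cert_tree lc_g_rc_26_3 lc_g_rc_21_3 lc_g_Cert_tree lc_g_rc_21_2 lc_g_rc_21_2 lc_g_Cert_tree lc_g_rc_27_6 lc_g_rc_27_3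 lc_g_rc_21_2 lc_g_rc_21_3 lc_g_Cert_tree lc_g_rc_21_2 lc_g_rc_26_3 lc_g_rc_25_3 lc_g_rc_25_11 lc_g_rc_21_2 lc_g_Cert_tree lc_g_rc_26_9 lc_g_rc_21_2 lc_g_rc_21_3 lc_g_rc_21_3 lc_g_Cert_tree lc_g_rc_21_2 lc_g_rc_27_0 lc_g_rc_21_3 lc_g_rc_27_3 lc_g_rc_21_2 lc_g_rc_21_3 lc_g_Cert_tree lc_g_rc_21_2 lc_g_Cert_tree lc_g_rc_21_3 lc_g_Cert_tree lc_g_rc_21_2 lc_g_Cert_tree lc_g_rc_23_3 lc_g_rc_24_1 lc_g_rc_21_3 lc_g_rc_21_2 lc_g_rc_23_1 lc_g_rc_21_3 lc_g_Cert_tree lc_g_rc_21_2 lc_g_Cert_tree) (@D3.rec (fun _ => (Cert rels S Gen.g)) lc_g_Cert_tree lc_g_rc_24_1 lc_g_rc_21_2 lc_g_rc_27_0 lc_g_rc_21_3 lc_g_Cert_tree lc_g_rc_24_1 lc_g_rc_26_6 lc_g_rc_21_2 lc_g_rc_21_3 lc_g_Cert_tree lc_g_rc_21_2 lc_g_rc_23_9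 lc_g_rc_21_3 lc_g_rc_21_3 lc_g_Cert_tree lc_g_rc_21_2 lc_g_rc_26_9 lc_g_rc_21_3 lc_g_Cert_tree lc_g_rc_26_9 lc_g_rc_24_1 lc_g_Cert_tree lc_g_rc_27_6 lc_g_rc_21_3 lc_g_Cert_tree lc_g_rc_23_7 lc_g_rc_21_2 lc_g_rc_26_3 lc_g_rc_21_3 lc_g_Cert_tree lc_g_rc_24_3 lc_g_rc_23_1 lc_g_Cert_tree lc_g_rc_21_3 lc_g_Cert_tree lc_g_rc_26_9 lc_g_Cert_tree lc_g_Cert_tree lc_g_Cert_tree lc_g_rc_23_3 lc_g_rc_26_3 lc_g_rc_21_2 lc_g_rc_21_3 lc_g_rc_26_6 lc_g_Cert_tree lc_g_rc_27_3 lc_g_rc_21_3 lc_g_Cert_tree lc_g_rc_26_9 lc_g_rc_21_2 lc_g_rc_24_9 lc_g_rc_21_2 lc_g_rc_21_3 lc_g_Cert_tree lc_g_Cert_tree lc_g_Cert_tree lc_g_rc_26_9 lc_g_rc_23_3 lc_g_rc_26_6 lc_g_rc_24_3 lc_g_rc_21_3) (@D3.rec (fun _ => (Cert rels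 S Gen.g)) lc_g_Cert_tree lc_g_rc_21_2 lc_g_rc_21_3 lc_g_Cert_tree lc_g_rc_26_9 lc_g_rc_26_6 lc_g_rc_27_6 lc_g_rc_21_3 lc_g_Cert_tree lc_g_rc_21_2 lc_g_rc_23_9 lc_g_rc_24_7 lc_g_Cert_tree lc_g_rc_21_2 lc_g_rc_21_3 lc_g_Cert_tree lc_g_Cert_tree lc_g_rc_26_0 lc_g_Cert_tree lc_g_rc_21_3 lc_g_Cert_tree lc_g_rc_26_6 lc_g_Cert_tree lc_g_rc_21_2 lc_g_Cert_tree lc_g_rc_21_2 lc_g_rc_26_9 lc_g_rc_26_6 lc_g_Cert_tree lc_g_Cert_tree lc_g_rc_21_3 lc_g_rc_26_9 lc_g_rc_23_7 lc_g_rc_27_9 lc_g_Cert_tree lc_g_rc_24_3 lc_g_rc_24_3 lc_g_rc_27_6 lc_g_rc_21_2 lc_g_Cert_tree lc_g_rc_21_3 lc_g_Cert_tree lc_g_Cert_tree lc_g_Cert_tree lc_g_rc_21_3 lc_g_Cert_tree lc_g_Cert_tree lc_g_rc_21_2 lc_g_rc_26_6 lc_g_rc_24_7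 lc_g_rc_21_2 lc_g_Cert_tree lc_g_rc_26_6 lc_g_rc_24_3 lc_g_rc_27_9 lc_g_Cert_tree lc_g_rc_21_2 lc_g_rc_21_2 lc_g_Cert_tree lc_g_rc_24_3 lc_g_Cert_tree lc_g_rc_21_3) (@D3.rec (fun _ => (Cert rels S Gen.g)) lc_g_Cert_tree lc_g_rc_24_1 lc_g_rc_23_1 lc_g_rc_24_1 lc_g_Cert_tree lc_g_rc_23_1 lc_g_Cert_tree lc_g_rc_21_3 lc_g_Cert_tree lc_g_rc_21_2 lc_g_rc_26_9 lc_g_rc_27_6 lc_g_rc_21_3 lc_g_rc_27_6 lc_g_Cert_tree lc_g_rc_27_9 lc_g_rc_24_9 lc_g_rc_21_2 lc_g_rc_27_3 lc_g_rc_21_3 lc_g_Cert_tree lc_g_Cert_tree lc_g_rc_26_6 lc_g_rc_21_3 lc_g_Cert_tree lc_g_rc_27_6 lc_g_rc_21_3 lc_g_Cert_tree lc_g_rc_26_3 lc_g_rc_21_2 lc_g_rc_21_2 lc_g_rc_21_2 lc_g_rc_27_6 lc_g_rc_21_3 lc_g_Cert_tree lc_g_rc_21_2 lc_g_rc_26_6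 lc_g_rc_23_3 lc_g_Cert_tree lc_g_rc_26_6 lc_g_rc_21_2 lc_g_rc_26_9 lc_g_rc_23_9 lc_g_rc_26_6 lc_g_rc_21_3 lc_g_rc_21_2 lc_g_Cert_tree lc_g_rc_21_3 lc_g_Cert_tree lc_g_Cert_tree lc_g_rc_24_1 lc_g_rc_21_3 lc_g_Cert_tree lc_g_rc_27_3 lc_g_rc_21_2 lc_g_rc_26_6 lc_g_Cert_tree lc_g_rc_26_9 lc_g_Cert_tree lc_g_rc_23_3 lc_g_Cert_tree lc_g_Cert_tree)
def ce_g_16 : D2 → D3 → (Cert rels S Gen.g) := @D2.rec (fun _ => D3 → (Cert rels S Gen.g)) (@D3.rec (fun _ => (Cert rels S Gen.g)) lc_g_rc_23_3 lc_g_rc_26_6 lc_g_rc_23_1 lc_g_rc_24_1 lc_g_rc_23_7 lc_g_rc_27_0 lc_g_Cert_tree lc_g_rc_21_3 lc_g_Cert_tree lc_g_rc_21_2 lc_g_rc_26_0 lc_g_rc_23_9 lc_g_Cert_tree lc_g_rc_23_7 lc_g_rc_21_2 lc_g_rc_27_0 lc_g_rc_24_1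 lc_g_rc_23_1 lc_g_rc_27_0 lc_g_rc_21_2 lc_g_rc_21_3 lc_g_Cert_tree lc_g_rc_26_0 lc_g_rc_27_6 lc_g_Cert_tree lc_g_rc_27_6 lc_g_Cert_tree lc_g_Cert_tree lc_g_rc_21_2 lc_g_rc_26_6 lc_g_rc_27_6 lc_g_rc_23_7 lc_g_rc_24_3 lc_g_rc_26_6 lc_g_rc_23_7 lc_g_rc_24_7 lc_g_rc_21_2 lc_g_Cert_tree lc_g_rc_24_7 lc_g_rc_24_3 lc_g_rc_27_3 lc_g_rc_21_3 lc_g_Cert_tree lc_g_Cert_tree lc_g_rc_23_7 lc_g_rc_21_2 lc_g_rc_26_9 lc_g_Cert_tree lc_g_rc_21_3 lc_g_Cert_tree lc_g_rc_24_9 lc_g_rc_21_2 lc_g_rc_21_2 lc_g_rc_26_3 lc_g_rc_21_2 lc_g_rc_23_1 lc_g_rc_21_3 lc_g_Cert_tree lc_g_rc_26_6 lc_g_rc_23_3 lc_g_rc_21_3 lc_g_Cert_tree) (@D3.rec (fun _ => (Cert rels S Gen.g)) lc_g_rc_27_3 lc_g_rc_27_6 lc_g_rc_21_3 lc_g_Cert_tree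 lc_g_rc_23_9 lc_g_rc_25_15 lc_g_rc_27_6 lc_g_rc_21_3 lc_g_rc_27_9 lc_g_rc_26_3 lc_g_Cert_tree lc_g_rc_21_2 lc_g_rc_26_6 lc_g_Cert_tree lc_g_rc_21_3 lc_g_rc_21_3 lc_g_rc_26_9 lc_g_rc_24_1 lc_g_rc_26_3 lc_g_rc_21_2 lc_g_rc_21_2 lc_g_Cert_tree lc_g_rc_21_3 lc_g_Cert_tree lc_g_rc_24_3 lc_g_Cert_tree lc_g_rc_21_3 lc_g_Cert_tree lc_g_Cert_tree lc_g_rc_21_3 lc_g_Cert_tree lc_g_Cert_tree lc_g_rc_21_2 lc_g_rc_27_6 lc_g_Cert_tree lc_g_rc_27_0 lc_g_rc_27_3 lc_g_Cert_tree lc_g_rc_21_2 lc_g_rc_23_3 lc_g_Cert_tree lc_g_rc_21_2 lc_g_rc_26_3 lc_g_rc_21_3 lc_g_rc_26_0 lc_g_rc_26_0 lc_g_Cert_tree lc_g_rc_21_3 lc_g_rc_21_3 lc_g_Cert_tree lc_g_rc_21_3 lc_g_rc_27_9 lc_g_Cert_tree lc_g_rc_27_6 lc_g_Cert_tree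 lc_g_Cert_tree lc_g_rc_21_3 lc_g_Cert_tree lc_g_Cert_tree lc_g_rc_21_2 lc_g_rc_21_3 lc_g_Cert_tree) (@D3.rec (fun _ => (Cert rels S Gen.g)) lc_g_rc_21_3 lc_g_Cert_tree lc_g_rc_21_2 lc_g_rc_25_15 lc_g_rc_27_0 lc_g_Cert_tree lc_g_rc_27_3 lc_g_rc_21_2 lc_g_Cert_tree lc_g_rc_24_7 lc_g_Cert_tree lc_g_rc_27_6 lc_g_rc_23_3 lc_g_rc_23_1 lc_g_rc_26_3 lc_g_rc_21_2 lc_g_rc_21_3 lc_g_Cert_tree lc_g_Cert_tree lc_g_rc_27_6 lc_g_rc_24_3 lc_g_rc_26_6 lc_g_rc_24_3 lc_g_rc_27_6 lc_g_Cert_tree lc_g_rc_21_3 lc_g_Cert_tree lc_g_rc_24_1 lc_g_rc_24_3 lc_g_rc_27_0 lc_g_rc_27_9 lc_g_rc_23_1 lc_g_rc_27_9 lc_g_rc_24_7 lc_g_rc_21_2 lc_g_rc_21_2 lc_g_rc_27_6 lc_g_rc_26_3 lc_g_rc_21_3 lc_g_Cert_tree lc_g_Cert_tree lc_g_rc_21_3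 lc_g_rc_27_0 lc_g_rc_26_6 lc_g_rc_23_3 lc_g_Cert_tree lc_g_rc_24_7 lc_g_rc_26_6 lc_g_rc_21_2 lc_g_rc_21_2 lc_g_rc_24_7 lc_g_Cert_tree lc_g_rc_23_7 lc_g_rc_21_2 lc_g_rc_23_9 lc_g_rc_27_3 lc_g_rc_23_1 lc_g_Cert_tree lc_g_rc_21_3 lc_g_Cert_tree lc_g_rc_21_3 lc_g_Cert_tree) (@D3.rec (fun _ => (Cert rels S Gen.g)) lc_g_rc_21_2 lc_g_rc_21_3 lc_g_Cert_tree lc_g_rc_21_2 lc_g_rc_21_2 lc_g_rc_21_3 lc_g_Cert_tree lc_g_rc_21_2 lc_g_rc_27_9 lc_g_rc_21_2 lc_g_rc_23_9 lc_g_rc_21_2 lc_g_rc_21_3 lc_g_Cert_tree lc_g_rc_26_6 lc_g_rc_26_0 lc_g_rc_24_3 lc_g_rc_26_6 lc_g_rc_24_1 lc_g_Cert_tree lc_g_rc_21_2 lc_g_rc_21_2 lc_g_Cert_tree lc_g_rc_27_9 lc_g_rc_26_0 lc_g_rc_21_2 lc_g_rc_24_3 lc_g_rc_21_3 lc_g_Cert_tree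 lc_g_rc_24_3 lc_g_rc_21_2 lc_g_rc_26_0 lc_g_rc_27_9 lc_g_rc_26_9 lc_g_rc_27_0 lc_g_rc_26_3 lc_g_rc_27_0 lc_g_rc_27_9 lc_g_Cert_tree lc_g_rc_24_3 lc_g_rc_26_0 lc_g_rc_24_7 lc_g_rc_21_3 lc_g_Cert_tree lc_g_rc_23_1 lc_g_rc_26_3 lc_g_rc_26_3 lc_g_rc_26_3 lc_g_rc_24_9 lc_g_rc_23_3 lc_g_Cert_tree lc_g_rc_26_0 lc_g_rc_26_0 lc_g_rc_21_3 lc_g_rc_21_3 lc_g_rc_27_3 lc_g_rc_24_3 lc_g_rc_21_2 lc_g_rc_27_9 lc_g_rc_21_3 lc_g_Cert_tree lc_g_rc_21_2) (@D3.rec (fun _ => (Cert rels S Gen.g)) lc_g_Cert_tree lc_g_Cert_tree lc_g_rc_25_19 lc_g_rc_21_2 lc_g_Cert_tree lc_g_Cert_tree lc_g_rc_27_9 lc_g_Cert_tree lc_g_Cert_tree lc_g_rc_27_0 lc_g_rc_26_6 lc_g_rc_21_3 lc_g_rc_21_2 lc_g_rc_26_3 lc_g_rc_26_0 lc_g_rc_27_6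 lc_g_Cert_tree lc_g_Cert_tree lc_g_rc_21_3 lc_g_Cert_tree lc_g_rc_21_2 lc_g_rc_27_0 lc_g_rc_21_3 lc_g_rc_27_6 lc_g_rc_21_3 lc_g_Cert_tree lc_g_Cert_tree lc_g_rc_21_2 lc_g_rc_23_9 lc_g_rc_27_0 lc_g_rc_21_3 lc_g_Cert_tree lc_g_rc_26_9 lc_g_rc_27_6 lc_g_rc_23_1 lc_g_rc_21_3 lc_g_Cert_tree lc_g_rc_21_2 lc_g_Cert_tree lc_g_rc_21_3 lc_g_rc_21_2 lc_g_rc_21_2 lc_g_rc_26_6 lc_g_rc_26_0 lc_g_rc_21_3 lc_g_rc_21_2 lc_g_rc_27_6 lc_g_Cert_tree lc_g_rc_24_7 lc_g_rc_23_3 lc_g_Cert_tree lc_g_rc_27_6 lc_g_rc_21_2 lc_g_rc_26_0 lc_g_rc_23_9 lc_g_Cert_tree lc_g_rc_21_3 lc_g_rc_24_9 lc_g_Cert_tree lc_g_rc_26_0 lc_g_Cert_tree lc_g_rc_26_0) (@D3.rec (fun _ => (Cert rels S Gen.g)) lc_g_rc_21_3 lc_g_rc_23_9 lc_g_rc_21_3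 lc_g_Cert_tree lc_g_rc_21_2 lc_g_rc_21_3 lc_g_Cert_tree lc_g_rc_27_3 lc_g_rc_21_2 lc_g_rc_26_9 lc_g_rc_27_9 lc_g_rc_23_9 lc_g_rc_21_3 lc_g_Cert_tree lc_g_rc_21_2 lc_g_rc_26_6 lc_g_Cert_tree lc_g_rc_21_3 lc_g_Cert_tree lc_g_rc_26_9 lc_g_rc_26_9 lc_g_rc_27_6 lc_g_Cert_tree lc_g_rc_21_2 lc_g_Cert_tree lc_g_rc_24_1 lc_g_Cert_tree lc_g_rc_26_0 lc_g_rc_21_2 lc_g_Cert_tree lc_g_rc_23_7 lc_g_rc_21_3 lc_g_rc_23_1 lc_g_rc_21_2 lc_g_rc_23_7 lc_g_Cert_tree lc_g_rc_24_7 lc_g_rc_21_3 lc_g_rc_27_0 lc_g_rc_21_2 lc_g_rc_26_0 lc_g_rc_26_3 lc_g_rc_23_1 lc_g_Cert_tree lc_g_rc_26_3 lc_g_rc_24_1 lc_g_rc_21_3 lc_g_rc_27_6 lc_g_rc_23_1 lc_g_rc_23_9 lc_g_Cert_tree lc_g_rc_26_6 lc_g_rc_26_0 lc_g_rc_23_9 lc_g_rc_21_3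 lc_g_rc_26_0 lc_g_rc_23_3 lc_g_rc_23_9 lc_g_rc_27_0 lc_g_Cert_tree lc_g_rc_21_3 lc_g_Cert_tree) (@D3.rec (fun _ => (Cert rels S Gen.g)) lc_g_rc_21_2 lc_g_rc_23_7 lc_g_rc_26_6 lc_g_rc_24_9 lc_g_rc_21_3 lc_g_rc_27_3 lc_g_rc_21_2 lc_g_rc_26_3 lc_g_rc_21_3 lc_g_Cert_tree lc_g_rc_21_2 lc_g_rc_21_3 lc_g_Cert_tree lc_g_rc_21_2 lc_g_rc_26_6 lc_g_rc_23_3 lc_g_rc_23_1 lc_g_Cert_tree lc_g_rc_26_3 lc_g_rc_21_2 lc_g_rc_26_3 lc_g_Cert_tree lc_g_Cert_tree lc_g_rc_21_3 lc_g_Cert_tree lc_g_Cert_tree lc_g_rc_24_1 lc_g_Cert_tree lc_g_rc_27_0 lc_g_rc_26_0 lc_g_rc_21_3 lc_g_Cert_tree lc_g_rc_27_9 lc_g_rc_24_3 lc_g_rc_27_0 lc_g_rc_23_9 lc_g_rc_23_3 lc_g_rc_26_0 lc_g_rc_27_3 lc_g_rc_26_0 lc_g_rc_21_3 lc_g_rc_24_9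 lc_g_rc_23_1 lc_g_rc_27_3 lc_g_rc_24_3 lc_g_rc_27_3 lc_g_rc_26_0 lc_g_rc_21_3 lc_g_rc_23_9 lc_g_rc_27_0 lc_g_rc_27_6 lc_g_rc_23_3 lc_g_rc_23_3 lc_g_rc_21_2 lc_g_rc_21_3 lc_g_rc_21_3 lc_g_rc_21_2 lc_g_rc_23_7 lc_g_rc_26_0 lc_g_rc_23_7 lc_g_Cert_tree lc_g_rc_23_1) (@D3.rec (fun _ => (Cert rels S Gen.g)) lc_g_rc_26_0 lc_g_rc_26_9 lc_g_rc_26_9 lc_g_rc_23_7 lc_g_rc_21_3 lc_g_rc_26_3 lc_g_rc_21_2 lc_g_rc_21_2 lc_g_Cert_tree lc_g_rc_24_1 lc_g_rc_26_9 lc_g_Cert_tree lc_g_rc_26_6 lc_g_rc_26_6 lc_g_rc_27_6 lc_g_Cert_tree lc_g_rc_26_9 lc_g_rc_27_0 lc_g_rc_21_3 lc_g_rc_21_2 lc_g_rc_24_3 lc_g_rc_24_7 lc_g_rc_27_0 lc_g_rc_27_6 lc_g_Cert_tree lc_g_rc_21_2 lc_g_rc_21_3 lc_g_Cert_tree lc_g_rc_21_2 lc_g_rc_26_6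 lc_g_rc_23_3 lc_g_rc_27_3 lc_g_rc_21_3 lc_g_Cert_tree lc_g_rc_21_2 lc_g_rc_26_9 lc_g_rc_27_0 lc_g_Cert_tree lc_g_rc_21_3 lc_g_Cert_tree lc_g_rc_26_3 lc_g_rc_27_3 lc_g_rc_27_6 lc_g_rc_26_6 lc_g_rc_21_2 lc_g_rc_27_6 lc_g_rc_25_11 lc_g_rc_21_3 lc_g_rc_26_6 lc_g_rc_27_9 lc_g_rc_26_3 lc_g_rc_23_3 lc_g_Cert_tree lc_g_Cert_tree lc_g_rc_23_3 lc_g_rc_21_2 lc_g_rc_26_0 lc_g_rc_27_3 lc_g_rc_24_7 lc_g_rc_27_0 lc_g_rc_27_0 lc_g_rc_21_2) (@D3.rec (fun _ => (Cert rels S Gen.g)) lc_g_rc_21_3 lc_g_rc_24_1 lc_g_rc_21_3 lc_g_Cert_tree lc_g_Cert_tree lc_g_rc_26_9 lc_g_rc_27_0 lc_g_rc_21_3 lc_g_rc_23_9 lc_g_rc_27_9 lc_g_rc_23_1 lc_g_Cert_tree lc_g_Cert_tree lc_g_rc_26_6 lc_g_rc_21_3 lc_g_rc_23_3 lc_g_Cert_tree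 lc_g_rc_21_3 lc_g_Cert_tree lc_g_Cert_tree lc_g_rc_21_2 lc_g_rc_23_3 lc_g_Cert_tree lc_g_rc_24_9 lc_g_rc_21_2 lc_g_rc_21_2 lc_g_rc_27_9 lc_g_rc_26_6 lc_g_rc_23_3 lc_g_rc_21_2 lc_g_rc_21_3 lc_g_Cert_tree lc_g_rc_21_2 lc_g_rc_24_3 lc_g_Cert_tree lc_g_rc_26_6 lc_g_rc_27_6 lc_g_Cert_tree lc_g_rc_21_2 lc_g_rc_21_3 lc_g_rc_21_3 lc_g_rc_21_2 lc_g_Cert_tree lc_g_rc_23_3 lc_g_rc_21_2 lc_g_Cert_tree lc_g_rc_21_2 lc_g_Cert_tree lc_g_rc_21_3 lc_g_Cert_tree lc_g_rc_21_2 lc_g_rc_24_3 lc_g_rc_24_3 lc_g_Cert_tree lc_g_Cert_tree lc_g_rc_24_9 lc_g_rc_23_1 lc_g_Cert_tree lc_g_rc_26_3 lc_g_rc_25_3 lc_g_rc_21_3 lc_g_rc_21_3) (@D3.rec (fun _ => (Cert rels S Gen.g)) lc_g_rc_27_6 lc_g_rc_21_3 lc_g_Cert_tree lc_g_Cert_tree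 lc_g_rc_21_2 lc_g_rc_24_7 lc_g_rc_24_9 lc_g_rc_21_3 lc_g_Cert_tree lc_g_rc_27_6 lc_g_rc_27_6 lc_g_rc_21_3 lc_g_Cert_tree lc_g_rc_21_2 lc_g_rc_23_1 lc_g_Cert_tree lc_g_rc_21_2 lc_g_rc_24_3 lc_g_rc_21_3 lc_g_Cert_tree lc_g_Cert_tree lc_g_rc_27_3 lc_g_rc_26_6 lc_g_rc_21_2 lc_g_rc_21_3 lc_g_Cert_tree lc_g_Cert_tree lc_g_rc_26_6 lc_g_rc_26_9 lc_g_rc_23_1 lc_g_rc_26_3 lc_g_rc_27_0 lc_g_rc_24_7 lc_g_rc_27_6 lc_g_rc_21_3 lc_g_Cert_tree lc_g_rc_21_3 lc_g_rc_21_2 lc_g_Cert_tree lc_g_rc_26_9 lc_g_rc_21_2 lc_g_rc_21_3 lc_g_Cert_tree lc_g_rc_21_3 lc_g_rc_21_3 lc_g_Cert_tree lc_g_rc_21_2 lc_g_rc_21_2 lc_g_rc_21_2 lc_g_rc_24_7 lc_g_rc_24_7 lc_g_rc_27_0 lc_g_rc_24_3 lc_g_Cert_tree lc_g_rc_27_3 lc_g_rc_24_7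 lc_g_rc_27_0 lc_g_rc_23_1 lc_g_rc_21_3 lc_g_Cert_tree lc_g_rc_21_2 lc_g_rc_26_0) (@D3.rec (fun _ => (Cert rels S Gen.g)) lc_g_rc_27_3 lc_g_rc_21_2 lc_g_rc_21_2 lc_g_rc_27_3 lc_g_rc_26_0 lc_g_rc_21_2 lc_g_Cert_tree lc_g_Cert_tree lc_g_rc_21_3 lc_g_rc_26_9 lc_g_rc_21_2 lc_g_rc_21_2 lc_g_rc_21_3 lc_g_Cert_tree lc_g_Cert_tree lc_g_rc_21_2 lc_g_rc_21_3 lc_g_Cert_tree lc_g_rc_21_2 lc_g_Cert_tree lc_g_rc_26_9 lc_g_rc_26_0 lc_g_Cert_tree lc_g_rc_27_3 lc_g_rc_27_0 lc_g_rc_26_3 lc_g_rc_24_3 lc_g_Cert_tree lc_g_rc_21_2 lc_g_Cert_tree lc_g_rc_21_2 lc_g_rc_23_9 lc_g_rc_21_2 lc_g_rc_24_3 lc_g_rc_24_3 lc_g_rc_21_3 lc_g_rc_24_3 lc_g_rc_26_3 lc_g_rc_27_6 lc_g_rc_24_7 lc_g_rc_26_6 lc_g_rc_25_3 lc_g_rc_26_0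 lc_g_rc_21_3 lc_g_Cert_tree lc_g_rc_26_0 lc_g_Cert_tree lc_g_rc_24_3 lc_g_Cert_tree lc_g_rc_21_3 lc_g_Cert_tree lc_g_rc_21_2 lc_g_rc_21_3 lc_g_Cert_tree lc_g_rc_21_2 lc_g_rc_21_2 lc_g_rc_21_3 lc_g_Cert_tree lc_g_rc_21_2 lc_g_rc_25_7 lc_g_rc_24_7 lc_g_rc_27_6) (@D3.rec (fun _ => (Cert rels S Gen.g)) lc_g_rc_24_7 lc_g_Cert_tree lc_g_rc_21_2 lc_g_rc_21_3 lc_g_Cert_tree lc_g_rc_21_3 lc_g_rc_21_2 lc_g_Cert_tree lc_g_rc_21_2 lc_g_rc_21_3 lc_g_Cert_tree lc_g_rc_21_3 lc_g_Cert_tree lc_g_Cert_tree lc_g_rc_21_3 lc_g_Cert_tree lc_g_rc_21_2 lc_g_rc_25_11 lc_g_rc_21_3 lc_g_Cert_tree lc_g_rc_21_3 lc_g_Cert_tree lc_g_rc_26_6 lc_g_rc_21_2 lc_g_rc_27_3 lc_g_rc_21_2 lc_g_rc_21_2 lc_g_rc_26_3 lc_g_rc_26_3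 lc_g_Cert_tree lc_g_Cert_tree lc_g_rc_21_3 lc_g_Cert_tree lc_g_rc_21_2 lc_g_rc_23_7 lc_g_rc_26_6 lc_g_rc_21_2 lc_g_rc_21_3 lc_g_Cert_tree lc_g_Cert_tree lc_g_Cert_tree lc_g_Cert_tree lc_g_rc_21_3 lc_g_Cert_tree lc_g_rc_21_2 lc_g_rc_21_2 lc_g_Cert_tree lc_g_rc_21_2 lc_g_rc_21_3 lc_g_Cert_tree lc_g_rc_21_2 lc_g_rc_21_2 lc_g_rc_21_3 lc_g_Cert_tree lc_g_rc_21_2 lc_g_rc_24_7 lc_g_rc_21_2 lc_g_rc_21_3 lc_g_Cert_tree lc_g_rc_24_9 lc_g_rc_27_0 lc_g_rc_24_7) (@D3.rec (fun _ => (Cert rels S Gen.g)) lc_g_rc_24_7 lc_g_Cert_tree lc_g_rc_21_3 lc_g_Cert_tree lc_g_rc_23_3 lc_g_rc_21_2 lc_g_rc_21_3 lc_g_rc_27_3 lc_g_rc_27_6 lc_g_rc_21_3 lc_g_Cert_tree lc_g_rc_21_2 lc_g_rc_21_3 lc_g_Cert_tree lc_g_rc_21_2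 lc_g_rc_21_3 lc_g_Cert_tree lc_g_rc_21_2 lc_g_rc_24_3 lc_g_rc_24_7 lc_g_rc_27_6 lc_g_Cert_tree lc_g_rc_24_7 lc_g_rc_21_2 lc_g_rc_21_3 lc_g_Cert_tree lc_g_rc_21_3 lc_g_rc_21_2 lc_g_rc_27_6 lc_g_rc_27_0 lc_g_rc_27_6 lc_g_rc_21_2 lc_g_rc_26_3 lc_g_rc_26_0 lc_g_Cert_tree lc_g_Cert_tree lc_g_rc_21_3 lc_g_rc_21_3 lc_g_rc_21_2 lc_g_rc_21_2 lc_g_rc_23_7 lc_g_rc_21_2 lc_g_rc_21_3 lc_g_Cert_tree lc_g_Cert_tree lc_g_rc_23_3 lc_g_rc_21_3 lc_g_Cert_tree lc_g_rc_21_2 lc_g_Cert_tree lc_g_rc_27_9 lc_g_rc_27_3 lc_g_rc_21_3 lc_g_Cert_tree lc_g_rc_21_3 lc_g_rc_26_6 lc_g_rc_23_9 lc_g_rc_23_3 lc_g_rc_26_9 lc_g_Cert_tree lc_g_Cert_tree lc_g_rc_21_2) (@D3.rec (fun _ => (Cert rels S Gen.g)) lc_g_rc_26_6 lc_g_rc_21_2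 lc_g_rc_27_6 lc_g_rc_24_9 lc_g_rc_21_2 lc_g_rc_21_2 lc_g_rc_26_3 lc_g_Cert_tree lc_g_Cert_tree lc_g_Cert_tree lc_g_rc_26_0 lc_g_rc_23_7 lc_g_rc_21_2 lc_g_rc_21_2 lc_g_rc_21_3 lc_g_Cert_tree lc_g_rc_25_3 lc_g_Cert_tree lc_g_Cert_tree lc_g_rc_21_3 lc_g_Cert_tree lc_g_rc_21_2 lc_g_Cert_tree lc_g_rc_27_9 lc_g_rc_27_9 lc_g_rc_27_6 lc_g_Cert_tree lc_g_rc_21_3 lc_g_rc_26_6 lc_g_Cert_tree lc_g_rc_23_3 lc_g_rc_21_2 lc_g_rc_21_3 lc_g_Cert_tree lc_g_rc_21_3 lc_g_Cert_tree lc_g_rc_25_11 lc_g_rc_26_9 lc_g_rc_21_2 lc_g_Cert_tree lc_g_rc_26_6 lc_g_Cert_tree lc_g_rc_27_0 lc_g_rc_21_2 lc_g_Cert_tree lc_g_rc_26_9 lc_g_rc_26_6 lc_g_rc_21_3 lc_g_rc_26_3 lc_g_rc_27_6 lc_g_rc_21_2 lc_g_rc_26_6 lc_g_Cert_tree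 lc_g_rc_26_9 lc_g_rc_21_2 lc_g_Cert_tree lc_g_rc_27_3 lc_g_rc_21_2 lc_g_rc_26_3 lc_g_rc_24_3 lc_g_Cert_tree lc_g_rc_27_6) (@D3.rec (fun _ => (Cert rels S Gen.g)) lc_g_rc_27_3 lc_g_rc_21_2 lc_g_Cert_tree lc_g_rc_26_9 lc_g_rc_23_7 lc_g_rc_27_0 lc_g_rc_25_11 lc_g_rc_21_3 lc_g_Cert_tree lc_g_Cert_tree lc_g_rc_21_3 lc_g_Cert_tree lc_g_rc_26_3 lc_g_rc_21_3 lc_g_rc_21_2 lc_g_rc_27_3 lc_g_rc_26_6 lc_g_rc_27_9 lc_g_rc_21_3 lc_g_Cert_tree lc_g_rc_21_2 lc_g_Cert_tree lc_g_Cert_tree lc_g_Cert_tree lc_g_rc_21_2 lc_g_rc_27_0 lc_g_rc_21_3 lc_g_Cert_tree lc_g_rc_21_2 lc_g_Cert_tree lc_g_Cert_tree lc_g_rc_27_6 lc_g_rc_27_0 lc_g_rc_21_2 lc_g_rc_21_2 lc_g_Cert_tree lc_g_rc_24_9 lc_g_rc_21_2 lc_g_rc_23_7 lc_g_rc_27_6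 lc_g_Cert_tree lc_g_rc_21_3 lc_g_Cert_tree lc_g_Cert_tree lc_g_Cert_tree lc_g_rc_21_2 lc_g_Cert_tree lc_g_Cert_tree lc_g_rc_21_3 lc_g_Cert_tree lc_g_rc_21_2 lc_g_rc_21_2 lc_g_Cert_tree lc_g_rc_21_2 lc_g_Cert_tree lc_g_rc_21_3 lc_g_Cert_tree lc_g_rc_21_2 lc_g_rc_23_9 lc_g_rc_26_6 lc_g_rc_27_6 lc_g_rc_21_3) (@D3.rec (fun _ => (Cert rels S Gen.g)) lc_g_rc_24_3 lc_g_Cert_tree lc_g_rc_21_3 lc_g_rc_25_19 lc_g_rc_26_0 lc_g_rc_23_1 lc_g_rc_23_9 lc_g_rc_27_9 lc_g_rc_21_3 lc_g_Cert_tree lc_g_rc_21_3 lc_g_Cert_tree lc_g_rc_21_3 lc_g_Cert_tree lc_g_Cert_tree lc_g_rc_21_2 lc_g_Cert_tree lc_g_rc_23_3 lc_g_rc_21_2 lc_g_rc_23_1 lc_g_rc_23_3 lc_g_Cert_tree lc_g_rc_26_3 lc_g_rc_27_0 lc_g_rc_24_7 lc_g_Cert_tree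 lc_g_rc_23_9 lc_g_rc_26_6 lc_g_rc_26_6 lc_g_rc_23_9 lc_g_rc_24_9 lc_g_rc_26_9 lc_g_Cert_tree lc_g_rc_26_0 lc_g_rc_21_3 lc_g_Cert_tree lc_g_rc_24_3 lc_g_rc_21_2 lc_g_rc_24_1 lc_g_rc_26_0 lc_g_Cert_tree lc_g_rc_21_3 lc_g_Cert_tree lc_g_rc_21_3 lc_g_rc_26_3 lc_g_rc_21_3 lc_g_Cert_tree lc_g_rc_27_6 lc_g_rc_27_6 lc_g_rc_21_3 lc_g_Cert_tree lc_g_rc_21_2 lc_g_rc_26_0 lc_g_Cert_tree lc_g_rc_27_9 lc_g_rc_21_2 lc_g_rc_21_3 lc_g_Cert_tree lc_g_Cert_tree lc_g_rc_21_2 lc_g_rc_26_3 lc_g_Cert_tree) (@D3.rec (fun _ => (Cert rels S Gen.g)) lc_g_rc_21_2 lc_g_rc_21_2 lc_g_rc_21_2 lc_g_rc_23_3 lc_g_rc_26_6 lc_g_rc_26_3 lc_g_rc_23_9 lc_g_rc_26_0 lc_g_rc_21_3 lc_g_rc_24_7 lc_g_Cert_tree lc_g_Cert_tree lc_g_Cert_tree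 lc_g_rc_21_3 lc_g_Cert_tree lc_g_rc_26_6 lc_g_rc_21_2 lc_g_rc_21_3 lc_g_Cert_tree lc_g_rc_23_3 lc_g_rc_21_2 lc_g_Cert_tree lc_g_rc_26_3 lc_g_rc_23_7 lc_g_rc_26_3 lc_g_Cert_tree lc_g_rc_21_3 lc_g_rc_21_2 lc_g_rc_26_6 lc_g_rc_24_1 lc_g_rc_27_6 lc_g_rc_27_0 lc_g_rc_27_6 lc_g_rc_24_1 lc_g_rc_24_7 lc_g_rc_24_7 lc_g_rc_23_1 lc_g_rc_27_3 lc_g_rc_23_3 lc_g_Cert_tree lc_g_rc_24_9 lc_g_rc_26_9 lc_g_Cert_tree lc_g_rc_21_3 lc_g_rc_23_1 lc_g_rc_23_3 lc_g_rc_21_3 lc_g_rc_21_3 lc_g_Cert_tree lc_g_rc_25_19 lc_g_rc_26_3 lc_g_Cert_tree lc_g_Cert_tree lc_g_rc_21_3 lc_g_Cert_tree lc_g_Cert_tree lc_g_rc_21_2 lc_g_rc_27_0 lc_g_rc_23_3 lc_g_rc_23_1 lc_g_rc_27_9 lc_g_rc_23_3) (@D3.rec (fun _ => (Cert rels S Gen.g))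 lc_g_rc_26_3 lc_g_rc_23_3 lc_g_rc_24_7 lc_g_rc_27_3 lc_g_rc_27_3 lc_g_rc_21_3 lc_g_rc_26_3 lc_g_rc_26_0 lc_g_Cert_tree lc_g_rc_21_3 lc_g_rc_21_3 lc_g_rc_26_6 lc_g_rc_21_3 lc_g_rc_21_3 lc_g_Cert_tree lc_g_Cert_tree lc_g_rc_23_3 lc_g_rc_21_3 lc_g_Cert_tree lc_g_rc_21_3 lc_g_Cert_tree lc_g_rc_21_3 lc_g_rc_21_2 lc_g_rc_27_3 lc_g_Cert_tree lc_g_rc_24_3 lc_g_rc_26_0 lc_g_rc_26_9 lc_g_rc_24_9 lc_g_rc_26_0 lc_g_rc_21_3 lc_g_rc_27_6 lc_g_rc_21_2 lc_g_rc_21_2 lc_g_rc_27_6 lc_g_rc_21_3 lc_g_Cert_tree lc_g_rc_24_9 lc_g_rc_26_6 lc_g_rc_21_3 lc_g_Cert_tree lc_g_Cert_tree lc_g_Cert_tree lc_g_rc_21_3 lc_g_rc_21_3 lc_g_rc_26_3 lc_g_rc_21_3 lc_g_rc_23_1 lc_g_rc_24_1 lc_g_rc_23_9 lc_g_rc_26_0 lc_g_rc_21_2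 lc_g_rc_21_2 lc_g_rc_26_6 lc_g_Cert_tree lc_g_rc_21_3 lc_g_Cert_tree lc_g_rc_27_3 lc_g_rc_21_2 lc_g_rc_21_3 lc_g_rc_23_9 lc_g_Cert_tree) (@D3.rec (fun _ => (Cert rels S Gen.g)) lc_g_rc_21_3 lc_g_rc_27_0 lc_g_rc_21_2 lc_g_rc_26_3 lc_g_rc_23_7 lc_g_rc_27_0 lc_g_rc_24_3 lc_g_rc_27_0 lc_g_rc_26_6 lc_g_Cert_tree lc_g_rc_25_19 lc_g_rc_21_2 lc_g_rc_23_1 lc_g_Cert_tree lc_g_rc_21_3 lc_g_rc_26_6 lc_g_rc_26_0 lc_g_Cert_tree lc_g_rc_27_3 lc_g_rc_21_3 lc_g_rc_21_3 lc_g_Cert_tree lc_g_rc_21_2 lc_g_rc_24_1 lc_g_Cert_tree lc_g_Cert_tree lc_g_rc_21_2 lc_g_Cert_tree lc_g_Cert_tree lc_g_rc_21_3 lc_g_rc_21_2 lc_g_Cert_tree lc_g_rc_24_3 lc_g_rc_21_3 lc_g_Cert_tree lc_g_rc_24_1 lc_g_rc_21_2 lc_g_Cert_tree lc_g_rc_23_7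 lc_g_rc_26_3 lc_g_rc_26_6 lc_g_rc_21_2 lc_g_Cert_tree lc_g_rc_26_3 lc_g_Cert_tree lc_g_rc_24_7 lc_g_rc_26_0 lc_g_rc_27_3 lc_g_rc_23_1 lc_g_rc_21_3 lc_g_Cert_tree lc_g_Cert_tree lc_g_rc_26_3 lc_g_rc_24_7 lc_g_rc_27_6 lc_g_rc_26_6 lc_g_rc_24_7 lc_g_rc_26_3 lc_g_Cert_tree lc_g_rc_21_3 lc_g_Cert_tree lc_g_rc_21_2) (@D3.rec (fun _ => (Cert rels S Gen.g)) lc_g_Cert_tree lc_g_rc_23_3 lc_g_rc_27_0 lc_g_rc_23_1 lc_g_rc_26_9 lc_g_rc_21_3 lc_g_Cert_tree lc_g_Cert_tree lc_g_rc_21_2 lc_g_rc_23_7 lc_g_rc_27_6 lc_g_rc_21_2 lc_g_rc_21_3 lc_g_Cert_tree lc_g_Cert_tree lc_g_rc_21_2 lc_g_rc_24_9 lc_g_rc_21_2 lc_g_rc_27_0 lc_g_rc_27_6 lc_g_rc_21_3 lc_g_Cert_tree lc_g_rc_21_2 lc_g_rc_21_3 lc_g_Cert_tree lc_g_rc_21_2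 lc_g_rc_21_2 lc_g_rc_27_6 lc_g_rc_27_3 lc_g_rc_26_9 lc_g_Cert_tree lc_g_rc_24_7 lc_g_rc_27_6 lc_g_rc_21_3 lc_g_Cert_tree lc_g_rc_24_3 lc_g_rc_27_6 lc_g_Cert_tree lc_g_Cert_tree lc_g_rc_27_0 lc_g_rc_26_3 lc_g_rc_25_3 lc_g_rc_24_7 lc_g_Cert_tree lc_g_rc_27_6 lc_g_rc_26_0 lc_g_rc_23_1 lc_g_rc_24_1 lc_g_rc_27_3 lc_g_rc_27_6 lc_g_Cert_tree lc_g_Cert_tree lc_g_rc_27_6 lc_g_Cert_tree lc_g_rc_23_9 lc_g_Cert_tree lc_g_rc_26_3 lc_g_rc_27_6 lc_g_rc_26_6 lc_g_rc_27_3 lc_g_rc_24_9 lc_g_rc_21_2) (@D3.rec (fun _ => (Cert rels S Gen.g)) lc_g_rc_26_9 lc_g_rc_24_1 lc_g_rc_21_2 lc_g_rc_26_6 lc_g_rc_21_2 lc_g_rc_21_3 lc_g_Cert_tree lc_g_rc_21_3 lc_g_rc_23_9 lc_g_rc_21_3 lc_g_Cert_tree lc_g_Cert_tree lc_g_rc_21_2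 lc_g_rc_25_11 lc_g_rc_21_2 lc_g_rc_27_6 lc_g_rc_21_2 lc_g_rc_27_6 lc_g_rc_23_1 lc_g_rc_27_6 lc_g_rc_23_3 lc_g_rc_23_1 lc_g_rc_21_3 lc_g_rc_21_2 lc_g_Cert_tree lc_g_rc_21_2 lc_g_rc_23_3 lc_g_rc_27_6 lc_g_rc_27_3 lc_g_rc_27_0 lc_g_rc_21_2 lc_g_rc_21_2 lc_g_rc_27_9 lc_g_rc_24_9 lc_g_rc_21_2 lc_g_rc_21_2 lc_g_rc_26_9 lc_g_rc_26_3 lc_g_rc_24_9 lc_g_rc_27_6 lc_g_Cert_tree lc_g_rc_21_2 lc_g_Cert_tree lc_g_Cert_tree lc_g_rc_21_3 lc_g_Cert_tree lc_g_rc_21_2 lc_g_Cert_tree lc_g_rc_21_2 lc_g_rc_26_6 lc_g_rc_27_6 lc_g_rc_27_3 lc_g_rc_21_3 lc_g_rc_27_0 lc_g_rc_27_6 lc_g_rc_21_3 lc_g_Cert_tree lc_g_rc_24_9 lc_g_rc_23_9 lc_g_Cert_tree lc_g_rc_24_3 lc_g_rc_27_3) (@D3.rec (fun _ => (Cert rels S Gen.g))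 lc_g_rc_24_3 lc_g_rc_27_6 lc_g_rc_26_6 lc_g_rc_26_9 lc_g_rc_21_2 lc_g_rc_21_2 lc_g_rc_24_3 lc_g_Cert_tree lc_g_rc_21_2 lc_g_rc_27_3 lc_g_rc_24_3 lc_g_rc_26_6 lc_g_rc_21_3 lc_g_Cert_tree lc_g_rc_21_2 lc_g_rc_23_1 lc_g_rc_27_9 lc_g_rc_27_9 lc_g_Cert_tree lc_g_rc_27_6 lc_g_Cert_tree lc_g_rc_21_2 lc_g_Cert_tree lc_g_rc_27_3 lc_g_rc_24_1 lc_g_rc_23_9 lc_g_rc_21_3 lc_g_Cert_tree lc_g_rc_21_3 lc_g_rc_24_9 lc_g_Cert_tree lc_g_rc_21_2 lc_g_rc_26_6 lc_g_rc_21_3 lc_g_rc_26_6 lc_g_rc_21_2 lc_g_rc_27_0 lc_g_rc_23_3 lc_g_Cert_tree lc_g_rc_26_3 lc_g_rc_24_9 lc_g_rc_27_6 lc_g_rc_27_6 lc_g_rc_26_9 lc_g_rc_24_7 lc_g_rc_23_7 lc_g_rc_26_0 lc_g_Cert_tree lc_g_rc_23_1 lc_g_rc_21_3 lc_g_rc_23_1 lc_g_rc_21_3 lc_g_Cert_tree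 lc_g_rc_27_0 lc_g_rc_21_2 lc_g_rc_26_6 lc_g_rc_26_3 lc_g_rc_27_6 lc_g_rc_25_3 lc_g_Cert_tree lc_g_rc_24_1 lc_g_rc_21_3) (@D3.rec (fun _ => (Cert rels S Gen.g)) lc_g_Cert_tree lc_g_rc_21_3 lc_g_rc_26_0 lc_g_rc_26_6 lc_g_rc_23_9 lc_g_rc_26_0 lc_g_rc_21_3 lc_g_rc_27_0 lc_g_rc_24_1 lc_g_rc_21_3 lc_g_Cert_tree lc_g_rc_27_6 lc_g_rc_26_0 lc_g_rc_21_2 lc_g_rc_21_2 lc_g_rc_24_3 lc_g_rc_27_0 lc_g_rc_21_3 lc_g_Cert_tree lc_g_rc_27_3 lc_g_rc_23_7 lc_g_rc_21_3 lc_g_Cert_tree lc_g_rc_21_3 lc_g_rc_24_3 lc_g_Cert_tree lc_g_rc_21_2 lc_g_rc_24_3 lc_g_Cert_tree lc_g_Cert_tree lc_g_rc_21_2 lc_g_rc_27_3 lc_g_Cert_tree lc_g_rc_27_6 lc_g_rc_27_9 lc_g_rc_27_6 lc_g_Cert_tree lc_g_Cert_tree lc_g_rc_21_2 lc_g_rc_26_3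 lc_g_rc_27_6 lc_g_rc_21_3 lc_g_Cert_tree lc_g_rc_21_2 lc_g_rc_27_6 lc_g_Cert_tree lc_g_rc_21_2 lc_g_rc_21_3 lc_g_rc_21_3 lc_g_rc_27_3 lc_g_rc_27_9 lc_g_rc_23_3 lc_g_rc_21_3 lc_g_Cert_tree lc_g_rc_21_3 lc_g_rc_27_0 lc_g_Cert_tree lc_g_Cert_tree lc_g_rc_27_9 lc_g_rc_27_6 lc_g_rc_26_0 lc_g_rc_23_3) (@D3.rec (fun _ => (Cert rels S Gen.g)) lc_g_rc_21_3 lc_g_Cert_tree lc_g_Cert_tree lc_g_rc_21_2 lc_g_rc_21_2 lc_g_Cert_tree lc_g_rc_23_9 lc_g_rc_21_2 lc_g_rc_21_3 lc_g_Cert_tree lc_g_rc_26_6 lc_g_rc_26_3 lc_g_rc_21_3 lc_g_rc_24_7 lc_g_rc_27_0 lc_g_rc_27_3 lc_g_Cert_tree lc_g_rc_21_2 lc_g_rc_24_1 lc_g_rc_25_3 lc_g_rc_21_2 lc_g_rc_24_1 lc_g_rc_26_0 lc_g_rc_21_2 lc_g_rc_23_1 lc_g_Cert_tree lc_g_rc_27_9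 lc_g_rc_21_2 lc_g_rc_21_3 lc_g_Cert_tree lc_g_Cert_tree lc_g_Cert_tree lc_g_rc_26_6 lc_g_rc_26_3 lc_g_rc_27_6 lc_g_rc_27_3 lc_g_rc_24_3 lc_g_rc_26_6 lc_g_rc_27_9 lc_g_rc_23_1 lc_g_rc_21_3 lc_g_rc_21_2 lc_g_rc_21_2 lc_g_Cert_tree lc_g_rc_21_3 lc_g_Cert_tree lc_g_rc_21_2 lc_g_rc_27_9 lc_g_rc_27_6 lc_g_rc_26_6 lc_g_rc_24_3 lc_g_rc_21_2 lc_g_rc_27_6 lc_g_rc_23_3 lc_g_rc_21_3 lc_g_rc_27_6 lc_g_rc_21_2 lc_g_rc_24_7 lc_g_rc_26_9 lc_g_rc_26_3 lc_g_rc_21_3 lc_g_rc_21_3) (@D3.rec (fun _ => (Cert rels S Gen.g)) lc_g_Cert_tree lc_g_rc_21_2 lc_g_Cert_tree lc_g_rc_21_3 lc_g_rc_27_3 lc_g_rc_24_7 lc_g_rc_26_6 lc_g_Cert_tree lc_g_rc_24_3 lc_g_rc_27_0 lc_g_rc_21_3 lc_g_rc_24_1 lc_g_rc_27_6 lc_g_rc_26_0 lc_g_rc_24_1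 lc_g_rc_24_7 lc_g_rc_21_2 lc_g_Cert_tree lc_g_rc_26_3 lc_g_rc_21_3 lc_g_rc_21_3 lc_g_rc_21_2 lc_g_rc_24_7 lc_g_Cert_tree lc_g_Cert_tree lc_g_rc_21_3 lc_g_rc_21_2 lc_g_rc_24_9 lc_g_rc_23_7 lc_g_Cert_tree lc_g_rc_21_3 lc_g_Cert_tree lc_g_rc_26_0 lc_g_rc_23_3 lc_g_Cert_tree lc_g_Cert_tree lc_g_rc_23_9 lc_g_Cert_tree lc_g_rc_27_6 lc_g_rc_21_2 lc_g_rc_21_3 lc_g_rc_21_3 lc_g_Cert_tree lc_g_Cert_tree lc_g_rc_21_2 lc_g_rc_21_3 lc_g_rc_26_9 lc_g_rc_26_6 lc_g_rc_27_0 lc_g_rc_27_3 lc_g_rc_26_3 lc_g_rc_27_6 lc_g_rc_27_9 lc_g_rc_21_3 lc_g_Cert_tree lc_g_rc_21_2 lc_g_Cert_tree lc_g_rc_24_9 lc_g_rc_27_0 lc_g_rc_24_1 lc_g_Cert_tree lc_g_Cert_tree) (@D3.rec (fun _ => (Cert rels S Gen.g)) lc_g_rc_27_6 lc_g_Cert_tree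 lc_g_rc_21_2 lc_g_rc_23_3 lc_g_rc_26_9 lc_g_rc_24_1 lc_g_rc_27_0 lc_g_rc_27_0 lc_g_rc_21_3 lc_g_Cert_tree lc_g_Cert_tree lc_g_rc_21_2 lc_g_rc_21_3 lc_g_rc_27_3 lc_g_rc_21_3 lc_g_rc_21_2 lc_g_rc_21_3 lc_g_Cert_tree lc_g_rc_21_2 lc_g_rc_27_3 lc_g_rc_21_3 lc_g_rc_24_7 lc_g_rc_27_3 lc_g_rc_21_2 lc_g_rc_21_3 lc_g_Cert_tree lc_g_rc_21_2 lc_g_rc_26_3 lc_g_rc_21_3 lc_g_Cert_tree lc_g_rc_24_9 lc_g_rc_21_2 lc_g_rc_27_0 lc_g_rc_21_3 lc_g_Cert_tree lc_g_rc_24_1 lc_g_rc_26_9 lc_g_rc_24_1 lc_g_Cert_tree lc_g_Cert_tree lc_g_Cert_tree lc_g_rc_24_1 lc_g_rc_27_3 lc_g_Cert_tree lc_g_Cert_tree lc_g_rc_21_2 lc_g_rc_21_2 lc_g_Cert_tree lc_g_rc_21_2 lc_g_rc_24_7 lc_g_rc_27_0 lc_g_rc_23_9 lc_g_rc_27_0 lc_g_rc_23_9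 lc_g_rc_24_1 lc_g_Cert_tree lc_g_rc_26_3 lc_g_rc_25_7 lc_g_rc_27_6 lc_g_Cert_tree lc_g_Cert_tree lc_g_rc_21_2) (@D3.rec (fun _ => (Cert rels S Gen.g)) lc_g_rc_27_9 lc_g_rc_21_3 lc_g_rc_26_9 lc_g_rc_21_2 lc_g_rc_21_3 lc_g_rc_26_0 lc_g_rc_21_2 lc_g_rc_23_9 lc_g_Cert_tree lc_g_rc_21_3 lc_g_rc_21_2 lc_g_rc_26_3 lc_g_rc_26_3 lc_g_rc_21_3 lc_g_Cert_tree lc_g_Cert_tree lc_g_rc_21_2 lc_g_rc_21_3 lc_g_rc_26_3 lc_g_Cert_tree lc_g_rc_21_2 lc_g_rc_21_2 lc_g_rc_21_3 lc_g_Cert_tree lc_g_rc_26_3 lc_g_rc_21_2 lc_g_rc_24_3 lc_g_rc_26_3 lc_g_Cert_tree lc_g_rc_21_2 lc_g_rc_24_7 lc_g_Cert_tree lc_g_rc_27_3 lc_g_rc_21_3 lc_g_rc_21_3 lc_g_rc_26_3 lc_g_Cert_tree lc_g_rc_21_3 lc_g_rc_27_0 lc_g_rc_21_2 lc_g_rc_21_3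 lc_g_Cert_tree lc_g_rc_23_7 lc_g_rc_27_3 lc_g_Cert_tree lc_g_rc_23_3 lc_g_Cert_tree lc_g_rc_25_19 lc_g_rc_24_7 lc_g_rc_24_3 lc_g_rc_27_0 lc_g_rc_21_3 lc_g_rc_24_3 lc_g_Cert_tree lc_g_rc_25_19 lc_g_rc_24_3 lc_g_rc_27_0 lc_g_rc_21_3 lc_g_Cert_tree lc_g_rc_26_6 lc_g_rc_24_9 lc_g_rc_21_2) (@D3.rec (fun _ => (Cert rels S Gen.g)) lc_g_rc_21_2 lc_g_rc_26_6 lc_g_Cert_tree lc_g_rc_21_2 lc_g_rc_21_2 lc_g_rc_27_6 lc_g_rc_26_6 lc_g_rc_21_2 lc_g_rc_21_3 lc_g_Cert_tree lc_g_rc_21_2 lc_g_rc_24_1 lc_g_rc_27_6 lc_g_rc_26_6 lc_g_rc_21_3 lc_g_rc_21_3 lc_g_Cert_tree lc_g_rc_21_2 lc_g_rc_26_3 lc_g_Cert_tree lc_g_rc_26_6 lc_g_rc_21_3 lc_g_Cert_tree lc_g_rc_21_2 lc_g_rc_21_2 lc_g_Cert_tree lc_g_Cert_tree lc_g_rc_24_3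 lc_g_rc_27_6 lc_g_rc_26_6 lc_g_Cert_tree lc_g_rc_24_3 lc_g_rc_21_3 lc_g_Cert_tree lc_g_rc_27_9 lc_g_rc_21_3 lc_g_Cert_tree lc_g_rc_26_0 lc_g_rc_21_3 lc_g_Cert_tree lc_g_rc_21_2 lc_g_rc_21_2 lc_g_rc_21_2 lc_g_rc_21_3 lc_g_Cert_tree lc_g_rc_21_2 lc_g_rc_24_9 lc_g_Cert_tree lc_g_Cert_tree lc_g_rc_24_3 lc_g_rc_27_0 lc_g_rc_23_1 lc_g_rc_25_19 lc_g_rc_26_3 lc_g_Cert_tree lc_g_rc_27_6 lc_g_rc_24_1 lc_g_rc_23_9 lc_g_rc_27_0 lc_g_rc_26_9 lc_g_rc_27_6 lc_g_rc_26_6) (@D3.rec (fun _ => (Cert rels S Gen.g)) lc_g_rc_24_9 lc_g_rc_21_2 lc_g_rc_21_2 lc_g_rc_21_3 lc_g_Cert_tree lc_g_rc_21_2 lc_g_rc_21_3 lc_g_Cert_tree lc_g_rc_27_6 lc_g_Cert_tree lc_g_rc_23_7 lc_g_rc_24_1 lc_g_rc_26_6 lc_g_Cert_tree lc_g_rc_26_6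 lc_g_rc_24_3 lc_g_rc_24_1 lc_g_rc_21_3 lc_g_Cert_tree lc_g_rc_21_2 lc_g_rc_27_3 lc_g_rc_24_1 lc_g_rc_24_1 lc_g_Cert_tree lc_g_rc_21_3 lc_g_Cert_tree lc_g_rc_21_3 lc_g_rc_21_3 lc_g_rc_26_3 lc_g_rc_26_3 lc_g_rc_21_3 lc_g_rc_21_2 lc_g_rc_21_2 lc_g_rc_21_3 lc_g_Cert_tree lc_g_rc_21_2 lc_g_rc_24_7 lc_g_rc_27_6 lc_g_rc_23_7 lc_g_rc_23_7 lc_g_rc_24_3 lc_g_rc_21_2 lc_g_rc_21_3 lc_g_Cert_tree lc_g_rc_21_3 lc_g_Cert_tree lc_g_Cert_tree lc_g_rc_27_3 lc_g_Cert_tree lc_g_rc_27_0 lc_g_rc_27_0 lc_g_rc_21_2 lc_g_rc_21_3 lc_g_rc_21_3 lc_g_rc_27_6 lc_g_rc_26_6 lc_g_Cert_tree lc_g_rc_24_3 lc_g_Cert_tree lc_g_rc_21_2 lc_g_rc_27_3 lc_g_Cert_tree) (@D3.rec (fun _ => (Cert rels S Gen.g)) lc_g_rc_21_3 lc_g_Cert_tree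 lc_g_rc_27_3 lc_g_rc_21_2 lc_g_rc_21_2 lc_g_rc_26_6 lc_g_rc_27_6 lc_g_rc_21_2 lc_g_Cert_tree lc_g_rc_21_3 lc_g_Cert_tree lc_g_rc_21_2 lc_g_rc_21_3 lc_g_Cert_tree lc_g_Cert_tree lc_g_rc_21_2 lc_g_rc_26_3 lc_g_rc_21_3 lc_g_rc_24_7 lc_g_rc_21_3 lc_g_Cert_tree lc_g_rc_23_1 lc_g_rc_21_2 lc_g_rc_21_3 lc_g_Cert_tree lc_g_rc_26_6 lc_g_rc_21_2 lc_g_rc_21_3 lc_g_rc_21_2 lc_g_rc_21_3 lc_g_Cert_tree lc_g_rc_21_2 lc_g_rc_21_3 lc_g_rc_24_1 lc_g_rc_23_3 lc_g_rc_21_3 lc_g_rc_26_6 lc_g_rc_21_2 lc_g_Cert_tree lc_g_rc_24_7 lc_g_rc_27_0 lc_g_rc_23_1 lc_g_rc_26_3 lc_g_Cert_tree lc_g_rc_24_3 lc_g_rc_21_2 lc_g_rc_26_3 lc_g_rc_24_9 lc_g_rc_26_3 lc_g_rc_21_3 lc_g_Cert_tree lc_g_Cert_tree lc_g_rc_21_2 lc_g_rc_21_3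 lc_g_Cert_tree lc_g_rc_24_9 lc_g_rc_26_6 lc_g_Cert_tree lc_g_rc_21_2 lc_g_rc_21_2 lc_g_Cert_tree lc_g_rc_24_9) (@D3.rec (fun _ => (Cert rels S Gen.g)) lc_g_rc_27_6 lc_g_rc_27_6 lc_g_Cert_tree lc_g_rc_27_9 lc_g_rc_23_7 lc_g_Cert_tree lc_g_Cert_tree lc_g_rc_27_6 lc_g_Cert_tree lc_g_Cert_tree lc_g_rc_26_3 lc_g_Cert_tree lc_g_rc_26_0 lc_g_rc_23_3 lc_g_rc_24_3 lc_g_rc_24_9 lc_g_rc_21_2 lc_g_rc_26_9 lc_g_Cert_tree lc_g_Cert_tree lc_g_rc_21_3 lc_g_rc_27_3 lc_g_rc_21_2 lc_g_rc_21_2 lc_g_rc_27_9 lc_g_rc_21_2 lc_g_rc_21_2 lc_g_rc_21_3 lc_g_rc_27_6 lc_g_rc_26_6 lc_g_rc_21_2 lc_g_rc_26_0 lc_g_rc_24_3 lc_g_rc_26_6 lc_g_rc_21_3 lc_g_Cert_tree lc_g_rc_21_2 lc_g_rc_26_6 lc_g_rc_27_0 lc_g_rc_23_3 lc_g_rc_23_1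 lc_g_rc_21_2 lc_g_rc_21_3 lc_g_Cert_tree lc_g_rc_21_2 lc_g_rc_26_9 lc_g_Cert_tree lc_g_rc_21_2 lc_g_rc_23_9 lc_g_rc_21_2 lc_g_rc_21_3 lc_g_rc_21_3 lc_g_Cert_tree lc_g_Cert_tree lc_g_Cert_tree lc_g_rc_25_3 lc_g_Cert_tree lc_g_Cert_tree lc_g_Cert_tree lc_g_rc_27_3 lc_g_Cert_tree lc_g_rc_26_0) (@D3.rec (fun _ => (Cert rels S Gen.g)) lc_g_Cert_tree lc_g_rc_21_2 lc_g_rc_26_3 lc_g_rc_27_0 lc_g_rc_27_9 lc_g_rc_23_1 lc_g_rc_21_2 lc_g_rc_26_3 lc_g_rc_21_2 lc_g_rc_21_2 lc_g_rc_21_3 lc_g_Cert_tree lc_g_rc_26_3 lc_g_rc_26_6 lc_g_rc_26_3 lc_g_Cert_tree lc_g_rc_21_3 lc_g_rc_24_7 lc_g_Cert_tree lc_g_rc_24_7 lc_g_Cert_tree lc_g_rc_21_3 lc_g_Cert_tree lc_g_rc_23_7 lc_g_rc_24_9 lc_g_rc_26_9 lc_g_rc_21_3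 lc_g_Cert_tree lc_g_rc_26_6 lc_g_rc_27_6 lc_g_Cert_tree lc_g_Cert_tree lc_g_rc_21_2 lc_g_rc_21_3 lc_g_rc_21_3 lc_g_rc_23_7 lc_g_rc_23_7 lc_g_rc_24_7 lc_g_rc_27_3 lc_g_rc_27_9 lc_g_Cert_tree lc_g_rc_26_3 lc_g_rc_27_0 lc_g_Cert_tree lc_g_rc_24_1 lc_g_rc_27_6 lc_g_Cert_tree lc_g_rc_26_6 lc_g_rc_26_6 lc_g_rc_26_6 lc_g_rc_24_1 lc_g_rc_27_6 lc_g_rc_27_0 lc_g_rc_23_1 lc_g_rc_27_6 lc_g_rc_27_0 lc_g_rc_26_3 lc_g_rc_21_2 lc_g_rc_21_2 lc_g_Cert_tree lc_g_Cert_tree lc_g_rc_27_6) (@D3.rec (fun _ => (Cert rels S Gen.g)) lc_g_rc_23_1 lc_g_Cert_tree lc_g_rc_21_2 lc_g_rc_23_1 lc_g_rc_26_6 lc_g_rc_26_6 lc_g_Cert_tree lc_g_Cert_tree lc_g_rc_21_2 lc_g_rc_21_2 lc_g_Cert_tree lc_g_rc_21_2 lc_g_rc_24_9 lc_g_Cert_tree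 lc_g_Cert_tree lc_g_Cert_tree lc_g_Cert_tree lc_g_rc_27_6 lc_g_Cert_tree lc_g_rc_21_2 lc_g_rc_21_3 lc_g_rc_21_2 lc_g_Cert_tree lc_g_rc_24_1 lc_g_rc_27_0 lc_g_rc_21_2 lc_g_rc_24_7 lc_g_rc_27_6 lc_g_rc_21_2 lc_g_rc_24_7 lc_g_rc_21_2 lc_g_rc_21_3 lc_g_Cert_tree lc_g_Cert_tree lc_g_rc_21_2 lc_g_rc_21_2 lc_g_rc_21_2 lc_g_rc_27_3 lc_g_rc_26_3 lc_g_rc_21_2 lc_g_rc_21_2 lc_g_rc_21_2 lc_g_Cert_tree lc_g_rc_23_9 lc_g_rc_21_2 lc_g_rc_27_0 lc_g_Cert_tree lc_g_Cert_tree lc_g_rc_26_3 lc_g_rc_21_3 lc_g_Cert_tree lc_g_rc_21_2 lc_g_rc_27_9 lc_g_rc_21_3 lc_g_Cert_tree lc_g_rc_27_6 lc_g_Cert_tree lc_g_rc_24_1 lc_g_rc_27_6 lc_g_Cert_tree lc_g_rc_27_6 lc_g_rc_26_6) (@D3.rec (fun _ => (Cert rels S Gen.g)) lc_g_rc_24_7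 lc_g_rc_27_6 lc_g_rc_23_1 lc_g_rc_24_9 lc_g_rc_23_1 lc_g_Cert_tree lc_g_Cert_tree lc_g_rc_21_3 lc_g_rc_27_0 lc_g_Cert_tree lc_g_rc_24_3 lc_g_rc_27_3 lc_g_rc_27_3 lc_g_rc_24_9 lc_g_rc_26_3 lc_g_rc_26_6 lc_g_Cert_tree lc_g_rc_24_7 lc_g_rc_21_2 lc_g_Cert_tree lc_g_rc_27_6 lc_g_Cert_tree lc_g_rc_26_6 lc_g_rc_24_1 lc_g_rc_24_1 lc_g_rc_21_3 lc_g_rc_21_3 lc_g_rc_21_3 lc_g_rc_27_9 lc_g_rc_24_7 lc_g_rc_27_3 lc_g_rc_21_2 lc_g_rc_26_3 lc_g_Cert_tree lc_g_rc_26_6 lc_g_rc_23_9 lc_g_Cert_tree lc_g_rc_24_9 lc_g_Cert_tree lc_g_rc_24_3 lc_g_Cert_tree lc_g_rc_27_0 lc_g_rc_24_7 lc_g_rc_27_0 lc_g_rc_27_3 lc_g_rc_21_2 lc_g_rc_24_7 lc_g_rc_24_7 lc_g_rc_27_0 lc_g_rc_21_3 lc_g_Cert_tree lc_g_Cert_tree lc_g_Cert_tree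 lc_g_rc_24_7 lc_g_rc_23_1 lc_g_Cert_tree lc_g_rc_24_3 lc_g_rc_26_6 lc_g_rc_21_3 lc_g_Cert_tree lc_g_rc_21_2 lc_g_rc_24_7) (@D3.rec (fun _ => (Cert rels S Gen.g)) lc_g_rc_27_6 lc_g_rc_26_9 lc_g_Cert_tree lc_g_rc_21_3 lc_g_Cert_tree lc_g_rc_21_2 lc_g_Cert_tree lc_g_rc_24_3 lc_g_Cert_tree lc_g_rc_21_3 lc_g_Cert_tree lc_g_rc_21_2 lc_g_Cert_tree lc_g_Cert_tree lc_g_rc_21_3 lc_g_Cert_tree lc_g_rc_21_2 lc_g_rc_21_2 lc_g_rc_21_2 lc_g_Cert_tree lc_g_rc_27_6 lc_g_rc_21_3 lc_g_Cert_tree lc_g_rc_21_2 lc_g_Cert_tree lc_g_Cert_tree lc_g_Cert_tree lc_g_rc_27_0 lc_g_rc_26_6 lc_g_rc_24_1 lc_g_rc_21_3 lc_g_Cert_tree lc_g_rc_21_2 lc_g_rc_27_0 lc_g_rc_21_3 lc_g_rc_27_6 lc_g_rc_21_2 lc_g_rc_21_2 lc_g_Cert_tree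 lc_g_rc_27_9 lc_g_Cert_tree lc_g_rc_26_6 lc_g_rc_21_3 lc_g_Cert_tree lc_g_rc_21_2 lc_g_rc_21_3 lc_g_Cert_tree lc_g_Cert_tree lc_g_rc_21_3 lc_g_rc_21_2 lc_g_rc_25_3 lc_g_Cert_tree lc_g_rc_21_3 lc_g_Cert_tree lc_g_rc_23_3 lc_g_rc_21_2 lc_g_rc_21_3 lc_g_Cert_tree lc_g_rc_21_2 lc_g_rc_24_1 lc_g_rc_26_6 lc_g_rc_21_3) (@D3.rec (fun _ => (Cert rels S Gen.g)) lc_g_Cert_tree lc_g_rc_21_2 lc_g_rc_24_7 lc_g_rc_27_0 lc_g_rc_26_9 lc_g_rc_27_9 lc_g_Cert_tree lc_g_rc_23_9 lc_g_rc_23_9 lc_g_rc_21_3 lc_g_rc_21_2 lc_g_Cert_tree lc_g_rc_21_2 lc_g_rc_21_3 lc_g_rc_27_6 lc_g_rc_27_0 lc_g_rc_23_7 lc_g_rc_26_3 lc_g_rc_21_2 lc_g_rc_26_6 lc_g_rc_23_3 lc_g_Cert_tree lc_g_rc_21_3 lc_g_rc_26_9 lc_g_rc_23_7 lc_g_rc_27_3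 lc_g_rc_21_3 lc_g_Cert_tree lc_g_rc_21_2 lc_g_rc_21_2 lc_g_rc_21_3 lc_g_Cert_tree lc_g_rc_25_3 lc_g_rc_21_3 lc_g_Cert_tree lc_g_rc_21_2 lc_g_rc_23_7 lc_g_rc_27_0 lc_g_rc_27_6 lc_g_rc_21_3 lc_g_Cert_tree lc_g_rc_23_7 lc_g_rc_21_2 lc_g_rc_21_3 lc_g_Cert_tree lc_g_rc_21_2 lc_g_Cert_tree lc_g_rc_21_2 lc_g_rc_27_6 lc_g_rc_21_2 lc_g_rc_23_9 lc_g_Cert_tree lc_g_rc_21_3 lc_g_rc_21_2 lc_g_rc_26_3 lc_g_rc_25_19 lc_g_Cert_tree lc_g_rc_21_2 lc_g_rc_26_3 lc_g_rc_26_3 lc_g_rc_25_19 lc_g_rc_26_3) (@D3.rec (fun _ => (Cert rels S Gen.g)) lc_g_rc_21_2 lc_g_rc_21_3 lc_g_Cert_tree lc_g_rc_25_19 lc_g_Cert_tree lc_g_rc_21_2 lc_g_rc_27_6 lc_g_rc_23_7 lc_g_rc_27_9 lc_g_rc_21_3 lc_g_Cert_tree lc_g_rc_21_2 lc_g_rc_23_3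 lc_g_rc_21_3 lc_g_Cert_tree lc_g_rc_21_2 lc_g_rc_24_3 lc_g_rc_21_3 lc_g_Cert_tree lc_g_rc_21_2 lc_g_rc_21_2 lc_g_rc_21_3 lc_g_Cert_tree lc_g_rc_21_2 lc_g_rc_23_9 lc_g_Cert_tree lc_g_Cert_tree lc_g_rc_21_3 lc_g_Cert_tree lc_g_Cert_tree lc_g_rc_21_2 lc_g_rc_21_3 lc_g_rc_21_3 lc_g_Cert_tree lc_g_rc_21_2 lc_g_rc_21_2 lc_g_rc_21_2 lc_g_rc_21_3 lc_g_Cert_tree lc_g_rc_21_2 lc_g_Cert_tree lc_g_Cert_tree lc_g_rc_23_3 lc_g_rc_21_2 lc_g_rc_21_2 lc_g_rc_26_6 lc_g_rc_24_3 lc_g_Cert_tree lc_g_rc_21_2 lc_g_rc_26_3 lc_g_rc_21_3 lc_g_rc_26_3 lc_g_Cert_tree lc_g_rc_23_7 lc_g_rc_24_9 lc_g_rc_21_2 lc_g_rc_21_3 lc_g_Cert_tree lc_g_rc_27_3 lc_g_Cert_tree lc_g_rc_26_3 lc_g_rc_26_6) (@D3.rec (fun _ => (Cert rels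 S Gen.g)) lc_g_Cert_tree lc_g_rc_25_3 lc_g_rc_25_3 lc_g_rc_21_3 lc_g_Cert_tree lc_g_rc_21_2 lc_g_rc_21_2 lc_g_rc_21_3 lc_g_Cert_tree lc_g_rc_21_2 lc_g_Cert_tree lc_g_rc_21_2 lc_g_rc_27_0 lc_g_rc_21_3 lc_g_Cert_tree lc_g_rc_21_2 lc_g_rc_23_7 lc_g_Cert_tree lc_g_Cert_tree lc_g_rc_21_3 lc_g_Cert_tree lc_g_Cert_tree lc_g_rc_21_2 lc_g_rc_21_3 lc_g_rc_26_9 lc_g_rc_21_3 lc_g_Cert_tree lc_g_rc_21_2 lc_g_rc_21_2 lc_g_Cert_tree lc_g_rc_26_6 lc_g_rc_27_6 lc_g_Cert_tree lc_g_rc_21_3 lc_g_rc_21_3 lc_g_Cert_tree lc_g_rc_21_2 lc_g_rc_21_3 lc_g_Cert_tree lc_g_rc_24_7 lc_g_rc_23_3 lc_g_rc_21_2 lc_g_rc_21_3 lc_g_Cert_tree lc_g_rc_21_2 lc_g_rc_21_2 lc_g_rc_26_3 lc_g_rc_27_6 lc_g_rc_24_1 lc_g_rc_21_2 lc_g_rc_21_2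 lc_g_rc_21_3 lc_g_Cert_tree lc_g_Cert_tree lc_g_rc_21_2 lc_g_rc_26_3 lc_g_rc_26_6 lc_g_rc_21_2 lc_g_Cert_tree lc_g_rc_21_3 lc_g_Cert_tree lc_g_Cert_tree) (@D3.rec (fun _ => (Cert rels S Gen.g)) lc_g_rc_21_3 lc_g_Cert_tree lc_g_Cert_tree lc_g_rc_21_2 lc_g_rc_26_0 lc_g_rc_24_7 lc_g_rc_26_6 lc_g_rc_24_3 lc_g_rc_21_3 lc_g_Cert_tree lc_g_Cert_tree lc_g_rc_21_2 lc_g_rc_21_2 lc_g_rc_23_7 lc_g_rc_26_3 lc_g_rc_27_9 lc_g_rc_24_3 lc_g_rc_21_3 lc_g_Cert_tree lc_g_Cert_tree lc_g_rc_21_2 lc_g_rc_24_9 lc_g_Cert_tree lc_g_rc_27_9 lc_g_rc_24_9 lc_g_Cert_tree lc_g_rc_21_3 lc_g_rc_27_0 lc_g_rc_21_3 lc_g_Cert_tree lc_g_rc_21_2 lc_g_rc_21_2 lc_g_rc_26_6 lc_g_rc_21_2 lc_g_rc_21_3 lc_g_Cert_tree lc_g_rc_21_2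 lc_g_rc_26_6 lc_g_rc_27_6 lc_g_rc_26_6 lc_g_rc_26_3 lc_g_rc_23_7 lc_g_rc_27_6 lc_g_rc_26_0 lc_g_rc_23_7 lc_g_rc_26_3 lc_g_rc_21_2 lc_g_Cert_tree lc_g_rc_21_3 lc_g_Cert_tree lc_g_Cert_tree lc_g_Cert_tree lc_g_rc_21_3 lc_g_Cert_tree lc_g_Cert_tree lc_g_rc_26_6 lc_g_rc_21_3 lc_g_Cert_tree lc_g_rc_21_2 lc_g_rc_21_2 lc_g_Cert_tree lc_g_rc_23_3) (@D3.rec (fun _ => (Cert rels S Gen.g)) lc_g_rc_21_2 lc_g_rc_21_3 lc_g_rc_23_3 lc_g_rc_21_3 lc_g_Cert_tree lc_g_rc_23_9 lc_g_rc_21_2 lc_g_rc_21_3 lc_g_rc_21_3 lc_g_rc_27_6 lc_g_rc_26_3 lc_g_rc_21_3 lc_g_Cert_tree lc_g_rc_21_2 lc_g_Cert_tree lc_g_Cert_tree lc_g_rc_24_3 lc_g_rc_27_0 lc_g_rc_24_1 lc_g_rc_27_9 lc_g_rc_21_3 lc_g_Cert_tree lc_g_rc_21_2 lc_g_Cert_tree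 lc_g_Cert_tree lc_g_rc_21_3 lc_g_Cert_tree lc_g_rc_26_3 lc_g_rc_26_3 lc_g_rc_26_9 lc_g_Cert_tree lc_g_rc_26_0 lc_g_rc_21_3 lc_g_rc_23_1 lc_g_Cert_tree lc_g_rc_26_3 lc_g_Cert_tree lc_g_rc_26_6 lc_g_Cert_tree lc_g_rc_25_15 lc_g_rc_23_7 lc_g_rc_21_2 lc_g_Cert_tree lc_g_Cert_tree lc_g_rc_27_6 lc_g_rc_24_3 lc_g_rc_23_9 lc_g_Cert_tree lc_g_rc_26_6 lc_g_rc_23_3 lc_g_rc_24_3 lc_g_rc_21_3 lc_g_Cert_tree lc_g_rc_24_3 lc_g_rc_27_3 lc_g_rc_26_3 lc_g_rc_24_1 lc_g_rc_23_9 lc_g_rc_26_3 lc_g_rc_24_9 lc_g_Cert_tree lc_g_rc_23_9) (@D3.rec (fun _ => (Cert rels S Gen.g)) lc_g_Cert_tree lc_g_rc_27_6 lc_g_rc_27_3 lc_g_rc_24_1 lc_g_rc_26_6 lc_g_rc_21_2 lc_g_Cert_tree lc_g_Cert_tree lc_g_rc_21_2 lc_g_rc_26_6 lc_g_rc_21_3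 lc_g_Cert_tree lc_g_Cert_tree lc_g_rc_21_2 lc_g_rc_24_3 lc_g_Cert_tree lc_g_Cert_tree lc_g_rc_21_2 lc_g_rc_26_6 lc_g_rc_24_3 lc_g_rc_24_3 lc_g_rc_26_3 lc_g_rc_23_7 lc_g_Cert_tree lc_g_rc_24_3 lc_g_rc_21_2 lc_g_Cert_tree lc_g_rc_24_1 lc_g_rc_24_3 lc_g_rc_23_3 lc_g_rc_26_9 lc_g_rc_24_3 lc_g_Cert_tree lc_g_rc_26_3 lc_g_Cert_tree lc_g_rc_23_7 lc_g_rc_26_3 lc_g_rc_21_3 lc_g_Cert_tree lc_g_rc_26_6 lc_g_Cert_tree lc_g_rc_27_6 lc_g_Cert_tree lc_g_rc_23_9 lc_g_rc_21_3 lc_g_rc_21_2 lc_g_rc_23_7 lc_g_rc_26_3 lc_g_rc_23_7 lc_g_Cert_tree lc_g_Cert_tree lc_g_rc_21_3 lc_g_rc_26_6 lc_g_rc_26_9 lc_g_rc_24_3 lc_g_rc_21_3 lc_g_Cert_tree lc_g_rc_26_3 lc_g_rc_21_2 lc_g_rc_26_3 lc_g_rc_21_3 lc_g_Cert_tree) (@D3.rec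 (fun _ => (Cert rels S Gen.g)) lc_g_Cert_tree lc_g_rc_27_6 lc_g_Cert_tree lc_g_rc_21_2 lc_g_rc_21_2 lc_g_rc_21_3 lc_g_Cert_tree lc_g_rc_27_3 lc_g_rc_21_2 lc_g_rc_21_2 lc_g_rc_25_7 lc_g_rc_21_3 lc_g_rc_26_3 lc_g_Cert_tree lc_g_rc_26_9 lc_g_rc_26_3 lc_g_rc_24_1 lc_g_rc_21_3 lc_g_rc_21_3 lc_g_rc_26_0 lc_g_rc_23_1 lc_g_rc_27_6 lc_g_rc_26_3 lc_g_rc_21_3 lc_g_rc_23_9 lc_g_rc_21_2 lc_g_rc_21_2 lc_g_rc_21_3 lc_g_rc_21_3 lc_g_rc_25_3 lc_g_rc_26_0 lc_g_Cert_tree lc_g_rc_21_2 lc_g_rc_24_1 lc_g_rc_21_2 lc_g_rc_24_3 lc_g_Cert_tree lc_g_rc_21_3 lc_g_rc_21_2 lc_g_rc_21_3 lc_g_Cert_tree lc_g_rc_23_1 lc_g_rc_27_6 lc_g_rc_26_6 lc_g_Cert_tree lc_g_rc_26_0 lc_g_rc_23_1 lc_g_Cert_tree lc_g_rc_27_9 lc_g_Cert_tree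 lc_g_rc_21_3 lc_g_rc_21_2 lc_g_rc_26_6 lc_g_rc_21_2 lc_g_rc_21_3 lc_g_Cert_tree lc_g_rc_21_2 lc_g_rc_25_11 lc_g_rc_21_3 lc_g_Cert_tree lc_g_rc_23_3 lc_g_rc_23_1) (@D3.rec (fun _ => (Cert rels S Gen.g)) lc_g_rc_23_9 lc_g_rc_21_3 lc_g_Cert_tree lc_g_Cert_tree lc_g_rc_21_2 lc_g_rc_21_3 lc_g_Cert_tree lc_g_Cert_tree lc_g_rc_21_3 lc_g_Cert_tree lc_g_rc_23_9 lc_g_rc_21_3 lc_g_Cert_tree lc_g_rc_21_3 lc_g_rc_23_1 lc_g_Cert_tree lc_g_rc_21_3 lc_g_rc_23_3 lc_g_rc_23_9 lc_g_Cert_tree lc_g_rc_27_3 lc_g_rc_24_3 lc_g_rc_27_9 lc_g_rc_24_1 lc_g_rc_24_1 lc_g_rc_21_2 lc_g_Cert_tree lc_g_rc_21_2 lc_g_rc_26_3 lc_g_rc_27_3 lc_g_rc_23_3 lc_g_rc_23_3 lc_g_rc_24_3 lc_g_rc_21_3 lc_g_Cert_tree lc_g_Cert_tree lc_g_rc_26_6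 lc_g_rc_27_0 lc_g_rc_25_3 lc_g_Cert_tree lc_g_rc_24_7 lc_g_rc_26_3 lc_g_rc_21_3 lc_g_rc_27_3 lc_g_rc_26_3 lc_g_rc_21_3 lc_g_Cert_tree lc_g_rc_21_2 lc_g_rc_21_2 lc_g_Cert_tree lc_g_rc_21_3 lc_g_Cert_tree lc_g_rc_21_2 lc_g_rc_26_3 lc_g_rc_21_3 lc_g_Cert_tree lc_g_rc_21_2 lc_g_rc_23_7 lc_g_rc_25_7 lc_g_Cert_tree lc_g_rc_21_3 lc_g_Cert_tree) (@D3.rec (fun _ => (Cert rels S Gen.g)) lc_g_rc_26_9 lc_g_rc_23_3 lc_g_rc_26_6 lc_g_Cert_tree lc_g_rc_21_2 lc_g_Cert_tree lc_g_rc_26_9 lc_g_rc_23_1 lc_g_Cert_tree lc_g_rc_26_3 lc_g_rc_23_3 lc_g_rc_21_2 lc_g_rc_21_3 lc_g_Cert_tree lc_g_rc_21_2 lc_g_rc_23_1 lc_g_Cert_tree lc_g_Cert_tree lc_g_rc_24_3 lc_g_rc_24_3 lc_g_rc_23_3 lc_g_Cert_tree lc_g_rc_24_3 lc_g_rc_25_15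 lc_g_rc_23_3 lc_g_rc_21_3 lc_g_rc_23_3 lc_g_Cert_tree lc_g_rc_26_9 lc_g_rc_26_0 lc_g_rc_26_3 lc_g_rc_21_3 lc_g_rc_27_6 lc_g_rc_21_3 lc_g_Cert_tree lc_g_rc_26_9 lc_g_Cert_tree lc_g_Cert_tree lc_g_rc_26_0 lc_g_Cert_tree lc_g_rc_25_7 lc_g_rc_21_2 lc_g_Cert_tree lc_g_rc_21_3 lc_g_rc_27_3 lc_g_rc_21_2 lc_g_rc_21_3 lc_g_rc_26_3 lc_g_rc_24_1 lc_g_rc_24_9 lc_g_rc_21_2 lc_g_rc_24_3 lc_g_rc_21_3 lc_g_rc_26_9 lc_g_rc_24_3 lc_g_rc_24_1 lc_g_rc_26_0 lc_g_rc_27_0 lc_g_rc_21_3 lc_g_rc_21_2 lc_g_rc_24_9 lc_g_rc_23_3) (@D3.rec (fun _ => (Cert rels S Gen.g)) lc_g_rc_21_3 lc_g_Cert_tree lc_g_rc_21_2 lc_g_rc_21_2 lc_g_Cert_tree lc_g_rc_21_2 lc_g_rc_21_2 lc_g_rc_21_3 lc_g_Cert_tree lc_g_rc_26_9 lc_g_rc_26_6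 lc_g_Cert_tree lc_g_Cert_tree lc_g_Cert_tree lc_g_rc_27_3 lc_g_rc_21_3 lc_g_Cert_tree lc_g_rc_21_2 lc_g_Cert_tree lc_g_Cert_tree lc_g_rc_21_3 lc_g_Cert_tree lc_g_rc_21_2 lc_g_Cert_tree lc_g_rc_21_3 lc_g_rc_21_2 lc_g_rc_24_7 lc_g_rc_26_9 lc_g_rc_27_6 lc_g_Cert_tree lc_g_rc_26_3 lc_g_rc_21_2 lc_g_rc_27_0 lc_g_rc_21_3 lc_g_Cert_tree lc_g_Cert_tree lc_g_rc_21_2 lc_g_rc_27_3 lc_g_Cert_tree lc_g_rc_21_2 lc_g_rc_26_9 lc_g_rc_21_2 lc_g_rc_21_3 lc_g_rc_21_2 lc_g_Cert_tree lc_g_rc_27_6 lc_g_rc_24_9 lc_g_Cert_tree lc_g_rc_26_0 lc_g_rc_21_3 lc_g_rc_27_6 lc_g_rc_21_3 lc_g_rc_26_6 lc_g_rc_23_1 lc_g_rc_23_9 lc_g_Cert_tree lc_g_rc_21_3 lc_g_rc_21_3 lc_g_rc_27_6 lc_g_Cert_tree lc_g_rc_27_3 lc_g_rc_27_9)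 (@D3.rec (fun _ => (Cert rels S Gen.g)) lc_g_rc_21_2 lc_g_rc_27_6 lc_g_rc_27_3 lc_g_rc_26_9 lc_g_rc_27_0 lc_g_rc_24_9 lc_g_rc_26_9 lc_g_rc_21_3 lc_g_rc_21_3 lc_g_Cert_tree lc_g_rc_21_2 lc_g_Cert_tree lc_g_rc_26_6 lc_g_rc_26_9 lc_g_Cert_tree lc_g_rc_27_6 lc_g_rc_21_3 lc_g_rc_23_7 lc_g_rc_21_3 lc_g_rc_26_3 lc_g_rc_21_2 lc_g_rc_26_6 lc_g_rc_21_2 lc_g_Cert_tree lc_g_rc_21_2 lc_g_rc_27_6 lc_g_Cert_tree lc_g_rc_21_3 lc_g_Cert_tree lc_g_rc_21_2 lc_g_Cert_tree lc_g_rc_21_3 lc_g_rc_27_0 lc_g_rc_21_2 lc_g_rc_27_6 lc_g_Cert_tree lc_g_Cert_tree lc_g_rc_24_7 lc_g_rc_21_3 lc_g_Cert_tree lc_g_rc_27_3 lc_g_Cert_tree lc_g_rc_21_3 lc_g_rc_27_3 lc_g_rc_21_3 lc_g_rc_23_3 lc_g_rc_26_9 lc_g_rc_27_3 lc_g_rc_23_9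 lc_g_rc_27_6 lc_g_rc_26_6 lc_g_rc_27_3 lc_g_rc_24_3 lc_g_rc_24_3 lc_g_rc_27_9 lc_g_rc_23_7 lc_g_rc_27_6 lc_g_rc_27_9 lc_g_rc_21_2 lc_g_rc_26_6 lc_g_Cert_tree lc_g_rc_26_0) (@D3.rec (fun _ => (Cert rels S Gen.g)) lc_g_rc_24_1 lc_g_rc_23_9 lc_g_rc_21_3 lc_g_rc_21_2 lc_g_rc_21_2 lc_g_rc_27_9 lc_g_rc_21_3 lc_g_rc_27_9 lc_g_rc_21_2 lc_g_rc_21_3 lc_g_Cert_tree lc_g_rc_21_2 lc_g_rc_24_7 lc_g_rc_24_9 lc_g_Cert_tree lc_g_rc_24_1 lc_g_rc_24_7 lc_g_rc_21_3 lc_g_rc_27_6 lc_g_rc_27_6 lc_g_Cert_tree lc_g_rc_21_3 lc_g_rc_21_2 lc_g_Cert_tree lc_g_rc_27_3 lc_g_rc_26_6 lc_g_rc_26_0 lc_g_rc_26_3 lc_g_rc_27_6 lc_g_rc_21_3 lc_g_Cert_tree lc_g_rc_24_3 lc_g_rc_21_2 lc_g_rc_24_7 lc_g_rc_24_3 lc_g_rc_27_6 lc_g_rc_21_3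 lc_g_Cert_tree lc_g_Cert_tree lc_g_rc_27_6 lc_g_Cert_tree lc_g_rc_26_3 lc_g_rc_23_7 lc_g_rc_21_2 lc_g_rc_23_7 lc_g_rc_23_3 lc_g_Cert_tree lc_g_rc_24_3 lc_g_rc_21_2 lc_g_rc_23_9 lc_g_Cert_tree lc_g_Cert_tree lc_g_rc_21_2 lc_g_rc_23_1 lc_g_rc_27_3 lc_g_rc_21_3 lc_g_rc_23_9 lc_g_rc_26_0 lc_g_rc_23_9 lc_g_Cert_tree lc_g_Cert_tree lc_g_rc_21_2) (@D3.rec (fun _ => (Cert rels S Gen.g)) lc_g_rc_21_2 lc_g_rc_21_3 lc_g_Cert_tree lc_g_rc_23_7 lc_g_rc_23_3 lc_g_rc_26_9 lc_g_rc_27_6 lc_g_rc_23_3 lc_g_rc_24_3 lc_g_rc_27_6 lc_g_rc_27_6 lc_g_rc_21_2 lc_g_rc_23_3 lc_g_rc_26_0 lc_g_rc_26_3 lc_g_rc_27_3 lc_g_rc_26_0 lc_g_rc_21_3 lc_g_rc_21_2 lc_g_rc_27_0 lc_g_rc_21_2 lc_g_rc_27_9 lc_g_rc_27_0 lc_g_rc_21_3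 lc_g_Cert_tree lc_g_rc_27_6 lc_g_rc_21_3 lc_g_rc_27_3 lc_g_rc_24_1 lc_g_rc_23_1 lc_g_rc_27_0 lc_g_rc_27_6 lc_g_Cert_tree lc_g_rc_21_2 lc_g_rc_27_3 lc_g_rc_21_2 lc_g_rc_21_2 lc_g_rc_27_3 lc_g_rc_21_2 lc_g_Cert_tree lc_g_rc_26_0 lc_g_Cert_tree lc_g_rc_21_2 lc_g_rc_27_0 lc_g_rc_21_3 lc_g_rc_26_6 lc_g_Cert_tree lc_g_rc_21_2 lc_g_rc_27_3 lc_g_Cert_tree lc_g_rc_21_2 lc_g_rc_26_3 lc_g_rc_26_9 lc_g_rc_23_7 lc_g_rc_26_6 lc_g_rc_21_3 lc_g_Cert_tree lc_g_rc_21_3 lc_g_Cert_tree lc_g_rc_24_3 lc_g_rc_21_3 lc_g_rc_27_3) (@D3.rec (fun _ => (Cert rels S Gen.g)) lc_g_rc_21_3 lc_g_rc_21_3 lc_g_Cert_tree lc_g_rc_27_6 lc_g_Cert_tree lc_g_rc_24_9 lc_g_rc_24_3 lc_g_rc_23_7 lc_g_Cert_tree lc_g_rc_21_3 lc_g_rc_24_1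 lc_g_rc_23_1 lc_g_rc_26_6 lc_g_rc_21_3 lc_g_Cert_tree lc_g_rc_24_3 lc_g_rc_21_2 lc_g_rc_26_9 lc_g_rc_21_2 lc_g_rc_23_3 lc_g_rc_24_1 lc_g_rc_26_9 lc_g_rc_23_7 lc_g_rc_24_7 lc_g_rc_26_6 lc_g_rc_26_3 lc_g_rc_27_0 lc_g_rc_27_0 lc_g_Cert_tree lc_g_rc_21_2 lc_g_rc_21_3 lc_g_Cert_tree lc_g_Cert_tree lc_g_Cert_tree lc_g_rc_24_3 lc_g_Cert_tree lc_g_rc_21_2 lc_g_rc_27_9 lc_g_rc_21_2 lc_g_Cert_tree lc_g_rc_24_7 lc_g_rc_26_3 lc_g_rc_27_9 lc_g_rc_23_3 lc_g_rc_27_6 lc_g_rc_26_0 lc_g_rc_23_9 lc_g_rc_27_0 lc_g_rc_27_0 lc_g_rc_21_3 lc_g_Cert_tree lc_g_rc_21_2 lc_g_rc_21_2 lc_g_rc_24_7 lc_g_rc_24_1 lc_g_rc_27_9 lc_g_rc_23_1 lc_g_rc_21_3 lc_g_Cert_tree lc_g_rc_21_3 lc_g_rc_21_2 lc_g_rc_27_3) (@D3.rec (fun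 _ => (Cert rels S Gen.g)) lc_g_rc_21_2 lc_g_rc_27_0 lc_g_rc_27_6 lc_g_rc_27_6 lc_g_rc_26_6 lc_g_rc_27_6 lc_g_rc_27_9 lc_g_rc_24_1 lc_g_Cert_tree lc_g_rc_24_7 lc_g_rc_21_2 lc_g_rc_26_0 lc_g_rc_21_3 lc_g_rc_27_9 lc_g_rc_26_9 lc_g_rc_25_15 lc_g_Cert_tree lc_g_rc_27_3 lc_g_Cert_tree lc_g_rc_26_0 lc_g_rc_26_0 lc_g_rc_23_7 lc_g_rc_27_6 lc_g_rc_21_3 lc_g_rc_21_2 lc_g_rc_26_6 lc_g_rc_21_2 lc_g_rc_26_0 lc_g_rc_27_6 lc_g_Cert_tree lc_g_Cert_tree lc_g_rc_21_3 lc_g_rc_21_2 lc_g_rc_23_3 lc_g_rc_27_0 lc_g_rc_26_0 lc_g_rc_21_2 lc_g_rc_26_3 lc_g_rc_27_0 lc_g_rc_27_6 lc_g_Cert_tree lc_g_rc_27_6 lc_g_rc_21_2 lc_g_Cert_tree lc_g_rc_27_6 lc_g_rc_27_6 lc_g_Cert_tree lc_g_rc_27_0 lc_g_rc_27_0 lc_g_rc_23_9 lc_g_rc_27_0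 lc_g_rc_21_3 lc_g_rc_21_2 lc_g_rc_26_0 lc_g_Cert_tree lc_g_rc_21_2 lc_g_rc_21_3 lc_g_Cert_tree lc_g_rc_26_3 lc_g_rc_26_6 lc_g_Cert_tree lc_g_rc_27_6) (@D3.rec (fun _ => (Cert rels S Gen.g)) lc_g_Cert_tree lc_g_rc_21_3 lc_g_Cert_tree lc_g_rc_24_1 lc_g_rc_21_3 lc_g_Cert_tree lc_g_rc_26_9 lc_g_rc_21_2 lc_g_Cert_tree lc_g_Cert_tree lc_g_rc_21_3 lc_g_Cert_tree lc_g_rc_21_3 lc_g_rc_21_2 lc_g_rc_23_1 lc_g_rc_27_0 lc_g_rc_21_3 lc_g_Cert_tree lc_g_rc_21_2 lc_g_rc_26_6 lc_g_Cert_tree lc_g_Cert_tree lc_g_Cert_tree lc_g_rc_21_3 lc_g_Cert_tree lc_g_rc_26_3 lc_g_rc_21_2 lc_g_rc_27_6 lc_g_Cert_tree lc_g_rc_21_3 lc_g_rc_21_2 lc_g_rc_27_6 lc_g_rc_27_6 lc_g_rc_26_0 lc_g_rc_26_3 lc_g_rc_21_2 lc_g_rc_21_3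 lc_g_rc_26_0 lc_g_Cert_tree lc_g_rc_23_3 lc_g_rc_21_2 lc_g_rc_23_1 lc_g_rc_27_3 lc_g_rc_23_3 lc_g_rc_21_2 lc_g_rc_23_3 lc_g_Cert_tree lc_g_rc_24_3 lc_g_Cert_tree lc_g_rc_21_2 lc_g_rc_26_6 lc_g_rc_23_3 lc_g_Cert_tree lc_g_rc_27_6 lc_g_rc_26_0 lc_g_Cert_tree lc_g_rc_26_0 lc_g_rc_23_1 lc_g_Cert_tree lc_g_rc_27_6 lc_g_rc_21_3 lc_g_rc_23_7) (@D3.rec (fun _ => (Cert rels S Gen.g)) lc_g_Cert_tree lc_g_Cert_tree lc_g_rc_27_3 lc_g_rc_21_3 lc_g_rc_21_2 lc_g_rc_23_9 lc_g_rc_21_3 lc_g_rc_27_0 lc_g_rc_27_9 lc_g_rc_25_19 lc_g_rc_25_19 lc_g_rc_26_6 lc_g_rc_26_9 lc_g_rc_26_3 lc_g_rc_21_3 lc_g_rc_21_2 lc_g_Cert_tree lc_g_Cert_tree lc_g_rc_27_6 lc_g_rc_24_9 lc_g_rc_23_7 lc_g_rc_21_2 lc_g_rc_26_9 lc_g_Cert_tree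 lc_g_rc_26_6 lc_g_rc_21_3 lc_g_Cert_tree lc_g_rc_26_3 lc_g_rc_24_1 lc_g_rc_21_2 lc_g_rc_27_9 lc_g_rc_27_0 lc_g_rc_21_2 lc_g_rc_21_2 lc_g_rc_23_1 lc_g_rc_21_2 lc_g_rc_21_3 lc_g_Cert_tree lc_g_rc_21_2 lc_g_rc_26_6 lc_g_rc_27_6 lc_g_rc_21_3 lc_g_Cert_tree lc_g_rc_26_0 lc_g_rc_24_7 lc_g_rc_21_2 lc_g_rc_21_3 lc_g_rc_27_0 lc_g_Cert_tree lc_g_rc_21_2 lc_g_rc_21_3 lc_g_rc_21_2 lc_g_rc_21_3 lc_g_rc_21_3 lc_g_Cert_tree lc_g_Cert_tree lc_g_Cert_tree lc_g_rc_23_7 lc_g_rc_27_0 lc_g_Cert_tree lc_g_rc_26_6 lc_g_rc_23_1) (@D3.rec (fun _ => (Cert rels S Gen.g)) lc_g_Cert_tree lc_g_Cert_tree lc_g_rc_21_2 lc_g_rc_27_6 lc_g_rc_21_3 lc_g_Cert_tree lc_g_rc_21_2 lc_g_rc_26_6 lc_g_rc_23_9 lc_g_Cert_tree lc_g_Cert_tree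 lc_g_rc_21_3 lc_g_rc_21_3 lc_g_Cert_tree lc_g_rc_27_6 lc_g_rc_21_3 lc_g_Cert_tree lc_g_rc_23_9 lc_g_Cert_tree lc_g_Cert_tree lc_g_Cert_tree lc_g_rc_21_2 lc_g_Cert_tree lc_g_rc_27_9 lc_g_rc_21_3 lc_g_rc_21_3 lc_g_rc_27_0 lc_g_Cert_tree lc_g_Cert_tree lc_g_rc_21_3 lc_g_Cert_tree lc_g_rc_27_0 lc_g_rc_27_0 lc_g_rc_21_2 lc_g_rc_27_9 lc_g_Cert_tree lc_g_rc_21_3 lc_g_Cert_tree lc_g_rc_21_3 lc_g_rc_27_6 lc_g_rc_21_2 lc_g_rc_26_9 lc_g_rc_21_2 lc_g_rc_21_3 lc_g_rc_21_2 lc_g_Cert_tree lc_g_Cert_tree lc_g_rc_27_0 lc_g_rc_21_3 lc_g_rc_21_2 lc_g_rc_21_2 lc_g_rc_27_0 lc_g_rc_21_2 lc_g_rc_26_3 lc_g_rc_21_3 lc_g_Cert_tree lc_g_rc_21_2 lc_g_rc_24_7 lc_g_rc_21_3 lc_g_rc_21_2 lc_g_Cert_tree lc_g_rc_21_3) (@D3.rec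 (fun _ => (Cert rels S Gen.g)) lc_g_Cert_tree lc_g_Cert_tree lc_g_rc_23_9 lc_g_Cert_tree lc_g_rc_21_3 lc_g_Cert_tree lc_g_rc_21_2 lc_g_Cert_tree lc_g_rc_21_2 lc_g_rc_23_9 lc_g_rc_23_9 lc_g_rc_23_1 lc_g_rc_26_6 lc_g_rc_26_9 lc_g_rc_21_3 lc_g_Cert_tree lc_g_rc_21_3 lc_g_Cert_tree lc_g_rc_26_3 lc_g_rc_21_2 lc_g_rc_26_3 lc_g_Cert_tree lc_g_rc_27_6 lc_g_rc_26_6 lc_g_rc_21_3 lc_g_Cert_tree lc_g_Cert_tree lc_g_rc_27_3 lc_g_rc_23_1 lc_g_rc_21_3 lc_g_rc_21_2 lc_g_rc_27_3 lc_g_rc_27_6 lc_g_rc_21_3 lc_g_rc_26_6 lc_g_rc_26_3 lc_g_rc_25_3 lc_g_Cert_tree lc_g_rc_21_3 lc_g_Cert_tree lc_g_rc_21_2 lc_g_rc_27_6 lc_g_rc_24_7 lc_g_rc_24_1 lc_g_rc_27_9 lc_g_rc_24_3 lc_g_rc_27_6 lc_g_rc_21_3 lc_g_Cert_tree lc_g_rc_26_6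 lc_g_rc_27_9 lc_g_rc_26_3 lc_g_Cert_tree lc_g_rc_21_3 lc_g_rc_21_3 lc_g_Cert_tree lc_g_rc_25_3 lc_g_rc_26_6 lc_g_rc_26_3 lc_g_rc_26_0 lc_g_Cert_tree lc_g_Cert_tree) (@D3.rec (fun _ => (Cert rels S Gen.g)) lc_g_rc_26_9 lc_g_rc_23_3 lc_g_rc_27_9 lc_g_rc_26_3 lc_g_Cert_tree lc_g_rc_21_3 lc_g_Cert_tree lc_g_rc_21_2 lc_g_rc_26_3 lc_g_Cert_tree lc_g_rc_21_2 lc_g_rc_24_1 lc_g_rc_21_2 lc_g_rc_21_2 lc_g_Cert_tree lc_g_Cert_tree lc_g_rc_21_3 lc_g_rc_24_3 lc_g_rc_26_6 lc_g_rc_21_2 lc_g_rc_26_9 lc_g_rc_21_2 lc_g_rc_21_2 lc_g_Cert_tree lc_g_Cert_tree lc_g_rc_26_0 lc_g_rc_27_6 lc_g_rc_21_2 lc_g_rc_23_7 lc_g_Cert_tree lc_g_rc_23_1 lc_g_rc_23_7 lc_g_rc_23_1 lc_g_rc_21_3 lc_g_Cert_tree lc_g_rc_21_2 lc_g_rc_26_6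 lc_g_rc_21_3 lc_g_Cert_tree lc_g_rc_27_3 lc_g_rc_21_2 lc_g_Cert_tree lc_g_rc_21_3 lc_g_rc_21_2 lc_g_rc_26_9 lc_g_rc_27_0 lc_g_rc_21_3 lc_g_rc_21_3 lc_g_rc_21_2 lc_g_rc_26_6 lc_g_rc_21_3 lc_g_rc_21_3 lc_g_Cert_tree lc_g_rc_26_3 lc_g_rc_27_3 lc_g_Cert_tree lc_g_rc_21_3 lc_g_Cert_tree lc_g_Cert_tree lc_g_rc_26_9 lc_g_rc_21_3 lc_g_Cert_tree) (@D3.rec (fun _ => (Cert rels S Gen.g)) lc_g_rc_27_0 lc_g_rc_21_3 lc_g_Cert_tree lc_g_Cert_tree lc_g_rc_26_6 lc_g_rc_23_1 lc_g_rc_27_0 lc_g_rc_21_2 lc_g_rc_27_6 lc_g_rc_26_6 lc_g_rc_21_2 lc_g_Cert_tree lc_g_rc_21_2 lc_g_rc_26_0 lc_g_rc_23_7 lc_g_rc_26_6 lc_g_rc_27_3 lc_g_rc_21_2 lc_g_Cert_tree lc_g_rc_21_3 lc_g_Cert_tree lc_g_rc_27_6 lc_g_rc_21_3 lc_g_Cert_tree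 lc_g_Cert_tree lc_g_rc_21_2 lc_g_rc_27_0 lc_g_Cert_tree lc_g_rc_21_3 lc_g_rc_27_3 lc_g_rc_21_3 lc_g_Cert_tree lc_g_Cert_tree lc_g_rc_23_3 lc_g_rc_21_2 lc_g_rc_21_3 lc_g_Cert_tree lc_g_Cert_tree lc_g_rc_21_3 lc_g_rc_26_3 lc_g_rc_26_3 lc_g_rc_21_3 lc_g_rc_26_6 lc_g_Cert_tree lc_g_rc_21_2 lc_g_rc_23_9 lc_g_Cert_tree lc_g_rc_21_2 lc_g_rc_23_1 lc_g_rc_27_3 lc_g_rc_23_9 lc_g_rc_21_2 lc_g_rc_21_3 lc_g_rc_26_6 lc_g_rc_25_19 lc_g_Cert_tree lc_g_Cert_tree lc_g_rc_26_3 lc_g_rc_21_3 lc_g_Cert_tree lc_g_rc_21_2 lc_g_Cert_tree) (@D3.rec (fun _ => (Cert rels S Gen.g)) lc_g_rc_21_2 lc_g_rc_27_6 lc_g_rc_21_3 lc_g_Cert_tree lc_g_rc_21_2 lc_g_rc_23_1 lc_g_rc_27_0 lc_g_rc_26_3 lc_g_rc_26_3 lc_g_rc_23_9 lc_g_Cert_tree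 lc_g_rc_27_6 lc_g_Cert_tree lc_g_Cert_tree lc_g_rc_26_3 lc_g_rc_26_9 lc_g_rc_27_0 lc_g_rc_21_2 lc_g_rc_21_2 lc_g_rc_21_3 lc_g_rc_21_2 lc_g_rc_21_2 lc_g_Cert_tree lc_g_rc_26_6 lc_g_Cert_tree lc_g_rc_21_2 lc_g_rc_24_1 lc_g_rc_21_2 lc_g_rc_27_6 lc_g_Cert_tree lc_g_rc_21_2 lc_g_rc_23_9 lc_g_Cert_tree lc_g_rc_26_3 lc_g_rc_23_9 lc_g_rc_21_2 lc_g_rc_24_3 lc_g_rc_21_3 lc_g_rc_27_3 lc_g_rc_21_2 lc_g_rc_23_3 lc_g_rc_21_2 lc_g_rc_27_3 lc_g_rc_27_3 lc_g_rc_21_3 lc_g_Cert_tree lc_g_rc_26_3 lc_g_rc_21_3 lc_g_rc_21_2 lc_g_Cert_tree lc_g_rc_27_0 lc_g_rc_26_6 lc_g_rc_27_3 lc_g_rc_26_6 lc_g_rc_26_9 lc_g_rc_21_2 lc_g_rc_21_2 lc_g_rc_21_3 lc_g_Cert_tree lc_g_rc_21_3 lc_g_rc_23_9 lc_g_rc_21_3) (@D3.rec (fun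 _ => (Cert rels S Gen.g)) lc_g_rc_21_2 lc_g_rc_21_2 lc_g_rc_27_3 lc_g_rc_21_2 lc_g_rc_21_2 lc_g_rc_27_9 lc_g_rc_23_1 lc_g_rc_26_6 lc_g_rc_27_9 lc_g_Cert_tree lc_g_rc_27_0 lc_g_Cert_tree lc_g_rc_27_6 lc_g_rc_21_3 lc_g_rc_21_3 lc_g_rc_24_1 lc_g_rc_27_0 lc_g_rc_21_3 lc_g_rc_27_9 lc_g_rc_27_0 lc_g_rc_21_2 lc_g_rc_21_3 lc_g_rc_27_3 lc_g_rc_21_2 lc_g_rc_21_3 lc_g_rc_27_6 lc_g_rc_21_2 lc_g_rc_26_3 lc_g_rc_21_2 lc_g_rc_26_6 lc_g_rc_21_2 lc_g_rc_24_7 lc_g_rc_27_6 lc_g_Cert_tree lc_g_rc_27_9 lc_g_Cert_tree lc_g_rc_21_3 lc_g_rc_27_6 lc_g_rc_21_2 lc_g_rc_26_3 lc_g_rc_23_9 lc_g_rc_21_2 lc_g_rc_26_3 lc_g_rc_24_1 lc_g_rc_26_3 lc_g_rc_21_3 lc_g_rc_21_2 lc_g_rc_26_6 lc_g_rc_23_1 lc_g_rc_23_1 lc_g_rc_27_3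 lc_g_rc_21_2 lc_g_rc_27_6 lc_g_rc_23_9 lc_g_rc_21_2 lc_g_rc_27_0 lc_g_Cert_tree lc_g_rc_21_3 lc_g_rc_24_1 lc_g_rc_21_2 lc_g_rc_21_3 lc_g_Cert_tree) (@D3.rec (fun _ => (Cert rels S Gen.g)) lc_g_Cert_tree lc_g_rc_21_2 lc_g_rc_21_3 lc_g_rc_21_3 lc_g_Cert_tree lc_g_rc_21_2 lc_g_rc_21_3 lc_g_Cert_tree lc_g_Cert_tree lc_g_rc_21_2 lc_g_rc_23_7 lc_g_rc_26_9 lc_g_rc_21_3 lc_g_rc_23_7 lc_g_rc_21_3 lc_g_rc_27_9 lc_g_rc_27_6 lc_g_rc_21_3 lc_g_Cert_tree lc_g_Cert_tree lc_g_rc_21_2 lc_g_rc_21_3 lc_g_Cert_tree lc_g_rc_26_9 lc_g_Cert_tree lc_g_rc_24_1 lc_g_rc_24_9 lc_g_Cert_tree lc_g_rc_21_2 lc_g_rc_27_6 lc_g_rc_21_2 lc_g_rc_21_2 lc_g_rc_21_3 lc_g_rc_24_7 lc_g_rc_21_2 lc_g_rc_27_3 lc_g_rc_26_3 lc_g_rc_21_3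 lc_g_Cert_tree lc_g_Cert_tree lc_g_rc_21_2 lc_g_rc_21_2 lc_g_Cert_tree lc_g_Cert_tree lc_g_rc_26_3 lc_g_rc_21_2 lc_g_rc_21_2 lc_g_rc_27_6 lc_g_rc_26_0 lc_g_rc_23_3 lc_g_rc_26_9 lc_g_rc_26_3 lc_g_rc_23_3 lc_g_rc_26_3 lc_g_rc_23_7 lc_g_Cert_tree lc_g_Cert_tree lc_g_rc_23_7 lc_g_rc_21_3 lc_g_Cert_tree lc_g_Cert_tree lc_g_rc_23_7) (@D3.rec (fun _ => (Cert rels S Gen.g)) lc_g_Cert_tree lc_g_rc_21_3 lc_g_Cert_tree lc_g_rc_21_3 lc_g_rc_26_3 lc_g_rc_21_2 lc_g_rc_21_3 lc_g_rc_23_3 lc_g_rc_24_7 lc_g_Cert_tree lc_g_rc_21_3 lc_g_rc_23_7 lc_g_rc_21_2 lc_g_Cert_tree lc_g_rc_26_3 lc_g_rc_27_6 lc_g_rc_21_3 lc_g_Cert_tree lc_g_rc_21_3 lc_g_Cert_tree lc_g_rc_23_3 lc_g_rc_21_2 lc_g_Cert_tree lc_g_rc_21_3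 lc_g_rc_21_2 lc_g_rc_21_3 lc_g_Cert_tree lc_g_rc_21_2 lc_g_Cert_tree lc_g_rc_21_2 lc_g_rc_21_2 lc_g_Cert_tree lc_g_rc_26_3 lc_g_rc_24_3 lc_g_rc_21_2 lc_g_rc_27_0 lc_g_rc_27_3 lc_g_rc_21_3 lc_g_rc_26_0 lc_g_rc_26_3 lc_g_rc_21_3 lc_g_Cert_tree lc_g_rc_27_0 lc_g_Cert_tree lc_g_rc_21_3 lc_g_Cert_tree lc_g_Cert_tree lc_g_rc_21_3 lc_g_rc_27_6 lc_g_rc_21_2 lc_g_rc_21_3 lc_g_Cert_tree lc_g_rc_21_3 lc_g_rc_24_1 lc_g_rc_21_3 lc_g_rc_21_2 lc_g_rc_21_3 lc_g_rc_23_7 lc_g_rc_27_3 lc_g_rc_26_3 lc_g_Cert_tree lc_g_rc_27_6)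
def ce_g_17 : D2 → D3 → (Cert rels S Gen.g) := @D2.rec (fun _ => D3 → (Cert rels S Gen.g)) (@D3.rec (fun _ => (Cert rels S Gen.g)) lc_g_rc_21_3 lc_g_rc_23_7 lc_g_rc_26_3 lc_g_rc_21_3 lc_g_Cert_tree lc_g_rc_24_1 lc_g_Cert_tree lc_g_Cert_tree lc_g_rc_23_7 lc_g_Cert_tree lc_g_Cert_tree lc_g_rc_21_2 lc_g_rc_26_6 lc_g_Cert_tree lc_g_rc_26_9 lc_g_rc_24_3 lc_g_rc_27_6 lc_g_rc_26_0 lc_g_rc_24_9 lc_g_rc_21_3 lc_g_rc_21_3 lc_g_rc_21_2 lc_g_rc_26_6 lc_g_rc_21_3 lc_g_rc_23_1 lc_g_rc_21_3 lc_g_Cert_tree lc_g_Cert_tree lc_g_rc_21_2 lc_g_Cert_tree lc_g_rc_24_3 lc_g_rc_21_3 lc_g_Cert_tree lc_g_rc_21_2 lc_g_rc_27_0 lc_g_rc_23_7 lc_g_rc_21_3 lc_g_rc_21_2 lc_g_rc_21_3 lc_g_Cert_tree lc_g_Cert_tree lc_g_rc_21_2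 lc_g_rc_21_3 lc_g_rc_21_2 lc_g_rc_21_2 lc_g_rc_21_2 lc_g_rc_27_3 lc_g_Cert_tree lc_g_rc_23_3 lc_g_rc_21_2 lc_g_rc_24_7 lc_g_Cert_tree lc_g_Cert_tree lc_g_rc_23_7 lc_g_rc_21_2 lc_g_rc_27_6 lc_g_rc_21_3 lc_g_rc_21_3 lc_g_Cert_tree lc_g_Cert_tree lc_g_rc_26_6 lc_g_rc_21_3) (@D3.rec (fun _ => (Cert rels S Gen.g)) lc_g_rc_26_9 lc_g_Cert_tree lc_g_rc_26_0 lc_g_rc_27_6 lc_g_rc_21_3 lc_g_rc_23_1 lc_g_rc_21_3 lc_g_Cert_tree lc_g_rc_25_19 lc_g_rc_21_2 lc_g_rc_24_1 lc_g_rc_21_2 lc_g_rc_26_6 lc_g_rc_21_2 lc_g_rc_24_3 lc_g_rc_27_6 lc_g_rc_24_7 lc_g_rc_21_3 lc_g_Cert_tree lc_g_rc_21_2 lc_g_Cert_tree lc_g_rc_24_7 lc_g_Cert_tree lc_g_rc_23_1 lc_g_rc_21_2 lc_g_rc_27_3 lc_g_rc_26_3 lc_g_rc_24_9 lc_g_rc_26_6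 lc_g_Cert_tree lc_g_Cert_tree lc_g_rc_26_6 lc_g_rc_26_3 lc_g_rc_21_3 lc_g_rc_24_1 lc_g_rc_21_3 lc_g_rc_21_2 lc_g_Cert_tree lc_g_rc_23_1 lc_g_Cert_tree lc_g_rc_24_7 lc_g_rc_27_6 lc_g_rc_24_7 lc_g_rc_27_6 lc_g_Cert_tree lc_g_rc_23_3 lc_g_rc_24_3 lc_g_rc_27_6 lc_g_rc_23_1 lc_g_rc_23_3 lc_g_rc_21_2 lc_g_rc_21_3 lc_g_Cert_tree lc_g_Cert_tree lc_g_rc_26_9 lc_g_Cert_tree lc_g_rc_21_3 lc_g_rc_21_2 lc_g_Cert_tree lc_g_rc_23_3 lc_g_rc_21_2 lc_g_Cert_tree) (@D3.rec (fun _ => (Cert rels S Gen.g)) lc_g_rc_23_7 lc_g_rc_21_3 lc_g_Cert_tree lc_g_rc_21_2 lc_g_Cert_tree lc_g_rc_21_2 lc_g_rc_23_1 lc_g_rc_21_3 lc_g_Cert_tree lc_g_rc_27_3 lc_g_rc_26_3 lc_g_rc_27_9 lc_g_Cert_tree lc_g_rc_27_6 lc_g_rc_27_9 lc_g_rc_21_2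 lc_g_rc_26_3 lc_g_rc_21_2 lc_g_rc_21_3 lc_g_Cert_tree lc_g_rc_21_2 lc_g_rc_21_3 lc_g_rc_26_0 lc_g_Cert_tree lc_g_rc_21_2 lc_g_rc_21_2 lc_g_rc_23_9 lc_g_Cert_tree lc_g_rc_21_3 lc_g_Cert_tree lc_g_rc_27_6 lc_g_rc_24_9 lc_g_rc_21_2 lc_g_rc_21_2 lc_g_rc_26_0 lc_g_rc_21_2 lc_g_Cert_tree lc_g_rc_21_2 lc_g_rc_24_9 lc_g_rc_27_6 lc_g_rc_24_3 lc_g_rc_24_9 lc_g_rc_21_3 lc_g_Cert_tree lc_g_rc_21_2 lc_g_rc_21_2 lc_g_rc_21_3 lc_g_Cert_tree lc_g_rc_21_2 lc_g_rc_26_6 lc_g_rc_24_3 lc_g_rc_21_2 lc_g_Cert_tree lc_g_rc_26_9 lc_g_rc_21_2 lc_g_Cert_tree lc_g_rc_21_3 lc_g_rc_24_7 lc_g_rc_23_3 lc_g_rc_27_3 lc_g_rc_23_3 lc_g_rc_21_2) (@D3.rec (fun _ => (Cert rels S Gen.g)) lc_g_rc_26_3 lc_g_rc_21_3 lc_g_Cert_tree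 lc_g_rc_21_2 lc_g_rc_21_2 lc_g_rc_26_3 lc_g_rc_27_9 lc_g_rc_27_9 lc_g_rc_21_2 lc_g_Cert_tree lc_g_rc_26_6 lc_g_rc_26_3 lc_g_rc_21_3 lc_g_Cert_tree lc_g_rc_26_3 lc_g_rc_26_9 lc_g_rc_21_2 lc_g_rc_26_9 lc_g_Cert_tree lc_g_rc_21_2 lc_g_rc_23_9 lc_g_rc_26_3 lc_g_Cert_tree lc_g_Cert_tree lc_g_rc_21_3 lc_g_Cert_tree lc_g_rc_21_2 lc_g_rc_21_3 lc_g_Cert_tree lc_g_Cert_tree lc_g_rc_24_3 lc_g_rc_21_3 lc_g_Cert_tree lc_g_rc_27_9 lc_g_rc_27_0 lc_g_rc_26_6 lc_g_Cert_tree lc_g_rc_26_0 lc_g_rc_27_9 lc_g_rc_27_0 lc_g_rc_21_3 lc_g_Cert_tree lc_g_rc_26_3 lc_g_rc_26_3 lc_g_rc_21_2 lc_g_Cert_tree lc_g_rc_24_7 lc_g_Cert_tree lc_g_rc_21_3 lc_g_rc_25_11 lc_g_rc_26_6 lc_g_rc_21_2 lc_g_rc_26_6 lc_g_rc_27_0 lc_g_rc_27_3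 lc_g_rc_26_9 lc_g_rc_21_3 lc_g_rc_27_3 lc_g_rc_26_3 lc_g_rc_26_3 lc_g_rc_27_6 lc_g_rc_21_3) (@D3.rec (fun _ => (Cert rels S Gen.g)) lc_g_Cert_tree lc_g_rc_24_7 lc_g_rc_21_3 lc_g_Cert_tree lc_g_rc_23_9 lc_g_rc_21_2 lc_g_rc_21_2 lc_g_rc_26_3 lc_g_rc_26_6 lc_g_rc_23_7 lc_g_rc_26_0 lc_g_rc_21_3 lc_g_Cert_tree lc_g_Cert_tree lc_g_rc_21_3 lc_g_Cert_tree lc_g_Cert_tree lc_g_rc_21_2 lc_g_Cert_tree lc_g_rc_27_3 lc_g_rc_21_2 lc_g_rc_25_15 lc_g_rc_27_9 lc_g_Cert_tree lc_g_rc_23_1 lc_g_rc_23_7 lc_g_rc_21_3 lc_g_Cert_tree lc_g_rc_21_2 lc_g_rc_24_3 lc_g_rc_21_2 lc_g_Cert_tree lc_g_rc_24_9 lc_g_rc_21_2 lc_g_rc_21_2 lc_g_rc_21_2 lc_g_rc_27_6 lc_g_rc_27_0 lc_g_rc_24_3 lc_g_rc_21_2 lc_g_rc_21_3 lc_g_rc_21_3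 lc_g_Cert_tree lc_g_rc_21_2 lc_g_rc_26_6 lc_g_rc_21_2 lc_g_rc_24_1 lc_g_rc_27_3 lc_g_rc_26_3 lc_g_Cert_tree lc_g_rc_24_1 lc_g_rc_27_3 lc_g_Cert_tree lc_g_rc_26_6 lc_g_rc_21_2 lc_g_Cert_tree lc_g_rc_23_1 lc_g_rc_21_2 lc_g_rc_23_9 lc_g_rc_21_3 lc_g_Cert_tree lc_g_rc_27_6) (@D3.rec (fun _ => (Cert rels S Gen.g)) lc_g_Cert_tree lc_g_rc_21_2 lc_g_rc_21_2 lc_g_rc_26_3 lc_g_rc_21_3 lc_g_rc_21_3 lc_g_rc_24_3 lc_g_rc_21_2 lc_g_rc_26_6 lc_g_rc_21_2 lc_g_rc_26_3 lc_g_rc_26_3 lc_g_rc_24_1 lc_g_rc_21_3 lc_g_rc_23_3 lc_g_rc_23_9 lc_g_rc_24_3 lc_g_rc_21_3 lc_g_rc_27_0 lc_g_rc_26_3 lc_g_rc_27_6 lc_g_rc_24_3 lc_g_rc_21_2 lc_g_rc_24_9 lc_g_rc_21_2 lc_g_rc_21_3 lc_g_Cert_tree lc_g_Cert_tree lc_g_rc_21_2 lc_g_rc_21_3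 lc_g_Cert_tree lc_g_rc_21_2 lc_g_rc_21_2 lc_g_rc_26_0 lc_g_rc_26_3 lc_g_rc_26_9 lc_g_rc_26_0 lc_g_rc_21_3 lc_g_Cert_tree lc_g_rc_23_3 lc_g_rc_21_2 lc_g_rc_24_3 lc_g_rc_26_6 lc_g_rc_26_3 lc_g_rc_21_3 lc_g_rc_21_2 lc_g_Cert_tree lc_g_rc_26_3 lc_g_rc_21_2 lc_g_Cert_tree lc_g_rc_27_3 lc_g_rc_21_2 lc_g_rc_23_1 lc_g_rc_24_7 lc_g_rc_23_1 lc_g_rc_21_3 lc_g_Cert_tree lc_g_rc_24_3 lc_g_rc_21_2 lc_g_rc_27_9 lc_g_rc_21_2 lc_g_Cert_tree) (@D3.rec (fun _ => (Cert rels S Gen.g)) lc_g_rc_27_6 lc_g_rc_21_2 lc_g_Cert_tree lc_g_rc_23_1 lc_g_rc_27_3 lc_g_Cert_tree lc_g_rc_27_3 lc_g_Cert_tree lc_g_rc_21_3 lc_g_rc_21_2 lc_g_rc_23_3 lc_g_rc_21_3 lc_g_rc_26_3 lc_g_rc_24_7 lc_g_Cert_tree lc_g_rc_24_3 lc_g_rc_21_2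 lc_g_rc_26_0 lc_g_Cert_tree lc_g_rc_21_3 lc_g_Cert_tree lc_g_rc_21_2 lc_g_rc_21_2 lc_g_rc_23_3 lc_g_rc_24_9 lc_g_rc_21_3 lc_g_Cert_tree lc_g_rc_21_2 lc_g_rc_27_0 lc_g_Cert_tree lc_g_rc_23_3 lc_g_rc_23_9 lc_g_rc_21_2 lc_g_rc_23_1 lc_g_rc_21_3 lc_g_Cert_tree lc_g_rc_26_3 lc_g_rc_21_2 lc_g_rc_27_0 lc_g_rc_21_2 lc_g_rc_24_3 lc_g_rc_21_3 lc_g_Cert_tree lc_g_rc_27_0 lc_g_Cert_tree lc_g_rc_24_9 lc_g_rc_27_3 lc_g_Cert_tree lc_g_rc_26_6 lc_g_rc_21_3 lc_g_rc_27_6 lc_g_rc_21_2 lc_g_Cert_tree lc_g_rc_27_6 lc_g_rc_21_2 lc_g_Cert_tree lc_g_rc_21_3 lc_g_rc_21_2 lc_g_rc_21_3 lc_g_Cert_tree lc_g_Cert_tree lc_g_rc_23_3) (@D3.rec (fun _ => (Cert rels S Gen.g)) lc_g_Cert_tree lc_g_rc_27_3 lc_g_Cert_tree lc_g_rc_21_2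 lc_g_rc_24_1 lc_g_Cert_tree lc_g_rc_23_7 lc_g_rc_21_3 lc_g_rc_26_3 lc_g_rc_23_3 lc_g_rc_21_3 lc_g_rc_21_2 lc_g_Cert_tree lc_g_rc_21_3 lc_g_Cert_tree lc_g_rc_23_7 lc_g_Cert_tree lc_g_Cert_tree lc_g_rc_27_3 lc_g_rc_21_2 lc_g_rc_26_6 lc_g_rc_27_6 lc_g_rc_26_6 lc_g_rc_23_3 lc_g_rc_26_3 lc_g_rc_24_7 lc_g_rc_24_1 lc_g_rc_26_3 lc_g_rc_27_3 lc_g_Cert_tree lc_g_rc_21_3 lc_g_rc_21_2 lc_g_rc_26_6 lc_g_rc_27_3 lc_g_rc_21_3 lc_g_rc_27_0 lc_g_rc_21_2 lc_g_rc_21_3 lc_g_Cert_tree lc_g_rc_21_3 lc_g_Cert_tree lc_g_rc_27_6 lc_g_rc_21_3 lc_g_rc_21_3 lc_g_rc_27_6 lc_g_rc_24_3 lc_g_Cert_tree lc_g_rc_21_3 lc_g_rc_21_2 lc_g_rc_26_0 lc_g_rc_21_3 lc_g_rc_21_2 lc_g_rc_27_6 lc_g_rc_27_0 lc_g_Cert_tree lc_g_Cert_tree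 lc_g_rc_27_6 lc_g_rc_21_3 lc_g_Cert_tree lc_g_rc_26_0 lc_g_Cert_tree lc_g_rc_21_2) (@D3.rec (fun _ => (Cert rels S Gen.g)) lc_g_rc_21_3 lc_g_rc_21_2 lc_g_rc_21_2 lc_g_rc_21_2 lc_g_Cert_tree lc_g_rc_21_2 lc_g_rc_21_2 lc_g_rc_24_9 lc_g_rc_21_3 lc_g_Cert_tree lc_g_rc_21_2 lc_g_rc_26_3 lc_g_rc_21_3 lc_g_Cert_tree lc_g_rc_27_3 lc_g_Cert_tree lc_g_rc_26_9 lc_g_Cert_tree lc_g_rc_27_6 lc_g_rc_21_2 lc_g_rc_24_7 lc_g_rc_27_0 lc_g_Cert_tree lc_g_Cert_tree lc_g_rc_21_3 lc_g_rc_21_2 lc_g_rc_21_3 lc_g_Cert_tree lc_g_rc_21_2 lc_g_rc_21_2 lc_g_rc_27_3 lc_g_rc_23_3 lc_g_Cert_tree lc_g_rc_21_3 lc_g_rc_21_2 lc_g_rc_23_3 lc_g_rc_24_1 lc_g_rc_27_6 lc_g_rc_21_3 lc_g_Cert_tree lc_g_Cert_tree lc_g_rc_27_3 lc_g_rc_21_3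 lc_g_Cert_tree lc_g_rc_21_3 lc_g_rc_21_3 lc_g_rc_23_3 lc_g_rc_21_3 lc_g_Cert_tree lc_g_Cert_tree lc_g_rc_21_2 lc_g_rc_21_3 lc_g_rc_21_2 lc_g_rc_24_3 lc_g_rc_27_6 lc_g_rc_21_2 lc_g_rc_21_3 lc_g_rc_21_2 lc_g_rc_27_6 lc_g_Cert_tree lc_g_rc_26_6 lc_g_rc_21_3) (@D3.rec (fun _ => (Cert rels S Gen.g)) lc_g_rc_23_1 lc_g_rc_25_19 lc_g_rc_21_2 lc_g_Cert_tree lc_g_rc_21_3 lc_g_rc_21_2 lc_g_rc_27_3 lc_g_rc_21_3 lc_g_rc_26_6 lc_g_rc_26_3 lc_g_rc_27_9 lc_g_rc_21_2 lc_g_rc_27_0 lc_g_rc_27_9 lc_g_rc_26_3 lc_g_rc_26_3 lc_g_rc_21_2 lc_g_rc_21_2 lc_g_rc_24_7 lc_g_rc_21_2 lc_g_rc_23_1 lc_g_rc_23_3 lc_g_rc_27_0 lc_g_rc_21_2 lc_g_rc_21_3 lc_g_Cert_tree lc_g_rc_21_2 lc_g_rc_24_3 lc_g_rc_27_6 lc_g_rc_26_3 lc_g_rc_27_6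 lc_g_rc_21_3 lc_g_rc_24_7 lc_g_rc_21_2 lc_g_Cert_tree lc_g_rc_21_2 lc_g_rc_21_3 lc_g_Cert_tree lc_g_rc_21_2 lc_g_rc_27_3 lc_g_Cert_tree lc_g_rc_21_2 lc_g_rc_21_3 lc_g_rc_26_3 lc_g_rc_26_3 lc_g_rc_21_2 lc_g_rc_21_2 lc_g_rc_26_3 lc_g_rc_21_3 lc_g_rc_27_9 lc_g_rc_26_6 lc_g_rc_21_3 lc_g_rc_26_0 lc_g_rc_21_3 lc_g_rc_25_19 lc_g_Cert_tree lc_g_rc_21_2 lc_g_rc_26_0 lc_g_rc_26_6 lc_g_rc_21_3 lc_g_rc_26_3 lc_g_Cert_tree) (@D3.rec (fun _ => (Cert rels S Gen.g)) lc_g_rc_27_9 lc_g_rc_26_6 lc_g_rc_23_1 lc_g_rc_27_0 lc_g_rc_24_1 lc_g_rc_23_9 lc_g_rc_23_1 lc_g_rc_21_2 lc_g_rc_26_9 lc_g_rc_21_3 lc_g_rc_21_2 lc_g_rc_23_7 lc_g_rc_26_3 lc_g_rc_23_3 lc_g_rc_21_3 lc_g_rc_21_3 lc_g_Cert_tree lc_g_rc_21_2 lc_g_Cert_tree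 lc_g_rc_21_3 lc_g_Cert_tree lc_g_rc_24_9 lc_g_rc_26_3 lc_g_rc_21_3 lc_g_rc_21_3 lc_g_Cert_tree lc_g_rc_21_2 lc_g_Cert_tree lc_g_rc_21_3 lc_g_rc_27_6 lc_g_rc_26_6 lc_g_rc_24_3 lc_g_rc_26_0 lc_g_rc_23_3 lc_g_rc_26_0 lc_g_rc_21_3 lc_g_rc_27_3 lc_g_rc_21_2 lc_g_rc_26_6 lc_g_rc_27_9 lc_g_rc_26_3 lc_g_rc_26_3 lc_g_rc_23_7 lc_g_rc_21_2 lc_g_rc_23_7 lc_g_rc_27_0 lc_g_rc_27_9 lc_g_rc_21_3 lc_g_Cert_tree lc_g_Cert_tree lc_g_Cert_tree lc_g_rc_21_2 lc_g_rc_27_9 lc_g_Cert_tree lc_g_rc_24_7 lc_g_rc_21_3 lc_g_Cert_tree lc_g_rc_23_3 lc_g_rc_21_3 lc_g_rc_26_3 lc_g_rc_21_3 lc_g_rc_26_3) (@D3.rec (fun _ => (Cert rels S Gen.g)) lc_g_rc_27_6 lc_g_rc_21_3 lc_g_rc_21_2 lc_g_rc_26_6 lc_g_rc_21_2 lc_g_rc_21_3 lc_g_Cert_tree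 lc_g_Cert_tree lc_g_rc_21_2 lc_g_Cert_tree lc_g_rc_24_7 lc_g_rc_21_2 lc_g_rc_21_2 lc_g_rc_21_3 lc_g_rc_21_3 lc_g_rc_21_2 lc_g_rc_24_7 lc_g_rc_26_3 lc_g_rc_21_3 lc_g_Cert_tree lc_g_Cert_tree lc_g_rc_21_2 lc_g_rc_24_3 lc_g_rc_23_1 lc_g_rc_21_2 lc_g_rc_21_3 lc_g_Cert_tree lc_g_rc_27_6 lc_g_rc_21_3 lc_g_Cert_tree lc_g_rc_27_3 lc_g_rc_21_2 lc_g_Cert_tree lc_g_rc_21_3 lc_g_rc_27_6 lc_g_rc_27_6 lc_g_rc_27_3 lc_g_rc_23_3 lc_g_Cert_tree lc_g_rc_27_6 lc_g_rc_27_9 lc_g_rc_21_3 lc_g_rc_21_2 lc_g_Cert_tree lc_g_Cert_tree lc_g_rc_21_3 lc_g_rc_27_0 lc_g_rc_27_3 lc_g_rc_26_3 lc_g_Cert_tree lc_g_rc_21_2 lc_g_rc_26_6 lc_g_rc_27_3 lc_g_rc_24_3 lc_g_rc_24_3 lc_g_rc_24_7 lc_g_rc_21_3 lc_g_rc_24_3 lc_g_rc_24_7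 lc_g_rc_26_3 lc_g_rc_21_2 lc_g_Cert_tree) (@D3.rec (fun _ => (Cert rels S Gen.g)) lc_g_rc_23_7 lc_g_rc_27_0 lc_g_rc_27_3 lc_g_Cert_tree lc_g_Cert_tree lc_g_rc_27_6 lc_g_rc_26_9 lc_g_rc_27_3 lc_g_rc_24_3 lc_g_rc_27_0 lc_g_rc_21_3 lc_g_rc_21_3 lc_g_rc_23_9 lc_g_rc_21_2 lc_g_rc_26_3 lc_g_Cert_tree lc_g_rc_26_3 lc_g_rc_26_6 lc_g_rc_23_1 lc_g_Cert_tree lc_g_rc_21_3 lc_g_rc_26_9 lc_g_Cert_tree lc_g_rc_24_3 lc_g_Cert_tree lc_g_rc_26_6 lc_g_rc_23_3 lc_g_rc_21_3 lc_g_rc_24_3 lc_g_rc_21_2 lc_g_rc_27_3 lc_g_rc_23_1 lc_g_rc_24_9 lc_g_rc_26_0 lc_g_rc_21_3 lc_g_rc_21_3 lc_g_rc_21_2 lc_g_rc_21_2 lc_g_rc_21_2 lc_g_rc_23_1 lc_g_rc_23_3 lc_g_Cert_tree lc_g_rc_21_2 lc_g_rc_21_2 lc_g_rc_23_7 lc_g_Cert_tree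 lc_g_rc_26_9 lc_g_rc_24_3 lc_g_rc_21_2 lc_g_Cert_tree lc_g_Cert_tree lc_g_rc_26_3 lc_g_rc_23_1 lc_g_rc_25_19 lc_g_rc_24_1 lc_g_Cert_tree lc_g_rc_21_3 lc_g_Cert_tree lc_g_rc_25_7 lc_g_Cert_tree lc_g_rc_21_2 lc_g_rc_21_3) (@D3.rec (fun _ => (Cert rels S Gen.g)) lc_g_rc_26_0 lc_g_rc_26_9 lc_g_rc_21_3 lc_g_Cert_tree lc_g_rc_25_19 lc_g_rc_21_3 lc_g_Cert_tree lc_g_rc_21_2 lc_g_rc_26_3 lc_g_Cert_tree lc_g_rc_21_3 lc_g_rc_25_3 lc_g_rc_21_3 lc_g_rc_26_0 lc_g_rc_25_19 lc_g_rc_25_19 lc_g_rc_27_6 lc_g_rc_24_1 lc_g_Cert_tree lc_g_rc_27_3 lc_g_rc_27_3 lc_g_rc_21_3 lc_g_Cert_tree lc_g_rc_21_2 lc_g_rc_21_3 lc_g_rc_21_2 lc_g_rc_23_3 lc_g_rc_23_3 lc_g_Cert_tree lc_g_rc_26_6 lc_g_rc_21_3 lc_g_Cert_tree lc_g_rc_26_9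 lc_g_rc_26_6 lc_g_rc_27_9 lc_g_rc_27_6 lc_g_rc_26_0 lc_g_rc_26_0 lc_g_rc_21_3 lc_g_rc_26_9 lc_g_rc_21_3 lc_g_Cert_tree lc_g_rc_21_2 lc_g_rc_27_3 lc_g_rc_21_3 lc_g_Cert_tree lc_g_rc_21_2 lc_g_rc_24_7 lc_g_Cert_tree lc_g_rc_24_7 lc_g_rc_24_7 lc_g_Cert_tree lc_g_rc_21_3 lc_g_rc_21_3 lc_g_Cert_tree lc_g_rc_21_2 lc_g_rc_23_1 lc_g_rc_27_6 lc_g_Cert_tree lc_g_rc_27_6 lc_g_rc_27_0 lc_g_rc_21_2) (@D3.rec (fun _ => (Cert rels S Gen.g)) lc_g_rc_23_9 lc_g_rc_25_3 lc_g_Cert_tree lc_g_Cert_tree lc_g_rc_27_0 lc_g_rc_26_9 lc_g_rc_23_1 lc_g_rc_27_9 lc_g_rc_24_3 lc_g_rc_24_3 lc_g_rc_26_0 lc_g_rc_26_9 lc_g_rc_24_7 lc_g_Cert_tree lc_g_rc_21_2 lc_g_rc_21_3 lc_g_rc_24_3 lc_g_rc_21_2 lc_g_rc_21_3 lc_g_Cert_tree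 lc_g_rc_27_3 lc_g_rc_26_9 lc_g_rc_26_3 lc_g_rc_24_1 lc_g_rc_23_1 lc_g_rc_26_9 lc_g_rc_21_3 lc_g_rc_27_6 lc_g_rc_21_3 lc_g_rc_21_2 lc_g_Cert_tree lc_g_rc_21_3 lc_g_Cert_tree lc_g_rc_26_6 lc_g_rc_21_2 lc_g_rc_24_3 lc_g_rc_26_0 lc_g_rc_26_6 lc_g_rc_21_3 lc_g_rc_24_7 lc_g_rc_27_6 lc_g_Cert_tree lc_g_rc_21_2 lc_g_rc_26_6 lc_g_Cert_tree lc_g_rc_21_2 lc_g_rc_21_2 lc_g_rc_21_2 lc_g_Cert_tree lc_g_rc_21_3 lc_g_Cert_tree lc_g_rc_27_3 lc_g_rc_21_2 lc_g_rc_21_2 lc_g_rc_25_19 lc_g_rc_26_6 lc_g_rc_27_6 lc_g_Cert_tree lc_g_rc_26_0 lc_g_rc_24_3 lc_g_rc_24_1 lc_g_rc_21_2) (@D3.rec (fun _ => (Cert rels S Gen.g)) lc_g_rc_21_3 lc_g_Cert_tree lc_g_rc_21_2 lc_g_rc_21_3 lc_g_Cert_tree lc_g_Cert_tree lc_g_rc_21_2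 lc_g_rc_27_6 lc_g_Cert_tree lc_g_rc_21_3 lc_g_rc_27_6 lc_g_rc_21_3 lc_g_rc_26_6 lc_g_rc_21_2 lc_g_rc_27_0 lc_g_Cert_tree lc_g_rc_24_9 lc_g_rc_27_6 lc_g_rc_23_3 lc_g_rc_24_1 lc_g_rc_21_3 lc_g_rc_27_0 lc_g_Cert_tree lc_g_rc_26_6 lc_g_rc_27_0 lc_g_rc_24_1 lc_g_Cert_tree lc_g_Cert_tree lc_g_rc_27_6 lc_g_Cert_tree lc_g_rc_21_2 lc_g_rc_27_6 lc_g_Cert_tree lc_g_rc_21_3 lc_g_Cert_tree lc_g_Cert_tree lc_g_rc_21_2 lc_g_rc_21_3 lc_g_rc_21_3 lc_g_Cert_tree lc_g_Cert_tree lc_g_rc_21_2 lc_g_rc_26_3 lc_g_rc_21_2 lc_g_rc_26_3 lc_g_rc_24_1 lc_g_rc_26_3 lc_g_rc_21_2 lc_g_rc_21_2 lc_g_Cert_tree lc_g_Cert_tree lc_g_Cert_tree lc_g_rc_23_3 lc_g_rc_21_3 lc_g_Cert_tree lc_g_rc_27_9 lc_g_Cert_tree lc_g_rc_21_2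 lc_g_rc_24_9 lc_g_rc_26_6 lc_g_rc_27_0 lc_g_rc_23_3) (@D3.rec (fun _ => (Cert rels S Gen.g)) lc_g_rc_26_3 lc_g_rc_21_3 lc_g_rc_23_3 lc_g_rc_24_3 lc_g_rc_21_2 lc_g_Cert_tree lc_g_rc_27_3 lc_g_rc_21_3 lc_g_Cert_tree lc_g_rc_21_2 lc_g_rc_23_3 lc_g_rc_21_3 lc_g_rc_21_2 lc_g_Cert_tree lc_g_rc_27_6 lc_g_rc_24_7 lc_g_rc_23_1 lc_g_Cert_tree lc_g_rc_23_7 lc_g_rc_23_3 lc_g_rc_24_9 lc_g_rc_21_3 lc_g_Cert_tree lc_g_Cert_tree lc_g_rc_27_6 lc_g_Cert_tree lc_g_rc_21_3 lc_g_rc_21_2 lc_g_rc_21_2 lc_g_rc_26_6 lc_g_Cert_tree lc_g_rc_27_3 lc_g_rc_21_3 lc_g_Cert_tree lc_g_rc_21_2 lc_g_rc_21_2 lc_g_rc_26_9 lc_g_rc_21_3 lc_g_rc_21_2 lc_g_rc_24_7 lc_g_rc_23_9 lc_g_Cert_tree lc_g_rc_26_6 lc_g_rc_26_6 lc_g_rc_21_2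 lc_g_rc_23_3 lc_g_Cert_tree lc_g_Cert_tree lc_g_rc_27_3 lc_g_rc_21_2 lc_g_rc_24_7 lc_g_Cert_tree lc_g_rc_23_7 lc_g_Cert_tree lc_g_rc_23_7 lc_g_rc_24_3 lc_g_rc_21_3 lc_g_Cert_tree lc_g_rc_27_0 lc_g_rc_21_3 lc_g_rc_21_2 lc_g_rc_21_2) (@D3.rec (fun _ => (Cert rels S Gen.g)) lc_g_rc_25_19 lc_g_rc_27_6 lc_g_rc_21_3 lc_g_Cert_tree lc_g_Cert_tree lc_g_rc_24_1 lc_g_rc_26_3 lc_g_rc_26_6 lc_g_Cert_tree lc_g_rc_26_9 lc_g_rc_21_3 lc_g_Cert_tree lc_g_rc_27_3 lc_g_rc_21_2 lc_g_rc_26_3 lc_g_rc_27_9 lc_g_rc_21_2 lc_g_Cert_tree lc_g_rc_21_3 lc_g_rc_26_9 lc_g_rc_27_9 lc_g_rc_23_7 lc_g_rc_21_3 lc_g_rc_21_3 lc_g_rc_26_3 lc_g_rc_21_2 lc_g_rc_27_9 lc_g_rc_23_9 lc_g_rc_24_7 lc_g_Cert_tree lc_g_rc_21_2 lc_g_rc_27_0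 lc_g_rc_27_3 lc_g_rc_24_7 lc_g_rc_24_1 lc_g_rc_23_3 lc_g_Cert_tree lc_g_rc_23_3 lc_g_Cert_tree lc_g_Cert_tree lc_g_Cert_tree lc_g_rc_24_1 lc_g_Cert_tree lc_g_rc_26_3 lc_g_Cert_tree lc_g_Cert_tree lc_g_rc_21_3 lc_g_rc_27_0 lc_g_rc_21_2 lc_g_rc_21_3 lc_g_rc_21_3 lc_g_rc_26_6 lc_g_rc_26_3 lc_g_Cert_tree lc_g_Cert_tree lc_g_rc_23_1 lc_g_rc_21_2 lc_g_Cert_tree lc_g_rc_23_9 lc_g_rc_21_2 lc_g_Cert_tree lc_g_rc_24_7) (@D3.rec (fun _ => (Cert rels S Gen.g)) lc_g_Cert_tree lc_g_rc_21_3 lc_g_Cert_tree lc_g_rc_21_2 lc_g_Cert_tree lc_g_Cert_tree lc_g_rc_21_2 lc_g_rc_21_3 lc_g_Cert_tree lc_g_rc_27_6 lc_g_rc_21_2 lc_g_rc_24_1 lc_g_rc_21_3 lc_g_Cert_tree lc_g_rc_26_6 lc_g_Cert_tree lc_g_Cert_tree lc_g_rc_21_2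 lc_g_rc_24_1 lc_g_rc_21_3 lc_g_Cert_tree lc_g_rc_21_2 lc_g_Cert_tree lc_g_rc_27_3 lc_g_rc_26_6 lc_g_Cert_tree lc_g_Cert_tree lc_g_Cert_tree lc_g_rc_21_2 lc_g_rc_21_3 lc_g_rc_26_3 lc_g_rc_27_3 lc_g_rc_23_7 lc_g_Cert_tree lc_g_Cert_tree lc_g_rc_26_3 lc_g_rc_24_7 lc_g_Cert_tree lc_g_rc_21_3 lc_g_rc_21_3 lc_g_rc_27_9 lc_g_rc_21_3 lc_g_rc_21_3 lc_g_Cert_tree lc_g_Cert_tree lc_g_rc_21_2 lc_g_Cert_tree lc_g_rc_21_2 lc_g_rc_24_3 lc_g_rc_21_3 lc_g_rc_27_6 lc_g_rc_27_9 lc_g_rc_21_3 lc_g_Cert_tree lc_g_Cert_tree lc_g_rc_24_1 lc_g_rc_27_6 lc_g_rc_21_3 lc_g_Cert_tree lc_g_Cert_tree lc_g_rc_21_2 lc_g_Cert_tree) (@D3.rec (fun _ => (Cert rels S Gen.g)) lc_g_rc_27_6 lc_g_rc_27_0 lc_g_rc_26_3 lc_g_rc_24_3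 lc_g_rc_27_3 lc_g_rc_21_2 lc_g_rc_26_3 lc_g_rc_24_3 lc_g_rc_24_3 lc_g_rc_23_3 lc_g_rc_21_2 lc_g_rc_21_2 lc_g_rc_26_3 lc_g_rc_21_3 lc_g_Cert_tree lc_g_rc_21_3 lc_g_rc_21_2 lc_g_Cert_tree lc_g_rc_23_1 lc_g_rc_27_6 lc_g_rc_26_0 lc_g_Cert_tree lc_g_Cert_tree lc_g_Cert_tree lc_g_Cert_tree lc_g_Cert_tree lc_g_rc_21_2 lc_g_Cert_tree lc_g_rc_23_9 lc_g_rc_26_6 lc_g_rc_27_0 lc_g_rc_24_3 lc_g_rc_21_3 lc_g_rc_26_9 lc_g_rc_26_6 lc_g_rc_26_3 lc_g_rc_26_0 lc_g_Cert_tree lc_g_Cert_tree lc_g_rc_21_2 lc_g_rc_21_2 lc_g_rc_21_3 lc_g_rc_21_3 lc_g_rc_21_2 lc_g_rc_23_7 lc_g_rc_24_1 lc_g_rc_26_6 lc_g_rc_26_9 lc_g_rc_27_0 lc_g_rc_21_3 lc_g_Cert_tree lc_g_rc_21_3 lc_g_Cert_tree lc_g_rc_21_3 lc_g_rc_21_2 lc_g_rc_26_0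 lc_g_rc_21_3 lc_g_rc_21_3 lc_g_rc_21_3 lc_g_Cert_tree lc_g_rc_27_6 lc_g_rc_21_2) (@D3.rec (fun _ => (Cert rels S Gen.g)) lc_g_rc_26_9 lc_g_rc_27_9 lc_g_rc_21_3 lc_g_rc_21_3 lc_g_rc_27_9 lc_g_rc_27_0 lc_g_rc_21_3 lc_g_Cert_tree lc_g_Cert_tree lc_g_rc_21_2 lc_g_rc_21_2 lc_g_rc_27_3 lc_g_rc_21_3 lc_g_rc_21_3 lc_g_Cert_tree lc_g_rc_27_6 lc_g_rc_21_2 lc_g_rc_21_3 lc_g_rc_27_3 lc_g_rc_24_9 lc_g_rc_27_6 lc_g_rc_24_3 lc_g_Cert_tree lc_g_rc_27_9 lc_g_rc_24_7 lc_g_rc_23_3 lc_g_rc_24_7 lc_g_Cert_tree lc_g_Cert_tree lc_g_Cert_tree lc_g_rc_27_6 lc_g_Cert_tree lc_g_rc_21_2 lc_g_rc_27_3 lc_g_rc_26_0 lc_g_Cert_tree lc_g_rc_21_2 lc_g_rc_21_3 lc_g_rc_26_6 lc_g_rc_27_6 lc_g_rc_21_3 lc_g_rc_26_0 lc_g_Cert_tree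 lc_g_rc_26_6 lc_g_rc_27_0 lc_g_rc_27_9 lc_g_rc_23_3 lc_g_Cert_tree lc_g_rc_21_3 lc_g_rc_26_3 lc_g_Cert_tree lc_g_rc_24_9 lc_g_rc_21_3 lc_g_rc_21_3 lc_g_rc_21_3 lc_g_Cert_tree lc_g_rc_21_2 lc_g_rc_26_3 lc_g_rc_23_7 lc_g_rc_21_3 lc_g_Cert_tree lc_g_rc_23_3) (@D3.rec (fun _ => (Cert rels S Gen.g)) lc_g_rc_21_2 lc_g_rc_21_3 lc_g_Cert_tree lc_g_rc_21_2 lc_g_rc_24_3 lc_g_Cert_tree lc_g_rc_27_9 lc_g_rc_26_3 lc_g_rc_26_0 lc_g_rc_23_7 lc_g_rc_27_6 lc_g_rc_21_3 lc_g_Cert_tree lc_g_Cert_tree lc_g_rc_24_3 lc_g_rc_27_3 lc_g_rc_21_2 lc_g_rc_21_3 lc_g_Cert_tree lc_g_rc_27_6 lc_g_rc_21_2 lc_g_rc_26_0 lc_g_rc_27_6 lc_g_rc_27_6 lc_g_Cert_tree lc_g_rc_21_3 lc_g_rc_23_1 lc_g_rc_26_3 lc_g_rc_21_3 lc_g_rc_27_9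 lc_g_rc_21_2 lc_g_rc_24_3 lc_g_rc_27_6 lc_g_rc_24_3 lc_g_Cert_tree lc_g_rc_25_7 lc_g_rc_23_9 lc_g_rc_24_7 lc_g_Cert_tree lc_g_Cert_tree lc_g_Cert_tree lc_g_Cert_tree lc_g_rc_26_0 lc_g_Cert_tree lc_g_rc_26_0 lc_g_Cert_tree lc_g_rc_23_9 lc_g_rc_23_3 lc_g_rc_23_3 lc_g_rc_25_15 lc_g_rc_21_2 lc_g_rc_26_3 lc_g_rc_26_6 lc_g_rc_26_6 lc_g_rc_21_3 lc_g_Cert_tree lc_g_rc_27_9 lc_g_Cert_tree lc_g_rc_21_3 lc_g_Cert_tree lc_g_Cert_tree lc_g_rc_27_3) (@D3.rec (fun _ => (Cert rels S Gen.g)) lc_g_rc_27_3 lc_g_rc_21_3 lc_g_rc_27_0 lc_g_rc_27_9 lc_g_Cert_tree lc_g_rc_27_9 lc_g_rc_23_3 lc_g_Cert_tree lc_g_rc_23_1 lc_g_rc_24_3 lc_g_Cert_tree lc_g_rc_27_9 lc_g_rc_24_1 lc_g_Cert_tree lc_g_Cert_tree lc_g_rc_27_3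 lc_g_rc_26_6 lc_g_rc_21_3 lc_g_rc_21_2 lc_g_rc_25_19 lc_g_rc_21_3 lc_g_rc_21_2 lc_g_rc_27_6 lc_g_rc_26_3 lc_g_Cert_tree lc_g_rc_21_2 lc_g_rc_26_6 lc_g_rc_21_3 lc_g_rc_23_7 lc_g_rc_21_3 lc_g_Cert_tree lc_g_rc_27_3 lc_g_rc_21_2 lc_g_rc_27_0 lc_g_Cert_tree lc_g_rc_26_3 lc_g_rc_21_2 lc_g_Cert_tree lc_g_rc_21_3 lc_g_Cert_tree lc_g_rc_23_7 lc_g_rc_23_1 lc_g_Cert_tree lc_g_Cert_tree lc_g_rc_21_3 lc_g_rc_26_0 lc_g_rc_23_9 lc_g_rc_23_7 lc_g_rc_26_3 lc_g_rc_23_7 lc_g_Cert_tree lc_g_Cert_tree lc_g_rc_21_2 lc_g_rc_27_6 lc_g_rc_24_1 lc_g_rc_27_0 lc_g_rc_26_0 lc_g_rc_25_19 lc_g_rc_26_0 lc_g_rc_26_3 lc_g_Cert_tree lc_g_Cert_tree) (@D3.rec (fun _ => (Cert rels S Gen.g)) lc_g_rc_26_3 lc_g_rc_27_6 lc_g_rc_21_3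 lc_g_Cert_tree lc_g_rc_26_3 lc_g_rc_23_9 lc_g_rc_21_3 lc_g_Cert_tree lc_g_rc_27_3 lc_g_rc_21_2 lc_g_rc_21_3 lc_g_rc_27_3 lc_g_rc_27_6 lc_g_rc_27_0 lc_g_Cert_tree lc_g_Cert_tree lc_g_Cert_tree lc_g_rc_27_3 lc_g_rc_23_1 lc_g_rc_21_3 lc_g_rc_21_3 lc_g_rc_21_2 lc_g_rc_21_3 lc_g_rc_24_7 lc_g_rc_27_6 lc_g_rc_21_2 lc_g_rc_27_6 lc_g_Cert_tree lc_g_rc_27_3 lc_g_rc_21_2 lc_g_Cert_tree lc_g_rc_21_3 lc_g_rc_21_3 lc_g_Cert_tree lc_g_rc_27_3 lc_g_rc_21_2 lc_g_rc_23_1 lc_g_rc_21_2 lc_g_rc_21_2 lc_g_Cert_tree lc_g_Cert_tree lc_g_Cert_tree lc_g_rc_21_3 lc_g_Cert_tree lc_g_rc_26_3 lc_g_rc_21_3 lc_g_Cert_tree lc_g_rc_27_6 lc_g_rc_21_2 lc_g_rc_21_3 lc_g_Cert_tree lc_g_rc_26_3 lc_g_rc_27_9 lc_g_rc_21_3 lc_g_rc_27_6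 lc_g_rc_21_2 lc_g_rc_26_3 lc_g_Cert_tree lc_g_rc_27_6 lc_g_rc_21_2 lc_g_rc_26_0 lc_g_Cert_tree) (@D3.rec (fun _ => (Cert rels S Gen.g)) lc_g_rc_23_3 lc_g_rc_26_0 lc_g_rc_21_2 lc_g_rc_23_1 lc_g_rc_24_7 lc_g_rc_23_3 lc_g_rc_21_3 lc_g_Cert_tree lc_g_rc_26_0 lc_g_rc_21_2 lc_g_Cert_tree lc_g_rc_27_0 lc_g_rc_21_3 lc_g_Cert_tree lc_g_Cert_tree lc_g_Cert_tree lc_g_rc_24_7 lc_g_rc_27_6 lc_g_rc_26_9 lc_g_rc_21_3 lc_g_Cert_tree lc_g_rc_21_2 lc_g_Cert_tree lc_g_rc_21_2 lc_g_Cert_tree lc_g_Cert_tree lc_g_rc_21_2 lc_g_rc_27_6 lc_g_rc_21_3 lc_g_Cert_tree lc_g_Cert_tree lc_g_rc_21_2 lc_g_rc_27_3 lc_g_rc_21_3 lc_g_rc_27_6 lc_g_rc_27_9 lc_g_rc_26_0 lc_g_rc_21_3 lc_g_rc_21_2 lc_g_rc_21_3 lc_g_Cert_tree lc_g_Cert_tree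 lc_g_rc_21_2 lc_g_rc_27_9 lc_g_rc_24_9 lc_g_rc_21_2 lc_g_rc_21_3 lc_g_rc_21_3 lc_g_Cert_tree lc_g_Cert_tree lc_g_rc_21_2 lc_g_rc_21_3 lc_g_rc_24_9 lc_g_Cert_tree lc_g_Cert_tree lc_g_rc_26_6 lc_g_rc_21_3 lc_g_Cert_tree lc_g_Cert_tree lc_g_Cert_tree lc_g_rc_21_2 lc_g_Cert_tree) (@D3.rec (fun _ => (Cert rels S Gen.g)) lc_g_rc_27_3 lc_g_Cert_tree lc_g_Cert_tree lc_g_rc_27_3 lc_g_rc_21_2 lc_g_rc_27_6 lc_g_Cert_tree lc_g_rc_27_6 lc_g_rc_24_1 lc_g_rc_21_2 lc_g_rc_24_7 lc_g_rc_21_3 lc_g_rc_27_6 lc_g_rc_21_3 lc_g_Cert_tree lc_g_rc_21_3 lc_g_rc_23_7 lc_g_rc_24_3 lc_g_rc_21_2 lc_g_rc_21_2 lc_g_rc_21_3 lc_g_rc_27_9 lc_g_rc_27_3 lc_g_rc_27_9 lc_g_rc_21_3 lc_g_Cert_tree lc_g_Cert_tree lc_g_rc_23_7 lc_g_rc_21_3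 lc_g_Cert_tree lc_g_rc_26_3 lc_g_Cert_tree lc_g_rc_21_3 lc_g_Cert_tree lc_g_rc_27_3 lc_g_rc_25_3 lc_g_rc_27_6 lc_g_rc_27_6 lc_g_rc_27_0 lc_g_rc_24_7 lc_g_rc_21_3 lc_g_rc_23_3 lc_g_rc_23_7 lc_g_rc_27_6 lc_g_rc_21_3 lc_g_Cert_tree lc_g_Cert_tree lc_g_rc_26_6 lc_g_Cert_tree lc_g_Cert_tree lc_g_rc_21_3 lc_g_Cert_tree lc_g_rc_27_6 lc_g_rc_21_2 lc_g_rc_23_1 lc_g_rc_23_3 lc_g_Cert_tree lc_g_rc_21_3 lc_g_Cert_tree lc_g_rc_26_6 lc_g_rc_23_3 lc_g_rc_21_2) (@D3.rec (fun _ => (Cert rels S Gen.g)) lc_g_rc_21_3 lc_g_Cert_tree lc_g_rc_26_6 lc_g_Cert_tree lc_g_Cert_tree lc_g_rc_21_3 lc_g_Cert_tree lc_g_Cert_tree lc_g_rc_21_2 lc_g_rc_21_2 lc_g_Cert_tree lc_g_rc_27_0 lc_g_Cert_tree lc_g_Cert_tree lc_g_rc_21_3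 lc_g_Cert_tree lc_g_rc_26_6 lc_g_rc_27_6 lc_g_rc_21_3 lc_g_Cert_tree lc_g_Cert_tree lc_g_rc_24_7 lc_g_Cert_tree lc_g_rc_26_3 lc_g_Cert_tree lc_g_Cert_tree lc_g_rc_24_3 lc_g_Cert_tree lc_g_rc_27_3 lc_g_rc_24_3 lc_g_rc_21_3 lc_g_rc_24_7 lc_g_rc_24_1 lc_g_rc_27_3 lc_g_Cert_tree lc_g_rc_27_3 lc_g_rc_21_3 lc_g_Cert_tree lc_g_Cert_tree lc_g_rc_23_7 lc_g_rc_24_1 lc_g_rc_21_3 lc_g_rc_26_6 lc_g_rc_21_3 lc_g_rc_27_6 lc_g_rc_24_3 lc_g_rc_26_3 lc_g_rc_23_7 lc_g_rc_27_3 lc_g_rc_21_3 lc_g_Cert_tree lc_g_rc_24_1 lc_g_rc_21_3 lc_g_rc_21_2 lc_g_rc_24_3 lc_g_rc_23_3 lc_g_rc_21_2 lc_g_rc_23_9 lc_g_rc_21_3 lc_g_rc_26_3 lc_g_Cert_tree lc_g_Cert_tree) (@D3.rec (fun _ => (Cert rels S Gen.g)) lc_g_rc_21_2 lc_g_rc_21_2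 lc_g_rc_21_2 lc_g_rc_27_3 lc_g_Cert_tree lc_g_rc_27_6 lc_g_rc_27_3 lc_g_rc_26_3 lc_g_rc_23_7 lc_g_Cert_tree lc_g_rc_23_7 lc_g_rc_26_0 lc_g_rc_24_9 lc_g_rc_26_3 lc_g_Cert_tree lc_g_rc_25_7 lc_g_rc_21_2 lc_g_Cert_tree lc_g_rc_27_9 lc_g_Cert_tree lc_g_rc_21_2 lc_g_rc_26_3 lc_g_rc_21_3 lc_g_Cert_tree lc_g_rc_23_1 lc_g_Cert_tree lc_g_Cert_tree lc_g_rc_23_3 lc_g_Cert_tree lc_g_rc_23_7 lc_g_Cert_tree lc_g_Cert_tree lc_g_rc_21_3 lc_g_Cert_tree lc_g_rc_21_2 lc_g_rc_26_6 lc_g_rc_21_3 lc_g_Cert_tree lc_g_rc_24_3 lc_g_rc_27_3 lc_g_rc_26_6 lc_g_rc_21_3 lc_g_rc_21_3 lc_g_Cert_tree lc_g_rc_21_2 lc_g_rc_24_3 lc_g_rc_27_0 lc_g_rc_21_3 lc_g_Cert_tree lc_g_rc_21_2 lc_g_Cert_tree lc_g_rc_26_6 lc_g_rc_23_9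 lc_g_rc_21_3 lc_g_Cert_tree lc_g_rc_21_2 lc_g_rc_21_2 lc_g_rc_27_6 lc_g_rc_21_3 lc_g_Cert_tree lc_g_rc_21_2 lc_g_Cert_tree) (@D3.rec (fun _ => (Cert rels S Gen.g)) lc_g_rc_24_7 lc_g_rc_23_3 lc_g_rc_21_3 lc_g_Cert_tree lc_g_rc_21_2 lc_g_Cert_tree lc_g_rc_24_3 lc_g_rc_26_9 lc_g_rc_23_7 lc_g_rc_21_3 lc_g_Cert_tree lc_g_rc_23_7 lc_g_rc_21_2 lc_g_rc_21_3 lc_g_Cert_tree lc_g_Cert_tree lc_g_Cert_tree lc_g_rc_26_0 lc_g_rc_27_6 lc_g_rc_27_0 lc_g_Cert_tree lc_g_Cert_tree lc_g_Cert_tree lc_g_rc_21_3 lc_g_Cert_tree lc_g_rc_21_2 lc_g_Cert_tree lc_g_rc_26_0 lc_g_Cert_tree lc_g_Cert_tree lc_g_rc_21_3 lc_g_Cert_tree lc_g_Cert_tree lc_g_rc_23_9 lc_g_rc_21_3 lc_g_Cert_tree lc_g_rc_26_9 lc_g_rc_26_6 lc_g_rc_27_0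 lc_g_rc_27_9 lc_g_rc_23_3 lc_g_Cert_tree lc_g_rc_24_9 lc_g_rc_21_2 lc_g_rc_21_3 lc_g_rc_26_6 lc_g_rc_24_3 lc_g_Cert_tree lc_g_rc_27_3 lc_g_rc_21_2 lc_g_rc_21_3 lc_g_Cert_tree lc_g_rc_23_9 lc_g_Cert_tree lc_g_rc_24_3 lc_g_rc_21_2 lc_g_rc_24_3 lc_g_Cert_tree lc_g_Cert_tree lc_g_Cert_tree lc_g_rc_26_9 lc_g_rc_23_7) (@D3.rec (fun _ => (Cert rels S Gen.g)) lc_g_rc_26_3 lc_g_rc_23_7 lc_g_rc_26_0 lc_g_rc_24_7 lc_g_Cert_tree lc_g_rc_26_6 lc_g_Cert_tree lc_g_rc_26_6 lc_g_rc_21_2 lc_g_rc_24_7 lc_g_rc_21_2 lc_g_rc_21_3 lc_g_Cert_tree lc_g_rc_21_3 lc_g_Cert_tree lc_g_rc_21_2 lc_g_rc_25_7 lc_g_rc_27_9 lc_g_Cert_tree lc_g_rc_23_1 lc_g_rc_24_7 lc_g_rc_24_7 lc_g_Cert_tree lc_g_Cert_tree lc_g_rc_21_3 lc_g_Cert_tree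 lc_g_rc_21_2 lc_g_rc_21_3 lc_g_Cert_tree lc_g_rc_21_2 lc_g_rc_27_3 lc_g_Cert_tree lc_g_rc_21_2 lc_g_rc_26_3 lc_g_Cert_tree lc_g_rc_21_3 lc_g_rc_27_6 lc_g_rc_26_0 lc_g_rc_23_3 lc_g_rc_21_2 lc_g_rc_24_1 lc_g_Cert_tree lc_g_rc_21_3 lc_g_Cert_tree lc_g_Cert_tree lc_g_rc_27_6 lc_g_rc_26_6 lc_g_rc_23_9 lc_g_Cert_tree lc_g_rc_27_0 lc_g_rc_21_2 lc_g_rc_23_7 lc_g_rc_21_2 lc_g_rc_24_7 lc_g_rc_24_7 lc_g_Cert_tree lc_g_rc_26_0 lc_g_rc_27_3 lc_g_rc_26_0 lc_g_rc_27_9 lc_g_Cert_tree lc_g_Cert_tree) (@D3.rec (fun _ => (Cert rels S Gen.g)) lc_g_rc_23_1 lc_g_rc_21_2 lc_g_rc_27_6 lc_g_rc_21_3 lc_g_rc_26_3 lc_g_rc_24_7 lc_g_rc_26_6 lc_g_Cert_tree lc_g_rc_27_6 lc_g_Cert_tree lc_g_rc_25_3 lc_g_rc_21_3 lc_g_Cert_tree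 lc_g_Cert_tree lc_g_rc_23_7 lc_g_Cert_tree lc_g_rc_24_7 lc_g_rc_23_9 lc_g_rc_23_3 lc_g_Cert_tree lc_g_rc_24_3 lc_g_rc_23_3 lc_g_rc_25_7 lc_g_rc_23_3 lc_g_rc_23_3 lc_g_rc_27_6 lc_g_Cert_tree lc_g_rc_21_2 lc_g_rc_21_3 lc_g_rc_21_3 lc_g_rc_24_3 lc_g_rc_26_3 lc_g_rc_23_7 lc_g_Cert_tree lc_g_rc_27_3 lc_g_rc_27_6 lc_g_rc_21_2 lc_g_rc_21_3 lc_g_Cert_tree lc_g_rc_21_2 lc_g_rc_21_2 lc_g_Cert_tree lc_g_rc_23_7 lc_g_rc_24_3 lc_g_rc_23_1 lc_g_Cert_tree lc_g_rc_24_3 lc_g_rc_21_3 lc_g_Cert_tree lc_g_rc_21_2 lc_g_rc_23_7 lc_g_rc_24_7 lc_g_rc_21_2 lc_g_rc_23_1 lc_g_rc_24_3 lc_g_Cert_tree lc_g_rc_21_3 lc_g_rc_27_0 lc_g_rc_25_19 lc_g_rc_27_9 lc_g_rc_24_3 lc_g_rc_24_9) (@D3.rec (fun _ => (Cert rels S Gen.g))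 lc_g_rc_21_2 lc_g_rc_21_3 lc_g_Cert_tree lc_g_rc_26_3 lc_g_rc_21_2 lc_g_rc_27_9 lc_g_rc_24_7 lc_g_rc_27_6 lc_g_rc_21_2 lc_g_rc_21_2 lc_g_rc_21_3 lc_g_rc_23_1 lc_g_rc_27_6 lc_g_rc_23_3 lc_g_rc_25_7 lc_g_rc_26_3 lc_g_Cert_tree lc_g_rc_23_9 lc_g_rc_26_0 lc_g_Cert_tree lc_g_Cert_tree lc_g_rc_21_2 lc_g_rc_27_6 lc_g_rc_21_2 lc_g_rc_21_3 lc_g_rc_23_3 lc_g_rc_26_9 lc_g_Cert_tree lc_g_rc_21_2 lc_g_rc_27_6 lc_g_Cert_tree lc_g_rc_21_3 lc_g_rc_21_3 lc_g_Cert_tree lc_g_rc_26_0 lc_g_rc_21_2 lc_g_rc_21_3 lc_g_rc_21_2 lc_g_rc_27_6 lc_g_rc_21_3 lc_g_Cert_tree lc_g_rc_21_2 lc_g_rc_23_3 lc_g_Cert_tree lc_g_rc_24_3 lc_g_rc_26_3 lc_g_rc_21_2 lc_g_rc_27_3 lc_g_rc_26_6 lc_g_Cert_tree lc_g_rc_21_3 lc_g_rc_21_2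 lc_g_rc_26_6 lc_g_rc_23_1 lc_g_rc_21_3 lc_g_rc_26_9 lc_g_rc_21_2 lc_g_rc_21_2 lc_g_rc_21_2 lc_g_rc_21_2 lc_g_rc_25_19 lc_g_Cert_tree) (@D3.rec (fun _ => (Cert rels S Gen.g)) lc_g_rc_27_9 lc_g_rc_23_7 lc_g_rc_26_0 lc_g_Cert_tree lc_g_rc_21_3 lc_g_rc_24_3 lc_g_rc_24_7 lc_g_rc_24_3 lc_g_rc_25_7 lc_g_rc_24_7 lc_g_Cert_tree lc_g_rc_23_3 lc_g_Cert_tree lc_g_rc_27_3 lc_g_rc_21_2 lc_g_rc_23_1 lc_g_rc_26_0 lc_g_rc_23_7 lc_g_rc_24_7 lc_g_rc_21_3 lc_g_Cert_tree lc_g_rc_23_9 lc_g_rc_27_6 lc_g_rc_21_3 lc_g_rc_27_0 lc_g_rc_27_0 lc_g_rc_26_6 lc_g_rc_21_3 lc_g_rc_21_3 lc_g_Cert_tree lc_g_Cert_tree lc_g_rc_21_3 lc_g_rc_24_3 lc_g_rc_21_3 lc_g_rc_27_6 lc_g_rc_27_6 lc_g_rc_27_3 lc_g_Cert_tree lc_g_rc_26_0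 lc_g_rc_23_3 lc_g_rc_21_3 lc_g_rc_21_3 lc_g_rc_26_0 lc_g_rc_27_0 lc_g_rc_26_0 lc_g_rc_23_3 lc_g_rc_21_2 lc_g_rc_27_9 lc_g_Cert_tree lc_g_Cert_tree lc_g_rc_26_6 lc_g_Cert_tree lc_g_rc_23_7 lc_g_rc_24_3 lc_g_rc_21_3 lc_g_Cert_tree lc_g_rc_21_2 lc_g_rc_21_3 lc_g_rc_23_7 lc_g_rc_21_2 lc_g_rc_21_3 lc_g_Cert_tree) (@D3.rec (fun _ => (Cert rels S Gen.g)) lc_g_rc_24_7 lc_g_rc_27_3 lc_g_rc_24_3 lc_g_rc_27_3 lc_g_rc_24_7 lc_g_rc_21_2 lc_g_rc_21_3 lc_g_rc_24_7 lc_g_rc_23_3 lc_g_Cert_tree lc_g_rc_26_9 lc_g_rc_23_1 lc_g_rc_24_7 lc_g_Cert_tree lc_g_Cert_tree lc_g_Cert_tree lc_g_rc_21_2 lc_g_rc_27_3 lc_g_rc_27_9 lc_g_rc_21_2 lc_g_rc_21_3 lc_g_rc_23_1 lc_g_rc_27_3 lc_g_rc_23_1 lc_g_rc_27_3 lc_g_rc_21_3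 lc_g_Cert_tree lc_g_Cert_tree lc_g_rc_26_0 lc_g_Cert_tree lc_g_rc_21_3 lc_g_Cert_tree lc_g_rc_21_3 lc_g_Cert_tree lc_g_rc_21_2 lc_g_rc_21_2 lc_g_rc_21_3 lc_g_Cert_tree lc_g_rc_21_2 lc_g_rc_24_1 lc_g_rc_21_2 lc_g_rc_23_7 lc_g_rc_26_6 lc_g_Cert_tree lc_g_rc_21_3 lc_g_rc_21_2 lc_g_Cert_tree lc_g_rc_21_2 lc_g_rc_21_3 lc_g_Cert_tree lc_g_rc_24_1 lc_g_rc_26_0 lc_g_rc_26_0 lc_g_Cert_tree lc_g_rc_26_0 lc_g_rc_26_3 lc_g_rc_24_7 lc_g_rc_21_2 lc_g_rc_23_7 lc_g_rc_27_3 lc_g_rc_21_2 lc_g_rc_21_3) (@D3.rec (fun _ => (Cert rels S Gen.g)) lc_g_Cert_tree lc_g_Cert_tree lc_g_rc_26_0 lc_g_Cert_tree lc_g_rc_21_3 lc_g_Cert_tree lc_g_rc_21_2 lc_g_Cert_tree lc_g_rc_26_6 lc_g_rc_21_2 lc_g_rc_21_3 lc_g_Cert_tree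 lc_g_rc_24_3 lc_g_rc_24_7 lc_g_rc_21_2 lc_g_rc_24_7 lc_g_rc_27_3 lc_g_rc_21_3 lc_g_rc_26_9 lc_g_rc_21_2 lc_g_rc_21_3 lc_g_rc_23_7 lc_g_rc_21_3 lc_g_rc_26_0 lc_g_rc_27_3 lc_g_rc_24_1 lc_g_rc_26_9 lc_g_rc_27_0 lc_g_rc_21_3 lc_g_rc_26_3 lc_g_Cert_tree lc_g_rc_26_6 lc_g_rc_23_7 lc_g_Cert_tree lc_g_rc_21_2 lc_g_rc_21_2 lc_g_rc_23_1 lc_g_rc_27_0 lc_g_rc_21_2 lc_g_rc_24_3 lc_g_rc_21_3 lc_g_Cert_tree lc_g_rc_23_3 lc_g_rc_27_9 lc_g_rc_23_9 lc_g_rc_23_1 lc_g_Cert_tree lc_g_rc_27_6 lc_g_rc_26_6 lc_g_rc_21_3 lc_g_Cert_tree lc_g_rc_21_2 lc_g_Cert_tree lc_g_rc_21_2 lc_g_rc_21_2 lc_g_rc_27_0 lc_g_rc_24_1 lc_g_Cert_tree lc_g_rc_21_3 lc_g_Cert_tree lc_g_rc_21_2 lc_g_rc_21_3) (@D3.rec (fun _ => (Cert rels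 S Gen.g)) lc_g_rc_21_3 lc_g_rc_26_9 lc_g_rc_26_0 lc_g_rc_23_3 lc_g_rc_23_3 lc_g_rc_26_3 lc_g_rc_26_3 lc_g_rc_21_3 lc_g_rc_21_2 lc_g_Cert_tree lc_g_rc_26_9 lc_g_rc_26_6 lc_g_rc_26_3 lc_g_rc_26_3 lc_g_rc_26_0 lc_g_rc_21_3 lc_g_rc_21_2 lc_g_Cert_tree lc_g_rc_26_9 lc_g_rc_24_1 lc_g_rc_26_9 lc_g_rc_21_3 lc_g_Cert_tree lc_g_rc_23_3 lc_g_rc_24_9 lc_g_Cert_tree lc_g_rc_26_0 lc_g_Cert_tree lc_g_Cert_tree lc_g_rc_27_6 lc_g_rc_24_1 lc_g_rc_21_2 lc_g_rc_24_7 lc_g_rc_26_3 lc_g_rc_23_9 lc_g_Cert_tree lc_g_rc_27_3 lc_g_rc_21_2 lc_g_Cert_tree lc_g_rc_27_6 lc_g_rc_27_3 lc_g_rc_26_3 lc_g_Cert_tree lc_g_rc_21_3 lc_g_rc_26_6 lc_g_rc_21_3 lc_g_rc_27_0 lc_g_rc_21_3 lc_g_Cert_tree lc_g_rc_21_2 lc_g_rc_26_6 lc_g_rc_27_6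 lc_g_rc_21_3 lc_g_rc_21_3 lc_g_Cert_tree lc_g_rc_21_2 lc_g_rc_21_3 lc_g_rc_23_3 lc_g_rc_21_3 lc_g_rc_23_1 lc_g_rc_23_1 lc_g_rc_21_3) (@D3.rec (fun _ => (Cert rels S Gen.g)) lc_g_Cert_tree lc_g_Cert_tree lc_g_rc_27_3 lc_g_rc_26_6 lc_g_rc_27_3 lc_g_rc_21_2 lc_g_rc_21_2 lc_g_rc_24_3 lc_g_rc_26_6 lc_g_Cert_tree lc_g_Cert_tree lc_g_Cert_tree lc_g_rc_21_2 lc_g_rc_26_0 lc_g_rc_21_2 lc_g_rc_21_2 lc_g_rc_26_6 lc_g_Cert_tree lc_g_rc_21_3 lc_g_Cert_tree lc_g_Cert_tree lc_g_rc_21_2 lc_g_rc_21_3 lc_g_rc_27_6 lc_g_Cert_tree lc_g_rc_27_6 lc_g_rc_21_3 lc_g_Cert_tree lc_g_rc_21_2 lc_g_rc_24_3 lc_g_rc_26_6 lc_g_Cert_tree lc_g_rc_21_3 lc_g_rc_27_3 lc_g_rc_21_3 lc_g_Cert_tree lc_g_rc_26_3 lc_g_rc_21_2 lc_g_rc_26_6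 lc_g_rc_23_3 lc_g_rc_26_3 lc_g_rc_24_1 lc_g_rc_21_3 lc_g_Cert_tree lc_g_rc_21_2 lc_g_rc_23_1 lc_g_rc_26_6 lc_g_rc_27_6 lc_g_rc_24_7 lc_g_rc_27_3 lc_g_rc_27_6 lc_g_rc_26_9 lc_g_rc_21_2 lc_g_rc_21_2 lc_g_rc_26_3 lc_g_rc_26_6 lc_g_rc_26_6 lc_g_Cert_tree lc_g_rc_23_3 lc_g_rc_21_3 lc_g_Cert_tree lc_g_rc_26_9) (@D3.rec (fun _ => (Cert rels S Gen.g)) lc_g_rc_21_3 lc_g_rc_27_9 lc_g_rc_21_2 lc_g_rc_21_3 lc_g_Cert_tree lc_g_rc_23_1 lc_g_rc_24_3 lc_g_rc_21_3 lc_g_Cert_tree lc_g_rc_21_2 lc_g_rc_21_3 lc_g_Cert_tree lc_g_rc_27_9 lc_g_Cert_tree lc_g_rc_27_3 lc_g_rc_23_3 lc_g_rc_27_0 lc_g_rc_21_3 lc_g_Cert_tree lc_g_rc_21_2 lc_g_rc_27_3 lc_g_rc_21_3 lc_g_Cert_tree lc_g_rc_21_2 lc_g_rc_21_2 lc_g_rc_24_1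 lc_g_Cert_tree lc_g_rc_21_3 lc_g_Cert_tree lc_g_rc_21_3 lc_g_rc_24_7 lc_g_rc_24_7 lc_g_rc_26_6 lc_g_Cert_tree lc_g_rc_21_2 lc_g_rc_21_2 lc_g_Cert_tree lc_g_rc_25_19 lc_g_rc_21_2 lc_g_rc_21_3 lc_g_Cert_tree lc_g_rc_26_3 lc_g_rc_21_2 lc_g_rc_26_3 lc_g_Cert_tree lc_g_rc_27_9 lc_g_rc_24_3 lc_g_rc_23_1 lc_g_rc_24_7 lc_g_rc_21_2 lc_g_rc_21_2 lc_g_rc_21_2 lc_g_rc_23_7 lc_g_rc_27_6 lc_g_rc_21_3 lc_g_Cert_tree lc_g_rc_21_3 lc_g_Cert_tree lc_g_rc_21_2 lc_g_Cert_tree lc_g_rc_21_3 lc_g_Cert_tree) (@D3.rec (fun _ => (Cert rels S Gen.g)) lc_g_Cert_tree lc_g_rc_21_2 lc_g_rc_23_3 lc_g_rc_27_3 lc_g_rc_21_3 lc_g_Cert_tree lc_g_rc_24_3 lc_g_rc_21_2 lc_g_Cert_tree lc_g_rc_26_0 lc_g_rc_23_1 lc_g_rc_21_3 lc_g_Cert_tree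 lc_g_rc_23_1 lc_g_rc_27_3 lc_g_rc_21_2 lc_g_rc_26_9 lc_g_Cert_tree lc_g_rc_21_3 lc_g_Cert_tree lc_g_rc_23_9 lc_g_rc_27_6 lc_g_rc_21_3 lc_g_Cert_tree lc_g_rc_26_3 lc_g_rc_25_19 lc_g_rc_27_3 lc_g_rc_21_2 lc_g_rc_21_3 lc_g_Cert_tree lc_g_rc_21_2 lc_g_rc_21_2 lc_g_Cert_tree lc_g_rc_21_2 lc_g_rc_26_3 lc_g_rc_23_7 lc_g_rc_24_1 lc_g_rc_26_0 lc_g_rc_21_2 lc_g_rc_24_3 lc_g_rc_21_3 lc_g_Cert_tree lc_g_rc_23_3 lc_g_rc_25_15 lc_g_rc_24_3 lc_g_Cert_tree lc_g_Cert_tree lc_g_rc_24_3 lc_g_rc_21_3 lc_g_rc_21_2 lc_g_rc_27_9 lc_g_rc_24_3 lc_g_rc_23_3 lc_g_rc_21_3 lc_g_rc_27_3 lc_g_rc_23_3 lc_g_rc_21_3 lc_g_rc_27_3 lc_g_rc_21_3 lc_g_Cert_tree lc_g_rc_21_2 lc_g_rc_26_6) (@D3.rec (fun _ => (Cert rels S Gen.g))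 lc_g_rc_21_2 lc_g_rc_23_1 lc_g_rc_21_2 lc_g_rc_21_2 lc_g_rc_26_0 lc_g_rc_26_0 lc_g_rc_21_2 lc_g_rc_23_1 lc_g_rc_21_3 lc_g_Cert_tree lc_g_Cert_tree lc_g_rc_26_0 lc_g_rc_24_3 lc_g_rc_27_3 lc_g_rc_21_2 lc_g_rc_21_3 lc_g_Cert_tree lc_g_rc_21_3 lc_g_rc_21_3 lc_g_Cert_tree lc_g_Cert_tree lc_g_rc_21_2 lc_g_rc_23_7 lc_g_rc_25_3 lc_g_rc_23_3 lc_g_rc_27_6 lc_g_Cert_tree lc_g_rc_24_7 lc_g_rc_24_9 lc_g_rc_25_7 lc_g_rc_23_3 lc_g_rc_24_3 lc_g_rc_23_7 lc_g_rc_24_1 lc_g_Cert_tree lc_g_rc_21_2 lc_g_rc_21_3 lc_g_rc_26_3 lc_g_rc_26_6 lc_g_rc_27_3 lc_g_rc_27_6 lc_g_rc_27_3 lc_g_rc_27_0 lc_g_rc_27_3 lc_g_rc_21_3 lc_g_rc_26_9 lc_g_rc_26_0 lc_g_rc_24_1 lc_g_rc_23_9 lc_g_Cert_tree lc_g_rc_23_3 lc_g_rc_27_3 lc_g_rc_23_3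 lc_g_Cert_tree lc_g_rc_27_0 lc_g_rc_24_1 lc_g_rc_23_1 lc_g_rc_26_6 lc_g_rc_26_6 lc_g_rc_26_0 lc_g_rc_21_3 lc_g_rc_21_3) (@D3.rec (fun _ => (Cert rels S Gen.g)) lc_g_rc_27_9 lc_g_rc_21_3 lc_g_rc_21_3 lc_g_rc_21_2 lc_g_rc_21_2 lc_g_rc_21_3 lc_g_Cert_tree lc_g_Cert_tree lc_g_rc_25_19 lc_g_Cert_tree lc_g_rc_27_3 lc_g_rc_26_6 lc_g_Cert_tree lc_g_Cert_tree lc_g_rc_24_7 lc_g_rc_21_3 lc_g_rc_26_9 lc_g_rc_23_7 lc_g_rc_26_0 lc_g_rc_24_1 lc_g_rc_21_3 lc_g_rc_21_2 lc_g_Cert_tree lc_g_Cert_tree lc_g_Cert_tree lc_g_rc_21_3 lc_g_Cert_tree lc_g_Cert_tree lc_g_rc_23_1 lc_g_Cert_tree lc_g_rc_21_3 lc_g_rc_27_3 lc_g_rc_21_2 lc_g_rc_21_2 lc_g_Cert_tree lc_g_rc_21_3 lc_g_rc_23_3 lc_g_rc_23_9 lc_g_rc_21_2 lc_g_rc_21_3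 lc_g_Cert_tree lc_g_rc_21_2 lc_g_rc_27_3 lc_g_rc_26_0 lc_g_Cert_tree lc_g_rc_24_1 lc_g_rc_27_9 lc_g_rc_21_3 lc_g_Cert_tree lc_g_Cert_tree lc_g_rc_24_9 lc_g_rc_21_2 lc_g_rc_23_3 lc_g_rc_25_19 lc_g_rc_21_3 lc_g_rc_23_1 lc_g_rc_24_1 lc_g_rc_21_3 lc_g_Cert_tree lc_g_Cert_tree lc_g_rc_21_2 lc_g_rc_27_9) (@D3.rec (fun _ => (Cert rels S Gen.g)) lc_g_rc_21_2 lc_g_rc_21_3 lc_g_Cert_tree lc_g_rc_26_0 lc_g_rc_25_15 lc_g_rc_21_3 lc_g_Cert_tree lc_g_rc_21_2 lc_g_rc_21_2 lc_g_rc_24_3 lc_g_rc_25_19 lc_g_rc_21_3 lc_g_Cert_tree lc_g_rc_21_3 lc_g_rc_21_2 lc_g_Cert_tree lc_g_Cert_tree lc_g_rc_23_7 lc_g_rc_21_3 lc_g_Cert_tree lc_g_rc_21_2 lc_g_rc_21_3 lc_g_rc_21_3 lc_g_Cert_tree lc_g_Cert_tree lc_g_rc_21_2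 lc_g_Cert_tree lc_g_Cert_tree lc_g_rc_27_6 lc_g_rc_24_7 lc_g_rc_23_1 lc_g_rc_27_6 lc_g_rc_21_2 lc_g_rc_21_3 lc_g_Cert_tree lc_g_Cert_tree lc_g_rc_21_3 lc_g_Cert_tree lc_g_rc_26_6 lc_g_rc_27_9 lc_g_rc_27_0 lc_g_rc_26_3 lc_g_rc_26_3 lc_g_rc_24_7 lc_g_rc_24_9 lc_g_rc_27_6 lc_g_rc_27_9 lc_g_rc_23_1 lc_g_rc_23_3 lc_g_rc_23_1 lc_g_rc_24_7 lc_g_rc_27_3 lc_g_rc_24_3 lc_g_rc_27_0 lc_g_rc_24_7 lc_g_Cert_tree lc_g_rc_21_2 lc_g_rc_24_1 lc_g_rc_21_3 lc_g_Cert_tree lc_g_rc_21_3 lc_g_Cert_tree) (@D3.rec (fun _ => (Cert rels S Gen.g)) lc_g_rc_27_3 lc_g_rc_21_2 lc_g_rc_24_7 lc_g_rc_27_9 lc_g_rc_27_6 lc_g_rc_24_3 lc_g_Cert_tree lc_g_rc_24_7 lc_g_rc_27_0 lc_g_rc_21_2 lc_g_rc_26_6 lc_g_rc_27_9 lc_g_Cert_tree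 lc_g_rc_27_9 lc_g_rc_27_0 lc_g_Cert_tree lc_g_rc_26_3 lc_g_rc_23_9 lc_g_rc_24_3 lc_g_rc_26_0 lc_g_rc_21_3 lc_g_Cert_tree lc_g_rc_26_6 lc_g_rc_27_0 lc_g_rc_21_2 lc_g_rc_21_3 lc_g_Cert_tree lc_g_rc_26_9 lc_g_Cert_tree lc_g_rc_21_3 lc_g_Cert_tree lc_g_rc_25_3 lc_g_rc_24_3 lc_g_rc_21_2 lc_g_rc_23_3 lc_g_Cert_tree lc_g_rc_27_9 lc_g_rc_26_0 lc_g_rc_27_9 lc_g_rc_24_3 lc_g_rc_26_0 lc_g_rc_24_1 lc_g_rc_24_3 lc_g_rc_26_9 lc_g_rc_23_7 lc_g_rc_26_3 lc_g_Cert_tree lc_g_rc_21_2 lc_g_rc_23_7 lc_g_rc_26_3 lc_g_rc_21_3 lc_g_rc_21_3 lc_g_rc_27_6 lc_g_rc_24_1 lc_g_rc_21_3 lc_g_rc_26_0 lc_g_rc_26_9 lc_g_rc_25_11 lc_g_rc_26_3 lc_g_Cert_tree lc_g_rc_21_2 lc_g_rc_24_1) (@D3.rec (fun _ => (Cert rels S Gen.g))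 lc_g_rc_21_3 lc_g_Cert_tree lc_g_Cert_tree lc_g_rc_26_9 lc_g_rc_26_6 lc_g_rc_24_7 lc_g_Cert_tree lc_g_rc_25_15 lc_g_rc_21_3 lc_g_rc_24_3 lc_g_rc_27_3 lc_g_rc_21_3 lc_g_Cert_tree lc_g_Cert_tree lc_g_rc_26_6 lc_g_rc_21_3 lc_g_Cert_tree lc_g_rc_21_2 lc_g_rc_27_0 lc_g_rc_27_9 lc_g_rc_23_1 lc_g_rc_27_0 lc_g_rc_27_3 lc_g_rc_24_1 lc_g_rc_24_3 lc_g_rc_21_2 lc_g_rc_24_7 lc_g_rc_24_3 lc_g_rc_27_6 lc_g_rc_27_3 lc_g_Cert_tree lc_g_rc_21_2 lc_g_rc_26_0 lc_g_rc_23_3 lc_g_rc_27_0 lc_g_rc_23_3 lc_g_rc_26_3 lc_g_rc_27_9 lc_g_rc_24_3 lc_g_rc_26_6 lc_g_rc_25_19 lc_g_rc_21_3 lc_g_rc_26_0 lc_g_rc_26_3 lc_g_rc_26_3 lc_g_rc_21_2 lc_g_rc_26_9 lc_g_Cert_tree lc_g_rc_21_3 lc_g_rc_26_6 lc_g_rc_24_9 lc_g_Cert_tree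 lc_g_rc_26_9 lc_g_rc_21_2 lc_g_Cert_tree lc_g_rc_21_2 lc_g_Cert_tree lc_g_rc_21_3 lc_g_rc_21_2 lc_g_rc_21_3 lc_g_rc_23_7 lc_g_rc_25_15) (@D3.rec (fun _ => (Cert rels S Gen.g)) lc_g_rc_23_7 lc_g_rc_26_3 lc_g_rc_21_2 lc_g_rc_26_0 lc_g_rc_21_3 lc_g_rc_23_9 lc_g_Cert_tree lc_g_Cert_tree lc_g_rc_21_2 lc_g_rc_27_6 lc_g_rc_21_2 lc_g_rc_27_9 lc_g_Cert_tree lc_g_rc_21_2 lc_g_Cert_tree lc_g_rc_23_9 lc_g_Cert_tree lc_g_Cert_tree lc_g_rc_27_3 lc_g_rc_26_0 lc_g_Cert_tree lc_g_rc_23_1 lc_g_rc_27_0 lc_g_rc_26_0 lc_g_rc_23_1 lc_g_rc_23_1 lc_g_Cert_tree lc_g_rc_23_3 lc_g_rc_24_7 lc_g_rc_26_6 lc_g_rc_21_3 lc_g_Cert_tree lc_g_rc_25_7 lc_g_rc_23_3 lc_g_rc_21_2 lc_g_rc_26_6 lc_g_Cert_tree lc_g_rc_21_2 lc_g_rc_21_2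 lc_g_rc_24_3 lc_g_Cert_tree lc_g_rc_21_2 lc_g_Cert_tree lc_g_rc_21_2 lc_g_rc_21_2 lc_g_rc_26_3 lc_g_Cert_tree lc_g_rc_25_11 lc_g_rc_27_3 lc_g_rc_24_3 lc_g_rc_24_7 lc_g_rc_21_2 lc_g_Cert_tree lc_g_rc_21_2 lc_g_rc_27_3 lc_g_rc_27_6 lc_g_rc_24_1 lc_g_rc_27_3 lc_g_rc_23_9 lc_g_rc_23_9 lc_g_rc_27_0 lc_g_rc_21_2) (@D3.rec (fun _ => (Cert rels S Gen.g)) lc_g_rc_27_3 lc_g_Cert_tree lc_g_rc_27_0 lc_g_rc_26_9 lc_g_rc_26_6 lc_g_rc_21_2 lc_g_rc_24_1 lc_g_rc_23_1 lc_g_rc_26_6 lc_g_rc_23_3 lc_g_rc_23_9 lc_g_rc_27_3 lc_g_rc_21_3 lc_g_Cert_tree lc_g_rc_27_0 lc_g_rc_26_0 lc_g_rc_26_3 lc_g_rc_27_6 lc_g_rc_23_7 lc_g_rc_23_1 lc_g_rc_23_1 lc_g_rc_24_1 lc_g_rc_25_3 lc_g_rc_21_3 lc_g_Cert_tree lc_g_rc_21_2 lc_g_Cert_tree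 lc_g_rc_23_3 lc_g_rc_26_0 lc_g_rc_23_1 lc_g_rc_23_7 lc_g_Cert_tree lc_g_rc_24_1 lc_g_rc_21_3 lc_g_rc_27_3 lc_g_rc_21_3 lc_g_Cert_tree lc_g_rc_21_2 lc_g_Cert_tree lc_g_rc_21_2 lc_g_rc_23_9 lc_g_Cert_tree lc_g_rc_26_6 lc_g_rc_26_6 lc_g_rc_21_2 lc_g_Cert_tree lc_g_rc_21_2 lc_g_rc_21_2 lc_g_Cert_tree lc_g_rc_21_3 lc_g_rc_27_3 lc_g_rc_26_6 lc_g_Cert_tree lc_g_rc_21_2 lc_g_Cert_tree lc_g_rc_24_1 lc_g_Cert_tree lc_g_rc_21_3 lc_g_Cert_tree lc_g_Cert_tree lc_g_rc_21_2 lc_g_rc_21_3) (@D3.rec (fun _ => (Cert rels S Gen.g)) lc_g_Cert_tree lc_g_rc_21_2 lc_g_Cert_tree lc_g_Cert_tree lc_g_rc_24_7 lc_g_rc_21_3 lc_g_Cert_tree lc_g_rc_27_3 lc_g_rc_21_2 lc_g_rc_24_7 lc_g_rc_27_0 lc_g_rc_23_1 lc_g_rc_27_9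 lc_g_rc_21_3 lc_g_Cert_tree lc_g_rc_21_2 lc_g_Cert_tree lc_g_Cert_tree lc_g_Cert_tree lc_g_rc_27_3 lc_g_rc_21_2 lc_g_rc_21_3 lc_g_Cert_tree lc_g_rc_21_2 lc_g_Cert_tree lc_g_rc_27_3 lc_g_rc_23_1 lc_g_rc_21_2 lc_g_rc_21_2 lc_g_rc_24_3 lc_g_Cert_tree lc_g_rc_26_6 lc_g_rc_21_2 lc_g_rc_24_7 lc_g_rc_21_3 lc_g_rc_21_2 lc_g_rc_23_1 lc_g_rc_26_0 lc_g_Cert_tree lc_g_rc_26_0 lc_g_Cert_tree lc_g_Cert_tree lc_g_rc_21_2 lc_g_rc_23_3 lc_g_rc_21_2 lc_g_rc_26_3 lc_g_rc_21_3 lc_g_Cert_tree lc_g_Cert_tree lc_g_rc_26_9 lc_g_rc_27_9 lc_g_rc_27_0 lc_g_rc_26_6 lc_g_rc_26_3 lc_g_rc_21_2 lc_g_Cert_tree lc_g_rc_21_2 lc_g_rc_21_3 lc_g_Cert_tree lc_g_rc_27_0 lc_g_Cert_tree lc_g_rc_21_3) (@D3.rec (fun _ => (Cert rels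 S Gen.g)) lc_g_Cert_tree lc_g_rc_21_2 lc_g_rc_26_0 lc_g_Cert_tree lc_g_Cert_tree lc_g_rc_21_3 lc_g_Cert_tree lc_g_rc_21_2 lc_g_rc_26_9 lc_g_rc_21_3 lc_g_Cert_tree lc_g_rc_21_2 lc_g_rc_26_0 lc_g_Cert_tree lc_g_rc_21_2 lc_g_rc_21_3 lc_g_Cert_tree lc_g_rc_23_7 lc_g_rc_21_2 lc_g_rc_26_3 lc_g_rc_24_1 lc_g_rc_21_3 lc_g_rc_21_3 lc_g_rc_26_3 lc_g_rc_21_3 lc_g_Cert_tree lc_g_rc_25_15 lc_g_rc_27_3 lc_g_rc_21_2 lc_g_rc_21_3 lc_g_Cert_tree lc_g_rc_21_2 lc_g_Cert_tree lc_g_Cert_tree lc_g_Cert_tree lc_g_rc_23_3 lc_g_rc_21_2 lc_g_rc_21_2 lc_g_rc_21_2 lc_g_rc_21_2 lc_g_rc_24_7 lc_g_rc_24_9 lc_g_Cert_tree lc_g_rc_26_0 lc_g_rc_26_3 lc_g_rc_26_6 lc_g_rc_24_9 lc_g_rc_27_6 lc_g_rc_26_0 lc_g_Cert_tree lc_g_rc_26_3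 lc_g_rc_24_9 lc_g_Cert_tree lc_g_rc_24_1 lc_g_rc_21_3 lc_g_Cert_tree lc_g_rc_21_2 lc_g_rc_26_0 lc_g_rc_21_3 lc_g_Cert_tree lc_g_Cert_tree lc_g_rc_23_1) (@D3.rec (fun _ => (Cert rels S Gen.g)) lc_g_rc_27_9 lc_g_rc_27_0 lc_g_rc_21_3 lc_g_Cert_tree lc_g_rc_21_2 lc_g_Cert_tree lc_g_rc_26_0 lc_g_rc_23_3 lc_g_rc_21_3 lc_g_Cert_tree lc_g_rc_21_2 lc_g_rc_26_6 lc_g_rc_23_3 lc_g_rc_27_3 lc_g_rc_21_3 lc_g_rc_26_3 lc_g_rc_23_1 lc_g_rc_27_6 lc_g_rc_26_9 lc_g_rc_24_3 lc_g_rc_27_3 lc_g_rc_23_9 lc_g_rc_26_3 lc_g_rc_26_3 lc_g_rc_26_3 lc_g_rc_26_9 lc_g_rc_21_3 lc_g_Cert_tree lc_g_rc_26_9 lc_g_rc_21_2 lc_g_rc_24_3 lc_g_rc_26_3 lc_g_rc_21_2 lc_g_rc_26_3 lc_g_rc_26_9 lc_g_rc_24_1 lc_g_rc_21_2 lc_g_Cert_tree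 lc_g_rc_21_2 lc_g_rc_27_6 lc_g_rc_21_3 lc_g_Cert_tree lc_g_rc_23_9 lc_g_rc_23_9 lc_g_rc_21_2 lc_g_rc_21_2 lc_g_Cert_tree lc_g_rc_21_2 lc_g_rc_25_3 lc_g_Cert_tree lc_g_rc_26_9 lc_g_rc_26_0 lc_g_rc_27_3 lc_g_rc_27_0 lc_g_Cert_tree lc_g_rc_21_2 lc_g_rc_21_3 lc_g_Cert_tree lc_g_rc_23_3 lc_g_rc_21_3 lc_g_rc_27_3 lc_g_rc_21_3) (@D3.rec (fun _ => (Cert rels S Gen.g)) lc_g_rc_21_2 lc_g_rc_21_3 lc_g_Cert_tree lc_g_rc_26_3 lc_g_rc_26_9 lc_g_Cert_tree lc_g_rc_23_1 lc_g_rc_21_3 lc_g_Cert_tree lc_g_rc_24_1 lc_g_rc_21_2 lc_g_rc_24_3 lc_g_rc_21_3 lc_g_Cert_tree lc_g_rc_21_2 lc_g_Cert_tree lc_g_Cert_tree lc_g_Cert_tree lc_g_rc_23_3 lc_g_rc_21_2 lc_g_rc_26_3 lc_g_Cert_tree lc_g_rc_21_2 lc_g_rc_21_2 lc_g_rc_21_3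 lc_g_rc_21_3 lc_g_rc_21_2 lc_g_rc_21_2 lc_g_rc_21_2 lc_g_rc_24_1 lc_g_rc_21_3 lc_g_Cert_tree lc_g_rc_21_3 lc_g_Cert_tree lc_g_Cert_tree lc_g_rc_27_6 lc_g_rc_21_3 lc_g_Cert_tree lc_g_Cert_tree lc_g_rc_21_2 lc_g_rc_23_7 lc_g_rc_26_0 lc_g_rc_21_3 lc_g_Cert_tree lc_g_rc_27_3 lc_g_rc_24_9 lc_g_rc_21_3 lc_g_rc_27_3 lc_g_rc_26_3 lc_g_rc_21_3 lc_g_rc_24_3 lc_g_rc_23_7 lc_g_Cert_tree lc_g_rc_21_3 lc_g_rc_21_2 lc_g_rc_26_9 lc_g_rc_27_0 lc_g_rc_21_3 lc_g_Cert_tree lc_g_Cert_tree lc_g_rc_23_7 lc_g_rc_21_2) (@D3.rec (fun _ => (Cert rels S Gen.g)) lc_g_rc_21_3 lc_g_Cert_tree lc_g_rc_26_3 lc_g_Cert_tree lc_g_rc_21_3 lc_g_Cert_tree lc_g_rc_21_3 lc_g_rc_21_2 lc_g_rc_21_2 lc_g_rc_21_3 lc_g_Cert_tree lc_g_rc_21_3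 lc_g_Cert_tree lc_g_Cert_tree lc_g_rc_26_9 lc_g_rc_23_3 lc_g_rc_21_3 lc_g_rc_27_6 lc_g_rc_21_3 lc_g_rc_23_1 lc_g_rc_21_3 lc_g_Cert_tree lc_g_rc_21_3 lc_g_rc_21_3 lc_g_rc_23_3 lc_g_Cert_tree lc_g_rc_21_2 lc_g_rc_26_6 lc_g_rc_27_9 lc_g_rc_24_3 lc_g_rc_26_0 lc_g_rc_23_3 lc_g_rc_26_0 lc_g_rc_21_2 lc_g_rc_24_1 lc_g_rc_26_6 lc_g_rc_21_2 lc_g_rc_27_0 lc_g_rc_21_3 lc_g_Cert_tree lc_g_rc_21_2 lc_g_rc_23_1 lc_g_rc_26_3 lc_g_Cert_tree lc_g_rc_21_2 lc_g_rc_26_3 lc_g_rc_21_3 lc_g_rc_27_6 lc_g_Cert_tree lc_g_rc_26_3 lc_g_rc_23_7 lc_g_rc_23_3 lc_g_rc_23_3 lc_g_Cert_tree lc_g_rc_23_3 lc_g_Cert_tree lc_g_rc_21_2 lc_g_Cert_tree lc_g_rc_27_3 lc_g_rc_23_3 lc_g_rc_26_0 lc_g_rc_21_2) (@D3.rec (fun _ => (Cert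 rels S Gen.g)) lc_g_rc_24_9 lc_g_rc_26_3 lc_g_rc_26_3 lc_g_rc_23_9 lc_g_Cert_tree lc_g_rc_24_9 lc_g_rc_26_6 lc_g_rc_26_9 lc_g_Cert_tree lc_g_rc_26_3 lc_g_rc_21_2 lc_g_rc_27_6 lc_g_rc_27_6 lc_g_rc_21_2 lc_g_rc_27_9 lc_g_rc_21_2 lc_g_rc_26_9 lc_g_rc_27_3 lc_g_rc_27_6 lc_g_rc_21_2 lc_g_rc_24_1 lc_g_Cert_tree lc_g_rc_21_2 lc_g_Cert_tree lc_g_rc_23_9 lc_g_rc_26_3 lc_g_rc_27_3 lc_g_rc_24_1 lc_g_rc_21_3 lc_g_Cert_tree lc_g_Cert_tree lc_g_rc_23_3 lc_g_rc_21_2 lc_g_rc_27_3 lc_g_rc_23_1 lc_g_rc_27_6 lc_g_rc_27_6 lc_g_Cert_tree lc_g_Cert_tree lc_g_rc_23_7 lc_g_rc_21_2 lc_g_rc_26_6 lc_g_rc_26_6 lc_g_rc_27_6 lc_g_rc_26_3 lc_g_rc_27_9 lc_g_rc_21_3 lc_g_rc_21_2 lc_g_rc_21_2 lc_g_rc_27_6 lc_g_Cert_tree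 lc_g_rc_21_2 lc_g_rc_26_6 lc_g_rc_21_3 lc_g_Cert_tree lc_g_rc_26_3 lc_g_rc_25_7 lc_g_Cert_tree lc_g_rc_27_6 lc_g_rc_21_3 lc_g_rc_21_3 lc_g_rc_21_3) (@D3.rec (fun _ => (Cert rels S Gen.g)) lc_g_rc_26_9 lc_g_rc_21_2 lc_g_rc_21_2 lc_g_rc_21_3 lc_g_rc_26_3 lc_g_rc_21_3 lc_g_Cert_tree lc_g_rc_26_6 lc_g_Cert_tree lc_g_rc_23_1 lc_g_rc_27_9 lc_g_Cert_tree lc_g_rc_26_3 lc_g_rc_27_6 lc_g_rc_21_2 lc_g_Cert_tree lc_g_rc_25_15 lc_g_rc_27_6 lc_g_rc_26_3 lc_g_Cert_tree lc_g_rc_23_3 lc_g_rc_27_3 lc_g_rc_21_3 lc_g_Cert_tree lc_g_rc_21_2 lc_g_rc_21_2 lc_g_rc_21_2 lc_g_rc_26_0 lc_g_rc_21_3 lc_g_rc_27_6 lc_g_rc_24_3 lc_g_rc_26_3 lc_g_rc_21_3 lc_g_rc_27_3 lc_g_rc_24_1 lc_g_rc_26_6 lc_g_rc_26_9 lc_g_rc_21_2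 lc_g_rc_27_0 lc_g_Cert_tree lc_g_rc_27_9 lc_g_rc_21_3 lc_g_rc_27_9 lc_g_rc_26_9 lc_g_rc_27_9 lc_g_rc_26_6 lc_g_rc_27_6 lc_g_rc_21_3 lc_g_rc_24_1 lc_g_rc_24_3 lc_g_rc_27_6 lc_g_rc_21_3 lc_g_rc_27_3 lc_g_rc_23_9 lc_g_rc_27_6 lc_g_rc_23_3 lc_g_Cert_tree lc_g_rc_21_2 lc_g_rc_21_3 lc_g_Cert_tree lc_g_rc_27_9 lc_g_rc_23_9) (@D3.rec (fun _ => (Cert rels S Gen.g)) lc_g_rc_21_2 lc_g_rc_23_7 lc_g_Cert_tree lc_g_rc_27_0 lc_g_rc_21_2 lc_g_rc_25_11 lc_g_rc_23_7 lc_g_rc_24_3 lc_g_rc_21_3 lc_g_rc_21_3 lc_g_rc_26_6 lc_g_Cert_tree lc_g_rc_26_3 lc_g_rc_26_9 lc_g_rc_23_3 lc_g_rc_27_3 lc_g_rc_27_3 lc_g_rc_23_3 lc_g_rc_21_2 lc_g_Cert_tree lc_g_rc_26_3 lc_g_rc_27_6 lc_g_rc_21_3 lc_g_Cert_tree lc_g_rc_26_6 lc_g_rc_27_0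 lc_g_rc_21_2 lc_g_Cert_tree lc_g_rc_26_0 lc_g_rc_25_11 lc_g_rc_24_9 lc_g_rc_24_1 lc_g_rc_26_6 lc_g_rc_23_7 lc_g_rc_24_7 lc_g_rc_21_3 lc_g_rc_26_3 lc_g_rc_21_3 lc_g_Cert_tree lc_g_rc_23_3 lc_g_Cert_tree lc_g_rc_23_9 lc_g_rc_21_3 lc_g_rc_23_9 lc_g_rc_26_6 lc_g_Cert_tree lc_g_rc_27_6 lc_g_rc_21_2 lc_g_rc_27_0 lc_g_rc_24_7 lc_g_rc_27_3 lc_g_rc_24_7 lc_g_rc_24_3 lc_g_rc_21_3 lc_g_Cert_tree lc_g_rc_23_3 lc_g_rc_21_3 lc_g_Cert_tree lc_g_rc_21_2 lc_g_rc_21_2 lc_g_rc_27_6 lc_g_rc_21_2) (@D3.rec (fun _ => (Cert rels S Gen.g)) lc_g_rc_27_6 lc_g_rc_21_3 lc_g_rc_27_6 lc_g_rc_21_3 lc_g_Cert_tree lc_g_rc_21_3 lc_g_rc_27_6 lc_g_rc_21_2 lc_g_rc_27_9 lc_g_rc_26_6 lc_g_Cert_tree lc_g_Cert_tree lc_g_rc_21_2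 lc_g_rc_21_2 lc_g_rc_27_3 lc_g_rc_21_3 lc_g_Cert_tree lc_g_rc_26_9 lc_g_rc_21_2 lc_g_rc_21_2 lc_g_Cert_tree lc_g_Cert_tree lc_g_rc_21_2 lc_g_Cert_tree lc_g_rc_21_3 lc_g_Cert_tree lc_g_rc_21_2 lc_g_rc_21_3 lc_g_Cert_tree lc_g_rc_23_9 lc_g_Cert_tree lc_g_rc_27_3 lc_g_Cert_tree lc_g_rc_27_6 lc_g_rc_27_3 lc_g_rc_27_9 lc_g_rc_26_0 lc_g_rc_27_3 lc_g_rc_21_2 lc_g_rc_21_3 lc_g_Cert_tree lc_g_rc_23_3 lc_g_rc_21_2 lc_g_Cert_tree lc_g_rc_24_1 lc_g_rc_27_0 lc_g_rc_21_3 lc_g_rc_21_3 lc_g_rc_27_0 lc_g_rc_21_2 lc_g_rc_21_2 lc_g_Cert_tree lc_g_rc_23_9 lc_g_rc_26_0 lc_g_rc_27_6 lc_g_Cert_tree lc_g_Cert_tree lc_g_Cert_tree lc_g_rc_27_3 lc_g_rc_25_7 lc_g_Cert_tree lc_g_rc_27_0) (@D3.rec (fun _ => (Cert rels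 S Gen.g)) lc_g_Cert_tree lc_g_rc_21_2 lc_g_Cert_tree lc_g_rc_26_6 lc_g_rc_26_9 lc_g_rc_21_2 lc_g_rc_21_3 lc_g_rc_21_3 lc_g_rc_26_0 lc_g_rc_23_9 lc_g_rc_23_7 lc_g_rc_27_6 lc_g_rc_21_3 lc_g_Cert_tree lc_g_rc_24_7 lc_g_rc_21_3 lc_g_Cert_tree lc_g_rc_21_3 lc_g_rc_21_2 lc_g_Cert_tree lc_g_rc_21_3 lc_g_rc_24_3 lc_g_Cert_tree lc_g_rc_27_6 lc_g_rc_27_3 lc_g_rc_27_3 lc_g_rc_26_3 lc_g_rc_27_0 lc_g_rc_21_2 lc_g_rc_24_3 lc_g_rc_27_9 lc_g_rc_23_9 lc_g_rc_27_3 lc_g_rc_21_3 lc_g_Cert_tree lc_g_rc_21_2 lc_g_rc_27_9 lc_g_Cert_tree lc_g_rc_21_3 lc_g_Cert_tree lc_g_rc_21_2 lc_g_rc_25_19 lc_g_rc_24_1 lc_g_rc_23_9 lc_g_rc_27_6 lc_g_rc_23_7 lc_g_rc_21_3 lc_g_rc_21_3 lc_g_Cert_tree lc_g_rc_27_3 lc_g_rc_21_2 lc_g_rc_26_0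 lc_g_rc_26_3 lc_g_Cert_tree lc_g_Cert_tree lc_g_rc_27_6 lc_g_rc_26_6 lc_g_rc_21_2 lc_g_rc_21_3 lc_g_rc_27_0 lc_g_rc_27_9 lc_g_rc_24_1) (@D3.rec (fun _ => (Cert rels S Gen.g)) lc_g_rc_23_1 lc_g_Cert_tree lc_g_rc_21_2 lc_g_rc_23_7 lc_g_rc_23_9 lc_g_Cert_tree lc_g_rc_27_0 lc_g_rc_26_0 lc_g_rc_21_3 lc_g_rc_26_0 lc_g_rc_21_2 lc_g_rc_26_0 lc_g_rc_23_7 lc_g_rc_21_2 lc_g_rc_21_3 lc_g_rc_27_9 lc_g_rc_21_3 lc_g_rc_23_1 lc_g_rc_27_0 lc_g_rc_26_9 lc_g_rc_21_3 lc_g_rc_21_3 lc_g_Cert_tree lc_g_rc_21_3 lc_g_rc_26_6 lc_g_Cert_tree lc_g_rc_24_9 lc_g_Cert_tree lc_g_rc_21_3 lc_g_rc_24_9 lc_g_rc_24_3 lc_g_rc_21_3 lc_g_rc_21_3 lc_g_rc_21_2 lc_g_rc_21_2 lc_g_rc_26_6 lc_g_rc_26_9 lc_g_rc_24_9 lc_g_rc_23_3 lc_g_rc_21_3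 lc_g_Cert_tree lc_g_rc_27_6 lc_g_rc_23_1 lc_g_rc_23_9 lc_g_rc_21_2 lc_g_rc_26_9 lc_g_rc_27_0 lc_g_Cert_tree lc_g_rc_27_9 lc_g_Cert_tree lc_g_Cert_tree lc_g_rc_24_7 lc_g_Cert_tree lc_g_rc_21_3 lc_g_Cert_tree lc_g_rc_21_2 lc_g_rc_27_9 lc_g_rc_23_7 lc_g_rc_27_3 lc_g_Cert_tree lc_g_rc_24_3 lc_g_rc_27_0) (@D3.rec (fun _ => (Cert rels S Gen.g)) lc_g_Cert_tree lc_g_rc_26_3 lc_g_Cert_tree lc_g_rc_27_6 lc_g_rc_24_3 lc_g_rc_27_6 lc_g_rc_27_0 lc_g_rc_26_6 lc_g_rc_27_9 lc_g_rc_27_3 lc_g_rc_27_3 lc_g_rc_21_3 lc_g_Cert_tree lc_g_rc_21_2 lc_g_rc_21_2 lc_g_rc_27_9 lc_g_rc_21_3 lc_g_Cert_tree lc_g_rc_21_2 lc_g_Cert_tree lc_g_rc_26_6 lc_g_rc_23_3 lc_g_Cert_tree lc_g_rc_21_2 lc_g_rc_26_3 lc_g_rc_21_3 lc_g_Cert_tree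 lc_g_rc_21_2 lc_g_rc_21_2 lc_g_rc_24_7 lc_g_rc_21_3 lc_g_Cert_tree lc_g_rc_27_3 lc_g_rc_21_2 lc_g_rc_21_3 lc_g_rc_21_2 lc_g_rc_21_3 lc_g_Cert_tree lc_g_rc_21_2 lc_g_rc_21_3 lc_g_Cert_tree lc_g_Cert_tree lc_g_rc_21_2 lc_g_rc_26_6 lc_g_Cert_tree lc_g_Cert_tree lc_g_rc_24_9 lc_g_rc_21_2 lc_g_rc_21_2 lc_g_rc_27_0 lc_g_Cert_tree lc_g_rc_27_3 lc_g_Cert_tree lc_g_rc_27_3 lc_g_rc_26_0 lc_g_Cert_tree lc_g_rc_21_2 lc_g_rc_26_3 lc_g_Cert_tree lc_g_rc_27_9 lc_g_rc_21_2 lc_g_rc_26_3) (@D3.rec (fun _ => (Cert rels S Gen.g)) lc_g_rc_26_3 lc_g_rc_27_6 lc_g_rc_27_3 lc_g_rc_21_2 lc_g_rc_24_9 lc_g_rc_24_3 lc_g_rc_21_2 lc_g_rc_26_0 lc_g_rc_26_0 lc_g_rc_21_3 lc_g_Cert_tree lc_g_rc_24_1 lc_g_rc_21_2 lc_g_rc_21_3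 lc_g_rc_21_3 lc_g_Cert_tree lc_g_Cert_tree lc_g_rc_27_9 lc_g_rc_21_3 lc_g_Cert_tree lc_g_rc_21_2 lc_g_Cert_tree lc_g_rc_26_0 lc_g_rc_23_3 lc_g_rc_27_6 lc_g_rc_24_7 lc_g_rc_21_3 lc_g_rc_21_2 lc_g_rc_26_9 lc_g_rc_24_3 lc_g_rc_26_3 lc_g_rc_25_19 lc_g_rc_21_3 lc_g_rc_27_6 lc_g_rc_23_7 lc_g_rc_21_2 lc_g_rc_23_3 lc_g_Cert_tree lc_g_rc_21_3 lc_g_rc_24_3 lc_g_rc_23_3 lc_g_rc_24_3 lc_g_rc_23_3 lc_g_rc_21_3 lc_g_rc_23_9 lc_g_rc_27_3 lc_g_rc_21_3 lc_g_Cert_tree lc_g_rc_23_3 lc_g_rc_24_3 lc_g_rc_21_2 lc_g_rc_24_3 lc_g_rc_21_2 lc_g_Cert_tree lc_g_rc_27_3 lc_g_rc_21_3 lc_g_rc_26_6 lc_g_rc_23_3 lc_g_rc_27_6 lc_g_rc_26_6 lc_g_rc_23_7 lc_g_rc_21_3) (@D3.rec (fun _ => (Cert rels S Gen.g)) lc_g_Cert_tree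 lc_g_rc_26_0 lc_g_rc_21_2 lc_g_Cert_tree lc_g_rc_23_3 lc_g_Cert_tree lc_g_rc_23_7 lc_g_rc_26_3 lc_g_Cert_tree lc_g_rc_23_3 lc_g_rc_24_1 lc_g_rc_27_3 lc_g_rc_24_3 lc_g_rc_24_3 lc_g_rc_26_3 lc_g_rc_24_3 lc_g_rc_21_3 lc_g_rc_21_2 lc_g_rc_21_3 lc_g_rc_21_2 lc_g_rc_21_3 lc_g_Cert_tree lc_g_rc_23_9 lc_g_rc_21_2 lc_g_rc_23_3 lc_g_rc_27_6 lc_g_Cert_tree lc_g_rc_21_2 lc_g_rc_24_1 lc_g_rc_27_0 lc_g_rc_21_3 lc_g_Cert_tree lc_g_rc_21_3 lc_g_rc_24_9 lc_g_rc_26_0 lc_g_rc_21_2 lc_g_rc_23_3 lc_g_rc_21_2 lc_g_rc_21_2 lc_g_rc_21_2 lc_g_rc_26_3 lc_g_rc_23_3 lc_g_rc_24_1 lc_g_Cert_tree lc_g_rc_21_3 lc_g_Cert_tree lc_g_rc_24_3 lc_g_rc_21_2 lc_g_rc_27_9 lc_g_rc_21_2 lc_g_rc_24_7 lc_g_rc_21_2 lc_g_rc_26_0 lc_g_Cert_tree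 lc_g_rc_27_6 lc_g_rc_21_3 lc_g_rc_21_2 lc_g_rc_27_6 lc_g_rc_27_3 lc_g_rc_21_2 lc_g_rc_21_2 lc_g_rc_27_0)
def ce_g_18 : D2 → D3 → (Cert rels S Gen.g) := @D2.rec (fun _ => D3 → (Cert rels S Gen.g)) (@D3.rec (fun _ => (Cert rels S Gen.g)) lc_g_rc_27_6 lc_g_Cert_tree lc_g_rc_26_0 lc_g_rc_23_3 lc_g_rc_27_6 lc_g_rc_23_9 lc_g_Cert_tree lc_g_Cert_tree lc_g_rc_26_6 lc_g_rc_21_2 lc_g_rc_23_1 lc_g_rc_27_3 lc_g_rc_27_0 lc_g_rc_23_1 lc_g_rc_26_0 lc_g_rc_27_6 lc_g_rc_23_7 lc_g_rc_21_3 lc_g_Cert_tree lc_g_rc_26_3 lc_g_rc_26_0 lc_g_rc_21_3 lc_g_Cert_tree lc_g_Cert_tree lc_g_rc_21_2 lc_g_rc_21_3 lc_g_Cert_tree lc_g_rc_24_1 lc_g_rc_21_2 lc_g_rc_27_0 lc_g_rc_23_3 lc_g_rc_21_3 lc_g_Cert_tree lc_g_rc_21_2 lc_g_rc_26_3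 lc_g_rc_21_2 lc_g_rc_26_9 lc_g_rc_24_1 lc_g_rc_21_3 lc_g_rc_23_9 lc_g_Cert_tree lc_g_rc_27_6 lc_g_Cert_tree lc_g_rc_27_6 lc_g_rc_24_1 lc_g_rc_21_2 lc_g_rc_21_3 lc_g_Cert_tree lc_g_Cert_tree lc_g_rc_21_3 lc_g_rc_23_9 lc_g_rc_26_6 lc_g_rc_21_3 lc_g_Cert_tree lc_g_rc_24_1 lc_g_rc_27_3 lc_g_Cert_tree lc_g_rc_21_3 lc_g_rc_23_7 lc_g_rc_27_3 lc_g_Cert_tree lc_g_rc_21_2) (@D3.rec (fun _ => (Cert rels S Gen.g)) lc_g_rc_23_1 lc_g_rc_21_3 lc_g_rc_27_3 lc_g_rc_21_2 lc_g_rc_26_3 lc_g_rc_21_2 lc_g_Cert_tree lc_g_rc_21_3 lc_g_rc_24_3 lc_g_rc_23_9 lc_g_rc_26_3 lc_g_rc_24_9 lc_g_rc_21_2 lc_g_rc_23_1 lc_g_Cert_tree lc_g_rc_23_9 lc_g_rc_23_1 lc_g_Cert_tree lc_g_rc_26_3 lc_g_Cert_tree lc_g_rc_21_2 lc_g_rc_27_6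 lc_g_rc_27_3 lc_g_rc_27_9 lc_g_rc_21_2 lc_g_rc_23_7 lc_g_rc_23_3 lc_g_rc_27_6 lc_g_rc_27_3 lc_g_rc_27_6 lc_g_rc_26_6 lc_g_rc_27_9 lc_g_Cert_tree lc_g_rc_26_9 lc_g_rc_24_1 lc_g_rc_26_6 lc_g_Cert_tree lc_g_rc_24_1 lc_g_Cert_tree lc_g_rc_27_0 lc_g_rc_27_3 lc_g_rc_26_9 lc_g_rc_26_6 lc_g_rc_24_9 lc_g_rc_26_3 lc_g_Cert_tree lc_g_Cert_tree lc_g_Cert_tree lc_g_rc_23_3 lc_g_Cert_tree lc_g_rc_21_3 lc_g_Cert_tree lc_g_rc_21_2 lc_g_Cert_tree lc_g_rc_23_7 lc_g_rc_26_3 lc_g_rc_21_3 lc_g_Cert_tree lc_g_rc_27_6 lc_g_rc_23_7 lc_g_rc_21_2 lc_g_rc_23_3) (@D3.rec (fun _ => (Cert rels S Gen.g)) lc_g_rc_25_3 lc_g_rc_23_9 lc_g_rc_21_3 lc_g_Cert_tree lc_g_rc_21_2 lc_g_rc_26_6 lc_g_rc_27_6 lc_g_rc_23_9 lc_g_rc_27_3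 lc_g_rc_21_3 lc_g_rc_21_3 lc_g_rc_24_3 lc_g_rc_27_0 lc_g_rc_21_2 lc_g_rc_21_2 lc_g_rc_27_0 lc_g_rc_21_2 lc_g_rc_21_3 lc_g_Cert_tree lc_g_Cert_tree lc_g_rc_21_2 lc_g_rc_27_6 lc_g_rc_26_3 lc_g_Cert_tree lc_g_rc_21_3 lc_g_rc_23_9 lc_g_rc_21_2 lc_g_rc_26_3 lc_g_rc_26_6 lc_g_rc_21_2 lc_g_rc_21_3 lc_g_Cert_tree lc_g_Cert_tree lc_g_rc_27_9 lc_g_rc_23_1 lc_g_rc_23_9 lc_g_rc_23_3 lc_g_rc_21_3 lc_g_rc_21_2 lc_g_rc_21_2 lc_g_rc_21_2 lc_g_rc_21_2 lc_g_rc_21_2 lc_g_rc_24_3 lc_g_rc_21_2 lc_g_Cert_tree lc_g_rc_21_2 lc_g_rc_26_6 lc_g_rc_21_2 lc_g_rc_27_6 lc_g_rc_27_9 lc_g_rc_24_3 lc_g_rc_26_3 lc_g_rc_21_2 lc_g_rc_27_6 lc_g_rc_26_3 lc_g_rc_27_3 lc_g_rc_23_3 lc_g_rc_27_0 lc_g_Cert_tree lc_g_Cert_tree lc_g_rc_21_3)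 (@D3.rec (fun _ => (Cert rels S Gen.g)) lc_g_Cert_tree lc_g_rc_21_2 lc_g_Cert_tree lc_g_Cert_tree lc_g_Cert_tree lc_g_rc_27_3 lc_g_rc_21_2 lc_g_rc_26_3 lc_g_rc_21_3 lc_g_rc_26_3 lc_g_rc_21_2 lc_g_rc_21_3 lc_g_Cert_tree lc_g_Cert_tree lc_g_rc_26_6 lc_g_rc_21_3 lc_g_Cert_tree lc_g_rc_21_2 lc_g_Cert_tree lc_g_rc_26_9 lc_g_rc_21_3 lc_g_Cert_tree lc_g_rc_21_2 lc_g_rc_25_7 lc_g_rc_21_3 lc_g_Cert_tree lc_g_rc_21_2 lc_g_rc_24_3 lc_g_rc_26_6 lc_g_rc_27_6 lc_g_Cert_tree lc_g_rc_21_2 lc_g_rc_25_3 lc_g_rc_24_3 lc_g_rc_24_3 lc_g_rc_21_3 lc_g_Cert_tree lc_g_rc_27_3 lc_g_rc_21_2 lc_g_rc_23_9 lc_g_rc_27_3 lc_g_rc_21_3 lc_g_Cert_tree lc_g_rc_21_2 lc_g_Cert_tree lc_g_rc_26_3 lc_g_rc_27_6 lc_g_rc_27_3 lc_g_rc_21_2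 lc_g_rc_21_3 lc_g_Cert_tree lc_g_rc_26_9 lc_g_rc_26_0 lc_g_rc_26_3 lc_g_rc_23_3 lc_g_rc_23_9 lc_g_rc_21_2 lc_g_rc_21_2 lc_g_Cert_tree lc_g_rc_25_19 lc_g_rc_26_3 lc_g_rc_24_3) (@D3.rec (fun _ => (Cert rels S Gen.g)) lc_g_rc_26_9 lc_g_rc_23_7 lc_g_rc_26_6 lc_g_rc_21_2 lc_g_rc_21_3 lc_g_Cert_tree lc_g_rc_21_2 lc_g_Cert_tree lc_g_rc_23_3 lc_g_rc_26_6 lc_g_Cert_tree lc_g_rc_21_3 lc_g_Cert_tree lc_g_rc_21_2 lc_g_rc_21_2 lc_g_rc_21_3 lc_g_Cert_tree lc_g_rc_21_2 lc_g_Cert_tree lc_g_rc_21_3 lc_g_Cert_tree lc_g_rc_21_2 lc_g_rc_24_3 lc_g_rc_23_3 lc_g_rc_26_3 lc_g_rc_27_0 lc_g_rc_21_3 lc_g_Cert_tree lc_g_rc_23_1 lc_g_rc_21_2 lc_g_rc_24_3 lc_g_rc_23_3 lc_g_Cert_tree lc_g_rc_21_2 lc_g_rc_21_2 lc_g_rc_26_9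 lc_g_rc_26_0 lc_g_rc_21_3 lc_g_Cert_tree lc_g_rc_21_3 lc_g_rc_21_2 lc_g_rc_23_1 lc_g_rc_23_9 lc_g_rc_23_1 lc_g_rc_21_3 lc_g_Cert_tree lc_g_rc_21_2 lc_g_rc_21_3 lc_g_Cert_tree lc_g_rc_26_3 lc_g_Cert_tree lc_g_rc_21_3 lc_g_Cert_tree lc_g_rc_26_0 lc_g_rc_21_3 lc_g_rc_23_1 lc_g_rc_24_7 lc_g_rc_26_9 lc_g_rc_23_1 lc_g_rc_24_7 lc_g_Cert_tree lc_g_rc_21_3) (@D3.rec (fun _ => (Cert rels S Gen.g)) lc_g_rc_23_7 lc_g_rc_27_6 lc_g_rc_26_0 lc_g_rc_21_3 lc_g_rc_21_3 lc_g_Cert_tree lc_g_rc_23_3 lc_g_rc_27_6 lc_g_Cert_tree lc_g_rc_25_15 lc_g_rc_21_3 lc_g_rc_21_3 lc_g_rc_23_1 lc_g_rc_21_3 lc_g_rc_24_3 lc_g_Cert_tree lc_g_rc_24_1 lc_g_rc_21_3 lc_g_Cert_tree lc_g_rc_21_2 lc_g_rc_24_1 lc_g_rc_23_1 lc_g_rc_24_7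 lc_g_rc_23_1 lc_g_rc_23_7 lc_g_rc_24_3 lc_g_rc_21_2 lc_g_rc_21_3 lc_g_Cert_tree lc_g_rc_24_7 lc_g_rc_21_3 lc_g_Cert_tree lc_g_rc_23_3 lc_g_rc_23_9 lc_g_rc_21_2 lc_g_rc_26_0 lc_g_rc_21_2 lc_g_rc_24_7 lc_g_rc_23_9 lc_g_rc_27_0 lc_g_Cert_tree lc_g_Cert_tree lc_g_rc_21_3 lc_g_Cert_tree lc_g_rc_21_2 lc_g_rc_25_7 lc_g_rc_27_6 lc_g_rc_26_6 lc_g_Cert_tree lc_g_rc_21_2 lc_g_rc_26_6 lc_g_rc_26_6 lc_g_rc_21_3 lc_g_Cert_tree lc_g_rc_26_3 lc_g_rc_21_2 lc_g_rc_21_3 lc_g_rc_21_2 lc_g_rc_27_6 lc_g_rc_21_2 lc_g_rc_26_3 lc_g_rc_21_2) (@D3.rec (fun _ => (Cert rels S Gen.g)) lc_g_rc_21_3 lc_g_Cert_tree lc_g_rc_21_3 lc_g_Cert_tree lc_g_Cert_tree lc_g_rc_21_3 lc_g_Cert_tree lc_g_rc_24_9 lc_g_rc_24_3 lc_g_Cert_tree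 lc_g_Cert_tree lc_g_rc_26_6 lc_g_rc_23_3 lc_g_rc_21_3 lc_g_rc_21_3 lc_g_Cert_tree lc_g_Cert_tree lc_g_rc_21_2 lc_g_rc_26_3 lc_g_rc_27_0 lc_g_rc_24_7 lc_g_rc_23_1 lc_g_rc_26_6 lc_g_rc_21_3 lc_g_Cert_tree lc_g_rc_25_3 lc_g_rc_21_3 lc_g_Cert_tree lc_g_rc_21_2 lc_g_rc_21_2 lc_g_Cert_tree lc_g_rc_24_3 lc_g_rc_26_6 lc_g_Cert_tree lc_g_rc_27_9 lc_g_rc_27_6 lc_g_rc_21_3 lc_g_rc_21_3 lc_g_rc_21_3 lc_g_rc_27_0 lc_g_rc_23_3 lc_g_rc_27_3 lc_g_rc_21_3 lc_g_Cert_tree lc_g_rc_21_3 lc_g_Cert_tree lc_g_rc_23_9 lc_g_rc_26_9 lc_g_rc_23_7 lc_g_rc_21_2 lc_g_rc_24_1 lc_g_rc_23_3 lc_g_rc_21_3 lc_g_Cert_tree lc_g_rc_24_3 lc_g_rc_21_2 lc_g_Cert_tree lc_g_rc_26_0 lc_g_rc_23_9 lc_g_rc_23_3 lc_g_rc_26_9 lc_g_rc_26_3)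 (@D3.rec (fun _ => (Cert rels S Gen.g)) lc_g_rc_21_2 lc_g_rc_26_0 lc_g_rc_21_3 lc_g_Cert_tree lc_g_rc_26_3 lc_g_rc_24_3 lc_g_rc_21_3 lc_g_Cert_tree lc_g_rc_24_3 lc_g_rc_21_2 lc_g_rc_26_0 lc_g_rc_23_1 lc_g_rc_21_3 lc_g_rc_21_3 lc_g_Cert_tree lc_g_rc_23_7 lc_g_rc_26_6 lc_g_rc_23_3 lc_g_rc_27_6 lc_g_rc_21_3 lc_g_Cert_tree lc_g_rc_26_6 lc_g_rc_27_6 lc_g_Cert_tree lc_g_rc_26_6 lc_g_rc_25_15 lc_g_Cert_tree lc_g_rc_21_2 lc_g_rc_23_3 lc_g_rc_21_2 lc_g_rc_21_2 lc_g_rc_26_3 lc_g_rc_23_7 lc_g_rc_24_7 lc_g_Cert_tree lc_g_rc_21_2 lc_g_rc_26_0 lc_g_rc_21_2 lc_g_rc_21_3 lc_g_rc_23_9 lc_g_rc_23_3 lc_g_rc_21_3 lc_g_rc_23_3 lc_g_rc_21_2 lc_g_rc_21_3 lc_g_rc_21_2 lc_g_rc_25_3 lc_g_rc_24_1 lc_g_rc_27_0 lc_g_Cert_tree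 lc_g_rc_25_19 lc_g_rc_21_3 lc_g_Cert_tree lc_g_rc_21_3 lc_g_rc_21_2 lc_g_Cert_tree lc_g_rc_27_6 lc_g_rc_21_3 lc_g_rc_23_3 lc_g_Cert_tree lc_g_rc_21_3 lc_g_Cert_tree) (@D3.rec (fun _ => (Cert rels S Gen.g)) lc_g_rc_21_2 lc_g_rc_21_3 lc_g_rc_21_2 lc_g_Cert_tree lc_g_rc_21_2 lc_g_rc_25_15 lc_g_rc_21_3 lc_g_Cert_tree lc_g_rc_23_3 lc_g_rc_23_9 lc_g_Cert_tree lc_g_rc_26_0 lc_g_rc_21_3 lc_g_Cert_tree lc_g_rc_23_3 lc_g_Cert_tree lc_g_rc_26_3 lc_g_rc_27_6 lc_g_Cert_tree lc_g_Cert_tree lc_g_rc_21_2 lc_g_rc_21_3 lc_g_Cert_tree lc_g_rc_21_2 lc_g_rc_21_3 lc_g_Cert_tree lc_g_rc_27_6 lc_g_rc_21_2 lc_g_rc_26_0 lc_g_rc_24_7 lc_g_Cert_tree lc_g_rc_26_6 lc_g_rc_24_3 lc_g_rc_27_9 lc_g_rc_27_0 lc_g_rc_21_2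 lc_g_rc_21_3 lc_g_Cert_tree lc_g_rc_27_9 lc_g_rc_25_7 lc_g_Cert_tree lc_g_rc_21_3 lc_g_rc_26_6 lc_g_rc_27_9 lc_g_Cert_tree lc_g_Cert_tree lc_g_rc_27_9 lc_g_rc_27_0 lc_g_rc_21_2 lc_g_rc_27_3 lc_g_rc_24_7 lc_g_rc_26_3 lc_g_rc_24_7 lc_g_Cert_tree lc_g_rc_24_1 lc_g_rc_21_2 lc_g_Cert_tree lc_g_rc_24_3 lc_g_Cert_tree lc_g_Cert_tree lc_g_rc_24_3 lc_g_rc_24_7) (@D3.rec (fun _ => (Cert rels S Gen.g)) lc_g_rc_27_3 lc_g_rc_27_6 lc_g_rc_25_3 lc_g_rc_21_3 lc_g_Cert_tree lc_g_rc_21_2 lc_g_Cert_tree lc_g_rc_24_3 lc_g_Cert_tree lc_g_Cert_tree lc_g_rc_24_3 lc_g_rc_21_2 lc_g_rc_24_9 lc_g_Cert_tree lc_g_rc_24_3 lc_g_rc_23_3 lc_g_rc_23_1 lc_g_rc_24_3 lc_g_rc_26_6 lc_g_rc_27_3 lc_g_rc_21_2 lc_g_rc_21_3 lc_g_rc_21_2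 lc_g_rc_23_7 lc_g_Cert_tree lc_g_rc_21_2 lc_g_rc_24_9 lc_g_rc_27_6 lc_g_rc_21_2 lc_g_rc_23_3 lc_g_rc_21_3 lc_g_Cert_tree lc_g_rc_26_3 lc_g_Cert_tree lc_g_rc_21_3 lc_g_Cert_tree lc_g_rc_21_2 lc_g_rc_24_1 lc_g_Cert_tree lc_g_rc_26_3 lc_g_rc_21_2 lc_g_Cert_tree lc_g_rc_23_7 lc_g_rc_26_6 lc_g_rc_23_3 lc_g_rc_24_3 lc_g_rc_27_3 lc_g_Cert_tree lc_g_rc_21_2 lc_g_rc_21_2 lc_g_rc_21_2 lc_g_rc_25_3 lc_g_rc_21_3 lc_g_rc_27_0 lc_g_rc_26_3 lc_g_rc_21_3 lc_g_Cert_tree lc_g_rc_21_3 lc_g_Cert_tree lc_g_rc_21_2 lc_g_Cert_tree lc_g_rc_23_7) (@D3.rec (fun _ => (Cert rels S Gen.g)) lc_g_rc_23_9 lc_g_rc_27_3 lc_g_rc_24_3 lc_g_Cert_tree lc_g_rc_26_9 lc_g_rc_21_3 lc_g_rc_21_3 lc_g_rc_21_3 lc_g_rc_27_6 lc_g_Cert_tree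 lc_g_rc_21_3 lc_g_Cert_tree lc_g_rc_21_2 lc_g_rc_21_2 lc_g_rc_26_3 lc_g_rc_21_3 lc_g_rc_27_3 lc_g_rc_26_9 lc_g_rc_27_6 lc_g_rc_24_3 lc_g_rc_27_6 lc_g_Cert_tree lc_g_rc_21_3 lc_g_rc_21_3 lc_g_rc_27_6 lc_g_rc_27_9 lc_g_rc_27_6 lc_g_Cert_tree lc_g_rc_26_6 lc_g_rc_27_0 lc_g_Cert_tree lc_g_rc_26_9 lc_g_rc_27_0 lc_g_rc_26_0 lc_g_rc_23_1 lc_g_rc_27_6 lc_g_rc_21_3 lc_g_Cert_tree lc_g_rc_26_6 lc_g_rc_26_6 lc_g_Cert_tree lc_g_rc_21_2 lc_g_rc_21_3 lc_g_Cert_tree lc_g_Cert_tree lc_g_Cert_tree lc_g_rc_26_0 lc_g_rc_26_3 lc_g_rc_27_6 lc_g_rc_21_3 lc_g_rc_21_2 lc_g_Cert_tree lc_g_Cert_tree lc_g_rc_26_0 lc_g_rc_21_2 lc_g_rc_21_2 lc_g_rc_26_3 lc_g_rc_23_7 lc_g_Cert_tree lc_g_Cert_tree lc_g_rc_27_9 lc_g_rc_24_3)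 (@D3.rec (fun _ => (Cert rels S Gen.g)) lc_g_rc_27_0 lc_g_rc_26_6 lc_g_rc_21_3 lc_g_rc_27_6 lc_g_rc_24_7 lc_g_Cert_tree lc_g_rc_27_6 lc_g_rc_23_9 lc_g_rc_21_3 lc_g_rc_21_3 lc_g_rc_21_2 lc_g_Cert_tree lc_g_rc_27_6 lc_g_rc_21_3 lc_g_rc_21_3 lc_g_Cert_tree lc_g_rc_21_2 lc_g_Cert_tree lc_g_Cert_tree lc_g_Cert_tree lc_g_rc_21_2 lc_g_rc_21_3 lc_g_Cert_tree lc_g_rc_21_2 lc_g_Cert_tree lc_g_Cert_tree lc_g_Cert_tree lc_g_Cert_tree lc_g_rc_26_6 lc_g_Cert_tree lc_g_rc_21_2 lc_g_rc_23_3 lc_g_Cert_tree lc_g_Cert_tree lc_g_rc_26_6 lc_g_rc_21_3 lc_g_Cert_tree lc_g_rc_21_2 lc_g_rc_21_3 lc_g_Cert_tree lc_g_Cert_tree lc_g_rc_21_3 lc_g_Cert_tree lc_g_rc_27_3 lc_g_rc_21_2 lc_g_rc_23_1 lc_g_rc_27_0 lc_g_rc_21_3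 lc_g_Cert_tree lc_g_rc_21_2 lc_g_Cert_tree lc_g_rc_26_6 lc_g_Cert_tree lc_g_Cert_tree lc_g_rc_21_3 lc_g_Cert_tree lc_g_rc_21_2 lc_g_rc_23_9 lc_g_Cert_tree lc_g_rc_23_9 lc_g_rc_27_3 lc_g_rc_21_2) (@D3.rec (fun _ => (Cert rels S Gen.g)) lc_g_rc_21_3 lc_g_rc_21_2 lc_g_rc_23_7 lc_g_rc_27_6 lc_g_rc_21_2 lc_g_rc_21_3 lc_g_rc_21_2 lc_g_rc_21_2 lc_g_rc_26_9 lc_g_rc_21_3 lc_g_Cert_tree lc_g_Cert_tree lc_g_Cert_tree lc_g_rc_21_2 lc_g_rc_21_2 lc_g_rc_21_2 lc_g_rc_23_1 lc_g_Cert_tree lc_g_rc_21_3 lc_g_rc_21_2 lc_g_Cert_tree lc_g_rc_27_3 lc_g_rc_21_3 lc_g_Cert_tree lc_g_rc_26_9 lc_g_rc_21_2 lc_g_rc_26_6 lc_g_rc_27_9 lc_g_rc_27_0 lc_g_rc_21_3 lc_g_rc_27_6 lc_g_rc_24_3 lc_g_rc_21_3 lc_g_Cert_tree lc_g_rc_27_6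 lc_g_rc_27_0 lc_g_rc_26_0 lc_g_Cert_tree lc_g_rc_26_0 lc_g_rc_23_3 lc_g_rc_27_6 lc_g_Cert_tree lc_g_rc_27_3 lc_g_rc_21_3 lc_g_rc_21_3 lc_g_rc_21_3 lc_g_Cert_tree lc_g_Cert_tree lc_g_rc_24_9 lc_g_rc_21_2 lc_g_rc_21_3 lc_g_rc_24_3 lc_g_rc_21_3 lc_g_Cert_tree lc_g_rc_27_6 lc_g_Cert_tree lc_g_rc_21_3 lc_g_rc_26_6 lc_g_rc_21_2 lc_g_rc_21_3 lc_g_Cert_tree lc_g_rc_26_6) (@D3.rec (fun _ => (Cert rels S Gen.g)) lc_g_rc_27_6 lc_g_rc_21_3 lc_g_rc_27_3 lc_g_rc_21_3 lc_g_rc_21_3 lc_g_Cert_tree lc_g_Cert_tree lc_g_Cert_tree lc_g_rc_26_9 lc_g_Cert_tree lc_g_Cert_tree lc_g_rc_21_2 lc_g_Cert_tree lc_g_rc_21_3 lc_g_Cert_tree lc_g_rc_26_3 lc_g_rc_24_3 lc_g_rc_21_3 lc_g_Cert_tree lc_g_rc_27_3 lc_g_rc_26_6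 lc_g_rc_21_3 lc_g_rc_21_3 lc_g_Cert_tree lc_g_rc_21_2 lc_g_Cert_tree lc_g_rc_23_7 lc_g_rc_21_3 lc_g_rc_23_7 lc_g_rc_26_9 lc_g_rc_27_3 lc_g_Cert_tree lc_g_rc_24_3 lc_g_rc_21_2 lc_g_rc_24_1 lc_g_rc_26_0 lc_g_rc_26_3 lc_g_rc_21_3 lc_g_rc_21_3 lc_g_rc_26_3 lc_g_rc_27_9 lc_g_rc_27_6 lc_g_rc_23_3 lc_g_rc_24_7 lc_g_rc_23_3 lc_g_rc_21_3 lc_g_rc_27_6 lc_g_Cert_tree lc_g_Cert_tree lc_g_rc_27_3 lc_g_rc_21_3 lc_g_rc_21_3 lc_g_Cert_tree lc_g_rc_27_3 lc_g_rc_21_2 lc_g_Cert_tree lc_g_rc_23_1 lc_g_rc_23_1 lc_g_rc_23_9 lc_g_rc_27_3 lc_g_rc_26_0 lc_g_rc_24_3) (@D3.rec (fun _ => (Cert rels S Gen.g)) lc_g_rc_27_9 lc_g_rc_24_1 lc_g_rc_21_3 lc_g_Cert_tree lc_g_rc_26_3 lc_g_rc_21_2 lc_g_rc_21_3 lc_g_rc_27_6 lc_g_rc_21_2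 lc_g_Cert_tree lc_g_rc_26_6 lc_g_rc_23_3 lc_g_rc_23_9 lc_g_Cert_tree lc_g_rc_27_3 lc_g_Cert_tree lc_g_rc_27_0 lc_g_rc_23_7 lc_g_rc_21_3 lc_g_Cert_tree lc_g_rc_21_2 lc_g_Cert_tree lc_g_rc_21_2 lc_g_Cert_tree lc_g_rc_21_3 lc_g_rc_27_3 lc_g_rc_21_2 lc_g_rc_23_1 lc_g_rc_21_3 lc_g_Cert_tree lc_g_rc_21_2 lc_g_rc_21_2 lc_g_rc_21_2 lc_g_rc_21_3 lc_g_rc_26_0 lc_g_rc_26_3 lc_g_rc_23_7 lc_g_rc_21_2 lc_g_rc_21_3 lc_g_Cert_tree lc_g_rc_27_3 lc_g_Cert_tree lc_g_rc_21_3 lc_g_Cert_tree lc_g_Cert_tree lc_g_rc_23_9 lc_g_Cert_tree lc_g_rc_21_3 lc_g_Cert_tree lc_g_rc_23_9 lc_g_Cert_tree lc_g_rc_27_6 lc_g_rc_21_2 lc_g_Cert_tree lc_g_rc_24_7 lc_g_rc_26_6 lc_g_rc_27_3 lc_g_Cert_tree lc_g_rc_21_2 lc_g_rc_21_2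 lc_g_rc_27_0 lc_g_rc_21_2) (@D3.rec (fun _ => (Cert rels S Gen.g)) lc_g_Cert_tree lc_g_rc_27_9 lc_g_rc_27_6 lc_g_rc_26_3 lc_g_rc_27_3 lc_g_rc_26_0 lc_g_Cert_tree lc_g_rc_23_7 lc_g_rc_21_2 lc_g_rc_24_1 lc_g_rc_21_2 lc_g_rc_21_2 lc_g_rc_27_3 lc_g_rc_21_2 lc_g_Cert_tree lc_g_rc_26_6 lc_g_Cert_tree lc_g_rc_27_6 lc_g_Cert_tree lc_g_rc_27_6 lc_g_rc_21_3 lc_g_rc_26_9 lc_g_rc_27_3 lc_g_rc_27_6 lc_g_rc_27_6 lc_g_rc_21_3 lc_g_rc_26_6 lc_g_rc_23_1 lc_g_rc_27_6 lc_g_rc_26_6 lc_g_rc_27_6 lc_g_rc_25_19 lc_g_rc_26_6 lc_g_rc_21_3 lc_g_rc_21_2 lc_g_rc_23_1 lc_g_rc_21_2 lc_g_rc_21_2 lc_g_rc_21_3 lc_g_rc_23_1 lc_g_rc_21_2 lc_g_rc_26_0 lc_g_rc_26_9 lc_g_rc_21_2 lc_g_rc_24_1 lc_g_rc_26_0 lc_g_rc_24_3 lc_g_rc_26_3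 lc_g_rc_27_0 lc_g_rc_21_3 lc_g_rc_27_3 lc_g_rc_21_2 lc_g_rc_27_6 lc_g_rc_21_2 lc_g_rc_26_3 lc_g_rc_24_3 lc_g_Cert_tree lc_g_rc_27_9 lc_g_Cert_tree lc_g_rc_21_2 lc_g_rc_21_2 lc_g_rc_21_3) (@D3.rec (fun _ => (Cert rels S Gen.g)) lc_g_rc_26_3 lc_g_rc_27_6 lc_g_rc_21_3 lc_g_Cert_tree lc_g_rc_27_3 lc_g_rc_27_6 lc_g_rc_26_0 lc_g_rc_27_3 lc_g_rc_21_2 lc_g_rc_27_6 lc_g_Cert_tree lc_g_rc_23_3 lc_g_rc_27_3 lc_g_rc_24_1 lc_g_rc_26_0 lc_g_Cert_tree lc_g_rc_26_0 lc_g_rc_27_9 lc_g_rc_26_3 lc_g_rc_26_3 lc_g_rc_21_3 lc_g_Cert_tree lc_g_rc_27_3 lc_g_rc_23_7 lc_g_rc_27_6 lc_g_rc_21_2 lc_g_rc_24_1 lc_g_rc_24_7 lc_g_rc_24_1 lc_g_Cert_tree lc_g_rc_21_3 lc_g_rc_23_3 lc_g_rc_26_6 lc_g_rc_26_0 lc_g_rc_23_3 lc_g_rc_23_3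 lc_g_rc_21_2 lc_g_rc_23_1 lc_g_Cert_tree lc_g_rc_21_2 lc_g_rc_21_2 lc_g_rc_21_3 lc_g_rc_23_3 lc_g_rc_21_2 lc_g_rc_21_3 lc_g_rc_27_6 lc_g_rc_24_1 lc_g_rc_24_1 lc_g_rc_21_2 lc_g_rc_24_1 lc_g_rc_26_0 lc_g_rc_24_1 lc_g_Cert_tree lc_g_rc_27_0 lc_g_rc_26_0 lc_g_rc_21_3 lc_g_Cert_tree lc_g_Cert_tree lc_g_rc_24_9 lc_g_rc_27_6 lc_g_Cert_tree lc_g_rc_27_9) (@D3.rec (fun _ => (Cert rels S Gen.g)) lc_g_rc_21_2 lc_g_rc_26_6 lc_g_Cert_tree lc_g_Cert_tree lc_g_rc_26_3 lc_g_rc_26_6 lc_g_Cert_tree lc_g_rc_26_6 lc_g_Cert_tree lc_g_rc_23_1 lc_g_rc_23_1 lc_g_rc_21_2 lc_g_rc_23_3 lc_g_rc_24_7 lc_g_rc_24_9 lc_g_rc_27_6 lc_g_rc_23_9 lc_g_rc_24_3 lc_g_rc_24_9 lc_g_rc_21_3 lc_g_Cert_tree lc_g_rc_26_3 lc_g_Cert_tree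 lc_g_rc_24_1 lc_g_rc_27_0 lc_g_Cert_tree lc_g_rc_21_2 lc_g_rc_26_3 lc_g_Cert_tree lc_g_rc_27_3 lc_g_rc_21_2 lc_g_Cert_tree lc_g_rc_21_2 lc_g_rc_26_6 lc_g_rc_21_3 lc_g_Cert_tree lc_g_Cert_tree lc_g_rc_21_2 lc_g_rc_26_6 lc_g_rc_26_3 lc_g_rc_27_6 lc_g_Cert_tree lc_g_Cert_tree lc_g_rc_21_3 lc_g_Cert_tree lc_g_rc_26_9 lc_g_rc_21_3 lc_g_rc_24_1 lc_g_rc_21_2 lc_g_rc_26_3 lc_g_rc_24_7 lc_g_rc_27_0 lc_g_rc_21_3 lc_g_Cert_tree lc_g_rc_21_2 lc_g_rc_21_3 lc_g_rc_21_2 lc_g_Cert_tree lc_g_rc_21_3 lc_g_Cert_tree lc_g_rc_26_9 lc_g_rc_24_7) (@D3.rec (fun _ => (Cert rels S Gen.g)) lc_g_rc_24_7 lc_g_rc_21_3 lc_g_Cert_tree lc_g_rc_21_2 lc_g_rc_25_3 lc_g_rc_26_6 lc_g_rc_27_6 lc_g_rc_23_3 lc_g_rc_21_3 lc_g_Cert_tree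 lc_g_rc_21_2 lc_g_rc_26_3 lc_g_rc_27_6 lc_g_rc_26_6 lc_g_rc_24_1 lc_g_rc_21_3 lc_g_Cert_tree lc_g_rc_21_2 lc_g_rc_26_3 lc_g_rc_25_3 lc_g_rc_27_6 lc_g_rc_21_3 lc_g_rc_25_15 lc_g_Cert_tree lc_g_rc_21_3 lc_g_rc_27_6 lc_g_rc_21_2 lc_g_rc_21_3 lc_g_Cert_tree lc_g_rc_26_6 lc_g_rc_27_9 lc_g_Cert_tree lc_g_rc_23_1 lc_g_rc_21_2 lc_g_rc_21_3 lc_g_Cert_tree lc_g_rc_21_2 lc_g_rc_21_2 lc_g_rc_21_2 lc_g_rc_21_2 lc_g_rc_24_3 lc_g_rc_21_3 lc_g_rc_23_3 lc_g_rc_21_3 lc_g_rc_27_0 lc_g_rc_26_0 lc_g_rc_24_7 lc_g_rc_21_3 lc_g_Cert_tree lc_g_rc_21_2 lc_g_rc_26_3 lc_g_rc_21_3 lc_g_Cert_tree lc_g_rc_21_2 lc_g_rc_24_3 lc_g_Cert_tree lc_g_rc_27_0 lc_g_Cert_tree lc_g_rc_21_2 lc_g_rc_24_3 lc_g_Cert_tree lc_g_rc_27_0)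 (@D3.rec (fun _ => (Cert rels S Gen.g)) lc_g_Cert_tree lc_g_rc_21_2 lc_g_rc_23_7 lc_g_rc_24_3 lc_g_rc_27_6 lc_g_rc_24_3 lc_g_rc_27_6 lc_g_rc_26_6 lc_g_rc_23_7 lc_g_rc_26_3 lc_g_rc_27_6 lc_g_Cert_tree lc_g_rc_23_3 lc_g_rc_23_3 lc_g_Cert_tree lc_g_Cert_tree lc_g_rc_26_6 lc_g_rc_21_3 lc_g_Cert_tree lc_g_Cert_tree lc_g_rc_21_2 lc_g_rc_21_2 lc_g_rc_27_6 lc_g_rc_27_6 lc_g_rc_24_7 lc_g_rc_27_9 lc_g_Cert_tree lc_g_rc_21_3 lc_g_Cert_tree lc_g_rc_24_1 lc_g_Cert_tree lc_g_rc_21_2 lc_g_Cert_tree lc_g_rc_21_3 lc_g_Cert_tree lc_g_rc_21_3 lc_g_rc_21_2 lc_g_rc_24_7 lc_g_rc_23_1 lc_g_rc_21_3 lc_g_Cert_tree lc_g_rc_21_2 lc_g_rc_21_2 lc_g_rc_26_0 lc_g_rc_27_6 lc_g_Cert_tree lc_g_rc_27_3 lc_g_Cert_tree lc_g_rc_25_19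 lc_g_rc_26_6 lc_g_rc_27_3 lc_g_rc_21_2 lc_g_Cert_tree lc_g_rc_27_0 lc_g_rc_23_7 lc_g_rc_27_6 lc_g_rc_26_0 lc_g_rc_27_6 lc_g_rc_21_2 lc_g_rc_21_3 lc_g_Cert_tree lc_g_rc_27_0) (@D3.rec (fun _ => (Cert rels S Gen.g)) lc_g_rc_26_0 lc_g_rc_23_9 lc_g_rc_27_9 lc_g_rc_26_0 lc_g_rc_27_6 lc_g_rc_21_3 lc_g_rc_27_3 lc_g_Cert_tree lc_g_rc_26_3 lc_g_rc_23_3 lc_g_rc_21_3 lc_g_rc_25_3 lc_g_rc_21_3 lc_g_rc_27_6 lc_g_rc_23_3 lc_g_Cert_tree lc_g_rc_23_9 lc_g_rc_21_3 lc_g_rc_23_7 lc_g_Cert_tree lc_g_rc_21_3 lc_g_rc_21_3 lc_g_rc_21_2 lc_g_rc_26_3 lc_g_rc_27_0 lc_g_rc_23_1 lc_g_rc_21_3 lc_g_rc_24_1 lc_g_rc_21_3 lc_g_rc_27_6 lc_g_rc_27_6 lc_g_Cert_tree lc_g_rc_26_3 lc_g_rc_27_3 lc_g_rc_25_7 lc_g_rc_21_2 lc_g_rc_27_6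 lc_g_rc_21_3 lc_g_rc_23_3 lc_g_Cert_tree lc_g_rc_21_2 lc_g_rc_21_3 lc_g_rc_21_2 lc_g_rc_21_3 lc_g_rc_21_2 lc_g_rc_24_9 lc_g_Cert_tree lc_g_Cert_tree lc_g_rc_21_3 lc_g_Cert_tree lc_g_rc_27_0 lc_g_rc_21_2 lc_g_rc_23_1 lc_g_rc_26_9 lc_g_rc_27_6 lc_g_rc_21_3 lc_g_rc_27_9 lc_g_rc_21_3 lc_g_Cert_tree lc_g_rc_27_9 lc_g_rc_21_3 lc_g_rc_21_2) (@D3.rec (fun _ => (Cert rels S Gen.g)) lc_g_rc_27_3 lc_g_rc_21_3 lc_g_rc_21_2 lc_g_Cert_tree lc_g_rc_23_3 lc_g_rc_27_3 lc_g_rc_27_9 lc_g_rc_21_3 lc_g_rc_27_6 lc_g_rc_21_2 lc_g_rc_27_6 lc_g_rc_21_2 lc_g_rc_26_3 lc_g_rc_21_2 lc_g_rc_21_3 lc_g_Cert_tree lc_g_rc_23_3 lc_g_Cert_tree lc_g_rc_21_3 lc_g_Cert_tree lc_g_Cert_tree lc_g_rc_21_2 lc_g_rc_26_3 lc_g_rc_24_3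 lc_g_rc_27_9 lc_g_rc_24_3 lc_g_rc_21_2 lc_g_Cert_tree lc_g_rc_21_2 lc_g_rc_21_3 lc_g_rc_27_6 lc_g_Cert_tree lc_g_rc_21_3 lc_g_rc_21_3 lc_g_rc_27_9 lc_g_rc_26_0 lc_g_rc_21_2 lc_g_rc_27_6 lc_g_Cert_tree lc_g_rc_21_3 lc_g_Cert_tree lc_g_rc_26_6 lc_g_rc_21_3 lc_g_rc_24_1 lc_g_rc_23_3 lc_g_Cert_tree lc_g_rc_21_3 lc_g_rc_27_3 lc_g_Cert_tree lc_g_rc_26_6 lc_g_rc_26_6 lc_g_rc_21_2 lc_g_rc_26_3 lc_g_rc_21_2 lc_g_rc_24_7 lc_g_rc_27_3 lc_g_rc_21_3 lc_g_rc_27_3 lc_g_rc_21_2 lc_g_rc_27_0 lc_g_Cert_tree lc_g_rc_21_2) (@D3.rec (fun _ => (Cert rels S Gen.g)) lc_g_Cert_tree lc_g_rc_27_3 lc_g_rc_21_3 lc_g_Cert_tree lc_g_rc_27_3 lc_g_rc_21_2 lc_g_rc_21_2 lc_g_rc_27_9 lc_g_rc_27_0 lc_g_rc_24_7 lc_g_rc_24_3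 lc_g_rc_23_1 lc_g_rc_26_6 lc_g_rc_26_9 lc_g_rc_27_3 lc_g_Cert_tree lc_g_rc_21_2 lc_g_rc_26_0 lc_g_Cert_tree lc_g_rc_21_2 lc_g_rc_25_11 lc_g_rc_27_3 lc_g_rc_24_3 lc_g_rc_24_3 lc_g_rc_23_9 lc_g_rc_21_3 lc_g_rc_24_3 lc_g_rc_21_2 lc_g_Cert_tree lc_g_Cert_tree lc_g_rc_26_6 lc_g_rc_21_3 lc_g_rc_21_2 lc_g_rc_24_1 lc_g_rc_21_2 lc_g_rc_21_3 lc_g_rc_26_0 lc_g_rc_21_2 lc_g_rc_27_6 lc_g_rc_21_3 lc_g_Cert_tree lc_g_rc_21_2 lc_g_rc_24_7 lc_g_rc_21_2 lc_g_rc_24_7 lc_g_rc_27_6 lc_g_rc_21_3 lc_g_rc_26_3 lc_g_rc_21_3 lc_g_Cert_tree lc_g_rc_21_3 lc_g_rc_25_7 lc_g_rc_24_1 lc_g_rc_21_3 lc_g_Cert_tree lc_g_rc_21_2 lc_g_rc_24_3 lc_g_rc_27_6 lc_g_Cert_tree lc_g_rc_21_2 lc_g_rc_25_3 lc_g_rc_27_6) (@D3.rec (fun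 _ => (Cert rels S Gen.g)) lc_g_rc_21_3 lc_g_rc_27_6 lc_g_Cert_tree lc_g_rc_27_6 lc_g_rc_26_6 lc_g_rc_24_3 lc_g_rc_27_3 lc_g_rc_21_2 lc_g_rc_23_7 lc_g_Cert_tree lc_g_rc_26_3 lc_g_rc_27_3 lc_g_rc_21_2 lc_g_rc_21_3 lc_g_rc_21_3 lc_g_rc_26_9 lc_g_rc_21_2 lc_g_rc_27_6 lc_g_rc_21_3 lc_g_Cert_tree lc_g_rc_27_6 lc_g_rc_23_3 lc_g_rc_26_6 lc_g_rc_27_9 lc_g_rc_23_1 lc_g_Cert_tree lc_g_rc_21_3 lc_g_Cert_tree lc_g_rc_21_2 lc_g_Cert_tree lc_g_rc_21_2 lc_g_rc_26_0 lc_g_rc_24_1 lc_g_rc_21_3 lc_g_rc_27_3 lc_g_rc_24_3 lc_g_rc_21_2 lc_g_Cert_tree lc_g_rc_21_2 lc_g_rc_26_3 lc_g_rc_27_6 lc_g_rc_23_3 lc_g_rc_21_2 lc_g_Cert_tree lc_g_rc_21_2 lc_g_rc_27_6 lc_g_rc_27_9 lc_g_rc_26_6 lc_g_rc_21_3 lc_g_Cert_tree lc_g_rc_27_3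 lc_g_rc_23_3 lc_g_Cert_tree lc_g_rc_21_3 lc_g_Cert_tree lc_g_rc_21_2 lc_g_rc_27_9 lc_g_rc_23_3 lc_g_rc_21_2 lc_g_rc_21_3 lc_g_rc_21_3 lc_g_rc_26_3) (@D3.rec (fun _ => (Cert rels S Gen.g)) lc_g_rc_23_3 lc_g_rc_26_6 lc_g_rc_21_3 lc_g_rc_27_6 lc_g_rc_24_3 lc_g_rc_24_7 lc_g_rc_21_2 lc_g_rc_21_2 lc_g_rc_26_6 lc_g_rc_21_2 lc_g_Cert_tree lc_g_rc_21_3 lc_g_rc_21_2 lc_g_Cert_tree lc_g_rc_26_3 lc_g_rc_23_7 lc_g_rc_26_9 lc_g_rc_21_2 lc_g_rc_25_3 lc_g_rc_21_3 lc_g_rc_26_0 lc_g_Cert_tree lc_g_rc_23_7 lc_g_rc_26_9 lc_g_rc_26_3 lc_g_rc_21_2 lc_g_rc_26_3 lc_g_rc_21_2 lc_g_rc_24_3 lc_g_Cert_tree lc_g_rc_23_7 lc_g_rc_24_1 lc_g_Cert_tree lc_g_rc_21_2 lc_g_Cert_tree lc_g_rc_21_2 lc_g_Cert_tree lc_g_Cert_tree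 lc_g_rc_21_2 lc_g_rc_21_2 lc_g_Cert_tree lc_g_rc_21_2 lc_g_rc_23_7 lc_g_rc_26_3 lc_g_rc_23_7 lc_g_rc_21_3 lc_g_Cert_tree lc_g_rc_27_9 lc_g_rc_21_3 lc_g_Cert_tree lc_g_Cert_tree lc_g_rc_27_3 lc_g_rc_26_6 lc_g_Cert_tree lc_g_rc_23_7 lc_g_rc_26_3 lc_g_rc_21_3 lc_g_Cert_tree lc_g_rc_21_2 lc_g_rc_21_3 lc_g_Cert_tree lc_g_rc_25_3) (@D3.rec (fun _ => (Cert rels S Gen.g)) lc_g_Cert_tree lc_g_rc_21_3 lc_g_rc_21_3 lc_g_Cert_tree lc_g_rc_27_3 lc_g_rc_27_3 lc_g_rc_21_3 lc_g_rc_27_9 lc_g_Cert_tree lc_g_rc_23_1 lc_g_rc_26_3 lc_g_rc_27_6 lc_g_rc_23_3 lc_g_Cert_tree lc_g_rc_23_3 lc_g_Cert_tree lc_g_rc_21_2 lc_g_Cert_tree lc_g_rc_21_2 lc_g_rc_23_7 lc_g_rc_26_3 lc_g_rc_27_0 lc_g_rc_27_6 lc_g_rc_27_3 lc_g_rc_21_2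 lc_g_Cert_tree lc_g_rc_21_2 lc_g_rc_23_3 lc_g_rc_27_6 lc_g_rc_26_3 lc_g_rc_23_7 lc_g_rc_21_3 lc_g_Cert_tree lc_g_rc_27_6 lc_g_rc_23_3 lc_g_rc_21_2 lc_g_rc_27_6 lc_g_rc_21_3 lc_g_Cert_tree lc_g_rc_26_3 lc_g_rc_21_2 lc_g_rc_27_6 lc_g_rc_26_3 lc_g_rc_21_3 lc_g_Cert_tree lc_g_rc_21_2 lc_g_rc_27_0 lc_g_rc_21_2 lc_g_rc_21_3 lc_g_rc_27_0 lc_g_rc_21_3 lc_g_rc_24_1 lc_g_Cert_tree lc_g_rc_27_6 lc_g_rc_21_2 lc_g_rc_26_0 lc_g_rc_26_9 lc_g_rc_27_6 lc_g_rc_21_3 lc_g_rc_23_1 lc_g_rc_27_0 lc_g_rc_23_9) (@D3.rec (fun _ => (Cert rels S Gen.g)) lc_g_rc_27_0 lc_g_rc_21_2 lc_g_rc_21_2 lc_g_Cert_tree lc_g_rc_24_3 lc_g_Cert_tree lc_g_rc_26_3 lc_g_Cert_tree lc_g_rc_26_0 lc_g_rc_27_6 lc_g_rc_23_3 lc_g_rc_21_3 lc_g_rc_21_2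 lc_g_rc_21_3 lc_g_rc_24_1 lc_g_rc_21_3 lc_g_rc_24_7 lc_g_rc_21_2 lc_g_rc_27_3 lc_g_rc_21_2 lc_g_rc_21_3 lc_g_rc_21_2 lc_g_Cert_tree lc_g_rc_26_3 lc_g_rc_26_0 lc_g_rc_21_3 lc_g_Cert_tree lc_g_rc_27_0 lc_g_rc_23_3 lc_g_Cert_tree lc_g_rc_23_9 lc_g_rc_23_9 lc_g_Cert_tree lc_g_rc_21_2 lc_g_rc_21_3 lc_g_Cert_tree lc_g_rc_21_2 lc_g_rc_24_7 lc_g_rc_23_9 lc_g_rc_24_3 lc_g_rc_21_3 lc_g_Cert_tree lc_g_rc_21_2 lc_g_rc_21_3 lc_g_rc_23_1 lc_g_rc_21_3 lc_g_Cert_tree lc_g_rc_26_3 lc_g_rc_21_3 lc_g_Cert_tree lc_g_Cert_tree lc_g_rc_21_2 lc_g_rc_21_3 lc_g_Cert_tree lc_g_rc_21_2 lc_g_rc_26_6 lc_g_rc_27_0 lc_g_rc_26_3 lc_g_rc_21_3 lc_g_rc_27_6 lc_g_rc_21_3 lc_g_rc_24_3) (@D3.rec (fun _ => (Cert rels S Gen.g))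 lc_g_rc_23_1 lc_g_rc_21_2 lc_g_rc_21_2 lc_g_rc_21_3 lc_g_Cert_tree lc_g_Cert_tree lc_g_rc_21_3 lc_g_Cert_tree lc_g_rc_24_9 lc_g_rc_26_3 lc_g_rc_26_6 lc_g_rc_24_3 lc_g_rc_23_1 lc_g_Cert_tree lc_g_Cert_tree lc_g_rc_21_3 lc_g_rc_23_9 lc_g_Cert_tree lc_g_Cert_tree lc_g_rc_24_1 lc_g_rc_21_3 lc_g_rc_21_2 lc_g_Cert_tree lc_g_rc_27_3 lc_g_rc_23_7 lc_g_rc_24_3 lc_g_rc_21_3 lc_g_Cert_tree lc_g_rc_27_0 lc_g_rc_27_0 lc_g_Cert_tree lc_g_Cert_tree lc_g_Cert_tree lc_g_rc_24_1 lc_g_rc_23_7 lc_g_rc_24_9 lc_g_rc_23_7 lc_g_rc_26_6 lc_g_rc_27_3 lc_g_rc_21_2 lc_g_rc_24_3 lc_g_rc_27_9 lc_g_rc_21_3 lc_g_Cert_tree lc_g_rc_26_6 lc_g_rc_24_9 lc_g_rc_21_2 lc_g_rc_21_3 lc_g_Cert_tree lc_g_rc_21_2 lc_g_rc_21_3 lc_g_Cert_tree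 lc_g_rc_21_2 lc_g_Cert_tree lc_g_rc_24_3 lc_g_Cert_tree lc_g_rc_27_3 lc_g_rc_21_2 lc_g_rc_21_2 lc_g_rc_26_0 lc_g_rc_27_6 lc_g_Cert_tree) (@D3.rec (fun _ => (Cert rels S Gen.g)) lc_g_rc_21_3 lc_g_rc_26_9 lc_g_rc_27_0 lc_g_rc_21_2 lc_g_rc_21_3 lc_g_rc_21_3 lc_g_rc_27_6 lc_g_rc_21_3 lc_g_Cert_tree lc_g_Cert_tree lc_g_rc_26_6 lc_g_Cert_tree lc_g_rc_27_3 lc_g_rc_27_6 lc_g_rc_21_3 lc_g_Cert_tree lc_g_rc_25_7 lc_g_Cert_tree lc_g_rc_21_3 lc_g_Cert_tree lc_g_rc_24_9 lc_g_rc_21_3 lc_g_rc_26_3 lc_g_Cert_tree lc_g_rc_26_6 lc_g_rc_24_1 lc_g_Cert_tree lc_g_rc_21_2 lc_g_rc_21_2 lc_g_rc_26_6 lc_g_Cert_tree lc_g_rc_24_7 lc_g_rc_26_3 lc_g_rc_21_3 lc_g_rc_27_6 lc_g_rc_27_0 lc_g_rc_21_2 lc_g_rc_27_9 lc_g_rc_24_3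 lc_g_rc_21_3 lc_g_Cert_tree lc_g_rc_27_0 lc_g_rc_24_3 lc_g_rc_26_0 lc_g_Cert_tree lc_g_rc_21_2 lc_g_Cert_tree lc_g_rc_23_3 lc_g_rc_24_3 lc_g_Cert_tree lc_g_rc_24_3 lc_g_rc_27_6 lc_g_rc_21_3 lc_g_rc_26_9 lc_g_rc_23_7 lc_g_rc_23_7 lc_g_rc_26_0 lc_g_rc_24_3 lc_g_rc_23_7 lc_g_rc_23_3 lc_g_Cert_tree lc_g_rc_21_2) (@D3.rec (fun _ => (Cert rels S Gen.g)) lc_g_Cert_tree lc_g_rc_26_3 lc_g_rc_21_2 lc_g_rc_23_1 lc_g_rc_26_0 lc_g_rc_27_6 lc_g_rc_21_3 lc_g_rc_26_9 lc_g_rc_23_7 lc_g_rc_27_6 lc_g_rc_24_7 lc_g_rc_21_3 lc_g_Cert_tree lc_g_Cert_tree lc_g_rc_21_2 lc_g_rc_26_0 lc_g_rc_23_7 lc_g_rc_27_0 lc_g_rc_24_3 lc_g_Cert_tree lc_g_rc_21_3 lc_g_Cert_tree lc_g_rc_26_9 lc_g_rc_21_3 lc_g_rc_23_1 lc_g_Cert_tree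 lc_g_rc_23_3 lc_g_rc_21_3 lc_g_rc_27_3 lc_g_rc_21_2 lc_g_rc_21_3 lc_g_rc_26_6 lc_g_rc_21_2 lc_g_rc_26_3 lc_g_Cert_tree lc_g_rc_23_9 lc_g_rc_26_9 lc_g_rc_27_6 lc_g_rc_23_1 lc_g_rc_27_6 lc_g_Cert_tree lc_g_rc_24_9 lc_g_rc_21_2 lc_g_rc_23_9 lc_g_rc_23_3 lc_g_Cert_tree lc_g_rc_23_3 lc_g_rc_24_3 lc_g_rc_23_1 lc_g_Cert_tree lc_g_rc_23_3 lc_g_Cert_tree lc_g_Cert_tree lc_g_rc_21_2 lc_g_rc_21_3 lc_g_Cert_tree lc_g_Cert_tree lc_g_rc_24_3 lc_g_rc_23_9 lc_g_rc_27_3 lc_g_rc_25_15 lc_g_rc_26_6) (@D3.rec (fun _ => (Cert rels S Gen.g)) lc_g_rc_26_6 lc_g_rc_24_3 lc_g_Cert_tree lc_g_Cert_tree lc_g_rc_21_2 lc_g_rc_23_1 lc_g_rc_27_3 lc_g_rc_24_3 lc_g_rc_21_3 lc_g_rc_21_3 lc_g_rc_23_9 lc_g_rc_25_3 lc_g_Cert_tree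 lc_g_rc_26_6 lc_g_rc_26_6 lc_g_rc_23_3 lc_g_rc_24_3 lc_g_rc_21_3 lc_g_Cert_tree lc_g_rc_24_7 lc_g_rc_27_9 lc_g_rc_27_6 lc_g_Cert_tree lc_g_rc_26_3 lc_g_rc_27_6 lc_g_rc_27_3 lc_g_rc_23_3 lc_g_rc_24_7 lc_g_rc_26_3 lc_g_rc_21_3 lc_g_Cert_tree lc_g_rc_21_2 lc_g_Cert_tree lc_g_rc_21_2 lc_g_rc_27_6 lc_g_rc_21_2 lc_g_rc_21_3 lc_g_Cert_tree lc_g_rc_21_2 lc_g_Cert_tree lc_g_rc_26_3 lc_g_Cert_tree lc_g_Cert_tree lc_g_rc_27_3 lc_g_rc_21_2 lc_g_rc_23_7 lc_g_Cert_tree lc_g_rc_25_7 lc_g_rc_21_3 lc_g_Cert_tree lc_g_rc_21_2 lc_g_rc_26_6 lc_g_rc_26_0 lc_g_rc_24_7 lc_g_rc_26_3 lc_g_Cert_tree lc_g_rc_21_3 lc_g_rc_21_2 lc_g_rc_24_7 lc_g_rc_23_1 lc_g_Cert_tree lc_g_rc_26_0) (@D3.rec (fun _ => (Cert rels S Gen.g))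 lc_g_Cert_tree lc_g_rc_26_3 lc_g_rc_23_9 lc_g_rc_23_3 lc_g_rc_27_0 lc_g_Cert_tree lc_g_rc_27_3 lc_g_rc_21_3 lc_g_Cert_tree lc_g_rc_21_2 lc_g_Cert_tree lc_g_rc_21_2 lc_g_rc_21_3 lc_g_Cert_tree lc_g_rc_21_2 lc_g_rc_27_6 lc_g_rc_23_3 lc_g_rc_21_3 lc_g_rc_21_2 lc_g_Cert_tree lc_g_rc_21_2 lc_g_rc_27_6 lc_g_rc_21_2 lc_g_rc_21_3 lc_g_Cert_tree lc_g_rc_21_2 lc_g_rc_24_1 lc_g_rc_21_2 lc_g_Cert_tree lc_g_rc_21_2 lc_g_rc_26_3 lc_g_rc_21_3 lc_g_Cert_tree lc_g_Cert_tree lc_g_rc_21_2 lc_g_Cert_tree lc_g_rc_27_9 lc_g_rc_26_6 lc_g_rc_26_9 lc_g_rc_27_6 lc_g_rc_21_3 lc_g_Cert_tree lc_g_Cert_tree lc_g_rc_26_9 lc_g_Cert_tree lc_g_rc_27_9 lc_g_rc_27_0 lc_g_rc_21_2 lc_g_rc_23_7 lc_g_Cert_tree lc_g_rc_21_3 lc_g_Cert_tree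 lc_g_rc_21_2 lc_g_Cert_tree lc_g_rc_21_3 lc_g_Cert_tree lc_g_rc_21_3 lc_g_rc_21_3 lc_g_rc_24_3 lc_g_rc_27_6 lc_g_rc_24_3 lc_g_rc_26_9) (@D3.rec (fun _ => (Cert rels S Gen.g)) lc_g_rc_26_9 lc_g_rc_24_7 lc_g_rc_21_3 lc_g_Cert_tree lc_g_rc_21_3 lc_g_Cert_tree lc_g_rc_21_2 lc_g_rc_21_3 lc_g_rc_23_7 lc_g_rc_26_3 lc_g_Cert_tree lc_g_rc_26_9 lc_g_rc_27_0 lc_g_rc_24_9 lc_g_rc_26_3 lc_g_rc_21_3 lc_g_Cert_tree lc_g_rc_26_0 lc_g_Cert_tree lc_g_rc_24_3 lc_g_rc_21_2 lc_g_Cert_tree lc_g_rc_21_3 lc_g_rc_21_2 lc_g_rc_26_3 lc_g_rc_21_3 lc_g_rc_24_1 lc_g_rc_27_6 lc_g_Cert_tree lc_g_rc_24_9 lc_g_rc_21_2 lc_g_rc_21_2 lc_g_rc_26_3 lc_g_rc_24_1 lc_g_rc_26_3 lc_g_rc_21_3 lc_g_rc_26_6 lc_g_rc_26_6 lc_g_rc_23_9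 lc_g_rc_27_6 lc_g_rc_21_3 lc_g_Cert_tree lc_g_rc_21_3 lc_g_rc_21_2 lc_g_Cert_tree lc_g_rc_27_6 lc_g_rc_21_2 lc_g_rc_21_2 lc_g_rc_26_6 lc_g_rc_23_1 lc_g_Cert_tree lc_g_Cert_tree lc_g_rc_24_3 lc_g_Cert_tree lc_g_Cert_tree lc_g_rc_26_9 lc_g_rc_21_3 lc_g_rc_24_9 lc_g_Cert_tree lc_g_Cert_tree lc_g_rc_24_1 lc_g_rc_23_3) (@D3.rec (fun _ => (Cert rels S Gen.g)) lc_g_rc_26_3 lc_g_rc_21_3 lc_g_rc_21_2 lc_g_rc_27_6 lc_g_rc_24_3 lc_g_rc_26_6 lc_g_rc_21_2 lc_g_rc_26_3 lc_g_rc_21_3 lc_g_Cert_tree lc_g_Cert_tree lc_g_rc_21_2 lc_g_rc_23_7 lc_g_rc_26_3 lc_g_rc_21_3 lc_g_Cert_tree lc_g_rc_27_0 lc_g_rc_23_9 lc_g_rc_26_6 lc_g_rc_21_2 lc_g_rc_23_3 lc_g_Cert_tree lc_g_rc_24_7 lc_g_rc_21_2 lc_g_rc_26_6 lc_g_rc_27_6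 lc_g_rc_23_3 lc_g_rc_27_9 lc_g_rc_27_6 lc_g_rc_23_3 lc_g_rc_21_3 lc_g_Cert_tree lc_g_Cert_tree lc_g_rc_23_3 lc_g_rc_21_3 lc_g_Cert_tree lc_g_rc_27_6 lc_g_rc_21_3 lc_g_rc_21_3 lc_g_rc_26_0 lc_g_rc_26_3 lc_g_rc_23_3 lc_g_rc_21_3 lc_g_Cert_tree lc_g_Cert_tree lc_g_rc_21_2 lc_g_rc_21_3 lc_g_Cert_tree lc_g_rc_27_0 lc_g_rc_24_7 lc_g_rc_23_3 lc_g_rc_21_3 lc_g_rc_21_2 lc_g_rc_21_2 lc_g_rc_23_9 lc_g_rc_21_3 lc_g_Cert_tree lc_g_rc_21_3 lc_g_Cert_tree lc_g_rc_26_9 lc_g_rc_23_7 lc_g_Cert_tree) (@D3.rec (fun _ => (Cert rels S Gen.g)) lc_g_rc_26_9 lc_g_rc_21_3 lc_g_Cert_tree lc_g_rc_27_3 lc_g_rc_21_2 lc_g_rc_24_7 lc_g_rc_27_3 lc_g_rc_23_9 lc_g_rc_21_3 lc_g_Cert_tree lc_g_rc_21_2 lc_g_Cert_tree lc_g_rc_21_3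 lc_g_rc_21_3 lc_g_Cert_tree lc_g_rc_27_9 lc_g_rc_21_2 lc_g_rc_27_6 lc_g_rc_23_1 lc_g_Cert_tree lc_g_rc_21_3 lc_g_Cert_tree lc_g_rc_27_3 lc_g_rc_21_2 lc_g_rc_26_6 lc_g_Cert_tree lc_g_rc_21_2 lc_g_rc_21_2 lc_g_rc_25_11 lc_g_rc_23_7 lc_g_rc_26_3 lc_g_rc_27_3 lc_g_rc_26_3 lc_g_Cert_tree lc_g_rc_23_9 lc_g_rc_23_3 lc_g_rc_23_1 lc_g_rc_21_2 lc_g_Cert_tree lc_g_rc_23_3 lc_g_rc_23_9 lc_g_rc_23_7 lc_g_rc_27_9 lc_g_rc_26_6 lc_g_rc_23_3 lc_g_Cert_tree lc_g_rc_24_7 lc_g_Cert_tree lc_g_rc_21_2 lc_g_rc_26_9 lc_g_rc_21_3 lc_g_rc_21_3 lc_g_rc_21_2 lc_g_rc_21_3 lc_g_Cert_tree lc_g_rc_27_6 lc_g_rc_21_2 lc_g_Cert_tree lc_g_rc_21_3 lc_g_rc_27_6 lc_g_rc_23_1 lc_g_rc_24_7) (@D3.rec (fun _ => (Cert rels S Gen.g))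 lc_g_rc_26_3 lc_g_rc_27_6 lc_g_Cert_tree lc_g_rc_27_3 lc_g_Cert_tree lc_g_rc_21_3 lc_g_rc_24_3 lc_g_rc_26_6 lc_g_rc_23_1 lc_g_rc_23_9 lc_g_rc_27_3 lc_g_Cert_tree lc_g_rc_27_9 lc_g_rc_27_6 lc_g_rc_26_6 lc_g_rc_27_3 lc_g_rc_21_3 lc_g_Cert_tree lc_g_rc_24_3 lc_g_rc_21_2 lc_g_rc_26_3 lc_g_rc_23_3 lc_g_rc_21_3 lc_g_rc_26_6 lc_g_rc_21_2 lc_g_Cert_tree lc_g_rc_23_1 lc_g_rc_21_3 lc_g_Cert_tree lc_g_rc_23_1 lc_g_Cert_tree lc_g_rc_21_3 lc_g_rc_27_6 lc_g_rc_27_6 lc_g_rc_27_3 lc_g_rc_24_9 lc_g_rc_21_2 lc_g_Cert_tree lc_g_rc_26_3 lc_g_rc_27_6 lc_g_rc_24_9 lc_g_rc_26_0 lc_g_rc_27_3 lc_g_rc_21_2 lc_g_rc_21_3 lc_g_Cert_tree lc_g_rc_23_3 lc_g_rc_24_9 lc_g_Cert_tree lc_g_rc_26_6 lc_g_rc_24_1 lc_g_rc_27_6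 lc_g_rc_24_3 lc_g_rc_21_3 lc_g_rc_21_3 lc_g_rc_24_1 lc_g_rc_26_6 lc_g_rc_26_6 lc_g_Cert_tree lc_g_rc_27_0 lc_g_Cert_tree lc_g_Cert_tree) (@D3.rec (fun _ => (Cert rels S Gen.g)) lc_g_rc_24_7 lc_g_rc_21_3 lc_g_rc_21_3 lc_g_Cert_tree lc_g_rc_27_3 lc_g_rc_26_6 lc_g_rc_23_3 lc_g_rc_23_3 lc_g_rc_26_9 lc_g_rc_27_9 lc_g_rc_25_19 lc_g_rc_25_19 lc_g_rc_24_3 lc_g_rc_21_3 lc_g_rc_24_1 lc_g_Cert_tree lc_g_rc_26_6 lc_g_rc_21_2 lc_g_rc_27_3 lc_g_rc_21_2 lc_g_rc_27_6 lc_g_rc_21_2 lc_g_rc_21_2 lc_g_rc_23_3 lc_g_rc_21_2 lc_g_Cert_tree lc_g_rc_27_0 lc_g_rc_25_11 lc_g_rc_26_0 lc_g_rc_26_3 lc_g_rc_24_1 lc_g_rc_27_3 lc_g_rc_24_3 lc_g_rc_23_3 lc_g_rc_24_1 lc_g_rc_23_1 lc_g_rc_23_3 lc_g_rc_21_3 lc_g_rc_21_2 lc_g_rc_24_1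 lc_g_rc_24_9 lc_g_rc_24_1 lc_g_rc_27_0 lc_g_rc_21_2 lc_g_Cert_tree lc_g_rc_27_3 lc_g_rc_24_1 lc_g_Cert_tree lc_g_rc_25_3 lc_g_rc_21_2 lc_g_rc_21_3 lc_g_Cert_tree lc_g_rc_24_3 lc_g_rc_24_9 lc_g_rc_26_3 lc_g_rc_24_1 lc_g_rc_27_6 lc_g_rc_23_3 lc_g_Cert_tree lc_g_rc_21_2 lc_g_rc_21_2 lc_g_rc_25_3) (@D3.rec (fun _ => (Cert rels S Gen.g)) lc_g_rc_26_0 lc_g_rc_21_3 lc_g_Cert_tree lc_g_rc_24_3 lc_g_rc_26_6 lc_g_rc_21_2 lc_g_Cert_tree lc_g_Cert_tree lc_g_Cert_tree lc_g_rc_23_7 lc_g_rc_26_9 lc_g_Cert_tree lc_g_Cert_tree lc_g_rc_21_3 lc_g_rc_27_9 lc_g_rc_21_2 lc_g_rc_23_3 lc_g_rc_24_1 lc_g_rc_25_19 lc_g_rc_26_9 lc_g_rc_23_7 lc_g_rc_26_0 lc_g_rc_24_3 lc_g_rc_26_3 lc_g_rc_24_1 lc_g_Cert_tree lc_g_rc_27_6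 lc_g_rc_25_19 lc_g_rc_21_3 lc_g_rc_21_2 lc_g_rc_27_6 lc_g_rc_24_1 lc_g_Cert_tree lc_g_rc_23_1 lc_g_rc_21_2 lc_g_rc_21_3 lc_g_rc_26_6 lc_g_Cert_tree lc_g_rc_23_3 lc_g_rc_21_2 lc_g_Cert_tree lc_g_Cert_tree lc_g_rc_21_3 lc_g_rc_23_7 lc_g_rc_26_9 lc_g_Cert_tree lc_g_rc_21_2 lc_g_rc_21_3 lc_g_Cert_tree lc_g_rc_21_2 lc_g_rc_24_1 lc_g_rc_26_0 lc_g_rc_21_3 lc_g_Cert_tree lc_g_rc_24_9 lc_g_rc_24_3 lc_g_rc_21_2 lc_g_rc_27_0 lc_g_rc_24_1 lc_g_Cert_tree lc_g_rc_21_2 lc_g_Cert_tree) (@D3.rec (fun _ => (Cert rels S Gen.g)) lc_g_rc_27_3 lc_g_rc_26_6 lc_g_rc_21_3 lc_g_rc_26_9 lc_g_rc_27_6 lc_g_rc_26_9 lc_g_Cert_tree lc_g_rc_24_3 lc_g_rc_26_9 lc_g_rc_26_6 lc_g_rc_27_6 lc_g_Cert_tree lc_g_Cert_tree lc_g_rc_26_0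 lc_g_rc_21_3 lc_g_Cert_tree lc_g_rc_21_2 lc_g_rc_24_3 lc_g_Cert_tree lc_g_Cert_tree lc_g_rc_26_3 lc_g_rc_27_3 lc_g_Cert_tree lc_g_rc_21_2 lc_g_Cert_tree lc_g_Cert_tree lc_g_rc_23_7 lc_g_rc_21_2 lc_g_rc_21_3 lc_g_rc_21_3 lc_g_rc_21_2 lc_g_rc_26_6 lc_g_rc_21_3 lc_g_Cert_tree lc_g_rc_26_3 lc_g_rc_23_1 lc_g_rc_26_3 lc_g_rc_27_6 lc_g_Cert_tree lc_g_rc_27_0 lc_g_Cert_tree lc_g_rc_27_6 lc_g_Cert_tree lc_g_rc_21_2 lc_g_rc_26_6 lc_g_rc_21_2 lc_g_rc_21_2 lc_g_Cert_tree lc_g_rc_21_3 lc_g_Cert_tree lc_g_rc_27_3 lc_g_rc_21_2 lc_g_rc_21_3 lc_g_Cert_tree lc_g_Cert_tree lc_g_rc_21_2 lc_g_rc_26_6 lc_g_rc_27_9 lc_g_rc_27_0 lc_g_rc_23_3 lc_g_rc_27_6 lc_g_Cert_tree) (@D3.rec (fun _ => (Cert rels S Gen.g))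 lc_g_rc_24_7 lc_g_rc_21_2 lc_g_rc_21_2 lc_g_rc_25_3 lc_g_rc_27_3 lc_g_rc_26_6 lc_g_rc_23_7 lc_g_rc_21_3 lc_g_rc_21_3 lc_g_Cert_tree lc_g_Cert_tree lc_g_Cert_tree lc_g_rc_24_9 lc_g_Cert_tree lc_g_rc_26_6 lc_g_rc_21_2 lc_g_rc_24_1 lc_g_rc_27_3 lc_g_Cert_tree lc_g_rc_24_9 lc_g_rc_21_2 lc_g_rc_21_3 lc_g_Cert_tree lc_g_rc_23_3 lc_g_rc_21_2 lc_g_Cert_tree lc_g_rc_23_9 lc_g_rc_27_9 lc_g_rc_21_3 lc_g_rc_27_0 lc_g_rc_23_3 lc_g_rc_27_6 lc_g_rc_26_3 lc_g_rc_25_19 lc_g_rc_23_7 lc_g_rc_26_6 lc_g_rc_23_3 lc_g_rc_23_9 lc_g_rc_27_9 lc_g_Cert_tree lc_g_rc_21_3 lc_g_rc_24_7 lc_g_rc_26_0 lc_g_rc_21_2 lc_g_rc_27_0 lc_g_Cert_tree lc_g_rc_21_3 lc_g_rc_24_7 lc_g_rc_24_1 lc_g_rc_21_2 lc_g_Cert_tree lc_g_rc_27_0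 lc_g_rc_21_2 lc_g_rc_21_3 lc_g_Cert_tree lc_g_rc_21_2 lc_g_Cert_tree lc_g_rc_21_3 lc_g_Cert_tree lc_g_rc_21_2 lc_g_rc_21_3 lc_g_rc_27_6) (@D3.rec (fun _ => (Cert rels S Gen.g)) lc_g_rc_21_3 lc_g_Cert_tree lc_g_rc_21_2 lc_g_rc_21_3 lc_g_rc_26_3 lc_g_Cert_tree lc_g_rc_21_2 lc_g_rc_27_0 lc_g_rc_21_2 lc_g_rc_21_3 lc_g_Cert_tree lc_g_Cert_tree lc_g_rc_27_6 lc_g_rc_27_6 lc_g_Cert_tree lc_g_rc_24_9 lc_g_rc_21_3 lc_g_Cert_tree lc_g_Cert_tree lc_g_rc_21_2 lc_g_Cert_tree lc_g_rc_27_9 lc_g_rc_21_3 lc_g_Cert_tree lc_g_Cert_tree lc_g_rc_21_2 lc_g_rc_21_2 lc_g_rc_21_2 lc_g_rc_27_3 lc_g_Cert_tree lc_g_rc_23_3 lc_g_rc_21_3 lc_g_Cert_tree lc_g_rc_21_2 lc_g_rc_21_3 lc_g_Cert_tree lc_g_rc_21_2 lc_g_rc_26_6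 lc_g_rc_26_9 lc_g_Cert_tree lc_g_Cert_tree lc_g_rc_21_2 lc_g_rc_21_3 lc_g_rc_24_1 lc_g_rc_26_6 lc_g_rc_27_9 lc_g_rc_27_9 lc_g_Cert_tree lc_g_rc_21_2 lc_g_rc_26_3 lc_g_rc_27_0 lc_g_rc_21_3 lc_g_Cert_tree lc_g_rc_21_2 lc_g_rc_21_3 lc_g_Cert_tree lc_g_Cert_tree lc_g_rc_21_3 lc_g_Cert_tree lc_g_rc_24_9 lc_g_rc_21_2 lc_g_rc_23_1) (@D3.rec (fun _ => (Cert rels S Gen.g)) lc_g_rc_21_3 lc_g_rc_27_6 lc_g_rc_26_0 lc_g_rc_24_7 lc_g_rc_27_9 lc_g_rc_27_6 lc_g_rc_21_3 lc_g_Cert_tree lc_g_rc_21_2 lc_g_rc_21_2 lc_g_rc_21_3 lc_g_Cert_tree lc_g_rc_21_2 lc_g_rc_23_1 lc_g_Cert_tree lc_g_rc_21_3 lc_g_Cert_tree lc_g_rc_21_2 lc_g_rc_21_2 lc_g_rc_23_1 lc_g_rc_21_3 lc_g_rc_21_2 lc_g_rc_26_6 lc_g_rc_27_6 lc_g_rc_27_0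 lc_g_rc_26_3 lc_g_Cert_tree lc_g_rc_21_3 lc_g_rc_21_2 lc_g_rc_27_6 lc_g_rc_26_9 lc_g_rc_27_0 lc_g_rc_21_3 lc_g_rc_25_19 lc_g_rc_27_6 lc_g_Cert_tree lc_g_rc_21_3 lc_g_rc_21_3 lc_g_rc_21_2 lc_g_Cert_tree lc_g_rc_26_3 lc_g_rc_26_0 lc_g_Cert_tree lc_g_rc_27_6 lc_g_rc_27_9 lc_g_rc_26_0 lc_g_rc_26_0 lc_g_rc_27_3 lc_g_rc_27_3 lc_g_rc_21_2 lc_g_Cert_tree lc_g_rc_21_2 lc_g_rc_24_9 lc_g_rc_23_3 lc_g_rc_26_9 lc_g_rc_21_2 lc_g_rc_26_9 lc_g_rc_21_3 lc_g_Cert_tree lc_g_Cert_tree lc_g_rc_26_9 lc_g_rc_26_3) (@D3.rec (fun _ => (Cert rels S Gen.g)) lc_g_rc_27_6 lc_g_rc_26_6 lc_g_rc_23_7 lc_g_rc_23_7 lc_g_rc_26_0 lc_g_rc_23_3 lc_g_Cert_tree lc_g_rc_21_3 lc_g_rc_27_9 lc_g_rc_23_1 lc_g_rc_21_2 lc_g_rc_21_2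 lc_g_rc_21_2 lc_g_Cert_tree lc_g_rc_27_9 lc_g_rc_27_0 lc_g_rc_21_2 lc_g_rc_26_9 lc_g_rc_24_1 lc_g_rc_21_2 lc_g_rc_27_6 lc_g_rc_26_6 lc_g_rc_24_7 lc_g_rc_21_3 lc_g_rc_27_3 lc_g_Cert_tree lc_g_rc_27_6 lc_g_rc_21_2 lc_g_rc_21_3 lc_g_rc_21_3 lc_g_rc_21_2 lc_g_Cert_tree lc_g_rc_27_6 lc_g_Cert_tree lc_g_Cert_tree lc_g_rc_21_2 lc_g_rc_27_6 lc_g_rc_21_3 lc_g_rc_27_3 lc_g_rc_21_2 lc_g_rc_21_2 lc_g_rc_21_2 lc_g_rc_27_6 lc_g_Cert_tree lc_g_rc_21_2 lc_g_Cert_tree lc_g_Cert_tree lc_g_rc_26_6 lc_g_rc_27_6 lc_g_rc_21_2 lc_g_Cert_tree lc_g_rc_23_3 lc_g_rc_21_2 lc_g_rc_21_2 lc_g_rc_21_2 lc_g_rc_21_2 lc_g_rc_21_2 lc_g_rc_24_9 lc_g_rc_21_2 lc_g_rc_27_6 lc_g_rc_21_3 lc_g_rc_21_2) (@D3.rec (fun _ => (Cert rels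 S Gen.g)) lc_g_Cert_tree lc_g_rc_21_2 lc_g_rc_21_2 lc_g_rc_21_3 lc_g_rc_21_2 lc_g_rc_21_3 lc_g_Cert_tree lc_g_rc_23_3 lc_g_Cert_tree lc_g_rc_21_2 lc_g_rc_27_3 lc_g_Cert_tree lc_g_rc_26_6 lc_g_rc_23_3 lc_g_Cert_tree lc_g_rc_21_2 lc_g_rc_26_3 lc_g_rc_21_3 lc_g_Cert_tree lc_g_rc_21_2 lc_g_rc_24_7 lc_g_rc_24_3 lc_g_rc_21_3 lc_g_rc_26_9 lc_g_rc_21_2 lc_g_Cert_tree lc_g_Cert_tree lc_g_rc_26_9 lc_g_rc_21_3 lc_g_rc_26_0 lc_g_rc_21_2 lc_g_rc_21_3 lc_g_Cert_tree lc_g_rc_21_2 lc_g_rc_23_3 lc_g_rc_21_2 lc_g_Cert_tree lc_g_rc_26_6 lc_g_rc_23_9 lc_g_rc_23_1 lc_g_rc_26_3 lc_g_rc_24_3 lc_g_Cert_tree lc_g_rc_21_3 lc_g_Cert_tree lc_g_Cert_tree lc_g_rc_26_0 lc_g_rc_26_0 lc_g_rc_21_3 lc_g_rc_21_3 lc_g_rc_21_2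 lc_g_rc_26_3 lc_g_rc_27_3 lc_g_rc_27_6 lc_g_rc_21_2 lc_g_rc_21_3 lc_g_Cert_tree lc_g_rc_21_2 lc_g_rc_21_3 lc_g_Cert_tree lc_g_rc_21_2 lc_g_Cert_tree) (@D3.rec (fun _ => (Cert rels S Gen.g)) lc_g_Cert_tree lc_g_rc_26_9 lc_g_rc_21_3 lc_g_rc_27_6 lc_g_rc_26_0 lc_g_rc_26_3 lc_g_rc_26_6 lc_g_rc_26_3 lc_g_rc_21_2 lc_g_rc_21_3 lc_g_Cert_tree lc_g_rc_21_2 lc_g_Cert_tree lc_g_rc_21_3 lc_g_Cert_tree lc_g_rc_21_2 lc_g_rc_24_3 lc_g_rc_26_3 lc_g_rc_27_0 lc_g_rc_27_6 lc_g_rc_21_2 lc_g_Cert_tree lc_g_rc_21_3 lc_g_Cert_tree lc_g_rc_23_3 lc_g_rc_21_2 lc_g_rc_27_6 lc_g_rc_26_6 lc_g_Cert_tree lc_g_rc_24_7 lc_g_rc_23_3 lc_g_rc_26_6 lc_g_rc_21_2 lc_g_rc_21_2 lc_g_Cert_tree lc_g_rc_26_6 lc_g_rc_24_1 lc_g_Cert_tree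 lc_g_rc_24_9 lc_g_rc_21_3 lc_g_Cert_tree lc_g_rc_26_9 lc_g_Cert_tree lc_g_rc_21_3 lc_g_rc_21_2 lc_g_rc_21_2 lc_g_rc_25_15 lc_g_rc_21_3 lc_g_rc_21_3 lc_g_Cert_tree lc_g_rc_26_3 lc_g_rc_23_7 lc_g_Cert_tree lc_g_rc_24_1 lc_g_rc_21_3 lc_g_rc_21_3 lc_g_rc_21_2 lc_g_rc_27_0 lc_g_rc_21_3 lc_g_Cert_tree lc_g_rc_21_2 lc_g_rc_26_0) (@D3.rec (fun _ => (Cert rels S Gen.g)) lc_g_Cert_tree lc_g_rc_23_1 lc_g_rc_23_3 lc_g_rc_21_2 lc_g_rc_21_2 lc_g_rc_26_3 lc_g_rc_27_6 lc_g_rc_21_2 lc_g_Cert_tree lc_g_rc_21_2 lc_g_rc_24_3 lc_g_rc_21_2 lc_g_rc_25_15 lc_g_rc_27_6 lc_g_rc_21_2 lc_g_Cert_tree lc_g_rc_21_3 lc_g_Cert_tree lc_g_Cert_tree lc_g_rc_26_0 lc_g_rc_27_6 lc_g_rc_21_2 lc_g_rc_21_2 lc_g_rc_21_3 lc_g_Cert_tree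 lc_g_rc_21_2 lc_g_rc_27_0 lc_g_rc_26_6 lc_g_rc_21_2 lc_g_rc_23_1 lc_g_rc_23_3 lc_g_rc_21_2 lc_g_rc_27_0 lc_g_rc_21_3 lc_g_Cert_tree lc_g_rc_26_3 lc_g_rc_21_3 lc_g_rc_21_2 lc_g_rc_21_3 lc_g_Cert_tree lc_g_rc_21_2 lc_g_Cert_tree lc_g_rc_24_3 lc_g_rc_23_3 lc_g_rc_21_2 lc_g_rc_27_0 lc_g_rc_21_3 lc_g_Cert_tree lc_g_rc_26_6 lc_g_rc_23_3 lc_g_rc_26_6 lc_g_rc_23_3 lc_g_rc_23_1 lc_g_rc_27_3 lc_g_rc_21_3 lc_g_Cert_tree lc_g_rc_21_2 lc_g_Cert_tree lc_g_Cert_tree lc_g_rc_26_3 lc_g_rc_23_3 lc_g_rc_26_6) (@D3.rec (fun _ => (Cert rels S Gen.g)) lc_g_rc_26_0 lc_g_Cert_tree lc_g_rc_26_9 lc_g_Cert_tree lc_g_Cert_tree lc_g_Cert_tree lc_g_rc_26_9 lc_g_rc_21_2 lc_g_rc_25_3 lc_g_rc_26_9 lc_g_rc_21_3 lc_g_rc_27_6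 lc_g_rc_23_7 lc_g_rc_23_3 lc_g_rc_25_19 lc_g_rc_23_3 lc_g_Cert_tree lc_g_rc_26_6 lc_g_rc_21_3 lc_g_rc_27_6 lc_g_rc_27_0 lc_g_rc_24_3 lc_g_rc_24_9 lc_g_rc_27_6 lc_g_Cert_tree lc_g_rc_26_3 lc_g_rc_26_3 lc_g_rc_21_3 lc_g_Cert_tree lc_g_rc_26_3 lc_g_Cert_tree lc_g_rc_21_2 lc_g_rc_21_3 lc_g_Cert_tree lc_g_rc_21_2 lc_g_rc_21_2 lc_g_rc_26_6 lc_g_rc_21_3 lc_g_rc_21_2 lc_g_Cert_tree lc_g_Cert_tree lc_g_rc_21_3 lc_g_rc_21_2 lc_g_rc_27_6 lc_g_rc_21_3 lc_g_rc_21_3 lc_g_rc_27_0 lc_g_rc_27_6 lc_g_Cert_tree lc_g_Cert_tree lc_g_Cert_tree lc_g_rc_21_2 lc_g_rc_23_3 lc_g_rc_21_3 lc_g_Cert_tree lc_g_rc_21_2 lc_g_Cert_tree lc_g_rc_27_9 lc_g_rc_21_3 lc_g_rc_21_3 lc_g_rc_23_7 lc_g_Cert_tree) (@D3.rec (fun _ =>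 (Cert rels S Gen.g)) lc_g_Cert_tree lc_g_rc_21_2 lc_g_rc_26_6 lc_g_rc_21_2 lc_g_rc_23_3 lc_g_rc_21_3 lc_g_Cert_tree lc_g_rc_21_2 lc_g_rc_26_6 lc_g_rc_26_6 lc_g_rc_21_2 lc_g_rc_27_3 lc_g_rc_27_0 lc_g_rc_21_3 lc_g_rc_26_3 lc_g_rc_26_6 lc_g_rc_26_3 lc_g_rc_21_2 lc_g_rc_27_6 lc_g_rc_21_3 lc_g_Cert_tree lc_g_rc_26_3 lc_g_Cert_tree lc_g_rc_21_3 lc_g_Cert_tree lc_g_Cert_tree lc_g_rc_21_2 lc_g_rc_21_3 lc_g_rc_23_1 lc_g_rc_23_3 lc_g_rc_21_2 lc_g_rc_27_6 lc_g_rc_27_6 lc_g_rc_24_1 lc_g_Cert_tree lc_g_rc_24_7 lc_g_rc_21_2 lc_g_rc_21_2 lc_g_rc_26_9 lc_g_rc_21_3 lc_g_rc_27_6 lc_g_rc_26_6 lc_g_rc_21_3 lc_g_rc_23_7 lc_g_rc_21_2 lc_g_rc_27_6 lc_g_rc_21_3 lc_g_Cert_tree lc_g_rc_27_0 lc_g_Cert_tree lc_g_Cert_tree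 lc_g_rc_21_2 lc_g_rc_21_2 lc_g_rc_23_1 lc_g_Cert_tree lc_g_rc_21_2 lc_g_rc_21_3 lc_g_Cert_tree lc_g_Cert_tree lc_g_rc_21_2 lc_g_rc_26_9 lc_g_rc_21_3) (@D3.rec (fun _ => (Cert rels S Gen.g)) lc_g_rc_21_2 lc_g_rc_23_7 lc_g_rc_26_6 lc_g_rc_21_2 lc_g_rc_27_6 lc_g_rc_21_3 lc_g_Cert_tree lc_g_rc_21_2 lc_g_rc_27_6 lc_g_rc_24_1 lc_g_rc_21_3 lc_g_rc_21_2 lc_g_rc_21_3 lc_g_Cert_tree lc_g_rc_27_6 lc_g_Cert_tree lc_g_Cert_tree lc_g_rc_23_7 lc_g_rc_23_1 lc_g_rc_24_1 lc_g_rc_27_3 lc_g_rc_21_3 lc_g_rc_23_3 lc_g_rc_27_6 lc_g_rc_21_3 lc_g_rc_27_0 lc_g_Cert_tree lc_g_rc_21_2 lc_g_Cert_tree lc_g_rc_25_19 lc_g_rc_23_9 lc_g_rc_27_0 lc_g_rc_27_3 lc_g_Cert_tree lc_g_rc_27_6 lc_g_rc_23_1 lc_g_Cert_tree lc_g_Cert_tree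 lc_g_rc_24_9 lc_g_rc_27_0 lc_g_rc_26_6 lc_g_rc_27_6 lc_g_Cert_tree lc_g_rc_26_6 lc_g_rc_21_2 lc_g_Cert_tree lc_g_rc_26_3 lc_g_rc_21_2 lc_g_Cert_tree lc_g_Cert_tree lc_g_rc_21_3 lc_g_rc_23_1 lc_g_rc_21_3 lc_g_Cert_tree lc_g_rc_27_9 lc_g_rc_26_0 lc_g_rc_27_0 lc_g_rc_21_3 lc_g_rc_27_6 lc_g_rc_27_3 lc_g_rc_26_3 lc_g_rc_27_9) (@D3.rec (fun _ => (Cert rels S Gen.g)) lc_g_rc_27_0 lc_g_rc_26_3 lc_g_rc_23_7 lc_g_rc_21_3 lc_g_Cert_tree lc_g_Cert_tree lc_g_rc_26_0 lc_g_rc_23_3 lc_g_rc_27_0 lc_g_rc_26_3 lc_g_rc_26_6 lc_g_rc_21_3 lc_g_rc_27_9 lc_g_rc_21_3 lc_g_rc_21_3 lc_g_rc_21_2 lc_g_Cert_tree lc_g_rc_24_1 lc_g_rc_26_0 lc_g_rc_23_3 lc_g_rc_24_9 lc_g_rc_27_6 lc_g_rc_26_0 lc_g_rc_23_7 lc_g_rc_23_9 lc_g_rc_21_3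 lc_g_rc_23_3 lc_g_rc_26_3 lc_g_rc_23_1 lc_g_rc_26_3 lc_g_rc_21_2 lc_g_rc_21_3 lc_g_rc_24_1 lc_g_rc_21_3 lc_g_Cert_tree lc_g_rc_21_3 lc_g_rc_21_2 lc_g_rc_21_2 lc_g_rc_21_3 lc_g_rc_27_0 lc_g_rc_23_3 lc_g_Cert_tree lc_g_rc_23_9 lc_g_rc_25_3 lc_g_rc_21_3 lc_g_rc_26_3 lc_g_rc_23_7 lc_g_rc_24_9 lc_g_Cert_tree lc_g_rc_26_3 lc_g_rc_23_3 lc_g_Cert_tree lc_g_rc_23_3 lc_g_rc_26_9 lc_g_rc_24_3 lc_g_rc_21_2 lc_g_Cert_tree lc_g_rc_26_9 lc_g_rc_21_2 lc_g_rc_27_6 lc_g_rc_21_3 lc_g_Cert_tree) (@D3.rec (fun _ => (Cert rels S Gen.g)) lc_g_rc_26_6 lc_g_rc_24_9 lc_g_Cert_tree lc_g_Cert_tree lc_g_rc_21_2 lc_g_rc_27_6 lc_g_rc_27_0 lc_g_rc_23_1 lc_g_rc_21_3 lc_g_rc_27_9 lc_g_rc_21_2 lc_g_rc_26_0 lc_g_Cert_tree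 lc_g_rc_27_3 lc_g_rc_21_3 lc_g_rc_21_3 lc_g_rc_26_3 lc_g_rc_26_3 lc_g_Cert_tree lc_g_rc_26_6 lc_g_rc_23_1 lc_g_Cert_tree lc_g_rc_26_6 lc_g_rc_27_3 lc_g_rc_26_9 lc_g_rc_21_2 lc_g_rc_23_3 lc_g_rc_21_2 lc_g_rc_23_1 lc_g_Cert_tree lc_g_Cert_tree lc_g_rc_26_6 lc_g_rc_21_3 lc_g_rc_21_2 lc_g_rc_21_2 lc_g_rc_26_6 lc_g_rc_24_3 lc_g_rc_27_3 lc_g_Cert_tree lc_g_rc_21_2 lc_g_rc_27_3 lc_g_rc_24_3 lc_g_rc_21_3 lc_g_Cert_tree lc_g_rc_21_2 lc_g_rc_23_1 lc_g_rc_26_6 lc_g_rc_27_6 lc_g_rc_26_9 lc_g_rc_21_3 lc_g_rc_21_2 lc_g_rc_26_6 lc_g_Cert_tree lc_g_rc_24_9 lc_g_rc_21_2 lc_g_Cert_tree lc_g_rc_24_7 lc_g_rc_21_3 lc_g_Cert_tree lc_g_rc_21_2 lc_g_rc_26_6 lc_g_rc_26_6) (@D3.rec (fun _ => (Cert rels S Gen.g))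 lc_g_rc_27_3 lc_g_rc_21_2 lc_g_rc_21_3 lc_g_Cert_tree lc_g_rc_21_2 lc_g_rc_21_3 lc_g_Cert_tree lc_g_Cert_tree lc_g_rc_27_3 lc_g_rc_27_3 lc_g_rc_24_1 lc_g_rc_27_6 lc_g_rc_21_3 lc_g_rc_26_6 lc_g_rc_21_2 lc_g_rc_21_3 lc_g_Cert_tree lc_g_rc_21_2 lc_g_rc_26_0 lc_g_rc_26_6 lc_g_Cert_tree lc_g_rc_26_6 lc_g_Cert_tree lc_g_rc_21_3 lc_g_Cert_tree lc_g_rc_21_2 lc_g_Cert_tree lc_g_rc_21_2 lc_g_Cert_tree lc_g_rc_26_3 lc_g_rc_24_1 lc_g_rc_21_3 lc_g_Cert_tree lc_g_rc_21_2 lc_g_Cert_tree lc_g_rc_21_3 lc_g_Cert_tree lc_g_rc_21_2 lc_g_rc_26_6 lc_g_rc_27_9 lc_g_rc_27_6 lc_g_rc_26_3 lc_g_rc_21_3 lc_g_Cert_tree lc_g_rc_21_2 lc_g_rc_23_7 lc_g_rc_27_0 lc_g_rc_21_3 lc_g_Cert_tree lc_g_rc_26_9 lc_g_Cert_tree lc_g_rc_23_3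 lc_g_rc_21_2 lc_g_rc_26_6 lc_g_rc_24_3 lc_g_rc_26_9 lc_g_Cert_tree lc_g_rc_26_6 lc_g_rc_21_3 lc_g_rc_26_0 lc_g_rc_26_3 lc_g_rc_23_7) (@D3.rec (fun _ => (Cert rels S Gen.g)) lc_g_rc_26_3 lc_g_Cert_tree lc_g_rc_21_3 lc_g_Cert_tree lc_g_Cert_tree lc_g_rc_26_6 lc_g_rc_21_2 lc_g_rc_26_3 lc_g_rc_21_3 lc_g_rc_27_6 lc_g_rc_23_9 lc_g_rc_21_3 lc_g_rc_21_2 lc_g_rc_27_0 lc_g_rc_21_2 lc_g_rc_21_3 lc_g_Cert_tree lc_g_rc_21_2 lc_g_Cert_tree lc_g_rc_27_3 lc_g_rc_21_2 lc_g_rc_27_0 lc_g_rc_21_2 lc_g_rc_21_3 lc_g_Cert_tree lc_g_rc_21_2 lc_g_rc_27_6 lc_g_rc_23_3 lc_g_rc_24_3 lc_g_rc_23_1 lc_g_rc_21_2 lc_g_rc_21_2 lc_g_rc_21_3 lc_g_Cert_tree lc_g_rc_21_2 lc_g_rc_24_1 lc_g_rc_27_0 lc_g_rc_27_0 lc_g_rc_21_3 lc_g_rc_27_6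 lc_g_rc_27_0 lc_g_rc_21_2 lc_g_rc_26_3 lc_g_rc_23_3 lc_g_rc_27_3 lc_g_rc_21_2 lc_g_rc_27_6 lc_g_rc_21_2 lc_g_rc_24_9 lc_g_rc_21_2 lc_g_rc_23_7 lc_g_rc_27_0 lc_g_rc_21_3 lc_g_Cert_tree lc_g_rc_27_3 lc_g_rc_21_3 lc_g_Cert_tree lc_g_rc_23_3 lc_g_rc_27_9 lc_g_rc_24_1 lc_g_rc_26_6 lc_g_Cert_tree) (@D3.rec (fun _ => (Cert rels S Gen.g)) lc_g_rc_23_1 lc_g_rc_26_6 lc_g_rc_26_6 lc_g_rc_27_6 lc_g_rc_21_3 lc_g_Cert_tree lc_g_rc_23_1 lc_g_rc_23_1 lc_g_rc_24_7 lc_g_rc_21_3 lc_g_Cert_tree lc_g_rc_21_2 lc_g_rc_21_3 lc_g_rc_21_2 lc_g_Cert_tree lc_g_rc_21_2 lc_g_rc_23_3 lc_g_Cert_tree lc_g_rc_26_9 lc_g_rc_26_6 lc_g_Cert_tree lc_g_rc_24_1 lc_g_rc_21_3 lc_g_rc_26_9 lc_g_rc_27_9 lc_g_rc_27_0 lc_g_Cert_tree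 lc_g_rc_21_3 lc_g_rc_27_9 lc_g_rc_27_6 lc_g_rc_21_2 lc_g_rc_21_2 lc_g_rc_21_3 lc_g_Cert_tree lc_g_rc_26_6 lc_g_rc_21_2 lc_g_Cert_tree lc_g_rc_21_2 lc_g_rc_25_11 lc_g_Cert_tree lc_g_Cert_tree lc_g_rc_26_6 lc_g_rc_27_6 lc_g_rc_24_3 lc_g_rc_21_3 lc_g_Cert_tree lc_g_rc_21_2 lc_g_Cert_tree lc_g_rc_21_3 lc_g_Cert_tree lc_g_rc_21_2 lc_g_rc_26_6 lc_g_rc_21_3 lc_g_rc_21_3 lc_g_rc_27_6 lc_g_rc_21_3 lc_g_rc_23_7 lc_g_rc_26_3 lc_g_rc_21_2 lc_g_Cert_tree lc_g_rc_21_3 lc_g_Cert_tree) (@D3.rec (fun _ => (Cert rels S Gen.g)) lc_g_Cert_tree lc_g_Cert_tree lc_g_rc_21_3 lc_g_Cert_tree lc_g_rc_26_6 lc_g_rc_21_2 lc_g_rc_21_3 lc_g_Cert_tree lc_g_rc_27_3 lc_g_rc_27_6 lc_g_rc_26_3 lc_g_rc_26_3 lc_g_rc_26_3 lc_g_Cert_tree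 lc_g_Cert_tree lc_g_rc_21_3 lc_g_rc_21_2 lc_g_rc_21_3 lc_g_Cert_tree lc_g_rc_21_2 lc_g_Cert_tree lc_g_rc_23_3 lc_g_rc_26_3 lc_g_rc_26_3 lc_g_Cert_tree lc_g_rc_26_0 lc_g_rc_21_3 lc_g_rc_21_2 lc_g_rc_21_3 lc_g_Cert_tree lc_g_Cert_tree lc_g_rc_21_3 lc_g_Cert_tree lc_g_Cert_tree lc_g_Cert_tree lc_g_rc_27_3 lc_g_rc_21_2 lc_g_rc_21_2 lc_g_rc_27_0 lc_g_rc_25_19 lc_g_rc_21_3 lc_g_rc_26_0 lc_g_rc_26_3 lc_g_rc_23_7 lc_g_rc_21_3 lc_g_Cert_tree lc_g_Cert_tree lc_g_rc_21_2 lc_g_rc_21_3 lc_g_Cert_tree lc_g_rc_26_6 lc_g_rc_26_0 lc_g_rc_23_1 lc_g_rc_21_2 lc_g_Cert_tree lc_g_rc_21_2 lc_g_rc_24_3 lc_g_rc_26_3 lc_g_rc_27_9 lc_g_rc_24_1 lc_g_rc_21_2 lc_g_rc_27_3) (@D3.rec (fun _ => (Cert rels S Gen.g)) lc_g_rc_21_3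 lc_g_Cert_tree lc_g_Cert_tree lc_g_rc_21_3 lc_g_Cert_tree lc_g_rc_26_6 lc_g_Cert_tree lc_g_rc_21_3 lc_g_rc_24_1 lc_g_rc_23_7 lc_g_rc_26_6 lc_g_rc_27_3 lc_g_rc_21_2 lc_g_Cert_tree lc_g_rc_21_3 lc_g_rc_24_1 lc_g_rc_25_19 lc_g_rc_26_6 lc_g_rc_21_3 lc_g_Cert_tree lc_g_rc_21_3 lc_g_rc_21_2 lc_g_rc_21_2 lc_g_rc_21_3 lc_g_Cert_tree lc_g_rc_23_3 lc_g_rc_27_3 lc_g_rc_26_3 lc_g_Cert_tree lc_g_rc_27_6 lc_g_rc_23_3 lc_g_rc_24_3 lc_g_rc_27_6 lc_g_rc_21_3 lc_g_Cert_tree lc_g_rc_24_1 lc_g_rc_21_2 lc_g_Cert_tree lc_g_rc_21_2 lc_g_Cert_tree lc_g_rc_21_2 lc_g_rc_23_3 lc_g_Cert_tree lc_g_Cert_tree lc_g_rc_24_3 lc_g_rc_27_9 lc_g_rc_24_3 lc_g_Cert_tree lc_g_rc_21_2 lc_g_rc_21_2 lc_g_rc_21_3 lc_g_rc_27_6 lc_g_rc_27_6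 lc_g_rc_21_2 lc_g_rc_24_1 lc_g_Cert_tree lc_g_rc_27_6 lc_g_Cert_tree lc_g_rc_23_9 lc_g_rc_21_2 lc_g_rc_26_3 lc_g_Cert_tree) (@D3.rec (fun _ => (Cert rels S Gen.g)) lc_g_rc_24_1 lc_g_rc_27_6 lc_g_Cert_tree lc_g_rc_26_3 lc_g_rc_27_0 lc_g_rc_26_3 lc_g_rc_27_6 lc_g_rc_21_3 lc_g_rc_21_2 lc_g_rc_23_3 lc_g_rc_21_3 lc_g_Cert_tree lc_g_rc_27_3 lc_g_rc_21_2 lc_g_rc_21_2 lc_g_rc_24_1 lc_g_rc_23_7 lc_g_Cert_tree lc_g_rc_24_7 lc_g_rc_21_2 lc_g_rc_27_6 lc_g_rc_21_2 lc_g_rc_21_2 lc_g_rc_23_9 lc_g_rc_26_9 lc_g_rc_23_3 lc_g_rc_24_7 lc_g_rc_27_3 lc_g_Cert_tree lc_g_rc_27_3 lc_g_rc_26_3 lc_g_rc_24_1 lc_g_Cert_tree lc_g_rc_27_6 lc_g_rc_21_3 lc_g_rc_25_11 lc_g_rc_25_3 lc_g_rc_27_6 lc_g_Cert_tree lc_g_Cert_tree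 lc_g_rc_21_2 lc_g_rc_26_3 lc_g_rc_27_3 lc_g_rc_26_0 lc_g_rc_26_9 lc_g_rc_21_2 lc_g_rc_27_3 lc_g_rc_21_3 lc_g_Cert_tree lc_g_rc_27_6 lc_g_rc_24_1 lc_g_rc_26_6 lc_g_rc_24_1 lc_g_rc_24_1 lc_g_Cert_tree lc_g_Cert_tree lc_g_Cert_tree lc_g_rc_21_3 lc_g_rc_21_3 lc_g_rc_24_3 lc_g_rc_21_2 lc_g_Cert_tree) (@D3.rec (fun _ => (Cert rels S Gen.g)) lc_g_rc_21_3 lc_g_rc_23_3 lc_g_rc_21_2 lc_g_rc_21_2 lc_g_rc_21_3 lc_g_rc_25_19 lc_g_rc_26_6 lc_g_rc_23_3 lc_g_rc_27_0 lc_g_rc_24_3 lc_g_rc_26_3 lc_g_rc_21_3 lc_g_Cert_tree lc_g_rc_27_6 lc_g_rc_21_2 lc_g_rc_21_3 lc_g_rc_21_3 lc_g_rc_21_2 lc_g_rc_21_3 lc_g_Cert_tree lc_g_rc_26_6 lc_g_Cert_tree lc_g_rc_27_3 lc_g_rc_21_2 lc_g_rc_26_9 lc_g_Cert_tree lc_g_rc_21_2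 lc_g_rc_24_3 lc_g_Cert_tree lc_g_Cert_tree lc_g_Cert_tree lc_g_rc_26_0 lc_g_rc_23_7 lc_g_rc_21_3 lc_g_rc_21_2 lc_g_rc_23_3 lc_g_Cert_tree lc_g_rc_27_9 lc_g_rc_27_0 lc_g_Cert_tree lc_g_rc_27_3 lc_g_rc_21_2 lc_g_rc_26_3 lc_g_Cert_tree lc_g_rc_23_7 lc_g_rc_26_6 lc_g_rc_21_3 lc_g_rc_21_2 lc_g_rc_27_6 lc_g_rc_21_3 lc_g_Cert_tree lc_g_rc_24_3 lc_g_rc_26_9 lc_g_rc_21_2 lc_g_rc_23_1 lc_g_rc_26_9 lc_g_rc_27_3 lc_g_rc_21_3 lc_g_rc_24_3 lc_g_rc_26_3 lc_g_rc_24_1 lc_g_rc_27_9) (@D3.rec (fun _ => (Cert rels S Gen.g)) lc_g_Cert_tree lc_g_rc_27_3 lc_g_rc_21_2 lc_g_rc_21_3 lc_g_rc_27_3 lc_g_Cert_tree lc_g_rc_27_6 lc_g_rc_21_3 lc_g_rc_21_3 lc_g_Cert_tree lc_g_rc_21_2 lc_g_Cert_tree lc_g_rc_27_9 lc_g_rc_27_0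 lc_g_Cert_tree lc_g_rc_23_3 lc_g_rc_21_3 lc_g_rc_27_9 lc_g_rc_27_6 lc_g_rc_21_2 lc_g_Cert_tree lc_g_rc_23_3 lc_g_rc_21_2 lc_g_rc_24_3 lc_g_rc_27_0 lc_g_rc_27_6 lc_g_rc_23_1 lc_g_rc_25_19 lc_g_rc_21_3 lc_g_rc_27_6 lc_g_rc_27_3 lc_g_rc_21_3 lc_g_rc_26_3 lc_g_rc_26_6 lc_g_rc_23_1 lc_g_rc_21_3 lc_g_rc_21_2 lc_g_Cert_tree lc_g_rc_26_0 lc_g_Cert_tree lc_g_rc_26_0 lc_g_Cert_tree lc_g_rc_27_3 lc_g_rc_21_2 lc_g_rc_21_3 lc_g_Cert_tree lc_g_Cert_tree lc_g_rc_21_2 lc_g_rc_25_3 lc_g_rc_24_3 lc_g_rc_24_3 lc_g_Cert_tree lc_g_rc_24_7 lc_g_rc_21_2 lc_g_rc_24_7 lc_g_Cert_tree lc_g_rc_23_3 lc_g_rc_27_0 lc_g_rc_21_2 lc_g_rc_21_3 lc_g_rc_26_9 lc_g_rc_27_6) (@D3.rec (fun _ => (Cert rels S Gen.g)) lc_g_rc_24_9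 lc_g_rc_26_9 lc_g_rc_23_7 lc_g_Cert_tree lc_g_Cert_tree lc_g_rc_26_6 lc_g_rc_26_6 lc_g_rc_24_3 lc_g_Cert_tree lc_g_Cert_tree lc_g_rc_23_1 lc_g_rc_21_3 lc_g_Cert_tree lc_g_Cert_tree lc_g_rc_21_2 lc_g_rc_27_3 lc_g_rc_23_3 lc_g_rc_27_3 lc_g_rc_27_3 lc_g_Cert_tree lc_g_rc_21_3 lc_g_rc_21_2 lc_g_rc_21_2 lc_g_rc_23_7 lc_g_rc_24_3 lc_g_rc_27_6 lc_g_rc_24_1 lc_g_Cert_tree lc_g_Cert_tree lc_g_Cert_tree lc_g_rc_21_2 lc_g_rc_21_3 lc_g_rc_23_1 lc_g_rc_24_9 lc_g_rc_26_9 lc_g_rc_24_3 lc_g_Cert_tree lc_g_rc_21_3 lc_g_Cert_tree lc_g_rc_21_2 lc_g_Cert_tree lc_g_rc_21_3 lc_g_rc_21_2 lc_g_rc_24_3 lc_g_rc_21_3 lc_g_rc_27_9 lc_g_rc_26_9 lc_g_rc_21_2 lc_g_rc_26_6 lc_g_rc_27_3 lc_g_Cert_tree lc_g_rc_27_6 lc_g_rc_26_0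 lc_g_Cert_tree lc_g_rc_21_3 lc_g_Cert_tree lc_g_rc_21_3 lc_g_rc_25_3 lc_g_Cert_tree lc_g_rc_27_3 lc_g_rc_26_3 lc_g_rc_21_3)
def ce_g_19 : D2 → D3 → (Cert rels S Gen.g) := @D2.rec (fun _ => D3 → (Cert rels S Gen.g)) (@D3.rec (fun _ => (Cert rels S Gen.g)) lc_g_Cert_tree lc_g_rc_24_3 lc_g_rc_23_3 lc_g_rc_26_9 lc_g_rc_27_0 lc_g_rc_21_3 lc_g_rc_27_3 lc_g_rc_21_2 lc_g_rc_21_3 lc_g_rc_21_3 lc_g_rc_24_3 lc_g_Cert_tree lc_g_Cert_tree lc_g_rc_21_2 lc_g_rc_21_2 lc_g_rc_27_0 lc_g_rc_21_3 lc_g_Cert_tree lc_g_rc_27_0 lc_g_rc_21_2 lc_g_rc_26_0 lc_g_rc_27_3 lc_g_Cert_tree lc_g_rc_27_3 lc_g_rc_21_2 lc_g_rc_21_3 lc_g_Cert_tree lc_g_Cert_tree lc_g_rc_27_6 lc_g_rc_21_3 lc_g_rc_26_6 lc_g_rc_21_2 lc_g_rc_27_3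 lc_g_rc_27_3 lc_g_rc_24_7 lc_g_rc_27_9 lc_g_rc_21_3 lc_g_rc_26_9 lc_g_rc_21_3 lc_g_rc_26_6 lc_g_rc_26_9 lc_g_rc_24_1 lc_g_rc_26_3 lc_g_rc_26_0 lc_g_Cert_tree lc_g_rc_21_3 lc_g_Cert_tree lc_g_rc_21_2 lc_g_rc_24_7 lc_g_rc_26_6 lc_g_rc_23_1 lc_g_rc_23_3 lc_g_rc_21_2 lc_g_Cert_tree lc_g_rc_21_2 lc_g_rc_24_3 lc_g_rc_23_3 lc_g_Cert_tree lc_g_Cert_tree lc_g_rc_23_7 lc_g_rc_21_3 lc_g_Cert_tree) (@D3.rec (fun _ => (Cert rels S Gen.g)) lc_g_rc_24_1 lc_g_rc_21_2 lc_g_rc_26_0 lc_g_rc_27_3 lc_g_rc_23_9 lc_g_rc_23_1 lc_g_rc_27_6 lc_g_rc_21_3 lc_g_Cert_tree lc_g_rc_26_0 lc_g_rc_21_2 lc_g_rc_27_6 lc_g_rc_26_9 lc_g_Cert_tree lc_g_rc_21_2 lc_g_rc_23_1 lc_g_rc_26_6 lc_g_rc_21_3 lc_g_rc_21_3 lc_g_Cert_tree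 lc_g_Cert_tree lc_g_rc_26_6 lc_g_rc_21_3 lc_g_Cert_tree lc_g_rc_27_0 lc_g_rc_21_2 lc_g_Cert_tree lc_g_rc_23_7 lc_g_rc_27_0 lc_g_rc_27_3 lc_g_rc_21_2 lc_g_rc_26_6 lc_g_rc_27_9 lc_g_rc_23_3 lc_g_rc_27_3 lc_g_Cert_tree lc_g_rc_27_0 lc_g_Cert_tree lc_g_Cert_tree lc_g_rc_21_2 lc_g_Cert_tree lc_g_rc_24_3 lc_g_rc_21_2 lc_g_rc_26_0 lc_g_rc_27_0 lc_g_Cert_tree lc_g_Cert_tree lc_g_rc_21_3 lc_g_rc_21_3 lc_g_rc_27_3 lc_g_rc_21_2 lc_g_rc_26_3 lc_g_rc_21_2 lc_g_rc_26_3 lc_g_rc_26_9 lc_g_rc_26_3 lc_g_rc_27_0 lc_g_rc_21_2 lc_g_rc_21_3 lc_g_rc_26_6 lc_g_Cert_tree lc_g_rc_21_2) (@D3.rec (fun _ => (Cert rels S Gen.g)) lc_g_rc_21_3 lc_g_rc_24_3 lc_g_rc_27_9 lc_g_Cert_tree lc_g_rc_21_2 lc_g_rc_27_6 lc_g_rc_23_1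 lc_g_rc_27_3 lc_g_rc_24_7 lc_g_rc_26_9 lc_g_rc_27_0 lc_g_Cert_tree lc_g_rc_27_3 lc_g_rc_21_2 lc_g_rc_21_2 lc_g_rc_21_3 lc_g_rc_21_3 lc_g_Cert_tree lc_g_rc_21_2 lc_g_Cert_tree lc_g_Cert_tree lc_g_rc_21_2 lc_g_rc_21_3 lc_g_Cert_tree lc_g_Cert_tree lc_g_rc_21_2 lc_g_rc_26_3 lc_g_rc_21_3 lc_g_rc_26_9 lc_g_rc_27_6 lc_g_Cert_tree lc_g_rc_21_2 lc_g_rc_23_1 lc_g_rc_26_3 lc_g_rc_21_2 lc_g_rc_27_9 lc_g_rc_21_3 lc_g_Cert_tree lc_g_rc_21_2 lc_g_rc_27_0 lc_g_rc_27_0 lc_g_Cert_tree lc_g_rc_21_3 lc_g_Cert_tree lc_g_rc_27_3 lc_g_rc_21_2 lc_g_rc_23_9 lc_g_rc_21_3 lc_g_Cert_tree lc_g_rc_21_2 lc_g_Cert_tree lc_g_rc_27_6 lc_g_Cert_tree lc_g_rc_27_3 lc_g_rc_21_2 lc_g_rc_21_3 lc_g_Cert_tree lc_g_rc_21_2 lc_g_Cert_tree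 lc_g_Cert_tree lc_g_rc_27_6 lc_g_rc_21_2) (@D3.rec (fun _ => (Cert rels S Gen.g)) lc_g_rc_21_2 lc_g_rc_21_2 lc_g_rc_26_3 lc_g_rc_25_19 lc_g_rc_26_6 lc_g_rc_27_6 lc_g_rc_21_2 lc_g_rc_21_3 lc_g_rc_21_2 lc_g_rc_27_0 lc_g_rc_21_2 lc_g_rc_21_3 lc_g_Cert_tree lc_g_rc_21_2 lc_g_rc_27_6 lc_g_rc_21_3 lc_g_rc_21_2 lc_g_rc_26_0 lc_g_rc_21_3 lc_g_Cert_tree lc_g_rc_21_2 lc_g_rc_26_0 lc_g_Cert_tree lc_g_rc_21_2 lc_g_rc_21_3 lc_g_Cert_tree lc_g_rc_21_2 lc_g_rc_21_3 lc_g_Cert_tree lc_g_rc_21_2 lc_g_Cert_tree lc_g_rc_21_3 lc_g_rc_21_2 lc_g_rc_21_3 lc_g_Cert_tree lc_g_rc_21_2 lc_g_Cert_tree lc_g_rc_27_3 lc_g_rc_24_7 lc_g_rc_26_9 lc_g_rc_26_0 lc_g_rc_21_2 lc_g_rc_21_3 lc_g_Cert_tree lc_g_rc_24_7 lc_g_rc_27_6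 lc_g_rc_21_2 lc_g_rc_23_3 lc_g_Cert_tree lc_g_Cert_tree lc_g_rc_21_3 lc_g_rc_27_9 lc_g_rc_27_6 lc_g_rc_23_3 lc_g_rc_21_3 lc_g_Cert_tree lc_g_Cert_tree lc_g_rc_21_2 lc_g_rc_24_7 lc_g_rc_21_3 lc_g_Cert_tree lc_g_rc_21_2) (@D3.rec (fun _ => (Cert rels S Gen.g)) lc_g_rc_27_3 lc_g_rc_26_0 lc_g_rc_21_3 lc_g_rc_27_6 lc_g_rc_21_3 lc_g_Cert_tree lc_g_Cert_tree lc_g_rc_21_3 lc_g_Cert_tree lc_g_rc_21_3 lc_g_rc_21_3 lc_g_Cert_tree lc_g_Cert_tree lc_g_rc_21_2 lc_g_Cert_tree lc_g_rc_23_7 lc_g_rc_27_3 lc_g_rc_23_3 lc_g_Cert_tree lc_g_Cert_tree lc_g_rc_21_2 lc_g_rc_26_6 lc_g_rc_27_9 lc_g_Cert_tree lc_g_rc_21_2 lc_g_Cert_tree lc_g_rc_23_3 lc_g_rc_21_2 lc_g_rc_27_9 lc_g_rc_21_2 lc_g_rc_21_2 lc_g_rc_27_0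 lc_g_rc_27_0 lc_g_rc_27_9 lc_g_rc_21_2 lc_g_rc_24_7 lc_g_rc_27_0 lc_g_rc_21_3 lc_g_rc_26_6 lc_g_rc_21_2 lc_g_rc_27_3 lc_g_rc_21_2 lc_g_rc_23_3 lc_g_rc_24_9 lc_g_rc_26_6 lc_g_rc_21_3 lc_g_rc_24_7 lc_g_rc_23_1 lc_g_rc_24_1 lc_g_rc_26_6 lc_g_rc_21_3 lc_g_rc_27_9 lc_g_rc_21_2 lc_g_rc_27_9 lc_g_rc_21_3 lc_g_Cert_tree lc_g_rc_26_6 lc_g_rc_23_1 lc_g_Cert_tree lc_g_rc_26_9 lc_g_rc_23_1 lc_g_rc_21_2) (@D3.rec (fun _ => (Cert rels S Gen.g)) lc_g_Cert_tree lc_g_Cert_tree lc_g_rc_25_7 lc_g_rc_27_0 lc_g_rc_25_3 lc_g_rc_27_9 lc_g_rc_21_3 lc_g_rc_24_3 lc_g_rc_26_0 lc_g_rc_23_1 lc_g_rc_23_1 lc_g_rc_26_6 lc_g_rc_26_0 lc_g_rc_21_3 lc_g_rc_24_1 lc_g_rc_26_6 lc_g_rc_21_3 lc_g_rc_27_6 lc_g_Cert_tree lc_g_rc_21_2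 lc_g_rc_24_1 lc_g_rc_27_6 lc_g_rc_21_3 lc_g_rc_27_6 lc_g_rc_21_2 lc_g_rc_26_6 lc_g_rc_26_6 lc_g_rc_27_9 lc_g_rc_23_3 lc_g_rc_24_9 lc_g_rc_23_3 lc_g_rc_26_3 lc_g_Cert_tree lc_g_rc_27_9 lc_g_rc_27_6 lc_g_rc_21_3 lc_g_rc_24_3 lc_g_rc_23_1 lc_g_Cert_tree lc_g_rc_23_3 lc_g_Cert_tree lc_g_rc_27_3 lc_g_Cert_tree lc_g_rc_21_2 lc_g_rc_26_6 lc_g_rc_27_3 lc_g_rc_27_0 lc_g_rc_26_9 lc_g_rc_27_9 lc_g_rc_25_11 lc_g_rc_27_3 lc_g_rc_21_3 lc_g_rc_27_6 lc_g_rc_21_2 lc_g_rc_21_3 lc_g_Cert_tree lc_g_rc_21_2 lc_g_Cert_tree lc_g_Cert_tree lc_g_rc_27_6 lc_g_rc_27_3 lc_g_rc_26_9) (@D3.rec (fun _ => (Cert rels S Gen.g)) lc_g_rc_24_7 lc_g_Cert_tree lc_g_rc_27_0 lc_g_rc_21_3 lc_g_rc_23_3 lc_g_Cert_tree lc_g_rc_24_9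 lc_g_Cert_tree lc_g_Cert_tree lc_g_Cert_tree lc_g_rc_26_3 lc_g_rc_21_3 lc_g_rc_21_2 lc_g_Cert_tree lc_g_rc_25_3 lc_g_rc_24_7 lc_g_rc_21_3 lc_g_Cert_tree lc_g_rc_21_2 lc_g_rc_26_6 lc_g_rc_27_0 lc_g_rc_26_6 lc_g_rc_23_3 lc_g_rc_21_2 lc_g_rc_27_0 lc_g_rc_27_6 lc_g_rc_27_3 lc_g_rc_21_2 lc_g_rc_24_1 lc_g_rc_27_0 lc_g_rc_26_0 lc_g_rc_23_1 lc_g_rc_23_7 lc_g_rc_25_15 lc_g_rc_26_9 lc_g_rc_26_9 lc_g_rc_23_7 lc_g_rc_24_9 lc_g_rc_21_2 lc_g_rc_21_3 lc_g_Cert_tree lc_g_Cert_tree lc_g_rc_21_3 lc_g_Cert_tree lc_g_rc_21_2 lc_g_rc_23_7 lc_g_Cert_tree lc_g_Cert_tree lc_g_rc_27_0 lc_g_rc_23_3 lc_g_Cert_tree lc_g_rc_26_3 lc_g_rc_21_2 lc_g_rc_27_3 lc_g_rc_27_6 lc_g_rc_21_3 lc_g_rc_24_7 lc_g_rc_21_3 lc_g_rc_27_6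 lc_g_rc_26_0 lc_g_rc_25_11 lc_g_rc_23_9) (@D3.rec (fun _ => (Cert rels S Gen.g)) lc_g_rc_27_6 lc_g_Cert_tree lc_g_rc_21_3 lc_g_Cert_tree lc_g_rc_21_2 lc_g_rc_26_6 lc_g_Cert_tree lc_g_rc_26_6 lc_g_rc_26_9 lc_g_rc_21_3 lc_g_rc_27_6 lc_g_rc_27_3 lc_g_rc_21_3 lc_g_rc_21_3 lc_g_rc_24_7 lc_g_Cert_tree lc_g_rc_26_6 lc_g_rc_26_0 lc_g_rc_26_9 lc_g_rc_24_9 lc_g_Cert_tree lc_g_rc_21_3 lc_g_rc_27_0 lc_g_rc_24_3 lc_g_rc_21_2 lc_g_rc_27_3 lc_g_rc_21_3 lc_g_Cert_tree lc_g_Cert_tree lc_g_rc_21_2 lc_g_rc_26_6 lc_g_rc_23_7 lc_g_rc_27_3 lc_g_Cert_tree lc_g_Cert_tree lc_g_rc_24_3 lc_g_rc_27_9 lc_g_rc_21_3 lc_g_rc_21_2 lc_g_rc_25_11 lc_g_Cert_tree lc_g_rc_27_3 lc_g_rc_21_2 lc_g_rc_27_9 lc_g_rc_27_6 lc_g_rc_21_3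 lc_g_Cert_tree lc_g_rc_21_2 lc_g_rc_27_3 lc_g_rc_21_3 lc_g_Cert_tree lc_g_rc_26_9 lc_g_rc_21_3 lc_g_rc_27_0 lc_g_Cert_tree lc_g_rc_23_9 lc_g_rc_27_6 lc_g_rc_21_3 lc_g_Cert_tree lc_g_rc_27_9 lc_g_Cert_tree lc_g_rc_21_3) (@D3.rec (fun _ => (Cert rels S Gen.g)) lc_g_Cert_tree lc_g_rc_26_0 lc_g_rc_26_0 lc_g_rc_26_6 lc_g_rc_27_6 lc_g_rc_26_3 lc_g_rc_23_3 lc_g_rc_27_0 lc_g_Cert_tree lc_g_rc_26_3 lc_g_rc_21_2 lc_g_Cert_tree lc_g_rc_27_6 lc_g_rc_26_6 lc_g_rc_23_7 lc_g_rc_24_3 lc_g_Cert_tree lc_g_rc_24_7 lc_g_rc_21_2 lc_g_rc_23_7 lc_g_rc_23_9 lc_g_rc_21_3 lc_g_rc_23_7 lc_g_rc_26_3 lc_g_rc_26_9 lc_g_Cert_tree lc_g_rc_21_3 lc_g_rc_25_11 lc_g_Cert_tree lc_g_rc_21_3 lc_g_Cert_tree lc_g_Cert_tree lc_g_rc_21_3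 lc_g_Cert_tree lc_g_rc_21_3 lc_g_rc_27_9 lc_g_Cert_tree lc_g_Cert_tree lc_g_rc_21_2 lc_g_rc_26_6 lc_g_rc_27_0 lc_g_rc_23_1 lc_g_rc_24_7 lc_g_rc_21_2 lc_g_rc_23_7 lc_g_rc_23_9 lc_g_rc_27_0 lc_g_rc_27_9 lc_g_Cert_tree lc_g_Cert_tree lc_g_rc_21_3 lc_g_rc_21_3 lc_g_rc_21_2 lc_g_Cert_tree lc_g_rc_21_2 lc_g_rc_27_6 lc_g_rc_21_3 lc_g_Cert_tree lc_g_rc_26_3 lc_g_rc_27_6 lc_g_Cert_tree lc_g_Cert_tree) (@D3.rec (fun _ => (Cert rels S Gen.g)) lc_g_rc_27_0 lc_g_rc_21_3 lc_g_Cert_tree lc_g_rc_21_3 lc_g_rc_21_2 lc_g_Cert_tree lc_g_rc_24_7 lc_g_rc_21_2 lc_g_rc_26_9 lc_g_rc_24_9 lc_g_rc_21_3 lc_g_rc_21_3 lc_g_rc_26_6 lc_g_rc_27_0 lc_g_rc_21_2 lc_g_Cert_tree lc_g_rc_21_3 lc_g_Cert_tree lc_g_Cert_tree lc_g_rc_23_1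 lc_g_rc_21_3 lc_g_Cert_tree lc_g_Cert_tree lc_g_rc_26_6 lc_g_rc_21_3 lc_g_Cert_tree lc_g_Cert_tree lc_g_rc_26_3 lc_g_rc_21_2 lc_g_rc_23_7 lc_g_rc_21_2 lc_g_rc_21_2 lc_g_Cert_tree lc_g_Cert_tree lc_g_rc_26_3 lc_g_Cert_tree lc_g_rc_24_1 lc_g_rc_21_3 lc_g_rc_27_3 lc_g_Cert_tree lc_g_rc_25_15 lc_g_rc_23_7 lc_g_rc_21_3 lc_g_rc_24_1 lc_g_rc_21_3 lc_g_rc_21_3 lc_g_rc_26_6 lc_g_Cert_tree lc_g_rc_21_3 lc_g_Cert_tree lc_g_rc_21_2 lc_g_Cert_tree lc_g_rc_27_0 lc_g_rc_21_3 lc_g_rc_26_6 lc_g_rc_26_9 lc_g_rc_23_1 lc_g_Cert_tree lc_g_rc_21_3 lc_g_Cert_tree lc_g_rc_27_9 lc_g_rc_21_2) (@D3.rec (fun _ => (Cert rels S Gen.g)) lc_g_rc_21_2 lc_g_rc_24_7 lc_g_rc_21_3 lc_g_Cert_tree lc_g_rc_21_3 lc_g_Cert_tree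 lc_g_rc_27_6 lc_g_rc_26_6 lc_g_rc_21_2 lc_g_Cert_tree lc_g_Cert_tree lc_g_rc_27_6 lc_g_Cert_tree lc_g_Cert_tree lc_g_rc_21_2 lc_g_rc_21_2 lc_g_rc_21_3 lc_g_Cert_tree lc_g_Cert_tree lc_g_rc_27_6 lc_g_rc_26_9 lc_g_rc_27_3 lc_g_rc_24_1 lc_g_rc_27_3 lc_g_rc_24_7 lc_g_rc_27_9 lc_g_Cert_tree lc_g_rc_21_3 lc_g_Cert_tree lc_g_rc_27_3 lc_g_rc_27_9 lc_g_rc_21_3 lc_g_Cert_tree lc_g_rc_26_0 lc_g_Cert_tree lc_g_rc_21_2 lc_g_rc_27_3 lc_g_rc_21_3 lc_g_rc_21_3 lc_g_Cert_tree lc_g_rc_27_0 lc_g_rc_21_3 lc_g_Cert_tree lc_g_rc_24_3 lc_g_rc_23_3 lc_g_rc_27_0 lc_g_rc_27_0 lc_g_Cert_tree lc_g_rc_24_7 lc_g_rc_26_3 lc_g_Cert_tree lc_g_rc_21_2 lc_g_rc_23_3 lc_g_rc_21_2 lc_g_rc_27_0 lc_g_rc_21_3 lc_g_Cert_tree lc_g_rc_21_2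 lc_g_Cert_tree lc_g_rc_26_3 lc_g_rc_26_3 lc_g_rc_23_1) (@D3.rec (fun _ => (Cert rels S Gen.g)) lc_g_rc_23_7 lc_g_rc_21_2 lc_g_rc_21_3 lc_g_rc_23_7 lc_g_Cert_tree lc_g_rc_26_6 lc_g_rc_23_3 lc_g_rc_21_3 lc_g_rc_23_3 lc_g_rc_24_7 lc_g_rc_27_0 lc_g_Cert_tree lc_g_rc_21_3 lc_g_rc_27_0 lc_g_Cert_tree lc_g_rc_21_3 lc_g_Cert_tree lc_g_rc_26_9 lc_g_Cert_tree lc_g_rc_21_3 lc_g_rc_26_9 lc_g_rc_27_0 lc_g_rc_26_0 lc_g_rc_21_3 lc_g_rc_27_0 lc_g_rc_27_3 lc_g_Cert_tree lc_g_rc_27_0 lc_g_Cert_tree lc_g_rc_23_7 lc_g_rc_21_2 lc_g_rc_23_7 lc_g_rc_21_3 lc_g_Cert_tree lc_g_rc_21_2 lc_g_rc_23_7 lc_g_rc_25_11 lc_g_rc_23_7 lc_g_rc_21_3 lc_g_rc_27_6 lc_g_rc_24_3 lc_g_rc_21_2 lc_g_rc_21_3 lc_g_Cert_tree lc_g_Cert_tree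 lc_g_rc_27_6 lc_g_Cert_tree lc_g_rc_27_3 lc_g_rc_21_2 lc_g_Cert_tree lc_g_rc_23_7 lc_g_rc_27_6 lc_g_rc_23_7 lc_g_rc_21_3 lc_g_Cert_tree lc_g_Cert_tree lc_g_rc_26_0 lc_g_rc_26_6 lc_g_rc_23_7 lc_g_rc_21_3 lc_g_rc_21_2 lc_g_rc_24_9) (@D3.rec (fun _ => (Cert rels S Gen.g)) lc_g_rc_23_7 lc_g_rc_27_6 lc_g_rc_27_3 lc_g_Cert_tree lc_g_rc_26_3 lc_g_rc_21_3 lc_g_Cert_tree lc_g_Cert_tree lc_g_rc_21_2 lc_g_rc_27_6 lc_g_rc_21_2 lc_g_rc_24_7 lc_g_rc_21_2 lc_g_rc_26_0 lc_g_rc_21_3 lc_g_rc_21_3 lc_g_rc_26_9 lc_g_rc_23_7 lc_g_rc_26_3 lc_g_rc_21_3 lc_g_rc_27_6 lc_g_Cert_tree lc_g_rc_21_3 lc_g_Cert_tree lc_g_rc_21_3 lc_g_Cert_tree lc_g_Cert_tree lc_g_rc_21_3 lc_g_Cert_tree lc_g_rc_27_6 lc_g_rc_21_2 lc_g_rc_23_3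 lc_g_Cert_tree lc_g_rc_24_3 lc_g_Cert_tree lc_g_rc_21_2 lc_g_rc_26_3 lc_g_Cert_tree lc_g_Cert_tree lc_g_Cert_tree lc_g_rc_21_2 lc_g_rc_21_2 lc_g_Cert_tree lc_g_rc_27_3 lc_g_rc_21_3 lc_g_rc_26_0 lc_g_rc_26_0 lc_g_rc_21_3 lc_g_rc_21_2 lc_g_rc_21_3 lc_g_rc_21_2 lc_g_rc_27_3 lc_g_Cert_tree lc_g_Cert_tree lc_g_rc_21_3 lc_g_rc_27_6 lc_g_rc_21_3 lc_g_Cert_tree lc_g_rc_21_2 lc_g_rc_21_3 lc_g_rc_26_9 lc_g_rc_27_9) (@D3.rec (fun _ => (Cert rels S Gen.g)) lc_g_rc_26_0 lc_g_rc_21_3 lc_g_rc_27_9 lc_g_rc_26_3 lc_g_Cert_tree lc_g_rc_21_2 lc_g_rc_21_2 lc_g_rc_21_2 lc_g_rc_27_3 lc_g_rc_27_0 lc_g_rc_23_3 lc_g_rc_21_2 lc_g_rc_21_2 lc_g_Cert_tree lc_g_rc_23_3 lc_g_Cert_tree lc_g_rc_27_6 lc_g_rc_24_1 lc_g_rc_21_3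 lc_g_Cert_tree lc_g_rc_23_7 lc_g_rc_27_3 lc_g_rc_21_3 lc_g_rc_26_0 lc_g_rc_27_6 lc_g_Cert_tree lc_g_rc_24_7 lc_g_rc_24_3 lc_g_rc_26_0 lc_g_rc_23_7 lc_g_rc_26_0 lc_g_rc_27_0 lc_g_rc_24_7 lc_g_rc_23_3 lc_g_rc_25_11 lc_g_Cert_tree lc_g_rc_27_6 lc_g_rc_26_6 lc_g_rc_24_7 lc_g_rc_21_3 lc_g_Cert_tree lc_g_Cert_tree lc_g_rc_24_7 lc_g_rc_21_2 lc_g_Cert_tree lc_g_Cert_tree lc_g_rc_23_7 lc_g_rc_26_3 lc_g_rc_27_6 lc_g_Cert_tree lc_g_rc_21_3 lc_g_rc_21_2 lc_g_rc_27_3 lc_g_rc_21_2 lc_g_rc_21_3 lc_g_rc_24_1 lc_g_Cert_tree lc_g_rc_23_9 lc_g_rc_24_7 lc_g_rc_23_3 lc_g_rc_21_3 lc_g_rc_26_3) (@D3.rec (fun _ => (Cert rels S Gen.g)) lc_g_rc_26_3 lc_g_Cert_tree lc_g_Cert_tree lc_g_rc_21_3 lc_g_Cert_tree lc_g_rc_26_6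 lc_g_rc_21_3 lc_g_Cert_tree lc_g_rc_21_2 lc_g_rc_25_19 lc_g_rc_21_2 lc_g_rc_25_19 lc_g_Cert_tree lc_g_rc_21_2 lc_g_rc_21_2 lc_g_rc_26_6 lc_g_rc_25_19 lc_g_rc_21_2 lc_g_rc_26_0 lc_g_rc_26_3 lc_g_rc_21_3 lc_g_Cert_tree lc_g_rc_26_0 lc_g_Cert_tree lc_g_rc_21_3 lc_g_Cert_tree lc_g_rc_21_2 lc_g_Cert_tree lc_g_rc_26_9 lc_g_rc_26_3 lc_g_Cert_tree lc_g_rc_26_6 lc_g_rc_24_1 lc_g_rc_21_2 lc_g_rc_21_2 lc_g_rc_23_7 lc_g_rc_27_6 lc_g_rc_23_1 lc_g_rc_27_3 lc_g_rc_21_3 lc_g_Cert_tree lc_g_Cert_tree lc_g_rc_21_2 lc_g_rc_21_3 lc_g_Cert_tree lc_g_Cert_tree lc_g_rc_27_6 lc_g_rc_24_1 lc_g_Cert_tree lc_g_rc_23_9 lc_g_rc_21_2 lc_g_rc_25_3 lc_g_rc_23_7 lc_g_rc_21_3 lc_g_Cert_tree lc_g_rc_24_7 lc_g_rc_21_2 lc_g_rc_27_6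 lc_g_rc_26_3 lc_g_rc_23_7 lc_g_rc_23_1 lc_g_rc_26_3) (@D3.rec (fun _ => (Cert rels S Gen.g)) lc_g_rc_23_3 lc_g_Cert_tree lc_g_rc_23_7 lc_g_rc_23_3 lc_g_rc_21_2 lc_g_rc_27_3 lc_g_rc_27_0 lc_g_Cert_tree lc_g_rc_25_7 lc_g_rc_26_3 lc_g_rc_21_3 lc_g_rc_24_9 lc_g_Cert_tree lc_g_rc_26_0 lc_g_rc_27_9 lc_g_rc_24_7 lc_g_rc_27_6 lc_g_rc_27_6 lc_g_rc_25_19 lc_g_rc_24_3 lc_g_rc_24_7 lc_g_rc_27_6 lc_g_rc_26_0 lc_g_rc_26_0 lc_g_rc_27_3 lc_g_Cert_tree lc_g_rc_27_0 lc_g_rc_24_3 lc_g_rc_27_0 lc_g_rc_23_7 lc_g_rc_21_3 lc_g_Cert_tree lc_g_Cert_tree lc_g_rc_27_6 lc_g_rc_23_3 lc_g_rc_21_2 lc_g_rc_27_0 lc_g_rc_21_3 lc_g_rc_27_9 lc_g_rc_23_1 lc_g_rc_23_1 lc_g_rc_27_9 lc_g_rc_21_2 lc_g_rc_24_3 lc_g_rc_27_3 lc_g_rc_21_3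 lc_g_Cert_tree lc_g_rc_23_3 lc_g_rc_26_3 lc_g_rc_23_9 lc_g_rc_27_6 lc_g_rc_21_3 lc_g_Cert_tree lc_g_Cert_tree lc_g_rc_21_2 lc_g_rc_24_7 lc_g_rc_23_1 lc_g_rc_26_9 lc_g_rc_26_0 lc_g_rc_23_3 lc_g_rc_24_3 lc_g_rc_27_3) (@D3.rec (fun _ => (Cert rels S Gen.g)) lc_g_Cert_tree lc_g_rc_24_3 lc_g_rc_26_0 lc_g_Cert_tree lc_g_rc_21_2 lc_g_rc_21_2 lc_g_rc_24_3 lc_g_rc_21_2 lc_g_rc_24_7 lc_g_Cert_tree lc_g_Cert_tree lc_g_rc_27_0 lc_g_rc_24_3 lc_g_rc_23_3 lc_g_rc_21_3 lc_g_Cert_tree lc_g_rc_21_3 lc_g_rc_21_2 lc_g_rc_21_2 lc_g_Cert_tree lc_g_Cert_tree lc_g_rc_21_3 lc_g_rc_26_9 lc_g_rc_27_6 lc_g_Cert_tree lc_g_rc_21_3 lc_g_Cert_tree lc_g_rc_21_2 lc_g_rc_23_3 lc_g_Cert_tree lc_g_rc_23_3 lc_g_rc_23_7 lc_g_rc_21_3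 lc_g_rc_26_9 lc_g_rc_26_6 lc_g_rc_23_7 lc_g_rc_21_3 lc_g_Cert_tree lc_g_rc_26_6 lc_g_rc_21_2 lc_g_rc_27_6 lc_g_rc_23_3 lc_g_rc_23_3 lc_g_rc_21_2 lc_g_rc_27_9 lc_g_Cert_tree lc_g_rc_21_2 lc_g_rc_26_0 lc_g_rc_26_6 lc_g_rc_21_3 lc_g_Cert_tree lc_g_rc_21_3 lc_g_Cert_tree lc_g_rc_21_2 lc_g_rc_26_0 lc_g_Cert_tree lc_g_rc_27_0 lc_g_rc_24_9 lc_g_rc_23_1 lc_g_rc_24_7 lc_g_rc_21_3 lc_g_rc_27_3) (@D3.rec (fun _ => (Cert rels S Gen.g)) lc_g_Cert_tree lc_g_rc_21_3 lc_g_rc_21_2 lc_g_rc_23_3 lc_g_rc_21_2 lc_g_rc_21_3 lc_g_rc_26_3 lc_g_Cert_tree lc_g_rc_21_2 lc_g_rc_21_3 lc_g_Cert_tree lc_g_Cert_tree lc_g_rc_21_2 lc_g_rc_23_1 lc_g_rc_23_3 lc_g_Cert_tree lc_g_rc_27_3 lc_g_rc_24_7 lc_g_rc_24_7 lc_g_rc_23_3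 lc_g_rc_21_2 lc_g_rc_24_1 lc_g_rc_24_7 lc_g_rc_27_3 lc_g_rc_24_9 lc_g_rc_21_3 lc_g_Cert_tree lc_g_rc_23_9 lc_g_rc_24_7 lc_g_rc_21_3 lc_g_rc_21_2 lc_g_rc_26_3 lc_g_rc_21_2 lc_g_rc_27_6 lc_g_rc_21_2 lc_g_Cert_tree lc_g_rc_26_0 lc_g_rc_26_3 lc_g_rc_21_3 lc_g_rc_24_3 lc_g_rc_24_3 lc_g_Cert_tree lc_g_Cert_tree lc_g_rc_21_2 lc_g_rc_21_3 lc_g_rc_26_6 lc_g_rc_27_3 lc_g_rc_27_0 lc_g_rc_26_9 lc_g_rc_27_6 lc_g_rc_21_3 lc_g_rc_25_3 lc_g_rc_27_9 lc_g_rc_23_7 lc_g_rc_21_3 lc_g_Cert_tree lc_g_rc_26_3 lc_g_rc_21_2 lc_g_rc_26_3 lc_g_rc_27_6 lc_g_rc_21_3 lc_g_Cert_tree) (@D3.rec (fun _ => (Cert rels S Gen.g)) lc_g_rc_27_6 lc_g_rc_21_2 lc_g_rc_21_2 lc_g_Cert_tree lc_g_Cert_tree lc_g_rc_23_7 lc_g_rc_26_9 lc_g_rc_27_3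 lc_g_rc_25_19 lc_g_rc_27_6 lc_g_rc_21_3 lc_g_rc_27_3 lc_g_rc_26_0 lc_g_rc_26_6 lc_g_Cert_tree lc_g_Cert_tree lc_g_rc_27_6 lc_g_Cert_tree lc_g_rc_27_6 lc_g_rc_27_9 lc_g_rc_23_1 lc_g_rc_24_1 lc_g_rc_27_6 lc_g_rc_21_2 lc_g_rc_21_3 lc_g_Cert_tree lc_g_Cert_tree lc_g_rc_27_6 lc_g_rc_27_3 lc_g_Cert_tree lc_g_rc_27_0 lc_g_rc_21_2 lc_g_rc_23_3 lc_g_rc_23_7 lc_g_rc_23_9 lc_g_rc_23_3 lc_g_rc_27_3 lc_g_rc_23_1 lc_g_rc_23_1 lc_g_rc_24_9 lc_g_rc_26_0 lc_g_rc_23_9 lc_g_rc_24_9 lc_g_rc_26_9 lc_g_Cert_tree lc_g_rc_24_7 lc_g_rc_21_3 lc_g_rc_21_3 lc_g_rc_21_3 lc_g_rc_27_9 lc_g_rc_21_3 lc_g_Cert_tree lc_g_rc_23_9 lc_g_rc_23_3 lc_g_rc_23_1 lc_g_rc_24_1 lc_g_rc_24_7 lc_g_rc_27_3 lc_g_rc_21_3 lc_g_rc_27_3 lc_g_rc_26_0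 lc_g_Cert_tree) (@D3.rec (fun _ => (Cert rels S Gen.g)) lc_g_rc_27_0 lc_g_rc_21_3 lc_g_Cert_tree lc_g_rc_24_1 lc_g_rc_21_2 lc_g_rc_24_1 lc_g_rc_26_0 lc_g_rc_27_6 lc_g_Cert_tree lc_g_rc_24_7 lc_g_rc_27_0 lc_g_Cert_tree lc_g_rc_23_7 lc_g_rc_26_3 lc_g_rc_23_9 lc_g_rc_27_3 lc_g_rc_21_3 lc_g_Cert_tree lc_g_rc_23_7 lc_g_rc_26_3 lc_g_rc_27_9 lc_g_rc_24_3 lc_g_Cert_tree lc_g_Cert_tree lc_g_rc_26_9 lc_g_rc_23_9 lc_g_rc_21_3 lc_g_rc_27_6 lc_g_rc_21_2 lc_g_Cert_tree lc_g_rc_26_6 lc_g_rc_21_3 lc_g_Cert_tree lc_g_rc_26_0 lc_g_Cert_tree lc_g_rc_21_3 lc_g_rc_24_1 lc_g_rc_23_3 lc_g_rc_26_0 lc_g_rc_26_3 lc_g_rc_24_3 lc_g_rc_23_3 lc_g_rc_23_1 lc_g_rc_24_3 lc_g_rc_21_3 lc_g_rc_21_3 lc_g_rc_21_3 lc_g_rc_23_1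 lc_g_Cert_tree lc_g_rc_24_1 lc_g_rc_21_3 lc_g_Cert_tree lc_g_rc_21_3 lc_g_rc_27_9 lc_g_rc_21_3 lc_g_rc_24_1 lc_g_rc_23_7 lc_g_Cert_tree lc_g_rc_26_9 lc_g_rc_26_6 lc_g_rc_24_7 lc_g_rc_27_0) (@D3.rec (fun _ => (Cert rels S Gen.g)) lc_g_rc_24_3 lc_g_rc_24_3 lc_g_rc_27_0 lc_g_rc_21_2 lc_g_Cert_tree lc_g_Cert_tree lc_g_rc_27_0 lc_g_rc_26_3 lc_g_rc_26_6 lc_g_rc_27_6 lc_g_rc_23_1 lc_g_rc_23_3 lc_g_rc_24_3 lc_g_Cert_tree lc_g_rc_27_3 lc_g_Cert_tree lc_g_rc_21_3 lc_g_rc_26_3 lc_g_rc_26_0 lc_g_rc_24_1 lc_g_rc_27_6 lc_g_rc_21_3 lc_g_Cert_tree lc_g_rc_24_3 lc_g_Cert_tree lc_g_Cert_tree lc_g_rc_21_2 lc_g_rc_21_3 lc_g_rc_24_1 lc_g_rc_21_2 lc_g_rc_21_2 lc_g_rc_27_6 lc_g_Cert_tree lc_g_rc_26_3 lc_g_rc_21_2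 lc_g_rc_26_0 lc_g_rc_27_6 lc_g_rc_27_0 lc_g_rc_27_3 lc_g_rc_23_1 lc_g_rc_26_9 lc_g_rc_26_6 lc_g_rc_21_2 lc_g_rc_23_7 lc_g_rc_27_3 lc_g_rc_21_2 lc_g_rc_27_3 lc_g_rc_24_1 lc_g_rc_26_6 lc_g_rc_26_6 lc_g_Cert_tree lc_g_rc_26_3 lc_g_rc_26_3 lc_g_rc_21_2 lc_g_rc_27_9 lc_g_rc_26_6 lc_g_rc_23_3 lc_g_rc_27_0 lc_g_rc_24_1 lc_g_rc_21_3 lc_g_rc_24_9 lc_g_rc_27_6) (@D3.rec (fun _ => (Cert rels S Gen.g)) lc_g_rc_21_2 lc_g_rc_27_3 lc_g_rc_21_2 lc_g_rc_24_7 lc_g_rc_27_6 lc_g_rc_21_3 lc_g_Cert_tree lc_g_Cert_tree lc_g_Cert_tree lc_g_rc_21_2 lc_g_rc_21_2 lc_g_rc_24_9 lc_g_rc_23_7 lc_g_rc_24_9 lc_g_rc_26_9 lc_g_rc_21_3 lc_g_rc_24_1 lc_g_rc_24_3 lc_g_rc_21_3 lc_g_rc_27_0 lc_g_rc_23_9 lc_g_rc_21_3 lc_g_rc_21_3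 lc_g_rc_24_3 lc_g_rc_23_1 lc_g_rc_26_3 lc_g_rc_21_3 lc_g_rc_21_2 lc_g_rc_24_9 lc_g_rc_24_7 lc_g_rc_23_1 lc_g_rc_21_2 lc_g_rc_24_7 lc_g_rc_27_6 lc_g_rc_21_3 lc_g_Cert_tree lc_g_rc_23_7 lc_g_rc_26_3 lc_g_Cert_tree lc_g_rc_24_9 lc_g_Cert_tree lc_g_Cert_tree lc_g_Cert_tree lc_g_Cert_tree lc_g_Cert_tree lc_g_Cert_tree lc_g_rc_21_2 lc_g_Cert_tree lc_g_rc_21_2 lc_g_rc_23_1 lc_g_rc_23_9 lc_g_rc_24_9 lc_g_Cert_tree lc_g_rc_23_9 lc_g_rc_24_1 lc_g_rc_21_3 lc_g_rc_25_15 lc_g_rc_21_3 lc_g_Cert_tree lc_g_rc_24_1 lc_g_rc_24_3 lc_g_rc_21_3) (@D3.rec (fun _ => (Cert rels S Gen.g)) lc_g_Cert_tree lc_g_rc_21_2 lc_g_rc_23_3 lc_g_rc_26_3 lc_g_Cert_tree lc_g_rc_21_3 lc_g_rc_27_9 lc_g_rc_23_1 lc_g_rc_26_0 lc_g_rc_23_9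 lc_g_rc_27_6 lc_g_rc_27_3 lc_g_rc_21_3 lc_g_Cert_tree lc_g_rc_26_0 lc_g_rc_23_1 lc_g_rc_27_6 lc_g_rc_24_7 lc_g_rc_21_3 lc_g_rc_24_3 lc_g_rc_21_3 lc_g_rc_24_3 lc_g_rc_23_3 lc_g_rc_26_3 lc_g_Cert_tree lc_g_rc_26_6 lc_g_rc_21_3 lc_g_Cert_tree lc_g_rc_24_7 lc_g_rc_21_2 lc_g_rc_23_3 lc_g_rc_21_3 lc_g_Cert_tree lc_g_rc_23_9 lc_g_rc_21_2 lc_g_rc_26_6 lc_g_rc_27_6 lc_g_rc_26_6 lc_g_rc_21_3 lc_g_Cert_tree lc_g_Cert_tree lc_g_rc_27_3 lc_g_rc_21_2 lc_g_rc_21_3 lc_g_Cert_tree lc_g_Cert_tree lc_g_rc_21_2 lc_g_rc_24_3 lc_g_rc_26_3 lc_g_rc_26_3 lc_g_Cert_tree lc_g_rc_21_3 lc_g_rc_21_3 lc_g_rc_21_2 lc_g_rc_26_3 lc_g_rc_26_9 lc_g_rc_27_0 lc_g_rc_24_9 lc_g_Cert_tree lc_g_Cert_tree lc_g_Cert_tree lc_g_rc_21_3)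 (@D3.rec (fun _ => (Cert rels S Gen.g)) lc_g_rc_27_3 lc_g_Cert_tree lc_g_rc_27_6 lc_g_Cert_tree lc_g_rc_27_6 lc_g_rc_26_3 lc_g_rc_27_0 lc_g_rc_27_0 lc_g_rc_27_3 lc_g_rc_24_1 lc_g_rc_23_3 lc_g_rc_21_3 lc_g_Cert_tree lc_g_rc_21_2 lc_g_rc_23_3 lc_g_rc_27_0 lc_g_rc_24_1 lc_g_rc_21_2 lc_g_rc_27_3 lc_g_rc_27_9 lc_g_rc_21_3 lc_g_rc_27_6 lc_g_rc_24_1 lc_g_rc_27_6 lc_g_rc_27_3 lc_g_rc_27_6 lc_g_Cert_tree lc_g_rc_26_3 lc_g_rc_27_6 lc_g_rc_27_3 lc_g_rc_26_3 lc_g_rc_25_11 lc_g_rc_24_1 lc_g_rc_27_9 lc_g_rc_24_3 lc_g_rc_23_1 lc_g_rc_27_3 lc_g_rc_27_3 lc_g_rc_21_3 lc_g_Cert_tree lc_g_rc_21_2 lc_g_rc_23_9 lc_g_rc_27_0 lc_g_rc_27_6 lc_g_Cert_tree lc_g_rc_26_3 lc_g_rc_21_3 lc_g_Cert_tree lc_g_rc_27_3 lc_g_rc_21_3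 lc_g_Cert_tree lc_g_rc_21_2 lc_g_rc_23_1 lc_g_rc_21_3 lc_g_Cert_tree lc_g_rc_26_9 lc_g_rc_26_0 lc_g_rc_23_7 lc_g_rc_21_2 lc_g_rc_24_3 lc_g_Cert_tree lc_g_rc_21_2) (@D3.rec (fun _ => (Cert rels S Gen.g)) lc_g_Cert_tree lc_g_rc_27_3 lc_g_rc_26_6 lc_g_rc_26_6 lc_g_rc_27_9 lc_g_rc_27_6 lc_g_rc_23_3 lc_g_rc_23_1 lc_g_rc_24_3 lc_g_rc_21_2 lc_g_Cert_tree lc_g_rc_27_9 lc_g_rc_21_2 lc_g_rc_23_9 lc_g_rc_24_3 lc_g_rc_27_0 lc_g_rc_26_0 lc_g_rc_23_3 lc_g_rc_26_3 lc_g_rc_23_3 lc_g_rc_21_2 lc_g_rc_23_3 lc_g_rc_21_3 lc_g_rc_24_9 lc_g_rc_23_1 lc_g_Cert_tree lc_g_rc_27_3 lc_g_rc_24_3 lc_g_rc_27_3 lc_g_rc_21_3 lc_g_Cert_tree lc_g_rc_21_2 lc_g_rc_26_0 lc_g_Cert_tree lc_g_rc_21_3 lc_g_rc_21_2 lc_g_rc_26_6 lc_g_rc_21_2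 lc_g_rc_24_3 lc_g_rc_21_2 lc_g_rc_21_3 lc_g_Cert_tree lc_g_rc_21_2 lc_g_rc_21_3 lc_g_Cert_tree lc_g_rc_21_2 lc_g_rc_21_3 lc_g_Cert_tree lc_g_rc_24_1 lc_g_rc_21_3 lc_g_rc_21_3 lc_g_rc_21_3 lc_g_Cert_tree lc_g_Cert_tree lc_g_rc_27_6 lc_g_rc_26_0 lc_g_rc_26_0 lc_g_rc_23_3 lc_g_rc_21_3 lc_g_rc_27_0 lc_g_rc_27_3 lc_g_Cert_tree) (@D3.rec (fun _ => (Cert rels S Gen.g)) lc_g_rc_23_7 lc_g_rc_24_3 lc_g_rc_27_6 lc_g_rc_27_3 lc_g_rc_26_6 lc_g_rc_23_1 lc_g_rc_26_6 lc_g_rc_24_3 lc_g_rc_23_9 lc_g_rc_23_9 lc_g_rc_21_2 lc_g_Cert_tree lc_g_rc_21_3 lc_g_Cert_tree lc_g_rc_21_2 lc_g_rc_27_9 lc_g_rc_21_2 lc_g_Cert_tree lc_g_Cert_tree lc_g_rc_27_6 lc_g_Cert_tree lc_g_rc_27_3 lc_g_Cert_tree lc_g_rc_21_3 lc_g_Cert_tree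 lc_g_rc_27_9 lc_g_rc_21_3 lc_g_rc_21_3 lc_g_Cert_tree lc_g_rc_27_3 lc_g_rc_21_2 lc_g_Cert_tree lc_g_rc_23_7 lc_g_rc_27_3 lc_g_rc_23_7 lc_g_Cert_tree lc_g_rc_24_7 lc_g_rc_21_2 lc_g_rc_21_2 lc_g_rc_24_7 lc_g_rc_23_9 lc_g_rc_26_3 lc_g_rc_27_0 lc_g_rc_27_6 lc_g_rc_23_3 lc_g_rc_23_3 lc_g_rc_27_3 lc_g_rc_24_7 lc_g_rc_26_6 lc_g_rc_23_1 lc_g_rc_26_3 lc_g_Cert_tree lc_g_rc_26_3 lc_g_rc_26_3 lc_g_rc_21_2 lc_g_rc_23_3 lc_g_Cert_tree lc_g_rc_24_3 lc_g_rc_25_7 lc_g_rc_24_7 lc_g_rc_23_3 lc_g_rc_21_3) (@D3.rec (fun _ => (Cert rels S Gen.g)) lc_g_Cert_tree lc_g_rc_23_9 lc_g_rc_25_3 lc_g_rc_26_3 lc_g_rc_27_6 lc_g_rc_26_6 lc_g_Cert_tree lc_g_rc_27_3 lc_g_rc_23_1 lc_g_rc_24_3 lc_g_rc_27_3 lc_g_Cert_tree lc_g_rc_26_0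 lc_g_rc_27_9 lc_g_rc_27_0 lc_g_rc_21_3 lc_g_rc_23_7 lc_g_rc_23_7 lc_g_rc_27_6 lc_g_rc_26_0 lc_g_rc_21_3 lc_g_rc_23_1 lc_g_rc_23_9 lc_g_Cert_tree lc_g_rc_21_2 lc_g_Cert_tree lc_g_rc_21_2 lc_g_rc_26_0 lc_g_Cert_tree lc_g_rc_21_3 lc_g_Cert_tree lc_g_rc_26_3 lc_g_rc_21_2 lc_g_rc_21_3 lc_g_Cert_tree lc_g_rc_27_3 lc_g_rc_23_3 lc_g_rc_24_7 lc_g_rc_24_3 lc_g_rc_21_3 lc_g_rc_21_2 lc_g_rc_21_2 lc_g_Cert_tree lc_g_rc_23_1 lc_g_rc_27_0 lc_g_rc_27_6 lc_g_rc_23_1 lc_g_rc_21_3 lc_g_rc_24_1 lc_g_rc_27_9 lc_g_rc_23_7 lc_g_rc_27_0 lc_g_rc_21_2 lc_g_rc_23_7 lc_g_rc_21_2 lc_g_rc_27_3 lc_g_rc_24_1 lc_g_rc_27_3 lc_g_rc_26_0 lc_g_rc_26_0 lc_g_rc_24_7 lc_g_rc_27_3) (@D3.rec (fun _ => (Cert rels S Gen.g)) lc_g_Cert_tree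 lc_g_rc_21_2 lc_g_rc_26_9 lc_g_rc_24_9 lc_g_rc_24_9 lc_g_rc_27_9 lc_g_Cert_tree lc_g_rc_21_3 lc_g_rc_24_1 lc_g_rc_26_6 lc_g_rc_26_0 lc_g_rc_21_3 lc_g_Cert_tree lc_g_Cert_tree lc_g_rc_23_3 lc_g_rc_21_3 lc_g_Cert_tree lc_g_Cert_tree lc_g_rc_21_2 lc_g_rc_26_3 lc_g_rc_21_3 lc_g_rc_26_0 lc_g_rc_26_6 lc_g_rc_21_3 lc_g_rc_27_0 lc_g_rc_26_3 lc_g_Cert_tree lc_g_rc_23_7 lc_g_rc_27_0 lc_g_rc_24_3 lc_g_rc_23_9 lc_g_Cert_tree lc_g_Cert_tree lc_g_rc_21_2 lc_g_rc_21_3 lc_g_Cert_tree lc_g_rc_21_2 lc_g_rc_26_6 lc_g_rc_21_3 lc_g_Cert_tree lc_g_rc_26_6 lc_g_rc_21_3 lc_g_Cert_tree lc_g_rc_27_3 lc_g_rc_21_2 lc_g_rc_24_7 lc_g_rc_26_9 lc_g_Cert_tree lc_g_rc_27_9 lc_g_rc_26_9 lc_g_rc_27_0 lc_g_rc_23_9 lc_g_rc_27_0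 lc_g_Cert_tree lc_g_rc_21_3 lc_g_Cert_tree lc_g_rc_21_3 lc_g_rc_27_0 lc_g_rc_26_9 lc_g_rc_27_9 lc_g_rc_24_1 lc_g_rc_26_9) (@D3.rec (fun _ => (Cert rels S Gen.g)) lc_g_rc_21_3 lc_g_rc_27_6 lc_g_rc_26_0 lc_g_rc_21_2 lc_g_rc_27_6 lc_g_rc_21_2 lc_g_rc_21_2 lc_g_rc_21_3 lc_g_Cert_tree lc_g_Cert_tree lc_g_rc_21_3 lc_g_Cert_tree lc_g_rc_21_3 lc_g_Cert_tree lc_g_rc_21_2 lc_g_rc_21_3 lc_g_rc_23_7 lc_g_rc_24_3 lc_g_rc_27_6 lc_g_rc_21_3 lc_g_Cert_tree lc_g_Cert_tree lc_g_rc_26_3 lc_g_rc_27_9 lc_g_rc_24_3 lc_g_rc_23_1 lc_g_rc_26_3 lc_g_rc_26_6 lc_g_rc_21_3 lc_g_Cert_tree lc_g_rc_25_7 lc_g_rc_26_6 lc_g_rc_21_2 lc_g_rc_27_6 lc_g_rc_21_3 lc_g_Cert_tree lc_g_rc_21_3 lc_g_Cert_tree lc_g_rc_23_3 lc_g_rc_24_1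 lc_g_rc_24_3 lc_g_rc_24_9 lc_g_rc_24_1 lc_g_rc_24_7 lc_g_Cert_tree lc_g_rc_21_2 lc_g_rc_24_1 lc_g_rc_26_3 lc_g_rc_26_3 lc_g_rc_27_0 lc_g_rc_24_7 lc_g_rc_21_3 lc_g_Cert_tree lc_g_rc_23_9 lc_g_rc_27_3 lc_g_rc_21_3 lc_g_Cert_tree lc_g_rc_27_3 lc_g_rc_21_2 lc_g_Cert_tree lc_g_rc_23_7 lc_g_rc_26_3) (@D3.rec (fun _ => (Cert rels S Gen.g)) lc_g_rc_26_6 lc_g_rc_23_3 lc_g_rc_21_3 lc_g_Cert_tree lc_g_rc_21_2 lc_g_rc_25_15 lc_g_rc_27_9 lc_g_rc_24_7 lc_g_rc_26_3 lc_g_rc_27_0 lc_g_rc_23_3 lc_g_rc_21_3 lc_g_Cert_tree lc_g_rc_26_3 lc_g_Cert_tree lc_g_Cert_tree lc_g_Cert_tree lc_g_Cert_tree lc_g_Cert_tree lc_g_rc_21_2 lc_g_rc_26_9 lc_g_Cert_tree lc_g_rc_21_2 lc_g_rc_21_3 lc_g_rc_26_3 lc_g_rc_21_2 lc_g_rc_27_6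 lc_g_rc_21_3 lc_g_Cert_tree lc_g_Cert_tree lc_g_rc_26_6 lc_g_rc_21_3 lc_g_Cert_tree lc_g_Cert_tree lc_g_rc_21_2 lc_g_rc_21_3 lc_g_Cert_tree lc_g_Cert_tree lc_g_rc_21_2 lc_g_rc_21_2 lc_g_rc_21_2 lc_g_rc_21_3 lc_g_Cert_tree lc_g_rc_24_7 lc_g_rc_21_2 lc_g_rc_21_2 lc_g_rc_21_2 lc_g_rc_26_9 lc_g_rc_26_9 lc_g_rc_26_0 lc_g_rc_21_3 lc_g_rc_27_0 lc_g_rc_21_2 lc_g_Cert_tree lc_g_rc_21_3 lc_g_Cert_tree lc_g_rc_27_6 lc_g_rc_27_6 lc_g_rc_21_3 lc_g_Cert_tree lc_g_Cert_tree lc_g_rc_21_2) (@D3.rec (fun _ => (Cert rels S Gen.g)) lc_g_rc_21_3 lc_g_Cert_tree lc_g_Cert_tree lc_g_rc_21_2 lc_g_rc_21_2 lc_g_Cert_tree lc_g_rc_21_2 lc_g_rc_26_0 lc_g_rc_26_6 lc_g_rc_21_2 lc_g_rc_24_7 lc_g_rc_21_3 lc_g_rc_21_2 lc_g_rc_27_6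 lc_g_rc_21_3 lc_g_Cert_tree lc_g_rc_21_3 lc_g_Cert_tree lc_g_rc_27_3 lc_g_rc_21_2 lc_g_rc_21_3 lc_g_Cert_tree lc_g_rc_21_2 lc_g_rc_21_2 lc_g_Cert_tree lc_g_rc_24_1 lc_g_rc_27_9 lc_g_rc_26_6 lc_g_rc_24_9 lc_g_Cert_tree lc_g_rc_21_2 lc_g_Cert_tree lc_g_rc_21_3 lc_g_rc_27_6 lc_g_rc_21_2 lc_g_rc_26_6 lc_g_rc_26_0 lc_g_Cert_tree lc_g_Cert_tree lc_g_rc_24_3 lc_g_rc_21_2 lc_g_Cert_tree lc_g_rc_27_6 lc_g_rc_21_2 lc_g_rc_21_2 lc_g_rc_23_3 lc_g_rc_24_1 lc_g_rc_27_6 lc_g_rc_27_0 lc_g_rc_21_3 lc_g_Cert_tree lc_g_Cert_tree lc_g_rc_24_3 lc_g_rc_23_9 lc_g_rc_26_3 lc_g_rc_23_3 lc_g_rc_27_6 lc_g_rc_24_1 lc_g_rc_24_9 lc_g_Cert_tree lc_g_rc_21_2 lc_g_rc_23_1) (@D3.rec (fun _ => (Cert rels S Gen.g)) lc_g_rc_26_9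 lc_g_rc_23_3 lc_g_rc_26_6 lc_g_Cert_tree lc_g_rc_24_7 lc_g_Cert_tree lc_g_rc_26_6 lc_g_Cert_tree lc_g_rc_21_3 lc_g_rc_27_9 lc_g_rc_26_3 lc_g_rc_27_3 lc_g_Cert_tree lc_g_Cert_tree lc_g_rc_26_6 lc_g_rc_26_0 lc_g_Cert_tree lc_g_rc_23_9 lc_g_rc_27_0 lc_g_rc_24_7 lc_g_rc_27_6 lc_g_rc_21_3 lc_g_rc_21_3 lc_g_Cert_tree lc_g_rc_21_2 lc_g_rc_23_9 lc_g_rc_26_6 lc_g_Cert_tree lc_g_rc_26_3 lc_g_Cert_tree lc_g_rc_23_7 lc_g_rc_26_3 lc_g_rc_21_3 lc_g_Cert_tree lc_g_rc_21_2 lc_g_rc_21_2 lc_g_rc_24_3 lc_g_Cert_tree lc_g_rc_23_1 lc_g_rc_21_2 lc_g_rc_24_1 lc_g_rc_21_3 lc_g_rc_26_9 lc_g_rc_26_0 lc_g_rc_21_3 lc_g_Cert_tree lc_g_rc_24_3 lc_g_Cert_tree lc_g_rc_21_3 lc_g_Cert_tree lc_g_Cert_tree lc_g_rc_21_2 lc_g_rc_23_1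 lc_g_Cert_tree lc_g_Cert_tree lc_g_rc_21_2 lc_g_Cert_tree lc_g_rc_23_7 lc_g_rc_24_9 lc_g_rc_23_7 lc_g_rc_21_3 lc_g_Cert_tree) (@D3.rec (fun _ => (Cert rels S Gen.g)) lc_g_rc_24_3 lc_g_rc_21_2 lc_g_rc_26_3 lc_g_rc_27_0 lc_g_rc_27_6 lc_g_rc_27_9 lc_g_rc_27_6 lc_g_rc_23_7 lc_g_rc_21_3 lc_g_rc_23_1 lc_g_rc_26_0 lc_g_rc_24_1 lc_g_rc_23_3 lc_g_rc_21_2 lc_g_Cert_tree lc_g_Cert_tree lc_g_rc_21_3 lc_g_rc_21_3 lc_g_Cert_tree lc_g_rc_23_1 lc_g_rc_23_1 lc_g_rc_27_9 lc_g_rc_23_3 lc_g_rc_21_2 lc_g_rc_24_7 lc_g_rc_23_9 lc_g_rc_26_3 lc_g_rc_21_3 lc_g_rc_23_3 lc_g_rc_27_6 lc_g_rc_26_0 lc_g_rc_21_2 lc_g_rc_21_2 lc_g_rc_21_3 lc_g_rc_23_7 lc_g_rc_21_3 lc_g_rc_26_0 lc_g_rc_21_2 lc_g_rc_24_1 lc_g_rc_27_3 lc_g_rc_21_3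 lc_g_Cert_tree lc_g_rc_26_3 lc_g_rc_21_2 lc_g_rc_21_2 lc_g_Cert_tree lc_g_rc_26_0 lc_g_rc_23_9 lc_g_rc_21_3 lc_g_rc_21_3 lc_g_rc_23_9 lc_g_rc_26_6 lc_g_rc_21_2 lc_g_Cert_tree lc_g_rc_21_2 lc_g_rc_21_3 lc_g_Cert_tree lc_g_rc_21_2 lc_g_rc_23_7 lc_g_rc_21_3 lc_g_rc_21_3 lc_g_rc_24_1) (@D3.rec (fun _ => (Cert rels S Gen.g)) lc_g_rc_24_3 lc_g_rc_24_9 lc_g_rc_21_3 lc_g_Cert_tree lc_g_Cert_tree lc_g_rc_21_2 lc_g_rc_21_3 lc_g_Cert_tree lc_g_rc_23_7 lc_g_rc_23_9 lc_g_rc_26_3 lc_g_rc_27_6 lc_g_rc_23_1 lc_g_Cert_tree lc_g_rc_23_3 lc_g_rc_26_9 lc_g_rc_24_3 lc_g_rc_26_3 lc_g_rc_27_3 lc_g_rc_21_2 lc_g_rc_26_0 lc_g_rc_25_11 lc_g_rc_27_3 lc_g_rc_21_2 lc_g_rc_26_6 lc_g_rc_26_3 lc_g_rc_23_7 lc_g_rc_26_0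 lc_g_rc_24_1 lc_g_Cert_tree lc_g_rc_21_3 lc_g_rc_23_7 lc_g_rc_27_9 lc_g_rc_24_1 lc_g_Cert_tree lc_g_rc_21_3 lc_g_Cert_tree lc_g_rc_21_3 lc_g_Cert_tree lc_g_Cert_tree lc_g_rc_21_2 lc_g_Cert_tree lc_g_rc_21_2 lc_g_rc_21_2 lc_g_rc_21_3 lc_g_rc_27_0 lc_g_rc_27_6 lc_g_rc_23_3 lc_g_rc_21_2 lc_g_rc_26_9 lc_g_rc_21_2 lc_g_rc_27_0 lc_g_rc_23_9 lc_g_rc_24_9 lc_g_rc_27_6 lc_g_rc_26_3 lc_g_rc_23_7 lc_g_Cert_tree lc_g_rc_21_3 lc_g_Cert_tree lc_g_Cert_tree lc_g_rc_21_2) (@D3.rec (fun _ => (Cert rels S Gen.g)) lc_g_rc_21_3 lc_g_rc_27_6 lc_g_rc_21_3 lc_g_Cert_tree lc_g_rc_21_3 lc_g_Cert_tree lc_g_Cert_tree lc_g_rc_21_2 lc_g_rc_26_3 lc_g_rc_27_9 lc_g_rc_26_3 lc_g_Cert_tree lc_g_rc_26_9 lc_g_rc_21_2 lc_g_rc_21_2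 lc_g_rc_23_9 lc_g_rc_25_19 lc_g_rc_25_19 lc_g_rc_26_3 lc_g_rc_23_3 lc_g_rc_27_3 lc_g_rc_21_3 lc_g_rc_26_6 lc_g_rc_24_1 lc_g_rc_23_7 lc_g_rc_21_3 lc_g_rc_24_1 lc_g_rc_21_3 lc_g_rc_27_0 lc_g_rc_21_3 lc_g_Cert_tree lc_g_rc_21_2 lc_g_rc_23_3 lc_g_rc_26_0 lc_g_rc_23_3 lc_g_Cert_tree lc_g_rc_21_3 lc_g_rc_25_11 lc_g_rc_21_2 lc_g_rc_21_2 lc_g_rc_24_9 lc_g_rc_24_1 lc_g_Cert_tree lc_g_rc_21_3 lc_g_rc_24_1 lc_g_rc_26_9 lc_g_rc_24_1 lc_g_Cert_tree lc_g_rc_24_9 lc_g_rc_26_6 lc_g_rc_21_2 lc_g_rc_21_3 lc_g_Cert_tree lc_g_rc_26_6 lc_g_rc_21_2 lc_g_rc_23_3 lc_g_rc_27_3 lc_g_rc_24_1 lc_g_rc_24_3 lc_g_rc_21_3 lc_g_Cert_tree lc_g_Cert_tree) (@D3.rec (fun _ => (Cert rels S Gen.g)) lc_g_rc_27_6 lc_g_rc_27_3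 lc_g_rc_23_1 lc_g_rc_24_3 lc_g_rc_21_3 lc_g_Cert_tree lc_g_rc_21_2 lc_g_Cert_tree lc_g_rc_24_3 lc_g_rc_24_1 lc_g_rc_21_3 lc_g_rc_26_6 lc_g_rc_21_3 lc_g_rc_27_6 lc_g_rc_26_0 lc_g_rc_26_9 lc_g_rc_23_7 lc_g_rc_24_1 lc_g_rc_21_3 lc_g_rc_21_2 lc_g_Cert_tree lc_g_rc_26_3 lc_g_Cert_tree lc_g_rc_21_3 lc_g_Cert_tree lc_g_Cert_tree lc_g_rc_21_3 lc_g_Cert_tree lc_g_rc_26_0 lc_g_rc_21_2 lc_g_rc_21_3 lc_g_Cert_tree lc_g_Cert_tree lc_g_rc_21_2 lc_g_Cert_tree lc_g_rc_26_6 lc_g_Cert_tree lc_g_rc_21_2 lc_g_rc_23_9 lc_g_rc_26_6 lc_g_rc_27_6 lc_g_rc_24_1 lc_g_rc_21_3 lc_g_Cert_tree lc_g_rc_21_2 lc_g_rc_27_6 lc_g_rc_21_3 lc_g_Cert_tree lc_g_rc_21_2 lc_g_rc_26_6 lc_g_rc_27_0 lc_g_rc_26_6 lc_g_Cert_tree lc_g_rc_23_7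 lc_g_rc_23_3 lc_g_rc_26_0 lc_g_rc_21_2 lc_g_rc_23_7 lc_g_rc_27_6 lc_g_Cert_tree lc_g_rc_21_3 lc_g_Cert_tree) (@D3.rec (fun _ => (Cert rels S Gen.g)) lc_g_Cert_tree lc_g_rc_21_2 lc_g_Cert_tree lc_g_Cert_tree lc_g_rc_23_1 lc_g_Cert_tree lc_g_rc_24_1 lc_g_rc_27_3 lc_g_rc_21_3 lc_g_rc_23_9 lc_g_rc_27_6 lc_g_rc_21_3 lc_g_rc_26_9 lc_g_rc_21_2 lc_g_rc_26_0 lc_g_rc_23_1 lc_g_rc_21_3 lc_g_rc_21_2 lc_g_rc_27_6 lc_g_rc_21_3 lc_g_Cert_tree lc_g_rc_23_9 lc_g_rc_21_3 lc_g_Cert_tree lc_g_Cert_tree lc_g_rc_26_6 lc_g_rc_24_3 lc_g_rc_21_2 lc_g_rc_21_2 lc_g_rc_23_3 lc_g_rc_26_6 lc_g_rc_27_0 lc_g_rc_21_2 lc_g_Cert_tree lc_g_rc_21_3 lc_g_Cert_tree lc_g_rc_21_2 lc_g_Cert_tree lc_g_rc_23_7 lc_g_rc_26_3 lc_g_rc_26_6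 lc_g_rc_21_3 lc_g_rc_24_3 lc_g_rc_26_3 lc_g_Cert_tree lc_g_rc_26_3 lc_g_rc_26_9 lc_g_rc_24_3 lc_g_rc_26_6 lc_g_rc_21_3 lc_g_rc_24_3 lc_g_rc_21_3 lc_g_Cert_tree lc_g_rc_27_6 lc_g_rc_26_6 lc_g_rc_26_9 lc_g_rc_26_0 lc_g_rc_26_9 lc_g_rc_27_0 lc_g_rc_23_9 lc_g_Cert_tree lc_g_rc_21_3) (@D3.rec (fun _ => (Cert rels S Gen.g)) lc_g_Cert_tree lc_g_rc_27_3 lc_g_Cert_tree lc_g_rc_21_2 lc_g_rc_26_3 lc_g_rc_24_1 lc_g_Cert_tree lc_g_rc_21_3 lc_g_rc_27_0 lc_g_rc_23_1 lc_g_Cert_tree lc_g_rc_24_9 lc_g_rc_26_6 lc_g_rc_26_3 lc_g_rc_21_3 lc_g_Cert_tree lc_g_rc_27_9 lc_g_Cert_tree lc_g_rc_27_3 lc_g_rc_21_2 lc_g_rc_23_9 lc_g_Cert_tree lc_g_rc_21_3 lc_g_Cert_tree lc_g_rc_21_2 lc_g_rc_26_6 lc_g_rc_27_3 lc_g_rc_21_2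 lc_g_rc_24_9 lc_g_rc_21_2 lc_g_rc_26_6 lc_g_rc_21_3 lc_g_Cert_tree lc_g_rc_23_3 lc_g_rc_26_3 lc_g_rc_21_3 lc_g_Cert_tree lc_g_rc_21_2 lc_g_rc_26_6 lc_g_rc_26_3 lc_g_rc_21_3 lc_g_rc_25_3 lc_g_rc_24_9 lc_g_rc_21_3 lc_g_Cert_tree lc_g_rc_21_2 lc_g_rc_21_2 lc_g_rc_26_6 lc_g_Cert_tree lc_g_rc_21_2 lc_g_rc_24_9 lc_g_rc_21_2 lc_g_rc_26_6 lc_g_rc_24_7 lc_g_rc_27_6 lc_g_rc_21_2 lc_g_rc_27_9 lc_g_rc_21_3 lc_g_rc_24_1 lc_g_rc_27_3 lc_g_rc_27_6 lc_g_rc_21_3) (@D3.rec (fun _ => (Cert rels S Gen.g)) lc_g_Cert_tree lc_g_rc_21_2 lc_g_rc_21_3 lc_g_Cert_tree lc_g_rc_21_3 lc_g_Cert_tree lc_g_rc_27_6 lc_g_rc_24_7 lc_g_rc_27_0 lc_g_Cert_tree lc_g_rc_24_3 lc_g_rc_26_6 lc_g_rc_24_3 lc_g_rc_24_9 lc_g_rc_26_6 lc_g_rc_21_3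 lc_g_Cert_tree lc_g_rc_23_3 lc_g_rc_24_3 lc_g_rc_21_2 lc_g_rc_27_3 lc_g_rc_26_6 lc_g_rc_21_2 lc_g_rc_21_3 lc_g_rc_21_2 lc_g_rc_26_6 lc_g_rc_26_6 lc_g_rc_27_3 lc_g_Cert_tree lc_g_rc_24_9 lc_g_rc_24_1 lc_g_rc_23_7 lc_g_Cert_tree lc_g_rc_26_3 lc_g_Cert_tree lc_g_rc_24_3 lc_g_rc_23_3 lc_g_rc_27_6 lc_g_rc_27_9 lc_g_rc_24_9 lc_g_rc_25_3 lc_g_rc_23_7 lc_g_rc_24_9 lc_g_Cert_tree lc_g_rc_23_1 lc_g_rc_26_6 lc_g_rc_23_7 lc_g_rc_27_0 lc_g_rc_24_7 lc_g_rc_21_3 lc_g_rc_21_3 lc_g_Cert_tree lc_g_rc_21_2 lc_g_rc_21_2 lc_g_rc_23_9 lc_g_rc_24_9 lc_g_Cert_tree lc_g_rc_21_2 lc_g_rc_21_2 lc_g_rc_21_3 lc_g_Cert_tree lc_g_rc_21_2) (@D3.rec (fun _ => (Cert rels S Gen.g)) lc_g_rc_24_9 lc_g_Cert_tree lc_g_rc_26_0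 lc_g_rc_27_6 lc_g_Cert_tree lc_g_rc_26_0 lc_g_rc_21_3 lc_g_Cert_tree lc_g_rc_23_1 lc_g_rc_26_9 lc_g_rc_23_7 lc_g_rc_23_3 lc_g_Cert_tree lc_g_rc_26_3 lc_g_rc_24_1 lc_g_rc_27_6 lc_g_Cert_tree lc_g_rc_25_19 lc_g_Cert_tree lc_g_rc_26_3 lc_g_Cert_tree lc_g_rc_25_3 lc_g_rc_21_2 lc_g_rc_24_3 lc_g_rc_26_0 lc_g_rc_26_3 lc_g_rc_23_7 lc_g_Cert_tree lc_g_rc_21_3 lc_g_Cert_tree lc_g_rc_27_3 lc_g_rc_21_2 lc_g_rc_23_7 lc_g_rc_21_3 lc_g_Cert_tree lc_g_rc_21_3 lc_g_Cert_tree lc_g_rc_27_3 lc_g_rc_21_2 lc_g_rc_21_3 lc_g_rc_23_7 lc_g_rc_27_6 lc_g_Cert_tree lc_g_rc_27_3 lc_g_rc_21_3 lc_g_Cert_tree lc_g_rc_21_2 lc_g_rc_26_6 lc_g_rc_27_9 lc_g_rc_24_7 lc_g_rc_26_9 lc_g_rc_27_9 lc_g_Cert_tree lc_g_rc_21_2 lc_g_rc_24_9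 lc_g_rc_27_3 lc_g_Cert_tree lc_g_rc_24_1 lc_g_rc_21_2 lc_g_rc_21_3 lc_g_rc_23_3 lc_g_rc_26_3) (@D3.rec (fun _ => (Cert rels S Gen.g)) lc_g_rc_27_0 lc_g_rc_23_7 lc_g_rc_23_9 lc_g_Cert_tree lc_g_rc_21_2 lc_g_rc_21_3 lc_g_rc_21_2 lc_g_rc_25_11 lc_g_Cert_tree lc_g_rc_27_3 lc_g_Cert_tree lc_g_Cert_tree lc_g_Cert_tree lc_g_Cert_tree lc_g_rc_21_3 lc_g_rc_27_3 lc_g_rc_23_7 lc_g_rc_26_3 lc_g_rc_24_3 lc_g_rc_27_9 lc_g_rc_27_0 lc_g_rc_27_6 lc_g_rc_23_1 lc_g_Cert_tree lc_g_rc_24_3 lc_g_rc_27_3 lc_g_rc_23_9 lc_g_Cert_tree lc_g_rc_21_3 lc_g_Cert_tree lc_g_rc_25_7 lc_g_rc_26_6 lc_g_rc_21_2 lc_g_rc_27_9 lc_g_Cert_tree lc_g_rc_21_3 lc_g_Cert_tree lc_g_rc_21_2 lc_g_rc_27_3 lc_g_rc_27_0 lc_g_rc_21_2 lc_g_rc_27_3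 lc_g_Cert_tree lc_g_rc_21_2 lc_g_Cert_tree lc_g_rc_23_1 lc_g_rc_23_3 lc_g_Cert_tree lc_g_Cert_tree lc_g_rc_24_7 lc_g_rc_26_3 lc_g_Cert_tree lc_g_rc_26_9 lc_g_rc_27_0 lc_g_rc_26_0 lc_g_rc_21_3 lc_g_rc_23_9 lc_g_rc_27_6 lc_g_rc_21_2 lc_g_Cert_tree lc_g_rc_27_9 lc_g_Cert_tree) (@D3.rec (fun _ => (Cert rels S Gen.g)) lc_g_rc_27_6 lc_g_rc_21_2 lc_g_Cert_tree lc_g_rc_21_3 lc_g_rc_23_1 lc_g_rc_21_2 lc_g_rc_25_3 lc_g_rc_27_3 lc_g_rc_23_1 lc_g_rc_21_2 lc_g_rc_21_2 lc_g_rc_21_3 lc_g_rc_23_7 lc_g_Cert_tree lc_g_rc_23_7 lc_g_rc_27_6 lc_g_rc_26_9 lc_g_rc_21_3 lc_g_Cert_tree lc_g_rc_23_3 lc_g_rc_23_1 lc_g_Cert_tree lc_g_Cert_tree lc_g_Cert_tree lc_g_rc_26_9 lc_g_Cert_tree lc_g_rc_21_3 lc_g_rc_21_3 lc_g_rc_26_9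 lc_g_rc_26_0 lc_g_rc_24_3 lc_g_rc_21_3 lc_g_Cert_tree lc_g_rc_21_2 lc_g_rc_21_3 lc_g_rc_27_9 lc_g_Cert_tree lc_g_rc_23_7 lc_g_rc_21_2 lc_g_Cert_tree lc_g_rc_21_3 lc_g_Cert_tree lc_g_rc_23_3 lc_g_rc_23_3 lc_g_Cert_tree lc_g_rc_24_3 lc_g_rc_27_6 lc_g_rc_21_3 lc_g_Cert_tree lc_g_rc_21_2 lc_g_rc_21_2 lc_g_rc_27_6 lc_g_rc_21_3 lc_g_Cert_tree lc_g_Cert_tree lc_g_rc_21_2 lc_g_rc_23_3 lc_g_rc_24_3 lc_g_rc_26_0 lc_g_rc_21_3 lc_g_Cert_tree lc_g_rc_21_2) (@D3.rec (fun _ => (Cert rels S Gen.g)) lc_g_rc_21_2 lc_g_rc_24_1 lc_g_rc_27_3 lc_g_Cert_tree lc_g_Cert_tree lc_g_rc_27_6 lc_g_Cert_tree lc_g_rc_21_3 lc_g_rc_23_1 lc_g_rc_27_0 lc_g_rc_24_3 lc_g_rc_21_2 lc_g_rc_21_3 lc_g_rc_21_2 lc_g_rc_21_2 lc_g_rc_27_3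 lc_g_rc_23_1 lc_g_rc_24_1 lc_g_rc_24_3 lc_g_rc_27_6 lc_g_rc_27_0 lc_g_Cert_tree lc_g_rc_23_3 lc_g_rc_26_3 lc_g_rc_21_2 lc_g_rc_23_9 lc_g_rc_26_3 lc_g_rc_26_6 lc_g_rc_26_9 lc_g_Cert_tree lc_g_rc_27_6 lc_g_Cert_tree lc_g_rc_21_2 lc_g_rc_23_7 lc_g_rc_26_0 lc_g_rc_21_2 lc_g_rc_21_2 lc_g_rc_27_0 lc_g_Cert_tree lc_g_rc_21_2 lc_g_rc_21_2 lc_g_rc_26_9 lc_g_rc_23_7 lc_g_rc_21_3 lc_g_rc_21_2 lc_g_Cert_tree lc_g_rc_21_3 lc_g_Cert_tree lc_g_Cert_tree lc_g_rc_21_3 lc_g_rc_24_7 lc_g_rc_27_9 lc_g_rc_26_6 lc_g_rc_24_7 lc_g_rc_21_3 lc_g_Cert_tree lc_g_rc_27_6 lc_g_rc_26_6 lc_g_rc_23_7 lc_g_rc_27_6 lc_g_rc_21_3 lc_g_Cert_tree) (@D3.rec (fun _ => (Cert rels S Gen.g)) lc_g_rc_27_0 lc_g_rc_23_3 lc_g_rc_21_2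 lc_g_rc_21_3 lc_g_rc_27_3 lc_g_rc_21_2 lc_g_rc_21_2 lc_g_rc_23_3 lc_g_rc_21_3 lc_g_Cert_tree lc_g_rc_21_2 lc_g_rc_27_6 lc_g_rc_27_0 lc_g_rc_26_9 lc_g_rc_26_6 lc_g_rc_21_2 lc_g_Cert_tree lc_g_rc_25_19 lc_g_rc_23_7 lc_g_rc_24_3 lc_g_rc_21_2 lc_g_rc_21_2 lc_g_rc_21_2 lc_g_rc_21_3 lc_g_rc_26_9 lc_g_Cert_tree lc_g_rc_21_3 lc_g_rc_27_6 lc_g_rc_21_3 lc_g_rc_27_3 lc_g_rc_27_0 lc_g_Cert_tree lc_g_rc_21_3 lc_g_rc_23_7 lc_g_rc_26_3 lc_g_rc_26_0 lc_g_rc_21_3 lc_g_rc_27_6 lc_g_rc_27_6 lc_g_rc_23_7 lc_g_rc_23_3 lc_g_rc_24_7 lc_g_rc_23_1 lc_g_rc_27_9 lc_g_Cert_tree lc_g_Cert_tree lc_g_rc_24_9 lc_g_rc_21_2 lc_g_rc_26_3 lc_g_Cert_tree lc_g_rc_27_3 lc_g_rc_24_1 lc_g_rc_21_2 lc_g_rc_21_3 lc_g_rc_23_3 lc_g_rc_27_9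 lc_g_rc_27_6 lc_g_rc_26_3 lc_g_rc_26_9 lc_g_rc_27_9 lc_g_rc_21_2 lc_g_rc_27_6) (@D3.rec (fun _ => (Cert rels S Gen.g)) lc_g_rc_27_0 lc_g_rc_26_0 lc_g_rc_23_1 lc_g_rc_26_3 lc_g_Cert_tree lc_g_rc_21_3 lc_g_rc_25_19 lc_g_rc_23_9 lc_g_rc_21_2 lc_g_rc_21_2 lc_g_rc_21_3 lc_g_rc_27_6 lc_g_rc_27_6 lc_g_rc_26_0 lc_g_rc_23_9 lc_g_rc_26_6 lc_g_rc_23_3 lc_g_rc_25_3 lc_g_rc_27_3 lc_g_Cert_tree lc_g_rc_21_2 lc_g_rc_26_0 lc_g_rc_26_9 lc_g_rc_21_2 lc_g_rc_21_2 lc_g_Cert_tree lc_g_rc_21_3 lc_g_Cert_tree lc_g_rc_24_7 lc_g_Cert_tree lc_g_rc_26_6 lc_g_Cert_tree lc_g_rc_26_6 lc_g_rc_26_6 lc_g_rc_21_3 lc_g_Cert_tree lc_g_rc_27_3 lc_g_rc_21_2 lc_g_rc_24_3 lc_g_rc_21_2 lc_g_rc_21_3 lc_g_rc_23_7 lc_g_rc_21_3 lc_g_Cert_tree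 lc_g_Cert_tree lc_g_rc_21_2 lc_g_rc_26_0 lc_g_rc_27_3 lc_g_rc_26_6 lc_g_rc_27_3 lc_g_Cert_tree lc_g_rc_26_6 lc_g_rc_21_3 lc_g_rc_26_9 lc_g_rc_24_7 lc_g_rc_26_9 lc_g_Cert_tree lc_g_rc_21_3 lc_g_rc_21_3 lc_g_rc_26_3 lc_g_rc_21_2 lc_g_rc_21_3) (@D3.rec (fun _ => (Cert rels S Gen.g)) lc_g_Cert_tree lc_g_rc_21_2 lc_g_rc_21_3 lc_g_Cert_tree lc_g_Cert_tree lc_g_Cert_tree lc_g_rc_21_2 lc_g_rc_26_3 lc_g_rc_26_0 lc_g_Cert_tree lc_g_rc_23_1 lc_g_rc_27_9 lc_g_rc_21_2 lc_g_Cert_tree lc_g_Cert_tree lc_g_rc_23_7 lc_g_rc_21_2 lc_g_rc_27_9 lc_g_rc_23_3 lc_g_rc_21_3 lc_g_rc_25_15 lc_g_rc_27_6 lc_g_Cert_tree lc_g_rc_21_3 lc_g_Cert_tree lc_g_Cert_tree lc_g_Cert_tree lc_g_Cert_tree lc_g_rc_23_3 lc_g_rc_26_3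 lc_g_rc_23_3 lc_g_rc_24_3 lc_g_rc_23_3 lc_g_Cert_tree lc_g_rc_24_7 lc_g_rc_21_2 lc_g_rc_21_2 lc_g_rc_21_2 lc_g_rc_24_3 lc_g_rc_26_6 lc_g_Cert_tree lc_g_rc_23_9 lc_g_rc_27_9 lc_g_rc_26_6 lc_g_rc_23_1 lc_g_rc_23_9 lc_g_rc_21_2 lc_g_rc_26_6 lc_g_rc_21_3 lc_g_Cert_tree lc_g_rc_27_6 lc_g_rc_21_2 lc_g_rc_21_2 lc_g_rc_26_6 lc_g_Cert_tree lc_g_Cert_tree lc_g_rc_27_9 lc_g_rc_24_3 lc_g_rc_21_2 lc_g_Cert_tree lc_g_rc_21_3 lc_g_Cert_tree) (@D3.rec (fun _ => (Cert rels S Gen.g)) lc_g_rc_24_3 lc_g_rc_27_3 lc_g_rc_23_3 lc_g_rc_26_6 lc_g_rc_24_1 lc_g_rc_23_7 lc_g_rc_24_7 lc_g_rc_27_6 lc_g_rc_21_3 lc_g_Cert_tree lc_g_Cert_tree lc_g_rc_24_3 lc_g_rc_21_2 lc_g_rc_24_3 lc_g_rc_21_2 lc_g_rc_23_3 lc_g_rc_21_2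 lc_g_rc_24_7 lc_g_Cert_tree lc_g_rc_25_15 lc_g_rc_23_3 lc_g_Cert_tree lc_g_rc_24_1 lc_g_Cert_tree lc_g_Cert_tree lc_g_rc_27_3 lc_g_Cert_tree lc_g_rc_26_3 lc_g_Cert_tree lc_g_rc_21_3 lc_g_rc_24_3 lc_g_rc_24_3 lc_g_rc_24_1 lc_g_rc_24_1 lc_g_rc_25_11 lc_g_rc_23_7 lc_g_rc_27_6 lc_g_rc_23_3 lc_g_rc_24_3 lc_g_Cert_tree lc_g_rc_21_2 lc_g_rc_21_3 lc_g_Cert_tree lc_g_Cert_tree lc_g_rc_27_6 lc_g_Cert_tree lc_g_rc_21_2 lc_g_rc_24_3 lc_g_rc_27_3 lc_g_rc_24_3 lc_g_rc_26_6 lc_g_rc_23_9 lc_g_rc_21_3 lc_g_Cert_tree lc_g_rc_26_0 lc_g_rc_21_2 lc_g_rc_24_3 lc_g_rc_27_3 lc_g_rc_27_3 lc_g_rc_26_6 lc_g_rc_23_7 lc_g_rc_23_9) (@D3.rec (fun _ => (Cert rels S Gen.g)) lc_g_rc_23_7 lc_g_rc_27_0 lc_g_rc_26_6 lc_g_rc_21_3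 lc_g_rc_24_1 lc_g_rc_23_3 lc_g_rc_26_3 lc_g_rc_26_0 lc_g_Cert_tree lc_g_rc_26_0 lc_g_Cert_tree lc_g_rc_23_7 lc_g_rc_27_0 lc_g_rc_24_1 lc_g_rc_23_3 lc_g_rc_26_9 lc_g_rc_27_6 lc_g_rc_24_3 lc_g_Cert_tree lc_g_rc_26_9 lc_g_rc_27_6 lc_g_Cert_tree lc_g_rc_26_6 lc_g_rc_24_1 lc_g_rc_26_3 lc_g_rc_24_1 lc_g_rc_23_3 lc_g_rc_27_0 lc_g_rc_26_6 lc_g_rc_26_3 lc_g_rc_23_7 lc_g_rc_27_6 lc_g_rc_26_3 lc_g_rc_26_0 lc_g_rc_25_3 lc_g_rc_24_1 lc_g_Cert_tree lc_g_rc_24_7 lc_g_rc_26_3 lc_g_rc_21_3 lc_g_Cert_tree lc_g_Cert_tree lc_g_Cert_tree lc_g_Cert_tree lc_g_rc_27_0 lc_g_rc_23_1 lc_g_rc_27_3 lc_g_rc_26_9 lc_g_rc_21_3 lc_g_rc_21_3 lc_g_rc_27_6 lc_g_Cert_tree lc_g_rc_23_7 lc_g_rc_27_6 lc_g_rc_24_3 lc_g_Cert_tree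 lc_g_rc_21_3 lc_g_Cert_tree lc_g_rc_24_9 lc_g_rc_21_2 lc_g_rc_21_2 lc_g_rc_24_9) (@D3.rec (fun _ => (Cert rels S Gen.g)) lc_g_rc_25_19 lc_g_Cert_tree lc_g_rc_23_1 lc_g_rc_24_1 lc_g_Cert_tree lc_g_rc_27_6 lc_g_Cert_tree lc_g_rc_21_2 lc_g_Cert_tree lc_g_rc_26_9 lc_g_Cert_tree lc_g_rc_24_3 lc_g_Cert_tree lc_g_rc_26_6 lc_g_rc_24_3 lc_g_rc_23_1 lc_g_rc_24_1 lc_g_rc_24_3 lc_g_rc_27_6 lc_g_rc_24_3 lc_g_Cert_tree lc_g_rc_24_7 lc_g_rc_21_2 lc_g_rc_21_2 lc_g_rc_21_3 lc_g_Cert_tree lc_g_Cert_tree lc_g_rc_21_2 lc_g_rc_27_6 lc_g_Cert_tree lc_g_rc_24_9 lc_g_rc_27_6 lc_g_rc_24_9 lc_g_rc_24_3 lc_g_rc_24_9 lc_g_rc_21_3 lc_g_rc_23_9 lc_g_rc_24_3 lc_g_rc_23_9 lc_g_rc_27_0 lc_g_rc_23_1 lc_g_rc_23_9 lc_g_rc_27_9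 lc_g_rc_27_0 lc_g_rc_21_3 lc_g_Cert_tree lc_g_rc_21_2 lc_g_rc_23_7 lc_g_rc_23_3 lc_g_Cert_tree lc_g_rc_26_6 lc_g_rc_27_6 lc_g_rc_26_0 lc_g_rc_21_3 lc_g_Cert_tree lc_g_rc_27_3 lc_g_rc_21_3 lc_g_rc_21_2 lc_g_rc_24_7 lc_g_rc_23_9 lc_g_rc_21_2 lc_g_rc_25_7) (@D3.rec (fun _ => (Cert rels S Gen.g)) lc_g_rc_21_2 lc_g_rc_21_2 lc_g_rc_27_3 lc_g_rc_24_7 lc_g_rc_26_0 lc_g_rc_26_0 lc_g_rc_21_2 lc_g_rc_23_1 lc_g_rc_26_0 lc_g_rc_24_9 lc_g_rc_24_3 lc_g_rc_24_3 lc_g_Cert_tree lc_g_rc_21_2 lc_g_rc_24_9 lc_g_Cert_tree lc_g_rc_24_7 lc_g_rc_26_0 lc_g_rc_24_9 lc_g_rc_27_0 lc_g_rc_26_9 lc_g_rc_23_7 lc_g_rc_26_0 lc_g_rc_24_9 lc_g_rc_27_3 lc_g_rc_21_3 lc_g_rc_25_11 lc_g_rc_21_2 lc_g_rc_21_3 lc_g_Cert_tree lc_g_rc_21_3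 lc_g_rc_26_9 lc_g_rc_27_6 lc_g_rc_27_9 lc_g_rc_26_3 lc_g_Cert_tree lc_g_Cert_tree lc_g_rc_23_3 lc_g_rc_21_2 lc_g_rc_24_3 lc_g_rc_23_7 lc_g_rc_26_0 lc_g_rc_24_3 lc_g_rc_23_3 lc_g_rc_26_6 lc_g_Cert_tree lc_g_rc_27_6 lc_g_rc_26_0 lc_g_rc_23_3 lc_g_rc_23_7 lc_g_rc_21_3 lc_g_Cert_tree lc_g_rc_21_2 lc_g_rc_24_3 lc_g_rc_23_9 lc_g_rc_27_9 lc_g_rc_21_2 lc_g_rc_21_2 lc_g_rc_23_7 lc_g_rc_27_6 lc_g_rc_21_2 lc_g_rc_23_9) (@D3.rec (fun _ => (Cert rels S Gen.g)) lc_g_rc_26_6 lc_g_rc_23_3 lc_g_Cert_tree lc_g_Cert_tree lc_g_rc_21_2 lc_g_rc_26_3 lc_g_Cert_tree lc_g_rc_24_1 lc_g_rc_26_6 lc_g_Cert_tree lc_g_Cert_tree lc_g_rc_21_2 lc_g_rc_23_3 lc_g_rc_21_3 lc_g_rc_24_3 lc_g_rc_27_6 lc_g_rc_24_1 lc_g_rc_24_3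 lc_g_rc_21_3 lc_g_Cert_tree lc_g_Cert_tree lc_g_rc_24_3 lc_g_rc_21_3 lc_g_rc_24_1 lc_g_rc_21_2 lc_g_rc_27_0 lc_g_rc_27_6 lc_g_rc_21_2 lc_g_rc_25_15 lc_g_rc_23_7 lc_g_Cert_tree lc_g_rc_27_3 lc_g_rc_26_3 lc_g_rc_26_3 lc_g_rc_27_6 lc_g_rc_26_3 lc_g_Cert_tree lc_g_rc_27_0 lc_g_rc_24_3 lc_g_rc_26_3 lc_g_rc_21_3 lc_g_Cert_tree lc_g_Cert_tree lc_g_rc_26_6 lc_g_rc_27_6 lc_g_rc_24_3 lc_g_rc_23_3 lc_g_rc_21_3 lc_g_rc_24_9 lc_g_rc_24_1 lc_g_rc_26_3 lc_g_rc_27_3 lc_g_Cert_tree lc_g_rc_27_6 lc_g_rc_26_0 lc_g_rc_26_0 lc_g_rc_23_7 lc_g_rc_24_7 lc_g_Cert_tree lc_g_rc_24_7 lc_g_rc_23_9 lc_g_Cert_tree) (@D3.rec (fun _ => (Cert rels S Gen.g)) lc_g_rc_27_6 lc_g_rc_21_2 lc_g_Cert_tree lc_g_rc_27_6 lc_g_rc_21_2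 lc_g_rc_25_19 lc_g_rc_27_0 lc_g_rc_24_3 lc_g_Cert_tree lc_g_rc_21_3 lc_g_rc_21_2 lc_g_Cert_tree lc_g_rc_21_2 lc_g_rc_21_3 lc_g_rc_21_3 lc_g_rc_21_3 lc_g_rc_21_2 lc_g_Cert_tree lc_g_rc_23_7 lc_g_rc_21_3 lc_g_rc_23_7 lc_g_rc_24_1 lc_g_rc_27_6 lc_g_rc_27_9 lc_g_rc_27_0 lc_g_rc_21_3 lc_g_rc_24_7 lc_g_Cert_tree lc_g_rc_21_2 lc_g_Cert_tree lc_g_Cert_tree lc_g_rc_24_3 lc_g_rc_26_3 lc_g_rc_27_6 lc_g_rc_21_3 lc_g_Cert_tree lc_g_rc_23_9 lc_g_rc_21_2 lc_g_rc_23_7 lc_g_rc_26_0 lc_g_rc_27_6 lc_g_rc_27_0 lc_g_rc_26_6 lc_g_rc_24_3 lc_g_rc_24_7 lc_g_rc_27_6 lc_g_Cert_tree lc_g_rc_23_3 lc_g_Cert_tree lc_g_rc_27_9 lc_g_rc_21_2 lc_g_Cert_tree lc_g_Cert_tree lc_g_rc_23_3 lc_g_rc_21_2 lc_g_rc_21_2 lc_g_rc_24_1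 lc_g_rc_21_2 lc_g_rc_26_6 lc_g_rc_23_7 lc_g_Cert_tree lc_g_rc_21_2) (@D3.rec (fun _ => (Cert rels S Gen.g)) lc_g_Cert_tree lc_g_rc_27_3 lc_g_rc_27_9 lc_g_Cert_tree lc_g_rc_21_3 lc_g_Cert_tree lc_g_rc_24_3 lc_g_rc_23_9 lc_g_rc_21_2 lc_g_Cert_tree lc_g_rc_27_6 lc_g_rc_24_1 lc_g_rc_24_9 lc_g_rc_27_6 lc_g_rc_21_3 lc_g_Cert_tree lc_g_Cert_tree lc_g_rc_21_2 lc_g_Cert_tree lc_g_Cert_tree lc_g_rc_27_6 lc_g_rc_23_9 lc_g_rc_23_7 lc_g_rc_26_3 lc_g_rc_21_3 lc_g_Cert_tree lc_g_rc_23_1 lc_g_rc_21_2 lc_g_rc_21_3 lc_g_rc_21_3 lc_g_rc_27_6 lc_g_rc_21_3 lc_g_rc_21_2 lc_g_rc_21_3 lc_g_rc_24_7 lc_g_Cert_tree lc_g_rc_27_3 lc_g_rc_23_7 lc_g_rc_26_6 lc_g_rc_21_3 lc_g_rc_27_0 lc_g_rc_27_0 lc_g_rc_25_19 lc_g_rc_24_3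 lc_g_rc_27_0 lc_g_rc_26_0 lc_g_rc_23_1 lc_g_rc_26_6 lc_g_rc_27_6 lc_g_rc_27_0 lc_g_rc_21_3 lc_g_Cert_tree lc_g_rc_21_3 lc_g_rc_27_6 lc_g_rc_21_3 lc_g_rc_21_3 lc_g_rc_25_15 lc_g_rc_24_3 lc_g_rc_21_3 lc_g_rc_23_7 lc_g_Cert_tree lc_g_rc_21_2) (@D3.rec (fun _ => (Cert rels S Gen.g)) lc_g_rc_27_6 lc_g_rc_23_3 lc_g_rc_24_1 lc_g_rc_24_3 lc_g_rc_25_7 lc_g_rc_23_9 lc_g_rc_25_19 lc_g_rc_27_9 lc_g_rc_27_9 lc_g_rc_23_9 lc_g_rc_24_7 lc_g_rc_27_3 lc_g_Cert_tree lc_g_rc_23_7 lc_g_rc_26_0 lc_g_rc_27_9 lc_g_rc_21_2 lc_g_rc_25_3 lc_g_rc_26_3 lc_g_rc_26_6 lc_g_rc_27_9 lc_g_rc_23_3 lc_g_rc_27_6 lc_g_rc_27_6 lc_g_rc_21_3 lc_g_rc_26_0 lc_g_rc_24_3 lc_g_rc_26_3 lc_g_Cert_tree lc_g_rc_26_9 lc_g_Cert_tree lc_g_rc_27_3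 lc_g_rc_24_3 lc_g_rc_24_3 lc_g_rc_26_3 lc_g_rc_27_3 lc_g_rc_26_3 lc_g_rc_21_3 lc_g_rc_23_9 lc_g_rc_23_3 lc_g_Cert_tree lc_g_Cert_tree lc_g_rc_26_3 lc_g_rc_23_9 lc_g_rc_21_3 lc_g_Cert_tree lc_g_rc_21_3 lc_g_rc_27_3 lc_g_rc_27_3 lc_g_rc_27_9 lc_g_rc_27_3 lc_g_rc_21_3 lc_g_rc_21_2 lc_g_rc_21_2 lc_g_rc_21_2 lc_g_rc_21_3 lc_g_rc_23_3 lc_g_rc_21_2 lc_g_Cert_tree lc_g_rc_27_6 lc_g_rc_21_3 lc_g_Cert_tree) (@D3.rec (fun _ => (Cert rels S Gen.g)) lc_g_rc_23_7 lc_g_rc_23_1 lc_g_rc_26_3 lc_g_rc_27_3 lc_g_Cert_tree lc_g_Cert_tree lc_g_rc_21_2 lc_g_rc_23_3 lc_g_rc_24_7 lc_g_rc_23_1 lc_g_rc_23_7 lc_g_Cert_tree lc_g_rc_27_9 lc_g_rc_26_6 lc_g_rc_27_6 lc_g_rc_21_3 lc_g_Cert_tree lc_g_rc_21_2 lc_g_Cert_tree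 lc_g_Cert_tree lc_g_rc_23_9 lc_g_rc_23_3 lc_g_Cert_tree lc_g_rc_24_7 lc_g_rc_24_3 lc_g_rc_26_6 lc_g_rc_27_6 lc_g_rc_21_2 lc_g_rc_27_0 lc_g_Cert_tree lc_g_Cert_tree lc_g_Cert_tree lc_g_rc_21_3 lc_g_Cert_tree lc_g_Cert_tree lc_g_rc_21_2 lc_g_rc_21_3 lc_g_Cert_tree lc_g_Cert_tree lc_g_rc_21_2 lc_g_Cert_tree lc_g_rc_23_7 lc_g_rc_26_6 lc_g_rc_27_3 lc_g_rc_21_2 lc_g_Cert_tree lc_g_rc_21_2 lc_g_rc_21_2 lc_g_rc_23_3 lc_g_rc_26_3 lc_g_rc_27_9 lc_g_rc_21_3 lc_g_Cert_tree lc_g_rc_21_2 lc_g_Cert_tree lc_g_Cert_tree lc_g_Cert_tree lc_g_rc_26_3 lc_g_rc_21_3 lc_g_rc_26_3 lc_g_rc_27_0 lc_g_rc_21_3) (@D3.rec (fun _ => (Cert rels S Gen.g)) lc_g_rc_23_7 lc_g_rc_27_6 lc_g_rc_21_3 lc_g_Cert_tree lc_g_Cert_tree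 lc_g_Cert_tree lc_g_rc_21_3 lc_g_Cert_tree lc_g_Cert_tree lc_g_rc_21_2 lc_g_rc_21_3 lc_g_Cert_tree lc_g_Cert_tree lc_g_rc_21_2 lc_g_rc_21_2 lc_g_rc_21_3 lc_g_Cert_tree lc_g_rc_21_2 lc_g_rc_21_2 lc_g_rc_21_2 lc_g_rc_21_2 lc_g_rc_26_9 lc_g_Cert_tree lc_g_rc_21_2 lc_g_rc_21_2 lc_g_rc_26_9 lc_g_rc_21_2 lc_g_rc_27_9 lc_g_rc_27_0 lc_g_rc_21_3 lc_g_Cert_tree lc_g_rc_27_9 lc_g_Cert_tree lc_g_rc_21_3 lc_g_Cert_tree lc_g_rc_21_3 lc_g_Cert_tree lc_g_rc_21_2 lc_g_Cert_tree lc_g_rc_27_9 lc_g_rc_21_3 lc_g_Cert_tree lc_g_Cert_tree lc_g_rc_21_2 lc_g_rc_21_2 lc_g_Cert_tree lc_g_rc_21_2 lc_g_rc_26_9 lc_g_rc_24_9 lc_g_rc_27_0 lc_g_rc_27_3 lc_g_rc_27_9 lc_g_rc_27_0 lc_g_rc_21_3 lc_g_Cert_tree lc_g_Cert_tree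 lc_g_Cert_tree lc_g_rc_21_2 lc_g_rc_27_3 lc_g_rc_21_3 lc_g_Cert_tree lc_g_Cert_tree) (@D3.rec (fun _ => (Cert rels S Gen.g)) lc_g_rc_21_2 lc_g_rc_21_3 lc_g_Cert_tree lc_g_rc_24_3 lc_g_Cert_tree lc_g_rc_21_3 lc_g_rc_27_3 lc_g_rc_21_2 lc_g_rc_23_7 lc_g_rc_27_9 lc_g_rc_27_6 lc_g_Cert_tree lc_g_rc_27_0 lc_g_rc_21_2 lc_g_rc_21_2 lc_g_rc_27_9 lc_g_rc_26_6 lc_g_Cert_tree lc_g_rc_21_2 lc_g_rc_21_2 lc_g_Cert_tree lc_g_rc_21_3 lc_g_rc_26_0 lc_g_rc_21_3 lc_g_Cert_tree lc_g_rc_27_3 lc_g_rc_21_2 lc_g_rc_23_9 lc_g_rc_21_3 lc_g_Cert_tree lc_g_Cert_tree lc_g_rc_24_3 lc_g_rc_27_6 lc_g_Cert_tree lc_g_rc_26_6 lc_g_rc_26_6 lc_g_Cert_tree lc_g_rc_26_3 lc_g_rc_24_9 lc_g_rc_26_0 lc_g_rc_23_9 lc_g_Cert_tree lc_g_rc_23_9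 lc_g_rc_27_0 lc_g_rc_24_3 lc_g_rc_21_3 lc_g_rc_21_3 lc_g_rc_21_2 lc_g_rc_26_3 lc_g_rc_27_9 lc_g_Cert_tree lc_g_rc_27_3 lc_g_rc_26_6 lc_g_rc_26_0 lc_g_rc_27_6 lc_g_rc_23_1 lc_g_rc_27_3 lc_g_rc_27_0 lc_g_rc_24_3 lc_g_rc_23_1 lc_g_rc_26_6 lc_g_Cert_tree) (@D3.rec (fun _ => (Cert rels S Gen.g)) lc_g_rc_23_9 lc_g_rc_24_3 lc_g_Cert_tree lc_g_rc_27_3 lc_g_rc_27_6 lc_g_rc_21_3 lc_g_Cert_tree lc_g_rc_21_2 lc_g_rc_23_9 lc_g_rc_27_6 lc_g_rc_27_6 lc_g_rc_27_0 lc_g_Cert_tree lc_g_rc_21_3 lc_g_rc_24_7 lc_g_rc_21_3 lc_g_Cert_tree lc_g_rc_21_2 lc_g_rc_25_7 lc_g_rc_27_6 lc_g_rc_25_3 lc_g_rc_27_6 lc_g_rc_24_3 lc_g_Cert_tree lc_g_Cert_tree lc_g_Cert_tree lc_g_rc_27_6 lc_g_Cert_tree lc_g_rc_23_1 lc_g_rc_23_3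 lc_g_rc_26_3 lc_g_rc_21_3 lc_g_rc_27_3 lc_g_rc_24_1 lc_g_rc_24_1 lc_g_rc_26_0 lc_g_rc_26_3 lc_g_rc_24_3 lc_g_rc_26_6 lc_g_rc_26_3 lc_g_rc_26_6 lc_g_rc_23_9 lc_g_rc_21_3 lc_g_rc_27_6 lc_g_rc_27_6 lc_g_rc_27_0 lc_g_rc_23_7 lc_g_rc_21_3 lc_g_Cert_tree lc_g_rc_26_6 lc_g_rc_23_3 lc_g_Cert_tree lc_g_Cert_tree lc_g_Cert_tree lc_g_rc_21_2 lc_g_rc_21_3 lc_g_Cert_tree lc_g_rc_21_2 lc_g_rc_21_3 lc_g_Cert_tree lc_g_rc_21_3 lc_g_rc_26_3) (@D3.rec (fun _ => (Cert rels S Gen.g)) lc_g_rc_26_3 lc_g_rc_21_2 lc_g_rc_27_6 lc_g_rc_24_3 lc_g_rc_21_2 lc_g_rc_21_3 lc_g_Cert_tree lc_g_rc_23_7 lc_g_rc_21_2 lc_g_rc_21_3 lc_g_Cert_tree lc_g_Cert_tree lc_g_rc_21_2 lc_g_Cert_tree lc_g_rc_21_3 lc_g_rc_21_2 lc_g_rc_27_9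 lc_g_rc_24_3 lc_g_rc_23_3 lc_g_Cert_tree lc_g_rc_26_3 lc_g_rc_23_3 lc_g_rc_25_3 lc_g_rc_27_9 lc_g_rc_26_6 lc_g_rc_26_9 lc_g_Cert_tree lc_g_rc_26_0 lc_g_rc_21_2 lc_g_rc_26_6 lc_g_rc_23_9 lc_g_rc_21_2 lc_g_rc_27_0 lc_g_rc_21_2 lc_g_rc_21_3 lc_g_Cert_tree lc_g_rc_24_1 lc_g_rc_26_9 lc_g_rc_21_3 lc_g_Cert_tree lc_g_Cert_tree lc_g_rc_21_2 lc_g_rc_24_3 lc_g_rc_21_2 lc_g_rc_23_3 lc_g_Cert_tree lc_g_rc_21_2 lc_g_rc_21_2 lc_g_Cert_tree lc_g_rc_26_9 lc_g_rc_24_1 lc_g_rc_26_0 lc_g_rc_23_7 lc_g_Cert_tree lc_g_rc_24_7 lc_g_rc_27_6 lc_g_rc_21_3 lc_g_Cert_tree lc_g_Cert_tree lc_g_rc_21_2 lc_g_rc_24_7 lc_g_Cert_tree) (@D3.rec (fun _ => (Cert rels S Gen.g)) lc_g_rc_26_6 lc_g_rc_27_0 lc_g_Cert_tree lc_g_rc_21_3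 lc_g_rc_21_2 lc_g_rc_26_9 lc_g_rc_26_6 lc_g_rc_25_19 lc_g_rc_24_3 lc_g_rc_27_6 lc_g_rc_26_3 lc_g_Cert_tree lc_g_Cert_tree lc_g_rc_21_2 lc_g_rc_21_3 lc_g_rc_21_2 lc_g_rc_27_3 lc_g_rc_26_6 lc_g_Cert_tree lc_g_Cert_tree lc_g_rc_21_2 lc_g_rc_21_2 lc_g_rc_21_2 lc_g_rc_23_9 lc_g_Cert_tree lc_g_rc_23_7 lc_g_rc_21_2 lc_g_Cert_tree lc_g_rc_21_3 lc_g_Cert_tree lc_g_rc_27_0 lc_g_rc_24_9 lc_g_rc_24_7 lc_g_rc_26_3 lc_g_rc_27_3 lc_g_rc_26_3 lc_g_rc_21_2 lc_g_Cert_tree lc_g_rc_21_2 lc_g_Cert_tree lc_g_Cert_tree lc_g_rc_21_3 lc_g_rc_21_3 lc_g_Cert_tree lc_g_rc_21_2 lc_g_rc_21_2 lc_g_rc_27_9 lc_g_rc_27_0 lc_g_rc_21_2 lc_g_rc_26_6 lc_g_Cert_tree lc_g_rc_26_3 lc_g_Cert_tree lc_g_rc_21_3 lc_g_rc_27_9 lc_g_rc_21_3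 lc_g_Cert_tree lc_g_rc_27_0 lc_g_rc_26_3 lc_g_rc_26_9 lc_g_rc_21_3 lc_g_rc_27_3)
def ce_g_20 : D2 → D3 → (Cert rels S Gen.g) := @D2.rec (fun _ => D3 → (Cert rels S Gen.g)) (@D3.rec (fun _ => (Cert rels S Gen.g)) lc_g_rc_26_0 lc_g_rc_26_3 lc_g_rc_27_6 lc_g_rc_26_6 lc_g_rc_27_6 lc_g_Cert_tree lc_g_rc_21_3 lc_g_rc_21_2 lc_g_rc_24_7 lc_g_rc_27_6 lc_g_rc_26_3 lc_g_rc_21_2 lc_g_rc_27_3 lc_g_rc_27_6 lc_g_rc_23_3 lc_g_rc_26_9 lc_g_rc_21_2 lc_g_Cert_tree lc_g_rc_27_6 lc_g_rc_21_3 lc_g_rc_27_6 lc_g_rc_27_3 lc_g_rc_26_6 lc_g_rc_27_6 lc_g_Cert_tree lc_g_rc_21_2 lc_g_rc_27_6 lc_g_rc_27_6 lc_g_rc_25_3 lc_g_rc_23_7 lc_g_rc_27_6 lc_g_rc_26_6 lc_g_rc_23_3 lc_g_rc_21_3 lc_g_Cert_tree lc_g_Cert_tree lc_g_rc_27_0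 lc_g_rc_24_1 lc_g_rc_21_2 lc_g_Cert_tree lc_g_rc_26_0 lc_g_rc_21_3 lc_g_rc_24_9 lc_g_Cert_tree lc_g_rc_21_2 lc_g_Cert_tree lc_g_rc_26_6 lc_g_rc_27_6 lc_g_rc_21_3 lc_g_Cert_tree lc_g_rc_24_7 lc_g_rc_21_2 lc_g_rc_21_3 lc_g_rc_26_6 lc_g_Cert_tree lc_g_rc_21_2 lc_g_rc_21_3 lc_g_Cert_tree lc_g_rc_21_2 lc_g_Cert_tree lc_g_rc_23_7 lc_g_rc_24_3) (@D3.rec (fun _ => (Cert rels S Gen.g)) lc_g_rc_27_3 lc_g_Cert_tree lc_g_rc_24_7 lc_g_rc_27_6 lc_g_Cert_tree lc_g_rc_21_3 lc_g_rc_26_9 lc_g_rc_27_6 lc_g_rc_23_9 lc_g_rc_21_3 lc_g_rc_26_6 lc_g_rc_26_6 lc_g_Cert_tree lc_g_rc_27_6 lc_g_rc_27_0 lc_g_rc_24_3 lc_g_rc_24_1 lc_g_Cert_tree lc_g_rc_21_3 lc_g_rc_21_3 lc_g_rc_27_0 lc_g_rc_27_0 lc_g_rc_27_3 lc_g_Cert_tree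 lc_g_rc_27_0 lc_g_rc_21_2 lc_g_rc_21_2 lc_g_rc_27_6 lc_g_rc_21_3 lc_g_rc_27_3 lc_g_rc_21_3 lc_g_rc_21_3 lc_g_rc_26_9 lc_g_rc_21_3 lc_g_rc_26_6 lc_g_rc_21_2 lc_g_rc_26_6 lc_g_rc_24_1 lc_g_rc_23_9 lc_g_rc_27_0 lc_g_rc_27_0 lc_g_Cert_tree lc_g_Cert_tree lc_g_rc_23_7 lc_g_Cert_tree lc_g_rc_23_3 lc_g_rc_21_3 lc_g_rc_26_3 lc_g_rc_26_3 lc_g_rc_23_3 lc_g_rc_21_3 lc_g_Cert_tree lc_g_rc_21_2 lc_g_rc_21_2 lc_g_rc_23_7 lc_g_rc_27_6 lc_g_Cert_tree lc_g_rc_21_3 lc_g_rc_27_6 lc_g_rc_24_9 lc_g_rc_27_6 lc_g_rc_21_3) (@D3.rec (fun _ => (Cert rels S Gen.g)) lc_g_rc_26_9 lc_g_rc_26_0 lc_g_rc_27_6 lc_g_rc_27_6 lc_g_rc_27_9 lc_g_rc_21_3 lc_g_rc_26_9 lc_g_rc_21_2 lc_g_rc_26_3 lc_g_rc_24_1 lc_g_rc_23_1 lc_g_rc_24_3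 lc_g_rc_26_0 lc_g_rc_21_2 lc_g_Cert_tree lc_g_rc_21_3 lc_g_Cert_tree lc_g_Cert_tree lc_g_rc_21_2 lc_g_rc_27_0 lc_g_rc_23_7 lc_g_rc_26_6 lc_g_rc_23_7 lc_g_rc_27_0 lc_g_rc_21_3 lc_g_Cert_tree lc_g_Cert_tree lc_g_rc_23_7 lc_g_rc_26_6 lc_g_rc_27_6 lc_g_rc_27_6 lc_g_rc_21_3 lc_g_Cert_tree lc_g_Cert_tree lc_g_rc_21_2 lc_g_rc_26_6 lc_g_rc_23_7 lc_g_rc_27_0 lc_g_rc_23_3 lc_g_rc_21_3 lc_g_Cert_tree lc_g_rc_27_3 lc_g_rc_27_0 lc_g_rc_21_2 lc_g_rc_26_9 lc_g_rc_26_9 lc_g_rc_21_3 lc_g_rc_26_6 lc_g_rc_21_3 lc_g_Cert_tree lc_g_rc_24_9 lc_g_rc_23_9 lc_g_rc_21_3 lc_g_Cert_tree lc_g_Cert_tree lc_g_rc_21_2 lc_g_rc_23_7 lc_g_rc_21_3 lc_g_rc_24_9 lc_g_rc_27_0 lc_g_Cert_tree lc_g_rc_21_3) (@D3.rec (fun _ => (Cert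 rels S Gen.g)) lc_g_Cert_tree lc_g_Cert_tree lc_g_rc_21_2 lc_g_rc_21_3 lc_g_rc_24_1 lc_g_rc_21_2 lc_g_Cert_tree lc_g_Cert_tree lc_g_rc_27_6 lc_g_rc_21_3 lc_g_rc_23_7 lc_g_rc_21_2 lc_g_rc_26_6 lc_g_rc_26_0 lc_g_Cert_tree lc_g_Cert_tree lc_g_rc_21_3 lc_g_rc_27_6 lc_g_rc_26_3 lc_g_Cert_tree lc_g_Cert_tree lc_g_Cert_tree lc_g_rc_21_3 lc_g_rc_23_7 lc_g_rc_26_6 lc_g_rc_21_3 lc_g_rc_21_2 lc_g_Cert_tree lc_g_rc_26_0 lc_g_rc_27_3 lc_g_Cert_tree lc_g_Cert_tree lc_g_rc_27_6 lc_g_Cert_tree lc_g_rc_25_15 lc_g_rc_21_2 lc_g_rc_21_2 lc_g_rc_27_6 lc_g_rc_24_7 lc_g_rc_24_1 lc_g_rc_21_3 lc_g_Cert_tree lc_g_rc_21_2 lc_g_rc_21_2 lc_g_rc_27_3 lc_g_rc_21_3 lc_g_rc_21_2 lc_g_rc_21_2 lc_g_rc_24_7 lc_g_rc_27_3 lc_g_Cert_tree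 lc_g_rc_21_2 lc_g_rc_27_6 lc_g_Cert_tree lc_g_rc_27_6 lc_g_Cert_tree lc_g_rc_24_7 lc_g_rc_27_6 lc_g_rc_21_2 lc_g_rc_23_3 lc_g_rc_24_1 lc_g_rc_26_3) (@D3.rec (fun _ => (Cert rels S Gen.g)) lc_g_rc_23_7 lc_g_rc_24_7 lc_g_rc_23_1 lc_g_rc_27_9 lc_g_rc_26_3 lc_g_rc_23_7 lc_g_rc_24_3 lc_g_Cert_tree lc_g_rc_23_7 lc_g_rc_24_7 lc_g_rc_26_3 lc_g_Cert_tree lc_g_rc_21_3 lc_g_rc_21_2 lc_g_rc_21_3 lc_g_rc_25_7 lc_g_rc_21_3 lc_g_Cert_tree lc_g_rc_21_2 lc_g_rc_23_3 lc_g_rc_26_6 lc_g_Cert_tree lc_g_rc_23_7 lc_g_rc_27_6 lc_g_Cert_tree lc_g_rc_21_3 lc_g_Cert_tree lc_g_rc_23_9 lc_g_rc_21_2 lc_g_Cert_tree lc_g_rc_21_2 lc_g_rc_27_9 lc_g_rc_27_9 lc_g_rc_27_6 lc_g_rc_23_7 lc_g_rc_26_0 lc_g_rc_21_3 lc_g_rc_27_6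 lc_g_Cert_tree lc_g_rc_27_3 lc_g_rc_24_1 lc_g_Cert_tree lc_g_Cert_tree lc_g_Cert_tree lc_g_rc_24_3 lc_g_rc_21_2 lc_g_rc_21_2 lc_g_rc_23_9 lc_g_Cert_tree lc_g_Cert_tree lc_g_rc_27_9 lc_g_rc_26_0 lc_g_rc_27_3 lc_g_rc_21_3 lc_g_rc_26_3 lc_g_rc_26_3 lc_g_rc_24_1 lc_g_rc_24_3 lc_g_Cert_tree lc_g_rc_23_7 lc_g_rc_27_3 lc_g_rc_27_6) (@D3.rec (fun _ => (Cert rels S Gen.g)) lc_g_rc_27_3 lc_g_rc_23_1 lc_g_rc_26_3 lc_g_Cert_tree lc_g_rc_26_3 lc_g_rc_23_3 lc_g_Cert_tree lc_g_rc_21_2 lc_g_rc_21_2 lc_g_rc_21_2 lc_g_rc_21_2 lc_g_rc_21_2 lc_g_Cert_tree lc_g_rc_21_2 lc_g_rc_21_3 lc_g_Cert_tree lc_g_rc_24_3 lc_g_Cert_tree lc_g_rc_21_3 lc_g_Cert_tree lc_g_rc_27_3 lc_g_rc_21_3 lc_g_Cert_tree lc_g_rc_21_3 lc_g_Cert_tree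 lc_g_rc_25_19 lc_g_rc_23_3 lc_g_rc_25_15 lc_g_Cert_tree lc_g_rc_23_3 lc_g_rc_24_1 lc_g_rc_26_9 lc_g_Cert_tree lc_g_rc_27_6 lc_g_rc_21_3 lc_g_rc_21_2 lc_g_Cert_tree lc_g_Cert_tree lc_g_Cert_tree lc_g_Cert_tree lc_g_rc_23_3 lc_g_rc_21_3 lc_g_rc_26_3 lc_g_Cert_tree lc_g_rc_27_6 lc_g_rc_23_3 lc_g_rc_26_9 lc_g_rc_26_3 lc_g_rc_21_3 lc_g_Cert_tree lc_g_rc_21_3 lc_g_rc_24_9 lc_g_rc_26_6 lc_g_rc_27_6 lc_g_rc_21_2 lc_g_Cert_tree lc_g_Cert_tree lc_g_rc_26_0 lc_g_rc_21_3 lc_g_Cert_tree lc_g_rc_26_0 lc_g_rc_26_6) (@D3.rec (fun _ => (Cert rels S Gen.g)) lc_g_rc_27_3 lc_g_Cert_tree lc_g_Cert_tree lc_g_rc_26_6 lc_g_rc_26_6 lc_g_rc_26_3 lc_g_rc_21_3 lc_g_Cert_tree lc_g_rc_24_7 lc_g_rc_21_2 lc_g_rc_24_7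 lc_g_rc_25_3 lc_g_rc_26_3 lc_g_rc_21_2 lc_g_rc_21_2 lc_g_rc_21_3 lc_g_Cert_tree lc_g_rc_21_2 lc_g_rc_27_3 lc_g_rc_21_2 lc_g_rc_21_3 lc_g_rc_26_9 lc_g_rc_21_3 lc_g_Cert_tree lc_g_rc_21_2 lc_g_rc_21_2 lc_g_rc_27_6 lc_g_rc_21_2 lc_g_rc_26_6 lc_g_rc_27_9 lc_g_rc_24_3 lc_g_rc_21_3 lc_g_Cert_tree lc_g_rc_21_2 lc_g_rc_24_1 lc_g_rc_27_0 lc_g_rc_23_9 lc_g_rc_26_6 lc_g_rc_21_3 lc_g_rc_21_2 lc_g_rc_27_6 lc_g_rc_27_3 lc_g_rc_21_3 lc_g_rc_21_2 lc_g_rc_26_3 lc_g_rc_21_2 lc_g_rc_24_9 lc_g_rc_21_3 lc_g_Cert_tree lc_g_Cert_tree lc_g_rc_21_3 lc_g_rc_21_2 lc_g_rc_23_3 lc_g_rc_24_7 lc_g_rc_26_3 lc_g_Cert_tree lc_g_rc_27_6 lc_g_rc_27_6 lc_g_rc_21_3 lc_g_rc_21_2 lc_g_Cert_tree lc_g_rc_21_3) (@D3.rec (fun _ =>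 (Cert rels S Gen.g)) lc_g_Cert_tree lc_g_rc_21_2 lc_g_rc_27_6 lc_g_rc_21_2 lc_g_Cert_tree lc_g_Cert_tree lc_g_rc_21_2 lc_g_rc_27_0 lc_g_Cert_tree lc_g_rc_21_2 lc_g_Cert_tree lc_g_rc_21_2 lc_g_rc_23_7 lc_g_rc_26_0 lc_g_rc_24_3 lc_g_rc_23_9 lc_g_Cert_tree lc_g_rc_23_3 lc_g_rc_21_3 lc_g_rc_21_2 lc_g_rc_27_6 lc_g_rc_24_7 lc_g_rc_24_7 lc_g_rc_27_6 lc_g_rc_26_3 lc_g_rc_24_3 lc_g_rc_21_3 lc_g_rc_27_3 lc_g_rc_24_1 lc_g_Cert_tree lc_g_rc_23_3 lc_g_rc_26_3 lc_g_rc_27_6 lc_g_Cert_tree lc_g_rc_21_2 lc_g_rc_26_3 lc_g_rc_21_3 lc_g_rc_21_3 lc_g_rc_21_2 lc_g_rc_26_6 lc_g_rc_23_7 lc_g_rc_26_3 lc_g_rc_27_0 lc_g_rc_26_3 lc_g_rc_21_3 lc_g_rc_27_3 lc_g_rc_23_7 lc_g_rc_27_3 lc_g_rc_27_9 lc_g_rc_27_3 lc_g_rc_27_6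 lc_g_rc_21_3 lc_g_Cert_tree lc_g_Cert_tree lc_g_Cert_tree lc_g_Cert_tree lc_g_Cert_tree lc_g_rc_21_2 lc_g_rc_21_3 lc_g_Cert_tree lc_g_Cert_tree lc_g_rc_23_1) (@D3.rec (fun _ => (Cert rels S Gen.g)) lc_g_rc_21_2 lc_g_rc_21_3 lc_g_rc_21_2 lc_g_Cert_tree lc_g_rc_27_9 lc_g_rc_21_3 lc_g_Cert_tree lc_g_rc_25_3 lc_g_rc_23_3 lc_g_rc_26_0 lc_g_rc_21_3 lc_g_rc_27_0 lc_g_Cert_tree lc_g_rc_21_3 lc_g_rc_21_2 lc_g_rc_23_7 lc_g_rc_26_3 lc_g_rc_21_3 lc_g_Cert_tree lc_g_rc_21_2 lc_g_rc_21_3 lc_g_rc_21_3 lc_g_Cert_tree lc_g_rc_27_0 lc_g_rc_21_2 lc_g_rc_26_3 lc_g_rc_23_3 lc_g_rc_26_6 lc_g_rc_23_3 lc_g_rc_27_6 lc_g_Cert_tree lc_g_rc_21_2 lc_g_rc_23_9 lc_g_rc_24_1 lc_g_Cert_tree lc_g_rc_27_6 lc_g_rc_27_0 lc_g_rc_27_9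 lc_g_rc_21_2 lc_g_Cert_tree lc_g_Cert_tree lc_g_rc_21_3 lc_g_rc_26_3 lc_g_rc_26_6 lc_g_rc_26_6 lc_g_Cert_tree lc_g_rc_21_2 lc_g_rc_21_3 lc_g_Cert_tree lc_g_rc_21_2 lc_g_rc_23_9 lc_g_rc_27_0 lc_g_rc_24_9 lc_g_rc_27_6 lc_g_Cert_tree lc_g_rc_27_3 lc_g_rc_21_2 lc_g_rc_21_3 lc_g_Cert_tree lc_g_rc_21_2 lc_g_rc_21_2 lc_g_rc_21_2) (@D3.rec (fun _ => (Cert rels S Gen.g)) lc_g_rc_21_2 lc_g_rc_21_2 lc_g_rc_21_3 lc_g_Cert_tree lc_g_rc_21_2 lc_g_rc_27_0 lc_g_Cert_tree lc_g_rc_26_3 lc_g_rc_26_0 lc_g_rc_26_6 lc_g_Cert_tree lc_g_rc_27_6 lc_g_rc_26_3 lc_g_rc_21_3 lc_g_rc_21_3 lc_g_rc_21_2 lc_g_rc_26_0 lc_g_Cert_tree lc_g_rc_23_9 lc_g_rc_26_6 lc_g_rc_27_3 lc_g_rc_24_3 lc_g_rc_21_3 lc_g_Cert_tree lc_g_rc_21_2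 lc_g_rc_21_2 lc_g_rc_27_0 lc_g_rc_23_1 lc_g_rc_25_19 lc_g_rc_21_2 lc_g_rc_27_6 lc_g_rc_21_2 lc_g_rc_24_7 lc_g_rc_21_2 lc_g_rc_23_3 lc_g_rc_27_6 lc_g_rc_27_0 lc_g_rc_27_0 lc_g_rc_21_2 lc_g_Cert_tree lc_g_Cert_tree lc_g_rc_23_1 lc_g_Cert_tree lc_g_rc_27_6 lc_g_rc_21_3 lc_g_rc_21_2 lc_g_Cert_tree lc_g_rc_27_0 lc_g_rc_24_7 lc_g_rc_24_1 lc_g_rc_26_0 lc_g_rc_27_6 lc_g_rc_24_1 lc_g_rc_23_9 lc_g_Cert_tree lc_g_rc_27_0 lc_g_rc_21_2 lc_g_rc_21_2 lc_g_rc_27_3 lc_g_rc_23_1 lc_g_rc_27_9 lc_g_rc_21_3) (@D3.rec (fun _ => (Cert rels S Gen.g)) lc_g_Cert_tree lc_g_rc_26_9 lc_g_Cert_tree lc_g_rc_23_3 lc_g_rc_23_7 lc_g_rc_24_1 lc_g_rc_26_6 lc_g_Cert_tree lc_g_rc_21_3 lc_g_rc_26_6 lc_g_Cert_tree lc_g_rc_23_3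 lc_g_Cert_tree lc_g_rc_21_3 lc_g_Cert_tree lc_g_rc_21_3 lc_g_Cert_tree lc_g_rc_24_3 lc_g_Cert_tree lc_g_Cert_tree lc_g_rc_26_6 lc_g_Cert_tree lc_g_Cert_tree lc_g_rc_23_3 lc_g_Cert_tree lc_g_rc_21_3 lc_g_Cert_tree lc_g_rc_23_9 lc_g_rc_26_9 lc_g_rc_27_6 lc_g_Cert_tree lc_g_rc_27_6 lc_g_rc_24_3 lc_g_rc_21_2 lc_g_rc_26_6 lc_g_rc_26_3 lc_g_rc_27_6 lc_g_rc_26_6 lc_g_rc_21_3 lc_g_Cert_tree lc_g_rc_25_3 lc_g_rc_23_7 lc_g_rc_21_2 lc_g_rc_27_3 lc_g_Cert_tree lc_g_rc_21_2 lc_g_rc_27_6 lc_g_rc_21_3 lc_g_Cert_tree lc_g_rc_21_2 lc_g_Cert_tree lc_g_Cert_tree lc_g_rc_26_6 lc_g_rc_23_9 lc_g_rc_24_1 lc_g_rc_21_3 lc_g_Cert_tree lc_g_rc_21_2 lc_g_Cert_tree lc_g_rc_24_1 lc_g_rc_21_3 lc_g_rc_21_2) (@D3.rec (fun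 _ => (Cert rels S Gen.g)) lc_g_Cert_tree lc_g_rc_23_7 lc_g_rc_25_15 lc_g_rc_21_3 lc_g_rc_23_7 lc_g_rc_24_3 lc_g_rc_21_3 lc_g_Cert_tree lc_g_rc_21_2 lc_g_Cert_tree lc_g_rc_26_0 lc_g_Cert_tree lc_g_rc_26_3 lc_g_Cert_tree lc_g_Cert_tree lc_g_rc_24_7 lc_g_rc_27_6 lc_g_rc_21_3 lc_g_rc_21_2 lc_g_rc_27_0 lc_g_rc_21_3 lc_g_rc_21_3 lc_g_rc_26_6 lc_g_rc_21_3 lc_g_rc_21_3 lc_g_Cert_tree lc_g_rc_21_2 lc_g_rc_21_2 lc_g_rc_26_6 lc_g_rc_21_3 lc_g_Cert_tree lc_g_Cert_tree lc_g_rc_21_3 lc_g_Cert_tree lc_g_rc_27_3 lc_g_rc_26_3 lc_g_rc_26_3 lc_g_rc_27_9 lc_g_rc_21_3 lc_g_Cert_tree lc_g_rc_27_3 lc_g_rc_26_6 lc_g_rc_23_1 lc_g_rc_21_3 lc_g_Cert_tree lc_g_rc_24_1 lc_g_rc_21_2 lc_g_rc_21_3 lc_g_rc_21_2 lc_g_Cert_tree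 lc_g_rc_21_2 lc_g_rc_21_3 lc_g_Cert_tree lc_g_rc_24_3 lc_g_rc_24_3 lc_g_rc_23_9 lc_g_rc_21_2 lc_g_rc_21_3 lc_g_Cert_tree lc_g_rc_26_6 lc_g_rc_27_0 lc_g_Cert_tree) (@D3.rec (fun _ => (Cert rels S Gen.g)) lc_g_rc_21_3 lc_g_Cert_tree lc_g_rc_27_3 lc_g_rc_21_2 lc_g_rc_27_6 lc_g_rc_26_9 lc_g_rc_21_3 lc_g_Cert_tree lc_g_rc_27_9 lc_g_rc_26_6 lc_g_rc_24_9 lc_g_rc_23_1 lc_g_rc_26_0 lc_g_Cert_tree lc_g_Cert_tree lc_g_rc_21_3 lc_g_Cert_tree lc_g_rc_21_3 lc_g_rc_26_6 lc_g_rc_21_2 lc_g_rc_24_3 lc_g_rc_23_3 lc_g_rc_21_2 lc_g_rc_26_6 lc_g_rc_21_3 lc_g_Cert_tree lc_g_rc_26_6 lc_g_Cert_tree lc_g_rc_27_6 lc_g_rc_21_3 lc_g_Cert_tree lc_g_rc_23_3 lc_g_Cert_tree lc_g_rc_21_2 lc_g_rc_26_9 lc_g_rc_27_9 lc_g_rc_26_9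 lc_g_rc_24_7 lc_g_rc_26_6 lc_g_rc_26_9 lc_g_Cert_tree lc_g_rc_27_6 lc_g_Cert_tree lc_g_Cert_tree lc_g_rc_27_9 lc_g_rc_21_3 lc_g_rc_21_2 lc_g_rc_21_3 lc_g_rc_21_3 lc_g_Cert_tree lc_g_rc_27_9 lc_g_rc_26_6 lc_g_rc_23_3 lc_g_Cert_tree lc_g_rc_23_3 lc_g_rc_21_2 lc_g_rc_26_9 lc_g_rc_21_3 lc_g_Cert_tree lc_g_rc_21_2 lc_g_rc_27_6 lc_g_Cert_tree) (@D3.rec (fun _ => (Cert rels S Gen.g)) lc_g_rc_21_2 lc_g_rc_21_2 lc_g_rc_21_2 lc_g_Cert_tree lc_g_rc_26_0 lc_g_Cert_tree lc_g_rc_26_6 lc_g_rc_26_6 lc_g_rc_27_0 lc_g_rc_21_2 lc_g_rc_26_0 lc_g_rc_27_0 lc_g_Cert_tree lc_g_Cert_tree lc_g_rc_21_2 lc_g_rc_27_9 lc_g_Cert_tree lc_g_rc_27_9 lc_g_rc_21_3 lc_g_Cert_tree lc_g_rc_23_1 lc_g_rc_27_0 lc_g_rc_21_2 lc_g_rc_24_1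 lc_g_Cert_tree lc_g_rc_21_3 lc_g_rc_21_2 lc_g_rc_23_1 lc_g_rc_26_6 lc_g_rc_27_9 lc_g_rc_27_6 lc_g_rc_23_9 lc_g_Cert_tree lc_g_rc_21_3 lc_g_rc_21_3 lc_g_rc_21_2 lc_g_Cert_tree lc_g_rc_26_0 lc_g_rc_27_0 lc_g_Cert_tree lc_g_rc_21_2 lc_g_rc_21_2 lc_g_rc_23_3 lc_g_rc_26_3 lc_g_rc_26_3 lc_g_Cert_tree lc_g_rc_27_3 lc_g_rc_24_3 lc_g_rc_21_2 lc_g_rc_21_3 lc_g_rc_26_0 lc_g_rc_21_2 lc_g_rc_21_3 lc_g_rc_24_9 lc_g_rc_26_6 lc_g_rc_21_2 lc_g_rc_23_1 lc_g_rc_21_2 lc_g_Cert_tree lc_g_rc_21_3 lc_g_Cert_tree lc_g_rc_21_2) (@D3.rec (fun _ => (Cert rels S Gen.g)) lc_g_rc_21_2 lc_g_rc_24_3 lc_g_Cert_tree lc_g_rc_26_3 lc_g_rc_21_3 lc_g_Cert_tree lc_g_rc_21_2 lc_g_rc_21_3 lc_g_Cert_tree lc_g_rc_24_9 lc_g_rc_21_2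 lc_g_Cert_tree lc_g_rc_27_0 lc_g_rc_24_1 lc_g_Cert_tree lc_g_Cert_tree lc_g_rc_27_6 lc_g_rc_26_3 lc_g_rc_26_6 lc_g_rc_27_6 lc_g_rc_26_6 lc_g_rc_26_3 lc_g_rc_26_9 lc_g_rc_24_9 lc_g_rc_23_1 lc_g_rc_21_2 lc_g_rc_26_3 lc_g_Cert_tree lc_g_rc_27_9 lc_g_rc_24_3 lc_g_rc_25_3 lc_g_Cert_tree lc_g_rc_21_2 lc_g_rc_21_2 lc_g_rc_27_3 lc_g_rc_27_0 lc_g_rc_23_1 lc_g_rc_23_7 lc_g_rc_27_6 lc_g_rc_27_6 lc_g_rc_23_7 lc_g_rc_23_7 lc_g_rc_24_3 lc_g_rc_21_3 lc_g_Cert_tree lc_g_rc_21_2 lc_g_rc_21_2 lc_g_rc_26_3 lc_g_rc_27_9 lc_g_rc_27_3 lc_g_rc_21_2 lc_g_rc_21_2 lc_g_Cert_tree lc_g_rc_21_2 lc_g_rc_21_2 lc_g_rc_27_6 lc_g_rc_27_0 lc_g_rc_27_9 lc_g_Cert_tree lc_g_rc_21_2 lc_g_rc_26_3 lc_g_rc_24_3) (@D3.rec (fun _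 => (Cert rels S Gen.g)) lc_g_rc_27_9 lc_g_Cert_tree lc_g_Cert_tree lc_g_rc_24_9 lc_g_rc_23_7 lc_g_rc_27_6 lc_g_rc_21_3 lc_g_rc_27_3 lc_g_rc_27_6 lc_g_rc_21_2 lc_g_rc_27_9 lc_g_rc_24_7 lc_g_rc_21_3 lc_g_rc_21_2 lc_g_rc_24_1 lc_g_rc_24_1 lc_g_rc_26_6 lc_g_rc_27_9 lc_g_rc_26_9 lc_g_rc_21_2 lc_g_rc_21_3 lc_g_rc_24_3 lc_g_rc_27_6 lc_g_rc_26_3 lc_g_rc_24_3 lc_g_Cert_tree lc_g_rc_21_3 lc_g_rc_24_1 lc_g_rc_26_3 lc_g_rc_21_2 lc_g_rc_21_3 lc_g_rc_24_3 lc_g_rc_21_2 lc_g_Cert_tree lc_g_rc_21_3 lc_g_Cert_tree lc_g_rc_21_2 lc_g_rc_21_3 lc_g_rc_23_3 lc_g_rc_25_19 lc_g_rc_27_0 lc_g_rc_26_3 lc_g_rc_26_0 lc_g_rc_26_6 lc_g_rc_21_2 lc_g_Cert_tree lc_g_rc_26_6 lc_g_rc_21_2 lc_g_rc_21_3 lc_g_rc_24_9 lc_g_rc_24_9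 lc_g_rc_27_0 lc_g_rc_21_2 lc_g_rc_23_1 lc_g_rc_24_1 lc_g_rc_21_3 lc_g_Cert_tree lc_g_Cert_tree lc_g_Cert_tree lc_g_rc_27_6 lc_g_rc_23_3 lc_g_rc_23_3) (@D3.rec (fun _ => (Cert rels S Gen.g)) lc_g_rc_21_3 lc_g_Cert_tree lc_g_rc_21_2 lc_g_rc_21_2 lc_g_Cert_tree lc_g_rc_23_1 lc_g_rc_26_3 lc_g_Cert_tree lc_g_rc_23_3 lc_g_rc_26_6 lc_g_rc_23_3 lc_g_rc_24_1 lc_g_rc_24_1 lc_g_rc_26_6 lc_g_rc_27_0 lc_g_rc_24_1 lc_g_rc_23_1 lc_g_rc_21_2 lc_g_rc_27_9 lc_g_rc_21_3 lc_g_Cert_tree lc_g_rc_24_3 lc_g_Cert_tree lc_g_rc_27_3 lc_g_rc_27_3 lc_g_rc_21_2 lc_g_rc_26_3 lc_g_rc_27_9 lc_g_rc_23_1 lc_g_rc_27_0 lc_g_rc_21_2 lc_g_rc_21_3 lc_g_rc_21_2 lc_g_rc_27_6 lc_g_rc_27_6 lc_g_rc_24_1 lc_g_rc_26_0 lc_g_rc_23_7 lc_g_rc_21_3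 lc_g_rc_21_2 lc_g_Cert_tree lc_g_rc_24_1 lc_g_rc_24_9 lc_g_Cert_tree lc_g_rc_23_1 lc_g_rc_23_1 lc_g_Cert_tree lc_g_rc_24_3 lc_g_rc_21_3 lc_g_rc_24_7 lc_g_rc_23_7 lc_g_rc_21_2 lc_g_rc_21_3 lc_g_rc_27_3 lc_g_rc_21_3 lc_g_rc_21_3 lc_g_Cert_tree lc_g_rc_21_2 lc_g_rc_24_3 lc_g_rc_27_6 lc_g_rc_26_0 lc_g_rc_27_6) (@D3.rec (fun _ => (Cert rels S Gen.g)) lc_g_rc_27_6 lc_g_rc_26_6 lc_g_rc_23_3 lc_g_rc_21_3 lc_g_rc_26_3 lc_g_rc_26_3 lc_g_rc_23_7 lc_g_rc_27_0 lc_g_rc_25_15 lc_g_rc_21_3 lc_g_Cert_tree lc_g_rc_27_6 lc_g_rc_27_3 lc_g_Cert_tree lc_g_Cert_tree lc_g_rc_21_3 lc_g_Cert_tree lc_g_Cert_tree lc_g_rc_23_1 lc_g_rc_26_3 lc_g_rc_23_1 lc_g_rc_27_6 lc_g_rc_25_7 lc_g_rc_27_6 lc_g_Cert_tree lc_g_Cert_tree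 lc_g_rc_21_2 lc_g_Cert_tree lc_g_rc_21_2 lc_g_rc_21_2 lc_g_rc_23_3 lc_g_rc_27_6 lc_g_rc_27_6 lc_g_rc_26_9 lc_g_rc_27_6 lc_g_rc_27_3 lc_g_rc_21_3 lc_g_rc_27_3 lc_g_rc_26_3 lc_g_Cert_tree lc_g_rc_24_3 lc_g_Cert_tree lc_g_rc_26_3 lc_g_rc_26_6 lc_g_rc_23_7 lc_g_rc_24_3 lc_g_rc_27_3 lc_g_rc_26_3 lc_g_rc_23_3 lc_g_rc_24_7 lc_g_rc_21_3 lc_g_rc_21_3 lc_g_rc_26_6 lc_g_Cert_tree lc_g_rc_24_9 lc_g_rc_26_6 lc_g_Cert_tree lc_g_Cert_tree lc_g_rc_21_2 lc_g_rc_25_19 lc_g_rc_23_3 lc_g_rc_27_6) (@D3.rec (fun _ => (Cert rels S Gen.g)) lc_g_Cert_tree lc_g_rc_23_3 lc_g_rc_24_9 lc_g_rc_26_0 lc_g_rc_23_3 lc_g_Cert_tree lc_g_rc_23_7 lc_g_Cert_tree lc_g_rc_21_2 lc_g_rc_26_6 lc_g_rc_27_0 lc_g_rc_21_3 lc_g_Cert_tree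 lc_g_rc_23_3 lc_g_rc_21_2 lc_g_rc_21_2 lc_g_Cert_tree lc_g_rc_27_3 lc_g_rc_23_7 lc_g_Cert_tree lc_g_rc_21_2 lc_g_rc_21_3 lc_g_rc_23_1 lc_g_rc_27_0 lc_g_rc_27_0 lc_g_rc_23_7 lc_g_Cert_tree lc_g_rc_21_3 lc_g_Cert_tree lc_g_Cert_tree lc_g_rc_27_6 lc_g_rc_21_3 lc_g_Cert_tree lc_g_rc_21_2 lc_g_rc_21_2 lc_g_rc_21_3 lc_g_rc_21_2 lc_g_rc_26_6 lc_g_rc_21_2 lc_g_rc_21_2 lc_g_rc_24_3 lc_g_rc_21_3 lc_g_Cert_tree lc_g_rc_26_3 lc_g_rc_21_2 lc_g_rc_27_3 lc_g_rc_24_3 lc_g_rc_26_9 lc_g_rc_27_6 lc_g_rc_23_3 lc_g_rc_27_3 lc_g_rc_23_9 lc_g_rc_21_3 lc_g_rc_21_3 lc_g_rc_27_3 lc_g_rc_26_9 lc_g_rc_23_3 lc_g_rc_23_3 lc_g_rc_23_3 lc_g_rc_24_9 lc_g_rc_23_3 lc_g_rc_21_2) (@D3.rec (fun _ => (Cert rels S Gen.g)) lc_g_rc_24_9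 lc_g_rc_23_1 lc_g_rc_24_3 lc_g_rc_21_3 lc_g_Cert_tree lc_g_rc_21_3 lc_g_Cert_tree lc_g_rc_27_6 lc_g_rc_21_2 lc_g_rc_23_9 lc_g_rc_27_6 lc_g_rc_27_6 lc_g_rc_23_3 lc_g_rc_27_6 lc_g_Cert_tree lc_g_rc_27_6 lc_g_rc_26_3 lc_g_rc_26_3 lc_g_rc_24_3 lc_g_Cert_tree lc_g_rc_23_7 lc_g_rc_21_2 lc_g_rc_26_3 lc_g_rc_23_3 lc_g_rc_25_7 lc_g_rc_27_0 lc_g_rc_21_2 lc_g_Cert_tree lc_g_rc_26_0 lc_g_Cert_tree lc_g_Cert_tree lc_g_rc_27_0 lc_g_rc_27_3 lc_g_rc_26_3 lc_g_rc_21_3 lc_g_rc_24_3 lc_g_rc_23_9 lc_g_rc_21_2 lc_g_rc_23_1 lc_g_Cert_tree lc_g_rc_21_3 lc_g_Cert_tree lc_g_rc_26_3 lc_g_rc_26_0 lc_g_rc_26_6 lc_g_rc_21_3 lc_g_rc_21_2 lc_g_Cert_tree lc_g_rc_26_9 lc_g_Cert_tree lc_g_rc_23_3 lc_g_rc_24_3 lc_g_rc_26_3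 lc_g_rc_26_0 lc_g_rc_21_2 lc_g_rc_21_2 lc_g_Cert_tree lc_g_Cert_tree lc_g_rc_21_2 lc_g_rc_21_2 lc_g_rc_23_9 lc_g_rc_24_1) (@D3.rec (fun _ => (Cert rels S Gen.g)) lc_g_rc_21_2 lc_g_rc_21_2 lc_g_rc_21_2 lc_g_rc_24_3 lc_g_rc_27_0 lc_g_Cert_tree lc_g_rc_21_2 lc_g_rc_23_7 lc_g_Cert_tree lc_g_rc_23_3 lc_g_Cert_tree lc_g_Cert_tree lc_g_rc_27_6 lc_g_Cert_tree lc_g_Cert_tree lc_g_rc_21_2 lc_g_rc_21_3 lc_g_rc_26_3 lc_g_rc_21_2 lc_g_rc_21_3 lc_g_Cert_tree lc_g_rc_27_3 lc_g_rc_21_2 lc_g_Cert_tree lc_g_rc_21_2 lc_g_rc_26_0 lc_g_rc_24_7 lc_g_rc_21_3 lc_g_Cert_tree lc_g_rc_24_3 lc_g_rc_27_0 lc_g_rc_26_3 lc_g_rc_27_3 lc_g_rc_21_2 lc_g_rc_24_3 lc_g_rc_24_7 lc_g_rc_27_0 lc_g_rc_24_3 lc_g_rc_27_3 lc_g_rc_24_1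 lc_g_rc_21_3 lc_g_rc_21_2 lc_g_rc_26_9 lc_g_rc_23_1 lc_g_rc_24_9 lc_g_rc_27_6 lc_g_rc_27_3 lc_g_Cert_tree lc_g_rc_21_2 lc_g_rc_21_3 lc_g_rc_21_2 lc_g_rc_24_3 lc_g_rc_26_9 lc_g_rc_21_2 lc_g_rc_23_3 lc_g_Cert_tree lc_g_rc_27_3 lc_g_rc_24_3 lc_g_rc_24_1 lc_g_rc_27_0 lc_g_rc_26_0 lc_g_rc_23_9) (@D3.rec (fun _ => (Cert rels S Gen.g)) lc_g_rc_24_7 lc_g_rc_27_0 lc_g_rc_27_0 lc_g_rc_26_0 lc_g_rc_21_2 lc_g_Cert_tree lc_g_rc_26_0 lc_g_rc_21_3 lc_g_Cert_tree lc_g_rc_21_2 lc_g_rc_26_9 lc_g_Cert_tree lc_g_rc_21_3 lc_g_Cert_tree lc_g_rc_21_2 lc_g_rc_25_7 lc_g_rc_21_2 lc_g_rc_27_0 lc_g_Cert_tree lc_g_rc_21_2 lc_g_rc_26_9 lc_g_rc_26_3 lc_g_rc_21_3 lc_g_Cert_tree lc_g_rc_21_2 lc_g_rc_21_2 lc_g_rc_25_3 lc_g_Cert_tree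 lc_g_rc_26_3 lc_g_rc_21_3 lc_g_Cert_tree lc_g_rc_25_15 lc_g_rc_23_1 lc_g_Cert_tree lc_g_rc_27_6 lc_g_rc_24_3 lc_g_Cert_tree lc_g_rc_27_3 lc_g_rc_23_7 lc_g_rc_26_9 lc_g_rc_26_6 lc_g_rc_24_9 lc_g_rc_21_2 lc_g_rc_21_3 lc_g_Cert_tree lc_g_rc_21_2 lc_g_rc_26_0 lc_g_rc_24_1 lc_g_rc_26_9 lc_g_rc_27_6 lc_g_rc_27_6 lc_g_rc_27_0 lc_g_rc_21_2 lc_g_rc_23_7 lc_g_rc_26_0 lc_g_rc_26_9 lc_g_rc_23_7 lc_g_rc_24_9 lc_g_rc_21_3 lc_g_rc_27_0 lc_g_Cert_tree lc_g_Cert_tree) (@D3.rec (fun _ => (Cert rels S Gen.g)) lc_g_rc_21_2 lc_g_rc_26_3 lc_g_rc_27_3 lc_g_rc_21_2 lc_g_rc_27_6 lc_g_rc_21_2 lc_g_rc_26_0 lc_g_rc_21_3 lc_g_rc_26_3 lc_g_rc_24_3 lc_g_rc_27_9 lc_g_rc_23_1 lc_g_rc_26_3 lc_g_rc_26_3 lc_g_rc_21_3 lc_g_rc_21_3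 lc_g_rc_27_0 lc_g_rc_21_2 lc_g_rc_21_3 lc_g_Cert_tree lc_g_rc_21_2 lc_g_rc_21_2 lc_g_rc_27_9 lc_g_rc_21_2 lc_g_rc_27_6 lc_g_rc_21_2 lc_g_Cert_tree lc_g_rc_27_6 lc_g_rc_26_3 lc_g_rc_27_9 lc_g_rc_21_3 lc_g_rc_23_1 lc_g_Cert_tree lc_g_Cert_tree lc_g_Cert_tree lc_g_Cert_tree lc_g_rc_26_6 lc_g_rc_21_2 lc_g_rc_27_9 lc_g_rc_21_3 lc_g_rc_27_6 lc_g_Cert_tree lc_g_rc_21_3 lc_g_rc_21_2 lc_g_Cert_tree lc_g_rc_24_1 lc_g_rc_21_2 lc_g_rc_23_1 lc_g_rc_21_3 lc_g_Cert_tree lc_g_rc_27_3 lc_g_rc_21_2 lc_g_Cert_tree lc_g_rc_21_3 lc_g_rc_27_9 lc_g_rc_21_3 lc_g_rc_23_9 lc_g_rc_27_3 lc_g_rc_21_2 lc_g_rc_26_6 lc_g_rc_27_9 lc_g_rc_21_2) (@D3.rec (fun _ => (Cert rels S Gen.g)) lc_g_rc_21_2 lc_g_rc_27_3 lc_g_rc_23_7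 lc_g_rc_26_3 lc_g_rc_21_2 lc_g_Cert_tree lc_g_rc_21_3 lc_g_Cert_tree lc_g_rc_26_3 lc_g_rc_21_2 lc_g_rc_27_3 lc_g_rc_23_1 lc_g_rc_26_3 lc_g_rc_21_2 lc_g_rc_26_6 lc_g_rc_27_3 lc_g_rc_21_2 lc_g_rc_21_3 lc_g_Cert_tree lc_g_rc_27_3 lc_g_rc_23_3 lc_g_rc_21_2 lc_g_rc_21_2 lc_g_Cert_tree lc_g_Cert_tree lc_g_rc_27_9 lc_g_rc_24_3 lc_g_rc_27_9 lc_g_rc_24_7 lc_g_rc_27_0 lc_g_rc_24_3 lc_g_rc_27_3 lc_g_Cert_tree lc_g_rc_21_2 lc_g_Cert_tree lc_g_rc_21_2 lc_g_rc_21_2 lc_g_Cert_tree lc_g_Cert_tree lc_g_rc_26_6 lc_g_rc_21_3 lc_g_Cert_tree lc_g_rc_21_3 lc_g_rc_27_3 lc_g_rc_21_3 lc_g_Cert_tree lc_g_Cert_tree lc_g_rc_23_3 lc_g_rc_23_1 lc_g_rc_27_0 lc_g_rc_26_6 lc_g_Cert_tree lc_g_rc_21_3 lc_g_rc_27_3 lc_g_rc_21_3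 lc_g_Cert_tree lc_g_rc_24_7 lc_g_Cert_tree lc_g_Cert_tree lc_g_Cert_tree lc_g_rc_26_3 lc_g_rc_21_2) (@D3.rec (fun _ => (Cert rels S Gen.g)) lc_g_rc_21_2 lc_g_rc_26_9 lc_g_rc_21_3 lc_g_rc_26_0 lc_g_rc_23_7 lc_g_Cert_tree lc_g_rc_24_7 lc_g_rc_23_3 lc_g_rc_24_3 lc_g_rc_24_3 lc_g_rc_24_3 lc_g_Cert_tree lc_g_rc_26_6 lc_g_rc_21_3 lc_g_rc_27_0 lc_g_Cert_tree lc_g_Cert_tree lc_g_rc_27_0 lc_g_rc_21_2 lc_g_rc_24_7 lc_g_rc_27_0 lc_g_rc_21_3 lc_g_rc_27_3 lc_g_rc_21_2 lc_g_rc_26_9 lc_g_rc_21_2 lc_g_rc_24_7 lc_g_rc_23_1 lc_g_rc_27_6 lc_g_rc_24_1 lc_g_rc_21_3 lc_g_Cert_tree lc_g_rc_26_6 lc_g_rc_21_3 lc_g_Cert_tree lc_g_rc_26_9 lc_g_rc_23_9 lc_g_rc_21_3 lc_g_rc_23_7 lc_g_rc_21_3 lc_g_rc_21_3 lc_g_rc_21_2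 lc_g_rc_26_3 lc_g_rc_27_9 lc_g_rc_21_2 lc_g_rc_23_7 lc_g_rc_27_6 lc_g_rc_27_6 lc_g_rc_27_6 lc_g_rc_24_3 lc_g_rc_26_3 lc_g_Cert_tree lc_g_rc_26_0 lc_g_rc_21_3 lc_g_Cert_tree lc_g_Cert_tree lc_g_rc_26_9 lc_g_rc_21_2 lc_g_rc_27_9 lc_g_rc_26_9 lc_g_rc_27_3 lc_g_Cert_tree) (@D3.rec (fun _ => (Cert rels S Gen.g)) lc_g_rc_27_0 lc_g_rc_24_3 lc_g_rc_24_7 lc_g_rc_24_7 lc_g_rc_21_2 lc_g_rc_26_6 lc_g_rc_21_2 lc_g_rc_26_0 lc_g_rc_21_3 lc_g_rc_27_9 lc_g_Cert_tree lc_g_rc_24_7 lc_g_rc_24_3 lc_g_rc_21_2 lc_g_rc_26_3 lc_g_rc_27_3 lc_g_rc_21_2 lc_g_rc_21_2 lc_g_Cert_tree lc_g_rc_21_2 lc_g_Cert_tree lc_g_rc_21_3 lc_g_rc_21_3 lc_g_Cert_tree lc_g_rc_21_3 lc_g_rc_23_3 lc_g_Cert_tree lc_g_Cert_tree lc_g_Cert_tree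 lc_g_rc_26_3 lc_g_rc_21_2 lc_g_rc_26_6 lc_g_Cert_tree lc_g_Cert_tree lc_g_rc_27_9 lc_g_rc_24_3 lc_g_rc_24_3 lc_g_rc_25_7 lc_g_Cert_tree lc_g_rc_26_3 lc_g_rc_27_9 lc_g_Cert_tree lc_g_Cert_tree lc_g_rc_21_2 lc_g_rc_27_6 lc_g_rc_21_2 lc_g_rc_26_3 lc_g_rc_26_6 lc_g_rc_25_19 lc_g_rc_24_3 lc_g_rc_25_3 lc_g_rc_23_3 lc_g_Cert_tree lc_g_rc_23_7 lc_g_rc_27_3 lc_g_rc_21_2 lc_g_rc_21_2 lc_g_rc_21_3 lc_g_rc_21_2 lc_g_rc_21_2 lc_g_rc_23_3 lc_g_rc_21_3) (@D3.rec (fun _ => (Cert rels S Gen.g)) lc_g_rc_27_3 lc_g_rc_21_3 lc_g_rc_26_6 lc_g_rc_27_0 lc_g_rc_21_3 lc_g_Cert_tree lc_g_rc_21_3 lc_g_rc_21_2 lc_g_rc_21_2 lc_g_rc_27_0 lc_g_rc_26_3 lc_g_rc_27_0 lc_g_rc_21_2 lc_g_rc_27_6 lc_g_rc_21_3 lc_g_rc_21_2 lc_g_rc_21_3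 lc_g_rc_21_2 lc_g_Cert_tree lc_g_rc_21_3 lc_g_rc_27_6 lc_g_rc_26_6 lc_g_rc_21_2 lc_g_rc_24_7 lc_g_rc_21_2 lc_g_rc_26_6 lc_g_rc_27_6 lc_g_rc_21_3 lc_g_Cert_tree lc_g_Cert_tree lc_g_rc_21_2 lc_g_rc_24_1 lc_g_rc_27_0 lc_g_rc_26_0 lc_g_rc_23_7 lc_g_rc_26_3 lc_g_rc_23_7 lc_g_rc_24_7 lc_g_Cert_tree lc_g_rc_23_3 lc_g_rc_21_2 lc_g_rc_23_7 lc_g_Cert_tree lc_g_rc_21_2 lc_g_rc_23_3 lc_g_rc_27_6 lc_g_rc_21_3 lc_g_rc_21_2 lc_g_rc_21_2 lc_g_rc_27_6 lc_g_rc_21_3 lc_g_rc_21_2 lc_g_rc_26_6 lc_g_rc_23_7 lc_g_Cert_tree lc_g_rc_23_7 lc_g_rc_21_2 lc_g_rc_21_3 lc_g_Cert_tree lc_g_rc_21_2 lc_g_rc_27_9 lc_g_Cert_tree) (@D3.rec (fun _ => (Cert rels S Gen.g)) lc_g_rc_24_7 lc_g_rc_21_2 lc_g_rc_24_3 lc_g_rc_27_9 lc_g_rc_21_3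 lc_g_rc_21_2 lc_g_Cert_tree lc_g_rc_21_3 lc_g_rc_23_7 lc_g_rc_27_6 lc_g_rc_21_3 lc_g_rc_21_2 lc_g_Cert_tree lc_g_rc_21_3 lc_g_Cert_tree lc_g_rc_24_7 lc_g_rc_21_2 lc_g_rc_24_3 lc_g_rc_21_2 lc_g_rc_27_6 lc_g_rc_21_2 lc_g_Cert_tree lc_g_rc_21_3 lc_g_rc_21_2 lc_g_rc_21_3 lc_g_rc_26_0 lc_g_rc_27_9 lc_g_rc_24_3 lc_g_rc_27_9 lc_g_rc_21_3 lc_g_Cert_tree lc_g_rc_21_3 lc_g_rc_26_3 lc_g_rc_24_9 lc_g_rc_21_3 lc_g_rc_26_3 lc_g_rc_23_3 lc_g_rc_21_3 lc_g_Cert_tree lc_g_Cert_tree lc_g_rc_26_9 lc_g_rc_23_7 lc_g_rc_21_3 lc_g_rc_23_7 lc_g_rc_26_3 lc_g_rc_21_2 lc_g_Cert_tree lc_g_rc_23_3 lc_g_rc_21_2 lc_g_rc_27_0 lc_g_rc_27_6 lc_g_rc_21_2 lc_g_rc_21_3 lc_g_rc_27_6 lc_g_rc_26_3 lc_g_rc_23_3 lc_g_rc_21_3 lc_g_Cert_tree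 lc_g_rc_27_6 lc_g_Cert_tree lc_g_rc_26_9 lc_g_rc_26_9) (@D3.rec (fun _ => (Cert rels S Gen.g)) lc_g_rc_27_3 lc_g_rc_23_7 lc_g_rc_27_9 lc_g_rc_21_2 lc_g_rc_21_3 lc_g_rc_23_1 lc_g_rc_26_6 lc_g_rc_23_3 lc_g_rc_23_3 lc_g_rc_21_3 lc_g_rc_24_7 lc_g_rc_21_2 lc_g_rc_26_3 lc_g_Cert_tree lc_g_rc_23_7 lc_g_rc_27_6 lc_g_Cert_tree lc_g_rc_21_3 lc_g_rc_21_2 lc_g_rc_21_3 lc_g_Cert_tree lc_g_rc_24_7 lc_g_rc_26_6 lc_g_rc_26_3 lc_g_Cert_tree lc_g_rc_27_3 lc_g_rc_21_3 lc_g_rc_26_6 lc_g_rc_21_2 lc_g_rc_24_3 lc_g_rc_27_0 lc_g_rc_27_9 lc_g_Cert_tree lc_g_rc_23_9 lc_g_rc_27_0 lc_g_rc_24_3 lc_g_rc_21_3 lc_g_Cert_tree lc_g_Cert_tree lc_g_Cert_tree lc_g_rc_23_7 lc_g_rc_26_3 lc_g_rc_21_2 lc_g_rc_24_1 lc_g_Cert_tree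 lc_g_rc_27_6 lc_g_rc_24_3 lc_g_Cert_tree lc_g_rc_21_2 lc_g_Cert_tree lc_g_rc_21_2 lc_g_rc_26_0 lc_g_rc_24_9 lc_g_rc_23_9 lc_g_rc_26_0 lc_g_rc_24_9 lc_g_rc_25_11 lc_g_rc_23_3 lc_g_rc_23_1 lc_g_rc_21_3 lc_g_rc_23_3 lc_g_rc_24_7) (@D3.rec (fun _ => (Cert rels S Gen.g)) lc_g_rc_27_9 lc_g_rc_25_11 lc_g_Cert_tree lc_g_rc_26_9 lc_g_rc_23_7 lc_g_rc_26_0 lc_g_rc_26_9 lc_g_rc_27_9 lc_g_rc_24_3 lc_g_rc_23_3 lc_g_rc_26_6 lc_g_rc_21_2 lc_g_rc_24_3 lc_g_Cert_tree lc_g_Cert_tree lc_g_rc_23_7 lc_g_rc_24_1 lc_g_rc_21_3 lc_g_rc_23_3 lc_g_rc_23_3 lc_g_rc_26_3 lc_g_rc_23_3 lc_g_rc_27_0 lc_g_Cert_tree lc_g_rc_21_3 lc_g_rc_24_7 lc_g_rc_24_3 lc_g_Cert_tree lc_g_rc_21_3 lc_g_Cert_tree lc_g_rc_21_2 lc_g_rc_26_3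 lc_g_rc_27_0 lc_g_rc_27_6 lc_g_rc_27_0 lc_g_Cert_tree lc_g_rc_21_2 lc_g_rc_26_3 lc_g_rc_27_6 lc_g_rc_21_3 lc_g_Cert_tree lc_g_rc_27_0 lc_g_rc_27_0 lc_g_rc_24_3 lc_g_rc_23_7 lc_g_rc_27_6 lc_g_rc_24_3 lc_g_rc_23_3 lc_g_rc_23_3 lc_g_rc_25_7 lc_g_rc_26_3 lc_g_rc_21_3 lc_g_Cert_tree lc_g_rc_24_3 lc_g_rc_24_7 lc_g_rc_21_2 lc_g_rc_27_6 lc_g_rc_23_9 lc_g_rc_26_6 lc_g_rc_26_9 lc_g_Cert_tree lc_g_rc_26_6) (@D3.rec (fun _ => (Cert rels S Gen.g)) lc_g_rc_26_0 lc_g_rc_26_3 lc_g_rc_21_3 lc_g_Cert_tree lc_g_rc_21_2 lc_g_rc_26_9 lc_g_rc_24_1 lc_g_rc_26_6 lc_g_rc_21_3 lc_g_Cert_tree lc_g_rc_21_2 lc_g_rc_21_2 lc_g_rc_21_3 lc_g_rc_27_6 lc_g_rc_26_3 lc_g_rc_21_2 lc_g_rc_21_3 lc_g_Cert_tree lc_g_rc_21_2 lc_g_rc_21_2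 lc_g_Cert_tree lc_g_rc_27_6 lc_g_Cert_tree lc_g_rc_26_6 lc_g_Cert_tree lc_g_rc_21_3 lc_g_Cert_tree lc_g_rc_21_2 lc_g_rc_25_11 lc_g_rc_26_3 lc_g_rc_21_3 lc_g_Cert_tree lc_g_rc_21_2 lc_g_rc_21_3 lc_g_Cert_tree lc_g_rc_27_0 lc_g_rc_26_0 lc_g_rc_24_1 lc_g_Cert_tree lc_g_Cert_tree lc_g_Cert_tree lc_g_rc_21_3 lc_g_rc_24_1 lc_g_rc_27_6 lc_g_rc_24_1 lc_g_rc_21_3 lc_g_Cert_tree lc_g_rc_21_2 lc_g_rc_26_3 lc_g_rc_21_3 lc_g_Cert_tree lc_g_rc_21_3 lc_g_rc_21_2 lc_g_rc_27_9 lc_g_rc_21_2 lc_g_rc_23_7 lc_g_Cert_tree lc_g_rc_21_3 lc_g_Cert_tree lc_g_Cert_tree lc_g_rc_21_2 lc_g_rc_21_3) (@D3.rec (fun _ => (Cert rels S Gen.g)) lc_g_Cert_tree lc_g_Cert_tree lc_g_Cert_tree lc_g_rc_26_3 lc_g_rc_21_2 lc_g_rc_27_0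 lc_g_rc_21_3 lc_g_Cert_tree lc_g_rc_24_3 lc_g_rc_21_2 lc_g_rc_23_3 lc_g_rc_21_3 lc_g_Cert_tree lc_g_rc_21_3 lc_g_rc_23_1 lc_g_rc_26_3 lc_g_rc_26_3 lc_g_rc_26_0 lc_g_Cert_tree lc_g_rc_23_3 lc_g_rc_21_2 lc_g_rc_27_9 lc_g_rc_27_6 lc_g_rc_21_3 lc_g_rc_21_2 lc_g_rc_21_2 lc_g_Cert_tree lc_g_rc_27_6 lc_g_rc_26_3 lc_g_Cert_tree lc_g_rc_21_2 lc_g_rc_24_9 lc_g_rc_21_3 lc_g_Cert_tree lc_g_rc_27_6 lc_g_rc_21_2 lc_g_rc_27_6 lc_g_rc_23_1 lc_g_rc_27_9 lc_g_rc_21_2 lc_g_rc_26_9 lc_g_rc_21_2 lc_g_rc_21_2 lc_g_rc_21_3 lc_g_Cert_tree lc_g_rc_21_2 lc_g_rc_21_3 lc_g_Cert_tree lc_g_rc_24_9 lc_g_rc_21_2 lc_g_rc_21_2 lc_g_rc_21_3 lc_g_rc_27_3 lc_g_rc_21_3 lc_g_Cert_tree lc_g_Cert_tree lc_g_rc_21_2 lc_g_rc_23_9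 lc_g_rc_26_3 lc_g_rc_21_2 lc_g_rc_26_6 lc_g_rc_21_2) (@D3.rec (fun _ => (Cert rels S Gen.g)) lc_g_rc_27_0 lc_g_Cert_tree lc_g_Cert_tree lc_g_rc_21_2 lc_g_rc_23_1 lc_g_rc_23_1 lc_g_rc_21_2 lc_g_rc_21_3 lc_g_rc_27_9 lc_g_rc_21_3 lc_g_rc_27_0 lc_g_rc_23_7 lc_g_rc_23_7 lc_g_rc_27_6 lc_g_rc_23_9 lc_g_rc_27_0 lc_g_rc_21_3 lc_g_rc_27_3 lc_g_Cert_tree lc_g_rc_26_9 lc_g_rc_26_0 lc_g_rc_26_3 lc_g_rc_27_6 lc_g_rc_24_7 lc_g_rc_23_3 lc_g_rc_26_3 lc_g_Cert_tree lc_g_rc_23_1 lc_g_rc_27_6 lc_g_Cert_tree lc_g_rc_21_2 lc_g_rc_23_9 lc_g_rc_23_7 lc_g_Cert_tree lc_g_rc_21_2 lc_g_rc_26_3 lc_g_rc_24_3 lc_g_rc_21_2 lc_g_rc_21_2 lc_g_rc_27_6 lc_g_Cert_tree lc_g_rc_21_2 lc_g_rc_21_2 lc_g_rc_23_7 lc_g_rc_21_2 lc_g_rc_23_3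 lc_g_rc_21_3 lc_g_Cert_tree lc_g_rc_21_2 lc_g_rc_24_3 lc_g_rc_21_3 lc_g_Cert_tree lc_g_rc_27_0 lc_g_rc_26_3 lc_g_rc_21_3 lc_g_Cert_tree lc_g_rc_27_0 lc_g_rc_21_2 lc_g_rc_26_3 lc_g_rc_24_1 lc_g_rc_27_9 lc_g_rc_27_9) (@D3.rec (fun _ => (Cert rels S Gen.g)) lc_g_rc_26_3 lc_g_rc_21_2 lc_g_rc_21_3 lc_g_Cert_tree lc_g_Cert_tree lc_g_rc_21_2 lc_g_rc_21_3 lc_g_Cert_tree lc_g_rc_26_6 lc_g_rc_26_3 lc_g_rc_21_3 lc_g_Cert_tree lc_g_rc_21_2 lc_g_rc_21_3 lc_g_rc_24_1 lc_g_Cert_tree lc_g_rc_21_3 lc_g_rc_21_3 lc_g_Cert_tree lc_g_Cert_tree lc_g_rc_23_9 lc_g_rc_24_3 lc_g_rc_21_2 lc_g_rc_23_7 lc_g_rc_24_7 lc_g_rc_21_2 lc_g_rc_27_6 lc_g_rc_26_6 lc_g_rc_26_6 lc_g_Cert_tree lc_g_rc_21_2 lc_g_rc_24_9 lc_g_rc_21_3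 lc_g_rc_27_3 lc_g_Cert_tree lc_g_rc_21_2 lc_g_rc_26_6 lc_g_rc_26_0 lc_g_rc_26_6 lc_g_rc_24_1 lc_g_rc_23_1 lc_g_rc_21_3 lc_g_Cert_tree lc_g_rc_27_3 lc_g_rc_26_9 lc_g_rc_26_3 lc_g_rc_27_9 lc_g_Cert_tree lc_g_rc_21_3 lc_g_rc_27_9 lc_g_rc_23_9 lc_g_rc_27_3 lc_g_rc_21_2 lc_g_Cert_tree lc_g_rc_23_3 lc_g_Cert_tree lc_g_rc_23_7 lc_g_rc_21_3 lc_g_Cert_tree lc_g_Cert_tree lc_g_rc_23_9 lc_g_rc_23_9) (@D3.rec (fun _ => (Cert rels S Gen.g)) lc_g_Cert_tree lc_g_rc_26_3 lc_g_rc_21_3 lc_g_Cert_tree lc_g_rc_24_1 lc_g_rc_23_1 lc_g_rc_21_2 lc_g_rc_23_1 lc_g_rc_26_9 lc_g_rc_21_3 lc_g_rc_26_6 lc_g_rc_27_0 lc_g_Cert_tree lc_g_rc_26_6 lc_g_rc_27_0 lc_g_rc_27_9 lc_g_rc_27_0 lc_g_rc_21_3 lc_g_rc_21_2 lc_g_rc_23_3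 lc_g_rc_21_3 lc_g_rc_26_3 lc_g_rc_21_3 lc_g_rc_27_9 lc_g_Cert_tree lc_g_rc_27_3 lc_g_rc_21_2 lc_g_rc_21_2 lc_g_rc_21_3 lc_g_rc_27_6 lc_g_Cert_tree lc_g_rc_26_0 lc_g_rc_21_3 lc_g_rc_21_2 lc_g_rc_21_3 lc_g_rc_23_9 lc_g_rc_26_6 lc_g_rc_24_1 lc_g_rc_27_3 lc_g_rc_26_6 lc_g_rc_23_7 lc_g_rc_21_3 lc_g_rc_21_3 lc_g_Cert_tree lc_g_Cert_tree lc_g_rc_21_2 lc_g_rc_21_3 lc_g_rc_23_7 lc_g_rc_21_2 lc_g_rc_21_3 lc_g_Cert_tree lc_g_Cert_tree lc_g_rc_23_3 lc_g_rc_24_3 lc_g_rc_27_9 lc_g_rc_26_6 lc_g_rc_23_3 lc_g_rc_26_3 lc_g_rc_21_2 lc_g_rc_24_9 lc_g_rc_27_3 lc_g_rc_21_2) (@D3.rec (fun _ => (Cert rels S Gen.g)) lc_g_Cert_tree lc_g_rc_27_9 lc_g_rc_27_6 lc_g_Cert_tree lc_g_rc_27_6 lc_g_rc_21_2 lc_g_rc_21_2 lc_g_rc_21_2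 lc_g_rc_24_7 lc_g_rc_27_6 lc_g_rc_24_7 lc_g_rc_26_3 lc_g_Cert_tree lc_g_rc_27_0 lc_g_rc_23_7 lc_g_rc_27_9 lc_g_rc_26_3 lc_g_rc_21_3 lc_g_rc_27_6 lc_g_rc_27_3 lc_g_rc_26_9 lc_g_Cert_tree lc_g_rc_26_9 lc_g_rc_21_2 lc_g_rc_24_3 lc_g_rc_24_7 lc_g_rc_21_3 lc_g_Cert_tree lc_g_rc_23_1 lc_g_rc_27_9 lc_g_rc_21_2 lc_g_rc_21_3 lc_g_rc_21_2 lc_g_rc_23_9 lc_g_Cert_tree lc_g_rc_23_7 lc_g_rc_26_0 lc_g_rc_23_7 lc_g_rc_21_3 lc_g_Cert_tree lc_g_rc_21_2 lc_g_rc_21_3 lc_g_Cert_tree lc_g_rc_21_2 lc_g_Cert_tree lc_g_rc_21_3 lc_g_Cert_tree lc_g_rc_26_9 lc_g_rc_27_6 lc_g_rc_27_9 lc_g_rc_27_3 lc_g_rc_21_2 lc_g_rc_21_3 lc_g_rc_24_7 lc_g_rc_23_1 lc_g_rc_21_3 lc_g_Cert_tree lc_g_rc_21_2 lc_g_rc_27_6 lc_g_rc_26_6 lc_g_Cert_tree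 lc_g_rc_21_2) (@D3.rec (fun _ => (Cert rels S Gen.g)) lc_g_rc_24_3 lc_g_rc_27_6 lc_g_Cert_tree lc_g_rc_27_3 lc_g_rc_21_2 lc_g_rc_24_3 lc_g_rc_21_2 lc_g_rc_21_2 lc_g_rc_21_2 lc_g_Cert_tree lc_g_rc_27_6 lc_g_rc_21_2 lc_g_rc_21_2 lc_g_Cert_tree lc_g_rc_27_3 lc_g_rc_26_0 lc_g_rc_27_3 lc_g_rc_24_3 lc_g_Cert_tree lc_g_Cert_tree lc_g_Cert_tree lc_g_rc_24_9 lc_g_rc_21_3 lc_g_Cert_tree lc_g_rc_21_3 lc_g_rc_24_3 lc_g_rc_21_3 lc_g_Cert_tree lc_g_Cert_tree lc_g_Cert_tree lc_g_rc_26_3 lc_g_rc_21_2 lc_g_rc_21_2 lc_g_rc_21_3 lc_g_rc_27_0 lc_g_rc_27_6 lc_g_rc_23_1 lc_g_rc_26_9 lc_g_rc_27_6 lc_g_rc_26_9 lc_g_rc_27_0 lc_g_rc_24_9 lc_g_Cert_tree lc_g_rc_21_3 lc_g_rc_26_3 lc_g_rc_21_2 lc_g_rc_24_9 lc_g_Cert_tree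 lc_g_rc_21_3 lc_g_Cert_tree lc_g_Cert_tree lc_g_Cert_tree lc_g_Cert_tree lc_g_Cert_tree lc_g_rc_21_2 lc_g_rc_24_9 lc_g_rc_24_3 lc_g_rc_21_2 lc_g_rc_26_0 lc_g_rc_23_3 lc_g_rc_26_3 lc_g_rc_21_2) (@D3.rec (fun _ => (Cert rels S Gen.g)) lc_g_rc_24_3 lc_g_Cert_tree lc_g_rc_21_2 lc_g_rc_23_7 lc_g_rc_26_6 lc_g_rc_21_3 lc_g_Cert_tree lc_g_rc_26_3 lc_g_rc_27_6 lc_g_rc_26_3 lc_g_rc_23_3 lc_g_rc_27_9 lc_g_rc_21_3 lc_g_Cert_tree lc_g_rc_23_3 lc_g_Cert_tree lc_g_rc_24_1 lc_g_Cert_tree lc_g_rc_21_2 lc_g_rc_24_3 lc_g_rc_21_2 lc_g_rc_23_9 lc_g_rc_25_15 lc_g_rc_26_3 lc_g_Cert_tree lc_g_rc_26_6 lc_g_rc_21_3 lc_g_Cert_tree lc_g_rc_23_7 lc_g_Cert_tree lc_g_Cert_tree lc_g_rc_21_2 lc_g_rc_21_2 lc_g_rc_21_2 lc_g_rc_21_2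 lc_g_rc_21_3 lc_g_rc_26_6 lc_g_rc_21_3 lc_g_Cert_tree lc_g_rc_21_2 lc_g_rc_26_6 lc_g_rc_23_3 lc_g_rc_23_7 lc_g_rc_21_3 lc_g_Cert_tree lc_g_rc_24_7 lc_g_rc_21_2 lc_g_rc_21_3 lc_g_rc_21_3 lc_g_rc_21_2 lc_g_rc_23_9 lc_g_rc_23_3 lc_g_rc_24_1 lc_g_rc_21_3 lc_g_Cert_tree lc_g_rc_24_7 lc_g_rc_21_2 lc_g_rc_21_3 lc_g_rc_26_9 lc_g_rc_27_9 lc_g_rc_23_9 lc_g_rc_24_1) (@D3.rec (fun _ => (Cert rels S Gen.g)) lc_g_rc_24_1 lc_g_rc_21_3 lc_g_rc_21_2 lc_g_Cert_tree lc_g_rc_27_3 lc_g_rc_23_1 lc_g_rc_23_9 lc_g_rc_27_3 lc_g_rc_21_3 lc_g_rc_27_6 lc_g_rc_27_0 lc_g_rc_27_9 lc_g_rc_21_3 lc_g_Cert_tree lc_g_rc_21_3 lc_g_rc_27_6 lc_g_Cert_tree lc_g_rc_27_0 lc_g_rc_24_3 lc_g_rc_27_6 lc_g_rc_21_3 lc_g_Cert_tree lc_g_rc_26_0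 lc_g_Cert_tree lc_g_rc_26_3 lc_g_rc_23_3 lc_g_rc_27_0 lc_g_rc_24_7 lc_g_rc_24_3 lc_g_rc_21_3 lc_g_rc_27_3 lc_g_Cert_tree lc_g_rc_23_7 lc_g_rc_21_2 lc_g_rc_21_3 lc_g_Cert_tree lc_g_rc_26_9 lc_g_rc_21_3 lc_g_rc_24_9 lc_g_rc_26_3 lc_g_rc_26_6 lc_g_rc_21_2 lc_g_rc_27_3 lc_g_rc_23_7 lc_g_rc_21_3 lc_g_Cert_tree lc_g_Cert_tree lc_g_rc_26_6 lc_g_rc_21_2 lc_g_rc_21_2 lc_g_rc_25_19 lc_g_Cert_tree lc_g_rc_26_6 lc_g_rc_21_3 lc_g_rc_21_3 lc_g_Cert_tree lc_g_rc_26_3 lc_g_Cert_tree lc_g_rc_25_11 lc_g_Cert_tree lc_g_rc_21_3 lc_g_Cert_tree) (@D3.rec (fun _ => (Cert rels S Gen.g)) lc_g_Cert_tree lc_g_rc_21_2 lc_g_rc_21_2 lc_g_rc_24_3 lc_g_rc_24_3 lc_g_rc_26_3 lc_g_rc_21_3 lc_g_Cert_tree lc_g_rc_21_2 lc_g_rc_26_3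 lc_g_rc_24_7 lc_g_rc_21_3 lc_g_Cert_tree lc_g_rc_24_3 lc_g_rc_25_19 lc_g_Cert_tree lc_g_rc_21_2 lc_g_rc_26_3 lc_g_Cert_tree lc_g_rc_26_3 lc_g_rc_21_2 lc_g_rc_26_3 lc_g_Cert_tree lc_g_rc_21_3 lc_g_Cert_tree lc_g_rc_23_1 lc_g_Cert_tree lc_g_rc_24_3 lc_g_rc_27_3 lc_g_rc_27_9 lc_g_Cert_tree lc_g_rc_26_3 lc_g_Cert_tree lc_g_Cert_tree lc_g_rc_24_1 lc_g_rc_27_6 lc_g_rc_24_1 lc_g_Cert_tree lc_g_rc_26_6 lc_g_Cert_tree lc_g_rc_21_3 lc_g_Cert_tree lc_g_rc_26_6 lc_g_rc_26_6 lc_g_rc_21_3 lc_g_Cert_tree lc_g_rc_26_9 lc_g_rc_21_2 lc_g_rc_24_7 lc_g_rc_21_2 lc_g_rc_27_9 lc_g_rc_21_2 lc_g_rc_21_3 lc_g_Cert_tree lc_g_rc_27_3 lc_g_rc_27_6 lc_g_rc_21_3 lc_g_rc_23_9 lc_g_rc_21_3 lc_g_rc_23_9 lc_g_rc_23_3 lc_g_rc_24_1)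 (@D3.rec (fun _ => (Cert rels S Gen.g)) lc_g_rc_21_2 lc_g_rc_21_2 lc_g_rc_24_3 lc_g_rc_21_2 lc_g_Cert_tree lc_g_rc_23_3 lc_g_rc_26_6 lc_g_Cert_tree lc_g_rc_21_3 lc_g_rc_26_9 lc_g_rc_21_3 lc_g_Cert_tree lc_g_rc_23_9 lc_g_rc_26_6 lc_g_Cert_tree lc_g_rc_27_9 lc_g_rc_21_2 lc_g_rc_27_6 lc_g_rc_26_3 lc_g_rc_21_3 lc_g_Cert_tree lc_g_rc_21_2 lc_g_rc_21_3 lc_g_Cert_tree lc_g_rc_21_2 lc_g_rc_26_0 lc_g_rc_26_6 lc_g_rc_21_2 lc_g_rc_26_0 lc_g_Cert_tree lc_g_rc_26_6 lc_g_rc_21_3 lc_g_rc_21_3 lc_g_Cert_tree lc_g_rc_21_3 lc_g_Cert_tree lc_g_rc_27_3 lc_g_rc_24_7 lc_g_Cert_tree lc_g_Cert_tree lc_g_rc_21_2 lc_g_rc_21_2 lc_g_rc_23_3 lc_g_rc_26_6 lc_g_rc_21_2 lc_g_rc_26_3 lc_g_Cert_tree lc_g_rc_27_3 lc_g_rc_21_3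 lc_g_Cert_tree lc_g_rc_21_2 lc_g_rc_21_2 lc_g_rc_21_2 lc_g_rc_21_3 lc_g_Cert_tree lc_g_rc_24_7 lc_g_rc_23_7 lc_g_rc_27_6 lc_g_rc_26_3 lc_g_rc_26_0 lc_g_rc_26_9 lc_g_rc_21_3) (@D3.rec (fun _ => (Cert rels S Gen.g)) lc_g_rc_26_6 lc_g_rc_21_2 lc_g_rc_21_3 lc_g_Cert_tree lc_g_rc_25_3 lc_g_rc_23_3 lc_g_rc_23_7 lc_g_Cert_tree lc_g_rc_24_1 lc_g_rc_26_3 lc_g_rc_26_6 lc_g_rc_21_3 lc_g_rc_24_3 lc_g_rc_27_3 lc_g_rc_26_0 lc_g_Cert_tree lc_g_rc_27_0 lc_g_rc_21_2 lc_g_rc_21_3 lc_g_Cert_tree lc_g_Cert_tree lc_g_rc_21_3 lc_g_Cert_tree lc_g_rc_21_2 lc_g_rc_21_2 lc_g_rc_21_2 lc_g_Cert_tree lc_g_rc_24_7 lc_g_rc_21_3 lc_g_Cert_tree lc_g_Cert_tree lc_g_rc_21_3 lc_g_rc_26_9 lc_g_rc_23_7 lc_g_rc_21_3 lc_g_rc_24_3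 lc_g_Cert_tree lc_g_rc_23_3 lc_g_rc_27_3 lc_g_Cert_tree lc_g_rc_21_2 lc_g_rc_21_2 lc_g_rc_26_6 lc_g_rc_23_3 lc_g_rc_26_0 lc_g_rc_21_2 lc_g_rc_26_0 lc_g_rc_21_3 lc_g_Cert_tree lc_g_Cert_tree lc_g_rc_21_3 lc_g_rc_21_2 lc_g_rc_27_9 lc_g_rc_21_3 lc_g_rc_24_3 lc_g_rc_21_3 lc_g_Cert_tree lc_g_rc_27_6 lc_g_rc_23_7 lc_g_rc_23_7 lc_g_rc_27_3 lc_g_rc_21_2) (@D3.rec (fun _ => (Cert rels S Gen.g)) lc_g_rc_27_6 lc_g_rc_21_3 lc_g_Cert_tree lc_g_Cert_tree lc_g_rc_23_7 lc_g_rc_21_2 lc_g_rc_27_3 lc_g_rc_21_3 lc_g_rc_26_0 lc_g_Cert_tree lc_g_rc_26_0 lc_g_Cert_tree lc_g_rc_26_6 lc_g_Cert_tree lc_g_rc_23_3 lc_g_rc_27_0 lc_g_rc_24_7 lc_g_rc_21_3 lc_g_rc_21_3 lc_g_rc_26_3 lc_g_rc_21_3 lc_g_Cert_tree lc_g_rc_24_1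 lc_g_rc_26_6 lc_g_Cert_tree lc_g_rc_21_3 lc_g_rc_27_9 lc_g_rc_26_9 lc_g_rc_24_3 lc_g_rc_23_1 lc_g_rc_24_1 lc_g_rc_24_7 lc_g_rc_26_6 lc_g_rc_26_6 lc_g_rc_23_3 lc_g_rc_21_3 lc_g_Cert_tree lc_g_rc_21_2 lc_g_Cert_tree lc_g_rc_21_2 lc_g_rc_21_3 lc_g_rc_21_3 lc_g_rc_21_2 lc_g_rc_27_6 lc_g_rc_21_3 lc_g_rc_27_3 lc_g_rc_27_6 lc_g_rc_26_9 lc_g_Cert_tree lc_g_rc_23_9 lc_g_rc_21_3 lc_g_rc_21_2 lc_g_rc_21_3 lc_g_Cert_tree lc_g_rc_21_2 lc_g_rc_21_2 lc_g_rc_24_1 lc_g_rc_21_3 lc_g_Cert_tree lc_g_Cert_tree lc_g_Cert_tree lc_g_rc_27_0) (@D3.rec (fun _ => (Cert rels S Gen.g)) lc_g_Cert_tree lc_g_rc_21_3 lc_g_rc_21_2 lc_g_rc_23_9 lc_g_rc_24_7 lc_g_Cert_tree lc_g_rc_21_3 lc_g_Cert_tree lc_g_rc_27_6 lc_g_rc_21_3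 lc_g_Cert_tree lc_g_Cert_tree lc_g_rc_23_3 lc_g_rc_21_2 lc_g_rc_21_2 lc_g_rc_26_3 lc_g_rc_21_2 lc_g_rc_24_1 lc_g_rc_26_9 lc_g_rc_21_2 lc_g_rc_27_6 lc_g_rc_21_2 lc_g_rc_26_6 lc_g_rc_21_2 lc_g_rc_26_6 lc_g_rc_21_3 lc_g_rc_27_3 lc_g_rc_27_3 lc_g_rc_21_3 lc_g_Cert_tree lc_g_rc_23_3 lc_g_Cert_tree lc_g_rc_21_2 lc_g_rc_21_3 lc_g_rc_21_2 lc_g_Cert_tree lc_g_rc_21_3 lc_g_Cert_tree lc_g_rc_21_2 lc_g_rc_27_6 lc_g_Cert_tree lc_g_rc_27_3 lc_g_rc_26_3 lc_g_rc_27_6 lc_g_Cert_tree lc_g_rc_26_0 lc_g_rc_26_6 lc_g_Cert_tree lc_g_rc_27_9 lc_g_rc_26_6 lc_g_Cert_tree lc_g_rc_21_3 lc_g_rc_26_9 lc_g_rc_25_7 lc_g_Cert_tree lc_g_rc_27_0 lc_g_rc_26_6 lc_g_rc_24_1 lc_g_rc_26_6 lc_g_rc_26_3 lc_g_rc_26_6 lc_g_rc_26_9)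 (@D3.rec (fun _ => (Cert rels S Gen.g)) lc_g_Cert_tree lc_g_rc_21_3 lc_g_rc_21_2 lc_g_Cert_tree lc_g_rc_21_3 lc_g_Cert_tree lc_g_rc_24_3 lc_g_rc_21_3 lc_g_rc_21_3 lc_g_Cert_tree lc_g_Cert_tree lc_g_rc_21_2 lc_g_rc_26_6 lc_g_rc_26_9 lc_g_rc_27_3 lc_g_rc_21_3 lc_g_Cert_tree lc_g_Cert_tree lc_g_rc_21_2 lc_g_rc_27_9 lc_g_rc_27_0 lc_g_rc_26_0 lc_g_rc_27_9 lc_g_rc_21_3 lc_g_Cert_tree lc_g_rc_21_3 lc_g_rc_21_2 lc_g_rc_21_2 lc_g_rc_21_2 lc_g_rc_21_2 lc_g_rc_21_2 lc_g_Cert_tree lc_g_Cert_tree lc_g_rc_27_3 lc_g_Cert_tree lc_g_rc_24_3 lc_g_rc_27_6 lc_g_rc_26_6 lc_g_rc_27_9 lc_g_rc_21_3 lc_g_rc_21_3 lc_g_rc_21_3 lc_g_rc_21_2 lc_g_rc_21_3 lc_g_rc_21_2 lc_g_rc_21_2 lc_g_Cert_tree lc_g_rc_21_2 lc_g_rc_27_3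 lc_g_rc_21_3 lc_g_rc_26_3 lc_g_rc_21_2 lc_g_Cert_tree lc_g_rc_27_6 lc_g_rc_27_6 lc_g_rc_26_6 lc_g_rc_21_2 lc_g_Cert_tree lc_g_rc_21_3 lc_g_rc_21_3 lc_g_Cert_tree lc_g_rc_24_9) (@D3.rec (fun _ => (Cert rels S Gen.g)) lc_g_rc_21_2 lc_g_rc_21_2 lc_g_rc_21_3 lc_g_Cert_tree lc_g_rc_27_3 lc_g_rc_21_2 lc_g_rc_21_2 lc_g_rc_27_6 lc_g_rc_24_7 lc_g_rc_21_3 lc_g_rc_26_0 lc_g_rc_24_3 lc_g_rc_27_6 lc_g_Cert_tree lc_g_Cert_tree lc_g_rc_21_2 lc_g_rc_21_3 lc_g_Cert_tree lc_g_rc_25_19 lc_g_rc_21_2 lc_g_rc_24_1 lc_g_rc_26_9 lc_g_rc_21_2 lc_g_rc_21_3 lc_g_Cert_tree lc_g_rc_26_3 lc_g_rc_21_2 lc_g_rc_21_3 lc_g_rc_21_3 lc_g_Cert_tree lc_g_rc_21_2 lc_g_rc_26_0 lc_g_rc_27_0 lc_g_rc_24_9 lc_g_rc_26_6 lc_g_rc_23_9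 lc_g_rc_21_3 lc_g_rc_21_2 lc_g_Cert_tree lc_g_rc_21_2 lc_g_rc_27_6 lc_g_rc_21_3 lc_g_rc_21_3 lc_g_rc_21_3 lc_g_Cert_tree lc_g_Cert_tree lc_g_rc_21_2 lc_g_rc_21_2 lc_g_Cert_tree lc_g_rc_23_1 lc_g_rc_23_9 lc_g_rc_27_6 lc_g_Cert_tree lc_g_rc_24_9 lc_g_rc_21_2 lc_g_rc_23_9 lc_g_rc_26_0 lc_g_rc_26_9 lc_g_Cert_tree lc_g_rc_21_3 lc_g_Cert_tree lc_g_rc_27_3) (@D3.rec (fun _ => (Cert rels S Gen.g)) lc_g_rc_26_6 lc_g_rc_27_0 lc_g_Cert_tree lc_g_Cert_tree lc_g_rc_24_1 lc_g_rc_27_3 lc_g_rc_21_2 lc_g_rc_23_1 lc_g_rc_26_9 lc_g_rc_24_1 lc_g_rc_21_2 lc_g_Cert_tree lc_g_Cert_tree lc_g_rc_23_3 lc_g_rc_24_1 lc_g_Cert_tree lc_g_rc_23_1 lc_g_rc_21_3 lc_g_rc_23_3 lc_g_rc_27_6 lc_g_rc_23_3 lc_g_rc_24_7 lc_g_Cert_tree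 lc_g_rc_24_3 lc_g_rc_27_3 lc_g_rc_26_6 lc_g_rc_27_6 lc_g_Cert_tree lc_g_rc_21_2 lc_g_rc_23_1 lc_g_rc_23_3 lc_g_rc_21_3 lc_g_rc_24_1 lc_g_rc_27_3 lc_g_rc_21_3 lc_g_rc_27_0 lc_g_rc_26_3 lc_g_rc_21_3 lc_g_Cert_tree lc_g_rc_21_2 lc_g_Cert_tree lc_g_rc_27_6 lc_g_rc_21_2 lc_g_rc_21_2 lc_g_rc_27_9 lc_g_rc_27_0 lc_g_rc_21_3 lc_g_rc_27_6 lc_g_rc_27_6 lc_g_rc_24_7 lc_g_Cert_tree lc_g_Cert_tree lc_g_rc_23_3 lc_g_rc_21_3 lc_g_rc_27_0 lc_g_rc_26_6 lc_g_rc_21_3 lc_g_rc_21_3 lc_g_rc_21_3 lc_g_Cert_tree lc_g_rc_24_1 lc_g_rc_21_2) (@D3.rec (fun _ => (Cert rels S Gen.g)) lc_g_rc_26_0 lc_g_rc_23_7 lc_g_rc_26_9 lc_g_rc_23_7 lc_g_rc_21_3 lc_g_rc_26_3 lc_g_rc_21_2 lc_g_rc_24_1 lc_g_rc_27_0 lc_g_Cert_tree lc_g_rc_27_6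 lc_g_rc_27_9 lc_g_rc_21_3 lc_g_rc_24_3 lc_g_rc_26_6 lc_g_Cert_tree lc_g_rc_26_6 lc_g_rc_21_2 lc_g_rc_27_6 lc_g_rc_21_3 lc_g_Cert_tree lc_g_rc_21_2 lc_g_rc_21_2 lc_g_rc_26_9 lc_g_rc_23_3 lc_g_rc_26_6 lc_g_rc_27_6 lc_g_Cert_tree lc_g_Cert_tree lc_g_rc_25_19 lc_g_rc_23_9 lc_g_rc_24_1 lc_g_Cert_tree lc_g_rc_23_1 lc_g_Cert_tree lc_g_rc_23_1 lc_g_Cert_tree lc_g_rc_24_7 lc_g_Cert_tree lc_g_Cert_tree lc_g_rc_27_3 lc_g_rc_23_3 lc_g_Cert_tree lc_g_rc_27_3 lc_g_rc_26_9 lc_g_rc_24_7 lc_g_rc_27_6 lc_g_rc_24_1 lc_g_rc_26_9 lc_g_rc_27_9 lc_g_rc_23_9 lc_g_rc_23_3 lc_g_rc_21_3 lc_g_rc_27_0 lc_g_Cert_tree lc_g_rc_25_7 lc_g_rc_27_6 lc_g_rc_26_3 lc_g_rc_21_2 lc_g_rc_24_9 lc_g_rc_23_1 lc_g_rc_24_3) (@D3.rec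 (fun _ => (Cert rels S Gen.g)) lc_g_rc_27_3 lc_g_rc_23_9 lc_g_rc_21_2 lc_g_Cert_tree lc_g_Cert_tree lc_g_Cert_tree lc_g_rc_21_3 lc_g_Cert_tree lc_g_rc_23_3 lc_g_rc_21_3 lc_g_Cert_tree lc_g_rc_23_3 lc_g_rc_26_0 lc_g_rc_24_3 lc_g_rc_24_3 lc_g_rc_21_3 lc_g_Cert_tree lc_g_rc_23_7 lc_g_rc_24_1 lc_g_rc_27_6 lc_g_rc_24_3 lc_g_rc_27_6 lc_g_Cert_tree lc_g_rc_27_6 lc_g_rc_26_0 lc_g_rc_21_2 lc_g_Cert_tree lc_g_rc_24_3 lc_g_Cert_tree lc_g_Cert_tree lc_g_rc_27_0 lc_g_rc_21_3 lc_g_rc_27_9 lc_g_rc_27_9 lc_g_rc_21_2 lc_g_rc_21_2 lc_g_rc_21_2 lc_g_rc_24_1 lc_g_Cert_tree lc_g_rc_24_7 lc_g_Cert_tree lc_g_rc_21_2 lc_g_rc_21_2 lc_g_rc_24_7 lc_g_rc_21_2 lc_g_rc_24_1 lc_g_rc_27_9 lc_g_rc_21_2 lc_g_rc_26_6 lc_g_Cert_tree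 lc_g_rc_26_3 lc_g_rc_25_19 lc_g_rc_27_3 lc_g_rc_27_3 lc_g_rc_21_2 lc_g_rc_24_9 lc_g_rc_27_6 lc_g_rc_23_3 lc_g_rc_21_3 lc_g_Cert_tree lc_g_rc_21_2 lc_g_Cert_tree) (@D3.rec (fun _ => (Cert rels S Gen.g)) lc_g_rc_24_7 lc_g_Cert_tree lc_g_rc_21_2 lc_g_rc_27_9 lc_g_rc_21_2 lc_g_rc_23_7 lc_g_rc_27_9 lc_g_rc_23_3 lc_g_Cert_tree lc_g_rc_21_3 lc_g_rc_27_9 lc_g_rc_27_9 lc_g_rc_27_6 lc_g_rc_23_3 lc_g_Cert_tree lc_g_rc_26_0 lc_g_rc_24_1 lc_g_rc_21_3 lc_g_Cert_tree lc_g_rc_27_0 lc_g_rc_26_6 lc_g_rc_21_3 lc_g_Cert_tree lc_g_rc_21_3 lc_g_Cert_tree lc_g_rc_26_3 lc_g_rc_23_3 lc_g_rc_21_3 lc_g_Cert_tree lc_g_rc_21_2 lc_g_rc_26_6 lc_g_Cert_tree lc_g_rc_21_3 lc_g_Cert_tree lc_g_rc_24_7 lc_g_rc_26_9 lc_g_rc_24_3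 lc_g_rc_21_3 lc_g_rc_24_3 lc_g_rc_21_3 lc_g_Cert_tree lc_g_rc_21_2 lc_g_Cert_tree lc_g_Cert_tree lc_g_Cert_tree lc_g_rc_21_3 lc_g_rc_27_3 lc_g_rc_21_2 lc_g_Cert_tree lc_g_rc_21_3 lc_g_rc_26_3 lc_g_Cert_tree lc_g_rc_24_3 lc_g_rc_21_3 lc_g_Cert_tree lc_g_rc_23_7 lc_g_rc_24_7 lc_g_rc_24_3 lc_g_rc_26_3 lc_g_rc_23_3 lc_g_rc_24_7 lc_g_rc_21_3) (@D3.rec (fun _ => (Cert rels S Gen.g)) lc_g_Cert_tree lc_g_rc_21_2 lc_g_Cert_tree lc_g_rc_25_15 lc_g_Cert_tree lc_g_rc_21_3 lc_g_Cert_tree lc_g_rc_21_2 lc_g_rc_27_6 lc_g_rc_21_3 lc_g_rc_24_3 lc_g_Cert_tree lc_g_rc_21_3 lc_g_rc_26_6 lc_g_Cert_tree lc_g_rc_21_3 lc_g_Cert_tree lc_g_rc_21_2 lc_g_rc_23_9 lc_g_Cert_tree lc_g_Cert_tree lc_g_rc_24_1 lc_g_rc_27_9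 lc_g_Cert_tree lc_g_rc_26_0 lc_g_rc_24_1 lc_g_rc_26_9 lc_g_rc_27_9 lc_g_rc_23_3 lc_g_rc_26_3 lc_g_rc_21_3 lc_g_Cert_tree lc_g_Cert_tree lc_g_rc_25_19 lc_g_rc_26_6 lc_g_rc_24_9 lc_g_rc_26_6 lc_g_rc_21_3 lc_g_rc_21_3 lc_g_Cert_tree lc_g_rc_21_2 lc_g_Cert_tree lc_g_rc_21_3 lc_g_rc_21_2 lc_g_Cert_tree lc_g_rc_26_0 lc_g_Cert_tree lc_g_rc_23_1 lc_g_rc_27_3 lc_g_Cert_tree lc_g_Cert_tree lc_g_rc_27_6 lc_g_rc_24_7 lc_g_rc_23_3 lc_g_rc_24_7 lc_g_rc_27_6 lc_g_rc_21_2 lc_g_Cert_tree lc_g_rc_24_9 lc_g_rc_21_3 lc_g_rc_21_2 lc_g_rc_24_7) (@D3.rec (fun _ => (Cert rels S Gen.g)) lc_g_rc_21_2 lc_g_rc_23_3 lc_g_rc_26_0 lc_g_rc_26_0 lc_g_rc_24_9 lc_g_rc_21_3 lc_g_rc_21_3 lc_g_Cert_tree lc_g_rc_21_2 lc_g_rc_21_2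 lc_g_rc_26_3 lc_g_rc_24_3 lc_g_Cert_tree lc_g_rc_26_3 lc_g_rc_26_3 lc_g_rc_26_9 lc_g_rc_21_2 lc_g_rc_21_2 lc_g_rc_26_3 lc_g_rc_21_3 lc_g_Cert_tree lc_g_rc_21_2 lc_g_rc_21_2 lc_g_rc_26_9 lc_g_rc_26_3 lc_g_rc_21_3 lc_g_rc_21_3 lc_g_Cert_tree lc_g_rc_24_1 lc_g_rc_21_3 lc_g_rc_21_3 lc_g_rc_21_2 lc_g_Cert_tree lc_g_Cert_tree lc_g_rc_24_3 lc_g_rc_26_6 lc_g_rc_21_3 lc_g_rc_26_6 lc_g_rc_26_0 lc_g_Cert_tree lc_g_rc_21_3 lc_g_rc_27_6 lc_g_rc_23_3 lc_g_rc_21_2 lc_g_rc_23_3 lc_g_rc_27_3 lc_g_rc_27_9 lc_g_rc_24_1 lc_g_rc_23_3 lc_g_rc_26_0 lc_g_Cert_tree lc_g_rc_23_1 lc_g_rc_21_2 lc_g_rc_21_3 lc_g_rc_24_1 lc_g_rc_21_2 lc_g_rc_21_2 lc_g_rc_23_1 lc_g_rc_23_1 lc_g_rc_26_3 lc_g_rc_21_3 lc_g_rc_21_2) (@D3.rec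 (fun _ => (Cert rels S Gen.g)) lc_g_rc_24_7 lc_g_rc_26_3 lc_g_rc_26_6 lc_g_rc_24_1 lc_g_rc_21_3 lc_g_rc_26_3 lc_g_rc_21_2 lc_g_rc_21_3 lc_g_rc_23_3 lc_g_rc_26_6 lc_g_rc_21_2 lc_g_rc_21_2 lc_g_rc_26_6 lc_g_rc_21_2 lc_g_rc_27_9 lc_g_rc_26_0 lc_g_rc_21_3 lc_g_rc_27_3 lc_g_rc_23_9 lc_g_rc_23_7 lc_g_rc_21_3 lc_g_Cert_tree lc_g_rc_23_3 lc_g_rc_21_3 lc_g_Cert_tree lc_g_rc_23_3 lc_g_rc_24_3 lc_g_Cert_tree lc_g_rc_23_9 lc_g_rc_27_6 lc_g_rc_23_1 lc_g_rc_21_2 lc_g_rc_23_1 lc_g_rc_23_7 lc_g_rc_27_6 lc_g_rc_21_3 lc_g_rc_21_2 lc_g_rc_21_2 lc_g_rc_26_3 lc_g_rc_21_3 lc_g_rc_24_3 lc_g_rc_21_3 lc_g_Cert_tree lc_g_rc_24_7 lc_g_rc_27_3 lc_g_rc_24_3 lc_g_rc_27_3 lc_g_Cert_tree lc_g_rc_21_3 lc_g_Cert_tree lc_g_rc_27_6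 lc_g_rc_26_3 lc_g_rc_24_1 lc_g_rc_21_3 lc_g_Cert_tree lc_g_Cert_tree lc_g_rc_23_1 lc_g_rc_26_9 lc_g_rc_24_7 lc_g_rc_21_3 lc_g_rc_21_2 lc_g_rc_24_3) (@D3.rec (fun _ => (Cert rels S Gen.g)) lc_g_rc_24_3 lc_g_rc_27_9 lc_g_rc_21_2 lc_g_rc_24_3 lc_g_Cert_tree lc_g_Cert_tree lc_g_rc_21_2 lc_g_rc_27_3 lc_g_rc_24_7 lc_g_rc_23_7 lc_g_rc_23_3 lc_g_rc_24_7 lc_g_rc_25_3 lc_g_rc_21_3 lc_g_rc_23_3 lc_g_Cert_tree lc_g_rc_26_0 lc_g_rc_25_11 lc_g_rc_23_3 lc_g_rc_26_3 lc_g_rc_27_9 lc_g_rc_23_3 lc_g_rc_27_3 lc_g_rc_21_2 lc_g_rc_27_6 lc_g_rc_21_2 lc_g_Cert_tree lc_g_Cert_tree lc_g_rc_26_0 lc_g_rc_27_6 lc_g_Cert_tree lc_g_rc_26_0 lc_g_rc_27_6 lc_g_rc_24_7 lc_g_rc_27_6 lc_g_rc_26_6 lc_g_rc_24_3 lc_g_rc_26_6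 lc_g_rc_23_9 lc_g_rc_21_3 lc_g_Cert_tree lc_g_rc_24_3 lc_g_rc_23_3 lc_g_rc_21_2 lc_g_rc_26_0 lc_g_rc_21_3 lc_g_rc_25_11 lc_g_Cert_tree lc_g_rc_26_3 lc_g_rc_23_3 lc_g_Cert_tree lc_g_Cert_tree lc_g_rc_25_19 lc_g_Cert_tree lc_g_rc_23_1 lc_g_Cert_tree lc_g_rc_24_3 lc_g_rc_27_0 lc_g_rc_27_3 lc_g_rc_21_2 lc_g_Cert_tree lc_g_rc_26_3) (@D3.rec (fun _ => (Cert rels S Gen.g)) lc_g_rc_26_3 lc_g_rc_24_7 lc_g_rc_21_2 lc_g_rc_23_1 lc_g_rc_26_6 lc_g_rc_26_6 lc_g_Cert_tree lc_g_Cert_tree lc_g_Cert_tree lc_g_rc_21_3 lc_g_Cert_tree lc_g_rc_27_3 lc_g_rc_27_6 lc_g_Cert_tree lc_g_rc_21_2 lc_g_rc_27_6 lc_g_Cert_tree lc_g_rc_21_3 lc_g_Cert_tree lc_g_rc_23_3 lc_g_rc_21_2 lc_g_rc_21_3 lc_g_rc_26_3 lc_g_rc_27_3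 lc_g_rc_27_3 lc_g_Cert_tree lc_g_rc_27_0 lc_g_rc_26_6 lc_g_rc_26_9 lc_g_rc_27_9 lc_g_Cert_tree lc_g_Cert_tree lc_g_rc_26_3 lc_g_rc_21_3 lc_g_Cert_tree lc_g_rc_21_2 lc_g_rc_21_2 lc_g_rc_21_3 lc_g_Cert_tree lc_g_rc_21_2 lc_g_rc_25_7 lc_g_rc_27_0 lc_g_rc_27_3 lc_g_Cert_tree lc_g_rc_21_2 lc_g_rc_21_2 lc_g_rc_26_3 lc_g_rc_27_6 lc_g_rc_27_3 lc_g_rc_26_9 lc_g_Cert_tree lc_g_rc_27_3 lc_g_rc_21_2 lc_g_rc_26_3 lc_g_rc_23_3 lc_g_rc_21_3 lc_g_Cert_tree lc_g_rc_21_3 lc_g_rc_27_0 lc_g_rc_26_6 lc_g_rc_21_2 lc_g_rc_21_3) (@D3.rec (fun _ => (Cert rels S Gen.g)) lc_g_Cert_tree lc_g_rc_21_2 lc_g_Cert_tree lc_g_Cert_tree lc_g_rc_24_7 lc_g_rc_21_2 lc_g_rc_21_3 lc_g_Cert_tree lc_g_Cert_tree lc_g_rc_21_3 lc_g_Cert_tree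 lc_g_rc_27_3 lc_g_rc_21_2 lc_g_rc_23_9 lc_g_rc_21_3 lc_g_Cert_tree lc_g_rc_21_2 lc_g_rc_21_2 lc_g_Cert_tree lc_g_Cert_tree lc_g_rc_21_2 lc_g_Cert_tree lc_g_rc_27_3 lc_g_rc_21_2 lc_g_rc_21_2 lc_g_rc_24_9 lc_g_rc_26_6 lc_g_rc_27_9 lc_g_rc_21_3 lc_g_rc_26_6 lc_g_rc_24_1 lc_g_rc_24_3 lc_g_rc_24_7 lc_g_rc_21_2 lc_g_rc_21_3 lc_g_rc_21_2 lc_g_rc_21_3 lc_g_Cert_tree lc_g_Cert_tree lc_g_rc_27_6 lc_g_rc_24_3 lc_g_rc_26_6 lc_g_Cert_tree lc_g_rc_25_19 lc_g_rc_21_3 lc_g_Cert_tree lc_g_rc_21_2 lc_g_rc_21_2 lc_g_rc_21_2 lc_g_Cert_tree lc_g_rc_27_3 lc_g_rc_21_3 lc_g_Cert_tree lc_g_rc_26_6 lc_g_Cert_tree lc_g_rc_21_2 lc_g_rc_21_2 lc_g_rc_21_3 lc_g_Cert_tree lc_g_rc_26_3 lc_g_rc_21_2 lc_g_rc_27_6) (@D3.rec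 (fun _ => (Cert rels S Gen.g)) lc_g_Cert_tree lc_g_rc_26_3 lc_g_Cert_tree lc_g_rc_26_6 lc_g_rc_26_6 lc_g_rc_21_3 lc_g_Cert_tree lc_g_Cert_tree lc_g_rc_21_2 lc_g_rc_26_3 lc_g_rc_26_6 lc_g_rc_23_1 lc_g_rc_23_3 lc_g_Cert_tree lc_g_rc_26_9 lc_g_rc_21_2 lc_g_Cert_tree lc_g_rc_23_7 lc_g_rc_27_6 lc_g_rc_24_1 lc_g_rc_27_6 lc_g_Cert_tree lc_g_rc_21_3 lc_g_Cert_tree lc_g_Cert_tree lc_g_rc_21_2 lc_g_rc_21_3 lc_g_Cert_tree lc_g_Cert_tree lc_g_rc_21_2 lc_g_Cert_tree lc_g_rc_23_7 lc_g_rc_26_3 lc_g_rc_21_3 lc_g_Cert_tree lc_g_rc_27_3 lc_g_rc_21_3 lc_g_rc_21_2 lc_g_rc_27_3 lc_g_rc_24_3 lc_g_rc_24_9 lc_g_Cert_tree lc_g_rc_27_3 lc_g_rc_21_2 lc_g_rc_27_0 lc_g_rc_27_0 lc_g_rc_27_6 lc_g_rc_21_3 lc_g_rc_21_2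 lc_g_rc_21_3 lc_g_Cert_tree lc_g_rc_26_9 lc_g_Cert_tree lc_g_rc_23_7 lc_g_rc_26_6 lc_g_rc_23_7 lc_g_rc_26_3 lc_g_Cert_tree lc_g_rc_27_3 lc_g_rc_21_2 lc_g_rc_26_6 lc_g_rc_23_7) (@D3.rec (fun _ => (Cert rels S Gen.g)) lc_g_rc_23_7 lc_g_rc_27_0 lc_g_rc_27_0 lc_g_rc_23_1 lc_g_rc_21_2 lc_g_rc_26_6 lc_g_rc_26_3 lc_g_rc_23_1 lc_g_rc_21_3 lc_g_Cert_tree lc_g_rc_21_3 lc_g_rc_21_3 lc_g_Cert_tree lc_g_Cert_tree lc_g_rc_21_2 lc_g_rc_23_7 lc_g_rc_27_6 lc_g_rc_21_3 lc_g_rc_23_3 lc_g_rc_24_7 lc_g_rc_21_2 lc_g_rc_24_3 lc_g_rc_23_9 lc_g_rc_21_2 lc_g_rc_27_9 lc_g_rc_24_7 lc_g_Cert_tree lc_g_rc_26_0 lc_g_rc_24_3 lc_g_Cert_tree lc_g_rc_21_3 lc_g_Cert_tree lc_g_Cert_tree lc_g_rc_21_2 lc_g_rc_26_0 lc_g_rc_21_3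 lc_g_Cert_tree lc_g_rc_23_7 lc_g_rc_21_2 lc_g_Cert_tree lc_g_rc_21_3 lc_g_rc_24_1 lc_g_rc_21_2 lc_g_rc_26_0 lc_g_rc_21_3 lc_g_Cert_tree lc_g_rc_26_9 lc_g_rc_26_0 lc_g_rc_21_3 lc_g_Cert_tree lc_g_Cert_tree lc_g_rc_24_1 lc_g_rc_25_3 lc_g_rc_21_3 lc_g_Cert_tree lc_g_Cert_tree lc_g_rc_21_2 lc_g_rc_23_9 lc_g_rc_21_2 lc_g_rc_21_2 lc_g_rc_21_3 lc_g_Cert_tree) (@D3.rec (fun _ => (Cert rels S Gen.g)) lc_g_Cert_tree lc_g_rc_26_0 lc_g_rc_27_3 lc_g_rc_26_3 lc_g_rc_27_3 lc_g_rc_21_2 lc_g_Cert_tree lc_g_rc_24_3 lc_g_rc_26_3 lc_g_rc_21_2 lc_g_Cert_tree lc_g_rc_21_3 lc_g_rc_21_3 lc_g_Cert_tree lc_g_rc_26_0 lc_g_rc_21_3 lc_g_Cert_tree lc_g_rc_21_2 lc_g_Cert_tree lc_g_rc_21_2 lc_g_rc_21_3 lc_g_Cert_tree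 lc_g_rc_21_3 lc_g_Cert_tree lc_g_Cert_tree lc_g_rc_21_2 lc_g_rc_21_3 lc_g_Cert_tree lc_g_rc_21_3 lc_g_Cert_tree lc_g_Cert_tree lc_g_rc_21_2 lc_g_rc_21_3 lc_g_Cert_tree lc_g_rc_24_1 lc_g_rc_24_3 lc_g_Cert_tree lc_g_rc_21_2 lc_g_rc_23_3 lc_g_Cert_tree lc_g_rc_25_19 lc_g_rc_24_1 lc_g_rc_27_3 lc_g_rc_21_2 lc_g_rc_21_3 lc_g_rc_21_3 lc_g_rc_23_3 lc_g_rc_24_3 lc_g_rc_25_11 lc_g_rc_27_9 lc_g_Cert_tree lc_g_rc_21_3 lc_g_Cert_tree lc_g_rc_24_1 lc_g_rc_23_9 lc_g_rc_25_3 lc_g_rc_27_3 lc_g_rc_23_9 lc_g_rc_26_6 lc_g_rc_27_9 lc_g_rc_24_3 lc_g_rc_21_3) (@D3.rec (fun _ => (Cert rels S Gen.g)) lc_g_Cert_tree lc_g_rc_21_2 lc_g_rc_21_3 lc_g_rc_21_3 lc_g_Cert_tree lc_g_rc_21_2 lc_g_rc_24_1 lc_g_Cert_tree lc_g_rc_26_6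 lc_g_rc_21_2 lc_g_rc_25_3 lc_g_Cert_tree lc_g_rc_27_6 lc_g_Cert_tree lc_g_rc_21_3 lc_g_rc_21_2 lc_g_rc_21_3 lc_g_rc_24_7 lc_g_rc_24_3 lc_g_rc_26_6 lc_g_rc_27_3 lc_g_rc_21_3 lc_g_rc_21_2 lc_g_rc_21_3 lc_g_Cert_tree lc_g_rc_27_6 lc_g_rc_26_0 lc_g_rc_24_3 lc_g_rc_27_0 lc_g_Cert_tree lc_g_rc_21_2 lc_g_rc_24_3 lc_g_rc_26_6 lc_g_rc_21_2 lc_g_rc_26_9 lc_g_rc_21_2 lc_g_rc_21_3 lc_g_Cert_tree lc_g_rc_21_2 lc_g_rc_21_3 lc_g_Cert_tree lc_g_rc_21_2 lc_g_rc_21_3 lc_g_Cert_tree lc_g_rc_26_9 lc_g_rc_26_6 lc_g_rc_24_3 lc_g_rc_21_2 lc_g_rc_23_1 lc_g_rc_21_2 lc_g_rc_24_3 lc_g_rc_26_3 lc_g_rc_27_3 lc_g_rc_26_0 lc_g_rc_24_7 lc_g_rc_21_3 lc_g_rc_23_7 lc_g_Cert_tree lc_g_rc_21_2 lc_g_rc_27_3 lc_g_Cert_tree lc_g_Cert_tree)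
def ce_g_21 : D2 → D3 → (Cert rels S Gen.g) := @D2.rec (fun _ => D3 → (Cert rels S Gen.g)) (@D3.rec (fun _ => (Cert rels S Gen.g)) lc_g_rc_27_3 lc_g_Cert_tree lc_g_rc_27_9 lc_g_rc_26_0 lc_g_rc_21_3 lc_g_rc_26_3 lc_g_rc_27_0 lc_g_rc_21_3 lc_g_rc_23_3 lc_g_rc_23_3 lc_g_rc_26_3 lc_g_rc_27_9 lc_g_rc_21_2 lc_g_rc_21_3 lc_g_Cert_tree lc_g_rc_21_2 lc_g_rc_26_3 lc_g_rc_26_3 lc_g_Cert_tree lc_g_rc_27_3 lc_g_Cert_tree lc_g_rc_23_3 lc_g_rc_24_3 lc_g_rc_23_7 lc_g_rc_26_3 lc_g_rc_27_0 lc_g_rc_26_6 lc_g_rc_24_9 lc_g_rc_21_3 lc_g_rc_24_7 lc_g_rc_27_0 lc_g_rc_26_0 lc_g_rc_23_3 lc_g_rc_27_0 lc_g_rc_21_2 lc_g_rc_23_3 lc_g_rc_21_3 lc_g_rc_26_9 lc_g_rc_26_9 lc_g_rc_26_6 lc_g_rc_21_3 lc_g_rc_27_0 lc_g_rc_24_1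 lc_g_rc_24_3 lc_g_rc_21_3 lc_g_Cert_tree lc_g_rc_21_2 lc_g_rc_21_3 lc_g_Cert_tree lc_g_rc_21_3 lc_g_rc_24_7 lc_g_rc_21_2 lc_g_rc_23_9 lc_g_rc_26_6 lc_g_rc_26_6 lc_g_rc_27_9 lc_g_rc_21_2 lc_g_rc_23_3 lc_g_rc_21_2 lc_g_rc_23_3 lc_g_Cert_tree lc_g_rc_26_0) (@D3.rec (fun _ => (Cert rels S Gen.g)) lc_g_rc_24_1 lc_g_rc_24_3 lc_g_Cert_tree lc_g_Cert_tree lc_g_rc_21_2 lc_g_rc_21_2 lc_g_rc_21_2 lc_g_rc_27_3 lc_g_Cert_tree lc_g_rc_21_3 lc_g_Cert_tree lc_g_rc_23_7 lc_g_rc_26_3 lc_g_rc_21_3 lc_g_Cert_tree lc_g_rc_21_3 lc_g_rc_21_2 lc_g_rc_23_7 lc_g_rc_23_7 lc_g_rc_26_0 lc_g_Cert_tree lc_g_rc_24_1 lc_g_rc_26_6 lc_g_Cert_tree lc_g_rc_26_0 lc_g_rc_24_3 lc_g_rc_21_2 lc_g_rc_26_3 lc_g_Cert_tree lc_g_rc_23_9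 lc_g_rc_21_2 lc_g_rc_26_9 lc_g_Cert_tree lc_g_rc_23_1 lc_g_rc_26_3 lc_g_rc_27_0 lc_g_rc_27_3 lc_g_rc_26_3 lc_g_rc_26_9 lc_g_rc_27_0 lc_g_rc_24_3 lc_g_rc_21_3 lc_g_Cert_tree lc_g_rc_21_2 lc_g_Cert_tree lc_g_rc_21_3 lc_g_Cert_tree lc_g_rc_21_2 lc_g_rc_24_3 lc_g_Cert_tree lc_g_rc_24_3 lc_g_Cert_tree lc_g_rc_23_7 lc_g_rc_21_3 lc_g_Cert_tree lc_g_rc_27_6 lc_g_rc_21_2 lc_g_Cert_tree lc_g_rc_26_3 lc_g_rc_27_0 lc_g_rc_23_1 lc_g_rc_21_2) (@D3.rec (fun _ => (Cert rels S Gen.g)) lc_g_Cert_tree lc_g_rc_23_9 lc_g_rc_26_0 lc_g_rc_21_3 lc_g_rc_24_7 lc_g_Cert_tree lc_g_rc_26_0 lc_g_rc_24_3 lc_g_rc_24_1 lc_g_rc_27_3 lc_g_rc_23_1 lc_g_rc_24_3 lc_g_rc_27_6 lc_g_rc_26_0 lc_g_rc_26_3 lc_g_rc_21_3 lc_g_rc_23_1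 lc_g_rc_26_3 lc_g_rc_27_6 lc_g_rc_26_0 lc_g_Cert_tree lc_g_rc_21_2 lc_g_Cert_tree lc_g_rc_21_3 lc_g_Cert_tree lc_g_rc_27_3 lc_g_rc_21_3 lc_g_Cert_tree lc_g_rc_24_7 lc_g_rc_21_2 lc_g_rc_26_0 lc_g_rc_21_2 lc_g_rc_23_9 lc_g_rc_27_3 lc_g_rc_26_3 lc_g_rc_27_6 lc_g_rc_21_3 lc_g_rc_21_3 lc_g_rc_24_3 lc_g_rc_27_6 lc_g_rc_27_3 lc_g_Cert_tree lc_g_rc_21_2 lc_g_rc_21_3 lc_g_Cert_tree lc_g_rc_21_2 lc_g_Cert_tree lc_g_rc_24_7 lc_g_rc_27_3 lc_g_rc_24_7 lc_g_Cert_tree lc_g_rc_24_3 lc_g_rc_21_2 lc_g_rc_26_3 lc_g_rc_26_6 lc_g_rc_23_7 lc_g_rc_27_0 lc_g_rc_23_3 lc_g_rc_24_3 lc_g_rc_27_6 lc_g_Cert_tree lc_g_rc_23_9) (@D3.rec (fun _ => (Cert rels S Gen.g)) lc_g_rc_21_3 lc_g_Cert_tree lc_g_Cert_tree lc_g_rc_21_2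 lc_g_rc_26_9 lc_g_Cert_tree lc_g_Cert_tree lc_g_rc_27_6 lc_g_rc_21_2 lc_g_rc_21_3 lc_g_Cert_tree lc_g_rc_26_9 lc_g_Cert_tree lc_g_rc_21_2 lc_g_rc_23_3 lc_g_rc_26_3 lc_g_rc_27_9 lc_g_rc_24_3 lc_g_rc_27_9 lc_g_rc_27_6 lc_g_rc_21_3 lc_g_rc_26_6 lc_g_Cert_tree lc_g_rc_21_2 lc_g_rc_27_6 lc_g_rc_21_3 lc_g_Cert_tree lc_g_rc_26_3 lc_g_rc_21_3 lc_g_Cert_tree lc_g_rc_27_6 lc_g_rc_21_2 lc_g_rc_27_6 lc_g_rc_21_3 lc_g_rc_21_3 lc_g_Cert_tree lc_g_rc_23_9 lc_g_rc_21_2 lc_g_rc_24_7 lc_g_rc_27_3 lc_g_rc_26_0 lc_g_rc_27_9 lc_g_rc_21_2 lc_g_rc_21_2 lc_g_rc_21_3 lc_g_rc_21_2 lc_g_Cert_tree lc_g_rc_26_3 lc_g_rc_27_9 lc_g_rc_23_3 lc_g_rc_23_1 lc_g_rc_21_3 lc_g_rc_21_3 lc_g_rc_21_2 lc_g_rc_24_7 lc_g_rc_21_2 lc_g_rc_21_3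 lc_g_rc_23_7 lc_g_rc_21_3 lc_g_rc_24_7 lc_g_rc_24_3 lc_g_rc_21_2) (@D3.rec (fun _ => (Cert rels S Gen.g)) lc_g_rc_27_6 lc_g_rc_23_1 lc_g_rc_26_3 lc_g_Cert_tree lc_g_rc_27_0 lc_g_rc_21_3 lc_g_rc_26_6 lc_g_rc_27_6 lc_g_rc_21_2 lc_g_rc_27_0 lc_g_Cert_tree lc_g_rc_21_2 lc_g_Cert_tree lc_g_rc_24_3 lc_g_rc_21_2 lc_g_rc_27_0 lc_g_rc_21_2 lc_g_rc_27_0 lc_g_rc_24_1 lc_g_rc_21_2 lc_g_rc_21_3 lc_g_Cert_tree lc_g_rc_27_6 lc_g_rc_21_2 lc_g_rc_21_3 lc_g_Cert_tree lc_g_rc_21_3 lc_g_Cert_tree lc_g_rc_21_2 lc_g_rc_21_2 lc_g_Cert_tree lc_g_rc_21_2 lc_g_rc_26_6 lc_g_rc_23_1 lc_g_rc_27_9 lc_g_Cert_tree lc_g_rc_27_0 lc_g_rc_21_2 lc_g_rc_21_3 lc_g_rc_21_3 lc_g_rc_21_2 lc_g_Cert_tree lc_g_Cert_tree lc_g_rc_25_3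 lc_g_rc_24_1 lc_g_rc_21_2 lc_g_rc_21_3 lc_g_rc_26_0 lc_g_rc_24_9 lc_g_rc_27_3 lc_g_rc_21_3 lc_g_Cert_tree lc_g_rc_24_1 lc_g_rc_27_6 lc_g_rc_21_3 lc_g_rc_23_7 lc_g_rc_21_3 lc_g_Cert_tree lc_g_rc_21_2 lc_g_Cert_tree lc_g_rc_21_3 lc_g_Cert_tree) (@D3.rec (fun _ => (Cert rels S Gen.g)) lc_g_rc_21_2 lc_g_rc_27_6 lc_g_rc_23_3 lc_g_Cert_tree lc_g_rc_21_3 lc_g_rc_21_2 lc_g_rc_26_0 lc_g_Cert_tree lc_g_rc_21_2 lc_g_rc_24_7 lc_g_rc_26_6 lc_g_rc_27_6 lc_g_rc_21_3 lc_g_Cert_tree lc_g_rc_23_3 lc_g_rc_26_9 lc_g_Cert_tree lc_g_rc_21_3 lc_g_rc_21_3 lc_g_Cert_tree lc_g_rc_21_2 lc_g_rc_21_3 lc_g_rc_26_6 lc_g_Cert_tree lc_g_rc_21_2 lc_g_rc_26_6 lc_g_rc_23_7 lc_g_rc_24_1 lc_g_rc_24_1 lc_g_rc_23_7 lc_g_rc_21_2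 lc_g_rc_21_3 lc_g_Cert_tree lc_g_rc_26_6 lc_g_rc_27_0 lc_g_rc_24_3 lc_g_rc_27_6 lc_g_rc_26_3 lc_g_Cert_tree lc_g_rc_24_1 lc_g_rc_24_3 lc_g_rc_21_3 lc_g_rc_26_6 lc_g_rc_23_3 lc_g_rc_23_3 lc_g_rc_26_6 lc_g_rc_24_7 lc_g_Cert_tree lc_g_Cert_tree lc_g_rc_21_2 lc_g_rc_21_3 lc_g_rc_26_3 lc_g_rc_21_2 lc_g_rc_27_6 lc_g_Cert_tree lc_g_rc_21_3 lc_g_Cert_tree lc_g_rc_21_2 lc_g_rc_23_3 lc_g_Cert_tree lc_g_rc_23_3 lc_g_rc_21_3) (@D3.rec (fun _ => (Cert rels S Gen.g)) lc_g_rc_21_2 lc_g_Cert_tree lc_g_Cert_tree lc_g_rc_21_3 lc_g_Cert_tree lc_g_rc_21_2 lc_g_rc_26_6 lc_g_Cert_tree lc_g_rc_21_2 lc_g_rc_26_9 lc_g_rc_21_2 lc_g_rc_21_3 lc_g_rc_26_9 lc_g_rc_21_2 lc_g_rc_27_0 lc_g_rc_21_3 lc_g_Cert_tree lc_g_rc_21_2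 lc_g_rc_21_3 lc_g_Cert_tree lc_g_rc_26_6 lc_g_rc_27_0 lc_g_rc_23_1 lc_g_rc_27_6 lc_g_Cert_tree lc_g_rc_24_3 lc_g_rc_21_3 lc_g_Cert_tree lc_g_rc_21_2 lc_g_rc_21_3 lc_g_Cert_tree lc_g_rc_21_2 lc_g_rc_23_3 lc_g_rc_21_2 lc_g_rc_21_3 lc_g_rc_21_2 lc_g_rc_27_9 lc_g_rc_23_9 lc_g_rc_26_0 lc_g_rc_27_3 lc_g_rc_23_3 lc_g_Cert_tree lc_g_rc_21_3 lc_g_Cert_tree lc_g_rc_21_2 lc_g_rc_27_6 lc_g_rc_21_3 lc_g_Cert_tree lc_g_rc_21_2 lc_g_Cert_tree lc_g_rc_26_9 lc_g_rc_26_3 lc_g_rc_21_3 lc_g_rc_23_3 lc_g_rc_23_1 lc_g_rc_23_3 lc_g_rc_23_1 lc_g_rc_27_0 lc_g_rc_26_0 lc_g_rc_21_3 lc_g_rc_21_3 lc_g_Cert_tree) (@D3.rec (fun _ => (Cert rels S Gen.g)) lc_g_Cert_tree lc_g_rc_21_2 lc_g_rc_21_3 lc_g_rc_27_9 lc_g_rc_27_6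 lc_g_rc_21_3 lc_g_rc_26_6 lc_g_rc_24_9 lc_g_rc_21_2 lc_g_Cert_tree lc_g_rc_21_2 lc_g_rc_27_6 lc_g_rc_23_1 lc_g_rc_21_2 lc_g_rc_26_6 lc_g_rc_21_2 lc_g_rc_24_7 lc_g_rc_27_6 lc_g_rc_26_0 lc_g_rc_23_3 lc_g_rc_27_9 lc_g_rc_21_3 lc_g_Cert_tree lc_g_rc_21_2 lc_g_rc_27_6 lc_g_rc_26_9 lc_g_rc_26_0 lc_g_rc_27_9 lc_g_rc_26_6 lc_g_rc_21_3 lc_g_Cert_tree lc_g_rc_21_2 lc_g_rc_21_2 lc_g_rc_21_3 lc_g_Cert_tree lc_g_rc_27_3 lc_g_Cert_tree lc_g_rc_24_3 lc_g_Cert_tree lc_g_rc_21_2 lc_g_rc_21_2 lc_g_Cert_tree lc_g_rc_21_2 lc_g_rc_21_2 lc_g_rc_24_1 lc_g_Cert_tree lc_g_rc_27_6 lc_g_rc_26_6 lc_g_rc_26_6 lc_g_Cert_tree lc_g_Cert_tree lc_g_rc_26_6 lc_g_rc_21_2 lc_g_rc_23_9 lc_g_rc_24_7 lc_g_Cert_tree lc_g_rc_27_6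 lc_g_rc_21_3 lc_g_Cert_tree lc_g_rc_27_3 lc_g_rc_21_2 lc_g_rc_21_3) (@D3.rec (fun _ => (Cert rels S Gen.g)) lc_g_Cert_tree lc_g_rc_27_3 lc_g_rc_21_2 lc_g_rc_24_3 lc_g_rc_24_3 lc_g_rc_21_3 lc_g_rc_23_9 lc_g_rc_24_3 lc_g_rc_27_6 lc_g_rc_21_3 lc_g_rc_21_2 lc_g_rc_21_3 lc_g_Cert_tree lc_g_rc_27_3 lc_g_rc_26_3 lc_g_rc_21_2 lc_g_Cert_tree lc_g_rc_26_0 lc_g_rc_27_6 lc_g_rc_24_7 lc_g_rc_21_2 lc_g_rc_21_3 lc_g_Cert_tree lc_g_rc_27_6 lc_g_rc_27_3 lc_g_rc_24_3 lc_g_rc_23_3 lc_g_rc_27_0 lc_g_rc_27_3 lc_g_rc_21_3 lc_g_rc_26_3 lc_g_rc_23_7 lc_g_rc_21_2 lc_g_rc_27_6 lc_g_Cert_tree lc_g_rc_24_3 lc_g_rc_23_7 lc_g_rc_21_3 lc_g_rc_23_3 lc_g_rc_21_3 lc_g_Cert_tree lc_g_rc_26_6 lc_g_rc_23_1 lc_g_Cert_tree lc_g_rc_21_2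 lc_g_Cert_tree lc_g_rc_21_2 lc_g_rc_26_3 lc_g_rc_23_7 lc_g_rc_26_6 lc_g_rc_26_9 lc_g_rc_23_7 lc_g_rc_23_1 lc_g_rc_23_7 lc_g_rc_23_3 lc_g_rc_21_2 lc_g_rc_21_3 lc_g_Cert_tree lc_g_Cert_tree lc_g_rc_26_6 lc_g_rc_23_3 lc_g_rc_21_3) (@D3.rec (fun _ => (Cert rels S Gen.g)) lc_g_rc_24_3 lc_g_rc_27_6 lc_g_rc_23_1 lc_g_rc_21_3 lc_g_rc_21_2 lc_g_rc_21_2 lc_g_rc_26_3 lc_g_rc_26_6 lc_g_rc_24_3 lc_g_rc_26_6 lc_g_Cert_tree lc_g_rc_27_6 lc_g_rc_23_3 lc_g_rc_26_3 lc_g_rc_21_3 lc_g_rc_24_3 lc_g_rc_27_6 lc_g_rc_21_3 lc_g_Cert_tree lc_g_rc_27_6 lc_g_Cert_tree lc_g_Cert_tree lc_g_rc_24_9 lc_g_rc_21_3 lc_g_Cert_tree lc_g_rc_24_3 lc_g_rc_27_6 lc_g_rc_27_6 lc_g_Cert_tree lc_g_rc_23_1 lc_g_rc_21_2 lc_g_rc_24_3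 lc_g_rc_21_2 lc_g_Cert_tree lc_g_rc_21_2 lc_g_Cert_tree lc_g_Cert_tree lc_g_rc_21_2 lc_g_rc_21_2 lc_g_rc_21_3 lc_g_rc_26_6 lc_g_rc_23_3 lc_g_rc_21_3 lc_g_rc_27_0 lc_g_rc_23_1 lc_g_rc_24_9 lc_g_rc_21_3 lc_g_Cert_tree lc_g_rc_26_6 lc_g_rc_21_2 lc_g_rc_21_3 lc_g_rc_21_2 lc_g_Cert_tree lc_g_rc_21_2 lc_g_rc_21_2 lc_g_rc_21_3 lc_g_Cert_tree lc_g_rc_25_11 lc_g_rc_26_3 lc_g_rc_21_3 lc_g_Cert_tree lc_g_rc_21_3) (@D3.rec (fun _ => (Cert rels S Gen.g)) lc_g_rc_21_2 lc_g_rc_21_2 lc_g_rc_21_3 lc_g_rc_21_3 lc_g_rc_21_3 lc_g_Cert_tree lc_g_rc_24_3 lc_g_rc_24_7 lc_g_rc_21_3 lc_g_rc_26_0 lc_g_Cert_tree lc_g_rc_21_2 lc_g_rc_26_0 lc_g_rc_24_9 lc_g_rc_26_0 lc_g_Cert_tree lc_g_rc_21_3 lc_g_rc_21_2 lc_g_rc_26_0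 lc_g_rc_27_9 lc_g_rc_24_1 lc_g_rc_27_6 lc_g_rc_24_3 lc_g_rc_27_6 lc_g_rc_21_3 lc_g_Cert_tree lc_g_rc_26_3 lc_g_Cert_tree lc_g_Cert_tree lc_g_rc_24_7 lc_g_rc_21_3 lc_g_Cert_tree lc_g_rc_21_2 lc_g_rc_26_6 lc_g_rc_21_2 lc_g_rc_21_3 lc_g_Cert_tree lc_g_rc_21_2 lc_g_rc_24_3 lc_g_rc_27_0 lc_g_rc_26_6 lc_g_Cert_tree lc_g_rc_21_3 lc_g_Cert_tree lc_g_rc_21_2 lc_g_Cert_tree lc_g_Cert_tree lc_g_rc_21_3 lc_g_Cert_tree lc_g_rc_21_2 lc_g_rc_25_11 lc_g_rc_21_2 lc_g_rc_24_3 lc_g_rc_27_3 lc_g_rc_21_3 lc_g_Cert_tree lc_g_rc_21_2 lc_g_rc_21_3 lc_g_Cert_tree lc_g_rc_21_2 lc_g_rc_21_2 lc_g_rc_21_3) (@D3.rec (fun _ => (Cert rels S Gen.g)) lc_g_rc_21_2 lc_g_Cert_tree lc_g_rc_26_6 lc_g_rc_21_3 lc_g_Cert_tree lc_g_rc_21_2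 lc_g_rc_21_3 lc_g_rc_24_3 lc_g_rc_23_3 lc_g_Cert_tree lc_g_rc_21_2 lc_g_Cert_tree lc_g_rc_21_2 lc_g_rc_21_3 lc_g_rc_23_3 lc_g_rc_21_3 lc_g_rc_21_2 lc_g_rc_27_9 lc_g_rc_27_6 lc_g_rc_23_3 lc_g_Cert_tree lc_g_rc_25_3 lc_g_rc_23_3 lc_g_rc_24_1 lc_g_rc_26_0 lc_g_rc_23_9 lc_g_rc_23_3 lc_g_rc_21_3 lc_g_Cert_tree lc_g_rc_21_2 lc_g_rc_21_3 lc_g_rc_21_2 lc_g_Cert_tree lc_g_rc_26_3 lc_g_Cert_tree lc_g_rc_23_9 lc_g_rc_26_3 lc_g_rc_27_0 lc_g_Cert_tree lc_g_rc_26_6 lc_g_rc_27_6 lc_g_rc_27_9 lc_g_rc_27_3 lc_g_rc_21_3 lc_g_rc_27_0 lc_g_rc_27_0 lc_g_Cert_tree lc_g_rc_21_2 lc_g_rc_27_6 lc_g_rc_27_3 lc_g_rc_24_1 lc_g_rc_27_6 lc_g_rc_24_9 lc_g_rc_27_6 lc_g_rc_21_2 lc_g_rc_21_2 lc_g_rc_27_0 lc_g_rc_25_3 lc_g_rc_24_9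 lc_g_rc_21_2 lc_g_rc_21_2 lc_g_rc_21_3) (@D3.rec (fun _ => (Cert rels S Gen.g)) lc_g_Cert_tree lc_g_rc_21_2 lc_g_rc_26_3 lc_g_rc_21_3 lc_g_rc_21_3 lc_g_Cert_tree lc_g_rc_21_2 lc_g_Cert_tree lc_g_Cert_tree lc_g_rc_21_2 lc_g_Cert_tree lc_g_rc_23_3 lc_g_rc_26_0 lc_g_rc_27_6 lc_g_rc_21_3 lc_g_Cert_tree lc_g_rc_26_0 lc_g_rc_27_3 lc_g_rc_21_3 lc_g_rc_24_7 lc_g_rc_24_9 lc_g_rc_27_6 lc_g_rc_27_9 lc_g_rc_23_7 lc_g_rc_27_6 lc_g_rc_21_3 lc_g_Cert_tree lc_g_rc_21_2 lc_g_rc_21_2 lc_g_rc_21_3 lc_g_rc_21_3 lc_g_rc_26_3 lc_g_rc_23_3 lc_g_rc_21_3 lc_g_rc_21_3 lc_g_rc_27_3 lc_g_Cert_tree lc_g_rc_24_3 lc_g_rc_21_2 lc_g_rc_21_2 lc_g_rc_26_6 lc_g_rc_26_9 lc_g_rc_26_3 lc_g_Cert_tree lc_g_rc_26_6 lc_g_rc_27_6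 lc_g_rc_24_7 lc_g_Cert_tree lc_g_rc_27_6 lc_g_rc_26_9 lc_g_rc_27_6 lc_g_Cert_tree lc_g_rc_21_2 lc_g_rc_26_3 lc_g_rc_26_3 lc_g_rc_21_3 lc_g_Cert_tree lc_g_rc_21_2 lc_g_rc_21_2 lc_g_rc_26_6 lc_g_rc_21_2 lc_g_rc_21_2) (@D3.rec (fun _ => (Cert rels S Gen.g)) lc_g_Cert_tree lc_g_rc_27_6 lc_g_Cert_tree lc_g_rc_26_6 lc_g_rc_26_6 lc_g_rc_21_2 lc_g_rc_26_0 lc_g_rc_27_6 lc_g_rc_21_3 lc_g_Cert_tree lc_g_rc_21_2 lc_g_rc_27_3 lc_g_rc_21_3 lc_g_rc_26_6 lc_g_rc_27_0 lc_g_rc_21_2 lc_g_Cert_tree lc_g_rc_27_6 lc_g_rc_25_11 lc_g_rc_24_9 lc_g_rc_27_0 lc_g_rc_27_3 lc_g_rc_21_2 lc_g_rc_21_2 lc_g_rc_21_3 lc_g_Cert_tree lc_g_rc_21_3 lc_g_Cert_tree lc_g_rc_24_3 lc_g_rc_27_3 lc_g_rc_27_6 lc_g_Cert_tree lc_g_rc_21_2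 lc_g_rc_21_2 lc_g_Cert_tree lc_g_rc_26_3 lc_g_rc_26_6 lc_g_rc_26_3 lc_g_rc_21_3 lc_g_Cert_tree lc_g_Cert_tree lc_g_rc_21_2 lc_g_rc_26_3 lc_g_rc_27_9 lc_g_rc_26_3 lc_g_Cert_tree lc_g_rc_21_2 lc_g_rc_21_3 lc_g_Cert_tree lc_g_Cert_tree lc_g_rc_21_2 lc_g_rc_27_6 lc_g_rc_23_3 lc_g_rc_21_3 lc_g_Cert_tree lc_g_rc_26_9 lc_g_Cert_tree lc_g_Cert_tree lc_g_rc_24_1 lc_g_Cert_tree lc_g_rc_21_3 lc_g_rc_27_0) (@D3.rec (fun _ => (Cert rels S Gen.g)) lc_g_rc_26_3 lc_g_rc_23_3 lc_g_rc_24_1 lc_g_rc_24_1 lc_g_rc_26_6 lc_g_rc_21_2 lc_g_rc_21_3 lc_g_rc_26_3 lc_g_rc_27_9 lc_g_rc_24_1 lc_g_rc_21_3 lc_g_rc_21_3 lc_g_rc_24_7 lc_g_rc_26_0 lc_g_rc_27_3 lc_g_rc_21_3 lc_g_rc_24_9 lc_g_Cert_tree lc_g_Cert_tree lc_g_Cert_tree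 lc_g_rc_24_9 lc_g_rc_27_3 lc_g_rc_27_9 lc_g_Cert_tree lc_g_rc_21_2 lc_g_rc_23_1 lc_g_rc_21_3 lc_g_rc_21_3 lc_g_rc_21_2 lc_g_rc_26_0 lc_g_rc_23_7 lc_g_rc_26_9 lc_g_rc_21_3 lc_g_rc_21_3 lc_g_Cert_tree lc_g_rc_21_2 lc_g_Cert_tree lc_g_rc_27_3 lc_g_rc_26_3 lc_g_rc_24_1 lc_g_rc_21_2 lc_g_rc_27_6 lc_g_Cert_tree lc_g_rc_21_3 lc_g_rc_21_3 lc_g_Cert_tree lc_g_rc_26_9 lc_g_rc_21_2 lc_g_Cert_tree lc_g_rc_21_3 lc_g_rc_21_2 lc_g_rc_27_9 lc_g_rc_26_3 lc_g_rc_21_3 lc_g_rc_27_0 lc_g_rc_27_3 lc_g_rc_26_3 lc_g_rc_24_7 lc_g_rc_27_0 lc_g_Cert_tree lc_g_rc_24_3 lc_g_rc_24_9) (@D3.rec (fun _ => (Cert rels S Gen.g)) lc_g_rc_26_6 lc_g_rc_21_3 lc_g_rc_27_6 lc_g_rc_27_6 lc_g_rc_27_9 lc_g_Cert_tree lc_g_rc_24_1 lc_g_rc_21_2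 lc_g_rc_21_2 lc_g_rc_27_6 lc_g_rc_27_3 lc_g_rc_26_6 lc_g_rc_27_6 lc_g_rc_21_3 lc_g_Cert_tree lc_g_rc_21_2 lc_g_rc_24_7 lc_g_rc_26_9 lc_g_rc_21_3 lc_g_rc_21_3 lc_g_rc_21_3 lc_g_Cert_tree lc_g_rc_21_2 lc_g_rc_21_3 lc_g_rc_21_2 lc_g_rc_23_3 lc_g_rc_23_1 lc_g_rc_27_0 lc_g_rc_21_3 lc_g_Cert_tree lc_g_rc_27_6 lc_g_rc_21_2 lc_g_rc_27_6 lc_g_rc_24_1 lc_g_rc_21_2 lc_g_Cert_tree lc_g_rc_21_2 lc_g_rc_26_3 lc_g_rc_25_3 lc_g_rc_21_3 lc_g_Cert_tree lc_g_Cert_tree lc_g_rc_27_9 lc_g_rc_27_3 lc_g_rc_27_6 lc_g_rc_26_3 lc_g_Cert_tree lc_g_rc_27_6 lc_g_rc_21_3 lc_g_rc_27_6 lc_g_rc_21_2 lc_g_rc_26_0 lc_g_rc_23_9 lc_g_rc_24_9 lc_g_rc_26_6 lc_g_rc_23_3 lc_g_rc_21_2 lc_g_rc_26_6 lc_g_rc_27_6 lc_g_rc_26_3 lc_g_Cert_tree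 lc_g_rc_21_3) (@D3.rec (fun _ => (Cert rels S Gen.g)) lc_g_rc_23_1 lc_g_rc_26_0 lc_g_rc_23_3 lc_g_rc_26_9 lc_g_rc_27_3 lc_g_rc_27_3 lc_g_rc_21_2 lc_g_rc_23_9 lc_g_rc_26_0 lc_g_rc_26_9 lc_g_rc_21_3 lc_g_rc_23_7 lc_g_Cert_tree lc_g_rc_24_7 lc_g_Cert_tree lc_g_Cert_tree lc_g_rc_27_3 lc_g_rc_27_6 lc_g_rc_23_1 lc_g_rc_21_3 lc_g_rc_24_7 lc_g_rc_21_3 lc_g_Cert_tree lc_g_rc_21_2 lc_g_rc_21_2 lc_g_rc_23_3 lc_g_rc_21_2 lc_g_rc_27_3 lc_g_rc_21_2 lc_g_rc_21_3 lc_g_rc_27_3 lc_g_rc_23_7 lc_g_rc_21_2 lc_g_rc_24_7 lc_g_rc_21_3 lc_g_Cert_tree lc_g_rc_21_2 lc_g_rc_26_0 lc_g_rc_27_9 lc_g_rc_21_3 lc_g_rc_24_3 lc_g_Cert_tree lc_g_Cert_tree lc_g_rc_21_2 lc_g_rc_24_7 lc_g_rc_21_2 lc_g_rc_21_2 lc_g_rc_21_3 lc_g_rc_24_3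 lc_g_rc_23_3 lc_g_rc_24_7 lc_g_rc_24_3 lc_g_Cert_tree lc_g_Cert_tree lc_g_rc_24_1 lc_g_rc_24_3 lc_g_Cert_tree lc_g_rc_26_6 lc_g_rc_27_3 lc_g_rc_25_15 lc_g_rc_26_9 lc_g_rc_24_3) (@D3.rec (fun _ => (Cert rels S Gen.g)) lc_g_rc_27_9 lc_g_rc_26_0 lc_g_rc_23_3 lc_g_rc_24_3 lc_g_Cert_tree lc_g_rc_27_0 lc_g_rc_25_15 lc_g_rc_21_3 lc_g_Cert_tree lc_g_rc_23_7 lc_g_Cert_tree lc_g_rc_21_3 lc_g_Cert_tree lc_g_rc_21_2 lc_g_rc_26_9 lc_g_rc_26_0 lc_g_rc_24_3 lc_g_rc_21_3 lc_g_Cert_tree lc_g_rc_21_2 lc_g_rc_26_0 lc_g_rc_24_3 lc_g_rc_21_3 lc_g_Cert_tree lc_g_rc_21_2 lc_g_Cert_tree lc_g_rc_21_2 lc_g_rc_21_3 lc_g_rc_21_2 lc_g_Cert_tree lc_g_rc_26_6 lc_g_rc_21_2 lc_g_rc_23_7 lc_g_rc_21_3 lc_g_rc_21_2 lc_g_rc_21_3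 lc_g_Cert_tree lc_g_Cert_tree lc_g_Cert_tree lc_g_rc_21_2 lc_g_rc_23_9 lc_g_rc_23_9 lc_g_rc_21_3 lc_g_Cert_tree lc_g_rc_21_2 lc_g_rc_26_3 lc_g_rc_21_3 lc_g_Cert_tree lc_g_rc_21_3 lc_g_Cert_tree lc_g_rc_27_3 lc_g_rc_26_0 lc_g_rc_27_3 lc_g_rc_23_9 lc_g_rc_24_1 lc_g_rc_23_1 lc_g_Cert_tree lc_g_Cert_tree lc_g_rc_26_0 lc_g_Cert_tree lc_g_rc_24_7 lc_g_rc_26_3) (@D3.rec (fun _ => (Cert rels S Gen.g)) lc_g_rc_21_3 lc_g_rc_26_6 lc_g_rc_21_2 lc_g_rc_25_19 lc_g_rc_27_3 lc_g_rc_21_3 lc_g_Cert_tree lc_g_rc_21_2 lc_g_rc_21_2 lc_g_rc_21_2 lc_g_rc_27_3 lc_g_Cert_tree lc_g_rc_24_9 lc_g_rc_21_2 lc_g_rc_21_3 lc_g_Cert_tree lc_g_rc_21_2 lc_g_rc_25_11 lc_g_rc_27_0 lc_g_rc_21_3 lc_g_rc_26_6 lc_g_rc_27_9 lc_g_rc_23_7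 lc_g_Cert_tree lc_g_rc_21_2 lc_g_Cert_tree lc_g_Cert_tree lc_g_rc_25_19 lc_g_rc_21_2 lc_g_rc_21_3 lc_g_Cert_tree lc_g_rc_21_2 lc_g_Cert_tree lc_g_Cert_tree lc_g_rc_27_6 lc_g_rc_25_3 lc_g_rc_27_6 lc_g_rc_21_3 lc_g_Cert_tree lc_g_rc_21_2 lc_g_rc_26_3 lc_g_rc_24_1 lc_g_Cert_tree lc_g_rc_21_2 lc_g_rc_21_3 lc_g_rc_21_2 lc_g_rc_24_1 lc_g_rc_23_1 lc_g_rc_23_1 lc_g_Cert_tree lc_g_rc_21_2 lc_g_rc_24_3 lc_g_rc_27_6 lc_g_rc_21_2 lc_g_rc_21_3 lc_g_rc_24_3 lc_g_rc_21_3 lc_g_rc_23_3 lc_g_rc_26_6 lc_g_rc_24_3 lc_g_rc_21_3 lc_g_Cert_tree) (@D3.rec (fun _ => (Cert rels S Gen.g)) lc_g_rc_21_2 lc_g_Cert_tree lc_g_rc_21_3 lc_g_Cert_tree lc_g_rc_21_2 lc_g_rc_26_6 lc_g_Cert_tree lc_g_rc_24_3 lc_g_Cert_tree lc_g_rc_21_2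 lc_g_rc_25_19 lc_g_rc_25_7 lc_g_rc_27_6 lc_g_rc_21_3 lc_g_Cert_tree lc_g_rc_21_2 lc_g_rc_24_3 lc_g_Cert_tree lc_g_rc_27_6 lc_g_rc_27_0 lc_g_rc_23_7 lc_g_rc_21_2 lc_g_rc_23_7 lc_g_rc_26_3 lc_g_rc_21_2 lc_g_rc_21_3 lc_g_rc_23_9 lc_g_rc_27_6 lc_g_Cert_tree lc_g_rc_21_3 lc_g_Cert_tree lc_g_rc_21_2 lc_g_rc_24_1 lc_g_rc_21_2 lc_g_rc_21_3 lc_g_rc_26_9 lc_g_rc_24_9 lc_g_rc_23_3 lc_g_rc_23_1 lc_g_rc_21_3 lc_g_Cert_tree lc_g_rc_26_3 lc_g_rc_26_3 lc_g_Cert_tree lc_g_Cert_tree lc_g_rc_26_0 lc_g_Cert_tree lc_g_rc_21_3 lc_g_rc_26_0 lc_g_rc_21_3 lc_g_rc_23_3 lc_g_rc_27_6 lc_g_rc_27_3 lc_g_rc_21_2 lc_g_rc_21_3 lc_g_Cert_tree lc_g_rc_21_2 lc_g_rc_26_0 lc_g_rc_21_2 lc_g_rc_26_0 lc_g_rc_21_3 lc_g_Cert_tree)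 (@D3.rec (fun _ => (Cert rels S Gen.g)) lc_g_rc_21_2 lc_g_Cert_tree lc_g_rc_27_6 lc_g_rc_23_3 lc_g_rc_26_3 lc_g_rc_26_9 lc_g_Cert_tree lc_g_rc_21_3 lc_g_rc_24_1 lc_g_rc_27_3 lc_g_rc_27_3 lc_g_rc_24_3 lc_g_rc_21_2 lc_g_rc_23_3 lc_g_Cert_tree lc_g_Cert_tree lc_g_rc_23_3 lc_g_rc_27_6 lc_g_rc_26_6 lc_g_rc_27_0 lc_g_rc_23_1 lc_g_rc_21_3 lc_g_rc_24_7 lc_g_rc_21_3 lc_g_rc_21_2 lc_g_Cert_tree lc_g_rc_21_2 lc_g_rc_21_2 lc_g_rc_21_2 lc_g_rc_21_2 lc_g_rc_26_0 lc_g_rc_21_3 lc_g_rc_27_6 lc_g_rc_21_2 lc_g_rc_21_2 lc_g_Cert_tree lc_g_rc_24_7 lc_g_rc_26_9 lc_g_rc_23_1 lc_g_rc_21_3 lc_g_rc_26_9 lc_g_rc_21_3 lc_g_rc_24_3 lc_g_rc_23_9 lc_g_rc_27_0 lc_g_rc_27_3 lc_g_rc_26_6 lc_g_rc_27_3 lc_g_rc_21_2 lc_g_rc_23_7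 lc_g_rc_26_9 lc_g_rc_21_2 lc_g_rc_21_3 lc_g_rc_23_7 lc_g_rc_27_3 lc_g_rc_21_2 lc_g_rc_21_2 lc_g_rc_26_3 lc_g_rc_27_3 lc_g_rc_24_3 lc_g_rc_21_2 lc_g_rc_27_0) (@D3.rec (fun _ => (Cert rels S Gen.g)) lc_g_rc_27_3 lc_g_rc_21_2 lc_g_rc_24_3 lc_g_rc_24_7 lc_g_rc_21_3 lc_g_rc_23_1 lc_g_rc_23_7 lc_g_rc_26_6 lc_g_Cert_tree lc_g_rc_26_9 lc_g_rc_24_3 lc_g_rc_26_0 lc_g_rc_26_9 lc_g_rc_21_3 lc_g_rc_21_2 lc_g_rc_23_3 lc_g_rc_21_3 lc_g_Cert_tree lc_g_rc_21_2 lc_g_Cert_tree lc_g_rc_24_1 lc_g_rc_27_3 lc_g_rc_21_3 lc_g_Cert_tree lc_g_Cert_tree lc_g_rc_21_2 lc_g_rc_21_3 lc_g_rc_24_7 lc_g_rc_27_9 lc_g_rc_26_6 lc_g_rc_24_1 lc_g_rc_27_6 lc_g_rc_21_3 lc_g_Cert_tree lc_g_rc_23_9 lc_g_rc_24_3 lc_g_Cert_tree lc_g_rc_21_2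 lc_g_rc_21_2 lc_g_rc_23_9 lc_g_rc_27_6 lc_g_rc_25_11 lc_g_rc_21_3 lc_g_rc_25_11 lc_g_rc_21_3 lc_g_rc_21_2 lc_g_Cert_tree lc_g_rc_23_3 lc_g_rc_21_3 lc_g_rc_23_7 lc_g_rc_23_3 lc_g_rc_21_2 lc_g_rc_21_3 lc_g_rc_27_9 lc_g_rc_24_3 lc_g_rc_23_9 lc_g_Cert_tree lc_g_rc_27_6 lc_g_rc_26_3 lc_g_rc_21_3 lc_g_rc_27_0 lc_g_rc_21_2) (@D3.rec (fun _ => (Cert rels S Gen.g)) lc_g_rc_24_3 lc_g_rc_23_1 lc_g_rc_21_2 lc_g_rc_26_6 lc_g_rc_21_3 lc_g_rc_24_1 lc_g_rc_27_6 lc_g_rc_26_3 lc_g_Cert_tree lc_g_rc_26_3 lc_g_rc_21_2 lc_g_rc_21_3 lc_g_rc_23_7 lc_g_rc_26_0 lc_g_Cert_tree lc_g_Cert_tree lc_g_rc_23_3 lc_g_rc_25_3 lc_g_rc_27_3 lc_g_rc_21_3 lc_g_Cert_tree lc_g_rc_21_2 lc_g_rc_27_3 lc_g_rc_24_3 lc_g_Cert_tree lc_g_rc_26_0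 lc_g_rc_21_3 lc_g_Cert_tree lc_g_rc_27_0 lc_g_rc_25_7 lc_g_rc_21_3 lc_g_rc_21_2 lc_g_rc_24_3 lc_g_rc_23_9 lc_g_rc_21_3 lc_g_Cert_tree lc_g_Cert_tree lc_g_rc_21_3 lc_g_rc_21_3 lc_g_rc_26_9 lc_g_rc_27_9 lc_g_rc_24_1 lc_g_rc_21_3 lc_g_rc_27_3 lc_g_rc_27_3 lc_g_rc_21_2 lc_g_rc_27_3 lc_g_rc_24_3 lc_g_rc_25_11 lc_g_rc_24_1 lc_g_Cert_tree lc_g_rc_21_2 lc_g_Cert_tree lc_g_rc_21_3 lc_g_rc_25_11 lc_g_rc_23_7 lc_g_rc_21_2 lc_g_Cert_tree lc_g_Cert_tree lc_g_rc_23_9 lc_g_rc_27_3 lc_g_rc_26_9) (@D3.rec (fun _ => (Cert rels S Gen.g)) lc_g_rc_21_3 lc_g_rc_24_9 lc_g_rc_21_2 lc_g_rc_26_0 lc_g_rc_23_9 lc_g_Cert_tree lc_g_rc_27_9 lc_g_rc_27_6 lc_g_rc_27_6 lc_g_rc_21_3 lc_g_rc_27_6 lc_g_rc_27_0 lc_g_rc_26_6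 lc_g_rc_21_3 lc_g_Cert_tree lc_g_rc_21_2 lc_g_rc_21_3 lc_g_rc_24_9 lc_g_rc_24_7 lc_g_rc_27_3 lc_g_rc_26_0 lc_g_rc_27_0 lc_g_Cert_tree lc_g_rc_27_6 lc_g_rc_21_3 lc_g_Cert_tree lc_g_rc_27_6 lc_g_rc_21_2 lc_g_rc_24_3 lc_g_rc_23_1 lc_g_rc_26_6 lc_g_rc_27_0 lc_g_Cert_tree lc_g_rc_27_6 lc_g_rc_26_9 lc_g_rc_21_3 lc_g_rc_21_2 lc_g_rc_27_0 lc_g_rc_26_6 lc_g_rc_26_3 lc_g_Cert_tree lc_g_Cert_tree lc_g_rc_27_3 lc_g_rc_27_0 lc_g_rc_27_3 lc_g_rc_21_2 lc_g_rc_25_19 lc_g_rc_25_11 lc_g_rc_21_2 lc_g_Cert_tree lc_g_rc_23_3 lc_g_rc_23_9 lc_g_rc_25_11 lc_g_rc_27_0 lc_g_rc_23_3 lc_g_rc_26_6 lc_g_rc_27_0 lc_g_rc_23_1 lc_g_rc_24_7 lc_g_rc_23_9 lc_g_rc_21_2 lc_g_rc_24_3) (@D3.rec (fun _ => (Cert rels S Gen.g))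 lc_g_rc_26_3 lc_g_Cert_tree lc_g_rc_25_19 lc_g_rc_24_1 lc_g_rc_24_3 lc_g_rc_24_7 lc_g_Cert_tree lc_g_rc_24_3 lc_g_rc_23_7 lc_g_rc_26_3 lc_g_rc_21_3 lc_g_Cert_tree lc_g_rc_21_2 lc_g_rc_21_2 lc_g_Cert_tree lc_g_rc_23_3 lc_g_rc_24_9 lc_g_rc_24_1 lc_g_rc_21_3 lc_g_Cert_tree lc_g_rc_21_2 lc_g_rc_27_3 lc_g_Cert_tree lc_g_rc_21_3 lc_g_Cert_tree lc_g_rc_21_2 lc_g_Cert_tree lc_g_rc_23_1 lc_g_rc_24_1 lc_g_rc_21_3 lc_g_Cert_tree lc_g_rc_27_3 lc_g_rc_23_9 lc_g_rc_24_3 lc_g_rc_21_3 lc_g_rc_23_7 lc_g_rc_27_0 lc_g_rc_21_2 lc_g_rc_24_3 lc_g_rc_23_3 lc_g_Cert_tree lc_g_Cert_tree lc_g_rc_21_3 lc_g_Cert_tree lc_g_rc_21_2 lc_g_rc_21_3 lc_g_rc_24_9 lc_g_Cert_tree lc_g_rc_24_1 lc_g_rc_23_3 lc_g_rc_24_9 lc_g_rc_26_6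 lc_g_rc_24_1 lc_g_Cert_tree lc_g_rc_27_3 lc_g_rc_27_6 lc_g_rc_27_3 lc_g_rc_26_9 lc_g_rc_26_0 lc_g_rc_21_3 lc_g_Cert_tree lc_g_rc_21_2) (@D3.rec (fun _ => (Cert rels S Gen.g)) lc_g_rc_21_2 lc_g_rc_23_9 lc_g_rc_21_3 lc_g_Cert_tree lc_g_rc_21_2 lc_g_rc_21_3 lc_g_rc_21_3 lc_g_Cert_tree lc_g_rc_21_2 lc_g_rc_26_9 lc_g_rc_21_2 lc_g_rc_21_3 lc_g_rc_26_9 lc_g_rc_26_6 lc_g_Cert_tree lc_g_Cert_tree lc_g_rc_23_3 lc_g_rc_26_9 lc_g_rc_23_7 lc_g_rc_26_0 lc_g_rc_26_0 lc_g_rc_23_7 lc_g_rc_21_3 lc_g_rc_23_7 lc_g_rc_23_3 lc_g_Cert_tree lc_g_Cert_tree lc_g_rc_26_6 lc_g_rc_26_6 lc_g_rc_27_6 lc_g_rc_23_1 lc_g_rc_21_3 lc_g_rc_21_3 lc_g_Cert_tree lc_g_rc_24_9 lc_g_rc_21_2 lc_g_rc_26_3 lc_g_rc_24_9 lc_g_rc_26_6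 lc_g_rc_21_3 lc_g_rc_26_0 lc_g_Cert_tree lc_g_rc_23_1 lc_g_rc_23_1 lc_g_Cert_tree lc_g_rc_26_0 lc_g_rc_23_7 lc_g_rc_21_3 lc_g_rc_24_1 lc_g_rc_27_6 lc_g_rc_21_3 lc_g_rc_26_3 lc_g_rc_21_2 lc_g_rc_23_1 lc_g_rc_24_3 lc_g_rc_23_7 lc_g_rc_21_3 lc_g_Cert_tree lc_g_rc_21_2 lc_g_rc_21_2 lc_g_rc_23_9 lc_g_rc_21_3) (@D3.rec (fun _ => (Cert rels S Gen.g)) lc_g_Cert_tree lc_g_rc_27_3 lc_g_rc_23_7 lc_g_rc_24_7 lc_g_rc_21_3 lc_g_Cert_tree lc_g_rc_21_2 lc_g_Cert_tree lc_g_rc_26_6 lc_g_rc_26_6 lc_g_rc_23_1 lc_g_rc_23_7 lc_g_rc_21_2 lc_g_Cert_tree lc_g_rc_21_2 lc_g_rc_27_6 lc_g_rc_24_1 lc_g_rc_26_9 lc_g_rc_21_3 lc_g_Cert_tree lc_g_rc_26_3 lc_g_rc_21_2 lc_g_rc_26_3 lc_g_rc_24_1 lc_g_rc_24_1 lc_g_rc_21_3 lc_g_rc_21_3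 lc_g_rc_21_3 lc_g_rc_26_6 lc_g_rc_24_1 lc_g_rc_27_6 lc_g_rc_23_1 lc_g_rc_21_3 lc_g_Cert_tree lc_g_rc_27_3 lc_g_Cert_tree lc_g_rc_25_11 lc_g_rc_24_3 lc_g_rc_24_3 lc_g_rc_23_7 lc_g_rc_23_1 lc_g_rc_23_9 lc_g_Cert_tree lc_g_rc_23_9 lc_g_rc_21_2 lc_g_rc_24_1 lc_g_rc_21_3 lc_g_rc_26_6 lc_g_rc_21_2 lc_g_rc_26_0 lc_g_rc_21_2 lc_g_rc_25_19 lc_g_rc_21_2 lc_g_Cert_tree lc_g_rc_21_2 lc_g_rc_26_0 lc_g_rc_21_3 lc_g_rc_25_3 lc_g_rc_26_9 lc_g_rc_26_9 lc_g_rc_26_3 lc_g_Cert_tree) (@D3.rec (fun _ => (Cert rels S Gen.g)) lc_g_rc_23_3 lc_g_rc_21_3 lc_g_Cert_tree lc_g_rc_21_2 lc_g_rc_26_6 lc_g_Cert_tree lc_g_rc_21_3 lc_g_Cert_tree lc_g_rc_26_9 lc_g_rc_26_6 lc_g_rc_21_2 lc_g_rc_26_3 lc_g_rc_26_9 lc_g_rc_23_9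 lc_g_rc_21_2 lc_g_rc_24_3 lc_g_rc_26_6 lc_g_rc_23_3 lc_g_Cert_tree lc_g_rc_26_0 lc_g_rc_26_6 lc_g_rc_21_3 lc_g_rc_21_3 lc_g_Cert_tree lc_g_rc_21_2 lc_g_rc_26_0 lc_g_Cert_tree lc_g_rc_26_0 lc_g_rc_23_1 lc_g_rc_23_9 lc_g_rc_23_9 lc_g_rc_26_6 lc_g_rc_23_9 lc_g_rc_26_0 lc_g_rc_27_3 lc_g_rc_26_6 lc_g_Cert_tree lc_g_rc_27_3 lc_g_rc_24_1 lc_g_rc_23_3 lc_g_rc_26_3 lc_g_rc_21_2 lc_g_rc_27_3 lc_g_rc_21_3 lc_g_Cert_tree lc_g_rc_21_2 lc_g_Cert_tree lc_g_Cert_tree lc_g_Cert_tree lc_g_rc_21_3 lc_g_Cert_tree lc_g_rc_26_9 lc_g_rc_26_0 lc_g_rc_23_3 lc_g_rc_24_1 lc_g_Cert_tree lc_g_rc_26_3 lc_g_rc_21_2 lc_g_rc_23_3 lc_g_rc_24_3 lc_g_rc_27_3 lc_g_rc_21_3) (@D3.rec (fun _ => (Cert rels S Gen.g)) lc_g_Cert_tree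 lc_g_rc_24_3 lc_g_rc_24_9 lc_g_Cert_tree lc_g_rc_21_2 lc_g_rc_27_0 lc_g_rc_27_3 lc_g_rc_21_2 lc_g_rc_27_3 lc_g_rc_27_3 lc_g_Cert_tree lc_g_rc_21_3 lc_g_rc_21_2 lc_g_rc_25_15 lc_g_rc_27_9 lc_g_rc_27_6 lc_g_rc_27_3 lc_g_rc_27_3 lc_g_rc_26_0 lc_g_rc_23_9 lc_g_rc_23_3 lc_g_rc_26_0 lc_g_rc_27_0 lc_g_rc_21_3 lc_g_rc_23_1 lc_g_rc_26_9 lc_g_rc_23_3 lc_g_rc_23_3 lc_g_Cert_tree lc_g_rc_27_6 lc_g_rc_23_1 lc_g_rc_24_1 lc_g_rc_26_3 lc_g_rc_23_1 lc_g_rc_21_3 lc_g_rc_26_6 lc_g_rc_27_3 lc_g_rc_21_2 lc_g_rc_27_6 lc_g_Cert_tree lc_g_rc_27_6 lc_g_rc_21_3 lc_g_Cert_tree lc_g_rc_21_2 lc_g_rc_23_7 lc_g_rc_26_6 lc_g_rc_27_6 lc_g_rc_23_3 lc_g_rc_27_9 lc_g_Cert_tree lc_g_rc_26_0 lc_g_rc_21_3 lc_g_Cert_tree lc_g_rc_24_1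 lc_g_rc_21_2 lc_g_rc_23_1 lc_g_rc_24_1 lc_g_rc_26_0 lc_g_rc_23_3 lc_g_rc_21_3 lc_g_Cert_tree lc_g_rc_26_3) (@D3.rec (fun _ => (Cert rels S Gen.g)) lc_g_rc_26_6 lc_g_rc_26_3 lc_g_rc_24_7 lc_g_rc_23_1 lc_g_rc_27_0 lc_g_rc_26_6 lc_g_rc_21_3 lc_g_Cert_tree lc_g_rc_23_7 lc_g_rc_21_2 lc_g_rc_26_3 lc_g_rc_26_0 lc_g_rc_24_7 lc_g_rc_27_6 lc_g_rc_23_1 lc_g_Cert_tree lc_g_rc_26_0 lc_g_rc_24_3 lc_g_rc_21_3 lc_g_Cert_tree lc_g_rc_27_9 lc_g_rc_23_9 lc_g_Cert_tree lc_g_rc_21_3 lc_g_Cert_tree lc_g_rc_27_3 lc_g_rc_21_2 lc_g_Cert_tree lc_g_rc_21_3 lc_g_rc_25_7 lc_g_rc_24_7 lc_g_rc_27_3 lc_g_rc_26_0 lc_g_rc_21_2 lc_g_rc_23_1 lc_g_Cert_tree lc_g_rc_26_6 lc_g_rc_26_3 lc_g_rc_27_6 lc_g_rc_26_6 lc_g_rc_21_3 lc_g_rc_27_9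 lc_g_rc_21_3 lc_g_Cert_tree lc_g_Cert_tree lc_g_Cert_tree lc_g_rc_21_2 lc_g_rc_21_2 lc_g_rc_27_3 lc_g_rc_21_3 lc_g_rc_21_2 lc_g_rc_21_3 lc_g_Cert_tree lc_g_rc_24_9 lc_g_rc_21_2 lc_g_rc_21_3 lc_g_rc_27_9 lc_g_rc_21_3 lc_g_rc_21_2 lc_g_rc_21_2 lc_g_rc_24_9 lc_g_rc_26_6) (@D3.rec (fun _ => (Cert rels S Gen.g)) lc_g_Cert_tree lc_g_rc_21_2 lc_g_rc_27_9 lc_g_rc_27_9 lc_g_rc_27_6 lc_g_rc_26_3 lc_g_rc_27_0 lc_g_Cert_tree lc_g_rc_26_6 lc_g_rc_21_2 lc_g_rc_23_3 lc_g_rc_21_3 lc_g_rc_27_6 lc_g_rc_27_9 lc_g_rc_24_1 lc_g_rc_23_3 lc_g_rc_26_3 lc_g_rc_23_3 lc_g_rc_23_7 lc_g_rc_27_6 lc_g_rc_24_7 lc_g_rc_27_9 lc_g_Cert_tree lc_g_rc_24_1 lc_g_rc_23_7 lc_g_rc_21_3 lc_g_rc_23_3 lc_g_rc_21_3 lc_g_Cert_tree lc_g_rc_24_3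 lc_g_rc_21_2 lc_g_rc_21_2 lc_g_rc_26_9 lc_g_rc_21_3 lc_g_Cert_tree lc_g_rc_26_6 lc_g_rc_23_3 lc_g_rc_21_2 lc_g_Cert_tree lc_g_rc_21_3 lc_g_rc_23_7 lc_g_rc_26_0 lc_g_rc_27_3 lc_g_rc_21_2 lc_g_rc_27_0 lc_g_Cert_tree lc_g_rc_27_6 lc_g_rc_21_2 lc_g_rc_21_2 lc_g_rc_21_2 lc_g_rc_26_6 lc_g_rc_24_1 lc_g_rc_21_3 lc_g_rc_25_7 lc_g_rc_21_2 lc_g_rc_26_6 lc_g_rc_27_0 lc_g_rc_26_3 lc_g_rc_26_3 lc_g_rc_23_3 lc_g_rc_21_3 lc_g_rc_21_2) (@D3.rec (fun _ => (Cert rels S Gen.g)) lc_g_rc_26_3 lc_g_rc_23_1 lc_g_Cert_tree lc_g_rc_23_3 lc_g_rc_26_3 lc_g_rc_24_1 lc_g_Cert_tree lc_g_rc_27_3 lc_g_rc_21_3 lc_g_Cert_tree lc_g_rc_21_2 lc_g_rc_21_3 lc_g_rc_23_7 lc_g_rc_23_3 lc_g_rc_26_9 lc_g_rc_26_0 lc_g_rc_26_0 lc_g_rc_27_6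 lc_g_rc_21_3 lc_g_Cert_tree lc_g_rc_21_2 lc_g_rc_27_3 lc_g_rc_21_3 lc_g_rc_21_3 lc_g_Cert_tree lc_g_rc_26_3 lc_g_rc_27_6 lc_g_rc_21_2 lc_g_rc_23_1 lc_g_rc_26_9 lc_g_rc_21_3 lc_g_rc_21_2 lc_g_Cert_tree lc_g_rc_26_6 lc_g_Cert_tree lc_g_rc_27_0 lc_g_rc_27_6 lc_g_rc_23_1 lc_g_rc_27_0 lc_g_rc_21_3 lc_g_rc_21_2 lc_g_Cert_tree lc_g_rc_21_2 lc_g_Cert_tree lc_g_rc_21_3 lc_g_rc_27_6 lc_g_rc_24_7 lc_g_rc_24_3 lc_g_Cert_tree lc_g_rc_24_3 lc_g_rc_25_7 lc_g_rc_23_3 lc_g_rc_26_6 lc_g_rc_25_15 lc_g_rc_21_3 lc_g_Cert_tree lc_g_rc_21_2 lc_g_rc_21_2 lc_g_rc_27_9 lc_g_rc_27_3 lc_g_rc_23_7 lc_g_rc_24_3) (@D3.rec (fun _ => (Cert rels S Gen.g)) lc_g_Cert_tree lc_g_rc_24_3 lc_g_rc_27_3 lc_g_rc_21_3 lc_g_Cert_tree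 lc_g_rc_27_6 lc_g_rc_23_7 lc_g_rc_23_3 lc_g_Cert_tree lc_g_rc_21_2 lc_g_rc_27_6 lc_g_rc_21_3 lc_g_Cert_tree lc_g_rc_26_0 lc_g_rc_23_9 lc_g_rc_27_6 lc_g_rc_27_0 lc_g_rc_23_9 lc_g_rc_26_9 lc_g_rc_21_3 lc_g_rc_26_6 lc_g_rc_27_3 lc_g_rc_21_3 lc_g_rc_27_3 lc_g_rc_27_0 lc_g_rc_26_6 lc_g_rc_23_3 lc_g_rc_21_3 lc_g_Cert_tree lc_g_rc_21_2 lc_g_rc_27_3 lc_g_rc_21_2 lc_g_Cert_tree lc_g_rc_21_3 lc_g_rc_24_9 lc_g_rc_24_9 lc_g_rc_26_6 lc_g_rc_21_2 lc_g_rc_21_3 lc_g_rc_21_3 lc_g_Cert_tree lc_g_rc_21_3 lc_g_rc_27_3 lc_g_rc_27_9 lc_g_rc_21_2 lc_g_rc_23_1 lc_g_Cert_tree lc_g_rc_27_3 lc_g_rc_27_6 lc_g_rc_21_3 lc_g_rc_21_2 lc_g_Cert_tree lc_g_rc_23_1 lc_g_rc_26_9 lc_g_rc_23_1 lc_g_rc_26_9 lc_g_rc_21_2 lc_g_rc_26_0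 lc_g_rc_21_2 lc_g_rc_27_3 lc_g_rc_26_9 lc_g_rc_26_9) (@D3.rec (fun _ => (Cert rels S Gen.g)) lc_g_rc_23_9 lc_g_rc_21_2 lc_g_rc_21_3 lc_g_rc_26_6 lc_g_rc_23_3 lc_g_rc_24_3 lc_g_rc_21_3 lc_g_rc_23_7 lc_g_rc_24_3 lc_g_rc_21_3 lc_g_rc_21_2 lc_g_rc_27_9 lc_g_Cert_tree lc_g_rc_24_1 lc_g_rc_26_3 lc_g_rc_26_6 lc_g_rc_25_3 lc_g_rc_26_6 lc_g_rc_23_3 lc_g_rc_27_0 lc_g_rc_21_3 lc_g_rc_24_7 lc_g_rc_27_3 lc_g_rc_23_3 lc_g_rc_27_3 lc_g_rc_26_0 lc_g_rc_26_3 lc_g_rc_26_0 lc_g_rc_23_9 lc_g_rc_26_3 lc_g_rc_26_3 lc_g_Cert_tree lc_g_rc_26_3 lc_g_rc_21_2 lc_g_rc_21_3 lc_g_Cert_tree lc_g_rc_21_2 lc_g_rc_21_2 lc_g_Cert_tree lc_g_rc_23_7 lc_g_rc_26_3 lc_g_rc_27_3 lc_g_rc_21_3 lc_g_Cert_tree lc_g_rc_21_2 lc_g_rc_21_3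 lc_g_Cert_tree lc_g_rc_21_2 lc_g_rc_21_3 lc_g_Cert_tree lc_g_rc_23_1 lc_g_Cert_tree lc_g_rc_21_2 lc_g_rc_24_1 lc_g_rc_26_3 lc_g_rc_23_7 lc_g_rc_26_3 lc_g_rc_27_3 lc_g_Cert_tree lc_g_rc_21_3 lc_g_Cert_tree lc_g_rc_21_3) (@D3.rec (fun _ => (Cert rels S Gen.g)) lc_g_Cert_tree lc_g_rc_24_3 lc_g_rc_23_3 lc_g_rc_26_6 lc_g_Cert_tree lc_g_Cert_tree lc_g_rc_23_3 lc_g_rc_24_3 lc_g_rc_26_6 lc_g_rc_27_3 lc_g_rc_21_2 lc_g_rc_25_15 lc_g_rc_21_3 lc_g_Cert_tree lc_g_rc_21_2 lc_g_rc_21_3 lc_g_Cert_tree lc_g_rc_21_2 lc_g_rc_24_3 lc_g_Cert_tree lc_g_rc_21_3 lc_g_Cert_tree lc_g_rc_21_2 lc_g_rc_25_7 lc_g_rc_27_6 lc_g_rc_27_3 lc_g_rc_26_6 lc_g_rc_21_3 lc_g_Cert_tree lc_g_Cert_tree lc_g_rc_27_6 lc_g_rc_27_9 lc_g_rc_23_7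 lc_g_rc_27_6 lc_g_rc_21_3 lc_g_rc_23_7 lc_g_rc_27_3 lc_g_rc_24_3 lc_g_Cert_tree lc_g_rc_21_3 lc_g_Cert_tree lc_g_rc_21_2 lc_g_rc_26_3 lc_g_rc_27_9 lc_g_rc_24_1 lc_g_rc_23_3 lc_g_rc_25_3 lc_g_rc_23_7 lc_g_rc_27_0 lc_g_Cert_tree lc_g_rc_26_9 lc_g_rc_23_7 lc_g_rc_23_9 lc_g_Cert_tree lc_g_rc_24_7 lc_g_rc_21_3 lc_g_Cert_tree lc_g_rc_25_19 lc_g_rc_21_2 lc_g_rc_26_3 lc_g_rc_24_3 lc_g_rc_27_0) (@D3.rec (fun _ => (Cert rels S Gen.g)) lc_g_rc_21_3 lc_g_rc_27_6 lc_g_rc_27_6 lc_g_rc_21_3 lc_g_rc_21_3 lc_g_rc_21_2 lc_g_Cert_tree lc_g_Cert_tree lc_g_rc_21_2 lc_g_rc_27_6 lc_g_rc_21_2 lc_g_rc_24_7 lc_g_rc_27_9 lc_g_rc_24_1 lc_g_rc_26_6 lc_g_rc_21_3 lc_g_Cert_tree lc_g_rc_21_2 lc_g_rc_23_3 lc_g_rc_27_0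 lc_g_rc_27_9 lc_g_rc_21_3 lc_g_Cert_tree lc_g_rc_26_6 lc_g_rc_27_3 lc_g_rc_21_2 lc_g_rc_21_2 lc_g_Cert_tree lc_g_rc_21_3 lc_g_rc_21_3 lc_g_rc_21_3 lc_g_rc_21_2 lc_g_rc_21_2 lc_g_rc_23_1 lc_g_rc_21_3 lc_g_Cert_tree lc_g_rc_21_2 lc_g_rc_21_3 lc_g_Cert_tree lc_g_rc_24_7 lc_g_rc_27_6 lc_g_rc_26_6 lc_g_rc_23_3 lc_g_rc_24_1 lc_g_rc_26_0 lc_g_rc_26_6 lc_g_rc_26_3 lc_g_rc_23_9 lc_g_rc_27_0 lc_g_Cert_tree lc_g_rc_26_6 lc_g_rc_26_3 lc_g_rc_21_2 lc_g_rc_27_0 lc_g_rc_21_3 lc_g_Cert_tree lc_g_rc_26_0 lc_g_rc_24_7 lc_g_rc_26_3 lc_g_rc_26_9 lc_g_rc_27_0 lc_g_rc_24_7) (@D3.rec (fun _ => (Cert rels S Gen.g)) lc_g_rc_27_0 lc_g_rc_27_9 lc_g_rc_21_3 lc_g_Cert_tree lc_g_rc_23_7 lc_g_rc_24_7 lc_g_rc_24_3 lc_g_rc_21_2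 lc_g_Cert_tree lc_g_rc_27_9 lc_g_rc_21_2 lc_g_rc_23_7 lc_g_rc_24_7 lc_g_rc_24_9 lc_g_rc_21_3 lc_g_Cert_tree lc_g_rc_21_2 lc_g_rc_24_7 lc_g_rc_24_9 lc_g_rc_26_6 lc_g_rc_23_9 lc_g_rc_21_3 lc_g_rc_24_3 lc_g_rc_21_3 lc_g_Cert_tree lc_g_rc_24_3 lc_g_rc_21_2 lc_g_rc_23_3 lc_g_rc_21_3 lc_g_rc_21_3 lc_g_rc_21_2 lc_g_rc_21_2 lc_g_rc_23_9 lc_g_rc_27_0 lc_g_Cert_tree lc_g_rc_24_3 lc_g_rc_24_3 lc_g_Cert_tree lc_g_rc_21_3 lc_g_rc_21_2 lc_g_Cert_tree lc_g_Cert_tree lc_g_rc_27_6 lc_g_rc_21_3 lc_g_Cert_tree lc_g_rc_27_3 lc_g_rc_21_3 lc_g_rc_27_9 lc_g_rc_27_0 lc_g_Cert_tree lc_g_Cert_tree lc_g_rc_21_2 lc_g_rc_27_3 lc_g_rc_27_3 lc_g_rc_21_3 lc_g_rc_25_15 lc_g_rc_26_6 lc_g_rc_24_1 lc_g_rc_24_7 lc_g_rc_21_2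 lc_g_Cert_tree lc_g_rc_24_3) (@D3.rec (fun _ => (Cert rels S Gen.g)) lc_g_rc_21_3 lc_g_rc_27_3 lc_g_rc_21_3 lc_g_Cert_tree lc_g_rc_26_6 lc_g_rc_21_3 lc_g_Cert_tree lc_g_rc_21_2 lc_g_rc_27_6 lc_g_rc_26_0 lc_g_Cert_tree lc_g_rc_21_2 lc_g_Cert_tree lc_g_rc_27_6 lc_g_rc_21_2 lc_g_rc_26_3 lc_g_rc_26_3 lc_g_rc_27_0 lc_g_rc_27_9 lc_g_rc_21_2 lc_g_rc_21_3 lc_g_rc_21_3 lc_g_rc_21_3 lc_g_rc_26_9 lc_g_rc_26_0 lc_g_rc_21_2 lc_g_rc_27_0 lc_g_rc_26_6 lc_g_rc_26_6 lc_g_Cert_tree lc_g_rc_21_3 lc_g_rc_26_6 lc_g_rc_21_2 lc_g_rc_24_7 lc_g_rc_21_2 lc_g_rc_23_3 lc_g_rc_27_6 lc_g_rc_27_6 lc_g_Cert_tree lc_g_rc_26_0 lc_g_rc_21_3 lc_g_rc_21_2 lc_g_rc_26_6 lc_g_rc_26_9 lc_g_rc_21_3 lc_g_rc_21_2 lc_g_rc_21_2 lc_g_Cert_tree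 lc_g_rc_23_9 lc_g_rc_26_9 lc_g_rc_21_2 lc_g_rc_21_2 lc_g_rc_27_3 lc_g_rc_21_3 lc_g_rc_21_3 lc_g_rc_27_9 lc_g_rc_26_9 lc_g_rc_27_9 lc_g_rc_23_3 lc_g_rc_26_0 lc_g_rc_27_3 lc_g_rc_23_3) (@D3.rec (fun _ => (Cert rels S Gen.g)) lc_g_rc_26_3 lc_g_Cert_tree lc_g_rc_23_3 lc_g_rc_27_9 lc_g_rc_24_3 lc_g_rc_27_3 lc_g_rc_24_7 lc_g_rc_26_6 lc_g_rc_26_6 lc_g_rc_21_3 lc_g_rc_23_9 lc_g_rc_27_0 lc_g_rc_27_9 lc_g_rc_27_9 lc_g_rc_21_3 lc_g_Cert_tree lc_g_rc_27_0 lc_g_rc_21_2 lc_g_rc_27_3 lc_g_rc_21_2 lc_g_rc_23_3 lc_g_rc_21_3 lc_g_rc_27_3 lc_g_rc_26_3 lc_g_Cert_tree lc_g_rc_21_3 lc_g_Cert_tree lc_g_rc_21_2 lc_g_rc_24_7 lc_g_rc_24_7 lc_g_rc_24_7 lc_g_Cert_tree lc_g_rc_26_6 lc_g_rc_23_1 lc_g_Cert_tree lc_g_rc_21_2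 lc_g_rc_26_0 lc_g_rc_24_7 lc_g_Cert_tree lc_g_rc_21_3 lc_g_Cert_tree lc_g_rc_21_2 lc_g_rc_21_2 lc_g_rc_27_0 lc_g_rc_24_7 lc_g_Cert_tree lc_g_rc_27_6 lc_g_rc_27_0 lc_g_rc_23_9 lc_g_rc_23_1 lc_g_Cert_tree lc_g_rc_21_3 lc_g_rc_21_2 lc_g_rc_21_3 lc_g_rc_27_6 lc_g_rc_26_9 lc_g_rc_26_6 lc_g_rc_27_3 lc_g_rc_26_3 lc_g_Cert_tree lc_g_rc_26_6 lc_g_rc_21_2) (@D3.rec (fun _ => (Cert rels S Gen.g)) lc_g_Cert_tree lc_g_rc_23_9 lc_g_rc_21_3 lc_g_rc_26_3 lc_g_Cert_tree lc_g_rc_27_6 lc_g_rc_21_3 lc_g_rc_21_2 lc_g_rc_21_2 lc_g_rc_21_3 lc_g_Cert_tree lc_g_rc_26_0 lc_g_rc_24_3 lc_g_rc_25_7 lc_g_Cert_tree lc_g_rc_23_7 lc_g_Cert_tree lc_g_rc_21_3 lc_g_Cert_tree lc_g_rc_21_2 lc_g_rc_21_3 lc_g_Cert_tree lc_g_rc_21_2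 lc_g_rc_21_3 lc_g_Cert_tree lc_g_rc_21_2 lc_g_rc_26_9 lc_g_rc_21_2 lc_g_rc_21_3 lc_g_rc_21_3 lc_g_rc_21_3 lc_g_rc_27_6 lc_g_rc_23_3 lc_g_rc_21_3 lc_g_Cert_tree lc_g_rc_21_2 lc_g_Cert_tree lc_g_rc_24_1 lc_g_rc_26_6 lc_g_rc_21_2 lc_g_Cert_tree lc_g_rc_21_2 lc_g_rc_26_6 lc_g_rc_26_9 lc_g_rc_21_2 lc_g_rc_21_3 lc_g_Cert_tree lc_g_Cert_tree lc_g_rc_27_6 lc_g_rc_23_3 lc_g_rc_26_6 lc_g_rc_27_9 lc_g_rc_27_3 lc_g_rc_21_2 lc_g_rc_24_1 lc_g_rc_23_3 lc_g_rc_21_2 lc_g_rc_26_3 lc_g_rc_27_0 lc_g_rc_23_1 lc_g_Cert_tree lc_g_rc_23_7) (@D3.rec (fun _ => (Cert rels S Gen.g)) lc_g_rc_21_2 lc_g_rc_26_6 lc_g_Cert_tree lc_g_rc_27_6 lc_g_rc_27_3 lc_g_rc_21_2 lc_g_rc_23_1 lc_g_rc_27_6 lc_g_rc_21_3 lc_g_Cert_tree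 lc_g_Cert_tree lc_g_rc_27_9 lc_g_rc_26_9 lc_g_rc_21_3 lc_g_rc_23_3 lc_g_Cert_tree lc_g_rc_26_9 lc_g_rc_26_6 lc_g_rc_24_3 lc_g_rc_21_3 lc_g_rc_27_9 lc_g_rc_21_3 lc_g_rc_25_15 lc_g_Cert_tree lc_g_rc_21_2 lc_g_rc_23_9 lc_g_Cert_tree lc_g_rc_27_3 lc_g_rc_21_2 lc_g_rc_21_3 lc_g_rc_27_6 lc_g_rc_21_3 lc_g_rc_26_9 lc_g_rc_27_3 lc_g_rc_21_2 lc_g_rc_26_9 lc_g_rc_21_2 lc_g_rc_23_7 lc_g_rc_25_19 lc_g_rc_24_3 lc_g_rc_23_7 lc_g_rc_21_3 lc_g_Cert_tree lc_g_rc_24_3 lc_g_rc_21_2 lc_g_rc_25_19 lc_g_rc_27_0 lc_g_rc_21_2 lc_g_rc_23_7 lc_g_rc_27_3 lc_g_rc_21_3 lc_g_Cert_tree lc_g_rc_23_3 lc_g_rc_23_9 lc_g_rc_26_0 lc_g_rc_21_2 lc_g_rc_21_2 lc_g_rc_26_9 lc_g_rc_21_2 lc_g_rc_21_3 lc_g_Cert_tree lc_g_Cert_tree)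 (@D3.rec (fun _ => (Cert rels S Gen.g)) lc_g_rc_26_0 lc_g_Cert_tree lc_g_rc_21_2 lc_g_rc_21_2 lc_g_rc_21_2 lc_g_rc_23_9 lc_g_rc_23_1 lc_g_rc_21_2 lc_g_rc_23_3 lc_g_rc_24_1 lc_g_rc_21_3 lc_g_rc_23_3 lc_g_rc_26_0 lc_g_rc_26_3 lc_g_Cert_tree lc_g_rc_26_6 lc_g_rc_21_2 lc_g_rc_27_3 lc_g_rc_26_9 lc_g_rc_27_3 lc_g_rc_21_3 lc_g_Cert_tree lc_g_Cert_tree lc_g_Cert_tree lc_g_rc_27_6 lc_g_Cert_tree lc_g_rc_24_3 lc_g_rc_26_6 lc_g_rc_26_3 lc_g_rc_24_9 lc_g_rc_27_9 lc_g_rc_24_7 lc_g_rc_21_3 lc_g_rc_21_2 lc_g_rc_21_2 lc_g_rc_21_3 lc_g_rc_26_3 lc_g_rc_26_6 lc_g_rc_27_9 lc_g_rc_21_3 lc_g_rc_21_3 lc_g_Cert_tree lc_g_rc_23_3 lc_g_rc_26_0 lc_g_rc_21_3 lc_g_rc_26_3 lc_g_rc_21_2 lc_g_rc_26_0 lc_g_rc_27_9 lc_g_rc_26_9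 lc_g_rc_27_9 lc_g_Cert_tree lc_g_rc_26_0 lc_g_rc_21_2 lc_g_rc_23_7 lc_g_rc_23_7 lc_g_rc_21_2 lc_g_rc_24_3 lc_g_rc_21_2 lc_g_rc_27_3 lc_g_rc_21_2 lc_g_rc_27_6) (@D3.rec (fun _ => (Cert rels S Gen.g)) lc_g_rc_21_2 lc_g_rc_21_2 lc_g_rc_23_1 lc_g_rc_21_2 lc_g_rc_26_6 lc_g_rc_21_2 lc_g_rc_25_19 lc_g_rc_21_3 lc_g_Cert_tree lc_g_rc_27_0 lc_g_rc_27_6 lc_g_rc_21_3 lc_g_rc_23_9 lc_g_rc_26_0 lc_g_rc_21_3 lc_g_rc_24_3 lc_g_rc_21_2 lc_g_rc_26_6 lc_g_rc_23_3 lc_g_rc_23_9 lc_g_Cert_tree lc_g_rc_24_7 lc_g_rc_26_6 lc_g_rc_23_3 lc_g_rc_21_3 lc_g_rc_26_0 lc_g_Cert_tree lc_g_rc_21_2 lc_g_rc_21_3 lc_g_rc_27_6 lc_g_rc_23_1 lc_g_rc_21_3 lc_g_rc_21_3 lc_g_rc_26_9 lc_g_rc_26_9 lc_g_rc_24_3 lc_g_rc_24_3 lc_g_rc_26_9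 lc_g_rc_27_0 lc_g_Cert_tree lc_g_rc_27_3 lc_g_rc_24_3 lc_g_rc_21_2 lc_g_rc_21_3 lc_g_rc_26_3 lc_g_rc_21_3 lc_g_Cert_tree lc_g_rc_21_2 lc_g_rc_23_7 lc_g_rc_24_9 lc_g_rc_21_3 lc_g_rc_21_2 lc_g_rc_24_3 lc_g_rc_21_2 lc_g_rc_27_3 lc_g_rc_21_3 lc_g_Cert_tree lc_g_rc_23_3 lc_g_rc_21_2 lc_g_rc_26_0 lc_g_rc_21_2 lc_g_rc_23_1) (@D3.rec (fun _ => (Cert rels S Gen.g)) lc_g_rc_25_11 lc_g_rc_26_6 lc_g_rc_27_9 lc_g_rc_23_3 lc_g_Cert_tree lc_g_rc_21_3 lc_g_Cert_tree lc_g_rc_27_9 lc_g_Cert_tree lc_g_rc_21_3 lc_g_rc_26_6 lc_g_rc_21_3 lc_g_rc_24_3 lc_g_rc_21_2 lc_g_rc_23_3 lc_g_rc_24_7 lc_g_rc_27_3 lc_g_rc_26_6 lc_g_rc_21_3 lc_g_Cert_tree lc_g_rc_27_0 lc_g_rc_21_3 lc_g_rc_21_2 lc_g_Cert_tree lc_g_rc_21_3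 lc_g_rc_23_7 lc_g_rc_26_0 lc_g_Cert_tree lc_g_rc_26_6 lc_g_Cert_tree lc_g_Cert_tree lc_g_rc_23_3 lc_g_rc_27_6 lc_g_rc_21_2 lc_g_rc_27_3 lc_g_rc_23_3 lc_g_rc_27_6 lc_g_rc_21_3 lc_g_rc_27_3 lc_g_rc_27_9 lc_g_rc_26_0 lc_g_rc_21_3 lc_g_Cert_tree lc_g_rc_26_3 lc_g_rc_21_3 lc_g_Cert_tree lc_g_rc_21_2 lc_g_rc_21_2 lc_g_rc_21_3 lc_g_rc_23_3 lc_g_Cert_tree lc_g_rc_23_3 lc_g_rc_21_2 lc_g_rc_21_3 lc_g_rc_26_9 lc_g_rc_26_0 lc_g_rc_23_3 lc_g_Cert_tree lc_g_rc_21_2 lc_g_rc_27_6 lc_g_rc_21_3 lc_g_rc_21_3) (@D3.rec (fun _ => (Cert rels S Gen.g)) lc_g_rc_21_2 lc_g_rc_27_0 lc_g_rc_26_6 lc_g_Cert_tree lc_g_rc_26_3 lc_g_rc_26_3 lc_g_Cert_tree lc_g_rc_21_3 lc_g_rc_26_9 lc_g_rc_23_3 lc_g_rc_27_6 lc_g_rc_21_3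 lc_g_rc_23_1 lc_g_rc_21_2 lc_g_rc_23_3 lc_g_rc_24_1 lc_g_rc_26_0 lc_g_rc_23_3 lc_g_rc_26_3 lc_g_rc_25_7 lc_g_Cert_tree lc_g_rc_24_7 lc_g_rc_23_3 lc_g_rc_21_2 lc_g_rc_24_1 lc_g_rc_27_0 lc_g_rc_24_9 lc_g_rc_27_6 lc_g_rc_27_3 lc_g_rc_27_6 lc_g_rc_26_3 lc_g_rc_21_3 lc_g_rc_27_9 lc_g_rc_21_2 lc_g_rc_27_3 lc_g_rc_21_2 lc_g_rc_23_3 lc_g_rc_21_3 lc_g_rc_21_2 lc_g_rc_21_2 lc_g_Cert_tree lc_g_rc_26_0 lc_g_rc_23_7 lc_g_rc_21_2 lc_g_rc_21_3 lc_g_rc_26_0 lc_g_rc_21_3 lc_g_Cert_tree lc_g_rc_27_6 lc_g_rc_21_2 lc_g_rc_21_2 lc_g_rc_27_6 lc_g_rc_27_6 lc_g_rc_21_3 lc_g_rc_21_3 lc_g_Cert_tree lc_g_rc_21_2 lc_g_rc_26_6 lc_g_rc_21_2 lc_g_rc_21_3 lc_g_rc_26_3 lc_g_rc_23_3) (@D3.rec (fun _ => (Cert rels S Gen.g))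 lc_g_rc_26_3 lc_g_rc_26_0 lc_g_rc_26_6 lc_g_Cert_tree lc_g_rc_27_9 lc_g_rc_24_9 lc_g_rc_27_6 lc_g_rc_21_2 lc_g_rc_23_3 lc_g_Cert_tree lc_g_rc_26_6 lc_g_rc_23_7 lc_g_rc_27_6 lc_g_rc_26_0 lc_g_rc_23_7 lc_g_rc_27_3 lc_g_rc_23_3 lc_g_rc_27_6 lc_g_rc_27_3 lc_g_rc_27_6 lc_g_Cert_tree lc_g_rc_27_6 lc_g_rc_26_3 lc_g_rc_25_7 lc_g_Cert_tree lc_g_rc_24_1 lc_g_rc_27_0 lc_g_Cert_tree lc_g_rc_21_3 lc_g_rc_21_2 lc_g_Cert_tree lc_g_rc_26_0 lc_g_rc_21_3 lc_g_rc_26_9 lc_g_rc_26_3 lc_g_rc_27_9 lc_g_rc_26_3 lc_g_rc_24_3 lc_g_rc_24_3 lc_g_rc_21_3 lc_g_Cert_tree lc_g_rc_21_2 lc_g_rc_23_7 lc_g_rc_21_3 lc_g_rc_26_6 lc_g_rc_24_1 lc_g_rc_23_9 lc_g_rc_26_3 lc_g_rc_27_9 lc_g_rc_26_6 lc_g_rc_21_3 lc_g_Cert_tree lc_g_rc_21_2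 lc_g_rc_23_3 lc_g_Cert_tree lc_g_rc_21_2 lc_g_rc_21_2 lc_g_rc_27_3 lc_g_rc_21_3 lc_g_rc_21_2 lc_g_rc_27_9 lc_g_rc_24_7) (@D3.rec (fun _ => (Cert rels S Gen.g)) lc_g_rc_21_3 lc_g_rc_21_2 lc_g_rc_25_15 lc_g_rc_21_3 lc_g_rc_27_6 lc_g_Cert_tree lc_g_rc_24_9 lc_g_rc_27_6 lc_g_rc_26_0 lc_g_rc_21_3 lc_g_rc_24_7 lc_g_Cert_tree lc_g_rc_26_6 lc_g_rc_24_3 lc_g_rc_21_3 lc_g_rc_24_7 lc_g_rc_26_0 lc_g_rc_23_7 lc_g_rc_26_9 lc_g_rc_24_9 lc_g_rc_21_2 lc_g_rc_21_2 lc_g_rc_27_6 lc_g_Cert_tree lc_g_rc_27_6 lc_g_rc_21_2 lc_g_rc_21_3 lc_g_rc_21_3 lc_g_rc_21_3 lc_g_rc_27_6 lc_g_Cert_tree lc_g_rc_21_3 lc_g_Cert_tree lc_g_rc_21_2 lc_g_rc_24_7 lc_g_rc_21_2 lc_g_rc_23_7 lc_g_rc_21_2 lc_g_rc_26_0 lc_g_rc_26_9 lc_g_rc_21_3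 lc_g_Cert_tree lc_g_rc_21_2 lc_g_rc_27_3 lc_g_rc_21_3 lc_g_Cert_tree lc_g_rc_21_2 lc_g_rc_21_2 lc_g_Cert_tree lc_g_rc_27_6 lc_g_rc_21_3 lc_g_Cert_tree lc_g_rc_21_2 lc_g_Cert_tree lc_g_rc_27_3 lc_g_rc_23_1 lc_g_rc_23_3 lc_g_rc_27_3 lc_g_rc_23_3 lc_g_rc_21_2 lc_g_rc_21_2 lc_g_rc_27_9) (@D3.rec (fun _ => (Cert rels S Gen.g)) lc_g_rc_21_2 lc_g_rc_21_3 lc_g_Cert_tree lc_g_rc_21_2 lc_g_Cert_tree lc_g_rc_27_6 lc_g_Cert_tree lc_g_rc_21_2 lc_g_rc_21_2 lc_g_rc_24_9 lc_g_rc_26_6 lc_g_Cert_tree lc_g_rc_27_9 lc_g_rc_21_2 lc_g_rc_21_3 lc_g_Cert_tree lc_g_rc_21_3 lc_g_rc_21_2 lc_g_rc_24_9 lc_g_rc_21_2 lc_g_rc_21_2 lc_g_Cert_tree lc_g_rc_27_6 lc_g_rc_21_2 lc_g_rc_24_9 lc_g_rc_26_6 lc_g_Cert_tree lc_g_rc_21_2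 lc_g_rc_27_9 lc_g_rc_21_3 lc_g_Cert_tree lc_g_rc_26_3 lc_g_rc_23_9 lc_g_rc_27_6 lc_g_rc_21_2 lc_g_rc_21_3 lc_g_rc_26_6 lc_g_rc_21_2 lc_g_Cert_tree lc_g_rc_26_6 lc_g_rc_25_19 lc_g_rc_21_2 lc_g_Cert_tree lc_g_Cert_tree lc_g_rc_21_2 lc_g_Cert_tree lc_g_rc_21_2 lc_g_Cert_tree lc_g_rc_21_3 lc_g_rc_26_6 lc_g_rc_21_2 lc_g_rc_26_6 lc_g_rc_27_6 lc_g_rc_21_3 lc_g_rc_23_7 lc_g_rc_24_7 lc_g_rc_24_7 lc_g_rc_21_2 lc_g_rc_21_3 lc_g_rc_24_7 lc_g_rc_21_2 lc_g_rc_23_1) (@D3.rec (fun _ => (Cert rels S Gen.g)) lc_g_Cert_tree lc_g_rc_21_2 lc_g_rc_21_3 lc_g_rc_21_2 lc_g_rc_21_2 lc_g_rc_23_3 lc_g_rc_21_3 lc_g_Cert_tree lc_g_rc_24_7 lc_g_rc_27_3 lc_g_rc_27_3 lc_g_rc_24_1 lc_g_Cert_tree lc_g_rc_21_3 lc_g_Cert_tree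 lc_g_rc_26_3 lc_g_rc_21_3 lc_g_rc_27_6 lc_g_rc_21_3 lc_g_Cert_tree lc_g_rc_21_2 lc_g_rc_21_3 lc_g_rc_21_2 lc_g_rc_21_2 lc_g_rc_26_6 lc_g_rc_26_6 lc_g_rc_23_7 lc_g_rc_27_0 lc_g_rc_24_1 lc_g_Cert_tree lc_g_Cert_tree lc_g_rc_24_3 lc_g_Cert_tree lc_g_rc_23_7 lc_g_rc_27_6 lc_g_rc_25_19 lc_g_Cert_tree lc_g_rc_23_7 lc_g_rc_23_7 lc_g_Cert_tree lc_g_Cert_tree lc_g_rc_21_2 lc_g_Cert_tree lc_g_rc_23_3 lc_g_rc_21_3 lc_g_Cert_tree lc_g_rc_24_3 lc_g_Cert_tree lc_g_rc_21_2 lc_g_rc_27_3 lc_g_rc_21_3 lc_g_Cert_tree lc_g_rc_21_2 lc_g_rc_21_3 lc_g_rc_21_3 lc_g_rc_27_9 lc_g_Cert_tree lc_g_rc_26_6 lc_g_Cert_tree lc_g_rc_26_0 lc_g_Cert_tree lc_g_rc_21_3) (@D3.rec (fun _ => (Cert rels S Gen.g)) lc_g_Cert_tree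 lc_g_Cert_tree lc_g_rc_21_2 lc_g_rc_26_3 lc_g_Cert_tree lc_g_rc_23_7 lc_g_rc_24_1 lc_g_Cert_tree lc_g_rc_26_0 lc_g_rc_25_7 lc_g_Cert_tree lc_g_rc_21_3 lc_g_Cert_tree lc_g_rc_24_3 lc_g_rc_23_7 lc_g_Cert_tree lc_g_rc_21_3 lc_g_rc_27_3 lc_g_rc_24_9 lc_g_rc_21_3 lc_g_Cert_tree lc_g_rc_21_2 lc_g_Cert_tree lc_g_rc_21_3 lc_g_Cert_tree lc_g_rc_21_2 lc_g_Cert_tree lc_g_Cert_tree lc_g_Cert_tree lc_g_rc_21_3 lc_g_Cert_tree lc_g_rc_27_3 lc_g_Cert_tree lc_g_rc_27_3 lc_g_rc_23_3 lc_g_Cert_tree lc_g_rc_26_6 lc_g_rc_21_3 lc_g_rc_21_3 lc_g_rc_26_3 lc_g_rc_26_9 lc_g_rc_27_0 lc_g_rc_21_3 lc_g_rc_23_3 lc_g_rc_26_6 lc_g_rc_26_6 lc_g_rc_27_9 lc_g_rc_26_9 lc_g_Cert_tree lc_g_rc_23_3 lc_g_rc_21_3 lc_g_rc_24_7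 lc_g_rc_21_3 lc_g_rc_21_2 lc_g_rc_27_6 lc_g_rc_21_3 lc_g_Cert_tree lc_g_rc_27_9 lc_g_rc_21_2 lc_g_rc_21_2 lc_g_Cert_tree lc_g_rc_23_3) (@D3.rec (fun _ => (Cert rels S Gen.g)) lc_g_rc_25_3 lc_g_rc_21_2 lc_g_rc_21_2 lc_g_rc_26_0 lc_g_rc_26_6 lc_g_Cert_tree lc_g_rc_21_3 lc_g_rc_27_6 lc_g_rc_25_3 lc_g_rc_21_3 lc_g_Cert_tree lc_g_rc_21_2 lc_g_rc_23_3 lc_g_rc_26_9 lc_g_rc_26_3 lc_g_rc_26_6 lc_g_rc_27_3 lc_g_rc_26_6 lc_g_rc_27_0 lc_g_rc_21_2 lc_g_rc_21_3 lc_g_rc_26_6 lc_g_rc_21_3 lc_g_Cert_tree lc_g_Cert_tree lc_g_rc_21_2 lc_g_rc_24_3 lc_g_rc_25_19 lc_g_Cert_tree lc_g_Cert_tree lc_g_Cert_tree lc_g_Cert_tree lc_g_rc_21_2 lc_g_rc_27_6 lc_g_Cert_tree lc_g_rc_24_3 lc_g_Cert_tree lc_g_rc_23_3 lc_g_Cert_tree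 lc_g_rc_23_3 lc_g_rc_21_3 lc_g_rc_26_3 lc_g_rc_26_6 lc_g_rc_27_9 lc_g_rc_26_0 lc_g_rc_24_3 lc_g_rc_24_3 lc_g_rc_21_2 lc_g_rc_26_3 lc_g_rc_26_6 lc_g_rc_21_3 lc_g_Cert_tree lc_g_rc_26_3 lc_g_rc_27_9 lc_g_Cert_tree lc_g_rc_21_2 lc_g_rc_21_2 lc_g_Cert_tree lc_g_rc_27_6 lc_g_Cert_tree lc_g_rc_26_6 lc_g_Cert_tree) (@D3.rec (fun _ => (Cert rels S Gen.g)) lc_g_rc_21_2 lc_g_rc_23_3 lc_g_rc_24_3 lc_g_rc_27_9 lc_g_rc_21_3 lc_g_Cert_tree lc_g_rc_21_2 lc_g_rc_27_9 lc_g_Cert_tree lc_g_rc_24_7 lc_g_rc_27_6 lc_g_rc_23_1 lc_g_rc_21_3 lc_g_rc_21_3 lc_g_rc_25_19 lc_g_rc_23_3 lc_g_rc_24_3 lc_g_rc_21_2 lc_g_rc_23_3 lc_g_Cert_tree lc_g_rc_23_7 lc_g_rc_27_3 lc_g_rc_27_3 lc_g_rc_21_2 lc_g_rc_26_6 lc_g_rc_23_3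 lc_g_rc_21_3 lc_g_rc_21_3 lc_g_Cert_tree lc_g_rc_26_3 lc_g_rc_27_9 lc_g_rc_27_3 lc_g_rc_24_3 lc_g_Cert_tree lc_g_rc_24_9 lc_g_rc_23_9 lc_g_rc_23_3 lc_g_rc_21_3 lc_g_rc_23_1 lc_g_rc_23_1 lc_g_rc_24_1 lc_g_rc_21_3 lc_g_rc_25_7 lc_g_rc_24_7 lc_g_rc_27_0 lc_g_rc_24_3 lc_g_rc_23_3 lc_g_Cert_tree lc_g_Cert_tree lc_g_rc_21_2 lc_g_rc_26_6 lc_g_rc_21_3 lc_g_rc_26_0 lc_g_Cert_tree lc_g_rc_24_1 lc_g_rc_26_6 lc_g_rc_26_3 lc_g_rc_27_6 lc_g_rc_26_0 lc_g_rc_21_3 lc_g_Cert_tree lc_g_rc_26_0) (@D3.rec (fun _ => (Cert rels S Gen.g)) lc_g_rc_21_2 lc_g_rc_21_2 lc_g_Cert_tree lc_g_rc_24_3 lc_g_rc_27_0 lc_g_Cert_tree lc_g_rc_27_6 lc_g_rc_21_2 lc_g_rc_27_0 lc_g_rc_26_0 lc_g_rc_24_3 lc_g_rc_21_3 lc_g_Cert_tree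 lc_g_rc_26_6 lc_g_rc_27_6 lc_g_rc_24_3 lc_g_rc_26_6 lc_g_rc_23_3 lc_g_rc_21_3 lc_g_rc_21_2 lc_g_rc_27_6 lc_g_rc_23_3 lc_g_rc_27_3 lc_g_rc_23_7 lc_g_rc_23_3 lc_g_rc_26_0 lc_g_rc_21_3 lc_g_rc_23_3 lc_g_rc_21_3 lc_g_Cert_tree lc_g_rc_21_2 lc_g_Cert_tree lc_g_Cert_tree lc_g_rc_26_6 lc_g_Cert_tree lc_g_rc_21_2 lc_g_rc_26_3 lc_g_Cert_tree lc_g_rc_27_9 lc_g_rc_24_7 lc_g_rc_27_6 lc_g_Cert_tree lc_g_rc_27_3 lc_g_rc_24_7 lc_g_rc_27_6 lc_g_rc_21_3 lc_g_Cert_tree lc_g_Cert_tree lc_g_rc_21_2 lc_g_rc_21_2 lc_g_rc_23_3 lc_g_Cert_tree lc_g_rc_24_7 lc_g_rc_27_0 lc_g_rc_21_3 lc_g_rc_21_2 lc_g_rc_27_3 lc_g_rc_27_3 lc_g_rc_24_7 lc_g_Cert_tree lc_g_Cert_tree lc_g_rc_21_2) (@D3.rec (fun _ => (Cert rels S Gen.g))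 lc_g_rc_21_3 lc_g_Cert_tree lc_g_rc_21_2 lc_g_Cert_tree lc_g_rc_23_3 lc_g_rc_21_2 lc_g_rc_23_9 lc_g_rc_21_2 lc_g_rc_21_2 lc_g_rc_24_9 lc_g_rc_27_0 lc_g_rc_27_3 lc_g_Cert_tree lc_g_rc_23_9 lc_g_rc_27_0 lc_g_rc_24_3 lc_g_rc_21_3 lc_g_rc_21_3 lc_g_rc_21_3 lc_g_Cert_tree lc_g_rc_27_0 lc_g_rc_27_9 lc_g_rc_24_3 lc_g_rc_21_2 lc_g_rc_21_3 lc_g_Cert_tree lc_g_Cert_tree lc_g_rc_25_19 lc_g_rc_24_9 lc_g_rc_23_3 lc_g_rc_27_0 lc_g_rc_23_9 lc_g_rc_21_2 lc_g_rc_26_6 lc_g_rc_27_0 lc_g_rc_21_2 lc_g_Cert_tree lc_g_rc_21_3 lc_g_rc_26_9 lc_g_rc_21_3 lc_g_rc_26_6 lc_g_rc_26_3 lc_g_rc_21_2 lc_g_rc_26_6 lc_g_rc_21_3 lc_g_Cert_tree lc_g_rc_21_2 lc_g_rc_24_9 lc_g_rc_26_3 lc_g_Cert_tree lc_g_rc_26_9 lc_g_rc_23_3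 lc_g_rc_21_3 lc_g_Cert_tree lc_g_rc_23_1 lc_g_rc_27_9 lc_g_rc_21_3 lc_g_rc_26_6 lc_g_Cert_tree lc_g_rc_27_3 lc_g_rc_26_6 lc_g_rc_27_9) (@D3.rec (fun _ => (Cert rels S Gen.g)) lc_g_rc_27_9 lc_g_rc_24_3 lc_g_rc_26_9 lc_g_rc_27_9 lc_g_rc_21_3 lc_g_Cert_tree lc_g_rc_21_3 lc_g_Cert_tree lc_g_rc_21_2 lc_g_rc_27_3 lc_g_rc_24_3 lc_g_Cert_tree lc_g_rc_25_7 lc_g_rc_21_2 lc_g_rc_24_7 lc_g_rc_21_3 lc_g_Cert_tree lc_g_rc_21_2 lc_g_rc_24_3 lc_g_rc_24_1 lc_g_rc_21_3 lc_g_Cert_tree lc_g_Cert_tree lc_g_rc_27_0 lc_g_rc_27_6 lc_g_rc_21_2 lc_g_rc_26_6 lc_g_rc_24_3 lc_g_rc_26_0 lc_g_rc_21_3 lc_g_Cert_tree lc_g_rc_26_9 lc_g_rc_25_19 lc_g_rc_26_3 lc_g_Cert_tree lc_g_Cert_tree lc_g_rc_21_2 lc_g_rc_23_1 lc_g_rc_26_6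 lc_g_rc_21_3 lc_g_rc_21_2 lc_g_Cert_tree lc_g_rc_24_1 lc_g_rc_27_0 lc_g_rc_27_9 lc_g_rc_26_3 lc_g_rc_26_3 lc_g_rc_23_3 lc_g_rc_21_3 lc_g_rc_21_3 lc_g_rc_21_2 lc_g_rc_23_1 lc_g_rc_26_3 lc_g_rc_27_6 lc_g_rc_25_19 lc_g_Cert_tree lc_g_rc_27_3 lc_g_rc_21_2 lc_g_rc_21_3 lc_g_Cert_tree lc_g_rc_25_19 lc_g_rc_24_3) (@D3.rec (fun _ => (Cert rels S Gen.g)) lc_g_Cert_tree lc_g_rc_26_0 lc_g_rc_27_6 lc_g_rc_26_6 lc_g_rc_24_3 lc_g_rc_26_0 lc_g_rc_26_6 lc_g_rc_27_0 lc_g_rc_27_3 lc_g_rc_24_3 lc_g_Cert_tree lc_g_rc_21_2 lc_g_Cert_tree lc_g_rc_21_3 lc_g_Cert_tree lc_g_rc_21_2 lc_g_rc_27_3 lc_g_rc_27_6 lc_g_rc_27_0 lc_g_rc_27_3 lc_g_rc_23_3 lc_g_rc_24_1 lc_g_rc_24_3 lc_g_rc_21_2 lc_g_rc_26_6 lc_g_Cert_tree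 lc_g_rc_26_0 lc_g_rc_27_0 lc_g_Cert_tree lc_g_Cert_tree lc_g_rc_21_3 lc_g_Cert_tree lc_g_rc_21_3 lc_g_Cert_tree lc_g_rc_27_0 lc_g_rc_24_3 lc_g_rc_27_3 lc_g_Cert_tree lc_g_rc_21_2 lc_g_rc_26_6 lc_g_Cert_tree lc_g_rc_26_9 lc_g_rc_23_9 lc_g_rc_21_3 lc_g_rc_21_3 lc_g_rc_21_2 lc_g_rc_24_7 lc_g_rc_26_6 lc_g_rc_21_3 lc_g_rc_26_3 lc_g_Cert_tree lc_g_rc_21_3 lc_g_Cert_tree lc_g_rc_21_2 lc_g_Cert_tree lc_g_rc_26_0 lc_g_Cert_tree lc_g_rc_21_3 lc_g_rc_27_3 lc_g_rc_25_15 lc_g_rc_26_6 lc_g_rc_24_1) (@D3.rec (fun _ => (Cert rels S Gen.g)) lc_g_rc_21_2 lc_g_rc_21_3 lc_g_rc_21_3 lc_g_Cert_tree lc_g_Cert_tree lc_g_rc_26_6 lc_g_rc_25_11 lc_g_rc_21_3 lc_g_Cert_tree lc_g_rc_27_3 lc_g_rc_21_2 lc_g_rc_21_2 lc_g_rc_24_7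 lc_g_rc_23_7 lc_g_rc_21_2 lc_g_rc_26_9 lc_g_rc_21_2 lc_g_Cert_tree lc_g_rc_24_7 lc_g_rc_21_3 lc_g_Cert_tree lc_g_rc_21_3 lc_g_rc_26_0 lc_g_rc_24_3 lc_g_rc_27_3 lc_g_rc_21_2 lc_g_rc_27_6 lc_g_rc_27_3 lc_g_rc_21_2 lc_g_rc_27_3 lc_g_rc_21_2 lc_g_rc_27_6 lc_g_rc_25_19 lc_g_rc_24_1 lc_g_rc_24_3 lc_g_Cert_tree lc_g_rc_26_0 lc_g_rc_21_2 lc_g_rc_23_1 lc_g_rc_24_3 lc_g_Cert_tree lc_g_rc_24_3 lc_g_rc_24_1 lc_g_rc_21_3 lc_g_Cert_tree lc_g_rc_26_3 lc_g_rc_21_2 lc_g_Cert_tree lc_g_rc_26_6 lc_g_rc_21_2 lc_g_rc_21_3 lc_g_rc_21_3 lc_g_rc_21_3 lc_g_Cert_tree lc_g_Cert_tree lc_g_rc_21_2 lc_g_rc_21_3 lc_g_rc_21_3 lc_g_Cert_tree lc_g_rc_21_3 lc_g_rc_21_2 lc_g_rc_26_0) (@D3.rec (fun _ => (Cert rels S Gen.g))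 lc_g_rc_21_3 lc_g_Cert_tree lc_g_rc_21_2 lc_g_rc_27_0 lc_g_rc_26_3 lc_g_rc_27_6 lc_g_rc_24_3 lc_g_rc_23_9 lc_g_rc_27_0 lc_g_rc_21_2 lc_g_rc_26_6 lc_g_rc_26_6 lc_g_rc_23_7 lc_g_rc_24_9 lc_g_rc_21_2 lc_g_rc_26_6 lc_g_Cert_tree lc_g_rc_21_2 lc_g_rc_26_0 lc_g_Cert_tree lc_g_rc_23_3 lc_g_rc_23_7 lc_g_rc_27_6 lc_g_rc_21_3 lc_g_rc_26_9 lc_g_rc_23_1 lc_g_rc_27_3 lc_g_Cert_tree lc_g_Cert_tree lc_g_Cert_tree lc_g_rc_26_9 lc_g_rc_26_6 lc_g_rc_26_9 lc_g_rc_26_9 lc_g_rc_26_6 lc_g_rc_21_3 lc_g_Cert_tree lc_g_rc_26_6 lc_g_rc_27_3 lc_g_rc_27_0 lc_g_rc_24_7 lc_g_Cert_tree lc_g_rc_27_3 lc_g_rc_24_1 lc_g_rc_26_6 lc_g_rc_27_6 lc_g_rc_21_2 lc_g_rc_26_3 lc_g_rc_27_3 lc_g_rc_24_1 lc_g_rc_21_3 lc_g_rc_21_3 lc_g_rc_25_15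 lc_g_rc_26_6 lc_g_rc_21_2 lc_g_rc_27_6 lc_g_rc_24_3 lc_g_rc_27_3 lc_g_rc_26_9 lc_g_rc_27_3 lc_g_Cert_tree lc_g_rc_24_7) (@D3.rec (fun _ => (Cert rels S Gen.g)) lc_g_Cert_tree lc_g_rc_21_3 lc_g_rc_21_3 lc_g_rc_25_11 lc_g_rc_23_1 lc_g_rc_25_15 lc_g_rc_21_3 lc_g_rc_26_6 lc_g_rc_23_1 lc_g_rc_21_3 lc_g_Cert_tree lc_g_rc_25_19 lc_g_rc_21_3 lc_g_Cert_tree lc_g_rc_27_6 lc_g_rc_27_6 lc_g_rc_26_0 lc_g_rc_27_9 lc_g_rc_26_6 lc_g_rc_23_7 lc_g_Cert_tree lc_g_rc_27_6 lc_g_rc_23_3 lc_g_rc_27_0 lc_g_Cert_tree lc_g_rc_21_3 lc_g_Cert_tree lc_g_Cert_tree lc_g_rc_21_3 lc_g_rc_27_6 lc_g_Cert_tree lc_g_rc_21_2 lc_g_rc_21_2 lc_g_rc_26_9 lc_g_rc_27_3 lc_g_rc_21_2 lc_g_rc_23_1 lc_g_rc_21_3 lc_g_rc_27_0 lc_g_rc_23_9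 lc_g_rc_27_9 lc_g_rc_21_2 lc_g_rc_21_3 lc_g_Cert_tree lc_g_rc_21_2 lc_g_rc_26_6 lc_g_rc_27_6 lc_g_rc_25_7 lc_g_rc_26_0 lc_g_Cert_tree lc_g_rc_21_2 lc_g_rc_26_0 lc_g_rc_27_3 lc_g_rc_26_6 lc_g_rc_26_6 lc_g_rc_26_0 lc_g_Cert_tree lc_g_rc_26_9 lc_g_Cert_tree lc_g_Cert_tree lc_g_rc_21_2 lc_g_rc_26_9) (@D3.rec (fun _ => (Cert rels S Gen.g)) lc_g_rc_21_3 lc_g_rc_23_7 lc_g_rc_25_19 lc_g_rc_27_9 lc_g_rc_27_3 lc_g_rc_21_3 lc_g_rc_26_9 lc_g_rc_24_1 lc_g_rc_23_1 lc_g_rc_21_3 lc_g_rc_21_2 lc_g_rc_21_2 lc_g_rc_21_3 lc_g_rc_25_3 lc_g_rc_21_3 lc_g_Cert_tree lc_g_rc_26_0 lc_g_rc_21_2 lc_g_Cert_tree lc_g_rc_24_9 lc_g_rc_24_3 lc_g_rc_23_9 lc_g_Cert_tree lc_g_rc_25_19 lc_g_rc_27_0 lc_g_rc_21_3 lc_g_Cert_tree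 lc_g_rc_24_3 lc_g_rc_26_9 lc_g_rc_24_1 lc_g_rc_24_3 lc_g_rc_27_3 lc_g_rc_21_3 lc_g_rc_27_3 lc_g_rc_27_6 lc_g_rc_25_19 lc_g_rc_23_3 lc_g_rc_21_3 lc_g_rc_24_1 lc_g_rc_27_6 lc_g_Cert_tree lc_g_rc_27_3 lc_g_rc_21_3 lc_g_rc_25_3 lc_g_rc_25_3 lc_g_rc_21_3 lc_g_rc_27_3 lc_g_rc_21_3 lc_g_Cert_tree lc_g_rc_26_6 lc_g_rc_24_1 lc_g_Cert_tree lc_g_rc_21_2 lc_g_rc_26_3 lc_g_rc_26_0 lc_g_rc_21_3 lc_g_rc_21_2 lc_g_rc_26_0 lc_g_rc_21_2 lc_g_rc_23_3 lc_g_Cert_tree lc_g_rc_23_1)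
def ce_g_22 : D2 → D3 → (Cert rels S Gen.g) := @D2.rec (fun _ => D3 → (Cert rels S Gen.g)) (@D3.rec (fun _ => (Cert rels S Gen.g)) lc_g_rc_21_2 lc_g_rc_26_0 lc_g_Cert_tree lc_g_rc_21_2 lc_g_Cert_tree lc_g_rc_26_0 lc_g_rc_24_7 lc_g_rc_24_7 lc_g_Cert_tree lc_g_Cert_tree lc_g_Cert_tree lc_g_Cert_tree lc_g_rc_21_3 lc_g_rc_26_9 lc_g_rc_23_7 lc_g_rc_23_9 lc_g_rc_21_2 lc_g_rc_23_7 lc_g_rc_21_3 lc_g_Cert_tree lc_g_rc_21_2 lc_g_rc_26_6 lc_g_Cert_tree lc_g_rc_24_7 lc_g_rc_26_0 lc_g_rc_21_3 lc_g_rc_21_3 lc_g_rc_27_3 lc_g_rc_26_9 lc_g_rc_26_9 lc_g_rc_23_7 lc_g_rc_27_0 lc_g_rc_21_3 lc_g_Cert_tree lc_g_rc_23_3 lc_g_Cert_tree lc_g_Cert_tree lc_g_rc_24_3 lc_g_rc_27_9 lc_g_rc_24_9 lc_g_rc_21_2 lc_g_Cert_tree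 lc_g_rc_24_9 lc_g_Cert_tree lc_g_rc_21_2 lc_g_Cert_tree lc_g_rc_26_6 lc_g_rc_24_7 lc_g_rc_24_7 lc_g_rc_23_7 lc_g_rc_21_3 lc_g_Cert_tree lc_g_rc_24_1 lc_g_rc_23_7 lc_g_rc_21_2 lc_g_rc_21_3 lc_g_Cert_tree lc_g_Cert_tree lc_g_rc_21_2 lc_g_rc_23_3 lc_g_Cert_tree lc_g_rc_21_3) (@D3.rec (fun _ => (Cert rels S Gen.g)) lc_g_Cert_tree lc_g_rc_24_3 lc_g_rc_21_3 lc_g_Cert_tree lc_g_rc_21_2 lc_g_rc_26_6 lc_g_rc_24_1 lc_g_Cert_tree lc_g_rc_21_3 lc_g_Cert_tree lc_g_rc_27_3 lc_g_Cert_tree lc_g_rc_26_6 lc_g_rc_21_3 lc_g_rc_21_3 lc_g_Cert_tree lc_g_rc_24_3 lc_g_Cert_tree lc_g_rc_27_3 lc_g_Cert_tree lc_g_Cert_tree lc_g_rc_24_1 lc_g_Cert_tree lc_g_rc_23_3 lc_g_Cert_tree lc_g_rc_21_2 lc_g_rc_26_6 lc_g_Cert_tree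 lc_g_rc_24_3 lc_g_rc_26_9 lc_g_rc_24_1 lc_g_rc_24_3 lc_g_Cert_tree lc_g_Cert_tree lc_g_rc_27_6 lc_g_Cert_tree lc_g_rc_26_6 lc_g_rc_24_3 lc_g_rc_23_7 lc_g_rc_27_6 lc_g_Cert_tree lc_g_rc_21_2 lc_g_rc_21_3 lc_g_Cert_tree lc_g_rc_21_2 lc_g_rc_21_3 lc_g_Cert_tree lc_g_rc_21_2 lc_g_rc_21_3 lc_g_Cert_tree lc_g_rc_21_2 lc_g_Cert_tree lc_g_rc_27_6 lc_g_Cert_tree lc_g_rc_21_2 lc_g_rc_23_7 lc_g_rc_21_3 lc_g_Cert_tree lc_g_rc_26_6 lc_g_rc_21_3 lc_g_Cert_tree lc_g_rc_27_0) (@D3.rec (fun _ => (Cert rels S Gen.g)) lc_g_rc_24_9 lc_g_rc_21_3 lc_g_Cert_tree lc_g_rc_24_3 lc_g_Cert_tree lc_g_rc_23_3 lc_g_rc_27_0 lc_g_rc_21_3 lc_g_Cert_tree lc_g_rc_27_0 lc_g_rc_21_3 lc_g_Cert_tree lc_g_rc_21_2 lc_g_rc_24_1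 lc_g_rc_24_3 lc_g_rc_27_9 lc_g_Cert_tree lc_g_rc_21_3 lc_g_Cert_tree lc_g_rc_26_3 lc_g_rc_24_9 lc_g_rc_26_6 lc_g_rc_21_2 lc_g_rc_27_0 lc_g_rc_27_6 lc_g_Cert_tree lc_g_rc_24_9 lc_g_Cert_tree lc_g_rc_21_3 lc_g_Cert_tree lc_g_rc_21_2 lc_g_rc_21_3 lc_g_Cert_tree lc_g_rc_24_9 lc_g_rc_26_9 lc_g_rc_27_9 lc_g_Cert_tree lc_g_rc_24_3 lc_g_rc_24_3 lc_g_Cert_tree lc_g_rc_24_3 lc_g_rc_23_7 lc_g_rc_23_3 lc_g_rc_21_3 lc_g_rc_27_0 lc_g_rc_24_3 lc_g_rc_21_2 lc_g_Cert_tree lc_g_rc_25_11 lc_g_rc_24_9 lc_g_rc_27_6 lc_g_rc_26_0 lc_g_rc_27_6 lc_g_rc_27_6 lc_g_rc_23_1 lc_g_rc_21_3 lc_g_Cert_tree lc_g_rc_23_3 lc_g_rc_26_3 lc_g_rc_21_3 lc_g_Cert_tree lc_g_rc_26_3) (@D3.rec (fun _ => (Cert rels S Gen.g)) lc_g_rc_23_3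 lc_g_rc_27_6 lc_g_rc_25_19 lc_g_rc_21_2 lc_g_rc_26_3 lc_g_rc_27_9 lc_g_rc_23_1 lc_g_rc_27_0 lc_g_rc_27_6 lc_g_Cert_tree lc_g_Cert_tree lc_g_rc_27_0 lc_g_rc_27_6 lc_g_rc_21_3 lc_g_rc_21_2 lc_g_rc_21_2 lc_g_rc_21_2 lc_g_rc_23_3 lc_g_rc_24_3 lc_g_rc_23_1 lc_g_rc_21_2 lc_g_rc_21_2 lc_g_rc_21_2 lc_g_rc_21_3 lc_g_rc_23_7 lc_g_rc_23_3 lc_g_rc_24_7 lc_g_rc_24_7 lc_g_rc_21_3 lc_g_rc_24_7 lc_g_rc_24_9 lc_g_rc_27_6 lc_g_rc_25_11 lc_g_rc_23_3 lc_g_rc_26_0 lc_g_rc_27_6 lc_g_rc_21_3 lc_g_Cert_tree lc_g_rc_24_9 lc_g_rc_23_3 lc_g_Cert_tree lc_g_rc_23_7 lc_g_rc_27_6 lc_g_Cert_tree lc_g_rc_23_3 lc_g_rc_25_3 lc_g_rc_21_2 lc_g_rc_21_3 lc_g_rc_27_9 lc_g_rc_24_3 lc_g_rc_21_3 lc_g_rc_25_19 lc_g_rc_24_9 lc_g_rc_21_2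 lc_g_rc_24_7 lc_g_rc_24_9 lc_g_rc_27_0 lc_g_rc_21_2 lc_g_rc_21_3 lc_g_Cert_tree lc_g_rc_26_0 lc_g_rc_26_0) (@D3.rec (fun _ => (Cert rels S Gen.g)) lc_g_rc_26_0 lc_g_rc_24_1 lc_g_Cert_tree lc_g_rc_21_3 lc_g_rc_21_2 lc_g_rc_21_2 lc_g_rc_21_2 lc_g_rc_25_7 lc_g_rc_27_6 lc_g_Cert_tree lc_g_rc_21_2 lc_g_rc_21_3 lc_g_rc_21_2 lc_g_Cert_tree lc_g_Cert_tree lc_g_rc_27_0 lc_g_rc_27_3 lc_g_rc_26_0 lc_g_rc_27_0 lc_g_rc_26_3 lc_g_Cert_tree lc_g_Cert_tree lc_g_rc_21_3 lc_g_Cert_tree lc_g_rc_21_2 lc_g_rc_26_3 lc_g_rc_21_2 lc_g_rc_25_15 lc_g_rc_21_2 lc_g_rc_24_3 lc_g_rc_21_2 lc_g_rc_21_3 lc_g_rc_26_9 lc_g_rc_21_2 lc_g_rc_23_7 lc_g_rc_27_3 lc_g_Cert_tree lc_g_rc_23_7 lc_g_Cert_tree lc_g_rc_24_7 lc_g_Cert_tree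 lc_g_rc_25_11 lc_g_rc_23_3 lc_g_rc_27_6 lc_g_rc_26_9 lc_g_rc_23_3 lc_g_rc_21_3 lc_g_Cert_tree lc_g_Cert_tree lc_g_rc_23_7 lc_g_rc_24_1 lc_g_rc_21_2 lc_g_rc_21_3 lc_g_rc_23_3 lc_g_rc_21_2 lc_g_Cert_tree lc_g_rc_26_0 lc_g_rc_21_3 lc_g_rc_27_6 lc_g_rc_24_3 lc_g_rc_23_9 lc_g_rc_23_7) (@D3.rec (fun _ => (Cert rels S Gen.g)) lc_g_rc_23_3 lc_g_rc_26_6 lc_g_rc_23_3 lc_g_rc_27_6 lc_g_rc_21_3 lc_g_Cert_tree lc_g_rc_23_1 lc_g_rc_27_9 lc_g_rc_21_3 lc_g_Cert_tree lc_g_rc_21_2 lc_g_Cert_tree lc_g_rc_23_3 lc_g_rc_24_7 lc_g_rc_26_3 lc_g_rc_25_7 lc_g_rc_23_7 lc_g_rc_27_6 lc_g_rc_21_2 lc_g_rc_26_3 lc_g_rc_23_1 lc_g_rc_23_9 lc_g_rc_24_3 lc_g_rc_26_6 lc_g_rc_23_7 lc_g_Cert_tree lc_g_rc_26_3 lc_g_Cert_tree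 lc_g_rc_26_6 lc_g_Cert_tree lc_g_Cert_tree lc_g_rc_24_3 lc_g_rc_27_6 lc_g_rc_21_3 lc_g_Cert_tree lc_g_rc_21_3 lc_g_rc_26_6 lc_g_rc_21_3 lc_g_rc_24_3 lc_g_rc_27_9 lc_g_rc_27_0 lc_g_rc_26_0 lc_g_rc_21_3 lc_g_Cert_tree lc_g_rc_26_9 lc_g_rc_23_3 lc_g_rc_21_2 lc_g_rc_21_2 lc_g_rc_24_3 lc_g_Cert_tree lc_g_rc_26_3 lc_g_rc_26_3 lc_g_rc_23_1 lc_g_rc_24_3 lc_g_rc_21_2 lc_g_rc_21_3 lc_g_rc_26_6 lc_g_rc_27_0 lc_g_rc_26_3 lc_g_rc_27_6 lc_g_rc_26_0 lc_g_rc_23_9) (@D3.rec (fun _ => (Cert rels S Gen.g)) lc_g_rc_23_3 lc_g_rc_27_6 lc_g_Cert_tree lc_g_rc_26_6 lc_g_Cert_tree lc_g_Cert_tree lc_g_rc_21_3 lc_g_Cert_tree lc_g_rc_27_0 lc_g_rc_21_3 lc_g_Cert_tree lc_g_Cert_tree lc_g_rc_21_2 lc_g_rc_24_1 lc_g_rc_27_0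 lc_g_rc_21_3 lc_g_Cert_tree lc_g_rc_21_2 lc_g_rc_26_3 lc_g_rc_24_9 lc_g_rc_21_3 lc_g_rc_21_2 lc_g_rc_27_6 lc_g_rc_26_9 lc_g_rc_25_3 lc_g_rc_27_6 lc_g_rc_21_3 lc_g_Cert_tree lc_g_rc_23_1 lc_g_rc_21_2 lc_g_rc_26_3 lc_g_rc_23_3 lc_g_rc_24_7 lc_g_rc_26_0 lc_g_rc_26_0 lc_g_rc_21_3 lc_g_Cert_tree lc_g_Cert_tree lc_g_rc_21_2 lc_g_Cert_tree lc_g_rc_21_2 lc_g_rc_24_7 lc_g_rc_26_3 lc_g_rc_27_0 lc_g_rc_23_9 lc_g_rc_23_1 lc_g_rc_23_1 lc_g_Cert_tree lc_g_rc_26_6 lc_g_rc_21_3 lc_g_Cert_tree lc_g_Cert_tree lc_g_rc_21_2 lc_g_rc_21_2 lc_g_rc_21_3 lc_g_Cert_tree lc_g_rc_24_7 lc_g_rc_21_2 lc_g_rc_26_6 lc_g_rc_27_6 lc_g_Cert_tree lc_g_rc_21_2) (@D3.rec (fun _ => (Cert rels S Gen.g)) lc_g_Cert_tree lc_g_rc_21_3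 lc_g_Cert_tree lc_g_rc_27_6 lc_g_rc_27_6 lc_g_Cert_tree lc_g_rc_27_3 lc_g_rc_26_3 lc_g_rc_26_6 lc_g_rc_27_9 lc_g_rc_27_6 lc_g_rc_21_2 lc_g_rc_21_3 lc_g_Cert_tree lc_g_Cert_tree lc_g_rc_21_2 lc_g_Cert_tree lc_g_rc_27_9 lc_g_rc_24_7 lc_g_rc_27_0 lc_g_Cert_tree lc_g_Cert_tree lc_g_rc_27_0 lc_g_rc_24_7 lc_g_rc_27_6 lc_g_Cert_tree lc_g_rc_24_1 lc_g_Cert_tree lc_g_rc_27_0 lc_g_Cert_tree lc_g_rc_27_6 lc_g_rc_21_2 lc_g_rc_21_2 lc_g_rc_24_3 lc_g_rc_21_3 lc_g_rc_26_3 lc_g_rc_26_0 lc_g_rc_24_9 lc_g_rc_23_7 lc_g_rc_21_3 lc_g_Cert_tree lc_g_rc_21_3 lc_g_rc_23_3 lc_g_rc_27_0 lc_g_rc_21_2 lc_g_rc_23_9 lc_g_rc_21_3 lc_g_rc_21_3 lc_g_rc_26_9 lc_g_rc_24_7 lc_g_rc_21_2 lc_g_rc_23_1 lc_g_rc_26_9 lc_g_rc_21_3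 lc_g_rc_27_3 lc_g_rc_21_3 lc_g_Cert_tree lc_g_rc_21_3 lc_g_rc_26_3 lc_g_rc_21_2 lc_g_rc_21_2 lc_g_rc_21_2) (@D3.rec (fun _ => (Cert rels S Gen.g)) lc_g_rc_21_2 lc_g_rc_24_1 lc_g_rc_23_1 lc_g_rc_27_3 lc_g_rc_21_2 lc_g_Cert_tree lc_g_rc_26_6 lc_g_rc_27_9 lc_g_rc_24_3 lc_g_rc_26_9 lc_g_rc_27_3 lc_g_Cert_tree lc_g_rc_21_2 lc_g_rc_21_3 lc_g_rc_27_9 lc_g_rc_26_3 lc_g_rc_24_3 lc_g_rc_27_9 lc_g_rc_27_6 lc_g_rc_24_1 lc_g_rc_24_7 lc_g_rc_27_3 lc_g_rc_21_3 lc_g_rc_21_2 lc_g_Cert_tree lc_g_rc_24_7 lc_g_rc_24_1 lc_g_rc_24_3 lc_g_rc_26_0 lc_g_rc_24_1 lc_g_Cert_tree lc_g_rc_26_3 lc_g_rc_23_3 lc_g_rc_26_3 lc_g_Cert_tree lc_g_rc_24_3 lc_g_rc_23_1 lc_g_rc_21_3 lc_g_rc_21_3 lc_g_rc_26_3 lc_g_rc_21_3 lc_g_rc_26_6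 lc_g_Cert_tree lc_g_rc_23_7 lc_g_Cert_tree lc_g_rc_21_2 lc_g_rc_27_3 lc_g_rc_21_3 lc_g_Cert_tree lc_g_rc_21_2 lc_g_rc_23_7 lc_g_rc_26_0 lc_g_rc_21_2 lc_g_rc_21_3 lc_g_Cert_tree lc_g_rc_21_2 lc_g_rc_26_0 lc_g_Cert_tree lc_g_rc_25_3 lc_g_rc_24_7 lc_g_rc_23_3 lc_g_rc_21_3) (@D3.rec (fun _ => (Cert rels S Gen.g)) lc_g_rc_27_6 lc_g_rc_26_6 lc_g_rc_23_7 lc_g_rc_27_6 lc_g_rc_21_3 lc_g_Cert_tree lc_g_rc_21_2 lc_g_rc_21_3 lc_g_rc_24_3 lc_g_rc_27_6 lc_g_rc_27_3 lc_g_rc_23_3 lc_g_Cert_tree lc_g_rc_23_7 lc_g_rc_27_6 lc_g_rc_24_3 lc_g_rc_26_6 lc_g_rc_21_3 lc_g_rc_21_2 lc_g_rc_26_6 lc_g_rc_21_3 lc_g_Cert_tree lc_g_rc_23_1 lc_g_rc_27_6 lc_g_rc_21_3 lc_g_Cert_tree lc_g_rc_21_3 lc_g_rc_26_6 lc_g_rc_26_3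 lc_g_Cert_tree lc_g_rc_24_1 lc_g_rc_26_0 lc_g_rc_24_1 lc_g_rc_26_6 lc_g_rc_24_1 lc_g_rc_23_1 lc_g_rc_27_6 lc_g_rc_27_6 lc_g_rc_26_6 lc_g_rc_21_3 lc_g_Cert_tree lc_g_rc_27_3 lc_g_rc_26_6 lc_g_rc_23_3 lc_g_rc_23_7 lc_g_rc_21_3 lc_g_Cert_tree lc_g_rc_23_1 lc_g_rc_26_6 lc_g_rc_24_3 lc_g_rc_26_9 lc_g_rc_23_1 lc_g_rc_24_1 lc_g_rc_24_3 lc_g_rc_23_3 lc_g_rc_26_6 lc_g_rc_23_3 lc_g_rc_21_3 lc_g_rc_26_9 lc_g_rc_26_9 lc_g_rc_27_9 lc_g_rc_27_9) (@D3.rec (fun _ => (Cert rels S Gen.g)) lc_g_Cert_tree lc_g_rc_26_0 lc_g_rc_21_2 lc_g_rc_24_1 lc_g_rc_21_2 lc_g_rc_27_6 lc_g_Cert_tree lc_g_rc_23_3 lc_g_Cert_tree lc_g_rc_23_1 lc_g_rc_21_2 lc_g_rc_26_3 lc_g_rc_23_7 lc_g_rc_24_1 lc_g_Cert_tree lc_g_rc_23_7 lc_g_rc_24_1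 lc_g_rc_27_3 lc_g_rc_21_3 lc_g_Cert_tree lc_g_rc_21_3 lc_g_rc_25_7 lc_g_rc_23_1 lc_g_Cert_tree lc_g_rc_21_3 lc_g_rc_21_2 lc_g_Cert_tree lc_g_rc_25_3 lc_g_rc_23_9 lc_g_rc_24_3 lc_g_rc_23_3 lc_g_rc_21_3 lc_g_rc_21_2 lc_g_rc_26_6 lc_g_rc_23_7 lc_g_rc_26_9 lc_g_rc_21_3 lc_g_rc_21_2 lc_g_rc_26_6 lc_g_rc_23_9 lc_g_rc_24_3 lc_g_rc_24_9 lc_g_rc_21_2 lc_g_rc_21_3 lc_g_Cert_tree lc_g_rc_24_1 lc_g_rc_21_3 lc_g_Cert_tree lc_g_rc_21_2 lc_g_Cert_tree lc_g_rc_23_3 lc_g_rc_27_3 lc_g_rc_21_3 lc_g_rc_21_2 lc_g_rc_21_2 lc_g_rc_21_2 lc_g_rc_21_2 lc_g_Cert_tree lc_g_rc_23_7 lc_g_rc_27_0 lc_g_Cert_tree lc_g_rc_21_2) (@D3.rec (fun _ => (Cert rels S Gen.g)) lc_g_rc_27_6 lc_g_Cert_tree lc_g_rc_26_9 lc_g_rc_24_7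 lc_g_rc_27_0 lc_g_rc_21_2 lc_g_rc_21_3 lc_g_rc_26_6 lc_g_rc_23_3 lc_g_rc_23_1 lc_g_rc_26_3 lc_g_rc_23_3 lc_g_rc_21_3 lc_g_Cert_tree lc_g_rc_21_2 lc_g_rc_21_2 lc_g_rc_23_3 lc_g_Cert_tree lc_g_rc_27_6 lc_g_rc_26_6 lc_g_rc_21_3 lc_g_rc_23_3 lc_g_rc_27_3 lc_g_rc_21_3 lc_g_rc_23_3 lc_g_rc_23_7 lc_g_Cert_tree lc_g_rc_21_2 lc_g_rc_26_6 lc_g_Cert_tree lc_g_rc_21_2 lc_g_rc_26_6 lc_g_rc_21_2 lc_g_rc_27_6 lc_g_rc_21_2 lc_g_rc_26_6 lc_g_rc_27_0 lc_g_rc_24_1 lc_g_rc_21_2 lc_g_rc_24_3 lc_g_rc_23_3 lc_g_rc_27_0 lc_g_rc_26_3 lc_g_rc_23_1 lc_g_rc_27_3 lc_g_rc_21_3 lc_g_Cert_tree lc_g_rc_21_2 lc_g_rc_21_3 lc_g_Cert_tree lc_g_rc_21_2 lc_g_rc_26_6 lc_g_rc_21_3 lc_g_rc_27_6 lc_g_rc_27_6 lc_g_Cert_tree lc_g_rc_27_6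 lc_g_rc_23_3 lc_g_rc_26_0 lc_g_rc_24_1 lc_g_rc_23_3 lc_g_rc_23_3) (@D3.rec (fun _ => (Cert rels S Gen.g)) lc_g_rc_26_0 lc_g_rc_21_2 lc_g_rc_21_3 lc_g_Cert_tree lc_g_rc_26_0 lc_g_rc_27_6 lc_g_rc_21_3 lc_g_Cert_tree lc_g_rc_21_2 lc_g_Cert_tree lc_g_rc_26_3 lc_g_rc_26_0 lc_g_rc_23_3 lc_g_Cert_tree lc_g_rc_21_2 lc_g_rc_21_3 lc_g_Cert_tree lc_g_rc_21_2 lc_g_rc_26_0 lc_g_rc_27_9 lc_g_rc_21_2 lc_g_rc_21_3 lc_g_Cert_tree lc_g_rc_21_2 lc_g_rc_23_7 lc_g_rc_21_3 lc_g_rc_21_2 lc_g_rc_27_3 lc_g_rc_23_1 lc_g_rc_21_3 lc_g_rc_26_6 lc_g_rc_21_3 lc_g_Cert_tree lc_g_Cert_tree lc_g_rc_21_2 lc_g_rc_21_2 lc_g_Cert_tree lc_g_rc_21_2 lc_g_Cert_tree lc_g_rc_21_3 lc_g_Cert_tree lc_g_rc_21_3 lc_g_Cert_tree lc_g_rc_24_9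 lc_g_rc_21_3 lc_g_Cert_tree lc_g_rc_21_3 lc_g_rc_24_3 lc_g_rc_21_3 lc_g_Cert_tree lc_g_rc_21_3 lc_g_rc_21_2 lc_g_rc_24_9 lc_g_Cert_tree lc_g_rc_24_7 lc_g_Cert_tree lc_g_rc_27_3 lc_g_rc_24_7 lc_g_rc_23_3 lc_g_rc_24_9 lc_g_rc_24_9 lc_g_rc_26_3) (@D3.rec (fun _ => (Cert rels S Gen.g)) lc_g_rc_21_3 lc_g_rc_26_9 lc_g_rc_24_9 lc_g_rc_26_0 lc_g_Cert_tree lc_g_rc_27_3 lc_g_rc_21_2 lc_g_rc_23_3 lc_g_rc_27_0 lc_g_rc_21_3 lc_g_Cert_tree lc_g_Cert_tree lc_g_rc_23_3 lc_g_rc_26_9 lc_g_rc_24_9 lc_g_rc_27_9 lc_g_rc_26_6 lc_g_rc_21_3 lc_g_Cert_tree lc_g_Cert_tree lc_g_rc_26_6 lc_g_Cert_tree lc_g_rc_27_9 lc_g_rc_24_7 lc_g_rc_27_3 lc_g_rc_23_1 lc_g_Cert_tree lc_g_Cert_tree lc_g_rc_27_6 lc_g_rc_21_3 lc_g_Cert_tree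 lc_g_rc_21_2 lc_g_rc_21_2 lc_g_rc_21_2 lc_g_rc_21_3 lc_g_Cert_tree lc_g_rc_24_1 lc_g_rc_21_3 lc_g_rc_21_3 lc_g_Cert_tree lc_g_rc_21_2 lc_g_Cert_tree lc_g_Cert_tree lc_g_rc_24_1 lc_g_Cert_tree lc_g_rc_21_2 lc_g_rc_27_6 lc_g_Cert_tree lc_g_rc_27_3 lc_g_rc_24_7 lc_g_Cert_tree lc_g_Cert_tree lc_g_rc_21_2 lc_g_Cert_tree lc_g_Cert_tree lc_g_Cert_tree lc_g_rc_27_6 lc_g_rc_23_1 lc_g_rc_27_6 lc_g_rc_21_2 lc_g_rc_23_3 lc_g_rc_21_2) (@D3.rec (fun _ => (Cert rels S Gen.g)) lc_g_rc_27_3 lc_g_rc_21_2 lc_g_rc_24_9 lc_g_rc_21_2 lc_g_rc_27_6 lc_g_rc_21_3 lc_g_Cert_tree lc_g_rc_23_1 lc_g_Cert_tree lc_g_rc_27_3 lc_g_rc_23_1 lc_g_rc_24_1 lc_g_rc_21_2 lc_g_rc_23_1 lc_g_rc_27_3 lc_g_Cert_tree lc_g_rc_27_6 lc_g_rc_21_3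 lc_g_Cert_tree lc_g_rc_27_6 lc_g_rc_21_2 lc_g_rc_26_3 lc_g_rc_23_9 lc_g_rc_26_6 lc_g_rc_21_2 lc_g_rc_23_1 lc_g_rc_27_0 lc_g_rc_21_3 lc_g_rc_26_3 lc_g_rc_21_3 lc_g_Cert_tree lc_g_rc_23_3 lc_g_Cert_tree lc_g_rc_23_9 lc_g_rc_21_3 lc_g_rc_21_2 lc_g_rc_27_0 lc_g_rc_23_1 lc_g_rc_24_7 lc_g_rc_21_3 lc_g_rc_26_3 lc_g_rc_26_9 lc_g_Cert_tree lc_g_rc_26_3 lc_g_rc_27_3 lc_g_rc_21_3 lc_g_Cert_tree lc_g_rc_21_2 lc_g_rc_21_3 lc_g_Cert_tree lc_g_rc_26_9 lc_g_Cert_tree lc_g_rc_27_6 lc_g_rc_21_3 lc_g_Cert_tree lc_g_rc_26_0 lc_g_rc_26_9 lc_g_rc_26_0 lc_g_rc_26_3 lc_g_rc_27_3 lc_g_rc_23_3 lc_g_Cert_tree) (@D3.rec (fun _ => (Cert rels S Gen.g)) lc_g_rc_26_3 lc_g_rc_23_3 lc_g_rc_26_0 lc_g_rc_24_3 lc_g_rc_23_1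 lc_g_rc_24_3 lc_g_rc_27_9 lc_g_rc_21_2 lc_g_rc_21_3 lc_g_Cert_tree lc_g_rc_21_2 lc_g_rc_25_11 lc_g_rc_24_3 lc_g_Cert_tree lc_g_Cert_tree lc_g_rc_21_2 lc_g_rc_26_6 lc_g_rc_24_3 lc_g_rc_24_7 lc_g_rc_21_3 lc_g_rc_27_0 lc_g_rc_23_9 lc_g_rc_27_0 lc_g_rc_21_3 lc_g_rc_26_3 lc_g_rc_26_0 lc_g_rc_26_6 lc_g_rc_21_3 lc_g_rc_26_3 lc_g_rc_23_3 lc_g_Cert_tree lc_g_rc_26_3 lc_g_rc_26_0 lc_g_rc_24_1 lc_g_rc_21_3 lc_g_Cert_tree lc_g_rc_21_2 lc_g_rc_21_2 lc_g_rc_21_3 lc_g_Cert_tree lc_g_Cert_tree lc_g_rc_21_2 lc_g_rc_21_2 lc_g_rc_21_2 lc_g_rc_27_9 lc_g_rc_27_3 lc_g_rc_26_9 lc_g_rc_26_0 lc_g_rc_27_6 lc_g_Cert_tree lc_g_rc_21_2 lc_g_rc_21_3 lc_g_Cert_tree lc_g_rc_23_3 lc_g_rc_21_3 lc_g_Cert_tree lc_g_Cert_tree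 lc_g_rc_21_3 lc_g_rc_23_3 lc_g_rc_25_7 lc_g_rc_21_3 lc_g_rc_23_7) (@D3.rec (fun _ => (Cert rels S Gen.g)) lc_g_rc_26_3 lc_g_rc_21_3 lc_g_Cert_tree lc_g_rc_26_3 lc_g_rc_21_2 lc_g_Cert_tree lc_g_rc_25_7 lc_g_rc_23_3 lc_g_rc_21_3 lc_g_rc_21_2 lc_g_rc_26_3 lc_g_Cert_tree lc_g_rc_21_2 lc_g_rc_21_2 lc_g_Cert_tree lc_g_rc_27_9 lc_g_Cert_tree lc_g_rc_21_3 lc_g_Cert_tree lc_g_rc_24_7 lc_g_rc_21_2 lc_g_rc_21_3 lc_g_rc_21_2 lc_g_rc_21_3 lc_g_Cert_tree lc_g_Cert_tree lc_g_rc_26_6 lc_g_rc_26_0 lc_g_rc_21_3 lc_g_rc_27_3 lc_g_rc_26_0 lc_g_rc_24_7 lc_g_rc_27_3 lc_g_rc_21_3 lc_g_Cert_tree lc_g_rc_26_6 lc_g_rc_24_3 lc_g_rc_26_6 lc_g_rc_27_3 lc_g_rc_21_3 lc_g_rc_24_3 lc_g_rc_24_3 lc_g_rc_24_3 lc_g_rc_26_6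 lc_g_Cert_tree lc_g_Cert_tree lc_g_rc_21_3 lc_g_rc_26_9 lc_g_rc_21_3 lc_g_Cert_tree lc_g_rc_23_3 lc_g_rc_21_2 lc_g_rc_21_2 lc_g_rc_21_2 lc_g_rc_26_0 lc_g_rc_24_9 lc_g_rc_21_3 lc_g_Cert_tree lc_g_rc_21_3 lc_g_rc_23_7 lc_g_rc_21_3 lc_g_Cert_tree) (@D3.rec (fun _ => (Cert rels S Gen.g)) lc_g_Cert_tree lc_g_rc_27_0 lc_g_rc_21_3 lc_g_Cert_tree lc_g_rc_21_2 lc_g_rc_26_6 lc_g_rc_21_2 lc_g_rc_21_3 lc_g_Cert_tree lc_g_rc_27_6 lc_g_rc_21_2 lc_g_rc_21_3 lc_g_Cert_tree lc_g_Cert_tree lc_g_Cert_tree lc_g_rc_21_3 lc_g_Cert_tree lc_g_rc_21_2 lc_g_Cert_tree lc_g_rc_27_0 lc_g_rc_21_3 lc_g_Cert_tree lc_g_rc_27_0 lc_g_rc_26_3 lc_g_Cert_tree lc_g_Cert_tree lc_g_rc_21_2 lc_g_rc_27_3 lc_g_rc_23_9 lc_g_rc_27_6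 lc_g_rc_27_3 lc_g_rc_21_3 lc_g_Cert_tree lc_g_rc_21_2 lc_g_rc_27_9 lc_g_Cert_tree lc_g_Cert_tree lc_g_rc_23_9 lc_g_rc_21_3 lc_g_Cert_tree lc_g_rc_21_2 lc_g_rc_26_6 lc_g_rc_21_3 lc_g_rc_21_3 lc_g_rc_26_3 lc_g_rc_21_2 lc_g_rc_27_3 lc_g_rc_21_3 lc_g_Cert_tree lc_g_rc_26_9 lc_g_rc_27_9 lc_g_rc_26_6 lc_g_rc_27_0 lc_g_rc_21_3 lc_g_Cert_tree lc_g_rc_27_3 lc_g_Cert_tree lc_g_rc_21_3 lc_g_rc_27_9 lc_g_rc_27_3 lc_g_rc_21_2 lc_g_rc_27_0) (@D3.rec (fun _ => (Cert rels S Gen.g)) lc_g_rc_21_2 lc_g_rc_26_9 lc_g_rc_21_2 lc_g_rc_21_3 lc_g_rc_27_3 lc_g_rc_21_3 lc_g_rc_23_1 lc_g_Cert_tree lc_g_rc_27_3 lc_g_rc_24_3 lc_g_rc_27_0 lc_g_rc_21_3 lc_g_Cert_tree lc_g_rc_24_7 lc_g_rc_24_9 lc_g_rc_26_3 lc_g_rc_21_2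 lc_g_rc_26_3 lc_g_rc_27_9 lc_g_rc_24_7 lc_g_rc_27_3 lc_g_rc_24_3 lc_g_rc_24_1 lc_g_Cert_tree lc_g_rc_21_3 lc_g_Cert_tree lc_g_rc_26_3 lc_g_rc_27_3 lc_g_rc_21_3 lc_g_Cert_tree lc_g_rc_21_2 lc_g_rc_26_3 lc_g_rc_21_2 lc_g_rc_21_2 lc_g_rc_21_2 lc_g_rc_21_3 lc_g_Cert_tree lc_g_rc_21_3 lc_g_Cert_tree lc_g_rc_21_3 lc_g_Cert_tree lc_g_rc_21_2 lc_g_rc_26_3 lc_g_rc_26_6 lc_g_rc_21_3 lc_g_Cert_tree lc_g_rc_21_2 lc_g_rc_21_2 lc_g_rc_27_0 lc_g_rc_21_2 lc_g_rc_24_3 lc_g_rc_24_7 lc_g_rc_21_3 lc_g_rc_21_2 lc_g_rc_21_3 lc_g_Cert_tree lc_g_rc_21_2 lc_g_rc_21_2 lc_g_Cert_tree lc_g_rc_26_3 lc_g_rc_21_3 lc_g_rc_21_2) (@D3.rec (fun _ => (Cert rels S Gen.g)) lc_g_rc_26_3 lc_g_Cert_tree lc_g_rc_21_2 lc_g_rc_27_9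 lc_g_rc_26_6 lc_g_rc_21_2 lc_g_rc_27_6 lc_g_rc_27_3 lc_g_rc_21_2 lc_g_rc_21_2 lc_g_rc_21_2 lc_g_rc_27_0 lc_g_rc_23_3 lc_g_rc_26_3 lc_g_rc_27_6 lc_g_rc_21_3 lc_g_rc_27_6 lc_g_rc_23_3 lc_g_rc_21_3 lc_g_Cert_tree lc_g_rc_21_2 lc_g_rc_23_3 lc_g_rc_21_2 lc_g_rc_24_9 lc_g_rc_21_2 lc_g_rc_21_3 lc_g_Cert_tree lc_g_Cert_tree lc_g_Cert_tree lc_g_rc_21_2 lc_g_rc_27_6 lc_g_rc_27_3 lc_g_rc_26_3 lc_g_rc_27_0 lc_g_Cert_tree lc_g_rc_21_2 lc_g_rc_24_3 lc_g_Cert_tree lc_g_rc_26_3 lc_g_rc_21_3 lc_g_Cert_tree lc_g_rc_21_2 lc_g_rc_21_2 lc_g_rc_21_2 lc_g_rc_21_3 lc_g_Cert_tree lc_g_rc_21_2 lc_g_rc_27_6 lc_g_rc_21_2 lc_g_Cert_tree lc_g_rc_21_2 lc_g_Cert_tree lc_g_rc_23_1 lc_g_rc_27_3 lc_g_rc_26_0 lc_g_rc_21_2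 lc_g_Cert_tree lc_g_rc_27_9 lc_g_rc_23_3 lc_g_rc_26_3 lc_g_rc_23_7 lc_g_rc_25_3) (@D3.rec (fun _ => (Cert rels S Gen.g)) lc_g_rc_21_2 lc_g_Cert_tree lc_g_rc_23_3 lc_g_rc_21_3 lc_g_rc_27_6 lc_g_Cert_tree lc_g_rc_23_3 lc_g_rc_26_0 lc_g_rc_21_2 lc_g_rc_21_3 lc_g_rc_21_3 lc_g_rc_24_7 lc_g_rc_21_3 lc_g_rc_21_3 lc_g_rc_21_2 lc_g_rc_27_0 lc_g_rc_24_3 lc_g_rc_23_3 lc_g_rc_26_9 lc_g_rc_27_6 lc_g_rc_21_2 lc_g_rc_26_0 lc_g_rc_27_6 lc_g_rc_26_3 lc_g_rc_24_3 lc_g_Cert_tree lc_g_rc_24_9 lc_g_rc_24_7 lc_g_rc_27_6 lc_g_Cert_tree lc_g_rc_21_2 lc_g_rc_21_2 lc_g_rc_21_2 lc_g_rc_24_1 lc_g_rc_21_3 lc_g_Cert_tree lc_g_Cert_tree lc_g_Cert_tree lc_g_rc_21_3 lc_g_Cert_tree lc_g_Cert_tree lc_g_rc_23_9 lc_g_rc_23_9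 lc_g_rc_26_9 lc_g_rc_21_3 lc_g_rc_27_6 lc_g_rc_21_2 lc_g_rc_24_3 lc_g_rc_21_2 lc_g_Cert_tree lc_g_rc_26_6 lc_g_rc_21_3 lc_g_Cert_tree lc_g_rc_21_2 lc_g_rc_26_0 lc_g_rc_27_0 lc_g_rc_21_3 lc_g_Cert_tree lc_g_rc_24_3 lc_g_rc_23_3 lc_g_Cert_tree lc_g_rc_21_3) (@D3.rec (fun _ => (Cert rels S Gen.g)) lc_g_rc_26_6 lc_g_rc_24_1 lc_g_rc_21_3 lc_g_Cert_tree lc_g_rc_21_2 lc_g_rc_26_6 lc_g_rc_21_3 lc_g_rc_21_3 lc_g_rc_21_2 lc_g_rc_26_6 lc_g_rc_21_2 lc_g_rc_26_6 lc_g_rc_23_3 lc_g_rc_21_3 lc_g_rc_21_3 lc_g_rc_21_3 lc_g_rc_21_3 lc_g_Cert_tree lc_g_rc_21_3 lc_g_rc_21_2 lc_g_rc_21_3 lc_g_rc_21_3 lc_g_Cert_tree lc_g_rc_23_9 lc_g_rc_21_3 lc_g_rc_26_3 lc_g_rc_26_3 lc_g_rc_21_3 lc_g_rc_21_2 lc_g_rc_21_2 lc_g_rc_21_3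 lc_g_rc_21_3 lc_g_rc_21_2 lc_g_Cert_tree lc_g_rc_21_2 lc_g_rc_21_2 lc_g_rc_27_3 lc_g_rc_21_3 lc_g_Cert_tree lc_g_rc_24_1 lc_g_Cert_tree lc_g_rc_26_9 lc_g_Cert_tree lc_g_rc_24_7 lc_g_rc_24_3 lc_g_rc_27_6 lc_g_rc_27_3 lc_g_rc_21_2 lc_g_rc_26_6 lc_g_rc_24_3 lc_g_rc_26_0 lc_g_rc_21_3 lc_g_Cert_tree lc_g_rc_21_2 lc_g_rc_26_6 lc_g_rc_21_2 lc_g_rc_27_3 lc_g_Cert_tree lc_g_Cert_tree lc_g_rc_21_3 lc_g_Cert_tree lc_g_rc_21_2) (@D3.rec (fun _ => (Cert rels S Gen.g)) lc_g_rc_21_2 lc_g_rc_26_6 lc_g_Cert_tree lc_g_rc_26_3 lc_g_rc_21_3 lc_g_rc_27_0 lc_g_rc_27_6 lc_g_rc_21_2 lc_g_Cert_tree lc_g_rc_21_3 lc_g_Cert_tree lc_g_rc_21_2 lc_g_rc_21_2 lc_g_rc_27_6 lc_g_Cert_tree lc_g_rc_25_15 lc_g_rc_27_0 lc_g_rc_21_2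 lc_g_rc_23_1 lc_g_rc_21_2 lc_g_rc_27_9 lc_g_rc_21_2 lc_g_rc_27_6 lc_g_rc_26_3 lc_g_Cert_tree lc_g_rc_21_2 lc_g_rc_24_9 lc_g_rc_21_3 lc_g_rc_26_3 lc_g_rc_27_9 lc_g_rc_21_3 lc_g_rc_21_2 lc_g_rc_27_9 lc_g_rc_26_6 lc_g_rc_21_2 lc_g_rc_24_1 lc_g_rc_24_9 lc_g_rc_23_9 lc_g_rc_26_9 lc_g_rc_27_3 lc_g_rc_24_1 lc_g_Cert_tree lc_g_rc_26_0 lc_g_rc_23_1 lc_g_rc_27_0 lc_g_rc_21_3 lc_g_rc_24_7 lc_g_rc_26_0 lc_g_rc_21_2 lc_g_rc_23_3 lc_g_rc_21_2 lc_g_rc_27_0 lc_g_rc_24_7 lc_g_rc_27_0 lc_g_rc_21_3 lc_g_rc_21_3 lc_g_rc_27_6 lc_g_rc_23_3 lc_g_rc_24_7 lc_g_rc_21_2 lc_g_rc_24_3 lc_g_rc_24_3) (@D3.rec (fun _ => (Cert rels S Gen.g)) lc_g_rc_23_9 lc_g_rc_26_3 lc_g_rc_26_0 lc_g_rc_23_1 lc_g_rc_21_3 lc_g_Cert_tree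 lc_g_rc_27_9 lc_g_rc_21_2 lc_g_rc_26_3 lc_g_rc_23_1 lc_g_rc_27_0 lc_g_rc_23_3 lc_g_rc_21_2 lc_g_rc_21_3 lc_g_rc_21_2 lc_g_rc_21_2 lc_g_rc_24_3 lc_g_rc_21_3 lc_g_Cert_tree lc_g_rc_24_3 lc_g_rc_24_3 lc_g_Cert_tree lc_g_rc_23_1 lc_g_rc_27_6 lc_g_rc_27_0 lc_g_rc_24_3 lc_g_rc_24_3 lc_g_Cert_tree lc_g_rc_25_11 lc_g_rc_23_3 lc_g_rc_24_7 lc_g_rc_23_9 lc_g_rc_27_3 lc_g_rc_27_6 lc_g_Cert_tree lc_g_rc_24_9 lc_g_rc_21_3 lc_g_rc_26_3 lc_g_rc_21_2 lc_g_rc_26_3 lc_g_rc_26_6 lc_g_rc_27_3 lc_g_Cert_tree lc_g_rc_26_6 lc_g_rc_23_7 lc_g_rc_27_0 lc_g_Cert_tree lc_g_rc_25_19 lc_g_Cert_tree lc_g_rc_24_3 lc_g_rc_24_1 lc_g_Cert_tree lc_g_rc_26_3 lc_g_rc_27_6 lc_g_rc_21_2 lc_g_rc_21_2 lc_g_Cert_tree lc_g_rc_23_9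 lc_g_rc_27_3 lc_g_rc_26_9 lc_g_rc_24_9 lc_g_rc_23_1) (@D3.rec (fun _ => (Cert rels S Gen.g)) lc_g_Cert_tree lc_g_Cert_tree lc_g_rc_26_6 lc_g_Cert_tree lc_g_Cert_tree lc_g_rc_21_2 lc_g_rc_23_1 lc_g_rc_24_7 lc_g_rc_21_3 lc_g_Cert_tree lc_g_rc_21_3 lc_g_rc_21_2 lc_g_rc_21_2 lc_g_rc_21_2 lc_g_Cert_tree lc_g_rc_21_2 lc_g_rc_21_3 lc_g_rc_27_6 lc_g_rc_23_9 lc_g_rc_23_1 lc_g_rc_21_3 lc_g_rc_25_11 lc_g_rc_21_3 lc_g_rc_21_3 lc_g_Cert_tree lc_g_rc_24_1 lc_g_rc_26_6 lc_g_rc_27_0 lc_g_rc_21_2 lc_g_rc_21_2 lc_g_rc_21_2 lc_g_rc_27_6 lc_g_rc_26_6 lc_g_rc_24_7 lc_g_rc_23_7 lc_g_rc_24_7 lc_g_rc_27_0 lc_g_rc_21_3 lc_g_Cert_tree lc_g_Cert_tree lc_g_rc_24_7 lc_g_Cert_tree lc_g_rc_21_2 lc_g_rc_27_9 lc_g_rc_21_2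 lc_g_rc_26_0 lc_g_rc_27_3 lc_g_Cert_tree lc_g_rc_27_9 lc_g_Cert_tree lc_g_rc_26_3 lc_g_Cert_tree lc_g_rc_27_9 lc_g_rc_21_3 lc_g_Cert_tree lc_g_rc_23_9 lc_g_rc_21_2 lc_g_Cert_tree lc_g_rc_23_3 lc_g_Cert_tree lc_g_rc_26_6 lc_g_rc_24_9) (@D3.rec (fun _ => (Cert rels S Gen.g)) lc_g_rc_26_3 lc_g_rc_21_3 lc_g_rc_21_3 lc_g_Cert_tree lc_g_rc_21_2 lc_g_rc_21_2 lc_g_rc_21_2 lc_g_rc_23_9 lc_g_rc_21_2 lc_g_rc_21_3 lc_g_Cert_tree lc_g_rc_21_2 lc_g_rc_25_19 lc_g_rc_23_3 lc_g_rc_24_3 lc_g_rc_27_0 lc_g_rc_21_2 lc_g_rc_23_1 lc_g_rc_27_0 lc_g_rc_26_6 lc_g_Cert_tree lc_g_rc_24_3 lc_g_Cert_tree lc_g_rc_27_0 lc_g_rc_27_0 lc_g_rc_21_3 lc_g_Cert_tree lc_g_rc_21_2 lc_g_rc_27_9 lc_g_rc_26_3 lc_g_Cert_tree lc_g_Cert_tree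 lc_g_rc_26_3 lc_g_rc_21_2 lc_g_rc_21_3 lc_g_Cert_tree lc_g_rc_21_2 lc_g_rc_27_0 lc_g_rc_21_3 lc_g_Cert_tree lc_g_rc_21_2 lc_g_Cert_tree lc_g_rc_24_3 lc_g_rc_21_2 lc_g_rc_24_1 lc_g_rc_24_3 lc_g_Cert_tree lc_g_rc_24_3 lc_g_rc_27_6 lc_g_rc_24_1 lc_g_rc_23_3 lc_g_rc_27_9 lc_g_rc_27_3 lc_g_rc_21_2 lc_g_rc_21_3 lc_g_Cert_tree lc_g_rc_25_7 lc_g_rc_24_3 lc_g_Cert_tree lc_g_rc_21_3 lc_g_rc_21_3 lc_g_Cert_tree) (@D3.rec (fun _ => (Cert rels S Gen.g)) lc_g_Cert_tree lc_g_rc_25_19 lc_g_rc_23_1 lc_g_rc_26_3 lc_g_rc_27_0 lc_g_rc_26_6 lc_g_rc_27_9 lc_g_rc_23_1 lc_g_rc_21_3 lc_g_rc_23_1 lc_g_rc_23_3 lc_g_rc_23_7 lc_g_rc_27_3 lc_g_rc_21_3 lc_g_Cert_tree lc_g_rc_24_3 lc_g_rc_27_3 lc_g_Cert_tree lc_g_rc_21_2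 lc_g_rc_21_3 lc_g_Cert_tree lc_g_rc_21_2 lc_g_rc_27_3 lc_g_rc_26_9 lc_g_rc_27_6 lc_g_rc_21_2 lc_g_rc_26_6 lc_g_rc_27_6 lc_g_rc_21_3 lc_g_Cert_tree lc_g_rc_21_2 lc_g_Cert_tree lc_g_rc_23_3 lc_g_rc_21_2 lc_g_rc_26_3 lc_g_rc_24_3 lc_g_rc_27_3 lc_g_Cert_tree lc_g_rc_26_3 lc_g_Cert_tree lc_g_rc_26_0 lc_g_Cert_tree lc_g_rc_21_2 lc_g_rc_26_6 lc_g_Cert_tree lc_g_Cert_tree lc_g_rc_24_1 lc_g_rc_27_3 lc_g_rc_21_3 lc_g_Cert_tree lc_g_rc_21_2 lc_g_rc_23_9 lc_g_rc_27_6 lc_g_rc_21_3 lc_g_rc_21_3 lc_g_rc_27_6 lc_g_rc_23_7 lc_g_rc_26_0 lc_g_rc_23_7 lc_g_rc_21_2 lc_g_Cert_tree lc_g_Cert_tree) (@D3.rec (fun _ => (Cert rels S Gen.g)) lc_g_rc_21_3 lc_g_Cert_tree lc_g_rc_21_2 lc_g_rc_21_2 lc_g_rc_26_0 lc_g_Cert_tree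 lc_g_rc_21_3 lc_g_rc_23_7 lc_g_rc_21_2 lc_g_rc_24_3 lc_g_rc_23_3 lc_g_rc_21_3 lc_g_Cert_tree lc_g_rc_21_3 lc_g_Cert_tree lc_g_rc_23_1 lc_g_rc_27_6 lc_g_rc_26_6 lc_g_rc_21_3 lc_g_rc_21_2 lc_g_rc_23_9 lc_g_rc_21_2 lc_g_Cert_tree lc_g_rc_23_9 lc_g_rc_27_0 lc_g_rc_23_9 lc_g_Cert_tree lc_g_rc_26_9 lc_g_Cert_tree lc_g_rc_21_3 lc_g_Cert_tree lc_g_rc_27_6 lc_g_rc_21_2 lc_g_rc_21_2 lc_g_Cert_tree lc_g_rc_21_3 lc_g_Cert_tree lc_g_rc_26_6 lc_g_rc_26_3 lc_g_rc_26_6 lc_g_rc_27_9 lc_g_rc_24_1 lc_g_rc_24_1 lc_g_rc_23_9 lc_g_Cert_tree lc_g_rc_27_0 lc_g_rc_26_6 lc_g_rc_26_6 lc_g_rc_26_6 lc_g_rc_21_3 lc_g_rc_21_2 lc_g_Cert_tree lc_g_rc_21_3 lc_g_rc_21_2 lc_g_rc_21_3 lc_g_rc_23_3 lc_g_rc_26_0 lc_g_rc_23_7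 lc_g_rc_26_3 lc_g_rc_26_3 lc_g_rc_21_2 lc_g_rc_26_9) (@D3.rec (fun _ => (Cert rels S Gen.g)) lc_g_rc_27_6 lc_g_rc_21_3 lc_g_Cert_tree lc_g_rc_21_2 lc_g_rc_26_0 lc_g_rc_26_9 lc_g_Cert_tree lc_g_rc_26_3 lc_g_rc_21_3 lc_g_Cert_tree lc_g_rc_21_2 lc_g_Cert_tree lc_g_rc_21_3 lc_g_rc_21_2 lc_g_rc_21_3 lc_g_Cert_tree lc_g_rc_21_2 lc_g_rc_27_6 lc_g_rc_23_3 lc_g_rc_27_6 lc_g_rc_26_6 lc_g_rc_24_1 lc_g_rc_27_6 lc_g_Cert_tree lc_g_rc_24_3 lc_g_rc_21_3 lc_g_Cert_tree lc_g_rc_27_6 lc_g_rc_21_2 lc_g_rc_21_3 lc_g_Cert_tree lc_g_rc_21_2 lc_g_rc_21_3 lc_g_Cert_tree lc_g_rc_21_2 lc_g_rc_26_0 lc_g_rc_21_3 lc_g_rc_21_3 lc_g_rc_23_3 lc_g_rc_26_9 lc_g_rc_21_3 lc_g_Cert_tree lc_g_rc_21_3 lc_g_rc_26_3 lc_g_rc_27_9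 lc_g_rc_21_2 lc_g_Cert_tree lc_g_rc_21_2 lc_g_rc_26_3 lc_g_rc_21_3 lc_g_Cert_tree lc_g_rc_21_2 lc_g_rc_27_9 lc_g_Cert_tree lc_g_rc_27_0 lc_g_rc_21_3 lc_g_rc_21_3 lc_g_Cert_tree lc_g_rc_21_2 lc_g_rc_25_11 lc_g_rc_27_6 lc_g_rc_27_6) (@D3.rec (fun _ => (Cert rels S Gen.g)) lc_g_rc_24_7 lc_g_rc_21_2 lc_g_rc_21_2 lc_g_rc_21_3 lc_g_rc_21_2 lc_g_rc_21_2 lc_g_rc_26_6 lc_g_rc_21_2 lc_g_rc_26_0 lc_g_rc_26_9 lc_g_rc_21_2 lc_g_Cert_tree lc_g_rc_26_3 lc_g_rc_26_6 lc_g_rc_21_2 lc_g_rc_21_3 lc_g_Cert_tree lc_g_rc_21_2 lc_g_rc_26_6 lc_g_rc_21_3 lc_g_rc_21_3 lc_g_rc_21_3 lc_g_rc_26_3 lc_g_rc_21_3 lc_g_rc_26_3 lc_g_rc_27_3 lc_g_rc_21_3 lc_g_Cert_tree lc_g_rc_21_2 lc_g_rc_27_0 lc_g_rc_24_3 lc_g_rc_27_6 lc_g_Cert_tree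 lc_g_rc_27_6 lc_g_rc_21_2 lc_g_rc_21_3 lc_g_rc_27_3 lc_g_rc_21_2 lc_g_rc_27_3 lc_g_rc_21_3 lc_g_Cert_tree lc_g_rc_25_3 lc_g_rc_21_2 lc_g_rc_21_3 lc_g_rc_21_3 lc_g_Cert_tree lc_g_rc_23_1 lc_g_rc_27_9 lc_g_rc_21_3 lc_g_rc_27_3 lc_g_rc_21_3 lc_g_rc_23_1 lc_g_rc_21_2 lc_g_Cert_tree lc_g_rc_21_3 lc_g_rc_21_3 lc_g_rc_21_2 lc_g_Cert_tree lc_g_rc_26_9 lc_g_Cert_tree lc_g_rc_23_7 lc_g_rc_21_2) (@D3.rec (fun _ => (Cert rels S Gen.g)) lc_g_rc_24_3 lc_g_rc_24_7 lc_g_Cert_tree lc_g_rc_27_6 lc_g_rc_21_3 lc_g_rc_26_3 lc_g_rc_26_6 lc_g_rc_27_3 lc_g_rc_26_3 lc_g_Cert_tree lc_g_Cert_tree lc_g_rc_21_2 lc_g_rc_26_0 lc_g_rc_27_3 lc_g_rc_27_9 lc_g_Cert_tree lc_g_rc_21_2 lc_g_rc_24_7 lc_g_Cert_tree lc_g_rc_26_3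 lc_g_rc_27_9 lc_g_rc_21_3 lc_g_Cert_tree lc_g_rc_27_9 lc_g_rc_26_3 lc_g_rc_21_2 lc_g_rc_27_9 lc_g_Cert_tree lc_g_rc_26_0 lc_g_rc_23_9 lc_g_rc_26_0 lc_g_rc_23_3 lc_g_rc_21_3 lc_g_rc_21_2 lc_g_rc_21_2 lc_g_rc_27_0 lc_g_rc_27_3 lc_g_rc_27_9 lc_g_rc_21_2 lc_g_rc_23_3 lc_g_rc_21_2 lc_g_rc_26_0 lc_g_rc_27_6 lc_g_rc_21_3 lc_g_Cert_tree lc_g_rc_27_0 lc_g_rc_27_3 lc_g_rc_21_2 lc_g_rc_21_3 lc_g_Cert_tree lc_g_Cert_tree lc_g_rc_23_1 lc_g_Cert_tree lc_g_rc_27_6 lc_g_rc_27_9 lc_g_rc_23_1 lc_g_rc_21_2 lc_g_rc_21_3 lc_g_Cert_tree lc_g_Cert_tree lc_g_rc_27_3 lc_g_rc_27_3) (@D3.rec (fun _ => (Cert rels S Gen.g)) lc_g_rc_21_2 lc_g_rc_21_3 lc_g_Cert_tree lc_g_Cert_tree lc_g_Cert_tree lc_g_rc_27_6 lc_g_rc_21_2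 lc_g_rc_23_3 lc_g_Cert_tree lc_g_rc_21_3 lc_g_rc_26_6 lc_g_rc_21_2 lc_g_Cert_tree lc_g_rc_21_2 lc_g_rc_26_6 lc_g_rc_27_6 lc_g_rc_21_2 lc_g_rc_24_9 lc_g_rc_23_7 lc_g_Cert_tree lc_g_rc_21_3 lc_g_Cert_tree lc_g_rc_21_2 lc_g_rc_23_3 lc_g_rc_27_9 lc_g_Cert_tree lc_g_rc_27_6 lc_g_rc_26_9 lc_g_rc_21_2 lc_g_Cert_tree lc_g_rc_27_3 lc_g_rc_23_1 lc_g_rc_26_6 lc_g_rc_21_3 lc_g_rc_26_6 lc_g_rc_24_7 lc_g_rc_26_3 lc_g_rc_21_3 lc_g_Cert_tree lc_g_rc_21_3 lc_g_rc_23_3 lc_g_rc_26_6 lc_g_rc_21_2 lc_g_rc_21_3 lc_g_Cert_tree lc_g_rc_24_7 lc_g_rc_21_2 lc_g_rc_21_3 lc_g_rc_27_6 lc_g_rc_21_3 lc_g_Cert_tree lc_g_rc_27_0 lc_g_rc_26_9 lc_g_rc_21_3 lc_g_Cert_tree lc_g_rc_26_3 lc_g_rc_21_2 lc_g_rc_27_9 lc_g_rc_23_9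 lc_g_rc_21_3 lc_g_Cert_tree lc_g_Cert_tree) (@D3.rec (fun _ => (Cert rels S Gen.g)) lc_g_rc_27_6 lc_g_rc_21_2 lc_g_Cert_tree lc_g_Cert_tree lc_g_rc_27_3 lc_g_rc_27_9 lc_g_rc_21_3 lc_g_rc_21_3 lc_g_rc_26_3 lc_g_rc_26_0 lc_g_rc_27_9 lc_g_rc_24_1 lc_g_rc_21_2 lc_g_rc_21_3 lc_g_rc_21_3 lc_g_rc_24_3 lc_g_rc_21_3 lc_g_rc_21_2 lc_g_rc_23_1 lc_g_rc_26_6 lc_g_rc_21_2 lc_g_rc_21_3 lc_g_rc_21_2 lc_g_rc_21_2 lc_g_Cert_tree lc_g_rc_21_3 lc_g_Cert_tree lc_g_rc_24_3 lc_g_rc_26_6 lc_g_Cert_tree lc_g_rc_26_0 lc_g_rc_27_6 lc_g_rc_21_3 lc_g_Cert_tree lc_g_rc_21_2 lc_g_rc_21_2 lc_g_rc_21_2 lc_g_rc_21_3 lc_g_Cert_tree lc_g_Cert_tree lc_g_rc_26_6 lc_g_rc_21_3 lc_g_rc_21_2 lc_g_rc_24_3 lc_g_rc_21_3 lc_g_Cert_tree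 lc_g_rc_21_2 lc_g_rc_24_1 lc_g_rc_21_3 lc_g_Cert_tree lc_g_rc_26_6 lc_g_rc_21_2 lc_g_rc_21_3 lc_g_rc_27_3 lc_g_rc_27_6 lc_g_rc_21_3 lc_g_Cert_tree lc_g_rc_26_3 lc_g_rc_21_2 lc_g_rc_23_9 lc_g_rc_21_2 lc_g_rc_21_2) (@D3.rec (fun _ => (Cert rels S Gen.g)) lc_g_rc_27_3 lc_g_rc_26_6 lc_g_rc_26_6 lc_g_rc_21_3 lc_g_Cert_tree lc_g_rc_23_7 lc_g_rc_21_3 lc_g_rc_24_3 lc_g_rc_21_3 lc_g_Cert_tree lc_g_Cert_tree lc_g_rc_21_2 lc_g_rc_27_9 lc_g_rc_21_3 lc_g_rc_23_7 lc_g_rc_26_3 lc_g_rc_21_3 lc_g_Cert_tree lc_g_rc_21_2 lc_g_rc_21_2 lc_g_Cert_tree lc_g_rc_23_3 lc_g_Cert_tree lc_g_rc_21_3 lc_g_Cert_tree lc_g_rc_24_3 lc_g_rc_24_1 lc_g_rc_26_9 lc_g_rc_26_6 lc_g_Cert_tree lc_g_rc_21_3 lc_g_rc_26_6 lc_g_rc_21_3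 lc_g_rc_21_2 lc_g_rc_21_3 lc_g_rc_21_2 lc_g_rc_27_0 lc_g_rc_24_9 lc_g_rc_21_2 lc_g_rc_27_3 lc_g_Cert_tree lc_g_rc_27_3 lc_g_rc_21_2 lc_g_Cert_tree lc_g_Cert_tree lc_g_rc_27_6 lc_g_Cert_tree lc_g_rc_21_3 lc_g_Cert_tree lc_g_rc_27_3 lc_g_rc_21_2 lc_g_rc_26_3 lc_g_rc_21_2 lc_g_rc_21_2 lc_g_rc_21_3 lc_g_rc_21_3 lc_g_rc_21_2 lc_g_rc_21_3 lc_g_Cert_tree lc_g_rc_21_2 lc_g_rc_21_3 lc_g_rc_26_6) (@D3.rec (fun _ => (Cert rels S Gen.g)) lc_g_Cert_tree lc_g_rc_26_6 lc_g_rc_21_2 lc_g_Cert_tree lc_g_Cert_tree lc_g_rc_24_3 lc_g_Cert_tree lc_g_rc_21_3 lc_g_Cert_tree lc_g_rc_21_3 lc_g_rc_27_6 lc_g_Cert_tree lc_g_Cert_tree lc_g_Cert_tree lc_g_rc_27_9 lc_g_rc_21_2 lc_g_rc_27_9 lc_g_rc_21_2 lc_g_rc_24_3 lc_g_rc_27_0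 lc_g_rc_24_3 lc_g_rc_24_3 lc_g_rc_21_2 lc_g_rc_21_3 lc_g_rc_25_19 lc_g_rc_24_3 lc_g_rc_27_6 lc_g_rc_27_3 lc_g_rc_26_6 lc_g_Cert_tree lc_g_rc_26_9 lc_g_rc_27_0 lc_g_rc_24_3 lc_g_rc_26_6 lc_g_rc_21_2 lc_g_rc_26_0 lc_g_rc_27_6 lc_g_rc_24_3 lc_g_rc_24_1 lc_g_rc_23_1 lc_g_Cert_tree lc_g_rc_26_6 lc_g_rc_23_1 lc_g_rc_21_3 lc_g_Cert_tree lc_g_rc_21_2 lc_g_rc_21_2 lc_g_rc_21_2 lc_g_rc_27_0 lc_g_rc_21_3 lc_g_Cert_tree lc_g_rc_24_7 lc_g_Cert_tree lc_g_rc_24_3 lc_g_Cert_tree lc_g_Cert_tree lc_g_rc_26_9 lc_g_rc_21_3 lc_g_Cert_tree lc_g_rc_21_2 lc_g_rc_21_3 lc_g_Cert_tree) (@D3.rec (fun _ => (Cert rels S Gen.g)) lc_g_rc_21_3 lc_g_rc_23_3 lc_g_rc_21_3 lc_g_Cert_tree lc_g_rc_21_2 lc_g_rc_21_2 lc_g_rc_21_3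 lc_g_rc_23_1 lc_g_rc_26_6 lc_g_Cert_tree lc_g_rc_27_0 lc_g_rc_21_2 lc_g_rc_27_6 lc_g_rc_21_3 lc_g_rc_21_2 lc_g_rc_23_3 lc_g_rc_21_2 lc_g_rc_23_3 lc_g_rc_21_3 lc_g_Cert_tree lc_g_rc_21_2 lc_g_rc_21_2 lc_g_rc_24_9 lc_g_rc_24_9 lc_g_rc_27_9 lc_g_rc_21_3 lc_g_Cert_tree lc_g_rc_21_2 lc_g_rc_27_6 lc_g_rc_26_0 lc_g_rc_26_9 lc_g_Cert_tree lc_g_rc_21_2 lc_g_rc_21_2 lc_g_Cert_tree lc_g_rc_24_9 lc_g_rc_21_2 lc_g_rc_26_3 lc_g_rc_27_3 lc_g_rc_21_2 lc_g_rc_27_0 lc_g_rc_21_3 lc_g_Cert_tree lc_g_rc_26_3 lc_g_rc_26_6 lc_g_rc_26_9 lc_g_Cert_tree lc_g_rc_23_3 lc_g_Cert_tree lc_g_rc_26_9 lc_g_rc_27_6 lc_g_rc_26_6 lc_g_rc_21_2 lc_g_Cert_tree lc_g_rc_23_3 lc_g_rc_26_3 lc_g_rc_27_3 lc_g_Cert_tree lc_g_rc_27_6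 lc_g_Cert_tree lc_g_rc_24_7 lc_g_rc_27_0) (@D3.rec (fun _ => (Cert rels S Gen.g)) lc_g_rc_27_6 lc_g_rc_21_2 lc_g_rc_23_9 lc_g_rc_27_0 lc_g_rc_21_3 lc_g_rc_26_0 lc_g_Cert_tree lc_g_Cert_tree lc_g_rc_26_6 lc_g_rc_23_3 lc_g_rc_27_3 lc_g_rc_23_1 lc_g_rc_26_0 lc_g_rc_24_3 lc_g_rc_21_2 lc_g_rc_26_3 lc_g_rc_25_3 lc_g_rc_21_3 lc_g_Cert_tree lc_g_Cert_tree lc_g_rc_21_3 lc_g_rc_21_2 lc_g_rc_21_3 lc_g_rc_21_2 lc_g_Cert_tree lc_g_Cert_tree lc_g_rc_21_2 lc_g_rc_25_3 lc_g_Cert_tree lc_g_rc_26_3 lc_g_rc_21_3 lc_g_rc_26_0 lc_g_rc_23_7 lc_g_rc_21_3 lc_g_rc_26_0 lc_g_Cert_tree lc_g_rc_26_0 lc_g_rc_21_3 lc_g_Cert_tree lc_g_rc_21_3 lc_g_Cert_tree lc_g_rc_21_2 lc_g_rc_21_2 lc_g_rc_26_0 lc_g_rc_21_2 lc_g_rc_27_3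 lc_g_rc_21_2 lc_g_rc_21_2 lc_g_rc_27_9 lc_g_Cert_tree lc_g_rc_21_2 lc_g_rc_26_6 lc_g_Cert_tree lc_g_rc_27_6 lc_g_rc_21_3 lc_g_Cert_tree lc_g_rc_21_3 lc_g_Cert_tree lc_g_rc_21_2 lc_g_rc_21_3 lc_g_Cert_tree lc_g_rc_21_2) (@D3.rec (fun _ => (Cert rels S Gen.g)) lc_g_rc_24_7 lc_g_Cert_tree lc_g_rc_24_1 lc_g_rc_26_3 lc_g_rc_23_3 lc_g_Cert_tree lc_g_rc_27_3 lc_g_rc_21_3 lc_g_Cert_tree lc_g_Cert_tree lc_g_rc_21_3 lc_g_rc_21_3 lc_g_rc_23_7 lc_g_rc_23_9 lc_g_rc_21_2 lc_g_rc_21_3 lc_g_rc_27_3 lc_g_rc_26_3 lc_g_Cert_tree lc_g_rc_21_2 lc_g_Cert_tree lc_g_rc_26_6 lc_g_rc_26_3 lc_g_rc_26_3 lc_g_rc_21_2 lc_g_Cert_tree lc_g_rc_21_2 lc_g_rc_26_3 lc_g_rc_23_1 lc_g_Cert_tree lc_g_rc_21_2 lc_g_rc_21_3 lc_g_rc_26_6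 lc_g_rc_21_3 lc_g_Cert_tree lc_g_Cert_tree lc_g_rc_27_0 lc_g_rc_21_3 lc_g_Cert_tree lc_g_rc_25_11 lc_g_rc_27_6 lc_g_rc_24_1 lc_g_rc_26_3 lc_g_rc_24_1 lc_g_rc_27_0 lc_g_Cert_tree lc_g_rc_27_3 lc_g_rc_21_2 lc_g_Cert_tree lc_g_Cert_tree lc_g_rc_27_6 lc_g_Cert_tree lc_g_rc_23_1 lc_g_rc_24_3 lc_g_rc_21_3 lc_g_Cert_tree lc_g_rc_21_2 lc_g_rc_21_2 lc_g_rc_26_6 lc_g_rc_26_3 lc_g_rc_27_6 lc_g_Cert_tree) (@D3.rec (fun _ => (Cert rels S Gen.g)) lc_g_rc_23_9 lc_g_rc_27_6 lc_g_rc_23_9 lc_g_Cert_tree lc_g_rc_27_0 lc_g_Cert_tree lc_g_rc_21_2 lc_g_rc_26_0 lc_g_rc_26_6 lc_g_rc_23_1 lc_g_rc_27_6 lc_g_rc_23_9 lc_g_rc_21_3 lc_g_Cert_tree lc_g_rc_21_2 lc_g_rc_21_2 lc_g_rc_24_1 lc_g_rc_26_6 lc_g_rc_27_3 lc_g_rc_26_9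 lc_g_rc_21_2 lc_g_rc_21_3 lc_g_Cert_tree lc_g_rc_26_6 lc_g_rc_21_2 lc_g_rc_21_2 lc_g_rc_21_2 lc_g_rc_23_1 lc_g_rc_24_3 lc_g_rc_27_3 lc_g_rc_21_2 lc_g_Cert_tree lc_g_rc_21_2 lc_g_rc_26_3 lc_g_rc_21_3 lc_g_Cert_tree lc_g_rc_23_7 lc_g_rc_27_3 lc_g_rc_21_2 lc_g_Cert_tree lc_g_rc_24_7 lc_g_Cert_tree lc_g_rc_26_6 lc_g_rc_24_3 lc_g_rc_21_2 lc_g_rc_26_3 lc_g_rc_21_2 lc_g_rc_21_3 lc_g_Cert_tree lc_g_rc_27_3 lc_g_rc_23_1 lc_g_rc_27_6 lc_g_rc_24_3 lc_g_Cert_tree lc_g_rc_24_9 lc_g_rc_26_9 lc_g_rc_25_3 lc_g_rc_27_6 lc_g_rc_21_2 lc_g_rc_26_6 lc_g_Cert_tree lc_g_rc_21_2) (@D3.rec (fun _ => (Cert rels S Gen.g)) lc_g_rc_27_9 lc_g_rc_24_3 lc_g_rc_23_9 lc_g_rc_27_9 lc_g_rc_26_3 lc_g_rc_21_2 lc_g_rc_27_6 lc_g_rc_25_19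 lc_g_rc_26_6 lc_g_rc_26_3 lc_g_rc_27_3 lc_g_rc_26_6 lc_g_rc_21_2 lc_g_rc_21_3 lc_g_Cert_tree lc_g_rc_21_2 lc_g_rc_21_3 lc_g_rc_26_6 lc_g_Cert_tree lc_g_rc_26_3 lc_g_rc_27_9 lc_g_rc_27_0 lc_g_Cert_tree lc_g_Cert_tree lc_g_rc_27_9 lc_g_rc_27_3 lc_g_Cert_tree lc_g_Cert_tree lc_g_rc_26_6 lc_g_rc_24_7 lc_g_rc_21_2 lc_g_Cert_tree lc_g_rc_21_3 lc_g_Cert_tree lc_g_rc_21_2 lc_g_rc_23_3 lc_g_Cert_tree lc_g_rc_24_3 lc_g_Cert_tree lc_g_rc_26_6 lc_g_Cert_tree lc_g_rc_21_3 lc_g_Cert_tree lc_g_rc_21_2 lc_g_rc_23_9 lc_g_Cert_tree lc_g_rc_26_3 lc_g_rc_27_6 lc_g_rc_27_6 lc_g_Cert_tree lc_g_rc_21_2 lc_g_rc_24_3 lc_g_Cert_tree lc_g_rc_26_6 lc_g_rc_23_3 lc_g_Cert_tree lc_g_rc_21_2 lc_g_rc_21_2 lc_g_rc_27_6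 lc_g_Cert_tree lc_g_rc_27_3 lc_g_rc_21_3) (@D3.rec (fun _ => (Cert rels S Gen.g)) lc_g_Cert_tree lc_g_rc_21_2 lc_g_rc_26_6 lc_g_rc_26_3 lc_g_rc_26_0 lc_g_rc_21_2 lc_g_rc_21_3 lc_g_Cert_tree lc_g_rc_21_2 lc_g_Cert_tree lc_g_rc_21_3 lc_g_rc_26_0 lc_g_rc_21_2 lc_g_rc_21_3 lc_g_Cert_tree lc_g_rc_21_2 lc_g_rc_21_2 lc_g_rc_27_9 lc_g_rc_21_2 lc_g_rc_21_3 lc_g_Cert_tree lc_g_rc_24_3 lc_g_rc_23_1 lc_g_rc_21_2 lc_g_rc_21_2 lc_g_rc_21_3 lc_g_rc_21_2 lc_g_Cert_tree lc_g_rc_26_9 lc_g_rc_23_3 lc_g_rc_23_1 lc_g_rc_26_0 lc_g_rc_27_3 lc_g_rc_23_9 lc_g_rc_26_6 lc_g_rc_23_1 lc_g_Cert_tree lc_g_rc_21_3 lc_g_rc_21_2 lc_g_rc_21_3 lc_g_Cert_tree lc_g_rc_21_3 lc_g_rc_27_0 lc_g_rc_27_3 lc_g_rc_21_2 lc_g_rc_26_0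 lc_g_rc_27_9 lc_g_rc_26_0 lc_g_rc_26_9 lc_g_rc_21_3 lc_g_rc_27_0 lc_g_rc_26_6 lc_g_Cert_tree lc_g_rc_23_3 lc_g_rc_21_2 lc_g_rc_21_3 lc_g_rc_24_1 lc_g_Cert_tree lc_g_rc_23_3 lc_g_rc_24_3 lc_g_Cert_tree lc_g_Cert_tree) (@D3.rec (fun _ => (Cert rels S Gen.g)) lc_g_rc_21_2 lc_g_rc_21_2 lc_g_Cert_tree lc_g_rc_21_3 lc_g_rc_21_3 lc_g_Cert_tree lc_g_rc_27_6 lc_g_rc_21_2 lc_g_rc_21_2 lc_g_rc_24_3 lc_g_rc_21_3 lc_g_Cert_tree lc_g_rc_21_3 lc_g_Cert_tree lc_g_rc_23_1 lc_g_rc_24_1 lc_g_rc_21_2 lc_g_rc_27_6 lc_g_rc_24_3 lc_g_rc_21_2 lc_g_rc_23_1 lc_g_rc_23_1 lc_g_rc_23_1 lc_g_rc_27_3 lc_g_Cert_tree lc_g_Cert_tree lc_g_rc_21_3 lc_g_Cert_tree lc_g_rc_27_0 lc_g_rc_26_0 lc_g_rc_26_3 lc_g_rc_21_3 lc_g_Cert_tree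 lc_g_rc_21_2 lc_g_Cert_tree lc_g_rc_21_2 lc_g_rc_24_7 lc_g_Cert_tree lc_g_rc_24_3 lc_g_rc_21_2 lc_g_rc_27_6 lc_g_Cert_tree lc_g_rc_21_2 lc_g_Cert_tree lc_g_rc_21_2 lc_g_rc_26_0 lc_g_rc_27_6 lc_g_rc_21_3 lc_g_Cert_tree lc_g_Cert_tree lc_g_rc_21_3 lc_g_Cert_tree lc_g_rc_21_2 lc_g_rc_21_3 lc_g_Cert_tree lc_g_rc_27_6 lc_g_rc_21_2 lc_g_rc_26_0 lc_g_rc_23_1 lc_g_rc_21_3 lc_g_Cert_tree lc_g_rc_21_2) (@D3.rec (fun _ => (Cert rels S Gen.g)) lc_g_rc_24_3 lc_g_rc_23_7 lc_g_rc_26_9 lc_g_rc_23_7 lc_g_rc_26_6 lc_g_rc_27_9 lc_g_rc_27_6 lc_g_rc_24_1 lc_g_rc_21_2 lc_g_rc_26_3 lc_g_rc_27_6 lc_g_rc_21_3 lc_g_Cert_tree lc_g_rc_21_2 lc_g_rc_24_9 lc_g_rc_21_3 lc_g_rc_27_3 lc_g_rc_21_3 lc_g_Cert_tree lc_g_rc_27_3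 lc_g_rc_21_2 lc_g_Cert_tree lc_g_rc_27_3 lc_g_rc_27_6 lc_g_rc_27_0 lc_g_Cert_tree lc_g_rc_23_3 lc_g_rc_24_7 lc_g_rc_21_2 lc_g_rc_24_3 lc_g_rc_21_3 lc_g_Cert_tree lc_g_rc_26_6 lc_g_rc_26_3 lc_g_Cert_tree lc_g_rc_23_9 lc_g_rc_24_9 lc_g_rc_21_2 lc_g_rc_21_3 lc_g_rc_24_9 lc_g_rc_27_3 lc_g_rc_21_2 lc_g_rc_27_3 lc_g_rc_21_3 lc_g_rc_27_0 lc_g_rc_21_3 lc_g_rc_21_2 lc_g_rc_23_7 lc_g_rc_21_3 lc_g_rc_21_2 lc_g_rc_21_2 lc_g_Cert_tree lc_g_rc_25_3 lc_g_rc_21_3 lc_g_Cert_tree lc_g_rc_21_2 lc_g_rc_21_2 lc_g_rc_21_2 lc_g_rc_21_3 lc_g_Cert_tree lc_g_Cert_tree lc_g_rc_27_6) (@D3.rec (fun _ => (Cert rels S Gen.g)) lc_g_rc_25_15 lc_g_rc_27_6 lc_g_rc_27_6 lc_g_rc_26_6 lc_g_rc_23_7 lc_g_rc_26_3 lc_g_rc_21_2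 lc_g_rc_21_3 lc_g_Cert_tree lc_g_rc_21_2 lc_g_Cert_tree lc_g_rc_25_7 lc_g_rc_27_6 lc_g_rc_21_3 lc_g_Cert_tree lc_g_rc_21_2 lc_g_rc_26_6 lc_g_rc_24_7 lc_g_Cert_tree lc_g_rc_21_2 lc_g_rc_24_7 lc_g_rc_21_2 lc_g_rc_21_3 lc_g_Cert_tree lc_g_rc_24_3 lc_g_rc_21_3 lc_g_Cert_tree lc_g_rc_21_2 lc_g_rc_21_3 lc_g_rc_21_2 lc_g_rc_24_3 lc_g_rc_21_2 lc_g_rc_21_3 lc_g_Cert_tree lc_g_rc_21_2 lc_g_rc_21_2 lc_g_Cert_tree lc_g_Cert_tree lc_g_rc_27_6 lc_g_Cert_tree lc_g_rc_21_3 lc_g_rc_26_0 lc_g_rc_21_3 lc_g_Cert_tree lc_g_rc_21_2 lc_g_rc_26_6 lc_g_rc_27_0 lc_g_rc_24_1 lc_g_rc_24_9 lc_g_rc_26_6 lc_g_rc_24_3 lc_g_rc_23_9 lc_g_rc_23_1 lc_g_rc_26_3 lc_g_Cert_tree lc_g_Cert_tree lc_g_rc_21_2 lc_g_rc_27_9 lc_g_rc_21_2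 lc_g_rc_26_6 lc_g_Cert_tree lc_g_rc_24_1) (@D3.rec (fun _ => (Cert rels S Gen.g)) lc_g_rc_21_3 lc_g_rc_21_2 lc_g_rc_26_6 lc_g_rc_21_2 lc_g_rc_27_3 lc_g_rc_21_3 lc_g_Cert_tree lc_g_Cert_tree lc_g_rc_27_6 lc_g_rc_23_9 lc_g_rc_21_3 lc_g_Cert_tree lc_g_rc_21_2 lc_g_rc_21_2 lc_g_rc_26_9 lc_g_rc_27_9 lc_g_rc_21_3 lc_g_Cert_tree lc_g_Cert_tree lc_g_Cert_tree lc_g_rc_21_3 lc_g_rc_25_3 lc_g_rc_21_3 lc_g_Cert_tree lc_g_rc_21_2 lc_g_Cert_tree lc_g_rc_21_3 lc_g_rc_21_3 lc_g_rc_24_1 lc_g_rc_21_2 lc_g_rc_21_3 lc_g_Cert_tree lc_g_rc_26_3 lc_g_Cert_tree lc_g_rc_27_3 lc_g_rc_27_0 lc_g_rc_21_3 lc_g_Cert_tree lc_g_rc_21_2 lc_g_rc_25_11 lc_g_Cert_tree lc_g_Cert_tree lc_g_rc_21_3 lc_g_Cert_tree lc_g_rc_21_2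 lc_g_rc_21_2 lc_g_Cert_tree lc_g_rc_26_6 lc_g_rc_27_3 lc_g_rc_21_3 lc_g_rc_23_3 lc_g_rc_26_3 lc_g_Cert_tree lc_g_rc_21_3 lc_g_Cert_tree lc_g_rc_21_2 lc_g_Cert_tree lc_g_rc_26_0 lc_g_rc_26_0 lc_g_rc_21_3 lc_g_Cert_tree lc_g_rc_21_2) (@D3.rec (fun _ => (Cert rels S Gen.g)) lc_g_rc_26_6 lc_g_Cert_tree lc_g_rc_26_6 lc_g_rc_21_2 lc_g_rc_21_2 lc_g_rc_21_3 lc_g_rc_27_0 lc_g_rc_25_19 lc_g_rc_24_9 lc_g_rc_21_3 lc_g_rc_21_2 lc_g_Cert_tree lc_g_rc_23_9 lc_g_rc_21_3 lc_g_Cert_tree lc_g_rc_21_2 lc_g_rc_21_3 lc_g_Cert_tree lc_g_rc_21_2 lc_g_Cert_tree lc_g_rc_21_2 lc_g_rc_21_3 lc_g_Cert_tree lc_g_rc_24_9 lc_g_rc_21_3 lc_g_rc_27_6 lc_g_rc_21_2 lc_g_Cert_tree lc_g_rc_23_3 lc_g_rc_21_3 lc_g_Cert_tree lc_g_rc_21_2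 lc_g_rc_27_0 lc_g_rc_27_6 lc_g_rc_27_6 lc_g_Cert_tree lc_g_Cert_tree lc_g_rc_21_2 lc_g_rc_21_3 lc_g_Cert_tree lc_g_rc_21_2 lc_g_rc_26_0 lc_g_rc_21_2 lc_g_Cert_tree lc_g_rc_21_2 lc_g_rc_23_9 lc_g_Cert_tree lc_g_rc_21_2 lc_g_rc_27_6 lc_g_rc_27_3 lc_g_rc_21_3 lc_g_Cert_tree lc_g_rc_21_2 lc_g_rc_26_9 lc_g_rc_27_9 lc_g_rc_27_6 lc_g_rc_26_0 lc_g_rc_23_7 lc_g_rc_21_2 lc_g_rc_21_2 lc_g_rc_21_3 lc_g_Cert_tree) (@D3.rec (fun _ => (Cert rels S Gen.g)) lc_g_rc_21_2 lc_g_rc_21_3 lc_g_Cert_tree lc_g_rc_21_2 lc_g_rc_21_3 lc_g_Cert_tree lc_g_rc_26_6 lc_g_rc_21_3 lc_g_rc_27_9 lc_g_rc_26_0 lc_g_rc_23_7 lc_g_rc_27_6 lc_g_rc_26_0 lc_g_Cert_tree lc_g_rc_23_1 lc_g_Cert_tree lc_g_rc_21_2 lc_g_rc_26_0 lc_g_rc_21_2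 lc_g_rc_21_3 lc_g_Cert_tree lc_g_rc_24_3 lc_g_rc_27_6 lc_g_rc_25_11 lc_g_rc_21_3 lc_g_Cert_tree lc_g_rc_21_2 lc_g_Cert_tree lc_g_rc_24_7 lc_g_rc_27_3 lc_g_rc_23_9 lc_g_rc_24_3 lc_g_rc_21_2 lc_g_rc_21_3 lc_g_rc_26_6 lc_g_rc_27_3 lc_g_rc_27_3 lc_g_rc_26_9 lc_g_rc_21_3 lc_g_Cert_tree lc_g_Cert_tree lc_g_rc_26_0 lc_g_rc_27_0 lc_g_rc_21_3 lc_g_Cert_tree lc_g_rc_21_2 lc_g_rc_23_3 lc_g_rc_27_6 lc_g_rc_21_2 lc_g_rc_27_6 lc_g_rc_25_3 lc_g_rc_27_6 lc_g_rc_21_3 lc_g_Cert_tree lc_g_rc_21_2 lc_g_rc_21_3 lc_g_rc_26_9 lc_g_Cert_tree lc_g_rc_27_0 lc_g_rc_24_1 lc_g_rc_26_6 lc_g_rc_26_0) (@D3.rec (fun _ => (Cert rels S Gen.g)) lc_g_rc_21_2 lc_g_rc_27_6 lc_g_rc_27_6 lc_g_rc_23_3 lc_g_rc_21_2 lc_g_rc_26_6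 lc_g_Cert_tree lc_g_rc_26_6 lc_g_rc_27_9 lc_g_rc_27_6 lc_g_Cert_tree lc_g_rc_24_7 lc_g_rc_27_6 lc_g_Cert_tree lc_g_rc_21_2 lc_g_Cert_tree lc_g_rc_26_9 lc_g_rc_26_3 lc_g_rc_21_3 lc_g_rc_26_9 lc_g_rc_21_2 lc_g_rc_21_3 lc_g_Cert_tree lc_g_rc_24_7 lc_g_rc_21_2 lc_g_rc_26_3 lc_g_rc_24_1 lc_g_rc_26_0 lc_g_rc_27_9 lc_g_rc_23_3 lc_g_rc_27_0 lc_g_rc_21_3 lc_g_rc_27_0 lc_g_rc_21_2 lc_g_rc_23_1 lc_g_rc_24_1 lc_g_rc_21_3 lc_g_rc_27_3 lc_g_rc_26_3 lc_g_Cert_tree lc_g_rc_21_3 lc_g_rc_27_3 lc_g_rc_26_3 lc_g_rc_27_3 lc_g_rc_26_3 lc_g_rc_21_2 lc_g_rc_21_3 lc_g_rc_21_2 lc_g_rc_21_2 lc_g_Cert_tree lc_g_rc_27_0 lc_g_rc_27_6 lc_g_rc_21_3 lc_g_Cert_tree lc_g_rc_21_2 lc_g_rc_24_1 lc_g_rc_21_2 lc_g_rc_21_3 lc_g_Cert_tree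 lc_g_Cert_tree lc_g_rc_27_6 lc_g_rc_25_3) (@D3.rec (fun _ => (Cert rels S Gen.g)) lc_g_rc_26_9 lc_g_rc_21_3 lc_g_rc_21_2 lc_g_rc_27_6 lc_g_rc_21_3 lc_g_Cert_tree lc_g_rc_21_2 lc_g_rc_21_2 lc_g_rc_26_3 lc_g_rc_24_9 lc_g_rc_21_2 lc_g_rc_27_6 lc_g_rc_21_3 lc_g_Cert_tree lc_g_rc_21_2 lc_g_rc_21_3 lc_g_rc_23_3 lc_g_rc_26_0 lc_g_rc_27_9 lc_g_Cert_tree lc_g_rc_21_3 lc_g_Cert_tree lc_g_Cert_tree lc_g_rc_21_3 lc_g_rc_21_2 lc_g_rc_26_0 lc_g_rc_27_6 lc_g_rc_21_3 lc_g_Cert_tree lc_g_rc_21_2 lc_g_rc_21_3 lc_g_Cert_tree lc_g_rc_21_2 lc_g_rc_21_3 lc_g_rc_24_3 lc_g_rc_21_3 lc_g_rc_21_3 lc_g_Cert_tree lc_g_Cert_tree lc_g_rc_26_0 lc_g_rc_26_6 lc_g_rc_23_3 lc_g_rc_21_3 lc_g_Cert_tree lc_g_rc_21_2 lc_g_rc_26_0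 lc_g_rc_21_2 lc_g_rc_21_3 lc_g_Cert_tree lc_g_rc_24_7 lc_g_rc_27_6 lc_g_rc_21_3 lc_g_Cert_tree lc_g_rc_21_2 lc_g_rc_23_1 lc_g_rc_26_3 lc_g_rc_21_2 lc_g_rc_23_9 lc_g_rc_26_3 lc_g_rc_27_6 lc_g_rc_21_3 lc_g_Cert_tree) (@D3.rec (fun _ => (Cert rels S Gen.g)) lc_g_rc_21_2 lc_g_Cert_tree lc_g_rc_23_7 lc_g_rc_26_0 lc_g_rc_23_7 lc_g_rc_26_6 lc_g_rc_23_7 lc_g_rc_26_9 lc_g_rc_23_1 lc_g_rc_24_1 lc_g_rc_21_3 lc_g_rc_26_0 lc_g_rc_24_3 lc_g_rc_27_6 lc_g_rc_21_2 lc_g_rc_27_3 lc_g_rc_24_1 lc_g_rc_26_9 lc_g_rc_25_19 lc_g_rc_21_3 lc_g_Cert_tree lc_g_rc_21_3 lc_g_Cert_tree lc_g_rc_21_3 lc_g_Cert_tree lc_g_rc_27_6 lc_g_Cert_tree lc_g_rc_21_3 lc_g_rc_27_0 lc_g_rc_26_6 lc_g_rc_27_9 lc_g_rc_24_3 lc_g_rc_21_2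 lc_g_rc_26_0 lc_g_rc_27_9 lc_g_rc_23_3 lc_g_rc_26_3 lc_g_rc_23_3 lc_g_rc_26_6 lc_g_rc_24_7 lc_g_rc_21_3 lc_g_rc_27_3 lc_g_rc_27_3 lc_g_rc_21_3 lc_g_rc_26_9 lc_g_rc_21_2 lc_g_rc_24_3 lc_g_Cert_tree lc_g_rc_21_2 lc_g_Cert_tree lc_g_rc_21_2 lc_g_rc_26_3 lc_g_rc_27_6 lc_g_rc_21_3 lc_g_rc_24_1 lc_g_rc_24_1 lc_g_rc_21_2 lc_g_rc_21_2 lc_g_rc_21_3 lc_g_Cert_tree lc_g_rc_21_3 lc_g_rc_21_3) (@D3.rec (fun _ => (Cert rels S Gen.g)) lc_g_rc_21_3 lc_g_Cert_tree lc_g_Cert_tree lc_g_rc_26_3 lc_g_rc_26_6 lc_g_rc_26_3 lc_g_rc_21_3 lc_g_rc_21_2 lc_g_rc_21_2 lc_g_rc_26_3 lc_g_rc_27_6 lc_g_rc_27_9 lc_g_rc_27_0 lc_g_Cert_tree lc_g_rc_21_2 lc_g_rc_24_7 lc_g_rc_21_2 lc_g_Cert_tree lc_g_rc_24_7 lc_g_rc_23_3 lc_g_Cert_tree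 lc_g_rc_27_6 lc_g_rc_23_3 lc_g_rc_24_3 lc_g_rc_21_3 lc_g_Cert_tree lc_g_rc_27_6 lc_g_rc_23_3 lc_g_rc_23_3 lc_g_rc_21_2 lc_g_rc_21_3 lc_g_Cert_tree lc_g_rc_21_2 lc_g_rc_21_2 lc_g_rc_27_6 lc_g_Cert_tree lc_g_rc_21_2 lc_g_rc_27_3 lc_g_rc_21_2 lc_g_rc_26_3 lc_g_rc_21_3 lc_g_Cert_tree lc_g_rc_21_2 lc_g_rc_24_1 lc_g_rc_21_2 lc_g_rc_21_2 lc_g_rc_23_7 lc_g_rc_23_7 lc_g_Cert_tree lc_g_rc_21_3 lc_g_rc_21_3 lc_g_rc_21_3 lc_g_Cert_tree lc_g_rc_21_2 lc_g_rc_27_3 lc_g_rc_24_7 lc_g_Cert_tree lc_g_rc_24_1 lc_g_Cert_tree lc_g_rc_26_9 lc_g_rc_21_3 lc_g_rc_26_9) (@D3.rec (fun _ => (Cert rels S Gen.g)) lc_g_rc_21_3 lc_g_Cert_tree lc_g_rc_21_2 lc_g_rc_27_3 lc_g_rc_24_7 lc_g_rc_21_3 lc_g_rc_21_2 lc_g_rc_21_2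 lc_g_rc_26_3 lc_g_rc_26_6 lc_g_rc_23_3 lc_g_rc_23_3 lc_g_rc_21_2 lc_g_rc_21_2 lc_g_rc_26_9 lc_g_rc_21_3 lc_g_rc_24_7 lc_g_rc_21_3 lc_g_rc_27_6 lc_g_rc_27_3 lc_g_rc_24_7 lc_g_rc_27_6 lc_g_rc_27_3 lc_g_Cert_tree lc_g_rc_25_3 lc_g_rc_23_3 lc_g_rc_26_3 lc_g_rc_23_3 lc_g_rc_27_6 lc_g_rc_26_0 lc_g_rc_27_6 lc_g_rc_26_6 lc_g_Cert_tree lc_g_rc_27_6 lc_g_Cert_tree lc_g_rc_21_2 lc_g_rc_21_2 lc_g_rc_21_2 lc_g_Cert_tree lc_g_rc_23_7 lc_g_rc_24_1 lc_g_Cert_tree lc_g_Cert_tree lc_g_rc_21_3 lc_g_rc_25_3 lc_g_rc_24_3 lc_g_rc_27_6 lc_g_rc_26_3 lc_g_rc_21_2 lc_g_rc_26_3 lc_g_rc_21_3 lc_g_rc_27_9 lc_g_rc_27_3 lc_g_rc_21_3 lc_g_Cert_tree lc_g_rc_26_3 lc_g_rc_23_3 lc_g_rc_21_3 lc_g_rc_26_0 lc_g_rc_26_0 lc_g_rc_27_3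 lc_g_Cert_tree) (@D3.rec (fun _ => (Cert rels S Gen.g)) lc_g_rc_21_2 lc_g_rc_23_1 lc_g_rc_24_3 lc_g_rc_21_3 lc_g_Cert_tree lc_g_rc_21_2 lc_g_rc_21_3 lc_g_Cert_tree lc_g_rc_21_2 lc_g_rc_27_9 lc_g_rc_27_9 lc_g_rc_24_3 lc_g_rc_21_2 lc_g_rc_24_3 lc_g_Cert_tree lc_g_rc_24_3 lc_g_rc_21_2 lc_g_rc_21_2 lc_g_rc_21_2 lc_g_rc_24_3 lc_g_rc_23_1 lc_g_rc_26_3 lc_g_rc_27_0 lc_g_rc_24_3 lc_g_Cert_tree lc_g_rc_26_6 lc_g_rc_23_1 lc_g_rc_26_3 lc_g_rc_21_3 lc_g_Cert_tree lc_g_rc_27_0 lc_g_rc_21_2 lc_g_rc_26_3 lc_g_rc_23_1 lc_g_Cert_tree lc_g_rc_26_6 lc_g_rc_26_3 lc_g_rc_21_2 lc_g_rc_21_2 lc_g_Cert_tree lc_g_rc_26_6 lc_g_rc_23_7 lc_g_rc_21_2 lc_g_rc_21_3 lc_g_Cert_tree lc_g_rc_21_2 lc_g_rc_26_6 lc_g_rc_24_3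 lc_g_Cert_tree lc_g_rc_21_3 lc_g_Cert_tree lc_g_rc_21_2 lc_g_rc_21_2 lc_g_rc_24_1 lc_g_rc_27_6 lc_g_rc_24_1 lc_g_rc_21_3 lc_g_rc_21_2 lc_g_rc_21_2 lc_g_rc_21_2 lc_g_rc_27_6 lc_g_rc_21_2) (@D3.rec (fun _ => (Cert rels S Gen.g)) lc_g_Cert_tree lc_g_Cert_tree lc_g_Cert_tree lc_g_Cert_tree lc_g_rc_24_7 lc_g_rc_23_7 lc_g_rc_24_3 lc_g_rc_27_6 lc_g_rc_21_3 lc_g_Cert_tree lc_g_rc_26_3 lc_g_Cert_tree lc_g_rc_21_2 lc_g_rc_27_9 lc_g_Cert_tree lc_g_rc_26_3 lc_g_rc_21_2 lc_g_rc_26_3 lc_g_rc_24_3 lc_g_rc_26_3 lc_g_rc_23_7 lc_g_rc_27_6 lc_g_Cert_tree lc_g_rc_26_6 lc_g_rc_24_9 lc_g_rc_21_3 lc_g_rc_25_3 lc_g_rc_26_6 lc_g_Cert_tree lc_g_rc_27_0 lc_g_rc_23_9 lc_g_rc_23_9 lc_g_rc_27_6 lc_g_rc_21_3 lc_g_Cert_tree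 lc_g_Cert_tree lc_g_rc_21_2 lc_g_rc_24_3 lc_g_rc_26_9 lc_g_rc_27_9 lc_g_rc_26_9 lc_g_rc_27_0 lc_g_rc_27_0 lc_g_rc_21_3 lc_g_Cert_tree lc_g_Cert_tree lc_g_rc_21_2 lc_g_rc_25_19 lc_g_rc_26_6 lc_g_rc_27_0 lc_g_rc_21_2 lc_g_Cert_tree lc_g_rc_23_9 lc_g_rc_26_6 lc_g_rc_26_0 lc_g_rc_25_3 lc_g_rc_21_3 lc_g_Cert_tree lc_g_rc_23_3 lc_g_Cert_tree lc_g_rc_24_1 lc_g_rc_21_2) (@D3.rec (fun _ => (Cert rels S Gen.g)) lc_g_rc_26_3 lc_g_rc_21_3 lc_g_rc_27_6 lc_g_rc_27_6 lc_g_rc_24_3 lc_g_rc_21_2 lc_g_Cert_tree lc_g_rc_26_3 lc_g_Cert_tree lc_g_rc_27_0 lc_g_Cert_tree lc_g_Cert_tree lc_g_rc_21_3 lc_g_rc_21_3 lc_g_Cert_tree lc_g_rc_21_2 lc_g_rc_21_3 lc_g_Cert_tree lc_g_rc_21_3 lc_g_Cert_tree lc_g_rc_21_2 lc_g_rc_21_3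 lc_g_rc_23_9 lc_g_rc_23_7 lc_g_rc_21_3 lc_g_rc_23_7 lc_g_Cert_tree lc_g_rc_23_9 lc_g_rc_27_9 lc_g_rc_21_3 lc_g_rc_21_3 lc_g_Cert_tree lc_g_rc_21_2 lc_g_rc_21_2 lc_g_rc_21_2 lc_g_rc_24_3 lc_g_rc_21_3 lc_g_Cert_tree lc_g_rc_27_3 lc_g_rc_27_6 lc_g_rc_24_3 lc_g_rc_26_3 lc_g_rc_23_7 lc_g_rc_27_9 lc_g_rc_21_3 lc_g_rc_24_9 lc_g_Cert_tree lc_g_Cert_tree lc_g_rc_21_3 lc_g_rc_24_1 lc_g_rc_21_3 lc_g_rc_21_3 lc_g_rc_27_6 lc_g_rc_26_6 lc_g_rc_23_7 lc_g_rc_26_6 lc_g_rc_21_3 lc_g_Cert_tree lc_g_rc_25_7 lc_g_rc_21_2 lc_g_rc_21_3 lc_g_rc_26_3) (@D3.rec (fun _ => (Cert rels S Gen.g)) lc_g_rc_21_3 lc_g_rc_27_6 lc_g_rc_21_3 lc_g_Cert_tree lc_g_rc_21_2 lc_g_rc_21_3 lc_g_Cert_tree lc_g_Cert_tree lc_g_rc_23_1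 lc_g_rc_24_7 lc_g_rc_27_3 lc_g_rc_27_9 lc_g_rc_27_3 lc_g_rc_23_3 lc_g_rc_26_3 lc_g_rc_23_7 lc_g_rc_21_2 lc_g_rc_21_3 lc_g_Cert_tree lc_g_Cert_tree lc_g_rc_26_9 lc_g_rc_26_0 lc_g_rc_21_3 lc_g_rc_21_2 lc_g_rc_21_2 lc_g_rc_25_19 lc_g_rc_21_2 lc_g_rc_21_3 lc_g_Cert_tree lc_g_rc_21_2 lc_g_rc_26_0 lc_g_rc_23_3 lc_g_rc_21_2 lc_g_rc_21_2 lc_g_rc_26_3 lc_g_rc_25_19 lc_g_rc_27_3 lc_g_rc_24_7 lc_g_rc_21_2 lc_g_rc_24_3 lc_g_rc_21_3 lc_g_Cert_tree lc_g_rc_27_6 lc_g_Cert_tree lc_g_rc_23_1 lc_g_rc_21_3 lc_g_Cert_tree lc_g_rc_21_2 lc_g_Cert_tree lc_g_rc_24_7 lc_g_rc_27_6 lc_g_rc_27_0 lc_g_Cert_tree lc_g_rc_21_2 lc_g_rc_27_3 lc_g_rc_26_3 lc_g_Cert_tree lc_g_rc_21_2 lc_g_rc_21_3 lc_g_rc_21_2 lc_g_rc_26_6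 lc_g_rc_23_3) (@D3.rec (fun _ => (Cert rels S Gen.g)) lc_g_rc_26_9 lc_g_rc_26_6 lc_g_rc_27_6 lc_g_rc_27_9 lc_g_rc_21_3 lc_g_rc_26_9 lc_g_rc_27_3 lc_g_Cert_tree lc_g_rc_21_3 lc_g_Cert_tree lc_g_rc_26_3 lc_g_rc_21_2 lc_g_Cert_tree lc_g_rc_21_3 lc_g_rc_21_2 lc_g_rc_26_0 lc_g_rc_21_3 lc_g_rc_23_3 lc_g_rc_21_3 lc_g_Cert_tree lc_g_rc_26_6 lc_g_rc_21_3 lc_g_rc_21_2 lc_g_rc_21_3 lc_g_Cert_tree lc_g_rc_26_3 lc_g_Cert_tree lc_g_Cert_tree lc_g_rc_26_9 lc_g_rc_21_3 lc_g_Cert_tree lc_g_rc_21_2 lc_g_Cert_tree lc_g_rc_27_0 lc_g_rc_26_0 lc_g_rc_27_3 lc_g_rc_21_2 lc_g_rc_27_9 lc_g_rc_21_2 lc_g_rc_21_3 lc_g_rc_21_3 lc_g_rc_27_6 lc_g_rc_26_3 lc_g_rc_21_3 lc_g_Cert_tree lc_g_rc_25_7 lc_g_rc_23_7 lc_g_rc_21_3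 lc_g_rc_24_1 lc_g_rc_21_3 lc_g_rc_24_3 lc_g_rc_26_3 lc_g_rc_21_2 lc_g_rc_21_2 lc_g_rc_26_9 lc_g_rc_21_3 lc_g_Cert_tree lc_g_rc_21_3 lc_g_rc_23_1 lc_g_rc_26_6 lc_g_Cert_tree lc_g_rc_27_6) (@D3.rec (fun _ => (Cert rels S Gen.g)) lc_g_rc_21_3 lc_g_Cert_tree lc_g_rc_21_2 lc_g_rc_21_3 lc_g_rc_21_2 lc_g_rc_26_9 lc_g_rc_23_3 lc_g_rc_26_6 lc_g_rc_27_9 lc_g_rc_21_2 lc_g_rc_21_3 lc_g_Cert_tree lc_g_rc_21_3 lc_g_rc_21_3 lc_g_rc_21_2 lc_g_rc_21_3 lc_g_rc_26_3 lc_g_rc_27_6 lc_g_rc_27_0 lc_g_Cert_tree lc_g_rc_21_2 lc_g_rc_27_6 lc_g_Cert_tree lc_g_Cert_tree lc_g_rc_23_1 lc_g_Cert_tree lc_g_rc_21_2 lc_g_rc_21_2 lc_g_rc_27_9 lc_g_rc_21_3 lc_g_rc_26_6 lc_g_rc_24_7 lc_g_rc_21_3 lc_g_rc_27_0 lc_g_rc_21_2 lc_g_rc_21_3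 lc_g_Cert_tree lc_g_rc_21_2 lc_g_rc_27_3 lc_g_rc_24_3 lc_g_rc_21_2 lc_g_rc_21_2 lc_g_rc_23_3 lc_g_rc_21_2 lc_g_rc_21_3 lc_g_Cert_tree lc_g_rc_24_9 lc_g_rc_27_6 lc_g_Cert_tree lc_g_rc_23_3 lc_g_rc_21_2 lc_g_rc_21_3 lc_g_rc_23_7 lc_g_rc_21_2 lc_g_rc_25_15 lc_g_rc_21_3 lc_g_rc_23_9 lc_g_rc_24_1 lc_g_rc_21_2 lc_g_rc_21_3 lc_g_Cert_tree lc_g_Cert_tree) (@D3.rec (fun _ => (Cert rels S Gen.g)) lc_g_rc_21_3 lc_g_Cert_tree lc_g_rc_27_6 lc_g_Cert_tree lc_g_Cert_tree lc_g_Cert_tree lc_g_rc_26_9 lc_g_Cert_tree lc_g_rc_26_0 lc_g_rc_27_9 lc_g_rc_27_0 lc_g_rc_21_3 lc_g_Cert_tree lc_g_rc_27_6 lc_g_rc_21_2 lc_g_Cert_tree lc_g_rc_21_2 lc_g_rc_27_0 lc_g_rc_26_0 lc_g_rc_26_6 lc_g_rc_21_2 lc_g_rc_26_0 lc_g_rc_27_3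 lc_g_rc_21_3 lc_g_rc_27_6 lc_g_rc_27_6 lc_g_rc_21_2 lc_g_Cert_tree lc_g_rc_26_6 lc_g_rc_23_1 lc_g_rc_27_0 lc_g_rc_27_9 lc_g_rc_27_3 lc_g_rc_27_3 lc_g_rc_21_3 lc_g_Cert_tree lc_g_rc_23_7 lc_g_rc_21_3 lc_g_Cert_tree lc_g_rc_23_7 lc_g_rc_26_6 lc_g_rc_26_9 lc_g_rc_21_3 lc_g_Cert_tree lc_g_rc_26_3 lc_g_rc_26_0 lc_g_rc_27_9 lc_g_rc_21_2 lc_g_rc_21_2 lc_g_rc_21_3 lc_g_Cert_tree lc_g_rc_27_6 lc_g_rc_21_2 lc_g_rc_25_3 lc_g_rc_27_3 lc_g_rc_26_0 lc_g_rc_24_3 lc_g_rc_27_3 lc_g_rc_21_2 lc_g_rc_26_0 lc_g_rc_21_2 lc_g_rc_26_9) (@D3.rec (fun _ => (Cert rels S Gen.g)) lc_g_rc_24_3 lc_g_rc_24_1 lc_g_rc_21_2 lc_g_rc_27_6 lc_g_Cert_tree lc_g_rc_27_3 lc_g_rc_21_2 lc_g_rc_24_1 lc_g_rc_26_9 lc_g_rc_27_3 lc_g_rc_23_3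 lc_g_rc_27_6 lc_g_rc_21_3 lc_g_rc_26_6 lc_g_Cert_tree lc_g_rc_27_3 lc_g_rc_26_3 lc_g_rc_26_0 lc_g_rc_21_2 lc_g_rc_24_3 lc_g_rc_27_6 lc_g_rc_26_6 lc_g_rc_21_2 lc_g_rc_21_2 lc_g_rc_21_3 lc_g_Cert_tree lc_g_rc_24_7 lc_g_rc_21_2 lc_g_rc_26_6 lc_g_rc_27_9 lc_g_Cert_tree lc_g_rc_26_3 lc_g_rc_25_3 lc_g_rc_27_9 lc_g_rc_26_6 lc_g_rc_23_3 lc_g_rc_27_6 lc_g_Cert_tree lc_g_rc_21_3 lc_g_Cert_tree lc_g_rc_21_2 lc_g_rc_26_6 lc_g_rc_27_6 lc_g_rc_21_3 lc_g_Cert_tree lc_g_rc_21_2 lc_g_rc_23_1 lc_g_Cert_tree lc_g_rc_25_19 lc_g_rc_27_6 lc_g_Cert_tree lc_g_rc_23_3 lc_g_rc_23_7 lc_g_rc_27_6 lc_g_rc_23_7 lc_g_rc_21_2 lc_g_rc_21_3 lc_g_Cert_tree lc_g_rc_24_3 lc_g_rc_26_6 lc_g_rc_24_1 lc_g_rc_27_9)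
def ce_g_23 : D2 → D3 → (Cert rels S Gen.g) := @D2.rec (fun _ => D3 → (Cert rels S Gen.g)) (@D3.rec (fun _ => (Cert rels S Gen.g)) lc_g_rc_26_6 lc_g_rc_24_9 lc_g_rc_23_1 lc_g_rc_21_3 lc_g_rc_24_1 lc_g_rc_26_3 lc_g_rc_21_3 lc_g_Cert_tree lc_g_rc_27_3 lc_g_rc_23_9 lc_g_rc_24_1 lc_g_rc_27_9 lc_g_rc_26_0 lc_g_rc_21_3 lc_g_Cert_tree lc_g_rc_27_6 lc_g_rc_27_3 lc_g_rc_26_0 lc_g_rc_24_1 lc_g_rc_26_6 lc_g_Cert_tree lc_g_rc_24_1 lc_g_rc_26_6 lc_g_rc_21_3 lc_g_rc_24_9 lc_g_rc_27_0 lc_g_Cert_tree lc_g_Cert_tree lc_g_rc_27_0 lc_g_Cert_tree lc_g_rc_24_1 lc_g_Cert_tree lc_g_rc_23_1 lc_g_rc_25_19 lc_g_Cert_tree lc_g_rc_23_9 lc_g_rc_24_7 lc_g_rc_21_3 lc_g_rc_21_2 lc_g_rc_27_0 lc_g_rc_27_3 lc_g_rc_26_0 lc_g_rc_26_3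 lc_g_rc_21_3 lc_g_rc_23_9 lc_g_rc_23_3 lc_g_rc_21_3 lc_g_rc_24_3 lc_g_rc_21_2 lc_g_rc_21_2 lc_g_rc_27_3 lc_g_rc_26_3 lc_g_Cert_tree lc_g_rc_21_2 lc_g_rc_26_6 lc_g_rc_26_6 lc_g_rc_26_9 lc_g_rc_26_3 lc_g_rc_27_9 lc_g_rc_27_6 lc_g_rc_27_6 lc_g_rc_23_1) (@D3.rec (fun _ => (Cert rels S Gen.g)) lc_g_rc_23_9 lc_g_rc_21_3 lc_g_rc_27_0 lc_g_rc_27_9 lc_g_rc_24_3 lc_g_rc_21_3 lc_g_Cert_tree lc_g_rc_21_2 lc_g_rc_27_6 lc_g_Cert_tree lc_g_rc_21_2 lc_g_rc_24_7 lc_g_rc_21_3 lc_g_rc_21_2 lc_g_rc_27_6 lc_g_rc_27_3 lc_g_rc_27_6 lc_g_rc_26_0 lc_g_Cert_tree lc_g_rc_21_3 lc_g_rc_23_9 lc_g_rc_27_6 lc_g_rc_27_6 lc_g_Cert_tree lc_g_rc_21_2 lc_g_rc_21_2 lc_g_rc_21_3 lc_g_Cert_tree lc_g_rc_23_3 lc_g_rc_26_6 lc_g_rc_23_1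 lc_g_rc_21_2 lc_g_rc_21_3 lc_g_rc_21_2 lc_g_rc_21_3 lc_g_rc_21_2 lc_g_rc_21_3 lc_g_Cert_tree lc_g_Cert_tree lc_g_rc_21_2 lc_g_rc_21_2 lc_g_rc_23_7 lc_g_rc_21_3 lc_g_rc_24_1 lc_g_rc_21_2 lc_g_rc_21_2 lc_g_rc_21_2 lc_g_rc_26_0 lc_g_rc_23_3 lc_g_rc_21_3 lc_g_rc_21_2 lc_g_rc_21_3 lc_g_Cert_tree lc_g_rc_21_2 lc_g_rc_26_6 lc_g_rc_26_3 lc_g_rc_21_2 lc_g_rc_21_3 lc_g_Cert_tree lc_g_rc_21_2 lc_g_rc_23_7 lc_g_rc_21_3) (@D3.rec (fun _ => (Cert rels S Gen.g)) lc_g_Cert_tree lc_g_rc_21_2 lc_g_Cert_tree lc_g_rc_21_2 lc_g_rc_21_3 lc_g_Cert_tree lc_g_rc_21_2 lc_g_Cert_tree lc_g_rc_23_9 lc_g_Cert_tree lc_g_rc_21_3 lc_g_rc_24_1 lc_g_rc_23_1 lc_g_rc_27_9 lc_g_rc_27_6 lc_g_rc_24_7 lc_g_rc_27_3 lc_g_rc_24_1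 lc_g_rc_26_3 lc_g_Cert_tree lc_g_rc_21_2 lc_g_Cert_tree lc_g_rc_21_2 lc_g_rc_24_3 lc_g_Cert_tree lc_g_rc_27_6 lc_g_Cert_tree lc_g_rc_23_1 lc_g_rc_26_0 lc_g_rc_27_0 lc_g_rc_21_2 lc_g_rc_24_3 lc_g_rc_25_15 lc_g_rc_21_3 lc_g_Cert_tree lc_g_rc_26_6 lc_g_rc_21_3 lc_g_Cert_tree lc_g_Cert_tree lc_g_rc_21_2 lc_g_rc_23_3 lc_g_rc_26_0 lc_g_rc_23_9 lc_g_rc_23_1 lc_g_rc_26_6 lc_g_rc_26_6 lc_g_rc_23_9 lc_g_Cert_tree lc_g_rc_24_3 lc_g_rc_21_2 lc_g_rc_26_0 lc_g_rc_21_3 lc_g_rc_26_9 lc_g_rc_24_1 lc_g_rc_27_9 lc_g_rc_21_3 lc_g_Cert_tree lc_g_rc_21_2 lc_g_rc_23_1 lc_g_rc_21_3 lc_g_Cert_tree lc_g_rc_21_3) (@D3.rec (fun _ => (Cert rels S Gen.g)) lc_g_Cert_tree lc_g_rc_21_2 lc_g_Cert_tree lc_g_rc_21_3 lc_g_Cert_tree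 lc_g_Cert_tree lc_g_rc_21_2 lc_g_rc_27_0 lc_g_rc_27_6 lc_g_rc_27_6 lc_g_rc_23_1 lc_g_rc_26_9 lc_g_rc_27_9 lc_g_rc_27_0 lc_g_Cert_tree lc_g_rc_23_7 lc_g_rc_21_2 lc_g_rc_21_2 lc_g_rc_27_9 lc_g_rc_26_0 lc_g_rc_23_7 lc_g_rc_26_0 lc_g_rc_23_7 lc_g_rc_21_2 lc_g_rc_26_3 lc_g_Cert_tree lc_g_rc_26_0 lc_g_rc_21_2 lc_g_rc_21_3 lc_g_rc_26_3 lc_g_rc_21_2 lc_g_rc_26_6 lc_g_rc_21_3 lc_g_rc_21_3 lc_g_Cert_tree lc_g_rc_21_2 lc_g_rc_27_6 lc_g_rc_23_1 lc_g_rc_23_9 lc_g_rc_27_0 lc_g_Cert_tree lc_g_rc_27_0 lc_g_rc_21_3 lc_g_rc_27_3 lc_g_rc_21_3 lc_g_rc_26_0 lc_g_rc_27_3 lc_g_Cert_tree lc_g_rc_27_3 lc_g_Cert_tree lc_g_rc_27_0 lc_g_rc_23_1 lc_g_rc_26_6 lc_g_rc_21_2 lc_g_rc_23_7 lc_g_Cert_tree lc_g_rc_25_7 lc_g_rc_24_3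 lc_g_rc_24_7 lc_g_Cert_tree lc_g_rc_23_9 lc_g_rc_27_0) (@D3.rec (fun _ => (Cert rels S Gen.g)) lc_g_rc_26_6 lc_g_rc_23_1 lc_g_rc_21_3 lc_g_Cert_tree lc_g_rc_21_2 lc_g_rc_24_1 lc_g_rc_23_3 lc_g_rc_21_3 lc_g_Cert_tree lc_g_rc_21_2 lc_g_rc_21_3 lc_g_Cert_tree lc_g_rc_21_2 lc_g_rc_21_3 lc_g_rc_21_2 lc_g_rc_21_2 lc_g_Cert_tree lc_g_Cert_tree lc_g_rc_26_3 lc_g_rc_21_3 lc_g_rc_21_2 lc_g_rc_21_3 lc_g_rc_21_2 lc_g_rc_26_9 lc_g_rc_26_9 lc_g_rc_26_3 lc_g_rc_27_6 lc_g_rc_26_3 lc_g_Cert_tree lc_g_rc_23_7 lc_g_Cert_tree lc_g_rc_21_3 lc_g_Cert_tree lc_g_rc_26_6 lc_g_rc_26_6 lc_g_Cert_tree lc_g_rc_26_6 lc_g_rc_27_9 lc_g_rc_27_6 lc_g_rc_21_3 lc_g_rc_26_9 lc_g_rc_23_3 lc_g_rc_23_3 lc_g_Cert_tree lc_g_Cert_tree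 lc_g_rc_21_3 lc_g_rc_27_0 lc_g_rc_26_9 lc_g_rc_26_6 lc_g_rc_21_3 lc_g_rc_27_6 lc_g_rc_27_3 lc_g_Cert_tree lc_g_rc_26_3 lc_g_rc_21_3 lc_g_Cert_tree lc_g_rc_26_9 lc_g_rc_26_0 lc_g_rc_21_3 lc_g_rc_26_6 lc_g_rc_26_0 lc_g_rc_21_3) (@D3.rec (fun _ => (Cert rels S Gen.g)) lc_g_rc_21_2 lc_g_rc_27_3 lc_g_rc_21_2 lc_g_rc_21_3 lc_g_rc_21_2 lc_g_rc_21_2 lc_g_rc_25_7 lc_g_rc_21_3 lc_g_rc_21_3 lc_g_Cert_tree lc_g_rc_21_2 lc_g_rc_27_6 lc_g_rc_26_0 lc_g_rc_21_3 lc_g_Cert_tree lc_g_rc_21_2 lc_g_rc_21_2 lc_g_Cert_tree lc_g_Cert_tree lc_g_rc_25_3 lc_g_rc_26_6 lc_g_rc_26_0 lc_g_Cert_tree lc_g_rc_26_0 lc_g_rc_21_3 lc_g_Cert_tree lc_g_rc_21_2 lc_g_rc_21_3 lc_g_Cert_tree lc_g_rc_21_2 lc_g_rc_21_3 lc_g_Cert_tree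 lc_g_rc_21_2 lc_g_rc_21_3 lc_g_rc_27_6 lc_g_rc_21_3 lc_g_Cert_tree lc_g_rc_21_2 lc_g_Cert_tree lc_g_rc_21_2 lc_g_rc_21_3 lc_g_rc_26_6 lc_g_rc_27_0 lc_g_rc_23_1 lc_g_Cert_tree lc_g_rc_26_6 lc_g_rc_21_3 lc_g_Cert_tree lc_g_rc_21_2 lc_g_rc_21_2 lc_g_rc_21_3 lc_g_rc_21_3 lc_g_Cert_tree lc_g_rc_27_9 lc_g_rc_21_3 lc_g_Cert_tree lc_g_rc_21_2 lc_g_rc_21_2 lc_g_rc_27_9 lc_g_rc_26_6 lc_g_rc_21_3 lc_g_rc_27_0) (@D3.rec (fun _ => (Cert rels S Gen.g)) lc_g_rc_21_3 lc_g_Cert_tree lc_g_Cert_tree lc_g_rc_24_3 lc_g_Cert_tree lc_g_Cert_tree lc_g_rc_27_0 lc_g_rc_26_9 lc_g_rc_21_2 lc_g_Cert_tree lc_g_rc_24_7 lc_g_rc_21_2 lc_g_Cert_tree lc_g_rc_26_0 lc_g_rc_26_6 lc_g_rc_27_9 lc_g_rc_26_3 lc_g_rc_21_3 lc_g_Cert_tree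 lc_g_rc_27_6 lc_g_rc_27_0 lc_g_rc_21_2 lc_g_Cert_tree lc_g_rc_21_2 lc_g_Cert_tree lc_g_rc_26_6 lc_g_rc_21_2 lc_g_rc_23_3 lc_g_rc_21_3 lc_g_Cert_tree lc_g_rc_23_1 lc_g_rc_21_2 lc_g_rc_27_9 lc_g_rc_27_6 lc_g_Cert_tree lc_g_rc_26_0 lc_g_rc_27_6 lc_g_rc_26_0 lc_g_rc_26_6 lc_g_rc_21_2 lc_g_rc_21_3 lc_g_Cert_tree lc_g_rc_24_3 lc_g_rc_26_3 lc_g_rc_21_3 lc_g_rc_23_3 lc_g_rc_21_3 lc_g_rc_27_3 lc_g_rc_21_3 lc_g_Cert_tree lc_g_rc_21_2 lc_g_rc_24_3 lc_g_rc_23_3 lc_g_rc_21_3 lc_g_Cert_tree lc_g_rc_21_2 lc_g_rc_27_0 lc_g_rc_27_9 lc_g_rc_27_9 lc_g_rc_24_3 lc_g_rc_21_2 lc_g_rc_27_6) (@D3.rec (fun _ => (Cert rels S Gen.g)) lc_g_rc_24_1 lc_g_rc_21_2 lc_g_rc_21_3 lc_g_rc_26_9 lc_g_rc_27_9 lc_g_rc_23_7 lc_g_rc_27_3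 lc_g_rc_23_1 lc_g_rc_27_6 lc_g_rc_21_2 lc_g_Cert_tree lc_g_rc_24_9 lc_g_Cert_tree lc_g_rc_26_3 lc_g_rc_27_3 lc_g_Cert_tree lc_g_rc_21_2 lc_g_rc_21_3 lc_g_Cert_tree lc_g_rc_21_2 lc_g_rc_21_3 lc_g_rc_21_2 lc_g_rc_26_0 lc_g_rc_27_0 lc_g_rc_21_3 lc_g_Cert_tree lc_g_rc_21_2 lc_g_rc_26_3 lc_g_rc_24_3 lc_g_Cert_tree lc_g_Cert_tree lc_g_rc_27_6 lc_g_rc_27_0 lc_g_rc_25_15 lc_g_rc_27_9 lc_g_rc_23_9 lc_g_rc_24_1 lc_g_rc_21_3 lc_g_rc_27_0 lc_g_rc_26_0 lc_g_rc_23_1 lc_g_rc_27_6 lc_g_rc_26_3 lc_g_rc_26_6 lc_g_rc_25_15 lc_g_rc_21_3 lc_g_Cert_tree lc_g_rc_27_0 lc_g_rc_21_2 lc_g_rc_24_7 lc_g_rc_21_2 lc_g_rc_23_3 lc_g_Cert_tree lc_g_rc_21_3 lc_g_Cert_tree lc_g_rc_21_3 lc_g_rc_26_9 lc_g_rc_26_6 lc_g_rc_21_3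 lc_g_Cert_tree lc_g_rc_21_2 lc_g_rc_21_3) (@D3.rec (fun _ => (Cert rels S Gen.g)) lc_g_rc_21_3 lc_g_rc_23_3 lc_g_rc_21_3 lc_g_Cert_tree lc_g_rc_27_0 lc_g_rc_21_2 lc_g_Cert_tree lc_g_Cert_tree lc_g_rc_21_3 lc_g_Cert_tree lc_g_rc_21_2 lc_g_rc_23_1 lc_g_Cert_tree lc_g_rc_27_0 lc_g_rc_27_0 lc_g_Cert_tree lc_g_rc_21_2 lc_g_rc_21_3 lc_g_rc_27_6 lc_g_Cert_tree lc_g_rc_27_6 lc_g_rc_25_19 lc_g_rc_21_3 lc_g_Cert_tree lc_g_rc_23_7 lc_g_rc_21_2 lc_g_rc_23_1 lc_g_rc_27_3 lc_g_rc_24_7 lc_g_rc_21_3 lc_g_rc_27_0 lc_g_rc_26_3 lc_g_rc_21_2 lc_g_rc_21_2 lc_g_rc_21_3 lc_g_Cert_tree lc_g_rc_26_6 lc_g_rc_21_3 lc_g_rc_26_9 lc_g_rc_27_3 lc_g_rc_24_3 lc_g_rc_27_0 lc_g_rc_21_2 lc_g_rc_27_3 lc_g_rc_24_7 lc_g_Cert_tree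 lc_g_rc_25_15 lc_g_rc_21_3 lc_g_Cert_tree lc_g_rc_27_6 lc_g_rc_21_3 lc_g_rc_21_2 lc_g_rc_26_6 lc_g_Cert_tree lc_g_rc_21_3 lc_g_Cert_tree lc_g_rc_21_2 lc_g_rc_24_1 lc_g_rc_21_3 lc_g_rc_24_3 lc_g_rc_26_6 lc_g_rc_26_3) (@D3.rec (fun _ => (Cert rels S Gen.g)) lc_g_rc_24_1 lc_g_rc_21_3 lc_g_Cert_tree lc_g_rc_27_3 lc_g_rc_21_2 lc_g_rc_25_3 lc_g_Cert_tree lc_g_rc_26_6 lc_g_rc_27_3 lc_g_Cert_tree lc_g_rc_27_6 lc_g_rc_21_2 lc_g_rc_21_2 lc_g_Cert_tree lc_g_Cert_tree lc_g_rc_27_3 lc_g_Cert_tree lc_g_rc_27_0 lc_g_rc_27_0 lc_g_Cert_tree lc_g_rc_27_6 lc_g_rc_26_3 lc_g_rc_23_3 lc_g_Cert_tree lc_g_rc_25_19 lc_g_rc_26_3 lc_g_rc_21_3 lc_g_rc_27_0 lc_g_rc_27_3 lc_g_rc_27_6 lc_g_rc_21_3 lc_g_rc_21_3 lc_g_Cert_tree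 lc_g_rc_26_6 lc_g_rc_21_2 lc_g_rc_27_6 lc_g_rc_21_2 lc_g_rc_23_7 lc_g_rc_24_3 lc_g_rc_24_1 lc_g_rc_23_1 lc_g_rc_24_1 lc_g_rc_21_3 lc_g_Cert_tree lc_g_rc_26_6 lc_g_rc_21_2 lc_g_rc_21_3 lc_g_Cert_tree lc_g_rc_26_6 lc_g_rc_21_3 lc_g_Cert_tree lc_g_Cert_tree lc_g_rc_21_2 lc_g_rc_21_3 lc_g_rc_27_3 lc_g_rc_27_3 lc_g_rc_21_2 lc_g_rc_27_9 lc_g_rc_24_9 lc_g_rc_23_3 lc_g_rc_21_2 lc_g_rc_21_3) (@D3.rec (fun _ => (Cert rels S Gen.g)) lc_g_Cert_tree lc_g_rc_26_6 lc_g_rc_26_9 lc_g_rc_21_3 lc_g_Cert_tree lc_g_rc_27_0 lc_g_rc_21_2 lc_g_rc_21_2 lc_g_rc_27_0 lc_g_rc_21_3 lc_g_rc_27_0 lc_g_rc_21_2 lc_g_rc_27_6 lc_g_Cert_tree lc_g_rc_21_2 lc_g_rc_27_0 lc_g_Cert_tree lc_g_rc_24_1 lc_g_rc_24_3 lc_g_rc_27_6 lc_g_rc_24_1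 lc_g_rc_27_6 lc_g_Cert_tree lc_g_rc_21_2 lc_g_rc_26_3 lc_g_Cert_tree lc_g_rc_26_3 lc_g_rc_27_6 lc_g_rc_21_3 lc_g_rc_21_3 lc_g_rc_21_3 lc_g_rc_26_3 lc_g_rc_21_3 lc_g_rc_27_3 lc_g_rc_27_6 lc_g_rc_21_2 lc_g_rc_21_2 lc_g_rc_27_6 lc_g_rc_21_2 lc_g_rc_21_2 lc_g_rc_21_2 lc_g_rc_26_3 lc_g_rc_27_9 lc_g_rc_24_1 lc_g_rc_27_9 lc_g_rc_21_3 lc_g_rc_27_0 lc_g_rc_26_3 lc_g_rc_21_3 lc_g_rc_21_3 lc_g_rc_21_2 lc_g_rc_21_2 lc_g_rc_21_2 lc_g_Cert_tree lc_g_rc_21_2 lc_g_rc_26_9 lc_g_rc_26_6 lc_g_rc_21_3 lc_g_rc_23_3 lc_g_rc_21_3 lc_g_Cert_tree lc_g_rc_21_2) (@D3.rec (fun _ => (Cert rels S Gen.g)) lc_g_rc_21_3 lc_g_rc_26_9 lc_g_rc_21_2 lc_g_rc_21_2 lc_g_rc_26_0 lc_g_Cert_tree lc_g_rc_21_2 lc_g_rc_27_6 lc_g_Cert_tree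 lc_g_rc_21_2 lc_g_Cert_tree lc_g_rc_21_3 lc_g_rc_21_2 lc_g_rc_24_9 lc_g_rc_21_2 lc_g_rc_21_2 lc_g_Cert_tree lc_g_rc_26_6 lc_g_rc_21_2 lc_g_rc_21_3 lc_g_Cert_tree lc_g_rc_27_3 lc_g_rc_21_2 lc_g_rc_26_6 lc_g_rc_24_7 lc_g_rc_27_9 lc_g_rc_27_6 lc_g_rc_27_3 lc_g_rc_24_7 lc_g_rc_27_0 lc_g_rc_21_2 lc_g_rc_27_9 lc_g_rc_26_6 lc_g_Cert_tree lc_g_rc_21_2 lc_g_rc_24_7 lc_g_Cert_tree lc_g_rc_26_6 lc_g_rc_21_2 lc_g_rc_21_2 lc_g_Cert_tree lc_g_rc_26_6 lc_g_rc_23_1 lc_g_rc_21_3 lc_g_rc_21_3 lc_g_Cert_tree lc_g_rc_23_3 lc_g_rc_23_1 lc_g_Cert_tree lc_g_rc_25_15 lc_g_rc_27_9 lc_g_rc_26_3 lc_g_Cert_tree lc_g_rc_26_3 lc_g_rc_26_6 lc_g_rc_23_9 lc_g_rc_23_1 lc_g_rc_26_3 lc_g_rc_24_1 lc_g_rc_21_3 lc_g_rc_27_3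 lc_g_rc_21_3) (@D3.rec (fun _ => (Cert rels S Gen.g)) lc_g_Cert_tree lc_g_rc_26_3 lc_g_rc_26_6 lc_g_rc_21_2 lc_g_rc_21_3 lc_g_Cert_tree lc_g_rc_21_2 lc_g_rc_24_1 lc_g_Cert_tree lc_g_rc_21_2 lc_g_rc_23_9 lc_g_rc_27_6 lc_g_rc_23_3 lc_g_rc_27_3 lc_g_rc_21_3 lc_g_rc_23_1 lc_g_rc_23_3 lc_g_Cert_tree lc_g_rc_21_3 lc_g_Cert_tree lc_g_rc_21_2 lc_g_rc_24_1 lc_g_rc_27_9 lc_g_rc_21_3 lc_g_rc_27_3 lc_g_rc_26_0 lc_g_rc_23_3 lc_g_Cert_tree lc_g_rc_21_2 lc_g_rc_21_3 lc_g_rc_23_3 lc_g_rc_21_2 lc_g_Cert_tree lc_g_Cert_tree lc_g_Cert_tree lc_g_rc_27_6 lc_g_rc_21_3 lc_g_rc_26_6 lc_g_rc_25_19 lc_g_rc_27_9 lc_g_rc_24_3 lc_g_rc_24_9 lc_g_rc_27_3 lc_g_rc_23_3 lc_g_rc_21_2 lc_g_rc_21_3 lc_g_Cert_tree lc_g_rc_23_1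 lc_g_rc_26_3 lc_g_rc_24_1 lc_g_rc_27_6 lc_g_Cert_tree lc_g_Cert_tree lc_g_rc_27_6 lc_g_rc_26_6 lc_g_rc_27_6 lc_g_Cert_tree lc_g_rc_21_2 lc_g_rc_21_3 lc_g_rc_21_3 lc_g_rc_21_3 lc_g_Cert_tree) (@D3.rec (fun _ => (Cert rels S Gen.g)) lc_g_rc_24_7 lc_g_rc_21_2 lc_g_rc_27_6 lc_g_Cert_tree lc_g_rc_23_3 lc_g_rc_27_3 lc_g_rc_21_2 lc_g_rc_21_3 lc_g_rc_26_6 lc_g_rc_26_3 lc_g_rc_23_3 lc_g_rc_26_0 lc_g_rc_27_0 lc_g_Cert_tree lc_g_rc_24_1 lc_g_rc_23_3 lc_g_rc_21_3 lc_g_rc_23_7 lc_g_rc_21_3 lc_g_Cert_tree lc_g_rc_25_19 lc_g_rc_27_3 lc_g_rc_23_9 lc_g_rc_21_3 lc_g_rc_26_0 lc_g_rc_26_6 lc_g_rc_26_3 lc_g_Cert_tree lc_g_rc_21_2 lc_g_rc_27_6 lc_g_rc_23_1 lc_g_rc_26_9 lc_g_Cert_tree lc_g_rc_26_0 lc_g_Cert_tree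 lc_g_rc_26_0 lc_g_rc_26_3 lc_g_rc_21_3 lc_g_rc_27_3 lc_g_rc_21_3 lc_g_rc_23_3 lc_g_rc_27_9 lc_g_rc_26_0 lc_g_rc_26_6 lc_g_rc_23_9 lc_g_rc_24_3 lc_g_rc_27_0 lc_g_rc_27_9 lc_g_rc_27_0 lc_g_rc_21_3 lc_g_rc_26_3 lc_g_rc_26_9 lc_g_Cert_tree lc_g_rc_21_3 lc_g_rc_24_9 lc_g_rc_21_2 lc_g_rc_26_0 lc_g_Cert_tree lc_g_Cert_tree lc_g_rc_23_3 lc_g_rc_21_3 lc_g_rc_26_6) (@D3.rec (fun _ => (Cert rels S Gen.g)) lc_g_Cert_tree lc_g_rc_21_2 lc_g_rc_21_2 lc_g_rc_21_3 lc_g_rc_26_6 lc_g_rc_26_3 lc_g_rc_25_15 lc_g_rc_26_9 lc_g_rc_21_3 lc_g_Cert_tree lc_g_rc_21_2 lc_g_rc_21_2 lc_g_rc_26_3 lc_g_Cert_tree lc_g_rc_21_3 lc_g_Cert_tree lc_g_rc_21_2 lc_g_Cert_tree lc_g_rc_21_2 lc_g_rc_21_3 lc_g_Cert_tree lc_g_rc_21_2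 lc_g_Cert_tree lc_g_rc_24_7 lc_g_rc_27_0 lc_g_rc_21_3 lc_g_rc_26_6 lc_g_rc_25_7 lc_g_rc_21_3 lc_g_Cert_tree lc_g_rc_21_2 lc_g_rc_21_3 lc_g_rc_21_2 lc_g_Cert_tree lc_g_rc_21_2 lc_g_rc_21_3 lc_g_Cert_tree lc_g_rc_21_2 lc_g_rc_26_9 lc_g_rc_27_3 lc_g_Cert_tree lc_g_rc_26_0 lc_g_rc_23_1 lc_g_rc_23_7 lc_g_rc_26_0 lc_g_rc_24_9 lc_g_rc_26_9 lc_g_rc_24_3 lc_g_rc_21_2 lc_g_rc_26_0 lc_g_rc_24_1 lc_g_rc_27_0 lc_g_rc_24_1 lc_g_rc_21_2 lc_g_rc_21_3 lc_g_rc_24_7 lc_g_rc_26_3 lc_g_rc_21_2 lc_g_rc_27_6 lc_g_rc_21_3 lc_g_rc_24_7 lc_g_rc_27_6) (@D3.rec (fun _ => (Cert rels S Gen.g)) lc_g_rc_24_3 lc_g_rc_21_3 lc_g_Cert_tree lc_g_rc_26_9 lc_g_Cert_tree lc_g_rc_21_2 lc_g_rc_27_6 lc_g_Cert_tree lc_g_rc_21_2 lc_g_Cert_tree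 lc_g_rc_21_2 lc_g_rc_21_2 lc_g_rc_24_3 lc_g_rc_21_3 lc_g_Cert_tree lc_g_Cert_tree lc_g_rc_21_3 lc_g_Cert_tree lc_g_rc_23_9 lc_g_rc_23_3 lc_g_rc_26_3 lc_g_rc_21_2 lc_g_rc_26_6 lc_g_rc_21_3 lc_g_rc_26_9 lc_g_rc_26_0 lc_g_rc_24_1 lc_g_rc_26_6 lc_g_rc_23_7 lc_g_Cert_tree lc_g_rc_23_3 lc_g_rc_25_3 lc_g_rc_24_7 lc_g_Cert_tree lc_g_rc_24_1 lc_g_Cert_tree lc_g_rc_21_2 lc_g_rc_21_2 lc_g_rc_23_7 lc_g_rc_21_2 lc_g_rc_21_3 lc_g_rc_27_6 lc_g_rc_23_1 lc_g_rc_21_2 lc_g_rc_24_7 lc_g_Cert_tree lc_g_rc_25_3 lc_g_rc_27_3 lc_g_rc_27_9 lc_g_rc_21_3 lc_g_Cert_tree lc_g_rc_21_2 lc_g_rc_26_9 lc_g_rc_27_9 lc_g_rc_21_2 lc_g_rc_27_6 lc_g_rc_21_3 lc_g_rc_26_9 lc_g_rc_21_3 lc_g_Cert_tree lc_g_rc_21_2 lc_g_Cert_tree)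 (@D3.rec (fun _ => (Cert rels S Gen.g)) lc_g_rc_21_2 lc_g_rc_23_3 lc_g_rc_26_9 lc_g_rc_21_3 lc_g_Cert_tree lc_g_rc_21_2 lc_g_rc_27_6 lc_g_rc_21_3 lc_g_rc_27_6 lc_g_rc_23_1 lc_g_rc_24_7 lc_g_rc_24_7 lc_g_rc_27_3 lc_g_rc_24_7 lc_g_rc_21_3 lc_g_rc_27_0 lc_g_rc_21_2 lc_g_rc_21_2 lc_g_rc_21_2 lc_g_rc_21_2 lc_g_rc_23_9 lc_g_rc_24_3 lc_g_rc_23_1 lc_g_rc_21_3 lc_g_Cert_tree lc_g_rc_24_3 lc_g_Cert_tree lc_g_Cert_tree lc_g_rc_27_0 lc_g_rc_26_3 lc_g_rc_21_2 lc_g_rc_21_2 lc_g_rc_27_9 lc_g_rc_27_6 lc_g_rc_27_6 lc_g_rc_27_3 lc_g_rc_23_7 lc_g_Cert_tree lc_g_rc_21_2 lc_g_rc_21_3 lc_g_Cert_tree lc_g_rc_27_3 lc_g_rc_21_2 lc_g_rc_24_1 lc_g_rc_24_7 lc_g_rc_24_9 lc_g_rc_24_7 lc_g_rc_23_7 lc_g_rc_27_9 lc_g_Cert_tree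 lc_g_rc_21_2 lc_g_rc_21_2 lc_g_rc_26_6 lc_g_rc_23_1 lc_g_rc_21_3 lc_g_Cert_tree lc_g_rc_27_0 lc_g_Cert_tree lc_g_rc_26_3 lc_g_rc_23_9 lc_g_Cert_tree lc_g_rc_27_6) (@D3.rec (fun _ => (Cert rels S Gen.g)) lc_g_rc_21_2 lc_g_rc_24_7 lc_g_rc_27_0 lc_g_rc_23_1 lc_g_rc_26_3 lc_g_rc_21_3 lc_g_Cert_tree lc_g_rc_21_2 lc_g_rc_26_6 lc_g_rc_26_3 lc_g_rc_27_3 lc_g_rc_21_2 lc_g_rc_21_3 lc_g_Cert_tree lc_g_rc_25_19 lc_g_rc_21_2 lc_g_rc_27_3 lc_g_rc_26_6 lc_g_Cert_tree lc_g_Cert_tree lc_g_Cert_tree lc_g_rc_23_3 lc_g_rc_26_0 lc_g_rc_21_2 lc_g_rc_23_7 lc_g_rc_24_1 lc_g_rc_21_2 lc_g_rc_21_3 lc_g_Cert_tree lc_g_Cert_tree lc_g_Cert_tree lc_g_rc_21_3 lc_g_Cert_tree lc_g_rc_21_2 lc_g_rc_21_3 lc_g_Cert_tree lc_g_rc_26_6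 lc_g_rc_21_2 lc_g_rc_26_3 lc_g_rc_27_9 lc_g_rc_21_2 lc_g_rc_23_7 lc_g_rc_24_3 lc_g_rc_21_3 lc_g_rc_27_9 lc_g_rc_21_3 lc_g_Cert_tree lc_g_rc_26_3 lc_g_rc_27_3 lc_g_Cert_tree lc_g_rc_26_3 lc_g_rc_21_3 lc_g_Cert_tree lc_g_rc_21_2 lc_g_rc_21_2 lc_g_Cert_tree lc_g_rc_27_0 lc_g_rc_26_6 lc_g_rc_21_2 lc_g_rc_24_1 lc_g_Cert_tree lc_g_rc_21_3) (@D3.rec (fun _ => (Cert rels S Gen.g)) lc_g_rc_24_9 lc_g_rc_24_3 lc_g_rc_27_0 lc_g_Cert_tree lc_g_rc_21_2 lc_g_rc_24_1 lc_g_rc_21_2 lc_g_rc_24_3 lc_g_Cert_tree lc_g_rc_27_6 lc_g_rc_24_3 lc_g_rc_27_0 lc_g_Cert_tree lc_g_rc_27_9 lc_g_Cert_tree lc_g_rc_27_6 lc_g_Cert_tree lc_g_rc_21_2 lc_g_rc_21_3 lc_g_Cert_tree lc_g_rc_21_2 lc_g_rc_26_0 lc_g_rc_24_3 lc_g_rc_21_2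 lc_g_rc_27_3 lc_g_rc_21_3 lc_g_rc_26_6 lc_g_rc_21_3 lc_g_rc_27_0 lc_g_rc_21_3 lc_g_Cert_tree lc_g_rc_21_2 lc_g_rc_24_3 lc_g_rc_21_3 lc_g_Cert_tree lc_g_rc_24_7 lc_g_Cert_tree lc_g_rc_21_2 lc_g_rc_21_3 lc_g_rc_21_2 lc_g_rc_26_0 lc_g_rc_21_2 lc_g_rc_21_2 lc_g_rc_21_3 lc_g_rc_26_3 lc_g_rc_24_1 lc_g_rc_21_2 lc_g_Cert_tree lc_g_rc_21_3 lc_g_Cert_tree lc_g_rc_21_2 lc_g_rc_26_3 lc_g_rc_24_9 lc_g_rc_21_3 lc_g_Cert_tree lc_g_rc_21_2 lc_g_Cert_tree lc_g_rc_21_3 lc_g_Cert_tree lc_g_rc_21_2 lc_g_rc_21_2 lc_g_rc_24_7) (@D3.rec (fun _ => (Cert rels S Gen.g)) lc_g_Cert_tree lc_g_rc_27_6 lc_g_rc_21_3 lc_g_Cert_tree lc_g_rc_27_3 lc_g_rc_21_2 lc_g_Cert_tree lc_g_rc_27_3 lc_g_rc_21_2 lc_g_rc_27_3 lc_g_rc_27_0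 lc_g_rc_21_3 lc_g_Cert_tree lc_g_rc_27_6 lc_g_rc_21_2 lc_g_rc_21_3 lc_g_rc_21_2 lc_g_rc_24_3 lc_g_rc_26_0 lc_g_rc_27_6 lc_g_rc_23_3 lc_g_rc_26_6 lc_g_rc_27_9 lc_g_rc_26_9 lc_g_Cert_tree lc_g_rc_27_0 lc_g_rc_24_1 lc_g_rc_26_0 lc_g_rc_21_3 lc_g_rc_26_3 lc_g_rc_26_3 lc_g_rc_21_3 lc_g_rc_24_3 lc_g_rc_24_1 lc_g_rc_21_2 lc_g_rc_24_3 lc_g_Cert_tree lc_g_rc_23_3 lc_g_rc_24_9 lc_g_rc_26_3 lc_g_rc_21_2 lc_g_rc_26_3 lc_g_rc_26_9 lc_g_rc_21_3 lc_g_Cert_tree lc_g_rc_21_2 lc_g_rc_21_3 lc_g_rc_27_3 lc_g_rc_21_2 lc_g_rc_26_0 lc_g_rc_26_3 lc_g_rc_27_0 lc_g_rc_24_3 lc_g_rc_21_2 lc_g_rc_23_7 lc_g_rc_21_3 lc_g_Cert_tree lc_g_rc_21_2 lc_g_rc_23_3 lc_g_rc_23_3 lc_g_rc_21_2 lc_g_Cert_tree) (@D3.rec (fun _ =>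 (Cert rels S Gen.g)) lc_g_rc_27_0 lc_g_Cert_tree lc_g_rc_21_2 lc_g_rc_26_6 lc_g_rc_23_3 lc_g_Cert_tree lc_g_rc_27_9 lc_g_rc_23_9 lc_g_rc_23_3 lc_g_rc_26_6 lc_g_rc_26_6 lc_g_rc_24_1 lc_g_rc_24_3 lc_g_rc_21_2 lc_g_rc_25_19 lc_g_rc_23_7 lc_g_Cert_tree lc_g_rc_24_1 lc_g_rc_21_3 lc_g_Cert_tree lc_g_rc_23_1 lc_g_rc_26_3 lc_g_rc_27_6 lc_g_rc_24_9 lc_g_rc_27_0 lc_g_rc_27_9 lc_g_rc_21_3 lc_g_rc_21_3 lc_g_rc_21_2 lc_g_rc_21_3 lc_g_rc_21_2 lc_g_rc_23_7 lc_g_Cert_tree lc_g_rc_26_3 lc_g_rc_21_3 lc_g_rc_26_0 lc_g_rc_24_1 lc_g_rc_27_9 lc_g_rc_27_6 lc_g_rc_21_2 lc_g_Cert_tree lc_g_rc_24_3 lc_g_rc_21_3 lc_g_rc_24_7 lc_g_rc_21_3 lc_g_Cert_tree lc_g_rc_24_1 lc_g_rc_27_6 lc_g_rc_21_3 lc_g_Cert_tree lc_g_rc_21_2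 lc_g_rc_26_0 lc_g_rc_23_1 lc_g_rc_27_9 lc_g_rc_23_1 lc_g_rc_24_1 lc_g_rc_27_0 lc_g_rc_24_9 lc_g_rc_21_2 lc_g_rc_26_6 lc_g_rc_21_3 lc_g_rc_21_3) (@D3.rec (fun _ => (Cert rels S Gen.g)) lc_g_Cert_tree lc_g_rc_21_2 lc_g_rc_26_9 lc_g_rc_27_0 lc_g_rc_26_0 lc_g_rc_21_3 lc_g_rc_21_3 lc_g_Cert_tree lc_g_rc_24_3 lc_g_rc_21_2 lc_g_rc_27_3 lc_g_rc_21_2 lc_g_rc_21_3 lc_g_Cert_tree lc_g_rc_21_2 lc_g_Cert_tree lc_g_rc_21_2 lc_g_rc_26_0 lc_g_Cert_tree lc_g_rc_26_9 lc_g_rc_23_3 lc_g_rc_27_0 lc_g_rc_23_9 lc_g_rc_21_3 lc_g_Cert_tree lc_g_rc_27_0 lc_g_rc_26_6 lc_g_rc_26_0 lc_g_rc_21_3 lc_g_rc_26_3 lc_g_rc_27_9 lc_g_rc_21_3 lc_g_rc_25_19 lc_g_rc_24_9 lc_g_rc_21_3 lc_g_Cert_tree lc_g_rc_21_3 lc_g_Cert_tree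 lc_g_rc_21_2 lc_g_rc_26_3 lc_g_rc_24_3 lc_g_rc_24_3 lc_g_rc_27_6 lc_g_rc_27_9 lc_g_rc_23_1 lc_g_rc_21_3 lc_g_Cert_tree lc_g_rc_23_1 lc_g_rc_21_3 lc_g_rc_21_2 lc_g_rc_21_2 lc_g_rc_24_3 lc_g_rc_23_3 lc_g_Cert_tree lc_g_rc_21_2 lc_g_rc_26_3 lc_g_rc_21_3 lc_g_Cert_tree lc_g_rc_21_2 lc_g_Cert_tree lc_g_rc_21_3 lc_g_Cert_tree) (@D3.rec (fun _ => (Cert rels S Gen.g)) lc_g_rc_27_6 lc_g_rc_21_2 lc_g_Cert_tree lc_g_Cert_tree lc_g_rc_23_3 lc_g_rc_26_6 lc_g_rc_26_6 lc_g_Cert_tree lc_g_rc_26_6 lc_g_rc_21_3 lc_g_rc_27_3 lc_g_rc_23_3 lc_g_rc_26_3 lc_g_Cert_tree lc_g_rc_23_1 lc_g_rc_23_7 lc_g_rc_21_3 lc_g_rc_26_6 lc_g_rc_21_3 lc_g_Cert_tree lc_g_rc_21_2 lc_g_rc_26_6 lc_g_rc_26_3 lc_g_rc_21_3 lc_g_Cert_tree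 lc_g_rc_21_2 lc_g_rc_24_7 lc_g_rc_21_3 lc_g_rc_21_3 lc_g_Cert_tree lc_g_rc_21_2 lc_g_rc_21_3 lc_g_Cert_tree lc_g_rc_21_2 lc_g_rc_27_3 lc_g_rc_26_0 lc_g_rc_26_0 lc_g_rc_24_1 lc_g_rc_21_2 lc_g_Cert_tree lc_g_Cert_tree lc_g_rc_26_0 lc_g_rc_21_2 lc_g_rc_21_3 lc_g_rc_21_2 lc_g_rc_21_2 lc_g_Cert_tree lc_g_rc_24_3 lc_g_rc_21_3 lc_g_rc_21_2 lc_g_rc_21_3 lc_g_Cert_tree lc_g_rc_24_3 lc_g_Cert_tree lc_g_rc_23_7 lc_g_rc_27_3 lc_g_rc_27_3 lc_g_rc_24_7 lc_g_rc_24_9 lc_g_rc_26_6 lc_g_rc_23_1 lc_g_rc_24_7) (@D3.rec (fun _ => (Cert rels S Gen.g)) lc_g_Cert_tree lc_g_rc_25_19 lc_g_Cert_tree lc_g_rc_27_3 lc_g_rc_26_6 lc_g_rc_23_3 lc_g_rc_21_3 lc_g_Cert_tree lc_g_rc_24_7 lc_g_rc_21_2 lc_g_rc_23_3 lc_g_Cert_tree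 lc_g_rc_21_2 lc_g_Cert_tree lc_g_rc_26_0 lc_g_rc_21_3 lc_g_rc_27_3 lc_g_rc_24_3 lc_g_rc_21_2 lc_g_rc_27_3 lc_g_rc_21_2 lc_g_rc_23_1 lc_g_rc_21_3 lc_g_Cert_tree lc_g_rc_21_2 lc_g_Cert_tree lc_g_rc_21_3 lc_g_Cert_tree lc_g_Cert_tree lc_g_rc_21_2 lc_g_Cert_tree lc_g_rc_25_3 lc_g_rc_26_6 lc_g_rc_21_3 lc_g_Cert_tree lc_g_rc_21_2 lc_g_rc_21_2 lc_g_rc_21_2 lc_g_Cert_tree lc_g_rc_24_3 lc_g_rc_21_3 lc_g_rc_21_2 lc_g_rc_21_3 lc_g_Cert_tree lc_g_rc_21_2 lc_g_rc_21_2 lc_g_Cert_tree lc_g_rc_23_7 lc_g_rc_21_2 lc_g_rc_23_7 lc_g_rc_26_6 lc_g_rc_27_6 lc_g_rc_27_6 lc_g_rc_21_3 lc_g_Cert_tree lc_g_rc_21_2 lc_g_rc_21_3 lc_g_rc_21_2 lc_g_rc_21_3 lc_g_Cert_tree lc_g_rc_21_2 lc_g_Cert_tree) (@D3.rec (fun _ =>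 (Cert rels S Gen.g)) lc_g_rc_25_15 lc_g_rc_27_0 lc_g_rc_21_3 lc_g_rc_21_2 lc_g_rc_21_2 lc_g_rc_26_9 lc_g_rc_23_7 lc_g_rc_23_7 lc_g_rc_21_3 lc_g_rc_21_3 lc_g_rc_24_1 lc_g_rc_26_9 lc_g_rc_21_2 lc_g_rc_21_2 lc_g_rc_26_9 lc_g_rc_24_9 lc_g_rc_24_9 lc_g_rc_27_6 lc_g_rc_26_9 lc_g_rc_21_2 lc_g_rc_21_3 lc_g_rc_24_1 lc_g_rc_24_9 lc_g_Cert_tree lc_g_Cert_tree lc_g_rc_27_0 lc_g_Cert_tree lc_g_rc_26_9 lc_g_rc_21_2 lc_g_rc_21_2 lc_g_rc_25_3 lc_g_rc_27_6 lc_g_rc_21_2 lc_g_rc_21_2 lc_g_rc_25_19 lc_g_Cert_tree lc_g_rc_27_3 lc_g_rc_21_2 lc_g_Cert_tree lc_g_rc_25_11 lc_g_rc_27_6 lc_g_rc_21_2 lc_g_rc_23_1 lc_g_rc_23_7 lc_g_rc_21_3 lc_g_rc_23_7 lc_g_rc_21_3 lc_g_rc_21_3 lc_g_Cert_tree lc_g_rc_26_6 lc_g_rc_21_2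 lc_g_rc_21_2 lc_g_rc_24_1 lc_g_rc_26_0 lc_g_rc_23_7 lc_g_rc_26_9 lc_g_rc_26_3 lc_g_rc_27_6 lc_g_rc_27_9 lc_g_rc_21_2 lc_g_Cert_tree lc_g_rc_27_6) (@D3.rec (fun _ => (Cert rels S Gen.g)) lc_g_rc_21_2 lc_g_rc_27_6 lc_g_Cert_tree lc_g_rc_27_0 lc_g_Cert_tree lc_g_rc_21_2 lc_g_rc_27_6 lc_g_rc_27_9 lc_g_rc_26_9 lc_g_rc_27_0 lc_g_rc_21_2 lc_g_rc_27_0 lc_g_Cert_tree lc_g_rc_21_2 lc_g_Cert_tree lc_g_rc_21_3 lc_g_rc_24_3 lc_g_rc_26_0 lc_g_rc_24_7 lc_g_rc_27_6 lc_g_Cert_tree lc_g_rc_21_2 lc_g_rc_21_2 lc_g_rc_23_9 lc_g_rc_21_2 lc_g_Cert_tree lc_g_rc_21_2 lc_g_rc_21_2 lc_g_rc_26_6 lc_g_rc_27_6 lc_g_rc_21_3 lc_g_Cert_tree lc_g_rc_21_2 lc_g_rc_21_2 lc_g_rc_23_1 lc_g_rc_25_3 lc_g_rc_24_1 lc_g_rc_21_3 lc_g_rc_21_2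 lc_g_rc_25_3 lc_g_rc_27_6 lc_g_rc_21_3 lc_g_Cert_tree lc_g_rc_21_2 lc_g_rc_21_3 lc_g_Cert_tree lc_g_Cert_tree lc_g_rc_24_9 lc_g_rc_24_3 lc_g_rc_27_3 lc_g_rc_23_3 lc_g_rc_21_3 lc_g_Cert_tree lc_g_rc_21_2 lc_g_rc_26_3 lc_g_rc_21_3 lc_g_Cert_tree lc_g_rc_21_2 lc_g_Cert_tree lc_g_rc_27_0 lc_g_rc_26_6 lc_g_Cert_tree) (@D3.rec (fun _ => (Cert rels S Gen.g)) lc_g_rc_21_3 lc_g_rc_24_3 lc_g_rc_23_1 lc_g_rc_27_6 lc_g_rc_21_3 lc_g_Cert_tree lc_g_rc_21_2 lc_g_rc_21_2 lc_g_rc_21_2 lc_g_rc_24_3 lc_g_Cert_tree lc_g_rc_26_0 lc_g_rc_21_2 lc_g_rc_21_3 lc_g_rc_27_6 lc_g_rc_21_2 lc_g_rc_27_6 lc_g_rc_21_3 lc_g_Cert_tree lc_g_rc_26_0 lc_g_rc_27_6 lc_g_rc_27_9 lc_g_rc_24_3 lc_g_rc_21_3 lc_g_rc_24_1 lc_g_rc_23_9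 lc_g_rc_21_3 lc_g_Cert_tree lc_g_rc_26_3 lc_g_rc_21_3 lc_g_Cert_tree lc_g_Cert_tree lc_g_Cert_tree lc_g_rc_21_3 lc_g_rc_23_9 lc_g_rc_21_2 lc_g_rc_21_2 lc_g_rc_23_1 lc_g_rc_27_6 lc_g_rc_21_3 lc_g_rc_21_2 lc_g_rc_24_7 lc_g_rc_21_3 lc_g_rc_26_6 lc_g_rc_24_7 lc_g_rc_21_3 lc_g_Cert_tree lc_g_rc_26_6 lc_g_rc_21_3 lc_g_rc_26_0 lc_g_rc_26_3 lc_g_rc_23_7 lc_g_rc_21_2 lc_g_rc_23_1 lc_g_rc_21_3 lc_g_Cert_tree lc_g_Cert_tree lc_g_rc_27_6 lc_g_rc_24_1 lc_g_Cert_tree lc_g_rc_27_3 lc_g_rc_27_9) (@D3.rec (fun _ => (Cert rels S Gen.g)) lc_g_rc_21_2 lc_g_rc_21_2 lc_g_Cert_tree lc_g_Cert_tree lc_g_Cert_tree lc_g_Cert_tree lc_g_rc_21_2 lc_g_rc_21_2 lc_g_rc_24_3 lc_g_rc_26_6 lc_g_Cert_tree lc_g_rc_21_2 lc_g_rc_24_3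 lc_g_rc_21_2 lc_g_rc_21_3 lc_g_Cert_tree lc_g_rc_24_1 lc_g_rc_21_3 lc_g_rc_23_7 lc_g_rc_23_7 lc_g_rc_21_3 lc_g_rc_23_3 lc_g_rc_27_0 lc_g_rc_26_6 lc_g_Cert_tree lc_g_rc_21_3 lc_g_rc_26_3 lc_g_rc_21_2 lc_g_rc_23_1 lc_g_rc_21_3 lc_g_rc_21_2 lc_g_rc_21_2 lc_g_rc_26_9 lc_g_rc_27_6 lc_g_rc_24_3 lc_g_Cert_tree lc_g_rc_21_3 lc_g_Cert_tree lc_g_rc_23_1 lc_g_rc_23_7 lc_g_rc_21_2 lc_g_rc_27_0 lc_g_rc_26_6 lc_g_rc_27_9 lc_g_rc_25_19 lc_g_Cert_tree lc_g_rc_23_9 lc_g_rc_21_3 lc_g_Cert_tree lc_g_rc_21_2 lc_g_rc_21_2 lc_g_rc_23_3 lc_g_rc_27_6 lc_g_rc_24_1 lc_g_rc_21_3 lc_g_rc_26_6 lc_g_rc_26_9 lc_g_rc_27_9 lc_g_rc_27_3 lc_g_rc_24_7 lc_g_rc_21_2 lc_g_rc_21_3) (@D3.rec (fun _ => (Cert rels S Gen.g)) lc_g_Cert_tree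 lc_g_Cert_tree lc_g_rc_24_1 lc_g_rc_21_2 lc_g_rc_21_2 lc_g_Cert_tree lc_g_Cert_tree lc_g_Cert_tree lc_g_Cert_tree lc_g_rc_27_9 lc_g_rc_21_3 lc_g_Cert_tree lc_g_rc_26_0 lc_g_rc_26_6 lc_g_rc_21_2 lc_g_rc_21_3 lc_g_Cert_tree lc_g_rc_26_3 lc_g_rc_21_2 lc_g_rc_21_2 lc_g_Cert_tree lc_g_Cert_tree lc_g_rc_21_3 lc_g_rc_21_3 lc_g_Cert_tree lc_g_rc_21_2 lc_g_rc_26_3 lc_g_Cert_tree lc_g_Cert_tree lc_g_rc_21_3 lc_g_Cert_tree lc_g_rc_21_2 lc_g_rc_27_3 lc_g_rc_24_3 lc_g_Cert_tree lc_g_rc_24_7 lc_g_rc_23_7 lc_g_Cert_tree lc_g_rc_21_2 lc_g_Cert_tree lc_g_rc_21_3 lc_g_Cert_tree lc_g_rc_21_2 lc_g_Cert_tree lc_g_Cert_tree lc_g_rc_26_0 lc_g_rc_21_3 lc_g_Cert_tree lc_g_rc_21_2 lc_g_rc_24_9 lc_g_rc_26_6 lc_g_rc_26_9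 lc_g_rc_21_2 lc_g_rc_21_3 lc_g_rc_21_3 lc_g_Cert_tree lc_g_rc_27_6 lc_g_rc_21_2 lc_g_rc_23_9 lc_g_rc_26_0 lc_g_rc_26_6 lc_g_rc_26_6) (@D3.rec (fun _ => (Cert rels S Gen.g)) lc_g_rc_23_1 lc_g_rc_26_3 lc_g_rc_21_3 lc_g_rc_25_3 lc_g_rc_21_3 lc_g_Cert_tree lc_g_rc_21_2 lc_g_rc_21_2 lc_g_rc_26_6 lc_g_rc_23_3 lc_g_rc_23_7 lc_g_rc_21_2 lc_g_rc_24_3 lc_g_rc_27_6 lc_g_rc_21_3 lc_g_rc_23_1 lc_g_rc_23_1 lc_g_rc_21_3 lc_g_rc_23_1 lc_g_rc_27_9 lc_g_Cert_tree lc_g_rc_23_3 lc_g_Cert_tree lc_g_rc_21_3 lc_g_rc_23_7 lc_g_rc_27_6 lc_g_rc_21_3 lc_g_Cert_tree lc_g_rc_26_6 lc_g_rc_24_7 lc_g_Cert_tree lc_g_Cert_tree lc_g_rc_21_3 lc_g_Cert_tree lc_g_rc_27_3 lc_g_rc_27_6 lc_g_rc_23_1 lc_g_rc_27_3 lc_g_rc_24_7 lc_g_rc_24_1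 lc_g_rc_23_3 lc_g_rc_21_2 lc_g_rc_21_2 lc_g_Cert_tree lc_g_rc_21_3 lc_g_rc_24_1 lc_g_rc_21_3 lc_g_Cert_tree lc_g_Cert_tree lc_g_rc_21_2 lc_g_rc_24_9 lc_g_rc_26_0 lc_g_rc_23_3 lc_g_Cert_tree lc_g_rc_27_6 lc_g_rc_21_3 lc_g_Cert_tree lc_g_rc_23_1 lc_g_rc_21_3 lc_g_Cert_tree lc_g_rc_26_6 lc_g_rc_26_9) (@D3.rec (fun _ => (Cert rels S Gen.g)) lc_g_rc_27_0 lc_g_Cert_tree lc_g_rc_26_9 lc_g_rc_23_3 lc_g_rc_21_3 lc_g_rc_23_1 lc_g_rc_27_6 lc_g_rc_27_3 lc_g_rc_21_2 lc_g_rc_24_3 lc_g_rc_21_3 lc_g_Cert_tree lc_g_Cert_tree lc_g_rc_21_2 lc_g_rc_21_2 lc_g_rc_21_2 lc_g_rc_21_2 lc_g_rc_21_3 lc_g_rc_21_2 lc_g_rc_27_3 lc_g_rc_27_3 lc_g_Cert_tree lc_g_rc_21_3 lc_g_Cert_tree lc_g_rc_26_3 lc_g_rc_26_3 lc_g_Cert_tree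 lc_g_rc_21_3 lc_g_Cert_tree lc_g_rc_21_3 lc_g_Cert_tree lc_g_rc_26_6 lc_g_rc_27_0 lc_g_rc_26_9 lc_g_rc_27_0 lc_g_rc_24_9 lc_g_rc_23_9 lc_g_rc_24_9 lc_g_rc_23_1 lc_g_rc_23_3 lc_g_rc_23_7 lc_g_rc_26_3 lc_g_rc_21_3 lc_g_rc_27_0 lc_g_rc_26_3 lc_g_Cert_tree lc_g_Cert_tree lc_g_rc_24_9 lc_g_rc_27_0 lc_g_rc_24_1 lc_g_rc_23_3 lc_g_Cert_tree lc_g_rc_21_3 lc_g_Cert_tree lc_g_rc_27_3 lc_g_rc_23_9 lc_g_rc_25_11 lc_g_rc_23_1 lc_g_Cert_tree lc_g_rc_24_7 lc_g_Cert_tree lc_g_rc_27_6) (@D3.rec (fun _ => (Cert rels S Gen.g)) lc_g_rc_21_3 lc_g_Cert_tree lc_g_rc_23_3 lc_g_rc_21_2 lc_g_rc_24_1 lc_g_rc_23_3 lc_g_rc_27_6 lc_g_rc_23_1 lc_g_Cert_tree lc_g_rc_27_6 lc_g_rc_21_3 lc_g_rc_23_1 lc_g_rc_23_1 lc_g_Cert_tree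 lc_g_Cert_tree lc_g_rc_21_2 lc_g_rc_21_2 lc_g_rc_23_1 lc_g_rc_21_2 lc_g_rc_21_2 lc_g_rc_24_1 lc_g_Cert_tree lc_g_rc_27_6 lc_g_rc_26_3 lc_g_rc_27_9 lc_g_rc_21_2 lc_g_rc_21_2 lc_g_rc_21_2 lc_g_rc_21_2 lc_g_rc_23_1 lc_g_Cert_tree lc_g_rc_23_1 lc_g_rc_24_3 lc_g_rc_21_3 lc_g_rc_24_1 lc_g_rc_27_0 lc_g_rc_27_0 lc_g_Cert_tree lc_g_rc_21_3 lc_g_Cert_tree lc_g_rc_26_3 lc_g_rc_26_9 lc_g_rc_27_0 lc_g_rc_21_3 lc_g_rc_27_0 lc_g_rc_26_6 lc_g_rc_21_3 lc_g_rc_23_9 lc_g_rc_21_3 lc_g_Cert_tree lc_g_rc_27_3 lc_g_rc_27_6 lc_g_rc_26_9 lc_g_rc_21_2 lc_g_rc_24_7 lc_g_rc_24_1 lc_g_rc_27_6 lc_g_rc_27_6 lc_g_rc_24_3 lc_g_rc_21_3 lc_g_rc_27_3 lc_g_rc_21_2) (@D3.rec (fun _ => (Cert rels S Gen.g)) lc_g_rc_26_6 lc_g_rc_27_6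 lc_g_rc_21_2 lc_g_rc_21_3 lc_g_Cert_tree lc_g_rc_21_3 lc_g_rc_21_3 lc_g_rc_27_6 lc_g_rc_27_3 lc_g_rc_21_3 lc_g_rc_27_6 lc_g_rc_21_2 lc_g_Cert_tree lc_g_rc_26_9 lc_g_rc_27_3 lc_g_rc_21_2 lc_g_Cert_tree lc_g_rc_21_2 lc_g_rc_24_1 lc_g_rc_27_6 lc_g_Cert_tree lc_g_rc_24_3 lc_g_Cert_tree lc_g_rc_23_3 lc_g_rc_21_3 lc_g_Cert_tree lc_g_rc_21_2 lc_g_rc_21_2 lc_g_rc_27_6 lc_g_rc_27_9 lc_g_rc_21_3 lc_g_Cert_tree lc_g_rc_21_2 lc_g_rc_24_7 lc_g_rc_27_6 lc_g_rc_27_3 lc_g_rc_21_3 lc_g_Cert_tree lc_g_rc_21_2 lc_g_rc_25_7 lc_g_rc_21_2 lc_g_rc_21_2 lc_g_rc_23_3 lc_g_rc_24_9 lc_g_Cert_tree lc_g_rc_27_0 lc_g_rc_24_3 lc_g_rc_27_6 lc_g_rc_21_2 lc_g_rc_21_3 lc_g_Cert_tree lc_g_rc_26_3 lc_g_Cert_tree lc_g_rc_21_2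 lc_g_rc_21_3 lc_g_Cert_tree lc_g_rc_26_0 lc_g_rc_27_6 lc_g_Cert_tree lc_g_rc_23_1 lc_g_rc_24_7 lc_g_rc_27_6) (@D3.rec (fun _ => (Cert rels S Gen.g)) lc_g_rc_27_0 lc_g_rc_24_1 lc_g_rc_23_7 lc_g_rc_21_2 lc_g_rc_21_3 lc_g_Cert_tree lc_g_rc_26_3 lc_g_Cert_tree lc_g_rc_27_3 lc_g_rc_27_6 lc_g_rc_26_3 lc_g_Cert_tree lc_g_rc_21_2 lc_g_rc_27_3 lc_g_rc_27_9 lc_g_rc_26_0 lc_g_rc_21_2 lc_g_rc_21_2 lc_g_rc_24_7 lc_g_rc_23_3 lc_g_rc_26_6 lc_g_rc_21_3 lc_g_rc_26_6 lc_g_rc_27_0 lc_g_rc_21_2 lc_g_rc_27_0 lc_g_rc_21_2 lc_g_rc_21_3 lc_g_Cert_tree lc_g_rc_27_6 lc_g_rc_26_6 lc_g_rc_21_3 lc_g_Cert_tree lc_g_Cert_tree lc_g_rc_26_6 lc_g_rc_23_7 lc_g_rc_21_3 lc_g_Cert_tree lc_g_rc_21_2 lc_g_rc_21_2 lc_g_rc_27_3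 lc_g_rc_21_3 lc_g_rc_23_7 lc_g_rc_21_3 lc_g_rc_21_2 lc_g_rc_26_0 lc_g_rc_26_9 lc_g_rc_27_6 lc_g_rc_21_3 lc_g_rc_21_3 lc_g_rc_21_3 lc_g_rc_23_1 lc_g_rc_25_3 lc_g_rc_26_6 lc_g_rc_24_7 lc_g_Cert_tree lc_g_rc_26_0 lc_g_rc_21_3 lc_g_Cert_tree lc_g_rc_26_6 lc_g_rc_21_3 lc_g_rc_24_9) (@D3.rec (fun _ => (Cert rels S Gen.g)) lc_g_rc_27_6 lc_g_rc_21_3 lc_g_rc_24_9 lc_g_rc_27_6 lc_g_Cert_tree lc_g_rc_21_3 lc_g_Cert_tree lc_g_rc_27_3 lc_g_rc_26_3 lc_g_rc_25_7 lc_g_rc_21_3 lc_g_Cert_tree lc_g_rc_21_2 lc_g_rc_26_3 lc_g_rc_21_3 lc_g_Cert_tree lc_g_rc_25_11 lc_g_rc_21_2 lc_g_rc_26_0 lc_g_rc_27_9 lc_g_rc_27_0 lc_g_rc_24_7 lc_g_rc_21_3 lc_g_Cert_tree lc_g_Cert_tree lc_g_rc_21_2 lc_g_rc_23_3 lc_g_rc_21_3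 lc_g_rc_23_7 lc_g_rc_27_0 lc_g_Cert_tree lc_g_rc_24_1 lc_g_rc_21_2 lc_g_rc_21_3 lc_g_rc_23_3 lc_g_rc_21_3 lc_g_rc_26_6 lc_g_rc_26_0 lc_g_rc_23_7 lc_g_rc_21_3 lc_g_rc_21_3 lc_g_rc_24_9 lc_g_rc_21_2 lc_g_rc_21_2 lc_g_Cert_tree lc_g_rc_21_2 lc_g_rc_21_3 lc_g_rc_21_2 lc_g_Cert_tree lc_g_rc_21_3 lc_g_rc_21_3 lc_g_Cert_tree lc_g_rc_24_7 lc_g_rc_24_1 lc_g_rc_21_2 lc_g_rc_24_3 lc_g_rc_21_3 lc_g_rc_21_2 lc_g_rc_27_3 lc_g_rc_26_9 lc_g_rc_26_3 lc_g_rc_21_3) (@D3.rec (fun _ => (Cert rels S Gen.g)) lc_g_rc_21_3 lc_g_rc_24_9 lc_g_Cert_tree lc_g_rc_27_6 lc_g_rc_21_3 lc_g_Cert_tree lc_g_rc_27_3 lc_g_rc_21_2 lc_g_rc_27_9 lc_g_rc_25_15 lc_g_rc_21_3 lc_g_Cert_tree lc_g_rc_21_2 lc_g_rc_27_9 lc_g_rc_26_0 lc_g_rc_24_1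 lc_g_rc_26_9 lc_g_Cert_tree lc_g_rc_21_2 lc_g_rc_21_3 lc_g_Cert_tree lc_g_rc_21_2 lc_g_rc_21_3 lc_g_rc_26_6 lc_g_rc_21_3 lc_g_rc_27_6 lc_g_rc_21_3 lc_g_Cert_tree lc_g_rc_21_2 lc_g_rc_21_3 lc_g_Cert_tree lc_g_rc_27_3 lc_g_rc_26_3 lc_g_rc_21_2 lc_g_rc_26_6 lc_g_rc_27_9 lc_g_rc_21_3 lc_g_rc_26_6 lc_g_rc_27_0 lc_g_rc_21_3 lc_g_rc_21_3 lc_g_Cert_tree lc_g_rc_21_2 lc_g_rc_24_1 lc_g_rc_21_3 lc_g_Cert_tree lc_g_rc_21_2 lc_g_Cert_tree lc_g_rc_21_2 lc_g_Cert_tree lc_g_rc_21_2 lc_g_rc_26_0 lc_g_rc_21_3 lc_g_rc_21_3 lc_g_rc_26_9 lc_g_rc_27_6 lc_g_rc_21_2 lc_g_rc_21_3 lc_g_Cert_tree lc_g_rc_21_2 lc_g_rc_21_3 lc_g_rc_23_3) (@D3.rec (fun _ => (Cert rels S Gen.g)) lc_g_rc_21_2 lc_g_rc_26_0 lc_g_rc_21_2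 lc_g_rc_23_3 lc_g_rc_24_3 lc_g_rc_21_3 lc_g_rc_26_0 lc_g_Cert_tree lc_g_rc_24_7 lc_g_rc_26_6 lc_g_rc_26_6 lc_g_rc_26_0 lc_g_rc_21_2 lc_g_rc_21_3 lc_g_Cert_tree lc_g_rc_21_2 lc_g_rc_21_3 lc_g_rc_27_6 lc_g_rc_21_3 lc_g_rc_21_2 lc_g_rc_26_0 lc_g_rc_26_6 lc_g_rc_25_3 lc_g_rc_21_2 lc_g_rc_21_2 lc_g_rc_21_2 lc_g_Cert_tree lc_g_rc_21_3 lc_g_rc_21_2 lc_g_rc_26_3 lc_g_Cert_tree lc_g_rc_27_6 lc_g_rc_21_2 lc_g_rc_21_3 lc_g_rc_21_3 lc_g_rc_21_2 lc_g_rc_26_0 lc_g_rc_23_9 lc_g_rc_26_9 lc_g_rc_27_6 lc_g_rc_24_3 lc_g_rc_21_3 lc_g_Cert_tree lc_g_rc_21_2 lc_g_rc_27_0 lc_g_rc_21_3 lc_g_rc_21_3 lc_g_Cert_tree lc_g_rc_21_2 lc_g_Cert_tree lc_g_rc_21_2 lc_g_rc_24_1 lc_g_rc_26_9 lc_g_rc_21_2 lc_g_Cert_tree lc_g_rc_21_2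 lc_g_rc_24_1 lc_g_Cert_tree lc_g_rc_21_3 lc_g_Cert_tree lc_g_rc_21_2 lc_g_rc_25_19) (@D3.rec (fun _ => (Cert rels S Gen.g)) lc_g_rc_21_2 lc_g_rc_23_3 lc_g_rc_27_3 lc_g_rc_21_2 lc_g_Cert_tree lc_g_rc_26_0 lc_g_Cert_tree lc_g_rc_27_9 lc_g_rc_21_3 lc_g_rc_23_1 lc_g_rc_21_3 lc_g_Cert_tree lc_g_rc_21_3 lc_g_rc_21_2 lc_g_rc_27_9 lc_g_rc_23_9 lc_g_rc_26_3 lc_g_rc_26_3 lc_g_rc_27_3 lc_g_rc_21_3 lc_g_rc_23_7 lc_g_rc_23_9 lc_g_rc_24_3 lc_g_rc_21_3 lc_g_Cert_tree lc_g_rc_24_9 lc_g_rc_23_3 lc_g_rc_24_7 lc_g_rc_26_0 lc_g_rc_21_3 lc_g_Cert_tree lc_g_Cert_tree lc_g_rc_26_6 lc_g_Cert_tree lc_g_Cert_tree lc_g_rc_26_6 lc_g_rc_25_7 lc_g_Cert_tree lc_g_rc_21_2 lc_g_rc_21_3 lc_g_rc_27_0 lc_g_rc_23_1 lc_g_rc_23_7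 lc_g_rc_21_2 lc_g_rc_23_7 lc_g_rc_27_3 lc_g_rc_21_2 lc_g_rc_21_3 lc_g_Cert_tree lc_g_Cert_tree lc_g_Cert_tree lc_g_rc_24_3 lc_g_rc_26_0 lc_g_rc_24_3 lc_g_rc_21_2 lc_g_rc_27_9 lc_g_rc_25_3 lc_g_rc_23_9 lc_g_rc_21_3 lc_g_Cert_tree lc_g_rc_21_2 lc_g_rc_26_0) (@D3.rec (fun _ => (Cert rels S Gen.g)) lc_g_rc_27_3 lc_g_Cert_tree lc_g_rc_26_0 lc_g_rc_21_3 lc_g_rc_23_3 lc_g_rc_21_2 lc_g_rc_26_3 lc_g_rc_23_3 lc_g_rc_24_1 lc_g_rc_21_2 lc_g_rc_23_9 lc_g_rc_21_3 lc_g_rc_21_3 lc_g_rc_21_2 lc_g_rc_23_7 lc_g_rc_24_1 lc_g_rc_27_3 lc_g_rc_26_6 lc_g_rc_21_3 lc_g_Cert_tree lc_g_rc_21_3 lc_g_rc_24_1 lc_g_rc_21_3 lc_g_rc_21_2 lc_g_rc_23_1 lc_g_rc_24_1 lc_g_rc_23_1 lc_g_rc_24_7 lc_g_rc_26_3 lc_g_Cert_tree lc_g_Cert_tree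 lc_g_rc_26_0 lc_g_rc_21_3 lc_g_Cert_tree lc_g_rc_24_7 lc_g_Cert_tree lc_g_rc_21_3 lc_g_rc_21_3 lc_g_Cert_tree lc_g_rc_26_9 lc_g_Cert_tree lc_g_Cert_tree lc_g_Cert_tree lc_g_rc_27_9 lc_g_rc_21_2 lc_g_rc_21_3 lc_g_rc_21_2 lc_g_Cert_tree lc_g_rc_27_0 lc_g_Cert_tree lc_g_rc_27_0 lc_g_Cert_tree lc_g_rc_21_3 lc_g_rc_27_6 lc_g_rc_27_3 lc_g_rc_27_9 lc_g_rc_27_6 lc_g_rc_23_3 lc_g_rc_21_2 lc_g_Cert_tree lc_g_rc_21_3 lc_g_Cert_tree) (@D3.rec (fun _ => (Cert rels S Gen.g)) lc_g_rc_26_3 lc_g_rc_21_2 lc_g_rc_21_2 lc_g_rc_21_2 lc_g_rc_26_0 lc_g_rc_27_9 lc_g_rc_21_3 lc_g_Cert_tree lc_g_rc_23_3 lc_g_rc_23_7 lc_g_rc_27_6 lc_g_rc_21_3 lc_g_Cert_tree lc_g_rc_21_2 lc_g_Cert_tree lc_g_rc_23_1 lc_g_rc_21_2 lc_g_rc_24_1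 lc_g_rc_24_7 lc_g_rc_21_3 lc_g_Cert_tree lc_g_Cert_tree lc_g_rc_21_2 lc_g_rc_21_2 lc_g_rc_26_6 lc_g_rc_21_3 lc_g_Cert_tree lc_g_rc_21_2 lc_g_rc_24_7 lc_g_rc_26_6 lc_g_rc_21_3 lc_g_Cert_tree lc_g_rc_21_2 lc_g_Cert_tree lc_g_rc_27_3 lc_g_rc_25_11 lc_g_rc_21_3 lc_g_Cert_tree lc_g_rc_23_1 lc_g_rc_23_9 lc_g_rc_26_6 lc_g_rc_21_2 lc_g_Cert_tree lc_g_rc_21_3 lc_g_Cert_tree lc_g_rc_24_3 lc_g_rc_23_3 lc_g_rc_24_3 lc_g_rc_27_0 lc_g_rc_21_3 lc_g_Cert_tree lc_g_rc_21_2 lc_g_rc_27_6 lc_g_rc_26_6 lc_g_rc_27_3 lc_g_rc_23_9 lc_g_rc_26_6 lc_g_rc_24_7 lc_g_rc_26_9 lc_g_rc_27_9 lc_g_rc_27_0 lc_g_rc_27_9) (@D3.rec (fun _ => (Cert rels S Gen.g)) lc_g_rc_21_3 lc_g_rc_27_3 lc_g_rc_21_2 lc_g_rc_27_3 lc_g_rc_26_9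 lc_g_Cert_tree lc_g_rc_24_7 lc_g_rc_26_6 lc_g_Cert_tree lc_g_rc_21_2 lc_g_rc_26_6 lc_g_rc_26_0 lc_g_rc_23_3 lc_g_rc_26_6 lc_g_rc_24_3 lc_g_rc_27_3 lc_g_Cert_tree lc_g_rc_21_2 lc_g_rc_27_6 lc_g_rc_21_2 lc_g_rc_21_2 lc_g_rc_25_11 lc_g_rc_21_3 lc_g_Cert_tree lc_g_rc_27_3 lc_g_Cert_tree lc_g_rc_24_3 lc_g_rc_26_3 lc_g_rc_23_3 lc_g_Cert_tree lc_g_rc_21_3 lc_g_rc_24_3 lc_g_rc_21_3 lc_g_Cert_tree lc_g_rc_21_2 lc_g_rc_24_1 lc_g_rc_24_3 lc_g_rc_27_6 lc_g_rc_27_6 lc_g_rc_27_3 lc_g_rc_25_19 lc_g_rc_27_3 lc_g_rc_21_2 lc_g_Cert_tree lc_g_rc_21_2 lc_g_rc_27_9 lc_g_rc_24_7 lc_g_rc_26_6 lc_g_rc_21_3 lc_g_Cert_tree lc_g_rc_21_2 lc_g_rc_21_2 lc_g_rc_23_3 lc_g_rc_26_6 lc_g_Cert_tree lc_g_rc_21_3 lc_g_rc_26_3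 lc_g_rc_21_2 lc_g_rc_23_3 lc_g_rc_21_3 lc_g_Cert_tree lc_g_rc_26_3) (@D3.rec (fun _ => (Cert rels S Gen.g)) lc_g_rc_21_2 lc_g_rc_23_3 lc_g_rc_21_3 lc_g_rc_23_3 lc_g_rc_23_1 lc_g_rc_23_7 lc_g_rc_27_3 lc_g_rc_26_3 lc_g_rc_23_7 lc_g_rc_25_11 lc_g_rc_23_1 lc_g_rc_27_3 lc_g_rc_24_7 lc_g_rc_24_3 lc_g_rc_21_3 lc_g_rc_21_3 lc_g_rc_24_9 lc_g_rc_23_3 lc_g_Cert_tree lc_g_rc_21_2 lc_g_rc_23_3 lc_g_rc_21_2 lc_g_Cert_tree lc_g_rc_27_9 lc_g_Cert_tree lc_g_rc_21_2 lc_g_rc_27_9 lc_g_rc_27_6 lc_g_rc_27_3 lc_g_Cert_tree lc_g_rc_24_3 lc_g_rc_26_0 lc_g_rc_24_1 lc_g_rc_21_2 lc_g_rc_21_2 lc_g_Cert_tree lc_g_rc_23_3 lc_g_rc_21_3 lc_g_Cert_tree lc_g_rc_21_2 lc_g_rc_27_6 lc_g_Cert_tree lc_g_rc_21_3 lc_g_Cert_tree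 lc_g_rc_21_3 lc_g_rc_26_6 lc_g_rc_26_6 lc_g_rc_26_3 lc_g_rc_21_2 lc_g_rc_21_3 lc_g_Cert_tree lc_g_rc_26_6 lc_g_rc_26_9 lc_g_rc_24_1 lc_g_rc_27_6 lc_g_rc_21_3 lc_g_rc_27_0 lc_g_rc_21_3 lc_g_Cert_tree lc_g_rc_26_6 lc_g_rc_21_2 lc_g_rc_21_2) (@D3.rec (fun _ => (Cert rels S Gen.g)) lc_g_rc_27_6 lc_g_rc_21_2 lc_g_rc_21_2 lc_g_rc_21_3 lc_g_rc_21_3 lc_g_rc_21_2 lc_g_rc_21_3 lc_g_Cert_tree lc_g_rc_26_6 lc_g_Cert_tree lc_g_rc_24_1 lc_g_rc_27_3 lc_g_rc_26_6 lc_g_rc_23_1 lc_g_rc_26_3 lc_g_rc_24_1 lc_g_rc_21_3 lc_g_rc_21_3 lc_g_Cert_tree lc_g_rc_26_3 lc_g_rc_26_3 lc_g_rc_27_6 lc_g_rc_27_0 lc_g_rc_26_3 lc_g_rc_25_19 lc_g_rc_26_3 lc_g_rc_27_0 lc_g_rc_21_3 lc_g_rc_21_3 lc_g_rc_24_3 lc_g_Cert_tree lc_g_rc_27_9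 lc_g_rc_23_3 lc_g_rc_21_2 lc_g_Cert_tree lc_g_rc_27_3 lc_g_rc_21_2 lc_g_rc_26_9 lc_g_rc_27_9 lc_g_rc_27_9 lc_g_rc_21_3 lc_g_rc_21_3 lc_g_Cert_tree lc_g_rc_23_3 lc_g_rc_21_2 lc_g_rc_21_3 lc_g_rc_23_1 lc_g_rc_23_3 lc_g_rc_26_3 lc_g_rc_21_3 lc_g_rc_27_6 lc_g_rc_21_3 lc_g_Cert_tree lc_g_rc_21_2 lc_g_rc_23_3 lc_g_rc_21_2 lc_g_rc_23_1 lc_g_rc_21_2 lc_g_rc_21_3 lc_g_Cert_tree lc_g_rc_23_7 lc_g_rc_23_1) (@D3.rec (fun _ => (Cert rels S Gen.g)) lc_g_Cert_tree lc_g_rc_21_3 lc_g_rc_21_3 lc_g_rc_21_2 lc_g_Cert_tree lc_g_rc_24_7 lc_g_rc_27_3 lc_g_rc_24_1 lc_g_Cert_tree lc_g_rc_21_3 lc_g_rc_26_9 lc_g_rc_21_3 lc_g_rc_21_3 lc_g_rc_23_1 lc_g_rc_24_7 lc_g_rc_24_3 lc_g_rc_26_3 lc_g_rc_24_7 lc_g_rc_21_3 lc_g_Cert_tree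 lc_g_rc_26_0 lc_g_rc_21_2 lc_g_rc_24_1 lc_g_rc_26_0 lc_g_rc_24_1 lc_g_rc_24_3 lc_g_Cert_tree lc_g_rc_21_3 lc_g_rc_23_9 lc_g_Cert_tree lc_g_rc_26_3 lc_g_rc_24_9 lc_g_rc_21_2 lc_g_rc_24_3 lc_g_rc_27_3 lc_g_rc_21_2 lc_g_rc_21_3 lc_g_rc_21_2 lc_g_rc_24_7 lc_g_rc_23_3 lc_g_rc_21_2 lc_g_rc_21_3 lc_g_Cert_tree lc_g_rc_21_2 lc_g_rc_24_7 lc_g_rc_26_3 lc_g_Cert_tree lc_g_rc_21_2 lc_g_rc_21_2 lc_g_rc_26_9 lc_g_rc_26_3 lc_g_Cert_tree lc_g_rc_26_3 lc_g_rc_21_3 lc_g_Cert_tree lc_g_rc_21_2 lc_g_rc_26_0 lc_g_rc_21_3 lc_g_Cert_tree lc_g_rc_23_3 lc_g_rc_24_3 lc_g_rc_24_9) (@D3.rec (fun _ => (Cert rels S Gen.g)) lc_g_rc_24_7 lc_g_rc_26_9 lc_g_rc_27_0 lc_g_rc_26_9 lc_g_rc_21_2 lc_g_rc_27_3 lc_g_Cert_tree lc_g_rc_27_3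 lc_g_rc_21_3 lc_g_Cert_tree lc_g_rc_21_2 lc_g_rc_26_0 lc_g_Cert_tree lc_g_rc_23_9 lc_g_rc_23_3 lc_g_rc_21_3 lc_g_Cert_tree lc_g_rc_26_0 lc_g_rc_24_7 lc_g_rc_26_9 lc_g_rc_21_3 lc_g_rc_26_9 lc_g_rc_21_2 lc_g_Cert_tree lc_g_rc_27_6 lc_g_Cert_tree lc_g_rc_26_9 lc_g_rc_24_1 lc_g_rc_23_3 lc_g_rc_25_15 lc_g_rc_21_3 lc_g_Cert_tree lc_g_rc_26_9 lc_g_rc_27_6 lc_g_rc_21_2 lc_g_rc_23_1 lc_g_rc_21_2 lc_g_Cert_tree lc_g_Cert_tree lc_g_rc_21_2 lc_g_rc_26_0 lc_g_rc_23_3 lc_g_Cert_tree lc_g_rc_21_2 lc_g_Cert_tree lc_g_rc_21_3 lc_g_Cert_tree lc_g_rc_27_6 lc_g_rc_21_3 lc_g_rc_27_6 lc_g_rc_23_3 lc_g_Cert_tree lc_g_rc_21_3 lc_g_Cert_tree lc_g_rc_21_2 lc_g_rc_21_2 lc_g_Cert_tree lc_g_rc_21_3 lc_g_Cert_tree lc_g_rc_24_9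 lc_g_rc_27_6 lc_g_rc_27_6) (@D3.rec (fun _ => (Cert rels S Gen.g)) lc_g_rc_21_3 lc_g_Cert_tree lc_g_rc_21_2 lc_g_rc_21_2 lc_g_rc_21_2 lc_g_rc_23_7 lc_g_rc_26_9 lc_g_rc_23_7 lc_g_rc_24_3 lc_g_rc_25_19 lc_g_rc_26_6 lc_g_rc_23_1 lc_g_Cert_tree lc_g_rc_27_6 lc_g_rc_26_3 lc_g_Cert_tree lc_g_rc_21_2 lc_g_rc_21_3 lc_g_Cert_tree lc_g_rc_21_2 lc_g_rc_21_2 lc_g_rc_26_9 lc_g_rc_21_3 lc_g_Cert_tree lc_g_rc_25_7 lc_g_rc_27_6 lc_g_rc_23_3 lc_g_rc_21_2 lc_g_rc_23_7 lc_g_Cert_tree lc_g_rc_26_6 lc_g_rc_27_3 lc_g_rc_26_9 lc_g_rc_24_3 lc_g_rc_26_0 lc_g_rc_21_3 lc_g_rc_21_3 lc_g_Cert_tree lc_g_rc_27_0 lc_g_rc_23_7 lc_g_rc_24_3 lc_g_rc_27_0 lc_g_rc_21_2 lc_g_rc_24_3 lc_g_rc_24_1 lc_g_rc_27_3 lc_g_rc_24_7 lc_g_rc_23_3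 lc_g_rc_21_3 lc_g_Cert_tree lc_g_rc_26_9 lc_g_rc_21_2 lc_g_rc_21_2 lc_g_rc_21_2 lc_g_rc_21_3 lc_g_Cert_tree lc_g_rc_21_2 lc_g_rc_27_3 lc_g_Cert_tree lc_g_rc_21_2 lc_g_rc_21_3 lc_g_Cert_tree) (@D3.rec (fun _ => (Cert rels S Gen.g)) lc_g_rc_23_3 lc_g_rc_21_2 lc_g_rc_27_0 lc_g_rc_21_3 lc_g_rc_27_9 lc_g_Cert_tree lc_g_Cert_tree lc_g_rc_21_2 lc_g_rc_21_3 lc_g_Cert_tree lc_g_rc_21_3 lc_g_rc_21_3 lc_g_Cert_tree lc_g_rc_21_2 lc_g_rc_26_9 lc_g_Cert_tree lc_g_rc_24_1 lc_g_rc_27_3 lc_g_rc_27_9 lc_g_rc_21_2 lc_g_rc_21_3 lc_g_Cert_tree lc_g_rc_24_1 lc_g_rc_21_2 lc_g_rc_21_2 lc_g_rc_23_3 lc_g_rc_21_2 lc_g_rc_27_3 lc_g_rc_25_15 lc_g_rc_24_1 lc_g_rc_21_3 lc_g_rc_26_3 lc_g_rc_24_1 lc_g_rc_26_0 lc_g_rc_23_3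 lc_g_rc_27_3 lc_g_rc_23_1 lc_g_rc_27_6 lc_g_rc_23_7 lc_g_rc_24_9 lc_g_rc_26_9 lc_g_rc_27_6 lc_g_rc_24_1 lc_g_Cert_tree lc_g_rc_21_2 lc_g_Cert_tree lc_g_rc_27_0 lc_g_Cert_tree lc_g_rc_27_3 lc_g_rc_27_6 lc_g_rc_27_9 lc_g_rc_21_3 lc_g_Cert_tree lc_g_rc_21_3 lc_g_rc_21_2 lc_g_rc_27_3 lc_g_rc_21_2 lc_g_rc_21_2 lc_g_rc_24_7 lc_g_rc_21_3 lc_g_Cert_tree lc_g_rc_27_6) (@D3.rec (fun _ => (Cert rels S Gen.g)) lc_g_rc_27_3 lc_g_rc_26_6 lc_g_rc_27_3 lc_g_rc_21_3 lc_g_rc_26_3 lc_g_rc_21_3 lc_g_rc_21_3 lc_g_rc_21_3 lc_g_rc_27_9 lc_g_rc_21_3 lc_g_rc_21_2 lc_g_Cert_tree lc_g_rc_26_9 lc_g_rc_23_3 lc_g_Cert_tree lc_g_rc_23_7 lc_g_rc_26_6 lc_g_rc_21_2 lc_g_rc_26_6 lc_g_rc_27_0 lc_g_rc_26_3 lc_g_Cert_tree lc_g_rc_26_9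 lc_g_rc_24_7 lc_g_rc_27_3 lc_g_rc_21_2 lc_g_rc_26_0 lc_g_rc_27_3 lc_g_Cert_tree lc_g_rc_27_3 lc_g_rc_24_1 lc_g_rc_26_6 lc_g_rc_27_3 lc_g_rc_24_7 lc_g_rc_23_3 lc_g_rc_23_3 lc_g_rc_21_2 lc_g_rc_21_3 lc_g_Cert_tree lc_g_rc_23_3 lc_g_rc_21_2 lc_g_rc_21_3 lc_g_rc_27_6 lc_g_rc_26_3 lc_g_rc_26_6 lc_g_rc_27_9 lc_g_rc_21_2 lc_g_rc_27_9 lc_g_rc_23_3 lc_g_rc_26_6 lc_g_rc_27_3 lc_g_rc_23_9 lc_g_rc_26_0 lc_g_rc_27_6 lc_g_rc_24_3 lc_g_Cert_tree lc_g_rc_21_3 lc_g_rc_21_2 lc_g_rc_27_9 lc_g_rc_21_3 lc_g_Cert_tree lc_g_rc_21_2) (@D3.rec (fun _ => (Cert rels S Gen.g)) lc_g_rc_21_3 lc_g_Cert_tree lc_g_rc_26_3 lc_g_rc_23_3 lc_g_Cert_tree lc_g_rc_23_9 lc_g_rc_26_6 lc_g_Cert_tree lc_g_Cert_tree lc_g_rc_27_9 lc_g_rc_27_0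 lc_g_Cert_tree lc_g_rc_26_9 lc_g_Cert_tree lc_g_rc_26_3 lc_g_rc_24_7 lc_g_rc_26_3 lc_g_Cert_tree lc_g_rc_23_3 lc_g_Cert_tree lc_g_rc_21_2 lc_g_rc_23_3 lc_g_Cert_tree lc_g_rc_21_3 lc_g_rc_27_0 lc_g_rc_21_3 lc_g_rc_27_6 lc_g_Cert_tree lc_g_rc_23_1 lc_g_rc_21_3 lc_g_rc_26_0 lc_g_rc_27_3 lc_g_rc_21_2 lc_g_rc_25_19 lc_g_Cert_tree lc_g_rc_21_3 lc_g_Cert_tree lc_g_rc_21_2 lc_g_rc_27_6 lc_g_Cert_tree lc_g_rc_24_3 lc_g_rc_21_3 lc_g_rc_21_3 lc_g_rc_21_3 lc_g_Cert_tree lc_g_rc_27_3 lc_g_rc_21_3 lc_g_rc_21_3 lc_g_rc_27_6 lc_g_rc_27_9 lc_g_rc_26_6 lc_g_rc_27_3 lc_g_Cert_tree lc_g_rc_21_2 lc_g_rc_21_2 lc_g_Cert_tree lc_g_rc_24_7 lc_g_Cert_tree lc_g_rc_21_3 lc_g_rc_21_2 lc_g_rc_21_2 lc_g_rc_21_3) (@D3.rec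 (fun _ => (Cert rels S Gen.g)) lc_g_rc_26_3 lc_g_rc_23_3 lc_g_rc_21_3 lc_g_rc_21_3 lc_g_rc_24_1 lc_g_rc_23_3 lc_g_rc_21_2 lc_g_rc_24_7 lc_g_rc_21_2 lc_g_Cert_tree lc_g_rc_26_9 lc_g_rc_23_3 lc_g_rc_21_3 lc_g_Cert_tree lc_g_rc_27_9 lc_g_rc_27_9 lc_g_Cert_tree lc_g_rc_21_2 lc_g_rc_21_2 lc_g_rc_27_0 lc_g_rc_27_3 lc_g_rc_26_0 lc_g_Cert_tree lc_g_rc_21_2 lc_g_rc_21_3 lc_g_Cert_tree lc_g_Cert_tree lc_g_rc_21_2 lc_g_Cert_tree lc_g_rc_24_9 lc_g_rc_27_0 lc_g_rc_27_3 lc_g_Cert_tree lc_g_rc_21_3 lc_g_rc_21_3 lc_g_rc_23_3 lc_g_rc_21_2 lc_g_rc_21_2 lc_g_rc_27_9 lc_g_rc_27_3 lc_g_Cert_tree lc_g_rc_27_0 lc_g_rc_27_3 lc_g_rc_26_3 lc_g_rc_24_1 lc_g_rc_23_3 lc_g_rc_26_3 lc_g_rc_27_0 lc_g_rc_24_7 lc_g_rc_27_6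 lc_g_rc_24_3 lc_g_rc_21_2 lc_g_rc_24_3 lc_g_Cert_tree lc_g_rc_23_1 lc_g_rc_24_3 lc_g_rc_27_6 lc_g_Cert_tree lc_g_rc_23_7 lc_g_rc_27_0 lc_g_rc_27_3 lc_g_Cert_tree) (@D3.rec (fun _ => (Cert rels S Gen.g)) lc_g_Cert_tree lc_g_rc_26_3 lc_g_rc_23_9 lc_g_rc_24_1 lc_g_rc_24_7 lc_g_rc_23_3 lc_g_rc_23_7 lc_g_rc_27_3 lc_g_Cert_tree lc_g_rc_23_3 lc_g_rc_21_3 lc_g_rc_21_3 lc_g_Cert_tree lc_g_rc_23_1 lc_g_rc_23_3 lc_g_Cert_tree lc_g_rc_27_3 lc_g_rc_23_1 lc_g_Cert_tree lc_g_rc_21_2 lc_g_Cert_tree lc_g_Cert_tree lc_g_rc_24_1 lc_g_rc_23_3 lc_g_Cert_tree lc_g_rc_21_2 lc_g_rc_26_9 lc_g_rc_26_3 lc_g_Cert_tree lc_g_rc_26_9 lc_g_rc_24_3 lc_g_rc_21_2 lc_g_rc_21_3 lc_g_Cert_tree lc_g_rc_23_3 lc_g_rc_27_3 lc_g_rc_21_3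 lc_g_Cert_tree lc_g_rc_21_2 lc_g_rc_21_3 lc_g_rc_23_1 lc_g_rc_21_3 lc_g_rc_21_3 lc_g_Cert_tree lc_g_rc_21_2 lc_g_Cert_tree lc_g_rc_24_7 lc_g_rc_25_19 lc_g_rc_21_2 lc_g_rc_27_9 lc_g_rc_21_2 lc_g_rc_21_2 lc_g_rc_24_7 lc_g_rc_26_0 lc_g_Cert_tree lc_g_rc_24_7 lc_g_Cert_tree lc_g_rc_21_3 lc_g_Cert_tree lc_g_rc_21_2 lc_g_rc_27_9 lc_g_rc_21_3) (@D3.rec (fun _ => (Cert rels S Gen.g)) lc_g_Cert_tree lc_g_rc_21_2 lc_g_rc_26_6 lc_g_rc_21_3 lc_g_Cert_tree lc_g_rc_26_0 lc_g_rc_21_2 lc_g_rc_27_9 lc_g_rc_26_3 lc_g_rc_27_6 lc_g_rc_21_3 lc_g_Cert_tree lc_g_Cert_tree lc_g_rc_21_2 lc_g_rc_26_3 lc_g_rc_26_9 lc_g_rc_27_6 lc_g_rc_26_3 lc_g_rc_21_2 lc_g_Cert_tree lc_g_rc_26_3 lc_g_rc_27_6 lc_g_Cert_tree lc_g_rc_23_7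 lc_g_rc_25_7 lc_g_rc_21_3 lc_g_Cert_tree lc_g_rc_27_3 lc_g_rc_21_2 lc_g_rc_26_0 lc_g_rc_24_7 lc_g_Cert_tree lc_g_rc_27_3 lc_g_Cert_tree lc_g_rc_26_9 lc_g_rc_21_2 lc_g_rc_21_3 lc_g_Cert_tree lc_g_Cert_tree lc_g_rc_27_6 lc_g_rc_26_9 lc_g_rc_21_2 lc_g_Cert_tree lc_g_rc_21_2 lc_g_rc_21_2 lc_g_rc_21_2 lc_g_rc_24_1 lc_g_rc_23_9 lc_g_Cert_tree lc_g_rc_27_3 lc_g_rc_26_9 lc_g_rc_27_9 lc_g_rc_27_6 lc_g_rc_23_7 lc_g_rc_24_1 lc_g_rc_21_3 lc_g_Cert_tree lc_g_rc_24_1 lc_g_rc_23_3 lc_g_rc_24_7 lc_g_rc_24_1 lc_g_rc_24_7) (@D3.rec (fun _ => (Cert rels S Gen.g)) lc_g_rc_27_3 lc_g_Cert_tree lc_g_rc_21_2 lc_g_rc_21_3 lc_g_Cert_tree lc_g_rc_23_1 lc_g_rc_24_3 lc_g_rc_21_3 lc_g_Cert_tree lc_g_rc_26_9 lc_g_rc_24_7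 lc_g_rc_27_9 lc_g_rc_24_1 lc_g_rc_26_6 lc_g_rc_21_3 lc_g_rc_24_1 lc_g_rc_27_6 lc_g_rc_24_9 lc_g_rc_24_3 lc_g_rc_21_3 lc_g_rc_21_3 lc_g_Cert_tree lc_g_Cert_tree lc_g_rc_26_9 lc_g_rc_21_2 lc_g_rc_23_3 lc_g_rc_26_0 lc_g_rc_27_6 lc_g_Cert_tree lc_g_rc_23_9 lc_g_rc_21_3 lc_g_rc_26_6 lc_g_rc_24_3 lc_g_rc_25_3 lc_g_rc_23_3 lc_g_rc_21_3 lc_g_Cert_tree lc_g_rc_23_9 lc_g_rc_26_3 lc_g_rc_21_2 lc_g_rc_23_7 lc_g_rc_21_3 lc_g_rc_21_3 lc_g_Cert_tree lc_g_Cert_tree lc_g_rc_21_2 lc_g_rc_21_2 lc_g_rc_21_2 lc_g_Cert_tree lc_g_rc_26_3 lc_g_Cert_tree lc_g_rc_21_3 lc_g_Cert_tree lc_g_rc_24_3 lc_g_rc_24_7 lc_g_rc_27_3 lc_g_rc_21_2 lc_g_rc_26_9 lc_g_rc_23_3 lc_g_rc_21_3 lc_g_Cert_tree lc_g_rc_23_1) (@D3.rec (fun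 _ => (Cert rels S Gen.g)) lc_g_rc_21_2 lc_g_rc_21_2 lc_g_rc_21_3 lc_g_rc_27_9 lc_g_rc_23_9 lc_g_rc_21_2 lc_g_rc_26_3 lc_g_rc_27_9 lc_g_rc_27_3 lc_g_rc_23_1 lc_g_rc_24_3 lc_g_rc_26_0 lc_g_rc_26_6 lc_g_rc_23_7 lc_g_rc_24_3 lc_g_rc_21_3 lc_g_rc_23_7 lc_g_rc_23_1 lc_g_rc_27_6 lc_g_rc_24_3 lc_g_rc_23_7 lc_g_rc_24_3 lc_g_Cert_tree lc_g_Cert_tree lc_g_rc_26_3 lc_g_Cert_tree lc_g_rc_25_3 lc_g_rc_24_9 lc_g_rc_23_1 lc_g_Cert_tree lc_g_rc_21_2 lc_g_rc_26_3 lc_g_rc_24_9 lc_g_Cert_tree lc_g_rc_21_2 lc_g_rc_24_1 lc_g_rc_26_3 lc_g_Cert_tree lc_g_rc_26_6 lc_g_Cert_tree lc_g_rc_23_3 lc_g_rc_21_3 lc_g_Cert_tree lc_g_rc_26_6 lc_g_rc_21_2 lc_g_rc_24_9 lc_g_rc_21_3 lc_g_rc_27_9 lc_g_rc_21_2 lc_g_Cert_tree lc_g_rc_27_6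 lc_g_rc_27_3 lc_g_rc_23_7 lc_g_rc_24_1 lc_g_rc_23_1 lc_g_rc_23_3 lc_g_Cert_tree lc_g_rc_24_3 lc_g_rc_24_9 lc_g_Cert_tree lc_g_rc_23_3 lc_g_Cert_tree) (@D3.rec (fun _ => (Cert rels S Gen.g)) lc_g_rc_21_3 lc_g_Cert_tree lc_g_Cert_tree lc_g_Cert_tree lc_g_rc_26_6 lc_g_rc_26_0 lc_g_rc_24_7 lc_g_rc_27_3 lc_g_rc_27_3 lc_g_rc_26_6 lc_g_rc_24_7 lc_g_rc_27_3 lc_g_rc_21_3 lc_g_rc_24_7 lc_g_rc_23_3 lc_g_Cert_tree lc_g_rc_21_3 lc_g_Cert_tree lc_g_rc_21_2 lc_g_Cert_tree lc_g_Cert_tree lc_g_rc_21_3 lc_g_Cert_tree lc_g_rc_23_1 lc_g_rc_21_2 lc_g_Cert_tree lc_g_rc_21_3 lc_g_rc_21_2 lc_g_rc_27_6 lc_g_rc_21_3 lc_g_Cert_tree lc_g_Cert_tree lc_g_rc_25_19 lc_g_rc_21_3 lc_g_Cert_tree lc_g_rc_21_2 lc_g_rc_21_2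 lc_g_rc_21_2 lc_g_rc_21_2 lc_g_rc_21_3 lc_g_rc_26_3 lc_g_rc_27_6 lc_g_rc_26_3 lc_g_Cert_tree lc_g_rc_24_7 lc_g_rc_27_6 lc_g_rc_24_3 lc_g_rc_26_6 lc_g_rc_21_3 lc_g_Cert_tree lc_g_rc_27_0 lc_g_rc_21_2 lc_g_Cert_tree lc_g_rc_21_2 lc_g_rc_26_6 lc_g_rc_21_2 lc_g_rc_21_2 lc_g_rc_21_3 lc_g_Cert_tree lc_g_Cert_tree lc_g_rc_26_0 lc_g_rc_24_7) (@D3.rec (fun _ => (Cert rels S Gen.g)) lc_g_rc_26_3 lc_g_rc_23_7 lc_g_rc_21_3 lc_g_rc_21_3 lc_g_rc_26_6 lc_g_rc_21_3 lc_g_Cert_tree lc_g_rc_27_3 lc_g_rc_27_9 lc_g_rc_21_3 lc_g_rc_27_3 lc_g_rc_21_3 lc_g_Cert_tree lc_g_rc_27_6 lc_g_rc_21_2 lc_g_rc_27_3 lc_g_rc_27_6 lc_g_rc_24_1 lc_g_rc_26_3 lc_g_rc_23_9 lc_g_rc_23_3 lc_g_rc_21_3 lc_g_rc_21_2 lc_g_rc_27_6 lc_g_rc_23_7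 lc_g_rc_23_3 lc_g_rc_26_3 lc_g_rc_21_2 lc_g_rc_27_9 lc_g_rc_26_6 lc_g_Cert_tree lc_g_rc_21_2 lc_g_rc_27_6 lc_g_Cert_tree lc_g_rc_26_9 lc_g_rc_21_3 lc_g_rc_21_2 lc_g_rc_26_6 lc_g_rc_21_3 lc_g_rc_21_2 lc_g_rc_21_2 lc_g_rc_27_6 lc_g_rc_26_6 lc_g_rc_21_2 lc_g_rc_26_3 lc_g_rc_21_3 lc_g_rc_26_3 lc_g_Cert_tree lc_g_rc_21_3 lc_g_Cert_tree lc_g_rc_21_2 lc_g_rc_21_3 lc_g_rc_24_3 lc_g_Cert_tree lc_g_rc_21_3 lc_g_rc_21_2 lc_g_rc_21_2 lc_g_rc_26_0 lc_g_rc_21_2 lc_g_rc_27_6 lc_g_rc_21_3 lc_g_Cert_tree) (@D3.rec (fun _ => (Cert rels S Gen.g)) lc_g_rc_21_2 lc_g_rc_26_9 lc_g_rc_21_2 lc_g_rc_23_3 lc_g_rc_21_3 lc_g_rc_27_0 lc_g_rc_26_6 lc_g_rc_21_3 lc_g_rc_21_2 lc_g_rc_27_9 lc_g_rc_26_6 lc_g_rc_21_3 lc_g_rc_21_2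 lc_g_rc_24_3 lc_g_rc_21_2 lc_g_rc_23_1 lc_g_Cert_tree lc_g_rc_21_3 lc_g_Cert_tree lc_g_rc_21_2 lc_g_rc_27_3 lc_g_rc_21_2 lc_g_rc_24_7 lc_g_rc_21_3 lc_g_Cert_tree lc_g_rc_21_2 lc_g_rc_27_6 lc_g_Cert_tree lc_g_rc_27_6 lc_g_Cert_tree lc_g_rc_21_2 lc_g_rc_23_3 lc_g_rc_26_3 lc_g_rc_26_9 lc_g_rc_27_6 lc_g_rc_26_9 lc_g_Cert_tree lc_g_rc_21_2 lc_g_rc_21_2 lc_g_rc_21_2 lc_g_rc_26_3 lc_g_rc_27_0 lc_g_rc_23_7 lc_g_rc_21_3 lc_g_rc_21_3 lc_g_rc_21_2 lc_g_rc_27_3 lc_g_rc_27_0 lc_g_rc_26_6 lc_g_rc_23_3 lc_g_rc_21_2 lc_g_Cert_tree lc_g_rc_23_7 lc_g_rc_23_3 lc_g_rc_24_3 lc_g_rc_27_6 lc_g_rc_21_2 lc_g_rc_23_3 lc_g_rc_26_3 lc_g_rc_27_6 lc_g_rc_21_3 lc_g_rc_24_1) (@D3.rec (fun _ => (Cert rels S Gen.g)) lc_g_rc_23_1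 lc_g_rc_26_9 lc_g_rc_23_3 lc_g_rc_24_1 lc_g_Cert_tree lc_g_rc_26_9 lc_g_rc_21_3 lc_g_rc_24_9 lc_g_rc_23_9 lc_g_rc_24_1 lc_g_rc_27_6 lc_g_rc_21_2 lc_g_rc_27_0 lc_g_Cert_tree lc_g_rc_24_3 lc_g_rc_26_6 lc_g_rc_21_2 lc_g_Cert_tree lc_g_rc_21_2 lc_g_rc_24_9 lc_g_rc_27_3 lc_g_rc_24_1 lc_g_rc_21_3 lc_g_rc_21_2 lc_g_Cert_tree lc_g_rc_21_3 lc_g_rc_26_3 lc_g_rc_21_2 lc_g_rc_21_2 lc_g_rc_24_7 lc_g_Cert_tree lc_g_rc_26_0 lc_g_rc_24_1 lc_g_rc_26_9 lc_g_Cert_tree lc_g_rc_24_1 lc_g_rc_21_2 lc_g_rc_21_2 lc_g_rc_23_3 lc_g_rc_26_6 lc_g_rc_21_3 lc_g_Cert_tree lc_g_rc_24_1 lc_g_rc_21_2 lc_g_rc_21_3 lc_g_rc_26_3 lc_g_rc_27_9 lc_g_rc_27_3 lc_g_rc_26_3 lc_g_rc_26_3 lc_g_Cert_tree lc_g_rc_27_3 lc_g_rc_26_3 lc_g_rc_27_6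 lc_g_rc_21_3 lc_g_rc_21_3 lc_g_Cert_tree lc_g_rc_26_6 lc_g_rc_21_3 lc_g_rc_21_3 lc_g_rc_21_3 lc_g_rc_24_3) (@D3.rec (fun _ => (Cert rels S Gen.g)) lc_g_rc_26_0 lc_g_rc_27_3 lc_g_rc_21_3 lc_g_rc_27_3 lc_g_rc_21_2 lc_g_rc_24_1 lc_g_rc_23_1 lc_g_rc_23_9 lc_g_rc_26_3 lc_g_rc_27_3 lc_g_rc_21_3 lc_g_rc_23_3 lc_g_rc_26_9 lc_g_rc_26_6 lc_g_rc_23_7 lc_g_rc_26_6 lc_g_rc_26_9 lc_g_rc_23_9 lc_g_Cert_tree lc_g_Cert_tree lc_g_Cert_tree lc_g_rc_27_3 lc_g_rc_21_3 lc_g_rc_24_1 lc_g_rc_21_3 lc_g_rc_26_0 lc_g_rc_26_3 lc_g_rc_25_19 lc_g_rc_27_0 lc_g_rc_21_2 lc_g_rc_26_3 lc_g_rc_27_6 lc_g_rc_26_0 lc_g_rc_23_1 lc_g_Cert_tree lc_g_rc_27_3 lc_g_rc_27_0 lc_g_rc_21_3 lc_g_Cert_tree lc_g_Cert_tree lc_g_rc_24_7 lc_g_rc_21_3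 lc_g_rc_25_19 lc_g_rc_21_3 lc_g_Cert_tree lc_g_rc_21_2 lc_g_rc_21_2 lc_g_rc_26_3 lc_g_rc_27_3 lc_g_rc_21_2 lc_g_rc_21_2 lc_g_rc_21_3 lc_g_rc_21_3 lc_g_rc_21_2 lc_g_rc_21_3 lc_g_rc_21_3 lc_g_rc_23_9 lc_g_rc_21_2 lc_g_rc_24_7 lc_g_rc_21_2 lc_g_rc_21_2 lc_g_rc_21_3) (@D3.rec (fun _ => (Cert rels S Gen.g)) lc_g_rc_26_3 lc_g_rc_21_2 lc_g_rc_21_2 lc_g_rc_21_2 lc_g_rc_21_3 lc_g_rc_21_2 lc_g_rc_25_19 lc_g_rc_23_3 lc_g_rc_24_3 lc_g_rc_27_6 lc_g_rc_23_7 lc_g_rc_21_3 lc_g_Cert_tree lc_g_rc_21_2 lc_g_rc_24_1 lc_g_rc_26_3 lc_g_Cert_tree lc_g_rc_21_2 lc_g_rc_21_2 lc_g_Cert_tree lc_g_rc_21_3 lc_g_Cert_tree lc_g_rc_23_1 lc_g_Cert_tree lc_g_rc_21_2 lc_g_rc_21_2 lc_g_rc_21_3 lc_g_Cert_tree lc_g_rc_24_7 lc_g_rc_21_2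 lc_g_rc_24_7 lc_g_rc_27_9 lc_g_rc_27_9 lc_g_rc_23_9 lc_g_rc_21_2 lc_g_rc_21_3 lc_g_rc_27_3 lc_g_rc_21_2 lc_g_rc_21_3 lc_g_Cert_tree lc_g_rc_26_3 lc_g_rc_24_3 lc_g_rc_27_9 lc_g_rc_23_3 lc_g_rc_21_2 lc_g_Cert_tree lc_g_rc_25_19 lc_g_rc_26_0 lc_g_rc_21_3 lc_g_Cert_tree lc_g_rc_21_2 lc_g_rc_24_7 lc_g_Cert_tree lc_g_rc_24_3 lc_g_rc_21_3 lc_g_rc_26_6 lc_g_Cert_tree lc_g_rc_24_1 lc_g_Cert_tree lc_g_rc_23_7 lc_g_Cert_tree lc_g_rc_21_3)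
def ce_g_24 : D2 → D3 → (Cert rels S Gen.g) := @D2.rec (fun _ => D3 → (Cert rels S Gen.g)) (@D3.rec (fun _ => (Cert rels S Gen.g)) lc_g_Cert_tree lc_g_rc_21_2 lc_g_rc_21_2 lc_g_rc_24_7 lc_g_Cert_tree lc_g_Cert_tree lc_g_rc_21_2 lc_g_Cert_tree lc_g_rc_21_2 lc_g_rc_27_0 lc_g_rc_25_11 lc_g_rc_23_3 lc_g_rc_26_0 lc_g_rc_23_1 lc_g_rc_21_2 lc_g_Cert_tree lc_g_rc_23_1 lc_g_rc_26_6 lc_g_rc_21_3 lc_g_Cert_tree lc_g_Cert_tree lc_g_Cert_tree lc_g_rc_21_3 lc_g_Cert_tree lc_g_Cert_tree lc_g_rc_23_3 lc_g_rc_21_2 lc_g_rc_27_0 lc_g_Cert_tree lc_g_rc_21_3 lc_g_rc_21_2 lc_g_rc_21_2 lc_g_rc_21_2 lc_g_rc_24_3 lc_g_rc_23_3 lc_g_rc_25_7 lc_g_rc_27_6 lc_g_rc_23_3 lc_g_Cert_tree lc_g_rc_26_6 lc_g_rc_21_3 lc_g_rc_26_3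 lc_g_Cert_tree lc_g_rc_26_9 lc_g_rc_26_0 lc_g_rc_23_9 lc_g_rc_21_3 lc_g_Cert_tree lc_g_rc_21_2 lc_g_rc_26_6 lc_g_rc_24_3 lc_g_rc_24_9 lc_g_rc_24_3 lc_g_rc_27_9 lc_g_rc_21_2 lc_g_rc_21_3 lc_g_rc_21_2 lc_g_rc_21_3 lc_g_rc_21_3 lc_g_rc_26_9 lc_g_Cert_tree lc_g_rc_27_3) (@D3.rec (fun _ => (Cert rels S Gen.g)) lc_g_rc_26_6 lc_g_rc_27_3 lc_g_rc_24_3 lc_g_Cert_tree lc_g_rc_23_3 lc_g_rc_26_3 lc_g_rc_26_6 lc_g_rc_26_3 lc_g_rc_21_3 lc_g_Cert_tree lc_g_rc_24_3 lc_g_rc_21_3 lc_g_Cert_tree lc_g_rc_23_7 lc_g_rc_26_6 lc_g_rc_24_9 lc_g_rc_21_3 lc_g_Cert_tree lc_g_rc_21_2 lc_g_rc_21_2 lc_g_rc_21_2 lc_g_rc_24_7 lc_g_rc_21_2 lc_g_rc_24_7 lc_g_rc_21_3 lc_g_Cert_tree lc_g_rc_26_0 lc_g_rc_26_6 lc_g_rc_21_3 lc_g_Cert_tree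 lc_g_rc_21_2 lc_g_rc_23_9 lc_g_rc_27_0 lc_g_rc_21_2 lc_g_Cert_tree lc_g_rc_23_3 lc_g_rc_27_3 lc_g_rc_21_3 lc_g_Cert_tree lc_g_rc_26_3 lc_g_Cert_tree lc_g_rc_24_1 lc_g_rc_24_7 lc_g_Cert_tree lc_g_rc_27_6 lc_g_rc_21_3 lc_g_rc_24_3 lc_g_rc_26_0 lc_g_rc_21_3 lc_g_rc_27_0 lc_g_rc_21_3 lc_g_rc_24_7 lc_g_Cert_tree lc_g_Cert_tree lc_g_rc_21_2 lc_g_rc_27_9 lc_g_rc_26_0 lc_g_rc_27_9 lc_g_rc_21_3 lc_g_rc_21_3 lc_g_Cert_tree lc_g_Cert_tree) (@D3.rec (fun _ => (Cert rels S Gen.g)) lc_g_rc_21_2 lc_g_rc_27_9 lc_g_rc_27_6 lc_g_rc_21_3 lc_g_rc_27_0 lc_g_rc_21_3 lc_g_rc_27_0 lc_g_rc_21_3 lc_g_rc_24_7 lc_g_rc_24_7 lc_g_rc_21_3 lc_g_rc_21_3 lc_g_rc_26_0 lc_g_rc_23_3 lc_g_rc_21_2 lc_g_rc_21_2 lc_g_rc_23_9 lc_g_Cert_tree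 lc_g_rc_26_3 lc_g_rc_24_1 lc_g_rc_21_3 lc_g_rc_23_7 lc_g_rc_21_3 lc_g_Cert_tree lc_g_rc_23_9 lc_g_rc_24_7 lc_g_rc_21_3 lc_g_rc_27_3 lc_g_Cert_tree lc_g_rc_24_7 lc_g_rc_21_2 lc_g_rc_21_2 lc_g_rc_24_7 lc_g_rc_27_6 lc_g_rc_24_3 lc_g_Cert_tree lc_g_Cert_tree lc_g_rc_21_2 lc_g_rc_24_3 lc_g_rc_21_2 lc_g_rc_27_3 lc_g_rc_26_9 lc_g_rc_27_9 lc_g_rc_24_9 lc_g_rc_26_3 lc_g_rc_21_3 lc_g_Cert_tree lc_g_Cert_tree lc_g_Cert_tree lc_g_rc_21_3 lc_g_Cert_tree lc_g_rc_27_3 lc_g_rc_26_6 lc_g_rc_26_3 lc_g_rc_27_6 lc_g_rc_21_3 lc_g_rc_24_1 lc_g_rc_24_3 lc_g_Cert_tree lc_g_rc_21_3 lc_g_rc_24_7 lc_g_rc_23_1) (@D3.rec (fun _ => (Cert rels S Gen.g)) lc_g_rc_21_2 lc_g_rc_24_7 lc_g_rc_27_3 lc_g_rc_26_0 lc_g_rc_23_9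 lc_g_rc_21_2 lc_g_rc_24_3 lc_g_rc_23_7 lc_g_rc_21_3 lc_g_Cert_tree lc_g_rc_23_7 lc_g_rc_27_6 lc_g_rc_21_2 lc_g_rc_24_1 lc_g_rc_23_7 lc_g_rc_23_3 lc_g_rc_21_3 lc_g_Cert_tree lc_g_rc_21_3 lc_g_rc_21_2 lc_g_rc_21_2 lc_g_rc_24_3 lc_g_Cert_tree lc_g_rc_21_3 lc_g_rc_26_3 lc_g_rc_26_3 lc_g_rc_27_6 lc_g_Cert_tree lc_g_rc_26_9 lc_g_rc_27_6 lc_g_rc_21_3 lc_g_Cert_tree lc_g_rc_21_2 lc_g_rc_27_6 lc_g_rc_26_0 lc_g_rc_21_3 lc_g_Cert_tree lc_g_rc_21_3 lc_g_rc_26_3 lc_g_rc_21_2 lc_g_rc_24_1 lc_g_rc_21_2 lc_g_rc_21_2 lc_g_rc_21_2 lc_g_Cert_tree lc_g_rc_26_3 lc_g_rc_24_3 lc_g_rc_26_3 lc_g_rc_24_3 lc_g_Cert_tree lc_g_rc_24_7 lc_g_rc_27_3 lc_g_rc_21_3 lc_g_Cert_tree lc_g_Cert_tree lc_g_rc_23_7 lc_g_Cert_tree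 lc_g_rc_21_3 lc_g_Cert_tree lc_g_Cert_tree lc_g_rc_21_2 lc_g_rc_24_3) (@D3.rec (fun _ => (Cert rels S Gen.g)) lc_g_rc_21_2 lc_g_rc_21_3 lc_g_Cert_tree lc_g_rc_21_3 lc_g_Cert_tree lc_g_rc_24_7 lc_g_rc_27_3 lc_g_rc_21_3 lc_g_Cert_tree lc_g_rc_24_1 lc_g_rc_25_7 lc_g_rc_26_3 lc_g_Cert_tree lc_g_rc_21_3 lc_g_rc_26_0 lc_g_Cert_tree lc_g_rc_26_3 lc_g_rc_21_3 lc_g_Cert_tree lc_g_rc_21_2 lc_g_rc_21_3 lc_g_rc_21_2 lc_g_rc_27_0 lc_g_rc_21_3 lc_g_Cert_tree lc_g_Cert_tree lc_g_rc_21_2 lc_g_rc_24_1 lc_g_rc_27_9 lc_g_rc_24_3 lc_g_rc_25_7 lc_g_Cert_tree lc_g_rc_21_2 lc_g_rc_21_2 lc_g_rc_26_3 lc_g_rc_21_3 lc_g_Cert_tree lc_g_rc_26_6 lc_g_rc_21_3 lc_g_rc_21_2 lc_g_rc_26_6 lc_g_rc_21_3 lc_g_Cert_tree lc_g_Cert_tree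 lc_g_rc_21_2 lc_g_rc_27_9 lc_g_rc_26_9 lc_g_rc_25_19 lc_g_rc_27_6 lc_g_rc_21_3 lc_g_Cert_tree lc_g_rc_26_3 lc_g_Cert_tree lc_g_rc_23_3 lc_g_rc_27_6 lc_g_rc_26_6 lc_g_rc_27_6 lc_g_Cert_tree lc_g_rc_21_2 lc_g_rc_24_1 lc_g_Cert_tree lc_g_rc_24_1) (@D3.rec (fun _ => (Cert rels S Gen.g)) lc_g_rc_27_6 lc_g_rc_24_3 lc_g_rc_21_2 lc_g_rc_21_2 lc_g_rc_21_3 lc_g_rc_26_0 lc_g_rc_21_2 lc_g_rc_24_1 lc_g_rc_26_0 lc_g_rc_26_9 lc_g_rc_24_1 lc_g_Cert_tree lc_g_rc_21_3 lc_g_rc_26_3 lc_g_rc_21_2 lc_g_rc_24_7 lc_g_rc_24_3 lc_g_rc_21_2 lc_g_rc_27_6 lc_g_rc_24_7 lc_g_rc_24_3 lc_g_rc_21_3 lc_g_Cert_tree lc_g_rc_21_2 lc_g_rc_27_6 lc_g_rc_26_3 lc_g_rc_23_7 lc_g_rc_21_2 lc_g_rc_23_3 lc_g_rc_21_2 lc_g_rc_21_3 lc_g_rc_26_9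 lc_g_rc_21_2 lc_g_rc_24_7 lc_g_rc_24_1 lc_g_rc_21_3 lc_g_rc_23_7 lc_g_rc_26_6 lc_g_rc_23_3 lc_g_rc_21_3 lc_g_Cert_tree lc_g_rc_21_3 lc_g_Cert_tree lc_g_rc_21_2 lc_g_rc_23_9 lc_g_rc_27_0 lc_g_rc_24_3 lc_g_rc_27_6 lc_g_rc_24_3 lc_g_Cert_tree lc_g_rc_21_2 lc_g_rc_21_3 lc_g_rc_26_6 lc_g_rc_26_9 lc_g_rc_21_2 lc_g_rc_23_3 lc_g_rc_26_3 lc_g_rc_26_3 lc_g_rc_26_3 lc_g_rc_21_3 lc_g_rc_23_1 lc_g_rc_21_2) (@D3.rec (fun _ => (Cert rels S Gen.g)) lc_g_rc_26_3 lc_g_Cert_tree lc_g_rc_21_2 lc_g_rc_26_3 lc_g_Cert_tree lc_g_rc_26_3 lc_g_rc_21_2 lc_g_rc_21_3 lc_g_Cert_tree lc_g_rc_24_1 lc_g_Cert_tree lc_g_rc_24_9 lc_g_rc_27_6 lc_g_rc_27_0 lc_g_rc_26_3 lc_g_rc_21_2 lc_g_rc_23_1 lc_g_Cert_tree lc_g_rc_21_2 lc_g_rc_27_3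 lc_g_rc_23_1 lc_g_rc_27_3 lc_g_rc_26_0 lc_g_rc_21_3 lc_g_rc_23_9 lc_g_rc_23_7 lc_g_rc_21_3 lc_g_Cert_tree lc_g_rc_26_3 lc_g_rc_27_0 lc_g_rc_23_1 lc_g_rc_27_6 lc_g_rc_21_3 lc_g_Cert_tree lc_g_Cert_tree lc_g_Cert_tree lc_g_rc_21_2 lc_g_rc_26_3 lc_g_rc_23_7 lc_g_rc_21_3 lc_g_Cert_tree lc_g_rc_21_2 lc_g_rc_21_2 lc_g_rc_21_2 lc_g_rc_24_9 lc_g_rc_24_3 lc_g_rc_21_3 lc_g_Cert_tree lc_g_rc_27_6 lc_g_Cert_tree lc_g_rc_27_6 lc_g_rc_27_3 lc_g_rc_24_1 lc_g_rc_24_1 lc_g_rc_21_2 lc_g_rc_26_3 lc_g_Cert_tree lc_g_rc_21_2 lc_g_rc_23_7 lc_g_Cert_tree lc_g_rc_23_3 lc_g_rc_26_0) (@D3.rec (fun _ => (Cert rels S Gen.g)) lc_g_rc_21_2 lc_g_rc_23_3 lc_g_rc_21_3 lc_g_rc_21_3 lc_g_rc_27_6 lc_g_Cert_tree lc_g_rc_21_2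 lc_g_rc_27_3 lc_g_Cert_tree lc_g_rc_21_2 lc_g_rc_24_9 lc_g_Cert_tree lc_g_rc_24_7 lc_g_rc_27_6 lc_g_rc_24_3 lc_g_rc_21_3 lc_g_rc_24_3 lc_g_rc_23_3 lc_g_rc_27_0 lc_g_rc_21_3 lc_g_rc_26_6 lc_g_rc_23_7 lc_g_rc_26_3 lc_g_rc_26_3 lc_g_rc_27_6 lc_g_rc_21_3 lc_g_Cert_tree lc_g_rc_26_3 lc_g_rc_26_6 lc_g_rc_26_0 lc_g_rc_24_3 lc_g_rc_21_3 lc_g_rc_21_2 lc_g_rc_27_3 lc_g_Cert_tree lc_g_rc_26_9 lc_g_rc_21_2 lc_g_rc_26_3 lc_g_rc_21_3 lc_g_rc_24_3 lc_g_rc_27_6 lc_g_rc_27_0 lc_g_Cert_tree lc_g_Cert_tree lc_g_rc_21_2 lc_g_rc_24_7 lc_g_rc_21_2 lc_g_rc_26_9 lc_g_rc_27_6 lc_g_rc_26_0 lc_g_rc_21_3 lc_g_rc_23_1 lc_g_rc_24_3 lc_g_rc_26_6 lc_g_rc_24_3 lc_g_Cert_tree lc_g_rc_24_7 lc_g_rc_23_3 lc_g_rc_23_1 lc_g_rc_21_2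 lc_g_rc_21_3 lc_g_Cert_tree) (@D3.rec (fun _ => (Cert rels S Gen.g)) lc_g_rc_26_6 lc_g_Cert_tree lc_g_rc_27_6 lc_g_rc_27_0 lc_g_rc_21_3 lc_g_Cert_tree lc_g_rc_24_9 lc_g_rc_21_2 lc_g_rc_27_0 lc_g_rc_27_3 lc_g_rc_27_0 lc_g_rc_27_0 lc_g_rc_21_2 lc_g_rc_24_1 lc_g_rc_27_6 lc_g_rc_21_3 lc_g_rc_21_3 lc_g_Cert_tree lc_g_rc_21_2 lc_g_rc_21_3 lc_g_Cert_tree lc_g_rc_21_2 lc_g_rc_21_2 lc_g_rc_27_3 lc_g_rc_21_3 lc_g_rc_21_2 lc_g_rc_27_3 lc_g_rc_21_2 lc_g_rc_21_3 lc_g_Cert_tree lc_g_rc_26_0 lc_g_rc_21_3 lc_g_rc_23_7 lc_g_rc_26_9 lc_g_rc_27_3 lc_g_rc_23_7 lc_g_Cert_tree lc_g_rc_21_2 lc_g_rc_21_2 lc_g_rc_21_3 lc_g_Cert_tree lc_g_rc_23_3 lc_g_rc_27_6 lc_g_rc_26_6 lc_g_rc_27_6 lc_g_rc_21_3 lc_g_rc_26_6 lc_g_rc_21_2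 lc_g_rc_26_9 lc_g_rc_21_2 lc_g_rc_21_3 lc_g_rc_27_9 lc_g_rc_25_19 lc_g_rc_21_2 lc_g_rc_26_6 lc_g_rc_21_3 lc_g_rc_24_3 lc_g_rc_24_1 lc_g_rc_23_7 lc_g_rc_24_7 lc_g_rc_27_0 lc_g_rc_26_6) (@D3.rec (fun _ => (Cert rels S Gen.g)) lc_g_rc_21_3 lc_g_rc_24_3 lc_g_rc_27_6 lc_g_rc_21_3 lc_g_Cert_tree lc_g_rc_25_3 lc_g_rc_27_6 lc_g_rc_21_3 lc_g_Cert_tree lc_g_rc_21_2 lc_g_Cert_tree lc_g_rc_24_7 lc_g_rc_27_0 lc_g_rc_27_6 lc_g_rc_27_6 lc_g_rc_21_3 lc_g_Cert_tree lc_g_rc_21_2 lc_g_rc_24_3 lc_g_rc_27_3 lc_g_Cert_tree lc_g_rc_27_3 lc_g_rc_21_3 lc_g_Cert_tree lc_g_rc_21_2 lc_g_rc_26_6 lc_g_rc_27_0 lc_g_Cert_tree lc_g_rc_21_2 lc_g_rc_21_3 lc_g_rc_26_3 lc_g_rc_24_3 lc_g_rc_24_3 lc_g_Cert_tree lc_g_rc_25_19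 lc_g_rc_27_6 lc_g_rc_27_6 lc_g_rc_27_6 lc_g_rc_27_9 lc_g_rc_27_0 lc_g_rc_27_6 lc_g_rc_27_9 lc_g_rc_21_2 lc_g_rc_21_3 lc_g_Cert_tree lc_g_rc_21_2 lc_g_rc_21_3 lc_g_Cert_tree lc_g_rc_23_7 lc_g_rc_21_2 lc_g_Cert_tree lc_g_rc_21_3 lc_g_rc_27_9 lc_g_rc_27_9 lc_g_rc_23_1 lc_g_rc_27_6 lc_g_rc_27_3 lc_g_rc_21_2 lc_g_rc_21_2 lc_g_rc_26_6 lc_g_rc_23_3 lc_g_rc_26_3) (@D3.rec (fun _ => (Cert rels S Gen.g)) lc_g_rc_23_7 lc_g_rc_21_2 lc_g_rc_26_9 lc_g_Cert_tree lc_g_rc_26_0 lc_g_rc_23_3 lc_g_rc_27_3 lc_g_rc_24_1 lc_g_rc_21_3 lc_g_rc_24_1 lc_g_rc_26_0 lc_g_rc_26_3 lc_g_rc_27_6 lc_g_rc_21_2 lc_g_rc_27_9 lc_g_rc_26_6 lc_g_rc_24_9 lc_g_rc_25_19 lc_g_rc_21_3 lc_g_Cert_tree lc_g_rc_26_6 lc_g_rc_21_3 lc_g_rc_24_3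 lc_g_rc_21_2 lc_g_rc_21_2 lc_g_rc_21_3 lc_g_Cert_tree lc_g_rc_27_9 lc_g_rc_21_2 lc_g_rc_27_6 lc_g_rc_21_3 lc_g_rc_27_0 lc_g_rc_27_0 lc_g_rc_21_2 lc_g_rc_21_2 lc_g_rc_21_2 lc_g_rc_24_1 lc_g_Cert_tree lc_g_rc_21_3 lc_g_rc_21_2 lc_g_rc_21_3 lc_g_rc_23_7 lc_g_rc_21_2 lc_g_rc_27_6 lc_g_rc_21_2 lc_g_rc_23_7 lc_g_rc_21_2 lc_g_rc_21_2 lc_g_Cert_tree lc_g_rc_27_6 lc_g_rc_27_3 lc_g_rc_21_2 lc_g_Cert_tree lc_g_rc_21_3 lc_g_rc_21_2 lc_g_Cert_tree lc_g_rc_27_6 lc_g_rc_24_3 lc_g_rc_27_9 lc_g_rc_21_3 lc_g_Cert_tree lc_g_Cert_tree) (@D3.rec (fun _ => (Cert rels S Gen.g)) lc_g_rc_21_2 lc_g_rc_24_7 lc_g_rc_27_6 lc_g_rc_23_1 lc_g_Cert_tree lc_g_rc_23_3 lc_g_rc_21_2 lc_g_rc_21_2 lc_g_rc_26_3 lc_g_rc_21_2 lc_g_rc_25_3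 lc_g_rc_21_3 lc_g_Cert_tree lc_g_rc_21_2 lc_g_Cert_tree lc_g_rc_27_0 lc_g_rc_23_7 lc_g_rc_27_0 lc_g_Cert_tree lc_g_rc_21_3 lc_g_rc_23_1 lc_g_Cert_tree lc_g_rc_21_3 lc_g_rc_21_2 lc_g_rc_21_2 lc_g_rc_21_2 lc_g_Cert_tree lc_g_rc_24_7 lc_g_rc_23_3 lc_g_rc_25_19 lc_g_rc_21_2 lc_g_Cert_tree lc_g_Cert_tree lc_g_rc_27_3 lc_g_rc_21_3 lc_g_Cert_tree lc_g_rc_23_3 lc_g_rc_27_9 lc_g_rc_23_3 lc_g_rc_21_3 lc_g_Cert_tree lc_g_rc_21_2 lc_g_Cert_tree lc_g_rc_26_0 lc_g_rc_27_3 lc_g_rc_21_2 lc_g_rc_21_3 lc_g_rc_21_2 lc_g_Cert_tree lc_g_rc_26_0 lc_g_rc_23_3 lc_g_rc_21_2 lc_g_rc_24_3 lc_g_rc_21_2 lc_g_rc_26_3 lc_g_rc_26_3 lc_g_Cert_tree lc_g_rc_26_0 lc_g_rc_21_3 lc_g_rc_27_9 lc_g_rc_21_3 lc_g_rc_21_2) (@D3.rec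 (fun _ => (Cert rels S Gen.g)) lc_g_rc_26_6 lc_g_Cert_tree lc_g_rc_21_3 lc_g_rc_27_9 lc_g_rc_21_3 lc_g_Cert_tree lc_g_rc_24_3 lc_g_rc_25_7 lc_g_rc_24_3 lc_g_rc_26_3 lc_g_rc_26_6 lc_g_rc_24_3 lc_g_rc_27_3 lc_g_rc_24_7 lc_g_rc_21_3 lc_g_rc_26_3 lc_g_rc_23_3 lc_g_Cert_tree lc_g_rc_21_2 lc_g_rc_21_2 lc_g_rc_27_6 lc_g_Cert_tree lc_g_rc_24_3 lc_g_rc_23_1 lc_g_rc_21_2 lc_g_rc_21_2 lc_g_rc_21_2 lc_g_rc_25_3 lc_g_rc_23_7 lc_g_rc_27_6 lc_g_rc_21_2 lc_g_rc_21_2 lc_g_rc_26_6 lc_g_Cert_tree lc_g_rc_26_9 lc_g_rc_21_2 lc_g_Cert_tree lc_g_rc_21_3 lc_g_rc_24_7 lc_g_Cert_tree lc_g_rc_24_7 lc_g_rc_27_6 lc_g_rc_23_9 lc_g_rc_23_7 lc_g_rc_23_3 lc_g_Cert_tree lc_g_rc_21_3 lc_g_rc_27_6 lc_g_rc_21_2 lc_g_Cert_tree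 lc_g_rc_23_7 lc_g_rc_24_3 lc_g_rc_26_6 lc_g_rc_21_2 lc_g_rc_23_7 lc_g_rc_26_3 lc_g_rc_21_3 lc_g_rc_23_3 lc_g_Cert_tree lc_g_Cert_tree lc_g_rc_21_3 lc_g_rc_24_9) (@D3.rec (fun _ => (Cert rels S Gen.g)) lc_g_Cert_tree lc_g_rc_25_19 lc_g_rc_23_7 lc_g_rc_26_3 lc_g_rc_21_2 lc_g_rc_27_3 lc_g_rc_21_2 lc_g_rc_27_3 lc_g_rc_27_6 lc_g_rc_24_1 lc_g_rc_26_9 lc_g_rc_21_3 lc_g_Cert_tree lc_g_rc_21_2 lc_g_rc_26_0 lc_g_rc_27_9 lc_g_rc_25_19 lc_g_rc_21_2 lc_g_rc_24_3 lc_g_Cert_tree lc_g_Cert_tree lc_g_rc_21_2 lc_g_rc_26_6 lc_g_rc_26_3 lc_g_rc_21_3 lc_g_Cert_tree lc_g_rc_21_3 lc_g_rc_27_6 lc_g_rc_23_7 lc_g_rc_27_6 lc_g_Cert_tree lc_g_rc_27_3 lc_g_rc_24_3 lc_g_Cert_tree lc_g_rc_21_3 lc_g_rc_21_2 lc_g_rc_21_3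 lc_g_Cert_tree lc_g_rc_27_6 lc_g_rc_21_2 lc_g_rc_27_6 lc_g_rc_27_6 lc_g_rc_23_1 lc_g_rc_23_3 lc_g_rc_21_3 lc_g_rc_21_2 lc_g_rc_21_2 lc_g_rc_23_9 lc_g_rc_21_3 lc_g_rc_21_3 lc_g_rc_26_9 lc_g_rc_27_9 lc_g_Cert_tree lc_g_rc_26_3 lc_g_rc_21_3 lc_g_Cert_tree lc_g_Cert_tree lc_g_rc_21_2 lc_g_rc_21_3 lc_g_Cert_tree lc_g_rc_21_2 lc_g_rc_23_3) (@D3.rec (fun _ => (Cert rels S Gen.g)) lc_g_rc_27_6 lc_g_rc_23_3 lc_g_rc_23_3 lc_g_rc_21_2 lc_g_rc_21_2 lc_g_rc_21_2 lc_g_rc_21_2 lc_g_rc_26_9 lc_g_rc_26_3 lc_g_rc_24_1 lc_g_rc_23_1 lc_g_rc_26_9 lc_g_rc_26_6 lc_g_rc_25_3 lc_g_rc_26_3 lc_g_rc_21_3 lc_g_Cert_tree lc_g_rc_26_6 lc_g_rc_24_3 lc_g_rc_21_3 lc_g_rc_26_6 lc_g_Cert_tree lc_g_rc_26_3 lc_g_rc_21_2 lc_g_Cert_tree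 lc_g_rc_26_9 lc_g_rc_27_9 lc_g_rc_26_9 lc_g_rc_27_3 lc_g_rc_27_6 lc_g_rc_21_3 lc_g_Cert_tree lc_g_rc_27_6 lc_g_rc_21_2 lc_g_rc_24_1 lc_g_rc_26_3 lc_g_rc_27_0 lc_g_rc_24_3 lc_g_rc_21_3 lc_g_rc_21_3 lc_g_rc_24_7 lc_g_rc_21_3 lc_g_rc_23_3 lc_g_Cert_tree lc_g_rc_26_3 lc_g_rc_23_7 lc_g_rc_26_6 lc_g_rc_21_2 lc_g_rc_27_9 lc_g_rc_21_3 lc_g_Cert_tree lc_g_rc_27_6 lc_g_rc_26_6 lc_g_rc_27_6 lc_g_rc_24_3 lc_g_rc_27_0 lc_g_rc_24_3 lc_g_rc_21_3 lc_g_rc_21_3 lc_g_Cert_tree lc_g_rc_26_3 lc_g_rc_21_3) (@D3.rec (fun _ => (Cert rels S Gen.g)) lc_g_rc_21_3 lc_g_rc_27_0 lc_g_rc_21_2 lc_g_rc_21_2 lc_g_Cert_tree lc_g_rc_21_3 lc_g_rc_27_3 lc_g_rc_26_6 lc_g_Cert_tree lc_g_Cert_tree lc_g_rc_21_2 lc_g_rc_26_3 lc_g_rc_27_6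 lc_g_Cert_tree lc_g_rc_27_6 lc_g_rc_21_3 lc_g_rc_21_2 lc_g_rc_27_0 lc_g_rc_21_2 lc_g_rc_21_3 lc_g_Cert_tree lc_g_rc_26_3 lc_g_rc_27_9 lc_g_rc_26_3 lc_g_rc_21_3 lc_g_Cert_tree lc_g_rc_21_2 lc_g_rc_21_3 lc_g_Cert_tree lc_g_Cert_tree lc_g_rc_21_3 lc_g_rc_27_0 lc_g_rc_21_2 lc_g_rc_27_9 lc_g_rc_26_3 lc_g_rc_26_3 lc_g_rc_27_6 lc_g_rc_26_6 lc_g_Cert_tree lc_g_rc_21_3 lc_g_rc_21_2 lc_g_rc_27_9 lc_g_rc_26_3 lc_g_rc_27_9 lc_g_rc_27_6 lc_g_rc_21_3 lc_g_Cert_tree lc_g_rc_27_0 lc_g_rc_27_6 lc_g_rc_24_3 lc_g_rc_26_3 lc_g_rc_23_3 lc_g_Cert_tree lc_g_rc_21_2 lc_g_rc_27_6 lc_g_rc_21_2 lc_g_Cert_tree lc_g_rc_21_2 lc_g_Cert_tree lc_g_rc_21_3 lc_g_rc_21_3 lc_g_rc_27_0) (@D3.rec (fun _ => (Cert rels S Gen.g))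 lc_g_rc_21_3 lc_g_Cert_tree lc_g_rc_24_1 lc_g_rc_24_3 lc_g_rc_24_1 lc_g_rc_23_1 lc_g_rc_24_1 lc_g_Cert_tree lc_g_rc_24_1 lc_g_rc_23_9 lc_g_rc_21_3 lc_g_rc_24_9 lc_g_rc_26_6 lc_g_rc_26_6 lc_g_rc_21_3 lc_g_rc_21_2 lc_g_rc_27_6 lc_g_Cert_tree lc_g_rc_21_2 lc_g_rc_23_7 lc_g_rc_26_9 lc_g_Cert_tree lc_g_rc_21_3 lc_g_Cert_tree lc_g_rc_21_2 lc_g_rc_24_3 lc_g_rc_24_3 lc_g_rc_21_3 lc_g_rc_27_0 lc_g_rc_27_6 lc_g_rc_21_3 lc_g_Cert_tree lc_g_rc_24_9 lc_g_Cert_tree lc_g_rc_21_3 lc_g_rc_24_7 lc_g_rc_27_0 lc_g_rc_21_3 lc_g_rc_21_2 lc_g_rc_21_2 lc_g_rc_26_0 lc_g_rc_21_2 lc_g_Cert_tree lc_g_rc_23_7 lc_g_rc_21_3 lc_g_rc_21_2 lc_g_rc_21_2 lc_g_rc_21_3 lc_g_Cert_tree lc_g_rc_25_7 lc_g_rc_21_2 lc_g_rc_24_9 lc_g_Cert_tree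 lc_g_rc_21_2 lc_g_rc_21_3 lc_g_Cert_tree lc_g_rc_21_2 lc_g_rc_23_9 lc_g_rc_24_1 lc_g_rc_23_9 lc_g_rc_27_0 lc_g_Cert_tree) (@D3.rec (fun _ => (Cert rels S Gen.g)) lc_g_rc_27_3 lc_g_rc_21_2 lc_g_rc_27_0 lc_g_rc_24_7 lc_g_rc_26_3 lc_g_rc_27_0 lc_g_rc_24_7 lc_g_rc_27_3 lc_g_Cert_tree lc_g_rc_21_2 lc_g_rc_21_3 lc_g_rc_21_3 lc_g_Cert_tree lc_g_rc_21_2 lc_g_rc_27_6 lc_g_Cert_tree lc_g_rc_26_3 lc_g_rc_26_6 lc_g_rc_21_3 lc_g_Cert_tree lc_g_rc_26_3 lc_g_rc_27_9 lc_g_rc_24_7 lc_g_rc_27_9 lc_g_Cert_tree lc_g_rc_21_3 lc_g_rc_25_15 lc_g_rc_26_6 lc_g_rc_27_9 lc_g_rc_21_2 lc_g_rc_27_0 lc_g_Cert_tree lc_g_rc_21_2 lc_g_rc_21_2 lc_g_rc_21_2 lc_g_rc_21_3 lc_g_rc_27_3 lc_g_rc_24_3 lc_g_rc_24_3 lc_g_Cert_tree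 lc_g_rc_21_3 lc_g_rc_23_7 lc_g_rc_21_2 lc_g_rc_21_2 lc_g_rc_21_3 lc_g_Cert_tree lc_g_Cert_tree lc_g_rc_24_1 lc_g_Cert_tree lc_g_rc_27_9 lc_g_rc_26_6 lc_g_Cert_tree lc_g_rc_26_6 lc_g_rc_26_6 lc_g_rc_27_9 lc_g_rc_26_0 lc_g_rc_26_9 lc_g_rc_23_3 lc_g_rc_21_2 lc_g_Cert_tree lc_g_rc_26_3 lc_g_rc_21_2) (@D3.rec (fun _ => (Cert rels S Gen.g)) lc_g_rc_23_3 lc_g_rc_24_1 lc_g_rc_21_3 lc_g_Cert_tree lc_g_rc_26_3 lc_g_rc_27_3 lc_g_Cert_tree lc_g_rc_21_2 lc_g_rc_21_2 lc_g_rc_26_9 lc_g_rc_27_6 lc_g_Cert_tree lc_g_rc_21_2 lc_g_rc_24_1 lc_g_rc_21_3 lc_g_Cert_tree lc_g_rc_27_6 lc_g_rc_24_3 lc_g_rc_26_6 lc_g_Cert_tree lc_g_rc_26_6 lc_g_rc_21_2 lc_g_rc_26_6 lc_g_rc_23_7 lc_g_Cert_tree lc_g_rc_23_3 lc_g_rc_21_3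 lc_g_rc_23_3 lc_g_rc_21_3 lc_g_Cert_tree lc_g_rc_21_2 lc_g_rc_23_3 lc_g_Cert_tree lc_g_rc_27_3 lc_g_rc_21_3 lc_g_Cert_tree lc_g_rc_26_3 lc_g_Cert_tree lc_g_rc_24_7 lc_g_rc_23_7 lc_g_rc_23_3 lc_g_rc_26_6 lc_g_Cert_tree lc_g_rc_26_3 lc_g_rc_24_7 lc_g_Cert_tree lc_g_rc_21_3 lc_g_Cert_tree lc_g_rc_21_3 lc_g_rc_23_1 lc_g_rc_21_2 lc_g_Cert_tree lc_g_rc_23_1 lc_g_Cert_tree lc_g_rc_21_2 lc_g_rc_27_9 lc_g_rc_24_7 lc_g_rc_23_9 lc_g_rc_23_3 lc_g_rc_21_3 lc_g_rc_21_2 lc_g_rc_26_6) (@D3.rec (fun _ => (Cert rels S Gen.g)) lc_g_rc_26_0 lc_g_rc_24_1 lc_g_rc_21_2 lc_g_rc_21_3 lc_g_rc_26_3 lc_g_rc_21_3 lc_g_rc_24_3 lc_g_rc_23_3 lc_g_rc_26_3 lc_g_rc_27_6 lc_g_Cert_tree lc_g_rc_21_2 lc_g_rc_24_3 lc_g_rc_21_2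 lc_g_rc_21_3 lc_g_rc_21_3 lc_g_Cert_tree lc_g_rc_26_6 lc_g_rc_24_7 lc_g_rc_21_2 lc_g_rc_27_0 lc_g_rc_24_7 lc_g_rc_23_1 lc_g_rc_24_3 lc_g_Cert_tree lc_g_Cert_tree lc_g_rc_24_3 lc_g_Cert_tree lc_g_rc_24_7 lc_g_rc_27_6 lc_g_rc_21_2 lc_g_rc_27_3 lc_g_rc_26_6 lc_g_rc_23_3 lc_g_rc_21_2 lc_g_Cert_tree lc_g_Cert_tree lc_g_rc_26_6 lc_g_rc_21_2 lc_g_rc_26_6 lc_g_rc_21_3 lc_g_Cert_tree lc_g_rc_24_3 lc_g_rc_21_3 lc_g_rc_21_2 lc_g_rc_27_3 lc_g_rc_27_3 lc_g_rc_26_3 lc_g_rc_27_3 lc_g_Cert_tree lc_g_rc_27_6 lc_g_rc_26_3 lc_g_rc_27_3 lc_g_Cert_tree lc_g_rc_26_3 lc_g_rc_26_3 lc_g_rc_27_0 lc_g_Cert_tree lc_g_rc_21_3 lc_g_rc_21_3 lc_g_rc_27_9 lc_g_rc_24_7) (@D3.rec (fun _ => (Cert rels S Gen.g)) lc_g_rc_23_3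 lc_g_rc_23_1 lc_g_rc_24_1 lc_g_rc_23_7 lc_g_rc_26_6 lc_g_rc_23_3 lc_g_rc_21_3 lc_g_rc_26_6 lc_g_rc_26_6 lc_g_rc_21_3 lc_g_Cert_tree lc_g_rc_27_0 lc_g_Cert_tree lc_g_rc_23_7 lc_g_Cert_tree lc_g_rc_27_6 lc_g_Cert_tree lc_g_rc_24_1 lc_g_rc_21_3 lc_g_rc_23_3 lc_g_rc_21_2 lc_g_rc_21_3 lc_g_rc_21_3 lc_g_rc_24_3 lc_g_rc_21_3 lc_g_rc_21_2 lc_g_rc_27_6 lc_g_rc_21_2 lc_g_rc_21_2 lc_g_rc_21_3 lc_g_Cert_tree lc_g_rc_23_3 lc_g_rc_21_2 lc_g_rc_24_3 lc_g_rc_21_2 lc_g_rc_26_3 lc_g_rc_27_9 lc_g_rc_25_19 lc_g_rc_26_3 lc_g_rc_23_1 lc_g_rc_24_1 lc_g_rc_23_1 lc_g_rc_26_3 lc_g_rc_21_3 lc_g_rc_27_3 lc_g_rc_27_6 lc_g_rc_21_2 lc_g_rc_26_6 lc_g_rc_27_9 lc_g_rc_21_3 lc_g_rc_21_3 lc_g_Cert_tree lc_g_Cert_tree lc_g_rc_27_6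 lc_g_Cert_tree lc_g_rc_27_3 lc_g_rc_24_7 lc_g_rc_26_9 lc_g_rc_27_9 lc_g_rc_24_3 lc_g_Cert_tree lc_g_rc_24_3) (@D3.rec (fun _ => (Cert rels S Gen.g)) lc_g_rc_21_3 lc_g_Cert_tree lc_g_rc_21_2 lc_g_rc_24_3 lc_g_Cert_tree lc_g_rc_21_3 lc_g_rc_21_3 lc_g_rc_27_3 lc_g_rc_21_2 lc_g_rc_21_3 lc_g_rc_27_0 lc_g_rc_21_2 lc_g_rc_24_7 lc_g_Cert_tree lc_g_rc_24_3 lc_g_rc_24_3 lc_g_rc_27_6 lc_g_Cert_tree lc_g_rc_21_2 lc_g_rc_21_2 lc_g_rc_26_6 lc_g_rc_26_6 lc_g_Cert_tree lc_g_rc_21_2 lc_g_rc_24_7 lc_g_Cert_tree lc_g_rc_27_6 lc_g_rc_21_2 lc_g_rc_23_1 lc_g_rc_27_9 lc_g_Cert_tree lc_g_rc_21_3 lc_g_Cert_tree lc_g_Cert_tree lc_g_rc_21_3 lc_g_Cert_tree lc_g_rc_21_2 lc_g_rc_23_1 lc_g_Cert_tree lc_g_rc_24_3 lc_g_Cert_tree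 lc_g_rc_25_3 lc_g_rc_23_3 lc_g_Cert_tree lc_g_rc_23_9 lc_g_Cert_tree lc_g_rc_23_3 lc_g_rc_24_1 lc_g_Cert_tree lc_g_rc_27_6 lc_g_rc_26_6 lc_g_rc_21_3 lc_g_Cert_tree lc_g_rc_26_9 lc_g_rc_26_3 lc_g_rc_27_0 lc_g_rc_21_3 lc_g_rc_23_9 lc_g_rc_24_1 lc_g_rc_27_3 lc_g_rc_26_3 lc_g_rc_26_0) (@D3.rec (fun _ => (Cert rels S Gen.g)) lc_g_rc_21_3 lc_g_rc_21_3 lc_g_rc_26_6 lc_g_rc_26_6 lc_g_Cert_tree lc_g_rc_23_1 lc_g_rc_27_6 lc_g_rc_21_3 lc_g_Cert_tree lc_g_rc_27_3 lc_g_rc_21_2 lc_g_rc_24_7 lc_g_rc_23_1 lc_g_rc_24_7 lc_g_Cert_tree lc_g_rc_24_1 lc_g_rc_21_3 lc_g_rc_27_6 lc_g_rc_21_3 lc_g_Cert_tree lc_g_rc_21_3 lc_g_rc_21_3 lc_g_rc_21_2 lc_g_rc_26_3 lc_g_rc_26_6 lc_g_rc_23_3 lc_g_rc_23_1 lc_g_rc_26_3 lc_g_rc_27_6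 lc_g_rc_27_3 lc_g_rc_21_3 lc_g_rc_23_7 lc_g_rc_27_6 lc_g_rc_24_3 lc_g_rc_27_0 lc_g_rc_26_6 lc_g_rc_21_3 lc_g_rc_27_6 lc_g_rc_27_0 lc_g_rc_23_9 lc_g_rc_27_0 lc_g_rc_27_6 lc_g_rc_26_3 lc_g_rc_23_1 lc_g_Cert_tree lc_g_rc_27_3 lc_g_rc_21_3 lc_g_rc_26_6 lc_g_Cert_tree lc_g_rc_21_3 lc_g_Cert_tree lc_g_rc_21_2 lc_g_Cert_tree lc_g_rc_21_3 lc_g_rc_26_0 lc_g_rc_27_6 lc_g_rc_26_3 lc_g_Cert_tree lc_g_rc_23_1 lc_g_rc_21_3 lc_g_Cert_tree lc_g_rc_26_3) (@D3.rec (fun _ => (Cert rels S Gen.g)) lc_g_rc_26_3 lc_g_rc_21_3 lc_g_rc_23_1 lc_g_rc_23_1 lc_g_rc_21_3 lc_g_rc_24_3 lc_g_rc_27_0 lc_g_rc_26_0 lc_g_Cert_tree lc_g_rc_26_3 lc_g_Cert_tree lc_g_rc_21_2 lc_g_rc_27_3 lc_g_rc_21_2 lc_g_rc_24_9 lc_g_rc_23_3 lc_g_Cert_tree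 lc_g_Cert_tree lc_g_rc_27_0 lc_g_rc_23_3 lc_g_rc_26_6 lc_g_rc_24_1 lc_g_rc_24_1 lc_g_Cert_tree lc_g_rc_21_3 lc_g_rc_23_1 lc_g_rc_21_3 lc_g_rc_26_3 lc_g_rc_27_3 lc_g_rc_27_0 lc_g_rc_21_2 lc_g_rc_24_9 lc_g_rc_26_3 lc_g_rc_21_2 lc_g_rc_21_3 lc_g_rc_21_3 lc_g_Cert_tree lc_g_rc_26_3 lc_g_rc_23_1 lc_g_rc_26_6 lc_g_Cert_tree lc_g_rc_27_3 lc_g_rc_26_9 lc_g_rc_27_0 lc_g_rc_21_3 lc_g_Cert_tree lc_g_rc_26_3 lc_g_Cert_tree lc_g_rc_27_3 lc_g_rc_26_6 lc_g_rc_23_1 lc_g_rc_23_1 lc_g_rc_24_9 lc_g_rc_21_2 lc_g_rc_23_1 lc_g_rc_26_3 lc_g_rc_21_3 lc_g_rc_21_3 lc_g_Cert_tree lc_g_rc_21_3 lc_g_rc_23_7 lc_g_rc_24_3) (@D3.rec (fun _ => (Cert rels S Gen.g)) lc_g_rc_21_3 lc_g_rc_27_6 lc_g_rc_21_2 lc_g_rc_27_6 lc_g_rc_24_3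 lc_g_rc_21_3 lc_g_rc_21_3 lc_g_rc_21_3 lc_g_rc_23_3 lc_g_Cert_tree lc_g_rc_27_0 lc_g_rc_21_2 lc_g_rc_26_6 lc_g_rc_21_3 lc_g_rc_25_19 lc_g_rc_24_1 lc_g_rc_26_0 lc_g_rc_24_3 lc_g_rc_26_0 lc_g_rc_24_1 lc_g_rc_24_3 lc_g_rc_21_2 lc_g_rc_23_3 lc_g_Cert_tree lc_g_rc_23_9 lc_g_rc_21_3 lc_g_rc_27_0 lc_g_rc_23_3 lc_g_rc_27_9 lc_g_rc_24_7 lc_g_rc_27_0 lc_g_rc_21_3 lc_g_Cert_tree lc_g_Cert_tree lc_g_rc_26_3 lc_g_rc_21_3 lc_g_Cert_tree lc_g_rc_21_2 lc_g_rc_23_3 lc_g_rc_24_3 lc_g_rc_27_6 lc_g_rc_23_3 lc_g_Cert_tree lc_g_rc_24_7 lc_g_rc_26_6 lc_g_Cert_tree lc_g_rc_21_2 lc_g_rc_26_6 lc_g_rc_25_11 lc_g_rc_27_0 lc_g_rc_21_2 lc_g_rc_26_6 lc_g_rc_27_9 lc_g_rc_21_3 lc_g_rc_21_3 lc_g_Cert_tree lc_g_rc_21_2 lc_g_rc_23_9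 lc_g_rc_27_3 lc_g_Cert_tree lc_g_Cert_tree lc_g_rc_21_3) (@D3.rec (fun _ => (Cert rels S Gen.g)) lc_g_Cert_tree lc_g_rc_21_2 lc_g_rc_21_2 lc_g_Cert_tree lc_g_rc_24_1 lc_g_rc_21_2 lc_g_rc_24_7 lc_g_rc_27_3 lc_g_rc_21_3 lc_g_rc_21_3 lc_g_Cert_tree lc_g_rc_27_0 lc_g_rc_21_2 lc_g_rc_23_3 lc_g_rc_23_3 lc_g_rc_27_9 lc_g_Cert_tree lc_g_rc_25_11 lc_g_rc_21_2 lc_g_rc_26_9 lc_g_rc_21_3 lc_g_Cert_tree lc_g_rc_25_7 lc_g_rc_27_6 lc_g_rc_21_3 lc_g_Cert_tree lc_g_rc_24_3 lc_g_rc_26_6 lc_g_rc_27_3 lc_g_rc_27_6 lc_g_Cert_tree lc_g_rc_24_1 lc_g_rc_23_3 lc_g_Cert_tree lc_g_rc_26_3 lc_g_rc_23_1 lc_g_rc_24_3 lc_g_Cert_tree lc_g_rc_24_3 lc_g_rc_21_3 lc_g_Cert_tree lc_g_rc_27_6 lc_g_rc_27_9 lc_g_rc_21_2 lc_g_rc_26_3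 lc_g_rc_21_2 lc_g_rc_21_3 lc_g_rc_24_7 lc_g_rc_27_6 lc_g_rc_24_7 lc_g_rc_27_6 lc_g_Cert_tree lc_g_rc_24_1 lc_g_rc_26_3 lc_g_rc_27_6 lc_g_rc_21_2 lc_g_rc_27_6 lc_g_Cert_tree lc_g_rc_21_2 lc_g_rc_23_1 lc_g_rc_26_3 lc_g_Cert_tree) (@D3.rec (fun _ => (Cert rels S Gen.g)) lc_g_rc_24_7 lc_g_rc_21_2 lc_g_rc_21_3 lc_g_Cert_tree lc_g_rc_21_3 lc_g_rc_27_6 lc_g_rc_21_2 lc_g_rc_21_3 lc_g_Cert_tree lc_g_rc_21_2 lc_g_rc_26_6 lc_g_rc_21_3 lc_g_rc_24_1 lc_g_Cert_tree lc_g_rc_26_6 lc_g_rc_27_9 lc_g_rc_24_9 lc_g_rc_24_1 lc_g_rc_24_9 lc_g_rc_21_2 lc_g_rc_21_2 lc_g_rc_24_1 lc_g_Cert_tree lc_g_rc_21_2 lc_g_rc_27_0 lc_g_rc_27_3 lc_g_Cert_tree lc_g_rc_24_1 lc_g_rc_21_3 lc_g_Cert_tree lc_g_rc_27_6 lc_g_rc_26_0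 lc_g_rc_27_6 lc_g_rc_21_3 lc_g_rc_24_3 lc_g_rc_21_2 lc_g_rc_25_3 lc_g_rc_24_1 lc_g_rc_26_0 lc_g_rc_23_3 lc_g_rc_26_0 lc_g_rc_23_1 lc_g_Cert_tree lc_g_rc_26_3 lc_g_rc_21_3 lc_g_Cert_tree lc_g_rc_24_7 lc_g_rc_27_0 lc_g_rc_24_7 lc_g_rc_24_3 lc_g_rc_26_3 lc_g_rc_27_3 lc_g_rc_23_1 lc_g_Cert_tree lc_g_rc_26_0 lc_g_rc_21_3 lc_g_rc_23_3 lc_g_rc_24_3 lc_g_Cert_tree lc_g_rc_21_2 lc_g_Cert_tree lc_g_Cert_tree) (@D3.rec (fun _ => (Cert rels S Gen.g)) lc_g_rc_21_3 lc_g_Cert_tree lc_g_rc_26_6 lc_g_rc_21_3 lc_g_rc_27_3 lc_g_rc_27_6 lc_g_rc_21_2 lc_g_rc_26_6 lc_g_rc_21_3 lc_g_rc_27_9 lc_g_rc_21_3 lc_g_rc_27_0 lc_g_rc_24_3 lc_g_rc_26_3 lc_g_rc_27_6 lc_g_rc_21_3 lc_g_Cert_tree lc_g_rc_26_3 lc_g_rc_23_3 lc_g_rc_26_3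 lc_g_Cert_tree lc_g_rc_21_3 lc_g_Cert_tree lc_g_rc_21_2 lc_g_Cert_tree lc_g_rc_21_2 lc_g_rc_23_7 lc_g_Cert_tree lc_g_rc_27_3 lc_g_rc_21_2 lc_g_rc_27_6 lc_g_rc_23_1 lc_g_rc_23_7 lc_g_rc_23_3 lc_g_rc_23_3 lc_g_rc_24_7 lc_g_rc_27_6 lc_g_rc_24_3 lc_g_rc_24_7 lc_g_rc_27_6 lc_g_Cert_tree lc_g_rc_21_2 lc_g_rc_27_6 lc_g_rc_26_3 lc_g_rc_26_0 lc_g_Cert_tree lc_g_rc_26_0 lc_g_rc_24_7 lc_g_Cert_tree lc_g_rc_21_3 lc_g_rc_27_3 lc_g_rc_23_3 lc_g_rc_23_3 lc_g_rc_21_3 lc_g_rc_26_3 lc_g_rc_27_0 lc_g_rc_23_1 lc_g_rc_23_7 lc_g_rc_23_3 lc_g_Cert_tree lc_g_rc_21_3 lc_g_Cert_tree) (@D3.rec (fun _ => (Cert rels S Gen.g)) lc_g_rc_21_2 lc_g_rc_23_9 lc_g_rc_26_6 lc_g_Cert_tree lc_g_rc_21_3 lc_g_Cert_tree lc_g_rc_21_2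 lc_g_rc_23_3 lc_g_rc_27_6 lc_g_rc_21_2 lc_g_rc_26_9 lc_g_rc_27_9 lc_g_rc_23_1 lc_g_rc_26_3 lc_g_rc_27_6 lc_g_rc_27_3 lc_g_rc_26_0 lc_g_rc_21_2 lc_g_rc_26_6 lc_g_rc_26_3 lc_g_rc_23_3 lc_g_rc_26_3 lc_g_rc_27_6 lc_g_rc_21_2 lc_g_rc_23_1 lc_g_rc_21_2 lc_g_rc_24_3 lc_g_rc_27_6 lc_g_rc_21_2 lc_g_rc_27_9 lc_g_rc_24_1 lc_g_rc_21_2 lc_g_Cert_tree lc_g_rc_27_6 lc_g_rc_23_7 lc_g_Cert_tree lc_g_rc_26_6 lc_g_rc_26_6 lc_g_rc_21_3 lc_g_Cert_tree lc_g_rc_23_1 lc_g_rc_21_3 lc_g_rc_23_1 lc_g_rc_23_3 lc_g_rc_21_2 lc_g_Cert_tree lc_g_rc_21_2 lc_g_rc_21_3 lc_g_rc_21_2 lc_g_rc_21_3 lc_g_Cert_tree lc_g_rc_21_2 lc_g_rc_21_3 lc_g_rc_23_3 lc_g_Cert_tree lc_g_rc_27_0 lc_g_rc_26_9 lc_g_rc_27_9 lc_g_rc_24_1 lc_g_rc_26_3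 lc_g_rc_26_3 lc_g_rc_27_6) (@D3.rec (fun _ => (Cert rels S Gen.g)) lc_g_Cert_tree lc_g_rc_27_0 lc_g_rc_23_3 lc_g_rc_26_9 lc_g_rc_27_3 lc_g_rc_21_3 lc_g_Cert_tree lc_g_rc_24_1 lc_g_rc_21_3 lc_g_rc_21_2 lc_g_rc_27_3 lc_g_rc_23_1 lc_g_rc_26_9 lc_g_rc_27_9 lc_g_rc_27_6 lc_g_rc_23_1 lc_g_rc_23_1 lc_g_rc_21_3 lc_g_rc_23_3 lc_g_rc_26_6 lc_g_rc_24_9 lc_g_rc_23_7 lc_g_Cert_tree lc_g_rc_27_3 lc_g_rc_26_0 lc_g_rc_26_0 lc_g_rc_23_3 lc_g_rc_21_3 lc_g_rc_26_0 lc_g_rc_24_3 lc_g_rc_27_0 lc_g_rc_21_2 lc_g_rc_21_2 lc_g_rc_23_9 lc_g_rc_24_1 lc_g_rc_23_7 lc_g_rc_27_6 lc_g_rc_21_3 lc_g_rc_26_0 lc_g_rc_27_9 lc_g_rc_27_0 lc_g_rc_26_0 lc_g_Cert_tree lc_g_rc_23_3 lc_g_rc_24_7 lc_g_rc_21_3 lc_g_Cert_tree lc_g_rc_21_3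 lc_g_rc_21_2 lc_g_rc_21_3 lc_g_rc_27_3 lc_g_rc_21_3 lc_g_rc_21_3 lc_g_rc_21_3 lc_g_Cert_tree lc_g_rc_21_2 lc_g_rc_21_3 lc_g_Cert_tree lc_g_rc_21_2 lc_g_rc_27_9 lc_g_rc_21_2 lc_g_rc_25_3) (@D3.rec (fun _ => (Cert rels S Gen.g)) lc_g_rc_24_1 lc_g_rc_27_3 lc_g_rc_26_3 lc_g_rc_21_3 lc_g_rc_23_1 lc_g_rc_21_3 lc_g_Cert_tree lc_g_rc_21_2 lc_g_rc_21_2 lc_g_rc_26_6 lc_g_rc_23_1 lc_g_rc_27_6 lc_g_rc_24_3 lc_g_Cert_tree lc_g_Cert_tree lc_g_rc_21_3 lc_g_Cert_tree lc_g_rc_21_2 lc_g_rc_21_3 lc_g_Cert_tree lc_g_rc_21_2 lc_g_rc_21_3 lc_g_Cert_tree lc_g_rc_21_2 lc_g_rc_21_3 lc_g_rc_24_7 lc_g_rc_21_3 lc_g_rc_26_6 lc_g_rc_24_7 lc_g_rc_23_3 lc_g_rc_27_3 lc_g_rc_21_2 lc_g_rc_25_19 lc_g_rc_26_3 lc_g_rc_21_3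 lc_g_Cert_tree lc_g_rc_27_3 lc_g_rc_21_2 lc_g_rc_24_3 lc_g_rc_27_0 lc_g_rc_24_1 lc_g_rc_24_9 lc_g_Cert_tree lc_g_rc_21_2 lc_g_rc_23_1 lc_g_Cert_tree lc_g_rc_27_6 lc_g_rc_26_3 lc_g_rc_26_6 lc_g_rc_21_3 lc_g_Cert_tree lc_g_rc_26_6 lc_g_rc_21_2 lc_g_rc_24_9 lc_g_rc_27_0 lc_g_rc_24_3 lc_g_rc_23_7 lc_g_Cert_tree lc_g_rc_23_7 lc_g_rc_26_3 lc_g_rc_21_3 lc_g_Cert_tree) (@D3.rec (fun _ => (Cert rels S Gen.g)) lc_g_rc_23_7 lc_g_rc_26_0 lc_g_rc_23_9 lc_g_rc_27_9 lc_g_rc_26_3 lc_g_rc_23_7 lc_g_rc_23_9 lc_g_rc_26_0 lc_g_rc_27_3 lc_g_rc_24_7 lc_g_rc_27_6 lc_g_rc_21_2 lc_g_Cert_tree lc_g_rc_23_3 lc_g_rc_21_3 lc_g_Cert_tree lc_g_rc_27_0 lc_g_rc_27_9 lc_g_rc_27_6 lc_g_rc_21_3 lc_g_rc_27_0 lc_g_rc_23_9 lc_g_rc_23_7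 lc_g_rc_27_0 lc_g_rc_27_3 lc_g_rc_27_3 lc_g_rc_23_1 lc_g_rc_26_9 lc_g_rc_27_6 lc_g_Cert_tree lc_g_rc_21_2 lc_g_rc_21_3 lc_g_Cert_tree lc_g_rc_21_2 lc_g_rc_24_7 lc_g_rc_21_3 lc_g_Cert_tree lc_g_rc_21_2 lc_g_rc_21_2 lc_g_rc_21_2 lc_g_rc_26_3 lc_g_rc_27_0 lc_g_rc_26_0 lc_g_rc_26_9 lc_g_rc_27_6 lc_g_rc_23_3 lc_g_rc_26_9 lc_g_rc_27_6 lc_g_rc_23_3 lc_g_rc_26_6 lc_g_rc_23_9 lc_g_Cert_tree lc_g_rc_21_2 lc_g_rc_27_9 lc_g_rc_24_3 lc_g_rc_25_19 lc_g_rc_21_3 lc_g_rc_24_1 lc_g_rc_24_3 lc_g_rc_21_3 lc_g_rc_21_3 lc_g_rc_24_7) (@D3.rec (fun _ => (Cert rels S Gen.g)) lc_g_rc_26_6 lc_g_rc_24_3 lc_g_rc_27_6 lc_g_rc_27_0 lc_g_rc_21_3 lc_g_rc_24_7 lc_g_rc_27_0 lc_g_rc_21_2 lc_g_rc_24_9 lc_g_rc_21_3 lc_g_Cert_tree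 lc_g_rc_21_2 lc_g_rc_21_3 lc_g_rc_21_3 lc_g_Cert_tree lc_g_rc_21_2 lc_g_Cert_tree lc_g_rc_26_6 lc_g_rc_21_3 lc_g_rc_27_6 lc_g_rc_24_3 lc_g_rc_21_3 lc_g_rc_23_7 lc_g_rc_21_2 lc_g_rc_27_9 lc_g_rc_26_0 lc_g_rc_23_9 lc_g_rc_27_0 lc_g_rc_27_0 lc_g_rc_23_9 lc_g_rc_21_2 lc_g_rc_21_2 lc_g_rc_21_3 lc_g_Cert_tree lc_g_rc_27_3 lc_g_rc_27_3 lc_g_rc_26_6 lc_g_rc_21_3 lc_g_Cert_tree lc_g_rc_26_3 lc_g_rc_24_3 lc_g_rc_21_2 lc_g_Cert_tree lc_g_rc_21_2 lc_g_rc_26_3 lc_g_rc_27_0 lc_g_rc_23_3 lc_g_rc_26_3 lc_g_rc_23_9 lc_g_rc_21_3 lc_g_rc_27_9 lc_g_rc_21_2 lc_g_rc_21_3 lc_g_Cert_tree lc_g_rc_26_3 lc_g_rc_21_3 lc_g_Cert_tree lc_g_rc_26_9 lc_g_rc_24_9 lc_g_Cert_tree lc_g_rc_21_2 lc_g_rc_21_3) (@D3.rec (fun _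 => (Cert rels S Gen.g)) lc_g_rc_26_6 lc_g_rc_27_6 lc_g_rc_23_1 lc_g_rc_26_6 lc_g_rc_21_3 lc_g_rc_23_3 lc_g_rc_23_3 lc_g_rc_21_2 lc_g_rc_24_1 lc_g_rc_23_3 lc_g_rc_21_3 lc_g_rc_26_6 lc_g_rc_25_11 lc_g_rc_21_2 lc_g_rc_27_3 lc_g_rc_24_3 lc_g_rc_24_1 lc_g_rc_26_3 lc_g_rc_27_6 lc_g_rc_23_1 lc_g_rc_26_3 lc_g_rc_21_2 lc_g_rc_21_3 lc_g_rc_26_3 lc_g_Cert_tree lc_g_Cert_tree lc_g_rc_26_0 lc_g_rc_27_0 lc_g_rc_21_2 lc_g_rc_23_9 lc_g_rc_21_2 lc_g_rc_21_2 lc_g_rc_24_3 lc_g_rc_27_9 lc_g_rc_21_3 lc_g_rc_27_0 lc_g_rc_26_3 lc_g_rc_24_9 lc_g_rc_24_3 lc_g_rc_27_3 lc_g_rc_21_3 lc_g_Cert_tree lc_g_rc_23_7 lc_g_rc_21_2 lc_g_rc_21_3 lc_g_Cert_tree lc_g_rc_27_6 lc_g_rc_27_3 lc_g_rc_26_3 lc_g_rc_26_0 lc_g_rc_24_9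 lc_g_rc_26_6 lc_g_rc_23_3 lc_g_rc_26_9 lc_g_rc_24_9 lc_g_rc_26_9 lc_g_rc_21_2 lc_g_rc_21_2 lc_g_rc_21_3 lc_g_rc_21_3 lc_g_Cert_tree lc_g_rc_21_2) (@D3.rec (fun _ => (Cert rels S Gen.g)) lc_g_rc_23_1 lc_g_rc_27_6 lc_g_rc_21_3 lc_g_Cert_tree lc_g_rc_23_7 lc_g_rc_21_3 lc_g_rc_26_6 lc_g_rc_25_19 lc_g_rc_21_3 lc_g_rc_25_19 lc_g_rc_27_9 lc_g_rc_24_1 lc_g_rc_21_2 lc_g_rc_23_3 lc_g_rc_24_9 lc_g_Cert_tree lc_g_rc_23_3 lc_g_rc_23_1 lc_g_rc_23_1 lc_g_rc_26_0 lc_g_rc_21_2 lc_g_Cert_tree lc_g_rc_27_3 lc_g_rc_21_3 lc_g_rc_21_3 lc_g_rc_27_0 lc_g_rc_21_2 lc_g_rc_27_6 lc_g_rc_21_2 lc_g_rc_24_9 lc_g_rc_21_3 lc_g_rc_26_0 lc_g_rc_26_3 lc_g_rc_21_3 lc_g_rc_24_1 lc_g_rc_26_3 lc_g_rc_27_6 lc_g_rc_21_3 lc_g_rc_21_3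 lc_g_rc_21_3 lc_g_Cert_tree lc_g_rc_21_2 lc_g_Cert_tree lc_g_rc_23_9 lc_g_rc_21_2 lc_g_rc_27_9 lc_g_rc_26_9 lc_g_rc_23_1 lc_g_rc_27_6 lc_g_rc_26_9 lc_g_rc_24_1 lc_g_rc_21_3 lc_g_Cert_tree lc_g_rc_21_2 lc_g_rc_24_3 lc_g_Cert_tree lc_g_rc_21_3 lc_g_Cert_tree lc_g_rc_24_9 lc_g_rc_21_2 lc_g_rc_26_9 lc_g_Cert_tree) (@D3.rec (fun _ => (Cert rels S Gen.g)) lc_g_Cert_tree lc_g_rc_21_3 lc_g_Cert_tree lc_g_rc_21_2 lc_g_rc_27_6 lc_g_rc_21_3 lc_g_rc_26_3 lc_g_rc_26_6 lc_g_rc_26_9 lc_g_rc_26_0 lc_g_rc_21_3 lc_g_rc_23_9 lc_g_rc_26_9 lc_g_Cert_tree lc_g_rc_26_9 lc_g_rc_26_6 lc_g_rc_24_7 lc_g_Cert_tree lc_g_Cert_tree lc_g_rc_24_1 lc_g_rc_26_6 lc_g_rc_27_6 lc_g_rc_26_6 lc_g_Cert_tree lc_g_rc_27_0 lc_g_rc_24_3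 lc_g_rc_21_3 lc_g_Cert_tree lc_g_rc_27_9 lc_g_rc_27_3 lc_g_rc_21_2 lc_g_rc_21_2 lc_g_rc_21_3 lc_g_Cert_tree lc_g_rc_21_2 lc_g_rc_21_3 lc_g_Cert_tree lc_g_rc_26_6 lc_g_rc_21_2 lc_g_rc_21_3 lc_g_rc_26_6 lc_g_rc_21_3 lc_g_Cert_tree lc_g_rc_21_3 lc_g_Cert_tree lc_g_rc_21_2 lc_g_rc_21_2 lc_g_rc_21_3 lc_g_rc_21_2 lc_g_Cert_tree lc_g_rc_21_2 lc_g_rc_23_1 lc_g_rc_21_2 lc_g_rc_26_3 lc_g_rc_25_3 lc_g_rc_21_3 lc_g_rc_26_3 lc_g_rc_23_3 lc_g_rc_27_6 lc_g_Cert_tree lc_g_rc_21_2 lc_g_rc_25_3) (@D3.rec (fun _ => (Cert rels S Gen.g)) lc_g_rc_23_9 lc_g_rc_24_3 lc_g_rc_21_3 lc_g_Cert_tree lc_g_rc_21_2 lc_g_rc_21_2 lc_g_rc_24_3 lc_g_rc_27_3 lc_g_rc_24_3 lc_g_Cert_tree lc_g_rc_21_3 lc_g_rc_21_2 lc_g_rc_26_3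 lc_g_rc_27_6 lc_g_rc_21_3 lc_g_rc_21_3 lc_g_Cert_tree lc_g_rc_26_3 lc_g_Cert_tree lc_g_rc_27_6 lc_g_Cert_tree lc_g_rc_23_3 lc_g_rc_21_3 lc_g_rc_27_6 lc_g_Cert_tree lc_g_Cert_tree lc_g_rc_21_2 lc_g_Cert_tree lc_g_rc_21_3 lc_g_rc_26_0 lc_g_rc_26_9 lc_g_rc_27_3 lc_g_rc_23_1 lc_g_rc_27_0 lc_g_rc_21_2 lc_g_rc_21_2 lc_g_rc_21_2 lc_g_rc_21_3 lc_g_rc_21_3 lc_g_Cert_tree lc_g_rc_26_9 lc_g_Cert_tree lc_g_rc_23_3 lc_g_rc_21_3 lc_g_rc_21_2 lc_g_rc_23_1 lc_g_rc_21_2 lc_g_Cert_tree lc_g_rc_21_2 lc_g_rc_21_2 lc_g_rc_21_2 lc_g_rc_21_2 lc_g_rc_23_7 lc_g_rc_21_2 lc_g_rc_24_7 lc_g_rc_26_6 lc_g_rc_26_6 lc_g_rc_23_1 lc_g_rc_27_6 lc_g_rc_26_3 lc_g_rc_21_2 lc_g_rc_24_9) (@D3.rec (fun _ => (Cert rels S Gen.g))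 lc_g_rc_21_3 lc_g_rc_26_0 lc_g_Cert_tree lc_g_rc_21_3 lc_g_rc_24_3 lc_g_rc_21_2 lc_g_rc_26_3 lc_g_Cert_tree lc_g_rc_21_3 lc_g_Cert_tree lc_g_rc_21_2 lc_g_Cert_tree lc_g_rc_26_9 lc_g_Cert_tree lc_g_rc_21_2 lc_g_rc_26_9 lc_g_rc_27_9 lc_g_rc_26_9 lc_g_rc_21_3 lc_g_rc_27_0 lc_g_rc_21_3 lc_g_rc_26_9 lc_g_rc_21_3 lc_g_Cert_tree lc_g_Cert_tree lc_g_rc_26_9 lc_g_rc_21_2 lc_g_rc_21_2 lc_g_rc_27_6 lc_g_rc_26_9 lc_g_Cert_tree lc_g_rc_26_6 lc_g_rc_27_3 lc_g_rc_26_9 lc_g_rc_26_9 lc_g_rc_26_6 lc_g_rc_26_0 lc_g_rc_27_6 lc_g_rc_21_3 lc_g_rc_21_3 lc_g_Cert_tree lc_g_Cert_tree lc_g_rc_23_9 lc_g_rc_24_7 lc_g_rc_21_3 lc_g_rc_27_0 lc_g_rc_27_3 lc_g_rc_27_9 lc_g_rc_21_3 lc_g_Cert_tree lc_g_rc_27_6 lc_g_rc_26_6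 lc_g_rc_24_9 lc_g_rc_21_3 lc_g_Cert_tree lc_g_rc_21_2 lc_g_rc_23_3 lc_g_rc_27_6 lc_g_rc_26_6 lc_g_rc_21_3 lc_g_rc_21_2 lc_g_Cert_tree) (@D3.rec (fun _ => (Cert rels S Gen.g)) lc_g_rc_23_1 lc_g_rc_21_3 lc_g_Cert_tree lc_g_rc_27_9 lc_g_Cert_tree lc_g_rc_21_3 lc_g_rc_26_0 lc_g_Cert_tree lc_g_Cert_tree lc_g_rc_26_0 lc_g_rc_21_3 lc_g_rc_26_0 lc_g_rc_27_9 lc_g_rc_23_1 lc_g_rc_27_0 lc_g_rc_27_6 lc_g_rc_27_6 lc_g_rc_21_3 lc_g_Cert_tree lc_g_Cert_tree lc_g_rc_21_2 lc_g_rc_26_3 lc_g_Cert_tree lc_g_rc_21_2 lc_g_rc_26_9 lc_g_rc_24_1 lc_g_rc_26_6 lc_g_rc_27_3 lc_g_rc_21_3 lc_g_rc_21_3 lc_g_Cert_tree lc_g_rc_21_2 lc_g_rc_21_3 lc_g_rc_26_0 lc_g_rc_24_3 lc_g_rc_21_2 lc_g_rc_21_3 lc_g_Cert_tree lc_g_rc_21_2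 lc_g_rc_23_9 lc_g_Cert_tree lc_g_rc_21_2 lc_g_rc_23_9 lc_g_rc_24_3 lc_g_rc_26_0 lc_g_rc_23_7 lc_g_rc_21_3 lc_g_Cert_tree lc_g_rc_26_3 lc_g_rc_26_6 lc_g_rc_27_9 lc_g_rc_27_0 lc_g_rc_24_7 lc_g_rc_24_7 lc_g_rc_27_9 lc_g_rc_24_7 lc_g_rc_26_3 lc_g_rc_24_3 lc_g_rc_27_0 lc_g_Cert_tree lc_g_rc_21_3 lc_g_rc_27_6) (@D3.rec (fun _ => (Cert rels S Gen.g)) lc_g_rc_21_3 lc_g_rc_27_6 lc_g_rc_21_3 lc_g_Cert_tree lc_g_rc_26_9 lc_g_rc_21_2 lc_g_rc_21_2 lc_g_rc_27_6 lc_g_rc_24_3 lc_g_rc_21_2 lc_g_rc_23_3 lc_g_rc_24_3 lc_g_rc_24_1 lc_g_rc_21_2 lc_g_rc_26_3 lc_g_rc_23_9 lc_g_rc_21_3 lc_g_Cert_tree lc_g_rc_21_2 lc_g_rc_23_3 lc_g_rc_21_3 lc_g_Cert_tree lc_g_rc_21_2 lc_g_rc_21_3 lc_g_rc_27_3 lc_g_rc_23_3 lc_g_rc_23_7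 lc_g_rc_24_1 lc_g_rc_24_3 lc_g_rc_23_1 lc_g_rc_24_3 lc_g_rc_21_2 lc_g_rc_21_2 lc_g_rc_21_3 lc_g_rc_21_2 lc_g_rc_21_3 lc_g_rc_21_2 lc_g_rc_23_9 lc_g_rc_26_6 lc_g_rc_26_6 lc_g_rc_21_2 lc_g_rc_21_3 lc_g_rc_24_3 lc_g_rc_26_6 lc_g_rc_27_6 lc_g_rc_27_3 lc_g_rc_21_2 lc_g_rc_21_3 lc_g_Cert_tree lc_g_rc_21_2 lc_g_rc_26_9 lc_g_rc_24_1 lc_g_rc_23_1 lc_g_rc_21_3 lc_g_rc_21_3 lc_g_Cert_tree lc_g_Cert_tree lc_g_rc_21_2 lc_g_rc_21_2 lc_g_rc_21_3 lc_g_Cert_tree lc_g_rc_23_9) (@D3.rec (fun _ => (Cert rels S Gen.g)) lc_g_rc_23_1 lc_g_rc_27_3 lc_g_rc_23_9 lc_g_rc_27_3 lc_g_Cert_tree lc_g_rc_21_2 lc_g_rc_23_9 lc_g_rc_21_2 lc_g_rc_26_3 lc_g_rc_26_3 lc_g_rc_21_3 lc_g_Cert_tree lc_g_Cert_tree lc_g_rc_23_9 lc_g_rc_25_19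 lc_g_rc_21_3 lc_g_rc_25_19 lc_g_rc_26_6 lc_g_rc_24_7 lc_g_rc_27_0 lc_g_rc_27_9 lc_g_rc_21_2 lc_g_Cert_tree lc_g_rc_24_1 lc_g_rc_27_0 lc_g_rc_27_6 lc_g_Cert_tree lc_g_rc_21_2 lc_g_Cert_tree lc_g_rc_27_6 lc_g_rc_21_3 lc_g_Cert_tree lc_g_rc_23_1 lc_g_rc_26_9 lc_g_rc_21_2 lc_g_rc_21_2 lc_g_rc_27_6 lc_g_rc_24_3 lc_g_Cert_tree lc_g_rc_21_2 lc_g_rc_25_3 lc_g_rc_27_6 lc_g_Cert_tree lc_g_rc_21_2 lc_g_rc_21_2 lc_g_rc_26_9 lc_g_Cert_tree lc_g_Cert_tree lc_g_rc_24_7 lc_g_rc_23_7 lc_g_rc_21_2 lc_g_rc_27_6 lc_g_rc_24_9 lc_g_rc_21_2 lc_g_rc_27_6 lc_g_Cert_tree lc_g_rc_23_3 lc_g_rc_23_7 lc_g_rc_26_3 lc_g_rc_21_3 lc_g_Cert_tree lc_g_rc_21_2) (@D3.rec (fun _ => (Cert rels S Gen.g)) lc_g_rc_21_3 lc_g_rc_21_2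 lc_g_rc_21_2 lc_g_rc_24_3 lc_g_rc_21_2 lc_g_rc_24_7 lc_g_rc_27_6 lc_g_rc_27_9 lc_g_rc_27_9 lc_g_rc_24_3 lc_g_rc_23_1 lc_g_rc_21_2 lc_g_rc_23_1 lc_g_rc_27_3 lc_g_rc_26_6 lc_g_rc_26_6 lc_g_rc_21_2 lc_g_rc_26_3 lc_g_Cert_tree lc_g_rc_26_3 lc_g_rc_21_2 lc_g_rc_21_3 lc_g_Cert_tree lc_g_rc_21_2 lc_g_rc_27_3 lc_g_Cert_tree lc_g_rc_23_7 lc_g_rc_21_2 lc_g_rc_23_7 lc_g_rc_25_19 lc_g_rc_27_6 lc_g_rc_21_2 lc_g_rc_23_3 lc_g_rc_21_3 lc_g_rc_23_3 lc_g_rc_24_1 lc_g_rc_27_6 lc_g_rc_21_2 lc_g_rc_21_3 lc_g_Cert_tree lc_g_rc_26_6 lc_g_rc_23_9 lc_g_rc_21_2 lc_g_Cert_tree lc_g_rc_26_0 lc_g_rc_23_7 lc_g_Cert_tree lc_g_rc_23_7 lc_g_rc_26_6 lc_g_rc_24_1 lc_g_rc_24_3 lc_g_rc_23_7 lc_g_rc_27_6 lc_g_rc_26_3 lc_g_rc_23_3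 lc_g_rc_21_3 lc_g_Cert_tree lc_g_rc_23_3 lc_g_Cert_tree lc_g_rc_23_9 lc_g_rc_24_1 lc_g_rc_27_6) (@D3.rec (fun _ => (Cert rels S Gen.g)) lc_g_rc_23_1 lc_g_rc_24_7 lc_g_rc_24_3 lc_g_rc_21_3 lc_g_rc_21_3 lc_g_rc_21_2 lc_g_rc_26_0 lc_g_rc_21_2 lc_g_rc_26_9 lc_g_rc_24_1 lc_g_rc_27_9 lc_g_rc_21_3 lc_g_Cert_tree lc_g_Cert_tree lc_g_rc_21_3 lc_g_rc_26_6 lc_g_rc_26_6 lc_g_rc_21_2 lc_g_Cert_tree lc_g_rc_23_1 lc_g_rc_27_0 lc_g_rc_24_1 lc_g_rc_27_3 lc_g_rc_23_1 lc_g_rc_26_0 lc_g_rc_24_9 lc_g_rc_21_2 lc_g_rc_24_3 lc_g_Cert_tree lc_g_rc_21_3 lc_g_rc_24_1 lc_g_rc_26_6 lc_g_rc_27_6 lc_g_rc_23_3 lc_g_rc_21_3 lc_g_rc_24_3 lc_g_rc_27_6 lc_g_rc_21_3 lc_g_Cert_tree lc_g_rc_21_2 lc_g_Cert_tree lc_g_rc_23_1 lc_g_rc_27_6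 lc_g_rc_21_2 lc_g_rc_27_6 lc_g_rc_21_3 lc_g_Cert_tree lc_g_Cert_tree lc_g_rc_23_3 lc_g_rc_21_3 lc_g_Cert_tree lc_g_rc_26_9 lc_g_rc_21_2 lc_g_rc_27_6 lc_g_rc_21_2 lc_g_rc_26_6 lc_g_rc_21_2 lc_g_Cert_tree lc_g_rc_21_3 lc_g_Cert_tree lc_g_rc_27_3 lc_g_rc_24_3) (@D3.rec (fun _ => (Cert rels S Gen.g)) lc_g_rc_27_3 lc_g_rc_27_3 lc_g_rc_26_9 lc_g_rc_27_3 lc_g_rc_26_3 lc_g_rc_27_6 lc_g_rc_27_3 lc_g_rc_23_1 lc_g_rc_24_1 lc_g_rc_26_3 lc_g_rc_24_1 lc_g_rc_27_0 lc_g_rc_21_3 lc_g_Cert_tree lc_g_rc_21_2 lc_g_rc_21_3 lc_g_Cert_tree lc_g_rc_21_2 lc_g_rc_27_0 lc_g_rc_27_6 lc_g_rc_21_2 lc_g_rc_24_9 lc_g_rc_27_9 lc_g_rc_21_3 lc_g_Cert_tree lc_g_rc_21_2 lc_g_rc_21_2 lc_g_rc_27_6 lc_g_Cert_tree lc_g_Cert_tree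 lc_g_rc_21_2 lc_g_rc_26_6 lc_g_rc_27_0 lc_g_Cert_tree lc_g_rc_26_3 lc_g_rc_21_3 lc_g_rc_24_9 lc_g_rc_21_3 lc_g_rc_21_2 lc_g_rc_23_3 lc_g_rc_21_3 lc_g_rc_26_6 lc_g_rc_27_9 lc_g_rc_23_1 lc_g_rc_24_3 lc_g_Cert_tree lc_g_Cert_tree lc_g_rc_21_2 lc_g_rc_24_3 lc_g_Cert_tree lc_g_rc_27_3 lc_g_rc_21_3 lc_g_rc_21_3 lc_g_rc_27_9 lc_g_rc_27_0 lc_g_Cert_tree lc_g_rc_21_2 lc_g_rc_21_2 lc_g_rc_26_0 lc_g_rc_27_6 lc_g_rc_23_7 lc_g_rc_27_9) (@D3.rec (fun _ => (Cert rels S Gen.g)) lc_g_rc_26_0 lc_g_rc_23_3 lc_g_rc_27_9 lc_g_rc_26_0 lc_g_rc_21_3 lc_g_Cert_tree lc_g_rc_26_6 lc_g_rc_21_3 lc_g_rc_23_1 lc_g_rc_21_3 lc_g_Cert_tree lc_g_rc_21_2 lc_g_rc_25_3 lc_g_rc_21_3 lc_g_Cert_tree lc_g_rc_21_2 lc_g_rc_23_9 lc_g_rc_26_9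 lc_g_rc_27_6 lc_g_rc_27_9 lc_g_rc_27_0 lc_g_rc_21_3 lc_g_rc_26_0 lc_g_rc_23_1 lc_g_rc_21_3 lc_g_Cert_tree lc_g_rc_21_2 lc_g_rc_27_0 lc_g_rc_26_3 lc_g_rc_26_9 lc_g_rc_23_3 lc_g_rc_24_3 lc_g_rc_26_0 lc_g_rc_24_1 lc_g_rc_23_3 lc_g_rc_21_3 lc_g_Cert_tree lc_g_rc_21_2 lc_g_rc_27_0 lc_g_rc_27_6 lc_g_rc_23_7 lc_g_rc_23_9 lc_g_rc_23_3 lc_g_rc_25_3 lc_g_rc_23_1 lc_g_rc_24_7 lc_g_rc_23_1 lc_g_rc_23_1 lc_g_rc_23_7 lc_g_rc_21_2 lc_g_rc_21_3 lc_g_Cert_tree lc_g_rc_26_6 lc_g_rc_27_6 lc_g_rc_21_3 lc_g_Cert_tree lc_g_rc_21_2 lc_g_rc_21_2 lc_g_rc_27_6 lc_g_rc_27_3 lc_g_rc_23_1 lc_g_rc_27_3) (@D3.rec (fun _ => (Cert rels S Gen.g)) lc_g_rc_23_3 lc_g_rc_24_3 lc_g_rc_24_1 lc_g_rc_24_1 lc_g_rc_21_3 lc_g_rc_21_2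 lc_g_rc_26_0 lc_g_rc_21_2 lc_g_rc_23_9 lc_g_rc_24_7 lc_g_Cert_tree lc_g_rc_27_3 lc_g_rc_25_19 lc_g_rc_21_3 lc_g_rc_21_3 lc_g_rc_27_3 lc_g_Cert_tree lc_g_rc_21_2 lc_g_rc_21_3 lc_g_Cert_tree lc_g_rc_26_0 lc_g_rc_27_9 lc_g_rc_26_9 lc_g_rc_27_6 lc_g_rc_27_3 lc_g_rc_27_6 lc_g_rc_23_3 lc_g_rc_26_9 lc_g_rc_24_1 lc_g_rc_21_2 lc_g_rc_21_3 lc_g_rc_21_3 lc_g_Cert_tree lc_g_Cert_tree lc_g_rc_26_6 lc_g_rc_26_3 lc_g_rc_27_6 lc_g_rc_24_3 lc_g_rc_27_3 lc_g_rc_21_3 lc_g_rc_21_3 lc_g_Cert_tree lc_g_rc_21_2 lc_g_rc_26_6 lc_g_rc_23_1 lc_g_rc_24_7 lc_g_rc_21_2 lc_g_rc_27_3 lc_g_rc_25_3 lc_g_Cert_tree lc_g_rc_27_6 lc_g_rc_27_9 lc_g_rc_27_6 lc_g_rc_27_6 lc_g_rc_27_0 lc_g_rc_27_0 lc_g_rc_21_2 lc_g_rc_21_2 lc_g_rc_26_3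 lc_g_rc_21_3 lc_g_rc_26_6 lc_g_rc_23_1) (@D3.rec (fun _ => (Cert rels S Gen.g)) lc_g_rc_21_2 lc_g_rc_21_3 lc_g_rc_27_3 lc_g_rc_21_2 lc_g_rc_26_0 lc_g_rc_26_3 lc_g_Cert_tree lc_g_rc_21_2 lc_g_rc_21_3 lc_g_rc_25_19 lc_g_rc_27_6 lc_g_Cert_tree lc_g_rc_21_2 lc_g_rc_23_3 lc_g_rc_25_11 lc_g_rc_26_3 lc_g_Cert_tree lc_g_rc_27_6 lc_g_rc_23_9 lc_g_rc_21_3 lc_g_rc_27_3 lc_g_rc_21_2 lc_g_rc_24_1 lc_g_Cert_tree lc_g_rc_24_3 lc_g_rc_21_2 lc_g_rc_21_2 lc_g_rc_21_2 lc_g_rc_27_6 lc_g_rc_27_6 lc_g_rc_26_9 lc_g_rc_21_3 lc_g_rc_27_0 lc_g_rc_27_6 lc_g_Cert_tree lc_g_rc_21_2 lc_g_rc_26_9 lc_g_Cert_tree lc_g_rc_26_6 lc_g_rc_24_3 lc_g_rc_21_3 lc_g_rc_26_6 lc_g_rc_27_6 lc_g_rc_24_3 lc_g_rc_27_9 lc_g_rc_26_6 lc_g_rc_24_1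 lc_g_rc_21_3 lc_g_Cert_tree lc_g_rc_21_2 lc_g_rc_21_2 lc_g_rc_21_2 lc_g_rc_27_9 lc_g_rc_24_7 lc_g_rc_23_9 lc_g_rc_26_6 lc_g_rc_27_9 lc_g_rc_21_2 lc_g_rc_27_6 lc_g_Cert_tree lc_g_Cert_tree lc_g_rc_26_0) (@D3.rec (fun _ => (Cert rels S Gen.g)) lc_g_rc_26_9 lc_g_Cert_tree lc_g_rc_21_2 lc_g_rc_26_6 lc_g_rc_26_9 lc_g_rc_27_6 lc_g_Cert_tree lc_g_rc_23_1 lc_g_rc_21_3 lc_g_rc_27_0 lc_g_rc_21_3 lc_g_rc_27_0 lc_g_rc_27_6 lc_g_rc_21_3 lc_g_rc_26_3 lc_g_rc_21_2 lc_g_rc_21_3 lc_g_Cert_tree lc_g_rc_21_2 lc_g_Cert_tree lc_g_Cert_tree lc_g_Cert_tree lc_g_rc_24_1 lc_g_rc_21_3 lc_g_rc_21_2 lc_g_rc_27_0 lc_g_rc_21_3 lc_g_rc_21_2 lc_g_rc_27_0 lc_g_rc_24_1 lc_g_rc_23_1 lc_g_rc_21_3 lc_g_Cert_tree lc_g_rc_24_7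 lc_g_Cert_tree lc_g_rc_26_0 lc_g_rc_21_3 lc_g_rc_26_3 lc_g_rc_24_7 lc_g_rc_27_3 lc_g_rc_26_6 lc_g_rc_27_3 lc_g_rc_23_9 lc_g_rc_27_6 lc_g_rc_24_7 lc_g_rc_21_2 lc_g_rc_23_1 lc_g_rc_23_1 lc_g_Cert_tree lc_g_rc_26_0 lc_g_rc_21_3 lc_g_rc_26_3 lc_g_Cert_tree lc_g_rc_27_0 lc_g_rc_23_3 lc_g_rc_21_3 lc_g_rc_21_3 lc_g_Cert_tree lc_g_rc_21_2 lc_g_rc_24_1 lc_g_rc_27_6 lc_g_rc_27_6) (@D3.rec (fun _ => (Cert rels S Gen.g)) lc_g_rc_27_3 lc_g_Cert_tree lc_g_rc_26_6 lc_g_rc_26_6 lc_g_Cert_tree lc_g_rc_24_7 lc_g_rc_24_1 lc_g_rc_23_1 lc_g_rc_21_3 lc_g_rc_26_0 lc_g_rc_21_2 lc_g_rc_26_9 lc_g_rc_23_3 lc_g_rc_21_3 lc_g_rc_26_3 lc_g_rc_26_6 lc_g_rc_21_2 lc_g_rc_27_6 lc_g_rc_24_1 lc_g_Cert_tree lc_g_rc_21_2 lc_g_rc_24_7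 lc_g_rc_21_3 lc_g_rc_24_3 lc_g_rc_23_7 lc_g_rc_21_2 lc_g_rc_21_3 lc_g_Cert_tree lc_g_rc_24_7 lc_g_Cert_tree lc_g_rc_24_1 lc_g_Cert_tree lc_g_rc_21_3 lc_g_rc_21_2 lc_g_rc_21_2 lc_g_rc_21_3 lc_g_rc_21_2 lc_g_rc_21_3 lc_g_Cert_tree lc_g_rc_21_2 lc_g_rc_21_3 lc_g_Cert_tree lc_g_rc_21_3 lc_g_rc_26_3 lc_g_rc_21_2 lc_g_Cert_tree lc_g_rc_24_3 lc_g_rc_26_6 lc_g_rc_26_3 lc_g_Cert_tree lc_g_rc_21_3 lc_g_rc_21_2 lc_g_rc_26_0 lc_g_rc_26_9 lc_g_rc_26_0 lc_g_rc_26_0 lc_g_rc_26_9 lc_g_rc_23_7 lc_g_rc_25_7 lc_g_rc_21_2 lc_g_rc_21_3 lc_g_Cert_tree) (@D3.rec (fun _ => (Cert rels S Gen.g)) lc_g_rc_21_3 lc_g_rc_26_0 lc_g_rc_25_3 lc_g_rc_21_3 lc_g_Cert_tree lc_g_rc_21_2 lc_g_rc_21_2 lc_g_rc_26_3 lc_g_rc_26_6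 lc_g_rc_27_3 lc_g_Cert_tree lc_g_rc_21_2 lc_g_rc_26_3 lc_g_rc_23_7 lc_g_rc_27_0 lc_g_rc_26_6 lc_g_Cert_tree lc_g_rc_27_9 lc_g_rc_26_6 lc_g_Cert_tree lc_g_Cert_tree lc_g_rc_21_3 lc_g_rc_21_2 lc_g_rc_23_9 lc_g_rc_24_7 lc_g_rc_21_3 lc_g_Cert_tree lc_g_rc_21_2 lc_g_rc_21_3 lc_g_Cert_tree lc_g_rc_25_19 lc_g_Cert_tree lc_g_rc_21_2 lc_g_Cert_tree lc_g_rc_26_3 lc_g_rc_26_6 lc_g_Cert_tree lc_g_Cert_tree lc_g_rc_23_3 lc_g_rc_21_3 lc_g_Cert_tree lc_g_rc_26_0 lc_g_rc_21_2 lc_g_rc_21_3 lc_g_Cert_tree lc_g_rc_23_1 lc_g_rc_21_2 lc_g_rc_24_3 lc_g_rc_24_9 lc_g_Cert_tree lc_g_rc_26_6 lc_g_rc_27_9 lc_g_rc_21_3 lc_g_rc_24_3 lc_g_rc_21_3 lc_g_Cert_tree lc_g_rc_21_2 lc_g_rc_21_2 lc_g_rc_21_2 lc_g_rc_23_3 lc_g_rc_21_3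 lc_g_rc_21_3) (@D3.rec (fun _ => (Cert rels S Gen.g)) lc_g_rc_21_2 lc_g_rc_21_3 lc_g_Cert_tree lc_g_rc_26_9 lc_g_rc_26_6 lc_g_rc_27_6 lc_g_rc_23_7 lc_g_rc_27_6 lc_g_rc_23_7 lc_g_rc_26_3 lc_g_rc_21_2 lc_g_rc_21_3 lc_g_Cert_tree lc_g_rc_26_3 lc_g_rc_21_3 lc_g_Cert_tree lc_g_rc_26_6 lc_g_rc_27_6 lc_g_rc_21_3 lc_g_Cert_tree lc_g_rc_27_6 lc_g_rc_26_0 lc_g_rc_27_9 lc_g_rc_27_9 lc_g_rc_21_3 lc_g_Cert_tree lc_g_rc_23_7 lc_g_rc_21_2 lc_g_rc_24_7 lc_g_rc_21_2 lc_g_rc_21_3 lc_g_Cert_tree lc_g_rc_21_2 lc_g_Cert_tree lc_g_rc_21_3 lc_g_rc_21_3 lc_g_rc_23_3 lc_g_rc_26_0 lc_g_rc_26_3 lc_g_rc_21_3 lc_g_Cert_tree lc_g_rc_26_0 lc_g_rc_27_6 lc_g_rc_21_3 lc_g_Cert_tree lc_g_rc_21_2 lc_g_rc_23_1 lc_g_rc_23_9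 lc_g_rc_24_9 lc_g_rc_26_3 lc_g_rc_23_9 lc_g_rc_21_3 lc_g_rc_23_3 lc_g_Cert_tree lc_g_rc_21_2 lc_g_rc_24_3 lc_g_rc_21_3 lc_g_Cert_tree lc_g_rc_27_3 lc_g_rc_21_2 lc_g_rc_21_3 lc_g_Cert_tree) (@D3.rec (fun _ => (Cert rels S Gen.g)) lc_g_rc_21_3 lc_g_rc_24_9 lc_g_rc_24_7 lc_g_rc_27_3 lc_g_rc_26_3 lc_g_rc_25_7 lc_g_rc_27_3 lc_g_rc_24_3 lc_g_Cert_tree lc_g_rc_27_9 lc_g_rc_23_7 lc_g_rc_23_9 lc_g_rc_26_0 lc_g_rc_27_3 lc_g_rc_24_1 lc_g_rc_23_7 lc_g_rc_25_19 lc_g_rc_23_7 lc_g_rc_21_2 lc_g_rc_21_3 lc_g_Cert_tree lc_g_Cert_tree lc_g_rc_26_0 lc_g_rc_21_3 lc_g_rc_21_3 lc_g_Cert_tree lc_g_rc_23_7 lc_g_rc_21_2 lc_g_rc_26_0 lc_g_rc_23_7 lc_g_rc_21_3 lc_g_rc_23_7 lc_g_rc_27_6 lc_g_rc_21_2 lc_g_rc_27_6 lc_g_rc_21_3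 lc_g_Cert_tree lc_g_rc_27_9 lc_g_Cert_tree lc_g_rc_21_3 lc_g_Cert_tree lc_g_rc_21_3 lc_g_rc_21_2 lc_g_Cert_tree lc_g_Cert_tree lc_g_rc_21_2 lc_g_rc_24_1 lc_g_Cert_tree lc_g_rc_27_9 lc_g_Cert_tree lc_g_rc_26_9 lc_g_rc_21_2 lc_g_rc_21_3 lc_g_rc_24_3 lc_g_rc_23_3 lc_g_rc_21_3 lc_g_rc_24_3 lc_g_Cert_tree lc_g_rc_26_0 lc_g_Cert_tree lc_g_rc_21_2 lc_g_rc_27_3) (@D3.rec (fun _ => (Cert rels S Gen.g)) lc_g_rc_21_3 lc_g_Cert_tree lc_g_rc_26_6 lc_g_rc_21_2 lc_g_rc_27_0 lc_g_rc_27_3 lc_g_rc_21_2 lc_g_rc_23_3 lc_g_rc_23_3 lc_g_rc_21_3 lc_g_rc_23_7 lc_g_rc_26_6 lc_g_rc_24_1 lc_g_rc_24_7 lc_g_rc_26_6 lc_g_rc_24_9 lc_g_rc_26_3 lc_g_Cert_tree lc_g_rc_27_6 lc_g_rc_27_6 lc_g_rc_24_3 lc_g_rc_27_6 lc_g_Cert_tree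 lc_g_rc_21_2 lc_g_rc_21_2 lc_g_rc_23_9 lc_g_rc_21_2 lc_g_rc_24_7 lc_g_rc_26_3 lc_g_rc_24_3 lc_g_rc_27_9 lc_g_rc_26_6 lc_g_rc_24_9 lc_g_rc_23_1 lc_g_rc_23_9 lc_g_rc_27_0 lc_g_rc_27_3 lc_g_Cert_tree lc_g_rc_21_2 lc_g_rc_24_1 lc_g_rc_25_7 lc_g_rc_21_3 lc_g_Cert_tree lc_g_rc_21_2 lc_g_rc_24_1 lc_g_rc_27_3 lc_g_rc_24_9 lc_g_rc_26_3 lc_g_rc_25_19 lc_g_rc_24_3 lc_g_rc_21_3 lc_g_rc_27_3 lc_g_rc_21_3 lc_g_rc_21_3 lc_g_rc_21_3 lc_g_rc_27_6 lc_g_rc_27_0 lc_g_rc_21_3 lc_g_rc_21_2 lc_g_rc_24_3 lc_g_rc_21_2 lc_g_rc_27_3) (@D3.rec (fun _ => (Cert rels S Gen.g)) lc_g_rc_23_3 lc_g_rc_27_6 lc_g_rc_23_3 lc_g_rc_27_0 lc_g_rc_23_3 lc_g_rc_26_3 lc_g_rc_26_3 lc_g_Cert_tree lc_g_rc_21_2 lc_g_rc_24_3 lc_g_rc_26_9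 lc_g_rc_27_0 lc_g_rc_21_3 lc_g_rc_26_0 lc_g_rc_21_2 lc_g_rc_21_2 lc_g_rc_21_3 lc_g_rc_27_6 lc_g_rc_26_0 lc_g_rc_21_3 lc_g_rc_26_6 lc_g_rc_27_3 lc_g_rc_21_2 lc_g_rc_21_3 lc_g_rc_26_9 lc_g_rc_23_3 lc_g_rc_21_2 lc_g_rc_25_15 lc_g_rc_24_7 lc_g_Cert_tree lc_g_rc_27_3 lc_g_rc_24_9 lc_g_rc_24_9 lc_g_Cert_tree lc_g_rc_23_7 lc_g_rc_27_9 lc_g_rc_23_3 lc_g_Cert_tree lc_g_rc_21_3 lc_g_rc_21_2 lc_g_rc_23_1 lc_g_rc_21_3 lc_g_Cert_tree lc_g_rc_21_2 lc_g_rc_21_2 lc_g_Cert_tree lc_g_rc_21_3 lc_g_Cert_tree lc_g_rc_21_2 lc_g_rc_26_6 lc_g_rc_21_3 lc_g_Cert_tree lc_g_Cert_tree lc_g_rc_21_2 lc_g_Cert_tree lc_g_rc_23_3 lc_g_rc_24_7 lc_g_rc_21_2 lc_g_rc_21_3 lc_g_Cert_tree lc_g_rc_23_1 lc_g_Cert_tree) (@D3.rec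 (fun _ => (Cert rels S Gen.g)) lc_g_rc_23_3 lc_g_rc_26_6 lc_g_rc_21_3 lc_g_rc_27_6 lc_g_rc_23_3 lc_g_rc_24_3 lc_g_rc_23_3 lc_g_rc_21_3 lc_g_rc_27_9 lc_g_rc_21_2 lc_g_rc_21_2 lc_g_rc_27_9 lc_g_rc_27_6 lc_g_rc_21_2 lc_g_rc_27_0 lc_g_rc_23_1 lc_g_rc_23_7 lc_g_rc_24_3 lc_g_rc_21_3 lc_g_Cert_tree lc_g_rc_24_1 lc_g_rc_21_3 lc_g_rc_27_3 lc_g_Cert_tree lc_g_Cert_tree lc_g_Cert_tree lc_g_rc_21_2 lc_g_rc_21_3 lc_g_rc_21_2 lc_g_rc_27_0 lc_g_rc_27_0 lc_g_rc_21_3 lc_g_Cert_tree lc_g_rc_27_0 lc_g_rc_21_2 lc_g_rc_26_6 lc_g_Cert_tree lc_g_rc_21_2 lc_g_rc_21_2 lc_g_rc_21_3 lc_g_rc_21_3 lc_g_rc_25_3 lc_g_rc_24_3 lc_g_rc_27_9 lc_g_rc_21_2 lc_g_rc_27_0 lc_g_rc_24_1 lc_g_rc_24_3 lc_g_rc_21_3 lc_g_rc_24_1 lc_g_rc_24_3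 lc_g_Cert_tree lc_g_rc_26_0 lc_g_rc_26_3 lc_g_rc_21_3 lc_g_Cert_tree lc_g_rc_23_7 lc_g_rc_21_2 lc_g_rc_21_3 lc_g_rc_26_0 lc_g_rc_26_9 lc_g_rc_27_6) (@D3.rec (fun _ => (Cert rels S Gen.g)) lc_g_rc_21_3 lc_g_rc_27_9 lc_g_rc_26_3 lc_g_rc_27_0 lc_g_rc_21_2 lc_g_Cert_tree lc_g_Cert_tree lc_g_rc_26_6 lc_g_rc_24_3 lc_g_rc_23_3 lc_g_rc_21_3 lc_g_Cert_tree lc_g_rc_23_7 lc_g_rc_26_6 lc_g_rc_21_3 lc_g_Cert_tree lc_g_rc_26_6 lc_g_Cert_tree lc_g_rc_24_1 lc_g_rc_27_3 lc_g_rc_21_2 lc_g_rc_21_2 lc_g_rc_26_6 lc_g_rc_26_9 lc_g_rc_26_3 lc_g_rc_26_3 lc_g_Cert_tree lc_g_rc_26_6 lc_g_rc_27_6 lc_g_rc_21_3 lc_g_rc_24_1 lc_g_rc_26_6 lc_g_rc_21_3 lc_g_rc_21_3 lc_g_rc_21_2 lc_g_rc_27_6 lc_g_rc_26_9 lc_g_rc_27_6 lc_g_Cert_tree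 lc_g_rc_25_3 lc_g_rc_23_7 lc_g_rc_23_1 lc_g_rc_21_3 lc_g_Cert_tree lc_g_rc_21_2 lc_g_rc_27_6 lc_g_rc_26_3 lc_g_Cert_tree lc_g_rc_26_0 lc_g_Cert_tree lc_g_rc_26_3 lc_g_rc_24_1 lc_g_rc_27_6 lc_g_rc_26_6 lc_g_rc_23_3 lc_g_rc_24_1 lc_g_Cert_tree lc_g_rc_26_6 lc_g_rc_21_3 lc_g_rc_24_3 lc_g_Cert_tree lc_g_rc_27_6) (@D3.rec (fun _ => (Cert rels S Gen.g)) lc_g_rc_26_6 lc_g_rc_23_7 lc_g_rc_26_3 lc_g_rc_21_3 lc_g_rc_21_2 lc_g_rc_21_2 lc_g_rc_25_15 lc_g_Cert_tree lc_g_rc_21_2 lc_g_rc_27_3 lc_g_rc_23_1 lc_g_rc_21_3 lc_g_rc_26_9 lc_g_rc_21_2 lc_g_rc_23_1 lc_g_rc_21_2 lc_g_rc_21_3 lc_g_rc_21_3 lc_g_rc_24_3 lc_g_rc_21_2 lc_g_rc_24_1 lc_g_rc_26_9 lc_g_rc_27_6 lc_g_rc_24_1 lc_g_rc_26_9 lc_g_rc_24_1 lc_g_rc_27_6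 lc_g_Cert_tree lc_g_rc_24_3 lc_g_rc_26_6 lc_g_rc_21_2 lc_g_rc_23_3 lc_g_Cert_tree lc_g_Cert_tree lc_g_rc_27_9 lc_g_rc_21_2 lc_g_rc_27_9 lc_g_rc_27_9 lc_g_rc_27_9 lc_g_rc_27_6 lc_g_rc_27_6 lc_g_rc_27_3 lc_g_rc_21_3 lc_g_Cert_tree lc_g_Cert_tree lc_g_rc_24_9 lc_g_rc_23_9 lc_g_rc_21_3 lc_g_rc_24_3 lc_g_rc_21_3 lc_g_Cert_tree lc_g_rc_26_3 lc_g_Cert_tree lc_g_rc_21_2 lc_g_rc_27_6 lc_g_rc_23_7 lc_g_rc_21_3 lc_g_rc_21_3 lc_g_Cert_tree lc_g_rc_21_2 lc_g_rc_27_3 lc_g_rc_21_3) (@D3.rec (fun _ => (Cert rels S Gen.g)) lc_g_Cert_tree lc_g_rc_21_2 lc_g_rc_27_6 lc_g_Cert_tree lc_g_rc_21_2 lc_g_rc_21_3 lc_g_rc_27_3 lc_g_Cert_tree lc_g_rc_26_3 lc_g_rc_26_9 lc_g_rc_27_3 lc_g_rc_24_7 lc_g_rc_21_3 lc_g_Cert_tree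 lc_g_Cert_tree lc_g_rc_23_3 lc_g_rc_21_2 lc_g_rc_21_2 lc_g_rc_23_3 lc_g_rc_23_3 lc_g_rc_21_2 lc_g_rc_21_3 lc_g_Cert_tree lc_g_rc_21_3 lc_g_rc_21_3 lc_g_rc_23_9 lc_g_rc_27_6 lc_g_Cert_tree lc_g_rc_21_2 lc_g_rc_27_0 lc_g_rc_21_2 lc_g_rc_26_6 lc_g_Cert_tree lc_g_rc_21_2 lc_g_rc_21_3 lc_g_rc_21_3 lc_g_rc_27_0 lc_g_rc_27_6 lc_g_rc_24_7 lc_g_rc_26_0 lc_g_rc_26_0 lc_g_rc_26_6 lc_g_rc_27_6 lc_g_rc_24_3 lc_g_rc_27_0 lc_g_rc_21_3 lc_g_Cert_tree lc_g_rc_21_2 lc_g_rc_21_3 lc_g_Cert_tree lc_g_rc_21_2 lc_g_rc_21_3 lc_g_rc_21_2 lc_g_rc_21_3 lc_g_Cert_tree lc_g_rc_21_2 lc_g_rc_21_2 lc_g_Cert_tree lc_g_rc_24_3 lc_g_Cert_tree lc_g_Cert_tree lc_g_rc_21_3) (@D3.rec (fun _ => (Cert rels S Gen.g)) lc_g_rc_23_1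 lc_g_rc_26_0 lc_g_rc_23_7 lc_g_rc_27_0 lc_g_rc_24_3 lc_g_rc_21_3 lc_g_Cert_tree lc_g_rc_21_2 lc_g_rc_27_0 lc_g_rc_27_6 lc_g_rc_27_3 lc_g_Cert_tree lc_g_rc_26_6 lc_g_rc_26_6 lc_g_Cert_tree lc_g_rc_24_7 lc_g_rc_21_2 lc_g_rc_24_7 lc_g_rc_26_3 lc_g_rc_26_0 lc_g_rc_26_9 lc_g_Cert_tree lc_g_rc_21_3 lc_g_Cert_tree lc_g_rc_25_3 lc_g_rc_27_0 lc_g_rc_24_3 lc_g_rc_21_3 lc_g_rc_26_6 lc_g_rc_27_9 lc_g_rc_21_2 lc_g_Cert_tree lc_g_rc_27_6 lc_g_rc_26_3 lc_g_rc_26_0 lc_g_rc_24_9 lc_g_rc_21_3 lc_g_rc_21_2 lc_g_rc_21_3 lc_g_rc_26_0 lc_g_rc_24_9 lc_g_rc_26_6 lc_g_rc_24_1 lc_g_Cert_tree lc_g_rc_21_2 lc_g_rc_26_9 lc_g_rc_23_1 lc_g_rc_21_2 lc_g_rc_24_1 lc_g_rc_26_0 lc_g_rc_21_3 lc_g_rc_21_2 lc_g_Cert_tree lc_g_rc_26_6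 lc_g_rc_21_2 lc_g_rc_21_3 lc_g_Cert_tree lc_g_Cert_tree lc_g_rc_27_9 lc_g_Cert_tree lc_g_rc_27_0 lc_g_rc_27_6) (@D3.rec (fun _ => (Cert rels S Gen.g)) lc_g_rc_23_9 lc_g_rc_26_9 lc_g_rc_24_3 lc_g_rc_27_6 lc_g_rc_21_3 lc_g_rc_27_6 lc_g_rc_26_6 lc_g_rc_27_3 lc_g_rc_23_3 lc_g_rc_27_6 lc_g_rc_21_3 lc_g_Cert_tree lc_g_rc_26_3 lc_g_rc_26_0 lc_g_rc_21_3 lc_g_rc_27_9 lc_g_rc_27_0 lc_g_rc_26_3 lc_g_rc_23_9 lc_g_rc_27_0 lc_g_Cert_tree lc_g_rc_21_3 lc_g_rc_27_9 lc_g_rc_26_0 lc_g_rc_27_0 lc_g_rc_21_3 lc_g_rc_27_9 lc_g_rc_27_3 lc_g_rc_21_2 lc_g_rc_27_0 lc_g_Cert_tree lc_g_Cert_tree lc_g_rc_21_2 lc_g_rc_21_3 lc_g_rc_23_7 lc_g_rc_27_9 lc_g_rc_21_3 lc_g_rc_27_9 lc_g_rc_23_1 lc_g_rc_26_3 lc_g_rc_27_0 lc_g_rc_21_2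 lc_g_rc_25_19 lc_g_Cert_tree lc_g_rc_27_0 lc_g_rc_26_6 lc_g_rc_24_7 lc_g_rc_27_9 lc_g_rc_27_3 lc_g_rc_21_3 lc_g_Cert_tree lc_g_rc_21_2 lc_g_rc_21_3 lc_g_Cert_tree lc_g_rc_21_3 lc_g_rc_25_19 lc_g_rc_27_6 lc_g_rc_24_7 lc_g_rc_26_3 lc_g_Cert_tree lc_g_rc_21_2 lc_g_rc_21_3)
def ce_g_25 : D2 → D3 → (Cert rels S Gen.g) := @D2.rec (fun _ => D3 → (Cert rels S Gen.g)) (@D3.rec (fun _ => (Cert rels S Gen.g)) lc_g_rc_21_2 lc_g_Cert_tree lc_g_Cert_tree lc_g_rc_23_7 lc_g_rc_24_9 lc_g_rc_26_3 lc_g_rc_26_0 lc_g_rc_27_3 lc_g_rc_21_3 lc_g_rc_23_3 lc_g_rc_26_6 lc_g_rc_24_1 lc_g_rc_27_9 lc_g_rc_26_6 lc_g_rc_21_3 lc_g_Cert_tree lc_g_rc_26_0 lc_g_rc_23_1 lc_g_rc_23_3 lc_g_rc_21_2 lc_g_rc_21_3 lc_g_Cert_tree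 lc_g_rc_21_3 lc_g_rc_21_3 lc_g_rc_27_0 lc_g_rc_26_3 lc_g_rc_21_2 lc_g_rc_21_2 lc_g_rc_24_7 lc_g_rc_21_2 lc_g_rc_27_3 lc_g_rc_27_0 lc_g_rc_24_1 lc_g_rc_21_2 lc_g_rc_23_9 lc_g_rc_26_6 lc_g_rc_24_9 lc_g_rc_21_2 lc_g_rc_23_9 lc_g_rc_27_9 lc_g_rc_24_3 lc_g_rc_23_7 lc_g_Cert_tree lc_g_rc_23_3 lc_g_rc_21_2 lc_g_rc_23_7 lc_g_rc_24_1 lc_g_rc_26_6 lc_g_rc_27_0 lc_g_rc_21_2 lc_g_rc_23_7 lc_g_Cert_tree lc_g_rc_24_7 lc_g_rc_21_2 lc_g_rc_26_9 lc_g_rc_24_7 lc_g_rc_21_3 lc_g_Cert_tree lc_g_rc_21_2 lc_g_rc_24_1 lc_g_rc_26_0 lc_g_Cert_tree) (@D3.rec (fun _ => (Cert rels S Gen.g)) lc_g_rc_26_6 lc_g_rc_21_3 lc_g_rc_26_6 lc_g_rc_26_9 lc_g_rc_21_3 lc_g_rc_25_19 lc_g_rc_21_3 lc_g_rc_27_3 lc_g_rc_26_6 lc_g_rc_27_0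 lc_g_rc_24_1 lc_g_rc_27_6 lc_g_rc_23_7 lc_g_Cert_tree lc_g_rc_27_3 lc_g_rc_21_2 lc_g_rc_21_3 lc_g_rc_27_0 lc_g_rc_26_6 lc_g_rc_26_6 lc_g_rc_21_2 lc_g_rc_27_0 lc_g_rc_21_3 lc_g_Cert_tree lc_g_Cert_tree lc_g_rc_21_2 lc_g_rc_27_9 lc_g_rc_21_2 lc_g_rc_27_3 lc_g_rc_21_2 lc_g_rc_23_1 lc_g_rc_23_1 lc_g_rc_21_2 lc_g_Cert_tree lc_g_rc_24_3 lc_g_rc_25_11 lc_g_rc_27_3 lc_g_rc_27_6 lc_g_rc_24_9 lc_g_Cert_tree lc_g_rc_26_0 lc_g_rc_23_1 lc_g_rc_26_6 lc_g_rc_27_6 lc_g_rc_21_3 lc_g_Cert_tree lc_g_rc_27_6 lc_g_rc_26_6 lc_g_rc_26_6 lc_g_rc_24_3 lc_g_Cert_tree lc_g_rc_23_7 lc_g_rc_27_0 lc_g_rc_21_3 lc_g_rc_21_3 lc_g_rc_27_9 lc_g_rc_27_6 lc_g_rc_27_0 lc_g_rc_26_3 lc_g_rc_21_2 lc_g_rc_24_7 lc_g_rc_21_3) (@D3.rec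 (fun _ => (Cert rels S Gen.g)) lc_g_rc_27_9 lc_g_rc_21_3 lc_g_rc_25_3 lc_g_rc_27_0 lc_g_Cert_tree lc_g_rc_27_9 lc_g_rc_21_2 lc_g_rc_27_0 lc_g_Cert_tree lc_g_rc_26_6 lc_g_rc_21_2 lc_g_rc_25_3 lc_g_rc_26_3 lc_g_rc_27_6 lc_g_rc_27_6 lc_g_rc_27_3 lc_g_rc_25_3 lc_g_rc_23_3 lc_g_rc_21_2 lc_g_rc_26_3 lc_g_rc_21_3 lc_g_rc_21_2 lc_g_rc_27_6 lc_g_rc_27_6 lc_g_Cert_tree lc_g_rc_26_6 lc_g_rc_26_9 lc_g_Cert_tree lc_g_rc_27_3 lc_g_rc_21_2 lc_g_rc_24_3 lc_g_rc_23_3 lc_g_rc_21_2 lc_g_rc_21_3 lc_g_Cert_tree lc_g_rc_26_0 lc_g_rc_23_9 lc_g_rc_21_2 lc_g_rc_21_2 lc_g_rc_23_3 lc_g_Cert_tree lc_g_rc_27_9 lc_g_rc_21_2 lc_g_rc_27_3 lc_g_rc_21_2 lc_g_rc_21_2 lc_g_rc_21_3 lc_g_rc_27_6 lc_g_rc_26_9 lc_g_rc_21_3 lc_g_Cert_tree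 lc_g_rc_23_7 lc_g_rc_21_2 lc_g_rc_21_3 lc_g_rc_24_7 lc_g_rc_24_1 lc_g_rc_26_6 lc_g_rc_24_7 lc_g_rc_21_2 lc_g_Cert_tree lc_g_rc_23_3 lc_g_rc_24_9) (@D3.rec (fun _ => (Cert rels S Gen.g)) lc_g_rc_21_3 lc_g_rc_21_2 lc_g_rc_21_2 lc_g_rc_27_9 lc_g_rc_25_15 lc_g_rc_27_6 lc_g_rc_26_3 lc_g_rc_27_6 lc_g_rc_26_0 lc_g_rc_21_3 lc_g_rc_21_2 lc_g_rc_27_6 lc_g_rc_21_2 lc_g_Cert_tree lc_g_rc_24_7 lc_g_rc_23_3 lc_g_Cert_tree lc_g_rc_25_3 lc_g_rc_27_6 lc_g_rc_26_3 lc_g_rc_21_3 lc_g_rc_21_2 lc_g_rc_26_3 lc_g_rc_26_0 lc_g_rc_21_2 lc_g_Cert_tree lc_g_rc_27_3 lc_g_rc_26_3 lc_g_rc_26_6 lc_g_rc_24_3 lc_g_rc_27_6 lc_g_rc_23_1 lc_g_rc_23_1 lc_g_Cert_tree lc_g_rc_24_7 lc_g_rc_21_2 lc_g_rc_26_9 lc_g_rc_21_3 lc_g_rc_26_3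 lc_g_rc_27_6 lc_g_rc_24_9 lc_g_Cert_tree lc_g_rc_24_3 lc_g_rc_21_2 lc_g_rc_21_2 lc_g_rc_26_3 lc_g_rc_21_3 lc_g_Cert_tree lc_g_rc_24_1 lc_g_rc_21_2 lc_g_rc_21_3 lc_g_Cert_tree lc_g_Cert_tree lc_g_Cert_tree lc_g_rc_24_1 lc_g_rc_21_2 lc_g_Cert_tree lc_g_Cert_tree lc_g_rc_27_6 lc_g_rc_23_9 lc_g_rc_24_1 lc_g_rc_27_0) (@D3.rec (fun _ => (Cert rels S Gen.g)) lc_g_rc_26_6 lc_g_rc_27_9 lc_g_rc_26_9 lc_g_rc_26_3 lc_g_rc_21_3 lc_g_rc_21_2 lc_g_rc_26_9 lc_g_rc_23_3 lc_g_rc_23_1 lc_g_rc_23_3 lc_g_rc_26_0 lc_g_rc_27_6 lc_g_rc_21_2 lc_g_rc_21_3 lc_g_rc_27_0 lc_g_rc_26_9 lc_g_rc_27_0 lc_g_rc_26_0 lc_g_rc_26_9 lc_g_rc_21_2 lc_g_rc_21_2 lc_g_rc_25_19 lc_g_rc_24_3 lc_g_rc_27_3 lc_g_rc_21_3 lc_g_rc_27_3 lc_g_rc_27_6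 lc_g_rc_27_3 lc_g_rc_26_3 lc_g_rc_27_3 lc_g_rc_24_7 lc_g_rc_26_6 lc_g_rc_23_3 lc_g_rc_21_3 lc_g_rc_26_3 lc_g_rc_24_9 lc_g_rc_27_3 lc_g_Cert_tree lc_g_rc_26_6 lc_g_rc_21_2 lc_g_rc_21_2 lc_g_rc_21_3 lc_g_Cert_tree lc_g_Cert_tree lc_g_rc_25_15 lc_g_rc_21_3 lc_g_Cert_tree lc_g_rc_26_0 lc_g_rc_26_0 lc_g_rc_21_3 lc_g_Cert_tree lc_g_rc_27_3 lc_g_rc_21_2 lc_g_rc_23_3 lc_g_rc_27_3 lc_g_rc_21_3 lc_g_rc_21_3 lc_g_rc_24_1 lc_g_Cert_tree lc_g_rc_26_6 lc_g_rc_21_3 lc_g_Cert_tree) (@D3.rec (fun _ => (Cert rels S Gen.g)) lc_g_rc_27_6 lc_g_rc_26_3 lc_g_rc_23_1 lc_g_Cert_tree lc_g_rc_24_7 lc_g_rc_21_2 lc_g_rc_21_2 lc_g_rc_26_3 lc_g_rc_26_0 lc_g_rc_26_6 lc_g_rc_26_9 lc_g_rc_24_3 lc_g_rc_24_3 lc_g_rc_21_2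 lc_g_rc_21_3 lc_g_rc_21_3 lc_g_rc_26_9 lc_g_rc_26_0 lc_g_rc_21_3 lc_g_rc_24_3 lc_g_rc_27_6 lc_g_rc_21_2 lc_g_rc_27_6 lc_g_Cert_tree lc_g_rc_24_9 lc_g_rc_21_2 lc_g_rc_24_3 lc_g_rc_21_3 lc_g_Cert_tree lc_g_rc_21_3 lc_g_Cert_tree lc_g_rc_26_6 lc_g_rc_26_3 lc_g_Cert_tree lc_g_rc_26_0 lc_g_rc_21_3 lc_g_rc_27_6 lc_g_rc_21_2 lc_g_rc_21_2 lc_g_rc_23_3 lc_g_rc_21_3 lc_g_rc_23_7 lc_g_rc_21_2 lc_g_rc_21_3 lc_g_Cert_tree lc_g_rc_21_2 lc_g_rc_21_3 lc_g_rc_24_3 lc_g_rc_24_1 lc_g_Cert_tree lc_g_rc_24_1 lc_g_rc_23_7 lc_g_rc_26_6 lc_g_rc_26_6 lc_g_rc_23_1 lc_g_rc_21_3 lc_g_Cert_tree lc_g_rc_21_2 lc_g_rc_26_6 lc_g_rc_27_9 lc_g_rc_26_3 lc_g_rc_21_3) (@D3.rec (fun _ => (Cert rels S Gen.g)) lc_g_Cert_tree lc_g_rc_21_2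 lc_g_rc_26_0 lc_g_rc_21_3 lc_g_rc_23_1 lc_g_rc_24_7 lc_g_rc_27_0 lc_g_rc_26_6 lc_g_rc_24_1 lc_g_rc_21_3 lc_g_rc_24_3 lc_g_Cert_tree lc_g_rc_27_6 lc_g_rc_26_6 lc_g_rc_27_6 lc_g_rc_26_3 lc_g_rc_23_9 lc_g_rc_23_9 lc_g_rc_27_3 lc_g_rc_21_3 lc_g_Cert_tree lc_g_rc_24_7 lc_g_rc_24_1 lc_g_rc_21_2 lc_g_rc_27_6 lc_g_rc_26_9 lc_g_rc_21_2 lc_g_rc_26_6 lc_g_Cert_tree lc_g_rc_27_0 lc_g_rc_23_9 lc_g_Cert_tree lc_g_Cert_tree lc_g_Cert_tree lc_g_rc_27_9 lc_g_rc_21_2 lc_g_rc_26_9 lc_g_Cert_tree lc_g_rc_23_3 lc_g_rc_26_6 lc_g_rc_23_3 lc_g_rc_23_9 lc_g_rc_23_7 lc_g_Cert_tree lc_g_rc_24_7 lc_g_rc_21_2 lc_g_rc_26_6 lc_g_rc_23_7 lc_g_rc_23_9 lc_g_rc_26_6 lc_g_rc_24_3 lc_g_rc_26_6 lc_g_rc_27_3 lc_g_rc_21_3 lc_g_Cert_tree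 lc_g_rc_26_6 lc_g_rc_26_6 lc_g_rc_23_3 lc_g_rc_23_9 lc_g_rc_25_3 lc_g_Cert_tree lc_g_rc_23_9) (@D3.rec (fun _ => (Cert rels S Gen.g)) lc_g_rc_27_6 lc_g_rc_21_3 lc_g_Cert_tree lc_g_rc_26_6 lc_g_rc_24_3 lc_g_rc_23_1 lc_g_rc_23_7 lc_g_rc_26_9 lc_g_rc_23_7 lc_g_rc_26_9 lc_g_rc_21_3 lc_g_Cert_tree lc_g_Cert_tree lc_g_rc_21_2 lc_g_rc_21_2 lc_g_Cert_tree lc_g_rc_21_2 lc_g_rc_24_1 lc_g_rc_27_6 lc_g_rc_26_0 lc_g_rc_26_0 lc_g_rc_23_1 lc_g_rc_21_3 lc_g_rc_27_3 lc_g_rc_21_2 lc_g_rc_26_9 lc_g_rc_27_3 lc_g_Cert_tree lc_g_rc_27_6 lc_g_rc_23_1 lc_g_rc_24_3 lc_g_rc_27_6 lc_g_rc_21_2 lc_g_rc_21_3 lc_g_Cert_tree lc_g_rc_26_3 lc_g_rc_21_3 lc_g_Cert_tree lc_g_Cert_tree lc_g_rc_21_2 lc_g_rc_21_3 lc_g_Cert_tree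 lc_g_rc_21_2 lc_g_rc_21_3 lc_g_Cert_tree lc_g_rc_21_2 lc_g_rc_27_6 lc_g_rc_26_6 lc_g_rc_23_1 lc_g_rc_26_0 lc_g_rc_26_0 lc_g_rc_24_7 lc_g_rc_23_1 lc_g_rc_21_3 lc_g_Cert_tree lc_g_rc_21_2 lc_g_rc_21_3 lc_g_Cert_tree lc_g_rc_21_2 lc_g_rc_26_6 lc_g_rc_23_3 lc_g_rc_21_3) (@D3.rec (fun _ => (Cert rels S Gen.g)) lc_g_Cert_tree lc_g_rc_21_2 lc_g_rc_26_9 lc_g_rc_21_3 lc_g_Cert_tree lc_g_Cert_tree lc_g_rc_27_6 lc_g_rc_21_2 lc_g_Cert_tree lc_g_rc_21_3 lc_g_rc_26_6 lc_g_rc_24_3 lc_g_rc_26_9 lc_g_rc_21_3 lc_g_Cert_tree lc_g_Cert_tree lc_g_rc_21_2 lc_g_rc_26_3 lc_g_rc_24_3 lc_g_rc_21_2 lc_g_rc_21_2 lc_g_rc_21_3 lc_g_Cert_tree lc_g_Cert_tree lc_g_rc_26_0 lc_g_rc_21_3 lc_g_rc_27_9 lc_g_rc_23_9 lc_g_rc_23_7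 lc_g_rc_21_3 lc_g_rc_24_9 lc_g_rc_21_2 lc_g_rc_26_3 lc_g_rc_27_0 lc_g_rc_23_7 lc_g_rc_26_6 lc_g_rc_27_6 lc_g_rc_21_3 lc_g_Cert_tree lc_g_Cert_tree lc_g_rc_21_2 lc_g_rc_21_2 lc_g_rc_21_3 lc_g_Cert_tree lc_g_rc_21_2 lc_g_rc_26_0 lc_g_Cert_tree lc_g_rc_26_0 lc_g_rc_24_1 lc_g_Cert_tree lc_g_rc_21_3 lc_g_rc_27_0 lc_g_rc_21_2 lc_g_rc_21_3 lc_g_rc_23_7 lc_g_Cert_tree lc_g_Cert_tree lc_g_rc_26_6 lc_g_rc_27_9 lc_g_rc_21_3 lc_g_rc_21_3 lc_g_rc_27_0) (@D3.rec (fun _ => (Cert rels S Gen.g)) lc_g_rc_23_3 lc_g_rc_27_6 lc_g_rc_27_6 lc_g_rc_26_6 lc_g_rc_23_1 lc_g_Cert_tree lc_g_rc_26_3 lc_g_Cert_tree lc_g_rc_21_3 lc_g_rc_23_3 lc_g_rc_23_3 lc_g_rc_23_1 lc_g_rc_24_3 lc_g_rc_26_3 lc_g_rc_24_1 lc_g_rc_27_6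 lc_g_rc_26_9 lc_g_rc_27_6 lc_g_rc_23_7 lc_g_Cert_tree lc_g_rc_23_1 lc_g_rc_24_3 lc_g_rc_21_3 lc_g_Cert_tree lc_g_rc_21_3 lc_g_rc_27_6 lc_g_rc_21_2 lc_g_rc_21_3 lc_g_Cert_tree lc_g_rc_24_7 lc_g_rc_24_1 lc_g_rc_26_0 lc_g_Cert_tree lc_g_rc_23_7 lc_g_Cert_tree lc_g_rc_27_3 lc_g_rc_23_3 lc_g_rc_23_7 lc_g_Cert_tree lc_g_Cert_tree lc_g_rc_27_6 lc_g_rc_21_2 lc_g_rc_26_9 lc_g_rc_21_3 lc_g_rc_26_0 lc_g_rc_23_9 lc_g_rc_21_2 lc_g_rc_27_3 lc_g_Cert_tree lc_g_rc_21_2 lc_g_rc_21_3 lc_g_rc_27_3 lc_g_Cert_tree lc_g_rc_24_7 lc_g_rc_27_6 lc_g_rc_21_2 lc_g_rc_21_3 lc_g_rc_21_2 lc_g_rc_23_3 lc_g_rc_23_1 lc_g_rc_27_6 lc_g_rc_26_6) (@D3.rec (fun _ => (Cert rels S Gen.g)) lc_g_Cert_tree lc_g_rc_23_3 lc_g_rc_21_3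 lc_g_rc_21_3 lc_g_Cert_tree lc_g_rc_26_3 lc_g_rc_26_3 lc_g_rc_21_2 lc_g_rc_24_7 lc_g_rc_26_9 lc_g_rc_27_0 lc_g_rc_21_2 lc_g_rc_27_6 lc_g_rc_27_6 lc_g_Cert_tree lc_g_rc_24_3 lc_g_rc_27_6 lc_g_rc_21_2 lc_g_rc_23_9 lc_g_rc_21_2 lc_g_rc_26_3 lc_g_rc_21_2 lc_g_rc_26_6 lc_g_Cert_tree lc_g_rc_25_19 lc_g_rc_26_6 lc_g_rc_21_3 lc_g_rc_24_9 lc_g_rc_23_7 lc_g_rc_26_3 lc_g_rc_26_3 lc_g_rc_26_6 lc_g_rc_27_3 lc_g_rc_27_6 lc_g_Cert_tree lc_g_rc_27_0 lc_g_rc_24_7 lc_g_rc_26_9 lc_g_rc_26_0 lc_g_rc_23_9 lc_g_rc_27_6 lc_g_rc_21_2 lc_g_rc_24_1 lc_g_rc_23_1 lc_g_Cert_tree lc_g_rc_26_9 lc_g_rc_23_3 lc_g_Cert_tree lc_g_rc_23_1 lc_g_rc_23_1 lc_g_Cert_tree lc_g_rc_27_9 lc_g_rc_26_0 lc_g_rc_21_2 lc_g_rc_21_2 lc_g_rc_27_3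 lc_g_Cert_tree lc_g_Cert_tree lc_g_rc_25_19 lc_g_rc_21_2 lc_g_rc_21_3 lc_g_rc_21_2) (@D3.rec (fun _ => (Cert rels S Gen.g)) lc_g_rc_27_6 lc_g_rc_21_3 lc_g_Cert_tree lc_g_rc_27_3 lc_g_rc_21_3 lc_g_rc_26_0 lc_g_Cert_tree lc_g_Cert_tree lc_g_rc_26_6 lc_g_rc_21_3 lc_g_Cert_tree lc_g_Cert_tree lc_g_rc_21_2 lc_g_rc_26_3 lc_g_rc_27_9 lc_g_rc_26_9 lc_g_rc_23_3 lc_g_Cert_tree lc_g_rc_26_0 lc_g_Cert_tree lc_g_rc_23_7 lc_g_rc_21_2 lc_g_rc_23_3 lc_g_rc_23_1 lc_g_rc_26_9 lc_g_rc_21_2 lc_g_rc_23_3 lc_g_rc_21_3 lc_g_rc_27_0 lc_g_Cert_tree lc_g_Cert_tree lc_g_rc_26_3 lc_g_Cert_tree lc_g_rc_27_3 lc_g_rc_23_7 lc_g_rc_24_3 lc_g_rc_27_6 lc_g_rc_26_6 lc_g_rc_27_9 lc_g_rc_23_1 lc_g_rc_21_3 lc_g_Cert_tree lc_g_rc_23_3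 lc_g_rc_24_3 lc_g_rc_21_2 lc_g_rc_23_1 lc_g_Cert_tree lc_g_rc_21_3 lc_g_Cert_tree lc_g_rc_24_7 lc_g_rc_27_6 lc_g_rc_24_3 lc_g_rc_24_3 lc_g_rc_24_1 lc_g_rc_27_6 lc_g_rc_27_3 lc_g_rc_27_3 lc_g_rc_21_2 lc_g_rc_23_3 lc_g_rc_24_1 lc_g_Cert_tree lc_g_rc_21_3) (@D3.rec (fun _ => (Cert rels S Gen.g)) lc_g_rc_26_6 lc_g_rc_26_3 lc_g_rc_24_1 lc_g_rc_23_3 lc_g_Cert_tree lc_g_rc_23_3 lc_g_rc_21_2 lc_g_rc_27_3 lc_g_rc_24_3 lc_g_rc_27_9 lc_g_rc_24_7 lc_g_rc_21_2 lc_g_rc_21_2 lc_g_rc_27_3 lc_g_rc_26_3 lc_g_rc_27_3 lc_g_Cert_tree lc_g_rc_21_2 lc_g_rc_26_3 lc_g_rc_24_9 lc_g_rc_24_1 lc_g_rc_21_3 lc_g_rc_24_3 lc_g_rc_26_0 lc_g_rc_23_3 lc_g_rc_21_3 lc_g_Cert_tree lc_g_rc_25_3 lc_g_rc_26_9 lc_g_rc_21_3 lc_g_rc_27_6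 lc_g_rc_21_2 lc_g_rc_24_9 lc_g_rc_26_0 lc_g_rc_26_3 lc_g_rc_23_7 lc_g_rc_26_6 lc_g_rc_26_9 lc_g_rc_26_0 lc_g_rc_26_6 lc_g_Cert_tree lc_g_rc_27_3 lc_g_rc_21_2 lc_g_rc_24_3 lc_g_Cert_tree lc_g_rc_27_3 lc_g_rc_21_2 lc_g_rc_24_1 lc_g_rc_21_3 lc_g_rc_21_3 lc_g_Cert_tree lc_g_rc_21_2 lc_g_rc_26_6 lc_g_Cert_tree lc_g_rc_26_0 lc_g_rc_27_6 lc_g_rc_27_3 lc_g_rc_21_3 lc_g_rc_23_3 lc_g_rc_21_2 lc_g_rc_24_1 lc_g_rc_24_1) (@D3.rec (fun _ => (Cert rels S Gen.g)) lc_g_rc_21_2 lc_g_Cert_tree lc_g_rc_21_2 lc_g_Cert_tree lc_g_rc_26_6 lc_g_rc_23_1 lc_g_rc_25_19 lc_g_rc_24_3 lc_g_rc_24_1 lc_g_rc_23_3 lc_g_rc_26_9 lc_g_rc_26_6 lc_g_rc_21_2 lc_g_rc_21_2 lc_g_rc_23_1 lc_g_rc_26_6 lc_g_rc_26_6 lc_g_rc_23_9 lc_g_Cert_tree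 lc_g_Cert_tree lc_g_rc_27_6 lc_g_rc_24_3 lc_g_rc_21_3 lc_g_rc_24_3 lc_g_rc_24_3 lc_g_rc_23_3 lc_g_Cert_tree lc_g_rc_24_7 lc_g_rc_23_1 lc_g_rc_27_3 lc_g_rc_25_3 lc_g_rc_23_1 lc_g_rc_21_3 lc_g_rc_27_3 lc_g_Cert_tree lc_g_rc_26_6 lc_g_rc_24_7 lc_g_rc_21_3 lc_g_rc_26_6 lc_g_rc_27_3 lc_g_rc_27_3 lc_g_rc_21_3 lc_g_rc_23_9 lc_g_rc_26_6 lc_g_rc_23_9 lc_g_rc_21_3 lc_g_rc_24_3 lc_g_rc_27_0 lc_g_rc_27_3 lc_g_rc_26_9 lc_g_rc_21_3 lc_g_rc_26_9 lc_g_Cert_tree lc_g_rc_21_3 lc_g_Cert_tree lc_g_Cert_tree lc_g_rc_21_2 lc_g_rc_26_6 lc_g_rc_27_9 lc_g_rc_26_6 lc_g_rc_23_7 lc_g_rc_24_9) (@D3.rec (fun _ => (Cert rels S Gen.g)) lc_g_rc_26_3 lc_g_rc_26_9 lc_g_rc_27_3 lc_g_rc_21_3 lc_g_rc_27_0 lc_g_rc_21_2 lc_g_rc_21_3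 lc_g_Cert_tree lc_g_rc_26_6 lc_g_rc_26_6 lc_g_rc_26_6 lc_g_rc_24_1 lc_g_rc_21_3 lc_g_rc_21_2 lc_g_rc_21_2 lc_g_Cert_tree lc_g_rc_25_3 lc_g_rc_27_0 lc_g_rc_27_3 lc_g_rc_26_0 lc_g_rc_24_7 lc_g_Cert_tree lc_g_rc_21_3 lc_g_rc_21_2 lc_g_rc_23_9 lc_g_rc_23_7 lc_g_rc_24_9 lc_g_rc_26_6 lc_g_rc_21_2 lc_g_rc_26_3 lc_g_rc_21_3 lc_g_rc_26_9 lc_g_rc_23_3 lc_g_rc_21_3 lc_g_Cert_tree lc_g_Cert_tree lc_g_rc_24_7 lc_g_rc_21_2 lc_g_rc_24_1 lc_g_rc_27_6 lc_g_rc_26_3 lc_g_rc_23_7 lc_g_rc_27_3 lc_g_rc_27_9 lc_g_rc_26_6 lc_g_rc_24_3 lc_g_Cert_tree lc_g_rc_26_6 lc_g_rc_26_0 lc_g_rc_23_3 lc_g_rc_24_9 lc_g_rc_21_3 lc_g_rc_27_6 lc_g_rc_21_3 lc_g_rc_26_0 lc_g_rc_26_0 lc_g_rc_27_6 lc_g_rc_24_1 lc_g_rc_27_6 lc_g_Cert_tree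 lc_g_rc_27_3 lc_g_rc_24_9) (@D3.rec (fun _ => (Cert rels S Gen.g)) lc_g_rc_21_3 lc_g_Cert_tree lc_g_rc_27_6 lc_g_rc_21_3 lc_g_rc_26_9 lc_g_Cert_tree lc_g_rc_24_1 lc_g_rc_26_0 lc_g_rc_26_9 lc_g_rc_24_9 lc_g_rc_26_6 lc_g_Cert_tree lc_g_rc_26_6 lc_g_rc_21_3 lc_g_rc_24_3 lc_g_rc_21_3 lc_g_Cert_tree lc_g_rc_21_2 lc_g_rc_21_2 lc_g_rc_24_1 lc_g_rc_27_6 lc_g_rc_21_3 lc_g_rc_21_2 lc_g_rc_21_2 lc_g_rc_27_3 lc_g_Cert_tree lc_g_rc_23_1 lc_g_rc_21_3 lc_g_rc_27_6 lc_g_rc_24_3 lc_g_rc_21_2 lc_g_rc_27_3 lc_g_rc_27_9 lc_g_rc_26_9 lc_g_rc_23_7 lc_g_rc_26_3 lc_g_rc_26_3 lc_g_rc_23_7 lc_g_rc_25_11 lc_g_rc_27_9 lc_g_rc_23_7 lc_g_rc_21_2 lc_g_rc_26_0 lc_g_rc_26_9 lc_g_rc_27_0 lc_g_rc_26_9 lc_g_rc_23_7 lc_g_rc_21_3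 lc_g_Cert_tree lc_g_rc_21_2 lc_g_rc_21_2 lc_g_rc_21_2 lc_g_rc_21_2 lc_g_rc_21_3 lc_g_Cert_tree lc_g_rc_27_3 lc_g_rc_25_15 lc_g_rc_21_2 lc_g_rc_26_9 lc_g_rc_25_3 lc_g_rc_21_2 lc_g_rc_27_0) (@D3.rec (fun _ => (Cert rels S Gen.g)) lc_g_rc_21_3 lc_g_rc_21_2 lc_g_rc_23_1 lc_g_rc_27_6 lc_g_Cert_tree lc_g_rc_21_2 lc_g_rc_26_6 lc_g_rc_27_0 lc_g_rc_26_3 lc_g_rc_21_2 lc_g_rc_23_7 lc_g_rc_23_3 lc_g_rc_21_3 lc_g_Cert_tree lc_g_rc_24_7 lc_g_rc_21_3 lc_g_rc_27_6 lc_g_Cert_tree lc_g_Cert_tree lc_g_rc_27_0 lc_g_rc_26_6 lc_g_rc_27_0 lc_g_rc_23_1 lc_g_rc_23_1 lc_g_rc_21_2 lc_g_Cert_tree lc_g_rc_21_2 lc_g_rc_24_7 lc_g_rc_27_6 lc_g_rc_21_2 lc_g_rc_21_2 lc_g_rc_27_9 lc_g_rc_21_3 lc_g_Cert_tree lc_g_rc_21_2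 lc_g_rc_25_3 lc_g_Cert_tree lc_g_rc_26_6 lc_g_rc_23_3 lc_g_rc_21_2 lc_g_rc_27_0 lc_g_Cert_tree lc_g_rc_23_1 lc_g_rc_27_6 lc_g_rc_26_6 lc_g_rc_26_0 lc_g_rc_21_2 lc_g_rc_25_3 lc_g_rc_24_1 lc_g_rc_21_2 lc_g_rc_26_3 lc_g_Cert_tree lc_g_rc_27_0 lc_g_rc_21_2 lc_g_rc_27_3 lc_g_rc_27_0 lc_g_rc_27_6 lc_g_Cert_tree lc_g_rc_21_2 lc_g_rc_26_3 lc_g_rc_21_3 lc_g_rc_21_2) (@D3.rec (fun _ => (Cert rels S Gen.g)) lc_g_rc_24_3 lc_g_Cert_tree lc_g_rc_27_0 lc_g_rc_25_11 lc_g_rc_24_9 lc_g_rc_27_6 lc_g_rc_26_6 lc_g_Cert_tree lc_g_rc_26_6 lc_g_rc_24_1 lc_g_rc_21_3 lc_g_rc_24_3 lc_g_rc_21_2 lc_g_rc_21_3 lc_g_rc_23_3 lc_g_rc_24_1 lc_g_Cert_tree lc_g_rc_21_2 lc_g_rc_27_6 lc_g_Cert_tree lc_g_rc_27_6 lc_g_rc_27_9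 lc_g_rc_21_3 lc_g_Cert_tree lc_g_rc_21_2 lc_g_rc_25_11 lc_g_rc_24_1 lc_g_rc_23_7 lc_g_rc_21_3 lc_g_rc_23_1 lc_g_rc_21_3 lc_g_rc_25_7 lc_g_Cert_tree lc_g_rc_21_3 lc_g_rc_26_0 lc_g_rc_21_3 lc_g_rc_26_3 lc_g_rc_24_1 lc_g_rc_27_0 lc_g_rc_23_3 lc_g_rc_25_11 lc_g_rc_27_6 lc_g_rc_27_9 lc_g_rc_23_3 lc_g_rc_24_3 lc_g_rc_27_3 lc_g_rc_26_0 lc_g_Cert_tree lc_g_rc_27_3 lc_g_rc_21_3 lc_g_rc_27_9 lc_g_rc_27_3 lc_g_rc_27_9 lc_g_rc_21_2 lc_g_Cert_tree lc_g_rc_27_6 lc_g_rc_27_6 lc_g_rc_26_9 lc_g_rc_26_3 lc_g_rc_26_9 lc_g_rc_27_0 lc_g_rc_26_0) (@D3.rec (fun _ => (Cert rels S Gen.g)) lc_g_rc_27_3 lc_g_rc_27_0 lc_g_rc_26_6 lc_g_rc_23_9 lc_g_rc_23_3 lc_g_rc_27_6 lc_g_rc_21_2 lc_g_rc_21_3 lc_g_Cert_tree lc_g_rc_23_3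 lc_g_rc_21_3 lc_g_rc_27_3 lc_g_rc_21_2 lc_g_Cert_tree lc_g_rc_27_6 lc_g_rc_21_2 lc_g_rc_26_0 lc_g_rc_24_3 lc_g_rc_27_6 lc_g_Cert_tree lc_g_rc_24_1 lc_g_rc_25_3 lc_g_rc_21_3 lc_g_rc_21_3 lc_g_Cert_tree lc_g_Cert_tree lc_g_rc_21_2 lc_g_rc_26_9 lc_g_rc_24_1 lc_g_rc_26_0 lc_g_rc_26_0 lc_g_rc_27_3 lc_g_rc_23_1 lc_g_rc_23_3 lc_g_rc_26_0 lc_g_rc_24_3 lc_g_rc_24_3 lc_g_rc_23_9 lc_g_rc_24_3 lc_g_Cert_tree lc_g_rc_26_9 lc_g_rc_27_6 lc_g_rc_21_3 lc_g_Cert_tree lc_g_rc_21_2 lc_g_rc_27_9 lc_g_rc_24_3 lc_g_rc_21_2 lc_g_rc_26_3 lc_g_Cert_tree lc_g_rc_23_7 lc_g_rc_23_9 lc_g_rc_21_3 lc_g_rc_26_0 lc_g_rc_21_3 lc_g_Cert_tree lc_g_rc_21_2 lc_g_rc_27_3 lc_g_rc_26_0 lc_g_rc_27_3 lc_g_rc_21_2 lc_g_rc_26_6) (@D3.rec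 (fun _ => (Cert rels S Gen.g)) lc_g_Cert_tree lc_g_rc_21_2 lc_g_rc_21_3 lc_g_Cert_tree lc_g_rc_21_3 lc_g_Cert_tree lc_g_rc_21_2 lc_g_rc_21_2 lc_g_rc_21_3 lc_g_Cert_tree lc_g_rc_21_2 lc_g_rc_21_2 lc_g_rc_21_3 lc_g_Cert_tree lc_g_rc_21_2 lc_g_Cert_tree lc_g_rc_26_0 lc_g_rc_21_3 lc_g_rc_27_3 lc_g_rc_21_2 lc_g_rc_21_2 lc_g_rc_24_1 lc_g_rc_21_3 lc_g_rc_26_6 lc_g_rc_21_2 lc_g_rc_26_3 lc_g_rc_27_0 lc_g_rc_21_2 lc_g_rc_21_3 lc_g_rc_25_11 lc_g_Cert_tree lc_g_rc_25_3 lc_g_rc_21_3 lc_g_Cert_tree lc_g_rc_21_2 lc_g_rc_21_2 lc_g_rc_21_3 lc_g_Cert_tree lc_g_Cert_tree lc_g_rc_24_1 lc_g_rc_27_0 lc_g_rc_26_0 lc_g_rc_21_2 lc_g_rc_21_3 lc_g_Cert_tree lc_g_rc_21_2 lc_g_rc_26_0 lc_g_rc_27_0 lc_g_rc_21_2 lc_g_rc_26_6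 lc_g_Cert_tree lc_g_rc_23_3 lc_g_rc_26_3 lc_g_Cert_tree lc_g_rc_23_3 lc_g_rc_21_2 lc_g_rc_26_6 lc_g_rc_23_1 lc_g_rc_21_3 lc_g_rc_21_3 lc_g_rc_25_19 lc_g_rc_26_0) (@D3.rec (fun _ => (Cert rels S Gen.g)) lc_g_rc_24_1 lc_g_rc_21_3 lc_g_Cert_tree lc_g_rc_24_3 lc_g_rc_21_2 lc_g_rc_25_7 lc_g_rc_26_6 lc_g_rc_27_6 lc_g_Cert_tree lc_g_rc_24_3 lc_g_rc_27_3 lc_g_rc_26_6 lc_g_rc_21_3 lc_g_rc_21_2 lc_g_rc_21_2 lc_g_rc_26_3 lc_g_rc_25_3 lc_g_rc_24_3 lc_g_rc_21_2 lc_g_rc_21_3 lc_g_rc_26_6 lc_g_rc_21_2 lc_g_rc_21_3 lc_g_rc_21_3 lc_g_rc_21_3 lc_g_rc_21_3 lc_g_Cert_tree lc_g_Cert_tree lc_g_rc_26_0 lc_g_rc_26_6 lc_g_rc_27_3 lc_g_rc_21_2 lc_g_rc_21_3 lc_g_Cert_tree lc_g_rc_26_3 lc_g_rc_23_7 lc_g_rc_23_9 lc_g_rc_27_6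 lc_g_rc_21_3 lc_g_Cert_tree lc_g_rc_21_2 lc_g_Cert_tree lc_g_rc_23_7 lc_g_rc_21_2 lc_g_rc_26_3 lc_g_rc_26_0 lc_g_rc_21_3 lc_g_rc_27_6 lc_g_rc_26_3 lc_g_rc_21_3 lc_g_Cert_tree lc_g_rc_21_3 lc_g_rc_21_2 lc_g_rc_26_0 lc_g_Cert_tree lc_g_rc_21_3 lc_g_Cert_tree lc_g_Cert_tree lc_g_rc_21_2 lc_g_rc_26_3 lc_g_rc_23_7 lc_g_rc_26_6) (@D3.rec (fun _ => (Cert rels S Gen.g)) lc_g_rc_23_3 lc_g_rc_27_6 lc_g_Cert_tree lc_g_rc_24_3 lc_g_rc_21_2 lc_g_rc_23_3 lc_g_rc_27_9 lc_g_rc_27_9 lc_g_rc_26_6 lc_g_rc_26_6 lc_g_rc_25_11 lc_g_rc_26_9 lc_g_rc_21_2 lc_g_Cert_tree lc_g_rc_21_3 lc_g_rc_21_3 lc_g_Cert_tree lc_g_Cert_tree lc_g_rc_21_2 lc_g_rc_27_9 lc_g_rc_24_3 lc_g_rc_21_3 lc_g_rc_23_3 lc_g_rc_21_2 lc_g_rc_23_7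 lc_g_rc_21_2 lc_g_rc_27_3 lc_g_rc_24_1 lc_g_rc_26_0 lc_g_rc_21_3 lc_g_rc_27_6 lc_g_rc_21_3 lc_g_Cert_tree lc_g_Cert_tree lc_g_rc_21_2 lc_g_rc_26_6 lc_g_rc_26_3 lc_g_rc_21_3 lc_g_Cert_tree lc_g_Cert_tree lc_g_rc_21_2 lc_g_Cert_tree lc_g_rc_24_3 lc_g_rc_21_2 lc_g_rc_21_3 lc_g_Cert_tree lc_g_Cert_tree lc_g_rc_21_2 lc_g_rc_24_3 lc_g_rc_21_2 lc_g_rc_21_2 lc_g_rc_21_2 lc_g_Cert_tree lc_g_rc_26_6 lc_g_rc_26_6 lc_g_Cert_tree lc_g_rc_21_3 lc_g_rc_27_3 lc_g_rc_21_2 lc_g_rc_27_3 lc_g_rc_27_6 lc_g_rc_26_0) (@D3.rec (fun _ => (Cert rels S Gen.g)) lc_g_rc_24_1 lc_g_rc_26_6 lc_g_rc_26_9 lc_g_rc_23_7 lc_g_rc_27_6 lc_g_rc_24_7 lc_g_rc_23_3 lc_g_rc_26_6 lc_g_rc_26_3 lc_g_rc_23_7 lc_g_rc_23_3 lc_g_rc_26_9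 lc_g_rc_21_3 lc_g_rc_21_2 lc_g_rc_23_3 lc_g_rc_21_3 lc_g_Cert_tree lc_g_rc_24_1 lc_g_rc_24_3 lc_g_rc_21_3 lc_g_Cert_tree lc_g_rc_26_0 lc_g_rc_25_7 lc_g_rc_21_3 lc_g_Cert_tree lc_g_rc_21_2 lc_g_rc_21_3 lc_g_Cert_tree lc_g_rc_23_3 lc_g_rc_23_9 lc_g_rc_21_3 lc_g_rc_27_0 lc_g_rc_25_19 lc_g_rc_24_9 lc_g_rc_27_0 lc_g_rc_21_2 lc_g_rc_21_3 lc_g_Cert_tree lc_g_rc_24_3 lc_g_rc_26_3 lc_g_rc_24_9 lc_g_rc_24_7 lc_g_rc_21_3 lc_g_Cert_tree lc_g_rc_23_1 lc_g_rc_27_6 lc_g_rc_26_3 lc_g_rc_21_3 lc_g_rc_23_9 lc_g_rc_23_3 lc_g_rc_21_3 lc_g_Cert_tree lc_g_rc_21_2 lc_g_rc_21_3 lc_g_Cert_tree lc_g_rc_21_2 lc_g_rc_21_2 lc_g_rc_25_7 lc_g_rc_24_7 lc_g_rc_21_3 lc_g_Cert_tree lc_g_Cert_tree) (@D3.rec (fun _ => (Cert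 rels S Gen.g)) lc_g_rc_21_2 lc_g_rc_21_3 lc_g_Cert_tree lc_g_rc_21_2 lc_g_Cert_tree lc_g_rc_26_0 lc_g_rc_23_1 lc_g_rc_27_0 lc_g_rc_21_2 lc_g_rc_26_3 lc_g_rc_21_2 lc_g_rc_21_2 lc_g_rc_21_3 lc_g_rc_27_9 lc_g_rc_21_3 lc_g_rc_21_3 lc_g_rc_24_3 lc_g_Cert_tree lc_g_rc_21_3 lc_g_rc_27_0 lc_g_rc_26_6 lc_g_rc_23_7 lc_g_rc_24_3 lc_g_rc_27_6 lc_g_rc_21_3 lc_g_rc_23_3 lc_g_rc_27_6 lc_g_rc_27_3 lc_g_rc_24_3 lc_g_rc_23_3 lc_g_rc_27_3 lc_g_rc_26_9 lc_g_rc_24_3 lc_g_rc_21_3 lc_g_Cert_tree lc_g_rc_27_3 lc_g_rc_26_3 lc_g_rc_21_2 lc_g_rc_21_3 lc_g_rc_26_0 lc_g_rc_24_7 lc_g_Cert_tree lc_g_rc_27_3 lc_g_rc_27_9 lc_g_rc_27_3 lc_g_rc_24_7 lc_g_rc_21_3 lc_g_rc_27_0 lc_g_rc_21_3 lc_g_rc_21_3 lc_g_rc_26_3 lc_g_rc_26_3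 lc_g_Cert_tree lc_g_rc_24_9 lc_g_rc_26_3 lc_g_rc_21_2 lc_g_rc_27_6 lc_g_rc_27_6 lc_g_rc_26_3 lc_g_rc_26_9 lc_g_rc_23_1 lc_g_rc_23_3) (@D3.rec (fun _ => (Cert rels S Gen.g)) lc_g_rc_26_6 lc_g_rc_27_3 lc_g_rc_26_6 lc_g_rc_21_3 lc_g_Cert_tree lc_g_Cert_tree lc_g_rc_21_2 lc_g_rc_27_9 lc_g_rc_23_7 lc_g_rc_21_2 lc_g_Cert_tree lc_g_rc_27_3 lc_g_rc_23_3 lc_g_rc_26_6 lc_g_rc_24_1 lc_g_Cert_tree lc_g_rc_24_3 lc_g_rc_27_0 lc_g_rc_21_2 lc_g_rc_21_3 lc_g_rc_27_6 lc_g_rc_23_9 lc_g_rc_26_0 lc_g_rc_21_3 lc_g_rc_21_2 lc_g_rc_27_3 lc_g_rc_23_3 lc_g_rc_21_3 lc_g_Cert_tree lc_g_Cert_tree lc_g_rc_21_3 lc_g_rc_26_6 lc_g_rc_24_9 lc_g_rc_26_6 lc_g_rc_24_7 lc_g_rc_24_3 lc_g_rc_21_3 lc_g_rc_21_3 lc_g_rc_21_3 lc_g_Cert_tree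 lc_g_rc_27_9 lc_g_rc_21_2 lc_g_rc_26_6 lc_g_rc_21_2 lc_g_rc_21_3 lc_g_rc_21_2 lc_g_rc_26_0 lc_g_rc_26_3 lc_g_rc_27_6 lc_g_rc_26_6 lc_g_rc_21_2 lc_g_rc_23_3 lc_g_rc_21_3 lc_g_rc_21_2 lc_g_rc_21_3 lc_g_Cert_tree lc_g_rc_24_3 lc_g_rc_23_3 lc_g_rc_27_6 lc_g_rc_24_3 lc_g_Cert_tree lc_g_rc_21_2) (@D3.rec (fun _ => (Cert rels S Gen.g)) lc_g_rc_21_2 lc_g_rc_26_6 lc_g_rc_24_1 lc_g_rc_27_0 lc_g_Cert_tree lc_g_rc_23_3 lc_g_rc_21_3 lc_g_Cert_tree lc_g_rc_21_2 lc_g_Cert_tree lc_g_Cert_tree lc_g_rc_21_2 lc_g_rc_21_2 lc_g_rc_21_2 lc_g_rc_21_3 lc_g_Cert_tree lc_g_rc_24_9 lc_g_rc_21_2 lc_g_rc_23_7 lc_g_rc_27_0 lc_g_rc_24_3 lc_g_rc_26_6 lc_g_rc_21_2 lc_g_rc_21_2 lc_g_rc_21_3 lc_g_rc_24_1 lc_g_rc_21_2 lc_g_rc_21_2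 lc_g_rc_26_6 lc_g_rc_24_3 lc_g_Cert_tree lc_g_rc_21_2 lc_g_rc_21_3 lc_g_Cert_tree lc_g_rc_21_2 lc_g_rc_21_2 lc_g_rc_21_2 lc_g_rc_21_3 lc_g_Cert_tree lc_g_rc_23_3 lc_g_rc_21_2 lc_g_rc_27_9 lc_g_rc_26_3 lc_g_rc_24_9 lc_g_rc_26_9 lc_g_rc_21_3 lc_g_Cert_tree lc_g_rc_24_9 lc_g_rc_21_3 lc_g_rc_24_3 lc_g_rc_21_2 lc_g_rc_21_2 lc_g_rc_21_3 lc_g_Cert_tree lc_g_rc_21_2 lc_g_rc_24_1 lc_g_rc_25_15 lc_g_rc_27_3 lc_g_rc_21_2 lc_g_Cert_tree lc_g_rc_21_2 lc_g_rc_26_3) (@D3.rec (fun _ => (Cert rels S Gen.g)) lc_g_Cert_tree lc_g_Cert_tree lc_g_Cert_tree lc_g_rc_21_2 lc_g_rc_26_6 lc_g_rc_21_2 lc_g_rc_21_3 lc_g_Cert_tree lc_g_Cert_tree lc_g_rc_26_6 lc_g_rc_21_2 lc_g_rc_21_3 lc_g_rc_26_6 lc_g_Cert_tree lc_g_rc_25_7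 lc_g_rc_26_9 lc_g_rc_23_3 lc_g_rc_21_3 lc_g_rc_23_7 lc_g_rc_26_9 lc_g_rc_21_3 lc_g_rc_21_3 lc_g_rc_21_3 lc_g_rc_27_0 lc_g_rc_24_7 lc_g_Cert_tree lc_g_rc_21_3 lc_g_rc_21_3 lc_g_Cert_tree lc_g_Cert_tree lc_g_rc_26_0 lc_g_rc_26_6 lc_g_rc_21_3 lc_g_rc_21_3 lc_g_Cert_tree lc_g_rc_24_3 lc_g_rc_26_6 lc_g_Cert_tree lc_g_rc_24_1 lc_g_Cert_tree lc_g_rc_27_6 lc_g_rc_23_1 lc_g_Cert_tree lc_g_rc_21_3 lc_g_rc_27_0 lc_g_rc_21_3 lc_g_Cert_tree lc_g_rc_21_2 lc_g_rc_21_2 lc_g_rc_21_2 lc_g_rc_24_9 lc_g_rc_24_3 lc_g_rc_27_0 lc_g_rc_26_3 lc_g_rc_23_3 lc_g_rc_27_0 lc_g_rc_21_3 lc_g_Cert_tree lc_g_rc_26_3 lc_g_rc_26_3 lc_g_rc_21_2 lc_g_Cert_tree) (@D3.rec (fun _ => (Cert rels S Gen.g)) lc_g_rc_21_2 lc_g_Cert_tree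 lc_g_rc_27_6 lc_g_rc_21_2 lc_g_rc_26_3 lc_g_rc_27_9 lc_g_rc_23_3 lc_g_rc_24_3 lc_g_rc_21_2 lc_g_rc_23_7 lc_g_rc_24_3 lc_g_rc_27_6 lc_g_rc_21_2 lc_g_rc_26_6 lc_g_rc_21_2 lc_g_rc_21_2 lc_g_rc_21_3 lc_g_rc_26_6 lc_g_rc_23_3 lc_g_rc_24_3 lc_g_rc_26_6 lc_g_Cert_tree lc_g_rc_21_3 lc_g_rc_21_2 lc_g_rc_21_2 lc_g_rc_21_2 lc_g_rc_26_3 lc_g_rc_24_1 lc_g_rc_21_2 lc_g_rc_25_15 lc_g_rc_26_0 lc_g_rc_27_3 lc_g_rc_21_2 lc_g_rc_26_6 lc_g_rc_23_7 lc_g_rc_23_7 lc_g_Cert_tree lc_g_rc_24_7 lc_g_rc_24_9 lc_g_rc_21_2 lc_g_rc_27_6 lc_g_Cert_tree lc_g_rc_26_3 lc_g_rc_21_3 lc_g_Cert_tree lc_g_rc_26_0 lc_g_rc_25_3 lc_g_Cert_tree lc_g_rc_24_3 lc_g_rc_26_6 lc_g_rc_23_9 lc_g_rc_26_6 lc_g_rc_21_3 lc_g_rc_21_2 lc_g_rc_23_7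 lc_g_rc_21_2 lc_g_rc_23_7 lc_g_rc_21_3 lc_g_Cert_tree lc_g_rc_21_3 lc_g_Cert_tree lc_g_rc_24_7) (@D3.rec (fun _ => (Cert rels S Gen.g)) lc_g_rc_23_1 lc_g_rc_21_2 lc_g_rc_21_3 lc_g_rc_26_0 lc_g_rc_21_2 lc_g_rc_23_7 lc_g_rc_27_6 lc_g_rc_21_3 lc_g_Cert_tree lc_g_rc_21_2 lc_g_rc_21_2 lc_g_rc_27_6 lc_g_rc_27_3 lc_g_Cert_tree lc_g_rc_24_3 lc_g_rc_26_6 lc_g_rc_23_7 lc_g_rc_26_0 lc_g_rc_26_0 lc_g_rc_27_6 lc_g_rc_21_3 lc_g_rc_21_3 lc_g_rc_24_3 lc_g_Cert_tree lc_g_rc_23_1 lc_g_rc_24_1 lc_g_rc_21_2 lc_g_rc_21_2 lc_g_rc_27_6 lc_g_rc_23_1 lc_g_rc_24_7 lc_g_rc_27_6 lc_g_rc_23_1 lc_g_rc_24_1 lc_g_rc_27_6 lc_g_rc_21_3 lc_g_Cert_tree lc_g_rc_23_7 lc_g_rc_27_6 lc_g_rc_21_2 lc_g_rc_27_6 lc_g_rc_21_2 lc_g_rc_21_2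 lc_g_rc_21_2 lc_g_rc_21_3 lc_g_rc_21_3 lc_g_Cert_tree lc_g_rc_21_2 lc_g_rc_27_9 lc_g_rc_24_3 lc_g_rc_26_6 lc_g_rc_23_9 lc_g_rc_23_3 lc_g_Cert_tree lc_g_rc_23_7 lc_g_rc_23_3 lc_g_rc_21_3 lc_g_Cert_tree lc_g_rc_21_3 lc_g_Cert_tree lc_g_rc_21_2 lc_g_rc_21_2) (@D3.rec (fun _ => (Cert rels S Gen.g)) lc_g_rc_27_6 lc_g_rc_26_9 lc_g_rc_21_3 lc_g_rc_25_11 lc_g_rc_26_0 lc_g_rc_21_2 lc_g_rc_23_7 lc_g_rc_27_6 lc_g_rc_26_6 lc_g_rc_21_2 lc_g_rc_27_0 lc_g_rc_21_2 lc_g_rc_26_9 lc_g_rc_27_6 lc_g_rc_21_3 lc_g_rc_25_15 lc_g_rc_26_6 lc_g_rc_26_0 lc_g_rc_24_7 lc_g_rc_26_3 lc_g_rc_21_3 lc_g_rc_21_3 lc_g_rc_27_0 lc_g_rc_21_2 lc_g_rc_23_7 lc_g_rc_27_6 lc_g_rc_23_9 lc_g_rc_21_3 lc_g_rc_21_3 lc_g_rc_21_2 lc_g_rc_26_3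 lc_g_rc_21_3 lc_g_rc_27_6 lc_g_Cert_tree lc_g_rc_27_9 lc_g_rc_26_6 lc_g_Cert_tree lc_g_Cert_tree lc_g_rc_21_3 lc_g_rc_27_6 lc_g_Cert_tree lc_g_rc_26_0 lc_g_rc_21_2 lc_g_rc_27_6 lc_g_rc_25_19 lc_g_rc_21_3 lc_g_rc_21_3 lc_g_rc_21_2 lc_g_rc_21_3 lc_g_rc_26_0 lc_g_rc_26_0 lc_g_rc_27_9 lc_g_rc_21_2 lc_g_Cert_tree lc_g_rc_21_2 lc_g_Cert_tree lc_g_rc_27_0 lc_g_rc_21_2 lc_g_rc_21_2 lc_g_Cert_tree lc_g_rc_21_3 lc_g_rc_23_3) (@D3.rec (fun _ => (Cert rels S Gen.g)) lc_g_rc_21_2 lc_g_rc_21_2 lc_g_rc_23_1 lc_g_rc_27_6 lc_g_Cert_tree lc_g_rc_27_3 lc_g_rc_21_3 lc_g_Cert_tree lc_g_Cert_tree lc_g_rc_21_2 lc_g_rc_21_3 lc_g_rc_27_9 lc_g_rc_26_6 lc_g_Cert_tree lc_g_rc_24_1 lc_g_rc_24_3 lc_g_rc_26_6 lc_g_rc_27_9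 lc_g_rc_26_3 lc_g_rc_24_1 lc_g_Cert_tree lc_g_rc_27_6 lc_g_rc_21_2 lc_g_rc_26_0 lc_g_Cert_tree lc_g_rc_24_3 lc_g_Cert_tree lc_g_rc_21_3 lc_g_rc_26_6 lc_g_rc_24_9 lc_g_rc_26_3 lc_g_rc_24_3 lc_g_rc_27_6 lc_g_rc_21_3 lc_g_rc_25_3 lc_g_rc_24_7 lc_g_rc_26_6 lc_g_rc_24_7 lc_g_rc_21_2 lc_g_rc_21_3 lc_g_Cert_tree lc_g_Cert_tree lc_g_rc_24_7 lc_g_rc_24_3 lc_g_rc_27_6 lc_g_rc_26_3 lc_g_rc_23_7 lc_g_rc_27_3 lc_g_rc_21_2 lc_g_rc_24_3 lc_g_rc_27_6 lc_g_Cert_tree lc_g_rc_26_3 lc_g_rc_27_6 lc_g_rc_21_2 lc_g_rc_23_3 lc_g_rc_24_1 lc_g_rc_25_3 lc_g_rc_21_2 lc_g_rc_26_0 lc_g_rc_26_3 lc_g_rc_27_0) (@D3.rec (fun _ => (Cert rels S Gen.g)) lc_g_rc_23_3 lc_g_Cert_tree lc_g_rc_21_2 lc_g_rc_24_7 lc_g_rc_26_0 lc_g_rc_27_6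 lc_g_rc_26_3 lc_g_Cert_tree lc_g_rc_24_3 lc_g_Cert_tree lc_g_rc_24_7 lc_g_rc_27_9 lc_g_Cert_tree lc_g_rc_24_1 lc_g_rc_24_1 lc_g_rc_26_9 lc_g_rc_26_6 lc_g_rc_27_3 lc_g_rc_21_3 lc_g_rc_21_2 lc_g_rc_21_3 lc_g_Cert_tree lc_g_rc_21_2 lc_g_rc_21_2 lc_g_rc_26_6 lc_g_rc_21_3 lc_g_Cert_tree lc_g_rc_21_2 lc_g_Cert_tree lc_g_rc_24_3 lc_g_rc_26_3 lc_g_rc_27_6 lc_g_rc_23_3 lc_g_rc_23_3 lc_g_rc_23_3 lc_g_rc_25_19 lc_g_Cert_tree lc_g_rc_27_3 lc_g_rc_23_3 lc_g_rc_26_6 lc_g_rc_21_2 lc_g_rc_25_3 lc_g_rc_27_6 lc_g_rc_23_1 lc_g_rc_21_3 lc_g_rc_26_6 lc_g_rc_25_7 lc_g_rc_24_3 lc_g_rc_24_3 lc_g_rc_21_2 lc_g_Cert_tree lc_g_rc_21_2 lc_g_rc_21_2 lc_g_rc_26_6 lc_g_rc_23_3 lc_g_rc_27_3 lc_g_Cert_tree lc_g_Cert_tree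 lc_g_rc_27_6 lc_g_Cert_tree lc_g_rc_21_2 lc_g_rc_26_6) (@D3.rec (fun _ => (Cert rels S Gen.g)) lc_g_rc_24_7 lc_g_rc_26_6 lc_g_rc_23_1 lc_g_rc_27_0 lc_g_Cert_tree lc_g_rc_25_3 lc_g_rc_23_7 lc_g_rc_24_7 lc_g_rc_26_0 lc_g_rc_26_6 lc_g_rc_21_2 lc_g_rc_21_3 lc_g_Cert_tree lc_g_rc_24_9 lc_g_Cert_tree lc_g_rc_23_1 lc_g_rc_24_1 lc_g_rc_27_9 lc_g_rc_27_9 lc_g_rc_23_3 lc_g_rc_24_1 lc_g_rc_26_6 lc_g_rc_23_7 lc_g_rc_24_9 lc_g_Cert_tree lc_g_Cert_tree lc_g_rc_21_2 lc_g_rc_27_0 lc_g_rc_21_3 lc_g_rc_24_1 lc_g_rc_21_3 lc_g_rc_23_7 lc_g_rc_24_9 lc_g_rc_26_9 lc_g_Cert_tree lc_g_rc_26_6 lc_g_rc_21_2 lc_g_rc_21_2 lc_g_rc_21_2 lc_g_rc_26_9 lc_g_rc_23_3 lc_g_rc_26_0 lc_g_rc_21_2 lc_g_rc_21_3 lc_g_Cert_tree lc_g_Cert_tree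 lc_g_rc_21_3 lc_g_Cert_tree lc_g_rc_24_3 lc_g_rc_23_9 lc_g_rc_21_3 lc_g_rc_21_3 lc_g_rc_27_0 lc_g_rc_25_19 lc_g_rc_21_3 lc_g_rc_26_9 lc_g_rc_25_15 lc_g_rc_21_2 lc_g_rc_27_0 lc_g_rc_23_9 lc_g_rc_21_2 lc_g_rc_23_9) (@D3.rec (fun _ => (Cert rels S Gen.g)) lc_g_rc_26_6 lc_g_rc_27_6 lc_g_Cert_tree lc_g_rc_27_3 lc_g_rc_21_2 lc_g_rc_23_3 lc_g_rc_27_0 lc_g_rc_21_3 lc_g_Cert_tree lc_g_rc_27_9 lc_g_rc_21_2 lc_g_rc_23_7 lc_g_rc_21_2 lc_g_rc_23_1 lc_g_rc_27_0 lc_g_rc_26_6 lc_g_rc_26_6 lc_g_Cert_tree lc_g_rc_27_6 lc_g_rc_21_2 lc_g_rc_26_0 lc_g_rc_24_9 lc_g_rc_27_9 lc_g_rc_21_3 lc_g_rc_27_9 lc_g_rc_21_2 lc_g_Cert_tree lc_g_rc_21_2 lc_g_rc_21_2 lc_g_rc_21_3 lc_g_rc_23_1 lc_g_Cert_tree lc_g_Cert_tree lc_g_rc_27_0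 lc_g_rc_24_3 lc_g_rc_26_6 lc_g_rc_24_3 lc_g_rc_24_1 lc_g_rc_26_6 lc_g_rc_23_3 lc_g_Cert_tree lc_g_rc_21_3 lc_g_rc_21_3 lc_g_rc_27_3 lc_g_rc_24_7 lc_g_Cert_tree lc_g_rc_24_7 lc_g_rc_23_3 lc_g_rc_27_9 lc_g_rc_27_6 lc_g_rc_26_3 lc_g_rc_27_6 lc_g_rc_23_1 lc_g_rc_26_0 lc_g_rc_27_3 lc_g_rc_26_3 lc_g_rc_26_3 lc_g_rc_23_9 lc_g_rc_26_6 lc_g_Cert_tree lc_g_rc_24_7 lc_g_rc_24_3) (@D3.rec (fun _ => (Cert rels S Gen.g)) lc_g_rc_23_3 lc_g_rc_21_2 lc_g_rc_26_6 lc_g_rc_24_3 lc_g_Cert_tree lc_g_rc_21_3 lc_g_rc_21_3 lc_g_rc_26_9 lc_g_Cert_tree lc_g_rc_24_7 lc_g_rc_26_6 lc_g_Cert_tree lc_g_rc_26_3 lc_g_Cert_tree lc_g_rc_24_9 lc_g_rc_24_9 lc_g_rc_26_3 lc_g_rc_27_0 lc_g_Cert_tree lc_g_rc_25_19 lc_g_rc_24_3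 lc_g_rc_27_0 lc_g_Cert_tree lc_g_rc_26_0 lc_g_rc_25_19 lc_g_rc_21_2 lc_g_Cert_tree lc_g_rc_21_2 lc_g_rc_23_3 lc_g_rc_23_1 lc_g_Cert_tree lc_g_Cert_tree lc_g_rc_26_0 lc_g_rc_26_6 lc_g_rc_27_0 lc_g_rc_21_3 lc_g_rc_26_3 lc_g_rc_26_6 lc_g_rc_23_1 lc_g_rc_27_6 lc_g_rc_21_3 lc_g_Cert_tree lc_g_rc_21_2 lc_g_rc_21_2 lc_g_rc_27_3 lc_g_Cert_tree lc_g_rc_26_6 lc_g_rc_26_0 lc_g_rc_23_7 lc_g_rc_21_2 lc_g_rc_26_0 lc_g_rc_27_9 lc_g_rc_21_3 lc_g_rc_23_1 lc_g_rc_27_3 lc_g_rc_27_6 lc_g_rc_24_1 lc_g_rc_21_3 lc_g_rc_21_2 lc_g_rc_21_3 lc_g_rc_27_0 lc_g_rc_27_0) (@D3.rec (fun _ => (Cert rels S Gen.g)) lc_g_rc_26_6 lc_g_rc_26_9 lc_g_rc_27_6 lc_g_rc_26_9 lc_g_Cert_tree lc_g_rc_24_7 lc_g_rc_23_7 lc_g_rc_21_3 lc_g_rc_26_9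 lc_g_rc_24_7 lc_g_rc_26_3 lc_g_Cert_tree lc_g_rc_24_3 lc_g_Cert_tree lc_g_rc_21_2 lc_g_rc_26_6 lc_g_rc_21_3 lc_g_rc_27_6 lc_g_rc_26_0 lc_g_rc_21_2 lc_g_rc_21_3 lc_g_rc_27_0 lc_g_rc_26_0 lc_g_rc_23_7 lc_g_rc_27_6 lc_g_rc_24_9 lc_g_rc_26_6 lc_g_Cert_tree lc_g_rc_26_3 lc_g_rc_25_19 lc_g_rc_27_6 lc_g_rc_23_9 lc_g_rc_21_2 lc_g_rc_21_2 lc_g_rc_27_6 lc_g_rc_24_3 lc_g_rc_27_6 lc_g_rc_27_3 lc_g_rc_26_3 lc_g_rc_21_2 lc_g_rc_21_2 lc_g_Cert_tree lc_g_rc_24_7 lc_g_rc_21_3 lc_g_Cert_tree lc_g_rc_24_7 lc_g_rc_21_3 lc_g_rc_27_6 lc_g_rc_27_3 lc_g_rc_27_3 lc_g_rc_27_3 lc_g_Cert_tree lc_g_rc_21_3 lc_g_rc_26_6 lc_g_rc_23_7 lc_g_rc_21_3 lc_g_rc_21_3 lc_g_rc_21_2 lc_g_rc_26_6 lc_g_rc_21_3 lc_g_rc_26_9 lc_g_rc_21_2)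 (@D3.rec (fun _ => (Cert rels S Gen.g)) lc_g_rc_26_3 lc_g_rc_27_6 lc_g_rc_21_3 lc_g_rc_27_6 lc_g_rc_26_0 lc_g_Cert_tree lc_g_rc_21_3 lc_g_rc_21_2 lc_g_rc_26_6 lc_g_rc_27_3 lc_g_rc_24_7 lc_g_rc_21_3 lc_g_Cert_tree lc_g_rc_21_2 lc_g_rc_21_2 lc_g_rc_21_2 lc_g_rc_21_3 lc_g_Cert_tree lc_g_Cert_tree lc_g_rc_26_6 lc_g_rc_21_3 lc_g_Cert_tree lc_g_rc_26_3 lc_g_rc_21_3 lc_g_rc_21_2 lc_g_rc_26_9 lc_g_rc_25_15 lc_g_rc_26_9 lc_g_Cert_tree lc_g_rc_23_3 lc_g_rc_21_3 lc_g_rc_27_0 lc_g_rc_21_3 lc_g_rc_24_3 lc_g_rc_21_3 lc_g_rc_27_3 lc_g_rc_21_3 lc_g_rc_27_6 lc_g_rc_26_0 lc_g_rc_26_3 lc_g_rc_27_9 lc_g_rc_27_3 lc_g_rc_24_1 lc_g_rc_27_0 lc_g_rc_25_15 lc_g_rc_27_3 lc_g_rc_24_3 lc_g_rc_27_6 lc_g_rc_27_3 lc_g_rc_27_0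 lc_g_rc_21_3 lc_g_Cert_tree lc_g_rc_23_3 lc_g_rc_21_3 lc_g_rc_24_3 lc_g_Cert_tree lc_g_rc_26_9 lc_g_rc_26_0 lc_g_rc_27_6 lc_g_rc_21_3 lc_g_rc_27_3 lc_g_rc_21_3) (@D3.rec (fun _ => (Cert rels S Gen.g)) lc_g_rc_23_7 lc_g_rc_24_3 lc_g_rc_21_2 lc_g_rc_21_3 lc_g_Cert_tree lc_g_rc_21_2 lc_g_rc_27_9 lc_g_rc_21_2 lc_g_rc_21_3 lc_g_rc_23_7 lc_g_rc_21_3 lc_g_rc_21_3 lc_g_Cert_tree lc_g_Cert_tree lc_g_rc_26_0 lc_g_rc_27_0 lc_g_rc_23_3 lc_g_Cert_tree lc_g_rc_24_3 lc_g_rc_21_3 lc_g_rc_21_3 lc_g_rc_23_9 lc_g_rc_21_2 lc_g_rc_26_3 lc_g_rc_26_6 lc_g_rc_24_1 lc_g_rc_23_3 lc_g_rc_23_3 lc_g_rc_26_6 lc_g_rc_27_6 lc_g_rc_26_3 lc_g_rc_26_3 lc_g_rc_21_2 lc_g_Cert_tree lc_g_rc_24_7 lc_g_rc_21_2 lc_g_rc_21_3 lc_g_rc_21_2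 lc_g_rc_21_2 lc_g_rc_23_3 lc_g_rc_21_3 lc_g_rc_24_3 lc_g_rc_27_0 lc_g_rc_26_0 lc_g_rc_27_0 lc_g_Cert_tree lc_g_rc_27_3 lc_g_rc_21_2 lc_g_rc_24_9 lc_g_rc_26_6 lc_g_rc_21_3 lc_g_rc_26_3 lc_g_rc_21_2 lc_g_rc_24_7 lc_g_rc_26_9 lc_g_rc_27_3 lc_g_rc_26_6 lc_g_rc_23_3 lc_g_rc_27_0 lc_g_rc_27_3 lc_g_rc_21_3 lc_g_rc_27_3) (@D3.rec (fun _ => (Cert rels S Gen.g)) lc_g_rc_21_2 lc_g_Cert_tree lc_g_rc_24_1 lc_g_rc_27_3 lc_g_Cert_tree lc_g_rc_25_3 lc_g_rc_21_3 lc_g_rc_21_2 lc_g_rc_27_6 lc_g_rc_24_3 lc_g_rc_26_0 lc_g_Cert_tree lc_g_rc_23_1 lc_g_rc_21_3 lc_g_rc_27_9 lc_g_rc_21_2 lc_g_rc_21_2 lc_g_rc_24_3 lc_g_rc_21_2 lc_g_rc_26_6 lc_g_rc_23_7 lc_g_rc_21_3 lc_g_rc_23_7 lc_g_rc_21_3 lc_g_rc_23_1 lc_g_rc_27_6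 lc_g_rc_24_1 lc_g_Cert_tree lc_g_rc_27_0 lc_g_rc_26_6 lc_g_rc_21_3 lc_g_Cert_tree lc_g_Cert_tree lc_g_rc_21_2 lc_g_rc_24_1 lc_g_Cert_tree lc_g_Cert_tree lc_g_rc_23_3 lc_g_rc_23_3 lc_g_rc_23_1 lc_g_rc_27_0 lc_g_rc_27_0 lc_g_rc_23_3 lc_g_rc_23_1 lc_g_rc_26_9 lc_g_Cert_tree lc_g_rc_23_7 lc_g_rc_23_1 lc_g_rc_26_9 lc_g_rc_24_1 lc_g_rc_23_3 lc_g_rc_21_3 lc_g_Cert_tree lc_g_Cert_tree lc_g_rc_21_2 lc_g_rc_21_3 lc_g_rc_26_0 lc_g_rc_24_7 lc_g_rc_27_6 lc_g_rc_26_6 lc_g_Cert_tree lc_g_rc_24_3) (@D3.rec (fun _ => (Cert rels S Gen.g)) lc_g_rc_23_9 lc_g_rc_23_1 lc_g_rc_27_0 lc_g_rc_23_3 lc_g_rc_25_15 lc_g_Cert_tree lc_g_Cert_tree lc_g_rc_26_6 lc_g_rc_21_2 lc_g_rc_21_3 lc_g_rc_21_3 lc_g_Cert_tree lc_g_rc_27_0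 lc_g_rc_23_7 lc_g_rc_24_7 lc_g_Cert_tree lc_g_rc_24_7 lc_g_rc_21_3 lc_g_rc_27_0 lc_g_rc_27_6 lc_g_rc_27_0 lc_g_rc_23_7 lc_g_rc_24_1 lc_g_rc_27_6 lc_g_Cert_tree lc_g_rc_26_6 lc_g_Cert_tree lc_g_rc_23_3 lc_g_rc_23_3 lc_g_rc_21_3 lc_g_rc_24_3 lc_g_rc_21_2 lc_g_rc_26_6 lc_g_rc_21_2 lc_g_rc_27_6 lc_g_Cert_tree lc_g_rc_27_6 lc_g_rc_21_3 lc_g_rc_21_2 lc_g_rc_21_2 lc_g_rc_24_9 lc_g_rc_25_7 lc_g_rc_26_0 lc_g_rc_23_7 lc_g_rc_21_3 lc_g_rc_21_2 lc_g_rc_21_3 lc_g_rc_27_6 lc_g_rc_26_0 lc_g_rc_23_3 lc_g_Cert_tree lc_g_rc_27_9 lc_g_rc_21_2 lc_g_rc_21_2 lc_g_rc_27_3 lc_g_rc_26_0 lc_g_rc_21_2 lc_g_rc_21_3 lc_g_rc_23_7 lc_g_rc_26_9 lc_g_rc_24_1 lc_g_rc_21_3) (@D3.rec (fun _ => (Cert rels S Gen.g)) lc_g_Cert_tree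 lc_g_rc_27_6 lc_g_rc_21_2 lc_g_rc_21_3 lc_g_rc_21_2 lc_g_rc_26_6 lc_g_rc_21_2 lc_g_rc_21_3 lc_g_rc_26_0 lc_g_rc_24_7 lc_g_rc_24_3 lc_g_rc_27_0 lc_g_rc_26_6 lc_g_rc_21_3 lc_g_rc_24_9 lc_g_Cert_tree lc_g_rc_24_7 lc_g_Cert_tree lc_g_rc_21_2 lc_g_rc_21_3 lc_g_rc_23_1 lc_g_rc_27_0 lc_g_rc_23_7 lc_g_rc_21_2 lc_g_rc_23_9 lc_g_Cert_tree lc_g_rc_23_7 lc_g_rc_27_9 lc_g_rc_21_2 lc_g_rc_23_7 lc_g_Cert_tree lc_g_rc_26_9 lc_g_rc_27_3 lc_g_rc_27_9 lc_g_rc_21_3 lc_g_rc_21_3 lc_g_rc_21_2 lc_g_rc_26_9 lc_g_rc_21_3 lc_g_rc_21_2 lc_g_rc_27_3 lc_g_rc_23_1 lc_g_rc_24_7 lc_g_rc_27_6 lc_g_rc_26_0 lc_g_rc_24_1 lc_g_rc_24_1 lc_g_rc_24_9 lc_g_rc_21_2 lc_g_rc_23_7 lc_g_Cert_tree lc_g_rc_21_3 lc_g_Cert_tree lc_g_rc_27_6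 lc_g_rc_21_2 lc_g_rc_23_3 lc_g_Cert_tree lc_g_rc_24_7 lc_g_rc_21_2 lc_g_rc_27_6 lc_g_rc_23_3 lc_g_rc_23_9) (@D3.rec (fun _ => (Cert rels S Gen.g)) lc_g_rc_21_3 lc_g_Cert_tree lc_g_rc_21_3 lc_g_rc_27_6 lc_g_Cert_tree lc_g_rc_23_7 lc_g_rc_24_1 lc_g_rc_21_2 lc_g_rc_21_3 lc_g_Cert_tree lc_g_rc_26_6 lc_g_rc_21_3 lc_g_Cert_tree lc_g_rc_24_1 lc_g_rc_21_3 lc_g_rc_25_7 lc_g_rc_21_3 lc_g_rc_21_3 lc_g_rc_21_2 lc_g_rc_27_0 lc_g_rc_21_3 lc_g_rc_21_2 lc_g_rc_27_0 lc_g_rc_27_3 lc_g_rc_23_3 lc_g_rc_24_1 lc_g_rc_27_0 lc_g_rc_21_3 lc_g_Cert_tree lc_g_Cert_tree lc_g_rc_21_2 lc_g_Cert_tree lc_g_rc_21_2 lc_g_rc_23_3 lc_g_rc_24_7 lc_g_rc_27_6 lc_g_rc_26_0 lc_g_rc_23_9 lc_g_rc_21_2 lc_g_rc_27_0 lc_g_Cert_tree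 lc_g_rc_26_3 lc_g_rc_26_0 lc_g_rc_25_19 lc_g_rc_26_6 lc_g_rc_27_0 lc_g_rc_27_6 lc_g_rc_26_0 lc_g_rc_24_3 lc_g_rc_27_9 lc_g_rc_23_1 lc_g_rc_27_6 lc_g_rc_24_9 lc_g_rc_24_7 lc_g_rc_23_7 lc_g_Cert_tree lc_g_rc_26_6 lc_g_rc_23_7 lc_g_rc_23_3 lc_g_rc_27_6 lc_g_rc_27_3 lc_g_rc_26_0) (@D3.rec (fun _ => (Cert rels S Gen.g)) lc_g_rc_24_3 lc_g_rc_23_9 lc_g_rc_21_3 lc_g_Cert_tree lc_g_rc_23_7 lc_g_rc_21_3 lc_g_rc_27_9 lc_g_rc_26_3 lc_g_rc_27_9 lc_g_rc_21_2 lc_g_rc_24_1 lc_g_rc_21_2 lc_g_rc_26_9 lc_g_rc_21_3 lc_g_Cert_tree lc_g_rc_21_2 lc_g_rc_26_0 lc_g_rc_24_3 lc_g_rc_21_2 lc_g_rc_27_9 lc_g_rc_21_3 lc_g_rc_27_0 lc_g_rc_21_3 lc_g_rc_25_19 lc_g_rc_24_3 lc_g_rc_21_3 lc_g_rc_27_6 lc_g_Cert_tree lc_g_rc_23_7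 lc_g_rc_24_7 lc_g_rc_27_9 lc_g_Cert_tree lc_g_rc_26_3 lc_g_Cert_tree lc_g_rc_27_3 lc_g_rc_21_2 lc_g_rc_26_9 lc_g_rc_27_6 lc_g_rc_27_9 lc_g_rc_23_7 lc_g_rc_21_3 lc_g_Cert_tree lc_g_rc_21_2 lc_g_rc_21_3 lc_g_rc_25_3 lc_g_Cert_tree lc_g_rc_21_2 lc_g_rc_21_2 lc_g_rc_21_2 lc_g_rc_27_0 lc_g_rc_27_3 lc_g_rc_24_7 lc_g_rc_24_7 lc_g_rc_26_6 lc_g_rc_24_3 lc_g_rc_26_9 lc_g_rc_23_7 lc_g_rc_27_3 lc_g_rc_21_3 lc_g_rc_21_3 lc_g_rc_27_6 lc_g_rc_23_3) (@D3.rec (fun _ => (Cert rels S Gen.g)) lc_g_rc_27_3 lc_g_rc_21_2 lc_g_rc_26_3 lc_g_rc_24_9 lc_g_rc_21_3 lc_g_Cert_tree lc_g_rc_21_2 lc_g_rc_27_6 lc_g_rc_21_2 lc_g_rc_26_9 lc_g_rc_21_3 lc_g_rc_27_9 lc_g_rc_23_1 lc_g_rc_27_6 lc_g_rc_24_9 lc_g_rc_24_1 lc_g_Cert_tree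 lc_g_rc_24_9 lc_g_rc_26_9 lc_g_rc_24_3 lc_g_Cert_tree lc_g_rc_26_3 lc_g_rc_21_3 lc_g_Cert_tree lc_g_Cert_tree lc_g_rc_26_6 lc_g_rc_26_6 lc_g_rc_23_3 lc_g_rc_21_2 lc_g_rc_21_2 lc_g_rc_24_9 lc_g_rc_26_0 lc_g_rc_24_3 lc_g_rc_21_2 lc_g_rc_27_9 lc_g_rc_23_9 lc_g_rc_23_7 lc_g_rc_27_0 lc_g_rc_21_2 lc_g_rc_27_3 lc_g_rc_26_3 lc_g_Cert_tree lc_g_Cert_tree lc_g_rc_27_0 lc_g_rc_21_2 lc_g_rc_26_6 lc_g_rc_21_3 lc_g_rc_21_3 lc_g_Cert_tree lc_g_rc_21_2 lc_g_rc_26_3 lc_g_rc_23_3 lc_g_rc_21_2 lc_g_rc_21_2 lc_g_rc_27_0 lc_g_Cert_tree lc_g_rc_24_7 lc_g_rc_27_3 lc_g_rc_27_0 lc_g_Cert_tree lc_g_rc_27_6 lc_g_rc_26_0) (@D3.rec (fun _ => (Cert rels S Gen.g)) lc_g_rc_27_3 lc_g_rc_26_6 lc_g_rc_27_3 lc_g_rc_24_9 lc_g_rc_21_3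 lc_g_rc_27_9 lc_g_rc_27_3 lc_g_rc_27_3 lc_g_Cert_tree lc_g_rc_27_3 lc_g_rc_23_3 lc_g_rc_27_3 lc_g_rc_23_9 lc_g_rc_21_3 lc_g_rc_21_3 lc_g_Cert_tree lc_g_Cert_tree lc_g_rc_23_3 lc_g_rc_27_9 lc_g_rc_24_1 lc_g_rc_23_9 lc_g_rc_26_3 lc_g_rc_21_2 lc_g_rc_27_6 lc_g_Cert_tree lc_g_rc_26_3 lc_g_rc_24_3 lc_g_rc_23_7 lc_g_rc_24_3 lc_g_rc_21_3 lc_g_Cert_tree lc_g_rc_27_0 lc_g_rc_21_3 lc_g_Cert_tree lc_g_rc_21_2 lc_g_rc_24_3 lc_g_Cert_tree lc_g_rc_27_6 lc_g_rc_26_0 lc_g_rc_21_2 lc_g_rc_26_3 lc_g_rc_23_7 lc_g_rc_21_2 lc_g_rc_21_3 lc_g_rc_24_7 lc_g_rc_27_3 lc_g_rc_21_2 lc_g_rc_26_3 lc_g_rc_23_1 lc_g_rc_21_3 lc_g_Cert_tree lc_g_rc_21_3 lc_g_Cert_tree lc_g_rc_27_3 lc_g_rc_21_2 lc_g_rc_26_6 lc_g_rc_27_3 lc_g_rc_26_0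 lc_g_rc_23_7 lc_g_rc_27_0 lc_g_rc_24_9 lc_g_rc_26_6) (@D3.rec (fun _ => (Cert rels S Gen.g)) lc_g_Cert_tree lc_g_rc_26_6 lc_g_rc_26_0 lc_g_rc_21_3 lc_g_rc_21_2 lc_g_rc_27_6 lc_g_rc_25_7 lc_g_rc_21_3 lc_g_Cert_tree lc_g_rc_21_3 lc_g_Cert_tree lc_g_rc_21_2 lc_g_rc_26_9 lc_g_rc_26_9 lc_g_rc_24_3 lc_g_rc_25_11 lc_g_rc_27_0 lc_g_rc_24_3 lc_g_rc_23_1 lc_g_rc_26_3 lc_g_rc_23_9 lc_g_rc_21_3 lc_g_rc_23_7 lc_g_rc_27_0 lc_g_Cert_tree lc_g_rc_21_2 lc_g_rc_26_6 lc_g_rc_26_6 lc_g_rc_23_9 lc_g_rc_27_0 lc_g_rc_24_7 lc_g_rc_21_2 lc_g_rc_27_3 lc_g_Cert_tree lc_g_rc_27_6 lc_g_rc_23_9 lc_g_Cert_tree lc_g_rc_26_3 lc_g_rc_27_3 lc_g_rc_24_1 lc_g_Cert_tree lc_g_rc_21_2 lc_g_rc_23_9 lc_g_Cert_tree lc_g_rc_21_2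 lc_g_rc_27_3 lc_g_rc_25_11 lc_g_rc_24_7 lc_g_rc_21_2 lc_g_rc_21_2 lc_g_Cert_tree lc_g_rc_21_3 lc_g_Cert_tree lc_g_rc_27_0 lc_g_Cert_tree lc_g_rc_23_3 lc_g_rc_23_3 lc_g_Cert_tree lc_g_rc_21_3 lc_g_rc_21_3 lc_g_rc_21_3 lc_g_Cert_tree) (@D3.rec (fun _ => (Cert rels S Gen.g)) lc_g_Cert_tree lc_g_rc_27_6 lc_g_rc_27_3 lc_g_rc_21_2 lc_g_rc_21_3 lc_g_Cert_tree lc_g_rc_24_3 lc_g_rc_27_3 lc_g_rc_21_3 lc_g_rc_27_6 lc_g_rc_27_6 lc_g_rc_27_3 lc_g_rc_26_6 lc_g_rc_26_6 lc_g_rc_24_3 lc_g_rc_21_3 lc_g_rc_27_6 lc_g_Cert_tree lc_g_rc_21_2 lc_g_rc_21_2 lc_g_Cert_tree lc_g_rc_26_6 lc_g_rc_21_2 lc_g_rc_27_6 lc_g_rc_21_3 lc_g_rc_21_2 lc_g_Cert_tree lc_g_rc_26_3 lc_g_rc_21_3 lc_g_rc_26_3 lc_g_rc_24_3 lc_g_Cert_tree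 lc_g_rc_21_3 lc_g_Cert_tree lc_g_Cert_tree lc_g_rc_21_3 lc_g_rc_23_9 lc_g_Cert_tree lc_g_rc_21_3 lc_g_rc_25_19 lc_g_Cert_tree lc_g_rc_21_3 lc_g_rc_24_3 lc_g_rc_27_9 lc_g_rc_26_6 lc_g_rc_27_0 lc_g_rc_26_6 lc_g_rc_21_2 lc_g_rc_27_3 lc_g_rc_21_3 lc_g_Cert_tree lc_g_rc_27_0 lc_g_rc_21_2 lc_g_rc_25_19 lc_g_rc_27_9 lc_g_rc_26_9 lc_g_rc_26_0 lc_g_rc_21_2 lc_g_rc_21_3 lc_g_Cert_tree lc_g_rc_21_3 lc_g_Cert_tree) (@D3.rec (fun _ => (Cert rels S Gen.g)) lc_g_rc_21_2 lc_g_rc_23_3 lc_g_rc_27_0 lc_g_rc_26_0 lc_g_rc_21_3 lc_g_Cert_tree lc_g_rc_21_2 lc_g_rc_24_9 lc_g_rc_21_2 lc_g_rc_21_3 lc_g_Cert_tree lc_g_rc_21_2 lc_g_rc_26_0 lc_g_rc_26_9 lc_g_rc_26_0 lc_g_rc_21_3 lc_g_rc_27_6 lc_g_rc_21_3 lc_g_rc_21_2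 lc_g_rc_26_6 lc_g_rc_27_0 lc_g_rc_21_3 lc_g_Cert_tree lc_g_rc_26_9 lc_g_rc_27_0 lc_g_rc_27_6 lc_g_rc_27_0 lc_g_rc_27_0 lc_g_rc_21_3 lc_g_rc_27_6 lc_g_Cert_tree lc_g_rc_25_19 lc_g_rc_26_6 lc_g_Cert_tree lc_g_Cert_tree lc_g_rc_26_6 lc_g_rc_24_9 lc_g_Cert_tree lc_g_rc_23_3 lc_g_rc_23_3 lc_g_rc_27_0 lc_g_rc_26_0 lc_g_rc_27_0 lc_g_rc_27_6 lc_g_Cert_tree lc_g_rc_21_3 lc_g_rc_24_3 lc_g_rc_27_6 lc_g_Cert_tree lc_g_rc_26_9 lc_g_rc_21_2 lc_g_rc_27_6 lc_g_rc_21_2 lc_g_rc_27_6 lc_g_Cert_tree lc_g_rc_23_7 lc_g_rc_21_2 lc_g_rc_27_6 lc_g_rc_26_6 lc_g_rc_21_3 lc_g_rc_27_6 lc_g_rc_24_3) (@D3.rec (fun _ => (Cert rels S Gen.g)) lc_g_rc_27_0 lc_g_Cert_tree lc_g_rc_27_3 lc_g_rc_26_0 lc_g_Cert_tree lc_g_rc_21_2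 lc_g_rc_21_2 lc_g_rc_27_6 lc_g_rc_21_3 lc_g_Cert_tree lc_g_Cert_tree lc_g_rc_24_7 lc_g_rc_21_2 lc_g_rc_21_3 lc_g_Cert_tree lc_g_rc_21_3 lc_g_Cert_tree lc_g_Cert_tree lc_g_rc_21_2 lc_g_rc_26_0 lc_g_rc_21_3 lc_g_rc_23_9 lc_g_rc_27_9 lc_g_rc_27_0 lc_g_rc_24_7 lc_g_rc_27_6 lc_g_Cert_tree lc_g_rc_27_0 lc_g_rc_23_1 lc_g_rc_24_1 lc_g_rc_23_7 lc_g_rc_27_9 lc_g_rc_21_3 lc_g_Cert_tree lc_g_rc_26_3 lc_g_rc_21_3 lc_g_Cert_tree lc_g_rc_27_6 lc_g_rc_21_2 lc_g_rc_26_3 lc_g_rc_24_3 lc_g_rc_21_2 lc_g_rc_26_0 lc_g_rc_21_3 lc_g_rc_21_2 lc_g_rc_21_2 lc_g_Cert_tree lc_g_rc_27_3 lc_g_Cert_tree lc_g_rc_21_3 lc_g_rc_23_7 lc_g_rc_26_6 lc_g_rc_23_3 lc_g_rc_24_3 lc_g_rc_26_0 lc_g_rc_21_2 lc_g_rc_26_9 lc_g_rc_21_3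 lc_g_Cert_tree lc_g_rc_26_6 lc_g_rc_21_3 lc_g_rc_27_3) (@D3.rec (fun _ => (Cert rels S Gen.g)) lc_g_rc_24_3 lc_g_rc_21_2 lc_g_rc_27_3 lc_g_rc_26_3 lc_g_rc_26_9 lc_g_Cert_tree lc_g_rc_21_3 lc_g_rc_21_3 lc_g_Cert_tree lc_g_rc_27_6 lc_g_rc_26_0 lc_g_rc_23_1 lc_g_rc_23_9 lc_g_rc_21_3 lc_g_rc_27_3 lc_g_rc_21_2 lc_g_rc_26_6 lc_g_rc_26_0 lc_g_rc_26_3 lc_g_Cert_tree lc_g_rc_23_3 lc_g_rc_24_9 lc_g_rc_21_3 lc_g_rc_21_2 lc_g_rc_25_3 lc_g_rc_21_2 lc_g_rc_21_2 lc_g_rc_25_3 lc_g_rc_21_2 lc_g_rc_27_0 lc_g_rc_24_3 lc_g_rc_27_9 lc_g_rc_26_3 lc_g_rc_26_3 lc_g_rc_26_0 lc_g_Cert_tree lc_g_Cert_tree lc_g_rc_24_7 lc_g_rc_24_3 lc_g_rc_27_0 lc_g_rc_21_2 lc_g_rc_23_1 lc_g_rc_27_0 lc_g_rc_24_3 lc_g_rc_21_2 lc_g_rc_23_3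 lc_g_rc_21_3 lc_g_rc_27_3 lc_g_Cert_tree lc_g_rc_21_3 lc_g_rc_21_2 lc_g_rc_25_15 lc_g_rc_21_2 lc_g_rc_27_3 lc_g_rc_27_3 lc_g_rc_24_3 lc_g_rc_23_1 lc_g_rc_26_6 lc_g_rc_26_6 lc_g_rc_24_1 lc_g_Cert_tree lc_g_Cert_tree) (@D3.rec (fun _ => (Cert rels S Gen.g)) lc_g_rc_26_6 lc_g_rc_24_9 lc_g_rc_24_7 lc_g_rc_27_6 lc_g_rc_21_2 lc_g_rc_21_2 lc_g_rc_24_3 lc_g_rc_25_7 lc_g_rc_27_6 lc_g_rc_23_3 lc_g_rc_27_6 lc_g_rc_27_3 lc_g_Cert_tree lc_g_rc_23_3 lc_g_rc_21_3 lc_g_Cert_tree lc_g_Cert_tree lc_g_rc_21_2 lc_g_rc_26_6 lc_g_rc_21_3 lc_g_Cert_tree lc_g_rc_24_1 lc_g_rc_27_6 lc_g_rc_21_2 lc_g_rc_27_3 lc_g_rc_26_9 lc_g_Cert_tree lc_g_rc_25_7 lc_g_rc_21_2 lc_g_Cert_tree lc_g_Cert_tree lc_g_rc_24_3 lc_g_rc_26_6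 lc_g_rc_23_1 lc_g_rc_21_2 lc_g_rc_21_3 lc_g_rc_26_0 lc_g_rc_23_7 lc_g_rc_21_3 lc_g_Cert_tree lc_g_rc_23_7 lc_g_rc_21_2 lc_g_rc_24_7 lc_g_rc_27_6 lc_g_rc_27_0 lc_g_Cert_tree lc_g_rc_21_3 lc_g_rc_21_2 lc_g_rc_21_3 lc_g_rc_26_6 lc_g_rc_27_0 lc_g_Cert_tree lc_g_rc_27_0 lc_g_rc_21_2 lc_g_rc_21_3 lc_g_Cert_tree lc_g_rc_21_2 lc_g_rc_24_3 lc_g_rc_21_2 lc_g_rc_23_3 lc_g_Cert_tree lc_g_rc_25_19) (@D3.rec (fun _ => (Cert rels S Gen.g)) lc_g_rc_26_6 lc_g_rc_25_19 lc_g_rc_23_9 lc_g_rc_21_3 lc_g_rc_21_3 lc_g_rc_24_7 lc_g_rc_24_9 lc_g_rc_26_3 lc_g_rc_21_3 lc_g_rc_21_3 lc_g_rc_24_3 lc_g_rc_21_3 lc_g_rc_23_3 lc_g_rc_24_1 lc_g_Cert_tree lc_g_Cert_tree lc_g_rc_24_1 lc_g_rc_26_6 lc_g_rc_27_9 lc_g_rc_21_2 lc_g_rc_23_3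 lc_g_rc_23_3 lc_g_rc_27_3 lc_g_rc_25_19 lc_g_rc_26_6 lc_g_Cert_tree lc_g_rc_24_1 lc_g_rc_21_2 lc_g_rc_21_2 lc_g_rc_24_3 lc_g_rc_24_7 lc_g_rc_27_6 lc_g_rc_26_0 lc_g_rc_21_3 lc_g_Cert_tree lc_g_rc_27_0 lc_g_rc_21_2 lc_g_rc_23_7 lc_g_rc_27_6 lc_g_rc_24_7 lc_g_rc_21_2 lc_g_rc_23_7 lc_g_rc_27_6 lc_g_rc_24_1 lc_g_rc_27_6 lc_g_rc_21_2 lc_g_rc_21_2 lc_g_rc_21_3 lc_g_rc_21_3 lc_g_rc_27_6 lc_g_rc_23_3 lc_g_Cert_tree lc_g_rc_21_2 lc_g_rc_21_2 lc_g_rc_21_2 lc_g_rc_24_3 lc_g_rc_26_3 lc_g_rc_21_3 lc_g_Cert_tree lc_g_rc_24_1 lc_g_rc_26_3 lc_g_rc_21_3) (@D3.rec (fun _ => (Cert rels S Gen.g)) lc_g_rc_23_7 lc_g_rc_21_3 lc_g_Cert_tree lc_g_rc_23_9 lc_g_rc_27_0 lc_g_rc_26_0 lc_g_rc_23_1 lc_g_rc_21_3 lc_g_rc_21_3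 lc_g_rc_21_3 lc_g_rc_23_9 lc_g_rc_21_3 lc_g_Cert_tree lc_g_rc_21_2 lc_g_rc_27_3 lc_g_rc_21_3 lc_g_Cert_tree lc_g_rc_21_2 lc_g_rc_21_3 lc_g_rc_26_6 lc_g_rc_27_6 lc_g_rc_26_3 lc_g_rc_21_3 lc_g_Cert_tree lc_g_rc_24_9 lc_g_rc_27_3 lc_g_rc_21_3 lc_g_rc_26_3 lc_g_rc_27_6 lc_g_rc_26_0 lc_g_rc_24_1 lc_g_rc_21_3 lc_g_Cert_tree lc_g_rc_26_6 lc_g_rc_24_7 lc_g_rc_26_3 lc_g_rc_26_6 lc_g_rc_27_6 lc_g_rc_21_3 lc_g_rc_27_6 lc_g_rc_21_2 lc_g_rc_21_3 lc_g_rc_27_6 lc_g_rc_21_2 lc_g_rc_27_6 lc_g_rc_21_2 lc_g_rc_21_3 lc_g_Cert_tree lc_g_rc_27_3 lc_g_rc_26_6 lc_g_rc_27_0 lc_g_rc_21_2 lc_g_rc_21_3 lc_g_rc_27_6 lc_g_rc_21_2 lc_g_rc_24_9 lc_g_rc_26_6 lc_g_rc_23_3 lc_g_rc_21_2 lc_g_rc_21_2 lc_g_rc_26_6 lc_g_Cert_tree)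 (@D3.rec (fun _ => (Cert rels S Gen.g)) lc_g_rc_26_3 lc_g_rc_26_3 lc_g_rc_26_0 lc_g_rc_27_6 lc_g_rc_21_2 lc_g_rc_24_3 lc_g_rc_27_0 lc_g_rc_21_2 lc_g_rc_27_3 lc_g_rc_27_6 lc_g_rc_27_3 lc_g_rc_21_3 lc_g_Cert_tree lc_g_rc_26_6 lc_g_rc_26_6 lc_g_rc_27_9 lc_g_rc_21_2 lc_g_rc_24_1 lc_g_rc_23_7 lc_g_rc_21_2 lc_g_rc_21_3 lc_g_Cert_tree lc_g_rc_25_19 lc_g_rc_21_2 lc_g_rc_21_3 lc_g_Cert_tree lc_g_rc_27_6 lc_g_rc_23_3 lc_g_rc_21_2 lc_g_rc_21_3 lc_g_rc_21_3 lc_g_Cert_tree lc_g_rc_21_2 lc_g_rc_21_2 lc_g_rc_26_6 lc_g_rc_24_9 lc_g_rc_27_6 lc_g_rc_21_2 lc_g_rc_21_2 lc_g_rc_25_15 lc_g_rc_23_1 lc_g_rc_21_2 lc_g_rc_21_3 lc_g_rc_27_6 lc_g_rc_24_3 lc_g_Cert_tree lc_g_rc_27_3 lc_g_rc_23_1 lc_g_Cert_tree lc_g_rc_24_3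 lc_g_Cert_tree lc_g_rc_21_3 lc_g_rc_21_2 lc_g_rc_26_6 lc_g_rc_21_2 lc_g_rc_21_3 lc_g_rc_24_1 lc_g_rc_26_6 lc_g_rc_24_9 lc_g_rc_21_2 lc_g_Cert_tree lc_g_rc_21_3) (@D3.rec (fun _ => (Cert rels S Gen.g)) lc_g_Cert_tree lc_g_rc_27_9 lc_g_rc_26_6 lc_g_rc_21_3 lc_g_rc_21_2 lc_g_rc_27_6 lc_g_rc_21_2 lc_g_rc_24_3 lc_g_rc_21_3 lc_g_Cert_tree lc_g_rc_21_2 lc_g_Cert_tree lc_g_rc_21_3 lc_g_Cert_tree lc_g_Cert_tree lc_g_rc_27_6 lc_g_rc_23_1 lc_g_Cert_tree lc_g_rc_26_0 lc_g_rc_21_2 lc_g_rc_24_3 lc_g_Cert_tree lc_g_rc_24_7 lc_g_rc_26_6 lc_g_rc_26_0 lc_g_rc_21_3 lc_g_Cert_tree lc_g_rc_21_3 lc_g_rc_21_2 lc_g_rc_21_3 lc_g_rc_26_3 lc_g_rc_21_2 lc_g_rc_27_3 lc_g_rc_21_2 lc_g_rc_27_6 lc_g_rc_27_3 lc_g_rc_23_1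 lc_g_rc_21_3 lc_g_rc_24_7 lc_g_rc_27_6 lc_g_rc_21_3 lc_g_rc_24_3 lc_g_rc_27_0 lc_g_rc_24_1 lc_g_Cert_tree lc_g_rc_26_3 lc_g_rc_21_3 lc_g_rc_24_3 lc_g_rc_26_6 lc_g_rc_24_1 lc_g_rc_23_3 lc_g_rc_21_2 lc_g_rc_27_0 lc_g_rc_26_3 lc_g_rc_23_1 lc_g_rc_26_0 lc_g_rc_21_3 lc_g_rc_21_3 lc_g_rc_27_3 lc_g_rc_21_2 lc_g_rc_26_3 lc_g_rc_26_3) (@D3.rec (fun _ => (Cert rels S Gen.g)) lc_g_rc_24_3 lc_g_rc_27_9 lc_g_rc_21_3 lc_g_rc_26_6 lc_g_rc_21_2 lc_g_rc_21_3 lc_g_rc_21_2 lc_g_rc_21_3 lc_g_Cert_tree lc_g_rc_21_2 lc_g_rc_26_3 lc_g_rc_26_3 lc_g_rc_26_9 lc_g_rc_24_1 lc_g_rc_23_9 lc_g_rc_27_6 lc_g_rc_21_3 lc_g_Cert_tree lc_g_rc_21_3 lc_g_Cert_tree lc_g_rc_26_6 lc_g_rc_21_3 lc_g_Cert_tree lc_g_rc_21_2 lc_g_rc_24_1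 lc_g_rc_21_2 lc_g_rc_23_9 lc_g_rc_21_2 lc_g_Cert_tree lc_g_rc_21_3 lc_g_rc_27_0 lc_g_rc_26_6 lc_g_rc_21_3 lc_g_Cert_tree lc_g_rc_27_6 lc_g_rc_21_2 lc_g_rc_21_3 lc_g_rc_24_9 lc_g_rc_27_6 lc_g_rc_26_0 lc_g_rc_27_6 lc_g_rc_27_0 lc_g_rc_25_19 lc_g_rc_27_9 lc_g_rc_23_9 lc_g_rc_27_6 lc_g_rc_21_3 lc_g_rc_21_3 lc_g_Cert_tree lc_g_rc_27_6 lc_g_rc_21_2 lc_g_rc_27_3 lc_g_rc_21_2 lc_g_rc_23_1 lc_g_rc_27_6 lc_g_rc_21_3 lc_g_Cert_tree lc_g_rc_24_1 lc_g_rc_21_3 lc_g_rc_24_7 lc_g_rc_26_6 lc_g_rc_21_3) (@D3.rec (fun _ => (Cert rels S Gen.g)) lc_g_Cert_tree lc_g_rc_24_1 lc_g_rc_27_3 lc_g_Cert_tree lc_g_rc_21_2 lc_g_rc_23_7 lc_g_rc_21_3 lc_g_rc_21_2 lc_g_rc_26_6 lc_g_rc_23_1 lc_g_rc_26_6 lc_g_rc_23_3 lc_g_rc_26_0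 lc_g_rc_25_19 lc_g_rc_21_3 lc_g_rc_27_9 lc_g_rc_24_1 lc_g_rc_26_9 lc_g_rc_26_3 lc_g_rc_25_19 lc_g_rc_27_6 lc_g_rc_26_6 lc_g_rc_27_0 lc_g_rc_21_3 lc_g_rc_21_2 lc_g_Cert_tree lc_g_rc_24_9 lc_g_rc_25_3 lc_g_rc_26_9 lc_g_rc_27_0 lc_g_rc_23_3 lc_g_rc_21_2 lc_g_Cert_tree lc_g_rc_27_3 lc_g_rc_26_3 lc_g_rc_21_2 lc_g_rc_26_9 lc_g_rc_21_2 lc_g_rc_27_6 lc_g_rc_21_2 lc_g_rc_23_3 lc_g_rc_21_3 lc_g_Cert_tree lc_g_rc_21_2 lc_g_rc_21_3 lc_g_rc_21_3 lc_g_Cert_tree lc_g_rc_27_3 lc_g_rc_23_1 lc_g_Cert_tree lc_g_rc_26_6 lc_g_rc_26_0 lc_g_rc_23_1 lc_g_rc_24_1 lc_g_rc_24_1 lc_g_Cert_tree lc_g_rc_24_3 lc_g_rc_24_1 lc_g_rc_23_9 lc_g_rc_21_3 lc_g_Cert_tree lc_g_rc_21_2) (@D3.rec (fun _ => (Cert rels S Gen.g)) lc_g_rc_21_2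 lc_g_rc_24_7 lc_g_rc_21_2 lc_g_rc_27_6 lc_g_Cert_tree lc_g_rc_26_9 lc_g_rc_21_3 lc_g_rc_23_1 lc_g_rc_27_3 lc_g_rc_24_1 lc_g_Cert_tree lc_g_rc_21_2 lc_g_Cert_tree lc_g_rc_21_2 lc_g_rc_21_3 lc_g_Cert_tree lc_g_rc_21_3 lc_g_Cert_tree lc_g_rc_23_3 lc_g_rc_21_2 lc_g_Cert_tree lc_g_rc_21_3 lc_g_rc_25_11 lc_g_Cert_tree lc_g_rc_26_6 lc_g_rc_26_6 lc_g_rc_23_1 lc_g_rc_21_3 lc_g_rc_27_0 lc_g_rc_24_1 lc_g_Cert_tree lc_g_rc_21_3 lc_g_rc_21_2 lc_g_Cert_tree lc_g_rc_21_3 lc_g_rc_27_6 lc_g_rc_26_6 lc_g_rc_26_3 lc_g_rc_26_0 lc_g_Cert_tree lc_g_rc_24_3 lc_g_rc_21_2 lc_g_rc_27_6 lc_g_rc_23_1 lc_g_rc_27_0 lc_g_rc_21_3 lc_g_Cert_tree lc_g_rc_26_6 lc_g_rc_26_3 lc_g_rc_23_1 lc_g_Cert_tree lc_g_rc_23_3 lc_g_rc_24_7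 lc_g_rc_21_3 lc_g_rc_21_2 lc_g_rc_21_3 lc_g_Cert_tree lc_g_rc_21_3 lc_g_rc_27_6 lc_g_rc_21_3 lc_g_rc_26_0 lc_g_rc_24_7) (@D3.rec (fun _ => (Cert rels S Gen.g)) lc_g_rc_21_3 lc_g_Cert_tree lc_g_rc_27_6 lc_g_rc_26_6 lc_g_rc_26_6 lc_g_rc_24_1 lc_g_rc_27_6 lc_g_rc_21_3 lc_g_rc_23_7 lc_g_rc_24_7 lc_g_Cert_tree lc_g_rc_21_3 lc_g_rc_24_3 lc_g_rc_23_7 lc_g_rc_26_9 lc_g_rc_24_1 lc_g_rc_23_9 lc_g_rc_21_3 lc_g_rc_27_6 lc_g_rc_21_2 lc_g_rc_21_3 lc_g_rc_26_0 lc_g_rc_23_7 lc_g_Cert_tree lc_g_rc_26_3 lc_g_rc_21_3 lc_g_rc_24_3 lc_g_rc_21_3 lc_g_Cert_tree lc_g_rc_21_3 lc_g_Cert_tree lc_g_rc_23_3 lc_g_Cert_tree lc_g_rc_27_9 lc_g_rc_21_3 lc_g_Cert_tree lc_g_rc_24_7 lc_g_rc_26_6 lc_g_rc_21_3 lc_g_rc_26_0 lc_g_rc_24_7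 lc_g_rc_21_2 lc_g_rc_24_9 lc_g_rc_25_19 lc_g_rc_21_2 lc_g_rc_21_2 lc_g_Cert_tree lc_g_rc_21_2 lc_g_Cert_tree lc_g_rc_21_3 lc_g_Cert_tree lc_g_Cert_tree lc_g_rc_21_2 lc_g_rc_21_3 lc_g_rc_24_7 lc_g_Cert_tree lc_g_rc_27_6 lc_g_rc_21_3 lc_g_rc_21_3 lc_g_Cert_tree lc_g_rc_26_6 lc_g_rc_27_6) (@D3.rec (fun _ => (Cert rels S Gen.g)) lc_g_rc_23_7 lc_g_rc_27_9 lc_g_rc_24_1 lc_g_rc_21_3 lc_g_Cert_tree lc_g_rc_27_6 lc_g_rc_21_2 lc_g_rc_27_6 lc_g_rc_25_19 lc_g_rc_26_9 lc_g_rc_24_1 lc_g_rc_24_1 lc_g_rc_21_3 lc_g_rc_21_3 lc_g_rc_21_2 lc_g_rc_21_3 lc_g_rc_26_6 lc_g_rc_21_2 lc_g_rc_27_6 lc_g_rc_21_3 lc_g_Cert_tree lc_g_rc_27_9 lc_g_rc_24_1 lc_g_rc_26_9 lc_g_rc_21_3 lc_g_rc_21_3 lc_g_Cert_tree lc_g_rc_24_3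 lc_g_rc_21_2 lc_g_rc_21_2 lc_g_rc_21_3 lc_g_Cert_tree lc_g_rc_21_2 lc_g_rc_21_2 lc_g_rc_21_3 lc_g_Cert_tree lc_g_rc_23_9 lc_g_rc_25_19 lc_g_rc_23_7 lc_g_rc_26_6 lc_g_rc_23_3 lc_g_rc_23_9 lc_g_rc_27_3 lc_g_rc_27_9 lc_g_rc_27_9 lc_g_rc_23_9 lc_g_rc_21_3 lc_g_rc_24_9 lc_g_rc_26_3 lc_g_rc_27_3 lc_g_rc_21_3 lc_g_rc_27_0 lc_g_rc_21_3 lc_g_Cert_tree lc_g_rc_23_3 lc_g_rc_27_3 lc_g_rc_24_1 lc_g_rc_24_1 lc_g_rc_21_2 lc_g_rc_25_3 lc_g_rc_26_6 lc_g_rc_21_3)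
def ce_g_26 : D2 → D3 → (Cert rels S Gen.g) := @D2.rec (fun _ => D3 → (Cert rels S Gen.g)) (@D3.rec (fun _ => (Cert rels S Gen.g)) lc_g_Cert_tree lc_g_rc_26_6 lc_g_rc_21_3 lc_g_rc_25_3 lc_g_rc_26_0 lc_g_rc_24_3 lc_g_Cert_tree lc_g_rc_25_3 lc_g_rc_21_3 lc_g_rc_26_6 lc_g_rc_26_0 lc_g_rc_23_3 lc_g_rc_23_3 lc_g_rc_24_3 lc_g_rc_21_3 lc_g_rc_21_2 lc_g_rc_21_2 lc_g_rc_27_9 lc_g_rc_25_7 lc_g_rc_23_3 lc_g_rc_21_2 lc_g_rc_23_3 lc_g_rc_23_1 lc_g_rc_24_3 lc_g_rc_21_3 lc_g_Cert_tree lc_g_rc_26_9 lc_g_rc_21_2 lc_g_rc_24_7 lc_g_rc_21_3 lc_g_rc_21_2 lc_g_rc_26_3 lc_g_rc_23_3 lc_g_rc_23_3 lc_g_rc_27_6 lc_g_rc_27_6 lc_g_rc_27_6 lc_g_rc_24_1 lc_g_Cert_tree lc_g_rc_26_6 lc_g_rc_27_6 lc_g_rc_23_1 lc_g_rc_21_3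 lc_g_rc_21_2 lc_g_rc_27_9 lc_g_rc_24_3 lc_g_rc_27_0 lc_g_rc_25_3 lc_g_rc_24_3 lc_g_rc_25_3 lc_g_rc_24_9 lc_g_rc_24_3 lc_g_rc_25_19 lc_g_Cert_tree lc_g_rc_23_7 lc_g_rc_26_0 lc_g_Cert_tree lc_g_rc_24_3 lc_g_rc_27_6 lc_g_rc_23_9 lc_g_rc_26_9 lc_g_rc_27_3) (@D3.rec (fun _ => (Cert rels S Gen.g)) lc_g_rc_26_6 lc_g_rc_23_9 lc_g_rc_26_3 lc_g_rc_25_3 lc_g_rc_26_3 lc_g_rc_24_3 lc_g_rc_24_3 lc_g_rc_26_3 lc_g_rc_21_3 lc_g_Cert_tree lc_g_rc_21_3 lc_g_Cert_tree lc_g_rc_21_2 lc_g_rc_21_2 lc_g_rc_25_7 lc_g_rc_26_6 lc_g_Cert_tree lc_g_rc_27_3 lc_g_rc_21_3 lc_g_Cert_tree lc_g_rc_24_3 lc_g_rc_27_3 lc_g_Cert_tree lc_g_rc_26_9 lc_g_rc_24_3 lc_g_rc_21_3 lc_g_rc_27_3 lc_g_rc_27_0 lc_g_Cert_tree lc_g_Cert_tree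 lc_g_rc_21_2 lc_g_rc_26_6 lc_g_rc_23_7 lc_g_rc_21_3 lc_g_Cert_tree lc_g_rc_23_3 lc_g_rc_23_3 lc_g_rc_27_0 lc_g_rc_26_6 lc_g_rc_21_3 lc_g_rc_21_2 lc_g_rc_23_7 lc_g_rc_23_9 lc_g_rc_21_2 lc_g_rc_27_6 lc_g_Cert_tree lc_g_rc_27_3 lc_g_rc_24_7 lc_g_rc_23_7 lc_g_rc_27_9 lc_g_rc_21_3 lc_g_Cert_tree lc_g_rc_25_19 lc_g_rc_24_3 lc_g_rc_24_3 lc_g_rc_23_9 lc_g_rc_23_3 lc_g_rc_23_9 lc_g_rc_24_9 lc_g_rc_21_3 lc_g_rc_23_9 lc_g_rc_26_3) (@D3.rec (fun _ => (Cert rels S Gen.g)) lc_g_Cert_tree lc_g_rc_27_3 lc_g_rc_21_2 lc_g_rc_26_6 lc_g_rc_24_7 lc_g_rc_23_1 lc_g_rc_21_2 lc_g_rc_24_1 lc_g_rc_27_3 lc_g_rc_26_6 lc_g_rc_21_2 lc_g_rc_26_3 lc_g_rc_24_1 lc_g_rc_23_9 lc_g_rc_21_2 lc_g_rc_27_6 lc_g_rc_21_2 lc_g_Cert_tree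 lc_g_rc_21_3 lc_g_rc_27_6 lc_g_rc_26_0 lc_g_rc_26_6 lc_g_Cert_tree lc_g_rc_27_6 lc_g_rc_27_3 lc_g_rc_26_3 lc_g_Cert_tree lc_g_rc_27_0 lc_g_rc_21_2 lc_g_rc_21_3 lc_g_rc_26_0 lc_g_rc_27_9 lc_g_rc_27_6 lc_g_rc_24_9 lc_g_Cert_tree lc_g_rc_21_3 lc_g_rc_27_3 lc_g_Cert_tree lc_g_rc_21_2 lc_g_rc_21_2 lc_g_rc_21_3 lc_g_rc_26_3 lc_g_rc_21_2 lc_g_rc_24_3 lc_g_rc_27_0 lc_g_rc_23_1 lc_g_rc_27_3 lc_g_rc_26_3 lc_g_Cert_tree lc_g_rc_24_3 lc_g_rc_27_3 lc_g_rc_26_9 lc_g_rc_21_3 lc_g_Cert_tree lc_g_rc_21_2 lc_g_rc_24_1 lc_g_Cert_tree lc_g_rc_27_3 lc_g_rc_26_0 lc_g_rc_21_2 lc_g_rc_21_2 lc_g_rc_21_3) (@D3.rec (fun _ => (Cert rels S Gen.g)) lc_g_rc_21_2 lc_g_rc_21_2 lc_g_rc_21_2 lc_g_rc_27_0 lc_g_rc_21_2 lc_g_rc_26_9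 lc_g_rc_26_9 lc_g_rc_26_3 lc_g_rc_24_1 lc_g_rc_21_2 lc_g_rc_24_9 lc_g_rc_21_3 lc_g_rc_21_2 lc_g_rc_27_3 lc_g_rc_27_3 lc_g_rc_21_3 lc_g_Cert_tree lc_g_rc_21_2 lc_g_rc_23_1 lc_g_rc_21_3 lc_g_rc_21_2 lc_g_rc_27_9 lc_g_rc_21_3 lc_g_rc_25_19 lc_g_rc_21_2 lc_g_Cert_tree lc_g_Cert_tree lc_g_rc_27_6 lc_g_rc_21_3 lc_g_rc_26_6 lc_g_rc_27_6 lc_g_rc_24_3 lc_g_rc_27_6 lc_g_rc_23_3 lc_g_rc_21_2 lc_g_rc_27_6 lc_g_rc_21_3 lc_g_rc_23_7 lc_g_rc_26_3 lc_g_rc_27_6 lc_g_rc_21_2 lc_g_Cert_tree lc_g_rc_24_1 lc_g_rc_26_6 lc_g_rc_27_0 lc_g_rc_24_9 lc_g_rc_21_2 lc_g_rc_26_6 lc_g_Cert_tree lc_g_rc_27_6 lc_g_rc_26_9 lc_g_rc_27_3 lc_g_rc_21_3 lc_g_rc_24_3 lc_g_rc_24_1 lc_g_Cert_tree lc_g_rc_25_19 lc_g_rc_26_6 lc_g_rc_24_3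 lc_g_rc_21_3 lc_g_rc_21_2 lc_g_rc_21_3) (@D3.rec (fun _ => (Cert rels S Gen.g)) lc_g_rc_23_9 lc_g_rc_24_7 lc_g_rc_21_3 lc_g_rc_24_1 lc_g_rc_21_3 lc_g_rc_23_3 lc_g_rc_27_6 lc_g_rc_23_7 lc_g_rc_26_3 lc_g_rc_23_7 lc_g_Cert_tree lc_g_rc_26_3 lc_g_Cert_tree lc_g_rc_26_3 lc_g_rc_24_3 lc_g_rc_26_3 lc_g_rc_24_3 lc_g_rc_26_9 lc_g_rc_26_6 lc_g_rc_24_3 lc_g_rc_27_0 lc_g_rc_21_3 lc_g_Cert_tree lc_g_rc_21_2 lc_g_rc_26_6 lc_g_Cert_tree lc_g_rc_25_3 lc_g_rc_21_3 lc_g_rc_23_1 lc_g_rc_23_9 lc_g_Cert_tree lc_g_rc_27_3 lc_g_rc_21_3 lc_g_Cert_tree lc_g_rc_27_6 lc_g_rc_21_3 lc_g_rc_23_9 lc_g_Cert_tree lc_g_rc_24_3 lc_g_rc_21_2 lc_g_rc_21_2 lc_g_rc_26_0 lc_g_Cert_tree lc_g_rc_26_0 lc_g_rc_23_7 lc_g_Cert_tree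 lc_g_rc_26_3 lc_g_rc_26_3 lc_g_rc_21_2 lc_g_rc_21_3 lc_g_rc_27_6 lc_g_rc_23_3 lc_g_Cert_tree lc_g_Cert_tree lc_g_rc_27_3 lc_g_rc_21_3 lc_g_rc_21_2 lc_g_rc_26_9 lc_g_Cert_tree lc_g_rc_27_9 lc_g_rc_23_9 lc_g_rc_26_6) (@D3.rec (fun _ => (Cert rels S Gen.g)) lc_g_rc_21_3 lc_g_rc_21_3 lc_g_Cert_tree lc_g_rc_26_3 lc_g_rc_27_6 lc_g_rc_21_3 lc_g_rc_21_2 lc_g_rc_21_3 lc_g_rc_25_7 lc_g_rc_21_2 lc_g_rc_21_2 lc_g_Cert_tree lc_g_rc_24_3 lc_g_rc_26_3 lc_g_rc_24_1 lc_g_rc_21_2 lc_g_rc_21_3 lc_g_rc_26_0 lc_g_rc_27_0 lc_g_rc_27_0 lc_g_Cert_tree lc_g_rc_26_6 lc_g_rc_21_2 lc_g_rc_21_2 lc_g_rc_21_2 lc_g_rc_24_7 lc_g_rc_27_3 lc_g_rc_26_9 lc_g_rc_21_2 lc_g_rc_26_9 lc_g_rc_24_9 lc_g_rc_21_3 lc_g_rc_21_2 lc_g_rc_21_3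 lc_g_rc_27_0 lc_g_rc_21_2 lc_g_rc_21_2 lc_g_rc_26_0 lc_g_rc_27_0 lc_g_rc_24_7 lc_g_rc_23_3 lc_g_rc_21_3 lc_g_Cert_tree lc_g_rc_21_2 lc_g_rc_27_9 lc_g_rc_27_3 lc_g_rc_27_9 lc_g_Cert_tree lc_g_rc_23_7 lc_g_rc_27_6 lc_g_rc_21_3 lc_g_rc_27_3 lc_g_rc_26_3 lc_g_Cert_tree lc_g_rc_26_0 lc_g_rc_26_0 lc_g_rc_21_3 lc_g_rc_21_2 lc_g_rc_24_1 lc_g_rc_27_9 lc_g_Cert_tree lc_g_rc_26_0) (@D3.rec (fun _ => (Cert rels S Gen.g)) lc_g_rc_27_3 lc_g_rc_21_2 lc_g_rc_26_9 lc_g_rc_24_1 lc_g_rc_23_1 lc_g_rc_26_0 lc_g_rc_21_3 lc_g_Cert_tree lc_g_rc_24_3 lc_g_rc_24_1 lc_g_rc_26_0 lc_g_rc_23_7 lc_g_rc_23_1 lc_g_rc_26_6 lc_g_rc_23_3 lc_g_rc_23_9 lc_g_rc_23_7 lc_g_rc_23_7 lc_g_rc_24_7 lc_g_Cert_tree lc_g_rc_27_6 lc_g_Cert_tree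 lc_g_rc_21_2 lc_g_rc_21_2 lc_g_rc_21_3 lc_g_rc_21_2 lc_g_rc_27_3 lc_g_rc_27_9 lc_g_rc_23_1 lc_g_rc_27_6 lc_g_rc_27_0 lc_g_rc_23_3 lc_g_rc_23_3 lc_g_rc_24_3 lc_g_rc_26_3 lc_g_rc_23_7 lc_g_rc_26_6 lc_g_rc_23_7 lc_g_rc_23_9 lc_g_rc_24_3 lc_g_rc_21_3 lc_g_rc_27_9 lc_g_rc_24_3 lc_g_rc_21_3 lc_g_rc_23_7 lc_g_rc_26_0 lc_g_rc_21_2 lc_g_rc_24_7 lc_g_rc_23_3 lc_g_rc_27_3 lc_g_rc_21_3 lc_g_rc_21_2 lc_g_rc_26_0 lc_g_rc_24_7 lc_g_rc_21_2 lc_g_rc_26_9 lc_g_rc_21_3 lc_g_rc_24_9 lc_g_rc_21_3 lc_g_rc_27_6 lc_g_rc_21_3 lc_g_rc_27_6) (@D3.rec (fun _ => (Cert rels S Gen.g)) lc_g_rc_21_3 lc_g_rc_21_3 lc_g_rc_27_6 lc_g_rc_26_3 lc_g_rc_24_7 lc_g_rc_27_9 lc_g_rc_26_6 lc_g_rc_21_2 lc_g_rc_21_3 lc_g_Cert_tree lc_g_rc_21_2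 lc_g_rc_27_3 lc_g_rc_27_6 lc_g_rc_26_6 lc_g_rc_23_3 lc_g_rc_24_7 lc_g_rc_23_3 lc_g_rc_23_9 lc_g_rc_23_1 lc_g_rc_26_0 lc_g_rc_21_3 lc_g_rc_27_3 lc_g_rc_27_6 lc_g_Cert_tree lc_g_rc_27_6 lc_g_Cert_tree lc_g_rc_24_3 lc_g_rc_21_2 lc_g_rc_25_19 lc_g_Cert_tree lc_g_rc_24_3 lc_g_Cert_tree lc_g_rc_21_2 lc_g_Cert_tree lc_g_rc_24_3 lc_g_rc_26_6 lc_g_rc_26_0 lc_g_rc_21_3 lc_g_Cert_tree lc_g_rc_21_3 lc_g_Cert_tree lc_g_rc_26_6 lc_g_rc_21_2 lc_g_rc_26_0 lc_g_rc_21_2 lc_g_rc_27_6 lc_g_rc_21_2 lc_g_Cert_tree lc_g_rc_21_2 lc_g_rc_21_3 lc_g_rc_27_0 lc_g_rc_21_2 lc_g_rc_24_7 lc_g_rc_21_3 lc_g_rc_24_1 lc_g_rc_27_6 lc_g_Cert_tree lc_g_rc_26_9 lc_g_rc_21_3 lc_g_Cert_tree lc_g_rc_21_2 lc_g_rc_26_3) (@D3.rec (fun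 _ => (Cert rels S Gen.g)) lc_g_rc_26_0 lc_g_rc_24_7 lc_g_Cert_tree lc_g_rc_21_3 lc_g_Cert_tree lc_g_rc_21_2 lc_g_Cert_tree lc_g_rc_24_3 lc_g_rc_23_7 lc_g_rc_21_2 lc_g_rc_21_2 lc_g_rc_26_3 lc_g_rc_26_6 lc_g_rc_27_0 lc_g_rc_23_1 lc_g_rc_21_3 lc_g_rc_21_3 lc_g_rc_21_3 lc_g_Cert_tree lc_g_rc_21_3 lc_g_rc_23_3 lc_g_rc_26_3 lc_g_rc_26_0 lc_g_rc_26_9 lc_g_Cert_tree lc_g_rc_21_3 lc_g_Cert_tree lc_g_rc_26_6 lc_g_Cert_tree lc_g_rc_21_3 lc_g_Cert_tree lc_g_rc_21_2 lc_g_rc_27_3 lc_g_rc_25_19 lc_g_rc_26_0 lc_g_rc_21_3 lc_g_Cert_tree lc_g_rc_26_0 lc_g_rc_21_3 lc_g_rc_27_0 lc_g_rc_27_0 lc_g_rc_27_6 lc_g_rc_21_3 lc_g_Cert_tree lc_g_rc_23_3 lc_g_rc_21_2 lc_g_rc_27_3 lc_g_rc_26_9 lc_g_rc_21_2 lc_g_rc_23_3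 lc_g_rc_27_6 lc_g_rc_21_2 lc_g_rc_26_6 lc_g_Cert_tree lc_g_rc_25_3 lc_g_rc_23_3 lc_g_rc_26_6 lc_g_rc_24_3 lc_g_rc_27_0 lc_g_rc_21_3 lc_g_rc_21_3 lc_g_rc_27_3) (@D3.rec (fun _ => (Cert rels S Gen.g)) lc_g_rc_27_0 lc_g_rc_24_9 lc_g_rc_27_9 lc_g_rc_27_0 lc_g_rc_27_9 lc_g_Cert_tree lc_g_rc_21_3 lc_g_rc_21_3 lc_g_rc_26_9 lc_g_rc_23_7 lc_g_rc_27_6 lc_g_rc_26_9 lc_g_rc_21_3 lc_g_Cert_tree lc_g_rc_27_9 lc_g_rc_26_3 lc_g_rc_24_3 lc_g_rc_26_6 lc_g_rc_21_3 lc_g_rc_21_2 lc_g_rc_21_2 lc_g_rc_21_3 lc_g_rc_21_3 lc_g_rc_26_3 lc_g_rc_21_3 lc_g_rc_23_7 lc_g_rc_24_3 lc_g_rc_21_3 lc_g_rc_23_1 lc_g_rc_21_2 lc_g_rc_26_3 lc_g_Cert_tree lc_g_rc_24_1 lc_g_rc_26_6 lc_g_rc_24_1 lc_g_rc_27_6 lc_g_rc_21_3 lc_g_Cert_tree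 lc_g_rc_26_6 lc_g_rc_21_2 lc_g_rc_27_6 lc_g_rc_23_3 lc_g_rc_23_1 lc_g_rc_21_3 lc_g_Cert_tree lc_g_rc_21_2 lc_g_Cert_tree lc_g_rc_26_6 lc_g_Cert_tree lc_g_rc_21_2 lc_g_rc_23_3 lc_g_rc_21_2 lc_g_rc_26_6 lc_g_rc_21_2 lc_g_rc_27_0 lc_g_Cert_tree lc_g_rc_21_2 lc_g_rc_21_2 lc_g_rc_21_3 lc_g_rc_23_9 lc_g_rc_21_3 lc_g_rc_26_3) (@D3.rec (fun _ => (Cert rels S Gen.g)) lc_g_rc_21_3 lc_g_rc_21_3 lc_g_rc_21_3 lc_g_rc_27_3 lc_g_rc_27_6 lc_g_rc_23_7 lc_g_rc_21_2 lc_g_rc_21_2 lc_g_rc_27_6 lc_g_Cert_tree lc_g_rc_21_3 lc_g_rc_21_3 lc_g_Cert_tree lc_g_rc_25_19 lc_g_Cert_tree lc_g_rc_23_9 lc_g_rc_24_9 lc_g_rc_21_3 lc_g_Cert_tree lc_g_rc_21_2 lc_g_rc_24_7 lc_g_rc_21_2 lc_g_rc_21_2 lc_g_rc_24_7 lc_g_Cert_tree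 lc_g_rc_23_3 lc_g_rc_27_3 lc_g_rc_27_6 lc_g_rc_24_7 lc_g_rc_21_2 lc_g_rc_26_6 lc_g_rc_23_3 lc_g_rc_21_3 lc_g_Cert_tree lc_g_rc_23_9 lc_g_rc_27_6 lc_g_Cert_tree lc_g_rc_21_2 lc_g_rc_27_0 lc_g_rc_26_6 lc_g_rc_26_9 lc_g_rc_21_3 lc_g_rc_21_3 lc_g_rc_23_9 lc_g_rc_23_9 lc_g_rc_26_3 lc_g_rc_24_1 lc_g_rc_21_3 lc_g_rc_26_0 lc_g_rc_23_7 lc_g_rc_24_3 lc_g_rc_21_2 lc_g_rc_27_0 lc_g_rc_27_0 lc_g_rc_26_3 lc_g_rc_21_3 lc_g_rc_26_0 lc_g_rc_26_0 lc_g_rc_24_1 lc_g_rc_27_0 lc_g_rc_26_6 lc_g_rc_27_0) (@D3.rec (fun _ => (Cert rels S Gen.g)) lc_g_Cert_tree lc_g_rc_27_3 lc_g_rc_21_2 lc_g_rc_23_9 lc_g_rc_24_3 lc_g_rc_27_0 lc_g_rc_23_1 lc_g_rc_21_3 lc_g_rc_21_3 lc_g_rc_21_3 lc_g_Cert_tree lc_g_rc_21_3 lc_g_Cert_tree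 lc_g_rc_21_2 lc_g_rc_23_9 lc_g_rc_23_9 lc_g_rc_25_19 lc_g_rc_24_1 lc_g_rc_26_3 lc_g_rc_27_6 lc_g_rc_24_3 lc_g_rc_27_6 lc_g_rc_21_3 lc_g_rc_21_3 lc_g_Cert_tree lc_g_rc_26_6 lc_g_rc_25_7 lc_g_rc_21_3 lc_g_rc_21_2 lc_g_rc_21_3 lc_g_Cert_tree lc_g_rc_21_2 lc_g_rc_27_6 lc_g_rc_24_1 lc_g_rc_21_2 lc_g_rc_21_3 lc_g_Cert_tree lc_g_Cert_tree lc_g_rc_21_3 lc_g_rc_21_2 lc_g_rc_21_2 lc_g_rc_21_2 lc_g_rc_21_3 lc_g_rc_23_3 lc_g_rc_24_7 lc_g_rc_21_2 lc_g_rc_27_6 lc_g_rc_24_9 lc_g_rc_21_3 lc_g_Cert_tree lc_g_Cert_tree lc_g_rc_23_3 lc_g_Cert_tree lc_g_rc_26_9 lc_g_rc_25_11 lc_g_rc_21_2 lc_g_rc_21_3 lc_g_Cert_tree lc_g_rc_24_3 lc_g_rc_26_3 lc_g_rc_25_19 lc_g_rc_21_3) (@D3.rec (fun _ => (Cert rels S Gen.g))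 lc_g_Cert_tree lc_g_rc_24_9 lc_g_rc_23_3 lc_g_rc_21_3 lc_g_rc_26_3 lc_g_rc_21_3 lc_g_Cert_tree lc_g_Cert_tree lc_g_rc_21_2 lc_g_rc_26_0 lc_g_rc_27_9 lc_g_rc_24_3 lc_g_rc_27_6 lc_g_rc_27_6 lc_g_rc_24_7 lc_g_rc_23_7 lc_g_rc_27_0 lc_g_rc_21_3 lc_g_Cert_tree lc_g_rc_23_3 lc_g_rc_26_9 lc_g_rc_24_3 lc_g_rc_21_3 lc_g_rc_23_7 lc_g_rc_26_0 lc_g_Cert_tree lc_g_rc_21_3 lc_g_Cert_tree lc_g_rc_24_3 lc_g_rc_21_3 lc_g_rc_21_2 lc_g_rc_24_9 lc_g_rc_26_0 lc_g_rc_27_6 lc_g_rc_27_3 lc_g_rc_25_19 lc_g_rc_26_0 lc_g_rc_26_3 lc_g_Cert_tree lc_g_rc_21_2 lc_g_rc_21_2 lc_g_rc_26_6 lc_g_rc_26_9 lc_g_rc_27_6 lc_g_rc_21_3 lc_g_rc_27_6 lc_g_rc_21_3 lc_g_rc_26_0 lc_g_rc_21_3 lc_g_Cert_tree lc_g_rc_24_9 lc_g_rc_26_6 lc_g_rc_24_3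 lc_g_rc_27_0 lc_g_rc_21_3 lc_g_rc_26_6 lc_g_rc_24_7 lc_g_rc_27_3 lc_g_rc_24_9 lc_g_rc_27_0 lc_g_Cert_tree lc_g_rc_24_1) (@D3.rec (fun _ => (Cert rels S Gen.g)) lc_g_rc_27_0 lc_g_rc_26_0 lc_g_rc_26_9 lc_g_rc_26_9 lc_g_rc_27_0 lc_g_rc_23_3 lc_g_rc_26_0 lc_g_rc_25_19 lc_g_rc_26_0 lc_g_rc_21_3 lc_g_rc_26_3 lc_g_rc_24_3 lc_g_rc_21_3 lc_g_rc_27_3 lc_g_rc_21_2 lc_g_rc_24_9 lc_g_rc_24_3 lc_g_rc_24_3 lc_g_rc_24_3 lc_g_rc_26_9 lc_g_rc_27_6 lc_g_Cert_tree lc_g_rc_25_15 lc_g_rc_23_3 lc_g_rc_23_9 lc_g_rc_26_3 lc_g_rc_25_19 lc_g_rc_21_2 lc_g_rc_21_3 lc_g_rc_26_6 lc_g_rc_21_3 lc_g_rc_24_3 lc_g_Cert_tree lc_g_rc_27_3 lc_g_rc_21_2 lc_g_rc_21_3 lc_g_rc_23_1 lc_g_rc_24_3 lc_g_rc_27_0 lc_g_rc_24_3 lc_g_rc_21_3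 lc_g_Cert_tree lc_g_rc_25_15 lc_g_rc_24_3 lc_g_rc_21_2 lc_g_rc_23_3 lc_g_rc_27_3 lc_g_rc_24_9 lc_g_rc_27_6 lc_g_rc_21_2 lc_g_rc_23_3 lc_g_rc_24_1 lc_g_rc_27_6 lc_g_rc_21_2 lc_g_rc_26_0 lc_g_rc_21_3 lc_g_rc_27_6 lc_g_rc_21_3 lc_g_rc_24_9 lc_g_rc_27_6 lc_g_rc_21_3 lc_g_Cert_tree) (@D3.rec (fun _ => (Cert rels S Gen.g)) lc_g_rc_24_9 lc_g_rc_21_2 lc_g_rc_26_6 lc_g_Cert_tree lc_g_rc_26_6 lc_g_rc_21_3 lc_g_rc_27_9 lc_g_rc_21_3 lc_g_Cert_tree lc_g_rc_27_3 lc_g_rc_21_2 lc_g_rc_26_3 lc_g_rc_27_9 lc_g_rc_27_6 lc_g_rc_26_6 lc_g_rc_23_7 lc_g_rc_21_3 lc_g_rc_23_3 lc_g_Cert_tree lc_g_rc_27_3 lc_g_rc_21_2 lc_g_rc_24_1 lc_g_rc_24_1 lc_g_Cert_tree lc_g_rc_27_6 lc_g_rc_23_3 lc_g_rc_21_2 lc_g_rc_27_0 lc_g_rc_27_6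 lc_g_rc_21_3 lc_g_rc_23_9 lc_g_rc_26_6 lc_g_rc_21_2 lc_g_rc_24_3 lc_g_rc_27_3 lc_g_rc_21_2 lc_g_rc_27_3 lc_g_rc_21_2 lc_g_rc_26_6 lc_g_rc_26_6 lc_g_Cert_tree lc_g_rc_26_3 lc_g_rc_25_3 lc_g_Cert_tree lc_g_rc_23_7 lc_g_rc_26_0 lc_g_rc_26_9 lc_g_rc_27_6 lc_g_rc_25_15 lc_g_rc_25_19 lc_g_rc_27_0 lc_g_rc_26_6 lc_g_rc_26_6 lc_g_rc_26_3 lc_g_rc_23_3 lc_g_rc_24_7 lc_g_rc_21_3 lc_g_Cert_tree lc_g_rc_21_2 lc_g_rc_27_0 lc_g_rc_25_3 lc_g_rc_23_9) (@D3.rec (fun _ => (Cert rels S Gen.g)) lc_g_rc_21_3 lc_g_rc_26_6 lc_g_rc_23_3 lc_g_rc_21_2 lc_g_rc_21_2 lc_g_rc_24_3 lc_g_rc_23_9 lc_g_rc_23_7 lc_g_rc_23_7 lc_g_Cert_tree lc_g_rc_26_9 lc_g_rc_21_3 lc_g_rc_24_3 lc_g_rc_26_6 lc_g_rc_26_3 lc_g_rc_24_7 lc_g_rc_27_6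 lc_g_rc_27_3 lc_g_rc_21_3 lc_g_rc_26_9 lc_g_rc_21_3 lc_g_rc_24_7 lc_g_rc_21_2 lc_g_rc_21_2 lc_g_Cert_tree lc_g_rc_23_1 lc_g_rc_21_2 lc_g_rc_23_7 lc_g_Cert_tree lc_g_Cert_tree lc_g_rc_26_3 lc_g_Cert_tree lc_g_rc_21_3 lc_g_rc_21_3 lc_g_rc_24_1 lc_g_rc_27_3 lc_g_rc_21_3 lc_g_Cert_tree lc_g_Cert_tree lc_g_rc_21_3 lc_g_Cert_tree lc_g_rc_26_6 lc_g_rc_23_1 lc_g_rc_24_3 lc_g_rc_27_6 lc_g_Cert_tree lc_g_rc_21_2 lc_g_rc_27_6 lc_g_rc_23_7 lc_g_rc_26_3 lc_g_rc_23_9 lc_g_rc_21_3 lc_g_rc_23_3 lc_g_rc_21_2 lc_g_rc_27_9 lc_g_Cert_tree lc_g_Cert_tree lc_g_rc_21_2 lc_g_rc_21_3 lc_g_rc_21_3 lc_g_Cert_tree lc_g_rc_21_2) (@D3.rec (fun _ => (Cert rels S Gen.g)) lc_g_rc_21_2 lc_g_rc_25_3 lc_g_rc_26_3 lc_g_rc_26_0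 lc_g_rc_27_9 lc_g_rc_26_0 lc_g_rc_23_3 lc_g_rc_21_3 lc_g_Cert_tree lc_g_rc_21_2 lc_g_rc_27_6 lc_g_rc_21_3 lc_g_Cert_tree lc_g_rc_26_0 lc_g_rc_21_2 lc_g_rc_26_6 lc_g_rc_21_2 lc_g_rc_21_3 lc_g_Cert_tree lc_g_rc_24_3 lc_g_rc_25_15 lc_g_rc_23_7 lc_g_Cert_tree lc_g_Cert_tree lc_g_rc_21_2 lc_g_rc_21_3 lc_g_rc_24_3 lc_g_rc_21_2 lc_g_rc_27_9 lc_g_Cert_tree lc_g_rc_21_2 lc_g_Cert_tree lc_g_rc_26_3 lc_g_rc_27_9 lc_g_Cert_tree lc_g_rc_25_11 lc_g_rc_27_3 lc_g_Cert_tree lc_g_rc_23_7 lc_g_rc_27_3 lc_g_rc_26_0 lc_g_rc_21_3 lc_g_Cert_tree lc_g_rc_21_2 lc_g_rc_25_15 lc_g_rc_27_6 lc_g_rc_21_2 lc_g_rc_27_6 lc_g_rc_21_2 lc_g_rc_21_3 lc_g_Cert_tree lc_g_rc_21_2 lc_g_rc_24_7 lc_g_rc_27_6 lc_g_Cert_tree lc_g_rc_26_0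 lc_g_rc_26_6 lc_g_rc_21_3 lc_g_rc_26_9 lc_g_rc_21_2 lc_g_rc_21_3 lc_g_rc_21_2) (@D3.rec (fun _ => (Cert rels S Gen.g)) lc_g_rc_23_1 lc_g_rc_27_9 lc_g_rc_25_15 lc_g_Cert_tree lc_g_rc_21_2 lc_g_Cert_tree lc_g_rc_24_3 lc_g_rc_21_2 lc_g_rc_23_1 lc_g_Cert_tree lc_g_rc_27_9 lc_g_rc_27_9 lc_g_rc_27_3 lc_g_rc_24_1 lc_g_rc_27_0 lc_g_rc_27_9 lc_g_rc_27_0 lc_g_rc_21_3 lc_g_Cert_tree lc_g_rc_27_6 lc_g_rc_27_6 lc_g_rc_21_3 lc_g_rc_25_19 lc_g_rc_25_7 lc_g_rc_26_3 lc_g_rc_21_3 lc_g_rc_23_9 lc_g_rc_21_2 lc_g_rc_24_9 lc_g_rc_23_7 lc_g_rc_27_6 lc_g_rc_23_7 lc_g_rc_21_3 lc_g_rc_21_2 lc_g_rc_24_1 lc_g_Cert_tree lc_g_rc_23_7 lc_g_rc_25_19 lc_g_rc_27_0 lc_g_rc_21_3 lc_g_rc_21_2 lc_g_rc_23_7 lc_g_rc_24_1 lc_g_rc_27_3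 lc_g_Cert_tree lc_g_rc_21_3 lc_g_rc_26_6 lc_g_rc_26_0 lc_g_rc_23_1 lc_g_rc_23_1 lc_g_rc_27_3 lc_g_rc_21_2 lc_g_rc_21_2 lc_g_rc_27_6 lc_g_rc_27_3 lc_g_rc_21_3 lc_g_Cert_tree lc_g_rc_21_3 lc_g_rc_21_3 lc_g_Cert_tree lc_g_rc_21_2 lc_g_rc_24_3) (@D3.rec (fun _ => (Cert rels S Gen.g)) lc_g_rc_23_3 lc_g_Cert_tree lc_g_rc_26_9 lc_g_rc_27_3 lc_g_rc_27_3 lc_g_rc_26_0 lc_g_Cert_tree lc_g_rc_24_3 lc_g_rc_21_2 lc_g_rc_21_2 lc_g_rc_24_9 lc_g_rc_23_1 lc_g_rc_24_1 lc_g_rc_26_6 lc_g_rc_21_3 lc_g_Cert_tree lc_g_rc_23_7 lc_g_rc_21_2 lc_g_rc_23_3 lc_g_rc_27_6 lc_g_rc_24_7 lc_g_Cert_tree lc_g_rc_21_2 lc_g_rc_21_2 lc_g_rc_21_3 lc_g_rc_26_3 lc_g_rc_21_3 lc_g_rc_27_6 lc_g_rc_21_3 lc_g_rc_24_9 lc_g_Cert_tree lc_g_rc_23_3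 lc_g_rc_21_2 lc_g_rc_23_3 lc_g_Cert_tree lc_g_rc_21_2 lc_g_rc_24_3 lc_g_rc_26_3 lc_g_rc_21_3 lc_g_rc_21_2 lc_g_rc_21_3 lc_g_Cert_tree lc_g_rc_21_2 lc_g_rc_27_0 lc_g_rc_27_3 lc_g_rc_21_3 lc_g_rc_26_6 lc_g_rc_24_9 lc_g_rc_27_0 lc_g_rc_26_3 lc_g_rc_26_0 lc_g_rc_21_2 lc_g_rc_23_9 lc_g_rc_27_6 lc_g_rc_27_3 lc_g_rc_23_1 lc_g_rc_24_7 lc_g_rc_21_3 lc_g_rc_21_2 lc_g_rc_21_3 lc_g_Cert_tree lc_g_rc_21_2) (@D3.rec (fun _ => (Cert rels S Gen.g)) lc_g_Cert_tree lc_g_rc_21_2 lc_g_rc_26_6 lc_g_rc_27_6 lc_g_Cert_tree lc_g_rc_26_6 lc_g_rc_24_1 lc_g_rc_26_0 lc_g_rc_27_0 lc_g_Cert_tree lc_g_rc_24_7 lc_g_rc_23_9 lc_g_rc_26_6 lc_g_rc_23_3 lc_g_rc_26_0 lc_g_rc_21_2 lc_g_rc_27_9 lc_g_rc_27_6 lc_g_rc_21_3 lc_g_rc_27_0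 lc_g_rc_27_3 lc_g_rc_21_3 lc_g_rc_26_0 lc_g_rc_26_6 lc_g_rc_21_3 lc_g_Cert_tree lc_g_rc_23_9 lc_g_rc_24_7 lc_g_rc_24_9 lc_g_Cert_tree lc_g_rc_27_6 lc_g_Cert_tree lc_g_rc_23_9 lc_g_rc_26_3 lc_g_Cert_tree lc_g_rc_21_2 lc_g_rc_25_3 lc_g_rc_26_3 lc_g_Cert_tree lc_g_rc_24_3 lc_g_rc_21_3 lc_g_rc_27_3 lc_g_rc_23_7 lc_g_rc_27_6 lc_g_rc_21_2 lc_g_rc_27_6 lc_g_rc_21_3 lc_g_rc_24_9 lc_g_rc_21_3 lc_g_rc_27_6 lc_g_rc_27_9 lc_g_rc_27_6 lc_g_rc_23_7 lc_g_rc_27_6 lc_g_Cert_tree lc_g_rc_27_6 lc_g_rc_25_19 lc_g_Cert_tree lc_g_rc_23_1 lc_g_rc_27_6 lc_g_rc_26_3 lc_g_rc_23_7) (@D3.rec (fun _ => (Cert rels S Gen.g)) lc_g_rc_25_19 lc_g_rc_21_2 lc_g_rc_21_2 lc_g_rc_23_7 lc_g_Cert_tree lc_g_rc_24_7 lc_g_rc_27_3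 lc_g_rc_21_2 lc_g_Cert_tree lc_g_rc_27_0 lc_g_rc_24_3 lc_g_rc_27_9 lc_g_rc_21_3 lc_g_rc_27_9 lc_g_Cert_tree lc_g_rc_24_9 lc_g_rc_27_6 lc_g_rc_23_7 lc_g_rc_27_6 lc_g_rc_23_1 lc_g_Cert_tree lc_g_rc_27_9 lc_g_rc_23_3 lc_g_rc_27_6 lc_g_rc_27_6 lc_g_Cert_tree lc_g_rc_21_2 lc_g_rc_24_3 lc_g_rc_27_3 lc_g_Cert_tree lc_g_rc_27_9 lc_g_rc_27_0 lc_g_rc_27_0 lc_g_rc_27_0 lc_g_rc_24_3 lc_g_rc_23_1 lc_g_Cert_tree lc_g_rc_27_6 lc_g_rc_24_3 lc_g_rc_26_3 lc_g_Cert_tree lc_g_rc_21_2 lc_g_rc_21_2 lc_g_rc_24_9 lc_g_rc_27_0 lc_g_Cert_tree lc_g_rc_24_1 lc_g_rc_21_3 lc_g_rc_25_19 lc_g_rc_26_3 lc_g_rc_21_3 lc_g_Cert_tree lc_g_Cert_tree lc_g_rc_23_7 lc_g_rc_26_3 lc_g_rc_24_7 lc_g_Cert_tree lc_g_rc_24_1 lc_g_rc_27_6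 lc_g_rc_21_3 lc_g_rc_21_2 lc_g_rc_26_0) (@D3.rec (fun _ => (Cert rels S Gen.g)) lc_g_rc_24_7 lc_g_rc_26_0 lc_g_rc_24_1 lc_g_rc_27_6 lc_g_rc_21_3 lc_g_Cert_tree lc_g_rc_26_6 lc_g_rc_21_2 lc_g_rc_24_1 lc_g_rc_24_7 lc_g_rc_23_3 lc_g_Cert_tree lc_g_rc_23_7 lc_g_rc_26_9 lc_g_rc_27_0 lc_g_rc_21_2 lc_g_rc_23_3 lc_g_rc_21_3 lc_g_rc_27_0 lc_g_Cert_tree lc_g_rc_26_3 lc_g_rc_21_2 lc_g_rc_21_2 lc_g_rc_26_0 lc_g_rc_21_3 lc_g_rc_27_9 lc_g_rc_26_3 lc_g_rc_24_7 lc_g_rc_27_3 lc_g_rc_21_3 lc_g_Cert_tree lc_g_rc_24_7 lc_g_Cert_tree lc_g_rc_21_3 lc_g_Cert_tree lc_g_rc_21_2 lc_g_Cert_tree lc_g_rc_21_2 lc_g_rc_27_6 lc_g_rc_23_7 lc_g_rc_27_3 lc_g_rc_23_1 lc_g_rc_21_2 lc_g_rc_21_3 lc_g_Cert_tree lc_g_rc_21_2 lc_g_rc_27_9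 lc_g_rc_24_1 lc_g_Cert_tree lc_g_rc_27_9 lc_g_rc_25_19 lc_g_rc_24_3 lc_g_rc_21_2 lc_g_rc_21_3 lc_g_Cert_tree lc_g_rc_23_7 lc_g_rc_21_2 lc_g_rc_21_2 lc_g_rc_21_2 lc_g_rc_21_3 lc_g_rc_21_2 lc_g_rc_27_3) (@D3.rec (fun _ => (Cert rels S Gen.g)) lc_g_rc_26_3 lc_g_rc_23_3 lc_g_rc_21_3 lc_g_rc_21_2 lc_g_rc_27_0 lc_g_rc_21_2 lc_g_rc_21_3 lc_g_Cert_tree lc_g_rc_21_2 lc_g_rc_21_3 lc_g_rc_21_3 lc_g_rc_21_3 lc_g_rc_21_2 lc_g_rc_21_2 lc_g_rc_27_6 lc_g_rc_24_7 lc_g_rc_23_7 lc_g_rc_26_3 lc_g_rc_21_3 lc_g_Cert_tree lc_g_Cert_tree lc_g_rc_26_9 lc_g_rc_26_3 lc_g_rc_24_1 lc_g_rc_27_6 lc_g_rc_24_1 lc_g_rc_26_3 lc_g_Cert_tree lc_g_rc_27_3 lc_g_rc_21_2 lc_g_rc_27_3 lc_g_rc_27_9 lc_g_rc_26_6 lc_g_rc_23_1 lc_g_rc_24_1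 lc_g_rc_21_3 lc_g_Cert_tree lc_g_rc_21_2 lc_g_rc_23_1 lc_g_Cert_tree lc_g_rc_26_6 lc_g_rc_26_0 lc_g_rc_24_7 lc_g_rc_21_2 lc_g_rc_24_1 lc_g_rc_26_6 lc_g_rc_23_1 lc_g_rc_23_1 lc_g_rc_21_3 lc_g_Cert_tree lc_g_rc_27_9 lc_g_rc_27_9 lc_g_rc_26_3 lc_g_rc_27_6 lc_g_rc_24_3 lc_g_Cert_tree lc_g_rc_21_2 lc_g_rc_21_3 lc_g_rc_23_9 lc_g_rc_21_2 lc_g_rc_26_3 lc_g_rc_23_7) (@D3.rec (fun _ => (Cert rels S Gen.g)) lc_g_rc_23_1 lc_g_Cert_tree lc_g_Cert_tree lc_g_rc_21_3 lc_g_rc_24_3 lc_g_rc_23_9 lc_g_rc_24_1 lc_g_rc_27_0 lc_g_rc_24_3 lc_g_Cert_tree lc_g_rc_21_3 lc_g_rc_21_2 lc_g_rc_21_3 lc_g_rc_21_3 lc_g_rc_21_3 lc_g_rc_24_3 lc_g_rc_24_9 lc_g_rc_26_0 lc_g_rc_23_3 lc_g_rc_24_3 lc_g_Cert_tree lc_g_rc_27_6 lc_g_rc_21_2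 lc_g_rc_21_3 lc_g_rc_24_3 lc_g_rc_27_6 lc_g_rc_21_2 lc_g_rc_26_3 lc_g_rc_23_1 lc_g_rc_27_9 lc_g_rc_26_3 lc_g_rc_26_3 lc_g_rc_24_9 lc_g_rc_21_2 lc_g_rc_24_9 lc_g_rc_21_2 lc_g_rc_27_6 lc_g_rc_24_7 lc_g_rc_27_3 lc_g_Cert_tree lc_g_rc_27_3 lc_g_rc_26_3 lc_g_rc_25_11 lc_g_rc_23_9 lc_g_rc_27_9 lc_g_rc_27_0 lc_g_rc_21_3 lc_g_rc_26_3 lc_g_rc_26_9 lc_g_rc_21_3 lc_g_Cert_tree lc_g_rc_21_2 lc_g_rc_21_2 lc_g_rc_21_3 lc_g_rc_21_2 lc_g_rc_21_2 lc_g_rc_21_3 lc_g_rc_27_6 lc_g_rc_21_3 lc_g_Cert_tree lc_g_Cert_tree lc_g_rc_21_3) (@D3.rec (fun _ => (Cert rels S Gen.g)) lc_g_rc_24_3 lc_g_rc_23_3 lc_g_rc_24_3 lc_g_rc_26_6 lc_g_rc_24_3 lc_g_rc_21_3 lc_g_rc_26_6 lc_g_rc_27_6 lc_g_rc_21_2 lc_g_Cert_tree lc_g_rc_24_3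 lc_g_rc_26_0 lc_g_rc_27_0 lc_g_rc_21_2 lc_g_rc_23_1 lc_g_Cert_tree lc_g_rc_26_6 lc_g_rc_23_3 lc_g_Cert_tree lc_g_rc_25_19 lc_g_Cert_tree lc_g_rc_21_2 lc_g_rc_26_6 lc_g_rc_21_2 lc_g_rc_24_7 lc_g_rc_21_3 lc_g_rc_21_3 lc_g_Cert_tree lc_g_rc_26_6 lc_g_rc_27_6 lc_g_rc_27_0 lc_g_rc_21_2 lc_g_rc_21_2 lc_g_rc_21_2 lc_g_rc_26_9 lc_g_rc_27_3 lc_g_Cert_tree lc_g_rc_26_0 lc_g_rc_21_2 lc_g_rc_23_1 lc_g_rc_21_3 lc_g_rc_24_1 lc_g_rc_21_2 lc_g_Cert_tree lc_g_rc_21_3 lc_g_rc_21_2 lc_g_Cert_tree lc_g_rc_27_0 lc_g_rc_27_0 lc_g_rc_24_7 lc_g_rc_21_2 lc_g_rc_27_9 lc_g_rc_27_0 lc_g_Cert_tree lc_g_rc_25_15 lc_g_rc_21_3 lc_g_rc_27_9 lc_g_rc_21_2 lc_g_rc_21_3 lc_g_rc_27_3 lc_g_rc_21_3 lc_g_Cert_tree) (@D3.rec (fun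 _ => (Cert rels S Gen.g)) lc_g_rc_26_6 lc_g_rc_24_1 lc_g_rc_24_3 lc_g_rc_21_2 lc_g_rc_21_3 lc_g_rc_21_3 lc_g_rc_26_6 lc_g_Cert_tree lc_g_rc_21_3 lc_g_rc_24_3 lc_g_rc_26_6 lc_g_rc_21_2 lc_g_Cert_tree lc_g_rc_23_1 lc_g_rc_26_3 lc_g_rc_21_2 lc_g_rc_27_9 lc_g_rc_21_3 lc_g_rc_27_3 lc_g_rc_21_3 lc_g_rc_21_2 lc_g_rc_26_9 lc_g_rc_27_3 lc_g_rc_21_2 lc_g_rc_24_3 lc_g_rc_25_7 lc_g_rc_21_3 lc_g_rc_21_2 lc_g_rc_26_3 lc_g_rc_27_6 lc_g_Cert_tree lc_g_rc_27_3 lc_g_rc_21_3 lc_g_rc_27_3 lc_g_rc_27_9 lc_g_rc_27_6 lc_g_rc_23_9 lc_g_rc_23_3 lc_g_rc_27_0 lc_g_rc_26_3 lc_g_rc_26_3 lc_g_rc_27_6 lc_g_rc_26_6 lc_g_Cert_tree lc_g_rc_27_9 lc_g_rc_21_3 lc_g_Cert_tree lc_g_rc_26_6 lc_g_rc_27_0 lc_g_rc_23_3 lc_g_Cert_tree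 lc_g_rc_21_3 lc_g_rc_27_6 lc_g_rc_26_0 lc_g_rc_21_2 lc_g_rc_27_6 lc_g_rc_26_6 lc_g_rc_27_0 lc_g_rc_21_3 lc_g_rc_26_6 lc_g_Cert_tree lc_g_rc_21_3) (@D3.rec (fun _ => (Cert rels S Gen.g)) lc_g_Cert_tree lc_g_rc_26_6 lc_g_rc_26_6 lc_g_rc_21_3 lc_g_rc_21_2 lc_g_rc_21_2 lc_g_rc_27_9 lc_g_Cert_tree lc_g_rc_27_6 lc_g_rc_21_3 lc_g_Cert_tree lc_g_rc_21_3 lc_g_rc_27_9 lc_g_rc_23_7 lc_g_rc_26_3 lc_g_rc_21_3 lc_g_Cert_tree lc_g_rc_26_3 lc_g_rc_21_2 lc_g_rc_21_2 lc_g_rc_23_7 lc_g_rc_23_1 lc_g_rc_26_6 lc_g_rc_27_9 lc_g_rc_21_2 lc_g_rc_26_6 lc_g_rc_27_0 lc_g_rc_21_3 lc_g_rc_27_0 lc_g_rc_21_3 lc_g_rc_27_3 lc_g_rc_24_3 lc_g_rc_24_7 lc_g_Cert_tree lc_g_rc_21_2 lc_g_rc_27_9 lc_g_Cert_tree lc_g_rc_27_9 lc_g_rc_23_3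 lc_g_rc_24_1 lc_g_rc_21_3 lc_g_Cert_tree lc_g_rc_26_9 lc_g_rc_23_3 lc_g_rc_26_3 lc_g_rc_23_3 lc_g_rc_24_1 lc_g_rc_24_9 lc_g_rc_23_3 lc_g_Cert_tree lc_g_rc_27_9 lc_g_rc_26_3 lc_g_rc_24_3 lc_g_rc_24_3 lc_g_rc_23_1 lc_g_rc_27_6 lc_g_rc_21_3 lc_g_Cert_tree lc_g_rc_21_2 lc_g_rc_21_3 lc_g_rc_24_7 lc_g_rc_27_6) (@D3.rec (fun _ => (Cert rels S Gen.g)) lc_g_rc_24_9 lc_g_Cert_tree lc_g_rc_27_9 lc_g_rc_27_0 lc_g_rc_26_6 lc_g_rc_27_6 lc_g_rc_27_6 lc_g_rc_27_6 lc_g_rc_27_0 lc_g_rc_21_3 lc_g_rc_21_3 lc_g_rc_21_2 lc_g_rc_21_2 lc_g_rc_27_3 lc_g_rc_24_1 lc_g_rc_24_3 lc_g_rc_23_7 lc_g_rc_25_19 lc_g_rc_26_9 lc_g_rc_26_6 lc_g_rc_21_3 lc_g_Cert_tree lc_g_rc_21_3 lc_g_rc_21_3 lc_g_rc_27_9 lc_g_Cert_tree lc_g_rc_24_7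 lc_g_rc_21_3 lc_g_rc_21_2 lc_g_rc_21_2 lc_g_rc_24_3 lc_g_rc_27_0 lc_g_rc_26_6 lc_g_rc_21_2 lc_g_rc_26_3 lc_g_Cert_tree lc_g_rc_26_6 lc_g_Cert_tree lc_g_rc_21_3 lc_g_rc_27_0 lc_g_rc_27_0 lc_g_rc_23_7 lc_g_rc_21_2 lc_g_rc_21_3 lc_g_Cert_tree lc_g_rc_21_2 lc_g_rc_26_3 lc_g_rc_27_6 lc_g_rc_21_2 lc_g_rc_23_3 lc_g_rc_24_3 lc_g_Cert_tree lc_g_rc_23_3 lc_g_rc_26_6 lc_g_rc_23_3 lc_g_rc_27_3 lc_g_Cert_tree lc_g_rc_21_2 lc_g_rc_21_3 lc_g_Cert_tree lc_g_rc_21_2 lc_g_rc_25_3) (@D3.rec (fun _ => (Cert rels S Gen.g)) lc_g_rc_21_3 lc_g_rc_26_3 lc_g_Cert_tree lc_g_rc_27_0 lc_g_rc_23_7 lc_g_rc_23_3 lc_g_rc_21_3 lc_g_Cert_tree lc_g_rc_27_9 lc_g_rc_23_7 lc_g_rc_27_9 lc_g_Cert_tree lc_g_Cert_tree lc_g_rc_23_7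 lc_g_rc_24_3 lc_g_rc_21_3 lc_g_rc_27_3 lc_g_rc_24_3 lc_g_rc_27_3 lc_g_rc_26_6 lc_g_rc_21_2 lc_g_Cert_tree lc_g_rc_27_3 lc_g_Cert_tree lc_g_rc_27_0 lc_g_rc_21_2 lc_g_rc_21_2 lc_g_rc_21_2 lc_g_rc_21_2 lc_g_Cert_tree lc_g_rc_21_2 lc_g_rc_24_3 lc_g_rc_21_3 lc_g_Cert_tree lc_g_rc_26_3 lc_g_rc_27_0 lc_g_rc_26_6 lc_g_rc_27_6 lc_g_rc_27_6 lc_g_rc_24_3 lc_g_rc_21_2 lc_g_rc_23_1 lc_g_rc_21_3 lc_g_Cert_tree lc_g_Cert_tree lc_g_rc_26_6 lc_g_rc_26_6 lc_g_rc_27_9 lc_g_Cert_tree lc_g_rc_27_6 lc_g_rc_23_1 lc_g_rc_23_1 lc_g_Cert_tree lc_g_rc_25_19 lc_g_rc_21_3 lc_g_Cert_tree lc_g_rc_21_2 lc_g_rc_21_2 lc_g_rc_27_0 lc_g_Cert_tree lc_g_rc_26_0 lc_g_rc_23_9) (@D3.rec (fun _ => (Cert rels S Gen.g)) lc_g_rc_23_3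 lc_g_rc_26_9 lc_g_Cert_tree lc_g_rc_21_2 lc_g_rc_21_2 lc_g_rc_26_3 lc_g_rc_21_2 lc_g_rc_23_9 lc_g_rc_24_3 lc_g_rc_21_2 lc_g_rc_21_2 lc_g_rc_21_2 lc_g_rc_27_0 lc_g_rc_25_7 lc_g_rc_26_6 lc_g_Cert_tree lc_g_Cert_tree lc_g_rc_27_6 lc_g_rc_26_6 lc_g_rc_27_3 lc_g_rc_21_2 lc_g_rc_21_3 lc_g_Cert_tree lc_g_rc_21_2 lc_g_rc_21_2 lc_g_rc_23_1 lc_g_rc_27_3 lc_g_rc_21_3 lc_g_rc_27_6 lc_g_rc_21_3 lc_g_Cert_tree lc_g_rc_21_3 lc_g_Cert_tree lc_g_rc_21_2 lc_g_rc_26_3 lc_g_rc_27_0 lc_g_rc_21_2 lc_g_rc_21_3 lc_g_Cert_tree lc_g_rc_23_1 lc_g_rc_24_3 lc_g_rc_23_3 lc_g_rc_23_1 lc_g_rc_25_7 lc_g_rc_27_6 lc_g_Cert_tree lc_g_rc_21_2 lc_g_rc_26_3 lc_g_rc_23_7 lc_g_rc_26_3 lc_g_rc_26_3 lc_g_rc_23_3 lc_g_rc_21_3 lc_g_Cert_tree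 lc_g_rc_21_2 lc_g_rc_21_3 lc_g_rc_21_2 lc_g_rc_27_9 lc_g_rc_21_2 lc_g_Cert_tree lc_g_rc_21_2 lc_g_rc_21_3) (@D3.rec (fun _ => (Cert rels S Gen.g)) lc_g_Cert_tree lc_g_rc_21_3 lc_g_rc_21_2 lc_g_rc_21_3 lc_g_rc_24_1 lc_g_rc_27_6 lc_g_rc_24_9 lc_g_rc_27_6 lc_g_rc_21_2 lc_g_rc_24_3 lc_g_rc_23_3 lc_g_Cert_tree lc_g_Cert_tree lc_g_rc_27_6 lc_g_Cert_tree lc_g_rc_26_6 lc_g_rc_21_3 lc_g_rc_23_1 lc_g_rc_26_6 lc_g_rc_24_7 lc_g_rc_27_3 lc_g_rc_23_1 lc_g_rc_27_3 lc_g_rc_24_3 lc_g_rc_27_6 lc_g_Cert_tree lc_g_rc_21_2 lc_g_rc_21_3 lc_g_Cert_tree lc_g_rc_21_2 lc_g_rc_26_9 lc_g_rc_21_2 lc_g_rc_23_9 lc_g_rc_23_1 lc_g_rc_24_7 lc_g_rc_26_9 lc_g_rc_21_2 lc_g_rc_21_2 lc_g_Cert_tree lc_g_rc_23_1 lc_g_rc_23_1 lc_g_rc_21_2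 lc_g_rc_27_3 lc_g_rc_26_9 lc_g_rc_21_3 lc_g_Cert_tree lc_g_Cert_tree lc_g_rc_26_9 lc_g_rc_21_2 lc_g_rc_26_6 lc_g_rc_27_6 lc_g_Cert_tree lc_g_rc_24_3 lc_g_Cert_tree lc_g_rc_21_3 lc_g_rc_24_7 lc_g_rc_26_0 lc_g_rc_26_9 lc_g_rc_27_9 lc_g_rc_23_9 lc_g_rc_23_1 lc_g_Cert_tree) (@D3.rec (fun _ => (Cert rels S Gen.g)) lc_g_rc_21_2 lc_g_Cert_tree lc_g_rc_24_3 lc_g_rc_21_3 lc_g_Cert_tree lc_g_rc_21_2 lc_g_rc_21_2 lc_g_rc_21_3 lc_g_rc_21_3 lc_g_rc_21_3 lc_g_Cert_tree lc_g_rc_21_2 lc_g_rc_26_0 lc_g_rc_21_3 lc_g_Cert_tree lc_g_rc_23_7 lc_g_rc_21_2 lc_g_rc_24_1 lc_g_rc_23_9 lc_g_rc_27_9 lc_g_rc_24_7 lc_g_rc_27_6 lc_g_rc_27_0 lc_g_rc_21_3 lc_g_Cert_tree lc_g_rc_26_0 lc_g_rc_21_3 lc_g_Cert_tree lc_g_rc_21_3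 lc_g_rc_21_2 lc_g_rc_27_6 lc_g_rc_27_9 lc_g_rc_23_7 lc_g_rc_27_6 lc_g_rc_27_9 lc_g_rc_21_3 lc_g_Cert_tree lc_g_rc_21_2 lc_g_rc_27_6 lc_g_rc_26_3 lc_g_rc_24_1 lc_g_rc_27_3 lc_g_rc_21_3 lc_g_rc_27_0 lc_g_rc_23_7 lc_g_rc_21_2 lc_g_rc_21_3 lc_g_Cert_tree lc_g_rc_26_6 lc_g_rc_25_15 lc_g_rc_21_3 lc_g_Cert_tree lc_g_rc_27_6 lc_g_rc_23_1 lc_g_rc_25_19 lc_g_rc_23_1 lc_g_rc_24_7 lc_g_rc_27_9 lc_g_rc_21_3 lc_g_rc_21_3 lc_g_rc_27_0 lc_g_Cert_tree) (@D3.rec (fun _ => (Cert rels S Gen.g)) lc_g_rc_25_19 lc_g_rc_21_2 lc_g_rc_26_3 lc_g_rc_21_2 lc_g_rc_24_7 lc_g_rc_21_3 lc_g_Cert_tree lc_g_rc_21_2 lc_g_Cert_tree lc_g_rc_21_2 lc_g_rc_27_3 lc_g_rc_21_2 lc_g_rc_21_2 lc_g_rc_27_6 lc_g_rc_21_3 lc_g_Cert_tree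 lc_g_rc_25_7 lc_g_rc_27_6 lc_g_rc_26_9 lc_g_rc_26_6 lc_g_rc_21_2 lc_g_rc_25_11 lc_g_rc_21_3 lc_g_rc_26_3 lc_g_rc_27_6 lc_g_rc_21_3 lc_g_rc_24_3 lc_g_rc_21_2 lc_g_rc_26_0 lc_g_rc_27_9 lc_g_rc_25_3 lc_g_rc_24_7 lc_g_rc_21_2 lc_g_rc_26_3 lc_g_rc_26_6 lc_g_rc_26_0 lc_g_rc_21_3 lc_g_rc_21_3 lc_g_rc_21_2 lc_g_rc_27_3 lc_g_rc_21_3 lc_g_rc_24_3 lc_g_rc_27_6 lc_g_Cert_tree lc_g_rc_21_2 lc_g_rc_23_1 lc_g_rc_27_9 lc_g_rc_26_3 lc_g_rc_25_19 lc_g_rc_23_3 lc_g_rc_21_3 lc_g_rc_24_1 lc_g_rc_27_6 lc_g_rc_25_3 lc_g_rc_23_9 lc_g_rc_26_3 lc_g_rc_27_0 lc_g_rc_21_2 lc_g_rc_24_7 lc_g_rc_26_6 lc_g_rc_24_3 lc_g_rc_23_1) (@D3.rec (fun _ => (Cert rels S Gen.g)) lc_g_rc_26_6 lc_g_rc_26_3 lc_g_Cert_tree lc_g_rc_26_0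 lc_g_rc_27_6 lc_g_rc_21_3 lc_g_rc_27_3 lc_g_rc_23_1 lc_g_rc_26_9 lc_g_rc_26_0 lc_g_rc_26_3 lc_g_Cert_tree lc_g_rc_24_3 lc_g_rc_21_3 lc_g_Cert_tree lc_g_rc_21_2 lc_g_rc_23_9 lc_g_rc_24_3 lc_g_rc_27_6 lc_g_rc_26_3 lc_g_rc_21_3 lc_g_Cert_tree lc_g_rc_27_0 lc_g_rc_24_1 lc_g_rc_24_3 lc_g_rc_26_6 lc_g_rc_21_3 lc_g_rc_25_19 lc_g_rc_21_2 lc_g_rc_21_2 lc_g_Cert_tree lc_g_rc_27_3 lc_g_rc_23_3 lc_g_rc_24_1 lc_g_rc_26_3 lc_g_rc_26_9 lc_g_rc_21_3 lc_g_Cert_tree lc_g_Cert_tree lc_g_rc_27_0 lc_g_rc_21_3 lc_g_Cert_tree lc_g_Cert_tree lc_g_rc_21_2 lc_g_rc_24_3 lc_g_rc_24_3 lc_g_rc_23_1 lc_g_Cert_tree lc_g_rc_23_3 lc_g_rc_26_3 lc_g_rc_21_2 lc_g_rc_23_3 lc_g_rc_25_15 lc_g_rc_24_3 lc_g_rc_23_3 lc_g_rc_26_3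 lc_g_rc_24_1 lc_g_rc_27_3 lc_g_rc_25_19 lc_g_rc_24_3 lc_g_rc_25_19 lc_g_rc_23_1) (@D3.rec (fun _ => (Cert rels S Gen.g)) lc_g_rc_21_3 lc_g_Cert_tree lc_g_rc_23_3 lc_g_rc_21_3 lc_g_rc_23_1 lc_g_rc_25_19 lc_g_rc_21_3 lc_g_Cert_tree lc_g_Cert_tree lc_g_rc_21_2 lc_g_rc_27_6 lc_g_rc_21_2 lc_g_Cert_tree lc_g_rc_24_3 lc_g_rc_21_2 lc_g_rc_26_0 lc_g_rc_23_3 lc_g_Cert_tree lc_g_rc_21_2 lc_g_rc_27_3 lc_g_rc_21_2 lc_g_rc_21_3 lc_g_Cert_tree lc_g_rc_21_3 lc_g_rc_27_6 lc_g_rc_26_3 lc_g_rc_24_3 lc_g_rc_25_3 lc_g_rc_27_6 lc_g_rc_24_1 lc_g_Cert_tree lc_g_Cert_tree lc_g_rc_24_3 lc_g_Cert_tree lc_g_rc_21_2 lc_g_rc_27_0 lc_g_Cert_tree lc_g_rc_24_3 lc_g_rc_26_9 lc_g_rc_23_1 lc_g_rc_21_3 lc_g_rc_21_2 lc_g_rc_23_3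 lc_g_rc_25_3 lc_g_rc_21_3 lc_g_rc_27_6 lc_g_rc_27_6 lc_g_rc_24_3 lc_g_rc_21_3 lc_g_Cert_tree lc_g_rc_27_6 lc_g_Cert_tree lc_g_rc_27_3 lc_g_rc_25_19 lc_g_rc_26_9 lc_g_rc_26_0 lc_g_rc_21_3 lc_g_rc_26_3 lc_g_rc_25_7 lc_g_rc_26_3 lc_g_Cert_tree lc_g_rc_21_3) (@D3.rec (fun _ => (Cert rels S Gen.g)) lc_g_Cert_tree lc_g_Cert_tree lc_g_rc_25_3 lc_g_Cert_tree lc_g_rc_25_19 lc_g_rc_21_2 lc_g_rc_21_2 lc_g_rc_24_1 lc_g_rc_26_6 lc_g_rc_23_7 lc_g_rc_26_3 lc_g_rc_21_3 lc_g_rc_27_9 lc_g_rc_27_6 lc_g_rc_24_9 lc_g_rc_25_19 lc_g_Cert_tree lc_g_rc_24_3 lc_g_Cert_tree lc_g_rc_26_0 lc_g_rc_23_9 lc_g_rc_26_6 lc_g_rc_27_3 lc_g_rc_27_0 lc_g_rc_21_3 lc_g_rc_21_2 lc_g_rc_21_3 lc_g_rc_26_6 lc_g_Cert_tree lc_g_rc_26_3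 lc_g_rc_21_2 lc_g_rc_24_3 lc_g_rc_21_3 lc_g_Cert_tree lc_g_Cert_tree lc_g_rc_21_2 lc_g_rc_21_3 lc_g_rc_26_0 lc_g_rc_21_3 lc_g_rc_24_1 lc_g_Cert_tree lc_g_Cert_tree lc_g_rc_21_3 lc_g_rc_26_9 lc_g_rc_26_3 lc_g_rc_26_6 lc_g_rc_21_3 lc_g_rc_23_7 lc_g_rc_27_6 lc_g_rc_21_3 lc_g_Cert_tree lc_g_rc_27_9 lc_g_rc_21_2 lc_g_rc_26_3 lc_g_Cert_tree lc_g_rc_21_2 lc_g_rc_23_9 lc_g_rc_23_7 lc_g_rc_26_0 lc_g_rc_21_3 lc_g_rc_23_7 lc_g_rc_27_0) (@D3.rec (fun _ => (Cert rels S Gen.g)) lc_g_rc_27_0 lc_g_Cert_tree lc_g_Cert_tree lc_g_rc_21_2 lc_g_rc_21_2 lc_g_rc_23_3 lc_g_rc_23_1 lc_g_Cert_tree lc_g_rc_21_3 lc_g_rc_26_6 lc_g_rc_26_6 lc_g_rc_24_9 lc_g_rc_27_0 lc_g_rc_27_3 lc_g_rc_23_3 lc_g_rc_24_3 lc_g_rc_27_6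 lc_g_rc_26_6 lc_g_rc_24_7 lc_g_Cert_tree lc_g_rc_21_3 lc_g_Cert_tree lc_g_Cert_tree lc_g_rc_24_7 lc_g_rc_24_7 lc_g_Cert_tree lc_g_rc_23_7 lc_g_rc_21_3 lc_g_rc_26_3 lc_g_Cert_tree lc_g_rc_21_3 lc_g_rc_23_3 lc_g_rc_26_3 lc_g_rc_23_3 lc_g_rc_21_2 lc_g_rc_23_1 lc_g_rc_23_9 lc_g_Cert_tree lc_g_rc_27_0 lc_g_rc_21_3 lc_g_Cert_tree lc_g_rc_21_2 lc_g_rc_23_3 lc_g_rc_25_3 lc_g_rc_24_7 lc_g_rc_27_3 lc_g_rc_21_2 lc_g_rc_21_2 lc_g_rc_21_2 lc_g_rc_27_0 lc_g_Cert_tree lc_g_rc_27_6 lc_g_rc_23_1 lc_g_Cert_tree lc_g_rc_27_6 lc_g_rc_24_3 lc_g_rc_24_9 lc_g_Cert_tree lc_g_rc_24_3 lc_g_rc_21_2 lc_g_rc_27_6 lc_g_Cert_tree) (@D3.rec (fun _ => (Cert rels S Gen.g)) lc_g_rc_21_3 lc_g_rc_21_2 lc_g_rc_21_2 lc_g_rc_26_9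 lc_g_rc_26_3 lc_g_rc_27_0 lc_g_rc_24_1 lc_g_Cert_tree lc_g_rc_21_2 lc_g_rc_23_1 lc_g_Cert_tree lc_g_rc_26_0 lc_g_rc_24_1 lc_g_rc_26_3 lc_g_rc_21_2 lc_g_rc_26_3 lc_g_rc_24_9 lc_g_rc_21_3 lc_g_Cert_tree lc_g_rc_26_3 lc_g_rc_21_2 lc_g_rc_21_3 lc_g_rc_25_19 lc_g_rc_23_3 lc_g_rc_26_9 lc_g_rc_25_11 lc_g_Cert_tree lc_g_rc_27_6 lc_g_rc_21_2 lc_g_rc_27_3 lc_g_rc_24_3 lc_g_rc_24_7 lc_g_rc_26_0 lc_g_rc_24_3 lc_g_rc_27_6 lc_g_rc_21_3 lc_g_Cert_tree lc_g_rc_23_7 lc_g_rc_26_9 lc_g_rc_26_6 lc_g_rc_26_9 lc_g_rc_23_1 lc_g_Cert_tree lc_g_rc_21_2 lc_g_rc_23_9 lc_g_rc_26_3 lc_g_rc_24_1 lc_g_rc_25_19 lc_g_Cert_tree lc_g_rc_27_3 lc_g_Cert_tree lc_g_rc_26_3 lc_g_rc_24_7 lc_g_rc_26_0 lc_g_rc_21_2 lc_g_rc_27_6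 lc_g_rc_21_3 lc_g_rc_24_1 lc_g_rc_26_0 lc_g_rc_24_9 lc_g_rc_26_9 lc_g_rc_27_6) (@D3.rec (fun _ => (Cert rels S Gen.g)) lc_g_rc_26_6 lc_g_rc_26_3 lc_g_Cert_tree lc_g_Cert_tree lc_g_rc_21_3 lc_g_Cert_tree lc_g_rc_27_0 lc_g_rc_21_2 lc_g_rc_27_3 lc_g_Cert_tree lc_g_rc_24_9 lc_g_rc_23_1 lc_g_rc_23_7 lc_g_Cert_tree lc_g_rc_27_6 lc_g_Cert_tree lc_g_rc_26_3 lc_g_rc_24_7 lc_g_rc_26_9 lc_g_rc_27_6 lc_g_rc_26_0 lc_g_rc_27_6 lc_g_Cert_tree lc_g_rc_26_9 lc_g_rc_26_6 lc_g_rc_21_2 lc_g_rc_24_3 lc_g_rc_21_3 lc_g_rc_26_9 lc_g_rc_27_3 lc_g_rc_26_6 lc_g_rc_21_2 lc_g_rc_26_3 lc_g_rc_21_2 lc_g_Cert_tree lc_g_rc_24_9 lc_g_rc_24_3 lc_g_rc_21_3 lc_g_Cert_tree lc_g_rc_23_7 lc_g_rc_21_2 lc_g_rc_23_1 lc_g_rc_24_7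 lc_g_rc_23_1 lc_g_Cert_tree lc_g_rc_26_6 lc_g_rc_21_3 lc_g_Cert_tree lc_g_rc_24_1 lc_g_rc_24_1 lc_g_rc_24_1 lc_g_rc_21_3 lc_g_Cert_tree lc_g_rc_21_2 lc_g_Cert_tree lc_g_rc_26_3 lc_g_rc_24_1 lc_g_rc_23_1 lc_g_rc_21_3 lc_g_Cert_tree lc_g_rc_23_3 lc_g_rc_21_2) (@D3.rec (fun _ => (Cert rels S Gen.g)) lc_g_Cert_tree lc_g_rc_27_6 lc_g_rc_21_2 lc_g_Cert_tree lc_g_rc_21_2 lc_g_rc_23_1 lc_g_rc_24_1 lc_g_rc_21_2 lc_g_rc_27_9 lc_g_rc_23_3 lc_g_Cert_tree lc_g_rc_26_9 lc_g_Cert_tree lc_g_rc_21_2 lc_g_rc_21_3 lc_g_rc_21_2 lc_g_rc_27_0 lc_g_rc_21_3 lc_g_rc_26_0 lc_g_rc_24_1 lc_g_rc_21_2 lc_g_rc_21_3 lc_g_rc_21_3 lc_g_rc_21_2 lc_g_rc_27_6 lc_g_rc_26_3 lc_g_Cert_tree lc_g_rc_23_9 lc_g_rc_26_3 lc_g_rc_26_0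 lc_g_Cert_tree lc_g_rc_21_3 lc_g_rc_27_6 lc_g_rc_21_3 lc_g_rc_26_0 lc_g_Cert_tree lc_g_rc_21_2 lc_g_Cert_tree lc_g_rc_21_2 lc_g_rc_26_6 lc_g_rc_26_6 lc_g_rc_21_2 lc_g_rc_27_6 lc_g_rc_26_0 lc_g_rc_21_2 lc_g_rc_26_3 lc_g_rc_26_6 lc_g_rc_23_7 lc_g_rc_24_3 lc_g_rc_24_9 lc_g_rc_24_3 lc_g_rc_21_3 lc_g_Cert_tree lc_g_rc_25_19 lc_g_rc_21_2 lc_g_rc_25_19 lc_g_Cert_tree lc_g_rc_26_0 lc_g_rc_25_19 lc_g_rc_27_6 lc_g_rc_24_1 lc_g_rc_27_3) (@D3.rec (fun _ => (Cert rels S Gen.g)) lc_g_rc_27_6 lc_g_rc_27_6 lc_g_rc_24_1 lc_g_rc_23_3 lc_g_rc_21_2 lc_g_rc_26_0 lc_g_rc_24_1 lc_g_rc_26_0 lc_g_rc_21_3 lc_g_Cert_tree lc_g_Cert_tree lc_g_rc_21_2 lc_g_Cert_tree lc_g_rc_23_3 lc_g_rc_27_3 lc_g_rc_27_6 lc_g_Cert_tree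 lc_g_rc_25_11 lc_g_rc_27_9 lc_g_Cert_tree lc_g_rc_21_2 lc_g_rc_27_6 lc_g_rc_27_0 lc_g_Cert_tree lc_g_rc_27_6 lc_g_rc_21_2 lc_g_rc_24_1 lc_g_rc_27_6 lc_g_rc_27_0 lc_g_Cert_tree lc_g_rc_26_6 lc_g_rc_21_3 lc_g_rc_21_2 lc_g_rc_21_3 lc_g_Cert_tree lc_g_rc_21_2 lc_g_rc_24_1 lc_g_rc_26_3 lc_g_rc_21_3 lc_g_rc_25_19 lc_g_rc_21_3 lc_g_rc_21_3 lc_g_rc_26_6 lc_g_Cert_tree lc_g_Cert_tree lc_g_rc_27_3 lc_g_rc_26_3 lc_g_rc_21_3 lc_g_Cert_tree lc_g_Cert_tree lc_g_rc_21_2 lc_g_rc_23_1 lc_g_Cert_tree lc_g_rc_27_3 lc_g_Cert_tree lc_g_rc_21_3 lc_g_rc_27_0 lc_g_rc_21_3 lc_g_Cert_tree lc_g_rc_26_0 lc_g_rc_24_1 lc_g_rc_27_6) (@D3.rec (fun _ => (Cert rels S Gen.g)) lc_g_rc_26_3 lc_g_rc_27_6 lc_g_rc_24_3 lc_g_rc_27_0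 lc_g_rc_23_3 lc_g_Cert_tree lc_g_rc_23_1 lc_g_rc_27_3 lc_g_Cert_tree lc_g_rc_23_3 lc_g_rc_27_3 lc_g_rc_24_1 lc_g_rc_26_6 lc_g_rc_26_9 lc_g_rc_27_9 lc_g_rc_21_3 lc_g_rc_27_3 lc_g_rc_27_3 lc_g_rc_21_3 lc_g_Cert_tree lc_g_rc_27_6 lc_g_rc_21_2 lc_g_rc_24_3 lc_g_rc_21_2 lc_g_rc_25_3 lc_g_rc_27_3 lc_g_Cert_tree lc_g_rc_26_3 lc_g_rc_27_3 lc_g_rc_25_3 lc_g_rc_25_11 lc_g_rc_21_2 lc_g_Cert_tree lc_g_rc_21_3 lc_g_Cert_tree lc_g_rc_26_6 lc_g_rc_23_7 lc_g_rc_24_9 lc_g_rc_26_6 lc_g_rc_23_9 lc_g_rc_27_6 lc_g_rc_26_9 lc_g_rc_21_2 lc_g_rc_25_3 lc_g_rc_23_9 lc_g_rc_27_3 lc_g_Cert_tree lc_g_rc_26_6 lc_g_rc_23_3 lc_g_rc_21_2 lc_g_rc_21_2 lc_g_rc_27_6 lc_g_rc_26_6 lc_g_rc_21_3 lc_g_rc_27_6 lc_g_rc_21_3 lc_g_Cert_tree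 lc_g_Cert_tree lc_g_rc_26_6 lc_g_rc_25_7 lc_g_rc_21_3 lc_g_rc_21_2) (@D3.rec (fun _ => (Cert rels S Gen.g)) lc_g_rc_26_0 lc_g_rc_27_6 lc_g_rc_21_3 lc_g_rc_21_2 lc_g_rc_23_1 lc_g_rc_27_0 lc_g_rc_21_3 lc_g_rc_21_2 lc_g_rc_24_3 lc_g_rc_26_0 lc_g_rc_23_3 lc_g_rc_21_3 lc_g_rc_24_9 lc_g_rc_24_7 lc_g_rc_27_6 lc_g_rc_26_3 lc_g_rc_23_3 lc_g_rc_21_3 lc_g_rc_26_9 lc_g_rc_26_9 lc_g_rc_21_3 lc_g_Cert_tree lc_g_rc_23_1 lc_g_rc_25_7 lc_g_rc_23_7 lc_g_rc_26_0 lc_g_rc_27_0 lc_g_rc_26_6 lc_g_rc_21_3 lc_g_Cert_tree lc_g_rc_27_3 lc_g_rc_21_2 lc_g_rc_27_9 lc_g_rc_21_3 lc_g_rc_24_3 lc_g_rc_26_6 lc_g_rc_27_6 lc_g_rc_21_3 lc_g_rc_23_7 lc_g_rc_21_3 lc_g_rc_26_9 lc_g_rc_23_9 lc_g_rc_27_6 lc_g_rc_21_2 lc_g_rc_27_6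 lc_g_rc_21_3 lc_g_Cert_tree lc_g_rc_26_9 lc_g_rc_27_3 lc_g_rc_24_7 lc_g_rc_21_2 lc_g_rc_27_6 lc_g_rc_23_1 lc_g_rc_21_3 lc_g_rc_21_3 lc_g_Cert_tree lc_g_rc_27_3 lc_g_rc_21_3 lc_g_Cert_tree lc_g_rc_27_0 lc_g_rc_21_2 lc_g_rc_26_6) (@D3.rec (fun _ => (Cert rels S Gen.g)) lc_g_rc_23_3 lc_g_Cert_tree lc_g_rc_23_1 lc_g_rc_26_9 lc_g_rc_26_9 lc_g_rc_24_1 lc_g_rc_27_6 lc_g_rc_21_3 lc_g_Cert_tree lc_g_Cert_tree lc_g_rc_21_3 lc_g_rc_21_2 lc_g_rc_26_9 lc_g_rc_27_6 lc_g_rc_21_3 lc_g_Cert_tree lc_g_rc_27_3 lc_g_rc_21_2 lc_g_rc_24_7 lc_g_rc_24_3 lc_g_rc_27_6 lc_g_rc_27_3 lc_g_rc_26_3 lc_g_rc_26_0 lc_g_rc_27_6 lc_g_rc_27_6 lc_g_rc_26_3 lc_g_rc_21_2 lc_g_rc_27_0 lc_g_rc_24_1 lc_g_rc_23_1 lc_g_rc_26_6 lc_g_rc_21_3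 lc_g_Cert_tree lc_g_rc_21_2 lc_g_rc_27_3 lc_g_rc_27_3 lc_g_rc_23_3 lc_g_rc_23_9 lc_g_Cert_tree lc_g_Cert_tree lc_g_rc_23_7 lc_g_rc_24_9 lc_g_rc_26_0 lc_g_rc_26_0 lc_g_rc_27_6 lc_g_Cert_tree lc_g_rc_23_7 lc_g_rc_26_6 lc_g_rc_27_3 lc_g_rc_27_0 lc_g_Cert_tree lc_g_rc_21_3 lc_g_rc_21_2 lc_g_rc_27_9 lc_g_Cert_tree lc_g_rc_27_3 lc_g_rc_21_2 lc_g_rc_26_0 lc_g_rc_21_2 lc_g_rc_25_3 lc_g_rc_26_0) (@D3.rec (fun _ => (Cert rels S Gen.g)) lc_g_rc_21_2 lc_g_rc_24_3 lc_g_rc_21_3 lc_g_rc_26_9 lc_g_rc_23_3 lc_g_rc_21_3 lc_g_rc_23_9 lc_g_rc_27_6 lc_g_rc_27_6 lc_g_rc_21_2 lc_g_rc_21_2 lc_g_rc_26_9 lc_g_rc_24_9 lc_g_rc_26_9 lc_g_Cert_tree lc_g_rc_26_6 lc_g_rc_23_1 lc_g_rc_26_6 lc_g_rc_21_3 lc_g_rc_21_3 lc_g_Cert_tree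 lc_g_Cert_tree lc_g_rc_27_3 lc_g_rc_23_7 lc_g_Cert_tree lc_g_rc_21_2 lc_g_rc_23_1 lc_g_Cert_tree lc_g_rc_24_3 lc_g_rc_24_3 lc_g_rc_24_3 lc_g_rc_21_2 lc_g_rc_21_3 lc_g_rc_24_7 lc_g_rc_27_3 lc_g_rc_21_2 lc_g_rc_21_2 lc_g_rc_24_1 lc_g_rc_27_9 lc_g_Cert_tree lc_g_rc_23_3 lc_g_rc_27_6 lc_g_Cert_tree lc_g_rc_26_9 lc_g_rc_26_9 lc_g_Cert_tree lc_g_rc_24_3 lc_g_rc_21_2 lc_g_rc_21_2 lc_g_rc_24_3 lc_g_rc_24_1 lc_g_rc_23_3 lc_g_rc_25_3 lc_g_rc_21_2 lc_g_rc_27_6 lc_g_rc_27_9 lc_g_rc_21_2 lc_g_rc_23_3 lc_g_rc_26_3 lc_g_Cert_tree lc_g_rc_23_1 lc_g_rc_21_2) (@D3.rec (fun _ => (Cert rels S Gen.g)) lc_g_rc_23_3 lc_g_rc_23_1 lc_g_rc_23_1 lc_g_rc_23_3 lc_g_rc_27_6 lc_g_rc_21_2 lc_g_rc_23_1 lc_g_rc_21_2 lc_g_Cert_tree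 lc_g_rc_21_2 lc_g_rc_24_7 lc_g_rc_21_2 lc_g_rc_25_15 lc_g_rc_21_2 lc_g_rc_26_6 lc_g_rc_26_0 lc_g_rc_27_6 lc_g_Cert_tree lc_g_rc_24_1 lc_g_Cert_tree lc_g_rc_21_3 lc_g_Cert_tree lc_g_rc_25_19 lc_g_rc_21_3 lc_g_rc_24_9 lc_g_rc_27_3 lc_g_rc_23_9 lc_g_rc_23_3 lc_g_rc_21_3 lc_g_rc_24_3 lc_g_rc_21_2 lc_g_rc_23_9 lc_g_rc_27_6 lc_g_rc_21_3 lc_g_rc_26_3 lc_g_rc_26_3 lc_g_Cert_tree lc_g_rc_27_0 lc_g_rc_21_3 lc_g_rc_27_3 lc_g_rc_24_3 lc_g_rc_26_0 lc_g_rc_21_3 lc_g_rc_24_1 lc_g_rc_26_0 lc_g_rc_23_3 lc_g_rc_21_3 lc_g_rc_26_0 lc_g_rc_24_9 lc_g_rc_27_0 lc_g_rc_24_7 lc_g_rc_27_6 lc_g_rc_27_0 lc_g_rc_21_3 lc_g_rc_21_3 lc_g_rc_24_3 lc_g_rc_26_6 lc_g_rc_24_1 lc_g_rc_24_3 lc_g_rc_24_9 lc_g_rc_21_3 lc_g_rc_26_3)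 (@D3.rec (fun _ => (Cert rels S Gen.g)) lc_g_rc_27_6 lc_g_rc_26_6 lc_g_rc_21_2 lc_g_rc_25_19 lc_g_rc_23_3 lc_g_rc_27_3 lc_g_rc_26_6 lc_g_rc_21_3 lc_g_rc_23_3 lc_g_rc_23_3 lc_g_Cert_tree lc_g_rc_21_2 lc_g_rc_26_3 lc_g_rc_27_6 lc_g_rc_21_3 lc_g_rc_26_3 lc_g_rc_26_6 lc_g_rc_27_6 lc_g_rc_27_3 lc_g_rc_24_1 lc_g_rc_23_9 lc_g_rc_26_3 lc_g_rc_23_7 lc_g_rc_21_3 lc_g_Cert_tree lc_g_rc_21_3 lc_g_Cert_tree lc_g_rc_26_3 lc_g_rc_21_2 lc_g_rc_24_3 lc_g_rc_24_3 lc_g_Cert_tree lc_g_rc_23_7 lc_g_rc_24_9 lc_g_rc_26_6 lc_g_rc_27_6 lc_g_rc_24_3 lc_g_rc_25_19 lc_g_rc_27_6 lc_g_rc_27_3 lc_g_rc_21_3 lc_g_Cert_tree lc_g_rc_24_3 lc_g_rc_21_3 lc_g_rc_21_3 lc_g_rc_23_7 lc_g_rc_21_3 lc_g_rc_26_0 lc_g_Cert_tree lc_g_rc_27_3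 lc_g_rc_27_3 lc_g_rc_26_0 lc_g_rc_26_6 lc_g_rc_21_2 lc_g_rc_21_3 lc_g_Cert_tree lc_g_rc_24_3 lc_g_rc_21_2 lc_g_rc_21_3 lc_g_rc_23_9 lc_g_rc_21_2 lc_g_rc_27_0) (@D3.rec (fun _ => (Cert rels S Gen.g)) lc_g_rc_21_3 lc_g_rc_21_2 lc_g_Cert_tree lc_g_rc_24_3 lc_g_Cert_tree lc_g_rc_23_9 lc_g_rc_21_3 lc_g_Cert_tree lc_g_rc_27_6 lc_g_rc_21_3 lc_g_Cert_tree lc_g_Cert_tree lc_g_rc_23_1 lc_g_rc_21_2 lc_g_rc_27_3 lc_g_Cert_tree lc_g_rc_26_6 lc_g_rc_27_0 lc_g_rc_26_9 lc_g_rc_25_19 lc_g_rc_21_2 lc_g_Cert_tree lc_g_rc_21_2 lc_g_rc_26_0 lc_g_rc_21_3 lc_g_Cert_tree lc_g_rc_27_6 lc_g_rc_27_9 lc_g_rc_21_3 lc_g_Cert_tree lc_g_Cert_tree lc_g_rc_21_2 lc_g_rc_26_3 lc_g_rc_23_7 lc_g_rc_23_3 lc_g_rc_24_3 lc_g_rc_27_3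 lc_g_rc_23_7 lc_g_rc_23_9 lc_g_rc_23_1 lc_g_rc_21_2 lc_g_rc_27_6 lc_g_rc_21_3 lc_g_rc_26_0 lc_g_rc_21_3 lc_g_Cert_tree lc_g_Cert_tree lc_g_rc_21_2 lc_g_rc_21_3 lc_g_Cert_tree lc_g_rc_26_9 lc_g_rc_21_2 lc_g_rc_27_0 lc_g_rc_21_2 lc_g_Cert_tree lc_g_rc_27_0 lc_g_rc_21_2 lc_g_rc_21_3 lc_g_Cert_tree lc_g_rc_27_6 lc_g_rc_21_2 lc_g_rc_24_7) (@D3.rec (fun _ => (Cert rels S Gen.g)) lc_g_Cert_tree lc_g_rc_27_6 lc_g_rc_24_1 lc_g_Cert_tree lc_g_rc_27_3 lc_g_rc_21_2 lc_g_rc_23_1 lc_g_rc_27_6 lc_g_rc_23_1 lc_g_Cert_tree lc_g_rc_21_2 lc_g_rc_21_3 lc_g_rc_26_6 lc_g_rc_21_3 lc_g_rc_26_6 lc_g_rc_21_2 lc_g_Cert_tree lc_g_rc_21_3 lc_g_rc_27_6 lc_g_rc_27_0 lc_g_rc_27_0 lc_g_rc_26_9 lc_g_rc_26_3 lc_g_rc_23_7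 lc_g_rc_26_0 lc_g_rc_27_6 lc_g_Cert_tree lc_g_rc_27_6 lc_g_rc_26_6 lc_g_rc_27_6 lc_g_rc_21_3 lc_g_rc_24_3 lc_g_rc_21_2 lc_g_rc_27_6 lc_g_rc_23_9 lc_g_rc_24_3 lc_g_rc_21_2 lc_g_rc_21_3 lc_g_Cert_tree lc_g_rc_21_2 lc_g_rc_27_0 lc_g_rc_21_3 lc_g_rc_26_0 lc_g_rc_26_6 lc_g_rc_27_6 lc_g_rc_27_0 lc_g_rc_21_3 lc_g_Cert_tree lc_g_rc_26_9 lc_g_rc_27_0 lc_g_rc_21_2 lc_g_rc_23_7 lc_g_rc_27_3 lc_g_rc_23_7 lc_g_rc_25_19 lc_g_rc_27_3 lc_g_rc_24_7 lc_g_rc_21_2 lc_g_rc_21_3 lc_g_Cert_tree lc_g_rc_27_0 lc_g_rc_21_3) (@D3.rec (fun _ => (Cert rels S Gen.g)) lc_g_Cert_tree lc_g_rc_26_6 lc_g_rc_21_3 lc_g_rc_27_3 lc_g_rc_21_3 lc_g_rc_23_3 lc_g_rc_21_3 lc_g_Cert_tree lc_g_rc_27_3 lc_g_Cert_tree lc_g_Cert_tree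 lc_g_rc_21_2 lc_g_rc_21_3 lc_g_Cert_tree lc_g_rc_21_2 lc_g_rc_21_2 lc_g_rc_21_3 lc_g_rc_26_6 lc_g_rc_27_6 lc_g_rc_21_3 lc_g_Cert_tree lc_g_Cert_tree lc_g_rc_21_2 lc_g_rc_24_1 lc_g_rc_21_3 lc_g_Cert_tree lc_g_rc_21_2 lc_g_rc_21_3 lc_g_rc_24_3 lc_g_rc_24_9 lc_g_rc_27_0 lc_g_rc_21_3 lc_g_rc_21_3 lc_g_rc_21_2 lc_g_rc_21_2 lc_g_rc_24_3 lc_g_rc_21_3 lc_g_Cert_tree lc_g_rc_21_2 lc_g_rc_27_0 lc_g_rc_21_2 lc_g_rc_21_2 lc_g_rc_26_3 lc_g_Cert_tree lc_g_rc_27_3 lc_g_rc_26_0 lc_g_rc_25_3 lc_g_rc_21_3 lc_g_rc_21_2 lc_g_rc_21_3 lc_g_Cert_tree lc_g_rc_21_2 lc_g_rc_26_3 lc_g_rc_23_3 lc_g_rc_21_2 lc_g_rc_27_6 lc_g_rc_26_6 lc_g_rc_27_6 lc_g_rc_27_3 lc_g_rc_23_7 lc_g_rc_21_3 lc_g_rc_27_0) (@D3.rec (fun _ =>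 (Cert rels S Gen.g)) lc_g_Cert_tree lc_g_rc_26_0 lc_g_rc_21_3 lc_g_Cert_tree lc_g_rc_21_2 lc_g_rc_21_2 lc_g_rc_23_1 lc_g_rc_27_6 lc_g_rc_26_3 lc_g_Cert_tree lc_g_rc_27_0 lc_g_rc_25_3 lc_g_rc_26_3 lc_g_rc_23_1 lc_g_rc_23_1 lc_g_rc_24_1 lc_g_rc_26_0 lc_g_rc_27_3 lc_g_rc_21_2 lc_g_rc_21_2 lc_g_rc_27_0 lc_g_rc_26_6 lc_g_rc_26_9 lc_g_rc_23_7 lc_g_rc_21_3 lc_g_rc_25_15 lc_g_rc_24_3 lc_g_rc_21_2 lc_g_rc_21_3 lc_g_Cert_tree lc_g_rc_24_3 lc_g_rc_23_1 lc_g_rc_21_2 lc_g_rc_21_2 lc_g_rc_21_3 lc_g_rc_27_3 lc_g_rc_21_2 lc_g_rc_21_3 lc_g_rc_21_2 lc_g_rc_23_7 lc_g_rc_27_0 lc_g_rc_26_6 lc_g_rc_26_0 lc_g_rc_27_9 lc_g_rc_21_3 lc_g_rc_21_3 lc_g_rc_21_2 lc_g_rc_27_3 lc_g_rc_21_2 lc_g_rc_21_3 lc_g_rc_23_7 lc_g_rc_27_6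 lc_g_rc_26_3 lc_g_rc_24_3 lc_g_Cert_tree lc_g_rc_26_3 lc_g_rc_23_3 lc_g_rc_26_0 lc_g_rc_26_3 lc_g_rc_23_3 lc_g_rc_24_1 lc_g_rc_23_7) (@D3.rec (fun _ => (Cert rels S Gen.g)) lc_g_rc_27_6 lc_g_rc_23_7 lc_g_rc_24_1 lc_g_rc_21_2 lc_g_rc_26_9 lc_g_rc_27_9 lc_g_rc_26_6 lc_g_rc_21_2 lc_g_rc_26_0 lc_g_rc_26_6 lc_g_rc_21_3 lc_g_Cert_tree lc_g_rc_23_9 lc_g_rc_27_6 lc_g_rc_27_6 lc_g_rc_27_3 lc_g_rc_27_3 lc_g_rc_26_3 lc_g_rc_27_6 lc_g_rc_21_2 lc_g_rc_27_3 lc_g_rc_23_9 lc_g_rc_27_6 lc_g_rc_21_2 lc_g_rc_21_2 lc_g_rc_27_3 lc_g_rc_24_1 lc_g_rc_21_3 lc_g_Cert_tree lc_g_rc_21_2 lc_g_rc_21_2 lc_g_rc_26_9 lc_g_rc_24_1 lc_g_Cert_tree lc_g_rc_26_0 lc_g_rc_23_7 lc_g_rc_26_6 lc_g_rc_27_9 lc_g_rc_21_3 lc_g_Cert_tree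 lc_g_rc_24_3 lc_g_rc_21_2 lc_g_rc_24_1 lc_g_rc_23_9 lc_g_rc_21_2 lc_g_rc_21_2 lc_g_rc_23_9 lc_g_rc_21_3 lc_g_rc_27_6 lc_g_rc_23_3 lc_g_Cert_tree lc_g_rc_21_3 lc_g_rc_21_2 lc_g_rc_21_2 lc_g_rc_26_6 lc_g_rc_27_9 lc_g_rc_27_0 lc_g_rc_26_0 lc_g_rc_27_9 lc_g_rc_21_3 lc_g_Cert_tree lc_g_rc_24_7) (@D3.rec (fun _ => (Cert rels S Gen.g)) lc_g_rc_27_9 lc_g_Cert_tree lc_g_rc_21_3 lc_g_rc_23_7 lc_g_rc_23_9 lc_g_rc_23_3 lc_g_rc_26_9 lc_g_rc_23_3 lc_g_Cert_tree lc_g_rc_27_3 lc_g_rc_24_3 lc_g_rc_24_3 lc_g_Cert_tree lc_g_rc_26_0 lc_g_rc_27_9 lc_g_rc_21_2 lc_g_rc_21_2 lc_g_rc_27_9 lc_g_rc_23_9 lc_g_Cert_tree lc_g_Cert_tree lc_g_Cert_tree lc_g_rc_25_3 lc_g_rc_24_3 lc_g_rc_26_6 lc_g_Cert_tree lc_g_Cert_tree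 lc_g_Cert_tree lc_g_rc_21_3 lc_g_Cert_tree lc_g_rc_24_9 lc_g_Cert_tree lc_g_rc_23_9 lc_g_rc_21_3 lc_g_rc_24_1 lc_g_rc_27_0 lc_g_rc_23_7 lc_g_rc_26_0 lc_g_rc_27_3 lc_g_rc_21_3 lc_g_Cert_tree lc_g_rc_27_3 lc_g_rc_21_2 lc_g_rc_24_1 lc_g_rc_21_3 lc_g_Cert_tree lc_g_rc_26_3 lc_g_rc_21_3 lc_g_rc_23_1 lc_g_rc_21_2 lc_g_rc_23_7 lc_g_rc_23_3 lc_g_rc_21_2 lc_g_rc_21_3 lc_g_rc_24_3 lc_g_Cert_tree lc_g_rc_24_9 lc_g_rc_24_3 lc_g_rc_24_3 lc_g_rc_24_3 lc_g_Cert_tree lc_g_rc_27_6) (@D3.rec (fun _ => (Cert rels S Gen.g)) lc_g_rc_21_3 lc_g_rc_26_9 lc_g_rc_21_3 lc_g_Cert_tree lc_g_rc_24_3 lc_g_rc_21_2 lc_g_rc_21_2 lc_g_rc_21_3 lc_g_Cert_tree lc_g_rc_25_3 lc_g_rc_27_6 lc_g_Cert_tree lc_g_rc_21_2 lc_g_rc_21_3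 lc_g_rc_26_9 lc_g_rc_24_1 lc_g_rc_27_9 lc_g_rc_21_2 lc_g_rc_27_3 lc_g_rc_27_3 lc_g_rc_26_0 lc_g_rc_27_3 lc_g_rc_21_3 lc_g_rc_26_6 lc_g_Cert_tree lc_g_rc_26_6 lc_g_rc_23_7 lc_g_rc_21_2 lc_g_rc_21_2 lc_g_rc_21_3 lc_g_rc_21_2 lc_g_rc_21_2 lc_g_rc_21_3 lc_g_Cert_tree lc_g_rc_27_6 lc_g_rc_23_7 lc_g_rc_21_2 lc_g_Cert_tree lc_g_rc_26_9 lc_g_rc_21_3 lc_g_Cert_tree lc_g_rc_24_3 lc_g_Cert_tree lc_g_rc_27_9 lc_g_rc_21_3 lc_g_rc_27_0 lc_g_rc_21_3 lc_g_rc_27_6 lc_g_rc_21_3 lc_g_rc_24_7 lc_g_rc_21_3 lc_g_Cert_tree lc_g_rc_27_6 lc_g_rc_27_6 lc_g_rc_21_2 lc_g_rc_26_6 lc_g_Cert_tree lc_g_rc_21_3 lc_g_Cert_tree lc_g_rc_21_2 lc_g_rc_27_6 lc_g_Cert_tree) (@D3.rec (fun _ => (Cert rels S Gen.g)) lc_g_rc_21_3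 lc_g_Cert_tree lc_g_rc_23_7 lc_g_rc_26_0 lc_g_rc_27_3 lc_g_rc_26_3 lc_g_rc_24_7 lc_g_rc_27_0 lc_g_rc_21_3 lc_g_rc_21_2 lc_g_rc_21_3 lc_g_rc_23_7 lc_g_rc_26_9 lc_g_rc_25_11 lc_g_rc_21_2 lc_g_rc_26_3 lc_g_rc_23_7 lc_g_rc_21_3 lc_g_Cert_tree lc_g_rc_27_9 lc_g_rc_21_3 lc_g_rc_21_2 lc_g_rc_21_2 lc_g_rc_21_3 lc_g_rc_25_15 lc_g_rc_21_2 lc_g_Cert_tree lc_g_rc_21_2 lc_g_rc_21_2 lc_g_Cert_tree lc_g_rc_25_3 lc_g_rc_21_2 lc_g_rc_23_7 lc_g_rc_27_6 lc_g_rc_21_2 lc_g_rc_24_3 lc_g_rc_26_3 lc_g_Cert_tree lc_g_rc_26_0 lc_g_rc_27_6 lc_g_rc_23_3 lc_g_rc_25_19 lc_g_rc_26_6 lc_g_Cert_tree lc_g_rc_21_3 lc_g_Cert_tree lc_g_rc_21_2 lc_g_rc_21_3 lc_g_Cert_tree lc_g_Cert_tree lc_g_rc_21_3 lc_g_Cert_tree lc_g_rc_23_3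 lc_g_rc_26_6 lc_g_Cert_tree lc_g_rc_23_3 lc_g_rc_26_3 lc_g_rc_21_2 lc_g_rc_23_9 lc_g_rc_25_7 lc_g_rc_24_7 lc_g_rc_25_3) (@D3.rec (fun _ => (Cert rels S Gen.g)) lc_g_Cert_tree lc_g_rc_24_7 lc_g_Cert_tree lc_g_rc_21_2 lc_g_Cert_tree lc_g_rc_27_9 lc_g_Cert_tree lc_g_Cert_tree lc_g_rc_27_6 lc_g_Cert_tree lc_g_rc_27_3 lc_g_Cert_tree lc_g_rc_21_3 lc_g_rc_21_2 lc_g_rc_21_2 lc_g_Cert_tree lc_g_rc_27_0 lc_g_rc_26_3 lc_g_rc_27_3 lc_g_rc_24_1 lc_g_Cert_tree lc_g_rc_26_6 lc_g_rc_21_3 lc_g_rc_24_1 lc_g_rc_27_0 lc_g_rc_25_11 lc_g_rc_24_1 lc_g_rc_26_6 lc_g_rc_21_3 lc_g_rc_21_3 lc_g_rc_27_6 lc_g_rc_21_2 lc_g_rc_21_3 lc_g_Cert_tree lc_g_rc_21_2 lc_g_rc_21_2 lc_g_rc_27_6 lc_g_rc_21_3 lc_g_rc_21_2 lc_g_rc_21_2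 lc_g_rc_21_3 lc_g_Cert_tree lc_g_rc_21_2 lc_g_rc_21_2 lc_g_rc_23_3 lc_g_rc_21_2 lc_g_rc_21_2 lc_g_Cert_tree lc_g_rc_21_2 lc_g_rc_27_3 lc_g_rc_27_3 lc_g_rc_23_1 lc_g_rc_21_2 lc_g_rc_23_7 lc_g_rc_21_3 lc_g_Cert_tree lc_g_rc_27_6 lc_g_Cert_tree lc_g_rc_23_1 lc_g_rc_21_2 lc_g_rc_23_1 lc_g_Cert_tree) (@D3.rec (fun _ => (Cert rels S Gen.g)) lc_g_rc_24_3 lc_g_rc_23_1 lc_g_rc_23_3 lc_g_rc_21_3 lc_g_rc_21_3 lc_g_rc_21_2 lc_g_rc_27_9 lc_g_rc_27_9 lc_g_rc_27_3 lc_g_Cert_tree lc_g_rc_21_2 lc_g_rc_25_7 lc_g_rc_23_7 lc_g_rc_26_9 lc_g_rc_24_7 lc_g_rc_27_6 lc_g_rc_23_7 lc_g_Cert_tree lc_g_rc_21_2 lc_g_rc_24_3 lc_g_rc_21_2 lc_g_rc_27_3 lc_g_Cert_tree lc_g_rc_27_6 lc_g_Cert_tree lc_g_Cert_tree lc_g_rc_27_6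 lc_g_rc_26_3 lc_g_rc_23_1 lc_g_rc_23_7 lc_g_rc_26_6 lc_g_rc_23_3 lc_g_rc_21_2 lc_g_rc_21_3 lc_g_Cert_tree lc_g_rc_21_3 lc_g_Cert_tree lc_g_Cert_tree lc_g_rc_21_2 lc_g_rc_23_3 lc_g_rc_21_3 lc_g_rc_21_2 lc_g_Cert_tree lc_g_rc_21_2 lc_g_rc_21_2 lc_g_rc_24_3 lc_g_Cert_tree lc_g_rc_26_6 lc_g_Cert_tree lc_g_rc_26_3 lc_g_rc_26_0 lc_g_rc_23_3 lc_g_Cert_tree lc_g_rc_26_3 lc_g_rc_24_1 lc_g_rc_23_3 lc_g_rc_21_2 lc_g_Cert_tree lc_g_rc_21_3 lc_g_Cert_tree lc_g_rc_26_6 lc_g_rc_26_6) (@D3.rec (fun _ => (Cert rels S Gen.g)) lc_g_rc_21_3 lc_g_Cert_tree lc_g_rc_27_6 lc_g_Cert_tree lc_g_rc_21_2 lc_g_rc_23_3 lc_g_rc_27_6 lc_g_rc_21_2 lc_g_rc_26_9 lc_g_rc_24_7 lc_g_rc_27_9 lc_g_rc_27_6 lc_g_rc_24_3 lc_g_rc_26_3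 lc_g_Cert_tree lc_g_rc_27_6 lc_g_rc_26_6 lc_g_rc_26_0 lc_g_rc_27_3 lc_g_rc_26_6 lc_g_Cert_tree lc_g_rc_26_3 lc_g_rc_21_3 lc_g_Cert_tree lc_g_rc_23_3 lc_g_rc_21_3 lc_g_rc_21_2 lc_g_rc_26_3 lc_g_Cert_tree lc_g_rc_21_3 lc_g_rc_21_2 lc_g_rc_21_3 lc_g_rc_27_3 lc_g_rc_27_9 lc_g_rc_27_9 lc_g_rc_27_0 lc_g_rc_27_6 lc_g_rc_23_3 lc_g_rc_24_1 lc_g_rc_21_3 lc_g_rc_26_0 lc_g_rc_21_2 lc_g_rc_21_2 lc_g_rc_21_3 lc_g_rc_24_1 lc_g_Cert_tree lc_g_rc_27_6 lc_g_rc_23_1 lc_g_rc_21_2 lc_g_rc_27_0 lc_g_Cert_tree lc_g_rc_26_6 lc_g_rc_23_7 lc_g_rc_27_3 lc_g_rc_23_1 lc_g_rc_27_3 lc_g_rc_27_3 lc_g_rc_24_3 lc_g_Cert_tree lc_g_rc_26_3 lc_g_Cert_tree lc_g_Cert_tree) (@D3.rec (fun _ => (Cert rels S Gen.g)) lc_g_rc_27_6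 lc_g_rc_27_6 lc_g_rc_24_3 lc_g_rc_27_0 lc_g_Cert_tree lc_g_rc_24_9 lc_g_rc_26_6 lc_g_rc_23_3 lc_g_rc_23_1 lc_g_rc_24_9 lc_g_rc_24_1 lc_g_rc_21_2 lc_g_rc_21_3 lc_g_Cert_tree lc_g_rc_21_2 lc_g_rc_21_2 lc_g_rc_21_3 lc_g_Cert_tree lc_g_rc_24_9 lc_g_rc_24_1 lc_g_rc_27_9 lc_g_rc_21_3 lc_g_rc_27_3 lc_g_rc_27_6 lc_g_rc_26_3 lc_g_rc_27_6 lc_g_rc_21_3 lc_g_rc_26_0 lc_g_rc_26_6 lc_g_rc_27_9 lc_g_rc_23_3 lc_g_rc_23_1 lc_g_rc_21_3 lc_g_Cert_tree lc_g_rc_27_6 lc_g_rc_21_3 lc_g_Cert_tree lc_g_Cert_tree lc_g_rc_21_2 lc_g_Cert_tree lc_g_rc_21_2 lc_g_rc_21_2 lc_g_Cert_tree lc_g_rc_24_7 lc_g_rc_23_3 lc_g_rc_24_1 lc_g_rc_24_1 lc_g_rc_21_3 lc_g_rc_23_1 lc_g_rc_23_3 lc_g_rc_26_6 lc_g_rc_21_2 lc_g_rc_23_3 lc_g_Cert_tree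 lc_g_rc_21_3 lc_g_rc_21_2 lc_g_rc_26_6 lc_g_rc_21_2 lc_g_rc_24_3 lc_g_rc_21_3 lc_g_Cert_tree lc_g_rc_23_3) (@D3.rec (fun _ => (Cert rels S Gen.g)) lc_g_rc_24_9 lc_g_rc_24_1 lc_g_Cert_tree lc_g_rc_21_2 lc_g_rc_27_3 lc_g_rc_21_2 lc_g_rc_24_1 lc_g_rc_21_2 lc_g_rc_21_3 lc_g_Cert_tree lc_g_rc_21_2 lc_g_rc_23_1 lc_g_rc_21_2 lc_g_rc_21_2 lc_g_rc_26_0 lc_g_rc_24_1 lc_g_rc_27_9 lc_g_rc_27_6 lc_g_Cert_tree lc_g_Cert_tree lc_g_rc_27_3 lc_g_rc_24_7 lc_g_rc_27_6 lc_g_rc_26_9 lc_g_Cert_tree lc_g_rc_23_3 lc_g_rc_24_7 lc_g_rc_21_3 lc_g_rc_21_2 lc_g_rc_23_3 lc_g_rc_27_3 lc_g_rc_24_7 lc_g_rc_24_3 lc_g_Cert_tree lc_g_rc_26_3 lc_g_rc_26_3 lc_g_Cert_tree lc_g_rc_26_3 lc_g_rc_23_3 lc_g_rc_21_3 lc_g_rc_26_0 lc_g_rc_27_3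 lc_g_rc_27_3 lc_g_rc_23_1 lc_g_rc_24_3 lc_g_rc_24_3 lc_g_rc_21_3 lc_g_rc_21_2 lc_g_rc_26_3 lc_g_rc_23_3 lc_g_rc_23_7 lc_g_rc_21_2 lc_g_rc_27_9 lc_g_rc_27_3 lc_g_rc_21_3 lc_g_rc_21_3 lc_g_rc_21_2 lc_g_rc_26_6 lc_g_rc_26_6 lc_g_rc_21_2 lc_g_rc_21_2 lc_g_rc_21_3)
def ce_g_27 : D2 → D3 → (Cert rels S Gen.g) := @D2.rec (fun _ => D3 → (Cert rels S Gen.g)) (@D3.rec (fun _ => (Cert rels S Gen.g)) lc_g_rc_21_3 lc_g_Cert_tree lc_g_rc_21_2 lc_g_rc_26_6 lc_g_rc_23_9 lc_g_rc_27_0 lc_g_rc_21_3 lc_g_Cert_tree lc_g_rc_21_2 lc_g_rc_23_1 lc_g_rc_26_9 lc_g_rc_21_3 lc_g_Cert_tree lc_g_rc_27_0 lc_g_Cert_tree lc_g_rc_27_6 lc_g_rc_21_3 lc_g_Cert_tree lc_g_rc_27_3 lc_g_rc_23_1 lc_g_rc_27_6 lc_g_Cert_tree lc_g_rc_21_3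 lc_g_rc_24_3 lc_g_Cert_tree lc_g_Cert_tree lc_g_rc_26_3 lc_g_rc_27_3 lc_g_Cert_tree lc_g_rc_21_3 lc_g_rc_26_6 lc_g_rc_23_7 lc_g_rc_21_2 lc_g_rc_21_3 lc_g_Cert_tree lc_g_rc_27_9 lc_g_rc_25_7 lc_g_rc_23_7 lc_g_rc_26_6 lc_g_Cert_tree lc_g_Cert_tree lc_g_rc_21_3 lc_g_Cert_tree lc_g_rc_21_2 lc_g_rc_21_2 lc_g_rc_26_6 lc_g_rc_23_1 lc_g_rc_26_0 lc_g_rc_23_3 lc_g_rc_24_1 lc_g_rc_24_9 lc_g_rc_24_7 lc_g_Cert_tree lc_g_rc_21_2 lc_g_rc_21_2 lc_g_Cert_tree lc_g_rc_27_0 lc_g_rc_24_3 lc_g_rc_23_3 lc_g_rc_24_7 lc_g_rc_26_6 lc_g_rc_24_3) (@D3.rec (fun _ => (Cert rels S Gen.g)) lc_g_rc_21_2 lc_g_rc_21_2 lc_g_rc_24_1 lc_g_rc_23_1 lc_g_rc_27_6 lc_g_rc_24_3 lc_g_rc_27_3 lc_g_rc_24_7 lc_g_rc_23_3 lc_g_rc_21_3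 lc_g_rc_21_2 lc_g_rc_21_2 lc_g_rc_21_3 lc_g_Cert_tree lc_g_Cert_tree lc_g_rc_27_9 lc_g_rc_27_0 lc_g_rc_21_3 lc_g_rc_26_9 lc_g_rc_21_2 lc_g_rc_27_6 lc_g_rc_25_15 lc_g_rc_26_6 lc_g_rc_24_7 lc_g_rc_21_3 lc_g_rc_21_2 lc_g_rc_25_7 lc_g_rc_27_6 lc_g_rc_26_6 lc_g_rc_26_6 lc_g_rc_21_2 lc_g_Cert_tree lc_g_rc_27_6 lc_g_rc_24_3 lc_g_rc_27_3 lc_g_rc_26_6 lc_g_rc_23_9 lc_g_rc_27_0 lc_g_rc_21_3 lc_g_rc_26_3 lc_g_rc_23_9 lc_g_rc_27_0 lc_g_rc_26_9 lc_g_rc_26_6 lc_g_rc_25_15 lc_g_rc_21_3 lc_g_Cert_tree lc_g_rc_26_3 lc_g_rc_23_7 lc_g_rc_27_9 lc_g_rc_21_2 lc_g_rc_21_3 lc_g_Cert_tree lc_g_rc_26_6 lc_g_rc_26_6 lc_g_rc_27_0 lc_g_rc_21_2 lc_g_rc_23_3 lc_g_rc_27_6 lc_g_rc_23_3 lc_g_rc_21_2 lc_g_rc_27_9) (@D3.rec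 (fun _ => (Cert rels S Gen.g)) lc_g_rc_21_2 lc_g_rc_26_6 lc_g_rc_26_6 lc_g_Cert_tree lc_g_rc_21_3 lc_g_rc_23_1 lc_g_rc_27_6 lc_g_rc_27_6 lc_g_rc_27_6 lc_g_Cert_tree lc_g_rc_21_3 lc_g_Cert_tree lc_g_Cert_tree lc_g_rc_21_2 lc_g_Cert_tree lc_g_Cert_tree lc_g_rc_27_9 lc_g_rc_27_0 lc_g_rc_27_3 lc_g_rc_26_3 lc_g_rc_23_3 lc_g_rc_23_3 lc_g_rc_21_3 lc_g_Cert_tree lc_g_rc_24_1 lc_g_rc_21_2 lc_g_rc_27_3 lc_g_rc_21_2 lc_g_rc_21_2 lc_g_rc_21_2 lc_g_rc_24_7 lc_g_rc_21_2 lc_g_rc_21_3 lc_g_Cert_tree lc_g_rc_21_2 lc_g_Cert_tree lc_g_rc_24_3 lc_g_rc_27_3 lc_g_rc_23_7 lc_g_rc_24_3 lc_g_rc_21_2 lc_g_rc_21_2 lc_g_rc_24_7 lc_g_rc_21_2 lc_g_rc_27_6 lc_g_rc_23_7 lc_g_rc_27_0 lc_g_rc_21_3 lc_g_Cert_tree lc_g_rc_24_3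 lc_g_rc_21_3 lc_g_Cert_tree lc_g_rc_27_3 lc_g_rc_26_3 lc_g_rc_24_3 lc_g_rc_27_6 lc_g_Cert_tree lc_g_rc_27_6 lc_g_rc_26_9 lc_g_rc_27_6 lc_g_rc_26_6 lc_g_rc_21_3) (@D3.rec (fun _ => (Cert rels S Gen.g)) lc_g_rc_27_6 lc_g_rc_21_2 lc_g_rc_21_2 lc_g_Cert_tree lc_g_rc_27_6 lc_g_rc_25_3 lc_g_rc_27_6 lc_g_Cert_tree lc_g_Cert_tree lc_g_rc_27_6 lc_g_rc_21_2 lc_g_rc_24_3 lc_g_rc_21_3 lc_g_rc_27_0 lc_g_rc_27_3 lc_g_rc_24_3 lc_g_rc_21_3 lc_g_rc_21_2 lc_g_rc_21_2 lc_g_rc_26_6 lc_g_rc_27_6 lc_g_rc_21_2 lc_g_rc_23_3 lc_g_rc_26_3 lc_g_rc_21_2 lc_g_Cert_tree lc_g_rc_26_3 lc_g_rc_24_3 lc_g_rc_26_6 lc_g_rc_21_3 lc_g_rc_21_2 lc_g_rc_24_1 lc_g_rc_27_6 lc_g_rc_23_3 lc_g_Cert_tree lc_g_rc_26_3 lc_g_rc_27_9 lc_g_Cert_tree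 lc_g_rc_21_2 lc_g_rc_26_3 lc_g_Cert_tree lc_g_rc_24_1 lc_g_rc_26_6 lc_g_Cert_tree lc_g_rc_21_3 lc_g_rc_26_9 lc_g_rc_27_6 lc_g_Cert_tree lc_g_rc_27_0 lc_g_rc_26_9 lc_g_rc_24_3 lc_g_rc_21_3 lc_g_rc_23_1 lc_g_rc_27_6 lc_g_rc_21_3 lc_g_rc_26_0 lc_g_rc_26_0 lc_g_rc_26_3 lc_g_rc_21_3 lc_g_rc_21_2 lc_g_rc_21_2 lc_g_rc_26_3) (@D3.rec (fun _ => (Cert rels S Gen.g)) lc_g_rc_26_6 lc_g_rc_27_6 lc_g_rc_26_0 lc_g_Cert_tree lc_g_rc_25_7 lc_g_rc_21_3 lc_g_Cert_tree lc_g_rc_21_2 lc_g_rc_26_6 lc_g_rc_26_9 lc_g_rc_26_0 lc_g_rc_21_3 lc_g_rc_23_9 lc_g_rc_21_2 lc_g_rc_27_6 lc_g_Cert_tree lc_g_rc_27_0 lc_g_rc_26_6 lc_g_rc_21_3 lc_g_Cert_tree lc_g_rc_26_0 lc_g_rc_23_3 lc_g_rc_26_3 lc_g_rc_24_1 lc_g_rc_24_1 lc_g_rc_21_3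 lc_g_Cert_tree lc_g_rc_21_2 lc_g_rc_26_6 lc_g_rc_21_2 lc_g_rc_26_0 lc_g_rc_21_2 lc_g_rc_24_3 lc_g_rc_23_9 lc_g_rc_27_0 lc_g_Cert_tree lc_g_rc_21_3 lc_g_Cert_tree lc_g_rc_21_2 lc_g_rc_21_2 lc_g_Cert_tree lc_g_rc_21_2 lc_g_rc_27_6 lc_g_rc_27_0 lc_g_rc_23_7 lc_g_Cert_tree lc_g_Cert_tree lc_g_rc_27_6 lc_g_rc_23_7 lc_g_rc_26_3 lc_g_Cert_tree lc_g_rc_21_3 lc_g_Cert_tree lc_g_rc_21_2 lc_g_rc_23_7 lc_g_rc_21_2 lc_g_rc_24_3 lc_g_rc_24_3 lc_g_rc_26_0 lc_g_Cert_tree lc_g_rc_26_3 lc_g_rc_21_2) (@D3.rec (fun _ => (Cert rels S Gen.g)) lc_g_rc_27_6 lc_g_rc_21_2 lc_g_rc_26_6 lc_g_rc_26_3 lc_g_rc_21_2 lc_g_Cert_tree lc_g_rc_21_2 lc_g_rc_21_2 lc_g_rc_27_6 lc_g_rc_23_3 lc_g_rc_24_9 lc_g_rc_21_3 lc_g_Cert_tree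 lc_g_rc_27_6 lc_g_rc_26_3 lc_g_rc_24_3 lc_g_rc_27_0 lc_g_rc_27_9 lc_g_rc_27_0 lc_g_rc_27_9 lc_g_rc_27_6 lc_g_rc_21_2 lc_g_rc_21_3 lc_g_rc_21_2 lc_g_rc_24_1 lc_g_rc_27_6 lc_g_rc_27_3 lc_g_rc_27_9 lc_g_Cert_tree lc_g_rc_27_6 lc_g_rc_21_3 lc_g_rc_27_6 lc_g_rc_23_7 lc_g_rc_21_3 lc_g_rc_21_3 lc_g_rc_21_2 lc_g_rc_23_7 lc_g_rc_27_0 lc_g_rc_21_3 lc_g_rc_26_9 lc_g_rc_21_2 lc_g_rc_24_1 lc_g_rc_21_2 lc_g_rc_27_3 lc_g_Cert_tree lc_g_rc_21_3 lc_g_Cert_tree lc_g_rc_21_2 lc_g_rc_21_2 lc_g_rc_27_0 lc_g_rc_23_9 lc_g_rc_24_3 lc_g_rc_26_9 lc_g_rc_26_3 lc_g_rc_27_6 lc_g_rc_24_7 lc_g_rc_26_6 lc_g_rc_27_3 lc_g_Cert_tree lc_g_rc_21_2 lc_g_rc_24_7 lc_g_rc_26_3) (@D3.rec (fun _ => (Cert rels S Gen.g)) lc_g_rc_21_3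 lc_g_Cert_tree lc_g_rc_26_6 lc_g_rc_26_3 lc_g_rc_21_3 lc_g_rc_24_1 lc_g_rc_24_3 lc_g_rc_21_2 lc_g_rc_21_3 lc_g_rc_24_3 lc_g_rc_21_3 lc_g_rc_21_2 lc_g_rc_23_1 lc_g_rc_25_3 lc_g_rc_21_3 lc_g_Cert_tree lc_g_rc_21_2 lc_g_rc_27_0 lc_g_rc_24_7 lc_g_rc_26_6 lc_g_rc_24_3 lc_g_rc_26_6 lc_g_rc_27_0 lc_g_rc_27_9 lc_g_rc_24_7 lc_g_Cert_tree lc_g_rc_23_7 lc_g_rc_27_3 lc_g_rc_26_3 lc_g_rc_21_3 lc_g_rc_26_3 lc_g_Cert_tree lc_g_rc_21_2 lc_g_rc_21_3 lc_g_rc_27_9 lc_g_rc_21_2 lc_g_Cert_tree lc_g_rc_27_9 lc_g_rc_21_3 lc_g_Cert_tree lc_g_rc_23_3 lc_g_rc_23_9 lc_g_rc_21_2 lc_g_Cert_tree lc_g_rc_23_1 lc_g_rc_27_6 lc_g_rc_24_7 lc_g_Cert_tree lc_g_Cert_tree lc_g_rc_25_3 lc_g_rc_21_2 lc_g_rc_21_3 lc_g_Cert_tree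 lc_g_rc_21_3 lc_g_Cert_tree lc_g_rc_21_2 lc_g_rc_25_11 lc_g_rc_24_7 lc_g_rc_23_3 lc_g_rc_23_3 lc_g_rc_26_6 lc_g_rc_23_9) (@D3.rec (fun _ => (Cert rels S Gen.g)) lc_g_rc_24_3 lc_g_rc_26_6 lc_g_rc_21_3 lc_g_Cert_tree lc_g_rc_21_2 lc_g_rc_27_6 lc_g_rc_23_9 lc_g_Cert_tree lc_g_rc_27_6 lc_g_rc_21_3 lc_g_Cert_tree lc_g_rc_27_3 lc_g_rc_21_2 lc_g_Cert_tree lc_g_rc_26_6 lc_g_rc_21_3 lc_g_rc_21_3 lc_g_Cert_tree lc_g_rc_27_9 lc_g_rc_26_3 lc_g_rc_21_3 lc_g_Cert_tree lc_g_Cert_tree lc_g_Cert_tree lc_g_rc_21_3 lc_g_rc_26_9 lc_g_rc_24_3 lc_g_rc_21_2 lc_g_rc_26_9 lc_g_rc_27_9 lc_g_rc_21_3 lc_g_Cert_tree lc_g_Cert_tree lc_g_rc_26_3 lc_g_rc_23_1 lc_g_Cert_tree lc_g_rc_23_3 lc_g_rc_21_3 lc_g_rc_25_7 lc_g_rc_21_2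 lc_g_rc_23_3 lc_g_rc_23_7 lc_g_rc_24_3 lc_g_rc_27_3 lc_g_rc_24_7 lc_g_rc_21_3 lc_g_rc_26_6 lc_g_rc_25_19 lc_g_rc_26_9 lc_g_rc_23_7 lc_g_rc_27_0 lc_g_rc_21_2 lc_g_rc_21_3 lc_g_Cert_tree lc_g_Cert_tree lc_g_rc_24_1 lc_g_rc_21_3 lc_g_rc_21_2 lc_g_rc_27_3 lc_g_rc_27_0 lc_g_rc_27_9 lc_g_rc_27_3) (@D3.rec (fun _ => (Cert rels S Gen.g)) lc_g_rc_21_3 lc_g_rc_27_3 lc_g_Cert_tree lc_g_rc_27_6 lc_g_rc_27_6 lc_g_rc_21_2 lc_g_rc_21_2 lc_g_rc_27_9 lc_g_rc_24_3 lc_g_rc_24_3 lc_g_rc_27_3 lc_g_Cert_tree lc_g_rc_21_2 lc_g_rc_27_3 lc_g_rc_24_7 lc_g_rc_21_2 lc_g_rc_27_6 lc_g_rc_21_3 lc_g_Cert_tree lc_g_rc_23_7 lc_g_rc_26_6 lc_g_rc_27_3 lc_g_Cert_tree lc_g_rc_27_3 lc_g_rc_21_2 lc_g_rc_24_3 lc_g_rc_27_6 lc_g_rc_21_3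 lc_g_rc_26_9 lc_g_rc_27_0 lc_g_rc_24_7 lc_g_rc_21_3 lc_g_rc_23_1 lc_g_Cert_tree lc_g_rc_27_0 lc_g_rc_21_2 lc_g_rc_21_3 lc_g_Cert_tree lc_g_rc_24_7 lc_g_rc_21_2 lc_g_rc_24_3 lc_g_rc_27_6 lc_g_rc_21_2 lc_g_rc_27_9 lc_g_rc_23_9 lc_g_Cert_tree lc_g_rc_23_3 lc_g_rc_23_3 lc_g_rc_23_3 lc_g_rc_27_3 lc_g_rc_21_3 lc_g_rc_24_7 lc_g_rc_27_6 lc_g_Cert_tree lc_g_rc_21_3 lc_g_Cert_tree lc_g_rc_24_7 lc_g_rc_21_2 lc_g_rc_21_2 lc_g_rc_21_3 lc_g_Cert_tree lc_g_rc_21_2) (@D3.rec (fun _ => (Cert rels S Gen.g)) lc_g_rc_27_6 lc_g_rc_27_6 lc_g_rc_23_3 lc_g_rc_21_3 lc_g_rc_27_3 lc_g_rc_27_3 lc_g_Cert_tree lc_g_rc_24_1 lc_g_rc_27_3 lc_g_rc_27_9 lc_g_rc_24_3 lc_g_rc_23_7 lc_g_rc_27_3 lc_g_rc_21_3 lc_g_rc_26_6 lc_g_rc_23_3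 lc_g_rc_21_3 lc_g_Cert_tree lc_g_rc_21_2 lc_g_rc_26_9 lc_g_rc_27_9 lc_g_rc_24_9 lc_g_Cert_tree lc_g_rc_21_3 lc_g_Cert_tree lc_g_rc_27_3 lc_g_rc_21_2 lc_g_rc_24_3 lc_g_rc_21_2 lc_g_rc_23_1 lc_g_rc_26_6 lc_g_rc_26_9 lc_g_rc_27_0 lc_g_rc_26_0 lc_g_rc_27_0 lc_g_Cert_tree lc_g_rc_27_6 lc_g_rc_21_2 lc_g_rc_27_3 lc_g_rc_24_7 lc_g_rc_26_3 lc_g_rc_26_3 lc_g_rc_24_3 lc_g_rc_21_3 lc_g_rc_21_3 lc_g_rc_24_9 lc_g_rc_27_3 lc_g_rc_26_6 lc_g_rc_24_3 lc_g_rc_26_3 lc_g_rc_21_2 lc_g_rc_21_2 lc_g_rc_21_2 lc_g_rc_21_2 lc_g_rc_27_3 lc_g_rc_27_6 lc_g_rc_24_7 lc_g_rc_26_0 lc_g_rc_21_2 lc_g_rc_21_3 lc_g_rc_24_7 lc_g_rc_27_6) (@D3.rec (fun _ => (Cert rels S Gen.g)) lc_g_rc_25_3 lc_g_rc_26_0 lc_g_rc_24_7 lc_g_rc_21_3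 lc_g_Cert_tree lc_g_rc_21_2 lc_g_rc_26_3 lc_g_rc_26_0 lc_g_rc_21_2 lc_g_rc_24_7 lc_g_rc_21_3 lc_g_rc_21_2 lc_g_rc_27_3 lc_g_rc_27_9 lc_g_rc_26_0 lc_g_rc_21_2 lc_g_Cert_tree lc_g_rc_23_7 lc_g_rc_27_9 lc_g_rc_27_6 lc_g_rc_27_3 lc_g_rc_27_6 lc_g_rc_27_6 lc_g_rc_26_3 lc_g_rc_26_6 lc_g_rc_21_3 lc_g_rc_21_3 lc_g_rc_26_3 lc_g_rc_23_3 lc_g_rc_27_9 lc_g_rc_27_0 lc_g_rc_23_1 lc_g_rc_24_3 lc_g_rc_21_3 lc_g_rc_24_7 lc_g_rc_21_2 lc_g_rc_26_9 lc_g_rc_23_3 lc_g_rc_23_7 lc_g_rc_27_3 lc_g_rc_24_3 lc_g_rc_23_9 lc_g_rc_23_1 lc_g_rc_21_3 lc_g_rc_27_6 lc_g_rc_26_6 lc_g_rc_24_1 lc_g_rc_23_1 lc_g_rc_27_3 lc_g_rc_21_3 lc_g_Cert_tree lc_g_rc_24_3 lc_g_rc_27_3 lc_g_rc_23_7 lc_g_rc_21_2 lc_g_rc_21_3 lc_g_rc_24_3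 lc_g_rc_21_3 lc_g_rc_27_6 lc_g_rc_21_3 lc_g_rc_26_0 lc_g_rc_21_3) (@D3.rec (fun _ => (Cert rels S Gen.g)) lc_g_rc_21_2 lc_g_rc_21_3 lc_g_Cert_tree lc_g_rc_23_1 lc_g_rc_21_2 lc_g_rc_26_6 lc_g_rc_23_7 lc_g_rc_24_1 lc_g_rc_21_2 lc_g_rc_21_3 lc_g_rc_21_2 lc_g_rc_27_3 lc_g_rc_21_2 lc_g_rc_23_1 lc_g_rc_27_0 lc_g_rc_26_6 lc_g_rc_27_3 lc_g_rc_27_3 lc_g_rc_26_9 lc_g_rc_27_6 lc_g_rc_21_3 lc_g_Cert_tree lc_g_rc_21_2 lc_g_rc_21_3 lc_g_Cert_tree lc_g_rc_26_6 lc_g_rc_26_6 lc_g_rc_21_2 lc_g_rc_21_3 lc_g_Cert_tree lc_g_rc_27_6 lc_g_rc_21_2 lc_g_rc_23_3 lc_g_rc_27_6 lc_g_rc_21_2 lc_g_rc_24_3 lc_g_rc_27_6 lc_g_rc_21_2 lc_g_Cert_tree lc_g_rc_23_3 lc_g_rc_26_6 lc_g_rc_21_2 lc_g_rc_21_3 lc_g_rc_26_9 lc_g_rc_23_3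 lc_g_rc_24_3 lc_g_rc_21_2 lc_g_rc_27_9 lc_g_rc_23_1 lc_g_rc_23_7 lc_g_rc_24_7 lc_g_rc_21_2 lc_g_rc_21_3 lc_g_Cert_tree lc_g_rc_27_3 lc_g_rc_26_3 lc_g_rc_24_3 lc_g_rc_23_3 lc_g_rc_27_9 lc_g_rc_26_0 lc_g_rc_27_3 lc_g_rc_26_3) (@D3.rec (fun _ => (Cert rels S Gen.g)) lc_g_rc_27_6 lc_g_Cert_tree lc_g_rc_27_3 lc_g_rc_21_3 lc_g_rc_23_3 lc_g_rc_26_9 lc_g_rc_26_3 lc_g_Cert_tree lc_g_rc_23_9 lc_g_rc_26_3 lc_g_rc_26_6 lc_g_rc_27_6 lc_g_rc_21_2 lc_g_rc_23_3 lc_g_rc_21_3 lc_g_rc_21_3 lc_g_rc_27_6 lc_g_rc_24_3 lc_g_rc_21_3 lc_g_rc_26_6 lc_g_Cert_tree lc_g_Cert_tree lc_g_rc_27_3 lc_g_rc_23_1 lc_g_rc_27_6 lc_g_rc_23_1 lc_g_rc_27_6 lc_g_rc_27_3 lc_g_rc_24_3 lc_g_rc_27_0 lc_g_Cert_tree lc_g_rc_27_6 lc_g_rc_26_3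 lc_g_rc_27_9 lc_g_rc_27_6 lc_g_rc_27_6 lc_g_rc_21_2 lc_g_rc_21_2 lc_g_rc_21_2 lc_g_rc_26_3 lc_g_rc_27_9 lc_g_rc_24_3 lc_g_rc_27_3 lc_g_rc_21_3 lc_g_Cert_tree lc_g_rc_21_2 lc_g_Cert_tree lc_g_rc_26_3 lc_g_rc_26_9 lc_g_rc_24_1 lc_g_rc_27_6 lc_g_rc_26_3 lc_g_rc_27_9 lc_g_rc_21_2 lc_g_rc_26_0 lc_g_Cert_tree lc_g_rc_27_0 lc_g_rc_23_9 lc_g_rc_27_3 lc_g_Cert_tree lc_g_rc_21_2 lc_g_rc_21_2) (@D3.rec (fun _ => (Cert rels S Gen.g)) lc_g_rc_21_2 lc_g_rc_25_15 lc_g_rc_27_3 lc_g_rc_26_6 lc_g_rc_21_3 lc_g_rc_27_6 lc_g_rc_21_2 lc_g_rc_24_1 lc_g_rc_21_2 lc_g_Cert_tree lc_g_rc_21_2 lc_g_Cert_tree lc_g_rc_21_3 lc_g_rc_21_2 lc_g_rc_21_3 lc_g_Cert_tree lc_g_rc_26_6 lc_g_Cert_tree lc_g_rc_27_3 lc_g_rc_21_3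 lc_g_Cert_tree lc_g_rc_21_2 lc_g_Cert_tree lc_g_rc_21_2 lc_g_rc_21_2 lc_g_rc_27_3 lc_g_rc_26_0 lc_g_rc_21_2 lc_g_rc_24_3 lc_g_Cert_tree lc_g_rc_21_2 lc_g_rc_23_3 lc_g_Cert_tree lc_g_rc_23_3 lc_g_rc_24_1 lc_g_rc_27_6 lc_g_rc_21_2 lc_g_rc_26_6 lc_g_rc_21_2 lc_g_rc_27_6 lc_g_rc_21_3 lc_g_Cert_tree lc_g_rc_24_3 lc_g_rc_27_6 lc_g_rc_24_1 lc_g_rc_26_3 lc_g_rc_21_2 lc_g_rc_21_2 lc_g_rc_27_9 lc_g_rc_26_9 lc_g_rc_27_3 lc_g_rc_21_3 lc_g_rc_21_2 lc_g_rc_21_2 lc_g_rc_27_3 lc_g_rc_24_1 lc_g_rc_27_6 lc_g_rc_26_3 lc_g_rc_24_7 lc_g_rc_25_11 lc_g_rc_23_3 lc_g_rc_24_7) (@D3.rec (fun _ => (Cert rels S Gen.g)) lc_g_rc_27_0 lc_g_rc_21_3 lc_g_Cert_tree lc_g_rc_24_3 lc_g_rc_21_2 lc_g_rc_23_3 lc_g_rc_21_3 lc_g_rc_21_3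 lc_g_rc_27_0 lc_g_rc_21_3 lc_g_rc_26_3 lc_g_rc_21_2 lc_g_rc_26_6 lc_g_rc_21_3 lc_g_Cert_tree lc_g_rc_26_6 lc_g_Cert_tree lc_g_rc_21_2 lc_g_rc_26_0 lc_g_rc_23_9 lc_g_rc_21_3 lc_g_Cert_tree lc_g_rc_23_3 lc_g_Cert_tree lc_g_rc_23_3 lc_g_rc_21_3 lc_g_Cert_tree lc_g_rc_21_2 lc_g_rc_21_3 lc_g_rc_26_6 lc_g_rc_21_2 lc_g_rc_21_2 lc_g_Cert_tree lc_g_rc_26_3 lc_g_rc_27_6 lc_g_rc_24_1 lc_g_rc_21_3 lc_g_rc_27_3 lc_g_rc_21_2 lc_g_rc_27_3 lc_g_rc_21_2 lc_g_rc_24_7 lc_g_rc_24_1 lc_g_rc_24_3 lc_g_rc_24_7 lc_g_rc_27_6 lc_g_rc_21_3 lc_g_Cert_tree lc_g_rc_27_6 lc_g_rc_23_7 lc_g_rc_24_3 lc_g_rc_23_1 lc_g_rc_24_3 lc_g_rc_21_2 lc_g_rc_21_3 lc_g_Cert_tree lc_g_Cert_tree lc_g_rc_21_2 lc_g_Cert_tree lc_g_rc_21_2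 lc_g_rc_21_2 lc_g_rc_27_6) (@D3.rec (fun _ => (Cert rels S Gen.g)) lc_g_rc_24_7 lc_g_rc_27_6 lc_g_rc_21_3 lc_g_Cert_tree lc_g_rc_23_3 lc_g_rc_27_6 lc_g_rc_23_7 lc_g_Cert_tree lc_g_rc_27_3 lc_g_rc_26_9 lc_g_rc_27_6 lc_g_rc_24_3 lc_g_rc_26_6 lc_g_rc_27_6 lc_g_Cert_tree lc_g_rc_24_9 lc_g_rc_21_2 lc_g_rc_27_9 lc_g_rc_24_3 lc_g_Cert_tree lc_g_rc_27_6 lc_g_rc_27_9 lc_g_Cert_tree lc_g_rc_21_3 lc_g_rc_21_2 lc_g_rc_23_3 lc_g_Cert_tree lc_g_rc_26_9 lc_g_rc_21_3 lc_g_Cert_tree lc_g_rc_24_9 lc_g_rc_24_3 lc_g_Cert_tree lc_g_rc_21_3 lc_g_rc_26_6 lc_g_rc_24_1 lc_g_rc_26_3 lc_g_rc_21_2 lc_g_rc_27_9 lc_g_rc_21_3 lc_g_rc_24_1 lc_g_rc_27_9 lc_g_Cert_tree lc_g_rc_21_3 lc_g_Cert_tree lc_g_rc_21_2 lc_g_rc_21_2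 lc_g_rc_25_3 lc_g_rc_26_3 lc_g_rc_26_6 lc_g_rc_21_2 lc_g_rc_26_9 lc_g_rc_23_9 lc_g_rc_26_0 lc_g_rc_21_2 lc_g_rc_26_3 lc_g_rc_24_1 lc_g_rc_23_7 lc_g_Cert_tree lc_g_rc_26_3 lc_g_rc_21_2 lc_g_rc_21_3) (@D3.rec (fun _ => (Cert rels S Gen.g)) lc_g_rc_21_3 lc_g_Cert_tree lc_g_rc_26_6 lc_g_rc_21_3 lc_g_Cert_tree lc_g_Cert_tree lc_g_rc_27_6 lc_g_rc_21_2 lc_g_rc_27_3 lc_g_rc_23_3 lc_g_rc_24_1 lc_g_rc_27_6 lc_g_rc_21_3 lc_g_Cert_tree lc_g_rc_21_2 lc_g_rc_26_3 lc_g_rc_26_6 lc_g_rc_25_3 lc_g_rc_23_7 lc_g_rc_23_3 lc_g_rc_27_6 lc_g_rc_25_15 lc_g_rc_24_7 lc_g_rc_23_1 lc_g_Cert_tree lc_g_rc_21_2 lc_g_rc_23_7 lc_g_rc_23_9 lc_g_Cert_tree lc_g_rc_24_1 lc_g_rc_21_2 lc_g_rc_27_9 lc_g_Cert_tree lc_g_rc_21_2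 lc_g_rc_27_6 lc_g_rc_25_15 lc_g_rc_23_7 lc_g_rc_23_1 lc_g_rc_27_6 lc_g_rc_24_1 lc_g_rc_21_2 lc_g_rc_27_3 lc_g_rc_27_6 lc_g_rc_21_2 lc_g_rc_21_2 lc_g_Cert_tree lc_g_rc_21_3 lc_g_Cert_tree lc_g_rc_27_3 lc_g_rc_27_9 lc_g_rc_21_2 lc_g_Cert_tree lc_g_rc_24_7 lc_g_rc_27_9 lc_g_rc_27_0 lc_g_rc_26_6 lc_g_rc_23_1 lc_g_Cert_tree lc_g_rc_24_3 lc_g_rc_21_2 lc_g_rc_27_0 lc_g_rc_26_6) (@D3.rec (fun _ => (Cert rels S Gen.g)) lc_g_rc_21_3 lc_g_Cert_tree lc_g_rc_21_2 lc_g_rc_26_3 lc_g_rc_21_2 lc_g_rc_26_0 lc_g_rc_23_3 lc_g_rc_21_3 lc_g_Cert_tree lc_g_rc_23_3 lc_g_rc_27_3 lc_g_rc_21_3 lc_g_Cert_tree lc_g_rc_21_3 lc_g_Cert_tree lc_g_rc_21_2 lc_g_rc_26_0 lc_g_rc_26_3 lc_g_rc_21_3 lc_g_rc_26_6 lc_g_rc_21_2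 lc_g_rc_27_6 lc_g_rc_21_3 lc_g_Cert_tree lc_g_rc_27_6 lc_g_rc_26_6 lc_g_rc_25_19 lc_g_Cert_tree lc_g_rc_23_1 lc_g_rc_21_2 lc_g_rc_21_2 lc_g_rc_26_9 lc_g_rc_23_3 lc_g_rc_26_6 lc_g_rc_23_3 lc_g_rc_21_3 lc_g_rc_23_3 lc_g_rc_21_3 lc_g_rc_26_9 lc_g_rc_24_9 lc_g_Cert_tree lc_g_rc_24_3 lc_g_rc_21_3 lc_g_rc_21_3 lc_g_rc_23_3 lc_g_rc_21_3 lc_g_rc_21_3 lc_g_rc_24_7 lc_g_rc_26_3 lc_g_rc_23_7 lc_g_rc_21_2 lc_g_rc_26_9 lc_g_rc_27_9 lc_g_rc_23_7 lc_g_rc_23_7 lc_g_rc_21_2 lc_g_rc_21_3 lc_g_Cert_tree lc_g_rc_21_3 lc_g_rc_23_9 lc_g_Cert_tree lc_g_rc_23_3) (@D3.rec (fun _ => (Cert rels S Gen.g)) lc_g_rc_21_2 lc_g_Cert_tree lc_g_rc_21_2 lc_g_rc_24_3 lc_g_rc_23_9 lc_g_rc_27_9 lc_g_rc_21_2 lc_g_rc_21_2 lc_g_rc_21_3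 lc_g_Cert_tree lc_g_rc_27_3 lc_g_rc_21_2 lc_g_Cert_tree lc_g_rc_24_3 lc_g_rc_27_9 lc_g_rc_23_1 lc_g_rc_21_3 lc_g_Cert_tree lc_g_rc_27_0 lc_g_rc_25_15 lc_g_rc_26_9 lc_g_rc_27_3 lc_g_rc_23_1 lc_g_rc_21_2 lc_g_rc_27_6 lc_g_rc_24_3 lc_g_rc_21_3 lc_g_rc_24_3 lc_g_rc_27_6 lc_g_rc_21_3 lc_g_Cert_tree lc_g_Cert_tree lc_g_rc_27_6 lc_g_rc_26_9 lc_g_rc_25_15 lc_g_rc_21_2 lc_g_rc_24_7 lc_g_rc_21_3 lc_g_Cert_tree lc_g_rc_21_3 lc_g_Cert_tree lc_g_rc_21_2 lc_g_rc_27_6 lc_g_rc_21_3 lc_g_Cert_tree lc_g_rc_21_3 lc_g_rc_21_2 lc_g_rc_23_3 lc_g_rc_26_3 lc_g_rc_27_6 lc_g_rc_24_7 lc_g_rc_26_6 lc_g_rc_24_3 lc_g_rc_24_3 lc_g_rc_27_6 lc_g_rc_21_3 lc_g_rc_24_1 lc_g_rc_24_7 lc_g_rc_23_3 lc_g_rc_24_3 lc_g_rc_26_6 lc_g_rc_23_3)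 (@D3.rec (fun _ => (Cert rels S Gen.g)) lc_g_rc_27_3 lc_g_rc_24_7 lc_g_rc_27_6 lc_g_Cert_tree lc_g_rc_26_0 lc_g_rc_21_3 lc_g_rc_27_6 lc_g_rc_21_3 lc_g_Cert_tree lc_g_rc_24_7 lc_g_rc_25_19 lc_g_rc_21_2 lc_g_rc_21_3 lc_g_rc_21_2 lc_g_rc_26_6 lc_g_rc_24_1 lc_g_rc_27_6 lc_g_rc_27_3 lc_g_rc_27_3 lc_g_rc_21_2 lc_g_rc_25_7 lc_g_rc_24_1 lc_g_rc_21_3 lc_g_rc_21_3 lc_g_Cert_tree lc_g_rc_24_3 lc_g_rc_27_3 lc_g_rc_27_6 lc_g_Cert_tree lc_g_rc_21_2 lc_g_rc_21_3 lc_g_rc_23_1 lc_g_Cert_tree lc_g_rc_24_3 lc_g_rc_26_9 lc_g_rc_21_3 lc_g_rc_24_3 lc_g_rc_21_3 lc_g_Cert_tree lc_g_rc_21_3 lc_g_rc_21_2 lc_g_rc_21_2 lc_g_Cert_tree lc_g_Cert_tree lc_g_rc_27_3 lc_g_Cert_tree lc_g_rc_24_7 lc_g_rc_21_3 lc_g_rc_27_6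 lc_g_rc_27_6 lc_g_rc_21_3 lc_g_rc_27_3 lc_g_rc_21_3 lc_g_rc_26_9 lc_g_rc_21_3 lc_g_rc_26_6 lc_g_rc_27_3 lc_g_rc_21_2 lc_g_rc_21_2 lc_g_rc_26_0 lc_g_Cert_tree lc_g_rc_26_3) (@D3.rec (fun _ => (Cert rels S Gen.g)) lc_g_rc_27_6 lc_g_rc_21_3 lc_g_rc_21_2 lc_g_rc_25_7 lc_g_rc_23_9 lc_g_rc_21_3 lc_g_rc_21_3 lc_g_rc_27_3 lc_g_Cert_tree lc_g_rc_23_9 lc_g_rc_26_3 lc_g_rc_24_3 lc_g_rc_27_0 lc_g_rc_26_9 lc_g_rc_26_9 lc_g_rc_26_6 lc_g_rc_21_2 lc_g_rc_27_9 lc_g_rc_26_3 lc_g_rc_26_0 lc_g_rc_21_3 lc_g_Cert_tree lc_g_rc_24_3 lc_g_rc_23_1 lc_g_Cert_tree lc_g_rc_26_0 lc_g_rc_27_3 lc_g_Cert_tree lc_g_rc_27_6 lc_g_rc_27_6 lc_g_rc_26_3 lc_g_rc_23_7 lc_g_rc_27_9 lc_g_Cert_tree lc_g_rc_25_19 lc_g_rc_27_6 lc_g_rc_26_0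 lc_g_Cert_tree lc_g_rc_21_2 lc_g_rc_24_3 lc_g_rc_24_3 lc_g_rc_21_3 lc_g_rc_26_6 lc_g_rc_21_3 lc_g_rc_27_0 lc_g_rc_27_3 lc_g_rc_26_0 lc_g_rc_26_3 lc_g_rc_23_7 lc_g_rc_27_0 lc_g_rc_23_3 lc_g_rc_21_2 lc_g_rc_21_2 lc_g_rc_24_1 lc_g_Cert_tree lc_g_rc_23_1 lc_g_rc_27_3 lc_g_rc_24_1 lc_g_rc_27_9 lc_g_rc_27_6 lc_g_rc_24_7 lc_g_rc_24_9) (@D3.rec (fun _ => (Cert rels S Gen.g)) lc_g_rc_24_9 lc_g_Cert_tree lc_g_rc_21_3 lc_g_Cert_tree lc_g_rc_21_2 lc_g_rc_21_3 lc_g_rc_21_2 lc_g_Cert_tree lc_g_rc_26_3 lc_g_rc_23_7 lc_g_rc_21_3 lc_g_rc_21_2 lc_g_rc_26_9 lc_g_rc_24_3 lc_g_rc_27_9 lc_g_rc_24_3 lc_g_rc_24_1 lc_g_rc_27_3 lc_g_rc_26_0 lc_g_rc_23_7 lc_g_rc_24_9 lc_g_rc_24_7 lc_g_rc_27_6 lc_g_rc_27_3 lc_g_Cert_tree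 lc_g_rc_27_6 lc_g_rc_21_2 lc_g_rc_23_3 lc_g_rc_26_0 lc_g_rc_26_0 lc_g_rc_27_3 lc_g_rc_27_6 lc_g_Cert_tree lc_g_rc_27_3 lc_g_Cert_tree lc_g_rc_23_1 lc_g_rc_26_3 lc_g_rc_23_1 lc_g_rc_27_6 lc_g_rc_27_6 lc_g_rc_21_3 lc_g_rc_23_7 lc_g_rc_21_3 lc_g_Cert_tree lc_g_rc_24_9 lc_g_rc_21_3 lc_g_rc_27_6 lc_g_Cert_tree lc_g_rc_21_2 lc_g_rc_24_3 lc_g_rc_21_3 lc_g_rc_24_9 lc_g_rc_26_6 lc_g_rc_23_3 lc_g_rc_23_3 lc_g_rc_26_6 lc_g_rc_27_6 lc_g_rc_27_3 lc_g_rc_26_3 lc_g_rc_21_3 lc_g_rc_27_3 lc_g_rc_27_0) (@D3.rec (fun _ => (Cert rels S Gen.g)) lc_g_rc_24_3 lc_g_rc_23_3 lc_g_rc_21_3 lc_g_Cert_tree lc_g_rc_21_2 lc_g_rc_26_6 lc_g_rc_24_7 lc_g_rc_24_1 lc_g_rc_24_1 lc_g_Cert_tree lc_g_rc_24_3 lc_g_rc_26_3 lc_g_rc_23_1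 lc_g_Cert_tree lc_g_rc_24_7 lc_g_rc_23_3 lc_g_rc_26_6 lc_g_rc_21_3 lc_g_rc_24_7 lc_g_rc_27_0 lc_g_rc_26_0 lc_g_rc_23_3 lc_g_Cert_tree lc_g_rc_26_6 lc_g_rc_24_1 lc_g_rc_26_0 lc_g_rc_26_0 lc_g_rc_24_1 lc_g_rc_27_0 lc_g_rc_23_3 lc_g_rc_27_6 lc_g_rc_26_3 lc_g_rc_24_3 lc_g_rc_21_3 lc_g_rc_21_3 lc_g_rc_21_2 lc_g_rc_21_3 lc_g_Cert_tree lc_g_rc_21_2 lc_g_rc_21_2 lc_g_rc_23_9 lc_g_rc_23_1 lc_g_rc_24_3 lc_g_rc_25_7 lc_g_rc_27_6 lc_g_rc_21_2 lc_g_rc_21_3 lc_g_rc_24_7 lc_g_rc_26_9 lc_g_rc_26_6 lc_g_rc_27_6 lc_g_Cert_tree lc_g_rc_27_3 lc_g_rc_21_3 lc_g_Cert_tree lc_g_rc_21_2 lc_g_rc_23_3 lc_g_rc_24_3 lc_g_rc_27_6 lc_g_Cert_tree lc_g_Cert_tree lc_g_rc_27_9) (@D3.rec (fun _ => (Cert rels S Gen.g)) lc_g_rc_24_3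 lc_g_rc_23_3 lc_g_rc_26_9 lc_g_rc_21_3 lc_g_rc_24_3 lc_g_rc_21_3 lc_g_rc_21_3 lc_g_rc_26_3 lc_g_Cert_tree lc_g_rc_21_3 lc_g_rc_24_1 lc_g_rc_26_3 lc_g_rc_24_3 lc_g_rc_25_3 lc_g_rc_23_7 lc_g_rc_24_9 lc_g_rc_21_3 lc_g_Cert_tree lc_g_rc_23_1 lc_g_rc_23_3 lc_g_rc_23_9 lc_g_rc_21_2 lc_g_Cert_tree lc_g_rc_24_3 lc_g_rc_27_3 lc_g_rc_23_7 lc_g_rc_23_1 lc_g_rc_24_1 lc_g_Cert_tree lc_g_rc_21_2 lc_g_rc_26_3 lc_g_rc_26_6 lc_g_rc_24_1 lc_g_Cert_tree lc_g_rc_21_3 lc_g_rc_27_6 lc_g_Cert_tree lc_g_rc_27_0 lc_g_rc_23_9 lc_g_rc_23_3 lc_g_rc_23_3 lc_g_rc_21_3 lc_g_Cert_tree lc_g_rc_21_3 lc_g_Cert_tree lc_g_rc_21_2 lc_g_rc_26_6 lc_g_rc_23_7 lc_g_rc_26_6 lc_g_rc_21_3 lc_g_rc_27_6 lc_g_rc_26_9 lc_g_rc_21_3 lc_g_rc_27_3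 lc_g_Cert_tree lc_g_rc_21_3 lc_g_rc_27_9 lc_g_Cert_tree lc_g_rc_21_2 lc_g_rc_24_7 lc_g_rc_23_1 lc_g_rc_26_0) (@D3.rec (fun _ => (Cert rels S Gen.g)) lc_g_rc_27_0 lc_g_rc_27_9 lc_g_Cert_tree lc_g_Cert_tree lc_g_Cert_tree lc_g_rc_25_7 lc_g_Cert_tree lc_g_rc_24_7 lc_g_rc_21_2 lc_g_rc_23_7 lc_g_rc_26_3 lc_g_Cert_tree lc_g_rc_27_3 lc_g_rc_21_3 lc_g_Cert_tree lc_g_rc_26_6 lc_g_rc_21_2 lc_g_rc_21_2 lc_g_rc_21_3 lc_g_rc_21_2 lc_g_rc_27_3 lc_g_rc_21_2 lc_g_rc_21_3 lc_g_rc_21_3 lc_g_rc_24_1 lc_g_Cert_tree lc_g_rc_26_6 lc_g_rc_21_3 lc_g_Cert_tree lc_g_rc_23_1 lc_g_rc_24_3 lc_g_rc_26_9 lc_g_rc_23_1 lc_g_Cert_tree lc_g_rc_26_3 lc_g_rc_21_2 lc_g_rc_21_3 lc_g_rc_25_15 lc_g_rc_21_2 lc_g_Cert_tree lc_g_rc_23_7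 lc_g_rc_21_3 lc_g_Cert_tree lc_g_rc_21_2 lc_g_rc_26_6 lc_g_rc_27_6 lc_g_rc_21_2 lc_g_rc_21_2 lc_g_rc_21_3 lc_g_rc_25_3 lc_g_Cert_tree lc_g_rc_23_3 lc_g_rc_23_9 lc_g_rc_21_2 lc_g_rc_27_6 lc_g_rc_27_0 lc_g_rc_26_3 lc_g_rc_23_9 lc_g_rc_26_3 lc_g_Cert_tree lc_g_rc_26_9 lc_g_rc_21_2) (@D3.rec (fun _ => (Cert rels S Gen.g)) lc_g_rc_27_9 lc_g_rc_24_7 lc_g_rc_23_1 lc_g_rc_26_0 lc_g_rc_24_1 lc_g_rc_23_3 lc_g_rc_26_3 lc_g_rc_24_3 lc_g_rc_24_3 lc_g_rc_21_2 lc_g_rc_21_3 lc_g_rc_26_6 lc_g_rc_21_2 lc_g_rc_24_3 lc_g_rc_23_1 lc_g_rc_21_3 lc_g_rc_23_7 lc_g_rc_21_2 lc_g_rc_26_9 lc_g_rc_24_3 lc_g_rc_24_7 lc_g_Cert_tree lc_g_rc_21_2 lc_g_rc_21_2 lc_g_rc_27_6 lc_g_rc_23_1 lc_g_rc_26_0 lc_g_rc_21_2 lc_g_rc_23_7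 lc_g_rc_27_0 lc_g_rc_23_1 lc_g_rc_24_3 lc_g_rc_27_0 lc_g_rc_26_9 lc_g_rc_24_3 lc_g_rc_26_9 lc_g_rc_24_1 lc_g_rc_24_7 lc_g_rc_21_2 lc_g_Cert_tree lc_g_rc_25_11 lc_g_rc_21_3 lc_g_rc_21_2 lc_g_rc_27_6 lc_g_rc_21_3 lc_g_Cert_tree lc_g_rc_21_3 lc_g_Cert_tree lc_g_rc_27_0 lc_g_rc_24_3 lc_g_Cert_tree lc_g_rc_21_2 lc_g_rc_21_2 lc_g_rc_27_6 lc_g_Cert_tree lc_g_rc_23_1 lc_g_rc_21_3 lc_g_rc_21_3 lc_g_Cert_tree lc_g_rc_21_3 lc_g_rc_21_2 lc_g_rc_23_3) (@D3.rec (fun _ => (Cert rels S Gen.g)) lc_g_rc_21_3 lc_g_Cert_tree lc_g_rc_21_2 lc_g_rc_21_2 lc_g_rc_21_3 lc_g_rc_26_6 lc_g_Cert_tree lc_g_rc_23_3 lc_g_rc_27_3 lc_g_rc_21_2 lc_g_rc_23_3 lc_g_rc_26_9 lc_g_rc_21_3 lc_g_rc_21_3 lc_g_Cert_tree lc_g_rc_27_0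 lc_g_rc_27_6 lc_g_Cert_tree lc_g_rc_27_6 lc_g_rc_21_2 lc_g_rc_23_1 lc_g_rc_24_3 lc_g_rc_27_9 lc_g_rc_21_3 lc_g_rc_24_1 lc_g_rc_21_3 lc_g_rc_27_6 lc_g_rc_24_7 lc_g_rc_21_2 lc_g_rc_23_3 lc_g_rc_23_3 lc_g_rc_21_2 lc_g_rc_26_0 lc_g_rc_24_1 lc_g_rc_21_3 lc_g_rc_24_1 lc_g_rc_24_7 lc_g_rc_23_1 lc_g_rc_23_7 lc_g_Cert_tree lc_g_rc_27_9 lc_g_rc_27_3 lc_g_rc_23_3 lc_g_rc_21_3 lc_g_rc_23_3 lc_g_rc_25_11 lc_g_rc_24_3 lc_g_rc_25_11 lc_g_Cert_tree lc_g_rc_25_15 lc_g_rc_21_2 lc_g_rc_23_1 lc_g_rc_23_3 lc_g_rc_27_3 lc_g_rc_27_0 lc_g_rc_21_3 lc_g_rc_21_2 lc_g_rc_26_6 lc_g_rc_24_7 lc_g_rc_24_1 lc_g_rc_27_6 lc_g_rc_21_3) (@D3.rec (fun _ => (Cert rels S Gen.g)) lc_g_rc_23_7 lc_g_rc_21_2 lc_g_rc_27_6 lc_g_rc_21_3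 lc_g_rc_21_3 lc_g_rc_27_6 lc_g_rc_21_3 lc_g_rc_21_3 lc_g_rc_21_2 lc_g_rc_27_0 lc_g_rc_21_2 lc_g_Cert_tree lc_g_rc_21_3 lc_g_Cert_tree lc_g_rc_25_3 lc_g_rc_21_2 lc_g_rc_21_3 lc_g_Cert_tree lc_g_rc_23_1 lc_g_rc_27_6 lc_g_rc_26_6 lc_g_rc_25_7 lc_g_rc_26_9 lc_g_rc_21_3 lc_g_rc_23_3 lc_g_rc_23_1 lc_g_Cert_tree lc_g_Cert_tree lc_g_Cert_tree lc_g_rc_23_1 lc_g_rc_27_0 lc_g_rc_27_0 lc_g_rc_23_3 lc_g_rc_27_0 lc_g_Cert_tree lc_g_rc_21_3 lc_g_rc_26_3 lc_g_rc_23_3 lc_g_rc_24_1 lc_g_rc_21_2 lc_g_rc_25_19 lc_g_rc_27_3 lc_g_rc_23_1 lc_g_rc_24_1 lc_g_rc_27_6 lc_g_rc_26_9 lc_g_rc_21_3 lc_g_rc_26_6 lc_g_rc_26_0 lc_g_rc_21_3 lc_g_rc_21_2 lc_g_rc_24_3 lc_g_rc_27_6 lc_g_rc_21_2 lc_g_rc_27_0 lc_g_rc_23_1 lc_g_rc_27_6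 lc_g_rc_21_3 lc_g_rc_26_6 lc_g_rc_21_2 lc_g_rc_27_6 lc_g_rc_27_6) (@D3.rec (fun _ => (Cert rels S Gen.g)) lc_g_rc_21_3 lc_g_rc_26_0 lc_g_rc_23_1 lc_g_rc_27_0 lc_g_rc_21_2 lc_g_rc_23_7 lc_g_rc_21_3 lc_g_rc_26_3 lc_g_rc_24_9 lc_g_Cert_tree lc_g_rc_24_7 lc_g_rc_27_6 lc_g_rc_21_3 lc_g_Cert_tree lc_g_Cert_tree lc_g_rc_24_3 lc_g_rc_23_1 lc_g_rc_27_0 lc_g_rc_27_6 lc_g_rc_21_3 lc_g_Cert_tree lc_g_rc_21_2 lc_g_rc_24_7 lc_g_rc_23_9 lc_g_Cert_tree lc_g_rc_25_3 lc_g_rc_24_3 lc_g_rc_21_3 lc_g_rc_23_7 lc_g_rc_23_1 lc_g_rc_21_3 lc_g_Cert_tree lc_g_rc_26_6 lc_g_rc_27_6 lc_g_rc_25_15 lc_g_rc_27_6 lc_g_rc_23_1 lc_g_rc_23_9 lc_g_rc_21_3 lc_g_rc_26_6 lc_g_rc_24_1 lc_g_Cert_tree lc_g_rc_24_3 lc_g_rc_25_19 lc_g_rc_23_9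 lc_g_rc_21_3 lc_g_rc_27_0 lc_g_Cert_tree lc_g_rc_21_2 lc_g_rc_24_3 lc_g_rc_26_6 lc_g_Cert_tree lc_g_rc_27_6 lc_g_rc_26_6 lc_g_rc_24_1 lc_g_rc_21_2 lc_g_Cert_tree lc_g_rc_24_1 lc_g_rc_23_9 lc_g_rc_21_2 lc_g_rc_27_6 lc_g_rc_26_0) (@D3.rec (fun _ => (Cert rels S Gen.g)) lc_g_rc_26_6 lc_g_rc_21_3 lc_g_rc_26_9 lc_g_rc_21_2 lc_g_rc_21_2 lc_g_rc_26_6 lc_g_rc_26_3 lc_g_rc_27_6 lc_g_rc_23_3 lc_g_rc_27_0 lc_g_Cert_tree lc_g_rc_21_3 lc_g_rc_27_0 lc_g_rc_26_6 lc_g_rc_21_2 lc_g_rc_23_3 lc_g_rc_27_0 lc_g_Cert_tree lc_g_rc_26_3 lc_g_rc_26_6 lc_g_rc_27_3 lc_g_Cert_tree lc_g_rc_23_1 lc_g_rc_21_2 lc_g_rc_23_3 lc_g_rc_23_1 lc_g_rc_27_3 lc_g_rc_23_3 lc_g_rc_21_3 lc_g_Cert_tree lc_g_rc_27_3 lc_g_rc_24_7 lc_g_rc_26_3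 lc_g_rc_23_3 lc_g_rc_27_3 lc_g_rc_26_3 lc_g_rc_26_9 lc_g_rc_27_6 lc_g_rc_23_3 lc_g_rc_21_3 lc_g_rc_27_6 lc_g_rc_25_11 lc_g_rc_21_2 lc_g_rc_26_6 lc_g_rc_21_3 lc_g_rc_24_7 lc_g_Cert_tree lc_g_rc_21_2 lc_g_rc_26_3 lc_g_rc_26_0 lc_g_rc_21_3 lc_g_rc_27_0 lc_g_rc_26_3 lc_g_rc_21_2 lc_g_rc_26_0 lc_g_rc_21_2 lc_g_rc_27_0 lc_g_rc_27_6 lc_g_rc_21_2 lc_g_rc_23_7 lc_g_rc_25_3 lc_g_rc_27_0) (@D3.rec (fun _ => (Cert rels S Gen.g)) lc_g_Cert_tree lc_g_rc_23_3 lc_g_rc_27_6 lc_g_rc_21_3 lc_g_rc_21_2 lc_g_Cert_tree lc_g_rc_26_0 lc_g_rc_24_7 lc_g_rc_24_3 lc_g_rc_21_2 lc_g_rc_27_6 lc_g_rc_24_1 lc_g_rc_23_3 lc_g_Cert_tree lc_g_rc_27_3 lc_g_rc_21_2 lc_g_rc_23_1 lc_g_rc_21_2 lc_g_rc_21_3 lc_g_rc_26_0 lc_g_rc_25_19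 lc_g_rc_27_3 lc_g_rc_23_9 lc_g_rc_26_6 lc_g_rc_21_3 lc_g_rc_27_3 lc_g_rc_26_6 lc_g_rc_24_7 lc_g_rc_23_3 lc_g_rc_26_9 lc_g_rc_24_1 lc_g_rc_27_6 lc_g_Cert_tree lc_g_rc_26_6 lc_g_Cert_tree lc_g_rc_26_6 lc_g_rc_26_6 lc_g_rc_27_0 lc_g_rc_21_3 lc_g_rc_27_0 lc_g_rc_21_2 lc_g_rc_23_3 lc_g_Cert_tree lc_g_rc_21_2 lc_g_rc_27_0 lc_g_rc_24_1 lc_g_rc_23_3 lc_g_rc_27_6 lc_g_rc_27_3 lc_g_rc_26_6 lc_g_rc_24_9 lc_g_rc_24_9 lc_g_rc_21_3 lc_g_rc_23_3 lc_g_rc_24_7 lc_g_rc_21_3 lc_g_rc_21_2 lc_g_rc_27_0 lc_g_rc_21_3 lc_g_Cert_tree lc_g_rc_24_7 lc_g_rc_24_1) (@D3.rec (fun _ => (Cert rels S Gen.g)) lc_g_Cert_tree lc_g_rc_26_6 lc_g_rc_21_3 lc_g_rc_27_3 lc_g_rc_26_3 lc_g_rc_26_6 lc_g_rc_23_7 lc_g_rc_23_1 lc_g_rc_21_2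 lc_g_rc_27_6 lc_g_rc_26_3 lc_g_rc_25_19 lc_g_rc_26_6 lc_g_rc_23_9 lc_g_rc_26_6 lc_g_rc_24_1 lc_g_rc_27_9 lc_g_rc_26_6 lc_g_rc_26_6 lc_g_rc_23_3 lc_g_rc_21_3 lc_g_Cert_tree lc_g_rc_21_2 lc_g_rc_21_3 lc_g_rc_27_6 lc_g_rc_26_9 lc_g_rc_21_2 lc_g_rc_21_2 lc_g_rc_21_3 lc_g_rc_27_0 lc_g_rc_24_7 lc_g_rc_27_0 lc_g_rc_21_3 lc_g_rc_26_6 lc_g_rc_26_0 lc_g_rc_26_6 lc_g_rc_21_3 lc_g_rc_27_6 lc_g_rc_26_9 lc_g_Cert_tree lc_g_rc_23_3 lc_g_rc_25_19 lc_g_rc_27_3 lc_g_rc_27_6 lc_g_rc_25_19 lc_g_rc_26_9 lc_g_rc_26_9 lc_g_rc_24_7 lc_g_rc_27_6 lc_g_rc_27_0 lc_g_rc_24_1 lc_g_rc_24_3 lc_g_rc_21_2 lc_g_rc_23_7 lc_g_Cert_tree lc_g_rc_26_9 lc_g_rc_23_1 lc_g_Cert_tree lc_g_rc_23_3 lc_g_rc_27_9 lc_g_rc_21_3 lc_g_rc_21_3)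 (@D3.rec (fun _ => (Cert rels S Gen.g)) lc_g_rc_24_3 lc_g_rc_27_0 lc_g_rc_24_3 lc_g_rc_27_6 lc_g_rc_21_2 lc_g_Cert_tree lc_g_rc_26_9 lc_g_rc_27_0 lc_g_rc_24_9 lc_g_rc_26_6 lc_g_rc_21_3 lc_g_rc_26_0 lc_g_rc_27_6 lc_g_Cert_tree lc_g_rc_26_3 lc_g_rc_27_6 lc_g_rc_23_9 lc_g_rc_27_9 lc_g_Cert_tree lc_g_rc_26_9 lc_g_Cert_tree lc_g_rc_26_9 lc_g_rc_24_9 lc_g_Cert_tree lc_g_rc_21_3 lc_g_rc_26_0 lc_g_rc_26_6 lc_g_rc_26_6 lc_g_Cert_tree lc_g_rc_26_6 lc_g_rc_21_2 lc_g_Cert_tree lc_g_rc_27_3 lc_g_rc_21_2 lc_g_rc_23_7 lc_g_rc_26_6 lc_g_rc_23_3 lc_g_rc_27_6 lc_g_Cert_tree lc_g_rc_27_3 lc_g_rc_21_2 lc_g_rc_27_3 lc_g_rc_27_3 lc_g_rc_25_7 lc_g_rc_26_3 lc_g_rc_24_7 lc_g_rc_21_3 lc_g_rc_24_7 lc_g_Cert_tree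 lc_g_rc_26_0 lc_g_rc_26_9 lc_g_rc_24_1 lc_g_rc_23_3 lc_g_rc_26_6 lc_g_Cert_tree lc_g_rc_24_7 lc_g_rc_21_2 lc_g_rc_21_3 lc_g_rc_21_3 lc_g_Cert_tree lc_g_rc_27_3 lc_g_rc_21_2) (@D3.rec (fun _ => (Cert rels S Gen.g)) lc_g_Cert_tree lc_g_rc_26_3 lc_g_Cert_tree lc_g_rc_21_3 lc_g_Cert_tree lc_g_rc_26_6 lc_g_rc_24_7 lc_g_rc_21_2 lc_g_rc_24_7 lc_g_rc_21_2 lc_g_rc_21_3 lc_g_rc_24_7 lc_g_rc_27_6 lc_g_rc_26_9 lc_g_rc_26_0 lc_g_rc_26_6 lc_g_Cert_tree lc_g_rc_21_2 lc_g_rc_24_7 lc_g_rc_24_3 lc_g_Cert_tree lc_g_rc_21_2 lc_g_rc_26_6 lc_g_rc_27_6 lc_g_rc_21_2 lc_g_rc_24_3 lc_g_rc_21_3 lc_g_Cert_tree lc_g_rc_24_9 lc_g_rc_27_6 lc_g_rc_23_7 lc_g_rc_26_6 lc_g_rc_27_9 lc_g_rc_21_3 lc_g_Cert_tree lc_g_rc_23_1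 lc_g_rc_26_3 lc_g_rc_27_9 lc_g_rc_23_9 lc_g_rc_23_1 lc_g_rc_26_6 lc_g_rc_27_0 lc_g_rc_23_3 lc_g_rc_21_3 lc_g_rc_21_3 lc_g_rc_27_3 lc_g_rc_24_7 lc_g_rc_27_6 lc_g_rc_26_9 lc_g_rc_26_0 lc_g_rc_24_9 lc_g_rc_26_0 lc_g_rc_26_0 lc_g_rc_24_3 lc_g_rc_26_9 lc_g_Cert_tree lc_g_rc_21_3 lc_g_rc_21_3 lc_g_rc_21_2 lc_g_rc_21_2 lc_g_rc_21_2 lc_g_rc_23_3) (@D3.rec (fun _ => (Cert rels S Gen.g)) lc_g_Cert_tree lc_g_rc_24_3 lc_g_rc_21_2 lc_g_rc_26_9 lc_g_rc_26_9 lc_g_rc_26_6 lc_g_rc_26_0 lc_g_rc_26_0 lc_g_rc_21_3 lc_g_rc_21_3 lc_g_Cert_tree lc_g_Cert_tree lc_g_rc_24_1 lc_g_rc_21_2 lc_g_rc_26_6 lc_g_rc_26_3 lc_g_rc_26_6 lc_g_rc_23_7 lc_g_Cert_tree lc_g_rc_23_7 lc_g_rc_26_9 lc_g_rc_25_3 lc_g_rc_27_3 lc_g_rc_23_7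 lc_g_rc_21_2 lc_g_rc_26_0 lc_g_rc_21_2 lc_g_rc_26_6 lc_g_Cert_tree lc_g_rc_21_2 lc_g_rc_21_3 lc_g_rc_26_9 lc_g_rc_26_0 lc_g_rc_21_3 lc_g_rc_23_9 lc_g_rc_26_0 lc_g_rc_21_3 lc_g_Cert_tree lc_g_rc_21_2 lc_g_rc_24_3 lc_g_rc_21_3 lc_g_Cert_tree lc_g_rc_21_2 lc_g_rc_21_2 lc_g_rc_24_3 lc_g_rc_21_2 lc_g_rc_26_3 lc_g_Cert_tree lc_g_rc_27_0 lc_g_rc_27_6 lc_g_rc_27_0 lc_g_rc_26_3 lc_g_rc_21_2 lc_g_rc_27_9 lc_g_rc_27_6 lc_g_rc_23_3 lc_g_rc_26_3 lc_g_Cert_tree lc_g_rc_27_3 lc_g_rc_21_2 lc_g_rc_24_1 lc_g_rc_21_3) (@D3.rec (fun _ => (Cert rels S Gen.g)) lc_g_Cert_tree lc_g_rc_26_9 lc_g_rc_21_2 lc_g_rc_24_3 lc_g_rc_21_3 lc_g_Cert_tree lc_g_rc_21_2 lc_g_rc_24_3 lc_g_rc_23_3 lc_g_rc_27_6 lc_g_rc_26_0 lc_g_Cert_tree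 lc_g_rc_26_6 lc_g_rc_23_7 lc_g_rc_23_9 lc_g_rc_23_7 lc_g_rc_21_3 lc_g_Cert_tree lc_g_Cert_tree lc_g_rc_26_6 lc_g_rc_27_9 lc_g_rc_26_3 lc_g_rc_27_6 lc_g_rc_24_7 lc_g_rc_21_3 lc_g_rc_21_3 lc_g_rc_26_6 lc_g_rc_21_2 lc_g_rc_26_6 lc_g_rc_23_3 lc_g_rc_21_2 lc_g_rc_21_2 lc_g_rc_26_3 lc_g_rc_21_2 lc_g_rc_24_1 lc_g_Cert_tree lc_g_rc_23_3 lc_g_rc_23_7 lc_g_rc_23_7 lc_g_rc_27_6 lc_g_rc_21_2 lc_g_rc_26_3 lc_g_rc_21_2 lc_g_rc_21_2 lc_g_rc_27_6 lc_g_Cert_tree lc_g_rc_21_2 lc_g_rc_21_2 lc_g_rc_26_6 lc_g_rc_26_3 lc_g_Cert_tree lc_g_rc_26_6 lc_g_rc_25_19 lc_g_rc_26_3 lc_g_rc_21_2 lc_g_rc_23_9 lc_g_rc_26_6 lc_g_rc_23_3 lc_g_rc_24_7 lc_g_rc_23_9 lc_g_rc_27_0 lc_g_rc_26_9) (@D3.rec (fun _ => (Cert rels S Gen.g))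 lc_g_rc_27_6 lc_g_rc_27_6 lc_g_rc_21_3 lc_g_rc_24_3 lc_g_rc_27_0 lc_g_rc_26_9 lc_g_rc_21_3 lc_g_rc_25_19 lc_g_rc_21_2 lc_g_rc_27_0 lc_g_rc_21_3 lc_g_Cert_tree lc_g_rc_27_3 lc_g_rc_25_11 lc_g_rc_26_9 lc_g_rc_21_3 lc_g_rc_23_3 lc_g_rc_21_2 lc_g_rc_23_1 lc_g_Cert_tree lc_g_rc_27_6 lc_g_rc_21_3 lc_g_Cert_tree lc_g_rc_21_2 lc_g_rc_27_6 lc_g_rc_27_3 lc_g_rc_21_2 lc_g_rc_24_3 lc_g_rc_21_2 lc_g_Cert_tree lc_g_rc_26_0 lc_g_rc_21_2 lc_g_rc_21_3 lc_g_rc_26_0 lc_g_rc_27_9 lc_g_rc_23_3 lc_g_rc_26_6 lc_g_rc_27_6 lc_g_rc_23_3 lc_g_rc_24_3 lc_g_rc_21_3 lc_g_Cert_tree lc_g_rc_26_9 lc_g_rc_27_0 lc_g_rc_21_3 lc_g_Cert_tree lc_g_rc_23_1 lc_g_rc_27_0 lc_g_rc_21_3 lc_g_rc_26_6 lc_g_rc_21_2 lc_g_Cert_tree lc_g_rc_24_1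 lc_g_rc_24_7 lc_g_rc_24_9 lc_g_rc_24_3 lc_g_rc_27_0 lc_g_rc_21_2 lc_g_rc_26_6 lc_g_rc_24_3 lc_g_rc_24_7 lc_g_rc_24_3) (@D3.rec (fun _ => (Cert rels S Gen.g)) lc_g_rc_23_1 lc_g_Cert_tree lc_g_Cert_tree lc_g_rc_27_3 lc_g_rc_26_3 lc_g_rc_27_6 lc_g_rc_24_3 lc_g_Cert_tree lc_g_rc_21_2 lc_g_rc_21_2 lc_g_rc_23_9 lc_g_rc_21_3 lc_g_Cert_tree lc_g_rc_21_2 lc_g_rc_21_2 lc_g_rc_21_2 lc_g_rc_25_11 lc_g_rc_21_3 lc_g_rc_27_6 lc_g_rc_21_2 lc_g_rc_21_3 lc_g_Cert_tree lc_g_rc_21_3 lc_g_rc_21_3 lc_g_Cert_tree lc_g_rc_24_3 lc_g_rc_27_6 lc_g_rc_23_3 lc_g_rc_23_1 lc_g_rc_24_1 lc_g_rc_27_0 lc_g_rc_26_6 lc_g_Cert_tree lc_g_rc_24_1 lc_g_rc_21_3 lc_g_rc_24_1 lc_g_rc_27_3 lc_g_rc_26_3 lc_g_rc_27_9 lc_g_rc_26_3 lc_g_rc_27_6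 lc_g_rc_26_6 lc_g_rc_21_2 lc_g_rc_26_0 lc_g_rc_24_9 lc_g_Cert_tree lc_g_rc_27_3 lc_g_rc_21_3 lc_g_Cert_tree lc_g_rc_27_0 lc_g_rc_26_6 lc_g_rc_21_3 lc_g_rc_21_2 lc_g_rc_26_9 lc_g_rc_21_3 lc_g_rc_26_9 lc_g_rc_23_1 lc_g_rc_23_3 lc_g_rc_23_9 lc_g_Cert_tree lc_g_rc_21_2 lc_g_rc_27_3) (@D3.rec (fun _ => (Cert rels S Gen.g)) lc_g_rc_27_3 lc_g_rc_27_0 lc_g_rc_23_7 lc_g_rc_24_9 lc_g_rc_21_2 lc_g_rc_21_3 lc_g_rc_24_3 lc_g_rc_24_3 lc_g_Cert_tree lc_g_rc_24_3 lc_g_rc_21_2 lc_g_rc_27_6 lc_g_rc_26_6 lc_g_rc_21_2 lc_g_rc_24_3 lc_g_rc_21_3 lc_g_rc_21_2 lc_g_rc_27_3 lc_g_rc_21_2 lc_g_rc_24_3 lc_g_rc_26_0 lc_g_rc_27_3 lc_g_rc_27_0 lc_g_rc_27_6 lc_g_rc_21_2 lc_g_rc_26_6 lc_g_rc_25_3 lc_g_Cert_tree lc_g_rc_24_3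 lc_g_rc_26_6 lc_g_rc_24_7 lc_g_rc_24_1 lc_g_Cert_tree lc_g_rc_23_3 lc_g_Cert_tree lc_g_rc_26_6 lc_g_rc_27_0 lc_g_rc_23_3 lc_g_Cert_tree lc_g_rc_23_7 lc_g_rc_24_3 lc_g_rc_27_6 lc_g_rc_21_2 lc_g_rc_26_3 lc_g_rc_27_6 lc_g_rc_21_3 lc_g_rc_26_3 lc_g_rc_26_3 lc_g_rc_25_7 lc_g_rc_26_9 lc_g_rc_26_0 lc_g_rc_26_3 lc_g_rc_21_2 lc_g_Cert_tree lc_g_rc_24_3 lc_g_rc_23_7 lc_g_rc_26_6 lc_g_rc_25_11 lc_g_rc_23_1 lc_g_Cert_tree lc_g_rc_21_3 lc_g_rc_26_0) (@D3.rec (fun _ => (Cert rels S Gen.g)) lc_g_rc_21_3 lc_g_rc_27_0 lc_g_rc_27_6 lc_g_rc_26_0 lc_g_rc_21_2 lc_g_rc_21_3 lc_g_rc_27_6 lc_g_rc_21_2 lc_g_rc_27_0 lc_g_Cert_tree lc_g_rc_21_2 lc_g_rc_26_6 lc_g_rc_21_3 lc_g_rc_21_2 lc_g_rc_27_9 lc_g_rc_27_0 lc_g_rc_21_2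 lc_g_rc_26_0 lc_g_Cert_tree lc_g_rc_24_1 lc_g_rc_24_3 lc_g_rc_21_3 lc_g_rc_27_0 lc_g_Cert_tree lc_g_rc_24_3 lc_g_rc_24_3 lc_g_rc_27_6 lc_g_rc_24_1 lc_g_rc_21_2 lc_g_rc_21_2 lc_g_rc_27_6 lc_g_rc_21_3 lc_g_rc_21_2 lc_g_Cert_tree lc_g_Cert_tree lc_g_rc_24_9 lc_g_rc_21_3 lc_g_rc_26_9 lc_g_rc_26_9 lc_g_rc_21_3 lc_g_Cert_tree lc_g_rc_24_7 lc_g_rc_21_2 lc_g_rc_23_3 lc_g_rc_24_1 lc_g_rc_26_6 lc_g_rc_24_7 lc_g_rc_27_6 lc_g_rc_24_3 lc_g_rc_26_6 lc_g_rc_23_3 lc_g_rc_21_2 lc_g_Cert_tree lc_g_rc_24_3 lc_g_rc_27_6 lc_g_Cert_tree lc_g_rc_21_3 lc_g_Cert_tree lc_g_rc_21_2 lc_g_rc_26_3 lc_g_Cert_tree lc_g_rc_21_3) (@D3.rec (fun _ => (Cert rels S Gen.g)) lc_g_rc_21_2 lc_g_rc_23_3 lc_g_rc_21_2 lc_g_rc_27_6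 lc_g_rc_21_3 lc_g_rc_26_9 lc_g_rc_27_0 lc_g_rc_24_7 lc_g_rc_21_2 lc_g_rc_27_6 lc_g_Cert_tree lc_g_rc_26_6 lc_g_rc_21_2 lc_g_rc_21_3 lc_g_rc_21_2 lc_g_rc_26_3 lc_g_Cert_tree lc_g_rc_24_1 lc_g_rc_26_3 lc_g_rc_21_2 lc_g_rc_21_2 lc_g_rc_24_3 lc_g_rc_26_0 lc_g_rc_27_6 lc_g_Cert_tree lc_g_rc_21_2 lc_g_rc_21_3 lc_g_rc_27_3 lc_g_rc_21_3 lc_g_Cert_tree lc_g_rc_25_19 lc_g_rc_23_7 lc_g_rc_21_2 lc_g_rc_25_3 lc_g_rc_24_1 lc_g_rc_27_0 lc_g_rc_25_7 lc_g_rc_21_3 lc_g_rc_27_0 lc_g_rc_27_6 lc_g_rc_24_1 lc_g_rc_23_1 lc_g_rc_27_9 lc_g_rc_26_6 lc_g_rc_24_7 lc_g_rc_27_0 lc_g_rc_26_6 lc_g_rc_27_9 lc_g_rc_23_3 lc_g_rc_26_6 lc_g_Cert_tree lc_g_rc_21_2 lc_g_rc_26_6 lc_g_rc_26_0 lc_g_rc_23_3 lc_g_rc_23_7 lc_g_Cert_tree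 lc_g_Cert_tree lc_g_rc_23_3 lc_g_Cert_tree lc_g_rc_26_6 lc_g_rc_21_2) (@D3.rec (fun _ => (Cert rels S Gen.g)) lc_g_rc_26_3 lc_g_rc_27_0 lc_g_rc_21_2 lc_g_rc_24_3 lc_g_rc_26_9 lc_g_rc_24_7 lc_g_rc_21_2 lc_g_rc_27_0 lc_g_Cert_tree lc_g_rc_24_9 lc_g_rc_26_6 lc_g_rc_26_6 lc_g_rc_26_6 lc_g_rc_24_7 lc_g_rc_23_9 lc_g_rc_21_3 lc_g_rc_21_2 lc_g_Cert_tree lc_g_rc_21_2 lc_g_rc_21_2 lc_g_rc_21_2 lc_g_rc_26_6 lc_g_rc_26_6 lc_g_rc_21_3 lc_g_rc_23_7 lc_g_rc_23_3 lc_g_rc_26_3 lc_g_rc_21_3 lc_g_rc_23_3 lc_g_rc_26_0 lc_g_rc_27_0 lc_g_rc_21_3 lc_g_Cert_tree lc_g_rc_27_6 lc_g_rc_21_3 lc_g_rc_23_1 lc_g_rc_27_0 lc_g_rc_21_3 lc_g_rc_24_7 lc_g_rc_21_3 lc_g_rc_26_6 lc_g_rc_21_3 lc_g_Cert_tree lc_g_rc_23_1 lc_g_rc_23_3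 lc_g_rc_21_3 lc_g_rc_27_0 lc_g_Cert_tree lc_g_rc_21_2 lc_g_rc_24_7 lc_g_rc_27_3 lc_g_rc_24_7 lc_g_rc_21_2 lc_g_Cert_tree lc_g_rc_25_7 lc_g_rc_23_7 lc_g_rc_21_2 lc_g_rc_21_3 lc_g_rc_21_2 lc_g_Cert_tree lc_g_rc_21_2 lc_g_rc_27_3) (@D3.rec (fun _ => (Cert rels S Gen.g)) lc_g_rc_24_1 lc_g_rc_24_1 lc_g_rc_21_3 lc_g_rc_24_7 lc_g_rc_23_7 lc_g_rc_27_6 lc_g_rc_21_2 lc_g_rc_26_9 lc_g_rc_24_9 lc_g_rc_26_6 lc_g_rc_27_3 lc_g_rc_27_9 lc_g_rc_27_0 lc_g_rc_21_3 lc_g_rc_27_6 lc_g_rc_21_2 lc_g_rc_26_0 lc_g_rc_21_3 lc_g_Cert_tree lc_g_rc_21_2 lc_g_rc_26_6 lc_g_rc_27_0 lc_g_rc_26_6 lc_g_rc_21_2 lc_g_rc_27_3 lc_g_rc_23_3 lc_g_rc_21_2 lc_g_rc_25_3 lc_g_rc_24_3 lc_g_rc_24_3 lc_g_rc_26_3 lc_g_rc_21_2 lc_g_rc_23_7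 lc_g_rc_26_6 lc_g_rc_23_7 lc_g_rc_23_7 lc_g_Cert_tree lc_g_rc_21_3 lc_g_rc_26_6 lc_g_rc_27_6 lc_g_rc_24_1 lc_g_rc_23_7 lc_g_rc_27_3 lc_g_rc_26_3 lc_g_rc_26_0 lc_g_rc_21_3 lc_g_Cert_tree lc_g_Cert_tree lc_g_rc_21_2 lc_g_rc_27_3 lc_g_rc_21_3 lc_g_rc_21_3 lc_g_rc_27_3 lc_g_rc_21_3 lc_g_rc_27_3 lc_g_rc_26_6 lc_g_rc_27_3 lc_g_rc_21_3 lc_g_rc_26_3 lc_g_rc_27_9 lc_g_rc_21_2 lc_g_rc_21_2) (@D3.rec (fun _ => (Cert rels S Gen.g)) lc_g_rc_24_1 lc_g_rc_26_9 lc_g_rc_23_7 lc_g_Cert_tree lc_g_rc_26_0 lc_g_rc_27_3 lc_g_rc_21_3 lc_g_rc_23_1 lc_g_rc_27_3 lc_g_rc_27_6 lc_g_rc_24_3 lc_g_Cert_tree lc_g_rc_27_9 lc_g_Cert_tree lc_g_rc_26_3 lc_g_rc_27_6 lc_g_rc_24_9 lc_g_rc_23_1 lc_g_rc_21_2 lc_g_rc_27_6 lc_g_rc_21_3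 lc_g_rc_25_15 lc_g_rc_27_0 lc_g_rc_26_9 lc_g_rc_26_6 lc_g_Cert_tree lc_g_rc_21_3 lc_g_Cert_tree lc_g_rc_26_6 lc_g_Cert_tree lc_g_rc_21_2 lc_g_rc_25_3 lc_g_rc_21_2 lc_g_rc_25_3 lc_g_rc_27_6 lc_g_rc_21_3 lc_g_rc_21_2 lc_g_rc_24_1 lc_g_rc_26_6 lc_g_rc_27_3 lc_g_rc_27_3 lc_g_rc_24_3 lc_g_rc_27_6 lc_g_rc_26_6 lc_g_rc_27_9 lc_g_rc_26_6 lc_g_Cert_tree lc_g_rc_21_2 lc_g_rc_27_0 lc_g_rc_26_9 lc_g_rc_21_3 lc_g_Cert_tree lc_g_rc_21_2 lc_g_rc_27_6 lc_g_Cert_tree lc_g_rc_27_3 lc_g_Cert_tree lc_g_rc_27_3 lc_g_rc_21_2 lc_g_rc_25_7 lc_g_rc_21_2 lc_g_rc_21_3) (@D3.rec (fun _ => (Cert rels S Gen.g)) lc_g_Cert_tree lc_g_rc_21_2 lc_g_rc_23_1 lc_g_Cert_tree lc_g_rc_23_9 lc_g_rc_21_3 lc_g_rc_27_3 lc_g_rc_27_9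 lc_g_rc_26_6 lc_g_rc_27_6 lc_g_Cert_tree lc_g_rc_21_2 lc_g_rc_27_0 lc_g_rc_21_2 lc_g_rc_26_3 lc_g_rc_24_7 lc_g_Cert_tree lc_g_rc_23_1 lc_g_Cert_tree lc_g_rc_21_2 lc_g_rc_21_3 lc_g_rc_24_7 lc_g_rc_26_3 lc_g_rc_27_6 lc_g_Cert_tree lc_g_rc_24_7 lc_g_rc_21_2 lc_g_rc_21_2 lc_g_rc_24_3 lc_g_rc_21_2 lc_g_rc_27_6 lc_g_rc_21_2 lc_g_Cert_tree lc_g_rc_26_6 lc_g_Cert_tree lc_g_rc_26_0 lc_g_rc_26_9 lc_g_Cert_tree lc_g_rc_26_3 lc_g_rc_23_3 lc_g_rc_21_3 lc_g_rc_27_9 lc_g_rc_24_3 lc_g_rc_26_9 lc_g_rc_24_1 lc_g_rc_24_9 lc_g_rc_25_3 lc_g_Cert_tree lc_g_rc_24_3 lc_g_rc_21_3 lc_g_Cert_tree lc_g_rc_23_7 lc_g_rc_21_2 lc_g_rc_21_3 lc_g_Cert_tree lc_g_rc_21_2 lc_g_rc_27_6 lc_g_rc_27_6 lc_g_rc_26_0 lc_g_rc_21_3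 lc_g_rc_27_6 lc_g_rc_21_3) (@D3.rec (fun _ => (Cert rels S Gen.g)) lc_g_rc_24_7 lc_g_rc_24_3 lc_g_rc_21_2 lc_g_Cert_tree lc_g_rc_24_1 lc_g_rc_24_1 lc_g_rc_24_7 lc_g_rc_21_2 lc_g_rc_27_6 lc_g_rc_27_3 lc_g_rc_21_2 lc_g_rc_23_7 lc_g_Cert_tree lc_g_rc_26_0 lc_g_rc_26_9 lc_g_rc_23_7 lc_g_rc_26_9 lc_g_rc_21_2 lc_g_rc_27_6 lc_g_rc_21_3 lc_g_rc_21_3 lc_g_Cert_tree lc_g_rc_25_19 lc_g_rc_25_15 lc_g_rc_21_2 lc_g_Cert_tree lc_g_rc_21_2 lc_g_rc_26_9 lc_g_rc_23_1 lc_g_rc_25_7 lc_g_rc_26_6 lc_g_rc_23_7 lc_g_rc_26_9 lc_g_Cert_tree lc_g_rc_26_3 lc_g_rc_25_11 lc_g_rc_26_3 lc_g_rc_21_3 lc_g_rc_26_6 lc_g_rc_26_3 lc_g_rc_27_6 lc_g_rc_24_7 lc_g_rc_27_6 lc_g_Cert_tree lc_g_rc_24_3 lc_g_rc_27_6 lc_g_rc_21_2 lc_g_rc_26_6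 lc_g_rc_26_6 lc_g_rc_25_19 lc_g_rc_27_3 lc_g_rc_27_6 lc_g_Cert_tree lc_g_rc_27_0 lc_g_rc_27_9 lc_g_rc_23_1 lc_g_rc_24_9 lc_g_rc_21_3 lc_g_rc_24_1 lc_g_rc_27_0 lc_g_rc_24_3 lc_g_rc_23_9) (@D3.rec (fun _ => (Cert rels S Gen.g)) lc_g_rc_26_6 lc_g_rc_27_3 lc_g_rc_26_0 lc_g_rc_21_3 lc_g_Cert_tree lc_g_rc_23_7 lc_g_rc_23_3 lc_g_rc_24_7 lc_g_rc_21_2 lc_g_rc_23_3 lc_g_rc_26_6 lc_g_rc_23_9 lc_g_rc_27_9 lc_g_rc_21_3 lc_g_rc_23_3 lc_g_rc_26_6 lc_g_rc_21_2 lc_g_rc_21_3 lc_g_rc_23_9 lc_g_rc_26_6 lc_g_rc_23_3 lc_g_Cert_tree lc_g_rc_24_1 lc_g_rc_26_3 lc_g_rc_26_6 lc_g_rc_27_0 lc_g_rc_21_2 lc_g_rc_21_3 lc_g_rc_21_3 lc_g_rc_24_9 lc_g_rc_24_7 lc_g_rc_26_6 lc_g_Cert_tree lc_g_rc_26_9 lc_g_rc_24_7 lc_g_rc_27_0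 lc_g_rc_27_6 lc_g_rc_25_7 lc_g_rc_26_0 lc_g_rc_25_3 lc_g_rc_23_3 lc_g_rc_23_9 lc_g_rc_27_3 lc_g_rc_26_6 lc_g_rc_24_7 lc_g_rc_25_19 lc_g_rc_24_9 lc_g_rc_24_7 lc_g_rc_27_6 lc_g_Cert_tree lc_g_rc_27_6 lc_g_rc_27_6 lc_g_rc_21_3 lc_g_Cert_tree lc_g_rc_21_2 lc_g_rc_26_9 lc_g_rc_26_6 lc_g_rc_26_6 lc_g_rc_27_9 lc_g_rc_25_3 lc_g_Cert_tree lc_g_rc_21_2) (@D3.rec (fun _ => (Cert rels S Gen.g)) lc_g_rc_21_3 lc_g_rc_21_2 lc_g_rc_21_3 lc_g_rc_26_3 lc_g_rc_27_3 lc_g_rc_26_0 lc_g_rc_21_3 lc_g_rc_25_15 lc_g_rc_26_0 lc_g_rc_27_6 lc_g_rc_21_3 lc_g_rc_26_6 lc_g_rc_25_7 lc_g_rc_21_3 lc_g_rc_26_3 lc_g_rc_25_19 lc_g_rc_23_3 lc_g_Cert_tree lc_g_Cert_tree lc_g_rc_24_1 lc_g_rc_26_6 lc_g_rc_21_2 lc_g_rc_26_9 lc_g_rc_24_3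 lc_g_Cert_tree lc_g_rc_26_0 lc_g_rc_23_3 lc_g_rc_24_9 lc_g_rc_23_1 lc_g_rc_26_3 lc_g_rc_27_6 lc_g_rc_21_2 lc_g_Cert_tree lc_g_rc_27_0 lc_g_rc_27_3 lc_g_rc_21_3 lc_g_rc_26_0 lc_g_rc_27_6 lc_g_rc_26_0 lc_g_Cert_tree lc_g_rc_26_0 lc_g_rc_27_6 lc_g_rc_26_6 lc_g_rc_21_3 lc_g_rc_23_1 lc_g_rc_24_1 lc_g_rc_23_1 lc_g_rc_23_3 lc_g_rc_21_2 lc_g_rc_21_3 lc_g_Cert_tree lc_g_rc_21_2 lc_g_rc_27_0 lc_g_rc_23_1 lc_g_rc_23_3 lc_g_rc_21_3 lc_g_rc_21_3 lc_g_rc_21_3 lc_g_rc_27_0 lc_g_rc_27_9 lc_g_rc_26_0 lc_g_rc_21_3) (@D3.rec (fun _ => (Cert rels S Gen.g)) lc_g_rc_26_6 lc_g_rc_26_6 lc_g_rc_23_1 lc_g_rc_23_1 lc_g_rc_24_9 lc_g_rc_26_6 lc_g_rc_27_0 lc_g_rc_26_6 lc_g_rc_26_6 lc_g_rc_21_2 lc_g_Cert_tree lc_g_rc_24_1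 lc_g_Cert_tree lc_g_rc_27_9 lc_g_rc_25_19 lc_g_rc_24_3 lc_g_rc_21_3 lc_g_rc_24_1 lc_g_rc_27_6 lc_g_rc_21_3 lc_g_rc_21_3 lc_g_rc_23_1 lc_g_rc_21_3 lc_g_rc_27_9 lc_g_rc_24_9 lc_g_rc_24_3 lc_g_rc_26_6 lc_g_rc_27_9 lc_g_rc_23_1 lc_g_Cert_tree lc_g_rc_21_3 lc_g_Cert_tree lc_g_rc_27_3 lc_g_rc_27_3 lc_g_rc_23_3 lc_g_rc_21_2 lc_g_rc_21_2 lc_g_rc_27_9 lc_g_rc_26_3 lc_g_rc_21_2 lc_g_rc_27_9 lc_g_rc_26_6 lc_g_Cert_tree lc_g_rc_24_1 lc_g_rc_26_3 lc_g_rc_21_2 lc_g_rc_23_7 lc_g_rc_21_3 lc_g_rc_21_3 lc_g_rc_27_6 lc_g_rc_25_19 lc_g_rc_21_2 lc_g_rc_21_2 lc_g_rc_27_9 lc_g_rc_27_3 lc_g_Cert_tree lc_g_rc_24_1 lc_g_rc_26_0 lc_g_rc_27_6 lc_g_rc_21_3 lc_g_Cert_tree lc_g_rc_24_1) (@D3.rec (fun _ => (Cert rels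 S Gen.g)) lc_g_rc_24_1 lc_g_rc_21_2 lc_g_rc_27_6 lc_g_rc_21_2 lc_g_rc_21_3 lc_g_Cert_tree lc_g_rc_26_6 lc_g_rc_25_7 lc_g_rc_21_2 lc_g_rc_27_3 lc_g_rc_26_6 lc_g_rc_21_2 lc_g_rc_24_7 lc_g_rc_21_3 lc_g_Cert_tree lc_g_rc_26_3 lc_g_rc_26_6 lc_g_rc_26_0 lc_g_rc_24_9 lc_g_rc_23_3 lc_g_rc_23_7 lc_g_rc_21_3 lc_g_rc_23_1 lc_g_rc_23_3 lc_g_rc_21_3 lc_g_rc_27_3 lc_g_rc_21_2 lc_g_rc_21_2 lc_g_rc_21_3 lc_g_Cert_tree lc_g_rc_24_3 lc_g_rc_21_2 lc_g_rc_23_3 lc_g_rc_27_6 lc_g_rc_27_3 lc_g_rc_27_3 lc_g_Cert_tree lc_g_rc_27_6 lc_g_rc_21_2 lc_g_rc_23_1 lc_g_rc_27_6 lc_g_Cert_tree lc_g_rc_23_3 lc_g_rc_21_2 lc_g_rc_21_2 lc_g_rc_24_1 lc_g_rc_26_0 lc_g_rc_27_6 lc_g_rc_23_1 lc_g_rc_27_3 lc_g_rc_21_3 lc_g_rc_27_6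 lc_g_rc_21_2 lc_g_rc_21_2 lc_g_rc_24_1 lc_g_rc_26_6 lc_g_rc_27_6 lc_g_Cert_tree lc_g_rc_21_3 lc_g_rc_27_6 lc_g_rc_27_0 lc_g_Cert_tree) (@D3.rec (fun _ => (Cert rels S Gen.g)) lc_g_rc_21_2 lc_g_rc_26_6 lc_g_rc_25_7 lc_g_rc_23_3 lc_g_rc_23_1 lc_g_rc_23_1 lc_g_rc_27_0 lc_g_rc_27_6 lc_g_rc_24_1 lc_g_rc_25_19 lc_g_Cert_tree lc_g_rc_24_3 lc_g_rc_21_2 lc_g_rc_27_0 lc_g_rc_27_9 lc_g_rc_21_2 lc_g_rc_21_3 lc_g_rc_23_9 lc_g_rc_27_0 lc_g_rc_25_19 lc_g_rc_26_6 lc_g_Cert_tree lc_g_rc_21_3 lc_g_rc_23_7 lc_g_rc_24_3 lc_g_Cert_tree lc_g_rc_24_1 lc_g_rc_23_7 lc_g_rc_24_1 lc_g_rc_27_6 lc_g_rc_27_6 lc_g_rc_26_0 lc_g_rc_23_3 lc_g_rc_24_7 lc_g_rc_27_6 lc_g_rc_27_0 lc_g_Cert_tree lc_g_rc_24_3 lc_g_rc_21_2 lc_g_rc_26_3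 lc_g_rc_27_3 lc_g_rc_24_3 lc_g_rc_27_3 lc_g_rc_23_7 lc_g_rc_23_9 lc_g_rc_21_3 lc_g_rc_21_2 lc_g_rc_24_3 lc_g_rc_23_1 lc_g_rc_26_0 lc_g_rc_26_3 lc_g_rc_26_3 lc_g_Cert_tree lc_g_rc_26_0 lc_g_rc_21_2 lc_g_rc_21_2 lc_g_rc_21_3 lc_g_Cert_tree lc_g_rc_21_2 lc_g_rc_27_0 lc_g_rc_24_3 lc_g_rc_21_3) (@D3.rec (fun _ => (Cert rels S Gen.g)) lc_g_Cert_tree lc_g_rc_21_2 lc_g_rc_21_2 lc_g_rc_27_3 lc_g_rc_27_6 lc_g_rc_21_3 lc_g_rc_27_9 lc_g_rc_26_3 lc_g_rc_23_1 lc_g_rc_24_9 lc_g_rc_21_3 lc_g_rc_26_3 lc_g_rc_23_3 lc_g_rc_21_3 lc_g_rc_24_3 lc_g_rc_24_3 lc_g_rc_26_0 lc_g_rc_27_3 lc_g_rc_26_9 lc_g_rc_21_2 lc_g_rc_21_2 lc_g_rc_26_9 lc_g_rc_21_2 lc_g_Cert_tree lc_g_rc_21_3 lc_g_rc_23_7 lc_g_rc_26_3 lc_g_rc_21_2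 lc_g_rc_21_2 lc_g_rc_21_3 lc_g_Cert_tree lc_g_rc_21_3 lc_g_Cert_tree lc_g_Cert_tree lc_g_rc_21_3 lc_g_Cert_tree lc_g_rc_26_3 lc_g_rc_26_0 lc_g_rc_21_2 lc_g_rc_21_3 lc_g_rc_27_6 lc_g_rc_26_0 lc_g_rc_23_7 lc_g_rc_27_6 lc_g_rc_21_2 lc_g_rc_26_3 lc_g_rc_21_3 lc_g_Cert_tree lc_g_rc_24_7 lc_g_rc_26_6 lc_g_rc_21_3 lc_g_rc_21_2 lc_g_rc_21_3 lc_g_Cert_tree lc_g_rc_21_3 lc_g_rc_21_3 lc_g_Cert_tree lc_g_rc_21_3 lc_g_rc_21_3 lc_g_rc_26_3 lc_g_Cert_tree lc_g_rc_21_3) (@D3.rec (fun _ => (Cert rels S Gen.g)) lc_g_Cert_tree lc_g_rc_21_2 lc_g_rc_21_2 lc_g_rc_26_6 lc_g_rc_23_3 lc_g_Cert_tree lc_g_rc_21_2 lc_g_rc_23_1 lc_g_rc_27_6 lc_g_rc_21_2 lc_g_Cert_tree lc_g_rc_27_6 lc_g_rc_21_3 lc_g_Cert_tree lc_g_rc_26_6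 lc_g_rc_21_2 lc_g_rc_21_3 lc_g_Cert_tree lc_g_rc_24_9 lc_g_rc_27_6 lc_g_rc_24_3 lc_g_rc_27_3 lc_g_rc_26_6 lc_g_rc_27_9 lc_g_rc_27_0 lc_g_rc_24_1 lc_g_rc_23_1 lc_g_rc_27_0 lc_g_rc_26_3 lc_g_rc_21_3 lc_g_Cert_tree lc_g_rc_24_3 lc_g_Cert_tree lc_g_rc_23_7 lc_g_rc_21_3 lc_g_Cert_tree lc_g_rc_26_3 lc_g_rc_21_3 lc_g_Cert_tree lc_g_rc_21_2 lc_g_rc_21_3 lc_g_rc_21_2 lc_g_rc_25_19 lc_g_rc_21_3 lc_g_Cert_tree lc_g_rc_26_0 lc_g_rc_26_3 lc_g_Cert_tree lc_g_Cert_tree lc_g_rc_21_2 lc_g_rc_24_3 lc_g_Cert_tree lc_g_Cert_tree lc_g_rc_21_3 lc_g_rc_23_3 lc_g_rc_24_7 lc_g_rc_23_7 lc_g_rc_21_3 lc_g_rc_25_19 lc_g_Cert_tree lc_g_rc_26_6 lc_g_rc_26_6) (@D3.rec (fun _ => (Cert rels S Gen.g)) lc_g_rc_21_2 lc_g_rc_26_6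 lc_g_rc_23_7 lc_g_rc_27_6 lc_g_rc_26_0 lc_g_rc_23_3 lc_g_Cert_tree lc_g_rc_24_3 lc_g_rc_21_2 lc_g_rc_21_3 lc_g_rc_26_6 lc_g_rc_24_3 lc_g_rc_24_7 lc_g_Cert_tree lc_g_rc_21_2 lc_g_rc_24_9 lc_g_rc_21_2 lc_g_rc_26_9 lc_g_rc_23_7 lc_g_rc_21_2 lc_g_Cert_tree lc_g_rc_23_1 lc_g_rc_23_3 lc_g_rc_26_3 lc_g_rc_21_3 lc_g_rc_21_3 lc_g_Cert_tree lc_g_rc_21_2 lc_g_rc_27_0 lc_g_rc_27_3 lc_g_rc_21_2 lc_g_rc_21_2 lc_g_Cert_tree lc_g_rc_26_3 lc_g_rc_27_0 lc_g_rc_21_3 lc_g_rc_26_6 lc_g_rc_26_6 lc_g_rc_21_3 lc_g_rc_21_3 lc_g_Cert_tree lc_g_rc_21_2 lc_g_rc_26_6 lc_g_rc_21_3 lc_g_Cert_tree lc_g_rc_24_3 lc_g_rc_26_3 lc_g_rc_26_9 lc_g_rc_26_0 lc_g_rc_27_9 lc_g_rc_24_3 lc_g_rc_23_3 lc_g_rc_21_2 lc_g_rc_24_3 lc_g_rc_27_6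 lc_g_rc_24_9 lc_g_rc_21_2 lc_g_rc_27_6 lc_g_rc_26_0 lc_g_rc_23_1 lc_g_rc_27_6 lc_g_Cert_tree) (@D3.rec (fun _ => (Cert rels S Gen.g)) lc_g_rc_27_3 lc_g_rc_26_3 lc_g_rc_25_11 lc_g_rc_26_6 lc_g_rc_26_3 lc_g_rc_27_3 lc_g_rc_27_3 lc_g_Cert_tree lc_g_rc_26_3 lc_g_rc_27_0 lc_g_rc_26_9 lc_g_rc_21_2 lc_g_rc_24_9 lc_g_rc_21_3 lc_g_Cert_tree lc_g_rc_23_7 lc_g_rc_25_15 lc_g_rc_23_9 lc_g_rc_26_9 lc_g_Cert_tree lc_g_rc_27_6 lc_g_rc_23_9 lc_g_rc_24_9 lc_g_rc_23_3 lc_g_rc_25_19 lc_g_rc_21_3 lc_g_rc_23_3 lc_g_rc_24_3 lc_g_Cert_tree lc_g_rc_23_9 lc_g_rc_23_1 lc_g_rc_21_3 lc_g_Cert_tree lc_g_rc_26_6 lc_g_rc_26_0 lc_g_rc_26_3 lc_g_rc_21_2 lc_g_rc_21_2 lc_g_rc_21_3 lc_g_Cert_tree lc_g_rc_23_1 lc_g_Cert_tree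 lc_g_rc_26_9 lc_g_rc_24_3 lc_g_rc_21_3 lc_g_rc_21_2 lc_g_rc_21_2 lc_g_Cert_tree lc_g_rc_26_0 lc_g_rc_25_15 lc_g_rc_23_7 lc_g_rc_27_6 lc_g_rc_23_1 lc_g_rc_23_9 lc_g_rc_27_3 lc_g_rc_27_6 lc_g_rc_26_3 lc_g_rc_27_6 lc_g_Cert_tree lc_g_rc_26_0 lc_g_rc_21_2 lc_g_rc_26_6) (@D3.rec (fun _ => (Cert rels S Gen.g)) lc_g_rc_23_9 lc_g_rc_24_3 lc_g_Cert_tree lc_g_rc_21_2 lc_g_rc_21_3 lc_g_Cert_tree lc_g_rc_25_7 lc_g_rc_21_3 lc_g_Cert_tree lc_g_rc_21_2 lc_g_rc_21_2 lc_g_rc_25_19 lc_g_rc_24_9 lc_g_rc_27_6 lc_g_rc_26_0 lc_g_rc_27_6 lc_g_rc_27_6 lc_g_rc_21_3 lc_g_rc_24_7 lc_g_rc_23_3 lc_g_rc_23_9 lc_g_rc_21_2 lc_g_rc_24_1 lc_g_rc_26_6 lc_g_rc_26_6 lc_g_rc_26_6 lc_g_rc_25_7 lc_g_Cert_tree lc_g_rc_27_3 lc_g_rc_23_7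 lc_g_rc_27_3 lc_g_rc_24_1 lc_g_rc_24_3 lc_g_rc_21_3 lc_g_rc_26_6 lc_g_rc_21_3 lc_g_rc_24_3 lc_g_rc_23_3 lc_g_rc_23_1 lc_g_Cert_tree lc_g_rc_26_0 lc_g_rc_27_0 lc_g_rc_24_1 lc_g_rc_24_7 lc_g_rc_26_6 lc_g_rc_23_3 lc_g_Cert_tree lc_g_rc_27_6 lc_g_rc_27_3 lc_g_rc_27_3 lc_g_rc_27_3 lc_g_rc_23_9 lc_g_Cert_tree lc_g_rc_26_6 lc_g_rc_21_2 lc_g_rc_21_2 lc_g_rc_21_3 lc_g_rc_26_9 lc_g_rc_24_9 lc_g_rc_21_3 lc_g_rc_27_6 lc_g_rc_21_2) (@D3.rec (fun _ => (Cert rels S Gen.g)) lc_g_rc_27_3 lc_g_rc_24_9 lc_g_rc_26_6 lc_g_rc_23_7 lc_g_rc_26_3 lc_g_rc_23_1 lc_g_rc_27_6 lc_g_rc_21_3 lc_g_rc_26_0 lc_g_rc_26_9 lc_g_rc_23_1 lc_g_Cert_tree lc_g_rc_26_0 lc_g_rc_27_6 lc_g_rc_27_9 lc_g_Cert_tree lc_g_rc_24_1 lc_g_rc_25_3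 lc_g_rc_21_2 lc_g_rc_21_3 lc_g_rc_27_0 lc_g_rc_27_0 lc_g_rc_21_2 lc_g_rc_21_2 lc_g_rc_27_3 lc_g_rc_21_2 lc_g_rc_26_9 lc_g_rc_26_3 lc_g_rc_24_1 lc_g_rc_27_3 lc_g_Cert_tree lc_g_Cert_tree lc_g_Cert_tree lc_g_rc_23_1 lc_g_rc_26_6 lc_g_rc_27_3 lc_g_rc_21_2 lc_g_rc_21_3 lc_g_rc_23_1 lc_g_rc_27_9 lc_g_rc_26_0 lc_g_rc_26_3 lc_g_rc_21_3 lc_g_rc_21_3 lc_g_rc_23_7 lc_g_rc_21_3 lc_g_Cert_tree lc_g_rc_26_6 lc_g_rc_27_6 lc_g_rc_21_3 lc_g_rc_21_2 lc_g_rc_24_1 lc_g_rc_26_3 lc_g_rc_21_3 lc_g_rc_26_9 lc_g_rc_26_0 lc_g_rc_23_1 lc_g_rc_21_2 lc_g_rc_24_1 lc_g_Cert_tree lc_g_rc_25_19 lc_g_rc_27_6) (@D3.rec (fun _ => (Cert rels S Gen.g)) lc_g_rc_21_3 lc_g_rc_21_2 lc_g_Cert_tree lc_g_rc_26_0 lc_g_Cert_tree lc_g_rc_21_2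 lc_g_rc_24_1 lc_g_rc_23_1 lc_g_rc_21_3 lc_g_rc_21_2 lc_g_rc_21_3 lc_g_rc_25_19 lc_g_rc_27_0 lc_g_Cert_tree lc_g_rc_24_1 lc_g_rc_26_6 lc_g_rc_27_3 lc_g_rc_27_3 lc_g_rc_27_6 lc_g_rc_23_1 lc_g_rc_21_2 lc_g_rc_26_0 lc_g_rc_24_3 lc_g_rc_21_3 lc_g_rc_21_2 lc_g_rc_27_6 lc_g_rc_27_6 lc_g_rc_21_3 lc_g_rc_21_2 lc_g_rc_26_3 lc_g_rc_26_9 lc_g_rc_23_3 lc_g_rc_26_6 lc_g_rc_24_7 lc_g_rc_27_0 lc_g_rc_21_3 lc_g_rc_27_6 lc_g_rc_21_3 lc_g_rc_21_2 lc_g_rc_26_0 lc_g_rc_27_0 lc_g_rc_23_3 lc_g_rc_26_0 lc_g_rc_21_3 lc_g_Cert_tree lc_g_rc_21_2 lc_g_rc_27_3 lc_g_rc_21_3 lc_g_rc_27_6 lc_g_rc_21_2 lc_g_rc_23_3 lc_g_rc_21_2 lc_g_rc_23_7 lc_g_rc_27_9 lc_g_Cert_tree lc_g_rc_27_0 lc_g_rc_27_6 lc_g_rc_24_3 lc_g_rc_24_3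 lc_g_rc_27_0 lc_g_rc_27_0 lc_g_Cert_tree) (@D3.rec (fun _ => (Cert rels S Gen.g)) lc_g_Cert_tree lc_g_rc_27_6 lc_g_rc_26_0 lc_g_rc_27_3 lc_g_rc_21_2 lc_g_rc_21_2 lc_g_rc_21_3 lc_g_Cert_tree lc_g_rc_23_1 lc_g_rc_21_2 lc_g_rc_27_6 lc_g_rc_26_6 lc_g_rc_26_6 lc_g_rc_27_6 lc_g_rc_21_3 lc_g_rc_21_3 lc_g_rc_27_6 lc_g_rc_27_0 lc_g_Cert_tree lc_g_rc_21_3 lc_g_rc_21_2 lc_g_rc_27_9 lc_g_rc_21_2 lc_g_rc_23_7 lc_g_rc_27_6 lc_g_rc_26_9 lc_g_rc_27_6 lc_g_rc_27_6 lc_g_rc_27_3 lc_g_rc_27_3 lc_g_rc_21_2 lc_g_rc_21_2 lc_g_rc_27_3 lc_g_rc_24_1 lc_g_rc_27_6 lc_g_rc_24_3 lc_g_rc_23_1 lc_g_Cert_tree lc_g_rc_27_6 lc_g_rc_27_3 lc_g_rc_21_2 lc_g_rc_24_3 lc_g_rc_27_9 lc_g_rc_23_3 lc_g_rc_24_1 lc_g_rc_23_9 lc_g_rc_23_9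 lc_g_rc_23_7 lc_g_rc_24_1 lc_g_rc_24_3 lc_g_rc_23_3 lc_g_rc_24_3 lc_g_rc_23_1 lc_g_rc_23_1 lc_g_rc_25_15 lc_g_rc_21_2 lc_g_rc_27_6 lc_g_rc_25_3 lc_g_rc_26_6 lc_g_rc_27_0 lc_g_rc_21_3 lc_g_rc_24_3) (@D3.rec (fun _ => (Cert rels S Gen.g)) lc_g_rc_26_6 lc_g_rc_26_3 lc_g_rc_27_0 lc_g_Cert_tree lc_g_rc_21_3 lc_g_rc_21_2 lc_g_rc_25_15 lc_g_rc_23_7 lc_g_rc_24_7 lc_g_rc_27_6 lc_g_rc_25_3 lc_g_rc_21_3 lc_g_rc_27_6 lc_g_rc_21_3 lc_g_rc_26_3 lc_g_rc_21_2 lc_g_rc_27_6 lc_g_Cert_tree lc_g_rc_26_0 lc_g_rc_27_0 lc_g_rc_23_3 lc_g_Cert_tree lc_g_rc_21_3 lc_g_rc_26_9 lc_g_rc_27_6 lc_g_rc_21_3 lc_g_rc_26_0 lc_g_rc_25_19 lc_g_rc_27_9 lc_g_rc_27_6 lc_g_rc_21_3 lc_g_rc_27_3 lc_g_rc_21_3 lc_g_rc_27_6 lc_g_rc_24_3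 lc_g_Cert_tree lc_g_rc_21_2 lc_g_rc_27_3 lc_g_rc_26_0 lc_g_rc_23_7 lc_g_rc_21_2 lc_g_rc_23_3 lc_g_rc_26_9 lc_g_rc_21_3 lc_g_Cert_tree lc_g_rc_27_6 lc_g_rc_21_2 lc_g_rc_26_3 lc_g_rc_21_3 lc_g_rc_27_6 lc_g_rc_23_3 lc_g_rc_26_3 lc_g_rc_21_2 lc_g_rc_23_1 lc_g_rc_27_6 lc_g_rc_23_1 lc_g_rc_27_6 lc_g_rc_21_3 lc_g_rc_21_3 lc_g_Cert_tree lc_g_rc_26_6 lc_g_rc_21_2)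
def ce_g_28 : D2 → D3 → (Cert rels S Gen.g) := @D2.rec (fun _ => D3 → (Cert rels S Gen.g)) (@D3.rec (fun _ => (Cert rels S Gen.g)) lc_g_rc_21_3 lc_g_rc_26_0 lc_g_rc_23_3 lc_g_rc_26_9 lc_g_rc_27_3 lc_g_rc_21_2 lc_g_rc_24_1 lc_g_rc_27_9 lc_g_rc_27_0 lc_g_Cert_tree lc_g_rc_24_7 lc_g_rc_21_2 lc_g_rc_21_3 lc_g_rc_21_2 lc_g_rc_27_3 lc_g_rc_23_1 lc_g_rc_27_0 lc_g_Cert_tree lc_g_rc_21_2 lc_g_rc_24_3 lc_g_rc_27_3 lc_g_rc_23_3 lc_g_Cert_tree lc_g_Cert_tree lc_g_rc_26_0 lc_g_rc_25_7 lc_g_rc_26_6 lc_g_rc_21_2 lc_g_Cert_tree lc_g_rc_21_2 lc_g_rc_21_3 lc_g_rc_21_2 lc_g_rc_21_3 lc_g_rc_27_0 lc_g_rc_27_9 lc_g_rc_23_1 lc_g_rc_27_6 lc_g_rc_21_3 lc_g_rc_25_7 lc_g_rc_21_2 lc_g_rc_23_9 lc_g_rc_21_2 lc_g_rc_21_3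 lc_g_rc_26_3 lc_g_rc_27_9 lc_g_rc_21_2 lc_g_rc_24_1 lc_g_rc_26_3 lc_g_Cert_tree lc_g_rc_27_6 lc_g_rc_21_3 lc_g_Cert_tree lc_g_rc_21_2 lc_g_Cert_tree lc_g_rc_21_2 lc_g_rc_21_2 lc_g_rc_24_3 lc_g_Cert_tree lc_g_rc_27_9 lc_g_rc_27_6 lc_g_rc_21_2 lc_g_rc_27_6) (@D3.rec (fun _ => (Cert rels S Gen.g)) lc_g_rc_23_3 lc_g_rc_24_7 lc_g_rc_23_3 lc_g_rc_23_3 lc_g_rc_21_2 lc_g_rc_27_0 lc_g_rc_21_3 lc_g_rc_27_0 lc_g_rc_21_3 lc_g_rc_21_3 lc_g_Cert_tree lc_g_rc_21_2 lc_g_rc_21_2 lc_g_rc_21_2 lc_g_Cert_tree lc_g_rc_23_9 lc_g_rc_21_3 lc_g_Cert_tree lc_g_rc_26_6 lc_g_rc_27_6 lc_g_rc_27_3 lc_g_rc_21_3 lc_g_rc_21_2 lc_g_rc_27_3 lc_g_rc_23_9 lc_g_rc_24_9 lc_g_rc_21_3 lc_g_rc_26_9 lc_g_rc_24_3 lc_g_rc_21_3 lc_g_Cert_tree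 lc_g_rc_21_2 lc_g_Cert_tree lc_g_rc_26_0 lc_g_rc_26_3 lc_g_rc_27_6 lc_g_rc_21_3 lc_g_rc_21_3 lc_g_rc_21_2 lc_g_Cert_tree lc_g_rc_26_6 lc_g_rc_26_6 lc_g_rc_21_3 lc_g_rc_24_3 lc_g_rc_21_3 lc_g_rc_27_6 lc_g_rc_23_1 lc_g_rc_25_19 lc_g_rc_23_3 lc_g_rc_23_7 lc_g_rc_21_2 lc_g_Cert_tree lc_g_rc_27_3 lc_g_rc_27_6 lc_g_rc_21_3 lc_g_Cert_tree lc_g_rc_27_9 lc_g_rc_21_3 lc_g_Cert_tree lc_g_rc_21_2 lc_g_rc_27_6 lc_g_rc_26_0) (@D3.rec (fun _ => (Cert rels S Gen.g)) lc_g_rc_27_6 lc_g_Cert_tree lc_g_rc_23_9 lc_g_Cert_tree lc_g_rc_27_3 lc_g_rc_21_2 lc_g_rc_21_2 lc_g_rc_26_6 lc_g_rc_26_9 lc_g_rc_27_0 lc_g_rc_26_0 lc_g_rc_21_2 lc_g_rc_26_9 lc_g_rc_21_2 lc_g_rc_24_7 lc_g_rc_24_3 lc_g_rc_24_1 lc_g_Cert_tree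 lc_g_rc_27_6 lc_g_rc_27_6 lc_g_rc_21_2 lc_g_rc_26_6 lc_g_rc_25_3 lc_g_rc_23_9 lc_g_rc_27_9 lc_g_rc_27_6 lc_g_rc_26_6 lc_g_rc_21_3 lc_g_Cert_tree lc_g_rc_24_1 lc_g_rc_27_0 lc_g_rc_24_3 lc_g_rc_26_6 lc_g_rc_21_2 lc_g_Cert_tree lc_g_rc_23_3 lc_g_rc_21_2 lc_g_rc_26_0 lc_g_rc_21_3 lc_g_rc_26_3 lc_g_rc_21_2 lc_g_rc_21_3 lc_g_rc_26_3 lc_g_rc_27_9 lc_g_Cert_tree lc_g_rc_27_6 lc_g_rc_23_3 lc_g_Cert_tree lc_g_rc_21_2 lc_g_rc_21_2 lc_g_rc_25_19 lc_g_rc_26_0 lc_g_rc_27_0 lc_g_rc_26_3 lc_g_rc_23_9 lc_g_rc_27_3 lc_g_rc_24_7 lc_g_rc_21_2 lc_g_Cert_tree lc_g_rc_21_3 lc_g_Cert_tree lc_g_rc_27_3) (@D3.rec (fun _ => (Cert rels S Gen.g)) lc_g_rc_26_6 lc_g_rc_25_15 lc_g_Cert_tree lc_g_rc_27_0 lc_g_rc_26_6 lc_g_rc_21_3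 lc_g_rc_21_3 lc_g_Cert_tree lc_g_rc_24_9 lc_g_rc_21_2 lc_g_rc_24_1 lc_g_rc_26_3 lc_g_rc_23_3 lc_g_rc_23_9 lc_g_Cert_tree lc_g_rc_24_1 lc_g_rc_26_6 lc_g_rc_24_7 lc_g_Cert_tree lc_g_rc_26_6 lc_g_rc_21_2 lc_g_rc_21_2 lc_g_rc_26_6 lc_g_rc_23_7 lc_g_rc_23_1 lc_g_rc_23_1 lc_g_Cert_tree lc_g_rc_24_3 lc_g_rc_27_6 lc_g_Cert_tree lc_g_rc_21_2 lc_g_rc_21_3 lc_g_rc_21_2 lc_g_rc_24_3 lc_g_rc_26_0 lc_g_rc_24_7 lc_g_rc_24_3 lc_g_rc_21_2 lc_g_Cert_tree lc_g_rc_21_2 lc_g_rc_26_6 lc_g_Cert_tree lc_g_rc_25_11 lc_g_Cert_tree lc_g_rc_27_6 lc_g_rc_26_6 lc_g_Cert_tree lc_g_rc_27_6 lc_g_rc_24_1 lc_g_rc_24_9 lc_g_rc_24_1 lc_g_rc_26_0 lc_g_rc_21_3 lc_g_rc_24_3 lc_g_rc_21_2 lc_g_rc_21_3 lc_g_rc_21_2 lc_g_rc_24_1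 lc_g_rc_27_6 lc_g_rc_21_3 lc_g_rc_26_0 lc_g_Cert_tree) (@D3.rec (fun _ => (Cert rels S Gen.g)) lc_g_rc_27_6 lc_g_rc_21_2 lc_g_rc_24_7 lc_g_rc_24_1 lc_g_rc_21_3 lc_g_Cert_tree lc_g_rc_24_3 lc_g_rc_27_6 lc_g_rc_21_3 lc_g_rc_21_3 lc_g_rc_25_3 lc_g_Cert_tree lc_g_Cert_tree lc_g_rc_21_3 lc_g_Cert_tree lc_g_rc_21_2 lc_g_rc_23_3 lc_g_Cert_tree lc_g_rc_26_3 lc_g_rc_21_2 lc_g_rc_23_3 lc_g_rc_24_1 lc_g_rc_21_3 lc_g_rc_24_9 lc_g_rc_25_3 lc_g_rc_24_7 lc_g_rc_25_15 lc_g_rc_23_3 lc_g_rc_24_1 lc_g_rc_24_7 lc_g_rc_21_3 lc_g_rc_21_3 lc_g_rc_26_3 lc_g_rc_21_2 lc_g_rc_21_3 lc_g_rc_26_6 lc_g_Cert_tree lc_g_Cert_tree lc_g_rc_25_7 lc_g_rc_21_2 lc_g_rc_21_2 lc_g_rc_23_9 lc_g_Cert_tree lc_g_Cert_tree lc_g_rc_21_2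 lc_g_rc_21_3 lc_g_Cert_tree lc_g_rc_21_2 lc_g_rc_27_9 lc_g_rc_21_3 lc_g_Cert_tree lc_g_rc_27_3 lc_g_rc_21_2 lc_g_Cert_tree lc_g_rc_21_3 lc_g_Cert_tree lc_g_rc_21_2 lc_g_rc_26_3 lc_g_rc_23_3 lc_g_rc_26_0 lc_g_rc_21_2 lc_g_rc_24_9) (@D3.rec (fun _ => (Cert rels S Gen.g)) lc_g_rc_21_2 lc_g_rc_24_3 lc_g_rc_24_1 lc_g_rc_23_9 lc_g_rc_23_3 lc_g_rc_26_3 lc_g_rc_27_9 lc_g_rc_23_7 lc_g_rc_21_3 lc_g_Cert_tree lc_g_rc_21_2 lc_g_rc_23_1 lc_g_rc_26_9 lc_g_rc_27_6 lc_g_rc_26_3 lc_g_rc_21_2 lc_g_Cert_tree lc_g_rc_21_2 lc_g_rc_21_2 lc_g_rc_23_7 lc_g_rc_23_7 lc_g_rc_21_3 lc_g_rc_21_3 lc_g_rc_26_9 lc_g_rc_23_7 lc_g_rc_21_3 lc_g_rc_27_3 lc_g_rc_27_6 lc_g_Cert_tree lc_g_rc_26_3 lc_g_rc_26_9 lc_g_rc_27_6 lc_g_rc_21_2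 lc_g_rc_27_3 lc_g_Cert_tree lc_g_Cert_tree lc_g_rc_21_2 lc_g_rc_21_2 lc_g_rc_21_3 lc_g_rc_21_2 lc_g_Cert_tree lc_g_rc_21_2 lc_g_rc_21_3 lc_g_rc_23_3 lc_g_rc_21_3 lc_g_rc_21_2 lc_g_rc_21_2 lc_g_Cert_tree lc_g_rc_21_3 lc_g_Cert_tree lc_g_Cert_tree lc_g_rc_21_2 lc_g_rc_21_2 lc_g_Cert_tree lc_g_rc_27_6 lc_g_rc_23_1 lc_g_rc_26_9 lc_g_rc_27_9 lc_g_rc_23_1 lc_g_rc_26_0 lc_g_rc_23_9 lc_g_rc_23_1) (@D3.rec (fun _ => (Cert rels S Gen.g)) lc_g_rc_21_3 lc_g_Cert_tree lc_g_rc_21_3 lc_g_rc_21_2 lc_g_rc_26_3 lc_g_Cert_tree lc_g_rc_24_7 lc_g_rc_26_6 lc_g_rc_27_6 lc_g_rc_26_9 lc_g_rc_26_3 lc_g_rc_23_3 lc_g_rc_23_1 lc_g_Cert_tree lc_g_rc_23_7 lc_g_rc_21_3 lc_g_rc_21_2 lc_g_rc_27_3 lc_g_Cert_tree lc_g_rc_21_2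 lc_g_rc_26_9 lc_g_rc_26_6 lc_g_rc_25_19 lc_g_rc_24_7 lc_g_rc_23_9 lc_g_rc_26_3 lc_g_rc_25_7 lc_g_rc_21_2 lc_g_rc_27_6 lc_g_rc_21_3 lc_g_rc_23_7 lc_g_rc_21_2 lc_g_rc_21_3 lc_g_rc_21_3 lc_g_Cert_tree lc_g_rc_21_2 lc_g_rc_26_6 lc_g_rc_26_0 lc_g_rc_27_6 lc_g_rc_27_0 lc_g_rc_21_2 lc_g_rc_23_7 lc_g_rc_26_9 lc_g_rc_23_1 lc_g_rc_26_0 lc_g_rc_21_3 lc_g_rc_21_2 lc_g_rc_24_7 lc_g_rc_23_7 lc_g_rc_21_3 lc_g_Cert_tree lc_g_Cert_tree lc_g_rc_21_2 lc_g_rc_24_1 lc_g_rc_26_6 lc_g_rc_21_3 lc_g_Cert_tree lc_g_rc_21_2 lc_g_rc_26_3 lc_g_rc_21_3 lc_g_rc_26_3 lc_g_rc_24_1) (@D3.rec (fun _ => (Cert rels S Gen.g)) lc_g_rc_26_0 lc_g_rc_27_6 lc_g_rc_21_3 lc_g_rc_21_3 lc_g_rc_21_2 lc_g_rc_25_19 lc_g_rc_21_2 lc_g_Cert_tree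 lc_g_rc_21_3 lc_g_Cert_tree lc_g_rc_23_7 lc_g_rc_26_3 lc_g_rc_27_9 lc_g_rc_27_6 lc_g_rc_23_3 lc_g_rc_23_7 lc_g_rc_21_3 lc_g_rc_26_6 lc_g_rc_27_3 lc_g_rc_26_6 lc_g_rc_25_19 lc_g_Cert_tree lc_g_rc_27_6 lc_g_rc_23_3 lc_g_rc_27_6 lc_g_rc_24_1 lc_g_rc_24_3 lc_g_Cert_tree lc_g_rc_23_7 lc_g_rc_26_3 lc_g_rc_27_6 lc_g_rc_21_3 lc_g_rc_26_0 lc_g_rc_27_3 lc_g_Cert_tree lc_g_rc_26_0 lc_g_rc_26_0 lc_g_rc_21_2 lc_g_rc_27_9 lc_g_rc_23_3 lc_g_rc_26_6 lc_g_rc_27_0 lc_g_rc_24_9 lc_g_rc_21_2 lc_g_rc_24_3 lc_g_rc_23_9 lc_g_rc_23_3 lc_g_rc_25_7 lc_g_rc_27_9 lc_g_Cert_tree lc_g_rc_24_7 lc_g_rc_26_6 lc_g_rc_23_3 lc_g_rc_23_7 lc_g_rc_21_3 lc_g_Cert_tree lc_g_Cert_tree lc_g_rc_26_0 lc_g_rc_21_3 lc_g_Cert_tree lc_g_rc_21_3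 lc_g_rc_21_2) (@D3.rec (fun _ => (Cert rels S Gen.g)) lc_g_rc_26_3 lc_g_rc_26_9 lc_g_rc_21_2 lc_g_rc_21_2 lc_g_rc_27_9 lc_g_rc_23_1 lc_g_rc_21_2 lc_g_rc_21_2 lc_g_rc_26_3 lc_g_rc_27_6 lc_g_rc_21_3 lc_g_Cert_tree lc_g_Cert_tree lc_g_rc_27_3 lc_g_rc_23_7 lc_g_rc_26_3 lc_g_rc_27_9 lc_g_rc_26_9 lc_g_rc_24_1 lc_g_rc_26_9 lc_g_rc_26_0 lc_g_rc_21_3 lc_g_rc_21_2 lc_g_rc_21_2 lc_g_rc_26_6 lc_g_rc_27_3 lc_g_rc_21_3 lc_g_Cert_tree lc_g_rc_21_2 lc_g_rc_27_9 lc_g_Cert_tree lc_g_rc_27_3 lc_g_rc_21_2 lc_g_rc_26_9 lc_g_rc_21_3 lc_g_rc_27_3 lc_g_rc_21_2 lc_g_rc_26_0 lc_g_rc_26_6 lc_g_rc_21_3 lc_g_rc_26_3 lc_g_Cert_tree lc_g_rc_23_7 lc_g_rc_21_2 lc_g_rc_23_7 lc_g_rc_26_0 lc_g_rc_24_1 lc_g_rc_24_9 lc_g_rc_26_3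 lc_g_rc_24_1 lc_g_rc_26_6 lc_g_rc_26_6 lc_g_rc_23_3 lc_g_rc_26_9 lc_g_rc_27_6 lc_g_rc_21_2 lc_g_rc_21_3 lc_g_rc_27_0 lc_g_rc_25_15 lc_g_rc_26_6 lc_g_rc_24_3 lc_g_rc_27_9) (@D3.rec (fun _ => (Cert rels S Gen.g)) lc_g_rc_24_7 lc_g_rc_27_0 lc_g_rc_25_11 lc_g_rc_21_3 lc_g_Cert_tree lc_g_rc_24_3 lc_g_rc_27_6 lc_g_rc_21_3 lc_g_rc_26_3 lc_g_rc_23_1 lc_g_Cert_tree lc_g_rc_24_3 lc_g_rc_27_9 lc_g_rc_24_7 lc_g_rc_24_1 lc_g_rc_26_6 lc_g_rc_21_2 lc_g_rc_21_3 lc_g_rc_27_0 lc_g_rc_26_3 lc_g_rc_24_1 lc_g_rc_26_3 lc_g_rc_24_9 lc_g_rc_21_3 lc_g_rc_23_7 lc_g_rc_27_9 lc_g_rc_21_2 lc_g_rc_21_2 lc_g_rc_27_6 lc_g_Cert_tree lc_g_rc_21_2 lc_g_rc_26_0 lc_g_rc_27_3 lc_g_rc_21_3 lc_g_rc_21_3 lc_g_rc_24_3 lc_g_rc_26_0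 lc_g_rc_23_3 lc_g_rc_26_6 lc_g_rc_21_2 lc_g_Cert_tree lc_g_rc_21_3 lc_g_rc_27_3 lc_g_rc_27_9 lc_g_rc_21_3 lc_g_rc_27_9 lc_g_rc_27_9 lc_g_rc_27_3 lc_g_Cert_tree lc_g_rc_24_7 lc_g_rc_21_2 lc_g_rc_26_3 lc_g_rc_26_6 lc_g_rc_23_3 lc_g_rc_27_0 lc_g_rc_26_6 lc_g_rc_27_0 lc_g_rc_23_9 lc_g_rc_24_7 lc_g_rc_24_3 lc_g_rc_21_3 lc_g_rc_27_3) (@D3.rec (fun _ => (Cert rels S Gen.g)) lc_g_rc_26_6 lc_g_rc_23_1 lc_g_rc_21_2 lc_g_rc_25_11 lc_g_rc_21_2 lc_g_rc_27_3 lc_g_rc_24_3 lc_g_rc_21_3 lc_g_Cert_tree lc_g_rc_27_6 lc_g_Cert_tree lc_g_rc_21_2 lc_g_rc_23_1 lc_g_rc_23_1 lc_g_rc_26_9 lc_g_rc_21_3 lc_g_rc_26_0 lc_g_Cert_tree lc_g_rc_26_6 lc_g_rc_26_0 lc_g_rc_23_9 lc_g_rc_21_3 lc_g_rc_26_0 lc_g_rc_21_3 lc_g_rc_21_2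 lc_g_rc_21_2 lc_g_Cert_tree lc_g_rc_26_3 lc_g_rc_23_3 lc_g_rc_24_3 lc_g_rc_27_0 lc_g_rc_21_3 lc_g_rc_23_9 lc_g_rc_24_1 lc_g_rc_23_3 lc_g_Cert_tree lc_g_Cert_tree lc_g_rc_21_3 lc_g_Cert_tree lc_g_Cert_tree lc_g_rc_26_6 lc_g_rc_21_2 lc_g_rc_26_9 lc_g_rc_26_3 lc_g_rc_21_2 lc_g_rc_27_9 lc_g_rc_27_3 lc_g_rc_26_3 lc_g_rc_21_2 lc_g_rc_27_6 lc_g_Cert_tree lc_g_rc_21_2 lc_g_rc_27_0 lc_g_rc_24_7 lc_g_rc_21_2 lc_g_rc_21_3 lc_g_rc_26_9 lc_g_rc_24_1 lc_g_rc_21_3 lc_g_rc_23_9 lc_g_Cert_tree lc_g_rc_27_6) (@D3.rec (fun _ => (Cert rels S Gen.g)) lc_g_rc_27_6 lc_g_rc_23_3 lc_g_rc_27_9 lc_g_rc_21_3 lc_g_Cert_tree lc_g_rc_21_2 lc_g_rc_21_3 lc_g_Cert_tree lc_g_rc_24_9 lc_g_rc_21_3 lc_g_rc_27_3 lc_g_rc_26_9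 lc_g_rc_21_3 lc_g_rc_25_19 lc_g_rc_21_3 lc_g_rc_26_9 lc_g_rc_27_0 lc_g_rc_23_9 lc_g_rc_23_1 lc_g_rc_27_6 lc_g_rc_21_2 lc_g_rc_23_3 lc_g_rc_26_9 lc_g_rc_27_3 lc_g_rc_26_6 lc_g_rc_21_3 lc_g_Cert_tree lc_g_rc_23_9 lc_g_rc_27_0 lc_g_rc_21_2 lc_g_rc_21_3 lc_g_rc_23_3 lc_g_rc_23_3 lc_g_rc_27_6 lc_g_rc_26_3 lc_g_rc_24_1 lc_g_rc_21_2 lc_g_rc_27_0 lc_g_rc_24_3 lc_g_rc_23_1 lc_g_rc_21_3 lc_g_rc_27_3 lc_g_rc_21_3 lc_g_rc_27_6 lc_g_rc_27_3 lc_g_rc_21_2 lc_g_rc_21_2 lc_g_rc_21_2 lc_g_rc_21_3 lc_g_Cert_tree lc_g_rc_21_2 lc_g_rc_21_3 lc_g_rc_21_2 lc_g_rc_21_2 lc_g_rc_21_2 lc_g_rc_21_2 lc_g_rc_26_6 lc_g_rc_27_6 lc_g_rc_27_6 lc_g_rc_24_3 lc_g_rc_24_3 lc_g_Cert_tree) (@D3.rec (fun _ => (Cert rels S Gen.g))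 lc_g_rc_24_3 lc_g_rc_21_2 lc_g_rc_27_6 lc_g_Cert_tree lc_g_rc_27_6 lc_g_rc_24_3 lc_g_rc_21_2 lc_g_rc_27_6 lc_g_rc_27_3 lc_g_rc_27_0 lc_g_rc_27_0 lc_g_rc_21_3 lc_g_rc_21_3 lc_g_rc_21_2 lc_g_rc_27_0 lc_g_rc_27_3 lc_g_rc_24_7 lc_g_rc_26_3 lc_g_rc_27_3 lc_g_rc_23_3 lc_g_rc_27_3 lc_g_rc_27_3 lc_g_rc_27_9 lc_g_rc_27_0 lc_g_rc_26_3 lc_g_rc_26_6 lc_g_rc_26_6 lc_g_rc_27_9 lc_g_rc_21_2 lc_g_rc_24_1 lc_g_rc_27_6 lc_g_rc_27_0 lc_g_rc_21_2 lc_g_Cert_tree lc_g_rc_21_3 lc_g_rc_24_1 lc_g_rc_27_6 lc_g_rc_21_2 lc_g_rc_21_2 lc_g_Cert_tree lc_g_rc_26_0 lc_g_rc_24_1 lc_g_rc_21_2 lc_g_rc_27_0 lc_g_rc_21_2 lc_g_rc_21_2 lc_g_rc_27_3 lc_g_rc_21_3 lc_g_rc_27_0 lc_g_Cert_tree lc_g_rc_27_3 lc_g_rc_27_3 lc_g_rc_21_2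 lc_g_rc_27_6 lc_g_rc_27_3 lc_g_rc_21_3 lc_g_rc_23_7 lc_g_rc_27_0 lc_g_rc_21_3 lc_g_Cert_tree lc_g_rc_26_3 lc_g_rc_21_2) (@D3.rec (fun _ => (Cert rels S Gen.g)) lc_g_rc_21_2 lc_g_rc_21_3 lc_g_rc_25_15 lc_g_rc_27_3 lc_g_rc_26_9 lc_g_rc_24_3 lc_g_rc_23_3 lc_g_rc_26_3 lc_g_rc_25_19 lc_g_Cert_tree lc_g_rc_21_2 lc_g_rc_26_0 lc_g_rc_23_7 lc_g_rc_24_3 lc_g_rc_26_6 lc_g_rc_27_6 lc_g_rc_26_6 lc_g_rc_26_6 lc_g_rc_25_19 lc_g_Cert_tree lc_g_rc_27_3 lc_g_rc_26_6 lc_g_rc_27_9 lc_g_rc_21_2 lc_g_rc_21_2 lc_g_rc_21_3 lc_g_Cert_tree lc_g_rc_21_3 lc_g_rc_27_6 lc_g_rc_23_7 lc_g_rc_21_2 lc_g_rc_27_3 lc_g_rc_21_2 lc_g_rc_26_9 lc_g_rc_27_6 lc_g_rc_24_1 lc_g_rc_27_9 lc_g_rc_27_0 lc_g_rc_21_2 lc_g_rc_23_3 lc_g_rc_27_9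 lc_g_rc_21_2 lc_g_rc_21_3 lc_g_Cert_tree lc_g_rc_21_2 lc_g_rc_25_3 lc_g_rc_27_6 lc_g_Cert_tree lc_g_rc_21_2 lc_g_rc_26_3 lc_g_rc_21_3 lc_g_Cert_tree lc_g_rc_21_3 lc_g_Cert_tree lc_g_rc_24_7 lc_g_Cert_tree lc_g_rc_27_9 lc_g_rc_21_2 lc_g_rc_27_0 lc_g_rc_21_3 lc_g_rc_26_3 lc_g_rc_21_3) (@D3.rec (fun _ => (Cert rels S Gen.g)) lc_g_rc_21_3 lc_g_Cert_tree lc_g_rc_21_2 lc_g_rc_26_9 lc_g_rc_21_3 lc_g_rc_23_3 lc_g_rc_23_7 lc_g_rc_27_6 lc_g_rc_23_9 lc_g_rc_27_6 lc_g_rc_21_2 lc_g_rc_23_9 lc_g_Cert_tree lc_g_rc_23_1 lc_g_rc_21_2 lc_g_rc_21_3 lc_g_Cert_tree lc_g_rc_21_2 lc_g_rc_24_3 lc_g_rc_27_6 lc_g_rc_23_7 lc_g_rc_27_0 lc_g_rc_21_2 lc_g_rc_26_0 lc_g_rc_26_9 lc_g_rc_27_3 lc_g_rc_27_3 lc_g_rc_21_2 lc_g_rc_23_3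 lc_g_rc_21_3 lc_g_rc_21_3 lc_g_rc_23_1 lc_g_rc_27_9 lc_g_rc_27_3 lc_g_Cert_tree lc_g_rc_27_6 lc_g_rc_25_11 lc_g_rc_21_3 lc_g_Cert_tree lc_g_rc_27_3 lc_g_rc_21_2 lc_g_rc_27_6 lc_g_rc_27_3 lc_g_Cert_tree lc_g_Cert_tree lc_g_rc_26_6 lc_g_Cert_tree lc_g_rc_21_2 lc_g_rc_21_2 lc_g_rc_21_2 lc_g_rc_25_19 lc_g_Cert_tree lc_g_rc_24_3 lc_g_rc_24_1 lc_g_rc_23_1 lc_g_Cert_tree lc_g_rc_23_3 lc_g_rc_26_9 lc_g_rc_24_3 lc_g_rc_26_6 lc_g_rc_26_0 lc_g_rc_21_2) (@D3.rec (fun _ => (Cert rels S Gen.g)) lc_g_rc_27_0 lc_g_rc_26_3 lc_g_rc_26_6 lc_g_rc_27_6 lc_g_rc_27_0 lc_g_rc_27_6 lc_g_rc_26_3 lc_g_rc_24_1 lc_g_rc_27_0 lc_g_rc_25_19 lc_g_rc_21_2 lc_g_rc_21_2 lc_g_rc_24_9 lc_g_rc_24_3 lc_g_rc_27_6 lc_g_rc_26_3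 lc_g_rc_23_3 lc_g_rc_27_3 lc_g_rc_21_2 lc_g_rc_21_3 lc_g_Cert_tree lc_g_rc_26_0 lc_g_rc_27_6 lc_g_rc_26_0 lc_g_rc_27_0 lc_g_rc_24_3 lc_g_rc_27_6 lc_g_rc_23_3 lc_g_rc_27_6 lc_g_rc_27_6 lc_g_rc_27_3 lc_g_rc_27_6 lc_g_rc_23_3 lc_g_rc_24_1 lc_g_rc_23_7 lc_g_rc_21_3 lc_g_Cert_tree lc_g_rc_26_0 lc_g_rc_21_2 lc_g_rc_24_3 lc_g_Cert_tree lc_g_rc_24_3 lc_g_rc_21_3 lc_g_rc_27_6 lc_g_rc_21_2 lc_g_rc_21_3 lc_g_Cert_tree lc_g_Cert_tree lc_g_rc_23_1 lc_g_Cert_tree lc_g_rc_24_9 lc_g_Cert_tree lc_g_rc_24_9 lc_g_rc_21_3 lc_g_rc_21_2 lc_g_rc_24_3 lc_g_rc_27_6 lc_g_rc_21_3 lc_g_rc_21_2 lc_g_rc_26_6 lc_g_Cert_tree lc_g_rc_26_9) (@D3.rec (fun _ => (Cert rels S Gen.g)) lc_g_rc_27_3 lc_g_rc_26_3 lc_g_rc_21_2 lc_g_rc_26_6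 lc_g_rc_26_3 lc_g_rc_21_3 lc_g_rc_21_2 lc_g_rc_24_1 lc_g_rc_21_3 lc_g_rc_21_2 lc_g_rc_21_3 lc_g_Cert_tree lc_g_rc_21_2 lc_g_rc_21_3 lc_g_rc_21_2 lc_g_rc_27_0 lc_g_rc_23_7 lc_g_rc_21_3 lc_g_rc_26_6 lc_g_rc_25_7 lc_g_rc_23_1 lc_g_rc_21_2 lc_g_rc_21_3 lc_g_Cert_tree lc_g_rc_21_2 lc_g_rc_24_9 lc_g_rc_27_3 lc_g_Cert_tree lc_g_rc_26_3 lc_g_rc_26_6 lc_g_rc_23_7 lc_g_rc_23_3 lc_g_rc_21_3 lc_g_rc_21_2 lc_g_rc_24_7 lc_g_rc_24_7 lc_g_rc_26_6 lc_g_rc_24_7 lc_g_rc_27_6 lc_g_rc_24_3 lc_g_rc_27_6 lc_g_rc_24_3 lc_g_Cert_tree lc_g_rc_26_0 lc_g_rc_24_1 lc_g_rc_24_1 lc_g_rc_26_6 lc_g_rc_24_1 lc_g_rc_21_3 lc_g_rc_24_9 lc_g_rc_23_9 lc_g_Cert_tree lc_g_rc_26_0 lc_g_rc_26_0 lc_g_Cert_tree lc_g_Cert_tree lc_g_rc_21_2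 lc_g_Cert_tree lc_g_rc_21_3 lc_g_Cert_tree lc_g_rc_21_3 lc_g_rc_27_6) (@D3.rec (fun _ => (Cert rels S Gen.g)) lc_g_Cert_tree lc_g_rc_21_2 lc_g_rc_27_6 lc_g_Cert_tree lc_g_rc_26_6 lc_g_rc_23_9 lc_g_rc_26_9 lc_g_rc_27_9 lc_g_rc_27_3 lc_g_rc_26_0 lc_g_rc_21_3 lc_g_rc_26_6 lc_g_rc_21_2 lc_g_rc_26_0 lc_g_Cert_tree lc_g_rc_27_9 lc_g_rc_24_7 lc_g_rc_21_2 lc_g_rc_26_0 lc_g_Cert_tree lc_g_rc_27_9 lc_g_rc_21_2 lc_g_rc_23_3 lc_g_rc_21_2 lc_g_rc_26_6 lc_g_rc_21_3 lc_g_rc_23_7 lc_g_rc_26_6 lc_g_rc_23_3 lc_g_rc_26_6 lc_g_rc_27_3 lc_g_rc_21_3 lc_g_Cert_tree lc_g_rc_21_2 lc_g_rc_21_2 lc_g_rc_21_2 lc_g_rc_21_3 lc_g_Cert_tree lc_g_rc_21_2 lc_g_Cert_tree lc_g_rc_23_3 lc_g_rc_26_3 lc_g_rc_26_6 lc_g_rc_23_7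 lc_g_rc_23_1 lc_g_rc_24_1 lc_g_rc_27_0 lc_g_rc_23_1 lc_g_rc_21_2 lc_g_rc_23_9 lc_g_rc_27_3 lc_g_rc_21_3 lc_g_Cert_tree lc_g_Cert_tree lc_g_rc_21_2 lc_g_rc_27_3 lc_g_rc_27_9 lc_g_rc_23_1 lc_g_rc_21_2 lc_g_rc_27_6 lc_g_Cert_tree lc_g_rc_26_3) (@D3.rec (fun _ => (Cert rels S Gen.g)) lc_g_rc_21_3 lc_g_rc_27_6 lc_g_rc_26_0 lc_g_Cert_tree lc_g_rc_26_0 lc_g_rc_25_19 lc_g_rc_26_3 lc_g_rc_21_3 lc_g_rc_26_9 lc_g_rc_27_9 lc_g_rc_23_1 lc_g_Cert_tree lc_g_rc_21_2 lc_g_rc_21_3 lc_g_Cert_tree lc_g_rc_23_7 lc_g_rc_26_6 lc_g_rc_27_6 lc_g_rc_27_3 lc_g_rc_24_3 lc_g_rc_21_3 lc_g_rc_24_7 lc_g_rc_21_3 lc_g_rc_24_1 lc_g_rc_23_3 lc_g_rc_21_2 lc_g_rc_24_7 lc_g_rc_27_3 lc_g_rc_24_7 lc_g_rc_21_3 lc_g_Cert_tree lc_g_rc_26_6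 lc_g_rc_21_2 lc_g_Cert_tree lc_g_rc_24_7 lc_g_rc_27_3 lc_g_rc_21_2 lc_g_rc_24_1 lc_g_rc_27_6 lc_g_rc_27_3 lc_g_rc_21_3 lc_g_rc_24_7 lc_g_rc_23_3 lc_g_rc_27_0 lc_g_rc_26_9 lc_g_rc_26_9 lc_g_rc_27_9 lc_g_rc_25_3 lc_g_rc_26_6 lc_g_rc_27_0 lc_g_Cert_tree lc_g_rc_21_3 lc_g_rc_21_2 lc_g_rc_24_9 lc_g_rc_24_3 lc_g_rc_26_6 lc_g_rc_27_9 lc_g_rc_27_0 lc_g_rc_21_3 lc_g_rc_23_3 lc_g_rc_23_1 lc_g_rc_27_6) (@D3.rec (fun _ => (Cert rels S Gen.g)) lc_g_rc_27_6 lc_g_rc_27_0 lc_g_rc_23_1 lc_g_rc_23_1 lc_g_rc_26_9 lc_g_Cert_tree lc_g_rc_25_11 lc_g_rc_21_2 lc_g_rc_23_1 lc_g_rc_23_7 lc_g_rc_27_0 lc_g_rc_21_3 lc_g_rc_27_3 lc_g_rc_21_2 lc_g_rc_26_0 lc_g_rc_26_9 lc_g_rc_21_3 lc_g_rc_23_7 lc_g_Cert_tree lc_g_rc_21_2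 lc_g_rc_26_6 lc_g_rc_26_6 lc_g_rc_21_2 lc_g_rc_21_3 lc_g_rc_21_2 lc_g_rc_24_7 lc_g_rc_26_3 lc_g_rc_27_3 lc_g_rc_23_7 lc_g_rc_21_2 lc_g_rc_26_9 lc_g_rc_24_3 lc_g_rc_27_6 lc_g_Cert_tree lc_g_rc_26_6 lc_g_rc_21_3 lc_g_rc_27_6 lc_g_rc_21_2 lc_g_rc_26_6 lc_g_rc_26_3 lc_g_rc_25_19 lc_g_rc_21_3 lc_g_rc_23_7 lc_g_rc_21_2 lc_g_rc_24_7 lc_g_rc_26_9 lc_g_rc_27_6 lc_g_rc_25_3 lc_g_rc_21_2 lc_g_rc_21_2 lc_g_rc_21_3 lc_g_Cert_tree lc_g_rc_27_9 lc_g_rc_26_9 lc_g_rc_26_0 lc_g_rc_27_0 lc_g_rc_21_2 lc_g_rc_26_6 lc_g_rc_21_2 lc_g_rc_21_2 lc_g_rc_21_2 lc_g_rc_24_3) (@D3.rec (fun _ => (Cert rels S Gen.g)) lc_g_rc_21_2 lc_g_rc_26_6 lc_g_rc_21_3 lc_g_Cert_tree lc_g_rc_21_2 lc_g_rc_21_2 lc_g_rc_21_2 lc_g_rc_21_3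 lc_g_rc_26_0 lc_g_rc_26_3 lc_g_rc_26_9 lc_g_rc_21_3 lc_g_rc_24_7 lc_g_rc_21_3 lc_g_rc_23_3 lc_g_rc_23_9 lc_g_rc_21_3 lc_g_Cert_tree lc_g_rc_21_2 lc_g_rc_27_6 lc_g_rc_26_6 lc_g_rc_26_9 lc_g_rc_24_1 lc_g_rc_21_3 lc_g_rc_21_2 lc_g_rc_21_2 lc_g_rc_24_1 lc_g_rc_21_2 lc_g_rc_27_9 lc_g_rc_21_3 lc_g_rc_21_3 lc_g_Cert_tree lc_g_rc_27_6 lc_g_rc_27_6 lc_g_rc_21_3 lc_g_rc_21_3 lc_g_rc_21_2 lc_g_rc_24_3 lc_g_rc_21_3 lc_g_rc_26_3 lc_g_rc_21_3 lc_g_rc_21_2 lc_g_rc_21_2 lc_g_rc_21_3 lc_g_rc_27_3 lc_g_rc_26_6 lc_g_Cert_tree lc_g_rc_21_2 lc_g_rc_24_7 lc_g_rc_27_0 lc_g_rc_21_2 lc_g_Cert_tree lc_g_rc_21_2 lc_g_rc_23_1 lc_g_rc_21_3 lc_g_rc_27_6 lc_g_rc_21_2 lc_g_rc_25_3 lc_g_rc_27_6 lc_g_rc_21_3 lc_g_Cert_tree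 lc_g_rc_21_2) (@D3.rec (fun _ => (Cert rels S Gen.g)) lc_g_rc_27_6 lc_g_rc_21_2 lc_g_rc_27_6 lc_g_rc_27_3 lc_g_rc_21_3 lc_g_Cert_tree lc_g_rc_27_3 lc_g_rc_27_9 lc_g_rc_27_0 lc_g_rc_24_1 lc_g_rc_23_9 lc_g_rc_21_2 lc_g_rc_21_3 lc_g_rc_24_1 lc_g_rc_24_3 lc_g_rc_26_3 lc_g_rc_26_9 lc_g_rc_25_15 lc_g_rc_23_1 lc_g_rc_27_0 lc_g_Cert_tree lc_g_rc_26_0 lc_g_rc_21_2 lc_g_rc_27_3 lc_g_rc_21_3 lc_g_rc_27_0 lc_g_rc_21_2 lc_g_rc_25_11 lc_g_rc_21_2 lc_g_rc_26_9 lc_g_rc_27_6 lc_g_rc_26_6 lc_g_rc_27_6 lc_g_rc_27_0 lc_g_Cert_tree lc_g_rc_24_1 lc_g_rc_21_3 lc_g_Cert_tree lc_g_rc_27_0 lc_g_Cert_tree lc_g_rc_27_9 lc_g_rc_23_3 lc_g_rc_27_6 lc_g_rc_21_3 lc_g_rc_21_2 lc_g_rc_24_9 lc_g_rc_21_3 lc_g_rc_24_1 lc_g_rc_21_3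 lc_g_Cert_tree lc_g_rc_26_6 lc_g_rc_21_3 lc_g_Cert_tree lc_g_rc_24_3 lc_g_rc_21_2 lc_g_rc_27_6 lc_g_rc_21_2 lc_g_Cert_tree lc_g_rc_27_6 lc_g_rc_26_6 lc_g_rc_21_3 lc_g_Cert_tree) (@D3.rec (fun _ => (Cert rels S Gen.g)) lc_g_rc_21_2 lc_g_rc_21_2 lc_g_rc_27_3 lc_g_rc_23_9 lc_g_rc_21_2 lc_g_rc_21_2 lc_g_rc_21_3 lc_g_Cert_tree lc_g_rc_27_6 lc_g_rc_24_7 lc_g_rc_27_0 lc_g_rc_21_3 lc_g_rc_26_6 lc_g_rc_24_9 lc_g_rc_27_3 lc_g_rc_24_3 lc_g_rc_25_7 lc_g_rc_21_3 lc_g_Cert_tree lc_g_rc_21_2 lc_g_rc_23_1 lc_g_rc_27_6 lc_g_rc_21_3 lc_g_rc_21_2 lc_g_rc_21_3 lc_g_Cert_tree lc_g_rc_21_3 lc_g_Cert_tree lc_g_rc_27_3 lc_g_rc_21_2 lc_g_Cert_tree lc_g_Cert_tree lc_g_rc_27_3 lc_g_rc_26_3 lc_g_rc_26_9 lc_g_rc_24_3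 lc_g_Cert_tree lc_g_rc_21_2 lc_g_rc_25_7 lc_g_Cert_tree lc_g_rc_26_3 lc_g_rc_26_3 lc_g_rc_23_3 lc_g_rc_25_15 lc_g_rc_26_6 lc_g_rc_26_3 lc_g_rc_27_6 lc_g_rc_23_3 lc_g_rc_26_3 lc_g_rc_26_9 lc_g_rc_27_0 lc_g_rc_27_6 lc_g_rc_24_1 lc_g_rc_21_3 lc_g_rc_27_6 lc_g_rc_24_3 lc_g_rc_27_0 lc_g_rc_21_3 lc_g_rc_24_3 lc_g_rc_21_3 lc_g_Cert_tree lc_g_rc_21_3) (@D3.rec (fun _ => (Cert rels S Gen.g)) lc_g_rc_25_7 lc_g_rc_27_6 lc_g_rc_27_3 lc_g_rc_23_1 lc_g_rc_21_3 lc_g_rc_21_2 lc_g_rc_27_6 lc_g_rc_24_3 lc_g_rc_21_2 lc_g_rc_21_2 lc_g_rc_26_3 lc_g_rc_27_3 lc_g_rc_21_2 lc_g_rc_27_0 lc_g_rc_21_3 lc_g_Cert_tree lc_g_rc_24_3 lc_g_rc_24_7 lc_g_rc_21_3 lc_g_Cert_tree lc_g_rc_25_7 lc_g_rc_21_2 lc_g_rc_25_15 lc_g_rc_21_2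 lc_g_rc_23_9 lc_g_rc_24_7 lc_g_rc_26_0 lc_g_rc_26_9 lc_g_rc_27_6 lc_g_rc_21_2 lc_g_rc_26_9 lc_g_rc_26_3 lc_g_rc_26_6 lc_g_rc_21_2 lc_g_Cert_tree lc_g_rc_24_3 lc_g_rc_23_3 lc_g_rc_27_6 lc_g_rc_21_2 lc_g_rc_26_0 lc_g_rc_26_0 lc_g_rc_21_3 lc_g_rc_27_6 lc_g_Cert_tree lc_g_rc_24_1 lc_g_rc_26_9 lc_g_Cert_tree lc_g_rc_21_2 lc_g_rc_26_3 lc_g_rc_21_2 lc_g_rc_21_3 lc_g_rc_21_3 lc_g_Cert_tree lc_g_Cert_tree lc_g_rc_21_2 lc_g_rc_24_9 lc_g_rc_27_0 lc_g_Cert_tree lc_g_rc_25_19 lc_g_rc_21_2 lc_g_rc_25_19 lc_g_rc_21_2) (@D3.rec (fun _ => (Cert rels S Gen.g)) lc_g_rc_21_2 lc_g_rc_21_2 lc_g_rc_27_3 lc_g_rc_21_2 lc_g_rc_27_9 lc_g_rc_27_3 lc_g_Cert_tree lc_g_Cert_tree lc_g_rc_21_3 lc_g_rc_21_3 lc_g_rc_21_2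 lc_g_rc_27_6 lc_g_rc_24_1 lc_g_rc_24_7 lc_g_Cert_tree lc_g_rc_26_6 lc_g_rc_23_9 lc_g_rc_21_2 lc_g_rc_21_2 lc_g_rc_27_9 lc_g_rc_27_6 lc_g_Cert_tree lc_g_rc_24_1 lc_g_rc_21_3 lc_g_rc_23_7 lc_g_Cert_tree lc_g_rc_23_3 lc_g_rc_25_19 lc_g_rc_23_3 lc_g_rc_21_2 lc_g_rc_24_7 lc_g_rc_21_2 lc_g_rc_26_9 lc_g_rc_25_19 lc_g_rc_21_2 lc_g_rc_21_3 lc_g_rc_26_6 lc_g_rc_25_7 lc_g_rc_23_7 lc_g_rc_24_1 lc_g_rc_24_3 lc_g_rc_21_3 lc_g_Cert_tree lc_g_rc_27_6 lc_g_rc_21_2 lc_g_rc_21_3 lc_g_rc_27_9 lc_g_rc_26_3 lc_g_rc_23_3 lc_g_rc_24_7 lc_g_rc_21_3 lc_g_rc_21_2 lc_g_rc_27_0 lc_g_rc_26_9 lc_g_rc_24_7 lc_g_rc_24_7 lc_g_rc_21_2 lc_g_Cert_tree lc_g_rc_24_3 lc_g_rc_23_3 lc_g_rc_21_2 lc_g_rc_27_0) (@D3.rec (fun _ =>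 (Cert rels S Gen.g)) lc_g_rc_23_3 lc_g_rc_27_6 lc_g_rc_24_9 lc_g_rc_24_1 lc_g_rc_23_1 lc_g_rc_21_3 lc_g_rc_26_3 lc_g_Cert_tree lc_g_rc_27_3 lc_g_rc_21_2 lc_g_rc_21_2 lc_g_Cert_tree lc_g_rc_27_0 lc_g_rc_21_3 lc_g_Cert_tree lc_g_rc_26_6 lc_g_rc_27_6 lc_g_Cert_tree lc_g_rc_23_1 lc_g_rc_24_1 lc_g_rc_26_9 lc_g_rc_21_2 lc_g_rc_26_0 lc_g_rc_21_3 lc_g_Cert_tree lc_g_rc_27_3 lc_g_rc_27_3 lc_g_rc_26_0 lc_g_rc_21_2 lc_g_Cert_tree lc_g_rc_23_3 lc_g_rc_21_3 lc_g_rc_26_3 lc_g_rc_21_2 lc_g_rc_26_9 lc_g_rc_21_3 lc_g_rc_24_7 lc_g_rc_27_6 lc_g_rc_21_2 lc_g_Cert_tree lc_g_rc_21_3 lc_g_Cert_tree lc_g_rc_24_3 lc_g_rc_21_2 lc_g_rc_21_3 lc_g_Cert_tree lc_g_rc_21_3 lc_g_rc_26_6 lc_g_rc_27_3 lc_g_rc_24_1 lc_g_Cert_tree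 lc_g_rc_26_0 lc_g_rc_27_6 lc_g_rc_26_3 lc_g_rc_25_19 lc_g_rc_26_3 lc_g_Cert_tree lc_g_rc_23_1 lc_g_rc_23_3 lc_g_rc_23_3 lc_g_Cert_tree lc_g_rc_26_0) (@D3.rec (fun _ => (Cert rels S Gen.g)) lc_g_rc_26_0 lc_g_rc_27_9 lc_g_rc_26_6 lc_g_rc_24_1 lc_g_Cert_tree lc_g_rc_24_1 lc_g_rc_27_0 lc_g_Cert_tree lc_g_rc_21_2 lc_g_Cert_tree lc_g_rc_23_3 lc_g_rc_27_9 lc_g_rc_21_2 lc_g_rc_21_3 lc_g_rc_21_3 lc_g_rc_27_0 lc_g_rc_23_1 lc_g_rc_24_3 lc_g_rc_27_9 lc_g_Cert_tree lc_g_rc_27_3 lc_g_rc_26_6 lc_g_rc_26_6 lc_g_rc_23_7 lc_g_rc_25_19 lc_g_rc_21_3 lc_g_rc_21_2 lc_g_rc_27_0 lc_g_rc_27_6 lc_g_Cert_tree lc_g_Cert_tree lc_g_rc_21_2 lc_g_rc_21_2 lc_g_rc_27_3 lc_g_Cert_tree lc_g_rc_27_9 lc_g_rc_24_7 lc_g_rc_27_3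 lc_g_rc_24_7 lc_g_rc_21_2 lc_g_rc_27_3 lc_g_rc_27_6 lc_g_rc_21_3 lc_g_rc_26_6 lc_g_rc_21_3 lc_g_rc_21_3 lc_g_rc_24_3 lc_g_rc_27_3 lc_g_rc_27_3 lc_g_rc_27_0 lc_g_rc_27_9 lc_g_rc_27_9 lc_g_rc_21_2 lc_g_rc_21_3 lc_g_Cert_tree lc_g_rc_26_3 lc_g_rc_21_2 lc_g_rc_21_2 lc_g_rc_21_2 lc_g_rc_23_3 lc_g_rc_26_3 lc_g_rc_26_9) (@D3.rec (fun _ => (Cert rels S Gen.g)) lc_g_rc_21_3 lc_g_rc_27_9 lc_g_rc_21_2 lc_g_rc_21_3 lc_g_rc_27_3 lc_g_rc_24_3 lc_g_rc_21_3 lc_g_rc_23_9 lc_g_rc_27_9 lc_g_rc_21_2 lc_g_rc_26_9 lc_g_rc_21_3 lc_g_rc_27_9 lc_g_rc_27_9 lc_g_rc_21_2 lc_g_rc_21_2 lc_g_rc_26_6 lc_g_rc_27_9 lc_g_Cert_tree lc_g_rc_23_3 lc_g_rc_21_2 lc_g_rc_21_3 lc_g_rc_24_1 lc_g_rc_26_6 lc_g_rc_24_9 lc_g_rc_26_3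 lc_g_rc_21_3 lc_g_Cert_tree lc_g_rc_27_6 lc_g_rc_21_2 lc_g_rc_26_3 lc_g_rc_27_6 lc_g_rc_23_1 lc_g_rc_23_1 lc_g_rc_27_6 lc_g_rc_21_2 lc_g_rc_27_6 lc_g_rc_27_0 lc_g_rc_26_9 lc_g_rc_24_3 lc_g_rc_26_6 lc_g_rc_27_9 lc_g_rc_26_0 lc_g_rc_24_1 lc_g_rc_26_6 lc_g_rc_21_3 lc_g_rc_26_3 lc_g_rc_27_6 lc_g_rc_25_3 lc_g_rc_26_6 lc_g_rc_27_6 lc_g_rc_27_9 lc_g_Cert_tree lc_g_rc_21_3 lc_g_rc_27_9 lc_g_rc_27_6 lc_g_Cert_tree lc_g_Cert_tree lc_g_rc_23_1 lc_g_Cert_tree lc_g_rc_21_2 lc_g_rc_23_1) (@D3.rec (fun _ => (Cert rels S Gen.g)) lc_g_rc_26_3 lc_g_rc_27_3 lc_g_rc_26_6 lc_g_rc_23_3 lc_g_rc_24_3 lc_g_rc_27_9 lc_g_rc_25_3 lc_g_rc_27_3 lc_g_rc_27_6 lc_g_Cert_tree lc_g_rc_25_19 lc_g_rc_21_3 lc_g_rc_27_9 lc_g_rc_21_2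 lc_g_rc_27_0 lc_g_rc_21_3 lc_g_rc_27_9 lc_g_rc_27_0 lc_g_rc_26_0 lc_g_rc_21_3 lc_g_Cert_tree lc_g_rc_27_0 lc_g_rc_21_2 lc_g_rc_26_3 lc_g_rc_24_1 lc_g_rc_21_2 lc_g_rc_24_1 lc_g_rc_24_3 lc_g_rc_23_7 lc_g_rc_21_3 lc_g_rc_27_6 lc_g_rc_27_9 lc_g_rc_27_6 lc_g_rc_27_0 lc_g_rc_27_6 lc_g_rc_24_1 lc_g_rc_24_7 lc_g_rc_27_3 lc_g_rc_24_3 lc_g_rc_26_6 lc_g_rc_24_1 lc_g_rc_26_6 lc_g_rc_24_1 lc_g_rc_27_6 lc_g_rc_21_3 lc_g_Cert_tree lc_g_rc_21_2 lc_g_rc_21_2 lc_g_rc_27_6 lc_g_rc_23_9 lc_g_rc_27_9 lc_g_rc_24_3 lc_g_rc_21_3 lc_g_rc_23_9 lc_g_rc_24_3 lc_g_rc_26_6 lc_g_rc_23_7 lc_g_rc_23_1 lc_g_rc_23_7 lc_g_rc_26_3 lc_g_rc_24_7 lc_g_rc_23_7) (@D3.rec (fun _ => (Cert rels S Gen.g)) lc_g_rc_21_3 lc_g_rc_24_9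 lc_g_rc_21_2 lc_g_rc_27_6 lc_g_rc_21_3 lc_g_Cert_tree lc_g_rc_21_2 lc_g_rc_21_3 lc_g_Cert_tree lc_g_rc_27_0 lc_g_rc_26_0 lc_g_rc_21_3 lc_g_rc_21_3 lc_g_rc_21_2 lc_g_rc_21_3 lc_g_rc_21_2 lc_g_rc_27_9 lc_g_rc_21_3 lc_g_rc_27_0 lc_g_rc_21_2 lc_g_rc_27_3 lc_g_rc_21_2 lc_g_rc_21_2 lc_g_rc_21_3 lc_g_rc_25_19 lc_g_rc_26_3 lc_g_rc_26_9 lc_g_rc_21_3 lc_g_Cert_tree lc_g_rc_21_2 lc_g_rc_26_6 lc_g_rc_26_3 lc_g_rc_27_3 lc_g_rc_27_6 lc_g_rc_24_3 lc_g_rc_27_6 lc_g_rc_26_6 lc_g_rc_21_2 lc_g_rc_21_2 lc_g_rc_23_7 lc_g_rc_23_7 lc_g_rc_27_0 lc_g_rc_21_2 lc_g_rc_26_6 lc_g_rc_21_2 lc_g_rc_21_3 lc_g_rc_27_6 lc_g_rc_25_3 lc_g_rc_27_0 lc_g_rc_27_9 lc_g_rc_27_3 lc_g_Cert_tree lc_g_rc_21_2 lc_g_rc_21_2 lc_g_rc_21_3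 lc_g_rc_24_9 lc_g_rc_21_2 lc_g_rc_24_1 lc_g_rc_21_3 lc_g_rc_23_3 lc_g_rc_27_9 lc_g_rc_21_2) (@D3.rec (fun _ => (Cert rels S Gen.g)) lc_g_rc_26_0 lc_g_rc_24_7 lc_g_rc_23_3 lc_g_rc_24_9 lc_g_rc_27_6 lc_g_rc_27_0 lc_g_rc_24_7 lc_g_rc_21_3 lc_g_Cert_tree lc_g_rc_21_2 lc_g_rc_23_1 lc_g_rc_21_2 lc_g_rc_27_0 lc_g_rc_21_3 lc_g_rc_21_2 lc_g_rc_25_7 lc_g_rc_26_3 lc_g_rc_27_9 lc_g_rc_26_9 lc_g_rc_26_6 lc_g_rc_23_3 lc_g_rc_27_3 lc_g_rc_27_0 lc_g_rc_24_9 lc_g_rc_21_3 lc_g_Cert_tree lc_g_rc_26_3 lc_g_rc_21_2 lc_g_rc_21_3 lc_g_rc_21_2 lc_g_rc_24_3 lc_g_rc_21_2 lc_g_rc_24_7 lc_g_rc_24_1 lc_g_rc_26_6 lc_g_rc_21_3 lc_g_Cert_tree lc_g_rc_26_0 lc_g_rc_21_2 lc_g_Cert_tree lc_g_rc_27_0 lc_g_rc_27_3 lc_g_Cert_tree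 lc_g_rc_21_2 lc_g_rc_27_3 lc_g_Cert_tree lc_g_Cert_tree lc_g_rc_27_6 lc_g_rc_21_2 lc_g_Cert_tree lc_g_rc_27_6 lc_g_rc_23_3 lc_g_rc_24_1 lc_g_rc_24_9 lc_g_rc_23_3 lc_g_rc_24_1 lc_g_rc_27_6 lc_g_rc_21_2 lc_g_rc_24_1 lc_g_rc_26_3 lc_g_rc_27_6 lc_g_Cert_tree) (@D3.rec (fun _ => (Cert rels S Gen.g)) lc_g_rc_21_3 lc_g_rc_21_3 lc_g_rc_24_1 lc_g_rc_27_3 lc_g_Cert_tree lc_g_rc_24_7 lc_g_rc_21_2 lc_g_rc_23_9 lc_g_rc_27_3 lc_g_rc_26_9 lc_g_rc_25_7 lc_g_rc_26_6 lc_g_rc_21_3 lc_g_Cert_tree lc_g_rc_26_6 lc_g_rc_24_3 lc_g_rc_27_0 lc_g_rc_26_0 lc_g_rc_21_3 lc_g_rc_21_2 lc_g_rc_27_3 lc_g_rc_27_9 lc_g_Cert_tree lc_g_rc_24_7 lc_g_rc_21_3 lc_g_rc_27_6 lc_g_rc_27_0 lc_g_rc_24_1 lc_g_rc_27_3 lc_g_rc_21_2 lc_g_rc_21_2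 lc_g_rc_21_3 lc_g_Cert_tree lc_g_rc_27_6 lc_g_rc_25_7 lc_g_rc_21_3 lc_g_Cert_tree lc_g_rc_21_2 lc_g_rc_26_0 lc_g_Cert_tree lc_g_rc_23_1 lc_g_rc_21_2 lc_g_rc_26_9 lc_g_rc_23_3 lc_g_rc_25_19 lc_g_rc_24_3 lc_g_rc_24_9 lc_g_rc_21_2 lc_g_Cert_tree lc_g_rc_21_2 lc_g_rc_26_6 lc_g_Cert_tree lc_g_Cert_tree lc_g_rc_26_6 lc_g_rc_23_3 lc_g_rc_23_3 lc_g_Cert_tree lc_g_rc_21_2 lc_g_rc_24_7 lc_g_rc_24_3 lc_g_rc_24_3 lc_g_rc_26_9) (@D3.rec (fun _ => (Cert rels S Gen.g)) lc_g_rc_21_2 lc_g_rc_26_0 lc_g_rc_24_1 lc_g_rc_23_9 lc_g_rc_23_9 lc_g_Cert_tree lc_g_rc_27_3 lc_g_rc_27_0 lc_g_rc_26_9 lc_g_rc_24_3 lc_g_rc_26_9 lc_g_Cert_tree lc_g_rc_21_3 lc_g_rc_27_6 lc_g_rc_24_3 lc_g_rc_26_0 lc_g_rc_24_7 lc_g_rc_26_9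 lc_g_rc_24_3 lc_g_rc_26_9 lc_g_rc_21_2 lc_g_rc_25_19 lc_g_rc_26_9 lc_g_rc_21_3 lc_g_Cert_tree lc_g_rc_24_3 lc_g_rc_21_2 lc_g_rc_26_9 lc_g_rc_25_7 lc_g_rc_27_9 lc_g_rc_26_3 lc_g_rc_26_6 lc_g_Cert_tree lc_g_rc_21_3 lc_g_Cert_tree lc_g_rc_21_2 lc_g_rc_26_6 lc_g_rc_27_6 lc_g_Cert_tree lc_g_rc_25_11 lc_g_rc_21_2 lc_g_rc_21_3 lc_g_rc_24_1 lc_g_rc_27_3 lc_g_rc_27_9 lc_g_rc_24_9 lc_g_rc_23_1 lc_g_rc_26_3 lc_g_rc_21_2 lc_g_rc_21_3 lc_g_rc_21_2 lc_g_rc_26_0 lc_g_rc_21_2 lc_g_rc_21_3 lc_g_Cert_tree lc_g_rc_21_2 lc_g_rc_23_9 lc_g_rc_27_9 lc_g_rc_27_6 lc_g_rc_24_1 lc_g_rc_27_3 lc_g_Cert_tree) (@D3.rec (fun _ => (Cert rels S Gen.g)) lc_g_rc_27_6 lc_g_rc_21_2 lc_g_Cert_tree lc_g_rc_27_9 lc_g_rc_24_7 lc_g_rc_21_3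 lc_g_rc_23_1 lc_g_rc_27_3 lc_g_rc_24_3 lc_g_Cert_tree lc_g_rc_23_1 lc_g_rc_21_2 lc_g_rc_21_2 lc_g_rc_27_0 lc_g_rc_21_3 lc_g_rc_21_2 lc_g_rc_27_6 lc_g_rc_24_3 lc_g_rc_26_9 lc_g_rc_26_0 lc_g_rc_26_3 lc_g_rc_21_3 lc_g_rc_27_6 lc_g_rc_21_3 lc_g_rc_21_2 lc_g_rc_21_3 lc_g_rc_21_2 lc_g_rc_21_2 lc_g_Cert_tree lc_g_rc_27_6 lc_g_rc_24_1 lc_g_rc_26_9 lc_g_Cert_tree lc_g_rc_27_6 lc_g_rc_23_7 lc_g_Cert_tree lc_g_rc_23_7 lc_g_rc_21_2 lc_g_rc_23_7 lc_g_rc_23_1 lc_g_rc_27_0 lc_g_Cert_tree lc_g_rc_21_2 lc_g_rc_23_9 lc_g_rc_26_9 lc_g_rc_26_3 lc_g_rc_21_2 lc_g_rc_21_3 lc_g_rc_27_6 lc_g_rc_21_3 lc_g_rc_24_3 lc_g_Cert_tree lc_g_rc_27_6 lc_g_rc_21_3 lc_g_rc_24_3 lc_g_rc_21_3 lc_g_rc_27_6 lc_g_rc_26_6 lc_g_rc_24_3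 lc_g_rc_23_3 lc_g_Cert_tree lc_g_rc_26_0) (@D3.rec (fun _ => (Cert rels S Gen.g)) lc_g_rc_23_3 lc_g_rc_24_7 lc_g_rc_27_6 lc_g_rc_26_3 lc_g_rc_24_3 lc_g_rc_21_2 lc_g_rc_21_2 lc_g_Cert_tree lc_g_rc_21_3 lc_g_rc_26_6 lc_g_rc_21_3 lc_g_rc_21_3 lc_g_Cert_tree lc_g_rc_21_2 lc_g_rc_23_1 lc_g_rc_27_3 lc_g_rc_24_7 lc_g_rc_21_2 lc_g_rc_21_3 lc_g_Cert_tree lc_g_rc_21_3 lc_g_rc_24_1 lc_g_Cert_tree lc_g_rc_27_6 lc_g_rc_27_6 lc_g_rc_27_6 lc_g_rc_27_3 lc_g_rc_27_0 lc_g_rc_25_3 lc_g_rc_26_3 lc_g_Cert_tree lc_g_rc_26_6 lc_g_rc_27_0 lc_g_rc_25_3 lc_g_rc_26_6 lc_g_rc_27_3 lc_g_Cert_tree lc_g_rc_26_3 lc_g_rc_27_3 lc_g_rc_27_3 lc_g_rc_26_0 lc_g_Cert_tree lc_g_rc_24_9 lc_g_rc_21_2 lc_g_rc_27_0 lc_g_rc_23_9 lc_g_rc_27_6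 lc_g_rc_26_6 lc_g_rc_21_3 lc_g_rc_27_0 lc_g_rc_26_6 lc_g_rc_23_9 lc_g_rc_21_3 lc_g_Cert_tree lc_g_rc_21_2 lc_g_rc_27_3 lc_g_rc_24_3 lc_g_rc_23_1 lc_g_rc_24_1 lc_g_rc_27_6 lc_g_rc_21_3 lc_g_Cert_tree) (@D3.rec (fun _ => (Cert rels S Gen.g)) lc_g_rc_23_9 lc_g_rc_21_2 lc_g_rc_21_3 lc_g_Cert_tree lc_g_rc_24_1 lc_g_rc_26_0 lc_g_rc_21_3 lc_g_rc_27_3 lc_g_rc_26_6 lc_g_Cert_tree lc_g_rc_21_3 lc_g_rc_26_6 lc_g_rc_21_2 lc_g_rc_21_3 lc_g_Cert_tree lc_g_Cert_tree lc_g_rc_21_2 lc_g_rc_26_6 lc_g_rc_21_2 lc_g_rc_21_2 lc_g_rc_27_3 lc_g_rc_26_9 lc_g_rc_27_6 lc_g_rc_27_3 lc_g_Cert_tree lc_g_Cert_tree lc_g_rc_25_3 lc_g_Cert_tree lc_g_rc_27_6 lc_g_rc_23_3 lc_g_rc_24_3 lc_g_rc_24_3 lc_g_rc_21_2 lc_g_rc_21_3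 lc_g_rc_24_1 lc_g_rc_26_3 lc_g_rc_27_9 lc_g_rc_21_2 lc_g_rc_26_6 lc_g_rc_21_3 lc_g_Cert_tree lc_g_rc_27_6 lc_g_rc_26_3 lc_g_rc_24_3 lc_g_rc_23_3 lc_g_rc_23_1 lc_g_rc_24_9 lc_g_Cert_tree lc_g_rc_26_0 lc_g_rc_27_6 lc_g_rc_24_3 lc_g_rc_27_6 lc_g_rc_23_3 lc_g_rc_23_3 lc_g_rc_27_0 lc_g_Cert_tree lc_g_rc_21_3 lc_g_rc_25_19 lc_g_rc_21_3 lc_g_rc_21_3 lc_g_rc_25_7 lc_g_Cert_tree) (@D3.rec (fun _ => (Cert rels S Gen.g)) lc_g_rc_21_3 lc_g_rc_24_1 lc_g_Cert_tree lc_g_rc_21_2 lc_g_rc_26_6 lc_g_rc_27_9 lc_g_rc_27_3 lc_g_rc_27_3 lc_g_Cert_tree lc_g_rc_21_2 lc_g_rc_26_6 lc_g_rc_21_2 lc_g_rc_23_1 lc_g_Cert_tree lc_g_rc_24_1 lc_g_rc_26_6 lc_g_rc_23_7 lc_g_rc_21_3 lc_g_rc_21_3 lc_g_Cert_tree lc_g_rc_26_6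 lc_g_rc_27_6 lc_g_rc_26_0 lc_g_rc_24_1 lc_g_rc_24_3 lc_g_Cert_tree lc_g_rc_21_2 lc_g_rc_26_3 lc_g_rc_27_0 lc_g_rc_24_1 lc_g_rc_25_19 lc_g_rc_27_3 lc_g_rc_23_9 lc_g_rc_27_6 lc_g_rc_21_2 lc_g_rc_27_6 lc_g_rc_27_6 lc_g_rc_26_9 lc_g_rc_21_3 lc_g_rc_21_2 lc_g_rc_26_6 lc_g_rc_24_9 lc_g_rc_21_2 lc_g_rc_26_6 lc_g_rc_21_3 lc_g_rc_24_1 lc_g_rc_26_9 lc_g_rc_26_3 lc_g_rc_26_0 lc_g_rc_21_3 lc_g_rc_27_0 lc_g_rc_24_7 lc_g_rc_27_9 lc_g_rc_24_9 lc_g_Cert_tree lc_g_rc_24_1 lc_g_rc_23_1 lc_g_rc_27_0 lc_g_rc_21_2 lc_g_rc_26_0 lc_g_rc_26_9 lc_g_Cert_tree) (@D3.rec (fun _ => (Cert rels S Gen.g)) lc_g_rc_21_2 lc_g_rc_21_2 lc_g_rc_24_9 lc_g_rc_21_3 lc_g_Cert_tree lc_g_rc_21_2 lc_g_rc_23_3 lc_g_rc_26_3 lc_g_rc_27_0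 lc_g_rc_21_3 lc_g_Cert_tree lc_g_rc_21_2 lc_g_rc_24_3 lc_g_rc_26_3 lc_g_rc_26_0 lc_g_rc_24_3 lc_g_rc_24_1 lc_g_rc_24_3 lc_g_rc_21_3 lc_g_rc_21_2 lc_g_rc_27_3 lc_g_rc_24_3 lc_g_Cert_tree lc_g_rc_21_2 lc_g_rc_23_1 lc_g_rc_24_1 lc_g_rc_24_3 lc_g_rc_27_3 lc_g_rc_21_2 lc_g_rc_27_0 lc_g_rc_25_3 lc_g_rc_24_3 lc_g_rc_23_3 lc_g_rc_23_9 lc_g_rc_27_0 lc_g_rc_24_3 lc_g_Cert_tree lc_g_rc_24_3 lc_g_rc_24_3 lc_g_rc_23_7 lc_g_rc_26_3 lc_g_rc_23_3 lc_g_rc_23_1 lc_g_rc_21_3 lc_g_rc_21_3 lc_g_rc_21_2 lc_g_rc_24_7 lc_g_Cert_tree lc_g_rc_27_6 lc_g_rc_25_11 lc_g_rc_26_6 lc_g_rc_24_9 lc_g_rc_21_2 lc_g_rc_24_3 lc_g_rc_21_3 lc_g_Cert_tree lc_g_rc_25_3 lc_g_rc_23_9 lc_g_rc_24_3 lc_g_rc_27_6 lc_g_rc_25_19 lc_g_rc_24_1)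 (@D3.rec (fun _ => (Cert rels S Gen.g)) lc_g_rc_26_9 lc_g_rc_23_1 lc_g_rc_23_7 lc_g_Cert_tree lc_g_rc_21_2 lc_g_rc_21_2 lc_g_Cert_tree lc_g_rc_27_3 lc_g_Cert_tree lc_g_rc_27_9 lc_g_rc_26_0 lc_g_rc_21_3 lc_g_Cert_tree lc_g_rc_21_3 lc_g_rc_21_2 lc_g_rc_27_6 lc_g_rc_26_6 lc_g_rc_24_9 lc_g_rc_24_9 lc_g_rc_21_3 lc_g_rc_27_3 lc_g_rc_23_1 lc_g_rc_26_6 lc_g_rc_26_6 lc_g_rc_24_3 lc_g_rc_21_2 lc_g_rc_26_6 lc_g_rc_27_6 lc_g_rc_24_1 lc_g_Cert_tree lc_g_Cert_tree lc_g_rc_21_2 lc_g_Cert_tree lc_g_rc_27_3 lc_g_rc_27_6 lc_g_rc_25_19 lc_g_rc_27_3 lc_g_rc_21_3 lc_g_Cert_tree lc_g_Cert_tree lc_g_rc_25_19 lc_g_rc_27_9 lc_g_rc_23_3 lc_g_rc_21_2 lc_g_rc_24_3 lc_g_rc_26_6 lc_g_rc_27_3 lc_g_rc_21_2 lc_g_rc_26_3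 lc_g_rc_21_3 lc_g_Cert_tree lc_g_rc_21_3 lc_g_rc_21_2 lc_g_rc_25_19 lc_g_rc_23_1 lc_g_rc_23_1 lc_g_Cert_tree lc_g_rc_21_3 lc_g_Cert_tree lc_g_rc_25_15 lc_g_rc_21_3 lc_g_rc_26_3) (@D3.rec (fun _ => (Cert rels S Gen.g)) lc_g_rc_24_9 lc_g_Cert_tree lc_g_rc_27_3 lc_g_Cert_tree lc_g_rc_27_6 lc_g_rc_21_3 lc_g_rc_26_6 lc_g_rc_24_3 lc_g_rc_27_3 lc_g_rc_27_0 lc_g_rc_25_19 lc_g_rc_23_9 lc_g_Cert_tree lc_g_rc_23_9 lc_g_rc_23_7 lc_g_rc_21_2 lc_g_rc_21_2 lc_g_rc_27_3 lc_g_rc_27_6 lc_g_rc_27_6 lc_g_rc_26_3 lc_g_rc_26_6 lc_g_rc_21_3 lc_g_rc_24_1 lc_g_rc_26_6 lc_g_Cert_tree lc_g_rc_27_6 lc_g_rc_24_3 lc_g_rc_27_6 lc_g_Cert_tree lc_g_rc_24_7 lc_g_rc_23_9 lc_g_rc_21_2 lc_g_rc_24_9 lc_g_rc_26_3 lc_g_Cert_tree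 lc_g_rc_27_0 lc_g_Cert_tree lc_g_rc_24_3 lc_g_rc_26_6 lc_g_Cert_tree lc_g_rc_23_3 lc_g_Cert_tree lc_g_Cert_tree lc_g_rc_27_6 lc_g_Cert_tree lc_g_rc_21_2 lc_g_rc_21_2 lc_g_rc_24_1 lc_g_rc_27_6 lc_g_rc_26_6 lc_g_rc_21_3 lc_g_rc_26_3 lc_g_Cert_tree lc_g_rc_27_3 lc_g_Cert_tree lc_g_rc_27_3 lc_g_rc_23_9 lc_g_rc_21_3 lc_g_Cert_tree lc_g_rc_21_3 lc_g_Cert_tree) (@D3.rec (fun _ => (Cert rels S Gen.g)) lc_g_rc_21_2 lc_g_rc_26_6 lc_g_rc_24_3 lc_g_Cert_tree lc_g_rc_26_9 lc_g_rc_21_3 lc_g_rc_21_2 lc_g_rc_24_1 lc_g_rc_27_6 lc_g_Cert_tree lc_g_rc_21_3 lc_g_rc_26_9 lc_g_rc_26_6 lc_g_rc_23_3 lc_g_rc_21_3 lc_g_rc_26_6 lc_g_rc_26_6 lc_g_rc_27_6 lc_g_Cert_tree lc_g_rc_24_3 lc_g_rc_26_6 lc_g_rc_21_2 lc_g_rc_21_2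 lc_g_rc_23_1 lc_g_rc_26_6 lc_g_rc_23_9 lc_g_rc_23_1 lc_g_Cert_tree lc_g_rc_26_0 lc_g_rc_23_3 lc_g_rc_26_6 lc_g_rc_25_7 lc_g_rc_26_6 lc_g_Cert_tree lc_g_rc_21_2 lc_g_rc_25_19 lc_g_rc_24_9 lc_g_Cert_tree lc_g_rc_21_2 lc_g_rc_21_3 lc_g_rc_21_3 lc_g_Cert_tree lc_g_rc_21_2 lc_g_rc_21_2 lc_g_rc_26_6 lc_g_rc_27_6 lc_g_rc_27_3 lc_g_rc_26_0 lc_g_rc_24_9 lc_g_rc_27_6 lc_g_rc_27_6 lc_g_rc_21_3 lc_g_Cert_tree lc_g_rc_24_7 lc_g_rc_24_7 lc_g_rc_21_3 lc_g_rc_27_6 lc_g_rc_27_0 lc_g_rc_21_2 lc_g_rc_21_2 lc_g_rc_23_3 lc_g_rc_21_3) (@D3.rec (fun _ => (Cert rels S Gen.g)) lc_g_rc_27_3 lc_g_rc_26_9 lc_g_rc_26_6 lc_g_rc_21_3 lc_g_rc_24_1 lc_g_rc_21_3 lc_g_Cert_tree lc_g_rc_24_9 lc_g_rc_21_2 lc_g_rc_26_0 lc_g_rc_21_3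 lc_g_rc_26_3 lc_g_rc_24_7 lc_g_rc_24_9 lc_g_rc_21_2 lc_g_rc_27_0 lc_g_rc_25_19 lc_g_rc_23_3 lc_g_rc_24_3 lc_g_rc_26_3 lc_g_rc_21_2 lc_g_rc_24_7 lc_g_rc_27_3 lc_g_rc_27_3 lc_g_rc_24_3 lc_g_rc_26_0 lc_g_rc_21_2 lc_g_rc_21_2 lc_g_Cert_tree lc_g_rc_23_7 lc_g_rc_25_15 lc_g_rc_26_3 lc_g_rc_23_7 lc_g_rc_26_6 lc_g_rc_21_3 lc_g_rc_26_0 lc_g_rc_26_3 lc_g_rc_23_9 lc_g_rc_21_2 lc_g_rc_27_3 lc_g_rc_26_0 lc_g_rc_21_2 lc_g_rc_21_3 lc_g_Cert_tree lc_g_rc_21_2 lc_g_rc_27_0 lc_g_rc_27_6 lc_g_rc_21_2 lc_g_rc_23_3 lc_g_rc_27_9 lc_g_rc_23_9 lc_g_rc_24_7 lc_g_rc_27_3 lc_g_rc_23_3 lc_g_rc_25_19 lc_g_rc_24_9 lc_g_rc_27_6 lc_g_rc_24_7 lc_g_rc_24_7 lc_g_rc_21_2 lc_g_rc_27_6 lc_g_rc_27_3) (@D3.rec (fun _ => (Cert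 rels S Gen.g)) lc_g_rc_21_3 lc_g_rc_27_0 lc_g_rc_21_2 lc_g_rc_24_3 lc_g_rc_21_3 lc_g_Cert_tree lc_g_rc_23_3 lc_g_rc_21_3 lc_g_Cert_tree lc_g_rc_26_6 lc_g_Cert_tree lc_g_rc_21_3 lc_g_Cert_tree lc_g_rc_21_2 lc_g_rc_21_2 lc_g_rc_27_6 lc_g_rc_26_3 lc_g_rc_26_6 lc_g_rc_24_3 lc_g_rc_26_3 lc_g_rc_24_1 lc_g_Cert_tree lc_g_rc_23_9 lc_g_rc_27_9 lc_g_rc_26_6 lc_g_rc_24_1 lc_g_Cert_tree lc_g_rc_21_3 lc_g_Cert_tree lc_g_rc_23_3 lc_g_rc_24_7 lc_g_rc_27_0 lc_g_rc_26_3 lc_g_rc_27_3 lc_g_rc_21_2 lc_g_rc_24_3 lc_g_rc_21_2 lc_g_rc_24_3 lc_g_rc_21_3 lc_g_rc_21_3 lc_g_rc_27_0 lc_g_rc_23_3 lc_g_rc_24_1 lc_g_rc_21_3 lc_g_Cert_tree lc_g_Cert_tree lc_g_rc_26_6 lc_g_rc_27_9 lc_g_rc_21_3 lc_g_Cert_tree lc_g_rc_24_1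 lc_g_rc_24_9 lc_g_rc_21_2 lc_g_rc_26_0 lc_g_Cert_tree lc_g_rc_26_0 lc_g_rc_21_2 lc_g_rc_27_6 lc_g_rc_27_9 lc_g_rc_21_3 lc_g_Cert_tree lc_g_rc_24_9) (@D3.rec (fun _ => (Cert rels S Gen.g)) lc_g_rc_27_3 lc_g_rc_27_6 lc_g_rc_23_1 lc_g_rc_21_3 lc_g_Cert_tree lc_g_rc_21_2 lc_g_rc_27_6 lc_g_rc_21_3 lc_g_Cert_tree lc_g_rc_21_3 lc_g_rc_23_3 lc_g_Cert_tree lc_g_rc_21_2 lc_g_rc_23_3 lc_g_Cert_tree lc_g_rc_26_6 lc_g_rc_25_19 lc_g_rc_27_0 lc_g_rc_27_3 lc_g_rc_21_2 lc_g_Cert_tree lc_g_rc_23_1 lc_g_rc_26_6 lc_g_Cert_tree lc_g_rc_26_6 lc_g_rc_24_3 lc_g_rc_26_3 lc_g_rc_24_1 lc_g_rc_27_0 lc_g_rc_24_3 lc_g_rc_26_6 lc_g_rc_21_3 lc_g_rc_27_3 lc_g_rc_21_2 lc_g_rc_27_6 lc_g_rc_23_1 lc_g_rc_23_3 lc_g_rc_21_3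 lc_g_rc_23_3 lc_g_rc_21_2 lc_g_rc_26_6 lc_g_rc_21_2 lc_g_rc_27_3 lc_g_rc_24_7 lc_g_rc_21_3 lc_g_rc_24_7 lc_g_rc_21_3 lc_g_rc_21_3 lc_g_Cert_tree lc_g_rc_27_3 lc_g_rc_26_3 lc_g_Cert_tree lc_g_rc_27_6 lc_g_rc_23_7 lc_g_rc_27_6 lc_g_rc_21_2 lc_g_rc_21_2 lc_g_rc_27_3 lc_g_rc_21_2 lc_g_rc_23_7 lc_g_rc_21_3 lc_g_rc_21_3) (@D3.rec (fun _ => (Cert rels S Gen.g)) lc_g_rc_23_3 lc_g_rc_27_6 lc_g_rc_23_1 lc_g_rc_21_3 lc_g_rc_21_3 lc_g_rc_23_3 lc_g_rc_21_2 lc_g_rc_24_1 lc_g_rc_21_3 lc_g_rc_21_2 lc_g_rc_27_6 lc_g_rc_21_2 lc_g_rc_26_3 lc_g_Cert_tree lc_g_rc_21_3 lc_g_Cert_tree lc_g_rc_26_0 lc_g_rc_26_0 lc_g_Cert_tree lc_g_rc_26_0 lc_g_rc_21_2 lc_g_rc_21_3 lc_g_rc_21_2 lc_g_rc_25_7 lc_g_Cert_tree lc_g_rc_21_3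 lc_g_rc_23_3 lc_g_rc_21_2 lc_g_rc_25_19 lc_g_rc_21_2 lc_g_rc_26_9 lc_g_rc_27_9 lc_g_rc_21_2 lc_g_rc_24_3 lc_g_rc_23_7 lc_g_rc_25_19 lc_g_rc_21_2 lc_g_rc_21_2 lc_g_rc_21_2 lc_g_Cert_tree lc_g_rc_27_0 lc_g_Cert_tree lc_g_rc_24_3 lc_g_rc_26_6 lc_g_rc_21_3 lc_g_rc_24_7 lc_g_rc_27_6 lc_g_rc_21_3 lc_g_rc_21_2 lc_g_rc_27_6 lc_g_rc_27_6 lc_g_rc_26_3 lc_g_rc_26_0 lc_g_rc_21_2 lc_g_rc_27_0 lc_g_Cert_tree lc_g_rc_25_19 lc_g_rc_26_0 lc_g_rc_24_9 lc_g_rc_27_0 lc_g_rc_26_9 lc_g_rc_26_9) (@D3.rec (fun _ => (Cert rels S Gen.g)) lc_g_rc_27_0 lc_g_rc_21_3 lc_g_rc_21_3 lc_g_rc_23_7 lc_g_rc_24_1 lc_g_rc_24_3 lc_g_rc_21_3 lc_g_rc_23_1 lc_g_Cert_tree lc_g_rc_24_9 lc_g_rc_24_3 lc_g_rc_23_7 lc_g_rc_27_6 lc_g_rc_26_0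 lc_g_rc_26_3 lc_g_rc_27_9 lc_g_rc_26_3 lc_g_rc_26_0 lc_g_rc_23_3 lc_g_rc_21_3 lc_g_rc_21_3 lc_g_Cert_tree lc_g_rc_23_3 lc_g_rc_23_3 lc_g_rc_27_6 lc_g_rc_24_9 lc_g_rc_21_2 lc_g_rc_27_6 lc_g_rc_21_3 lc_g_Cert_tree lc_g_rc_27_0 lc_g_rc_27_0 lc_g_rc_21_3 lc_g_rc_21_3 lc_g_rc_27_6 lc_g_rc_23_1 lc_g_rc_21_2 lc_g_rc_21_2 lc_g_rc_27_0 lc_g_rc_24_3 lc_g_rc_26_3 lc_g_rc_21_2 lc_g_rc_21_2 lc_g_rc_26_6 lc_g_rc_27_6 lc_g_rc_27_9 lc_g_Cert_tree lc_g_rc_24_1 lc_g_rc_21_3 lc_g_rc_27_3 lc_g_rc_23_3 lc_g_rc_21_3 lc_g_rc_25_3 lc_g_rc_27_6 lc_g_rc_23_1 lc_g_rc_25_19 lc_g_rc_25_15 lc_g_rc_26_3 lc_g_rc_27_6 lc_g_rc_23_7 lc_g_rc_26_6 lc_g_rc_23_7) (@D3.rec (fun _ => (Cert rels S Gen.g)) lc_g_rc_27_6 lc_g_rc_21_2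 lc_g_rc_21_3 lc_g_rc_21_3 lc_g_Cert_tree lc_g_rc_27_6 lc_g_rc_21_2 lc_g_rc_21_3 lc_g_Cert_tree lc_g_rc_26_3 lc_g_rc_25_7 lc_g_rc_24_1 lc_g_Cert_tree lc_g_rc_27_0 lc_g_rc_23_1 lc_g_rc_27_3 lc_g_rc_27_6 lc_g_rc_24_1 lc_g_Cert_tree lc_g_rc_27_6 lc_g_Cert_tree lc_g_rc_25_3 lc_g_rc_26_3 lc_g_rc_23_1 lc_g_rc_26_3 lc_g_rc_21_3 lc_g_rc_24_9 lc_g_rc_25_3 lc_g_rc_27_6 lc_g_rc_24_7 lc_g_rc_24_3 lc_g_rc_24_3 lc_g_rc_21_3 lc_g_rc_26_0 lc_g_rc_21_2 lc_g_rc_26_0 lc_g_Cert_tree lc_g_rc_27_0 lc_g_rc_27_6 lc_g_rc_27_6 lc_g_rc_26_0 lc_g_rc_27_0 lc_g_rc_24_7 lc_g_rc_24_7 lc_g_rc_27_3 lc_g_rc_27_3 lc_g_rc_27_3 lc_g_rc_21_2 lc_g_rc_24_3 lc_g_rc_24_1 lc_g_rc_27_0 lc_g_rc_21_2 lc_g_Cert_tree lc_g_rc_21_3 lc_g_rc_23_3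 lc_g_Cert_tree lc_g_rc_27_3 lc_g_rc_26_3 lc_g_rc_23_9 lc_g_rc_27_6 lc_g_Cert_tree lc_g_rc_21_2) (@D3.rec (fun _ => (Cert rels S Gen.g)) lc_g_rc_27_0 lc_g_Cert_tree lc_g_rc_21_2 lc_g_rc_27_6 lc_g_rc_26_9 lc_g_rc_21_3 lc_g_rc_27_0 lc_g_rc_21_2 lc_g_rc_24_9 lc_g_rc_27_3 lc_g_rc_23_1 lc_g_Cert_tree lc_g_rc_26_3 lc_g_rc_21_3 lc_g_rc_23_1 lc_g_rc_27_0 lc_g_rc_21_3 lc_g_rc_21_2 lc_g_rc_26_3 lc_g_Cert_tree lc_g_rc_27_3 lc_g_rc_26_0 lc_g_rc_24_1 lc_g_rc_27_0 lc_g_rc_26_6 lc_g_rc_24_1 lc_g_rc_27_6 lc_g_rc_24_9 lc_g_rc_26_0 lc_g_rc_24_3 lc_g_rc_27_6 lc_g_rc_21_3 lc_g_rc_23_3 lc_g_rc_26_0 lc_g_rc_27_6 lc_g_Cert_tree lc_g_rc_26_6 lc_g_rc_23_9 lc_g_rc_27_3 lc_g_rc_21_3 lc_g_rc_24_7 lc_g_rc_23_1 lc_g_rc_24_1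 lc_g_rc_21_3 lc_g_rc_23_7 lc_g_rc_27_0 lc_g_rc_26_9 lc_g_rc_21_3 lc_g_rc_21_2 lc_g_rc_26_6 lc_g_Cert_tree lc_g_rc_26_3 lc_g_rc_23_9 lc_g_rc_24_3 lc_g_Cert_tree lc_g_rc_27_0 lc_g_rc_27_6 lc_g_rc_23_3 lc_g_rc_21_2 lc_g_rc_21_2 lc_g_rc_21_3 lc_g_Cert_tree) (@D3.rec (fun _ => (Cert rels S Gen.g)) lc_g_rc_21_2 lc_g_rc_21_2 lc_g_rc_27_3 lc_g_Cert_tree lc_g_Cert_tree lc_g_rc_27_6 lc_g_rc_27_0 lc_g_rc_21_3 lc_g_rc_27_9 lc_g_rc_23_3 lc_g_rc_21_3 lc_g_rc_24_1 lc_g_rc_26_3 lc_g_rc_27_0 lc_g_rc_26_3 lc_g_rc_25_15 lc_g_rc_26_3 lc_g_rc_27_6 lc_g_rc_21_3 lc_g_rc_21_2 lc_g_rc_21_3 lc_g_rc_21_2 lc_g_rc_26_0 lc_g_rc_26_6 lc_g_rc_26_6 lc_g_rc_23_1 lc_g_rc_23_3 lc_g_rc_23_9 lc_g_rc_24_3 lc_g_rc_21_3 lc_g_rc_21_2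 lc_g_rc_27_3 lc_g_rc_21_2 lc_g_rc_24_3 lc_g_rc_23_3 lc_g_rc_26_0 lc_g_Cert_tree lc_g_rc_23_3 lc_g_rc_27_0 lc_g_rc_21_3 lc_g_rc_21_2 lc_g_rc_24_9 lc_g_Cert_tree lc_g_rc_21_3 lc_g_rc_26_0 lc_g_rc_27_9 lc_g_rc_25_3 lc_g_rc_23_7 lc_g_rc_23_7 lc_g_rc_26_6 lc_g_rc_21_3 lc_g_rc_21_2 lc_g_rc_26_0 lc_g_rc_24_3 lc_g_rc_21_2 lc_g_Cert_tree lc_g_rc_27_6 lc_g_rc_27_6 lc_g_rc_23_1 lc_g_rc_21_2 lc_g_rc_24_3 lc_g_rc_27_6) (@D3.rec (fun _ => (Cert rels S Gen.g)) lc_g_Cert_tree lc_g_Cert_tree lc_g_rc_21_2 lc_g_rc_21_3 lc_g_rc_21_2 lc_g_rc_25_7 lc_g_rc_21_3 lc_g_rc_23_3 lc_g_rc_27_6 lc_g_Cert_tree lc_g_rc_27_0 lc_g_rc_26_6 lc_g_rc_23_3 lc_g_rc_24_3 lc_g_rc_21_3 lc_g_rc_23_3 lc_g_rc_24_1 lc_g_Cert_tree lc_g_rc_21_3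 lc_g_rc_21_2 lc_g_rc_24_7 lc_g_rc_23_9 lc_g_rc_23_9 lc_g_rc_24_1 lc_g_Cert_tree lc_g_rc_27_6 lc_g_rc_25_19 lc_g_rc_21_3 lc_g_rc_27_0 lc_g_rc_26_6 lc_g_rc_21_3 lc_g_rc_27_3 lc_g_rc_21_3 lc_g_rc_27_0 lc_g_rc_26_6 lc_g_rc_23_9 lc_g_rc_23_1 lc_g_rc_27_3 lc_g_rc_21_2 lc_g_rc_23_3 lc_g_rc_24_7 lc_g_rc_23_3 lc_g_Cert_tree lc_g_rc_26_0 lc_g_rc_26_3 lc_g_rc_24_3 lc_g_rc_21_2 lc_g_rc_24_3 lc_g_Cert_tree lc_g_rc_26_3 lc_g_rc_26_3 lc_g_rc_26_3 lc_g_Cert_tree lc_g_rc_27_3 lc_g_rc_26_0 lc_g_rc_27_0 lc_g_rc_21_2 lc_g_rc_24_1 lc_g_rc_25_7 lc_g_rc_26_0 lc_g_rc_23_3 lc_g_Cert_tree) (@D3.rec (fun _ => (Cert rels S Gen.g)) lc_g_rc_26_6 lc_g_rc_26_6 lc_g_rc_26_3 lc_g_rc_27_6 lc_g_rc_23_3 lc_g_rc_27_0 lc_g_rc_23_7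 lc_g_rc_21_3 lc_g_Cert_tree lc_g_rc_27_6 lc_g_rc_23_9 lc_g_rc_23_3 lc_g_rc_24_3 lc_g_rc_21_3 lc_g_rc_24_1 lc_g_rc_23_9 lc_g_rc_27_0 lc_g_rc_24_7 lc_g_rc_27_6 lc_g_rc_23_7 lc_g_rc_27_6 lc_g_rc_23_7 lc_g_rc_21_3 lc_g_Cert_tree lc_g_rc_21_3 lc_g_rc_26_3 lc_g_rc_27_0 lc_g_rc_21_3 lc_g_rc_21_3 lc_g_Cert_tree lc_g_rc_24_7 lc_g_rc_21_2 lc_g_Cert_tree lc_g_rc_24_1 lc_g_Cert_tree lc_g_rc_26_0 lc_g_rc_21_3 lc_g_rc_23_1 lc_g_rc_26_9 lc_g_rc_27_0 lc_g_rc_23_3 lc_g_rc_21_2 lc_g_rc_26_3 lc_g_rc_26_0 lc_g_rc_23_7 lc_g_Cert_tree lc_g_rc_21_3 lc_g_rc_27_6 lc_g_rc_24_7 lc_g_rc_21_3 lc_g_Cert_tree lc_g_rc_27_0 lc_g_rc_27_0 lc_g_rc_27_0 lc_g_rc_26_6 lc_g_rc_27_0 lc_g_rc_26_6 lc_g_rc_23_1 lc_g_rc_27_0 lc_g_rc_21_3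 lc_g_Cert_tree lc_g_rc_21_2) (@D3.rec (fun _ => (Cert rels S Gen.g)) lc_g_Cert_tree lc_g_rc_23_1 lc_g_rc_26_3 lc_g_rc_23_9 lc_g_rc_23_1 lc_g_rc_23_9 lc_g_rc_27_3 lc_g_rc_27_6 lc_g_rc_23_1 lc_g_rc_27_6 lc_g_Cert_tree lc_g_rc_24_3 lc_g_rc_23_3 lc_g_rc_21_2 lc_g_rc_24_3 lc_g_rc_25_3 lc_g_rc_27_6 lc_g_rc_27_3 lc_g_rc_24_9 lc_g_rc_24_3 lc_g_rc_26_3 lc_g_rc_27_6 lc_g_rc_24_9 lc_g_Cert_tree lc_g_rc_21_3 lc_g_Cert_tree lc_g_rc_26_6 lc_g_rc_26_6 lc_g_rc_23_3 lc_g_Cert_tree lc_g_rc_23_7 lc_g_rc_21_2 lc_g_rc_27_9 lc_g_rc_21_3 lc_g_rc_21_2 lc_g_rc_23_3 lc_g_Cert_tree lc_g_rc_26_3 lc_g_rc_26_9 lc_g_rc_27_0 lc_g_Cert_tree lc_g_rc_27_3 lc_g_rc_21_2 lc_g_rc_21_3 lc_g_rc_26_3 lc_g_Cert_tree lc_g_rc_26_0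 lc_g_rc_23_7 lc_g_Cert_tree lc_g_rc_27_0 lc_g_rc_26_6 lc_g_rc_27_3 lc_g_rc_21_3 lc_g_Cert_tree lc_g_rc_21_3 lc_g_rc_21_2 lc_g_rc_21_2 lc_g_rc_21_3 lc_g_Cert_tree lc_g_rc_27_6 lc_g_rc_21_2 lc_g_rc_24_3) (@D3.rec (fun _ => (Cert rels S Gen.g)) lc_g_rc_24_1 lc_g_rc_27_6 lc_g_rc_21_2 lc_g_rc_24_7 lc_g_rc_23_3 lc_g_rc_24_7 lc_g_rc_21_3 lc_g_rc_26_6 lc_g_rc_27_6 lc_g_rc_24_3 lc_g_rc_21_2 lc_g_rc_21_2 lc_g_rc_27_0 lc_g_rc_21_3 lc_g_Cert_tree lc_g_rc_27_3 lc_g_rc_21_2 lc_g_rc_23_7 lc_g_rc_24_3 lc_g_rc_24_3 lc_g_rc_23_3 lc_g_rc_25_15 lc_g_rc_24_9 lc_g_rc_26_0 lc_g_rc_25_7 lc_g_rc_27_3 lc_g_rc_27_9 lc_g_rc_24_1 lc_g_rc_23_1 lc_g_rc_27_9 lc_g_rc_21_3 lc_g_Cert_tree lc_g_rc_24_7 lc_g_rc_21_2 lc_g_rc_24_9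 lc_g_rc_24_1 lc_g_rc_27_6 lc_g_rc_21_3 lc_g_Cert_tree lc_g_rc_26_3 lc_g_rc_21_2 lc_g_rc_21_3 lc_g_rc_23_3 lc_g_rc_24_9 lc_g_rc_24_7 lc_g_rc_26_3 lc_g_Cert_tree lc_g_rc_27_3 lc_g_rc_21_2 lc_g_rc_26_6 lc_g_rc_24_1 lc_g_rc_21_3 lc_g_rc_27_6 lc_g_rc_23_9 lc_g_rc_24_7 lc_g_rc_26_9 lc_g_rc_24_9 lc_g_rc_23_9 lc_g_rc_21_2 lc_g_rc_21_2 lc_g_rc_27_9 lc_g_rc_26_6) (@D3.rec (fun _ => (Cert rels S Gen.g)) lc_g_rc_21_2 lc_g_Cert_tree lc_g_rc_23_9 lc_g_rc_27_6 lc_g_rc_21_3 lc_g_rc_24_1 lc_g_rc_27_0 lc_g_rc_24_1 lc_g_Cert_tree lc_g_rc_23_1 lc_g_rc_21_3 lc_g_Cert_tree lc_g_rc_21_2 lc_g_rc_24_3 lc_g_rc_24_1 lc_g_rc_24_1 lc_g_rc_26_0 lc_g_rc_26_3 lc_g_rc_21_3 lc_g_rc_27_0 lc_g_rc_21_2 lc_g_Cert_tree lc_g_rc_26_0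 lc_g_rc_21_2 lc_g_rc_27_6 lc_g_Cert_tree lc_g_rc_27_3 lc_g_rc_21_2 lc_g_rc_27_3 lc_g_Cert_tree lc_g_rc_23_1 lc_g_rc_21_2 lc_g_rc_26_0 lc_g_rc_26_9 lc_g_rc_21_3 lc_g_Cert_tree lc_g_Cert_tree lc_g_rc_26_6 lc_g_rc_27_6 lc_g_rc_21_3 lc_g_rc_26_6 lc_g_rc_21_3 lc_g_Cert_tree lc_g_rc_27_3 lc_g_rc_23_9 lc_g_rc_23_1 lc_g_rc_27_0 lc_g_rc_26_0 lc_g_rc_24_3 lc_g_rc_24_3 lc_g_rc_23_3 lc_g_rc_26_3 lc_g_rc_24_3 lc_g_rc_26_3 lc_g_rc_26_6 lc_g_rc_21_3 lc_g_Cert_tree lc_g_rc_24_7 lc_g_rc_26_3 lc_g_rc_26_0 lc_g_rc_21_3 lc_g_rc_27_6) (@D3.rec (fun _ => (Cert rels S Gen.g)) lc_g_rc_27_0 lc_g_rc_23_9 lc_g_rc_23_7 lc_g_rc_26_3 lc_g_rc_21_3 lc_g_rc_27_6 lc_g_Cert_tree lc_g_rc_21_2 lc_g_rc_26_0 lc_g_rc_26_3 lc_g_Cert_tree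 lc_g_rc_25_7 lc_g_rc_25_7 lc_g_rc_21_2 lc_g_rc_27_3 lc_g_rc_21_3 lc_g_Cert_tree lc_g_rc_27_3 lc_g_rc_21_2 lc_g_rc_21_3 lc_g_Cert_tree lc_g_rc_21_2 lc_g_rc_27_3 lc_g_rc_23_7 lc_g_rc_26_6 lc_g_rc_23_7 lc_g_rc_21_2 lc_g_Cert_tree lc_g_rc_21_2 lc_g_rc_23_7 lc_g_rc_26_6 lc_g_rc_27_9 lc_g_rc_21_3 lc_g_Cert_tree lc_g_rc_27_0 lc_g_rc_21_2 lc_g_rc_21_3 lc_g_rc_24_3 lc_g_rc_21_2 lc_g_rc_23_9 lc_g_rc_27_6 lc_g_rc_23_3 lc_g_rc_21_2 lc_g_rc_24_3 lc_g_rc_23_7 lc_g_rc_25_3 lc_g_rc_27_6 lc_g_rc_27_6 lc_g_rc_23_7 lc_g_rc_26_3 lc_g_rc_26_6 lc_g_rc_27_3 lc_g_rc_23_1 lc_g_rc_23_3 lc_g_rc_26_3 lc_g_rc_26_9 lc_g_rc_25_19 lc_g_rc_21_3 lc_g_rc_23_3 lc_g_rc_27_3 lc_g_rc_25_11 lc_g_rc_25_7) (@D3.rec (fun _ => (Cert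 rels S Gen.g)) lc_g_rc_24_3 lc_g_rc_21_3 lc_g_rc_26_6 lc_g_rc_24_9 lc_g_rc_21_3 lc_g_Cert_tree lc_g_rc_26_6 lc_g_Cert_tree lc_g_rc_27_0 lc_g_rc_21_3 lc_g_Cert_tree lc_g_rc_27_3 lc_g_rc_21_2 lc_g_rc_24_7 lc_g_rc_26_9 lc_g_rc_24_7 lc_g_Cert_tree lc_g_rc_24_3 lc_g_rc_23_1 lc_g_Cert_tree lc_g_rc_23_7 lc_g_rc_21_2 lc_g_rc_23_7 lc_g_rc_21_3 lc_g_Cert_tree lc_g_rc_21_2 lc_g_rc_21_2 lc_g_rc_21_3 lc_g_rc_23_3 lc_g_Cert_tree lc_g_rc_21_2 lc_g_rc_26_0 lc_g_rc_26_9 lc_g_rc_26_6 lc_g_rc_27_3 lc_g_rc_24_3 lc_g_rc_24_7 lc_g_rc_21_2 lc_g_rc_27_3 lc_g_rc_27_6 lc_g_rc_27_6 lc_g_rc_21_2 lc_g_rc_21_3 lc_g_Cert_tree lc_g_Cert_tree lc_g_rc_21_2 lc_g_rc_25_19 lc_g_rc_23_3 lc_g_rc_23_3 lc_g_rc_21_3 lc_g_Cert_tree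 lc_g_rc_21_2 lc_g_rc_21_3 lc_g_Cert_tree lc_g_rc_24_1 lc_g_rc_21_2 lc_g_rc_27_3 lc_g_rc_21_2 lc_g_rc_23_3 lc_g_rc_24_1 lc_g_Cert_tree lc_g_rc_26_0) (@D3.rec (fun _ => (Cert rels S Gen.g)) lc_g_rc_21_2 lc_g_rc_27_3 lc_g_rc_25_3 lc_g_rc_27_6 lc_g_rc_26_0 lc_g_Cert_tree lc_g_rc_27_9 lc_g_rc_21_2 lc_g_rc_21_3 lc_g_rc_26_6 lc_g_rc_24_1 lc_g_rc_21_3 lc_g_Cert_tree lc_g_rc_24_7 lc_g_rc_23_3 lc_g_rc_21_3 lc_g_rc_26_0 lc_g_rc_27_3 lc_g_rc_21_3 lc_g_rc_24_9 lc_g_rc_21_3 lc_g_rc_23_7 lc_g_rc_27_3 lc_g_rc_27_6 lc_g_rc_26_3 lc_g_rc_27_6 lc_g_rc_23_9 lc_g_rc_21_2 lc_g_rc_23_3 lc_g_rc_23_3 lc_g_Cert_tree lc_g_rc_24_3 lc_g_rc_24_7 lc_g_rc_26_6 lc_g_rc_23_3 lc_g_rc_24_1 lc_g_rc_27_6 lc_g_rc_25_3 lc_g_rc_24_9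 lc_g_rc_27_0 lc_g_rc_26_3 lc_g_rc_23_3 lc_g_rc_21_2 lc_g_rc_21_2 lc_g_Cert_tree lc_g_rc_27_6 lc_g_rc_26_6 lc_g_rc_21_3 lc_g_Cert_tree lc_g_rc_21_3 lc_g_rc_27_9 lc_g_rc_21_3 lc_g_rc_24_3 lc_g_rc_21_3 lc_g_rc_21_3 lc_g_rc_26_9 lc_g_rc_26_3 lc_g_rc_26_6 lc_g_rc_21_2 lc_g_Cert_tree lc_g_rc_27_6 lc_g_rc_23_1) (@D3.rec (fun _ => (Cert rels S Gen.g)) lc_g_Cert_tree lc_g_rc_21_3 lc_g_rc_21_2 lc_g_Cert_tree lc_g_Cert_tree lc_g_rc_21_2 lc_g_rc_24_9 lc_g_rc_27_0 lc_g_rc_21_3 lc_g_Cert_tree lc_g_rc_26_9 lc_g_rc_21_2 lc_g_rc_26_6 lc_g_rc_26_3 lc_g_rc_24_3 lc_g_rc_25_3 lc_g_rc_26_6 lc_g_rc_21_3 lc_g_Cert_tree lc_g_rc_23_3 lc_g_rc_21_2 lc_g_rc_27_3 lc_g_rc_27_6 lc_g_rc_21_2 lc_g_rc_24_7 lc_g_rc_21_2 lc_g_rc_24_7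 lc_g_rc_21_2 lc_g_rc_21_3 lc_g_Cert_tree lc_g_rc_23_1 lc_g_rc_21_2 lc_g_rc_21_3 lc_g_rc_23_3 lc_g_rc_21_3 lc_g_rc_24_9 lc_g_rc_27_6 lc_g_Cert_tree lc_g_rc_21_2 lc_g_rc_27_6 lc_g_rc_21_3 lc_g_rc_26_3 lc_g_rc_21_2 lc_g_Cert_tree lc_g_Cert_tree lc_g_rc_26_6 lc_g_rc_21_3 lc_g_rc_21_2 lc_g_rc_21_3 lc_g_rc_26_6 lc_g_rc_24_3 lc_g_rc_27_6 lc_g_rc_21_3 lc_g_Cert_tree lc_g_rc_21_2 lc_g_rc_21_2 lc_g_rc_24_1 lc_g_rc_24_7 lc_g_rc_23_7 lc_g_rc_26_6 lc_g_rc_21_3 lc_g_Cert_tree) (@D3.rec (fun _ => (Cert rels S Gen.g)) lc_g_rc_24_3 lc_g_rc_21_2 lc_g_rc_24_1 lc_g_rc_27_0 lc_g_rc_24_3 lc_g_rc_21_2 lc_g_rc_21_3 lc_g_rc_21_3 lc_g_rc_25_3 lc_g_rc_25_3 lc_g_rc_21_3 lc_g_rc_27_9 lc_g_rc_24_1 lc_g_rc_21_3 lc_g_rc_21_2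 lc_g_Cert_tree lc_g_rc_21_3 lc_g_rc_23_1 lc_g_rc_26_6 lc_g_rc_21_2 lc_g_Cert_tree lc_g_rc_21_2 lc_g_rc_21_3 lc_g_rc_27_9 lc_g_rc_27_3 lc_g_rc_27_0 lc_g_rc_27_3 lc_g_Cert_tree lc_g_rc_25_19 lc_g_rc_26_0 lc_g_rc_21_2 lc_g_rc_26_9 lc_g_rc_27_6 lc_g_rc_26_9 lc_g_rc_27_3 lc_g_rc_26_0 lc_g_rc_21_3 lc_g_rc_24_9 lc_g_rc_21_3 lc_g_rc_21_2 lc_g_rc_26_6 lc_g_rc_27_3 lc_g_rc_23_3 lc_g_rc_24_1 lc_g_rc_21_3 lc_g_rc_24_9 lc_g_rc_26_0 lc_g_rc_21_2 lc_g_Cert_tree lc_g_rc_26_3 lc_g_rc_27_6 lc_g_rc_23_3 lc_g_Cert_tree lc_g_rc_21_3 lc_g_rc_27_3 lc_g_rc_21_3 lc_g_rc_24_1 lc_g_rc_27_0 lc_g_Cert_tree lc_g_rc_21_2 lc_g_rc_25_11 lc_g_rc_24_7) (@D3.rec (fun _ => (Cert rels S Gen.g)) lc_g_rc_23_7 lc_g_Cert_tree lc_g_rc_27_9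 lc_g_rc_23_1 lc_g_Cert_tree lc_g_rc_23_1 lc_g_rc_21_3 lc_g_Cert_tree lc_g_rc_21_2 lc_g_rc_26_3 lc_g_Cert_tree lc_g_rc_26_6 lc_g_rc_21_3 lc_g_rc_26_6 lc_g_rc_23_9 lc_g_rc_27_0 lc_g_rc_26_6 lc_g_rc_23_1 lc_g_rc_26_3 lc_g_Cert_tree lc_g_rc_27_0 lc_g_rc_26_3 lc_g_rc_23_3 lc_g_rc_27_6 lc_g_rc_21_2 lc_g_rc_26_6 lc_g_rc_26_3 lc_g_rc_27_3 lc_g_rc_26_6 lc_g_rc_26_9 lc_g_rc_21_3 lc_g_Cert_tree lc_g_rc_26_3 lc_g_rc_26_9 lc_g_rc_27_9 lc_g_rc_21_3 lc_g_rc_23_3 lc_g_rc_24_7 lc_g_rc_27_6 lc_g_rc_23_1 lc_g_Cert_tree lc_g_rc_23_9 lc_g_rc_24_9 lc_g_Cert_tree lc_g_rc_26_0 lc_g_rc_21_3 lc_g_rc_25_11 lc_g_rc_26_3 lc_g_Cert_tree lc_g_rc_21_2 lc_g_rc_24_1 lc_g_rc_23_1 lc_g_rc_26_3 lc_g_Cert_tree lc_g_Cert_tree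 lc_g_rc_27_6 lc_g_rc_26_6 lc_g_rc_21_2 lc_g_rc_23_3 lc_g_Cert_tree lc_g_rc_24_9 lc_g_rc_27_6)
def ce_g_29 : D2 → D3 → (Cert rels S Gen.g) := @D2.rec (fun _ => D3 → (Cert rels S Gen.g)) (@D3.rec (fun _ => (Cert rels S Gen.g)) lc_g_rc_24_1 lc_g_rc_21_3 lc_g_Cert_tree lc_g_rc_26_0 lc_g_Cert_tree lc_g_rc_24_9 lc_g_rc_24_9 lc_g_rc_25_11 lc_g_rc_21_3 lc_g_Cert_tree lc_g_rc_21_2 lc_g_rc_26_0 lc_g_rc_21_3 lc_g_rc_26_3 lc_g_rc_26_6 lc_g_rc_26_0 lc_g_rc_24_9 lc_g_Cert_tree lc_g_rc_24_1 lc_g_Cert_tree lc_g_rc_27_0 lc_g_rc_27_6 lc_g_rc_27_6 lc_g_Cert_tree lc_g_rc_27_3 lc_g_rc_27_9 lc_g_Cert_tree lc_g_rc_23_3 lc_g_rc_23_3 lc_g_rc_26_9 lc_g_rc_27_6 lc_g_Cert_tree lc_g_rc_21_2 lc_g_rc_27_6 lc_g_rc_21_3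 lc_g_rc_23_3 lc_g_rc_21_2 lc_g_rc_27_6 lc_g_rc_24_3 lc_g_rc_23_3 lc_g_rc_21_2 lc_g_rc_21_3 lc_g_rc_24_1 lc_g_rc_21_2 lc_g_rc_24_1 lc_g_rc_26_9 lc_g_rc_23_1 lc_g_rc_26_6 lc_g_rc_27_0 lc_g_rc_23_3 lc_g_rc_25_3 lc_g_rc_27_9 lc_g_rc_27_3 lc_g_rc_26_9 lc_g_rc_27_0 lc_g_rc_27_3 lc_g_rc_27_6 lc_g_rc_27_3 lc_g_rc_23_1 lc_g_rc_23_1 lc_g_rc_26_6 lc_g_rc_27_0) (@D3.rec (fun _ => (Cert rels S Gen.g)) lc_g_rc_21_3 lc_g_rc_25_19 lc_g_rc_26_3 lc_g_rc_27_3 lc_g_rc_26_0 lc_g_rc_27_0 lc_g_rc_21_2 lc_g_rc_21_2 lc_g_rc_21_2 lc_g_rc_21_3 lc_g_rc_24_3 lc_g_rc_27_6 lc_g_rc_27_6 lc_g_rc_24_7 lc_g_rc_25_19 lc_g_rc_27_6 lc_g_rc_27_6 lc_g_rc_26_0 lc_g_rc_24_1 lc_g_Cert_tree lc_g_rc_27_0 lc_g_rc_27_0 lc_g_rc_26_6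 lc_g_rc_21_3 lc_g_rc_27_6 lc_g_rc_23_3 lc_g_rc_24_7 lc_g_rc_26_9 lc_g_rc_27_6 lc_g_rc_21_3 lc_g_Cert_tree lc_g_rc_21_2 lc_g_rc_21_2 lc_g_rc_27_0 lc_g_rc_24_7 lc_g_rc_23_9 lc_g_rc_21_3 lc_g_Cert_tree lc_g_rc_26_9 lc_g_rc_21_2 lc_g_rc_21_3 lc_g_rc_23_7 lc_g_rc_23_3 lc_g_rc_21_3 lc_g_rc_27_6 lc_g_rc_24_3 lc_g_Cert_tree lc_g_rc_24_1 lc_g_rc_25_11 lc_g_rc_27_6 lc_g_rc_21_2 lc_g_rc_21_3 lc_g_rc_24_1 lc_g_rc_27_6 lc_g_rc_27_0 lc_g_Cert_tree lc_g_rc_24_3 lc_g_Cert_tree lc_g_rc_23_1 lc_g_rc_21_3 lc_g_Cert_tree lc_g_rc_27_6) (@D3.rec (fun _ => (Cert rels S Gen.g)) lc_g_rc_21_2 lc_g_rc_26_0 lc_g_rc_26_6 lc_g_rc_21_3 lc_g_rc_21_2 lc_g_rc_27_9 lc_g_rc_21_3 lc_g_Cert_tree lc_g_rc_24_7 lc_g_rc_21_2 lc_g_Cert_tree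 lc_g_rc_26_0 lc_g_rc_23_3 lc_g_rc_21_3 lc_g_Cert_tree lc_g_rc_24_3 lc_g_rc_27_6 lc_g_rc_23_1 lc_g_Cert_tree lc_g_rc_25_11 lc_g_rc_21_2 lc_g_rc_21_3 lc_g_rc_25_7 lc_g_rc_24_7 lc_g_rc_26_6 lc_g_rc_21_2 lc_g_Cert_tree lc_g_rc_26_0 lc_g_rc_27_6 lc_g_rc_24_7 lc_g_rc_26_0 lc_g_rc_21_3 lc_g_rc_26_9 lc_g_Cert_tree lc_g_rc_24_3 lc_g_rc_23_1 lc_g_rc_27_6 lc_g_rc_23_7 lc_g_rc_26_0 lc_g_rc_23_3 lc_g_rc_24_3 lc_g_rc_26_0 lc_g_rc_27_9 lc_g_rc_23_1 lc_g_rc_25_3 lc_g_rc_23_3 lc_g_Cert_tree lc_g_rc_25_3 lc_g_rc_24_3 lc_g_rc_27_3 lc_g_rc_21_3 lc_g_rc_26_0 lc_g_rc_24_3 lc_g_rc_23_7 lc_g_rc_27_6 lc_g_rc_27_9 lc_g_rc_23_3 lc_g_rc_23_1 lc_g_rc_21_2 lc_g_rc_23_7 lc_g_rc_25_19 lc_g_rc_26_9) (@D3.rec (fun _ =>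 (Cert rels S Gen.g)) lc_g_Cert_tree lc_g_rc_25_19 lc_g_rc_24_3 lc_g_rc_27_6 lc_g_Cert_tree lc_g_rc_26_0 lc_g_Cert_tree lc_g_rc_27_3 lc_g_rc_27_6 lc_g_rc_23_7 lc_g_rc_21_2 lc_g_rc_23_3 lc_g_rc_24_1 lc_g_rc_21_3 lc_g_rc_21_3 lc_g_rc_21_2 lc_g_rc_26_0 lc_g_Cert_tree lc_g_rc_27_3 lc_g_rc_24_3 lc_g_rc_27_6 lc_g_rc_21_3 lc_g_Cert_tree lc_g_rc_21_2 lc_g_rc_24_7 lc_g_rc_21_2 lc_g_rc_27_0 lc_g_rc_27_0 lc_g_rc_21_3 lc_g_rc_21_3 lc_g_rc_21_3 lc_g_rc_27_6 lc_g_rc_21_2 lc_g_rc_21_2 lc_g_rc_23_3 lc_g_rc_23_1 lc_g_rc_27_3 lc_g_rc_26_9 lc_g_rc_24_7 lc_g_rc_21_2 lc_g_rc_21_2 lc_g_rc_24_7 lc_g_rc_24_3 lc_g_rc_23_1 lc_g_rc_23_3 lc_g_rc_24_7 lc_g_rc_21_3 lc_g_Cert_tree lc_g_rc_26_0 lc_g_rc_27_0 lc_g_rc_26_6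 lc_g_rc_27_6 lc_g_rc_21_2 lc_g_rc_21_3 lc_g_rc_23_3 lc_g_rc_27_6 lc_g_rc_24_3 lc_g_rc_24_1 lc_g_rc_26_3 lc_g_rc_24_1 lc_g_rc_26_6 lc_g_rc_27_6) (@D3.rec (fun _ => (Cert rels S Gen.g)) lc_g_rc_21_3 lc_g_rc_26_6 lc_g_rc_24_3 lc_g_Cert_tree lc_g_rc_23_7 lc_g_rc_23_3 lc_g_rc_24_7 lc_g_rc_21_2 lc_g_rc_23_7 lc_g_rc_26_6 lc_g_rc_23_7 lc_g_rc_21_2 lc_g_rc_21_3 lc_g_rc_27_9 lc_g_rc_24_7 lc_g_rc_21_3 lc_g_Cert_tree lc_g_rc_24_3 lc_g_rc_26_6 lc_g_rc_23_7 lc_g_rc_27_3 lc_g_rc_21_3 lc_g_Cert_tree lc_g_rc_27_3 lc_g_rc_26_0 lc_g_rc_21_3 lc_g_rc_26_3 lc_g_Cert_tree lc_g_rc_25_11 lc_g_rc_23_9 lc_g_rc_26_0 lc_g_rc_24_9 lc_g_rc_23_9 lc_g_rc_27_6 lc_g_rc_27_3 lc_g_rc_25_3 lc_g_rc_21_2 lc_g_rc_27_3 lc_g_rc_21_2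 lc_g_rc_27_6 lc_g_Cert_tree lc_g_rc_24_1 lc_g_rc_23_3 lc_g_rc_24_9 lc_g_rc_24_9 lc_g_rc_21_2 lc_g_rc_21_2 lc_g_rc_24_3 lc_g_Cert_tree lc_g_rc_27_6 lc_g_rc_27_3 lc_g_rc_21_2 lc_g_rc_21_2 lc_g_rc_23_1 lc_g_rc_21_2 lc_g_rc_26_6 lc_g_rc_21_3 lc_g_Cert_tree lc_g_rc_23_9 lc_g_rc_21_3 lc_g_Cert_tree lc_g_rc_24_1) (@D3.rec (fun _ => (Cert rels S Gen.g)) lc_g_rc_23_3 lc_g_rc_27_6 lc_g_Cert_tree lc_g_rc_24_7 lc_g_rc_23_9 lc_g_rc_23_3 lc_g_rc_26_3 lc_g_rc_27_3 lc_g_rc_21_2 lc_g_Cert_tree lc_g_rc_27_3 lc_g_rc_21_2 lc_g_rc_26_6 lc_g_rc_27_6 lc_g_rc_27_9 lc_g_rc_25_19 lc_g_rc_27_6 lc_g_Cert_tree lc_g_rc_24_3 lc_g_rc_27_6 lc_g_rc_26_9 lc_g_rc_26_0 lc_g_rc_21_3 lc_g_Cert_tree lc_g_Cert_tree lc_g_rc_21_3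 lc_g_rc_27_6 lc_g_Cert_tree lc_g_rc_26_6 lc_g_rc_26_6 lc_g_rc_24_3 lc_g_rc_21_3 lc_g_Cert_tree lc_g_rc_25_3 lc_g_rc_27_3 lc_g_rc_21_2 lc_g_rc_26_6 lc_g_rc_21_2 lc_g_rc_24_1 lc_g_rc_26_0 lc_g_rc_27_3 lc_g_rc_27_3 lc_g_rc_23_3 lc_g_rc_23_1 lc_g_rc_24_1 lc_g_rc_23_3 lc_g_Cert_tree lc_g_rc_27_6 lc_g_rc_21_3 lc_g_rc_24_3 lc_g_Cert_tree lc_g_rc_27_6 lc_g_rc_21_2 lc_g_rc_23_1 lc_g_rc_27_6 lc_g_rc_27_6 lc_g_rc_26_6 lc_g_rc_24_1 lc_g_rc_25_19 lc_g_rc_24_3 lc_g_rc_23_3 lc_g_rc_26_3) (@D3.rec (fun _ => (Cert rels S Gen.g)) lc_g_rc_26_6 lc_g_rc_26_6 lc_g_rc_26_6 lc_g_rc_26_3 lc_g_rc_23_1 lc_g_rc_27_3 lc_g_Cert_tree lc_g_rc_26_3 lc_g_rc_23_1 lc_g_rc_23_1 lc_g_rc_21_3 lc_g_Cert_tree lc_g_rc_24_1 lc_g_rc_24_3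 lc_g_rc_24_1 lc_g_rc_25_7 lc_g_rc_21_3 lc_g_Cert_tree lc_g_rc_21_2 lc_g_rc_26_3 lc_g_rc_21_3 lc_g_Cert_tree lc_g_rc_27_6 lc_g_rc_23_3 lc_g_rc_27_6 lc_g_rc_21_3 lc_g_rc_21_3 lc_g_rc_24_9 lc_g_rc_21_3 lc_g_rc_27_3 lc_g_rc_24_1 lc_g_rc_27_3 lc_g_rc_24_3 lc_g_rc_27_0 lc_g_Cert_tree lc_g_rc_26_9 lc_g_rc_27_6 lc_g_rc_26_6 lc_g_rc_21_2 lc_g_rc_27_6 lc_g_rc_23_3 lc_g_Cert_tree lc_g_rc_27_0 lc_g_rc_23_1 lc_g_rc_24_3 lc_g_rc_23_3 lc_g_rc_26_6 lc_g_rc_21_2 lc_g_rc_21_3 lc_g_rc_21_2 lc_g_Cert_tree lc_g_rc_24_1 lc_g_rc_24_7 lc_g_rc_24_3 lc_g_rc_27_3 lc_g_rc_23_9 lc_g_rc_25_3 lc_g_rc_24_1 lc_g_Cert_tree lc_g_rc_24_3 lc_g_rc_26_6 lc_g_rc_25_7) (@D3.rec (fun _ => (Cert rels S Gen.g)) lc_g_rc_23_3 lc_g_Cert_tree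 lc_g_rc_27_0 lc_g_rc_23_7 lc_g_rc_27_0 lc_g_rc_26_6 lc_g_rc_21_2 lc_g_rc_27_6 lc_g_Cert_tree lc_g_rc_23_3 lc_g_rc_24_3 lc_g_rc_24_1 lc_g_rc_23_7 lc_g_rc_21_3 lc_g_rc_26_6 lc_g_rc_23_9 lc_g_Cert_tree lc_g_rc_26_0 lc_g_Cert_tree lc_g_rc_27_6 lc_g_rc_23_9 lc_g_rc_24_3 lc_g_rc_25_15 lc_g_rc_26_6 lc_g_rc_23_9 lc_g_rc_23_9 lc_g_rc_24_1 lc_g_rc_24_3 lc_g_rc_21_3 lc_g_Cert_tree lc_g_rc_27_0 lc_g_rc_21_3 lc_g_Cert_tree lc_g_rc_27_0 lc_g_rc_24_3 lc_g_rc_23_1 lc_g_Cert_tree lc_g_rc_25_19 lc_g_rc_25_19 lc_g_rc_23_3 lc_g_rc_21_3 lc_g_rc_27_0 lc_g_rc_26_3 lc_g_rc_27_6 lc_g_rc_26_0 lc_g_rc_27_3 lc_g_rc_27_0 lc_g_rc_23_7 lc_g_rc_27_3 lc_g_rc_21_2 lc_g_rc_21_3 lc_g_Cert_tree lc_g_rc_25_3 lc_g_rc_26_6 lc_g_rc_23_7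 lc_g_rc_24_1 lc_g_rc_23_7 lc_g_rc_21_2 lc_g_rc_21_3 lc_g_rc_27_0 lc_g_Cert_tree lc_g_rc_21_3) (@D3.rec (fun _ => (Cert rels S Gen.g)) lc_g_rc_25_19 lc_g_rc_27_6 lc_g_rc_23_1 lc_g_rc_21_3 lc_g_Cert_tree lc_g_rc_27_3 lc_g_rc_21_2 lc_g_rc_26_3 lc_g_rc_23_7 lc_g_Cert_tree lc_g_rc_21_2 lc_g_rc_23_3 lc_g_rc_26_6 lc_g_rc_21_2 lc_g_rc_23_3 lc_g_rc_24_1 lc_g_rc_21_3 lc_g_rc_23_7 lc_g_rc_27_3 lc_g_Cert_tree lc_g_rc_27_0 lc_g_rc_21_2 lc_g_rc_27_3 lc_g_rc_21_3 lc_g_Cert_tree lc_g_rc_27_0 lc_g_Cert_tree lc_g_rc_21_2 lc_g_rc_25_19 lc_g_rc_23_1 lc_g_rc_23_3 lc_g_rc_21_3 lc_g_rc_23_3 lc_g_rc_26_0 lc_g_Cert_tree lc_g_rc_26_3 lc_g_rc_27_9 lc_g_rc_26_6 lc_g_rc_26_6 lc_g_rc_21_3 lc_g_rc_24_3 lc_g_rc_23_3 lc_g_rc_21_3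 lc_g_rc_27_6 lc_g_rc_27_3 lc_g_Cert_tree lc_g_rc_27_6 lc_g_rc_21_2 lc_g_rc_23_3 lc_g_rc_26_6 lc_g_rc_23_3 lc_g_rc_24_3 lc_g_rc_23_7 lc_g_rc_23_3 lc_g_rc_27_6 lc_g_rc_27_3 lc_g_rc_26_9 lc_g_rc_23_9 lc_g_rc_24_1 lc_g_rc_26_3 lc_g_rc_25_15 lc_g_rc_23_3) (@D3.rec (fun _ => (Cert rels S Gen.g)) lc_g_rc_23_7 lc_g_rc_23_1 lc_g_rc_26_3 lc_g_rc_26_6 lc_g_rc_26_3 lc_g_rc_24_1 lc_g_rc_27_0 lc_g_rc_26_9 lc_g_rc_26_3 lc_g_rc_26_3 lc_g_rc_23_3 lc_g_rc_23_1 lc_g_rc_24_3 lc_g_rc_24_3 lc_g_rc_27_3 lc_g_Cert_tree lc_g_rc_26_6 lc_g_rc_27_6 lc_g_rc_21_2 lc_g_rc_24_3 lc_g_Cert_tree lc_g_rc_26_3 lc_g_rc_21_2 lc_g_rc_27_3 lc_g_rc_21_2 lc_g_rc_23_1 lc_g_rc_23_1 lc_g_rc_23_1 lc_g_rc_27_0 lc_g_rc_21_3 lc_g_Cert_tree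 lc_g_rc_23_7 lc_g_rc_21_2 lc_g_rc_23_1 lc_g_rc_27_3 lc_g_rc_21_3 lc_g_Cert_tree lc_g_rc_24_7 lc_g_rc_21_3 lc_g_rc_25_3 lc_g_Cert_tree lc_g_rc_25_3 lc_g_rc_25_19 lc_g_rc_24_7 lc_g_rc_27_0 lc_g_rc_24_3 lc_g_rc_23_9 lc_g_rc_26_6 lc_g_rc_26_0 lc_g_rc_27_0 lc_g_rc_27_9 lc_g_rc_27_0 lc_g_rc_24_3 lc_g_rc_27_6 lc_g_rc_27_6 lc_g_rc_27_9 lc_g_rc_21_3 lc_g_Cert_tree lc_g_rc_21_2 lc_g_rc_21_2 lc_g_rc_21_3 lc_g_Cert_tree) (@D3.rec (fun _ => (Cert rels S Gen.g)) lc_g_rc_21_2 lc_g_Cert_tree lc_g_rc_27_3 lc_g_rc_27_0 lc_g_rc_27_3 lc_g_rc_21_2 lc_g_rc_21_3 lc_g_Cert_tree lc_g_rc_27_6 lc_g_rc_26_6 lc_g_rc_27_9 lc_g_rc_27_6 lc_g_rc_21_3 lc_g_rc_21_3 lc_g_Cert_tree lc_g_rc_21_2 lc_g_rc_27_6 lc_g_rc_21_3 lc_g_rc_27_3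 lc_g_rc_24_3 lc_g_rc_27_6 lc_g_Cert_tree lc_g_rc_21_3 lc_g_rc_26_6 lc_g_rc_24_1 lc_g_rc_27_6 lc_g_rc_26_6 lc_g_rc_24_7 lc_g_rc_21_2 lc_g_rc_24_1 lc_g_rc_27_0 lc_g_rc_24_3 lc_g_rc_26_6 lc_g_rc_21_2 lc_g_rc_26_3 lc_g_rc_21_2 lc_g_rc_21_3 lc_g_Cert_tree lc_g_Cert_tree lc_g_rc_26_3 lc_g_rc_21_2 lc_g_rc_27_3 lc_g_rc_23_7 lc_g_rc_21_2 lc_g_Cert_tree lc_g_Cert_tree lc_g_rc_21_2 lc_g_rc_25_7 lc_g_rc_21_3 lc_g_rc_26_6 lc_g_rc_21_3 lc_g_rc_23_3 lc_g_rc_21_3 lc_g_rc_25_19 lc_g_Cert_tree lc_g_rc_21_2 lc_g_rc_27_9 lc_g_rc_21_3 lc_g_Cert_tree lc_g_rc_21_2 lc_g_rc_27_6 lc_g_rc_21_3) (@D3.rec (fun _ => (Cert rels S Gen.g)) lc_g_rc_27_6 lc_g_rc_27_6 lc_g_rc_21_3 lc_g_Cert_tree lc_g_rc_21_2 lc_g_rc_21_2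 lc_g_rc_27_0 lc_g_Cert_tree lc_g_rc_25_7 lc_g_rc_23_3 lc_g_rc_26_0 lc_g_rc_26_0 lc_g_rc_26_6 lc_g_rc_24_7 lc_g_rc_25_15 lc_g_rc_27_3 lc_g_Cert_tree lc_g_rc_27_6 lc_g_rc_21_2 lc_g_rc_27_3 lc_g_rc_26_3 lc_g_rc_21_3 lc_g_Cert_tree lc_g_rc_23_9 lc_g_rc_24_3 lc_g_rc_26_6 lc_g_rc_27_3 lc_g_rc_27_0 lc_g_Cert_tree lc_g_rc_26_6 lc_g_rc_26_6 lc_g_rc_23_7 lc_g_rc_21_3 lc_g_Cert_tree lc_g_rc_21_2 lc_g_rc_21_2 lc_g_rc_24_3 lc_g_rc_21_2 lc_g_rc_27_6 lc_g_rc_24_3 lc_g_rc_27_6 lc_g_rc_27_3 lc_g_rc_26_3 lc_g_rc_23_9 lc_g_rc_27_6 lc_g_rc_21_3 lc_g_rc_21_3 lc_g_Cert_tree lc_g_rc_21_3 lc_g_rc_27_0 lc_g_rc_21_2 lc_g_rc_27_3 lc_g_Cert_tree lc_g_rc_24_7 lc_g_rc_23_3 lc_g_rc_27_6 lc_g_rc_21_3 lc_g_Cert_tree lc_g_rc_27_3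 lc_g_rc_21_2 lc_g_rc_26_6 lc_g_rc_26_6) (@D3.rec (fun _ => (Cert rels S Gen.g)) lc_g_rc_27_6 lc_g_rc_21_3 lc_g_rc_21_2 lc_g_rc_23_9 lc_g_rc_23_7 lc_g_rc_27_3 lc_g_rc_23_9 lc_g_Cert_tree lc_g_rc_21_2 lc_g_rc_21_2 lc_g_rc_27_3 lc_g_rc_23_1 lc_g_rc_26_6 lc_g_rc_26_6 lc_g_rc_21_2 lc_g_rc_27_9 lc_g_rc_27_9 lc_g_rc_21_2 lc_g_rc_23_1 lc_g_rc_26_3 lc_g_rc_24_1 lc_g_rc_24_3 lc_g_rc_27_6 lc_g_rc_23_7 lc_g_rc_24_7 lc_g_rc_24_1 lc_g_rc_21_2 lc_g_rc_27_6 lc_g_Cert_tree lc_g_rc_26_6 lc_g_rc_26_3 lc_g_rc_27_3 lc_g_rc_26_0 lc_g_rc_21_3 lc_g_Cert_tree lc_g_rc_27_6 lc_g_rc_26_3 lc_g_rc_21_3 lc_g_rc_26_3 lc_g_Cert_tree lc_g_rc_21_2 lc_g_rc_26_6 lc_g_rc_27_6 lc_g_rc_23_1 lc_g_rc_26_3 lc_g_Cert_tree lc_g_rc_21_2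 lc_g_rc_24_3 lc_g_Cert_tree lc_g_rc_21_2 lc_g_rc_26_0 lc_g_rc_21_3 lc_g_Cert_tree lc_g_rc_21_2 lc_g_rc_26_3 lc_g_rc_27_0 lc_g_rc_21_2 lc_g_rc_26_3 lc_g_rc_26_6 lc_g_rc_25_19 lc_g_rc_27_6 lc_g_rc_24_1) (@D3.rec (fun _ => (Cert rels S Gen.g)) lc_g_rc_27_0 lc_g_rc_25_19 lc_g_Cert_tree lc_g_rc_24_3 lc_g_rc_26_6 lc_g_rc_21_3 lc_g_rc_27_3 lc_g_rc_21_2 lc_g_rc_25_19 lc_g_rc_24_3 lc_g_rc_21_3 lc_g_Cert_tree lc_g_rc_26_6 lc_g_rc_27_6 lc_g_rc_21_3 lc_g_rc_21_2 lc_g_rc_27_6 lc_g_Cert_tree lc_g_rc_27_3 lc_g_rc_26_3 lc_g_rc_21_2 lc_g_rc_24_1 lc_g_rc_24_1 lc_g_rc_24_1 lc_g_rc_24_1 lc_g_rc_24_3 lc_g_Cert_tree lc_g_rc_21_2 lc_g_rc_21_3 lc_g_rc_26_6 lc_g_Cert_tree lc_g_rc_21_3 lc_g_rc_26_0 lc_g_rc_24_7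 lc_g_rc_23_1 lc_g_rc_27_6 lc_g_Cert_tree lc_g_rc_23_3 lc_g_rc_24_3 lc_g_rc_26_3 lc_g_rc_21_3 lc_g_rc_21_3 lc_g_rc_21_3 lc_g_rc_27_3 lc_g_rc_27_9 lc_g_rc_27_3 lc_g_rc_21_2 lc_g_rc_27_3 lc_g_rc_23_3 lc_g_rc_27_6 lc_g_Cert_tree lc_g_rc_27_3 lc_g_rc_21_2 lc_g_rc_27_3 lc_g_rc_27_6 lc_g_rc_23_7 lc_g_rc_23_7 lc_g_rc_24_3 lc_g_Cert_tree lc_g_rc_24_3 lc_g_rc_27_6 lc_g_rc_21_3) (@D3.rec (fun _ => (Cert rels S Gen.g)) lc_g_rc_24_3 lc_g_rc_23_3 lc_g_rc_27_3 lc_g_rc_26_6 lc_g_rc_23_3 lc_g_rc_21_3 lc_g_Cert_tree lc_g_rc_26_3 lc_g_rc_21_2 lc_g_rc_26_0 lc_g_rc_21_2 lc_g_rc_26_9 lc_g_rc_21_3 lc_g_rc_24_7 lc_g_rc_21_3 lc_g_rc_23_3 lc_g_rc_21_3 lc_g_Cert_tree lc_g_rc_21_2 lc_g_rc_21_3 lc_g_rc_24_7 lc_g_rc_27_0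 lc_g_rc_21_2 lc_g_Cert_tree lc_g_rc_25_19 lc_g_rc_25_11 lc_g_rc_25_3 lc_g_rc_21_3 lc_g_rc_25_19 lc_g_rc_24_1 lc_g_rc_23_3 lc_g_rc_27_0 lc_g_rc_27_0 lc_g_rc_21_2 lc_g_rc_27_9 lc_g_rc_21_2 lc_g_rc_23_7 lc_g_rc_26_3 lc_g_rc_21_2 lc_g_rc_24_3 lc_g_Cert_tree lc_g_rc_26_6 lc_g_rc_21_2 lc_g_rc_21_3 lc_g_rc_27_6 lc_g_Cert_tree lc_g_rc_24_3 lc_g_rc_21_2 lc_g_rc_21_2 lc_g_rc_26_6 lc_g_rc_23_1 lc_g_rc_21_2 lc_g_rc_23_3 lc_g_rc_23_3 lc_g_rc_23_1 lc_g_rc_21_3 lc_g_rc_21_2 lc_g_Cert_tree lc_g_rc_27_3 lc_g_rc_21_2 lc_g_rc_21_3 lc_g_rc_27_6) (@D3.rec (fun _ => (Cert rels S Gen.g)) lc_g_rc_27_3 lc_g_rc_23_1 lc_g_rc_27_9 lc_g_rc_26_3 lc_g_rc_24_7 lc_g_rc_21_3 lc_g_Cert_tree lc_g_rc_21_2 lc_g_rc_21_2 lc_g_rc_21_3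 lc_g_rc_21_2 lc_g_rc_25_15 lc_g_Cert_tree lc_g_rc_26_0 lc_g_Cert_tree lc_g_rc_21_2 lc_g_rc_21_3 lc_g_rc_27_6 lc_g_rc_26_6 lc_g_Cert_tree lc_g_rc_23_3 lc_g_rc_27_3 lc_g_Cert_tree lc_g_rc_23_7 lc_g_Cert_tree lc_g_Cert_tree lc_g_rc_24_9 lc_g_rc_24_3 lc_g_rc_23_3 lc_g_rc_25_19 lc_g_rc_21_2 lc_g_rc_21_3 lc_g_Cert_tree lc_g_rc_27_3 lc_g_rc_21_2 lc_g_rc_21_3 lc_g_rc_27_6 lc_g_rc_24_1 lc_g_rc_21_3 lc_g_rc_27_6 lc_g_rc_24_9 lc_g_Cert_tree lc_g_rc_21_2 lc_g_rc_24_3 lc_g_rc_24_3 lc_g_rc_26_6 lc_g_rc_24_7 lc_g_rc_21_2 lc_g_rc_21_3 lc_g_rc_21_3 lc_g_Cert_tree lc_g_rc_26_6 lc_g_rc_21_2 lc_g_rc_21_2 lc_g_rc_27_3 lc_g_Cert_tree lc_g_rc_27_6 lc_g_rc_21_2 lc_g_rc_26_3 lc_g_Cert_tree lc_g_rc_23_7 lc_g_rc_23_7)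 (@D3.rec (fun _ => (Cert rels S Gen.g)) lc_g_rc_26_6 lc_g_rc_27_9 lc_g_rc_26_0 lc_g_Cert_tree lc_g_rc_26_3 lc_g_rc_21_2 lc_g_rc_24_3 lc_g_rc_21_3 lc_g_rc_24_7 lc_g_rc_21_3 lc_g_rc_26_6 lc_g_rc_27_6 lc_g_rc_27_0 lc_g_rc_24_3 lc_g_rc_27_3 lc_g_rc_26_6 lc_g_rc_23_3 lc_g_rc_26_0 lc_g_rc_24_9 lc_g_rc_24_3 lc_g_rc_27_0 lc_g_rc_21_3 lc_g_Cert_tree lc_g_rc_24_9 lc_g_Cert_tree lc_g_rc_26_6 lc_g_rc_21_3 lc_g_Cert_tree lc_g_rc_27_3 lc_g_rc_21_2 lc_g_rc_26_6 lc_g_rc_27_6 lc_g_rc_24_3 lc_g_rc_24_1 lc_g_rc_21_2 lc_g_rc_26_0 lc_g_rc_27_6 lc_g_Cert_tree lc_g_rc_26_3 lc_g_rc_21_2 lc_g_rc_26_0 lc_g_rc_21_3 lc_g_Cert_tree lc_g_rc_24_9 lc_g_rc_26_0 lc_g_rc_21_3 lc_g_rc_23_9 lc_g_rc_21_2 lc_g_rc_23_9 lc_g_rc_24_1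 lc_g_rc_21_3 lc_g_rc_27_3 lc_g_rc_27_0 lc_g_rc_26_6 lc_g_rc_26_0 lc_g_rc_24_7 lc_g_rc_27_6 lc_g_rc_23_1 lc_g_rc_24_3 lc_g_Cert_tree lc_g_rc_27_0 lc_g_rc_23_9) (@D3.rec (fun _ => (Cert rels S Gen.g)) lc_g_Cert_tree lc_g_rc_27_3 lc_g_rc_27_3 lc_g_rc_24_1 lc_g_rc_24_7 lc_g_Cert_tree lc_g_rc_26_0 lc_g_rc_21_2 lc_g_rc_24_7 lc_g_rc_27_0 lc_g_rc_23_9 lc_g_rc_26_6 lc_g_rc_21_3 lc_g_Cert_tree lc_g_Cert_tree lc_g_rc_25_19 lc_g_rc_27_6 lc_g_rc_27_6 lc_g_Cert_tree lc_g_rc_21_2 lc_g_rc_21_3 lc_g_rc_24_7 lc_g_rc_23_1 lc_g_Cert_tree lc_g_rc_26_3 lc_g_rc_27_6 lc_g_rc_21_3 lc_g_rc_21_2 lc_g_Cert_tree lc_g_rc_21_3 lc_g_Cert_tree lc_g_rc_26_6 lc_g_rc_26_0 lc_g_rc_21_3 lc_g_rc_27_6 lc_g_rc_27_6 lc_g_rc_23_3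 lc_g_rc_21_2 lc_g_rc_24_3 lc_g_rc_24_9 lc_g_Cert_tree lc_g_rc_27_3 lc_g_rc_21_2 lc_g_rc_24_3 lc_g_rc_23_7 lc_g_Cert_tree lc_g_rc_23_3 lc_g_rc_23_9 lc_g_rc_26_6 lc_g_rc_27_3 lc_g_Cert_tree lc_g_rc_24_1 lc_g_rc_25_7 lc_g_rc_27_6 lc_g_Cert_tree lc_g_rc_26_6 lc_g_rc_26_9 lc_g_rc_26_3 lc_g_rc_27_0 lc_g_rc_21_2 lc_g_rc_24_3 lc_g_rc_24_7) (@D3.rec (fun _ => (Cert rels S Gen.g)) lc_g_rc_23_3 lc_g_rc_23_3 lc_g_Cert_tree lc_g_rc_26_0 lc_g_rc_25_19 lc_g_rc_23_9 lc_g_rc_27_6 lc_g_rc_27_0 lc_g_rc_21_3 lc_g_Cert_tree lc_g_rc_21_2 lc_g_rc_26_0 lc_g_rc_21_2 lc_g_rc_21_2 lc_g_rc_24_9 lc_g_rc_24_1 lc_g_rc_21_3 lc_g_rc_27_9 lc_g_rc_27_9 lc_g_rc_23_3 lc_g_rc_27_6 lc_g_rc_26_6 lc_g_rc_23_3 lc_g_rc_24_3 lc_g_rc_24_7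 lc_g_rc_21_2 lc_g_rc_21_2 lc_g_rc_23_7 lc_g_rc_21_3 lc_g_Cert_tree lc_g_rc_21_2 lc_g_rc_21_2 lc_g_Cert_tree lc_g_rc_23_7 lc_g_rc_21_2 lc_g_rc_26_9 lc_g_rc_21_3 lc_g_rc_26_0 lc_g_rc_27_0 lc_g_rc_21_2 lc_g_rc_24_9 lc_g_rc_21_3 lc_g_Cert_tree lc_g_rc_21_2 lc_g_rc_21_2 lc_g_rc_23_1 lc_g_rc_26_3 lc_g_rc_27_6 lc_g_rc_23_3 lc_g_rc_27_6 lc_g_rc_26_3 lc_g_rc_21_3 lc_g_rc_21_3 lc_g_Cert_tree lc_g_rc_21_3 lc_g_rc_21_2 lc_g_rc_21_3 lc_g_rc_26_0 lc_g_rc_21_3 lc_g_rc_21_3 lc_g_rc_27_6 lc_g_rc_21_2) (@D3.rec (fun _ => (Cert rels S Gen.g)) lc_g_rc_26_3 lc_g_rc_23_7 lc_g_rc_21_3 lc_g_rc_27_9 lc_g_Cert_tree lc_g_Cert_tree lc_g_rc_27_6 lc_g_rc_27_0 lc_g_rc_26_9 lc_g_rc_21_3 lc_g_rc_27_6 lc_g_rc_24_3 lc_g_rc_24_3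 lc_g_rc_26_6 lc_g_rc_21_3 lc_g_Cert_tree lc_g_rc_21_2 lc_g_rc_23_9 lc_g_rc_27_0 lc_g_rc_21_3 lc_g_rc_21_3 lc_g_rc_23_7 lc_g_rc_26_6 lc_g_rc_23_9 lc_g_rc_27_3 lc_g_rc_23_9 lc_g_rc_23_9 lc_g_rc_27_0 lc_g_rc_27_0 lc_g_rc_23_1 lc_g_rc_27_0 lc_g_rc_27_6 lc_g_rc_21_2 lc_g_Cert_tree lc_g_rc_21_2 lc_g_rc_21_3 lc_g_rc_25_7 lc_g_rc_27_6 lc_g_rc_23_3 lc_g_Cert_tree lc_g_rc_24_3 lc_g_rc_27_6 lc_g_rc_26_3 lc_g_rc_27_6 lc_g_rc_21_3 lc_g_rc_21_3 lc_g_rc_21_3 lc_g_Cert_tree lc_g_rc_21_2 lc_g_rc_26_6 lc_g_rc_27_0 lc_g_rc_21_3 lc_g_rc_21_2 lc_g_Cert_tree lc_g_rc_21_2 lc_g_rc_27_0 lc_g_Cert_tree lc_g_rc_21_2 lc_g_rc_27_3 lc_g_rc_21_2 lc_g_rc_26_6 lc_g_rc_21_3) (@D3.rec (fun _ => (Cert rels S Gen.g)) lc_g_Cert_tree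 lc_g_rc_21_2 lc_g_rc_21_2 lc_g_rc_26_6 lc_g_rc_23_7 lc_g_rc_23_3 lc_g_Cert_tree lc_g_rc_26_3 lc_g_Cert_tree lc_g_rc_27_6 lc_g_rc_26_3 lc_g_rc_26_9 lc_g_rc_23_3 lc_g_rc_26_6 lc_g_rc_23_9 lc_g_rc_21_3 lc_g_rc_27_6 lc_g_rc_21_2 lc_g_rc_21_3 lc_g_rc_24_9 lc_g_Cert_tree lc_g_rc_23_7 lc_g_rc_23_3 lc_g_rc_26_6 lc_g_rc_24_9 lc_g_rc_26_9 lc_g_Cert_tree lc_g_rc_21_3 lc_g_Cert_tree lc_g_rc_24_7 lc_g_rc_21_3 lc_g_rc_24_3 lc_g_rc_21_3 lc_g_rc_21_3 lc_g_rc_24_9 lc_g_rc_26_3 lc_g_rc_21_2 lc_g_rc_24_7 lc_g_rc_21_3 lc_g_rc_27_6 lc_g_rc_26_3 lc_g_rc_21_3 lc_g_Cert_tree lc_g_rc_21_2 lc_g_rc_26_6 lc_g_rc_26_6 lc_g_rc_26_3 lc_g_rc_27_6 lc_g_rc_21_2 lc_g_rc_21_3 lc_g_Cert_tree lc_g_rc_27_3 lc_g_rc_21_3 lc_g_Cert_tree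 lc_g_rc_25_19 lc_g_rc_24_7 lc_g_rc_21_3 lc_g_rc_23_7 lc_g_rc_26_3 lc_g_rc_26_9 lc_g_rc_24_3 lc_g_rc_23_3) (@D3.rec (fun _ => (Cert rels S Gen.g)) lc_g_Cert_tree lc_g_rc_26_6 lc_g_rc_23_7 lc_g_rc_27_0 lc_g_rc_27_6 lc_g_rc_24_3 lc_g_rc_21_2 lc_g_rc_26_3 lc_g_rc_26_9 lc_g_rc_23_9 lc_g_rc_21_3 lc_g_rc_26_6 lc_g_rc_24_1 lc_g_rc_21_3 lc_g_Cert_tree lc_g_rc_21_3 lc_g_rc_27_6 lc_g_rc_21_3 lc_g_rc_27_0 lc_g_rc_26_9 lc_g_Cert_tree lc_g_rc_27_6 lc_g_rc_26_3 lc_g_rc_23_7 lc_g_rc_23_7 lc_g_rc_24_1 lc_g_rc_27_3 lc_g_rc_21_2 lc_g_rc_21_3 lc_g_Cert_tree lc_g_rc_25_19 lc_g_rc_23_1 lc_g_rc_24_3 lc_g_rc_27_3 lc_g_rc_27_6 lc_g_rc_24_1 lc_g_rc_21_3 lc_g_Cert_tree lc_g_rc_27_6 lc_g_rc_26_3 lc_g_rc_27_3 lc_g_rc_21_3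 lc_g_rc_27_6 lc_g_rc_27_6 lc_g_rc_21_2 lc_g_rc_26_6 lc_g_rc_26_9 lc_g_rc_24_9 lc_g_rc_21_2 lc_g_rc_21_2 lc_g_rc_21_3 lc_g_rc_27_6 lc_g_rc_27_9 lc_g_rc_23_3 lc_g_rc_25_3 lc_g_Cert_tree lc_g_rc_26_9 lc_g_rc_26_0 lc_g_rc_23_3 lc_g_rc_21_2 lc_g_rc_27_9 lc_g_rc_26_6) (@D3.rec (fun _ => (Cert rels S Gen.g)) lc_g_rc_26_3 lc_g_rc_27_3 lc_g_rc_26_6 lc_g_rc_21_3 lc_g_Cert_tree lc_g_rc_26_6 lc_g_rc_26_0 lc_g_rc_23_7 lc_g_rc_26_0 lc_g_Cert_tree lc_g_rc_24_3 lc_g_rc_27_3 lc_g_rc_23_3 lc_g_rc_24_3 lc_g_rc_26_3 lc_g_rc_24_7 lc_g_rc_24_1 lc_g_rc_27_3 lc_g_rc_24_3 lc_g_Cert_tree lc_g_rc_24_3 lc_g_rc_26_6 lc_g_Cert_tree lc_g_rc_27_0 lc_g_rc_24_1 lc_g_rc_27_6 lc_g_rc_27_6 lc_g_rc_23_7 lc_g_rc_27_6 lc_g_rc_23_7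 lc_g_rc_24_3 lc_g_rc_27_3 lc_g_rc_26_0 lc_g_rc_27_3 lc_g_rc_23_7 lc_g_rc_21_2 lc_g_rc_24_3 lc_g_rc_27_0 lc_g_rc_27_0 lc_g_rc_24_1 lc_g_rc_21_3 lc_g_Cert_tree lc_g_rc_26_6 lc_g_rc_23_3 lc_g_Cert_tree lc_g_rc_23_3 lc_g_rc_27_3 lc_g_rc_27_0 lc_g_rc_27_3 lc_g_rc_21_2 lc_g_rc_27_6 lc_g_Cert_tree lc_g_rc_21_2 lc_g_rc_24_9 lc_g_rc_27_0 lc_g_rc_24_3 lc_g_rc_24_7 lc_g_rc_24_3 lc_g_rc_26_0 lc_g_Cert_tree lc_g_rc_27_0 lc_g_rc_27_6) (@D3.rec (fun _ => (Cert rels S Gen.g)) lc_g_rc_27_3 lc_g_rc_26_6 lc_g_rc_26_0 lc_g_rc_26_3 lc_g_rc_27_3 lc_g_rc_27_9 lc_g_rc_25_3 lc_g_rc_23_7 lc_g_rc_26_0 lc_g_rc_24_1 lc_g_rc_21_2 lc_g_rc_24_3 lc_g_rc_25_15 lc_g_rc_21_3 lc_g_rc_26_0 lc_g_rc_27_6 lc_g_rc_21_3 lc_g_Cert_tree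 lc_g_Cert_tree lc_g_rc_21_3 lc_g_rc_26_3 lc_g_rc_27_6 lc_g_rc_21_3 lc_g_rc_27_0 lc_g_rc_24_3 lc_g_rc_27_6 lc_g_rc_27_3 lc_g_rc_24_9 lc_g_rc_26_9 lc_g_rc_27_3 lc_g_rc_21_3 lc_g_rc_27_9 lc_g_rc_26_3 lc_g_Cert_tree lc_g_rc_26_0 lc_g_rc_21_3 lc_g_Cert_tree lc_g_rc_21_2 lc_g_rc_26_0 lc_g_rc_21_3 lc_g_rc_21_2 lc_g_rc_26_6 lc_g_Cert_tree lc_g_rc_21_3 lc_g_Cert_tree lc_g_rc_21_2 lc_g_rc_25_7 lc_g_rc_21_2 lc_g_rc_24_3 lc_g_rc_21_3 lc_g_rc_21_2 lc_g_rc_23_7 lc_g_rc_21_2 lc_g_rc_27_6 lc_g_rc_21_2 lc_g_rc_26_3 lc_g_rc_21_3 lc_g_rc_21_3 lc_g_rc_27_0 lc_g_Cert_tree lc_g_rc_21_3 lc_g_rc_21_3) (@D3.rec (fun _ => (Cert rels S Gen.g)) lc_g_rc_24_7 lc_g_rc_23_3 lc_g_rc_27_0 lc_g_rc_21_3 lc_g_rc_21_3 lc_g_rc_21_2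 lc_g_rc_24_3 lc_g_rc_25_3 lc_g_Cert_tree lc_g_rc_21_2 lc_g_rc_23_3 lc_g_rc_26_9 lc_g_rc_27_6 lc_g_rc_21_2 lc_g_rc_23_3 lc_g_rc_21_2 lc_g_rc_27_0 lc_g_rc_23_1 lc_g_rc_24_1 lc_g_Cert_tree lc_g_rc_21_3 lc_g_rc_26_6 lc_g_rc_27_0 lc_g_rc_21_3 lc_g_Cert_tree lc_g_rc_21_2 lc_g_rc_26_6 lc_g_rc_24_3 lc_g_rc_24_3 lc_g_rc_25_7 lc_g_rc_27_3 lc_g_rc_23_9 lc_g_rc_21_3 lc_g_rc_23_3 lc_g_rc_23_3 lc_g_rc_21_3 lc_g_rc_27_9 lc_g_rc_27_6 lc_g_rc_24_3 lc_g_Cert_tree lc_g_rc_24_3 lc_g_rc_27_6 lc_g_rc_23_3 lc_g_rc_27_3 lc_g_rc_25_3 lc_g_rc_26_6 lc_g_rc_23_9 lc_g_rc_21_2 lc_g_rc_27_6 lc_g_rc_24_3 lc_g_rc_23_3 lc_g_rc_26_0 lc_g_rc_21_3 lc_g_Cert_tree lc_g_rc_21_2 lc_g_rc_21_2 lc_g_rc_26_0 lc_g_rc_27_3 lc_g_rc_23_7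 lc_g_Cert_tree lc_g_rc_27_6 lc_g_Cert_tree) (@D3.rec (fun _ => (Cert rels S Gen.g)) lc_g_rc_26_6 lc_g_rc_26_3 lc_g_rc_24_7 lc_g_Cert_tree lc_g_rc_21_2 lc_g_rc_21_2 lc_g_rc_24_7 lc_g_rc_24_3 lc_g_rc_27_3 lc_g_rc_27_3 lc_g_rc_23_7 lc_g_rc_27_9 lc_g_rc_27_0 lc_g_rc_21_3 lc_g_rc_21_3 lc_g_rc_21_3 lc_g_rc_24_7 lc_g_rc_27_3 lc_g_rc_21_3 lc_g_rc_27_6 lc_g_rc_26_6 lc_g_Cert_tree lc_g_rc_23_3 lc_g_rc_21_2 lc_g_rc_24_3 lc_g_rc_21_2 lc_g_rc_26_6 lc_g_Cert_tree lc_g_rc_21_2 lc_g_rc_26_9 lc_g_Cert_tree lc_g_rc_26_0 lc_g_rc_26_3 lc_g_rc_24_3 lc_g_rc_24_9 lc_g_rc_21_2 lc_g_rc_21_3 lc_g_rc_26_0 lc_g_rc_21_2 lc_g_rc_21_2 lc_g_rc_21_3 lc_g_Cert_tree lc_g_rc_24_1 lc_g_rc_26_6 lc_g_rc_27_6 lc_g_rc_21_3 lc_g_rc_21_3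 lc_g_rc_24_1 lc_g_rc_23_7 lc_g_rc_21_2 lc_g_rc_23_7 lc_g_rc_21_2 lc_g_rc_21_3 lc_g_rc_21_3 lc_g_rc_21_3 lc_g_rc_24_7 lc_g_rc_24_3 lc_g_rc_26_6 lc_g_rc_24_1 lc_g_rc_21_2 lc_g_rc_21_2 lc_g_rc_26_6) (@D3.rec (fun _ => (Cert rels S Gen.g)) lc_g_Cert_tree lc_g_rc_24_1 lc_g_rc_21_2 lc_g_Cert_tree lc_g_rc_24_3 lc_g_rc_21_2 lc_g_rc_27_9 lc_g_Cert_tree lc_g_rc_26_3 lc_g_rc_24_7 lc_g_rc_27_3 lc_g_rc_24_3 lc_g_rc_27_3 lc_g_rc_21_3 lc_g_rc_25_11 lc_g_rc_25_11 lc_g_rc_21_3 lc_g_rc_21_2 lc_g_rc_26_3 lc_g_rc_26_6 lc_g_rc_21_2 lc_g_rc_24_3 lc_g_Cert_tree lc_g_rc_26_3 lc_g_rc_27_0 lc_g_rc_24_9 lc_g_rc_23_9 lc_g_Cert_tree lc_g_Cert_tree lc_g_rc_27_6 lc_g_rc_25_7 lc_g_rc_21_3 lc_g_Cert_tree lc_g_rc_24_7 lc_g_rc_24_7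 lc_g_rc_21_2 lc_g_rc_26_6 lc_g_rc_21_2 lc_g_rc_27_3 lc_g_rc_27_3 lc_g_rc_21_2 lc_g_rc_21_2 lc_g_rc_26_6 lc_g_rc_24_3 lc_g_rc_24_7 lc_g_rc_26_0 lc_g_rc_24_7 lc_g_rc_23_7 lc_g_rc_23_7 lc_g_rc_23_1 lc_g_Cert_tree lc_g_rc_26_9 lc_g_rc_21_2 lc_g_rc_24_1 lc_g_rc_21_3 lc_g_rc_23_1 lc_g_rc_24_7 lc_g_rc_27_6 lc_g_Cert_tree lc_g_rc_21_2 lc_g_rc_23_3 lc_g_rc_26_3) (@D3.rec (fun _ => (Cert rels S Gen.g)) lc_g_rc_24_1 lc_g_rc_21_2 lc_g_rc_26_3 lc_g_rc_23_3 lc_g_rc_24_1 lc_g_rc_27_0 lc_g_rc_21_3 lc_g_Cert_tree lc_g_rc_23_3 lc_g_rc_27_6 lc_g_rc_21_3 lc_g_rc_23_3 lc_g_rc_24_3 lc_g_rc_27_6 lc_g_rc_21_3 lc_g_rc_21_2 lc_g_rc_26_6 lc_g_rc_27_6 lc_g_rc_26_6 lc_g_rc_21_2 lc_g_rc_26_0 lc_g_Cert_tree lc_g_rc_26_3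 lc_g_rc_26_6 lc_g_rc_21_2 lc_g_rc_21_2 lc_g_rc_23_3 lc_g_rc_23_1 lc_g_rc_26_3 lc_g_rc_27_0 lc_g_rc_25_15 lc_g_rc_27_6 lc_g_Cert_tree lc_g_rc_21_2 lc_g_rc_24_3 lc_g_rc_27_6 lc_g_rc_24_7 lc_g_rc_23_1 lc_g_rc_27_0 lc_g_rc_27_3 lc_g_rc_23_1 lc_g_Cert_tree lc_g_rc_21_3 lc_g_rc_26_6 lc_g_rc_21_3 lc_g_rc_21_2 lc_g_rc_27_3 lc_g_rc_24_3 lc_g_rc_21_3 lc_g_rc_26_6 lc_g_rc_23_7 lc_g_rc_26_9 lc_g_rc_21_2 lc_g_Cert_tree lc_g_rc_23_9 lc_g_rc_21_2 lc_g_rc_23_3 lc_g_rc_23_3 lc_g_rc_26_0 lc_g_rc_21_3 lc_g_Cert_tree lc_g_rc_26_6) (@D3.rec (fun _ => (Cert rels S Gen.g)) lc_g_rc_26_6 lc_g_rc_21_3 lc_g_Cert_tree lc_g_rc_26_6 lc_g_rc_27_6 lc_g_rc_23_1 lc_g_rc_27_3 lc_g_rc_24_3 lc_g_rc_23_3 lc_g_rc_21_2 lc_g_rc_23_1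 lc_g_rc_25_7 lc_g_Cert_tree lc_g_rc_21_2 lc_g_rc_21_2 lc_g_rc_21_2 lc_g_rc_24_3 lc_g_rc_26_6 lc_g_rc_27_6 lc_g_rc_26_6 lc_g_rc_23_9 lc_g_rc_27_3 lc_g_rc_25_7 lc_g_rc_27_6 lc_g_Cert_tree lc_g_rc_26_3 lc_g_rc_26_9 lc_g_rc_27_0 lc_g_rc_23_1 lc_g_rc_21_2 lc_g_Cert_tree lc_g_rc_23_1 lc_g_rc_24_3 lc_g_rc_27_6 lc_g_rc_24_7 lc_g_rc_27_0 lc_g_rc_21_2 lc_g_rc_26_6 lc_g_rc_21_2 lc_g_rc_24_1 lc_g_rc_21_2 lc_g_rc_23_9 lc_g_rc_24_9 lc_g_rc_21_2 lc_g_rc_27_0 lc_g_Cert_tree lc_g_rc_27_3 lc_g_rc_21_2 lc_g_rc_23_9 lc_g_rc_27_3 lc_g_rc_23_1 lc_g_rc_24_1 lc_g_rc_23_3 lc_g_rc_26_6 lc_g_rc_26_6 lc_g_rc_23_9 lc_g_rc_21_3 lc_g_rc_21_2 lc_g_rc_21_2 lc_g_rc_27_9 lc_g_rc_27_3 lc_g_rc_27_0) (@D3.rec (fun _ => (Cert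 rels S Gen.g)) lc_g_rc_24_9 lc_g_rc_27_9 lc_g_rc_27_0 lc_g_rc_21_3 lc_g_Cert_tree lc_g_rc_23_1 lc_g_rc_21_2 lc_g_rc_21_3 lc_g_rc_27_3 lc_g_rc_27_3 lc_g_rc_24_3 lc_g_rc_23_1 lc_g_rc_27_3 lc_g_Cert_tree lc_g_rc_23_3 lc_g_rc_26_3 lc_g_rc_27_6 lc_g_rc_26_3 lc_g_rc_21_2 lc_g_rc_26_6 lc_g_rc_21_3 lc_g_rc_26_6 lc_g_rc_26_6 lc_g_rc_23_1 lc_g_rc_27_6 lc_g_rc_27_0 lc_g_rc_23_7 lc_g_rc_27_6 lc_g_rc_23_7 lc_g_rc_21_2 lc_g_rc_21_2 lc_g_Cert_tree lc_g_rc_26_0 lc_g_rc_21_2 lc_g_rc_24_1 lc_g_rc_21_3 lc_g_Cert_tree lc_g_rc_21_2 lc_g_rc_26_6 lc_g_rc_27_3 lc_g_rc_26_6 lc_g_rc_21_3 lc_g_Cert_tree lc_g_rc_21_2 lc_g_rc_21_3 lc_g_rc_21_3 lc_g_rc_21_3 lc_g_rc_27_0 lc_g_rc_21_3 lc_g_rc_21_3 lc_g_Cert_tree lc_g_rc_27_0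 lc_g_rc_21_2 lc_g_rc_23_3 lc_g_Cert_tree lc_g_rc_23_1 lc_g_rc_21_3 lc_g_Cert_tree lc_g_rc_26_6 lc_g_rc_23_1 lc_g_rc_23_3 lc_g_rc_26_3) (@D3.rec (fun _ => (Cert rels S Gen.g)) lc_g_rc_24_7 lc_g_rc_21_2 lc_g_Cert_tree lc_g_rc_21_2 lc_g_rc_23_3 lc_g_Cert_tree lc_g_rc_21_2 lc_g_rc_21_2 lc_g_rc_21_2 lc_g_rc_21_3 lc_g_rc_24_1 lc_g_rc_27_3 lc_g_Cert_tree lc_g_rc_24_1 lc_g_rc_21_2 lc_g_rc_21_2 lc_g_rc_27_6 lc_g_rc_27_6 lc_g_rc_26_0 lc_g_rc_27_9 lc_g_Cert_tree lc_g_rc_24_7 lc_g_rc_21_2 lc_g_rc_27_3 lc_g_rc_23_3 lc_g_rc_21_2 lc_g_Cert_tree lc_g_rc_27_6 lc_g_rc_24_3 lc_g_rc_27_6 lc_g_rc_23_1 lc_g_rc_26_0 lc_g_rc_21_3 lc_g_rc_23_3 lc_g_rc_21_2 lc_g_rc_23_3 lc_g_rc_27_0 lc_g_rc_24_1 lc_g_rc_26_3 lc_g_rc_21_3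 lc_g_rc_27_3 lc_g_rc_21_2 lc_g_Cert_tree lc_g_rc_26_0 lc_g_rc_24_7 lc_g_rc_26_3 lc_g_rc_21_3 lc_g_rc_26_9 lc_g_rc_27_3 lc_g_rc_21_3 lc_g_rc_21_2 lc_g_rc_27_0 lc_g_rc_26_6 lc_g_rc_24_3 lc_g_rc_23_7 lc_g_rc_27_6 lc_g_rc_26_6 lc_g_rc_24_1 lc_g_rc_21_3 lc_g_Cert_tree lc_g_rc_21_3 lc_g_rc_23_3) (@D3.rec (fun _ => (Cert rels S Gen.g)) lc_g_rc_21_3 lc_g_rc_23_3 lc_g_rc_24_3 lc_g_rc_24_3 lc_g_rc_26_9 lc_g_rc_21_2 lc_g_rc_26_9 lc_g_Cert_tree lc_g_rc_24_1 lc_g_rc_23_3 lc_g_rc_23_3 lc_g_rc_21_2 lc_g_rc_21_2 lc_g_rc_23_7 lc_g_rc_21_2 lc_g_rc_23_7 lc_g_rc_27_6 lc_g_rc_26_0 lc_g_rc_26_3 lc_g_rc_27_3 lc_g_rc_21_2 lc_g_rc_21_2 lc_g_rc_21_2 lc_g_rc_21_2 lc_g_rc_25_19 lc_g_rc_21_3 lc_g_Cert_tree lc_g_Cert_tree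 lc_g_rc_24_3 lc_g_rc_25_15 lc_g_rc_24_3 lc_g_rc_23_7 lc_g_rc_26_6 lc_g_rc_23_9 lc_g_rc_23_3 lc_g_rc_23_3 lc_g_rc_26_3 lc_g_rc_21_3 lc_g_rc_21_2 lc_g_rc_26_6 lc_g_rc_21_2 lc_g_rc_26_9 lc_g_rc_23_3 lc_g_rc_23_3 lc_g_Cert_tree lc_g_rc_27_6 lc_g_rc_24_3 lc_g_Cert_tree lc_g_rc_27_3 lc_g_rc_24_3 lc_g_rc_24_1 lc_g_rc_26_3 lc_g_rc_21_2 lc_g_rc_21_3 lc_g_rc_21_2 lc_g_rc_23_1 lc_g_rc_26_6 lc_g_rc_21_3 lc_g_Cert_tree lc_g_rc_21_2 lc_g_rc_26_3 lc_g_Cert_tree) (@D3.rec (fun _ => (Cert rels S Gen.g)) lc_g_rc_23_1 lc_g_rc_24_3 lc_g_rc_26_3 lc_g_rc_24_3 lc_g_rc_27_0 lc_g_rc_23_7 lc_g_Cert_tree lc_g_rc_23_3 lc_g_rc_21_3 lc_g_rc_21_3 lc_g_rc_26_3 lc_g_rc_21_3 lc_g_rc_21_3 lc_g_rc_23_3 lc_g_Cert_tree lc_g_Cert_tree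 lc_g_rc_21_3 lc_g_Cert_tree lc_g_Cert_tree lc_g_rc_26_3 lc_g_rc_26_6 lc_g_rc_23_3 lc_g_rc_27_6 lc_g_rc_25_7 lc_g_rc_25_7 lc_g_rc_26_3 lc_g_Cert_tree lc_g_rc_27_9 lc_g_rc_21_3 lc_g_Cert_tree lc_g_rc_21_3 lc_g_rc_27_6 lc_g_rc_21_3 lc_g_rc_27_0 lc_g_rc_27_9 lc_g_rc_21_2 lc_g_rc_23_7 lc_g_rc_21_3 lc_g_rc_27_9 lc_g_rc_21_2 lc_g_rc_26_0 lc_g_rc_24_3 lc_g_rc_21_2 lc_g_rc_27_0 lc_g_Cert_tree lc_g_rc_26_6 lc_g_rc_21_2 lc_g_rc_21_2 lc_g_rc_24_3 lc_g_rc_27_9 lc_g_Cert_tree lc_g_rc_26_3 lc_g_Cert_tree lc_g_rc_26_3 lc_g_rc_26_6 lc_g_rc_23_1 lc_g_rc_27_3 lc_g_rc_26_9 lc_g_rc_21_2 lc_g_rc_21_3 lc_g_Cert_tree lc_g_rc_23_1) (@D3.rec (fun _ => (Cert rels S Gen.g)) lc_g_rc_27_3 lc_g_rc_21_3 lc_g_rc_26_6 lc_g_rc_21_2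 lc_g_rc_21_2 lc_g_rc_21_2 lc_g_Cert_tree lc_g_rc_27_3 lc_g_rc_25_3 lc_g_rc_27_3 lc_g_rc_21_3 lc_g_Cert_tree lc_g_rc_21_3 lc_g_Cert_tree lc_g_rc_23_1 lc_g_rc_23_1 lc_g_rc_27_9 lc_g_rc_26_6 lc_g_rc_23_7 lc_g_rc_23_1 lc_g_rc_21_2 lc_g_Cert_tree lc_g_rc_25_15 lc_g_Cert_tree lc_g_rc_25_15 lc_g_rc_21_3 lc_g_Cert_tree lc_g_rc_26_6 lc_g_rc_21_2 lc_g_rc_26_3 lc_g_rc_27_9 lc_g_rc_24_1 lc_g_rc_21_3 lc_g_Cert_tree lc_g_rc_24_9 lc_g_rc_27_3 lc_g_rc_26_6 lc_g_rc_23_7 lc_g_rc_26_6 lc_g_rc_21_3 lc_g_rc_23_7 lc_g_Cert_tree lc_g_rc_27_6 lc_g_rc_26_6 lc_g_rc_24_1 lc_g_rc_24_3 lc_g_rc_27_6 lc_g_Cert_tree lc_g_rc_27_3 lc_g_rc_23_3 lc_g_Cert_tree lc_g_rc_27_0 lc_g_Cert_tree lc_g_rc_26_3 lc_g_rc_27_9 lc_g_rc_23_9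 lc_g_Cert_tree lc_g_rc_26_6 lc_g_rc_26_6 lc_g_rc_27_3 lc_g_rc_21_2 lc_g_rc_21_2) (@D3.rec (fun _ => (Cert rels S Gen.g)) lc_g_rc_26_0 lc_g_rc_21_3 lc_g_rc_25_19 lc_g_rc_27_6 lc_g_rc_25_19 lc_g_rc_27_6 lc_g_Cert_tree lc_g_rc_21_3 lc_g_rc_21_3 lc_g_Cert_tree lc_g_rc_21_2 lc_g_rc_24_3 lc_g_rc_26_3 lc_g_rc_27_3 lc_g_Cert_tree lc_g_rc_24_1 lc_g_rc_21_2 lc_g_rc_24_9 lc_g_rc_21_2 lc_g_rc_21_3 lc_g_Cert_tree lc_g_rc_27_6 lc_g_rc_21_2 lc_g_Cert_tree lc_g_rc_25_19 lc_g_rc_24_7 lc_g_rc_21_2 lc_g_rc_24_7 lc_g_rc_23_9 lc_g_rc_24_1 lc_g_rc_21_2 lc_g_rc_26_6 lc_g_Cert_tree lc_g_rc_25_7 lc_g_rc_27_6 lc_g_rc_23_3 lc_g_rc_21_2 lc_g_rc_21_2 lc_g_rc_27_3 lc_g_rc_27_3 lc_g_rc_23_3 lc_g_Cert_tree lc_g_rc_24_1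 lc_g_rc_24_1 lc_g_rc_26_0 lc_g_rc_27_3 lc_g_rc_26_6 lc_g_rc_21_3 lc_g_rc_24_7 lc_g_rc_23_1 lc_g_rc_27_6 lc_g_rc_23_1 lc_g_Cert_tree lc_g_rc_21_3 lc_g_rc_21_2 lc_g_rc_23_3 lc_g_rc_23_7 lc_g_rc_27_6 lc_g_Cert_tree lc_g_rc_24_3 lc_g_rc_21_3 lc_g_rc_21_2) (@D3.rec (fun _ => (Cert rels S Gen.g)) lc_g_rc_21_3 lc_g_rc_27_3 lc_g_rc_23_7 lc_g_rc_21_3 lc_g_rc_21_3 lc_g_rc_21_3 lc_g_rc_21_2 lc_g_rc_24_9 lc_g_rc_27_3 lc_g_rc_21_2 lc_g_Cert_tree lc_g_Cert_tree lc_g_rc_23_1 lc_g_rc_23_9 lc_g_rc_21_2 lc_g_rc_21_3 lc_g_Cert_tree lc_g_rc_27_0 lc_g_rc_21_2 lc_g_Cert_tree lc_g_rc_21_2 lc_g_rc_21_3 lc_g_rc_21_3 lc_g_rc_27_3 lc_g_Cert_tree lc_g_rc_26_6 lc_g_rc_26_6 lc_g_rc_21_3 lc_g_Cert_tree lc_g_Cert_tree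 lc_g_rc_25_15 lc_g_rc_26_6 lc_g_rc_23_3 lc_g_rc_21_2 lc_g_Cert_tree lc_g_rc_21_3 lc_g_rc_26_6 lc_g_rc_27_6 lc_g_rc_26_3 lc_g_rc_23_3 lc_g_rc_25_3 lc_g_rc_24_3 lc_g_rc_21_3 lc_g_Cert_tree lc_g_rc_26_3 lc_g_Cert_tree lc_g_rc_24_7 lc_g_rc_27_6 lc_g_rc_23_1 lc_g_rc_24_7 lc_g_rc_24_3 lc_g_rc_24_7 lc_g_rc_23_3 lc_g_rc_24_3 lc_g_rc_21_2 lc_g_rc_21_3 lc_g_rc_23_3 lc_g_rc_24_1 lc_g_rc_24_3 lc_g_Cert_tree lc_g_rc_24_3 lc_g_rc_27_3) (@D3.rec (fun _ => (Cert rels S Gen.g)) lc_g_rc_21_2 lc_g_Cert_tree lc_g_rc_21_3 lc_g_rc_23_3 lc_g_rc_21_2 lc_g_rc_24_7 lc_g_rc_27_9 lc_g_rc_25_19 lc_g_rc_25_19 lc_g_Cert_tree lc_g_rc_21_3 lc_g_Cert_tree lc_g_Cert_tree lc_g_rc_23_3 lc_g_rc_21_2 lc_g_rc_26_0 lc_g_rc_26_9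 lc_g_Cert_tree lc_g_rc_27_6 lc_g_rc_21_2 lc_g_rc_21_3 lc_g_rc_24_3 lc_g_rc_23_3 lc_g_rc_26_6 lc_g_rc_27_6 lc_g_rc_27_6 lc_g_rc_21_3 lc_g_Cert_tree lc_g_rc_23_3 lc_g_rc_21_2 lc_g_rc_24_3 lc_g_rc_26_6 lc_g_rc_25_7 lc_g_rc_27_9 lc_g_rc_27_3 lc_g_Cert_tree lc_g_rc_23_1 lc_g_rc_27_6 lc_g_rc_27_9 lc_g_rc_23_3 lc_g_rc_27_3 lc_g_rc_21_2 lc_g_rc_24_9 lc_g_rc_27_6 lc_g_rc_27_3 lc_g_rc_21_3 lc_g_rc_23_7 lc_g_rc_23_7 lc_g_Cert_tree lc_g_rc_23_3 lc_g_rc_21_2 lc_g_rc_21_2 lc_g_rc_21_2 lc_g_rc_27_3 lc_g_rc_23_1 lc_g_rc_26_0 lc_g_rc_27_9 lc_g_rc_24_1 lc_g_Cert_tree lc_g_Cert_tree lc_g_rc_26_6 lc_g_rc_21_2) (@D3.rec (fun _ => (Cert rels S Gen.g)) lc_g_rc_23_3 lc_g_Cert_tree lc_g_Cert_tree lc_g_rc_24_3 lc_g_rc_25_15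 lc_g_rc_21_2 lc_g_rc_26_3 lc_g_rc_25_19 lc_g_rc_24_1 lc_g_rc_24_1 lc_g_Cert_tree lc_g_rc_21_3 lc_g_Cert_tree lc_g_rc_23_1 lc_g_rc_21_2 lc_g_rc_26_9 lc_g_rc_21_2 lc_g_rc_21_2 lc_g_rc_21_3 lc_g_rc_27_6 lc_g_rc_21_3 lc_g_rc_25_7 lc_g_rc_27_0 lc_g_rc_24_7 lc_g_rc_21_2 lc_g_rc_21_2 lc_g_rc_26_6 lc_g_rc_21_2 lc_g_Cert_tree lc_g_rc_27_6 lc_g_rc_27_3 lc_g_rc_21_3 lc_g_rc_26_3 lc_g_rc_21_2 lc_g_rc_21_3 lc_g_rc_26_3 lc_g_rc_27_3 lc_g_rc_21_2 lc_g_rc_21_2 lc_g_rc_26_6 lc_g_Cert_tree lc_g_rc_27_0 lc_g_rc_23_9 lc_g_rc_21_3 lc_g_Cert_tree lc_g_rc_21_2 lc_g_rc_27_0 lc_g_Cert_tree lc_g_rc_26_6 lc_g_rc_21_3 lc_g_rc_21_3 lc_g_rc_26_9 lc_g_rc_27_9 lc_g_rc_21_3 lc_g_Cert_tree lc_g_rc_21_2 lc_g_rc_26_0 lc_g_rc_24_7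 lc_g_rc_21_3 lc_g_rc_21_2 lc_g_rc_23_1 lc_g_rc_21_3) (@D3.rec (fun _ => (Cert rels S Gen.g)) lc_g_Cert_tree lc_g_rc_26_0 lc_g_rc_21_3 lc_g_rc_25_19 lc_g_rc_27_6 lc_g_rc_24_7 lc_g_rc_23_1 lc_g_rc_27_6 lc_g_rc_27_0 lc_g_rc_27_3 lc_g_rc_27_3 lc_g_rc_21_2 lc_g_rc_23_1 lc_g_rc_27_6 lc_g_Cert_tree lc_g_rc_21_2 lc_g_Cert_tree lc_g_rc_21_3 lc_g_rc_21_3 lc_g_rc_27_9 lc_g_rc_21_3 lc_g_rc_24_7 lc_g_rc_21_3 lc_g_rc_23_3 lc_g_rc_21_3 lc_g_rc_21_2 lc_g_rc_23_1 lc_g_rc_23_1 lc_g_rc_27_3 lc_g_rc_26_9 lc_g_rc_23_3 lc_g_rc_21_2 lc_g_rc_27_6 lc_g_Cert_tree lc_g_rc_23_7 lc_g_rc_25_7 lc_g_Cert_tree lc_g_rc_21_2 lc_g_rc_27_3 lc_g_rc_21_2 lc_g_rc_27_6 lc_g_rc_26_3 lc_g_rc_26_6 lc_g_rc_27_6 lc_g_rc_23_7 lc_g_rc_21_3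 lc_g_rc_26_6 lc_g_rc_23_1 lc_g_rc_21_3 lc_g_Cert_tree lc_g_rc_27_0 lc_g_rc_21_3 lc_g_rc_26_6 lc_g_rc_24_1 lc_g_rc_21_3 lc_g_rc_21_3 lc_g_rc_21_3 lc_g_rc_23_1 lc_g_rc_27_6 lc_g_rc_23_1 lc_g_rc_27_6 lc_g_rc_26_3) (@D3.rec (fun _ => (Cert rels S Gen.g)) lc_g_Cert_tree lc_g_rc_21_3 lc_g_rc_21_2 lc_g_rc_21_3 lc_g_Cert_tree lc_g_rc_24_3 lc_g_rc_21_2 lc_g_rc_27_0 lc_g_rc_26_6 lc_g_rc_24_9 lc_g_rc_24_7 lc_g_Cert_tree lc_g_rc_21_2 lc_g_rc_27_0 lc_g_rc_27_3 lc_g_rc_26_9 lc_g_rc_26_6 lc_g_Cert_tree lc_g_rc_27_6 lc_g_rc_21_2 lc_g_rc_27_3 lc_g_rc_24_9 lc_g_rc_21_3 lc_g_rc_27_3 lc_g_rc_23_1 lc_g_Cert_tree lc_g_rc_21_2 lc_g_rc_21_3 lc_g_rc_21_3 lc_g_Cert_tree lc_g_rc_25_3 lc_g_rc_23_7 lc_g_rc_27_3 lc_g_rc_27_0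 lc_g_rc_27_3 lc_g_rc_21_3 lc_g_rc_27_6 lc_g_rc_23_1 lc_g_rc_23_9 lc_g_rc_21_2 lc_g_rc_27_9 lc_g_rc_21_3 lc_g_rc_27_3 lc_g_Cert_tree lc_g_rc_23_3 lc_g_Cert_tree lc_g_rc_21_2 lc_g_rc_25_19 lc_g_rc_23_9 lc_g_rc_24_1 lc_g_Cert_tree lc_g_rc_26_3 lc_g_Cert_tree lc_g_rc_26_6 lc_g_rc_23_1 lc_g_Cert_tree lc_g_rc_21_2 lc_g_rc_26_3 lc_g_rc_26_3 lc_g_rc_26_0 lc_g_rc_26_6 lc_g_rc_21_3) (@D3.rec (fun _ => (Cert rels S Gen.g)) lc_g_Cert_tree lc_g_rc_21_3 lc_g_rc_21_3 lc_g_rc_21_3 lc_g_rc_27_6 lc_g_Cert_tree lc_g_Cert_tree lc_g_rc_26_0 lc_g_rc_25_15 lc_g_rc_25_11 lc_g_rc_27_0 lc_g_Cert_tree lc_g_Cert_tree lc_g_rc_21_2 lc_g_rc_27_6 lc_g_Cert_tree lc_g_rc_24_3 lc_g_Cert_tree lc_g_Cert_tree lc_g_rc_21_2 lc_g_rc_21_3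 lc_g_Cert_tree lc_g_rc_27_6 lc_g_Cert_tree lc_g_rc_24_3 lc_g_rc_21_2 lc_g_rc_24_1 lc_g_rc_21_3 lc_g_Cert_tree lc_g_rc_21_3 lc_g_rc_24_1 lc_g_rc_21_2 lc_g_rc_27_0 lc_g_Cert_tree lc_g_rc_21_3 lc_g_rc_26_6 lc_g_rc_21_3 lc_g_rc_27_6 lc_g_rc_21_2 lc_g_rc_26_6 lc_g_rc_21_3 lc_g_rc_26_9 lc_g_rc_21_2 lc_g_rc_27_3 lc_g_rc_24_7 lc_g_rc_26_6 lc_g_rc_21_3 lc_g_rc_27_6 lc_g_rc_23_9 lc_g_Cert_tree lc_g_Cert_tree lc_g_rc_26_9 lc_g_Cert_tree lc_g_rc_27_6 lc_g_rc_23_3 lc_g_rc_23_9 lc_g_rc_27_6 lc_g_rc_27_9 lc_g_rc_27_6 lc_g_rc_26_0 lc_g_rc_21_3 lc_g_rc_27_3) (@D3.rec (fun _ => (Cert rels S Gen.g)) lc_g_Cert_tree lc_g_rc_23_3 lc_g_rc_24_1 lc_g_Cert_tree lc_g_rc_23_3 lc_g_rc_26_0 lc_g_rc_27_9 lc_g_rc_26_3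 lc_g_rc_24_1 lc_g_rc_23_1 lc_g_rc_27_3 lc_g_Cert_tree lc_g_rc_26_6 lc_g_rc_27_6 lc_g_rc_21_3 lc_g_rc_26_9 lc_g_rc_23_7 lc_g_rc_24_1 lc_g_rc_27_6 lc_g_rc_21_3 lc_g_Cert_tree lc_g_rc_26_3 lc_g_rc_26_0 lc_g_Cert_tree lc_g_Cert_tree lc_g_rc_26_6 lc_g_rc_21_3 lc_g_Cert_tree lc_g_rc_21_2 lc_g_rc_26_0 lc_g_rc_21_2 lc_g_rc_21_3 lc_g_Cert_tree lc_g_rc_23_1 lc_g_Cert_tree lc_g_rc_21_3 lc_g_rc_23_7 lc_g_rc_25_7 lc_g_rc_21_2 lc_g_rc_24_7 lc_g_rc_25_19 lc_g_rc_24_1 lc_g_rc_21_3 lc_g_Cert_tree lc_g_rc_23_9 lc_g_rc_23_9 lc_g_rc_27_3 lc_g_rc_27_6 lc_g_rc_27_0 lc_g_rc_21_3 lc_g_rc_24_9 lc_g_rc_21_3 lc_g_Cert_tree lc_g_rc_23_3 lc_g_rc_23_1 lc_g_rc_23_9 lc_g_rc_24_3 lc_g_rc_27_6 lc_g_rc_27_3 lc_g_rc_23_1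 lc_g_Cert_tree lc_g_rc_21_3) (@D3.rec (fun _ => (Cert rels S Gen.g)) lc_g_rc_27_6 lc_g_Cert_tree lc_g_rc_26_6 lc_g_rc_26_6 lc_g_rc_23_9 lc_g_rc_27_6 lc_g_rc_23_3 lc_g_rc_26_9 lc_g_rc_26_3 lc_g_rc_26_6 lc_g_rc_21_3 lc_g_rc_21_2 lc_g_rc_21_2 lc_g_rc_21_3 lc_g_rc_24_7 lc_g_rc_27_0 lc_g_rc_23_3 lc_g_rc_21_3 lc_g_Cert_tree lc_g_rc_23_1 lc_g_rc_26_9 lc_g_rc_21_2 lc_g_rc_24_7 lc_g_rc_26_3 lc_g_rc_24_7 lc_g_rc_24_3 lc_g_rc_23_1 lc_g_rc_24_7 lc_g_rc_21_3 lc_g_rc_24_7 lc_g_rc_24_3 lc_g_rc_27_6 lc_g_rc_23_9 lc_g_rc_23_7 lc_g_rc_21_2 lc_g_rc_26_6 lc_g_rc_21_2 lc_g_rc_27_3 lc_g_rc_27_6 lc_g_rc_27_3 lc_g_rc_27_6 lc_g_rc_27_0 lc_g_rc_21_3 lc_g_rc_21_3 lc_g_rc_24_3 lc_g_rc_26_3 lc_g_rc_27_9 lc_g_rc_27_9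 lc_g_rc_23_3 lc_g_rc_21_3 lc_g_rc_23_3 lc_g_rc_26_3 lc_g_rc_21_2 lc_g_rc_27_9 lc_g_rc_26_6 lc_g_rc_24_1 lc_g_rc_26_3 lc_g_rc_27_6 lc_g_rc_27_9 lc_g_rc_27_0 lc_g_rc_26_0 lc_g_rc_23_7) (@D3.rec (fun _ => (Cert rels S Gen.g)) lc_g_rc_26_3 lc_g_rc_26_3 lc_g_rc_26_0 lc_g_rc_25_3 lc_g_rc_24_1 lc_g_Cert_tree lc_g_rc_23_1 lc_g_rc_27_0 lc_g_rc_23_3 lc_g_rc_26_0 lc_g_rc_23_3 lc_g_rc_26_3 lc_g_rc_27_6 lc_g_rc_21_3 lc_g_rc_23_7 lc_g_rc_25_3 lc_g_rc_21_2 lc_g_rc_21_2 lc_g_rc_27_9 lc_g_rc_26_6 lc_g_rc_21_3 lc_g_Cert_tree lc_g_rc_26_6 lc_g_Cert_tree lc_g_rc_21_3 lc_g_rc_23_7 lc_g_rc_25_19 lc_g_rc_26_9 lc_g_rc_27_0 lc_g_rc_24_3 lc_g_rc_27_6 lc_g_rc_26_6 lc_g_Cert_tree lc_g_rc_24_3 lc_g_rc_24_3 lc_g_rc_23_7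 lc_g_rc_21_2 lc_g_rc_23_7 lc_g_rc_23_7 lc_g_rc_27_3 lc_g_rc_26_6 lc_g_rc_23_3 lc_g_rc_25_3 lc_g_rc_23_1 lc_g_Cert_tree lc_g_rc_21_3 lc_g_rc_24_7 lc_g_rc_26_0 lc_g_rc_27_6 lc_g_rc_24_7 lc_g_rc_21_2 lc_g_rc_26_6 lc_g_rc_26_6 lc_g_rc_21_3 lc_g_rc_26_6 lc_g_rc_21_2 lc_g_Cert_tree lc_g_Cert_tree lc_g_rc_21_3 lc_g_Cert_tree lc_g_rc_21_2 lc_g_rc_21_3) (@D3.rec (fun _ => (Cert rels S Gen.g)) lc_g_rc_24_3 lc_g_rc_21_2 lc_g_rc_21_3 lc_g_rc_21_2 lc_g_rc_21_2 lc_g_rc_21_3 lc_g_rc_21_2 lc_g_rc_26_3 lc_g_rc_27_6 lc_g_rc_27_3 lc_g_rc_27_6 lc_g_rc_23_9 lc_g_rc_24_3 lc_g_Cert_tree lc_g_rc_26_0 lc_g_rc_21_3 lc_g_Cert_tree lc_g_rc_21_2 lc_g_rc_24_3 lc_g_rc_24_3 lc_g_Cert_tree lc_g_rc_21_2 lc_g_rc_24_3 lc_g_rc_26_3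 lc_g_rc_27_6 lc_g_rc_26_6 lc_g_rc_27_3 lc_g_rc_21_2 lc_g_rc_26_9 lc_g_rc_26_9 lc_g_rc_26_6 lc_g_rc_26_3 lc_g_rc_26_3 lc_g_rc_26_0 lc_g_rc_25_19 lc_g_rc_27_6 lc_g_rc_21_2 lc_g_rc_23_3 lc_g_rc_21_3 lc_g_Cert_tree lc_g_Cert_tree lc_g_rc_21_2 lc_g_rc_25_19 lc_g_rc_21_2 lc_g_rc_21_3 lc_g_rc_24_3 lc_g_rc_23_3 lc_g_rc_26_3 lc_g_rc_26_0 lc_g_rc_26_0 lc_g_rc_26_6 lc_g_rc_27_3 lc_g_rc_21_3 lc_g_rc_21_3 lc_g_rc_21_3 lc_g_Cert_tree lc_g_Cert_tree lc_g_rc_21_2 lc_g_rc_21_3 lc_g_rc_26_9 lc_g_rc_27_9 lc_g_rc_21_3) (@D3.rec (fun _ => (Cert rels S Gen.g)) lc_g_rc_25_19 lc_g_rc_26_3 lc_g_rc_21_3 lc_g_Cert_tree lc_g_rc_21_3 lc_g_rc_26_6 lc_g_rc_27_6 lc_g_rc_21_3 lc_g_rc_21_2 lc_g_rc_21_3 lc_g_Cert_tree lc_g_rc_21_2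 lc_g_rc_23_1 lc_g_rc_27_3 lc_g_rc_21_3 lc_g_rc_23_3 lc_g_rc_23_3 lc_g_rc_21_3 lc_g_Cert_tree lc_g_rc_21_2 lc_g_rc_26_0 lc_g_rc_26_9 lc_g_rc_27_9 lc_g_rc_27_9 lc_g_rc_26_9 lc_g_rc_21_3 lc_g_Cert_tree lc_g_rc_24_3 lc_g_rc_23_3 lc_g_rc_24_9 lc_g_rc_26_0 lc_g_rc_27_3 lc_g_rc_21_2 lc_g_rc_26_3 lc_g_rc_24_1 lc_g_rc_21_2 lc_g_rc_21_2 lc_g_rc_26_3 lc_g_Cert_tree lc_g_rc_27_6 lc_g_rc_24_3 lc_g_rc_27_6 lc_g_rc_23_7 lc_g_Cert_tree lc_g_rc_24_7 lc_g_rc_21_2 lc_g_rc_21_2 lc_g_rc_27_6 lc_g_rc_26_3 lc_g_rc_26_6 lc_g_rc_21_2 lc_g_rc_27_3 lc_g_rc_27_3 lc_g_rc_26_6 lc_g_Cert_tree lc_g_rc_25_19 lc_g_Cert_tree lc_g_rc_26_9 lc_g_rc_26_3 lc_g_rc_27_6 lc_g_rc_21_3 lc_g_rc_21_2) (@D3.rec (fun _ => (Cert rels S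 Gen.g)) lc_g_rc_26_9 lc_g_rc_24_1 lc_g_rc_26_9 lc_g_rc_27_0 lc_g_rc_24_1 lc_g_rc_21_3 lc_g_Cert_tree lc_g_rc_26_6 lc_g_rc_21_2 lc_g_rc_24_9 lc_g_rc_27_6 lc_g_rc_23_3 lc_g_rc_24_7 lc_g_Cert_tree lc_g_Cert_tree lc_g_rc_27_6 lc_g_rc_21_3 lc_g_rc_27_6 lc_g_rc_27_3 lc_g_rc_26_6 lc_g_rc_21_3 lc_g_rc_26_6 lc_g_rc_26_6 lc_g_rc_27_6 lc_g_rc_21_3 lc_g_Cert_tree lc_g_rc_21_2 lc_g_rc_26_9 lc_g_rc_27_3 lc_g_rc_23_7 lc_g_rc_21_3 lc_g_rc_26_3 lc_g_rc_21_3 lc_g_rc_26_6 lc_g_rc_26_0 lc_g_rc_23_9 lc_g_Cert_tree lc_g_rc_24_3 lc_g_rc_26_6 lc_g_rc_25_15 lc_g_rc_24_1 lc_g_rc_27_0 lc_g_rc_27_6 lc_g_rc_21_3 lc_g_Cert_tree lc_g_rc_26_6 lc_g_rc_21_2 lc_g_rc_24_3 lc_g_rc_21_2 lc_g_rc_23_9 lc_g_rc_21_3 lc_g_Cert_tree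 lc_g_rc_21_2 lc_g_rc_21_2 lc_g_Cert_tree lc_g_rc_21_3 lc_g_Cert_tree lc_g_Cert_tree lc_g_rc_21_2 lc_g_rc_24_1 lc_g_rc_26_0 lc_g_rc_23_3) (@D3.rec (fun _ => (Cert rels S Gen.g)) lc_g_Cert_tree lc_g_Cert_tree lc_g_rc_27_0 lc_g_rc_27_0 lc_g_Cert_tree lc_g_rc_26_3 lc_g_rc_21_2 lc_g_rc_27_6 lc_g_rc_26_0 lc_g_rc_21_3 lc_g_rc_23_1 lc_g_rc_27_3 lc_g_rc_26_0 lc_g_rc_26_9 lc_g_rc_27_6 lc_g_rc_21_3 lc_g_rc_21_3 lc_g_Cert_tree lc_g_rc_27_6 lc_g_rc_21_2 lc_g_rc_27_0 lc_g_rc_24_9 lc_g_Cert_tree lc_g_rc_27_3 lc_g_rc_21_2 lc_g_rc_27_6 lc_g_rc_23_1 lc_g_rc_21_2 lc_g_rc_26_0 lc_g_rc_24_3 lc_g_rc_24_3 lc_g_rc_23_9 lc_g_Cert_tree lc_g_rc_27_0 lc_g_rc_26_6 lc_g_rc_27_6 lc_g_rc_27_6 lc_g_Cert_tree lc_g_rc_21_2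 lc_g_rc_23_1 lc_g_rc_21_2 lc_g_rc_23_1 lc_g_rc_24_9 lc_g_rc_23_1 lc_g_rc_21_3 lc_g_Cert_tree lc_g_rc_24_7 lc_g_rc_25_15 lc_g_rc_24_3 lc_g_rc_25_19 lc_g_rc_27_6 lc_g_rc_26_6 lc_g_Cert_tree lc_g_rc_26_6 lc_g_rc_21_2 lc_g_rc_25_7 lc_g_rc_23_1 lc_g_rc_26_6 lc_g_rc_21_2 lc_g_rc_23_7 lc_g_rc_24_7 lc_g_Cert_tree) (@D3.rec (fun _ => (Cert rels S Gen.g)) lc_g_rc_26_9 lc_g_rc_26_9 lc_g_rc_21_3 lc_g_rc_27_6 lc_g_rc_24_7 lc_g_rc_27_6 lc_g_rc_27_6 lc_g_rc_24_3 lc_g_rc_23_7 lc_g_rc_27_9 lc_g_rc_23_9 lc_g_rc_24_1 lc_g_rc_21_3 lc_g_rc_21_2 lc_g_rc_26_3 lc_g_rc_21_2 lc_g_rc_27_6 lc_g_rc_23_1 lc_g_rc_24_3 lc_g_rc_24_3 lc_g_rc_21_3 lc_g_Cert_tree lc_g_rc_26_0 lc_g_rc_21_2 lc_g_rc_27_0 lc_g_rc_21_3 lc_g_rc_21_2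 lc_g_rc_26_6 lc_g_rc_27_3 lc_g_rc_27_6 lc_g_rc_26_0 lc_g_rc_27_3 lc_g_rc_27_0 lc_g_rc_26_6 lc_g_rc_21_3 lc_g_Cert_tree lc_g_Cert_tree lc_g_rc_26_9 lc_g_rc_21_3 lc_g_rc_26_0 lc_g_rc_26_0 lc_g_rc_21_3 lc_g_rc_23_3 lc_g_rc_24_3 lc_g_rc_21_3 lc_g_rc_21_2 lc_g_rc_25_11 lc_g_rc_23_1 lc_g_rc_27_6 lc_g_rc_23_3 lc_g_rc_26_3 lc_g_rc_27_3 lc_g_Cert_tree lc_g_rc_24_3 lc_g_rc_27_3 lc_g_rc_27_6 lc_g_rc_24_7 lc_g_rc_26_6 lc_g_rc_24_7 lc_g_rc_24_7 lc_g_rc_26_3 lc_g_rc_21_2) (@D3.rec (fun _ => (Cert rels S Gen.g)) lc_g_Cert_tree lc_g_rc_23_7 lc_g_rc_26_6 lc_g_rc_23_3 lc_g_rc_21_3 lc_g_rc_26_0 lc_g_rc_21_3 lc_g_Cert_tree lc_g_rc_21_2 lc_g_rc_23_9 lc_g_rc_26_9 lc_g_rc_21_2 lc_g_rc_21_3 lc_g_rc_27_0 lc_g_Cert_tree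 lc_g_rc_23_1 lc_g_rc_24_3 lc_g_rc_23_1 lc_g_rc_27_3 lc_g_rc_21_3 lc_g_rc_24_1 lc_g_Cert_tree lc_g_rc_21_3 lc_g_rc_27_6 lc_g_rc_21_2 lc_g_rc_24_7 lc_g_rc_21_3 lc_g_rc_27_6 lc_g_rc_23_7 lc_g_rc_23_9 lc_g_rc_27_6 lc_g_rc_23_1 lc_g_rc_24_3 lc_g_rc_27_9 lc_g_Cert_tree lc_g_rc_24_3 lc_g_rc_26_0 lc_g_rc_27_9 lc_g_rc_25_3 lc_g_rc_27_3 lc_g_rc_21_3 lc_g_Cert_tree lc_g_rc_21_3 lc_g_rc_24_1 lc_g_rc_21_3 lc_g_rc_27_3 lc_g_rc_26_6 lc_g_rc_24_3 lc_g_rc_27_3 lc_g_rc_24_7 lc_g_rc_23_1 lc_g_rc_27_9 lc_g_rc_24_7 lc_g_rc_27_3 lc_g_rc_24_7 lc_g_rc_27_0 lc_g_rc_24_1 lc_g_rc_26_0 lc_g_rc_23_3 lc_g_rc_27_6 lc_g_rc_21_2 lc_g_Cert_tree) (@D3.rec (fun _ => (Cert rels S Gen.g)) lc_g_rc_21_3 lc_g_rc_26_6 lc_g_Cert_tree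 lc_g_rc_21_2 lc_g_rc_27_3 lc_g_rc_26_3 lc_g_Cert_tree lc_g_rc_27_0 lc_g_rc_26_6 lc_g_rc_21_3 lc_g_rc_21_2 lc_g_rc_25_3 lc_g_rc_27_0 lc_g_rc_24_7 lc_g_rc_21_2 lc_g_rc_27_0 lc_g_rc_21_3 lc_g_rc_26_3 lc_g_rc_21_2 lc_g_rc_27_9 lc_g_rc_27_6 lc_g_rc_26_0 lc_g_Cert_tree lc_g_Cert_tree lc_g_rc_27_9 lc_g_rc_27_9 lc_g_rc_27_6 lc_g_rc_21_2 lc_g_rc_26_0 lc_g_rc_21_2 lc_g_Cert_tree lc_g_rc_21_2 lc_g_rc_27_3 lc_g_rc_23_7 lc_g_rc_24_3 lc_g_rc_26_6 lc_g_rc_21_2 lc_g_rc_27_6 lc_g_rc_21_2 lc_g_rc_21_3 lc_g_Cert_tree lc_g_rc_26_6 lc_g_rc_21_3 lc_g_rc_24_1 lc_g_rc_26_0 lc_g_rc_23_1 lc_g_rc_21_2 lc_g_rc_27_6 lc_g_rc_21_2 lc_g_rc_24_9 lc_g_rc_26_3 lc_g_rc_21_3 lc_g_rc_21_2 lc_g_rc_27_3 lc_g_rc_26_6 lc_g_rc_21_3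 lc_g_rc_26_0 lc_g_Cert_tree lc_g_rc_21_3 lc_g_rc_26_0 lc_g_rc_27_6 lc_g_rc_24_3) (@D3.rec (fun _ => (Cert rels S Gen.g)) lc_g_rc_23_7 lc_g_rc_23_3 lc_g_rc_27_6 lc_g_rc_27_9 lc_g_rc_27_6 lc_g_rc_21_3 lc_g_rc_23_1 lc_g_rc_21_2 lc_g_rc_26_6 lc_g_Cert_tree lc_g_Cert_tree lc_g_rc_25_3 lc_g_rc_27_3 lc_g_rc_21_3 lc_g_Cert_tree lc_g_rc_21_3 lc_g_Cert_tree lc_g_rc_21_2 lc_g_rc_27_9 lc_g_rc_26_9 lc_g_rc_26_3 lc_g_rc_24_9 lc_g_rc_21_3 lc_g_rc_26_0 lc_g_rc_26_0 lc_g_rc_26_0 lc_g_rc_21_2 lc_g_rc_21_2 lc_g_rc_24_3 lc_g_rc_26_3 lc_g_rc_26_6 lc_g_rc_26_0 lc_g_rc_21_2 lc_g_rc_21_3 lc_g_Cert_tree lc_g_rc_26_3 lc_g_rc_23_1 lc_g_rc_26_6 lc_g_rc_21_2 lc_g_rc_21_3 lc_g_rc_21_2 lc_g_rc_21_2 lc_g_rc_21_2 lc_g_rc_27_0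 lc_g_rc_24_3 lc_g_rc_26_6 lc_g_rc_21_2 lc_g_rc_24_9 lc_g_rc_27_3 lc_g_rc_27_3 lc_g_rc_26_6 lc_g_rc_26_3 lc_g_rc_27_6 lc_g_rc_21_3 lc_g_rc_23_3 lc_g_rc_27_9 lc_g_rc_24_9 lc_g_rc_21_2 lc_g_rc_26_0 lc_g_rc_21_2 lc_g_rc_26_3 lc_g_Cert_tree) (@D3.rec (fun _ => (Cert rels S Gen.g)) lc_g_rc_21_3 lc_g_rc_23_3 lc_g_rc_23_3 lc_g_rc_27_3 lc_g_rc_25_3 lc_g_rc_27_0 lc_g_Cert_tree lc_g_rc_27_3 lc_g_rc_23_1 lc_g_rc_23_3 lc_g_rc_26_9 lc_g_rc_27_6 lc_g_rc_27_6 lc_g_rc_25_19 lc_g_rc_21_2 lc_g_rc_26_6 lc_g_rc_27_6 lc_g_rc_21_3 lc_g_Cert_tree lc_g_rc_21_2 lc_g_rc_27_0 lc_g_rc_24_1 lc_g_rc_23_3 lc_g_rc_24_3 lc_g_rc_21_3 lc_g_rc_27_6 lc_g_rc_23_7 lc_g_rc_21_3 lc_g_rc_24_3 lc_g_rc_26_6 lc_g_rc_24_3 lc_g_rc_23_7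 lc_g_rc_25_19 lc_g_rc_27_3 lc_g_rc_23_7 lc_g_rc_21_3 lc_g_rc_23_1 lc_g_rc_24_3 lc_g_rc_21_2 lc_g_rc_21_2 lc_g_rc_23_9 lc_g_rc_23_3 lc_g_rc_23_3 lc_g_rc_21_2 lc_g_rc_25_3 lc_g_rc_21_3 lc_g_Cert_tree lc_g_rc_21_3 lc_g_Cert_tree lc_g_rc_21_2 lc_g_rc_27_0 lc_g_rc_26_3 lc_g_rc_21_2 lc_g_rc_26_6 lc_g_rc_21_2 lc_g_rc_23_3 lc_g_rc_21_2 lc_g_Cert_tree lc_g_rc_26_3 lc_g_rc_21_3 lc_g_Cert_tree lc_g_rc_21_2) (@D3.rec (fun _ => (Cert rels S Gen.g)) lc_g_rc_27_3 lc_g_rc_24_3 lc_g_Cert_tree lc_g_rc_26_3 lc_g_Cert_tree lc_g_rc_27_9 lc_g_Cert_tree lc_g_rc_27_6 lc_g_rc_26_0 lc_g_rc_26_9 lc_g_rc_23_1 lc_g_rc_26_3 lc_g_rc_26_0 lc_g_rc_24_7 lc_g_rc_21_2 lc_g_rc_24_7 lc_g_rc_26_6 lc_g_rc_27_0 lc_g_Cert_tree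 lc_g_rc_21_2 lc_g_rc_21_3 lc_g_Cert_tree lc_g_rc_23_3 lc_g_rc_21_3 lc_g_rc_24_7 lc_g_rc_27_0 lc_g_rc_21_3 lc_g_Cert_tree lc_g_rc_26_3 lc_g_rc_27_9 lc_g_Cert_tree lc_g_rc_27_6 lc_g_rc_27_9 lc_g_rc_27_6 lc_g_rc_23_7 lc_g_rc_24_7 lc_g_rc_24_3 lc_g_rc_27_3 lc_g_rc_23_7 lc_g_rc_23_1 lc_g_Cert_tree lc_g_rc_21_2 lc_g_rc_26_0 lc_g_rc_27_0 lc_g_rc_25_15 lc_g_rc_23_3 lc_g_Cert_tree lc_g_rc_26_3 lc_g_rc_26_9 lc_g_rc_26_6 lc_g_rc_24_3 lc_g_rc_26_3 lc_g_Cert_tree lc_g_rc_27_6 lc_g_rc_21_3 lc_g_rc_27_6 lc_g_rc_27_3 lc_g_rc_27_9 lc_g_rc_21_2 lc_g_rc_21_2 lc_g_rc_21_3 lc_g_Cert_tree) (@D3.rec (fun _ => (Cert rels S Gen.g)) lc_g_rc_21_2 lc_g_rc_25_7 lc_g_Cert_tree lc_g_rc_21_2 lc_g_rc_21_2 lc_g_rc_26_3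 lc_g_rc_27_0 lc_g_rc_27_0 lc_g_rc_24_3 lc_g_rc_21_2 lc_g_rc_23_7 lc_g_rc_21_2 lc_g_rc_21_2 lc_g_rc_21_3 lc_g_Cert_tree lc_g_rc_23_9 lc_g_rc_21_2 lc_g_Cert_tree lc_g_rc_26_0 lc_g_rc_27_9 lc_g_Cert_tree lc_g_Cert_tree lc_g_rc_27_6 lc_g_rc_21_2 lc_g_rc_27_6 lc_g_Cert_tree lc_g_rc_21_2 lc_g_rc_23_3 lc_g_rc_26_6 lc_g_rc_23_9 lc_g_rc_24_7 lc_g_rc_26_3 lc_g_rc_25_3 lc_g_rc_27_0 lc_g_rc_27_6 lc_g_rc_21_3 lc_g_rc_26_9 lc_g_rc_24_1 lc_g_rc_21_2 lc_g_Cert_tree lc_g_rc_25_19 lc_g_rc_27_6 lc_g_rc_27_6 lc_g_rc_21_2 lc_g_rc_21_3 lc_g_Cert_tree lc_g_rc_23_1 lc_g_rc_21_2 lc_g_rc_26_9 lc_g_rc_21_3 lc_g_Cert_tree lc_g_rc_27_6 lc_g_rc_21_2 lc_g_rc_21_2 lc_g_rc_21_3 lc_g_rc_26_3 lc_g_rc_21_2 lc_g_rc_27_9 lc_g_rc_21_2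 lc_g_rc_23_3 lc_g_rc_23_3 lc_g_rc_23_7) (@D3.rec (fun _ => (Cert rels S Gen.g)) lc_g_rc_21_2 lc_g_rc_26_6 lc_g_rc_23_3 lc_g_rc_23_1 lc_g_rc_26_6 lc_g_rc_24_1 lc_g_rc_21_3 lc_g_rc_23_1 lc_g_rc_24_3 lc_g_rc_21_3 lc_g_rc_24_7 lc_g_rc_26_0 lc_g_rc_24_3 lc_g_Cert_tree lc_g_rc_24_7 lc_g_Cert_tree lc_g_rc_23_7 lc_g_rc_21_2 lc_g_rc_26_0 lc_g_rc_21_3 lc_g_rc_21_3 lc_g_rc_24_3 lc_g_rc_21_2 lc_g_rc_21_3 lc_g_Cert_tree lc_g_rc_21_2 lc_g_rc_23_1 lc_g_rc_27_6 lc_g_rc_26_6 lc_g_rc_27_0 lc_g_rc_27_6 lc_g_rc_21_3 lc_g_rc_26_3 lc_g_rc_26_6 lc_g_rc_27_3 lc_g_rc_26_0 lc_g_rc_27_6 lc_g_rc_24_1 lc_g_rc_21_3 lc_g_Cert_tree lc_g_rc_27_0 lc_g_rc_27_6 lc_g_rc_24_3 lc_g_rc_23_3 lc_g_Cert_tree lc_g_rc_21_2 lc_g_rc_26_6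 lc_g_rc_23_3 lc_g_rc_27_6 lc_g_Cert_tree lc_g_rc_21_3 lc_g_rc_24_7 lc_g_rc_21_3 lc_g_rc_23_7 lc_g_rc_23_3 lc_g_rc_26_3 lc_g_rc_21_3 lc_g_rc_21_2 lc_g_rc_21_2 lc_g_Cert_tree lc_g_rc_27_6 lc_g_rc_21_2) (@D3.rec (fun _ => (Cert rels S Gen.g)) lc_g_rc_27_6 lc_g_rc_24_9 lc_g_rc_24_7 lc_g_rc_21_3 lc_g_rc_23_7 lc_g_rc_21_3 lc_g_rc_23_7 lc_g_rc_21_3 lc_g_rc_24_9 lc_g_rc_24_3 lc_g_rc_27_3 lc_g_rc_21_2 lc_g_rc_23_3 lc_g_rc_23_7 lc_g_rc_23_3 lc_g_rc_27_6 lc_g_rc_23_7 lc_g_Cert_tree lc_g_rc_21_3 lc_g_rc_26_6 lc_g_Cert_tree lc_g_rc_27_6 lc_g_rc_26_6 lc_g_rc_27_6 lc_g_rc_26_0 lc_g_rc_23_3 lc_g_rc_27_6 lc_g_rc_27_6 lc_g_rc_21_3 lc_g_Cert_tree lc_g_rc_21_2 lc_g_rc_21_3 lc_g_rc_21_2 lc_g_rc_21_2 lc_g_rc_21_2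 lc_g_Cert_tree lc_g_rc_26_6 lc_g_rc_21_3 lc_g_rc_27_3 lc_g_rc_21_2 lc_g_rc_26_9 lc_g_rc_27_9 lc_g_rc_21_2 lc_g_rc_21_3 lc_g_Cert_tree lc_g_rc_26_0 lc_g_rc_24_1 lc_g_rc_21_2 lc_g_rc_21_3 lc_g_rc_21_2 lc_g_rc_27_3 lc_g_rc_24_3 lc_g_rc_27_6 lc_g_rc_24_7 lc_g_rc_24_3 lc_g_rc_26_6 lc_g_rc_21_3 lc_g_Cert_tree lc_g_rc_21_3 lc_g_rc_21_3 lc_g_Cert_tree lc_g_rc_26_0) (@D3.rec (fun _ => (Cert rels S Gen.g)) lc_g_rc_21_2 lc_g_rc_21_2 lc_g_rc_21_2 lc_g_rc_21_2 lc_g_rc_27_9 lc_g_rc_21_3 lc_g_rc_23_9 lc_g_rc_21_3 lc_g_rc_24_1 lc_g_rc_25_3 lc_g_rc_23_9 lc_g_rc_24_3 lc_g_rc_24_1 lc_g_Cert_tree lc_g_rc_21_2 lc_g_rc_26_6 lc_g_rc_23_3 lc_g_Cert_tree lc_g_rc_27_6 lc_g_rc_24_1 lc_g_rc_25_11 lc_g_rc_24_3 lc_g_rc_26_0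 lc_g_rc_25_19 lc_g_rc_23_9 lc_g_rc_24_1 lc_g_rc_21_2 lc_g_rc_24_3 lc_g_rc_21_3 lc_g_Cert_tree lc_g_rc_26_3 lc_g_rc_24_3 lc_g_rc_21_2 lc_g_rc_21_2 lc_g_rc_21_2 lc_g_rc_21_2 lc_g_rc_21_3 lc_g_rc_26_6 lc_g_rc_23_9 lc_g_Cert_tree lc_g_Cert_tree lc_g_Cert_tree lc_g_rc_27_3 lc_g_rc_27_3 lc_g_rc_27_6 lc_g_Cert_tree lc_g_rc_21_3 lc_g_Cert_tree lc_g_rc_21_2 lc_g_rc_27_3 lc_g_rc_27_3 lc_g_rc_27_3 lc_g_rc_21_3 lc_g_rc_21_2 lc_g_rc_21_3 lc_g_rc_21_3 lc_g_Cert_tree lc_g_rc_21_2 lc_g_rc_26_6 lc_g_rc_23_9 lc_g_rc_24_1 lc_g_rc_21_2) (@D3.rec (fun _ => (Cert rels S Gen.g)) lc_g_rc_21_2 lc_g_rc_26_9 lc_g_rc_21_3 lc_g_rc_21_2 lc_g_Cert_tree lc_g_Cert_tree lc_g_rc_21_3 lc_g_Cert_tree lc_g_rc_27_9 lc_g_rc_24_3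 lc_g_Cert_tree lc_g_rc_21_2 lc_g_rc_23_7 lc_g_rc_21_3 lc_g_rc_27_0 lc_g_Cert_tree lc_g_rc_21_2 lc_g_Cert_tree lc_g_rc_27_6 lc_g_rc_27_3 lc_g_rc_26_6 lc_g_rc_23_3 lc_g_rc_21_3 lc_g_rc_24_1 lc_g_rc_27_3 lc_g_rc_21_3 lc_g_Cert_tree lc_g_rc_27_3 lc_g_rc_27_6 lc_g_rc_21_3 lc_g_Cert_tree lc_g_rc_21_2 lc_g_rc_26_0 lc_g_rc_26_6 lc_g_rc_27_6 lc_g_rc_26_9 lc_g_rc_27_9 lc_g_rc_23_3 lc_g_Cert_tree lc_g_rc_21_3 lc_g_rc_26_6 lc_g_rc_23_3 lc_g_rc_21_3 lc_g_rc_21_3 lc_g_rc_27_6 lc_g_rc_24_1 lc_g_rc_26_3 lc_g_rc_21_2 lc_g_rc_21_3 lc_g_Cert_tree lc_g_rc_23_9 lc_g_rc_21_2 lc_g_rc_26_3 lc_g_rc_27_6 lc_g_rc_21_3 lc_g_rc_21_2 lc_g_rc_23_3 lc_g_rc_24_3 lc_g_rc_24_3 lc_g_rc_21_2 lc_g_Cert_tree lc_g_rc_24_7) (@D3.rec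 (fun _ => (Cert rels S Gen.g)) lc_g_rc_24_7 lc_g_rc_21_2 lc_g_rc_21_3 lc_g_Cert_tree lc_g_rc_24_3 lc_g_rc_21_2 lc_g_rc_26_6 lc_g_rc_27_0 lc_g_rc_26_3 lc_g_rc_24_3 lc_g_rc_24_7 lc_g_rc_24_1 lc_g_rc_27_6 lc_g_rc_24_3 lc_g_rc_26_0 lc_g_rc_24_9 lc_g_rc_23_3 lc_g_rc_23_7 lc_g_rc_26_6 lc_g_rc_23_7 lc_g_rc_24_3 lc_g_Cert_tree lc_g_rc_24_9 lc_g_rc_21_3 lc_g_rc_21_2 lc_g_rc_26_3 lc_g_rc_26_9 lc_g_rc_26_6 lc_g_rc_25_19 lc_g_rc_24_1 lc_g_rc_24_3 lc_g_rc_27_3 lc_g_rc_21_2 lc_g_rc_21_2 lc_g_rc_24_3 lc_g_rc_27_6 lc_g_rc_21_3 lc_g_Cert_tree lc_g_rc_21_2 lc_g_rc_26_0 lc_g_rc_27_6 lc_g_rc_21_3 lc_g_Cert_tree lc_g_rc_24_1 lc_g_rc_24_9 lc_g_rc_26_3 lc_g_rc_26_6 lc_g_rc_25_3 lc_g_rc_27_6 lc_g_Cert_tree lc_g_rc_26_3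 lc_g_rc_23_3 lc_g_Cert_tree lc_g_rc_21_3 lc_g_rc_26_6 lc_g_Cert_tree lc_g_rc_27_9 lc_g_rc_24_9 lc_g_rc_26_6 lc_g_rc_27_0 lc_g_rc_27_0 lc_g_rc_21_3)
def ce_g_30 : D2 → D3 → (Cert rels S Gen.g) := @D2.rec (fun _ => D3 → (Cert rels S Gen.g)) (@D3.rec (fun _ => (Cert rels S Gen.g)) lc_g_rc_26_6 lc_g_rc_26_9 lc_g_Cert_tree lc_g_rc_24_3 lc_g_rc_21_3 lc_g_rc_26_3 lc_g_rc_21_3 lc_g_Cert_tree lc_g_rc_27_9 lc_g_rc_26_0 lc_g_Cert_tree lc_g_rc_27_0 lc_g_rc_25_7 lc_g_rc_26_9 lc_g_rc_26_6 lc_g_rc_27_6 lc_g_rc_24_3 lc_g_Cert_tree lc_g_rc_26_9 lc_g_rc_26_0 lc_g_rc_21_2 lc_g_rc_21_2 lc_g_rc_21_2 lc_g_rc_21_3 lc_g_rc_21_2 lc_g_rc_24_3 lc_g_rc_21_3 lc_g_rc_26_0 lc_g_Cert_tree lc_g_rc_23_9 lc_g_rc_23_9 lc_g_rc_26_0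 lc_g_rc_24_1 lc_g_Cert_tree lc_g_rc_23_3 lc_g_rc_23_1 lc_g_rc_23_3 lc_g_rc_23_7 lc_g_rc_21_3 lc_g_Cert_tree lc_g_rc_27_0 lc_g_rc_24_1 lc_g_rc_21_3 lc_g_Cert_tree lc_g_Cert_tree lc_g_rc_21_2 lc_g_rc_24_7 lc_g_rc_24_7 lc_g_rc_27_6 lc_g_rc_23_9 lc_g_rc_27_9 lc_g_rc_24_1 lc_g_rc_26_9 lc_g_rc_21_2 lc_g_rc_21_2 lc_g_rc_27_3 lc_g_rc_26_3 lc_g_rc_21_3 lc_g_Cert_tree lc_g_rc_21_2 lc_g_rc_21_3 lc_g_Cert_tree) (@D3.rec (fun _ => (Cert rels S Gen.g)) lc_g_rc_27_6 lc_g_rc_25_19 lc_g_rc_27_9 lc_g_rc_21_3 lc_g_rc_27_3 lc_g_rc_26_0 lc_g_rc_21_2 lc_g_rc_26_6 lc_g_rc_26_3 lc_g_rc_27_6 lc_g_Cert_tree lc_g_rc_27_6 lc_g_rc_27_6 lc_g_rc_26_6 lc_g_rc_21_2 lc_g_rc_21_3 lc_g_rc_21_3 lc_g_Cert_tree lc_g_rc_27_6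 lc_g_rc_26_6 lc_g_rc_24_7 lc_g_rc_21_3 lc_g_rc_27_6 lc_g_rc_21_3 lc_g_rc_24_9 lc_g_Cert_tree lc_g_rc_24_3 lc_g_rc_26_9 lc_g_rc_26_9 lc_g_rc_21_2 lc_g_rc_21_3 lc_g_rc_24_3 lc_g_rc_24_1 lc_g_rc_21_2 lc_g_rc_21_2 lc_g_rc_21_2 lc_g_rc_21_2 lc_g_rc_26_3 lc_g_rc_21_3 lc_g_rc_21_2 lc_g_rc_26_3 lc_g_rc_26_9 lc_g_rc_27_3 lc_g_rc_27_3 lc_g_rc_26_6 lc_g_Cert_tree lc_g_rc_26_0 lc_g_rc_21_3 lc_g_rc_26_0 lc_g_rc_24_3 lc_g_rc_26_9 lc_g_rc_21_3 lc_g_rc_21_2 lc_g_rc_21_3 lc_g_rc_26_6 lc_g_rc_27_9 lc_g_rc_23_3 lc_g_rc_26_9 lc_g_rc_21_3 lc_g_rc_26_0 lc_g_rc_23_1 lc_g_Cert_tree) (@D3.rec (fun _ => (Cert rels S Gen.g)) lc_g_rc_21_3 lc_g_rc_27_6 lc_g_rc_23_1 lc_g_rc_27_6 lc_g_rc_23_7 lc_g_rc_27_6 lc_g_rc_21_3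 lc_g_rc_24_1 lc_g_rc_21_2 lc_g_rc_21_2 lc_g_rc_26_3 lc_g_rc_26_6 lc_g_rc_24_7 lc_g_rc_27_6 lc_g_rc_23_1 lc_g_rc_24_7 lc_g_rc_23_3 lc_g_Cert_tree lc_g_rc_23_3 lc_g_rc_21_2 lc_g_rc_21_2 lc_g_rc_26_9 lc_g_rc_23_1 lc_g_rc_24_3 lc_g_rc_26_0 lc_g_Cert_tree lc_g_rc_25_3 lc_g_rc_27_9 lc_g_rc_27_0 lc_g_rc_27_6 lc_g_rc_27_6 lc_g_rc_26_9 lc_g_rc_24_3 lc_g_rc_21_2 lc_g_Cert_tree lc_g_rc_27_6 lc_g_rc_27_9 lc_g_rc_27_3 lc_g_rc_27_9 lc_g_rc_27_3 lc_g_rc_21_2 lc_g_rc_25_3 lc_g_rc_23_9 lc_g_rc_27_6 lc_g_rc_24_3 lc_g_rc_24_1 lc_g_rc_27_3 lc_g_Cert_tree lc_g_rc_23_1 lc_g_Cert_tree lc_g_rc_23_1 lc_g_rc_21_2 lc_g_Cert_tree lc_g_Cert_tree lc_g_rc_23_9 lc_g_rc_23_7 lc_g_rc_23_3 lc_g_rc_25_3 lc_g_Cert_tree lc_g_rc_23_7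 lc_g_rc_27_3 lc_g_rc_21_2) (@D3.rec (fun _ => (Cert rels S Gen.g)) lc_g_rc_26_6 lc_g_rc_21_2 lc_g_rc_23_1 lc_g_rc_24_1 lc_g_rc_24_7 lc_g_rc_24_3 lc_g_rc_21_2 lc_g_Cert_tree lc_g_rc_21_2 lc_g_rc_26_0 lc_g_rc_21_2 lc_g_rc_21_2 lc_g_rc_24_3 lc_g_rc_26_6 lc_g_rc_21_3 lc_g_rc_24_1 lc_g_rc_27_9 lc_g_rc_21_2 lc_g_rc_23_1 lc_g_rc_27_6 lc_g_Cert_tree lc_g_rc_23_3 lc_g_rc_23_9 lc_g_rc_21_3 lc_g_rc_27_3 lc_g_Cert_tree lc_g_rc_23_1 lc_g_rc_24_3 lc_g_rc_24_3 lc_g_rc_24_7 lc_g_rc_24_1 lc_g_rc_21_3 lc_g_rc_26_0 lc_g_rc_21_2 lc_g_rc_21_2 lc_g_Cert_tree lc_g_rc_23_9 lc_g_rc_26_6 lc_g_rc_23_9 lc_g_rc_24_9 lc_g_rc_21_3 lc_g_rc_21_2 lc_g_rc_26_6 lc_g_rc_24_1 lc_g_rc_25_7 lc_g_Cert_tree lc_g_rc_27_9 lc_g_rc_23_7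 lc_g_rc_24_3 lc_g_rc_27_6 lc_g_rc_21_3 lc_g_rc_25_3 lc_g_rc_24_7 lc_g_rc_21_2 lc_g_Cert_tree lc_g_rc_21_2 lc_g_rc_26_0 lc_g_rc_24_3 lc_g_rc_24_3 lc_g_rc_24_7 lc_g_rc_21_3 lc_g_rc_27_6) (@D3.rec (fun _ => (Cert rels S Gen.g)) lc_g_rc_26_0 lc_g_rc_21_3 lc_g_Cert_tree lc_g_rc_26_6 lc_g_rc_23_7 lc_g_rc_23_1 lc_g_Cert_tree lc_g_rc_21_3 lc_g_rc_26_9 lc_g_rc_24_7 lc_g_rc_26_3 lc_g_rc_27_6 lc_g_rc_26_0 lc_g_rc_23_9 lc_g_rc_24_3 lc_g_rc_26_0 lc_g_rc_27_6 lc_g_rc_27_6 lc_g_rc_27_6 lc_g_rc_27_3 lc_g_rc_26_6 lc_g_rc_24_7 lc_g_rc_24_1 lc_g_rc_23_3 lc_g_rc_21_2 lc_g_rc_23_1 lc_g_rc_27_0 lc_g_rc_27_3 lc_g_rc_26_6 lc_g_rc_23_7 lc_g_rc_27_6 lc_g_rc_27_3 lc_g_rc_21_3 lc_g_Cert_tree lc_g_rc_21_2 lc_g_Cert_tree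 lc_g_Cert_tree lc_g_rc_21_2 lc_g_rc_24_1 lc_g_rc_21_3 lc_g_Cert_tree lc_g_Cert_tree lc_g_Cert_tree lc_g_rc_23_7 lc_g_rc_21_2 lc_g_rc_26_9 lc_g_rc_23_1 lc_g_rc_21_2 lc_g_rc_21_3 lc_g_Cert_tree lc_g_rc_24_7 lc_g_rc_26_9 lc_g_rc_21_3 lc_g_rc_23_7 lc_g_rc_25_19 lc_g_rc_21_3 lc_g_rc_24_1 lc_g_rc_26_0 lc_g_rc_27_6 lc_g_Cert_tree lc_g_rc_24_1 lc_g_Cert_tree) (@D3.rec (fun _ => (Cert rels S Gen.g)) lc_g_rc_26_3 lc_g_rc_24_7 lc_g_rc_21_2 lc_g_rc_24_9 lc_g_rc_25_15 lc_g_rc_23_3 lc_g_rc_21_3 lc_g_Cert_tree lc_g_rc_21_2 lc_g_rc_26_6 lc_g_rc_24_1 lc_g_Cert_tree lc_g_rc_27_0 lc_g_rc_27_6 lc_g_Cert_tree lc_g_rc_21_3 lc_g_rc_25_19 lc_g_rc_26_9 lc_g_rc_21_2 lc_g_rc_24_1 lc_g_rc_21_2 lc_g_rc_26_9 lc_g_rc_27_3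 lc_g_rc_21_3 lc_g_rc_26_9 lc_g_rc_23_7 lc_g_rc_21_3 lc_g_rc_21_2 lc_g_rc_26_3 lc_g_rc_21_3 lc_g_rc_24_9 lc_g_rc_24_1 lc_g_rc_23_7 lc_g_rc_27_0 lc_g_Cert_tree lc_g_rc_21_3 lc_g_rc_26_3 lc_g_rc_27_3 lc_g_rc_27_6 lc_g_rc_21_3 lc_g_rc_21_2 lc_g_rc_21_3 lc_g_rc_27_6 lc_g_Cert_tree lc_g_Cert_tree lc_g_rc_21_2 lc_g_rc_26_6 lc_g_rc_21_3 lc_g_Cert_tree lc_g_rc_21_2 lc_g_rc_26_6 lc_g_rc_26_6 lc_g_rc_21_3 lc_g_rc_23_9 lc_g_rc_25_3 lc_g_rc_23_3 lc_g_rc_27_6 lc_g_rc_26_6 lc_g_rc_27_6 lc_g_rc_21_3 lc_g_Cert_tree lc_g_rc_26_6) (@D3.rec (fun _ => (Cert rels S Gen.g)) lc_g_rc_24_1 lc_g_rc_27_0 lc_g_rc_27_0 lc_g_Cert_tree lc_g_rc_21_3 lc_g_Cert_tree lc_g_rc_26_6 lc_g_rc_26_3 lc_g_rc_21_2 lc_g_rc_21_2 lc_g_rc_23_3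 lc_g_rc_25_3 lc_g_Cert_tree lc_g_rc_21_2 lc_g_rc_26_6 lc_g_rc_21_2 lc_g_rc_23_1 lc_g_rc_26_0 lc_g_Cert_tree lc_g_rc_21_3 lc_g_rc_21_3 lc_g_rc_21_3 lc_g_Cert_tree lc_g_rc_27_3 lc_g_rc_26_6 lc_g_rc_27_9 lc_g_rc_26_6 lc_g_rc_26_6 lc_g_rc_26_6 lc_g_rc_24_3 lc_g_rc_24_7 lc_g_rc_26_9 lc_g_rc_23_1 lc_g_rc_23_7 lc_g_rc_21_3 lc_g_Cert_tree lc_g_Cert_tree lc_g_rc_21_2 lc_g_rc_23_3 lc_g_rc_24_1 lc_g_rc_25_19 lc_g_rc_24_7 lc_g_rc_26_6 lc_g_rc_23_1 lc_g_rc_21_3 lc_g_rc_27_6 lc_g_rc_26_3 lc_g_rc_25_19 lc_g_rc_21_3 lc_g_rc_26_6 lc_g_rc_26_3 lc_g_rc_27_0 lc_g_rc_21_3 lc_g_rc_27_9 lc_g_Cert_tree lc_g_rc_23_1 lc_g_rc_24_1 lc_g_rc_26_9 lc_g_rc_24_3 lc_g_rc_21_3 lc_g_rc_27_6 lc_g_rc_26_9) (@D3.rec (fun _ =>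 (Cert rels S Gen.g)) lc_g_Cert_tree lc_g_rc_21_2 lc_g_rc_27_0 lc_g_rc_24_7 lc_g_rc_26_3 lc_g_rc_27_9 lc_g_rc_21_2 lc_g_rc_26_9 lc_g_rc_21_3 lc_g_rc_25_3 lc_g_rc_21_2 lc_g_rc_23_9 lc_g_rc_27_0 lc_g_rc_23_9 lc_g_Cert_tree lc_g_rc_24_9 lc_g_rc_27_3 lc_g_rc_21_2 lc_g_rc_26_9 lc_g_rc_27_6 lc_g_rc_26_9 lc_g_rc_26_6 lc_g_rc_21_3 lc_g_Cert_tree lc_g_rc_23_9 lc_g_rc_24_1 lc_g_rc_27_6 lc_g_rc_26_0 lc_g_rc_21_3 lc_g_rc_24_7 lc_g_rc_27_9 lc_g_rc_27_6 lc_g_rc_21_3 lc_g_rc_21_3 lc_g_rc_27_3 lc_g_rc_27_9 lc_g_rc_24_9 lc_g_rc_25_19 lc_g_rc_23_3 lc_g_rc_27_9 lc_g_rc_26_0 lc_g_Cert_tree lc_g_Cert_tree lc_g_rc_21_2 lc_g_rc_27_3 lc_g_rc_21_2 lc_g_Cert_tree lc_g_rc_21_2 lc_g_Cert_tree lc_g_rc_21_3 lc_g_rc_27_6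 lc_g_rc_23_9 lc_g_Cert_tree lc_g_rc_27_6 lc_g_rc_27_6 lc_g_Cert_tree lc_g_rc_27_9 lc_g_rc_21_2 lc_g_rc_27_0 lc_g_rc_26_6 lc_g_rc_25_15 lc_g_rc_21_2) (@D3.rec (fun _ => (Cert rels S Gen.g)) lc_g_rc_21_2 lc_g_Cert_tree lc_g_rc_26_6 lc_g_rc_23_7 lc_g_rc_21_3 lc_g_rc_21_2 lc_g_rc_26_6 lc_g_rc_24_1 lc_g_rc_26_3 lc_g_rc_26_3 lc_g_rc_21_3 lc_g_rc_24_3 lc_g_rc_21_3 lc_g_rc_21_3 lc_g_rc_27_3 lc_g_rc_24_3 lc_g_rc_27_6 lc_g_rc_27_6 lc_g_rc_27_0 lc_g_rc_21_3 lc_g_Cert_tree lc_g_rc_27_6 lc_g_rc_27_3 lc_g_rc_25_7 lc_g_rc_27_6 lc_g_Cert_tree lc_g_rc_26_3 lc_g_rc_27_6 lc_g_rc_27_0 lc_g_rc_21_3 lc_g_Cert_tree lc_g_rc_26_0 lc_g_rc_21_3 lc_g_Cert_tree lc_g_rc_26_0 lc_g_rc_23_9 lc_g_rc_21_3 lc_g_rc_26_0 lc_g_rc_26_0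 lc_g_rc_26_6 lc_g_rc_23_9 lc_g_rc_24_3 lc_g_Cert_tree lc_g_rc_27_6 lc_g_rc_21_2 lc_g_rc_26_6 lc_g_rc_26_6 lc_g_rc_24_9 lc_g_rc_24_7 lc_g_rc_21_3 lc_g_rc_21_3 lc_g_rc_23_7 lc_g_Cert_tree lc_g_rc_21_2 lc_g_rc_24_3 lc_g_rc_27_9 lc_g_rc_27_0 lc_g_rc_24_3 lc_g_rc_26_6 lc_g_rc_27_0 lc_g_rc_27_0 lc_g_rc_21_3) (@D3.rec (fun _ => (Cert rels S Gen.g)) lc_g_Cert_tree lc_g_rc_27_3 lc_g_rc_21_2 lc_g_rc_27_6 lc_g_rc_27_6 lc_g_rc_27_6 lc_g_rc_21_2 lc_g_rc_23_1 lc_g_rc_24_3 lc_g_rc_26_0 lc_g_rc_24_1 lc_g_rc_26_3 lc_g_rc_21_3 lc_g_rc_21_2 lc_g_rc_26_6 lc_g_rc_24_7 lc_g_rc_24_3 lc_g_rc_26_6 lc_g_rc_24_1 lc_g_rc_26_3 lc_g_rc_25_3 lc_g_rc_24_3 lc_g_rc_27_0 lc_g_rc_25_7 lc_g_rc_24_3 lc_g_rc_23_3 lc_g_rc_27_9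 lc_g_rc_27_6 lc_g_rc_21_2 lc_g_rc_23_3 lc_g_rc_23_7 lc_g_rc_21_3 lc_g_rc_26_6 lc_g_rc_26_9 lc_g_rc_24_3 lc_g_rc_23_3 lc_g_rc_21_3 lc_g_rc_23_9 lc_g_rc_21_2 lc_g_Cert_tree lc_g_rc_27_0 lc_g_rc_25_3 lc_g_rc_27_0 lc_g_rc_27_3 lc_g_rc_21_3 lc_g_Cert_tree lc_g_rc_21_2 lc_g_rc_25_3 lc_g_rc_24_1 lc_g_rc_24_1 lc_g_rc_21_3 lc_g_Cert_tree lc_g_rc_23_9 lc_g_rc_26_3 lc_g_rc_27_3 lc_g_rc_23_1 lc_g_rc_27_6 lc_g_rc_21_2 lc_g_rc_23_3 lc_g_rc_27_9 lc_g_rc_24_3 lc_g_rc_21_3) (@D3.rec (fun _ => (Cert rels S Gen.g)) lc_g_Cert_tree lc_g_rc_27_6 lc_g_rc_26_6 lc_g_rc_23_3 lc_g_rc_21_3 lc_g_Cert_tree lc_g_rc_21_2 lc_g_rc_27_6 lc_g_rc_21_2 lc_g_rc_21_2 lc_g_rc_27_6 lc_g_Cert_tree lc_g_rc_21_2 lc_g_rc_26_9 lc_g_rc_21_3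 lc_g_rc_26_6 lc_g_rc_21_3 lc_g_Cert_tree lc_g_rc_24_3 lc_g_rc_24_1 lc_g_rc_21_3 lc_g_Cert_tree lc_g_rc_26_9 lc_g_rc_23_7 lc_g_rc_26_6 lc_g_Cert_tree lc_g_rc_26_9 lc_g_rc_27_0 lc_g_rc_21_3 lc_g_rc_23_7 lc_g_rc_27_6 lc_g_rc_21_3 lc_g_Cert_tree lc_g_rc_21_2 lc_g_rc_26_6 lc_g_rc_24_1 lc_g_rc_27_3 lc_g_rc_24_3 lc_g_rc_24_7 lc_g_rc_27_0 lc_g_rc_23_3 lc_g_rc_23_9 lc_g_rc_27_3 lc_g_Cert_tree lc_g_rc_27_0 lc_g_rc_24_1 lc_g_rc_21_3 lc_g_rc_24_1 lc_g_rc_21_3 lc_g_rc_21_3 lc_g_Cert_tree lc_g_rc_21_2 lc_g_rc_21_3 lc_g_rc_21_2 lc_g_rc_21_3 lc_g_rc_21_3 lc_g_Cert_tree lc_g_rc_23_9 lc_g_rc_21_2 lc_g_rc_23_3 lc_g_Cert_tree lc_g_Cert_tree) (@D3.rec (fun _ => (Cert rels S Gen.g)) lc_g_rc_26_3 lc_g_rc_27_3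 lc_g_rc_21_3 lc_g_rc_23_3 lc_g_rc_24_3 lc_g_rc_21_2 lc_g_rc_26_0 lc_g_rc_21_2 lc_g_rc_26_9 lc_g_rc_26_6 lc_g_rc_25_7 lc_g_rc_21_2 lc_g_rc_24_9 lc_g_rc_21_2 lc_g_rc_21_3 lc_g_rc_24_3 lc_g_Cert_tree lc_g_rc_27_6 lc_g_rc_21_3 lc_g_Cert_tree lc_g_rc_21_2 lc_g_rc_24_3 lc_g_rc_21_3 lc_g_rc_26_6 lc_g_rc_21_3 lc_g_rc_24_1 lc_g_Cert_tree lc_g_rc_21_2 lc_g_Cert_tree lc_g_rc_24_9 lc_g_Cert_tree lc_g_rc_21_3 lc_g_Cert_tree lc_g_rc_25_7 lc_g_rc_27_6 lc_g_rc_21_2 lc_g_rc_21_3 lc_g_rc_21_3 lc_g_rc_25_19 lc_g_rc_23_9 lc_g_rc_23_9 lc_g_rc_27_6 lc_g_rc_24_3 lc_g_Cert_tree lc_g_rc_27_6 lc_g_rc_27_9 lc_g_rc_24_3 lc_g_rc_21_2 lc_g_rc_21_2 lc_g_rc_23_9 lc_g_Cert_tree lc_g_rc_27_3 lc_g_Cert_tree lc_g_rc_21_2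 lc_g_rc_23_3 lc_g_rc_23_9 lc_g_rc_21_2 lc_g_rc_23_3 lc_g_Cert_tree lc_g_rc_21_3 lc_g_rc_27_3 lc_g_rc_21_2) (@D3.rec (fun _ => (Cert rels S Gen.g)) lc_g_rc_21_2 lc_g_rc_21_2 lc_g_rc_26_6 lc_g_rc_24_3 lc_g_rc_21_2 lc_g_rc_21_2 lc_g_rc_27_0 lc_g_rc_24_9 lc_g_rc_24_1 lc_g_rc_26_6 lc_g_rc_23_7 lc_g_rc_21_3 lc_g_Cert_tree lc_g_rc_21_3 lc_g_rc_21_2 lc_g_rc_26_9 lc_g_rc_23_9 lc_g_rc_21_2 lc_g_rc_23_1 lc_g_rc_23_9 lc_g_rc_24_7 lc_g_rc_24_7 lc_g_rc_21_3 lc_g_rc_27_6 lc_g_rc_26_3 lc_g_rc_25_19 lc_g_rc_26_3 lc_g_rc_24_1 lc_g_rc_24_3 lc_g_rc_26_3 lc_g_rc_21_3 lc_g_rc_23_3 lc_g_rc_26_0 lc_g_rc_26_3 lc_g_rc_25_15 lc_g_rc_27_0 lc_g_rc_23_3 lc_g_rc_26_0 lc_g_rc_25_19 lc_g_rc_23_9 lc_g_rc_27_0 lc_g_rc_21_2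 lc_g_rc_24_7 lc_g_rc_24_7 lc_g_rc_24_1 lc_g_rc_23_9 lc_g_rc_24_3 lc_g_rc_24_7 lc_g_rc_24_7 lc_g_rc_26_3 lc_g_rc_24_1 lc_g_Cert_tree lc_g_rc_26_0 lc_g_Cert_tree lc_g_rc_26_0 lc_g_rc_26_9 lc_g_rc_27_3 lc_g_rc_24_9 lc_g_rc_21_3 lc_g_Cert_tree lc_g_rc_26_0 lc_g_rc_24_3) (@D3.rec (fun _ => (Cert rels S Gen.g)) lc_g_rc_26_0 lc_g_rc_26_6 lc_g_rc_26_9 lc_g_rc_24_1 lc_g_rc_26_0 lc_g_Cert_tree lc_g_rc_27_9 lc_g_rc_26_3 lc_g_rc_21_2 lc_g_rc_23_1 lc_g_rc_21_3 lc_g_Cert_tree lc_g_rc_26_6 lc_g_rc_27_6 lc_g_rc_26_6 lc_g_rc_27_6 lc_g_rc_27_6 lc_g_rc_21_3 lc_g_Cert_tree lc_g_rc_27_3 lc_g_rc_25_7 lc_g_rc_26_3 lc_g_Cert_tree lc_g_rc_25_19 lc_g_rc_21_3 lc_g_rc_26_9 lc_g_rc_21_3 lc_g_rc_24_3 lc_g_rc_27_6 lc_g_Cert_tree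 lc_g_rc_24_7 lc_g_rc_21_2 lc_g_rc_26_3 lc_g_rc_27_6 lc_g_rc_26_0 lc_g_rc_27_6 lc_g_Cert_tree lc_g_rc_27_3 lc_g_rc_24_3 lc_g_rc_27_0 lc_g_rc_25_11 lc_g_Cert_tree lc_g_rc_21_2 lc_g_rc_21_3 lc_g_rc_27_6 lc_g_rc_24_3 lc_g_Cert_tree lc_g_rc_23_3 lc_g_rc_21_3 lc_g_Cert_tree lc_g_rc_26_0 lc_g_rc_21_2 lc_g_rc_21_3 lc_g_rc_24_1 lc_g_rc_26_0 lc_g_rc_24_1 lc_g_rc_21_3 lc_g_Cert_tree lc_g_rc_21_2 lc_g_rc_23_3 lc_g_rc_24_3 lc_g_rc_21_2) (@D3.rec (fun _ => (Cert rels S Gen.g)) lc_g_rc_27_0 lc_g_rc_27_6 lc_g_Cert_tree lc_g_rc_27_3 lc_g_rc_23_1 lc_g_rc_25_19 lc_g_rc_21_3 lc_g_Cert_tree lc_g_rc_27_3 lc_g_rc_21_3 lc_g_rc_24_1 lc_g_rc_27_0 lc_g_rc_21_2 lc_g_rc_25_7 lc_g_rc_27_9 lc_g_rc_21_2 lc_g_rc_21_2 lc_g_rc_21_2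 lc_g_rc_21_2 lc_g_rc_21_3 lc_g_rc_23_1 lc_g_rc_27_3 lc_g_rc_27_6 lc_g_rc_24_9 lc_g_rc_23_1 lc_g_rc_23_3 lc_g_rc_26_6 lc_g_rc_26_9 lc_g_rc_21_2 lc_g_rc_27_6 lc_g_rc_27_6 lc_g_rc_27_9 lc_g_rc_26_3 lc_g_rc_24_1 lc_g_rc_23_3 lc_g_rc_25_19 lc_g_rc_26_9 lc_g_rc_27_3 lc_g_rc_21_3 lc_g_rc_24_3 lc_g_rc_21_2 lc_g_rc_27_0 lc_g_rc_26_0 lc_g_rc_21_2 lc_g_rc_24_7 lc_g_rc_23_3 lc_g_rc_21_2 lc_g_rc_27_3 lc_g_rc_21_2 lc_g_rc_21_2 lc_g_rc_27_6 lc_g_rc_24_7 lc_g_rc_21_3 lc_g_rc_26_3 lc_g_rc_21_3 lc_g_rc_26_6 lc_g_rc_27_6 lc_g_Cert_tree lc_g_rc_21_2 lc_g_rc_23_1 lc_g_rc_21_3 lc_g_Cert_tree) (@D3.rec (fun _ => (Cert rels S Gen.g)) lc_g_rc_26_0 lc_g_rc_24_3 lc_g_rc_26_6 lc_g_rc_27_9 lc_g_rc_26_9 lc_g_rc_24_1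 lc_g_rc_26_0 lc_g_rc_26_0 lc_g_rc_21_2 lc_g_rc_27_0 lc_g_rc_27_6 lc_g_rc_26_3 lc_g_rc_24_3 lc_g_Cert_tree lc_g_rc_23_3 lc_g_rc_24_7 lc_g_rc_21_3 lc_g_Cert_tree lc_g_rc_21_2 lc_g_rc_23_3 lc_g_rc_21_2 lc_g_rc_21_2 lc_g_rc_23_1 lc_g_rc_26_0 lc_g_rc_21_2 lc_g_rc_24_3 lc_g_rc_23_7 lc_g_rc_24_3 lc_g_rc_23_7 lc_g_rc_25_15 lc_g_rc_21_2 lc_g_Cert_tree lc_g_rc_26_3 lc_g_rc_27_3 lc_g_rc_23_9 lc_g_rc_21_2 lc_g_rc_26_6 lc_g_rc_23_7 lc_g_rc_23_7 lc_g_rc_21_2 lc_g_rc_26_6 lc_g_rc_21_3 lc_g_Cert_tree lc_g_rc_21_2 lc_g_rc_21_3 lc_g_rc_24_7 lc_g_rc_27_6 lc_g_rc_27_6 lc_g_rc_21_3 lc_g_rc_21_2 lc_g_rc_25_3 lc_g_rc_23_1 lc_g_rc_27_9 lc_g_rc_21_2 lc_g_rc_21_3 lc_g_Cert_tree lc_g_rc_24_3 lc_g_Cert_tree lc_g_rc_24_7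 lc_g_rc_27_6 lc_g_rc_26_9 lc_g_rc_27_0) (@D3.rec (fun _ => (Cert rels S Gen.g)) lc_g_rc_24_3 lc_g_rc_27_6 lc_g_rc_26_6 lc_g_Cert_tree lc_g_rc_23_3 lc_g_Cert_tree lc_g_rc_25_3 lc_g_rc_27_6 lc_g_rc_25_19 lc_g_rc_24_1 lc_g_rc_27_6 lc_g_rc_21_2 lc_g_rc_21_3 lc_g_rc_27_6 lc_g_rc_27_3 lc_g_rc_24_7 lc_g_rc_21_2 lc_g_rc_26_6 lc_g_rc_26_0 lc_g_rc_26_0 lc_g_rc_27_9 lc_g_rc_25_15 lc_g_rc_23_1 lc_g_rc_23_9 lc_g_rc_27_9 lc_g_rc_24_3 lc_g_rc_26_9 lc_g_rc_21_3 lc_g_Cert_tree lc_g_rc_21_2 lc_g_rc_21_3 lc_g_rc_23_3 lc_g_rc_24_7 lc_g_rc_23_7 lc_g_rc_26_6 lc_g_rc_24_1 lc_g_rc_26_0 lc_g_rc_21_3 lc_g_rc_27_6 lc_g_rc_23_3 lc_g_rc_25_7 lc_g_rc_26_6 lc_g_rc_21_2 lc_g_rc_21_3 lc_g_Cert_tree lc_g_rc_23_1 lc_g_rc_26_6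 lc_g_rc_26_9 lc_g_rc_27_3 lc_g_rc_26_9 lc_g_rc_21_2 lc_g_rc_21_3 lc_g_rc_25_19 lc_g_Cert_tree lc_g_rc_21_2 lc_g_rc_21_3 lc_g_rc_24_3 lc_g_rc_24_3 lc_g_rc_23_1 lc_g_Cert_tree lc_g_rc_27_0 lc_g_rc_25_7) (@D3.rec (fun _ => (Cert rels S Gen.g)) lc_g_rc_21_3 lc_g_rc_26_3 lc_g_rc_26_3 lc_g_rc_26_0 lc_g_rc_23_9 lc_g_rc_23_3 lc_g_rc_27_9 lc_g_rc_26_6 lc_g_rc_27_9 lc_g_rc_25_7 lc_g_rc_27_9 lc_g_rc_26_9 lc_g_rc_26_6 lc_g_rc_21_3 lc_g_rc_27_6 lc_g_rc_24_1 lc_g_rc_27_3 lc_g_rc_27_6 lc_g_rc_23_3 lc_g_rc_26_0 lc_g_rc_24_1 lc_g_rc_26_0 lc_g_rc_27_6 lc_g_rc_27_6 lc_g_rc_24_3 lc_g_Cert_tree lc_g_Cert_tree lc_g_Cert_tree lc_g_Cert_tree lc_g_rc_26_3 lc_g_rc_26_0 lc_g_Cert_tree lc_g_rc_21_3 lc_g_Cert_tree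 lc_g_rc_27_9 lc_g_rc_21_3 lc_g_rc_24_1 lc_g_rc_23_1 lc_g_rc_24_9 lc_g_rc_24_7 lc_g_rc_24_9 lc_g_rc_21_2 lc_g_rc_24_3 lc_g_rc_24_3 lc_g_rc_27_6 lc_g_rc_26_0 lc_g_rc_27_6 lc_g_rc_27_6 lc_g_rc_27_3 lc_g_rc_24_1 lc_g_rc_26_6 lc_g_rc_23_3 lc_g_rc_27_6 lc_g_rc_26_0 lc_g_rc_23_7 lc_g_rc_21_3 lc_g_rc_27_6 lc_g_rc_27_3 lc_g_rc_23_7 lc_g_rc_23_7 lc_g_rc_27_9 lc_g_rc_26_3) (@D3.rec (fun _ => (Cert rels S Gen.g)) lc_g_Cert_tree lc_g_rc_24_9 lc_g_rc_21_2 lc_g_rc_26_0 lc_g_rc_26_9 lc_g_rc_21_3 lc_g_rc_26_3 lc_g_rc_27_6 lc_g_rc_21_2 lc_g_rc_26_0 lc_g_rc_24_1 lc_g_rc_24_1 lc_g_rc_26_6 lc_g_rc_26_3 lc_g_rc_21_3 lc_g_rc_24_3 lc_g_rc_21_3 lc_g_rc_21_3 lc_g_rc_26_0 lc_g_rc_24_3 lc_g_rc_23_7 lc_g_rc_26_9 lc_g_rc_21_2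 lc_g_rc_27_9 lc_g_rc_21_3 lc_g_Cert_tree lc_g_rc_21_2 lc_g_rc_25_7 lc_g_Cert_tree lc_g_rc_25_19 lc_g_rc_24_3 lc_g_rc_26_6 lc_g_rc_26_0 lc_g_rc_27_9 lc_g_rc_26_6 lc_g_Cert_tree lc_g_Cert_tree lc_g_rc_27_6 lc_g_rc_21_3 lc_g_rc_21_3 lc_g_rc_24_3 lc_g_rc_23_1 lc_g_rc_27_6 lc_g_Cert_tree lc_g_rc_21_2 lc_g_Cert_tree lc_g_rc_21_3 lc_g_rc_21_2 lc_g_rc_25_3 lc_g_rc_23_1 lc_g_rc_21_3 lc_g_rc_23_1 lc_g_rc_27_3 lc_g_rc_26_3 lc_g_rc_26_3 lc_g_Cert_tree lc_g_rc_24_7 lc_g_rc_21_2 lc_g_rc_26_6 lc_g_rc_26_9 lc_g_rc_21_2 lc_g_rc_27_0) (@D3.rec (fun _ => (Cert rels S Gen.g)) lc_g_rc_21_3 lc_g_rc_23_9 lc_g_rc_27_6 lc_g_rc_21_3 lc_g_Cert_tree lc_g_rc_26_0 lc_g_rc_24_1 lc_g_rc_21_2 lc_g_rc_21_3 lc_g_rc_23_9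 lc_g_Cert_tree lc_g_rc_21_3 lc_g_rc_21_3 lc_g_Cert_tree lc_g_rc_23_1 lc_g_rc_24_3 lc_g_Cert_tree lc_g_rc_24_7 lc_g_rc_27_3 lc_g_rc_21_2 lc_g_rc_21_2 lc_g_Cert_tree lc_g_rc_23_7 lc_g_rc_26_0 lc_g_rc_27_6 lc_g_rc_26_6 lc_g_rc_21_3 lc_g_rc_26_0 lc_g_rc_26_0 lc_g_rc_21_2 lc_g_rc_25_19 lc_g_rc_23_7 lc_g_rc_27_3 lc_g_rc_26_6 lc_g_rc_23_3 lc_g_rc_25_3 lc_g_rc_21_3 lc_g_rc_24_1 lc_g_rc_23_9 lc_g_rc_24_1 lc_g_rc_21_2 lc_g_Cert_tree lc_g_rc_26_3 lc_g_Cert_tree lc_g_rc_26_9 lc_g_rc_26_0 lc_g_rc_27_6 lc_g_rc_21_3 lc_g_rc_26_0 lc_g_rc_27_6 lc_g_rc_21_3 lc_g_rc_21_2 lc_g_rc_27_6 lc_g_rc_21_2 lc_g_Cert_tree lc_g_rc_26_3 lc_g_rc_23_3 lc_g_rc_26_6 lc_g_rc_25_19 lc_g_rc_27_6 lc_g_rc_23_9 lc_g_rc_27_6) (@D3.rec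 (fun _ => (Cert rels S Gen.g)) lc_g_rc_27_6 lc_g_rc_26_9 lc_g_Cert_tree lc_g_Cert_tree lc_g_rc_27_9 lc_g_rc_26_6 lc_g_rc_21_2 lc_g_rc_27_3 lc_g_rc_21_2 lc_g_Cert_tree lc_g_rc_27_3 lc_g_rc_24_3 lc_g_rc_21_3 lc_g_rc_27_6 lc_g_rc_21_2 lc_g_rc_23_7 lc_g_rc_27_6 lc_g_Cert_tree lc_g_rc_27_9 lc_g_rc_25_7 lc_g_rc_24_3 lc_g_rc_25_19 lc_g_rc_25_19 lc_g_Cert_tree lc_g_rc_21_3 lc_g_rc_24_3 lc_g_rc_26_6 lc_g_rc_24_3 lc_g_rc_26_0 lc_g_rc_26_3 lc_g_rc_24_1 lc_g_rc_27_6 lc_g_rc_24_9 lc_g_rc_26_3 lc_g_rc_26_6 lc_g_rc_27_0 lc_g_rc_26_3 lc_g_rc_23_9 lc_g_rc_21_2 lc_g_rc_21_2 lc_g_rc_21_3 lc_g_rc_21_2 lc_g_rc_24_7 lc_g_rc_26_6 lc_g_rc_27_6 lc_g_rc_27_3 lc_g_rc_27_3 lc_g_rc_26_3 lc_g_Cert_tree lc_g_rc_21_2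 lc_g_rc_21_2 lc_g_rc_21_2 lc_g_rc_21_3 lc_g_rc_26_3 lc_g_rc_26_3 lc_g_rc_21_3 lc_g_Cert_tree lc_g_rc_21_2 lc_g_rc_26_3 lc_g_rc_21_3 lc_g_Cert_tree lc_g_Cert_tree) (@D3.rec (fun _ => (Cert rels S Gen.g)) lc_g_Cert_tree lc_g_rc_21_3 lc_g_rc_27_3 lc_g_rc_21_3 lc_g_Cert_tree lc_g_rc_21_2 lc_g_rc_21_3 lc_g_rc_26_6 lc_g_rc_26_6 lc_g_rc_21_2 lc_g_rc_27_9 lc_g_rc_21_2 lc_g_rc_26_9 lc_g_rc_26_3 lc_g_rc_24_7 lc_g_rc_21_3 lc_g_rc_26_3 lc_g_Cert_tree lc_g_rc_24_7 lc_g_Cert_tree lc_g_rc_21_3 lc_g_rc_21_3 lc_g_rc_27_6 lc_g_rc_26_9 lc_g_rc_24_1 lc_g_rc_21_3 lc_g_rc_21_3 lc_g_rc_26_3 lc_g_rc_27_3 lc_g_rc_23_3 lc_g_rc_24_7 lc_g_rc_27_6 lc_g_rc_24_3 lc_g_Cert_tree lc_g_rc_27_9 lc_g_rc_23_3 lc_g_rc_27_0 lc_g_Cert_tree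 lc_g_rc_23_7 lc_g_rc_23_1 lc_g_rc_24_3 lc_g_rc_27_3 lc_g_rc_21_2 lc_g_rc_26_6 lc_g_rc_21_3 lc_g_Cert_tree lc_g_rc_27_9 lc_g_rc_21_2 lc_g_rc_21_3 lc_g_rc_26_3 lc_g_rc_26_3 lc_g_rc_24_3 lc_g_Cert_tree lc_g_rc_27_3 lc_g_rc_21_2 lc_g_Cert_tree lc_g_rc_21_3 lc_g_Cert_tree lc_g_Cert_tree lc_g_Cert_tree lc_g_rc_21_3 lc_g_Cert_tree) (@D3.rec (fun _ => (Cert rels S Gen.g)) lc_g_rc_21_2 lc_g_rc_26_3 lc_g_rc_21_3 lc_g_Cert_tree lc_g_rc_26_6 lc_g_rc_23_3 lc_g_rc_26_3 lc_g_Cert_tree lc_g_rc_21_2 lc_g_rc_21_3 lc_g_rc_24_3 lc_g_rc_27_9 lc_g_Cert_tree lc_g_rc_21_2 lc_g_Cert_tree lc_g_rc_27_6 lc_g_rc_27_0 lc_g_rc_21_2 lc_g_rc_27_6 lc_g_rc_26_0 lc_g_rc_23_3 lc_g_rc_24_1 lc_g_rc_27_0 lc_g_rc_27_0 lc_g_rc_26_0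 lc_g_rc_26_9 lc_g_rc_23_7 lc_g_rc_21_2 lc_g_Cert_tree lc_g_rc_26_6 lc_g_rc_21_2 lc_g_rc_21_3 lc_g_rc_21_2 lc_g_rc_24_3 lc_g_rc_26_6 lc_g_rc_24_3 lc_g_rc_23_3 lc_g_rc_21_2 lc_g_rc_27_9 lc_g_rc_27_6 lc_g_rc_21_2 lc_g_rc_26_9 lc_g_rc_26_3 lc_g_rc_21_2 lc_g_rc_24_3 lc_g_Cert_tree lc_g_rc_23_1 lc_g_rc_27_6 lc_g_rc_27_3 lc_g_rc_25_19 lc_g_rc_27_9 lc_g_rc_26_6 lc_g_rc_26_6 lc_g_Cert_tree lc_g_Cert_tree lc_g_rc_21_2 lc_g_rc_21_2 lc_g_rc_23_1 lc_g_rc_27_6 lc_g_rc_21_2 lc_g_Cert_tree lc_g_rc_21_2) (@D3.rec (fun _ => (Cert rels S Gen.g)) lc_g_rc_21_2 lc_g_rc_27_3 lc_g_rc_21_2 lc_g_rc_24_7 lc_g_rc_21_2 lc_g_rc_23_1 lc_g_rc_26_6 lc_g_rc_21_3 lc_g_rc_27_6 lc_g_rc_21_3 lc_g_rc_21_3 lc_g_rc_23_3 lc_g_rc_26_6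 lc_g_rc_27_3 lc_g_rc_27_9 lc_g_rc_21_3 lc_g_Cert_tree lc_g_rc_21_2 lc_g_rc_26_3 lc_g_rc_25_11 lc_g_rc_23_3 lc_g_rc_26_9 lc_g_rc_27_3 lc_g_rc_21_3 lc_g_rc_26_0 lc_g_rc_21_3 lc_g_Cert_tree lc_g_rc_21_2 lc_g_rc_24_3 lc_g_rc_27_3 lc_g_rc_21_3 lc_g_rc_21_2 lc_g_rc_21_2 lc_g_rc_24_1 lc_g_rc_27_9 lc_g_rc_21_3 lc_g_rc_24_3 lc_g_rc_25_3 lc_g_rc_23_1 lc_g_rc_24_3 lc_g_rc_23_9 lc_g_rc_27_6 lc_g_rc_24_7 lc_g_rc_25_3 lc_g_Cert_tree lc_g_rc_23_3 lc_g_Cert_tree lc_g_rc_27_6 lc_g_rc_24_9 lc_g_rc_27_0 lc_g_rc_26_0 lc_g_rc_26_6 lc_g_rc_21_2 lc_g_rc_21_3 lc_g_rc_24_7 lc_g_rc_27_6 lc_g_rc_21_2 lc_g_rc_24_3 lc_g_rc_24_3 lc_g_rc_23_3 lc_g_rc_24_1 lc_g_rc_24_9) (@D3.rec (fun _ => (Cert rels S Gen.g)) lc_g_rc_27_6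 lc_g_rc_23_9 lc_g_rc_27_0 lc_g_rc_27_0 lc_g_rc_26_3 lc_g_Cert_tree lc_g_rc_24_3 lc_g_rc_24_1 lc_g_rc_27_6 lc_g_rc_21_3 lc_g_rc_21_2 lc_g_rc_21_3 lc_g_Cert_tree lc_g_rc_27_6 lc_g_rc_26_6 lc_g_rc_24_1 lc_g_rc_21_3 lc_g_rc_23_3 lc_g_rc_25_3 lc_g_Cert_tree lc_g_rc_27_6 lc_g_rc_27_3 lc_g_rc_27_3 lc_g_Cert_tree lc_g_rc_23_9 lc_g_rc_25_19 lc_g_rc_21_2 lc_g_rc_26_6 lc_g_rc_23_9 lc_g_rc_27_6 lc_g_rc_21_3 lc_g_rc_23_9 lc_g_rc_23_1 lc_g_rc_23_3 lc_g_rc_24_1 lc_g_Cert_tree lc_g_rc_21_2 lc_g_rc_21_3 lc_g_rc_26_0 lc_g_rc_21_3 lc_g_rc_27_3 lc_g_rc_21_2 lc_g_rc_21_2 lc_g_rc_25_11 lc_g_rc_24_9 lc_g_rc_24_3 lc_g_rc_27_3 lc_g_rc_27_6 lc_g_rc_21_3 lc_g_Cert_tree lc_g_rc_21_2 lc_g_rc_25_15 lc_g_Cert_tree lc_g_rc_24_3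 lc_g_rc_21_3 lc_g_rc_26_3 lc_g_Cert_tree lc_g_rc_23_9 lc_g_rc_21_3 lc_g_rc_23_3 lc_g_rc_24_1 lc_g_rc_24_1) (@D3.rec (fun _ => (Cert rels S Gen.g)) lc_g_rc_23_1 lc_g_rc_21_3 lc_g_Cert_tree lc_g_rc_21_3 lc_g_Cert_tree lc_g_rc_27_9 lc_g_rc_24_3 lc_g_rc_27_6 lc_g_rc_21_2 lc_g_rc_21_3 lc_g_Cert_tree lc_g_rc_21_2 lc_g_rc_26_0 lc_g_rc_21_2 lc_g_rc_26_6 lc_g_rc_24_1 lc_g_rc_24_3 lc_g_rc_24_1 lc_g_rc_27_3 lc_g_rc_27_6 lc_g_rc_23_1 lc_g_rc_27_3 lc_g_rc_21_3 lc_g_rc_21_2 lc_g_rc_27_9 lc_g_rc_21_3 lc_g_rc_24_3 lc_g_rc_21_2 lc_g_rc_27_3 lc_g_rc_21_2 lc_g_rc_21_2 lc_g_rc_25_3 lc_g_rc_23_7 lc_g_rc_21_3 lc_g_rc_25_3 lc_g_rc_21_3 lc_g_rc_23_3 lc_g_Cert_tree lc_g_rc_27_3 lc_g_rc_27_6 lc_g_rc_26_6 lc_g_rc_21_3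 lc_g_rc_21_3 lc_g_rc_21_2 lc_g_Cert_tree lc_g_rc_21_2 lc_g_rc_27_0 lc_g_rc_27_3 lc_g_rc_24_3 lc_g_rc_21_3 lc_g_Cert_tree lc_g_rc_21_2 lc_g_rc_21_2 lc_g_rc_21_3 lc_g_Cert_tree lc_g_rc_21_2 lc_g_rc_27_0 lc_g_rc_24_1 lc_g_rc_24_9 lc_g_rc_26_6 lc_g_rc_21_2 lc_g_rc_27_6) (@D3.rec (fun _ => (Cert rels S Gen.g)) lc_g_rc_21_3 lc_g_rc_21_3 lc_g_Cert_tree lc_g_rc_21_3 lc_g_Cert_tree lc_g_rc_21_2 lc_g_rc_26_3 lc_g_rc_21_3 lc_g_Cert_tree lc_g_rc_21_2 lc_g_rc_21_3 lc_g_rc_27_3 lc_g_rc_21_3 lc_g_rc_26_0 lc_g_Cert_tree lc_g_rc_24_1 lc_g_Cert_tree lc_g_rc_24_7 lc_g_rc_24_3 lc_g_rc_21_2 lc_g_rc_27_9 lc_g_rc_21_3 lc_g_rc_27_6 lc_g_rc_21_2 lc_g_rc_24_3 lc_g_rc_26_6 lc_g_rc_27_3 lc_g_rc_21_2 lc_g_rc_26_6 lc_g_rc_21_3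 lc_g_rc_26_6 lc_g_rc_24_3 lc_g_rc_24_7 lc_g_rc_27_6 lc_g_rc_21_3 lc_g_rc_24_7 lc_g_rc_27_6 lc_g_rc_26_3 lc_g_Cert_tree lc_g_rc_21_2 lc_g_rc_21_2 lc_g_rc_23_1 lc_g_rc_26_3 lc_g_rc_21_2 lc_g_rc_27_3 lc_g_rc_23_3 lc_g_Cert_tree lc_g_rc_26_3 lc_g_Cert_tree lc_g_rc_26_6 lc_g_rc_21_2 lc_g_rc_25_7 lc_g_rc_24_3 lc_g_rc_23_9 lc_g_rc_24_7 lc_g_rc_26_6 lc_g_rc_27_0 lc_g_rc_21_2 lc_g_rc_26_9 lc_g_rc_26_3 lc_g_Cert_tree lc_g_rc_27_6) (@D3.rec (fun _ => (Cert rels S Gen.g)) lc_g_rc_21_2 lc_g_rc_23_7 lc_g_rc_26_3 lc_g_rc_27_0 lc_g_rc_23_9 lc_g_Cert_tree lc_g_rc_21_2 lc_g_rc_27_0 lc_g_Cert_tree lc_g_rc_21_2 lc_g_rc_24_1 lc_g_rc_27_6 lc_g_rc_23_3 lc_g_rc_21_3 lc_g_Cert_tree lc_g_rc_21_2 lc_g_rc_21_3 lc_g_rc_21_2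 lc_g_rc_21_2 lc_g_rc_27_6 lc_g_rc_21_3 lc_g_Cert_tree lc_g_rc_27_3 lc_g_Cert_tree lc_g_rc_26_3 lc_g_rc_21_2 lc_g_rc_27_6 lc_g_rc_21_3 lc_g_Cert_tree lc_g_rc_26_0 lc_g_rc_27_3 lc_g_rc_23_9 lc_g_rc_26_9 lc_g_rc_26_3 lc_g_rc_21_2 lc_g_rc_24_7 lc_g_rc_21_2 lc_g_rc_24_3 lc_g_rc_26_3 lc_g_rc_21_2 lc_g_rc_26_9 lc_g_rc_24_1 lc_g_rc_21_3 lc_g_rc_27_6 lc_g_rc_26_3 lc_g_rc_21_2 lc_g_Cert_tree lc_g_rc_27_9 lc_g_rc_23_3 lc_g_rc_27_9 lc_g_rc_21_2 lc_g_Cert_tree lc_g_rc_21_3 lc_g_rc_27_9 lc_g_rc_24_3 lc_g_rc_24_3 lc_g_rc_27_6 lc_g_rc_26_0 lc_g_rc_27_0 lc_g_rc_23_7 lc_g_rc_21_2 lc_g_rc_27_6) (@D3.rec (fun _ => (Cert rels S Gen.g)) lc_g_rc_23_1 lc_g_Cert_tree lc_g_Cert_tree lc_g_rc_21_2 lc_g_rc_21_3 lc_g_Cert_tree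 lc_g_rc_26_9 lc_g_rc_23_9 lc_g_rc_27_0 lc_g_rc_26_6 lc_g_rc_21_2 lc_g_rc_25_7 lc_g_rc_26_9 lc_g_rc_25_15 lc_g_rc_25_19 lc_g_Cert_tree lc_g_rc_24_3 lc_g_rc_26_3 lc_g_Cert_tree lc_g_rc_27_3 lc_g_rc_26_9 lc_g_rc_23_9 lc_g_rc_23_1 lc_g_rc_21_3 lc_g_Cert_tree lc_g_Cert_tree lc_g_Cert_tree lc_g_rc_23_3 lc_g_rc_21_2 lc_g_rc_26_6 lc_g_Cert_tree lc_g_rc_24_1 lc_g_Cert_tree lc_g_rc_24_3 lc_g_rc_27_0 lc_g_rc_23_3 lc_g_Cert_tree lc_g_rc_21_2 lc_g_rc_24_3 lc_g_rc_21_2 lc_g_Cert_tree lc_g_rc_26_3 lc_g_rc_27_3 lc_g_Cert_tree lc_g_rc_27_3 lc_g_rc_21_2 lc_g_rc_24_3 lc_g_rc_26_3 lc_g_rc_27_9 lc_g_rc_26_0 lc_g_rc_24_7 lc_g_rc_24_9 lc_g_rc_27_6 lc_g_rc_26_6 lc_g_rc_23_3 lc_g_rc_26_0 lc_g_rc_21_2 lc_g_rc_21_3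 lc_g_rc_24_1 lc_g_rc_26_6 lc_g_rc_27_3 lc_g_rc_23_9) (@D3.rec (fun _ => (Cert rels S Gen.g)) lc_g_rc_21_2 lc_g_rc_21_3 lc_g_rc_25_11 lc_g_rc_21_3 lc_g_rc_21_3 lc_g_Cert_tree lc_g_rc_26_3 lc_g_rc_26_6 lc_g_Cert_tree lc_g_rc_23_1 lc_g_rc_21_2 lc_g_rc_21_2 lc_g_rc_24_3 lc_g_rc_24_1 lc_g_rc_25_3 lc_g_rc_21_3 lc_g_rc_27_3 lc_g_rc_23_3 lc_g_rc_27_3 lc_g_rc_26_0 lc_g_rc_26_6 lc_g_rc_21_2 lc_g_rc_21_3 lc_g_Cert_tree lc_g_Cert_tree lc_g_rc_21_2 lc_g_rc_26_0 lc_g_rc_21_2 lc_g_rc_27_0 lc_g_rc_21_2 lc_g_rc_24_9 lc_g_rc_26_0 lc_g_rc_26_6 lc_g_rc_25_3 lc_g_rc_25_7 lc_g_rc_21_3 lc_g_Cert_tree lc_g_rc_23_9 lc_g_rc_27_3 lc_g_rc_21_2 lc_g_rc_23_1 lc_g_rc_24_7 lc_g_rc_24_1 lc_g_Cert_tree lc_g_rc_27_6 lc_g_rc_24_1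 lc_g_rc_21_2 lc_g_rc_26_6 lc_g_rc_23_1 lc_g_rc_27_0 lc_g_rc_27_6 lc_g_rc_21_3 lc_g_Cert_tree lc_g_rc_27_3 lc_g_rc_26_6 lc_g_Cert_tree lc_g_rc_24_1 lc_g_Cert_tree lc_g_rc_27_6 lc_g_rc_25_19 lc_g_rc_21_3 lc_g_rc_26_0) (@D3.rec (fun _ => (Cert rels S Gen.g)) lc_g_rc_24_3 lc_g_rc_24_7 lc_g_Cert_tree lc_g_rc_26_0 lc_g_rc_27_0 lc_g_rc_21_2 lc_g_rc_25_3 lc_g_rc_23_3 lc_g_rc_23_9 lc_g_rc_24_9 lc_g_rc_24_7 lc_g_rc_21_2 lc_g_rc_25_3 lc_g_Cert_tree lc_g_rc_21_3 lc_g_rc_27_0 lc_g_rc_26_3 lc_g_rc_24_3 lc_g_rc_24_3 lc_g_rc_21_3 lc_g_rc_21_2 lc_g_Cert_tree lc_g_rc_21_2 lc_g_rc_27_6 lc_g_rc_23_3 lc_g_rc_21_3 lc_g_rc_23_1 lc_g_rc_27_3 lc_g_rc_27_9 lc_g_rc_21_3 lc_g_rc_24_1 lc_g_Cert_tree lc_g_rc_21_2 lc_g_rc_21_3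 lc_g_Cert_tree lc_g_rc_27_6 lc_g_rc_26_3 lc_g_rc_21_3 lc_g_Cert_tree lc_g_rc_24_3 lc_g_rc_21_3 lc_g_rc_27_0 lc_g_rc_24_3 lc_g_Cert_tree lc_g_rc_21_2 lc_g_rc_27_6 lc_g_rc_27_9 lc_g_rc_25_15 lc_g_rc_27_0 lc_g_rc_21_2 lc_g_rc_25_19 lc_g_Cert_tree lc_g_rc_21_2 lc_g_rc_24_7 lc_g_rc_27_0 lc_g_rc_23_7 lc_g_rc_21_2 lc_g_rc_25_15 lc_g_rc_27_6 lc_g_Cert_tree lc_g_rc_26_6 lc_g_rc_21_3) (@D3.rec (fun _ => (Cert rels S Gen.g)) lc_g_rc_23_9 lc_g_rc_27_6 lc_g_Cert_tree lc_g_rc_26_0 lc_g_rc_21_3 lc_g_Cert_tree lc_g_rc_21_2 lc_g_rc_21_3 lc_g_rc_21_3 lc_g_rc_26_6 lc_g_rc_21_2 lc_g_rc_26_6 lc_g_rc_21_2 lc_g_rc_24_9 lc_g_Cert_tree lc_g_rc_25_3 lc_g_rc_21_2 lc_g_rc_26_9 lc_g_rc_24_1 lc_g_rc_26_3 lc_g_rc_25_19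 lc_g_rc_26_6 lc_g_rc_24_1 lc_g_Cert_tree lc_g_rc_27_3 lc_g_rc_27_0 lc_g_rc_27_3 lc_g_rc_25_3 lc_g_rc_23_3 lc_g_rc_21_2 lc_g_rc_24_3 lc_g_rc_27_6 lc_g_rc_24_3 lc_g_rc_27_6 lc_g_rc_23_9 lc_g_rc_23_3 lc_g_rc_27_6 lc_g_Cert_tree lc_g_rc_26_6 lc_g_rc_26_6 lc_g_rc_27_0 lc_g_rc_23_9 lc_g_rc_24_3 lc_g_Cert_tree lc_g_rc_21_2 lc_g_rc_25_3 lc_g_rc_27_3 lc_g_rc_21_3 lc_g_Cert_tree lc_g_rc_26_6 lc_g_rc_23_9 lc_g_rc_24_3 lc_g_rc_26_9 lc_g_rc_21_3 lc_g_rc_21_2 lc_g_rc_26_6 lc_g_rc_26_9 lc_g_Cert_tree lc_g_rc_26_0 lc_g_rc_26_9 lc_g_rc_24_1 lc_g_Cert_tree) (@D3.rec (fun _ => (Cert rels S Gen.g)) lc_g_rc_23_7 lc_g_rc_25_3 lc_g_rc_21_2 lc_g_rc_27_0 lc_g_Cert_tree lc_g_rc_23_1 lc_g_rc_24_7 lc_g_rc_24_1 lc_g_rc_24_7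 lc_g_rc_26_3 lc_g_rc_21_2 lc_g_rc_21_3 lc_g_rc_21_2 lc_g_rc_27_9 lc_g_rc_27_3 lc_g_rc_21_3 lc_g_rc_27_3 lc_g_Cert_tree lc_g_rc_21_2 lc_g_rc_21_3 lc_g_Cert_tree lc_g_rc_26_6 lc_g_rc_26_6 lc_g_rc_24_9 lc_g_rc_21_3 lc_g_rc_21_2 lc_g_rc_21_3 lc_g_Cert_tree lc_g_rc_23_1 lc_g_rc_27_6 lc_g_rc_21_2 lc_g_rc_26_6 lc_g_rc_21_3 lc_g_rc_21_2 lc_g_rc_27_0 lc_g_rc_21_2 lc_g_rc_27_6 lc_g_rc_21_3 lc_g_rc_27_6 lc_g_rc_23_3 lc_g_Cert_tree lc_g_rc_24_7 lc_g_rc_27_3 lc_g_rc_23_7 lc_g_rc_27_6 lc_g_rc_26_0 lc_g_rc_24_9 lc_g_rc_27_6 lc_g_rc_21_2 lc_g_rc_23_9 lc_g_rc_24_7 lc_g_rc_23_9 lc_g_rc_21_2 lc_g_rc_21_3 lc_g_Cert_tree lc_g_rc_27_6 lc_g_rc_27_0 lc_g_rc_27_0 lc_g_rc_24_3 lc_g_rc_24_3 lc_g_rc_26_3 lc_g_rc_27_6)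 (@D3.rec (fun _ => (Cert rels S Gen.g)) lc_g_rc_21_3 lc_g_rc_24_3 lc_g_rc_27_6 lc_g_rc_21_3 lc_g_rc_23_7 lc_g_rc_26_3 lc_g_rc_21_3 lc_g_Cert_tree lc_g_rc_24_7 lc_g_rc_27_6 lc_g_rc_21_3 lc_g_Cert_tree lc_g_rc_21_2 lc_g_rc_26_6 lc_g_rc_27_9 lc_g_Cert_tree lc_g_rc_27_0 lc_g_rc_24_1 lc_g_rc_27_6 lc_g_rc_27_3 lc_g_rc_21_3 lc_g_Cert_tree lc_g_rc_26_6 lc_g_rc_21_2 lc_g_rc_26_6 lc_g_rc_21_2 lc_g_rc_23_7 lc_g_rc_21_3 lc_g_rc_21_2 lc_g_rc_26_3 lc_g_rc_21_3 lc_g_rc_26_6 lc_g_rc_24_1 lc_g_rc_23_7 lc_g_rc_21_2 lc_g_Cert_tree lc_g_rc_21_2 lc_g_rc_27_6 lc_g_rc_27_9 lc_g_rc_23_3 lc_g_rc_26_6 lc_g_rc_21_2 lc_g_rc_23_3 lc_g_rc_24_1 lc_g_Cert_tree lc_g_rc_24_3 lc_g_Cert_tree lc_g_rc_24_9 lc_g_rc_27_0 lc_g_rc_23_1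 lc_g_rc_26_3 lc_g_rc_24_9 lc_g_rc_27_0 lc_g_rc_27_0 lc_g_rc_23_9 lc_g_Cert_tree lc_g_rc_24_3 lc_g_rc_26_0 lc_g_rc_27_0 lc_g_rc_21_2 lc_g_rc_21_2 lc_g_rc_27_6) (@D3.rec (fun _ => (Cert rels S Gen.g)) lc_g_rc_26_9 lc_g_rc_23_1 lc_g_rc_24_9 lc_g_rc_21_2 lc_g_rc_21_3 lc_g_rc_26_3 lc_g_rc_27_9 lc_g_Cert_tree lc_g_rc_23_7 lc_g_rc_26_0 lc_g_rc_27_9 lc_g_rc_26_6 lc_g_rc_27_6 lc_g_Cert_tree lc_g_rc_21_2 lc_g_rc_21_2 lc_g_rc_21_2 lc_g_rc_23_3 lc_g_rc_24_9 lc_g_rc_21_3 lc_g_rc_21_2 lc_g_rc_21_3 lc_g_Cert_tree lc_g_rc_26_6 lc_g_rc_24_7 lc_g_Cert_tree lc_g_rc_24_7 lc_g_rc_26_6 lc_g_rc_24_9 lc_g_rc_21_3 lc_g_rc_21_3 lc_g_Cert_tree lc_g_rc_24_3 lc_g_Cert_tree lc_g_rc_21_3 lc_g_rc_21_3 lc_g_rc_21_3 lc_g_rc_23_9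 lc_g_rc_21_2 lc_g_rc_24_1 lc_g_rc_26_9 lc_g_rc_27_0 lc_g_rc_21_3 lc_g_Cert_tree lc_g_rc_21_2 lc_g_rc_23_7 lc_g_rc_21_2 lc_g_rc_21_2 lc_g_rc_21_3 lc_g_Cert_tree lc_g_rc_23_7 lc_g_rc_27_6 lc_g_rc_21_2 lc_g_rc_21_2 lc_g_rc_23_7 lc_g_rc_21_2 lc_g_rc_21_2 lc_g_Cert_tree lc_g_rc_21_2 lc_g_rc_27_3 lc_g_rc_27_0 lc_g_rc_25_3) (@D3.rec (fun _ => (Cert rels S Gen.g)) lc_g_rc_23_3 lc_g_rc_26_0 lc_g_Cert_tree lc_g_rc_23_1 lc_g_rc_23_1 lc_g_rc_26_6 lc_g_rc_24_3 lc_g_rc_21_3 lc_g_rc_27_6 lc_g_rc_24_3 lc_g_rc_21_2 lc_g_rc_21_3 lc_g_Cert_tree lc_g_rc_21_2 lc_g_rc_26_3 lc_g_rc_24_3 lc_g_rc_23_9 lc_g_rc_26_6 lc_g_rc_26_6 lc_g_rc_26_0 lc_g_rc_21_3 lc_g_rc_21_2 lc_g_rc_21_2 lc_g_rc_21_2 lc_g_rc_27_6 lc_g_rc_27_3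 lc_g_rc_25_11 lc_g_rc_26_3 lc_g_rc_21_3 lc_g_Cert_tree lc_g_rc_27_3 lc_g_rc_21_3 lc_g_Cert_tree lc_g_rc_21_2 lc_g_rc_21_2 lc_g_rc_27_9 lc_g_Cert_tree lc_g_rc_27_6 lc_g_rc_26_6 lc_g_rc_21_2 lc_g_rc_21_2 lc_g_Cert_tree lc_g_rc_21_2 lc_g_rc_24_9 lc_g_rc_26_0 lc_g_Cert_tree lc_g_rc_27_6 lc_g_rc_21_2 lc_g_rc_21_3 lc_g_rc_25_15 lc_g_rc_26_3 lc_g_Cert_tree lc_g_rc_21_3 lc_g_rc_24_1 lc_g_rc_21_3 lc_g_rc_21_2 lc_g_rc_24_3 lc_g_rc_24_3 lc_g_Cert_tree lc_g_rc_27_3 lc_g_rc_24_9 lc_g_rc_26_0) (@D3.rec (fun _ => (Cert rels S Gen.g)) lc_g_rc_23_7 lc_g_rc_21_3 lc_g_rc_26_3 lc_g_rc_26_9 lc_g_Cert_tree lc_g_rc_27_0 lc_g_rc_23_9 lc_g_rc_21_3 lc_g_rc_26_3 lc_g_Cert_tree lc_g_rc_23_7 lc_g_rc_23_1 lc_g_rc_23_9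 lc_g_Cert_tree lc_g_rc_21_2 lc_g_Cert_tree lc_g_rc_23_1 lc_g_rc_21_3 lc_g_rc_24_9 lc_g_rc_27_3 lc_g_rc_27_3 lc_g_rc_26_9 lc_g_rc_23_3 lc_g_rc_23_9 lc_g_rc_23_7 lc_g_rc_24_7 lc_g_Cert_tree lc_g_rc_27_0 lc_g_rc_21_2 lc_g_rc_27_6 lc_g_rc_27_9 lc_g_rc_27_6 lc_g_Cert_tree lc_g_rc_21_3 lc_g_rc_21_3 lc_g_rc_27_9 lc_g_rc_24_3 lc_g_rc_27_3 lc_g_rc_23_3 lc_g_rc_21_2 lc_g_rc_24_7 lc_g_rc_27_6 lc_g_rc_24_7 lc_g_rc_27_6 lc_g_rc_23_9 lc_g_rc_23_7 lc_g_rc_21_3 lc_g_Cert_tree lc_g_rc_26_6 lc_g_rc_26_6 lc_g_Cert_tree lc_g_rc_27_0 lc_g_Cert_tree lc_g_rc_27_6 lc_g_rc_27_3 lc_g_rc_26_0 lc_g_rc_21_2 lc_g_rc_21_2 lc_g_Cert_tree lc_g_rc_23_1 lc_g_rc_21_3 lc_g_rc_21_2) (@D3.rec (fun _ => (Cert rels S Gen.g)) lc_g_rc_27_6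 lc_g_rc_21_3 lc_g_rc_27_9 lc_g_rc_21_3 lc_g_rc_21_3 lc_g_rc_26_3 lc_g_rc_24_3 lc_g_rc_23_1 lc_g_Cert_tree lc_g_rc_24_9 lc_g_rc_27_0 lc_g_Cert_tree lc_g_rc_23_7 lc_g_rc_23_3 lc_g_rc_27_6 lc_g_rc_21_3 lc_g_rc_24_7 lc_g_rc_26_6 lc_g_rc_24_3 lc_g_rc_23_9 lc_g_rc_27_3 lc_g_rc_21_3 lc_g_rc_27_0 lc_g_Cert_tree lc_g_rc_27_3 lc_g_rc_26_6 lc_g_rc_27_3 lc_g_rc_21_2 lc_g_Cert_tree lc_g_rc_21_3 lc_g_Cert_tree lc_g_rc_24_3 lc_g_rc_27_0 lc_g_rc_23_3 lc_g_rc_23_7 lc_g_rc_23_7 lc_g_rc_24_3 lc_g_rc_21_2 lc_g_rc_27_3 lc_g_rc_21_2 lc_g_rc_26_6 lc_g_rc_27_0 lc_g_Cert_tree lc_g_rc_26_0 lc_g_rc_27_0 lc_g_rc_26_3 lc_g_rc_27_0 lc_g_rc_27_3 lc_g_rc_23_9 lc_g_rc_24_3 lc_g_rc_27_9 lc_g_rc_21_3 lc_g_Cert_tree lc_g_rc_27_0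 lc_g_Cert_tree lc_g_rc_21_2 lc_g_rc_27_6 lc_g_rc_21_2 lc_g_rc_21_3 lc_g_Cert_tree lc_g_rc_27_9 lc_g_rc_27_3) (@D3.rec (fun _ => (Cert rels S Gen.g)) lc_g_Cert_tree lc_g_rc_21_2 lc_g_rc_26_0 lc_g_rc_26_6 lc_g_rc_24_3 lc_g_rc_27_6 lc_g_rc_21_3 lc_g_Cert_tree lc_g_rc_21_3 lc_g_rc_21_3 lc_g_Cert_tree lc_g_rc_24_7 lc_g_rc_24_7 lc_g_rc_21_2 lc_g_rc_27_6 lc_g_rc_25_3 lc_g_rc_21_3 lc_g_rc_21_2 lc_g_Cert_tree lc_g_Cert_tree lc_g_rc_24_1 lc_g_rc_26_0 lc_g_rc_27_9 lc_g_rc_27_0 lc_g_Cert_tree lc_g_rc_21_2 lc_g_Cert_tree lc_g_rc_21_3 lc_g_rc_27_6 lc_g_Cert_tree lc_g_rc_21_2 lc_g_rc_27_9 lc_g_rc_21_3 lc_g_rc_21_2 lc_g_rc_21_3 lc_g_rc_21_2 lc_g_rc_27_6 lc_g_rc_24_7 lc_g_rc_21_3 lc_g_rc_21_2 lc_g_rc_26_0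 lc_g_rc_24_7 lc_g_rc_24_3 lc_g_rc_26_0 lc_g_rc_27_3 lc_g_rc_21_3 lc_g_Cert_tree lc_g_rc_21_2 lc_g_rc_21_2 lc_g_rc_21_2 lc_g_rc_21_2 lc_g_rc_27_9 lc_g_rc_27_3 lc_g_rc_27_6 lc_g_rc_23_1 lc_g_Cert_tree lc_g_rc_23_7 lc_g_rc_23_3 lc_g_Cert_tree lc_g_rc_24_1 lc_g_rc_24_9 lc_g_rc_25_19) (@D3.rec (fun _ => (Cert rels S Gen.g)) lc_g_rc_23_3 lc_g_Cert_tree lc_g_rc_26_9 lc_g_rc_27_0 lc_g_rc_27_6 lc_g_rc_27_0 lc_g_rc_27_3 lc_g_Cert_tree lc_g_rc_21_3 lc_g_rc_26_3 lc_g_rc_21_2 lc_g_rc_26_0 lc_g_rc_27_9 lc_g_rc_24_7 lc_g_rc_27_3 lc_g_rc_24_7 lc_g_rc_23_3 lc_g_rc_26_0 lc_g_Cert_tree lc_g_rc_27_6 lc_g_rc_26_6 lc_g_rc_23_3 lc_g_rc_27_3 lc_g_rc_21_3 lc_g_Cert_tree lc_g_rc_21_2 lc_g_rc_27_3 lc_g_rc_26_0 lc_g_rc_21_3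 lc_g_rc_21_2 lc_g_rc_23_3 lc_g_rc_26_6 lc_g_rc_21_3 lc_g_rc_27_0 lc_g_rc_26_0 lc_g_rc_24_3 lc_g_Cert_tree lc_g_rc_21_3 lc_g_rc_21_3 lc_g_Cert_tree lc_g_rc_24_7 lc_g_rc_21_3 lc_g_Cert_tree lc_g_rc_21_2 lc_g_rc_24_7 lc_g_rc_21_3 lc_g_Cert_tree lc_g_rc_25_7 lc_g_rc_21_3 lc_g_rc_26_6 lc_g_rc_21_3 lc_g_rc_21_2 lc_g_rc_21_3 lc_g_rc_23_7 lc_g_rc_26_0 lc_g_Cert_tree lc_g_rc_27_3 lc_g_rc_24_1 lc_g_rc_21_3 lc_g_Cert_tree lc_g_rc_26_3 lc_g_rc_27_9) (@D3.rec (fun _ => (Cert rels S Gen.g)) lc_g_rc_24_3 lc_g_Cert_tree lc_g_Cert_tree lc_g_rc_21_2 lc_g_rc_21_3 lc_g_rc_27_3 lc_g_rc_27_0 lc_g_Cert_tree lc_g_rc_27_9 lc_g_rc_24_1 lc_g_rc_26_9 lc_g_rc_21_3 lc_g_rc_21_3 lc_g_rc_24_7 lc_g_Cert_tree lc_g_rc_21_2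 lc_g_rc_27_6 lc_g_rc_21_3 lc_g_Cert_tree lc_g_rc_23_1 lc_g_rc_23_3 lc_g_rc_25_19 lc_g_rc_27_3 lc_g_rc_26_6 lc_g_rc_27_6 lc_g_Cert_tree lc_g_rc_21_2 lc_g_rc_21_3 lc_g_Cert_tree lc_g_rc_21_2 lc_g_Cert_tree lc_g_rc_27_0 lc_g_rc_24_3 lc_g_rc_27_9 lc_g_rc_27_9 lc_g_rc_27_6 lc_g_rc_21_2 lc_g_rc_21_3 lc_g_Cert_tree lc_g_rc_21_2 lc_g_rc_27_0 lc_g_Cert_tree lc_g_rc_24_1 lc_g_rc_21_2 lc_g_rc_27_0 lc_g_rc_21_3 lc_g_rc_24_1 lc_g_rc_27_0 lc_g_rc_23_9 lc_g_rc_27_0 lc_g_rc_26_6 lc_g_rc_24_3 lc_g_rc_27_9 lc_g_rc_26_9 lc_g_rc_27_3 lc_g_rc_24_3 lc_g_rc_27_6 lc_g_rc_26_9 lc_g_Cert_tree lc_g_rc_21_3 lc_g_Cert_tree lc_g_rc_27_6) (@D3.rec (fun _ => (Cert rels S Gen.g)) lc_g_rc_26_6 lc_g_rc_21_2 lc_g_rc_27_6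 lc_g_rc_23_9 lc_g_rc_27_0 lc_g_rc_26_3 lc_g_rc_26_6 lc_g_rc_25_15 lc_g_rc_25_19 lc_g_rc_26_3 lc_g_rc_21_2 lc_g_rc_21_3 lc_g_rc_21_3 lc_g_Cert_tree lc_g_rc_21_3 lc_g_Cert_tree lc_g_rc_27_6 lc_g_rc_25_19 lc_g_rc_27_9 lc_g_rc_27_3 lc_g_rc_23_7 lc_g_rc_23_3 lc_g_rc_24_1 lc_g_rc_21_2 lc_g_rc_23_3 lc_g_rc_26_9 lc_g_rc_27_6 lc_g_rc_24_7 lc_g_rc_26_3 lc_g_rc_21_3 lc_g_rc_25_3 lc_g_rc_24_1 lc_g_rc_26_6 lc_g_rc_21_3 lc_g_Cert_tree lc_g_rc_21_2 lc_g_rc_26_9 lc_g_rc_27_9 lc_g_rc_21_2 lc_g_rc_24_7 lc_g_rc_21_3 lc_g_rc_24_1 lc_g_rc_27_3 lc_g_rc_26_9 lc_g_rc_26_6 lc_g_rc_21_2 lc_g_rc_21_3 lc_g_Cert_tree lc_g_Cert_tree lc_g_rc_21_2 lc_g_rc_27_0 lc_g_rc_27_6 lc_g_rc_27_6 lc_g_rc_27_9 lc_g_rc_23_3 lc_g_rc_23_1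 lc_g_rc_21_3 lc_g_rc_27_3 lc_g_rc_21_2 lc_g_rc_26_3 lc_g_rc_27_6 lc_g_rc_21_3) (@D3.rec (fun _ => (Cert rels S Gen.g)) lc_g_rc_21_3 lc_g_Cert_tree lc_g_rc_21_3 lc_g_rc_24_3 lc_g_rc_21_3 lc_g_Cert_tree lc_g_rc_27_0 lc_g_rc_27_6 lc_g_rc_27_6 lc_g_rc_26_9 lc_g_rc_21_3 lc_g_rc_21_3 lc_g_rc_21_3 lc_g_rc_23_9 lc_g_rc_21_3 lc_g_rc_26_3 lc_g_rc_24_3 lc_g_rc_26_0 lc_g_rc_24_7 lc_g_Cert_tree lc_g_Cert_tree lc_g_rc_27_6 lc_g_rc_25_19 lc_g_rc_23_7 lc_g_rc_26_3 lc_g_rc_21_2 lc_g_rc_26_0 lc_g_rc_21_3 lc_g_rc_27_3 lc_g_rc_21_3 lc_g_Cert_tree lc_g_rc_26_6 lc_g_rc_21_2 lc_g_rc_24_3 lc_g_rc_24_1 lc_g_rc_27_0 lc_g_rc_24_3 lc_g_rc_21_2 lc_g_Cert_tree lc_g_rc_21_2 lc_g_rc_26_3 lc_g_rc_21_2 lc_g_rc_21_3 lc_g_rc_24_3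 lc_g_Cert_tree lc_g_Cert_tree lc_g_rc_23_3 lc_g_rc_25_3 lc_g_rc_27_6 lc_g_rc_21_3 lc_g_rc_26_3 lc_g_rc_21_3 lc_g_rc_23_1 lc_g_Cert_tree lc_g_rc_21_2 lc_g_Cert_tree lc_g_rc_24_7 lc_g_rc_26_6 lc_g_rc_21_2 lc_g_rc_26_6 lc_g_rc_27_0 lc_g_Cert_tree) (@D3.rec (fun _ => (Cert rels S Gen.g)) lc_g_rc_23_1 lc_g_rc_27_0 lc_g_Cert_tree lc_g_rc_23_7 lc_g_rc_24_3 lc_g_Cert_tree lc_g_rc_21_2 lc_g_rc_26_9 lc_g_rc_23_9 lc_g_rc_21_2 lc_g_rc_26_3 lc_g_rc_27_0 lc_g_rc_26_6 lc_g_rc_21_2 lc_g_Cert_tree lc_g_rc_21_2 lc_g_rc_21_2 lc_g_rc_26_6 lc_g_rc_21_2 lc_g_rc_27_6 lc_g_rc_21_2 lc_g_rc_24_7 lc_g_rc_24_3 lc_g_rc_21_3 lc_g_Cert_tree lc_g_rc_21_2 lc_g_rc_24_1 lc_g_Cert_tree lc_g_rc_21_2 lc_g_rc_21_2 lc_g_Cert_tree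 lc_g_rc_21_2 lc_g_rc_24_1 lc_g_rc_21_3 lc_g_Cert_tree lc_g_rc_27_9 lc_g_rc_21_3 lc_g_Cert_tree lc_g_rc_21_2 lc_g_rc_21_2 lc_g_rc_21_3 lc_g_rc_21_3 lc_g_rc_24_3 lc_g_rc_27_0 lc_g_rc_21_3 lc_g_rc_27_3 lc_g_rc_24_9 lc_g_rc_24_7 lc_g_rc_26_3 lc_g_rc_24_1 lc_g_rc_21_3 lc_g_rc_23_3 lc_g_rc_24_9 lc_g_rc_26_6 lc_g_rc_26_9 lc_g_rc_27_6 lc_g_rc_24_1 lc_g_rc_27_9 lc_g_rc_21_2 lc_g_rc_27_6 lc_g_rc_27_6 lc_g_rc_21_2) (@D3.rec (fun _ => (Cert rels S Gen.g)) lc_g_Cert_tree lc_g_rc_26_3 lc_g_rc_26_9 lc_g_rc_21_3 lc_g_Cert_tree lc_g_rc_21_2 lc_g_rc_21_2 lc_g_rc_25_3 lc_g_rc_23_1 lc_g_rc_26_6 lc_g_rc_21_2 lc_g_rc_21_3 lc_g_rc_26_6 lc_g_rc_27_0 lc_g_rc_26_6 lc_g_rc_27_6 lc_g_rc_24_3 lc_g_rc_27_3 lc_g_rc_27_0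 lc_g_rc_21_2 lc_g_rc_21_2 lc_g_Cert_tree lc_g_rc_21_3 lc_g_rc_26_9 lc_g_rc_24_3 lc_g_rc_24_1 lc_g_rc_26_0 lc_g_rc_23_3 lc_g_rc_24_3 lc_g_rc_26_3 lc_g_rc_23_7 lc_g_rc_23_1 lc_g_rc_23_3 lc_g_rc_24_3 lc_g_rc_27_3 lc_g_Cert_tree lc_g_rc_21_2 lc_g_Cert_tree lc_g_rc_23_7 lc_g_rc_26_0 lc_g_rc_21_2 lc_g_Cert_tree lc_g_rc_27_3 lc_g_rc_23_3 lc_g_rc_21_3 lc_g_rc_23_7 lc_g_rc_26_6 lc_g_rc_27_9 lc_g_rc_24_3 lc_g_rc_21_3 lc_g_Cert_tree lc_g_rc_21_2 lc_g_rc_21_3 lc_g_rc_24_7 lc_g_rc_24_1 lc_g_rc_27_6 lc_g_rc_27_6 lc_g_rc_24_9 lc_g_rc_23_9 lc_g_rc_27_9 lc_g_rc_27_0 lc_g_rc_26_6) (@D3.rec (fun _ => (Cert rels S Gen.g)) lc_g_rc_27_9 lc_g_rc_27_0 lc_g_rc_23_1 lc_g_rc_24_3 lc_g_rc_24_1 lc_g_rc_21_2 lc_g_rc_26_3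 lc_g_rc_26_6 lc_g_rc_26_6 lc_g_rc_21_3 lc_g_rc_27_3 lc_g_rc_21_2 lc_g_rc_27_6 lc_g_rc_21_3 lc_g_Cert_tree lc_g_rc_26_6 lc_g_rc_23_7 lc_g_rc_25_3 lc_g_rc_27_3 lc_g_rc_26_3 lc_g_rc_21_2 lc_g_rc_21_3 lc_g_rc_21_3 lc_g_rc_21_3 lc_g_rc_23_7 lc_g_rc_23_7 lc_g_rc_26_6 lc_g_Cert_tree lc_g_rc_27_6 lc_g_rc_21_2 lc_g_Cert_tree lc_g_rc_24_1 lc_g_rc_26_0 lc_g_rc_21_2 lc_g_rc_26_6 lc_g_rc_21_3 lc_g_rc_27_6 lc_g_rc_23_3 lc_g_rc_26_9 lc_g_rc_25_3 lc_g_rc_24_3 lc_g_rc_27_6 lc_g_rc_21_3 lc_g_rc_23_7 lc_g_rc_27_6 lc_g_rc_21_2 lc_g_rc_21_3 lc_g_rc_21_2 lc_g_rc_21_2 lc_g_rc_27_6 lc_g_rc_27_6 lc_g_rc_26_9 lc_g_rc_21_3 lc_g_rc_27_6 lc_g_rc_27_3 lc_g_rc_27_3 lc_g_rc_26_0 lc_g_rc_26_9 lc_g_rc_21_2 lc_g_rc_27_3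 lc_g_rc_24_3 lc_g_rc_27_9) (@D3.rec (fun _ => (Cert rels S Gen.g)) lc_g_rc_26_9 lc_g_rc_26_6 lc_g_rc_27_6 lc_g_rc_21_3 lc_g_rc_26_6 lc_g_rc_21_3 lc_g_rc_26_6 lc_g_rc_21_2 lc_g_rc_25_3 lc_g_Cert_tree lc_g_rc_27_6 lc_g_rc_26_6 lc_g_rc_24_9 lc_g_rc_23_3 lc_g_rc_26_3 lc_g_rc_21_3 lc_g_rc_21_2 lc_g_rc_23_3 lc_g_rc_26_6 lc_g_rc_21_3 lc_g_Cert_tree lc_g_rc_26_0 lc_g_rc_27_0 lc_g_rc_24_7 lc_g_rc_21_2 lc_g_rc_27_0 lc_g_rc_21_3 lc_g_rc_21_3 lc_g_Cert_tree lc_g_rc_24_3 lc_g_rc_21_3 lc_g_rc_21_3 lc_g_rc_21_2 lc_g_rc_24_1 lc_g_Cert_tree lc_g_rc_21_2 lc_g_rc_26_3 lc_g_rc_23_7 lc_g_rc_26_3 lc_g_rc_27_0 lc_g_rc_23_7 lc_g_Cert_tree lc_g_rc_24_7 lc_g_Cert_tree lc_g_rc_23_7 lc_g_rc_26_3 lc_g_rc_27_3 lc_g_rc_21_2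 lc_g_Cert_tree lc_g_rc_21_2 lc_g_rc_24_3 lc_g_rc_26_0 lc_g_rc_24_1 lc_g_rc_23_3 lc_g_Cert_tree lc_g_rc_21_3 lc_g_rc_27_3 lc_g_rc_26_6 lc_g_rc_26_6 lc_g_rc_21_2 lc_g_rc_26_9 lc_g_rc_23_3) (@D3.rec (fun _ => (Cert rels S Gen.g)) lc_g_rc_23_1 lc_g_rc_26_9 lc_g_rc_24_7 lc_g_rc_21_3 lc_g_Cert_tree lc_g_rc_21_2 lc_g_rc_21_2 lc_g_rc_24_7 lc_g_rc_21_2 lc_g_rc_27_0 lc_g_rc_27_3 lc_g_rc_21_3 lc_g_Cert_tree lc_g_rc_27_6 lc_g_rc_26_0 lc_g_rc_21_2 lc_g_rc_23_7 lc_g_rc_27_6 lc_g_rc_21_3 lc_g_Cert_tree lc_g_rc_21_2 lc_g_rc_26_6 lc_g_rc_21_2 lc_g_rc_23_3 lc_g_Cert_tree lc_g_rc_27_0 lc_g_rc_21_2 lc_g_rc_27_6 lc_g_rc_24_3 lc_g_rc_27_0 lc_g_rc_21_3 lc_g_rc_23_3 lc_g_rc_26_3 lc_g_rc_27_0 lc_g_rc_21_3 lc_g_rc_27_0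 lc_g_rc_26_3 lc_g_rc_26_6 lc_g_Cert_tree lc_g_rc_26_3 lc_g_rc_21_3 lc_g_rc_21_2 lc_g_rc_21_3 lc_g_rc_24_7 lc_g_rc_21_3 lc_g_rc_27_3 lc_g_rc_26_6 lc_g_rc_23_7 lc_g_rc_23_1 lc_g_rc_23_1 lc_g_rc_24_1 lc_g_rc_21_2 lc_g_rc_24_7 lc_g_rc_27_6 lc_g_rc_24_3 lc_g_rc_27_6 lc_g_rc_27_6 lc_g_rc_27_3 lc_g_rc_21_3 lc_g_rc_21_2 lc_g_rc_27_9 lc_g_rc_21_2) (@D3.rec (fun _ => (Cert rels S Gen.g)) lc_g_rc_21_2 lc_g_rc_23_7 lc_g_rc_24_3 lc_g_rc_23_7 lc_g_rc_23_7 lc_g_rc_21_3 lc_g_rc_25_3 lc_g_rc_21_3 lc_g_rc_21_3 lc_g_rc_27_9 lc_g_Cert_tree lc_g_rc_26_6 lc_g_rc_26_0 lc_g_Cert_tree lc_g_rc_27_3 lc_g_rc_26_0 lc_g_Cert_tree lc_g_rc_27_3 lc_g_rc_25_19 lc_g_rc_21_3 lc_g_rc_24_7 lc_g_rc_21_2 lc_g_rc_26_0 lc_g_rc_27_3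 lc_g_rc_26_9 lc_g_rc_26_6 lc_g_rc_27_0 lc_g_rc_26_6 lc_g_rc_23_3 lc_g_rc_21_2 lc_g_rc_21_3 lc_g_Cert_tree lc_g_rc_21_2 lc_g_rc_26_9 lc_g_rc_27_6 lc_g_rc_24_7 lc_g_rc_21_2 lc_g_rc_24_7 lc_g_Cert_tree lc_g_rc_21_2 lc_g_rc_23_3 lc_g_rc_26_3 lc_g_rc_21_3 lc_g_Cert_tree lc_g_rc_21_2 lc_g_rc_27_9 lc_g_rc_27_6 lc_g_rc_23_3 lc_g_rc_26_0 lc_g_rc_27_3 lc_g_rc_27_6 lc_g_rc_26_6 lc_g_rc_21_2 lc_g_rc_27_6 lc_g_rc_21_2 lc_g_rc_23_7 lc_g_rc_24_3 lc_g_rc_26_6 lc_g_Cert_tree lc_g_Cert_tree lc_g_rc_24_1 lc_g_rc_21_2) (@D3.rec (fun _ => (Cert rels S Gen.g)) lc_g_rc_24_3 lc_g_rc_24_3 lc_g_rc_24_3 lc_g_rc_21_3 lc_g_Cert_tree lc_g_rc_21_2 lc_g_rc_27_6 lc_g_rc_24_1 lc_g_rc_27_9 lc_g_rc_21_2 lc_g_rc_26_9 lc_g_rc_27_6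 lc_g_rc_23_3 lc_g_rc_27_0 lc_g_Cert_tree lc_g_rc_21_2 lc_g_rc_26_0 lc_g_rc_27_6 lc_g_rc_25_19 lc_g_rc_26_0 lc_g_rc_26_3 lc_g_Cert_tree lc_g_rc_23_3 lc_g_rc_23_9 lc_g_rc_26_3 lc_g_Cert_tree lc_g_rc_26_9 lc_g_rc_26_6 lc_g_rc_26_3 lc_g_rc_27_3 lc_g_rc_26_3 lc_g_rc_21_3 lc_g_Cert_tree lc_g_rc_24_7 lc_g_rc_24_1 lc_g_rc_25_3 lc_g_rc_23_3 lc_g_rc_27_0 lc_g_rc_23_1 lc_g_rc_26_9 lc_g_rc_24_3 lc_g_rc_27_6 lc_g_rc_24_9 lc_g_rc_23_3 lc_g_rc_26_3 lc_g_Cert_tree lc_g_rc_26_6 lc_g_rc_21_2 lc_g_rc_26_6 lc_g_rc_21_3 lc_g_rc_27_9 lc_g_rc_23_7 lc_g_Cert_tree lc_g_Cert_tree lc_g_Cert_tree lc_g_rc_21_2 lc_g_rc_25_19 lc_g_rc_26_0 lc_g_rc_24_9 lc_g_rc_26_9 lc_g_rc_25_19 lc_g_rc_27_3) (@D3.rec (fun _ => (Cert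 rels S Gen.g)) lc_g_Cert_tree lc_g_rc_27_3 lc_g_rc_27_6 lc_g_rc_21_2 lc_g_rc_21_3 lc_g_rc_24_1 lc_g_rc_21_3 lc_g_rc_27_3 lc_g_rc_23_3 lc_g_rc_24_3 lc_g_rc_27_0 lc_g_Cert_tree lc_g_rc_21_2 lc_g_rc_27_0 lc_g_rc_26_3 lc_g_Cert_tree lc_g_rc_26_6 lc_g_rc_24_3 lc_g_rc_23_9 lc_g_Cert_tree lc_g_rc_23_1 lc_g_rc_21_2 lc_g_rc_24_7 lc_g_Cert_tree lc_g_rc_24_1 lc_g_rc_27_6 lc_g_rc_27_6 lc_g_rc_26_3 lc_g_rc_27_6 lc_g_rc_24_3 lc_g_rc_21_2 lc_g_Cert_tree lc_g_rc_27_6 lc_g_rc_27_6 lc_g_rc_21_3 lc_g_rc_26_6 lc_g_Cert_tree lc_g_rc_21_3 lc_g_rc_23_3 lc_g_rc_21_2 lc_g_rc_23_1 lc_g_rc_27_6 lc_g_rc_25_15 lc_g_rc_27_3 lc_g_rc_24_1 lc_g_rc_21_2 lc_g_rc_26_0 lc_g_rc_24_3 lc_g_rc_23_7 lc_g_Cert_tree lc_g_rc_27_6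 lc_g_rc_27_9 lc_g_rc_21_3 lc_g_rc_23_9 lc_g_rc_23_1 lc_g_rc_23_3 lc_g_rc_26_3 lc_g_rc_27_3 lc_g_rc_24_1 lc_g_Cert_tree lc_g_rc_23_1 lc_g_Cert_tree) (@D3.rec (fun _ => (Cert rels S Gen.g)) lc_g_Cert_tree lc_g_rc_26_0 lc_g_rc_27_9 lc_g_rc_23_7 lc_g_rc_26_6 lc_g_rc_27_3 lc_g_rc_23_1 lc_g_rc_21_3 lc_g_rc_24_1 lc_g_rc_21_2 lc_g_rc_27_9 lc_g_rc_24_1 lc_g_rc_23_9 lc_g_rc_24_1 lc_g_rc_26_6 lc_g_rc_26_0 lc_g_rc_27_6 lc_g_rc_24_7 lc_g_rc_26_6 lc_g_rc_27_0 lc_g_rc_27_3 lc_g_rc_21_3 lc_g_rc_25_19 lc_g_Cert_tree lc_g_rc_26_0 lc_g_rc_27_3 lc_g_rc_27_9 lc_g_rc_27_9 lc_g_rc_26_3 lc_g_rc_23_3 lc_g_rc_27_6 lc_g_rc_21_2 lc_g_rc_27_6 lc_g_rc_26_6 lc_g_Cert_tree lc_g_rc_25_15 lc_g_rc_21_2 lc_g_rc_27_6 lc_g_rc_26_6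 lc_g_rc_23_3 lc_g_rc_23_7 lc_g_rc_21_3 lc_g_Cert_tree lc_g_rc_26_9 lc_g_rc_21_3 lc_g_rc_26_9 lc_g_rc_27_9 lc_g_rc_21_2 lc_g_rc_27_3 lc_g_rc_24_3 lc_g_rc_21_2 lc_g_rc_21_3 lc_g_rc_26_0 lc_g_rc_27_0 lc_g_rc_27_0 lc_g_rc_23_3 lc_g_rc_25_7 lc_g_rc_27_0 lc_g_rc_24_3 lc_g_rc_27_0 lc_g_Cert_tree lc_g_Cert_tree) (@D3.rec (fun _ => (Cert rels S Gen.g)) lc_g_rc_23_1 lc_g_rc_24_1 lc_g_rc_27_3 lc_g_rc_27_0 lc_g_Cert_tree lc_g_rc_23_7 lc_g_rc_26_0 lc_g_rc_21_3 lc_g_rc_21_2 lc_g_rc_23_3 lc_g_rc_27_9 lc_g_Cert_tree lc_g_rc_21_2 lc_g_rc_27_9 lc_g_rc_24_1 lc_g_rc_21_3 lc_g_Cert_tree lc_g_rc_21_2 lc_g_rc_21_3 lc_g_rc_23_3 lc_g_rc_26_6 lc_g_rc_27_9 lc_g_rc_27_6 lc_g_rc_26_9 lc_g_rc_21_2 lc_g_rc_27_6 lc_g_rc_21_3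 lc_g_Cert_tree lc_g_rc_25_15 lc_g_rc_26_3 lc_g_rc_27_9 lc_g_rc_26_3 lc_g_rc_21_2 lc_g_rc_21_3 lc_g_rc_21_2 lc_g_rc_27_9 lc_g_rc_24_9 lc_g_rc_21_3 lc_g_rc_26_9 lc_g_rc_27_0 lc_g_rc_21_3 lc_g_Cert_tree lc_g_rc_21_2 lc_g_rc_21_2 lc_g_rc_24_3 lc_g_rc_27_0 lc_g_rc_23_3 lc_g_rc_21_3 lc_g_Cert_tree lc_g_rc_24_1 lc_g_rc_21_2 lc_g_rc_23_9 lc_g_rc_21_2 lc_g_rc_27_6 lc_g_rc_21_2 lc_g_rc_24_7 lc_g_rc_21_2 lc_g_rc_27_6 lc_g_rc_26_3 lc_g_rc_21_2 lc_g_rc_21_2 lc_g_rc_24_3) (@D3.rec (fun _ => (Cert rels S Gen.g)) lc_g_rc_21_3 lc_g_Cert_tree lc_g_rc_24_3 lc_g_rc_26_6 lc_g_rc_21_2 lc_g_rc_27_3 lc_g_rc_27_9 lc_g_rc_27_0 lc_g_Cert_tree lc_g_rc_24_7 lc_g_rc_23_3 lc_g_rc_24_3 lc_g_rc_27_3 lc_g_rc_24_3 lc_g_rc_24_3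 lc_g_rc_26_3 lc_g_Cert_tree lc_g_rc_27_9 lc_g_rc_24_3 lc_g_rc_26_3 lc_g_rc_21_2 lc_g_rc_26_3 lc_g_Cert_tree lc_g_rc_23_3 lc_g_rc_21_2 lc_g_rc_21_2 lc_g_rc_25_15 lc_g_rc_21_2 lc_g_rc_21_2 lc_g_rc_27_3 lc_g_rc_21_3 lc_g_rc_27_9 lc_g_rc_21_2 lc_g_rc_27_0 lc_g_rc_23_3 lc_g_Cert_tree lc_g_rc_24_1 lc_g_Cert_tree lc_g_rc_23_3 lc_g_rc_21_3 lc_g_rc_21_2 lc_g_rc_21_2 lc_g_rc_21_3 lc_g_rc_21_3 lc_g_rc_24_7 lc_g_rc_24_9 lc_g_rc_21_2 lc_g_rc_21_3 lc_g_rc_27_6 lc_g_rc_24_7 lc_g_rc_21_3 lc_g_rc_21_3 lc_g_rc_27_0 lc_g_rc_24_7 lc_g_rc_24_3 lc_g_rc_21_3 lc_g_rc_21_3 lc_g_rc_27_6 lc_g_rc_27_9 lc_g_Cert_tree lc_g_rc_23_3 lc_g_rc_21_3) (@D3.rec (fun _ => (Cert rels S Gen.g)) lc_g_rc_23_7 lc_g_rc_24_7 lc_g_rc_27_3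 lc_g_Cert_tree lc_g_rc_27_3 lc_g_rc_21_3 lc_g_rc_24_3 lc_g_rc_21_3 lc_g_rc_21_2 lc_g_rc_23_3 lc_g_rc_27_6 lc_g_rc_21_3 lc_g_rc_26_6 lc_g_rc_24_9 lc_g_rc_27_6 lc_g_rc_21_3 lc_g_Cert_tree lc_g_rc_26_6 lc_g_rc_24_7 lc_g_rc_21_3 lc_g_rc_21_2 lc_g_rc_21_3 lc_g_rc_24_3 lc_g_Cert_tree lc_g_rc_21_2 lc_g_rc_21_2 lc_g_rc_26_6 lc_g_rc_21_2 lc_g_Cert_tree lc_g_rc_21_3 lc_g_rc_21_3 lc_g_rc_24_7 lc_g_rc_21_3 lc_g_rc_26_6 lc_g_rc_21_3 lc_g_rc_27_0 lc_g_rc_21_3 lc_g_rc_21_3 lc_g_rc_21_3 lc_g_Cert_tree lc_g_rc_23_3 lc_g_Cert_tree lc_g_rc_27_0 lc_g_rc_26_9 lc_g_rc_21_2 lc_g_Cert_tree lc_g_rc_21_3 lc_g_rc_24_3 lc_g_rc_21_2 lc_g_rc_25_11 lc_g_rc_24_3 lc_g_rc_21_2 lc_g_rc_24_3 lc_g_rc_27_6 lc_g_rc_21_3 lc_g_rc_21_3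 lc_g_rc_21_3 lc_g_rc_27_6 lc_g_rc_23_3 lc_g_rc_26_6 lc_g_rc_23_3 lc_g_rc_26_9) (@D3.rec (fun _ => (Cert rels S Gen.g)) lc_g_rc_27_6 lc_g_rc_23_3 lc_g_rc_27_6 lc_g_Cert_tree lc_g_rc_24_3 lc_g_rc_27_6 lc_g_rc_21_3 lc_g_rc_21_3 lc_g_Cert_tree lc_g_rc_21_3 lc_g_Cert_tree lc_g_rc_26_9 lc_g_rc_26_3 lc_g_rc_27_6 lc_g_rc_27_0 lc_g_rc_27_6 lc_g_rc_24_7 lc_g_rc_26_3 lc_g_rc_21_3 lc_g_rc_27_9 lc_g_rc_26_0 lc_g_rc_27_3 lc_g_rc_23_3 lc_g_rc_27_3 lc_g_rc_26_6 lc_g_rc_26_9 lc_g_rc_21_2 lc_g_rc_27_6 lc_g_rc_21_2 lc_g_rc_27_6 lc_g_rc_24_1 lc_g_rc_24_1 lc_g_rc_27_3 lc_g_rc_21_3 lc_g_rc_27_6 lc_g_rc_23_7 lc_g_Cert_tree lc_g_rc_27_6 lc_g_Cert_tree lc_g_rc_23_1 lc_g_rc_23_3 lc_g_rc_21_2 lc_g_Cert_tree lc_g_rc_21_2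 lc_g_rc_21_2 lc_g_rc_26_3 lc_g_Cert_tree lc_g_rc_27_3 lc_g_rc_26_0 lc_g_rc_27_6 lc_g_rc_26_0 lc_g_Cert_tree lc_g_rc_26_6 lc_g_rc_23_1 lc_g_rc_23_3 lc_g_rc_27_9 lc_g_rc_21_2 lc_g_rc_26_3 lc_g_rc_26_6 lc_g_rc_24_1 lc_g_rc_24_7 lc_g_Cert_tree) (@D3.rec (fun _ => (Cert rels S Gen.g)) lc_g_rc_25_19 lc_g_rc_26_3 lc_g_rc_27_9 lc_g_rc_21_3 lc_g_rc_21_2 lc_g_rc_26_3 lc_g_rc_26_6 lc_g_rc_21_2 lc_g_rc_21_3 lc_g_rc_21_3 lc_g_rc_27_0 lc_g_rc_21_3 lc_g_rc_26_6 lc_g_rc_26_6 lc_g_rc_27_0 lc_g_rc_27_9 lc_g_rc_21_2 lc_g_rc_23_1 lc_g_rc_23_3 lc_g_rc_27_0 lc_g_rc_21_3 lc_g_rc_21_3 lc_g_rc_21_2 lc_g_rc_27_6 lc_g_rc_21_2 lc_g_rc_24_3 lc_g_rc_21_3 lc_g_rc_26_6 lc_g_rc_27_3 lc_g_rc_26_3 lc_g_rc_24_3 lc_g_Cert_tree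 lc_g_rc_24_3 lc_g_rc_26_3 lc_g_Cert_tree lc_g_rc_23_3 lc_g_rc_21_2 lc_g_rc_21_3 lc_g_Cert_tree lc_g_rc_27_3 lc_g_rc_23_7 lc_g_rc_27_6 lc_g_rc_21_3 lc_g_Cert_tree lc_g_rc_24_1 lc_g_rc_21_3 lc_g_rc_24_7 lc_g_rc_27_6 lc_g_rc_26_3 lc_g_rc_27_3 lc_g_rc_23_1 lc_g_rc_21_3 lc_g_rc_26_6 lc_g_rc_27_3 lc_g_rc_21_3 lc_g_rc_27_0 lc_g_rc_27_3 lc_g_rc_27_0 lc_g_rc_27_0 lc_g_rc_25_3 lc_g_rc_27_3 lc_g_rc_23_3) (@D3.rec (fun _ => (Cert rels S Gen.g)) lc_g_rc_24_1 lc_g_rc_23_9 lc_g_rc_26_3 lc_g_rc_25_19 lc_g_rc_23_1 lc_g_rc_24_3 lc_g_rc_27_3 lc_g_rc_21_2 lc_g_rc_21_3 lc_g_Cert_tree lc_g_rc_27_6 lc_g_rc_21_3 lc_g_rc_24_1 lc_g_rc_25_7 lc_g_Cert_tree lc_g_rc_21_2 lc_g_rc_27_0 lc_g_rc_27_6 lc_g_rc_26_3 lc_g_rc_21_3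 lc_g_Cert_tree lc_g_rc_21_2 lc_g_rc_24_7 lc_g_rc_26_9 lc_g_rc_26_9 lc_g_rc_26_0 lc_g_Cert_tree lc_g_rc_24_3 lc_g_rc_26_9 lc_g_rc_21_2 lc_g_rc_23_1 lc_g_rc_21_3 lc_g_rc_23_7 lc_g_Cert_tree lc_g_rc_24_3 lc_g_rc_26_0 lc_g_rc_21_2 lc_g_rc_27_3 lc_g_rc_27_0 lc_g_rc_21_3 lc_g_Cert_tree lc_g_rc_21_2 lc_g_rc_24_3 lc_g_rc_21_2 lc_g_rc_21_2 lc_g_Cert_tree lc_g_rc_26_9 lc_g_rc_21_2 lc_g_rc_21_3 lc_g_rc_21_2 lc_g_rc_23_7 lc_g_rc_26_3 lc_g_Cert_tree lc_g_rc_27_6 lc_g_rc_21_3 lc_g_rc_24_7 lc_g_rc_26_9 lc_g_rc_27_0 lc_g_rc_21_3 lc_g_Cert_tree lc_g_rc_21_2 lc_g_rc_21_3) (@D3.rec (fun _ => (Cert rels S Gen.g)) lc_g_rc_21_2 lc_g_rc_24_9 lc_g_rc_21_2 lc_g_rc_27_6 lc_g_rc_23_1 lc_g_rc_21_3 lc_g_rc_21_3 lc_g_rc_27_3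 lc_g_rc_21_3 lc_g_rc_27_9 lc_g_Cert_tree lc_g_rc_23_1 lc_g_rc_26_3 lc_g_rc_21_2 lc_g_Cert_tree lc_g_rc_26_6 lc_g_rc_24_3 lc_g_rc_24_3 lc_g_rc_26_3 lc_g_rc_27_0 lc_g_rc_26_6 lc_g_rc_21_3 lc_g_Cert_tree lc_g_rc_26_6 lc_g_rc_24_1 lc_g_rc_24_7 lc_g_Cert_tree lc_g_Cert_tree lc_g_rc_23_1 lc_g_rc_27_6 lc_g_rc_21_2 lc_g_rc_21_2 lc_g_rc_23_3 lc_g_rc_26_6 lc_g_Cert_tree lc_g_rc_23_1 lc_g_rc_24_7 lc_g_rc_21_3 lc_g_Cert_tree lc_g_rc_26_3 lc_g_rc_21_2 lc_g_rc_21_3 lc_g_rc_21_2 lc_g_rc_26_6 lc_g_rc_27_3 lc_g_rc_27_0 lc_g_rc_26_0 lc_g_rc_26_9 lc_g_rc_26_6 lc_g_rc_21_3 lc_g_rc_21_2 lc_g_rc_21_2 lc_g_rc_27_6 lc_g_Cert_tree lc_g_rc_26_0 lc_g_rc_23_3 lc_g_rc_26_3 lc_g_rc_21_3 lc_g_Cert_tree lc_g_rc_21_2 lc_g_rc_27_6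 lc_g_rc_26_0) (@D3.rec (fun _ => (Cert rels S Gen.g)) lc_g_rc_26_6 lc_g_rc_23_3 lc_g_rc_23_3 lc_g_rc_21_2 lc_g_rc_23_7 lc_g_rc_24_9 lc_g_rc_26_0 lc_g_rc_26_6 lc_g_rc_24_7 lc_g_rc_26_6 lc_g_rc_26_9 lc_g_rc_24_3 lc_g_rc_24_7 lc_g_rc_21_3 lc_g_rc_24_9 lc_g_Cert_tree lc_g_rc_25_19 lc_g_rc_25_3 lc_g_rc_25_19 lc_g_rc_24_1 lc_g_rc_21_2 lc_g_rc_23_9 lc_g_rc_24_3 lc_g_Cert_tree lc_g_rc_26_3 lc_g_rc_21_3 lc_g_rc_26_6 lc_g_rc_24_3 lc_g_rc_21_3 lc_g_rc_21_3 lc_g_rc_24_9 lc_g_rc_24_1 lc_g_rc_26_0 lc_g_rc_21_2 lc_g_rc_21_2 lc_g_rc_26_9 lc_g_rc_26_6 lc_g_rc_26_9 lc_g_rc_21_3 lc_g_Cert_tree lc_g_rc_21_3 lc_g_Cert_tree lc_g_rc_24_9 lc_g_rc_24_1 lc_g_rc_23_3 lc_g_rc_24_1 lc_g_rc_24_1 lc_g_rc_23_1 lc_g_rc_23_7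 lc_g_rc_21_3 lc_g_Cert_tree lc_g_rc_27_6 lc_g_rc_24_1 lc_g_Cert_tree lc_g_rc_23_3 lc_g_rc_21_3 lc_g_rc_21_2 lc_g_rc_21_3 lc_g_rc_21_2 lc_g_Cert_tree lc_g_rc_23_7 lc_g_rc_21_2)
def ce_g_31 : D2 → D3 → (Cert rels S Gen.g) := @D2.rec (fun _ => D3 → (Cert rels S Gen.g)) (@D3.rec (fun _ => (Cert rels S Gen.g)) lc_g_rc_24_7 lc_g_rc_21_3 lc_g_rc_27_0 lc_g_Cert_tree lc_g_rc_25_3 lc_g_rc_26_6 lc_g_rc_24_3 lc_g_rc_24_1 lc_g_Cert_tree lc_g_rc_24_9 lc_g_rc_21_3 lc_g_rc_27_9 lc_g_Cert_tree lc_g_rc_21_2 lc_g_rc_24_1 lc_g_rc_21_3 lc_g_Cert_tree lc_g_rc_21_3 lc_g_rc_21_2 lc_g_rc_27_6 lc_g_rc_23_7 lc_g_rc_24_3 lc_g_rc_24_1 lc_g_Cert_tree lc_g_rc_21_2 lc_g_rc_21_3 lc_g_rc_21_2 lc_g_rc_21_2 lc_g_rc_21_2 lc_g_rc_26_6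 lc_g_rc_24_3 lc_g_rc_27_6 lc_g_rc_23_3 lc_g_rc_24_7 lc_g_rc_24_3 lc_g_rc_21_2 lc_g_rc_21_2 lc_g_rc_23_7 lc_g_rc_27_9 lc_g_rc_21_3 lc_g_rc_26_0 lc_g_rc_23_1 lc_g_rc_26_6 lc_g_rc_23_1 lc_g_Cert_tree lc_g_rc_26_6 lc_g_rc_24_1 lc_g_rc_23_1 lc_g_Cert_tree lc_g_rc_21_2 lc_g_rc_27_6 lc_g_rc_21_2 lc_g_rc_24_3 lc_g_rc_23_3 lc_g_rc_26_6 lc_g_rc_27_0 lc_g_rc_23_1 lc_g_rc_24_9 lc_g_rc_27_6 lc_g_rc_21_2 lc_g_rc_21_3 lc_g_rc_27_3) (@D3.rec (fun _ => (Cert rels S Gen.g)) lc_g_rc_21_3 lc_g_rc_26_6 lc_g_rc_27_9 lc_g_rc_27_3 lc_g_rc_27_6 lc_g_rc_23_7 lc_g_Cert_tree lc_g_rc_24_1 lc_g_rc_26_6 lc_g_rc_21_2 lc_g_rc_24_3 lc_g_rc_24_7 lc_g_rc_24_1 lc_g_rc_23_3 lc_g_rc_23_1 lc_g_rc_21_2 lc_g_rc_21_2 lc_g_rc_26_3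 lc_g_rc_23_9 lc_g_rc_23_1 lc_g_Cert_tree lc_g_rc_21_3 lc_g_rc_26_9 lc_g_rc_21_3 lc_g_rc_21_3 lc_g_rc_21_2 lc_g_rc_25_7 lc_g_rc_24_3 lc_g_rc_24_1 lc_g_rc_27_6 lc_g_rc_27_6 lc_g_rc_21_3 lc_g_rc_26_0 lc_g_rc_21_2 lc_g_rc_24_3 lc_g_rc_21_3 lc_g_rc_23_3 lc_g_rc_23_3 lc_g_rc_24_3 lc_g_rc_26_6 lc_g_rc_26_6 lc_g_rc_23_7 lc_g_rc_21_3 lc_g_rc_25_19 lc_g_rc_21_2 lc_g_rc_24_7 lc_g_rc_25_19 lc_g_rc_24_9 lc_g_rc_24_3 lc_g_rc_23_1 lc_g_rc_27_6 lc_g_rc_23_3 lc_g_rc_27_3 lc_g_rc_24_7 lc_g_rc_26_9 lc_g_rc_26_0 lc_g_rc_27_0 lc_g_rc_27_0 lc_g_rc_24_3 lc_g_rc_21_3 lc_g_rc_26_3 lc_g_rc_26_9) (@D3.rec (fun _ => (Cert rels S Gen.g)) lc_g_rc_23_3 lc_g_rc_21_3 lc_g_Cert_tree lc_g_rc_26_6 lc_g_rc_26_6 lc_g_rc_21_2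 lc_g_rc_23_7 lc_g_rc_26_3 lc_g_rc_24_3 lc_g_rc_21_3 lc_g_rc_24_3 lc_g_rc_21_2 lc_g_rc_21_3 lc_g_Cert_tree lc_g_rc_25_7 lc_g_rc_23_3 lc_g_rc_27_6 lc_g_rc_21_2 lc_g_rc_26_6 lc_g_rc_23_3 lc_g_rc_23_3 lc_g_Cert_tree lc_g_rc_27_3 lc_g_rc_23_3 lc_g_Cert_tree lc_g_rc_21_3 lc_g_rc_24_7 lc_g_rc_27_6 lc_g_rc_23_3 lc_g_rc_23_1 lc_g_rc_26_9 lc_g_rc_27_6 lc_g_rc_27_6 lc_g_rc_21_2 lc_g_Cert_tree lc_g_rc_21_2 lc_g_rc_23_1 lc_g_rc_26_6 lc_g_rc_26_9 lc_g_rc_23_3 lc_g_rc_27_0 lc_g_rc_26_0 lc_g_rc_26_9 lc_g_rc_27_0 lc_g_rc_24_9 lc_g_rc_21_3 lc_g_rc_21_3 lc_g_rc_24_9 lc_g_rc_21_3 lc_g_rc_21_3 lc_g_Cert_tree lc_g_rc_26_3 lc_g_rc_23_3 lc_g_rc_21_2 lc_g_rc_27_0 lc_g_rc_27_3 lc_g_rc_21_2 lc_g_rc_24_7 lc_g_rc_21_3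 lc_g_rc_27_3 lc_g_rc_24_3 lc_g_rc_21_2) (@D3.rec (fun _ => (Cert rels S Gen.g)) lc_g_rc_21_3 lc_g_Cert_tree lc_g_rc_21_3 lc_g_Cert_tree lc_g_rc_21_3 lc_g_rc_25_11 lc_g_rc_21_2 lc_g_rc_27_6 lc_g_rc_26_6 lc_g_rc_24_9 lc_g_rc_23_7 lc_g_rc_23_3 lc_g_Cert_tree lc_g_rc_27_6 lc_g_rc_21_2 lc_g_rc_26_3 lc_g_rc_27_3 lc_g_rc_26_3 lc_g_rc_24_7 lc_g_Cert_tree lc_g_rc_27_0 lc_g_Cert_tree lc_g_rc_21_3 lc_g_rc_26_6 lc_g_rc_21_2 lc_g_rc_26_9 lc_g_rc_26_0 lc_g_rc_24_3 lc_g_rc_27_6 lc_g_rc_27_0 lc_g_rc_24_3 lc_g_rc_21_3 lc_g_rc_21_2 lc_g_rc_26_6 lc_g_Cert_tree lc_g_rc_24_3 lc_g_rc_21_3 lc_g_Cert_tree lc_g_rc_27_6 lc_g_rc_21_3 lc_g_Cert_tree lc_g_rc_26_6 lc_g_rc_27_6 lc_g_rc_26_3 lc_g_rc_24_1 lc_g_rc_24_3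 lc_g_rc_21_3 lc_g_Cert_tree lc_g_rc_26_6 lc_g_rc_27_3 lc_g_rc_26_6 lc_g_rc_21_2 lc_g_rc_27_0 lc_g_rc_27_6 lc_g_rc_21_3 lc_g_Cert_tree lc_g_rc_21_3 lc_g_rc_24_7 lc_g_rc_21_2 lc_g_rc_21_3 lc_g_rc_24_7 lc_g_rc_27_9) (@D3.rec (fun _ => (Cert rels S Gen.g)) lc_g_rc_26_6 lc_g_rc_26_0 lc_g_rc_23_7 lc_g_rc_21_2 lc_g_rc_21_2 lc_g_rc_26_6 lc_g_Cert_tree lc_g_rc_27_3 lc_g_rc_27_6 lc_g_rc_27_6 lc_g_rc_27_6 lc_g_rc_21_3 lc_g_Cert_tree lc_g_rc_21_3 lc_g_rc_21_2 lc_g_rc_24_3 lc_g_rc_24_3 lc_g_rc_23_3 lc_g_rc_27_9 lc_g_rc_23_9 lc_g_rc_27_9 lc_g_rc_27_0 lc_g_rc_21_2 lc_g_rc_24_7 lc_g_rc_24_9 lc_g_rc_27_9 lc_g_rc_24_1 lc_g_Cert_tree lc_g_rc_21_3 lc_g_Cert_tree lc_g_rc_26_6 lc_g_rc_21_3 lc_g_rc_27_9 lc_g_rc_21_2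 lc_g_rc_27_0 lc_g_rc_21_3 lc_g_rc_21_2 lc_g_rc_21_3 lc_g_Cert_tree lc_g_rc_21_3 lc_g_rc_26_9 lc_g_rc_27_3 lc_g_rc_26_6 lc_g_rc_26_9 lc_g_rc_27_0 lc_g_rc_25_7 lc_g_rc_23_3 lc_g_rc_26_9 lc_g_rc_21_3 lc_g_Cert_tree lc_g_rc_21_2 lc_g_rc_21_3 lc_g_Cert_tree lc_g_rc_21_2 lc_g_rc_27_6 lc_g_Cert_tree lc_g_rc_26_6 lc_g_rc_27_9 lc_g_rc_21_3 lc_g_rc_24_3 lc_g_rc_27_3 lc_g_rc_26_3) (@D3.rec (fun _ => (Cert rels S Gen.g)) lc_g_rc_21_3 lc_g_rc_27_3 lc_g_rc_21_2 lc_g_rc_27_6 lc_g_Cert_tree lc_g_rc_24_7 lc_g_rc_21_3 lc_g_rc_23_3 lc_g_rc_27_6 lc_g_rc_21_3 lc_g_Cert_tree lc_g_rc_21_3 lc_g_Cert_tree lc_g_rc_23_1 lc_g_rc_23_3 lc_g_rc_23_7 lc_g_rc_27_0 lc_g_rc_27_6 lc_g_rc_21_3 lc_g_Cert_tree lc_g_rc_27_0 lc_g_rc_21_2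 lc_g_rc_21_3 lc_g_rc_27_6 lc_g_rc_21_3 lc_g_rc_21_2 lc_g_rc_24_1 lc_g_rc_21_3 lc_g_rc_23_7 lc_g_rc_27_3 lc_g_rc_24_3 lc_g_rc_27_6 lc_g_Cert_tree lc_g_rc_21_2 lc_g_rc_27_0 lc_g_rc_26_6 lc_g_rc_21_3 lc_g_Cert_tree lc_g_rc_23_9 lc_g_rc_26_6 lc_g_rc_21_2 lc_g_rc_27_6 lc_g_rc_26_0 lc_g_Cert_tree lc_g_rc_21_2 lc_g_rc_27_3 lc_g_rc_26_6 lc_g_rc_26_6 lc_g_rc_26_3 lc_g_rc_26_6 lc_g_rc_21_3 lc_g_Cert_tree lc_g_rc_27_9 lc_g_rc_27_0 lc_g_rc_21_2 lc_g_rc_26_3 lc_g_rc_27_3 lc_g_Cert_tree lc_g_rc_21_2 lc_g_rc_27_0 lc_g_rc_24_1 lc_g_rc_21_2) (@D3.rec (fun _ => (Cert rels S Gen.g)) lc_g_Cert_tree lc_g_rc_26_6 lc_g_rc_23_7 lc_g_rc_26_6 lc_g_Cert_tree lc_g_rc_26_3 lc_g_Cert_tree lc_g_rc_21_2 lc_g_rc_26_0 lc_g_rc_27_0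 lc_g_rc_27_3 lc_g_rc_27_3 lc_g_rc_24_3 lc_g_rc_21_2 lc_g_rc_26_6 lc_g_rc_26_6 lc_g_rc_21_3 lc_g_rc_21_3 lc_g_rc_23_9 lc_g_rc_26_3 lc_g_rc_27_3 lc_g_rc_21_2 lc_g_rc_26_6 lc_g_rc_24_3 lc_g_rc_26_0 lc_g_rc_21_3 lc_g_Cert_tree lc_g_rc_21_2 lc_g_rc_23_3 lc_g_rc_27_9 lc_g_rc_27_0 lc_g_rc_26_6 lc_g_rc_24_7 lc_g_rc_27_6 lc_g_rc_24_7 lc_g_rc_27_6 lc_g_rc_21_2 lc_g_rc_21_3 lc_g_Cert_tree lc_g_rc_23_3 lc_g_rc_26_3 lc_g_rc_23_3 lc_g_rc_27_6 lc_g_rc_21_3 lc_g_Cert_tree lc_g_rc_21_2 lc_g_Cert_tree lc_g_rc_21_3 lc_g_rc_27_6 lc_g_rc_27_6 lc_g_rc_25_15 lc_g_rc_27_6 lc_g_rc_27_3 lc_g_rc_26_0 lc_g_rc_27_0 lc_g_rc_24_1 lc_g_rc_26_6 lc_g_rc_21_3 lc_g_rc_26_6 lc_g_rc_27_0 lc_g_rc_21_3 lc_g_rc_26_6) (@D3.rec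 (fun _ => (Cert rels S Gen.g)) lc_g_rc_21_3 lc_g_rc_21_3 lc_g_rc_21_2 lc_g_rc_21_2 lc_g_rc_27_9 lc_g_rc_23_1 lc_g_rc_21_2 lc_g_rc_27_3 lc_g_rc_24_7 lc_g_Cert_tree lc_g_rc_23_3 lc_g_Cert_tree lc_g_rc_21_2 lc_g_rc_26_3 lc_g_rc_24_3 lc_g_rc_24_1 lc_g_rc_23_3 lc_g_Cert_tree lc_g_rc_21_2 lc_g_rc_27_6 lc_g_rc_27_9 lc_g_rc_27_9 lc_g_rc_24_3 lc_g_rc_23_9 lc_g_rc_24_3 lc_g_rc_27_3 lc_g_rc_27_6 lc_g_rc_23_7 lc_g_rc_23_3 lc_g_rc_21_2 lc_g_rc_26_6 lc_g_rc_24_9 lc_g_rc_27_6 lc_g_Cert_tree lc_g_rc_26_0 lc_g_rc_27_6 lc_g_rc_27_6 lc_g_rc_26_0 lc_g_rc_21_2 lc_g_rc_21_3 lc_g_Cert_tree lc_g_rc_27_9 lc_g_rc_26_6 lc_g_rc_24_9 lc_g_rc_27_6 lc_g_rc_27_6 lc_g_rc_27_3 lc_g_rc_26_6 lc_g_rc_21_3 lc_g_rc_21_3 lc_g_rc_21_3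 lc_g_rc_23_3 lc_g_rc_24_1 lc_g_rc_27_6 lc_g_rc_24_1 lc_g_rc_26_0 lc_g_rc_26_0 lc_g_rc_27_9 lc_g_rc_27_6 lc_g_rc_21_3 lc_g_rc_21_3 lc_g_rc_26_6) (@D3.rec (fun _ => (Cert rels S Gen.g)) lc_g_rc_24_1 lc_g_rc_26_6 lc_g_rc_24_1 lc_g_Cert_tree lc_g_Cert_tree lc_g_rc_25_19 lc_g_rc_27_3 lc_g_rc_21_2 lc_g_rc_21_2 lc_g_rc_21_3 lc_g_Cert_tree lc_g_rc_21_3 lc_g_Cert_tree lc_g_rc_21_2 lc_g_rc_21_2 lc_g_rc_23_9 lc_g_rc_23_9 lc_g_rc_26_6 lc_g_rc_27_3 lc_g_rc_21_2 lc_g_rc_24_7 lc_g_rc_21_2 lc_g_rc_26_3 lc_g_rc_24_3 lc_g_rc_26_9 lc_g_rc_23_3 lc_g_rc_27_0 lc_g_rc_24_3 lc_g_rc_21_3 lc_g_rc_24_7 lc_g_rc_27_6 lc_g_rc_21_3 lc_g_Cert_tree lc_g_rc_24_3 lc_g_rc_21_3 lc_g_Cert_tree lc_g_rc_21_3 lc_g_rc_27_6 lc_g_rc_25_7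 lc_g_rc_21_2 lc_g_rc_21_3 lc_g_Cert_tree lc_g_rc_23_1 lc_g_rc_21_2 lc_g_rc_21_3 lc_g_Cert_tree lc_g_rc_21_2 lc_g_rc_24_3 lc_g_rc_23_3 lc_g_rc_21_3 lc_g_rc_24_1 lc_g_rc_21_2 lc_g_rc_26_3 lc_g_rc_23_1 lc_g_rc_21_3 lc_g_Cert_tree lc_g_rc_21_2 lc_g_rc_21_3 lc_g_Cert_tree lc_g_rc_21_2 lc_g_rc_21_3 lc_g_Cert_tree) (@D3.rec (fun _ => (Cert rels S Gen.g)) lc_g_rc_23_1 lc_g_rc_21_3 lc_g_Cert_tree lc_g_rc_23_9 lc_g_rc_24_1 lc_g_rc_27_3 lc_g_rc_21_3 lc_g_Cert_tree lc_g_rc_21_2 lc_g_rc_27_6 lc_g_rc_27_3 lc_g_rc_21_2 lc_g_rc_26_3 lc_g_rc_26_0 lc_g_rc_26_3 lc_g_rc_23_3 lc_g_rc_23_3 lc_g_rc_26_0 lc_g_rc_27_6 lc_g_rc_27_6 lc_g_Cert_tree lc_g_rc_27_6 lc_g_rc_26_3 lc_g_rc_21_3 lc_g_rc_26_6 lc_g_rc_21_3 lc_g_rc_21_2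 lc_g_rc_24_9 lc_g_rc_27_6 lc_g_rc_24_3 lc_g_rc_24_7 lc_g_rc_26_6 lc_g_rc_27_3 lc_g_Cert_tree lc_g_rc_26_3 lc_g_rc_27_6 lc_g_rc_21_3 lc_g_Cert_tree lc_g_rc_21_2 lc_g_rc_21_2 lc_g_Cert_tree lc_g_rc_21_2 lc_g_rc_21_2 lc_g_rc_24_1 lc_g_rc_23_1 lc_g_rc_27_6 lc_g_rc_21_3 lc_g_rc_24_1 lc_g_rc_25_19 lc_g_rc_23_3 lc_g_rc_24_9 lc_g_rc_27_0 lc_g_rc_21_2 lc_g_rc_21_2 lc_g_rc_21_2 lc_g_rc_21_3 lc_g_Cert_tree lc_g_rc_21_3 lc_g_rc_27_6 lc_g_rc_23_3 lc_g_rc_27_0 lc_g_rc_23_9) (@D3.rec (fun _ => (Cert rels S Gen.g)) lc_g_rc_23_3 lc_g_rc_25_7 lc_g_Cert_tree lc_g_rc_26_9 lc_g_rc_27_6 lc_g_rc_21_3 lc_g_Cert_tree lc_g_rc_21_2 lc_g_rc_24_7 lc_g_rc_26_6 lc_g_rc_27_6 lc_g_rc_26_6 lc_g_rc_23_9 lc_g_rc_26_3 lc_g_Cert_tree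 lc_g_rc_21_2 lc_g_rc_23_1 lc_g_rc_27_3 lc_g_rc_26_3 lc_g_rc_21_3 lc_g_rc_27_0 lc_g_rc_24_3 lc_g_rc_26_6 lc_g_rc_27_3 lc_g_rc_26_6 lc_g_rc_23_3 lc_g_Cert_tree lc_g_rc_27_9 lc_g_rc_27_0 lc_g_rc_23_1 lc_g_rc_27_3 lc_g_rc_21_3 lc_g_rc_26_6 lc_g_rc_21_2 lc_g_rc_24_1 lc_g_rc_24_7 lc_g_rc_24_3 lc_g_rc_26_9 lc_g_rc_21_3 lc_g_Cert_tree lc_g_rc_27_6 lc_g_rc_26_9 lc_g_rc_27_6 lc_g_rc_26_9 lc_g_Cert_tree lc_g_rc_27_3 lc_g_rc_21_2 lc_g_rc_21_3 lc_g_rc_21_3 lc_g_rc_23_9 lc_g_rc_21_3 lc_g_rc_21_3 lc_g_rc_21_3 lc_g_rc_24_9 lc_g_rc_25_3 lc_g_rc_23_3 lc_g_rc_26_9 lc_g_rc_21_3 lc_g_Cert_tree lc_g_Cert_tree lc_g_rc_24_7 lc_g_rc_24_3) (@D3.rec (fun _ => (Cert rels S Gen.g)) lc_g_rc_27_6 lc_g_rc_27_3 lc_g_rc_21_2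 lc_g_rc_27_3 lc_g_rc_21_2 lc_g_rc_21_3 lc_g_rc_26_6 lc_g_rc_26_3 lc_g_Cert_tree lc_g_rc_26_0 lc_g_rc_27_9 lc_g_rc_27_0 lc_g_rc_26_6 lc_g_rc_23_1 lc_g_rc_21_2 lc_g_rc_26_6 lc_g_rc_26_6 lc_g_rc_21_2 lc_g_rc_27_0 lc_g_rc_26_3 lc_g_rc_26_6 lc_g_rc_27_6 lc_g_rc_21_2 lc_g_rc_24_3 lc_g_rc_23_9 lc_g_rc_27_6 lc_g_rc_24_1 lc_g_rc_26_9 lc_g_rc_26_9 lc_g_rc_25_3 lc_g_rc_26_9 lc_g_rc_26_3 lc_g_rc_27_6 lc_g_rc_27_0 lc_g_Cert_tree lc_g_Cert_tree lc_g_rc_26_6 lc_g_rc_26_0 lc_g_Cert_tree lc_g_rc_21_3 lc_g_rc_26_0 lc_g_rc_25_19 lc_g_rc_26_3 lc_g_rc_23_1 lc_g_rc_24_9 lc_g_rc_25_19 lc_g_rc_26_6 lc_g_rc_27_0 lc_g_rc_21_2 lc_g_rc_27_3 lc_g_rc_26_3 lc_g_rc_23_1 lc_g_rc_21_2 lc_g_rc_24_3 lc_g_rc_21_3 lc_g_rc_21_3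 lc_g_Cert_tree lc_g_rc_21_2 lc_g_rc_27_6 lc_g_rc_21_2 lc_g_rc_21_2 lc_g_rc_23_7) (@D3.rec (fun _ => (Cert rels S Gen.g)) lc_g_rc_23_1 lc_g_rc_21_2 lc_g_rc_27_9 lc_g_rc_27_9 lc_g_rc_21_3 lc_g_rc_27_3 lc_g_rc_23_3 lc_g_Cert_tree lc_g_rc_21_3 lc_g_Cert_tree lc_g_rc_21_3 lc_g_rc_21_3 lc_g_rc_21_3 lc_g_rc_25_3 lc_g_rc_25_19 lc_g_Cert_tree lc_g_rc_23_1 lc_g_rc_23_1 lc_g_rc_27_0 lc_g_rc_21_3 lc_g_rc_27_9 lc_g_Cert_tree lc_g_rc_21_3 lc_g_Cert_tree lc_g_rc_21_2 lc_g_rc_27_0 lc_g_Cert_tree lc_g_rc_24_3 lc_g_rc_21_3 lc_g_rc_27_6 lc_g_rc_27_0 lc_g_rc_27_3 lc_g_rc_24_3 lc_g_rc_21_3 lc_g_rc_26_6 lc_g_rc_24_3 lc_g_rc_26_9 lc_g_rc_26_3 lc_g_rc_21_3 lc_g_rc_25_19 lc_g_rc_27_6 lc_g_rc_21_2 lc_g_rc_21_2 lc_g_rc_21_3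 lc_g_Cert_tree lc_g_rc_21_2 lc_g_rc_21_3 lc_g_Cert_tree lc_g_rc_27_3 lc_g_rc_24_7 lc_g_rc_21_3 lc_g_Cert_tree lc_g_rc_27_3 lc_g_rc_25_3 lc_g_rc_27_0 lc_g_rc_24_1 lc_g_rc_21_2 lc_g_Cert_tree lc_g_rc_27_0 lc_g_rc_24_3 lc_g_Cert_tree lc_g_rc_25_3) (@D3.rec (fun _ => (Cert rels S Gen.g)) lc_g_rc_21_2 lc_g_rc_21_2 lc_g_rc_24_3 lc_g_Cert_tree lc_g_rc_27_6 lc_g_rc_21_2 lc_g_rc_27_0 lc_g_rc_23_9 lc_g_rc_21_3 lc_g_rc_21_3 lc_g_Cert_tree lc_g_rc_24_1 lc_g_rc_23_1 lc_g_rc_23_7 lc_g_Cert_tree lc_g_rc_24_3 lc_g_rc_27_3 lc_g_rc_26_9 lc_g_rc_26_3 lc_g_rc_23_1 lc_g_rc_24_3 lc_g_rc_24_1 lc_g_rc_23_1 lc_g_rc_24_1 lc_g_rc_26_9 lc_g_rc_21_2 lc_g_rc_26_6 lc_g_rc_23_3 lc_g_rc_27_6 lc_g_Cert_tree lc_g_Cert_tree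 lc_g_rc_26_6 lc_g_rc_26_0 lc_g_rc_26_3 lc_g_rc_21_3 lc_g_rc_27_6 lc_g_rc_24_3 lc_g_rc_21_2 lc_g_rc_26_3 lc_g_rc_27_6 lc_g_rc_26_3 lc_g_rc_21_3 lc_g_rc_21_2 lc_g_rc_27_0 lc_g_rc_24_3 lc_g_rc_25_3 lc_g_rc_23_7 lc_g_rc_21_3 lc_g_rc_26_3 lc_g_rc_24_3 lc_g_rc_27_0 lc_g_rc_23_9 lc_g_rc_21_3 lc_g_rc_21_3 lc_g_rc_21_2 lc_g_rc_21_3 lc_g_Cert_tree lc_g_rc_23_3 lc_g_rc_21_3 lc_g_rc_23_9 lc_g_rc_25_11 lc_g_rc_23_7) (@D3.rec (fun _ => (Cert rels S Gen.g)) lc_g_rc_27_3 lc_g_rc_26_3 lc_g_rc_24_7 lc_g_rc_24_7 lc_g_rc_27_6 lc_g_rc_26_0 lc_g_rc_21_3 lc_g_rc_27_3 lc_g_rc_23_7 lc_g_rc_26_9 lc_g_rc_24_3 lc_g_rc_24_1 lc_g_rc_24_7 lc_g_Cert_tree lc_g_rc_21_3 lc_g_rc_23_3 lc_g_rc_21_3 lc_g_rc_24_1 lc_g_rc_26_6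 lc_g_rc_24_9 lc_g_Cert_tree lc_g_rc_23_3 lc_g_Cert_tree lc_g_rc_23_3 lc_g_rc_21_3 lc_g_Cert_tree lc_g_rc_27_0 lc_g_rc_27_3 lc_g_rc_21_2 lc_g_rc_21_3 lc_g_Cert_tree lc_g_rc_23_9 lc_g_rc_27_0 lc_g_rc_21_3 lc_g_rc_26_6 lc_g_rc_21_3 lc_g_Cert_tree lc_g_rc_21_2 lc_g_rc_26_9 lc_g_rc_27_6 lc_g_rc_26_6 lc_g_Cert_tree lc_g_rc_26_0 lc_g_rc_26_6 lc_g_rc_26_9 lc_g_rc_27_6 lc_g_rc_23_9 lc_g_rc_25_19 lc_g_rc_27_6 lc_g_rc_27_6 lc_g_rc_21_2 lc_g_rc_21_3 lc_g_Cert_tree lc_g_rc_27_6 lc_g_rc_26_3 lc_g_rc_21_3 lc_g_rc_25_19 lc_g_Cert_tree lc_g_rc_26_3 lc_g_rc_26_3 lc_g_rc_26_9 lc_g_rc_26_3) (@D3.rec (fun _ => (Cert rels S Gen.g)) lc_g_rc_23_3 lc_g_rc_21_2 lc_g_rc_27_6 lc_g_rc_21_3 lc_g_rc_27_6 lc_g_Cert_tree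 lc_g_rc_27_6 lc_g_rc_25_19 lc_g_Cert_tree lc_g_rc_21_2 lc_g_rc_25_19 lc_g_rc_27_9 lc_g_rc_21_3 lc_g_rc_26_3 lc_g_rc_26_6 lc_g_rc_27_3 lc_g_rc_27_9 lc_g_rc_27_0 lc_g_rc_26_0 lc_g_rc_24_7 lc_g_Cert_tree lc_g_rc_26_6 lc_g_rc_26_6 lc_g_rc_21_3 lc_g_rc_27_3 lc_g_rc_23_3 lc_g_rc_27_0 lc_g_rc_26_9 lc_g_rc_23_7 lc_g_rc_27_6 lc_g_rc_21_3 lc_g_rc_26_3 lc_g_rc_26_9 lc_g_rc_25_3 lc_g_rc_25_19 lc_g_rc_23_3 lc_g_rc_21_3 lc_g_Cert_tree lc_g_rc_27_9 lc_g_rc_27_0 lc_g_rc_26_6 lc_g_rc_27_6 lc_g_rc_24_7 lc_g_rc_26_9 lc_g_rc_25_19 lc_g_rc_21_3 lc_g_Cert_tree lc_g_rc_26_6 lc_g_rc_21_3 lc_g_rc_21_3 lc_g_rc_24_1 lc_g_rc_24_3 lc_g_Cert_tree lc_g_rc_26_6 lc_g_rc_21_3 lc_g_rc_23_3 lc_g_rc_24_3 lc_g_Cert_tree lc_g_rc_21_2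 lc_g_rc_21_3 lc_g_Cert_tree lc_g_rc_23_3) (@D3.rec (fun _ => (Cert rels S Gen.g)) lc_g_rc_23_7 lc_g_Cert_tree lc_g_rc_21_2 lc_g_rc_27_6 lc_g_rc_21_3 lc_g_Cert_tree lc_g_rc_23_7 lc_g_rc_23_3 lc_g_Cert_tree lc_g_rc_26_6 lc_g_rc_27_0 lc_g_rc_26_6 lc_g_rc_27_0 lc_g_rc_21_3 lc_g_Cert_tree lc_g_rc_27_3 lc_g_rc_26_3 lc_g_rc_27_6 lc_g_Cert_tree lc_g_rc_21_2 lc_g_rc_26_0 lc_g_rc_26_3 lc_g_rc_26_0 lc_g_Cert_tree lc_g_rc_26_6 lc_g_rc_26_3 lc_g_rc_21_3 lc_g_Cert_tree lc_g_rc_21_2 lc_g_rc_23_1 lc_g_rc_21_2 lc_g_rc_21_3 lc_g_Cert_tree lc_g_rc_21_2 lc_g_rc_24_3 lc_g_rc_21_2 lc_g_rc_21_2 lc_g_rc_23_1 lc_g_rc_24_3 lc_g_rc_23_7 lc_g_rc_27_0 lc_g_Cert_tree lc_g_rc_21_3 lc_g_Cert_tree lc_g_rc_21_2 lc_g_rc_26_3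 lc_g_rc_27_6 lc_g_rc_26_6 lc_g_rc_27_6 lc_g_rc_23_7 lc_g_rc_23_7 lc_g_rc_26_6 lc_g_rc_21_3 lc_g_rc_25_19 lc_g_rc_25_19 lc_g_rc_26_6 lc_g_Cert_tree lc_g_rc_21_3 lc_g_rc_23_9 lc_g_rc_23_3 lc_g_Cert_tree lc_g_rc_23_7) (@D3.rec (fun _ => (Cert rels S Gen.g)) lc_g_rc_27_6 lc_g_rc_26_6 lc_g_rc_27_0 lc_g_rc_21_2 lc_g_rc_27_9 lc_g_rc_24_3 lc_g_rc_26_6 lc_g_rc_21_3 lc_g_rc_21_2 lc_g_rc_21_2 lc_g_Cert_tree lc_g_rc_26_6 lc_g_rc_21_2 lc_g_rc_23_3 lc_g_rc_21_3 lc_g_Cert_tree lc_g_rc_21_2 lc_g_rc_26_9 lc_g_rc_23_7 lc_g_rc_26_0 lc_g_rc_26_6 lc_g_rc_27_9 lc_g_rc_21_2 lc_g_rc_27_3 lc_g_rc_25_15 lc_g_rc_21_2 lc_g_rc_27_6 lc_g_rc_26_6 lc_g_rc_24_7 lc_g_rc_21_3 lc_g_rc_21_2 lc_g_rc_26_6 lc_g_rc_27_9 lc_g_rc_24_7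 lc_g_rc_26_9 lc_g_rc_26_6 lc_g_rc_24_1 lc_g_rc_21_2 lc_g_rc_23_9 lc_g_rc_27_6 lc_g_rc_21_2 lc_g_rc_21_3 lc_g_rc_21_2 lc_g_rc_24_3 lc_g_rc_23_1 lc_g_rc_24_3 lc_g_rc_24_1 lc_g_rc_21_3 lc_g_Cert_tree lc_g_rc_24_1 lc_g_Cert_tree lc_g_Cert_tree lc_g_rc_26_3 lc_g_rc_21_2 lc_g_rc_21_2 lc_g_rc_25_7 lc_g_rc_24_9 lc_g_rc_21_2 lc_g_rc_27_0 lc_g_Cert_tree lc_g_rc_24_1 lc_g_rc_23_3) (@D3.rec (fun _ => (Cert rels S Gen.g)) lc_g_rc_21_2 lc_g_rc_21_3 lc_g_rc_21_2 lc_g_rc_21_2 lc_g_rc_24_1 lc_g_rc_26_9 lc_g_rc_26_6 lc_g_rc_27_3 lc_g_rc_24_7 lc_g_rc_23_1 lc_g_rc_26_6 lc_g_rc_21_2 lc_g_rc_23_1 lc_g_rc_26_0 lc_g_Cert_tree lc_g_rc_24_3 lc_g_rc_21_3 lc_g_rc_27_6 lc_g_rc_21_2 lc_g_rc_27_9 lc_g_rc_21_2 lc_g_rc_21_3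 lc_g_rc_23_9 lc_g_rc_21_2 lc_g_rc_27_6 lc_g_rc_27_6 lc_g_rc_21_2 lc_g_rc_21_2 lc_g_Cert_tree lc_g_rc_27_0 lc_g_rc_23_1 lc_g_rc_23_7 lc_g_rc_21_2 lc_g_rc_21_3 lc_g_rc_26_0 lc_g_Cert_tree lc_g_rc_26_6 lc_g_rc_21_2 lc_g_rc_24_1 lc_g_rc_24_1 lc_g_rc_26_0 lc_g_rc_21_3 lc_g_Cert_tree lc_g_rc_21_2 lc_g_Cert_tree lc_g_rc_21_2 lc_g_rc_21_3 lc_g_rc_27_9 lc_g_rc_27_6 lc_g_rc_21_3 lc_g_rc_26_3 lc_g_rc_21_2 lc_g_rc_26_6 lc_g_rc_27_3 lc_g_rc_27_6 lc_g_rc_21_2 lc_g_rc_27_6 lc_g_rc_21_2 lc_g_rc_21_3 lc_g_rc_26_0 lc_g_rc_21_2 lc_g_rc_23_9) (@D3.rec (fun _ => (Cert rels S Gen.g)) lc_g_rc_21_2 lc_g_rc_26_6 lc_g_rc_23_7 lc_g_rc_23_3 lc_g_rc_21_2 lc_g_rc_21_3 lc_g_rc_21_3 lc_g_Cert_tree lc_g_rc_24_3 lc_g_rc_24_1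 lc_g_rc_25_19 lc_g_rc_24_3 lc_g_rc_27_6 lc_g_rc_26_3 lc_g_rc_26_0 lc_g_Cert_tree lc_g_rc_23_1 lc_g_rc_26_3 lc_g_rc_23_7 lc_g_rc_27_6 lc_g_rc_24_3 lc_g_rc_26_3 lc_g_rc_27_6 lc_g_rc_27_3 lc_g_rc_26_9 lc_g_rc_26_3 lc_g_rc_24_1 lc_g_rc_26_3 lc_g_rc_26_0 lc_g_rc_24_3 lc_g_Cert_tree lc_g_rc_24_9 lc_g_rc_21_3 lc_g_rc_25_7 lc_g_rc_21_3 lc_g_rc_21_2 lc_g_Cert_tree lc_g_rc_24_3 lc_g_rc_23_9 lc_g_rc_21_3 lc_g_rc_21_2 lc_g_rc_23_7 lc_g_Cert_tree lc_g_rc_26_9 lc_g_rc_21_3 lc_g_rc_24_1 lc_g_rc_26_9 lc_g_rc_26_6 lc_g_rc_24_1 lc_g_rc_24_3 lc_g_rc_27_6 lc_g_Cert_tree lc_g_rc_26_3 lc_g_rc_24_3 lc_g_rc_21_3 lc_g_Cert_tree lc_g_rc_26_3 lc_g_rc_21_2 lc_g_rc_26_3 lc_g_rc_26_6 lc_g_rc_26_3 lc_g_rc_26_3) (@D3.rec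 (fun _ => (Cert rels S Gen.g)) lc_g_Cert_tree lc_g_rc_24_7 lc_g_rc_27_0 lc_g_rc_26_3 lc_g_Cert_tree lc_g_rc_26_3 lc_g_rc_23_1 lc_g_rc_21_2 lc_g_rc_27_9 lc_g_Cert_tree lc_g_rc_23_9 lc_g_rc_26_0 lc_g_rc_26_9 lc_g_rc_26_3 lc_g_rc_27_0 lc_g_rc_24_1 lc_g_rc_23_1 lc_g_rc_24_3 lc_g_rc_23_9 lc_g_rc_23_3 lc_g_rc_26_3 lc_g_Cert_tree lc_g_rc_24_1 lc_g_rc_27_0 lc_g_rc_25_11 lc_g_Cert_tree lc_g_rc_21_2 lc_g_rc_27_6 lc_g_rc_26_0 lc_g_rc_27_6 lc_g_rc_23_7 lc_g_rc_24_3 lc_g_rc_27_6 lc_g_rc_21_3 lc_g_rc_23_1 lc_g_Cert_tree lc_g_rc_21_3 lc_g_rc_24_1 lc_g_rc_26_3 lc_g_rc_26_6 lc_g_rc_26_6 lc_g_rc_21_2 lc_g_rc_24_7 lc_g_rc_27_6 lc_g_rc_26_6 lc_g_rc_27_3 lc_g_rc_27_0 lc_g_rc_26_6 lc_g_rc_23_3 lc_g_rc_21_2 lc_g_rc_27_0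 lc_g_rc_21_2 lc_g_rc_21_3 lc_g_rc_27_6 lc_g_rc_26_6 lc_g_rc_24_9 lc_g_rc_27_3 lc_g_rc_25_7 lc_g_rc_21_2 lc_g_rc_26_6 lc_g_rc_21_3 lc_g_rc_21_2) (@D3.rec (fun _ => (Cert rels S Gen.g)) lc_g_rc_26_3 lc_g_rc_23_3 lc_g_rc_27_6 lc_g_rc_24_9 lc_g_rc_26_6 lc_g_rc_26_6 lc_g_rc_26_3 lc_g_rc_24_7 lc_g_rc_27_6 lc_g_rc_23_3 lc_g_rc_23_3 lc_g_rc_27_0 lc_g_rc_21_3 lc_g_rc_21_2 lc_g_rc_21_2 lc_g_rc_26_3 lc_g_rc_23_1 lc_g_rc_26_9 lc_g_rc_26_6 lc_g_rc_23_3 lc_g_rc_21_2 lc_g_rc_23_7 lc_g_rc_23_1 lc_g_Cert_tree lc_g_rc_26_0 lc_g_rc_25_3 lc_g_rc_23_3 lc_g_rc_21_3 lc_g_rc_27_6 lc_g_rc_23_3 lc_g_Cert_tree lc_g_rc_24_1 lc_g_rc_27_3 lc_g_rc_27_9 lc_g_rc_26_3 lc_g_rc_21_3 lc_g_rc_25_19 lc_g_rc_26_6 lc_g_rc_21_3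 lc_g_rc_27_3 lc_g_rc_27_0 lc_g_rc_27_6 lc_g_rc_21_3 lc_g_rc_21_3 lc_g_Cert_tree lc_g_rc_21_2 lc_g_Cert_tree lc_g_rc_26_6 lc_g_rc_26_6 lc_g_rc_23_9 lc_g_rc_21_3 lc_g_rc_25_19 lc_g_rc_23_1 lc_g_rc_26_0 lc_g_rc_25_19 lc_g_rc_25_15 lc_g_rc_26_3 lc_g_rc_21_3 lc_g_rc_21_2 lc_g_rc_21_2 lc_g_rc_21_2 lc_g_rc_21_2) (@D3.rec (fun _ => (Cert rels S Gen.g)) lc_g_rc_27_3 lc_g_rc_26_0 lc_g_Cert_tree lc_g_rc_23_7 lc_g_rc_24_9 lc_g_rc_26_3 lc_g_rc_23_3 lc_g_rc_23_7 lc_g_rc_24_9 lc_g_rc_23_3 lc_g_Cert_tree lc_g_rc_24_3 lc_g_rc_26_3 lc_g_rc_26_6 lc_g_rc_27_6 lc_g_rc_21_2 lc_g_rc_21_2 lc_g_rc_27_0 lc_g_rc_27_6 lc_g_rc_26_6 lc_g_rc_23_9 lc_g_rc_25_3 lc_g_rc_23_7 lc_g_rc_23_3 lc_g_rc_21_3 lc_g_rc_27_6 lc_g_rc_21_3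 lc_g_rc_26_3 lc_g_rc_24_1 lc_g_rc_24_1 lc_g_Cert_tree lc_g_rc_21_2 lc_g_rc_23_7 lc_g_rc_26_3 lc_g_rc_21_2 lc_g_rc_21_3 lc_g_rc_21_2 lc_g_rc_23_7 lc_g_rc_27_6 lc_g_rc_23_7 lc_g_rc_27_6 lc_g_Cert_tree lc_g_rc_27_9 lc_g_rc_27_6 lc_g_rc_24_1 lc_g_rc_24_7 lc_g_Cert_tree lc_g_rc_27_3 lc_g_rc_26_6 lc_g_Cert_tree lc_g_rc_26_6 lc_g_rc_21_2 lc_g_rc_27_6 lc_g_rc_26_3 lc_g_rc_26_3 lc_g_rc_21_3 lc_g_rc_23_9 lc_g_rc_26_6 lc_g_rc_23_1 lc_g_Cert_tree lc_g_rc_23_3 lc_g_Cert_tree) (@D3.rec (fun _ => (Cert rels S Gen.g)) lc_g_rc_21_2 lc_g_rc_27_3 lc_g_Cert_tree lc_g_rc_27_6 lc_g_rc_25_19 lc_g_rc_27_9 lc_g_rc_27_3 lc_g_rc_21_3 lc_g_Cert_tree lc_g_rc_24_1 lc_g_rc_21_2 lc_g_rc_25_19 lc_g_rc_27_6 lc_g_rc_21_3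 lc_g_rc_26_6 lc_g_rc_21_3 lc_g_rc_26_9 lc_g_rc_26_3 lc_g_rc_23_7 lc_g_Cert_tree lc_g_rc_27_3 lc_g_rc_21_2 lc_g_rc_27_9 lc_g_rc_23_1 lc_g_rc_23_9 lc_g_rc_27_3 lc_g_rc_27_6 lc_g_rc_27_9 lc_g_rc_24_9 lc_g_rc_24_1 lc_g_rc_23_9 lc_g_rc_25_15 lc_g_rc_23_1 lc_g_Cert_tree lc_g_rc_23_3 lc_g_rc_26_0 lc_g_Cert_tree lc_g_rc_26_6 lc_g_rc_26_3 lc_g_rc_27_6 lc_g_rc_24_3 lc_g_rc_23_3 lc_g_Cert_tree lc_g_rc_21_3 lc_g_rc_26_6 lc_g_rc_24_1 lc_g_rc_25_19 lc_g_rc_26_9 lc_g_rc_21_2 lc_g_rc_27_6 lc_g_rc_24_1 lc_g_rc_27_6 lc_g_rc_25_7 lc_g_rc_27_3 lc_g_rc_26_9 lc_g_rc_26_6 lc_g_rc_26_3 lc_g_rc_23_7 lc_g_rc_27_6 lc_g_rc_27_6 lc_g_rc_27_0 lc_g_rc_26_9) (@D3.rec (fun _ => (Cert rels S Gen.g)) lc_g_rc_26_3 lc_g_rc_27_6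 lc_g_rc_24_3 lc_g_Cert_tree lc_g_rc_21_2 lc_g_rc_27_3 lc_g_rc_21_3 lc_g_rc_27_6 lc_g_rc_23_3 lc_g_rc_23_7 lc_g_Cert_tree lc_g_rc_24_3 lc_g_rc_21_2 lc_g_rc_23_1 lc_g_rc_21_2 lc_g_rc_24_1 lc_g_rc_21_2 lc_g_Cert_tree lc_g_rc_27_6 lc_g_rc_24_7 lc_g_rc_21_2 lc_g_rc_24_3 lc_g_rc_26_6 lc_g_rc_21_2 lc_g_rc_21_2 lc_g_rc_24_9 lc_g_rc_25_7 lc_g_rc_27_6 lc_g_rc_26_6 lc_g_rc_23_3 lc_g_Cert_tree lc_g_rc_21_2 lc_g_rc_24_1 lc_g_rc_21_3 lc_g_Cert_tree lc_g_rc_21_3 lc_g_rc_24_3 lc_g_Cert_tree lc_g_rc_27_6 lc_g_rc_24_1 lc_g_rc_21_3 lc_g_rc_21_3 lc_g_rc_26_6 lc_g_rc_26_9 lc_g_rc_27_6 lc_g_rc_26_6 lc_g_rc_27_9 lc_g_rc_21_2 lc_g_rc_21_2 lc_g_rc_26_6 lc_g_rc_27_6 lc_g_rc_26_6 lc_g_rc_21_2 lc_g_rc_26_3 lc_g_rc_21_3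 lc_g_Cert_tree lc_g_rc_21_2 lc_g_Cert_tree lc_g_rc_21_2 lc_g_rc_21_2 lc_g_rc_24_3 lc_g_rc_21_2) (@D3.rec (fun _ => (Cert rels S Gen.g)) lc_g_rc_21_3 lc_g_rc_27_6 lc_g_rc_26_6 lc_g_rc_21_2 lc_g_rc_26_6 lc_g_rc_21_2 lc_g_rc_25_15 lc_g_rc_21_2 lc_g_rc_21_3 lc_g_Cert_tree lc_g_rc_21_2 lc_g_rc_26_3 lc_g_rc_21_2 lc_g_rc_27_6 lc_g_rc_21_3 lc_g_Cert_tree lc_g_rc_26_9 lc_g_rc_26_0 lc_g_rc_21_3 lc_g_rc_21_2 lc_g_rc_26_3 lc_g_rc_27_6 lc_g_rc_21_3 lc_g_Cert_tree lc_g_rc_27_6 lc_g_rc_21_2 lc_g_rc_23_7 lc_g_rc_27_9 lc_g_rc_21_2 lc_g_rc_21_3 lc_g_rc_26_6 lc_g_rc_27_3 lc_g_rc_27_6 lc_g_rc_26_0 lc_g_Cert_tree lc_g_Cert_tree lc_g_rc_26_6 lc_g_rc_27_3 lc_g_rc_21_2 lc_g_rc_21_2 lc_g_rc_26_6 lc_g_rc_23_9 lc_g_rc_21_3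 lc_g_rc_27_0 lc_g_rc_21_3 lc_g_rc_23_1 lc_g_rc_23_1 lc_g_rc_27_3 lc_g_rc_21_2 lc_g_rc_21_2 lc_g_rc_26_3 lc_g_rc_24_3 lc_g_rc_23_1 lc_g_rc_23_3 lc_g_rc_21_2 lc_g_rc_23_7 lc_g_rc_27_0 lc_g_rc_26_9 lc_g_rc_27_3 lc_g_rc_24_1 lc_g_rc_27_6 lc_g_rc_24_9) (@D3.rec (fun _ => (Cert rels S Gen.g)) lc_g_rc_26_3 lc_g_rc_27_6 lc_g_rc_26_9 lc_g_rc_27_3 lc_g_rc_24_7 lc_g_rc_25_3 lc_g_rc_23_3 lc_g_rc_27_3 lc_g_rc_26_3 lc_g_rc_21_3 lc_g_rc_23_7 lc_g_rc_23_7 lc_g_rc_26_6 lc_g_rc_23_7 lc_g_rc_21_3 lc_g_rc_26_3 lc_g_Cert_tree lc_g_rc_23_7 lc_g_rc_21_2 lc_g_Cert_tree lc_g_rc_27_0 lc_g_rc_21_2 lc_g_rc_26_6 lc_g_rc_23_1 lc_g_rc_27_0 lc_g_rc_23_7 lc_g_rc_21_3 lc_g_rc_23_9 lc_g_rc_24_3 lc_g_rc_21_3 lc_g_rc_21_2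 lc_g_rc_27_6 lc_g_Cert_tree lc_g_rc_27_0 lc_g_rc_21_3 lc_g_rc_21_2 lc_g_rc_25_15 lc_g_rc_21_3 lc_g_rc_27_6 lc_g_rc_27_6 lc_g_Cert_tree lc_g_rc_27_3 lc_g_rc_26_6 lc_g_rc_26_6 lc_g_rc_23_9 lc_g_rc_26_3 lc_g_rc_23_3 lc_g_rc_21_3 lc_g_rc_26_9 lc_g_rc_21_2 lc_g_rc_26_3 lc_g_rc_27_3 lc_g_rc_26_6 lc_g_rc_26_6 lc_g_rc_23_3 lc_g_rc_21_2 lc_g_rc_24_1 lc_g_rc_27_6 lc_g_Cert_tree lc_g_rc_21_2 lc_g_rc_27_3 lc_g_rc_21_2) (@D3.rec (fun _ => (Cert rels S Gen.g)) lc_g_rc_21_3 lc_g_rc_21_3 lc_g_rc_21_2 lc_g_rc_21_2 lc_g_rc_21_3 lc_g_Cert_tree lc_g_Cert_tree lc_g_rc_21_3 lc_g_rc_21_2 lc_g_Cert_tree lc_g_rc_21_3 lc_g_rc_26_6 lc_g_rc_21_2 lc_g_rc_23_1 lc_g_rc_21_2 lc_g_Cert_tree lc_g_Cert_tree lc_g_rc_26_3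 lc_g_rc_21_2 lc_g_rc_21_2 lc_g_rc_27_3 lc_g_rc_26_3 lc_g_rc_21_2 lc_g_Cert_tree lc_g_rc_21_2 lc_g_rc_26_0 lc_g_rc_26_3 lc_g_Cert_tree lc_g_rc_23_9 lc_g_rc_23_1 lc_g_rc_21_2 lc_g_rc_27_6 lc_g_rc_23_3 lc_g_rc_23_3 lc_g_rc_23_3 lc_g_rc_21_3 lc_g_Cert_tree lc_g_rc_25_19 lc_g_rc_21_2 lc_g_Cert_tree lc_g_Cert_tree lc_g_rc_21_3 lc_g_rc_21_2 lc_g_rc_23_3 lc_g_rc_27_6 lc_g_rc_21_2 lc_g_rc_23_9 lc_g_rc_23_9 lc_g_rc_23_7 lc_g_rc_24_7 lc_g_rc_21_3 lc_g_rc_24_7 lc_g_rc_26_6 lc_g_rc_23_3 lc_g_Cert_tree lc_g_rc_26_6 lc_g_rc_27_0 lc_g_rc_27_3 lc_g_rc_26_3 lc_g_Cert_tree lc_g_rc_27_6 lc_g_rc_23_7) (@D3.rec (fun _ => (Cert rels S Gen.g)) lc_g_rc_25_19 lc_g_rc_26_3 lc_g_rc_24_7 lc_g_rc_27_6 lc_g_rc_26_0 lc_g_Cert_tree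 lc_g_rc_26_9 lc_g_rc_26_9 lc_g_Cert_tree lc_g_rc_23_1 lc_g_rc_21_2 lc_g_rc_24_3 lc_g_rc_27_6 lc_g_rc_24_7 lc_g_rc_26_3 lc_g_rc_26_6 lc_g_rc_24_1 lc_g_rc_26_3 lc_g_Cert_tree lc_g_rc_27_3 lc_g_rc_26_6 lc_g_rc_24_3 lc_g_rc_21_3 lc_g_rc_21_2 lc_g_rc_27_6 lc_g_Cert_tree lc_g_rc_27_0 lc_g_rc_24_9 lc_g_Cert_tree lc_g_Cert_tree lc_g_rc_21_3 lc_g_rc_26_6 lc_g_rc_27_3 lc_g_rc_21_2 lc_g_rc_25_19 lc_g_rc_23_9 lc_g_rc_25_19 lc_g_rc_23_1 lc_g_rc_26_9 lc_g_rc_27_0 lc_g_Cert_tree lc_g_rc_21_3 lc_g_rc_27_0 lc_g_rc_21_3 lc_g_rc_23_3 lc_g_rc_27_6 lc_g_rc_23_7 lc_g_rc_21_3 lc_g_rc_27_0 lc_g_rc_27_0 lc_g_rc_21_3 lc_g_rc_24_3 lc_g_rc_21_2 lc_g_rc_21_3 lc_g_Cert_tree lc_g_rc_24_7 lc_g_rc_26_3 lc_g_rc_23_1 lc_g_rc_27_9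 lc_g_rc_27_3 lc_g_rc_27_6 lc_g_rc_21_2) (@D3.rec (fun _ => (Cert rels S Gen.g)) lc_g_rc_26_6 lc_g_rc_23_9 lc_g_rc_21_3 lc_g_Cert_tree lc_g_rc_26_3 lc_g_rc_27_0 lc_g_rc_27_3 lc_g_Cert_tree lc_g_rc_26_0 lc_g_rc_21_3 lc_g_rc_27_6 lc_g_rc_23_7 lc_g_rc_21_3 lc_g_rc_27_6 lc_g_rc_27_3 lc_g_rc_25_3 lc_g_rc_25_7 lc_g_rc_21_3 lc_g_Cert_tree lc_g_rc_27_6 lc_g_Cert_tree lc_g_rc_21_2 lc_g_rc_21_3 lc_g_rc_26_3 lc_g_rc_21_3 lc_g_Cert_tree lc_g_rc_21_2 lc_g_rc_27_6 lc_g_rc_27_9 lc_g_rc_27_6 lc_g_rc_23_3 lc_g_rc_26_6 lc_g_rc_23_7 lc_g_rc_26_6 lc_g_rc_26_6 lc_g_rc_27_6 lc_g_rc_27_3 lc_g_rc_26_6 lc_g_rc_26_6 lc_g_rc_25_19 lc_g_rc_21_2 lc_g_rc_21_3 lc_g_rc_21_2 lc_g_rc_21_2 lc_g_rc_21_3 lc_g_Cert_tree lc_g_rc_27_9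 lc_g_rc_24_7 lc_g_rc_27_9 lc_g_rc_21_2 lc_g_rc_24_3 lc_g_Cert_tree lc_g_rc_26_0 lc_g_rc_23_1 lc_g_Cert_tree lc_g_rc_23_9 lc_g_rc_21_2 lc_g_rc_27_6 lc_g_rc_26_9 lc_g_rc_27_6 lc_g_rc_27_6 lc_g_rc_24_3) (@D3.rec (fun _ => (Cert rels S Gen.g)) lc_g_rc_21_3 lc_g_Cert_tree lc_g_rc_26_6 lc_g_rc_26_6 lc_g_rc_26_3 lc_g_rc_21_3 lc_g_rc_27_3 lc_g_Cert_tree lc_g_rc_25_19 lc_g_rc_26_0 lc_g_rc_24_3 lc_g_rc_26_9 lc_g_rc_27_3 lc_g_rc_21_3 lc_g_Cert_tree lc_g_Cert_tree lc_g_rc_26_3 lc_g_rc_21_3 lc_g_Cert_tree lc_g_rc_21_2 lc_g_rc_21_2 lc_g_rc_26_6 lc_g_rc_27_3 lc_g_rc_24_7 lc_g_rc_24_1 lc_g_rc_23_9 lc_g_rc_25_3 lc_g_rc_24_1 lc_g_rc_26_6 lc_g_rc_26_6 lc_g_rc_21_3 lc_g_Cert_tree lc_g_rc_23_3 lc_g_rc_24_7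 lc_g_rc_26_0 lc_g_rc_25_3 lc_g_rc_21_3 lc_g_rc_26_6 lc_g_Cert_tree lc_g_rc_24_3 lc_g_rc_27_3 lc_g_rc_26_0 lc_g_rc_27_0 lc_g_rc_21_3 lc_g_Cert_tree lc_g_rc_26_3 lc_g_rc_21_3 lc_g_Cert_tree lc_g_rc_26_6 lc_g_rc_24_1 lc_g_rc_21_3 lc_g_rc_21_2 lc_g_rc_27_6 lc_g_rc_27_3 lc_g_rc_21_2 lc_g_rc_21_2 lc_g_rc_27_0 lc_g_rc_24_3 lc_g_rc_24_3 lc_g_rc_26_9 lc_g_Cert_tree lc_g_rc_21_3) (@D3.rec (fun _ => (Cert rels S Gen.g)) lc_g_rc_26_3 lc_g_rc_24_3 lc_g_Cert_tree lc_g_rc_26_0 lc_g_rc_24_9 lc_g_rc_27_6 lc_g_rc_27_6 lc_g_rc_25_7 lc_g_rc_27_9 lc_g_rc_27_6 lc_g_rc_25_11 lc_g_rc_27_0 lc_g_rc_25_3 lc_g_rc_23_7 lc_g_rc_24_3 lc_g_rc_26_6 lc_g_rc_23_7 lc_g_rc_27_6 lc_g_rc_27_9 lc_g_rc_21_3 lc_g_rc_27_9 lc_g_rc_21_2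 lc_g_Cert_tree lc_g_rc_26_3 lc_g_rc_24_1 lc_g_rc_27_6 lc_g_rc_24_1 lc_g_rc_25_15 lc_g_rc_21_3 lc_g_rc_21_3 lc_g_Cert_tree lc_g_rc_26_6 lc_g_rc_21_2 lc_g_rc_27_6 lc_g_rc_21_2 lc_g_rc_23_9 lc_g_rc_21_3 lc_g_rc_26_0 lc_g_rc_23_9 lc_g_rc_24_3 lc_g_rc_21_2 lc_g_Cert_tree lc_g_rc_26_9 lc_g_rc_24_7 lc_g_Cert_tree lc_g_rc_21_2 lc_g_rc_21_2 lc_g_Cert_tree lc_g_rc_21_3 lc_g_Cert_tree lc_g_rc_23_3 lc_g_rc_21_2 lc_g_rc_27_6 lc_g_rc_27_3 lc_g_rc_26_9 lc_g_rc_27_3 lc_g_rc_21_3 lc_g_rc_27_9 lc_g_rc_21_2 lc_g_rc_27_6 lc_g_rc_21_3 lc_g_rc_21_2) (@D3.rec (fun _ => (Cert rels S Gen.g)) lc_g_rc_23_9 lc_g_rc_25_19 lc_g_rc_26_6 lc_g_rc_26_9 lc_g_rc_26_9 lc_g_Cert_tree lc_g_rc_23_1 lc_g_rc_27_0 lc_g_rc_24_1 lc_g_rc_24_9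 lc_g_rc_26_6 lc_g_Cert_tree lc_g_rc_21_2 lc_g_rc_26_6 lc_g_rc_24_3 lc_g_rc_21_2 lc_g_rc_26_9 lc_g_rc_23_1 lc_g_rc_23_7 lc_g_Cert_tree lc_g_rc_23_1 lc_g_rc_26_3 lc_g_rc_21_2 lc_g_rc_23_1 lc_g_Cert_tree lc_g_rc_26_6 lc_g_rc_27_3 lc_g_rc_26_6 lc_g_Cert_tree lc_g_rc_26_6 lc_g_rc_25_19 lc_g_rc_27_0 lc_g_rc_23_1 lc_g_rc_23_7 lc_g_rc_27_9 lc_g_rc_27_3 lc_g_rc_23_1 lc_g_rc_23_7 lc_g_Cert_tree lc_g_rc_23_1 lc_g_rc_21_2 lc_g_Cert_tree lc_g_rc_23_7 lc_g_rc_25_19 lc_g_rc_26_6 lc_g_rc_21_2 lc_g_rc_27_0 lc_g_rc_27_0 lc_g_rc_23_7 lc_g_rc_24_3 lc_g_rc_24_9 lc_g_rc_24_3 lc_g_rc_21_3 lc_g_rc_27_3 lc_g_rc_26_9 lc_g_rc_21_3 lc_g_rc_26_3 lc_g_rc_27_6 lc_g_rc_27_0 lc_g_rc_21_2 lc_g_rc_27_3 lc_g_rc_26_3) (@D3.rec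 (fun _ => (Cert rels S Gen.g)) lc_g_rc_26_0 lc_g_rc_21_3 lc_g_Cert_tree lc_g_rc_21_2 lc_g_rc_21_3 lc_g_rc_27_6 lc_g_rc_23_7 lc_g_rc_24_7 lc_g_rc_21_2 lc_g_rc_24_7 lc_g_rc_27_6 lc_g_rc_27_0 lc_g_rc_21_2 lc_g_rc_26_6 lc_g_Cert_tree lc_g_Cert_tree lc_g_rc_27_0 lc_g_rc_26_9 lc_g_rc_26_6 lc_g_rc_24_7 lc_g_rc_27_0 lc_g_rc_21_3 lc_g_rc_24_1 lc_g_rc_27_0 lc_g_rc_26_3 lc_g_rc_27_0 lc_g_rc_27_3 lc_g_rc_27_6 lc_g_rc_27_9 lc_g_rc_26_0 lc_g_rc_21_2 lc_g_rc_21_2 lc_g_rc_27_6 lc_g_rc_21_2 lc_g_rc_23_1 lc_g_rc_23_1 lc_g_Cert_tree lc_g_rc_27_6 lc_g_Cert_tree lc_g_rc_26_6 lc_g_rc_24_1 lc_g_rc_24_7 lc_g_rc_26_3 lc_g_rc_24_9 lc_g_rc_23_3 lc_g_rc_26_3 lc_g_rc_26_3 lc_g_Cert_tree lc_g_rc_23_7 lc_g_rc_24_3 lc_g_rc_27_0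 lc_g_rc_21_3 lc_g_rc_27_0 lc_g_Cert_tree lc_g_rc_21_2 lc_g_rc_26_0 lc_g_rc_23_3 lc_g_rc_26_9 lc_g_rc_21_2 lc_g_rc_26_0 lc_g_rc_27_6 lc_g_rc_21_2) (@D3.rec (fun _ => (Cert rels S Gen.g)) lc_g_rc_27_6 lc_g_rc_26_6 lc_g_rc_24_1 lc_g_rc_24_1 lc_g_rc_26_0 lc_g_rc_26_3 lc_g_rc_27_6 lc_g_rc_24_1 lc_g_rc_26_6 lc_g_rc_26_6 lc_g_rc_21_3 lc_g_rc_23_7 lc_g_rc_21_3 lc_g_rc_21_3 lc_g_rc_27_0 lc_g_rc_26_0 lc_g_rc_24_3 lc_g_rc_27_6 lc_g_rc_27_0 lc_g_rc_23_7 lc_g_rc_27_6 lc_g_rc_21_2 lc_g_rc_26_6 lc_g_rc_21_2 lc_g_rc_21_3 lc_g_rc_26_3 lc_g_rc_23_7 lc_g_rc_27_0 lc_g_rc_27_0 lc_g_rc_23_1 lc_g_rc_23_3 lc_g_Cert_tree lc_g_rc_25_3 lc_g_rc_23_7 lc_g_rc_27_9 lc_g_Cert_tree lc_g_rc_24_9 lc_g_rc_24_1 lc_g_Cert_tree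 lc_g_rc_26_3 lc_g_rc_26_3 lc_g_Cert_tree lc_g_rc_21_3 lc_g_rc_23_7 lc_g_Cert_tree lc_g_rc_21_3 lc_g_rc_27_3 lc_g_rc_26_6 lc_g_rc_27_6 lc_g_rc_21_3 lc_g_Cert_tree lc_g_rc_21_2 lc_g_rc_21_2 lc_g_rc_21_3 lc_g_rc_21_2 lc_g_rc_21_3 lc_g_rc_23_1 lc_g_rc_26_6 lc_g_rc_26_6 lc_g_rc_23_7 lc_g_rc_27_6 lc_g_rc_23_3) (@D3.rec (fun _ => (Cert rels S Gen.g)) lc_g_rc_21_3 lc_g_Cert_tree lc_g_rc_25_19 lc_g_rc_27_6 lc_g_Cert_tree lc_g_rc_26_6 lc_g_rc_23_7 lc_g_rc_24_3 lc_g_rc_21_2 lc_g_rc_21_3 lc_g_rc_27_6 lc_g_rc_21_2 lc_g_rc_26_9 lc_g_rc_24_7 lc_g_Cert_tree lc_g_rc_26_0 lc_g_rc_24_1 lc_g_rc_21_2 lc_g_rc_26_6 lc_g_rc_23_7 lc_g_rc_23_9 lc_g_rc_23_3 lc_g_rc_23_3 lc_g_rc_21_2 lc_g_rc_26_3 lc_g_rc_21_2 lc_g_rc_27_0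 lc_g_rc_27_9 lc_g_rc_21_2 lc_g_rc_27_9 lc_g_rc_25_7 lc_g_rc_26_6 lc_g_rc_27_9 lc_g_rc_27_9 lc_g_rc_24_1 lc_g_rc_24_7 lc_g_rc_26_6 lc_g_Cert_tree lc_g_rc_23_7 lc_g_rc_23_9 lc_g_rc_26_6 lc_g_Cert_tree lc_g_rc_27_3 lc_g_rc_27_3 lc_g_rc_21_3 lc_g_rc_26_0 lc_g_rc_21_2 lc_g_rc_26_3 lc_g_rc_21_2 lc_g_rc_21_3 lc_g_Cert_tree lc_g_rc_21_2 lc_g_rc_21_3 lc_g_rc_21_2 lc_g_rc_27_3 lc_g_rc_21_3 lc_g_rc_21_3 lc_g_Cert_tree lc_g_rc_21_2 lc_g_rc_23_1 lc_g_rc_23_1 lc_g_rc_24_9) (@D3.rec (fun _ => (Cert rels S Gen.g)) lc_g_rc_21_3 lc_g_rc_23_7 lc_g_rc_21_3 lc_g_rc_21_2 lc_g_rc_21_3 lc_g_rc_21_2 lc_g_rc_26_3 lc_g_rc_21_3 lc_g_rc_27_0 lc_g_rc_27_0 lc_g_Cert_tree lc_g_rc_24_1 lc_g_rc_21_3 lc_g_Cert_tree lc_g_rc_21_2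 lc_g_rc_21_3 lc_g_rc_27_3 lc_g_rc_21_2 lc_g_rc_27_9 lc_g_rc_21_3 lc_g_Cert_tree lc_g_rc_21_2 lc_g_rc_27_0 lc_g_rc_27_0 lc_g_rc_21_3 lc_g_Cert_tree lc_g_rc_21_2 lc_g_rc_21_3 lc_g_rc_21_2 lc_g_rc_23_3 lc_g_Cert_tree lc_g_rc_26_3 lc_g_rc_25_7 lc_g_rc_23_9 lc_g_rc_27_9 lc_g_rc_27_6 lc_g_rc_26_6 lc_g_rc_27_6 lc_g_rc_23_3 lc_g_rc_26_6 lc_g_rc_21_3 lc_g_rc_27_3 lc_g_rc_21_2 lc_g_rc_25_3 lc_g_Cert_tree lc_g_rc_27_3 lc_g_Cert_tree lc_g_Cert_tree lc_g_rc_24_3 lc_g_rc_23_9 lc_g_rc_26_9 lc_g_rc_27_6 lc_g_rc_25_11 lc_g_rc_23_3 lc_g_Cert_tree lc_g_rc_23_7 lc_g_rc_24_1 lc_g_rc_23_9 lc_g_rc_27_0 lc_g_rc_24_3 lc_g_rc_27_0 lc_g_rc_24_3) (@D3.rec (fun _ => (Cert rels S Gen.g)) lc_g_rc_27_3 lc_g_rc_27_6 lc_g_rc_27_3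 lc_g_rc_24_9 lc_g_rc_27_6 lc_g_rc_23_3 lc_g_rc_21_3 lc_g_Cert_tree lc_g_rc_27_0 lc_g_rc_24_3 lc_g_rc_26_3 lc_g_rc_23_1 lc_g_rc_21_3 lc_g_rc_27_9 lc_g_rc_25_15 lc_g_rc_21_3 lc_g_Cert_tree lc_g_rc_24_9 lc_g_Cert_tree lc_g_rc_26_9 lc_g_rc_27_6 lc_g_rc_21_2 lc_g_rc_21_2 lc_g_rc_27_3 lc_g_rc_24_3 lc_g_Cert_tree lc_g_rc_26_3 lc_g_rc_24_1 lc_g_rc_27_9 lc_g_rc_27_0 lc_g_rc_21_3 lc_g_rc_24_9 lc_g_rc_27_6 lc_g_rc_21_3 lc_g_rc_23_1 lc_g_rc_21_2 lc_g_rc_24_3 lc_g_rc_23_1 lc_g_rc_21_3 lc_g_rc_26_6 lc_g_rc_23_9 lc_g_rc_27_6 lc_g_rc_21_3 lc_g_Cert_tree lc_g_rc_23_9 lc_g_rc_21_3 lc_g_rc_21_2 lc_g_Cert_tree lc_g_rc_24_1 lc_g_rc_26_0 lc_g_rc_23_7 lc_g_rc_26_3 lc_g_rc_24_9 lc_g_Cert_tree lc_g_Cert_tree lc_g_rc_26_3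 lc_g_rc_23_7 lc_g_rc_26_3 lc_g_rc_24_1 lc_g_rc_24_9 lc_g_rc_21_3 lc_g_Cert_tree) (@D3.rec (fun _ => (Cert rels S Gen.g)) lc_g_rc_23_3 lc_g_rc_23_1 lc_g_rc_27_0 lc_g_rc_21_3 lc_g_Cert_tree lc_g_rc_26_9 lc_g_rc_24_3 lc_g_rc_23_3 lc_g_rc_26_3 lc_g_rc_27_0 lc_g_rc_27_0 lc_g_rc_26_3 lc_g_rc_26_0 lc_g_rc_26_3 lc_g_rc_26_3 lc_g_rc_21_2 lc_g_rc_26_0 lc_g_rc_24_3 lc_g_rc_21_2 lc_g_rc_27_3 lc_g_rc_26_6 lc_g_Cert_tree lc_g_rc_27_6 lc_g_rc_27_3 lc_g_rc_24_9 lc_g_rc_23_7 lc_g_rc_26_0 lc_g_rc_24_9 lc_g_rc_25_19 lc_g_rc_26_6 lc_g_rc_26_3 lc_g_rc_27_3 lc_g_rc_21_3 lc_g_rc_27_6 lc_g_rc_26_3 lc_g_rc_21_3 lc_g_rc_27_0 lc_g_Cert_tree lc_g_rc_23_1 lc_g_rc_21_2 lc_g_rc_21_2 lc_g_rc_23_7 lc_g_rc_21_3 lc_g_Cert_tree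 lc_g_rc_21_2 lc_g_rc_27_3 lc_g_rc_21_2 lc_g_rc_21_3 lc_g_Cert_tree lc_g_rc_24_3 lc_g_rc_27_6 lc_g_rc_27_6 lc_g_rc_21_3 lc_g_rc_25_19 lc_g_rc_27_3 lc_g_rc_23_1 lc_g_rc_24_3 lc_g_rc_24_9 lc_g_rc_24_7 lc_g_rc_24_9 lc_g_rc_27_3 lc_g_rc_23_3) (@D3.rec (fun _ => (Cert rels S Gen.g)) lc_g_Cert_tree lc_g_rc_21_2 lc_g_rc_23_3 lc_g_rc_23_9 lc_g_rc_27_9 lc_g_rc_26_9 lc_g_rc_27_3 lc_g_rc_26_6 lc_g_rc_21_3 lc_g_rc_27_6 lc_g_rc_23_3 lc_g_rc_26_6 lc_g_rc_24_9 lc_g_rc_21_2 lc_g_rc_27_6 lc_g_rc_24_7 lc_g_rc_21_2 lc_g_rc_27_6 lc_g_rc_27_3 lc_g_rc_26_9 lc_g_rc_21_3 lc_g_Cert_tree lc_g_rc_26_6 lc_g_rc_21_2 lc_g_rc_23_7 lc_g_rc_21_2 lc_g_rc_24_3 lc_g_rc_27_3 lc_g_rc_26_6 lc_g_rc_27_6 lc_g_rc_21_2 lc_g_rc_26_3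 lc_g_rc_26_6 lc_g_rc_21_3 lc_g_rc_21_2 lc_g_rc_26_6 lc_g_rc_25_19 lc_g_rc_21_2 lc_g_rc_21_3 lc_g_rc_21_3 lc_g_rc_26_3 lc_g_rc_27_6 lc_g_rc_21_3 lc_g_Cert_tree lc_g_rc_26_3 lc_g_rc_21_3 lc_g_rc_26_3 lc_g_rc_21_2 lc_g_rc_26_3 lc_g_rc_26_0 lc_g_rc_24_1 lc_g_rc_24_3 lc_g_rc_27_6 lc_g_rc_24_1 lc_g_rc_24_3 lc_g_rc_26_6 lc_g_rc_24_9 lc_g_rc_21_2 lc_g_Cert_tree lc_g_rc_25_7 lc_g_rc_24_3 lc_g_rc_26_9) (@D3.rec (fun _ => (Cert rels S Gen.g)) lc_g_rc_25_3 lc_g_rc_24_9 lc_g_Cert_tree lc_g_rc_26_9 lc_g_rc_26_6 lc_g_rc_23_7 lc_g_rc_27_6 lc_g_rc_27_9 lc_g_rc_25_7 lc_g_rc_23_7 lc_g_Cert_tree lc_g_rc_21_3 lc_g_Cert_tree lc_g_rc_26_6 lc_g_rc_27_6 lc_g_Cert_tree lc_g_rc_21_2 lc_g_rc_24_7 lc_g_rc_27_3 lc_g_rc_21_3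 lc_g_rc_24_3 lc_g_rc_21_3 lc_g_Cert_tree lc_g_rc_26_3 lc_g_rc_23_1 lc_g_Cert_tree lc_g_rc_27_6 lc_g_rc_21_3 lc_g_rc_26_3 lc_g_rc_26_3 lc_g_Cert_tree lc_g_rc_21_2 lc_g_rc_21_3 lc_g_rc_24_1 lc_g_rc_26_6 lc_g_rc_23_3 lc_g_rc_23_7 lc_g_rc_21_3 lc_g_rc_24_3 lc_g_rc_24_3 lc_g_rc_26_9 lc_g_rc_26_0 lc_g_rc_27_6 lc_g_rc_27_6 lc_g_Cert_tree lc_g_rc_26_3 lc_g_rc_23_7 lc_g_rc_21_2 lc_g_rc_21_2 lc_g_rc_21_3 lc_g_rc_27_9 lc_g_Cert_tree lc_g_rc_25_11 lc_g_rc_27_6 lc_g_rc_25_19 lc_g_rc_27_9 lc_g_rc_23_7 lc_g_rc_26_0 lc_g_rc_25_19 lc_g_Cert_tree lc_g_rc_27_3 lc_g_Cert_tree) (@D3.rec (fun _ => (Cert rels S Gen.g)) lc_g_rc_24_3 lc_g_rc_27_6 lc_g_rc_24_3 lc_g_rc_24_3 lc_g_rc_24_3 lc_g_rc_27_0 lc_g_rc_21_2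 lc_g_rc_21_2 lc_g_rc_21_3 lc_g_Cert_tree lc_g_rc_21_2 lc_g_rc_27_6 lc_g_Cert_tree lc_g_rc_27_3 lc_g_rc_21_2 lc_g_rc_24_3 lc_g_rc_26_3 lc_g_rc_27_9 lc_g_rc_26_3 lc_g_rc_21_3 lc_g_rc_26_9 lc_g_rc_23_1 lc_g_rc_27_6 lc_g_rc_21_3 lc_g_Cert_tree lc_g_rc_24_7 lc_g_rc_27_0 lc_g_rc_23_7 lc_g_rc_26_3 lc_g_Cert_tree lc_g_rc_27_6 lc_g_rc_23_1 lc_g_Cert_tree lc_g_rc_24_3 lc_g_rc_21_2 lc_g_rc_26_9 lc_g_rc_27_6 lc_g_rc_23_1 lc_g_rc_26_6 lc_g_rc_27_0 lc_g_Cert_tree lc_g_rc_26_6 lc_g_rc_26_0 lc_g_rc_24_1 lc_g_rc_21_3 lc_g_Cert_tree lc_g_rc_25_3 lc_g_rc_21_3 lc_g_Cert_tree lc_g_rc_26_6 lc_g_rc_24_9 lc_g_rc_24_1 lc_g_Cert_tree lc_g_rc_25_19 lc_g_rc_25_3 lc_g_rc_25_7 lc_g_rc_25_3 lc_g_rc_21_2 lc_g_Cert_tree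 lc_g_rc_26_6 lc_g_rc_27_0 lc_g_rc_21_3) (@D3.rec (fun _ => (Cert rels S Gen.g)) lc_g_rc_27_6 lc_g_rc_23_7 lc_g_rc_24_7 lc_g_rc_23_3 lc_g_rc_23_3 lc_g_rc_24_3 lc_g_rc_21_3 lc_g_rc_23_7 lc_g_rc_24_3 lc_g_rc_23_3 lc_g_rc_27_9 lc_g_rc_21_2 lc_g_rc_23_7 lc_g_rc_21_3 lc_g_Cert_tree lc_g_rc_21_2 lc_g_rc_26_9 lc_g_rc_21_3 lc_g_rc_21_3 lc_g_rc_26_0 lc_g_Cert_tree lc_g_rc_21_3 lc_g_rc_21_3 lc_g_rc_23_1 lc_g_rc_24_9 lc_g_rc_26_0 lc_g_rc_24_3 lc_g_rc_21_2 lc_g_rc_24_9 lc_g_rc_24_7 lc_g_rc_21_3 lc_g_Cert_tree lc_g_rc_21_2 lc_g_rc_24_1 lc_g_rc_26_9 lc_g_rc_21_3 lc_g_rc_26_3 lc_g_rc_27_3 lc_g_rc_21_3 lc_g_Cert_tree lc_g_rc_23_7 lc_g_rc_24_3 lc_g_rc_27_0 lc_g_rc_26_3 lc_g_Cert_tree lc_g_rc_23_9 lc_g_rc_23_7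 lc_g_rc_26_6 lc_g_rc_26_3 lc_g_rc_21_2 lc_g_rc_21_3 lc_g_rc_21_3 lc_g_rc_23_3 lc_g_Cert_tree lc_g_rc_26_3 lc_g_rc_24_7 lc_g_rc_21_3 lc_g_rc_21_3 lc_g_rc_24_7 lc_g_rc_23_9 lc_g_rc_24_1 lc_g_rc_27_3) (@D3.rec (fun _ => (Cert rels S Gen.g)) lc_g_rc_23_7 lc_g_rc_23_3 lc_g_rc_27_0 lc_g_rc_23_3 lc_g_rc_23_7 lc_g_rc_24_1 lc_g_Cert_tree lc_g_rc_27_3 lc_g_rc_27_0 lc_g_rc_23_9 lc_g_rc_21_2 lc_g_rc_27_3 lc_g_rc_23_1 lc_g_rc_26_6 lc_g_rc_21_2 lc_g_rc_27_6 lc_g_rc_27_6 lc_g_rc_24_7 lc_g_rc_27_3 lc_g_Cert_tree lc_g_rc_27_3 lc_g_Cert_tree lc_g_rc_26_3 lc_g_rc_27_9 lc_g_rc_21_3 lc_g_Cert_tree lc_g_rc_23_1 lc_g_rc_23_7 lc_g_rc_24_3 lc_g_Cert_tree lc_g_rc_26_3 lc_g_rc_26_3 lc_g_rc_26_0 lc_g_rc_26_3 lc_g_Cert_tree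 lc_g_rc_26_3 lc_g_rc_26_3 lc_g_rc_26_6 lc_g_rc_27_6 lc_g_rc_24_1 lc_g_rc_26_3 lc_g_rc_21_3 lc_g_rc_23_7 lc_g_rc_23_1 lc_g_rc_21_3 lc_g_rc_23_1 lc_g_rc_21_3 lc_g_rc_26_6 lc_g_rc_21_3 lc_g_rc_21_2 lc_g_rc_23_3 lc_g_rc_21_2 lc_g_rc_21_3 lc_g_rc_23_9 lc_g_rc_24_1 lc_g_rc_23_7 lc_g_rc_27_6 lc_g_rc_24_1 lc_g_rc_21_3 lc_g_Cert_tree lc_g_rc_27_3 lc_g_rc_26_3) (@D3.rec (fun _ => (Cert rels S Gen.g)) lc_g_rc_27_6 lc_g_rc_23_3 lc_g_rc_27_6 lc_g_rc_27_0 lc_g_rc_21_2 lc_g_rc_27_6 lc_g_rc_27_3 lc_g_rc_21_3 lc_g_rc_21_2 lc_g_rc_23_1 lc_g_rc_26_3 lc_g_Cert_tree lc_g_rc_26_3 lc_g_rc_26_9 lc_g_rc_24_7 lc_g_rc_21_3 lc_g_rc_26_6 lc_g_rc_26_6 lc_g_rc_26_9 lc_g_rc_24_7 lc_g_rc_26_9 lc_g_rc_27_0 lc_g_rc_21_2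 lc_g_rc_27_9 lc_g_Cert_tree lc_g_rc_21_2 lc_g_rc_26_0 lc_g_rc_21_3 lc_g_rc_24_3 lc_g_rc_26_0 lc_g_rc_21_3 lc_g_Cert_tree lc_g_rc_26_6 lc_g_rc_24_3 lc_g_rc_23_7 lc_g_rc_21_2 lc_g_rc_21_3 lc_g_Cert_tree lc_g_rc_21_3 lc_g_rc_21_2 lc_g_rc_27_0 lc_g_rc_26_6 lc_g_rc_21_3 lc_g_rc_23_9 lc_g_rc_26_0 lc_g_rc_21_2 lc_g_rc_26_3 lc_g_rc_26_6 lc_g_rc_27_0 lc_g_rc_27_0 lc_g_Cert_tree lc_g_rc_25_3 lc_g_rc_23_3 lc_g_rc_24_7 lc_g_rc_23_9 lc_g_rc_21_3 lc_g_rc_26_6 lc_g_rc_27_6 lc_g_rc_23_3 lc_g_rc_21_2 lc_g_rc_27_0 lc_g_rc_27_6) (@D3.rec (fun _ => (Cert rels S Gen.g)) lc_g_rc_27_0 lc_g_rc_21_3 lc_g_rc_24_3 lc_g_rc_21_2 lc_g_rc_26_3 lc_g_rc_27_3 lc_g_rc_21_3 lc_g_rc_26_9 lc_g_rc_21_2 lc_g_rc_23_1 lc_g_rc_21_3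 lc_g_rc_27_3 lc_g_Cert_tree lc_g_rc_21_2 lc_g_rc_24_9 lc_g_rc_23_7 lc_g_rc_21_3 lc_g_Cert_tree lc_g_rc_24_1 lc_g_rc_21_3 lc_g_rc_27_9 lc_g_Cert_tree lc_g_rc_26_9 lc_g_rc_24_7 lc_g_rc_27_6 lc_g_Cert_tree lc_g_rc_24_3 lc_g_rc_26_6 lc_g_rc_23_3 lc_g_rc_21_3 lc_g_rc_26_6 lc_g_rc_27_6 lc_g_rc_24_3 lc_g_rc_26_9 lc_g_rc_24_3 lc_g_rc_26_9 lc_g_rc_23_7 lc_g_rc_27_9 lc_g_rc_24_7 lc_g_rc_21_3 lc_g_rc_26_6 lc_g_rc_27_6 lc_g_rc_21_3 lc_g_rc_23_3 lc_g_rc_27_9 lc_g_rc_27_3 lc_g_rc_21_2 lc_g_rc_21_3 lc_g_rc_24_9 lc_g_rc_26_6 lc_g_rc_23_7 lc_g_rc_21_2 lc_g_rc_24_3 lc_g_rc_21_3 lc_g_rc_21_3 lc_g_rc_23_1 lc_g_rc_27_9 lc_g_rc_26_3 lc_g_rc_24_3 lc_g_rc_21_2 lc_g_rc_26_6 lc_g_rc_21_3) (@D3.rec (fun _ => (Cert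 rels S Gen.g)) lc_g_rc_21_2 lc_g_rc_26_0 lc_g_rc_23_3 lc_g_rc_26_9 lc_g_rc_27_9 lc_g_rc_24_1 lc_g_Cert_tree lc_g_rc_27_3 lc_g_rc_24_7 lc_g_rc_27_0 lc_g_rc_23_1 lc_g_rc_27_6 lc_g_rc_23_3 lc_g_Cert_tree lc_g_rc_23_1 lc_g_rc_21_3 lc_g_rc_21_2 lc_g_Cert_tree lc_g_rc_26_6 lc_g_rc_23_3 lc_g_rc_23_9 lc_g_rc_23_1 lc_g_rc_21_2 lc_g_rc_27_6 lc_g_rc_24_1 lc_g_rc_27_3 lc_g_rc_21_3 lc_g_rc_21_2 lc_g_Cert_tree lc_g_rc_21_2 lc_g_rc_27_9 lc_g_rc_24_9 lc_g_Cert_tree lc_g_rc_21_3 lc_g_rc_23_9 lc_g_rc_26_6 lc_g_rc_21_2 lc_g_rc_27_0 lc_g_rc_21_3 lc_g_Cert_tree lc_g_rc_21_2 lc_g_rc_26_9 lc_g_Cert_tree lc_g_rc_26_0 lc_g_rc_26_9 lc_g_rc_26_3 lc_g_rc_27_3 lc_g_rc_26_0 lc_g_rc_27_6 lc_g_rc_21_3 lc_g_Cert_tree lc_g_rc_21_2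 lc_g_rc_21_2 lc_g_rc_27_6 lc_g_rc_27_6 lc_g_rc_23_1 lc_g_rc_27_3 lc_g_rc_21_3 lc_g_rc_23_3 lc_g_rc_25_19 lc_g_rc_26_0 lc_g_rc_23_7) (@D3.rec (fun _ => (Cert rels S Gen.g)) lc_g_rc_27_9 lc_g_rc_27_6 lc_g_rc_27_0 lc_g_Cert_tree lc_g_rc_25_19 lc_g_rc_21_2 lc_g_rc_23_7 lc_g_rc_26_3 lc_g_rc_27_6 lc_g_rc_21_3 lc_g_rc_23_3 lc_g_rc_21_3 lc_g_rc_24_3 lc_g_rc_24_7 lc_g_rc_23_9 lc_g_rc_24_7 lc_g_rc_27_6 lc_g_rc_21_2 lc_g_rc_26_6 lc_g_rc_23_7 lc_g_rc_23_3 lc_g_rc_26_9 lc_g_rc_21_3 lc_g_rc_21_3 lc_g_rc_27_3 lc_g_rc_21_2 lc_g_rc_27_0 lc_g_rc_24_7 lc_g_rc_24_3 lc_g_rc_27_3 lc_g_rc_24_1 lc_g_rc_21_3 lc_g_rc_21_3 lc_g_rc_21_3 lc_g_Cert_tree lc_g_rc_26_6 lc_g_rc_21_3 lc_g_rc_27_0 lc_g_rc_21_3 lc_g_rc_26_6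 lc_g_rc_26_6 lc_g_rc_23_3 lc_g_rc_27_6 lc_g_rc_24_9 lc_g_rc_21_2 lc_g_rc_24_9 lc_g_Cert_tree lc_g_Cert_tree lc_g_rc_24_1 lc_g_rc_23_7 lc_g_rc_24_1 lc_g_rc_26_9 lc_g_rc_24_1 lc_g_rc_23_7 lc_g_rc_23_3 lc_g_Cert_tree lc_g_rc_26_0 lc_g_Cert_tree lc_g_rc_26_3 lc_g_rc_27_3 lc_g_rc_27_0 lc_g_rc_21_3) (@D3.rec (fun _ => (Cert rels S Gen.g)) lc_g_Cert_tree lc_g_Cert_tree lc_g_rc_23_7 lc_g_rc_23_3 lc_g_rc_26_6 lc_g_rc_23_3 lc_g_rc_26_0 lc_g_rc_26_6 lc_g_Cert_tree lc_g_rc_27_0 lc_g_rc_23_9 lc_g_rc_23_3 lc_g_Cert_tree lc_g_rc_24_7 lc_g_rc_27_3 lc_g_rc_27_6 lc_g_rc_21_2 lc_g_rc_27_6 lc_g_rc_24_1 lc_g_rc_21_2 lc_g_rc_27_6 lc_g_rc_27_3 lc_g_rc_27_0 lc_g_rc_21_3 lc_g_Cert_tree lc_g_rc_26_0 lc_g_rc_27_3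 lc_g_rc_24_9 lc_g_rc_27_6 lc_g_rc_25_19 lc_g_rc_27_3 lc_g_rc_24_3 lc_g_rc_26_0 lc_g_rc_21_2 lc_g_rc_21_3 lc_g_Cert_tree lc_g_rc_23_3 lc_g_rc_23_3 lc_g_rc_25_15 lc_g_rc_27_9 lc_g_rc_25_15 lc_g_rc_23_9 lc_g_rc_21_2 lc_g_rc_21_3 lc_g_Cert_tree lc_g_rc_23_9 lc_g_rc_23_3 lc_g_Cert_tree lc_g_rc_24_9 lc_g_rc_24_9 lc_g_rc_27_6 lc_g_rc_27_6 lc_g_rc_27_0 lc_g_Cert_tree lc_g_Cert_tree lc_g_Cert_tree lc_g_rc_27_3 lc_g_rc_27_6 lc_g_rc_26_0 lc_g_rc_23_7 lc_g_rc_27_0 lc_g_rc_21_2) (@D3.rec (fun _ => (Cert rels S Gen.g)) lc_g_rc_27_0 lc_g_rc_26_6 lc_g_rc_25_19 lc_g_rc_27_3 lc_g_rc_24_3 lc_g_rc_21_2 lc_g_rc_27_3 lc_g_rc_21_3 lc_g_Cert_tree lc_g_rc_24_7 lc_g_rc_27_0 lc_g_rc_21_3 lc_g_Cert_tree lc_g_rc_27_3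 lc_g_rc_21_2 lc_g_rc_24_7 lc_g_rc_27_9 lc_g_rc_23_9 lc_g_rc_21_3 lc_g_Cert_tree lc_g_rc_26_3 lc_g_rc_24_3 lc_g_rc_21_3 lc_g_rc_26_6 lc_g_rc_21_2 lc_g_rc_26_9 lc_g_rc_26_6 lc_g_rc_26_6 lc_g_rc_21_3 lc_g_rc_26_6 lc_g_rc_27_3 lc_g_rc_27_6 lc_g_rc_23_3 lc_g_rc_21_2 lc_g_rc_27_3 lc_g_rc_21_2 lc_g_rc_27_9 lc_g_rc_21_3 lc_g_rc_21_3 lc_g_Cert_tree lc_g_rc_21_2 lc_g_rc_26_0 lc_g_rc_27_0 lc_g_rc_23_9 lc_g_rc_27_9 lc_g_rc_27_6 lc_g_rc_26_0 lc_g_rc_21_2 lc_g_rc_26_6 lc_g_rc_21_2 lc_g_rc_25_19 lc_g_rc_23_1 lc_g_rc_23_9 lc_g_rc_24_9 lc_g_rc_23_3 lc_g_rc_21_2 lc_g_rc_21_2 lc_g_Cert_tree lc_g_rc_21_2 lc_g_rc_26_6 lc_g_rc_24_1 lc_g_rc_21_2) (@D3.rec (fun _ => (Cert rels S Gen.g)) lc_g_rc_23_3 lc_g_rc_23_9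 lc_g_rc_26_3 lc_g_rc_26_6 lc_g_rc_21_3 lc_g_rc_24_7 lc_g_rc_27_6 lc_g_rc_21_3 lc_g_rc_26_3 lc_g_rc_21_3 lc_g_rc_23_3 lc_g_rc_24_1 lc_g_Cert_tree lc_g_rc_23_3 lc_g_rc_23_9 lc_g_rc_26_0 lc_g_rc_24_7 lc_g_rc_26_6 lc_g_rc_24_3 lc_g_rc_27_6 lc_g_rc_26_3 lc_g_rc_21_2 lc_g_rc_24_7 lc_g_rc_21_3 lc_g_rc_21_3 lc_g_rc_21_2 lc_g_rc_27_0 lc_g_rc_23_7 lc_g_rc_25_19 lc_g_rc_23_1 lc_g_rc_21_3 lc_g_Cert_tree lc_g_rc_21_2 lc_g_rc_23_3 lc_g_rc_21_2 lc_g_rc_27_6 lc_g_rc_21_3 lc_g_rc_27_6 lc_g_rc_24_3 lc_g_rc_21_2 lc_g_rc_21_2 lc_g_rc_26_3 lc_g_rc_21_3 lc_g_Cert_tree lc_g_rc_26_0 lc_g_rc_27_3 lc_g_rc_21_2 lc_g_rc_26_6 lc_g_rc_23_7 lc_g_rc_24_7 lc_g_rc_27_0 lc_g_rc_26_3 lc_g_rc_26_3 lc_g_rc_21_3 lc_g_Cert_tree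 lc_g_rc_26_0 lc_g_rc_26_6 lc_g_rc_27_6 lc_g_Cert_tree lc_g_rc_21_3 lc_g_rc_24_3 lc_g_rc_23_1) (@D3.rec (fun _ => (Cert rels S Gen.g)) lc_g_rc_21_2 lc_g_rc_27_3 lc_g_rc_27_3 lc_g_rc_27_3 lc_g_rc_24_1 lc_g_rc_25_19 lc_g_rc_24_1 lc_g_Cert_tree lc_g_rc_21_2 lc_g_rc_23_3 lc_g_rc_26_0 lc_g_rc_24_1 lc_g_rc_27_0 lc_g_rc_27_6 lc_g_Cert_tree lc_g_rc_21_2 lc_g_rc_24_7 lc_g_rc_27_6 lc_g_rc_26_0 lc_g_rc_26_3 lc_g_rc_21_2 lc_g_rc_21_3 lc_g_Cert_tree lc_g_rc_21_2 lc_g_Cert_tree lc_g_rc_23_7 lc_g_rc_21_2 lc_g_Cert_tree lc_g_rc_23_7 lc_g_rc_26_9 lc_g_rc_21_3 lc_g_rc_27_9 lc_g_Cert_tree lc_g_rc_21_2 lc_g_rc_26_0 lc_g_rc_21_3 lc_g_Cert_tree lc_g_rc_26_0 lc_g_Cert_tree lc_g_rc_26_9 lc_g_rc_24_3 lc_g_rc_21_3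 lc_g_Cert_tree lc_g_Cert_tree lc_g_rc_21_2 lc_g_rc_26_6 lc_g_rc_26_3 lc_g_rc_25_11 lc_g_rc_24_3 lc_g_rc_24_3 lc_g_rc_24_3 lc_g_rc_27_6 lc_g_Cert_tree lc_g_rc_21_2 lc_g_rc_27_3 lc_g_rc_26_3 lc_g_rc_23_7 lc_g_rc_21_3 lc_g_rc_21_2 lc_g_rc_23_7 lc_g_rc_21_3 lc_g_Cert_tree) (@D3.rec (fun _ => (Cert rels S Gen.g)) lc_g_rc_24_3 lc_g_rc_24_3 lc_g_rc_21_3 lc_g_rc_21_3 lc_g_rc_23_3 lc_g_rc_27_6 lc_g_Cert_tree lc_g_rc_25_11 lc_g_rc_21_2 lc_g_rc_24_1 lc_g_rc_27_3 lc_g_rc_21_3 lc_g_rc_24_1 lc_g_rc_21_3 lc_g_Cert_tree lc_g_rc_26_6 lc_g_rc_21_2 lc_g_rc_27_9 lc_g_rc_26_0 lc_g_rc_27_9 lc_g_rc_26_3 lc_g_rc_26_3 lc_g_rc_21_3 lc_g_Cert_tree lc_g_rc_21_2 lc_g_rc_27_0 lc_g_Cert_tree lc_g_rc_24_3 lc_g_rc_27_3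 lc_g_rc_21_2 lc_g_rc_23_3 lc_g_rc_23_7 lc_g_rc_26_3 lc_g_rc_21_3 lc_g_Cert_tree lc_g_rc_26_6 lc_g_rc_21_3 lc_g_rc_27_6 lc_g_rc_27_3 lc_g_rc_26_6 lc_g_rc_21_3 lc_g_rc_26_3 lc_g_rc_21_2 lc_g_rc_23_9 lc_g_rc_21_3 lc_g_Cert_tree lc_g_rc_24_9 lc_g_rc_21_2 lc_g_rc_21_2 lc_g_rc_27_6 lc_g_rc_21_2 lc_g_rc_24_1 lc_g_rc_23_3 lc_g_Cert_tree lc_g_rc_21_2 lc_g_rc_26_0 lc_g_rc_23_1 lc_g_rc_27_6 lc_g_rc_27_0 lc_g_rc_25_11 lc_g_rc_26_6 lc_g_rc_26_3) (@D3.rec (fun _ => (Cert rels S Gen.g)) lc_g_rc_23_1 lc_g_rc_24_1 lc_g_rc_21_3 lc_g_Cert_tree lc_g_rc_21_2 lc_g_rc_21_2 lc_g_rc_23_3 lc_g_rc_27_3 lc_g_rc_24_3 lc_g_rc_27_6 lc_g_rc_21_3 lc_g_rc_27_0 lc_g_rc_27_6 lc_g_rc_21_2 lc_g_rc_25_3 lc_g_rc_23_7 lc_g_rc_23_7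 lc_g_Cert_tree lc_g_rc_21_2 lc_g_rc_21_2 lc_g_rc_27_6 lc_g_rc_23_3 lc_g_rc_26_6 lc_g_rc_27_6 lc_g_rc_21_3 lc_g_rc_27_6 lc_g_rc_21_2 lc_g_rc_21_2 lc_g_rc_24_3 lc_g_rc_21_3 lc_g_rc_27_0 lc_g_rc_27_3 lc_g_rc_26_9 lc_g_rc_27_6 lc_g_rc_26_6 lc_g_rc_27_6 lc_g_rc_21_3 lc_g_Cert_tree lc_g_rc_21_2 lc_g_rc_26_3 lc_g_rc_24_3 lc_g_rc_21_2 lc_g_rc_27_6 lc_g_rc_24_9 lc_g_rc_23_1 lc_g_rc_21_2 lc_g_rc_21_3 lc_g_rc_23_1 lc_g_rc_26_6 lc_g_rc_24_3 lc_g_rc_26_6 lc_g_rc_27_3 lc_g_rc_21_3 lc_g_rc_26_3 lc_g_rc_21_3 lc_g_Cert_tree lc_g_rc_27_6 lc_g_rc_21_2 lc_g_rc_23_1 lc_g_rc_21_3 lc_g_rc_26_0 lc_g_rc_27_6) (@D3.rec (fun _ => (Cert rels S Gen.g)) lc_g_rc_21_3 lc_g_rc_27_6 lc_g_rc_25_19 lc_g_rc_21_3 lc_g_rc_21_2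 lc_g_rc_21_3 lc_g_rc_27_6 lc_g_rc_21_2 lc_g_rc_23_9 lc_g_Cert_tree lc_g_rc_21_2 lc_g_rc_26_0 lc_g_rc_21_3 lc_g_rc_21_2 lc_g_rc_21_3 lc_g_rc_24_1 lc_g_rc_24_1 lc_g_rc_23_7 lc_g_rc_23_7 lc_g_rc_24_1 lc_g_rc_21_3 lc_g_rc_21_3 lc_g_Cert_tree lc_g_rc_27_3 lc_g_rc_23_1 lc_g_Cert_tree lc_g_rc_21_2 lc_g_rc_21_2 lc_g_rc_26_6 lc_g_rc_23_3 lc_g_rc_26_0 lc_g_rc_24_3 lc_g_rc_26_9 lc_g_rc_23_1 lc_g_rc_23_3 lc_g_rc_23_1 lc_g_rc_27_6 lc_g_rc_26_6 lc_g_rc_21_3 lc_g_rc_21_3 lc_g_rc_24_1 lc_g_rc_26_0 lc_g_rc_27_6 lc_g_rc_21_2 lc_g_Cert_tree lc_g_rc_21_2 lc_g_rc_21_3 lc_g_Cert_tree lc_g_rc_26_3 lc_g_rc_27_9 lc_g_rc_21_2 lc_g_rc_27_6 lc_g_rc_21_3 lc_g_rc_23_1 lc_g_rc_21_3 lc_g_Cert_tree lc_g_rc_21_2 lc_g_rc_26_0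 lc_g_rc_21_3 lc_g_rc_24_1 lc_g_Cert_tree lc_g_rc_21_3) (@D3.rec (fun _ => (Cert rels S Gen.g)) lc_g_rc_26_3 lc_g_rc_26_3 lc_g_rc_26_0 lc_g_rc_24_1 lc_g_rc_21_2 lc_g_rc_27_0 lc_g_rc_23_1 lc_g_Cert_tree lc_g_rc_27_6 lc_g_Cert_tree lc_g_rc_21_2 lc_g_rc_21_2 lc_g_rc_21_3 lc_g_rc_21_2 lc_g_rc_24_9 lc_g_rc_24_9 lc_g_rc_27_6 lc_g_rc_27_3 lc_g_rc_27_6 lc_g_rc_21_3 lc_g_rc_23_9 lc_g_rc_26_6 lc_g_rc_21_3 lc_g_rc_23_1 lc_g_rc_24_3 lc_g_rc_21_3 lc_g_Cert_tree lc_g_rc_23_9 lc_g_rc_24_3 lc_g_rc_23_3 lc_g_rc_21_2 lc_g_rc_24_7 lc_g_rc_24_3 lc_g_rc_27_6 lc_g_rc_26_6 lc_g_rc_27_6 lc_g_rc_21_2 lc_g_rc_23_1 lc_g_rc_26_9 lc_g_rc_27_9 lc_g_rc_21_2 lc_g_rc_25_3 lc_g_rc_27_9 lc_g_Cert_tree lc_g_rc_27_3 lc_g_rc_27_3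 lc_g_rc_27_3 lc_g_rc_27_6 lc_g_rc_24_1 lc_g_Cert_tree lc_g_rc_24_3 lc_g_rc_27_0 lc_g_rc_26_3 lc_g_rc_27_6 lc_g_rc_21_2 lc_g_rc_26_3 lc_g_rc_26_6 lc_g_rc_23_3 lc_g_rc_26_9 lc_g_rc_21_3 lc_g_rc_24_1 lc_g_rc_21_2) (@D3.rec (fun _ => (Cert rels S Gen.g)) lc_g_rc_21_3 lc_g_rc_21_3 lc_g_rc_26_0 lc_g_rc_21_3 lc_g_rc_27_3 lc_g_Cert_tree lc_g_rc_24_3 lc_g_rc_24_1 lc_g_rc_24_7 lc_g_rc_21_2 lc_g_rc_26_3 lc_g_rc_21_3 lc_g_rc_24_7 lc_g_rc_27_6 lc_g_rc_27_6 lc_g_rc_27_0 lc_g_rc_23_3 lc_g_rc_26_6 lc_g_rc_23_9 lc_g_rc_26_6 lc_g_rc_21_3 lc_g_rc_27_0 lc_g_rc_23_3 lc_g_rc_21_3 lc_g_rc_23_1 lc_g_rc_23_1 lc_g_rc_21_2 lc_g_rc_24_1 lc_g_rc_23_9 lc_g_rc_26_0 lc_g_rc_21_3 lc_g_rc_27_3 lc_g_rc_27_9 lc_g_rc_23_1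 lc_g_rc_21_3 lc_g_rc_27_3 lc_g_rc_21_3 lc_g_Cert_tree lc_g_rc_26_6 lc_g_rc_26_3 lc_g_rc_21_2 lc_g_rc_24_3 lc_g_rc_26_0 lc_g_rc_23_7 lc_g_rc_27_6 lc_g_rc_27_0 lc_g_Cert_tree lc_g_rc_27_9 lc_g_rc_25_11 lc_g_rc_24_3 lc_g_rc_23_3 lc_g_rc_24_7 lc_g_rc_23_3 lc_g_rc_23_3 lc_g_rc_27_0 lc_g_Cert_tree lc_g_rc_27_6 lc_g_rc_21_2 lc_g_Cert_tree lc_g_rc_24_1 lc_g_rc_26_9 lc_g_rc_27_9) (@D3.rec (fun _ => (Cert rels S Gen.g)) lc_g_rc_25_15 lc_g_rc_27_3 lc_g_rc_27_6 lc_g_Cert_tree lc_g_rc_27_6 lc_g_rc_27_6 lc_g_rc_24_1 lc_g_rc_24_7 lc_g_rc_21_3 lc_g_rc_23_9 lc_g_rc_27_3 lc_g_rc_24_1 lc_g_rc_24_1 lc_g_rc_26_6 lc_g_rc_27_0 lc_g_rc_25_19 lc_g_rc_21_3 lc_g_rc_21_3 lc_g_rc_27_3 lc_g_rc_24_3 lc_g_Cert_tree lc_g_rc_23_1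 lc_g_Cert_tree lc_g_rc_26_9 lc_g_rc_23_9 lc_g_rc_25_19 lc_g_rc_21_3 lc_g_rc_21_2 lc_g_rc_26_9 lc_g_rc_21_3 lc_g_rc_26_3 lc_g_rc_23_7 lc_g_rc_23_3 lc_g_rc_21_3 lc_g_Cert_tree lc_g_rc_25_7 lc_g_rc_27_3 lc_g_rc_21_2 lc_g_rc_23_9 lc_g_rc_24_7 lc_g_rc_27_9 lc_g_rc_26_3 lc_g_rc_21_3 lc_g_Cert_tree lc_g_rc_24_3 lc_g_Cert_tree lc_g_rc_23_1 lc_g_rc_26_6 lc_g_rc_26_0 lc_g_rc_25_15 lc_g_rc_27_6 lc_g_rc_21_2 lc_g_rc_23_3 lc_g_rc_21_3 lc_g_Cert_tree lc_g_rc_25_19 lc_g_rc_26_6 lc_g_Cert_tree lc_g_rc_21_3 lc_g_rc_26_3 lc_g_rc_21_3 lc_g_rc_27_0) (@D3.rec (fun _ => (Cert rels S Gen.g)) lc_g_rc_26_3 lc_g_rc_26_3 lc_g_rc_27_6 lc_g_Cert_tree lc_g_rc_27_6 lc_g_rc_24_3 lc_g_rc_23_1 lc_g_rc_24_1 lc_g_rc_26_3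 lc_g_rc_21_2 lc_g_rc_21_3 lc_g_Cert_tree lc_g_rc_27_6 lc_g_rc_24_3 lc_g_rc_24_1 lc_g_rc_26_0 lc_g_rc_24_3 lc_g_Cert_tree lc_g_rc_24_3 lc_g_rc_21_3 lc_g_rc_21_3 lc_g_rc_27_0 lc_g_rc_27_9 lc_g_rc_21_2 lc_g_Cert_tree lc_g_Cert_tree lc_g_rc_27_6 lc_g_rc_27_6 lc_g_rc_21_3 lc_g_Cert_tree lc_g_rc_21_2 lc_g_rc_23_1 lc_g_rc_21_2 lc_g_rc_23_3 lc_g_rc_24_3 lc_g_rc_27_9 lc_g_rc_21_3 lc_g_rc_24_1 lc_g_rc_27_0 lc_g_rc_26_3 lc_g_rc_24_1 lc_g_rc_27_6 lc_g_rc_23_7 lc_g_rc_21_2 lc_g_rc_26_0 lc_g_rc_23_3 lc_g_rc_21_2 lc_g_rc_26_3 lc_g_rc_25_3 lc_g_rc_27_0 lc_g_rc_23_1 lc_g_rc_26_0 lc_g_rc_21_3 lc_g_rc_27_6 lc_g_rc_27_3 lc_g_rc_21_2 lc_g_rc_26_9 lc_g_rc_24_1 lc_g_rc_21_2 lc_g_rc_24_7 lc_g_rc_21_3 lc_g_rc_24_9)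 (@D3.rec (fun _ => (Cert rels S Gen.g)) lc_g_rc_24_7 lc_g_rc_24_3 lc_g_rc_24_3 lc_g_rc_27_9 lc_g_rc_27_3 lc_g_rc_21_3 lc_g_rc_24_3 lc_g_rc_26_9 lc_g_rc_27_9 lc_g_rc_26_9 lc_g_rc_23_9 lc_g_rc_25_3 lc_g_rc_23_3 lc_g_rc_27_0 lc_g_rc_24_1 lc_g_rc_24_7 lc_g_rc_23_1 lc_g_rc_21_3 lc_g_rc_21_2 lc_g_rc_24_7 lc_g_rc_24_7 lc_g_rc_27_9 lc_g_rc_26_6 lc_g_rc_26_3 lc_g_rc_27_9 lc_g_Cert_tree lc_g_Cert_tree lc_g_rc_23_3 lc_g_rc_21_3 lc_g_rc_27_3 lc_g_rc_21_2 lc_g_rc_21_2 lc_g_rc_24_3 lc_g_rc_21_2 lc_g_rc_21_3 lc_g_rc_21_2 lc_g_rc_21_2 lc_g_rc_21_2 lc_g_rc_27_6 lc_g_rc_26_0 lc_g_rc_27_9 lc_g_rc_21_2 lc_g_rc_21_3 lc_g_rc_27_0 lc_g_rc_25_15 lc_g_rc_27_3 lc_g_rc_27_6 lc_g_rc_21_3 lc_g_rc_25_11 lc_g_rc_21_3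 lc_g_Cert_tree lc_g_rc_27_0 lc_g_rc_27_3 lc_g_rc_24_7 lc_g_rc_27_0 lc_g_rc_24_3 lc_g_rc_24_9 lc_g_rc_27_9 lc_g_rc_21_2 lc_g_rc_23_1 lc_g_rc_27_0 lc_g_rc_21_3)
def ce_g_32 : D2 → D3 → (Cert rels S Gen.g) := @D2.rec (fun _ => D3 → (Cert rels S Gen.g)) (@D3.rec (fun _ => (Cert rels S Gen.g)) lc_g_Cert_tree lc_g_rc_21_3 lc_g_rc_27_6 lc_g_rc_21_3 lc_g_rc_27_3 lc_g_rc_21_3 lc_g_Cert_tree lc_g_rc_23_3 lc_g_rc_26_6 lc_g_rc_21_2 lc_g_rc_26_6 lc_g_rc_21_2 lc_g_rc_27_3 lc_g_rc_26_9 lc_g_rc_21_3 lc_g_Cert_tree lc_g_rc_21_2 lc_g_rc_23_1 lc_g_Cert_tree lc_g_rc_26_3 lc_g_rc_23_1 lc_g_rc_27_3 lc_g_Cert_tree lc_g_rc_26_3 lc_g_rc_21_2 lc_g_rc_24_7 lc_g_rc_27_6 lc_g_rc_26_3 lc_g_Cert_tree lc_g_rc_27_3 lc_g_rc_24_3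 lc_g_rc_27_6 lc_g_rc_24_3 lc_g_Cert_tree lc_g_rc_23_1 lc_g_rc_23_1 lc_g_Cert_tree lc_g_rc_26_6 lc_g_rc_26_0 lc_g_rc_26_6 lc_g_Cert_tree lc_g_Cert_tree lc_g_rc_27_0 lc_g_rc_27_9 lc_g_rc_26_6 lc_g_rc_21_3 lc_g_rc_27_0 lc_g_rc_21_3 lc_g_rc_26_6 lc_g_rc_23_7 lc_g_rc_26_9 lc_g_Cert_tree lc_g_rc_26_6 lc_g_rc_24_7 lc_g_rc_21_3 lc_g_rc_24_3 lc_g_rc_21_2 lc_g_rc_27_6 lc_g_rc_26_6 lc_g_Cert_tree lc_g_rc_27_6 lc_g_rc_21_2) (@D3.rec (fun _ => (Cert rels S Gen.g)) lc_g_rc_24_3 lc_g_rc_26_6 lc_g_rc_23_1 lc_g_rc_26_3 lc_g_rc_21_3 lc_g_Cert_tree lc_g_rc_24_9 lc_g_rc_21_2 lc_g_rc_25_19 lc_g_rc_26_9 lc_g_rc_26_0 lc_g_rc_26_3 lc_g_rc_27_3 lc_g_rc_26_3 lc_g_rc_26_3 lc_g_Cert_tree lc_g_rc_21_3 lc_g_rc_27_3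 lc_g_rc_21_3 lc_g_rc_24_7 lc_g_rc_24_1 lc_g_rc_27_6 lc_g_rc_26_3 lc_g_rc_27_3 lc_g_rc_21_3 lc_g_rc_24_1 lc_g_rc_23_3 lc_g_Cert_tree lc_g_rc_27_6 lc_g_rc_26_0 lc_g_rc_24_1 lc_g_Cert_tree lc_g_Cert_tree lc_g_rc_21_3 lc_g_rc_26_9 lc_g_rc_26_3 lc_g_rc_21_3 lc_g_rc_21_3 lc_g_rc_27_6 lc_g_rc_27_3 lc_g_rc_27_3 lc_g_rc_24_9 lc_g_rc_24_9 lc_g_Cert_tree lc_g_rc_23_3 lc_g_rc_24_1 lc_g_Cert_tree lc_g_rc_24_1 lc_g_rc_21_2 lc_g_rc_27_3 lc_g_rc_26_0 lc_g_rc_27_0 lc_g_rc_21_2 lc_g_rc_23_1 lc_g_rc_21_3 lc_g_rc_21_2 lc_g_rc_23_9 lc_g_rc_27_6 lc_g_rc_21_3 lc_g_rc_24_3 lc_g_rc_21_3 lc_g_rc_25_19) (@D3.rec (fun _ => (Cert rels S Gen.g)) lc_g_Cert_tree lc_g_rc_23_3 lc_g_Cert_tree lc_g_rc_27_3 lc_g_rc_26_6 lc_g_rc_26_6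 lc_g_rc_24_3 lc_g_Cert_tree lc_g_rc_21_2 lc_g_rc_21_2 lc_g_rc_21_3 lc_g_rc_26_6 lc_g_rc_27_0 lc_g_Cert_tree lc_g_rc_21_2 lc_g_rc_26_3 lc_g_rc_26_3 lc_g_rc_21_3 lc_g_Cert_tree lc_g_rc_26_0 lc_g_rc_21_3 lc_g_rc_27_6 lc_g_rc_27_6 lc_g_Cert_tree lc_g_rc_26_6 lc_g_rc_27_6 lc_g_rc_21_3 lc_g_rc_21_3 lc_g_rc_21_3 lc_g_Cert_tree lc_g_rc_26_6 lc_g_rc_25_15 lc_g_rc_25_11 lc_g_rc_27_3 lc_g_rc_21_3 lc_g_rc_23_3 lc_g_rc_27_3 lc_g_rc_21_2 lc_g_rc_21_2 lc_g_rc_27_6 lc_g_rc_21_2 lc_g_rc_21_3 lc_g_rc_27_6 lc_g_rc_25_19 lc_g_rc_24_3 lc_g_rc_27_3 lc_g_rc_23_1 lc_g_rc_21_3 lc_g_Cert_tree lc_g_rc_26_0 lc_g_rc_21_3 lc_g_rc_21_2 lc_g_rc_21_3 lc_g_Cert_tree lc_g_rc_21_2 lc_g_rc_26_0 lc_g_rc_24_1 lc_g_rc_23_3 lc_g_rc_26_9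 lc_g_rc_27_6 lc_g_rc_23_9 lc_g_Cert_tree) (@D3.rec (fun _ => (Cert rels S Gen.g)) lc_g_rc_26_3 lc_g_rc_21_2 lc_g_rc_21_3 lc_g_rc_21_3 lc_g_Cert_tree lc_g_rc_23_1 lc_g_rc_24_1 lc_g_rc_23_1 lc_g_Cert_tree lc_g_rc_26_6 lc_g_rc_21_3 lc_g_Cert_tree lc_g_rc_21_2 lc_g_rc_23_1 lc_g_rc_27_9 lc_g_rc_27_6 lc_g_Cert_tree lc_g_rc_21_2 lc_g_rc_26_6 lc_g_rc_27_3 lc_g_rc_26_0 lc_g_rc_23_3 lc_g_rc_23_9 lc_g_rc_26_6 lc_g_rc_25_19 lc_g_rc_21_3 lc_g_rc_23_1 lc_g_rc_24_1 lc_g_rc_23_9 lc_g_rc_24_9 lc_g_rc_26_3 lc_g_rc_23_3 lc_g_rc_27_0 lc_g_rc_23_1 lc_g_rc_23_9 lc_g_rc_24_3 lc_g_rc_21_3 lc_g_Cert_tree lc_g_rc_23_9 lc_g_rc_26_6 lc_g_rc_21_3 lc_g_rc_26_3 lc_g_rc_26_3 lc_g_rc_23_3 lc_g_rc_21_3 lc_g_rc_23_3 lc_g_rc_26_0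 lc_g_rc_27_6 lc_g_rc_26_3 lc_g_Cert_tree lc_g_rc_21_2 lc_g_rc_23_3 lc_g_rc_23_7 lc_g_rc_21_3 lc_g_rc_24_1 lc_g_rc_27_6 lc_g_rc_24_7 lc_g_rc_24_7 lc_g_rc_23_7 lc_g_rc_26_6 lc_g_rc_26_9 lc_g_rc_24_1) (@D3.rec (fun _ => (Cert rels S Gen.g)) lc_g_rc_26_0 lc_g_rc_21_3 lc_g_Cert_tree lc_g_rc_21_2 lc_g_rc_21_2 lc_g_rc_21_3 lc_g_Cert_tree lc_g_rc_23_9 lc_g_rc_21_3 lc_g_rc_27_6 lc_g_rc_23_1 lc_g_rc_21_3 lc_g_rc_26_9 lc_g_rc_26_3 lc_g_rc_24_7 lc_g_rc_25_7 lc_g_rc_26_0 lc_g_rc_23_3 lc_g_rc_27_6 lc_g_rc_23_7 lc_g_rc_25_19 lc_g_rc_23_1 lc_g_rc_27_0 lc_g_rc_21_3 lc_g_rc_27_6 lc_g_Cert_tree lc_g_rc_25_19 lc_g_rc_27_9 lc_g_rc_24_3 lc_g_rc_24_1 lc_g_rc_27_3 lc_g_rc_26_0 lc_g_rc_26_6 lc_g_rc_27_3 lc_g_rc_21_3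 lc_g_rc_27_9 lc_g_rc_21_2 lc_g_rc_21_2 lc_g_rc_21_2 lc_g_rc_27_3 lc_g_rc_23_9 lc_g_rc_23_9 lc_g_rc_27_3 lc_g_rc_27_0 lc_g_rc_21_2 lc_g_rc_26_6 lc_g_rc_24_1 lc_g_rc_21_3 lc_g_rc_21_2 lc_g_rc_24_3 lc_g_rc_21_2 lc_g_rc_27_3 lc_g_rc_27_3 lc_g_rc_27_3 lc_g_rc_21_2 lc_g_rc_26_9 lc_g_rc_21_2 lc_g_rc_21_3 lc_g_rc_23_1 lc_g_rc_27_0 lc_g_rc_21_2 lc_g_rc_26_3) (@D3.rec (fun _ => (Cert rels S Gen.g)) lc_g_rc_27_0 lc_g_rc_27_6 lc_g_rc_24_3 lc_g_rc_24_1 lc_g_rc_21_2 lc_g_rc_21_3 lc_g_rc_23_3 lc_g_rc_21_3 lc_g_rc_27_3 lc_g_rc_26_6 lc_g_rc_27_9 lc_g_rc_21_2 lc_g_rc_26_0 lc_g_rc_27_0 lc_g_rc_27_3 lc_g_rc_23_3 lc_g_rc_27_6 lc_g_rc_21_2 lc_g_rc_23_7 lc_g_rc_27_6 lc_g_rc_27_3 lc_g_rc_27_3 lc_g_rc_23_3 lc_g_rc_23_7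 lc_g_rc_24_3 lc_g_rc_24_7 lc_g_rc_27_6 lc_g_rc_26_0 lc_g_rc_24_1 lc_g_rc_23_9 lc_g_rc_27_0 lc_g_rc_24_7 lc_g_rc_26_6 lc_g_rc_24_3 lc_g_rc_23_3 lc_g_rc_21_2 lc_g_rc_21_3 lc_g_Cert_tree lc_g_rc_25_11 lc_g_rc_26_9 lc_g_rc_21_2 lc_g_rc_23_1 lc_g_rc_26_9 lc_g_rc_21_3 lc_g_rc_26_3 lc_g_rc_24_3 lc_g_rc_24_7 lc_g_rc_21_2 lc_g_rc_23_3 lc_g_Cert_tree lc_g_rc_26_6 lc_g_rc_27_6 lc_g_rc_25_11 lc_g_rc_27_3 lc_g_rc_26_3 lc_g_Cert_tree lc_g_rc_21_2 lc_g_rc_24_7 lc_g_rc_23_3 lc_g_rc_27_0 lc_g_Cert_tree lc_g_rc_21_2) (@D3.rec (fun _ => (Cert rels S Gen.g)) lc_g_rc_21_2 lc_g_rc_21_2 lc_g_rc_21_3 lc_g_rc_27_6 lc_g_rc_26_3 lc_g_rc_24_7 lc_g_Cert_tree lc_g_rc_27_3 lc_g_rc_21_2 lc_g_rc_23_3 lc_g_rc_27_6 lc_g_rc_24_3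 lc_g_rc_27_6 lc_g_rc_21_2 lc_g_rc_24_1 lc_g_rc_27_0 lc_g_rc_27_6 lc_g_rc_21_3 lc_g_rc_26_6 lc_g_rc_25_11 lc_g_rc_27_6 lc_g_rc_26_9 lc_g_rc_21_2 lc_g_rc_24_3 lc_g_Cert_tree lc_g_rc_21_3 lc_g_rc_21_2 lc_g_rc_26_3 lc_g_rc_27_6 lc_g_rc_24_3 lc_g_rc_21_2 lc_g_rc_21_3 lc_g_Cert_tree lc_g_rc_21_3 lc_g_rc_27_0 lc_g_rc_21_3 lc_g_rc_27_6 lc_g_rc_27_6 lc_g_rc_24_1 lc_g_Cert_tree lc_g_rc_24_7 lc_g_rc_26_3 lc_g_rc_23_3 lc_g_rc_23_3 lc_g_rc_27_6 lc_g_rc_21_3 lc_g_rc_21_3 lc_g_rc_27_3 lc_g_rc_21_2 lc_g_rc_23_3 lc_g_rc_23_3 lc_g_Cert_tree lc_g_rc_21_2 lc_g_rc_21_2 lc_g_rc_23_3 lc_g_rc_24_3 lc_g_rc_24_7 lc_g_Cert_tree lc_g_rc_27_6 lc_g_rc_21_3 lc_g_rc_26_3 lc_g_Cert_tree) (@D3.rec (fun _ => (Cert rels S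 Gen.g)) lc_g_rc_21_2 lc_g_rc_21_2 lc_g_rc_24_1 lc_g_rc_23_1 lc_g_rc_26_3 lc_g_rc_26_6 lc_g_rc_23_7 lc_g_rc_27_3 lc_g_rc_26_6 lc_g_rc_27_3 lc_g_rc_21_3 lc_g_Cert_tree lc_g_rc_23_1 lc_g_rc_21_2 lc_g_rc_25_3 lc_g_rc_24_3 lc_g_rc_25_3 lc_g_rc_21_2 lc_g_rc_24_1 lc_g_Cert_tree lc_g_rc_26_9 lc_g_rc_26_6 lc_g_rc_23_1 lc_g_rc_23_9 lc_g_rc_24_7 lc_g_rc_24_7 lc_g_rc_26_6 lc_g_rc_21_3 lc_g_Cert_tree lc_g_rc_21_2 lc_g_rc_21_3 lc_g_rc_23_9 lc_g_rc_24_3 lc_g_rc_26_0 lc_g_rc_26_3 lc_g_rc_23_7 lc_g_rc_27_6 lc_g_rc_24_3 lc_g_rc_26_6 lc_g_rc_21_3 lc_g_rc_27_0 lc_g_rc_26_6 lc_g_rc_27_3 lc_g_rc_23_3 lc_g_rc_24_1 lc_g_rc_26_6 lc_g_rc_21_3 lc_g_rc_21_3 lc_g_rc_21_3 lc_g_rc_21_2 lc_g_rc_25_3 lc_g_rc_24_9 lc_g_Cert_tree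 lc_g_rc_21_2 lc_g_rc_23_1 lc_g_Cert_tree lc_g_rc_26_3 lc_g_rc_26_0 lc_g_rc_24_3 lc_g_rc_24_1 lc_g_rc_26_6 lc_g_rc_24_1) (@D3.rec (fun _ => (Cert rels S Gen.g)) lc_g_rc_21_3 lc_g_Cert_tree lc_g_rc_27_3 lc_g_rc_26_6 lc_g_rc_21_2 lc_g_rc_21_3 lc_g_rc_27_9 lc_g_rc_21_2 lc_g_rc_27_9 lc_g_Cert_tree lc_g_rc_26_3 lc_g_rc_21_3 lc_g_Cert_tree lc_g_rc_26_0 lc_g_rc_26_3 lc_g_Cert_tree lc_g_rc_26_3 lc_g_rc_25_7 lc_g_rc_26_3 lc_g_rc_26_3 lc_g_rc_27_3 lc_g_rc_27_9 lc_g_rc_26_3 lc_g_rc_23_1 lc_g_rc_21_3 lc_g_Cert_tree lc_g_rc_24_1 lc_g_rc_26_3 lc_g_rc_21_3 lc_g_rc_26_6 lc_g_rc_26_6 lc_g_Cert_tree lc_g_rc_26_6 lc_g_Cert_tree lc_g_rc_23_3 lc_g_rc_21_2 lc_g_rc_27_3 lc_g_rc_27_6 lc_g_rc_21_2 lc_g_rc_21_2 lc_g_Cert_tree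 lc_g_rc_21_3 lc_g_rc_24_9 lc_g_rc_27_3 lc_g_rc_23_3 lc_g_rc_27_0 lc_g_rc_26_3 lc_g_Cert_tree lc_g_rc_21_3 lc_g_rc_21_3 lc_g_rc_23_9 lc_g_rc_21_2 lc_g_rc_23_3 lc_g_rc_24_7 lc_g_rc_23_3 lc_g_rc_21_2 lc_g_rc_21_2 lc_g_rc_27_6 lc_g_rc_21_3 lc_g_rc_27_0 lc_g_rc_24_3 lc_g_rc_27_0) (@D3.rec (fun _ => (Cert rels S Gen.g)) lc_g_rc_23_3 lc_g_rc_24_3 lc_g_rc_21_2 lc_g_rc_23_1 lc_g_rc_21_2 lc_g_rc_21_2 lc_g_rc_26_6 lc_g_rc_27_9 lc_g_rc_27_6 lc_g_rc_21_3 lc_g_rc_26_3 lc_g_rc_26_6 lc_g_rc_27_6 lc_g_rc_26_6 lc_g_rc_26_6 lc_g_rc_26_0 lc_g_rc_27_9 lc_g_rc_23_9 lc_g_rc_27_0 lc_g_rc_23_9 lc_g_rc_21_3 lc_g_Cert_tree lc_g_rc_26_3 lc_g_rc_21_2 lc_g_rc_27_9 lc_g_rc_25_15 lc_g_Cert_tree lc_g_rc_27_6 lc_g_rc_21_3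 lc_g_rc_23_1 lc_g_rc_27_3 lc_g_rc_27_3 lc_g_rc_21_2 lc_g_rc_25_19 lc_g_rc_21_2 lc_g_rc_26_0 lc_g_rc_26_9 lc_g_rc_23_3 lc_g_rc_27_9 lc_g_rc_23_1 lc_g_rc_25_15 lc_g_rc_26_6 lc_g_rc_27_6 lc_g_rc_24_3 lc_g_rc_23_1 lc_g_Cert_tree lc_g_rc_25_15 lc_g_rc_21_2 lc_g_rc_21_2 lc_g_rc_23_3 lc_g_rc_23_1 lc_g_rc_23_3 lc_g_rc_21_2 lc_g_rc_21_3 lc_g_Cert_tree lc_g_rc_21_3 lc_g_Cert_tree lc_g_rc_26_0 lc_g_rc_26_9 lc_g_rc_27_3 lc_g_rc_21_3 lc_g_rc_21_2) (@D3.rec (fun _ => (Cert rels S Gen.g)) lc_g_rc_26_6 lc_g_rc_26_6 lc_g_rc_27_9 lc_g_rc_21_2 lc_g_Cert_tree lc_g_rc_21_2 lc_g_rc_24_3 lc_g_rc_21_3 lc_g_Cert_tree lc_g_Cert_tree lc_g_rc_24_7 lc_g_Cert_tree lc_g_rc_24_9 lc_g_rc_23_1 lc_g_rc_26_6 lc_g_rc_24_1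 lc_g_rc_26_9 lc_g_rc_27_0 lc_g_rc_26_0 lc_g_rc_26_6 lc_g_rc_21_3 lc_g_rc_27_9 lc_g_rc_24_1 lc_g_rc_21_2 lc_g_rc_26_0 lc_g_rc_23_1 lc_g_rc_27_9 lc_g_rc_26_6 lc_g_rc_24_1 lc_g_rc_26_3 lc_g_rc_24_3 lc_g_Cert_tree lc_g_rc_21_3 lc_g_rc_26_3 lc_g_rc_21_3 lc_g_rc_26_9 lc_g_rc_23_3 lc_g_rc_24_9 lc_g_rc_26_3 lc_g_rc_26_0 lc_g_rc_27_6 lc_g_rc_21_3 lc_g_rc_21_3 lc_g_rc_21_3 lc_g_Cert_tree lc_g_rc_21_2 lc_g_rc_21_3 lc_g_rc_23_3 lc_g_rc_27_6 lc_g_rc_27_0 lc_g_rc_27_9 lc_g_rc_23_7 lc_g_rc_21_3 lc_g_Cert_tree lc_g_rc_24_1 lc_g_rc_21_2 lc_g_rc_23_3 lc_g_rc_27_0 lc_g_rc_23_3 lc_g_rc_27_3 lc_g_rc_21_2 lc_g_rc_27_6) (@D3.rec (fun _ => (Cert rels S Gen.g)) lc_g_rc_25_11 lc_g_rc_21_2 lc_g_rc_26_3 lc_g_rc_26_6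 lc_g_rc_23_3 lc_g_rc_24_3 lc_g_rc_26_3 lc_g_Cert_tree lc_g_rc_21_3 lc_g_Cert_tree lc_g_rc_23_3 lc_g_rc_23_9 lc_g_rc_23_3 lc_g_rc_26_6 lc_g_rc_27_9 lc_g_rc_27_0 lc_g_rc_27_9 lc_g_rc_21_3 lc_g_rc_23_7 lc_g_Cert_tree lc_g_rc_23_3 lc_g_rc_24_3 lc_g_rc_21_2 lc_g_rc_23_1 lc_g_rc_23_1 lc_g_rc_25_19 lc_g_rc_21_3 lc_g_rc_21_2 lc_g_rc_23_7 lc_g_Cert_tree lc_g_rc_27_6 lc_g_rc_23_3 lc_g_rc_24_7 lc_g_Cert_tree lc_g_rc_27_6 lc_g_rc_24_1 lc_g_rc_26_9 lc_g_rc_23_3 lc_g_rc_27_6 lc_g_rc_23_3 lc_g_rc_27_9 lc_g_rc_23_3 lc_g_rc_26_9 lc_g_rc_23_1 lc_g_Cert_tree lc_g_rc_26_6 lc_g_rc_21_3 lc_g_Cert_tree lc_g_rc_21_2 lc_g_rc_21_3 lc_g_Cert_tree lc_g_rc_26_6 lc_g_rc_21_3 lc_g_rc_25_19 lc_g_rc_26_9 lc_g_rc_27_9 lc_g_rc_26_3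 lc_g_rc_27_3 lc_g_rc_27_9 lc_g_Cert_tree lc_g_rc_23_7 lc_g_rc_26_0) (@D3.rec (fun _ => (Cert rels S Gen.g)) lc_g_rc_23_3 lc_g_rc_25_19 lc_g_rc_27_6 lc_g_rc_24_1 lc_g_rc_24_3 lc_g_rc_24_3 lc_g_rc_26_6 lc_g_rc_27_0 lc_g_rc_23_3 lc_g_rc_26_9 lc_g_rc_26_6 lc_g_rc_27_6 lc_g_rc_24_3 lc_g_rc_21_2 lc_g_rc_21_3 lc_g_rc_23_3 lc_g_rc_21_3 lc_g_Cert_tree lc_g_rc_27_9 lc_g_rc_26_6 lc_g_rc_23_3 lc_g_rc_27_6 lc_g_Cert_tree lc_g_rc_21_2 lc_g_rc_24_3 lc_g_rc_23_1 lc_g_Cert_tree lc_g_rc_21_2 lc_g_rc_26_6 lc_g_rc_23_1 lc_g_rc_26_3 lc_g_rc_26_6 lc_g_rc_27_0 lc_g_rc_24_1 lc_g_Cert_tree lc_g_rc_24_3 lc_g_rc_27_0 lc_g_rc_23_1 lc_g_rc_23_1 lc_g_rc_23_3 lc_g_rc_27_3 lc_g_rc_26_6 lc_g_rc_21_3 lc_g_rc_21_2 lc_g_rc_27_0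 lc_g_Cert_tree lc_g_rc_27_6 lc_g_Cert_tree lc_g_rc_23_1 lc_g_rc_26_9 lc_g_rc_27_3 lc_g_rc_23_1 lc_g_Cert_tree lc_g_rc_21_2 lc_g_rc_25_19 lc_g_rc_21_3 lc_g_Cert_tree lc_g_rc_21_2 lc_g_Cert_tree lc_g_rc_25_19 lc_g_rc_27_6 lc_g_rc_26_3) (@D3.rec (fun _ => (Cert rels S Gen.g)) lc_g_rc_27_6 lc_g_rc_26_6 lc_g_rc_27_0 lc_g_rc_24_1 lc_g_rc_27_0 lc_g_rc_26_6 lc_g_rc_27_0 lc_g_rc_27_3 lc_g_rc_23_1 lc_g_rc_21_2 lc_g_rc_23_3 lc_g_rc_21_2 lc_g_rc_21_2 lc_g_rc_21_3 lc_g_rc_21_2 lc_g_rc_24_1 lc_g_Cert_tree lc_g_rc_21_2 lc_g_rc_27_0 lc_g_Cert_tree lc_g_rc_24_9 lc_g_Cert_tree lc_g_rc_21_2 lc_g_rc_26_9 lc_g_rc_26_3 lc_g_rc_27_6 lc_g_rc_21_2 lc_g_rc_26_3 lc_g_rc_27_9 lc_g_rc_23_7 lc_g_rc_25_3 lc_g_rc_27_9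 lc_g_rc_26_3 lc_g_rc_21_2 lc_g_rc_26_3 lc_g_rc_23_1 lc_g_rc_26_9 lc_g_rc_23_3 lc_g_rc_24_1 lc_g_rc_24_1 lc_g_Cert_tree lc_g_rc_27_6 lc_g_rc_21_3 lc_g_Cert_tree lc_g_rc_27_6 lc_g_rc_21_3 lc_g_Cert_tree lc_g_rc_21_2 lc_g_Cert_tree lc_g_rc_21_2 lc_g_rc_27_0 lc_g_Cert_tree lc_g_rc_27_3 lc_g_Cert_tree lc_g_rc_21_3 lc_g_rc_24_1 lc_g_rc_26_6 lc_g_rc_25_7 lc_g_rc_26_3 lc_g_rc_27_0 lc_g_rc_26_3 lc_g_Cert_tree) (@D3.rec (fun _ => (Cert rels S Gen.g)) lc_g_rc_24_1 lc_g_rc_26_0 lc_g_rc_21_3 lc_g_Cert_tree lc_g_rc_24_7 lc_g_Cert_tree lc_g_Cert_tree lc_g_rc_27_0 lc_g_rc_23_3 lc_g_rc_23_7 lc_g_Cert_tree lc_g_rc_21_2 lc_g_rc_21_2 lc_g_rc_21_2 lc_g_Cert_tree lc_g_rc_27_3 lc_g_rc_27_3 lc_g_rc_23_3 lc_g_rc_27_6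 lc_g_rc_23_3 lc_g_rc_27_0 lc_g_rc_25_3 lc_g_rc_21_3 lc_g_rc_26_9 lc_g_rc_24_9 lc_g_rc_23_1 lc_g_Cert_tree lc_g_rc_23_9 lc_g_rc_21_3 lc_g_Cert_tree lc_g_rc_26_9 lc_g_rc_26_6 lc_g_rc_21_2 lc_g_Cert_tree lc_g_rc_24_3 lc_g_rc_27_3 lc_g_rc_26_3 lc_g_rc_25_7 lc_g_rc_26_6 lc_g_rc_27_9 lc_g_rc_23_3 lc_g_rc_21_2 lc_g_rc_26_6 lc_g_rc_23_1 lc_g_rc_26_9 lc_g_rc_27_6 lc_g_rc_27_6 lc_g_rc_27_3 lc_g_rc_26_3 lc_g_rc_21_2 lc_g_rc_21_3 lc_g_rc_27_6 lc_g_rc_23_1 lc_g_rc_23_9 lc_g_rc_27_6 lc_g_rc_21_2 lc_g_Cert_tree lc_g_rc_21_2 lc_g_rc_21_3 lc_g_rc_21_2 lc_g_rc_21_2 lc_g_rc_26_6) (@D3.rec (fun _ => (Cert rels S Gen.g)) lc_g_rc_21_2 lc_g_rc_27_3 lc_g_rc_21_2 lc_g_rc_24_1 lc_g_rc_21_3 lc_g_Cert_tree lc_g_rc_21_2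 lc_g_rc_26_9 lc_g_rc_21_2 lc_g_rc_26_9 lc_g_rc_24_9 lc_g_rc_23_1 lc_g_rc_26_0 lc_g_Cert_tree lc_g_rc_26_0 lc_g_rc_26_6 lc_g_rc_24_3 lc_g_rc_27_0 lc_g_rc_23_3 lc_g_rc_27_6 lc_g_Cert_tree lc_g_rc_27_3 lc_g_rc_25_19 lc_g_rc_21_2 lc_g_rc_23_1 lc_g_rc_21_3 lc_g_rc_21_3 lc_g_Cert_tree lc_g_rc_27_6 lc_g_rc_24_3 lc_g_rc_21_3 lc_g_rc_27_3 lc_g_rc_21_3 lc_g_Cert_tree lc_g_rc_21_2 lc_g_rc_21_3 lc_g_Cert_tree lc_g_rc_21_2 lc_g_rc_24_3 lc_g_rc_21_2 lc_g_rc_24_3 lc_g_rc_27_3 lc_g_rc_21_2 lc_g_rc_21_2 lc_g_rc_26_3 lc_g_rc_27_6 lc_g_rc_25_7 lc_g_rc_27_6 lc_g_rc_23_3 lc_g_rc_24_9 lc_g_rc_23_7 lc_g_rc_23_7 lc_g_Cert_tree lc_g_Cert_tree lc_g_rc_24_9 lc_g_rc_24_9 lc_g_rc_27_3 lc_g_rc_21_2 lc_g_rc_26_6 lc_g_rc_24_3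 lc_g_rc_21_3 lc_g_rc_21_3) (@D3.rec (fun _ => (Cert rels S Gen.g)) lc_g_Cert_tree lc_g_Cert_tree lc_g_rc_27_6 lc_g_rc_21_3 lc_g_rc_21_2 lc_g_rc_24_9 lc_g_rc_27_9 lc_g_rc_24_1 lc_g_rc_26_3 lc_g_rc_27_6 lc_g_rc_21_3 lc_g_rc_21_2 lc_g_rc_27_6 lc_g_rc_23_3 lc_g_rc_27_6 lc_g_rc_21_3 lc_g_Cert_tree lc_g_Cert_tree lc_g_rc_21_2 lc_g_rc_21_2 lc_g_rc_27_3 lc_g_rc_23_7 lc_g_Cert_tree lc_g_rc_27_6 lc_g_rc_23_1 lc_g_Cert_tree lc_g_rc_21_3 lc_g_rc_21_2 lc_g_rc_23_3 lc_g_rc_27_6 lc_g_rc_26_3 lc_g_rc_24_3 lc_g_Cert_tree lc_g_rc_24_3 lc_g_rc_21_3 lc_g_rc_26_6 lc_g_Cert_tree lc_g_rc_21_2 lc_g_rc_27_3 lc_g_rc_23_3 lc_g_rc_27_3 lc_g_rc_26_6 lc_g_rc_27_0 lc_g_rc_21_3 lc_g_rc_24_3 lc_g_rc_21_2 lc_g_rc_23_3 lc_g_Cert_tree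 lc_g_rc_21_2 lc_g_rc_21_2 lc_g_rc_21_3 lc_g_rc_21_2 lc_g_Cert_tree lc_g_rc_24_1 lc_g_rc_27_3 lc_g_rc_24_3 lc_g_rc_27_0 lc_g_rc_24_3 lc_g_rc_24_3 lc_g_rc_24_7 lc_g_rc_26_3 lc_g_rc_27_0) (@D3.rec (fun _ => (Cert rels S Gen.g)) lc_g_rc_27_0 lc_g_rc_26_3 lc_g_rc_21_2 lc_g_rc_21_3 lc_g_rc_27_6 lc_g_rc_26_3 lc_g_rc_27_3 lc_g_rc_21_3 lc_g_Cert_tree lc_g_rc_21_2 lc_g_rc_21_3 lc_g_Cert_tree lc_g_rc_21_2 lc_g_rc_26_0 lc_g_rc_26_3 lc_g_rc_26_9 lc_g_rc_21_3 lc_g_rc_21_2 lc_g_rc_23_3 lc_g_Cert_tree lc_g_rc_21_3 lc_g_Cert_tree lc_g_rc_26_6 lc_g_rc_26_6 lc_g_rc_21_2 lc_g_rc_21_2 lc_g_rc_21_2 lc_g_rc_21_3 lc_g_rc_21_3 lc_g_rc_21_2 lc_g_Cert_tree lc_g_rc_23_1 lc_g_rc_24_3 lc_g_rc_21_2 lc_g_rc_23_7 lc_g_rc_26_3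 lc_g_rc_24_7 lc_g_rc_24_3 lc_g_rc_24_3 lc_g_rc_23_9 lc_g_Cert_tree lc_g_rc_21_2 lc_g_rc_23_3 lc_g_rc_21_3 lc_g_rc_21_3 lc_g_rc_24_1 lc_g_rc_21_3 lc_g_Cert_tree lc_g_Cert_tree lc_g_rc_26_3 lc_g_rc_21_3 lc_g_rc_24_1 lc_g_Cert_tree lc_g_rc_24_1 lc_g_rc_27_6 lc_g_rc_23_7 lc_g_rc_27_0 lc_g_Cert_tree lc_g_rc_21_2 lc_g_rc_21_2 lc_g_rc_26_3 lc_g_rc_21_3) (@D3.rec (fun _ => (Cert rels S Gen.g)) lc_g_Cert_tree lc_g_Cert_tree lc_g_rc_21_2 lc_g_rc_25_19 lc_g_rc_27_3 lc_g_Cert_tree lc_g_rc_21_3 lc_g_rc_21_3 lc_g_rc_26_3 lc_g_rc_27_3 lc_g_rc_21_3 lc_g_Cert_tree lc_g_rc_21_3 lc_g_rc_21_3 lc_g_Cert_tree lc_g_rc_26_3 lc_g_rc_27_6 lc_g_Cert_tree lc_g_rc_21_2 lc_g_rc_21_2 lc_g_rc_21_3 lc_g_rc_26_3 lc_g_rc_25_7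 lc_g_rc_21_3 lc_g_rc_27_3 lc_g_rc_21_2 lc_g_rc_27_3 lc_g_rc_24_7 lc_g_rc_26_6 lc_g_rc_23_3 lc_g_rc_26_6 lc_g_Cert_tree lc_g_rc_24_1 lc_g_rc_23_3 lc_g_Cert_tree lc_g_rc_26_3 lc_g_rc_26_0 lc_g_Cert_tree lc_g_Cert_tree lc_g_rc_21_3 lc_g_rc_24_3 lc_g_rc_26_0 lc_g_Cert_tree lc_g_rc_23_9 lc_g_rc_24_7 lc_g_rc_23_3 lc_g_rc_27_0 lc_g_rc_27_6 lc_g_rc_24_3 lc_g_rc_21_2 lc_g_rc_27_6 lc_g_rc_26_3 lc_g_rc_27_0 lc_g_rc_24_7 lc_g_rc_26_9 lc_g_rc_21_2 lc_g_rc_26_9 lc_g_rc_26_6 lc_g_rc_24_1 lc_g_Cert_tree lc_g_Cert_tree lc_g_rc_21_2) (@D3.rec (fun _ => (Cert rels S Gen.g)) lc_g_rc_23_3 lc_g_rc_23_9 lc_g_rc_27_6 lc_g_rc_21_3 lc_g_rc_23_3 lc_g_rc_21_2 lc_g_rc_24_1 lc_g_Cert_tree lc_g_rc_23_7 lc_g_rc_21_3 lc_g_rc_27_3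 lc_g_Cert_tree lc_g_rc_21_2 lc_g_rc_24_1 lc_g_Cert_tree lc_g_rc_27_9 lc_g_rc_24_3 lc_g_rc_24_1 lc_g_rc_24_3 lc_g_rc_21_3 lc_g_Cert_tree lc_g_rc_27_6 lc_g_rc_26_6 lc_g_rc_25_19 lc_g_rc_21_2 lc_g_rc_21_3 lc_g_Cert_tree lc_g_rc_21_3 lc_g_Cert_tree lc_g_rc_21_3 lc_g_rc_21_2 lc_g_rc_21_2 lc_g_rc_26_6 lc_g_rc_23_1 lc_g_rc_21_3 lc_g_rc_26_6 lc_g_rc_27_6 lc_g_rc_25_19 lc_g_rc_24_3 lc_g_rc_27_3 lc_g_rc_21_2 lc_g_rc_27_6 lc_g_rc_21_2 lc_g_rc_24_1 lc_g_rc_26_6 lc_g_rc_27_6 lc_g_rc_26_0 lc_g_rc_24_3 lc_g_rc_23_3 lc_g_rc_21_2 lc_g_rc_21_2 lc_g_rc_24_1 lc_g_rc_24_1 lc_g_Cert_tree lc_g_rc_24_1 lc_g_rc_26_3 lc_g_rc_27_6 lc_g_rc_24_7 lc_g_rc_21_3 lc_g_rc_23_7 lc_g_rc_23_1 lc_g_rc_21_3) (@D3.rec (fun _ =>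 (Cert rels S Gen.g)) lc_g_Cert_tree lc_g_rc_26_0 lc_g_rc_24_3 lc_g_rc_25_3 lc_g_rc_26_0 lc_g_Cert_tree lc_g_rc_21_3 lc_g_rc_27_6 lc_g_rc_24_3 lc_g_rc_21_3 lc_g_Cert_tree lc_g_rc_25_3 lc_g_rc_21_3 lc_g_rc_21_2 lc_g_rc_21_3 lc_g_rc_21_3 lc_g_rc_27_6 lc_g_rc_21_3 lc_g_rc_26_6 lc_g_rc_23_7 lc_g_rc_23_3 lc_g_rc_25_11 lc_g_rc_23_1 lc_g_rc_27_6 lc_g_rc_23_3 lc_g_rc_26_6 lc_g_rc_23_9 lc_g_rc_23_1 lc_g_rc_27_9 lc_g_Cert_tree lc_g_rc_27_6 lc_g_rc_21_3 lc_g_Cert_tree lc_g_rc_23_3 lc_g_rc_24_3 lc_g_rc_23_3 lc_g_rc_21_2 lc_g_rc_27_6 lc_g_rc_25_19 lc_g_rc_21_2 lc_g_rc_21_2 lc_g_rc_21_3 lc_g_rc_23_1 lc_g_rc_26_9 lc_g_rc_27_6 lc_g_rc_21_3 lc_g_Cert_tree lc_g_rc_23_7 lc_g_rc_21_3 lc_g_Cert_tree lc_g_rc_21_2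 lc_g_Cert_tree lc_g_rc_27_3 lc_g_rc_23_3 lc_g_rc_21_2 lc_g_rc_21_2 lc_g_rc_23_1 lc_g_rc_21_3 lc_g_Cert_tree lc_g_rc_26_6 lc_g_rc_21_3 lc_g_Cert_tree) (@D3.rec (fun _ => (Cert rels S Gen.g)) lc_g_rc_24_1 lc_g_rc_27_0 lc_g_rc_23_1 lc_g_rc_23_3 lc_g_rc_25_7 lc_g_rc_27_0 lc_g_rc_21_2 lc_g_rc_23_1 lc_g_rc_27_9 lc_g_rc_21_3 lc_g_rc_21_3 lc_g_Cert_tree lc_g_rc_21_3 lc_g_rc_26_3 lc_g_rc_24_3 lc_g_rc_24_1 lc_g_rc_24_3 lc_g_rc_24_9 lc_g_rc_21_2 lc_g_Cert_tree lc_g_rc_23_3 lc_g_rc_21_2 lc_g_rc_24_1 lc_g_rc_24_3 lc_g_rc_21_2 lc_g_rc_24_7 lc_g_rc_23_1 lc_g_rc_27_6 lc_g_rc_21_3 lc_g_rc_23_7 lc_g_rc_23_3 lc_g_rc_24_7 lc_g_rc_27_6 lc_g_rc_27_3 lc_g_rc_24_3 lc_g_rc_27_0 lc_g_rc_21_2 lc_g_rc_27_6 lc_g_rc_25_19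 lc_g_rc_27_3 lc_g_rc_27_0 lc_g_Cert_tree lc_g_rc_26_9 lc_g_rc_27_6 lc_g_rc_26_6 lc_g_rc_26_3 lc_g_rc_26_6 lc_g_rc_27_0 lc_g_rc_24_7 lc_g_rc_27_9 lc_g_Cert_tree lc_g_rc_27_6 lc_g_rc_26_0 lc_g_rc_26_3 lc_g_Cert_tree lc_g_rc_21_3 lc_g_rc_24_1 lc_g_rc_23_7 lc_g_rc_24_9 lc_g_rc_27_0 lc_g_rc_27_0 lc_g_Cert_tree) (@D3.rec (fun _ => (Cert rels S Gen.g)) lc_g_rc_23_1 lc_g_rc_24_3 lc_g_rc_21_3 lc_g_rc_25_15 lc_g_rc_23_3 lc_g_Cert_tree lc_g_rc_24_7 lc_g_rc_26_9 lc_g_rc_21_3 lc_g_Cert_tree lc_g_rc_24_3 lc_g_rc_27_6 lc_g_rc_26_6 lc_g_rc_26_3 lc_g_rc_27_0 lc_g_rc_21_3 lc_g_rc_21_2 lc_g_rc_26_6 lc_g_rc_27_3 lc_g_Cert_tree lc_g_rc_23_3 lc_g_rc_26_6 lc_g_rc_23_7 lc_g_rc_21_3 lc_g_rc_27_6 lc_g_rc_21_3 lc_g_Cert_tree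 lc_g_rc_21_3 lc_g_rc_21_2 lc_g_rc_21_2 lc_g_rc_24_1 lc_g_Cert_tree lc_g_rc_27_0 lc_g_rc_27_3 lc_g_Cert_tree lc_g_rc_23_9 lc_g_rc_27_6 lc_g_rc_24_9 lc_g_rc_23_9 lc_g_rc_21_2 lc_g_rc_24_1 lc_g_rc_27_6 lc_g_Cert_tree lc_g_rc_24_3 lc_g_rc_21_3 lc_g_rc_27_0 lc_g_rc_21_2 lc_g_Cert_tree lc_g_rc_21_3 lc_g_rc_24_3 lc_g_rc_25_19 lc_g_rc_26_6 lc_g_rc_21_3 lc_g_rc_26_3 lc_g_rc_21_2 lc_g_rc_21_3 lc_g_rc_27_3 lc_g_Cert_tree lc_g_rc_24_7 lc_g_rc_27_6 lc_g_rc_27_6 lc_g_rc_25_3) (@D3.rec (fun _ => (Cert rels S Gen.g)) lc_g_rc_23_7 lc_g_rc_26_3 lc_g_rc_23_1 lc_g_rc_25_15 lc_g_rc_21_3 lc_g_rc_27_6 lc_g_rc_26_3 lc_g_rc_21_2 lc_g_rc_26_6 lc_g_rc_21_2 lc_g_rc_26_6 lc_g_rc_21_2 lc_g_rc_26_3 lc_g_rc_21_2 lc_g_rc_21_3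 lc_g_Cert_tree lc_g_rc_26_9 lc_g_rc_26_0 lc_g_rc_24_7 lc_g_rc_27_0 lc_g_rc_26_3 lc_g_rc_21_3 lc_g_rc_27_6 lc_g_rc_27_3 lc_g_rc_21_2 lc_g_rc_21_3 lc_g_rc_24_3 lc_g_rc_26_9 lc_g_rc_27_6 lc_g_rc_21_3 lc_g_rc_27_6 lc_g_rc_27_3 lc_g_Cert_tree lc_g_rc_21_3 lc_g_rc_27_3 lc_g_rc_26_0 lc_g_rc_23_9 lc_g_rc_27_0 lc_g_rc_21_3 lc_g_rc_21_3 lc_g_rc_21_3 lc_g_Cert_tree lc_g_rc_27_6 lc_g_rc_21_2 lc_g_rc_23_3 lc_g_rc_25_3 lc_g_rc_27_6 lc_g_rc_23_3 lc_g_rc_23_3 lc_g_Cert_tree lc_g_rc_21_3 lc_g_Cert_tree lc_g_rc_21_2 lc_g_rc_23_7 lc_g_rc_27_0 lc_g_rc_24_3 lc_g_rc_25_19 lc_g_rc_21_2 lc_g_Cert_tree lc_g_rc_26_6 lc_g_rc_27_0 lc_g_rc_26_0) (@D3.rec (fun _ => (Cert rels S Gen.g)) lc_g_Cert_tree lc_g_Cert_tree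 lc_g_rc_26_0 lc_g_rc_27_6 lc_g_rc_24_3 lc_g_rc_27_9 lc_g_rc_21_3 lc_g_rc_21_3 lc_g_rc_23_1 lc_g_Cert_tree lc_g_rc_27_0 lc_g_Cert_tree lc_g_rc_21_2 lc_g_rc_26_9 lc_g_rc_21_2 lc_g_rc_27_6 lc_g_Cert_tree lc_g_rc_21_2 lc_g_rc_27_6 lc_g_rc_24_9 lc_g_Cert_tree lc_g_rc_26_3 lc_g_rc_26_9 lc_g_rc_27_9 lc_g_rc_27_6 lc_g_rc_27_6 lc_g_rc_27_6 lc_g_rc_27_9 lc_g_rc_23_3 lc_g_rc_21_2 lc_g_rc_23_1 lc_g_rc_23_1 lc_g_rc_26_3 lc_g_Cert_tree lc_g_rc_21_2 lc_g_rc_21_3 lc_g_rc_21_2 lc_g_rc_27_3 lc_g_rc_21_3 lc_g_Cert_tree lc_g_rc_25_3 lc_g_rc_21_2 lc_g_rc_27_6 lc_g_rc_24_1 lc_g_rc_27_6 lc_g_rc_24_1 lc_g_rc_27_0 lc_g_rc_21_3 lc_g_rc_25_3 lc_g_rc_24_3 lc_g_rc_21_3 lc_g_rc_23_9 lc_g_rc_26_6 lc_g_rc_24_1 lc_g_rc_26_3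 lc_g_rc_27_6 lc_g_rc_24_7 lc_g_Cert_tree lc_g_rc_21_2 lc_g_rc_21_3 lc_g_rc_26_3 lc_g_Cert_tree) (@D3.rec (fun _ => (Cert rels S Gen.g)) lc_g_rc_21_3 lc_g_rc_23_9 lc_g_rc_21_3 lc_g_rc_26_3 lc_g_rc_26_0 lc_g_rc_24_3 lc_g_rc_24_3 lc_g_rc_21_3 lc_g_Cert_tree lc_g_rc_21_3 lc_g_rc_27_3 lc_g_Cert_tree lc_g_rc_23_3 lc_g_Cert_tree lc_g_rc_21_3 lc_g_rc_27_6 lc_g_rc_26_0 lc_g_rc_21_2 lc_g_rc_25_7 lc_g_rc_23_3 lc_g_rc_26_6 lc_g_rc_21_2 lc_g_rc_21_2 lc_g_rc_21_2 lc_g_rc_26_6 lc_g_rc_27_3 lc_g_rc_21_3 lc_g_Cert_tree lc_g_rc_26_6 lc_g_rc_21_2 lc_g_rc_24_9 lc_g_rc_26_6 lc_g_rc_23_3 lc_g_rc_27_6 lc_g_rc_26_0 lc_g_rc_26_0 lc_g_rc_24_3 lc_g_rc_26_9 lc_g_Cert_tree lc_g_rc_23_9 lc_g_rc_26_6 lc_g_rc_21_3 lc_g_rc_24_1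 lc_g_rc_26_6 lc_g_rc_21_3 lc_g_Cert_tree lc_g_rc_26_6 lc_g_rc_26_6 lc_g_rc_25_19 lc_g_rc_26_0 lc_g_rc_25_15 lc_g_rc_27_3 lc_g_rc_23_3 lc_g_rc_24_1 lc_g_rc_27_6 lc_g_rc_26_6 lc_g_rc_25_11 lc_g_rc_27_6 lc_g_rc_26_9 lc_g_rc_27_0 lc_g_rc_27_3 lc_g_rc_26_3) (@D3.rec (fun _ => (Cert rels S Gen.g)) lc_g_rc_24_3 lc_g_rc_27_3 lc_g_rc_27_6 lc_g_Cert_tree lc_g_rc_21_3 lc_g_rc_21_3 lc_g_rc_24_1 lc_g_rc_23_3 lc_g_rc_23_7 lc_g_rc_24_1 lc_g_rc_21_2 lc_g_rc_23_7 lc_g_rc_23_3 lc_g_rc_26_3 lc_g_Cert_tree lc_g_rc_26_0 lc_g_Cert_tree lc_g_rc_21_2 lc_g_rc_27_6 lc_g_rc_23_9 lc_g_rc_26_6 lc_g_rc_26_6 lc_g_rc_24_7 lc_g_rc_24_7 lc_g_Cert_tree lc_g_rc_23_9 lc_g_rc_27_0 lc_g_rc_25_11 lc_g_rc_24_3 lc_g_rc_23_7 lc_g_rc_24_9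 lc_g_Cert_tree lc_g_rc_21_2 lc_g_rc_26_6 lc_g_rc_27_0 lc_g_Cert_tree lc_g_rc_27_3 lc_g_rc_27_6 lc_g_rc_21_2 lc_g_rc_27_3 lc_g_rc_21_3 lc_g_Cert_tree lc_g_rc_21_2 lc_g_rc_21_2 lc_g_rc_24_9 lc_g_rc_26_6 lc_g_Cert_tree lc_g_rc_27_6 lc_g_rc_21_2 lc_g_rc_21_3 lc_g_rc_21_2 lc_g_rc_27_6 lc_g_rc_26_6 lc_g_rc_26_6 lc_g_rc_24_7 lc_g_rc_26_6 lc_g_rc_27_9 lc_g_rc_24_7 lc_g_rc_21_3 lc_g_Cert_tree lc_g_rc_26_0 lc_g_rc_25_7) (@D3.rec (fun _ => (Cert rels S Gen.g)) lc_g_rc_26_3 lc_g_rc_27_6 lc_g_rc_21_2 lc_g_rc_21_3 lc_g_rc_27_0 lc_g_rc_27_3 lc_g_rc_27_9 lc_g_rc_27_9 lc_g_rc_23_7 lc_g_rc_23_3 lc_g_rc_26_9 lc_g_rc_23_3 lc_g_rc_21_2 lc_g_rc_24_3 lc_g_rc_23_3 lc_g_rc_27_6 lc_g_rc_21_2 lc_g_Cert_tree lc_g_rc_26_3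 lc_g_rc_21_3 lc_g_rc_21_2 lc_g_rc_27_6 lc_g_rc_24_3 lc_g_rc_26_6 lc_g_rc_21_2 lc_g_rc_26_6 lc_g_rc_26_9 lc_g_rc_23_1 lc_g_rc_26_6 lc_g_rc_24_3 lc_g_rc_27_3 lc_g_rc_26_3 lc_g_rc_26_6 lc_g_rc_26_6 lc_g_rc_27_6 lc_g_rc_26_0 lc_g_rc_24_9 lc_g_rc_21_3 lc_g_rc_26_6 lc_g_rc_24_7 lc_g_rc_27_3 lc_g_rc_26_3 lc_g_rc_23_3 lc_g_rc_24_3 lc_g_rc_23_1 lc_g_rc_27_6 lc_g_rc_21_3 lc_g_Cert_tree lc_g_rc_27_9 lc_g_Cert_tree lc_g_rc_27_0 lc_g_rc_27_0 lc_g_rc_27_0 lc_g_rc_27_0 lc_g_rc_21_3 lc_g_rc_21_3 lc_g_rc_21_2 lc_g_rc_27_6 lc_g_rc_27_6 lc_g_Cert_tree lc_g_rc_27_6 lc_g_rc_21_2) (@D3.rec (fun _ => (Cert rels S Gen.g)) lc_g_rc_24_1 lc_g_rc_23_7 lc_g_rc_27_0 lc_g_rc_26_6 lc_g_rc_26_9 lc_g_rc_21_3 lc_g_Cert_tree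 lc_g_rc_21_2 lc_g_rc_23_3 lc_g_rc_21_2 lc_g_rc_21_3 lc_g_rc_26_3 lc_g_rc_24_1 lc_g_rc_27_6 lc_g_Cert_tree lc_g_rc_23_9 lc_g_rc_24_1 lc_g_rc_27_3 lc_g_Cert_tree lc_g_rc_23_9 lc_g_rc_26_0 lc_g_rc_24_3 lc_g_rc_24_3 lc_g_rc_24_3 lc_g_rc_21_2 lc_g_rc_25_19 lc_g_rc_25_3 lc_g_rc_25_19 lc_g_rc_24_9 lc_g_rc_24_3 lc_g_rc_27_3 lc_g_rc_23_1 lc_g_rc_27_6 lc_g_rc_25_3 lc_g_rc_27_0 lc_g_rc_21_2 lc_g_Cert_tree lc_g_rc_27_9 lc_g_rc_26_9 lc_g_rc_26_3 lc_g_Cert_tree lc_g_rc_21_2 lc_g_rc_26_3 lc_g_rc_26_6 lc_g_rc_26_6 lc_g_Cert_tree lc_g_rc_27_3 lc_g_rc_21_2 lc_g_rc_21_3 lc_g_rc_26_0 lc_g_rc_24_7 lc_g_Cert_tree lc_g_rc_25_19 lc_g_rc_27_6 lc_g_rc_24_1 lc_g_rc_27_9 lc_g_rc_26_6 lc_g_rc_21_3 lc_g_rc_27_6 lc_g_rc_21_2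 lc_g_rc_23_3 lc_g_rc_23_9) (@D3.rec (fun _ => (Cert rels S Gen.g)) lc_g_rc_21_2 lc_g_rc_21_3 lc_g_rc_26_3 lc_g_rc_27_9 lc_g_rc_26_9 lc_g_rc_26_6 lc_g_rc_24_1 lc_g_rc_27_0 lc_g_rc_24_7 lc_g_rc_26_6 lc_g_rc_27_6 lc_g_rc_21_2 lc_g_rc_21_2 lc_g_rc_23_3 lc_g_rc_21_2 lc_g_rc_21_3 lc_g_rc_21_3 lc_g_rc_23_9 lc_g_rc_26_6 lc_g_Cert_tree lc_g_rc_26_0 lc_g_rc_26_9 lc_g_Cert_tree lc_g_rc_26_9 lc_g_rc_24_1 lc_g_rc_26_6 lc_g_rc_27_6 lc_g_rc_24_3 lc_g_rc_26_0 lc_g_rc_24_7 lc_g_rc_23_3 lc_g_rc_25_15 lc_g_rc_27_6 lc_g_rc_27_0 lc_g_rc_21_3 lc_g_Cert_tree lc_g_rc_26_6 lc_g_rc_23_1 lc_g_rc_21_3 lc_g_rc_23_7 lc_g_rc_23_3 lc_g_rc_27_6 lc_g_rc_26_6 lc_g_rc_21_3 lc_g_rc_27_6 lc_g_rc_23_1 lc_g_rc_27_6 lc_g_rc_26_0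 lc_g_rc_21_3 lc_g_rc_27_6 lc_g_rc_21_3 lc_g_rc_27_3 lc_g_rc_26_9 lc_g_rc_25_19 lc_g_rc_21_3 lc_g_rc_25_19 lc_g_rc_24_1 lc_g_rc_24_1 lc_g_rc_27_6 lc_g_rc_21_3 lc_g_Cert_tree lc_g_rc_21_2) (@D3.rec (fun _ => (Cert rels S Gen.g)) lc_g_rc_21_2 lc_g_rc_27_9 lc_g_rc_24_3 lc_g_rc_27_3 lc_g_rc_24_1 lc_g_Cert_tree lc_g_rc_26_3 lc_g_rc_26_0 lc_g_rc_21_3 lc_g_rc_21_3 lc_g_rc_27_0 lc_g_rc_26_6 lc_g_rc_27_6 lc_g_rc_25_3 lc_g_rc_27_6 lc_g_Cert_tree lc_g_rc_21_2 lc_g_rc_24_9 lc_g_rc_26_0 lc_g_rc_26_6 lc_g_rc_26_3 lc_g_Cert_tree lc_g_rc_26_3 lc_g_Cert_tree lc_g_rc_24_9 lc_g_rc_21_2 lc_g_rc_26_3 lc_g_rc_21_3 lc_g_rc_27_3 lc_g_rc_24_3 lc_g_rc_21_3 lc_g_Cert_tree lc_g_rc_27_9 lc_g_rc_21_3 lc_g_Cert_tree lc_g_rc_21_2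 lc_g_rc_26_3 lc_g_rc_27_3 lc_g_rc_27_3 lc_g_rc_27_3 lc_g_rc_26_3 lc_g_rc_27_3 lc_g_rc_21_3 lc_g_rc_27_0 lc_g_rc_24_9 lc_g_Cert_tree lc_g_rc_26_0 lc_g_rc_21_2 lc_g_rc_23_1 lc_g_rc_23_1 lc_g_rc_27_0 lc_g_rc_27_6 lc_g_rc_21_3 lc_g_rc_26_3 lc_g_rc_21_2 lc_g_Cert_tree lc_g_rc_23_9 lc_g_rc_21_2 lc_g_rc_24_1 lc_g_Cert_tree lc_g_rc_21_2 lc_g_rc_27_6) (@D3.rec (fun _ => (Cert rels S Gen.g)) lc_g_rc_21_2 lc_g_rc_21_3 lc_g_Cert_tree lc_g_rc_26_3 lc_g_Cert_tree lc_g_rc_26_6 lc_g_rc_24_1 lc_g_rc_26_6 lc_g_rc_24_3 lc_g_rc_26_6 lc_g_rc_24_9 lc_g_rc_26_6 lc_g_rc_21_3 lc_g_Cert_tree lc_g_rc_23_3 lc_g_Cert_tree lc_g_rc_26_3 lc_g_rc_24_7 lc_g_rc_23_1 lc_g_rc_23_7 lc_g_rc_24_7 lc_g_rc_24_3 lc_g_rc_23_3 lc_g_rc_21_2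 lc_g_rc_26_6 lc_g_rc_23_7 lc_g_rc_26_0 lc_g_rc_25_19 lc_g_rc_25_19 lc_g_rc_21_3 lc_g_rc_21_3 lc_g_rc_27_0 lc_g_rc_23_3 lc_g_rc_21_3 lc_g_rc_27_6 lc_g_rc_21_2 lc_g_rc_25_19 lc_g_rc_21_2 lc_g_rc_26_6 lc_g_rc_25_3 lc_g_rc_27_0 lc_g_rc_21_3 lc_g_rc_26_0 lc_g_rc_27_6 lc_g_rc_27_0 lc_g_rc_27_6 lc_g_Cert_tree lc_g_rc_26_3 lc_g_rc_27_6 lc_g_rc_21_3 lc_g_rc_26_3 lc_g_rc_27_6 lc_g_rc_27_9 lc_g_rc_21_3 lc_g_Cert_tree lc_g_rc_21_2 lc_g_rc_24_3 lc_g_rc_27_6 lc_g_rc_27_9 lc_g_rc_27_9 lc_g_rc_26_6 lc_g_Cert_tree) (@D3.rec (fun _ => (Cert rels S Gen.g)) lc_g_rc_26_0 lc_g_rc_26_3 lc_g_Cert_tree lc_g_rc_26_6 lc_g_rc_24_3 lc_g_rc_24_9 lc_g_rc_21_3 lc_g_rc_27_6 lc_g_rc_23_1 lc_g_rc_26_9 lc_g_rc_26_0 lc_g_rc_23_9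 lc_g_rc_21_3 lc_g_rc_27_9 lc_g_rc_21_3 lc_g_Cert_tree lc_g_rc_26_3 lc_g_rc_26_0 lc_g_rc_23_3 lc_g_rc_21_3 lc_g_rc_26_0 lc_g_rc_21_3 lc_g_rc_26_3 lc_g_rc_27_6 lc_g_rc_27_0 lc_g_rc_21_2 lc_g_rc_21_3 lc_g_Cert_tree lc_g_rc_27_6 lc_g_rc_21_3 lc_g_rc_21_2 lc_g_rc_21_3 lc_g_Cert_tree lc_g_rc_23_1 lc_g_rc_27_3 lc_g_rc_27_6 lc_g_rc_27_0 lc_g_rc_24_3 lc_g_rc_27_0 lc_g_rc_21_3 lc_g_rc_21_2 lc_g_rc_21_2 lc_g_Cert_tree lc_g_rc_24_3 lc_g_rc_27_3 lc_g_rc_25_19 lc_g_rc_24_1 lc_g_rc_27_9 lc_g_Cert_tree lc_g_rc_26_6 lc_g_Cert_tree lc_g_rc_21_2 lc_g_rc_21_2 lc_g_rc_24_3 lc_g_rc_26_6 lc_g_Cert_tree lc_g_rc_27_3 lc_g_rc_24_9 lc_g_rc_21_3 lc_g_rc_23_3 lc_g_rc_26_0 lc_g_rc_21_3) (@D3.rec (fun _ => (Cert rels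 S Gen.g)) lc_g_rc_23_3 lc_g_rc_27_6 lc_g_rc_27_9 lc_g_rc_27_3 lc_g_rc_26_6 lc_g_rc_27_3 lc_g_rc_21_2 lc_g_rc_23_7 lc_g_rc_27_9 lc_g_rc_21_3 lc_g_rc_26_3 lc_g_rc_21_2 lc_g_rc_23_1 lc_g_rc_27_3 lc_g_rc_27_6 lc_g_rc_27_6 lc_g_rc_27_6 lc_g_rc_26_6 lc_g_rc_23_9 lc_g_rc_27_6 lc_g_rc_27_3 lc_g_rc_27_3 lc_g_rc_26_6 lc_g_rc_21_2 lc_g_rc_21_3 lc_g_rc_21_2 lc_g_rc_26_6 lc_g_rc_27_6 lc_g_Cert_tree lc_g_rc_21_3 lc_g_rc_26_0 lc_g_rc_21_3 lc_g_rc_24_1 lc_g_rc_23_3 lc_g_rc_24_7 lc_g_rc_24_3 lc_g_rc_24_1 lc_g_rc_27_0 lc_g_rc_24_9 lc_g_rc_27_0 lc_g_rc_27_0 lc_g_rc_21_2 lc_g_rc_21_2 lc_g_Cert_tree lc_g_rc_24_3 lc_g_rc_27_6 lc_g_rc_23_3 lc_g_rc_24_3 lc_g_Cert_tree lc_g_rc_27_3 lc_g_rc_24_7 lc_g_rc_23_3 lc_g_rc_26_0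 lc_g_rc_25_3 lc_g_rc_21_2 lc_g_rc_26_3 lc_g_rc_21_3 lc_g_rc_21_2 lc_g_rc_27_6 lc_g_rc_21_2 lc_g_rc_26_3 lc_g_rc_21_2) (@D3.rec (fun _ => (Cert rels S Gen.g)) lc_g_rc_21_3 lc_g_rc_27_9 lc_g_rc_26_3 lc_g_rc_27_6 lc_g_Cert_tree lc_g_rc_27_9 lc_g_rc_21_3 lc_g_Cert_tree lc_g_rc_21_2 lc_g_rc_21_2 lc_g_rc_21_3 lc_g_rc_23_3 lc_g_rc_27_3 lc_g_rc_27_0 lc_g_rc_27_3 lc_g_rc_23_1 lc_g_Cert_tree lc_g_rc_21_3 lc_g_rc_27_3 lc_g_rc_25_3 lc_g_rc_27_0 lc_g_rc_27_3 lc_g_rc_21_3 lc_g_Cert_tree lc_g_rc_25_11 lc_g_rc_23_1 lc_g_rc_23_3 lc_g_rc_27_0 lc_g_rc_25_3 lc_g_rc_21_3 lc_g_rc_26_0 lc_g_rc_24_9 lc_g_rc_21_2 lc_g_rc_24_7 lc_g_rc_26_6 lc_g_Cert_tree lc_g_Cert_tree lc_g_rc_21_2 lc_g_rc_23_3 lc_g_rc_21_3 lc_g_Cert_tree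 lc_g_rc_21_2 lc_g_Cert_tree lc_g_rc_21_2 lc_g_rc_21_3 lc_g_rc_26_3 lc_g_rc_21_2 lc_g_rc_25_15 lc_g_rc_26_0 lc_g_rc_27_0 lc_g_rc_27_3 lc_g_rc_21_3 lc_g_rc_23_9 lc_g_rc_21_3 lc_g_rc_23_3 lc_g_rc_26_6 lc_g_rc_24_3 lc_g_rc_24_3 lc_g_rc_26_9 lc_g_rc_24_3 lc_g_rc_24_7 lc_g_rc_26_3) (@D3.rec (fun _ => (Cert rels S Gen.g)) lc_g_rc_27_0 lc_g_rc_27_3 lc_g_rc_21_3 lc_g_rc_21_2 lc_g_rc_23_9 lc_g_rc_21_2 lc_g_rc_23_1 lc_g_rc_27_6 lc_g_rc_27_9 lc_g_rc_26_9 lc_g_rc_21_3 lc_g_rc_24_9 lc_g_Cert_tree lc_g_rc_23_1 lc_g_Cert_tree lc_g_rc_26_3 lc_g_rc_21_2 lc_g_rc_27_3 lc_g_rc_23_1 lc_g_rc_27_3 lc_g_rc_27_6 lc_g_rc_27_0 lc_g_rc_25_15 lc_g_rc_21_2 lc_g_rc_26_9 lc_g_rc_26_6 lc_g_rc_27_6 lc_g_Cert_tree lc_g_rc_25_7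 lc_g_rc_21_2 lc_g_rc_27_0 lc_g_rc_24_9 lc_g_rc_26_6 lc_g_rc_27_0 lc_g_rc_21_2 lc_g_Cert_tree lc_g_rc_21_3 lc_g_rc_21_2 lc_g_rc_21_3 lc_g_Cert_tree lc_g_rc_27_3 lc_g_rc_21_2 lc_g_rc_26_3 lc_g_Cert_tree lc_g_rc_23_3 lc_g_rc_27_3 lc_g_rc_23_9 lc_g_rc_21_2 lc_g_rc_27_0 lc_g_rc_27_3 lc_g_rc_21_3 lc_g_rc_25_19 lc_g_rc_24_3 lc_g_rc_27_3 lc_g_rc_21_2 lc_g_rc_26_9 lc_g_rc_27_6 lc_g_rc_21_2 lc_g_rc_21_3 lc_g_Cert_tree lc_g_rc_26_3 lc_g_rc_26_6) (@D3.rec (fun _ => (Cert rels S Gen.g)) lc_g_rc_24_3 lc_g_rc_26_6 lc_g_rc_26_9 lc_g_rc_21_2 lc_g_rc_26_3 lc_g_rc_21_3 lc_g_rc_21_2 lc_g_rc_24_7 lc_g_rc_23_1 lc_g_Cert_tree lc_g_rc_27_0 lc_g_Cert_tree lc_g_rc_21_2 lc_g_rc_23_1 lc_g_rc_26_3 lc_g_rc_26_3 lc_g_rc_27_0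 lc_g_rc_24_7 lc_g_Cert_tree lc_g_rc_23_3 lc_g_rc_26_3 lc_g_rc_26_3 lc_g_Cert_tree lc_g_rc_27_6 lc_g_rc_27_6 lc_g_Cert_tree lc_g_rc_26_9 lc_g_rc_25_19 lc_g_rc_21_3 lc_g_rc_24_3 lc_g_rc_24_3 lc_g_rc_27_0 lc_g_rc_23_9 lc_g_rc_21_2 lc_g_rc_25_3 lc_g_rc_23_3 lc_g_rc_27_6 lc_g_rc_21_2 lc_g_rc_21_3 lc_g_Cert_tree lc_g_rc_21_2 lc_g_rc_21_3 lc_g_rc_26_6 lc_g_rc_21_3 lc_g_rc_21_3 lc_g_rc_21_2 lc_g_rc_26_3 lc_g_rc_26_6 lc_g_rc_21_3 lc_g_rc_21_3 lc_g_rc_26_6 lc_g_rc_21_2 lc_g_rc_25_3 lc_g_rc_27_6 lc_g_rc_26_3 lc_g_rc_26_9 lc_g_rc_21_3 lc_g_rc_27_6 lc_g_rc_26_6 lc_g_Cert_tree lc_g_rc_27_6 lc_g_rc_24_7) (@D3.rec (fun _ => (Cert rels S Gen.g)) lc_g_rc_23_7 lc_g_rc_21_3 lc_g_Cert_tree lc_g_rc_27_6 lc_g_rc_27_0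 lc_g_rc_26_6 lc_g_rc_26_6 lc_g_rc_27_3 lc_g_rc_24_3 lc_g_rc_23_3 lc_g_rc_24_1 lc_g_rc_21_3 lc_g_rc_21_2 lc_g_rc_21_2 lc_g_rc_26_3 lc_g_rc_26_3 lc_g_rc_24_9 lc_g_rc_27_3 lc_g_rc_26_6 lc_g_rc_27_6 lc_g_rc_23_9 lc_g_Cert_tree lc_g_rc_21_3 lc_g_rc_21_3 lc_g_rc_27_6 lc_g_rc_27_6 lc_g_rc_21_2 lc_g_rc_21_3 lc_g_Cert_tree lc_g_rc_26_0 lc_g_rc_21_2 lc_g_rc_26_6 lc_g_rc_21_3 lc_g_rc_21_2 lc_g_rc_23_7 lc_g_rc_27_3 lc_g_rc_21_3 lc_g_Cert_tree lc_g_rc_23_7 lc_g_rc_27_0 lc_g_rc_26_6 lc_g_rc_23_3 lc_g_rc_21_3 lc_g_rc_27_9 lc_g_rc_21_2 lc_g_rc_27_6 lc_g_rc_21_3 lc_g_Cert_tree lc_g_rc_25_3 lc_g_Cert_tree lc_g_rc_21_2 lc_g_Cert_tree lc_g_rc_26_6 lc_g_rc_21_3 lc_g_rc_24_1 lc_g_rc_21_2 lc_g_rc_24_7 lc_g_rc_21_2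 lc_g_Cert_tree lc_g_rc_27_9 lc_g_rc_24_1 lc_g_Cert_tree) (@D3.rec (fun _ => (Cert rels S Gen.g)) lc_g_rc_21_2 lc_g_Cert_tree lc_g_rc_24_9 lc_g_Cert_tree lc_g_rc_23_3 lc_g_rc_24_9 lc_g_Cert_tree lc_g_rc_26_3 lc_g_rc_23_7 lc_g_rc_25_15 lc_g_rc_27_6 lc_g_rc_21_3 lc_g_Cert_tree lc_g_rc_27_6 lc_g_rc_26_3 lc_g_rc_26_6 lc_g_rc_21_3 lc_g_Cert_tree lc_g_rc_21_2 lc_g_rc_26_0 lc_g_rc_26_3 lc_g_rc_24_9 lc_g_rc_21_3 lc_g_rc_27_6 lc_g_rc_27_0 lc_g_rc_21_2 lc_g_rc_26_6 lc_g_rc_24_9 lc_g_rc_21_2 lc_g_rc_21_2 lc_g_rc_25_7 lc_g_rc_21_2 lc_g_rc_21_3 lc_g_rc_21_2 lc_g_rc_21_2 lc_g_rc_27_6 lc_g_rc_23_3 lc_g_rc_21_2 lc_g_rc_27_0 lc_g_rc_21_3 lc_g_rc_26_0 lc_g_rc_24_9 lc_g_rc_27_3 lc_g_rc_24_7 lc_g_rc_27_6 lc_g_rc_26_0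 lc_g_rc_27_6 lc_g_rc_21_3 lc_g_rc_24_1 lc_g_rc_24_1 lc_g_Cert_tree lc_g_rc_23_1 lc_g_rc_23_7 lc_g_rc_21_3 lc_g_rc_27_6 lc_g_rc_21_2 lc_g_rc_27_0 lc_g_rc_26_3 lc_g_rc_25_3 lc_g_rc_26_3 lc_g_rc_26_0 lc_g_rc_27_6) (@D3.rec (fun _ => (Cert rels S Gen.g)) lc_g_rc_21_3 lc_g_Cert_tree lc_g_rc_21_2 lc_g_Cert_tree lc_g_rc_26_9 lc_g_rc_26_6 lc_g_rc_25_19 lc_g_rc_23_3 lc_g_Cert_tree lc_g_rc_21_2 lc_g_rc_27_3 lc_g_rc_27_0 lc_g_rc_23_1 lc_g_rc_24_1 lc_g_Cert_tree lc_g_rc_25_3 lc_g_rc_26_0 lc_g_Cert_tree lc_g_rc_24_1 lc_g_rc_27_6 lc_g_rc_26_0 lc_g_Cert_tree lc_g_rc_27_3 lc_g_rc_27_6 lc_g_rc_21_2 lc_g_rc_26_6 lc_g_rc_24_3 lc_g_Cert_tree lc_g_rc_23_1 lc_g_rc_27_3 lc_g_rc_26_6 lc_g_rc_27_3 lc_g_rc_21_2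 lc_g_rc_26_6 lc_g_rc_25_3 lc_g_rc_26_3 lc_g_rc_23_7 lc_g_rc_21_2 lc_g_rc_27_3 lc_g_rc_21_3 lc_g_rc_24_3 lc_g_rc_23_3 lc_g_rc_23_1 lc_g_rc_21_2 lc_g_rc_24_1 lc_g_rc_21_2 lc_g_rc_27_6 lc_g_rc_23_9 lc_g_rc_24_7 lc_g_rc_21_2 lc_g_rc_27_6 lc_g_rc_27_3 lc_g_rc_24_1 lc_g_rc_26_0 lc_g_rc_26_6 lc_g_rc_24_3 lc_g_rc_26_6 lc_g_rc_27_6 lc_g_rc_21_2 lc_g_rc_27_3 lc_g_rc_21_3 lc_g_rc_21_3) (@D3.rec (fun _ => (Cert rels S Gen.g)) lc_g_rc_27_6 lc_g_rc_21_3 lc_g_Cert_tree lc_g_rc_21_2 lc_g_rc_23_9 lc_g_rc_21_2 lc_g_rc_27_6 lc_g_Cert_tree lc_g_rc_23_9 lc_g_rc_21_3 lc_g_rc_26_6 lc_g_rc_21_3 lc_g_rc_27_3 lc_g_rc_26_6 lc_g_rc_21_3 lc_g_rc_21_2 lc_g_rc_23_9 lc_g_rc_23_1 lc_g_rc_26_9 lc_g_rc_27_6 lc_g_Cert_tree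 lc_g_rc_26_6 lc_g_rc_26_6 lc_g_rc_21_2 lc_g_rc_26_9 lc_g_rc_25_19 lc_g_Cert_tree lc_g_rc_25_3 lc_g_rc_27_6 lc_g_rc_26_3 lc_g_rc_26_3 lc_g_rc_27_3 lc_g_rc_27_9 lc_g_rc_24_3 lc_g_rc_26_0 lc_g_rc_24_7 lc_g_rc_23_3 lc_g_rc_23_1 lc_g_rc_21_2 lc_g_rc_21_2 lc_g_rc_23_3 lc_g_rc_23_3 lc_g_Cert_tree lc_g_rc_26_6 lc_g_rc_27_6 lc_g_rc_26_0 lc_g_rc_21_3 lc_g_rc_27_3 lc_g_rc_21_3 lc_g_rc_24_1 lc_g_rc_27_6 lc_g_rc_23_7 lc_g_rc_24_1 lc_g_rc_27_0 lc_g_rc_26_6 lc_g_rc_23_3 lc_g_rc_27_9 lc_g_rc_21_3 lc_g_rc_21_2 lc_g_rc_23_1 lc_g_rc_24_3 lc_g_rc_23_3) (@D3.rec (fun _ => (Cert rels S Gen.g)) lc_g_rc_25_7 lc_g_rc_21_2 lc_g_rc_21_2 lc_g_rc_24_1 lc_g_rc_25_3 lc_g_rc_24_1 lc_g_Cert_tree lc_g_rc_21_2 lc_g_rc_24_3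 lc_g_rc_26_9 lc_g_rc_24_9 lc_g_Cert_tree lc_g_rc_21_2 lc_g_rc_27_0 lc_g_rc_26_0 lc_g_rc_27_6 lc_g_rc_21_3 lc_g_rc_27_9 lc_g_rc_26_9 lc_g_rc_26_3 lc_g_rc_23_1 lc_g_rc_26_9 lc_g_rc_24_9 lc_g_Cert_tree lc_g_rc_27_6 lc_g_Cert_tree lc_g_rc_23_1 lc_g_rc_27_6 lc_g_rc_24_9 lc_g_rc_26_9 lc_g_rc_27_3 lc_g_rc_25_19 lc_g_rc_26_9 lc_g_rc_21_3 lc_g_rc_24_9 lc_g_rc_23_3 lc_g_rc_27_9 lc_g_rc_27_6 lc_g_Cert_tree lc_g_rc_27_9 lc_g_Cert_tree lc_g_rc_23_3 lc_g_rc_26_6 lc_g_rc_24_7 lc_g_rc_26_3 lc_g_rc_21_2 lc_g_rc_23_1 lc_g_rc_24_7 lc_g_rc_24_1 lc_g_rc_27_3 lc_g_rc_27_0 lc_g_rc_26_6 lc_g_rc_21_3 lc_g_rc_27_0 lc_g_rc_27_3 lc_g_rc_21_2 lc_g_rc_26_3 lc_g_rc_24_9 lc_g_rc_21_2 lc_g_rc_21_2 lc_g_Cert_tree lc_g_rc_27_3)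 (@D3.rec (fun _ => (Cert rels S Gen.g)) lc_g_rc_21_2 lc_g_rc_25_19 lc_g_rc_27_0 lc_g_rc_21_3 lc_g_rc_27_3 lc_g_rc_26_6 lc_g_rc_27_6 lc_g_rc_26_0 lc_g_Cert_tree lc_g_rc_26_3 lc_g_Cert_tree lc_g_rc_21_2 lc_g_Cert_tree lc_g_rc_27_3 lc_g_rc_21_3 lc_g_rc_23_3 lc_g_rc_21_3 lc_g_Cert_tree lc_g_rc_27_3 lc_g_rc_23_1 lc_g_rc_21_2 lc_g_rc_23_7 lc_g_rc_27_6 lc_g_rc_27_3 lc_g_rc_26_3 lc_g_rc_27_3 lc_g_rc_21_3 lc_g_Cert_tree lc_g_rc_23_7 lc_g_rc_26_3 lc_g_rc_21_2 lc_g_rc_27_6 lc_g_rc_27_3 lc_g_rc_21_2 lc_g_rc_26_6 lc_g_rc_21_2 lc_g_rc_27_6 lc_g_rc_25_19 lc_g_Cert_tree lc_g_rc_26_0 lc_g_rc_26_0 lc_g_rc_27_0 lc_g_rc_21_3 lc_g_rc_27_6 lc_g_rc_21_3 lc_g_rc_27_9 lc_g_rc_26_3 lc_g_rc_23_7 lc_g_rc_21_2 lc_g_rc_23_3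 lc_g_rc_27_3 lc_g_rc_26_0 lc_g_rc_23_3 lc_g_rc_21_2 lc_g_rc_21_2 lc_g_rc_21_3 lc_g_rc_21_3 lc_g_rc_21_2 lc_g_rc_21_3 lc_g_rc_27_3 lc_g_rc_21_2 lc_g_Cert_tree) (@D3.rec (fun _ => (Cert rels S Gen.g)) lc_g_rc_23_9 lc_g_rc_21_2 lc_g_rc_21_3 lc_g_rc_27_6 lc_g_rc_23_3 lc_g_rc_21_3 lc_g_rc_21_2 lc_g_rc_21_2 lc_g_rc_23_7 lc_g_rc_27_3 lc_g_rc_26_9 lc_g_rc_23_3 lc_g_rc_27_3 lc_g_rc_27_0 lc_g_rc_27_6 lc_g_rc_26_6 lc_g_rc_27_0 lc_g_rc_25_15 lc_g_rc_24_3 lc_g_rc_21_2 lc_g_rc_24_3 lc_g_rc_24_7 lc_g_rc_26_3 lc_g_Cert_tree lc_g_rc_23_1 lc_g_rc_24_3 lc_g_rc_21_2 lc_g_rc_21_2 lc_g_rc_23_7 lc_g_rc_23_1 lc_g_rc_24_3 lc_g_rc_21_2 lc_g_rc_26_3 lc_g_rc_25_19 lc_g_rc_21_3 lc_g_Cert_tree lc_g_rc_27_6 lc_g_rc_27_3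 lc_g_rc_26_0 lc_g_rc_24_7 lc_g_rc_26_0 lc_g_rc_21_3 lc_g_rc_24_1 lc_g_rc_21_2 lc_g_rc_27_6 lc_g_rc_26_6 lc_g_rc_25_11 lc_g_rc_24_1 lc_g_rc_21_3 lc_g_rc_26_9 lc_g_rc_24_1 lc_g_rc_24_3 lc_g_rc_26_3 lc_g_rc_21_3 lc_g_rc_21_2 lc_g_rc_21_3 lc_g_rc_21_3 lc_g_Cert_tree lc_g_rc_23_1 lc_g_Cert_tree lc_g_rc_23_3 lc_g_rc_26_9) (@D3.rec (fun _ => (Cert rels S Gen.g)) lc_g_rc_26_3 lc_g_rc_26_0 lc_g_rc_21_3 lc_g_rc_24_3 lc_g_rc_26_6 lc_g_rc_27_6 lc_g_rc_27_6 lc_g_Cert_tree lc_g_rc_21_2 lc_g_rc_27_6 lc_g_rc_23_3 lc_g_rc_27_9 lc_g_Cert_tree lc_g_rc_21_2 lc_g_rc_26_0 lc_g_rc_21_3 lc_g_rc_21_2 lc_g_rc_23_1 lc_g_rc_24_1 lc_g_rc_26_0 lc_g_rc_26_6 lc_g_rc_26_6 lc_g_rc_21_3 lc_g_rc_21_2 lc_g_rc_25_3 lc_g_rc_26_6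 lc_g_rc_21_3 lc_g_rc_27_6 lc_g_rc_26_3 lc_g_rc_21_2 lc_g_rc_26_3 lc_g_rc_27_3 lc_g_Cert_tree lc_g_rc_21_3 lc_g_rc_26_3 lc_g_rc_21_3 lc_g_rc_21_2 lc_g_rc_24_7 lc_g_rc_26_6 lc_g_rc_26_6 lc_g_rc_27_6 lc_g_rc_25_3 lc_g_Cert_tree lc_g_rc_21_2 lc_g_rc_21_2 lc_g_rc_27_9 lc_g_rc_21_3 lc_g_rc_21_2 lc_g_Cert_tree lc_g_rc_21_2 lc_g_rc_26_3 lc_g_rc_21_3 lc_g_Cert_tree lc_g_rc_27_6 lc_g_Cert_tree lc_g_rc_27_3 lc_g_rc_27_6 lc_g_rc_24_7 lc_g_rc_24_3 lc_g_rc_21_3 lc_g_rc_21_2 lc_g_Cert_tree) (@D3.rec (fun _ => (Cert rels S Gen.g)) lc_g_rc_27_6 lc_g_rc_24_7 lc_g_rc_27_3 lc_g_rc_26_9 lc_g_rc_24_3 lc_g_rc_21_3 lc_g_Cert_tree lc_g_rc_24_1 lc_g_rc_24_7 lc_g_Cert_tree lc_g_rc_21_2 lc_g_rc_21_3 lc_g_rc_26_6 lc_g_rc_27_0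 lc_g_rc_25_19 lc_g_rc_26_0 lc_g_rc_21_3 lc_g_rc_27_0 lc_g_rc_23_9 lc_g_Cert_tree lc_g_rc_26_6 lc_g_Cert_tree lc_g_rc_26_9 lc_g_rc_23_3 lc_g_rc_27_6 lc_g_rc_27_3 lc_g_rc_23_9 lc_g_rc_24_7 lc_g_rc_23_3 lc_g_rc_24_3 lc_g_rc_23_7 lc_g_rc_23_3 lc_g_Cert_tree lc_g_rc_21_3 lc_g_rc_24_7 lc_g_rc_27_6 lc_g_rc_23_3 lc_g_rc_24_3 lc_g_rc_23_7 lc_g_rc_21_2 lc_g_rc_21_3 lc_g_Cert_tree lc_g_rc_23_7 lc_g_rc_27_6 lc_g_rc_21_3 lc_g_rc_25_19 lc_g_rc_23_3 lc_g_rc_26_3 lc_g_rc_23_1 lc_g_rc_27_6 lc_g_rc_27_0 lc_g_rc_24_3 lc_g_rc_23_1 lc_g_rc_24_9 lc_g_rc_23_1 lc_g_rc_25_15 lc_g_rc_23_3 lc_g_rc_27_0 lc_g_rc_26_3 lc_g_rc_26_3 lc_g_rc_27_9 lc_g_Cert_tree) (@D3.rec (fun _ => (Cert rels S Gen.g)) lc_g_rc_23_3 lc_g_rc_21_3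 lc_g_Cert_tree lc_g_rc_24_3 lc_g_rc_25_19 lc_g_rc_23_3 lc_g_rc_23_3 lc_g_rc_24_7 lc_g_rc_27_0 lc_g_rc_23_3 lc_g_rc_26_3 lc_g_rc_26_3 lc_g_rc_25_19 lc_g_rc_23_1 lc_g_rc_21_3 lc_g_rc_27_3 lc_g_rc_21_2 lc_g_rc_23_3 lc_g_rc_21_3 lc_g_Cert_tree lc_g_rc_27_6 lc_g_rc_21_2 lc_g_rc_21_2 lc_g_rc_27_6 lc_g_rc_27_3 lc_g_rc_27_9 lc_g_rc_23_1 lc_g_rc_26_3 lc_g_rc_26_3 lc_g_rc_25_3 lc_g_rc_25_3 lc_g_rc_26_6 lc_g_rc_21_3 lc_g_rc_23_9 lc_g_rc_21_3 lc_g_rc_27_0 lc_g_rc_26_6 lc_g_rc_23_3 lc_g_rc_25_19 lc_g_rc_23_1 lc_g_rc_21_2 lc_g_rc_26_3 lc_g_rc_25_3 lc_g_rc_25_19 lc_g_rc_25_19 lc_g_rc_27_9 lc_g_rc_21_3 lc_g_Cert_tree lc_g_rc_26_3 lc_g_rc_26_0 lc_g_rc_23_9 lc_g_rc_23_3 lc_g_rc_21_2 lc_g_rc_23_7 lc_g_rc_27_6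 lc_g_rc_27_9 lc_g_rc_26_3 lc_g_rc_21_3 lc_g_Cert_tree lc_g_rc_26_3 lc_g_rc_26_9 lc_g_rc_27_0) (@D3.rec (fun _ => (Cert rels S Gen.g)) lc_g_rc_26_6 lc_g_rc_21_2 lc_g_rc_24_1 lc_g_rc_27_6 lc_g_rc_25_3 lc_g_rc_21_3 lc_g_rc_27_6 lc_g_rc_23_3 lc_g_rc_25_3 lc_g_rc_23_1 lc_g_rc_25_15 lc_g_Cert_tree lc_g_rc_26_6 lc_g_rc_26_6 lc_g_rc_26_3 lc_g_Cert_tree lc_g_rc_23_1 lc_g_rc_21_3 lc_g_rc_27_9 lc_g_rc_25_3 lc_g_rc_23_7 lc_g_Cert_tree lc_g_rc_27_9 lc_g_rc_21_3 lc_g_Cert_tree lc_g_rc_27_6 lc_g_rc_23_9 lc_g_rc_26_9 lc_g_rc_24_3 lc_g_rc_26_3 lc_g_rc_27_3 lc_g_Cert_tree lc_g_rc_21_3 lc_g_rc_21_3 lc_g_Cert_tree lc_g_rc_27_9 lc_g_rc_25_19 lc_g_rc_26_9 lc_g_rc_24_1 lc_g_rc_26_9 lc_g_Cert_tree lc_g_rc_26_3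 lc_g_rc_23_3 lc_g_rc_21_3 lc_g_Cert_tree lc_g_Cert_tree lc_g_rc_27_6 lc_g_rc_26_0 lc_g_rc_26_9 lc_g_rc_27_3 lc_g_rc_26_3 lc_g_rc_21_2 lc_g_rc_21_2 lc_g_rc_21_3 lc_g_rc_26_3 lc_g_rc_21_3 lc_g_rc_24_3 lc_g_rc_23_9 lc_g_rc_25_19 lc_g_rc_26_6 lc_g_rc_27_9 lc_g_rc_27_6) (@D3.rec (fun _ => (Cert rels S Gen.g)) lc_g_rc_21_2 lc_g_rc_27_6 lc_g_rc_27_6 lc_g_rc_21_2 lc_g_rc_21_2 lc_g_rc_25_7 lc_g_rc_24_1 lc_g_Cert_tree lc_g_rc_23_7 lc_g_rc_23_9 lc_g_rc_25_7 lc_g_rc_27_3 lc_g_rc_27_9 lc_g_rc_24_7 lc_g_rc_26_6 lc_g_rc_27_6 lc_g_rc_21_2 lc_g_rc_24_7 lc_g_rc_24_1 lc_g_rc_26_3 lc_g_rc_21_3 lc_g_rc_21_2 lc_g_rc_21_3 lc_g_Cert_tree lc_g_rc_23_7 lc_g_rc_24_3 lc_g_rc_23_3 lc_g_rc_21_2 lc_g_Cert_tree lc_g_rc_27_6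 lc_g_rc_27_6 lc_g_rc_27_6 lc_g_rc_23_1 lc_g_rc_24_3 lc_g_rc_24_1 lc_g_rc_27_3 lc_g_rc_25_19 lc_g_rc_26_3 lc_g_rc_26_6 lc_g_rc_26_3 lc_g_rc_27_3 lc_g_Cert_tree lc_g_rc_24_3 lc_g_rc_27_6 lc_g_rc_21_2 lc_g_rc_21_2 lc_g_Cert_tree lc_g_rc_26_6 lc_g_rc_27_0 lc_g_rc_23_1 lc_g_rc_27_3 lc_g_rc_27_3 lc_g_rc_21_2 lc_g_rc_21_2 lc_g_rc_24_1 lc_g_rc_26_3 lc_g_Cert_tree lc_g_rc_23_7 lc_g_rc_24_3 lc_g_rc_21_3 lc_g_rc_27_3 lc_g_rc_21_3) (@D3.rec (fun _ => (Cert rels S Gen.g)) lc_g_rc_27_0 lc_g_rc_25_3 lc_g_rc_21_3 lc_g_rc_27_0 lc_g_rc_27_6 lc_g_rc_27_6 lc_g_Cert_tree lc_g_rc_26_3 lc_g_rc_21_3 lc_g_rc_26_3 lc_g_rc_21_3 lc_g_rc_26_6 lc_g_rc_27_0 lc_g_rc_24_9 lc_g_rc_24_7 lc_g_Cert_tree lc_g_rc_27_0 lc_g_rc_26_0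 lc_g_rc_24_1 lc_g_rc_21_3 lc_g_rc_27_9 lc_g_rc_21_3 lc_g_rc_25_3 lc_g_Cert_tree lc_g_rc_26_6 lc_g_rc_26_0 lc_g_rc_23_9 lc_g_rc_25_19 lc_g_rc_26_6 lc_g_rc_23_1 lc_g_rc_21_3 lc_g_rc_25_15 lc_g_rc_21_3 lc_g_rc_26_6 lc_g_rc_21_3 lc_g_rc_24_1 lc_g_rc_23_7 lc_g_rc_26_6 lc_g_rc_26_3 lc_g_rc_23_3 lc_g_rc_21_2 lc_g_rc_26_0 lc_g_rc_27_6 lc_g_rc_24_1 lc_g_rc_21_2 lc_g_rc_26_0 lc_g_rc_27_6 lc_g_rc_26_0 lc_g_rc_23_3 lc_g_rc_21_2 lc_g_rc_23_1 lc_g_rc_23_3 lc_g_rc_27_3 lc_g_rc_23_3 lc_g_rc_21_2 lc_g_rc_27_6 lc_g_rc_21_2 lc_g_rc_21_2 lc_g_rc_27_6 lc_g_Cert_tree lc_g_rc_21_2 lc_g_rc_21_3) (@D3.rec (fun _ => (Cert rels S Gen.g)) lc_g_rc_23_3 lc_g_rc_21_3 lc_g_rc_21_2 lc_g_rc_26_9 lc_g_rc_27_9 lc_g_Cert_tree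 lc_g_Cert_tree lc_g_rc_26_9 lc_g_rc_24_1 lc_g_rc_27_3 lc_g_rc_24_1 lc_g_rc_23_9 lc_g_rc_21_3 lc_g_Cert_tree lc_g_rc_26_6 lc_g_rc_26_9 lc_g_rc_24_1 lc_g_rc_21_3 lc_g_rc_21_2 lc_g_rc_24_9 lc_g_rc_27_3 lc_g_rc_26_6 lc_g_rc_26_6 lc_g_rc_21_3 lc_g_rc_25_15 lc_g_rc_25_3 lc_g_rc_26_6 lc_g_rc_27_6 lc_g_rc_27_6 lc_g_rc_26_0 lc_g_rc_21_2 lc_g_Cert_tree lc_g_rc_24_7 lc_g_rc_23_9 lc_g_rc_26_0 lc_g_rc_24_3 lc_g_rc_26_9 lc_g_rc_26_6 lc_g_rc_21_3 lc_g_rc_21_2 lc_g_rc_21_3 lc_g_rc_23_3 lc_g_rc_26_6 lc_g_rc_26_6 lc_g_rc_27_9 lc_g_rc_23_7 lc_g_rc_26_3 lc_g_rc_24_1 lc_g_Cert_tree lc_g_rc_24_7 lc_g_rc_23_3 lc_g_rc_21_2 lc_g_rc_21_3 lc_g_rc_26_3 lc_g_rc_21_3 lc_g_rc_21_2 lc_g_rc_21_3 lc_g_rc_23_1 lc_g_Cert_tree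 lc_g_rc_27_6 lc_g_rc_26_6 lc_g_rc_23_3) (@D3.rec (fun _ => (Cert rels S Gen.g)) lc_g_rc_26_0 lc_g_rc_21_3 lc_g_rc_26_3 lc_g_rc_21_2 lc_g_rc_23_3 lc_g_rc_26_3 lc_g_rc_24_9 lc_g_rc_26_3 lc_g_rc_26_0 lc_g_rc_21_2 lc_g_rc_21_3 lc_g_rc_21_2 lc_g_rc_23_1 lc_g_rc_21_2 lc_g_rc_24_3 lc_g_rc_27_0 lc_g_rc_27_3 lc_g_rc_27_0 lc_g_rc_21_2 lc_g_rc_24_1 lc_g_rc_27_3 lc_g_rc_23_1 lc_g_rc_24_3 lc_g_rc_27_3 lc_g_rc_27_3 lc_g_rc_26_6 lc_g_rc_23_3 lc_g_rc_24_3 lc_g_rc_21_3 lc_g_rc_21_2 lc_g_rc_21_2 lc_g_rc_27_0 lc_g_rc_23_9 lc_g_rc_21_2 lc_g_Cert_tree lc_g_rc_21_3 lc_g_Cert_tree lc_g_rc_24_3 lc_g_rc_23_3 lc_g_Cert_tree lc_g_rc_26_3 lc_g_rc_21_3 lc_g_rc_23_3 lc_g_rc_26_3 lc_g_rc_25_7 lc_g_rc_23_3 lc_g_rc_26_3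 lc_g_rc_26_3 lc_g_rc_23_3 lc_g_rc_26_9 lc_g_rc_26_6 lc_g_rc_26_6 lc_g_rc_26_3 lc_g_rc_23_3 lc_g_rc_27_9 lc_g_rc_26_3 lc_g_rc_26_3 lc_g_rc_26_0 lc_g_rc_24_3 lc_g_Cert_tree lc_g_rc_23_9 lc_g_rc_24_7) (@D3.rec (fun _ => (Cert rels S Gen.g)) lc_g_rc_25_19 lc_g_rc_26_3 lc_g_rc_21_3 lc_g_rc_24_3 lc_g_rc_26_6 lc_g_rc_21_3 lc_g_rc_27_0 lc_g_rc_27_6 lc_g_rc_27_0 lc_g_rc_21_3 lc_g_rc_21_2 lc_g_Cert_tree lc_g_rc_27_0 lc_g_rc_26_6 lc_g_rc_27_0 lc_g_Cert_tree lc_g_rc_26_6 lc_g_rc_26_0 lc_g_rc_26_3 lc_g_rc_26_3 lc_g_rc_27_3 lc_g_rc_26_6 lc_g_rc_21_2 lc_g_rc_24_1 lc_g_rc_26_3 lc_g_Cert_tree lc_g_rc_23_3 lc_g_rc_27_3 lc_g_rc_27_3 lc_g_rc_24_9 lc_g_rc_26_3 lc_g_rc_25_7 lc_g_rc_23_1 lc_g_rc_27_9 lc_g_Cert_tree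 lc_g_rc_26_3 lc_g_rc_27_0 lc_g_rc_26_3 lc_g_rc_26_3 lc_g_Cert_tree lc_g_rc_21_3 lc_g_rc_25_15 lc_g_Cert_tree lc_g_rc_21_2 lc_g_rc_26_0 lc_g_Cert_tree lc_g_rc_27_0 lc_g_rc_23_3 lc_g_rc_24_1 lc_g_rc_21_3 lc_g_rc_26_9 lc_g_rc_26_0 lc_g_rc_23_9 lc_g_rc_26_3 lc_g_rc_21_2 lc_g_rc_27_6 lc_g_rc_27_9 lc_g_rc_25_19 lc_g_rc_21_2 lc_g_rc_27_9 lc_g_rc_23_7 lc_g_rc_26_6) (@D3.rec (fun _ => (Cert rels S Gen.g)) lc_g_rc_23_3 lc_g_rc_26_6 lc_g_rc_21_2 lc_g_rc_21_2 lc_g_rc_27_0 lc_g_rc_24_7 lc_g_rc_21_3 lc_g_rc_27_6 lc_g_rc_23_3 lc_g_rc_27_6 lc_g_rc_24_9 lc_g_rc_24_9 lc_g_rc_24_1 lc_g_rc_26_6 lc_g_rc_27_6 lc_g_rc_25_19 lc_g_rc_24_3 lc_g_rc_21_3 lc_g_rc_21_3 lc_g_rc_26_6 lc_g_rc_24_3 lc_g_rc_21_3 lc_g_rc_26_6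 lc_g_rc_26_3 lc_g_rc_26_9 lc_g_rc_21_3 lc_g_rc_21_2 lc_g_Cert_tree lc_g_Cert_tree lc_g_rc_26_3 lc_g_rc_26_3 lc_g_rc_21_2 lc_g_rc_27_3 lc_g_rc_24_3 lc_g_rc_27_6 lc_g_rc_26_6 lc_g_Cert_tree lc_g_rc_24_3 lc_g_rc_27_3 lc_g_rc_27_3 lc_g_Cert_tree lc_g_rc_21_2 lc_g_rc_21_2 lc_g_rc_25_7 lc_g_rc_24_7 lc_g_rc_26_3 lc_g_rc_27_0 lc_g_rc_26_6 lc_g_Cert_tree lc_g_rc_26_6 lc_g_rc_26_6 lc_g_rc_27_6 lc_g_rc_21_2 lc_g_Cert_tree lc_g_rc_24_1 lc_g_rc_21_3 lc_g_rc_26_6 lc_g_rc_25_19 lc_g_rc_24_7 lc_g_rc_27_3 lc_g_rc_26_0 lc_g_rc_26_3) (@D3.rec (fun _ => (Cert rels S Gen.g)) lc_g_rc_21_3 lc_g_rc_21_2 lc_g_rc_25_3 lc_g_rc_26_3 lc_g_rc_21_2 lc_g_rc_21_3 lc_g_rc_26_6 lc_g_rc_25_7 lc_g_rc_23_9 lc_g_rc_27_3 lc_g_rc_25_3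 lc_g_rc_24_7 lc_g_rc_23_9 lc_g_rc_24_7 lc_g_rc_27_0 lc_g_rc_25_7 lc_g_rc_26_3 lc_g_rc_25_7 lc_g_rc_26_9 lc_g_rc_27_6 lc_g_rc_26_3 lc_g_rc_27_6 lc_g_rc_26_3 lc_g_rc_21_3 lc_g_rc_23_9 lc_g_Cert_tree lc_g_rc_23_7 lc_g_rc_23_7 lc_g_rc_21_2 lc_g_rc_23_3 lc_g_rc_26_3 lc_g_rc_26_6 lc_g_rc_26_9 lc_g_rc_23_7 lc_g_rc_21_3 lc_g_rc_27_9 lc_g_rc_26_6 lc_g_rc_27_3 lc_g_rc_23_3 lc_g_rc_27_6 lc_g_rc_21_3 lc_g_rc_21_2 lc_g_rc_27_9 lc_g_rc_24_1 lc_g_Cert_tree lc_g_rc_27_3 lc_g_rc_24_3 lc_g_Cert_tree lc_g_rc_23_3 lc_g_Cert_tree lc_g_rc_25_15 lc_g_rc_21_3 lc_g_rc_24_7 lc_g_Cert_tree lc_g_rc_23_3 lc_g_rc_21_2 lc_g_rc_27_0 lc_g_rc_26_0 lc_g_rc_21_3 lc_g_rc_21_2 lc_g_rc_24_9 lc_g_rc_21_2) (@D3.rec (fun _ => (Cert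 rels S Gen.g)) lc_g_Cert_tree lc_g_Cert_tree lc_g_rc_27_6 lc_g_rc_27_0 lc_g_rc_21_2 lc_g_rc_24_7 lc_g_rc_26_3 lc_g_rc_23_3 lc_g_rc_21_2 lc_g_rc_26_3 lc_g_rc_23_7 lc_g_rc_23_9 lc_g_rc_27_0 lc_g_Cert_tree lc_g_rc_27_0 lc_g_rc_25_7 lc_g_rc_27_6 lc_g_rc_27_3 lc_g_rc_27_9 lc_g_rc_23_3 lc_g_rc_25_3 lc_g_rc_27_0 lc_g_rc_26_3 lc_g_rc_26_3 lc_g_rc_26_3 lc_g_rc_21_3 lc_g_rc_21_2 lc_g_rc_26_6 lc_g_rc_24_1 lc_g_Cert_tree lc_g_Cert_tree lc_g_rc_24_3 lc_g_rc_26_9 lc_g_Cert_tree lc_g_rc_26_6 lc_g_rc_26_3 lc_g_rc_24_3 lc_g_rc_26_3 lc_g_rc_21_2 lc_g_rc_26_6 lc_g_rc_27_9 lc_g_rc_23_9 lc_g_rc_25_19 lc_g_rc_24_7 lc_g_rc_21_2 lc_g_rc_27_9 lc_g_rc_25_7 lc_g_rc_27_3 lc_g_rc_27_3 lc_g_rc_21_3 lc_g_rc_26_0 lc_g_rc_24_7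 lc_g_rc_23_1 lc_g_rc_27_0 lc_g_rc_24_3 lc_g_rc_23_9 lc_g_rc_27_0 lc_g_rc_27_3 lc_g_rc_26_0 lc_g_Cert_tree lc_g_rc_25_19 lc_g_rc_26_3) (@D3.rec (fun _ => (Cert rels S Gen.g)) lc_g_rc_27_3 lc_g_rc_27_6 lc_g_rc_23_3 lc_g_rc_26_6 lc_g_rc_23_3 lc_g_rc_27_9 lc_g_Cert_tree lc_g_rc_23_3 lc_g_rc_27_6 lc_g_rc_24_3 lc_g_rc_27_6 lc_g_rc_27_3 lc_g_rc_21_3 lc_g_rc_25_3 lc_g_rc_26_3 lc_g_rc_25_3 lc_g_rc_26_3 lc_g_rc_26_3 lc_g_rc_24_7 lc_g_rc_26_0 lc_g_rc_27_3 lc_g_rc_21_3 lc_g_rc_24_9 lc_g_rc_21_3 lc_g_rc_26_6 lc_g_rc_27_3 lc_g_rc_27_3 lc_g_rc_26_3 lc_g_rc_24_1 lc_g_rc_26_3 lc_g_Cert_tree lc_g_rc_26_6 lc_g_rc_25_7 lc_g_rc_26_9 lc_g_rc_26_3 lc_g_rc_23_1 lc_g_rc_26_3 lc_g_Cert_tree lc_g_rc_23_3 lc_g_rc_27_6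 lc_g_rc_26_3 lc_g_rc_23_7 lc_g_rc_26_0 lc_g_rc_21_3 lc_g_rc_27_9 lc_g_rc_27_9 lc_g_Cert_tree lc_g_rc_26_3 lc_g_Cert_tree lc_g_rc_26_9 lc_g_rc_23_7 lc_g_rc_27_3 lc_g_rc_27_9 lc_g_rc_21_2 lc_g_rc_26_3 lc_g_rc_27_6 lc_g_rc_26_3 lc_g_rc_27_3 lc_g_rc_24_7 lc_g_Cert_tree lc_g_rc_27_0 lc_g_rc_24_1) (@D3.rec (fun _ => (Cert rels S Gen.g)) lc_g_rc_21_3 lc_g_rc_26_0 lc_g_rc_26_6 lc_g_rc_21_3 lc_g_Cert_tree lc_g_rc_27_9 lc_g_rc_23_3 lc_g_rc_27_6 lc_g_rc_27_6 lc_g_rc_26_6 lc_g_rc_24_3 lc_g_rc_26_3 lc_g_rc_26_0 lc_g_rc_26_6 lc_g_Cert_tree lc_g_rc_23_9 lc_g_rc_26_0 lc_g_rc_21_3 lc_g_rc_23_3 lc_g_rc_26_0 lc_g_rc_21_3 lc_g_Cert_tree lc_g_Cert_tree lc_g_rc_26_3 lc_g_rc_27_3 lc_g_rc_24_1 lc_g_rc_27_3 lc_g_rc_25_7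 lc_g_rc_21_3 lc_g_rc_21_2 lc_g_rc_26_3 lc_g_rc_23_7 lc_g_rc_24_3 lc_g_rc_27_3 lc_g_rc_23_1 lc_g_rc_23_9 lc_g_rc_21_2 lc_g_rc_23_7 lc_g_rc_23_9 lc_g_rc_25_3 lc_g_rc_21_3 lc_g_rc_21_2 lc_g_rc_23_7 lc_g_rc_23_9 lc_g_Cert_tree lc_g_rc_27_6 lc_g_rc_21_3 lc_g_rc_27_9 lc_g_rc_27_6 lc_g_rc_24_9 lc_g_rc_21_2 lc_g_rc_27_0 lc_g_rc_26_0 lc_g_rc_21_3 lc_g_rc_21_3 lc_g_rc_27_6 lc_g_rc_23_3 lc_g_rc_21_3 lc_g_rc_27_6 lc_g_rc_21_3 lc_g_rc_27_3 lc_g_rc_24_7) (@D3.rec (fun _ => (Cert rels S Gen.g)) lc_g_rc_21_2 lc_g_rc_25_3 lc_g_rc_24_9 lc_g_rc_23_7 lc_g_rc_23_7 lc_g_rc_21_3 lc_g_rc_25_19 lc_g_rc_27_3 lc_g_rc_26_0 lc_g_rc_21_2 lc_g_rc_27_0 lc_g_rc_24_3 lc_g_rc_24_3 lc_g_rc_23_7 lc_g_rc_27_0 lc_g_rc_21_2 lc_g_rc_27_3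 lc_g_rc_27_9 lc_g_rc_23_7 lc_g_rc_23_7 lc_g_Cert_tree lc_g_rc_21_2 lc_g_rc_23_3 lc_g_rc_21_2 lc_g_rc_27_3 lc_g_rc_26_3 lc_g_rc_27_0 lc_g_rc_27_0 lc_g_rc_21_2 lc_g_rc_26_6 lc_g_rc_23_1 lc_g_rc_27_6 lc_g_rc_26_0 lc_g_rc_27_9 lc_g_rc_25_3 lc_g_rc_24_7 lc_g_rc_27_3 lc_g_rc_23_3 lc_g_rc_26_3 lc_g_rc_26_3 lc_g_rc_25_7 lc_g_rc_26_6 lc_g_rc_24_9 lc_g_rc_24_1 lc_g_rc_27_3 lc_g_rc_27_3 lc_g_rc_23_1 lc_g_rc_25_3 lc_g_rc_27_0 lc_g_rc_26_3 lc_g_rc_27_9 lc_g_rc_23_1 lc_g_rc_21_3 lc_g_rc_27_9 lc_g_rc_23_3 lc_g_rc_26_6 lc_g_rc_21_2 lc_g_rc_21_2 lc_g_rc_21_3 lc_g_Cert_tree lc_g_rc_26_0 lc_g_rc_23_3) (@D3.rec (fun _ => (Cert rels S Gen.g)) lc_g_rc_27_6 lc_g_rc_21_2 lc_g_rc_21_3 lc_g_rc_27_3 lc_g_rc_26_3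 lc_g_rc_21_3 lc_g_rc_27_6 lc_g_rc_26_9 lc_g_rc_21_2 lc_g_rc_21_2 lc_g_rc_21_2 lc_g_rc_26_9 lc_g_rc_26_3 lc_g_rc_21_3 lc_g_rc_24_9 lc_g_rc_23_3 lc_g_rc_27_9 lc_g_rc_27_0 lc_g_rc_21_2 lc_g_rc_23_1 lc_g_rc_27_3 lc_g_rc_23_3 lc_g_rc_23_9 lc_g_Cert_tree lc_g_rc_26_6 lc_g_rc_21_3 lc_g_rc_21_2 lc_g_rc_21_2 lc_g_rc_25_19 lc_g_rc_27_9 lc_g_rc_21_3 lc_g_rc_25_7 lc_g_rc_26_6 lc_g_rc_26_9 lc_g_rc_25_19 lc_g_rc_23_3 lc_g_rc_27_3 lc_g_rc_26_6 lc_g_rc_23_3 lc_g_rc_26_9 lc_g_rc_27_3 lc_g_rc_25_19 lc_g_rc_26_6 lc_g_rc_24_1 lc_g_rc_26_3 lc_g_rc_26_3 lc_g_rc_24_1 lc_g_Cert_tree lc_g_rc_25_19 lc_g_rc_27_6 lc_g_rc_27_3 lc_g_rc_27_3 lc_g_rc_26_6 lc_g_rc_26_3 lc_g_rc_26_6 lc_g_rc_26_6 lc_g_rc_23_7 lc_g_rc_21_2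 lc_g_rc_26_3 lc_g_rc_26_9 lc_g_rc_26_0 lc_g_rc_27_3)
def ce_g : Pt → (Cert rels S Gen.g) := @Pt.rec (fun _ => (Cert rels S Gen.g)) (@D1.rec (fun _ => D2 → D3 → (Cert rels S Gen.g)) ce_g_0 ce_g_1 ce_g_2 ce_g_3 ce_g_4 ce_g_5 ce_g_6 ce_g_7 ce_g_8 ce_g_9 ce_g_10 ce_g_11 ce_g_12 ce_g_13 ce_g_14 ce_g_15 ce_g_16 ce_g_17 ce_g_18 ce_g_19 ce_g_20 ce_g_21 ce_g_22 ce_g_23 ce_g_24 ce_g_25 ce_g_26 ce_g_27 ce_g_28 ce_g_29 ce_g_30 ce_g_31 ce_g_32)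
def z3_g : D3 → Nat := fun _ => 0
def z2_g : D2 → D3 → Nat := fun _ _ => 0
def sd_g_0 : D2 → D3 → Nat := @D2.rec (fun _ => D3 → Nat) (@D3.rec (fun _ => Nat) 0 0 0 0 0 0 0 0 0 0 0 0 1 0 0 0 2 0 0 0 0 0 0 16 0 0 0 0 0 0 0 0 0 0 0 0 0 0 0 0 0 0 0 0 0 8 0 0 0 0 0 0 0 0 0 0 0 0 0 0 0 12) (@D3.rec (fun _ => Nat) 0 0 0 0 0 0 0 0 0 0 0 0 0 0 0 13 0 0 0 0 0 0 0 0 0 0 0 0 0 0 0 0 0 0 0 0 0 0 0 0 0 0 0 0 0 0 0 0 0 0 0 0 0 0 0 0 0 0 0 0 0 0) z3_g z3_g z3_g z3_g z3_g z3_g z3_g z3_g z3_g z3_g z3_g z3_g z3_g z3_g z3_g z3_g z3_g z3_g z3_g z3_g z3_g z3_g (@D3.rec (fun _ => Nat) 0 0 0 0 0 0 0 0 0 0 0 0 0 0 0 0 0 0 0 0 0 0 0 0 0 0 23 0 0 0 0 0 0 0 0 0 0 0 0 0 0 0 0 0 0 0 0 0 0 0 0 0 0 0 0 0 0 0 0 0 0 0) z3_g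 z3_g z3_g z3_g z3_g z3_g z3_g z3_g z3_g z3_g z3_g z3_g z3_g z3_g z3_g z3_g z3_g z3_g z3_g (@D3.rec (fun _ => Nat) 0 0 0 0 0 0 0 0 0 0 0 0 0 0 0 0 0 0 0 0 0 0 0 0 0 0 0 0 0 0 0 0 0 0 0 0 0 0 0 0 0 0 0 0 0 0 0 0 0 0 0 0 0 0 0 0 721 0 0 0 0 0) z3_g (@D3.rec (fun _ => Nat) 0 0 0 0 0 0 0 0 0 0 0 0 0 0 0 0 0 0 0 0 0 0 0 0 0 0 0 0 0 0 0 0 0 0 0 0 0 0 0 0 0 0 0 0 0 0 0 48 0 0 0 0 0 0 0 0 0 0 0 0 0 0) (@D3.rec (fun _ => Nat) 0 0 0 0 0 0 0 0 0 0 0 0 0 0 0 0 0 0 0 0 0 0 0 0 0 0 0 0 0 0 0 0 0 0 0 0 0 0 0 0 0 0 46 0 0 0 0 0 0 0 0 0 0 0 0 0 0 0 0 0 0 0) (@D3.rec (fun _ => Nat) 0 0 0 0 0 0 0 0 0 0 0 0 0 0 0 0 0 0 0 0 0 0 0 0 0 0 0 0 0 0 0 0 0 0 0 22 0 0 0 0 0 0 0 0 0 0 0 0 0 0 0 0 0 0 0 0 0 0 0 0 0 0)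 z3_g (@D3.rec (fun _ => Nat) 0 0 0 0 0 0 0 0 0 0 0 0 0 162 42 0 0 0 0 0 0 0 0 0 0 0 0 0 0 0 0 0 0 0 0 0 0 0 0 0 0 0 0 0 0 0 0 0 0 0 0 0 0 0 0 0 0 0 0 0 0 0) z3_g z3_g (@D3.rec (fun _ => Nat) 0 0 0 0 0 0 0 0 0 0 0 0 0 0 0 0 0 0 0 0 0 0 0 0 0 0 0 0 0 0 0 0 0 0 0 0 0 0 0 0 0 0 0 0 0 0 0 56 0 0 0 0 0 0 0 0 0 0 0 0 0 0) (@D3.rec (fun _ => Nat) 58 0 0 0 0 0 0 0 0 0 0 0 0 0 0 0 0 0 0 0 0 0 0 0 0 0 0 0 0 0 0 0 0 0 0 0 0 0 0 0 0 0 0 0 0 0 0 0 0 0 0 0 0 0 0 0 0 0 0 0 0 0) z3_g z3_g z3_g z3_g z3_g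
def sd_g_1 : D2 → D3 → Nat := @D2.rec (fun _ => D3 → Nat) z3_g z3_g z3_g (@D3.rec (fun _ => Nat) 0 0 0 0 0 0 0 0 0 0 0 0 0 0 0 0 0 0 0 0 0 0 0 0 0 0 0 0 0 0 0 0 0 0 0 0 0 0 0 0 0 0 0 0 0 0 0 0 0 0 0 0 0 0 0 0 243 0 0 20 0 0) z3_g z3_g z3_g z3_g z3_g z3_g z3_g z3_g z3_g z3_g z3_g z3_g z3_g z3_g z3_g z3_g z3_g z3_g (@D3.rec (fun _ => Nat) 0 0 0 0 0 0 0 0 0 0 0 0 0 0 0 0 0 0 0 0 0 0 0 0 0 0 0 0 0 0 0 0 0 0 0 0 0 0 0 0 0 0 0 0 0 0 0 0 0 0 0 0 0 0 0 0 0 0 27 0 0 0) z3_g (@D3.rec (fun _ => Nat) 0 0 0 0 0 0 0 0 0 0 0 0 0 0 0 0 0 0 0 0 0 0 0 0 0 0 0 0 0 0 0 0 136 0 0 123 0 0 0 0 0 0 0 0 0 0 0 0 0 0 0 0 0 0 0 0 0 0 0 0 0 0) z3_g z3_g z3_g z3_g z3_g (@D3.rec (fun _ => Nat) 0 0 0 0 0 0 0 0 0 0 0 0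 0 0 0 0 0 0 0 0 0 0 0 0 0 0 0 0 133 0 0 0 0 0 0 0 0 0 0 0 0 0 0 0 0 0 0 0 0 0 0 0 0 0 0 0 0 0 0 0 0 0) (@D3.rec (fun _ => Nat) 0 0 0 0 0 0 0 0 0 0 0 0 0 0 0 0 0 0 0 0 0 0 0 0 0 0 0 0 0 0 0 0 0 0 0 0 0 0 0 0 324 0 0 0 0 0 0 0 0 0 0 0 0 0 0 0 0 0 0 0 0 0) z3_g z3_g (@D3.rec (fun _ => Nat) 0 0 0 0 0 0 0 0 0 0 0 0 0 0 0 0 0 0 0 0 0 0 0 0 0 0 0 0 0 0 0 0 0 0 30 0 0 0 0 0 0 0 0 0 0 0 0 0 0 0 0 0 0 0 0 0 0 0 0 0 0 0) (@D3.rec (fun _ => Nat) 0 0 0 0 0 0 0 0 0 0 0 0 0 0 0 0 0 0 0 0 0 0 0 343 0 0 0 0 0 0 0 0 0 0 0 0 0 0 0 0 0 0 0 0 147 0 0 0 0 0 0 0 0 0 0 0 0 0 0 0 0 0) z3_g (@D3.rec (fun _ => Nat) 0 0 0 0 0 0 0 0 0 0 0 0 0 0 0 0 1170 0 0 0 0 0 0 0 0 0 0 0 0 0 0 0 0 0 0 0 0 0 0 0 0 0 0 0 0 0 0 0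 0 0 0 0 0 0 0 0 0 0 0 0 0 0) (@D3.rec (fun _ => Nat) 0 0 0 0 1236 0 0 0 0 0 0 0 0 0 0 0 0 0 0 0 0 0 0 0 0 212 0 0 0 0 0 0 0 0 0 0 0 0 0 0 0 0 0 0 0 0 0 0 0 0 0 0 0 0 0 41 0 53 0 0 0 0) (@D3.rec (fun _ => Nat) 0 0 0 0 0 0 0 0 0 0 0 0 0 0 0 0 0 0 0 0 0 0 0 0 0 0 0 0 0 0 0 0 72 0 0 0 0 0 0 0 0 0 0 0 0 0 0 0 0 0 0 0 0 0 0 0 0 0 0 0 0 0) (@D3.rec (fun _ => Nat) 0 0 0 0 0 0 0 0 0 0 0 0 0 0 0 0 0 0 0 0 0 0 0 0 0 0 0 0 54 0 0 0 0 0 0 0 0 0 0 0 0 0 0 75 0 0 0 0 0 0 0 0 0 0 0 0 0 0 0 0 0 0) (@D3.rec (fun _ => Nat) 0 0 0 0 0 0 0 0 0 0 0 0 0 0 0 0 0 0 0 0 0 0 0 0 0 0 0 0 0 0 0 0 0 0 0 0 0 0 0 0 0 0 0 0 0 0 0 0 0 0 0 0 0 0 0 0 0 0 98 0 0 0) (@D3.rec (fun _ => Nat) 0 0 0 0 0 0 0 0 0 0 0 0 0 0 0 0 0 0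 0 0 0 0 40 0 0 0 0 0 0 0 0 0 0 0 0 0 0 0 0 0 0 0 0 0 0 0 0 0 0 0 0 0 0 0 0 0 0 0 0 0 0 0) z3_g (@D3.rec (fun _ => Nat) 0 0 0 0 0 0 0 0 0 0 0 0 0 37 0 0 0 0 0 0 0 0 0 0 0 0 0 0 0 0 0 0 0 0 0 0 0 0 0 0 0 0 0 0 0 0 0 0 0 0 0 0 0 0 0 0 0 0 0 0 0 0) z3_g z3_g (@D3.rec (fun _ => Nat) 0 0 0 0 0 0 0 0 0 0 0 0 0 0 0 0 0 0 0 0 0 0 0 0 0 0 0 0 0 0 0 0 0 0 0 0 0 0 0 0 0 0 0 0 0 0 0 0 0 0 0 0 93 207 0 0 0 0 0 0 0 0) z3_g z3_g (@D3.rec (fun _ => Nat) 0 0 0 0 0 0 0 0 0 0 0 0 0 204 163 0 0 0 0 0 0 0 0 0 0 0 0 0 0 0 0 0 0 0 0 0 0 0 0 0 0 0 0 0 0 0 0 0 0 0 0 0 0 0 0 0 0 0 0 0 0 0) (@D3.rec (fun _ => Nat) 0 0 0 0 0 0 0 0 0 0 0 0 0 0 0 62 0 0 0 0 0 0 0 0 0 0 0 0 0 0 0 0 0 0 0 0 0 0 0 0 0 0 0 0 0 0 0 0 0 0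 0 0 0 0 0 0 77 0 0 0 0 0) z3_g (@D3.rec (fun _ => Nat) 0 0 0 0 0 0 0 0 0 0 0 0 0 0 0 0 0 0 0 0 0 0 0 0 0 0 0 0 0 0 0 0 0 0 0 0 0 0 0 0 0 0 0 0 0 0 0 0 0 0 0 0 0 83 0 0 0 0 0 0 0 0) (@D3.rec (fun _ => Nat) 0 0 0 0 0 0 0 0 0 0 0 0 0 0 0 0 0 0 0 0 0 0 0 0 0 0 0 0 0 0 0 0 0 0 0 0 0 0 230 0 0 0 0 0 0 0 0 0 0 0 0 0 0 0 0 0 0 0 0 0 0 0) z3_g z3_g z3_g z3_g z3_g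
def sd_g_2 : D2 → D3 → Nat := @D2.rec (fun _ => D3 → Nat) z3_g z3_g z3_g z3_g z3_g z3_g z3_g z3_g z3_g z3_g z3_g z3_g z3_g z3_g z3_g z3_g z3_g (@D3.rec (fun _ => Nat) 0 0 0 0 0 0 0 0 0 0 0 0 0 0 0 0 0 0 0 1293 0 0 0 0 0 0 0 0 0 0 0 0 0 0 0 0 0 0 0 0 0 0 0 0 0 0 0 0 0 0 0 0 0 0 0 0 0 0 0 0 0 0) z3_g (@D3.rec (fun _ => Nat) 0 0 0 0 0 0 0 0 0 0 0 0 0 0 0 711 0 0 0 0 0 0 0 0 0 0 0 0 0 0 0 0 0 0 0 0 0 0 0 0 0 0 0 0 0 0 0 0 0 0 0 0 0 0 0 0 0 0 0 0 0 0) z3_g (@D3.rec (fun _ => Nat) 0 0 0 0 0 0 0 0 0 0 0 0 0 0 0 0 0 0 0 0 0 0 0 0 0 0 0 0 0 0 0 0 0 1291 0 0 0 0 0 0 0 0 0 0 0 0 0 0 0 0 0 0 0 0 0 0 0 0 0 0 0 0) (@D3.rec (fun _ => Nat) 0 0 0 0 0 0 0 0 0 0 0 0 0 0 0 0 0 0 0 0 0 0 0 0 0 0 0 0 0 0 0 26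 0 0 0 0 0 0 0 0 0 0 0 0 0 0 0 0 0 0 0 0 0 0 0 0 0 0 0 0 0 0) z3_g z3_g z3_g z3_g z3_g z3_g z3_g z3_g z3_g z3_g z3_g z3_g z3_g z3_g z3_g z3_g z3_g z3_g z3_g z3_g z3_g z3_g z3_g z3_g z3_g z3_g z3_g z3_g z3_g (@D3.rec (fun _ => Nat) 0 0 0 0 0 0 0 0 0 0 0 0 239 1889 253 0 0 0 0 0 0 0 0 0 0 0 0 0 0 0 0 0 0 0 0 0 0 0 0 0 0 0 0 0 0 0 0 0 0 0 0 0 0 0 0 0 0 0 0 0 0 0) (@D3.rec (fun _ => Nat) 0 0 0 0 0 0 0 0 0 0 0 0 0 0 0 0 0 0 0 0 0 0 0 0 0 0 0 0 0 0 0 0 0 0 0 0 0 0 0 0 0 0 0 0 0 0 0 0 0 0 0 0 0 0 0 0 0 0 0 298 0 0) z3_g z3_g (@D3.rec (fun _ => Nat) 0 0 0 0 0 0 0 0 0 0 0 0 0 0 0 0 0 0 0 0 0 0 0 0 0 0 0 0 0 0 0 0 0 0 0 0 0 0 0 0 0 0 0 0 0 0 0 0 0 0 0 0 293 0 0 0 0 0 0 0 0 0) (@D3.rec (fun _ => Nat)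 0 0 0 0 0 0 0 0 0 0 0 0 0 0 0 0 0 0 0 0 0 0 0 0 0 0 0 0 0 0 0 0 0 0 0 124 0 0 0 0 0 0 0 0 0 0 0 0 0 0 0 0 0 0 0 0 0 0 0 0 0 0) z3_g z3_g
def sd_g_3 : D2 → D3 → Nat := @D2.rec (fun _ => D3 → Nat) z3_g z3_g (@D3.rec (fun _ => Nat) 0 0 0 0 0 0 0 0 0 0 0 0 0 0 0 0 0 364 470 0 1239 0 0 0 0 0 0 0 0 0 0 0 0 0 0 0 0 0 0 0 0 0 0 0 0 0 0 0 0 0 0 0 0 0 0 0 0 0 0 0 0 0) z3_g z3_g z3_g (@D3.rec (fun _ => Nat) 0 0 0 0 0 0 0 0 0 0 0 0 0 0 0 0 0 0 0 0 0 0 0 0 0 0 0 0 0 0 0 0 0 0 0 0 0 0 0 325 0 0 0 0 0 0 0 0 0 0 0 0 0 0 0 0 0 0 0 0 0 0) (@D3.rec (fun _ => Nat) 0 0 0 0 0 0 0 0 0 0 0 0 0 0 0 0 0 0 0 0 0 0 0 0 0 0 0 0 0 0 0 0 0 0 0 0 0 0 0 0 0 0 0 0 0 0 0 0 0 0 0 0 0 0 0 718 0 0 0 0 0 0) z3_g z3_g z3_g (@D3.rec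 (fun _ => Nat) 0 0 0 0 0 0 0 0 0 0 0 0 0 0 0 0 1265 0 0 0 0 0 0 0 0 0 0 0 0 0 0 0 0 0 0 0 0 0 0 0 0 0 0 0 0 0 0 0 0 0 0 0 0 0 0 0 0 0 0 0 0 0) (@D3.rec (fun _ => Nat) 0 0 0 0 0 0 0 0 0 0 0 0 0 0 0 0 0 0 0 0 0 0 0 0 0 0 0 0 0 0 0 0 0 0 719 0 0 0 0 0 0 0 214 0 0 0 0 0 0 0 0 0 0 0 537 0 0 0 0 0 0 0) (@D3.rec (fun _ => Nat) 0 0 0 0 0 0 0 0 0 0 0 0 0 0 0 0 0 0 0 0 0 0 0 0 0 329 0 0 0 0 0 0 0 0 0 0 0 0 0 0 0 0 0 0 0 0 0 0 0 0 140 0 0 0 0 0 0 0 0 0 0 0) z3_g (@D3.rec (fun _ => Nat) 0 0 0 0 0 0 0 0 0 0 0 0 0 0 0 722 0 0 1321 0 0 0 0 0 0 0 0 0 0 0 0 0 0 0 0 0 0 0 0 143 0 0 1106 0 0 0 0 0 0 0 0 0 0 0 0 0 0 0 1319 0 0 0) (@D3.rec (fun _ => Nat) 0 0 0 0 0 0 0 0 0 0 0 0 0 0 0 0 0 0 0 0 0 0 0 0 0 0 213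 0 0 0 0 0 0 0 0 0 0 0 0 1096 0 144 0 0 0 0 0 0 0 0 0 0 0 1101 0 0 0 341 0 0 0 0) (@D3.rec (fun _ => Nat) 0 0 0 0 0 0 0 0 0 0 0 0 0 0 0 0 0 0 0 0 0 345 573 0 0 0 0 0 0 0 0 0 0 0 0 0 0 0 0 0 0 0 0 0 0 0 0 0 0 0 0 0 0 0 0 0 0 0 0 0 0 0) (@D3.rec (fun _ => Nat) 0 0 0 0 0 0 0 0 0 582 0 0 354 0 0 0 0 0 0 0 0 0 0 145 0 0 148 0 0 0 0 0 0 0 0 0 0 0 0 246 0 0 0 0 0 360 0 0 0 0 0 0 0 0 0 0 0 0 0 0 0 0) (@D3.rec (fun _ => Nat) 0 0 0 0 0 0 0 0 0 0 0 0 0 0 0 0 0 0 368 0 0 0 0 0 0 1292 0 132 0 0 0 0 0 0 1306 0 0 0 0 0 0 0 0 0 0 0 0 0 0 0 0 0 0 0 0 0 0 0 0 0 0 0) (@D3.rec (fun _ => Nat) 0 0 0 0 0 0 0 0 0 0 0 0 0 0 0 0 0 0 0 0 0 0 0 0 0 0 0 0 0 0 0 0 0 0 0 0 995 0 0 377 0 0 0 0 0 0 0 0 0 0 0 0 0 0 0 0 0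 0 0 0 0 0) (@D3.rec (fun _ => Nat) 0 0 0 0 0 0 0 0 0 0 0 0 0 0 0 0 0 0 0 0 0 0 0 0 0 0 0 0 0 0 0 0 0 0 0 0 0 0 0 0 0 0 0 0 0 0 0 0 0 0 0 0 0 0 0 0 0 0 0 1095 0 0) (@D3.rec (fun _ => Nat) 0 0 0 0 0 0 0 0 0 0 0 0 0 0 0 0 0 0 0 0 0 0 0 0 0 0 0 0 0 0 0 676 0 0 0 0 0 1281 0 1264 0 0 0 0 0 0 0 0 0 0 0 0 0 0 0 0 0 0 0 0 0 0) z3_g (@D3.rec (fun _ => Nat) 0 0 0 0 0 0 0 0 0 0 0 0 0 723 0 0 0 0 0 0 0 0 0 0 0 0 0 0 0 0 0 0 0 0 0 0 0 0 0 0 0 0 0 0 0 0 0 0 0 0 0 0 165 0 0 0 0 0 0 76 0 0) (@D3.rec (fun _ => Nat) 0 0 0 0 0 0 0 0 0 0 0 0 0 0 0 0 0 0 0 0 0 0 0 0 0 0 0 0 0 0 0 0 667 0 0 0 0 0 0 0 0 0 0 0 0 0 0 0 0 0 71 0 0 181 0 216 0 0 0 0 0 0) (@D3.rec (fun _ => Nat) 0 0 0 0 0 0 0 0 0 0 0 0 0 0 0 0 0 0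 0 0 0 0 0 0 0 0 0 0 0 0 0 0 0 0 0 0 0 0 0 0 0 0 0 0 0 0 0 0 0 0 0 0 0 0 0 0 0 0 0 0 78 0) z3_g z3_g (@D3.rec (fun _ => Nat) 0 0 0 0 0 0 0 0 0 0 0 0 0 69 0 0 0 0 0 0 0 0 0 0 0 0 0 0 0 0 0 0 0 0 0 0 0 0 0 0 0 0 0 0 0 0 0 0 0 0 0 0 0 0 0 0 0 0 0 0 0 0) z3_g (@D3.rec (fun _ => Nat) 0 0 0 0 0 0 0 0 0 0 0 0 0 0 0 0 0 0 0 0 0 0 0 0 0 94 0 0 0 0 0 0 0 0 0 0 0 0 0 0 0 0 0 0 0 0 0 0 0 81 0 0 0 0 0 0 0 0 0 0 0 0) (@D3.rec (fun _ => Nat) 0 0 0 0 0 0 0 0 0 0 0 0 0 0 0 0 0 0 0 0 0 0 0 0 0 0 0 166 0 0 0 0 0 0 0 0 0 0 0 0 0 0 0 0 0 0 0 0 0 0 0 0 0 0 0 0 0 0 0 0 0 0) (@D3.rec (fun _ => Nat) 0 0 0 0 0 0 0 0 0 0 0 0 0 0 186 159 0 0 0 0 0 0 0 0 0 0 0 0 0 0 0 0 0 0 0 0 0 0 0 0 0 0 0 0 0 0 0 0 0 0 0 0 0 0 0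 0 0 0 0 0 0 0) (@D3.rec (fun _ => Nat) 0 0 0 0 0 0 0 0 0 0 0 0 0 0 0 0 0 0 0 0 0 0 0 0 0 0 0 0 0 0 0 0 0 0 0 0 0 0 0 0 0 0 91 0 0 0 0 0 0 0 0 0 0 0 0 0 0 0 0 0 0 0) (@D3.rec (fun _ => Nat) 0 0 0 0 0 0 0 0 0 0 0 0 0 0 0 1585 0 0 420 0 0 0 0 0 0 0 0 0 0 0 0 0 0 0 0 0 0 0 0 0 0 0 0 0 0 0 0 0 0 0 0 0 0 0 0 0 0 0 0 0 0 0) z3_g (@D3.rec (fun _ => Nat) 0 0 0 0 0 0 0 0 0 0 0 0 0 0 0 0 0 0 0 0 0 0 0 0 0 0 0 0 0 0 0 0 0 0 0 0 0 0 0 0 0 0 0 0 0 0 0 0 0 0 0 0 0 1582 0 0 0 0 0 0 0 0) (@D3.rec (fun _ => Nat) 0 0 0 0 0 0 0 0 0 0 0 0 0 0 0 0 0 0 0 0 0 0 0 0 0 0 0 0 0 0 0 0 0 0 0 0 0 0 0 0 0 0 0 0 0 0 0 0 0 0 0 0 0 0 0 0 0 0 0 0 436 0) (@D3.rec (fun _ => Nat) 0 0 0 0 0 0 0 0 0 0 0 0 0 0 0 0 0 0 0 0 0 0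 0 0 0 0 0 0 0 0 0 0 0 0 0 0 0 442 0 0 0 0 0 0 0 0 0 0 0 0 0 0 0 0 0 0 0 1269 0 0 0 0) (@D3.rec (fun _ => Nat) 0 0 0 0 0 0 0 0 0 0 0 0 0 0 0 0 0 202 0 0 0 0 0 0 0 0 0 0 0 0 0 0 0 0 0 0 0 0 0 0 0 0 0 0 0 0 0 0 0 0 0 0 0 0 0 0 0 0 0 0 0 0) z3_g (@D3.rec (fun _ => Nat) 0 0 0 1271 0 0 0 276 0 0 0 0 0 0 0 0 0 0 0 0 0 0 0 0 0 0 0 0 0 0 0 0 0 0 0 0 0 0 0 0 0 0 0 0 0 0 0 0 0 0 0 0 0 0 0 0 0 0 0 0 0 0) (@D3.rec (fun _ => Nat) 0 0 0 0 0 0 0 0 0 0 0 0 0 0 0 0 0 0 0 0 0 0 0 0 326 0 0 0 0 0 0 0 0 0 0 0 0 0 0 0 0 0 0 0 0 0 0 0 0 0 0 0 0 0 0 0 0 0 0 0 0 0) (@D3.rec (fun _ => Nat) 0 0 0 0 0 0 0 0 0 0 0 0 0 0 0 0 0 0 406 0 0 0 0 0 0 0 0 0 0 0 0 0 479 0 0 0 0 0 0 0 0 0 0 0 0 0 0 0 1327 0 0 0 0 0 0 0 0 0 0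 0 0 0) (@D3.rec (fun _ => Nat) 0 0 0 0 0 0 1094 0 0 0 0 0 0 0 0 1351 0 0 0 312 0 0 0 0 0 0 0 0 0 0 0 0 0 0 0 0 0 0 0 0 0 0 0 0 0 0 0 0 0 0 0 0 0 0 0 0 0 0 0 0 1432 0) (@D3.rec (fun _ => Nat) 0 0 0 0 0 0 0 0 0 0 0 0 0 0 0 0 0 0 0 0 0 0 0 0 0 0 0 0 0 0 0 0 0 0 0 0 0 0 0 0 0 0 0 0 0 0 0 0 0 0 0 0 0 0 0 0 0 423 0 0 0 0) z3_g (@D3.rec (fun _ => Nat) 0 0 0 0 0 0 1676 0 0 0 0 0 0 0 0 0 0 0 0 0 0 0 0 0 0 0 0 0 0 0 0 0 0 0 0 0 0 0 0 0 0 0 0 0 0 0 0 0 0 0 0 0 0 0 0 0 0 0 0 0 0 0) z3_g z3_g (@D3.rec (fun _ => Nat) 0 0 0 0 0 0 0 416 0 0 0 0 0 0 0 0 0 0 0 0 0 0 0 0 0 0 0 0 0 0 0 0 0 0 0 0 0 0 0 0 0 507 0 0 0 0 0 0 0 0 0 0 0 0 0 0 0 0 0 0 0 0) z3_g z3_g (@D3.rec (fun _ => Nat) 0 0 0 0 0 0 0 0 0 0 0 0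 0 0 0 0 0 0 0 0 0 0 0 0 0 0 0 0 0 0 0 0 0 97 80 0 0 0 0 0 0 0 518 0 0 0 0 0 0 0 0 0 0 0 0 0 0 0 0 0 0 0) (@D3.rec (fun _ => Nat) 0 0 0 0 0 0 0 0 0 0 0 0 0 0 0 0 0 0 0 0 0 0 0 0 0 0 0 0 0 0 0 0 199 0 0 0 0 0 0 0 0 0 0 0 0 0 0 0 0 0 0 0 0 484 522 0 0 0 0 0 0 0) z3_g (@D3.rec (fun _ => Nat) 0 0 0 0 0 0 0 0 0 0 0 0 0 0 0 0 0 0 0 0 0 0 0 0 0 0 0 0 0 109 0 0 0 0 0 0 0 0 0 0 0 0 0 0 0 0 0 0 0 0 0 0 0 0 0 0 0 0 0 0 0 0) z3_g (@D3.rec (fun _ => Nat) 0 0 0 0 0 0 0 0 0 0 0 0 0 0 0 0 0 0 0 0 0 0 0 0 0 0 0 0 0 0 0 0 0 0 0 0 0 0 0 0 0 0 0 0 0 0 0 0 0 0 0 0 0 0 0 0 925 0 0 0 0 0)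
def sd_g_4 : D2 → D3 → Nat := @D2.rec (fun _ => D3 → Nat) z3_g z3_g z3_g z3_g z3_g z3_g z3_g z3_g z3_g z3_g z3_g z3_g z3_g z3_g z3_g z3_g z3_g z3_g (@D3.rec (fun _ => Nat) 0 0 0 0 0 0 0 0 0 0 0 0 0 0 0 0 0 0 0 0 0 0 0 0 0 0 0 0 621 0 0 0 0 0 0 0 0 0 0 0 0 0 0 0 0 0 0 0 0 0 0 0 0 0 0 0 0 0 0 0 0 0) z3_g z3_g z3_g z3_g z3_g z3_g (@D3.rec (fun _ => Nat) 0 0 0 0 0 0 0 0 0 0 0 0 0 0 0 0 0 0 0 0 0 0 0 0 0 0 0 0 0 0 0 0 0 0 0 0 0 0 0 122 0 0 0 0 0 0 0 0 0 0 0 0 0 0 0 0 0 0 0 0 0 0) z3_g z3_g z3_g z3_g z3_g (@D3.rec (fun _ => Nat) 0 0 0 0 0 0 0 0 0 0 0 0 0 0 0 0 0 0 0 0 0 0 0 0 0 0 0 0 0 0 0 0 0 0 0 0 0 0 0 0 0 0 0 0 0 0 0 0 113 0 0 0 0 0 0 0 0 0 0 0 0 0) z3_g (@D3.rec (fun _ => Nat) 0 0 0 0 0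 0 0 0 0 0 0 0 0 0 0 0 0 0 0 0 0 0 0 0 0 0 0 0 0 0 0 0 0 0 0 0 0 0 0 0 0 0 0 0 0 0 0 637 0 34 0 0 0 0 0 0 0 0 0 0 0 0) (@D3.rec (fun _ => Nat) 0 0 0 0 0 0 0 0 0 0 0 0 0 0 0 0 0 0 0 0 0 0 0 0 0 0 0 0 765 0 0 0 0 0 0 0 0 0 0 0 0 0 0 0 0 0 0 0 0 0 0 0 0 0 0 0 0 0 0 0 0 0) (@D3.rec (fun _ => Nat) 0 0 0 0 0 0 0 0 0 0 0 0 0 0 0 0 0 0 0 0 0 0 0 0 0 0 0 0 0 0 0 0 0 0 0 0 0 0 0 0 0 0 0 0 0 0 0 0 0 0 820 0 0 0 0 0 0 0 0 0 0 0) z3_g z3_g z3_g z3_g (@D3.rec (fun _ => Nat) 0 0 0 0 0 0 0 0 0 0 0 0 0 0 0 0 0 0 0 0 0 0 0 0 0 0 0 0 0 0 0 0 0 0 1273 0 0 0 0 0 0 0 0 0 0 0 0 0 0 0 0 0 0 0 0 0 0 0 0 0 0 0) (@D3.rec (fun _ => Nat) 0 0 0 0 0 0 0 0 0 0 0 0 557 0 0 0 0 0 0 0 0 0 0 0 0 0 0 0 0 0 0 0 0 0 0 0 0 0 0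 0 0 0 0 0 0 0 0 0 0 0 0 0 0 0 0 0 0 0 0 0 0 0) z3_g (@D3.rec (fun _ => Nat) 0 0 0 0 0 0 0 0 0 0 0 0 0 1167 0 0 0 0 1309 0 0 0 0 0 0 0 0 0 0 0 0 0 0 0 0 0 0 0 0 0 0 0 0 0 0 0 0 0 0 0 0 0 0 0 0 0 0 0 0 0 0 0) (@D3.rec (fun _ => Nat) 0 0 0 0 0 0 330 0 0 0 0 0 0 0 0 0 0 0 0 0 0 0 1350 0 0 0 1238 0 0 0 0 0 0 0 0 712 0 0 0 0 0 0 0 0 0 0 0 0 0 0 0 0 0 0 0 0 0 0 0 0 0 0) (@D3.rec (fun _ => Nat) 0 0 0 0 1307 0 0 0 0 0 0 0 0 0 0 0 0 0 0 0 0 0 0 0 0 0 0 0 0 0 0 0 0 0 0 0 0 0 0 0 0 0 0 0 0 0 0 0 0 0 0 0 545 0 0 0 0 0 0 0 0 0) (@D3.rec (fun _ => Nat) 0 0 0 0 0 0 0 0 0 1366 0 0 0 0 0 0 0 0 0 0 0 0 0 0 0 0 0 0 0 0 0 0 0 0 0 0 0 0 0 0 0 0 0 0 0 0 0 0 0 0 0 0 0 0 0 0 0 0 0 0 0 0) (@D3.rec (fun _ => Nat)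 0 0 0 0 0 0 0 0 0 0 0 0 0 0 0 0 270 0 0 0 2318 0 0 0 0 0 0 0 0 0 0 0 0 0 0 0 0 0 0 0 0 0 0 0 315 271 0 0 0 0 0 0 0 0 0 0 1323 0 0 0 0 0) (@D3.rec (fun _ => Nat) 0 0 0 0 0 0 0 0 0 0 0 0 0 0 0 0 0 0 0 0 0 0 0 0 559 0 0 0 0 0 0 0 0 0 0 0 0 0 0 0 0 0 0 0 0 0 0 0 0 0 0 0 0 0 0 0 0 0 0 0 0 0) z3_g (@D3.rec (fun _ => Nat) 0 0 0 0 0 0 0 1097 0 0 0 0 0 0 0 0 0 0 0 0 0 0 0 0 0 0 0 0 0 0 0 0 0 0 0 0 0 0 0 0 0 0 0 0 0 0 0 0 0 0 0 0 0 0 0 0 0 0 0 0 0 0) z3_g z3_g z3_g z3_g z3_g z3_g z3_g z3_g (@D3.rec (fun _ => Nat) 0 0 0 0 0 0 0 0 0 0 0 0 0 0 0 0 0 0 0 0 0 0 0 0 0 0 0 0 0 0 0 0 0 0 0 0 0 0 0 0 0 0 0 0 0 0 0 0 0 0 0 0 0 0 0 0 0 0 0 0 816 0)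
def sd_g_5 : D2 → D3 → Nat := @D2.rec (fun _ => D3 → Nat) z3_g z3_g z3_g z3_g z3_g z3_g z3_g z3_g z3_g z3_g (@D3.rec (fun _ => Nat) 0 0 0 0 0 0 0 0 0 0 0 0 0 0 0 0 0 0 0 0 0 0 0 0 0 0 0 0 0 0 0 0 0 0 0 0 0 0 0 0 0 0 843 0 0 0 0 0 0 0 0 0 0 0 0 0 0 0 0 0 0 0) (@D3.rec (fun _ => Nat) 0 0 0 0 0 0 0 0 0 0 0 0 0 0 830 0 0 0 0 0 0 0 0 0 0 0 0 0 0 0 0 0 0 0 0 0 0 0 0 0 0 0 0 0 0 0 0 0 0 0 0 0 0 0 0 0 0 0 0 0 0 0) z3_g z3_g (@D3.rec (fun _ => Nat) 0 0 0 0 0 0 0 0 0 0 0 0 0 0 0 0 0 0 0 0 0 0 0 0 0 0 0 0 0 0 0 0 0 0 0 0 0 0 0 0 0 0 0 0 0 0 0 0 845 529 0 0 0 0 0 0 0 0 0 0 0 0) z3_g (@D3.rec (fun _ => Nat) 0 0 0 0 0 0 0 0 0 0 0 0 0 0 0 0 0 0 0 0 0 0 0 0 0 0 0 0 0 0 0 0 0 0 0 0 0 0 0 0 0 0 0 2545 0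 0 0 0 0 0 0 278 0 0 0 0 0 0 0 0 0 0) z3_g z3_g z3_g z3_g z3_g z3_g z3_g z3_g z3_g z3_g (@D3.rec (fun _ => Nat) 0 0 0 0 2577 2707 0 0 0 0 0 0 0 0 0 0 0 0 0 0 2718 0 0 0 0 0 0 0 0 0 0 0 0 0 0 0 0 0 0 0 0 0 0 0 0 0 0 0 0 0 0 0 0 0 0 0 0 0 0 0 0 0) z3_g (@D3.rec (fun _ => Nat) 309 0 0 0 0 0 0 0 0 0 0 0 0 0 0 0 0 0 0 0 0 0 0 0 0 0 0 0 0 0 0 0 0 0 0 0 0 0 0 0 0 0 0 0 0 0 0 0 0 0 0 0 0 0 0 0 0 0 0 0 0 0) z3_g z3_g z3_g z3_g (@D3.rec (fun _ => Nat) 0 0 0 0 0 0 0 0 0 0 0 0 0 0 0 0 0 0 0 0 0 0 0 0 0 0 890 0 0 0 0 0 0 0 0 0 0 0 0 0 0 0 0 0 0 0 0 2193 0 0 0 0 0 0 0 0 0 0 0 0 0 0) z3_g z3_g z3_g (@D3.rec (fun _ => Nat) 0 0 0 0 0 0 0 0 0 0 0 0 0 0 0 0 0 0 0 0 0 0 0 0 0 0 0 0 0 0 0 0 0 896 0 0 0 0 0 0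 0 0 0 0 0 0 0 0 0 0 0 0 0 0 0 0 0 0 0 0 0 0) z3_g (@D3.rec (fun _ => Nat) 0 0 0 0 240 0 0 0 0 0 0 0 0 0 0 910 0 0 0 0 0 0 0 0 0 0 0 0 0 0 0 0 0 0 0 0 0 0 0 0 0 0 0 0 0 0 599 0 908 0 0 0 0 0 0 0 0 0 0 0 0 0) (@D3.rec (fun _ => Nat) 0 0 0 0 0 0 0 0 0 0 1045 0 0 0 0 0 0 0 0 0 0 0 0 0 0 0 0 0 0 0 0 0 0 0 0 0 0 0 0 0 0 0 0 0 0 0 0 0 0 0 0 0 0 0 0 0 0 0 0 0 0 0) z3_g (@D3.rec (fun _ => Nat) 0 0 0 0 0 0 0 0 0 0 0 0 0 0 0 2850 0 0 0 0 0 0 0 0 0 0 0 0 0 0 0 0 0 0 2835 0 0 0 0 0 0 0 0 0 0 0 0 0 0 0 0 0 0 0 0 0 0 0 0 0 0 0) z3_g (@D3.rec (fun _ => Nat) 0 0 0 0 0 0 0 0 0 0 0 0 0 0 0 0 0 2187 0 0 0 670 0 0 0 0 0 0 0 0 0 0 0 0 933 0 0 0 0 0 0 0 0 0 0 0 0 0 0 0 0 0 0 0 0 0 0 0 0 0 0 0) (@D3.rec (fun _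 => Nat) 0 0 0 0 0 0 0 0 0 0 0 0 0 0 0 0 938 0 0 0 0 0 0 0 0 0 0 0 0 0 0 0 0 0 0 0 0 0 0 0 0 0 0 0 0 0 0 0 0 0 0 0 0 0 0 0 0 0 0 0 0 0) z3_g (@D3.rec (fun _ => Nat) 0 0 0 0 0 0 0 0 0 0 0 0 0 0 0 0 0 0 0 0 822 0 0 0 0 0 0 0 0 0 0 0 945 0 0 0 0 0 0 0 0 0 0 0 0 0 0 0 0 0 0 0 0 0 0 0 0 0 0 0 807 0) z3_g (@D3.rec (fun _ => Nat) 0 0 0 0 0 0 0 0 0 0 1202 0 0 0 0 0 0 0 0 0 0 0 0 698 0 0 0 0 0 0 0 0 0 0 0 0 2429 0 0 0 0 941 0 0 0 0 0 0 0 0 0 0 0 0 0 0 0 0 0 0 0 0) (@D3.rec (fun _ => Nat) 0 0 0 0 0 0 0 0 0 0 0 0 0 0 0 0 0 0 0 0 0 0 0 0 0 0 0 0 0 0 0 0 0 0 0 0 0 0 0 0 0 0 0 0 0 0 0 0 0 0 0 0 0 255 0 285 0 0 0 589 0 0) (@D3.rec (fun _ => Nat) 0 0 0 0 0 0 0 0 0 0 0 0 0 0 0 0 0 0 0 0 0 0 0 0 0 0 0 802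 0 0 0 0 0 0 0 0 0 0 0 0 0 0 0 0 0 0 0 0 0 0 0 0 1220 0 0 0 0 0 0 0 0 0) z3_g z3_g (@D3.rec (fun _ => Nat) 2574 0 0 0 0 0 0 0 0 0 0 0 0 0 0 0 0 1022 0 0 0 991 0 0 0 0 0 0 0 0 0 0 0 0 0 0 0 0 0 0 0 0 0 0 0 0 0 0 0 0 0 0 0 0 0 0 0 0 0 0 0 0) z3_g (@D3.rec (fun _ => Nat) 0 0 1912 0 0 0 0 0 0 0 0 0 0 0 0 0 0 0 0 0 0 0 0 296 0 0 0 0 0 0 0 0 0 0 0 0 0 0 0 0 0 0 0 0 0 0 0 0 0 0 0 0 0 0 0 0 0 0 0 0 0 0) z3_g (@D3.rec (fun _ => Nat) 0 0 0 0 0 0 0 0 0 0 0 0 0 0 0 0 0 0 0 0 0 0 0 0 0 0 0 0 0 0 0 0 0 0 0 0 0 0 0 0 0 0 0 0 0 0 0 0 0 0 0 0 0 0 0 0 0 0 1033 0 0 0)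
def sd_g_6 : D2 → D3 → Nat := @D2.rec (fun _ => D3 → Nat) (@D3.rec (fun _ => Nat) 0 0 0 0 0 0 0 0 0 0 0 0 0 0 0 0 0 0 0 0 0 0 0 0 0 0 0 0 0 0 0 0 0 0 0 0 0 0 0 0 0 0 0 0 0 0 0 0 0 0 0 0 0 0 0 0 1016 1018 0 0 0 0) (@D3.rec (fun _ => Nat) 0 0 0 0 1879 291 0 0 955 0 0 0 0 0 0 0 0 0 0 0 0 0 0 0 0 0 0 0 0 0 0 0 0 0 0 0 0 0 0 0 0 0 0 0 0 0 0 641 0 0 0 0 942 0 0 0 0 1029 0 0 0 0) z3_g (@D3.rec (fun _ => Nat) 0 0 0 0 0 0 0 0 0 0 0 0 0 0 0 0 0 0 0 0 0 0 0 0 0 0 0 0 0 0 0 0 0 0 0 0 0 0 0 0 0 0 0 0 0 0 0 0 0 0 0 0 0 0 0 0 0 0 2260 0 0 0) z3_g z3_g z3_g z3_g (@D3.rec (fun _ => Nat) 0 0 0 0 0 1061 0 0 0 0 0 0 0 0 0 0 2503 0 0 0 0 0 0 0 0 0 0 0 0 0 0 0 0 0 0 0 0 0 0 0 0 0 0 0 0 0 0 0 1074 0 0 0 0 0 0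 0 0 0 0 0 0 0) z3_g (@D3.rec (fun _ => Nat) 0 0 0 0 0 0 0 0 0 0 0 0 0 0 0 0 471 351 576 0 0 0 575 0 0 0 1322 0 0 0 0 0 0 0 0 0 0 0 0 0 0 0 0 0 0 0 0 0 0 0 0 0 1002 0 0 0 0 0 0 0 0 0) (@D3.rec (fun _ => Nat) 0 0 0 0 0 0 0 328 571 0 0 0 0 0 0 0 0 0 0 0 0 0 0 0 0 0 0 0 0 0 0 0 0 0 342 0 0 538 0 678 0 1320 1091 0 0 0 0 0 0 0 0 0 0 0 0 0 0 0 0 0 0 0) (@D3.rec (fun _ => Nat) 0 0 0 0 0 0 0 0 0 0 154 0 0 0 0 0 0 0 0 0 0 0 0 0 0 0 0 0 0 0 0 0 0 0 0 0 0 0 0 0 0 0 0 0 0 0 0 0 0 0 0 0 0 1169 0 0 1164 0 0 0 0 0) z3_g z3_g z3_g z3_g (@D3.rec (fun _ => Nat) 0 0 0 0 0 0 0 0 0 0 0 0 0 0 0 0 0 1282 0 0 0 0 0 0 0 0 0 0 0 0 0 0 0 0 0 1295 0 0 0 0 0 0 0 0 0 0 0 0 0 0 0 0 0 0 0 0 0 0 0 0 0 0) (@D3.rec (fun _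 => Nat) 0 0 0 0 0 0 0 0 0 0 0 0 0 0 0 0 0 0 0 0 0 0 0 0 0 0 0 0 0 0 0 0 0 0 741 0 0 0 0 0 0 0 0 0 0 0 0 0 0 137 0 1214 0 0 0 0 0 0 0 0 0 0) z3_g (@D3.rec (fun _ => Nat) 0 0 0 0 0 0 0 0 0 0 0 0 0 0 0 0 0 0 0 0 0 0 0 0 0 0 0 0 0 0 1227 0 0 0 0 0 0 0 0 0 0 317 0 1329 0 0 0 0 0 0 0 0 0 0 0 0 0 0 0 0 0 0) (@D3.rec (fun _ => Nat) 0 0 0 0 0 0 0 0 0 0 0 0 0 0 0 0 0 0 387 0 0 0 0 0 0 0 0 0 0 0 0 0 0 0 0 0 0 0 0 0 0 0 0 0 0 0 0 0 0 0 0 0 673 0 0 0 0 0 0 0 0 0) (@D3.rec (fun _ => Nat) 0 0 0 0 0 273 0 0 0 0 0 0 0 0 0 0 0 0 0 0 0 0 92 0 0 0 0 0 0 0 0 0 0 0 0 0 0 0 0 0 0 0 0 0 585 0 0 0 0 0 0 0 0 0 0 0 0 0 0 0 0 0) (@D3.rec (fun _ => Nat) 0 0 0 0 0 0 0 0 0 0 0 0 0 0 0 0 0 0 0 0 0 0 0 0 0 0 0 0 0 1489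 0 0 0 0 0 0 0 0 0 0 0 0 0 0 319 0 0 0 374 0 373 0 0 0 0 0 0 0 0 0 0 0) z3_g z3_g (@D3.rec (fun _ => Nat) 0 0 0 0 0 0 0 0 0 0 0 0 0 0 0 0 0 0 0 0 0 0 0 0 0 0 0 0 0 0 0 0 0 0 0 0 0 0 0 0 0 0 0 0 0 0 675 0 0 0 0 0 0 0 0 0 0 0 0 0 634 0) (@D3.rec (fun _ => Nat) 0 0 0 0 0 0 0 0 0 0 0 1277 0 0 0 0 0 0 0 0 0 0 0 0 0 0 0 0 0 0 0 0 0 0 0 0 0 0 0 0 0 0 0 0 0 0 0 0 0 0 0 0 0 0 0 0 0 0 0 0 0 0) (@D3.rec (fun _ => Nat) 0 0 0 0 1213 0 0 0 0 0 0 0 0 0 0 0 1179 0 0 0 0 0 0 0 0 0 0 0 0 0 0 0 0 0 0 0 0 0 0 0 0 0 0 0 0 0 0 0 0 0 0 0 0 0 0 0 0 0 0 0 0 0) (@D3.rec (fun _ => Nat) 0 0 0 0 0 1215 1326 0 0 0 0 0 1356 0 0 0 0 0 0 0 0 0 0 0 0 0 0 0 0 0 0 546 0 0 0 0 0 0 0 0 0 0 0 0 0 0 737 738 0 0 0 0 318 1274 0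 0 0 0 0 0 0 0) (@D3.rec (fun _ => Nat) 0 0 0 0 0 0 0 0 1316 0 0 0 0 0 0 0 0 0 0 0 0 0 0 0 0 0 0 0 0 0 0 0 0 0 0 0 0 0 0 0 0 0 0 0 0 0 0 0 0 0 0 0 0 0 0 0 0 0 0 0 0 0) (@D3.rec (fun _ => Nat) 0 0 0 0 0 0 0 0 0 0 0 0 0 0 0 0 0 0 0 0 0 0 0 0 0 0 0 0 331 0 0 0 0 0 0 0 0 0 0 0 539 0 0 0 0 0 0 0 0 0 0 0 0 0 0 0 0 0 0 0 0 0) (@D3.rec (fun _ => Nat) 0 0 0 0 0 0 0 1126 0 1645 0 0 0 0 0 1355 0 0 0 332 0 0 0 0 0 0 0 0 0 0 0 0 0 0 1294 0 0 0 0 0 0 0 0 0 0 1344 0 0 0 0 0 0 0 0 0 0 0 0 0 0 0 0) (@D3.rec (fun _ => Nat) 0 0 0 0 0 0 0 0 0 0 0 0 0 0 0 0 0 0 0 0 0 732 0 0 0 0 0 0 0 0 0 0 0 0 0 0 0 0 0 0 0 0 0 0 0 0 1099 0 0 0 0 0 0 0 0 0 0 0 0 0 0 483) (@D3.rec (fun _ => Nat) 0 0 0 0 0 0 0 0 0 0 0 0 0 0 0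 0 0 0 0 0 0 0 0 0 0 0 0 0 0 0 506 0 0 0 0 0 0 0 1353 1261 1543 334 0 0 0 0 0 1105 0 0 0 0 0 336 0 0 0 0 0 0 1113 0) (@D3.rec (fun _ => Nat) 0 0 0 0 0 0 0 0 0 0 0 0 0 0 0 0 0 0 0 0 0 0 1111 0 0 0 0 0 0 0 0 0 0 0 0 0 0 0 0 0 0 0 0 0 0 0 0 0 0 0 0 0 0 0 0 0 0 0 0 0 0 0) (@D3.rec (fun _ => Nat) 0 0 0 0 1107 0 0 0 0 0 0 0 0 0 0 0 0 0 340 0 0 0 0 0 0 0 0 0 0 0 0 0 0 0 0 0 0 0 0 0 0 0 0 0 0 0 0 0 0 0 0 0 0 1554 0 0 0 0 0 0 0 0) (@D3.rec (fun _ => Nat) 0 0 0 0 0 0 0 0 0 0 0 0 0 0 0 0 572 1102 0 0 0 0 0 0 0 0 0 0 0 0 0 0 0 0 0 0 0 0 0 0 0 0 0 0 0 0 0 0 0 0 0 0 0 1420 583 0 0 0 0 0 346 0) (@D3.rec (fun _ => Nat) 0 0 1421 0 0 0 0 0 0 0 0 0 0 0 0 0 0 0 0 0 0 0 0 0 0 0 0 0 0 0 0 0 0 0 0 0 0 0 0 0 0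 0 0 0 0 0 0 0 0 0 0 0 0 0 0 0 0 0 0 0 0 0) (@D3.rec (fun _ => Nat) 0 0 0 0 0 0 0 0 0 0 0 0 0 0 0 0 0 0 0 0 0 0 0 0 0 1430 0 0 1428 0 0 0 0 0 0 0 0 0 0 0 0 0 0 0 0 0 0 0 0 0 0 0 0 0 1434 0 0 0 0 0 0 0) (@D3.rec (fun _ => Nat) 0 0 0 0 0 0 0 0 355 0 0 0 384 0 0 0 0 0 0 0 0 0 0 0 0 0 0 0 0 0 0 0 1117 0 0 0 0 0 0 0 0 0 0 0 0 0 0 0 0 0 0 0 0 0 0 0 0 0 0 1331 0 0) (@D3.rec (fun _ => Nat) 0 0 0 0 0 0 0 0 0 0 0 0 0 0 0 0 0 0 0 0 1440 0 0 0 0 0 0 0 0 0 0 0 0 0 0 0 0 0 0 0 0 0 0 0 0 0 0 0 0 0 0 0 0 0 0 0 0 0 0 0 1268 366) (@D3.rec (fun _ => Nat) 0 0 0 0 0 0 0 0 0 0 0 0 0 0 0 0 0 0 0 0 0 0 0 1443 0 0 0 367 0 0 369 0 0 0 0 0 0 0 0 0 0 0 0 0 0 0 0 0 0 0 0 0 0 0 0 0 0 0 0 0 0 0) (@D3.rec (fun _ => Nat)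 0 0 0 0 0 0 0 0 0 0 0 0 0 0 0 0 0 375 0 0 0 0 0 0 0 0 0 0 0 0 0 1311 1454 0 0 0 0 0 0 0 689 0 0 0 0 734 0 0 0 0 0 0 0 0 0 0 0 0 0 0 0 0) (@D3.rec (fun _ => Nat) 0 0 268 0 0 0 0 0 0 0 0 0 0 0 0 0 0 0 0 0 0 0 0 0 0 0 0 0 0 0 0 0 0 0 0 0 0 0 0 0 0 0 0 0 0 0 1467 0 0 0 0 0 0 0 376 0 378 0 0 0 0 0) (@D3.rec (fun _ => Nat) 0 0 0 0 1470 0 0 0 0 0 0 0 0 0 0 0 0 0 0 0 0 0 0 0 0 0 0 0 0 0 0 0 0 0 0 0 0 0 0 0 0 0 0 2223 0 0 0 0 0 0 0 0 0 0 0 0 0 0 0 0 0 0) (@D3.rec (fun _ => Nat) 0 0 0 0 0 0 0 0 0 0 0 0 0 0 0 0 0 0 0 0 0 0 0 0 0 0 0 0 0 0 0 0 0 0 0 0 0 0 0 0 0 0 0 0 0 818 0 0 0 1466 0 0 0 0 0 0 0 0 0 696 0 0) (@D3.rec (fun _ => Nat) 386 0 0 0 0 0 0 0 0 0 0 0 0 0 0 0 0 0 0 0 0 0 0 0 0 0 0 0 0 0 0 0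 0 0 0 0 0 0 0 0 0 0 0 0 371 0 0 0 0 0 0 0 0 0 0 0 0 0 0 0 0 0) z3_g (@D3.rec (fun _ => Nat) 0 0 0 0 0 0 0 0 0 0 0 0 0 0 0 0 0 0 0 0 0 0 0 0 1218 0 0 0 0 0 0 0 0 0 0 0 0 0 0 0 0 0 0 0 0 0 0 1189 0 0 0 0 0 0 0 0 0 0 0 0 0 0) (@D3.rec (fun _ => Nat) 0 0 0 0 0 0 0 0 0 0 1237 0 0 0 0 0 0 0 0 0 0 0 0 0 0 0 0 0 0 0 0 0 0 0 0 0 0 0 0 0 0 0 0 1384 0 0 0 0 0 0 0 0 0 0 1357 0 0 0 0 0 0 0) (@D3.rec (fun _ => Nat) 0 0 0 0 0 1480 0 0 0 0 0 0 0 0 0 0 609 0 0 0 0 0 0 0 0 0 0 0 0 0 0 0 0 0 0 0 0 0 0 0 0 0 0 0 0 0 0 0 0 0 0 0 0 0 0 0 0 0 0 0 0 0) (@D3.rec (fun _ => Nat) 0 0 0 0 0 0 0 0 0 0 0 208 0 0 0 0 0 0 0 0 0 177 0 0 0 0 0 0 0 0 0 0 0 0 0 0 0 0 0 88 0 0 0 0 0 0 0 0 0 0 0 0 0 0 0 0 0 0 0 0 0 0) (@D3.rec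 (fun _ => Nat) 0 0 0 0 0 0 0 0 0 0 0 0 0 0 0 0 0 0 0 0 0 0 0 0 0 0 0 0 0 0 0 0 0 0 0 0 0 0 0 248 0 0 0 0 0 0 0 0 0 0 0 0 0 0 0 0 0 0 0 0 0 0) z3_g z3_g z3_g z3_g z3_g (@D3.rec (fun _ => Nat) 0 0 0 0 0 0 0 0 0 0 0 0 0 0 515 0 0 0 0 0 0 0 0 0 0 0 0 0 0 0 0 0 0 0 0 0 0 0 0 0 0 0 0 0 0 0 0 0 0 0 0 0 0 0 0 0 0 0 0 0 0 0)
def sd_g_7 : D2 → D3 → Nat := @D2.rec (fun _ => D3 → Nat) (@D3.rec (fun _ => Nat) 0 0 0 0 0 0 0 0 0 0 0 0 0 0 0 0 0 0 0 0 0 0 0 0 0 0 0 0 0 0 0 0 0 0 0 0 0 0 0 0 0 0 0 0 0 0 0 429 0 0 0 0 0 0 0 0 0 0 0 0 0 0) (@D3.rec (fun _ => Nat) 0 0 0 0 0 0 0 0 0 0 0 0 0 0 0 0 0 0 0 0 0 217 0 0 0 0 0 0 0 0 0 0 0 0 0 0 0 0 0 0 0 0 0 0 0 0 0 0 0 0 0 0 0 0 0 0 0 0 0 0 0 0) (@D3.rec (fun _ =>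 Nat) 0 0 0 0 0 0 0 0 0 0 0 0 1722 0 0 0 0 0 0 0 0 0 0 0 0 0 0 0 0 0 0 0 0 0 0 0 0 0 0 0 0 0 0 0 0 0 0 0 0 0 0 0 0 0 0 0 0 0 0 0 0 0) (@D3.rec (fun _ => Nat) 0 0 0 0 0 0 0 0 0 0 0 0 0 100 0 0 453 0 0 0 0 0 0 0 0 0 0 0 0 0 0 0 0 0 0 0 101 0 0 0 0 0 0 0 0 0 0 0 0 0 0 0 0 0 0 0 0 0 0 0 0 0) (@D3.rec (fun _ => Nat) 0 0 0 0 0 0 0 0 0 0 0 0 0 0 0 0 0 0 0 0 0 0 392 0 0 0 0 0 0 206 0 0 0 0 0 0 0 0 0 0 0 0 0 0 0 0 0 0 90 0 0 0 0 0 0 0 0 0 0 0 0 0) (@D3.rec (fun _ => Nat) 0 0 0 0 0 0 0 0 0 0 0 0 0 0 0 0 0 0 0 170 0 0 0 0 0 0 0 0 596 0 0 0 0 0 0 0 0 0 0 0 0 0 0 0 0 0 0 0 0 0 0 0 0 0 0 0 0 0 0 0 0 0) (@D3.rec (fun _ => Nat) 0 0 0 0 0 0 0 0 0 0 0 0 0 0 0 0 0 0 0 0 0 0 0 0 0 0 0 0 0 0 0 0 0 0 0 0 0 0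 0 0 0 0 0 0 0 0 0 0 0 0 0 0 0 0 251 0 0 1570 0 0 570 0) (@D3.rec (fun _ => Nat) 0 0 0 0 0 0 0 0 0 0 0 0 0 0 435 0 0 0 0 0 0 0 0 187 252 410 0 0 0 0 0 0 0 0 0 0 0 0 0 0 0 0 0 0 0 0 0 0 0 0 0 0 0 0 0 0 0 0 0 0 0 0) z3_g (@D3.rec (fun _ => Nat) 0 0 0 0 0 0 0 0 0 0 0 0 0 0 0 0 0 0 0 0 0 0 0 0 0 0 0 221 0 0 0 0 0 0 0 0 0 0 0 0 0 0 0 183 0 0 0 0 0 0 0 0 0 0 0 0 0 0 0 0 0 0) (@D3.rec (fun _ => Nat) 0 0 0 0 0 0 0 0 0 0 0 0 0 0 0 0 0 0 0 0 0 0 0 0 0 0 413 0 0 0 0 0 0 0 0 0 0 0 1856 0 1534 0 0 0 0 0 0 0 0 0 0 0 0 0 0 0 0 0 0 0 0 0) (@D3.rec (fun _ => Nat) 0 0 0 0 0 0 0 0 0 0 0 0 0 0 0 0 0 0 0 0 404 0 0 0 0 0 0 0 0 0 0 0 0 0 0 0 0 0 0 0 0 0 0 0 0 0 0 0 0 0 0 0 0 0 0 0 0 0 0 0 0 0) (@D3.rec (fun _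 => Nat) 0 0 0 0 0 0 0 0 0 0 0 0 0 0 0 0 0 0 0 0 0 0 0 188 0 0 0 0 0 0 0 0 0 0 0 0 0 0 0 0 184 0 0 0 0 0 0 0 0 0 0 0 0 0 0 0 0 0 0 0 0 0) (@D3.rec (fun _ => Nat) 0 0 0 0 0 0 0 0 0 0 0 0 0 0 0 0 0 0 0 0 0 0 0 0 0 0 0 0 0 0 0 0 0 0 0 0 167 0 0 0 0 0 0 459 0 0 0 0 0 0 0 0 0 0 0 0 0 0 0 0 0 0) z3_g (@D3.rec (fun _ => Nat) 0 0 0 0 0 0 0 0 0 0 0 0 0 0 0 0 0 0 0 0 0 0 0 0 0 0 0 0 0 0 0 0 0 0 0 395 0 0 0 0 0 0 0 0 0 0 0 0 0 0 0 0 0 0 0 0 0 0 0 0 0 0) (@D3.rec (fun _ => Nat) 0 0 0 0 0 0 0 0 0 586 0 0 0 0 0 0 0 0 0 0 0 0 0 0 0 0 0 0 0 0 0 0 0 0 0 0 0 415 0 0 0 0 0 0 0 0 0 0 0 0 0 0 0 0 0 0 0 0 0 0 0 0) z3_g (@D3.rec (fun _ => Nat) 0 0 0 594 0 0 0 0 0 0 0 0 0 0 0 0 0 0 0 0 0 0 398 0 0 0 0 0 0 173 0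 0 0 0 0 0 0 0 256 0 0 0 0 0 55 0 0 0 0 0 438 0 0 0 0 0 0 0 0 0 0 0) (@D3.rec (fun _ => Nat) 0 0 0 0 0 0 0 0 0 0 0 0 0 0 0 0 0 0 0 0 0 0 0 0 0 0 0 0 0 0 0 0 0 1620 0 0 0 441 0 0 0 0 0 0 0 0 0 0 0 0 0 0 0 0 0 0 0 0 0 0 0 0) (@D3.rec (fun _ => Nat) 0 0 0 0 0 0 0 0 0 0 0 0 0 0 0 0 0 0 0 0 0 0 0 0 0 0 0 0 0 0 0 0 0 0 0 0 0 397 0 0 0 0 0 0 0 0 0 0 0 0 0 0 0 0 0 1511 0 0 0 0 0 0) (@D3.rec (fun _ => Nat) 0 0 0 0 0 0 0 0 0 0 0 0 0 0 0 0 0 0 0 0 0 0 0 0 228 0 0 0 0 0 0 0 0 0 0 0 0 0 0 0 0 0 0 0 0 0 0 0 444 0 0 0 0 0 0 0 0 0 0 0 0 0) z3_g (@D3.rec (fun _ => Nat) 0 0 0 0 0 0 0 0 0 0 0 0 0 0 0 0 0 0 0 0 0 0 0 0 0 0 0 0 0 0 0 0 0 0 0 0 0 0 0 0 0 0 0 1634 0 0 0 0 0 0 0 0 0 0 0 0 0 0 0 0 0 0) (@D3.rec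 (fun _ => Nat) 0 0 0 0 0 0 0 0 0 0 0 0 0 0 0 0 0 0 0 0 0 0 0 0 0 0 0 0 0 0 0 0 0 0 1624 0 0 0 0 0 0 0 0 0 0 0 0 0 0 0 0 0 0 0 0 1907 0 0 0 0 0 0) (@D3.rec (fun _ => Nat) 0 0 0 0 0 0 0 0 0 0 0 0 0 0 0 0 0 0 0 0 0 0 0 0 0 0 0 0 0 0 0 0 0 0 417 0 0 0 0 0 0 0 0 0 0 0 0 0 0 0 0 0 0 0 0 0 0 0 460 0 0 0) (@D3.rec (fun _ => Nat) 0 0 0 0 0 0 0 0 0 0 0 0 0 0 0 0 0 0 0 0 0 0 0 0 0 0 0 0 0 0 0 0 0 0 0 465 0 0 0 0 0 0 0 0 0 0 0 0 0 0 0 0 0 0 0 0 0 0 0 0 0 0) (@D3.rec (fun _ => Nat) 0 0 0 0 0 0 0 0 0 0 0 0 0 0 0 0 0 0 0 0 0 0 0 0 0 0 0 468 0 0 0 0 0 0 0 0 0 0 0 0 0 0 0 446 0 0 0 0 0 0 0 0 0 0 0 0 0 0 0 0 0 0) z3_g (@D3.rec (fun _ => Nat) 0 0 0 0 0 0 0 0 0 0 0 0 0 0 0 0 0 0 0 0 0 0 0 0 0 0 0 0 0 0 0 0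 0 0 0 0 0 0 0 0 0 0 0 0 0 0 0 1604 467 0 0 0 0 0 0 0 0 0 0 461 0 0) (@D3.rec (fun _ => Nat) 0 0 0 0 0 0 0 0 0 0 0 0 0 0 0 0 0 0 0 0 0 0 0 0 0 0 0 0 0 0 0 0 1537 0 0 0 0 0 0 0 0 0 0 0 0 0 0 0 0 0 0 0 0 0 0 0 0 0 0 0 0 0) z3_g (@D3.rec (fun _ => Nat) 0 0 0 0 0 0 0 0 0 0 0 0 0 0 0 0 0 0 0 0 0 0 0 0 0 0 0 0 0 0 0 0 0 0 0 0 0 0 0 543 0 0 0 0 0 0 0 0 0 0 0 0 0 0 0 0 0 0 0 0 0 0) (@D3.rec (fun _ => Nat) 0 1688 0 0 0 0 0 0 0 0 0 0 0 0 0 0 0 0 0 0 0 1674 0 0 0 1552 0 0 0 0 0 0 0 0 0 0 0 0 0 0 0 0 0 0 0 0 0 0 0 0 0 0 560 0 0 0 0 0 0 0 0 0) (@D3.rec (fun _ => Nat) 0 0 0 0 0 0 0 0 0 0 0 0 0 0 0 0 0 0 0 0 0 0 0 0 0 0 0 1702 0 0 0 0 0 0 0 0 0 0 0 0 0 1551 0 0 0 0 0 0 0 0 0 0 0 0 0 0 0 0 0 0 0 0) (@D3.rec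 (fun _ => Nat) 0 169 0 0 0 0 0 0 0 0 0 0 0 0 0 0 0 0 0 0 0 0 0 0 0 0 0 0 0 0 0 0 0 0 0 0 0 0 0 0 0 0 0 0 0 0 0 0 0 0 0 0 0 0 0 0 0 0 0 0 0 0) z3_g (@D3.rec (fun _ => Nat) 0 0 0 0 0 0 0 0 0 0 0 0 0 0 0 0 0 0 0 0 0 0 0 0 0 0 0 0 0 0 0 0 0 0 0 0 0 0 0 0 0 454 0 0 0 0 0 0 0 0 0 0 0 0 0 0 0 0 0 0 0 0) (@D3.rec (fun _ => Nat) 0 0 0 0 0 0 0 0 0 0 0 0 0 1729 0 0 0 0 0 0 0 0 0 0 0 0 0 0 0 0 0 1730 1734 0 0 0 0 0 0 0 0 0 0 0 0 0 0 0 0 0 0 0 0 0 0 0 0 0 0 0 0 0) (@D3.rec (fun _ => Nat) 0 0 0 0 0 0 0 0 0 0 0 0 0 0 0 0 0 0 0 0 0 0 0 0 0 0 0 0 0 0 0 0 0 0 0 0 0 0 0 0 0 0 0 0 0 0 0 0 0 0 0 0 0 0 0 0 0 0 0 1740 0 0) z3_g (@D3.rec (fun _ => Nat) 0 0 0 0 0 0 0 0 0 0 0 0 0 0 0 0 0 0 0 0 0 0 0 0 0 0 0 0 0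 0 0 0 0 0 0 0 0 0 1753 0 0 0 0 0 0 0 0 0 0 0 0 0 0 0 0 0 0 0 0 0 0 0) (@D3.rec (fun _ => Nat) 0 0 0 0 0 0 0 0 960 0 0 0 0 0 0 0 0 0 0 0 0 0 0 0 0 0 1756 0 0 0 0 0 0 0 0 0 0 0 0 0 0 0 0 0 0 0 0 0 0 0 0 0 0 0 0 0 0 0 0 0 0 0) (@D3.rec (fun _ => Nat) 0 0 0 0 0 0 0 0 0 0 0 0 0 0 0 0 0 0 0 0 0 0 0 1765 0 0 0 0 0 0 0 0 0 0 0 0 0 0 0 0 0 0 0 0 0 0 205 0 0 0 0 0 0 0 0 0 0 0 0 0 0 0) (@D3.rec (fun _ => Nat) 0 0 0 1771 1768 0 0 0 0 0 0 0 0 0 0 0 1777 0 0 0 0 0 0 0 0 0 0 0 0 0 0 0 0 0 0 0 0 0 0 0 0 0 0 0 0 0 0 0 508 0 0 0 0 0 0 0 0 0 0 1775 0 0) (@D3.rec (fun _ => Nat) 0 0 0 0 0 0 1760 0 0 0 0 0 0 0 0 0 0 0 0 0 1793 0 0 0 0 0 0 0 0 0 0 0 1724 0 0 0 0 0 0 0 0 0 0 0 0 0 0 0 0 0 0 0 0 0 0 0 0 0 0 0 0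 0) (@D3.rec (fun _ => Nat) 0 0 0 0 0 0 0 0 0 0 0 0 0 0 0 0 458 0 0 0 0 0 0 0 0 0 0 0 0 0 0 0 0 0 0 0 0 0 0 0 0 0 0 0 0 0 0 0 0 0 0 0 0 0 0 0 0 176 0 0 0 0) (@D3.rec (fun _ => Nat) 0 0 0 0 0 0 0 0 0 0 0 0 0 0 0 0 0 0 0 0 0 0 0 0 0 0 0 0 0 0 1845 0 0 0 0 0 0 0 0 0 0 0 0 0 0 0 0 0 0 0 0 0 0 0 1680 0 0 0 0 0 0 0) (@D3.rec (fun _ => Nat) 0 0 0 0 0 0 0 0 0 0 0 0 0 0 0 0 0 0 0 0 0 0 0 0 0 0 0 0 0 0 223 0 0 0 0 0 1548 0 87 0 0 0 0 0 0 0 0 0 0 516 0 0 0 0 0 0 0 0 0 0 0 0) z3_g (@D3.rec (fun _ => Nat) 0 0 0 0 0 0 0 0 0 1826 0 0 0 0 0 0 0 0 0 0 0 0 0 0 0 0 0 0 0 0 0 0 0 0 0 0 0 0 0 0 0 0 0 0 0 0 0 0 0 0 0 0 0 0 0 0 0 0 0 542 0 0) (@D3.rec (fun _ => Nat) 0 0 0 0 0 0 209 0 0 0 0 0 0 0 0 0 0 0 0 0 0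 0 0 0 0 0 0 0 0 0 0 0 0 0 0 0 0 0 0 0 0 0 0 0 0 0 0 0 0 0 0 0 0 0 0 0 0 0 0 0 0 0) (@D3.rec (fun _ => Nat) 0 0 0 0 0 0 0 1842 0 0 0 0 0 0 0 0 0 0 0 0 0 0 0 0 0 0 0 0 0 0 0 0 0 0 0 0 0 0 0 0 0 0 0 0 0 0 0 0 0 0 0 0 486 0 0 0 0 0 1521 0 0 0) (@D3.rec (fun _ => Nat) 0 0 0 0 0 0 0 0 0 0 0 0 0 0 0 0 0 1776 0 0 0 0 0 0 0 0 0 0 0 0 234 0 0 419 249 0 0 0 0 0 0 0 0 0 0 0 0 0 0 0 0 0 0 0 0 0 0 0 0 0 0 0) z3_g (@D3.rec (fun _ => Nat) 0 0 0 0 0 0 0 0 0 0 0 1854 0 0 0 0 0 0 0 0 0 0 0 0 0 0 0 0 0 0 0 0 0 0 0 0 0 0 0 0 0 0 0 0 0 0 0 0 0 0 0 0 0 0 0 0 0 0 0 0 0 0) z3_g z3_g z3_g (@D3.rec (fun _ => Nat) 0 0 0 0 0 0 0 0 0 0 0 0 0 0 0 0 0 0 0 0 0 0 0 0 0 0 0 0 0 0 0 0 0 0 0 0 0 0 0 0 0 0 0 0 0 0 0 0 819 0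 0 0 0 0 0 0 0 0 0 0 0 0)
def sd_g_8 : D2 → D3 → Nat := @D2.rec (fun _ => D3 → Nat) (@D3.rec (fun _ => Nat) 0 0 0 0 0 0 0 0 0 0 0 0 0 0 0 0 0 0 0 0 0 0 0 0 0 0 0 0 0 0 0 0 0 0 0 0 0 0 0 0 0 0 0 0 0 0 0 1196 0 0 2033 0 0 0 0 0 0 0 0 0 0 0) z3_g z3_g z3_g z3_g z3_g z3_g z3_g z3_g z3_g z3_g z3_g (@D3.rec (fun _ => Nat) 0 0 0 0 0 0 0 0 0 0 0 0 0 0 0 0 0 0 0 0 0 0 0 0 0 0 0 0 0 0 0 0 0 0 0 0 0 0 0 0 0 3038 0 0 0 0 0 0 0 0 0 0 0 0 0 0 0 0 0 0 0 0) z3_g (@D3.rec (fun _ => Nat) 0 0 0 0 0 0 0 0 0 0 0 0 0 0 0 0 0 0 0 0 0 0 0 0 0 0 0 0 0 2470 0 0 0 0 0 607 0 0 0 0 0 0 0 0 0 0 0 0 0 0 0 0 0 0 0 608 0 0 0 0 0 0) z3_g z3_g z3_g z3_g (@D3.rec (fun _ => Nat) 0 0 0 0 0 0 0 0 0 0 0 0 0 0 0 0 0 0 0 0 0 0 0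 0 0 0 0 0 0 0 0 0 0 0 0 0 0 0 0 0 0 0 2092 0 0 0 0 0 0 0 0 0 0 0 0 0 0 0 0 0 0 0) z3_g (@D3.rec (fun _ => Nat) 0 0 0 619 0 0 0 0 0 0 0 0 0 0 0 0 0 0 0 0 0 0 0 0 0 0 0 0 0 0 0 0 0 0 0 0 0 0 0 0 0 0 0 0 0 0 0 0 0 0 0 0 0 0 0 0 0 0 0 0 0 0) z3_g (@D3.rec (fun _ => Nat) 0 0 0 0 0 0 0 0 0 0 0 0 0 0 800 0 0 0 0 0 0 0 0 0 0 0 0 0 0 0 0 0 0 0 0 0 0 0 0 0 0 0 0 0 0 0 0 0 0 0 0 0 0 0 0 0 0 0 0 0 0 0) z3_g z3_g z3_g z3_g z3_g z3_g z3_g z3_g z3_g z3_g (@D3.rec (fun _ => Nat) 0 0 0 0 0 0 0 0 0 2118 0 0 0 0 0 0 0 0 0 0 0 0 0 0 0 0 0 0 0 0 0 0 0 0 0 0 0 0 0 0 0 0 0 0 0 0 0 0 0 0 0 0 0 0 0 0 0 0 0 0 0 0) (@D3.rec (fun _ => Nat) 0 0 0 0 0 0 0 0 0 0 0 0 0 0 0 310 0 1964 0 0 2091 0 0 0 0 0 0 0 0 0 0 0 0 0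 0 0 0 0 0 0 0 0 0 0 0 0 0 0 0 0 0 0 0 0 0 0 0 0 0 0 0 0) z3_g z3_g z3_g z3_g z3_g z3_g z3_g z3_g z3_g z3_g (@D3.rec (fun _ => Nat) 0 0 0 0 0 0 0 0 0 0 0 0 0 0 0 0 0 0 0 0 0 0 0 0 0 0 0 0 0 0 3053 0 0 0 0 0 0 0 0 0 0 0 0 0 0 0 0 0 0 0 0 0 0 0 0 0 0 0 0 0 0 0) z3_g (@D3.rec (fun _ => Nat) 0 0 0 0 0 0 0 0 2893 0 0 0 0 0 0 0 0 0 0 0 0 0 0 0 0 0 0 0 0 0 0 0 0 0 0 0 0 0 0 0 0 0 0 0 0 0 0 0 0 0 0 0 0 0 0 0 0 0 0 0 0 0) z3_g z3_g z3_g z3_g z3_g z3_g z3_g z3_g z3_g (@D3.rec (fun _ => Nat) 0 0 0 0 0 0 0 0 0 0 0 0 0 0 0 0 0 0 0 0 0 0 0 0 0 0 0 0 0 0 0 0 0 839 0 0 0 0 0 0 0 0 0 0 0 0 0 0 0 0 0 0 0 0 0 0 0 0 0 0 0 0) (@D3.rec (fun _ => Nat) 0 0 0 0 2127 0 0 0 0 0 0 0 0 0 0 0 0 0 0 0 0 0 0 0 0 0 0 0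 0 0 0 0 0 0 0 0 0 0 0 0 0 0 0 0 0 0 0 0 0 0 0 0 0 0 0 0 0 0 0 0 0 0)
def sd_g_9 : D2 → D3 → Nat := @D2.rec (fun _ => D3 → Nat) (@D3.rec (fun _ => Nat) 0 0 0 0 0 0 0 0 0 0 0 0 0 0 0 0 0 0 0 0 0 0 0 0 0 0 1913 0 0 0 0 0 0 0 0 0 0 0 0 0 0 0 0 0 0 0 0 0 0 0 0 0 0 0 0 0 0 0 0 0 0 0) (@D3.rec (fun _ => Nat) 0 0 0 0 0 0 0 0 0 0 0 0 0 0 0 0 0 0 0 0 0 0 0 0 0 0 0 0 0 0 0 0 0 2869 0 0 0 0 0 0 0 0 0 0 0 0 0 0 0 0 0 0 0 0 0 0 0 0 0 0 0 0) (@D3.rec (fun _ => Nat) 0 0 0 0 0 0 0 0 0 0 0 2184 0 0 0 0 0 0 0 0 0 0 0 0 0 0 0 0 0 0 0 0 0 0 0 0 0 0 0 0 0 0 1471 0 0 0 0 0 0 0 0 0 0 0 0 0 0 0 0 0 0 0) z3_g (@D3.rec (fun _ => Nat) 0 0 0 0 0 0 0 0 0 0 0 0 0 0 0 0 0 0 0 0 0 0 0 0 0 0 0 0 0 0 0 0 0 0 2844 0 0 0 0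 0 0 0 0 0 0 1064 0 0 0 0 0 0 0 0 0 0 0 0 0 0 0 0) (@D3.rec (fun _ => Nat) 0 0 0 0 0 0 0 0 0 0 0 0 0 639 0 0 0 0 0 0 0 0 0 0 0 0 0 0 0 0 0 0 0 0 1034 0 0 0 0 0 0 0 0 0 0 0 0 0 0 0 0 0 0 0 0 777 0 0 0 0 0 0) (@D3.rec (fun _ => Nat) 0 0 0 0 0 0 0 0 0 0 0 0 0 0 0 0 0 0 0 0 0 0 0 0 0 0 0 0 0 0 0 0 0 0 1123 0 0 0 0 0 0 0 0 0 774 0 0 0 0 0 0 0 0 0 0 0 0 0 0 0 0 0) (@D3.rec (fun _ => Nat) 0 0 0 0 0 0 0 0 0 0 0 2161 0 0 0 0 0 0 0 0 0 0 0 0 0 0 0 0 0 0 0 0 1077 0 0 0 0 0 0 0 0 0 0 0 0 0 0 0 0 0 0 2476 0 0 0 0 0 0 0 0 0 0) (@D3.rec (fun _ => Nat) 0 0 0 0 0 0 0 0 0 0 0 0 0 0 0 0 0 0 0 0 0 0 0 0 0 0 0 0 0 0 0 0 0 0 0 0 0 0 0 930 0 0 0 0 0 0 1911 0 0 0 0 0 0 0 0 0 0 0 0 0 0 0) z3_g (@D3.rec (fun _ =>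 Nat) 1874 0 0 0 0 0 0 0 0 0 0 0 0 0 0 0 0 0 0 0 0 0 0 983 0 0 0 0 0 0 0 0 0 0 0 0 0 0 0 0 0 0 0 0 0 0 0 0 0 0 0 0 0 0 0 0 2194 0 0 0 0 0) (@D3.rec (fun _ => Nat) 0 0 0 0 0 0 0 0 0 0 0 0 0 1032 0 0 763 0 0 0 0 656 0 0 0 0 0 0 0 0 0 0 0 0 0 0 0 0 0 0 0 0 0 0 0 0 0 0 0 0 0 0 0 0 0 0 0 0 0 0 0 0) (@D3.rec (fun _ => Nat) 0 0 0 0 0 0 0 0 0 0 0 0 779 0 0 0 0 658 0 0 929 0 0 0 0 0 0 0 0 0 0 1664 0 0 0 0 0 0 0 0 0 0 0 0 0 0 0 0 0 0 0 0 0 0 0 0 0 0 0 0 0 0) (@D3.rec (fun _ => Nat) 0 0 0 0 0 0 0 0 0 0 0 0 0 0 0 0 0 0 0 0 0 699 0 0 0 0 0 0 758 0 0 1025 0 0 0 0 0 0 0 0 0 652 0 0 0 0 0 0 0 0 0 0 0 0 0 0 0 0 0 0 0 0) z3_g (@D3.rec (fun _ => Nat) 0 0 0 0 0 0 0 0 0 0 0 0 0 0 0 0 0 0 0 0 0 0 0 0 0 297 0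 0 0 0 0 2242 0 25 1073 0 0 0 0 0 0 0 2269 0 0 0 0 0 0 0 0 0 0 0 0 0 0 0 0 0 0 0) (@D3.rec (fun _ => Nat) 0 0 0 0 0 0 0 0 0 0 730 0 0 0 0 0 0 0 0 0 0 0 0 0 0 0 0 0 0 0 1289 0 0 0 0 0 0 0 0 0 0 0 0 0 0 0 0 0 0 0 0 0 0 0 0 0 0 668 0 0 0 0) (@D3.rec (fun _ => Nat) 0 0 0 0 0 0 0 0 0 0 0 0 0 1878 0 0 0 0 0 0 0 0 0 0 0 0 0 0 0 0 0 0 0 0 0 0 0 0 0 0 0 0 0 0 0 0 0 0 0 0 0 0 0 0 0 0 0 0 0 0 0 0) z3_g (@D3.rec (fun _ => Nat) 0 0 0 0 0 1129 0 0 0 0 0 0 0 0 0 0 0 0 0 0 0 0 0 0 0 0 0 0 0 0 0 0 0 0 0 2581 0 0 0 0 0 0 0 0 0 0 0 0 0 0 0 0 0 0 0 0 0 0 0 0 0 0) z3_g (@D3.rec (fun _ => Nat) 0 0 0 0 0 0 0 0 0 0 0 0 0 0 0 0 0 0 0 0 0 0 0 0 0 0 0 0 0 0 0 0 0 2307 0 0 0 0 0 0 0 0 0 0 0 681 0 682 0 0 0 0 0 0 0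 0 1980 0 0 0 0 0) (@D3.rec (fun _ => Nat) 0 0 0 0 0 0 0 0 0 0 0 0 0 0 0 0 0 0 0 0 0 0 0 0 0 0 0 0 0 0 0 0 0 0 0 0 0 0 0 0 0 0 0 0 0 0 0 0 0 0 0 0 0 0 0 0 0 0 0 683 0 0) (@D3.rec (fun _ => Nat) 0 0 0 0 0 0 0 0 0 0 0 0 0 0 0 0 0 0 0 0 0 0 0 0 0 0 0 0 0 0 0 0 0 0 0 0 0 0 0 0 0 0 0 0 0 0 0 1359 0 0 0 0 0 0 0 0 0 0 0 0 0 0) (@D3.rec (fun _ => Nat) 0 0 0 0 0 0 0 0 0 0 1901 0 0 0 0 0 0 0 0 0 0 1150 0 0 0 0 0 0 0 0 0 0 0 0 0 0 0 0 0 0 0 0 0 0 0 0 0 0 0 0 0 0 0 0 0 0 0 0 0 0 0 0) (@D3.rec (fun _ => Nat) 0 0 0 0 0 0 0 0 0 0 0 0 0 0 0 1340 0 0 0 0 0 0 0 0 0 0 0 0 0 0 0 0 0 0 0 0 0 0 0 0 0 0 0 0 0 0 0 0 0 0 0 0 0 0 0 0 0 0 0 0 0 0) (@D3.rec (fun _ => Nat) 0 0 0 0 0 0 0 0 0 0 0 0 0 0 0 0 0 0 0 0 0 0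 0 0 0 0 0 0 0 0 0 0 0 0 0 0 0 0 0 0 0 0 0 0 0 0 0 2341 0 0 0 0 0 0 0 0 0 0 0 0 0 0) (@D3.rec (fun _ => Nat) 0 0 0 0 0 0 0 0 0 0 0 1392 0 0 0 0 0 0 0 0 0 0 0 0 0 0 0 0 0 0 0 0 0 0 0 0 0 0 0 0 0 0 0 0 0 0 0 0 0 0 0 0 0 0 0 0 0 0 0 0 0 713) (@D3.rec (fun _ => Nat) 0 0 0 0 0 0 0 0 0 0 0 0 0 0 0 0 0 1445 0 0 0 0 0 0 0 0 0 0 0 0 0 0 0 1893 0 0 0 0 0 0 0 0 0 0 0 0 0 1302 0 1542 0 1343 0 0 0 0 0 0 0 0 0 0) (@D3.rec (fun _ => Nat) 0 0 0 0 0 0 0 0 0 0 0 0 0 0 0 1205 691 0 0 0 0 0 0 0 0 0 0 0 0 0 0 0 0 0 0 0 0 0 0 0 0 0 0 0 0 0 0 0 0 0 0 0 0 0 0 0 0 0 0 0 0 0) (@D3.rec (fun _ => Nat) 0 1382 0 0 0 0 0 0 0 0 0 0 0 0 0 0 0 0 0 0 0 0 0 0 0 0 0 0 0 0 382 0 0 0 0 0 0 0 0 0 0 694 2338 0 0 0 0 0 0 0 0 0 0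 0 0 0 0 0 0 0 0 0) (@D3.rec (fun _ => Nat) 0 0 0 0 2360 0 0 0 0 0 0 0 0 0 0 0 0 0 0 0 701 0 0 0 0 0 0 0 0 0 0 0 0 0 0 0 0 0 0 0 0 0 0 0 0 0 0 0 0 0 0 0 0 0 0 0 0 0 0 0 0 0) (@D3.rec (fun _ => Nat) 0 0 0 0 0 0 0 0 0 0 0 0 0 0 0 0 0 782 1193 0 0 0 0 0 0 0 0 0 0 0 0 0 0 0 0 0 0 0 0 0 372 0 0 0 0 0 0 0 0 0 0 0 0 0 0 0 0 0 0 0 0 0) z3_g z3_g z3_g (@D3.rec (fun _ => Nat) 0 0 793 0 0 0 0 0 0 0 0 0 0 0 0 0 0 0 0 0 0 0 0 0 0 0 0 0 0 0 0 0 0 0 0 0 0 0 0 0 0 0 0 0 0 0 0 0 0 0 0 0 0 0 0 0 0 0 0 0 0 0) z3_g (@D3.rec (fun _ => Nat) 0 0 0 0 0 0 0 0 0 0 0 0 0 0 0 0 0 0 0 2093 0 0 0 0 0 0 0 0 0 0 0 0 0 0 0 0 0 0 0 0 0 0 0 0 0 0 0 0 0 0 0 0 0 0 0 0 0 0 0 0 0 0) (@D3.rec (fun _ => Nat) 0 0 0 0 0 0 0 0 0 0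 0 0 0 0 2143 0 0 0 0 0 0 0 0 0 0 0 0 0 0 0 0 0 0 0 0 0 0 0 0 0 0 0 0 0 0 0 0 0 0 0 0 0 0 0 0 0 0 0 0 0 0 0) z3_g z3_g z3_g z3_g (@D3.rec (fun _ => Nat) 0 0 0 0 0 0 0 0 0 0 0 0 0 0 0 0 0 0 0 0 0 0 0 0 2403 0 0 0 0 0 0 0 0 0 0 0 0 0 0 0 0 0 0 0 0 0 0 0 0 0 0 0 0 0 0 0 0 0 0 0 0 0) z3_g (@D3.rec (fun _ => Nat) 0 0 0 0 0 0 0 0 0 0 0 0 0 0 0 0 0 0 0 0 0 0 0 0 0 0 0 0 0 0 0 0 0 0 0 0 0 0 0 0 0 0 0 0 0 0 0 0 2775 0 0 0 0 0 0 0 0 0 0 0 0 0) (@D3.rec (fun _ => Nat) 0 0 0 0 0 0 0 0 0 0 0 0 0 0 0 0 0 0 0 0 0 0 0 0 0 0 0 0 0 0 0 0 0 0 0 0 0 0 0 0 0 0 0 0 0 0 0 0 0 0 0 0 0 0 0 0 0 0 0 0 2219 0) (@D3.rec (fun _ => Nat) 0 0 0 0 0 0 2062 0 0 0 0 0 0 0 0 0 0 0 0 0 0 0 0 0 0 0 0 0 0 0 0 0 0 0 0 0 0 0 0 0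 0 0 0 0 0 0 0 0 0 0 0 0 0 0 0 0 0 0 0 0 0 0) (@D3.rec (fun _ => Nat) 0 0 0 0 0 0 0 0 0 0 812 0 0 0 0 0 0 0 0 0 0 0 0 0 0 0 0 0 0 0 0 0 0 0 0 0 0 0 0 0 0 0 0 0 0 0 0 0 0 0 0 0 0 0 0 0 0 0 0 0 0 0) (@D3.rec (fun _ => Nat) 0 0 0 0 0 0 0 0 0 0 0 0 0 0 0 809 0 0 811 0 0 0 817 0 0 0 924 0 0 0 0 0 0 2015 0 1966 0 0 0 0 0 0 0 0 0 0 0 0 0 0 0 0 0 0 0 0 0 0 0 0 0 0) z3_g z3_g z3_g z3_g (@D3.rec (fun _ => Nat) 0 0 0 0 0 0 0 0 0 0 0 0 0 0 0 0 0 0 0 0 0 0 0 0 0 0 0 0 0 0 0 0 0 0 0 0 0 0 0 0 0 0 0 2551 0 0 0 0 0 0 0 0 0 0 0 0 0 0 0 0 0 0) z3_g (@D3.rec (fun _ => Nat) 0 2521 0 0 0 0 0 0 0 0 0 0 0 0 0 0 0 0 0 0 0 0 0 0 0 0 0 0 0 0 0 0 0 0 0 0 0 0 0 0 0 0 0 0 0 0 0 0 0 0 0 0 0 0 0 0 2653 0 0 0 0 0) (@D3.rec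 (fun _ => Nat) 0 0 0 0 0 0 0 0 0 0 0 0 0 0 0 0 0 0 0 0 0 0 0 0 0 0 0 0 0 0 0 0 0 0 0 0 0 0 0 0 2524 0 0 0 0 0 0 0 0 0 0 0 0 0 0 0 0 0 0 0 0 0) (@D3.rec (fun _ => Nat) 0 0 0 0 0 0 0 0 0 0 0 0 0 0 0 0 0 0 0 0 0 0 0 0 0 0 0 0 0 0 0 0 0 0 0 0 0 0 0 0 0 0 0 0 0 0 0 0 0 0 0 0 0 0 0 0 0 0 0 852 0 0)
def sd_g_10 : D2 → D3 → Nat := @D2.rec (fun _ => D3 → Nat) z3_g z3_g z3_g (@D3.rec (fun _ => Nat) 878 939 1871 0 870 0 0 0 0 0 0 0 0 0 0 0 0 0 0 0 0 0 0 0 0 0 0 0 0 0 0 0 0 0 0 0 0 0 0 0 0 0 0 0 0 0 0 0 0 0 0 0 0 0 0 0 0 0 0 0 0 1081) (@D3.rec (fun _ => Nat) 990 0 0 0 0 0 0 0 0 0 0 0 0 0 0 0 0 0 0 0 0 0 0 0 0 0 0 0 0 0 0 0 0 0 0 0 0 0 0 0 0 0 0 0 0 0 0 0 0 0 0 0 0 835 0 0 0 0 0 0 0 0) (@D3.rec (fun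 _ => Nat) 0 0 2629 0 0 0 0 0 0 0 0 0 0 0 0 0 0 2180 0 0 0 0 0 0 0 0 0 0 0 0 0 0 0 0 0 0 0 0 0 0 0 0 0 0 0 0 0 0 0 0 2579 0 0 0 0 0 0 0 0 0 0 0) (@D3.rec (fun _ => Nat) 0 0 0 0 0 0 0 0 0 0 0 0 0 0 0 0 0 0 0 0 0 0 0 0 0 0 0 0 0 0 0 0 0 0 0 0 0 0 0 0 0 0 0 0 0 0 0 0 0 0 836 0 0 0 0 0 0 2483 0 0 0 0) (@D3.rec (fun _ => Nat) 2070 0 0 0 0 0 0 0 0 0 0 0 0 0 0 0 2384 0 2634 0 0 0 0 0 0 0 0 0 0 0 0 0 0 0 0 0 0 0 0 0 0 0 0 0 0 0 0 0 0 0 0 0 0 0 0 0 0 0 0 0 0 0) z3_g z3_g (@D3.rec (fun _ => Nat) 0 0 0 0 0 0 0 0 0 0 0 0 0 0 0 0 0 0 0 0 0 0 0 0 0 0 0 0 0 0 0 0 0 0 0 0 0 0 0 0 0 0 0 2266 0 0 0 0 0 0 0 0 0 0 0 0 0 0 0 0 0 0) z3_g (@D3.rec (fun _ => Nat) 0 0 0 0 0 0 0 0 0 0 0 0 0 0 0 0 0 0 0 263 0 0 0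 0 0 0 0 0 0 0 0 0 0 0 0 0 0 0 0 0 0 0 0 0 0 0 0 0 0 0 0 0 0 0 0 0 0 0 0 0 0 0) (@D3.rec (fun _ => Nat) 0 0 0 0 0 0 0 0 0 0 0 0 0 0 0 0 0 0 0 0 0 0 0 0 0 0 0 0 0 2592 0 0 0 0 0 0 0 0 0 0 0 0 0 0 0 0 0 0 0 0 0 0 0 0 0 0 0 0 0 0 0 0) z3_g z3_g z3_g (@D3.rec (fun _ => Nat) 0 0 0 0 0 0 0 0 0 0 0 0 0 0 0 0 0 0 1071 0 0 2570 0 0 0 0 2930 1039 0 0 0 0 0 0 0 0 0 0 0 0 0 0 0 0 0 0 0 0 0 0 0 0 0 0 0 0 0 0 0 0 0 0) (@D3.rec (fun _ => Nat) 0 0 0 0 0 0 0 0 0 0 0 0 0 968 0 0 0 0 0 2834 0 0 0 0 0 0 0 0 0 0 0 0 0 0 0 0 0 0 0 0 0 2773 0 897 0 0 0 0 1007 0 0 2063 0 0 0 0 0 0 0 0 0 0) (@D3.rec (fun _ => Nat) 0 0 0 804 0 0 0 1482 0 0 0 0 0 0 0 0 0 0 0 0 0 0 0 0 0 0 0 0 0 0 0 0 0 0 0 0 0 0 0 0 0 0 0 0 0 0 0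 0 0 0 0 0 0 0 0 0 0 0 0 0 0 0) z3_g (@D3.rec (fun _ => Nat) 0 0 0 0 0 0 0 0 0 0 0 0 0 0 0 0 0 0 0 0 0 0 0 0 0 0 0 0 0 0 0 0 0 0 0 0 0 0 0 0 849 0 0 0 851 0 0 0 0 0 0 0 0 0 0 0 0 0 0 0 0 0) z3_g z3_g z3_g (@D3.rec (fun _ => Nat) 0 0 0 0 0 0 0 0 0 0 0 0 0 0 0 0 0 0 0 0 0 0 0 0 0 0 0 0 0 0 0 0 0 0 0 0 0 0 0 0 0 0 0 0 0 0 0 0 0 0 0 0 0 0 2451 0 0 0 0 0 0 0) z3_g z3_g z3_g z3_g z3_g z3_g z3_g z3_g (@D3.rec (fun _ => Nat) 0 0 0 0 0 0 0 0 0 0 0 0 0 0 0 0 0 0 0 0 0 0 0 0 0 0 0 0 0 0 0 0 0 0 2710 0 0 0 0 0 2490 0 0 0 0 0 0 0 0 0 0 0 0 0 0 0 0 0 0 0 0 0) z3_g z3_g z3_g (@D3.rec (fun _ => Nat) 0 0 0 0 0 0 0 0 0 0 0 0 0 0 0 0 0 0 0 0 0 0 0 0 0 0 0 0 0 0 0 0 0 0 0 0 0 0 2112 0 0 0 0 0 0 0 0 0 0 0 0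 0 0 0 0 0 0 0 0 0 0 0) (@D3.rec (fun _ => Nat) 0 0 0 0 0 0 0 857 0 0 0 0 0 0 0 0 0 0 0 0 0 0 0 0 0 0 0 0 0 0 0 0 0 0 0 0 0 0 0 0 0 0 0 0 0 0 0 0 0 0 0 0 0 0 0 0 0 0 0 0 0 0) z3_g z3_g (@D3.rec (fun _ => Nat) 0 0 0 0 0 0 0 0 0 0 0 0 0 0 0 0 0 0 0 0 0 0 0 0 0 2693 0 0 0 0 0 0 0 0 0 0 0 0 0 0 0 0 0 0 0 0 0 0 0 0 0 0 0 0 0 0 0 0 0 0 0 0) (@D3.rec (fun _ => Nat) 0 0 0 0 0 0 0 0 0 0 0 0 0 0 0 0 0 0 2554 0 0 0 0 0 0 0 0 0 0 0 0 0 0 0 0 0 0 0 0 0 0 0 0 0 0 0 0 0 0 0 0 0 0 0 0 0 0 0 0 0 0 0) (@D3.rec (fun _ => Nat) 0 0 0 0 0 0 0 0 0 0 0 0 0 0 0 0 2555 0 0 0 0 0 0 0 0 0 0 0 0 0 0 0 0 0 0 0 0 0 0 0 0 0 0 0 0 0 2703 0 0 0 0 0 1052 0 0 0 0 0 0 0 0 0) (@D3.rec (fun _ => Nat) 0 0 0 0 0 0 0 0 0 0 0 0 0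 0 0 0 0 0 0 0 0 0 0 0 0 0 0 0 0 0 0 0 0 0 0 0 0 3050 0 0 0 0 0 0 0 0 0 0 0 0 0 0 0 0 0 0 0 0 0 0 0 0) z3_g (@D3.rec (fun _ => Nat) 0 0 0 0 0 0 0 0 0 0 0 0 0 0 0 0 0 0 0 0 0 0 862 0 0 0 0 0 0 0 0 0 0 0 0 0 0 0 0 0 0 0 0 0 0 0 0 0 0 0 0 0 0 0 0 0 0 0 0 0 0 0) (@D3.rec (fun _ => Nat) 0 0 0 0 0 0 0 0 0 0 0 0 0 0 0 0 0 0 0 0 0 0 0 0 0 0 0 0 0 0 0 0 0 0 0 0 0 0 0 0 2067 0 0 0 0 0 0 0 0 0 0 0 0 0 0 0 0 0 0 0 0 0) z3_g z3_g z3_g (@D3.rec (fun _ => Nat) 0 0 0 0 0 0 0 0 0 0 0 0 0 0 0 0 0 0 0 0 0 0 0 0 0 0 0 0 0 0 0 0 0 0 0 0 0 0 0 0 0 0 0 0 0 0 0 0 0 0 0 0 0 2726 0 0 0 0 0 0 0 0) (@D3.rec (fun _ => Nat) 0 0 0 0 0 0 0 0 0 0 0 0 0 2680 0 0 1888 0 0 0 0 0 0 0 0 0 0 0 0 0 0 0 0 0 0 0 0 0 0 0 0 0 0 0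 0 0 0 0 0 0 0 0 0 0 0 0 0 0 0 0 0 0) z3_g (@D3.rec (fun _ => Nat) 0 0 0 0 0 0 0 0 0 0 0 0 0 0 0 0 0 0 0 0 0 0 0 0 0 0 0 0 0 0 0 0 0 0 0 0 0 0 0 0 0 0 0 0 0 0 0 0 0 0 2544 0 0 0 0 0 0 0 0 0 0 0) (@D3.rec (fun _ => Nat) 0 0 0 0 0 0 0 0 0 0 0 0 0 2173 0 0 0 0 0 0 0 0 0 0 0 0 0 0 0 0 0 0 0 0 0 0 0 0 0 0 0 0 0 0 0 0 0 0 0 0 0 0 0 0 0 0 0 0 0 0 0 0) (@D3.rec (fun _ => Nat) 0 0 0 0 882 0 0 0 0 0 0 0 0 2176 0 0 0 0 0 0 0 0 0 0 0 0 0 0 0 0 0 0 0 0 0 0 0 0 0 0 0 0 0 0 0 0 630 0 0 0 0 0 0 0 0 0 0 0 0 0 0 0) (@D3.rec (fun _ => Nat) 0 0 0 0 0 0 0 0 0 0 0 0 0 0 0 0 0 0 0 0 0 0 0 0 0 0 0 0 0 0 0 0 0 0 0 0 0 0 0 0 0 0 0 0 0 0 887 0 0 0 0 0 0 0 0 0 0 0 0 0 0 0) z3_g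
def sd_g_11 : D2 → D3 → Nat := @D2.rec (fun _ => D3 → Nat) z3_g z3_g (@D3.rec (fun _ => Nat) 770 0 0 0 0 0 0 0 0 0 0 0 0 0 0 0 0 0 0 0 0 0 0 0 0 0 0 0 0 0 0 0 0 0 0 0 0 0 0 0 0 0 0 0 0 0 0 0 0 0 0 0 0 0 0 0 0 0 0 0 0 0) z3_g z3_g z3_g (@D3.rec (fun _ => Nat) 0 0 0 0 0 0 0 0 0 0 0 0 0 0 0 0 0 0 0 0 0 0 0 0 0 0 0 0 0 0 0 0 0 1472 0 0 0 0 0 0 0 0 0 0 0 0 0 0 0 0 0 0 0 0 0 0 0 0 0 0 0 0) (@D3.rec (fun _ => Nat) 1128 0 0 0 0 0 0 0 0 0 0 0 0 0 0 0 0 0 0 0 0 0 0 0 0 0 898 0 0 0 0 0 0 0 0 0 0 0 0 0 0 0 0 0 0 0 0 0 0 0 0 0 0 0 0 0 0 2419 2863 0 0 0) (@D3.rec (fun _ => Nat) 0 0 0 0 0 0 0 0 0 0 0 0 0 0 0 0 0 2918 0 2181 0 0 0 0 0 0 0 0 0 0 0 0 0 0 0 0 0 0 0 0 0 0 0 0 0 0 0 0 0 0 0 0 0 0 0 0 0 0 0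 0 0 0) z3_g (@D3.rec (fun _ => Nat) 0 0 0 0 0 0 0 0 0 0 0 0 0 0 0 0 0 0 0 0 0 0 0 0 0 0 0 0 0 0 0 0 0 0 0 0 873 0 0 0 0 0 0 0 0 0 0 0 0 0 0 0 0 0 0 0 0 0 0 0 0 0) (@D3.rec (fun _ => Nat) 0 0 0 0 0 0 0 0 0 0 0 0 0 0 0 0 0 0 0 0 0 0 0 0 0 0 0 0 0 0 0 0 0 0 0 0 0 0 0 0 0 0 0 0 0 0 0 0 0 0 0 2865 0 0 0 0 0 0 0 0 909 0) (@D3.rec (fun _ => Nat) 0 0 0 0 0 0 0 0 2183 0 0 0 0 0 0 0 0 0 0 0 0 2408 0 0 0 0 0 0 0 0 0 0 0 0 0 0 0 0 0 0 2830 0 0 0 2190 0 2777 0 0 0 0 0 0 0 0 0 0 0 0 0 0 0) z3_g (@D3.rec (fun _ => Nat) 884 0 0 0 0 0 0 0 0 0 0 0 0 0 0 0 0 0 0 0 0 0 0 0 0 0 0 0 0 0 0 0 0 0 0 0 0 0 0 0 0 0 0 0 0 0 0 0 0 0 0 0 0 0 0 0 0 0 0 0 0 0) z3_g (@D3.rec (fun _ => Nat) 0 0 0 0 0 0 0 0 0 0 0 0 0 0 0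 0 0 0 0 0 0 0 0 0 0 0 0 0 915 0 0 978 0 0 0 0 0 0 0 0 0 0 0 0 916 0 0 0 0 0 2083 0 0 0 0 0 0 0 0 0 0 0) (@D3.rec (fun _ => Nat) 0 0 0 0 0 0 0 0 0 0 0 0 0 0 0 0 0 0 0 0 0 0 0 0 0 0 0 0 0 0 0 0 0 0 0 0 0 0 0 0 0 0 0 0 0 0 0 0 0 973 0 0 0 0 0 0 0 0 0 0 0 0) (@D3.rec (fun _ => Nat) 0 0 0 0 0 0 0 0 0 0 0 0 0 0 0 0 0 0 0 0 0 0 0 0 0 0 0 0 0 0 0 0 0 0 0 0 0 0 0 0 0 0 0 0 2866 0 2816 0 0 0 0 0 0 0 0 0 0 0 2016 1063 1021 0) z3_g (@D3.rec (fun _ => Nat) 0 0 0 0 0 0 0 0 0 0 0 0 0 0 0 0 0 0 0 0 0 2765 0 2857 0 0 2821 0 0 0 0 0 0 0 0 0 0 0 0 0 0 0 0 0 0 0 0 0 0 0 0 0 0 0 0 0 0 0 0 0 0 2822) (@D3.rec (fun _ => Nat) 2208 0 0 0 0 0 0 0 0 0 0 0 0 0 0 0 0 0 0 0 0 0 0 0 0 0 0 0 0 0 0 0 0 0 0 0 0 0 0 0 0 0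 0 0 0 0 0 0 0 0 0 0 0 0 0 0 0 0 0 0 0 0) (@D3.rec (fun _ => Nat) 0 0 0 0 0 0 0 0 0 0 0 0 0 0 0 0 0 0 0 0 0 0 0 0 0 0 0 0 0 0 0 0 0 2186 0 0 0 0 0 0 0 0 0 0 0 2056 0 0 0 0 0 0 0 0 0 0 0 0 0 0 0 0) (@D3.rec (fun _ => Nat) 0 0 0 0 0 0 0 0 0 0 0 0 0 0 0 0 0 0 0 0 0 0 0 0 0 0 0 0 0 0 0 0 0 0 0 0 0 0 0 0 0 0 0 0 0 0 0 0 0 0 0 0 0 0 0 0 0 0 2764 0 0 0) (@D3.rec (fun _ => Nat) 0 0 0 0 0 0 0 0 0 0 0 0 0 0 0 0 0 0 0 0 0 0 0 0 0 0 0 0 0 0 0 0 0 0 0 2832 0 0 0 0 1576 0 0 0 0 0 0 0 0 0 0 0 0 0 0 0 0 0 0 0 0 0) (@D3.rec (fun _ => Nat) 0 0 0 0 0 0 0 0 0 0 0 0 0 0 0 0 0 0 0 0 0 0 0 951 0 0 0 0 0 0 0 0 0 0 0 0 0 0 0 0 0 0 0 0 0 0 0 0 0 0 0 0 0 0 0 0 0 0 0 0 0 0) (@D3.rec (fun _ => Nat) 0 0 0 0 0 0 0 0 0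 0 0 0 0 2886 0 0 0 0 0 0 0 0 0 0 1014 946 0 0 0 0 0 0 0 0 0 0 0 0 0 0 0 0 0 0 0 0 0 0 0 0 0 0 0 0 0 0 0 0 0 0 0 0) (@D3.rec (fun _ => Nat) 0 0 0 0 0 0 0 0 0 0 0 0 0 0 0 0 0 0 0 0 0 0 0 0 0 0 0 0 0 0 0 0 0 0 0 0 2778 0 0 0 0 0 0 0 0 0 0 0 0 0 0 0 0 0 0 0 0 0 0 0 644 0) (@D3.rec (fun _ => Nat) 0 0 0 0 0 0 0 0 0 0 0 0 0 2212 0 0 0 0 0 0 0 0 0 0 0 0 0 0 0 0 0 0 0 0 0 0 0 0 0 0 0 0 0 0 0 0 0 0 0 0 0 0 0 0 0 0 0 0 0 0 0 979) (@D3.rec (fun _ => Nat) 0 0 0 0 0 0 0 0 0 0 0 0 0 0 0 0 0 0 0 0 0 0 0 0 0 0 0 0 0 0 0 0 0 0 0 0 0 0 0 0 0 0 0 0 0 0 0 0 0 0 0 1075 0 0 0 0 0 0 0 0 0 0) (@D3.rec (fun _ => Nat) 0 0 0 0 0 0 0 0 0 0 0 0 0 0 0 0 0 0 961 0 0 0 0 0 0 0 0 0 0 0 0 0 0 0 0 0 0 0 2285 0 0 0 967 0 0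 0 0 0 0 2416 0 0 0 0 0 0 0 0 0 0 0 0) (@D3.rec (fun _ => Nat) 0 0 0 1481 0 0 0 0 0 0 1144 0 0 0 0 0 0 0 0 0 0 0 0 0 0 0 0 0 0 0 0 0 0 0 0 0 0 0 0 241 0 0 0 0 0 0 0 0 0 2874 0 0 0 0 0 0 0 0 664 0 0 0) z3_g (@D3.rec (fun _ => Nat) 0 0 0 0 0 0 0 0 0 0 0 0 0 0 0 0 0 0 0 0 0 0 0 0 0 0 0 0 0 0 0 0 0 0 0 0 0 0 0 0 0 0 0 0 2283 0 0 0 0 0 989 0 0 0 0 0 0 0 0 0 0 0) (@D3.rec (fun _ => Nat) 0 0 0 0 0 0 0 0 0 0 0 0 0 0 0 0 0 0 0 0 0 0 0 0 0 0 0 2933 0 0 0 0 0 0 0 0 0 0 0 0 0 0 0 0 0 0 0 0 0 0 0 0 0 0 0 0 0 0 0 0 0 0) (@D3.rec (fun _ => Nat) 0 0 0 0 0 0 0 0 0 0 0 0 0 0 0 0 0 0 0 0 0 0 0 0 0 0 0 0 0 0 0 0 0 0 0 0 2783 0 0 0 0 0 0 0 0 0 0 0 0 0 0 0 0 0 0 0 0 603 0 0 0 0) (@D3.rec (fun _ => Nat) 0 0 0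 0 0 0 0 2456 0 0 0 0 0 0 1088 0 0 0 0 0 0 0 0 0 0 0 0 0 0 0 0 0 0 0 0 0 0 0 0 0 0 0 0 0 0 0 0 0 0 0 0 0 0 0 0 0 0 0 0 0 0 0) z3_g (@D3.rec (fun _ => Nat) 0 0 0 0 0 0 0 0 0 0 0 0 0 0 0 0 0 0 0 977 0 0 0 0 0 0 0 0 0 0 0 0 0 0 0 0 0 0 0 0 0 0 0 0 0 0 0 0 0 0 0 0 0 0 0 0 0 0 0 0 0 0) (@D3.rec (fun _ => Nat) 0 0 0 0 0 0 0 2954 0 0 0 0 0 0 0 0 0 0 0 0 0 0 0 0 0 0 0 0 0 0 0 0 0 0 0 0 0 0 0 0 0 0 0 0 0 0 0 0 0 0 0 0 0 0 0 0 0 0 0 0 0 0) (@D3.rec (fun _ => Nat) 0 0 0 0 0 0 0 0 0 0 0 0 0 0 0 0 0 0 0 0 0 0 1006 0 0 0 0 0 0 0 0 0 0 0 0 0 0 0 0 0 0 0 0 0 0 0 0 0 0 0 0 0 0 0 0 0 0 0 0 0 0 0) (@D3.rec (fun _ => Nat) 0 0 0 0 0 0 0 0 0 0 0 0 0 0 0 0 0 0 0 0 0 0 0 0 0 0 0 0 0 0 0 0 0 0 0 0 0 0 0 0 0 0 0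 0 0 0 0 0 0 0 0 0 0 0 0 0 1960 0 0 0 0 0) (@D3.rec (fun _ => Nat) 956 0 0 0 0 0 0 0 0 0 0 0 0 0 0 0 0 0 0 0 0 0 0 0 0 0 0 0 0 0 0 0 0 0 0 0 0 0 0 0 0 0 0 0 0 0 0 0 0 0 0 0 0 0 0 0 0 0 0 0 0 0) z3_g (@D3.rec (fun _ => Nat) 0 0 0 0 0 0 0 0 0 0 0 0 0 0 0 0 0 0 0 0 0 0 0 0 0 0 0 0 0 0 0 0 0 0 0 0 0 0 0 0 0 0 0 0 0 0 0 0 0 0 0 0 0 0 0 0 0 0 2363 0 0 0) z3_g (@D3.rec (fun _ => Nat) 0 0 0 0 0 0 0 0 0 0 0 0 0 1017 0 0 0 0 0 0 0 0 0 0 0 0 0 0 0 0 0 0 0 0 0 0 0 0 0 0 0 0 0 0 0 0 0 0 0 0 0 0 0 0 0 0 0 0 0 0 0 0) (@D3.rec (fun _ => Nat) 0 0 0 0 0 992 926 0 0 0 0 0 0 0 0 0 0 2277 0 0 0 0 0 0 0 0 0 0 0 0 0 0 0 0 0 0 0 0 0 0 0 0 0 0 0 0 0 0 0 0 0 0 0 0 0 0 0 0 0 0 0 0) (@D3.rec (fun _ => Nat) 0 0 0 0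 0 0 0 0 0 0 0 0 0 0 0 0 0 0 0 1028 0 1030 0 0 0 0 0 1037 0 0 0 0 0 0 0 0 0 0 0 0 0 0 0 0 0 0 0 0 0 0 0 0 0 0 0 0 0 0 0 0 0 0) (@D3.rec (fun _ => Nat) 0 0 0 0 0 0 0 0 0 0 0 0 0 0 0 0 0 0 0 0 0 767 0 0 0 0 0 0 0 0 0 0 0 0 0 0 0 0 0 0 0 0 0 0 0 2991 0 0 0 0 0 0 2256 0 0 0 0 0 0 0 0 0) z3_g (@D3.rec (fun _ => Nat) 0 0 0 0 0 2528 0 0 0 0 0 0 0 0 0 0 665 0 0 0 0 0 0 0 0 0 0 0 0 0 0 0 0 2999 0 0 0 0 0 0 0 0 0 0 0 0 0 0 0 0 0 0 3003 0 0 0 0 0 0 0 0 0) z3_g z3_g (@D3.rec (fun _ => Nat) 0 0 0 0 0 0 0 0 0 0 0 0 0 0 0 0 0 0 0 0 0 0 0 0 0 0 0 0 0 0 0 0 0 0 0 0 0 0 0 0 0 0 0 0 0 0 0 0 0 0 0 858 0 0 0 0 0 0 0 0 0 0) (@D3.rec (fun _ => Nat) 0 0 0 0 0 0 0 0 0 0 0 0 0 0 0 0 0 0 0 0 0 0 0 0 0 0 0 0 0 0 0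 0 0 0 0 0 0 0 0 0 0 0 0 0 0 0 0 0 0 0 0 0 0 0 0 0 0 0 0 0 2054 0) (@D3.rec (fun _ => Nat) 0 0 0 0 0 0 0 0 0 0 0 0 0 0 0 0 0 0 0 0 0 0 0 0 0 0 1055 0 0 0 0 0 0 0 0 0 0 0 0 0 0 0 0 0 0 0 0 0 0 0 0 0 0 0 0 0 0 0 0 0 0 0) (@D3.rec (fun _ => Nat) 0 0 0 0 0 0 0 0 0 0 0 0 0 0 0 1058 3019 0 0 0 0 0 0 0 0 0 0 0 0 0 0 0 0 965 0 0 0 0 0 0 0 0 2576 0 0 0 0 0 0 0 0 0 0 2479 0 0 0 0 0 0 3041 0) z3_g z3_g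
def sd_g_12 : D2 → D3 → Nat := @D2.rec (fun _ => D3 → Nat) (@D3.rec (fun _ => Nat) 0 0 0 0 0 0 0 0 0 0 0 0 0 0 0 0 0 0 0 0 0 0 0 0 0 0 0 0 0 0 0 0 0 0 3058 0 0 0 0 0 0 0 0 0 0 0 0 0 0 0 0 0 0 0 0 0 0 0 0 0 0 0) (@D3.rec (fun _ => Nat) 0 0 0 0 0 0 0 0 0 0 0 0 0 0 0 0 0 0 0 0 0 0 0 0 1178 0 0 0 0 0 0 0 0 0 0 0 0 0 0 0 0 0 0 0 0 0 0 0 0 0 0 0 0 0 0 0 0 0 0 0 0 0) (@D3.rec (fun _ => Nat) 0 0 0 0 0 0 0 1103 0 0 0 0 0 0 0 0 0 0 0 0 0 0 0 0 0 0 783 0 0 0 3066 0 0 0 0 0 0 0 0 0 0 0 0 0 0 0 0 0 0 0 0 0 0 0 0 0 0 0 0 0 0 0) z3_g (@D3.rec (fun _ => Nat) 0 0 0 0 0 0 0 0 0 0 0 0 0 0 0 0 0 0 0 0 0 0 1222 0 0 0 0 0 0 0 0 669 0 0 0 0 0 0 0 0 0 0 0 0 0 0 0 0 0 0 0 0 0 0 0 0 0 0 0 0 0 0) (@D3.rec (fun _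 => Nat) 0 0 0 0 0 0 0 0 0 0 0 0 0 0 0 0 0 0 0 0 0 0 0 0 0 0 0 0 0 0 0 0 0 0 0 0 0 2235 0 0 0 0 0 0 0 0 0 0 0 0 0 0 0 0 0 0 0 0 0 0 0 0) (@D3.rec (fun _ => Nat) 0 0 0 0 0 0 0 0 0 0 0 0 0 0 0 0 0 0 0 0 0 0 0 0 0 0 0 0 2147 0 0 0 0 0 0 0 0 0 0 0 0 0 0 0 0 0 0 0 0 3093 0 0 0 0 0 0 0 0 0 0 0 0) z3_g (@D3.rec (fun _ => Nat) 0 0 0 0 0 0 0 0 0 0 0 0 0 0 0 0 0 0 0 0 0 0 0 0 0 0 0 0 0 0 0 0 0 0 0 0 0 0 0 0 0 0 0 0 0 0 0 0 0 0 0 0 0 0 0 0 0 0 2870 0 0 0) (@D3.rec (fun _ => Nat) 0 0 0 0 0 0 0 0 0 0 0 0 0 0 0 0 0 0 0 0 0 0 0 0 0 0 0 0 0 0 0 0 0 0 2151 0 0 0 0 0 0 0 0 0 0 0 0 0 0 0 0 0 844 2785 0 0 0 0 0 0 0 0) z3_g (@D3.rec (fun _ => Nat) 0 0 0 0 0 0 0 0 0 0 0 0 0 0 0 0 0 1372 0 0 0 0 0 0 0 0 0 0 0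 0 0 0 0 0 0 0 2323 0 0 0 0 0 0 0 0 0 0 0 0 0 0 1389 0 0 0 0 0 0 0 0 0 0) (@D3.rec (fun _ => Nat) 1673 0 0 0 1171 0 0 0 0 0 0 0 0 0 0 0 0 0 0 0 0 0 0 0 0 0 0 0 0 1270 0 0 0 0 0 0 0 0 0 0 0 0 0 0 0 0 0 0 0 0 0 0 0 0 0 0 0 0 0 0 0 0) (@D3.rec (fun _ => Nat) 740 0 0 0 0 0 0 0 0 0 0 0 0 0 0 0 0 0 0 0 0 0 0 0 0 0 0 0 0 0 0 0 2276 0 0 0 0 0 0 0 0 0 0 0 0 0 0 0 0 0 0 0 0 0 0 0 0 0 0 0 0 0) (@D3.rec (fun _ => Nat) 0 0 0 1903 0 0 0 0 0 0 0 0 0 0 0 0 0 0 0 0 0 0 0 0 0 0 0 0 1161 0 0 0 0 0 0 0 0 0 0 0 0 0 0 0 0 0 0 0 0 0 0 0 0 0 0 0 0 0 0 0 0 0) (@D3.rec (fun _ => Nat) 0 0 0 0 0 0 0 0 0 0 0 0 0 0 0 0 0 0 0 0 0 0 0 0 0 0 0 0 0 0 0 0 0 0 0 0 0 0 0 0 0 0 725 0 1163 0 0 0 0 0 0 0 0 0 0 2295 0 0 0 0 0 0)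 (@D3.rec (fun _ => Nat) 0 0 0 1180 0 0 0 0 0 0 0 1182 0 0 0 0 0 0 0 0 0 0 0 0 0 0 0 0 0 0 0 0 0 0 0 0 0 0 0 0 0 0 0 0 0 0 0 0 0 0 0 0 0 0 0 0 0 0 0 0 0 0) (@D3.rec (fun _ => Nat) 0 0 0 0 0 805 0 0 0 0 0 0 0 0 0 0 0 0 0 0 0 0 0 0 0 0 0 0 0 0 0 0 0 0 0 0 0 0 0 0 0 0 0 0 0 0 0 0 0 0 0 0 0 0 0 0 0 0 0 0 0 0) (@D3.rec (fun _ => Nat) 0 0 0 0 0 0 0 0 0 0 0 0 0 0 0 0 0 0 0 0 0 0 0 0 0 0 0 0 0 0 0 0 0 0 0 0 0 0 1283 0 0 0 0 0 0 0 0 0 0 0 0 0 0 0 0 0 0 0 0 0 0 0) (@D3.rec (fun _ => Nat) 0 0 0 0 0 0 0 0 0 0 0 0 0 0 0 0 0 0 0 0 0 0 0 0 0 0 0 0 0 0 0 0 0 0 0 0 0 0 0 0 0 0 0 0 0 1442 0 0 0 0 0 0 0 0 0 0 0 0 0 0 0 0) (@D3.rec (fun _ => Nat) 0 0 0 0 0 0 0 0 0 0 0 0 0 0 0 0 0 0 0 0 0 0 0 0 0 0 0 0 0 0 0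 0 0 0 0 0 0 0 0 0 0 0 0 0 0 0 0 0 0 0 0 0 0 1200 0 0 0 0 0 0 0 0) z3_g z3_g (@D3.rec (fun _ => Nat) 0 1886 0 0 0 0 0 0 0 0 0 0 0 0 0 0 0 0 0 0 0 0 0 0 0 0 0 0 0 0 0 0 0 0 0 0 0 0 0 0 0 0 0 0 640 0 0 130 0 0 0 0 0 0 0 0 0 0 0 0 0 0) z3_g (@D3.rec (fun _ => Nat) 0 0 0 0 0 0 0 0 0 0 0 0 0 0 0 0 0 0 0 0 0 0 0 0 0 0 0 0 0 0 0 0 0 0 0 0 0 0 0 0 2895 0 0 0 0 0 0 0 0 0 0 677 0 0 0 0 0 0 0 0 0 0) (@D3.rec (fun _ => Nat) 1459 0 0 0 0 0 0 0 0 0 0 0 0 0 0 0 0 0 0 0 0 0 0 0 0 0 0 0 0 60 0 0 0 0 0 0 0 0 0 0 0 0 0 0 0 0 0 0 0 0 0 0 1181 2390 0 0 0 0 0 0 0 0) (@D3.rec (fun _ => Nat) 0 0 0 0 0 0 0 0 1346 0 0 0 0 0 0 0 0 0 3056 0 0 0 0 0 0 0 0 0 0 0 0 0 0 0 0 0 954 0 0 0 0 0 0 0 0 0 0 0 0 0 2000 0 0 0 0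 0 0 0 0 0 0 0) (@D3.rec (fun _ => Nat) 0 0 0 0 0 0 0 0 0 0 0 768 0 0 0 0 0 0 0 0 0 0 0 0 0 0 0 0 0 0 0 0 0 0 0 0 735 0 0 0 0 0 0 0 0 0 0 0 0 0 0 0 0 0 0 0 0 0 0 0 0 0) (@D3.rec (fun _ => Nat) 0 0 0 0 0 0 0 0 0 0 0 0 0 0 0 0 0 0 0 0 0 0 0 0 0 0 0 0 0 0 0 0 0 0 0 0 0 0 0 0 0 0 0 0 1877 0 0 825 0 0 0 0 0 0 0 0 0 0 0 0 0 0) (@D3.rec (fun _ => Nat) 0 0 0 0 0 0 0 0 0 0 0 0 0 0 0 0 0 0 150 0 0 0 0 0 0 0 0 0 0 0 0 0 0 0 0 0 0 0 0 0 0 0 0 0 0 0 0 0 0 0 0 0 0 0 0 0 0 0 0 0 0 0) (@D3.rec (fun _ => Nat) 0 0 0 0 0 0 0 0 0 0 0 0 0 0 1477 704 0 0 0 0 0 0 0 0 0 0 0 0 0 0 0 3063 0 0 0 0 0 0 0 0 0 0 0 0 0 0 0 0 0 0 0 0 0 0 0 0 0 0 0 0 0 0) (@D3.rec (fun _ => Nat) 0 0 0 0 0 0 0 0 0 0 0 0 0 0 0 0 0 0 0 0 0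 1301 0 0 0 0 0 0 0 0 0 0 0 1374 0 0 0 0 0 0 0 0 0 0 0 0 0 0 0 0 0 1468 0 0 0 0 0 0 0 0 0 0) (@D3.rec (fun _ => Nat) 0 0 0 0 0 0 0 0 0 0 1229 0 0 0 0 0 0 0 0 0 0 0 0 0 0 0 0 0 0 0 0 0 0 0 0 0 0 0 0 0 0 0 0 0 0 0 0 0 0 0 0 0 0 0 0 0 0 0 0 0 0 0) z3_g (@D3.rec (fun _ => Nat) 0 0 0 0 0 0 0 0 0 0 0 0 0 0 0 0 0 0 0 0 0 0 0 0 0 0 0 0 0 0 0 0 0 0 0 0 0 0 0 0 0 0 0 0 0 0 0 0 0 0 1257 0 0 0 0 0 0 0 0 0 0 0) (@D3.rec (fun _ => Nat) 0 0 0 0 0 0 0 0 0 0 0 0 0 0 0 0 0 0 0 0 0 0 0 0 0 0 0 0 0 0 0 0 0 0 0 0 0 0 0 0 0 0 1122 0 0 0 0 0 0 0 1403 0 0 0 0 0 0 0 0 0 0 0) z3_g (@D3.rec (fun _ => Nat) 0 0 0 0 0 0 0 0 0 0 0 0 0 0 0 0 1110 0 349 0 0 1118 0 0 352 0 0 0 0 0 0 0 0 0 0 0 0 0 0 0 0 0 2002 0 0 0 0 0 0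 0 0 0 0 0 0 0 0 0 0 0 0 0) (@D3.rec (fun _ => Nat) 0 0 0 1378 0 0 0 0 0 0 1437 0 0 0 0 0 0 0 0 0 0 0 0 0 0 0 0 0 0 0 0 0 0 0 0 0 0 0 0 0 0 0 0 0 0 0 0 0 0 0 0 0 0 0 0 0 0 0 1253 0 2001 0) (@D3.rec (fun _ => Nat) 0 0 0 0 0 0 0 0 0 0 0 0 0 0 0 0 0 0 0 1410 0 0 0 0 0 0 0 0 0 0 0 0 0 0 0 0 0 0 0 0 0 0 0 0 0 0 0 0 0 0 0 0 0 0 0 0 0 0 0 0 0 0) (@D3.rec (fun _ => Nat) 0 0 0 0 0 0 0 0 0 0 0 2251 0 0 0 0 0 0 0 0 0 0 0 0 0 0 0 0 0 0 0 0 1544 0 0 1240 0 0 0 1244 0 0 0 0 0 0 0 0 0 0 0 0 0 0 0 0 0 0 0 0 0 0) z3_g (@D3.rec (fun _ => Nat) 0 0 0 0 0 0 0 0 0 0 0 0 0 0 0 0 0 0 0 0 0 0 0 0 0 0 0 0 0 0 0 0 0 0 0 0 0 0 0 0 0 0 0 0 0 0 0 0 0 0 0 0 0 0 0 0 0 1398 0 0 0 0) (@D3.rec (fun _ => Nat) 0 0 0 0 0 2945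 0 0 0 1425 0 0 0 0 0 0 0 0 0 0 0 0 0 0 0 0 0 0 0 0 0 1429 0 0 0 0 0 0 0 0 2915 0 0 0 0 0 0 0 0 0 0 0 0 2916 0 0 0 0 0 0 0 0) (@D3.rec (fun _ => Nat) 0 0 0 0 0 0 0 0 0 0 0 0 0 0 0 0 0 0 0 0 0 0 0 0 0 0 0 0 0 0 0 0 0 0 1435 0 0 0 0 0 0 0 0 0 0 0 0 0 0 0 0 0 0 0 0 0 0 0 0 0 0 0) (@D3.rec (fun _ => Nat) 0 0 0 0 0 0 0 0 0 0 0 0 577 1406 1405 0 0 0 0 0 0 0 0 0 0 0 0 0 0 0 0 0 0 0 0 0 0 0 0 0 0 0 0 0 0 0 0 0 0 0 1438 0 0 0 0 0 0 0 0 0 0 0) z3_g (@D3.rec (fun _ => Nat) 0 0 0 0 0 0 0 0 0 0 0 0 0 0 0 0 0 0 0 0 0 0 0 0 0 0 0 0 0 0 0 0 0 0 0 0 1492 0 0 0 0 0 0 0 0 0 0 0 0 0 0 0 0 0 0 0 0 0 0 0 0 0) (@D3.rec (fun _ => Nat) 0 0 0 0 0 0 0 0 0 0 0 0 0 0 0 0 0 0 0 0 0 0 535 0 0 0 0 0 0 0 0 0 0 0 0 0 0 0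 0 0 0 0 0 0 0 0 0 0 0 0 0 0 0 0 0 0 0 0 0 0 0 0) z3_g (@D3.rec (fun _ => Nat) 0 0 0 0 0 0 0 0 0 0 0 0 0 0 0 0 0 0 0 0 0 0 1446 0 0 0 0 1452 0 0 0 0 0 0 0 0 0 0 0 0 0 0 0 0 0 0 0 0 0 0 0 0 0 0 0 0 0 0 0 0 0 0) (@D3.rec (fun _ => Nat) 0 0 0 0 0 0 0 0 0 0 0 0 1455 0 0 0 0 0 0 0 1891 0 0 0 0 0 0 0 0 0 0 0 0 0 0 0 0 0 0 0 0 0 0 0 0 0 0 0 0 0 0 0 0 0 0 0 0 0 0 0 0 0) (@D3.rec (fun _ => Nat) 0 0 0 0 0 0 0 0 0 0 0 0 0 1503 0 0 988 0 0 0 0 0 0 0 0 0 0 0 0 2599 0 0 0 0 0 0 0 0 0 0 0 0 0 0 0 0 0 0 0 0 0 0 0 0 0 0 0 0 0 0 0 0) (@D3.rec (fun _ => Nat) 0 0 0 923 0 0 0 0 0 0 0 0 0 0 0 0 0 0 0 996 0 0 0 0 0 0 0 0 0 0 0 0 0 0 2958 0 0 0 0 0 0 0 0 0 0 0 0 0 0 0 2255 0 0 0 0 0 0 0 0 0 0 0) (@D3.rec (fun _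 => Nat) 0 0 0 0 0 0 0 0 0 0 0 0 0 0 0 0 0 0 0 0 0 0 0 0 2906 0 1988 0 0 2754 0 0 0 0 0 0 0 0 0 0 0 0 0 0 0 0 0 0 0 0 0 0 0 0 0 0 0 0 0 0 0 2374) (@D3.rec (fun _ => Nat) 0 0 0 0 0 0 0 0 0 0 0 0 0 0 0 0 0 0 0 0 0 0 0 0 0 0 0 0 0 0 1221 0 0 0 0 0 0 0 0 0 0 0 2386 984 0 0 0 0 0 0 0 0 0 0 0 0 0 0 0 0 0 0) (@D3.rec (fun _ => Nat) 0 0 0 0 0 0 0 0 0 0 0 0 0 0 0 0 0 0 0 0 0 0 0 0 0 0 0 0 0 747 0 0 0 0 0 0 0 0 0 0 0 0 0 0 0 0 0 0 0 0 0 0 0 0 0 0 0 0 0 0 0 2385) z3_g z3_g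
def sd_g_13 : D2 → D3 → Nat := @D2.rec (fun _ => D3 → Nat) z3_g (@D3.rec (fun _ => Nat) 0 0 0 0 0 0 0 0 1380 0 0 0 0 0 0 0 0 0 1456 0 0 0 0 0 0 0 0 0 0 0 0 0 0 0 0 0 0 0 0 0 0 0 0 0 0 0 0 0 0 0 0 0 0 0 0 0 0 0 0 0 0 0) (@D3.rec (fun _ => Nat) 0 0 2437 0 0 0 0 0 0 0 0 0 0 0 0 0 0 0 0 0 0 0 0 0 0 0 0 0 0 0 0 784 0 0 0 0 0 0 0 0 0 0 0 0 0 0 0 0 0 0 0 0 0 0 0 0 0 0 0 0 0 0) z3_g z3_g (@D3.rec (fun _ => Nat) 0 0 0 0 0 0 0 0 0 0 0 0 1517 0 0 0 0 0 0 0 0 0 0 0 0 0 0 0 0 0 0 0 0 0 0 0 0 0 0 0 0 0 0 0 0 1662 0 0 0 0 0 0 0 0 0 0 0 0 0 0 0 0) (@D3.rec (fun _ => Nat) 0 0 0 0 0 0 0 0 0 0 0 0 0 0 0 0 0 0 0 0 0 0 0 0 0 0 0 0 0 0 0 0 567 0 0 0 0 0 0 0 0 510 0 0 0 0 0 0 0 1516 0 2436 0 0 0 0 0 0 0 0 0 0)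 (@D3.rec (fun _ => Nat) 0 0 0 0 0 0 1844 0 0 0 1693 0 0 0 0 0 1535 0 0 0 0 0 0 0 0 0 0 0 0 0 0 0 0 0 0 0 0 0 0 0 0 0 0 0 0 0 0 0 0 0 0 0 0 0 0 0 0 0 0 0 0 0) z3_g (@D3.rec (fun _ => Nat) 0 0 0 1732 0 0 0 0 0 0 0 0 0 0 0 0 0 0 0 0 0 0 0 0 0 0 0 0 0 0 0 0 0 0 0 0 0 0 0 0 0 0 0 0 0 0 0 0 0 0 0 0 0 0 0 0 0 0 0 0 0 0) (@D3.rec (fun _ => Nat) 0 0 0 0 0 0 0 0 0 976 0 0 0 0 0 0 0 0 0 0 0 1519 0 0 0 0 0 0 0 0 0 0 0 0 0 0 0 0 0 0 0 0 0 0 0 0 0 0 0 0 0 0 0 0 0 1530 0 0 0 0 0 0) z3_g z3_g (@D3.rec (fun _ => Nat) 0 0 0 0 0 0 0 0 0 0 0 0 0 0 0 0 0 0 0 0 0 0 0 0 0 0 0 0 0 0 0 1390 0 0 0 0 0 0 0 0 0 0 0 0 0 0 0 2006 0 0 0 0 0 0 0 0 0 0 0 0 0 0) z3_g (@D3.rec (fun _ => Nat) 0 0 0 0 0 0 0 0 0 0 0 0 0 0 0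 0 0 0 0 0 0 0 0 0 0 0 0 0 0 0 0 0 0 0 0 0 0 1820 0 0 0 0 0 0 0 0 0 0 0 0 0 0 0 0 0 0 0 0 0 0 0 0) (@D3.rec (fun _ => Nat) 0 0 0 0 0 0 0 0 0 0 0 0 0 0 0 0 0 0 0 0 0 0 0 0 0 1938 0 0 0 0 1695 0 0 0 0 0 0 0 0 0 0 0 0 0 0 0 0 0 0 0 0 0 0 0 0 0 0 0 0 0 0 0) z3_g z3_g (@D3.rec (fun _ => Nat) 0 0 0 0 0 0 0 0 0 0 0 0 0 0 0 0 0 0 0 0 0 0 0 0 0 1515 0 1779 0 0 0 0 0 0 0 0 0 0 0 0 0 0 0 0 0 0 0 0 0 0 0 0 0 0 0 0 0 0 0 0 0 0) z3_g (@D3.rec (fun _ => Nat) 0 0 0 0 0 0 0 0 0 0 0 0 0 0 0 0 0 0 0 0 0 0 0 0 0 0 0 0 0 0 0 0 333 0 0 0 0 0 0 0 0 0 0 0 0 0 0 0 0 0 0 0 0 0 0 0 0 0 0 0 0 0) z3_g (@D3.rec (fun _ => Nat) 0 0 0 0 0 0 0 0 1754 0 0 0 0 0 0 0 0 0 0 0 0 0 0 0 0 0 0 0 0 0 0 0 0 0 0 0 222 0 0 0 0 0 0 0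 0 0 0 0 0 0 0 0 0 0 0 0 1414 0 0 0 0 0) (@D3.rec (fun _ => Nat) 0 0 0 0 0 0 0 0 0 0 0 0 0 0 0 0 0 1568 0 0 0 0 0 0 0 0 0 0 0 0 0 0 0 0 0 0 0 0 0 0 0 1848 0 0 0 0 0 0 0 0 0 0 0 0 0 0 0 0 0 0 0 0) z3_g z3_g (@D3.rec (fun _ => Nat) 0 0 0 0 0 0 0 0 0 0 0 0 0 0 0 0 0 0 0 0 0 0 0 0 0 0 1583 0 0 0 0 0 0 0 0 0 0 0 0 0 0 0 0 0 0 0 0 0 0 0 0 0 0 0 0 0 0 0 0 0 0 0) (@D3.rec (fun _ => Nat) 0 1595 0 0 0 0 0 0 0 0 0 0 0 0 0 0 0 0 0 0 0 0 0 0 0 0 0 0 0 0 0 0 0 0 0 171 0 0 0 0 0 0 0 0 0 0 0 0 0 0 0 0 0 0 0 0 0 0 0 0 0 0) z3_g z3_g z3_g z3_g (@D3.rec (fun _ => Nat) 0 0 0 0 0 0 0 0 0 0 0 0 0 220 0 0 0 0 0 0 0 0 0 0 0 0 0 0 0 0 0 0 0 0 0 0 0 0 0 0 0 0 0 0 0 0 0 0 0 0 0 0 0 0 0 0 0 0 0 0 0 0) z3_g (@D3.rec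 (fun _ => Nat) 0 0 0 0 0 0 0 0 0 0 0 0 1917 0 0 0 0 0 0 0 0 0 0 0 0 0 0 0 0 0 0 0 0 0 0 0 0 0 0 0 0 0 0 0 0 0 0 0 0 0 0 0 0 0 0 0 0 0 0 0 0 0) (@D3.rec (fun _ => Nat) 0 0 0 0 0 0 0 0 0 0 0 0 0 0 0 0 0 0 0 0 0 0 0 0 0 1526 0 0 0 0 0 0 0 0 0 0 0 0 0 0 0 0 0 0 0 0 0 0 0 0 0 0 0 0 0 0 0 0 0 0 0 0) (@D3.rec (fun _ => Nat) 0 0 0 0 0 525 0 0 0 0 0 0 0 0 0 0 0 0 0 0 0 0 0 0 0 0 0 0 0 1816 0 0 0 0 0 0 0 0 1588 0 0 0 0 0 0 0 0 0 0 0 0 0 0 0 0 0 0 0 0 0 0 0) (@D3.rec (fun _ => Nat) 0 0 0 0 0 0 0 0 445 0 0 0 0 0 0 0 0 0 0 0 0 0 0 0 0 0 0 0 0 0 0 0 0 0 0 0 0 0 0 0 0 0 0 0 0 0 0 0 0 0 0 0 0 0 0 0 0 0 0 0 0 0) z3_g z3_g (@D3.rec (fun _ => Nat) 0 0 418 0 0 0 0 0 0 0 0 0 0 0 0 0 0 0 0 0 0 0 0 0 0 0 0 0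 0 0 0 0 0 0 0 0 0 0 0 0 0 0 0 0 0 0 0 0 0 0 0 0 0 0 0 0 0 0 0 0 0 0) z3_g z3_g (@D3.rec (fun _ => Nat) 0 0 0 0 0 0 0 0 0 0 0 0 0 0 0 0 0 0 0 0 0 0 0 0 0 0 0 0 0 0 0 0 0 0 0 0 0 0 1976 0 0 0 0 0 0 0 0 0 0 0 0 0 0 0 0 0 0 0 0 0 0 0) (@D3.rec (fun _ => Nat) 0 0 0 0 0 0 0 0 0 0 0 0 0 0 0 0 0 0 0 0 0 0 0 0 0 0 0 0 0 0 0 0 0 0 0 0 0 0 0 0 0 0 0 0 0 0 0 0 0 0 0 0 0 2019 0 0 0 0 0 0 0 0) (@D3.rec (fun _ => Nat) 0 0 0 0 0 0 0 0 0 0 0 0 0 0 0 0 0 1973 0 0 0 0 0 0 0 0 0 0 0 0 0 0 0 0 0 439 0 0 0 0 0 0 0 0 0 0 0 0 0 0 0 0 0 0 0 0 0 0 0 0 0 0) (@D3.rec (fun _ => Nat) 0 0 0 0 0 2018 0 0 0 0 0 0 0 0 2164 0 0 0 0 0 0 0 0 0 0 0 0 0 0 0 0 0 0 0 0 0 0 0 0 0 0 0 0 0 0 0 0 0 0 0 0 0 2872 0 0 0 0 0 0 0 0 0)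 z3_g z3_g (@D3.rec (fun _ => Nat) 0 0 0 0 0 0 0 0 0 0 0 0 0 0 0 0 1616 0 0 0 0 0 0 0 0 0 0 0 0 0 0 0 0 0 0 0 0 0 0 0 0 0 0 0 0 0 0 0 0 0 0 0 0 0 0 0 0 0 0 0 0 0) (@D3.rec (fun _ => Nat) 0 0 0 0 1613 0 0 0 0 0 0 1598 0 0 0 0 0 0 0 0 0 0 0 0 0 0 0 0 0 0 0 0 0 0 1599 0 0 0 0 0 0 0 0 0 0 0 0 0 0 0 0 0 0 0 0 0 0 0 0 0 0 0) (@D3.rec (fun _ => Nat) 0 0 0 0 0 0 0 0 0 0 0 0 0 0 0 0 0 0 0 0 0 0 1172 0 1183 0 0 0 0 0 0 0 0 0 0 0 0 0 0 0 0 0 0 0 0 0 0 0 0 0 0 0 0 0 0 0 0 0 0 0 0 0) z3_g (@D3.rec (fun _ => Nat) 0 0 0 0 0 0 0 0 0 0 0 0 0 0 0 0 0 0 0 0 0 0 0 0 0 0 0 0 0 0 0 0 0 0 0 0 0 0 0 0 466 0 0 0 0 0 0 0 0 0 0 0 0 0 0 0 0 0 0 0 0 0) (@D3.rec (fun _ => Nat) 0 0 0 0 0 0 0 0 0 0 0 0 0 0 0 0 0 0 448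 0 0 0 0 0 0 0 0 0 0 0 0 0 0 0 0 0 0 0 0 0 0 0 0 0 0 0 0 0 0 0 0 0 0 0 0 0 0 0 0 0 0 0) z3_g (@D3.rec (fun _ => Nat) 0 0 0 1651 0 0 0 511 0 0 0 0 0 0 0 0 0 0 0 0 0 0 0 0 0 0 0 0 0 0 0 0 0 0 0 0 0 0 0 0 0 0 0 0 0 0 0 0 0 0 0 0 0 0 0 0 0 0 0 0 0 0) (@D3.rec (fun _ => Nat) 0 0 0 0 0 0 0 0 0 0 0 0 0 0 0 0 0 0 0 0 0 0 0 0 0 0 0 0 0 0 0 0 0 0 0 0 0 0 0 0 0 0 0 0 0 0 0 0 0 0 1633 0 0 0 0 0 0 0 0 0 0 0) (@D3.rec (fun _ => Nat) 0 0 2827 0 0 0 0 0 0 0 0 0 2904 0 0 0 0 0 0 0 0 0 0 0 0 0 0 0 0 0 0 0 0 0 0 0 0 0 0 0 0 0 0 0 0 0 0 0 0 0 0 0 0 0 0 0 0 0 0 0 0 0)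
def sd_g_14 : D2 → D3 → Nat := @D2.rec (fun _ => D3 → Nat) (@D3.rec (fun _ => Nat) 0 0 0 0 0 0 0 0 0 0 0 0 0 0 0 0 0 0 0 0 0 0 0 0 0 0 0 0 0 0 0 0 0 0 0 0 0 0 0 0 0 0 0 0 0 0 0 0 0 0 0 0 0 0 0 0 0 0 0 1655 0 0) (@D3.rec (fun _ => Nat) 0 0 0 0 0 0 0 0 0 0 0 0 0 0 0 0 0 0 0 0 0 0 1509 0 0 0 0 0 0 0 0 0 0 0 0 0 0 0 0 0 0 0 0 0 0 0 0 0 0 0 0 0 0 0 0 0 0 0 0 0 0 0) z3_g (@D3.rec (fun _ => Nat) 0 0 0 0 1641 0 0 0 0 0 0 0 0 0 0 0 0 0 0 0 0 0 0 0 0 0 0 0 0 0 0 0 0 0 0 0 0 0 0 0 0 0 0 0 0 0 0 0 0 0 0 0 0 0 0 0 0 0 0 0 0 0) (@D3.rec (fun _ => Nat) 0 0 0 0 0 0 0 1643 0 0 0 0 0 0 0 0 0 0 0 0 0 0 0 0 0 0 0 0 0 0 0 0 0 0 0 0 0 0 0 0 0 0 0 0 0 0 0 970 0 0 0 0 0 0 0 0 0 0 986 0 0 0) z3_g z3_g z3_g (@D3.rec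 (fun _ => Nat) 0 0 0 0 0 0 0 0 0 0 0 0 0 0 0 0 0 0 0 0 0 0 0 0 0 0 0 0 0 0 0 0 0 0 0 0 0 0 0 0 0 0 0 0 0 0 0 0 0 0 0 0 0 0 0 1636 0 0 0 0 0 0) (@D3.rec (fun _ => Nat) 0 0 0 0 0 0 0 0 0 0 0 0 0 0 0 0 0 0 0 0 0 0 0 0 0 0 0 0 0 0 0 0 0 0 0 0 0 0 0 0 0 0 0 0 0 0 0 0 0 0 0 0 0 1649 0 0 0 0 0 0 0 0) (@D3.rec (fun _ => Nat) 0 1831 0 0 0 0 0 0 0 0 0 0 0 0 0 0 0 0 0 0 0 0 0 0 0 0 0 0 0 0 0 0 0 0 0 0 0 0 0 0 0 0 0 0 0 0 0 0 0 0 0 0 0 0 0 0 0 0 0 0 0 0) (@D3.rec (fun _ => Nat) 0 0 0 0 0 0 0 0 0 0 0 0 0 0 0 0 0 0 0 0 0 0 0 0 0 0 0 0 0 0 0 0 0 0 0 0 0 0 0 0 0 0 0 0 0 0 0 0 0 0 0 0 0 0 0 0 0 0 0 0 0 1672) (@D3.rec (fun _ => Nat) 0 0 0 0 0 0 0 0 0 0 0 0 0 0 0 0 0 0 0 0 0 1259 0 0 1706 0 0 0 0 0 0 0 0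 0 0 0 0 0 0 0 0 0 0 0 0 0 0 0 0 0 0 0 0 0 0 0 0 0 0 0 0 0) (@D3.rec (fun _ => Nat) 0 0 0 0 0 0 0 0 0 0 0 0 0 0 0 0 0 0 0 0 0 0 0 0 0 402 0 0 0 0 0 0 0 0 0 0 0 0 0 0 0 0 0 0 0 0 0 0 0 0 0 0 0 0 0 0 0 0 0 0 0 0) (@D3.rec (fun _ => Nat) 0 0 0 0 0 0 0 0 0 0 0 0 0 0 0 0 0 0 1176 0 0 0 0 0 0 1742 0 1728 0 0 0 0 0 0 0 0 0 0 0 0 0 0 0 0 0 0 0 0 0 0 0 0 0 0 0 0 0 0 0 0 0 481) (@D3.rec (fun _ => Nat) 0 0 0 0 0 0 0 0 0 0 0 0 0 0 0 0 0 0 0 0 0 0 0 0 0 0 0 0 0 0 0 0 0 0 0 0 0 1716 0 0 0 0 0 0 0 0 1698 0 0 0 0 0 0 0 0 0 0 0 0 0 0 0) (@D3.rec (fun _ => Nat) 0 0 0 0 0 0 0 0 0 0 0 0 0 0 0 0 0 0 0 0 0 0 0 0 0 0 0 0 0 0 0 0 0 0 0 0 0 0 0 0 0 0 0 0 0 0 0 0 0 0 0 0 0 0 0 0 0 0 0 0 0 1736) (@D3.rec (fun _ =>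 Nat) 0 0 0 0 0 0 0 0 0 0 0 0 1618 1705 0 0 0 0 0 0 0 0 0 0 0 0 0 0 0 0 0 0 0 0 0 1619 0 0 0 0 0 0 0 0 0 0 0 0 0 0 0 0 0 0 0 0 0 0 0 0 0 0) z3_g (@D3.rec (fun _ => Nat) 0 0 0 0 0 0 0 0 0 0 1520 0 0 0 0 0 0 0 0 0 0 0 0 0 0 0 0 0 0 0 0 0 0 0 0 0 0 0 0 0 0 0 0 0 0 0 0 0 0 0 0 0 0 0 0 0 0 0 0 0 0 0) (@D3.rec (fun _ => Nat) 0 0 0 0 0 0 0 0 0 0 0 0 0 0 0 0 0 0 0 0 0 0 0 0 0 0 0 0 0 0 0 0 0 0 0 0 0 0 0 0 0 0 0 0 0 0 0 0 1718 0 0 0 0 0 0 0 0 0 0 0 0 0) (@D3.rec (fun _ => Nat) 0 0 0 1721 0 0 0 0 0 0 0 0 0 0 0 0 0 0 0 0 1723 0 0 0 1750 0 0 0 0 1725 0 0 0 0 0 0 0 0 0 0 0 0 0 0 0 0 0 0 0 0 0 0 0 0 0 0 0 0 0 0 0 0) (@D3.rec (fun _ => Nat) 0 0 0 0 0 0 0 0 0 0 0 0 0 0 0 0 0 0 0 0 0 0 563 0 0 0 0 0 0 0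 0 0 0 0 0 0 0 0 0 0 0 0 0 0 0 0 0 0 0 0 0 0 0 0 0 0 0 0 0 0 0 0) (@D3.rec (fun _ => Nat) 0 0 0 0 0 0 0 0 0 0 0 0 0 0 1449 0 0 0 0 0 0 0 0 0 0 0 0 0 0 0 0 0 0 0 0 0 0 0 0 0 0 0 0 0 0 0 0 0 0 0 0 0 0 0 0 0 0 0 0 0 0 0) (@D3.rec (fun _ => Nat) 0 0 0 0 0 0 0 0 0 0 0 0 0 0 0 0 0 0 0 0 0 0 0 0 0 0 0 0 0 0 0 0 1566 0 0 0 0 0 0 0 0 0 0 0 0 0 0 0 0 0 0 0 0 0 0 0 0 0 0 0 0 0) (@D3.rec (fun _ => Nat) 0 0 0 0 0 0 0 0 0 0 0 0 0 0 0 0 1559 0 0 0 0 0 0 0 0 0 0 0 0 0 0 0 0 0 0 0 0 0 0 0 0 0 0 0 0 0 0 0 0 0 0 0 0 0 0 0 0 0 0 0 0 0) z3_g (@D3.rec (fun _ => Nat) 0 0 0 0 0 0 0 0 0 0 0 0 0 0 0 0 0 0 0 0 0 0 0 0 0 0 0 0 0 0 0 0 0 0 0 0 0 0 0 0 0 0 0 0 0 1546 0 0 0 0 0 0 0 0 0 0 0 0 0 0 0 0) (@D3.rec (fun _ =>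 Nat) 0 0 0 0 1744 0 0 0 0 0 0 0 0 0 0 0 0 0 0 0 0 0 0 0 0 0 0 0 0 0 0 0 0 0 0 0 0 0 0 0 0 0 0 0 0 1404 0 0 0 0 0 0 0 0 0 0 0 0 0 0 0 0) z3_g (@D3.rec (fun _ => Nat) 0 0 0 0 0 0 0 0 0 0 0 0 0 1918 0 0 0 0 0 0 0 0 0 0 0 0 0 0 0 0 0 0 0 0 0 0 0 0 0 0 0 0 0 0 0 0 0 0 0 0 0 0 0 0 0 0 0 0 0 0 0 0) (@D3.rec (fun _ => Nat) 0 0 0 0 0 0 0 0 0 0 0 0 0 0 0 0 0 0 0 0 0 0 0 0 0 0 0 0 0 0 0 0 0 0 0 0 0 0 0 0 0 0 0 0 0 0 0 0 0 0 1715 0 0 0 0 0 0 0 0 0 0 0) z3_g (@D3.rec (fun _ => Nat) 0 0 0 0 0 0 0 0 0 0 0 0 0 0 0 0 0 0 0 0 0 0 0 1766 0 0 0 0 0 0 0 0 0 0 0 0 0 0 0 0 0 0 0 0 0 0 0 0 0 0 0 0 0 0 0 0 1563 0 0 0 0 0) z3_g (@D3.rec (fun _ => Nat) 0 0 0 0 0 0 0 1769 0 0 0 0 0 0 0 0 0 0 0 0 0 0 0 0 0 751 0 957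 0 0 0 0 0 0 0 0 0 0 0 0 0 2023 0 0 0 0 0 0 0 0 0 0 0 0 0 0 0 0 0 0 0 0) z3_g (@D3.rec (fun _ => Nat) 0 0 1955 0 0 0 0 0 0 0 0 0 0 0 0 0 0 0 0 0 0 0 0 0 0 0 0 0 0 1774 0 0 0 0 0 0 0 0 0 0 0 0 0 0 0 0 0 0 0 0 0 0 0 0 0 0 0 0 0 0 0 0) (@D3.rec (fun _ => Nat) 0 0 0 0 0 0 0 0 0 0 0 0 0 0 0 238 0 0 1796 0 0 0 0 0 0 0 0 0 0 0 0 0 0 0 0 0 0 0 0 0 0 0 0 0 0 0 0 0 0 0 0 0 0 0 0 0 0 0 0 0 0 0) z3_g (@D3.rec (fun _ => Nat) 0 0 0 0 0 0 0 0 0 0 0 0 0 0 0 0 0 0 0 0 0 0 0 0 0 0 0 0 0 0 0 0 0 0 0 0 0 0 0 0 0 0 0 0 0 0 0 0 0 0 0 0 0 0 1803 0 0 0 0 0 0 0) z3_g (@D3.rec (fun _ => Nat) 0 0 0 0 0 0 0 0 0 0 0 0 0 0 0 0 0 0 0 0 0 0 0 0 0 0 0 0 0 0 0 0 0 0 0 0 0 0 0 0 0 0 0 0 0 0 0 0 0 1681 0 0 0 0 0 0 0 0 0 0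 0 0) (@D3.rec (fun _ => Nat) 0 0 0 0 0 0 0 0 0 0 0 0 1805 0 0 0 0 0 0 0 0 0 0 0 0 0 0 0 0 0 0 0 0 0 0 0 0 0 0 0 0 0 0 0 0 0 0 0 0 0 0 0 0 0 0 0 1810 0 0 0 0 0) z3_g (@D3.rec (fun _ => Nat) 0 0 0 0 0 2007 0 0 0 0 0 0 0 0 0 0 0 0 0 0 0 0 0 0 0 0 0 0 0 0 0 0 0 0 0 0 0 0 0 0 0 1630 0 0 0 0 0 0 0 0 0 0 0 0 0 0 0 1640 0 0 0 0) z3_g (@D3.rec (fun _ => Nat) 0 0 0 0 0 0 0 0 0 0 0 0 0 0 0 0 0 0 0 0 0 0 0 0 0 0 0 0 0 0 0 0 0 0 0 0 0 0 0 0 0 0 1621 0 0 0 0 0 0 0 0 0 0 0 0 0 0 0 0 0 0 0) (@D3.rec (fun _ => Nat) 0 0 0 0 0 0 0 0 0 0 0 0 0 0 0 0 0 0 0 0 0 0 0 0 0 0 0 1713 0 0 0 0 0 0 0 0 0 0 0 0 0 0 0 0 0 0 0 0 0 0 0 0 0 0 0 0 0 0 0 0 0 0) z3_g (@D3.rec (fun _ => Nat) 0 0 0 0 0 0 0 0 0 0 0 0 0 0 0 0 0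 0 0 0 1841 0 1843 0 0 0 0 0 0 0 0 0 0 0 0 0 0 0 0 0 0 0 0 0 0 0 0 0 0 0 0 0 0 0 0 0 0 0 0 0 0 0) (@D3.rec (fun _ => Nat) 0 0 0 0 0 0 0 0 0 0 0 0 0 0 0 0 0 0 0 0 0 0 0 0 0 0 0 0 0 0 0 0 0 0 0 0 0 0 1837 0 0 0 0 0 0 0 0 0 0 0 0 0 0 0 0 0 0 0 0 0 0 0) (@D3.rec (fun _ => Nat) 0 0 0 0 0 0 0 0 0 0 0 0 0 0 0 0 0 0 0 0 0 0 0 0 0 0 0 0 0 0 0 0 0 0 0 0 0 0 0 0 0 0 1527 0 0 0 0 0 0 0 0 0 0 0 0 0 0 0 0 0 0 0) (@D3.rec (fun _ => Nat) 0 1846 0 0 0 0 0 0 0 0 0 0 0 0 0 0 0 0 0 0 0 0 0 0 0 0 0 0 0 0 0 0 0 0 0 0 0 0 0 0 0 0 0 0 0 0 0 0 0 0 0 0 0 0 0 0 0 0 0 0 0 0) z3_g (@D3.rec (fun _ => Nat) 0 0 0 0 0 0 0 0 0 0 0 0 0 0 0 0 0 0 0 0 0 0 0 0 0 0 0 0 0 0 0 0 0 0 0 0 1851 0 0 0 0 0 0 0 0 0 0 0 0 0 0 0 0 0 0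 0 0 0 0 0 0 0) (@D3.rec (fun _ => Nat) 0 0 0 0 0 0 0 0 0 0 0 0 0 0 0 0 0 0 0 0 0 0 0 0 0 0 0 0 0 0 0 0 0 1827 0 0 0 0 0 0 0 0 0 0 0 0 0 0 0 0 0 0 0 0 0 2008 0 0 0 0 0 0) z3_g z3_g z3_g
def sd_g_15 : D2 → D3 → Nat := @D2.rec (fun _ => D3 → Nat) z3_g (@D3.rec (fun _ => Nat) 0 0 0 0 0 0 0 0 0 0 0 0 0 0 2691 0 0 0 0 0 0 0 0 0 0 0 0 0 0 0 0 0 0 0 0 0 0 0 0 0 0 0 0 0 0 0 0 0 0 0 0 0 0 0 0 0 0 0 0 0 0 0) z3_g z3_g (@D3.rec (fun _ => Nat) 0 0 0 0 0 0 0 0 0 0 0 0 0 0 0 0 0 0 0 0 0 0 0 0 0 0 0 0 0 0 0 0 0 0 0 0 0 0 0 0 0 0 0 0 0 0 0 0 1125 0 0 0 0 0 0 0 0 0 0 0 0 0) (@D3.rec (fun _ => Nat) 0 0 0 0 0 0 0 1020 0 0 0 663 0 0 0 650 0 0 0 0 0 0 0 0 0 0 0 0 0 0 0 0 0 0 0 0 0 0 0 0 0 0 0 0 0 0 0 0 0 0 0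 0 0 0 0 0 0 0 0 0 0 0) (@D3.rec (fun _ => Nat) 0 0 0 0 0 0 0 0 0 0 0 0 0 0 0 0 2907 0 0 0 0 0 0 0 0 0 0 0 0 0 0 0 0 0 0 0 0 0 0 0 0 0 0 0 0 0 0 0 0 0 0 0 0 0 0 0 0 0 0 0 0 0) z3_g z3_g z3_g z3_g z3_g (@D3.rec (fun _ => Nat) 0 0 0 0 0 0 0 0 0 0 0 0 0 0 0 0 0 0 0 0 0 0 0 0 0 0 0 0 0 0 0 0 0 0 0 0 0 0 0 0 0 0 0 0 0 0 0 0 0 0 0 0 1602 0 0 0 0 0 0 0 0 0) z3_g (@D3.rec (fun _ => Nat) 0 0 0 0 0 0 0 0 0 0 0 0 0 0 0 0 0 0 0 0 0 0 0 0 0 0 0 0 0 0 0 0 0 0 0 0 0 0 0 0 0 0 0 0 0 0 0 0 0 0 0 0 0 2051 0 0 0 0 0 0 0 0) (@D3.rec (fun _ => Nat) 0 0 0 0 0 0 0 0 0 0 0 0 0 0 0 0 0 0 0 0 0 0 0 0 0 0 0 0 0 0 0 0 0 0 0 0 0 0 0 0 0 0 0 0 0 0 0 0 0 0 0 0 0 0 0 0 0 0 0 2044 0 0) z3_g (@D3.rec (fun _ => Nat) 0 0 0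 0 0 0 0 0 0 0 0 0 0 0 0 3034 0 0 0 0 0 0 0 0 0 0 0 0 0 0 0 0 0 0 0 0 0 0 0 0 0 0 0 0 0 0 0 0 0 0 0 0 0 0 0 0 0 0 0 0 0 0) z3_g z3_g z3_g z3_g z3_g z3_g z3_g z3_g (@D3.rec (fun _ => Nat) 0 0 0 0 0 0 0 0 0 651 0 0 0 0 0 0 0 0 0 0 0 0 0 0 0 0 0 0 0 0 0 0 0 0 0 0 0 2561 0 0 0 0 0 0 2058 0 0 0 0 0 0 0 0 0 0 0 0 0 0 0 0 0) (@D3.rec (fun _ => Nat) 0 0 0 0 0 2942 2497 0 0 0 0 0 0 0 0 0 0 0 0 0 0 0 0 0 0 0 0 0 0 0 0 0 0 0 0 0 0 0 0 0 0 0 0 0 0 0 0 0 0 0 0 0 0 0 0 0 0 0 0 0 0 0) z3_g z3_g (@D3.rec (fun _ => Nat) 0 0 0 0 0 0 0 0 0 0 0 0 0 0 0 0 0 0 0 0 0 0 0 0 0 2061 0 0 2717 0 0 0 0 0 0 0 0 0 0 0 0 0 0 2069 0 2639 0 0 0 0 0 0 0 0 0 0 0 0 0 0 0 0) z3_g z3_g z3_g (@D3.rec (fun _ => Nat) 0 0 0 0 0 0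 0 0 0 0 0 0 0 0 0 0 0 0 0 0 0 0 0 0 0 0 0 0 0 0 2074 0 0 0 0 0 0 0 0 0 0 0 0 0 0 0 0 0 0 0 0 0 0 0 0 0 0 0 0 0 0 0) z3_g (@D3.rec (fun _ => Nat) 0 0 0 0 0 0 0 0 0 0 0 0 0 0 0 0 0 0 0 0 0 0 0 0 0 0 0 0 0 0 0 0 0 0 0 0 0 0 0 0 0 0 0 0 0 0 0 0 0 0 0 0 0 0 0 0 0 0 0 2396 0 0) (@D3.rec (fun _ => Nat) 0 0 0 0 0 0 0 0 0 0 0 0 0 0 0 0 0 0 0 0 0 0 0 0 0 0 0 0 0 0 0 0 0 0 0 0 0 0 0 0 0 0 0 0 0 0 0 0 0 0 0 0 0 0 0 0 0 2073 0 0 0 0) z3_g z3_g (@D3.rec (fun _ => Nat) 0 0 0 0 0 0 0 0 0 0 0 0 0 0 0 0 0 2078 0 0 0 0 0 0 0 0 0 0 0 0 0 0 0 0 0 0 0 0 0 0 0 0 0 0 0 0 0 0 0 0 0 0 0 0 0 0 0 0 0 0 0 0) (@D3.rec (fun _ => Nat) 0 0 0 0 0 0 0 0 0 0 0 0 0 0 0 0 0 0 0 0 0 0 0 0 0 0 0 0 0 0 0 0 0 0 0 0 2114 0 0 0 0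 0 0 0 0 0 0 0 0 0 0 0 0 0 0 0 0 0 0 0 0 0) (@D3.rec (fun _ => Nat) 0 0 0 0 0 0 0 0 0 0 0 0 0 0 0 0 0 0 0 0 0 0 0 0 0 0 0 0 0 0 0 0 0 0 0 0 2115 0 0 0 0 0 0 0 0 0 0 0 0 0 0 0 0 0 0 0 0 0 0 0 0 0) (@D3.rec (fun _ => Nat) 0 0 0 0 0 0 0 2085 0 0 0 0 2084 0 0 0 0 0 0 0 0 0 615 0 0 0 0 0 0 0 0 0 0 0 0 0 0 0 0 0 0 0 0 0 0 0 0 0 0 0 0 0 0 0 0 0 0 0 0 0 0 0) z3_g (@D3.rec (fun _ => Nat) 0 0 0 0 0 0 0 0 0 0 0 0 0 0 0 0 0 0 0 0 0 0 0 0 0 0 0 0 0 0 0 0 0 0 0 0 0 0 0 0 0 0 0 0 0 0 0 0 0 0 0 0 0 0 2087 0 0 0 0 0 0 0) z3_g (@D3.rec (fun _ => Nat) 2077 0 0 0 0 0 0 0 0 0 0 0 0 0 0 0 0 0 0 0 0 0 0 0 0 0 0 0 0 0 0 0 0 0 0 0 0 0 0 0 0 0 0 0 0 0 0 0 0 0 0 0 0 0 0 0 0 0 0 0 0 0) (@D3.rec (fun _ => Nat) 0 0 0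 0 0 0 0 0 0 0 0 0 0 0 0 0 0 0 0 0 0 0 0 0 0 0 0 0 0 627 0 0 0 0 0 0 0 0 0 0 0 0 0 0 0 0 0 0 0 0 0 0 0 0 0 0 0 0 0 0 0 0) z3_g z3_g (@D3.rec (fun _ => Nat) 0 0 0 0 0 0 0 0 0 0 0 0 0 0 2106 0 0 0 0 0 0 0 0 0 0 0 0 0 0 0 0 0 0 0 0 0 0 0 0 0 0 0 0 0 0 0 0 0 0 0 0 0 0 0 0 0 0 0 0 0 0 0) (@D3.rec (fun _ => Nat) 0 0 0 0 0 0 0 0 0 0 0 0 0 0 0 0 0 0 0 0 0 0 0 0 0 0 0 0 0 0 0 0 0 0 0 0 0 0 0 0 0 0 0 0 2045 0 0 0 0 0 0 0 0 0 0 0 0 0 0 0 0 0) z3_g z3_g (@D3.rec (fun _ => Nat) 0 0 0 0 0 0 0 0 0 0 0 0 0 0 0 0 0 0 0 0 0 0 0 0 0 0 0 0 0 2109 0 0 0 0 0 0 0 0 0 0 0 0 0 0 0 0 0 0 0 0 0 0 0 0 0 0 0 0 0 0 0 0) z3_g z3_g z3_g (@D3.rec (fun _ => Nat) 0 0 0 0 0 0 0 0 0 0 0 0 0 0 2407 0 0 0 0 0 0 0 0 0 0 0 0 0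 0 0 0 0 0 0 0 0 0 0 0 0 0 0 0 0 0 0 0 0 0 0 0 0 0 0 0 0 0 0 0 0 0 0)
def sd_g_16 : D2 → D3 → Nat := @D2.rec (fun _ => D3 → Nat) z3_g z3_g z3_g (@D3.rec (fun _ => Nat) 0 0 0 0 0 0 0 0 0 0 0 0 0 0 0 0 0 0 0 0 0 0 0 0 0 0 0 0 0 0 0 0 0 0 0 0 0 0 0 0 0 0 0 0 0 0 0 0 0 0 2113 0 0 0 0 0 0 0 0 0 0 0) (@D3.rec (fun _ => Nat) 0 0 0 0 0 0 0 0 0 0 0 0 0 0 0 0 0 0 0 0 0 0 0 0 0 0 0 0 0 0 0 0 0 0 0 0 0 0 0 0 0 0 0 0 0 0 0 0 0 0 0 0 0 0 0 0 0 0 0 0 2398 0) z3_g z3_g z3_g z3_g z3_g z3_g (@D3.rec (fun _ => Nat) 0 2136 0 0 0 0 0 0 0 0 0 0 0 0 0 0 0 0 0 0 0 0 0 0 0 0 0 0 0 0 0 0 2133 0 0 0 0 0 0 0 0 0 0 0 0 0 0 0 0 0 0 0 0 0 0 0 0 0 0 0 0 0) (@D3.rec (fun _ => Nat) 0 0 0 0 0 0 0 0 0 0 0 0 0 0 0 0 0 0 0 0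 0 2153 0 0 0 0 0 0 0 0 0 0 0 0 0 0 0 0 0 0 0 0 0 0 0 0 0 0 0 0 0 0 0 0 0 0 0 0 0 0 0 0) z3_g z3_g (@D3.rec (fun _ => Nat) 0 0 0 0 0 0 0 0 0 0 0 0 0 0 0 0 0 0 0 0 0 0 0 0 0 0 0 0 0 0 0 0 0 0 0 2132 0 0 0 0 0 0 0 0 0 0 0 0 0 0 0 0 0 0 0 0 0 0 0 0 0 0) z3_g (@D3.rec (fun _ => Nat) 0 0 0 0 0 0 0 0 0 0 0 0 0 0 0 0 0 0 0 0 0 0 0 0 0 0 0 0 0 0 0 0 0 0 0 0 0 0 0 0 0 0 0 0 0 0 0 0 0 0 0 0 0 0 2099 0 0 0 0 0 0 0) z3_g z3_g (@D3.rec (fun _ => Nat) 0 0 0 0 0 0 0 0 0 0 0 0 0 0 0 0 0 0 0 0 0 0 0 0 1575 0 0 0 0 0 0 0 0 0 0 0 0 0 0 0 0 0 0 0 0 0 0 0 0 0 0 0 0 0 0 0 0 0 0 0 0 0) z3_g z3_g (@D3.rec (fun _ => Nat) 0 0 0 0 0 2162 0 0 0 0 0 0 0 0 0 0 0 0 0 0 0 0 0 0 0 0 0 0 0 0 0 0 0 0 0 0 0 0 0 0 0 0 0 0 0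 0 0 0 0 0 0 0 0 0 0 0 0 0 0 0 0 0) z3_g z3_g (@D3.rec (fun _ => Nat) 0 0 0 0 0 0 0 0 0 0 0 0 0 0 0 0 0 0 0 2946 0 0 0 0 0 0 0 0 0 0 0 0 0 0 0 0 0 0 0 0 0 0 0 0 0 0 0 0 0 0 0 0 0 0 0 0 0 0 0 0 0 0) (@D3.rec (fun _ => Nat) 0 0 0 0 0 0 0 0 0 0 0 0 0 0 0 0 0 0 0 0 0 0 0 0 0 0 0 0 0 0 0 0 0 0 0 0 0 0 0 0 0 0 0 0 0 0 0 0 0 0 0 0 0 0 2160 0 0 0 0 0 0 0) z3_g z3_g (@D3.rec (fun _ => Nat) 0 0 2899 0 0 0 0 0 0 0 0 0 0 0 0 0 0 0 2157 3054 0 0 0 0 0 0 0 0 0 0 0 0 0 0 0 0 0 0 0 0 0 0 0 0 0 0 2427 0 0 0 0 0 0 1204 0 0 2158 0 0 0 0 0) (@D3.rec (fun _ => Nat) 0 0 0 0 0 0 0 0 0 0 0 0 0 0 0 0 0 0 0 0 0 0 0 0 0 0 0 0 0 0 0 0 0 0 0 0 0 0 0 0 0 0 0 0 0 0 0 0 0 0 0 0 0 0 0 0 0 0 0 2159 0 0) (@D3.rec (fun _ =>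 Nat) 0 0 0 0 0 0 0 0 0 0 2165 0 0 0 0 0 0 0 0 0 0 0 0 0 0 0 0 0 0 0 0 0 0 0 0 0 0 0 0 0 0 0 0 0 0 0 0 0 0 0 0 0 0 0 0 0 0 0 0 0 0 0) z3_g z3_g z3_g (@D3.rec (fun _ => Nat) 0 0 0 0 0 0 0 0 0 0 0 0 0 0 0 0 0 0 0 0 0 0 0 0 0 0 0 0 0 2064 0 0 0 0 0 0 0 0 0 0 0 0 0 0 0 0 0 0 0 0 0 0 2684 0 0 0 0 0 0 0 0 0) z3_g z3_g z3_g (@D3.rec (fun _ => Nat) 0 0 0 0 0 0 0 0 0 0 0 0 0 0 0 0 0 0 0 0 0 0 0 0 0 0 0 0 0 0 0 0 0 0 2668 0 0 0 0 0 0 0 0 0 0 0 0 0 0 0 2174 0 0 0 0 0 0 0 0 0 0 0) z3_g z3_g z3_g z3_g (@D3.rec (fun _ => Nat) 0 0 0 0 0 0 0 0 0 0 0 0 0 0 0 0 0 0 0 0 0 0 0 0 0 0 0 0 0 0 888 0 0 0 0 0 0 0 0 0 0 0 0 0 0 0 0 0 0 0 0 0 0 0 0 0 0 0 0 0 0 0) (@D3.rec (fun _ => Nat) 0 0 0 0 0 0 0 0 0 0 0 0 0 0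 0 0 0 0 0 0 0 0 0 3013 0 0 0 0 0 0 0 0 0 0 0 0 0 0 0 0 0 0 0 0 0 0 0 0 0 0 0 0 0 0 0 0 0 0 0 0 0 0) z3_g (@D3.rec (fun _ => Nat) 0 0 0 0 2128 0 0 0 0 0 0 0 0 0 0 0 0 0 0 0 0 0 0 0 0 0 0 0 0 0 0 0 0 0 0 0 0 0 0 0 0 0 0 0 0 0 0 0 0 0 0 0 0 0 0 0 0 0 0 0 0 0) (@D3.rec (fun _ => Nat) 0 0 0 0 0 0 0 0 0 0 0 0 0 0 0 0 0 0 0 0 0 0 0 0 0 0 0 0 0 0 0 0 0 0 0 0 0 0 0 0 2811 0 0 0 0 0 2867 0 0 0 0 0 0 0 0 0 0 0 0 0 0 0) z3_g (@D3.rec (fun _ => Nat) 0 0 0 0 0 0 0 0 0 0 0 0 0 0 0 0 0 0 0 0 0 0 0 0 0 0 0 0 0 0 0 0 0 0 0 0 0 0 0 0 0 0 0 0 0 0 0 0 0 0 0 0 0 0 0 0 0 0 0 2191 0 0) (@D3.rec (fun _ => Nat) 0 0 0 0 0 0 0 0 0 0 0 0 0 0 0 0 0 0 0 0 0 0 0 0 0 0 0 0 2196 0 0 0 0 0 0 0 0 0 0 0 0 0 0 0 0 0 0 0 0 0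 0 0 0 0 0 0 0 0 0 0 0 0) (@D3.rec (fun _ => Nat) 0 0 0 0 0 0 0 0 0 0 0 0 0 0 0 0 0 0 0 0 0 2992 0 0 0 0 0 0 0 0 0 0 0 0 0 0 0 0 0 0 0 0 0 0 0 0 0 0 0 0 0 0 912 0 0 0 0 0 0 0 0 2185) (@D3.rec (fun _ => Nat) 0 0 0 0 0 0 0 0 0 0 0 0 0 0 0 0 0 0 0 0 0 0 0 0 0 0 0 0 0 2849 0 0 0 0 0 0 0 0 0 0 0 0 0 0 0 0 0 0 0 0 0 0 0 0 0 0 0 0 0 0 0 2248) (@D3.rec (fun _ => Nat) 0 0 0 0 0 0 0 0 0 0 0 0 0 0 0 0 0 0 0 0 0 0 0 0 0 0 0 0 0 0 0 0 0 0 0 0 0 0 0 0 0 0 0 0 0 0 0 0 0 0 0 0 0 0 0 380 0 0 0 0 0 0) (@D3.rec (fun _ => Nat) 0 0 0 0 0 0 0 0 0 0 0 0 0 0 0 0 0 0 0 0 0 0 2409 0 2586 0 0 0 0 0 0 0 0 0 0 0 0 0 0 0 0 0 0 0 0 0 0 0 0 0 0 0 0 0 0 0 0 0 0 0 0 0) z3_g (@D3.rec (fun _ => Nat) 0 0 0 0 0 0 0 0 0 0 0 0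 0 0 0 0 0 0 0 0 0 0 0 0 0 0 0 1669 0 0 0 0 0 0 0 0 0 0 0 0 0 0 0 0 0 0 0 0 0 0 0 0 0 0 0 1914 0 0 0 0 0 0) (@D3.rec (fun _ => Nat) 0 0 0 0 0 0 0 0 0 1132 0 0 0 0 0 0 0 0 0 0 0 0 2218 0 0 0 0 0 2057 0 0 0 0 0 0 0 0 0 0 0 0 2989 0 2202 0 0 2478 0 0 0 0 0 0 0 0 0 0 0 0 0 0 0)
def sd_g_17 : D2 → D3 → Nat := @D2.rec (fun _ => D3 → Nat) (@D3.rec (fun _ => Nat) 0 0 0 0 0 0 0 0 0 0 0 0 0 1971 0 0 0 0 0 0 0 0 0 0 0 0 0 0 0 0 0 0 0 0 0 0 0 0 0 0 0 0 0 0 0 0 0 2225 0 0 0 0 0 0 0 0 0 0 0 0 0 0) (@D3.rec (fun _ => Nat) 0 0 0 0 0 0 0 0 0 0 0 0 0 0 0 0 0 0 0 0 0 0 0 0 0 0 0 0 0 2917 0 0 0 0 0 0 0 0 0 0 0 0 0 0 0 0 0 0 0 0 0 0 0 0 0 931 0 0 0 0 0 0) (@D3.rec (fun _ => Nat) 0 0 0 0 0 0 0 0 0 0 0 0 0 0 0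 0 0 0 0 0 0 0 0 0 0 0 0 3086 0 0 0 0 0 0 0 0 0 0 0 0 0 0 0 0 0 0 0 0 0 0 0 0 0 0 0 0 0 0 0 0 0 0) (@D3.rec (fun _ => Nat) 0 0 0 0 0 0 0 0 0 2244 0 0 0 0 0 0 0 0 0 0 0 0 0 0 0 0 0 0 1072 0 0 0 0 0 0 0 0 0 0 0 0 0 0 0 0 0 0 0 0 0 0 0 0 0 0 0 0 0 0 0 0 0) (@D3.rec (fun _ => Nat) 0 0 0 0 0 0 0 0 0 0 0 0 0 0 0 0 0 0 0 0 0 0 0 303 0 0 0 0 0 0 0 0 0 0 0 0 0 0 0 0 0 0 0 0 0 0 0 0 0 0 0 0 0 0 0 0 0 0 0 0 0 0) z3_g (@D3.rec (fun _ => Nat) 0 0 0 0 0 0 0 0 0 0 0 0 0 0 0 0 0 0 0 0 0 0 0 0 0 0 0 0 0 0 0 0 0 0 0 0 0 0 0 0 0 0 0 0 0 0 0 2245 0 0 0 0 0 0 0 0 0 0 0 0 0 0) (@D3.rec (fun _ => Nat) 0 0 0 0 0 0 0 0 0 0 0 0 0 0 0 0 0 0 0 0 0 0 0 0 0 0 0 0 0 0 0 0 0 0 0 0 0 0 0 0 0 0 0 0 0 0 0 0 0 0 0 0 0 0 0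 1499 0 0 0 0 0 0) (@D3.rec (fun _ => Nat) 0 0 0 0 2600 0 0 0 0 0 0 0 0 0 0 2034 0 0 0 0 0 0 1040 2230 0 0 0 0 0 0 0 0 2434 0 0 0 0 0 0 0 0 0 0 2505 0 0 0 0 2259 0 0 0 0 0 0 0 0 0 0 0 0 0) z3_g (@D3.rec (fun _ => Nat) 0 0 0 0 0 0 0 0 0 0 0 0 0 0 0 0 0 0 0 0 0 0 0 0 0 0 0 0 0 0 0 0 0 0 0 0 0 0 0 0 0 0 0 0 0 0 0 0 0 0 0 0 0 0 0 0 1373 0 0 0 0 0) z3_g (@D3.rec (fun _ => Nat) 0 0 0 0 2274 0 0 0 0 0 0 0 0 0 0 2802 0 0 0 2914 0 0 2970 0 0 0 0 0 0 0 0 0 0 0 0 0 0 0 0 0 0 0 0 0 0 0 0 0 0 0 0 0 0 0 0 0 0 0 0 0 0 0) (@D3.rec (fun _ => Nat) 0 0 0 0 0 0 0 0 0 2213 0 0 0 0 0 0 0 0 671 0 0 0 0 0 0 0 0 0 0 0 0 0 0 0 0 0 0 0 0 0 0 0 0 0 0 0 0 0 0 0 0 0 0 0 0 0 0 0 0 0 0 0) z3_g (@D3.rec (fun _ => Nat) 0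 0 0 0 0 0 0 0 0 0 0 0 0 0 0 0 0 0 0 0 0 0 0 0 0 0 2282 0 0 0 0 0 0 0 0 0 0 0 0 0 0 0 0 0 0 0 0 0 0 0 0 0 0 0 0 0 0 0 0 0 0 0) z3_g (@D3.rec (fun _ => Nat) 0 0 0 0 0 0 0 0 2300 0 0 0 0 0 0 0 0 0 0 0 0 0 0 0 0 0 0 0 0 0 0 0 0 0 0 0 0 0 0 0 1501 0 0 0 0 0 0 0 0 0 0 0 0 2309 0 0 0 0 0 0 0 0) (@D3.rec (fun _ => Nat) 0 0 0 0 0 0 0 0 0 0 0 0 0 2925 0 0 0 0 0 0 0 0 0 0 0 2316 0 0 0 0 0 0 0 0 0 0 0 0 0 0 0 0 0 0 0 0 0 0 0 0 0 0 0 0 3082 0 0 0 0 0 0 0) (@D3.rec (fun _ => Nat) 0 0 0 0 0 0 0 0 0 0 0 0 0 0 1298 0 0 1970 0 0 0 0 0 1368 2322 0 0 0 0 0 0 0 0 0 0 0 0 0 0 0 0 0 0 0 0 0 0 0 0 0 0 0 0 0 0 0 0 0 0 0 0 0) (@D3.rec (fun _ => Nat) 0 0 0 0 0 0 0 0 0 0 0 0 0 0 0 0 0 0 0 0 0 0 0 0 0 0 0 0 0 0 0 0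 0 0 0 0 0 0 0 0 0 0 1360 0 0 0 0 1993 0 0 0 0 0 0 0 0 0 0 0 0 0 0) (@D3.rec (fun _ => Nat) 0 0 0 0 0 1381 0 0 0 0 0 0 0 0 0 0 0 0 0 0 0 0 0 0 0 0 0 0 0 0 0 0 0 0 0 0 0 0 0 0 0 0 0 0 0 0 0 0 0 0 0 0 0 0 0 0 0 2321 0 1310 2324 0) z3_g (@D3.rec (fun _ => Nat) 0 0 0 0 0 0 0 0 0 0 0 0 0 0 0 0 2326 0 0 0 0 0 0 0 0 0 0 0 0 0 0 0 0 0 0 0 0 0 0 2337 0 0 0 0 0 0 0 0 0 0 0 0 0 0 0 0 0 0 0 0 0 0) (@D3.rec (fun _ => Nat) 0 0 0 0 0 0 0 0 0 0 1505 0 0 0 0 0 0 0 0 0 0 0 0 0 3085 0 0 0 0 0 0 0 0 0 0 0 0 0 0 0 0 0 0 0 0 0 0 0 0 0 0 0 0 0 2340 0 0 2342 0 0 0 0) z3_g (@D3.rec (fun _ => Nat) 0 0 0 0 0 0 0 0 0 0 0 0 0 0 0 0 0 0 0 0 0 0 0 0 2345 0 0 0 0 0 0 0 0 0 2313 0 0 0 0 0 0 0 0 0 0 0 0 0 0 0 0 0 0 0 0 0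 0 0 0 0 0 0) (@D3.rec (fun _ => Nat) 0 0 0 0 0 0 0 0 0 0 0 0 0 0 0 0 0 0 0 0 0 0 0 0 0 0 0 0 0 0 0 2314 0 0 0 0 0 0 0 0 0 0 0 0 0 0 0 0 0 0 0 0 0 0 0 0 0 0 0 0 0 0) (@D3.rec (fun _ => Nat) 0 0 0 0 0 0 0 0 0 0 0 0 0 0 0 0 0 0 0 0 0 0 0 0 0 0 1745 0 2346 0 0 0 2352 0 0 0 0 0 0 0 0 0 0 0 0 0 0 0 0 0 0 0 0 0 0 0 0 0 1342 0 0 0) (@D3.rec (fun _ => Nat) 0 0 0 0 0 0 1540 0 0 0 0 0 2353 0 0 0 0 0 0 0 0 0 0 2354 0 0 0 0 0 0 0 1935 0 0 0 0 0 0 0 0 0 0 0 0 0 0 0 0 0 0 0 0 0 0 0 0 0 0 0 0 2356 0) (@D3.rec (fun _ => Nat) 0 0 0 0 0 0 0 0 0 2355 0 0 0 0 0 3072 0 0 0 0 0 0 0 0 0 0 0 0 0 0 0 0 0 0 0 0 0 0 0 0 0 0 0 0 0 0 0 0 0 0 0 0 0 0 0 0 0 0 0 0 0 0) (@D3.rec (fun _ => Nat) 0 0 0 0 0 0 0 0 0 0 0 0 0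 0 0 0 0 0 0 0 0 0 0 0 0 0 0 943 0 0 0 0 0 0 0 0 0 0 0 0 0 0 0 0 0 0 0 0 0 0 0 0 0 0 0 0 0 0 0 0 0 0) (@D3.rec (fun _ => Nat) 0 0 0 2344 0 0 0 0 0 0 2842 0 0 0 0 0 0 0 0 0 0 0 0 0 0 0 0 0 0 0 2361 0 0 0 0 0 0 0 0 0 0 0 0 0 0 0 0 0 0 2493 0 0 0 0 0 0 0 0 0 0 0 0) (@D3.rec (fun _ => Nat) 0 0 0 0 0 0 0 0 0 0 0 0 0 0 0 0 0 0 0 0 0 0 0 0 0 0 0 0 0 0 0 2986 0 0 0 0 0 0 0 0 0 0 0 0 0 0 0 0 0 0 0 0 0 0 0 0 0 0 0 0 0 0) (@D3.rec (fun _ => Nat) 0 0 0 0 0 0 0 959 0 0 0 0 0 0 0 0 0 0 0 0 0 0 0 0 0 0 0 0 0 0 0 0 0 0 0 0 0 0 0 0 0 0 0 0 0 0 2420 0 0 0 0 0 0 0 0 0 0 1924 0 0 0 0) z3_g z3_g z3_g z3_g z3_g z3_g (@D3.rec (fun _ => Nat) 0 0 0 0 0 0 0 0 0 0 0 0 0 0 0 2392 0 0 0 0 0 0 0 0 0 0 0 0 0 0 0 0 0 0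 0 0 0 0 0 0 0 0 0 0 0 0 0 0 0 0 0 0 0 0 0 0 0 0 0 0 0 0) (@D3.rec (fun _ => Nat) 0 0 0 0 0 0 0 0 0 0 0 0 0 0 0 2028 0 0 0 0 0 0 0 0 0 0 0 0 0 0 0 0 0 0 0 0 0 0 0 0 0 0 0 0 0 0 0 0 0 0 0 0 0 0 0 0 0 0 0 0 0 0) z3_g z3_g z3_g z3_g z3_g z3_g z3_g z3_g z3_g z3_g z3_g (@D3.rec (fun _ => Nat) 0 0 0 0 0 0 0 0 0 0 0 0 0 0 0 0 0 0 0 0 0 0 0 0 0 0 0 0 0 0 0 0 0 0 0 0 0 0 0 0 0 0 0 0 0 0 0 0 0 0 0 0 0 0 0 2406 0 2837 0 0 2836 0) (@D3.rec (fun _ => Nat) 0 0 0 0 0 0 0 0 0 0 0 0 0 0 0 0 0 0 0 0 0 0 0 0 0 0 0 0 0 0 0 0 0 0 0 0 0 2896 0 0 0 0 0 0 0 0 0 0 0 0 0 0 0 0 0 0 0 0 0 0 0 0) (@D3.rec (fun _ => Nat) 0 2410 0 0 0 0 0 0 0 0 0 0 0 0 0 0 0 0 0 0 0 0 0 0 0 0 0 0 0 0 0 0 0 0 0 0 0 0 0 0 0 0 0 0 0 0 0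 0 0 0 2421 0 0 0 0 0 0 0 0 0 0 0) z3_g (@D3.rec (fun _ => Nat) 0 0 0 0 0 0 0 0 0 0 0 0 0 0 0 2431 0 0 0 0 0 0 0 0 0 0 0 0 0 0 0 0 0 0 0 0 0 0 0 0 0 0 0 0 0 0 0 0 0 0 0 0 0 0 0 0 0 0 0 0 0 0) z3_g
def sd_g_18 : D2 → D3 → Nat := @D2.rec (fun _ => D3 → Nat) (@D3.rec (fun _ => Nat) 0 0 0 0 0 0 2920 0 0 0 0 0 0 0 0 0 0 0 0 0 0 0 0 0 0 0 0 0 0 0 0 0 0 0 0 0 0 0 0 0 0 0 0 0 0 0 0 0 0 0 0 0 0 0 0 0 0 0 0 0 0 0) (@D3.rec (fun _ => Nat) 0 0 0 0 0 0 0 0 0 0 0 0 0 0 0 0 0 0 0 0 0 0 0 0 0 0 0 0 0 0 0 0 0 0 0 0 2961 0 2890 0 0 0 0 0 0 0 0 0 0 0 0 0 0 0 0 0 0 0 0 0 0 0) (@D3.rec (fun _ => Nat) 0 0 0 0 0 0 0 0 0 0 0 0 0 0 0 0 0 0 2423 0 0 0 0 0 0 0 0 0 0 0 0 0 0 0 0 0 0 0 0 0 0 0 0 0 0 0 0 0 0 0 0 0 0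 0 0 0 0 0 0 2442 0 0) z3_g z3_g z3_g (@D3.rec (fun _ => Nat) 0 0 0 0 0 0 0 0 0 0 0 0 0 0 0 0 0 0 0 0 0 0 0 0 2449 0 0 0 0 0 0 0 0 0 0 0 0 0 0 0 0 0 0 0 0 0 0 0 0 0 0 0 0 0 0 0 0 0 0 0 0 0) (@D3.rec (fun _ => Nat) 0 0 0 0 0 0 0 0 0 0 0 0 0 0 850 0 0 0 0 0 0 0 0 0 0 0 0 0 0 0 0 0 0 0 0 0 0 0 0 0 0 0 0 0 0 0 0 0 0 0 0 0 0 0 0 0 0 0 0 0 0 0) z3_g z3_g (@D3.rec (fun _ => Nat) 0 0 0 2556 0 0 0 0 0 0 0 0 0 0 0 0 0 0 0 0 0 0 0 0 0 0 0 0 0 0 2522 0 0 0 0 0 0 0 0 0 0 0 0 0 0 2517 0 0 0 0 0 0 0 0 0 0 0 0 0 0 0 0) z3_g z3_g (@D3.rec (fun _ => Nat) 0 0 0 0 0 0 0 0 0 0 2646 0 0 0 0 0 0 0 0 0 0 0 0 0 0 0 0 0 0 0 0 0 0 0 0 0 0 0 0 0 0 0 0 0 0 0 0 0 0 0 0 0 0 0 0 2567 0 0 0 0 0 0) (@D3.rec (fun _ => Nat)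 0 0 0 0 0 0 0 0 0 2543 0 0 0 0 0 0 0 0 0 0 0 0 0 0 0 0 0 0 0 0 0 0 0 0 0 0 0 0 0 0 0 0 0 0 0 0 0 0 0 0 0 0 0 0 0 0 0 0 0 0 0 0) z3_g (@D3.rec (fun _ => Nat) 0 0 0 0 0 0 0 0 0 0 0 0 0 0 0 0 0 0 0 0 0 0 0 0 0 0 0 0 0 0 0 0 0 0 0 0 0 0 0 0 0 0 0 0 0 0 0 0 0 0 0 0 2523 0 0 0 0 0 0 0 0 0) (@D3.rec (fun _ => Nat) 0 0 2535 0 0 0 0 0 2578 0 0 0 0 0 0 0 0 0 0 0 0 0 2537 0 0 0 0 0 0 0 0 2642 0 0 0 0 0 0 0 0 0 0 0 0 0 0 0 0 0 0 0 0 0 0 0 0 0 0 0 0 0 0) z3_g (@D3.rec (fun _ => Nat) 0 0 0 0 0 0 0 0 0 0 0 0 0 0 0 2620 0 0 0 0 0 0 0 0 0 0 0 0 0 0 0 0 0 0 0 0 0 0 0 0 0 0 0 0 0 0 0 0 0 0 0 0 0 0 0 0 0 0 0 0 0 0) z3_g (@D3.rec (fun _ => Nat) 0 0 0 2631 0 0 0 0 0 0 0 0 0 0 0 0 0 0 0 0 0 0 0 0 0 0 0 2955 0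 0 0 0 0 0 0 0 0 0 0 0 0 0 0 0 0 0 0 0 0 0 0 0 0 0 0 0 0 0 0 0 0 0) (@D3.rec (fun _ => Nat) 0 0 0 0 0 0 0 0 0 0 0 0 0 0 0 0 0 0 0 0 0 0 0 0 0 0 0 0 0 3008 0 0 0 0 0 0 0 0 0 0 0 0 0 0 0 0 0 0 0 0 0 0 0 0 0 0 0 0 0 0 0 0) (@D3.rec (fun _ => Nat) 0 0 0 0 0 0 0 0 0 0 0 0 0 0 0 0 0 0 0 0 0 0 0 0 0 0 0 0 0 1863 0 0 0 0 0 0 0 0 0 0 0 0 0 0 0 0 0 0 0 0 0 0 0 0 0 0 0 0 0 0 0 0) (@D3.rec (fun _ => Nat) 0 0 0 0 0 0 0 0 0 0 2761 0 0 3040 0 0 0 0 0 0 0 0 0 0 0 0 0 0 0 0 0 0 0 0 1862 0 0 2575 0 0 0 0 0 0 0 0 0 0 0 0 0 0 0 2512 0 0 0 0 0 0 0 0) (@D3.rec (fun _ => Nat) 0 0 0 0 0 0 0 0 2597 0 0 0 0 764 0 0 0 0 0 0 0 0 0 0 0 0 0 0 0 0 0 0 0 0 0 0 0 0 0 0 0 0 0 0 0 0 0 0 0 0 0 0 0 0 0 0 0 0 0 0 0 0) (@D3.rec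 (fun _ => Nat) 0 0 0 0 0 0 0 2520 0 0 0 0 0 0 0 0 0 0 0 0 0 0 1069 0 0 0 0 0 0 0 0 0 0 0 0 0 0 0 0 0 0 0 0 0 0 0 0 0 0 0 0 0 0 0 0 0 0 0 0 0 0 0) (@D3.rec (fun _ => Nat) 0 0 0 0 0 0 0 0 0 0 0 0 0 0 0 0 0 0 0 0 0 0 2559 0 0 0 0 0 0 0 2603 0 0 0 0 0 0 0 0 0 0 0 0 0 0 0 0 0 0 0 0 0 0 0 0 0 0 0 0 0 0 2053) z3_g z3_g z3_g z3_g (@D3.rec (fun _ => Nat) 0 0 0 0 0 0 0 0 0 0 2557 0 0 0 0 0 0 0 0 0 0 0 0 0 0 0 0 0 0 0 0 0 0 0 0 0 0 0 0 0 0 0 0 0 0 0 0 0 0 0 0 0 0 0 0 0 0 0 0 2530 0 0) z3_g z3_g (@D3.rec (fun _ => Nat) 0 0 0 0 2540 0 0 0 0 0 0 0 0 0 0 0 0 0 0 0 0 0 0 0 0 0 0 0 0 0 0 0 0 0 0 0 0 2610 0 0 0 0 0 0 0 0 0 0 0 0 0 0 0 0 0 0 0 0 2618 0 2611 0) (@D3.rec (fun _ => Nat) 0 0 0 0 0 0 0 0 0 0 0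 0 0 0 0 0 0 0 0 0 0 0 0 0 0 2612 0 0 0 0 0 0 0 0 0 0 0 0 0 0 0 0 0 0 2627 0 0 0 0 0 0 0 0 0 0 0 0 0 0 0 0 0) (@D3.rec (fun _ => Nat) 0 0 0 0 0 0 0 2519 0 0 0 2614 0 0 0 0 0 0 0 0 0 0 0 0 0 0 0 0 0 0 0 0 0 0 0 0 0 0 0 0 0 2595 0 0 0 0 0 0 0 0 0 0 0 0 0 0 0 0 0 0 0 0) (@D3.rec (fun _ => Nat) 0 0 0 0 0 0 0 0 0 0 0 0 0 0 0 0 0 0 2513 0 0 0 0 0 0 0 0 0 0 0 0 0 0 0 0 0 0 0 0 0 0 0 0 0 0 0 0 0 0 0 0 0 0 0 0 0 0 0 0 0 0 0) z3_g z3_g (@D3.rec (fun _ => Nat) 0 0 0 0 0 0 0 0 0 0 0 0 0 0 0 0 0 0 0 0 0 0 0 0 0 0 0 0 0 0 0 0 0 0 0 0 0 0 0 0 0 0 0 0 0 0 0 0 0 0 0 0 0 0 0 0 0 0 0 3036 0 0) (@D3.rec (fun _ => Nat) 0 0 0 0 0 0 0 0 0 0 0 0 0 0 0 0 0 0 0 0 0 0 0 0 0 0 0 0 0 0 0 0 0 0 0 0 0 0 0 0 0 0 0 0 0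 838 0 0 0 0 0 0 0 0 0 0 0 0 0 0 0 0) (@D3.rec (fun _ => Nat) 0 0 0 0 0 0 0 0 0 0 0 2589 0 0 0 0 0 0 2156 0 0 0 0 0 0 0 2635 0 0 0 0 0 0 0 0 0 0 0 0 0 0 0 2774 0 0 2531 0 0 0 0 0 0 0 0 0 0 0 0 0 0 0 0) z3_g z3_g z3_g z3_g (@D3.rec (fun _ => Nat) 0 0 0 0 0 0 0 0 0 0 0 0 0 0 0 0 0 0 0 0 0 0 0 0 0 0 0 0 2662 0 0 0 0 0 0 0 0 0 0 0 0 0 0 0 0 0 0 0 0 0 0 0 0 0 0 0 0 0 0 0 0 0) z3_g (@D3.rec (fun _ => Nat) 0 0 0 0 0 0 0 0 0 0 0 0 0 0 0 0 0 0 0 0 0 0 0 0 0 0 0 0 0 2644 0 0 0 0 0 0 0 0 3035 0 0 0 0 0 0 0 0 0 0 0 0 0 0 0 0 2496 0 0 0 0 0 0) z3_g z3_g z3_g (@D3.rec (fun _ => Nat) 0 0 0 0 0 0 0 0 0 0 0 0 0 0 0 0 0 0 0 0 0 0 0 0 0 0 0 0 0 0 0 0 0 2619 0 0 0 0 0 0 0 0 0 0 0 0 0 0 0 0 0 0 0 0 0 0 0 0 0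 0 0 0) z3_g (@D3.rec (fun _ => Nat) 0 0 0 0 0 0 0 0 0 0 0 0 0 0 0 0 0 0 0 0 0 0 0 0 0 0 0 0 0 0 0 0 0 0 0 0 0 0 0 0 0 0 0 0 0 0 0 0 0 0 0 0 0 0 0 2558 0 0 0 0 0 0) (@D3.rec (fun _ => Nat) 0 0 0 0 0 0 0 0 0 0 0 0 0 0 0 0 0 0 0 2648 0 0 0 0 0 2932 0 0 2649 0 0 0 0 0 0 0 0 0 0 0 0 0 0 0 0 0 0 0 0 0 0 0 0 0 0 0 0 0 0 0 0 0) (@D3.rec (fun _ => Nat) 0 0 0 0 0 2641 0 0 0 0 0 0 0 0 0 0 0 0 0 0 0 0 0 0 0 0 0 0 0 0 0 0 0 0 0 0 0 0 0 0 0 0 0 0 0 0 0 0 0 0 0 0 0 0 0 0 0 0 0 0 0 0) z3_g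
def sd_g_19 : D2 → D3 → Nat := @D2.rec (fun _ => D3 → Nat) z3_g (@D3.rec (fun _ => Nat) 0 0 0 0 0 0 0 0 0 0 0 0 0 2647 0 0 0 0 0 0 0 0 0 0 0 0 0 0 0 0 0 0 0 0 0 0 0 0 0 0 0 0 0 0 0 0 0 0 0 0 0 0 0 0 0 0 0 0 0 0 0 0) (@D3.rec (fun _ => Nat) 0 0 0 0 0 0 0 0 0 0 0 0 0 0 0 0 0 0 0 2166 0 0 0 0 0 0 0 0 0 0 0 0 0 0 0 0 0 0 0 0 0 0 0 0 0 0 0 0 0 0 0 0 0 0 0 0 0 0 0 0 0 0) z3_g z3_g (@D3.rec (fun _ => Nat) 0 0 0 0 0 0 0 0 0 0 0 0 0 0 0 0 0 0 0 0 0 0 0 0 0 0 0 0 0 0 0 0 0 0 0 0 0 0 0 0 0 0 0 0 0 0 0 0 0 0 0 0 0 0 0 0 0 2669 0 0 0 0) (@D3.rec (fun _ => Nat) 0 0 0 0 0 0 0 2746 0 0 0 0 0 0 0 0 0 0 0 0 0 0 0 0 0 0 0 0 0 0 0 0 0 0 0 0 0 0 0 0 0 0 0 0 0 0 0 0 0 0 0 0 0 0 0 0 0 0 0 0 0 0) (@D3.rec (fun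 _ => Nat) 0 0 0 0 0 0 0 0 0 0 0 0 0 0 0 0 0 0 0 0 0 0 0 0 0 0 0 0 0 0 0 0 0 0 0 0 0 0 0 0 0 0 0 0 0 0 0 0 0 0 0 0 0 0 3023 0 0 0 0 0 0 0) (@D3.rec (fun _ => Nat) 0 0 0 0 0 0 0 0 0 0 0 0 0 0 0 0 0 0 0 0 0 0 0 0 0 0 0 0 0 0 0 0 0 0 0 0 0 0 0 0 0 0 0 0 0 0 0 0 3025 0 0 0 0 2549 0 0 0 0 0 0 0 0) (@D3.rec (fun _ => Nat) 0 0 0 0 0 0 0 0 0 0 0 0 0 0 0 0 0 0 0 0 0 0 0 0 0 0 0 0 0 0 0 0 3026 3027 0 0 0 0 0 2931 0 0 0 0 0 0 0 0 0 0 0 0 0 0 0 0 0 0 0 0 0 0) (@D3.rec (fun _ => Nat) 0 0 0 0 0 0 0 0 0 0 0 0 0 0 0 0 0 0 0 0 0 0 0 0 0 0 0 0 0 0 0 0 0 0 2664 0 0 0 0 0 0 0 0 0 0 0 0 0 0 0 0 0 0 0 0 0 0 0 0 0 0 0) z3_g (@D3.rec (fun _ => Nat) 0 0 0 0 0 0 0 0 0 0 0 0 0 0 0 0 0 0 0 0 0 0 0 0 0 0 0 0 0 0 0 0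 0 0 0 0 0 2743 0 0 0 0 0 0 0 0 0 0 0 0 0 0 0 0 0 0 0 0 0 0 0 0) z3_g z3_g (@D3.rec (fun _ => Nat) 0 0 0 0 0 0 0 0 0 0 0 0 0 0 0 0 0 0 0 0 0 0 0 0 0 2683 0 0 0 0 0 0 0 0 0 0 0 0 0 0 0 0 0 0 0 0 0 0 0 0 0 0 0 0 0 0 0 0 0 0 0 0) z3_g (@D3.rec (fun _ => Nat) 2102 0 0 0 0 0 0 0 0 0 0 0 0 0 0 0 0 0 0 0 0 0 0 0 0 0 0 0 0 0 0 0 0 0 0 0 0 0 0 0 0 2685 0 0 0 0 0 0 0 0 0 0 0 0 0 0 0 0 0 0 0 0) z3_g z3_g (@D3.rec (fun _ => Nat) 0 0 0 0 2688 0 0 0 0 0 0 0 0 0 0 0 0 0 0 0 0 0 0 0 0 0 0 0 0 0 0 0 0 0 0 0 0 0 0 0 0 0 0 0 0 0 0 0 0 0 0 0 0 0 0 0 0 0 0 0 0 0) (@D3.rec (fun _ => Nat) 0 0 0 0 0 0 0 0 0 0 0 0 0 0 0 0 0 0 0 0 0 0 0 0 0 0 0 0 0 0 0 0 0 0 0 2692 0 0 0 0 0 0 0 0 0 0 0 0 0 0 0 0 0 0 0 0 0 0 0 0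 0 0) (@D3.rec (fun _ => Nat) 0 0 0 0 0 0 0 0 0 0 0 0 0 0 0 0 0 0 0 0 0 0 0 0 0 0 0 0 0 0 0 0 0 0 0 0 0 0 0 0 0 0 0 0 0 0 0 0 0 0 0 0 0 0 0 0 0 0 2694 0 0 0) (@D3.rec (fun _ => Nat) 0 0 0 0 0 0 0 0 0 0 0 0 0 0 0 0 0 0 0 0 0 0 0 0 0 0 860 0 0 0 0 0 0 0 0 0 0 0 0 0 0 0 0 0 0 0 0 0 0 0 0 0 0 0 0 0 0 0 0 0 0 0) (@D3.rec (fun _ => Nat) 0 0 0 0 0 0 0 0 0 0 0 0 0 0 0 0 0 0 0 0 0 0 0 0 0 0 0 0 0 0 0 0 0 0 0 0 0 0 0 0 0 0 0 0 0 0 0 0 0 0 0 0 0 0 0 0 0 0 0 0 0 2445) (@D3.rec (fun _ => Nat) 0 0 0 0 0 0 0 0 0 0 0 2697 0 0 0 0 0 2708 3029 0 0 0 0 0 0 0 0 0 0 0 0 0 0 0 0 0 0 0 0 0 0 0 0 0 0 0 0 0 0 0 0 0 0 0 0 0 0 0 0 0 0 0) (@D3.rec (fun _ => Nat) 0 0 0 0 0 0 0 0 0 0 0 0 0 0 0 0 0 0 0 0 0 0 0 3032 0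 2720 0 0 2719 0 0 0 0 0 0 0 0 0 0 0 0 0 2072 0 0 0 0 0 0 0 0 0 0 0 0 0 0 0 0 0 0 0) (@D3.rec (fun _ => Nat) 0 0 0 0 0 0 0 0 0 0 0 0 0 0 0 0 0 0 0 0 0 0 0 0 0 0 2553 0 0 0 0 0 0 0 0 0 0 0 0 0 0 0 0 0 0 0 0 3048 0 0 0 0 0 0 0 0 0 0 0 0 0 0) z3_g z3_g z3_g z3_g (@D3.rec (fun _ => Nat) 0 0 0 0 0 0 0 0 0 0 0 0 0 0 2722 0 0 0 0 0 0 0 0 0 0 0 0 0 0 0 0 0 0 0 0 0 0 0 0 0 0 0 0 0 0 0 0 0 0 0 0 0 0 0 0 0 0 0 0 0 0 0) z3_g z3_g z3_g z3_g z3_g (@D3.rec (fun _ => Nat) 0 0 0 0 0 0 0 0 0 0 0 0 0 0 0 0 0 0 0 0 0 0 0 0 0 0 0 0 0 0 0 0 0 0 0 0 0 0 0 0 0 0 0 0 0 0 0 0 0 0 0 0 0 0 0 0 616 0 0 0 0 0) (@D3.rec (fun _ => Nat) 0 2681 0 0 0 0 0 0 0 0 0 0 0 0 0 0 0 0 0 0 0 0 0 0 0 0 0 0 0 0 0 0 0 0 0 0 0 0 0 0 0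 0 0 0 0 0 0 0 0 0 0 0 0 0 0 0 0 0 0 0 0 0) (@D3.rec (fun _ => Nat) 0 0 0 0 0 0 0 0 0 0 2725 2727 0 0 0 0 0 0 0 0 0 0 0 0 0 0 0 0 0 0 0 0 0 0 2624 0 0 0 0 0 0 0 0 0 0 0 0 0 0 0 0 2687 0 0 0 0 0 0 0 0 0 0) (@D3.rec (fun _ => Nat) 0 0 0 0 0 0 0 0 0 0 0 0 0 2667 0 0 0 0 0 0 0 0 0 0 0 0 0 0 0 0 0 0 0 0 0 0 0 0 0 0 0 0 0 0 0 0 0 0 0 0 0 0 0 0 0 0 0 0 0 0 0 0) (@D3.rec (fun _ => Nat) 0 0 0 0 0 0 0 0 0 0 0 0 0 0 0 0 0 0 0 0 0 0 0 0 0 0 0 0 0 0 0 0 0 0 0 0 0 0 3015 0 0 0 0 0 0 0 0 0 0 0 0 0 0 0 0 0 0 0 0 0 0 0) (@D3.rec (fun _ => Nat) 0 0 0 0 0 0 0 0 0 0 0 0 0 0 0 0 0 0 0 0 0 0 0 0 0 0 0 0 0 0 0 0 0 0 0 0 0 0 0 0 0 0 0 0 2731 0 0 0 0 0 0 0 0 0 0 0 0 0 0 0 0 0) (@D3.rec (fun _ => Nat) 0 0 0 0 0 0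 0 0 0 0 0 0 0 0 0 0 0 0 0 2516 0 0 0 0 0 0 0 0 0 0 0 0 0 0 0 0 0 0 0 0 0 0 0 0 0 0 0 0 0 0 0 0 0 0 0 0 2172 0 0 0 0 0) (@D3.rec (fun _ => Nat) 0 0 0 0 0 0 0 0 0 0 0 0 0 2733 0 0 0 0 0 0 0 0 0 0 0 0 0 0 0 0 0 0 0 0 0 0 0 0 0 0 0 0 0 0 0 0 0 0 0 0 0 0 0 0 0 0 0 0 0 0 0 0) z3_g (@D3.rec (fun _ => Nat) 0 0 0 0 0 0 0 0 2737 0 0 0 0 0 0 0 0 0 0 0 0 0 0 0 0 0 0 0 0 0 0 0 0 0 0 0 0 0 0 0 0 0 0 0 0 0 0 0 0 0 0 0 0 0 0 0 0 0 0 0 0 0) z3_g z3_g (@D3.rec (fun _ => Nat) 0 0 2171 0 0 0 0 0 0 2740 0 0 0 0 0 0 0 0 0 2741 0 0 0 0 0 0 0 0 0 0 0 0 0 0 0 0 0 0 0 0 0 0 2488 0 0 0 0 0 0 0 0 0 0 0 0 0 0 0 0 0 0 0) (@D3.rec (fun _ => Nat) 0 0 0 0 0 0 0 0 0 0 0 2744 0 0 0 0 0 0 0 0 0 0 0 0 0 0 0 0 0 0 0 0 0 0 0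 0 0 0 0 0 0 0 0 0 0 0 0 0 0 0 0 0 0 0 0 0 0 0 0 0 2119 0) z3_g (@D3.rec (fun _ => Nat) 0 0 0 0 0 0 0 0 0 0 0 0 0 0 0 0 0 0 0 0 0 0 0 0 0 0 0 0 0 0 0 0 0 0 0 0 0 0 0 0 0 0 0 0 0 0 0 0 0 0 0 0 0 0 0 0 0 0 2441 0 0 0) (@D3.rec (fun _ => Nat) 0 0 0 0 2135 0 0 0 0 0 0 0 0 0 0 0 0 0 2749 0 0 0 0 0 0 0 0 0 0 2440 0 0 0 0 0 0 0 0 0 0 0 0 0 0 0 0 0 0 0 0 0 0 0 0 0 0 0 0 0 0 0 0) z3_g z3_g (@D3.rec (fun _ => Nat) 0 0 0 0 0 0 0 0 0 0 0 0 0 0 0 0 0 0 0 0 0 0 0 0 2751 0 0 0 0 0 0 0 0 0 0 0 0 0 0 0 0 0 0 0 0 0 0 0 0 0 0 0 0 0 0 0 0 0 0 0 0 0) z3_g (@D3.rec (fun _ => Nat) 0 0 0 0 0 0 0 0 0 0 0 0 0 0 0 0 0 0 0 0 0 0 0 0 0 0 0 0 0 0 0 0 0 0 0 0 0 0 0 0 0 0 0 0 0 0 0 0 0 0 0 0 0 0 0 0 2781 0 0 0 0 0)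
def sd_g_20 : D2 → D3 → Nat := @D2.rec (fun _ => D3 → Nat) (@D3.rec (fun _ => Nat) 0 0 0 0 0 0 0 0 0 0 0 0 0 0 0 0 0 1141 0 0 0 0 0 0 0 0 0 0 0 0 0 0 0 0 0 0 0 0 0 0 0 0 0 0 0 0 0 0 0 0 0 0 0 0 2770 0 0 0 0 0 0 0) z3_g z3_g z3_g (@D3.rec (fun _ => Nat) 0 0 0 0 0 0 0 0 0 0 0 2104 0 0 0 0 0 0 0 0 0 0 0 0 0 0 0 0 0 0 0 0 0 0 0 0 0 0 0 0 0 0 0 0 0 0 0 0 0 0 0 0 0 0 0 0 0 0 2762 0 0 0) (@D3.rec (fun _ => Nat) 0 0 0 0 0 0 0 0 0 0 0 0 2728 0 0 0 0 0 0 0 0 0 2729 0 0 0 0 0 0 0 0 0 0 0 0 0 0 0 2763 0 0 0 0 0 0 0 0 0 0 0 0 0 0 0 0 2769 0 0 0 0 0 0) (@D3.rec (fun _ => Nat) 0 0 2758 0 0 0 0 0 0 0 0 0 0 0 0 0 0 0 0 0 0 0 0 0 0 0 0 0 0 0 0 0 0 0 0 0 0 0 0 0 0 0 0 0 0 0 0 0 0 2210 0 0 0 0 0 0 0 0 0 0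 0 0) (@D3.rec (fun _ => Nat) 0 0 0 0 0 0 0 0 0 0 0 0 0 0 0 0 2790 0 0 0 0 0 0 0 0 0 0 0 0 0 0 0 0 0 0 0 0 0 0 0 0 0 0 0 0 0 0 0 0 0 0 0 0 0 0 0 0 0 0 0 0 0) z3_g (@D3.rec (fun _ => Nat) 0 0 0 0 0 0 0 0 0 0 2784 0 0 0 0 0 0 0 0 0 0 0 0 0 0 0 0 0 0 0 0 0 0 0 0 0 0 0 0 2786 2851 0 0 0 0 0 0 0 0 0 0 0 0 0 0 0 0 0 0 0 0 0) z3_g z3_g (@D3.rec (fun _ => Nat) 0 0 0 0 0 0 0 0 0 0 0 0 0 2359 2952 0 0 0 0 0 0 0 0 0 0 0 0 0 0 0 0 0 0 0 0 0 0 0 0 0 0 0 2800 0 0 0 0 0 0 0 0 0 0 0 0 0 0 0 0 0 0 0) (@D3.rec (fun _ => Nat) 0 0 0 918 0 0 0 0 0 0 0 0 0 2839 0 0 0 0 0 0 0 0 0 0 0 0 0 0 0 0 0 0 0 0 0 0 0 0 0 2808 0 0 0 0 0 0 0 0 0 0 0 0 0 0 0 0 0 0 2810 0 0 0) (@D3.rec (fun _ => Nat) 0 0 2820 0 0 0 0 0 0 0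 0 2862 0 0 0 0 0 0 0 0 0 0 0 0 0 0 0 0 0 0 0 0 0 0 0 0 0 0 0 0 0 0 0 0 0 0 0 0 0 0 0 0 0 0 0 0 0 0 2815 0 0 0) (@D3.rec (fun _ => Nat) 0 2819 0 0 0 0 0 0 0 0 0 0 0 0 0 0 0 0 0 0 0 0 0 0 0 0 0 0 0 0 0 0 0 0 0 0 0 0 0 0 0 0 0 0 0 0 0 0 0 0 0 0 0 0 0 0 0 0 0 0 0 0) (@D3.rec (fun _ => Nat) 0 0 0 0 0 0 0 0 0 0 0 0 0 0 0 0 0 0 0 0 0 0 0 0 0 0 0 0 0 0 0 0 0 0 0 0 0 0 0 0 0 0 0 0 0 0 2814 0 0 0 0 0 0 0 0 0 0 0 0 0 0 0) (@D3.rec (fun _ => Nat) 0 0 0 0 0 0 0 0 0 0 0 0 0 0 1483 0 0 0 0 0 0 0 0 0 0 0 0 0 0 0 0 0 0 0 0 0 0 0 0 0 0 0 0 0 0 0 0 0 0 0 0 0 0 0 0 0 0 0 0 0 0 0) z3_g (@D3.rec (fun _ => Nat) 0 0 0 0 0 0 0 0 0 0 0 0 0 0 0 0 0 0 0 0 0 0 0 0 0 0 0 2823 0 2824 0 0 0 0 0 0 0 0 0 0 0 0 0 0 0 0 0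 0 0 0 0 0 0 0 0 0 0 0 0 0 0 0) (@D3.rec (fun _ => Nat) 0 0 0 0 0 0 0 0 0 0 0 0 0 2826 0 0 0 0 0 0 0 0 0 0 0 0 0 0 0 0 0 0 0 0 0 0 0 0 0 0 0 0 0 0 0 0 0 0 0 0 0 0 0 0 0 0 0 0 0 0 0 0) (@D3.rec (fun _ => Nat) 0 0 0 0 0 0 0 0 0 0 0 0 0 0 0 0 0 0 0 0 0 0 0 0 0 0 0 0 0 0 0 0 0 2829 0 0 0 0 0 0 0 0 0 0 0 0 0 0 0 0 0 0 0 0 0 0 0 0 0 0 2571 0) (@D3.rec (fun _ => Nat) 0 0 0 0 0 0 0 0 0 0 0 0 0 0 0 0 0 0 0 0 0 0 0 0 0 0 0 0 0 0 0 0 0 1873 0 0 0 0 0 0 0 756 0 0 0 0 0 0 0 0 0 0 2237 0 0 0 0 0 0 0 0 0) (@D3.rec (fun _ => Nat) 0 0 0 0 0 0 0 0 0 0 0 0 0 0 0 0 0 0 0 0 0 0 0 0 0 0 0 0 0 0 0 0 660 0 2387 0 0 0 1786 0 0 0 0 0 0 0 0 0 0 0 0 0 0 0 0 2234 0 0 0 0 0 0) z3_g (@D3.rec (fun _ => Nat) 0 0 0 0 0 0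 0 0 0 0 0 0 0 0 0 0 0 0 0 0 0 0 0 0 0 0 2789 0 2788 0 0 0 0 0 0 0 0 0 0 0 0 2572 0 0 0 0 0 0 0 0 0 0 2965 0 0 0 0 0 0 0 0 0) (@D3.rec (fun _ => Nat) 0 0 0 0 0 0 0 0 0 0 0 0 0 0 0 0 0 0 0 0 0 0 0 0 0 0 0 0 0 0 0 0 0 0 0 0 0 0 0 0 0 0 0 0 0 0 0 0 0 0 0 0 0 0 2975 0 0 0 0 0 0 0) (@D3.rec (fun _ => Nat) 0 0 0 0 0 0 2254 0 0 0 0 0 2913 0 0 0 0 0 0 0 0 0 0 0 0 0 0 0 0 0 0 0 0 0 0 0 0 0 0 0 0 0 0 0 0 0 0 0 0 0 0 0 0 0 0 0 0 0 0 2262 0 0) (@D3.rec (fun _ => Nat) 0 0 0 0 0 0 0 0 0 0 0 0 0 0 0 0 0 0 0 0 0 0 0 0 1361 0 0 0 0 0 0 0 0 0 0 0 0 0 0 0 0 0 0 0 0 0 0 0 0 0 0 0 0 0 0 0 0 0 0 0 0 0) (@D3.rec (fun _ => Nat) 0 0 0 0 0 0 0 0 0 0 0 0 0 2812 0 0 0 0 0 0 0 0 0 0 0 0 0 0 0 0 0 0 0 0 0 0 0 0 0 0 0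 0 0 0 0 0 0 0 0 0 0 0 0 0 0 0 0 0 0 0 0 0) (@D3.rec (fun _ => Nat) 0 0 0 0 0 0 0 0 0 0 0 0 0 0 0 0 0 0 0 0 0 0 0 0 0 0 0 0 0 0 0 0 0 0 0 0 0 0 0 0 2425 0 0 0 0 0 0 0 0 0 0 0 0 0 0 0 0 0 0 0 0 0) z3_g z3_g (@D3.rec (fun _ => Nat) 0 0 0 0 0 0 0 0 0 0 0 0 0 0 0 0 0 0 0 0 0 0 0 0 0 0 0 0 0 0 0 0 0 0 0 0 0 0 0 0 0 0 0 0 0 0 0 0 0 0 0 0 0 3051 0 0 0 0 0 0 0 0) z3_g (@D3.rec (fun _ => Nat) 1567 0 0 0 0 0 0 0 0 0 0 0 0 0 0 0 0 0 0 0 0 0 0 0 0 0 0 0 0 0 0 0 0 0 0 0 0 0 0 0 0 0 0 0 0 0 0 0 0 0 0 0 0 0 0 0 0 0 0 0 0 0) (@D3.rec (fun _ => Nat) 0 0 0 0 0 0 0 0 0 0 0 0 0 0 0 0 0 0 0 0 0 0 0 2950 0 0 0 0 0 0 0 0 0 0 0 0 0 0 0 0 0 0 0 0 0 0 0 0 0 0 0 0 0 0 0 0 0 0 0 0 0 0) z3_g z3_g (@D3.rec (fun _ =>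 Nat) 0 0 0 0 0 0 0 0 0 0 0 0 0 0 0 0 0 0 0 0 0 0 0 0 2215 0 0 0 0 0 0 0 0 0 0 0 0 0 0 0 0 0 0 0 0 0 0 0 0 0 0 0 0 0 0 0 0 0 0 0 0 0) (@D3.rec (fun _ => Nat) 0 0 0 0 2962 0 0 0 0 0 0 0 0 0 0 0 0 0 0 0 0 0 0 0 0 0 0 0 0 0 0 0 0 0 0 0 0 0 0 0 0 0 0 0 0 0 0 0 0 0 0 0 0 0 0 0 0 0 0 0 0 0) (@D3.rec (fun _ => Nat) 0 0 0 0 0 0 0 0 0 0 0 0 0 0 0 0 0 0 0 0 0 0 1004 0 0 0 0 0 0 0 0 0 0 0 0 0 0 0 0 0 0 0 0 0 0 0 0 0 0 0 0 0 0 0 0 0 0 0 0 0 0 0) (@D3.rec (fun _ => Nat) 0 0 0 0 0 0 0 0 0 0 0 0 0 0 0 0 0 0 0 0 0 0 0 0 0 0 0 0 0 0 0 0 0 0 0 0 0 0 0 0 0 0 0 0 0 0 0 0 0 0 0 0 0 0 0 0 0 0 0 2364 0 0) (@D3.rec (fun _ => Nat) 0 0 0 0 0 0 0 2966 0 0 0 0 0 0 0 0 0 0 0 0 0 0 0 0 0 0 0 0 0 0 0 0 0 0 0 0 0 0 0 0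 0 0 0 0 0 0 0 0 0 0 0 0 0 0 0 0 0 0 0 0 0 0) (@D3.rec (fun _ => Nat) 0 0 0 0 0 0 0 0 0 0 0 0 0 0 0 0 0 0 0 0 0 0 0 0 0 0 0 0 0 0 0 1019 1896 0 0 0 0 0 0 0 0 0 0 0 0 0 0 0 0 0 0 0 0 0 0 0 0 0 0 0 0 0) (@D3.rec (fun _ => Nat) 0 0 0 0 0 0 0 0 0 0 0 0 0 0 0 0 0 0 0 0 0 0 0 0 0 0 0 0 0 0 0 0 0 0 0 0 0 0 1882 0 0 0 0 0 0 0 0 0 0 0 0 0 2358 0 0 0 0 0 0 0 0 0) (@D3.rec (fun _ => Nat) 0 0 1989 0 0 0 0 0 0 0 0 2976 0 0 0 0 0 0 0 0 0 0 0 0 0 0 0 0 0 0 0 0 0 0 0 0 0 0 0 0 0 0 0 0 0 0 0 0 0 0 0 0 0 0 0 0 0 0 0 0 0 0) (@D3.rec (fun _ => Nat) 0 0 0 0 0 0 0 0 0 0 0 0 0 0 0 0 0 0 0 0 0 0 0 0 0 0 0 0 0 0 0 0 0 0 0 0 2978 0 0 0 0 0 0 0 0 0 0 0 0 0 0 0 0 0 0 0 0 0 0 0 0 0) (@D3.rec (fun _ => Nat) 0 0 0 2972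 0 0 0 0 0 0 0 0 0 0 0 0 0 0 0 0 0 0 0 0 0 0 0 0 0 0 0 0 0 0 0 0 0 0 0 0 0 0 0 0 0 0 0 0 0 0 0 0 0 0 0 0 0 0 0 0 0 0) z3_g (@D3.rec (fun _ => Nat) 0 0 0 0 0 0 0 0 0 0 0 0 0 0 0 0 0 0 0 0 0 0 0 0 0 0 0 0 0 0 0 0 0 0 0 0 0 0 0 0 0 0 0 0 0 0 0 0 0 0 1076 0 0 0 0 0 0 1140 0 0 0 0) (@D3.rec (fun _ => Nat) 0 0 0 0 0 0 0 0 0 0 0 0 0 0 0 0 0 0 0 0 0 0 0 0 0 0 0 0 0 0 0 0 1383 0 0 0 0 0 0 2278 0 0 0 0 0 0 0 0 0 0 0 0 0 0 0 0 0 0 0 0 0 0) z3_g (@D3.rec (fun _ => Nat) 0 0 0 0 0 0 0 0 0 0 0 0 0 0 0 0 0 0 0 0 0 0 0 0 0 0 0 0 0 0 0 0 0 0 0 0 0 0 0 0 0 0 0 0 0 0 0 0 0 0 3000 0 0 0 0 3001 0 0 0 0 0 0) (@D3.rec (fun _ => Nat) 0 0 0 0 0 0 0 0 0 0 0 0 0 0 0 0 0 0 0 0 0 0 0 0 0 2858 0 0 0 0 0 2502 0 0 0 0 0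 0 0 0 0 0 0 0 0 0 0 0 0 0 0 0 0 0 0 0 0 0 0 0 0 0) (@D3.rec (fun _ => Nat) 0 0 0 0 0 0 0 0 0 0 0 0 0 0 0 0 0 0 0 0 0 0 0 0 0 0 0 0 0 0 0 0 0 0 0 0 0 0 3022 0 0 0 0 0 0 0 0 0 0 0 0 0 0 0 0 0 0 0 0 0 0 0) z3_g z3_g (@D3.rec (fun _ => Nat) 0 0 0 0 0 0 0 0 0 0 0 0 0 0 0 0 0 0 0 0 0 0 0 0 0 0 0 0 0 0 0 0 0 0 0 0 0 0 0 0 0 0 0 0 0 0 0 0 0 0 879 0 0 0 0 0 0 0 0 0 0 0) (@D3.rec (fun _ => Nat) 0 0 0 0 0 0 0 0 0 0 0 0 0 0 0 0 0 0 0 0 0 0 0 0 0 0 0 0 0 2696 0 0 0 0 0 0 0 0 0 0 0 0 0 0 0 0 0 0 0 0 0 0 0 0 0 0 0 0 0 0 0 0)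
def sd_g_21 : D2 → D3 → Nat := @D2.rec (fun _ => D3 → Nat) z3_g (@D3.rec (fun _ => Nat) 0 0 3030 0 0 0 0 0 2107 0 2706 0 0 0 0 0 0 0 0 0 0 0 0 0 0 0 0 0 0 0 0 0 3031 0 0 0 0 0 0 0 0 0 0 0 0 0 0 0 0 3020 0 0 0 0 0 0 0 0 0 0 0 0) z3_g (@D3.rec (fun _ => Nat) 0 2580 0 0 0 0 0 0 0 0 0 0 2638 0 0 0 0 0 0 0 0 0 0 0 0 0 0 0 0 0 0 0 0 0 0 0 0 0 0 0 0 0 0 0 0 0 0 0 0 0 0 0 0 0 0 0 0 0 0 0 0 0) (@D3.rec (fun _ => Nat) 0 0 0 0 0 0 0 0 0 0 0 0 0 0 0 0 0 0 0 0 0 0 0 0 0 0 0 0 0 0 0 0 0 0 0 0 0 0 0 0 0 0 0 0 0 0 0 0 0 0 0 3059 0 0 0 0 0 0 0 0 0 0) (@D3.rec (fun _ => Nat) 0 0 0 0 0 0 0 0 0 0 0 0 0 0 0 0 0 0 0 0 0 0 0 0 0 0 0 0 0 0 0 0 0 0 0 0 0 0 0 0 0 0 0 0 0 0 0 0 0 0 0 0 0 0 0 0 0 0 0 320 0 0) (@D3.rec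 (fun _ => Nat) 0 0 0 0 0 0 0 0 0 0 0 0 0 0 0 0 3061 0 0 0 0 0 0 0 1491 0 0 0 0 0 0 0 0 0 0 0 0 0 0 0 0 0 0 0 0 0 0 0 0 0 0 0 0 0 0 0 0 0 0 0 0 0) (@D3.rec (fun _ => Nat) 0 0 0 0 0 0 0 0 0 0 0 0 0 0 0 0 0 0 0 0 0 0 0 0 0 0 0 0 0 0 0 0 0 0 0 0 0 0 0 0 0 0 0 0 0 0 0 0 0 0 0 0 0 0 0 1950 0 0 0 0 0 0) (@D3.rec (fun _ => Nat) 0 0 0 0 0 0 0 0 0 0 0 0 0 0 0 0 0 0 0 0 0 0 3069 0 0 0 0 0 0 0 0 0 0 0 0 0 0 0 0 0 0 0 0 0 0 0 0 0 0 0 0 0 0 0 0 0 0 0 0 0 0 0) z3_g z3_g z3_g z3_g z3_g (@D3.rec (fun _ => Nat) 0 0 0 0 0 0 0 0 0 0 0 0 0 0 0 0 0 1682 3089 0 0 0 0 0 0 0 0 0 0 0 0 0 0 0 0 0 0 0 0 0 0 0 0 0 0 0 0 0 3090 0 0 0 0 0 0 0 0 0 0 0 0 0) (@D3.rec (fun _ => Nat) 0 0 0 0 0 0 0 0 0 0 0 0 0 0 0 0 0 0 0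 0 0 0 0 0 0 0 0 0 0 0 0 0 0 0 0 0 0 0 0 0 0 2426 0 0 0 0 0 0 0 0 0 0 0 0 0 0 0 0 0 0 0 0) z3_g z3_g z3_g z3_g (@D3.rec (fun _ => Nat) 0 0 0 0 0 0 0 0 0 0 0 0 0 0 2417 0 0 0 0 0 0 0 0 0 0 0 0 0 0 0 0 0 0 0 0 0 0 0 0 0 0 0 0 0 0 0 0 0 0 0 0 0 0 0 0 0 0 0 0 0 0 0) (@D3.rec (fun _ => Nat) 0 0 0 0 0 0 0 0 0 0 0 0 0 0 0 0 0 0 0 0 0 0 0 0 0 0 0 0 0 0 0 0 0 0 0 0 1284 0 0 0 0 0 0 0 0 0 2281 0 0 0 0 0 0 0 0 0 0 0 0 0 0 0) (@D3.rec (fun _ => Nat) 0 0 0 0 0 0 0 0 0 0 0 0 0 0 0 0 0 0 0 0 0 0 0 0 0 0 0 0 0 0 0 0 0 0 0 0 3073 0 0 0 0 0 0 0 0 0 0 0 0 0 0 0 0 0 0 0 0 1386 0 0 0 0) z3_g z3_g z3_g z3_g (@D3.rec (fun _ => Nat) 0 0 0 0 0 0 0 0 0 0 0 0 0 0 0 0 0 0 0 0 0 0 0 0 0 0 0 0 0 0 0 0 0 0 0 0 0 0 0 0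 0 0 0 0 0 0 0 0 1130 0 0 0 0 0 0 0 0 0 0 0 0 0) z3_g z3_g z3_g (@D3.rec (fun _ => Nat) 0 0 0 0 0 0 0 0 0 0 0 0 0 0 0 0 0 0 0 0 0 0 0 0 0 0 0 0 0 0 0 0 0 0 0 0 0 0 0 0 0 0 0 2892 0 0 0 0 0 0 0 0 0 0 0 0 0 0 0 0 0 0) z3_g z3_g z3_g z3_g (@D3.rec (fun _ => Nat) 0 0 0 0 0 0 0 0 0 0 0 0 0 0 0 0 0 0 0 0 0 0 0 0 0 0 0 0 0 0 0 0 0 0 0 0 0 1900 0 0 2012 2216 0 0 0 0 0 0 0 1936 1177 0 0 0 0 0 0 0 0 0 0 0) z3_g (@D3.rec (fun _ => Nat) 0 0 0 0 0 0 0 0 0 0 0 0 0 0 0 0 0 0 0 0 0 0 0 0 1998 0 0 0 0 0 0 0 0 0 2315 0 0 0 0 0 0 0 0 0 0 0 0 0 0 0 0 0 0 0 0 0 0 0 0 0 0 0) z3_g (@D3.rec (fun _ => Nat) 0 0 0 0 0 0 0 0 0 0 0 0 0 0 0 0 0 0 0 0 0 0 0 1927 0 0 0 0 0 0 0 0 0 0 0 0 0 0 0 0 0 0 0 0 0 0 0 0 0 0 0 0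 0 0 0 0 0 0 0 0 0 0) (@D3.rec (fun _ => Nat) 0 0 0 0 0 0 0 0 0 0 0 0 0 0 0 0 0 0 0 0 0 447 1850 1849 0 0 0 0 0 0 0 0 0 0 0 0 0 0 0 0 0 0 0 0 0 0 0 0 0 0 0 0 0 0 0 0 0 0 0 0 0 0) z3_g (@D3.rec (fun _ => Nat) 0 0 0 0 0 0 0 0 0 0 0 0 0 0 0 0 0 0 0 0 0 0 0 0 0 0 0 1093 0 1090 0 0 0 0 0 0 0 0 0 0 0 0 0 0 0 0 0 0 0 0 0 0 0 0 0 0 0 0 0 0 0 0) (@D3.rec (fun _ => Nat) 0 0 0 0 0 0 0 0 0 0 0 0 0 0 0 0 0 0 0 0 0 0 0 0 0 0 0 0 0 0 0 0 0 0 0 0 0 0 0 0 2222 0 0 0 0 0 0 0 0 0 0 0 0 0 0 0 0 0 0 0 0 0) (@D3.rec (fun _ => Nat) 0 0 0 0 0 0 0 0 0 0 0 0 0 0 0 0 0 0 0 0 0 0 0 0 0 0 0 1345 0 0 1439 0 0 0 0 0 0 0 0 0 0 0 0 0 0 0 0 0 0 0 0 0 0 0 0 0 0 0 0 0 0 0) z3_g z3_g (@D3.rec (fun _ => Nat) 0 0 0 0 0 0 0 0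 0 0 0 0 1731 0 0 0 0 0 0 0 0 0 0 0 0 0 0 0 0 0 1999 0 0 0 0 0 0 0 0 0 0 0 0 0 0 0 0 0 0 0 0 0 0 0 0 0 0 0 0 0 0 0) z3_g (@D3.rec (fun _ => Nat) 0 0 0 0 0 0 0 0 0 0 0 0 0 0 0 0 0 0 0 0 0 0 0 0 0 0 0 0 0 0 1417 0 0 0 0 0 0 0 0 0 0 0 0 0 0 0 0 0 0 0 0 0 0 0 0 0 0 2252 0 0 0 0) z3_g (@D3.rec (fun _ => Nat) 0 0 0 0 0 0 0 0 0 0 0 0 0 0 0 0 0 0 0 0 0 0 0 0 0 0 0 0 0 0 0 0 0 0 0 0 0 0 0 0 0 0 0 0 0 0 0 0 0 0 0 0 0 0 0 0 0 0 0 1795 0 0) z3_g z3_g z3_g z3_g (@D3.rec (fun _ => Nat) 0 0 0 0 0 0 0 0 0 0 0 0 0 0 0 0 0 0 0 0 0 0 0 0 0 0 0 1665 0 0 0 0 0 0 0 0 0 0 0 0 0 0 0 0 0 0 0 0 0 0 0 0 0 0 0 0 0 0 0 0 0 0) (@D3.rec (fun _ => Nat) 0 0 0 0 0 0 0 0 0 0 0 0 0 0 0 0 0 0 0 0 0 0 0 0 0 0 0 1622 0 0 0 0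 0 0 0 0 0 0 0 0 0 0 0 0 0 0 0 0 0 0 0 0 0 0 0 0 0 0 1994 0 0 0) (@D3.rec (fun _ => Nat) 0 0 0 0 0 0 0 0 0 0 0 0 0 0 0 0 0 0 2388 0 0 0 0 0 0 0 0 0 0 0 0 0 0 0 0 0 0 0 0 0 0 0 0 0 0 0 0 0 0 0 0 0 0 0 0 0 0 0 0 0 0 0)
def sd_g_22 : D2 → D3 → Nat := @D2.rec (fun _ => D3 → Nat) (@D3.rec (fun _ => Nat) 0 0 0 0 0 0 0 0 0 1451 0 0 0 0 0 0 0 0 0 0 0 0 0 0 0 0 0 0 0 0 0 0 0 0 0 2375 0 0 0 0 0 0 0 0 0 0 0 0 0 0 0 0 0 0 0 0 0 0 0 0 2301 0) z3_g z3_g (@D3.rec (fun _ => Nat) 0 0 0 0 0 0 0 0 0 0 0 0 0 0 0 0 0 0 0 0 0 0 0 0 0 0 0 0 0 0 0 0 0 0 0 0 0 1824 0 0 0 0 0 0 0 0 0 0 0 0 0 0 0 0 0 0 0 0 0 0 0 0) (@D3.rec (fun _ => Nat) 0 0 0 0 0 0 0 0 0 0 0 0 0 0 0 0 0 0 0 0 0 0 0 0 0 0 0 0 0 0 0 0 0 0 0 0 2370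 0 0 0 0 0 0 0 0 0 0 0 0 0 0 0 0 0 0 0 0 0 0 0 0 0) z3_g (@D3.rec (fun _ => Nat) 0 0 0 0 0 0 0 0 0 0 0 0 0 0 0 0 0 0 0 0 0 0 0 0 0 0 0 0 0 0 0 0 0 0 0 0 0 0 0 733 0 0 0 0 0 0 0 0 0 0 0 0 0 0 0 0 0 0 0 0 0 0) (@D3.rec (fun _ => Nat) 0 0 0 0 0 0 0 0 0 0 0 0 0 0 0 0 0 0 0 0 0 0 0 0 0 0 0 0 0 2351 0 0 0 0 0 0 0 0 0 0 0 0 0 0 0 0 0 0 0 0 0 0 0 0 0 0 0 0 0 0 0 0) (@D3.rec (fun _ => Nat) 0 0 0 0 0 0 0 0 0 0 0 1929 0 0 0 0 0 0 0 0 0 0 0 0 0 0 0 0 0 0 0 0 0 0 0 0 0 0 0 0 0 0 0 0 0 0 0 0 0 0 0 0 0 0 0 0 0 0 0 0 0 0) z3_g (@D3.rec (fun _ => Nat) 0 0 0 0 0 0 0 0 0 0 0 0 0 0 0 0 0 0 0 0 0 0 0 0 0 0 0 0 0 0 0 0 0 0 0 0 0 0 0 0 0 0 0 0 0 0 0 0 0 0 0 0 0 0 0 0 0 0 0 0 3070 0) (@D3.rec (fun _ => Nat) 0 0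 0 0 0 0 0 0 0 0 0 0 0 0 0 0 0 0 0 0 0 0 0 0 0 0 0 0 0 0 0 0 0 0 0 0 0 0 0 0 0 0 0 0 0 0 0 0 0 0 0 0 0 0 0 780 0 0 0 0 0 0) z3_g (@D3.rec (fun _ => Nat) 0 0 0 0 564 0 0 0 0 0 0 0 0 0 0 0 0 0 0 0 0 0 0 0 0 0 0 0 0 0 0 0 0 0 0 0 0 0 0 0 0 0 0 0 0 0 0 0 0 0 0 0 0 0 0 0 0 0 0 0 0 0) (@D3.rec (fun _ => Nat) 0 0 0 0 0 0 0 0 0 0 0 0 0 0 0 0 0 0 0 0 0 0 0 0 0 0 0 0 0 0 0 0 0 0 0 0 0 0 0 0 0 0 1512 0 0 0 0 0 0 0 0 0 0 0 0 0 0 0 0 0 0 0) (@D3.rec (fun _ => Nat) 0 0 0 0 0 0 0 0 0 0 0 0 0 0 0 0 0 0 0 0 0 0 0 0 0 0 0 0 0 0 0 0 0 0 0 0 0 0 0 0 0 0 0 0 0 0 0 0 0 0 0 0 1809 0 0 0 0 0 0 0 0 0) (@D3.rec (fun _ => Nat) 0 0 0 0 0 0 0 0 0 0 0 0 0 0 337 0 1961 0 0 0 0 0 0 0 0 0 0 0 0 0 0 0 0 0 0 0 0 0 0 0 0 0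 0 0 1514 0 0 0 0 0 0 0 0 0 0 0 0 0 0 0 0 0) z3_g z3_g z3_g (@D3.rec (fun _ => Nat) 0 0 0 0 0 0 0 0 0 0 0 0 0 0 0 0 0 0 0 0 0 0 0 0 0 1518 0 0 0 0 0 0 0 0 0 0 0 0 0 0 0 0 0 0 0 0 0 0 0 0 0 0 0 0 0 0 0 0 0 0 0 0) z3_g (@D3.rec (fun _ => Nat) 0 0 0 0 0 0 0 0 0 0 0 0 0 0 0 0 0 0 0 0 0 0 0 0 2022 0 0 0 0 0 0 0 0 0 0 0 0 0 0 0 0 1135 0 0 0 0 0 0 0 0 0 0 0 0 0 0 0 0 0 0 0 0) z3_g z3_g z3_g z3_g z3_g (@D3.rec (fun _ => Nat) 0 0 0 0 0 0 0 0 0 0 0 1819 0 0 0 0 0 0 0 0 0 0 0 0 0 0 0 0 0 0 0 0 0 0 0 0 0 0 0 0 0 0 0 0 0 0 0 0 0 0 0 0 0 0 0 0 0 0 0 0 0 0) z3_g (@D3.rec (fun _ => Nat) 0 0 0 0 0 0 0 0 0 0 0 0 0 0 0 0 0 0 1541 0 0 0 0 0 0 0 0 0 0 0 0 0 0 0 0 0 0 0 0 0 0 0 0 0 0 0 0 0 0 0 0 0 0 0 0 0 0 0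 0 161 0 0) z3_g (@D3.rec (fun _ => Nat) 0 0 0 0 0 0 0 0 0 0 0 0 0 0 0 0 0 0 0 0 0 0 0 0 1801 0 0 0 0 0 0 0 0 0 0 0 0 0 0 0 0 0 0 0 0 0 0 0 0 0 0 0 0 0 0 0 0 0 0 0 0 0) (@D3.rec (fun _ => Nat) 0 0 0 0 0 0 0 0 0 0 0 0 0 0 0 0 0 0 0 0 0 0 0 0 0 0 0 0 0 0 0 0 0 0 0 0 0 0 0 0 0 0 0 496 0 0 0 0 0 0 0 0 0 0 0 0 0 0 0 0 0 0) (@D3.rec (fun _ => Nat) 1611 0 0 0 2621 0 0 0 0 0 0 0 0 0 0 0 0 0 0 0 0 0 0 0 0 0 0 0 0 0 0 0 0 0 0 0 0 0 0 0 0 0 0 0 0 0 0 0 0 0 0 0 0 0 0 0 0 0 0 0 0 0) z3_g (@D3.rec (fun _ => Nat) 0 0 0 0 0 0 0 1531 0 0 0 0 0 0 0 0 0 0 0 0 0 0 0 0 0 0 0 0 0 0 0 0 0 0 0 2020 0 0 0 0 0 0 0 0 0 0 0 0 0 0 0 0 0 0 0 0 0 0 0 0 0 0) (@D3.rec (fun _ => Nat) 0 0 0 0 0 0 0 0 0 1792 0 0 0 0 0 0 0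 0 0 0 0 0 0 0 0 1947 0 0 0 0 0 0 0 0 0 1773 0 0 0 0 0 0 0 0 0 0 0 0 0 0 0 0 0 0 0 0 0 0 0 0 0 0) z3_g z3_g (@D3.rec (fun _ => Nat) 0 0 0 0 0 0 0 0 0 0 0 0 0 0 0 0 0 0 0 0 0 0 0 0 0 0 0 2912 0 0 0 0 0 0 0 0 0 0 0 0 0 0 0 0 0 0 0 0 0 0 0 0 0 0 0 0 0 0 0 0 0 0) z3_g z3_g z3_g (@D3.rec (fun _ => Nat) 0 0 0 0 0 0 0 0 0 0 0 0 0 0 0 0 0 0 0 0 0 0 0 0 0 0 0 0 0 0 0 0 0 0 0 0 0 0 0 0 1629 0 0 0 0 0 0 0 0 0 0 0 0 0 0 0 0 0 0 0 0 0) (@D3.rec (fun _ => Nat) 0 0 0 0 0 0 0 0 0 0 0 0 0 0 0 0 0 0 0 0 0 0 0 0 0 0 0 0 0 0 0 0 0 0 0 1818 0 0 0 0 0 0 0 0 0 0 1975 0 0 0 0 0 0 0 0 0 0 0 0 0 0 0) (@D3.rec (fun _ => Nat) 0 0 0 0 0 0 0 0 0 0 0 0 0 0 0 0 0 0 0 0 0 0 0 0 0 0 0 0 0 0 0 0 0 0 0 0 0 0 0 0 0 0 0 0 0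 0 0 0 0 0 0 0 0 0 0 0 0 1916 0 0 0 0) z3_g z3_g z3_g (@D3.rec (fun _ => Nat) 0 0 0 0 0 0 0 0 0 0 0 0 0 0 0 0 0 0 0 0 0 0 0 0 0 0 0 0 0 0 0 0 0 0 0 0 0 0 0 0 0 0 0 0 0 0 0 0 1615 0 0 0 0 0 0 0 0 0 0 0 0 0) z3_g z3_g z3_g z3_g z3_g z3_g z3_g z3_g z3_g
def sd_g_23 : D2 → D3 → Nat := @D2.rec (fun _ => D3 → Nat) z3_g z3_g (@D3.rec (fun _ => Nat) 0 0 0 0 0 0 0 0 0 0 0 0 0 0 0 0 0 0 0 0 0 0 0 0 1925 0 0 0 0 0 0 0 0 0 0 0 0 0 0 0 0 0 0 0 0 0 0 0 0 0 0 0 0 0 0 0 0 0 0 0 0 0) (@D3.rec (fun _ => Nat) 0 0 0 0 0 0 0 0 0 0 0 0 0 0 0 0 0 0 0 0 0 0 0 0 0 3091 0 0 0 0 0 0 0 0 0 0 0 0 0 0 0 0 0 0 0 0 0 0 0 0 0 0 0 0 0 0 0 0 0 0 0 0) z3_g z3_g (@D3.rec (fun _ => Nat) 0 0 0 0 0 0 0 0 0 0 0 0 0 0 0 0 0 0 0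 0 0 0 0 0 0 0 0 0 0 0 0 0 0 0 1573 0 0 0 0 0 0 0 0 0 0 0 0 0 0 0 0 0 0 0 0 0 0 0 0 0 0 0) (@D3.rec (fun _ => Nat) 0 0 0 0 0 0 0 0 0 0 0 0 0 0 0 0 0 0 0 0 0 0 0 0 0 0 0 0 0 0 0 0 0 0 0 0 0 0 0 0 0 0 0 0 0 0 0 0 0 0 0 0 0 0 433 0 0 0 0 0 0 0) (@D3.rec (fun _ => Nat) 0 0 0 0 0 0 0 0 0 0 0 0 0 0 0 0 0 0 0 0 0 0 0 0 0 0 0 0 0 0 0 0 0 0 0 0 0 0 0 0 0 0 0 0 0 0 0 0 0 0 0 0 0 1603 0 0 0 0 0 0 0 0) z3_g z3_g z3_g z3_g z3_g z3_g z3_g z3_g (@D3.rec (fun _ => Nat) 0 0 0 0 0 0 0 0 0 0 0 0 0 0 0 0 0 0 0 0 0 0 0 0 0 0 0 0 0 0 0 0 0 0 0 0 0 0 0 0 0 0 0 0 0 0 0 0 0 0 0 0 0 0 0 1825 0 0 0 0 0 0) z3_g z3_g (@D3.rec (fun _ => Nat) 0 0 0 0 0 0 0 0 0 0 0 0 0 0 0 0 0 0 0 0 0 0 0 0 0 0 0 0 0 0 0 0 1609 0 0 0 0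 0 0 0 0 0 0 0 0 0 0 0 0 0 0 0 0 0 0 0 0 0 0 0 0 0) z3_g (@D3.rec (fun _ => Nat) 0 0 0 0 0 0 0 0 0 0 0 0 0 0 0 0 0 0 0 0 0 0 0 0 0 0 0 0 0 0 0 0 0 0 0 0 0 0 0 0 0 0 0 0 0 0 0 0 0 0 0 0 0 526 0 0 0 0 0 0 0 0) z3_g z3_g z3_g z3_g z3_g (@D3.rec (fun _ => Nat) 0 0 0 0 0 0 0 1623 0 0 0 0 0 0 0 0 0 0 0 0 0 0 0 0 0 0 0 0 0 0 0 0 0 0 0 0 0 0 0 0 0 0 0 0 0 0 0 0 0 0 0 0 0 0 0 0 0 0 0 0 0 0) z3_g z3_g z3_g z3_g z3_g z3_g z3_g z3_g (@D3.rec (fun _ => Nat) 0 0 0 0 0 0 0 0 0 0 0 0 0 0 0 0 0 0 0 0 0 0 0 0 0 0 0 0 0 0 0 0 0 0 0 0 0 2798 0 0 0 0 0 0 0 0 0 0 0 0 0 0 0 0 0 0 0 0 0 0 0 0) z3_g z3_g z3_g z3_g z3_g z3_g (@D3.rec (fun _ => Nat) 0 0 0 0 0 0 0 0 0 0 0 0 0 0 0 0 0 0 0 0 0 0 0 0 0 0 0 0 0 0 0 0 0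 0 0 0 0 0 0 0 0 0 1642 0 0 0 0 0 0 0 0 0 0 0 0 0 0 0 0 0 0 0) (@D3.rec (fun _ => Nat) 0 0 0 0 0 0 0 0 0 0 0 0 1933 0 0 0 0 0 0 0 0 0 0 0 0 0 0 0 0 0 0 0 0 0 0 0 0 0 0 0 0 0 0 0 0 0 0 0 0 0 0 0 0 0 0 0 0 0 0 0 0 0) (@D3.rec (fun _ => Nat) 0 0 0 0 0 0 0 0 0 0 0 0 0 0 0 0 0 0 0 0 0 0 0 0 0 0 0 0 0 0 0 0 0 0 0 0 0 0 0 0 0 0 0 1660 0 1661 0 0 0 0 0 0 0 0 0 0 0 0 0 0 0 0) z3_g (@D3.rec (fun _ => Nat) 0 0 0 0 0 0 0 0 0 0 0 1962 0 0 0 0 0 0 0 0 0 0 0 0 0 0 0 0 0 0 0 0 0 0 0 0 0 0 0 0 0 0 0 0 0 0 0 0 0 0 0 0 0 0 0 0 0 0 0 0 0 0) (@D3.rec (fun _ => Nat) 0 0 0 0 0 0 0 0 0 0 0 0 0 0 0 0 0 0 0 0 0 0 0 0 0 0 0 0 0 0 0 0 1952 0 0 0 0 0 0 0 0 0 0 0 0 0 0 0 0 0 0 0 0 0 0 0 0 0 0 0 0 0) z3_g z3_g (@D3.rec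 (fun _ => Nat) 0 0 0 0 0 0 0 0 0 0 0 0 0 0 0 0 0 0 0 0 0 0 1608 0 0 0 0 0 1697 0 0 0 0 0 0 0 0 0 0 0 0 0 0 0 1751 0 0 0 0 0 0 0 0 0 0 0 0 0 0 0 0 0) (@D3.rec (fun _ => Nat) 0 0 0 0 0 0 0 0 0 0 0 0 0 0 0 0 0 0 0 0 0 0 0 0 0 0 0 0 0 0 0 0 0 0 0 0 0 0 0 0 0 0 0 0 0 0 0 0 0 0 0 0 0 0 0 0 0 0 0 0 0 2377) (@D3.rec (fun _ => Nat) 0 0 0 0 0 0 0 0 0 0 0 0 0 0 0 0 0 0 0 2376 0 0 0 0 0 0 0 0 0 0 0 0 0 0 0 0 0 0 0 0 0 0 0 0 0 0 0 0 0 0 0 0 0 0 0 0 0 0 0 0 0 0) z3_g (@D3.rec (fun _ => Nat) 0 0 0 0 0 0 0 0 0 0 0 0 0 0 0 0 0 0 0 0 0 0 0 0 0 0 0 0 0 0 0 0 0 0 0 0 1528 0 0 0 0 0 0 0 0 0 0 0 0 0 0 0 0 0 0 0 0 0 0 0 0 0) (@D3.rec (fun _ => Nat) 0 0 0 0 0 0 0 0 0 0 0 0 0 0 0 0 0 0 0 0 0 0 0 0 1529 0 0 0 0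 0 0 0 0 0 0 0 0 0 0 0 0 0 0 0 0 0 0 0 0 0 0 0 0 0 0 0 0 0 0 0 0 0) (@D3.rec (fun _ => Nat) 0 0 0 0 0 0 0 0 0 0 0 0 0 0 0 0 0 0 0 1717 0 0 0 0 0 0 0 0 0 0 0 0 0 0 0 0 0 0 0 0 0 0 0 0 0 0 0 0 0 0 0 0 0 0 0 0 0 0 0 0 0 0) (@D3.rec (fun _ => Nat) 0 0 0 0 0 0 0 0 0 0 0 0 0 0 0 0 0 0 0 1953 0 0 0 0 0 0 0 0 0 0 0 0 0 0 0 0 0 0 0 0 0 0 0 0 0 0 0 0 0 0 0 0 0 0 0 0 0 0 0 0 0 0)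
def sd_g_24 : D2 → D3 → Nat := @D2.rec (fun _ => D3 → Nat) (@D3.rec (fun _ => Nat) 0 0 0 0 0 0 0 0 0 0 0 0 0 0 0 513 0 0 0 0 0 0 0 0 0 0 0 0 0 0 0 0 0 0 0 0 0 0 1726 0 0 0 0 0 0 0 0 0 0 0 0 0 0 0 0 0 0 0 0 0 0 0) z3_g z3_g (@D3.rec (fun _ => Nat) 0 0 0 0 0 0 0 0 0 0 0 0 0 0 0 0 0 0 0 0 0 0 0 0 0 0 0 0 0 0 0 0 0 0 0 0 0 0 0 0 0 0 0 0 0 0 0 0 0 2021 0 0 0 0 0 0 0 0 0 0 0 0) z3_g z3_g z3_g (@D3.rec (fun _ => Nat) 0 0 0 0 0 0 0 0 0 0 0 0 0 0 0 0 0 0 0 0 0 0 0 0 0 0 0 0 0 0 0 0 0 0 0 0 0 0 0 0 0 0 0 1944 0 0 0 0 0 0 0 0 0 0 0 0 0 0 0 0 0 0) z3_g (@D3.rec (fun _ => Nat) 0 0 0 0 0 0 0 0 0 0 0 0 0 0 0 0 0 0 0 0 0 0 0 0 0 0 0 0 0 0 0 0 0 0 0 0 0 0 0 0 0 0 0 0 0 0 0 1752 0 0 0 0 0 0 0 0 0 0 0 0 0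 0) (@D3.rec (fun _ => Nat) 0 0 0 0 0 0 0 0 0 0 0 0 0 0 0 0 0 0 0 0 0 0 0 0 0 0 0 0 0 0 0 0 0 0 0 0 0 1647 0 0 0 0 0 0 0 0 0 0 0 0 0 0 0 0 0 0 0 0 0 0 0 0) (@D3.rec (fun _ => Nat) 0 0 0 0 0 0 0 0 0 0 0 0 0 0 1919 0 0 0 0 0 0 0 0 0 0 0 0 0 0 0 0 0 0 0 0 0 0 0 0 0 0 0 0 0 0 0 0 0 0 0 0 0 0 0 0 0 0 0 0 0 0 0) z3_g z3_g z3_g (@D3.rec (fun _ => Nat) 0 0 0 0 0 0 0 0 0 0 0 0 0 0 0 0 0 0 0 0 0 0 0 0 0 0 0 0 1605 1789 0 0 0 0 0 0 0 0 0 0 0 0 0 0 0 0 0 0 0 0 0 0 0 0 0 0 1523 0 0 0 0 0) z3_g z3_g (@D3.rec (fun _ => Nat) 0 0 0 0 0 0 0 0 0 0 0 0 0 0 0 0 0 0 0 0 0 0 0 0 0 0 0 0 0 0 0 0 0 0 0 0 0 0 0 0 0 0 958 0 0 0 0 0 0 0 0 0 0 0 0 0 0 0 0 0 0 0) (@D3.rec (fun _ => Nat) 0 0 0 0 0 0 0 0 0 0 0 0 0 0 0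 0 0 0 0 0 0 0 0 0 0 1954 0 0 0 0 0 0 0 0 0 0 0 0 0 0 0 0 0 0 0 0 0 0 0 0 0 0 0 0 0 0 0 0 0 0 0 0) (@D3.rec (fun _ => Nat) 0 0 0 0 0 0 0 0 0 0 0 0 0 0 0 0 2024 0 0 0 0 0 0 0 0 0 0 0 0 0 0 0 0 0 0 0 0 0 0 0 0 0 0 0 0 0 0 0 0 0 0 0 0 0 0 0 0 0 0 0 1790 0) z3_g z3_g z3_g z3_g z3_g (@D3.rec (fun _ => Nat) 0 0 0 0 0 0 0 0 0 0 0 0 0 0 0 0 0 0 0 0 0 0 0 0 0 0 0 0 0 0 0 0 0 0 0 0 0 0 0 0 0 0 0 0 0 0 0 0 0 0 0 0 0 0 0 0 0 0 0 0 2796 0) z3_g z3_g z3_g z3_g z3_g z3_g z3_g z3_g z3_g (@D3.rec (fun _ => Nat) 0 0 0 0 0 0 0 0 0 0 0 0 0 0 0 0 0 0 0 0 0 0 0 0 0 0 0 1145 0 0 0 0 0 0 0 0 0 0 0 0 0 0 0 0 0 0 0 0 0 0 0 0 0 0 0 0 0 0 0 0 0 0) z3_g z3_g z3_g (@D3.rec (fun _ => Nat) 0 0 0 0 0 0 0 0 0 0 0 0 0 0 0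 0 0 0 0 0 0 0 0 0 0 0 0 0 0 0 0 0 0 0 0 0 0 0 0 0 0 0 0 0 0 0 0 1829 0 0 0 0 0 0 0 0 0 0 0 0 0 0) z3_g z3_g z3_g z3_g z3_g (@D3.rec (fun _ => Nat) 0 0 0 0 0 0 0 0 0 0 0 0 0 0 0 0 0 0 0 0 0 0 0 0 0 0 0 0 0 0 0 0 0 0 0 0 0 0 0 0 0 0 0 0 0 0 0 0 0 0 0 0 0 0 0 0 0 0 0 0 1136 0) (@D3.rec (fun _ => Nat) 0 0 0 0 0 0 0 0 0 0 0 0 0 0 0 0 0 0 0 0 3084 2155 0 0 0 0 0 0 0 0 0 0 0 0 0 0 0 0 0 0 0 0 0 0 0 0 0 0 0 0 0 0 0 0 0 0 0 0 0 0 0 0) z3_g z3_g z3_g z3_g z3_g (@D3.rec (fun _ => Nat) 0 0 0 0 0 0 0 0 0 0 0 0 0 0 0 0 0 0 0 0 0 0 0 0 0 0 0 0 0 0 0 0 0 0 0 0 0 753 0 0 0 0 0 0 0 0 0 0 0 0 0 0 0 0 0 0 0 0 0 0 0 0) (@D3.rec (fun _ => Nat) 0 0 0 0 0 0 0 0 0 0 0 0 0 0 0 0 0 0 0 0 0 0 0 0 0 2894 0 0 0 0 0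 0 0 0 0 0 0 0 0 0 0 0 0 0 0 0 0 0 0 0 0 0 0 0 0 0 0 0 0 0 0 0) z3_g z3_g (@D3.rec (fun _ => Nat) 0 0 0 0 0 0 0 0 0 0 0 0 0 0 0 0 0 0 0 0 0 0 2909 0 0 0 0 0 0 0 0 0 0 0 0 0 0 0 0 0 0 0 0 0 0 0 0 0 0 0 0 0 0 0 0 0 0 2702 0 0 0 0) (@D3.rec (fun _ => Nat) 0 0 0 0 0 0 0 0 0 0 0 0 0 0 0 0 0 0 0 0 0 0 0 0 0 0 0 0 0 0 0 0 0 0 0 0 0 0 0 0 0 0 0 0 0 0 0 0 0 0 0 0 0 0 0 0 0 0 0 2606 0 0) z3_g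
def sd_g_25 : D2 → D3 → Nat := @D2.rec (fun _ => D3 → Nat) (@D3.rec (fun _ => Nat) 0 0 0 0 0 0 0 0 0 0 0 0 0 0 0 0 0 0 0 0 0 0 0 0 0 0 0 0 0 0 0 0 0 0 0 0 0 0 0 0 0 0 0 0 0 0 0 0 0 0 0 0 0 0 0 0 0 2658 0 0 0 0) z3_g z3_g z3_g (@D3.rec (fun _ => Nat) 0 0 0 0 0 0 0 0 0 0 0 0 0 0 0 0 0 0 0 0 0 0 0 0 0 0 0 0 0 0 0 0 0 0 0 0 0 1858 0 0 0 0 0 0 0 0 0 0 0 0 0 0 0 0 0 0 0 0 0 0 0 0) z3_g z3_g z3_g z3_g z3_g z3_g z3_g z3_g z3_g z3_g z3_g (@D3.rec (fun _ => Nat) 0 0 0 0 0 0 0 0 0 0 0 0 0 0 0 0 0 0 2609 0 0 0 0 0 0 0 0 0 0 0 0 0 0 0 0 0 0 0 0 0 0 0 0 0 0 0 0 0 0 0 0 0 0 0 0 0 0 0 0 0 0 0) z3_g (@D3.rec (fun _ => Nat) 0 0 0 0 0 0 0 0 2760 0 0 0 0 0 0 0 0 0 0 0 0 0 0 0 0 0 0 0 0 0 0 0 0 0 0 0 0 0 0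 0 0 0 0 0 0 0 0 0 0 0 0 0 0 0 0 0 0 0 0 0 0 0) z3_g z3_g z3_g z3_g z3_g z3_g (@D3.rec (fun _ => Nat) 0 0 0 0 0 0 0 0 0 0 0 0 0 0 0 0 0 0 0 0 0 0 0 0 0 0 0 0 0 0 0 0 0 0 0 0 0 0 0 0 0 0 0 0 0 0 0 0 0 0 0 0 0 0 0 0 0 0 0 2550 0 0) z3_g z3_g z3_g z3_g z3_g z3_g (@D3.rec (fun _ => Nat) 0 0 0 0 0 0 0 0 0 0 0 0 0 0 0 0 0 0 0 0 0 0 0 0 0 0 0 0 0 0 0 0 0 0 2721 0 0 0 0 0 0 0 0 0 0 0 0 0 0 0 0 0 0 0 0 0 0 0 0 0 0 0) (@D3.rec (fun _ => Nat) 0 0 0 0 0 0 0 0 0 0 0 0 0 0 0 0 0 0 0 0 0 0 0 0 0 0 0 0 0 0 0 0 0 0 0 0 0 0 0 0 0 0 0 0 0 0 0 0 0 0 0 0 0 0 0 0 0 0 0 2125 0 0) z3_g z3_g z3_g z3_g z3_g z3_g z3_g (@D3.rec (fun _ => Nat) 0 2121 0 0 617 0 0 0 0 0 0 0 0 0 0 0 0 0 0 0 0 0 0 0 0 0 0 0 0 0 0 0 0 0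 0 0 0 0 0 0 0 0 0 0 0 0 0 0 0 0 0 0 0 0 0 0 0 0 0 0 0 0) (@D3.rec (fun _ => Nat) 0 0 0 0 0 0 0 0 0 0 0 0 0 0 0 0 0 0 0 0 0 0 0 0 0 0 0 0 0 0 0 2089 0 0 0 0 0 0 0 0 0 0 0 0 0 0 0 0 0 0 0 0 0 0 0 0 0 0 0 0 0 0) (@D3.rec (fun _ => Nat) 0 0 0 0 0 0 0 0 0 0 0 0 0 0 0 0 0 0 0 0 795 0 0 0 0 0 0 0 0 0 0 0 0 0 0 0 0 0 0 0 0 794 0 0 0 0 0 0 0 0 0 0 0 0 0 0 0 0 0 0 0 0) (@D3.rec (fun _ => Nat) 0 0 0 0 0 0 0 0 0 0 0 0 0 0 0 0 0 0 0 0 0 0 0 0 0 0 0 0 0 0 0 0 0 0 0 0 2130 0 0 0 0 0 0 0 0 0 0 0 0 0 0 0 0 0 0 0 0 0 0 0 0 0) (@D3.rec (fun _ => Nat) 2131 0 0 0 0 0 0 0 0 0 0 0 0 0 0 0 0 0 0 0 0 0 0 0 0 0 0 0 0 0 0 0 0 0 0 0 2124 0 0 0 0 0 0 0 0 0 0 0 0 0 0 0 0 0 0 0 0 0 0 0 0 0) z3_g z3_g z3_g z3_g z3_g z3_g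 z3_g z3_g z3_g z3_g z3_g z3_g z3_g z3_g
def sd_g_26 : D2 → D3 → Nat := @D2.rec (fun _ => D3 → Nat) (@D3.rec (fun _ => Nat) 0 0 0 0 0 0 2076 0 0 0 0 0 0 0 0 0 0 0 0 0 0 0 0 0 0 0 0 0 0 0 0 0 0 0 0 0 0 0 0 0 0 0 0 0 0 0 0 0 0 0 0 0 0 0 0 0 0 0 0 0 0 0) z3_g z3_g z3_g z3_g z3_g z3_g (@D3.rec (fun _ => Nat) 0 0 0 0 0 0 0 0 0 0 0 0 0 0 0 0 0 0 0 0 0 0 0 0 0 840 0 0 0 0 0 0 0 0 0 0 0 0 0 0 0 0 0 0 0 0 0 0 0 0 0 0 0 0 0 0 0 0 0 0 0 0) z3_g (@D3.rec (fun _ => Nat) 0 0 0 0 0 0 0 0 0 0 0 0 0 2705 0 0 0 0 0 0 0 0 0 0 0 0 0 0 0 0 0 0 0 0 0 0 0 0 0 0 0 0 0 0 0 0 0 0 0 0 0 0 0 0 0 0 0 0 0 0 0 0) z3_g z3_g z3_g z3_g z3_g z3_g (@D3.rec (fun _ => Nat) 0 0 0 0 0 0 0 0 0 0 0 0 0 0 0 0 0 0 0 0 0 0 0 0 0 0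 0 0 0 0 0 0 0 0 1533 0 0 0 0 0 0 0 0 0 0 0 0 0 0 0 0 0 0 0 0 0 0 0 0 0 0 0) z3_g z3_g z3_g z3_g z3_g z3_g z3_g z3_g z3_g (@D3.rec (fun _ => Nat) 0 0 0 0 0 0 0 0 0 0 0 0 0 0 0 0 0 0 0 0 0 0 0 0 0 0 0 0 0 0 0 0 0 0 0 0 0 0 0 0 0 0 0 0 0 0 0 0 0 3075 0 0 0 0 0 0 0 0 0 0 0 0) z3_g z3_g z3_g z3_g z3_g z3_g z3_g z3_g z3_g z3_g z3_g z3_g (@D3.rec (fun _ => Nat) 0 0 0 0 0 0 0 0 0 0 0 0 0 0 0 0 0 0 0 0 0 0 0 0 0 0 0 0 0 0 0 0 0 0 0 2175 0 0 0 0 0 0 0 0 0 0 0 0 0 0 0 0 0 0 0 0 0 0 0 0 0 0) z3_g z3_g z3_g z3_g (@D3.rec (fun _ => Nat) 0 0 0 0 0 0 0 0 0 0 0 0 0 0 0 0 0 0 0 0 0 0 0 0 0 0 0 0 0 0 0 0 0 0 0 0 0 0 0 0 0 0 0 0 0 0 0 0 0 0 0 0 0 0 0 0 0 0 0 2138 0 0) z3_g z3_g (@D3.rec (fun _ => Nat) 0 0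 2831 0 0 0 0 0 0 0 0 0 0 0 0 0 0 0 0 0 0 0 0 0 0 0 0 0 0 0 0 0 0 0 0 0 0 0 0 0 0 0 0 0 0 0 0 0 0 0 0 0 0 0 0 0 0 0 0 0 0 0) (@D3.rec (fun _ => Nat) 0 0 0 0 0 0 0 0 0 0 0 0 0 0 0 0 0 0 0 0 0 0 0 0 0 0 0 0 0 0 0 0 0 0 0 0 0 0 0 0 0 0 0 0 0 0 0 0 0 0 0 0 0 0 0 0 0 0 0 2776 0 0) (@D3.rec (fun _ => Nat) 0 0 0 0 0 0 0 0 0 0 2871 0 0 0 0 0 0 0 0 0 0 0 0 0 0 0 0 0 0 0 0 0 0 0 0 0 0 0 0 0 0 0 0 0 0 0 0 0 0 0 0 0 0 0 0 0 0 0 0 0 0 0) z3_g z3_g (@D3.rec (fun _ => Nat) 0 0 0 0 0 0 0 0 0 0 0 0 0 0 0 0 0 0 0 1910 0 0 0 0 0 2494 0 0 0 0 0 0 0 0 0 0 0 0 0 0 0 0 0 0 0 0 0 0 0 0 0 0 0 0 0 0 0 0 0 0 0 0) (@D3.rec (fun _ => Nat) 0 0 0 0 0 0 0 0 2825 0 0 2209 0 0 0 0 0 0 0 0 0 0 0 0 0 0 0 0 0 0 0 0 0 0 0 0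 0 0 0 0 0 0 0 0 0 0 0 0 0 0 0 0 0 0 0 0 0 0 0 0 0 0) (@D3.rec (fun _ => Nat) 0 0 0 0 0 0 0 0 0 0 0 0 0 0 0 0 0 0 0 0 0 0 0 0 0 0 0 0 0 0 0 0 0 0 0 0 0 0 0 0 0 0 0 0 0 0 0 0 0 2847 0 2598 0 0 2236 0 0 0 0 0 0 0) (@D3.rec (fun _ => Nat) 0 0 0 0 2804 0 2267 2514 0 0 0 0 0 0 0 0 0 0 0 0 0 0 0 0 0 0 0 0 0 0 0 0 0 0 0 0 0 0 0 0 0 0 0 0 0 0 0 0 0 0 0 0 0 0 0 0 0 0 0 0 0 0) (@D3.rec (fun _ => Nat) 0 0 0 0 0 0 0 0 0 0 0 0 0 0 0 0 0 0 0 0 0 0 0 0 0 0 0 0 0 0 0 0 0 0 0 0 0 0 0 0 0 0 0 0 0 0 2506 0 0 0 0 0 0 0 0 0 0 0 0 0 0 0) (@D3.rec (fun _ => Nat) 0 0 0 0 0 0 0 0 0 0 0 0 0 0 0 0 0 0 0 0 0 0 0 0 0 0 0 0 0 0 0 0 0 0 0 0 0 0 0 0 0 0 0 0 0 0 0 0 0 0 0 0 0 0 0 0 0 0 0 0 0 2573) z3_g z3_g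
def sd_g_27 : D2 → D3 → Nat := @D2.rec (fun _ => D3 → Nat) (@D3.rec (fun _ => Nat) 0 0 0 0 0 0 0 0 0 0 0 0 0 0 0 0 0 0 0 0 0 2562 0 0 0 0 0 0 0 0 0 0 0 0 0 0 0 0 0 0 0 0 0 0 0 0 0 0 0 0 0 0 0 0 0 0 0 0 0 0 0 0) z3_g z3_g z3_g (@D3.rec (fun _ => Nat) 0 0 0 0 0 0 0 0 0 0 0 0 0 0 0 0 0 0 0 0 0 0 0 0 0 0 0 0 0 0 0 0 0 0 0 0 0 0 0 0 0 0 0 0 0 2292 2293 0 0 0 0 0 0 0 0 0 0 0 0 0 0 0) z3_g z3_g (@D3.rec (fun _ => Nat) 0 0 0 0 0 0 0 0 0 0 0 0 0 1219 0 0 0 0 0 0 0 0 0 0 0 0 0 0 0 0 0 0 0 0 0 0 0 0 0 0 0 0 0 0 0 0 0 0 0 0 0 0 0 0 0 0 0 0 0 0 0 0) (@D3.rec (fun _ => Nat) 0 0 0 0 0 0 0 0 0 0 0 0 0 0 0 0 0 0 0 0 0 0 0 0 0 0 0 0 0 0 0 0 0 0 0 0 0 0 0 0 0 0 0 0 0 0 0 0 0 0 0 0 0 3083 0 0 0 0 0 0 0 0)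 z3_g z3_g z3_g (@D3.rec (fun _ => Nat) 0 685 0 0 0 0 0 0 0 0 0 0 0 0 0 0 0 0 0 0 0 1369 0 0 0 0 0 0 0 0 757 0 0 0 0 0 0 0 0 0 0 0 0 0 0 0 0 0 0 0 0 0 0 0 0 0 0 0 0 0 0 0) (@D3.rec (fun _ => Nat) 0 0 0 0 0 0 0 0 0 0 0 2239 0 0 0 0 0 0 0 0 0 0 0 0 0 0 0 0 0 0 0 0 0 0 0 0 0 0 0 0 0 0 0 0 0 0 0 0 0 0 0 0 0 0 0 0 0 0 0 0 0 0) z3_g z3_g (@D3.rec (fun _ => Nat) 0 0 0 0 0 2979 0 0 0 0 0 0 0 0 0 0 0 0 0 0 0 0 0 0 0 0 0 0 0 0 0 0 0 0 0 0 0 0 0 0 0 0 0 0 0 0 0 0 0 0 0 0 0 0 0 0 0 0 0 0 0 0) z3_g z3_g z3_g z3_g (@D3.rec (fun _ => Nat) 0 0 0 0 0 0 0 0 0 0 0 0 0 0 0 0 0 0 0 0 0 0 0 0 0 0 0 0 0 0 0 0 0 0 2859 0 0 0 0 0 0 0 0 0 0 0 0 0 0 0 0 0 0 0 0 0 0 0 0 0 0 0) z3_g z3_g z3_g z3_g z3_g (@D3.rec (fun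 _ => Nat) 0 0 0 0 0 0 0 0 0 0 0 0 0 0 0 0 0 0 0 0 0 0 0 0 0 0 0 2111 0 0 0 0 0 0 0 0 0 0 0 0 0 0 0 0 0 0 0 0 0 0 0 0 0 0 0 0 0 0 0 0 0 0) z3_g (@D3.rec (fun _ => Nat) 0 0 0 0 0 0 0 0 0 0 0 0 0 0 0 0 0 798 0 0 0 0 0 0 0 0 0 0 0 0 0 0 0 0 0 0 0 0 0 0 0 0 0 0 0 0 0 0 0 0 0 0 0 0 0 0 0 0 0 0 0 0) z3_g (@D3.rec (fun _ => Nat) 0 0 0 0 0 0 0 0 0 0 0 0 0 0 0 0 0 0 0 0 0 0 0 0 0 0 0 0 0 0 0 0 0 0 0 0 0 0 0 2393 0 0 0 0 0 0 0 0 0 0 0 0 0 0 0 0 0 0 0 0 0 0) z3_g z3_g z3_g z3_g z3_g z3_g z3_g z3_g z3_g z3_g z3_g z3_g z3_g z3_g z3_g z3_g z3_g z3_g (@D3.rec (fun _ => Nat) 0 0 0 0 0 0 0 0 0 0 0 0 0 0 0 0 0 0 0 0 0 0 0 0 0 0 0 0 0 0 0 0 0 0 0 0 0 0 0 0 0 0 0 0 0 0 0 0 0 0 0 0 2656 0 0 0 0 0 0 0 0 0) z3_g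 z3_g z3_g z3_g z3_g z3_g z3_g z3_g (@D3.rec (fun _ => Nat) 0 0 0 0 0 0 0 0 0 0 0 0 0 0 0 0 0 0 0 0 0 0 0 0 0 0 0 0 0 0 0 0 0 0 0 0 0 0 0 0 0 0 0 0 0 0 0 0 0 0 0 0 0 0 0 0 0 0 0 2944 0 0)
def sd_g_28 : D2 → D3 → Nat := @D2.rec (fun _ => D3 → Nat) z3_g (@D3.rec (fun _ => Nat) 0 0 0 0 0 0 0 0 0 0 0 0 0 0 0 0 0 0 0 0 0 0 0 0 0 0 0 0 0 0 0 0 0 0 0 0 0 0 0 0 0 0 0 0 0 0 0 0 0 0 0 2601 0 0 0 0 0 0 0 0 0 0) z3_g z3_g z3_g z3_g (@D3.rec (fun _ => Nat) 0 0 0 0 0 2608 0 0 0 0 0 0 0 0 0 0 0 0 0 0 0 0 0 0 0 0 0 0 0 0 0 0 0 0 0 0 0 0 0 0 0 0 0 0 0 0 0 0 0 0 2539 0 0 0 0 0 0 0 0 0 0 0) z3_g z3_g z3_g (@D3.rec (fun _ => Nat) 0 0 0 0 0 0 0 0 0 0 0 0 0 0 0 0 0 0 0 0 0 0 0 0 0 0 0 0 0 0 0 0 0 0 0 0 0 0 2563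 0 0 0 0 0 0 0 0 0 0 0 0 0 0 0 0 0 0 0 0 0 0 0) (@D3.rec (fun _ => Nat) 0 0 0 0 0 0 0 0 0 0 0 0 0 0 0 0 0 0 0 0 0 0 0 0 0 0 2065 0 0 0 0 0 0 0 0 0 0 0 0 0 0 0 0 0 0 0 0 0 0 0 0 0 0 0 0 0 0 0 0 0 0 0) z3_g z3_g (@D3.rec (fun _ => Nat) 0 0 0 0 0 0 0 0 0 0 0 0 0 0 0 0 0 0 0 0 0 0 0 0 0 0 0 0 0 0 0 0 0 0 0 0 0 0 0 0 0 0 0 0 0 0 0 0 0 0 0 0 0 0 0 2560 0 0 0 0 0 0) z3_g z3_g z3_g z3_g z3_g z3_g z3_g z3_g z3_g z3_g z3_g z3_g z3_g z3_g z3_g (@D3.rec (fun _ => Nat) 0 0 0 0 0 0 0 0 0 0 0 0 0 0 0 0 0 0 0 0 0 0 0 0 0 0 0 0 0 0 0 0 0 0 0 0 0 0 0 0 0 0 0 0 0 0 2695 0 0 0 0 0 0 0 0 0 0 0 0 0 0 0) z3_g z3_g z3_g z3_g (@D3.rec (fun _ => Nat) 0 0 0 0 0 0 0 0 0 0 0 0 0 0 0 0 0 0 0 0 0 0 0 0 2391 0 0 0 0 0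 0 0 0 0 0 0 0 0 0 0 0 0 0 0 0 0 0 0 0 0 0 0 0 0 0 0 0 0 0 0 0 0) z3_g z3_g z3_g z3_g z3_g z3_g z3_g (@D3.rec (fun _ => Nat) 0 0 0 0 0 0 0 0 0 0 0 0 0 0 2666 0 0 0 0 0 0 0 0 0 0 0 0 0 0 0 0 0 0 0 0 0 0 0 0 0 0 0 0 0 0 0 0 0 0 0 0 0 0 0 0 0 0 0 0 0 0 0) z3_g z3_g z3_g z3_g (@D3.rec (fun _ => Nat) 0 0 0 0 0 0 0 0 0 0 0 0 0 0 0 0 0 0 0 0 0 0 0 0 0 0 0 0 0 0 0 0 0 0 0 0 1070 0 0 0 0 0 0 0 0 0 0 0 0 0 0 0 0 0 0 0 0 0 0 0 0 0) z3_g z3_g z3_g z3_g z3_g z3_g z3_g z3_g z3_g z3_g z3_g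
def sd_g_29 : D2 → D3 → Nat := @D2.rec (fun _ => D3 → Nat) z3_g z3_g z3_g (@D3.rec (fun _ => Nat) 0 0 0 0 2140 0 0 0 0 0 0 0 0 0 0 0 0 0 0 0 0 0 0 0 0 0 0 0 0 0 0 0 0 0 0 0 0 0 0 0 0 0 0 0 0 0 0 0 0 0 0 0 0 0 0 0 0 0 0 0 0 0) z3_g z3_g z3_g z3_g z3_g z3_g z3_g (@D3.rec (fun _ => Nat) 0 0 0 0 0 0 0 0 0 0 0 0 0 0 0 0 2750 0 0 0 0 0 0 0 0 0 0 0 0 0 0 0 0 0 0 0 0 0 0 0 0 0 0 0 0 0 0 0 0 0 0 0 0 0 0 0 0 0 0 0 0 0) z3_g z3_g z3_g (@D3.rec (fun _ => Nat) 0 0 0 0 0 0 0 0 0 0 0 0 0 0 0 0 0 0 0 0 0 0 0 0 2860 0 0 0 0 0 0 0 0 0 0 0 0 0 0 0 0 0 0 0 0 0 0 0 0 0 0 0 0 0 0 0 0 0 0 0 0 0) z3_g z3_g (@D3.rec (fun _ => Nat) 0 0 0 0 0 0 0 0 0 0 0 0 0 0 0 0 0 0 0 0 0 0 0 0 0 0 0 0 0 0 0 0 0 0 0 0 0 0 0 0 0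 0 3002 0 0 0 0 0 0 0 0 0 0 0 0 0 0 0 0 0 0 0) z3_g z3_g z3_g z3_g z3_g z3_g z3_g (@D3.rec (fun _ => Nat) 2413 0 0 0 0 0 0 0 0 0 0 0 0 0 0 0 0 0 0 0 0 0 0 0 0 0 0 0 0 0 0 0 0 0 0 0 0 0 0 0 0 0 0 0 0 0 0 0 0 0 0 0 0 0 0 0 0 0 2973 0 0 0) z3_g z3_g z3_g (@D3.rec (fun _ => Nat) 0 0 0 0 0 1607 0 0 0 0 0 0 0 0 0 0 0 0 0 0 0 0 0 0 0 0 0 0 0 0 0 0 0 0 0 0 0 0 0 0 0 0 2652 0 0 0 0 0 0 0 0 0 0 0 0 0 0 0 0 0 0 0) (@D3.rec (fun _ => Nat) 0 0 0 0 0 0 0 2949 0 0 0 0 0 0 0 0 0 0 0 0 0 0 0 0 0 0 0 0 0 0 0 0 0 0 0 0 0 0 0 0 0 0 0 0 0 0 0 0 0 0 0 0 0 0 0 0 0 0 0 0 0 0) z3_g z3_g z3_g z3_g z3_g z3_g z3_g z3_g z3_g z3_g z3_g z3_g z3_g z3_g z3_g z3_g (@D3.rec (fun _ => Nat) 0 0 0 0 0 0 0 0 0 0 0 0 0 0 0 0 0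 0 0 0 0 0 0 0 0 0 0 0 0 0 0 0 0 0 0 0 0 0 0 0 0 0 0 0 0 0 0 0 0 0 0 0 2108 0 0 0 0 0 0 0 0 0) z3_g (@D3.rec (fun _ => Nat) 0 0 0 0 0 0 3039 0 0 0 0 0 0 0 0 0 0 0 0 0 0 0 2404 0 0 0 0 0 0 0 0 0 0 0 0 0 0 0 0 0 0 0 0 0 0 0 0 0 0 0 0 0 0 0 0 0 0 0 0 0 0 0) z3_g z3_g (@D3.rec (fun _ => Nat) 0 0 0 0 0 0 2794 0 0 0 0 0 0 0 0 0 0 0 0 0 0 0 0 0 0 0 0 0 0 0 0 0 0 0 0 0 0 0 0 0 0 0 0 0 0 0 0 0 0 0 0 0 0 0 0 0 0 0 0 0 0 0) (@D3.rec (fun _ => Nat) 0 0 2428 0 0 0 0 0 0 0 0 0 0 0 0 0 0 0 0 0 0 0 0 0 0 0 0 0 0 0 0 0 0 0 0 0 0 0 0 2934 0 0 0 0 0 0 0 0 0 0 0 0 0 0 0 0 0 0 0 0 0 0) z3_g z3_g z3_g z3_g z3_g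
def sd_g_30 : D2 → D3 → Nat := @D2.rec (fun _ => D3 → Nat) z3_g z3_g z3_g z3_g z3_g z3_g z3_g z3_g z3_g z3_g z3_g z3_g z3_g z3_g z3_g z3_g z3_g z3_g z3_g z3_g z3_g z3_g z3_g z3_g z3_g z3_g (@D3.rec (fun _ => Nat) 0 0 0 0 0 0 0 0 0 0 0 0 0 0 0 0 0 0 0 0 0 0 0 0 0 0 0 0 0 0 0 0 0 0 0 0 0 0 0 0 0 0 0 0 0 0 0 0 0 0 0 0 0 0 0 0 0 0 0 0 1838 0) z3_g z3_g z3_g z3_g z3_g (@D3.rec (fun _ => Nat) 0 0 0 0 1593 0 0 0 0 0 0 0 0 0 0 0 0 0 0 0 0 0 0 0 0 0 0 0 0 0 0 0 0 0 0 0 0 0 0 0 0 0 0 0 0 0 0 0 0 0 0 0 0 0 0 0 0 0 0 0 0 0) z3_g (@D3.rec (fun _ => Nat) 0 0 0 0 0 0 0 1791 0 0 0 0 0 0 0 0 0 0 0 0 0 0 0 0 0 0 0 0 0 0 0 0 0 492 0 0 0 0 0 0 0 0 0 0 0 0 0 0 0 0 0 0 0 0 0 0 0 0 0 0 0 0) z3_g z3_g z3_g z3_g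 z3_g z3_g z3_g z3_g (@D3.rec (fun _ => Nat) 0 0 0 0 0 0 0 0 0 0 0 0 0 0 0 0 0 0 0 0 0 0 0 0 0 0 0 0 0 0 443 0 0 0 0 0 0 0 0 0 0 0 0 0 0 0 0 0 0 0 0 0 0 0 0 0 0 0 0 0 0 0) z3_g (@D3.rec (fun _ => Nat) 0 0 0 0 0 0 0 0 0 0 0 0 0 0 0 0 0 0 0 0 0 0 0 0 0 0 0 2795 0 0 0 0 0 0 0 0 0 0 0 0 0 0 0 0 0 0 0 0 0 0 0 0 0 0 0 0 0 0 0 0 0 0) z3_g z3_g z3_g z3_g z3_g z3_g z3_g z3_g z3_g z3_g z3_g z3_g z3_g z3_g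
def sd_g_31 : D2 → D3 → Nat := @D2.rec (fun _ => D3 → Nat) z3_g z3_g z3_g z3_g z3_g z3_g z3_g z3_g z3_g z3_g z3_g z3_g z3_g (@D3.rec (fun _ => Nat) 0 0 0 0 0 0 0 0 0 0 0 0 0 0 0 0 0 0 0 0 0 0 0 0 0 0 0 0 0 1811 0 0 0 0 0 0 0 0 0 0 0 0 0 0 0 0 0 0 0 0 0 0 0 0 0 0 0 0 0 0 0 0) z3_g z3_g (@D3.rec (fun _ => Nat) 0 0 0 0 0 0 0 0 0 0 0 0 0 0 0 0 0 0 0 0 0 0 0 0 0 0 0 0 0 0 0 0 0 0 0 0 0 0 0 0 0 1942 0 0 0 0 0 0 0 0 0 0 0 0 0 0 0 0 0 0 0 0) (@D3.rec (fun _ => Nat) 0 0 0 0 0 0 0 0 0 0 0 0 0 0 0 0 0 0 0 0 0 0 0 0 0 0 0 0 0 0 0 0 0 0 0 0 0 0 0 0 0 0 0 0 0 0 0 0 0 0 0 1806 0 0 0 0 0 0 0 0 0 0) z3_g z3_g z3_g z3_g z3_g z3_g z3_g z3_g z3_g z3_g z3_g z3_g z3_g z3_g z3_g z3_g z3_g z3_g z3_g z3_g z3_g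 z3_g z3_g z3_g z3_g z3_g z3_g z3_g z3_g z3_g z3_g z3_g z3_g z3_g z3_g z3_g z3_g z3_g z3_g z3_g z3_g z3_g
def sd_g_32 : D2 → D3 → Nat := @D2.rec (fun _ => D3 → Nat) z3_g (@D3.rec (fun _ => Nat) 0 0 0 0 0 0 0 0 0 0 0 0 0 0 0 0 0 0 0 0 0 0 0 0 0 0 0 0 0 0 0 0 2075 0 0 0 0 0 0 0 0 0 0 0 0 0 0 0 0 0 0 0 0 0 0 0 0 0 0 0 0 0) z3_g (@D3.rec (fun _ => Nat) 0 0 0 0 0 0 0 0 0 0 0 2096 0 0 0 0 0 0 0 0 0 0 0 0 0 0 0 0 0 0 0 0 0 0 0 0 0 0 0 0 0 0 0 0 0 0 0 0 0 0 0 0 0 0 0 0 0 0 0 0 0 0) z3_g z3_g z3_g z3_g z3_g z3_g z3_g z3_g z3_g z3_g z3_g z3_g z3_g z3_g z3_g z3_g z3_g z3_g z3_g z3_g z3_g z3_g z3_g z3_g z3_g z3_g z3_g z3_g z3_g z3_g z3_g z3_g z3_g z3_g z3_g z3_g z3_g z3_g z3_g z3_g z3_g z3_g z3_g z3_g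 z3_g z3_g z3_g (@D3.rec (fun _ => Nat) 0 0 0 0 0 0 0 0 0 0 0 0 0 0 0 0 0 0 0 0 0 0 0 0 0 0 0 0 0 0 0 0 0 0 0 0 565 0 0 0 0 0 0 0 0 0 0 0 0 0 0 0 0 0 0 0 0 0 0 0 0 0) z3_g (@D3.rec (fun _ => Nat) 0 0 0 0 0 0 0 0 0 0 0 0 0 0 0 0 0 0 0 0 0 0 0 0 0 0 0 0 0 0 0 0 0 0 0 0 1743 0 0 0 0 0 0 0 0 0 0 0 0 0 0 0 0 0 0 0 0 0 0 0 0 0) z3_g z3_g z3_g z3_g z3_g z3_g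
def sd_g : Pt → Nat := @Pt.rec (fun _ => Nat) (@D1.rec (fun _ => D2 → D3 → Nat) sd_g_0 sd_g_1 sd_g_2 sd_g_3 sd_g_4 sd_g_5 sd_g_6 sd_g_7 sd_g_8 sd_g_9 sd_g_10 sd_g_11 sd_g_12 sd_g_13 sd_g_14 sd_g_15 sd_g_16 sd_g_17 sd_g_18 sd_g_19 sd_g_20 sd_g_21 sd_g_22 sd_g_23 sd_g_24 sd_g_25 sd_g_26 sd_g_27 sd_g_28 sd_g_29 sd_g_30 sd_g_31 sd_g_32)

end

end Cfsg.Agent.Helper28.S1692
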