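import Cfsg.Agent.Lib.Helper28.S1692.Levels

set_option autoImplicit false
set_option maxRecDepth 100000
set_option linter.all false

namespace Cfsg.Agent.Helper28.S1692

open Cfsg.Agent.Helper28
open Cfsg.Spor.ON (Gen)

theorem ent_chk_c : allPts (fun p => orB (isSeedT sd Gen.c p) (chkEntry rels S fwd inv o lvl plet idx beqPt leq Gen.c (ce_c p) p)) = true := by
  decide +kernel
theorem sd_chk_c : allPts (fun p => chkSeedTab lvl beqPt leq sd spt_0 15 Gen.c p) = true := by
  decide +kernel

end Cfsg.Agent.Helper28.S1692
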