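import Cfsg.Agent.Lib.Helper28.S1692.Defs

set_option autoImplicit false
set_option maxRecDepth 100000
set_option linter.all false

namespace Cfsg.Agent.Helper28.S1692

open Cfsg.Agent.Helper28
open Cfsg.Spor.ON (Gen)

noncomputable section

abbrev ka := Pt.mk
abbrev xa0 := D1.c0
abbrev xa1 := D1.c1
abbrev xa2 := D1.c2
abbrev xa3 := D1.c3
abbrev xa4 := D1.c4
abbrev xa5 := D1.c5
abbrev xa6 := D1.c6
abbrev xa7 := D1.c7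
abbrev xa8 := D1.c8
abbrev xa9 := D1.c9
abbrev xa10 := D1.c10
abbrev xa11 := D1.c11
abbrev xa12 := D1.c12
abbrev xa13 := D1.c13
abbrev xa14 := D1.c14
abbrev xa15 := D1.c15
abbrev xa16 := D1.c16
abbrev xa17 := D1.c17
abbrev xa18 := D1.c18
abbrev xa19 := D1.c19
abbrev xa20 := D1.c20
abbrev xa21 := D1.c21
abbrev xa22 := D1.c22
abbrev xa23 := D1.c23
abbrev xa24 := D1.c24
abbrev xa25 := D1.c25
abbrev xa26 := D1.c26
abbrev xa27 := D1.c27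
abbrev xa28 := D1.c28
abbrev xa29 := D1.c29
abbrev xa30 := D1.c30
abbrev xa31 := D1.c31
abbrev xa32 := D1.c32
abbrev ya0 := D2.c0
abbrev ya1 := D2.c1
abbrev ya2 := D2.c2
abbrev ya3 := D2.c3
abbrev ya4 := D2.c4
abbrev ya5 := D2.c5
abbrev ya6 := D2.c6
abbrev ya7 := D2.c7
abbrev ya8 := D2.c8
abbrev ya9 := D2.c9
abbrev ya10 := D2.c10
abbrev ya11 := D2.c11
abbrev ya12 := D2.c12
abbrev ya13 := D2.c13
abbrev ya14 := D2.c14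
abbrev ya15 := D2.c15
abbrev ya16 := D2.c16
abbrev ya17 := D2.c17
abbrev ya18 := D2.c18
abbrev ya19 := D2.c19
abbrev ya20 := D2.c20
abbrev ya21 := D2.c21
abbrev ya22 := D2.c22
abbrev ya23 := D2.c23
abbrev ya24 := D2.c24
abbrev ya25 := D2.c25
abbrev ya26 := D2.c26
abbrev ya27 := D2.c27
abbrev ya28 := D2.c28
abbrev ya29 := D2.c29
abbrev ya30 := D2.c30
abbrev ya31 := D2.c31
abbrev ya32 := D2.c32
abbrev ya33 := D2.c33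
abbrev ya34 := D2.c34
abbrev ya35 := D2.c35
abbrev ya36 := D2.c36
abbrev ya37 := D2.c37
abbrev ya38 := D2.c38
abbrev ya39 := D2.c39
abbrev ya40 := D2.c40
abbrev ya41 := D2.c41
abbrev ya42 := D2.c42
abbrev ya43 := D2.c43
abbrev ya44 := D2.c44
abbrev ya45 := D2.c45
abbrev ya46 := D2.c46
abbrev ya47 := D2.c47
abbrev ya48 := D2.c48
abbrev ya49 := D2.c49
abbrev ya50 := D2.c50
abbrev ya51 := D2.c51
abbrev ya52 := D2.c52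
abbrev ya53 := D2.c53
abbrev ya54 := D2.c54
abbrev ya55 := D2.c55
abbrev ya56 := D2.c56
abbrev ya57 := D2.c57
abbrev ya58 := D2.c58
abbrev ya59 := D2.c59
abbrev za0 := D3.c0
abbrev za1 := D3.c1
abbrev za2 := D3.c2
abbrev za3 := D3.c3
abbrev za4 := D3.c4
abbrev za5 := D3.c5
abbrev za6 := D3.c6
abbrev za7 := D3.c7
abbrev za8 := D3.c8
abbrev za9 := D3.c9
abbrev za10 := D3.c10
abbrev za11 := D3.c11
abbrev za12 := D3.c12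
abbrev za13 := D3.c13
abbrev za14 := D3.c14
abbrev za15 := D3.c15
abbrev za16 := D3.c16
abbrev za17 := D3.c17
abbrev za18 := D3.c18
abbrev za19 := D3.c19
abbrev za20 := D3.c20
abbrev za21 := D3.c21
abbrev za22 := D3.c22
abbrev za23 := D3.c23
abbrev za24 := D3.c24
abbrev za25 := D3.c25
abbrev za26 := D3.c26
abbrev za27 := D3.c27
abbrev za28 := D3.c28
abbrev za29 := D3.c29
abbrev za30 := D3.c30
abbrev za31 := D3.c31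
abbrev za32 := D3.c32
abbrev za33 := D3.c33
abbrev za34 := D3.c34
abbrev za35 := D3.c35
abbrev za36 := D3.c36
abbrev za37 := D3.c37
abbrev za38 := D3.c38
abbrev za39 := D3.c39
abbrev za40 := D3.c40
abbrev za41 := D3.c41
abbrev za42 := D3.c42
abbrev za43 := D3.c43
abbrev za44 := D3.c44
abbrev za45 := D3.c45
abbrev za46 := D3.c46
abbrev za47 := D3.c47
abbrev za48 := D3.c48
abbrev za49 := D3.c49
abbrev za50 := D3.c50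
abbrev za51 := D3.c51
abbrev za52 := D3.c52
abbrev za53 := D3.c53
abbrev za54 := D3.c54
abbrev za55 := D3.c55
abbrev za56 := D3.c56
abbrev za57 := D3.c57
abbrev za58 := D3.c58
abbrev za59 := D3.c59
abbrev za60 := D3.c60
abbrev za61 := D3.c61
def f_a_0 : D2 → D3 → Pt := @D2.rec (fun _ => D3 → Pt) (@D3.rec (fun _ => Pt) (ka xa0 ya0 za0) (ka xa0 ya0 za1) (ka xa0 ya0 za8) (ka xa0 ya0 za3) (ka xa0 ya0 za4) (ka xa0 ya0 za5) (ka xa0 ya0 za7) (ka xa0 ya0 za6) (ka xa0 ya0 za2) (ka xa0 ya0 za24) (ka xa0 ya0 za25) (ka xa0 ya0 za26) (ka xa0 ya0 za12) (ka xa0 ya0 za42) (ka xa0 ya0 za14) (ka xa0 ya0 za15) (ka xa0 ya0 za16) (ka xa0 ya0 za17) (ka xa0 ya0 za18) (ka xa0 ya0 za19) (ka xa0 ya0 za20) (ka xa0 ya0 za21) (ka xa0 ya0 za23) (ka xa0 ya0 za22) (ka xa0 ya0 za9) (ka xa0 ya0 za10) (ka xa0 ya0 za11) (ka xa0 ya0 za28) (ka xa0 ya0 za27)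 (ka xa0 ya0 za61) (ka xa0 ya1 za5) (ka xa0 ya1 za6) (ka xa0 ya0 za33) (ka xa0 ya0 za32) (ka xa0 ya1 za7) (ka xa0 ya1 za8) (ka xa0 ya1 za9) (ka xa0 ya1 za10) (ka xa0 ya1 za11) (ka xa0 ya1 za12) (ka xa0 ya0 za41) (ka xa0 ya0 za40) (ka xa0 ya0 za13) (ka xa0 ya1 za46) (ka xa0 ya1 za47) (ka xa0 ya0 za45) (ka xa0 ya0 za46) (ka xa0 ya0 za47) (ka xa0 ya0 za48) (ka xa0 ya0 za49) (ka xa0 ya0 za50) (ka xa0 ya0 za51) (ka xa0 ya0 za52) (ka xa0 ya0 za53) (ka xa0 ya0 za54) (ka xa0 ya0 za55) (ka xa0 ya0 za56) (ka xa0 ya0 za57) (ka xa0 ya0 za58) (ka xa0 ya0 za59) (ka xa0 ya0 za60) (ka xa0 ya0 za29)) (@D3.rec (fun _ => Pt) (ka xa0 ya2 za24) (ka xa0 ya1 za3) (ka xa0 ya2 za30) (ka xa0 ya1 za1) (ka xa0 ya2 za19) (ka xa0 ya0 za30) (ka xa0 ya0 za31) (ka xa0 ya0 za34) (ka xa0 ya0 za35) (ka xa0 ya0 za36) (ka xa0 ya0 za37) (ka xa0 ya0 za38) (ka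 xa0 ya0 za39) (ka xa0 ya1 za15) (ka xa0 ya1 za14) (ka xa0 ya1 za13) (ka xa0 ya2 za20) (ka xa0 ya2 za21) (ka xa0 ya1 za19) (ka xa0 ya1 za18) (ka xa0 ya2 za36) (ka xa0 ya2 za37) (ka xa0 ya2 za38) (ka xa0 ya2 za39) (ka xa0 ya2 za40) (ka xa0 ya2 za41) (ka xa0 ya1 za28) (ka xa0 ya1 za29) (ka xa0 ya1 za26) (ka xa0 ya1 za27) (ka xa0 ya1 za31) (ka xa0 ya1 za30) (ka xa0 ya3 za28) (ka xa0 ya2 za43) (ka xa0 ya2 za44) (ka xa0 ya2 za45) (ka xa0 ya2 za46) (ka xa0 ya2 za47) (ka xa0 ya2 za48) (ka xa0 ya2 za49) (ka xa0 ya2 za50) (ka xa0 ya2 za51) (ka xa0 ya2 za52) (ka xa0 ya2 za53) (ka xa0 ya2 za54) (ka xa0 ya2 za55) (ka xa0 ya0 za43) (ka xa0 ya0 za44) (ka xa0 ya1 za49) (ka xa0 ya1 za48) (ka xa0 ya4 za2) (ka xa0 ya1 za59) (ka xa0 ya3 za22) (ka xa0 ya4 za3) (ka xa0 ya4 za4) (ka xa0 ya1 za55) (ka xa0 ya1 za56) (ka xa0 ya1 za57) (ka xa0 ya1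 za58) (ka xa0 ya1 za51) (ka xa0 ya1 za60) (ka xa0 ya1 za61)) (@D3.rec (fun _ => Pt) (ka xa0 ya2 za0) (ka xa0 ya2 za1) (ka xa0 ya2 za2) (ka xa0 ya2 za3) (ka xa0 ya2 za4) (ka xa0 ya2 za5) (ka xa0 ya2 za6) (ka xa0 ya2 za7) (ka xa0 ya2 za8) (ka xa0 ya2 za9) (ka xa0 ya2 za10) (ka xa0 ya2 za11) (ka xa0 ya2 za12) (ka xa0 ya2 za13) (ka xa0 ya2 za14) (ka xa0 ya4 za58) (ka xa0 ya2 za16) (ka xa0 ya2 za17) (ka xa0 ya2 za18) (ka xa0 ya1 za4) (ka xa0 ya1 za16) (ka xa0 ya1 za17) (ka xa0 ya2 za23) (ka xa0 ya2 za22) (ka xa0 ya1 za0) (ka xa0 ya5 za14) (ka xa0 ya2 za27) (ka xa0 ya2 za26) (ka xa0 ya2 za32) (ka xa0 ya2 za33) (ka xa0 ya1 za2) (ka xa0 ya5 za29) (ka xa0 ya2 za28) (ka xa0 ya2 za29) (ka xa0 ya5 za5) (ka xa0 ya5 za6) (ka xa0 ya1 za20) (ka xa0 ya1 za21) (ka xa0 ya1 za22) (ka xa0 ya1 za23) (ka xa0 ya1 za24) (ka xa0 ya1 za25) (ka xa0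 ya5 za60) (ka xa0 ya1 za33) (ka xa0 ya1 za34) (ka xa0 ya1 za35) (ka xa0 ya1 za36) (ka xa0 ya1 za37) (ka xa0 ya1 za38) (ka xa0 ya1 za39) (ka xa0 ya1 za40) (ka xa0 ya1 za41) (ka xa0 ya1 za42) (ka xa0 ya1 za43) (ka xa0 ya1 za44) (ka xa0 ya1 za45) (ka xa0 ya2 za60) (ka xa0 ya2 za61) (ka xa0 ya2 za58) (ka xa0 ya2 za59) (ka xa0 ya2 za56) (ka xa0 ya2 za57)) (@D3.rec (fun _ => Pt) (ka xa0 ya3 za1) (ka xa0 ya3 za0) (ka xa0 ya5 za7) (ka xa0 ya5 za8) (ka xa0 ya5 za9) (ka xa0 ya3 za45) (ka xa0 ya3 za9) (ka xa0 ya3 za10) (ka xa0 ya3 za8) (ka xa0 ya3 za6) (ka xa0 ya3 za7) (ka xa0 ya3 za12) (ka xa0 ya3 za11) (ka xa0 ya7 za6) (ka xa0 ya3 za37) (ka xa0 ya5 za47) (ka xa0 ya5 za48) (ka xa0 ya5 za49) (ka xa0 ya5 za50) (ka xa0 ya5 za51) (ka xa0 ya5 za53) (ka xa0 ya3 za21) (ka xa0 ya1 za52) (ka xa0 ya5 za54) (ka xa0 ya5 za55) (ka xa0 ya5 za56)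 (ka xa0 ya5 za57) (ka xa0 ya5 za58) (ka xa0 ya1 za32) (ka xa0 ya7 za46) (ka xa0 ya3 za32) (ka xa0 ya5 za59) (ka xa0 ya3 za30) (ka xa0 ya3 za35) (ka xa0 ya3 za34) (ka xa0 ya3 za33) (ka xa0 ya7 za43) (ka xa0 ya3 za14) (ka xa0 ya6 za0) (ka xa0 ya6 za1) (ka xa0 ya6 za2) (ka xa0 ya6 za3) (ka xa0 ya6 za4) (ka xa0 ya6 za5) (ka xa0 ya3 za48) (ka xa0 ya3 za5) (ka xa0 ya8 za12) (ka xa0 ya6 za6) (ka xa0 ya3 za44) (ka xa0 ya6 za7) (ka xa0 ya6 za8) (ka xa0 ya5 za43) (ka xa0 ya6 za10) (ka xa0 ya6 za11) (ka xa0 ya6 za12) (ka xa0 ya6 za13) (ka xa0 ya6 za14) (ka xa0 ya6 za15) (ka xa0 ya6 za16) (ka xa0 ya6 za17) (ka xa0 ya8 za50) (ka xa0 ya6 za19)) (@D3.rec (fun _ => Pt) (ka xa0 ya6 za20) (ka xa0 ya6 za21) (ka xa0 ya1 za50) (ka xa0 ya1 za53) (ka xa0 ya1 za54) (ka xa0 ya4 za6) (ka xa0 ya4 za5) (ka xa0 ya4 za16) (ka xa0 ya8 za59) (ka xa0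 ya8 za60) (ka xa0 ya4 za19) (ka xa0 ya7 za30) (ka xa0 ya4 za24) (ka xa0 ya8 za45) (ka xa0 ya8 za61) (ka xa0 ya9 za0) (ka xa0 ya4 za7) (ka xa0 ya4 za17) (ka xa0 ya4 za18) (ka xa0 ya4 za10) (ka xa0 ya4 za20) (ka xa0 ya4 za21) (ka xa0 ya4 za22) (ka xa0 ya4 za23) (ka xa0 ya4 za12) (ka xa0 ya4 za25) (ka xa0 ya9 za27) (ka xa0 ya4 za27) (ka xa0 ya4 za28) (ka xa0 ya4 za29) (ka xa0 ya9 za34) (ka xa0 ya4 za31) (ka xa0 ya4 za32) (ka xa0 ya4 za33) (ka xa0 ya4 za34) (ka xa0 ya9 za45) (ka xa0 ya4 za36) (ka xa0 ya4 za37) (ka xa0 ya4 za38) (ka xa0 ya4 za39) (ka xa0 ya4 za40) (ka xa0 ya9 za58) (ka xa0 ya4 za42) (ka xa0 ya4 za43) (ka xa0 ya4 za44) (ka xa0 ya10 za4) (ka xa0 ya4 za46) (ka xa0 ya10 za9) (ka xa0 ya4 za48) (ka xa0 ya4 za49) (ka xa0 ya4 za50) (ka xa0 ya10 za17) (ka xa0 ya4 za52) (ka xa0 ya10 za22) (ka xa0 ya4 za54) (ka xa0 ya4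 za55) (ka xa0 ya10 za28) (ka xa0 ya10 za32) (ka xa0 ya2 za15) (ka xa0 ya10 za37) (ka xa0 ya10 za27) (ka xa0 ya4 za61)) (@D3.rec (fun _ => Pt) (ka xa0 ya5 za0) (ka xa0 ya5 za1) (ka xa0 ya5 za2) (ka xa0 ya5 za3) (ka xa0 ya5 za4) (ka xa0 ya2 za34) (ka xa0 ya2 za35) (ka xa0 ya3 za2) (ka xa0 ya3 za3) (ka xa0 ya3 za4) (ka xa0 ya5 za12) (ka xa0 ya5 za13) (ka xa0 ya5 za10) (ka xa0 ya5 za11) (ka xa0 ya2 za25) (ka xa0 ya5 za16) (ka xa0 ya5 za15) (ka xa0 ya11 za13) (ka xa0 ya11 za14) (ka xa0 ya5 za30) (ka xa0 ya5 za22) (ka xa0 ya5 za23) (ka xa0 ya5 za20) (ka xa0 ya5 za21) (ka xa0 ya11 za41) (ka xa0 ya5 za34) (ka xa0 ya5 za35) (ka xa0 ya5 za36) (ka xa0 ya5 za37) (ka xa0 ya2 za31) (ka xa0 ya5 za19) (ka xa0 ya11 za54) (ka xa0 ya11 za55) (ka xa0 ya12 za2) (ka xa0 ya5 za25) (ka xa0 ya5 za26) (ka xa0 ya5 za27) (ka xa0 ya5 za28) (ka xa0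 ya5 za39) (ka xa0 ya5 za38) (ka xa0 ya10 za56) (ka xa0 ya10 za57) (ka xa0 ya10 za58) (ka xa0 ya3 za51) (ka xa0 ya10 za59) (ka xa0 ya8 za9) (ka xa0 ya12 za36) (ka xa0 ya3 za15) (ka xa0 ya3 za16) (ka xa0 ya3 za17) (ka xa0 ya3 za18) (ka xa0 ya3 za19) (ka xa0 ya5 za52) (ka xa0 ya3 za20) (ka xa0 ya3 za23) (ka xa0 ya3 za24) (ka xa0 ya3 za25) (ka xa0 ya3 za26) (ka xa0 ya3 za27) (ka xa0 ya3 za31) (ka xa0 ya2 za42) (ka xa0 ya13 za7)) (@D3.rec (fun _ => Pt) (ka xa0 ya3 za38) (ka xa0 ya3 za39) (ka xa0 ya3 za40) (ka xa0 ya3 za41) (ka xa0 ya3 za42) (ka xa0 ya3 za43) (ka xa0 ya3 za47) (ka xa0 ya3 za49) (ka xa0 ya3 za50) (ka xa0 ya11 za10) (ka xa0 ya3 za52) (ka xa0 ya3 za53) (ka xa0 ya3 za54) (ka xa0 ya3 za55) (ka xa0 ya3 za56) (ka xa0 ya3 za57) (ka xa0 ya3 za58) (ka xa0 ya3 za59) (ka xa0 ya13 za48) (ka xa0 ya3 za61) (ka xa0 ya4 za0)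 (ka xa0 ya4 za1) (ka xa0 ya13 za58) (ka xa0 ya6 za32) (ka xa0 ya6 za33) (ka xa0 ya6 za34) (ka xa0 ya6 za35) (ka xa0 ya6 za27) (ka xa0 ya6 za28) (ka xa0 ya6 za29) (ka xa0 ya6 za30) (ka xa0 ya11 za8) (ka xa0 ya6 za23) (ka xa0 ya6 za24) (ka xa0 ya6 za25) (ka xa0 ya6 za26) (ka xa0 ya11 za5) (ka xa0 ya6 za38) (ka xa0 ya6 za37) (ka xa0 ya14 za29) (ka xa0 ya10 za61) (ka xa0 ya11 za0) (ka xa0 ya11 za1) (ka xa0 ya11 za2) (ka xa0 ya11 za3) (ka xa0 ya7 za51) (ka xa0 ya8 za2) (ka xa0 ya11 za4) (ka xa0 ya8 za10) (ka xa0 ya14 za52) (ka xa0 ya6 za57) (ka xa0 ya6 za58) (ka xa0 ya6 za59) (ka xa0 ya6 za60) (ka xa0 ya6 za61) (ka xa0 ya6 za55) (ka xa0 ya11 za16) (ka xa0 ya6 za50) (ka xa0 ya6 za51) (ka xa0 ya6 za52) (ka xa0 ya6 za53) (ka xa0 ya6 za54)) (@D3.rec (fun _ => Pt) (ka xa0 ya15 za27) (ka xa0 ya7 za3) (ka xa0 ya15 za32) (ka xa0 ya7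 za1) (ka xa0 ya7 za5) (ka xa0 ya7 za4) (ka xa0 ya3 za13) (ka xa0 ya15 za42) (ka xa0 ya15 za43) (ka xa0 ya7 za56) (ka xa0 ya12 za38) (ka xa0 ya12 za39) (ka xa0 ya12 za40) (ka xa0 ya12 za41) (ka xa0 ya12 za43) (ka xa0 ya12 za44) (ka xa0 ya12 za45) (ka xa0 ya7 za17) (ka xa0 ya12 za46) (ka xa0 ya12 za47) (ka xa0 ya12 za48) (ka xa0 ya12 za49) (ka xa0 ya12 za50) (ka xa0 ya12 za51) (ka xa0 ya12 za52) (ka xa0 ya8 za0) (ka xa0 ya12 za54) (ka xa0 ya12 za55) (ka xa0 ya7 za28) (ka xa0 ya7 za29) (ka xa0 ya4 za11) (ka xa0 ya12 za56) (ka xa0 ya12 za57) (ka xa0 ya12 za59) (ka xa0 ya7 za34) (ka xa0 ya12 za60) (ka xa0 ya12 za61) (ka xa0 ya13 za0) (ka xa0 ya13 za1) (ka xa0 ya17 za13) (ka xa0 ya13 za3) (ka xa0 ya13 za4) (ka xa0 ya13 za5) (ka xa0 ya3 za36) (ka xa0 ya7 za45) (ka xa0 ya7 za44) (ka xa0 ya3 za29) (ka xa0 ya17 za24) (ka xa0 ya7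 za50) (ka xa0 ya13 za6) (ka xa0 ya7 za48) (ka xa0 ya6 za45) (ka xa0 ya7 za52) (ka xa0 ya7 za53) (ka xa0 ya13 za20) (ka xa0 ya17 za32) (ka xa0 ya7 za9) (ka xa0 ya13 za11) (ka xa0 ya13 za12) (ka xa0 ya13 za13) (ka xa0 ya13 za14) (ka xa0 ya13 za16)) (@D3.rec (fun _ => Pt) (ka xa0 ya7 za25) (ka xa0 ya17 za54) (ka xa0 ya6 za46) (ka xa0 ya9 za3) (ka xa0 ya9 za5) (ka xa0 ya18 za1) (ka xa0 ya13 za18) (ka xa0 ya8 za17) (ka xa0 ya8 za18) (ka xa0 ya5 za45) (ka xa0 ya6 za48) (ka xa0 ya11 za12) (ka xa0 ya3 za46) (ka xa0 ya18 za12) (ka xa0 ya13 za19) (ka xa0 ya13 za21) (ka xa0 ya13 za22) (ka xa0 ya8 za7) (ka xa0 ya8 za8) (ka xa0 ya13 za23) (ka xa0 ya13 za24) (ka xa0 ya18 za35) (ka xa0 ya13 za26) (ka xa0 ya13 za27) (ka xa0 ya9 za53) (ka xa0 ya13 za28) (ka xa0 ya13 za29) (ka xa0 ya12 za29) (ka xa0 ya13 za31) (ka xa0 ya13 za32) (ka xa0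 ya18 za56) (ka xa0 ya13 za34) (ka xa0 ya13 za35) (ka xa0 ya13 za36) (ka xa0 ya9 za10) (ka xa0 ya19 za5) (ka xa0 ya13 za38) (ka xa0 ya19 za12) (ka xa0 ya13 za40) (ka xa0 ya13 za41) (ka xa0 ya8 za41) (ka xa0 ya8 za40) (ka xa0 ya19 za21) (ka xa0 ya13 za43) (ka xa0 ya19 za26) (ka xa0 ya4 za13) (ka xa0 ya13 za44) (ka xa0 ya13 za45) (ka xa0 ya19 za33) (ka xa0 ya19 za37) (ka xa0 ya3 za60) (ka xa0 ya19 za42) (ka xa0 ya19 za32) (ka xa0 ya13 za51) (ka xa0 ya13 za52) (ka xa0 ya13 za53) (ka xa0 ya13 za54) (ka xa0 ya13 za55) (ka xa0 ya13 za56) (ka xa0 ya4 za8) (ka xa0 ya4 za9) (ka xa0 ya4 za14)) (@D3.rec (fun _ => Pt) (ka xa0 ya4 za15) (ka xa0 ya9 za2) (ka xa0 ya9 za1) (ka xa0 ya8 za3) (ka xa0 ya9 za15) (ka xa0 ya8 za4) (ka xa0 ya16 za51) (ka xa0 ya19 za29) (ka xa0 ya20 za16) (ka xa0 ya20 za1) (ka xa0 ya8 za34) (ka xa0 ya20 za2) (ka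 xa0 ya20 za25) (ka xa0 ya9 za13) (ka xa0 ya9 za14) (ka xa0 ya9 za4) (ka xa0 ya20 za33) (ka xa0 ya9 za17) (ka xa0 ya9 za18) (ka xa0 ya9 za19) (ka xa0 ya9 za20) (ka xa0 ya20 za39) (ka xa0 ya9 za22) (ka xa0 ya9 za23) (ka xa0 ya9 za24) (ka xa0 ya20 za43) (ka xa0 ya20 za47) (ka xa0 ya4 za26) (ka xa0 ya20 za52) (ka xa0 ya20 za42) (ka xa0 ya9 za30) (ka xa0 ya9 za31) (ka xa0 ya21 za1) (ka xa0 ya21 za5) (ka xa0 ya4 za30) (ka xa0 ya21 za9) (ka xa0 ya21 za0) (ka xa0 ya9 za37) (ka xa0 ya9 za38) (ka xa0 ya9 za39) (ka xa0 ya9 za40) (ka xa0 ya21 za25) (ka xa0 ya9 za42) (ka xa0 ya9 za57) (ka xa0 ya9 za56) (ka xa0 ya4 za35) (ka xa0 ya21 za36) (ka xa0 ya21 za37) (ka xa0 ya9 za48) (ka xa0 ya9 za49) (ka xa0 ya9 za50) (ka xa0 ya9 za51) (ka xa0 ya9 za52) (ka xa0 ya8 za24) (ka xa0 ya9 za54) (ka xa0 ya9 za55) (ka xa0 ya9 za44) (ka xa0 ya9 za43)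 (ka xa0 ya4 za41) (ka xa0 ya22 za4) (ka xa0 ya22 za5) (ka xa0 ya9 za61)) (@D3.rec (fun _ => Pt) (ka xa0 ya10 za0) (ka xa0 ya10 za1) (ka xa0 ya10 za8) (ka xa0 ya10 za7) (ka xa0 ya4 za45) (ka xa0 ya22 za24) (ka xa0 ya10 za6) (ka xa0 ya10 za3) (ka xa0 ya10 za2) (ka xa0 ya4 za47) (ka xa0 ya22 za33) (ka xa0 ya22 za34) (ka xa0 ya10 za12) (ka xa0 ya10 za13) (ka xa0 ya10 za14) (ka xa0 ya10 za21) (ka xa0 ya10 za20) (ka xa0 ya4 za51) (ka xa0 ya22 za48) (ka xa0 ya10 za19) (ka xa0 ya10 za16) (ka xa0 ya10 za15) (ka xa0 ya4 za53) (ka xa0 ya23 za0) (ka xa0 ya23 za1) (ka xa0 ya23 za2) (ka xa0 ya10 za26) (ka xa0 ya4 za60) (ka xa0 ya4 za56) (ka xa0 ya23 za18) (ka xa0 ya23 za16) (ka xa0 ya21 za11) (ka xa0 ya4 za57) (ka xa0 ya23 za30) (ka xa0 ya23 za26) (ka xa0 ya21 za10) (ka xa0 ya23 za29) (ka xa0 ya4 za59) (ka xa0 ya23 za39) (ka xa0 ya23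 za40) (ka xa0 ya23 za41) (ka xa0 ya23 za42) (ka xa0 ya23 za13) (ka xa0 ya23 za14) (ka xa0 ya24 za0) (ka xa0 ya10 za45) (ka xa0 ya24 za6) (ka xa0 ya10 za47) (ka xa0 ya24 za14) (ka xa0 ya10 za49) (ka xa0 ya10 za50) (ka xa0 ya10 za51) (ka xa0 ya10 za52) (ka xa0 ya10 za53) (ka xa0 ya10 za54) (ka xa0 ya10 za55) (ka xa0 ya5 za40) (ka xa0 ya5 za41) (ka xa0 ya5 za42) (ka xa0 ya5 za44) (ka xa0 ya24 za42) (ka xa0 ya6 za40)) (@D3.rec (fun _ => Pt) (ka xa0 ya6 za41) (ka xa0 ya6 za42) (ka xa0 ya6 za43) (ka xa0 ya6 za44) (ka xa0 ya6 za47) (ka xa0 ya6 za36) (ka xa0 ya11 za9) (ka xa0 ya11 za11) (ka xa0 ya6 za31) (ka xa0 ya11 za6) (ka xa0 ya6 za9) (ka xa0 ya11 za7) (ka xa0 ya8 za11) (ka xa0 ya5 za17) (ka xa0 ya5 za18) (ka xa0 ya11 za17) (ka xa0 ya6 za56) (ka xa0 ya11 za15) (ka xa0 ya11 za19) (ka xa0 ya11 za18) (ka xa0 ya15 za31) (ka xa0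 ya25 za10) (ka xa0 ya25 za11) (ka xa0 ya25 za12) (ka xa0 ya25 za13) (ka xa0 ya25 za14) (ka xa0 ya11 za56) (ka xa0 ya25 za45) (ka xa0 ya11 za34) (ka xa0 ya11 za35) (ka xa0 ya11 za36) (ka xa0 ya11 za37) (ka xa0 ya11 za38) (ka xa0 ya25 za60) (ka xa0 ya11 za28) (ka xa0 ya11 za29) (ka xa0 ya11 za30) (ka xa0 ya11 za31) (ka xa0 ya11 za32) (ka xa0 ya11 za40) (ka xa0 ya11 za39) (ka xa0 ya5 za24) (ka xa0 ya26 za17) (ka xa0 ya12 za4) (ka xa0 ya12 za5) (ka xa0 ya12 za6) (ka xa0 ya12 za7) (ka xa0 ya14 za0) (ka xa0 ya12 za8) (ka xa0 ya12 za9) (ka xa0 ya12 za10) (ka xa0 ya12 za12) (ka xa0 ya12 za13) (ka xa0 ya12 za14) (ka xa0 ya5 za31) (ka xa0 ya5 za32) (ka xa0 ya11 za26) (ka xa0 ya26 za58) (ka xa0 ya13 za57) (ka xa0 ya26 za52) (ka xa0 ya12 za11) (ka xa0 ya26 za32)) (@D3.rec (fun _ => Pt) (ka xa0 ya12 za1) (ka xa0 ya12 za0) (ka xa0 ya5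 za33) (ka xa0 ya27 za8) (ka xa0 ya11 za43) (ka xa0 ya11 za44) (ka xa0 ya11 za45) (ka xa0 ya11 za46) (ka xa0 ya11 za48) (ka xa0 ya11 za49) (ka xa0 ya11 za50) (ka xa0 ya11 za60) (ka xa0 ya11 za51) (ka xa0 ya11 za52) (ka xa0 ya11 za53) (ka xa0 ya12 za17) (ka xa0 ya12 za18) (ka xa0 ya12 za15) (ka xa0 ya12 za16) (ka xa0 ya12 za20) (ka xa0 ya12 za19) (ka xa0 ya27 za57) (ka xa0 ya24 za32) (ka xa0 ya24 za33) (ka xa0 ya24 za34) (ka xa0 ya14 za36) (ka xa0 ya24 za35) (ka xa0 ya24 za36) (ka xa0 ya24 za37) (ka xa0 ya8 za27) (ka xa0 ya24 za38) (ka xa0 ya14 za44) (ka xa0 ya24 za39) (ka xa0 ya18 za8) (ka xa0 ya12 za35) (ka xa0 ya12 za34) (ka xa0 ya5 za46) (ka xa0 ya28 za30) (ka xa0 ya7 za10) (ka xa0 ya7 za11) (ka xa0 ya7 za12) (ka xa0 ya7 za13) (ka xa0 ya12 za42) (ka xa0 ya7 za14) (ka xa0 ya7 za15) (ka xa0 ya7 za16) (ka xa0 ya7 za18)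 (ka xa0 ya7 za19) (ka xa0 ya7 za20) (ka xa0 ya7 za21) (ka xa0 ya7 za22) (ka xa0 ya7 za23) (ka xa0 ya7 za24) (ka xa0 ya12 za53) (ka xa0 ya7 za26) (ka xa0 ya7 za27) (ka xa0 ya7 za31) (ka xa0 ya7 za32) (ka xa0 ya12 za58) (ka xa0 ya7 za33) (ka xa0 ya7 za35) (ka xa0 ya7 za36)) (@D3.rec (fun _ => Pt) (ka xa0 ya7 za37) (ka xa0 ya7 za38) (ka xa0 ya29 za41) (ka xa0 ya7 za40) (ka xa0 ya7 za41) (ka xa0 ya7 za42) (ka xa0 ya7 za49) (ka xa0 ya5 za61) (ka xa0 ya28 za19) (ka xa0 ya18 za46) (ka xa0 ya17 za26) (ka xa0 ya7 za57) (ka xa0 ya7 za58) (ka xa0 ya7 za59) (ka xa0 ya7 za60) (ka xa0 ya13 za15) (ka xa0 ya7 za61) (ka xa0 ya29 za61) (ka xa0 ya8 za6) (ka xa0 ya8 za14) (ka xa0 ya7 za54) (ka xa0 ya8 za15) (ka xa0 ya8 za16) (ka xa0 ya8 za19) (ka xa0 ya8 za20) (ka xa0 ya30 za12) (ka xa0 ya8 za22) (ka xa0 ya8 za23) (ka xa0 ya8 za25) (ka xa0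 ya8 za26) (ka xa0 ya25 za5) (ka xa0 ya8 za28) (ka xa0 ya8 za29) (ka xa0 ya30 za32) (ka xa0 ya8 za31) (ka xa0 ya8 za32) (ka xa0 ya8 za33) (ka xa0 ya30 za40) (ka xa0 ya8 za36) (ka xa0 ya30 za45) (ka xa0 ya8 za38) (ka xa0 ya8 za39) (ka xa0 ya30 za52) (ka xa0 ya8 za43) (ka xa0 ya8 za46) (ka xa0 ya8 za47) (ka xa0 ya30 za58) (ka xa0 ya31 za0) (ka xa0 ya6 za18) (ka xa0 ya31 za5) (ka xa0 ya30 za57) (ka xa0 ya8 za53) (ka xa0 ya8 za54) (ka xa0 ya8 za55) (ka xa0 ya8 za56) (ka xa0 ya8 za57) (ka xa0 ya8 za58) (ka xa0 ya11 za58) (ka xa0 ya6 za22) (ka xa0 ya31 za26) (ka xa0 ya14 za12) (ka xa0 ya14 za13)) (@D3.rec (fun _ => Pt) (ka xa0 ya11 za47) (ka xa0 ya14 za14) (ka xa0 ya14 za15) (ka xa0 ya14 za16) (ka xa0 ya14 za17) (ka xa0 ya14 za5) (ka xa0 ya14 za6) (ka xa0 ya14 za7) (ka xa0 ya14 za8) (ka xa0 ya14 za9) (ka xa0 ya14 za10) (ka xa0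 ya25 za1) (ka xa0 ya13 za60) (ka xa0 ya13 za61) (ka xa0 ya14 za1) (ka xa0 ya14 za2) (ka xa0 ya14 za3) (ka xa0 ya14 za4) (ka xa0 ya24 za57) (ka xa0 ya14 za23) (ka xa0 ya14 za24) (ka xa0 ya14 za25) (ka xa0 ya14 za26) (ka xa0 ya14 za19) (ka xa0 ya14 za20) (ka xa0 ya14 za21) (ka xa0 ya14 za22) (ka xa0 ya14 za28) (ka xa0 ya14 za27) (ka xa0 ya6 za39) (ka xa0 ya32 za19) (ka xa0 ya24 za44) (ka xa0 ya24 za45) (ka xa0 ya24 za58) (ka xa0 ya24 za46) (ka xa0 ya24 za47) (ka xa0 ya12 za25) (ka xa0 ya24 za49) (ka xa0 ya24 za50) (ka xa0 ya24 za51) (ka xa0 ya24 za52) (ka xa0 ya24 za53) (ka xa0 ya24 za54) (ka xa0 ya24 za61) (ka xa0 ya12 za31) (ka xa0 ya17 za56) (ka xa0 ya32 za53) (ka xa0 ya24 za56) (ka xa0 ya18 za9) (ka xa0 ya18 za10) (ka xa0 ya14 za51) (ka xa0 ya14 za50) (ka xa0 ya6 za49) (ka xa0 ya33 za3) (ka xa0 ya15 za11) (ka xa0 ya15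 za12) (ka xa0 ya15 za13) (ka xa0 ya15 za14) (ka xa0 ya27 za43) (ka xa0 ya15 za15) (ka xa0 ya15 za16) (ka xa0 ya15 za18)) (@D3.rec (fun _ => Pt) (ka xa0 ya15 za19) (ka xa0 ya15 za20) (ka xa0 ya15 za21) (ka xa0 ya15 za22) (ka xa0 ya15 za23) (ka xa0 ya15 za24) (ka xa0 ya15 za6) (ka xa0 ya15 za7) (ka xa0 ya15 za8) (ka xa0 ya15 za9) (ka xa0 ya25 za19) (ka xa0 ya14 za54) (ka xa0 ya14 za55) (ka xa0 ya14 za56) (ka xa0 ya14 za57) (ka xa0 ya14 za59) (ka xa0 ya14 za60) (ka xa0 ya27 za48) (ka xa0 ya14 za61) (ka xa0 ya15 za0) (ka xa0 ya15 za1) (ka xa0 ya15 za2) (ka xa0 ya15 za3) (ka xa0 ya15 za4) (ka xa0 ya15 za5) (ka xa0 ya15 za26) (ka xa0 ya15 za25) (ka xa0 ya7 za0) (ka xa0 ya34 za26) (ka xa0 ya15 za35) (ka xa0 ya15 za36) (ka xa0 ya11 za20) (ka xa0 ya7 za2) (ka xa0 ya34 za37) (ka xa0 ya34 za38) (ka xa0 ya15 za29) (ka xa0 ya15 za30)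 (ka xa0 ya15 za38) (ka xa0 ya15 za37) (ka xa0 ya15 za41) (ka xa0 ya25 za25) (ka xa0 ya15 za39) (ka xa0 ya7 za7) (ka xa0 ya7 za8) (ka xa0 ya15 za45) (ka xa0 ya15 za44) (ka xa0 ya28 za27) (ka xa0 ya34 za59) (ka xa0 ya34 za60) (ka xa0 ya34 za61) (ka xa0 ya35 za0) (ka xa0 ya35 za1) (ka xa0 ya17 za34) (ka xa0 ya17 za35) (ka xa0 ya17 za36) (ka xa0 ya17 za37) (ka xa0 ya35 za33) (ka xa0 ya28 za36) (ka xa0 ya28 za37) (ka xa0 ya35 za43) (ka xa0 ya28 za39) (ka xa0 ya28 za40)) (@D3.rec (fun _ => Pt) (ka xa0 ya28 za41) (ka xa0 ya28 za42) (ka xa0 ya28 za43) (ka xa0 ya28 za44) (ka xa0 ya36 za3) (ka xa0 ya28 za47) (ka xa0 ya28 za48) (ka xa0 ya28 za49) (ka xa0 ya28 za50) (ka xa0 ya28 za51) (ka xa0 ya28 za52) (ka xa0 ya28 za53) (ka xa0 ya17 za46) (ka xa0 ya28 za54) (ka xa0 ya16 za14) (ka xa0 ya16 za15) (ka xa0 ya16 za16) (ka xa0 ya25 za36)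 (ka xa0 ya28 za56) (ka xa0 ya28 za57) (ka xa0 ya28 za58) (ka xa0 ya17 za45) (ka xa0 ya28 za59) (ka xa0 ya28 za61) (ka xa0 ya29 za0) (ka xa0 ya29 za1) (ka xa0 ya16 za26) (ka xa0 ya29 za2) (ka xa0 ya17 za40) (ka xa0 ya29 za3) (ka xa0 ya29 za4) (ka xa0 ya29 za5) (ka xa0 ya37 za5) (ka xa0 ya29 za7) (ka xa0 ya29 za8) (ka xa0 ya29 za9) (ka xa0 ya18 za17) (ka xa0 ya17 za51) (ka xa0 ya17 za52) (ka xa0 ya18 za18) (ka xa0 ya17 za29) (ka xa0 ya37 za27) (ka xa0 ya29 za13) (ka xa0 ya29 za14) (ka xa0 ya29 za15) (ka xa0 ya29 za16) (ka xa0 ya29 za17) (ka xa0 ya16 za47) (ka xa0 ya16 za48) (ka xa0 ya16 za49) (ka xa0 ya16 za50) (ka xa0 ya9 za6) (ka xa0 ya29 za20) (ka xa0 ya29 za19) (ka xa0 ya29 za21) (ka xa0 ya29 za22) (ka xa0 ya29 za23) (ka xa0 ya37 za56) (ka xa0 ya29 za26) (ka xa0 ya16 za59) (ka xa0 ya16 za60) (ka xa0 ya38 za7)) (@D3.rec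 (fun _ => Pt) (ka xa0 ya29 za28) (ka xa0 ya29 za29) (ka xa0 ya29 za30) (ka xa0 ya29 za31) (ka xa0 ya29 za32) (ka xa0 ya38 za20) (ka xa0 ya29 za34) (ka xa0 ya29 za35) (ka xa0 ya38 za29) (ka xa0 ya29 za37) (ka xa0 ya29 za38) (ka xa0 ya38 za37) (ka xa0 ya38 za42) (ka xa0 ya7 za39) (ka xa0 ya38 za47) (ka xa0 ya38 za36) (ka xa0 ya29 za44) (ka xa0 ya29 za45) (ka xa0 ya29 za46) (ka xa0 ya29 za47) (ka xa0 ya29 za48) (ka xa0 ya29 za49) (ka xa0 ya17 za23) (ka xa0 ya17 za22) (ka xa0 ya7 za47) (ka xa0 ya17 za53) (ka xa0 ya13 za10) (ka xa0 ya17 za27) (ka xa0 ya17 za28) (ka xa0 ya16 za40) (ka xa0 ya17 za31) (ka xa0 ya17 za30) (ka xa0 ya7 za55) (ka xa0 ya39 za8) (ka xa0 ya15 za52) (ka xa0 ya15 za53) (ka xa0 ya15 za54) (ka xa0 ya15 za55) (ka xa0 ya26 za0) (ka xa0 ya29 za52) (ka xa0 ya16 za28) (ka xa0 ya17 za41) (ka xa0 ya26 za1) (ka xa0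 ya29 za53) (ka xa0 ya29 za54) (ka xa0 ya16 za21) (ka xa0 ya16 za12) (ka xa0 ya29 za55) (ka xa0 ya29 za56) (ka xa0 ya39 za46) (ka xa0 ya29 za58) (ka xa0 ya16 za37) (ka xa0 ya16 za38) (ka xa0 ya17 za25) (ka xa0 ya8 za1) (ka xa0 ya25 za6) (ka xa0 ya14 za45) (ka xa0 ya39 za60) (ka xa0 ya20 za6) (ka xa0 ya40 za4) (ka xa0 ya19 za59) (ka xa0 ya40 za8)) (@D3.rec (fun _ => Pt) (ka xa0 ya40 za12) (ka xa0 ya8 za5) (ka xa0 ya40 za16) (ka xa0 ya40 za7) (ka xa0 ya30 za1) (ka xa0 ya30 za2) (ka xa0 ya18 za26) (ka xa0 ya18 za27) (ka xa0 ya12 za33) (ka xa0 ya14 za48) (ka xa0 ya14 za49) (ka xa0 ya25 za8) (ka xa0 ya8 za13) (ka xa0 ya30 za22) (ka xa0 ya30 za21) (ka xa0 ya40 za39) (ka xa0 ya40 za40) (ka xa0 ya16 za36) (ka xa0 ya16 za39) (ka xa0 ya30 za3) (ka xa0 ya40 za59) (ka xa0 ya30 za5) (ka xa0 ya30 za6) (ka xa0 ya30 za7) (ka xa0 ya30 za8)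 (ka xa0 ya41 za10) (ka xa0 ya18 za6) (ka xa0 ya18 za7) (ka xa0 ya41 za17) (ka xa0 ya19 za8) (ka xa0 ya18 za60) (ka xa0 ya41 za24) (ka xa0 ya19 za7) (ka xa0 ya30 za31) (ka xa0 ya30 za30) (ka xa0 ya8 za21) (ka xa0 ya41 za34) (ka xa0 ya41 za35) (ka xa0 ya20 za21) (ka xa0 ya30 za15) (ka xa0 ya30 za16) (ka xa0 ya30 za17) (ka xa0 ya30 za18) (ka xa0 ya30 za19) (ka xa0 ya21 za55) (ka xa0 ya30 za20) (ka xa0 ya13 za9) (ka xa0 ya28 za15) (ka xa0 ya28 za16) (ka xa0 ya42 za8) (ka xa0 ya30 za26) (ka xa0 ya30 za27) (ka xa0 ya30 za28) (ka xa0 ya30 za29) (ka xa0 ya30 za11) (ka xa0 ya30 za10) (ka xa0 ya8 za30) (ka xa0 ya42 za25) (ka xa0 ya42 za26) (ka xa0 ya30 za35) (ka xa0 ya18 za30) (ka xa0 ya20 za22)) (@D3.rec (fun _ => Pt) (ka xa0 ya30 za36) (ka xa0 ya30 za37) (ka xa0 ya42 za47) (ka xa0 ya30 za44) (ka xa0 ya30 za43) (ka xa0 ya8 za35)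 (ka xa0 ya42 za53) (ka xa0 ya18 za32) (ka xa0 ya18 za29) (ka xa0 ya30 za42) (ka xa0 ya30 za39) (ka xa0 ya30 za38) (ka xa0 ya8 za37) (ka xa0 ya30 za48) (ka xa0 ya30 za49) (ka xa0 ya19 za16) (ka xa0 ya19 za15) (ka xa0 ya19 za18) (ka xa0 ya19 za17) (ka xa0 ya23 za4) (ka xa0 ya23 za3) (ka xa0 ya8 za42) (ka xa0 ya43 za21) (ka xa0 ya30 za54) (ka xa0 ya30 za51) (ka xa0 ya30 za50) (ka xa0 ya8 za44) (ka xa0 ya43 za34) (ka xa0 ya43 za35) (ka xa0 ya9 za7) (ka xa0 ya30 za55) (ka xa0 ya30 za56) (ka xa0 ya8 za52) (ka xa0 ya8 za48) (ka xa0 ya43 za49) (ka xa0 ya20 za44) (ka xa0 ya40 za18) (ka xa0 ya8 za49) (ka xa0 ya43 za59) (ka xa0 ya43 za55) (ka xa0 ya40 za17) (ka xa0 ya43 za58) (ka xa0 ya8 za51) (ka xa0 ya44 za7) (ka xa0 ya44 za8) (ka xa0 ya44 za9) (ka xa0 ya44 za10) (ka xa0 ya43 za45) (ka xa0 ya43 za46) (ka xa0 ya44 za30) (ka xa0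 ya31 za13) (ka xa0 ya44 za37) (ka xa0 ya31 za15) (ka xa0 ya44 za46) (ka xa0 ya31 za17) (ka xa0 ya31 za18) (ka xa0 ya31 za19) (ka xa0 ya31 za20) (ka xa0 ya31 za21) (ka xa0 ya17 za60) (ka xa0 ya31 za22) (ka xa0 ya31 za23)) (@D3.rec (fun _ => Pt) (ka xa0 ya45 za10) (ka xa0 ya9 za9) (ka xa0 ya9 za11) (ka xa0 ya20 za4) (ka xa0 ya20 za3) (ka xa0 ya45 za15) (ka xa0 ya17 za58) (ka xa0 ya20 za28) (ka xa0 ya20 za29) (ka xa0 ya20 za30) (ka xa0 ya45 za20) (ka xa0 ya37 za46) (ka xa0 ya20 za13) (ka xa0 ya20 za12) (ka xa0 ya23 za19) (ka xa0 ya23 za33) (ka xa0 ya9 za8) (ka xa0 ya45 za26) (ka xa0 ya45 za21) (ka xa0 ya32 za57) (ka xa0 ya45 za12) (ka xa0 ya18 za38) (ka xa0 ya18 za61) (ka xa0 ya21 za24) (ka xa0 ya21 za23) (ka xa0 ya9 za12) (ka xa0 ya45 za45) (ka xa0 ya20 za27) (ka xa0 ya20 za7) (ka xa0 ya20 za8) (ka xa0 ya20 za9) (ka xa0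 ya20 za38) (ka xa0 ya20 za37) (ka xa0 ya9 za16) (ka xa0 ya45 za56) (ka xa0 ya20 za35) (ka xa0 ya20 za36) (ka xa0 ya20 za32) (ka xa0 ya20 za31) (ka xa0 ya9 za21) (ka xa0 ya46 za4) (ka xa0 ya20 za41) (ka xa0 ya9 za29) (ka xa0 ya9 za25) (ka xa0 ya19 za35) (ka xa0 ya30 za59) (ka xa0 ya45 za47) (ka xa0 ya9 za26) (ka xa0 ya46 za18) (ka xa0 ya46 za13) (ka xa0 ya45 za46) (ka xa0 ya46 za16) (ka xa0 ya9 za28) (ka xa0 ya24 za13) (ka xa0 ya24 za12) (ka xa0 ya46 za27) (ka xa0 ya46 za28) (ka xa0 ya46 za6) (ka xa0 ya20 za58) (ka xa0 ya20 za59) (ka xa0 ya20 za60) (ka xa0 ya20 za61)) (@D3.rec (fun _ => Pt) (ka xa0 ya9 za36) (ka xa0 ya9 za32) (ka xa0 ya46 za57) (ka xa0 ya46 za54) (ka xa0 ya46 za55) (ka xa0 ya9 za33) (ka xa0 ya47 za8) (ka xa0 ya47 za4) (ka xa0 ya23 za59) (ka xa0 ya9 za35) (ka xa0 ya10 za35) (ka xa0 ya10 za31) (ka xa0 ya47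 za14) (ka xa0 ya47 za15) (ka xa0 ya46 za51) (ka xa0 ya46 za52) (ka xa0 ya47 za34) (ka xa0 ya21 za17) (ka xa0 ya21 za18) (ka xa0 ya21 za19) (ka xa0 ya21 za20) (ka xa0 ya21 za21) (ka xa0 ya21 za22) (ka xa0 ya20 za24) (ka xa0 ya20 za23) (ka xa0 ya9 za41) (ka xa0 ya47 za52) (ka xa0 ya47 za53) (ka xa0 ya21 za28) (ka xa0 ya47 za57) (ka xa0 ya22 za1) (ka xa0 ya22 za2) (ka xa0 ya22 za3) (ka xa0 ya48 za5) (ka xa0 ya21 za60) (ka xa0 ya21 za61) (ka xa0 ya9 za46) (ka xa0 ya9 za47) (ka xa0 ya22 za7) (ka xa0 ya22 za6) (ka xa0 ya48 za11) (ka xa0 ya48 za12) (ka xa0 ya48 za13) (ka xa0 ya48 za14) (ka xa0 ya48 za15) (ka xa0 ya48 za16) (ka xa0 ya21 za46) (ka xa0 ya21 za47) (ka xa0 ya21 za48) (ka xa0 ya21 za49) (ka xa0 ya48 za45) (ka xa0 ya48 za48) (ka xa0 ya21 za52) (ka xa0 ya21 za53) (ka xa0 ya21 za54) (ka xa0 ya18 za44) (ka xa0 ya47 za5)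 (ka xa0 ya48 za56) (ka xa0 ya21 za58) (ka xa0 ya48 za59) (ka xa0 ya21 za34) (ka xa0 ya21 za35)) (@D3.rec (fun _ => Pt) (ka xa0 ya49 za4) (ka xa0 ya21 za30) (ka xa0 ya21 za31) (ka xa0 ya21 za32) (ka xa0 ya9 za59) (ka xa0 ya9 za60) (ka xa0 ya21 za39) (ka xa0 ya21 za38) (ka xa0 ya49 za12) (ka xa0 ya49 za13) (ka xa0 ya22 za21) (ka xa0 ya49 za14) (ka xa0 ya48 za3) (ka xa0 ya22 za13) (ka xa0 ya22 za14) (ka xa0 ya22 za15) (ka xa0 ya22 za16) (ka xa0 ya22 za17) (ka xa0 ya22 za18) (ka xa0 ya43 za16) (ka xa0 ya22 za32) (ka xa0 ya22 za10) (ka xa0 ya46 za8) (ka xa0 ya22 za30) (ka xa0 ya10 za5) (ka xa0 ya49 za49) (ka xa0 ya49 za50) (ka xa0 ya22 za27) (ka xa0 ya22 za28) (ka xa0 ya46 za17) (ka xa0 ya22 za23) (ka xa0 ya43 za52) (ka xa0 ya22 za20) (ka xa0 ya10 za10) (ka xa0 ya10 za11) (ka xa0 ya50 za1) (ka xa0 ya50 za2) (ka xa0 ya22 za38)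 (ka xa0 ya22 za37) (ka xa0 ya23 za38) (ka xa0 ya22 za40) (ka xa0 ya46 za26) (ka xa0 ya22 za59) (ka xa0 ya22 za60) (ka xa0 ya22 za61) (ka xa0 ya23 za17) (ka xa0 ya22 za56) (ka xa0 ya22 za57) (ka xa0 ya10 za18) (ka xa0 ya23 za8) (ka xa0 ya23 za7) (ka xa0 ya50 za26) (ka xa0 ya50 za27) (ka xa0 ya22 za53) (ka xa0 ya22 za54) (ka xa0 ya22 za55) (ka xa0 ya22 za46) (ka xa0 ya22 za47) (ka xa0 ya49 za43) (ka xa0 ya22 za42) (ka xa0 ya22 za43) (ka xa0 ya22 za44)) (@D3.rec (fun _ => Pt) (ka xa0 ya10 za23) (ka xa0 ya10 za24) (ka xa0 ya10 za25) (ka xa0 ya19 za20) (ka xa0 ya19 za19) (ka xa0 ya50 za59) (ka xa0 ya50 za60) (ka xa0 ya22 za50) (ka xa0 ya22 za49) (ka xa0 ya50 za61) (ka xa0 ya51 za0) (ka xa0 ya23 za12) (ka xa0 ya23 za11) (ka xa0 ya10 za42) (ka xa0 ya10 za43) (ka xa0 ya49 za60) (ka xa0 ya10 za30) (ka xa0 ya22 za45) (ka xa0 ya10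 za29) (ka xa0 ya20 za14) (ka xa0 ya51 za33) (ka xa0 ya50 za50) (ka xa0 ya43 za4) (ka xa0 ya49 za47) (ka xa0 ya51 za34) (ka xa0 ya51 za31) (ka xa0 ya10 za34) (ka xa0 ya47 za20) (ka xa0 ya47 za21) (ka xa0 ya10 za36) (ka xa0 ya10 za33) (ka xa0 ya51 za58) (ka xa0 ya51 za59) (ka xa0 ya20 za15) (ka xa0 ya51 za49) (ka xa0 ya51 za50) (ka xa0 ya47 za17) (ka xa0 ya47 za18) (ka xa0 ya22 za39) (ka xa0 ya10 za38) (ka xa0 ya10 za39) (ka xa0 ya10 za40) (ka xa0 ya10 za41) (ka xa0 ya52 za25) (ka xa0 ya52 za12) (ka xa0 ya52 za13) (ka xa0 ya52 za36) (ka xa0 ya52 za15) (ka xa0 ya52 za16) (ka xa0 ya52 za17) (ka xa0 ya52 za18) (ka xa0 ya52 za54) (ka xa0 ya52 za20) (ka xa0 ya52 za21) (ka xa0 ya51 za28) (ka xa0 ya52 za22) (ka xa0 ya52 za23) (ka xa0 ya52 za24) (ka xa0 ya51 za29) (ka xa0 ya21 za8) (ka xa0 ya47 za32) (ka xa0 ya51 za30)) (@D3.rec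 (fun _ => Pt) (ka xa0 ya10 za44) (ka xa0 ya53 za23) (ka xa0 ya53 za24) (ka xa0 ya24 za3) (ka xa0 ya24 za4) (ka xa0 ya24 za5) (ka xa0 ya10 za46) (ka xa0 ya53 za36) (ka xa0 ya53 za37) (ka xa0 ya24 za9) (ka xa0 ya24 za10) (ka xa0 ya24 za11) (ka xa0 ya20 za54) (ka xa0 ya20 za53) (ka xa0 ya10 za48) (ka xa0 ya53 za56) (ka xa0 ya24 za16) (ka xa0 ya24 za17) (ka xa0 ya24 za18) (ka xa0 ya24 za19) (ka xa0 ya54 za5) (ka xa0 ya24 za21) (ka xa0 ya24 za22) (ka xa0 ya24 za23) (ka xa0 ya54 za11) (ka xa0 ya24 za25) (ka xa0 ya24 za26) (ka xa0 ya24 za27) (ka xa0 ya24 za28) (ka xa0 ya50 za57) (ka xa0 ya24 za30) (ka xa0 ya24 za31) (ka xa0 ya12 za22) (ka xa0 ya12 za23) (ka xa0 ya12 za24) (ka xa0 ya12 za26) (ka xa0 ya12 za27) (ka xa0 ya12 za28) (ka xa0 ya12 za30) (ka xa0 ya12 za32) (ka xa0 ya24 za41) (ka xa0 ya24 za40) (ka xa0 ya10 za60) (ka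 xa0 ya54 za40) (ka xa0 ya14 za31) (ka xa0 ya14 za32) (ka xa0 ya14 za34) (ka xa0 ya14 za35) (ka xa0 ya25 za2) (ka xa0 ya14 za37) (ka xa0 ya14 za38) (ka xa0 ya14 za39) (ka xa0 ya14 za40) (ka xa0 ya14 za41) (ka xa0 ya14 za42) (ka xa0 ya55 za1) (ka xa0 ya14 za47) (ka xa0 ya14 za18) (ka xa0 ya14 za33) (ka xa0 ya25 za3) (ka xa0 ya25 za4) (ka xa0 ya14 za43)) (@D3.rec (fun _ => Pt) (ka xa0 ya25 za7) (ka xa0 ya14 za11) (ka xa0 ya24 za48) (ka xa0 ya24 za59) (ka xa0 ya24 za60) (ka xa0 ya13 za30) (ka xa0 ya17 za55) (ka xa0 ya25 za0) (ka xa0 ya18 za11) (ka xa0 ya34 za35) (ka xa0 ya11 za21) (ka xa0 ya11 za22) (ka xa0 ya11 za23) (ka xa0 ya11 za24) (ka xa0 ya11 za25) (ka xa0 ya25 za20) (ka xa0 ya25 za21) (ka xa0 ya25 za22) (ka xa0 ya25 za23) (ka xa0 ya15 za10) (ka xa0 ya25 za15) (ka xa0 ya25 za16) (ka xa0 ya25 za17) (ka xa0 ya25 za18)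 (ka xa0 ya25 za26) (ka xa0 ya15 za40) (ka xa0 ya25 za24) (ka xa0 ya34 za36) (ka xa0 ya55 za29) (ka xa0 ya31 za35) (ka xa0 ya27 za32) (ka xa0 ya55 za30) (ka xa0 ya55 za31) (ka xa0 ya27 za0) (ka xa0 ya55 za32) (ka xa0 ya55 za33) (ka xa0 ya16 za17) (ka xa0 ya55 za34) (ka xa0 ya55 za35) (ka xa0 ya25 za49) (ka xa0 ya26 za53) (ka xa0 ya26 za54) (ka xa0 ya26 za55) (ka xa0 ya25 za44) (ka xa0 ya25 za43) (ka xa0 ya11 za27) (ka xa0 ya56 za47) (ka xa0 ya26 za2) (ka xa0 ya26 za3) (ka xa0 ya25 za39) (ka xa0 ya26 za4) (ka xa0 ya26 za5) (ka xa0 ya26 za6) (ka xa0 ya26 za7) (ka xa0 ya26 za8) (ka xa0 ya26 za9) (ka xa0 ya26 za10) (ka xa0 ya26 za11) (ka xa0 ya25 za59) (ka xa0 ya25 za58) (ka xa0 ya11 za33) (ka xa0 ya57 za13)) (@D3.rec (fun _ => Pt) (ka xa0 ya17 za38) (ka xa0 ya17 za42) (ka xa0 ya25 za47) (ka xa0 ya25 za48) (ka xa0 ya25 za50)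 (ka xa0 ya25 za51) (ka xa0 ya25 za52) (ka xa0 ya25 za53) (ka xa0 ya25 za54) (ka xa0 ya25 za55) (ka xa0 ya25 za56) (ka xa0 ya25 za57) (ka xa0 ya26 za15) (ka xa0 ya26 za16) (ka xa0 ya27 za56) (ka xa0 ya26 za12) (ka xa0 ya26 za13) (ka xa0 ya11 za42) (ka xa0 ya57 za47) (ka xa0 ya57 za48) (ka xa0 ya57 za49) (ka xa0 ya57 za50) (ka xa0 ya58 za2) (ka xa0 ya27 za14) (ka xa0 ya27 za15) (ka xa0 ya58 za12) (ka xa0 ya27 za17) (ka xa0 ya27 za18) (ka xa0 ya27 za19) (ka xa0 ya27 za20) (ka xa0 ya27 za21) (ka xa0 ya27 za22) (ka xa0 ya11 za61) (ka xa0 ya31 za36) (ka xa0 ya31 za37) (ka xa0 ya58 za39) (ka xa0 ya27 za24) (ka xa0 ya27 za25) (ka xa0 ya27 za26) (ka xa0 ya27 za27) (ka xa0 ya27 za28) (ka xa0 ya27 za29) (ka xa0 ya27 za30) (ka xa0 ya27 za31) (ka xa0 ya58 za53) (ka xa0 ya27 za36) (ka xa0 ya27 za37) (ka xa0 ya27 za38) (ka xa0 ya27 za39)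 (ka xa0 ya27 za40) (ka xa0 ya27 za41) (ka xa0 ya58 za61) (ka xa0 ya11 za59) (ka xa0 ya25 za40) (ka xa0 ya25 za41) (ka xa0 ya25 za42) (ka xa0 ya26 za57) (ka xa0 ya26 za56) (ka xa0 ya11 za57) (ka xa0 ya59 za6) (ka xa0 ya59 za10) (ka xa0 ya31 za25)) (@D3.rec (fun _ => Pt) (ka xa0 ya25 za33) (ka xa0 ya59 za1) (ka xa0 ya36 za31) (ka xa0 ya27 za33) (ka xa0 ya27 za34) (ka xa0 ya27 za7) (ka xa0 ya27 za53) (ka xa0 ya27 za5) (ka xa0 ya12 za3) (ka xa0 ya59 za36) (ka xa0 ya59 za37) (ka xa0 ya59 za38) (ka xa0 ya59 za39) (ka xa0 ya59 za51) (ka xa0 ya26 za23) (ka xa0 ya26 za24) (ka xa0 ya59 za61) (ka xa0 ya26 za26) (ka xa0 ya26 za27) (ka xa0 ya26 za28) (ka xa0 ya26 za29) (ka xa0 ya26 za30) (ka xa0 ya26 za31) (ka xa1 ya0 za17) (ka xa0 ya26 za36) (ka xa0 ya26 za37) (ka xa0 ya26 za38) (ka xa0 ya26 za39) (ka xa0 ya26 za40) (ka xa0 ya26 za41)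 (ka xa0 ya26 za42) (ka xa0 ya26 za43) (ka xa0 ya25 za30) (ka xa0 ya27 za3) (ka xa0 ya27 za4) (ka xa1 ya0 za37) (ka xa0 ya26 za45) (ka xa0 ya26 za46) (ka xa0 ya26 za47) (ka xa0 ya26 za48) (ka xa0 ya26 za49) (ka xa0 ya26 za50) (ka xa0 ya27 za47) (ka xa0 ya14 za58) (ka xa0 ya27 za49) (ka xa0 ya27 za50) (ka xa0 ya59 za31) (ka xa0 ya27 za42) (ka xa0 ya15 za17) (ka xa0 ya27 za44) (ka xa0 ya27 za45) (ka xa0 ya27 za54) (ka xa0 ya27 za55) (ka xa0 ya27 za6) (ka xa0 ya27 za51) (ka xa0 ya27 za52) (ka xa0 ya26 za14) (ka xa0 ya12 za21) (ka xa0 ya39 za5) (ka xa1 ya1 za9) (ka xa0 ya54 za20) (ka xa0 ya54 za21)) (@D3.rec (fun _ => Pt) (ka xa0 ya54 za22) (ka xa0 ya54 za23) (ka xa0 ya54 za24) (ka xa0 ya54 za25) (ka xa0 ya54 za26) (ka xa0 ya54 za27) (ka xa0 ya32 za34) (ka xa0 ya32 za35) (ka xa0 ya32 za36) (ka xa0 ya54 za28) (ka xa0 ya32 za40)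 (ka xa0 ya54 za29) (ka xa0 ya54 za30) (ka xa0 ya54 za31) (ka xa0 ya54 za32) (ka xa0 ya18 za47) (ka xa0 ya18 za48) (ka xa0 ya54 za33) (ka xa0 ya32 za46) (ka xa0 ya13 za8) (ka xa0 ya32 za47) (ka xa0 ya54 za34) (ka xa0 ya39 za53) (ka xa1 ya2 za13) (ka xa0 ya54 za36) (ka xa0 ya40 za30) (ka xa0 ya40 za31) (ka xa0 ya15 za46) (ka xa0 ya28 za29) (ka xa0 ya28 za28) (ka xa0 ya12 za37) (ka xa0 ya56 za10) (ka xa1 ya2 za30) (ka xa1 ya2 za31) (ka xa1 ya2 za32) (ka xa0 ya56 za3) (ka xa0 ya15 za57) (ka xa0 ya15 za58) (ka xa0 ya59 za43) (ka xa0 ya15 za60) (ka xa0 ya15 za61) (ka xa0 ya16 za0) (ka xa0 ya16 za1) (ka xa0 ya16 za2) (ka xa0 ya16 za3) (ka xa0 ya28 za45) (ka xa0 ya28 za46) (ka xa0 ya16 za5) (ka xa0 ya16 za6) (ka xa0 ya16 za7) (ka xa0 ya16 za8) (ka xa0 ya16 za9) (ka xa0 ya16 za10) (ka xa0 ya16 za11) (ka xa0 ya16 za13) (ka xa0 ya56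 za28) (ka xa0 ya16 za18) (ka xa0 ya16 za19) (ka xa0 ya16 za20) (ka xa0 ya16 za22) (ka xa0 ya28 za60) (ka xa0 ya16 za23)) (@D3.rec (fun _ => Pt) (ka xa0 ya16 za24) (ka xa0 ya16 za25) (ka xa0 ya16 za27) (ka xa0 ya16 za29) (ka xa0 ya16 za30) (ka xa0 ya16 za31) (ka xa1 ya3 za47) (ka xa0 ya16 za33) (ka xa0 ya16 za34) (ka xa0 ya16 za35) (ka xa0 ya29 za10) (ka xa0 ya29 za11) (ka xa1 ya3 za59) (ka xa0 ya16 za42) (ka xa0 ya16 za43) (ka xa0 ya16 za44) (ka xa0 ya16 za45) (ka xa0 ya16 za46) (ka xa1 ya4 za9) (ka xa0 ya16 za53) (ka xa0 ya16 za52) (ka xa0 ya16 za54) (ka xa0 ya16 za55) (ka xa0 ya16 za56) (ka xa0 ya29 za24) (ka xa1 ya4 za17) (ka xa0 ya16 za58) (ka xa1 ya4 za22) (ka xa0 ya17 za0) (ka xa0 ya17 za1) (ka xa0 ya17 za2) (ka xa0 ya17 za3) (ka xa0 ya17 za4) (ka xa1 ya4 za34) (ka xa0 ya17 za6) (ka xa0 ya17 za7) (ka xa1 ya4 za42)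 (ka xa0 ya17 za9) (ka xa0 ya17 za10) (ka xa1 ya4 za50) (ka xa1 ya4 za55) (ka xa0 ya13 za2) (ka xa1 ya4 za60) (ka xa1 ya4 za49) (ka xa0 ya17 za16) (ka xa0 ya17 za17) (ka xa0 ya17 za18) (ka xa0 ya17 za19) (ka xa0 ya17 za20) (ka xa0 ya17 za21) (ka xa0 ya42 za0) (ka xa0 ya29 za51) (ka xa0 ya17 za39) (ka xa0 ya17 za43) (ka xa0 ya17 za44) (ka xa0 ya17 za47) (ka xa0 ya17 za48) (ka xa1 ya5 za27) (ka xa0 ya17 za50) (ka xa0 ya41 za9) (ka xa0 ya41 za8) (ka xa0 ya13 za17)) (@D3.rec (fun _ => Pt) (ka xa1 ya5 za35) (ka xa0 ya18 za4) (ka xa0 ya18 za5) (ka xa0 ya18 za19) (ka xa1 ya5 za49) (ka xa0 ya18 za21) (ka xa0 ya18 za22) (ka xa0 ya18 za23) (ka xa0 ya18 za24) (ka xa1 ya5 za60) (ka xa0 ya18 za55) (ka xa0 ya18 za54) (ka xa0 ya13 za25) (ka xa1 ya6 za1) (ka xa1 ya6 za2) (ka xa0 ya18 za39) (ka xa0 ya18 za40) (ka xa0 ya18 za41) (ka xa0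 ya18 za42) (ka xa0 ya18 za43) (ka xa0 ya18 za45) (ka xa0 ya18 za14) (ka xa0 ya18 za13) (ka xa0 ya55 za21) (ka xa0 ya55 za22) (ka xa1 ya6 za31) (ka xa0 ya18 za50) (ka xa0 ya18 za51) (ka xa0 ya18 za52) (ka xa0 ya18 za53) (ka xa0 ya18 za34) (ka xa0 ya18 za33) (ka xa0 ya13 za33) (ka xa1 ya6 za42) (ka xa1 ya6 za43) (ka xa0 ya18 za59) (ka xa0 ya19 za0) (ka xa0 ya19 za1) (ka xa0 ya19 za11) (ka xa0 ya19 za10) (ka xa0 ya13 za37) (ka xa1 ya6 za59) (ka xa0 ya19 za9) (ka xa0 ya19 za4) (ka xa0 ya19 za3) (ka xa0 ya13 za39) (ka xa1 ya7 za6) (ka xa1 ya7 za7) (ka xa0 ya19 za13) (ka xa0 ya19 za14) (ka xa0 ya19 za25) (ka xa0 ya19 za24) (ka xa0 ya13 za42) (ka xa1 ya7 za16) (ka xa0 ya19 za23) (ka xa0 ya19 za30) (ka xa0 ya19 za31) (ka xa0 ya13 za50) (ka xa0 ya13 za46) (ka xa0 ya20 za45) (ka xa1 ya7 za30) (ka xa1 ya5 za37)) (@D3.rec (fun _ =>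 Pt) (ka xa0 ya13 za47) (ka xa0 ya43 za60) (ka xa1 ya7 za34) (ka xa1 ya5 za36) (ka xa1 ya7 za37) (ka xa0 ya13 za49) (ka xa1 ya7 za42) (ka xa1 ya7 za43) (ka xa1 ya7 za44) (ka xa1 ya7 za45) (ka xa1 ya7 za27) (ka xa1 ya7 za28) (ka xa1 ya8 za3) (ka xa0 ya19 za50) (ka xa1 ya8 za10) (ka xa0 ya19 za52) (ka xa1 ya8 za19) (ka xa0 ya19 za54) (ka xa0 ya19 za55) (ka xa0 ya19 za56) (ka xa0 ya19 za57) (ka xa0 ya19 za58) (ka xa0 ya19 za60) (ka xa0 ya19 za61) (ka xa0 ya54 za37) (ka xa0 ya26 za61) (ka xa0 ya13 za59) (ka xa1 ya8 za43) (ka xa1 ya8 za44) (ka xa1 ya8 za45) (ka xa1 ya8 za46) (ka xa0 ya31 za53) (ka xa0 ya31 za54) (ka xa0 ya31 za55) (ka xa0 ya31 za56) (ka xa0 ya25 za29) (ka xa0 ya26 za33) (ka xa0 ya26 za34) (ka xa0 ya31 za57) (ka xa0 ya31 za58) (ka xa0 ya31 za59) (ka xa0 ya31 za60) (ka xa0 ya31 za61) (ka xa0 ya31 za43) (ka xa0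 ya31 za44) (ka xa0 ya31 za45) (ka xa0 ya31 za46) (ka xa0 ya31 za47) (ka xa0 ya31 za48) (ka xa0 ya31 za49) (ka xa0 ya31 za50) (ka xa0 ya55 za14) (ka xa0 ya55 za15) (ka xa0 ya31 za31) (ka xa0 ya31 za32) (ka xa0 ya31 za33) (ka xa0 ya31 za34) (ka xa0 ya31 za38) (ka xa0 ya31 za39) (ka xa0 ya31 za40) (ka xa0 ya31 za41) (ka xa0 ya31 za42)) (@D3.rec (fun _ => Pt) (ka xa0 ya55 za4) (ka xa0 ya33 za40) (ka xa0 ya55 za5) (ka xa0 ya55 za6) (ka xa0 ya32 za9) (ka xa0 ya32 za10) (ka xa0 ya32 za11) (ka xa0 ya32 za12) (ka xa0 ya32 za13) (ka xa0 ya32 za4) (ka xa0 ya32 za5) (ka xa0 ya32 za6) (ka xa0 ya32 za7) (ka xa0 ya32 za8) (ka xa0 ya59 za8) (ka xa0 ya32 za17) (ka xa0 ya32 za18) (ka xa0 ya32 za15) (ka xa0 ya32 za16) (ka xa0 ya14 za30) (ka xa1 ya9 za49) (ka xa1 ya9 za50) (ka xa1 ya9 za51) (ka xa1 ya9 za52) (ka xa0 ya54 za45) (ka xa0 ya54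 za46) (ka xa0 ya54 za47) (ka xa0 ya54 za48) (ka xa0 ya55 za7) (ka xa0 ya55 za8) (ka xa0 ya42 za17) (ka xa0 ya54 za49) (ka xa0 ya54 za50) (ka xa0 ya54 za51) (ka xa0 ya28 za6) (ka xa0 ya28 za7) (ka xa0 ya28 za8) (ka xa0 ya54 za54) (ka xa0 ya55 za9) (ka xa0 ya54 za55) (ka xa0 ya28 za10) (ka xa0 ya54 za57) (ka xa1 ya10 za35) (ka xa0 ya54 za59) (ka xa0 ya54 za60) (ka xa0 ya40 za36) (ka xa0 ya28 za18) (ka xa0 ya28 za20) (ka xa0 ya39 za55) (ka xa0 ya39 za56) (ka xa0 ya39 za57) (ka xa1 ya10 za47) (ka xa1 ya10 za52) (ka xa0 ya14 za46) (ka xa1 ya10 za57) (ka xa1 ya10 za46) (ka xa0 ya55 za3) (ka xa0 ya20 za19) (ka xa0 ya40 za33) (ka xa0 ya40 za34) (ka xa0 ya40 za35) (ka xa0 ya57 za37)) (@D3.rec (fun _ => Pt) (ka xa0 ya33 za2) (ka xa0 ya56 za44) (ka xa0 ya33 za0) (ka xa0 ya14 za53) (ka xa1 ya11 za16) (ka xa1 ya11 za17) (ka xa1 ya11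 za18) (ka xa1 ya11 za19) (ka xa1 ya9 za42) (ka xa0 ya33 za52) (ka xa1 ya11 za38) (ka xa0 ya33 za54) (ka xa0 ya33 za55) (ka xa0 ya33 za56) (ka xa0 ya33 za57) (ka xa0 ya33 za58) (ka xa0 ya33 za59) (ka xa1 ya0 za49) (ka xa1 ya0 za50) (ka xa1 ya2 za24) (ka xa0 ya33 za61) (ka xa0 ya34 za0) (ka xa0 ya34 za1) (ka xa0 ya34 za2) (ka xa0 ya34 za56) (ka xa0 ya34 za7) (ka xa0 ya34 za8) (ka xa0 ya34 za9) (ka xa0 ya34 za10) (ka xa1 ya0 za51) (ka xa0 ya34 za11) (ka xa0 ya34 za12) (ka xa0 ya34 za14) (ka xa0 ya34 za15) (ka xa0 ya34 za16) (ka xa0 ya34 za17) (ka xa1 ya12 za35) (ka xa0 ya34 za19) (ka xa0 ya34 za20) (ka xa0 ya33 za39) (ka xa0 ya32 za1) (ka xa0 ya33 za41) (ka xa0 ya33 za42) (ka xa0 ya33 za43) (ka xa0 ya33 za44) (ka xa0 ya33 za45) (ka xa0 ya33 za46) (ka xa0 ya55 za46) (ka xa0 ya55 za47) (ka xa0 ya55 za48) (ka xa0 ya55 za49)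 (ka xa1 ya12 za59) (ka xa0 ya33 za9) (ka xa1 ya9 za46) (ka xa0 ya33 za11) (ka xa0 ya33 za12) (ka xa0 ya33 za13) (ka xa0 ya33 za14) (ka xa0 ya33 za15) (ka xa0 ya33 za16) (ka xa0 ya34 za52) (ka xa0 ya33 za20)) (@D3.rec (fun _ => Pt) (ka xa0 ya33 za21) (ka xa0 ya33 za22) (ka xa0 ya33 za23) (ka xa1 ya0 za58) (ka xa1 ya0 za59) (ka xa1 ya0 za60) (ka xa1 ya2 za27) (ka xa0 ya33 za25) (ka xa0 ya33 za26) (ka xa0 ya33 za27) (ka xa0 ya33 za28) (ka xa0 ya33 za30) (ka xa0 ya33 za31) (ka xa0 ya58 za36) (ka xa0 ya33 za32) (ka xa0 ya33 za33) (ka xa0 ya33 za34) (ka xa0 ya33 za35) (ka xa0 ya39 za26) (ka xa0 ya33 za37) (ka xa0 ya33 za38) (ka xa0 ya34 za24) (ka xa0 ya34 za25) (ka xa0 ya35 za4) (ka xa0 ya34 za21) (ka xa0 ya34 za22) (ka xa0 ya15 za28) (ka xa1 ya14 za11) (ka xa1 ya14 za12) (ka xa1 ya14 za13) (ka xa1 ya14 za14) (ka xa0 ya34 za46)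 (ka xa0 ya34 za47) (ka xa0 ya34 za48) (ka xa0 ya34 za49) (ka xa0 ya25 za9) (ka xa0 ya25 za27) (ka xa0 ya15 za33) (ka xa0 ya15 za34) (ka xa0 ya34 za40) (ka xa0 ya34 za39) (ka xa1 ya14 za37) (ka xa1 ya14 za38) (ka xa1 ya14 za39) (ka xa1 ya14 za40) (ka xa1 ya14 za41) (ka xa0 ya34 za31) (ka xa0 ya34 za32) (ka xa0 ya34 za33) (ka xa0 ya34 za34) (ka xa0 ya34 za51) (ka xa0 ya34 za50) (ka xa0 ya33 za60) (ka xa0 ya34 za57) (ka xa0 ya34 za58) (ka xa0 ya56 za0) (ka xa0 ya33 za24) (ka xa0 ya34 za53) (ka xa0 ya34 za54) (ka xa0 ya15 za47) (ka xa0 ya15 za48) (ka xa0 ya15 za49)) (@D3.rec (fun _ => Pt) (ka xa0 ya15 za50) (ka xa0 ya15 za51) (ka xa0 ya35 za3) (ka xa0 ya35 za2) (ka xa0 ya34 za23) (ka xa1 ya2 za23) (ka xa1 ya12 za60) (ka xa1 ya15 za22) (ka xa1 ya15 za23) (ka xa1 ya15 za24) (ka xa0 ya35 za11) (ka xa0 ya35 za10) (ka xa1 ya15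 za26) (ka xa1 ya15 za27) (ka xa1 ya16 za3) (ka xa1 ya15 za28) (ka xa1 ya15 za29) (ka xa1 ya15 za30) (ka xa1 ya15 za31) (ka xa1 ya15 za32) (ka xa1 ya15 za33) (ka xa1 ya15 za34) (ka xa0 ya59 za28) (ka xa0 ya39 za14) (ka xa0 ya39 za15) (ka xa0 ya57 za44) (ka xa0 ya39 za17) (ka xa0 ya39 za18) (ka xa0 ya39 za19) (ka xa0 ya39 za20) (ka xa0 ya39 za21) (ka xa0 ya39 za22) (ka xa1 ya2 za49) (ka xa0 ya15 za56) (ka xa1 ya16 za49) (ka xa1 ya16 za50) (ka xa0 ya58 za17) (ka xa1 ya2 za44) (ka xa1 ya2 za45) (ka xa1 ya2 za46) (ka xa1 ya2 za47) (ka xa1 ya2 za48) (ka xa0 ya56 za5) (ka xa0 ya15 za59) (ka xa1 ya17 za11) (ka xa1 ya17 za12) (ka xa1 ya17 za13) (ka xa1 ya2 za52) (ka xa1 ya2 za53) (ka xa0 ya59 za54) (ka xa1 ya0 za26) (ka xa1 ya17 za33) (ka xa1 ya2 za55) (ka xa1 ya0 za4) (ka xa1 ya2 za56) (ka xa1 ya17 za45) (ka xa1 ya2 za58) (ka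 xa1 ya2 za59) (ka xa1 ya2 za60) (ka xa1 ya2 za61) (ka xa1 ya18 za0) (ka xa1 ya3 za1)) (@D3.rec (fun _ => Pt) (ka xa1 ya3 za2) (ka xa1 ya3 za3) (ka xa1 ya3 za20) (ka xa0 ya16 za4) (ka xa1 ya18 za12) (ka xa1 ya18 za13) (ka xa1 ya0 za42) (ka xa1 ya3 za8) (ka xa1 ya3 za9) (ka xa1 ya3 za10) (ka xa1 ya0 za28) (ka xa0 ya56 za53) (ka xa1 ya3 za11) (ka xa1 ya0 za34) (ka xa1 ya3 za12) (ka xa1 ya3 za13) (ka xa1 ya0 za45) (ka xa1 ya3 za14) (ka xa1 ya18 za47) (ka xa1 ya3 za16) (ka xa1 ya3 za17) (ka xa1 ya3 za18) (ka xa1 ya3 za19) (ka xa0 ya39 za37) (ka xa0 ya39 za36) (ka xa0 ya36 za25) (ka xa0 ya36 za26) (ka xa0 ya36 za27) (ka xa0 ya36 za28) (ka xa0 ya36 za29) (ka xa0 ya36 za30) (ka xa0 ya27 za2) (ka xa0 ya56 za29) (ka xa0 ya56 za30) (ka xa1 ya3 za23) (ka xa1 ya3 za24) (ka xa0 ya58 za42) (ka xa0 ya58 za49) (ka xa1 ya19 za21) (ka xa1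 ya3 za26) (ka xa0 ya39 za34) (ka xa1 ya19 za27) (ka xa1 ya3 za30) (ka xa1 ya3 za29) (ka xa0 ya58 za58) (ka xa1 ya3 za31) (ka xa1 ya3 za32) (ka xa0 ya39 za52) (ka xa1 ya3 za33) (ka xa0 ya36 za49) (ka xa0 ya36 za50) (ka xa0 ya36 za51) (ka xa1 ya19 za35) (ka xa1 ya3 za35) (ka xa1 ya3 za36) (ka xa0 ya39 za25) (ka xa1 ya3 za37) (ka xa0 ya39 za27) (ka xa1 ya3 za38) (ka xa1 ya19 za50) (ka xa1 ya3 za40) (ka xa1 ya3 za41)) (@D3.rec (fun _ => Pt) (ka xa1 ya19 za61) (ka xa1 ya3 za43) (ka xa1 ya3 za44) (ka xa1 ya20 za7) (ka xa1 ya20 za11) (ka xa0 ya16 za32) (ka xa1 ya20 za16) (ka xa1 ya20 za6) (ka xa1 ya3 za50) (ka xa1 ya3 za51) (ka xa1 ya3 za52) (ka xa1 ya3 za53) (ka xa1 ya3 za54) (ka xa1 ya3 za55) (ka xa0 ya40 za44) (ka xa0 ya40 za51) (ka xa1 ya20 za42) (ka xa0 ya39 za50) (ka xa0 ya39 za51) (ka xa0 ya39 za43) (ka xa1 ya20 za50)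 (ka xa0 ya37 za59) (ka xa0 ya40 za53) (ka xa1 ya20 za57) (ka xa0 ya37 za58) (ka xa1 ya4 za8) (ka xa1 ya4 za7) (ka xa0 ya16 za41) (ka xa1 ya21 za6) (ka xa1 ya21 za7) (ka xa1 ya4 za0) (ka xa0 ya41 za2) (ka xa0 ya41 za5) (ka xa1 ya4 za1) (ka xa1 ya3 za61) (ka xa0 ya41 za1) (ka xa1 ya4 za2) (ka xa1 ya4 za3) (ka xa1 ya4 za4) (ka xa1 ya4 za5) (ka xa1 ya4 za6) (ka xa0 ya37 za41) (ka xa0 ya37 za42) (ka xa0 ya37 za43) (ka xa0 ya37 za44) (ka xa0 ya37 za45) (ka xa0 ya20 za11) (ka xa0 ya42 za12) (ka xa0 ya42 za15) (ka xa1 ya4 za12) (ka xa1 ya4 za11) (ka xa1 ya4 za13) (ka xa0 ya42 za14) (ka xa1 ya4 za14) (ka xa1 ya4 za21) (ka xa1 ya4 za20) (ka xa0 ya16 za57) (ka xa1 ya21 za58) (ka xa0 ya37 za24) (ka xa0 ya37 za21) (ka xa1 ya4 za19) (ka xa1 ya5 za19)) (@D3.rec (fun _ => Pt) (ka xa0 ya38 za0) (ka xa0 ya38 za1) (ka xa0 ya38 za2) (ka xa0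 ya38 za3) (ka xa0 ya38 za4) (ka xa1 ya4 za16) (ka xa1 ya4 za15) (ka xa0 ya16 za61) (ka xa1 ya22 za15) (ka xa1 ya5 za17) (ka xa1 ya4 za25) (ka xa1 ya4 za26) (ka xa1 ya4 za27) (ka xa1 ya4 za28) (ka xa1 ya4 za29) (ka xa1 ya4 za30) (ka xa1 ya2 za4) (ka xa1 ya4 za31) (ka xa1 ya4 za41) (ka xa1 ya4 za40) (ka xa0 ya17 za5) (ka xa1 ya22 za44) (ka xa1 ya22 za45) (ka xa1 ya22 za46) (ka xa1 ya4 za37) (ka xa1 ya4 za38) (ka xa1 ya4 za39) (ka xa1 ya4 za33) (ka xa1 ya4 za32) (ka xa0 ya17 za8) (ka xa1 ya23 za7) (ka xa1 ya23 za8) (ka xa1 ya23 za9) (ka xa1 ya4 za46) (ka xa1 ya4 za47) (ka xa1 ya4 za48) (ka xa0 ya17 za15) (ka xa0 ya17 za11) (ka xa0 ya38 za39) (ka xa0 ya38 za38) (ka xa1 ya23 za29) (ka xa1 ya23 za30) (ka xa0 ya17 za12) (ka xa1 ya23 za49) (ka xa1 ya23 za39) (ka xa1 ya23 za43) (ka xa1 ya23 za47) (ka xa0 ya17 za14) (ka xa1 ya8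 za18) (ka xa1 ya8 za17) (ka xa1 ya23 za59) (ka xa1 ya23 za60) (ka xa1 ya23 za27) (ka xa1 ya24 za15) (ka xa1 ya5 za5) (ka xa1 ya24 za22) (ka xa1 ya5 za7) (ka xa1 ya5 za8) (ka xa1 ya5 za9) (ka xa1 ya5 za10) (ka xa1 ya5 za11) (ka xa1 ya5 za12)) (@D3.rec (fun _ => Pt) (ka xa1 ya5 za13) (ka xa1 ya5 za15) (ka xa1 ya5 za16) (ka xa1 ya5 za18) (ka xa1 ya24 za50) (ka xa0 ya27 za58) (ka xa0 ya39 za7) (ka xa0 ya39 za6) (ka xa0 ya17 za33) (ka xa1 ya24 za54) (ka xa1 ya24 za55) (ka xa1 ya24 za56) (ka xa1 ya24 za57) (ka xa0 ya57 za39) (ka xa0 ya35 za23) (ka xa0 ya35 za24) (ka xa0 ya59 za33) (ka xa0 ya35 za26) (ka xa0 ya35 za27) (ka xa0 ya35 za28) (ka xa0 ya35 za29) (ka xa0 ya35 za30) (ka xa0 ya35 za31) (ka xa0 ya59 za16) (ka xa0 ya57 za19) (ka xa0 ya36 za55) (ka xa0 ya34 za18) (ka xa0 ya36 za57) (ka xa0 ya39 za28) (ka xa0 ya39 za29) (ka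 xa1 ya0 za55) (ka xa0 ya57 za21) (ka xa0 ya57 za22) (ka xa1 ya5 za22) (ka xa0 ya36 za40) (ka xa0 ya39 za35) (ka xa0 ya36 za24) (ka xa0 ya36 za23) (ka xa0 ya57 za3) (ka xa0 ya57 za4) (ka xa1 ya25 za52) (ka xa1 ya5 za24) (ka xa1 ya5 za25) (ka xa0 ya37 za19) (ka xa1 ya26 za0) (ka xa1 ya26 za4) (ka xa0 ya17 za49) (ka xa1 ya23 za40) (ka xa1 ya25 za61) (ka xa1 ya5 za29) (ka xa0 ya37 za17) (ka xa0 ya37 za18) (ka xa0 ya36 za47) (ka xa0 ya28 za22) (ka xa0 ya55 za23) (ka xa0 ya32 za48) (ka xa0 ya32 za49) (ka xa0 ya32 za50) (ka xa0 ya45 za19) (ka xa0 ya45 za18) (ka xa0 ya17 za57) (ka xa1 ya26 za26)) (@D3.rec (fun _ => Pt) (ka xa0 ya45 za17) (ka xa0 ya41 za57) (ka xa0 ya45 za14) (ka xa0 ya45 za13) (ka xa0 ya17 za59) (ka xa1 ya26 za35) (ka xa0 ya45 za3) (ka xa0 ya18 za3) (ka xa0 ya17 za61) (ka xa1 ya26 za44) (ka xa0 ya45 za39) (ka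 xa1 ya26 za42) (ka xa0 ya18 za0) (ka xa1 ya26 za51) (ka xa0 ya49 za3) (ka xa0 ya44 za27) (ka xa0 ya18 za2) (ka xa0 ya19 za40) (ka xa0 ya19 za36) (ka xa1 ya26 za56) (ka xa1 ya26 za57) (ka xa1 ya26 za39) (ka xa1 ya26 za40) (ka xa1 ya27 za13) (ka xa1 ya5 za41) (ka xa1 ya5 za42) (ka xa1 ya5 za43) (ka xa1 ya5 za44) (ka xa0 ya41 za13) (ka xa0 ya41 za14) (ka xa0 ya28 za25) (ka xa0 ya28 za26) (ka xa1 ya27 za38) (ka xa0 ya32 za58) (ka xa0 ya32 za59) (ka xa0 ya32 za60) (ka xa0 ya32 za45) (ka xa0 ya55 za26) (ka xa0 ya55 za27) (ka xa0 ya18 za15) (ka xa0 ya18 za16) (ka xa1 ya1 za48) (ka xa1 ya6 za22) (ka xa1 ya1 za49) (ka xa0 ya37 za14) (ka xa1 ya28 za8) (ka xa1 ya27 za52) (ka xa1 ya27 za53) (ka xa1 ya27 za54) (ka xa1 ya27 za55) (ka xa1 ya27 za56) (ka xa0 ya37 za15) (ka xa1 ya28 za26) (ka xa0 ya37 za22) (ka xa1 ya5 za45) (ka xa1 ya5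 za46) (ka xa0 ya57 za36) (ka xa1 ya6 za30) (ka xa1 ya6 za29) (ka xa0 ya18 za20) (ka xa1 ya28 za39) (ka xa1 ya5 za51)) (@D3.rec (fun _ => Pt) (ka xa1 ya5 za52) (ka xa0 ya37 za35) (ka xa0 ya37 za31) (ka xa1 ya5 za53) (ka xa1 ya5 za54) (ka xa0 ya37 za32) (ka xa1 ya5 za56) (ka xa1 ya5 za57) (ka xa0 ya29 za60) (ka xa0 ya29 za59) (ka xa0 ya18 za25) (ka xa1 ya29 za1) (ka xa1 ya29 za2) (ka xa0 ya40 za28) (ka xa0 ya40 za29) (ka xa1 ya5 za59) (ka xa1 ya5 za58) (ka xa0 ya18 za28) (ka xa1 ya29 za18) (ka xa1 ya29 za19) (ka xa0 ya42 za61) (ka xa0 ya42 za40) (ka xa0 ya46 za58) (ka xa0 ya47 za10) (ka xa0 ya18 za31) (ka xa1 ya29 za34) (ka xa0 ya42 za59) (ka xa1 ya29 za40) (ka xa1 ya6 za40) (ka xa0 ya42 za55) (ka xa1 ya6 za41) (ka xa1 ya29 za49) (ka xa1 ya6 za38) (ka xa0 ya42 za54) (ka xa0 ya18 za36) (ka xa0 ya18 za37) (ka xa1 ya6 za45)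 (ka xa1 ya6 za44) (ka xa1 ya29 za53) (ka xa1 ya29 za54) (ka xa1 ya29 za55) (ka xa1 ya29 za56) (ka xa1 ya29 za57) (ka xa1 ya29 za58) (ka xa1 ya30 za20) (ka xa0 ya45 za38) (ka xa1 ya6 za11) (ka xa1 ya6 za12) (ka xa1 ya6 za13) (ka xa1 ya6 za14) (ka xa1 ya30 za38) (ka xa1 ya6 za15) (ka xa1 ya30 za43) (ka xa1 ya6 za17) (ka xa0 ya42 za42) (ka xa1 ya6 za18) (ka xa1 ya6 za19) (ka xa0 ya40 za1) (ka xa1 ya30 za56) (ka xa0 ya48 za54) (ka xa1 ya30 za61) (ka xa1 ya6 za21)) (@D3.rec (fun _ => Pt) (ka xa0 ya29 za50) (ka xa1 ya31 za6) (ka xa1 ya1 za56) (ka xa1 ya1 za57) (ka xa1 ya1 za58) (ka xa1 ya1 za59) (ka xa1 ya5 za48) (ka xa1 ya5 za47) (ka xa0 ya18 za49) (ka xa1 ya20 za40) (ka xa1 ya6 za33) (ka xa1 ya6 za34) (ka xa0 ya37 za47) (ka xa1 ya6 za35) (ka xa0 ya37 za52) (ka xa0 ya37 za48) (ka xa1 ya6 za36) (ka xa0 ya32 za30) (ka xa0 ya46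 za0) (ka xa1 ya6 za0) (ka xa0 ya43 za7) (ka xa0 ya46 za61) (ka xa1 ya5 za61) (ka xa0 ya43 za6) (ka xa0 ya42 za31) (ka xa0 ya18 za57) (ka xa0 ya18 za58) (ka xa1 ya6 za4) (ka xa1 ya6 za3) (ka xa1 ya24 za36) (ka xa1 ya24 za34) (ka xa0 ya42 za24) (ka xa1 ya6 za58) (ka xa1 ya31 za42) (ka xa1 ya31 za43) (ka xa1 ya6 za51) (ka xa1 ya6 za52) (ka xa1 ya6 za53) (ka xa1 ya6 za54) (ka xa1 ya32 za11) (ka xa0 ya41 za21) (ka xa1 ya32 za16) (ka xa0 ya41 za54) (ka xa1 ya6 za55) (ka xa1 ya6 za56) (ka xa0 ya45 za9) (ka xa0 ya45 za8) (ka xa0 ya19 za2) (ka xa1 ya7 za11) (ka xa1 ya7 za5) (ka xa1 ya6 za48) (ka xa1 ya32 za30) (ka xa1 ya7 za3) (ka xa0 ya19 za6) (ka xa0 ya41 za33) (ka xa0 ya41 za29) (ka xa1 ya32 za32) (ka xa1 ya32 za33) (ka xa1 ya32 za45) (ka xa0 ya41 za26) (ka xa1 ya32 za51) (ka xa0 ya41 za20)) (@D3.rec (fun _ => Pt) (ka xa1 ya7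 za0) (ka xa1 ya7 za1) (ka xa1 ya6 za61) (ka xa0 ya51 za1) (ka xa0 ya23 za22) (ka xa1 ya6 za57) (ka xa0 ya42 za23) (ka xa0 ya42 za20) (ka xa0 ya43 za9) (ka xa0 ya43 za8) (ka xa1 ya33 za15) (ka xa1 ya33 za16) (ka xa0 ya44 za5) (ka xa0 ya43 za15) (ka xa1 ya7 za41) (ka xa0 ya43 za13) (ka xa0 ya22 za19) (ka xa0 ya51 za4) (ka xa0 ya51 za5) (ka xa0 ya50 za21) (ka xa0 ya51 za2) (ka xa0 ya19 za22) (ka xa0 ya51 za7) (ka xa0 ya51 za6) (ka xa1 ya33 za28) (ka xa1 ya33 za29) (ka xa1 ya7 za21) (ka xa1 ya7 za22) (ka xa1 ya7 za23) (ka xa1 ya7 za2) (ka xa1 ya7 za15) (ka xa1 ya32 za26) (ka xa1 ya7 za12) (ka xa1 ya7 za13) (ka xa0 ya19 za27) (ka xa0 ya19 za28) (ka xa1 ya7 za18) (ka xa1 ya7 za17) (ka xa1 ya33 za58) (ka xa0 ya43 za40) (ka xa0 ya43 za39) (ka xa1 ya7 za24) (ka xa1 ya7 za25) (ka xa1 ya7 za26) (ka xa0 ya44 za0) (ka xa0 ya19 za47)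 (ka xa0 ya19 za48) (ka xa1 ya33 za3) (ka xa1 ya7 za14) (ka xa0 ya19 za34) (ka xa1 ya34 za17) (ka xa1 ya32 za21) (ka xa0 ya22 za31) (ka xa0 ya46 za7) (ka xa0 ya46 za9) (ka xa0 ya19 za39) (ka xa1 ya26 za61) (ka xa1 ya27 za0) (ka xa0 ya19 za41) (ka xa0 ya19 za38) (ka xa0 ya31 za1) (ka xa1 ya34 za35)) (@D3.rec (fun _ => Pt) (ka xa0 ya43 za44) (ka xa1 ya34 za27) (ka xa1 ya34 za28) (ka xa1 ya26 za59) (ka xa1 ya26 za58) (ka xa0 ya43 za12) (ka xa1 ya34 za20) (ka xa0 ya19 za43) (ka xa0 ya19 za44) (ka xa0 ya19 za45) (ka xa0 ya19 za46) (ka xa1 ya34 za58) (ka xa1 ya34 za45) (ka xa1 ya34 za46) (ka xa1 ya35 za8) (ka xa1 ya34 za48) (ka xa1 ya34 za49) (ka xa1 ya34 za50) (ka xa1 ya34 za51) (ka xa1 ya35 za26) (ka xa1 ya34 za53) (ka xa1 ya34 za54) (ka xa1 ya34 za13) (ka xa1 ya34 za55) (ka xa1 ya34 za56) (ka xa1 ya34 za57) (ka xa1 ya34 za14)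 (ka xa0 ya40 za15) (ka xa1 ya27 za11) (ka xa1 ya34 za15) (ka xa0 ya19 za49) (ka xa1 ya35 za58) (ka xa1 ya35 za59) (ka xa1 ya8 za6) (ka xa1 ya8 za7) (ka xa1 ya8 za8) (ka xa1 ya8 za9) (ka xa0 ya19 za51) (ka xa1 ya36 za15) (ka xa1 ya36 za16) (ka xa1 ya8 za13) (ka xa1 ya8 za14) (ka xa1 ya8 za15) (ka xa1 ya8 za16) (ka xa1 ya5 za0) (ka xa1 ya4 za61) (ka xa0 ya19 za53) (ka xa1 ya36 za37) (ka xa1 ya8 za21) (ka xa1 ya8 za22) (ka xa1 ya8 za23) (ka xa1 ya8 za24) (ka xa1 ya36 za53) (ka xa1 ya8 za26) (ka xa1 ya8 za27) (ka xa0 ya44 za58) (ka xa1 ya37 za5) (ka xa1 ya8 za29) (ka xa0 ya44 za55) (ka xa1 ya8 za30) (ka xa1 ya8 za31) (ka xa1 ya8 za32)) (@D3.rec (fun _ => Pt) (ka xa1 ya8 za33) (ka xa1 ya8 za34) (ka xa1 ya33 za23) (ka xa0 ya40 za6) (ka xa1 ya33 za56) (ka xa1 ya8 za35) (ka xa1 ya8 za36) (ka xa1 ya8 za37) (ka xa0 ya42 za46) (ka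 xa0 ya42 za45) (ka xa0 ya20 za0) (ka xa1 ya37 za33) (ka xa0 ya20 za20) (ka xa0 ya40 za3) (ka xa0 ya40 za2) (ka xa0 ya20 za5) (ka xa1 ya37 za42) (ka xa0 ya40 za0) (ka xa0 ya39 za59) (ka xa0 ya39 za58) (ka xa0 ya20 za10) (ka xa0 ya20 za18) (ka xa0 ya51 za35) (ka xa0 ya51 za44) (ka xa0 ya52 za0) (ka xa0 ya52 za1) (ka xa0 ya20 za17) (ka xa1 ya37 za57) (ka xa1 ya37 za58) (ka xa1 ya37 za59) (ka xa1 ya37 za60) (ka xa1 ya37 za48) (ka xa1 ya37 za49) (ka xa1 ya38 za19) (ka xa1 ya11 za5) (ka xa1 ya37 za38) (ka xa1 ya37 za39) (ka xa1 ya37 za40) (ka xa0 ya41 za45) (ka xa0 ya40 za10) (ka xa0 ya47 za50) (ka xa0 ya47 za51) (ka xa0 ya48 za58) (ka xa0 ya47 za48) (ka xa0 ya46 za42) (ka xa0 ya20 za26) (ka xa0 ya20 za50) (ka xa0 ya20 za46) (ka xa1 ya38 za40) (ka xa1 ya38 za41) (ka xa0 ya45 za50) (ka xa0 ya45 za51) (ka xa0 ya45 za52) (ka xa0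 ya46 za2) (ka xa0 ya46 za3) (ka xa0 ya46 za56) (ka xa0 ya20 za34) (ka xa0 ya51 za27) (ka xa1 ya38 za61) (ka xa1 ya39 za0) (ka xa1 ya39 za1) (ka xa0 ya45 za61)) (@D3.rec (fun _ => Pt) (ka xa0 ya42 za18) (ka xa0 ya47 za60) (ka xa0 ya45 za53) (ka xa0 ya45 za54) (ka xa0 ya20 za40) (ka xa1 ya39 za15) (ka xa0 ya20 za57) (ka xa0 ya43 za53) (ka xa0 ya22 za22) (ka xa0 ya43 za54) (ka xa0 ya51 za3) (ka xa1 ya7 za29) (ka xa1 ya7 za31) (ka xa0 ya20 za49) (ka xa1 ya38 za45) (ka xa1 ya38 za46) (ka xa0 ya20 za51) (ka xa0 ya22 za29) (ka xa0 ya20 za48) (ka xa0 ya50 za46) (ka xa1 ya39 za34) (ka xa1 ya39 za35) (ka xa0 ya51 za9) (ka xa0 ya51 za12) (ka xa1 ya38 za42) (ka xa1 ya38 za43) (ka xa0 ya22 za41) (ka xa0 ya20 za55) (ka xa0 ya20 za56) (ka xa0 ya52 za46) (ka xa0 ya53 za54) (ka xa0 ya53 za55) (ka xa1 ya39 za61) (ka xa0 ya53 za51) (ka xa0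 ya53 za52) (ka xa0 ya52 za26) (ka xa0 ya52 za53) (ka xa1 ya39 za48) (ka xa1 ya39 za49) (ka xa1 ya39 za50) (ka xa1 ya39 za51) (ka xa1 ya39 za52) (ka xa0 ya45 za44) (ka xa0 ya47 za54) (ka xa1 ya39 za18) (ka xa1 ya40 za36) (ka xa0 ya46 za46) (ka xa0 ya46 za47) (ka xa1 ya40 za41) (ka xa0 ya46 za49) (ka xa0 ya46 za50) (ka xa0 ya21 za14) (ka xa0 ya21 za15) (ka xa0 ya48 za61) (ka xa0 ya21 za3) (ka xa0 ya21 za4) (ka xa0 ya45 za55) (ka xa0 ya21 za2) (ka xa0 ya41 za22) (ka xa1 ya40 za52) (ka xa1 ya39 za12) (ka xa0 ya42 za21)) (@D3.rec (fun _ => Pt) (ka xa0 ya48 za6) (ka xa1 ya40 za53) (ka xa1 ya37 za61) (ka xa1 ya40 za49) (ka xa0 ya21 za7) (ka xa0 ya21 za56) (ka xa1 ya40 za50) (ka xa0 ya48 za55) (ka xa0 ya21 za6) (ka xa1 ya41 za10) (ka xa0 ya41 za23) (ka xa1 ya41 za3) (ka xa0 ya53 za18) (ka xa0 ya50 za7) (ka xa0 ya21 za12) (ka xa0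 ya21 za13) (ka xa1 ya41 za21) (ka xa0 ya23 za36) (ka xa0 ya23 za37) (ka xa1 ya41 za29) (ka xa0 ya23 za27) (ka xa0 ya23 za28) (ka xa1 ya34 za38) (ka xa1 ya34 za25) (ka xa1 ya41 za44) (ka xa1 ya41 za16) (ka xa1 ya41 za17) (ka xa1 ya40 za45) (ka xa1 ya41 za18) (ka xa1 ya41 za19) (ka xa1 ya41 za20) (ka xa1 ya40 za46) (ka xa0 ya23 za60) (ka xa1 ya40 za47) (ka xa0 ya21 za16) (ka xa1 ya42 za8) (ka xa0 ya47 za36) (ka xa0 ya47 za37) (ka xa0 ya47 za38) (ka xa1 ya42 za16) (ka xa0 ya47 za40) (ka xa0 ya47 za41) (ka xa0 ya47 za42) (ka xa1 ya42 za25) (ka xa0 ya47 za44) (ka xa0 ya47 za45) (ka xa0 ya47 za46) (ka xa0 ya47 za47) (ka xa0 ya45 za43) (ka xa0 ya47 za56) (ka xa0 ya45 za40) (ka xa0 ya45 za41) (ka xa0 ya21 za26) (ka xa0 ya21 za27) (ka xa0 ya46 za43) (ka xa1 ya42 za35) (ka xa0 ya47 za49) (ka xa0 ya21 za29) (ka xa1 ya39 za36) (ka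 xa1 ya42 za42) (ka xa0 ya46 za1) (ka xa0 ya49 za7)) (@D3.rec (fun _ => Pt) (ka xa0 ya49 za8) (ka xa0 ya49 za9) (ka xa0 ya49 za10) (ka xa0 ya22 za12) (ka xa0 ya49 za11) (ka xa0 ya21 za33) (ka xa0 ya47 za0) (ka xa1 ya34 za24) (ka xa0 ya49 za0) (ka xa0 ya49 za1) (ka xa0 ya49 za2) (ka xa0 ya21 za40) (ka xa0 ya21 za41) (ka xa0 ya21 za42) (ka xa0 ya21 za43) (ka xa0 ya21 za44) (ka xa0 ya21 za45) (ka xa1 ya33 za19) (ka xa0 ya49 za19) (ka xa0 ya49 za20) (ka xa1 ya39 za19) (ka xa0 ya49 za16) (ka xa0 ya49 za17) (ka xa0 ya49 za22) (ka xa0 ya49 za21) (ka xa1 ya43 za5) (ka xa1 ya43 za6) (ka xa1 ya43 za7) (ka xa1 ya43 za8) (ka xa1 ya43 za9) (ka xa1 ya43 za10) (ka xa1 ya43 za53) (ka xa1 ya39 za2) (ka xa1 ya43 za59) (ka xa1 ya43 za13) (ka xa0 ya49 za31) (ka xa0 ya49 za46) (ka xa1 ya43 za14) (ka xa1 ya42 za57) (ka xa1 ya39 za59) (ka xa0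 ya48 za40) (ka xa1 ya44 za15) (ka xa0 ya48 za42) (ka xa0 ya48 za43) (ka xa0 ya48 za47) (ka xa0 ya21 za50) (ka xa1 ya44 za20) (ka xa0 ya48 za44) (ka xa0 ya21 za51) (ka xa1 ya44 za24) (ka xa1 ya44 za28) (ka xa0 ya48 za51) (ka xa0 ya48 za52) (ka xa1 ya26 za48) (ka xa0 ya41 za59) (ka xa0 ya47 za7) (ka xa0 ya21 za57) (ka xa1 ya44 za35) (ka xa0 ya45 za42) (ka xa0 ya21 za59) (ka xa1 ya44 za37) (ka xa0 ya46 za53)) (@D3.rec (fun _ => Pt) (ka xa0 ya48 za8) (ka xa0 ya48 za9) (ka xa0 ya48 za10) (ka xa0 ya40 za14) (ka xa0 ya22 za0) (ka xa1 ya39 za20) (ka xa1 ya44 za49) (ka xa0 ya47 za61) (ka xa0 ya48 za0) (ka xa0 ya48 za1) (ka xa0 ya48 za2) (ka xa0 ya48 za4) (ka xa0 ya22 za8) (ka xa0 ya22 za9) (ka xa0 ya22 za11) (ka xa1 ya39 za33) (ka xa0 ya48 za21) (ka xa0 ya48 za22) (ka xa1 ya34 za21) (ka xa0 ya48 za18) (ka xa0 ya48 za19) (ka xa0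 ya48 za24) (ka xa0 ya48 za23) (ka xa1 ya43 za36) (ka xa1 ya45 za0) (ka xa1 ya45 za1) (ka xa1 ya45 za2) (ka xa1 ya45 za3) (ka xa1 ya45 za4) (ka xa1 ya34 za22) (ka xa0 ya49 za45) (ka xa0 ya48 za35) (ka xa1 ya45 za5) (ka xa0 ya52 za10) (ka xa1 ya45 za51) (ka xa1 ya40 za5) (ka xa0 ya49 za36) (ka xa0 ya49 za37) (ka xa0 ya49 za38) (ka xa0 ya49 za39) (ka xa1 ya39 za31) (ka xa0 ya49 za41) (ka xa1 ya33 za20) (ka xa0 ya22 za58) (ka xa0 ya50 za0) (ka xa0 ya49 za30) (ka xa0 ya48 za36) (ka xa0 ya23 za23) (ka xa0 ya49 za61) (ka xa0 ya22 za25) (ka xa0 ya22 za26) (ka xa0 ya50 za4) (ka xa0 ya50 za3) (ka xa1 ya46 za6) (ka xa1 ya46 za7) (ka xa1 ya46 za8) (ka xa1 ya46 za9) (ka xa1 ya46 za10) (ka xa1 ya46 za30) (ka xa0 ya49 za59) (ka xa0 ya23 za15) (ka xa0 ya49 za48)) (@D3.rec (fun _ => Pt) (ka xa0 ya49 za44) (ka xa0 ya22 za35) (ka xa0 ya22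 za36) (ka xa0 ya49 za52) (ka xa0 ya49 za51) (ka xa1 ya46 za15) (ka xa1 ya46 za37) (ka xa0 ya47 za13) (ka xa1 ya42 za6) (ka xa1 ya39 za39) (ka xa0 ya50 za12) (ka xa1 ya34 za40) (ka xa0 ya50 za10) (ka xa1 ya39 za46) (ka xa0 ya50 za14) (ka xa0 ya50 za45) (ka xa0 ya50 za53) (ka xa0 ya50 za54) (ka xa0 ya50 za55) (ka xa0 ya50 za56) (ka xa0 ya50 za58) (ka xa0 ya43 za19) (ka xa0 ya51 za32) (ka xa0 ya50 za47) (ka xa0 ya50 za48) (ka xa0 ya50 za49) (ka xa0 ya22 za51) (ka xa0 ya22 za52) (ka xa0 ya51 za16) (ka xa0 ya51 za17) (ka xa0 ya51 za36) (ka xa0 ya51 za13) (ka xa0 ya51 za14) (ka xa0 ya51 za19) (ka xa0 ya51 za18) (ka xa1 ya47 za16) (ka xa1 ya47 za17) (ka xa1 ya47 za18) (ka xa1 ya47 za19) (ka xa1 ya47 za20) (ka xa0 ya51 za56) (ka xa0 ya50 za41) (ka xa0 ya50 za42) (ka xa1 ya41 za35) (ka xa0 ya50 za44) (ka xa0 ya50 za15) (ka xa0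 ya46 za19) (ka xa0 ya50 za23) (ka xa0 ya50 za24) (ka xa0 ya50 za25) (ka xa0 ya23 za21) (ka xa1 ya45 za60) (ka xa1 ya45 za61) (ka xa0 ya50 za16) (ka xa0 ya50 za17) (ka xa0 ya50 za18) (ka xa0 ya50 za19) (ka xa0 ya24 za29) (ka xa0 ya50 za20) (ka xa0 ya23 za5) (ka xa0 ya23 za6) (ka xa0 ya23 za9)) (@D3.rec (fun _ => Pt) (ka xa0 ya23 za10) (ka xa0 ya43 za3) (ka xa0 ya43 za20) (ka xa0 ya46 za10) (ka xa0 ya43 za17) (ka xa0 ya43 za18) (ka xa0 ya43 za23) (ka xa0 ya43 za22) (ka xa1 ya48 za27) (ka xa0 ya46 za22) (ka xa0 ya51 za11) (ka xa0 ya51 za10) (ka xa0 ya46 za23) (ka xa0 ya50 za31) (ka xa0 ya50 za32) (ka xa1 ya40 za51) (ka xa0 ya50 za28) (ka xa0 ya50 za29) (ka xa0 ya50 za34) (ka xa0 ya50 za33) (ka xa1 ya48 za29) (ka xa1 ya48 za30) (ka xa1 ya38 za39) (ka xa1 ya42 za37) (ka xa0 ya51 za26) (ka xa1 ya46 za52) (ka xa0 ya51 za24) (ka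 xa0 ya45 za57) (ka xa0 ya23 za54) (ka xa0 ya23 za58) (ka xa0 ya23 za61) (ka xa0 ya23 za25) (ka xa0 ya50 za22) (ka xa0 ya23 za20) (ka xa0 ya23 za24) (ka xa0 ya45 za22) (ka xa0 ya50 za30) (ka xa1 ya41 za43) (ka xa1 ya49 za28) (ka xa1 ya48 za9) (ka xa1 ya31 za46) (ka xa1 ya31 za55) (ka xa1 ya46 za3) (ka xa1 ya49 za29) (ka xa0 ya45 za23) (ka xa1 ya33 za9) (ka xa1 ya40 za59) (ka xa1 ya27 za2) (ka xa1 ya49 za26) (ka xa0 ya23 za34) (ka xa0 ya23 za35) (ka xa1 ya41 za25) (ka xa1 ya41 za24) (ka xa1 ya50 za2) (ka xa1 ya41 za33) (ka xa1 ya41 za34) (ka xa0 ya50 za40) (ka xa1 ya41 za36) (ka xa0 ya23 za31) (ka xa0 ya23 za32) (ka xa1 ya42 za50) (ka xa1 ya50 za14)) (@D3.rec (fun _ => Pt) (ka xa0 ya45 za24) (ka xa0 ya45 za25) (ka xa1 ya27 za1) (ka xa1 ya32 za22) (ka xa0 ya52 za5) (ka xa0 ya52 za4) (ka xa1 ya32 za23) (ka xa1 ya50 za26) (ka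 xa1 ya41 za27) (ka xa1 ya41 za28) (ka xa0 ya49 za33) (ka xa1 ya44 za39) (ka xa0 ya23 za44) (ka xa0 ya23 za45) (ka xa1 ya48 za10) (ka xa0 ya23 za47) (ka xa0 ya23 za48) (ka xa0 ya23 za49) (ka xa0 ya23 za50) (ka xa1 ya50 za53) (ka xa0 ya23 za52) (ka xa0 ya23 za53) (ka xa0 ya23 za55) (ka xa0 ya23 za56) (ka xa0 ya23 za57) (ka xa0 ya23 za43) (ka xa0 ya46 za35) (ka xa1 ya51 za5) (ka xa1 ya50 za36) (ka xa1 ya43 za23) (ka xa1 ya51 za17) (ka xa1 ya50 za38) (ka xa1 ya50 za39) (ka xa0 ya53 za32) (ka xa1 ya50 za40) (ka xa1 ya45 za35) (ka xa0 ya23 za46) (ka xa1 ya45 za8) (ka xa1 ya51 za33) (ka xa1 ya51 za43) (ka xa1 ya50 za43) (ka xa1 ya50 za44) (ka xa0 ya53 za46) (ka xa1 ya46 za48) (ka xa1 ya43 za50) (ka xa1 ya51 za59) (ka xa0 ya46 za29) (ka xa1 ya50 za46) (ka xa1 ya50 za47) (ka xa1 ya52 za8) (ka xa1 ya44 za48) (ka xa1 ya50 za49) (ka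 xa1 ya50 za50) (ka xa0 ya46 za36) (ka xa0 ya23 za51) (ka xa1 ya52 za19) (ka xa1 ya52 za20) (ka xa1 ya41 za41) (ka xa1 ya41 za38) (ka xa1 ya35 za33) (ka xa1 ya50 za56) (ka xa1 ya35 za31)) (@D3.rec (fun _ => Pt) (ka xa1 ya50 za57) (ka xa1 ya50 za58) (ka xa1 ya50 za59) (ka xa1 ya50 za60) (ka xa1 ya49 za21) (ka xa1 ya52 za56) (ka xa1 ya51 za0) (ka xa1 ya51 za1) (ka xa0 ya53 za11) (ka xa1 ya53 za7) (ka xa1 ya51 za3) (ka xa0 ya53 za8) (ka xa1 ya51 za4) (ka xa1 ya49 za24) (ka xa1 ya49 za22) (ka xa1 ya42 za55) (ka xa1 ya49 za23) (ka xa1 ya48 za12) (ka xa0 ya47 za12) (ka xa1 ya42 za48) (ka xa1 ya42 za5) (ka xa1 ya41 za9) (ka xa1 ya49 za25) (ka xa0 ya24 za1) (ka xa0 ya24 za2) (ka xa0 ya53 za39) (ka xa0 ya53 za38) (ka xa1 ya53 za35) (ka xa1 ya53 za36) (ka xa1 ya53 za37) (ka xa1 ya53 za38) (ka xa1 ya53 za39) (ka xa0 ya52 za33) (ka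 xa0 ya53 za33) (ka xa0 ya53 za34) (ka xa0 ya53 za35) (ka xa0 ya24 za7) (ka xa0 ya24 za8) (ka xa0 ya53 za26) (ka xa0 ya53 za25) (ka xa1 ya53 za61) (ka xa1 ya54 za0) (ka xa1 ya54 za1) (ka xa1 ya54 za2) (ka xa1 ya54 za3) (ka xa1 ya54 za4) (ka xa0 ya52 za42) (ka xa0 ya53 za47) (ka xa0 ya53 za48) (ka xa0 ya53 za49) (ka xa0 ya53 za50) (ka xa0 ya46 za33) (ka xa0 ya46 za34) (ka xa1 ya42 za40) (ka xa0 ya46 za30) (ka xa0 ya46 za31) (ka xa0 ya24 za15) (ka xa1 ya54 za33) (ka xa1 ya48 za56) (ka xa1 ya54 za34) (ka xa1 ya54 za35) (ka xa1 ya43 za20)) (@D3.rec (fun _ => Pt) (ka xa0 ya54 za0) (ka xa1 ya45 za16) (ka xa0 ya54 za2) (ka xa0 ya54 za3) (ka xa0 ya54 za10) (ka xa0 ya24 za20) (ka xa1 ya54 za48) (ka xa1 ya54 za49) (ka xa1 ya54 za50) (ka xa1 ya47 za4) (ka xa0 ya54 za4) (ka xa0 ya24 za24) (ka xa1 ya54 za60) (ka xa1 ya54 za61) (ka xa1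 ya48 za21) (ka xa0 ya54 za15) (ka xa1 ya48 za24) (ka xa1 ya48 za25) (ka xa0 ya54 za18) (ka xa1 ya55 za9) (ka xa0 ya27 za60) (ka xa0 ya27 za61) (ka xa0 ya28 za0) (ka xa0 ya28 za1) (ka xa0 ya28 za2) (ka xa0 ya28 za3) (ka xa0 ya28 za4) (ka xa0 ya28 za5) (ka xa0 ya28 za9) (ka xa0 ya28 za11) (ka xa0 ya28 za12) (ka xa0 ya28 za13) (ka xa0 ya28 za14) (ka xa0 ya28 za17) (ka xa0 ya28 za21) (ka xa1 ya55 za44) (ka xa0 ya28 za24) (ka xa0 ya31 za24) (ka xa0 ya54 za39) (ka xa0 ya54 za38) (ka xa0 ya24 za43) (ka xa1 ya55 za50) (ka xa1 ya55 za51) (ka xa1 ya55 za52) (ka xa1 ya55 za53) (ka xa0 ya32 za24) (ka xa0 ya32 za25) (ka xa0 ya32 za26) (ka xa0 ya32 za27) (ka xa0 ya32 za31) (ka xa0 ya32 za32) (ka xa0 ya32 za33) (ka xa0 ya55 za16) (ka xa0 ya55 za17) (ka xa0 ya32 za37) (ka xa0 ya32 za39) (ka xa0 ya55 za18) (ka xa0 ya32 za41) (ka xa1 ya56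 za16) (ka xa0 ya32 za43) (ka xa0 ya32 za44) (ka xa1 ya27 za37)) (@D3.rec (fun _ => Pt) (ka xa1 ya27 za36) (ka xa0 ya24 za55) (ka xa1 ya56 za30) (ka xa0 ya32 za56) (ka xa0 ya32 za0) (ka xa0 ya32 za2) (ka xa0 ya32 za3) (ka xa0 ya32 za28) (ka xa0 ya32 za29) (ka xa0 ya32 za38) (ka xa0 ya55 za19) (ka xa0 ya55 za20) (ka xa1 ya56 za51) (ka xa0 ya55 za25) (ka xa0 ya31 za51) (ka xa0 ya31 za52) (ka xa0 ya54 za52) (ka xa0 ya54 za53) (ka xa0 ya54 za56) (ka xa0 ya55 za10) (ka xa0 ya55 za11) (ka xa0 ya30 za23) (ka xa0 ya30 za24) (ka xa0 ya39 za54) (ka xa1 ya57 za10) (ka xa0 ya55 za13) (ka xa0 ya40 za37) (ka xa0 ya40 za38) (ka xa1 ya14 za35) (ka xa0 ya25 za28) (ka xa0 ya25 za31) (ka xa0 ya25 za32) (ka xa0 ya25 za34) (ka xa0 ya25 za35) (ka xa0 ya25 za37) (ka xa0 ya25 za38) (ka xa0 ya55 za50) (ka xa0 ya55 za51) (ka xa0 ya55 za52) (ka xa0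 ya55 za53) (ka xa0 ya55 za54) (ka xa0 ya55 za55) (ka xa0 ya55 za56) (ka xa0 ya55 za57) (ka xa0 ya55 za58) (ka xa0 ya55 za59) (ka xa0 ya33 za47) (ka xa0 ya33 za48) (ka xa0 ya33 za49) (ka xa0 ya33 za50) (ka xa0 ya55 za36) (ka xa0 ya55 za37) (ka xa0 ya55 za38) (ka xa0 ya55 za39) (ka xa0 ya55 za40) (ka xa0 ya55 za41) (ka xa0 ya55 za42) (ka xa0 ya55 za43) (ka xa0 ya55 za44) (ka xa0 ya55 za45) (ka xa0 ya56 za1) (ka xa0 ya56 za2)) (@D3.rec (fun _ => Pt) (ka xa0 ya34 za55) (ka xa0 ya55 za60) (ka xa0 ya55 za61) (ka xa0 ya28 za35) (ka xa1 ya14 za36) (ka xa0 ya35 za42) (ka xa1 ya57 za18) (ka xa1 ya25 za0) (ka xa1 ya57 za19) (ka xa1 ya57 za20) (ka xa0 ya28 za31) (ka xa1 ya9 za5) (ka xa1 ya9 za6) (ka xa1 ya58 za48) (ka xa1 ya0 za30) (ka xa1 ya0 za31) (ka xa1 ya57 za21) (ka xa1 ya57 za22) (ka xa1 ya57 za23) (ka xa1 ya57 za24) (ka xa0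 ya59 za19) (ka xa0 ya59 za20) (ka xa1 ya0 za25) (ka xa1 ya57 za25) (ka xa1 ya10 za16) (ka xa1 ya57 za26) (ka xa1 ya9 za34) (ka xa1 ya57 za27) (ka xa0 ya28 za55) (ka xa0 ya36 za32) (ka xa0 ya36 za33) (ka xa1 ya19 za46) (ka xa1 ya56 za44) (ka xa1 ya10 za11) (ka xa1 ya57 za28) (ka xa0 ya56 za56) (ka xa0 ya56 za57) (ka xa0 ya59 za2) (ka xa0 ya58 za34) (ka xa0 ya57 za2) (ka xa0 ya59 za3) (ka xa0 ya59 za4) (ka xa0 ya59 za5) (ka xa0 ya57 za10) (ka xa0 ya33 za1) (ka xa0 ya56 za46) (ka xa0 ya56 za45) (ka xa0 ya25 za46) (ka xa1 ya59 za40) (ka xa1 ya59 za41) (ka xa1 ya59 za42) (ka xa1 ya59 za43) (ka xa0 ya57 za23) (ka xa0 ya36 za11) (ka xa0 ya57 za24) (ka xa0 ya57 za25) (ka xa0 ya56 za35) (ka xa0 ya56 za36) (ka xa0 ya57 za26) (ka xa0 ya57 za27) (ka xa0 ya57 za28) (ka xa0 ya57 za29)) (@D3.rec (fun _ => Pt) (ka xa0 ya57 za30) (ka xa0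 ya57 za31) (ka xa0 ya56 za39) (ka xa0 ya39 za38) (ka xa0 ya39 za39) (ka xa0 ya57 za32) (ka xa2 ya0 za15) (ka xa0 ya57 za34) (ka xa0 ya57 za35) (ka xa1 ya8 za38) (ka xa0 ya56 za43) (ka xa0 ya57 za12) (ka xa0 ya57 za11) (ka xa0 ya25 za61) (ka xa2 ya0 za25) (ka xa2 ya0 za26) (ka xa2 ya0 za27) (ka xa2 ya0 za28) (ka xa1 ya0 za46) (ka xa0 ya39 za24) (ka xa1 ya8 za40) (ka xa0 ya39 za31) (ka xa0 ya39 za32) (ka xa0 ya56 za52) (ka xa0 ya56 za54) (ka xa0 ya56 za55) (ka xa0 ya56 za58) (ka xa0 ya56 za59) (ka xa0 ya56 za60) (ka xa0 ya56 za61) (ka xa0 ya57 za0) (ka xa0 ya57 za1) (ka xa0 ya57 za5) (ka xa2 ya0 za60) (ka xa0 ya57 za7) (ka xa0 ya57 za8) (ka xa0 ya40 za56) (ka xa0 ya32 za61) (ka xa0 ya57 za43) (ka xa0 ya39 za13) (ka xa0 ya57 za45) (ka xa0 ya57 za46) (ka xa1 ya1 za8) (ka xa0 ya57 za38) (ka xa0 ya35 za25) (ka xa0 ya57 za40)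 (ka xa0 ya57 za41) (ka xa0 ya26 za18) (ka xa0 ya26 za19) (ka xa0 ya26 za20) (ka xa0 ya26 za21) (ka xa1 ya8 za48) (ka xa2 ya1 za27) (ka xa2 ya1 za28) (ka xa2 ya1 za29) (ka xa2 ya1 za49) (ka xa1 ya55 za58) (ka xa2 ya1 za30) (ka xa2 ya1 za31) (ka xa2 ya1 za32) (ka xa2 ya1 za33) (ka xa2 ya1 za34)) (@D3.rec (fun _ => Pt) (ka xa2 ya1 za35) (ka xa0 ya59 za60) (ka xa0 ya26 za22) (ka xa1 ya2 za33) (ka xa2 ya2 za13) (ka xa2 ya2 za14) (ka xa0 ya59 za55) (ka xa0 ya59 za56) (ka xa0 ya59 za57) (ka xa0 ya59 za58) (ka xa0 ya59 za59) (ka xa0 ya59 za50) (ka xa0 ya26 za25) (ka xa2 ya2 za35) (ka xa2 ya2 za36) (ka xa1 ya0 za2) (ka xa1 ya0 za3) (ka xa0 ya35 za36) (ka xa1 ya0 za5) (ka xa2 ya2 za48) (ka xa1 ya0 za7) (ka xa1 ya0 za8) (ka xa2 ya2 za57) (ka xa1 ya0 za10) (ka xa1 ya0 za11) (ka xa1 ya0 za12) (ka xa1 ya0 za13) (ka xa2 ya3 za7) (ka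 xa0 ya58 za29) (ka xa0 ya58 za28) (ka xa1 ya0 za15) (ka xa0 ya58 za48) (ka xa1 ya9 za7) (ka xa1 ya1 za32) (ka xa0 ya56 za38) (ka xa1 ya9 za8) (ka xa0 ya34 za13) (ka xa1 ya9 za9) (ka xa1 ya0 za36) (ka xa0 ya26 za35) (ka xa2 ya3 za21) (ka xa2 ya3 za22) (ka xa0 ya36 za36) (ka xa1 ya0 za20) (ka xa1 ya0 za21) (ka xa1 ya0 za22) (ka xa1 ya0 za23) (ka xa1 ya0 za24) (ka xa0 ya58 za31) (ka xa0 ya36 za37) (ka xa2 ya3 za43) (ka xa1 ya0 za29) (ka xa1 ya0 za16) (ka xa0 ya26 za44) (ka xa2 ya3 za46) (ka xa2 ya3 za47) (ka xa1 ya0 za40) (ka xa1 ya0 za41) (ka xa0 ya36 za44) (ka xa1 ya0 za43) (ka xa2 ya3 za61) (ka xa0 ya26 za51)) (@D3.rec (fun _ => Pt) (ka xa2 ya4 za0) (ka xa0 ya27 za1) (ka xa0 ya56 za37) (ka xa0 ya56 za40) (ka xa0 ya56 za41) (ka xa0 ya56 za42) (ka xa0 ya26 za59) (ka xa0 ya59 za9) (ka xa0 ya32 za14) (ka xa0 ya59 za7) (ka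 xa0 ya26 za60) (ka xa2 ya4 za8) (ka xa2 ya4 za16) (ka xa1 ya9 za57) (ka xa2 ya4 za17) (ka xa2 ya4 za18) (ka xa0 ya39 za23) (ka xa1 ya8 za41) (ka xa1 ya8 za42) (ka xa0 ya56 za20) (ka xa0 ya56 za21) (ka xa1 ya10 za3) (ka xa1 ya59 za26) (ka xa2 ya4 za2) (ka xa1 ya19 za4) (ka xa1 ya0 za32) (ka xa1 ya0 za33) (ka xa1 ya0 za35) (ka xa0 ya35 za22) (ka xa0 ya59 za34) (ka xa0 ya59 za35) (ka xa0 ya27 za46) (ka xa1 ya1 za4) (ka xa0 ya39 za16) (ka xa0 ya59 za29) (ka xa0 ya59 za30) (ka xa0 ya27 za9) (ka xa0 ya27 za10) (ka xa0 ya27 za11) (ka xa0 ya27 za12) (ka xa2 ya5 za2) (ka xa2 ya5 za3) (ka xa1 ya1 za19) (ka xa0 ya28 za38) (ka xa2 ya5 za4) (ka xa2 ya5 za5) (ka xa2 ya5 za6) (ka xa2 ya5 za7) (ka xa2 ya5 za8) (ka xa2 ya5 za9) (ka xa0 ya58 za11) (ka xa0 ya27 za13) (ka xa2 ya5 za39) (ka xa2 ya5 za40) (ka xa0 ya35 za49) (ka xa0 ya58 za6)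 (ka xa0 ya58 za7) (ka xa0 ya58 za8) (ka xa0 ya58 za9) (ka xa0 ya58 za10) (ka xa0 ya58 za1) (ka xa0 ya27 za16))
def f_a_1 : D2 → D3 → Pt := @D2.rec (fun _ => D3 → Pt) (@D3.rec (fun _ => Pt) (ka xa2 ya5 za59) (ka xa2 ya5 za60) (ka xa0 ya58 za15) (ka xa0 ya58 za16) (ka xa0 ya35 za53) (ka xa0 ya58 za18) (ka xa2 ya6 za10) (ka xa0 ya58 za20) (ka xa0 ya58 za21) (ka xa2 ya6 za18) (ka xa0 ya58 za23) (ka xa0 ya58 za24) (ka xa0 ya58 za25) (ka xa0 ya58 za26) (ka xa2 ya6 za32) (ka xa0 ya58 za30) (ka xa0 ya58 za52) (ka xa0 ya27 za23) (ka xa2 ya6 za37) (ka xa2 ya6 za38) (ka xa0 ya58 za43) (ka xa0 ya58 za44) (ka xa0 ya58 za45) (ka xa0 ya58 za46) (ka xa0 ya58 za47) (ka xa0 ya56 za22) (ka xa0 ya35 za50) (ka xa2 ya6 za57) (ka xa0 ya36 za10) (ka xa0 ya58 za51) (ka xa0 ya56 za14) (ka xa0 ya56 za15) (ka xa0 ya59 za25) (ka xa0 ya59 za26) (ka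 xa0 ya36 za13) (ka xa0 ya59 za27) (ka xa0 ya58 za38) (ka xa0 ya27 za35) (ka xa2 ya7 za7) (ka xa2 ya7 za8) (ka xa0 ya58 za56) (ka xa0 ya58 za57) (ka xa0 ya36 za6) (ka xa0 ya58 za59) (ka xa2 ya7 za24) (ka xa0 ya36 za16) (ka xa0 ya57 za18) (ka xa1 ya0 za56) (ka xa1 ya0 za57) (ka xa0 ya33 za17) (ka xa0 ya33 za18) (ka xa0 ya33 za29) (ka xa1 ya0 za61) (ka xa1 ya1 za0) (ka xa2 ya4 za55) (ka xa0 ya39 za30) (ka xa1 ya0 za47) (ka xa1 ya0 za48) (ka xa0 ya34 za3) (ka xa0 ya34 za4) (ka xa0 ya34 za5) (ka xa1 ya0 za52)) (@D3.rec (fun _ => Pt) (ka xa1 ya0 za53) (ka xa1 ya1 za5) (ka xa1 ya1 za6) (ka xa1 ya1 za7) (ka xa0 ya59 za32) (ka xa1 ya1 za1) (ka xa1 ya1 za2) (ka xa1 ya1 za3) (ka xa0 ya57 za42) (ka xa0 ya27 za59) (ka xa1 ya24 za51) (ka xa2 ya1 za26) (ka xa2 ya8 za2) (ka xa2 ya1 za48) (ka xa1 ya8 za52) (ka xa1 ya55 za10) (ka xa1 ya55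 za11) (ka xa1 ya55 za13) (ka xa1 ya55 za14) (ka xa0 ya59 za42) (ka xa1 ya55 za15) (ka xa1 ya55 za16) (ka xa1 ya55 za17) (ka xa1 ya55 za18) (ka xa1 ya55 za19) (ka xa1 ya55 za20) (ka xa1 ya58 za23) (ka xa1 ya55 za22) (ka xa1 ya55 za23) (ka xa1 ya10 za23) (ka xa1 ya55 za24) (ka xa1 ya55 za25) (ka xa0 ya58 za33) (ka xa1 ya55 za26) (ka xa2 ya5 za17) (ka xa1 ya10 za21) (ka xa1 ya10 za22) (ka xa1 ya10 za24) (ka xa1 ya55 za27) (ka xa1 ya55 za28) (ka xa1 ya10 za30) (ka xa1 ya10 za31) (ka xa1 ya55 za29) (ka xa1 ya55 za30) (ka xa2 ya9 za8) (ka xa1 ya55 za32) (ka xa1 ya55 za33) (ka xa1 ya27 za35) (ka xa0 ya40 za41) (ka xa0 ya40 za43) (ka xa2 ya9 za24) (ka xa1 ya55 za35) (ka xa1 ya55 za36) (ka xa1 ya5 za55) (ka xa1 ya28 za48) (ka xa2 ya9 za36) (ka xa0 ya42 za2) (ka xa0 ya42 za3) (ka xa0 ya42 za4) (ka xa0 ya42 za5) (ka xa2 ya9 za46)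 (ka xa1 ya55 za38)) (@D3.rec (fun _ => Pt) (ka xa2 ya9 za51) (ka xa1 ya10 za42) (ka xa1 ya10 za43) (ka xa1 ya10 za44) (ka xa0 ya38 za16) (ka xa1 ya10 za45) (ka xa1 ya55 za40) (ka xa1 ya55 za41) (ka xa2 ya10 za4) (ka xa1 ya26 za18) (ka xa1 ya26 za19) (ka xa2 ya10 za11) (ka xa2 ya10 za16) (ka xa0 ya28 za23) (ka xa2 ya10 za21) (ka xa2 ya10 za10) (ka xa1 ya6 za24) (ka xa1 ya2 za19) (ka xa1 ya55 za46) (ka xa1 ya2 za17) (ka xa1 ya27 za33) (ka xa1 ya27 za34) (ka xa1 ya11 za9) (ka xa0 ya35 za5) (ka xa0 ya33 za19) (ka xa1 ya2 za28) (ka xa1 ya2 za29) (ka xa0 ya34 za6) (ka xa1 ya2 za25) (ka xa1 ya2 za26) (ka xa0 ya28 za32) (ka xa0 ya28 za33) (ka xa0 ya28 za34) (ka xa0 ya58 za3) (ka xa1 ya58 za38) (ka xa1 ya58 za39) (ka xa2 ya10 za58) (ka xa2 ya10 za59) (ka xa1 ya58 za56) (ka xa2 ya10 za60) (ka xa2 ya10 za61) (ka xa2 ya11 za0) (ka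 xa1 ya58 za24) (ka xa1 ya58 za25) (ka xa0 ya35 za37) (ka xa0 ya35 za38) (ka xa0 ya35 za39) (ka xa0 ya35 za40) (ka xa0 ya35 za41) (ka xa0 ya35 za32) (ka xa2 ya5 za20) (ka xa2 ya5 za21) (ka xa0 ya35 za47) (ka xa0 ya35 za48) (ka xa1 ya58 za26) (ka xa0 ya35 za52) (ka xa0 ya35 za54) (ka xa2 ya11 za57) (ka xa0 ya35 za56) (ka xa0 ya35 za57) (ka xa0 ya35 za58) (ka xa0 ya35 za59)) (@D3.rec (fun _ => Pt) (ka xa2 ya12 za12) (ka xa0 ya35 za61) (ka xa0 ya36 za0) (ka xa0 ya36 za1) (ka xa1 ya3 za4) (ka xa1 ya3 za5) (ka xa1 ya3 za6) (ka xa1 ya3 za7) (ka xa0 ya36 za7) (ka xa0 ya36 za8) (ka xa0 ya36 za9) (ka xa0 ya36 za12) (ka xa0 ya36 za14) (ka xa0 ya36 za15) (ka xa0 ya36 za17) (ka xa1 ya26 za17) (ka xa0 ya36 za19) (ka xa0 ya36 za20) (ka xa0 ya36 za21) (ka xa0 ya36 za22) (ka xa0 ya36 za2) (ka xa1 ya59 za18) (ka xa1 ya59 za19) (ka xa0 ya36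 za34) (ka xa0 ya36 za35) (ka xa2 ya12 za51) (ka xa0 ya36 za39) (ka xa1 ya3 za27) (ka xa1 ya3 za28) (ka xa0 ya36 za43) (ka xa0 ya36 za42) (ka xa0 ya36 za45) (ka xa0 ya36 za46) (ka xa0 ya36 za48) (ka xa2 ya13 za0) (ka xa0 ya36 za53) (ka xa0 ya36 za54) (ka xa0 ya36 za56) (ka xa0 ya36 za58) (ka xa2 ya13 za9) (ka xa0 ya36 za60) (ka xa0 ya36 za61) (ka xa2 ya13 za17) (ka xa0 ya37 za1) (ka xa0 ya37 za2) (ka xa2 ya13 za11) (ka xa2 ya13 za28) (ka xa0 ya29 za6) (ka xa2 ya13 za32) (ka xa2 ya13 za24) (ka xa0 ya37 za8) (ka xa0 ya37 za9) (ka xa0 ya37 za10) (ka xa0 ya37 za11) (ka xa0 ya37 za12) (ka xa0 ya37 za13) (ka xa1 ya3 za56) (ka xa1 ya3 za57) (ka xa1 ya3 za58) (ka xa0 ya29 za12) (ka xa2 ya13 za51) (ka xa0 ya37 za34)) (@D3.rec (fun _ => Pt) (ka xa0 ya37 za30) (ka xa0 ya37 za33) (ka xa0 ya37 za36) (ka xa0 ya37 za37) (ka xa0 ya37 za38)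 (ka xa0 ya37 za39) (ka xa0 ya37 za40) (ka xa0 ya37 za26) (ka xa0 ya37 za25) (ka xa0 ya29 za18) (ka xa2 ya14 za11) (ka xa0 ya37 za50) (ka xa0 ya37 za49) (ka xa0 ya37 za51) (ka xa0 ya37 za53) (ka xa0 ya38 za6) (ka xa0 ya38 za5) (ka xa0 ya29 za25) (ka xa2 ya14 za24) (ka xa0 ya37 za60) (ka xa0 ya37 za55) (ka xa0 ya37 za54) (ka xa0 ya29 za27) (ka xa2 ya14 za30) (ka xa2 ya14 za31) (ka xa0 ya38 za10) (ka xa0 ya38 za11) (ka xa0 ya38 za12) (ka xa0 ya38 za13) (ka xa0 ya38 za14) (ka xa0 ya38 za15) (ka xa0 ya38 za17) (ka xa0 ya38 za28) (ka xa0 ya38 za27) (ka xa0 ya29 za33) (ka xa2 ya14 za53) (ka xa2 ya14 za54) (ka xa0 ya38 za24) (ka xa0 ya38 za25) (ka xa0 ya38 za26) (ka xa0 ya38 za19) (ka xa0 ya38 za18) (ka xa0 ya29 za36) (ka xa2 ya15 za11) (ka xa2 ya15 za12) (ka xa2 ya15 za13) (ka xa0 ya38 za33) (ka xa0 ya38 za34) (ka xa0 ya38 za35)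 (ka xa0 ya29 za43) (ka xa0 ya29 za39) (ka xa2 ya15 za34) (ka xa2 ya15 za31) (ka xa2 ya15 za32) (ka xa2 ya0 za3) (ka xa0 ya29 za40) (ka xa2 ya15 za53) (ka xa2 ya15 za44) (ka xa2 ya15 za48) (ka xa2 ya15 za52) (ka xa0 ya29 za42) (ka xa0 ya44 za45)) (@D3.rec (fun _ => Pt) (ka xa0 ya44 za44) (ka xa2 ya16 za1) (ka xa2 ya16 za2) (ka xa2 ya15 za30) (ka xa2 ya16 za17) (ka xa0 ya38 za54) (ka xa2 ya16 za24) (ka xa0 ya38 za56) (ka xa0 ya38 za57) (ka xa0 ya38 za58) (ka xa0 ya38 za59) (ka xa0 ya38 za60) (ka xa0 ya38 za61) (ka xa0 ya39 za0) (ka xa1 ya5 za14) (ka xa0 ya39 za1) (ka xa0 ya39 za2) (ka xa0 ya38 za9) (ka xa0 ya39 za3) (ka xa0 ya37 za61) (ka xa2 ya16 za49) (ka xa1 ya31 za3) (ka xa0 ya39 za33) (ka xa2 ya16 za55) (ka xa0 ya39 za41) (ka xa0 ya39 za42) (ka xa1 ya20 za41) (ka xa0 ya29 za57) (ka xa2 ya15 za45) (ka xa0 ya39 za49)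 (ka xa1 ya28 za61) (ka xa1 ya29 za0) (ka xa1 ya26 za52) (ka xa1 ya28 za59) (ka xa1 ya8 za0) (ka xa0 ya30 za0) (ka xa0 ya31 za3) (ka xa0 ya30 za61) (ka xa2 ya17 za15) (ka xa2 ya17 za16) (ka xa2 ya17 za28) (ka xa0 ya40 za24) (ka xa0 ya40 za25) (ka xa0 ya40 za26) (ka xa0 ya40 za27) (ka xa0 ya40 za54) (ka xa0 ya40 za55) (ka xa0 ya42 za7) (ka xa0 ya42 za6) (ka xa0 ya30 za4) (ka xa2 ya17 za47) (ka xa0 ya40 za61) (ka xa0 ya41 za0) (ka xa0 ya41 za3) (ka xa0 ya41 za4) (ka xa1 ya1 za53) (ka xa0 ya41 za6) (ka xa0 ya41 za7) (ka xa0 ya41 za16) (ka xa0 ya41 za15) (ka xa0 ya30 za9) (ka xa0 ya42 za22)) (@D3.rec (fun _ => Pt) (ka xa0 ya42 za19) (ka xa0 ya30 za13) (ka xa0 ya30 za14) (ka xa0 ya42 za28) (ka xa0 ya42 za27) (ka xa2 ya17 za60) (ka xa2 ya17 za61) (ka xa1 ya33 za14) (ka xa2 ya18 za0) (ka xa2 ya18 za1) (ka xa2 ya18 za2) (ka xa0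 ya41 za46) (ka xa0 ya41 za47) (ka xa0 ya41 za48) (ka xa0 ya41 za49) (ka xa0 ya41 za51) (ka xa2 ya18 za30) (ka xa0 ya41 za53) (ka xa0 ya41 za55) (ka xa0 ya41 za56) (ka xa2 ya18 za38) (ka xa0 ya41 za61) (ka xa0 ya40 za42) (ka xa2 ya18 za45) (ka xa1 ya2 za16) (ka xa1 ya57 za3) (ka xa1 ya57 za4) (ka xa1 ya21 za37) (ka xa1 ya57 za5) (ka xa0 ya40 za58) (ka xa0 ya40 za57) (ka xa0 ya30 za25) (ka xa2 ya18 za58) (ka xa0 ya42 za10) (ka xa0 ya42 za11) (ka xa0 ya42 za13) (ka xa0 ya42 za16) (ka xa1 ya26 za32) (ka xa0 ya41 za32) (ka xa2 ya17 za7) (ka xa0 ya41 za28) (ka xa0 ya41 za30) (ka xa0 ya30 za33) (ka xa0 ya30 za34) (ka xa0 ya41 za37) (ka xa0 ya41 za36) (ka xa2 ya19 za7) (ka xa2 ya19 za8) (ka xa0 ya42 za50) (ka xa2 ya19 za9) (ka xa1 ya29 za47) (ka xa0 ya42 za35) (ka xa0 ya42 za36) (ka xa0 ya42 za37) (ka xa0 ya42 za38) (ka xa0 ya42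 za43) (ka xa0 ya42 za44) (ka xa0 ya43 za5) (ka xa0 ya42 za32) (ka xa0 ya30 za41) (ka xa2 ya15 za2) (ka xa0 ya43 za2)) (@D3.rec (fun _ => Pt) (ka xa0 ya43 za0) (ka xa0 ya43 za1) (ka xa0 ya43 za29) (ka xa0 ya42 za52) (ka xa1 ya7 za32) (ka xa0 ya42 za49) (ka xa0 ya30 za46) (ka xa0 ya30 za47) (ka xa2 ya19 za48) (ka xa1 ya7 za10) (ka xa1 ya7 za9) (ka xa0 ya42 za48) (ka xa0 ya43 za32) (ka xa0 ya43 za33) (ka xa0 ya43 za48) (ka xa0 ya43 za30) (ka xa0 ya30 za53) (ka xa0 ya43 za37) (ka xa0 ya43 za36) (ka xa2 ya19 za61) (ka xa2 ya20 za0) (ka xa0 ya43 za26) (ka xa0 ya43 za27) (ka xa0 ya43 za28) (ka xa0 ya43 za41) (ka xa0 ya43 za42) (ka xa0 ya43 za43) (ka xa0 ya31 za10) (ka xa0 ya31 za11) (ka xa0 ya46 za11) (ka xa0 ya30 za60) (ka xa0 ya46 za12) (ka xa1 ya7 za4) (ka xa2 ya20 za20) (ka xa0 ya31 za2) (ka xa2 ya17 za18) (ka xa2 ya17 za19)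 (ka xa0 ya31 za4) (ka xa2 ya20 za28) (ka xa2 ya20 za29) (ka xa2 ya17 za17) (ka xa0 ya43 za14) (ka xa0 ya31 za6) (ka xa0 ya31 za7) (ka xa0 ya31 za8) (ka xa0 ya31 za9) (ka xa1 ya38 za33) (ka xa2 ya20 za40) (ka xa2 ya20 za41) (ka xa2 ya21 za0) (ka xa2 ya20 za42) (ka xa2 ya20 za43) (ka xa2 ya20 za44) (ka xa2 ya20 za45) (ka xa2 ya21 za16) (ka xa2 ya20 za47) (ka xa2 ya20 za48) (ka xa2 ya20 za17) (ka xa1 ya37 za7) (ka xa2 ya20 za49) (ka xa2 ya20 za50) (ka xa2 ya20 za18)) (@D3.rec (fun _ => Pt) (ka xa1 ya5 za34) (ka xa1 ya29 za5) (ka xa2 ya20 za19) (ka xa0 ya31 za12) (ka xa2 ya21 za44) (ka xa2 ya21 za45) (ka xa0 ya44 za33) (ka xa0 ya44 za34) (ka xa0 ya44 za35) (ka xa0 ya44 za36) (ka xa0 ya31 za14) (ka xa2 ya22 za0) (ka xa2 ya22 za1) (ka xa0 ya44 za40) (ka xa0 ya44 za41) (ka xa0 ya44 za42) (ka xa0 ya44 za43) (ka xa0 ya38 za49)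 (ka xa0 ya38 za48) (ka xa0 ya31 za16) (ka xa2 ya22 za21) (ka xa0 ya44 za48) (ka xa0 ya44 za49) (ka xa0 ya44 za50) (ka xa0 ya44 za51) (ka xa2 ya21 za31) (ka xa0 ya44 za53) (ka xa0 ya44 za54) (ka xa2 ya22 za43) (ka xa0 ya44 za57) (ka xa0 ya44 za59) (ka xa0 ya44 za60) (ka xa0 ya44 za61) (ka xa0 ya45 za0) (ka xa0 ya45 za1) (ka xa0 ya45 za5) (ka xa0 ya45 za6) (ka xa0 ya45 za7) (ka xa0 ya57 za9) (ka xa1 ya55 za47) (ka xa0 ya57 za20) (ka xa0 ya59 za17) (ka xa0 ya59 za18) (ka xa0 ya31 za27) (ka xa0 ya31 za28) (ka xa0 ya31 za29) (ka xa0 ya31 za30) (ka xa2 ya4 za21) (ka xa0 ya57 za51) (ka xa2 ya23 za12) (ka xa2 ya23 za13) (ka xa2 ya23 za29) (ka xa1 ya1 za14) (ka xa2 ya23 za14) (ka xa2 ya23 za15) (ka xa2 ya23 za16) (ka xa2 ya23 za17) (ka xa2 ya23 za18) (ka xa2 ya23 za19) (ka xa2 ya23 za49) (ka xa1 ya9 za23) (ka xa2 ya23 za55)) (@D3.rec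 (fun _ => Pt) (ka xa1 ya9 za25) (ka xa2 ya24 za1) (ka xa1 ya9 za3) (ka xa1 ya9 za2) (ka xa1 ya9 za27) (ka xa0 ya56 za11) (ka xa0 ya56 za12) (ka xa0 ya58 za32) (ka xa0 ya58 za35) (ka xa0 ya58 za37) (ka xa2 ya24 za13) (ka xa1 ya15 za11) (ka xa1 ya9 za12) (ka xa2 ya24 za16) (ka xa1 ya9 za14) (ka xa1 ya9 za15) (ka xa1 ya9 za16) (ka xa1 ya9 za17) (ka xa1 ya56 za54) (ka xa1 ya56 za55) (ka xa1 ya56 za56) (ka xa1 ya56 za57) (ka xa2 ya24 za27) (ka xa1 ya8 za60) (ka xa2 ya24 za33) (ka xa1 ya9 za0) (ka xa2 ya24 za40) (ka xa1 ya9 za4) (ka xa2 ya24 za43) (ka xa2 ya10 za49) (ka xa1 ya56 za38) (ka xa1 ya12 za44) (ka xa1 ya10 za15) (ka xa1 ya56 za39) (ka xa0 ya56 za26) (ka xa1 ya56 za40) (ka xa1 ya9 za38) (ka xa1 ya9 za39) (ka xa1 ya9 za36) (ka xa1 ya9 za37) (ka xa2 ya4 za12) (ka xa1 ya9 za45) (ka xa0 ya33 za8) (ka xa1 ya9 za47) (ka xa1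 ya9 za48) (ka xa1 ya9 za41) (ka xa0 ya33 za53) (ka xa1 ya9 za43) (ka xa1 ya9 za44) (ka xa0 ya32 za20) (ka xa0 ya32 za21) (ka xa0 ya32 za22) (ka xa0 ya32 za23) (ka xa2 ya8 za4) (ka xa1 ya55 za54) (ka xa2 ya25 za8) (ka xa2 ya25 za9) (ka xa0 ya59 za13) (ka xa2 ya1 za53) (ka xa2 ya25 za10) (ka xa2 ya3 za59) (ka xa2 ya25 za11)) (@D3.rec (fun _ => Pt) (ka xa2 ya25 za12) (ka xa2 ya25 za13) (ka xa2 ya25 za14) (ka xa0 ya59 za21) (ka xa1 ya56 za4) (ka xa2 ya25 za49) (ka xa1 ya56 za5) (ka xa2 ya25 za57) (ka xa1 ya56 za7) (ka xa1 ya17 za37) (ka xa1 ya56 za8) (ka xa0 ya56 za33) (ka xa1 ya19 za1) (ka xa1 ya56 za41) (ka xa1 ya56 za42) (ka xa1 ya9 za32) (ka xa0 ya56 za24) (ka xa1 ya56 za43) (ka xa2 ya26 za10) (ka xa1 ya56 za10) (ka xa1 ya26 za22) (ka xa1 ya1 za35) (ka xa1 ya1 za36) (ka xa1 ya1 za29) (ka xa1 ya1 za37) (ka xa2 ya26 za20)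 (ka xa1 ya56 za45) (ka xa1 ya26 za23) (ka xa1 ya28 za54) (ka xa1 ya28 za30) (ka xa1 ya1 za40) (ka xa1 ya1 za41) (ka xa1 ya31 za26) (ka xa2 ya26 za28) (ka xa2 ya26 za32) (ka xa0 ya32 za42) (ka xa2 ya26 za37) (ka xa2 ya26 za27) (ka xa1 ya56 za19) (ka xa1 ya56 za20) (ka xa1 ya56 za21) (ka xa1 ya27 za41) (ka xa1 ya2 za1) (ka xa1 ya2 za2) (ka xa1 ya2 za3) (ka xa1 ya2 za5) (ka xa0 ya32 za55) (ka xa0 ya32 za51) (ka xa2 ya10 za13) (ka xa1 ya56 za22) (ka xa2 ya26 za61) (ka xa2 ya27 za0) (ka xa0 ya32 za52) (ka xa2 ya27 za18) (ka xa2 ya27 za8) (ka xa2 ya27 za12) (ka xa2 ya27 za16) (ka xa0 ya32 za54) (ka xa2 ya27 za29) (ka xa2 ya27 za30) (ka xa2 ya27 za31) (ka xa2 ya27 za32)) (@D3.rec (fun _ => Pt) (ka xa2 ya26 za58) (ka xa2 ya26 za59) (ka xa1 ya56 za35) (ka xa1 ya56 za36) (ka xa1 ya56 za37) (ka xa0 ya45 za34) (ka xa1 ya27 za40) (ka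 xa1 ya27 za49) (ka xa1 ya27 za42) (ka xa1 ya2 za22) (ka xa1 ya27 za44) (ka xa1 ya27 za45) (ka xa2 ya1 za5) (ka xa1 ya11 za15) (ka xa1 ya59 za37) (ka xa1 ya11 za13) (ka xa0 ya33 za4) (ka xa0 ya33 za5) (ka xa0 ya33 za6) (ka xa0 ya33 za7) (ka xa2 ya1 za6) (ka xa1 ya14 za15) (ka xa2 ya28 za7) (ka xa2 ya12 za43) (ka xa2 ya24 za52) (ka xa1 ya58 za16) (ka xa2 ya28 za8) (ka xa1 ya18 za18) (ka xa2 ya28 za9) (ka xa2 ya23 za27) (ka xa2 ya28 za10) (ka xa2 ya28 za11) (ka xa2 ya24 za58) (ka xa1 ya13 za0) (ka xa1 ya13 za1) (ka xa1 ya13 za2) (ka xa1 ya13 za3) (ka xa1 ya12 za58) (ka xa0 ya33 za10) (ka xa2 ya28 za58) (ka xa2 ya28 za59) (ka xa1 ya13 za6) (ka xa1 ya13 za7) (ka xa1 ya13 za8) (ka xa2 ya24 za59) (ka xa1 ya13 za10) (ka xa1 ya13 za11) (ka xa2 ya29 za20) (ka xa1 ya13 za13) (ka xa1 ya13 za14) (ka xa1 ya13 za15) (ka xa1 ya13 za16)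 (ka xa2 ya29 za37) (ka xa1 ya13 za18) (ka xa1 ya13 za19) (ka xa1 ya13 za20) (ka xa1 ya15 za41) (ka xa2 ya7 za30) (ka xa1 ya13 za36) (ka xa1 ya13 za35) (ka xa2 ya7 za31) (ka xa2 ya10 za48)) (@D3.rec (fun _ => Pt) (ka xa1 ya13 za22) (ka xa1 ya13 za23) (ka xa1 ya13 za24) (ka xa1 ya13 za25) (ka xa1 ya12 za4) (ka xa1 ya13 za26) (ka xa1 ya13 za27) (ka xa1 ya13 za28) (ka xa1 ya13 za29) (ka xa2 ya30 za17) (ka xa1 ya13 za31) (ka xa1 ya15 za17) (ka xa1 ya15 za18) (ka xa1 ya13 za41) (ka xa1 ya13 za42) (ka xa1 ya13 za43) (ka xa2 ya30 za33) (ka xa1 ya13 za45) (ka xa1 ya13 za46) (ka xa2 ya7 za32) (ka xa1 ya31 za29) (ka xa2 ya15 za49) (ka xa1 ya13 za48) (ka xa1 ya13 za49) (ka xa2 ya30 za47) (ka xa1 ya13 za53) (ka xa1 ya13 za54) (ka xa2 ya27 za13) (ka xa1 ya13 za56) (ka xa1 ya13 za57) (ka xa2 ya30 za58) (ka xa1 ya13 za59) (ka xa1 ya13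 za60) (ka xa2 ya31 za2) (ka xa2 ya31 za7) (ka xa0 ya33 za36) (ka xa2 ya31 za11) (ka xa2 ya16 za52) (ka xa1 ya14 za1) (ka xa1 ya14 za2) (ka xa1 ya14 za3) (ka xa1 ya14 za4) (ka xa1 ya14 za5) (ka xa1 ya12 za43) (ka xa1 ya9 za31) (ka xa1 ya12 za45) (ka xa1 ya12 za46) (ka xa1 ya12 za47) (ka xa2 ya4 za9) (ka xa1 ya57 za48) (ka xa1 ya19 za10) (ka xa2 ya25 za0) (ka xa1 ya57 za49) (ka xa1 ya57 za50) (ka xa1 ya57 za51) (ka xa1 ya57 za52) (ka xa1 ya57 za53) (ka xa1 ya57 za54) (ka xa1 ya11 za37) (ka xa0 ya33 za51) (ka xa0 ya35 za6) (ka xa2 ya31 za52)) (@D3.rec (fun _ => Pt) (ka xa1 ya11 za33) (ka xa1 ya11 za34) (ka xa1 ya11 za35) (ka xa1 ya11 za36) (ka xa2 ya25 za3) (ka xa2 ya25 za4) (ka xa1 ya11 za41) (ka xa1 ya11 za42) (ka xa1 ya11 za43) (ka xa2 ya32 za18) (ka xa1 ya11 za45) (ka xa1 ya11 za46) (ka xa2 ya25 za5) (ka xa1 ya11 za48)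 (ka xa1 ya11 za49) (ka xa1 ya11 za50) (ka xa1 ya11 za51) (ka xa2 ya32 za43) (ka xa1 ya11 za53) (ka xa1 ya11 za54) (ka xa1 ya11 za55) (ka xa1 ya15 za10) (ka xa1 ya12 za0) (ka xa1 ya12 za1) (ka xa1 ya12 za2) (ka xa1 ya12 za3) (ka xa1 ya12 za5) (ka xa1 ya12 za6) (ka xa1 ya12 za7) (ka xa1 ya12 za8) (ka xa2 ya33 za6) (ka xa1 ya12 za10) (ka xa2 ya1 za15) (ka xa2 ya7 za43) (ka xa2 ya7 za44) (ka xa1 ya11 za59) (ka xa1 ya11 za58) (ka xa2 ya7 za45) (ka xa2 ya0 za0) (ka xa2 ya10 za53) (ka xa2 ya10 za54) (ka xa1 ya12 za13) (ka xa1 ya12 za14) (ka xa1 ya12 za15) (ka xa2 ya17 za46) (ka xa1 ya12 za17) (ka xa1 ya12 za18) (ka xa1 ya23 za44) (ka xa1 ya12 za22) (ka xa1 ya12 za23) (ka xa2 ya3 za17) (ka xa1 ya59 za28) (ka xa2 ya33 za46) (ka xa1 ya12 za25) (ka xa1 ya12 za26) (ka xa2 ya33 za53) (ka xa1 ya12 za28) (ka xa1 ya12 za29) (ka xa2 ya33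 za59) (ka xa1 ya12 za31) (ka xa1 ya12 za32) (ka xa1 ya25 za33)) (@D3.rec (fun _ => Pt) (ka xa1 ya25 za34) (ka xa1 ya12 za38) (ka xa1 ya12 za39) (ka xa1 ya12 za40) (ka xa1 ya12 za41) (ka xa1 ya12 za42) (ka xa1 ya14 za9) (ka xa1 ya14 za10) (ka xa1 ya15 za37) (ka xa1 ya14 za6) (ka xa1 ya14 za7) (ka xa0 ya34 za27) (ka xa0 ya34 za28) (ka xa0 ya34 za29) (ka xa0 ya34 za30) (ka xa1 ya11 za21) (ka xa2 ya34 za21) (ka xa2 ya34 za22) (ka xa2 ya2 za4) (ka xa2 ya10 za45) (ka xa1 ya59 za48) (ka xa2 ya34 za23) (ka xa1 ya16 za55) (ka xa2 ya34 za24) (ka xa2 ya1 za46) (ka xa2 ya34 za25) (ka xa2 ya34 za26) (ka xa2 ya10 za50) (ka xa1 ya14 za58) (ka xa1 ya15 za19) (ka xa1 ya14 za60) (ka xa2 ya35 za5) (ka xa1 ya15 za0) (ka xa1 ya15 za1) (ka xa1 ya15 za2) (ka xa0 ya55 za28) (ka xa0 ya56 za4) (ka xa0 ya34 za41) (ka xa0 ya34 za42) (ka xa0 ya34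 za43) (ka xa0 ya34 za44) (ka xa0 ya34 za45) (ka xa1 ya14 za43) (ka xa1 ya14 za42) (ka xa2 ya28 za12) (ka xa2 ya0 za33) (ka xa2 ya35 za13) (ka xa2 ya35 za14) (ka xa2 ya35 za15) (ka xa1 ya17 za22) (ka xa1 ya15 za4) (ka xa2 ya35 za16) (ka xa2 ya11 za28) (ka xa2 ya35 za17) (ka xa2 ya5 za15) (ka xa2 ya35 za18) (ka xa2 ya35 za19) (ka xa1 ya15 za12) (ka xa1 ya14 za28) (ka xa2 ya10 za55) (ka xa1 ya14 za30) (ka xa2 ya36 za0)) (@D3.rec (fun _ => Pt) (ka xa1 ya14 za32) (ka xa1 ya14 za33) (ka xa1 ya14 za34) (ka xa1 ya15 za7) (ka xa1 ya14 za50) (ka xa1 ya15 za8) (ka xa1 ya15 za9) (ka xa1 ya15 za3) (ka xa1 ya15 za5) (ka xa1 ya15 za6) (ka xa1 ya13 za21) (ka xa1 ya9 za11) (ka xa1 ya14 za57) (ka xa1 ya15 za20) (ka xa1 ya15 za21) (ka xa1 ya58 za17) (ka xa1 ya58 za18) (ka xa1 ya12 za11) (ka xa1 ya12 za12) (ka xa1 ya14 za29) (ka xa1 ya15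 za13) (ka xa1 ya15 za14) (ka xa0 ya35 za7) (ka xa0 ya35 za8) (ka xa0 ya35 za9) (ka xa1 ya15 za54) (ka xa0 ya35 za12) (ka xa0 ya35 za13) (ka xa0 ya35 za15) (ka xa0 ya35 za16) (ka xa0 ya35 za17) (ka xa0 ya35 za18) (ka xa0 ya35 za19) (ka xa0 ya35 za20) (ka xa0 ya35 za21) (ka xa1 ya15 za36) (ka xa1 ya15 za35) (ka xa1 ya14 za8) (ka xa2 ya10 za44) (ka xa2 ya10 za46) (ka xa2 ya10 za47) (ka xa1 ya11 za56) (ka xa2 ya31 za53) (ka xa2 ya6 za4) (ka xa2 ya36 za47) (ka xa2 ya2 za22) (ka xa2 ya36 za48) (ka xa2 ya11 za8) (ka xa2 ya36 za49) (ka xa2 ya36 za50) (ka xa1 ya15 za53) (ka xa1 ya15 za55) (ka xa1 ya15 za56) (ka xa1 ya15 za50) (ka xa1 ya15 za25) (ka xa1 ya15 za51) (ka xa1 ya15 za52) (ka xa2 ya2 za40) (ka xa2 ya36 za53) (ka xa2 ya36 za54) (ka xa2 ya36 za55) (ka xa2 ya36 za38)) (@D3.rec (fun _ => Pt) (ka xa1 ya25 za5) (ka xa2 ya36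 za36) (ka xa1 ya18 za10) (ka xa0 ya35 za14) (ka xa2 ya38 za10) (ka xa2 ya38 za11) (ka xa2 ya36 za56) (ka xa2 ya36 za57) (ka xa2 ya36 za58) (ka xa2 ya36 za59) (ka xa2 ya5 za41) (ka xa2 ya24 za42) (ka xa2 ya38 za32) (ka xa2 ya36 za61) (ka xa2 ya37 za0) (ka xa2 ya37 za1) (ka xa2 ya38 za48) (ka xa2 ya37 za3) (ka xa1 ya24 za61) (ka xa2 ya37 za4) (ka xa2 ya37 za5) (ka xa2 ya37 za6) (ka xa2 ya39 za7) (ka xa2 ya37 za8) (ka xa2 ya37 za9) (ka xa2 ya37 za10) (ka xa2 ya4 za50) (ka xa2 ya4 za51) (ka xa1 ya17 za9) (ka xa1 ya25 za10) (ka xa1 ya25 za11) (ka xa2 ya1 za21) (ka xa2 ya1 za22) (ka xa1 ya25 za15) (ka xa1 ya25 za16) (ka xa2 ya4 za52) (ka xa1 ya25 za18) (ka xa1 ya25 za19) (ka xa2 ya1 za23) (ka xa1 ya25 za21) (ka xa1 ya25 za22) (ka xa1 ya25 za23) (ka xa1 ya25 za24) (ka xa2 ya39 za60) (ka xa1 ya25 za26) (ka xa1 ya25 za27) (ka xa1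 ya25 za28) (ka xa2 ya11 za38) (ka xa2 ya11 za39) (ka xa0 ya35 za34) (ka xa0 ya35 za35) (ka xa2 ya1 za58) (ka xa2 ya11 za40) (ka xa2 ya40 za7) (ka xa2 ya40 za8) (ka xa1 ya14 za22) (ka xa2 ya40 za9) (ka xa2 ya40 za10) (ka xa2 ya11 za3) (ka xa2 ya2 za47) (ka xa2 ya2 za45) (ka xa2 ya11 za31)) (@D3.rec (fun _ => Pt) (ka xa2 ya11 za32) (ka xa1 ya18 za23) (ka xa1 ya18 za26) (ka xa2 ya40 za49) (ka xa2 ya11 za34) (ka xa1 ya22 za30) (ka xa2 ya11 za35) (ka xa2 ya11 za36) (ka xa2 ya11 za37) (ka xa1 ya16 za28) (ka xa1 ya58 za28) (ka xa0 ya35 za44) (ka xa0 ya35 za45) (ka xa0 ya35 za46) (ka xa2 ya3 za44) (ka xa2 ya40 za57) (ka xa2 ya40 za58) (ka xa2 ya11 za25) (ka xa2 ya11 za24) (ka xa2 ya40 za59) (ka xa2 ya40 za60) (ka xa2 ya40 za61) (ka xa1 ya14 za49) (ka xa2 ya5 za10) (ka xa2 ya41 za0) (ka xa2 ya41 za29) (ka xa2 ya11 za44) (ka xa2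 ya11 za45) (ka xa2 ya11 za46) (ka xa2 ya2 za55) (ka xa2 ya5 za50) (ka xa2 ya11 za47) (ka xa2 ya5 za49) (ka xa0 ya35 za51) (ka xa2 ya41 za46) (ka xa2 ya41 za47) (ka xa2 ya41 za48) (ka xa1 ya10 za9) (ka xa2 ya42 za0) (ka xa2 ya11 za51) (ka xa2 ya11 za52) (ka xa2 ya11 za53) (ka xa2 ya11 za54) (ka xa2 ya11 za55) (ka xa2 ya11 za56) (ka xa0 ya35 za55) (ka xa2 ya42 za17) (ka xa2 ya42 za18) (ka xa2 ya42 za29) (ka xa2 ya11 za61) (ka xa2 ya12 za0) (ka xa2 ya12 za1) (ka xa2 ya12 za2) (ka xa2 ya12 za3) (ka xa2 ya42 za42) (ka xa2 ya12 za5) (ka xa2 ya12 za6) (ka xa2 ya42 za53) (ka xa2 ya12 za8) (ka xa2 ya12 za9) (ka xa2 ya42 za60) (ka xa2 ya43 za3)) (@D3.rec (fun _ => Pt) (ka xa0 ya35 za60) (ka xa2 ya43 za8) (ka xa2 ya42 za59) (ka xa2 ya12 za15) (ka xa2 ya12 za16) (ka xa2 ya12 za17) (ka xa2 ya12 za18) (ka xa2 ya12 za19) (ka xa2 ya12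 za20) (ka xa2 ya1 za38) (ka xa1 ya16 za2) (ka xa2 ya12 za37) (ka xa0 ya36 za4) (ka xa0 ya36 za5) (ka xa2 ya12 za39) (ka xa2 ya12 za38) (ka xa2 ya43 za35) (ka xa2 ya43 za36) (ka xa1 ya11 za27) (ka xa2 ya43 za37) (ka xa2 ya23 za8) (ka xa2 ya43 za38) (ka xa2 ya25 za20) (ka xa1 ya17 za1) (ka xa2 ya7 za20) (ka xa2 ya44 za7) (ka xa1 ya17 za2) (ka xa2 ya12 za22) (ka xa2 ya44 za16) (ka xa2 ya12 za24) (ka xa2 ya12 za25) (ka xa2 ya12 za26) (ka xa1 ya59 za57) (ka xa2 ya12 za27) (ka xa2 ya44 za26) (ka xa2 ya0 za42) (ka xa2 ya7 za4) (ka xa2 ya44 za32) (ka xa1 ya19 za55) (ka xa2 ya44 za37) (ka xa1 ya19 za54) (ka xa2 ya44 za42) (ka xa1 ya19 za30) (ka xa2 ya44 za47) (ka xa1 ya19 za29) (ka xa2 ya12 za50) (ka xa2 ya12 za49) (ka xa0 ya36 za18) (ka xa2 ya44 za58) (ka xa2 ya44 za59) (ka xa2 ya12 za32) (ka xa1 ya28 za53) (ka xa2 ya12 za33)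 (ka xa2 ya12 za34) (ka xa1 ya25 za44) (ka xa1 ya28 za50) (ka xa2 ya12 za35) (ka xa2 ya12 za36) (ka xa1 ya24 za45) (ka xa2 ya33 za1) (ka xa1 ya25 za43) (ka xa1 ya18 za61)) (@D3.rec (fun _ => Pt) (ka xa1 ya19 za0) (ka xa1 ya10 za12) (ka xa1 ya19 za2) (ka xa2 ya25 za17) (ka xa0 ya59 za24) (ka xa1 ya59 za7) (ka xa1 ya59 za6) (ka xa1 ya59 za20) (ka xa1 ya59 za21) (ka xa1 ya59 za22) (ka xa1 ya12 za50) (ka xa1 ya59 za23) (ka xa1 ya59 za24) (ka xa2 ya45 za42) (ka xa2 ya12 za45) (ka xa2 ya12 za46) (ka xa2 ya12 za47) (ka xa2 ya3 za32) (ka xa2 ya12 za48) (ka xa2 ya3 za31) (ka xa1 ya28 za29) (ka xa0 ya36 za38) (ka xa2 ya45 za58) (ka xa2 ya12 za53) (ka xa1 ya25 za41) (ka xa2 ya12 za61) (ka xa2 ya12 za60) (ka xa0 ya36 za41) (ka xa2 ya46 za9) (ka xa1 ya18 za44) (ka xa1 ya18 za42) (ka xa2 ya12 za57) (ka xa2 ya12 za54) (ka xa2 ya12 za55)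 (ka xa2 ya12 za56) (ka xa0 ya36 za52) (ka xa2 ya46 za28) (ka xa2 ya8 za55) (ka xa2 ya12 za58) (ka xa2 ya12 za59) (ka xa1 ya19 za40) (ka xa2 ya46 za26) (ka xa2 ya13 za5) (ka xa2 ya13 za3) (ka xa1 ya31 za27) (ka xa2 ya13 za4) (ka xa0 ya56 za31) (ka xa2 ya13 za6) (ka xa2 ya13 za16) (ka xa2 ya13 za15) (ka xa0 ya36 za59) (ka xa2 ya46 za49) (ka xa2 ya46 za50) (ka xa2 ya13 za25) (ka xa1 ya18 za40) (ka xa1 ya18 za38) (ka xa2 ya13 za12) (ka xa2 ya13 za13) (ka xa2 ya13 za14) (ka xa2 ya13 za8) (ka xa2 ya13 za7) (ka xa0 ya37 za0)) (@D3.rec (fun _ => Pt) (ka xa2 ya47 za16) (ka xa2 ya47 za17) (ka xa2 ya47 za18) (ka xa2 ya13 za21) (ka xa2 ya13 za22) (ka xa2 ya13 za23) (ka xa0 ya37 za7) (ka xa0 ya37 za3) (ka xa1 ya20 za9) (ka xa1 ya20 za8) (ka xa2 ya47 za38) (ka xa0 ya37 za4) (ka xa2 ya47 za51) (ka xa2 ya47 za44) (ka xa2 ya47 za48) (ka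 xa2 ya47 za49) (ka xa0 ya37 za6) (ka xa2 ya47 za61) (ka xa2 ya48 za0) (ka xa2 ya48 za1) (ka xa2 ya48 za2) (ka xa2 ya47 za35) (ka xa2 ya47 za36) (ka xa2 ya48 za21) (ka xa2 ya13 za40) (ka xa2 ya48 za28) (ka xa2 ya13 za42) (ka xa2 ya48 za36) (ka xa2 ya13 za44) (ka xa2 ya13 za45) (ka xa2 ya13 za46) (ka xa2 ya13 za47) (ka xa2 ya13 za48) (ka xa2 ya13 za49) (ka xa2 ya48 za57) (ka xa1 ya28 za4) (ka xa1 ya28 za5) (ka xa1 ya28 za21) (ka xa1 ya28 za22) (ka xa1 ya28 za23) (ka xa0 ya42 za9) (ka xa1 ya5 za26) (ka xa0 ya37 za16) (ka xa2 ya49 za7) (ka xa1 ya26 za14) (ka xa1 ya26 za15) (ka xa1 ya26 za16) (ka xa1 ya25 za60) (ka xa1 ya24 za49) (ka xa1 ya24 za48) (ka xa0 ya37 za20) (ka xa2 ya49 za22) (ka xa2 ya49 za23) (ka xa1 ya22 za4) (ka xa1 ya28 za28) (ka xa1 ya28 za25) (ka xa1 ya28 za24) (ka xa0 ya37 za23) (ka xa2 ya49 za37) (ka xa2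 ya49 za38) (ka xa1 ya22 za2) (ka xa2 ya49 za50)) (@D3.rec (fun _ => Pt) (ka xa1 ya28 za31) (ka xa1 ya21 za60) (ka xa2 ya49 za58) (ka xa2 ya14 za8) (ka xa1 ya21 za59) (ka xa2 ya14 za9) (ka xa0 ya37 za28) (ka xa0 ya37 za29) (ka xa2 ya14 za13) (ka xa2 ya14 za12) (ka xa2 ya50 za5) (ka xa2 ya50 za6) (ka xa2 ya50 za7) (ka xa2 ya50 za8) (ka xa1 ya32 za0) (ka xa1 ya32 za3) (ka xa2 ya13 za57) (ka xa2 ya13 za58) (ka xa2 ya50 za36) (ka xa1 ya28 za52) (ka xa2 ya50 za40) (ka xa1 ya28 za56) (ka xa1 ya28 za57) (ka xa2 ya13 za59) (ka xa2 ya13 za60) (ka xa2 ya13 za61) (ka xa2 ya13 za56) (ka xa1 ya28 za12) (ka xa1 ya28 za49) (ka xa2 ya17 za48) (ka xa2 ya14 za1) (ka xa2 ya14 za2) (ka xa2 ya51 za0) (ka xa2 ya14 za4) (ka xa2 ya14 za5) (ka xa2 ya14 za6) (ka xa1 ya28 za19) (ka xa1 ya6 za27) (ka xa2 ya51 za7) (ka xa1 ya22 za17) (ka xa2 ya51 za11)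 (ka xa1 ya22 za16) (ka xa2 ya13 za53) (ka xa2 ya13 za52) (ka xa2 ya14 za18) (ka xa2 ya14 za16) (ka xa1 ya30 za26) (ka xa1 ya30 za30) (ka xa2 ya14 za17) (ka xa2 ya17 za44) (ka xa2 ya14 za19) (ka xa1 ya31 za28) (ka xa2 ya14 za21) (ka xa2 ya51 za40) (ka xa1 ya22 za37) (ka xa2 ya14 za29) (ka xa2 ya27 za1) (ka xa1 ya23 za48) (ka xa0 ya37 za57) (ka xa1 ya21 za4) (ka xa1 ya21 za1) (ka xa2 ya51 za48)) (@D3.rec (fun _ => Pt) (ka xa2 ya51 za49) (ka xa2 ya27 za9) (ka xa1 ya20 za60) (ka xa2 ya52 za5) (ka xa1 ya20 za53) (ka xa1 ya33 za7) (ka xa1 ya33 za10) (ka xa2 ya14 za26) (ka xa1 ya22 za8) (ka xa1 ya57 za6) (ka xa1 ya22 za10) (ka xa1 ya26 za20) (ka xa1 ya22 za12) (ka xa2 ya27 za17) (ka xa2 ya27 za4) (ka xa0 ya38 za8) (ka xa1 ya21 za41) (ka xa1 ya21 za39) (ka xa2 ya52 za18) (ka xa2 ya52 za19) (ka xa2 ya16 za45) (ka xa1 ya32 za58)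 (ka xa1 ya33 za0) (ka xa2 ya14 za37) (ka xa2 ya14 za38) (ka xa2 ya52 za45) (ka xa2 ya14 za40) (ka xa2 ya27 za26) (ka xa2 ya14 za42) (ka xa2 ya14 za43) (ka xa1 ya17 za5) (ka xa2 ya14 za44) (ka xa2 ya52 za55) (ka xa2 ya14 za46) (ka xa2 ya9 za60) (ka xa2 ya15 za60) (ka xa2 ya14 za48) (ka xa1 ya21 za54) (ka xa2 ya15 za8) (ka xa2 ya15 za9) (ka xa2 ya15 za10) (ka xa2 ya15 za33) (ka xa2 ya15 za5) (ka xa2 ya15 za6) (ka xa0 ya38 za21) (ka xa0 ya38 za22) (ka xa0 ya38 za23) (ka xa2 ya15 za15) (ka xa2 ya15 za14) (ka xa2 ya53 za17) (ka xa2 ya53 za18) (ka xa1 ya28 za37) (ka xa1 ya28 za33) (ka xa2 ya53 za19) (ka xa2 ya53 za20) (ka xa2 ya53 za21) (ka xa2 ya53 za22) (ka xa2 ya53 za23) (ka xa2 ya14 za61) (ka xa2 ya15 za0) (ka xa2 ya15 za1) (ka xa2 ya15 za3)) (@D3.rec (fun _ => Pt) (ka xa2 ya15 za4) (ka xa2 ya14 za51) (ka xa2 ya14 za52)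 (ka xa1 ya23 za34) (ka xa2 ya14 za49) (ka xa2 ya14 za50) (ka xa2 ya14 za45) (ka xa0 ya38 za30) (ka xa0 ya38 za31) (ka xa0 ya38 za32) (ka xa2 ya9 za45) (ka xa2 ya9 za44) (ka xa2 ya54 za15) (ka xa2 ya54 za16) (ka xa1 ya31 za19) (ka xa1 ya31 za16) (ka xa2 ya54 za17) (ka xa2 ya54 za18) (ka xa2 ya13 za38) (ka xa2 ya54 za19) (ka xa2 ya16 za15) (ka xa2 ya15 za24) (ka xa2 ya15 za25) (ka xa2 ya15 za26) (ka xa2 ya15 za27) (ka xa2 ya15 za28) (ka xa2 ya15 za29) (ka xa0 ya38 za52) (ka xa1 ya23 za36) (ka xa0 ya38 za40) (ka xa0 ya38 za41) (ka xa1 ya23 za35) (ka xa1 ya23 za37) (ka xa1 ya23 za38) (ka xa1 ya23 za3) (ka xa1 ya23 za31) (ka xa1 ya23 za28) (ka xa1 ya23 za32) (ka xa1 ya23 za33) (ka xa0 ya38 za44) (ka xa0 ya39 za47) (ka xa2 ya55 za4) (ka xa2 ya55 za5) (ka xa0 ya38 za45) (ka xa1 ya13 za47) (ka xa2 ya55 za6) (ka xa2 ya30 za46)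 (ka xa0 ya38 za46) (ka xa1 ya21 za57) (ka xa0 ya38 za43) (ka xa2 ya55 za44) (ka xa2 ya55 za45) (ka xa2 ya55 za22) (ka xa1 ya24 za13) (ka xa2 ya55 za33) (ka xa2 ya55 za37) (ka xa2 ya14 za47) (ka xa2 ya55 za42) (ka xa2 ya52 za54) (ka xa0 ya38 za50) (ka xa0 ya38 za51) (ka xa2 ya56 za8)) (@D3.rec (fun _ => Pt) (ka xa2 ya22 za19) (ka xa2 ya22 za20) (ka xa2 ya56 za20) (ka xa2 ya22 za16) (ka xa2 ya22 za17) (ka xa2 ya21 za15) (ka xa2 ya21 za14) (ka xa2 ya56 za3) (ka xa2 ya56 za4) (ka xa2 ya56 za5) (ka xa2 ya56 za6) (ka xa2 ya56 za7) (ka xa2 ya48 za19) (ka xa1 ya23 za53) (ka xa2 ya55 za1) (ka xa0 ya38 za53) (ka xa2 ya56 za59) (ka xa2 ya56 za60) (ka xa2 ya16 za20) (ka xa2 ya16 za21) (ka xa2 ya16 za22) (ka xa2 ya16 za23) (ka xa0 ya38 za55) (ka xa2 ya57 za12) (ka xa2 ya57 za13) (ka xa2 ya16 za27) (ka xa2 ya16 za28) (ka xa2 ya16 za29)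 (ka xa2 ya16 za30) (ka xa2 ya57 za31) (ka xa1 ya38 za29) (ka xa2 ya16 za32) (ka xa2 ya16 za33) (ka xa2 ya57 za42) (ka xa0 ya42 za30) (ka xa2 ya16 za35) (ka xa0 ya42 za29) (ka xa2 ya53 za9) (ka xa2 ya16 za36) (ka xa2 ya16 za38) (ka xa2 ya16 za39) (ka xa2 ya16 za40) (ka xa2 ya16 za41) (ka xa2 ya14 za36) (ka xa2 ya16 za43) (ka xa1 ya18 za58) (ka xa2 ya16 za44) (ka xa2 ya16 za46) (ka xa1 ya20 za49) (ka xa1 ya20 za48) (ka xa0 ya39 za4) (ka xa1 ya1 za10) (ka xa1 ya24 za53) (ka xa1 ya24 za52) (ka xa0 ya39 za9) (ka xa0 ya39 za10) (ka xa0 ya39 za11) (ka xa0 ya39 za12) (ka xa1 ya24 za59) (ka xa1 ya24 za58) (ka xa2 ya58 za23) (ka xa1 ya16 za18)) (@D3.rec (fun _ => Pt) (ka xa0 ya56 za7) (ka xa1 ya58 za31) (ka xa2 ya58 za24) (ka xa2 ya5 za45) (ka xa2 ya58 za25) (ka xa1 ya16 za0) (ka xa2 ya58 za26) (ka xa2 ya58 za27) (ka xa2 ya1 za10)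 (ka xa2 ya1 za11) (ka xa1 ya16 za29) (ka xa1 ya16 za30) (ka xa2 ya4 za13) (ka xa2 ya4 za58) (ka xa2 ya4 za59) (ka xa1 ya16 za33) (ka xa1 ya16 za34) (ka xa2 ya1 za12) (ka xa1 ya16 za36) (ka xa1 ya16 za37) (ka xa2 ya4 za60) (ka xa1 ya16 za39) (ka xa1 ya16 za40) (ka xa1 ya16 za41) (ka xa1 ya16 za42) (ka xa2 ya59 za29) (ka xa1 ya16 za44) (ka xa1 ya16 za45) (ka xa1 ya16 za46) (ka xa2 ya4 za32) (ka xa1 ya59 za25) (ka xa2 ya0 za43) (ka xa2 ya0 za44) (ka xa1 ya13 za61) (ka xa1 ya14 za0) (ka xa2 ya7 za39) (ka xa2 ya7 za40) (ka xa2 ya0 za47) (ka xa2 ya0 za48) (ka xa2 ya1 za1) (ka xa2 ya30 za10) (ka xa1 ya19 za24) (ka xa1 ya25 za42) (ka xa1 ya18 za60) (ka xa1 ya18 za54) (ka xa2 ya59 za58) (ka xa2 ya0 za9) (ka xa2 ya30 za16) (ka xa2 ya0 za11) (ka xa2 ya0 za12) (ka xa3 ya0 za6) (ka xa3 ya0 za9) (ka xa0 ya39 za40) (ka xa3 ya0 za13)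 (ka xa3 ya0 za5) (ka xa2 ya0 za4) (ka xa2 ya0 za7) (ka xa2 ya16 za58) (ka xa2 ya16 za59) (ka xa2 ya16 za60) (ka xa1 ya20 za47) (ka xa0 ya39 za48)) (@D3.rec (fun _ => Pt) (ka xa0 ya39 za44) (ka xa1 ya26 za2) (ka xa1 ya26 za1) (ka xa3 ya0 za30) (ka xa0 ya39 za45) (ka xa2 ya49 za52) (ka xa1 ya26 za7) (ka xa1 ya26 za6) (ka xa2 ya55 za26) (ka xa2 ya55 za27) (ka xa3 ya0 za29) (ka xa2 ya17 za4) (ka xa2 ya17 za5) (ka xa2 ya17 za6) (ka xa1 ya20 za44) (ka xa1 ya20 za45) (ka xa1 ya20 za46) (ka xa1 ya3 za15) (ka xa1 ya2 za9) (ka xa1 ya2 za10) (ka xa1 ya22 za11) (ka xa1 ya57 za7) (ka xa1 ya10 za20) (ka xa1 ya10 za27) (ka xa1 ya37 za47) (ka xa1 ya31 za34) (ka xa0 ya39 za61) (ka xa1 ya43 za54) (ka xa3 ya1 za3) (ka xa3 ya1 za4) (ka xa3 ya1 za5) (ka xa1 ya37 za45) (ka xa1 ya6 za37) (ka xa1 ya29 za43) (ka xa1 ya26 za36) (ka xa0 ya40 za5)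 (ka xa1 ya26 za34) (ka xa3 ya1 za15) (ka xa1 ya37 za24) (ka xa0 ya40 za21) (ka xa0 ya40 za22) (ka xa1 ya31 za33) (ka xa0 ya40 za11) (ka xa1 ya37 za41) (ka xa0 ya40 za9) (ka xa3 ya1 za27) (ka xa1 ya29 za12) (ka xa1 ya38 za30) (ka xa0 ya48 za53) (ka xa3 ya1 za26) (ka xa1 ya30 za60) (ka xa0 ya40 za13) (ka xa1 ya5 za32) (ka xa3 ya1 za38) (ka xa1 ya35 za51) (ka xa1 ya35 za52) (ka xa0 ya40 za19) (ka xa0 ya40 za20) (ka xa0 ya44 za4) (ka xa0 ya44 za3) (ka xa3 ya1 za51) (ka xa0 ya43 za56)) (@D3.rec (fun _ => Pt) (ka xa0 ya43 za57) (ka xa0 ya52 za2) (ka xa0 ya51 za47) (ka xa3 ya2 za5) (ka xa3 ya1 za43) (ka xa3 ya1 za44) (ka xa3 ya1 za22) (ka xa3 ya1 za45) (ka xa3 ya1 za46) (ka xa3 ya1 za47) (ka xa3 ya1 za23) (ka xa0 ya44 za28) (ka xa3 ya1 za24) (ka xa0 ya40 za23) (ka xa3 ya2 za29) (ka xa2 ya17 za30) (ka xa2 ya17 za31) (ka xa2 ya17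 za32) (ka xa2 ya17 za33) (ka xa3 ya2 za44) (ka xa2 ya17 za35) (ka xa2 ya17 za36) (ka xa2 ya17 za37) (ka xa3 ya2 za57) (ka xa2 ya17 za39) (ka xa2 ya17 za40) (ka xa2 ya17 za41) (ka xa1 ya29 za10) (ka xa1 ya29 za7) (ka xa1 ya29 za8) (ka xa1 ya29 za9) (ka xa1 ya29 za11) (ka xa3 ya3 za16) (ka xa1 ya2 za20) (ka xa1 ya2 za21) (ka xa1 ya1 za47) (ka xa0 ya55 za0) (ka xa0 ya54 za61) (ka xa0 ya40 za32) (ka xa3 ya3 za27) (ka xa1 ya11 za6) (ka xa1 ya10 za41) (ka xa1 ya11 za8) (ka xa1 ya57 za16) (ka xa1 ya11 za10) (ka xa1 ya11 za11) (ka xa3 ya3 za36) (ka xa1 ya57 za13) (ka xa1 ya57 za15) (ka xa1 ya11 za7) (ka xa1 ya57 za1) (ka xa3 ya3 za44) (ka xa0 ya40 za46) (ka xa0 ya40 za47) (ka xa0 ya40 za48) (ka xa0 ya40 za49) (ka xa0 ya40 za50) (ka xa2 ya9 za40) (ka xa2 ya9 za18) (ka xa2 ya9 za19) (ka xa2 ya17 za42) (ka xa2 ya18 za42)) (@D3.rec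 (fun _ => Pt) (ka xa1 ya58 za11) (ka xa3 ya3 za59) (ka xa2 ya9 za21) (ka xa3 ya4 za1) (ka xa1 ya20 za35) (ka xa1 ya20 za36) (ka xa2 ya18 za44) (ka xa2 ya18 za43) (ka xa0 ya40 za45) (ka xa3 ya4 za12) (ka xa3 ya4 za13) (ka xa3 ya3 za46) (ka xa1 ya21 za27) (ka xa2 ya17 za55) (ka xa1 ya46 za40) (ka xa3 ya3 za47) (ka xa2 ya9 za28) (ka xa3 ya1 za0) (ka xa2 ya9 za29) (ka xa1 ya21 za36) (ka xa3 ya3 za48) (ka xa1 ya20 za37) (ka xa1 ya20 za38) (ka xa1 ya20 za39) (ka xa1 ya20 za56) (ka xa1 ya20 za55) (ka xa0 ya40 za52) (ka xa3 ya4 za46) (ka xa1 ya20 za54) (ka xa1 ya19 za20) (ka xa1 ya10 za29) (ka xa1 ya21 za0) (ka xa2 ya18 za56) (ka xa1 ya22 za52) (ka xa2 ya18 za57) (ka xa2 ya18 za59) (ka xa2 ya18 za53) (ka xa1 ya22 za51) (ka xa2 ya18 za54) (ka xa0 ya40 za60) (ka xa3 ya5 za12) (ka xa3 ya5 za13) (ka xa3 ya5 za14) (ka xa3 ya5 za15)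 (ka xa2 ya17 za51) (ka xa2 ya17 za52) (ka xa2 ya17 za53) (ka xa2 ya17 za54) (ka xa1 ya1 za54) (ka xa1 ya21 za28) (ka xa1 ya18 za55) (ka xa3 ya5 za39) (ka xa1 ya21 za19) (ka xa1 ya18 za51) (ka xa1 ya10 za28) (ka xa3 ya5 za43) (ka xa1 ya21 za21) (ka xa1 ya21 za22) (ka xa2 ya17 za58) (ka xa1 ya5 za33) (ka xa1 ya38 za32) (ka xa1 ya5 za30)) (@D3.rec (fun _ => Pt) (ka xa1 ya5 za31) (ka xa0 ya41 za11) (ka xa0 ya41 za12) (ka xa3 ya5 za53) (ka xa3 ya5 za54) (ka xa1 ya8 za1) (ka xa3 ya5 za55) (ka xa1 ya27 za28) (ka xa1 ya27 za29) (ka xa1 ya27 za30) (ka xa1 ya27 za27) (ka xa1 ya27 za31) (ka xa1 ya26 za46) (ka xa1 ya37 za35) (ka xa1 ya29 za24) (ka xa1 ya39 za9) (ka xa1 ya37 za34) (ka xa2 ya17 za59) (ka xa0 ya41 za18) (ka xa0 ya41 za19) (ka xa1 ya32 za24) (ka xa3 ya6 za23) (ka xa3 ya6 za24) (ka xa1 ya32 za15) (ka xa1 ya29 za14) (ka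 xa3 ya6 za25) (ka xa1 ya32 za54) (ka xa1 ya32 za55) (ka xa1 ya32 za14) (ka xa1 ya32 za56) (ka xa1 ya32 za13) (ka xa1 ya40 za54) (ka xa1 ya41 za1) (ka xa1 ya38 za15) (ka xa0 ya41 za25) (ka xa3 ya6 za52) (ka xa3 ya6 za53) (ka xa1 ya32 za48) (ka xa1 ya32 za49) (ka xa1 ya32 za50) (ka xa0 ya41 za27) (ka xa1 ya49 za44) (ka xa3 ya1 za16) (ka xa1 ya26 za33) (ka xa2 ya19 za5) (ka xa1 ya32 za38) (ka xa1 ya32 za39) (ka xa1 ya6 za50) (ka xa2 ya19 za6) (ka xa0 ya41 za31) (ka xa2 ya20 za25) (ka xa1 ya32 za35) (ka xa1 ya32 za36) (ka xa0 ya41 za38) (ka xa0 ya41 za39) (ka xa0 ya41 za40) (ka xa0 ya41 za41) (ka xa0 ya41 za42) (ka xa0 ya41 za43) (ka xa2 ya19 za53) (ka xa2 ya19 za14) (ka xa2 ya19 za15)) (@D3.rec (fun _ => Pt) (ka xa3 ya7 za31) (ka xa2 ya19 za11) (ka xa2 ya19 za12) (ka xa2 ya19 za17) (ka xa2 ya19 za16) (ka xa3 ya7 za18) (ka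 xa3 ya7 za19) (ka xa3 ya7 za20) (ka xa3 ya7 za21) (ka xa3 ya7 za22) (ka xa3 ya7 za23) (ka xa3 ya7 za61) (ka xa1 ya33 za18) (ka xa2 ya19 za26) (ka xa3 ya8 za4) (ka xa3 ya7 za26) (ka xa2 ya19 za25) (ka xa1 ya32 za29) (ka xa2 ya23 za60) (ka xa2 ya6 za29) (ka xa0 ya41 za44) (ka xa3 ya8 za12) (ka xa3 ya8 za13) (ka xa1 ya30 za49) (ka xa1 ya38 za28) (ka xa3 ya8 za25) (ka xa1 ya21 za46) (ka xa2 ya18 za21) (ka xa1 ya33 za1) (ka xa3 ya8 za38) (ka xa1 ya21 za47) (ka xa2 ya18 za23) (ka xa2 ya18 za11) (ka xa2 ya18 za24) (ka xa2 ya18 za25) (ka xa2 ya18 za26) (ka xa2 ya18 za27) (ka xa2 ya18 za29) (ka xa0 ya41 za50) (ka xa3 ya8 za59) (ka xa2 ya18 za28) (ka xa2 ya18 za15) (ka xa1 ya44 za21) (ka xa0 ya41 za52) (ka xa3 ya9 za5) (ka xa2 ya18 za32) (ka xa2 ya18 za33) (ka xa3 ya9 za14) (ka xa1 ya32 za18) (ka xa1 ya30 za23) (ka xa3 ya9 za24)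 (ka xa2 ya18 za35) (ka xa1 ya37 za31) (ka xa2 ya18 za36) (ka xa3 ya9 za31) (ka xa2 ya18 za37) (ka xa0 ya41 za58) (ka xa3 ya9 za33) (ka xa1 ya44 za31) (ka xa1 ya44 za32) (ka xa1 ya26 za50) (ka xa0 ya41 za60)) (@D3.rec (fun _ => Pt) (ka xa3 ya9 za41) (ka xa2 ya18 za40) (ka xa2 ya18 za41) (ka xa1 ya5 za21) (ka xa2 ya9 za23) (ka xa2 ya9 za22) (ka xa0 ya42 za1) (ka xa3 ya9 za57) (ka xa2 ya49 za5) (ka xa2 ya9 za39) (ka xa2 ya9 za20) (ka xa2 ya9 za41) (ka xa2 ya9 za42) (ka xa2 ya9 za43) (ka xa2 ya8 za61) (ka xa2 ya17 za45) (ka xa1 ya23 za15) (ka xa2 ya14 za20) (ka xa2 ya17 za43) (ka xa1 ya23 za14) (ka xa2 ya12 za29) (ka xa2 ya19 za0) (ka xa2 ya19 za1) (ka xa2 ya19 za2) (ka xa2 ya19 za3) (ka xa3 ya10 za24) (ka xa1 ya10 za32) (ka xa1 ya19 za44) (ka xa1 ya21 za51) (ka xa1 ya12 za20) (ka xa3 ya4 za7) (ka xa1 ya39 za10) (ka xa1 ya39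 za11) (ka xa1 ya26 za41) (ka xa1 ya26 za25) (ka xa1 ya33 za30) (ka xa1 ya33 za11) (ka xa1 ya40 za60) (ka xa1 ya34 za36) (ka xa1 ya31 za53) (ka xa1 ya33 za8) (ka xa1 ya31 za54) (ka xa0 ya42 za33) (ka xa0 ya42 za34) (ka xa2 ya18 za4) (ka xa2 ya18 za5) (ka xa0 ya51 za40) (ka xa2 ya18 za3) (ka xa2 ya18 za7) (ka xa2 ya18 za6) (ka xa2 ya57 za49) (ka xa2 ya57 za46) (ka xa1 ya38 za59) (ka xa1 ya31 za39) (ka xa1 ya31 za41) (ka xa0 ya51 za41) (ka xa2 ya19 za38) (ka xa2 ya19 za39) (ka xa2 ya18 za17) (ka xa3 ya10 za40) (ka xa3 ya9 za3) (ka xa1 ya46 za58)) (@D3.rec (fun _ => Pt) (ka xa1 ya21 za14) (ka xa2 ya19 za28) (ka xa3 ya11 za16) (ka xa1 ya21 za15) (ka xa2 ya19 za30) (ka xa2 ya19 za31) (ka xa2 ya19 za32) (ka xa2 ya19 za33) (ka xa2 ya19 za34) (ka xa2 ya19 za35) (ka xa1 ya38 za16) (ka xa0 ya42 za39) (ka xa3 ya11 za39) (ka xa1 ya29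 za30) (ka xa1 ya29 za28) (ka xa1 ya29 za23) (ka xa0 ya42 za41) (ka xa3 ya11 za49) (ka xa1 ya30 za48) (ka xa3 ya11 za56) (ka xa2 ya3 za36) (ka xa0 ya43 za51) (ka xa0 ya52 za3) (ka xa0 ya52 za6) (ka xa1 ya29 za20) (ka xa2 ya19 za54) (ka xa0 ya43 za31) (ka xa2 ya19 za47) (ka xa2 ya19 za24) (ka xa1 ya30 za17) (ka xa0 ya42 za51) (ka xa2 ya19 za46) (ka xa0 ya42 za56) (ka xa0 ya42 za57) (ka xa3 ya1 za12) (ka xa1 ya29 za51) (ka xa1 ya29 za52) (ka xa3 ya12 za14) (ka xa1 ya29 za45) (ka xa1 ya29 za46) (ka xa2 ya19 za50) (ka xa2 ya19 za49) (ka xa2 ya54 za2) (ka xa3 ya12 za4) (ka xa3 ya12 za5) (ka xa0 ya42 za58) (ka xa3 ya12 za35) (ka xa3 ya12 za36) (ka xa1 ya29 za37) (ka xa1 ya29 za38) (ka xa1 ya29 za39) (ka xa0 ya42 za60) (ka xa3 ya12 za46) (ka xa3 ya12 za47) (ka xa1 ya29 za26) (ka xa1 ya29 za27) (ka xa1 ya29 za29) (ka xa3 ya12 za57)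 (ka xa1 ya22 za21) (ka xa2 ya19 za42) (ka xa2 ya19 za43) (ka xa3 ya13 za8)) (@D3.rec (fun _ => Pt) (ka xa1 ya22 za22) (ka xa1 ya30 za28) (ka xa2 ya19 za45) (ka xa0 ya43 za47) (ka xa1 ya48 za31) (ka xa2 ya19 za37) (ka xa1 ya38 za58) (ka xa1 ya22 za5) (ka xa1 ya31 za40) (ka xa0 ya51 za45) (ka xa1 ya22 za6) (ka xa1 ya31 za36) (ka xa1 ya33 za13) (ka xa1 ya33 za12) (ka xa1 ya6 za7) (ka xa0 ya43 za10) (ka xa0 ya43 za11) (ka xa1 ya34 za7) (ka xa1 ya30 za12) (ka xa0 ya48 za17) (ka xa0 ya49 za42) (ka xa1 ya48 za36) (ka xa1 ya48 za37) (ka xa0 ya45 za2) (ka xa1 ya48 za38) (ka xa1 ya47 za8) (ka xa1 ya48 za32) (ka xa1 ya48 za33) (ka xa0 ya43 za24) (ka xa0 ya43 za25) (ka xa1 ya31 za35) (ka xa1 ya48 za42) (ka xa1 ya48 za43) (ka xa1 ya48 za49) (ka xa1 ya48 za39) (ka xa1 ya48 za40) (ka xa1 ya48 za45) (ka xa1 ya48 za44) (ka xa1 ya49 za8)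 (ka xa3 ya13 za49) (ka xa3 ya13 za50) (ka xa3 ya13 za51) (ka xa2 ya20 za22) (ka xa2 ya20 za10) (ka xa1 ya37 za13) (ka xa2 ya20 za12) (ka xa3 ya1 za57) (ka xa1 ya36 za8) (ka xa2 ya20 za13) (ka xa2 ya19 za10) (ka xa2 ya19 za59) (ka xa2 ya19 za60) (ka xa3 ya12 za0) (ka xa3 ya12 za1) (ka xa2 ya19 za55) (ka xa2 ya19 za56) (ka xa0 ya45 za4) (ka xa2 ya19 za57) (ka xa0 ya43 za38) (ka xa2 ya20 za4) (ka xa2 ya20 za5) (ka xa2 ya20 za15)) (@D3.rec (fun _ => Pt) (ka xa2 ya20 za1) (ka xa2 ya20 za2) (ka xa1 ya51 za18) (ka xa2 ya20 za6) (ka xa3 ya14 za50) (ka xa1 ya34 za8) (ka xa1 ya34 za9) (ka xa1 ya33 za17) (ka xa1 ya34 za5) (ka xa1 ya34 za6) (ka xa2 ya20 za3) (ka xa2 ya20 za14) (ka xa2 ya20 za16) (ka xa0 ya44 za22) (ka xa0 ya44 za26) (ka xa0 ya44 za29) (ka xa2 ya19 za58) (ka xa0 ya43 za50) (ka xa3 ya6 za27) (ka xa3 ya1 za58) (ka xa0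 ya44 za6) (ka xa0 ya49 za18) (ka xa0 ya49 za29) (ka xa1 ya38 za44) (ka xa0 ya48 za7) (ka xa0 ya47 za23) (ka xa1 ya39 za21) (ka xa0 ya44 za1) (ka xa0 ya44 za2) (ka xa1 ya49 za49) (ka xa1 ya49 za51) (ka xa3 ya15 za34) (ka xa3 ya1 za55) (ka xa3 ya1 za56) (ka xa2 ya20 za11) (ka xa0 ya43 za61) (ka xa1 ya31 za38) (ka xa3 ya7 za6) (ka xa0 ya47 za22) (ka xa1 ya43 za57) (ka xa0 ya50 za11) (ka xa3 ya15 za52) (ka xa3 ya1 za50) (ka xa3 ya1 za48) (ka xa3 ya10 za31) (ka xa0 ya44 za12) (ka xa0 ya44 za13) (ka xa3 ya6 za14) (ka xa0 ya44 za15) (ka xa0 ya44 za16) (ka xa0 ya44 za17) (ka xa0 ya44 za18) (ka xa3 ya16 za15) (ka xa0 ya44 za20) (ka xa0 ya44 za21) (ka xa0 ya44 za23) (ka xa0 ya44 za24) (ka xa0 ya44 za25) (ka xa0 ya44 za11) (ka xa3 ya16 za28) (ka xa3 ya16 za29) (ka xa1 ya49 za39)) (@D3.rec (fun _ => Pt) (ka xa1 ya49 za42) (ka xa3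 ya16 za43) (ka xa3 ya15 za60) (ka xa3 ya15 za61) (ka xa2 ya21 za54) (ka xa3 ya16 za0) (ka xa3 ya16 za1) (ka xa3 ya16 za2) (ka xa0 ya44 za14) (ka xa3 ya17 za0) (ka xa3 ya17 za1) (ka xa3 ya17 za10) (ka xa3 ya16 za5) (ka xa3 ya16 za6) (ka xa3 ya14 za40) (ka xa2 ya22 za9) (ka xa3 ya16 za7) (ka xa3 ya16 za8) (ka xa3 ya17 za29) (ka xa3 ya12 za8) (ka xa3 ya16 za9) (ka xa3 ya12 za18) (ka xa3 ya16 za11) (ka xa3 ya16 za12) (ka xa2 ya16 za9) (ka xa2 ya16 za8) (ka xa0 ya44 za19) (ka xa3 ya17 za48) (ka xa3 ya17 za49) (ka xa3 ya2 za1) (ka xa3 ya1 za60) (ka xa0 ya52 za61) (ka xa3 ya16 za18) (ka xa0 ya52 za59) (ka xa3 ya16 za19) (ka xa3 ya16 za20) (ka xa3 ya16 za21) (ka xa3 ya16 za22) (ka xa3 ya15 za8) (ka xa1 ya35 za44) (ka xa3 ya16 za24) (ka xa3 ya16 za25) (ka xa3 ya18 za31) (ka xa3 ya16 za26) (ka xa1 ya35 za39) (ka xa3 ya16 za27) (ka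 xa3 ya15 za12) (ka xa3 ya15 za9) (ka xa3 ya15 za10) (ka xa3 ya15 za11) (ka xa3 ya6 za15) (ka xa1 ya26 za54) (ka xa1 ya26 za55) (ka xa3 ya10 za55) (ka xa1 ya44 za51) (ka xa3 ya2 za27) (ka xa3 ya1 za37) (ka xa3 ya15 za13) (ka xa0 ya44 za31) (ka xa0 ya44 za32) (ka xa1 ya48 za14) (ka xa1 ya48 za2)) (@D3.rec (fun _ => Pt) (ka xa1 ya54 za9) (ka xa3 ya18 za58) (ka xa3 ya18 za59) (ka xa3 ya18 za60) (ka xa3 ya18 za61) (ka xa3 ya19 za0) (ka xa2 ya20 za58) (ka xa2 ya21 za55) (ka xa1 ya33 za47) (ka xa2 ya21 za56) (ka xa2 ya21 za57) (ka xa2 ya21 za58) (ka xa2 ya21 za59) (ka xa2 ya21 za60) (ka xa2 ya21 za61) (ka xa0 ya44 za38) (ka xa0 ya44 za39) (ka xa2 ya21 za47) (ka xa2 ya21 za46) (ka xa3 ya19 za43) (ka xa3 ya19 za44) (ka xa2 ya21 za34) (ka xa3 ya19 za45) (ka xa2 ya21 za35) (ka xa2 ya22 za8) (ka xa2 ya21 za5) (ka xa2 ya22 za10) (ka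 xa1 ya37 za0) (ka xa2 ya22 za11) (ka xa2 ya22 za12) (ka xa2 ya22 za13) (ka xa2 ya22 za14) (ka xa2 ya18 za60) (ka xa2 ya16 za6) (ka xa2 ya16 za7) (ka xa2 ya16 za4) (ka xa2 ya16 za5) (ka xa0 ya44 za47) (ka xa3 ya20 za30) (ka xa3 ya20 za31) (ka xa2 ya59 za28) (ka xa3 ya20 za32) (ka xa3 ya20 za43) (ka xa2 ya22 za27) (ka xa2 ya22 za28) (ka xa3 ya20 za54) (ka xa2 ya22 za30) (ka xa2 ya22 za31) (ka xa2 ya22 za32) (ka xa2 ya22 za33) (ka xa2 ya22 za34) (ka xa2 ya22 za35) (ka xa2 ya22 za42) (ka xa0 ya44 za52) (ka xa3 ya21 za14) (ka xa3 ya21 za15) (ka xa2 ya21 za29) (ka xa2 ya22 za38) (ka xa3 ya21 za25) (ka xa2 ya22 za40) (ka xa1 ya37 za12) (ka xa1 ya37 za3)) (@D3.rec (fun _ => Pt) (ka xa1 ya36 za27) (ka xa2 ya22 za41) (ka xa1 ya37 za14) (ka xa1 ya36 za61) (ka xa2 ya22 za36) (ka xa0 ya44 za56) (ka xa3 ya21 za40) (ka xa1 ya7 za58)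 (ka xa3 ya21 za41) (ka xa3 ya21 za49) (ka xa2 ya22 za47) (ka xa2 ya22 za48) (ka xa1 ya36 za60) (ka xa1 ya33 za44) (ka xa1 ya37 za2) (ka xa2 ya22 za49) (ka xa3 ya13 za38) (ka xa2 ya22 za50) (ka xa2 ya22 za51) (ka xa2 ya22 za53) (ka xa2 ya22 za54) (ka xa2 ya22 za55) (ka xa2 ya22 za56) (ka xa3 ya13 za41) (ka xa1 ya26 za38) (ka xa3 ya14 za46) (ka xa2 ya22 za57) (ka xa2 ya22 za58) (ka xa3 ya14 za47) (ka xa2 ya22 za60) (ka xa2 ya22 za61) (ka xa1 ya30 za52) (ka xa3 ya22 za34) (ka xa0 ya45 za11) (ka xa1 ya29 za16) (ka xa1 ya29 za13) (ka xa3 ya16 za30) (ka xa3 ya22 za35) (ka xa0 ya45 za35) (ka xa0 ya45 za36) (ka xa0 ya45 za37) (ka xa1 ya26 za43) (ka xa0 ya45 za16) (ka xa3 ya8 za6) (ka xa3 ya22 za46) (ka xa1 ya26 za31) (ka xa1 ya38 za31) (ka xa1 ya26 za24) (ka xa0 ya45 za31) (ka xa0 ya45 za32) (ka xa1 ya49 za30) (ka xa1 ya49 za31)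 (ka xa1 ya49 za47) (ka xa1 ya49 za48) (ka xa1 ya50 za20) (ka xa1 ya47 za60) (ka xa1 ya47 za61) (ka xa0 ya45 za27) (ka xa0 ya45 za28) (ka xa0 ya45 za29) (ka xa0 ya45 za30) (ka xa0 ya47 za2)) (@D3.rec (fun _ => Pt) (ka xa3 ya23 za1) (ka xa3 ya23 za2) (ka xa3 ya23 za19) (ka xa3 ya23 za3) (ka xa3 ya23 za4) (ka xa2 ya20 za51) (ka xa3 ya23 za5) (ka xa3 ya23 za36) (ka xa1 ya52 za22) (ka xa3 ya23 za7) (ka xa3 ya22 za52) (ka xa3 ya23 za8) (ka xa3 ya23 za9) (ka xa3 ya23 za10) (ka xa3 ya22 za53) (ka xa1 ya29 za33) (ka xa1 ya32 za10) (ka xa1 ya56 za32) (ka xa1 ya56 za31) (ka xa0 ya45 za33) (ka xa3 ya24 za3) (ka xa2 ya27 za55) (ka xa3 ya24 za11) (ka xa1 ya38 za25) (ka xa1 ya38 za26) (ka xa1 ya38 za23) (ka xa1 ya38 za24) (ka xa3 ya13 za2) (ka xa1 ya30 za24) (ka xa1 ya24 za30) (ka xa1 ya26 za47) (ka xa1 ya37 za46) (ka xa1 ya28 za60)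 (ka xa1 ya7 za46) (ka xa1 ya42 za33) (ka xa1 ya42 za34) (ka xa1 ya42 za44) (ka xa1 ya42 za31) (ka xa1 ya40 za30) (ka xa0 ya51 za22) (ka xa0 ya45 za48) (ka xa0 ya45 za49) (ka xa0 ya46 za24) (ka xa0 ya46 za25) (ka xa1 ya34 za23) (ka xa0 ya46 za14) (ka xa0 ya46 za15) (ka xa1 ya41 za22) (ka xa3 ya24 za28) (ka xa3 ya24 za29) (ka xa3 ya24 za30) (ka xa3 ya24 za31) (ka xa3 ya24 za32) (ka xa1 ya44 za46) (ka xa1 ya38 za54) (ka xa1 ya38 za55) (ka xa1 ya43 za2) (ka xa1 ya38 za57) (ka xa1 ya33 za6) (ka xa1 ya31 za52) (ka xa1 ya39 za14) (ka xa0 ya45 za58)) (@D3.rec (fun _ => Pt) (ka xa0 ya45 za59) (ka xa0 ya45 za60) (ka xa0 ya48 za32) (ka xa1 ya49 za19) (ka xa1 ya40 za56) (ka xa3 ya25 za3) (ka xa1 ya39 za16) (ka xa3 ya25 za4) (ka xa1 ya51 za29) (ka xa1 ya29 za15) (ka xa1 ya31 za31) (ka xa1 ya31 za32) (ka xa0 ya46 za60) (ka xa1 ya42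 za46) (ka xa1 ya38 za60) (ka xa0 ya46 za5) (ka xa1 ya39 za6) (ka xa3 ya25 za18) (ka xa0 ya46 za44) (ka xa0 ya48 za20) (ka xa0 ya49 za5) (ka xa1 ya34 za26) (ka xa1 ya48 za34) (ka xa1 ya48 za35) (ka xa1 ya48 za41) (ka xa2 ya20 za21) (ka xa3 ya24 za33) (ka xa1 ya47 za25) (ka xa3 ya25 za41) (ka xa3 ya24 za39) (ka xa3 ya24 za40) (ka xa0 ya49 za40) (ka xa1 ya46 za29) (ka xa0 ya49 za15) (ka xa0 ya46 za20) (ka xa0 ya46 za21) (ka xa0 ya47 za58) (ka xa1 ya48 za51) (ka xa3 ya25 za55) (ka xa0 ya50 za9) (ka xa1 ya48 za48) (ka xa1 ya39 za42) (ka xa1 ya39 za41) (ka xa3 ya26 za3) (ka xa3 ya24 za35) (ka xa3 ya24 za36) (ka xa0 ya50 za13) (ka xa1 ya49 za20) (ka xa0 ya46 za37) (ka xa0 ya46 za38) (ka xa0 ya46 za39) (ka xa0 ya46 za40) (ka xa0 ya46 za41) (ka xa1 ya52 za1) (ka xa1 ya54 za26) (ka xa1 ya47 za9) (ka xa3 ya26 za29) (ka xa1 ya54 za31)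 (ka xa1 ya54 za32) (ka xa0 ya48 za39) (ka xa1 ya44 za14) (ka xa0 ya46 za32)) (@D3.rec (fun _ => Pt) (ka xa1 ya48 za5) (ka xa3 ya26 za39) (ka xa3 ya26 za48) (ka xa1 ya54 za27) (ka xa1 ya54 za28) (ka xa0 ya49 za35) (ka xa1 ya49 za15) (ka xa1 ya45 za50) (ka xa3 ya27 za1) (ka xa1 ya51 za7) (ka xa1 ya51 za8) (ka xa3 ya27 za11) (ka xa1 ya52 za17) (ka xa1 ya52 za18) (ka xa1 ya49 za34) (ka xa1 ya52 za21) (ka xa3 ya23 za42) (ka xa2 ya56 za43) (ka xa1 ya52 za57) (ka xa3 ya26 za14) (ka xa3 ya26 za15) (ka xa3 ya26 za16) (ka xa1 ya52 za40) (ka xa3 ya26 za18) (ka xa3 ya26 za19) (ka xa1 ya40 za28) (ka xa3 ya27 za43) (ka xa3 ya26 za20) (ka xa1 ya40 za25) (ka xa1 ya44 za26) (ka xa1 ya38 za38) (ka xa1 ya45 za58) (ka xa1 ya42 za36) (ka xa1 ya42 za38) (ka xa3 ya25 za23) (ka xa1 ya40 za40) (ka xa0 ya46 za45) (ka xa3 ya27 za60) (ka xa3 ya27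 za61) (ka xa3 ya28 za0) (ka xa1 ya40 za35) (ka xa0 ya46 za48) (ka xa3 ya28 za8) (ka xa3 ya28 za9) (ka xa3 ya28 za14) (ka xa0 ya47 za27) (ka xa0 ya47 za31) (ka xa0 ya47 za33) (ka xa1 ya44 za40) (ka xa0 ya47 za3) (ka xa0 ya47 za6) (ka xa0 ya51 za15) (ka xa0 ya46 za59) (ka xa0 ya47 za1) (ka xa1 ya29 za31) (ka xa1 ya43 za56) (ka xa1 ya39 za4) (ka xa3 ya28 za25) (ka xa3 ya28 za26) (ka xa0 ya51 za46) (ka xa1 ya31 za37) (ka xa3 ya23 za0)) (@D3.rec (fun _ => Pt) (ka xa3 ya28 za27) (ka xa1 ya29 za32) (ka xa3 ya23 za11) (ka xa0 ya47 za11) (ka xa1 ya50 za23) (ka xa1 ya43 za60) (ka xa3 ya28 za22) (ka xa1 ya44 za34) (ka xa3 ya28 za23) (ka xa0 ya53 za21) (ka xa0 ya47 za9) (ka xa3 ya28 za52) (ka xa3 ya28 za43) (ka xa1 ya53 za25) (ka xa1 ya46 za47) (ka xa3 ya29 za2) (ka xa0 ya47 za25) (ka xa0 ya47 za26) (ka xa0 ya47 za28) (ka xa0 ya47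 za29) (ka xa0 ya47 za30) (ka xa0 ya47 za16) (ka xa1 ya38 za47) (ka xa3 ya29 za17) (ka xa0 ya51 za52) (ka xa0 ya51 za51) (ka xa3 ya15 za3) (ka xa0 ya52 za8) (ka xa0 ya52 za9) (ka xa0 ya47 za19) (ka xa1 ya44 za42) (ka xa3 ya29 za30) (ka xa3 ya29 za39) (ka xa0 ya51 za54) (ka xa0 ya51 za55) (ka xa0 ya50 za43) (ka xa0 ya51 za57) (ka xa3 ya29 za51) (ka xa0 ya52 za58) (ka xa1 ya45 za45) (ka xa3 ya29 za59) (ka xa0 ya52 za57) (ka xa3 ya15 za24) (ka xa0 ya51 za37) (ka xa0 ya47 za24) (ka xa3 ya27 za5) (ka xa3 ya30 za5) (ka xa3 ya2 za9) (ka xa3 ya29 za5) (ka xa1 ya52 za2) (ka xa3 ya29 za6) (ka xa3 ya29 za7) (ka xa3 ya29 za8) (ka xa3 ya29 za9) (ka xa3 ya28 za16) (ka xa3 ya30 za36) (ka xa3 ya29 za11) (ka xa3 ya29 za12) (ka xa3 ya29 za13) (ka xa3 ya30 za51) (ka xa3 ya29 za15) (ka xa3 ya29 za16)) (@D3.rec (fun _ => Pt) (ka xa1 ya45 za37)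 (ka xa3 ya28 za19) (ka xa3 ya28 za17) (ka xa3 ya28 za18) (ka xa3 ya11 za38) (ka xa0 ya53 za20) (ka xa0 ya50 za8) (ka xa3 ya28 za20) (ka xa0 ya47 za35) (ka xa3 ya31 za10) (ka xa3 ya31 za11) (ka xa3 ya31 za12) (ka xa1 ya42 za54) (ka xa1 ya42 za13) (ka xa1 ya44 za58) (ka xa1 ya42 za24) (ka xa0 ya47 za39) (ka xa3 ya31 za23) (ka xa3 ya31 za24) (ka xa3 ya31 za25) (ka xa1 ya48 za55) (ka xa1 ya42 za21) (ka xa1 ya42 za22) (ka xa1 ya42 za23) (ka xa1 ya42 za15) (ka xa0 ya47 za43) (ka xa3 ya31 za38) (ka xa3 ya31 za39) (ka xa3 ya31 za40) (ka xa1 ya47 za30) (ka xa1 ya42 za30) (ka xa1 ya38 za37) (ka xa1 ya42 za41) (ka xa1 ya38 za34) (ka xa1 ya38 za35) (ka xa0 ya47 za55) (ka xa1 ya40 za32) (ka xa0 ya51 za23) (ka xa1 ya40 za33) (ka xa3 ya31 za53) (ka xa0 ya53 za53) (ka xa1 ya42 za32) (ka xa0 ya47 za59) (ka xa3 ya25 za56) (ka xa1 ya38 za36)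 (ka xa3 ya32 za2) (ka xa1 ya39 za13) (ka xa1 ya44 za53) (ka xa0 ya53 za19) (ka xa1 ya44 za54) (ka xa0 ya51 za60) (ka xa2 ya9 za30) (ka xa1 ya44 za56) (ka xa1 ya44 za57) (ka xa1 ya42 za12) (ka xa0 ya53 za15) (ka xa1 ya44 za59) (ka xa0 ya48 za38) (ka xa1 ya44 za60) (ka xa3 ya15 za22) (ka xa1 ya44 za41) (ka xa3 ya32 za36)) (@D3.rec (fun _ => Pt) (ka xa1 ya44 za44) (ka xa1 ya44 za45) (ka xa1 ya38 za56) (ka xa1 ya44 za47) (ka xa1 ya44 za61) (ka xa0 ya48 za25) (ka xa0 ya48 za26) (ka xa0 ya48 za27) (ka xa0 ya48 za28) (ka xa0 ya48 za29) (ka xa0 ya48 za30) (ka xa3 ya1 za32) (ka xa3 ya31 za61) (ka xa0 ya48 za34) (ka xa0 ya48 za37) (ka xa3 ya13 za31) (ka xa1 ya45 za7) (ka xa3 ya33 za4) (ka xa1 ya45 za14) (ka xa1 ya45 za15) (ka xa0 ya53 za61) (ka xa1 ya44 za4) (ka xa1 ya45 za17) (ka xa0 ya52 za29) (ka xa3 ya25 za24) (ka xa3 ya33 za20)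 (ka xa1 ya45 za10) (ka xa1 ya45 za11) (ka xa3 ya33 za28) (ka xa1 ya45 za22) (ka xa1 ya45 za23) (ka xa3 ya33 za36) (ka xa1 ya45 za19) (ka xa1 ya45 za20) (ka xa1 ya45 za25) (ka xa1 ya45 za24) (ka xa0 ya49 za23) (ka xa3 ya32 za48) (ka xa3 ya32 za49) (ka xa3 ya32 za50) (ka xa3 ya32 za51) (ka xa3 ya32 za52) (ka xa3 ya34 za0) (ka xa3 ya32 za53) (ka xa3 ya31 za3) (ka xa1 ya46 za27) (ka xa3 ya26 za22) (ka xa3 ya32 za55) (ka xa3 ya30 za46) (ka xa3 ya30 za48) (ka xa0 ya52 za44) (ka xa3 ya32 za56) (ka xa3 ya32 za1) (ka xa0 ya48 za31) (ka xa1 ya26 za27) (ka xa1 ya44 za33) (ka xa1 ya40 za55) (ka xa1 ya34 za39) (ka xa3 ya1 za34) (ka xa0 ya48 za33) (ka xa1 ya41 za5) (ka xa3 ya34 za23)) (@D3.rec (fun _ => Pt) (ka xa3 ya28 za53) (ka xa1 ya45 za43) (ka xa3 ya15 za20) (ka xa1 ya46 za2) (ka xa1 ya43 za21) (ka xa3 ya32 za57) (ka xa3 ya32 za58)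 (ka xa3 ya34 za45) (ka xa3 ya32 za60) (ka xa3 ya32 za29) (ka xa1 ya53 za2) (ka xa3 ya26 za37) (ka xa3 ya26 za38) (ka xa1 ya44 za13) (ka xa1 ya39 za60) (ka xa0 ya48 za41) (ka xa3 ya34 za59) (ka xa3 ya34 za60) (ka xa3 ya34 za61) (ka xa1 ya44 za23) (ka xa0 ya48 za46) (ka xa1 ya30 za42) (ka xa3 ya35 za7) (ka xa1 ya44 za19) (ka xa0 ya48 za49) (ka xa3 ya35 za11) (ka xa1 ya40 za29) (ka xa3 ya27 za41) (ka xa0 ya48 za50) (ka xa3 ya25 za52) (ka xa3 ya1 za35) (ka xa1 ya30 za58) (ka xa1 ya30 za59) (ka xa1 ya43 za55) (ka xa1 ya41 za7) (ka xa0 ya48 za57) (ka xa3 ya35 za27) (ka xa0 ya48 za60) (ka xa3 ya35 za31) (ka xa0 ya52 za11) (ka xa1 ya40 za48) (ka xa1 ya42 za60) (ka xa1 ya41 za30) (ka xa3 ya35 za43) (ka xa1 ya43 za0) (ka xa1 ya43 za1) (ka xa1 ya38 za53) (ka xa1 ya43 za3) (ka xa0 ya52 za50) (ka xa0 ya49 za6) (ka xa3 ya25 za25) (ka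 xa1 ya35 za54) (ka xa3 ya35 za56) (ka xa1 ya42 za47) (ka xa1 ya42 za49) (ka xa3 ya36 za4) (ka xa1 ya42 za52) (ka xa1 ya42 za53) (ka xa1 ya42 za14) (ka xa1 ya42 za56) (ka xa1 ya42 za58) (ka xa1 ya43 za4)) (@D3.rec (fun _ => Pt) (ka xa0 ya49 za24) (ka xa0 ya49 za25) (ka xa0 ya49 za26) (ka xa0 ya49 za27) (ka xa0 ya49 za28) (ka xa0 ya49 za32) (ka xa3 ya25 za54) (ka xa1 ya43 za16) (ka xa0 ya52 za37) (ka xa3 ya36 za37) (ka xa1 ya43 za26) (ka xa1 ya43 za27) (ka xa3 ya15 za19) (ka xa3 ya36 za45) (ka xa1 ya43 za18) (ka xa1 ya43 za19) (ka xa0 ya54 za1) (ka xa1 ya43 za22) (ka xa3 ya36 za56) (ka xa1 ya43 za32) (ka xa1 ya43 za33) (ka xa3 ya36 za61) (ka xa1 ya43 za29) (ka xa1 ya43 za30) (ka xa1 ya43 za35) (ka xa1 ya43 za34) (ka xa3 ya33 za44) (ka xa3 ya36 za19) (ka xa3 ya36 za20) (ka xa3 ya36 za21) (ka xa3 ya36 za22) (ka xa3 ya26 za43)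 (ka xa3 ya36 za24) (ka xa3 ya37 za22) (ka xa3 ya36 za25) (ka xa0 ya52 za35) (ka xa3 ya28 za6) (ka xa1 ya42 za0) (ka xa3 ya36 za26) (ka xa3 ya36 za27) (ka xa3 ya36 za28) (ka xa1 ya46 za1) (ka xa3 ya37 za43) (ka xa1 ya44 za1) (ka xa3 ya34 za27) (ka xa1 ya41 za39) (ka xa3 ya25 za51) (ka xa3 ya36 za30) (ka xa1 ya50 za33) (ka xa1 ya50 za34) (ka xa1 ya40 za7) (ka xa0 ya49 za34) (ka xa3 ya37 za59) (ka xa3 ya26 za56) (ka xa3 ya26 za57) (ka xa1 ya45 za55) (ka xa3 ya26 za58) (ka xa3 ya25 za53) (ka xa1 ya40 za31) (ka xa3 ya13 za32) (ka xa0 ya50 za51) (ka xa0 ya50 za52)) (@D3.rec (fun _ => Pt) (ka xa1 ya46 za35) (ka xa1 ya45 za41) (ka xa1 ya44 za3) (ka xa0 ya51 za42) (ka xa1 ya46 za34) (ka xa1 ya46 za36) (ka xa0 ya49 za53) (ka xa0 ya49 za54) (ka xa0 ya49 za55) (ka xa0 ya49 za56) (ka xa0 ya49 za57) (ka xa3 ya4 za18) (ka xa1 ya46 za41)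 (ka xa3 ya4 za32) (ka xa1 ya46 za39) (ka xa0 ya50 za5) (ka xa3 ya38 za15) (ka xa3 ya38 za16) (ka xa3 ya38 za17) (ka xa3 ya38 za18) (ka xa3 ya38 za19) (ka xa3 ya38 za49) (ka xa3 ya38 za20) (ka xa1 ya55 za8) (ka xa3 ya37 za35) (ka xa3 ya25 za27) (ka xa3 ya38 za22) (ka xa1 ya43 za45) (ka xa3 ya38 za23) (ka xa1 ya39 za32) (ka xa0 ya49 za58) (ka xa3 ya39 za5) (ka xa3 ya39 za6) (ka xa1 ya46 za33) (ka xa1 ya46 za4) (ka xa1 ya46 za0) (ka xa1 ya46 za5) (ka xa0 ya50 za6) (ka xa3 ya39 za22) (ka xa1 ya46 za14) (ka xa1 ya28 za14) (ka xa1 ya46 za12) (ka xa3 ya38 za33) (ka xa3 ya35 za29) (ka xa3 ya35 za28) (ka xa3 ya39 za19) (ka xa3 ya25 za60) (ka xa1 ya41 za14) (ka xa0 ya52 za43) (ka xa3 ya15 za49) (ka xa3 ya31 za5) (ka xa3 ya31 za6) (ka xa0 ya51 za25) (ka xa3 ya26 za10) (ka xa3 ya26 za11) (ka xa1 ya47 za59) (ka xa1 ya48 za1) (ka xa1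 ya48 za0) (ka xa1 ya31 za61) (ka xa1 ya48 za15) (ka xa1 ya48 za16) (ka xa1 ya48 za17)) (@D3.rec (fun _ => Pt) (ka xa1 ya48 za4) (ka xa3 ya40 za7) (ka xa1 ya48 za19) (ka xa1 ya48 za20) (ka xa0 ya54 za9) (ka xa1 ya48 za22) (ka xa1 ya48 za23) (ka xa1 ya48 za26) (ka xa1 ya33 za25) (ka xa1 ya39 za55) (ka xa1 ya49 za27) (ka xa1 ya48 za3) (ka xa3 ya40 za30) (ka xa1 ya48 za7) (ka xa1 ya48 za8) (ka xa1 ya48 za28) (ka xa0 ya50 za35) (ka xa0 ya50 za36) (ka xa0 ya50 za37) (ka xa0 ya50 za38) (ka xa0 ya50 za39) (ka xa1 ya48 za50) (ka xa3 ya4 za31) (ka xa1 ya48 za60) (ka xa1 ya48 za61) (ka xa1 ya39 za27) (ka xa1 ya49 za32) (ka xa3 ya41 za1) (ka xa1 ya48 za53) (ka xa1 ya48 za54) (ka xa1 ya42 za29) (ka xa1 ya48 za57) (ka xa3 ya41 za12) (ka xa1 ya49 za4) (ka xa1 ya49 za5) (ka xa3 ya41 za19) (ka xa1 ya49 za1) (ka xa1 ya49 za2) (ka xa1 ya49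 za7) (ka xa1 ya49 za6) (ka xa1 ya48 za47) (ka xa3 ya40 za39) (ka xa3 ya38 za50) (ka xa3 ya40 za40) (ka xa3 ya40 za41) (ka xa3 ya40 za42) (ka xa3 ya29 za34) (ka xa3 ya40 za43) (ka xa3 ya28 za13) (ka xa3 ya34 za55) (ka xa1 ya49 za37) (ka xa3 ya40 za44) (ka xa1 ya53 za53) (ka xa3 ya31 za32) (ka xa1 ya50 za11) (ka xa1 ya50 za12) (ka xa1 ya50 za13) (ka xa3 ya29 za47) (ka xa3 ya29 za48) (ka xa1 ya46 za55) (ka xa1 ya37 za55) (ka xa1 ya37 za56)) (@D3.rec (fun _ => Pt) (ka xa1 ya46 za57) (ka xa1 ya46 za56) (ka xa1 ya35 za61) (ka xa1 ya47 za11) (ka xa1 ya47 za0) (ka xa1 ya40 za0) (ka xa3 ya42 za15) (ka xa1 ya47 za13) (ka xa1 ya47 za14) (ka xa0 ya51 za39) (ka xa0 ya52 za14) (ka xa3 ya38 za5) (ka xa0 ya53 za17) (ka xa3 ya28 za29) (ka xa1 ya35 za60) (ka xa1 ya46 za59) (ka xa1 ya46 za60) (ka xa1 ya46 za61) (ka xa3 ya42 za37) (ka xa1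 ya47 za2) (ka xa1 ya47 za3) (ka xa0 ya54 za14) (ka xa1 ya47 za5) (ka xa1 ya47 za6) (ka xa0 ya54 za16) (ka xa0 ya54 za17) (ka xa1 ya47 za7) (ka xa0 ya51 za8) (ka xa1 ya47 za15) (ka xa0 ya51 za20) (ka xa0 ya51 za21) (ka xa1 ya33 za4) (ka xa1 ya33 za26) (ka xa1 ya33 za27) (ka xa1 ya39 za22) (ka xa1 ya39 za23) (ka xa1 ya33 za21) (ka xa1 ya33 za22) (ka xa1 ya33 za24) (ka xa1 ya33 za34) (ka xa1 ya33 za35) (ka xa1 ya39 za24) (ka xa1 ya33 za31) (ka xa1 ya33 za32) (ka xa1 ya33 za37) (ka xa1 ya33 za36) (ka xa3 ya43 za25) (ka xa1 ya47 za40) (ka xa1 ya39 za40) (ka xa1 ya33 za33) (ka xa1 ya47 za21) (ka xa1 ya39 za37) (ka xa3 ya43 za35) (ka xa1 ya47 za28) (ka xa1 ya47 za29) (ka xa1 ya42 za20) (ka xa0 ya53 za58) (ka xa1 ya47 za31) (ka xa3 ya28 za24) (ka xa3 ya43 za47) (ka xa1 ya47 za23) (ka xa1 ya47 za24)) (@D3.rec (fun _ => Pt) (ka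 xa3 ya43 za56) (ka xa1 ya47 za36) (ka xa1 ya47 za37) (ka xa3 ya44 za2) (ka xa1 ya47 za33) (ka xa1 ya47 za34) (ka xa1 ya47 za39) (ka xa1 ya47 za38) (ka xa1 ya33 za38) (ka xa3 ya42 za57) (ka xa3 ya35 za13) (ka xa3 ya35 za12) (ka xa3 ya42 za58) (ka xa1 ya50 za18) (ka xa3 ya24 za26) (ka xa1 ya40 za6) (ka xa3 ya29 za19) (ka xa3 ya31 za55) (ka xa3 ya31 za45) (ka xa1 ya39 za3) (ka xa1 ya39 za47) (ka xa0 ya53 za4) (ka xa0 ya53 za14) (ka xa0 ya53 za16) (ka xa0 ya53 za13) (ka xa0 ya53 za22) (ka xa0 ya51 za48) (ka xa1 ya47 za10) (ka xa0 ya51 za38) (ka xa0 ya51 za43) (ka xa1 ya37 za50) (ka xa1 ya37 za51) (ka xa1 ya47 za26) (ka xa3 ya44 za56) (ka xa1 ya40 za14) (ka xa3 ya30 za4) (ka xa3 ya44 za46) (ka xa1 ya47 za50) (ka xa3 ya44 za47) (ka xa1 ya34 za61) (ka xa2 ya19 za27) (ka xa3 ya10 za60) (ka xa1 ya35 za0) (ka xa3 ya38 za11) (ka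 xa1 ya29 za41) (ka xa3 ya14 za51) (ka xa3 ya44 za48) (ka xa1 ya37 za52) (ka xa1 ya37 za53) (ka xa1 ya34 za29) (ka xa3 ya13 za25) (ka xa1 ya34 za30) (ka xa3 ya28 za32) (ka xa3 ya45 za31) (ka xa3 ya2 za2) (ka xa2 ya19 za44) (ka xa3 ya11 za59) (ka xa3 ya45 za40) (ka xa1 ya51 za21) (ka xa3 ya29 za23) (ka xa3 ya45 za46) (ka xa1 ya51 za20)) (@D3.rec (fun _ => Pt) (ka xa3 ya29 za21) (ka xa2 ya20 za7) (ka xa0 ya51 za53) (ka xa3 ya45 za54) (ka xa3 ya29 za26) (ka xa3 ya29 za25) (ka xa3 ya29 za42) (ka xa3 ya29 za43) (ka xa3 ya29 za44) (ka xa3 ya29 za45) (ka xa3 ya29 za46) (ka xa1 ya47 za54) (ka xa1 ya47 za55) (ka xa1 ya47 za56) (ka xa0 ya51 za61) (ka xa3 ya46 za21) (ka xa3 ya32 za15) (ka xa3 ya32 za16) (ka xa1 ya49 za13) (ka xa3 ya34 za25) (ka xa1 ya37 za54) (ka xa3 ya46 za29) (ka xa3 ya1 za61) (ka xa1 ya41 za4) (ka xa3 ya29 za38)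 (ka xa3 ya29 za37) (ka xa0 ya52 za7) (ka xa3 ya19 za46) (ka xa3 ya46 za37) (ka xa3 ya29 za27) (ka xa3 ya28 za54) (ka xa3 ya29 za28) (ka xa3 ya29 za29) (ka xa1 ya45 za48) (ka xa1 ya45 za49) (ka xa3 ya35 za35) (ka xa0 ya52 za28) (ka xa3 ya47 za0) (ka xa0 ya52 za31) (ka xa0 ya52 za32) (ka xa0 ya52 za34) (ka xa3 ya42 za25) (ka xa3 ya19 za49) (ka xa0 ya52 za40) (ka xa0 ya52 za41) (ka xa3 ya47 za17) (ka xa0 ya52 za47) (ka xa0 ya52 za48) (ka xa3 ya47 za24) (ka xa0 ya52 za51) (ka xa0 ya52 za52) (ka xa3 ya44 za35) (ka xa3 ya44 za34) (ka xa0 ya52 za19) (ka xa3 ya47 za37) (ka xa3 ya47 za38) (ka xa0 ya52 za60) (ka xa0 ya53 za0) (ka xa0 ya53 za1) (ka xa0 ya53 za2) (ka xa0 ya53 za3) (ka xa3 ya39 za12)) (@D3.rec (fun _ => Pt) (ka xa0 ya53 za6) (ka xa0 ya53 za7) (ka xa3 ya44 za44) (ka xa0 ya53 za10) (ka xa0 ya53 za12) (ka xa0 ya52 za27)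 (ka xa3 ya14 za60) (ka xa1 ya40 za9) (ka xa1 ya40 za10) (ka xa3 ya48 za9) (ka xa1 ya53 za54) (ka xa3 ya48 za10) (ka xa3 ya48 za22) (ka xa3 ya46 za60) (ka xa3 ya48 za27) (ka xa3 ya33 za18) (ka xa2 ya21 za48) (ka xa0 ya52 za30) (ka xa1 ya34 za2) (ka xa3 ya48 za32) (ka xa1 ya49 za61) (ka xa1 ya49 za58) (ka xa3 ya47 za3) (ka xa3 ya47 za4) (ka xa3 ya34 za10) (ka xa3 ya47 za5) (ka xa3 ya37 za28) (ka xa1 ya53 za58) (ka xa1 ya53 za59) (ka xa1 ya39 za8) (ka xa3 ya47 za6) (ka xa3 ya47 za7) (ka xa3 ya34 za35) (ka xa0 ya52 za38) (ka xa3 ya49 za6) (ka xa3 ya35 za46) (ka xa3 ya36 za34) (ka xa1 ya54 za15) (ka xa3 ya49 za1) (ka xa3 ya49 za2) (ka xa3 ya49 za3) (ka xa3 ya33 za29) (ka xa3 ya46 za61) (ka xa0 ya52 za39) (ka xa3 ya49 za20) (ka xa3 ya49 za21) (ka xa3 ya47 za11) (ka xa3 ya47 za12) (ka xa3 ya47 za13) (ka xa3 ya47 za14) (ka xa3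 ya34 za19) (ka xa1 ya54 za24) (ka xa1 ya53 za3) (ka xa3 ya32 za44) (ka xa1 ya54 za25) (ka xa3 ya39 za47) (ka xa3 ya34 za20) (ka xa3 ya47 za23) (ka xa3 ya47 za22) (ka xa0 ya52 za45) (ka xa3 ya42 za36) (ka xa3 ya50 za0)) (@D3.rec (fun _ => Pt) (ka xa3 ya50 za1) (ka xa1 ya39 za53) (ka xa1 ya41 za49) (ka xa3 ya47 za19) (ka xa3 ya47 za20) (ka xa3 ya47 za21) (ka xa3 ya47 za16) (ka xa3 ya47 za15) (ka xa0 ya52 za49) (ka xa3 ya50 za27) (ka xa2 ya51 za54) (ka xa3 ya50 za28) (ka xa3 ya35 za55) (ka xa3 ya47 za27) (ka xa3 ya47 za28) (ka xa3 ya34 za21) (ka xa3 ya50 za48) (ka xa1 ya40 za12) (ka xa1 ya40 za13) (ka xa0 ya52 za55) (ka xa0 ya52 za56) (ka xa1 ya40 za15) (ka xa1 ya38 za8) (ka xa3 ya50 za53) (ka xa3 ya50 za54) (ka xa3 ya50 za55) (ka xa3 ya50 za56) (ka xa3 ya50 za57) (ka xa3 ya51 za14) (ka xa3 ya30 za0) (ka xa3 ya51 za21) (ka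 xa3 ya29 za55) (ka xa3 ya51 za29) (ka xa3 ya18 za5) (ka xa3 ya47 za47) (ka xa3 ya47 za48) (ka xa3 ya47 za49) (ka xa3 ya47 za50) (ka xa3 ya18 za0) (ka xa3 ya51 za52) (ka xa1 ya40 za22) (ka xa3 ya47 za52) (ka xa3 ya47 za53) (ka xa3 ya52 za5) (ka xa3 ya47 za55) (ka xa3 ya47 za56) (ka xa3 ya47 za57) (ka xa3 ya47 za58) (ka xa3 ya47 za59) (ka xa3 ya47 za60) (ka xa3 ya47 za61) (ka xa3 ya44 za39) (ka xa3 ya44 za37) (ka xa3 ya34 za39) (ka xa3 ya44 za38) (ka xa3 ya44 za45) (ka xa0 ya53 za5) (ka xa1 ya40 za18) (ka xa3 ya52 za34) (ka xa3 ya52 za35) (ka xa3 ya48 za1) (ka xa3 ya52 za48)) (@D3.rec (fun _ => Pt) (ka xa3 ya48 za3) (ka xa1 ya53 za14) (ka xa1 ya44 za10) (ka xa1 ya51 za52) (ka xa3 ya48 za4) (ka xa1 ya53 za15) (ka xa3 ya39 za13) (ka xa0 ya53 za9) (ka xa3 ya36 za40) (ka xa3 ya53 za2) (ka xa3 ya53 za3) (ka xa3 ya53 za14) (ka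 xa3 ya48 za7) (ka xa3 ya48 za8) (ka xa1 ya53 za1) (ka xa1 ya53 za5) (ka xa3 ya33 za14) (ka xa3 ya42 za26) (ka xa3 ya44 za40) (ka xa3 ya34 za36) (ka xa3 ya39 za15) (ka xa3 ya32 za28) (ka xa3 ya34 za17) (ka xa3 ya44 za41) (ka xa3 ya6 za50) (ka xa1 ya41 za13) (ka xa3 ya31 za4) (ka xa3 ya32 za13) (ka xa3 ya28 za51) (ka xa3 ya28 za4) (ka xa3 ya31 za8) (ka xa3 ya31 za7) (ka xa3 ya53 za50) (ka xa3 ya44 za43) (ka xa1 ya53 za60) (ka xa0 ya53 za27) (ka xa0 ya53 za28) (ka xa0 ya53 za29) (ka xa0 ya53 za30) (ka xa0 ya53 za31) (ka xa3 ya54 za4) (ka xa1 ya54 za8) (ka xa3 ya54 za10) (ka xa1 ya54 za6) (ka xa2 ya22 za2) (ka xa3 ya53 za56) (ka xa3 ya34 za1) (ka xa3 ya53 za57) (ka xa3 ya53 za58) (ka xa3 ya53 za59) (ka xa3 ya33 za50) (ka xa3 ya53 za60) (ka xa3 ya31 za19) (ka xa1 ya47 za52) (ka xa1 ya51 za10) (ka xa3 ya53 za61) (ka xa3 ya54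 za0) (ka xa3 ya54 za1) (ka xa1 ya51 za27) (ka xa1 ya51 za28) (ka xa1 ya53 za34) (ka xa0 ya53 za40)) (@D3.rec (fun _ => Pt) (ka xa0 ya53 za41) (ka xa0 ya53 za42) (ka xa0 ya53 za43) (ka xa0 ya53 za44) (ka xa0 ya53 za45) (ka xa3 ya54 za60) (ka xa1 ya53 za43) (ka xa3 ya55 za3) (ka xa1 ya53 za41) (ka xa1 ya36 za0) (ka xa3 ya54 za50) (ka xa3 ya37 za17) (ka xa3 ya54 za51) (ka xa3 ya54 za52) (ka xa3 ya54 za53) (ka xa1 ya51 za37) (ka xa3 ya54 za54) (ka xa3 ya47 za9) (ka xa3 ya54 za55) (ka xa1 ya54 za57) (ka xa3 ya24 za56) (ka xa3 ya41 za52) (ka xa3 ya54 za56) (ka xa3 ya54 za57) (ka xa1 ya51 za51) (ka xa1 ya51 za54) (ka xa1 ya39 za54) (ka xa1 ya40 za3) (ka xa1 ya40 za4) (ka xa3 ya31 za60) (ka xa3 ya48 za26) (ka xa1 ya39 za57) (ka xa1 ya39 za58) (ka xa0 ya53 za57) (ka xa0 ya53 za59) (ka xa0 ya53 za60) (ka xa3 ya36 za42) (ka xa3 ya55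 za52) (ka xa3 ya35 za5) (ka xa3 ya33 za0) (ka xa3 ya43 za45) (ka xa3 ya54 za44) (ka xa3 ya55 za53) (ka xa3 ya40 za17) (ka xa3 ya33 za13) (ka xa3 ya36 za53) (ka xa3 ya33 za15) (ka xa1 ya54 za59) (ka xa0 ya54 za6) (ka xa0 ya54 za7) (ka xa0 ya54 za8) (ka xa1 ya55 za0) (ka xa3 ya40 za16) (ka xa3 ya56 za10) (ka xa3 ya56 za11) (ka xa1 ya54 za58) (ka xa3 ya56 za12) (ka xa1 ya54 za19) (ka xa1 ya54 za55) (ka xa1 ya54 za47) (ka xa0 ya54 za12) (ka xa0 ya54 za13)) (@D3.rec (fun _ => Pt) (ka xa1 ya54 za51) (ka xa3 ya42 za45) (ka xa3 ya56 za32) (ka xa3 ya56 za33) (ka xa3 ya40 za18) (ka xa3 ya42 za47) (ka xa3 ya42 za48) (ka xa3 ya27 za39) (ka xa1 ya46 za23) (ka xa0 ya54 za19) (ka xa1 ya1 za15) (ka xa1 ya1 za16) (ka xa2 ya5 za1) (ka xa1 ya1 za17) (ka xa1 ya1 za18) (ka xa1 ya1 za20) (ka xa1 ya1 za21) (ka xa1 ya1 za22) (ka xa1 ya1 za23)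 (ka xa1 ya1 za24) (ka xa1 ya1 za25) (ka xa3 ya57 za11) (ka xa1 ya1 za27) (ka xa1 ya1 za28) (ka xa1 ya1 za30) (ka xa1 ya1 za31) (ka xa1 ya1 za33) (ka xa1 ya1 za38) (ka xa1 ya1 za39) (ka xa1 ya1 za42) (ka xa1 ya1 za43) (ka xa3 ya57 za29) (ka xa1 ya1 za45) (ka xa1 ya1 za46) (ka xa3 ya36 za7) (ka xa1 ya1 za51) (ka xa1 ya1 za52) (ka xa3 ya57 za43) (ka xa1 ya1 za61) (ka xa2 ya53 za16) (ka xa1 ya2 za6) (ka xa1 ya2 za7) (ka xa2 ya15 za35) (ka xa3 ya3 za15) (ka xa0 ya54 za35) (ka xa3 ya57 za57) (ka xa1 ya2 za18) (ka xa1 ya8 za39) (ka xa1 ya55 za49) (ka xa1 ya55 za48) (ka xa0 ya54 za41) (ka xa0 ya54 za42) (ka xa0 ya54 za43) (ka xa0 ya54 za44) (ka xa1 ya9 za54) (ka xa2 ya23 za11) (ka xa3 ya58 za6) (ka xa2 ya29 za3) (ka xa0 ya57 za56) (ka xa3 ya58 za7) (ka xa2 ya7 za22) (ka xa3 ya58 za8)) (@D3.rec (fun _ => Pt) (ka xa3 ya58 za9) (ka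 xa3 ya58 za10) (ka xa3 ya58 za11) (ka xa2 ya4 za40) (ka xa1 ya10 za4) (ka xa1 ya10 za6) (ka xa3 ya58 za46) (ka xa1 ya10 za8) (ka xa1 ya10 za10) (ka xa2 ya49 za8) (ka xa1 ya10 za19) (ka xa1 ya56 za58) (ka xa3 ya58 za55) (ka xa1 ya56 za59) (ka xa3 ya58 za57) (ka xa3 ya59 za0) (ka xa0 ya54 za58) (ka xa3 ya59 za5) (ka xa3 ya58 za56) (ka xa1 ya10 za38) (ka xa1 ya10 za39) (ka xa1 ya10 za40) (ka xa1 ya10 za49) (ka xa3 ya3 za26) (ka xa2 ya49 za43) (ka xa2 ya33 za52) (ka xa3 ya59 za27) (ka xa3 ya3 za23) (ka xa2 ya49 za42) (ka xa3 ya3 za24) (ka xa0 ya55 za2) (ka xa1 ya38 za18) (ka xa1 ya38 za17) (ka xa3 ya59 za39) (ka xa3 ya59 za40) (ka xa1 ya11 za2) (ka xa1 ya11 za3) (ka xa1 ya11 za4) (ka xa1 ya9 za30) (ka xa1 ya9 za33) (ka xa1 ya9 za35) (ka xa1 ya10 za13) (ka xa1 ya10 za14) (ka xa1 ya10 za17) (ka xa0 ya56 za32) (ka xa1 ya10 za26)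 (ka xa4 ya0 za0) (ka xa1 ya56 za61) (ka xa1 ya57 za0) (ka xa3 ya3 za35) (ka xa2 ya15 za55) (ka xa0 ya55 za12) (ka xa3 ya10 za5) (ka xa1 ya57 za14) (ka xa1 ya9 za18) (ka xa1 ya9 za19) (ka xa1 ya9 za20) (ka xa1 ya9 za21) (ka xa1 ya56 za11) (ka xa1 ya56 za13) (ka xa4 ya0 za27) (ka xa1 ya56 za47)) (@D3.rec (fun _ => Pt) (ka xa1 ya56 za48) (ka xa1 ya27 za50) (ka xa4 ya0 za36) (ka xa1 ya6 za25) (ka xa1 ya6 za26) (ka xa1 ya6 za28) (ka xa1 ya22 za9) (ka xa1 ya26 za21) (ka xa4 ya0 za40) (ka xa3 ya59 za31) (ka xa0 ya55 za24) (ka xa4 ya0 za48) (ka xa4 ya0 za39) (ka xa1 ya27 za47) (ka xa1 ya56 za53) (ka xa1 ya27 za48) (ka xa1 ya27 za43) (ka xa2 ya35 za11) (ka xa0 ya56 za6) (ka xa0 ya56 za8) (ka xa0 ya56 za9) (ka xa0 ya56 za16) (ka xa0 ya56 za17) (ka xa0 ya56 za18) (ka xa0 ya56 za19) (ka xa0 ya56 za23) (ka xa0 ya56 za25) (ka xa0 ya56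 za27) (ka xa0 ya56 za34) (ka xa1 ya57 za55) (ka xa1 ya57 za56) (ka xa1 ya57 za57) (ka xa1 ya57 za58) (ka xa1 ya57 za59) (ka xa1 ya57 za60) (ka xa1 ya57 za61) (ka xa1 ya58 za0) (ka xa1 ya58 za1) (ka xa1 ya58 za2) (ka xa1 ya58 za3) (ka xa1 ya58 za4) (ka xa1 ya58 za5) (ka xa1 ya58 za6) (ka xa1 ya58 za7) (ka xa2 ya24 za45) (ka xa1 ya58 za9) (ka xa1 ya58 za10) (ka xa2 ya24 za55) (ka xa1 ya12 za49) (ka xa1 ya12 za52) (ka xa1 ya12 za53) (ka xa1 ya12 za54) (ka xa1 ya12 za55) (ka xa1 ya12 za56) (ka xa1 ya12 za57) (ka xa1 ya57 za29) (ka xa1 ya57 za30) (ka xa1 ya57 za31) (ka xa1 ya57 za32) (ka xa1 ya57 za33) (ka xa1 ya57 za34) (ka xa1 ya57 za35)) (@D3.rec (fun _ => Pt) (ka xa1 ya57 za36) (ka xa1 ya57 za37) (ka xa1 ya57 za38) (ka xa1 ya57 za39) (ka xa1 ya57 za40) (ka xa1 ya57 za41) (ka xa1 ya57 za42) (ka xa1 ya57 za43) (ka xa4 ya2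 za18) (ka xa1 ya57 za45) (ka xa1 ya57 za46) (ka xa1 ya28 za0) (ka xa1 ya58 za19) (ka xa1 ya58 za20) (ka xa1 ya58 za21) (ka xa1 ya58 za22) (ka xa1 ya11 za25) (ka xa1 ya15 za15) (ka xa1 ya15 za16) (ka xa1 ya58 za12) (ka xa1 ya58 za13) (ka xa1 ya58 za14) (ka xa1 ya58 za15) (ka xa1 ya1 za26) (ka xa1 ya2 za42) (ka xa1 ya2 za43) (ka xa1 ya2 za54) (ka xa2 ya35 za12) (ka xa1 ya17 za10) (ka xa4 ya0 za61) (ka xa4 ya1 za0) (ka xa1 ya25 za1) (ka xa2 ya58 za33) (ka xa2 ya58 za34) (ka xa4 ya1 za1) (ka xa2 ya58 za42) (ka xa4 ya1 za2) (ka xa4 ya1 za3) (ka xa1 ya2 za34) (ka xa1 ya2 za35) (ka xa2 ya6 za60) (ka xa2 ya6 za59) (ka xa2 ya24 za7) (ka xa2 ya24 za8) (ka xa2 ya24 za9) (ka xa2 ya7 za53) (ka xa2 ya24 za10) (ka xa2 ya2 za15) (ka xa0 ya56 za13) (ka xa4 ya3 za36) (ka xa4 ya3 za37) (ka xa2 ya6 za61) (ka xa2 ya7 za0) (ka xa2 ya7 za1)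 (ka xa2 ya7 za2) (ka xa2 ya7 za3) (ka xa1 ya2 za38) (ka xa4 ya1 za5) (ka xa4 ya1 za6) (ka xa4 ya3 za61) (ka xa4 ya1 za7) (ka xa4 ya1 za8)) (@D3.rec (fun _ => Pt) (ka xa2 ya4 za41) (ka xa2 ya4 za43) (ka xa4 ya4 za13) (ka xa1 ya59 za4) (ka xa1 ya59 za3) (ka xa4 ya1 za10) (ka xa1 ya19 za6) (ka xa1 ya19 za5) (ka xa2 ya4 za36) (ka xa2 ya4 za37) (ka xa2 ya3 za16) (ka xa2 ya4 za38) (ka xa2 ya4 za39) (ka xa2 ya6 za54) (ka xa2 ya3 za13) (ka xa2 ya26 za7) (ka xa2 ya29 za51) (ka xa2 ya7 za47) (ka xa1 ya3 za21) (ka xa1 ya3 za22) (ka xa1 ya19 za7) (ka xa1 ya19 za8) (ka xa1 ya19 za9) (ka xa1 ya19 za11) (ka xa1 ya19 za12) (ka xa1 ya25 za30) (ka xa0 ya59 za22) (ka xa2 ya26 za2) (ka xa1 ya13 za51) (ka xa2 ya0 za1) (ka xa2 ya0 za2) (ka xa2 ya4 za3) (ka xa2 ya4 za4) (ka xa4 ya4 za54) (ka xa2 ya4 za6) (ka xa2 ya4 za7) (ka xa2 ya0 za22) (ka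 xa1 ya11 za14) (ka xa1 ya59 za39) (ka xa1 ya59 za38) (ka xa0 ya56 za48) (ka xa0 ya56 za49) (ka xa0 ya56 za50) (ka xa0 ya56 za51) (ka xa2 ya0 za30) (ka xa2 ya24 za51) (ka xa4 ya5 za2) (ka xa2 ya7 za14) (ka xa1 ya14 za20) (ka xa4 ya5 za3) (ka xa2 ya3 za27) (ka xa4 ya5 za4) (ka xa3 ya58 za19) (ka xa4 ya5 za5) (ka xa4 ya5 za6) (ka xa2 ya4 za33) (ka xa2 ya0 za50) (ka xa1 ya18 za32) (ka xa3 ya24 za7) (ka xa2 ya0 za52) (ka xa2 ya0 za53) (ka xa2 ya0 za54))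
def f_a_2 : D2 → D3 → Pt := @D2.rec (fun _ => D3 → Pt) (@D3.rec (fun _ => Pt) (ka xa1 ya13 za38) (ka xa1 ya59 za29) (ka xa1 ya59 za30) (ka xa1 ya4 za54) (ka xa1 ya25 za55) (ka xa2 ya0 za56) (ka xa4 ya5 za40) (ka xa1 ya25 za56) (ka xa2 ya33 za35) (ka xa1 ya25 za46) (ka xa3 ya5 za9) (ka xa1 ya25 za48) (ka xa1 ya25 za49) (ka xa4 ya5 za48) (ka xa4 ya5 za53) (ka xa0 ya57 za6) (ka xa4 ya5 za58) (ka xa4 ya5 za47) (ka xa2 ya1 za2) (ka xa2 ya1 za3) (ka xa2 ya1 za4) (ka xa2 ya23 za1) (ka xa1 ya59 za36) (ka xa2 ya0 za24) (ka xa2 ya0 za23) (ka xa0 ya57 za14) (ka xa0 ya57 za15) (ka xa0 ya57 za16) (ka xa0 ya57 za17) (ka xa2 ya23 za2) (ka xa1 ya59 za44) (ka xa4 ya6 za12) (ka xa2 ya3 za53) (ka xa1 ya14 za45) (ka xa2 ya34 za37) (ka xa4 ya6 za13) (ka xa2 ya6 za43) (ka xa4 ya6 za14) (ka xa2 ya25 za23) (ka xa4 ya6 za15) (ka xa4 ya6 za16)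 (ka xa2 ya7 za26) (ka xa1 ya18 za35) (ka xa1 ya25 za31) (ka xa1 ya25 za32) (ka xa2 ya23 za6) (ka xa2 ya23 za7) (ka xa1 ya25 za37) (ka xa1 ya25 za38) (ka xa2 ya7 za27) (ka xa1 ya59 za56) (ka xa4 ya6 za61) (ka xa1 ya59 za59) (ka xa1 ya59 za60) (ka xa1 ya59 za61) (ka xa2 ya15 za37) (ka xa2 ya0 za5) (ka xa2 ya15 za51) (ka xa4 ya7 za7) (ka xa4 ya7 za10) (ka xa0 ya57 za33) (ka xa4 ya7 za15)) (@D3.rec (fun _ => Pt) (ka xa4 ya7 za6) (ka xa1 ya25 za39) (ka xa2 ya0 za18) (ka xa2 ya0 za19) (ka xa2 ya0 za20) (ka xa1 ya11 za12) (ka xa1 ya11 za20) (ka xa2 ya1 za18) (ka xa2 ya1 za19) (ka xa2 ya1 za20) (ka xa1 ya25 za8) (ka xa1 ya25 za9) (ka xa1 ya25 za17) (ka xa2 ya1 za24) (ka xa2 ya1 za25) (ka xa1 ya13 za32) (ka xa2 ya8 za0) (ka xa2 ya8 za1) (ka xa2 ya1 za7) (ka xa2 ya1 za8) (ka xa2 ya1 za9) (ka xa1 ya16 za31) (ka xa1 ya16 za32) (ka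 xa1 ya16 za38) (ka xa2 ya1 za13) (ka xa2 ya1 za14) (ka xa1 ya1 za11) (ka xa0 ya57 za52) (ka xa0 ya57 za53) (ka xa0 ya57 za54) (ka xa0 ya57 za57) (ka xa0 ya57 za58) (ka xa0 ya57 za59) (ka xa0 ya57 za60) (ka xa0 ya57 za61) (ka xa0 ya58 za0) (ka xa2 ya23 za22) (ka xa2 ya23 za23) (ka xa1 ya18 za9) (ka xa4 ya8 za10) (ka xa4 ya8 za11) (ka xa2 ya5 za48) (ka xa4 ya8 za12) (ka xa4 ya8 za13) (ka xa4 ya8 za14) (ka xa4 ya7 za61) (ka xa1 ya14 za24) (ka xa4 ya7 za60) (ka xa1 ya1 za13) (ka xa0 ya57 za55) (ka xa2 ya4 za24) (ka xa4 ya8 za53) (ka xa4 ya8 za54) (ka xa1 ya9 za58) (ka xa3 ya58 za20) (ka xa3 ya58 za21) (ka xa4 ya8 za15) (ka xa4 ya8 za16) (ka xa1 ya16 za51) (ka xa2 ya41 za53) (ka xa3 ya56 za52) (ka xa4 ya8 za18)) (@D3.rec (fun _ => Pt) (ka xa2 ya40 za29) (ka xa4 ya8 za19) (ka xa4 ya9 za29) (ka xa4 ya8 za20) (ka xa1 ya14 za18)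 (ka xa4 ya8 za21) (ka xa4 ya8 za22) (ka xa4 ya8 za23) (ka xa4 ya9 za49) (ka xa4 ya8 za25) (ka xa4 ya8 za26) (ka xa4 ya8 za27) (ka xa2 ya5 za58) (ka xa0 ya58 za4) (ka xa0 ya58 za5) (ka xa1 ya58 za47) (ka xa2 ya11 za1) (ka xa2 ya11 za2) (ka xa2 ya6 za0) (ka xa2 ya5 za61) (ka xa4 ya10 za0) (ka xa4 ya10 za1) (ka xa1 ya15 za45) (ka xa4 ya10 za2) (ka xa4 ya10 za3) (ka xa2 ya5 za51) (ka xa2 ya5 za52) (ka xa2 ya3 za34) (ka xa4 ya10 za29) (ka xa2 ya5 za54) (ka xa2 ya5 za55) (ka xa2 ya5 za56) (ka xa2 ya5 za57) (ka xa2 ya5 za37) (ka xa2 ya5 za38) (ka xa0 ya58 za13) (ka xa0 ya58 za14) (ka xa2 ya5 za42) (ka xa4 ya10 za39) (ka xa4 ya10 za40) (ka xa1 ya15 za57) (ka xa2 ya38 za41) (ka xa4 ya10 za55) (ka xa2 ya6 za7) (ka xa2 ya6 za8) (ka xa1 ya16 za60) (ka xa2 ya6 za9) (ka xa1 ya16 za59) (ka xa0 ya58 za19) (ka xa4 ya11 za1) (ka xa4 ya11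 za2) (ka xa4 ya11 za14) (ka xa2 ya6 za14) (ka xa2 ya6 za15) (ka xa2 ya6 za16) (ka xa1 ya17 za29) (ka xa2 ya6 za17) (ka xa0 ya58 za22) (ka xa4 ya11 za24) (ka xa4 ya11 za25) (ka xa4 ya11 za36) (ka xa2 ya6 za22)) (@D3.rec (fun _ => Pt) (ka xa2 ya6 za23) (ka xa2 ya6 za24) (ka xa2 ya6 za25) (ka xa4 ya11 za44) (ka xa2 ya6 za27) (ka xa4 ya11 za47) (ka xa4 ya11 za52) (ka xa0 ya58 za27) (ka xa4 ya11 za57) (ka xa4 ya11 za46) (ka xa2 ya3 za11) (ka xa2 ya3 za10) (ka xa2 ya6 za33) (ka xa1 ya59 za14) (ka xa2 ya6 za3) (ka xa2 ya8 za18) (ka xa1 ya59 za10) (ka xa1 ya13 za50) (ka xa2 ya6 za35) (ka xa2 ya7 za5) (ka xa2 ya7 za6) (ka xa0 ya58 za40) (ka xa0 ya58 za41) (ka xa2 ya7 za10) (ka xa2 ya7 za9) (ka xa4 ya12 za14) (ka xa4 ya12 za15) (ka xa1 ya59 za50) (ka xa4 ya12 za16) (ka xa4 ya12 za17) (ka xa2 ya23 za24) (ka xa1 ya19 za19) (ka xa1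 ya19 za17) (ka xa2 ya26 za13) (ka xa2 ya2 za27) (ka xa2 ya6 za47) (ka xa1 ya32 za20) (ka xa2 ya6 za49) (ka xa2 ya6 za50) (ka xa2 ya6 za51) (ka xa2 ya6 za52) (ka xa4 ya4 za38) (ka xa2 ya7 za23) (ka xa0 ya58 za50) (ka xa1 ya17 za14) (ka xa2 ya6 za36) (ka xa0 ya58 za54) (ka xa0 ya58 za55) (ka xa2 ya6 za40) (ka xa2 ya6 za39) (ka xa4 ya12 za58) (ka xa4 ya12 za59) (ka xa4 ya12 za60) (ka xa2 ya0 za32) (ka xa4 ya12 za61) (ka xa4 ya13 za18) (ka xa2 ya7 za18) (ka xa2 ya7 za19) (ka xa2 ya7 za21) (ka xa1 ya9 za60) (ka xa2 ya6 za56) (ka xa0 ya58 za60)) (@D3.rec (fun _ => Pt) (ka xa0 ya59 za0) (ka xa4 ya13 za24) (ka xa0 ya59 za23) (ka xa1 ya59 za31) (ka xa1 ya59 za32) (ka xa4 ya13 za30) (ka xa1 ya59 za34) (ka xa1 ya59 za35) (ka xa0 ya59 za11) (ka xa1 ya12 za48) (ka xa2 ya4 za14) (ka xa2 ya4 za15) (ka xa1 ya9 za40) (ka xa1 ya25 za12)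 (ka xa2 ya4 za10) (ka xa2 ya4 za11) (ka xa0 ya59 za12) (ka xa0 ya59 za14) (ka xa0 ya59 za15) (ka xa4 ya13 za36) (ka xa2 ya34 za29) (ka xa1 ya8 za47) (ka xa4 ya13 za49) (ka xa4 ya13 za50) (ka xa2 ya1 za50) (ka xa2 ya25 za25) (ka xa2 ya25 za26) (ka xa2 ya25 za27) (ka xa4 ya13 za51) (ka xa2 ya25 za35) (ka xa4 ya13 za52) (ka xa4 ya13 za53) (ka xa1 ya25 za29) (ka xa1 ya59 za55) (ka xa2 ya23 za9) (ka xa2 ya23 za10) (ka xa1 ya59 za8) (ka xa1 ya59 za9) (ka xa1 ya59 za11) (ka xa1 ya59 za12) (ka xa1 ya56 za3) (ka xa1 ya59 za0) (ka xa2 ya25 za44) (ka xa1 ya59 za1) (ka xa4 ya4 za47) (ka xa4 ya14 za48) (ka xa2 ya4 za47) (ka xa2 ya4 za46) (ka xa2 ya45 za22) (ka xa2 ya37 za20) (ka xa1 ya16 za26) (ka xa1 ya16 za27) (ka xa1 ya16 za35) (ka xa2 ya4 za61) (ka xa2 ya5 za0) (ka xa1 ya0 za54) (ka xa2 ya7 za56) (ka xa2 ya7 za57) (ka xa1 ya25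 za13) (ka xa1 ya25 za14) (ka xa1 ya25 za20) (ka xa2 ya4 za53)) (@D3.rec (fun _ => Pt) (ka xa2 ya4 za54) (ka xa1 ya55 za12) (ka xa0 ya59 za40) (ka xa0 ya59 za41) (ka xa0 ya59 za44) (ka xa0 ya59 za45) (ka xa0 ya59 za46) (ka xa0 ya59 za47) (ka xa0 ya59 za48) (ka xa0 ya59 za49) (ka xa1 ya17 za23) (ka xa4 ya15 za21) (ka xa4 ya15 za22) (ka xa4 ya15 za23) (ka xa4 ya15 za10) (ka xa1 ya14 za54) (ka xa4 ya15 za9) (ka xa1 ya1 za34) (ka xa2 ya8 za20) (ka xa2 ya8 za21) (ka xa1 ya2 za50) (ka xa1 ya2 za51) (ka xa4 ya15 za24) (ka xa4 ya15 za25) (ka xa4 ya2 za49) (ka xa2 ya41 za12) (ka xa4 ya15 za27) (ka xa4 ya15 za28) (ka xa2 ya8 za26) (ka xa4 ya15 za29) (ka xa4 ya15 za30) (ka xa4 ya15 za31) (ka xa4 ya15 za32) (ka xa4 ya16 za31) (ka xa4 ya15 za34) (ka xa4 ya15 za35) (ka xa4 ya15 za36) (ka xa2 ya2 za33) (ka xa2 ya2 za34) (ka xa0 ya59 za52)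 (ka xa0 ya59 za53) (ka xa1 ya16 za10) (ka xa2 ya2 za37) (ka xa4 ya16 za44) (ka xa4 ya16 za45) (ka xa1 ya25 za3) (ka xa2 ya38 za43) (ka xa2 ya36 za22) (ka xa2 ya1 za41) (ka xa1 ya17 za32) (ka xa1 ya17 za30) (ka xa2 ya2 za25) (ka xa2 ya2 za26) (ka xa4 ya17 za9) (ka xa2 ya2 za29) (ka xa2 ya2 za30) (ka xa2 ya2 za31) (ka xa2 ya2 za32) (ka xa2 ya2 za12) (ka xa1 ya0 za0) (ka xa1 ya0 za1) (ka xa2 ya2 za19)) (@D3.rec (fun _ => Pt) (ka xa2 ya2 za18) (ka xa4 ya17 za14) (ka xa4 ya17 za15) (ka xa2 ya3 za14) (ka xa1 ya15 za43) (ka xa4 ya17 za16) (ka xa4 ya17 za32) (ka xa2 ya2 za43) (ka xa2 ya2 za44) (ka xa2 ya2 za46) (ka xa1 ya0 za6) (ka xa4 ya17 za37) (ka xa4 ya17 za38) (ka xa4 ya17 za49) (ka xa2 ya2 za52) (ka xa2 ya2 za53) (ka xa2 ya2 za54) (ka xa2 ya2 za56) (ka xa1 ya0 za9) (ka xa4 ya17 za60) (ka xa4 ya17 za61) (ka xa4 ya18 za10)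 (ka xa2 ya2 za61) (ka xa2 ya3 za0) (ka xa2 ya3 za1) (ka xa2 ya3 za2) (ka xa4 ya18 za17) (ka xa2 ya3 za4) (ka xa4 ya18 za21) (ka xa1 ya30 za19) (ka xa4 ya11 za59) (ka xa4 ya11 za58) (ka xa1 ya0 za14) (ka xa2 ya3 za12) (ka xa2 ya41 za1) (ka xa2 ya3 za18) (ka xa2 ya3 za45) (ka xa1 ya0 za18) (ka xa1 ya0 za19) (ka xa2 ya3 za49) (ka xa2 ya3 za48) (ka xa4 ya18 za39) (ka xa4 ya18 za40) (ka xa2 ya0 za36) (ka xa4 ya13 za15) (ka xa4 ya18 za41) (ka xa4 ya18 za59) (ka xa2 ya3 za35) (ka xa3 ya11 za6) (ka xa2 ya3 za37) (ka xa2 ya3 za38) (ka xa2 ya3 za39) (ka xa2 ya3 za40) (ka xa4 ya19 za5) (ka xa1 ya59 za13) (ka xa4 ya9 za23) (ka xa2 ya3 za60) (ka xa1 ya0 za27) (ka xa4 ya19 za8) (ka xa1 ya58 za41) (ka xa1 ya58 za40) (ka xa1 ya58 za51)) (@D3.rec (fun _ => Pt) (ka xa1 ya58 za52) (ka xa1 ya58 za53) (ka xa1 ya58 za54) (ka xa1 ya58 za55)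 (ka xa1 ya18 za36) (ka xa2 ya3 za19) (ka xa2 ya3 za20) (ka xa1 ya0 za38) (ka xa1 ya0 za39) (ka xa2 ya3 za24) (ka xa2 ya3 za23) (ka xa4 ya19 za24) (ka xa4 ya19 za25) (ka xa4 ya12 za34) (ka xa1 ya59 za47) (ka xa3 ya58 za16) (ka xa4 ya19 za26) (ka xa3 ya11 za37) (ka xa2 ya3 za56) (ka xa2 ya3 za57) (ka xa1 ya18 za24) (ka xa2 ya3 za58) (ka xa1 ya55 za60) (ka xa2 ya3 za42) (ka xa1 ya0 za44) (ka xa4 ya19 za53) (ka xa2 ya0 za41) (ka xa2 ya0 za49) (ka xa2 ya7 za41) (ka xa2 ya7 za42) (ka xa1 ya11 za57) (ka xa1 ya11 za60) (ka xa1 ya12 za19) (ka xa2 ya7 za46) (ka xa4 ya20 za12) (ka xa2 ya7 za49) (ka xa2 ya7 za50) (ka xa4 ya15 za3) (ka xa4 ya6 za19) (ka xa1 ya25 za35) (ka xa1 ya25 za36) (ka xa2 ya7 za28) (ka xa2 ya7 za29) (ka xa1 ya13 za33) (ka xa1 ya13 za34) (ka xa1 ya13 za37) (ka xa2 ya7 za33) (ka xa1 ya59 za17) (ka xa4 ya20 za38)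 (ka xa2 ya7 za35) (ka xa2 ya7 za36) (ka xa2 ya7 za58) (ka xa2 ya7 za59) (ka xa1 ya58 za45) (ka xa2 ya7 za60) (ka xa2 ya7 za61) (ka xa2 ya4 za56) (ka xa2 ya4 za57) (ka xa2 ya7 za51) (ka xa2 ya7 za52) (ka xa2 ya7 za54) (ka xa2 ya7 za55)) (@D3.rec (fun _ => Pt) (ka xa2 ya1 za16) (ka xa2 ya1 za17) (ka xa1 ya1 za12) (ka xa2 ya58 za20) (ka xa1 ya9 za53) (ka xa4 ya8 za8) (ka xa4 ya8 za9) (ka xa4 ya8 za17) (ka xa4 ya21 za2) (ka xa4 ya8 za52) (ka xa2 ya23 za32) (ka xa2 ya23 za33) (ka xa3 ya56 za53) (ka xa3 ya56 za54) (ka xa3 ya56 za55) (ka xa3 ya56 za58) (ka xa3 ya56 za59) (ka xa3 ya56 za60) (ka xa2 ya3 za15) (ka xa3 ya56 za61) (ka xa2 ya5 za18) (ka xa2 ya5 za19) (ka xa3 ya57 za0) (ka xa3 ya57 za1) (ka xa2 ya24 za21) (ka xa3 ya57 za3) (ka xa2 ya5 za28) (ka xa2 ya24 za22) (ka xa3 ya57 za4) (ka xa3 ya57 za5) (ka xa3 ya57 za6) (ka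 xa4 ya22 za8) (ka xa3 ya57 za8) (ka xa3 ya57 za9) (ka xa3 ya57 za10) (ka xa4 ya2 za43) (ka xa4 ya2 za44) (ka xa3 ya57 za14) (ka xa3 ya57 za15) (ka xa3 ya57 za16) (ka xa2 ya26 za16) (ka xa2 ya26 za3) (ka xa4 ya22 za31) (ka xa3 ya57 za18) (ka xa3 ya57 za19) (ka xa2 ya26 za57) (ka xa4 ya15 za51) (ka xa4 ya15 za52) (ka xa2 ya26 za14) (ka xa2 ya26 za15) (ka xa4 ya22 za48) (ka xa2 ya26 za18) (ka xa4 ya22 za53) (ka xa3 ya57 za21) (ka xa3 ya57 za22) (ka xa1 ya19 za37) (ka xa3 ya5 za37) (ka xa3 ya4 za40) (ka xa3 ya33 za23) (ka xa2 ya26 za24) (ka xa2 ya26 za25) (ka xa1 ya31 za14)) (@D3.rec (fun _ => Pt) (ka xa2 ya26 za26) (ka xa3 ya57 za24) (ka xa3 ya57 za25) (ka xa3 ya33 za32) (ka xa3 ya57 za26) (ka xa3 ya57 za27) (ka xa4 ya23 za17) (ka xa4 ya23 za22) (ka xa1 ya1 za44) (ka xa4 ya23 za27) (ka xa4 ya23 za16) (ka xa3 ya57 za32) (ka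 xa3 ya57 za33) (ka xa3 ya57 za34) (ka xa3 ya57 za35) (ka xa3 ya57 za36) (ka xa3 ya3 za21) (ka xa4 ya23 za47) (ka xa1 ya27 za58) (ka xa1 ya27 za59) (ka xa1 ya31 za10) (ka xa1 ya28 za2) (ka xa1 ya31 za5) (ka xa1 ya31 za4) (ka xa1 ya1 za50) (ka xa4 ya23 za58) (ka xa3 ya36 za5) (ka xa3 ya57 za40) (ka xa1 ya28 za16) (ka xa1 ya28 za18) (ka xa1 ya42 za51) (ka xa3 ya5 za36) (ka xa2 ya17 za56) (ka xa2 ya17 za57) (ka xa3 ya57 za38) (ka xa3 ya57 za37) (ka xa1 ya1 za55) (ka xa4 ya24 za17) (ka xa4 ya24 za18) (ka xa1 ya31 za9) (ka xa1 ya27 za57) (ka xa1 ya31 za11) (ka xa1 ya31 za12) (ka xa1 ya31 za13) (ka xa1 ya23 za11) (ka xa1 ya23 za10) (ka xa1 ya1 za60) (ka xa4 ya24 za35) (ka xa3 ya57 za45) (ka xa3 ya57 za42) (ka xa3 ya57 za41) (ka xa1 ya2 za0) (ka xa4 ya24 za44) (ka xa4 ya24 za45) (ka xa2 ya26 za51) (ka xa2 ya26 za52) (ka xa2 ya26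 za53) (ka xa2 ya26 za54) (ka xa2 ya26 za55) (ka xa2 ya26 za56) (ka xa1 ya22 za34) (ka xa3 ya57 za49)) (@D3.rec (fun _ => Pt) (ka xa3 ya57 za50) (ka xa2 ya33 za42) (ka xa3 ya57 za47) (ka xa3 ya57 za46) (ka xa1 ya2 za8) (ka xa4 ya25 za20) (ka xa4 ya25 za21) (ka xa3 ya0 za59) (ka xa3 ya0 za60) (ka xa3 ya0 za61) (ka xa1 ya2 za15) (ka xa1 ya2 za11) (ka xa4 ya0 za41) (ka xa1 ya10 za48) (ka xa4 ya25 za41) (ka xa4 ya25 za42) (ka xa1 ya2 za12) (ka xa3 ya59 za28) (ka xa4 ya25 za50) (ka xa4 ya25 za54) (ka xa4 ya25 za58) (ka xa1 ya2 za14) (ka xa4 ya26 za6) (ka xa4 ya26 za7) (ka xa4 ya26 za8) (ka xa4 ya26 za9) (ka xa4 ya25 za38) (ka xa4 ya25 za39) (ka xa4 ya26 za28) (ka xa2 ya18 za48) (ka xa4 ya26 za37) (ka xa2 ya10 za35) (ka xa3 ya58 za0) (ka xa3 ya58 za1) (ka xa3 ya58 za2) (ka xa2 ya10 za31) (ka xa3 ya3 za18) (ka xa3 ya3 za19) (ka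 xa3 ya3 za20) (ka xa3 ya3 za22) (ka xa2 ya33 za18) (ka xa2 ya27 za61) (ka xa2 ya28 za0) (ka xa2 ya28 za1) (ka xa1 ya15 za38) (ka xa1 ya14 za19) (ka xa1 ya15 za39) (ka xa1 ya15 za40) (ka xa1 ya11 za61) (ka xa1 ya9 za29) (ka xa1 ya14 za27) (ka xa2 ya10 za56) (ka xa2 ya10 za57) (ka xa1 ya13 za39) (ka xa1 ya13 za40) (ka xa1 ya14 za59) (ka xa2 ya10 za51) (ka xa2 ya10 za52) (ka xa1 ya2 za36) (ka xa1 ya2 za37) (ka xa1 ya2 za39) (ka xa1 ya2 za40)) (@D3.rec (fun _ => Pt) (ka xa1 ya2 za41) (ka xa2 ya2 za16) (ka xa2 ya2 za17) (ka xa1 ya16 za58) (ka xa4 ya3 za19) (ka xa4 ya3 za20) (ka xa4 ya3 za21) (ka xa4 ya3 za22) (ka xa1 ya15 za47) (ka xa4 ya3 za23) (ka xa4 ya27 za32) (ka xa4 ya27 za33) (ka xa2 ya24 za12) (ka xa4 ya1 za4) (ka xa4 ya3 za53) (ka xa4 ya3 za54) (ka xa4 ya27 za34) (ka xa4 ya27 za35) (ka xa4 ya27 za36) (ka xa4 ya27 za37)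 (ka xa4 ya28 za32) (ka xa4 ya27 za39) (ka xa4 ya27 za40) (ka xa4 ya27 za41) (ka xa1 ya17 za18) (ka xa1 ya17 za17) (ka xa4 ya2 za45) (ka xa4 ya2 za46) (ka xa1 ya14 za52) (ka xa2 ya41 za25) (ka xa4 ya2 za47) (ka xa1 ya16 za61) (ka xa1 ya17 za0) (ka xa4 ya28 za59) (ka xa1 ya17 za4) (ka xa1 ya17 za6) (ka xa1 ya17 za7) (ka xa1 ya17 za8) (ka xa1 ya16 za47) (ka xa1 ya16 za48) (ka xa1 ya16 za52) (ka xa4 ya15 za57) (ka xa4 ya15 za58) (ka xa4 ya29 za17) (ka xa1 ya17 za26) (ka xa1 ya17 za27) (ka xa1 ya17 za28) (ka xa1 ya17 za31) (ka xa4 ya2 za48) (ka xa4 ya2 za50) (ka xa4 ya29 za35) (ka xa1 ya17 za39) (ka xa1 ya17 za40) (ka xa1 ya17 za41) (ka xa1 ya17 za42) (ka xa1 ya17 za43) (ka xa1 ya17 za44) (ka xa1 ya2 za57) (ka xa4 ya14 za14) (ka xa4 ya29 za49) (ka xa4 ya29 za58) (ka xa1 ya17 za49)) (@D3.rec (fun _ => Pt) (ka xa1 ya17 za50)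 (ka xa1 ya17 za51) (ka xa1 ya17 za52) (ka xa1 ya17 za53) (ka xa4 ya30 za6) (ka xa1 ya17 za55) (ka xa1 ya17 za56) (ka xa4 ya30 za14) (ka xa1 ya17 za58) (ka xa1 ya17 za59) (ka xa4 ya30 za20) (ka xa4 ya30 za25) (ka xa1 ya3 za0) (ka xa4 ya30 za30) (ka xa4 ya30 za19) (ka xa1 ya18 za3) (ka xa1 ya18 za4) (ka xa1 ya18 za5) (ka xa1 ya18 za6) (ka xa1 ya18 za7) (ka xa1 ya18 za8) (ka xa4 ya30 za52) (ka xa1 ya18 za27) (ka xa4 ya30 za57) (ka xa1 ya18 za29) (ka xa1 ya18 za30) (ka xa1 ya18 za31) (ka xa1 ya18 za33) (ka xa4 ya31 za1) (ka xa1 ya31 za20) (ka xa4 ya31 za5) (ka xa3 ya0 za58) (ka xa1 ya18 za50) (ka xa1 ya18 za52) (ka xa1 ya18 za53) (ka xa1 ya18 za56) (ka xa1 ya18 za57) (ka xa1 ya18 za11) (ka xa1 ya18 za15) (ka xa1 ya18 za14) (ka xa4 ya4 za36) (ka xa4 ya4 za37) (ka xa2 ya43 za60) (ka xa1 ya11 za23) (ka xa4 ya31 za33) (ka xa1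 ya19 za14) (ka xa1 ya19 za15) (ka xa1 ya19 za16) (ka xa1 ya19 za18) (ka xa1 ya18 za46) (ka xa1 ya18 za45) (ka xa1 ya3 za25) (ka xa4 ya31 za43) (ka xa1 ya19 za23) (ka xa1 ya19 za32) (ka xa1 ya19 za33) (ka xa1 ya19 za34) (ka xa1 ya19 za31) (ka xa1 ya19 za38) (ka xa1 ya19 za39) (ka xa1 ya19 za26) (ka xa1 ya19 za25)) (@D3.rec (fun _ => Pt) (ka xa1 ya3 za34) (ka xa4 ya31 za59) (ka xa4 ya31 za60) (ka xa1 ya19 za43) (ka xa1 ya19 za45) (ka xa1 ya19 za42) (ka xa1 ya19 za47) (ka xa1 ya19 za60) (ka xa1 ya19 za59) (ka xa1 ya3 za39) (ka xa4 ya32 za12) (ka xa1 ya3 za45) (ka xa1 ya19 za56) (ka xa1 ya19 za57) (ka xa1 ya19 za58) (ka xa1 ya19 za49) (ka xa1 ya19 za48) (ka xa1 ya3 za42) (ka xa4 ya32 za28) (ka xa4 ya32 za29) (ka xa4 ya32 za30) (ka xa1 ya20 za3) (ka xa1 ya20 za4) (ka xa1 ya20 za5) (ka xa1 ya3 za49) (ka xa1 ya19 za53) (ka xa4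 ya22 za55) (ka xa4 ya32 za16) (ka xa1 ya3 za46) (ka xa4 ya32 za57) (ka xa4 ya32 za60) (ka xa4 ya32 za61) (ka xa1 ya3 za48) (ka xa4 ya33 za6) (ka xa4 ya33 za7) (ka xa4 ya33 za8) (ka xa4 ya33 za9) (ka xa4 ya32 za48) (ka xa1 ya23 za18) (ka xa4 ya33 za26) (ka xa1 ya20 za24) (ka xa4 ya33 za32) (ka xa1 ya20 za26) (ka xa4 ya33 za38) (ka xa1 ya20 za28) (ka xa1 ya20 za29) (ka xa1 ya20 za30) (ka xa1 ya20 za31) (ka xa1 ya20 za32) (ka xa1 ya20 za33) (ka xa2 ya13 za50) (ka xa1 ya3 za60) (ka xa1 ya21 za43) (ka xa1 ya21 za42) (ka xa4 ya33 za56) (ka xa4 ya33 za57) (ka xa1 ya21 za26) (ka xa1 ya21 za16) (ka xa1 ya21 za17) (ka xa1 ya21 za23) (ka xa1 ya21 za24) (ka xa1 ya21 za25)) (@D3.rec (fun _ => Pt) (ka xa3 ya0 za33) (ka xa1 ya21 za30) (ka xa1 ya21 za31) (ka xa4 ya34 za15) (ka xa1 ya21 za33) (ka xa1 ya21 za34) (ka xa1 ya21 za35) (ka xa3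 ya9 za51) (ka xa1 ya21 za3) (ka xa1 ya21 za5) (ka xa4 ya34 za24) (ka xa1 ya4 za10) (ka xa1 ya21 za9) (ka xa1 ya21 za8) (ka xa4 ya34 za25) (ka xa4 ya34 za26) (ka xa1 ya21 za45) (ka xa1 ya21 za48) (ka xa1 ya21 za44) (ka xa1 ya21 za50) (ka xa1 ya31 za17) (ka xa1 ya21 za52) (ka xa2 ya53 za24) (ka xa2 ya55 za15) (ka xa1 ya4 za18) (ka xa4 ya34 za43) (ka xa1 ya22 za7) (ka xa2 ya54 za21) (ka xa4 ya25 za46) (ka xa1 ya21 za55) (ka xa1 ya4 za23) (ka xa1 ya4 za24) (ka xa4 ya34 za49) (ka xa4 ya34 za50) (ka xa4 ya31 za58) (ka xa4 ya34 za51) (ka xa1 ya24 za43) (ka xa1 ya22 za23) (ka xa1 ya22 za24) (ka xa4 ya35 za5) (ka xa1 ya22 za26) (ka xa3 ya59 za36) (ka xa1 ya22 za28) (ka xa1 ya22 za29) (ka xa1 ya22 za31) (ka xa1 ya23 za6) (ka xa1 ya22 za33) (ka xa1 ya23 za56) (ka xa1 ya22 za36) (ka xa1 ya23 za4) (ka xa1 ya23 za5) (ka xa1 ya23 za1)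 (ka xa1 ya23 za2) (ka xa1 ya4 za35) (ka xa1 ya4 za36) (ka xa4 ya35 za21) (ka xa4 ya35 za22) (ka xa4 ya35 za23) (ka xa2 ya33 za48) (ka xa4 ya35 za24) (ka xa4 ya35 za25) (ka xa1 ya22 za58)) (@D3.rec (fun _ => Pt) (ka xa1 ya22 za59) (ka xa1 ya22 za60) (ka xa1 ya6 za60) (ka xa1 ya22 za61) (ka xa1 ya23 za0) (ka xa1 ya22 za42) (ka xa1 ya22 za43) (ka xa2 ya51 za42) (ka xa1 ya22 za38) (ka xa1 ya22 za39) (ka xa1 ya22 za40) (ka xa1 ya4 za43) (ka xa1 ya4 za44) (ka xa1 ya4 za45) (ka xa1 ya22 za48) (ka xa1 ya22 za47) (ka xa4 ya35 za60) (ka xa4 ya35 za61) (ka xa4 ya36 za0) (ka xa4 ya36 za1) (ka xa4 ya35 za53) (ka xa4 ya36 za2) (ka xa4 ya36 za3) (ka xa4 ya36 za4) (ka xa1 ya23 za21) (ka xa1 ya23 za22) (ka xa1 ya23 za23) (ka xa1 ya23 za24) (ka xa1 ya23 za25) (ka xa1 ya23 za26) (ka xa1 ya5 za3) (ka xa1 ya4 za52) (ka xa1 ya4 za53) (ka xa1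 ya22 za41) (ka xa1 ya4 za51) (ka xa1 ya55 za42) (ka xa4 ya36 za42) (ka xa2 ya0 za55) (ka xa4 ya35 za51) (ka xa4 ya24 za42) (ka xa2 ya51 za46) (ka xa4 ya36 za54) (ka xa4 ya36 za38) (ka xa4 ya5 za35) (ka xa1 ya4 za57) (ka xa1 ya5 za28) (ka xa4 ya36 za39) (ka xa4 ya36 za40) (ka xa1 ya4 za58) (ka xa1 ya12 za21) (ka xa4 ya5 za36) (ka xa2 ya0 za57) (ka xa1 ya4 za59) (ka xa1 ya4 za56) (ka xa2 ya51 za32) (ka xa1 ya56 za50) (ka xa4 ya37 za0) (ka xa4 ya37 za5) (ka xa4 ya37 za13) (ka xa4 ya37 za17) (ka xa1 ya22 za35) (ka xa4 ya37 za22)) (@D3.rec (fun _ => Pt) (ka xa4 ya35 za11) (ka xa1 ya5 za1) (ka xa1 ya5 za2) (ka xa4 ya37 za46) (ka xa1 ya36 za35) (ka xa1 ya36 za36) (ka xa1 ya36 za33) (ka xa1 ya36 za34) (ka xa1 ya35 za25) (ka xa1 ya35 za24) (ka xa4 ya37 za41) (ka xa4 ya37 za42) (ka xa4 ya37 za43) (ka xa4 ya37 za44) (ka xa4 ya37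 za45) (ka xa1 ya23 za20) (ka xa4 ya36 za37) (ka xa1 ya5 za4) (ka xa4 ya38 za28) (ka xa4 ya38 za29) (ka xa1 ya24 za18) (ka xa1 ya24 za19) (ka xa1 ya24 za20) (ka xa1 ya24 za21) (ka xa1 ya5 za6) (ka xa4 ya38 za43) (ka xa4 ya38 za44) (ka xa1 ya24 za25) (ka xa1 ya24 za26) (ka xa1 ya24 za27) (ka xa1 ya24 za28) (ka xa4 ya39 za0) (ka xa1 ya24 za31) (ka xa1 ya24 za32) (ka xa4 ya39 za9) (ka xa1 ya24 za35) (ka xa1 ya24 za38) (ka xa4 ya35 za58) (ka xa1 ya24 za39) (ka xa1 ya24 za40) (ka xa1 ya24 za41) (ka xa1 ya24 za42) (ka xa2 ya16 za42) (ka xa1 ya24 za44) (ka xa1 ya24 za46) (ka xa1 ya22 za20) (ka xa1 ya24 za47) (ka xa2 ya48 za56) (ka xa2 ya48 za55) (ka xa1 ya5 za20) (ka xa4 ya25 za51) (ka xa3 ya9 za49) (ka xa1 ya12 za37) (ka xa2 ya33 za3) (ka xa4 ya39 za45) (ka xa1 ya5 za23) (ka xa4 ya35 za38) (ka xa4 ya39 za41) (ka xa1 ya25 za57)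 (ka xa1 ya25 za58) (ka xa1 ya25 za59) (ka xa2 ya18 za61)) (@D3.rec (fun _ => Pt) (ka xa2 ya49 za6) (ka xa2 ya17 za50) (ka xa4 ya37 za6) (ka xa4 ya37 za7) (ka xa1 ya26 za11) (ka xa1 ya26 za12) (ka xa1 ya26 za13) (ka xa1 ya6 za39) (ka xa3 ya5 za50) (ka xa3 ya5 za51) (ka xa3 ya5 za52) (ka xa3 ya1 za39) (ka xa3 ya5 za48) (ka xa2 ya21 za37) (ka xa2 ya21 za38) (ka xa1 ya5 za38) (ka xa1 ya5 za39) (ka xa1 ya7 za40) (ka xa1 ya7 za35) (ka xa1 ya7 za36) (ka xa2 ya20 za35) (ka xa2 ya20 za26) (ka xa4 ya40 za36) (ka xa4 ya40 za18) (ka xa4 ya40 za19) (ka xa4 ya40 za20) (ka xa4 ya40 za21) (ka xa4 ya40 za22) (ka xa1 ya5 za40) (ka xa4 ya40 za50) (ka xa1 ya27 za15) (ka xa1 ya27 za16) (ka xa1 ya27 za17) (ka xa1 ya27 za18) (ka xa4 ya40 za47) (ka xa1 ya27 za20) (ka xa1 ya27 za21) (ka xa1 ya27 za22) (ka xa3 ya43 za19) (ka xa1 ya27 za24) (ka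 xa1 ya27 za25) (ka xa1 ya27 za26) (ka xa1 ya27 za60) (ka xa1 ya31 za18) (ka xa1 ya21 za49) (ka xa1 ya31 za15) (ka xa1 ya13 za44) (ka xa1 ya5 za50) (ka xa1 ya21 za29) (ka xa4 ya41 za24) (ka xa2 ya17 za1) (ka xa1 ya28 za44) (ka xa1 ya28 za45) (ka xa1 ya28 za46) (ka xa1 ya28 za47) (ka xa1 ya28 za13) (ka xa2 ya9 za32) (ka xa2 ya9 za33) (ka xa1 ya28 za58) (ka xa1 ya29 za17) (ka xa1 ya6 za5) (ka xa1 ya6 za6)) (@D3.rec (fun _ => Pt) (ka xa1 ya6 za8) (ka xa1 ya6 za9) (ka xa1 ya6 za10) (ka xa1 ya31 za47) (ka xa1 ya31 za44) (ka xa1 ya31 za45) (ka xa1 ya31 za49) (ka xa1 ya31 za48) (ka xa4 ya41 za41) (ka xa4 ya39 za7) (ka xa3 ya13 za4) (ka xa1 ya30 za32) (ka xa3 ya11 za46) (ka xa3 ya24 za16) (ka xa3 ya1 za6) (ka xa1 ya30 za41) (ka xa4 ya41 za42) (ka xa1 ya31 za58) (ka xa4 ya41 za43) (ka xa3 ya10 za58) (ka xa3 ya23 za16) (ka xa1 ya30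 za27) (ka xa4 ya42 za6) (ka xa1 ya30 za31) (ka xa1 ya30 za33) (ka xa1 ya30 za34) (ka xa1 ya30 za35) (ka xa1 ya30 za36) (ka xa1 ya30 za40) (ka xa1 ya30 za37) (ka xa1 ya6 za16) (ka xa4 ya42 za17) (ka xa1 ya30 za45) (ka xa1 ya30 za46) (ka xa4 ya42 za26) (ka xa1 ya30 za51) (ka xa1 ya30 za53) (ka xa1 ya30 za55) (ka xa1 ya6 za20) (ka xa4 ya42 za27) (ka xa1 ya31 za1) (ka xa1 ya31 za2) (ka xa1 ya27 za61) (ka xa1 ya28 za7) (ka xa1 ya28 za6) (ka xa1 ya6 za23) (ka xa4 ya42 za36) (ka xa2 ya49 za40) (ka xa2 ya10 za29) (ka xa4 ya0 za38) (ka xa2 ya51 za36) (ka xa4 ya0 za23) (ka xa2 ya24 za46) (ka xa1 ya28 za36) (ka xa1 ya28 za38) (ka xa2 ya49 za54) (ka xa1 ya28 za32) (ka xa1 ya28 za34) (ka xa1 ya6 za32) (ka xa1 ya28 za35) (ka xa1 ya36 za32) (ka xa2 ya16 za61)) (@D3.rec (fun _ => Pt) (ka xa1 ya31 za21) (ka xa1 ya31 za22) (ka xa1 ya31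 za23) (ka xa1 ya31 za24) (ka xa4 ya40 za9) (ka xa1 ya29 za44) (ka xa1 ya29 za48) (ka xa1 ya6 za46) (ka xa1 ya6 za47) (ka xa1 ya6 za49) (ka xa1 ya33 za49) (ka xa1 ya30 za1) (ka xa1 ya30 za2) (ka xa2 ya20 za23) (ka xa1 ya29 za60) (ka xa1 ya29 za61) (ka xa1 ya30 za4) (ka xa1 ya30 za3) (ka xa4 ya41 za48) (ka xa4 ya43 za3) (ka xa4 ya43 za4) (ka xa4 ya13 za19) (ka xa3 ya24 za14) (ka xa2 ya20 za24) (ka xa1 ya32 za28) (ka xa1 ya30 za16) (ka xa1 ya30 za13) (ka xa1 ya49 za40) (ka xa1 ya32 za1) (ka xa3 ya23 za25) (ka xa1 ya32 za4) (ka xa1 ya32 za5) (ka xa1 ya32 za6) (ka xa1 ya32 za7) (ka xa1 ya32 za8) (ka xa1 ya32 za9) (ka xa4 ya43 za42) (ka xa1 ya33 za5) (ka xa1 ya31 za56) (ka xa1 ya31 za57) (ka xa4 ya35 za45) (ka xa3 ya22 za56) (ka xa1 ya32 za59) (ka xa1 ya32 za60) (ka xa1 ya49 za55) (ka xa1 ya33 za2) (ka xa1 ya32 za31) (ka xa1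 ya32 za27) (ka xa1 ya7 za8) (ka xa1 ya32 za41) (ka xa1 ya32 za40) (ka xa4 ya43 za45) (ka xa2 ya20 za36) (ka xa1 ya29 za59) (ka xa1 ya32 za25) (ka xa1 ya33 za54) (ka xa1 ya33 za55) (ka xa1 ya33 za57) (ka xa1 ya34 za16) (ka xa1 ya33 za50) (ka xa1 ya33 za51) (ka xa1 ya7 za19)) (@D3.rec (fun _ => Pt) (ka xa1 ya7 za20) (ka xa1 ya34 za0) (ka xa1 ya34 za1) (ka xa1 ya34 za10) (ka xa1 ya33 za59) (ka xa1 ya33 za60) (ka xa1 ya34 za3) (ka xa1 ya50 za1) (ka xa4 ya44 za6) (ka xa4 ya40 za29) (ka xa1 ya33 za43) (ka xa1 ya34 za34) (ka xa1 ya33 za45) (ka xa1 ya33 za48) (ka xa1 ya34 za11) (ka xa1 ya33 za61) (ka xa1 ya34 za12) (ka xa1 ya7 za57) (ka xa1 ya7 za61) (ka xa1 ya8 za2) (ka xa1 ya7 za33) (ka xa1 ya39 za25) (ka xa1 ya33 za42) (ka xa2 ya19 za13) (ka xa2 ya19 za23) (ka xa1 ya29 za50) (ka xa2 ya17 za21) (ka xa3 ya45 za17) (ka xa1 ya7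 za38) (ka xa1 ya7 za39) (ka xa4 ya40 za23) (ka xa3 ya12 za15) (ka xa4 ya44 za48) (ka xa4 ya40 za27) (ka xa4 ya40 za28) (ka xa2 ya17 za20) (ka xa2 ya19 za52) (ka xa4 ya44 za58) (ka xa4 ya40 za25) (ka xa3 ya24 za18) (ka xa1 ya7 za47) (ka xa1 ya7 za48) (ka xa1 ya7 za50) (ka xa1 ya7 za51) (ka xa1 ya7 za52) (ka xa1 ya7 za53) (ka xa4 ya45 za18) (ka xa1 ya7 za55) (ka xa1 ya7 za56) (ka xa1 ya7 za59) (ka xa1 ya7 za60) (ka xa1 ya38 za5) (ka xa3 ya24 za19) (ka xa4 ya44 za34) (ka xa3 ya7 za32) (ka xa4 ya45 za40) (ka xa4 ya45 za1) (ka xa4 ya45 za2) (ka xa1 ya36 za6) (ka xa4 ya45 za3) (ka xa4 ya45 za4) (ka xa4 ya45 za5)) (@D3.rec (fun _ => Pt) (ka xa1 ya7 za49) (ka xa3 ya10 za42) (ka xa4 ya46 za1) (ka xa4 ya45 za7) (ka xa4 ya45 za8) (ka xa1 ya36 za25) (ka xa4 ya45 za9) (ka xa4 ya43 za61) (ka xa4 ya46 za17) (ka xa4 ya45 za11) (ka xa4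 ya45 za12) (ka xa4 ya46 za26) (ka xa4 ya45 za14) (ka xa4 ya45 za15) (ka xa1 ya24 za6) (ka xa1 ya24 za5) (ka xa1 ya7 za54) (ka xa4 ya46 za40) (ka xa4 ya46 za41) (ka xa4 ya40 za33) (ka xa4 ya40 za31) (ka xa2 ya21 za23) (ka xa4 ya45 za21) (ka xa2 ya21 za21) (ka xa4 ya45 za22) (ka xa4 ya45 za23) (ka xa4 ya45 za24) (ka xa4 ya45 za25) (ka xa4 ya44 za29) (ka xa1 ya36 za56) (ka xa3 ya21 za46) (ka xa1 ya8 za25) (ka xa4 ya45 za26) (ka xa4 ya45 za27) (ka xa1 ya36 za21) (ka xa1 ya36 za23) (ka xa4 ya44 za30) (ka xa2 ya17 za13) (ka xa2 ya17 za14) (ka xa3 ya7 za4) (ka xa3 ya6 za0) (ka xa3 ya6 za1) (ka xa3 ya6 za2) (ka xa4 ya44 za31) (ka xa1 ya8 za4) (ka xa1 ya8 za5) (ka xa1 ya36 za18) (ka xa1 ya36 za17) (ka xa1 ya51 za16) (ka xa4 ya47 za44) (ka xa4 ya47 za45) (ka xa4 ya45 za55) (ka xa4 ya47 za46) (ka xa4 ya47 za27) (ka xa1 ya35 za4)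 (ka xa1 ya36 za7) (ka xa1 ya36 za9) (ka xa1 ya36 za10) (ka xa1 ya36 za11) (ka xa1 ya36 za12) (ka xa1 ya36 za13) (ka xa1 ya36 za14)) (@D3.rec (fun _ => Pt) (ka xa1 ya8 za11) (ka xa1 ya8 za12) (ka xa1 ya53 za44) (ka xa4 ya48 za13) (ka xa3 ya43 za1) (ka xa4 ya48 za14) (ka xa4 ya48 za15) (ka xa4 ya47 za24) (ka xa1 ya36 za24) (ka xa1 ya35 za15) (ka xa1 ya36 za26) (ka xa1 ya36 za28) (ka xa1 ya36 za29) (ka xa1 ya36 za30) (ka xa1 ya36 za31) (ka xa3 ya0 za35) (ka xa1 ya24 za3) (ka xa1 ya24 za4) (ka xa4 ya48 za50) (ka xa1 ya24 za0) (ka xa1 ya24 za1) (ka xa1 ya8 za20) (ka xa4 ya48 za59) (ka xa4 ya48 za60) (ka xa4 ya48 za61) (ka xa4 ya49 za0) (ka xa4 ya49 za14) (ka xa1 ya36 za43) (ka xa1 ya36 za44) (ka xa4 ya49 za22) (ka xa1 ya36 za46) (ka xa1 ya36 za47) (ka xa1 ya36 za48) (ka xa1 ya36 za49) (ka xa1 ya36 za50) (ka xa1 ya36 za51) (ka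 xa1 ya37 za4) (ka xa4 ya47 za19) (ka xa1 ya36 za57) (ka xa4 ya49 za49) (ka xa1 ya36 za59) (ka xa1 ya37 za1) (ka xa1 ya36 za52) (ka xa1 ya8 za28) (ka xa4 ya49 za58) (ka xa4 ya49 za59) (ka xa4 ya49 za61) (ka xa1 ya37 za10) (ka xa1 ya37 za11) (ka xa1 ya37 za15) (ka xa1 ya37 za17) (ka xa1 ya37 za18) (ka xa3 ya24 za24) (ka xa1 ya37 za19) (ka xa1 ya37 za20) (ka xa1 ya37 za21) (ka xa1 ya37 za22) (ka xa1 ya37 za26) (ka xa1 ya37 za27) (ka xa3 ya43 za8) (ka xa1 ya37 za29) (ka xa1 ya37 za30)) (@D3.rec (fun _ => Pt) (ka xa4 ya50 za29) (ka xa2 ya0 za21) (ka xa2 ya0 za29) (ka xa2 ya35 za24) (ka xa3 ya58 za3) (ka xa2 ya31 za50) (ka xa2 ya0 za45) (ka xa2 ya0 za46) (ka xa1 ya18 za20) (ka xa2 ya4 za34) (ka xa2 ya4 za35) (ka xa1 ya55 za55) (ka xa1 ya8 za49) (ka xa1 ya8 za50) (ka xa1 ya8 za53) (ka xa1 ya8 za54) (ka xa1 ya8 za55) (ka xa1 ya8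 za56) (ka xa1 ya8 za57) (ka xa1 ya8 za58) (ka xa4 ya13 za58) (ka xa4 ya13 za59) (ka xa2 ya1 za36) (ka xa2 ya1 za37) (ka xa2 ya3 za30) (ka xa4 ya50 za49) (ka xa4 ya50 za50) (ka xa1 ya11 za29) (ka xa4 ya19 za4) (ka xa1 ya8 za51) (ka xa4 ya51 za19) (ka xa4 ya19 za49) (ka xa2 ya8 za10) (ka xa2 ya8 za11) (ka xa4 ya50 za51) (ka xa4 ya50 za52) (ka xa2 ya46 za27) (ka xa4 ya16 za22) (ka xa4 ya50 za54) (ka xa4 ya50 za55) (ka xa4 ya51 za39) (ka xa4 ya50 za56) (ka xa4 ya50 za57) (ka xa4 ya9 za15) (ka xa4 ya21 za23) (ka xa4 ya51 za57) (ka xa4 ya50 za59) (ka xa4 ya50 za60) (ka xa4 ya50 za61) (ka xa1 ya8 za59) (ka xa4 ya52 za6) (ka xa4 ya52 za7) (ka xa2 ya24 za30) (ka xa2 ya24 za31) (ka xa2 ya24 za32) (ka xa1 ya8 za61) (ka xa4 ya52 za19) (ka xa4 ya52 za20) (ka xa2 ya24 za36) (ka xa2 ya24 za37) (ka xa1 ya30 za18) (ka xa4 ya52 za30)) (@D3.rec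 (fun _ => Pt) (ka xa4 ya52 za35) (ka xa1 ya9 za1) (ka xa4 ya52 za37) (ka xa4 ya52 za29) (ka xa2 ya24 za5) (ka xa2 ya24 za4) (ka xa2 ya24 za41) (ka xa1 ya58 za42) (ka xa1 ya58 za43) (ka xa1 ya58 za44) (ka xa1 ya58 za46) (ka xa4 ya17 za29) (ka xa2 ya11 za12) (ka xa1 ya9 za10) (ka xa2 ya26 za22) (ka xa2 ya51 za6) (ka xa1 ya9 za13) (ka xa4 ya9 za41) (ka xa4 ya0 za15) (ka xa4 ya52 za59) (ka xa4 ya0 za17) (ka xa2 ya8 za24) (ka xa2 ya8 za27) (ka xa4 ya53 za11) (ka xa4 ya0 za19) (ka xa4 ya0 za20) (ka xa4 ya0 za21) (ka xa1 ya9 za22) (ka xa4 ya21 za13) (ka xa4 ya53 za19) (ka xa2 ya23 za52) (ka xa2 ya23 za53) (ka xa2 ya23 za54) (ka xa1 ya9 za24) (ka xa4 ya53 za29) (ka xa4 ya53 za30) (ka xa2 ya23 za58) (ka xa2 ya23 za59) (ka xa4 ya52 za39) (ka xa4 ya52 za38) (ka xa1 ya9 za26) (ka xa2 ya24 za6) (ka xa1 ya16 za11) (ka xa1 ya9 za28)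 (ka xa3 ya59 za58) (ka xa1 ya57 za44) (ka xa2 ya18 za52) (ka xa4 ya53 za49) (ka xa4 ya53 za50) (ka xa4 ya53 za52) (ka xa4 ya53 za55) (ka xa1 ya59 za45) (ka xa1 ya11 za24) (ka xa4 ya13 za42) (ka xa4 ya13 za43) (ka xa1 ya57 za47) (ka xa2 ya25 za1) (ka xa2 ya25 za2) (ka xa1 ya11 za32) (ka xa1 ya11 za44) (ka xa2 ya25 za6) (ka xa2 ya25 za7)) (@D3.rec (fun _ => Pt) (ka xa1 ya12 za51) (ka xa2 ya24 za56) (ka xa2 ya24 za57) (ka xa1 ya13 za4) (ka xa1 ya13 za5) (ka xa1 ya13 za12) (ka xa2 ya24 za60) (ka xa2 ya24 za61) (ka xa1 ya9 za55) (ka xa1 ya9 za56) (ka xa1 ya9 za59) (ka xa1 ya9 za61) (ka xa1 ya10 za0) (ka xa1 ya10 za1) (ka xa1 ya10 za2) (ka xa4 ya21 za4) (ka xa4 ya21 za5) (ka xa1 ya19 za3) (ka xa3 ya58 za12) (ka xa3 ya58 za13) (ka xa1 ya18 za22) (ka xa4 ya54 za30) (ka xa4 ya54 za31) (ka xa2 ya0 za38) (ka xa4 ya13 za23) (ka xa2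 ya4 za25) (ka xa2 ya4 za26) (ka xa2 ya4 za27) (ka xa4 ya9 za0) (ka xa4 ya9 za1) (ka xa4 ya54 za32) (ka xa4 ya54 za33) (ka xa4 ya28 za23) (ka xa4 ya54 za34) (ka xa4 ya54 za35) (ka xa2 ya4 za29) (ka xa4 ya54 za36) (ka xa4 ya54 za37) (ka xa2 ya38 za33) (ka xa4 ya54 za38) (ka xa4 ya55 za42) (ka xa4 ya54 za40) (ka xa4 ya54 za41) (ka xa4 ya54 za42) (ka xa2 ya4 za42) (ka xa3 ya58 za38) (ka xa3 ya58 za39) (ka xa2 ya28 za48) (ka xa3 ya58 za40) (ka xa1 ya10 za5) (ka xa4 ya56 za0) (ka xa4 ya56 za1) (ka xa3 ya58 za41) (ka xa3 ya58 za42) (ka xa3 ya58 za43) (ka xa4 ya56 za11) (ka xa4 ya56 za16) (ka xa1 ya10 za7) (ka xa4 ya56 za21) (ka xa4 ya56 za10) (ka xa3 ya58 za48) (ka xa2 ya41 za59)) (@D3.rec (fun _ => Pt) (ka xa3 ya58 za49) (ka xa3 ya58 za50) (ka xa1 ya59 za27) (ka xa2 ya8 za41) (ka xa4 ya56 za35) (ka xa3 ya59 za60) (ka xa2 ya52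 za17) (ka xa1 ya59 za15) (ka xa3 ya58 za54) (ka xa3 ya58 za53) (ka xa1 ya10 za18) (ka xa4 ya56 za42) (ka xa2 ya52 za58) (ka xa2 ya3 za33) (ka xa2 ya8 za48) (ka xa2 ya8 za49) (ka xa2 ya8 za40) (ka xa4 ya56 za53) (ka xa2 ya8 za51) (ka xa2 ya49 za10) (ka xa1 ya10 za25) (ka xa3 ya1 za1) (ka xa2 ya24 za14) (ka xa3 ya3 za54) (ka xa2 ya8 za59) (ka xa2 ya8 za60) (ka xa2 ya9 za0) (ka xa1 ya10 za37) (ka xa1 ya10 za33) (ka xa4 ya23 za19) (ka xa3 ya58 za58) (ka xa4 ya57 za3) (ka xa1 ya10 za34) (ka xa4 ya57 za16) (ka xa4 ya57 za9) (ka xa4 ya57 za13) (ka xa4 ya57 za14) (ka xa1 ya10 za36) (ka xa4 ya57 za26) (ka xa4 ya57 za27) (ka xa4 ya57 za28) (ka xa4 ya57 za29) (ka xa4 ya57 za1) (ka xa4 ya57 za2) (ka xa4 ya57 za48) (ka xa3 ya59 za12) (ka xa3 ya59 za13) (ka xa3 ya59 za14) (ka xa3 ya59 za15) (ka xa3 ya59 za16) (ka xa3 ya3 za33) (ka xa2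 ya9 za54) (ka xa2 ya9 za55) (ka xa2 ya9 za56) (ka xa2 ya9 za57) (ka xa2 ya9 za58) (ka xa2 ya9 za59) (ka xa2 ya8 za45) (ka xa1 ya11 za0) (ka xa1 ya11 za1) (ka xa4 ya25 za47) (ka xa1 ya10 za50)) (@D3.rec (fun _ => Pt) (ka xa1 ya10 za51) (ka xa1 ya21 za56) (ka xa4 ya25 za48) (ka xa4 ya25 za49) (ka xa1 ya22 za14) (ka xa3 ya3 za25) (ka xa3 ya59 za17) (ka xa3 ya59 za18) (ka xa1 ya10 za54) (ka xa1 ya22 za1) (ka xa4 ya58 za18) (ka xa4 ya58 za19) (ka xa1 ya10 za55) (ka xa1 ya12 za27) (ka xa4 ya58 za20) (ka xa2 ya33 za58) (ka xa1 ya10 za56) (ka xa1 ya22 za13) (ka xa1 ya10 za53) (ka xa4 ya0 za44) (ka xa4 ya58 za53) (ka xa3 ya3 za29) (ka xa4 ya58 za32) (ka xa4 ya57 za43) (ka xa4 ya58 za42) (ka xa4 ya58 za46) (ka xa1 ya22 za27) (ka xa4 ya58 za51) (ka xa4 ya35 za4) (ka xa1 ya10 za58) (ka xa1 ya10 za59) (ka xa1 ya10 za60) (ka xa1 ya10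 za61) (ka xa4 ya38 za0) (ka xa4 ya59 za11) (ka xa4 ya59 za12) (ka xa4 ya59 za30) (ka xa4 ya59 za13) (ka xa4 ya59 za14) (ka xa2 ya56 za9) (ka xa4 ya59 za15) (ka xa4 ya46 za44) (ka xa4 ya59 za17) (ka xa4 ya58 za13) (ka xa4 ya59 za18) (ka xa4 ya59 za19) (ka xa4 ya59 za20) (ka xa4 ya58 za14) (ka xa4 ya57 za44) (ka xa4 ya58 za15) (ka xa5 ya0 za9) (ka xa3 ya59 za54) (ka xa3 ya59 za55) (ka xa5 ya0 za18) (ka xa3 ya59 za57) (ka xa1 ya38 za21) (ka xa2 ya58 za13) (ka xa2 ya58 za14) (ka xa3 ya3 za32) (ka xa3 ya3 za41) (ka xa2 ya30 za13) (ka xa2 ya10 za41)) (@D3.rec (fun _ => Pt) (ka xa2 ya10 za42) (ka xa2 ya10 za43) (ka xa3 ya0 za54) (ka xa4 ya7 za29) (ka xa2 ya28 za6) (ka xa4 ya4 za61) (ka xa2 ya28 za4) (ka xa1 ya11 za22) (ka xa1 ya11 za26) (ka xa1 ya11 za28) (ka xa1 ya11 za30) (ka xa1 ya11 za31) (ka xa1 ya14 za44) (ka xa4 ya7 za30)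 (ka xa4 ya7 za31) (ka xa2 ya34 za27) (ka xa2 ya34 za28) (ka xa2 ya31 za58) (ka xa5 ya0 za45) (ka xa5 ya0 za46) (ka xa4 ya51 za47) (ka xa4 ya53 za57) (ka xa4 ya12 za32) (ka xa4 ya2 za33) (ka xa2 ya43 za55) (ka xa5 ya0 za47) (ka xa5 ya0 za48) (ka xa2 ya43 za56) (ka xa4 ya7 za33) (ka xa5 ya0 za49) (ka xa5 ya0 za50) (ka xa4 ya53 za59) (ka xa4 ya51 za18) (ka xa4 ya51 za16) (ka xa5 ya0 za51) (ka xa5 ya0 za52) (ka xa5 ya1 za55) (ka xa5 ya0 za54) (ka xa5 ya0 za55) (ka xa5 ya0 za56) (ka xa2 ya32 za7) (ka xa2 ya32 za6) (ka xa4 ya54 za5) (ka xa4 ya54 za6) (ka xa2 ya31 za29) (ka xa2 ya31 za59) (ka xa2 ya31 za60) (ka xa2 ya31 za61) (ka xa2 ya25 za47) (ka xa2 ya30 za0) (ka xa2 ya30 za3) (ka xa5 ya2 za35) (ka xa2 ya32 za1) (ka xa2 ya32 za2) (ka xa2 ya32 za3) (ka xa2 ya32 za4) (ka xa2 ya32 za5) (ka xa2 ya31 za51) (ka xa1 ya11 za39) (ka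 xa1 ya11 za40) (ka xa2 ya31 za55) (ka xa2 ya31 za54)) (@D3.rec (fun _ => Pt) (ka xa5 ya2 za48) (ka xa5 ya2 za49) (ka xa2 ya44 za25) (ka xa1 ya55 za57) (ka xa4 ya5 za11) (ka xa5 ya3 za6) (ka xa2 ya32 za12) (ka xa2 ya32 za13) (ka xa2 ya32 za14) (ka xa2 ya32 za15) (ka xa2 ya32 za16) (ka xa2 ya32 za17) (ka xa4 ya54 za7) (ka xa4 ya54 za8) (ka xa5 ya3 za26) (ka xa2 ya32 za22) (ka xa2 ya32 za23) (ka xa2 ya32 za24) (ka xa2 ya32 za25) (ka xa2 ya32 za26) (ka xa1 ya11 za47) (ka xa5 ya3 za42) (ka xa5 ya3 za43) (ka xa5 ya3 za53) (ka xa2 ya32 za30) (ka xa2 ya32 za31) (ka xa2 ya32 za32) (ka xa2 ya32 za33) (ka xa2 ya32 za34) (ka xa5 ya4 za3) (ka xa2 ya32 za36) (ka xa2 ya32 za37) (ka xa5 ya4 za14) (ka xa2 ya32 za39) (ka xa2 ya32 za40) (ka xa5 ya4 za22) (ka xa5 ya4 za27) (ka xa1 ya11 za52) (ka xa5 ya4 za32) (ka xa5 ya4 za21) (ka xa2 ya32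 za46) (ka xa2 ya32 za47) (ka xa2 ya32 za48) (ka xa2 ya32 za49) (ka xa2 ya32 za50) (ka xa2 ya37 za19) (ka xa2 ya33 za12) (ka xa2 ya33 za11) (ka xa4 ya20 za2) (ka xa4 ya20 za3) (ka xa2 ya33 za17) (ka xa1 ya59 za16) (ka xa2 ya33 za16) (ka xa2 ya33 za20) (ka xa2 ya33 za19) (ka xa5 ya5 za13) (ka xa4 ya20 za5) (ka xa2 ya33 za25) (ka xa2 ya33 za24) (ka xa4 ya27 za12) (ka xa4 ya27 za13) (ka xa2 ya35 za31)) (@D3.rec (fun _ => Pt) (ka xa2 ya28 za49) (ka xa2 ya32 za56) (ka xa5 ya5 za37) (ka xa2 ya28 za50) (ka xa5 ya5 za42) (ka xa2 ya32 za59) (ka xa2 ya32 za60) (ka xa2 ya32 za61) (ka xa2 ya33 za0) (ka xa2 ya30 za55) (ka xa1 ya25 za40) (ka xa2 ya30 za54) (ka xa2 ya30 za44) (ka xa2 ya27 za60) (ka xa4 ya39 za42) (ka xa2 ya30 za43) (ka xa1 ya25 za47) (ka xa1 ya12 za9) (ka xa4 ya37 za19) (ka xa2 ya33 za8) (ka xa2 ya32 za52) (ka xa2 ya32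 za51) (ka xa2 ya36 za34) (ka xa2 ya36 za35) (ka xa2 ya36 za37) (ka xa5 ya6 za19) (ka xa2 ya33 za30) (ka xa2 ya33 za31) (ka xa2 ya33 za32) (ka xa2 ya33 za33) (ka xa2 ya33 za34) (ka xa2 ya33 za5) (ka xa2 ya33 za4) (ka xa1 ya12 za16) (ka xa5 ya6 za32) (ka xa2 ya33 za37) (ka xa2 ya55 za11) (ka xa2 ya33 za38) (ka xa4 ya25 za55) (ka xa4 ya20 za6) (ka xa3 ya10 za28) (ka xa4 ya37 za18) (ka xa4 ya33 za4) (ka xa2 ya30 za15) (ka xa2 ya30 za12) (ka xa2 ya33 za41) (ka xa1 ya23 za46) (ka xa1 ya12 za24) (ka xa5 ya6 za58) (ka xa2 ya55 za23) (ka xa2 ya33 za49) (ka xa2 ya33 za50) (ka xa4 ya58 za47) (ka xa4 ya57 za24) (ka xa2 ya30 za11) (ka xa2 ya30 za9) (ka xa2 ya33 za57) (ka xa2 ya33 za51) (ka xa1 ya12 za30) (ka xa5 ya7 za15) (ka xa5 ya7 za16) (ka xa5 ya7 za17)) (@D3.rec (fun _ => Pt) (ka xa2 ya34 za0) (ka xa2 ya34 za1) (ka xa1 ya12 za33)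 (ka xa5 ya7 za31) (ka xa2 ya53 za45) (ka xa5 ya7 za30) (ka xa4 ya32 za1) (ka xa1 ya12 za34) (ka xa4 ya58 za25) (ka xa5 ya7 za39) (ka xa5 ya7 za42) (ka xa1 ya12 za36) (ka xa5 ya7 za49) (ka xa2 ya50 za4) (ka xa5 ya7 za50) (ka xa5 ya7 za51) (ka xa4 ya7 za21) (ka xa4 ya58 za48) (ka xa2 ya34 za7) (ka xa5 ya8 za11) (ka xa2 ya34 za9) (ka xa5 ya8 za19) (ka xa2 ya34 za11) (ka xa2 ya34 za12) (ka xa2 ya34 za13) (ka xa2 ya34 za14) (ka xa2 ya34 za15) (ka xa4 ya13 za37) (ka xa4 ya13 za38) (ka xa2 ya28 za44) (ka xa4 ya1 za40) (ka xa4 ya1 za41) (ka xa4 ya1 za42) (ka xa4 ya54 za15) (ka xa4 ya54 za16) (ka xa4 ya1 za43) (ka xa4 ya1 za44) (ka xa4 ya1 za45) (ka xa4 ya13 za39) (ka xa4 ya1 za47) (ka xa4 ya1 za48) (ka xa4 ya54 za17) (ka xa4 ya1 za50) (ka xa4 ya1 za51) (ka xa4 ya1 za52) (ka xa4 ya1 za53) (ka xa5 ya9 za17) (ka xa4 ya1 za55) (ka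 xa4 ya1 za56) (ka xa4 ya1 za57) (ka xa2 ya23 za5) (ka xa2 ya28 za57) (ka xa1 ya12 za61) (ka xa1 ya15 za42) (ka xa2 ya28 za61) (ka xa2 ya28 za60) (ka xa5 ya9 za29) (ka xa5 ya9 za30) (ka xa2 ya28 za17) (ka xa2 ya28 za45) (ka xa2 ya28 za46) (ka xa2 ya28 za47)) (@D3.rec (fun _ => Pt) (ka xa5 ya9 za56) (ka xa2 ya28 za52) (ka xa2 ya28 za53) (ka xa2 ya28 za54) (ka xa2 ya28 za55) (ka xa2 ya28 za56) (ka xa2 ya28 za41) (ka xa2 ya28 za40) (ka xa4 ya54 za20) (ka xa4 ya54 za21) (ka xa4 ya6 za22) (ka xa5 ya10 za18) (ka xa2 ya29 za6) (ka xa2 ya29 za7) (ka xa2 ya29 za8) (ka xa2 ya29 za9) (ka xa2 ya29 za10) (ka xa2 ya29 za11) (ka xa1 ya13 za9) (ka xa5 ya10 za28) (ka xa5 ya10 za29) (ka xa5 ya10 za39) (ka xa2 ya29 za15) (ka xa2 ya29 za16) (ka xa2 ya29 za17) (ka xa2 ya29 za18) (ka xa2 ya29 za19) (ka xa4 ya54 za22) (ka xa4 ya54 za23) (ka xa5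 ya10 za61) (ka xa2 ya29 za24) (ka xa2 ya29 za25) (ka xa2 ya29 za26) (ka xa2 ya29 za27) (ka xa2 ya29 za28) (ka xa5 ya11 za12) (ka xa2 ya29 za30) (ka xa2 ya29 za31) (ka xa5 ya11 za21) (ka xa2 ya29 za33) (ka xa2 ya29 za34) (ka xa5 ya11 za29) (ka xa5 ya11 za34) (ka xa1 ya13 za17) (ka xa5 ya11 za39) (ka xa5 ya11 za28) (ka xa2 ya29 za40) (ka xa2 ya29 za41) (ka xa2 ya29 za42) (ka xa2 ya29 za43) (ka xa2 ya29 za44) (ka xa2 ya30 za21) (ka xa2 ya30 za20) (ka xa2 ya36 za19) (ka xa2 ya36 za20) (ka xa2 ya34 za32) (ka xa2 ya30 za1) (ka xa5 ya12 za14) (ka xa5 ya12 za18) (ka xa2 ya30 za5) (ka xa2 ya30 za6) (ka xa2 ya30 za7)) (@D3.rec (fun _ => Pt) (ka xa2 ya30 za8) (ka xa1 ya18 za59) (ka xa5 ya12 za26) (ka xa2 ya16 za53) (ka xa2 ya30 za32) (ka xa2 ya30 za31) (ka xa1 ya13 za30) (ka xa2 ya55 za39) (ka xa2 ya30 za19) (ka xa4 ya7 za47) (ka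 xa4 ya7 za48) (ka xa2 ya29 za47) (ka xa2 ya29 za46) (ka xa4 ya20 za30) (ka xa4 ya20 za31) (ka xa4 ya1 za58) (ka xa2 ya29 za52) (ka xa2 ya29 za50) (ka xa2 ya10 za40) (ka xa2 ya29 za54) (ka xa2 ya29 za53) (ka xa4 ya41 za22) (ka xa4 ya20 za32) (ka xa4 ya2 za2) (ka xa2 ya29 za58) (ka xa2 ya29 za57) (ka xa4 ya27 za22) (ka xa4 ya27 za23) (ka xa2 ya37 za21) (ka xa5 ya13 za18) (ka xa2 ya30 za26) (ka xa2 ya30 za27) (ka xa2 ya30 za28) (ka xa2 ya30 za29) (ka xa2 ya30 za30) (ka xa2 ya0 za8) (ka xa4 ya41 za23) (ka xa2 ya30 za35) (ka xa2 ya30 za37) (ka xa2 ya55 za38) (ka xa2 ya47 za58) (ka xa2 ya30 za45) (ka xa2 ya10 za1) (ka xa5 ya13 za39) (ka xa4 ya12 za9) (ka xa4 ya1 za16) (ka xa1 ya13 za52) (ka xa5 ya13 za45) (ka xa2 ya14 za58) (ka xa2 ya30 za50) (ka xa2 ya30 za51) (ka xa2 ya30 za57) (ka xa1 ya56 za25) (ka xa1 ya13 za55) (ka xa5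 ya13 za58) (ka xa5 ya13 za59) (ka xa5 ya13 za60) (ka xa2 ya30 za56) (ka xa2 ya27 za15) (ka xa1 ya13 za58) (ka xa5 ya14 za12) (ka xa5 ya14 za13)) (@D3.rec (fun _ => Pt) (ka xa2 ya31 za0) (ka xa2 ya31 za1) (ka xa5 ya14 za23) (ka xa2 ya45 za19) (ka xa2 ya59 za33) (ka xa2 ya59 za44) (ka xa5 ya14 za31) (ka xa2 ya31 za18) (ka xa5 ya14 za37) (ka xa2 ya31 za20) (ka xa5 ya14 za45) (ka xa2 ya31 za22) (ka xa2 ya31 za23) (ka xa2 ya31 za24) (ka xa2 ya31 za25) (ka xa2 ya31 za26) (ka xa2 ya34 za19) (ka xa2 ya34 za20) (ka xa2 ya37 za13) (ka xa2 ya34 za16) (ka xa2 ya34 za17) (ka xa1 ya14 za16) (ka xa1 ya14 za17) (ka xa1 ya14 za21) (ka xa1 ya14 za23) (ka xa1 ya14 za25) (ka xa1 ya14 za26) (ka xa2 ya28 za15) (ka xa2 ya28 za16) (ka xa2 ya4 za20) (ka xa5 ya15 za0) (ka xa4 ya9 za35) (ka xa2 ya32 za55) (ka xa5 ya15 za1) (ka xa4 ya9 za38) (ka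 xa4 ya27 za8) (ka xa4 ya10 za8) (ka xa2 ya0 za34) (ka xa4 ya5 za14) (ka xa2 ya40 za24) (ka xa5 ya15 za2) (ka xa5 ya15 za3) (ka xa2 ya40 za25) (ka xa2 ya36 za30) (ka xa5 ya15 za4) (ka xa5 ya15 za5) (ka xa4 ya21 za9) (ka xa4 ya8 za51) (ka xa4 ya8 za49) (ka xa5 ya8 za56) (ka xa5 ya15 za6) (ka xa5 ya16 za6) (ka xa5 ya15 za8) (ka xa5 ya15 za9) (ka xa5 ya15 za10) (ka xa4 ya27 za14) (ka xa4 ya27 za15) (ka xa2 ya35 za52) (ka xa2 ya35 za53) (ka xa2 ya35 za54) (ka xa2 ya36 za39) (ka xa2 ya36 za40)) (@D3.rec (fun _ => Pt) (ka xa2 ya35 za57) (ka xa2 ya35 za58) (ka xa2 ya35 za59) (ka xa5 ya16 za35) (ka xa5 ya16 za40) (ka xa1 ya14 za31) (ka xa5 ya16 za45) (ka xa5 ya16 za34) (ka xa2 ya36 za3) (ka xa2 ya36 za4) (ka xa2 ya36 za5) (ka xa1 ya57 za17) (ka xa1 ya58 za27) (ka xa1 ya14 za46) (ka xa1 ya14 za47) (ka xa1 ya14 za48) (ka xa1 ya14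 za51) (ka xa1 ya14 za53) (ka xa1 ya14 za55) (ka xa1 ya14 za56) (ka xa2 ya35 za21) (ka xa2 ya35 za20) (ka xa5 ya0 za57) (ka xa2 ya41 za8) (ka xa2 ya23 za3) (ka xa4 ya6 za26) (ka xa4 ya6 za27) (ka xa5 ya16 za60) (ka xa4 ya6 za35) (ka xa5 ya16 za61) (ka xa5 ya17 za0) (ka xa2 ya29 za61) (ka xa5 ya17 za1) (ka xa4 ya16 za19) (ka xa2 ya36 za8) (ka xa2 ya36 za9) (ka xa5 ya17 za2) (ka xa5 ya17 za3) (ka xa2 ya39 za18) (ka xa5 ya17 za4) (ka xa5 ya17 za5) (ka xa2 ya36 za11) (ka xa4 ya15 za50) (ka xa4 ya15 za48) (ka xa5 ya1 za31) (ka xa5 ya17 za6) (ka xa5 ya18 za9) (ka xa5 ya17 za8) (ka xa5 ya17 za9) (ka xa5 ya17 za10) (ka xa2 ya36 za21) (ka xa2 ya36 za23) (ka xa2 ya34 za57) (ka xa2 ya34 za58) (ka xa2 ya34 za59) (ka xa4 ya27 za24) (ka xa4 ya27 za25) (ka xa2 ya35 za0) (ka xa2 ya35 za1) (ka xa2 ya35 za2) (ka xa5 ya18 za39) (ka xa5 ya18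 za44)) (@D3.rec (fun _ => Pt) (ka xa1 ya14 za61) (ka xa5 ya18 za49) (ka xa5 ya18 za38) (ka xa2 ya35 za8) (ka xa2 ya35 za9) (ka xa2 ya35 za10) (ka xa2 ya36 za14) (ka xa2 ya36 za15) (ka xa2 ya35 za34) (ka xa2 ya35 za35) (ka xa2 ya36 za16) (ka xa2 ya35 za41) (ka xa2 ya36 za17) (ka xa2 ya36 za18) (ka xa2 ya36 za6) (ka xa2 ya36 za7) (ka xa2 ya36 za10) (ka xa2 ya36 za12) (ka xa2 ya36 za13) (ka xa2 ya32 za53) (ka xa2 ya32 za54) (ka xa2 ya35 za50) (ka xa2 ya5 za47) (ka xa2 ya35 za51) (ka xa2 ya36 za41) (ka xa2 ya36 za42) (ka xa5 ya19 za36) (ka xa2 ya36 za44) (ka xa2 ya36 za45) (ka xa2 ya36 za46) (ka xa2 ya34 za43) (ka xa4 ya2 za34) (ka xa4 ya2 za35) (ka xa4 ya2 za36) (ka xa2 ya30 za22) (ka xa2 ya30 za23) (ka xa1 ya16 za1) (ka xa2 ya30 za24) (ka xa1 ya15 za61) (ka xa2 ya34 za60) (ka xa2 ya34 za61) (ka xa2 ya36 za24) (ka xa2 ya36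 za25) (ka xa5 ya20 za8) (ka xa2 ya36 za27) (ka xa2 ya36 za28) (ka xa2 ya36 za29) (ka xa1 ya15 za44) (ka xa1 ya15 za46) (ka xa1 ya15 za48) (ka xa1 ya15 za49) (ka xa2 ya37 za47) (ka xa2 ya37 za48) (ka xa1 ya15 za58) (ka xa1 ya15 za59) (ka xa1 ya15 za60) (ka xa1 ya16 za6) (ka xa1 ya16 za7) (ka xa1 ya16 za8) (ka xa1 ya16 za9) (ka xa4 ya20 za55) (ka xa1 ya16 za13)) (@D3.rec (fun _ => Pt) (ka xa1 ya16 za14) (ka xa1 ya16 za15) (ka xa4 ya0 za59) (ka xa1 ya16 za17) (ka xa1 ya16 za19) (ka xa1 ya16 za20) (ka xa1 ya16 za21) (ka xa5 ya21 za2) (ka xa1 ya16 za23) (ka xa1 ya16 za24) (ka xa1 ya16 za25) (ka xa2 ya37 za12) (ka xa2 ya37 za11) (ka xa2 ya34 za18) (ka xa4 ya27 za7) (ka xa4 ya3 za43) (ka xa4 ya27 za9) (ka xa4 ya27 za10) (ka xa4 ya27 za11) (ka xa2 ya29 za45) (ka xa2 ya4 za49) (ka xa2 ya33 za28) (ka xa5 ya9 za31) (ka xa5 ya9 za32)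 (ka xa4 ya28 za20) (ka xa5 ya20 za15) (ka xa5 ya20 za16) (ka xa4 ya7 za49) (ka xa5 ya20 za17) (ka xa5 ya20 za18) (ka xa4 ya27 za59) (ka xa4 ya27 za57) (ka xa5 ya20 za19) (ka xa5 ya20 za20) (ka xa5 ya22 za6) (ka xa5 ya20 za22) (ka xa5 ya20 za23) (ka xa5 ya20 za24) (ka xa2 ya37 za46) (ka xa2 ya37 za49) (ka xa2 ya37 za50) (ka xa2 ya37 za51) (ka xa2 ya37 za52) (ka xa2 ya37 za53) (ka xa2 ya37 za54) (ka xa2 ya37 za55) (ka xa2 ya37 za38) (ka xa2 ya36 za51) (ka xa2 ya36 za52) (ka xa2 ya37 za39) (ka xa2 ya37 za40) (ka xa2 ya37 za41) (ka xa2 ya37 za42) (ka xa2 ya37 za43) (ka xa2 ya37 za44) (ka xa2 ya37 za45) (ka xa4 ya10 za52) (ka xa4 ya10 za50) (ka xa5 ya20 za27) (ka xa5 ya19 za26) (ka xa5 ya20 za28) (ka xa5 ya20 za29)) (@D3.rec (fun _ => Pt) (ka xa5 ya23 za1) (ka xa5 ya20 za31) (ka xa5 ya20 za32) (ka xa4 ya28 za61) (ka xa5 ya20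 za33) (ka xa2 ya58 za44) (ka xa5 ya20 za34) (ka xa5 ya19 za55) (ka xa2 ya58 za43) (ka xa2 ya43 za32) (ka xa1 ya16 za4) (ka xa1 ya16 za5) (ka xa4 ya29 za4) (ka xa4 ya21 za21) (ka xa5 ya23 za24) (ka xa5 ya23 za25) (ka xa4 ya9 za16) (ka xa4 ya51 za4) (ka xa5 ya15 za14) (ka xa5 ya20 za35) (ka xa5 ya20 za36) (ka xa4 ya19 za17) (ka xa4 ya21 za38) (ka xa4 ya53 za47) (ka xa5 ya23 za42) (ka xa5 ya20 za38) (ka xa5 ya20 za39) (ka xa5 ya20 za40) (ka xa4 ya11 za10) (ka xa4 ya16 za47) (ka xa5 ya20 za41) (ka xa4 ya16 za46) (ka xa1 ya16 za12) (ka xa2 ya25 za38) (ka xa2 ya38 za42) (ka xa5 ya23 za61) (ka xa5 ya20 za43) (ka xa4 ya13 za25) (ka xa5 ya24 za12) (ka xa5 ya20 za45) (ka xa5 ya20 za46) (ka xa2 ya2 za41) (ka xa2 ya38 za34) (ka xa2 ya5 za46) (ka xa4 ya29 za43) (ka xa5 ya20 za47) (ka xa5 ya12 za0) (ka xa5 ya20 za48) (ka xa1 ya16 za16)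 (ka xa5 ya0 za38) (ka xa5 ya24 za29) (ka xa5 ya24 za38) (ka xa5 ya20 za51) (ka xa5 ya20 za52) (ka xa2 ya58 za30) (ka xa5 ya20 za53) (ka xa4 ya30 za2) (ka xa2 ya58 za32) (ka xa5 ya20 za54) (ka xa5 ya24 za53) (ka xa3 ya58 za24) (ka xa5 ya20 za56)) (@D3.rec (fun _ => Pt) (ka xa5 ya20 za57) (ka xa5 ya25 za3) (ka xa5 ya20 za59) (ka xa5 ya20 za60) (ka xa5 ya20 za61) (ka xa5 ya25 za12) (ka xa5 ya25 za17) (ka xa1 ya16 za22) (ka xa5 ya25 za22) (ka xa5 ya25 za11) (ka xa5 ya21 za5) (ka xa5 ya21 za6) (ka xa4 ya55 za49) (ka xa5 ya21 za7) (ka xa4 ya55 za47) (ka xa5 ya21 za8) (ka xa5 ya21 za9) (ka xa5 ya21 za10) (ka xa2 ya35 za38) (ka xa2 ya58 za61) (ka xa4 ya14 za55) (ka xa4 ya14 za56) (ka xa2 ya40 za54) (ka xa2 ya58 za53) (ka xa5 ya26 za2) (ka xa2 ya58 za55) (ka xa2 ya52 za42) (ka xa2 ya58 za56) (ka xa2 ya58 za57) (ka xa2 ya58 za58)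 (ka xa2 ya40 za28) (ka xa4 ya7 za58) (ka xa4 ya7 za59) (ka xa5 ya26 za16) (ka xa2 ya59 za3) (ka xa2 ya59 za4) (ka xa2 ya59 za5) (ka xa2 ya59 za6) (ka xa4 ya14 za57) (ka xa4 ya14 za58) (ka xa5 ya26 za32) (ka xa2 ya59 za10) (ka xa2 ya59 za11) (ka xa2 ya59 za12) (ka xa2 ya59 za13) (ka xa2 ya59 za14) (ka xa4 ya8 za0) (ka xa4 ya8 za1) (ka xa5 ya26 za51) (ka xa2 ya59 za18) (ka xa2 ya59 za19) (ka xa2 ya59 za20) (ka xa2 ya59 za21) (ka xa5 ya26 za55) (ka xa2 ya59 za23) (ka xa2 ya59 za24) (ka xa5 ya27 za0) (ka xa2 ya59 za26) (ka xa5 ya27 za4) (ka xa5 ya27 za9) (ka xa1 ya16 za43) (ka xa5 ya27 za14)) (@D3.rec (fun _ => Pt) (ka xa5 ya27 za3) (ka xa2 ya59 za32) (ka xa2 ya59 za34) (ka xa2 ya59 za35) (ka xa4 ya29 za1) (ka xa4 ya29 za2) (ka xa4 ya29 za3) (ka xa1 ya16 za53) (ka xa1 ya16 za54) (ka xa1 ya16 za56) (ka xa1 ya16 za57) (ka xa4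 ya9 za14) (ka xa4 ya9 za12) (ka xa4 ya3 za38) (ka xa4 ya29 za5) (ka xa4 ya29 za6) (ka xa4 ya29 za8) (ka xa4 ya29 za7) (ka xa5 ya27 za58) (ka xa5 ya27 za31) (ka xa5 ya27 za32) (ka xa5 ya27 za33) (ka xa5 ya27 za34) (ka xa5 ya27 za35) (ka xa2 ya34 za39) (ka xa2 ya34 za42) (ka xa4 ya27 za44) (ka xa4 ya12 za33) (ka xa2 ya39 za30) (ka xa2 ya2 za0) (ka xa4 ya27 za46) (ka xa4 ya27 za47) (ka xa5 ya28 za28) (ka xa2 ya42 za47) (ka xa4 ya10 za60) (ka xa4 ya10 za58) (ka xa4 ya10 za59) (ka xa4 ya10 za61) (ka xa5 ya28 za41) (ka xa2 ya42 za46) (ka xa4 ya28 za56) (ka xa5 ya28 za49) (ka xa2 ya42 za4) (ka xa2 ya44 za3) (ka xa5 ya28 za58) (ka xa2 ya42 za3) (ka xa2 ya44 za11) (ka xa4 ya29 za16) (ka xa4 ya29 za15) (ka xa1 ya17 za3) (ka xa5 ya29 za10) (ka xa5 ya29 za11) (ka xa4 ya27 za55) (ka xa4 ya29 za0) (ka xa2 ya39 za22) (ka xa4 ya2 za55)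 (ka xa4 ya2 za56) (ka xa1 ya17 za15) (ka xa1 ya17 za16) (ka xa1 ya17 za19) (ka xa1 ya17 za20) (ka xa1 ya17 za21)) (@D3.rec (fun _ => Pt) (ka xa1 ya17 za24) (ka xa2 ya6 za34) (ka xa4 ya12 za55) (ka xa4 ya22 za17) (ka xa4 ya13 za3) (ka xa5 ya29 za21) (ka xa5 ya29 za22) (ka xa5 ya29 za23) (ka xa2 ya35 za23) (ka xa4 ya13 za60) (ka xa5 ya29 za24) (ka xa4 ya28 za45) (ka xa2 ya5 za25) (ka xa4 ya28 za46) (ka xa4 ya28 za43) (ka xa4 ya28 za44) (ka xa4 ya28 za48) (ka xa4 ya28 za47) (ka xa5 ya30 za0) (ka xa5 ya29 za26) (ka xa5 ya29 za27) (ka xa5 ya29 za28) (ka xa4 ya9 za27) (ka xa4 ya15 za38) (ka xa5 ya29 za29) (ka xa2 ya11 za29) (ka xa4 ya15 za37) (ka xa4 ya28 za58) (ka xa4 ya28 za57) (ka xa1 ya17 za25) (ka xa5 ya30 za29) (ka xa5 ya30 za30) (ka xa4 ya29 za20) (ka xa2 ya45 za47) (ka xa2 ya45 za50) (ka xa4 ya29 za21) (ka xa2 ya52 za51)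 (ka xa4 ya29 za22) (ka xa4 ya29 za23) (ka xa4 ya28 za2) (ka xa4 ya11 za23) (ka xa4 ya17 za2) (ka xa4 ya17 za3) (ka xa3 ya7 za58) (ka xa4 ya17 za4) (ka xa5 ya30 za59) (ka xa1 ya17 za34) (ka xa1 ya17 za35) (ka xa1 ya17 za36) (ka xa4 ya14 za17) (ka xa5 ya31 za8) (ka xa5 ya30 za61) (ka xa5 ya31 za0) (ka xa2 ya1 za59) (ka xa5 ya31 za1) (ka xa5 ya31 za2) (ka xa5 ya17 za45) (ka xa5 ya31 za3) (ka xa5 ya31 za29) (ka xa2 ya25 za61) (ka xa4 ya29 za57) (ka xa4 ya29 za56)) (@D3.rec (fun _ => Pt) (ka xa1 ya17 za38) (ka xa5 ya31 za38) (ka xa5 ya31 za39) (ka xa2 ya40 za45) (ka xa2 ya40 za42) (ka xa4 ya29 za38) (ka xa4 ya29 za39) (ka xa4 ya29 za40) (ka xa4 ya29 za41) (ka xa4 ya29 za42) (ka xa4 ya28 za11) (ka xa2 ya48 za26) (ka xa4 ya29 za44) (ka xa4 ya29 za45) (ka xa4 ya29 za46) (ka xa4 ya29 za47) (ka xa4 ya29 za48) (ka xa1 ya17 za46)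 (ka xa1 ya17 za47) (ka xa4 ya29 za25) (ka xa4 ya29 za24) (ka xa5 ya32 za19) (ka xa5 ya32 za9) (ka xa5 ya32 za10) (ka xa5 ya32 za11) (ka xa5 ya32 za12) (ka xa5 ya32 za13) (ka xa4 ya29 za34) (ka xa4 ya29 za33) (ka xa1 ya17 za48) (ka xa5 ya32 za39) (ka xa5 ya32 za40) (ka xa2 ya50 za33) (ka xa3 ya21 za54) (ka xa4 ya29 za61) (ka xa3 ya13 za13) (ka xa4 ya30 za0) (ka xa4 ya30 za1) (ka xa4 ya28 za19) (ka xa4 ya30 za3) (ka xa4 ya30 za13) (ka xa4 ya30 za12) (ka xa1 ya17 za54) (ka xa5 ya32 za61) (ka xa5 ya33 za0) (ka xa5 ya33 za1) (ka xa2 ya40 za39) (ka xa2 ya40 za33) (ka xa4 ya30 za9) (ka xa4 ya30 za10) (ka xa4 ya30 za11) (ka xa4 ya30 za5) (ka xa4 ya30 za4) (ka xa1 ya17 za57) (ka xa5 ya33 za32) (ka xa5 ya33 za33) (ka xa5 ya33 za34) (ka xa4 ya30 za18) (ka xa2 ya54 za56) (ka xa1 ya18 za2) (ka xa1 ya17 za60) (ka xa5 ya33 za51)) (@D3.rec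 (fun _ => Pt) (ka xa5 ya33 za47) (ka xa5 ya33 za48) (ka xa5 ya33 za49) (ka xa1 ya17 za61) (ka xa5 ya34 za9) (ka xa5 ya33 za61) (ka xa5 ya34 za3) (ka xa5 ya34 za7) (ka xa1 ya18 za1) (ka xa4 ya33 za37) (ka xa4 ya33 za36) (ka xa5 ya34 za21) (ka xa5 ya34 za22) (ka xa5 ya33 za45) (ka xa5 ya34 za37) (ka xa5 ya34 za39) (ka xa4 ya30 za38) (ka xa4 ya30 za39) (ka xa4 ya30 za40) (ka xa4 ya30 za41) (ka xa4 ya30 za42) (ka xa4 ya30 za43) (ka xa4 ya30 za44) (ka xa5 ya27 za29) (ka xa4 ya30 za46) (ka xa4 ya30 za47) (ka xa4 ya30 za48) (ka xa5 ya29 za20) (ka xa4 ya30 za50) (ka xa4 ya30 za51) (ka xa4 ya17 za58) (ka xa4 ya8 za31) (ka xa2 ya38 za9) (ka xa4 ya31 za16) (ka xa4 ya31 za17) (ka xa1 ya18 za16) (ka xa1 ya18 za17) (ka xa1 ya18 za19) (ka xa1 ya18 za21) (ka xa4 ya8 za32) (ka xa4 ya31 za21) (ka xa4 ya31 za22) (ka xa4 ya54 za43) (ka xa4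 ya31 za18) (ka xa4 ya31 za19) (ka xa4 ya31 za24) (ka xa4 ya31 za23) (ka xa5 ya35 za46) (ka xa5 ya35 za19) (ka xa5 ya35 za20) (ka xa5 ya35 za21) (ka xa5 ya35 za22) (ka xa4 ya50 za40) (ka xa5 ya35 za23) (ka xa4 ya7 za54) (ka xa2 ya28 za24) (ka xa2 ya28 za27) (ka xa4 ya54 za46) (ka xa5 ya22 za30) (ka xa4 ya6 za49) (ka xa2 ya12 za42) (ka xa4 ya3 za14)) (@D3.rec (fun _ => Pt) (ka xa4 ya54 za54) (ka xa4 ya54 za55) (ka xa5 ya36 za20) (ka xa2 ya40 za43) (ka xa4 ya19 za46) (ka xa4 ya19 za47) (ka xa4 ya19 za48) (ka xa1 ya18 za25) (ka xa5 ya36 za28) (ka xa5 ya36 za29) (ka xa5 ya36 za39) (ka xa2 ya40 za46) (ka xa2 ya59 za51) (ka xa2 ya59 za50) (ka xa4 ya31 za32) (ka xa4 ya31 za31) (ka xa1 ya18 za28) (ka xa4 ya37 za37) (ka xa4 ya54 za61) (ka xa2 ya59 za40) (ka xa5 ya36 za56) (ka xa4 ya30 za61) (ka xa4 ya5 za32) (ka xa2 ya45 za12) (ka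 xa2 ya53 za0) (ka xa2 ya29 za2) (ka xa1 ya18 za34) (ka xa5 ya37 za3) (ka xa5 ya37 za7) (ka xa4 ya19 za20) (ka xa3 ya0 za55) (ka xa4 ya31 za2) (ka xa1 ya18 za37) (ka xa5 ya37 za13) (ka xa2 ya47 za3) (ka xa4 ya31 za0) (ka xa3 ya0 za8) (ka xa1 ya18 za39) (ka xa2 ya47 za45) (ka xa2 ya47 za1) (ka xa4 ya31 za4) (ka xa4 ya31 za3) (ka xa1 ya18 za41) (ka xa5 ya37 za30) (ka xa2 ya46 za17) (ka xa4 ya19 za52) (ka xa4 ya5 za52) (ka xa1 ya18 za43) (ka xa3 ya4 za9) (ka xa5 ya37 za40) (ka xa2 ya46 za15) (ka xa5 ya37 za51) (ka xa4 ya31 za42) (ka xa2 ya46 za11) (ka xa2 ya59 za53) (ka xa5 ya37 za61) (ka xa3 ya4 za53) (ka xa2 ya46 za10) (ka xa1 ya18 za48) (ka xa1 ya18 za49) (ka xa4 ya31 za45) (ka xa4 ya31 za44)) (@D3.rec (fun _ => Pt) (ka xa5 ya38 za4) (ka xa5 ya38 za5) (ka xa5 ya38 za6) (ka xa5 ya38 za7) (ka xa5 ya0 za25) (ka xa2 ya58 za12)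 (ka xa4 ya31 za10) (ka xa4 ya31 za11) (ka xa4 ya31 za12) (ka xa5 ya38 za35) (ka xa5 ya38 za36) (ka xa2 ya58 za11) (ka xa2 ya44 za23) (ka xa2 ya59 za56) (ka xa3 ya4 za25) (ka xa4 ya41 za27) (ka xa5 ya38 za44) (ka xa2 ya58 za10) (ka xa5 ya7 za8) (ka xa2 ya34 za3) (ka xa2 ya59 za55) (ka xa4 ya54 za48) (ka xa2 ya4 za48) (ka xa4 ya55 za5) (ka xa4 ya4 za23) (ka xa4 ya4 za24) (ka xa4 ya54 za49) (ka xa4 ya4 za20) (ka xa4 ya4 za21) (ka xa4 ya3 za26) (ka xa4 ya3 za24) (ka xa5 ya39 za6) (ka xa4 ya4 za40) (ka xa4 ya4 za41) (ka xa4 ya4 za42) (ka xa4 ya4 za43) (ka xa4 ya4 za44) (ka xa4 ya55 za8) (ka xa4 ya54 za1) (ka xa4 ya4 za46) (ka xa4 ya30 za56) (ka xa4 ya30 za55) (ka xa1 ya19 za13) (ka xa5 ya39 za31) (ka xa4 ya31 za35) (ka xa4 ya31 za36) (ka xa5 ya39 za40) (ka xa2 ya41 za33) (ka xa4 ya31 za38) (ka xa4 ya55 za14) (ka xa2 ya41 za34)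 (ka xa4 ya12 za39) (ka xa4 ya12 za40) (ka xa4 ya12 za38) (ka xa4 ya12 za41) (ka xa5 ya39 za56) (ka xa5 ya39 za57) (ka xa2 ya46 za24) (ka xa1 ya19 za22) (ka xa4 ya31 za7) (ka xa4 ya31 za6) (ka xa5 ya39 za61)) (@D3.rec (fun _ => Pt) (ka xa5 ya40 za0) (ka xa2 ya52 za28) (ka xa4 ya31 za46) (ka xa2 ya51 za20) (ka xa2 ya51 za3) (ka xa5 ya40 za17) (ka xa2 ya46 za42) (ka xa4 ya57 za4) (ka xa2 ya47 za50) (ka xa1 ya19 za28) (ka xa2 ya44 za57) (ka xa2 ya44 za53) (ka xa5 ya40 za21) (ka xa5 ya40 za22) (ka xa4 ya57 za10) (ka xa2 ya44 za50) (ka xa5 ya40 za41) (ka xa2 ya44 za44) (ka xa4 ya31 za51) (ka xa4 ya31 za52) (ka xa4 ya31 za50) (ka xa4 ya31 za53) (ka xa4 ya57 za7) (ka xa4 ya57 za15) (ka xa2 ya45 za57) (ka xa4 ya31 za49) (ka xa1 ya19 za41) (ka xa2 ya23 za36) (ka xa1 ya19 za36) (ka xa4 ya23 za0) (ka xa4 ya31 za54) (ka xa2 ya47 za41)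 (ka xa4 ya31 za55) (ka xa5 ya40 za9) (ka xa5 ya40 za59) (ka xa2 ya50 za38) (ka xa4 ya32 za3) (ka xa4 ya32 za4) (ka xa4 ya32 za5) (ka xa4 ya32 za6) (ka xa5 ya41 za15) (ka xa5 ya41 za17) (ka xa2 ya46 za6) (ka xa4 ya32 za25) (ka xa4 ya32 za26) (ka xa4 ya32 za27) (ka xa4 ya32 za49) (ka xa4 ya32 za22) (ka xa4 ya32 za23) (ka xa1 ya19 za51) (ka xa1 ya19 za52) (ka xa4 ya32 za32) (ka xa4 ya32 za31) (ka xa5 ya41 za32) (ka xa4 ya32 za50) (ka xa4 ya32 za36) (ka xa4 ya32 za35) (ka xa5 ya41 za33) (ka xa5 ya41 za34) (ka xa4 ya32 za24) (ka xa4 ya32 za51) (ka xa4 ya32 za52)) (@D3.rec (fun _ => Pt) (ka xa3 ya10 za19) (ka xa2 ya44 za39) (ka xa5 ya42 za7) (ka xa2 ya44 za34) (ka xa4 ya32 za17) (ka xa4 ya32 za18) (ka xa4 ya32 za19) (ka xa4 ya32 za20) (ka xa2 ya49 za16) (ka xa4 ya32 za21) (ka xa2 ya49 za14) (ka xa4 ya32 za10) (ka xa4 ya32 za11)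 (ka xa2 ya47 za40) (ka xa4 ya32 za8) (ka xa4 ya32 za9) (ka xa1 ya20 za0) (ka xa1 ya20 za1) (ka xa1 ya20 za2) (ka xa4 ya22 za52) (ka xa4 ya22 za51) (ka xa5 ya42 za34) (ka xa3 ya33 za21) (ka xa4 ya32 za13) (ka xa2 ya49 za9) (ka xa5 ya42 za35) (ka xa5 ya42 za36) (ka xa4 ya32 za7) (ka xa5 ya42 za37) (ka xa4 ya32 za43) (ka xa4 ya32 za44) (ka xa4 ya32 za45) (ka xa4 ya32 za46) (ka xa4 ya32 za47) (ka xa2 ya50 za60) (ka xa1 ya20 za21) (ka xa1 ya20 za22) (ka xa2 ya47 za42) (ka xa1 ya20 za10) (ka xa2 ya47 za43) (ka xa2 ya47 za13) (ka xa2 ya46 za31) (ka xa2 ya47 za37) (ka xa2 ya47 za39) (ka xa1 ya20 za13) (ka xa2 ya44 za38) (ka xa5 ya43 za14) (ka xa5 ya43 za15) (ka xa1 ya20 za14) (ka xa1 ya20 za15) (ka xa2 ya46 za8) (ka xa1 ya20 za12) (ka xa5 ya43 za39) (ka xa5 ya43 za40) (ka xa5 ya43 za25) (ka xa2 ya47 za60) (ka xa5 ya43 za33) (ka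 xa5 ya43 za36) (ka xa2 ya33 za40) (ka xa5 ya43 za37) (ka xa2 ya47 za55) (ka xa1 ya20 za17)) (@D3.rec (fun _ => Pt) (ka xa1 ya20 za18) (ka xa1 ya20 za19) (ka xa1 ya20 za20) (ka xa5 ya44 za10) (ka xa5 ya43 za59) (ka xa5 ya43 za60) (ka xa5 ya44 za22) (ka xa5 ya44 za0) (ka xa5 ya44 za1) (ka xa5 ya44 za2) (ka xa5 ya44 za3) (ka xa5 ya44 za39) (ka xa5 ya44 za5) (ka xa5 ya44 za6) (ka xa5 ya43 za10) (ka xa5 ya44 za7) (ka xa5 ya44 za8) (ka xa5 ya44 za9) (ka xa5 ya43 za11) (ka xa1 ya24 za12) (ka xa5 ya43 za12) (ka xa1 ya20 za23) (ka xa5 ya45 za7) (ka xa5 ya45 za8) (ka xa4 ya33 za29) (ka xa4 ya33 za30) (ka xa2 ya42 za11) (ka xa4 ya33 za31) (ka xa1 ya20 za25) (ka xa5 ya45 za22) (ka xa5 ya45 za23) (ka xa4 ya33 za35) (ka xa2 ya59 za61) (ka xa3 ya5 za46) (ka xa4 ya30 za32) (ka xa4 ya30 za31) (ka xa1 ya20 za27) (ka xa5 ya45 za38) (ka xa4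 ya33 za40) (ka xa4 ya33 za41) (ka xa4 ya33 za42) (ka xa4 ya33 za43) (ka xa5 ya45 za50) (ka xa4 ya33 za45) (ka xa4 ya33 za46) (ka xa4 ya33 za47) (ka xa5 ya46 za2) (ka xa4 ya33 za49) (ka xa4 ya33 za50) (ka xa4 ya33 za51) (ka xa4 ya33 za52) (ka xa4 ya33 za53) (ka xa4 ya33 za54) (ka xa4 ya33 za55) (ka xa2 ya58 za5) (ka xa2 ya16 za48) (ka xa2 ya16 za47) (ka xa1 ya20 za34) (ka xa5 ya46 za24) (ka xa5 ya46 za25) (ka xa3 ya4 za4) (ka xa3 ya3 za53)) (@D3.rec (fun _ => Pt) (ka xa3 ya3 za56) (ka xa3 ya4 za5) (ka xa3 ya4 za6) (ka xa3 ya4 za39) (ka xa3 ya4 za41) (ka xa1 ya31 za8) (ka xa2 ya17 za0) (ka xa1 ya20 za43) (ka xa1 ya56 za9) (ka xa2 ya47 za24) (ka xa2 ya26 za19) (ka xa3 ya0 za53) (ka xa4 ya42 za54) (ka xa3 ya0 za56) (ka xa2 ya47 za10) (ka xa3 ya0 za57) (ka xa2 ya47 za8) (ka xa4 ya34 za23) (ka xa2 ya58 za19) (ka xa3 ya10 za29)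 (ka xa2 ya58 za16) (ka xa2 ya58 za17) (ka xa1 ya20 za51) (ka xa1 ya20 za52) (ka xa5 ya47 za0) (ka xa5 ya47 za1) (ka xa5 ya37 za28) (ka xa5 ya37 za27) (ka xa5 ya47 za2) (ka xa2 ya52 za8) (ka xa2 ya52 za9) (ka xa3 ya4 za51) (ka xa3 ya4 za44) (ka xa3 ya4 za45) (ka xa4 ya34 za19) (ka xa3 ya4 za42) (ka xa2 ya58 za18) (ka xa1 ya20 za58) (ka xa1 ya20 za59) (ka xa3 ya4 za0) (ka xa2 ya18 za47) (ka xa5 ya47 za19) (ka xa1 ya56 za28) (ka xa1 ya56 za24) (ka xa5 ya47 za20) (ka xa5 ya47 za21) (ka xa2 ya52 za2) (ka xa2 ya52 za3) (ka xa2 ya52 za4) (ka xa3 ya4 za43) (ka xa1 ya20 za61) (ka xa5 ya47 za44) (ka xa1 ya26 za5) (ka xa3 ya0 za32) (ka xa2 ya18 za55) (ka xa3 ya4 za52) (ka xa2 ya51 za55) (ka xa2 ya58 za15) (ka xa1 ya21 za2) (ka xa3 ya9 za60) (ka xa5 ya47 za52) (ka xa5 ya47 za53)) (@D3.rec (fun _ => Pt) (ka xa4 ya34 za21) (ka xa4 ya34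 za22) (ka xa2 ya51 za51) (ka xa2 ya51 za52) (ka xa2 ya31 za13) (ka xa1 ya21 za10) (ka xa1 ya21 za11) (ka xa1 ya21 za12) (ka xa1 ya21 za13) (ka xa5 ya48 za14) (ka xa4 ya34 za30) (ka xa4 ya58 za21) (ka xa3 ya29 za60) (ka xa4 ya34 za28) (ka xa3 ya25 za42) (ka xa4 ya34 za31) (ka xa3 ya26 za28) (ka xa5 ya48 za7) (ka xa5 ya48 za8) (ka xa5 ya48 za9) (ka xa5 ya48 za10) (ka xa5 ya48 za11) (ka xa5 ya48 za38) (ka xa3 ya5 za16) (ka xa5 ya48 za13) (ka xa5 ya7 za43) (ka xa3 ya54 za48) (ka xa4 ya59 za27) (ka xa3 ya11 za11) (ka xa5 ya48 za54) (ka xa3 ya11 za21) (ka xa3 ya11 za22) (ka xa4 ya34 za6) (ka xa2 ya42 za32) (ka xa4 ya34 za7) (ka xa3 ya5 za42) (ka xa1 ya21 za18) (ka xa5 ya49 za3) (ka xa2 ya46 za35) (ka xa3 ya5 za38) (ka xa1 ya21 za20) (ka xa3 ya4 za16) (ka xa5 ya49 za10) (ka xa5 ya49 za11) (ka xa3 ya5 za47) (ka xa2 ya52 za35)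 (ka xa5 ya49 za21) (ka xa3 ya5 za31) (ka xa4 ya34 za9) (ka xa5 ya49 za27) (ka xa2 ya57 za38) (ka xa2 ya57 za37) (ka xa4 ya34 za11) (ka xa4 ya34 za12) (ka xa4 ya34 za5) (ka xa4 ya34 za3) (ka xa4 ya41 za25) (ka xa3 ya4 za24) (ka xa2 ya53 za27) (ka xa4 ya41 za26) (ka xa2 ya47 za34) (ka xa3 ya0 za31)) (@D3.rec (fun _ => Pt) (ka xa1 ya21 za32) (ka xa5 ya49 za48) (ka xa5 ya49 za49) (ka xa2 ya46 za4) (ka xa4 ya34 za18) (ka xa2 ya57 za52) (ka xa2 ya24 za15) (ka xa1 ya21 za38) (ka xa5 ya49 za59) (ka xa2 ya52 za24) (ka xa2 ya52 za25) (ka xa1 ya21 za40) (ka xa5 ya50 za3) (ka xa2 ya52 za21) (ka xa2 ya52 za22) (ka xa4 ya58 za52) (ka xa3 ya10 za21) (ka xa4 ya33 za60) (ka xa4 ya58 za28) (ka xa4 ya33 za61) (ka xa2 ya46 za3) (ka xa4 ya34 za38) (ka xa4 ya34 za36) (ka xa4 ya34 za37) (ka xa4 ya34 za39) (ka xa5 ya50 za28) (ka xa3 ya8 za30)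 (ka xa3 ya8 za31) (ka xa4 ya59 za36) (ka xa3 ya8 za43) (ka xa3 ya8 za44) (ka xa2 ya54 za36) (ka xa2 ya15 za54) (ka xa4 ya7 za5) (ka xa2 ya52 za27) (ka xa4 ya34 za41) (ka xa2 ya18 za50) (ka xa3 ya10 za27) (ka xa2 ya52 za26) (ka xa4 ya34 za42) (ka xa1 ya21 za53) (ka xa5 ya50 za57) (ka xa2 ya15 za7) (ka xa2 ya53 za2) (ka xa2 ya53 za3) (ka xa4 ya34 za48) (ka xa2 ya15 za40) (ka xa2 ya55 za43) (ka xa1 ya21 za61) (ka xa1 ya22 za0) (ka xa5 ya51 za7) (ka xa2 ya50 za2) (ka xa2 ya50 za3) (ka xa4 ya58 za22) (ka xa1 ya52 za10) (ka xa2 ya49 za56) (ka xa3 ya50 za30) (ka xa4 ya34 za52) (ka xa3 ya25 za40) (ka xa5 ya51 za4) (ka xa5 ya51 za5) (ka xa5 ya51 za6)) (@D3.rec (fun _ => Pt) (ka xa4 ya58 za35) (ka xa4 ya58 za36) (ka xa2 ya49 za46) (ka xa2 ya49 za47) (ka xa2 ya49 za48) (ka xa1 ya22 za3) (ka xa5 ya51 za42) (ka xa5 ya51 za43) (ka xa2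 ya49 za29) (ka xa2 ya49 za30) (ka xa4 ya58 za43) (ka xa3 ya13 za22) (ka xa3 ya13 za23) (ka xa5 ya51 za59) (ka xa3 ya13 za27) (ka xa3 ya13 za28) (ka xa2 ya52 za16) (ka xa2 ya26 za6) (ka xa1 ya22 za18) (ka xa1 ya22 za19) (ka xa4 ya58 za56) (ka xa2 ya51 za13) (ka xa2 ya51 za14) (ka xa4 ya58 za31) (ka xa2 ya51 za9) (ka xa2 ya51 za10) (ka xa2 ya51 za38) (ka xa2 ya51 za34) (ka xa2 ya46 za1) (ka xa5 ya52 za2) (ka xa5 ya52 za3) (ka xa5 ya52 za4) (ka xa4 ya39 za33) (ka xa5 ya52 za5) (ka xa4 ya39 za29) (ka xa2 ya50 za45) (ka xa4 ya39 za32) (ka xa5 ya52 za43) (ka xa3 ya13 za0) (ka xa4 ya59 za3) (ka xa3 ya13 za14) (ka xa4 ya35 za2) (ka xa2 ya39 za26) (ka xa4 ya35 za3) (ka xa3 ya59 za38) (ka xa1 ya22 za25) (ka xa2 ya53 za26) (ka xa5 ya52 za57) (ka xa4 ya59 za6) (ka xa4 ya35 za8) (ka xa5 ya53 za4) (ka xa2 ya41 za36) (ka xa4 ya59 za7)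 (ka xa4 ya35 za10) (ka xa1 ya23 za58) (ka xa1 ya22 za32) (ka xa5 ya53 za9) (ka xa3 ya0 za4) (ka xa2 ya26 za12) (ka xa4 ya26 za3) (ka xa4 ya25 za6) (ka xa4 ya37 za36)) (@D3.rec (fun _ => Pt) (ka xa2 ya44 za24) (ka xa4 ya35 za14) (ka xa2 ya51 za43) (ka xa2 ya51 za44) (ka xa3 ya59 za21) (ka xa4 ya35 za54) (ka xa4 ya35 za55) (ka xa4 ya35 za56) (ka xa4 ya35 za57) (ka xa1 ya24 za37) (ka xa4 ya35 za59) (ka xa3 ya59 za20) (ka xa4 ya36 za41) (ka xa4 ya35 za48) (ka xa4 ya35 za49) (ka xa4 ya35 za50) (ka xa1 ya55 za39) (ka xa1 ya22 za49) (ka xa1 ya22 za50) (ka xa1 ya22 za53) (ka xa1 ya22 za54) (ka xa1 ya22 za55) (ka xa1 ya22 za56) (ka xa1 ya22 za57) (ka xa2 ya14 za22) (ka xa4 ya36 za7) (ka xa2 ya52 za46) (ka xa2 ya50 za58) (ka xa4 ya36 za5) (ka xa3 ya4 za10) (ka xa3 ya4 za8) (ka xa5 ya53 za51) (ka xa5 ya53 za52) (ka xa5 ya14 za24)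 (ka xa5 ya53 za53) (ka xa5 ya53 za54) (ka xa5 ya53 za55) (ka xa3 ya5 za7) (ka xa3 ya5 za8) (ka xa4 ya36 za46) (ka xa3 ya4 za59) (ka xa3 ya4 za60) (ka xa4 ya36 za15) (ka xa4 ya36 za14) (ka xa5 ya53 za56) (ka xa2 ya31 za4) (ka xa5 ya53 za57) (ka xa5 ya53 za58) (ka xa4 ya32 za40) (ka xa4 ya5 za38) (ka xa5 ya53 za59) (ka xa5 ya53 za60) (ka xa5 ya53 za61) (ka xa5 ya54 za0) (ka xa5 ya54 za1) (ka xa5 ya54 za2) (ka xa4 ya37 za14) (ka xa3 ya10 za50) (ka xa4 ya35 za41) (ka xa3 ya23 za23) (ka xa3 ya10 za49) (ka xa4 ya35 za43)) (@D3.rec (fun _ => Pt) (ka xa3 ya46 za28) (ka xa4 ya35 za44) (ka xa1 ya32 za42) (ka xa5 ya55 za26) (ka xa4 ya35 za47) (ka xa4 ya25 za40) (ka xa4 ya35 za18) (ka xa4 ya35 za19) (ka xa4 ya35 za20) (ka xa2 ya55 za14) (ka xa4 ya35 za15) (ka xa4 ya25 za3) (ka xa4 ya35 za16) (ka xa4 ya35 za17) (ka xa4 ya35 za12) (ka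 xa1 ya23 za12) (ka xa1 ya23 za13) (ka xa1 ya23 za16) (ka xa1 ya23 za17) (ka xa1 ya23 za19) (ka xa4 ya24 za41) (ka xa2 ya14 za27) (ka xa4 ya23 za60) (ka xa3 ya59 za19) (ka xa4 ya23 za59) (ka xa4 ya24 za34) (ka xa3 ya9 za55) (ka xa3 ya9 za52) (ka xa5 ya55 za47) (ka xa5 ya55 za48) (ka xa4 ya36 za52) (ka xa5 ya55 za49) (ka xa5 ya55 za50) (ka xa4 ya38 za23) (ka xa3 ya10 za17) (ka xa3 ya10 za18) (ka xa2 ya51 za31) (ka xa3 ya10 za13) (ka xa3 ya10 za14) (ka xa3 ya16 za44) (ka xa4 ya35 za26) (ka xa5 ya55 za52) (ka xa5 ya55 za53) (ka xa5 ya55 za54) (ka xa5 ya55 za55) (ka xa5 ya55 za56) (ka xa5 ya55 za57) (ka xa4 ya23 za33) (ka xa4 ya33 za25) (ka xa5 ya55 za58) (ka xa5 ya55 za59) (ka xa5 ya55 za60) (ka xa4 ya38 za24) (ka xa5 ya57 za15) (ka xa4 ya36 za30) (ka xa4 ya37 za33) (ka xa2 ya42 za58) (ka xa4 ya36 za32) (ka xa4 ya36 za33)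 (ka xa2 ya59 za39) (ka xa4 ya36 za34) (ka xa5 ya57 za26)) (@D3.rec (fun _ => Pt) (ka xa4 ya36 za36) (ka xa1 ya24 za14) (ka xa2 ya55 za17) (ka xa2 ya55 za18) (ka xa1 ya23 za41) (ka xa1 ya23 za42) (ka xa1 ya23 za45) (ka xa2 ya55 za16) (ka xa2 ya55 za19) (ka xa2 ya55 za20) (ka xa2 ya55 za21) (ka xa2 ya30 za36) (ka xa2 ya55 za24) (ka xa2 ya55 za25) (ka xa2 ya54 za9) (ka xa2 ya14 za23) (ka xa2 ya55 za7) (ka xa2 ya55 za2) (ka xa2 ya55 za3) (ka xa2 ya55 za8) (ka xa2 ya55 za9) (ka xa2 ya55 za10) (ka xa1 ya23 za52) (ka xa2 ya30 za49) (ka xa2 ya55 za12) (ka xa2 ya55 za13) (ka xa1 ya26 za8) (ka xa1 ya26 za9) (ka xa5 ya57 za33) (ka xa5 ya50 za4) (ka xa5 ya58 za18) (ka xa5 ya57 za35) (ka xa3 ya25 za37) (ka xa1 ya23 za54) (ka xa3 ya23 za14) (ka xa3 ya25 za31) (ka xa5 ya55 za16) (ka xa1 ya23 za55) (ka xa2 ya33 za39) (ka xa2 ya33 za7)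 (ka xa3 ya25 za32) (ka xa5 ya6 za33) (ka xa1 ya23 za57) (ka xa2 ya51 za47) (ka xa1 ya23 za50) (ka xa1 ya23 za51) (ka xa3 ya50 za33) (ka xa5 ya58 za37) (ka xa5 ya41 za19) (ka xa5 ya58 za38) (ka xa5 ya45 za2) (ka xa5 ya51 za33) (ka xa5 ya58 za1) (ka xa2 ya56 za55) (ka xa5 ya58 za59) (ka xa5 ya58 za25) (ka xa5 ya58 za26) (ka xa4 ya36 za31) (ka xa5 ya58 za28) (ka xa5 ya57 za14) (ka xa4 ya35 za13) (ka xa4 ya30 za58)) (@D3.rec (fun _ => Pt) (ka xa5 ya58 za35) (ka xa5 ya53 za8) (ka xa4 ya44 za28) (ka xa1 ya24 za7) (ka xa1 ya24 za8) (ka xa1 ya24 za9) (ka xa1 ya24 za10) (ka xa1 ya24 za11) (ka xa1 ya23 za61) (ka xa2 ya27 za39) (ka xa5 ya59 za35) (ka xa4 ya48 za44) (ka xa4 ya48 za43) (ka xa5 ya59 za48) (ka xa4 ya48 za54) (ka xa4 ya48 za55) (ka xa4 ya38 za38) (ka xa4 ya48 za56) (ka xa4 ya48 za57) (ka xa4 ya48 za58) (ka xa1 ya24 za2)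 (ka xa6 ya0 za1) (ka xa6 ya0 za2) (ka xa6 ya0 za9) (ka xa4 ya48 za46) (ka xa4 ya48 za47) (ka xa4 ya48 za48) (ka xa4 ya38 za54) (ka xa4 ya48 za42) (ka xa4 ya48 za49) (ka xa6 ya0 za29) (ka xa3 ya59 za41) (ka xa4 ya46 za38) (ka xa4 ya46 za39) (ka xa6 ya0 za39) (ka xa4 ya46 za34) (ka xa4 ya46 za35) (ka xa4 ya46 za36) (ka xa4 ya46 za43) (ka xa4 ya46 za42) (ka xa4 ya59 za48) (ka xa5 ya59 za23) (ka xa5 ya59 za24) (ka xa1 ya40 za17) (ka xa5 ya59 za25) (ka xa5 ya59 za26) (ka xa6 ya1 za1) (ka xa5 ya59 za28) (ka xa5 ya59 za29) (ka xa5 ya59 za30) (ka xa6 ya1 za17) (ka xa5 ya59 za32) (ka xa5 ya59 za33) (ka xa5 ya59 za34) (ka xa5 ya45 za3) (ka xa2 ya55 za53) (ka xa5 ya45 za5) (ka xa5 ya45 za4) (ka xa5 ya57 za30) (ka xa1 ya24 za16) (ka xa1 ya24 za17) (ka xa4 ya38 za46)) (@D3.rec (fun _ => Pt) (ka xa4 ya38 za45) (ka xa6 ya1 za41) (ka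 xa6 ya1 za42) (ka xa6 ya1 za43) (ka xa6 ya1 za44) (ka xa6 ya1 za45) (ka xa4 ya37 za51) (ka xa4 ya38 za39) (ka xa4 ya38 za40) (ka xa3 ya21 za34) (ka xa4 ya38 za41) (ka xa4 ya38 za42) (ka xa1 ya24 za23) (ka xa1 ya24 za24) (ka xa4 ya38 za31) (ka xa4 ya38 za30) (ka xa6 ya2 za12) (ka xa6 ya2 za13) (ka xa6 ya2 za14) (ka xa6 ya2 za15) (ka xa6 ya2 za16) (ka xa4 ya38 za53) (ka xa3 ya14 za33) (ka xa4 ya37 za59) (ka xa4 ya38 za55) (ka xa4 ya38 za56) (ka xa4 ya38 za57) (ka xa4 ya38 za58) (ka xa4 ya38 za59) (ka xa4 ya38 za60) (ka xa4 ya39 za8) (ka xa1 ya24 za29) (ka xa6 ya2 za51) (ka xa6 ya2 za52) (ka xa3 ya24 za15) (ka xa4 ya39 za4) (ka xa4 ya39 za5) (ka xa2 ya50 za51) (ka xa2 ya50 za50) (ka xa4 ya39 za6) (ka xa3 ya0 za26) (ka xa4 ya38 za61) (ka xa1 ya24 za33) (ka xa6 ya3 za9) (ka xa6 ya3 za10) (ka xa6 ya1 za40) (ka xa1 ya31 za51)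 (ka xa4 ya39 za11) (ka xa4 ya39 za12) (ka xa1 ya31 za50) (ka xa5 ya53 za37) (ka xa5 ya53 za38) (ka xa2 ya51 za5) (ka xa4 ya39 za13) (ka xa4 ya39 za14) (ka xa4 ya39 za15) (ka xa4 ya39 za18) (ka xa4 ya39 za19) (ka xa5 ya53 za39) (ka xa4 ya39 za21) (ka xa4 ya39 za22) (ka xa5 ya53 za19)) (@D3.rec (fun _ => Pt) (ka xa4 ya39 za24) (ka xa4 ya39 za25) (ka xa4 ya39 za26) (ka xa4 ya39 za27) (ka xa6 ya3 za61) (ka xa2 ya48 za54) (ka xa4 ya35 za1) (ka xa4 ya39 za30) (ka xa4 ya39 za31) (ka xa4 ya27 za2) (ka xa2 ya45 za17) (ka xa2 ya45 za11) (ka xa2 ya45 za5) (ka xa2 ya27 za56) (ka xa2 ya27 za57) (ka xa2 ya49 za57) (ka xa2 ya49 za20) (ka xa2 ya49 za21) (ka xa2 ya49 za36) (ka xa2 ya49 za18) (ka xa2 ya8 za3) (ka xa2 ya58 za22) (ka xa2 ya58 za21) (ka xa1 ya24 za60) (ka xa1 ya25 za2) (ka xa1 ya25 za4) (ka xa1 ya25 za6) (ka xa1 ya25 za7)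 (ka xa2 ya58 za29) (ka xa2 ya58 za28) (ka xa2 ya38 za54) (ka xa6 ya4 za23) (ka xa2 ya38 za57) (ka xa1 ya58 za32) (ka xa1 ya58 za33) (ka xa4 ya3 za1) (ka xa4 ya3 za2) (ka xa6 ya4 za24) (ka xa6 ya4 za25) (ka xa4 ya15 za4) (ka xa6 ya4 za26) (ka xa6 ya4 za27) (ka xa1 ya58 za35) (ka xa2 ya38 za8) (ka xa2 ya38 za5) (ka xa6 ya4 za28) (ka xa6 ya4 za29) (ka xa6 ya5 za17) (ka xa6 ya4 za31) (ka xa6 ya4 za32) (ka xa6 ya4 za33) (ka xa4 ya7 za37) (ka xa4 ya7 za38) (ka xa2 ya39 za23) (ka xa6 ya5 za39) (ka xa2 ya39 za25) (ka xa2 ya39 za27) (ka xa2 ya39 za28) (ka xa2 ya39 za29) (ka xa4 ya13 za44) (ka xa4 ya13 za45) (ka xa2 ya39 za19)) (@D3.rec (fun _ => Pt) (ka xa4 ya15 za7) (ka xa4 ya15 za8) (ka xa6 ya5 za55) (ka xa2 ya39 za34) (ka xa2 ya39 za35) (ka xa2 ya39 za36) (ka xa2 ya39 za37) (ka xa4 ya7 za39) (ka xa4 ya7 za40) (ka xa6 ya6 za6)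 (ka xa2 ya39 za41) (ka xa2 ya39 za42) (ka xa2 ya39 za43) (ka xa2 ya39 za44) (ka xa2 ya39 za45) (ka xa4 ya15 za11) (ka xa4 ya15 za12) (ka xa6 ya6 za26) (ka xa2 ya39 za49) (ka xa2 ya39 za50) (ka xa2 ya39 za51) (ka xa2 ya39 za52) (ka xa6 ya6 za32) (ka xa2 ya39 za54) (ka xa2 ya39 za55) (ka xa5 ya55 za45) (ka xa2 ya39 za57) (ka xa6 ya6 za41) (ka xa1 ya36 za40) (ka xa1 ya25 za25) (ka xa6 ya6 za45) (ka xa6 ya6 za40) (ka xa2 ya40 za1) (ka xa2 ya34 za4) (ka xa2 ya40 za2) (ka xa2 ya40 za3) (ka xa4 ya14 za19) (ka xa4 ya14 za20) (ka xa6 ya7 za5) (ka xa2 ya54 za59) (ka xa2 ya44 za19) (ka xa4 ya6 za47) (ka xa4 ya6 za48) (ka xa4 ya58 za33) (ka xa2 ya34 za5) (ka xa4 ya4 za32) (ka xa4 ya20 za23) (ka xa4 ya20 za24) (ka xa6 ya7 za18) (ka xa4 ya6 za53) (ka xa2 ya44 za13) (ka xa2 ya44 za12) (ka xa4 ya7 za22) (ka xa2 ya44 za54) (ka xa5 ya5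 za52) (ka xa2 ya45 za20) (ka xa2 ya45 za13) (ka xa3 ya5 za11) (ka xa1 ya25 za45) (ka xa6 ya7 za32) (ka xa6 ya7 za33) (ka xa2 ya48 za32))
def f_a_3 : D2 → D3 → Pt := @D2.rec (fun _ => D3 → Pt) (@D3.rec (fun _ => Pt) (ka xa5 ya5 za57) (ka xa5 ya5 za58) (ka xa5 ya5 za59) (ka xa4 ya5 za46) (ka xa2 ya52 za57) (ka xa1 ya25 za54) (ka xa1 ya25 za50) (ka xa6 ya7 za50) (ka xa2 ya44 za36) (ka xa1 ya25 za51) (ka xa5 ya6 za30) (ka xa6 ya7 za52) (ka xa6 ya7 za53) (ka xa1 ya25 za53) (ka xa5 ya57 za48) (ka xa6 ya7 za60) (ka xa5 ya58 za9) (ka xa5 ya57 za46) (ka xa4 ya56 za57) (ka xa4 ya36 za50) (ka xa4 ya5 za37) (ka xa4 ya37 za21) (ka xa4 ya5 za42) (ka xa6 ya8 za21) (ka xa4 ya39 za52) (ka xa4 ya39 za53) (ka xa2 ya57 za40) (ka xa4 ya39 za54) (ka xa4 ya39 za55) (ka xa1 ya26 za10) (ka xa1 ya26 za3) (ka xa2 ya50 za61) (ka xa2 ya49 za53) (ka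 xa2 ya14 za0) (ka xa6 ya8 za32) (ka xa2 ya22 za15) (ka xa4 ya40 za35) (ka xa3 ya30 za7) (ka xa5 ya58 za5) (ka xa5 ya58 za6) (ka xa5 ya58 za7) (ka xa5 ya58 za8) (ka xa5 ya58 za10) (ka xa5 ya37 za18) (ka xa5 ya6 za29) (ka xa5 ya42 za50) (ka xa5 ya54 za29) (ka xa4 ya40 za4) (ka xa4 ya40 za5) (ka xa5 ya56 za38) (ka xa4 ya40 za7) (ka xa4 ya40 za8) (ka xa3 ya4 za61) (ka xa2 ya49 za11) (ka xa2 ya28 za2) (ka xa2 ya44 za30) (ka xa2 ya49 za13) (ka xa2 ya49 za15) (ka xa2 ya12 za31) (ka xa2 ya10 za7) (ka xa2 ya10 za8) (ka xa2 ya10 za9)) (@D3.rec (fun _ => Pt) (ka xa1 ya28 za17) (ka xa2 ya26 za21) (ka xa3 ya22 za51) (ka xa1 ya26 za28) (ka xa1 ya26 za29) (ka xa1 ya26 za30) (ka xa2 ya18 za14) (ka xa3 ya22 za14) (ka xa3 ya25 za7) (ka xa3 ya22 za13) (ka xa6 ya9 za19) (ka xa6 ya9 za30) (ka xa1 ya32 za34) (ka xa3 ya7 za3) (ka xa3 ya1 za17)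 (ka xa1 ya26 za37) (ka xa1 ya29 za42) (ka xa3 ya1 za14) (ka xa3 ya22 za17) (ka xa3 ya9 za35) (ka xa6 ya9 za34) (ka xa6 ya9 za47) (ka xa1 ya27 za6) (ka xa1 ya27 za10) (ka xa1 ya27 za12) (ka xa3 ya10 za32) (ka xa1 ya26 za49) (ka xa1 ya26 za45) (ka xa3 ya8 za2) (ka xa3 ya22 za47) (ka xa6 ya9 za56) (ka xa3 ya8 za58) (ka xa1 ya43 za11) (ka xa3 ya24 za17) (ka xa1 ya43 za58) (ka xa1 ya44 za30) (ka xa6 ya9 za55) (ka xa1 ya35 za56) (ka xa1 ya26 za53) (ka xa2 ya17 za11) (ka xa4 ya10 za33) (ka xa3 ya18 za50) (ka xa6 ya10 za10) (ka xa1 ya27 za4) (ka xa1 ya27 za5) (ka xa1 ya27 za7) (ka xa1 ya27 za8) (ka xa1 ya27 za9) (ka xa1 ya34 za43) (ka xa5 ya56 za44) (ka xa1 ya34 za42) (ka xa1 ya26 za60) (ka xa3 ya12 za7) (ka xa6 ya10 za26) (ka xa6 ya10 za31) (ka xa1 ya34 za32) (ka xa1 ya34 za33) (ka xa1 ya33 za46) (ka xa1 ya34 za19) (ka xa6 ya10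 za41) (ka xa1 ya35 za30) (ka xa1 ya50 za22)) (@D3.rec (fun _ => Pt) (ka xa3 ya7 za35) (ka xa1 ya35 za29) (ka xa1 ya49 za54) (ka xa4 ya39 za59) (ka xa4 ya39 za58) (ka xa1 ya27 za3) (ka xa6 ya10 za55) (ka xa6 ya10 za56) (ka xa6 ya10 za13) (ka xa1 ya41 za47) (ka xa5 ya11 za47) (ka xa6 ya10 za14) (ka xa5 ya11 za20) (ka xa6 ya10 za15) (ka xa6 ya9 za49) (ka xa6 ya10 za18) (ka xa6 ya10 za17) (ka xa6 ya10 za19) (ka xa6 ya11 za26) (ka xa6 ya10 za21) (ka xa6 ya10 za20) (ka xa6 ya10 za22) (ka xa6 ya9 za53) (ka xa6 ya9 za50) (ka xa6 ya9 za51) (ka xa6 ya9 za52) (ka xa3 ya6 za34) (ka xa1 ya35 za55) (ka xa6 ya9 za54) (ka xa1 ya27 za14) (ka xa6 ya11 za50) (ka xa6 ya11 za51) (ka xa5 ya42 za52) (ka xa6 ya11 za52) (ka xa5 ya56 za32) (ka xa4 ya40 za56) (ka xa5 ya54 za37) (ka xa4 ya40 za58) (ka xa4 ya40 za59) (ka xa4 ya40 za60) (ka xa3 ya20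 za51) (ka xa4 ya40 za61) (ka xa4 ya41 za0) (ka xa3 ya43 za20) (ka xa1 ya27 za19) (ka xa6 ya8 za4) (ka xa4 ya40 za45) (ka xa6 ya12 za19) (ka xa5 ya52 za9) (ka xa4 ya41 za5) (ka xa4 ya41 za6) (ka xa3 ya21 za35) (ka xa4 ya41 za7) (ka xa4 ya41 za8) (ka xa4 ya41 za9) (ka xa4 ya41 za10) (ka xa4 ya41 za1) (ka xa1 ya27 za23) (ka xa6 ya12 za34) (ka xa3 ya5 za58) (ka xa5 ya51 za18) (ka xa4 ya41 za14)) (@D3.rec (fun _ => Pt) (ka xa4 ya41 za15) (ka xa4 ya7 za23) (ka xa3 ya19 za35) (ka xa4 ya41 za16) (ka xa4 ya41 za17) (ka xa3 ya6 za12) (ka xa3 ya43 za13) (ka xa3 ya6 za5) (ka xa4 ya44 za12) (ka xa3 ya6 za7) (ka xa3 ya6 za8) (ka xa3 ya6 za9) (ka xa3 ya6 za10) (ka xa3 ya6 za11) (ka xa6 ya13 za3) (ka xa1 ya55 za43) (ka xa1 ya27 za32) (ka xa4 ya36 za10) (ka xa2 ya10 za36) (ka xa2 ya10 za37) (ka xa2 ya10 za38) (ka xa2 ya9 za16) (ka xa2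 ya10 za39) (ka xa1 ya56 za27) (ka xa1 ya56 za29) (ka xa2 ya27 za5) (ka xa1 ya56 za23) (ka xa1 ya27 za39) (ka xa6 ya13 za17) (ka xa2 ya27 za21) (ka xa6 ya13 za18) (ka xa6 ya13 za19) (ka xa2 ya27 za58) (ka xa2 ya26 za50) (ka xa3 ya3 za55) (ka xa1 ya56 za49) (ka xa1 ya27 za46) (ka xa4 ya24 za29) (ka xa4 ya0 za54) (ka xa4 ya0 za58) (ka xa4 ya0 za33) (ka xa2 ya27 za59) (ka xa4 ya0 za35) (ka xa4 ya0 za34) (ka xa1 ya27 za51) (ka xa6 ya13 za48) (ka xa1 ya28 za11) (ka xa1 ya28 za15) (ka xa1 ya28 za20) (ka xa4 ya24 za28) (ka xa4 ya23 za50) (ka xa4 ya23 za51) (ka xa4 ya2 za26) (ka xa2 ya48 za61) (ka xa2 ya26 za23) (ka xa3 ya3 za34) (ka xa2 ya49 za0) (ka xa4 ya23 za46) (ka xa4 ya23 za45) (ka xa1 ya28 za1) (ka xa5 ya43 za56) (ka xa4 ya23 za53)) (@D3.rec (fun _ => Pt) (ka xa2 ya49 za39) (ka xa1 ya28 za3) (ka xa6 ya14 za15) (ka xa6 ya14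 za16) (ka xa2 ya48 za60) (ka xa2 ya49 za1) (ka xa2 ya49 za2) (ka xa1 ya31 za30) (ka xa2 ya53 za30) (ka xa2 ya44 za48) (ka xa2 ya53 za29) (ka xa4 ya42 za35) (ka xa1 ya28 za9) (ka xa1 ya28 za10) (ka xa6 ya14 za37) (ka xa6 ya14 za38) (ka xa2 ya50 za41) (ka xa6 ya14 za39) (ka xa1 ya46 za11) (ka xa3 ya33 za41) (ka xa6 ya13 za52) (ka xa6 ya13 za53) (ka xa3 ya39 za28) (ka xa6 ya13 za54) (ka xa2 ya50 za57) (ka xa2 ya45 za14) (ka xa6 ya14 za46) (ka xa3 ya33 za35) (ka xa4 ya41 za39) (ka xa3 ya39 za26) (ka xa3 ya39 za27) (ka xa1 ya47 za22) (ka xa1 ya46 za13) (ka xa3 ya36 za36) (ka xa4 ya22 za35) (ka xa4 ya24 za8) (ka xa3 ya36 za35) (ka xa4 ya24 za9) (ka xa5 ya0 za29) (ka xa2 ya49 za3) (ka xa2 ya8 za57) (ka xa2 ya49 za4) (ka xa2 ya49 za35) (ka xa2 ya49 za49) (ka xa2 ya49 za32) (ka xa2 ya49 za33) (ka xa1 ya28 za27) (ka xa6 ya15 za22)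 (ka xa6 ya15 za23) (ka xa6 ya15 za24) (ka xa6 ya15 za25) (ka xa2 ya49 za31) (ka xa2 ya49 za55) (ka xa2 ya44 za56) (ka xa4 ya42 za47) (ka xa4 ya42 za46) (ka xa4 ya24 za14) (ka xa4 ya42 za52) (ka xa4 ya42 za53) (ka xa2 ya53 za40) (ka xa2 ya53 za41) (ka xa3 ya0 za52)) (@D3.rec (fun _ => Pt) (ka xa4 ya42 za55) (ka xa4 ya42 za56) (ka xa4 ya23 za56) (ka xa4 ya42 za57) (ka xa4 ya42 za58) (ka xa4 ya42 za48) (ka xa4 ya42 za49) (ka xa2 ya53 za37) (ka xa2 ya53 za38) (ka xa2 ya0 za10) (ka xa4 ya42 za50) (ka xa2 ya59 za57) (ka xa1 ya28 za40) (ka xa1 ya28 za41) (ka xa1 ya28 za42) (ka xa1 ya28 za43) (ka xa2 ya50 za23) (ka xa3 ya49 za7) (ka xa6 ya16 za13) (ka xa6 ya16 za14) (ka xa6 ya16 za15) (ka xa6 ya16 za16) (ka xa6 ya16 za17) (ka xa6 ya16 za18) (ka xa5 ya54 za56) (ka xa6 ya16 za19) (ka xa6 ya16 za20) (ka xa4 ya41 za29) (ka xa4 ya41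 za33) (ka xa5 ya43 za54) (ka xa4 ya41 za34) (ka xa2 ya50 za47) (ka xa6 ya16 za53) (ka xa4 ya41 za36) (ka xa4 ya41 za37) (ka xa4 ya41 za38) (ka xa2 ya9 za31) (ka xa2 ya8 za56) (ka xa2 ya50 za39) (ka xa1 ya28 za51) (ka xa6 ya17 za0) (ka xa6 ya17 za1) (ka xa2 ya50 za35) (ka xa1 ya28 za55) (ka xa6 ya17 za8) (ka xa6 ya17 za9) (ka xa2 ya48 za33) (ka xa2 ya50 za44) (ka xa2 ya17 za12) (ka xa3 ya13 za30) (ka xa2 ya17 za8) (ka xa2 ya17 za9) (ka xa2 ya17 za10) (ka xa1 ya29 za3) (ka xa1 ya29 za4) (ka xa1 ya29 za6) (ka xa4 ya40 za39) (ka xa6 ya17 za21) (ka xa3 ya2 za59) (ka xa6 ya17 za22) (ka xa4 ya47 za60) (ka xa6 ya17 za23)) (@D3.rec (fun _ => Pt) (ka xa2 ya21 za40) (ka xa2 ya21 za41) (ka xa2 ya21 za42) (ka xa6 ya17 za24) (ka xa3 ya14 za54) (ka xa3 ya3 za7) (ka xa3 ya14 za1) (ka xa3 ya3 za9) (ka xa3 ya3 za10) (ka xa3 ya3 za11) (ka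 xa3 ya3 za12) (ka xa3 ya3 za13) (ka xa3 ya3 za5) (ka xa6 ya18 za1) (ka xa1 ya34 za47) (ka xa1 ya35 za50) (ka xa3 ya22 za38) (ka xa3 ya22 za39) (ka xa3 ya6 za36) (ka xa3 ya25 za14) (ka xa3 ya22 za36) (ka xa3 ya22 za37) (ka xa3 ya11 za50) (ka xa1 ya29 za21) (ka xa1 ya29 za22) (ka xa1 ya29 za25) (ka xa3 ya11 za58) (ka xa1 ya34 za18) (ka xa6 ya18 za14) (ka xa6 ya18 za15) (ka xa6 ya18 za16) (ka xa6 ya18 za17) (ka xa6 ya18 za18) (ka xa6 ya18 za19) (ka xa3 ya2 za26) (ka xa3 ya8 za60) (ka xa3 ya6 za18) (ka xa3 ya11 za51) (ka xa6 ya18 za20) (ka xa3 ya12 za45) (ka xa3 ya12 za53) (ka xa3 ya12 za44) (ka xa3 ya12 za21) (ka xa3 ya12 za55) (ka xa3 ya12 za56) (ka xa3 ya11 za47) (ka xa3 ya11 za45) (ka xa3 ya11 za48) (ka xa6 ya18 za58) (ka xa3 ya11 za41) (ka xa1 ya53 za24) (ka xa3 ya23 za58) (ka xa1 ya29 za35) (ka xa1 ya29 za36) (ka xa3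 ya30 za6) (ka xa4 ya7 za16) (ka xa5 ya58 za30) (ka xa5 ya6 za34) (ka xa6 ya19 za1) (ka xa3 ya12 za11) (ka xa3 ya12 za42) (ka xa3 ya12 za43)) (@D3.rec (fun _ => Pt) (ka xa3 ya45 za12) (ka xa3 ya11 za60) (ka xa6 ya9 za35) (ka xa3 ya1 za13) (ka xa2 ya21 za39) (ka xa4 ya43 za1) (ka xa1 ya34 za37) (ka xa3 ya12 za19) (ka xa3 ya12 za20) (ka xa3 ya12 za22) (ka xa3 ya12 za23) (ka xa4 ya44 za37) (ka xa3 ya17 za31) (ka xa3 ya12 za9) (ka xa3 ya12 za10) (ka xa3 ya12 za12) (ka xa3 ya12 za13) (ka xa6 ya2 za11) (ka xa1 ya30 za5) (ka xa1 ya30 za6) (ka xa1 ya30 za7) (ka xa1 ya30 za8) (ka xa1 ya30 za9) (ka xa1 ya30 za10) (ka xa4 ya40 za11) (ka xa3 ya28 za36) (ka xa1 ya30 za15) (ka xa4 ya43 za58) (ka xa3 ya15 za57) (ka xa4 ya43 za9) (ka xa3 ya8 za10) (ka xa1 ya30 za0) (ka xa2 ya20 za54) (ka xa6 ya19 za56) (ka xa3 ya17 za58) (ka xa3 ya2 za0)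 (ka xa4 ya43 za6) (ka xa3 ya22 za45) (ka xa3 ya24 za10) (ka xa6 ya20 za9) (ka xa4 ya37 za10) (ka xa4 ya43 za13) (ka xa4 ya37 za31) (ka xa4 ya43 za11) (ka xa4 ya43 za12) (ka xa3 ya12 za28) (ka xa3 ya12 za25) (ka xa6 ya19 za38) (ka xa6 ya19 za39) (ka xa6 ya19 za40) (ka xa6 ya19 za41) (ka xa6 ya19 za42) (ka xa6 ya20 za37) (ka xa6 ya19 za44) (ka xa6 ya19 za45) (ka xa3 ya12 za33) (ka xa6 ya20 za45) (ka xa6 ya19 za47) (ka xa2 ya41 za43) (ka xa4 ya17 za57) (ka xa3 ya28 za38) (ka xa1 ya30 za11)) (@D3.rec (fun _ => Pt) (ka xa6 ya20 za52) (ka xa3 ya13 za29) (ka xa3 ya1 za28) (ka xa3 ya9 za32) (ka xa1 ya30 za14) (ka xa6 ya20 za54) (ka xa1 ya37 za43) (ka xa3 ya35 za25) (ka xa4 ya43 za23) (ka xa4 ya44 za36) (ka xa3 ya7 za30) (ka xa6 ya21 za3) (ka xa1 ya30 za21) (ka xa1 ya30 za22) (ka xa3 ya16 za3) (ka xa6 ya21 za5) (ka xa3 ya17 za14)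 (ka xa3 ya28 za57) (ka xa6 ya21 za6) (ka xa3 ya28 za55) (ka xa3 ya9 za19) (ka xa3 ya9 za20) (ka xa3 ya9 za18) (ka xa3 ya9 za21) (ka xa4 ya42 za5) (ka xa1 ya30 za25) (ka xa6 ya21 za24) (ka xa6 ya21 za25) (ka xa3 ya45 za36) (ka xa6 ya21 za37) (ka xa2 ya51 za26) (ka xa2 ya51 za27) (ka xa4 ya42 za2) (ka xa4 ya42 za3) (ka xa4 ya42 za4) (ka xa3 ya13 za16) (ka xa3 ya13 za1) (ka xa3 ya23 za18) (ka xa1 ya30 za29) (ka xa6 ya21 za51) (ka xa6 ya21 za52) (ka xa6 ya21 za53) (ka xa6 ya22 za2) (ka xa2 ya51 za29) (ka xa2 ya51 za30) (ka xa4 ya42 za9) (ka xa4 ya12 za46) (ka xa4 ya41 za53) (ka xa6 ya22 za11) (ka xa3 ya19 za36) (ka xa3 ya13 za24) (ka xa6 ya22 za15) (ka xa3 ya19 za37) (ka xa4 ya42 za11) (ka xa4 ya42 za12) (ka xa6 ya22 za25) (ka xa4 ya42 za14) (ka xa4 ya42 za15) (ka xa3 ya1 za31) (ka xa1 ya30 za39) (ka xa3 ya6 za35) (ka xa6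 ya22 za32)) (@D3.rec (fun _ => Pt) (ka xa3 ya28 za44) (ka xa6 ya22 za41) (ka xa4 ya41 za55) (ka xa1 ya31 za60) (ka xa3 ya11 za40) (ka xa1 ya30 za44) (ka xa3 ya23 za59) (ka xa6 ya22 za47) (ka xa6 ya22 za48) (ka xa6 ya22 za61) (ka xa4 ya42 za21) (ka xa4 ya42 za22) (ka xa4 ya42 za23) (ka xa4 ya41 za57) (ka xa1 ya30 za47) (ka xa6 ya23 za8) (ka xa6 ya23 za9) (ka xa6 ya23 za20) (ka xa3 ya8 za22) (ka xa3 ya8 za20) (ka xa3 ya8 za21) (ka xa3 ya8 za23) (ka xa6 ya23 za26) (ka xa6 ya23 za31) (ka xa1 ya30 za50) (ka xa6 ya23 za36) (ka xa6 ya23 za25) (ka xa4 ya12 za26) (ka xa3 ya22 za31) (ka xa4 ya18 za16) (ka xa4 ya18 za15) (ka xa1 ya30 za54) (ka xa3 ya8 za3) (ka xa1 ya30 za57) (ka xa6 ya23 za53) (ka xa3 ya1 za19) (ka xa6 ya23 za61) (ka xa3 ya35 za22) (ka xa3 ya35 za23) (ka xa3 ya35 za24) (ka xa4 ya11 za38) (ka xa1 ya31 za0) (ka xa6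 ya24 za3) (ka xa6 ya24 za4) (ka xa6 ya24 za14) (ka xa4 ya42 za31) (ka xa4 ya42 za32) (ka xa4 ya42 za33) (ka xa4 ya42 za34) (ka xa2 ya16 za51) (ka xa4 ya24 za11) (ka xa2 ya14 za7) (ka xa2 ya54 za27) (ka xa4 ya23 za57) (ka xa4 ya42 za51) (ka xa2 ya54 za26) (ka xa4 ya23 za55) (ka xa1 ya31 za7) (ka xa6 ya24 za37) (ka xa6 ya24 za38) (ka xa2 ya49 za59) (ka xa5 ya46 za47)) (@D3.rec (fun _ => Pt) (ka xa4 ya24 za24) (ka xa4 ya24 za25) (ka xa4 ya24 za26) (ka xa4 ya24 za27) (ka xa4 ya23 za52) (ka xa1 ya56 za52) (ka xa4 ya24 za30) (ka xa4 ya24 za31) (ka xa4 ya24 za32) (ka xa4 ya23 za7) (ka xa4 ya41 za19) (ka xa4 ya41 za18) (ka xa4 ya41 za21) (ka xa2 ya54 za37) (ka xa2 ya54 za38) (ka xa4 ya41 za20) (ka xa4 ya22 za26) (ka xa2 ya54 za34) (ka xa2 ya54 za35) (ka xa2 ya47 za0) (ka xa4 ya42 za59) (ka xa2 ya51 za16) (ka xa6 ya25 za26) (ka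 xa4 ya42 za61) (ka xa1 ya31 za25) (ka xa4 ya0 za24) (ka xa6 ya25 za31) (ka xa2 ya51 za37) (ka xa2 ya30 za40) (ka xa2 ya49 za19) (ka xa3 ya25 za15) (ka xa1 ya34 za44) (ka xa3 ya1 za25) (ka xa3 ya13 za52) (ka xa3 ya11 za24) (ka xa3 ya28 za33) (ka xa3 ya15 za45) (ka xa3 ya10 za57) (ka xa3 ya12 za54) (ka xa3 ya10 za59) (ka xa1 ya31 za59) (ka xa4 ya41 za44) (ka xa2 ya21 za1) (ka xa6 ya25 za51) (ka xa3 ya21 za31) (ka xa6 ya25 za56) (ka xa6 ya25 za58) (ka xa3 ya21 za33) (ka xa3 ya44 za50) (ka xa2 ya53 za60) (ka xa2 ya53 za57) (ka xa6 ya3 za23) (ka xa6 ya2 za60) (ka xa6 ya3 za20) (ka xa3 ya25 za1) (ka xa1 ya35 za53) (ka xa3 ya22 za50) (ka xa3 ya10 za37) (ka xa2 ya18 za19) (ka xa3 ya10 za39) (ka xa1 ya49 za41) (ka xa4 ya18 za11)) (@D3.rec (fun _ => Pt) (ka xa4 ya43 za44) (ka xa6 ya26 za18) (ka xa4 ya41 za56) (ka xa6 ya20 za57)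 (ka xa6 ya26 za24) (ka xa6 ya22 za44) (ka xa2 ya6 za48) (ka xa3 ya23 za27) (ka xa3 ya19 za2) (ka xa3 ya39 za58) (ka xa6 ya26 za34) (ka xa2 ya50 za28) (ka xa4 ya43 za27) (ka xa4 ya43 za28) (ka xa4 ya43 za29) (ka xa4 ya43 za25) (ka xa1 ya32 za2) (ka xa6 ya26 za45) (ka xa6 ya26 za46) (ka xa6 ya26 za47) (ka xa6 ya26 za56) (ka xa2 ya50 za30) (ka xa2 ya50 za31) (ka xa4 ya43 za32) (ka xa3 ya10 za34) (ka xa6 ya27 za3) (ka xa3 ya20 za9) (ka xa3 ya13 za6) (ka xa4 ya13 za16) (ka xa6 ya27 za9) (ka xa3 ya20 za10) (ka xa4 ya41 za52) (ka xa4 ya43 za35) (ka xa4 ya43 za36) (ka xa6 ya27 za22) (ka xa4 ya43 za38) (ka xa4 ya43 za39) (ka xa2 ya7 za17) (ka xa1 ya42 za4) (ka xa1 ya32 za12) (ka xa3 ya9 za4) (ka xa3 ya6 za49) (ka xa6 ya27 za29) (ka xa6 ya27 za30) (ka xa6 ya27 za46) (ka xa3 ya6 za46) (ka xa2 ya18 za12) (ka xa3 ya6 za45) (ka xa3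 ya6 za47) (ka xa1 ya32 za17) (ka xa3 ya6 za22) (ka xa3 ya6 za37) (ka xa6 ya27 za50) (ka xa6 ya27 za61) (ka xa6 ya23 za38) (ka xa6 ya23 za37) (ka xa1 ya32 za19) (ka xa4 ya12 za47) (ka xa3 ya6 za26) (ka xa1 ya49 za56) (ka xa3 ya7 za1) (ka xa4 ya43 za59)) (@D3.rec (fun _ => Pt) (ka xa1 ya33 za52) (ka xa1 ya33 za53) (ka xa4 ya43 za21) (ka xa5 ya55 za51) (ka xa1 ya32 za43) (ka xa1 ya32 za44) (ka xa6 ya9 za31) (ka xa3 ya1 za52) (ka xa1 ya35 za19) (ka xa3 ya7 za13) (ka xa3 ya7 za14) (ka xa3 ya6 za59) (ka xa3 ya7 za15) (ka xa3 ya7 za16) (ka xa1 ya32 za37) (ka xa2 ya20 za31) (ka xa6 ya28 za31) (ka xa6 ya28 za39) (ka xa1 ya35 za21) (ka xa3 ya7 za7) (ka xa3 ya7 za8) (ka xa3 ya6 za42) (ka xa3 ya7 za9) (ka xa3 ya7 za10) (ka xa6 ya28 za52) (ka xa3 ya7 za46) (ka xa4 ya43 za56) (ka xa3 ya20 za25) (ka xa3 ya7 za45) (ka xa4 ya43 za55) (ka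 xa6 ya28 za13) (ka xa6 ya29 za6) (ka xa6 ya28 za15) (ka xa3 ya7 za55) (ka xa6 ya28 za16) (ka xa1 ya32 za46) (ka xa1 ya32 za47) (ka xa6 ya18 za26) (ka xa6 ya29 za17) (ka xa6 ya29 za18) (ka xa6 ya29 za19) (ka xa6 ya29 za20) (ka xa3 ya6 za60) (ka xa3 ya6 za61) (ka xa3 ya6 za41) (ka xa3 ya6 za39) (ka xa1 ya32 za52) (ka xa1 ya32 za53) (ka xa3 ya24 za43) (ka xa6 ya29 za35) (ka xa6 ya29 za36) (ka xa6 ya29 za37) (ka xa6 ya29 za38) (ka xa3 ya6 za40) (ka xa3 ya10 za38) (ka xa3 ya6 za43) (ka xa3 ya6 za44) (ka xa1 ya32 za57) (ka xa3 ya15 za40) (ka xa6 ya29 za52) (ka xa6 ya29 za53) (ka xa6 ya30 za3)) (@D3.rec (fun _ => Pt) (ka xa2 ya52 za38) (ka xa3 ya8 za36) (ka xa1 ya38 za27) (ka xa4 ya43 za49) (ka xa2 ya18 za10) (ka xa4 ya43 za50) (ka xa3 ya11 za27) (ka xa3 ya22 za57) (ka xa1 ya32 za61) (ka xa3 ya14 za13) (ka xa6 ya30 za8) (ka xa6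 ya30 za9) (ka xa6 ya30 za21) (ka xa2 ya42 za35) (ka xa2 ya52 za40) (ka xa4 ya43 za52) (ka xa3 ya8 za35) (ka xa4 ya43 za53) (ka xa3 ya42 za59) (ka xa4 ya43 za43) (ka xa3 ya25 za0) (ka xa6 ya30 za32) (ka xa2 ya52 za11) (ka xa2 ya52 za12) (ka xa3 ya8 za50) (ka xa1 ya49 za50) (ka xa6 ya30 za38) (ka xa2 ya52 za14) (ka xa2 ya52 za15) (ka xa3 ya8 za1) (ka xa3 ya5 za49) (ka xa1 ya43 za15) (ka xa1 ya45 za59) (ka xa3 ya39 za55) (ka xa3 ya39 za56) (ka xa6 ya30 za50) (ka xa3 ya43 za4) (ka xa3 ya43 za5) (ka xa1 ya37 za16) (ka xa3 ya43 za6) (ka xa3 ya43 za7) (ka xa1 ya37 za23) (ka xa3 ya43 za9) (ka xa3 ya23 za13) (ka xa3 ya21 za18) (ka xa5 ya44 za27) (ka xa3 ya42 za61) (ka xa3 ya43 za0) (ka xa5 ya52 za1) (ka xa1 ya33 za39) (ka xa1 ya33 za40) (ka xa1 ya33 za41) (ka xa3 ya10 za33) (ka xa3 ya22 za61) (ka xa3 ya39 za54) (ka xa6 ya31 za22)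 (ka xa3 ya43 za17) (ka xa3 ya43 za18) (ka xa3 ya22 za54) (ka xa3 ya43 za29) (ka xa6 ya31 za36) (ka xa3 ya43 za11)) (@D3.rec (fun _ => Pt) (ka xa3 ya43 za12) (ka xa3 ya6 za6) (ka xa3 ya43 za14) (ka xa3 ya43 za15) (ka xa6 ya31 za47) (ka xa3 ya19 za6) (ka xa3 ya43 za24) (ka xa6 ya31 za54) (ka xa3 ya19 za5) (ka xa3 ya43 za22) (ka xa3 ya42 za20) (ka xa3 ya42 za6) (ka xa3 ya44 za11) (ka xa3 ya13 za9) (ka xa6 ya31 za13) (ka xa6 ya31 za14) (ka xa4 ya44 za33) (ka xa6 ya10 za28) (ka xa6 ya31 za15) (ka xa6 ya31 za16) (ka xa6 ya31 za17) (ka xa6 ya31 za18) (ka xa3 ya19 za15) (ka xa6 ya12 za25) (ka xa4 ya44 za22) (ka xa3 ya21 za47) (ka xa4 ya44 za23) (ka xa3 ya20 za60) (ka xa3 ya19 za33) (ka xa3 ya20 za5) (ka xa6 ya10 za37) (ka xa3 ya16 za55) (ka xa6 ya10 za38) (ka xa2 ya57 za22) (ka xa3 ya19 za28) (ka xa4 ya43 za5) (ka xa3 ya28 za34)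 (ka xa3 ya23 za20) (ka xa4 ya44 za4) (ka xa6 ya18 za3) (ka xa1 ya35 za14) (ka xa6 ya9 za58) (ka xa3 ya50 za58) (ka xa3 ya29 za18) (ka xa4 ya43 za60) (ka xa4 ya44 za0) (ka xa1 ya37 za25) (ka xa1 ya37 za28) (ka xa4 ya44 za1) (ka xa5 ya51 za3) (ka xa1 ya34 za4) (ka xa1 ya49 za45) (ka xa3 ya22 za58) (ka xa4 ya44 za11) (ka xa3 ya6 za4) (ka xa4 ya44 za13) (ka xa4 ya44 za14) (ka xa4 ya44 za26) (ka xa4 ya44 za27) (ka xa3 ya27 za3) (ka xa1 ya51 za6) (ka xa4 ya44 za7)) (@D3.rec (fun _ => Pt) (ka xa3 ya47 za1) (ka xa3 ya48 za33) (ka xa4 ya44 za15) (ka xa1 ya41 za26) (ka xa6 ya33 za10) (ka xa4 ya44 za8) (ka xa4 ya44 za9) (ka xa4 ya37 za40) (ka xa1 ya35 za38) (ka xa1 ya35 za47) (ka xa1 ya35 za48) (ka xa1 ya35 za49) (ka xa1 ya35 za46) (ka xa1 ya35 za57) (ka xa4 ya44 za2) (ka xa3 ya18 za26) (ka xa6 ya33 za57) (ka xa6 ya18 za24) (ka xa6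 ya10 za36) (ka xa1 ya45 za12) (ka xa1 ya44 za2) (ka xa3 ya24 za37) (ka xa1 ya42 za59) (ka xa6 ya34 za7) (ka xa1 ya41 za42) (ka xa3 ya25 za26) (ka xa3 ya25 za28) (ka xa6 ya34 za13) (ka xa3 ya16 za47) (ka xa3 ya45 za19) (ka xa6 ya34 za18) (ka xa3 ya16 za46) (ka xa3 ya45 za24) (ka xa4 ya35 za27) (ka xa1 ya34 za31) (ka xa6 ya34 za25) (ka xa3 ya45 za5) (ka xa3 ya45 za10) (ka xa6 ya10 za34) (ka xa3 ya45 za35) (ka xa3 ya12 za58) (ka xa6 ya10 za35) (ka xa4 ya44 za24) (ka xa3 ya18 za39) (ka xa4 ya44 za25) (ka xa3 ya10 za36) (ka xa6 ya34 za52) (ka xa5 ya14 za47) (ka xa6 ya34 za55) (ka xa1 ya46 za49) (ka xa6 ya10 za30) (ka xa6 ya10 za29) (ka xa1 ya34 za41) (ka xa6 ya2 za17) (ka xa6 ya34 za61) (ka xa6 ya10 za25) (ka xa6 ya10 za24) (ka xa3 ya7 za28) (ka xa6 ya25 za38) (ka xa6 ya35 za14) (ka xa1 ya35 za2) (ka xa1 ya35 za3)) (@D3.rec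 (fun _ => Pt) (ka xa1 ya35 za5) (ka xa1 ya35 za6) (ka xa1 ya35 za7) (ka xa3 ya8 za14) (ka xa6 ya2 za20) (ka xa1 ya35 za12) (ka xa1 ya35 za13) (ka xa1 ya35 za16) (ka xa1 ya35 za17) (ka xa1 ya35 za20) (ka xa6 ya28 za40) (ka xa1 ya35 za22) (ka xa1 ya35 za23) (ka xa6 ya33 za40) (ka xa6 ya33 za39) (ka xa1 ya34 za52) (ka xa6 ya35 za50) (ka xa6 ya35 za51) (ka xa1 ya35 za32) (ka xa1 ya35 za34) (ka xa1 ya35 za35) (ka xa1 ya35 za36) (ka xa1 ya35 za37) (ka xa3 ya18 za33) (ka xa1 ya35 za40) (ka xa1 ya35 za41) (ka xa1 ya35 za43) (ka xa1 ya35 za45) (ka xa1 ya34 za59) (ka xa1 ya34 za60) (ka xa1 ya37 za36) (ka xa6 ya36 za24) (ka xa6 ya29 za21) (ka xa6 ya36 za17) (ka xa6 ya36 za18) (ka xa4 ya47 za56) (ka xa6 ya36 za19) (ka xa6 ya33 za45) (ka xa6 ya36 za39) (ka xa3 ya45 za6) (ka xa6 ya36 za41) (ka xa3 ya45 za11) (ka xa4 ya38 za32) (ka xa1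 ya35 za1) (ka xa2 ya54 za39) (ka xa6 ya36 za46) (ka xa3 ya15 za31) (ka xa3 ya15 za28) (ka xa6 ya35 za17) (ka xa6 ya35 za18) (ka xa6 ya35 za19) (ka xa6 ya35 za20) (ka xa6 ya35 za21) (ka xa4 ya48 za1) (ka xa4 ya48 za2) (ka xa3 ya14 za31) (ka xa6 ya35 za22) (ka xa6 ya35 za23) (ka xa4 ya48 za8) (ka xa6 ya35 za24) (ka xa6 ya35 za25) (ka xa4 ya11 za15)) (@D3.rec (fun _ => Pt) (ka xa1 ya35 za9) (ka xa1 ya35 za10) (ka xa6 ya37 za27) (ka xa6 ya28 za23) (ka xa6 ya37 za24) (ka xa6 ya30 za28) (ka xa4 ya17 za35) (ka xa4 ya17 za34) (ka xa6 ya35 za13) (ka xa6 ya35 za2) (ka xa1 ya35 za11) (ka xa6 ya37 za38) (ka xa6 ya37 za39) (ka xa6 ya35 za28) (ka xa3 ya8 za16) (ka xa6 ya35 za29) (ka xa6 ya35 za30) (ka xa6 ya35 za31) (ka xa6 ya32 za50) (ka xa6 ya32 za51) (ka xa4 ya48 za32) (ka xa4 ya48 za33) (ka xa3 ya18 za27) (ka xa6 ya35 za32) (ka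 xa4 ya48 za36) (ka xa6 ya35 za33) (ka xa6 ya35 za34) (ka xa6 ya35 za38) (ka xa6 ya35 za37) (ka xa1 ya35 za18) (ka xa3 ya49 za60) (ka xa3 ya7 za12) (ka xa6 ya38 za21) (ka xa6 ya28 za21) (ka xa6 ya35 za35) (ka xa6 ya35 za36) (ka xa6 ya28 za22) (ka xa6 ya28 za42) (ka xa6 ya35 za40) (ka xa6 ya35 za41) (ka xa6 ya21 za12) (ka xa6 ya38 za52) (ka xa4 ya38 za4) (ka xa4 ya38 za5) (ka xa4 ya38 za6) (ka xa5 ya56 za36) (ka xa4 ya38 za1) (ka xa4 ya38 za2) (ka xa1 ya35 za27) (ka xa1 ya35 za28) (ka xa4 ya38 za8) (ka xa4 ya38 za7) (ka xa4 ya26 za19) (ka xa6 ya39 za6) (ka xa6 ya39 za7) (ka xa6 ya39 za8) (ka xa6 ya39 za9) (ka xa6 ya39 za10) (ka xa3 ya7 za34) (ka xa6 ya10 za48) (ka xa6 ya10 za45) (ka xa3 ya26 za12)) (@D3.rec (fun _ => Pt) (ka xa1 ya52 za38) (ka xa6 ya35 za59) (ka xa6 ya35 za60) (ka xa6 ya35 za61) (ka xa6 ya36 za0) (ka xa1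 ya52 za33) (ka xa6 ya40 za3) (ka xa3 ya23 za47) (ka xa6 ya36 za1) (ka xa5 ya4 za5) (ka xa6 ya40 za14) (ka xa6 ya26 za53) (ka xa6 ya36 za3) (ka xa6 ya36 za4) (ka xa6 ya36 za5) (ka xa6 ya36 za6) (ka xa6 ya36 za7) (ka xa6 ya36 za8) (ka xa6 ya33 za43) (ka xa6 ya26 za43) (ka xa6 ya18 za5) (ka xa6 ya33 za42) (ka xa3 ya18 za38) (ka xa6 ya36 za9) (ka xa6 ya40 za48) (ka xa6 ya36 za11) (ka xa3 ya15 za15) (ka xa3 ya17 za22) (ka xa6 ya36 za12) (ka xa3 ya18 za40) (ka xa6 ya30 za27) (ka xa1 ya35 za42) (ka xa6 ya40 za58) (ka xa3 ya16 za23) (ka xa6 ya40 za59) (ka xa6 ya41 za3) (ka xa6 ya36 za14) (ka xa6 ya36 za15) (ka xa3 ya18 za22) (ka xa3 ya15 za43) (ka xa3 ya18 za29) (ka xa6 ya33 za50) (ka xa6 ya33 za44) (ka xa4 ya17 za33) (ka xa6 ya33 za46) (ka xa6 ya33 za47) (ka xa6 ya33 za48) (ka xa6 ya11 za23) (ka xa6 ya33 za49) (ka xa6 ya18 za2)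 (ka xa3 ya1 za41) (ka xa6 ya11 za45) (ka xa6 ya10 za3) (ka xa6 ya11 za47) (ka xa6 ya11 za46) (ka xa6 ya41 za45) (ka xa6 ya33 za52) (ka xa4 ya34 za40) (ka xa1 ya36 za1) (ka xa1 ya36 za2) (ka xa1 ya36 za3) (ka xa1 ya36 za4)) (@D3.rec (fun _ => Pt) (ka xa1 ya36 za5) (ka xa6 ya42 za4) (ka xa3 ya11 za8) (ka xa6 ya42 za10) (ka xa3 ya42 za7) (ka xa3 ya14 za8) (ka xa3 ya14 za5) (ka xa3 ya55 za8) (ka xa6 ya41 za54) (ka xa6 ya41 za55) (ka xa6 ya41 za56) (ka xa6 ya41 za57) (ka xa6 ya20 za29) (ka xa6 ya41 za58) (ka xa6 ya41 za59) (ka xa3 ya14 za22) (ka xa4 ya45 za31) (ka xa6 ya41 za60) (ka xa5 ya39 za53) (ka xa6 ya41 za61) (ka xa6 ya42 za0) (ka xa6 ya42 za1) (ka xa4 ya52 za34) (ka xa4 ya45 za50) (ka xa4 ya45 za51) (ka xa4 ya45 za52) (ka xa4 ya48 za3) (ka xa4 ya48 za4) (ka xa3 ya14 za34) (ka xa4 ya48 za5) (ka xa4 ya48 za6) (ka xa4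 ya44 za61) (ka xa4 ya48 za7) (ka xa3 ya14 za28) (ka xa4 ya45 za56) (ka xa3 ya3 za2) (ka xa3 ya8 za49) (ka xa3 ya8 za52) (ka xa6 ya43 za2) (ka xa4 ya48 za10) (ka xa4 ya48 za11) (ka xa3 ya22 za29) (ka xa5 ya48 za6) (ka xa1 ya36 za19) (ka xa1 ya36 za20) (ka xa1 ya36 za22) (ka xa1 ya50 za27) (ka xa4 ya47 za48) (ka xa4 ya46 za5) (ka xa1 ya50 za42) (ka xa6 ya43 za14) (ka xa4 ya45 za35) (ka xa6 ya43 za15) (ka xa6 ya43 za16) (ka xa4 ya47 za25) (ka xa4 ya47 za11) (ka xa4 ya47 za23) (ka xa6 ya43 za17) (ka xa6 ya42 za51) (ka xa6 ya43 za18) (ka xa4 ya47 za26) (ka xa4 ya48 za29)) (@D3.rec (fun _ => Pt) (ka xa4 ya48 za30) (ka xa4 ya48 za31) (ka xa4 ya46 za9) (ka xa4 ya46 za10) (ka xa4 ya48 za34) (ka xa3 ya14 za29) (ka xa4 ya48 za35) (ka xa4 ya46 za12) (ka xa4 ya48 za37) (ka xa3 ya11 za26) (ka xa3 ya11 za30) (ka xa6 ya44 za5) (ka xa4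 ya48 za39) (ka xa4 ya48 za40) (ka xa4 ya48 za41) (ka xa4 ya35 za52) (ka xa3 ya23 za34) (ka xa4 ya38 za51) (ka xa4 ya37 za49) (ka xa4 ya37 za48) (ka xa4 ya37 za56) (ka xa4 ya37 za57) (ka xa4 ya37 za58) (ka xa4 ya37 za60) (ka xa6 ya20 za21) (ka xa3 ya12 za27) (ka xa4 ya37 za50) (ka xa4 ya37 za52) (ka xa4 ya37 za53) (ka xa4 ya37 za54) (ka xa1 ya36 za38) (ka xa1 ya36 za39) (ka xa1 ya36 za41) (ka xa6 ya44 za52) (ka xa6 ya44 za45) (ka xa5 ya6 za27) (ka xa6 ya44 za46) (ka xa5 ya6 za40) (ka xa6 ya44 za48) (ka xa6 ya44 za49) (ka xa6 ya44 za50) (ka xa6 ya6 za44) (ka xa4 ya49 za21) (ka xa1 ya36 za42) (ka xa6 ya45 za13) (ka xa6 ya45 za14) (ka xa6 ya45 za15) (ka xa4 ya49 za17) (ka xa4 ya49 za18) (ka xa4 ya49 za19) (ka xa4 ya49 za20) (ka xa3 ya2 za40) (ka xa3 ya24 za13) (ka xa4 ya49 za13) (ka xa1 ya36 za45) (ka xa6 ya45 za41) (ka xa6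 ya45 za42) (ka xa6 ya45 za43) (ka xa4 ya49 za26) (ka xa4 ya49 za27) (ka xa3 ya14 za27) (ka xa4 ya49 za28)) (@D3.rec (fun _ => Pt) (ka xa6 ya6 za38) (ka xa4 ya49 za30) (ka xa4 ya49 za31) (ka xa4 ya49 za32) (ka xa6 ya46 za0) (ka xa4 ya49 za34) (ka xa4 ya49 za35) (ka xa4 ya49 za36) (ka xa4 ya49 za37) (ka xa6 ya46 za10) (ka xa4 ya49 za39) (ka xa4 ya49 za40) (ka xa4 ya49 za41) (ka xa4 ya49 za57) (ka xa1 ya36 za54) (ka xa1 ya36 za55) (ka xa4 ya7 za13) (ka xa4 ya47 za15) (ka xa3 ya13 za44) (ka xa3 ya21 za22) (ka xa3 ya23 za43) (ka xa6 ya32 za19) (ka xa3 ya21 za19) (ka xa6 ya46 za27) (ka xa4 ya49 za47) (ka xa1 ya36 za58) (ka xa6 ya46 za32) (ka xa4 ya49 za51) (ka xa4 ya49 za52) (ka xa4 ya49 za53) (ka xa4 ya49 za54) (ka xa3 ya10 za44) (ka xa3 ya21 za57) (ka xa3 ya10 za47) (ka xa2 ya57 za9) (ka xa3 ya2 za51) (ka xa6 ya46 za53) (ka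 xa4 ya49 za56) (ka xa3 ya21 za55) (ka xa4 ya49 za42) (ka xa1 ya37 za6) (ka xa1 ya37 za8) (ka xa4 ya49 za43) (ka xa6 ya47 za3) (ka xa6 ya46 za59) (ka xa6 ya46 za60) (ka xa2 ya21 za30) (ka xa3 ya14 za25) (ka xa4 ya49 za48) (ka xa1 ya37 za9) (ka xa6 ya5 za36) (ka xa6 ya47 za19) (ka xa4 ya50 za1) (ka xa4 ya50 za2) (ka xa2 ya42 za33) (ka xa3 ya21 za38) (ka xa6 ya47 za34) (ka xa3 ya21 za32) (ka xa4 ya50 za3) (ka xa6 ya30 za57) (ka xa6 ya30 za58) (ka xa4 ya45 za33)) (@D3.rec (fun _ => Pt) (ka xa4 ya50 za4) (ka xa4 ya50 za5) (ka xa4 ya50 za6) (ka xa4 ya50 za9) (ka xa6 ya30 za59) (ka xa4 ya50 za11) (ka xa4 ya50 za12) (ka xa6 ya32 za59) (ka xa4 ya50 za14) (ka xa4 ya50 za15) (ka xa4 ya50 za16) (ka xa6 ya47 za61) (ka xa4 ya50 za18) (ka xa3 ya1 za9) (ka xa3 ya1 za7) (ka xa6 ya31 za0) (ka xa6 ya48 za12) (ka xa3 ya1 za18) (ka xa6 ya32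 za61) (ka xa6 ya33 za0) (ka xa6 ya48 za24) (ka xa4 ya50 za20) (ka xa4 ya50 za21) (ka xa6 ya33 za1) (ka xa6 ya33 za2) (ka xa6 ya48 za37) (ka xa4 ya50 za24) (ka xa4 ya50 za25) (ka xa4 ya50 za26) (ka xa3 ya19 za41) (ka xa6 ya48 za47) (ka xa3 ya9 za28) (ka xa6 ya13 za2) (ka xa6 ya13 za1) (ka xa1 ya37 za32) (ka xa1 ya37 za37) (ka xa3 ya6 za20) (ka xa3 ya6 za21) (ka xa3 ya6 za16) (ka xa3 ya6 za17) (ka xa6 ya21 za8) (ka xa6 ya36 za21) (ka xa6 ya40 za17) (ka xa6 ya40 za7) (ka xa6 ya48 za60) (ka xa3 ya7 za37) (ka xa1 ya37 za44) (ka xa3 ya1 za29) (ka xa6 ya49 za8) (ka xa6 ya49 za14) (ka xa3 ya10 za56) (ka xa3 ya1 za2) (ka xa1 ya38 za10) (ka xa1 ya38 za14) (ka xa3 ya13 za58) (ka xa3 ya44 za51) (ka xa2 ya19 za41) (ka xa3 ya13 za7) (ka xa3 ya14 za52) (ka xa5 ya55 za20) (ka xa3 ya44 za58) (ka xa3 ya13 za53)) (@D3.rec (fun _ => Pt) (ka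 xa1 ya40 za61) (ka xa1 ya38 za0) (ka xa1 ya38 za1) (ka xa1 ya38 za3) (ka xa1 ya38 za4) (ka xa1 ya38 za6) (ka xa6 ya49 za39) (ka xa1 ya38 za9) (ka xa1 ya38 za11) (ka xa1 ya38 za12) (ka xa1 ya38 za13) (ka xa1 ya41 za2) (ka xa3 ya25 za29) (ka xa3 ya13 za43) (ka xa2 ya55 za34) (ka xa6 ya49 za33) (ka xa2 ya18 za20) (ka xa6 ya27 za35) (ka xa3 ya8 za37) (ka xa1 ya38 za2) (ka xa3 ya14 za37) (ka xa6 ya49 za59) (ka xa6 ya25 za61) (ka xa2 ya53 za59) (ka xa6 ya49 za34) (ka xa2 ya19 za29) (ka xa6 ya49 za35) (ka xa3 ya11 za7) (ka xa6 ya50 za16) (ka xa3 ya55 za41) (ka xa4 ya45 za29) (ka xa5 ya54 za35) (ka xa3 ya55 za48) (ka xa4 ya50 za7) (ka xa3 ya20 za16) (ka xa3 ya59 za47) (ka xa1 ya38 za7) (ka xa6 ya50 za26) (ka xa6 ya50 za27) (ka xa3 ya50 za60) (ka xa3 ya43 za28) (ka xa3 ya51 za0) (ka xa1 ya40 za16) (ka xa3 ya21 za20) (ka xa6 ya8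 za2) (ka xa6 ya46 za18) (ka xa4 ya48 za17) (ka xa3 ya18 za7) (ka xa6 ya49 za42) (ka xa3 ya40 za27) (ka xa3 ya23 za53) (ka xa6 ya50 za47) (ka xa6 ya49 za43) (ka xa3 ya23 za50) (ka xa6 ya30 za13) (ka xa6 ya49 za18) (ka xa6 ya49 za17) (ka xa3 ya42 za4) (ka xa3 ya6 za51) (ka xa3 ya9 za6) (ka xa3 ya59 za45) (ka xa3 ya59 za46)) (@D3.rec (fun _ => Pt) (ka xa5 ya47 za42) (ka xa3 ya59 za42) (ka xa3 ya59 za43) (ka xa1 ya38 za20) (ka xa6 ya46 za26) (ka xa6 ya46 za25) (ka xa6 ya51 za5) (ka xa1 ya59 za58) (ka xa5 ya0 za22) (ka xa5 ya0 za23) (ka xa3 ya7 za38) (ka xa1 ya38 za22) (ka xa6 ya51 za19) (ka xa3 ya20 za52) (ka xa2 ya19 za22) (ka xa2 ya57 za34) (ka xa2 ya18 za13) (ka xa3 ya1 za33) (ka xa2 ya20 za39) (ka xa2 ya20 za52) (ka xa3 ya26 za1) (ka xa3 ya31 za51) (ka xa3 ya31 za52) (ka xa3 ya32 za7) (ka xa2 ya22 za52) (ka xa3 ya27 za51)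 (ka xa1 ya49 za14) (ka xa3 ya28 za15) (ka xa1 ya38 za48) (ka xa1 ya38 za49) (ka xa1 ya38 za50) (ka xa1 ya38 za51) (ka xa1 ya38 za52) (ka xa1 ya39 za26) (ka xa6 ya51 za41) (ka xa1 ya39 za44) (ka xa1 ya39 za45) (ka xa3 ya15 za21) (ka xa3 ya45 za45) (ka xa1 ya39 za29) (ka xa1 ya39 za30) (ka xa6 ya32 za55) (ka xa3 ya25 za21) (ka xa3 ya12 za48) (ka xa6 ya51 za34) (ka xa3 ya30 za37) (ka xa6 ya51 za35) (ka xa6 ya51 za36) (ka xa6 ya51 za37) (ka xa3 ya30 za20) (ka xa6 ya51 za38) (ka xa3 ya54 za43) (ka xa3 ya39 za11) (ka xa3 ya35 za33) (ka xa6 ya51 za39) (ka xa3 ya31 za16) (ka xa1 ya54 za20) (ka xa3 ya35 za52) (ka xa3 ya35 za53) (ka xa3 ya35 za54) (ka xa3 ya32 za43) (ka xa3 ya32 za27)) (@D3.rec (fun _ => Pt) (ka xa3 ya13 za20) (ka xa3 ya10 za54) (ka xa3 ya25 za17) (ka xa1 ya39 za5) (ka xa1 ya39 za7) (ka xa3 ya39 za61) (ka xa3 ya35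 za9) (ka xa3 ya1 za8) (ka xa3 ya28 za28) (ka xa3 ya25 za19) (ka xa3 ya32 za8) (ka xa3 ya56 za47) (ka xa3 ya48 za58) (ka xa6 ya52 za30) (ka xa3 ya6 za19) (ka xa3 ya10 za30) (ka xa3 ya32 za9) (ka xa3 ya25 za2) (ka xa1 ya39 za17) (ka xa3 ya25 za9) (ka xa3 ya37 za44) (ka xa3 ya24 za42) (ka xa6 ya52 za50) (ka xa1 ya40 za34) (ka xa1 ya43 za24) (ka xa1 ya44 za50) (ka xa3 ya15 za25) (ka xa1 ya46 za25) (ka xa3 ya15 za26) (ka xa3 ya23 za12) (ka xa3 ya43 za2) (ka xa2 ya55 za35) (ka xa2 ya55 za40) (ka xa6 ya7 za10) (ka xa3 ya46 za32) (ka xa3 ya26 za31) (ka xa6 ya51 za40) (ka xa2 ya55 za32) (ka xa3 ya40 za58) (ka xa5 ya51 za23) (ka xa2 ya51 za58) (ka xa1 ya39 za28) (ka xa2 ya50 za14) (ka xa6 ya53 za16) (ka xa3 ya55 za39) (ka xa3 ya40 za25) (ka xa6 ya51 za48) (ka xa6 ya51 za49) (ka xa3 ya41 za53) (ka xa6 ya51 za50) (ka xa3 ya39 za4)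 (ka xa1 ya45 za46) (ka xa1 ya44 za29) (ka xa1 ya45 za57) (ka xa1 ya45 za6) (ka xa1 ya39 za38) (ka xa1 ya42 za43) (ka xa6 ya53 za46) (ka xa3 ya42 za19) (ka xa3 ya43 za32) (ka xa1 ya46 za46) (ka xa6 ya27 za28)) (@D3.rec (fun _ => Pt) (ka xa6 ya53 za56) (ka xa3 ya24 za20) (ka xa3 ya29 za22) (ka xa1 ya39 za43) (ka xa6 ya53 za59) (ka xa6 ya53 za60) (ka xa6 ya51 za43) (ka xa6 ya51 za27) (ka xa6 ya51 za44) (ka xa6 ya51 za45) (ka xa1 ya46 za53) (ka xa1 ya46 za54) (ka xa3 ya17 za61) (ka xa3 ya44 za36) (ka xa1 ya40 za19) (ka xa1 ya40 za20) (ka xa1 ya40 za21) (ka xa3 ya51 za57) (ka xa1 ya40 za23) (ka xa1 ya40 za24) (ka xa1 ya40 za27) (ka xa3 ya50 za11) (ka xa1 ya43 za46) (ka xa3 ya50 za12) (ka xa3 ya49 za17) (ka xa3 ya55 za40) (ka xa3 ya40 za26) (ka xa3 ya50 za29) (ka xa2 ya50 za16) (ka xa1 ya39 za56) (ka xa6 ya54 za48) (ka xa3 ya25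 za35) (ka xa3 ya55 za49) (ka xa3 ya55 za50) (ka xa3 ya54 za36) (ka xa3 ya55 za51) (ka xa3 ya34 za58) (ka xa1 ya44 za11) (ka xa1 ya44 za12) (ka xa1 ya40 za1) (ka xa6 ya55 za12) (ka xa3 ya40 za52) (ka xa3 ya42 za12) (ka xa1 ya45 za31) (ka xa6 ya55 za7) (ka xa6 ya55 za8) (ka xa6 ya55 za9) (ka xa3 ya46 za59) (ka xa1 ya40 za2) (ka xa5 ya51 za20) (ka xa6 ya55 za23) (ka xa3 ya55 za42) (ka xa3 ya55 za43) (ka xa3 ya55 za44) (ka xa3 ya55 za45) (ka xa3 ya37 za58) (ka xa1 ya45 za53) (ka xa1 ya45 za54) (ka xa1 ya45 za56) (ka xa3 ya44 za29) (ka xa3 ya31 za48) (ka xa3 ya50 za47)) (@D3.rec (fun _ => Pt) (ka xa3 ya50 za24) (ka xa1 ya40 za8) (ka xa3 ya36 za44) (ka xa3 ya14 za59) (ka xa6 ya55 za57) (ka xa1 ya41 za45) (ka xa3 ya48 za14) (ka xa3 ya48 za15) (ka xa3 ya35 za0) (ka xa3 ya48 za12) (ka xa3 ya48 za11) (ka xa1 ya40 za11) (ka xa6 ya56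 za16) (ka xa3 ya50 za51) (ka xa3 ya50 za52) (ka xa3 ya37 za60) (ka xa4 ya44 za3) (ka xa3 ya44 za59) (ka xa3 ya50 za59) (ka xa6 ya56 za38) (ka xa6 ya0 za56) (ka xa6 ya0 za57) (ka xa6 ya56 za47) (ka xa3 ya52 za37) (ka xa3 ya52 za38) (ka xa6 ya56 za58) (ka xa6 ya54 za25) (ka xa3 ya34 za43) (ka xa6 ya54 za26) (ka xa6 ya54 za27) (ka xa6 ya54 za28) (ka xa6 ya54 za29) (ka xa3 ya51 za56) (ka xa3 ya51 za58) (ka xa3 ya51 za59) (ka xa6 ya54 za31) (ka xa6 ya57 za23) (ka xa6 ya54 za33) (ka xa3 ya27 za50) (ka xa1 ya55 za7) (ka xa6 ya54 za34) (ka xa1 ya44 za27) (ka xa3 ya56 za14) (ka xa1 ya40 za26) (ka xa3 ya42 za23) (ka xa6 ya57 za37) (ka xa6 ya57 za38) (ka xa6 ya57 za47) (ka xa6 ya54 za35) (ka xa3 ya35 za16) (ka xa3 ya27 za38) (ka xa3 ya24 za25) (ka xa3 ya31 za54) (ka xa3 ya38 za4) (ka xa3 ya31 za57) (ka xa3 ya28 za30) (ka xa3 ya31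 za58) (ka xa6 ya58 za4) (ka xa6 ya52 za60) (ka xa3 ya28 za7) (ka xa1 ya40 za37) (ka xa1 ya40 za38)) (@D3.rec (fun _ => Pt) (ka xa1 ya40 za39) (ka xa3 ya28 za10) (ka xa6 ya58 za11) (ka xa6 ya58 za12) (ka xa1 ya53 za29) (ka xa6 ya58 za13) (ka xa1 ya45 za36) (ka xa3 ya27 za59) (ka xa1 ya40 za42) (ka xa1 ya40 za43) (ka xa3 ya28 za1) (ka xa6 ya58 za29) (ka xa6 ya58 za30) (ka xa1 ya47 za48) (ka xa1 ya40 za44) (ka xa3 ya24 za27) (ka xa1 ya41 za54) (ka xa1 ya42 za2) (ka xa1 ya42 za3) (ka xa1 ya42 za1) (ka xa1 ya42 za7) (ka xa3 ya35 za36) (ka xa1 ya41 za6) (ka xa1 ya41 za8) (ka xa1 ya48 za58) (ka xa1 ya40 za57) (ka xa1 ya40 za58) (ka xa1 ya41 za0) (ka xa3 ya25 za8) (ka xa1 ya48 za13) (ka xa3 ya27 za55) (ka xa6 ya52 za46) (ka xa1 ya49 za52) (ka xa3 ya10 za35) (ka xa3 ya14 za36) (ka xa6 ya49 za31) (ka xa3 ya7 za25) (ka xa6 ya27 za33)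 (ka xa3 ya7 za60) (ka xa6 ya29 za60) (ka xa6 ya37 za1) (ka xa6 ya49 za44) (ka xa6 ya49 za45) (ka xa1 ya41 za12) (ka xa3 ya9 za0) (ka xa3 ya34 za24) (ka xa3 ya35 za26) (ka xa6 ya58 za51) (ka xa3 ya34 za30) (ka xa6 ya59 za17) (ka xa6 ya58 za53) (ka xa1 ya53 za28) (ka xa1 ya41 za11) (ka xa1 ya44 za0) (ka xa1 ya50 za30) (ka xa3 ya8 za19) (ka xa3 ya53 za37) (ka xa3 ya8 za17) (ka xa3 ya53 za36) (ka xa3 ya34 za26) (ka xa6 ya59 za36) (ka xa3 ya39 za46)) (@D3.rec (fun _ => Pt) (ka xa6 ya58 za42) (ka xa6 ya58 za41) (ka xa1 ya41 za15) (ka xa6 ya56 za5) (ka xa6 ya59 za48) (ka xa1 ya41 za48) (ka xa1 ya41 za50) (ka xa1 ya41 za51) (ka xa1 ya41 za52) (ka xa1 ya41 za53) (ka xa3 ya35 za37) (ka xa1 ya41 za56) (ka xa1 ya41 za57) (ka xa1 ya41 za58) (ka xa6 ya58 za54) (ka xa1 ya41 za60) (ka xa1 ya41 za61) (ka xa1 ya41 za23) (ka xa3 ya14 za43)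 (ka xa1 ya49 za16) (ka xa7 ya0 za18) (ka xa1 ya50 za0) (ka xa3 ya26 za2) (ka xa1 ya49 za59) (ka xa6 ya33 za33) (ka xa1 ya50 za5) (ka xa1 ya50 za4) (ka xa1 ya50 za29) (ka xa1 ya50 za31) (ka xa1 ya50 za32) (ka xa1 ya41 za31) (ka xa7 ya0 za42) (ka xa3 ya33 za7) (ka xa3 ya35 za40) (ka xa1 ya47 za46) (ka xa3 ya45 za1) (ka xa7 ya0 za39) (ka xa1 ya50 za25) (ka xa1 ya50 za24) (ka xa1 ya41 za32) (ka xa4 ya47 za47) (ka xa7 ya0 za52) (ka xa1 ya50 za6) (ka xa1 ya50 za7) (ka xa1 ya50 za8) (ka xa1 ya50 za9) (ka xa1 ya50 za10) (ka xa1 ya47 za57) (ka xa1 ya47 za58) (ka xa6 ya34 za6) (ka xa6 ya34 za5) (ka xa1 ya41 za37) (ka xa3 ya41 za0) (ka xa7 ya1 za18) (ka xa7 ya1 za19) (ka xa1 ya52 za31) (ka xa3 ya37 za51) (ka xa6 ya34 za54) (ka xa5 ya58 za40) (ka xa1 ya41 za40) (ka xa2 ya50 za12) (ka xa7 ya1 za35)) (@D3.rec (fun _ => Pt) (ka xa1 ya52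 za29) (ka xa6 ya34 za9) (ka xa3 ya37 za49) (ka xa7 ya1 za50) (ka xa1 ya49 za35) (ka xa1 ya41 za46) (ka xa3 ya6 za54) (ka xa3 ya0 za37) (ka xa7 ya1 za53) (ka xa7 ya1 za54) (ka xa7 ya1 za55) (ka xa7 ya1 za56) (ka xa7 ya2 za8) (ka xa6 ya11 za5) (ka xa6 ya59 za55) (ka xa6 ya59 za56) (ka xa6 ya59 za57) (ka xa6 ya59 za58) (ka xa3 ya50 za14) (ka xa7 ya2 za26) (ka xa3 ya24 za49) (ka xa6 ya59 za60) (ka xa6 ya59 za61) (ka xa7 ya2 za41) (ka xa6 ya34 za3) (ka xa7 ya0 za1) (ka xa3 ya37 za37) (ka xa7 ya0 za2) (ka xa3 ya52 za2) (ka xa7 ya0 za3) (ka xa7 ya0 za4) (ka xa6 ya58 za47) (ka xa6 ya58 za44) (ka xa6 ya58 za45) (ka xa6 ya58 za46) (ka xa6 ya58 za55) (ka xa1 ya41 za55) (ka xa3 ya24 za45) (ka xa7 ya3 za9) (ka xa7 ya3 za10) (ka xa7 ya0 za7) (ka xa6 ya33 za34) (ka xa7 ya0 za9) (ka xa7 ya0 za10) (ka xa3 ya31 za36) (ka xa7 ya0 za11) (ka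 xa1 ya43 za48) (ka xa3 ya32 za26) (ka xa1 ya43 za49) (ka xa3 ya37 za36) (ka xa3 ya35 za38) (ka xa1 ya41 za59) (ka xa3 ya35 za49) (ka xa7 ya3 za37) (ka xa7 ya3 za38) (ka xa7 ya3 za48) (ka xa7 ya0 za13) (ka xa3 ya37 za31) (ka xa7 ya0 za14) (ka xa3 ya37 za32) (ka xa3 ya40 za59) (ka xa6 ya58 za48)) (@D3.rec (fun _ => Pt) (ka xa3 ya39 za3) (ka xa3 ya36 za0) (ka xa6 ya58 za49) (ka xa1 ya43 za44) (ka xa1 ya53 za26) (ka xa1 ya46 za50) (ka xa1 ya46 za51) (ka xa1 ya53 za31) (ka xa1 ya53 za30) (ka xa6 ya41 za49) (ka xa1 ya42 za9) (ka xa1 ya42 za10) (ka xa1 ya42 za11) (ka xa3 ya35 za57) (ka xa7 ya4 za12) (ka xa3 ya31 za33) (ka xa3 ya24 za55) (ka xa3 ya32 za4) (ka xa7 ya4 za13) (ka xa1 ya53 za52) (ka xa3 ya32 za25) (ka xa3 ya36 za12) (ka xa3 ya31 za37) (ka xa1 ya42 za17) (ka xa1 ya42 za18) (ka xa1 ya42 za19) (ka xa3 ya31 za41) (ka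 xa3 ya43 za43) (ka xa7 ya4 za28) (ka xa7 ya4 za29) (ka xa3 ya31 za46) (ka xa7 ya4 za30) (ka xa1 ya47 za53) (ka xa3 ya31 za15) (ka xa6 ya55 za46) (ka xa3 ya43 za44) (ka xa3 ya30 za44) (ka xa3 ya31 za22) (ka xa1 ya42 za26) (ka xa1 ya42 za27) (ka xa1 ya42 za28) (ka xa3 ya31 za26) (ka xa3 ya41 za9) (ka xa7 ya4 za54) (ka xa7 ya4 za55) (ka xa1 ya49 za18) (ka xa3 ya31 za30) (ka xa7 ya4 za56) (ka xa3 ya26 za60) (ka xa3 ya54 za34) (ka xa3 ya32 za0) (ka xa3 ya24 za21) (ka xa3 ya24 za22) (ka xa1 ya42 za39) (ka xa3 ya27 za52) (ka xa1 ya49 za17) (ka xa3 ya35 za60) (ka xa3 ya27 za54) (ka xa3 ya27 za56) (ka xa7 ya5 za17) (ka xa1 ya54 za29) (ka xa1 ya43 za12)) (@D3.rec (fun _ => Pt) (ka xa3 ya31 za50) (ka xa1 ya43 za52) (ka xa1 ya42 za45) (ka xa6 ya53 za41) (ka xa3 ya31 za17) (ka xa6 ya53 za42) (ka xa6 ya53 za43) (ka xa3 ya24 za23) (ka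 xa3 ya25 za10) (ka xa3 ya25 za16) (ka xa3 ya35 za61) (ka xa3 ya36 za1) (ka xa3 ya36 za2) (ka xa1 ya53 za27) (ka xa3 ya36 za3) (ka xa1 ya50 za16) (ka xa1 ya50 za17) (ka xa3 ya35 za42) (ka xa3 ya35 za41) (ka xa4 ya24 za6) (ka xa3 ya35 za45) (ka xa3 ya36 za8) (ka xa3 ya36 za9) (ka xa3 ya36 za10) (ka xa3 ya36 za11) (ka xa3 ya31 za20) (ka xa3 ya30 za47) (ka xa3 ya24 za61) (ka xa1 ya53 za21) (ka xa1 ya44 za9) (ka xa3 ya36 za13) (ka xa3 ya36 za14) (ka xa7 ya6 za1) (ka xa3 ya36 za16) (ka xa6 ya34 za4) (ka xa3 ya35 za39) (ka xa1 ya42 za61) (ka xa4 ya24 za3) (ka xa7 ya6 za5) (ka xa3 ya35 za47) (ka xa3 ya35 za48) (ka xa3 ya35 za50) (ka xa3 ya35 za51) (ka xa3 ya24 za60) (ka xa1 ya51 za53) (ka xa3 ya36 za17) (ka xa3 ya33 za43) (ka xa3 ya36 za18) (ka xa1 ya43 za37) (ka xa1 ya43 za38) (ka xa1 ya43 za39) (ka xa1 ya43 za40) (ka xa1 ya43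 za41) (ka xa1 ya43 za43) (ka xa6 ya54 za37) (ka xa1 ya43 za47) (ka xa1 ya43 za51) (ka xa1 ya44 za5) (ka xa1 ya44 za6) (ka xa7 ya6 za57) (ka xa1 ya44 za8) (ka xa6 ya30 za42)) (@D3.rec (fun _ => Pt) (ka xa1 ya54 za39) (ka xa6 ya30 za43) (ka xa6 ya30 za44) (ka xa3 ya36 za32) (ka xa1 ya43 za17) (ka xa4 ya57 za0) (ka xa7 ya7 za1) (ka xa3 ya29 za32) (ka xa3 ya36 za48) (ka xa3 ya36 za49) (ka xa3 ya36 za50) (ka xa3 ya36 za51) (ka xa3 ya36 za52) (ka xa1 ya54 za44) (ka xa1 ya53 za16) (ka xa1 ya54 za46) (ka xa3 ya34 za34) (ka xa7 ya7 za30) (ka xa1 ya51 za15) (ka xa3 ya36 za33) (ka xa1 ya43 za25) (ka xa2 ya47 za22) (ka xa7 ya7 za34) (ka xa2 ya8 za58) (ka xa3 ya36 za39) (ka xa3 ya36 za41) (ka xa3 ya36 za55) (ka xa3 ya36 za54) (ka xa1 ya43 za28) (ka xa1 ya51 za41) (ka xa4 ya32 za34) (ka xa7 ya7 za51) (ka xa2 ya9 za3) (ka xa3 ya37 za1)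 (ka xa3 ya37 za2) (ka xa3 ya4 za27) (ka xa1 ya43 za31) (ka xa6 ya25 za29) (ka xa7 ya8 za3) (ka xa3 ya36 za59) (ka xa3 ya36 za60) (ka xa3 ya4 za19) (ka xa3 ya37 za3) (ka xa3 ya32 za46) (ka xa1 ya45 za26) (ka xa7 ya6 za30) (ka xa7 ya6 za31) (ka xa7 ya6 za32) (ka xa7 ya6 za33) (ka xa7 ya8 za32) (ka xa1 ya53 za50) (ka xa7 ya6 za35) (ka xa6 ya58 za38) (ka xa7 ya8 za45) (ka xa3 ya48 za17) (ka xa7 ya6 za37) (ka xa7 ya6 za38) (ka xa7 ya6 za39) (ka xa7 ya6 za40) (ka xa7 ya6 za41) (ka xa7 ya6 za42) (ka xa7 ya5 za27)) (@D3.rec (fun _ => Pt) (ka xa1 ya43 za42) (ka xa1 ya53 za46) (ka xa7 ya9 za7) (ka xa7 ya9 za8) (ka xa7 ya6 za43) (ka xa7 ya9 za17) (ka xa7 ya6 za45) (ka xa3 ya39 za1) (ka xa3 ya34 za57) (ka xa7 ya4 za2) (ka xa1 ya51 za24) (ka xa6 ya54 za38) (ka xa6 ya54 za39) (ka xa7 ya9 za37) (ka xa7 ya6 za47) (ka xa7 ya3 za36) (ka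 xa7 ya3 za35) (ka xa1 ya53 za22) (ka xa7 ya9 za46) (ka xa1 ya51 za50) (ka xa1 ya51 za56) (ka xa1 ya52 za15) (ka xa7 ya6 za49) (ka xa1 ya43 za61) (ka xa3 ya28 za45) (ka xa1 ya50 za19) (ka xa3 ya28 za59) (ka xa1 ya45 za44) (ka xa7 ya10 za2) (ka xa3 ya37 za46) (ka xa3 ya28 za48) (ka xa6 ya33 za61) (ka xa7 ya10 za11) (ka xa3 ya38 za10) (ka xa3 ya33 za16) (ka xa1 ya51 za32) (ka xa1 ya53 za19) (ka xa7 ya10 za21) (ka xa7 ya6 za51) (ka xa1 ya52 za53) (ka xa7 ya10 za29) (ka xa7 ya6 za53) (ka xa7 ya6 za54) (ka xa3 ya27 za27) (ka xa7 ya10 za38) (ka xa1 ya44 za7) (ka xa7 ya10 za41) (ka xa6 ya53 za40) (ka xa3 ya37 za48) (ka xa3 ya34 za51) (ka xa7 ya6 za59) (ka xa3 ya34 za49) (ka xa3 ya52 za57) (ka xa6 ya55 za5) (ka xa3 ya35 za3) (ka xa1 ya47 za49) (ka xa6 ya55 za6) (ka xa3 ya34 za8) (ka xa3 ya26 za36) (ka xa1 ya44 za16) (ka xa1 ya44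 za17) (ka xa1 ya44 za18)) (@D3.rec (fun _ => Pt) (ka xa3 ya27 za8) (ka xa7 ya11 za5) (ka xa7 ya11 za6) (ka xa3 ya34 za54) (ka xa7 ya11 za7) (ka xa1 ya54 za38) (ka xa3 ya35 za10) (ka xa1 ya44 za22) (ka xa7 ya11 za21) (ka xa3 ya25 za6) (ka xa3 ya35 za6) (ka xa1 ya44 za25) (ka xa1 ya49 za11) (ka xa1 ya49 za10) (ka xa7 ya11 za25) (ka xa7 ya11 za30) (ka xa3 ya27 za49) (ka xa7 ya9 za13) (ka xa6 ya57 za36) (ka xa6 ya9 za61) (ka xa6 ya9 za39) (ka xa7 ya11 za43) (ka xa3 ya9 za37) (ka xa3 ya9 za38) (ka xa3 ya9 za39) (ka xa3 ya8 za7) (ka xa3 ya28 za46) (ka xa1 ya44 za36) (ka xa1 ya46 za44) (ka xa1 ya46 za43) (ka xa7 ya11 za48) (ka xa1 ya44 za38) (ka xa7 ya2 za30) (ka xa3 ya24 za53) (ka xa7 ya4 za32) (ka xa1 ya50 za35) (ka xa3 ya28 za21) (ka xa3 ya29 za10) (ka xa3 ya30 za50) (ka xa3 ya32 za35) (ka xa3 ya29 za33) (ka xa3 ya32 za18)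 (ka xa3 ya32 za17) (ka xa1 ya44 za43) (ka xa7 ya12 za2) (ka xa3 ya32 za20) (ka xa1 ya51 za35) (ka xa3 ya32 za39) (ka xa3 ya32 za40) (ka xa3 ya30 za52) (ka xa3 ya32 za41) (ka xa3 ya32 za42) (ka xa3 ya24 za57) (ka xa3 ya24 za58) (ka xa3 ya24 za59) (ka xa1 ya52 za12) (ka xa1 ya44 za52) (ka xa3 ya31 za13) (ka xa6 ya52 za61) (ka xa6 ya53 za0) (ka xa3 ya31 za56) (ka xa3 ya32 za10)) (@D3.rec (fun _ => Pt) (ka xa3 ya31 za1) (ka xa3 ya32 za11) (ka xa3 ya32 za12) (ka xa3 ya32 za14) (ka xa1 ya44 za55) (ka xa2 ya9 za26) (ka xa7 ya12 za31) (ka xa1 ya55 za34) (ka xa3 ya32 za21) (ka xa3 ya32 za22) (ka xa3 ya32 za23) (ka xa3 ya32 za24) (ka xa3 ya31 za21) (ka xa3 ya32 za30) (ka xa3 ya32 za31) (ka xa7 ya12 za52) (ka xa3 ya32 za33) (ka xa3 ya32 za45) (ka xa3 ya32 za47) (ka xa1 ya45 za27) (ka xa1 ya45 za28) (ka xa1 ya45 za29) (ka xa1 ya45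 za30) (ka xa3 ya49 za35) (ka xa1 ya45 za32) (ka xa1 ya45 za34) (ka xa1 ya45 za38) (ka xa1 ya45 za39) (ka xa1 ya45 za40) (ka xa6 ya53 za37) (ka xa1 ya45 za47) (ka xa7 ya13 za24) (ka xa3 ya33 za3) (ka xa3 ya33 za19) (ka xa1 ya51 za36) (ka xa3 ya4 za36) (ka xa3 ya4 za33) (ka xa1 ya45 za9) (ka xa7 ya13 za32) (ka xa3 ya33 za24) (ka xa1 ya53 za8) (ka xa3 ya33 za25) (ka xa1 ya54 za36) (ka xa6 ya34 za0) (ka xa3 ya27 za2) (ka xa1 ya45 za13) (ka xa4 ya33 za1) (ka xa7 ya13 za45) (ka xa3 ya33 za8) (ka xa3 ya33 za9) (ka xa3 ya33 za10) (ka xa3 ya33 za11) (ka xa3 ya33 za12) (ka xa1 ya54 za45) (ka xa3 ya33 za27) (ka xa3 ya33 za26) (ka xa1 ya45 za18) (ka xa7 ya14 za5) (ka xa7 ya14 za6) (ka xa3 ya33 za39) (ka xa3 ya33 za40) (ka xa1 ya45 za21)) (@D3.rec (fun _ => Pt) (ka xa7 ya14 za19) (ka xa3 ya33 za33) (ka xa3 ya33 za34) (ka xa3 ya33 za42)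 (ka xa7 ya8 za17) (ka xa7 ya8 za18) (ka xa7 ya8 za19) (ka xa7 ya8 za20) (ka xa7 ya14 za40) (ka xa7 ya13 za1) (ka xa7 ya14 za47) (ka xa7 ya13 za3) (ka xa6 ya58 za20) (ka xa7 ya13 za4) (ka xa7 ya13 za5) (ka xa7 ya13 za6) (ka xa7 ya13 za7) (ka xa1 ya54 za11) (ka xa7 ya13 za8) (ka xa7 ya15 za11) (ka xa7 ya13 za10) (ka xa7 ya9 za52) (ka xa1 ya45 za33) (ka xa7 ya8 za36) (ka xa6 ya57 za16) (ka xa7 ya15 za19) (ka xa7 ya13 za12) (ka xa6 ya58 za25) (ka xa1 ya51 za26) (ka xa6 ya52 za22) (ka xa6 ya55 za18) (ka xa3 ya30 za57) (ka xa3 ya30 za59) (ka xa7 ya15 za34) (ka xa7 ya13 za13) (ka xa1 ya46 za24) (ka xa3 ya30 za49) (ka xa3 ya30 za26) (ka xa7 ya13 za14) (ka xa6 ya53 za39) (ka xa7 ya13 za16) (ka xa7 ya13 za17) (ka xa3 ya38 za7) (ka xa1 ya45 za42) (ka xa3 ya25 za20) (ka xa7 ya15 za55) (ka xa3 ya34 za29) (ka xa7 ya15 za60) (ka xa3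 ya34 za48) (ka xa3 ya30 za2) (ka xa7 ya16 za6) (ka xa3 ya29 za56) (ka xa3 ya39 za7) (ka xa6 ya53 za38) (ka xa3 ya37 za56) (ka xa7 ya13 za21) (ka xa3 ya37 za54) (ka xa3 ya46 za58) (ka xa3 ya26 za55) (ka xa1 ya45 za52) (ka xa3 ya27 za15) (ka xa7 ya16 za22)) (@D3.rec (fun _ => Pt) (ka xa6 ya55 za43) (ka xa6 ya55 za44) (ka xa6 ya52 za12) (ka xa6 ya55 za45) (ka xa3 ya27 za53) (ka xa1 ya48 za11) (ka xa3 ya39 za14) (ka xa3 ya37 za42) (ka xa3 ya39 za16) (ka xa7 ya16 za41) (ka xa3 ya34 za33) (ka xa1 ya49 za43) (ka xa3 ya39 za17) (ka xa3 ya38 za32) (ka xa3 ya39 za18) (ka xa1 ya46 za16) (ka xa1 ya46 za17) (ka xa1 ya46 za18) (ka xa1 ya46 za19) (ka xa1 ya46 za20) (ka xa1 ya46 za22) (ka xa6 ya34 za1) (ka xa1 ya46 za26) (ka xa1 ya46 za28) (ka xa3 ya39 za21) (ka xa3 ya39 za20) (ka xa6 ya14 za44) (ka xa3 ya39 za29) (ka xa3 ya39 za30) (ka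 xa6 ya15 za7) (ka xa3 ya39 za24) (ka xa3 ya39 za25) (ka xa3 ya38 za13) (ka xa1 ya46 za42) (ka xa5 ya13 za37) (ka xa5 ya53 za50) (ka xa7 ya16 za52) (ka xa7 ya16 za53) (ka xa7 ya17 za37) (ka xa7 ya16 za55) (ka xa7 ya14 za60) (ka xa7 ya17 za44) (ka xa7 ya16 za57) (ka xa7 ya16 za58) (ka xa7 ya16 za59) (ka xa7 ya8 za43) (ka xa7 ya16 za60) (ka xa7 ya16 za61) (ka xa6 ya34 za2) (ka xa1 ya46 za21) (ka xa1 ya47 za42) (ka xa6 ya57 za45) (ka xa7 ya18 za3) (ka xa6 ya59 za33) (ka xa7 ya18 za9) (ka xa7 ya17 za1) (ka xa7 ya15 za39) (ka xa3 ya56 za51) (ka xa6 ya53 za2) (ka xa6 ya53 za3) (ka xa7 ya18 za22) (ka xa7 ya17 za4)) (@D3.rec (fun _ => Pt) (ka xa7 ya17 za5) (ka xa3 ya34 za7) (ka xa3 ya49 za49) (ka xa3 ya31 za0) (ka xa3 ya25 za50) (ka xa1 ya46 za31) (ka xa1 ya46 za32) (ka xa3 ya37 za52) (ka xa7 ya18 za35) (ka xa7 ya18 za36) (ka xa3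 ya55 za32) (ka xa3 ya24 za52) (ka xa1 ya50 za61) (ka xa1 ya53 za6) (ka xa3 ya38 za6) (ka xa1 ya53 za20) (ka xa3 ya38 za8) (ka xa3 ya38 za12) (ka xa3 ya38 za14) (ka xa1 ya46 za45) (ka xa3 ya38 za25) (ka xa3 ya38 za24) (ka xa1 ya46 za38) (ka xa7 ya18 za57) (ka xa3 ya38 za30) (ka xa3 ya38 za31) (ka xa3 ya4 za29) (ka xa3 ya4 za30) (ka xa3 ya4 za22) (ka xa3 ya38 za27) (ka xa3 ya38 za28) (ka xa4 ya2 za6) (ka xa7 ya17 za25) (ka xa7 ya17 za26) (ka xa7 ya17 za27) (ka xa7 ya19 za23) (ka xa7 ya4 za10) (ka xa7 ya8 za61) (ka xa7 ya19 za28) (ka xa7 ya4 za9) (ka xa7 ya11 za50) (ka xa3 ya53 za47) (ka xa3 ya53 za45) (ka xa6 ya24 za7) (ka xa6 ya53 za52) (ka xa7 ya19 za44) (ka xa3 ya28 za61) (ka xa1 ya51 za55) (ka xa6 ya34 za56) (ka xa7 ya19 za51) (ka xa7 ya4 za5) (ka xa7 ya4 za6) (ka xa6 ya54 za17) (ka xa6 ya54 za18) (ka xa3 ya13 za54)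 (ka xa3 ya13 za33) (ka xa3 ya13 za34) (ka xa3 ya42 za3) (ka xa3 ya11 za9) (ka xa3 ya42 za31) (ka xa3 ya42 za32) (ka xa3 ya25 za5)) (@D3.rec (fun _ => Pt) (ka xa3 ya42 za33) (ka xa3 ya42 za34) (ka xa3 ya42 za35) (ka xa3 ya40 za51) (ka xa3 ya42 za10) (ka xa3 ya42 za14) (ka xa3 ya42 za13) (ka xa1 ya47 za1) (ka xa7 ya20 za22) (ka xa7 ya20 za23) (ka xa3 ya42 za18) (ka xa3 ya42 za40) (ka xa3 ya42 za41) (ka xa3 ya42 za42) (ka xa3 ya42 za43) (ka xa3 ya42 za44) (ka xa1 ya54 za52) (ka xa1 ya54 za43) (ka xa1 ya55 za4) (ka xa3 ya42 za46) (ka xa3 ya42 za49) (ka xa3 ya42 za50) (ka xa7 ya20 za55) (ka xa3 ya42 za52) (ka xa7 ya21 za1) (ka xa3 ya25 za45) (ka xa3 ya26 za26) (ka xa3 ya23 za49) (ka xa3 ya42 za8) (ka xa3 ya42 za11) (ka xa1 ya47 za12) (ka xa7 ya21 za8) (ka xa7 ya21 za9) (ka xa3 ya42 za21) (ka xa3 ya42 za22) (ka xa3 ya42 za24)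 (ka xa3 ya42 za54) (ka xa3 ya42 za55) (ka xa3 ya42 za56) (ka xa1 ya47 za41) (ka xa1 ya47 za43) (ka xa1 ya47 za44) (ka xa1 ya47 za45) (ka xa1 ya47 za47) (ka xa1 ya47 za51) (ka xa3 ya43 za46) (ka xa3 ya43 za31) (ka xa3 ya43 za34) (ka xa3 ya43 za33) (ka xa6 ya15 za6) (ka xa6 ya14 za57) (ka xa3 ya40 za3) (ka xa3 ya26 za41) (ka xa3 ya43 za50) (ka xa3 ya43 za51) (ka xa3 ya43 za52) (ka xa3 ya43 za53) (ka xa7 ya0 za49) (ka xa3 ya25 za38) (ka xa3 ya30 za60) (ka xa3 ya44 za52) (ka xa3 ya44 za53)) (@D3.rec (fun _ => Pt) (ka xa3 ya29 za52) (ka xa1 ya47 za27) (ka xa7 ya22 za15) (ka xa7 ya22 za16) (ka xa3 ya43 za38) (ka xa3 ya43 za39) (ka xa3 ya43 za40) (ka xa3 ya43 za41) (ka xa3 ya43 za42) (ka xa3 ya31 za42) (ka xa3 ya43 za55) (ka xa3 ya43 za54) (ka xa1 ya47 za32) (ka xa7 ya22 za46) (ka xa7 ya22 za47) (ka xa3 ya44 za4) (ka xa3 ya44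 za5) (ka xa3 ya44 za1) (ka xa3 ya44 za0) (ka xa1 ya47 za35) (ka xa7 ya23 za3) (ka xa7 ya23 za4) (ka xa3 ya43 za59) (ka xa3 ya43 za60) (ka xa3 ya43 za61) (ka xa7 ya23 za19) (ka xa3 ya44 za9) (ka xa7 ya23 za24) (ka xa3 ya44 za7) (ka xa7 ya23 za32) (ka xa3 ya43 za27) (ka xa7 ya21 za32) (ka xa7 ya21 za33) (ka xa7 ya21 za34) (ka xa7 ya21 za35) (ka xa7 ya23 za50) (ka xa7 ya18 za5) (ka xa7 ya10 za61) (ka xa7 ya23 za58) (ka xa7 ya21 za37) (ka xa7 ya4 za39) (ka xa7 ya21 za38) (ka xa7 ya21 za39) (ka xa7 ya21 za40) (ka xa7 ya21 za41) (ka xa3 ya53 za10) (ka xa7 ya0 za47) (ka xa7 ya21 za42) (ka xa7 ya24 za17) (ka xa7 ya21 za44) (ka xa7 ya10 za59) (ka xa6 ya58 za40) (ka xa1 ya54 za21) (ka xa3 ya25 za48) (ka xa3 ya45 za2) (ka xa3 ya45 za3) (ka xa7 ya24 za34) (ka xa7 ya21 za45) (ka xa7 ya4 za46) (ka xa3 ya54 za33) (ka xa3 ya46 za16) (ka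 xa3 ya46 za17)) (@D3.rec (fun _ => Pt) (ka xa3 ya46 za18) (ka xa7 ya1 za11) (ka xa7 ya1 za12) (ka xa3 ya39 za57) (ka xa3 ya23 za57) (ka xa7 ya24 za58) (ka xa3 ya14 za11) (ka xa3 ya19 za4) (ka xa3 ya40 za28) (ka xa7 ya25 za1) (ka xa3 ya40 za4) (ka xa3 ya40 za29) (ka xa3 ya26 za42) (ka xa3 ya40 za6) (ka xa3 ya40 za5) (ka xa1 ya48 za6) (ka xa7 ya25 za10) (ka xa7 ya25 za11) (ka xa3 ya40 za10) (ka xa3 ya25 za58) (ka xa3 ya14 za10) (ka xa3 ya40 za33) (ka xa3 ya40 za34) (ka xa3 ya27 za44) (ka xa3 ya40 za35) (ka xa1 ya50 za41) (ka xa1 ya53 za17) (ka xa6 ya58 za56) (ka xa7 ya5 za29) (ka xa6 ya51 za24) (ka xa7 ya25 za41) (ka xa3 ya39 za59) (ka xa3 ya39 za60) (ka xa3 ya40 za0) (ka xa3 ya40 za1) (ka xa3 ya40 za2) (ka xa1 ya51 za60) (ka xa1 ya48 za18) (ka xa7 ya25 za50) (ka xa7 ya25 za51) (ka xa3 ya40 za11) (ka xa3 ya40 za12) (ka xa3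 ya40 za13) (ka xa3 ya40 za14) (ka xa3 ya40 za15) (ka xa1 ya55 za1) (ka xa3 ya40 za19) (ka xa1 ya55 za5) (ka xa1 ya55 za6) (ka xa3 ya40 za20) (ka xa3 ya40 za21) (ka xa7 ya26 za23) (ka xa3 ya40 za23) (ka xa7 ya26 za29) (ka xa3 ya40 za36) (ka xa3 ya40 za37) (ka xa3 ya40 za38) (ka xa1 ya49 za9) (ka xa1 ya49 za12) (ka xa3 ya13 za18) (ka xa7 ya26 za43) (ka xa3 ya13 za46)) (@D3.rec (fun _ => Pt) (ka xa3 ya13 za47) (ka xa2 ya22 za4) (ka xa3 ya25 za30) (ka xa7 ya26 za49) (ka xa3 ya13 za36) (ka xa3 ya13 za37) (ka xa3 ya13 za39) (ka xa3 ya13 za40) (ka xa2 ya22 za59) (ka xa3 ya13 za42) (ka xa6 ya44 za34) (ka xa3 ya13 za61) (ka xa3 ya14 za0) (ka xa3 ya3 za6) (ka xa3 ya14 za2) (ka xa3 ya14 za3) (ka xa7 ya27 za10) (ka xa3 ya13 za56) (ka xa3 ya13 za57) (ka xa2 ya17 za38) (ka xa3 ya2 za43) (ka xa7 ya27 za20) (ka xa3 ya14 za9) (ka xa7 ya27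 za25) (ka xa3 ya14 za6) (ka xa1 ya48 za46) (ka xa5 ya14 za29) (ka xa3 ya41 za30) (ka xa3 ya23 za40) (ka xa3 ya13 za59) (ka xa7 ya27 za37) (ka xa3 ya40 za46) (ka xa3 ya25 za59) (ka xa3 ya40 za48) (ka xa3 ya40 za47) (ka xa1 ya48 za52) (ka xa7 ya27 za44) (ka xa7 ya27 za45) (ka xa3 ya41 za4) (ka xa3 ya41 za5) (ka xa3 ya41 za6) (ka xa3 ya41 za7) (ka xa3 ya41 za8) (ka xa3 ya31 za27) (ka xa3 ya31 za35) (ka xa1 ya54 za40) (ka xa3 ya40 za45) (ka xa1 ya48 za59) (ka xa7 ya28 za10) (ka xa7 ya28 za11) (ka xa3 ya40 za53) (ka xa3 ya40 za54) (ka xa3 ya40 za55) (ka xa3 ya40 za56) (ka xa3 ya41 za11) (ka xa3 ya41 za10) (ka xa1 ya49 za0) (ka xa7 ya28 za33) (ka xa7 ya28 za34) (ka xa3 ya41 za22) (ka xa3 ya41 za23) (ka xa3 ya41 za24)) (@D3.rec (fun _ => Pt) (ka xa3 ya41 za18) (ka xa3 ya41 za17) (ka xa1 ya49 za3) (ka xa7 ya28 za54) (ka xa3 ya41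 za15) (ka xa3 ya41 za16) (ka xa7 ya29 za2) (ka xa3 ya41 za28) (ka xa7 ya29 za9) (ka xa3 ya41 za26) (ka xa5 ya40 za14) (ka xa3 ya14 za12) (ka xa7 ya26 za38) (ka xa7 ya26 za39) (ka xa7 ya26 za40) (ka xa7 ya26 za41) (ka xa7 ya29 za32) (ka xa7 ya5 za24) (ka xa7 ya5 za3) (ka xa7 ya29 za39) (ka xa7 ya5 za23) (ka xa7 ya5 za7) (ka xa6 ya58 za2) (ka xa6 ya58 za0) (ka xa6 ya22 za54) (ka xa3 ya46 za26) (ka xa6 ya51 za29) (ka xa7 ya29 za56) (ka xa6 ya51 za31) (ka xa3 ya26 za59) (ka xa7 ya0 za15) (ka xa7 ya30 za4) (ka xa7 ya5 za19) (ka xa7 ya5 za5) (ka xa1 ya50 za52) (ka xa1 ya50 za51) (ka xa3 ya26 za13) (ka xa1 ya52 za52) (ka xa1 ya52 za54) (ka xa1 ya52 za51) (ka xa1 ya53 za18) (ka xa1 ya53 za23) (ka xa7 ya30 za32) (ka xa1 ya53 za33) (ka xa1 ya51 za2) (ka xa1 ya52 za55) (ka xa1 ya49 za36) (ka xa1 ya49 za38) (ka xa1 ya49 za46) (ka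 xa7 ya30 za38) (ka xa3 ya10 za48) (ka xa3 ya22 za55) (ka xa3 ya40 za60) (ka xa3 ya40 za61) (ka xa3 ya45 za14) (ka xa6 ya49 za26) (ka xa1 ya49 za33) (ka xa7 ya30 za46) (ka xa3 ya22 za60) (ka xa3 ya27 za17) (ka xa7 ya1 za52) (ka xa7 ya30 za35)) (@D3.rec (fun _ => Pt) (ka xa7 ya9 za12) (ka xa3 ya29 za35) (ka xa3 ya41 za54) (ka xa3 ya41 za55) (ka xa7 ya30 za57) (ka xa3 ya15 za36) (ka xa3 ya16 za39) (ka xa4 ya43 za26) (ka xa6 ya26 za15) (ka xa7 ya31 za5) (ka xa3 ya15 za37) (ka xa3 ya16 za41) (ka xa3 ya7 za0) (ka xa7 ya31 za13) (ka xa3 ya44 za54) (ka xa6 ya32 za29) (ka xa6 ya28 za14) (ka xa2 ya20 za27) (ka xa7 ya31 za22) (ka xa3 ya15 za29) (ka xa6 ya11 za7) (ka xa6 ya11 za9) (ka xa6 ya26 za54) (ka xa7 ya31 za27) (ka xa3 ya15 za32) (ka xa6 ya29 za33) (ka xa6 ya58 za58) (ka xa6 ya58 za59) (ka xa6 ya58 za60) (ka xa6 ya10 za40)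 (ka xa6 ya10 za39) (ka xa1 ya49 za53) (ka xa7 ya31 za41) (ka xa6 ya10 za49) (ka xa6 ya10 za50) (ka xa3 ya15 za39) (ka xa3 ya8 za28) (ka xa4 ya43 za51) (ka xa7 ya0 za17) (ka xa7 ya0 za16) (ka xa1 ya49 za57) (ka xa7 ya31 za59) (ka xa7 ya31 za60) (ka xa3 ya48 za41) (ka xa7 ya0 za23) (ka xa3 ya24 za38) (ka xa1 ya49 za60) (ka xa6 ya55 za24) (ka xa7 ya32 za12) (ka xa3 ya48 za39) (ka xa7 ya0 za20) (ka xa7 ya0 za21) (ka xa7 ya32 za27) (ka xa4 ya44 za16) (ka xa1 ya50 za3) (ka xa7 ya32 za32) (ka xa7 ya32 za33) (ka xa7 ya32 za34) (ka xa7 ya32 za35) (ka xa7 ya32 za45) (ka xa7 ya0 za30) (ka xa7 ya32 za50)) (@D3.rec (fun _ => Pt) (ka xa7 ya0 za28) (ka xa7 ya0 za58) (ka xa7 ya0 za59) (ka xa7 ya0 za60) (ka xa7 ya0 za61) (ka xa7 ya33 za8) (ka xa7 ya1 za1) (ka xa7 ya1 za2) (ka xa7 ya33 za15) (ka xa7 ya1 za4) (ka xa7 ya1 za5) (ka xa7 ya1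 za6) (ka xa7 ya1 za7) (ka xa7 ya1 za8) (ka xa7 ya1 za9) (ka xa6 ya52 za49) (ka xa3 ya41 za60) (ka xa3 ya41 za61) (ka xa3 ya42 za0) (ka xa7 ya0 za41) (ka xa7 ya0 za40) (ka xa1 ya50 za15) (ka xa5 ya54 za52) (ka xa7 ya33 za45) (ka xa7 ya5 za34) (ka xa7 ya5 za35) (ka xa3 ya44 za25) (ka xa7 ya3 za42) (ka xa2 ya54 za0) (ka xa1 ya50 za21) (ka xa7 ya33 za53) (ka xa6 ya10 za46) (ka xa3 ya25 za34) (ka xa3 ya49 za23) (ka xa7 ya0 za51) (ka xa3 ya49 za22) (ka xa7 ya0 za50) (ka xa1 ya50 za28) (ka xa6 ya43 za19) (ka xa6 ya43 za20) (ka xa4 ya45 za36) (ka xa6 ya43 za21) (ka xa7 ya10 za1) (ka xa7 ya10 za0) (ka xa7 ya34 za3) (ka xa7 ya0 za31) (ka xa7 ya0 za32) (ka xa7 ya0 za33) (ka xa6 ya46 za61) (ka xa7 ya34 za32) (ka xa6 ya59 za24) (ka xa3 ya49 za15) (ka xa7 ya34 za37) (ka xa7 ya0 za35) (ka xa7 ya0 za36) (ka xa7 ya0 za37) (ka xa7 ya0 za38)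 (ka xa7 ya18 za34) (ka xa3 ya37 za57) (ka xa3 ya26 za47) (ka xa1 ya51 za13) (ka xa1 ya51 za42)) (@D3.rec (fun _ => Pt) (ka xa1 ya50 za37) (ka xa3 ya15 za0) (ka xa7 ya34 za51) (ka xa1 ya51 za22) (ka xa1 ya51 za23) (ka xa1 ya51 za25) (ka xa1 ya51 za30) (ka xa1 ya51 za31) (ka xa3 ya49 za11) (ka xa1 ya54 za17) (ka xa6 ya43 za24) (ka xa1 ya51 za46) (ka xa1 ya51 za47) (ka xa1 ya51 za48) (ka xa1 ya51 za49) (ka xa1 ya52 za7) (ka xa1 ya52 za6) (ka xa1 ya50 za45) (ka xa7 ya35 za24) (ka xa1 ya52 za3) (ka xa1 ya52 za4) (ka xa1 ya52 za5) (ka xa1 ya51 za58) (ka xa1 ya51 za57) (ka xa1 ya50 za48) (ka xa5 ya51 za16) (ka xa7 ya35 za39) (ka xa1 ya52 za13) (ka xa1 ya52 za14) (ka xa7 ya35 za52) (ka xa7 ya30 za15) (ka xa7 ya30 za16) (ka xa7 ya30 za17) (ka xa7 ya14 za0) (ka xa7 ya30 za12) (ka xa7 ya30 za13) (ka xa7 ya30 za14) (ka xa1 ya50 za54)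 (ka xa1 ya50 za55) (ka xa6 ya39 za45) (ka xa6 ya39 za44) (ka xa7 ya36 za4) (ka xa7 ya36 za5) (ka xa7 ya36 za6) (ka xa7 ya36 za7) (ka xa7 ya36 za8) (ka xa7 ya36 za9) (ka xa1 ya52 za34) (ka xa1 ya52 za35) (ka xa1 ya52 za36) (ka xa1 ya52 za37) (ka xa7 ya36 za48) (ka xa1 ya52 za41) (ka xa1 ya52 za42) (ka xa7 ya36 za54) (ka xa1 ya52 za44) (ka xa1 ya52 za45) (ka xa1 ya52 za46) (ka xa1 ya52 za47) (ka xa1 ya52 za48) (ka xa1 ya52 za49) (ka xa1 ya52 za50)) (@D3.rec (fun _ => Pt) (ka xa7 ya18 za46) (ka xa1 ya52 za60) (ka xa7 ya37 za10) (ka xa1 ya53 za0) (ka xa1 ya53 za4) (ka xa7 ya10 za36) (ka xa7 ya37 za18) (ka xa1 ya53 za12) (ka xa1 ya53 za13) (ka xa1 ya51 za9) (ka xa1 ya51 za11) (ka xa3 ya27 za10) (ka xa3 ya27 za9) (ka xa6 ya33 za25) (ka xa3 ya27 za6) (ka xa3 ya27 za7) (ka xa7 ya5 za28) (ka xa3 ya33 za54) (ka xa3 ya54 za37) (ka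 xa3 ya54 za38) (ka xa7 ya7 za29) (ka xa7 ya7 za28) (ka xa1 ya51 za12) (ka xa7 ya37 za46) (ka xa7 ya34 za49) (ka xa7 ya5 za56) (ka xa1 ya54 za30) (ka xa1 ya51 za14) (ka xa7 ya37 za56) (ka xa7 ya7 za32) (ka xa7 ya37 za61) (ka xa4 ya47 za49) (ka xa1 ya51 za19) (ka xa3 ya15 za1) (ka xa7 ya38 za2) (ka xa7 ya38 za3) (ka xa5 ya28 za3) (ka xa5 ya28 za2) (ka xa7 ya38 za15) (ka xa3 ya45 za49) (ka xa6 ya53 za57) (ka xa3 ya45 za43) (ka xa7 ya34 za57) (ka xa7 ya34 za58) (ka xa7 ya34 za59) (ka xa7 ya34 za60) (ka xa7 ya38 za39) (ka xa7 ya35 za0) (ka xa7 ya33 za27) (ka xa7 ya38 za46) (ka xa7 ya9 za31) (ka xa7 ya9 za32) (ka xa7 ya35 za1) (ka xa7 ya35 za2) (ka xa7 ya35 za3) (ka xa7 ya15 za27) (ka xa7 ya16 za21) (ka xa3 ya54 za45) (ka xa3 ya25 za12) (ka xa3 ya54 za46) (ka xa7 ya35 za5) (ka xa7 ya10 za18)) (@D3.rec (fun _ => Pt) (ka xa7 ya35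 za6) (ka xa1 ya51 za38) (ka xa1 ya51 za39) (ka xa1 ya51 za40) (ka xa7 ya13 za23) (ka xa7 ya13 za22) (ka xa1 ya51 za34) (ka xa3 ya5 za17) (ka xa7 ya39 za13) (ka xa7 ya12 za9) (ka xa7 ya13 za28) (ka xa3 ya47 za8) (ka xa3 ya53 za7) (ka xa3 ya55 za28) (ka xa7 ya39 za9) (ka xa3 ya46 za51) (ka xa7 ya39 za10) (ka xa3 ya26 za24) (ka xa7 ya7 za52) (ka xa7 ya34 za50) (ka xa1 ya51 za44) (ka xa1 ya51 za45) (ka xa3 ya46 za35) (ka xa3 ya46 za33) (ka xa7 ya39 za29) (ka xa7 ya39 za30) (ka xa7 ya8 za33) (ka xa7 ya39 za31) (ka xa7 ya39 za32) (ka xa7 ya39 za33) (ka xa7 ya35 za10) (ka xa7 ya35 za11) (ka xa7 ya35 za12) (ka xa7 ya35 za13) (ka xa7 ya40 za3) (ka xa3 ya36 za23) (ka xa7 ya35 za15) (ka xa7 ya40 za8) (ka xa7 ya35 za17) (ka xa3 ya52 za60) (ka xa7 ya35 za18) (ka xa7 ya35 za19) (ka xa7 ya35 za20) (ka xa7 ya9 za49) (ka xa7 ya11 za4)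 (ka xa3 ya55 za37) (ka xa3 ya52 za58) (ka xa7 ya6 za19) (ka xa3 ya55 za38) (ka xa3 ya39 za2) (ka xa7 ya3 za41) (ka xa7 ya19 za48) (ka xa7 ya40 za39) (ka xa7 ya19 za49) (ka xa7 ya9 za50) (ka xa7 ya35 za37) (ka xa7 ya1 za22) (ka xa7 ya35 za38) (ka xa7 ya35 za51) (ka xa7 ya35 za34) (ka xa3 ya17 za30) (ka xa7 ya35 za35)) (@D3.rec (fun _ => Pt) (ka xa1 ya51 za61) (ka xa1 ya52 za0) (ka xa7 ya22 za17) (ka xa7 ya25 za49) (ka xa6 ya10 za42) (ka xa7 ya40 za58) (ka xa7 ya40 za59) (ka xa7 ya40 za60) (ka xa7 ya40 za61) (ka xa7 ya41 za0) (ka xa7 ya41 za1) (ka xa3 ya26 za21) (ka xa3 ya26 za23) (ka xa6 ya51 za32) (ka xa3 ya30 za18) (ka xa7 ya35 za29) (ka xa7 ya35 za30) (ka xa7 ya35 za31) (ka xa7 ya35 za32) (ka xa7 ya15 za51) (ka xa7 ya35 za33) (ka xa7 ya15 za48) (ka xa7 ya35 za59) (ka xa7 ya35 za23) (ka xa3 ya27 za0) (ka xa4 ya48 za51)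 (ka xa7 ya35 za22) (ka xa1 ya52 za9) (ka xa1 ya52 za11) (ka xa3 ya26 za27) (ka xa2 ya51 za56) (ka xa7 ya41 za60) (ka xa5 ya51 za9) (ka xa2 ya55 za46) (ka xa5 ya51 za17) (ka xa7 ya41 za61) (ka xa7 ya42 za0) (ka xa7 ya42 za1) (ka xa7 ya42 za2) (ka xa7 ya35 za45) (ka xa7 ya35 za46) (ka xa7 ya35 za47) (ka xa7 ya35 za48) (ka xa7 ya35 za49) (ka xa7 ya24 za49) (ka xa7 ya35 za50) (ka xa7 ya9 za53) (ka xa3 ya26 za61) (ka xa1 ya52 za16) (ka xa4 ya44 za10) (ka xa7 ya42 za42) (ka xa3 ya27 za13) (ka xa3 ya27 za14) (ka xa1 ya52 za23) (ka xa1 ya52 za24) (ka xa1 ya52 za25) (ka xa1 ya52 za26) (ka xa1 ya52 za27) (ka xa3 ya14 za42) (ka xa3 ya27 za18) (ka xa3 ya23 za39) (ka xa7 ya43 za11)) (@D3.rec (fun _ => Pt) (ka xa3 ya23 za41) (ka xa7 ya42 za53) (ka xa7 ya42 za54) (ka xa7 ya42 za55) (ka xa7 ya42 za56) (ka xa7 ya43 za29) (ka xa7 ya42 za58)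 (ka xa7 ya11 za15) (ka xa7 ya43 za38) (ka xa7 ya42 za60) (ka xa7 ya42 za61) (ka xa7 ya43 za0) (ka xa7 ya43 za1) (ka xa7 ya43 za2) (ka xa1 ya52 za28) (ka xa6 ya44 za19) (ka xa7 ya43 za54) (ka xa7 ya1 za41) (ka xa7 ya1 za42) (ka xa7 ya1 za43) (ka xa7 ya1 za44) (ka xa1 ya52 za30) (ka xa7 ya44 za9) (ka xa7 ya1 za27) (ka xa7 ya1 za28) (ka xa7 ya1 za29) (ka xa7 ya1 za30) (ka xa6 ya35 za53) (ka xa6 ya35 za52) (ka xa1 ya52 za32) (ka xa7 ya44 za26) (ka xa6 ya39 za61) (ka xa6 ya40 za0) (ka xa6 ya40 za1) (ka xa6 ya39 za60) (ka xa7 ya44 za40) (ka xa7 ya36 za36) (ka xa7 ya36 za37) (ka xa7 ya36 za38) (ka xa7 ya44 za56) (ka xa7 ya36 za40) (ka xa7 ya36 za41) (ka xa7 ya36 za42) (ka xa7 ya36 za43) (ka xa7 ya36 za44) (ka xa7 ya36 za45) (ka xa7 ya36 za46) (ka xa6 ya39 za50) (ka xa6 ya39 za47) (ka xa6 ya39 za48) (ka xa6 ya39 za49) (ka xa7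 ya36 za53) (ka xa1 ya52 za39) (ka xa7 ya25 za55) (ka xa7 ya45 za32) (ka xa7 ya45 za33) (ka xa3 ya27 za32) (ka xa3 ya26 za17) (ka xa3 ya27 za33) (ka xa3 ya27 za34) (ka xa7 ya16 za18) (ka xa7 ya36 za50)) (@D3.rec (fun _ => Pt) (ka xa7 ya36 za51) (ka xa7 ya36 za52) (ka xa3 ya30 za28) (ka xa6 ya57 za17) (ka xa7 ya36 za47) (ka xa1 ya52 za43) (ka xa7 ya45 za61) (ka xa7 ya46 za0) (ka xa7 ya36 za57) (ka xa7 ya24 za43) (ka xa7 ya24 za50) (ka xa7 ya46 za7) (ka xa7 ya36 za59) (ka xa7 ya34 za47) (ka xa7 ya36 za60) (ka xa7 ya46 za18) (ka xa7 ya37 za0) (ka xa7 ya3 za2) (ka xa7 ya37 za1) (ka xa7 ya37 za2) (ka xa7 ya37 za3) (ka xa7 ya46 za34) (ka xa7 ya2 za59) (ka xa7 ya2 za58) (ka xa7 ya37 za5) (ka xa7 ya30 za26) (ka xa7 ya40 za49) (ka xa7 ya30 za23) (ka xa7 ya10 za34) (ka xa7 ya41 za57) (ka xa7 ya10 za26) (ka xa7 ya30 za24) (ka xa7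 ya2 za38) (ka xa7 ya30 za25) (ka xa1 ya52 za58) (ka xa1 ya52 za59) (ka xa7 ya47 za2) (ka xa3 ya27 za23) (ka xa3 ya27 za24) (ka xa3 ya52 za44) (ka xa3 ya52 za43) (ka xa6 ya56 za56) (ka xa7 ya30 za55) (ka xa3 ya52 za40) (ka xa3 ya52 za39) (ka xa7 ya47 za11) (ka xa7 ya37 za8) (ka xa7 ya37 za17) (ka xa1 ya52 za61) (ka xa7 ya47 za18) (ka xa7 ya47 za19) (ka xa7 ya37 za12) (ka xa7 ya37 za13) (ka xa7 ya37 za14) (ka xa7 ya37 za15) (ka xa3 ya52 za59) (ka xa3 ya53 za23) (ka xa3 ya34 za52) (ka xa3 ya49 za46) (ka xa3 ya52 za55) (ka xa3 ya49 za39) (ka xa7 ya47 za52)) (@D3.rec (fun _ => Pt) (ka xa7 ya32 za9) (ka xa3 ya53 za21) (ka xa1 ya53 za9) (ka xa1 ya53 za10) (ka xa7 ya47 za58) (ka xa7 ya13 za38) (ka xa7 ya13 za39) (ka xa3 ya49 za12) (ka xa7 ya12 za27) (ka xa7 ya7 za43) (ka xa3 ya41 za45) (ka xa7 ya8 za38) (ka xa7 ya47 za56) (ka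 xa7 ya37 za9) (ka xa1 ya53 za11) (ka xa7 ya48 za6) (ka xa7 ya48 za7) (ka xa7 ya37 za21) (ka xa7 ya37 za22) (ka xa7 ya33 za23) (ka xa7 ya37 za23) (ka xa3 ya53 za1) (ka xa7 ya48 za25) (ka xa3 ya52 za56) (ka xa7 ya7 za23) (ka xa7 ya25 za34) (ka xa6 ya43 za25) (ka xa7 ya30 za28) (ka xa7 ya10 za17) (ka xa7 ya39 za26) (ka xa7 ya5 za57) (ka xa7 ya25 za35) (ka xa7 ya9 za43) (ka xa7 ya8 za54) (ka xa7 ya19 za0) (ka xa6 ya18 za60) (ka xa3 ya28 za58) (ka xa3 ya28 za56) (ka xa6 ya24 za5) (ka xa7 ya4 za3) (ka xa6 ya57 za19) (ka xa7 ya48 za57) (ka xa6 ya59 za22) (ka xa6 ya58 za22) (ka xa7 ya49 za2) (ka xa3 ya39 za42) (ka xa7 ya49 za7) (ka xa3 ya39 za41) (ka xa6 ya58 za23) (ka xa6 ya58 za37) (ka xa1 ya53 za32) (ka xa7 ya49 za13) (ka xa6 ya11 za49) (ka xa7 ya30 za34) (ka xa3 ya54 za47) (ka xa3 ya54 za49) (ka xa1 ya53 za45) (ka xa1 ya53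 za47) (ka xa1 ya53 za48) (ka xa1 ya53 za49) (ka xa1 ya53 za51) (ka xa1 ya53 za55)) (@D3.rec (fun _ => Pt) (ka xa1 ya53 za56) (ka xa1 ya53 za57) (ka xa3 ya54 za59) (ka xa3 ya54 za58) (ka xa1 ya53 za40) (ka xa7 ya49 za44) (ka xa3 ya55 za5) (ka xa3 ya55 za6) (ka xa3 ya55 za2) (ka xa3 ya55 za1) (ka xa1 ya53 za42) (ka xa7 ya49 za54) (ka xa3 ya55 za0) (ka xa4 ya34 za13) (ka xa4 ya48 za16) (ka xa7 ya49 za27) (ka xa7 ya49 za28) (ka xa7 ya49 za29) (ka xa7 ya49 za30) (ka xa7 ya50 za15) (ka xa7 ya9 za10) (ka xa3 ya56 za42) (ka xa7 ya50 za22) (ka xa7 ya49 za31) (ka xa7 ya49 za32) (ka xa7 ya49 za33) (ka xa7 ya29 za37) (ka xa7 ya49 za34) (ka xa7 ya49 za35) (ka xa7 ya8 za37) (ka xa7 ya20 za17) (ka xa7 ya50 za43) (ka xa7 ya49 za37) (ka xa3 ya41 za59) (ka xa3 ya31 za49) (ka xa7 ya4 za22) (ka xa3 ya26 za34) (ka xa3 ya48 za18) (ka xa3 ya48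 za19) (ka xa7 ya50 za61) (ka xa7 ya49 za38) (ka xa7 ya49 za39) (ka xa7 ya49 za40) (ka xa3 ya24 za51) (ka xa1 ya54 za41) (ka xa3 ya48 za57) (ka xa3 ya48 za59) (ka xa3 ya53 za54) (ka xa2 ya50 za26) (ka xa3 ya53 za55) (ka xa1 ya54 za10) (ka xa1 ya54 za12) (ka xa1 ya54 za13) (ka xa1 ya54 za14) (ka xa1 ya54 za16) (ka xa1 ya54 za18) (ka xa1 ya54 za22) (ka xa1 ya54 za23) (ka xa3 ya54 za3) (ka xa3 ya54 za2) (ka xa1 ya54 za5) (ka xa7 ya51 za37)) (@D3.rec (fun _ => Pt) (ka xa3 ya54 za12) (ka xa3 ya54 za9) (ka xa3 ya54 za8) (ka xa1 ya54 za7) (ka xa7 ya51 za46) (ka xa3 ya54 za6) (ka xa3 ya54 za7) (ka xa7 ya51 za57) (ka xa3 ya19 za7) (ka xa7 ya51 za20) (ka xa7 ya51 za21) (ka xa7 ya51 za22) (ka xa7 ya51 za23) (ka xa7 ya52 za14) (ka xa7 ya15 za7) (ka xa7 ya52 za19) (ka xa7 ya51 za25) (ka xa3 ya56 za21) (ka xa7 ya51 za26) (ka xa7 ya23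 za56) (ka xa7 ya51 za27) (ka xa7 ya51 za28) (ka xa7 ya25 za6) (ka xa7 ya52 za37) (ka xa7 ya51 za29) (ka xa7 ya41 za5) (ka xa7 ya51 za30) (ka xa3 ya56 za27) (ka xa3 ya49 za13) (ka xa6 ya52 za18) (ka xa7 ya19 za42) (ka xa7 ya24 za29) (ka xa3 ya39 za10) (ka xa6 ya52 za1) (ka xa7 ya51 za31) (ka xa7 ya37 za34) (ka xa7 ya51 za33) (ka xa3 ya49 za45) (ka xa3 ya49 za48) (ka xa3 ya25 za44) (ka xa3 ya26 za25) (ka xa3 ya23 za29) (ka xa3 ya26 za51) (ka xa3 ya26 za52) (ka xa3 ya26 za53) (ka xa3 ya26 za54) (ka xa7 ya37 za54) (ka xa7 ya37 za55) (ka xa3 ya23 za32) (ka xa3 ya26 za32) (ka xa3 ya26 za33) (ka xa3 ya26 za35) (ka xa1 ya54 za37) (ka xa1 ya54 za42) (ka xa7 ya13 za43) (ka xa7 ya28 za6) (ka xa7 ya53 za31) (ka xa7 ya53 za27) (ka xa7 ya11 za20) (ka xa7 ya37 za58) (ka xa7 ya28 za8) (ka xa7 ya10 za7)) (@D3.rec (fun _ => Pt) (ka xa7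 ya51 za6) (ka xa7 ya48 za38) (ka xa7 ya28 za47) (ka xa7 ya20 za46) (ka xa7 ya7 za22) (ka xa7 ya13 za61) (ka xa7 ya7 za24) (ka xa7 ya53 za58) (ka xa3 ya56 za30) (ka xa7 ya20 za44) (ka xa1 ya54 za53) (ka xa1 ya54 za54) (ka xa1 ya54 za56) (ka xa7 ya54 za6) (ka xa3 ya27 za42) (ka xa3 ya56 za35) (ka xa7 ya20 za45) (ka xa3 ya56 za38) (ka xa3 ya56 za37) (ka xa3 ya56 za20) (ka xa3 ya56 za19) (ka xa3 ya55 za17) (ka xa3 ya56 za25) (ka xa7 ya29 za0) (ka xa3 ya56 za28) (ka xa3 ya56 za22) (ka xa7 ya22 za59) (ka xa3 ya55 za27) (ka xa3 ya56 za24) (ka xa7 ya54 za42) (ka xa3 ya56 za8) (ka xa7 ya26 za7) (ka xa1 ya55 za2) (ka xa1 ya55 za3) (ka xa7 ya54 za52) (ka xa3 ya56 za15) (ka xa7 ya26 za8) (ka xa3 ya56 za18) (ka xa3 ya56 za17) (ka xa7 ya54 za27) (ka xa7 ya54 za49) (ka xa6 ya58 za3) (ka xa3 ya54 za21) (ka xa7 ya23 za53) (ka xa7 ya20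 za47) (ka xa7 ya26 za13) (ka xa7 ya26 za14) (ka xa3 ya25 za11) (ka xa7 ya26 za16) (ka xa6 ya57 za31) (ka xa6 ya34 za10) (ka xa3 ya38 za57) (ka xa2 ya1 za60) (ka xa2 ya8 za12) (ka xa2 ya8 za13) (ka xa2 ya8 za14) (ka xa4 ya15 za19) (ka xa4 ya15 za20) (ka xa2 ya8 za15) (ka xa2 ya8 za16) (ka xa2 ya8 za17) (ka xa2 ya8 za19)) (@D3.rec (fun _ => Pt) (ka xa2 ya8 za22) (ka xa2 ya8 za23) (ka xa4 ya15 za26) (ka xa2 ya8 za25) (ka xa2 ya8 za28) (ka xa2 ya8 za29) (ka xa2 ya8 za30) (ka xa7 ya55 za58) (ka xa2 ya8 za32) (ka xa2 ya8 za33) (ka xa2 ya8 za34) (ka xa1 ya55 za21) (ka xa7 ya56 za3) (ka xa7 ya56 za4) (ka xa2 ya8 za37) (ka xa2 ya8 za38) (ka xa2 ya8 za39) (ka xa7 ya56 za14) (ka xa2 ya8 za43) (ka xa2 ya8 za44) (ka xa7 ya7 za41) (ka xa2 ya8 za53) (ka xa2 ya8 za54) (ka xa5 ya41 za31) (ka xa2 ya9 za1) (ka xa2 ya9 za2) (ka xa2 ya9 za4)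 (ka xa2 ya9 za5) (ka xa5 ya41 za46) (ka xa1 ya55 za31) (ka xa7 ya56 za24) (ka xa5 ya41 za44) (ka xa2 ya9 za11) (ka xa2 ya9 za12) (ka xa2 ya9 za13) (ka xa2 ya9 za14) (ka xa2 ya9 za15) (ka xa2 ya9 za35) (ka xa2 ya9 za34) (ka xa7 ya12 za35) (ka xa2 ya9 za27) (ka xa2 ya9 za50) (ka xa2 ya9 za49) (ka xa1 ya55 za37) (ka xa7 ya56 za50) (ka xa2 ya9 za48) (ka xa2 ya10 za3) (ka xa2 ya10 za2) (ka xa5 ya53 za49) (ka xa2 ya9 za61) (ka xa2 ya10 za0) (ka xa4 ya1 za18) (ka xa4 ya36 za44) (ka xa4 ya36 za45) (ka xa7 ya57 za7) (ka xa5 ya47 za23) (ka xa4 ya39 za16) (ka xa1 ya55 za45) (ka xa4 ya26 za36) (ka xa4 ya26 za35) (ka xa7 ya57 za13) (ka xa7 ya57 za14)) (@D3.rec (fun _ => Pt) (ka xa2 ya10 za32) (ka xa2 ya10 za33) (ka xa2 ya10 za34) (ka xa2 ya23 za4) (ka xa3 ya58 za5) (ka xa3 ya58 za4) (ka xa1 ya55 za56) (ka xa1 ya55 za59) (ka xa1 ya55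 za61) (ka xa1 ya56 za0) (ka xa1 ya56 za1) (ka xa1 ya56 za2) (ka xa2 ya25 za18) (ka xa2 ya25 za19) (ka xa4 ya50 za47) (ka xa4 ya50 za48) (ka xa2 ya7 za15) (ka xa7 ya57 za37) (ka xa7 ya57 za38) (ka xa1 ya59 za52) (ka xa2 ya1 za54) (ka xa2 ya1 za55) (ka xa7 ya57 za39) (ka xa7 ya57 za40) (ka xa2 ya38 za60) (ka xa7 ya57 za41) (ka xa7 ya57 za42) (ka xa5 ya0 za36) (ka xa7 ya57 za43) (ka xa7 ya57 za44) (ka xa4 ya28 za4) (ka xa4 ya4 za0) (ka xa7 ya58 za34) (ka xa7 ya57 za46) (ka xa7 ya57 za47) (ka xa7 ya57 za48) (ka xa4 ya14 za34) (ka xa4 ya14 za35) (ka xa2 ya25 za45) (ka xa2 ya25 za46) (ka xa2 ya25 za48) (ka xa2 ya25 za52) (ka xa2 ya25 za53) (ka xa2 ya25 za54) (ka xa5 ya31 za28) (ka xa5 ya31 za27) (ka xa1 ya56 za6) (ka xa7 ya59 za0) (ka xa2 ya25 za60) (ka xa2 ya26 za0) (ka xa2 ya26 za1) (ka xa5 ya46 za49) (ka xa6 ya14 za19) (ka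 xa2 ya26 za9) (ka xa2 ya26 za8) (ka xa1 ya56 za12) (ka xa1 ya56 za18) (ka xa1 ya56 za14) (ka xa2 ya26 za30) (ka xa7 ya59 za10) (ka xa5 ya37 za45) (ka xa7 ya59 za11)) (@D3.rec (fun _ => Pt) (ka xa1 ya56 za15) (ka xa7 ya59 za20) (ka xa7 ya59 za16) (ka xa5 ya37 za44) (ka xa5 ya14 za5) (ka xa1 ya56 za17) (ka xa7 ya59 za29) (ka xa7 ya59 za30) (ka xa7 ya59 za31) (ka xa7 ya59 za32) (ka xa7 ya59 za8) (ka xa5 ya30 za39) (ka xa2 ya26 za45) (ka xa2 ya26 za46) (ka xa2 ya26 za47) (ka xa2 ya26 za48) (ka xa2 ya26 za49) (ka xa2 ya27 za6) (ka xa2 ya27 za7) (ka xa2 ya54 za23) (ka xa2 ya53 za11) (ka xa2 ya53 za4) (ka xa6 ya13 za16) (ka xa5 ya13 za56) (ka xa5 ya47 za29) (ka xa5 ya47 za30) (ka xa5 ya13 za57) (ka xa1 ya56 za26) (ka xa2 ya10 za17) (ka xa5 ya47 za45) (ka xa8 ya0 za4) (ka xa1 ya57 za9) (ka xa6 ya13 za14) (ka xa6 ya13 za15) (ka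 xa5 ya47 za26) (ka xa5 ya47 za27) (ka xa2 ya14 za41) (ka xa5 ya29 za15) (ka xa2 ya52 za44) (ka xa1 ya56 za33) (ka xa1 ya56 za34) (ka xa2 ya56 za31) (ka xa3 ya24 za1) (ka xa3 ya24 za2) (ka xa8 ya0 za30) (ka xa3 ya23 za60) (ka xa3 ya23 za61) (ka xa3 ya23 za35) (ka xa6 ya25 za50) (ka xa8 ya0 za21) (ka xa8 ya0 za22) (ka xa8 ya0 za23) (ka xa8 ya0 za24) (ka xa8 ya0 za52) (ka xa2 ya27 za51) (ka xa2 ya27 za52) (ka xa8 ya0 za57) (ka xa2 ya27 za54) (ka xa2 ya24 za44) (ka xa8 ya1 za1) (ka xa2 ya26 za5) (ka xa4 ya22 za61))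
def f_a_4 : D2 → D3 → Pt := @D2.rec (fun _ => D3 → Pt) (@D3.rec (fun _ => Pt) (ka xa1 ya56 za46) (ka xa8 ya1 za4) (ka xa4 ya22 za59) (ka xa4 ya0 za30) (ka xa4 ya0 za31) (ka xa4 ya0 za32) (ka xa6 ya13 za31) (ka xa4 ya36 za57) (ka xa4 ya37 za25) (ka xa6 ya24 za58) (ka xa6 ya24 za59) (ka xa4 ya0 za55) (ka xa4 ya0 za56) (ka xa4 ya0 za57) (ka xa8 ya1 za27) (ka xa2 ya24 za18) (ka xa5 ya17 za12) (ka xa2 ya24 za20) (ka xa8 ya1 za36) (ka xa2 ya24 za24) (ka xa2 ya24 za25) (ka xa2 ya24 za26) (ka xa8 ya1 za43) (ka xa2 ya18 za51) (ka xa3 ya10 za25) (ka xa8 ya1 za45) (ka xa7 ya59 za24) (ka xa1 ya56 za60) (ka xa8 ya1 za52) (ka xa8 ya1 za44) (ka xa4 ya0 za3) (ka xa4 ya0 za4) (ka xa4 ya0 za5) (ka xa3 ya3 za40) (ka xa3 ya3 za43) (ka xa3 ya3 za42) (ka xa1 ya57 za2) (ka xa5 ya47 za22) (ka xa2 ya18 za49) (ka xa1 ya57 za12) (ka xa1 ya57 za8)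 (ka xa2 ya10 za12) (ka xa6 ya14 za10) (ka xa8 ya2 za10) (ka xa2 ya27 za19) (ka xa8 ya0 za5) (ka xa5 ya49 za6) (ka xa8 ya0 za10) (ka xa1 ya57 za11) (ka xa8 ya2 za22) (ka xa5 ya49 za22) (ka xa8 ya2 za23) (ka xa8 ya2 za9) (ka xa4 ya58 za4) (ka xa3 ya3 za38) (ka xa4 ya0 za11) (ka xa4 ya0 za12) (ka xa4 ya0 za13) (ka xa3 ya3 za39) (ka xa2 ya37 za2) (ka xa5 ya16 za55) (ka xa1 ya58 za29)) (@D3.rec (fun _ => Pt) (ka xa1 ya58 za30) (ka xa1 ya58 za34) (ka xa1 ya58 za36) (ka xa1 ya58 za37) (ka xa2 ya11 za13) (ka xa1 ya58 za57) (ka xa1 ya58 za58) (ka xa1 ya58 za60) (ka xa1 ya58 za61) (ka xa8 ya3 za5) (ka xa1 ya59 za5) (ka xa4 ya1 za59) (ka xa4 ya1 za60) (ka xa4 ya1 za61) (ka xa4 ya2 za0) (ka xa4 ya2 za1) (ka xa2 ya33 za45) (ka xa4 ya2 za3) (ka xa3 ya57 za51) (ka xa4 ya2 za4) (ka xa4 ya2 za5) (ka xa5 ya7 za18) (ka xa4 ya2 za7) (ka xa8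 ya3 za26) (ka xa4 ya2 za8) (ka xa6 ya14 za35) (ka xa4 ya2 za10) (ka xa4 ya2 za11) (ka xa5 ya13 za27) (ka xa4 ya2 za13) (ka xa8 ya3 za39) (ka xa4 ya2 za14) (ka xa4 ya2 za15) (ka xa4 ya20 za42) (ka xa4 ya2 za21) (ka xa4 ya2 za22) (ka xa4 ya2 za23) (ka xa4 ya2 za24) (ka xa4 ya2 za25) (ka xa4 ya54 za0) (ka xa2 ya31 za30) (ka xa2 ya31 za31) (ka xa2 ya31 za32) (ka xa2 ya31 za35) (ka xa2 ya31 za36) (ka xa2 ya31 za37) (ka xa4 ya54 za2) (ka xa2 ya31 za39) (ka xa2 ya31 za40) (ka xa4 ya13 za46) (ka xa2 ya31 za42) (ka xa2 ya31 za43) (ka xa2 ya31 za44) (ka xa2 ya31 za45) (ka xa8 ya4 za29) (ka xa2 ya31 za47) (ka xa2 ya31 za48) (ka xa2 ya31 za49) (ka xa2 ya33 za15) (ka xa4 ya1 za11) (ka xa4 ya1 za12) (ka xa4 ya1 za13)) (@D3.rec (fun _ => Pt) (ka xa4 ya1 za14) (ka xa4 ya1 za15) (ka xa2 ya33 za23) (ka xa4 ya1 za17) (ka xa4 ya1 za19) (ka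 xa4 ya1 za20) (ka xa3 ya39 za31) (ka xa4 ya1 za22) (ka xa4 ya1 za24) (ka xa7 ya8 za24) (ka xa4 ya1 za26) (ka xa4 ya1 za27) (ka xa8 ya4 za55) (ka xa4 ya1 za29) (ka xa4 ya1 za31) (ka xa4 ya1 za32) (ka xa8 ya4 za60) (ka xa8 ya5 za3) (ka xa1 ya58 za8) (ka xa8 ya5 za8) (ka xa8 ya0 za60) (ka xa4 ya1 za34) (ka xa4 ya1 za35) (ka xa4 ya1 za36) (ka xa4 ya1 za37) (ka xa4 ya1 za38) (ka xa3 ya3 za52) (ka xa4 ya2 za37) (ka xa4 ya2 za38) (ka xa8 ya5 za34) (ka xa4 ya2 za40) (ka xa4 ya2 za41) (ka xa4 ya2 za42) (ka xa2 ya28 za23) (ka xa2 ya36 za31) (ka xa2 ya36 za32) (ka xa2 ya36 za33) (ka xa4 ya2 za27) (ka xa4 ya2 za28) (ka xa8 ya5 za56) (ka xa4 ya2 za30) (ka xa4 ya2 za31) (ka xa4 ya2 za32) (ka xa2 ya8 za35) (ka xa2 ya8 za36) (ka xa2 ya11 za26) (ka xa2 ya11 za27) (ka xa2 ya11 za30) (ka xa2 ya11 za48) (ka xa2 ya5 za24) (ka xa2 ya11 za49)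 (ka xa5 ya16 za56) (ka xa5 ya16 za57) (ka xa8 ya6 za22) (ka xa5 ya16 za59) (ka xa2 ya40 za55) (ka xa2 ya40 za56) (ka xa5 ya1 za23) (ka xa6 ya4 za45) (ka xa8 ya2 za46) (ka xa8 ya2 za47) (ka xa4 ya21 za22)) (@D3.rec (fun _ => Pt) (ka xa4 ya21 za20) (ka xa2 ya58 za35) (ka xa2 ya58 za36) (ka xa6 ya4 za46) (ka xa6 ya4 za47) (ka xa4 ya51 za7) (ka xa5 ya6 za5) (ka xa4 ya16 za59) (ka xa4 ya50 za41) (ka xa5 ya22 za31) (ka xa8 ya2 za48) (ka xa4 ya50 za42) (ka xa6 ya5 za2) (ka xa4 ya14 za21) (ka xa2 ya43 za61) (ka xa8 ya7 za6) (ka xa8 ya2 za50) (ka xa8 ya2 za51) (ka xa8 ya2 za52) (ka xa2 ya11 za4) (ka xa2 ya11 za5) (ka xa2 ya11 za6) (ka xa2 ya11 za7) (ka xa2 ya11 za9) (ka xa2 ya45 za30) (ka xa4 ya19 za10) (ka xa2 ya45 za29) (ka xa4 ya19 za9) (ka xa8 ya7 za30) (ka xa4 ya52 za47) (ka xa4 ya52 za48) (ka xa4 ya52 za49) (ka xa4 ya20 za48)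 (ka xa4 ya52 za50) (ka xa4 ya19 za59) (ka xa4 ya10 za4) (ka xa1 ya58 za49) (ka xa1 ya58 za50) (ka xa2 ya40 za13) (ka xa4 ya10 za5) (ka xa5 ya36 za30) (ka xa8 ya7 za46) (ka xa5 ya28 za15) (ka xa2 ya37 za15) (ka xa4 ya8 za58) (ka xa4 ya52 za52) (ka xa8 ya7 za58) (ka xa4 ya19 za12) (ka xa4 ya19 za13) (ka xa4 ya19 za14) (ka xa4 ya19 za15) (ka xa4 ya19 za16) (ka xa4 ya19 za18) (ka xa2 ya11 za14) (ka xa2 ya11 za15) (ka xa8 ya8 za18) (ka xa8 ya2 za55) (ka xa8 ya2 za56) (ka xa8 ya2 za57) (ka xa8 ya2 za58) (ka xa8 ya2 za59) (ka xa1 ya58 za59)) (@D3.rec (fun _ => Pt) (ka xa3 ya58 za31) (ka xa8 ya8 za33) (ka xa8 ya8 za42) (ka xa8 ya2 za61) (ka xa8 ya3 za0) (ka xa8 ya3 za1) (ka xa8 ya3 za2) (ka xa8 ya8 za56) (ka xa4 ya14 za37) (ka xa8 ya9 za0) (ka xa4 ya14 za42) (ka xa8 ya9 za6) (ka xa8 ya9 za11) (ka xa1 ya59 za2) (ka xa8 ya9 za16)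 (ka xa8 ya9 za5) (ka xa4 ya4 za17) (ka xa4 ya4 za16) (ka xa8 ya3 za6) (ka xa8 ya3 za7) (ka xa2 ya45 za27) (ka xa2 ya45 za28) (ka xa5 ya22 za58) (ka xa2 ya45 za24) (ka xa2 ya45 za25) (ka xa8 ya9 za47) (ka xa4 ya14 za28) (ka xa4 ya14 za29) (ka xa4 ya14 za30) (ka xa4 ya14 za31) (ka xa4 ya14 za32) (ka xa5 ya22 za42) (ka xa2 ya59 za45) (ka xa4 ya14 za33) (ka xa4 ya15 za56) (ka xa4 ya20 za36) (ka xa2 ya12 za40) (ka xa2 ya12 za41) (ka xa2 ya3 za41) (ka xa8 ya10 za7) (ka xa2 ya45 za32) (ka xa2 ya45 za33) (ka xa2 ya45 za34) (ka xa2 ya45 za35) (ka xa2 ya45 za36) (ka xa5 ya23 za39) (ka xa2 ya45 za39) (ka xa2 ya4 za44) (ka xa8 ya5 za14) (ka xa4 ya22 za57) (ka xa4 ya36 za56) (ka xa4 ya37 za4) (ka xa8 ya10 za32) (ka xa5 ya5 za7) (ka xa1 ya59 za33) (ka xa8 ya10 za35) (ka xa8 ya10 za31) (ka xa4 ya13 za33) (ka xa4 ya13 za34) (ka xa4 ya13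 za35) (ka xa4 ya6 za9) (ka xa2 ya28 za5)) (@D3.rec (fun _ => Pt) (ka xa4 ya5 za1) (ka xa4 ya5 za0) (ka xa1 ya59 za46) (ka xa1 ya59 za49) (ka xa1 ya59 za51) (ka xa1 ya59 za53) (ka xa1 ya59 za54) (ka xa4 ya6 za20) (ka xa4 ya6 za21) (ka xa4 ya53 za56) (ka xa4 ya19 za43) (ka xa2 ya29 za4) (ka xa8 ya10 za52) (ka xa7 ya58 za24) (ka xa2 ya34 za38) (ka xa8 ya10 za53) (ka xa8 ya10 za54) (ka xa4 ya20 za19) (ka xa8 ya10 za55) (ka xa8 ya10 za56) (ka xa4 ya13 za55) (ka xa7 ya58 za2) (ka xa7 ya58 za0) (ka xa5 ya21 za44) (ka xa8 ya10 za57) (ka xa8 ya10 za59) (ka xa8 ya10 za60) (ka xa8 ya10 za61) (ka xa4 ya14 za22) (ka xa4 ya6 za56) (ka xa4 ya6 za57) (ka xa4 ya6 za58) (ka xa2 ya44 za22) (ka xa4 ya7 za2) (ka xa4 ya7 za3) (ka xa2 ya15 za43) (ka xa2 ya15 za50) (ka xa3 ya0 za20) (ka xa2 ya53 za49) (ka xa4 ya7 za4) (ka xa2 ya0 za6) (ka xa6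 ya16 za10) (ka xa3 ya0 za22) (ka xa5 ya6 za48) (ka xa6 ya16 za8) (ka xa6 ya16 za9) (ka xa3 ya0 za3) (ka xa2 ya0 za17) (ka xa2 ya0 za13) (ka xa4 ya7 za9) (ka xa8 ya4 za61) (ka xa8 ya12 za17) (ka xa2 ya44 za46) (ka xa2 ya0 za14) (ka xa8 ya12 za26) (ka xa8 ya12 za23) (ka xa8 ya12 za25) (ka xa6 ya17 za5) (ka xa2 ya0 za16) (ka xa8 ya12 za34) (ka xa8 ya12 za35) (ka xa8 ya12 za36)) (@D3.rec (fun _ => Pt) (ka xa8 ya12 za37) (ka xa8 ya12 za15) (ka xa6 ya12 za44) (ka xa4 ya7 za24) (ka xa4 ya7 za25) (ka xa4 ya7 za26) (ka xa4 ya7 za27) (ka xa4 ya7 za28) (ka xa4 ya50 za30) (ka xa4 ya4 za60) (ka xa4 ya6 za11) (ka xa4 ya6 za10) (ka xa2 ya0 za31) (ka xa2 ya0 za35) (ka xa2 ya0 za37) (ka xa2 ya0 za39) (ka xa2 ya0 za40) (ka xa4 ya50 za31) (ka xa4 ya50 za32) (ka xa2 ya7 za38) (ka xa4 ya5 za7) (ka xa4 ya5 za8) (ka xa2 ya32 za10) (ka xa8 ya13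 za1) (ka xa8 ya13 za2) (ka xa4 ya55 za32) (ka xa2 ya35 za25) (ka xa2 ya35 za26) (ka xa5 ya15 za33) (ka xa4 ya18 za56) (ka xa8 ya13 za3) (ka xa5 ya36 za34) (ka xa4 ya50 za34) (ka xa8 ya13 za4) (ka xa8 ya13 za5) (ka xa2 ya35 za28) (ka xa4 ya55 za2) (ka xa4 ya55 za0) (ka xa6 ya4 za56) (ka xa5 ya22 za44) (ka xa8 ya13 za57) (ka xa8 ya13 za7) (ka xa8 ya13 za8) (ka xa8 ya13 za9) (ka xa4 ya19 za54) (ka xa4 ya19 za55) (ka xa6 ya45 za18) (ka xa2 ya59 za41) (ka xa2 ya59 za42) (ka xa2 ya43 za59) (ka xa4 ya50 za38) (ka xa4 ya50 za39) (ka xa8 ya14 za18) (ka xa2 ya59 za49) (ka xa4 ya19 za56) (ka xa4 ya19 za57) (ka xa4 ya5 za29) (ka xa4 ya5 za30) (ka xa4 ya5 za31) (ka xa8 ya14 za28) (ka xa8 ya14 za32) (ka xa2 ya0 za51)) (@D3.rec (fun _ => Pt) (ka xa8 ya14 za35) (ka xa8 ya14 za27) (ka xa4 ya5 za33) (ka xa4 ya5 za34) (ka xa4 ya5 za39) (ka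 xa2 ya51 za33) (ka xa2 ya1 za0) (ka xa2 ya0 za58) (ka xa5 ya47 za57) (ka xa4 ya5 za49) (ka xa2 ya0 za59) (ka xa4 ya53 za54) (ka xa4 ya53 za51) (ka xa3 ya21 za16) (ka xa5 ya38 za34) (ka xa2 ya0 za61) (ka xa3 ya6 za55) (ka xa8 ya14 za50) (ka xa5 ya58 za32) (ka xa7 ya27 za4) (ka xa8 ya14 za46) (ka xa2 ya31 za16) (ka xa2 ya59 za52) (ka xa3 ya3 za1) (ka xa4 ya6 za3) (ka xa4 ya6 za4) (ka xa4 ya6 za5) (ka xa4 ya6 za6) (ka xa4 ya6 za7) (ka xa2 ya28 za3) (ka xa2 ya28 za13) (ka xa2 ya28 za14) (ka xa4 ya7 za53) (ka xa2 ya28 za28) (ka xa4 ya7 za55) (ka xa4 ya7 za56) (ka xa4 ya7 za57) (ka xa2 ya58 za51) (ka xa2 ya58 za52) (ka xa2 ya59 za7) (ka xa2 ya59 za8) (ka xa4 ya8 za2) (ka xa4 ya8 za3) (ka xa8 ya15 za30) (ka xa4 ya8 za5) (ka xa4 ya8 za6) (ka xa4 ya8 za7) (ka xa2 ya33 za9) (ka xa2 ya33 za10) (ka xa2 ya37 za27) (ka xa4 ya10 za9)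 (ka xa4 ya21 za0) (ka xa4 ya21 za1) (ka xa4 ya7 za32) (ka xa2 ya43 za54) (ka xa4 ya7 za34) (ka xa4 ya7 za35) (ka xa4 ya7 za36) (ka xa2 ya39 za31) (ka xa2 ya39 za32) (ka xa2 ya1 za47) (ka xa2 ya1 za45)) (@D3.rec (fun _ => Pt) (ka xa2 ya39 za46) (ka xa2 ya39 za47) (ka xa4 ya7 za41) (ka xa4 ya7 za42) (ka xa8 ya16 za13) (ka xa4 ya7 za44) (ka xa4 ya7 za45) (ka xa4 ya7 za46) (ka xa2 ya8 za5) (ka xa2 ya8 za6) (ka xa2 ya1 za39) (ka xa2 ya1 za40) (ka xa2 ya1 za42) (ka xa2 ya1 za43) (ka xa2 ya1 za44) (ka xa2 ya1 za56) (ka xa2 ya1 za57) (ka xa2 ya8 za7) (ka xa2 ya1 za61) (ka xa2 ya2 za1) (ka xa2 ya2 za3) (ka xa2 ya2 za5) (ka xa2 ya2 za6) (ka xa2 ya2 za7) (ka xa8 ya16 za56) (ka xa2 ya2 za9) (ka xa2 ya2 za10) (ka xa2 ya2 za11) (ka xa4 ya16 za48) (ka xa4 ya51 za5) (ka xa4 ya51 za6) (ka xa2 ya43 za31) (ka xa2 ya43 za39) (ka xa5 ya29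 za54) (ka xa8 ya16 za24) (ka xa8 ya16 za25) (ka xa8 ya15 za50) (ka xa8 ya15 za49) (ka xa4 ya16 za61) (ka xa4 ya17 za0) (ka xa8 ya16 za26) (ka xa4 ya16 za1) (ka xa5 ya29 za36) (ka xa5 ya29 za33) (ka xa8 ya17 za34) (ka xa8 ya16 za28) (ka xa8 ya16 za29) (ka xa4 ya17 za10) (ka xa8 ya16 za30) (ka xa2 ya34 za48) (ka xa8 ya16 za31) (ka xa2 ya34 za47) (ka xa2 ya8 za9) (ka xa2 ya1 za51) (ka xa2 ya1 za52) (ka xa4 ya14 za2) (ka xa4 ya14 za3) (ka xa4 ya17 za17) (ka xa4 ya3 za44) (ka xa8 ya17 za55) (ka xa8 ya17 za56) (ka xa4 ya52 za51)) (@D3.rec (fun _ => Pt) (ka xa2 ya25 za28) (ka xa2 ya25 za29) (ka xa7 ya58 za3) (ka xa7 ya58 za4) (ka xa5 ya29 za44) (ka xa4 ya19 za30) (ka xa4 ya19 za50) (ka xa8 ya18 za16) (ka xa8 ya16 za33) (ka xa8 ya16 za34) (ka xa8 ya16 za35) (ka xa4 ya15 za40) (ka xa2 ya40 za12) (ka xa8 ya16 za36) (ka xa2 ya40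 za11) (ka xa2 ya23 za43) (ka xa2 ya38 za16) (ka xa7 ya55 za25) (ka xa5 ya29 za31) (ka xa5 ya17 za11) (ka xa8 ya18 za42) (ka xa8 ya16 za39) (ka xa8 ya16 za40) (ka xa2 ya6 za55) (ka xa5 ya28 za17) (ka xa4 ya17 za55) (ka xa8 ya16 za41) (ka xa2 ya41 za22) (ka xa8 ya16 za42) (ka xa2 ya2 za2) (ka xa8 ya10 za47) (ka xa8 ya18 za58) (ka xa8 ya19 za6) (ka xa8 ya16 za44) (ka xa8 ya16 za45) (ka xa2 ya34 za31) (ka xa8 ya16 za46) (ka xa4 ya18 za14) (ka xa2 ya34 za34) (ka xa8 ya16 za47) (ka xa8 ya19 za22) (ka xa2 ya24 za17) (ka xa8 ya16 za49) (ka xa8 ya16 za50) (ka xa8 ya19 za34) (ka xa8 ya16 za52) (ka xa8 ya16 za53) (ka xa8 ya19 za41) (ka xa6 ya48 za31) (ka xa2 ya2 za8) (ka xa8 ya19 za47) (ka xa8 ya19 za40) (ka xa8 ya16 za59) (ka xa8 ya16 za60) (ka xa8 ya6 za29) (ka xa8 ya16 za61) (ka xa8 ya6 za27) (ka xa8 ya17 za0) (ka xa4 ya16 za40)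 (ka xa4 ya16 za39) (ka xa4 ya17 za12) (ka xa4 ya17 za13)) (@D3.rec (fun _ => Pt) (ka xa2 ya2 za20) (ka xa2 ya2 za21) (ka xa2 ya2 za23) (ka xa2 ya2 za24) (ka xa4 ya3 za35) (ka xa4 ya3 za39) (ka xa4 ya27 za42) (ka xa4 ya27 za43) (ka xa2 ya34 za36) (ka xa4 ya7 za50) (ka xa4 ya27 za45) (ka xa4 ya17 za20) (ka xa4 ya17 za21) (ka xa4 ya17 za18) (ka xa4 ya17 za19) (ka xa4 ya17 za23) (ka xa4 ya17 za22) (ka xa8 ya20 za48) (ka xa8 ya20 za16) (ka xa8 ya20 za17) (ka xa8 ya20 za18) (ka xa8 ya20 za19) (ka xa8 ya20 za20) (ka xa8 ya21 za2) (ka xa4 ya17 za6) (ka xa8 ya21 za4) (ka xa4 ya12 za45) (ka xa4 ya17 za31) (ka xa4 ya17 za30) (ka xa2 ya2 za28) (ka xa6 ya11 za44) (ka xa4 ya12 za49) (ka xa4 ya12 za51) (ka xa3 ya1 za40) (ka xa4 ya15 za46) (ka xa4 ya17 za11) (ka xa4 ya16 za41) (ka xa4 ya16 za42) (ka xa4 ya16 za43) (ka xa2 ya2 za38) (ka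 xa2 ya2 za39) (ka xa4 ya15 za53) (ka xa4 ya16 za49) (ka xa4 ya16 za50) (ka xa4 ya16 za52) (ka xa4 ya16 za51) (ka xa8 ya21 za26) (ka xa8 ya21 za16) (ka xa8 ya21 za17) (ka xa8 ya20 za39) (ka xa2 ya37 za57) (ka xa8 ya20 za38) (ka xa2 ya37 za56) (ka xa4 ya17 za8) (ka xa4 ya17 za7) (ka xa2 ya2 za42) (ka xa4 ya13 za21) (ka xa4 ya17 za36) (ka xa2 ya40 za35) (ka xa2 ya40 za36) (ka xa2 ya40 za34) (ka xa2 ya40 za37)) (@D3.rec (fun _ => Pt) (ka xa8 ya21 za54) (ka xa2 ya2 za49) (ka xa2 ya2 za50) (ka xa4 ya18 za1) (ka xa4 ya18 za0) (ka xa8 ya22 za4) (ka xa8 ya21 za56) (ka xa8 ya21 za57) (ka xa8 ya21 za58) (ka xa8 ya21 za59) (ka xa2 ya38 za28) (ka xa8 ya21 za60) (ka xa4 ya18 za9) (ka xa4 ya18 za8) (ka xa2 ya2 za51) (ka xa3 ya16 za61) (ka xa4 ya17 za51) (ka xa4 ya17 za52) (ka xa4 ya17 za53) (ka xa4 ya17 za54) (ka xa4 ya16 za8) (ka xa4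 ya17 za56) (ka xa4 ya17 za59) (ka xa2 ya41 za40) (ka xa2 ya2 za58) (ka xa2 ya2 za59) (ka xa4 ya17 za40) (ka xa4 ya17 za39) (ka xa8 ya22 za41) (ka xa8 ya22 za32) (ka xa8 ya22 za33) (ka xa8 ya22 za34) (ka xa8 ya22 za17) (ka xa8 ya22 za35) (ka xa4 ya17 za48) (ka xa4 ya17 za47) (ka xa2 ya2 za60) (ka xa6 ya9 za60) (ka xa3 ya9 za40) (ka xa4 ya18 za12) (ka xa4 ya18 za13) (ka xa4 ya16 za18) (ka xa4 ya18 za20) (ka xa4 ya18 za19) (ka xa2 ya3 za3) (ka xa8 ya23 za2) (ka xa2 ya3 za9) (ka xa2 ya3 za5) (ka xa8 ya23 za12) (ka xa8 ya23 za8) (ka xa8 ya23 za9) (ka xa8 ya23 za10) (ka xa2 ya3 za6) (ka xa7 ya11 za46) (ka xa8 ya23 za20) (ka xa8 ya23 za24) (ka xa6 ya19 za14) (ka xa2 ya3 za8) (ka xa2 ya6 za31) (ka xa2 ya6 za30) (ka xa8 ya23 za33) (ka xa8 ya23 za34)) (@D3.rec (fun _ => Pt) (ka xa8 ya23 za6) (ka xa4 ya12 za2) (ka xa4 ya12 za1) (ka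 xa8 ya20 za14) (ka xa4 ya18 za32) (ka xa4 ya18 za33) (ka xa4 ya18 za34) (ka xa8 ya11 za3) (ka xa8 ya23 za56) (ka xa2 ya33 za44) (ka xa4 ya18 za36) (ka xa4 ya19 za21) (ka xa4 ya19 za22) (ka xa4 ya19 za23) (ka xa2 ya3 za25) (ka xa2 ya3 za26) (ka xa2 ya3 za28) (ka xa2 ya3 za29) (ka xa7 ya56 za5) (ka xa4 ya19 za31) (ka xa4 ya19 za32) (ka xa4 ya51 za0) (ka xa4 ya19 za28) (ka xa4 ya19 za29) (ka xa4 ya19 za34) (ka xa4 ya19 za33) (ka xa3 ya9 za27) (ka xa8 ya24 za4) (ka xa8 ya24 za5) (ka xa8 ya24 za6) (ka xa8 ya24 za7) (ka xa8 ya24 za8) (ka xa2 ya28 za22) (ka xa2 ya40 za27) (ka xa2 ya7 za13) (ka xa4 ya51 za8) (ka xa4 ya51 za9) (ka xa8 ya24 za52) (ka xa2 ya45 za53) (ka xa2 ya45 za51) (ka xa2 ya45 za52) (ka xa2 ya45 za54) (ka xa4 ya21 za31) (ka xa4 ya51 za29) (ka xa7 ya55 za17) (ka xa4 ya10 za26) (ka xa3 ya8 za46) (ka xa3 ya11 za57)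 (ka xa4 ya51 za15) (ka xa4 ya10 za31) (ka xa7 ya56 za10) (ka xa4 ya10 za32) (ka xa4 ya19 za3) (ka xa4 ya19 za7) (ka xa4 ya19 za51) (ka xa2 ya41 za2) (ka xa4 ya18 za37) (ka xa4 ya18 za38) (ka xa2 ya3 za50) (ka xa2 ya3 za51) (ka xa2 ya3 za52) (ka xa2 ya3 za54)) (@D3.rec (fun _ => Pt) (ka xa4 ya51 za20) (ka xa4 ya18 za45) (ka xa4 ya18 za46) (ka xa2 ya41 za4) (ka xa4 ya18 za43) (ka xa4 ya18 za44) (ka xa4 ya18 za48) (ka xa4 ya18 za47) (ka xa8 ya25 za32) (ka xa8 ya25 za11) (ka xa8 ya25 za12) (ka xa8 ya24 za22) (ka xa8 ya24 za21) (ka xa4 ya51 za23) (ka xa4 ya19 za41) (ka xa2 ya6 za44) (ka xa3 ya11 za28) (ka xa4 ya19 za0) (ka xa2 ya3 za55) (ka xa2 ya19 za21) (ka xa4 ya56 za49) (ka xa4 ya10 za56) (ka xa4 ya14 za8) (ka xa2 ya25 za24) (ka xa2 ya4 za1) (ka xa2 ya38 za37) (ka xa8 ya25 za50) (ka xa7 ya19 za13) (ka xa8 ya14 za47) (ka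 xa8 ya25 za55) (ka xa2 ya4 za5) (ka xa8 ya25 za58) (ka xa8 ya25 za52) (ka xa4 ya4 za57) (ka xa4 ya4 za58) (ka xa4 ya4 za59) (ka xa2 ya4 za19) (ka xa2 ya31 za27) (ka xa2 ya31 za28) (ka xa2 ya31 za38) (ka xa4 ya13 za47) (ka xa4 ya13 za48) (ka xa2 ya24 za53) (ka xa2 ya24 za54) (ka xa2 ya58 za59) (ka xa2 ya58 za60) (ka xa4 ya1 za49) (ka xa4 ya13 za40) (ka xa4 ya13 za41) (ka xa2 ya4 za22) (ka xa2 ya4 za23) (ka xa2 ya4 za28) (ka xa2 ya4 za30) (ka xa2 ya4 za31) (ka xa8 ya26 za8) (ka xa4 ya5 za20) (ka xa6 ya6 za16) (ka xa5 ya15 za15) (ka xa2 ya23 za20) (ka xa2 ya23 za21) (ka xa2 ya41 za9) (ka xa5 ya27 za36)) (@D3.rec (fun _ => Pt) (ka xa8 ya26 za22) (ka xa8 ya23 za55) (ka xa4 ya8 za55) (ka xa4 ya8 za56) (ka xa4 ya55 za3) (ka xa4 ya55 za4) (ka xa4 ya55 za6) (ka xa4 ya55 za7) (ka xa4 ya13 za22) (ka xa5 ya14 za59) (ka xa8 ya26 za23)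 (ka xa4 ya28 za27) (ka xa4 ya55 za25) (ka xa4 ya55 za26) (ka xa2 ya11 za58) (ka xa8 ya27 za7) (ka xa8 ya26 za25) (ka xa2 ya41 za49) (ka xa8 ya26 za26) (ka xa2 ya59 za36) (ka xa2 ya59 za37) (ka xa4 ya3 za13) (ka xa4 ya5 za28) (ka xa8 ya27 za31) (ka xa4 ya50 za44) (ka xa4 ya50 za45) (ka xa4 ya50 za46) (ka xa8 ya27 za38) (ka xa4 ya4 za26) (ka xa4 ya4 za27) (ka xa4 ya4 za28) (ka xa4 ya4 za29) (ka xa4 ya4 za30) (ka xa4 ya4 za33) (ka xa3 ya58 za36) (ka xa3 ya58 za37) (ka xa8 ya27 za59) (ka xa4 ya4 za8) (ka xa4 ya55 za53) (ka xa4 ya55 za54) (ka xa4 ya55 za55) (ka xa4 ya55 za56) (ka xa4 ya4 za10) (ka xa8 ya10 za23) (ka xa8 ya10 za24) (ka xa8 ya10 za25) (ka xa8 ya28 za17) (ka xa8 ya28 za22) (ka xa2 ya4 za45) (ka xa8 ya28 za27) (ka xa8 ya28 za16) (ka xa4 ya14 za52) (ka xa4 ya14 za51) (ka xa4 ya56 za28) (ka xa5 ya38 za52) (ka xa2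 ya39 za20) (ka xa2 ya39 za21) (ka xa2 ya39 za38) (ka xa2 ya39 za39) (ka xa4 ya15 za13) (ka xa4 ya15 za14) (ka xa8 ya28 za60)) (@D3.rec (fun _ => Pt) (ka xa4 ya15 za16) (ka xa4 ya15 za17) (ka xa4 ya15 za18) (ka xa2 ya7 za37) (ka xa2 ya58 za39) (ka xa4 ya20 za53) (ka xa4 ya20 za54) (ka xa2 ya59 za0) (ka xa2 ya59 za1) (ka xa2 ya5 za16) (ka xa2 ya5 za14) (ka xa2 ya59 za15) (ka xa2 ya59 za16) (ka xa4 ya14 za59) (ka xa4 ya14 za60) (ka xa8 ya29 za27) (ka xa4 ya15 za0) (ka xa4 ya15 za1) (ka xa4 ya15 za2) (ka xa3 ya56 za56) (ka xa3 ya56 za57) (ka xa2 ya5 za11) (ka xa2 ya5 za12) (ka xa2 ya5 za13) (ka xa2 ya5 za22) (ka xa2 ya5 za23) (ka xa3 ya57 za2) (ka xa2 ya5 za26) (ka xa2 ya5 za27) (ka xa2 ya5 za29) (ka xa2 ya5 za30) (ka xa2 ya5 za31) (ka xa2 ya5 za32) (ka xa8 ya30 za4) (ka xa2 ya5 za34) (ka xa2 ya5 za35) (ka xa2 ya5 za36) (ka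 xa2 ya41 za26) (ka xa2 ya41 za23) (ka xa8 ya29 za35) (ka xa4 ya9 za11) (ka xa8 ya18 za13) (ka xa8 ya24 za16) (ka xa8 ya30 za28) (ka xa8 ya29 za37) (ka xa8 ya29 za38) (ka xa4 ya10 za34) (ka xa8 ya29 za39) (ka xa2 ya35 za43) (ka xa8 ya29 za40) (ka xa2 ya35 za42) (ka xa2 ya8 za46) (ka xa2 ya8 za47) (ka xa4 ya10 za41) (ka xa4 ya21 za39) (ka xa4 ya21 za40) (ka xa4 ya4 za34) (ka xa2 ya11 za41) (ka xa2 ya11 za42) (ka xa8 ya30 za60) (ka xa8 ya29 za42) (ka xa8 ya29 za43)) (@D3.rec (fun _ => Pt) (ka xa8 ya29 za44) (ka xa4 ya8 za41) (ka xa8 ya29 za45) (ka xa8 ya29 za47) (ka xa5 ya14 za54) (ka xa8 ya31 za14) (ka xa8 ya29 za49) (ka xa8 ya29 za50) (ka xa4 ya11 za20) (ka xa8 ya29 za51) (ka xa4 ya29 za13) (ka xa8 ya29 za52) (ka xa4 ya21 za54) (ka xa4 ya21 za55) (ka xa8 ya31 za38) (ka xa8 ya29 za54) (ka xa8 ya29 za55) (ka xa8 ya29 za56)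 (ka xa4 ya11 za41) (ka xa2 ya35 za33) (ka xa8 ya29 za57) (ka xa8 ya31 za53) (ka xa2 ya23 za37) (ka xa8 ya29 za59) (ka xa8 ya29 za60) (ka xa8 ya32 za3) (ka xa5 ya14 za58) (ka xa8 ya30 za0) (ka xa8 ya30 za1) (ka xa8 ya23 za40) (ka xa8 ya23 za39) (ka xa2 ya5 za33) (ka xa8 ya32 za15) (ka xa8 ya30 za7) (ka xa8 ya30 za8) (ka xa8 ya27 za13) (ka xa8 ya30 za9) (ka xa8 ya27 za11) (ka xa8 ya30 za10) (ka xa4 ya9 za59) (ka xa4 ya9 za58) (ka xa4 ya10 za36) (ka xa4 ya10 za37) (ka xa4 ya10 za38) (ka xa2 ya5 za43) (ka xa2 ya5 za44) (ka xa2 ya38 za31) (ka xa2 ya38 za29) (ka xa4 ya8 za28) (ka xa4 ya10 za42) (ka xa4 ya10 za43) (ka xa4 ya10 za45) (ka xa4 ya10 za44) (ka xa8 ya33 za7) (ka xa8 ya25 za35) (ka xa8 ya32 za46) (ka xa8 ya32 za47) (ka xa8 ya32 za48) (ka xa8 ya32 za49) (ka xa4 ya3 za7) (ka xa5 ya24 za22) (ka xa4 ya8 za38)) (@D3.rec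 (fun _ => Pt) (ka xa4 ya8 za39) (ka xa8 ya33 za26) (ka xa2 ya41 za41) (ka xa2 ya41 za42) (ka xa2 ya41 za44) (ka xa8 ya23 za21) (ka xa4 ya10 za24) (ka xa4 ya10 za54) (ka xa4 ya10 za53) (ka xa2 ya5 za53) (ka xa4 ya8 za47) (ka xa4 ya10 za35) (ka xa4 ya9 za60) (ka xa4 ya9 za61) (ka xa2 ya6 za1) (ka xa2 ya6 za2) (ka xa2 ya6 za5) (ka xa4 ya8 za57) (ka xa4 ya10 za13) (ka xa4 ya10 za14) (ka xa4 ya10 za11) (ka xa4 ya10 za12) (ka xa4 ya10 za16) (ka xa4 ya10 za15) (ka xa8 ya33 za57) (ka xa8 ya33 za39) (ka xa8 ya33 za40) (ka xa8 ya33 za0) (ka xa8 ya32 za61) (ka xa2 ya24 za11) (ka xa4 ya10 za28) (ka xa4 ya10 za27) (ka xa2 ya6 za6) (ka xa3 ya18 za43) (ka xa3 ya17 za7) (ka xa3 ya17 za6) (ka xa4 ya10 za57) (ka xa2 ya6 za11) (ka xa2 ya6 za12) (ka xa4 ya11 za27) (ka xa4 ya11 za26) (ka xa8 ya34 za23) (ka xa8 ya34 za13) (ka xa8 ya34 za14)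 (ka xa8 ya34 za15) (ka xa8 ya34 za16) (ka xa8 ya34 za17) (ka xa4 ya11 za35) (ka xa4 ya11 za34) (ka xa2 ya6 za13) (ka xa6 ya36 za36) (ka xa4 ya11 za16) (ka xa4 ya11 za17) (ka xa4 ya11 za18) (ka xa4 ya11 za19) (ka xa4 ya9 za25) (ka xa4 ya11 za21) (ka xa3 ya7 za59) (ka xa2 ya43 za30) (ka xa4 ya11 za22) (ka xa2 ya6 za19) (ka xa2 ya6 za20)) (@D3.rec (fun _ => Pt) (ka xa4 ya11 za4) (ka xa4 ya11 za3) (ka xa8 ya34 za61) (ka xa8 ya34 za52) (ka xa8 ya34 za53) (ka xa8 ya34 za54) (ka xa8 ya34 za35) (ka xa8 ya34 za55) (ka xa4 ya11 za13) (ka xa4 ya11 za12) (ka xa2 ya6 za21) (ka xa3 ya10 za61) (ka xa4 ya11 za39) (ka xa4 ya11 za40) (ka xa4 ya9 za37) (ka xa3 ya9 za30) (ka xa3 ya9 za29) (ka xa2 ya6 za26) (ka xa6 ya48 za51) (ka xa4 ya11 za43) (ka xa4 ya11 za42) (ka xa2 ya6 za28) (ka xa8 ya35 za28) (ka xa8 ya35 za33) (ka xa8 ya23 za37) (ka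 xa8 ya21 za1) (ka xa8 ya23 za38) (ka xa6 ya27 za54) (ka xa8 ya23 za35) (ka xa8 ya21 za0) (ka xa6 ya23 za52) (ka xa8 ya32 za44) (ka xa4 ya12 za4) (ka xa4 ya12 za5) (ka xa4 ya12 za6) (ka xa5 ya29 za30) (ka xa4 ya12 za10) (ka xa4 ya12 za56) (ka xa4 ya12 za57) (ka xa2 ya6 za41) (ka xa2 ya6 za42) (ka xa2 ya6 za45) (ka xa5 ya29 za35) (ka xa4 ya13 za4) (ka xa4 ya13 za5) (ka xa4 ya13 za1) (ka xa4 ya13 za2) (ka xa4 ya13 za7) (ka xa4 ya13 za6) (ka xa6 ya26 za25) (ka xa8 ya21 za30) (ka xa8 ya35 za61) (ka xa8 ya36 za0) (ka xa8 ya36 za1) (ka xa8 ya36 za2) (ka xa5 ya17 za18) (ka xa4 ya6 za29) (ka xa4 ya22 za20) (ka xa5 ya28 za16) (ka xa2 ya6 za46) (ka xa8 ya17 za1) (ka xa4 ya22 za44)) (@D3.rec (fun _ => Pt) (ka xa4 ya13 za17) (ka xa4 ya22 za24) (ka xa8 ya36 za39) (ka xa4 ya12 za52) (ka xa2 ya23 za28) (ka xa2 ya6 za53) (ka xa8 ya11 za6)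 (ka xa4 ya12 za53) (ka xa2 ya6 za58) (ka xa4 ya3 za27) (ka xa4 ya3 za25) (ka xa8 ya36 za49) (ka xa4 ya3 za47) (ka xa4 ya3 za48) (ka xa4 ya3 za49) (ka xa4 ya3 za50) (ka xa4 ya3 za51) (ka xa2 ya38 za21) (ka xa4 ya3 za52) (ka xa6 ya14 za32) (ka xa2 ya44 za29) (ka xa4 ya12 za11) (ka xa4 ya12 za12) (ka xa4 ya12 za13) (ka xa2 ya7 za11) (ka xa2 ya7 za12) (ka xa2 ya7 za16) (ka xa4 ya22 za39) (ka xa4 ya12 za22) (ka xa4 ya12 za23) (ka xa4 ya9 za5) (ka xa4 ya12 za19) (ka xa4 ya12 za20) (ka xa4 ya12 za25) (ka xa4 ya12 za24) (ka xa6 ya23 za43) (ka xa8 ya37 za8) (ka xa8 ya37 za9) (ka xa8 ya36 za13) (ka xa7 ya57 za55) (ka xa8 ya36 za12) (ka xa4 ya13 za14) (ka xa5 ya36 za9) (ka xa4 ya5 za10) (ka xa7 ya57 za54) (ka xa8 ya37 za38) (ka xa2 ya44 za4) (ka xa2 ya44 za5) (ka xa2 ya44 za6) (ka xa2 ya23 za31) (ka xa4 ya9 za6) (ka xa4 ya12 za54)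 (ka xa2 ya44 za45) (ka xa2 ya7 za25) (ka xa4 ya6 za44) (ka xa4 ya6 za45) (ka xa4 ya6 za54) (ka xa4 ya6 za55) (ka xa4 ya20 za25) (ka xa4 ya3 za34) (ka xa8 ya37 za58) (ka xa4 ya20 za27)) (@D3.rec (fun _ => Pt) (ka xa4 ya20 za28) (ka xa4 ya20 za29) (ka xa2 ya29 za48) (ka xa2 ya29 za49) (ka xa6 ya7 za34) (ka xa2 ya29 za56) (ka xa2 ya30 za39) (ka xa8 ya2 za15) (ka xa4 ya20 za33) (ka xa4 ya20 za34) (ka xa5 ya7 za32) (ka xa8 ya38 za15) (ka xa2 ya7 za34) (ka xa8 ya38 za17) (ka xa8 ya38 za13) (ka xa4 ya20 za41) (ka xa4 ya20 za43) (ka xa4 ya20 za44) (ka xa4 ya20 za45) (ka xa4 ya5 za17) (ka xa4 ya54 za52) (ka xa6 ya4 za59) (ka xa8 ya13 za13) (ka xa2 ya59 za46) (ka xa2 ya59 za47) (ka xa4 ya19 za58) (ka xa8 ya38 za43) (ka xa4 ya19 za61) (ka xa4 ya20 za0) (ka xa4 ya20 za1) (ka xa2 ya33 za13) (ka xa2 ya33 za14) (ka xa2 ya33 za22) (ka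 xa4 ya20 za8) (ka xa4 ya20 za9) (ka xa8 ya4 za42) (ka xa4 ya4 za35) (ka xa5 ya54 za59) (ka xa2 ya7 za48) (ka xa8 ya38 za59) (ka xa7 ya17 za28) (ka xa4 ya20 za15) (ka xa4 ya1 za33) (ka xa4 ya20 za16) (ka xa4 ya20 za17) (ka xa4 ya20 za18) (ka xa4 ya20 za56) (ka xa4 ya20 za57) (ka xa4 ya3 za32) (ka xa8 ya39 za20) (ka xa4 ya20 za59) (ka xa4 ya20 za60) (ka xa4 ya20 za61) (ka xa4 ya15 za5) (ka xa4 ya15 za6) (ka xa2 ya36 za60) (ka xa4 ya20 za46) (ka xa4 ya20 za47) (ka xa8 ya39 za38) (ka xa4 ya20 za50) (ka xa4 ya20 za51) (ka xa4 ya20 za52)) (@D3.rec (fun _ => Pt) (ka xa4 ya7 za51) (ka xa4 ya7 za52) (ka xa2 ya8 za8) (ka xa4 ya52 za9) (ka xa2 ya25 za15) (ka xa2 ya25 za16) (ka xa8 ya16 za22) (ka xa8 ya16 za23) (ka xa8 ya7 za20) (ka xa2 ya34 za46) (ka xa8 ya15 za41) (ka xa8 ya10 za46) (ka xa8 ya16 za37) (ka xa2 ya24 za28) (ka xa8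 ya40 za7) (ka xa8 ya24 za33) (ka xa4 ya52 za21) (ka xa8 ya17 za54) (ka xa4 ya51 za24) (ka xa4 ya51 za25) (ka xa4 ya3 za0) (ka xa2 ya38 za13) (ka xa4 ya2 za61) (ka xa2 ya23 za44) (ka xa7 ya55 za26) (ka xa8 ya40 za27) (ka xa7 ya55 za28) (ka xa4 ya51 za32) (ka xa7 ya55 za29) (ka xa4 ya56 za45) (ka xa7 ya55 za32) (ka xa4 ya12 za42) (ka xa8 ya40 za40) (ka xa4 ya53 za13) (ka xa7 ya55 za34) (ka xa7 ya55 za35) (ka xa7 ya55 za36) (ka xa7 ya55 za37) (ka xa2 ya38 za22) (ka xa4 ya15 za54) (ka xa4 ya15 za55) (ka xa8 ya40 za59) (ka xa4 ya53 za14) (ka xa7 ya55 za39) (ka xa7 ya55 za40) (ka xa7 ya55 za41) (ka xa7 ya55 za42) (ka xa8 ya41 za10) (ka xa4 ya53 za4) (ka xa4 ya53 za5) (ka xa7 ya55 za45) (ka xa7 ya55 za46) (ka xa5 ya4 za57) (ka xa7 ya55 za47) (ka xa4 ya16 za12) (ka xa4 ya16 za13) (ka xa8 ya41 za32) (ka xa4 ya53 za7) (ka xa4 ya53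 za8) (ka xa7 ya55 za48) (ka xa7 ya55 za49) (ka xa7 ya55 za50)) (@D3.rec (fun _ => Pt) (ka xa8 ya41 za47) (ka xa4 ya56 za59) (ka xa7 ya55 za52) (ka xa8 ya41 za55) (ka xa7 ya55 za54) (ka xa7 ya55 za55) (ka xa8 ya42 za1) (ka xa8 ya42 za6) (ka xa2 ya8 za31) (ka xa8 ya42 za11) (ka xa8 ya42 za0) (ka xa4 ya56 za55) (ka xa4 ya56 za47) (ka xa7 ya55 za61) (ka xa7 ya56 za0) (ka xa7 ya56 za1) (ka xa7 ya56 za2) (ka xa2 ya41 za3) (ka xa8 ya6 za1) (ka xa8 ya6 za2) (ka xa4 ya18 za57) (ka xa8 ya6 za3) (ka xa8 ya42 za41) (ka xa7 ya56 za9) (ka xa4 ya19 za1) (ka xa7 ya56 za11) (ka xa3 ya10 za16) (ka xa4 ya23 za8) (ka xa4 ya22 za56) (ka xa4 ya56 za52) (ka xa4 ya56 za51) (ka xa2 ya8 za42) (ka xa8 ya42 za54) (ka xa8 ya42 za55) (ka xa7 ya56 za16) (ka xa3 ya4 za34) (ka xa4 ya56 za38) (ka xa7 ya56 za17) (ka xa4 ya58 za12) (ka xa4 ya19 za27) (ka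 xa5 ya23 za57) (ka xa8 ya30 za46) (ka xa8 ya43 za17) (ka xa4 ya56 za48) (ka xa4 ya18 za61) (ka xa4 ya56 za50) (ka xa7 ya56 za13) (ka xa7 ya56 za12) (ka xa2 ya8 za50) (ka xa8 ya43 za26) (ka xa4 ya56 za56) (ka xa2 ya47 za20) (ka xa2 ya47 za19) (ka xa2 ya8 za52) (ka xa8 ya43 za35) (ka xa2 ya13 za26) (ka xa4 ya22 za28) (ka xa4 ya4 za49) (ka xa7 ya56 za19) (ka xa4 ya0 za2) (ka xa6 ya14 za0) (ka xa3 ya59 za61)) (@D3.rec (fun _ => Pt) (ka xa2 ya46 za29) (ka xa5 ya41 za38) (ka xa7 ya7 za38) (ka xa7 ya7 za39) (ka xa7 ya7 za40) (ka xa4 ya56 za60) (ka xa4 ya56 za61) (ka xa3 ya10 za9) (ka xa4 ya22 za27) (ka xa7 ya56 za21) (ka xa5 ya46 za41) (ka xa6 ya14 za6) (ka xa7 ya7 za57) (ka xa7 ya7 za58) (ka xa7 ya7 za59) (ka xa7 ya56 za22) (ka xa2 ya9 za10) (ka xa2 ya9 za6) (ka xa8 ya1 za46) (ka xa2 ya26 za29) (ka xa5 ya24 za28) (ka xa8 ya44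 za16) (ka xa2 ya9 za7) (ka xa7 ya59 za21) (ka xa8 ya44 za21) (ka xa8 ya44 za22) (ka xa8 ya44 za24) (ka xa2 ya9 za9) (ka xa8 ya44 za31) (ka xa8 ya44 za32) (ka xa8 ya44 za33) (ka xa8 ya44 za34) (ka xa8 ya44 za15) (ka xa2 ya54 za47) (ka xa8 ya44 za52) (ka xa7 ya56 za31) (ka xa8 ya44 za59) (ka xa7 ya56 za33) (ka xa8 ya45 za5) (ka xa7 ya56 za35) (ka xa7 ya56 za36) (ka xa7 ya56 za37) (ka xa7 ya56 za38) (ka xa7 ya56 za39) (ka xa6 ya13 za11) (ka xa3 ya3 za58) (ka xa3 ya3 za57) (ka xa2 ya9 za17) (ka xa8 ya45 za26) (ka xa4 ya56 za33) (ka xa3 ya3 za50) (ka xa3 ya3 za51) (ka xa3 ya10 za4) (ka xa3 ya3 za61) (ka xa7 ya12 za10) (ka xa3 ya9 za56) (ka xa3 ya5 za2) (ka xa3 ya9 za53) (ka xa2 ya9 za25) (ka xa2 ya54 za24) (ka xa2 ya54 za22) (ka xa8 ya45 za40)) (@D3.rec (fun _ => Pt) (ka xa7 ya12 za33) (ka xa5 ya48 za39) (ka xa7 ya12 za8) (ka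 xa3 ya32 za37) (ka xa7 ya56 za45) (ka xa7 ya56 za46) (ka xa3 ya32 za19) (ka xa7 ya56 za47) (ka xa3 ya4 za35) (ka xa3 ya4 za37) (ka xa4 ya36 za6) (ka xa3 ya9 za50) (ka xa4 ya24 za47) (ka xa7 ya56 za41) (ka xa3 ya4 za56) (ka xa4 ya24 za46) (ka xa7 ya56 za40) (ka xa2 ya9 za37) (ka xa2 ya9 za38) (ka xa7 ya56 za43) (ka xa7 ya56 za42) (ka xa8 ya46 za11) (ka xa8 ya46 za12) (ka xa8 ya46 za13) (ka xa3 ya10 za0) (ka xa3 ya10 za1) (ka xa3 ya10 za2) (ka xa3 ya10 za3) (ka xa3 ya3 za49) (ka xa3 ya3 za37) (ka xa3 ya10 za6) (ka xa3 ya10 za7) (ka xa3 ya10 za8) (ka xa7 ya56 za48) (ka xa2 ya54 za25) (ka xa2 ya9 za47) (ka xa8 ya46 za42) (ka xa8 ya46 za43) (ka xa7 ya56 za53) (ka xa7 ya56 za54) (ka xa7 ya56 za55) (ka xa2 ya54 za20) (ka xa2 ya15 za39) (ka xa7 ya56 za49) (ka xa2 ya9 za52) (ka xa2 ya9 za53) (ka xa4 ya24 za15) (ka xa4 ya24 za12)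 (ka xa8 ya46 za57) (ka xa8 ya46 za58) (ka xa8 ya46 za39) (ka xa8 ya46 za59) (ka xa8 ya46 za60) (ka xa8 ya46 za61) (ka xa4 ya58 za0) (ka xa4 ya58 za1) (ka xa4 ya58 za2) (ka xa4 ya58 za3) (ka xa4 ya58 za5) (ka xa8 ya1 za58) (ka xa4 ya58 za6) (ka xa4 ya58 za7)) (@D3.rec (fun _ => Pt) (ka xa4 ya58 za8) (ka xa4 ya58 za9) (ka xa4 ya58 za10) (ka xa2 ya54 za11) (ka xa4 ya58 za11) (ka xa5 ya41 za37) (ka xa2 ya52 za60) (ka xa7 ya57 za0) (ka xa7 ya57 za1) (ka xa7 ya57 za2) (ka xa7 ya57 za3) (ka xa7 ya57 za4) (ka xa5 ya12 za61) (ka xa4 ya25 za14) (ka xa4 ya25 za13) (ka xa6 ya13 za50) (ka xa8 ya2 za11) (ka xa7 ya56 za56) (ka xa6 ya13 za49) (ka xa7 ya56 za57) (ka xa2 ya10 za5) (ka xa2 ya10 za6) (ka xa7 ya56 za60) (ka xa7 ya56 za59) (ka xa8 ya48 za10) (ka xa8 ya48 za11) (ka xa8 ya48 za12) (ka xa8 ya48 za13) (ka xa7 ya8 za27) (ka xa7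 ya17 za30) (ka xa6 ya9 za11) (ka xa6 ya9 za12) (ka xa6 ya9 za13) (ka xa6 ya9 za14) (ka xa6 ya9 za15) (ka xa5 ya38 za42) (ka xa6 ya9 za16) (ka xa6 ya9 za17) (ka xa2 ya10 za26) (ka xa2 ya10 za27) (ka xa2 ya54 za5) (ka xa2 ya10 za14) (ka xa2 ya10 za15) (ka xa7 ya56 za58) (ka xa8 ya2 za12) (ka xa8 ya2 za13) (ka xa2 ya14 za28) (ka xa2 ya26 za60) (ka xa2 ya27 za2) (ka xa2 ya27 za3) (ka xa2 ya10 za18) (ka xa2 ya16 za50) (ka xa8 ya48 za54) (ka xa8 ya48 za55) (ka xa2 ya10 za19) (ka xa2 ya30 za38) (ka xa8 ya48 za56) (ka xa5 ya13 za38) (ka xa2 ya10 za20) (ka xa6 ya25 za3) (ka xa8 ya0 za6) (ka xa5 ya47 za55)) (@D3.rec (fun _ => Pt) (ka xa6 ya13 za22) (ka xa5 ya49 za54) (ka xa8 ya49 za11) (ka xa2 ya52 za59) (ka xa8 ya49 za16) (ka xa8 ya47 za43) (ka xa2 ya10 za22) (ka xa2 ya10 za23) (ka xa2 ya10 za24) (ka xa2 ya10 za25) (ka xa8 ya49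 za43) (ka xa8 ya49 za35) (ka xa8 ya49 za36) (ka xa8 ya49 za51) (ka xa5 ya49 za34) (ka xa8 ya49 za37) (ka xa6 ya31 za23) (ka xa8 ya49 za38) (ka xa8 ya50 za2) (ka xa3 ya17 za52) (ka xa8 ya49 za40) (ka xa8 ya48 za50) (ka xa8 ya49 za41) (ka xa5 ya40 za32) (ka xa8 ya49 za42) (ka xa8 ya48 za51) (ka xa8 ya44 za50) (ka xa8 ya48 za52) (ka xa2 ya10 za28) (ka xa8 ya50 za25) (ka xa8 ya50 za26) (ka xa4 ya42 za39) (ka xa4 ya42 za40) (ka xa4 ya42 za41) (ka xa4 ya42 za42) (ka xa3 ya57 za59) (ka xa3 ya57 za58) (ka xa2 ya10 za30) (ka xa8 ya50 za46) (ka xa4 ya26 za52) (ka xa4 ya26 za53) (ka xa4 ya26 za54) (ka xa4 ya26 za51) (ka xa8 ya51 za0) (ka xa6 ya13 za34) (ka xa7 ya57 za26) (ka xa7 ya57 za27) (ka xa8 ya51 za14) (ka xa6 ya13 za35) (ka xa7 ya57 za29) (ka xa7 ya57 za30) (ka xa4 ya26 za42) (ka xa4 ya26 za39) (ka xa4 ya26 za40) (ka xa4 ya26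 za41) (ka xa6 ya13 za6) (ka xa7 ya57 za9) (ka xa6 ya13 za7) (ka xa4 ya52 za53) (ka xa6 ya13 za8) (ka xa6 ya13 za9) (ka xa6 ya13 za10)) (@D3.rec (fun _ => Pt) (ka xa8 ya46 za40) (ka xa6 ya13 za13) (ka xa2 ya58 za9) (ka xa5 ya12 za55) (ka xa8 ya46 za55) (ka xa5 ya0 za32) (ka xa5 ya0 za33) (ka xa2 ya37 za14) (ka xa2 ya34 za35) (ka xa2 ya37 za16) (ka xa2 ya37 za17) (ka xa2 ya37 za18) (ka xa2 ya29 za59) (ka xa2 ya29 za60) (ka xa2 ya34 za55) (ka xa2 ya34 za56) (ka xa4 ya27 za26) (ka xa4 ya27 za27) (ka xa8 ya52 za23) (ka xa4 ya27 za29) (ka xa4 ya27 za30) (ka xa4 ya27 za31) (ka xa2 ya33 za26) (ka xa2 ya33 za27) (ka xa2 ya35 za55) (ka xa2 ya35 za56) (ka xa4 ya27 za16) (ka xa4 ya27 za17) (ka xa8 ya52 za46) (ka xa4 ya27 za19) (ka xa4 ya27 za20) (ka xa4 ya27 za21) (ka xa2 ya11 za10) (ka xa2 ya11 za11) (ka xa2 ya11 za16) (ka xa2 ya11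 za17) (ka xa2 ya11 za18) (ka xa2 ya11 za19) (ka xa8 ya53 za9) (ka xa2 ya11 za21) (ka xa2 ya11 za22) (ka xa2 ya11 za23) (ka xa4 ya10 za6) (ka xa4 ya10 za7) (ka xa2 ya40 za26) (ka xa4 ya10 za10) (ka xa2 ya40 za30) (ka xa2 ya40 za31) (ka xa8 ya7 za14) (ka xa6 ya4 za54) (ka xa8 ya7 za15) (ka xa5 ya35 za31) (ka xa8 ya53 za38) (ka xa8 ya7 za17) (ka xa8 ya7 za18) (ka xa2 ya40 za52) (ka xa5 ya23 za12) (ka xa2 ya37 za31) (ka xa8 ya7 za19) (ka xa2 ya37 za30) (ka xa8 ya53 za59) (ka xa8 ya24 za34)) (@D3.rec (fun _ => Pt) (ka xa8 ya52 za55) (ka xa8 ya52 za56) (ka xa2 ya41 za39) (ka xa8 ya52 za57) (ka xa3 ya58 za30) (ka xa8 ya2 za53) (ka xa8 ya8 za10) (ka xa5 ya0 za41) (ka xa8 ya54 za19) (ka xa8 ya8 za12) (ka xa8 ya8 za13) (ka xa2 ya42 za10) (ka xa8 ya8 za14) (ka xa5 ya5 za21) (ka xa8 ya8 za15) (ka xa8 ya54 za37) (ka xa8 ya52 za59)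 (ka xa8 ya52 za60) (ka xa8 ya52 za61) (ka xa2 ya42 za38) (ka xa2 ya37 za24) (ka xa8 ya53 za0) (ka xa8 ya54 za51) (ka xa2 ya25 za32) (ka xa8 ya53 za2) (ka xa8 ya53 za3) (ka xa8 ya54 za59) (ka xa4 ya14 za11) (ka xa8 ya53 za5) (ka xa8 ya53 za6) (ka xa8 ya55 za6) (ka xa8 ya55 za11) (ka xa2 ya11 za20) (ka xa8 ya55 za16) (ka xa8 ya55 za5) (ka xa8 ya53 za12) (ka xa8 ya53 za13) (ka xa8 ya24 za32) (ka xa8 ya53 za14) (ka xa8 ya40 za10) (ka xa8 ya53 za15) (ka xa6 ya5 za27) (ka xa6 ya5 za26) (ka xa2 ya41 za14) (ka xa2 ya41 za15) (ka xa2 ya41 za11) (ka xa2 ya41 za13) (ka xa2 ya41 za17) (ka xa2 ya41 za16) (ka xa8 ya55 za56) (ka xa8 ya6 za5) (ka xa8 ya6 za6) (ka xa5 ya28 za9) (ka xa5 ya28 za6) (ka xa8 ya6 za7) (ka xa8 ya56 za8) (ka xa2 ya40 za40) (ka xa2 ya41 za28) (ka xa2 ya41 za27) (ka xa2 ya11 za33) (ka xa8 ya56 za17) (ka xa2 ya38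 za3)) (@D3.rec (fun _ => Pt) (ka xa2 ya40 za53) (ka xa2 ya40 za4) (ka xa2 ya40 za5) (ka xa2 ya40 za6) (ka xa2 ya38 za12) (ka xa2 ya40 za14) (ka xa2 ya40 za15) (ka xa2 ya40 za17) (ka xa2 ya40 za16) (ka xa8 ya56 za35) (ka xa8 ya27 za10) (ka xa8 ya30 za55) (ka xa8 ya30 za56) (ka xa4 ya16 za10) (ka xa8 ya30 za57) (ka xa2 ya40 za48) (ka xa2 ya40 za47) (ka xa2 ya11 za43) (ka xa8 ya56 za49) (ka xa8 ya56 za50) (ka xa2 ya41 za32) (ka xa2 ya41 za35) (ka xa2 ya41 za37) (ka xa2 ya41 za38) (ka xa2 ya42 za20) (ka xa2 ya42 za19) (ka xa8 ya57 za4) (ka xa8 ya6 za9) (ka xa8 ya6 za10) (ka xa8 ya6 za11) (ka xa8 ya6 za12) (ka xa5 ya15 za40) (ka xa8 ya6 za13) (ka xa2 ya42 za28) (ka xa2 ya42 za27) (ka xa2 ya11 za50) (ka xa8 ya57 za24) (ka xa8 ya57 za25) (ka xa2 ya42 za5) (ka xa2 ya42 za6) (ka xa2 ya42 za7) (ka xa2 ya42 za8) (ka xa2 ya42 za9)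 (ka xa2 ya38 za44) (ka xa2 ya42 za12) (ka xa2 ya42 za13) (ka xa2 ya42 za14) (ka xa2 ya42 za15) (ka xa2 ya42 za16) (ka xa2 ya11 za59) (ka xa8 ya57 za50) (ka xa8 ya27 za3) (ka xa8 ya27 za4) (ka xa8 ya57 za45) (ka xa8 ya57 za46) (ka xa8 ya57 za47) (ka xa2 ya41 za61) (ka xa2 ya41 za60) (ka xa2 ya11 za60) (ka xa8 ya58 za4) (ka xa8 ya58 za5) (ka xa2 ya42 za34)) (@D3.rec (fun _ => Pt) (ka xa2 ya42 za36) (ka xa2 ya42 za37) (ka xa2 ya38 za56) (ka xa2 ya42 za39) (ka xa2 ya42 za52) (ka xa2 ya42 za51) (ka xa2 ya12 za4) (ka xa8 ya58 za21) (ka xa8 ya58 za22) (ka xa2 ya42 za48) (ka xa2 ya42 za49) (ka xa2 ya42 za50) (ka xa2 ya42 za41) (ka xa2 ya42 za40) (ka xa2 ya12 za7) (ka xa8 ya58 za41) (ka xa8 ya58 za42) (ka xa8 ya58 za43) (ka xa2 ya42 za57) (ka xa2 ya12 za14) (ka xa2 ya12 za10) (ka xa6 ya45 za59) (ka xa8 ya58 za54) (ka xa8 ya58 za55)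 (ka xa8 ya58 za56) (ka xa2 ya12 za11) (ka xa8 ya59 za9) (ka xa8 ya59 za0) (ka xa8 ya59 za4) (ka xa5 ya56 za51) (ka xa2 ya12 za13) (ka xa2 ya48 za35) (ka xa2 ya48 za34) (ka xa8 ya59 za19) (ka xa8 ya59 za20) (ka xa8 ya58 za52) (ka xa8 ya59 za33) (ka xa8 ya59 za24) (ka xa2 ya43 za16) (ka xa2 ya43 za17) (ka xa2 ya43 za18) (ka xa2 ya43 za19) (ka xa2 ya43 za20) (ka xa2 ya43 za21) (ka xa2 ya43 za22) (ka xa8 ya6 za31) (ka xa2 ya43 za24) (ka xa2 ya43 za25) (ka xa2 ya43 za26) (ka xa8 ya29 za6) (ka xa2 ya43 za28) (ka xa2 ya43 za29) (ka xa2 ya12 za21) (ka xa5 ya22 za18) (ka xa8 ya11 za22) (ka xa2 ya45 za41) (ka xa2 ya45 za40) (ka xa2 ya12 za23) (ka xa2 ya55 za61) (ka xa7 ya57 za61) (ka xa9 ya0 za4) (ka xa2 ya44 za21)) (@D3.rec (fun _ => Pt) (ka xa2 ya44 za35) (ka xa2 ya12 za28) (ka xa2 ya44 za31) (ka xa2 ya44 za41) (ka xa2 ya44 za40)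 (ka xa2 ya12 za30) (ka xa2 ya45 za60) (ka xa2 ya45 za59) (ka xa6 ya9 za9) (ka xa6 ya9 za10) (ka xa2 ya45 za6) (ka xa2 ya45 za7) (ka xa2 ya45 za8) (ka xa9 ya0 za27) (ka xa5 ya59 za14) (ka xa9 ya0 za28) (ka xa2 ya43 za33) (ka xa2 ya43 za34) (ka xa2 ya43 za43) (ka xa2 ya43 za44) (ka xa8 ya17 za9) (ka xa2 ya43 za40) (ka xa2 ya43 za41) (ka xa2 ya43 za46) (ka xa2 ya43 za45) (ka xa9 ya0 za49) (ka xa5 ya35 za51) (ka xa8 ya10 za2) (ka xa8 ya10 za3) (ka xa4 ya52 za57) (ka xa8 ya10 za4) (ka xa2 ya44 za15) (ka xa2 ya44 za14) (ka xa2 ya12 za44) (ka xa9 ya1 za5) (ka xa2 ya45 za44) (ka xa2 ya45 za45) (ka xa9 ya1 za14) (ka xa2 ya45 za48) (ka xa7 ya58 za8) (ka xa9 ya1 za19) (ka xa9 ya1 za20) (ka xa2 ya44 za52) (ka xa2 ya12 za52) (ka xa2 ya44 za61) (ka xa2 ya44 za60) (ka xa2 ya46 za2) (ka xa5 ya41 za35) (ka xa5 ya43 za19) (ka xa2 ya46 za25)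 (ka xa2 ya46 za20) (ka xa2 ya46 za18) (ka xa2 ya46 za19) (ka xa2 ya46 za21) (ka xa2 ya46 za30) (ka xa2 ya46 za32) (ka xa5 ya42 za39) (ka xa8 ya44 za19) (ka xa2 ya14 za34) (ka xa2 ya13 za1) (ka xa2 ya13 za2) (ka xa9 ya1 za41)) (@D3.rec (fun _ => Pt) (ka xa9 ya1 za42) (ka xa2 ya31 za6) (ka xa5 ya48 za42) (ka xa2 ya46 za36) (ka xa2 ya46 za37) (ka xa2 ya46 za38) (ka xa2 ya46 za39) (ka xa2 ya47 za27) (ka xa2 ya47 za14) (ka xa2 ya47 za15) (ka xa2 ya47 za11) (ka xa2 ya47 za12) (ka xa2 ya13 za10) (ka xa2 ya47 za23) (ka xa9 ya2 za1) (ka xa9 ya2 za2) (ka xa2 ya13 za27) (ka xa2 ya47 za4) (ka xa2 ya47 za5) (ka xa2 ya47 za6) (ka xa2 ya47 za7) (ka xa2 ya47 za9) (ka xa2 ya46 za47) (ka xa2 ya46 za48) (ka xa2 ya46 za59) (ka xa2 ya46 za43) (ka xa2 ya46 za44) (ka xa2 ya46 za45) (ka xa2 ya13 za18) (ka xa2 ya13 za19) (ka xa2 ya13 za20) (ka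 xa2 ya46 za52) (ka xa2 ya46 za51) (ka xa9 ya2 za31) (ka xa3 ya33 za30) (ka xa2 ya46 za56) (ka xa2 ya46 za55) (ka xa9 ya2 za32) (ka xa9 ya2 za33) (ka xa8 ya12 za5) (ka xa2 ya53 za48) (ka xa6 ya16 za24) (ka xa7 ya14 za8) (ka xa2 ya47 za29) (ka xa2 ya47 za30) (ka xa2 ya47 za31) (ka xa2 ya47 za32) (ka xa2 ya47 za33) (ka xa2 ya13 za37) (ka xa2 ya46 za46) (ka xa2 ya46 za54) (ka xa2 ya46 za60) (ka xa2 ya46 za61) (ka xa8 ya43 za40) (ka xa5 ya40 za19) (ka xa7 ya7 za11) (ka xa8 ya43 za41) (ka xa2 ya13 za29) (ka xa9 ya2 za13) (ka xa9 ya2 za11) (ka xa2 ya13 za30) (ka xa2 ya13 za31)) (@D3.rec (fun _ => Pt) (ka xa9 ya3 za7) (ka xa3 ya36 za46) (ka xa9 ya3 za13) (ka xa9 ya3 za16) (ka xa2 ya30 za42) (ka xa5 ya49 za42) (ka xa2 ya13 za33) (ka xa2 ya13 za34) (ka xa2 ya13 za35) (ka xa2 ya13 za36) (ka xa6 ya9 za1) (ka xa9 ya3 za26) (ka xa9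 ya3 za27) (ka xa9 ya3 za29) (ka xa9 ya3 za30) (ka xa9 ya3 za31) (ka xa9 ya3 za32) (ka xa9 ya4 za1) (ka xa5 ya24 za18) (ka xa9 ya3 za34) (ka xa9 ya2 za58) (ka xa9 ya3 za35) (ka xa9 ya3 za36) (ka xa9 ya3 za37) (ka xa9 ya2 za59) (ka xa2 ya54 za48) (ka xa2 ya13 za39) (ka xa9 ya4 za25) (ka xa9 ya4 za26) (ka xa2 ya48 za24) (ka xa2 ya48 za25) (ka xa2 ya48 za27) (ka xa2 ya13 za41) (ka xa9 ya4 za39) (ka xa9 ya4 za40) (ka xa2 ya48 za31) (ka xa2 ya43 za10) (ka xa2 ya43 za9) (ka xa2 ya13 za43) (ka xa9 ya4 za51) (ka xa2 ya48 za38) (ka xa2 ya48 za39) (ka xa2 ya48 za40) (ka xa2 ya48 za41) (ka xa9 ya4 za61) (ka xa2 ya48 za43) (ka xa2 ya48 za44) (ka xa2 ya48 za45) (ka xa9 ya5 za8) (ka xa2 ya48 za47) (ka xa2 ya48 za48) (ka xa2 ya48 za49) (ka xa2 ya48 za50) (ka xa2 ya48 za51) (ka xa2 ya48 za52) (ka xa2 ya48 za53) (ka xa2 ya13 za54) (ka xa2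 ya13 za55) (ka xa5 ya54 za3) (ka xa5 ya57 za50) (ka xa2 ya51 za17) (ka xa2 ya51 za19)) (@D3.rec (fun _ => Pt) (ka xa9 ya5 za24) (ka xa9 ya5 za25) (ka xa9 ya5 za26) (ka xa2 ya50 za55) (ka xa9 ya5 za27) (ka xa2 ya50 za54) (ka xa2 ya50 za32) (ka xa2 ya50 za34) (ka xa9 ya5 za41) (ka xa2 ya50 za48) (ka xa9 ya5 za44) (ka xa2 ya50 za52) (ka xa2 ya50 za53) (ka xa3 ya54 za13) (ka xa5 ya43 za55) (ka xa2 ya14 za3) (ka xa5 ya43 za0) (ka xa5 ya57 za8) (ka xa2 ya51 za4) (ka xa2 ya49 za34) (ka xa6 ya24 za26) (ka xa2 ya50 za0) (ka xa2 ya50 za1) (ka xa2 ya49 za17) (ka xa2 ya14 za10) (ka xa2 ya14 za14) (ka xa2 ya14 za15) (ka xa5 ya56 za0) (ka xa2 ya50 za13) (ka xa6 ya44 za21) (ka xa2 ya50 za10) (ka xa2 ya50 za15) (ka xa9 ya5 za50) (ka xa9 ya5 za51) (ka xa7 ya44 za57) (ka xa9 ya5 za52) (ka xa2 ya51 za22) (ka xa2 ya51 za23) (ka xa2 ya51 za21)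 (ka xa2 ya51 za24) (ka xa3 ya18 za57) (ka xa2 ya51 za35) (ka xa2 ya51 za39) (ka xa2 ya14 za25) (ka xa5 ya50 za38) (ka xa5 ya54 za34) (ka xa9 ya6 za12) (ka xa5 ya56 za21) (ka xa2 ya51 za45) (ka xa2 ya14 za32) (ka xa2 ya14 za33) (ka xa2 ya14 za35) (ka xa2 ya51 za57) (ka xa9 ya6 za16) (ka xa9 ya6 za17) (ka xa9 ya6 za18) (ka xa9 ya6 za19) (ka xa9 ya6 za20) (ka xa8 ya49 za21) (ka xa9 ya1 za40) (ka xa5 ya38 za26) (ka xa5 ya38 za23)) (@D3.rec (fun _ => Pt) (ka xa9 ya6 za21) (ka xa2 ya58 za6) (ka xa2 ya52 za41) (ka xa2 ya52 za43) (ka xa2 ya27 za28) (ka xa2 ya14 za39) (ka xa9 ya6 za55) (ka xa8 ya0 za18) (ka xa2 ya52 za49) (ka xa9 ya7 za0) (ka xa2 ya52 za53) (ka xa2 ya16 za0) (ka xa2 ya54 za14) (ka xa2 ya55 za60) (ka xa2 ya53 za1) (ka xa2 ya54 za10) (ka xa2 ya54 za12) (ka xa2 ya54 za13) (ka xa2 ya54 za6) (ka xa2 ya54 za7) (ka xa2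 ya54 za8) (ka xa2 ya14 za55) (ka xa2 ya14 za56) (ka xa2 ya14 za57) (ka xa2 ya14 za59) (ka xa2 ya14 za60) (ka xa2 ya54 za40) (ka xa3 ya15 za33) (ka xa9 ya7 za15) (ka xa9 ya7 za16) (ka xa9 ya7 za17) (ka xa9 ya7 za18) (ka xa9 ya7 za19) (ka xa5 ya54 za20) (ka xa9 ya7 za20) (ka xa5 ya13 za41) (ka xa5 ya13 za48) (ka xa9 ya7 za21) (ka xa2 ya16 za56) (ka xa9 ya7 za22) (ka xa9 ya7 za23) (ka xa2 ya53 za58) (ka xa6 ya50 za4) (ka xa2 ya53 za61) (ka xa2 ya54 za1) (ka xa2 ya19 za40) (ka xa9 ya7 za58) (ka xa2 ya54 za4) (ka xa2 ya53 za13) (ka xa2 ya53 za14) (ka xa2 ya53 za15) (ka xa2 ya15 za38) (ka xa3 ya20 za15) (ka xa2 ya15 za20) (ka xa2 ya53 za5) (ka xa2 ya53 za6) (ka xa2 ya53 za7) (ka xa2 ya53 za8) (ka xa2 ya16 za37) (ka xa2 ya53 za10) (ka xa2 ya15 za16) (ka xa2 ya15 za17)) (@D3.rec (fun _ => Pt) (ka xa2 ya15 za18) (ka xa2 ya15 za19)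 (ka xa2 ya15 za21) (ka xa2 ya15 za22) (ka xa2 ya15 za23) (ka xa2 ya53 za28) (ka xa4 ya24 za10) (ka xa2 ya53 za25) (ka xa9 ya8 za10) (ka xa9 ya8 za11) (ka xa3 ya3 za17) (ka xa5 ya56 za61) (ka xa9 ya8 za12) (ka xa9 ya8 za13) (ka xa2 ya53 za43) (ka xa2 ya53 za42) (ka xa9 ya8 za14) (ka xa9 ya8 za15) (ka xa5 ya34 za19) (ka xa9 ya8 za16) (ka xa9 ya8 za17) (ka xa7 ya59 za54) (ka xa5 ya27 za13) (ka xa9 ya8 za18) (ka xa9 ya8 za19) (ka xa9 ya8 za20) (ka xa6 ya16 za26) (ka xa9 ya8 za21) (ka xa9 ya8 za22) (ka xa9 ya9 za6) (ka xa2 ya54 za54) (ka xa2 ya55 za57) (ka xa2 ya54 za57) (ka xa2 ya54 za58) (ka xa2 ya54 za60) (ka xa9 ya9 za14) (ka xa2 ya55 za0) (ka xa2 ya16 za16) (ka xa2 ya15 za42) (ka xa2 ya15 za46) (ka xa2 ya15 za47) (ka xa2 ya53 za12) (ka xa2 ya15 za36) (ka xa7 ya19 za17) (ka xa3 ya57 za52) (ka xa3 ya57 za53) (ka xa2 ya53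 za39) (ka xa5 ya51 za44) (ka xa9 ya9 za24) (ka xa5 ya50 za42) (ka xa3 ya0 za19) (ka xa8 ya46 za16) (ka xa2 ya54 za30) (ka xa5 ya51 za1) (ka xa2 ya15 za41) (ka xa9 ya9 za37) (ka xa4 ya4 za50) (ka xa4 ya0 za7) (ka xa6 ya24 za45) (ka xa6 ya15 za38) (ka xa7 ya26 za44) (ka xa9 ya9 za19)) (@D3.rec (fun _ => Pt) (ka xa2 ya15 za56) (ka xa8 ya12 za1) (ka xa5 ya7 za44) (ka xa8 ya3 za46) (ka xa4 ya4 za51) (ka xa2 ya15 za57) (ka xa2 ya17 za2) (ka xa2 ya17 za3) (ka xa9 ya9 za20) (ka xa5 ya51 za14) (ka xa3 ya7 za40) (ka xa9 ya9 za21) (ka xa9 ya9 za22) (ka xa2 ya15 za58) (ka xa2 ya53 za56) (ka xa7 ya30 za36) (ka xa9 ya7 za52) (ka xa2 ya15 za59) (ka xa2 ya30 za41) (ka xa2 ya30 za18) (ka xa7 ya53 za17) (ka xa3 ya0 za21) (ka xa2 ya15 za61) (ka xa5 ya43 za8) (ka xa5 ya50 za43) (ka xa4 ya0 za8) (ka xa9 ya9 za47) (ka xa9 ya9 za50) (ka xa8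 ya43 za34) (ka xa9 ya9 za56) (ka xa7 ya31 za21) (ka xa3 ya7 za42) (ka xa9 ya10 za10) (ka xa2 ya54 za55) (ka xa9 ya10 za12) (ka xa9 ya9 za5) (ka xa2 ya52 za61) (ka xa2 ya44 za17) (ka xa9 ya10 za21) (ka xa9 ya7 za2) (ka xa3 ya15 za7) (ka xa2 ya16 za10) (ka xa2 ya16 za11) (ka xa2 ya16 za12) (ka xa2 ya16 za13) (ka xa2 ya16 za14) (ka xa2 ya16 za3) (ka xa9 ya11 za9) (ka xa3 ya20 za19) (ka xa3 ya20 za18) (ka xa3 ya20 za26) (ka xa2 ya57 za6) (ka xa3 ya20 za27) (ka xa3 ya20 za28) (ka xa3 ya20 za29) (ka xa6 ya28 za54) (ka xa3 ya20 za20) (ka xa3 ya20 za21) (ka xa3 ya20 za22) (ka xa2 ya57 za23) (ka xa3 ya20 za23) (ka xa9 ya11 za41)) (@D3.rec (fun _ => Pt) (ka xa2 ya27 za33) (ka xa3 ya17 za46) (ka xa3 ya17 za47) (ka xa6 ya25 za16) (ka xa3 ya17 za42) (ka xa3 ya17 za43) (ka xa3 ya17 za44) (ka xa3 ya17 za51) (ka xa3 ya17 za50) (ka xa7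 ya26 za42) (ka xa9 ya10 za58) (ka xa9 ya10 za59) (ka xa9 ya10 za60) (ka xa9 ya10 za61) (ka xa9 ya11 za0) (ka xa9 ya12 za13) (ka xa9 ya11 za2) (ka xa9 ya11 za3) (ka xa9 ya11 za4) (ka xa9 ya12 za28) (ka xa9 ya11 za6) (ka xa9 ya11 za7) (ka xa9 ya11 za8) (ka xa2 ya54 za33) (ka xa2 ya54 za52) (ka xa6 ya7 za45) (ka xa9 ya4 za23) (ka xa9 ya9 za18) (ka xa2 ya16 za18) (ka xa2 ya16 za19) (ka xa2 ya57 za15) (ka xa2 ya57 za14) (ka xa3 ya16 za42) (ka xa9 ya12 za48) (ka xa9 ya12 za49) (ka xa9 ya12 za50) (ka xa9 ya12 za51) (ka xa9 ya12 za52) (ka xa2 ya56 za16) (ka xa2 ya57 za7) (ka xa2 ya57 za8) (ka xa2 ya57 za10) (ka xa2 ya57 za11) (ka xa2 ya16 za25) (ka xa2 ya16 za26) (ka xa2 ya57 za0) (ka xa2 ya56 za61) (ka xa9 ya13 za15) (ka xa9 ya13 za16) (ka xa9 ya13 za17) (ka xa9 ya13 za18) (ka xa3 ya20 za17) (ka xa9 ya13 za19) (ka xa2 ya57 za21)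 (ka xa2 ya56 za27) (ka xa2 ya57 za24) (ka xa2 ya57 za25) (ka xa2 ya57 za26) (ka xa2 ya57 za27) (ka xa2 ya57 za28) (ka xa2 ya57 za29) (ka xa2 ya57 za41)) (@D3.rec (fun _ => Pt) (ka xa2 ya16 za31) (ka xa9 ya13 za46) (ka xa9 ya13 za47) (ka xa9 ya13 za48) (ka xa2 ya57 za35) (ka xa2 ya57 za36) (ka xa2 ya57 za39) (ka xa2 ya18 za9) (ka xa2 ya57 za30) (ka xa2 ya16 za34) (ka xa9 ya14 za1) (ka xa2 ya57 za47) (ka xa2 ya57 za48) (ka xa2 ya57 za53) (ka xa2 ya57 za54) (ka xa2 ya57 za55) (ka xa3 ya57 za56) (ka xa9 ya8 za7) (ka xa2 ya57 za56) (ka xa2 ya57 za57) (ka xa9 ya7 za3) (ka xa2 ya57 za59) (ka xa2 ya57 za60) (ka xa9 ya8 za8) (ka xa2 ya58 za0) (ka xa2 ya58 za1) (ka xa2 ya58 za2) (ka xa2 ya58 za3) (ka xa9 ya14 za39) (ka xa2 ya52 za34) (ka xa2 ya58 za7) (ka xa2 ya58 za8) (ka xa2 ya52 za36) (ka xa2 ya52 za32) (ka xa6 ya14 za8) (ka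 xa5 ya46 za23) (ka xa8 ya49 za5) (ka xa8 ya49 za6) (ka xa6 ya24 za21) (ka xa6 ya24 za22) (ka xa6 ya24 za23) (ka xa2 ya16 za57) (ka xa2 ya30 za14) (ka xa5 ya12 za27) (ka xa5 ya6 za51) (ka xa2 ya16 za54) (ka xa9 ya14 za61) (ka xa9 ya15 za2) (ka xa5 ya38 za43) (ka xa9 ya7 za44) (ka xa9 ya7 za45) (ka xa9 ya15 za15) (ka xa3 ya0 za24) (ka xa3 ya0 za25) (ka xa3 ya0 za27) (ka xa3 ya0 za28) (ka xa5 ya46 za48) (ka xa4 ya41 za31) (ka xa3 ya2 za4) (ka xa3 ya2 za3) (ka xa6 ya38 za56) (ka xa9 ya9 za58)) (@D3.rec (fun _ => Pt) (ka xa9 ya9 za59) (ka xa9 ya9 za60) (ka xa9 ya9 za61) (ka xa6 ya25 za10) (ka xa3 ya0 za47) (ka xa3 ya0 za48) (ka xa6 ya16 za5) (ka xa3 ya0 za50) (ka xa3 ya0 za51) (ka xa2 ya19 za4) (ka xa6 ya17 za17) (ka xa3 ya7 za24) (ka xa6 ya17 za18) (ka xa6 ya17 za19) (ka xa6 ya17 za15) (ka xa4 ya47 za31) (ka xa4 ya47 za32)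 (ka xa9 ya15 za61) (ka xa2 ya17 za23) (ka xa2 ya17 za24) (ka xa2 ya17 za25) (ka xa2 ya17 za26) (ka xa2 ya17 za27) (ka xa2 ya20 za30) (ka xa9 ya16 za11) (ka xa2 ya20 za38) (ka xa9 ya16 za16) (ka xa2 ya20 za33) (ka xa2 ya20 za34) (ka xa2 ya20 za9) (ka xa9 ya16 za23) (ka xa2 ya21 za20) (ka xa9 ya16 za27) (ka xa2 ya21 za19) (ka xa4 ya44 za39) (ka xa3 ya0 za36) (ka xa2 ya17 za22) (ka xa6 ya0 za33) (ka xa9 ya16 za33) (ka xa3 ya5 za56) (ka xa9 ya16 za2) (ka xa9 ya16 za3) (ka xa9 ya16 za4) (ka xa9 ya16 za5) (ka xa9 ya16 za6) (ka xa3 ya2 za46) (ka xa9 ya16 za7) (ka xa2 ya17 za34) (ka xa9 ya16 za8) (ka xa9 ya16 za9) (ka xa2 ya17 za29) (ka xa9 ya17 za4) (ka xa9 ya17 za5) (ka xa9 ya17 za6) (ka xa9 ya17 za7) (ka xa6 ya15 za48) (ka xa3 ya2 za35) (ka xa6 ya25 za18) (ka xa3 ya2 za37) (ka xa3 ya2 za38) (ka xa3 ya2 za39) (ka xa3 ya2 za41))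 (@D3.rec (fun _ => Pt) (ka xa3 ya2 za42) (ka xa3 ya2 za56) (ka xa9 ya16 za60) (ka xa9 ya16 za61) (ka xa5 ya47 za49) (ka xa3 ya2 za49) (ka xa3 ya2 za50) (ka xa3 ya2 za52) (ka xa3 ya2 za53) (ka xa3 ya2 za54) (ka xa3 ya2 za55) (ka xa7 ya27 za17) (ka xa6 ya17 za30) (ka xa5 ya50 za8) (ka xa3 ya2 za61) (ka xa3 ya3 za0) (ka xa3 ya3 za3) (ka xa3 ya3 za4) (ka xa3 ya10 za11) (ka xa3 ya10 za10) (ka xa3 ya10 za15) (ka xa3 ya10 za12) (ka xa2 ya33 za21) (ka xa2 ya33 za36) (ka xa2 ya17 za49) (ka xa2 ya50 za56) (ka xa2 ya50 za59) (ka xa2 ya45 za15) (ka xa9 ya3 za24) (ka xa3 ya5 za27) (ka xa9 ya17 za48) (ka xa4 ya39 za57) (ka xa6 ya8 za34) (ka xa3 ya5 za28) (ka xa3 ya5 za30) (ka xa9 ya18 za1) (ka xa3 ya5 za33) (ka xa3 ya5 za34) (ka xa3 ya5 za35) (ka xa3 ya4 za28) (ka xa9 ya13 za14) (ka xa2 ya18 za8) (ka xa2 ya18 za16) (ka xa2 ya18 za18)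 (ka xa3 ya10 za41) (ka xa6 ya50 za28) (ka xa9 ya18 za11) (ka xa7 ya30 za39) (ka xa2 ya19 za18) (ka xa5 ya6 za61) (ka xa6 ya42 za19) (ka xa5 ya0 za15) (ka xa3 ya11 za31) (ka xa3 ya8 za47) (ka xa6 ya12 za59) (ka xa3 ya9 za2) (ka xa3 ya11 za2) (ka xa3 ya9 za13) (ka xa9 ya18 za8) (ka xa6 ya28 za10) (ka xa9 ya18 za27) (ka xa6 ya26 za12)) (@D3.rec (fun _ => Pt) (ka xa6 ya49 za54) (ka xa6 ya49 za55) (ka xa3 ya8 za32) (ka xa3 ya8 za33) (ka xa3 ya8 za34) (ka xa3 ya8 za24) (ka xa2 ya18 za22) (ka xa6 ya36 za27) (ka xa9 ya18 za35) (ka xa3 ya8 za45) (ka xa6 ya49 za56) (ka xa3 ya8 za53) (ka xa3 ya8 za54) (ka xa9 ya18 za48) (ka xa3 ya8 za56) (ka xa3 ya8 za57) (ka xa9 ya18 za54) (ka xa2 ya18 za31) (ka xa9 ya18 za55) (ka xa9 ya18 za56) (ka xa9 ya19 za2) (ka xa3 ya9 za10) (ka xa3 ya9 za11) (ka xa3 ya9 za12) (ka xa6 ya23 za34) (ka xa6 ya23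 za29) (ka xa2 ya18 za34) (ka xa2 ya18 za39) (ka xa9 ya19 za12) (ka xa9 ya19 za13) (ka xa9 ya19 za20) (ka xa3 ya9 za45) (ka xa3 ya9 za46) (ka xa3 ya9 za47) (ka xa3 ya9 za48) (ka xa3 ya4 za11) (ka xa2 ya18 za46) (ka xa9 ya19 za26) (ka xa9 ya19 za27) (ka xa4 ya26 za31) (ka xa4 ya26 za32) (ka xa4 ya26 za33) (ka xa4 ya26 za34) (ka xa5 ya49 za41) (ka xa8 ya2 za8) (ka xa5 ya50 za48) (ka xa3 ya4 za55) (ka xa3 ya4 za54) (ka xa3 ya5 za5) (ka xa3 ya5 za6) (ka xa3 ya5 za10) (ka xa3 ya9 za54) (ka xa3 ya4 za57) (ka xa3 ya4 za58) (ka xa2 ya49 za12) (ka xa3 ya5 za0) (ka xa3 ya5 za1) (ka xa3 ya5 za3) (ka xa3 ya5 za4) (ka xa3 ya10 za20) (ka xa6 ya31 za8) (ka xa3 ya10 za23)) (@D3.rec (fun _ => Pt) (ka xa8 ya35 za48) (ka xa3 ya7 za5) (ka xa9 ya12 za47) (ka xa2 ya19 za19) (ka xa2 ya19 za20) (ka xa3 ya14 za35) (ka xa3 ya7 za36) (ka xa4 ya44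 za35) (ka xa6 ya10 za43) (ka xa3 ya7 za29) (ka xa9 ya10 za37) (ka xa3 ya7 za43) (ka xa3 ya7 za44) (ka xa3 ya7 za41) (ka xa9 ya18 za14) (ka xa9 ya19 za55) (ka xa9 ya19 za56) (ka xa6 ya51 za21) (ka xa9 ya15 za51) (ka xa6 ya37 za31) (ka xa6 ya20 za51) (ka xa3 ya12 za2) (ka xa6 ya59 za4) (ka xa3 ya8 za8) (ka xa9 ya15 za46) (ka xa3 ya11 za15) (ka xa3 ya45 za7) (ka xa3 ya11 za12) (ka xa3 ya11 za13) (ka xa3 ya11 za14) (ka xa6 ya42 za7) (ka xa6 ya50 za10) (ka xa3 ya11 za23) (ka xa9 ya20 za20) (ka xa6 ya50 za11) (ka xa3 ya11 za32) (ka xa3 ya11 za33) (ka xa9 ya20 za27) (ka xa3 ya11 za35) (ka xa3 ya11 za36) (ka xa8 ya24 za37) (ka xa8 ya24 za36) (ka xa2 ya19 za36) (ka xa3 ya13 za19) (ka xa3 ya11 za0) (ka xa2 ya19 za51) (ka xa9 ya7 za55) (ka xa6 ya49 za23) (ka xa6 ya49 za24) (ka xa3 ya13 za3) (ka xa3 ya13 za5) (ka xa3 ya45 za37) (ka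 xa3 ya13 za15) (ka xa3 ya13 za17) (ka xa6 ya44 za32) (ka xa3 ya12 za29) (ka xa3 ya12 za26) (ka xa5 ya18 za57) (ka xa3 ya7 za27) (ka xa3 ya11 za61) (ka xa3 ya14 za44) (ka xa2 ya21 za7)) (@D3.rec (fun _ => Pt) (ka xa3 ya14 za45) (ka xa3 ya14 za48) (ka xa3 ya15 za14) (ka xa3 ya27 za16) (ka xa3 ya14 za38) (ka xa9 ya6 za15) (ka xa2 ya20 za8) (ka xa3 ya14 za61) (ka xa3 ya15 za5) (ka xa3 ya15 za6) (ka xa3 ya50 za49) (ka xa3 ya14 za53) (ka xa3 ya3 za8) (ka xa3 ya14 za55) (ka xa3 ya14 za56) (ka xa3 ya15 za2) (ka xa3 ya45 za53) (ka xa6 ya29 za7) (ka xa7 ya31 za17) (ka xa9 ya21 za4) (ka xa9 ya16 za20) (ka xa6 ya43 za45) (ka xa3 ya14 za24) (ka xa3 ya14 za26) (ka xa3 ya15 za42) (ka xa3 ya15 za44) (ka xa3 ya14 za57) (ka xa3 ya14 za58) (ka xa2 ya56 za2) (ka xa2 ya21 za28) (ka xa2 ya21 za36) (ka xa2 ya21 za43) (ka xa5 ya53 za47) (ka xa3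 ya14 za16) (ka xa2 ya20 za53) (ka xa4 ya43 za7) (ka xa3 ya8 za9) (ka xa3 ya7 za11) (ka xa9 ya22 za0) (ka xa4 ya40 za34) (ka xa6 ya38 za23) (ka xa4 ya45 za44) (ka xa9 ya16 za10) (ka xa7 ya34 za52) (ka xa4 ya45 za43) (ka xa6 ya28 za33) (ka xa5 ya54 za48) (ka xa5 ya54 za14) (ka xa2 ya20 za32) (ka xa5 ya53 za31) (ka xa9 ya22 za14) (ka xa9 ya16 za12) (ka xa6 ya19 za58) (ka xa9 ya16 za18) (ka xa9 ya16 za19) (ka xa7 ya41 za9) (ka xa9 ya16 za15) (ka xa9 ya16 za14) (ka xa2 ya20 za37) (ka xa9 ya22 za36) (ka xa9 ya16 za13) (ka xa3 ya19 za31)) (@D3.rec (fun _ => Pt) (ka xa9 ya22 za45) (ka xa2 ya20 za56) (ka xa2 ya20 za57) (ka xa2 ya20 za59) (ka xa2 ya20 za60) (ka xa2 ya20 za61) (ka xa9 ya22 za54) (ka xa2 ya21 za3) (ka xa2 ya21 za4) (ka xa2 ya21 za6) (ka xa9 ya23 za1) (ka xa2 ya21 za9) (ka xa2 ya21 za10) (ka xa9 ya23 za7) (ka xa2 ya21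 za12) (ka xa2 ya21 za13) (ka xa9 ya21 za43) (ka xa9 ya21 za42) (ka xa2 ya20 za46) (ka xa9 ya23 za19) (ka xa9 ya23 za20) (ka xa2 ya21 za22) (ka xa2 ya21 za24) (ka xa2 ya21 za25) (ka xa2 ya21 za26) (ka xa2 ya21 za27) (ka xa2 ya21 za32) (ka xa2 ya21 za33) (ka xa6 ya16 za3) (ka xa3 ya23 za30) (ka xa6 ya32 za21) (ka xa3 ya19 za16) (ka xa6 ya12 za53) (ka xa3 ya21 za61) (ka xa9 ya23 za50) (ka xa3 ya19 za51) (ka xa3 ya46 za40) (ka xa6 ya19 za59) (ka xa6 ya1 za50) (ka xa6 ya14 za40) (ka xa2 ya20 za55) (ka xa6 ya15 za41) (ka xa9 ya23 za60) (ka xa4 ya44 za44) (ka xa4 ya44 za41) (ka xa9 ya22 za48) (ka xa9 ya22 za49) (ka xa6 ya20 za46) (ka xa8 ya56 za40) (ka xa9 ya22 za50) (ka xa3 ya19 za23) (ka xa3 ya19 za24) (ka xa3 ya19 za25) (ka xa9 ya22 za51) (ka xa9 ya22 za52) (ka xa2 ya21 za51) (ka xa3 ya19 za34) (ka xa9 ya22 za53) (ka xa6 ya12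 za56) (ka xa9 ya24 za30) (ka xa5 ya51 za53) (ka xa9 ya22 za44)) (@D3.rec (fun _ => Pt) (ka xa9 ya22 za43) (ka xa2 ya21 za2) (ka xa9 ya24 za37) (ka xa9 ya24 za38) (ka xa9 ya22 za56) (ka xa3 ya19 za48) (ka xa9 ya22 za57) (ka xa9 ya22 za58) (ka xa9 ya20 za51) (ka xa3 ya20 za2) (ka xa3 ya20 za3) (ka xa9 ya22 za59) (ka xa3 ya20 za7) (ka xa9 ya22 za60) (ka xa9 ya20 za52) (ka xa9 ya23 za6) (ka xa9 ya23 za5) (ka xa2 ya21 za8) (ka xa9 ya25 za10) (ka xa9 ya25 za11) (ka xa9 ya25 za12) (ka xa9 ya23 za3) (ka xa8 ya31 za29) (ka xa9 ya23 za4) (ka xa9 ya23 za0) (ka xa9 ya22 za61) (ka xa2 ya21 za11) (ka xa9 ya25 za31) (ka xa8 ya46 za7) (ka xa7 ya43 za60) (ka xa9 ya23 za10) (ka xa9 ya23 za11) (ka xa9 ya20 za49) (ka xa9 ya25 za46) (ka xa2 ya56 za35) (ka xa2 ya56 za36) (ka xa2 ya56 za37) (ka xa9 ya25 za55) (ka xa2 ya56 za32) (ka xa2 ya56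 za33) (ka xa2 ya21 za17) (ka xa2 ya21 za18) (ka xa2 ya56 za39) (ka xa2 ya56 za38) (ka xa2 ya27 za41) (ka xa9 ya25 za60) (ka xa9 ya25 za61) (ka xa9 ya26 za0) (ka xa9 ya26 za1) (ka xa9 ya26 za2) (ka xa9 ya26 za23) (ka xa9 ya16 za29) (ka xa8 ya46 za17) (ka xa9 ya16 za25) (ka xa5 ya59 za21) (ka xa4 ya46 za60) (ka xa9 ya23 za28) (ka xa8 ya29 za32) (ka xa9 ya23 za29) (ka xa9 ya23 za30) (ka xa4 ya46 za55) (ka xa5 ya13 za46)) (@D3.rec (fun _ => Pt) (ka xa6 ya49 za6) (ka xa9 ya23 za32) (ka xa9 ya20 za61) (ka xa9 ya27 za3) (ka xa7 ya21 za5) (ka xa9 ya23 za33) (ka xa9 ya23 za34) (ka xa9 ya23 za35) (ka xa9 ya23 za36) (ka xa9 ya23 za37) (ka xa9 ya23 za38) (ka xa3 ya19 za55) (ka xa9 ya21 za45) (ka xa6 ya49 za61) (ka xa9 ya21 za46) (ka xa3 ya21 za17) (ka xa6 ya47 za13) (ka xa9 ya27 za37) (ka xa6 ya47 za15) (ka xa2 ya22 za37) (ka xa9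 ya27 za42) (ka xa9 ya23 za40) (ka xa9 ya23 za41) (ka xa3 ya19 za56) (ka xa2 ya22 za7) (ka xa3 ya19 za54) (ka xa3 ya19 za60) (ka xa2 ya21 za53) (ka xa9 ya21 za47) (ka xa9 ya17 za0) (ka xa9 ya21 za48) (ka xa4 ya40 za15) (ka xa4 ya40 za16) (ka xa6 ya17 za37) (ka xa6 ya17 za38) (ka xa6 ya17 za39) (ka xa6 ya19 za17) (ka xa6 ya17 za40) (ka xa6 ya17 za41) (ka xa6 ya17 za43) (ka xa6 ya17 za42) (ka xa9 ya28 za22) (ka xa9 ya21 za50) (ka xa9 ya5 za49) (ka xa2 ya21 za49) (ka xa2 ya21 za50) (ka xa2 ya21 za52) (ka xa3 ya29 za40) (ka xa3 ya19 za47) (ka xa3 ya48 za31) (ka xa6 ya20 za38) (ka xa9 ya24 za13) (ka xa9 ya28 za31) (ka xa9 ya27 za54) (ka xa9 ya28 za32) (ka xa9 ya24 za57) (ka xa3 ya16 za35) (ka xa7 ya43 za21) (ka xa9 ya24 za21) (ka xa6 ya43 za40) (ka xa3 ya5 za60) (ka xa9 ya28 za33)) (@D3.rec (fun _ => Pt) (ka xa9 ya27 za57) (ka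 xa3 ya16 za53) (ka xa3 ya16 za54) (ka xa3 ya19 za26) (ka xa3 ya19 za27) (ka xa3 ya19 za29) (ka xa3 ya19 za30) (ka xa3 ya19 za32) (ka xa3 ya16 za58) (ka xa9 ya29 za5) (ka xa3 ya19 za39) (ka xa3 ya19 za40) (ka xa9 ya5 za23) (ka xa2 ya22 za3) (ka xa2 ya22 za5) (ka xa2 ya22 za6) (ka xa3 ya54 za14) (ka xa3 ya23 za46) (ka xa9 ya29 za11) (ka xa9 ya29 za12) (ka xa9 ya27 za50) (ka xa6 ya49 za47) (ka xa7 ya26 za46) (ka xa9 ya29 za13) (ka xa6 ya42 za41) (ka xa9 ya29 za14) (ka xa6 ya32 za22) (ka xa9 ya29 za15) (ka xa9 ya27 za51) (ka xa3 ya19 za61) (ka xa3 ya20 za0) (ka xa3 ya20 za1) (ka xa3 ya17 za20) (ka xa3 ya17 za21) (ka xa3 ya20 za4) (ka xa3 ya20 za6) (ka xa3 ya17 za24) (ka xa3 ya20 za8) (ka xa9 ya29 za49) (ka xa3 ya20 za12) (ka xa3 ya20 za13) (ka xa3 ya20 za14) (ka xa2 ya56 za28) (ka xa2 ya56 za12) (ka xa2 ya56 za11) (ka xa9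 ya30 za0) (ka xa2 ya56 za24) (ka xa2 ya56 za25) (ka xa2 ya56 za26) (ka xa2 ya56 za29) (ka xa2 ya22 za18) (ka xa3 ya50 za25) (ka xa9 ya30 za9) (ka xa9 ya23 za53) (ka xa2 ya56 za14) (ka xa2 ya56 za15) (ka xa2 ya56 za17) (ka xa2 ya56 za18) (ka xa2 ya56 za19) (ka xa2 ya22 za22) (ka xa2 ya22 za23) (ka xa2 ya22 za24)) (@D3.rec (fun _ => Pt) (ka xa2 ya22 za25) (ka xa9 ya30 za38) (ka xa9 ya30 za26) (ka xa9 ya30 za27) (ka xa9 ya30 za28) (ka xa9 ya30 za51) (ka xa9 ya30 za30) (ka xa9 ya30 za31) (ka xa9 ya30 za32) (ka xa9 ya30 za33) (ka xa9 ya30 za34) (ka xa9 ya30 za35) (ka xa9 ya30 za36) (ka xa3 ya20 za53) (ka xa2 ya22 za26) (ka xa9 ya31 za13) (ka xa9 ya31 za14) (ka xa3 ya20 za47) (ka xa3 ya20 za48) (ka xa3 ya20 za49) (ka xa3 ya20 za50) (ka xa3 ya20 za42) (ka xa2 ya22 za29) (ka xa9 ya31 za30) (ka xa6 ya7 za17) (ka xa9 ya31 za31)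 (ka xa3 ya20 za58) (ka xa3 ya20 za59) (ka xa3 ya20 za61) (ka xa9 ya31 za41) (ka xa3 ya21 za1) (ka xa3 ya21 za2) (ka xa3 ya21 za3) (ka xa5 ya26 za54) (ka xa3 ya21 za5) (ka xa3 ya21 za6) (ka xa3 ya21 za7) (ka xa3 ya21 za8) (ka xa9 ya31 za56) (ka xa3 ya21 za10) (ka xa3 ya21 za11) (ka xa3 ya21 za12) (ka xa3 ya21 za39) (ka xa3 ya21 za42) (ka xa9 ya32 za3) (ka xa9 ya27 za40) (ka xa9 ya32 za9) (ka xa3 ya21 za24) (ka xa3 ya21 za48) (ka xa2 ya22 za39) (ka xa5 ya10 za27) (ka xa3 ya21 za27) (ka xa3 ya21 za28) (ka xa3 ya21 za29) (ka xa3 ya21 za30) (ka xa9 ya32 za27) (ka xa3 ya21 za37) (ka xa3 ya21 za13) (ka xa2 ya22 za44) (ka xa2 ya22 za45) (ka xa9 ya32 za31) (ka xa2 ya22 za46)) (@D3.rec (fun _ => Pt) (ka xa9 ya32 za33) (ka xa3 ya21 za52) (ka xa3 ya21 za53) (ka xa3 ya21 za58) (ka xa3 ya22 za0) (ka xa3 ya22 za1) (ka xa3 ya22 za2) (ka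 xa3 ya23 za33) (ka xa6 ya51 za28) (ka xa3 ya22 za3) (ka xa9 ya20 za53) (ka xa3 ya22 za5) (ka xa3 ya22 za6) (ka xa7 ya26 za54) (ka xa3 ya22 za8) (ka xa3 ya22 za9) (ka xa3 ya22 za10) (ka xa9 ya32 za56) (ka xa3 ya22 za12) (ka xa9 ya32 za61) (ka xa3 ya22 za21) (ka xa3 ya22 za22) (ka xa7 ya25 za46) (ka xa9 ya33 za5) (ka xa3 ya22 za26) (ka xa3 ya22 za27) (ka xa3 ya22 za28) (ka xa6 ya18 za0) (ka xa6 ya17 za61) (ka xa2 ya23 za0) (ka xa4 ya6 za8) (ka xa4 ya6 za17) (ka xa4 ya6 za18) (ka xa5 ya17 za17) (ka xa4 ya6 za32) (ka xa5 ya17 za23) (ka xa5 ya21 za47) (ka xa5 ya9 za26) (ka xa4 ya6 za50) (ka xa4 ya6 za51) (ka xa2 ya43 za52) (ka xa4 ya3 za8) (ka xa4 ya3 za11) (ka xa9 ya33 za36) (ka xa4 ya14 za24) (ka xa4 ya14 za25) (ka xa4 ya14 za26) (ka xa3 ya58 za14) (ka xa3 ya58 za15) (ka xa2 ya23 za25) (ka xa2 ya23 za26) (ka xa2 ya23 za34)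 (ka xa2 ya23 za35) (ka xa8 ya31 za57) (ka xa2 ya23 za38) (ka xa2 ya23 za39) (ka xa2 ya23 za41) (ka xa2 ya23 za42) (ka xa9 ya34 za0) (ka xa2 ya23 za46) (ka xa2 ya23 za47) (ka xa2 ya23 za48)) (@D3.rec (fun _ => Pt) (ka xa4 ya12 za21) (ka xa8 ya26 za32) (ka xa8 ya26 za33) (ka xa5 ya28 za11) (ka xa2 ya38 za17) (ka xa4 ya8 za29) (ka xa4 ya8 za30) (ka xa4 ya3 za5) (ka xa4 ya12 za35) (ka xa4 ya12 za36) (ka xa9 ya33 za44) (ka xa8 ya32 za57) (ka xa9 ya34 za29) (ka xa9 ya33 za46) (ka xa9 ya33 za47) (ka xa4 ya12 za48) (ka xa2 ya28 za33) (ka xa8 ya36 za38) (ka xa2 ya28 za32) (ka xa2 ya23 za30) (ka xa4 ya13 za0) (ka xa8 ya33 za42) (ka xa9 ya34 za44) (ka xa4 ya13 za13) (ka xa4 ya21 za18) (ka xa4 ya21 za19) (ka xa9 ya34 za57) (ka xa9 ya33 za49) (ka xa9 ya33 za50) (ka xa4 ya12 za43) (ka xa8 ya37 za37) (ka xa8 ya31 za58) (ka xa4 ya21 za27)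 (ka xa9 ya35 za10) (ka xa9 ya33 za53) (ka xa9 ya33 za54) (ka xa4 ya53 za25) (ka xa9 ya33 za55) (ka xa8 ya10 za13) (ka xa2 ya23 za40) (ka xa5 ya21 za12) (ka xa9 ya35 za24) (ka xa9 ya35 za34) (ka xa9 ya33 za56) (ka xa9 ya33 za57) (ka xa9 ya33 za58) (ka xa4 ya53 za36) (ka xa2 ya28 za20) (ka xa9 ya33 za59) (ka xa9 ya35 za48) (ka xa8 ya18 za33) (ka xa8 ya18 za34) (ka xa9 ya35 za57) (ka xa8 ya40 za21) (ka xa8 ya40 za22) (ka xa8 ya35 za34) (ka xa9 ya36 za5) (ka xa2 ya23 za45) (ka xa9 ya36 za8) (ka xa9 ya36 za1) (ka xa8 ya17 za3) (ka xa8 ya40 za15)) (@D3.rec (fun _ => Pt) (ka xa4 ya52 za2) (ka xa9 ya34 za3) (ka xa4 ya52 za0) (ka xa9 ya34 za4) (ka xa4 ya53 za18) (ka xa4 ya53 za17) (ka xa2 ya23 za50) (ka xa2 ya23 za51) (ka xa4 ya53 za31) (ka xa4 ya21 za3) (ka xa8 ya22 za45) (ka xa9 ya36 za35) (ka xa9 ya36 za36) (ka xa9 ya36 za37)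 (ka xa9 ya36 za38) (ka xa4 ya52 za55) (ka xa4 ya53 za26) (ka xa4 ya53 za27) (ka xa4 ya53 za28) (ka xa2 ya23 za56) (ka xa2 ya23 za57) (ka xa4 ya21 za16) (ka xa9 ya36 za57) (ka xa9 ya36 za58) (ka xa9 ya36 za59) (ka xa9 ya36 za49) (ka xa9 ya36 za60) (ka xa4 ya53 za35) (ka xa4 ya53 za1) (ka xa2 ya24 za3) (ka xa2 ya23 za61) (ka xa6 ya48 za34) (ka xa9 ya37 za11) (ka xa7 ya55 za18) (ka xa3 ya19 za22) (ka xa2 ya24 za0) (ka xa9 ya37 za17) (ka xa2 ya24 za2) (ka xa2 ya24 za39) (ka xa2 ya24 za38) (ka xa9 ya37 za21) (ka xa9 ya37 za22) (ka xa9 ya37 za10) (ka xa8 ya35 za59) (ka xa4 ya53 za45) (ka xa4 ya53 za46) (ka xa9 ya37 za34) (ka xa4 ya3 za29) (ka xa4 ya3 za30) (ka xa4 ya3 za31) (ka xa4 ya3 za33) (ka xa4 ya8 za61) (ka xa4 ya3 za45) (ka xa4 ya26 za58) (ka xa8 ya19 za26) (ka xa4 ya52 za15) (ka xa8 ya1 za29) (ka xa4 ya31 za29) (ka xa8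 ya1 za30) (ka xa2 ya24 za19) (ka xa6 ya4 za17) (ka xa9 ya37 za52)) (@D3.rec (fun _ => Pt) (ka xa8 ya1 za32) (ka xa4 ya52 za28) (ka xa8 ya1 za33) (ka xa9 ya38 za1) (ka xa4 ya21 za48) (ka xa4 ya21 za49) (ka xa9 ya38 za10) (ka xa4 ya21 za57) (ka xa4 ya21 za58) (ka xa8 ya23 za13) (ka xa9 ya37 za24) (ka xa2 ya24 za23) (ka xa9 ya38 za21) (ka xa4 ya21 za33) (ka xa4 ya21 za42) (ka xa8 ya1 za39) (ka xa8 ya1 za40) (ka xa4 ya52 za5) (ka xa4 ya52 za4) (ka xa2 ya24 za29) (ka xa8 ya40 za3) (ka xa8 ya40 za4) (ka xa9 ya38 za42) (ka xa9 ya38 za43) (ka xa9 ya38 za44) (ka xa4 ya51 za36) (ka xa4 ya52 za16) (ka xa4 ya52 za17) (ka xa4 ya52 za18) (ka xa2 ya24 za34) (ka xa2 ya24 za35) (ka xa4 ya52 za8) (ka xa8 ya34 za26) (ka xa6 ya21 za2) (ka xa6 ya21 za1) (ka xa4 ya52 za27) (ka xa4 ya51 za46) (ka xa8 ya32 za12) (ka xa8 ya42 za2) (ka xa6 ya47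 za42) (ka xa6 ya17 za54) (ka xa9 ya28 za11) (ka xa9 ya37 za23) (ka xa6 ya57 za58) (ka xa8 ya24 za2) (ka xa4 ya52 za44) (ka xa4 ya52 za45) (ka xa2 ya38 za23) (ka xa4 ya53 za53) (ka xa2 ya24 za47) (ka xa2 ya24 za48) (ka xa4 ya7 za12) (ka xa2 ya24 za49) (ka xa4 ya53 za48) (ka xa4 ya7 za11) (ka xa2 ya24 za50) (ka xa4 ya5 za9) (ka xa2 ya28 za21) (ka xa8 ya15 za5) (ka xa2 ya28 za31) (ka xa5 ya18 za29) (ka xa8 ya26 za15)) (@D3.rec (fun _ => Pt) (ka xa4 ya1 za39) (ka xa2 ya45 za38) (ka xa4 ya1 za46) (ka xa4 ya54 za18) (ka xa4 ya54 za19) (ka xa2 ya28 za42) (ka xa2 ya28 za43) (ka xa2 ya29 za12) (ka xa2 ya29 za13) (ka xa4 ya54 za24) (ka xa4 ya54 za25) (ka xa9 ya39 za53) (ka xa4 ya54 za27) (ka xa4 ya54 za28) (ka xa4 ya54 za29) (ka xa2 ya31 za33) (ka xa2 ya31 za34) (ka xa2 ya31 za41) (ka xa4 ya54 za3) (ka xa4 ya54 za4) (ka xa2 ya32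 za8) (ka xa2 ya32 za9) (ka xa2 ya32 za27) (ka xa2 ya32 za28) (ka xa4 ya54 za9) (ka xa4 ya54 za10) (ka xa9 ya40 za26) (ka xa4 ya54 za12) (ka xa4 ya54 za13) (ka xa4 ya54 za14) (ka xa2 ya25 za21) (ka xa2 ya25 za22) (ka xa2 ya25 za30) (ka xa2 ya25 za31) (ka xa2 ya25 za33) (ka xa2 ya25 za34) (ka xa2 ya25 za36) (ka xa2 ya25 za37) (ka xa2 ya25 za39) (ka xa9 ya40 za56) (ka xa2 ya25 za41) (ka xa2 ya25 za42) (ka xa2 ya25 za43) (ka xa2 ya43 za42) (ka xa8 ya39 za51) (ka xa8 ya39 za52) (ka xa2 ya43 za57) (ka xa5 ya1 za19) (ka xa2 ya45 za21) (ka xa2 ya45 za26) (ka xa7 ya57 za49) (ka xa7 ya57 za50) (ka xa4 ya20 za20) (ka xa5 ya3 za1) (ka xa2 ya44 za0) (ka xa2 ya44 za1) (ka xa5 ya22 za32) (ka xa5 ya22 za34) (ka xa9 ya41 za27) (ka xa9 ya40 za37) (ka xa9 ya40 za38) (ka xa2 ya44 za18)) (@D3.rec (fun _ => Pt) (ka xa4 ya6 za37) (ka xa9 ya0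 za3) (ka xa4 ya6 za36) (ka xa4 ya14 za4) (ka xa4 ya14 za5) (ka xa2 ya45 za23) (ka xa4 ya14 za6) (ka xa4 ya14 za7) (ka xa2 ya45 za37) (ka xa8 ya18 za5) (ka xa8 ya18 za6) (ka xa9 ya41 za55) (ka xa9 ya40 za40) (ka xa9 ya40 za41) (ka xa2 ya45 za49) (ka xa9 ya1 za13) (ka xa8 ya54 za54) (ka xa5 ya22 za26) (ka xa9 ya42 za10) (ka xa9 ya40 za43) (ka xa9 ya40 za44) (ka xa7 ya58 za49) (ka xa9 ya40 za45) (ka xa5 ya2 za8) (ka xa9 ya40 za46) (ka xa4 ya14 za12) (ka xa4 ya14 za13) (ka xa9 ya42 za32) (ka xa9 ya40 za47) (ka xa9 ya40 za48) (ka xa9 ya40 za49) (ka xa7 ya58 za53) (ka xa4 ya6 za25) (ka xa9 ya40 za50) (ka xa9 ya42 za48) (ka xa5 ya24 za1) (ka xa5 ya24 za2) (ka xa9 ya42 za58) (ka xa9 ya40 za52) (ka xa9 ya40 za53) (ka xa8 ya58 za57) (ka xa5 ya3 za11) (ka xa2 ya25 za40) (ka xa9 ya43 za7) (ka xa9 ya43 za2) (ka xa5 ya22 za20) (ka xa9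 ya40 za59) (ka xa2 ya39 za14) (ka xa9 ya40 za60) (ka xa2 ya39 za12) (ka xa9 ya40 za61) (ka xa8 ya11 za52) (ka xa8 ya11 za51) (ka xa4 ya14 za38) (ka xa4 ya14 za39) (ka xa4 ya14 za40) (ka xa4 ya14 za41) (ka xa7 ya58 za15) (ka xa7 ya58 za50) (ka xa5 ya11 za57) (ka xa7 ya58 za51) (ka xa5 ya2 za27)) (@D3.rec (fun _ => Pt) (ka xa2 ya25 za50) (ka xa2 ya25 za51) (ka xa5 ya35 za12) (ka xa9 ya43 za41) (ka xa9 ya43 za42) (ka xa9 ya43 za43) (ka xa9 ya43 za44) (ka xa9 ya43 za45) (ka xa7 ya58 za52) (ka xa7 ya58 za23) (ka xa2 ya25 za59) (ka xa2 ya25 za55) (ka xa5 ya25 za14) (ka xa9 ya43 za61) (ka xa9 ya44 za0) (ka xa9 ya44 za1) (ka xa2 ya25 za56) (ka xa9 ya44 za14) (ka xa5 ya13 za20) (ka xa9 ya44 za10) (ka xa5 ya52 za25) (ka xa2 ya25 za58) (ka xa5 ya48 za52) (ka xa9 ya43 za59) (ka xa5 ya46 za11) (ka xa5 ya46 za15) (ka xa7 ya59 za4) (ka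 xa5 ya31 za32) (ka xa4 ya14 za53) (ka xa5 ya36 za59) (ka xa5 ya3 za40) (ka xa8 ya38 za1) (ka xa5 ya36 za27) (ka xa4 ya23 za49) (ka xa6 ya14 za21) (ka xa2 ya26 za4) (ka xa9 ya44 za35) (ka xa8 ya1 za2) (ka xa4 ya22 za36) (ka xa7 ya59 za7) (ka xa5 ya12 za25) (ka xa6 ya24 za32) (ka xa2 ya26 za11) (ka xa6 ya16 za27) (ka xa9 ya44 za45) (ka xa4 ya21 za29) (ka xa9 ya44 za51) (ka xa4 ya22 za12) (ka xa4 ya22 za43) (ka xa4 ya13 za20) (ka xa4 ya22 za45) (ka xa4 ya22 za30) (ka xa4 ya22 za29) (ka xa2 ya26 za17) (ka xa9 ya44 za58) (ka xa4 ya22 za11) (ka xa4 ya22 za50) (ka xa3 ya0 za18) (ka xa5 ya46 za31) (ka xa4 ya22 za1) (ka xa4 ya23 za5) (ka xa4 ya23 za6)) (@D3.rec (fun _ => Pt) (ka xa3 ya33 za5) (ka xa2 ya26 za42) (ka xa2 ya26 za43) (ka xa2 ya26 za31) (ka xa2 ya46 za7) (ka xa8 ya44 za20) (ka xa7 ya59 za9) (ka xa2 ya46 za22) (ka xa5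 ya47 za11) (ka xa2 ya26 za34) (ka xa2 ya46 za14) (ka xa9 ya45 za13) (ka xa9 ya29 za17) (ka xa2 ya26 za35) (ka xa2 ya26 za36) (ka xa2 ya46 za23) (ka xa2 ya26 za33) (ka xa8 ya1 za48) (ka xa9 ya45 za32) (ka xa5 ya14 za6) (ka xa5 ya47 za10) (ka xa6 ya25 za30) (ka xa9 ya45 za29) (ka xa9 ya45 za30) (ka xa2 ya30 za53) (ka xa5 ya49 za4) (ka xa2 ya26 za38) (ka xa2 ya26 za39) (ka xa2 ya26 za40) (ka xa2 ya26 za41) (ka xa9 ya3 za54) (ka xa7 ya20 za34) (ka xa9 ya45 za46) (ka xa6 ya15 za31) (ka xa5 ya44 za11) (ka xa9 ya45 za61) (ka xa9 ya45 za47) (ka xa9 ya45 za48) (ka xa7 ya23 za22) (ka xa9 ya45 za49) (ka xa9 ya45 za50) (ka xa9 ya45 za51) (ka xa9 ya45 za11) (ka xa2 ya27 za23) (ka xa2 ya27 za48) (ka xa9 ya45 za12) (ka xa7 ya59 za1) (ka xa5 ya48 za44) (ka xa2 ya26 za44) (ka xa9 ya46 za30) (ka xa5 ya14 za8) (ka xa5 ya45 za54) (ka xa6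 ya12 za43) (ka xa6 ya30 za24) (ka xa7 ya59 za48) (ka xa9 ya46 za41) (ka xa6 ya2 za4) (ka xa7 ya59 za50) (ka xa7 ya59 za51) (ka xa7 ya59 za52) (ka xa6 ya13 za30) (ka xa5 ya0 za28)) (@D3.rec (fun _ => Pt) (ka xa4 ya24 za54) (ka xa4 ya24 za55) (ka xa4 ya24 za56) (ka xa4 ya24 za57) (ka xa4 ya0 za53) (ka xa4 ya24 za58) (ka xa4 ya24 za60) (ka xa4 ya24 za61) (ka xa4 ya25 za0) (ka xa4 ya25 za1) (ka xa4 ya25 za2) (ka xa4 ya25 za4) (ka xa4 ya22 za38) (ka xa2 ya27 za43) (ka xa2 ya27 za47) (ka xa2 ya27 za49) (ka xa5 ya49 za60) (ka xa5 ya14 za22) (ka xa2 ya27 za10) (ka xa2 ya27 za11) (ka xa2 ya27 za14) (ka xa2 ya50 za11) (ka xa2 ya51 za53) (ka xa8 ya49 za1) (ka xa8 ya49 za2) (ka xa2 ya31 za8) (ka xa8 ya49 za3) (ka xa8 ya49 za4) (ka xa2 ya51 za18) (ka xa5 ya47 za28) (ka xa5 ya13 za55) (ka xa2 ya52 za23) (ka xa2 ya27 za22) (ka xa2 ya59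 za43) (ka xa5 ya13 za52) (ka xa2 ya52 za0) (ka xa2 ya52 za1) (ka xa5 ya50 za40) (ka xa5 ya57 za55) (ka xa9 ya47 za50) (ka xa9 ya26 za3) (ka xa6 ya10 za51) (ka xa2 ya27 za24) (ka xa2 ya52 za10) (ka xa9 ya47 za22) (ka xa6 ya30 za37) (ka xa2 ya27 za25) (ka xa2 ya30 za52) (ka xa2 ya31 za17) (ka xa9 ya47 za23) (ka xa5 ya14 za11) (ka xa2 ya27 za27) (ka xa2 ya51 za15) (ka xa2 ya27 za20) (ka xa6 ya15 za40) (ka xa6 ya13 za23) (ka xa2 ya52 za20) (ka xa6 ya15 za46) (ka xa9 ya48 za8) (ka xa6 ya13 za24) (ka xa9 ya47 za40) (ka xa9 ya46 za21)) (@D3.rec (fun _ => Pt) (ka xa9 ya48 za27) (ka xa9 ya26 za5) (ka xa9 ya47 za57) (ka xa2 ya52 za39) (ka xa9 ya48 za0) (ka xa6 ya30 za2) (ka xa2 ya52 za48) (ka xa2 ya52 za52) (ka xa9 ya48 za7) (ka xa9 ya6 za54) (ka xa6 ya25 za36) (ka xa2 ya27 za34) (ka xa2 ya27 za35) (ka xa2 ya27 za37) (ka xa2 ya27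 za38) (ka xa2 ya27 za40) (ka xa6 ya21 za4) (ka xa2 ya27 za42) (ka xa2 ya27 za44) (ka xa2 ya27 za45) (ka xa2 ya27 za46) (ka xa9 ya11 za43) (ka xa5 ya57 za49) (ka xa5 ya57 za51) (ka xa9 ya49 za11) (ka xa9 ya25 za49) (ka xa9 ya48 za51) (ka xa2 ya50 za27) (ka xa9 ya48 za52) (ka xa6 ya26 za55) (ka xa2 ya27 za36) (ka xa9 ya8 za1) (ka xa8 ya0 za36) (ka xa9 ya49 za30) (ka xa9 ya25 za57) (ka xa9 ya48 za53) (ka xa2 ya51 za28) (ka xa9 ya25 za48) (ka xa6 ya21 za36) (ka xa9 ya49 za43) (ka xa5 ya59 za37) (ka xa5 ya59 za38) (ka xa9 ya49 za51) (ka xa9 ya30 za18) (ka xa6 ya0 za25) (ka xa5 ya57 za39) (ka xa9 ya26 za6) (ka xa9 ya26 za8) (ka xa2 ya56 za40) (ka xa6 ya1 za2) (ka xa9 ya48 za58) (ka xa9 ya48 za59) (ka xa9 ya48 za60) (ka xa9 ya47 za19) (ka xa9 ya12 za1) (ka xa9 ya49 za0) (ka xa6 ya31 za57) (ka xa6 ya31 za58) (ka xa9 ya50 za26)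 (ka xa9 ya49 za1) (ka xa9 ya49 za2) (ka xa6 ya25 za54))
def f_a_5 : D2 → D3 → Pt := @D2.rec (fun _ => D3 → Pt) (@D3.rec (fun _ => Pt) (ka xa9 ya32 za8) (ka xa9 ya32 za7) (ka xa9 ya47 za20) (ka xa8 ya0 za9) (ka xa9 ya46 za22) (ka xa9 ya46 za24) (ka xa9 ya46 za23) (ka xa9 ya47 za21) (ka xa6 ya6 za9) (ka xa2 ya27 za50) (ka xa5 ya38 za49) (ka xa9 ya50 za52) (ka xa9 ya50 za53) (ka xa5 ya52 za50) (ka xa8 ya0 za56) (ka xa4 ya41 za51) (ka xa6 ya22 za5) (ka xa8 ya0 za51) (ka xa2 ya27 za53) (ka xa9 ya50 za61) (ka xa8 ya0 za59) (ka xa5 ya37 za33) (ka xa3 ya24 za8) (ka xa3 ya24 za9) (ka xa6 ya4 za12) (ka xa2 ya45 za4) (ka xa6 ya4 za13) (ka xa9 ya51 za17) (ka xa4 ya57 za61) (ka xa3 ya4 za38) (ka xa5 ya12 za57) (ka xa9 ya51 za22) (ka xa4 ya27 za5) (ka xa4 ya27 za6) (ka xa9 ya0 za7) (ka xa5 ya24 za57) (ka xa3 ya58 za27) (ka xa5 ya0 za42)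 (ka xa2 ya38 za49) (ka xa9 ya51 za37) (ka xa5 ya0 za44) (ka xa4 ya28 za7) (ka xa5 ya0 za37) (ka xa9 ya51 za48) (ka xa5 ya0 za40) (ka xa2 ya28 za18) (ka xa2 ya28 za19) (ka xa2 ya28 za25) (ka xa2 ya28 za26) (ka xa2 ya28 za29) (ka xa2 ya28 za30) (ka xa2 ya28 za34) (ka xa2 ya28 za35) (ka xa9 ya52 za10) (ka xa2 ya28 za37) (ka xa2 ya28 za38) (ka xa2 ya28 za39) (ka xa2 ya35 za22) (ka xa5 ya15 za36) (ka xa5 ya9 za35) (ka xa8 ya15 za1) (ka xa8 ya15 za2)) (@D3.rec (fun _ => Pt) (ka xa5 ya15 za11) (ka xa5 ya15 za12) (ka xa5 ya15 za13) (ka xa5 ya9 za46) (ka xa5 ya9 za47) (ka xa9 ya51 za52) (ka xa5 ya8 za52) (ka xa8 ya6 za48) (ka xa9 ya51 za53) (ka xa9 ya52 za47) (ka xa9 ya51 za55) (ka xa9 ya35 za44) (ka xa5 ya9 za61) (ka xa8 ya42 za46) (ka xa9 ya35 za45) (ka xa5 ya10 za3) (ka xa9 ya39 za20) (ka xa9 ya39 za22) (ka xa9 ya39 za23) (ka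 xa4 ya54 za47) (ka xa8 ya24 za45) (ka xa8 ya5 za41) (ka xa8 ya5 za42) (ka xa4 ya2 za57) (ka xa9 ya53 za6) (ka xa9 ya51 za57) (ka xa9 ya51 za58) (ka xa8 ya28 za9) (ka xa5 ya36 za7) (ka xa8 ya28 za7) (ka xa5 ya36 za6) (ka xa2 ya35 za44) (ka xa8 ya15 za6) (ka xa8 ya5 za46) (ka xa9 ya53 za27) (ka xa9 ya51 za60) (ka xa9 ya51 za61) (ka xa5 ya10 za47) (ka xa9 ya52 za0) (ka xa9 ya52 za1) (ka xa9 ya39 za25) (ka xa9 ya53 za47) (ka xa9 ya34 za43) (ka xa9 ya34 za40) (ka xa9 ya34 za39) (ka xa5 ya11 za8) (ka xa9 ya34 za41) (ka xa9 ya53 za60) (ka xa9 ya52 za3) (ka xa9 ya52 za4) (ka xa9 ya54 za9) (ka xa9 ya52 za6) (ka xa9 ya52 za7) (ka xa9 ya54 za16) (ka xa9 ya54 za21) (ka xa2 ya28 za36) (ka xa9 ya54 za26) (ka xa9 ya54 za15) (ka xa9 ya52 za13) (ka xa9 ya52 za14) (ka xa5 ya2 za0) (ka xa9 ya52 za15)) (@D3.rec (fun _ => Pt) (ka xa5 ya1 za60)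 (ka xa9 ya52 za16) (ka xa5 ya9 za25) (ka xa5 ya9 za24) (ka xa5 ya10 za5) (ka xa5 ya10 za6) (ka xa5 ya8 za29) (ka xa5 ya10 za4) (ka xa4 ya55 za23) (ka xa5 ya10 za8) (ka xa5 ya10 za7) (ka xa9 ya55 za9) (ka xa9 ya39 za36) (ka xa9 ya39 za37) (ka xa8 ya24 za43) (ka xa8 ya24 za40) (ka xa9 ya39 za38) (ka xa5 ya8 za32) (ka xa5 ya8 za33) (ka xa9 ya55 za29) (ka xa5 ya4 za8) (ka xa5 ya9 za49) (ka xa5 ya9 za50) (ka xa5 ya9 za51) (ka xa5 ya9 za52) (ka xa9 ya55 za42) (ka xa5 ya4 za7) (ka xa4 ya55 za61) (ka xa9 ya55 za48) (ka xa5 ya3 za30) (ka xa5 ya5 za33) (ka xa9 ya55 za57) (ka xa5 ya3 za29) (ka xa5 ya10 za17) (ka xa5 ya10 za16) (ka xa2 ya28 za51) (ka xa6 ya11 za56) (ka xa9 ya56 za7) (ka xa5 ya9 za59) (ka xa5 ya5 za47) (ka xa5 ya5 za49) (ka xa5 ya9 za60) (ka xa5 ya8 za40) (ka xa5 ya10 za0) (ka xa5 ya10 za1) (ka xa5 ya10 za2) (ka xa5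 ya9 za27) (ka xa5 ya9 za28) (ka xa2 ya29 za0) (ka xa2 ya29 za1) (ka xa5 ya8 za43) (ka xa5 ya9 za36) (ka xa5 ya9 za37) (ka xa5 ya9 za33) (ka xa5 ya9 za34) (ka xa5 ya9 za39) (ka xa5 ya9 za38) (ka xa9 ya56 za45) (ka xa9 ya56 za27) (ka xa9 ya56 za28) (ka xa9 ya55 za0) (ka xa8 ya11 za8)) (@D3.rec (fun _ => Pt) (ka xa9 ya54 za61) (ka xa4 ya54 za53) (ka xa5 ya37 za2) (ka xa8 ya11 za7) (ka xa5 ya9 za55) (ka xa5 ya9 za54) (ka xa2 ya29 za5) (ka xa9 ya57 za4) (ka xa9 ya57 za5) (ka xa5 ya10 za21) (ka xa5 ya6 za23) (ka xa4 ya55 za41) (ka xa5 ya10 za22) (ka xa5 ya10 za23) (ka xa5 ya10 za24) (ka xa5 ya10 za25) (ka xa5 ya10 za26) (ka xa5 ya10 za52) (ka xa9 ya57 za26) (ka xa9 ya39 za40) (ka xa9 ya39 za41) (ka xa9 ya39 za42) (ka xa9 ya39 za43) (ka xa9 ya39 za44) (ka xa5 ya10 za60) (ka xa5 ya10 za59) (ka xa2 ya29 za14) (ka xa9 ya57 za48)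 (ka xa9 ya57 za49) (ka xa5 ya2 za32) (ka xa5 ya2 za29) (ka xa5 ya10 za42) (ka xa5 ya10 za43) (ka xa5 ya10 za44) (ka xa5 ya10 za45) (ka xa5 ya10 za46) (ka xa5 ya8 za61) (ka xa5 ya10 za48) (ka xa5 ya10 za49) (ka xa5 ya10 za50) (ka xa4 ya56 za30) (ka xa5 ya10 za51) (ka xa2 ya29 za21) (ka xa2 ya29 za22) (ka xa5 ya10 za30) (ka xa9 ya58 za22) (ka xa9 ya58 za14) (ka xa9 ya58 za15) (ka xa9 ya58 za16) (ka xa9 ya57 za38) (ka xa9 ya58 za17) (ka xa5 ya10 za38) (ka xa5 ya10 za37) (ka xa2 ya29 za23) (ka xa9 ya58 za42) (ka xa9 ya58 za43) (ka xa5 ya11 za2) (ka xa5 ya11 za3) (ka xa5 ya11 za4) (ka xa5 ya11 za5) (ka xa5 ya11 za6) (ka xa5 ya11 za7)) (@D3.rec (fun _ => Pt) (ka xa5 ya9 za7) (ka xa5 ya11 za9) (ka xa5 ya11 za19) (ka xa2 ya29 za29) (ka xa9 ya58 za58) (ka xa3 ya18 za9) (ka xa9 ya58 za59) (ka xa5 ya2 za26) (ka xa5 ya2 za20) (ka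 xa5 ya11 za16) (ka xa5 ya11 za17) (ka xa5 ya11 za18) (ka xa5 ya11 za11) (ka xa5 ya11 za10) (ka xa2 ya29 za32) (ka xa9 ya59 za21) (ka xa9 ya27 za4) (ka xa9 ya59 za22) (ka xa5 ya11 za25) (ka xa5 ya11 za26) (ka xa5 ya11 za27) (ka xa2 ya29 za39) (ka xa2 ya29 za35) (ka xa9 ya59 za40) (ka xa9 ya59 za36) (ka xa9 ya59 za37) (ka xa9 ya59 za38) (ka xa2 ya29 za36) (ka xa9 ya59 za59) (ka xa9 ya59 za50) (ka xa9 ya59 za53) (ka xa9 ya59 za57) (ka xa2 ya29 za38) (ka xa5 ya14 za44) (ka xa5 ya14 za43) (ka xa10 ya0 za8) (ka xa10 ya0 za9) (ka xa9 ya59 za34) (ka xa5 ya11 za46) (ka xa6 ya11 za6) (ka xa5 ya11 za48) (ka xa5 ya11 za49) (ka xa5 ya11 za50) (ka xa5 ya11 za51) (ka xa5 ya11 za52) (ka xa5 ya11 za53) (ka xa9 ya40 za0) (ka xa5 ya11 za55) (ka xa5 ya11 za56) (ka xa5 ya12 za35) (ka xa5 ya12 za34) (ka xa5 ya21 za26) (ka xa5 ya21 za27) (ka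 xa5 ya12 za41) (ka xa5 ya12 za42) (ka xa5 ya22 za43) (ka xa5 ya12 za39) (ka xa4 ya21 za52) (ka xa5 ya8 za55) (ka xa5 ya12 za43) (ka xa10 ya1 za4) (ka xa5 ya13 za0)) (@D3.rec (fun _ => Pt) (ka xa8 ya38 za3) (ka xa8 ya38 za4) (ka xa8 ya38 za5) (ka xa8 ya38 za6) (ka xa5 ya12 za54) (ka xa9 ya14 za59) (ka xa5 ya12 za52) (ka xa4 ya4 za53) (ka xa5 ya6 za45) (ka xa10 ya1 za24) (ka xa5 ya6 za44) (ka xa5 ya12 za59) (ka xa5 ya12 za58) (ka xa2 ya29 za55) (ka xa8 ya49 za13) (ka xa5 ya12 za45) (ka xa8 ya38 za8) (ka xa5 ya12 za38) (ka xa5 ya13 za5) (ka xa5 ya13 za6) (ka xa5 ya13 za4) (ka xa4 ya28 za13) (ka xa5 ya13 za8) (ka xa5 ya13 za7) (ka xa10 ya1 za56) (ka xa8 ya52 za6) (ka xa8 ya52 za7) (ka xa8 ya33 za20) (ka xa8 ya33 za17) (ka xa8 ya52 za8) (ka xa5 ya17 za29) (ka xa5 ya17 za30) (ka xa10 ya2 za14) (ka xa5 ya2 za30) (ka xa5 ya12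 za11) (ka xa5 ya12 za12) (ka xa5 ya12 za13) (ka xa2 ya30 za2) (ka xa10 ya2 za20) (ka xa10 ya2 za23) (ka xa5 ya13 za17) (ka xa5 ya13 za16) (ka xa2 ya30 za4) (ka xa10 ya2 za30) (ka xa5 ya12 za20) (ka xa5 ya12 za21) (ka xa5 ya17 za36) (ka xa5 ya2 za39) (ka xa8 ya19 za17) (ka xa5 ya2 za40) (ka xa5 ya12 za24) (ka xa5 ya7 za9) (ka xa2 ya59 za54) (ka xa5 ya7 za7) (ka xa5 ya6 za54) (ka xa5 ya54 za53) (ka xa5 ya6 za52) (ka xa3 ya0 za0) (ka xa3 ya0 za1) (ka xa3 ya0 za2) (ka xa9 ya10 za15) (ka xa9 ya10 za16)) (@D3.rec (fun _ => Pt) (ka xa5 ya12 za31) (ka xa5 ya12 za32) (ka xa5 ya12 za33) (ka xa5 ya17 za38) (ka xa5 ya11 za61) (ka xa4 ya3 za6) (ka xa5 ya11 za59) (ka xa5 ya11 za60) (ka xa5 ya12 za2) (ka xa5 ya12 za1) (ka xa10 ya3 za20) (ka xa5 ya19 za49) (ka xa5 ya19 za50) (ka xa5 ya19 za51) (ka xa5 ya19 za52) (ka xa5 ya19 za53) (ka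 xa5 ya19 za54) (ka xa5 ya12 za17) (ka xa5 ya12 za16) (ka xa2 ya30 za25) (ka xa10 ya3 za43) (ka xa5 ya13 za21) (ka xa10 ya3 za47) (ka xa5 ya3 za10) (ka xa5 ya13 za23) (ka xa5 ya13 za24) (ka xa5 ya13 za25) (ka xa3 ya20 za35) (ka xa5 ya7 za2) (ka xa3 ya0 za44) (ka xa3 ya0 za10) (ka xa5 ya12 za28) (ka xa2 ya30 za34) (ka xa2 ya55 za41) (ka xa3 ya6 za57) (ka xa6 ya31 za37) (ka xa5 ya13 za30) (ka xa5 ya13 za31) (ka xa5 ya13 za32) (ka xa5 ya57 za45) (ka xa3 ya20 za37) (ka xa5 ya13 za33) (ka xa8 ya49 za12) (ka xa8 ya44 za30) (ka xa5 ya5 za10) (ka xa5 ya5 za8) (ka xa8 ya37 za55) (ka xa8 ya38 za9) (ka xa4 ya5 za43) (ka xa9 ya10 za13) (ka xa9 ya10 za14) (ka xa4 ya39 za44) (ka xa5 ya5 za56) (ka xa10 ya4 za30) (ka xa5 ya5 za54) (ka xa5 ya13 za35) (ka xa5 ya13 za36) (ka xa5 ya7 za36) (ka xa2 ya30 za48) (ka xa5 ya58 za2) (ka xa5 ya13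 za49) (ka xa4 ya41 za49)) (@D3.rec (fun _ => Pt) (ka xa5 ya13 za50) (ka xa5 ya13 za51) (ka xa5 ya6 za28) (ka xa5 ya14 za15) (ka xa5 ya14 za14) (ka xa9 ya48 za1) (ka xa9 ya48 za2) (ka xa5 ya5 za53) (ka xa2 ya45 za18) (ka xa5 ya5 za51) (ka xa5 ya14 za7) (ka xa5 ya14 za9) (ka xa9 ya47 za38) (ka xa5 ya13 za53) (ka xa5 ya13 za54) (ka xa2 ya30 za59) (ka xa2 ya30 za60) (ka xa2 ya30 za61) (ka xa4 ya1 za21) (ka xa10 ya5 za3) (ka xa5 ya14 za2) (ka xa5 ya14 za1) (ka xa10 ya5 za4) (ka xa6 ya50 za31) (ka xa5 ya14 za10) (ka xa6 ya46 za16) (ka xa5 ya14 za18) (ka xa5 ya14 za19) (ka xa5 ya14 za20) (ka xa5 ya14 za21) (ka xa2 ya31 za5) (ka xa2 ya31 za3) (ka xa4 ya20 za10) (ka xa10 ya5 za23) (ka xa10 ya5 za24) (ka xa9 ya47 za31) (ka xa5 ya6 za57) (ka xa5 ya54 za49) (ka xa5 ya43 za43) (ka xa2 ya31 za9) (ka xa10 ya5 za21) (ka xa10 ya5 za22)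 (ka xa2 ya31 za10) (ka xa2 ya50 za25) (ka xa4 ya37 za2) (ka xa9 ya47 za32) (ka xa10 ya5 za33) (ka xa10 ya5 za38) (ka xa10 ya5 za42) (ka xa2 ya31 za12) (ka xa2 ya31 za14) (ka xa2 ya31 za15) (ka xa10 ya6 za1) (ka xa10 ya5 za53) (ka xa10 ya5 za54) (ka xa9 ya47 za34) (ka xa5 ya48 za5) (ka xa5 ya48 za3) (ka xa10 ya5 za55) (ka xa10 ya5 za56) (ka xa10 ya6 za27) (ka xa10 ya5 za58)) (@D3.rec (fun _ => Pt) (ka xa10 ya5 za59) (ka xa8 ya14 za53) (ka xa10 ya5 za60) (ka xa10 ya5 za61) (ka xa10 ya6 za0) (ka xa8 ya14 za54) (ka xa9 ya48 za3) (ka xa9 ya48 za4) (ka xa5 ya14 za34) (ka xa5 ya14 za35) (ka xa5 ya14 za36) (ka xa2 ya31 za19) (ka xa10 ya6 za53) (ka xa10 ya6 za54) (ka xa5 ya14 za40) (ka xa5 ya14 za41) (ka xa5 ya14 za42) (ka xa5 ya11 za41) (ka xa5 ya11 za40) (ka xa2 ya31 za21) (ka xa10 ya7 za7) (ka xa9 ya47 za59) (ka xa5 ya14 za48)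 (ka xa5 ya47 za31) (ka xa5 ya14 za50) (ka xa5 ya14 za51) (ka xa5 ya14 za52) (ka xa5 ya14 za53) (ka xa5 ya17 za21) (ka xa5 ya2 za6) (ka xa8 ya26 za9) (ka xa8 ya26 za10) (ka xa5 ya2 za17) (ka xa5 ya2 za18) (ka xa8 ya3 za59) (ka xa5 ya12 za51) (ka xa8 ya3 za8) (ka xa10 ya7 za43) (ka xa8 ya3 za61) (ka xa8 ya4 za0) (ka xa5 ya2 za42) (ka xa8 ya4 za1) (ka xa8 ya4 za2) (ka xa5 ya2 za50) (ka xa8 ya3 za56) (ka xa9 ya40 za1) (ka xa9 ya40 za2) (ka xa8 ya13 za14) (ka xa10 ya7 za60) (ka xa8 ya4 za4) (ka xa8 ya4 za5) (ka xa8 ya4 za6) (ka xa5 ya1 za6) (ka xa8 ya4 za7) (ka xa8 ya4 za8) (ka xa5 ya4 za58) (ka xa2 ya34 za49) (ka xa8 ya26 za11) (ka xa10 ya8 za22) (ka xa8 ya4 za11) (ka xa8 ya4 za12) (ka xa5 ya3 za36)) (@D3.rec (fun _ => Pt) (ka xa8 ya4 za13) (ka xa8 ya4 za14) (ka xa9 ya40 za3) (ka xa10 ya8 za41) (ka xa8 ya4 za17) (ka xa8 ya4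 za18) (ka xa8 ya4 za19) (ka xa5 ya4 za0) (ka xa8 ya4 za20) (ka xa10 ya8 za52) (ka xa8 ya4 za22) (ka xa8 ya4 za23) (ka xa10 ya8 za59) (ka xa8 ya4 za25) (ka xa8 ya4 za26) (ka xa10 ya9 za3) (ka xa10 ya9 za8) (ka xa2 ya31 za46) (ka xa10 ya9 za13) (ka xa10 ya9 za2) (ka xa8 ya4 za32) (ka xa8 ya4 za33) (ka xa8 ya4 za34) (ka xa8 ya4 za35) (ka xa5 ya2 za3) (ka xa5 ya2 za2) (ka xa4 ya50 za37) (ka xa5 ya2 za46) (ka xa5 ya2 za47) (ka xa2 ya31 za56) (ka xa2 ya31 za57) (ka xa2 ya37 za22) (ka xa2 ya37 za23) (ka xa5 ya2 za53) (ka xa5 ya2 za54) (ka xa5 ya0 za59) (ka xa5 ya2 za51) (ka xa5 ya2 za52) (ka xa5 ya2 za56) (ka xa5 ya2 za55) (ka xa10 ya10 za3) (ka xa10 ya9 za41) (ka xa10 ya9 za42) (ka xa8 ya36 za31) (ka xa8 ya36 za28) (ka xa10 ya9 za43) (ka xa5 ya1 za3) (ka xa5 ya1 za4) (ka xa10 ya10 za24) (ka xa5 ya2 za21) (ka xa5 ya2 za22) (ka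 xa5 ya2 za23) (ka xa5 ya2 za24) (ka xa10 ya10 za32) (ka xa5 ya3 za5) (ka xa5 ya3 za4) (ka xa2 ya32 za0) (ka xa10 ya10 za39) (ka xa10 ya10 za40) (ka xa5 ya2 za38) (ka xa5 ya2 za41) (ka xa5 ya1 za12)) (@D3.rec (fun _ => Pt) (ka xa5 ya2 za43) (ka xa5 ya2 za44) (ka xa5 ya2 za45) (ka xa5 ya1 za15) (ka xa5 ya2 za7) (ka xa5 ya2 za4) (ka xa5 ya2 za5) (ka xa5 ya2 za10) (ka xa5 ya2 za9) (ka xa10 ya11 za2) (ka xa9 ya40 za8) (ka xa9 ya40 za9) (ka xa9 ya40 za10) (ka xa8 ya13 za18) (ka xa9 ya40 za11) (ka xa8 ya13 za17) (ka xa5 ya2 za34) (ka xa5 ya2 za33) (ka xa2 ya32 za11) (ka xa10 ya11 za21) (ka xa10 ya11 za22) (ka xa5 ya3 za9) (ka xa5 ya3 za12) (ka xa5 ya3 za13) (ka xa5 ya3 za14) (ka xa5 ya3 za15) (ka xa5 ya3 za16) (ka xa4 ya49 za50) (ka xa2 ya32 za19) (ka xa2 ya32 za20) (ka xa5 ya3 za44) (ka xa10 ya11 za42) (ka xa10 ya11 za33) (ka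 xa10 ya11 za34) (ka xa10 ya11 za35) (ka xa10 ya11 za36) (ka xa10 ya11 za37) (ka xa5 ya3 za52) (ka xa5 ya3 za51) (ka xa2 ya32 za21) (ka xa10 ya11 za61) (ka xa10 ya12 za0) (ka xa5 ya3 za31) (ka xa5 ya3 za32) (ka xa5 ya3 za33) (ka xa5 ya3 za34) (ka xa5 ya3 za35) (ka xa5 ya1 za37) (ka xa5 ya3 za37) (ka xa5 ya3 za38) (ka xa5 ya3 za39) (ka xa5 ya3 za41) (ka xa5 ya3 za17) (ka xa10 ya12 za23) (ka xa9 ya40 za13) (ka xa9 ya40 za14) (ka xa9 ya40 za15) (ka xa9 ya40 za16) (ka xa9 ya40 za17) (ka xa5 ya3 za25) (ka xa5 ya3 za24) (ka xa2 ya32 za29)) (@D3.rec (fun _ => Pt) (ka xa10 ya12 za40) (ka xa10 ya12 za41) (ka xa5 ya3 za56) (ka xa5 ya3 za57) (ka xa5 ya3 za58) (ka xa5 ya3 za59) (ka xa5 ya3 za60) (ka xa5 ya3 za61) (ka xa5 ya1 za45) (ka xa5 ya4 za1) (ka xa5 ya4 za13) (ka xa5 ya4 za12) (ka xa2 ya32 za35) (ka xa10 ya12 za58) (ka xa6 ya40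 za6) (ka xa10 ya12 za59) (ka xa5 ya4 za9) (ka xa5 ya4 za10) (ka xa5 ya4 za11) (ka xa5 ya4 za2) (ka xa3 ya2 za12) (ka xa2 ya32 za38) (ka xa10 ya13 za15) (ka xa6 ya40 za12) (ka xa10 ya13 za16) (ka xa5 ya4 za18) (ka xa5 ya4 za19) (ka xa5 ya4 za20) (ka xa2 ya32 za45) (ka xa2 ya32 za41) (ka xa10 ya13 za32) (ka xa10 ya13 za28) (ka xa10 ya13 za29) (ka xa10 ya13 za30) (ka xa2 ya32 za42) (ka xa10 ya13 za52) (ka xa10 ya13 za42) (ka xa10 ya13 za46) (ka xa10 ya13 za50) (ka xa2 ya32 za44) (ka xa5 ya8 za18) (ka xa5 ya8 za17) (ka xa10 ya14 za2) (ka xa10 ya14 za3) (ka xa10 ya13 za26) (ka xa10 ya14 za19) (ka xa5 ya4 za38) (ka xa3 ya2 za10) (ka xa5 ya4 za40) (ka xa5 ya4 za41) (ka xa5 ya4 za42) (ka xa5 ya4 za43) (ka xa5 ya4 za44) (ka xa5 ya4 za45) (ka xa9 ya40 za35) (ka xa5 ya4 za47) (ka xa5 ya4 za48) (ka xa4 ya55 za59) (ka xa5 ya18 za60)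 (ka xa5 ya6 za6) (ka xa5 ya6 za7) (ka xa5 ya6 za4)) (@D3.rec (fun _ => Pt) (ka xa2 ya38 za46) (ka xa5 ya6 za9) (ka xa5 ya6 za8) (ka xa10 ya14 za55) (ka xa5 ya19 za16) (ka xa5 ya19 za17) (ka xa5 ya19 za18) (ka xa5 ya19 za19) (ka xa5 ya19 za20) (ka xa5 ya15 za21) (ka xa5 ya15 za22) (ka xa5 ya5 za34) (ka xa5 ya5 za35) (ka xa5 ya5 za36) (ka xa2 ya32 za57) (ka xa9 ya52 za20) (ka xa5 ya6 za18) (ka xa5 ya6 za17) (ka xa2 ya32 za58) (ka xa10 ya15 za16) (ka xa5 ya5 za44) (ka xa5 ya5 za45) (ka xa5 ya15 za28) (ka xa8 ya17 za45) (ka xa5 ya5 za50) (ka xa4 ya56 za40) (ka xa2 ya33 za2) (ka xa4 ya39 za43) (ka xa5 ya6 za31) (ka xa5 ya47 za61) (ka xa5 ya58 za31) (ka xa5 ya6 za0) (ka xa5 ya6 za1) (ka xa5 ya6 za2) (ka xa5 ya4 za50) (ka xa5 ya4 za49) (ka xa8 ya15 za39) (ka xa8 ya15 za40) (ka xa5 ya5 za17) (ka xa5 ya4 za56) (ka xa5 ya17 za41)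 (ka xa5 ya4 za53) (ka xa5 ya4 za54) (ka xa5 ya4 za59) (ka xa10 ya15 za52) (ka xa5 ya5 za15) (ka xa8 ya38 za49) (ka xa8 ya38 za50) (ka xa8 ya38 za51) (ka xa8 ya4 za36) (ka xa8 ya38 za52) (ka xa5 ya8 za35) (ka xa5 ya5 za6) (ka xa10 ya16 za6) (ka xa5 ya5 za4) (ka xa4 ya27 za3) (ka xa7 ya14 za32) (ka xa5 ya0 za30) (ka xa5 ya5 za12) (ka xa5 ya5 za11) (ka xa9 ya17 za46) (ka xa4 ya25 za12)) (@D3.rec (fun _ => Pt) (ka xa5 ya4 za61) (ka xa8 ya38 za53) (ka xa8 ya3 za28) (ka xa5 ya15 za30) (ka xa5 ya5 za20) (ka xa5 ya5 za18) (ka xa5 ya5 za19) (ka xa5 ya5 za23) (ka xa5 ya5 za22) (ka xa10 ya16 za40) (ka xa6 ya24 za34) (ka xa6 ya24 za35) (ka xa8 ya52 za30) (ka xa5 ya21 za29) (ka xa8 ya52 za31) (ka xa5 ya21 za28) (ka xa5 ya5 za41) (ka xa5 ya5 za40) (ka xa2 ya33 za29) (ka xa10 ya16 za58) (ka xa4 ya56 za18) (ka xa5 ya6 za21) (ka xa10 ya17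 za2) (ka xa5 ya6 za24) (ka xa5 ya6 za25) (ka xa5 ya6 za26) (ka xa6 ya44 za53) (ka xa4 ya1 za28) (ka xa9 ya17 za47) (ka xa5 ya56 za39) (ka xa5 ya6 za36) (ka xa5 ya6 za37) (ka xa5 ya6 za38) (ka xa5 ya6 za41) (ka xa5 ya58 za29) (ka xa5 ya6 za55) (ka xa5 ya6 za56) (ka xa3 ya38 za34) (ka xa4 ya25 za57) (ka xa2 ya33 za43) (ka xa10 ya17 za29) (ka xa4 ya35 za35) (ka xa8 ya23 za57) (ka xa8 ya23 za58) (ka xa8 ya3 za16) (ka xa2 ya33 za47) (ka xa4 ya46 za61) (ka xa10 ya17 za39) (ka xa4 ya35 za36) (ka xa5 ya6 za60) (ka xa5 ya7 za0) (ka xa5 ya7 za1) (ka xa4 ya58 za34) (ka xa5 ya7 za13) (ka xa5 ya7 za14) (ka xa4 ya58 za30) (ka xa3 ya59 za23) (ka xa3 ya59 za26) (ka xa2 ya33 za54) (ka xa2 ya33 za55) (ka xa2 ya33 za56) (ka xa10 ya17 za58)) (@D3.rec (fun _ => Pt) (ka xa7 ya14 za7) (ka xa5 ya7 za21) (ka xa5 ya7 za20) (ka xa10 ya17 za59) (ka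 xa10 ya17 za60) (ka xa3 ya59 za4) (ka xa4 ya57 za19) (ka xa5 ya7 za10) (ka xa4 ya57 za50) (ka xa5 ya7 za11) (ka xa5 ya7 za24) (ka xa4 ya58 za50) (ka xa2 ya33 za60) (ka xa2 ya33 za61) (ka xa5 ya7 za4) (ka xa5 ya7 za3) (ka xa6 ya50 za45) (ka xa9 ya27 za33) (ka xa5 ya7 za26) (ka xa5 ya7 za27) (ka xa5 ya7 za28) (ka xa5 ya7 za29) (ka xa4 ya58 za17) (ka xa2 ya34 za2) (ka xa2 ya53 za33) (ka xa9 ya32 za30) (ka xa5 ya38 za48) (ka xa10 ya18 za31) (ka xa6 ya6 za52) (ka xa3 ya43 za26) (ka xa6 ya7 za11) (ka xa2 ya34 za6) (ka xa10 ya18 za34) (ka xa10 ya18 za35) (ka xa5 ya8 za8) (ka xa5 ya8 za9) (ka xa5 ya8 za10) (ka xa2 ya34 za8) (ka xa10 ya18 za45) (ka xa10 ya18 za46) (ka xa5 ya8 za14) (ka xa5 ya8 za15) (ka xa5 ya8 za16) (ka xa5 ya4 za34) (ka xa5 ya4 za33) (ka xa2 ya34 za10) (ka xa10 ya18 za60) (ka xa3 ya15 za47) (ka xa5 ya8 za22)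 (ka xa10 ya19 za3) (ka xa5 ya8 za24) (ka xa5 ya8 za25) (ka xa5 ya8 za26) (ka xa5 ya8 za27) (ka xa4 ya16 za4) (ka xa10 ya19 za14) (ka xa5 ya14 za61) (ka xa5 ya21 za18) (ka xa4 ya16 za26) (ka xa4 ya14 za9) (ka xa10 ya19 za24) (ka xa5 ya14 za56)) (@D3.rec (fun _ => Pt) (ka xa2 ya34 za30) (ka xa2 ya34 za33) (ka xa2 ya34 za40) (ka xa2 ya34 za41) (ka xa2 ya34 za44) (ka xa2 ya34 za45) (ka xa2 ya34 za50) (ka xa10 ya19 za45) (ka xa2 ya34 za52) (ka xa2 ya34 za53) (ka xa2 ya34 za54) (ka xa5 ya1 za0) (ka xa5 ya1 za1) (ka xa5 ya1 za2) (ka xa2 ya38 za18) (ka xa4 ya13 za57) (ka xa5 ya36 za5) (ka xa8 ya11 za16) (ka xa10 ya19 za28) (ka xa10 ya19 za29) (ka xa8 ya18 za52) (ka xa5 ya12 za9) (ka xa5 ya12 za10) (ka xa9 ya25 za39) (ka xa9 ya54 za57) (ka xa10 ya20 za10) (ka xa10 ya19 za31) (ka xa8 ya19 za18) (ka xa5 ya12 za22) (ka xa8 ya19 za19)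 (ka xa5 ya13 za3) (ka xa8 ya51 za61) (ka xa8 ya52 za0) (ka xa4 ya6 za28) (ka xa8 ya11 za17) (ka xa8 ya11 za18) (ka xa5 ya0 za58) (ka xa10 ya20 za32) (ka xa10 ya19 za33) (ka xa10 ya19 za34) (ka xa4 ya29 za31) (ka xa5 ya28 za13) (ka xa10 ya3 za46) (ka xa5 ya28 za12) (ka xa5 ya19 za43) (ka xa8 ya17 za51) (ka xa10 ya20 za52) (ka xa10 ya19 za36) (ka xa10 ya19 za37) (ka xa5 ya18 za26) (ka xa10 ya19 za38) (ka xa10 ya19 za39) (ka xa7 ya57 za32) (ka xa8 ya39 za57) (ka xa10 ya21 za11) (ka xa8 ya17 za53) (ka xa8 ya17 za49) (ka xa8 ya17 za48) (ka xa5 ya18 za37) (ka xa8 ya17 za50) (ka xa10 ya21 za24) (ka xa10 ya8 za15)) (@D3.rec (fun _ => Pt) (ka xa10 ya8 za16) (ka xa10 ya21 za33) (ka xa10 ya19 za41) (ka xa10 ya19 za42) (ka xa9 ya59 za41) (ka xa10 ya21 za43) (ka xa2 ya34 za51) (ka xa10 ya21 za47) (ka xa10 ya21 za39) (ka xa10 ya7 za22)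 (ka xa10 ya19 za48) (ka xa8 ya29 za4) (ka xa10 ya19 za49) (ka xa8 ya29 za3) (ka xa10 ya19 za50) (ka xa5 ya18 za19) (ka xa5 ya18 za18) (ka xa5 ya18 za30) (ka xa8 ya52 za10) (ka xa8 ya52 za11) (ka xa8 ya52 za12) (ka xa8 ya52 za13) (ka xa8 ya52 za14) (ka xa5 ya17 za53) (ka xa5 ya18 za27) (ka xa5 ya18 za28) (ka xa5 ya18 za20) (ka xa5 ya19 za57) (ka xa5 ya19 za58) (ka xa5 ya19 za59) (ka xa5 ya19 za60) (ka xa5 ya19 za61) (ka xa5 ya18 za36) (ka xa5 ya17 za61) (ka xa2 ya35 za7) (ka xa2 ya35 za3) (ka xa10 ya9 za5) (ka xa10 ya22 za36) (ka xa6 ya40 za43) (ka xa10 ya22 za37) (ka xa2 ya35 za4) (ka xa10 ya22 za54) (ka xa10 ya22 za46) (ka xa10 ya22 za48) (ka xa10 ya22 za52) (ka xa2 ya35 za6) (ka xa9 ya7 za57) (ka xa9 ya7 za56) (ka xa10 ya23 za2) (ka xa10 ya23 za3) (ka xa10 ya22 za35) (ka xa5 ya18 za55) (ka xa5 ya18 za56) (ka xa5 ya20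 za14) (ka xa5 ya18 za59) (ka xa4 ya0 za60) (ka xa4 ya2 za51) (ka xa4 ya2 za52) (ka xa10 ya23 za31) (ka xa4 ya2 za54) (ka xa2 ya35 za27) (ka xa2 ya35 za29)) (@D3.rec (fun _ => Pt) (ka xa2 ya35 za30) (ka xa2 ya35 za32) (ka xa2 ya35 za36) (ka xa2 ya35 za37) (ka xa2 ya35 za39) (ka xa2 ya35 za40) (ka xa2 ya35 za45) (ka xa10 ya23 za54) (ka xa2 ya35 za47) (ka xa2 ya35 za48) (ka xa2 ya35 za49) (ka xa4 ya9 za19) (ka xa4 ya0 za16) (ka xa6 ya5 za44) (ka xa8 ya13 za28) (ka xa9 ya52 za17) (ka xa8 ya27 za0) (ka xa4 ya50 za33) (ka xa4 ya18 za55) (ka xa8 ya13 za29) (ka xa8 ya13 za30) (ka xa5 ya8 za28) (ka xa10 ya23 za36) (ka xa4 ya50 za35) (ka xa8 ya13 za44) (ka xa10 ya24 za24) (ka xa10 ya23 za38) (ka xa6 ya5 za59) (ka xa10 ya23 za39) (ka xa5 ya5 za30) (ka xa5 ya5 za31) (ka xa10 ya20 za29) (ka xa10 ya9 za54) (ka xa10 ya24 za45) (ka xa10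 ya23 za41) (ka xa8 ya31 za49) (ka xa5 ya5 za46) (ka xa8 ya31 za50) (ka xa5 ya6 za3) (ka xa5 ya19 za1) (ka xa5 ya19 za2) (ka xa5 ya12 za40) (ka xa10 ya25 za0) (ka xa10 ya23 za43) (ka xa10 ya23 za44) (ka xa2 ya41 za56) (ka xa5 ya25 za51) (ka xa10 ya17 za1) (ka xa5 ya25 za50) (ka xa8 ya15 za54) (ka xa10 ya25 za17) (ka xa10 ya23 za46) (ka xa9 ya24 za52) (ka xa5 ya16 za23) (ka xa10 ya23 za47) (ka xa10 ya23 za48) (ka xa5 ya19 za5) (ka xa10 ya25 za33) (ka xa8 ya30 za45) (ka xa8 ya30 za42) (ka xa8 ya30 za41) (ka xa5 ya16 za33)) (@D3.rec (fun _ => Pt) (ka xa8 ya30 za43) (ka xa10 ya25 za46) (ka xa9 ya53 za19) (ka xa9 ya24 za47) (ka xa10 ya25 za52) (ka xa10 ya23 za50) (ka xa10 ya23 za51) (ka xa10 ya13 za33) (ka xa10 ya25 za57) (ka xa2 ya35 za46) (ka xa10 ya25 za61) (ka xa10 ya25 za53) (ka xa9 ya52 za22) (ka xa10 ya23 za57) (ka xa10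 ya23 za58) (ka xa10 ya23 za59) (ka xa10 ya23 za60) (ka xa10 ya23 za61) (ka xa5 ya16 za16) (ka xa5 ya16 za15) (ka xa5 ya16 za26) (ka xa5 ya19 za22) (ka xa5 ya19 za23) (ka xa5 ya19 za24) (ka xa5 ya19 za25) (ka xa5 ya19 za27) (ka xa5 ya15 za49) (ka xa5 ya16 za24) (ka xa5 ya16 za25) (ka xa4 ya53 za60) (ka xa5 ya16 za17) (ka xa8 ya52 za33) (ka xa8 ya52 za34) (ka xa8 ya52 za35) (ka xa8 ya52 za36) (ka xa8 ya52 za37) (ka xa5 ya16 za32) (ka xa5 ya15 za58) (ka xa2 ya36 za2) (ka xa2 ya35 za60) (ka xa9 ya54 za18) (ka xa10 ya26 za54) (ka xa10 ya26 za55) (ka xa10 ya26 za56) (ka xa2 ya35 za61) (ka xa10 ya27 za12) (ka xa10 ya27 za2) (ka xa10 ya27 za6) (ka xa10 ya27 za10) (ka xa2 ya36 za1) (ka xa5 ya55 za25) (ka xa5 ya55 za24) (ka xa10 ya27 za24) (ka xa10 ya27 za25) (ka xa10 ya26 za52) (ka xa5 ya16 za51) (ka xa5 ya16 za52) (ka xa4 ya43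 za57) (ka xa5 ya19 za42) (ka xa5 ya16 za54) (ka xa5 ya11 za58) (ka xa5 ya19 za8)) (@D3.rec (fun _ => Pt) (ka xa5 ya19 za9) (ka xa5 ya17 za39) (ka xa5 ya17 za40) (ka xa5 ya19 za10) (ka xa5 ya19 za11) (ka xa5 ya17 za56) (ka xa5 ya19 za13) (ka xa5 ya19 za14) (ka xa5 ya18 za61) (ka xa5 ya19 za0) (ka xa5 ya19 za3) (ka xa5 ya19 za4) (ka xa10 ya28 za11) (ka xa5 ya19 za6) (ka xa5 ya19 za7) (ka xa10 ya28 za16) (ka xa5 ya12 za4) (ka xa5 ya12 za5) (ka xa5 ya12 za6) (ka xa5 ya12 za7) (ka xa5 ya12 za8) (ka xa10 ya28 za29) (ka xa5 ya18 za21) (ka xa5 ya18 za22) (ka xa5 ya18 za23) (ka xa5 ya18 za24) (ka xa2 ya37 za59) (ka xa5 ya18 za25) (ka xa10 ya28 za46) (ka xa5 ya20 za1) (ka xa5 ya20 za2) (ka xa10 ya28 za54) (ka xa5 ya20 za4) (ka xa5 ya20 za5) (ka xa5 ya19 za38) (ka xa5 ya19 za37) (ka xa2 ya36 za26) (ka xa5 ya19 za35) (ka xa5 ya19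 za34) (ka xa5 ya20 za11) (ka xa5 ya20 za12) (ka xa5 ya20 za13) (ka xa5 ya18 za58) (ka xa5 ya15 za44) (ka xa8 ya5 za43) (ka xa10 ya29 za22) (ka xa8 ya5 za45) (ka xa8 ya5 za47) (ka xa10 ya29 za27) (ka xa5 ya6 za11) (ka xa5 ya6 za12) (ka xa5 ya6 za13) (ka xa5 ya6 za14) (ka xa5 ya6 za15) (ka xa5 ya6 za16) (ka xa2 ya38 za7) (ka xa10 ya29 za44) (ka xa5 ya16 za27) (ka xa5 ya16 za28) (ka xa5 ya16 za29) (ka xa5 ya16 za30) (ka xa5 ya16 za31)) (@D3.rec (fun _ => Pt) (ka xa10 ya29 za57) (ka xa5 ya19 za29) (ka xa5 ya19 za30) (ka xa10 ya30 za2) (ka xa5 ya19 za32) (ka xa5 ya19 za33) (ka xa10 ya30 za8) (ka xa10 ya30 za13) (ka xa2 ya36 za43) (ka xa5 ya20 za10) (ka xa5 ya20 za9) (ka xa5 ya19 za39) (ka xa5 ya19 za40) (ka xa5 ya19 za41) (ka xa5 ya16 za53) (ka xa2 ya37 za25) (ka xa2 ya37 za26) (ka xa2 ya37 za28) (ka xa2 ya37 za29) (ka xa2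 ya37 za32) (ka xa2 ya37 za33) (ka xa10 ya30 za45) (ka xa2 ya37 za35) (ka xa2 ya37 za36) (ka xa2 ya37 za37) (ka xa5 ya22 za28) (ka xa5 ya22 za29) (ka xa2 ya37 za58) (ka xa2 ya37 za60) (ka xa2 ya37 za61) (ka xa10 ya31 za1) (ka xa2 ya38 za1) (ka xa2 ya38 za2) (ka xa2 ya38 za4) (ka xa2 ya38 za6) (ka xa2 ya38 za19) (ka xa2 ya38 za20) (ka xa10 ya31 za16) (ka xa2 ya38 za25) (ka xa2 ya38 za26) (ka xa2 ya38 za27) (ka xa2 ya38 za30) (ka xa8 ya39 za30) (ka xa2 ya38 za36) (ka xa10 ya31 za33) (ka xa2 ya38 za39) (ka xa2 ya38 za40) (ka xa2 ya38 za45) (ka xa2 ya38 za47) (ka xa8 ya2 za43) (ka xa10 ya31 za46) (ka xa2 ya38 za52) (ka xa2 ya38 za53) (ka xa2 ya38 za55) (ka xa2 ya38 za58) (ka xa10 ya31 za57) (ka xa2 ya38 za61) (ka xa2 ya39 za0) (ka xa7 ya53 za41) (ka xa2 ya39 za2) (ka xa2 ya39 za3) (ka xa2 ya39 za4)) (@D3.rec (fun _ => Pt) (ka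 xa10 ya32 za5) (ka xa10 ya32 za10) (ka xa2 ya37 za7) (ka xa10 ya32 za13) (ka xa10 ya32 za4) (ka xa2 ya39 za10) (ka xa2 ya39 za11) (ka xa2 ya39 za13) (ka xa2 ya39 za15) (ka xa2 ya39 za16) (ka xa2 ya39 za17) (ka xa5 ya21 za15) (ka xa4 ya51 za40) (ka xa10 ya32 za40) (ka xa5 ya21 za17) (ka xa5 ya21 za11) (ka xa10 ya32 za49) (ka xa5 ya21 za14) (ka xa5 ya14 za57) (ka xa8 ya51 za60) (ka xa8 ya19 za2) (ka xa7 ya57 za31) (ka xa8 ya52 za1) (ka xa10 ya33 za5) (ka xa8 ya52 za3) (ka xa8 ya52 za4) (ka xa5 ya4 za51) (ka xa5 ya4 za52) (ka xa5 ya13 za15) (ka xa5 ya13 za13) (ka xa10 ya9 za44) (ka xa10 ya9 za45) (ka xa10 ya9 za46) (ka xa7 ya46 za9) (ka xa10 ya9 za47) (ka xa7 ya36 za58) (ka xa6 ya5 za41) (ka xa8 ya54 za48) (ka xa7 ya46 za19) (ka xa7 ya46 za17) (ka xa10 ya10 za7) (ka xa10 ya30 za31) (ka xa10 ya28 za43) (ka xa10 ya28 za41)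 (ka xa4 ya5 za23) (ka xa8 ya15 za42) (ka xa8 ya53 za54) (ka xa4 ya50 za36) (ka xa10 ya33 za50) (ka xa10 ya30 za33) (ka xa10 ya30 za34) (ka xa6 ya6 za13) (ka xa10 ya30 za35) (ka xa10 ya30 za36) (ka xa10 ya34 za4) (ka xa8 ya53 za56) (ka xa8 ya53 za52) (ka xa8 ya53 za51) (ka xa6 ya6 za29) (ka xa8 ya53 za53) (ka xa10 ya34 za17) (ka xa10 ya30 za38)) (@D3.rec (fun _ => Pt) (ka xa10 ya30 za39) (ka xa10 ya34 za26) (ka xa10 ya30 za41) (ka xa10 ya30 za42) (ka xa10 ya34 za33) (ka xa10 ya34 za38) (ka xa2 ya37 za34) (ka xa10 ya34 za41) (ka xa10 ya34 za32) (ka xa10 ya30 za48) (ka xa10 ya30 za49) (ka xa10 ya10 za6) (ka xa10 ya30 za50) (ka xa10 ya30 za51) (ka xa10 ya30 za52) (ka xa5 ya22 za27) (ka xa5 ya22 za33) (ka xa5 ya22 za35) (ka xa4 ya30 za53) (ka xa10 ya35 za5) (ka xa4 ya55 za45) (ka xa5 ya22 za37) (ka xa5 ya22 za38) (ka xa5 ya22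 za39) (ka xa5 ya22 za40) (ka xa5 ya22 za41) (ka xa4 ya55 za17) (ka xa5 ya22 za15) (ka xa5 ya20 za25) (ka xa5 ya20 za26) (ka xa2 ya43 za58) (ka xa4 ya3 za9) (ka xa4 ya54 za56) (ka xa5 ya22 za16) (ka xa4 ya54 za57) (ka xa5 ya22 za17) (ka xa10 ya35 za33) (ka xa5 ya22 za21) (ka xa5 ya22 za22) (ka xa5 ya22 za23) (ka xa5 ya22 za24) (ka xa5 ya22 za25) (ka xa4 ya4 za31) (ka xa5 ya4 za55) (ka xa4 ya6 za39) (ka xa10 ya35 za49) (ka xa5 ya24 za60) (ka xa8 ya21 za38) (ka xa8 ya21 za36) (ka xa8 ya21 za37) (ka xa8 ya21 za39) (ka xa10 ya35 za60) (ka xa5 ya24 za59) (ka xa10 ya28 za42) (ka xa10 ya36 za7) (ka xa5 ya24 za16) (ka xa10 ya30 za58) (ka xa10 ya36 za15) (ka xa4 ya4 za22) (ka xa5 ya24 za15) (ka xa10 ya30 za60) (ka xa10 ya31 za15)) (@D3.rec (fun _ => Pt) (ka xa10 ya31 za14) (ka xa2 ya38 za0) (ka xa10 ya36 za29) (ka xa10 ya36 za30)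 (ka xa10 ya31 za3) (ka xa8 ya25 za47) (ka xa10 ya31 za4) (ka xa10 ya31 za5) (ka xa10 ya31 za6) (ka xa10 ya31 za7) (ka xa10 ya31 za8) (ka xa8 ya56 za21) (ka xa4 ya27 za56) (ka xa10 ya31 za9) (ka xa10 ya31 za10) (ka xa6 ya5 za6) (ka xa6 ya5 za7) (ka xa6 ya5 za5) (ka xa6 ya5 za8) (ka xa10 ya29 za41) (ka xa6 ya4 za58) (ka xa10 ya37 za15) (ka xa6 ya5 za4) (ka xa5 ya35 za13) (ka xa2 ya38 za14) (ka xa2 ya38 za15) (ka xa8 ya40 za18) (ka xa10 ya37 za25) (ka xa9 ya51 za40) (ka xa10 ya37 za21) (ka xa8 ya41 za25) (ka xa9 ya34 za10) (ka xa8 ya41 za23) (ka xa10 ya37 za37) (ka xa10 ya31 za12) (ka xa8 ya36 za53) (ka xa5 ya30 za12) (ka xa8 ya40 za52) (ka xa10 ya31 za13) (ka xa4 ya4 za45) (ka xa10 ya31 za0) (ka xa10 ya30 za61) (ka xa2 ya38 za24) (ka xa10 ya37 za55) (ka xa10 ya37 za56) (ka xa10 ya31 za19) (ka xa10 ya31 za20) (ka xa10 ya31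 za21) (ka xa10 ya31 za22) (ka xa10 ya31 za23) (ka xa10 ya31 za24) (ka xa10 ya31 za25) (ka xa8 ya22 za20) (ka xa8 ya32 za54) (ka xa8 ya32 za55) (ka xa8 ya32 za53) (ka xa8 ya32 za56) (ka xa4 ya22 za40) (ka xa8 ya32 za50) (ka xa10 ya38 za38) (ka xa8 ya32 za52) (ka xa2 ya38 za35)) (@D3.rec (fun _ => Pt) (ka xa10 ya38 za45) (ka xa4 ya55 za35) (ka xa4 ya55 za36) (ka xa8 ya8 za24) (ka xa8 ya57 za14) (ka xa10 ya24 za54) (ka xa10 ya38 za42) (ka xa10 ya38 za60) (ka xa10 ya31 za30) (ka xa10 ya39 za3) (ka xa10 ya31 za45) (ka xa10 ya31 za44) (ka xa2 ya38 za38) (ka xa10 ya39 za9) (ka xa10 ya39 za10) (ka xa5 ya22 za59) (ka xa5 ya22 za55) (ka xa10 ya31 za36) (ka xa4 ya33 za18) (ka xa10 ya31 za37) (ka xa10 ya31 za38) (ka xa10 ya31 za39) (ka xa4 ya16 za60) (ka xa8 ya57 za38) (ka xa8 ya57 za39) (ka xa10 ya31 za40) (ka xa10 ya29 za14) (ka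 xa10 ya31 za41) (ka xa4 ya23 za20) (ka xa2 ya38 za50) (ka xa10 ya39 za42) (ka xa9 ya51 za33) (ka xa9 ya51 za34) (ka xa8 ya8 za49) (ka xa8 ya8 za53) (ka xa10 ya39 za39) (ka xa10 ya31 za32) (ka xa10 ya31 za31) (ka xa2 ya38 za51) (ka xa10 ya39 za55) (ka xa10 ya31 za49) (ka xa10 ya31 za50) (ka xa10 ya31 za51) (ka xa10 ya31 za52) (ka xa10 ya31 za53) (ka xa10 ya31 za54) (ka xa8 ya58 za12) (ka xa6 ya4 za42) (ka xa6 ya4 za43) (ka xa6 ya4 za41) (ka xa6 ya4 za44) (ka xa10 ya32 za0) (ka xa10 ya31 za61) (ka xa2 ya38 za59) (ka xa10 ya40 za26) (ka xa10 ya40 za27) (ka xa10 ya40 za28) (ka xa5 ya0 za35) (ka xa7 ya58 za10) (ka xa5 ya22 za52) (ka xa5 ya22 za46) (ka xa10 ya31 za60)) (@D3.rec (fun _ => Pt) (ka xa9 ya3 za11) (ka xa10 ya31 za56) (ka xa10 ya31 za55) (ka xa2 ya39 za1) (ka xa10 ya40 za52) (ka xa10 ya40 za53) (ka xa7 ya53 za39)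 (ka xa10 ya32 za2) (ka xa10 ya32 za3) (ka xa7 ya28 za7) (ka xa7 ya53 za32) (ka xa2 ya39 za9) (ka xa2 ya39 za5) (ka xa10 ya41 za15) (ka xa4 ya56 za12) (ka xa10 ya41 za12) (ka xa10 ya41 za13) (ka xa2 ya39 za6) (ka xa10 ya41 za33) (ka xa10 ya41 za23) (ka xa10 ya41 za27) (ka xa10 ya41 za31) (ka xa2 ya39 za8) (ka xa10 ya41 za43) (ka xa10 ya41 za44) (ka xa10 ya41 za45) (ka xa10 ya41 za46) (ka xa10 ya41 za9) (ka xa10 ya41 za10) (ka xa10 ya42 za3) (ka xa10 ya32 za18) (ka xa10 ya42 za9) (ka xa10 ya32 za20) (ka xa10 ya42 za16) (ka xa9 ya43 za19) (ka xa10 ya32 za21) (ka xa10 ya21 za46) (ka xa10 ya32 za22) (ka xa9 ya43 za16) (ka xa10 ya32 za23) (ka xa10 ya32 za24) (ka xa10 ya32 za25) (ka xa10 ya34 za59) (ka xa10 ya32 za26) (ka xa10 ya32 za27) (ka xa10 ya26 za36) (ka xa8 ya39 za43) (ka xa10 ya32 za29) (ka xa10 ya32 za30) (ka xa10 ya32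 za31) (ka xa5 ya17 za48) (ka xa5 ya17 za46) (ka xa6 ya5 za45) (ka xa6 ya5 za47) (ka xa6 ya5 za46) (ka xa10 ya43 za1) (ka xa8 ya28 za41) (ka xa8 ya28 za42) (ka xa8 ya28 za43) (ka xa8 ya28 za44) (ka xa8 ya28 za45) (ka xa10 ya43 za15)) (@D3.rec (fun _ => Pt) (ka xa6 ya5 za54) (ka xa6 ya5 za53) (ka xa2 ya39 za24) (ka xa10 ya43 za23) (ka xa10 ya43 za24) (ka xa5 ya35 za3) (ka xa5 ya28 za18) (ka xa6 ya5 za29) (ka xa6 ya5 za28) (ka xa10 ya43 za37) (ka xa8 ya15 za57) (ka xa8 ya15 za58) (ka xa8 ya15 za59) (ka xa8 ya15 za60) (ka xa6 ya5 za38) (ka xa6 ya5 za37) (ka xa2 ya39 za33) (ka xa6 ya50 za21) (ka xa6 ya50 za22) (ka xa5 ya36 za43) (ka xa6 ya5 za57) (ka xa5 ya36 za41) (ka xa6 ya5 za58) (ka xa6 ya6 za17) (ka xa10 ya43 za60) (ka xa8 ya28 za47) (ka xa8 ya28 za48) (ka xa8 ya28 za49) (ka xa8 ya28 za50) (ka xa8 ya28 za51) (ka xa6 ya6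 za25) (ka xa6 ya6 za24) (ka xa2 ya39 za40) (ka xa10 ya44 za16) (ka xa10 ya44 za17) (ka xa6 ya6 za10) (ka xa6 ya6 za11) (ka xa6 ya6 za12) (ka xa6 ya4 za61) (ka xa5 ya53 za24) (ka xa6 ya6 za14) (ka xa5 ya53 za23) (ka xa6 ya6 za15) (ka xa10 ya44 za34) (ka xa8 ya16 za0) (ka xa8 ya16 za1) (ka xa8 ya16 za2) (ka xa8 ya16 za3) (ka xa8 ya16 za4) (ka xa6 ya6 za5) (ka xa6 ya6 za4) (ka xa2 ya39 za48) (ka xa9 ya47 za37) (ka xa6 ya6 za28) (ka xa4 ya49 za33) (ka xa2 ya39 za53) (ka xa10 ya44 za52) (ka xa10 ya44 za53) (ka xa6 ya6 za36) (ka xa6 ya6 za37) (ka xa6 ya6 za31) (ka xa6 ya6 za30)) (@D3.rec (fun _ => Pt) (ka xa2 ya39 za56) (ka xa10 ya45 za5) (ka xa5 ya55 za38) (ka xa2 ya40 za0) (ka xa2 ya39 za58) (ka xa10 ya45 za14) (ka xa10 ya45 za11) (ka xa6 ya44 za51) (ka xa10 ya45 za12) (ka xa2 ya39 za59) (ka xa5 ya53 za36) (ka xa10 ya45 za24)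 (ka xa6 ya44 za14) (ka xa4 ya36 za22) (ka xa2 ya39 za61) (ka xa6 ya8 za20) (ka xa6 ya8 za19) (ka xa10 ya45 za35) (ka xa10 ya45 za36) (ka xa10 ya45 za10) (ka xa10 ya45 za49) (ka xa6 ya6 za53) (ka xa6 ya6 za54) (ka xa6 ya6 za55) (ka xa6 ya6 za56) (ka xa8 ya56 za22) (ka xa10 ya45 za57) (ka xa8 ya56 za24) (ka xa8 ya56 za25) (ka xa2 ya43 za23) (ka xa10 ya46 za7) (ka xa2 ya40 za19) (ka xa2 ya40 za20) (ka xa2 ya40 za21) (ka xa2 ya40 za22) (ka xa2 ya40 za23) (ka xa4 ya13 za61) (ka xa10 ya46 za19) (ka xa8 ya18 za31) (ka xa8 ya18 za28) (ka xa8 ya18 za26) (ka xa8 ya18 za27) (ka xa8 ya18 za29) (ka xa7 ya57 za57) (ka xa8 ya7 za47) (ka xa10 ya46 za38) (ka xa8 ya56 za27) (ka xa8 ya56 za28) (ka xa6 ya5 za52) (ka xa6 ya5 za51) (ka xa10 ya46 za48) (ka xa5 ya31 za12) (ka xa8 ya56 za32) (ka xa10 ya46 za56) (ka xa5 ya31 za11) (ka xa8 ya56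 za30) (ka xa8 ya56 za34) (ka xa8 ya56 za33) (ka xa2 ya40 za18) (ka xa10 ya47 za7) (ka xa10 ya47 za8) (ka xa10 ya46 za9)) (@D3.rec (fun _ => Pt) (ka xa10 ya46 za10) (ka xa10 ya46 za11) (ka xa3 ya48 za37) (ka xa3 ya48 za36) (ka xa9 ya37 za40) (ka xa10 ya46 za12) (ka xa4 ya28 za53) (ka xa8 ya53 za19) (ka xa10 ya46 za13) (ka xa4 ya28 za52) (ka xa10 ya46 za14) (ka xa4 ya51 za3) (ka xa5 ya15 za43) (ka xa5 ya15 za41) (ka xa7 ya57 za53) (ka xa4 ya3 za42) (ka xa4 ya18 za58) (ka xa4 ya9 za24) (ka xa5 ya26 za6) (ka xa8 ya17 za57) (ka xa10 ya47 za46) (ka xa8 ya53 za22) (ka xa8 ya53 za23) (ka xa8 ya53 za24) (ka xa8 ya53 za25) (ka xa8 ya53 za26) (ka xa8 ya56 za7) (ka xa8 ya56 za6) (ka xa2 ya40 za32) (ka xa10 ya48 za1) (ka xa10 ya48 za2) (ka xa5 ya33 za17) (ka xa8 ya21 za47) (ka xa8 ya21 za48) (ka xa8 ya21 za50) (ka xa8 ya21 za51) (ka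 xa8 ya55 za45) (ka xa5 ya36 za22) (ka xa5 ya36 za23) (ka xa8 ya21 za53) (ka xa8 ya21 za52) (ka xa2 ya40 za38) (ka xa5 ya34 za0) (ka xa10 ya48 za27) (ka xa5 ya33 za15) (ka xa6 ya7 za21) (ka xa8 ya56 za10) (ka xa5 ya36 za38) (ka xa5 ya36 za37) (ka xa2 ya40 za41) (ka xa10 ya48 za43) (ka xa10 ya48 za44) (ka xa10 ya48 za45) (ka xa5 ya31 za51) (ka xa5 ya36 za24) (ka xa5 ya36 za25) (ka xa5 ya36 za19) (ka xa5 ya36 za18) (ka xa2 ya40 za44) (ka xa5 ya32 za7) (ka xa9 ya44 za8) (ka xa10 ya49 za2)) (@D3.rec (fun _ => Pt) (ka xa5 ya31 za49) (ka xa5 ya36 za42) (ka xa10 ya49 za13) (ka xa8 ya56 za47) (ka xa5 ya31 za41) (ka xa8 ya56 za48) (ka xa10 ya49 za27) (ka xa8 ya56 za44) (ka xa5 ya31 za40) (ka xa8 ya56 za45) (ka xa2 ya40 za50) (ka xa2 ya40 za51) (ka xa8 ya56 za52) (ka xa8 ya56 za51) (ka xa10 ya49 za39) (ka xa3 ya59 za37) (ka xa5 ya52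 za56) (ka xa8 ya53 za48) (ka xa10 ya49 za57) (ka xa8 ya6 za30) (ka xa2 ya43 za27) (ka xa2 ya41 za5) (ka xa2 ya41 za6) (ka xa2 ya41 za7) (ka xa2 ya41 za10) (ka xa10 ya50 za9) (ka xa2 ya41 za19) (ka xa2 ya41 za20) (ka xa2 ya41 za21) (ka xa2 ya41 za24) (ka xa4 ya18 za35) (ka xa4 ya9 za18) (ka xa8 ya25 za6) (ka xa4 ya8 za43) (ka xa8 ya42 za33) (ka xa4 ya18 za42) (ka xa4 ya8 za42) (ka xa8 ya25 za18) (ka xa10 ya50 za32) (ka xa10 ya50 za4) (ka xa10 ya50 za5) (ka xa8 ya24 za17) (ka xa8 ya26 za34) (ka xa10 ya50 za6) (ka xa4 ya9 za4) (ka xa10 ya50 za45) (ka xa8 ya55 za48) (ka xa8 ya55 za49) (ka xa10 ya50 za52) (ka xa8 ya55 za43) (ka xa8 ya55 za44) (ka xa8 ya21 za46) (ka xa8 ya55 za46) (ka xa10 ya51 za0) (ka xa4 ya8 za33) (ka xa5 ya32 za23) (ka xa8 ya55 za53) (ka xa10 ya51 za7) (ka xa5 ya32 za22) (ka xa8 ya55 za51) (ka xa8 ya55 za55)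 (ka xa8 ya55 za54)) (@D3.rec (fun _ => Pt) (ka xa2 ya41 za18) (ka xa10 ya51 za18) (ka xa10 ya51 za19) (ka xa8 ya55 za59) (ka xa8 ya55 za58) (ka xa10 ya50 za12) (ka xa10 ya50 za13) (ka xa10 ya43 za33) (ka xa10 ya50 za14) (ka xa10 ya50 za15) (ka xa10 ya50 za16) (ka xa10 ya20 za43) (ka xa5 ya23 za36) (ka xa8 ya18 za57) (ka xa8 ya30 za14) (ka xa8 ya30 za15) (ka xa8 ya30 za13) (ka xa8 ya30 za16) (ka xa8 ya26 za42) (ka xa10 ya52 za4) (ka xa8 ya30 za12) (ka xa10 ya52 za8) (ka xa8 ya56 za15) (ka xa5 ya32 za42) (ka xa8 ya56 za16) (ka xa10 ya52 za20) (ka xa8 ya56 za12) (ka xa5 ya32 za41) (ka xa8 ya56 za13) (ka xa2 ya41 za30) (ka xa2 ya41 za31) (ka xa8 ya56 za19) (ka xa8 ya56 za18) (ka xa10 ya52 za32) (ka xa10 ya52 za33) (ka xa10 ya52 za34) (ka xa10 ya43 za47) (ka xa10 ya52 za35) (ka xa10 ya52 za36) (ka xa3 ya59 za11) (ka xa6 ya47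 za31) (ka xa5 ya39 za44) (ka xa5 ya39 za45) (ka xa6 ya47 za23) (ka xa5 ya39 za47) (ka xa6 ya20 za42) (ka xa5 ya52 za37) (ka xa10 ya53 za6) (ka xa8 ya56 za59) (ka xa8 ya56 za60) (ka xa8 ya54 za7) (ka xa10 ya53 za16) (ka xa8 ya22 za30) (ka xa8 ya24 za54) (ka xa8 ya33 za49) (ka xa8 ya24 za55) (ka xa5 ya39 za49) (ka xa5 ya39 za52) (ka xa10 ya53 za24) (ka xa2 ya41 za45) (ka xa10 ya53 za27) (ka xa2 ya41 za51)) (@D3.rec (fun _ => Pt) (ka xa2 ya41 za52) (ka xa2 ya41 za54) (ka xa2 ya41 za55) (ka xa2 ya41 za57) (ka xa10 ya53 za41) (ka xa8 ya27 za14) (ka xa8 ya57 za49) (ka xa8 ya57 za48) (ka xa2 ya41 za50) (ka xa10 ya53 za48) (ka xa10 ya53 za49) (ka xa5 ya27 za54) (ka xa5 ya27 za51) (ka xa10 ya53 za30) (ka xa10 ya53 za31) (ka xa10 ya53 za32) (ka xa10 ya53 za33) (ka xa10 ya53 za34) (ka xa10 ya31 za26) (ka xa10 ya53 za35) (ka xa10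 ya53 za36) (ka xa6 ya6 za22) (ka xa8 ya54 za11) (ka xa10 ya53 za37) (ka xa10 ya22 za5) (ka xa10 ya53 za38) (ka xa10 ya25 za8) (ka xa3 ya58 za45) (ka xa3 ya58 za44) (ka xa2 ya41 za58) (ka xa10 ya54 za36) (ka xa10 ya54 za37) (ka xa4 ya56 za27) (ka xa10 ya54 za47) (ka xa8 ya58 za2) (ka xa8 ya58 za3) (ka xa10 ya54 za55) (ka xa8 ya58 za0) (ka xa2 ya42 za1) (ka xa2 ya42 za2) (ka xa5 ya29 za8) (ka xa5 ya29 za4) (ka xa10 ya54 za59) (ka xa10 ya54 za60) (ka xa10 ya54 za61) (ka xa10 ya55 za0) (ka xa10 ya55 za1) (ka xa10 ya55 za2) (ka xa10 ya55 za21) (ka xa5 ya29 za0) (ka xa8 ya57 za36) (ka xa5 ya28 za53) (ka xa5 ya41 za8) (ka xa5 ya41 za10) (ka xa5 ya41 za11) (ka xa9 ya51 za12) (ka xa9 ya51 za14) (ka xa8 ya57 za33) (ka xa8 ya57 za34) (ka xa8 ya57 za35) (ka xa8 ya57 za37) (ka xa8 ya54 za29)) (@D3.rec (fun _ => Pt) (ka xa8 ya54 za30)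 (ka xa8 ya59 za5) (ka xa8 ya57 za40) (ka xa10 ya55 za44) (ka xa8 ya57 za42) (ka xa8 ya57 za43) (ka xa10 ya55 za50) (ka xa5 ya28 za59) (ka xa10 ya55 za57) (ka xa2 ya42 za22) (ka xa2 ya42 za23) (ka xa2 ya42 za24) (ka xa2 ya42 za25) (ka xa2 ya42 za26) (ka xa10 ya56 za7) (ka xa10 ya56 za10) (ka xa8 ya57 za0) (ka xa8 ya57 za3) (ka xa8 ya57 za2) (ka xa2 ya42 za21) (ka xa10 ya56 za16) (ka xa10 ya56 za17) (ka xa5 ya29 za58) (ka xa5 ya29 za55) (ka xa10 ya55 za60) (ka xa10 ya55 za61) (ka xa10 ya56 za0) (ka xa10 ya56 za1) (ka xa10 ya56 za2) (ka xa10 ya56 za3) (ka xa10 ya51 za56) (ka xa8 ya8 za51) (ka xa10 ya56 za4) (ka xa6 ya6 za1) (ka xa10 ya56 za54) (ka xa8 ya57 za23) (ka xa10 ya41 za19) (ka xa8 ya57 za20) (ka xa8 ya57 za21) (ka xa2 ya42 za30) (ka xa2 ya42 za31) (ka xa5 ya30 za27) (ka xa5 ya30 za23) (ka xa10 ya57 za2) (ka xa10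 ya57 za3) (ka xa10 ya57 za4) (ka xa10 ya57 za5) (ka xa9 ya48 za35) (ka xa10 ya53 za3) (ka xa6 ya47 za30) (ka xa10 ya57 za25) (ka xa10 ya57 za28) (ka xa8 ya58 za11) (ka xa8 ya54 za47) (ka xa8 ya59 za18) (ka xa10 ya53 za45) (ka xa8 ya58 za38) (ka xa8 ya58 za39) (ka xa8 ya58 za40) (ka xa8 ya58 za36) (ka xa8 ya58 za37) (ka xa2 ya42 za43)) (@D3.rec (fun _ => Pt) (ka xa2 ya42 za44) (ka xa2 ya42 za45) (ka xa8 ya58 za45) (ka xa8 ya58 za44) (ka xa10 ya57 za49) (ka xa10 ya57 za50) (ka xa5 ya36 za51) (ka xa5 ya36 za47) (ka xa10 ya57 za51) (ka xa10 ya57 za52) (ka xa6 ya3 za49) (ka xa10 ya57 za53) (ka xa10 ya57 za54) (ka xa10 ya57 za55) (ka xa8 ya59 za1) (ka xa5 ya28 za44) (ka xa10 ya58 za30) (ka xa5 ya28 za31) (ka xa8 ya58 za28) (ka xa8 ya58 za29) (ka xa8 ya58 za30) (ka xa8 ya58 za31) (ka xa8 ya58 za32) (ka xa8 ya58 za33) (ka xa8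 ya58 za34) (ka xa8 ya59 za8) (ka xa8 ya58 za19) (ka xa8 ya58 za20) (ka xa10 ya58 za54) (ka xa8 ya58 za15) (ka xa8 ya58 za16) (ka xa8 ya58 za17) (ka xa2 ya42 za54) (ka xa2 ya42 za55) (ka xa2 ya42 za56) (ka xa8 ya8 za55) (ka xa8 ya8 za54) (ka xa10 ya59 za2) (ka xa5 ya39 za29) (ka xa5 ya39 za25) (ka xa10 ya59 za3) (ka xa9 ya30 za23) (ka xa9 ya30 za60) (ka xa10 ya59 za4) (ka xa5 ya59 za6) (ka xa2 ya43 za13) (ka xa10 ya57 za32) (ka xa2 ya43 za0) (ka xa2 ya43 za1) (ka xa2 ya43 za2) (ka xa8 ya58 za18) (ka xa2 ya42 za61) (ka xa7 ya58 za32) (ka xa10 ya59 za40) (ka xa10 ya59 za41) (ka xa10 ya58 za53) (ka xa10 ya39 za52) (ka xa10 ya59 za32) (ka xa10 ya59 za59) (ka xa10 ya59 za33) (ka xa10 ya59 za34) (ka xa2 ya43 za5)) (@D3.rec (fun _ => Pt) (ka xa5 ya28 za42) (ka xa10 ya59 za35) (ka xa10 ya59 za36) (ka xa2 ya43 za6) (ka xa5 ya45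 za15) (ka xa10 ya59 za37) (ka xa10 ya55 za43) (ka xa2 ya43 za7) (ka xa8 ya58 za35) (ka xa2 ya43 za4) (ka xa11 ya0 za26) (ka xa11 ya0 za27) (ka xa11 ya0 za28) (ka xa10 ya39 za2) (ka xa11 ya0 za5) (ka xa11 ya0 za10) (ka xa11 ya0 za18) (ka xa11 ya0 za21) (ka xa8 ya58 za13) (ka xa4 ya36 za18) (ka xa10 ya57 za27) (ka xa2 ya43 za11) (ka xa2 ya43 za12) (ka xa11 ya0 za58) (ka xa9 ya4 za50) (ka xa9 ya4 za49) (ka xa9 ya4 za48) (ka xa9 ya4 za0) (ka xa9 ya3 za61) (ka xa11 ya0 za53) (ka xa11 ya0 za54) (ka xa11 ya0 za55) (ka xa11 ya0 za56) (ka xa11 ya0 za57) (ka xa10 ya45 za47) (ka xa10 ya45 za46) (ka xa10 ya59 za28) (ka xa2 ya43 za14) (ka xa11 ya1 za34) (ka xa2 ya43 za15) (ka xa11 ya1 za38) (ka xa8 ya59 za22) (ka xa5 ya49 za56) (ka xa5 ya49 za55) (ka xa8 ya59 za35) (ka xa11 ya1 za48) (ka xa6 ya25 za27) (ka xa8 ya59 za37) (ka xa11 ya1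 za57) (ka xa6 ya25 za28) (ka xa8 ya59 za39) (ka xa10 ya57 za42) (ka xa5 ya55 za28) (ka xa8 ya59 za41) (ka xa10 ya59 za1) (ka xa5 ya55 za27) (ka xa8 ya59 za43) (ka xa8 ya59 za44) (ka xa8 ya59 za45) (ka xa8 ya59 za46) (ka xa10 ya46 za2) (ka xa10 ya46 za3)) (@D3.rec (fun _ => Pt) (ka xa10 ya46 za4) (ka xa10 ya54 za53) (ka xa8 ya59 za51) (ka xa5 ya26 za5) (ka xa8 ya59 za52) (ka xa10 ya50 za0) (ka xa10 ya50 za1) (ka xa10 ya50 za2) (ka xa10 ya57 za0) (ka xa8 ya34 za50) (ka xa8 ya59 za56) (ka xa8 ya17 za8) (ka xa4 ya56 za2) (ka xa5 ya23 za23) (ka xa11 ya2 za37) (ka xa9 ya0 za30) (ka xa9 ya0 za31) (ka xa7 ya59 za5) (ka xa11 ya2 za47) (ka xa2 ya43 za48) (ka xa2 ya43 za49) (ka xa2 ya43 za50) (ka xa2 ya43 za51) (ka xa2 ya43 za53) (ka xa8 ya17 za10) (ka xa11 ya2 za61) (ka xa9 ya0 za37) (ka xa9 ya0 za38) (ka xa8 ya37 za40) (ka xa9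 ya0 za39) (ka xa9 ya0 za40) (ka xa4 ya27 za51) (ka xa9 ya41 za0) (ka xa11 ya3 za17) (ka xa9 ya0 za33) (ka xa9 ya0 za34) (ka xa6 ya7 za16) (ka xa6 ya7 za15) (ka xa11 ya3 za27) (ka xa9 ya0 za45) (ka xa9 ya0 za46) (ka xa11 ya3 za36) (ka xa9 ya0 za42) (ka xa9 ya0 za43) (ka xa9 ya0 za48) (ka xa9 ya0 za47) (ka xa2 ya43 za47) (ka xa11 ya3 za47) (ka xa9 ya10 za52) (ka xa9 ya0 za52) (ka xa8 ya39 za32) (ka xa4 ya31 za26) (ka xa11 ya2 za49) (ka xa10 ya47 za25) (ka xa11 ya2 za50) (ka xa11 ya2 za51) (ka xa11 ya2 za52) (ka xa8 ya17 za14) (ka xa11 ya2 za53) (ka xa8 ya37 za45) (ka xa9 ya41 za4) (ka xa11 ya2 za54)) (@D3.rec (fun _ => Pt) (ka xa11 ya2 za55) (ka xa9 ya33 za25) (ka xa9 ya33 za26) (ka xa8 ya7 za3) (ka xa9 ya33 za27) (ka xa5 ya15 za16) (ka xa5 ya1 za30) (ka xa5 ya1 za28) (ka xa8 ya13 za10) (ka xa4 ya19 za42) (ka xa8 ya6 za33)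 (ka xa8 ya7 za2) (ka xa9 ya57 za18) (ka xa9 ya41 za14) (ka xa9 ya41 za15) (ka xa9 ya41 za16) (ka xa9 ya41 za17) (ka xa9 ya41 za18) (ka xa5 ya28 za57) (ka xa5 ya28 za56) (ka xa2 ya44 za2) (ka xa9 ya46 za49) (ka xa5 ya28 za37) (ka xa5 ya28 za38) (ka xa5 ya28 za54) (ka xa5 ya28 za55) (ka xa8 ya9 za37) (ka xa4 ya56 za32) (ka xa2 ya44 za8) (ka xa2 ya44 za9) (ka xa4 ya3 za40) (ka xa11 ya5 za9) (ka xa11 ya5 za1) (ka xa11 ya5 za2) (ka xa4 ya6 za31) (ka xa11 ya5 za3) (ka xa11 ya5 za4) (ka xa5 ya28 za48) (ka xa5 ya28 za47) (ka xa2 ya44 za10) (ka xa11 ya5 za25) (ka xa5 ya26 za21) (ka xa5 ya29 za1) (ka xa5 ya26 za19) (ka xa8 ya9 za43) (ka xa10 ya47 za1) (ka xa9 ya1 za3) (ka xa5 ya33 za7) (ka xa9 ya1 za4) (ka xa11 ya1 za46) (ka xa9 ya1 za0) (ka xa5 ya33 za6) (ka xa9 ya1 za1) (ka xa9 ya41 za36) (ka xa8 ya11 za14) (ka xa7 ya58 za1) (ka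 xa2 ya44 za20) (ka xa11 ya5 za60) (ka xa11 ya5 za61) (ka xa4 ya56 za29) (ka xa6 ya7 za9) (ka xa9 ya41 za37)) (@D3.rec (fun _ => Pt) (ka xa8 ya11 za59) (ka xa8 ya11 za37) (ka xa5 ya3 za2) (ka xa2 ya44 za27) (ka xa10 ya15 za34) (ka xa8 ya42 za48) (ka xa8 ya42 za47) (ka xa2 ya44 za28) (ka xa10 ya39 za37) (ka xa8 ya37 za1) (ka xa8 ya37 za2) (ka xa6 ya9 za5) (ka xa8 ya45 za38) (ka xa2 ya44 za33) (ka xa10 ya39 za30) (ka xa11 ya6 za19) (ka xa5 ya42 za10) (ka xa5 ya42 za11) (ka xa3 ya0 za43) (ka xa6 ya7 za59) (ka xa5 ya37 za54) (ka xa5 ya43 za26) (ka xa5 ya43 za27) (ka xa5 ya42 za4) (ka xa5 ya42 za5) (ka xa5 ya42 za6) (ka xa6 ya15 za29) (ka xa2 ya49 za27) (ka xa2 ya49 za26) (ka xa9 ya0 za9) (ka xa2 ya44 za43) (ka xa11 ya6 za37) (ka xa11 ya6 za38) (ka xa5 ya0 za21) (ka xa5 ya40 za44) (ka xa5 ya40 za45) (ka xa8 ya37 za42) (ka xa6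 ya17 za6) (ka xa9 ya1 za18) (ka xa8 ya12 za22) (ka xa2 ya44 za49) (ka xa6 ya14 za30) (ka xa5 ya46 za52) (ka xa6 ya14 za31) (ka xa3 ya59 za3) (ka xa3 ya58 za60) (ka xa11 ya6 za47) (ka xa5 ya40 za38) (ka xa5 ya40 za39) (ka xa5 ya40 za40) (ka xa8 ya37 za41) (ka xa2 ya44 za51) (ka xa11 ya7 za3) (ka xa11 ya7 za4) (ka xa5 ya37 za20) (ka xa6 ya15 za36) (ka xa9 ya1 za21) (ka xa6 ya7 za27) (ka xa5 ya40 za27) (ka xa5 ya40 za28) (ka xa9 ya0 za8) (ka xa2 ya44 za55)) (@D3.rec (fun _ => Pt) (ka xa11 ya7 za17) (ka xa6 ya15 za37) (ka xa5 ya40 za24) (ka xa5 ya40 za25) (ka xa2 ya45 za0) (ka xa2 ya45 za1) (ka xa2 ya45 za2) (ka xa2 ya45 za3) (ka xa11 ya7 za31) (ka xa9 ya1 za26) (ka xa9 ya1 za27) (ka xa9 ya45 za14) (ka xa9 ya1 za23) (ka xa9 ya1 za24) (ka xa8 ya47 za53) (ka xa8 ya49 za9) (ka xa11 ya7 za25) (ka xa8 ya49 za29) (ka xa11 ya7 za26)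 (ka xa11 ya7 za27) (ka xa8 ya49 za26) (ka xa11 ya8 za0) (ka xa6 ya16 za22) (ka xa4 ya34 za61) (ka xa11 ya8 za6) (ka xa11 ya7 za30) (ka xa4 ya34 za60) (ka xa9 ya51 za11) (ka xa6 ya4 za11) (ka xa9 ya45 za55) (ka xa9 ya0 za22) (ka xa9 ya0 za23) (ka xa9 ya0 za25) (ka xa9 ya0 za26) (ka xa4 ya7 za14) (ka xa2 ya45 za9) (ka xa2 ya45 za10) (ka xa11 ya8 za20) (ka xa11 ya8 za21) (ka xa8 ya13 za48) (ka xa6 ya7 za29) (ka xa9 ya17 za49) (ka xa4 ya25 za35) (ka xa4 ya39 za48) (ka xa2 ya45 za16) (ka xa10 ya15 za24) (ka xa10 ya4 za55) (ka xa10 ya4 za56) (ka xa5 ya14 za26) (ka xa5 ya0 za10) (ka xa5 ya50 za14) (ka xa9 ya41 za6) (ka xa4 ya14 za54) (ka xa9 ya41 za43) (ka xa11 ya8 za41) (ka xa8 ya9 za42) (ka xa8 ya9 za44) (ka xa9 ya41 za7) (ka xa11 ya8 za50) (ka xa8 ya9 za36) (ka xa8 ya9 za38) (ka xa8 ya9 za39)) (@D3.rec (fun _ => Pt) (ka xa11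 ya8 za60) (ka xa8 ya7 za27) (ka xa11 ya9 za4) (ka xa8 ya7 za22) (ka xa8 ya9 za46) (ka xa8 ya9 za45) (ka xa2 ya45 za31) (ka xa11 ya9 za13) (ka xa8 ya8 za0) (ka xa8 ya8 za3) (ka xa8 ya10 za9) (ka xa8 ya10 za10) (ka xa9 ya41 za47) (ka xa8 ya10 za12) (ka xa8 ya10 za14) (ka xa9 ya41 za51) (ka xa8 ya10 za16) (ka xa8 ya10 za17) (ka xa8 ya10 za18) (ka xa8 ya10 za19) (ka xa8 ya10 za20) (ka xa11 ya9 za45) (ka xa8 ya10 za22) (ka xa10 ya51 za12) (ka xa9 ya0 za0) (ka xa5 ya33 za39) (ka xa9 ya0 za1) (ka xa11 ya9 za61) (ka xa8 ya59 za59) (ka xa5 ya33 za38) (ka xa8 ya59 za60) (ka xa2 ya45 za43) (ka xa11 ya10 za10) (ka xa11 ya10 za11) (ka xa11 ya10 za12) (ka xa11 ya10 za13) (ka xa9 ya1 za10) (ka xa9 ya1 za11) (ka xa9 ya1 za12) (ka xa7 ya58 za9) (ka xa2 ya45 za46) (ka xa11 ya10 za28) (ka xa11 ya10 za29) (ka xa11 ya10 za36) (ka xa5 ya30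 za41) (ka xa5 ya30 za42) (ka xa9 ya42 za1) (ka xa5 ya30 za44) (ka xa8 ya24 za13) (ka xa5 ya30 za56) (ka xa8 ya11 za58) (ka xa8 ya25 za22) (ka xa5 ya30 za57) (ka xa3 ya19 za18) (ka xa8 ya22 za25) (ka xa8 ya24 za56) (ka xa2 ya45 za55) (ka xa2 ya45 za56) (ka xa11 ya10 za48) (ka xa5 ya40 za55) (ka xa5 ya40 za56) (ka xa2 ya45 za61)) (@D3.rec (fun _ => Pt) (ka xa2 ya46 za0) (ka xa9 ya45 za31) (ka xa9 ya0 za14) (ka xa9 ya0 za15) (ka xa9 ya45 za19) (ka xa9 ya0 za11) (ka xa9 ya0 za12) (ka xa9 ya0 za17) (ka xa9 ya0 za16) (ka xa2 ya46 za33) (ka xa11 ya10 za55) (ka xa11 ya10 za56) (ka xa10 ya19 za0) (ka xa8 ya49 za24) (ka xa3 ya44 za10) (ka xa5 ya52 za18) (ka xa9 ya1 za28) (ka xa2 ya46 za5) (ka xa5 ya41 za18) (ka xa4 ya32 za54) (ka xa5 ya43 za38) (ka xa2 ya46 za12) (ka xa2 ya46 za13) (ka xa11 ya11 za25) (ka xa5 ya38 za2) (ka xa5 ya38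 za3) (ka xa9 ya45 za15) (ka xa5 ya37 za58) (ka xa5 ya37 za59) (ka xa9 ya1 za44) (ka xa9 ya1 za43) (ka xa11 ya11 za21) (ka xa4 ya26 za23) (ka xa11 ya11 za22) (ka xa11 ya11 za23) (ka xa11 ya11 za24) (ka xa9 ya45 za22) (ka xa9 ya45 za23) (ka xa5 ya37 za47) (ka xa5 ya37 za48) (ka xa5 ya37 za49) (ka xa2 ya46 za16) (ka xa11 ya11 za61) (ka xa11 ya12 za0) (ka xa5 ya37 za34) (ka xa5 ya37 za35) (ka xa9 ya1 za34) (ka xa11 ya12 za7) (ka xa9 ya1 za36) (ka xa9 ya1 za37) (ka xa9 ya1 za30) (ka xa9 ya1 za31) (ka xa9 ya1 za29) (ka xa9 ya1 za32) (ka xa9 ya45 za35) (ka xa5 ya39 za59) (ka xa5 ya39 za60) (ka xa5 ya46 za59) (ka xa11 ya12 za30) (ka xa2 ya46 za34) (ka xa8 ya43 za51) (ka xa9 ya1 za38)) (@D3.rec (fun _ => Pt) (ka xa5 ya43 za20) (ka xa9 ya1 za39) (ka xa11 ya11 za5) (ka xa11 ya12 za31) (ka xa11 ya12 za32) (ka xa5 ya49 za7) (ka xa11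 ya12 za20) (ka xa11 ya12 za44) (ka xa5 ya31 za52) (ka xa9 ya45 za43) (ka xa5 ya31 za53) (ka xa5 ya31 za54) (ka xa9 ya1 za54) (ka xa9 ya1 za55) (ka xa9 ya1 za56) (ka xa2 ya46 za40) (ka xa5 ya54 za22) (ka xa2 ya46 za41) (ka xa5 ya40 za18) (ka xa2 ya55 za48) (ka xa7 ya59 za14) (ka xa9 ya2 za27) (ka xa8 ya0 za11) (ka xa9 ya2 za28) (ka xa9 ya2 za29) (ka xa9 ya2 za30) (ka xa7 ya59 za13) (ka xa9 ya2 za60) (ka xa9 ya2 za23) (ka xa9 ya2 za24) (ka xa9 ya2 za25) (ka xa3 ya57 za23) (ka xa2 ya46 za53) (ka xa2 ya46 za57) (ka xa2 ya46 za58) (ka xa4 ya31 za47) (ka xa9 ya2 za35) (ka xa4 ya25 za5) (ka xa4 ya23 za1) (ka xa9 ya2 za34) (ka xa6 ya14 za20) (ka xa9 ya2 za36) (ka xa11 ya13 za13) (ka xa11 ya13 za14) (ka xa3 ya57 za31) (ka xa9 ya2 za61) (ka xa3 ya57 za28) (ka xa9 ya2 za41) (ka xa9 ya2 za42) (ka xa6 ya15 za54) (ka xa9 ya2 za39) (ka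 xa9 ya2 za40) (ka xa6 ya15 za33) (ka xa9 ya2 za43) (ka xa11 ya13 za16) (ka xa11 ya13 za17) (ka xa11 ya13 za18) (ka xa11 ya13 za19) (ka xa9 ya3 za1) (ka xa11 ya13 za20) (ka xa7 ya59 za12) (ka xa9 ya2 za26)) (@D3.rec (fun _ => Pt) (ka xa9 ya3 za0) (ka xa6 ya15 za52) (ka xa6 ya25 za21) (ka xa6 ya25 za19) (ka xa5 ya37 za23) (ka xa5 ya37 za24) (ka xa5 ya37 za25) (ka xa2 ya47 za2) (ka xa11 ya14 za29) (ka xa11 ya14 za30) (ka xa5 ya37 za16) (ka xa5 ya37 za17) (ka xa9 ya3 za14) (ka xa9 ya2 za15) (ka xa11 ya14 za42) (ka xa9 ya2 za17) (ka xa9 ya2 za18) (ka xa9 ya2 za19) (ka xa9 ya2 za20) (ka xa6 ya43 za60) (ka xa9 ya2 za21) (ka xa5 ya43 za22) (ka xa5 ya46 za60) (ka xa11 ya14 za60) (ka xa6 ya9 za3) (ka xa5 ya46 za56) (ka xa5 ya46 za57) (ka xa9 ya1 za60) (ka xa9 ya1 za61) (ka xa9 ya2 za0) (ka xa5 ya43 za18) (ka xa9 ya1 za57) (ka xa9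 ya1 za58) (ka xa9 ya1 za59) (ka xa2 ya47 za21) (ka xa2 ya47 za25) (ka xa2 ya47 za26) (ka xa2 ya47 za28) (ka xa7 ya7 za8) (ka xa4 ya31 za56) (ka xa8 ya42 za57) (ka xa8 ya42 za56) (ka xa8 ya43 za37) (ka xa8 ya43 za36) (ka xa11 ya15 za19) (ka xa7 ya7 za37) (ka xa7 ya7 za35) (ka xa7 ya7 za6) (ka xa9 ya2 za3) (ka xa9 ya2 za4) (ka xa3 ya0 za45) (ka xa5 ya46 za50) (ka xa3 ya2 za32) (ka xa9 ya2 za6) (ka xa9 ya2 za5) (ka xa11 ya15 za21) (ka xa11 ya15 za22) (ka xa11 ya15 za23) (ka xa11 ya15 za24) (ka xa11 ya15 za25) (ka xa11 ya15 za26) (ka xa8 ya43 za60)) (@D3.rec (fun _ => Pt) (ka xa4 ya34 za16) (ka xa11 ya15 za27) (ka xa11 ya16 za23) (ka xa9 ya3 za21) (ka xa9 ya2 za54) (ka xa9 ya2 za55) (ka xa9 ya2 za56) (ka xa11 ya16 za30) (ka xa4 ya37 za23) (ka xa5 ya49 za45) (ka xa2 ya48 za14) (ka xa2 ya48 za18) (ka xa2 ya48 za20) (ka xa5 ya43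 za21) (ka xa2 ya47 za46) (ka xa2 ya47 za47) (ka xa5 ya43 za23) (ka xa5 ya43 za24) (ka xa5 ya42 za30) (ka xa4 ya31 za48) (ka xa5 ya41 za0) (ka xa5 ya43 za13) (ka xa5 ya42 za21) (ka xa5 ya43 za16) (ka xa5 ya43 za17) (ka xa2 ya47 za54) (ka xa5 ya37 za21) (ka xa5 ya37 za22) (ka xa11 ya16 za40) (ka xa11 ya10 za49) (ka xa8 ya36 za20) (ka xa11 ya16 za42) (ka xa11 ya16 za43) (ka xa2 ya47 za56) (ka xa9 ya2 za14) (ka xa11 ya14 za41) (ka xa2 ya47 za57) (ka xa2 ya47 za59) (ka xa5 ya40 za20) (ka xa2 ya47 za52) (ka xa2 ya47 za53) (ka xa11 ya7 za10) (ka xa11 ya17 za18) (ka xa5 ya7 za38) (ka xa11 ya17 za19) (ka xa11 ya11 za54) (ka xa11 ya16 za54) (ka xa5 ya43 za57) (ka xa11 ya17 za36) (ka xa9 ya36 za41) (ka xa11 ya17 za13) (ka xa9 ya2 za53) (ka xa11 ya17 za16) (ka xa11 ya16 za22) (ka xa3 ya5 za29) (ka xa4 ya34 za14) (ka xa3 ya3 za60)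 (ka xa5 ya43 za47) (ka xa11 ya12 za51) (ka xa2 ya48 za4) (ka xa2 ya48 za5) (ka xa6 ya8 za52)) (@D3.rec (fun _ => Pt) (ka xa2 ya48 za7) (ka xa2 ya48 za8) (ka xa2 ya48 za9) (ka xa2 ya48 za10) (ka xa11 ya18 za9) (ka xa2 ya48 za12) (ka xa2 ya48 za13) (ka xa2 ya48 za15) (ka xa2 ya48 za16) (ka xa2 ya48 za17) (ka xa2 ya48 za3) (ka xa4 ya57 za34) (ka xa11 ya18 za26) (ka xa11 ya17 za54) (ka xa11 ya17 za55) (ka xa8 ya25 za25) (ka xa11 ya17 za57) (ka xa11 ya17 za58) (ka xa9 ya4 za34) (ka xa11 ya17 za59) (ka xa11 ya17 za60) (ka xa11 ya17 za61) (ka xa2 ya48 za6) (ka xa11 ya18 za52) (ka xa8 ya25 za27) (ka xa11 ya18 za0) (ka xa9 ya4 za45) (ka xa3 ya13 za45) (ka xa7 ya26 za50) (ka xa11 ya19 za1) (ka xa7 ya59 za33) (ka xa11 ya18 za2) (ka xa11 ya18 za3) (ka xa11 ya19 za10) (ka xa11 ya6 za36) (ka xa11 ya18 za5) (ka xa11 ya18 za6) (ka xa8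 ya59 za26) (ka xa8 ya59 za25) (ka xa2 ya48 za11) (ka xa11 ya19 za22) (ka xa11 ya19 za23) (ka xa11 ya18 za12) (ka xa11 ya18 za13) (ka xa9 ya46 za5) (ka xa11 ya18 za14) (ka xa9 ya46 za3) (ka xa11 ya18 za15) (ka xa11 ya18 za16) (ka xa11 ya18 za17) (ka xa11 ya18 za18) (ka xa11 ya16 za33) (ka xa11 ya19 za56) (ka xa11 ya18 za20) (ka xa11 ya18 za21) (ka xa11 ya18 za22) (ka xa11 ya20 za9) (ka xa11 ya18 za24) (ka xa9 ya17 za10) (ka xa11 ya18 za25) (ka xa11 ya16 za37) (ka xa11 ya16 za34)) (@D3.rec (fun _ => Pt) (ka xa11 ya16 za35) (ka xa11 ya16 za36) (ka xa2 ya55 za50) (ka xa2 ya56 za54) (ka xa2 ya56 za57) (ka xa2 ya56 za56) (ka xa11 ya16 za38) (ka xa2 ya48 za22) (ka xa2 ya48 za23) (ka xa9 ya4 za42) (ka xa9 ya4 za41) (ka xa11 ya20 za43) (ka xa11 ya20 za44) (ka xa11 ya20 za45) (ka xa11 ya20 za46) (ka xa5 ya34 za4) (ka xa11 ya20 za47)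 (ka xa9 ya3 za45) (ka xa9 ya4 za35) (ka xa9 ya4 za36) (ka xa9 ya4 za37) (ka xa9 ya4 za38) (ka xa2 ya48 za29) (ka xa2 ya48 za30) (ka xa9 ya4 za28) (ka xa9 ya4 za27) (ka xa11 ya21 za12) (ka xa11 ya21 za13) (ka xa11 ya21 za14) (ka xa11 ya21 za15) (ka xa9 ya25 za13) (ka xa11 ya21 za16) (ka xa9 ya3 za51) (ka xa5 ya50 za0) (ka xa9 ya4 za46) (ka xa8 ya59 za23) (ka xa5 ya49 za51) (ka xa8 ya59 za21) (ka xa2 ya48 za37) (ka xa11 ya21 za42) (ka xa11 ya1 za50) (ka xa11 ya21 za43) (ka xa11 ya21 za44) (ka xa11 ya21 za53) (ka xa9 ya4 za57) (ka xa9 ya4 za58) (ka xa11 ya21 za59) (ka xa5 ya55 za22) (ka xa9 ya4 za59) (ka xa9 ya5 za7) (ka xa2 ya48 za42) (ka xa11 ya22 za2) (ka xa11 ya22 za3) (ka xa10 ya6 za56) (ka xa4 ya57 za51) (ka xa11 ya22 za14) (ka xa9 ya5 za3) (ka xa9 ya5 za4) (ka xa6 ya3 za3) (ka xa6 ya25 za44) (ka xa9 ya5 za5) (ka xa6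 ya11 za55)) (@D3.rec (fun _ => Pt) (ka xa9 ya5 za6) (ka xa9 ya4 za60) (ka xa2 ya48 za46) (ka xa11 ya22 za22) (ka xa11 ya22 za23) (ka xa11 ya22 za24) (ka xa11 ya22 za36) (ka xa9 ya5 za13) (ka xa9 ya5 za14) (ka xa6 ya26 za59) (ka xa11 ya13 za0) (ka xa4 ya56 za24) (ka xa9 ya5 za16) (ka xa9 ya5 za17) (ka xa11 ya5 za46) (ka xa4 ya56 za25) (ka xa9 ya5 za19) (ka xa9 ya5 za20) (ka xa9 ya5 za21) (ka xa9 ya5 za22) (ka xa6 ya4 za1) (ka xa11 ya22 za61) (ka xa8 ya45 za24) (ka xa4 ya39 za35) (ka xa2 ya48 za58) (ka xa2 ya48 za59) (ka xa11 ya23 za2) (ka xa11 ya23 za3) (ka xa11 ya6 za10) (ka xa10 ya16 za12) (ka xa11 ya13 za29) (ka xa4 ya56 za58) (ka xa6 ya14 za22) (ka xa6 ya14 za23) (ka xa6 ya14 za24) (ka xa6 ya14 za25) (ka xa6 ya14 za4) (ka xa6 ya14 za5) (ka xa11 ya6 za49) (ka xa6 ya14 za7) (ka xa6 ya14 za26) (ka xa4 ya23 za10) (ka xa6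 ya14 za27) (ka xa6 ya14 za28) (ka xa6 ya15 za15) (ka xa8 ya46 za9) (ka xa6 ya15 za16) (ka xa3 ya9 za61) (ka xa4 ya39 za56) (ka xa3 ya58 za51) (ka xa5 ya42 za51) (ka xa6 ya9 za4) (ka xa5 ya37 za42) (ka xa9 ya3 za28) (ka xa6 ya9 za6) (ka xa6 ya9 za7) (ka xa5 ya42 za25) (ka xa5 ya42 za26) (ka xa11 ya24 za6) (ka xa5 ya40 za57) (ka xa5 ya42 za22) (ka xa6 ya4 za15)) (@D3.rec (fun _ => Pt) (ka xa2 ya49 za24) (ka xa2 ya49 za25) (ka xa2 ya49 za28) (ka xa6 ya8 za37) (ka xa11 ya24 za13) (ka xa11 ya24 za14) (ka xa11 ya24 za15) (ka xa11 ya24 za16) (ka xa11 ya24 za17) (ka xa6 ya17 za13) (ka xa4 ya57 za20) (ka xa4 ya57 za8) (ka xa5 ya51 za49) (ka xa5 ya51 za50) (ka xa11 ya24 za39) (ka xa6 ya15 za19) (ka xa6 ya15 za20) (ka xa6 ya15 za21) (ka xa6 ya15 za17) (ka xa2 ya49 za41) (ka xa2 ya49 za44) (ka xa2 ya49 za45) (ka xa4 ya0 za37) (ka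 xa3 ya57 za55) (ka xa9 ya4 za44) (ka xa11 ya24 za43) (ka xa3 ya59 za34) (ka xa3 ya59 za35) (ka xa4 ya58 za29) (ka xa3 ya59 za24) (ka xa3 ya59 za25) (ka xa5 ya8 za23) (ka xa5 ya51 za58) (ka xa11 ya24 za45) (ka xa11 ya24 za46) (ka xa11 ya24 za47) (ka xa11 ya24 za48) (ka xa5 ya51 za11) (ka xa5 ya51 za39) (ka xa5 ya52 za13) (ka xa5 ya51 za40) (ka xa5 ya51 za41) (ka xa3 ya24 za0) (ka xa6 ya15 za18) (ka xa2 ya49 za51) (ka xa3 ya59 za29) (ka xa11 ya25 za13) (ka xa5 ya49 za46) (ka xa6 ya15 za35) (ka xa4 ya41 za4) (ka xa5 ya51 za19) (ka xa6 ya4 za14) (ka xa2 ya49 za60) (ka xa2 ya49 za61) (ka xa6 ya24 za46) (ka xa4 ya25 za61) (ka xa11 ya25 za25) (ka xa4 ya7 za8) (ka xa9 ya39 za18) (ka xa11 ya25 za26) (ka xa9 ya5 za47) (ka xa5 ya12 za29)) (@D3.rec (fun _ => Pt) (ka xa9 ya5 za48) (ka xa5 ya51 za10) (ka xa5 ya51 za12) (ka xa5 ya7 za57)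 (ka xa5 ya51 za13) (ka xa5 ya7 za56) (ka xa3 ya19 za42) (ka xa2 ya50 za17) (ka xa2 ya50 za18) (ka xa2 ya50 za19) (ka xa2 ya50 za20) (ka xa2 ya50 za21) (ka xa11 ya25 za11) (ka xa2 ya50 za24) (ka xa2 ya50 za9) (ka xa11 ya26 za0) (ka xa9 ya47 za24) (ka xa7 ya1 za36) (ka xa6 ya51 za46) (ka xa6 ya53 za17) (ka xa9 ya5 za55) (ka xa6 ya54 za47) (ka xa9 ya24 za36) (ka xa11 ya25 za50) (ka xa11 ya25 za51) (ka xa11 ya25 za52) (ka xa11 ya26 za19) (ka xa11 ya25 za53) (ka xa11 ya25 za54) (ka xa9 ya24 za29) (ka xa9 ya49 za4) (ka xa7 ya45 za23) (ka xa11 ya25 za56) (ka xa6 ya47 za32) (ka xa11 ya25 za57) (ka xa11 ya25 za58) (ka xa7 ya51 za15) (ka xa11 ya25 za59) (ka xa2 ya50 za22) (ka xa4 ya24 za1) (ka xa11 ya26 za48) (ka xa6 ya16 za21) (ka xa4 ya32 za2) (ka xa11 ya25 za61) (ka xa4 ya57 za47) (ka xa11 ya26 za54) (ka xa10 ya5 za43) (ka xa10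 ya5 za40) (ka xa7 ya21 za24) (ka xa9 ya49 za20) (ka xa9 ya49 za21) (ka xa6 ya26 za36) (ka xa4 ya56 za22) (ka xa6 ya26 za33) (ka xa2 ya50 za29) (ka xa10 ya18 za4) (ka xa11 ya27 za10) (ka xa10 ya18 za3) (ka xa6 ya26 za60) (ka xa6 ya26 za61) (ka xa9 ya49 za22) (ka xa5 ya52 za47)) (@D3.rec (fun _ => Pt) (ka xa11 ya27 za23) (ka xa9 ya5 za39) (ka xa6 ya17 za7) (ka xa2 ya50 za37) (ka xa4 ya57 za25) (ka xa6 ya17 za10) (ka xa4 ya0 za46) (ka xa5 ya41 za5) (ka xa6 ya16 za60) (ka xa6 ya16 za61) (ka xa2 ya50 za42) (ka xa2 ya50 za43) (ka xa6 ya14 za47) (ka xa6 ya17 za3) (ka xa6 ya17 za2) (ka xa11 ya1 za7) (ka xa11 ya1 za5) (ka xa9 ya39 za19) (ka xa6 ya15 za28) (ka xa11 ya27 za33) (ka xa5 ya52 za39) (ka xa2 ya50 za46) (ka xa4 ya0 za50) (ka xa11 ya27 za44) (ka xa8 ya50 za1) (ka xa9 ya5 za43) (ka xa6 ya3 za22) (ka xa2 ya50 za49) (ka xa6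 ya16 za38) (ka xa11 ya27 za48) (ka xa11 ya27 za53) (ka xa6 ya3 za4) (ka xa6 ya3 za5) (ka xa11 ya27 za55) (ka xa4 ya26 za14) (ka xa9 ya5 za38) (ka xa9 ya5 za36) (ka xa9 ya5 za37) (ka xa6 ya14 za60) (ka xa7 ya14 za2) (ka xa6 ya14 za59) (ka xa4 ya42 za43) (ka xa4 ya33 za5) (ka xa9 ya17 za50) (ka xa11 ya28 za3) (ka xa5 ya43 za9) (ka xa5 ya47 za47) (ka xa6 ya8 za33) (ka xa2 ya51 za1) (ka xa2 ya51 za2) (ka xa11 ya28 za14) (ka xa5 ya45 za36) (ka xa6 ya8 za51) (ka xa5 ya57 za6) (ka xa4 ya26 za1) (ka xa5 ya34 za43) (ka xa5 ya34 za42) (ka xa6 ya3 za29) (ka xa5 ya52 za41) (ka xa2 ya51 za8) (ka xa4 ya58 za16) (ka xa11 ya28 za24)) (@D3.rec (fun _ => Pt) (ka xa5 ya45 za33) (ka xa11 ya28 za29) (ka xa5 ya52 za14) (ka xa2 ya51 za12) (ka xa2 ya55 za29) (ka xa11 ya28 za30) (ka xa11 ya28 za37) (ka xa5 ya52 za8) (ka xa4 ya41 za13) (ka xa5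 ya52 za10) (ka xa6 ya1 za53) (ka xa11 ya28 za42) (ka xa6 ya7 za49) (ka xa10 ya2 za45) (ka xa5 ya38 za50) (ka xa6 ya39 za12) (ka xa9 ya6 za6) (ka xa9 ya6 za7) (ka xa6 ya4 za7) (ka xa9 ya6 za9) (ka xa9 ya49 za27) (ka xa6 ya2 za44) (ka xa5 ya51 za57) (ka xa9 ya6 za4) (ka xa9 ya49 za39) (ka xa6 ya2 za45) (ka xa6 ya8 za57) (ka xa6 ya22 za1) (ka xa2 ya51 za25) (ka xa11 ya28 za52) (ka xa11 ya28 za53) (ka xa11 ya28 za54) (ka xa6 ya21 za40) (ka xa6 ya21 za41) (ka xa9 ya49 za38) (ka xa7 ya53 za6) (ka xa9 ya23 za45) (ka xa6 ya22 za4) (ka xa4 ya34 za44) (ka xa6 ya22 za6) (ka xa4 ya58 za37) (ka xa5 ya56 za34) (ka xa4 ya36 za49) (ka xa4 ya37 za24) (ka xa6 ya8 za13) (ka xa10 ya18 za53) (ka xa6 ya8 za25) (ka xa6 ya8 za23) (ka xa4 ya42 za45) (ka xa6 ya25 za32) (ka xa6 ya25 za33) (ka xa6 ya25 za34) (ka xa6 ya25 za35) (ka xa6 ya38 za57)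 (ka xa5 ya52 za16) (ka xa9 ya6 za10) (ka xa9 ya6 za11) (ka xa2 ya51 za41) (ka xa8 ya49 za23) (ka xa11 ya29 za24) (ka xa5 ya53 za25) (ka xa5 ya53 za26)) (@D3.rec (fun _ => Pt) (ka xa9 ya6 za14) (ka xa4 ya36 za53) (ka xa5 ya58 za36) (ka xa3 ya14 za49) (ka xa2 ya51 za59) (ka xa2 ya51 za60) (ka xa2 ya51 za61) (ka xa2 ya51 za50) (ka xa11 ya29 za42) (ka xa3 ya50 za32) (ka xa5 ya48 za1) (ka xa5 ya47 za37) (ka xa5 ya48 za2) (ka xa5 ya48 za4) (ka xa4 ya37 za9) (ka xa9 ya47 za25) (ka xa3 ya47 za25) (ka xa3 ya50 za34) (ka xa3 ya2 za60) (ka xa5 ya47 za50) (ka xa3 ya26 za49) (ka xa7 ya42 za4) (ka xa9 ya6 za22) (ka xa3 ya25 za39) (ka xa6 ya53 za15) (ka xa11 ya30 za16) (ka xa11 ya29 za37) (ka xa11 ya29 za38) (ka xa11 ya29 za39) (ka xa9 ya47 za27) (ka xa7 ya2 za13) (ka xa11 ya29 za41) (ka xa8 ya14 za37) (ka xa2 ya55 za51) (ka xa9 ya16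 za34) (ka xa9 ya47 za42) (ka xa6 ya21 za56) (ka xa9 ya47 za43) (ka xa9 ya47 za44) (ka xa5 ya47 za38) (ka xa5 ya47 za40) (ka xa5 ya47 za41) (ka xa2 ya52 za6) (ka xa2 ya52 za7) (ka xa4 ya36 za47) (ka xa11 ya30 za42) (ka xa6 ya16 za11) (ka xa11 ya30 za43) (ka xa10 ya5 za1) (ka xa5 ya47 za12) (ka xa5 ya47 za13) (ka xa6 ya50 za23) (ka xa9 ya47 za58) (ka xa4 ya45 za60) (ka xa6 ya30 za34) (ka xa6 ya30 za35) (ka xa6 ya30 za36) (ka xa5 ya50 za22) (ka xa5 ya47 za32) (ka xa2 ya52 za13) (ka xa11 ya31 za0) (ka xa6 ya30 za41)) (@D3.rec (fun _ => Pt) (ka xa6 ya27 za2) (ka xa3 ya13 za48) (ka xa2 ya52 za29) (ka xa2 ya52 za30) (ka xa2 ya52 za31) (ka xa2 ya52 za33) (ka xa9 ya48 za12) (ka xa11 ya31 za11) (ka xa5 ya50 za7) (ka xa3 ya2 za48) (ka xa5 ya50 za9) (ka xa9 ya47 za39) (ka xa11 ya31 za18) (ka xa5 ya47 za39) (ka xa5 ya50 za2) (ka xa10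 ya7 za11) (ka xa5 ya50 za54) (ka xa8 ya49 za55) (ka xa5 ya40 za15) (ka xa11 ya27 za47) (ka xa10 ya49 za8) (ka xa11 ya31 za5) (ka xa11 ya31 za6) (ka xa9 ya48 za15) (ka xa11 ya31 za7) (ka xa4 ya56 za20) (ka xa8 ya14 za41) (ka xa9 ya48 za22) (ka xa10 ya48 za33) (ka xa10 ya57 za24) (ka xa10 ya48 za37) (ka xa9 ya14 za44) (ka xa9 ya14 za45) (ka xa9 ya14 za43) (ka xa9 ya14 za46) (ka xa9 ya48 za19) (ka xa6 ya3 za30) (ka xa5 ya30 za46) (ka xa9 ya48 za24) (ka xa5 ya49 za20) (ka xa9 ya14 za7) (ka xa5 ya49 za58) (ka xa6 ya30 za20) (ka xa2 ya52 za37) (ka xa11 ya31 za48) (ka xa11 ya31 za49) (ka xa6 ya30 za5) (ka xa5 ya48 za61) (ka xa9 ya48 za34) (ka xa9 ya48 za36) (ka xa5 ya0 za13) (ka xa6 ya30 za25) (ka xa11 ya31 za60) (ka xa9 ya48 za37) (ka xa9 ya6 za53) (ka xa8 ya0 za13) (ka xa5 ya29 za16) (ka xa2 ya52 za47) (ka xa5 ya54 za6) (ka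 xa8 ya12 za33) (ka xa9 ya6 za59) (ka xa11 ya32 za4)) (@D3.rec (fun _ => Pt) (ka xa9 ya6 za57) (ka xa9 ya6 za56) (ka xa9 ya48 za40) (ka xa9 ya48 za41) (ka xa2 ya52 za50) (ka xa7 ya34 za56) (ka xa11 ya32 za17) (ka xa9 ya48 za42) (ka xa2 ya56 za1) (ka xa2 ya52 za56) (ka xa6 ya7 za58) (ka xa9 ya7 za5) (ka xa11 ya32 za25) (ka xa9 ya8 za53) (ka xa6 ya7 za48) (ka xa8 ya49 za30) (ka xa8 ya3 za33) (ka xa8 ya47 za48) (ka xa8 ya47 za49) (ka xa2 ya57 za61) (ka xa9 ya10 za50) (ka xa9 ya10 za51) (ka xa8 ya27 za48) (ka xa5 ya26 za41) (ka xa5 ya26 za39) (ka xa5 ya50 za60) (ka xa5 ya50 za61) (ka xa6 ya15 za39) (ka xa7 ya59 za56) (ka xa8 ya2 za25) (ka xa9 ya7 za59) (ka xa4 ya44 za49) (ka xa9 ya8 za3) (ka xa9 ya8 za4) (ka xa9 ya8 za0) (ka xa9 ya8 za6) (ka xa5 ya27 za10) (ka xa2 ya57 za50) (ka xa2 ya57 za51) (ka xa2 ya57 za58) (ka xa9 ya8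 za9) (ka xa7 ya59 za55) (ka xa8 ya0 za27) (ka xa9 ya9 za23) (ka xa9 ya7 za60) (ka xa9 ya7 za61) (ka xa6 ya50 za34) (ka xa4 ya44 za32) (ka xa9 ya8 za2) (ka xa3 ya57 za48) (ka xa3 ya38 za35) (ka xa2 ya53 za31) (ka xa2 ya53 za32) (ka xa2 ya53 za34) (ka xa2 ya53 za35) (ka xa2 ya53 za36) (ka xa2 ya53 za44) (ka xa2 ya53 za46) (ka xa2 ya53 za47) (ka xa2 ya53 za50) (ka xa2 ya53 za51) (ka xa2 ya53 za52)) (@D3.rec (fun _ => Pt) (ka xa2 ya53 za53) (ka xa2 ya53 za54) (ka xa2 ya53 za55) (ka xa4 ya33 za58) (ka xa9 ya8 za25) (ka xa9 ya8 za26) (ka xa5 ya52 za58) (ka xa9 ya8 za23) (ka xa9 ya8 za24) (ka xa6 ya14 za33) (ka xa6 ya14 za34) (ka xa6 ya0 za41) (ka xa6 ya14 za29) (ka xa6 ya15 za59) (ka xa4 ya44 za47) (ka xa11 ya33 za35) (ka xa11 ya33 za36) (ka xa11 ya33 za37) (ka xa11 ya33 za38) (ka xa11 ya33 za39) (ka xa4 ya35 za33) (ka xa10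 ya18 za24) (ka xa5 ya41 za16) (ka xa11 ya33 za40) (ka xa8 ya10 za39) (ka xa11 ya33 za41) (ka xa8 ya10 za36) (ka xa6 ya15 za45) (ka xa6 ya16 za4) (ka xa3 ya0 za46) (ka xa6 ya16 za6) (ka xa6 ya16 za7) (ka xa8 ya0 za0) (ka xa9 ya9 za29) (ka xa4 ya34 za45) (ka xa3 ya23 za31) (ka xa6 ya15 za47) (ka xa3 ya2 za36) (ka xa6 ya15 za49) (ka xa6 ya15 za50) (ka xa9 ya22 za31) (ka xa6 ya0 za40) (ka xa9 ya8 za40) (ka xa6 ya51 za2) (ka xa6 ya1 za49) (ka xa9 ya8 za39) (ka xa8 ya0 za1) (ka xa9 ya8 za41) (ka xa4 ya44 za46) (ka xa5 ya7 za37) (ka xa10 ya5 za14) (ka xa11 ya33 za42) (ka xa3 ya46 za22) (ka xa5 ya5 za55) (ka xa11 ya33 za43) (ka xa11 ya33 za44) (ka xa3 ya5 za24) (ka xa7 ya59 za60) (ka xa6 ya7 za36) (ka xa4 ya20 za37) (ka xa11 ya33 za45) (ka xa11 ya33 za46)) (@D3.rec (fun _ => Pt) (ka xa11 ya33 za47) (ka xa10 ya6 za19) (ka xa11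 ya33 za48) (ka xa11 ya13 za55) (ka xa11 ya33 za49) (ka xa11 ya33 za50) (ka xa8 ya12 za46) (ka xa11 ya35 za45) (ka xa11 ya33 za52) (ka xa8 ya12 za42) (ka xa11 ya33 za53) (ka xa9 ya10 za11) (ka xa6 ya49 za32) (ka xa6 ya2 za31) (ka xa6 ya26 za1) (ka xa6 ya2 za41) (ka xa2 ya55 za36) (ka xa6 ya50 za6) (ka xa6 ya26 za0) (ka xa6 ya45 za29) (ka xa3 ya22 za59) (ka xa6 ya31 za19) (ka xa5 ya45 za47) (ka xa11 ya36 za6) (ka xa5 ya18 za51) (ka xa5 ya18 za50) (ka xa2 ya54 za3) (ka xa5 ya34 za55) (ka xa5 ya34 za52) (ka xa6 ya25 za4) (ka xa8 ya48 za53) (ka xa8 ya49 za34) (ka xa8 ya45 za47) (ka xa9 ya7 za11) (ka xa9 ya7 za9) (ka xa8 ya0 za31) (ka xa9 ya7 za13) (ka xa9 ya7 za14) (ka xa5 ya27 za2) (ka xa8 ya45 za46) (ka xa9 ya7 za8) (ka xa8 ya47 za44) (ka xa6 ya39 za11) (ka xa6 ya10 za53) (ka xa9 ya7 za10) (ka xa2 ya59 za25) (ka xa9 ya7 za4)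 (ka xa2 ya54 za28) (ka xa2 ya54 za29) (ka xa2 ya54 za31) (ka xa2 ya54 za32) (ka xa3 ya12 za3) (ka xa2 ya54 za41) (ka xa2 ya54 za42) (ka xa2 ya54 za43) (ka xa2 ya54 za44) (ka xa2 ya54 za45) (ka xa2 ya54 za46) (ka xa2 ya54 za49) (ka xa2 ya54 za50) (ka xa2 ya54 za51) (ka xa8 ya46 za25)) (@D3.rec (fun _ => Pt) (ka xa4 ya34 za27) (ka xa8 ya45 za44) (ka xa8 ya45 za45) (ka xa7 ya59 za53) (ka xa8 ya45 za42) (ka xa8 ya45 za43) (ka xa8 ya46 za41) (ka xa9 ya9 za38) (ka xa6 ya24 za33) (ka xa6 ya15 za55) (ka xa6 ya24 za27) (ka xa6 ya24 za28) (ka xa6 ya25 za12) (ka xa6 ya25 za5) (ka xa11 ya33 za31) (ka xa9 ya7 za25) (ka xa11 ya36 za45) (ka xa11 ya36 za46) (ka xa11 ya36 za47) (ka xa11 ya36 za48) (ka xa11 ya36 za49) (ka xa4 ya34 za47) (ka xa9 ya9 za34) (ka xa11 ya36 za50) (ka xa11 ya36 za51) (ka xa11 ya36 za52) (ka xa11 ya36 za53) (ka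 xa11 ya36 za54) (ka xa9 ya12 za37) (ka xa6 ya25 za8) (ka xa6 ya25 za7) (ka xa6 ya25 za17) (ka xa3 ya2 za34) (ka xa6 ya25 za20) (ka xa5 ya50 za41) (ka xa9 ya11 za42) (ka xa3 ya17 za45) (ka xa6 ya25 za9) (ka xa3 ya0 za49) (ka xa5 ya13 za29) (ka xa6 ya25 za11) (ka xa6 ya35 za15) (ka xa6 ya36 za47) (ka xa9 ya7 za24) (ka xa3 ya1 za49) (ka xa8 ya46 za44) (ka xa11 ya36 za56) (ka xa11 ya36 za57) (ka xa11 ya36 za55) (ka xa9 ya10 za24) (ka xa11 ya36 za58) (ka xa4 ya30 za29) (ka xa11 ya36 za59) (ka xa5 ya58 za54) (ka xa11 ya36 za60) (ka xa11 ya36 za61) (ka xa11 ya22 za29) (ka xa11 ya37 za0) (ka xa11 ya37 za1) (ka xa11 ya37 za2) (ka xa11 ya37 za3) (ka xa4 ya36 za11)) (@D3.rec (fun _ => Pt) (ka xa8 ya44 za51) (ka xa9 ya4 za24) (ka xa9 ya4 za22) (ka xa11 ya37 za4) (ka xa7 ya59 za6) (ka xa10 ya53 za15) (ka xa5 ya49 za53) (ka xa11 ya37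 za5) (ka xa4 ya34 za17) (ka xa11 ya37 za6) (ka xa11 ya37 za7) (ka xa11 ya37 za9) (ka xa9 ya12 za38) (ka xa9 ya12 za39) (ka xa2 ya55 za59) (ka xa2 ya54 za53) (ka xa11 ya39 za50) (ka xa11 ya39 za51) (ka xa9 ya9 za9) (ka xa6 ya2 za9) (ka xa9 ya10 za44) (ka xa9 ya10 za45) (ka xa9 ya10 za46) (ka xa11 ya40 za0) (ka xa9 ya10 za47) (ka xa9 ya9 za13) (ka xa2 ya54 za61) (ka xa11 ya40 za3) (ka xa9 ya9 za16) (ka xa9 ya9 za17) (ka xa2 ya56 za58) (ka xa5 ya57 za53) (ka xa5 ya57 za54) (ka xa2 ya55 za28) (ka xa7 ya39 za36) (ka xa2 ya55 za31) (ka xa5 ya57 za52) (ka xa5 ya57 za56) (ka xa11 ya40 za16) (ka xa4 ya59 za45) (ka xa5 ya57 za58) (ka xa5 ya57 za59) (ka xa5 ya57 za60) (ka xa5 ya57 za61) (ka xa5 ya58 za0) (ka xa5 ya6 za39) (ka xa3 ya0 za17) (ka xa5 ya58 za3) (ka xa3 ya0 za14) (ka xa4 ya59 za22) (ka xa4 ya33 za59) (ka xa4 ya59 za23)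 (ka xa5 ya57 za36) (ka xa5 ya57 za31) (ka xa5 ya57 za32) (ka xa4 ya58 za38) (ka xa5 ya57 za37) (ka xa11 ya40 za39) (ka xa5 ya57 za40) (ka xa5 ya57 za41) (ka xa5 ya57 za42) (ka xa5 ya57 za43)) (@D3.rec (fun _ => Pt) (ka xa5 ya57 za44) (ka xa2 ya55 za52) (ka xa5 ya6 za59) (ka xa5 ya57 za47) (ka xa6 ya17 za20) (ka xa3 ya0 za38) (ka xa3 ya0 za39) (ka xa3 ya0 za40) (ka xa3 ya0 za41) (ka xa3 ya0 za16) (ka xa3 ya0 za42) (ka xa9 ya22 za30) (ka xa5 ya59 za52) (ka xa11 ya40 za9) (ka xa5 ya59 za51) (ka xa11 ya28 za32) (ka xa11 ya41 za10) (ka xa9 ya22 za11) (ka xa2 ya55 za30) (ka xa11 ya41 za16) (ka xa7 ya39 za34) (ka xa11 ya41 za9) (ka xa9 ya29 za59) (ka xa9 ya29 za57) (ka xa6 ya53 za11) (ka xa2 ya55 za55) (ka xa2 ya55 za56) (ka xa6 ya49 za49) (ka xa2 ya55 za58) (ka xa5 ya13 za34) (ka xa3 ya6 za56) (ka xa5 ya12 za30) (ka xa4 ya7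 za18) (ka xa6 ya12 za23) (ka xa10 ya3 za56) (ka xa2 ya56 za0) (ka xa5 ya51 za2) (ka xa2 ya55 za47) (ka xa2 ya55 za49) (ka xa11 ya41 za44) (ka xa3 ya29 za58) (ka xa7 ya42 za9) (ka xa9 ya8 za44) (ka xa11 ya41 za39) (ka xa11 ya41 za40) (ka xa11 ya41 za41) (ka xa11 ya12 za53) (ka xa9 ya8 za58) (ka xa11 ya8 za3) (ka xa11 ya41 za42) (ka xa11 ya20 za31) (ka xa11 ya42 za7) (ka xa11 ya30 za31) (ka xa11 ya40 za47) (ka xa5 ya56 za53) (ka xa6 ya1 za30) (ka xa11 ya40 za46) (ka xa6 ya1 za26) (ka xa6 ya1 za29) (ka xa2 ya55 za54) (ka xa11 ya24 za41) (ka xa11 ya42 za23)) (@D3.rec (fun _ => Pt) (ka xa11 ya41 za25) (ka xa11 ya41 za26) (ka xa11 ya41 za27) (ka xa11 ya41 za28) (ka xa6 ya53 za9) (ka xa9 ya9 za10) (ka xa5 ya33 za44) (ka xa9 ya9 za11) (ka xa6 ya7 za6) (ka xa11 ya41 za30) (ka xa11 ya39 za49) (ka xa9 ya7 za6) (ka xa9 ya7 za7) (ka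 xa8 ya9 za48) (ka xa4 ya31 za14) (ka xa11 ya41 za33) (ka xa11 ya41 za34) (ka xa11 ya43 za5) (ka xa11 ya41 za36) (ka xa11 ya32 za23) (ka xa11 ya32 za24) (ka xa4 ya46 za54) (ka xa9 ya21 za44) (ka xa2 ya56 za41) (ka xa2 ya56 za42) (ka xa2 ya56 za44) (ka xa2 ya56 za45) (ka xa11 ya41 za37) (ka xa2 ya56 za47) (ka xa2 ya56 za48) (ka xa2 ya56 za49) (ka xa11 ya40 za10) (ka xa2 ya56 za51) (ka xa2 ya56 za52) (ka xa2 ya56 za53) (ka xa2 ya56 za10) (ka xa11 ya43 za46) (ka xa4 ya59 za40) (ka xa4 ya59 za41) (ka xa11 ya43 za44) (ka xa9 ya13 za0) (ka xa11 ya28 za13) (ka xa11 ya43 za45) (ka xa9 ya24 za33) (ka xa9 ya29 za60) (ka xa9 ya29 za58) (ka xa9 ya29 za61) (ka xa9 ya23 za56) (ka xa2 ya56 za13) (ka xa8 ya47 za3) (ka xa11 ya44 za5) (ka xa5 ya58 za14) (ka xa5 ya58 za12) (ka xa9 ya30 za19) (ka xa6 ya54 za6) (ka xa9 ya30 za20) (ka xa6 ya54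 za4) (ka xa9 ya13 za7) (ka xa7 ya43 za7) (ka xa9 ya30 za21) (ka xa9 ya30 za22) (ka xa9 ya13 za12))
def f_a_6 : D2 → D3 → Pt := @D2.rec (fun _ => D3 → Pt) (@D3.rec (fun _ => Pt) (ka xa9 ya30 za24) (ka xa2 ya56 za21) (ka xa2 ya56 za22) (ka xa11 ya44 za36) (ka xa11 ya44 za31) (ka xa9 ya13 za25) (ka xa11 ya44 za32) (ka xa11 ya44 za33) (ka xa9 ya21 za55) (ka xa2 ya56 za23) (ka xa11 ya44 za45) (ka xa11 ya44 za46) (ka xa9 ya30 za2) (ka xa9 ya30 za3) (ka xa9 ya30 za4) (ka xa9 ya30 za5) (ka xa9 ya30 za6) (ka xa9 ya25 za51) (ka xa9 ya30 za7) (ka xa9 ya30 za8) (ka xa7 ya43 za24) (ka xa9 ya13 za36) (ka xa7 ya43 za22) (ka xa9 ya29 za54) (ka xa9 ya13 za40) (ka xa4 ya59 za44) (ka xa9 ya29 za55) (ka xa9 ya25 za45) (ka xa7 ya45 za22) (ka xa2 ya56 za30) (ka xa6 ya38 za19) (ka xa11 ya45 za21) (ka xa8 ya0 za25) (ka xa4 ya40 za37) (ka xa9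 ya25 za58) (ka xa9 ya25 za59) (ka xa7 ya43 za5) (ka xa9 ya25 za2) (ka xa9 ya25 za54) (ka xa2 ya56 za34) (ka xa5 ya54 za41) (ka xa5 ya54 za11) (ka xa11 ya45 za38) (ka xa9 ya25 za50) (ka xa9 ya25 za52) (ka xa9 ya25 za53) (ka xa9 ya26 za4) (ka xa11 ya45 za58) (ka xa9 ya50 za2) (ka xa11 ya43 za21) (ka xa11 ya43 za22) (ka xa11 ya43 za23) (ka xa11 ya43 za24) (ka xa8 ya0 za44) (ka xa11 ya43 za26) (ka xa6 ya39 za46) (ka xa3 ya27 za20) (ka xa3 ya27 za21) (ka xa11 ya43 za27) (ka xa11 ya43 za28) (ka xa11 ya43 za29) (ka xa11 ya43 za30)) (@D3.rec (fun _ => Pt) (ka xa11 ya40 za11) (ka xa2 ya56 za46) (ka xa4 ya59 za49) (ka xa7 ya27 za0) (ka xa7 ya27 za2) (ka xa11 ya26 za12) (ka xa11 ya46 za49) (ka xa11 ya43 za35) (ka xa11 ya43 za36) (ka xa9 ya13 za58) (ka xa11 ya17 za46) (ka xa11 ya43 za37) (ka xa9 ya18 za0) (ka xa7 ya43 za18) (ka xa6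 ya8 za8) (ka xa11 ya43 za38) (ka xa11 ya41 za38) (ka xa2 ya56 za50) (ka xa11 ya47 za7) (ka xa11 ya47 za8) (ka xa11 ya47 za9) (ka xa11 ya47 za20) (ka xa11 ya43 za42) (ka xa11 ya43 za43) (ka xa11 ya14 za33) (ka xa6 ya31 za6) (ka xa5 ya58 za57) (ka xa11 ya20 za32) (ka xa11 ya20 za33) (ka xa5 ya58 za58) (ka xa5 ya58 za55) (ka xa11 ya20 za36) (ka xa11 ya20 za37) (ka xa11 ya32 za28) (ka xa11 ya20 za34) (ka xa11 ya18 za29) (ka xa11 ya20 za39) (ka xa11 ya20 za38) (ka xa11 ya47 za60) (ka xa11 ya40 za8) (ka xa2 ya57 za45) (ka xa2 ya57 za1) (ka xa2 ya57 za2) (ka xa2 ya57 za3) (ka xa2 ya57 za4) (ka xa2 ya57 za5) (ka xa9 ya24 za34) (ka xa9 ya13 za21) (ka xa8 ya0 za15) (ka xa5 ya54 za44) (ka xa4 ya45 za38) (ka xa11 ya48 za4) (ka xa9 ya30 za12) (ka xa5 ya50 za10) (ka xa11 ya48 za5) (ka xa9 ya11 za11) (ka xa11 ya48 za6) (ka xa11 ya48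 za7) (ka xa9 ya31 za15) (ka xa11 ya0 za50) (ka xa11 ya48 za8) (ka xa11 ya0 za48)) (@D3.rec (fun _ => Pt) (ka xa9 ya11 za21) (ka xa9 ya11 za22) (ka xa9 ya13 za8) (ka xa9 ya13 za9) (ka xa4 ya57 za56) (ka xa9 ya13 za10) (ka xa9 ya13 za11) (ka xa6 ya46 za50) (ka xa9 ya11 za25) (ka xa5 ya57 za19) (ka xa9 ya13 za13) (ka xa3 ya7 za17) (ka xa2 ya57 za16) (ka xa2 ya57 za17) (ka xa2 ya57 za18) (ka xa2 ya57 za19) (ka xa2 ya57 za20) (ka xa3 ya15 za53) (ka xa9 ya12 za55) (ka xa9 ya12 za54) (ka xa3 ya16 za4) (ka xa8 ya45 za48) (ka xa11 ya48 za50) (ka xa10 ya37 za39) (ka xa11 ya48 za51) (ka xa11 ya48 za52) (ka xa11 ya48 za53) (ka xa9 ya41 za61) (ka xa11 ya48 za54) (ka xa9 ya31 za37) (ka xa11 ya48 za55) (ka xa5 ya55 za13) (ka xa9 ya13 za55) (ka xa9 ya13 za34) (ka xa9 ya13 za35) (ka xa9 ya11 za36) (ka xa9 ya11 za37) (ka xa9 ya11 za38)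 (ka xa6 ya7 za25) (ka xa9 ya13 za37) (ka xa9 ya13 za38) (ka xa5 ya55 za15) (ka xa9 ya13 za39) (ka xa9 ya13 za41) (ka xa5 ya50 za21) (ka xa5 ya50 za25) (ka xa11 ya49 za37) (ka xa6 ya3 za34) (ka xa9 ya13 za43) (ka xa9 ya13 za44) (ka xa9 ya14 za0) (ka xa2 ya57 za32) (ka xa2 ya57 za33) (ka xa9 ya14 za3) (ka xa9 ya14 za2) (ka xa11 ya24 za40) (ka xa7 ya57 za19) (ka xa9 ya13 za24) (ka xa9 ya13 za23) (ka xa11 ya49 za43) (ka xa3 ya10 za52) (ka xa6 ya51 za22)) (@D3.rec (fun _ => Pt) (ka xa9 ya12 za21) (ka xa9 ya13 za59) (ka xa9 ya13 za60) (ka xa5 ya45 za58) (ka xa5 ya49 za31) (ka xa5 ya49 za32) (ka xa11 ya50 za0) (ka xa9 ya13 za61) (ka xa9 ya13 za45) (ka xa2 ya57 za43) (ka xa2 ya57 za44) (ka xa9 ya13 za49) (ka xa11 ya50 za3) (ka xa9 ya13 za53) (ka xa9 ya13 za52) (ka xa11 ya50 za4) (ka xa11 ya15 za53) (ka xa7 ya44 za24) (ka xa7 ya44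 za22) (ka xa11 ya48 za3) (ka xa3 ya10 za53) (ka xa11 ya50 za28) (ka xa5 ya49 za26) (ka xa3 ya10 za51) (ka xa11 ya33 za13) (ka xa6 ya16 za31) (ka xa9 ya14 za11) (ka xa10 ya47 za13) (ka xa11 ya33 za14) (ka xa5 ya49 za57) (ka xa5 ya52 za36) (ka xa11 ya50 za44) (ka xa6 ya22 za8) (ka xa6 ya22 za29) (ka xa6 ya2 za47) (ka xa9 ya14 za9) (ka xa11 ya50 za46) (ka xa9 ya14 za15) (ka xa9 ya14 za16) (ka xa9 ya14 za17) (ka xa9 ya14 za18) (ka xa11 ya33 za15) (ka xa11 ya33 za16) (ka xa11 ya50 za59) (ka xa9 ya14 za22) (ka xa9 ya14 za23) (ka xa9 ya14 za24) (ka xa9 ya14 za25) (ka xa11 ya32 za44) (ka xa5 ya33 za10) (ka xa11 ya51 za11) (ka xa9 ya14 za29) (ka xa9 ya14 za30) (ka xa9 ya14 za31) (ka xa9 ya14 za32) (ka xa11 ya51 za21) (ka xa9 ya14 za34) (ka xa11 ya51 za28) (ka xa9 ya14 za36) (ka xa11 ya22 za60) (ka xa11 ya22 za59) (ka xa2 ya58 za4))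 (@D3.rec (fun _ => Pt) (ka xa11 ya51 za36) (ka xa5 ya46 za20) (ka xa9 ya6 za50) (ka xa9 ya6 za51) (ka xa11 ya51 za50) (ka xa6 ya22 za28) (ka xa6 ya43 za6) (ka xa5 ya50 za18) (ka xa9 ya14 za41) (ka xa8 ya51 za55) (ka xa11 ya51 za53) (ka xa5 ya38 za28) (ka xa5 ya0 za24) (ka xa5 ya0 za26) (ka xa5 ya47 za51) (ka xa5 ya46 za61) (ka xa6 ya4 za20) (ka xa4 ya52 za60) (ka xa9 ya46 za2) (ka xa6 ya4 za22) (ka xa6 ya4 za16) (ka xa11 ya52 za8) (ka xa6 ya4 za19) (ka xa2 ya58 za31) (ka xa2 ya58 za37) (ka xa2 ya58 za38) (ka xa2 ya58 za40) (ka xa2 ya58 za41) (ka xa2 ya58 za45) (ka xa2 ya58 za46) (ka xa11 ya52 za32) (ka xa2 ya58 za48) (ka xa2 ya58 za49) (ka xa2 ya58 za50) (ka xa6 ya4 za36) (ka xa6 ya4 za37) (ka xa6 ya4 za34) (ka xa6 ya4 za35) (ka xa11 ya52 za12) (ka xa11 ya52 za13) (ka xa11 ya52 za15) (ka xa5 ya24 za49) (ka xa5 ya24 za47)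 (ka xa5 ya24 za48) (ka xa5 ya24 za50) (ka xa4 ya2 za58) (ka xa4 ya3 za3) (ka xa4 ya3 za4) (ka xa8 ya6 za40) (ka xa8 ya6 za41) (ka xa11 ya53 za3) (ka xa11 ya52 za16) (ka xa11 ya52 za17) (ka xa11 ya52 za18) (ka xa4 ya27 za49) (ka xa11 ya52 za19) (ka xa4 ya6 za38) (ka xa8 ya29 za7) (ka xa5 ya23 za20) (ka xa4 ya20 za21) (ka xa11 ya52 za21) (ka xa5 ya26 za38)) (@D3.rec (fun _ => Pt) (ka xa11 ya52 za22) (ka xa11 ya52 za23) (ka xa4 ya3 za12) (ka xa11 ya53 za31) (ka xa5 ya23 za22) (ka xa5 ya23 za17) (ka xa5 ya23 za15) (ka xa5 ya23 za16) (ka xa5 ya23 za18) (ka xa11 ya53 za44) (ka xa11 ya52 za25) (ka xa11 ya52 za26) (ka xa11 ya53 za52) (ka xa11 ya52 za28) (ka xa11 ya52 za29) (ka xa11 ya53 za60) (ka xa11 ya54 za3) (ka xa2 ya58 za47) (ka xa11 ya54 za6) (ka xa11 ya53 za59) (ka xa11 ya52 za35) (ka xa11 ya52 za36) (ka xa8 ya14 za2) (ka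 xa11 ya52 za37) (ka xa8 ya14 za0) (ka xa11 ya52 za38) (ka xa4 ya28 za42) (ka xa4 ya28 za41) (ka xa5 ya26 za8) (ka xa5 ya26 za7) (ka xa11 ya54 za36) (ka xa8 ya15 za12) (ka xa8 ya15 za13) (ka xa8 ya15 za14) (ka xa8 ya15 za15) (ka xa8 ya15 za16) (ka xa3 ya21 za50) (ka xa5 ya26 za15) (ka xa5 ya26 za14) (ka xa2 ya58 za54) (ka xa11 ya54 za51) (ka xa5 ya21 za36) (ka xa8 ya26 za16) (ka xa8 ya26 za17) (ka xa5 ya17 za13) (ka xa5 ya25 za52) (ka xa5 ya25 za54) (ka xa5 ya25 za53) (ka xa11 ya55 za2) (ka xa8 ya29 za12) (ka xa8 ya29 za13) (ka xa5 ya27 za49) (ka xa5 ya27 za48) (ka xa5 ya26 za1) (ka xa5 ya26 za0) (ka xa2 ya59 za2) (ka xa11 ya55 za16) (ka xa5 ya26 za20) (ka xa5 ya26 za22) (ka xa5 ya17 za27) (ka xa11 ya55 za22) (ka xa8 ya15 za18)) (@D3.rec (fun _ => Pt) (ka xa8 ya15 za19) (ka xa5 ya32 za33) (ka xa8 ya15 za20) (ka xa8 ya15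 za21) (ka xa5 ya26 za50) (ka xa5 ya26 za49) (ka xa2 ya59 za9) (ka xa11 ya55 za40) (ka xa11 ya55 za41) (ka xa5 ya0 za8) (ka xa5 ya26 za35) (ka xa5 ya26 za36) (ka xa5 ya26 za37) (ka xa5 ya21 za51) (ka xa5 ya26 za40) (ka xa5 ya26 za42) (ka xa4 ya13 za56) (ka xa5 ya26 za23) (ka xa11 ya55 za57) (ka xa8 ya29 za15) (ka xa8 ya29 za16) (ka xa8 ya29 za17) (ka xa5 ya31 za21) (ka xa8 ya29 za18) (ka xa5 ya26 za31) (ka xa5 ya26 za30) (ka xa2 ya59 za17) (ka xa11 ya33 za54) (ka xa5 ya26 za53) (ka xa5 ya21 za58) (ka xa5 ya26 za61) (ka xa5 ya26 za60) (ka xa2 ya59 za22) (ka xa11 ya56 za12) (ka xa9 ya30 za37) (ka xa11 ya42 za57) (ka xa5 ya26 za58) (ka xa5 ya26 za59) (ka xa3 ya21 za0) (ka xa11 ya36 za43) (ka xa2 ya59 za31) (ka xa2 ya59 za27) (ka xa11 ya56 za25) (ka xa11 ya39 za25) (ka xa3 ya20 za41) (ka xa2 ya59 za30) (ka xa9 ya15 za14) (ka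 xa9 ya7 za54) (ka xa11 ya56 za33) (ka xa11 ya56 za34) (ka xa11 ya56 za24) (ka xa9 ya7 za32) (ka xa5 ya14 za28) (ka xa5 ya27 za21) (ka xa5 ya27 za22) (ka xa5 ya27 za23) (ka xa5 ya27 za24) (ka xa8 ya14 za12) (ka xa8 ya14 za11) (ka xa11 ya56 za53) (ka xa8 ya27 za18) (ka xa8 ya27 za19)) (@D3.rec (fun _ => Pt) (ka xa8 ya27 za20) (ka xa8 ya27 za21) (ka xa8 ya27 za22) (ka xa8 ya14 za17) (ka xa8 ya14 za16) (ka xa2 ya59 za38) (ka xa5 ya59 za8) (ka xa8 ya13 za25) (ka xa11 ya57 za10) (ka xa5 ya36 za60) (ka xa3 ya25 za33) (ka xa5 ya14 za30) (ka xa11 ya57 za15) (ka xa8 ya38 za37) (ka xa8 ya38 za38) (ka xa5 ya35 za37) (ka xa5 ya35 za36) (ka xa4 ya49 za24) (ka xa2 ya59 za48) (ka xa11 ya57 za24) (ka xa6 ya7 za46) (ka xa5 ya28 za45) (ka xa11 ya57 za29) (ka xa8 ya14 za55) (ka xa8 ya14 za56) (ka xa6 ya2 za38) (ka xa11 ya57 za34) (ka xa5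 ya37 za57) (ka xa6 ya39 za13) (ka xa5 ya38 za40) (ka xa6 ya16 za2) (ka xa6 ya16 za12) (ka xa2 ya59 za59) (ka xa2 ya59 za60) (ka xa4 ya20 za4) (ka xa10 ya5 za6) (ka xa5 ya54 za58) (ka xa8 ya12 za11) (ka xa10 ya5 za11) (ka xa11 ya57 za38) (ka xa6 ya24 za30) (ka xa10 ya2 za51) (ka xa10 ya2 za52) (ka xa10 ya2 za53) (ka xa10 ya2 za54) (ka xa4 ya38 za25) (ka xa6 ya7 za20) (ka xa8 ya12 za14) (ka xa5 ya53 za14) (ka xa5 ya50 za12) (ka xa3 ya0 za7) (ka xa10 ya4 za48) (ka xa3 ya0 za11) (ka xa3 ya0 za12) (ka xa6 ya46 za15) (ka xa10 ya3 za54) (ka xa7 ya27 za15) (ka xa11 ya57 za58) (ka xa5 ya53 za10) (ka xa5 ya37 za19) (ka xa3 ya0 za15) (ka xa10 ya3 za55)) (@D3.rec (fun _ => Pt) (ka xa10 ya18 za47) (ka xa11 ya40 za26) (ka xa3 ya23 za44) (ka xa11 ya58 za10) (ka xa3 ya2 za45) (ka xa10 ya19 za8) (ka xa9 ya17 za42) (ka xa11 ya40 za60) (ka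 xa6 ya1 za14) (ka xa11 ya40 za61) (ka xa11 ya40 za25) (ka xa8 ya12 za2) (ka xa8 ya12 za3) (ka xa5 ya50 za44) (ka xa8 ya12 za4) (ka xa9 ya10 za19) (ka xa9 ya10 za20) (ka xa8 ya12 za8) (ka xa8 ya12 za9) (ka xa5 ya27 za16) (ka xa5 ya27 za15) (ka xa3 ya0 za23) (ka xa9 ya15 za31) (ka xa5 ya50 za47) (ka xa9 ya15 za16) (ka xa5 ya50 za46) (ka xa11 ya34 za51) (ka xa9 ya15 za18) (ka xa11 ya38 za38) (ka xa9 ya15 za19) (ka xa9 ya15 za20) (ka xa9 ya15 za21) (ka xa3 ya0 za34) (ka xa5 ya49 za47) (ka xa4 ya41 za32) (ka xa9 ya16 za32) (ka xa6 ya59 za50) (ka xa5 ya47 za3) (ka xa11 ya40 za51) (ka xa11 ya40 za52) (ka xa11 ya40 za53) (ka xa11 ya40 za54) (ka xa11 ya40 za55) (ka xa11 ya38 za25) (ka xa11 ya40 za56) (ka xa11 ya40 za57) (ka xa9 ya31 za4) (ka xa11 ya25 za34) (ka xa11 ya40 za58) (ka xa11 ya40 za59) (ka xa11 ya39 za54) (ka xa5 ya49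 za52) (ka xa5 ya43 za61) (ka xa9 ya45 za24) (ka xa11 ya34 za48) (ka xa11 ya34 za49) (ka xa11 ya34 za50) (ka xa5 ya50 za26) (ka xa11 ya38 za35) (ka xa11 ya38 za36) (ka xa11 ya38 za37) (ka xa9 ya15 za43)) (@D3.rec (fun _ => Pt) (ka xa9 ya15 za44) (ka xa4 ya33 za10) (ka xa6 ya15 za51) (ka xa5 ya42 za24) (ka xa5 ya46 za51) (ka xa5 ya37 za11) (ka xa5 ya46 za54) (ka xa5 ya46 za55) (ka xa11 ya59 za23) (ka xa4 ya31 za8) (ka xa4 ya31 za9) (ka xa4 ya25 za30) (ka xa4 ya25 za31) (ka xa4 ya25 za32) (ka xa4 ya25 za33) (ka xa4 ya25 za34) (ka xa4 ya25 za36) (ka xa4 ya25 za37) (ka xa6 ya49 za15) (ka xa3 ya1 za10) (ka xa6 ya48 za5) (ka xa6 ya48 za4) (ka xa6 ya52 za32) (ka xa6 ya48 za2) (ka xa6 ya48 za3) (ka xa6 ya26 za10) (ka xa11 ya59 za54) (ka xa7 ya55 za20) (ka xa9 ya33 za4) (ka xa9 ya33 za3) (ka xa3 ya1 za11) (ka xa3 ya12 za6) (ka xa6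 ya19 za16) (ka xa6 ya9 za36) (ka xa3 ya1 za20) (ka xa3 ya7 za2) (ka xa6 ya9 za33) (ka xa6 ya48 za13) (ka xa6 ya48 za14) (ka xa3 ya35 za20) (ka xa6 ya23 za58) (ka xa6 ya48 za16) (ka xa6 ya48 za15) (ka xa12 ya0 za26) (ka xa12 ya0 za9) (ka xa6 ya48 za23) (ka xa6 ya48 za22) (ka xa3 ya1 za21) (ka xa9 ya9 za57) (ka xa3 ya2 za14) (ka xa3 ya2 za23) (ka xa3 ya2 za24) (ka xa3 ya2 za25) (ka xa3 ya2 za22) (ka xa3 ya2 za28) (ka xa3 ya1 za36) (ka xa3 ya1 za30) (ka xa6 ya41 za29) (ka xa3 ya14 za41) (ka xa6 ya27 za55) (ka xa4 ya11 za37) (ka xa3 ya35 za19)) (@D3.rec (fun _ => Pt) (ka xa6 ya58 za61) (ka xa12 ya0 za54) (ka xa7 ya19 za34) (ka xa3 ya18 za52) (ka xa6 ya41 za31) (ka xa6 ya41 za32) (ka xa12 ya1 za3) (ka xa6 ya41 za34) (ka xa12 ya0 za37) (ka xa12 ya0 za36) (ka xa3 ya1 za42) (ka xa12 ya1 za14) (ka xa12 ya1 za15) (ka xa3 ya2 za8)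 (ka xa3 ya2 za11) (ka xa3 ya2 za13) (ka xa6 ya25 za39) (ka xa3 ya2 za16) (ka xa3 ya2 za15) (ka xa3 ya2 za17) (ka xa3 ya2 za20) (ka xa3 ya2 za19) (ka xa3 ya2 za21) (ka xa11 ya37 za20) (ka xa3 ya15 za56) (ka xa3 ya15 za55) (ka xa3 ya1 za53) (ka xa12 ya1 za34) (ka xa3 ya14 za17) (ka xa3 ya15 za51) (ka xa3 ya15 za50) (ka xa3 ya1 za54) (ka xa9 ya12 za53) (ka xa12 ya1 za37) (ka xa3 ya15 za38) (ka xa3 ya15 za41) (ka xa3 ya15 za18) (ka xa3 ya14 za30) (ka xa3 ya14 za32) (ka xa3 ya45 za30) (ka xa3 ya45 za29) (ka xa3 ya1 za59) (ka xa3 ya50 za4) (ka xa4 ya43 za8) (ka xa12 ya1 za56) (ka xa3 ya17 za60) (ka xa3 ya46 za31) (ka xa6 ya20 za1) (ka xa3 ya17 za59) (ka xa3 ya45 za33) (ka xa3 ya45 za34) (ka xa4 ya58 za41) (ka xa9 ya15 za25) (ka xa5 ya55 za43) (ka xa9 ya15 za24) (ka xa3 ya2 za6) (ka xa3 ya2 za7) (ka xa7 ya26 za59) (ka xa12 ya2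 za13) (ka xa12 ya2 za14) (ka xa10 ya18 za57) (ka xa12 ya2 za15)) (@D3.rec (fun _ => Pt) (ka xa12 ya2 za16) (ka xa6 ya29 za10) (ka xa12 ya1 za19) (ka xa10 ya13 za14) (ka xa12 ya1 za20) (ka xa3 ya30 za13) (ka xa5 ya4 za39) (ka xa3 ya45 za20) (ka xa10 ya14 za25) (ka xa3 ya45 za21) (ka xa6 ya18 za32) (ka xa10 ya13 za13) (ka xa12 ya0 za41) (ka xa10 ya14 za33) (ka xa12 ya0 za39) (ka xa12 ya0 za40) (ka xa6 ya40 za55) (ka xa6 ya29 za24) (ka xa9 ya21 za39) (ka xa7 ya31 za25) (ka xa12 ya1 za23) (ka xa12 ya1 za24) (ka xa12 ya1 za25) (ka xa3 ya18 za47) (ka xa12 ya1 za26) (ka xa6 ya25 za40) (ka xa3 ya2 za18) (ka xa6 ya28 za26) (ka xa6 ya25 za41) (ka xa10 ya23 za4) (ka xa12 ya1 za27) (ka xa12 ya1 za28) (ka xa6 ya29 za25) (ka xa6 ya37 za16) (ka xa9 ya28 za57) (ka xa9 ya21 za11) (ka xa6 ya36 za34) (ka xa7 ya31 za29) (ka xa10 ya53 za21)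 (ka xa6 ya25 za42) (ka xa7 ya31 za30) (ka xa12 ya0 za42) (ka xa9 ya21 za38) (ka xa12 ya0 za43) (ka xa4 ya10 za30) (ka xa3 ya18 za51) (ka xa3 ya18 za54) (ka xa3 ya18 za53) (ka xa12 ya3 za28) (ka xa3 ya53 za52) (ka xa3 ya2 za30) (ka xa3 ya2 za31) (ka xa3 ya2 za33) (ka xa12 ya3 za31) (ka xa9 ya4 za17) (ka xa5 ya45 za61) (ka xa5 ya2 za36) (ka xa12 ya3 za32) (ka xa11 ya35 za58) (ka xa11 ya14 za26) (ka xa6 ya44 za60) (ka xa11 ya15 za57)) (@D3.rec (fun _ => Pt) (ka xa11 ya15 za58) (ka xa11 ya38 za23) (ka xa11 ya38 za24) (ka xa6 ya46 za48) (ka xa9 ya17 za20) (ka xa11 ya34 za57) (ka xa9 ya17 za24) (ka xa9 ya17 za25) (ka xa11 ya14 za24) (ka xa9 ya17 za26) (ka xa9 ya17 za27) (ka xa11 ya34 za58) (ka xa6 ya45 za38) (ka xa6 ya45 za36) (ka xa9 ya17 za28) (ka xa6 ya46 za46) (ka xa12 ya4 za12) (ka xa9 ya17 za30) (ka xa7 ya27 za16) (ka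 xa3 ya2 za47) (ka xa7 ya27 za28) (ka xa11 ya31 za12) (ka xa11 ya58 za12) (ka xa5 ya58 za33) (ka xa9 ya16 za56) (ka xa3 ya14 za23) (ka xa12 ya4 za14) (ka xa12 ya4 za15) (ka xa11 ya31 za13) (ka xa11 ya31 za14) (ka xa6 ya25 za53) (ka xa9 ya17 za39) (ka xa9 ya17 za40) (ka xa9 ya17 za31) (ka xa3 ya2 za58) (ka xa9 ya17 za32) (ka xa11 ya30 za3) (ka xa12 ya4 za30) (ka xa6 ya17 za31) (ka xa6 ya17 za32) (ka xa11 ya30 za4) (ka xa11 ya30 za5) (ka xa9 ya17 za44) (ka xa4 ya57 za52) (ka xa4 ya6 za2) (ka xa6 ya21 za44) (ka xa6 ya17 za60) (ka xa7 ya27 za5) (ka xa6 ya17 za48) (ka xa7 ya38 za4) (ka xa9 ya21 za16) (ka xa9 ya17 za1) (ka xa6 ya17 za52) (ka xa4 ya45 za32) (ka xa6 ya17 za53) (ka xa6 ya17 za16) (ka xa4 ya45 za58) (ka xa6 ya17 za55) (ka xa6 ya17 za56) (ka xa4 ya41 za54) (ka xa6 ya17 za57) (ka xa12 ya4 za56)) (@D3.rec (fun _ =>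 Pt) (ka xa6 ya17 za59) (ka xa3 ya22 za33) (ka xa3 ya22 za32) (ka xa3 ya3 za14) (ka xa9 ya8 za32) (ka xa7 ya19 za15) (ka xa4 ya26 za55) (ka xa4 ya26 za57) (ka xa4 ya26 za59) (ka xa4 ya26 za60) (ka xa4 ya26 za61) (ka xa4 ya23 za44) (ka xa12 ya5 za21) (ka xa4 ya27 za1) (ka xa3 ya59 za32) (ka xa3 ya59 za33) (ka xa3 ya59 za22) (ka xa3 ya3 za28) (ka xa3 ya3 za30) (ka xa3 ya3 za31) (ka xa12 ya5 za26) (ka xa11 ya27 za42) (ka xa4 ya26 za0) (ka xa4 ya58 za55) (ka xa4 ya58 za59) (ka xa12 ya5 za27) (ka xa12 ya5 za28) (ka xa12 ya5 za29) (ka xa12 ya5 za30) (ka xa12 ya5 za49) (ka xa4 ya57 za60) (ka xa4 ya0 za6) (ka xa7 ya20 za20) (ka xa8 ya46 za37) (ka xa4 ya26 za44) (ka xa4 ya26 za48) (ka xa8 ya2 za32) (ka xa8 ya2 za33) (ka xa8 ya2 za40) (ka xa8 ya2 za41) (ka xa8 ya2 za42) (ka xa8 ya2 za3) (ka xa6 ya13 za43) (ka xa6 ya13 za42) (ka xa8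 ya2 za6) (ka xa9 ya14 za47) (ka xa7 ya14 za27) (ka xa8 ya2 za4) (ka xa3 ya3 za45) (ka xa4 ya25 za18) (ka xa4 ya25 za15) (ka xa12 ya6 za16) (ka xa3 ya4 za20) (ka xa3 ya4 za21) (ka xa3 ya4 za23) (ka xa7 ya25 za13) (ka xa8 ya46 za36) (ka xa8 ya45 za29) (ka xa8 ya45 za30) (ka xa8 ya45 za31) (ka xa8 ya45 za32) (ka xa8 ya1 za3)) (@D3.rec (fun _ => Pt) (ka xa4 ya22 za60) (ka xa8 ya45 za33) (ka xa8 ya5 za25) (ka xa12 ya6 za10) (ka xa5 ya46 za36) (ka xa5 ya46 za37) (ka xa4 ya23 za11) (ka xa5 ya46 za39) (ka xa4 ya39 za34) (ka xa8 ya45 za25) (ka xa4 ya0 za42) (ka xa11 ya17 za48) (ka xa8 ya45 za35) (ka xa8 ya45 za36) (ka xa8 ya45 za37) (ka xa3 ya4 za2) (ka xa3 ya4 za3) (ka xa12 ya6 za59) (ka xa12 ya6 za60) (ka xa3 ya58 za52) (ka xa5 ya41 za40) (ka xa4 ya56 za34) (ka xa5 ya46 za32) (ka xa5 ya46 za33) (ka xa5 ya46 za34) (ka xa5 ya46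 za35) (ka xa5 ya46 za40) (ka xa5 ya46 za42) (ka xa5 ya46 za43) (ka xa5 ya54 za12) (ka xa5 ya37 za41) (ka xa5 ya37 za43) (ka xa4 ya19 za19) (ka xa5 ya54 za9) (ka xa5 ya54 za10) (ka xa4 ya1 za25) (ka xa9 ya19 za25) (ka xa3 ya4 za14) (ka xa3 ya4 za15) (ka xa3 ya4 za17) (ka xa4 ya45 za39) (ka xa12 ya7 za28) (ka xa12 ya7 za29) (ka xa12 ya7 za30) (ka xa3 ya38 za26) (ka xa12 ya7 za31) (ka xa3 ya4 za26) (ka xa5 ya49 za12) (ka xa12 ya7 za32) (ka xa12 ya7 za52) (ka xa12 ya6 za21) (ka xa11 ya11 za43) (ka xa12 ya8 za0) (ka xa12 ya6 za23) (ka xa12 ya6 za24) (ka xa7 ya19 za7) (ka xa7 ya19 za8) (ka xa3 ya40 za50) (ka xa7 ya19 za9) (ka xa5 ya49 za40) (ka xa5 ya49 za38) (ka xa7 ya7 za49)) (@D3.rec (fun _ => Pt) (ka xa11 ya39 za34) (ka xa7 ya8 za2) (ka xa8 ya51 za36) (ka xa7 ya19 za5) (ka xa7 ya18 za55) (ka xa7 ya19 za6) (ka xa3 ya40 za49)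 (ka xa3 ya38 za29) (ka xa7 ya13 za31) (ka xa7 ya13 za30) (ka xa8 ya43 za5) (ka xa7 ya13 za29) (ka xa8 ya46 za1) (ka xa8 ya43 za6) (ka xa12 ya8 za43) (ka xa5 ya46 za44) (ka xa5 ya46 za46) (ka xa5 ya47 za18) (ka xa5 ya47 za43) (ka xa5 ya47 za15) (ka xa5 ya47 za16) (ka xa5 ya47 za17) (ka xa3 ya4 za47) (ka xa3 ya4 za48) (ka xa3 ya4 za49) (ka xa3 ya4 za50) (ka xa9 ya44 za41) (ka xa12 ya8 za51) (ka xa5 ya49 za18) (ka xa5 ya37 za26) (ka xa9 ya44 za40) (ka xa4 ya57 za33) (ka xa7 ya59 za19) (ka xa5 ya41 za52) (ka xa12 ya9 za0) (ka xa5 ya47 za48) (ka xa5 ya37 za55) (ka xa5 ya38 za1) (ka xa4 ya36 za59) (ka xa5 ya53 za27) (ka xa4 ya58 za54) (ka xa4 ya45 za41) (ka xa9 ya19 za47) (ka xa9 ya19 za48) (ka xa9 ya19 za49) (ka xa5 ya54 za27) (ka xa4 ya58 za57) (ka xa5 ya54 za36) (ka xa4 ya40 za55) (ka xa5 ya54 za38) (ka xa5 ya54 za39) (ka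 xa6 ya9 za2) (ka xa5 ya42 za1) (ka xa9 ya19 za50) (ka xa5 ya41 za49) (ka xa5 ya56 za9) (ka xa8 ya12 za19) (ka xa9 ya19 za51) (ka xa9 ya19 za52) (ka xa5 ya54 za13) (ka xa9 ya19 za44) (ka xa8 ya12 za20)) (@D3.rec (fun _ => Pt) (ka xa8 ya5 za4) (ka xa9 ya19 za45) (ka xa6 ya7 za30) (ka xa4 ya45 za28) (ka xa5 ya54 za28) (ka xa4 ya40 za6) (ka xa5 ya54 za30) (ka xa5 ya54 za31) (ka xa4 ya5 za44) (ka xa4 ya5 za45) (ka xa4 ya5 za41) (ka xa5 ya51 za46) (ka xa6 ya7 za31) (ka xa3 ya5 za18) (ka xa3 ya5 za19) (ka xa3 ya5 za20) (ka xa3 ya5 za21) (ka xa3 ya5 za22) (ka xa3 ya5 za23) (ka xa3 ya5 za25) (ka xa3 ya5 za26) (ka xa5 ya48 za41) (ka xa5 ya38 za22) (ka xa7 ya39 za14) (ka xa4 ya32 za41) (ka xa9 ya22 za6) (ka xa4 ya36 za26) (ka xa4 ya56 za43) (ka xa12 ya9 za54) (ka xa7 ya39 za39) (ka xa12 ya9 za55) (ka xa6 ya3 za25) (ka xa9 ya51 za21)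 (ka xa11 ya17 za27) (ka xa9 ya22 za21) (ka xa12 ya9 za56) (ka xa11 ya35 za20) (ka xa11 ya35 za18) (ka xa5 ya49 za28) (ka xa12 ya9 za57) (ka xa12 ya10 za25) (ka xa7 ya39 za35) (ka xa12 ya9 za58) (ka xa9 ya11 za12) (ka xa9 ya17 za53) (ka xa9 ya17 za54) (ka xa9 ya17 za60) (ka xa9 ya17 za61) (ka xa11 ya17 za50) (ka xa11 ya17 za51) (ka xa12 ya10 za37) (ka xa12 ya10 za39) (ka xa9 ya12 za24) (ka xa3 ya5 za32) (ka xa12 ya10 za45) (ka xa12 ya10 za38) (ka xa9 ya18 za3) (ka xa9 ya18 za4) (ka xa9 ya18 za5) (ka xa9 ya18 za6) (ka xa5 ya49 za8) (ka xa5 ya49 za9)) (@D3.rec (fun _ => Pt) (ka xa3 ya5 za40) (ka xa3 ya5 za41) (ka xa5 ya49 za14) (ka xa5 ya49 za13) (ka xa12 ya10 za53) (ka xa4 ya5 za57) (ka xa5 ya37 za37) (ka xa5 ya49 za2) (ka xa3 ya5 za44) (ka xa3 ya5 za45) (ka xa5 ya49 za5) (ka xa12 ya10 za61) (ka xa8 ya14 za49) (ka xa5 ya47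 za9) (ka xa7 ya59 za57) (ka xa4 ya40 za14) (ka xa6 ya12 za55) (ka xa4 ya40 za10) (ka xa4 ya40 za12) (ka xa4 ya40 za13) (ka xa5 ya58 za4) (ka xa3 ya5 za57) (ka xa3 ya5 za59) (ka xa3 ya5 za61) (ka xa3 ya6 za3) (ka xa9 ya16 za41) (ka xa12 ya11 za12) (ka xa12 ya11 za13) (ka xa12 ya11 za14) (ka xa12 ya11 za15) (ka xa4 ya41 za12) (ka xa6 ya12 za38) (ka xa6 ya12 za39) (ka xa12 ya11 za16) (ka xa12 ya11 za17) (ka xa6 ya32 za33) (ka xa9 ya28 za51) (ka xa4 ya47 za33) (ka xa4 ya47 za34) (ka xa4 ya47 za35) (ka xa4 ya47 za37) (ka xa4 ya47 za38) (ka xa4 ya47 za40) (ka xa4 ya47 za39) (ka xa12 ya11 za53) (ka xa9 ya28 za26) (ka xa6 ya33 za16) (ka xa6 ya33 za17) (ka xa6 ya12 za48) (ka xa6 ya31 za40) (ka xa6 ya31 za41) (ka xa6 ya31 za42) (ka xa6 ya12 za52) (ka xa6 ya12 za54) (ka xa4 ya53 za40) (ka xa6 ya12 za57) (ka xa6 ya12 za58) (ka xa6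 ya12 za60) (ka xa12 ya12 za9) (ka xa6 ya13 za0) (ka xa6 ya12 za46) (ka xa4 ya50 za28)) (@D3.rec (fun _ => Pt) (ka xa4 ya50 za27) (ka xa3 ya6 za13) (ka xa3 ya18 za49) (ka xa3 ya14 za39) (ka xa6 ya49 za3) (ka xa3 ya18 za20) (ka xa6 ya18 za44) (ka xa6 ya18 za43) (ka xa12 ya12 za26) (ka xa6 ya49 za0) (ka xa6 ya49 za1) (ka xa6 ya27 za52) (ka xa6 ya27 za51) (ka xa9 ya47 za41) (ka xa3 ya6 za28) (ka xa3 ya6 za29) (ka xa3 ya6 za30) (ka xa3 ya6 za31) (ka xa3 ya6 za32) (ka xa3 ya6 za33) (ka xa3 ya6 za38) (ka xa12 ya12 za44) (ka xa6 ya28 za8) (ka xa12 ya12 za48) (ka xa3 ya15 za17) (ka xa6 ya29 za22) (ka xa3 ya12 za37) (ka xa12 ya12 za38) (ka xa12 ya3 za4) (ka xa6 ya37 za4) (ka xa12 ya3 za2) (ka xa6 ya28 za34) (ka xa6 ya11 za10) (ka xa12 ya12 za39) (ka xa6 ya30 za30) (ka xa12 ya12 za40) (ka xa12 ya12 za41) (ka xa6 ya29 za61) (ka xa6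 ya59 za8) (ka xa6 ya37 za19) (ka xa6 ya59 za7) (ka xa6 ya22 za33) (ka xa6 ya22 za34) (ka xa6 ya18 za7) (ka xa6 ya18 za6) (ka xa6 ya27 za53) (ka xa6 ya27 za56) (ka xa12 ya13 za25) (ka xa12 ya12 za43) (ka xa6 ya29 za50) (ka xa6 ya28 za48) (ka xa6 ya28 za49) (ka xa6 ya29 za51) (ka xa12 ya13 za35) (ka xa6 ya27 za48) (ka xa6 ya27 za49) (ka xa6 ya27 za60) (ka xa6 ya27 za59) (ka xa3 ya6 za48) (ka xa6 ya27 za34) (ka xa3 ya53 za35) (ka xa6 ya50 za57)) (@D3.rec (fun _ => Pt) (ka xa11 ya30 za41) (ka xa3 ya6 za58) (ka xa6 ya52 za44) (ka xa6 ya30 za17) (ka xa6 ya28 za18) (ka xa6 ya29 za31) (ka xa6 ya30 za29) (ka xa6 ya28 za28) (ka xa6 ya28 za29) (ka xa7 ya31 za10) (ka xa6 ya29 za46) (ka xa7 ya31 za11) (ka xa7 ya31 za12) (ka xa6 ya20 za53) (ka xa4 ya11 za56) (ka xa6 ya49 za9) (ka xa6 ya9 za32) (ka xa4 ya47 za36) (ka xa12 ya14 za0) (ka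 xa6 ya28 za43) (ka xa6 ya28 za44) (ka xa6 ya28 za45) (ka xa6 ya28 za46) (ka xa6 ya28 za47) (ka xa6 ya29 za28) (ka xa9 ya21 za58) (ka xa9 ya21 za59) (ka xa6 ya28 za38) (ka xa6 ya38 za24) (ka xa6 ya28 za24) (ka xa6 ya28 za25) (ka xa6 ya23 za1) (ka xa6 ya28 za27) (ka xa6 ya28 za30) (ka xa9 ya19 za54) (ka xa9 ya19 za53) (ka xa11 ya48 za48) (ka xa11 ya48 za49) (ka xa3 ya7 za47) (ka xa3 ya7 za48) (ka xa3 ya7 za49) (ka xa3 ya7 za50) (ka xa3 ya7 za51) (ka xa9 ya15 za45) (ka xa3 ya7 za53) (ka xa3 ya7 za54) (ka xa6 ya59 za1) (ka xa3 ya7 za57) (ka xa9 ya15 za53) (ka xa9 ya20 za48) (ka xa11 ya36 za37) (ka xa6 ya35 za12) (ka xa6 ya37 za33) (ka xa9 ya19 za57) (ka xa6 ya20 za61) (ka xa6 ya21 za0) (ka xa3 ya7 za33) (ka xa6 ya39 za34) (ka xa4 ya44 za52) (ka xa4 ya45 za37) (ka xa9 ya26 za59) (ka xa6 ya38 za15)) (@D3.rec (fun _ => Pt) (ka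 xa6 ya39 za35) (ka xa6 ya10 za47) (ka xa6 ya23 za3) (ka xa6 ya47 za48) (ka xa6 ya40 za60) (ka xa6 ya49 za7) (ka xa6 ya29 za13) (ka xa9 ya19 za58) (ka xa7 ya30 za58) (ka xa3 ya7 za39) (ka xa12 ya14 za59) (ka xa7 ya31 za20) (ka xa12 ya14 za60) (ka xa9 ya10 za2) (ka xa9 ya19 za60) (ka xa9 ya10 za4) (ka xa9 ya10 za3) (ka xa9 ya10 za39) (ka xa6 ya47 za55) (ka xa6 ya47 za56) (ka xa6 ya51 za20) (ka xa3 ya20 za24) (ka xa6 ya29 za0) (ka xa6 ya28 za56) (ka xa9 ya12 za18) (ka xa12 ya14 za23) (ka xa12 ya14 za24) (ka xa12 ya14 za25) (ka xa12 ya15 za28) (ka xa3 ya19 za12) (ka xa10 ya14 za41) (ka xa12 ya15 za32) (ka xa11 ya10 za26) (ka xa12 ya14 za28) (ka xa6 ya29 za1) (ka xa11 ya10 za40) (ka xa6 ya59 za3) (ka xa3 ya7 za52) (ka xa4 ya47 za50) (ka xa12 ya15 za38) (ka xa7 ya31 za18) (ka xa8 ya34 za45) (ka xa5 ya30 za45) (ka xa6 ya29 za14)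 (ka xa8 ya35 za41) (ka xa3 ya7 za56) (ka xa4 ya45 za47) (ka xa12 ya15 za45) (ka xa7 ya44 za33) (ka xa11 ya31 za42) (ka xa12 ya15 za53) (ka xa4 ya43 za20) (ka xa3 ya8 za0) (ka xa6 ya19 za13) (ka xa3 ya8 za5) (ka xa9 ya15 za55) (ka xa12 ya15 za57) (ka xa3 ya11 za3) (ka xa8 ya23 za47) (ka xa9 ya15 za48) (ka xa9 ya21 za56) (ka xa6 ya19 za54)) (@D3.rec (fun _ => Pt) (ka xa6 ya19 za55) (ka xa4 ya53 za34) (ka xa4 ya53 za33) (ka xa3 ya8 za11) (ka xa4 ya59 za16) (ka xa3 ya8 za15) (ka xa3 ya8 za18) (ka xa12 ya16 za16) (ka xa3 ya22 za40) (ka xa12 ya16 za10) (ka xa6 ya37 za52) (ka xa6 ya50 za1) (ka xa3 ya17 za40) (ka xa6 ya59 za29) (ka xa12 ya16 za11) (ka xa12 ya16 za12) (ka xa12 ya16 za13) (ka xa6 ya59 za25) (ka xa6 ya23 za24) (ka xa12 ya16 za40) (ka xa6 ya23 za22) (ka xa6 ya23 za23) (ka xa9 ya18 za34) (ka xa7 ya31 za34) (ka xa3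 ya8 za26) (ka xa3 ya8 za27) (ka xa6 ya36 za29) (ka xa11 ya45 za14) (ka xa12 ya16 za47) (ka xa6 ya41 za8) (ka xa9 ya18 za38) (ka xa9 ya18 za37) (ka xa12 ya16 za48) (ka xa6 ya59 za27) (ka xa6 ya29 za58) (ka xa6 ya29 za57) (ka xa4 ya59 za38) (ka xa3 ya8 za29) (ka xa12 ya17 za5) (ka xa12 ya17 za6) (ka xa5 ya50 za32) (ka xa5 ya50 za33) (ka xa9 ya18 za31) (ka xa9 ya18 za32) (ka xa6 ya12 za45) (ka xa6 ya42 za52) (ka xa12 ya17 za17) (ka xa6 ya43 za5) (ka xa6 ya30 za26) (ka xa6 ya49 za53) (ka xa6 ya49 za58) (ka xa3 ya8 za39) (ka xa3 ya8 za40) (ka xa3 ya8 za41) (ka xa6 ya47 za39) (ka xa12 ya17 za31) (ka xa5 ya51 za36) (ka xa9 ya18 za29) (ka xa9 ya18 za28) (ka xa12 ya17 za25) (ka xa12 ya17 za26) (ka xa6 ya50 za54)) (@D3.rec (fun _ => Pt) (ka xa12 ya17 za27) (ka xa5 ya50 za27) (ka xa3 ya8 za42) (ka xa12 ya17 za46) (ka xa5 ya50 za37)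 (ka xa5 ya0 za16) (ka xa5 ya50 za39) (ka xa12 ya17 za51) (ka xa6 ya3 za32) (ka xa6 ya48 za26) (ka xa9 ya18 za18) (ka xa3 ya8 za48) (ka xa12 ya17 za55) (ka xa12 ya17 za58) (ka xa6 ya42 za59) (ka xa3 ya8 za51) (ka xa11 ya59 za51) (ka xa12 ya18 za3) (ka xa6 ya42 za61) (ka xa12 ya18 za6) (ka xa9 ya18 za43) (ka xa12 ya18 za12) (ka xa9 ya18 za45) (ka xa9 ya36 za44) (ka xa9 ya36 za43) (ka xa3 ya8 za55) (ka xa12 ya18 za20) (ka xa9 ya18 za50) (ka xa6 ya4 za5) (ka xa6 ya3 za33) (ka xa8 ya24 za31) (ka xa9 ya18 za51) (ka xa3 ya8 za61) (ka xa6 ya18 za41) (ka xa6 ya18 za42) (ka xa6 ya41 za30) (ka xa8 ya20 za50) (ka xa12 ya18 za44) (ka xa12 ya18 za33) (ka xa9 ya19 za1) (ka xa9 ya19 za0) (ka xa3 ya9 za1) (ka xa12 ya18 za54) (ka xa6 ya24 za1) (ka xa3 ya11 za5) (ka xa6 ya27 za31) (ka xa6 ya27 za32) (ka xa3 ya9 za7) (ka xa3 ya9 za8) (ka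 xa6 ya50 za58) (ka xa6 ya50 za59) (ka xa6 ya57 za57) (ka xa6 ya57 za56) (ka xa12 ya19 za14) (ka xa3 ya44 za24) (ka xa12 ya19 za1) (ka xa12 ya19 za2) (ka xa12 ya17 za33) (ka xa12 ya19 za3) (ka xa9 ya18 za53) (ka xa9 ya18 za52) (ka xa3 ya9 za9)) (@D3.rec (fun _ => Pt) (ka xa12 ya19 za34) (ka xa6 ya19 za31) (ka xa6 ya24 za20) (ka xa6 ya20 za2) (ka xa9 ya18 za22) (ka xa6 ya28 za57) (ka xa9 ya19 za4) (ka xa9 ya19 za5) (ka xa3 ya9 za15) (ka xa3 ya9 za16) (ka xa6 ya27 za37) (ka xa6 ya27 za36) (ka xa12 ya19 za52) (ka xa7 ya5 za25) (ka xa12 ya19 za45) (ka xa12 ya19 za46) (ka xa12 ya13 za54) (ka xa12 ya19 za47) (ka xa6 ya27 za45) (ka xa6 ya27 za44) (ka xa3 ya9 za17) (ka xa12 ya20 za4) (ka xa6 ya21 za20) (ka xa6 ya21 za21) (ka xa6 ya21 za18) (ka xa3 ya9 za26) (ka xa3 ya9 za22) (ka xa12 ya20 za12) (ka xa8 ya31 za34) (ka xa4 ya42 za25)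 (ka xa12 ya20 za10) (ka xa3 ya9 za23) (ka xa12 ya20 za26) (ka xa8 ya31 za33) (ka xa4 ya42 za24) (ka xa12 ya20 za24) (ka xa3 ya9 za25) (ka xa3 ya11 za55) (ka xa3 ya11 za54) (ka xa12 ya20 za36) (ka xa8 ya24 za3) (ka xa8 ya24 za29) (ka xa8 ya24 za30) (ka xa4 ya19 za35) (ka xa6 ya48 za41) (ka xa6 ya48 za45) (ka xa6 ya48 za50) (ka xa8 ya35 za43) (ka xa8 ya35 za21) (ka xa12 ya18 za61) (ka xa8 ya35 za18) (ka xa8 ya35 za19) (ka xa4 ya18 za30) (ka xa3 ya9 za34) (ka xa9 ya15 za54) (ka xa9 ya19 za14) (ka xa12 ya21 za2) (ka xa12 ya20 za58) (ka xa6 ya9 za40) (ka xa6 ya48 za58) (ka xa6 ya48 za54) (ka xa3 ya9 za36)) (@D3.rec (fun _ => Pt) (ka xa12 ya21 za14) (ka xa6 ya22 za43) (ka xa7 ya11 za45) (ka xa3 ya9 za42) (ka xa3 ya9 za43) (ka xa3 ya53 za38) (ka xa12 ya21 za27) (ka xa3 ya39 za43) (ka xa12 ya21 za20) (ka xa12 ya3 za16) (ka xa12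 ya21 za21) (ka xa12 ya21 za22) (ka xa7 ya11 za42) (ka xa7 ya11 za41) (ka xa3 ya9 za44) (ka xa12 ya21 za44) (ka xa9 ya19 za22) (ka xa12 ya21 za48) (ka xa9 ya19 za23) (ka xa9 ya19 za18) (ka xa6 ya23 za2) (ka xa4 ya39 za38) (ka xa4 ya39 za39) (ka xa4 ya39 za40) (ka xa8 ya46 za2) (ka xa8 ya46 za3) (ka xa4 ya34 za20) (ka xa5 ya56 za10) (ka xa5 ya56 za11) (ka xa8 ya45 za39) (ka xa6 ya7 za40) (ka xa9 ya19 za46) (ka xa4 ya56 za41) (ka xa5 ya56 za8) (ka xa5 ya13 za10) (ka xa5 ya13 za11) (ka xa8 ya43 za23) (ka xa3 ya9 za58) (ka xa3 ya9 za59) (ka xa9 ya12 za56) (ka xa12 ya22 za7) (ka xa12 ya22 za8) (ka xa12 ya22 za9) (ka xa11 ya23 za46) (ka xa12 ya22 za10) (ka xa4 ya36 za58) (ka xa5 ya47 za54) (ka xa12 ya22 za28) (ka xa8 ya46 za28) (ka xa8 ya46 za29) (ka xa8 ya46 za33) (ka xa8 ya46 za31) (ka xa8 ya46 za32) (ka xa8 ya46 za27) (ka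 xa8 ya46 za34) (ka xa8 ya46 za35) (ka xa7 ya25 za12) (ka xa8 ya45 za34) (ka xa4 ya0 za9) (ka xa4 ya0 za10) (ka xa7 ya23 za6) (ka xa7 ya23 za5)) (@D3.rec (fun _ => Pt) (ka xa7 ya12 za5) (ka xa7 ya23 za1) (ka xa8 ya46 za38) (ka xa4 ya25 za59) (ka xa5 ya55 za29) (ka xa5 ya56 za13) (ka xa9 ya17 za45) (ka xa5 ya56 za30) (ka xa5 ya56 za29) (ka xa5 ya56 za37) (ka xa4 ya40 za3) (ka xa5 ya56 za40) (ka xa5 ya56 za12) (ka xa8 ya52 za50) (ka xa8 ya42 za49) (ka xa6 ya38 za53) (ka xa4 ya38 za3) (ka xa5 ya56 za31) (ka xa4 ya40 za57) (ka xa5 ya42 za3) (ka xa5 ya56 za33) (ka xa5 ya42 za2) (ka xa9 ya11 za1) (ka xa12 ya23 za39) (ka xa12 ya10 za46) (ka xa9 ya15 za1) (ka xa3 ya10 za22) (ka xa5 ya34 za46) (ka xa5 ya34 za49) (ka xa3 ya33 za37) (ka xa4 ya57 za21) (ka xa3 ya10 za26) (ka xa5 ya50 za49) (ka xa5 ya50 za50) (ka xa5 ya50 za51) (ka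 xa5 ya50 za52) (ka xa4 ya59 za10) (ka xa6 ya52 za45) (ka xa3 ya15 za58) (ka xa6 ya10 za16) (ka xa6 ya11 za25) (ka xa6 ya11 za28) (ka xa6 ya11 za39) (ka xa6 ya34 za49) (ka xa5 ya45 za59) (ka xa6 ya26 za13) (ka xa12 ya23 za59) (ka xa12 ya23 za61) (ka xa12 ya24 za1) (ka xa11 ya33 za28) (ka xa3 ya59 za48) (ka xa3 ya10 za43) (ka xa10 ya5 za10) (ka xa6 ya12 za30) (ka xa4 ya59 za61) (ka xa9 ya18 za10) (ka xa3 ya10 za45) (ka xa9 ya12 za36) (ka xa3 ya10 za46) (ka xa12 ya24 za7) (ka xa12 ya24 za8) (ka xa3 ya23 za22)) (@D3.rec (fun _ => Pt) (ka xa5 ya55 za18) (ka xa5 ya55 za14) (ka xa11 ya21 za9) (ka xa11 ya50 za30) (ka xa10 ya17 za50) (ka xa12 ya24 za15) (ka xa6 ya47 za43) (ka xa9 ya32 za37) (ka xa6 ya32 za41) (ka xa12 ya24 za22) (ka xa6 ya9 za25) (ka xa6 ya42 za43) (ka xa4 ya41 za61) (ka xa6 ya25 za45) (ka xa12 ya24 za29) (ka xa3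 ya45 za8) (ka xa8 ya35 za15) (ka xa12 ya24 za33) (ka xa3 ya11 za1) (ka xa6 ya48 za6) (ka xa12 ya24 za36) (ka xa12 ya24 za38) (ka xa12 ya20 za43) (ka xa12 ya20 za39) (ka xa3 ya11 za4) (ka xa4 ya18 za49) (ka xa6 ya50 za9) (ka xa6 ya50 za13) (ka xa12 ya24 za51) (ka xa6 ya42 za6) (ka xa7 ya20 za3) (ka xa7 ya20 za4) (ka xa7 ya20 za5) (ka xa5 ya48 za53) (ka xa3 ya11 za10) (ka xa12 ya25 za3) (ka xa5 ya48 za51) (ka xa9 ya20 za14) (ka xa9 ya20 za15) (ka xa6 ya43 za53) (ka xa6 ya43 za54) (ka xa12 ya25 za17) (ka xa6 ya44 za8) (ka xa3 ya18 za19) (ka xa9 ya20 za10) (ka xa3 ya11 za17) (ka xa3 ya11 za18) (ka xa3 ya11 za19) (ka xa11 ya43 za50) (ka xa12 ya25 za23) (ka xa9 ya20 za12) (ka xa9 ya20 za11) (ka xa12 ya25 za24) (ka xa3 ya18 za11) (ka xa3 ya45 za22) (ka xa4 ya59 za29) (ka xa3 ya11 za20) (ka xa12 ya25 za35) (ka xa12 ya25 za36)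 (ka xa5 ya46 za9) (ka xa5 ya48 za58) (ka xa5 ya48 za59)) (@D3.rec (fun _ => Pt) (ka xa12 ya25 za47) (ka xa6 ya44 za9) (ka xa5 ya52 za0) (ka xa3 ya11 za25) (ka xa12 ya25 za50) (ka xa12 ya25 za51) (ka xa12 ya25 za52) (ka xa12 ya25 za57) (ka xa6 ya43 za61) (ka xa3 ya11 za29) (ka xa12 ya25 za59) (ka xa6 ya59 za5) (ka xa12 ya26 za0) (ka xa6 ya44 za1) (ka xa6 ya44 za2) (ka xa12 ya26 za5) (ka xa8 ya25 za30) (ka xa12 ya26 za8) (ka xa9 ya20 za24) (ka xa9 ya20 za25) (ka xa12 ya26 za12) (ka xa12 ya26 za17) (ka xa3 ya11 za34) (ka xa12 ya26 za21) (ka xa12 ya26 za11) (ka xa9 ya20 za29) (ka xa9 ya20 za30) (ka xa9 ya20 za31) (ka xa3 ya25 za61) (ka xa3 ya11 za42) (ka xa3 ya11 za43) (ka xa6 ya22 za45) (ka xa6 ya22 za46) (ka xa3 ya28 za37) (ka xa6 ya18 za59) (ka xa3 ya23 za17) (ka xa6 ya23 za11) (ka xa6 ya23 za10) (ka xa12 ya26 za41) (ka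 xa6 ya58 za6) (ka xa12 ya26 za31) (ka xa7 ya20 za10) (ka xa12 ya26 za32) (ka xa12 ya26 za33) (ka xa6 ya23 za19) (ka xa6 ya23 za18) (ka xa3 ya11 za44) (ka xa12 ya26 za55) (ka xa6 ya18 za54) (ka xa6 ya18 za55) (ka xa3 ya11 za52) (ka xa6 ya18 za12) (ka xa6 ya18 za11) (ka xa6 ya18 za45) (ka xa4 ya18 za27) (ka xa6 ya9 za59) (ka xa6 ya18 za46) (ka xa12 ya27 za13) (ka xa12 ya13 za29) (ka xa6 ya18 za57) (ka xa6 ya18 za56) (ka xa3 ya11 za53)) (@D3.rec (fun _ => Pt) (ka xa12 ya27 za20) (ka xa12 ya20 za41) (ka xa12 ya20 za42) (ka xa12 ya27 za29) (ka xa12 ya20 za38) (ka xa12 ya18 za37) (ka xa6 ya48 za27) (ka xa12 ya27 za35) (ka xa6 ya18 za22) (ka xa6 ya48 za28) (ka xa4 ya41 za59) (ka xa9 ya7 za28) (ka xa9 ya7 za27) (ka xa3 ya12 za30) (ka xa3 ya45 za16) (ka xa3 ya12 za32) (ka xa3 ya12 za34) (ka xa12 ya0 za3) (ka xa6 ya19 za4) (ka xa12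 ya0 za4) (ka xa11 ya38 za28) (ka xa3 ya17 za33) (ka xa3 ya17 za36) (ka xa3 ya17 za3) (ka xa6 ya19 za29) (ka xa6 ya19 za30) (ka xa6 ya11 za27) (ka xa6 ya19 za32) (ka xa6 ya19 za7) (ka xa6 ya19 za8) (ka xa6 ya19 za33) (ka xa3 ya12 za16) (ka xa7 ya32 za6) (ka xa4 ya44 za45) (ka xa6 ya18 za31) (ka xa12 ya27 za60) (ka xa8 ya23 za25) (ka xa12 ya27 za61) (ka xa6 ya19 za27) (ka xa3 ya12 za17) (ka xa3 ya16 za10) (ka xa12 ya28 za2) (ka xa3 ya17 za37) (ka xa6 ya19 za19) (ka xa6 ya19 za20) (ka xa6 ya19 za21) (ka xa6 ya19 za22) (ka xa6 ya19 za23) (ka xa6 ya18 za50) (ka xa6 ya18 za51) (ka xa9 ya20 za44) (ka xa6 ya36 za54) (ka xa3 ya12 za24) (ka xa11 ya40 za32) (ka xa4 ya37 za55) (ka xa10 ya6 za5) (ka xa6 ya20 za23) (ka xa6 ya23 za5) (ka xa9 ya20 za47) (ka xa6 ya44 za24) (ka xa6 ya44 za23) (ka xa6 ya44 za35)) (@D3.rec (fun _ => Pt) (ka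 xa6 ya20 za22) (ka xa6 ya20 za34) (ka xa9 ya20 za46) (ka xa12 ya28 za28) (ka xa10 ya0 za40) (ka xa12 ya27 za47) (ka xa3 ya12 za31) (ka xa4 ya44 za17) (ka xa12 ya28 za33) (ka xa12 ya28 za34) (ka xa6 ya11 za1) (ka xa10 ya27 za49) (ka xa12 ya27 za49) (ka xa6 ya20 za6) (ka xa6 ya20 za43) (ka xa8 ya33 za29) (ka xa11 ya24 za12) (ka xa3 ya12 za38) (ka xa3 ya12 za39) (ka xa3 ya12 za40) (ka xa3 ya12 za41) (ka xa3 ya16 za32) (ka xa6 ya18 za25) (ka xa12 ya12 za54) (ka xa6 ya11 za17) (ka xa6 ya11 za32) (ka xa12 ya28 za51) (ka xa12 ya28 za52) (ka xa6 ya19 za24) (ka xa12 ya28 za53) (ka xa9 ya20 za42) (ka xa6 ya19 za5) (ka xa12 ya2 za46) (ka xa3 ya45 za25) (ka xa11 ya24 za44) (ka xa3 ya12 za49) (ka xa3 ya12 za50) (ka xa3 ya12 za51) (ka xa3 ya12 za52) (ka xa6 ya51 za56) (ka xa12 ya11 za31) (ka xa12 ya29 za10) (ka xa12 ya29 za11) (ka xa12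 ya29 za12) (ka xa12 ya29 za13) (ka xa12 ya17 za35) (ka xa6 ya19 za10) (ka xa11 ya2 za7) (ka xa12 ya16 za57) (ka xa9 ya20 za38) (ka xa6 ya18 za49) (ka xa6 ya18 za52) (ka xa3 ya12 za59) (ka xa3 ya12 za60) (ka xa12 ya29 za30) (ka xa6 ya34 za39) (ka xa6 ya34 za40) (ka xa6 ya21 za35) (ka xa6 ya21 za34) (ka xa12 ya29 za27) (ka xa3 ya28 za39) (ka xa6 ya18 za37)) (@D3.rec (fun _ => Pt) (ka xa12 ya2 za36) (ka xa12 ya29 za28) (ka xa4 ya59 za5) (ka xa3 ya12 za61) (ka xa12 ya29 za44) (ka xa5 ya52 za46) (ka xa12 ya29 za49) (ka xa6 ya49 za22) (ka xa3 ya13 za10) (ka xa3 ya13 za11) (ka xa12 ya29 za55) (ka xa6 ya32 za6) (ka xa6 ya32 za7) (ka xa3 ya23 za54) (ka xa6 ya50 za46) (ka xa9 ya32 za32) (ka xa12 ya29 za51) (ka xa6 ya19 za3) (ka xa12 ya29 za52) (ka xa12 ya29 za53) (ka xa5 ya52 za42) (ka xa3 ya13 za12) (ka xa12 ya30 za3) (ka xa12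 ya30 za4) (ka xa4 ya57 za53) (ka xa5 ya52 za51) (ka xa6 ya21 za48) (ka xa3 ya18 za30) (ka xa3 ya17 za5) (ka xa6 ya19 za6) (ka xa6 ya18 za34) (ka xa6 ya52 za26) (ka xa3 ya13 za21) (ka xa12 ya30 za13) (ka xa5 ya51 za54) (ka xa5 ya51 za55) (ka xa5 ya51 za56) (ka xa4 ya58 za45) (ka xa3 ya13 za26) (ka xa8 ya0 za37) (ka xa12 ya30 za17) (ka xa5 ya51 za61) (ka xa3 ya32 za61) (ka xa3 ya33 za1) (ka xa3 ya33 za2) (ka xa10 ya4 za28) (ka xa6 ya31 za26) (ka xa6 ya50 za55) (ka xa6 ya31 za25) (ka xa7 ya20 za2) (ka xa3 ya13 za35) (ka xa12 ya30 za24) (ka xa6 ya49 za30) (ka xa6 ya53 za49) (ka xa7 ya26 za52) (ka xa7 ya26 za53) (ka xa6 ya50 za7) (ka xa3 ya21 za59) (ka xa3 ya21 za60) (ka xa3 ya22 za4) (ka xa7 ya26 za55) (ka xa7 ya26 za56)) (@D3.rec (fun _ => Pt) (ka xa3 ya22 za15) (ka xa7 ya20 za9) (ka xa7 ya20 za11) (ka xa12 ya30 za45) (ka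 xa7 ya26 za58) (ka xa11 ya18 za60) (ka xa6 ya1 za25) (ka xa6 ya46 za19) (ka xa4 ya42 za60) (ka xa7 ya26 za48) (ka xa7 ya26 za28) (ka xa7 ya26 za27) (ka xa11 ya31 za4) (ka xa3 ya14 za14) (ka xa3 ya14 za15) (ka xa3 ya14 za18) (ka xa3 ya14 za19) (ka xa3 ya14 za20) (ka xa3 ya14 za21) (ka xa5 ya55 za21) (ka xa11 ya21 za28) (ka xa7 ya26 za60) (ka xa3 ya13 za55) (ka xa4 ya26 za16) (ka xa11 ya40 za48) (ka xa6 ya30 za48) (ka xa6 ya30 za46) (ka xa7 ya27 za12) (ka xa7 ya27 za13) (ka xa7 ya27 za14) (ka xa11 ya40 za45) (ka xa6 ya49 za20) (ka xa7 ya27 za34) (ka xa6 ya42 za40) (ka xa7 ya27 za9) (ka xa7 ya27 za8) (ka xa3 ya13 za60) (ka xa5 ya6 za35) (ka xa7 ya27 za1) (ka xa7 ya27 za3) (ka xa6 ya17 za49) (ka xa6 ya17 za50) (ka xa6 ya17 za51) (ka xa7 ya27 za6) (ka xa7 ya27 za7) (ka xa7 ya27 za19) (ka xa7 ya27 za18) (ka xa3 ya14 za4) (ka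 xa12 ya31 za30) (ka xa12 ya31 za31) (ka xa6 ya42 za13) (ka xa7 ya27 za27) (ka xa7 ya27 za24) (ka xa7 ya27 za23) (ka xa3 ya14 za7) (ka xa8 ya50 za45) (ka xa10 ya6 za59) (ka xa4 ya59 za56) (ka xa4 ya59 za57) (ka xa7 ya27 za22) (ka xa12 ya31 za44) (ka xa7 ya25 za22)) (@D3.rec (fun _ => Pt) (ka xa7 ya57 za10) (ka xa7 ya29 za15) (ka xa7 ya29 za16) (ka xa7 ya29 za17) (ka xa7 ya29 za18) (ka xa12 ya31 za61) (ka xa6 ya30 za11) (ka xa6 ya30 za12) (ka xa10 ya52 za17) (ka xa10 ya52 za18) (ka xa12 ya29 za61) (ka xa12 ya31 za0) (ka xa12 ya31 za1) (ka xa9 ya21 za54) (ka xa6 ya41 za1) (ka xa8 ya21 za44) (ka xa12 ya32 za15) (ka xa12 ya31 za3) (ka xa10 ya15 za25) (ka xa3 ya21 za21) (ka xa10 ya17 za24) (ka xa4 ya45 za30) (ka xa4 ya48 za26) (ka xa12 ya4 za20) (ka xa12 ya32 za27) (ka xa12 ya31 za4) (ka xa12 ya4 za21) (ka xa6 ya42 za29) (ka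 xa6 ya42 za33) (ka xa3 ya45 za15) (ka xa9 ya21 za34) (ka xa9 ya21 za35) (ka xa6 ya47 za16) (ka xa6 ya17 za35) (ka xa9 ya17 za36) (ka xa12 ya32 za46) (ka xa12 ya1 za50) (ka xa12 ya1 za51) (ka xa6 ya37 za9) (ka xa6 ya37 za12) (ka xa6 ya44 za31) (ka xa6 ya26 za8) (ka xa6 ya49 za41) (ka xa6 ya47 za0) (ka xa7 ya40 za52) (ka xa6 ya59 za0) (ka xa6 ya50 za48) (ka xa9 ya21 za0) (ka xa7 ya43 za3) (ka xa12 ya2 za0) (ka xa3 ya17 za18) (ka xa3 ya17 za19) (ka xa12 ya0 za46) (ka xa7 ya41 za54) (ka xa7 ya42 za40) (ka xa3 ya24 za41) (ka xa7 ya43 za4) (ka xa6 ya52 za55) (ka xa9 ya20 za50) (ka xa3 ya22 za7) (ka xa9 ya20 za54) (ka xa3 ya22 za18)) (@D3.rec (fun _ => Pt) (ka xa3 ya22 za19) (ka xa3 ya22 za23) (ka xa3 ya22 za24) (ka xa9 ya20 za55) (ka xa8 ya23 za31) (ka xa12 ya33 za29) (ka xa9 ya20 za57) (ka xa9 ya21 za2) (ka xa9 ya21 za1) (ka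 xa6 ya53 za14) (ka xa3 ya15 za4) (ka xa12 ya33 za42) (ka xa9 ya16 za51) (ka xa9 ya21 za13) (ka xa9 ya21 za14) (ka xa9 ya21 za15) (ka xa6 ya17 za46) (ka xa6 ya17 za47) (ka xa9 ya21 za17) (ka xa6 ya55 za61) (ka xa9 ya21 za40) (ka xa9 ya21 za41) (ka xa6 ya55 za59) (ka xa6 ya55 za60) (ka xa6 ya56 za0) (ka xa3 ya48 za13) (ka xa9 ya21 za5) (ka xa9 ya21 za6) (ka xa9 ya21 za7) (ka xa7 ya34 za53) (ka xa7 ya38 za5) (ka xa7 ya38 za6) (ka xa9 ya21 za18) (ka xa3 ya29 za24) (ka xa3 ya30 za41) (ka xa12 ya33 za38) (ka xa12 ya33 za39) (ka xa9 ya21 za9) (ka xa9 ya21 za10) (ka xa3 ya16 za14) (ka xa3 ya16 za13) (ka xa9 ya10 za57) (ka xa3 ya18 za21) (ka xa3 ya18 za18) (ka xa3 ya18 za42) (ka xa3 ya16 za37) (ka xa3 ya18 za44) (ka xa3 ya18 za45) (ka xa3 ya18 za46) (ka xa3 ya18 za48) (ka xa3 ya18 za41) (ka xa12 ya34 za35) (ka xa3 ya18 za56) (ka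 xa9 ya20 za59) (ka xa6 ya40 za53) (ka xa12 ya1 za30) (ka xa12 ya1 za29) (ka xa3 ya15 za16) (ka xa12 ya34 za41) (ka xa12 ya12 za50) (ka xa12 ya1 za48) (ka xa3 ya34 za31)) (@D3.rec (fun _ => Pt) (ka xa3 ya36 za43) (ka xa3 ya38 za21) (ka xa3 ya38 za48) (ka xa3 ya30 za24) (ka xa3 ya32 za34) (ka xa3 ya29 za50) (ka xa3 ya29 za49) (ka xa3 ya15 za23) (ka xa12 ya34 za53) (ka xa3 ya30 za1) (ka xa3 ya56 za50) (ka xa6 ya53 za1) (ka xa7 ya31 za26) (ka xa3 ya15 za27) (ka xa12 ya28 za16) (ka xa12 ya34 za60) (ka xa6 ya36 za55) (ka xa7 ya31 za24) (ka xa3 ya15 za30) (ka xa12 ya35 za7) (ka xa6 ya36 za53) (ka xa7 ya31 za31) (ka xa7 ya31 za32) (ka xa9 ya7 za29) (ka xa9 ya7 za26) (ka xa3 ya15 za35) (ka xa12 ya34 za43) (ka xa12 ya34 za42) (ka xa6 ya47 za59) (ka xa12 ya14 za57) (ka xa7 ya30 za60) (ka xa7 ya31 za8) (ka xa7 ya34 za22) (ka xa7 ya34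 za26) (ka xa12 ya1 za43) (ka xa12 ya1 za44) (ka xa7 ya31 za51) (ka xa7 ya31 za52) (ka xa12 ya35 za42) (ka xa6 ya29 za55) (ka xa6 ya29 za56) (ka xa12 ya1 za45) (ka xa12 ya1 za46) (ka xa12 ya1 za47) (ka xa12 ya35 za56) (ka xa9 ya21 za36) (ka xa9 ya21 za37) (ka xa6 ya40 za20) (ka xa6 ya38 za6) (ka xa6 ya25 za43) (ka xa12 ya1 za33) (ka xa12 ya1 za32) (ka xa3 ya15 za46) (ka xa12 ya36 za1) (ka xa3 ya29 za57) (ka xa3 ya15 za48) (ka xa3 ya39 za48) (ka xa6 ya37 za41) (ka xa12 ya1 za36) (ka xa6 ya37 za40) (ka xa12 ya1 za35) (ka xa3 ya15 za54)) (@D3.rec (fun _ => Pt) (ka xa11 ya48 za56) (ka xa11 ya48 za57) (ka xa3 ya17 za9) (ka xa11 ya48 za58) (ka xa12 ya12 za47) (ka xa12 ya12 za46) (ka xa11 ya37 za19) (ka xa7 ya32 za58) (ka xa7 ya33 za0) (ka xa12 ya1 za31) (ka xa11 ya50 za5) (ka xa12 ya36 za29) (ka xa6 ya19 za51) (ka xa3 ya17 za8)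 (ka xa3 ya15 za59) (ka xa5 ya56 za41) (ka xa12 ya36 za32) (ka xa3 ya16 za48) (ka xa3 ya16 za49) (ka xa3 ya16 za50) (ka xa3 ya16 za51) (ka xa3 ya16 za52) (ka xa3 ya16 za56) (ka xa3 ya16 za57) (ka xa3 ya16 za59) (ka xa3 ya16 za60) (ka xa11 ya48 za60) (ka xa11 ya48 za61) (ka xa3 ya17 za13) (ka xa3 ya17 za15) (ka xa3 ya17 za16) (ka xa3 ya17 za17) (ka xa3 ya17 za23) (ka xa3 ya17 za25) (ka xa3 ya17 za26) (ka xa3 ya17 za34) (ka xa3 ya17 za35) (ka xa3 ya17 za28) (ka xa3 ya17 za27) (ka xa12 ya28 za3) (ka xa3 ya17 za38) (ka xa3 ya17 za39) (ka xa10 ya6 za36) (ka xa12 ya34 za17) (ka xa7 ya2 za7) (ka xa12 ya34 za18) (ka xa12 ya37 za34) (ka xa12 ya34 za14) (ka xa7 ya2 za6) (ka xa12 ya34 za15) (ka xa3 ya16 za16) (ka xa3 ya16 za17) (ka xa3 ya51 za28) (ka xa3 ya51 za27) (ka xa12 ya37 za42) (ka xa12 ya37 za43) (ka xa12 ya37 za44) (ka xa12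 ya37 za45) (ka xa12 ya37 za46) (ka xa3 ya18 za1) (ka xa3 ya18 za2) (ka xa3 ya18 za3)) (@D3.rec (fun _ => Pt) (ka xa3 ya18 za4) (ka xa3 ya18 za8) (ka xa12 ya38 za12) (ka xa3 ya18 za12) (ka xa3 ya18 za13) (ka xa3 ya18 za14) (ka xa3 ya18 za15) (ka xa3 ya18 za16) (ka xa3 ya18 za17) (ka xa3 ya18 za23) (ka xa12 ya38 za27) (ka xa3 ya18 za25) (ka xa3 ya18 za28) (ka xa12 ya38 za33) (ka xa3 ya18 za36) (ka xa3 ya18 za37) (ka xa12 ya38 za39) (ka xa3 ya16 za33) (ka xa3 ya16 za34) (ka xa3 ya16 za36) (ka xa9 ya47 za18) (ka xa3 ya22 za41) (ka xa12 ya36 za53) (ka xa12 ya36 za52) (ka xa3 ya16 za31) (ka xa12 ya38 za44) (ka xa12 ya28 za54) (ka xa4 ya42 za7) (ka xa12 ya38 za41) (ka xa6 ya21 za26) (ka xa12 ya12 za29) (ka xa9 ya29 za46) (ka xa9 ya28 za46) (ka xa8 ya34 za10) (ka xa6 ya11 za36) (ka xa12 ya27 za8) (ka xa4 ya17 za50) (ka xa7 ya31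 za4) (ka xa7 ya31 za3) (ka xa3 ya16 za38) (ka xa7 ya30 za61) (ka xa3 ya16 za40) (ka xa12 ya39 za11) (ka xa7 ya31 za9) (ka xa9 ya18 za13) (ka xa9 ya12 za57) (ka xa3 ya16 za45) (ka xa5 ya56 za42) (ka xa12 ya39 za18) (ka xa12 ya39 za19) (ka xa12 ya39 za20) (ka xa12 ya39 za21) (ka xa12 ya39 za31) (ka xa6 ya34 za20) (ka xa6 ya28 za51) (ka xa6 ya34 za16) (ka xa7 ya39 za54) (ka xa7 ya39 za58) (ka xa12 ya36 za38) (ka xa12 ya36 za39) (ka xa12 ya39 za47) (ka xa12 ya36 za41)) (@D3.rec (fun _ => Pt) (ka xa12 ya39 za52) (ka xa3 ya28 za40) (ka xa12 ya36 za42) (ka xa12 ya36 za43) (ka xa6 ya18 za29) (ka xa12 ya36 za44) (ka xa12 ya36 za45) (ka xa12 ya37 za30) (ka xa9 ya28 za56) (ka xa6 ya32 za38) (ka xa9 ya28 za58) (ka xa9 ya28 za59) (ka xa6 ya32 za39) (ka xa12 ya36 za47) (ka xa12 ya36 za48) (ka xa9 ya29 za2) (ka xa6 ya11 za33) (ka xa12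 ya36 za49) (ka xa12 ya36 za50) (ka xa6 ya18 za39) (ka xa12 ya40 za29) (ka xa12 ya36 za51) (ka xa8 ya22 za6) (ka xa12 ya40 za37) (ka xa3 ya17 za4) (ka xa12 ya36 za28) (ka xa12 ya36 za27) (ka xa3 ya17 za2) (ka xa12 ya37 za33) (ka xa12 ya40 za43) (ka xa9 ya59 za9) (ka xa4 ya43 za19) (ka xa12 ya40 za39) (ka xa6 ya19 za52) (ka xa8 ya34 za44) (ka xa9 ya11 za14) (ka xa12 ya36 za31) (ka xa12 ya36 za12) (ka xa3 ya17 za11) (ka xa3 ya17 za12) (ka xa6 ya34 za59) (ka xa6 ya34 za57) (ka xa12 ya40 za58) (ka xa12 ya40 za59) (ka xa12 ya40 za60) (ka xa12 ya40 za61) (ka xa12 ya41 za0) (ka xa7 ya38 za27) (ka xa7 ya38 za31) (ka xa12 ya36 za58) (ka xa12 ya36 za59) (ka xa9 ya48 za57) (ka xa6 ya21 za10) (ka xa12 ya36 za61) (ka xa6 ya40 za56) (ka xa12 ya37 za0) (ka xa12 ya37 za1) (ka xa12 ya37 za2) (ka xa12 ya37 za3) (ka xa12 ya33 za3) (ka xa9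 ya29 za42) (ka xa9 ya29 za41)) (@D3.rec (fun _ => Pt) (ka xa12 ya33 za4) (ka xa12 ya37 za39) (ka xa9 ya29 za40) (ka xa6 ya40 za54) (ka xa9 ya29 za43) (ka xa12 ya37 za4) (ka xa6 ya34 za48) (ka xa9 ya29 za45) (ka xa12 ya37 za5) (ka xa12 ya37 za6) (ka xa12 ya42 za5) (ka xa12 ya37 za8) (ka xa12 ya37 za9) (ka xa9 ya11 za47) (ka xa12 ya37 za15) (ka xa6 ya19 za61) (ka xa12 ya37 za16) (ka xa12 ya23 za43) (ka xa12 ya37 za13) (ka xa6 ya0 za30) (ka xa12 ya37 za14) (ka xa3 ya17 za32) (ka xa7 ya40 za56) (ka xa4 ya44 za40) (ka xa6 ya19 za28) (ka xa12 ya42 za21) (ka xa12 ya42 za22) (ka xa12 ya12 za3) (ka xa12 ya42 za23) (ka xa12 ya27 za51) (ka xa12 ya27 za52) (ka xa12 ya19 za39) (ka xa12 ya27 za53) (ka xa12 ya37 za10) (ka xa12 ya37 za11) (ka xa12 ya37 za12) (ka xa12 ya11 za60) (ka xa9 ya11 za40) (ka xa12 ya27 za55) (ka xa12 ya28 za8)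 (ka xa9 ya59 za5) (ka xa12 ya28 za9) (ka xa12 ya28 za10) (ka xa12 ya37 za20) (ka xa12 ya37 za21) (ka xa12 ya37 za22) (ka xa12 ya37 za23) (ka xa12 ya37 za24) (ka xa12 ya37 za25) (ka xa12 ya37 za26) (ka xa12 ya16 za27) (ka xa9 ya11 za39) (ka xa3 ya17 za41) (ka xa6 ya25 za15) (ka xa12 ya43 za24) (ka xa9 ya11 za51) (ka xa4 ya39 za60) (ka xa5 ya50 za53) (ka xa9 ya11 za52) (ka xa9 ya11 za34) (ka xa9 ya11 za53) (ka xa9 ya11 za54)) (@D3.rec (fun _ => Pt) (ka xa9 ya11 za48) (ka xa11 ya38 za30) (ka xa9 ya11 za44) (ka xa9 ya11 za23) (ka xa9 ya11 za45) (ka xa9 ya11 za46) (ka xa3 ya17 za53) (ka xa3 ya17 za54) (ka xa3 ya17 za55) (ka xa3 ya17 za56) (ka xa3 ya17 za57) (ka xa5 ya55 za42) (ka xa5 ya50 za15) (ka xa6 ya7 za28) (ka xa8 ya49 za25) (ka xa9 ya11 za56) (ka xa6 ya54 za19) (ka xa8 ya50 za4) (ka xa12 ya43 za51) (ka xa12 ya43 za52)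 (ka xa12 ya43 za53) (ka xa12 ya43 za54) (ka xa9 ya59 za52) (ka xa9 ya50 za32) (ka xa12 ya43 za56) (ka xa12 ya43 za57) (ka xa12 ya44 za36) (ka xa12 ya43 za59) (ka xa12 ya43 za60) (ka xa12 ya43 za61) (ka xa12 ya44 za0) (ka xa12 ya44 za1) (ka xa12 ya44 za2) (ka xa12 ya44 za3) (ka xa6 ya19 za57) (ka xa6 ya20 za0) (ka xa12 ya2 za3) (ka xa12 ya2 za4) (ka xa12 ya2 za5) (ka xa12 ya2 za6) (ka xa12 ya1 za58) (ka xa12 ya1 za59) (ka xa12 ya1 za60) (ka xa12 ya1 za61) (ka xa3 ya47 za40) (ka xa3 ya47 za39) (ka xa6 ya0 za55) (ka xa3 ya51 za48) (ka xa3 ya51 za49) (ka xa3 ya51 za50) (ka xa3 ya51 za47) (ka xa9 ya23 za51) (ka xa12 ya38 za0) (ka xa12 ya38 za1) (ka xa12 ya38 za2) (ka xa12 ya38 za3) (ka xa12 ya38 za4) (ka xa12 ya38 za5) (ka xa12 ya38 za6) (ka xa12 ya38 za7) (ka xa3 ya51 za34) (ka xa3 ya51 za31)) (@D3.rec (fun _ => Pt) (ka xa3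 ya51 za32) (ka xa3 ya51 za33) (ka xa12 ya38 za11) (ka xa3 ya18 za6) (ka xa12 ya46 za0) (ka xa12 ya46 za1) (ka xa5 ya11 za14) (ka xa3 ya22 za43) (ka xa12 ya38 za8) (ka xa12 ya38 za9) (ka xa12 ya38 za10) (ka xa9 ya59 za2) (ka xa5 ya11 za23) (ka xa9 ya59 za8) (ka xa3 ya18 za10) (ka xa12 ya46 za19) (ka xa9 ya32 za39) (ka xa3 ya22 za42) (ka xa10 ya13 za19) (ka xa12 ya38 za15) (ka xa6 ya34 za47) (ka xa12 ya38 za16) (ka xa12 ya17 za1) (ka xa12 ya46 za28) (ka xa12 ya38 za18) (ka xa12 ya38 za19) (ka xa12 ya46 za38) (ka xa10 ya16 za41) (ka xa11 ya37 za29) (ka xa12 ya38 za21) (ka xa12 ya38 za22) (ka xa11 ya23 za14) (ka xa10 ya13 za11) (ka xa11 ya23 za17) (ka xa12 ya38 za23) (ka xa12 ya34 za24) (ka xa12 ya42 za15) (ka xa12 ya25 za20) (ka xa12 ya42 za58) (ka xa12 ya12 za20) (ka xa12 ya34 za23) (ka xa12 ya2 za38) (ka xa7 ya45 za37)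 (ka xa5 ya16 za38) (ka xa6 ya41 za12) (ka xa12 ya47 za1) (ka xa12 ya38 za25) (ka xa12 ya38 za32) (ka xa3 ya18 za24) (ka xa12 ya47 za7) (ka xa12 ya29 za4) (ka xa12 ya38 za29) (ka xa12 ya38 za30) (ka xa6 ya33 za54) (ka xa6 ya38 za3) (ka xa6 ya11 za16) (ka xa6 ya37 za54) (ka xa6 ya41 za10) (ka xa3 ya18 za32) (ka xa3 ya18 za34) (ka xa6 ya20 za4) (ka xa12 ya47 za21)) (@D3.rec (fun _ => Pt) (ka xa12 ya28 za46) (ka xa6 ya32 za14) (ka xa12 ya38 za26) (ka xa3 ya18 za35) (ka xa12 ya47 za26) (ka xa12 ya47 za27) (ka xa12 ya38 za36) (ka xa11 ya17 za35) (ka xa6 ya21 za29) (ka xa12 ya29 za34) (ka xa6 ya40 za57) (ka xa10 ya22 za39) (ka xa6 ya40 za44) (ka xa12 ya34 za32) (ka xa11 ya49 za3) (ka xa12 ya34 za26) (ka xa8 ya33 za33) (ka xa8 ya33 za59) (ka xa12 ya40 za55) (ka xa12 ya34 za27) (ka xa12 ya34 za28) (ka xa12 ya34 za29) (ka xa8 ya35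 za52) (ka xa11 ya55 za52) (ka xa7 ya45 za34) (ka xa12 ya25 za31) (ka xa12 ya25 za30) (ka xa12 ya48 za2) (ka xa12 ya34 za31) (ka xa6 ya9 za57) (ka xa6 ya22 za35) (ka xa6 ya10 za4) (ka xa6 ya10 za5) (ka xa12 ya48 za15) (ka xa6 ya10 za7) (ka xa12 ya3 za22) (ka xa7 ya19 za37) (ka xa12 ya48 za22) (ka xa7 ya19 za39) (ka xa12 ya3 za25) (ka xa12 ya48 za30) (ka xa7 ya19 za40) (ka xa8 ya23 za28) (ka xa12 ya3 za27) (ka xa12 ya3 za26) (ka xa3 ya18 za55) (ka xa12 ya48 za42) (ka xa6 ya59 za31) (ka xa6 ya59 za40) (ka xa3 ya31 za9) (ka xa12 ya34 za37) (ka xa7 ya36 za11) (ka xa7 ya36 za14) (ka xa9 ya6 za8) (ka xa3 ya19 za8) (ka xa3 ya19 za9) (ka xa3 ya19 za10) (ka xa3 ya19 za11) (ka xa3 ya19 za13) (ka xa3 ya19 za14) (ka xa3 ya19 za17) (ka xa3 ya19 za19)) (@D3.rec (fun _ => Pt) (ka xa3 ya19 za20) (ka xa3 ya19 za21) (ka xa7 ya24 za57) (ka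 xa7 ya24 za56) (ka xa3 ya19 za1) (ka xa12 ya49 za14) (ka xa6 ya26 za29) (ka xa4 ya43 za30) (ka xa7 ya25 za40) (ka xa7 ya25 za39) (ka xa3 ya19 za3) (ka xa12 ya49 za28) (ka xa7 ya57 za17) (ka xa6 ya31 za50) (ka xa7 ya51 za59) (ka xa7 ya51 za60) (ka xa7 ya51 za61) (ka xa7 ya52 za0) (ka xa12 ya49 za43) (ka xa4 ya41 za50) (ka xa10 ya54 za48) (ka xa9 ya20 za37) (ka xa12 ya49 za51) (ka xa12 ya49 za0) (ka xa12 ya29 za21) (ka xa12 ya49 za1) (ka xa12 ya29 za19) (ka xa12 ya17 za41) (ka xa12 ya49 za61) (ka xa6 ya32 za27) (ka xa9 ya17 za43) (ka xa11 ya10 za47) (ka xa12 ya49 za3) (ka xa6 ya32 za28) (ka xa6 ya49 za51) (ka xa8 ya24 za53) (ka xa12 ya50 za7) (ka xa10 ya45 za4) (ka xa11 ya9 za40) (ka xa12 ya49 za4) (ka xa6 ya31 za33) (ka xa4 ya48 za24) (ka xa12 ya49 za5) (ka xa6 ya26 za11) (ka xa12 ya26 za46) (ka xa12 ya50 za23) (ka xa12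 ya49 za7) (ka xa9 ya37 za16) (ka xa9 ya24 za15) (ka xa9 ya24 za16) (ka xa9 ya24 za17) (ka xa3 ya19 za58) (ka xa6 ya21 za45) (ka xa12 ya50 za41) (ka xa12 ya50 za44) (ka xa9 ya29 za0) (ka xa9 ya29 za1) (ka xa9 ya24 za22) (ka xa12 ya50 za48) (ka xa6 ya22 za14) (ka xa11 ya19 za36) (ka xa6 ya22 za18)) (@D3.rec (fun _ => Pt) (ka xa12 ya50 za54) (ka xa12 ya50 za59) (ka xa3 ya19 za38) (ka xa12 ya51 za2) (ka xa12 ya50 za53) (ka xa6 ya21 za47) (ka xa6 ya4 za6) (ka xa9 ya29 za8) (ka xa9 ya29 za9) (ka xa6 ya48 za40) (ka xa9 ya28 za29) (ka xa9 ya28 za28) (ka xa6 ya54 za46) (ka xa11 ya25 za49) (ka xa3 ya19 za50) (ka xa3 ya19 za52) (ka xa3 ya19 za53) (ka xa3 ya19 za57) (ka xa3 ya19 za59) (ka xa3 ya46 za38) (ka xa3 ya46 za39) (ka xa3 ya46 za41) (ka xa9 ya28 za34) (ka xa9 ya24 za46) (ka xa3 ya47 za10) (ka xa3 ya53 za26) (ka xa12 ya51 za19)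 (ka xa12 ya51 za20) (ka xa7 ya47 za16) (ka xa11 ya44 za44) (ka xa9 ya23 za52) (ka xa9 ya21 za57) (ka xa12 ya51 za21) (ka xa12 ya51 za22) (ka xa12 ya51 za23) (ka xa12 ya51 za24) (ka xa9 ya27 za53) (ka xa11 ya43 za20) (ka xa9 ya27 za24) (ka xa9 ya27 za49) (ka xa4 ya47 za59) (ka xa12 ya51 za25) (ka xa12 ya51 za26) (ka xa8 ya33 za31) (ka xa12 ya50 za37) (ka xa4 ya44 za21) (ka xa12 ya51 za27) (ka xa12 ya51 za28) (ka xa12 ya52 za29) (ka xa12 ya51 za30) (ka xa9 ya27 za55) (ka xa9 ya27 za56) (ka xa9 ya27 za58) (ka xa6 ya26 za39) (ka xa6 ya26 za40) (ka xa12 ya52 za41) (ka xa9 ya24 za53) (ka xa12 ya52 za46) (ka xa9 ya24 za56) (ka xa7 ya20 za42) (ka xa5 ya42 za19) (ka xa6 ya27 za8)) (@D3.rec (fun _ => Pt) (ka xa12 ya52 za53) (ka xa6 ya27 za13) (ka xa6 ya27 za14) (ka xa12 ya52 za59) (ka xa12 ya53 za0) (ka xa3 ya20 za11) (ka xa12 ya53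 za4) (ka xa12 ya52 za58) (ka xa6 ya26 za42) (ka xa6 ya27 za1) (ka xa6 ya48 za39) (ka xa9 ya29 za52) (ka xa9 ya29 za53) (ka xa8 ya0 za26) (ka xa5 ya27 za12) (ka xa6 ya50 za24) (ka xa9 ya13 za32) (ka xa9 ya13 za29) (ka xa9 ya13 za33) (ka xa3 ya51 za15) (ka xa9 ya11 za16) (ka xa4 ya34 za29) (ka xa9 ya11 za15) (ka xa6 ya28 za60) (ka xa6 ya28 za59) (ka xa9 ya11 za29) (ka xa9 ya11 za30) (ka xa9 ya11 za31) (ka xa9 ya11 za32) (ka xa9 ya11 za33) (ka xa9 ya11 za35) (ka xa6 ya32 za40) (ka xa4 ya43 za54) (ka xa12 ya15 za17) (ka xa3 ya43 za10) (ka xa6 ya28 za61) (ka xa9 ya11 za17) (ka xa9 ya11 za18) (ka xa9 ya11 za19) (ka xa9 ya11 za20) (ka xa9 ya11 za24) (ka xa6 ya46 za49) (ka xa8 ya58 za49) (ka xa9 ya11 za26) (ka xa9 ya11 za27) (ka xa3 ya20 za34) (ka xa3 ya20 za36) (ka xa10 ya4 za3) (ka xa3 ya20 za38) (ka xa3 ya20 za39) (ka xa3 ya20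 za40) (ka xa5 ya27 za7) (ka xa3 ya20 za33) (ka xa5 ya13 za26) (ka xa12 ya47 za23) (ka xa12 ya53 za58) (ka xa9 ya31 za20) (ka xa10 ya3 za52) (ka xa10 ya3 za33) (ka xa10 ya3 za51) (ka xa6 ya11 za60) (ka xa12 ya24 za11)) (@D3.rec (fun _ => Pt) (ka xa10 ya4 za4) (ka xa12 ya39 za12) (ka xa12 ya53 za60) (ka xa12 ya53 za61) (ka xa12 ya54 za0) (ka xa12 ya53 za33) (ka xa8 ya58 za50) (ka xa12 ya53 za32) (ka xa11 ya56 za27) (ka xa11 ya56 za26) (ka xa12 ya54 za38) (ka xa11 ya56 za32) (ka xa9 ya31 za29) (ka xa3 ya20 za44) (ka xa3 ya20 za45) (ka xa3 ya20 za46) (ka xa9 ya31 za32) (ka xa12 ya54 za45) (ka xa4 ya6 za46) (ka xa12 ya54 za46) (ka xa12 ya54 za47) (ka xa9 ya13 za3) (ka xa11 ya50 za23) (ka xa12 ya23 za32) (ka xa12 ya54 za48) (ka xa9 ya30 za44) (ka xa9 ya31 za21) (ka xa9 ya31 za22) (ka xa9 ya31 za23) (ka xa5 ya55 za19) (ka xa6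 ya46 za36) (ka xa6 ya46 za39) (ka xa12 ya55 za13) (ka xa9 ya31 za25) (ka xa9 ya31 za26) (ka xa9 ya31 za27) (ka xa6 ya12 za13) (ka xa9 ya31 za28) (ka xa6 ya12 za12) (ka xa9 ya31 za11) (ka xa9 ya31 za12) (ka xa3 ya20 za55) (ka xa3 ya20 za56) (ka xa3 ya20 za57) (ka xa12 ya9 za21) (ka xa11 ya0 za51) (ka xa9 ya31 za17) (ka xa9 ya31 za16) (ka xa10 ya43 za0) (ka xa12 ya55 za22) (ka xa11 ya49 za53) (ka xa9 ya13 za28) (ka xa12 ya55 za36) (ka xa9 ya31 za40) (ka xa11 ya56 za19) (ka xa11 ya56 za20) (ka xa6 ya46 za30) (ka xa12 ya55 za45) (ka xa9 ya31 za44) (ka xa4 ya30 za21) (ka xa9 ya31 za45) (ka xa9 ya31 za46)) (@D3.rec (fun _ => Pt) (ka xa3 ya21 za4) (ka xa11 ya55 za56) (ka xa12 ya55 za48) (ka xa12 ya55 za56) (ka xa9 ya31 za50) (ka xa9 ya31 za51) (ka xa9 ya31 za52) (ka xa12 ya55 za61) (ka xa12 ya56 za2) (ka xa12 ya56 za6) (ka xa3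 ya21 za9) (ka xa12 ya56 za10) (ka xa12 ya56 za1) (ka xa9 ya31 za59) (ka xa9 ya31 za60) (ka xa6 ya7 za54) (ka xa5 ya7 za25) (ka xa10 ya18 za2) (ka xa3 ya23 za45) (ka xa6 ya31 za7) (ka xa6 ya46 za24) (ka xa10 ya5 za20) (ka xa6 ya50 za42) (ka xa6 ya50 za43) (ka xa6 ya46 za20) (ka xa3 ya24 za5) (ka xa3 ya24 za4) (ka xa3 ya21 za23) (ka xa12 ya56 za24) (ka xa10 ya34 za35) (ka xa6 ya45 za56) (ka xa9 ya32 za12) (ka xa3 ya21 za26) (ka xa6 ya46 za52) (ka xa6 ya46 za51) (ka xa12 ya56 za30) (ka xa6 ya45 za30) (ka xa9 ya32 za19) (ka xa12 ya56 za36) (ka xa6 ya45 za31) (ka xa9 ya32 za22) (ka xa9 ya32 za23) (ka xa9 ya32 za24) (ka xa6 ya47 za36) (ka xa9 ya32 za25) (ka xa12 ya56 za47) (ka xa6 ya12 za15) (ka xa6 ya49 za29) (ka xa6 ya12 za3) (ka xa6 ya44 za41) (ka xa6 ya2 za7) (ka xa6 ya46 za34) (ka xa6 ya46 za33) (ka xa3 ya21 za36) (ka xa12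 ya56 za53) (ka xa9 ya32 za29) (ka xa12 ya56 za54) (ka xa9 ya31 za61) (ka xa10 ya18 za25) (ka xa3 ya21 za44) (ka xa3 ya21 za45) (ka xa3 ya46 za48)) (@D3.rec (fun _ => Pt) (ka xa6 ya32 za43) (ka xa9 ya32 za1) (ka xa9 ya32 za2) (ka xa3 ya21 za43) (ka xa12 ya57 za1) (ka xa12 ya57 za2) (ka xa9 ya32 za6) (ka xa9 ya32 za5) (ka xa12 ya56 za57) (ka xa12 ya56 za58) (ka xa9 ya24 za10) (ka xa9 ya27 za47) (ka xa12 ya56 za59) (ka xa4 ya47 za16) (ka xa12 ya57 za32) (ka xa4 ya47 za18) (ka xa6 ya32 za32) (ka xa12 ya44 za29) (ka xa7 ya44 za13) (ka xa3 ya21 za51) (ka xa9 ya32 za15) (ka xa9 ya32 za14) (ka xa11 ya54 za45) (ka xa5 ya30 za43) (ka xa12 ya57 za39) (ka xa9 ya6 za0) (ka xa12 ya57 za40) (ka xa12 ya57 za41) (ka xa12 ya57 za61) (ka xa9 ya32 za35) (ka xa5 ya32 za49) (ka xa5 ya30 za40) (ka xa5 ya48 za33) (ka xa9 ya32 za26) (ka xa3 ya21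 za56) (ka xa11 ya11 za31) (ka xa6 ya46 za43) (ka xa12 ya58 za11) (ka xa12 ya30 za33) (ka xa6 ya21 za54) (ka xa8 ya24 za60) (ka xa12 ya30 za34) (ka xa4 ya53 za39) (ka xa6 ya26 za6) (ka xa9 ya32 za40) (ka xa12 ya58 za21) (ka xa12 ya30 za35) (ka xa9 ya37 za26) (ka xa6 ya20 za3) (ka xa9 ya32 za46) (ka xa9 ya32 za47) (ka xa12 ya33 za14) (ka xa12 ya58 za32) (ka xa9 ya32 za50) (ka xa12 ya58 za35) (ka xa6 ya20 za18) (ka xa6 ya20 za19) (ka xa12 ya58 za39) (ka xa9 ya32 za53) (ka xa6 ya34 za28) (ka xa12 ya58 za10) (ka xa3 ya22 za11)) (@D3.rec (fun _ => Pt) (ka xa12 ya58 za46) (ka xa9 ya32 za58) (ka xa6 ya9 za23) (ka xa6 ya9 za24) (ka xa6 ya9 za21) (ka xa6 ya9 za20) (ka xa6 ya26 za19) (ka xa6 ya52 za31) (ka xa12 ya58 za59) (ka xa7 ya19 za58) (ka xa9 ya32 za60) (ka xa9 ya32 za59) (ka xa3 ya22 za16) (ka xa6 ya9 za37) (ka xa6 ya9 za38)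 (ka xa6 ya9 za42) (ka xa6 ya9 za41) (ka xa12 ya59 za14) (ka xa12 ya0 za29) (ka xa10 ya52 za3) (ka xa8 ya34 za8) (ka xa9 ya24 za55) (ka xa6 ya9 za46) (ka xa6 ya9 za45) (ka xa3 ya22 za20) (ka xa12 ya59 za26) (ka xa6 ya22 za9) (ka xa6 ya28 za6) (ka xa6 ya28 za9) (ka xa12 ya59 za34) (ka xa12 ya33 za20) (ka xa4 ya9 za48) (ka xa8 ya34 za42) (ka xa12 ya33 za21) (ka xa4 ya52 za31) (ka xa6 ya49 za13) (ka xa6 ya49 za12) (ka xa3 ya22 za25) (ka xa12 ya59 za44) (ka xa6 ya44 za10) (ka xa6 ya43 za9) (ka xa6 ya23 za44) (ka xa9 ya33 za7) (ka xa6 ya48 za46) (ka xa8 ya35 za12) (ka xa6 ya23 za45) (ka xa6 ya48 za43) (ka xa3 ya22 za30) (ka xa12 ya59 za53) (ka xa9 ya38 za59) (ka xa6 ya23 za46) (ka xa4 ya18 za18) (ka xa13 ya0 za2) (ka xa12 ya5 za1) (ka xa6 ya23 za60) (ka xa12 ya5 za2) (ka xa13 ya0 za16) (ka xa12 ya4 za60) (ka xa6 ya23 za59) (ka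 xa12 ya4 za61) (ka xa3 ya22 za44) (ka xa12 ya46 za40)) (@D3.rec (fun _ => Pt) (ka xa6 ya18 za9) (ka xa6 ya18 za10) (ka xa13 ya0 za28) (ka xa6 ya18 za4) (ka xa12 ya16 za17) (ka xa10 ya10 za33) (ka xa4 ya47 za0) (ka xa6 ya20 za5) (ka xa3 ya22 za48) (ka xa6 ya19 za15) (ka xa13 ya0 za38) (ka xa12 ya59 za37) (ka xa6 ya48 za36) (ka xa6 ya48 za35) (ka xa3 ya22 za49) (ka xa6 ya9 za18) (ka xa8 ya0 za20) (ka xa3 ya23 za56) (ka xa3 ya23 za55) (ka xa12 ya53 za34) (ka xa6 ya31 za31) (ka xa7 ya30 za41) (ka xa6 ya30 za7) (ka xa4 ya43 za47) (ka xa4 ya43 za48) (ka xa7 ya41 za8) (ka xa3 ya44 za55) (ka xa7 ya30 za37) (ka xa11 ya28 za36) (ka xa6 ya46 za47) (ka xa6 ya30 za52) (ka xa3 ya28 za35) (ka xa5 ya55 za12) (ka xa3 ya23 za15) (ka xa3 ya23 za24) (ka xa3 ya23 za26) (ka xa11 ya34 za53) (ka xa13 ya0 za48) (ka xa13 ya0 za47) (ka xa3 ya23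 za6) (ka xa13 ya1 za0) (ka xa6 ya32 za42) (ka xa3 ya23 za48) (ka xa3 ya23 za52) (ka xa3 ya28 za41) (ka xa3 ya28 za42) (ka xa13 ya1 za3) (ka xa4 ya48 za21) (ka xa13 ya1 za5) (ka xa5 ya58 za27) (ka xa12 ya32 za24) (ka xa6 ya42 za34) (ka xa11 ya45 za13) (ka xa6 ya21 za49) (ka xa4 ya42 za0) (ka xa4 ya42 za1) (ka xa4 ya42 za10) (ka xa12 ya26 za36) (ka xa6 ya21 za50) (ka xa3 ya23 za21) (ka xa12 ya24 za12) (ka xa4 ya47 za13)) (@D3.rec (fun _ => Pt) (ka xa7 ya48 za46) (ka xa6 ya21 za11) (ka xa11 ya26 za5) (ka xa6 ya54 za0) (ka xa4 ya35 za42) (ka xa11 ya57 za51) (ka xa5 ya55 za17) (ka xa6 ya30 za56) (ka xa12 ya55 za3) (ka xa6 ya26 za26) (ka xa4 ya43 za31) (ka xa4 ya43 za34) (ka xa13 ya0 za56) (ka xa6 ya26 za27) (ka xa13 ya0 za57) (ka xa12 ya30 za15) (ka xa3 ya23 za28) (ka xa13 ya1 za31) (ka xa9 ya23 za43) (ka xa9 ya23 za42) (ka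 xa11 ya34 za54) (ka xa5 ya26 za17) (ka xa5 ya26 za18) (ka xa5 ya51 za51) (ka xa6 ya44 za15) (ka xa8 ya0 za38) (ka xa3 ya23 za37) (ka xa3 ya23 za38) (ka xa4 ya41 za45) (ka xa7 ya57 za20) (ka xa13 ya1 za39) (ka xa5 ya7 za23) (ka xa12 ya56 za25) (ka xa13 ya1 za40) (ka xa5 ya53 za46) (ka xa7 ya43 za8) (ka xa7 ya27 za32) (ka xa7 ya43 za13) (ka xa7 ya43 za14) (ka xa7 ya43 za15) (ka xa7 ya43 za16) (ka xa13 ya1 za43) (ka xa6 ya46 za22) (ka xa6 ya46 za23) (ka xa9 ya29 za20) (ka xa5 ya14 za16) (ka xa6 ya30 za14) (ka xa3 ya23 za51) (ka xa6 ya32 za46) (ka xa12 ya28 za38) (ka xa10 ya17 za47) (ka xa10 ya17 za25) (ka xa13 ya0 za49) (ka xa12 ya30 za0) (ka xa6 ya21 za61) (ka xa6 ya30 za47) (ka xa7 ya24 za55) (ka xa6 ya18 za61) (ka xa6 ya22 za49) (ka xa6 ya22 za50) (ka xa8 ya0 za34) (ka xa8 ya0 za35)) (@D3.rec (fun _ => Pt) (ka xa11 ya25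 za10) (ka xa11 ya48 za12) (ka xa5 ya54 za43) (ka xa8 ya0 za28) (ka xa8 ya0 za29) (ka xa3 ya24 za6) (ka xa9 ya26 za13) (ka xa11 ya57 za42) (ka xa12 ya56 za23) (ka xa11 ya27 za17) (ka xa11 ya26 za2) (ka xa12 ya56 za22) (ka xa11 ya54 za49) (ka xa11 ya28 za59) (ka xa12 ya56 za26) (ka xa10 ya44 za47) (ka xa9 ya51 za5) (ka xa13 ya2 za28) (ka xa9 ya51 za7) (ka xa3 ya24 za12) (ka xa6 ya20 za20) (ka xa4 ya43 za17) (ka xa6 ya2 za61) (ka xa7 ya5 za13) (ka xa3 ya42 za29) (ka xa13 ya2 za37) (ka xa7 ya5 za15) (ka xa3 ya26 za7) (ka xa4 ya50 za8) (ka xa3 ya44 za26) (ka xa13 ya2 za43) (ka xa3 ya44 za28) (ka xa3 ya50 za13) (ka xa6 ya58 za43) (ka xa3 ya24 za44) (ka xa3 ya24 za46) (ka xa3 ya24 za47) (ka xa3 ya24 za48) (ka xa3 ya24 za50) (ka xa3 ya24 za54) (ka xa3 ya25 za36) (ka xa3 ya24 za34) (ka xa13 ya3 za0) (ka xa3 ya26 za6) (ka xa3 ya26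 za8) (ka xa3 ya26 za9) (ka xa5 ya48 za18) (ka xa7 ya32 za11) (ka xa3 ya25 za46) (ka xa3 ya25 za47) (ka xa3 ya25 za49) (ka xa7 ya1 za49) (ka xa7 ya1 za33) (ka xa12 ya33 za9) (ka xa6 ya52 za56) (ka xa11 ya30 za15) (ka xa6 ya29 za39) (ka xa13 ya2 za53) (ka xa13 ya3 za26) (ka xa7 ya3 za12) (ka xa7 ya3 za13) (ka xa13 ya3 za33)) (@D3.rec (fun _ => Pt) (ka xa13 ya2 za55) (ka xa3 ya55 za33) (ka xa7 ya47 za8) (ka xa6 ya56 za55) (ka xa13 ya2 za56) (ka xa13 ya2 za57) (ka xa7 ya2 za31) (ka xa7 ya2 za32) (ka xa13 ya2 za58) (ka xa13 ya3 za52) (ka xa13 ya2 za59) (ka xa7 ya18 za45) (ka xa3 ya38 za2) (ka xa7 ya51 za9) (ka xa7 ya11 za56) (ka xa7 ya11 za57) (ka xa7 ya32 za16) (ka xa13 ya2 za60) (ka xa3 ya55 za29) (ka xa7 ya4 za18) (ka xa7 ya12 za22) (ka xa7 ya12 za23) (ka xa3 ya37 za29) (ka xa7 ya12 za24) (ka xa7 ya6 za18) (ka xa7 ya5 za54)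 (ka xa6 ya30 za31) (ka xa10 ya41 za7) (ka xa6 ya52 za48) (ka xa7 ya39 za0) (ka xa3 ya25 za13) (ka xa6 ya48 za7) (ka xa6 ya9 za22) (ka xa7 ya33 za14) (ka xa6 ya52 za52) (ka xa13 ya4 za29) (ka xa7 ya5 za31) (ka xa13 ya4 za35) (ka xa7 ya19 za57) (ka xa7 ya11 za14) (ka xa7 ya1 za46) (ka xa6 ya52 za54) (ka xa9 ya33 za2) (ka xa13 ya4 za23) (ka xa6 ya19 za2) (ka xa6 ya25 za37) (ka xa3 ya28 za31) (ka xa13 ya4 za46) (ka xa6 ya52 za28) (ka xa3 ya46 za15) (ka xa3 ya25 za22) (ka xa13 ya4 za55) (ka xa6 ya52 za34) (ka xa13 ya4 za58) (ka xa6 ya52 za41) (ka xa6 ya32 za57) (ka xa6 ya51 za54) (ka xa7 ya55 za15) (ka xa13 ya4 za52) (ka xa13 ya5 za8) (ka xa3 ya27 za58) (ka xa3 ya35 za58)) (@D3.rec (fun _ => Pt) (ka xa3 ya35 za59) (ka xa6 ya34 za11) (ka xa3 ya38 za58) (ka xa3 ya38 za59) (ka xa7 ya26 za47) (ka xa7 ya22 za10) (ka xa7 ya22 za9)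 (ka xa7 ya33 za57) (ka xa7 ya33 za58) (ka xa5 ya59 za4) (ka xa13 ya2 za61) (ka xa5 ya58 za24) (ka xa7 ya4 za15) (ka xa11 ya30 za11) (ka xa6 ya33 za9) (ka xa5 ya51 za24) (ka xa3 ya25 za43) (ka xa5 ya48 za19) (ka xa13 ya5 za29) (ka xa13 ya5 za30) (ka xa13 ya5 za31) (ka xa13 ya5 za32) (ka xa7 ya34 za4) (ka xa7 ya53 za4) (ka xa13 ya3 za7) (ka xa13 ya3 za8) (ka xa13 ya3 za9) (ka xa13 ya3 za10) (ka xa7 ya34 za13) (ka xa13 ya3 za11) (ka xa7 ya50 za54) (ka xa7 ya24 za31) (ka xa7 ya24 za32) (ka xa13 ya3 za12) (ka xa13 ya3 za13) (ka xa13 ya3 za14) (ka xa7 ya18 za33) (ka xa3 ya36 za29) (ka xa3 ya37 za53) (ka xa3 ya37 za39) (ka xa3 ya34 za47) (ka xa3 ya32 za3) (ka xa3 ya32 za5) (ka xa3 ya32 za6) (ka xa7 ya27 za36) (ka xa7 ya27 za35) (ka xa3 ya25 za57) (ka xa13 ya6 za21) (ka xa13 ya6 za22) (ka xa6 ya30 za53) (ka xa7 ya25 za20) (ka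 xa7 ya27 za40) (ka xa3 ya39 za44) (ka xa12 ya26 za29) (ka xa9 ya21 za52) (ka xa9 ya21 za51) (ka xa3 ya26 za0) (ka xa3 ya48 za40) (ka xa7 ya0 za22) (ka xa3 ya26 za4) (ka xa3 ya26 za5) (ka xa7 ya0 za29)) (@D3.rec (fun _ => Pt) (ka xa6 ya50 za3) (ka xa13 ya6 za40) (ka xa7 ya1 za0) (ka xa13 ya6 za41) (ka xa5 ya59 za56) (ka xa13 ya3 za3) (ka xa5 ya59 za54) (ka xa7 ya0 za54) (ka xa7 ya20 za57) (ka xa6 ya55 za20) (ka xa13 ya6 za61) (ka xa7 ya20 za58) (ka xa13 ya3 za4) (ka xa7 ya26 za20) (ka xa7 ya26 za18) (ka xa11 ya59 za57) (ka xa7 ya1 za10) (ka xa3 ya39 za52) (ka xa3 ya39 za53) (ka xa6 ya39 za16) (ka xa7 ya30 za18) (ka xa7 ya30 za19) (ka xa7 ya30 za20) (ka xa7 ya30 za21) (ka xa13 ya7 za26) (ka xa3 ya27 za26) (ka xa3 ya27 za28) (ka xa3 ya27 za29) (ka xa3 ya27 za30) (ka xa3 ya27 za31) (ka xa7 ya45 za44) (ka xa3 ya27 za35) (ka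 xa13 ya7 za42) (ka xa3 ya27 za37) (ka xa3 ya27 za40) (ka xa3 ya27 za48) (ka xa7 ya12 za29) (ka xa3 ya32 za54) (ka xa3 ya34 za11) (ka xa3 ya34 za12) (ka xa7 ya21 za0) (ka xa7 ya20 za61) (ka xa7 ya39 za24) (ka xa7 ya53 za5) (ka xa7 ya21 za4) (ka xa7 ya42 za3) (ka xa6 ya43 za12) (ka xa5 ya48 za21) (ka xa3 ya26 za30) (ka xa13 ya8 za1) (ka xa13 ya8 za2) (ka xa13 ya8 za3) (ka xa13 ya8 za4) (ka xa7 ya53 za19) (ka xa7 ya53 za20) (ka xa7 ya53 za21) (ka xa7 ya53 za22) (ka xa7 ya39 za45) (ka xa7 ya53 za23) (ka xa7 ya11 za32) (ka xa7 ya50 za58) (ka xa7 ya26 za10)) (@D3.rec (fun _ => Pt) (ka xa7 ya53 za24) (ka xa7 ya53 za25) (ka xa7 ya53 za26) (ka xa7 ya11 za3) (ka xa7 ya6 za48) (ka xa3 ya34 za53) (ka xa3 ya34 za56) (ka xa3 ya26 za44) (ka xa3 ya26 za45) (ka xa3 ya26 za46) (ka xa7 ya25 za0) (ka xa7 ya24 za61) (ka xa3 ya26 za40) (ka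 xa13 ya8 za49) (ka xa13 ya8 za50) (ka xa7 ya21 za58) (ka xa7 ya25 za5) (ka xa6 ya57 za42) (ka xa3 ya37 za30) (ka xa13 ya8 za45) (ka xa6 ya54 za9) (ka xa13 ya8 za46) (ka xa7 ya34 za48) (ka xa3 ya26 za50) (ka xa3 ya45 za47) (ka xa11 ya30 za6) (ka xa7 ya34 za61) (ka xa13 ya9 za0) (ka xa7 ya38 za45) (ka xa7 ya53 za7) (ka xa7 ya53 za8) (ka xa7 ya53 za9) (ka xa7 ya53 za10) (ka xa7 ya34 za54) (ka xa7 ya53 za12) (ka xa13 ya9 za17) (ka xa7 ya53 za13) (ka xa6 ya57 za33) (ka xa7 ya53 za14) (ka xa7 ya53 za15) (ka xa7 ya53 za16) (ka xa7 ya16 za20) (ka xa7 ya35 za4) (ka xa3 ya38 za0) (ka xa3 ya38 za1) (ka xa3 ya38 za3) (ka xa3 ya31 za34) (ka xa7 ya28 za23) (ka xa7 ya30 za1) (ka xa13 ya9 za42) (ka xa7 ya30 za2) (ka xa7 ya5 za11) (ka xa7 ya6 za20) (ka xa7 ya42 za41) (ka xa7 ya35 za21) (ka xa7 ya41 za53) (ka xa7 ya41 za55) (ka xa3 ya27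 za4) (ka xa7 ya13 za44) (ka xa6 ya33 za22) (ka xa6 ya33 za23) (ka xa6 ya33 za19)) (@D3.rec (fun _ => Pt) (ka xa6 ya33 za24) (ka xa13 ya9 za52) (ka xa7 ya42 za16) (ka xa13 ya9 za53) (ka xa13 ya9 za54) (ka xa3 ya29 za3) (ka xa7 ya37 za29) (ka xa7 ya37 za30) (ka xa7 ya37 za31) (ka xa7 ya37 za32) (ka xa7 ya37 za33) (ka xa7 ya37 za35) (ka xa7 ya11 za9) (ka xa7 ya35 za36) (ka xa7 ya37 za25) (ka xa7 ya37 za24) (ka xa3 ya27 za12) (ka xa7 ya41 za16) (ka xa13 ya10 za31) (ka xa13 ya10 za32) (ka xa13 ya10 za33) (ka xa7 ya42 za48) (ka xa7 ya41 za37) (ka xa7 ya42 za49) (ka xa7 ya42 za50) (ka xa7 ya42 za51) (ka xa7 ya15 za47) (ka xa7 ya42 za52) (ka xa7 ya16 za24) (ka xa9 ya20 za58) (ka xa9 ya20 za60) (ka xa7 ya30 za50) (ka xa7 ya30 za51) (ka xa7 ya30 za52) (ka xa7 ya30 za53) (ka xa7 ya43 za6) (ka xa7 ya43 za10) (ka xa7 ya43 za9) (ka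 xa3 ya27 za19) (ka xa8 ya0 za48) (ka xa9 ya5 za28) (ka xa11 ya46 za13) (ka xa11 ya46 za23) (ka xa11 ya46 za17) (ka xa11 ya46 za16) (ka xa11 ya46 za24) (ka xa13 ya7 za25) (ka xa3 ya27 za22) (ka xa7 ya13 za46) (ka xa13 ya11 za17) (ka xa13 ya11 za18) (ka xa7 ya19 za60) (ka xa7 ya47 za5) (ka xa6 ya56 za54) (ka xa6 ya56 za53) (ka xa6 ya52 za3) (ka xa3 ya52 za41) (ka xa7 ya47 za1) (ka xa3 ya27 za25) (ka xa13 ya11 za40) (ka xa13 ya11 za41) (ka xa13 ya7 za28)) (@D3.rec (fun _ => Pt) (ka xa13 ya7 za29) (ka xa7 ya10 za37) (ka xa13 ya11 za55) (ka xa13 ya7 za31) (ka xa7 ya3 za15) (ka xa13 ya7 za32) (ka xa13 ya12 za4) (ka xa13 ya7 za34) (ka xa7 ya1 za60) (ka xa13 ya7 za35) (ka xa13 ya7 za36) (ka xa13 ya7 za37) (ka xa13 ya12 za18) (ka xa13 ya3 za47) (ka xa13 ya3 za46) (ka xa13 ya7 za39) (ka xa3 ya37 za24) (ka xa3 ya52 za3) (ka xa7 ya45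 za45) (ka xa3 ya53 za40) (ka xa13 ya12 za28) (ka xa13 ya7 za40) (ka xa7 ya46 za1) (ka xa3 ya27 za36) (ka xa13 ya12 za34) (ka xa13 ya12 za35) (ka xa13 ya7 za44) (ka xa13 ya7 za45) (ka xa13 ya7 za46) (ka xa6 ya57 za32) (ka xa6 ya57 za55) (ka xa3 ya56 za49) (ka xa6 ya57 za29) (ka xa6 ya55 za37) (ka xa13 ya12 za58) (ka xa13 ya5 za19) (ka xa3 ya35 za18) (ka xa3 ya27 za45) (ka xa3 ya27 za46) (ka xa13 ya13 za1) (ka xa7 ya25 za30) (ka xa7 ya24 za26) (ka xa6 ya55 za17) (ka xa7 ya54 za33) (ka xa7 ya21 za19) (ka xa3 ya38 za51) (ka xa13 ya7 za41) (ka xa3 ya27 za47) (ka xa13 ya13 za11) (ka xa13 ya13 za12) (ka xa13 ya7 za48) (ka xa13 ya7 za49) (ka xa7 ya11 za31) (ka xa7 ya11 za34) (ka xa13 ya13 za27) (ka xa6 ya57 za30) (ka xa6 ya22 za52) (ka xa6 ya22 za51) (ka xa4 ya53 za43) (ka xa13 ya13 za34) (ka xa7 ya5 za21) (ka xa13 ya13 za39))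 (@D3.rec (fun _ => Pt) (ka xa3 ya44 za23) (ka xa13 ya13 za44) (ka xa3 ya44 za22) (ka xa3 ya56 za41) (ka xa3 ya27 za57) (ka xa13 ya13 za48) (ka xa6 ya27 za39) (ka xa13 ya5 za10) (ka xa13 ya13 za58) (ka xa6 ya58 za27) (ka xa7 ya7 za21) (ka xa3 ya28 za2) (ka xa3 ya28 za3) (ka xa3 ya28 za5) (ka xa13 ya14 za4) (ka xa6 ya58 za32) (ka xa6 ya58 za34) (ka xa6 ya58 za33) (ka xa12 ya47 za43) (ka xa12 ya2 za42) (ka xa3 ya37 za12) (ka xa7 ya19 za10) (ka xa3 ya53 za43) (ka xa3 ya53 za48) (ka xa7 ya17 za14) (ka xa3 ya37 za27) (ka xa13 ya14 za23) (ka xa6 ya58 za9) (ka xa7 ya13 za60) (ka xa3 ya28 za11) (ka xa3 ya28 za12) (ka xa13 ya14 za33) (ka xa6 ya58 za15) (ka xa6 ya58 za17) (ka xa6 ya58 za16) (ka xa13 ya14 za29) (ka xa13 ya14 za30) (ka xa3 ya53 za49) (ka xa3 ya33 za52) (ka xa7 ya17 za40) (ka xa3 ya41 za51) (ka xa3 ya29 za1) (ka xa3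 ya29 za0) (ka xa6 ya51 za33) (ka xa3 ya30 za32) (ka xa3 ya30 za33) (ka xa3 ya30 za34) (ka xa3 ya30 za31) (ka xa3 ya30 za61) (ka xa3 ya31 za2) (ka xa13 ya14 za28) (ka xa3 ya28 za47) (ka xa13 ya15 za7) (ka xa3 ya28 za50) (ka xa3 ya29 za14) (ka xa3 ya30 za35) (ka xa3 ya42 za27) (ka xa13 ya15 za12) (ka xa3 ya45 za26) (ka xa3 ya45 za27) (ka xa3 ya45 za28) (ka xa6 ya10 za0)) (@D3.rec (fun _ => Pt) (ka xa6 ya32 za45) (ka xa6 ya19 za46) (ka xa8 ya23 za26) (ka xa6 ya20 za36) (ka xa4 ya43 za22) (ka xa6 ya27 za11) (ka xa12 ya13 za3) (ka xa6 ya18 za40) (ka xa6 ya18 za38) (ka xa7 ya9 za58) (ka xa13 ya15 za22) (ka xa6 ya59 za38) (ka xa13 ya15 za26) (ka xa6 ya59 za39) (ka xa7 ya10 za6) (ka xa13 ya15 za31) (ka xa13 ya15 za36) (ka xa3 ya28 za49) (ka xa13 ya15 za40) (ka xa13 ya15 za30) (ka xa7 ya9 za60) (ka xa13 ya15 za9) (ka xa3 ya53 za42)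 (ka xa13 ya15 za53) (ka xa3 ya46 za50) (ka xa6 ya21 za17) (ka xa7 ya48 za49) (ka xa6 ya21 za33) (ka xa7 ya48 za48) (ka xa6 ya21 za13) (ka xa13 ya16 za0) (ka xa6 ya41 za47) (ka xa13 ya16 za4) (ka xa3 ya38 za53) (ka xa7 ya19 za50) (ka xa7 ya6 za4) (ka xa3 ya28 za60) (ka xa13 ya16 za10) (ka xa6 ya59 za11) (ka xa6 ya59 za13) (ka xa6 ya41 za48) (ka xa7 ya19 za47) (ka xa7 ya22 za39) (ka xa7 ya31 za54) (ka xa7 ya13 za19) (ka xa7 ya17 za6) (ka xa7 ya32 za26) (ka xa13 ya4 za50) (ka xa3 ya29 za4) (ka xa13 ya10 za14) (ka xa6 ya8 za36) (ka xa13 ya16 za31) (ka xa13 ya16 za32) (ka xa13 ya16 za33) (ka xa13 ya16 za34) (ka xa3 ya30 za14) (ka xa3 ya30 za15) (ka xa3 ya30 za16) (ka xa3 ya30 za17) (ka xa13 ya16 za54) (ka xa3 ya30 za21) (ka xa3 ya30 za22))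
def f_a_7 : D2 → D3 → Pt := @D2.rec (fun _ => D3 → Pt) (@D3.rec (fun _ => Pt) (ka xa13 ya16 za60) (ka xa3 ya30 za25) (ka xa3 ya30 za27) (ka xa3 ya30 za29) (ka xa3 ya30 za30) (ka xa7 ya11 za58) (ka xa7 ya11 za59) (ka xa3 ya30 za40) (ka xa12 ya34 za7) (ka xa3 ya30 za42) (ka xa3 ya30 za43) (ka xa3 ya30 za45) (ka xa7 ya22 za13) (ka xa3 ya30 za56) (ka xa3 ya30 za58) (ka xa3 ya44 za30) (ka xa3 ya45 za39) (ka xa3 ya45 za38) (ka xa3 ya29 za20) (ka xa13 ya17 za23) (ka xa3 ya45 za50) (ka xa3 ya45 za51) (ka xa6 ya53 za58) (ka xa3 ya45 za44) (ka xa7 ya15 za54) (ka xa7 ya15 za53) (ka xa12 ya34 za6) (ka xa13 ya17 za42) (ka xa3 ya46 za0) (ka xa6 ya53 za61) (ka xa3 ya45 za60) (ka xa3 ya46 za45) (ka xa3 ya46 za46) (ka xa3 ya46 za47) (ka xa13 ya17 za57) (ka xa3 ya46 za53) (ka xa3 ya46 za54) (ka xa3 ya46 za55) (ka xa3 ya46 za56) (ka xa3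 ya29 za36) (ka xa3 ya46 za20) (ka xa3 ya46 za19) (ka xa3 ya29 za31) (ka xa9 ya2 za50) (ka xa13 ya18 za4) (ka xa7 ya7 za7) (ka xa7 ya11 za60) (ka xa3 ya41 za46) (ka xa7 ya30 za56) (ka xa3 ya40 za57) (ka xa3 ya46 za36) (ka xa3 ya46 za34) (ka xa3 ya29 za41) (ka xa9 ya24 za45) (ka xa6 ya54 za7) (ka xa13 ya18 za15) (ka xa13 ya18 za16) (ka xa13 ya18 za17) (ka xa3 ya46 za1) (ka xa3 ya46 za2) (ka xa3 ya46 za3) (ka xa3 ya46 za4)) (@D3.rec (fun _ => Pt) (ka xa6 ya54 za2) (ka xa3 ya46 za6) (ka xa3 ya46 za7) (ka xa13 ya18 za43) (ka xa3 ya46 za9) (ka xa3 ya46 za10) (ka xa3 ya46 za11) (ka xa3 ya46 za12) (ka xa3 ya46 za13) (ka xa3 ya46 za14) (ka xa6 ya54 za16) (ka xa3 ya42 za1) (ka xa3 ya42 za2) (ka xa7 ya26 za30) (ka xa12 ya34 za52) (ka xa13 ya0 za53) (ka xa12 ya34 za49) (ka xa12 ya34 za50) (ka xa3 ya29 za53) (ka xa3 ya29 za54) (ka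 xa7 ya21 za10) (ka xa7 ya22 za14) (ka xa3 ya49 za56) (ka xa13 ya19 za8) (ka xa7 ya15 za59) (ka xa7 ya15 za58) (ka xa13 ya19 za9) (ka xa3 ya51 za23) (ka xa3 ya51 za24) (ka xa3 ya51 za25) (ka xa3 ya51 za26) (ka xa13 ya16 za27) (ka xa12 ya36 za5) (ka xa6 ya51 za52) (ka xa11 ya41 za47) (ka xa3 ya29 za61) (ka xa5 ya48 za17) (ka xa13 ya19 za37) (ka xa13 ya19 za38) (ka xa13 ya19 za39) (ka xa13 ya19 za40) (ka xa3 ya51 za17) (ka xa3 ya51 za18) (ka xa3 ya51 za19) (ka xa3 ya51 za20) (ka xa7 ya33 za41) (ka xa6 ya52 za40) (ka xa12 ya34 za57) (ka xa7 ya16 za3) (ka xa6 ya51 za51) (ka xa3 ya30 za3) (ka xa13 ya20 za5) (ka xa3 ya44 za60) (ka xa3 ya30 za8) (ka xa3 ya30 za9) (ka xa3 ya30 za10) (ka xa3 ya30 za11) (ka xa11 ya24 za54) (ka xa13 ya20 za17) (ka xa13 ya20 za11) (ka xa6 ya57 za8) (ka xa13 ya20 za24)) (@D3.rec (fun _ => Pt) (ka xa13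 ya20 za13) (ka xa7 ya15 za45) (ka xa13 ya4 za37) (ka xa7 ya43 za36) (ka xa13 ya20 za14) (ka xa13 ya20 za15) (ka xa6 ya35 za48) (ka xa6 ya35 za44) (ka xa3 ya30 za12) (ka xa9 ya22 za28) (ka xa12 ya27 za43) (ka xa7 ya25 za53) (ka xa7 ya45 za10) (ka xa5 ya51 za30) (ka xa12 ya35 za9) (ka xa11 ya45 za22) (ka xa13 ya16 za50) (ka xa7 ya22 za18) (ka xa13 ya16 za51) (ka xa12 ya23 za0) (ka xa13 ya16 za52) (ka xa7 ya41 za33) (ka xa7 ya41 za30) (ka xa7 ya41 za31) (ka xa7 ya41 za32) (ka xa13 ya16 za59) (ka xa3 ya30 za19) (ka xa7 ya22 za20) (ka xa13 ya21 za7) (ka xa13 ya21 za8) (ka xa3 ya35 za32) (ka xa6 ya52 za6) (ka xa6 ya52 za7) (ka xa7 ya47 za45) (ka xa7 ya47 za44) (ka xa13 ya16 za57) (ka xa13 ya16 za58) (ka xa7 ya5 za55) (ka xa3 ya52 za32) (ka xa7 ya15 za44) (ka xa13 ya16 za53) (ka xa3 ya30 za23) (ka xa13 ya21 za34) (ka xa13 ya21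 za35) (ka xa13 ya21 za36) (ka xa7 ya12 za26) (ka xa13 ya17 za0) (ka xa13 ya17 za1) (ka xa7 ya15 za41) (ka xa13 ya21 za53) (ka xa13 ya17 za3) (ka xa13 ya17 za4) (ka xa13 ya22 za0) (ka xa7 ya45 za59) (ka xa7 ya45 za57) (ka xa13 ya17 za5) (ka xa7 ya47 za42) (ka xa13 ya22 za8) (ka xa3 ya52 za23) (ka xa3 ya52 za22) (ka xa13 ya17 za6) (ka xa13 ya14 za61)) (@D3.rec (fun _ => Pt) (ka xa13 ya19 za1) (ka xa13 ya14 za57) (ka xa3 ya52 za17) (ka xa13 ya19 za34) (ka xa13 ya14 za59) (ka xa7 ya24 za47) (ka xa7 ya10 za33) (ka xa7 ya46 za49) (ka xa13 ya14 za60) (ka xa3 ya30 za38) (ka xa3 ya30 za39) (ka xa12 ya34 za8) (ka xa6 ya51 za59) (ka xa6 ya51 za60) (ka xa7 ya47 za6) (ka xa6 ya57 za4) (ka xa13 ya7 za50) (ka xa7 ya4 za47) (ka xa13 ya7 za51) (ka xa7 ya24 za33) (ka xa13 ya22 za45) (ka xa7 ya47 za41) (ka xa12 ya34 za9) (ka xa12 ya34 za10)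 (ka xa7 ya47 za49) (ka xa7 ya47 za47) (ka xa13 ya17 za11) (ka xa13 ya17 za12) (ka xa13 ya17 za13) (ka xa13 ya17 za14) (ka xa7 ya15 za38) (ka xa7 ya4 za50) (ka xa7 ya47 za32) (ka xa13 ya23 za11) (ka xa13 ya17 za16) (ka xa3 ya34 za16) (ka xa3 ya34 za15) (ka xa3 ya30 za53) (ka xa3 ya30 za54) (ka xa13 ya23 za19) (ka xa7 ya12 za16) (ka xa3 ya49 za50) (ka xa3 ya46 za27) (ka xa7 ya48 za3) (ka xa7 ya12 za38) (ka xa7 ya5 za10) (ka xa12 ya34 za58) (ka xa13 ya17 za9) (ka xa3 ya30 za55) (ka xa11 ya48 za26) (ka xa11 ya32 za13) (ka xa13 ya17 za17) (ka xa13 ya17 za18) (ka xa7 ya15 za30) (ka xa7 ya15 za32) (ka xa13 ya23 za39) (ka xa13 ya17 za20) (ka xa7 ya15 za33) (ka xa7 ya22 za12) (ka xa9 ya21 za19) (ka xa13 ya15 za1) (ka xa7 ya18 za29)) (@D3.rec (fun _ => Pt) (ka xa13 ya18 za12) (ka xa13 ya15 za2) (ka xa3 ya34 za9) (ka xa3 ya53 za39)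 (ka xa13 ya23 za58) (ka xa3 ya39 za50) (ka xa3 ya39 za51) (ka xa13 ya24 za2) (ka xa13 ya24 za5) (ka xa3 ya39 za39) (ka xa3 ya39 za36) (ka xa12 ya48 za52) (ka xa3 ya31 za14) (ka xa3 ya31 za18) (ka xa7 ya12 za25) (ka xa6 ya53 za12) (ka xa11 ya30 za12) (ka xa13 ya24 za13) (ka xa6 ya52 za19) (ka xa7 ya4 za48) (ka xa13 ya17 za31) (ka xa13 ya24 za14) (ka xa3 ya54 za35) (ka xa7 ya5 za53) (ka xa7 ya12 za47) (ka xa12 ya8 za17) (ka xa7 ya4 za52) (ka xa7 ya28 za3) (ka xa3 ya31 za28) (ka xa3 ya31 za29) (ka xa3 ya31 za31) (ka xa13 ya24 za48) (ka xa3 ya35 za34) (ka xa7 ya4 za58) (ka xa7 ya28 za4) (ka xa7 ya4 za61) (ka xa7 ya4 za60) (ka xa13 ya24 za42) (ka xa13 ya24 za43) (ka xa3 ya41 za40) (ka xa13 ya24 za44) (ka xa7 ya51 za52) (ka xa13 ya9 za36) (ka xa7 ya5 za6) (ka xa7 ya5 za8) (ka xa7 ya51 za41) (ka xa3 ya41 za58) (ka xa7 ya3 za17)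 (ka xa7 ya4 za19) (ka xa7 ya28 za5) (ka xa7 ya3 za31) (ka xa13 ya25 za19) (ka xa7 ya4 za26) (ka xa7 ya22 za37) (ka xa3 ya31 za43) (ka xa3 ya31 za44) (ka xa3 ya31 za47) (ka xa13 ya25 za31) (ka xa7 ya4 za33) (ka xa7 ya22 za38) (ka xa7 ya4 za36) (ka xa7 ya4 za35)) (@D3.rec (fun _ => Pt) (ka xa13 ya25 za26) (ka xa13 ya25 za27) (ka xa7 ya16 za35) (ka xa3 ya44 za18) (ka xa7 ya50 za18) (ka xa3 ya44 za33) (ka xa7 ya4 za43) (ka xa3 ya44 za21) (ka xa7 ya4 za44) (ka xa7 ya49 za58) (ka xa7 ya3 za45) (ka xa6 ya55 za51) (ka xa7 ya50 za52) (ka xa6 ya51 za23) (ka xa13 ya26 za4) (ka xa6 ya51 za26) (ka xa7 ya54 za48) (ka xa3 ya31 za59) (ka xa13 ya26 za12) (ka xa3 ya44 za32) (ka xa13 ya26 za17) (ka xa6 ya57 za60) (ka xa13 ya26 za22) (ka xa3 ya44 za20) (ka xa3 ya44 za17) (ka xa6 ya23 za13) (ka xa13 ya26 za10) (ka xa3 ya33 za61) (ka xa3 ya48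 za16) (ka xa3 ya42 za28) (ka xa13 ya26 za34) (ka xa6 ya52 za36) (ka xa7 ya12 za28) (ka xa7 ya12 za30) (ka xa3 ya46 za24) (ka xa3 ya46 za25) (ka xa7 ya12 za1) (ka xa7 ya12 za0) (ka xa7 ya11 za61) (ka xa8 ya45 za60) (ka xa8 ya45 za61) (ka xa8 ya46 za0) (ka xa7 ya12 za7) (ka xa13 ya26 za48) (ka xa7 ya12 za37) (ka xa13 ya26 za53) (ka xa7 ya12 za40) (ka xa7 ya12 za41) (ka xa7 ya12 za42) (ka xa7 ya12 za43) (ka xa7 ya12 za44) (ka xa7 ya12 za45) (ka xa7 ya12 za21) (ka xa7 ya4 za23) (ka xa6 ya52 za25) (ka xa7 ya2 za37) (ka xa3 ya48 za25) (ka xa3 ya53 za30) (ka xa13 ya6 za15) (ka xa13 ya27 za21) (ka xa13 ya27 za23) (ka xa7 ya16 za40)) (@D3.rec (fun _ => Pt) (ka xa7 ya16 za39) (ka xa3 ya32 za32) (ka xa13 ya27 za27) (ka xa7 ya12 za54) (ka xa6 ya59 za35) (ka xa3 ya32 za38) (ka xa7 ya12 za36) (ka xa11 ya23 za47) (ka xa13 ya26 za52)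 (ka xa7 ya12 za11) (ka xa7 ya12 za32) (ka xa7 ya12 za13) (ka xa7 ya12 za14) (ka xa7 ya12 za17) (ka xa7 ya12 za18) (ka xa7 ya12 za19) (ka xa7 ya12 za20) (ka xa7 ya12 za46) (ka xa6 ya52 za24) (ka xa3 ya49 za47) (ka xa6 ya55 za52) (ka xa7 ya12 za55) (ka xa7 ya12 za56) (ka xa7 ya12 za57) (ka xa7 ya8 za15) (ka xa7 ya8 za16) (ka xa7 ya12 za58) (ka xa7 ya12 za59) (ka xa7 ya12 za60) (ka xa7 ya12 za61) (ka xa3 ya33 za45) (ka xa3 ya33 za46) (ka xa3 ya33 za47) (ka xa3 ya33 za48) (ka xa11 ya28 za0) (ka xa3 ya33 za51) (ka xa13 ya28 za19) (ka xa3 ya33 za55) (ka xa3 ya33 za56) (ka xa3 ya33 za57) (ka xa3 ya33 za58) (ka xa3 ya33 za59) (ka xa3 ya33 za60) (ka xa3 ya34 za4) (ka xa13 ya28 za37) (ka xa3 ya34 za6) (ka xa12 ya8 za38) (ka xa3 ya34 za14) (ka xa6 ya55 za4) (ka xa3 ya34 za22) (ka xa13 ya28 za50) (ka xa3 ya34 za38) (ka xa13 ya28 za55)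 (ka xa3 ya34 za41) (ka xa3 ya34 za42) (ka xa13 ya27 za18) (ka xa13 ya27 za17) (ka xa3 ya32 za59) (ka xa13 ya29 za4) (ka xa3 ya34 za50) (ka xa12 ya30 za20) (ka xa7 ya37 za41)) (@D3.rec (fun _ => Pt) (ka xa7 ya13 za26) (ka xa3 ya33 za6) (ka xa13 ya29 za13) (ka xa13 ya15 za35) (ka xa12 ya6 za36) (ka xa13 ya29 za14) (ka xa5 ya42 za47) (ka xa7 ya0 za45) (ka xa5 ya42 za38) (ka xa7 ya13 za49) (ka xa7 ya13 za50) (ka xa4 ya32 za55) (ka xa13 ya29 za27) (ka xa7 ya13 za52) (ka xa7 ya13 za53) (ka xa13 ya14 za22) (ka xa7 ya13 za55) (ka xa7 ya13 za56) (ka xa7 ya13 za57) (ka xa7 ya13 za58) (ka xa7 ya13 za59) (ka xa6 ya58 za10) (ka xa3 ya56 za4) (ka xa3 ya53 za24) (ka xa3 ya56 za6) (ka xa7 ya10 za15) (ka xa13 ya29 za54) (ka xa7 ya10 za16) (ka xa3 ya48 za21) (ka xa3 ya48 za20) (ka xa3 ya33 za17) (ka xa13 ya29 za59) (ka xa3 ya48 za29) (ka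 xa7 ya13 za27) (ka xa3 ya33 za22) (ka xa5 ya42 za46) (ka xa7 ya13 za51) (ka xa5 ya42 za45) (ka xa4 ya23 za2) (ka xa4 ya23 za3) (ka xa4 ya23 za4) (ka xa3 ya57 za20) (ka xa7 ya13 za36) (ka xa3 ya53 za9) (ka xa7 ya13 za40) (ka xa7 ya13 za41) (ka xa7 ya13 za42) (ka xa7 ya14 za3) (ka xa7 ya14 za4) (ka xa6 ya14 za61) (ka xa7 ya14 za1) (ka xa3 ya33 za31) (ka xa3 ya49 za18) (ka xa13 ya30 za23) (ka xa13 ya30 za24) (ka xa9 ya2 za38) (ka xa13 ya30 za25) (ka xa4 ya23 za12) (ka xa4 ya23 za13) (ka xa4 ya23 za14) (ka xa7 ya14 za23) (ka xa7 ya14 za24)) (@D3.rec (fun _ => Pt) (ka xa7 ya14 za25) (ka xa7 ya14 za26) (ka xa6 ya15 za1) (ka xa3 ya33 za38) (ka xa13 ya14 za32) (ka xa13 ya14 za31) (ka xa11 ya23 za31) (ka xa7 ya14 za12) (ka xa7 ya14 za13) (ka xa7 ya14 za14) (ka xa7 ya14 za15) (ka xa7 ya14 za16) (ka xa7 ya14 za17) (ka xa7 ya14 za18)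 (ka xa7 ya14 za28) (ka xa7 ya6 za24) (ka xa7 ya6 za25) (ka xa3 ya37 za4) (ka xa3 ya37 za5) (ka xa3 ya37 za6) (ka xa3 ya37 za7) (ka xa8 ya3 za31) (ka xa8 ya3 za41) (ka xa11 ya32 za36) (ka xa4 ya2 za9) (ka xa13 ya28 za10) (ka xa13 ya28 za11) (ka xa4 ya25 za28) (ka xa13 ya28 za12) (ka xa13 ya28 za13) (ka xa13 ya28 za14) (ka xa13 ya28 za18) (ka xa3 ya33 za49) (ka xa3 ya49 za26) (ka xa13 ya31 za35) (ka xa13 ya31 za36) (ka xa3 ya37 za23) (ka xa3 ya54 za29) (ka xa3 ya53 za11) (ka xa7 ya40 za28) (ka xa7 ya40 za30) (ka xa13 ya28 za16) (ka xa13 ya28 za17) (ka xa3 ya38 za45) (ka xa11 ya28 za1) (ka xa3 ya33 za53) (ka xa13 ya31 za61) (ka xa13 ya32 za0) (ka xa13 ya32 za1) (ka xa7 ya37 za37) (ka xa7 ya37 za38) (ka xa13 ya28 za22) (ka xa13 ya28 za23) (ka xa13 ya24 za30) (ka xa3 ya53 za33) (ka xa13 ya32 za17) (ka xa13 ya28 za25) (ka xa7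 ya53 za3) (ka xa13 ya28 za26) (ka xa13 ya32 za28) (ka xa13 ya28 za28) (ka xa3 ya39 za37)) (@D3.rec (fun _ => Pt) (ka xa13 ya28 za29) (ka xa13 ya28 za30) (ka xa13 ya28 za31) (ka xa11 ya43 za11) (ka xa7 ya53 za1) (ka xa13 ya28 za33) (ka xa13 ya28 za34) (ka xa3 ya34 za2) (ka xa3 ya34 za3) (ka xa13 ya32 za54) (ka xa3 ya54 za20) (ka xa13 ya22 za42) (ka xa3 ya45 za0) (ka xa3 ya35 za17) (ka xa13 ya32 za60) (ka xa13 ya28 za35) (ka xa12 ya8 za40) (ka xa3 ya34 za5) (ka xa13 ya33 za4) (ka xa13 ya33 za5) (ka xa7 ya40 za33) (ka xa7 ya40 za35) (ka xa13 ya28 za39) (ka xa13 ya28 za40) (ka xa7 ya18 za18) (ka xa7 ya18 za31) (ka xa7 ya11 za1) (ka xa7 ya40 za15) (ka xa13 ya33 za29) (ka xa13 ya23 za55) (ka xa13 ya33 za33) (ka xa3 ya48 za50) (ka xa3 ya48 za51) (ka xa7 ya39 za22) (ka xa7 ya18 za16) (ka xa7 ya16 za38) (ka xa13 ya28 za36) (ka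 xa3 ya34 za13) (ka xa13 ya33 za41) (ka xa13 ya33 za42) (ka xa13 ya28 za42) (ka xa13 ya28 za43) (ka xa13 ya23 za17) (ka xa3 ya53 za32) (ka xa13 ya33 za59) (ka xa13 ya23 za15) (ka xa3 ya34 za18) (ka xa13 ya4 za4) (ka xa10 ya47 za17) (ka xa3 ya49 za43) (ka xa3 ya49 za54) (ka xa13 ya34 za3) (ka xa3 ya37 za21) (ka xa3 ya50 za46) (ka xa7 ya53 za0) (ka xa7 ya52 za61) (ka xa13 ya28 za46) (ka xa13 ya28 za47) (ka xa6 ya59 za9) (ka xa13 ya34 za17) (ka xa6 ya59 za20) (ka xa13 ya34 za22)) (@D3.rec (fun _ => Pt) (ka xa3 ya46 za43) (ka xa3 ya46 za42) (ka xa3 ya34 za28) (ka xa13 ya34 za27) (ka xa7 ya15 za57) (ka xa13 ya34 za37) (ka xa6 ya59 za14) (ka xa3 ya55 za61) (ka xa7 ya16 za37) (ka xa7 ya12 za51) (ka xa7 ya12 za50) (ka xa3 ya34 za32) (ka xa13 ya34 za40) (ka xa13 ya34 za41) (ka xa7 ya16 za43) (ka xa7 ya7 za25) (ka xa7 ya7 za27) (ka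 xa3 ya53 za28) (ka xa3 ya48 za61) (ka xa13 ya28 za54) (ka xa13 ya28 za53) (ka xa3 ya34 za37) (ka xa13 ya34 za58) (ka xa13 ya34 za59) (ka xa13 ya34 za60) (ka xa13 ya28 za52) (ka xa3 ya52 za30) (ka xa13 ya28 za49) (ka xa13 ya28 za48) (ka xa3 ya34 za40) (ka xa13 ya35 za19) (ka xa13 ya35 za20) (ka xa13 ya28 za58) (ka xa7 ya3 za6) (ka xa3 ya52 za28) (ka xa13 ya35 za35) (ka xa3 ya48 za5) (ka xa6 ya57 za1) (ka xa3 ya34 za44) (ka xa13 ya35 za41) (ka xa7 ya18 za38) (ka xa3 ya34 za46) (ka xa7 ya16 za9) (ka xa13 ya35 za45) (ka xa13 ya35 za46) (ka xa13 ya6 za16) (ka xa13 ya35 za57) (ka xa7 ya16 za2) (ka xa13 ya36 za3) (ka xa7 ya10 za53) (ka xa13 ya29 za8) (ka xa13 ya29 za9) (ka xa13 ya29 za10) (ka xa7 ya10 za49) (ka xa7 ya11 za11) (ka xa7 ya11 za10) (ka xa13 ya8 za42) (ka xa13 ya8 za43) (ka xa7 ya11 za17) (ka xa3 ya41 za50) (ka xa7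 ya11 za18) (ka xa3 ya41 za37)) (@D3.rec (fun _ => Pt) (ka xa7 ya52 za15) (ka xa7 ya9 za26) (ka xa13 ya36 za39) (ka xa6 ya55 za3) (ka xa3 ya49 za44) (ka xa3 ya35 za1) (ka xa3 ya35 za2) (ka xa3 ya35 za4) (ka xa10 ya47 za24) (ka xa6 ya56 za12) (ka xa7 ya10 za55) (ka xa7 ya10 za54) (ka xa13 ya36 za45) (ka xa13 ya36 za46) (ka xa6 ya52 za39) (ka xa3 ya51 za7) (ka xa13 ya20 za20) (ka xa7 ya10 za58) (ka xa7 ya10 za60) (ka xa13 ya36 za48) (ka xa3 ya55 za58) (ka xa3 ya35 za8) (ka xa13 ya37 za15) (ka xa7 ya11 za28) (ka xa7 ya21 za31) (ka xa3 ya35 za14) (ka xa13 ya37 za21) (ka xa13 ya37 za23) (ka xa7 ya11 za23) (ka xa13 ya37 za19) (ka xa3 ya35 za15) (ka xa6 ya57 za52) (ka xa6 ya54 za59) (ka xa13 ya37 za31) (ka xa6 ya57 za53) (ka xa7 ya50 za50) (ka xa13 ya27 za22) (ka xa13 ya5 za56) (ka xa13 ya37 za42) (ka xa7 ya11 za52) (ka xa12 ya0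 za17) (ka xa6 ya24 za13) (ka xa6 ya24 za12) (ka xa3 ya35 za21) (ka xa13 ya37 za53) (ka xa6 ya24 za2) (ka xa4 ya11 za53) (ka xa7 ya16 za51) (ka xa3 ya35 za30) (ka xa13 ya37 za60) (ka xa3 ya39 za40) (ka xa13 ya38 za1) (ka xa7 ya11 za39) (ka xa13 ya37 za58) (ka xa7 ya37 za39) (ka xa7 ya37 za40) (ka xa6 ya52 za14) (ka xa6 ya52 za15) (ka xa7 ya0 za5) (ka xa7 ya0 za6) (ka xa7 ya0 za46) (ka xa7 ya5 za38)) (@D3.rec (fun _ => Pt) (ka xa7 ya5 za37) (ka xa7 ya5 za36) (ka xa3 ya35 za44) (ka xa13 ya38 za12) (ka xa13 ya38 za13) (ka xa6 ya25 za0) (ka xa13 ya38 za14) (ka xa7 ya5 za42) (ka xa4 ya24 za2) (ka xa3 ya49 za9) (ka xa4 ya23 za54) (ka xa7 ya6 za9) (ka xa13 ya38 za32) (ka xa7 ya6 za11) (ka xa7 ya6 za12) (ka xa13 ya38 za36) (ka xa7 ya3 za40) (ka xa7 ya6 za13) (ka xa7 ya6 za14) (ka xa7 ya6 za15) (ka xa7 ya6 za16) (ka xa7 ya5 za52)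 (ka xa6 ya52 za20) (ka xa6 ya52 za21) (ka xa6 ya52 za23) (ka xa7 ya4 za14) (ka xa7 ya2 za45) (ka xa3 ya53 za8) (ka xa7 ya5 za32) (ka xa6 ya54 za36) (ka xa7 ya5 za33) (ka xa3 ya36 za6) (ka xa7 ya6 za10) (ka xa4 ya24 za0) (ka xa13 ya38 za35) (ka xa3 ya57 za39) (ka xa7 ya6 za6) (ka xa7 ya5 za44) (ka xa7 ya3 za44) (ka xa13 ya38 za61) (ka xa7 ya5 za46) (ka xa7 ya5 za47) (ka xa7 ya5 za48) (ka xa7 ya5 za49) (ka xa7 ya5 za50) (ka xa7 ya5 za51) (ka xa7 ya6 za17) (ka xa7 ya4 za24) (ka xa13 ya13 za17) (ka xa13 ya39 za15) (ka xa7 ya10 za10) (ka xa7 ya10 za9) (ka xa3 ya36 za15) (ka xa13 ya39 za19) (ka xa7 ya6 za3) (ka xa7 ya6 za21) (ka xa7 ya6 za22) (ka xa7 ya6 za23) (ka xa7 ya6 za26) (ka xa7 ya6 za27) (ka xa7 ya6 za28) (ka xa7 ya6 za29)) (@D3.rec (fun _ => Pt) (ka xa12 ya8 za23) (ka xa3 ya37 za9) (ka xa13 ya39 za42) (ka xa3 ya37 za11)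 (ka xa3 ya37 za13) (ka xa3 ya37 za14) (ka xa3 ya37 za15) (ka xa3 ya37 za16) (ka xa3 ya37 za18) (ka xa13 ya39 za60) (ka xa3 ya37 za20) (ka xa13 ya40 za3) (ka xa3 ya37 za26) (ka xa3 ya37 za34) (ka xa3 ya37 za38) (ka xa13 ya6 za11) (ka xa3 ya37 za40) (ka xa3 ya37 za41) (ka xa7 ya34 za45) (ka xa6 ya59 za44) (ka xa13 ya6 za10) (ka xa3 ya37 za55) (ka xa3 ya49 za5) (ka xa3 ya49 za4) (ka xa3 ya36 za31) (ka xa13 ya40 za26) (ka xa7 ya7 za0) (ka xa7 ya7 za33) (ka xa3 ya49 za10) (ka xa6 ya15 za11) (ka xa6 ya15 za9) (ka xa6 ya15 za8) (ka xa3 ya36 za38) (ka xa13 ya13 za57) (ka xa13 ya13 za56) (ka xa13 ya40 za44) (ka xa7 ya7 za42) (ka xa13 ya40 za48) (ka xa3 ya53 za5) (ka xa3 ya53 za6) (ka xa7 ya7 za44) (ka xa7 ya7 za45) (ka xa7 ya7 za46) (ka xa3 ya55 za54) (ka xa6 ya55 za58) (ka xa3 ya36 za47) (ka xa6 ya56 za48) (ka xa9 ya3 za18) (ka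 xa13 ya40 za47) (ka xa7 ya7 za9) (ka xa7 ya7 za10) (ka xa7 ya7 za36) (ka xa7 ya7 za13) (ka xa7 ya7 za14) (ka xa13 ya41 za8) (ka xa7 ya7 za16) (ka xa7 ya7 za17) (ka xa7 ya7 za18) (ka xa7 ya7 za19) (ka xa7 ya7 za20) (ka xa6 ya58 za28) (ka xa3 ya56 za5)) (@D3.rec (fun _ => Pt) (ka xa3 ya47 za33) (ka xa7 ya7 za50) (ka xa5 ya49 za39) (ka xa7 ya7 za47) (ka xa7 ya7 za48) (ka xa3 ya36 za57) (ka xa3 ya36 za58) (ka xa5 ya14 za0) (ka xa4 ya32 za42) (ka xa13 ya14 za3) (ka xa13 ya14 za2) (ka xa13 ya41 za30) (ka xa7 ya8 za7) (ka xa7 ya8 za8) (ka xa7 ya8 za9) (ka xa7 ya8 za10) (ka xa7 ya8 za11) (ka xa7 ya8 za12) (ka xa7 ya8 za13) (ka xa3 ya37 za0) (ka xa13 ya41 za31) (ka xa13 ya41 za51) (ka xa13 ya41 za52) (ka xa7 ya7 za60) (ka xa7 ya7 za61) (ka xa7 ya8 za0) (ka xa7 ya8 za1) (ka xa6 ya13 za46) (ka xa7 ya8 za14) (ka xa9 ya51 za20) (ka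 xa10 ya16 za8) (ka xa12 ya5 za11) (ka xa5 ya12 za56) (ka xa13 ya26 za44) (ka xa13 ya31 za12) (ka xa8 ya51 za40) (ka xa13 ya31 za13) (ka xa13 ya31 za14) (ka xa13 ya31 za15) (ka xa13 ya39 za41) (ka xa3 ya37 za8) (ka xa13 ya42 za20) (ka xa7 ya51 za12) (ka xa13 ya39 za38) (ka xa13 ya39 za39) (ka xa13 ya39 za40) (ka xa12 ya8 za25) (ka xa3 ya37 za10) (ka xa13 ya42 za36) (ka xa13 ya42 za37) (ka xa12 ya7 za55) (ka xa13 ya39 za44) (ka xa13 ya39 za45) (ka xa13 ya4 za13) (ka xa13 ya42 za50) (ka xa13 ya39 za47) (ka xa7 ya39 za4) (ka xa13 ya39 za48) (ka xa13 ya42 za60) (ka xa13 ya39 za50) (ka xa3 ya38 za40) (ka xa13 ya39 za51)) (@D3.rec (fun _ => Pt) (ka xa13 ya39 za52) (ka xa13 ya39 za53) (ka xa13 ya43 za17) (ka xa13 ya39 za55) (ka xa13 ya39 za56) (ka xa13 ya39 za57) (ka xa13 ya43 za25) (ka xa3 ya55 za14) (ka xa13 ya43 za29) (ka xa13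 ya39 za58) (ka xa13 ya40 za2) (ka xa3 ya37 za19) (ka xa13 ya43 za34) (ka xa13 ya26 za58) (ka xa13 ya33 za39) (ka xa13 ya40 za0) (ka xa13 ya40 za1) (ka xa12 ya36 za6) (ka xa13 ya39 za59) (ka xa3 ya37 za25) (ka xa13 ya43 za51) (ka xa13 ya43 za52) (ka xa13 ya40 za5) (ka xa13 ya40 za6) (ka xa7 ya37 za6) (ka xa13 ya14 za21) (ka xa10 ya47 za14) (ka xa3 ya48 za55) (ka xa13 ya4 za15) (ka xa7 ya37 za36) (ka xa7 ya3 za53) (ka xa11 ya55 za60) (ka xa7 ya3 za54) (ka xa7 ya3 za57) (ka xa3 ya37 za33) (ka xa13 ya24 za15) (ka xa13 ya44 za9) (ka xa7 ya38 za42) (ka xa7 ya3 za30) (ka xa3 ya38 za56) (ka xa13 ya44 za15) (ka xa7 ya2 za48) (ka xa13 ya44 za20) (ka xa7 ya39 za1) (ka xa7 ya2 za39) (ka xa7 ya2 za1) (ka xa13 ya6 za14) (ka xa6 ya56 za26) (ka xa3 ya50 za21) (ka xa13 ya40 za13) (ka xa13 ya40 za14) (ka xa3 ya50 za19) (ka xa10 ya25 za39)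 (ka xa7 ya0 za25) (ka xa7 ya0 za24) (ka xa3 ya37 za45) (ka xa13 ya44 za39) (ka xa7 ya10 za4) (ka xa7 ya1 za25) (ka xa7 ya1 za24) (ka xa3 ya37 za47) (ka xa13 ya44 za50)) (@D3.rec (fun _ => Pt) (ka xa13 ya44 za51) (ka xa13 ya44 za52) (ka xa7 ya10 za47) (ka xa7 ya1 za48) (ka xa13 ya34 za21) (ka xa13 ya34 za20) (ka xa3 ya37 za50) (ka xa13 ya45 za6) (ka xa13 ya16 za7) (ka xa7 ya10 za42) (ka xa13 ya6 za12) (ka xa13 ya6 za13) (ka xa13 ya45 za21) (ka xa7 ya16 za17) (ka xa13 ya40 za21) (ka xa13 ya40 za22) (ka xa13 ya40 za23) (ka xa7 ya16 za13) (ka xa3 ya51 za60) (ka xa13 ya45 za39) (ka xa6 ya55 za41) (ka xa3 ya48 za56) (ka xa3 ya37 za61) (ka xa13 ya45 za49) (ka xa6 ya56 za28) (ka xa7 ya16 za30) (ka xa7 ya16 za29) (ka xa13 ya45 za45) (ka xa13 ya45 za46) (ka xa7 ya16 za26) (ka xa7 ya16 za25) (ka xa7 ya50 za37) (ka xa13 ya9 za33)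 (ka xa13 ya3 za29) (ka xa13 ya3 za61) (ka xa7 ya5 za2) (ka xa13 ya9 za35) (ka xa7 ya10 za8) (ka xa7 ya9 za35) (ka xa7 ya6 za0) (ka xa7 ya5 za61) (ka xa3 ya38 za9) (ka xa13 ya46 za19) (ka xa7 ya10 za14) (ka xa12 ya8 za19) (ka xa7 ya18 za48) (ka xa7 ya18 za49) (ka xa7 ya17 za24) (ka xa7 ya18 za50) (ka xa7 ya18 za51) (ka xa7 ya18 za52) (ka xa7 ya11 za47) (ka xa3 ya38 za36) (ka xa3 ya38 za37) (ka xa12 ya8 za29) (ka xa3 ya38 za39) (ka xa13 ya34 za24) (ka xa3 ya38 za42) (ka xa3 ya38 za43) (ka xa3 ya38 za44) (ka xa3 ya38 za46) (ka xa3 ya38 za47)) (@D3.rec (fun _ => Pt) (ka xa13 ya16 za3) (ka xa3 ya38 za55) (ka xa7 ya30 za42) (ka xa13 ya38 za9) (ka xa3 ya38 za61) (ka xa3 ya39 za0) (ka xa6 ya59 za45) (ka xa7 ya18 za56) (ka xa7 ya19 za4) (ka xa7 ya18 za53) (ka xa7 ya18 za54) (ka xa12 ya7 za46) (ka xa12 ya7 za47) (ka xa12 ya7 za48)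 (ka xa6 ya58 za24) (ka xa7 ya19 za11) (ka xa7 ya19 za12) (ka xa12 ya8 za32) (ka xa12 ya8 za33) (ka xa9 ya19 za43) (ka xa12 ya8 za18) (ka xa7 ya19 za1) (ka xa7 ya19 za2) (ka xa7 ya19 za3) (ka xa7 ya16 za47) (ka xa3 ya39 za32) (ka xa3 ya39 za33) (ka xa3 ya39 za34) (ka xa4 ya20 za40) (ka xa10 ya16 za17) (ka xa4 ya25 za29) (ka xa11 ya33 za33) (ka xa10 ya1 za25) (ka xa13 ya42 za8) (ka xa13 ya46 za42) (ka xa13 ya46 za43) (ka xa13 ya46 za46) (ka xa3 ya38 za38) (ka xa13 ya47 za51) (ka xa13 ya47 za52) (ka xa6 ya58 za39) (ka xa13 ya46 za45) (ka xa13 ya43 za7) (ka xa12 ya8 za30) (ka xa3 ya38 za41) (ka xa13 ya48 za8) (ka xa13 ya48 za9) (ka xa13 ya48 za10) (ka xa13 ya46 za49) (ka xa13 ya46 za50) (ka xa7 ya40 za31) (ka xa7 ya53 za48) (ka xa13 ya38 za48) (ka xa13 ya48 za27) (ka xa13 ya46 za52) (ka xa13 ya46 za53) (ka xa13 ya48 za37)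 (ka xa13 ya31 za59) (ka xa13 ya31 za57) (ka xa13 ya46 za54) (ka xa13 ya33 za24) (ka xa13 ya48 za51)) (@D3.rec (fun _ => Pt) (ka xa7 ya18 za1) (ka xa7 ya18 za0) (ka xa13 ya46 za56) (ka xa3 ya38 za52) (ka xa11 ya3 za61) (ka xa3 ya41 za36) (ka xa13 ya16 za6) (ka xa13 ya16 za5) (ka xa13 ya38 za11) (ka xa3 ya38 za54) (ka xa13 ya49 za4) (ka xa11 ya4 za8) (ka xa13 ya40 za50) (ka xa13 ya46 za58) (ka xa13 ya46 za59) (ka xa13 ya46 za60) (ka xa7 ya9 za34) (ka xa13 ya40 za32) (ka xa7 ya9 za24) (ka xa13 ya49 za25) (ka xa7 ya55 za24) (ka xa7 ya18 za43) (ka xa3 ya38 za60) (ka xa13 ya49 za28) (ka xa13 ya49 za29) (ka xa13 ya47 za1) (ka xa13 ya47 za2) (ka xa7 ya40 za36) (ka xa13 ya41 za3) (ka xa7 ya3 za61) (ka xa13 ya49 za44) (ka xa7 ya9 za25) (ka xa13 ya17 za56) (ka xa6 ya53 za36) (ka xa3 ya46 za57) (ka xa3 ya39 za8) (ka xa3 ya39 za9)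 (ka xa13 ya49 za53) (ka xa7 ya10 za40) (ka xa13 ya49 za50) (ka xa13 ya49 za51) (ka xa7 ya52 za58) (ka xa7 ya43 za32) (ka xa7 ya18 za21) (ka xa7 ya52 za55) (ka xa6 ya52 za11) (ka xa3 ya48 za0) (ka xa11 ya23 za1) (ka xa7 ya16 za45) (ka xa7 ya16 za46) (ka xa7 ya16 za48) (ka xa7 ya16 za49) (ka xa7 ya16 za50) (ka xa7 ya17 za9) (ka xa7 ya17 za10) (ka xa6 ya15 za4) (ka xa7 ya17 za7) (ka xa3 ya39 za23) (ka xa13 ya50 za23) (ka xa13 ya50 za24) (ka xa7 ya57 za15) (ka xa13 ya50 za25)) (@D3.rec (fun _ => Pt) (ka xa3 ya53 za34) (ka xa7 ya17 za21) (ka xa7 ya17 za22) (ka xa7 ya17 za23) (ka xa7 ya17 za8) (ka xa6 ya15 za3) (ka xa6 ya15 za5) (ka xa6 ya14 za55) (ka xa6 ya14 za56) (ka xa6 ya14 za58) (ka xa6 ya58 za21) (ka xa7 ya17 za15) (ka xa7 ya17 za16) (ka xa4 ya13 za27) (ka xa8 ya4 za49) (ka xa6 ya13 za5) (ka xa13 ya47 za30) (ka xa4 ya36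 za43) (ka xa8 ya3 za27) (ka xa13 ya31 za21) (ka xa12 ya21 za30) (ka xa13 ya47 za31) (ka xa13 ya37 za59) (ka xa3 ya39 za35) (ka xa13 ya51 za0) (ka xa13 ya51 za1) (ka xa13 ya24 za9) (ka xa13 ya38 za0) (ka xa3 ya39 za38) (ka xa13 ya51 za12) (ka xa13 ya51 za13) (ka xa13 ya24 za7) (ka xa13 ya4 za16) (ka xa13 ya51 za24) (ka xa6 ya10 za2) (ka xa7 ya49 za10) (ka xa13 ya51 za33) (ka xa6 ya41 za36) (ka xa7 ya49 za4) (ka xa6 ya41 za38) (ka xa6 ya41 za41) (ka xa13 ya51 za47) (ka xa3 ya55 za30) (ka xa13 ya23 za57) (ka xa3 ya39 za45) (ka xa13 ya51 za49) (ka xa13 ya51 za50) (ka xa6 ya59 za41) (ka xa3 ya49 za51) (ka xa3 ya49 za53) (ka xa6 ya59 za34) (ka xa3 ya39 za49) (ka xa13 ya52 za0) (ka xa13 ya52 za1) (ka xa13 ya23 za61) (ka xa13 ya17 za7) (ka xa7 ya48 za0) (ka xa6 ya52 za38) (ka xa6 ya48 za9) (ka xa13 ya7 za12) (ka xa6 ya56 za51)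 (ka xa11 ya36 za2)) (@D3.rec (fun _ => Pt) (ka xa12 ya23 za38) (ka xa10 ya2 za49) (ka xa6 ya30 za49) (ka xa6 ya26 za30) (ka xa6 ya26 za31) (ka xa6 ya26 za32) (ka xa7 ya25 za42) (ka xa7 ya25 za43) (ka xa7 ya25 za44) (ka xa6 ya31 za1) (ka xa6 ya27 za41) (ka xa6 ya31 za2) (ka xa7 ya25 za45) (ka xa13 ya52 za37) (ka xa7 ya25 za48) (ka xa7 ya21 za56) (ka xa7 ya25 za3) (ka xa3 ya54 za30) (ka xa7 ya25 za9) (ka xa7 ya25 za8) (ka xa6 ya13 za32) (ka xa7 ya25 za7) (ka xa3 ya40 za8) (ka xa3 ya40 za9) (ka xa13 ya52 za46) (ka xa13 ya40 za36) (ka xa13 ya40 za40) (ka xa13 ya52 za47) (ka xa13 ya52 za48) (ka xa7 ya25 za52) (ka xa7 ya25 za19) (ka xa7 ya25 za58) (ka xa7 ya25 za59) (ka xa7 ya25 za60) (ka xa4 ya57 za31) (ka xa13 ya53 za14) (ka xa7 ya26 za0) (ka xa7 ya26 za1) (ka xa7 ya54 za41) (ka xa7 ya26 za3) (ka xa7 ya26 za4) (ka xa7 ya26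 za5) (ka xa6 ya43 za59) (ka xa7 ya26 za6) (ka xa3 ya56 za9) (ka xa3 ya56 za16) (ka xa3 ya56 za3) (ka xa3 ya56 za44) (ka xa7 ya26 za9) (ka xa13 ya53 za36) (ka xa7 ya26 za12) (ka xa13 ya53 za41) (ka xa7 ya48 za12) (ka xa13 ya4 za20) (ka xa13 ya4 za19) (ka xa3 ya40 za22) (ka xa10 ya41 za8) (ka xa6 ya54 za8) (ka xa6 ya54 za11) (ka xa7 ya26 za25) (ka xa7 ya26 za26) (ka xa6 ya54 za41)) (@D3.rec (fun _ => Pt) (ka xa6 ya54 za40) (ka xa3 ya40 za24) (ka xa12 ya51 za33) (ka xa13 ya53 za54) (ka xa6 ya54 za44) (ka xa4 ya47 za4) (ka xa7 ya21 za57) (ka xa7 ya25 za4) (ka xa3 ya40 za31) (ka xa3 ya40 za32) (ka xa7 ya1 za20) (ka xa13 ya54 za0) (ka xa7 ya25 za61) (ka xa13 ya54 za1) (ka xa7 ya25 za23) (ka xa7 ya25 za24) (ka xa7 ya25 za25) (ka xa7 ya25 za26) (ka xa7 ya25 za28) (ka xa6 ya57 za44) (ka xa7 ya25 za31) (ka xa7 ya25 za32) (ka xa7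 ya25 za33) (ka xa7 ya26 za31) (ka xa5 ya48 za48) (ka xa7 ya26 za32) (ka xa7 ya26 za33) (ka xa7 ya26 za34) (ka xa7 ya26 za35) (ka xa7 ya26 za36) (ka xa7 ya26 za37) (ka xa7 ya11 za24) (ka xa3 ya41 za31) (ka xa3 ya41 za32) (ka xa3 ya41 za33) (ka xa3 ya41 za34) (ka xa13 ya54 za56) (ka xa3 ya41 za39) (ka xa3 ya41 za41) (ka xa3 ya41 za42) (ka xa3 ya41 za43) (ka xa3 ya41 za44) (ka xa3 ya41 za47) (ka xa13 ya44 za53) (ka xa3 ya41 za49) (ka xa3 ya41 za57) (ka xa7 ya28 za9) (ka xa7 ya27 za39) (ka xa7 ya27 za43) (ka xa7 ya27 za42) (ka xa7 ya27 za41) (ka xa12 ya8 za31) (ka xa12 ya8 za14) (ka xa12 ya8 za15) (ka xa12 ya8 za16) (ka xa13 ya55 za32) (ka xa7 ya20 za15) (ka xa7 ya21 za6) (ka xa6 ya55 za15) (ka xa7 ya28 za15) (ka xa7 ya28 za16) (ka xa7 ya28 za17)) (@D3.rec (fun _ => Pt) (ka xa7 ya28 za18) (ka xa13 ya55 za56) (ka xa7 ya28 za19)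 (ka xa7 ya28 za20) (ka xa13 ya56 za0) (ka xa7 ya28 za22) (ka xa7 ya28 za24) (ka xa7 ya28 za25) (ka xa7 ya28 za26) (ka xa6 ya53 za6) (ka xa6 ya53 za5) (ka xa13 ya18 za10) (ka xa7 ya3 za58) (ka xa7 ya0 za12) (ka xa7 ya1 za21) (ka xa3 ya41 za2) (ka xa3 ya41 za3) (ka xa3 ya50 za2) (ka xa7 ya2 za17) (ka xa13 ya56 za16) (ka xa7 ya2 za27) (ka xa13 ya56 za17) (ka xa13 ya55 za61) (ka xa7 ya27 za51) (ka xa7 ya27 za52) (ka xa7 ya27 za53) (ka xa7 ya27 za54) (ka xa7 ya28 za13) (ka xa7 ya27 za56) (ka xa7 ya27 za57) (ka xa13 ya56 za46) (ka xa7 ya27 za59) (ka xa7 ya27 za60) (ka xa7 ya27 za61) (ka xa7 ya28 za0) (ka xa7 ya28 za1) (ka xa7 ya28 za2) (ka xa7 ya4 za53) (ka xa7 ya4 za59) (ka xa6 ya59 za42) (ka xa7 ya28 za31) (ka xa7 ya28 za32) (ka xa7 ya28 za51) (ka xa7 ya28 za27) (ka xa7 ya28 za28) (ka xa7 ya28 za29) (ka xa3 ya41 za13) (ka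 xa3 ya41 za14) (ka xa7 ya28 za36) (ka xa7 ya28 za35) (ka xa13 ya57 za8) (ka xa13 ya57 za9) (ka xa13 ya24 za47) (ka xa13 ya24 za46) (ka xa13 ya57 za10) (ka xa7 ya28 za58) (ka xa7 ya28 za59) (ka xa7 ya28 za60) (ka xa7 ya28 za61) (ka xa3 ya56 za26) (ka xa7 ya29 za1) (ka xa7 ya28 za30)) (@D3.rec (fun _ => Pt) (ka xa7 ya28 za53) (ka xa6 ya25 za1) (ka xa7 ya28 za52) (ka xa3 ya41 za20) (ka xa3 ya41 za21) (ka xa6 ya24 za61) (ka xa6 ya24 za60) (ka xa13 ya38 za24) (ka xa12 ya8 za8) (ka xa12 ya8 za12) (ka xa13 ya57 za45) (ka xa13 ya57 za46) (ka xa7 ya28 za43) (ka xa7 ya28 za44) (ka xa7 ya28 za45) (ka xa7 ya28 za46) (ka xa7 ya28 za48) (ka xa7 ya28 za49) (ka xa7 ya28 za50) (ka xa3 ya41 za25) (ka xa13 ya58 za15) (ka xa8 ya32 za59) (ka xa4 ya57 za38) (ka xa7 ya29 za11) (ka xa3 ya41 za27) (ka xa13 ya58 za21) (ka xa7 ya29 za5) (ka xa7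 ya29 za6) (ka xa7 ya29 za7) (ka xa7 ya29 za8) (ka xa7 ya29 za13) (ka xa7 ya29 za12) (ka xa3 ya41 za29) (ka xa13 ya58 za38) (ka xa7 ya27 za30) (ka xa7 ya27 za31) (ka xa7 ya27 za33) (ka xa13 ya58 za46) (ka xa13 ya54 za46) (ka xa13 ya54 za47) (ka xa13 ya54 za48) (ka xa13 ya58 za60) (ka xa11 ya19 za59) (ka xa13 ya54 za50) (ka xa11 ya19 za57) (ka xa13 ya54 za51) (ka xa13 ya54 za52) (ka xa13 ya54 za53) (ka xa13 ya54 za54) (ka xa13 ya54 za55) (ka xa3 ya41 za35) (ka xa11 ya3 za49) (ka xa11 ya3 za52) (ka xa3 ya56 za43) (ka xa13 ya48 za59) (ka xa11 ya2 za48) (ka xa3 ya55 za19) (ka xa13 ya48 za58) (ka xa3 ya41 za38) (ka xa11 ya4 za0) (ka xa13 ya59 za40) (ka xa13 ya54 za58)) (@D3.rec (fun _ => Pt) (ka xa13 ya54 za59) (ka xa7 ya54 za10) (ka xa13 ya59 za53) (ka xa13 ya54 za61) (ka xa13 ya55 za0) (ka xa14 ya0 za2) (ka xa13 ya55 za2)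 (ka xa13 ya55 za3) (ka xa13 ya55 za4) (ka xa13 ya55 za5) (ka xa14 ya0 za16) (ka xa7 ya24 za12) (ka xa7 ya24 za11) (ka xa13 ya55 za7) (ka xa14 ya0 za25) (ka xa13 ya55 za8) (ka xa13 ya48 za11) (ka xa3 ya41 za48) (ka xa14 ya0 za29) (ka xa14 ya0 za30) (ka xa13 ya55 za10) (ka xa13 ya37 za36) (ka xa13 ya55 za11) (ka xa13 ya55 za12) (ka xa7 ya50 za59) (ka xa13 ya36 za34) (ka xa6 ya57 za41) (ka xa14 ya0 za51) (ka xa13 ya14 za51) (ka xa3 ya55 za31) (ka xa13 ya34 za23) (ka xa6 ya53 za31) (ka xa6 ya53 za32) (ka xa7 ya3 za19) (ka xa3 ya41 za56) (ka xa14 ya0 za59) (ka xa14 ya0 za60) (ka xa13 ya55 za13) (ka xa13 ya55 za14) (ka xa13 ya9 za39) (ka xa13 ya25 za16) (ka xa13 ya34 za61) (ka xa7 ya50 za51) (ka xa3 ya52 za9) (ka xa7 ya24 za51) (ka xa7 ya33 za37) (ka xa7 ya33 za38) (ka xa7 ya3 za5) (ka xa7 ya33 za39) (ka xa3 ya50 za44) (ka xa3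 ya52 za10) (ka xa7 ya24 za44) (ka xa13 ya18 za59) (ka xa13 ya18 za60) (ka xa7 ya46 za45) (ka xa6 ya50 za56) (ka xa6 ya42 za3) (ka xa6 ya42 za2) (ka xa3 ya42 za5) (ka xa14 ya1 za38) (ka xa10 ya5 za9) (ka xa6 ya55 za11)) (@D3.rec (fun _ => Pt) (ka xa6 ya55 za10) (ka xa3 ya42 za9) (ka xa14 ya1 za45) (ka xa7 ya20 za16) (ka xa7 ya21 za7) (ka xa6 ya55 za16) (ka xa3 ya55 za22) (ka xa7 ya20 za21) (ka xa7 ya20 za19) (ka xa7 ya20 za18) (ka xa3 ya42 za16) (ka xa3 ya42 za17) (ka xa6 ya24 za56) (ka xa6 ya13 za55) (ka xa14 ya1 za52) (ka xa7 ya53 za57) (ka xa7 ya53 za56) (ka xa14 ya1 za53) (ka xa14 ya2 za6) (ka xa7 ya20 za30) (ka xa6 ya53 za50) (ka xa9 ya9 za26) (ka xa6 ya31 za61) (ka xa7 ya21 za14) (ka xa7 ya21 za15) (ka xa7 ya21 za16) (ka xa7 ya21 za17) (ka xa14 ya2 za25) (ka xa7 ya21 za18) (ka xa14 ya2 za29) (ka xa6 ya57 za40) (ka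 xa7 ya21 za20) (ka xa7 ya21 za21) (ka xa7 ya21 za22) (ka xa3 ya53 za25) (ka xa3 ya53 za31) (ka xa7 ya51 za4) (ka xa14 ya2 za37) (ka xa7 ya29 za60) (ka xa6 ya42 za9) (ka xa6 ya42 za8) (ka xa3 ya42 za30) (ka xa7 ya20 za6) (ka xa7 ya20 za7) (ka xa7 ya20 za8) (ka xa7 ya20 za12) (ka xa4 ya50 za22) (ka xa14 ya2 za50) (ka xa7 ya20 za14) (ka xa3 ya50 za3) (ka xa3 ya42 za38) (ka xa3 ya42 za39) (ka xa7 ya20 za29) (ka xa7 ya2 za11) (ka xa14 ya2 za56) (ka xa3 ya51 za53) (ka xa12 ya47 za51) (ka xa14 ya2 za28) (ka xa7 ya20 za31) (ka xa7 ya20 za32) (ka xa7 ya20 za33) (ka xa7 ya21 za12)) (@D3.rec (fun _ => Pt) (ka xa7 ya20 za36) (ka xa7 ya20 za37) (ka xa14 ya3 za11) (ka xa7 ya20 za39) (ka xa7 ya20 za40) (ka xa7 ya20 za41) (ka xa7 ya20 za43) (ka xa3 ya56 za31) (ka xa3 ya56 za36) (ka xa7 ya20 za48) (ka xa6 ya54 za61) (ka xa14 ya3 za25)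 (ka xa7 ya20 za50) (ka xa3 ya56 za45) (ka xa3 ya56 za46) (ka xa7 ya33 za40) (ka xa3 ya56 za48) (ka xa14 ya3 za36) (ka xa6 ya54 za14) (ka xa14 ya3 za40) (ka xa6 ya54 za13) (ka xa13 ya4 za45) (ka xa13 ya4 za44) (ka xa3 ya42 za51) (ka xa14 ya3 za46) (ka xa7 ya20 za59) (ka xa7 ya20 za60) (ka xa6 ya31 za11) (ka xa6 ya31 za10) (ka xa3 ya42 za53) (ka xa7 ya1 za13) (ka xa7 ya21 za23) (ka xa7 ya21 za25) (ka xa7 ya21 za26) (ka xa7 ya21 za27) (ka xa7 ya21 za28) (ka xa7 ya21 za29) (ka xa7 ya21 za30) (ka xa3 ya44 za12) (ka xa3 ya44 za13) (ka xa3 ya44 za14) (ka xa3 ya44 za15) (ka xa4 ya38 za9) (ka xa3 ya42 za60) (ka xa4 ya36 za60) (ka xa10 ya5 za30) (ka xa4 ya48 za22) (ka xa6 ya53 za4) (ka xa6 ya31 za9) (ka xa3 ya43 za3) (ka xa5 ya44 za28) (ka xa11 ya58 za2) (ka xa6 ya30 za54) (ka xa6 ya30 za55) (ka xa4 ya50 za13) (ka xa6 ya30 za60)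 (ka xa6 ya30 za61) (ka xa14 ya4 za36) (ka xa6 ya31 za4) (ka xa6 ya10 za57) (ka xa6 ya31 za21) (ka xa11 ya58 za17)) (@D3.rec (fun _ => Pt) (ka xa6 ya1 za3) (ka xa6 ya31 za38) (ka xa6 ya1 za4) (ka xa6 ya31 za39) (ka xa4 ya7 za19) (ka xa6 ya12 za47) (ka xa6 ya31 za43) (ka xa6 ya31 za44) (ka xa6 ya31 za35) (ka xa6 ya31 za34) (ka xa3 ya43 za16) (ka xa8 ya49 za60) (ka xa6 ya31 za27) (ka xa6 ya31 za28) (ka xa6 ya31 za29) (ka xa6 ya7 za56) (ka xa6 ya12 za18) (ka xa4 ya41 za11) (ka xa6 ya31 za46) (ka xa6 ya31 za45) (ka xa3 ya43 za21) (ka xa14 ya4 za55) (ka xa6 ya31 za59) (ka xa6 ya31 za53) (ka xa6 ya31 za52) (ka xa3 ya43 za23) (ka xa11 ya58 za8) (ka xa6 ya31 za51) (ka xa6 ya12 za20) (ka xa9 ya8 za5) (ka xa7 ya23 za34) (ka xa7 ya23 za35) (ka xa6 ya50 za36) (ka xa7 ya23 za36) (ka xa6 ya31 za32) (ka xa6 ya53 za45) (ka xa6 ya53 za44)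 (ka xa3 ya43 za30) (ka xa14 ya5 za3) (ka xa7 ya21 za47) (ka xa6 ya53 za51) (ka xa7 ya21 za50) (ka xa7 ya21 za49) (ka xa7 ya21 za48) (ka xa3 ya43 za36) (ka xa3 ya43 za37) (ka xa8 ya50 za42) (ka xa13 ya38 za15) (ka xa13 ya38 za19) (ka xa14 ya5 za11) (ka xa14 ya5 za12) (ka xa7 ya22 za23) (ka xa7 ya22 za24) (ka xa7 ya22 za25) (ka xa7 ya22 za26) (ka xa14 ya5 za36) (ka xa7 ya22 za28) (ka xa7 ya22 za29) (ka xa13 ya25 za18) (ka xa7 ya22 za31) (ka xa7 ya22 za32) (ka xa7 ya22 za33)) (@D3.rec (fun _ => Pt) (ka xa7 ya22 za34) (ka xa7 ya22 za35) (ka xa7 ya22 za36) (ka xa7 ya4 za27) (ka xa7 ya4 za34) (ka xa7 ya4 za49) (ka xa3 ya55 za55) (ka xa5 ya25 za9) (ka xa3 ya55 za60) (ka xa7 ya21 za46) (ka xa3 ya43 za48) (ka xa3 ya43 za49) (ka xa14 ya6 za3) (ka xa7 ya22 za27) (ka xa14 ya6 za4) (ka xa7 ya21 za59) (ka xa7 ya21 za60) (ka xa7 ya21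 za61) (ka xa7 ya22 za0) (ka xa7 ya22 za2) (ka xa7 ya22 za3) (ka xa14 ya6 za24) (ka xa7 ya22 za5) (ka xa6 ya55 za47) (ka xa7 ya22 za6) (ka xa7 ya22 za7) (ka xa7 ya22 za8) (ka xa7 ya22 za43) (ka xa7 ya22 za44) (ka xa7 ya22 za45) (ka xa7 ya22 za61) (ka xa7 ya22 za40) (ka xa7 ya22 za41) (ka xa3 ya43 za57) (ka xa3 ya43 za58) (ka xa7 ya22 za49) (ka xa7 ya22 za48) (ka xa14 ya6 za41) (ka xa14 ya6 za42) (ka xa14 ya6 za43) (ka xa14 ya6 za44) (ka xa14 ya6 za45) (ka xa14 ya6 za46) (ka xa7 ya23 za12) (ka xa7 ya23 za13) (ka xa7 ya23 za14) (ka xa7 ya23 za15) (ka xa3 ya56 za2) (ka xa7 ya23 za16) (ka xa7 ya23 za17) (ka xa7 ya23 za18) (ka xa7 ya22 za42) (ka xa7 ya23 za2) (ka xa7 ya23 za0) (ka xa3 ya44 za3) (ka xa13 ya25 za30) (ka xa13 ya25 za29) (ka xa14 ya7 za22) (ka xa7 ya22 za55) (ka xa7 ya22 za56) (ka xa7 ya22 za57) (ka xa7 ya22 za58))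 (@D3.rec (fun _ => Pt) (ka xa3 ya56 za23) (ka xa7 ya22 za60) (ka xa3 ya44 za6) (ka xa14 ya7 za39) (ka xa14 ya7 za40) (ka xa7 ya23 za26) (ka xa7 ya23 za27) (ka xa7 ya23 za28) (ka xa7 ya23 za29) (ka xa3 ya44 za8) (ka xa14 ya7 za54) (ka xa7 ya23 za23) (ka xa7 ya23 za31) (ka xa7 ya23 za30) (ka xa11 ya11 za15) (ka xa6 ya32 za1) (ka xa6 ya32 za2) (ka xa6 ya32 za3) (ka xa6 ya32 za4) (ka xa14 ya8 za12) (ka xa14 ya4 za11) (ka xa14 ya4 za12) (ka xa14 ya4 za13) (ka xa14 ya8 za26) (ka xa14 ya4 za15) (ka xa14 ya4 za16) (ka xa14 ya4 za17) (ka xa14 ya4 za18) (ka xa14 ya4 za19) (ka xa12 ya19 za19) (ka xa14 ya4 za20) (ka xa13 ya37 za20) (ka xa3 ya44 za16) (ka xa14 ya8 za51) (ka xa14 ya8 za52) (ka xa12 ya19 za5) (ka xa13 ya26 za26) (ka xa3 ya54 za26) (ka xa13 ya37 za22) (ka xa3 ya44 za19) (ka xa14 ya9 za6) (ka xa14 ya9 za7) (ka xa12 ya13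 za51) (ka xa13 ya26 za24) (ka xa14 ya9 za17) (ka xa12 ya13 za46) (ka xa13 ya13 za46) (ka xa14 ya9 za24) (ka xa12 ya18 za60) (ka xa13 ya13 za41) (ka xa12 ya19 za17) (ka xa12 ya19 za18) (ka xa14 ya9 za36) (ka xa14 ya9 za39) (ka xa13 ya2 za39) (ka xa13 ya26 za11) (ka xa3 ya44 za27) (ka xa14 ya9 za44) (ka xa14 ya9 za45) (ka xa13 ya2 za45) (ka xa7 ya25 za38) (ka xa12 ya19 za8)) (@D3.rec (fun _ => Pt) (ka xa13 ya2 za46) (ka xa6 ya55 za48) (ka xa6 ya55 za50) (ka xa13 ya2 za42) (ka xa3 ya44 za31) (ka xa14 ya10 za1) (ka xa14 ya10 za2) (ka xa12 ya19 za10) (ka xa13 ya26 za14) (ka xa13 ya25 za55) (ka xa13 ya13 za5) (ka xa7 ya49 za41) (ka xa3 ya47 za34) (ka xa3 ya47 za35) (ka xa3 ya47 za36) (ka xa3 ya47 za30) (ka xa3 ya47 za31) (ka xa3 ya47 za32) (ka xa6 ya54 za20) (ka xa6 ya54 za21) (ka xa6 ya54 za22) (ka xa6 ya54 za23) (ka xa14 ya10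 za31) (ka xa3 ya52 za27) (ka xa3 ya52 za31) (ka xa3 ya52 za33) (ka xa3 ya52 za25) (ka xa12 ya51 za39) (ka xa3 ya53 za27) (ka xa13 ya14 za1) (ka xa13 ya15 za4) (ka xa13 ya15 za3) (ka xa3 ya44 za42) (ka xa14 ya10 za49) (ka xa3 ya53 za53) (ka xa3 ya44 za61) (ka xa4 ya37 za15) (ka xa6 ya49 za27) (ka xa3 ya44 za49) (ka xa4 ya41 za47) (ka xa11 ya21 za61) (ka xa6 ya49 za21) (ka xa7 ya17 za2) (ka xa12 ya34 za51) (ka xa7 ya31 za15) (ka xa13 ya0 za54) (ka xa3 ya44 za57) (ka xa13 ya19 za17) (ka xa13 ya49 za52) (ka xa14 ya10 za59) (ka xa6 ya56 za31) (ka xa6 ya56 za32) (ka xa6 ya56 za33) (ka xa6 ya56 za34) (ka xa13 ya20 za9) (ka xa3 ya52 za42) (ka xa7 ya0 za48) (ka xa3 ya45 za4) (ka xa6 ya20 za8) (ka xa14 ya11 za14) (ka xa6 ya34 za30) (ka xa6 ya36 za40)) (@D3.rec (fun _ => Pt) (ka xa9 ya20 za13) (ka xa14 ya11 za24) (ka xa12 ya1 za6)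 (ka xa6 ya36 za38) (ka xa6 ya36 za37) (ka xa3 ya45 za9) (ka xa14 ya11 za28) (ka xa14 ya11 za29) (ka xa6 ya34 za31) (ka xa6 ya36 za43) (ka xa6 ya19 za9) (ka xa6 ya19 za11) (ka xa6 ya19 za12) (ka xa3 ya45 za13) (ka xa14 ya11 za39) (ka xa7 ya30 za44) (ka xa12 ya32 za32) (ka xa4 ya44 za18) (ka xa6 ya20 za40) (ka xa12 ya27 za48) (ka xa6 ya20 za11) (ka xa4 ya37 za30) (ka xa3 ya45 za18) (ka xa9 ya57 za7) (ka xa6 ya34 za17) (ka xa6 ya11 za19) (ka xa6 ya34 za12) (ka xa3 ya45 za23) (ka xa14 ya11 za50) (ka xa6 ya11 za37) (ka xa6 ya11 za40) (ka xa6 ya34 za21) (ka xa6 ya34 za22) (ka xa9 ya20 za41) (ka xa6 ya21 za23) (ka xa12 ya39 za1) (ka xa12 ya2 za10) (ka xa12 ya1 za55) (ka xa10 ya12 za53) (ka xa14 ya11 za59) (ka xa12 ya1 za53) (ka xa3 ya45 za32) (ka xa14 ya11 za61) (ka xa14 ya12 za0) (ka xa9 ya32 za45) (ka xa12 ya58 za33) (ka xa12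 ya2 za7) (ka xa12 ya0 za2) (ka xa12 ya2 za8) (ka xa9 ya32 za49) (ka xa14 ya12 za19) (ka xa6 ya34 za36) (ka xa6 ya34 za37) (ka xa9 ya20 za43) (ka xa6 ya59 za43) (ka xa13 ya17 za22) (ka xa13 ya15 za52) (ka xa12 ya51 za14) (ka xa13 ya17 za21) (ka xa3 ya45 za41) (ka xa3 ya45 za42) (ka xa7 ya37 za44)) (@D3.rec (fun _ => Pt) (ka xa7 ya37 za42) (ka xa12 ya1 za10) (ka xa12 ya1 za9) (ka xa13 ya22 za44) (ka xa13 ya22 za43) (ka xa14 ya12 za28) (ka xa6 ya28 za32) (ka xa7 ya38 za24) (ka xa7 ya38 za25) (ka xa3 ya53 za0) (ka xa13 ya17 za33) (ka xa6 ya51 za47) (ka xa3 ya45 za48) (ka xa13 ya9 za1) (ka xa13 ya9 za2) (ka xa14 ya12 za47) (ka xa6 ya52 za16) (ka xa14 ya12 za48) (ka xa14 ya12 za49) (ka xa7 ya38 za18) (ka xa7 ya38 za19) (ka xa7 ya38 za20) (ka xa7 ya38 za21) (ka xa7 ya48 za34) (ka xa13 ya17 za28) (ka xa13 ya17 za29) (ka xa6 ya59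 za46) (ka xa3 ya45 za52) (ka xa14 ya13 za16) (ka xa9 ya21 za20) (ka xa9 ya21 za21) (ka xa9 ya21 za22) (ka xa3 ya45 za55) (ka xa3 ya45 za56) (ka xa3 ya45 za57) (ka xa3 ya45 za58) (ka xa13 ya4 za54) (ka xa10 ya20 za16) (ka xa13 ya33 za28) (ka xa14 ya13 za31) (ka xa10 ya2 za37) (ka xa13 ya22 za53) (ka xa10 ya25 za43) (ka xa10 ya25 za41) (ka xa14 ya13 za26) (ka xa3 ya45 za59) (ka xa12 ya32 za60) (ka xa14 ya13 za39) (ka xa13 ya17 za47) (ka xa12 ya45 za32) (ka xa3 ya45 za61) (ka xa14 ya13 za47) (ka xa14 ya13 za48) (ka xa12 ya45 za54) (ka xa9 ya28 za38) (ka xa13 ya17 za44) (ka xa13 ya17 za45) (ka xa14 ya14 za2) (ka xa6 ya35 za7) (ka xa13 ya18 za31) (ka xa13 ya18 za32) (ka xa14 ya14 za15)) (@D3.rec (fun _ => Pt) (ka xa6 ya35 za8) (ka xa13 ya18 za33) (ka xa9 ya23 za48) (ka xa13 ya18 za34) (ka xa13 ya18 za35) (ka xa13 ya18 za36)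 (ka xa13 ya18 za37) (ka xa13 ya18 za42) (ka xa3 ya46 za5) (ka xa14 ya14 za35) (ka xa14 ya14 za36) (ka xa7 ya48 za22) (ka xa13 ya18 za40) (ka xa13 ya18 za41) (ka xa6 ya52 za33) (ka xa3 ya46 za8) (ka xa14 ya14 za49) (ka xa14 ya14 za50) (ka xa13 ya18 za46) (ka xa13 ya18 za47) (ka xa7 ya48 za30) (ka xa14 ya15 za0) (ka xa13 ya18 za49) (ka xa3 ya53 za19) (ka xa13 ya18 za50) (ka xa14 ya3 za45) (ka xa13 ya18 za52) (ka xa3 ya48 za48) (ka xa13 ya18 za53) (ka xa13 ya18 za54) (ka xa13 ya18 za55) (ka xa9 ya53 za54) (ka xa7 ya33 za33) (ka xa7 ya33 za32) (ka xa13 ya4 za49) (ka xa13 ya4 za51) (ka xa7 ya51 za32) (ka xa7 ya24 za45) (ka xa7 ya24 za46) (ka xa7 ya24 za48) (ka xa7 ya26 za15) (ka xa7 ya1 za45) (ka xa11 ya41 za45) (ka xa13 ya18 za3) (ka xa11 ya49 za50) (ka xa3 ya46 za23) (ka xa9 ya45 za34) (ka xa7 ya59 za26) (ka xa13 ya34 za16)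 (ka xa13 ya34 za15) (ka xa11 ya35 za12) (ka xa13 ya26 za37) (ka xa12 ya0 za58) (ka xa3 ya46 za30) (ka xa11 ya29 za5) (ka xa12 ya27 za34) (ka xa14 ya15 za52) (ka xa6 ya53 za7) (ka xa6 ya53 za8) (ka xa7 ya39 za37) (ka xa7 ya39 za38) (ka xa13 ya15 za0)) (@D3.rec (fun _ => Pt) (ka xa13 ya18 za13) (ka xa13 ya18 za14) (ka xa13 ya18 za11) (ka xa3 ya46 za44) (ka xa6 ya53 za22) (ka xa12 ya51 za31) (ka xa12 ya51 za32) (ka xa12 ya51 za34) (ka xa9 ya23 za54) (ka xa12 ya51 za35) (ka xa12 ya51 za36) (ka xa12 ya51 za37) (ka xa9 ya32 za0) (ka xa6 ya53 za28) (ka xa13 ya34 za26) (ka xa13 ya23 za28) (ka xa13 ya34 za25) (ka xa13 ya23 za37) (ka xa13 ya34 za29) (ka xa13 ya34 za28) (ka xa14 ya16 za7) (ka xa14 ya16 za40) (ka xa6 ya34 za32) (ka xa13 ya17 za49) (ka xa13 ya17 za50) (ka xa14 ya16 za49) (ka xa6 ya34 za33) (ka xa13 ya17 za52) (ka xa13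 ya17 za53) (ka xa13 ya17 za54) (ka xa13 ya17 za55) (ka xa12 ya56 za60) (ka xa3 ya46 za49) (ka xa14 ya17 za3) (ka xa14 ya17 za4) (ka xa13 ya15 za55) (ka xa13 ya15 za51) (ka xa3 ya46 za52) (ka xa14 ya17 za14) (ka xa14 ya17 za15) (ka xa13 ya17 za60) (ka xa14 ya17 za23) (ka xa13 ya18 za0) (ka xa14 ya17 za28) (ka xa13 ya18 za2) (ka xa7 ya13 za18) (ka xa13 ya49 za49) (ka xa3 ya52 za13) (ka xa6 ya55 za22) (ka xa3 ya48 za24) (ka xa3 ya49 za19) (ka xa3 ya47 za2) (ka xa4 ya44 za43) (ka xa6 ya33 za29) (ka xa6 ya55 za33) (ka xa13 ya44 za5) (ka xa5 ya53 za5) (ka xa3 ya48 za42) (ka xa3 ya48 za43) (ka xa3 ya48 za44) (ka xa3 ya48 za45) (ka xa6 ya55 za26)) (@D3.rec (fun _ => Pt) (ka xa3 ya48 za47) (ka xa3 ya48 za52) (ka xa3 ya48 za53) (ka xa3 ya48 za54) (ka xa6 ya55 za42) (ka xa3 ya48 za60) (ka xa3 ya49 za0) (ka xa7 ya38 za8) (ka xa7 ya38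 za12) (ka xa10 ya47 za18) (ka xa3 ya49 za30) (ka xa3 ya49 za31) (ka xa3 ya49 za32) (ka xa3 ya49 za33) (ka xa14 ya18 za19) (ka xa3 ya49 za36) (ka xa13 ya36 za38) (ka xa3 ya49 za38) (ka xa3 ya49 za40) (ka xa3 ya49 za41) (ka xa3 ya49 za42) (ka xa6 ya55 za54) (ka xa3 ya50 za26) (ka xa3 ya50 za23) (ka xa3 ya47 za18) (ka xa14 ya18 za34) (ka xa14 ya18 za35) (ka xa14 ya18 za36) (ka xa14 ya18 za37) (ka xa3 ya50 za15) (ka xa3 ya50 za16) (ka xa3 ya50 za17) (ka xa3 ya50 za18) (ka xa3 ya50 za20) (ka xa3 ya49 za59) (ka xa3 ya49 za61) (ka xa6 ya56 za13) (ka xa3 ya49 za55) (ka xa3 ya49 za57) (ka xa3 ya47 za26) (ka xa11 ya29 za56) (ka xa11 ya29 za60) (ka xa13 ya34 za2) (ka xa13 ya34 za1) (ka xa14 ya18 za60) (ka xa3 ya50 za39) (ka xa3 ya50 za40) (ka xa3 ya50 za41) (ka xa3 ya50 za42) (ka xa3 ya50 za43) (ka xa3 ya50 za45) (ka xa3 ya49 za58)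 (ka xa3 ya47 za29) (ka xa12 ya33 za41) (ka xa14 ya19 za21) (ka xa14 ya10 za17) (ka xa14 ya10 za18) (ka xa14 ya10 za19) (ka xa13 ya45 za43) (ka xa3 ya50 za22) (ka xa13 ya41 za23) (ka xa13 ya41 za24)) (@D3.rec (fun _ => Pt) (ka xa14 ya10 za14) (ka xa14 ya10 za15) (ka xa14 ya10 za16) (ka xa13 ya28 za44) (ka xa3 ya47 za41) (ka xa3 ya47 za42) (ka xa3 ya47 za43) (ka xa3 ya47 za44) (ka xa3 ya47 za45) (ka xa3 ya47 za46) (ka xa13 ya1 za15) (ka xa6 ya41 za51) (ka xa12 ya45 za19) (ka xa11 ya44 za35) (ka xa6 ya41 za52) (ka xa8 ya12 za24) (ka xa12 ya44 za12) (ka xa11 ya35 za14) (ka xa14 ya19 za50) (ka xa11 ya1 za32) (ka xa14 ya19 za51) (ka xa14 ya19 za52) (ka xa14 ya19 za53) (ka xa14 ya19 za54) (ka xa14 ya20 za26) (ka xa14 ya19 za56) (ka xa11 ya0 za44) (ka xa14 ya19 za57) (ka xa14 ya20 za34) (ka xa10 ya41 za41) (ka xa14 ya3 za32) (ka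 xa14 ya19 za59) (ka xa14 ya19 za60) (ka xa14 ya19 za61) (ka xa14 ya20 za0) (ka xa10 ya42 za45) (ka xa3 ya51 za36) (ka xa3 ya51 za37) (ka xa3 ya51 za38) (ka xa14 ya20 za54) (ka xa3 ya51 za40) (ka xa3 ya51 za41) (ka xa3 ya51 za42) (ka xa3 ya51 za43) (ka xa3 ya51 za44) (ka xa3 ya51 za45) (ka xa3 ya51 za46) (ka xa3 ya52 za4) (ka xa3 ya47 za51) (ka xa14 ya21 za15) (ka xa3 ya51 za61) (ka xa3 ya52 za0) (ka xa3 ya52 za1) (ka xa3 ya51 za51) (ka xa3 ya47 za54) (ka xa10 ya31 za48) (ka xa14 ya21 za24) (ka xa3 ya52 za8) (ka xa5 ya21 za35) (ka xa3 ya52 za12) (ka xa3 ya52 za14) (ka xa12 ya47 za48)) (@D3.rec (fun _ => Pt) (ka xa3 ya52 za16) (ka xa3 ya52 za18) (ka xa3 ya52 za19) (ka xa3 ya52 za20) (ka xa14 ya21 za43) (ka xa3 ya52 za24) (ka xa7 ya15 za24) (ka xa14 ya21 za48) (ka xa3 ya52 za46) (ka xa3 ya53 za13) (ka xa3 ya48 za2) (ka xa14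 ya21 za53) (ka xa3 ya52 za51) (ka xa3 ya52 za52) (ka xa3 ya52 za53) (ka xa3 ya52 za54) (ka xa14 ya22 za5) (ka xa3 ya52 za47) (ka xa3 ya48 za6) (ka xa14 ya22 za8) (ka xa14 ya22 za9) (ka xa3 ya53 za17) (ka xa3 ya53 za18) (ka xa3 ya53 za20) (ka xa6 ya56 za15) (ka xa6 ya56 za14) (ka xa12 ya33 za60) (ka xa12 ya33 za61) (ka xa12 ya34 za0) (ka xa6 ya56 za6) (ka xa6 ya56 za7) (ka xa6 ya56 za8) (ka xa6 ya56 za9) (ka xa6 ya56 za10) (ka xa3 ya55 za35) (ka xa6 ya56 za11) (ka xa7 ya15 za29) (ka xa7 ya8 za49) (ka xa7 ya8 za50) (ka xa7 ya11 za54) (ka xa7 ya11 za55) (ka xa7 ya6 za61) (ka xa7 ya32 za0) (ka xa13 ya29 za58) (ka xa7 ya31 za61) (ka xa13 ya29 za57) (ka xa3 ya48 za23) (ka xa14 ya22 za42) (ka xa14 ya22 za43) (ka xa14 ya22 za44) (ka xa14 ya22 za45) (ka xa13 ya23 za7) (ka xa14 ya17 za41) (ka xa13 ya23 za5) (ka xa3 ya55 za46) (ka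 xa3 ya55 za47) (ka xa3 ya48 za28) (ka xa14 ya21 za47) (ka xa3 ya55 za59) (ka xa14 ya22 za61) (ka xa7 ya46 za11) (ka xa3 ya48 za30)) (@D3.rec (fun _ => Pt) (ka xa14 ya23 za5) (ka xa9 ya28 za35) (ka xa3 ya48 za34) (ka xa3 ya48 za35) (ka xa6 ya12 za49) (ka xa6 ya33 za30) (ka xa6 ya33 za31) (ka xa13 ya8 za5) (ka xa7 ya35 za7) (ka xa10 ya54 za6) (ka xa13 ya46 za16) (ka xa14 ya23 za20) (ka xa7 ya35 za8) (ka xa14 ya23 za10) (ka xa14 ya23 za11) (ka xa3 ya48 za38) (ka xa13 ya9 za58) (ka xa14 ya23 za28) (ka xa7 ya32 za19) (ka xa7 ya32 za20) (ka xa7 ya32 za21) (ka xa7 ya32 za22) (ka xa13 ya6 za35) (ka xa13 ya6 za36) (ka xa7 ya32 za7) (ka xa7 ya32 za8) (ka xa14 ya23 za50) (ka xa6 ya37 za47) (ka xa14 ya17 za50) (ka xa14 ya17 za51) (ka xa14 ya24 za1) (ka xa6 ya37 za48) (ka xa14 ya17 za53) (ka xa14 ya17 za54) (ka xa14 ya17 za55) (ka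 xa14 ya14 za12) (ka xa14 ya17 za56) (ka xa14 ya17 za57) (ka xa13 ya33 za32) (ka xa3 ya48 za46) (ka xa14 ya24 za24) (ka xa14 ya3 za43) (ka xa7 ya15 za37) (ka xa14 ya17 za59) (ka xa14 ya15 za15) (ka xa6 ya55 za28) (ka xa3 ya48 za49) (ka xa14 ya24 za39) (ka xa14 ya24 za40) (ka xa13 ya13 za25) (ka xa13 ya33 za36) (ka xa13 ya33 za37) (ka xa13 ya23 za45) (ka xa14 ya24 za56) (ka xa7 ya41 za46) (ka xa14 ya17 za61) (ka xa14 ya25 za2) (ka xa7 ya41 za47) (ka xa14 ya18 za1) (ka xa8 ya56 za2) (ka xa13 ya43 za20) (ka xa13 ya45 za44)) (@D3.rec (fun _ => Pt) (ka xa6 ya52 za29) (ka xa7 ya15 za43) (ka xa7 ya51 za10) (ka xa7 ya51 za11) (ka xa7 ya14 za56) (ka xa13 ya27 za48) (ka xa14 ya18 za3) (ka xa14 ya18 za4) (ka xa13 ya22 za19) (ka xa3 ya49 za14) (ka xa3 ya49 za16) (ka xa13 ya40 za25) (ka xa13 ya40 za24) (ka xa3 ya49 za8) (ka xa6 ya16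 za23) (ka xa13 ya43 za28) (ka xa13 ya43 za27) (ka xa14 ya25 za33) (ka xa8 ya47 za13) (ka xa13 ya31 za17) (ka xa13 ya40 za31) (ka xa13 ya40 za33) (ka xa7 ya9 za33) (ka xa14 ya25 za48) (ka xa6 ya54 za42) (ka xa13 ya30 za26) (ka xa3 ya53 za29) (ka xa14 ya17 za42) (ka xa14 ya10 za41) (ka xa3 ya49 za24) (ka xa3 ya49 za25) (ka xa3 ya49 za27) (ka xa3 ya49 za28) (ka xa3 ya49 za29) (ka xa5 ya58 za20) (ka xa6 ya16 za41) (ka xa5 ya57 za34) (ka xa7 ya33 za59) (ka xa7 ya33 za60) (ka xa6 ya16 za29) (ka xa14 ya25 za58) (ka xa14 ya25 za59) (ka xa14 ya25 za60) (ka xa14 ya25 za61) (ka xa14 ya26 za0) (ka xa6 ya54 za57) (ka xa13 ya31 za37) (ka xa14 ya26 za2) (ka xa7 ya48 za23) (ka xa14 ya26 za3) (ka xa14 ya26 za4) (ka xa14 ya26 za5) (ka xa10 ya47 za12) (ka xa14 ya26 za42) (ka xa6 ya36 za56) (ka xa14 ya18 za11) (ka xa14 ya18 za12) (ka xa14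 ya26 za54) (ka xa6 ya36 za57) (ka xa14 ya18 za13) (ka xa14 ya18 za14) (ka xa14 ya18 za15)) (@D3.rec (fun _ => Pt) (ka xa14 ya16 za46) (ka xa14 ya18 za16) (ka xa14 ya18 za17) (ka xa3 ya49 za34) (ka xa14 ya27 za16) (ka xa14 ya18 za21) (ka xa14 ya17 za33) (ka xa14 ya18 za18) (ka xa3 ya49 za37) (ka xa14 ya27 za28) (ka xa14 ya27 za29) (ka xa14 ya18 za23) (ka xa14 ya18 za24) (ka xa14 ya27 za39) (ka xa7 ya42 za35) (ka xa7 ya9 za27) (ka xa14 ya18 za26) (ka xa14 ya27 za47) (ka xa7 ya42 za36) (ka xa14 ya18 za28) (ka xa14 ya18 za29) (ka xa14 ya1 za23) (ka xa14 ya27 za61) (ka xa13 ya32 za41) (ka xa10 ya46 za8) (ka xa13 ya36 za43) (ka xa13 ya36 za44) (ka xa7 ya53 za2) (ka xa7 ya8 za39) (ka xa14 ya18 za5) (ka xa7 ya8 za40) (ka xa7 ya17 za50) (ka xa14 ya28 za16) (ka xa7 ya9 za20) (ka xa14 ya28 za19) (ka xa7 ya9 za21) (ka xa7 ya18 za27)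 (ka xa13 ya26 za55) (ka xa14 ya28 za26) (ka xa3 ya49 za52) (ka xa14 ya28 za28) (ka xa14 ya28 za22) (ka xa13 ya51 za58) (ka xa13 ya29 za11) (ka xa7 ya51 za35) (ka xa7 ya51 za43) (ka xa13 ya54 za30) (ka xa14 ya18 za58) (ka xa13 ya19 za13) (ka xa3 ya52 za26) (ka xa14 ya18 za59) (ka xa13 ya35 za5) (ka xa6 ya32 za44) (ka xa14 ya19 za20) (ka xa14 ya18 za54) (ka xa14 ya18 za55) (ka xa6 ya38 za22) (ka xa14 ya18 za56) (ka xa3 ya50 za5) (ka xa3 ya50 za6) (ka xa3 ya50 za7) (ka xa3 ya50 za8)) (@D3.rec (fun _ => Pt) (ka xa3 ya50 za9) (ka xa3 ya50 za10) (ka xa13 ya56 za18) (ka xa13 ya56 za19) (ka xa14 ya2 za53) (ka xa3 ya55 za25) (ka xa14 ya2 za54) (ka xa14 ya2 za55) (ka xa6 ya49 za25) (ka xa4 ya44 za55) (ka xa14 ya15 za57) (ka xa11 ya40 za17) (ka xa14 ya28 za57) (ka xa12 ya33 za45) (ka xa14 ya28 za58) (ka xa14 ya28 za59) (ka xa6 ya56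 za17) (ka xa14 ya28 za60) (ka xa14 ya28 za61) (ka xa14 ya21 za27) (ka xa14 ya19 za24) (ka xa14 ya29 za0) (ka xa14 ya29 za1) (ka xa14 ya29 za2) (ka xa14 ya29 za3) (ka xa10 ya47 za26) (ka xa14 ya29 za4) (ka xa14 ya29 za5) (ka xa13 ya2 za47) (ka xa13 ya2 za48) (ka xa7 ya2 za22) (ka xa7 ya2 za23) (ka xa7 ya2 za24) (ka xa7 ya2 za21) (ka xa11 ya35 za38) (ka xa14 ya18 za44) (ka xa14 ya18 za45) (ka xa6 ya56 za22) (ka xa14 ya18 za47) (ka xa14 ya18 za48) (ka xa14 ya18 za49) (ka xa14 ya18 za50) (ka xa14 ya18 za51) (ka xa14 ya18 za52) (ka xa14 ya19 za32) (ka xa13 ya44 za36) (ka xa7 ya38 za54) (ka xa7 ya38 za57) (ka xa14 ya30 za31) (ka xa13 ya42 za30) (ka xa13 ya44 za30) (ka xa14 ya19 za35) (ka xa14 ya18 za33) (ka xa6 ya55 za55) (ka xa6 ya32 za53) (ka xa6 ya55 za56) (ka xa9 ya30 za11) (ka xa3 ya52 za29) (ka xa14 ya18 za32) (ka xa14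 ya10 za30) (ka xa3 ya50 za31) (ka xa3 ya50 za35)) (@D3.rec (fun _ => Pt) (ka xa3 ya50 za36) (ka xa3 ya50 za37) (ka xa3 ya50 za38) (ka xa6 ya54 za45) (ka xa5 ya51 za21) (ka xa13 ya8 za9) (ka xa14 ya30 za47) (ka xa12 ya33 za55) (ka xa11 ya29 za46) (ka xa5 ya58 za41) (ka xa11 ya29 za61) (ka xa11 ya30 za0) (ka xa11 ya30 za1) (ka xa11 ya30 za2) (ka xa14 ya19 za37) (ka xa14 ya30 za48) (ka xa6 ya56 za2) (ka xa14 ya30 za49) (ka xa14 ya21 za16) (ka xa14 ya30 za50) (ka xa14 ya30 za51) (ka xa14 ya30 za52) (ka xa14 ya30 za53) (ka xa14 ya19 za12) (ka xa14 ya19 za13) (ka xa14 ya19 za44) (ka xa14 ya19 za14) (ka xa11 ya58 za50) (ka xa14 ya19 za15) (ka xa14 ya19 za16) (ka xa8 ya15 za31) (ka xa14 ya19 za17) (ka xa14 ya19 za19) (ka xa14 ya19 za47) (ka xa14 ya1 za19) (ka xa7 ya40 za14) (ka xa7 ya40 za18) (ka xa14 ya32 za3) (ka xa13 ya32 za33)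 (ka xa13 ya34 za5) (ka xa6 ya32 za54) (ka xa6 ya55 za53) (ka xa3 ya50 za50) (ka xa9 ya21 za8) (ka xa9 ya21 za12) (ka xa13 ya45 za48) (ka xa13 ya45 za47) (ka xa14 ya32 za13) (ka xa6 ya56 za21) (ka xa6 ya56 za23) (ka xa6 ya56 za24) (ka xa6 ya56 za25) (ka xa6 ya56 za27) (ka xa3 ya51 za1) (ka xa3 ya51 za2) (ka xa3 ya51 za3) (ka xa3 ya51 za4) (ka xa12 ya51 za40) (ka xa3 ya51 za6) (ka xa14 ya32 za10) (ka xa3 ya51 za9) (ka xa3 ya51 za10)) (@D3.rec (fun _ => Pt) (ka xa3 ya51 za11) (ka xa3 ya51 za12) (ka xa3 ya51 za13) (ka xa6 ya32 za48) (ka xa6 ya32 za56) (ka xa6 ya0 za36) (ka xa6 ya56 za35) (ka xa5 ya59 za58) (ka xa6 ya50 za35) (ka xa6 ya56 za37) (ka xa6 ya56 za36) (ka xa3 ya50 za61) (ka xa14 ya33 za7) (ka xa6 ya50 za37) (ka xa6 ya50 za38) (ka xa6 ya50 za39) (ka xa6 ya50 za40) (ka xa14 ya33 za17) (ka xa6 ya1 za13) (ka xa14 ya32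 za35) (ka xa12 ya32 za42) (ka xa4 ya47 za57) (ka xa6 ya0 za22) (ka xa14 ya32 za37) (ka xa6 ya0 za20) (ka xa11 ya58 za57) (ka xa14 ya32 za38) (ka xa11 ya58 za55) (ka xa14 ya32 za12) (ka xa3 ya51 za5) (ka xa14 ya33 za46) (ka xa14 ya33 za47) (ka xa7 ya18 za42) (ka xa14 ya5 za60) (ka xa14 ya7 za16) (ka xa14 ya32 za40) (ka xa7 ya2 za3) (ka xa14 ya22 za21) (ka xa3 ya51 za8) (ka xa14 ya34 za5) (ka xa14 ya32 za42) (ka xa14 ya32 za43) (ka xa14 ya34 za13) (ka xa14 ya32 za45) (ka xa14 ya32 za46) (ka xa14 ya34 za23) (ka xa14 ya32 za48) (ka xa14 ya32 za49) (ka xa14 ya32 za50) (ka xa14 ya32 za51) (ka xa14 ya34 za40) (ka xa14 ya5 za51) (ka xa14 ya32 za53) (ka xa14 ya32 za54) (ka xa3 ya51 za16) (ka xa12 ya40 za52) (ka xa12 ya39 za7) (ka xa12 ya15 za8) (ka xa12 ya53 za17) (ka xa14 ya34 za47) (ka xa4 ya46 za29) (ka xa14 ya34 za48)) (@D3.rec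 (fun _ => Pt) (ka xa14 ya34 za49) (ka xa14 ya20 za5) (ka xa13 ya19 za51) (ka xa13 ya19 za52) (ka xa13 ya19 za54) (ka xa13 ya19 za55) (ka xa13 ya19 za56) (ka xa13 ya19 za57) (ka xa13 ya19 za58) (ka xa3 ya51 za22) (ka xa14 ya35 za22) (ka xa9 ya30 za52) (ka xa14 ya35 za23) (ka xa6 ya47 za18) (ka xa13 ya19 za26) (ka xa13 ya19 za27) (ka xa13 ya19 za28) (ka xa13 ya19 za29) (ka xa13 ya19 za30) (ka xa13 ya19 za31) (ka xa13 ya19 za32) (ka xa12 ya40 za41) (ka xa6 ya3 za18) (ka xa12 ya37 za49) (ka xa6 ya3 za17) (ka xa12 ya37 za48) (ka xa3 ya51 za30) (ka xa14 ya35 za53) (ka xa14 ya35 za54) (ka xa14 ya35 za55) (ka xa14 ya35 za56) (ka xa12 ya45 za55) (ka xa12 ya45 za56) (ka xa6 ya20 za48) (ka xa12 ya45 za57) (ka xa12 ya45 za58) (ka xa12 ya28 za6) (ka xa12 ya45 za59) (ka xa12 ya45 za52) (ka xa14 ya20 za53) (ka xa3 ya51 za35) (ka xa12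 ya53 za25) (ka xa10 ya42 za44) (ka xa14 ya36 za22) (ka xa12 ya35 za23) (ka xa11 ya49 za6) (ka xa10 ya37 za38) (ka xa14 ya20 za47) (ka xa14 ya20 za48) (ka xa10 ya39 za54) (ka xa14 ya20 za49) (ka xa14 ya20 za50) (ka xa14 ya20 za51) (ka xa13 ya21 za3) (ka xa14 ya20 za52) (ka xa11 ya44 za39) (ka xa3 ya51 za39) (ka xa4 ya34 za34) (ka xa14 ya36 za58) (ka xa14 ya20 za57) (ka xa14 ya20 za58) (ka xa14 ya20 za59)) (@D3.rec (fun _ => Pt) (ka xa14 ya20 za60) (ka xa14 ya20 za61) (ka xa14 ya21 za0) (ka xa14 ya21 za1) (ka xa14 ya37 za13) (ka xa14 ya21 za2) (ka xa14 ya21 za3) (ka xa14 ya21 za4) (ka xa10 ya42 za48) (ka xa14 ya21 za6) (ka xa7 ya2 za12) (ka xa14 ya21 za7) (ka xa14 ya21 za8) (ka xa14 ya21 za9) (ka xa14 ya37 za41) (ka xa14 ya21 za11) (ka xa14 ya21 za12) (ka xa14 ya21 za13) (ka xa12 ya45 za31) (ka xa14 ya28 za43) (ka xa12 ya35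 za24) (ka xa12 ya45 za24) (ka xa6 ya0 za28) (ka xa5 ya48 za31) (ka xa12 ya35 za25) (ka xa12 ya45 za26) (ka xa12 ya45 za27) (ka xa12 ya45 za28) (ka xa12 ya45 za29) (ka xa12 ya45 za30) (ka xa14 ya21 za22) (ka xa14 ya21 za23) (ka xa3 ya51 za54) (ka xa3 ya51 za55) (ka xa6 ya41 za24) (ka xa14 ya2 za59) (ka xa14 ya21 za25) (ka xa6 ya40 za42) (ka xa12 ya25 za27) (ka xa10 ya39 za18) (ka xa14 ya19 za7) (ka xa13 ya34 za55) (ka xa14 ya38 za12) (ka xa14 ya38 za13) (ka xa6 ya54 za30) (ka xa6 ya57 za18) (ka xa11 ya0 za43) (ka xa13 ya45 za38) (ka xa13 ya45 za37) (ka xa14 ya21 za17) (ka xa14 ya21 za18) (ka xa7 ya47 za28) (ka xa7 ya47 za31) (ka xa14 ya38 za44) (ka xa14 ya21 za19) (ka xa14 ya21 za20) (ka xa14 ya21 za21) (ka xa7 ya2 za54) (ka xa10 ya31 za35) (ka xa7 ya2 za53) (ka xa14 ya21 za14) (ka xa3 ya52 za6)) (@D3.rec (fun _ => Pt)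 (ka xa3 ya52 za7) (ka xa6 ya57 za22) (ka xa14 ya38 za59) (ka xa13 ya35 za16) (ka xa13 ya35 za13) (ka xa14 ya38 za60) (ka xa14 ya1 za10) (ka xa3 ya52 za11) (ka xa14 ya39 za7) (ka xa5 ya21 za33) (ka xa7 ya47 za13) (ka xa7 ya37 za60) (ka xa10 ya1 za6) (ka xa8 ya38 za2) (ka xa14 ya21 za29) (ka xa14 ya21 za30) (ka xa13 ya34 za9) (ka xa5 ya21 za39) (ka xa3 ya52 za15) (ka xa5 ya21 za38) (ka xa14 ya39 za28) (ka xa14 ya39 za29) (ka xa10 ya1 za11) (ka xa14 ya21 za33) (ka xa14 ya21 za34) (ka xa14 ya21 za35) (ka xa13 ya22 za21) (ka xa14 ya21 za36) (ka xa14 ya39 za48) (ka xa14 ya21 za38) (ka xa14 ya39 za54) (ka xa14 ya21 za40) (ka xa14 ya39 za60) (ka xa14 ya40 za3) (ka xa3 ya52 za21) (ka xa14 ya40 za8) (ka xa14 ya39 za59) (ka xa13 ya22 za12) (ka xa13 ya22 za11) (ka xa14 ya21 za44) (ka xa14 ya21 za45) (ka xa14 ya10 za40) (ka xa14 ya10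 za39) (ka xa14 ya28 za46) (ka xa14 ya28 za47) (ka xa7 ya24 za54) (ka xa13 ya27 za13) (ka xa13 ya50 za36) (ka xa14 ya10 za33) (ka xa7 ya3 za7) (ka xa14 ya30 za43) (ka xa13 ya35 za11) (ka xa13 ya35 za9) (ka xa14 ya28 za48) (ka xa14 ya10 za35) (ka xa14 ya10 za36) (ka xa14 ya30 za44) (ka xa13 ya21 za32) (ka xa13 ya21 za30) (ka xa14 ya10 za37) (ka xa13 ya23 za6) (ka xa14 ya41 za8)) (@D3.rec (fun _ => Pt) (ka xa13 ya27 za4) (ka xa6 ya56 za57) (ka xa3 ya52 za36) (ka xa14 ya41 za13) (ka xa14 ya41 za14) (ka xa6 ya56 za52) (ka xa7 ya3 za14) (ka xa14 ya41 za24) (ka xa6 ya52 za2) (ka xa13 ya29 za61) (ka xa13 ya29 za60) (ka xa3 ya52 za45) (ka xa14 ya41 za30) (ka xa7 ya46 za10) (ka xa14 ya21 za50) (ka xa13 ya12 za32) (ka xa6 ya43 za28) (ka xa14 ya22 za7) (ka xa3 ya52 za49) (ka xa3 ya52 za50) (ka xa14 ya22 za11) (ka xa14 ya22 za10) (ka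 xa14 ya41 za41) (ka xa14 ya41 za42) (ka xa7 ya47 za51) (ka xa7 ya47 za50) (ka xa14 ya41 za43) (ka xa14 ya42 za1) (ka xa7 ya45 za51) (ka xa14 ya21 za59) (ka xa14 ya42 za9) (ka xa7 ya45 za52) (ka xa7 ya3 za32) (ka xa14 ya21 za61) (ka xa14 ya42 za20) (ka xa14 ya22 za1) (ka xa14 ya22 za2) (ka xa14 ya22 za3) (ka xa7 ya48 za27) (ka xa14 ya22 za4) (ka xa14 ya3 za24) (ka xa7 ya3 za21) (ka xa7 ya2 za56) (ka xa13 ya53 za31) (ka xa7 ya2 za34) (ka xa7 ya2 za33) (ka xa14 ya42 za42) (ka xa7 ya3 za25) (ka xa14 ya42 za46) (ka xa7 ya3 za24) (ka xa7 ya47 za25) (ka xa7 ya47 za24) (ka xa3 ya52 za61) (ka xa9 ya22 za41) (ka xa14 ya42 za52) (ka xa14 ya12 za44) (ka xa3 ya53 za12) (ka xa13 ya40 za43) (ka xa3 ya53 za4) (ka xa14 ya42 za56) (ka xa14 ya42 za57) (ka xa13 ya40 za46)) (@D3.rec (fun _ => Pt) (ka xa7 ya19 za56) (ka xa9 ya59 za3) (ka xa13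 ya40 za49) (ka xa7 ya3 za43) (ka xa14 ya43 za12) (ka xa14 ya21 za52) (ka xa3 ya53 za15) (ka xa3 ya53 za16) (ka xa14 ya21 za55) (ka xa14 ya21 za54) (ka xa14 ya43 za15) (ka xa14 ya43 za16) (ka xa7 ya20 za52) (ka xa14 ya43 za17) (ka xa14 ya3 za35) (ka xa14 ya43 za36) (ka xa14 ya22 za15) (ka xa14 ya22 za16) (ka xa14 ya22 za17) (ka xa14 ya22 za18) (ka xa14 ya22 za19) (ka xa14 ya1 za13) (ka xa7 ya33 za11) (ka xa7 ya39 za48) (ka xa13 ya39 za18) (ka xa3 ya53 za22) (ka xa11 ya0 za47) (ka xa7 ya47 za38) (ka xa12 ya51 za41) (ka xa12 ya51 za42) (ka xa7 ya33 za20) (ka xa13 ya27 za14) (ka xa13 ya27 za5) (ka xa14 ya10 za43) (ka xa7 ya32 za23) (ka xa14 ya25 za54) (ka xa13 ya27 za15) (ka xa13 ya27 za16) (ka xa3 ya56 za1) (ka xa14 ya44 za22) (ka xa13 ya33 za57) (ka xa14 ya44 za26) (ka xa13 ya24 za31) (ka xa13 ya27 za3) (ka xa13 ya50 za33)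 (ka xa12 ya13 za47) (ka xa6 ya50 za0) (ka xa14 ya44 za37) (ka xa6 ya59 za28) (ka xa6 ya59 za26) (ka xa14 ya44 za42) (ka xa12 ya21 za24) (ka xa13 ya23 za56) (ka xa8 ya25 za42) (ka xa12 ya16 za29) (ka xa13 ya15 za6) (ka xa13 ya15 za5) (ka xa3 ya53 za41) (ka xa14 ya44 za47) (ka xa14 ya44 za48) (ka xa13 ya15 za50) (ka xa13 ya14 za16)) (@D3.rec (fun _ => Pt) (ka xa13 ya24 za1) (ka xa13 ya24 za0) (ka xa3 ya53 za44) (ka xa14 ya44 za60) (ka xa7 ya19 za38) (ka xa13 ya24 za4) (ka xa13 ya24 za3) (ka xa3 ya53 za46) (ka xa14 ya45 za8) (ka xa14 ya45 za9) (ka xa7 ya19 za35) (ka xa13 ya4 za17) (ka xa14 ya45 za17) (ka xa3 ya53 za51) (ka xa14 ya45 za18) (ka xa14 ya45 za19) (ka xa14 ya45 za27) (ka xa12 ya3 za30) (ka xa13 ya50 za50) (ka xa14 ya10 za52) (ka xa14 ya10 za53) (ka xa7 ya51 za13) (ka xa7 ya51 za14) (ka xa7 ya51 za16) (ka xa7 ya51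 za17) (ka xa7 ya51 za18) (ka xa7 ya51 za19) (ka xa3 ya54 za15) (ka xa3 ya54 za16) (ka xa3 ya54 za17) (ka xa3 ya54 za18) (ka xa3 ya54 za23) (ka xa3 ya54 za24) (ka xa3 ya54 za25) (ka xa3 ya54 za27) (ka xa3 ya54 za28) (ka xa13 ya53 za59) (ka xa3 ya54 za32) (ka xa3 ya54 za40) (ka xa3 ya54 za41) (ka xa3 ya54 za42) (ka xa7 ya30 za11) (ka xa7 ya51 za36) (ka xa7 ya51 za34) (ka xa3 ya54 za5) (ka xa14 ya46 za8) (ka xa14 ya46 za9) (ka xa8 ya32 za60) (ka xa14 ya46 za10) (ka xa7 ya51 za51) (ka xa7 ya51 za53) (ka xa7 ya51 za54) (ka xa7 ya51 za45) (ka xa7 ya51 za44) (ka xa3 ya54 za11) (ka xa7 ya54 za51) (ka xa7 ya54 za50) (ka xa14 ya46 za20) (ka xa7 ya5 za9) (ka xa7 ya51 za42) (ka xa7 ya51 za56) (ka xa7 ya51 za55)) (@D3.rec (fun _ => Pt) (ka xa9 ya1 za33) (ka xa9 ya29 za16) (ka xa9 ya29 za18) (ka xa9 ya1 za35) (ka xa14 ya46 za40) (ka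 xa11 ya16 za53) (ka xa14 ya45 za49) (ka xa14 ya8 za42) (ka xa14 ya40 za9) (ka xa14 ya45 za50) (ka xa14 ya40 za4) (ka xa13 ya58 za57) (ka xa14 ya45 za51) (ka xa14 ya45 za52) (ka xa14 ya24 za41) (ka xa3 ya54 za19) (ka xa14 ya47 za2) (ka xa14 ya3 za44) (ka xa7 ya5 za4) (ka xa13 ya32 za56) (ka xa13 ya32 za57) (ka xa13 ya32 za53) (ka xa3 ya54 za22) (ka xa14 ya47 za18) (ka xa14 ya47 za19) (ka xa14 ya45 za53) (ka xa14 ya45 za54) (ka xa13 ya24 za52) (ka xa14 ya47 za33) (ka xa14 ya32 za34) (ka xa14 ya45 za56) (ka xa14 ya47 za42) (ka xa14 ya9 za4) (ka xa14 ya9 za2) (ka xa14 ya45 za57) (ka xa10 ya35 za34) (ka xa14 ya47 za54) (ka xa7 ya16 za31) (ka xa13 ya45 za59) (ka xa14 ya45 za59) (ka xa14 ya48 za0) (ka xa13 ya52 za43) (ka xa11 ya4 za17) (ka xa3 ya54 za31) (ka xa8 ya7 za42) (ka xa14 ya48 za2) (ka xa13 ya9 za38) (ka xa11 ya51 za8)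 (ka xa14 ya45 za61) (ka xa14 ya46 za0) (ka xa7 ya11 za35) (ka xa7 ya24 za42) (ka xa7 ya5 za12) (ka xa13 ya9 za21) (ka xa6 ya53 za30) (ka xa14 ya48 za18) (ka xa13 ya24 za29) (ka xa14 ya26 za1) (ka xa6 ya54 za60) (ka xa7 ya24 za24) (ka xa13 ya53 za61) (ka xa3 ya54 za39)) (@D3.rec (fun _ => Pt) (ka xa14 ya48 za27) (ka xa14 ya48 za28) (ka xa14 ya46 za1) (ka xa14 ya46 za2) (ka xa7 ya25 za36) (ka xa13 ya56 za41) (ka xa3 ya56 za0) (ka xa14 ya17 za8) (ka xa14 ya46 za4) (ka xa6 ya52 za13) (ka xa7 ya39 za2) (ka xa7 ya39 za3) (ka xa7 ya14 za42) (ka xa7 ya49 za21) (ka xa7 ya49 za22) (ka xa5 ya48 za36) (ka xa7 ya49 za23) (ka xa7 ya49 za24) (ka xa7 ya49 za25) (ka xa7 ya49 za26) (ka xa3 ya55 za9) (ka xa3 ya55 za10) (ka xa3 ya55 za11) (ka xa3 ya55 za12) (ka xa11 ya32 za48) (ka xa3 ya55 za16) (ka xa3 ya55 za18) (ka xa3 ya55 za20) (ka xa3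 ya55 za21) (ka xa3 ya55 za24) (ka xa3 ya55 za26) (ka xa3 ya55 za34) (ka xa7 ya33 za36) (ka xa3 ya55 za36) (ka xa7 ya49 za43) (ka xa7 ya40 za44) (ka xa7 ya49 za42) (ka xa3 ya54 za61) (ka xa7 ya54 za5) (ka xa7 ya54 za4) (ka xa14 ya49 za32) (ka xa7 ya4 za45) (ka xa7 ya49 za59) (ka xa7 ya40 za45) (ka xa7 ya49 za53) (ka xa7 ya49 za52) (ka xa3 ya55 za4) (ka xa14 ya49 za33) (ka xa14 ya49 za45) (ka xa14 ya49 za46) (ka xa14 ya49 za47) (ka xa7 ya49 za49) (ka xa7 ya4 za41) (ka xa7 ya49 za50) (ka xa7 ya49 za51) (ka xa7 ya49 za61) (ka xa7 ya49 za60) (ka xa3 ya55 za7) (ka xa14 ya50 za2) (ka xa6 ya42 za14) (ka xa6 ya42 za15) (ka xa6 ya42 za16)) (@D3.rec (fun _ => Pt) (ka xa6 ya42 za17) (ka xa14 ya50 za17) (ka xa14 ya49 za6) (ka xa14 ya49 za7) (ka xa13 ya59 za14) (ka xa14 ya50 za28) (ka xa14 ya49 za9) (ka xa14 ya49 za10) (ka xa14 ya49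 za11) (ka xa14 ya49 za12) (ka xa14 ya8 za23) (ka xa14 ya49 za13) (ka xa14 ya49 za14) (ka xa14 ya49 za15) (ka xa3 ya55 za13) (ka xa7 ya11 za0) (ka xa13 ya43 za26) (ka xa8 ya27 za49) (ka xa11 ya4 za4) (ka xa3 ya55 za15) (ka xa11 ya32 za47) (ka xa14 ya50 za58) (ka xa11 ya42 za52) (ka xa14 ya49 za16) (ka xa9 ya9 za15) (ka xa14 ya49 za17) (ka xa14 ya49 za18) (ka xa11 ya42 za58) (ka xa14 ya49 za19) (ka xa14 ya0 za50) (ka xa14 ya51 za19) (ka xa14 ya22 za34) (ka xa14 ya49 za21) (ka xa14 ya49 za22) (ka xa14 ya24 za37) (ka xa14 ya0 za49) (ka xa13 ya33 za2) (ka xa3 ya55 za23) (ka xa14 ya51 za31) (ka xa14 ya5 za45) (ka xa14 ya48 za25) (ka xa14 ya49 za23) (ka xa14 ya49 za24) (ka xa14 ya29 za13) (ka xa14 ya29 za14) (ka xa14 ya49 za25) (ka xa14 ya49 za26) (ka xa7 ya54 za36) (ka xa7 ya54 za38) (ka xa13 ya4 za9) (ka xa14 ya51 za61) (ka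 xa13 ya4 za10) (ka xa13 ya23 za43) (ka xa14 ya52 za2) (ka xa13 ya8 za27) (ka xa7 ya18 za44) (ka xa14 ya52 za8) (ka xa14 ya52 za11) (ka xa7 ya18 za41) (ka xa14 ya22 za36) (ka xa14 ya22 za37) (ka xa7 ya9 za55)) (@D3.rec (fun _ => Pt) (ka xa7 ya9 za54) (ka xa7 ya9 za4) (ka xa7 ya40 za27) (ka xa7 ya8 za57) (ka xa6 ya53 za23) (ka xa6 ya54 za43) (ka xa5 ya50 za35) (ka xa6 ya55 za29) (ka xa6 ya55 za30) (ka xa6 ya55 za31) (ka xa6 ya55 za32) (ka xa14 ya17 za48) (ka xa6 ya55 za34) (ka xa6 ya55 za36) (ka xa6 ya55 za38) (ka xa6 ya55 za39) (ka xa6 ya55 za40) (ka xa4 ya37 za20) (ka xa14 ya22 za60) (ka xa6 ya54 za53) (ka xa6 ya54 za54) (ka xa6 ya54 za55) (ka xa6 ya54 za56) (ka xa6 ya54 za58) (ka xa6 ya55 za0) (ka xa6 ya55 za1) (ka xa6 ya55 za2) (ka xa3 ya55 za57) (ka xa7 ya54 za3) (ka xa14 ya21 za51) (ka xa14 ya5 za61) (ka xa3 ya55 za56)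 (ka xa5 ya25 za10) (ka xa14 ya53 za1) (ka xa13 ya5 za61) (ka xa14 ya6 za0) (ka xa14 ya5 za53) (ka xa14 ya52 za58) (ka xa13 ya5 za21) (ka xa5 ya25 za6) (ka xa14 ya6 za1) (ka xa5 ya20 za58) (ka xa14 ya53 za19) (ka xa13 ya56 za42) (ka xa14 ya53 za23) (ka xa13 ya24 za53) (ka xa14 ya5 za50) (ka xa14 ya7 za13) (ka xa7 ya17 za51) (ka xa7 ya53 za52) (ka xa13 ya22 za35) (ka xa13 ya29 za48) (ka xa7 ya53 za49) (ka xa13 ya41 za21) (ka xa13 ya41 za22) (ka xa13 ya29 za50) (ka xa7 ya25 za16) (ka xa7 ya25 za15) (ka xa3 ya56 za7) (ka xa14 ya53 za57) (ka xa7 ya54 za44) (ka xa7 ya54 za45)) (@D3.rec (fun _ => Pt) (ka xa7 ya54 za46) (ka xa13 ya53 za28) (ka xa13 ya53 za29) (ka xa7 ya53 za28) (ka xa7 ya51 za39) (ka xa7 ya51 za38) (ka xa3 ya56 za13) (ka xa14 ya54 za14) (ka xa7 ya54 za54) (ka xa7 ya54 za55) (ka xa7 ya24 za1) (ka xa7 ya54 za56)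 (ka xa13 ya20 za36) (ka xa13 ya53 za30) (ka xa14 ya54 za36) (ka xa7 ya55 za1) (ka xa7 ya55 za2) (ka xa14 ya54 za44) (ka xa7 ya54 za60) (ka xa7 ya54 za61) (ka xa7 ya54 za24) (ka xa7 ya54 za25) (ka xa14 ya54 za56) (ka xa7 ya54 za26) (ka xa7 ya54 za20) (ka xa7 ya54 za21) (ka xa7 ya54 za23) (ka xa3 ya56 za39) (ka xa14 ya55 za1) (ka xa14 ya55 za3) (ka xa14 ya55 za5) (ka xa7 ya54 za40) (ka xa14 ya55 za9) (ka xa6 ya57 za43) (ka xa7 ya55 za4) (ka xa13 ya57 za38) (ka xa7 ya52 za47) (ka xa14 ya55 za16) (ka xa7 ya52 za48) (ka xa14 ya55 za19) (ka xa7 ya54 za31) (ka xa7 ya20 za38) (ka xa3 ya56 za29) (ka xa14 ya55 za23) (ka xa7 ya53 za60) (ka xa7 ya53 za61) (ka xa7 ya54 za0) (ka xa12 ya48 za1) (ka xa7 ya5 za16) (ka xa3 ya56 za40) (ka xa7 ya49 za56) (ka xa7 ya49 za55) (ka xa3 ya56 za34) (ka xa14 ya55 za42) (ka xa7 ya54 za8) (ka xa7 ya54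 za9) (ka xa7 ya54 za11) (ka xa12 ya25 za46) (ka xa14 ya3 za22) (ka xa14 ya55 za60) (ka xa7 ya54 za18) (ka xa7 ya54 za19)) (@D3.rec (fun _ => Pt) (ka xa14 ya56 za6) (ka xa7 ya54 za15) (ka xa7 ya54 za16) (ka xa14 ya56 za15) (ka xa7 ya54 za34) (ka xa7 ya55 za9) (ka xa14 ya55 za36) (ka xa14 ya55 za37) (ka xa13 ya59 za31) (ka xa7 ya55 za5) (ka xa14 ya56 za33) (ka xa14 ya56 za35) (ka xa13 ya59 za30) (ka xa13 ya53 za32) (ka xa14 ya56 za41) (ka xa6 ya52 za57) (ka xa14 ya3 za30) (ka xa4 ya12 za44) (ka xa4 ya52 za33) (ka xa14 ya56 za48) (ka xa6 ya9 za27) (ka xa14 ya3 za34) (ka xa13 ya12 za51) (ka xa13 ya15 za25) (ka xa7 ya18 za20) (ka xa4 ya9 za17) (ka xa4 ya21 za24) (ka xa14 ya57 za0) (ka xa4 ya21 za26) (ka xa4 ya21 za28) (ka xa8 ya25 za14) (ka xa8 ya29 za34) (ka xa4 ya21 za30) (ka xa14 ya57 za10) (ka xa4 ya21 za34) (ka xa4 ya21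 za35) (ka xa4 ya21 za36) (ka xa4 ya21 za37) (ka xa14 ya57 za19) (ka xa4 ya21 za43) (ka xa4 ya21 za44) (ka xa4 ya21 za45) (ka xa4 ya21 za46) (ka xa8 ya12 za58) (ka xa8 ya29 za46) (ka xa4 ya21 za50) (ka xa4 ya21 za51) (ka xa4 ya21 za53) (ka xa4 ya21 za59) (ka xa4 ya21 za60) (ka xa4 ya21 za61) (ka xa14 ya57 za36) (ka xa4 ya22 za2) (ka xa14 ya57 za42) (ka xa4 ya22 za4) (ka xa4 ya22 za5) (ka xa14 ya57 za49) (ka xa14 ya57 za53) (ka xa3 ya57 za7) (ka xa14 ya57 za57) (ka xa14 ya57 za48) (ka xa4 ya22 za13)) (@D3.rec (fun _ => Pt) (ka xa4 ya22 za14) (ka xa4 ya22 za15) (ka xa4 ya22 za16) (ka xa3 ya57 za12) (ka xa3 ya57 za13) (ka xa4 ya12 za18) (ka xa14 ya58 za9) (ka xa8 ya36 za33) (ka xa14 ya58 za16) (ka xa4 ya22 za23) (ka xa4 ya12 za50) (ka xa4 ya22 za25) (ka xa4 ya22 za47) (ka xa4 ya22 za46) (ka xa3 ya57 za17) (ka xa14 ya58 za21)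 (ka xa4 ya22 za34) (ka xa4 ya22 za37) (ka xa13 ya30 za9) (ka xa4 ya22 za58) (ka xa11 ya13 za12) (ka xa4 ya23 za9) (ka xa4 ya23 za15) (ka xa11 ya6 za50) (ka xa3 ya57 za30) (ka xa12 ya7 za18) (ka xa11 ya23 za54) (ka xa14 ya58 za42) (ka xa14 ya58 za43) (ka xa11 ya13 za41) (ka xa14 ya58 za59) (ka xa4 ya23 za35) (ka xa11 ya13 za22) (ka xa4 ya23 za37) (ka xa14 ya59 za10) (ka xa4 ya23 za39) (ka xa4 ya23 za40) (ka xa4 ya23 za41) (ka xa4 ya23 za42) (ka xa4 ya23 za43) (ka xa4 ya24 za16) (ka xa4 ya24 za13) (ka xa4 ya24 za20) (ka xa4 ya24 za19) (ka xa11 ya41 za17) (ka xa4 ya24 za4) (ka xa4 ya24 za5) (ka xa4 ya24 za7) (ka xa4 ya24 za33) (ka xa4 ya24 za43) (ka xa3 ya57 za44) (ka xa11 ya41 za14) (ka xa14 ya59 za35) (ka xa4 ya24 za38) (ka xa4 ya24 za39) (ka xa4 ya24 za40) (ka xa4 ya25 za17) (ka xa4 ya25 za19) (ka xa4 ya25 za43) (ka xa4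 ya25 za23) (ka xa4 ya25 za22) (ka xa11 ya33 za32)) (@D3.rec (fun _ => Pt) (ka xa4 ya25 za7) (ka xa4 ya25 za8) (ka xa4 ya25 za9) (ka xa4 ya25 za10) (ka xa4 ya25 za11) (ka xa9 ya9 za27) (ka xa9 ya9 za28) (ka xa3 ya57 za54) (ka xa11 ya29 za13) (ka xa4 ya26 za56) (ka xa6 ya32 za0) (ka xa9 ya45 za56) (ka xa9 ya14 za10) (ka xa3 ya57 za60) (ka xa3 ya57 za61) (ka xa7 ya18 za60) (ka xa8 ya2 za7) (ka xa6 ya42 za12) (ka xa8 ya50 za44) (ka xa6 ya2 za56) (ka xa6 ya50 za29) (ka xa15 ya0 za0) (ka xa15 ya0 za1) (ka xa15 ya0 za2) (ka xa15 ya0 za3) (ka xa15 ya0 za21) (ka xa4 ya26 za45) (ka xa4 ya26 za46) (ka xa11 ya34 za2) (ka xa4 ya26 za49) (ka xa4 ya26 za50) (ka xa5 ya21 za21) (ka xa5 ya15 za52) (ka xa15 ya0 za43) (ka xa7 ya57 za36) (ka xa15 ya0 za50) (ka xa7 ya57 za34) (ka xa3 ya58 za17) (ka xa3 ya58 za18) (ka xa3 ya58 za22) (ka xa3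 ya58 za23) (ka xa3 ya58 za25) (ka xa3 ya58 za26) (ka xa3 ya58 za28) (ka xa3 ya58 za29) (ka xa15 ya1 za9) (ka xa3 ya58 za33) (ka xa3 ya58 za34) (ka xa3 ya58 za35) (ka xa4 ya54 za50) (ka xa4 ya54 za51) (ka xa8 ya33 za41) (ka xa9 ya33 za43) (ka xa5 ya28 za14) (ka xa4 ya19 za44) (ka xa4 ya19 za39) (ka xa8 ya20 za23) (ka xa5 ya27 za43) (ka xa15 ya1 za35) (ka xa15 ya0 za55) (ka xa15 ya0 za56) (ka xa4 ya30 za59)) (@D3.rec (fun _ => Pt) (ka xa4 ya5 za22) (ka xa5 ya36 za55) (ka xa4 ya5 za21) (ka xa4 ya9 za2) (ka xa4 ya9 za3) (ka xa15 ya1 za54) (ka xa15 ya0 za58) (ka xa15 ya0 za59) (ka xa4 ya31 za39) (ka xa5 ya39 za39) (ka xa5 ya24 za58) (ka xa8 ya20 za21) (ka xa15 ya2 za6) (ka xa15 ya0 za61) (ka xa15 ya1 za0) (ka xa4 ya55 za57) (ka xa15 ya1 za1) (ka xa15 ya1 za2) (ka xa9 ya51 za28) (ka xa15 ya2 za21) (ka xa15 ya1 za3) (ka xa15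 ya1 za4) (ka xa15 ya1 za5) (ka xa4 ya56 za9) (ka xa4 ya5 za13) (ka xa15 ya1 za6) (ka xa15 ya2 za35) (ka xa8 ya35 za1) (ka xa8 ya54 za9) (ka xa15 ya2 za43) (ka xa8 ya8 za35) (ka xa8 ya8 za36) (ka xa5 ya33 za52) (ka xa10 ya54 za38) (ka xa3 ya58 za32) (ka xa15 ya2 za55) (ka xa8 ya34 za0) (ka xa8 ya7 za50) (ka xa8 ya33 za36) (ka xa15 ya1 za12) (ka xa10 ya32 za52) (ka xa15 ya1 za13) (ka xa8 ya14 za5) (ka xa8 ya14 za4) (ka xa8 ya27 za52) (ka xa8 ya27 za53) (ka xa8 ya27 za54) (ka xa8 ya27 za55) (ka xa8 ya27 za56) (ka xa4 ya55 za21) (ka xa4 ya55 za58) (ka xa4 ya55 za60) (ka xa4 ya56 za8) (ka xa4 ya55 za31) (ka xa8 ya55 za8) (ka xa10 ya54 za33) (ka xa10 ya54 za34) (ka xa10 ya54 za35) (ka xa10 ya56 za53) (ka xa10 ya54 za30) (ka xa10 ya54 za31) (ka xa9 ya6 za29)) (@D3.rec (fun _ => Pt) (ka xa3 ya58 za47) (ka xa4 ya57 za46) (ka xa13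 ya58 za28) (ka xa11 ya26 za26) (ka xa4 ya56 za26) (ka xa5 ya35 za17) (ka xa5 ya57 za4) (ka xa4 ya56 za39) (ka xa3 ya59 za10) (ka xa4 ya57 za6) (ka xa3 ya58 za59) (ka xa3 ya58 za61) (ka xa5 ya41 za60) (ka xa5 ya41 za26) (ka xa5 ya41 za20) (ka xa12 ya9 za15) (ka xa3 ya59 za2) (ka xa11 ya6 za56) (ka xa11 ya6 za57) (ka xa6 ya15 za32) (ka xa3 ya59 za1) (ka xa4 ya23 za23) (ka xa11 ya7 za5) (ka xa12 ya23 za45) (ka xa4 ya0 za26) (ka xa12 ya9 za14) (ka xa7 ya33 za47) (ka xa11 ya6 za53) (ka xa11 ya6 za54) (ka xa3 ya59 za6) (ka xa3 ya59 za7) (ka xa3 ya59 za8) (ka xa3 ya59 za9) (ka xa5 ya44 za30) (ka xa9 ya3 za39) (ka xa9 ya3 za38) (ka xa15 ya4 za15) (ka xa15 ya4 za7) (ka xa11 ya23 za55) (ka xa15 ya4 za8) (ka xa15 ya4 za9) (ka xa15 ya3 za49) (ka xa15 ya4 za10) (ka xa15 ya4 za11) (ka xa15 ya4 za12) (ka xa15 ya3 za50) (ka xa10 ya52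 za58) (ka xa12 ya4 za38) (ka xa4 ya57 za54) (ka xa12 ya4 za39) (ka xa4 ya57 za57) (ka xa4 ya57 za58) (ka xa4 ya57 za59) (ka xa5 ya56 za3) (ka xa4 ya36 za21) (ka xa5 ya53 za41) (ka xa5 ya53 za28) (ka xa6 ya17 za14) (ka xa11 ya20 za58) (ka xa8 ya14 za45) (ka xa5 ya54 za57) (ka xa10 ya17 za57))
def f_a_8 : D2 → D3 → Pt := @D2.rec (fun _ => D3 → Pt) (@D3.rec (fun _ => Pt) (ka xa5 ya54 za32) (ka xa5 ya54 za46) (ka xa11 ya24 za56) (ka xa11 ya24 za49) (ka xa3 ya59 za30) (ka xa4 ya0 za45) (ka xa4 ya25 za60) (ka xa11 ya25 za14) (ka xa15 ya4 za45) (ka xa5 ya0 za3) (ka xa4 ya0 za47) (ka xa5 ya41 za22) (ka xa12 ya5 za25) (ka xa5 ya52 za55) (ka xa12 ya28 za18) (ka xa6 ya1 za48) (ka xa11 ya24 za53) (ka xa10 ya43 za27) (ka xa4 ya35 za7) (ka xa10 ya49 za49) (ka xa6 ya49 za16) (ka xa3 ya59 za49) (ka xa3 ya59 za50) (ka xa3 ya59 za51) (ka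 xa3 ya59 za52) (ka xa6 ya0 za32) (ka xa6 ya44 za13) (ka xa5 ya53 za42) (ka xa6 ya51 za3) (ka xa6 ya51 za4) (ka xa3 ya59 za44) (ka xa5 ya55 za35) (ka xa15 ya5 za11) (ka xa11 ya35 za0) (ka xa6 ya50 za60) (ka xa6 ya50 za61) (ka xa4 ya59 za32) (ka xa6 ya30 za39) (ka xa6 ya50 za25) (ka xa8 ya50 za3) (ka xa9 ya12 za14) (ka xa14 ya2 za42) (ka xa15 ya5 za0) (ka xa15 ya5 za1) (ka xa6 ya0 za53) (ka xa15 ya5 za3) (ka xa14 ya49 za60) (ka xa12 ya17 za47) (ka xa6 ya56 za39) (ka xa15 ya5 za4) (ka xa15 ya5 za5) (ka xa5 ya0 za17) (ka xa3 ya59 za53) (ka xa15 ya5 za33) (ka xa8 ya49 za56) (ka xa15 ya5 za34) (ka xa5 ya0 za14) (ka xa3 ya59 za56) (ka xa15 ya5 za41) (ka xa5 ya0 za20) (ka xa4 ya2 za20) (ka xa8 ya1 za42)) (@D3.rec (fun _ => Pt) (ka xa8 ya1 za41) (ka xa3 ya59 za59) (ka xa4 ya56 za37) (ka xa6 ya13 za61) (ka xa4 ya0 za1) (ka xa15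 ya5 za45) (ka xa12 ya22 za60) (ka xa8 ya43 za49) (ka xa15 ya5 za55) (ka xa8 ya1 za60) (ka xa8 ya1 za61) (ka xa8 ya2 za0) (ka xa8 ya2 za1) (ka xa8 ya2 za2) (ka xa12 ya5 za50) (ka xa9 ya9 za41) (ka xa9 ya10 za27) (ka xa12 ya22 za57) (ka xa12 ya22 za58) (ka xa12 ya22 za59) (ka xa12 ya22 za61) (ka xa11 ya37 za16) (ka xa8 ya2 za35) (ka xa8 ya2 za36) (ka xa15 ya6 za30) (ka xa8 ya2 za38) (ka xa8 ya2 za39) (ka xa4 ya0 za14) (ka xa15 ya6 za39) (ka xa4 ya52 za56) (ka xa4 ya52 za58) (ka xa10 ya24 za2) (ka xa4 ya53 za0) (ka xa4 ya53 za2) (ka xa15 ya6 za47) (ka xa15 ya6 za52) (ka xa4 ya0 za18) (ka xa15 ya6 za57) (ka xa15 ya6 za46) (ka xa4 ya53 za15) (ka xa4 ya53 za16) (ka xa8 ya1 za0) (ka xa8 ya0 za61) (ka xa4 ya0 za22) (ka xa4 ya0 za29) (ka xa4 ya0 za25) (ka xa4 ya23 za18) (ka xa15 ya7 za6) (ka xa4 ya57 za17) (ka xa13 ya27 za55) (ka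 xa15 ya4 za0) (ka xa13 ya27 za54) (ka xa4 ya0 za28) (ka xa15 ya7 za14) (ka xa15 ya7 za15) (ka xa15 ya7 za16) (ka xa15 ya7 za17) (ka xa15 ya7 za5) (ka xa4 ya24 za59) (ka xa15 ya7 za36) (ka xa8 ya1 za9) (ka xa8 ya1 za10)) (@D3.rec (fun _ => Pt) (ka xa8 ya1 za11) (ka xa8 ya1 za12) (ka xa8 ya1 za13) (ka xa6 ya13 za41) (ka xa6 ya13 za47) (ka xa11 ya23 za0) (ka xa6 ya13 za44) (ka xa7 ya57 za16) (ka xa4 ya42 za44) (ka xa4 ya0 za52) (ka xa4 ya0 za43) (ka xa4 ya25 za16) (ka xa4 ya25 za44) (ka xa4 ya25 za45) (ka xa12 ya6 za49) (ka xa4 ya20 za7) (ka xa8 ya5 za9) (ka xa8 ya38 za55) (ka xa15 ya4 za46) (ka xa8 ya56 za20) (ka xa15 ya4 za50) (ka xa9 ya47 za3) (ka xa4 ya0 za49) (ka xa4 ya0 za51) (ka xa15 ya8 za3) (ka xa5 ya53 za29) (ka xa11 ya27 za45) (ka xa15 ya8 za4) (ka xa15 ya8 za5) (ka xa15 ya8 za6) (ka xa15 ya7 za52) (ka xa9 ya47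 za4) (ka xa6 ya13 za36) (ka xa6 ya13 za37) (ka xa15 ya8 za29) (ka xa8 ya1 za22) (ka xa8 ya1 za23) (ka xa15 ya8 za40) (ka xa8 ya1 za25) (ka xa8 ya1 za26) (ka xa6 ya13 za38) (ka xa6 ya13 za39) (ka xa6 ya13 za40) (ka xa5 ya20 za49) (ka xa15 ya8 za58) (ka xa10 ya23 za23) (ka xa4 ya2 za59) (ka xa4 ya2 za60) (ka xa4 ya3 za10) (ka xa15 ya9 za6) (ka xa4 ya3 za16) (ka xa4 ya3 za17) (ka xa4 ya3 za18) (ka xa4 ya28 za5) (ka xa15 ya9 za12) (ka xa4 ya3 za56) (ka xa4 ya3 za57) (ka xa4 ya3 za58) (ka xa4 ya3 za59) (ka xa4 ya3 za60) (ka xa15 ya9 za23) (ka xa4 ya4 za3)) (@D3.rec (fun _ => Pt) (ka xa4 ya4 za4) (ka xa4 ya4 za5) (ka xa4 ya4 za6) (ka xa8 ya9 za18) (ka xa8 ya9 za17) (ka xa4 ya1 za9) (ka xa4 ya4 za18) (ka xa4 ya4 za19) (ka xa5 ya8 za36) (ka xa15 ya9 za44) (ka xa8 ya4 za38) (ka xa8 ya4 za39) (ka xa8 ya4 za40) (ka xa8 ya4 za41)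 (ka xa8 ya3 za36) (ka xa8 ya3 za35) (ka xa5 ya13 za44) (ka xa8 ya4 za43) (ka xa15 ya9 za58) (ka xa8 ya4 za45) (ka xa8 ya4 za46) (ka xa8 ya4 za47) (ka xa8 ya4 za48) (ka xa10 ya5 za5) (ka xa8 ya4 za50) (ka xa8 ya4 za52) (ka xa4 ya1 za23) (ka xa7 ya19 za18) (ka xa5 ya13 za2) (ka xa8 ya4 za51) (ka xa10 ya17 za61) (ka xa7 ya8 za21) (ka xa8 ya4 za53) (ka xa5 ya53 za16) (ka xa10 ya17 za9) (ka xa8 ya3 za15) (ka xa8 ya3 za14) (ka xa8 ya4 za57) (ka xa8 ya4 za54) (ka xa4 ya1 za30) (ka xa15 ya10 za23) (ka xa7 ya8 za22) (ka xa8 ya4 za58) (ka xa8 ya4 za59) (ka xa8 ya14 za7) (ka xa8 ya39 za4) (ka xa4 ya37 za3) (ka xa8 ya5 za16) (ka xa13 ya50 za45) (ka xa8 ya5 za18) (ka xa15 ya10 za48) (ka xa8 ya5 za20) (ka xa8 ya5 za21) (ka xa8 ya5 za22) (ka xa8 ya5 za23) (ka xa8 ya5 za24) (ka xa5 ya8 za44) (ka xa9 ya39 za29) (ka xa9 ya39 za30) (ka xa5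 ya8 za34) (ka xa15 ya11 za7) (ka xa5 ya8 za38)) (@D3.rec (fun _ => Pt) (ka xa5 ya8 za39) (ka xa5 ya8 za41) (ka xa5 ya8 za42) (ka xa15 ya11 za15) (ka xa5 ya8 za49) (ka xa5 ya8 za50) (ka xa5 ya8 za51) (ka xa5 ya8 za53) (ka xa5 ya8 za54) (ka xa9 ya39 za31) (ka xa15 ya11 za28) (ka xa5 ya8 za59) (ka xa5 ya8 za60) (ka xa5 ya9 za0) (ka xa5 ya9 za1) (ka xa8 ya26 za18) (ka xa15 ya11 za43) (ka xa5 ya9 za4) (ka xa5 ya9 za5) (ka xa5 ya9 za6) (ka xa5 ya9 za8) (ka xa15 ya11 za53) (ka xa5 ya9 za10) (ka xa5 ya9 za11) (ka xa15 ya11 za61) (ka xa5 ya9 za13) (ka xa5 ya9 za14) (ka xa15 ya12 za5) (ka xa15 ya12 za10) (ka xa4 ya1 za54) (ka xa15 ya12 za15) (ka xa15 ya12 za4) (ka xa5 ya9 za20) (ka xa5 ya9 za21) (ka xa5 ya9 za22) (ka xa5 ya9 za23) (ka xa5 ya12 za49) (ka xa15 ya12 za34) (ka xa8 ya3 za10) (ka xa8 ya3 za11) (ka xa8 ya3 za12) (ka xa8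 ya3 za13) (ka xa4 ya20 za35) (ka xa8 ya3 za17) (ka xa15 ya12 za44) (ka xa8 ya3 za19) (ka xa8 ya3 za20) (ka xa8 ya3 za21) (ka xa8 ya3 za22) (ka xa7 ya19 za14) (ka xa8 ya3 za24) (ka xa8 ya3 za29) (ka xa8 ya3 za25) (ka xa8 ya3 za32) (ka xa8 ya3 za38) (ka xa4 ya2 za12) (ka xa15 ya13 za2) (ka xa8 ya3 za37) (ka xa8 ya3 za42) (ka xa8 ya3 za43) (ka xa4 ya2 za16) (ka xa4 ya5 za50)) (@D3.rec (fun _ => Pt) (ka xa8 ya25 za53) (ka xa15 ya13 za13) (ka xa9 ya44 za34) (ka xa4 ya2 za17) (ka xa6 ya16 za0) (ka xa10 ya1 za27) (ka xa15 ya13 za20) (ka xa15 ya13 za21) (ka xa4 ya2 za19) (ka xa8 ya2 za16) (ka xa15 ya13 za27) (ka xa15 ya13 za28) (ka xa15 ya13 za29) (ka xa8 ya38 za23) (ka xa4 ya4 za48) (ka xa9 ya9 za42) (ka xa8 ya3 za47) (ka xa9 ya9 za55) (ka xa8 ya3 za49) (ka xa15 ya13 za54) (ka xa8 ya3 za51) (ka xa8 ya3 za52) (ka xa8 ya3 za53)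 (ka xa8 ya3 za54) (ka xa8 ya3 za55) (ka xa6 ya14 za2) (ka xa8 ya5 za48) (ka xa8 ya5 za49) (ka xa8 ya5 za50) (ka xa8 ya5 za51) (ka xa8 ya5 za52) (ka xa8 ya5 za53) (ka xa15 ya14 za13) (ka xa15 ya14 za17) (ka xa4 ya2 za29) (ka xa15 ya14 za21) (ka xa15 ya14 za12) (ka xa8 ya5 za59) (ka xa8 ya5 za60) (ka xa8 ya5 za61) (ka xa8 ya6 za0) (ka xa5 ya1 za21) (ka xa5 ya1 za22) (ka xa5 ya19 za44) (ka xa15 ya14 za35) (ka xa5 ya19 za46) (ka xa5 ya1 za33) (ka xa5 ya19 za47) (ka xa8 ya5 za26) (ka xa8 ya5 za27) (ka xa8 ya5 za28) (ka xa8 ya5 za29) (ka xa8 ya5 za30) (ka xa8 ya5 za31) (ka xa15 ya14 za45) (ka xa10 ya13 za56) (ka xa4 ya2 za39) (ka xa15 ya14 za53) (ka xa15 ya14 za44) (ka xa8 ya5 za37) (ka xa8 ya5 za38) (ka xa8 ya5 za39)) (@D3.rec (fun _ => Pt) (ka xa8 ya5 za40) (ka xa4 ya22 za18) (ka xa4 ya22 za19) (ka xa4 ya22 za21) (ka xa15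 ya15 za7) (ka xa4 ya28 za50) (ka xa4 ya28 za51) (ka xa4 ya28 za54) (ka xa15 ya15 za13) (ka xa4 ya29 za27) (ka xa4 ya29 za28) (ka xa4 ya29 za29) (ka xa4 ya29 za30) (ka xa4 ya29 za32) (ka xa15 ya15 za27) (ka xa10 ya23 za24) (ka xa10 ya23 za25) (ka xa14 ya53 za17) (ka xa10 ya23 za27) (ka xa10 ya23 za28) (ka xa15 ya15 za39) (ka xa15 ya15 za44) (ka xa4 ya2 za53) (ka xa13 ya32 za24) (ka xa15 ya15 za38) (ka xa10 ya23 za33) (ka xa10 ya23 za34) (ka xa4 ya9 za56) (ka xa10 ya23 za35) (ka xa4 ya9 za54) (ka xa5 ya29 za19) (ka xa4 ya30 za45) (ka xa9 ya53 za3) (ka xa5 ya36 za10) (ka xa15 ya16 za12) (ka xa9 ya33 za39) (ka xa15 ya9 za0) (ka xa9 ya37 za39) (ka xa15 ya9 za1) (ka xa15 ya9 za2) (ka xa6 ya4 za48) (ka xa6 ya4 za49) (ka xa15 ya16 za27) (ka xa9 ya33 za40) (ka xa11 ya8 za43) (ka xa8 ya36 za43) (ka xa10 ya3 za7) (ka xa8 ya36 za42)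 (ka xa5 ya1 za7) (ka xa8 ya32 za32) (ka xa9 ya33 za29) (ka xa9 ya33 za30) (ka xa11 ya55 za30) (ka xa15 ya9 za3) (ka xa8 ya41 za5) (ka xa15 ya16 za50) (ka xa9 ya33 za32) (ka xa9 ya33 za33) (ka xa11 ya53 za26) (ka xa11 ya53 za27) (ka xa11 ya53 za28) (ka xa8 ya27 za24)) (@D3.rec (fun _ => Pt) (ka xa8 ya27 za25) (ka xa14 ya50 za54) (ka xa5 ya36 za11) (ka xa5 ya36 za3) (ka xa15 ya17 za9) (ka xa15 ya17 za14) (ka xa4 ya3 za15) (ka xa15 ya17 za19) (ka xa15 ya17 za8) (ka xa8 ya14 za14) (ka xa9 ya33 za42) (ka xa8 ya9 za27) (ka xa9 ya33 za41) (ka xa8 ya9 za24) (ka xa4 ya27 za48) (ka xa4 ya27 za50) (ka xa15 ya17 za37) (ka xa4 ya27 za53) (ka xa4 ya27 za54) (ka xa4 ya27 za58) (ka xa4 ya21 za8) (ka xa15 ya17 za45) (ka xa5 ya39 za3) (ka xa8 ya36 za44) (ka xa8 ya36 za45) (ka xa8 ya36 za46) (ka xa15 ya17 za55) (ka xa5 ya39 za1) (ka xa8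 ya36 za48) (ka xa8 ya36 za47) (ka xa4 ya3 za28) (ka xa15 ya18 za2) (ka xa8 ya9 za52) (ka xa8 ya9 za54) (ka xa9 ya37 za36) (ka xa9 ya37 za37) (ka xa8 ya27 za39) (ka xa9 ya37 za38) (ka xa8 ya27 za40) (ka xa9 ya37 za41) (ka xa8 ya39 za15) (ka xa8 ya39 za16) (ka xa7 ya50 za44) (ka xa8 ya39 za17) (ka xa15 ya18 za27) (ka xa8 ya20 za22) (ka xa4 ya3 za41) (ka xa5 ya27 za44) (ka xa8 ya20 za24) (ka xa15 ya18 za34) (ka xa7 ya58 za37) (ka xa11 ya5 za6) (ka xa15 ya18 za28) (ka xa10 ya0 za55) (ka xa8 ya17 za60) (ka xa15 ya18 za29) (ka xa9 ya37 za33) (ka xa9 ya37 za32) (ka xa4 ya3 za46) (ka xa10 ya51 za38) (ka xa8 ya36 za51) (ka xa8 ya36 za52)) (@D3.rec (fun _ => Pt) (ka xa5 ya39 za8) (ka xa8 ya36 za54) (ka xa8 ya36 za55) (ka xa5 ya39 za9) (ka xa8 ya36 za56) (ka xa8 ya36 za57) (ka xa8 ya36 za58) (ka xa8 ya36 za59) (ka xa15 ya19 za5)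 (ka xa8 ya36 za61) (ka xa4 ya28 za6) (ka xa15 ya19 za11) (ka xa4 ya28 za9) (ka xa4 ya28 za10) (ka xa4 ya28 za12) (ka xa4 ya28 za14) (ka xa15 ya9 za22) (ka xa15 ya9 za21) (ka xa4 ya3 za55) (ka xa15 ya19 za26) (ka xa9 ya43 za30) (ka xa9 ya43 za32) (ka xa15 ya9 za14) (ka xa15 ya9 za15) (ka xa5 ya24 za3) (ka xa8 ya27 za61) (ka xa15 ya9 za16) (ka xa8 ya28 za0) (ka xa15 ya9 za17) (ka xa15 ya9 za18) (ka xa15 ya9 za19) (ka xa10 ya7 za40) (ka xa15 ya9 za20) (ka xa4 ya4 za1) (ka xa15 ya19 za59) (ka xa7 ya58 za30) (ka xa7 ya58 za31) (ka xa15 ya19 za54) (ka xa15 ya19 za55) (ka xa15 ya19 za56) (ka xa15 ya9 za11) (ka xa10 ya58 za58) (ka xa4 ya4 za2) (ka xa15 ya20 za9) (ka xa15 ya9 za25) (ka xa15 ya9 za26) (ka xa15 ya9 za27) (ka xa15 ya9 za28) (ka xa8 ya28 za10) (ka xa5 ya24 za33) (ka xa15 ya9 za29) (ka xa5 ya32 za31) (ka xa8 ya28 za11)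 (ka xa5 ya24 za34) (ka xa5 ya33 za36) (ka xa5 ya33 za35) (ka xa4 ya4 za7) (ka xa15 ya20 za33) (ka xa8 ya28 za1) (ka xa8 ya28 za2) (ka xa8 ya27 za58) (ka xa8 ya27 za57)) (@D3.rec (fun _ => Pt) (ka xa4 ya4 za9) (ka xa14 ya50 za25) (ka xa14 ya50 za24) (ka xa8 ya28 za12) (ka xa8 ya28 za13) (ka xa4 ya4 za15) (ka xa4 ya4 za11) (ka xa15 ya20 za61) (ka xa15 ya20 za58) (ka xa11 ya8 za59) (ka xa15 ya20 za59) (ka xa4 ya4 za12) (ka xa15 ya21 za16) (ka xa15 ya21 za8) (ka xa11 ya8 za58) (ka xa15 ya21 za14) (ka xa4 ya4 za14) (ka xa8 ya3 za4) (ka xa8 ya3 za3) (ka xa15 ya21 za28) (ka xa15 ya21 za29) (ka xa15 ya20 za56) (ka xa8 ya9 za25) (ka xa8 ya9 za26) (ka xa8 ya7 za13) (ka xa8 ya9 za22) (ka xa8 ya9 za23) (ka xa8 ya7 za11) (ka xa8 ya28 za32) (ka xa15 ya9 za37) (ka xa15 ya9 za38) (ka xa11 ya54 za26) (ka xa8 ya28 za33) (ka xa15 ya9 za39)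 (ka xa15 ya9 za40) (ka xa15 ya22 za12) (ka xa5 ya38 za59) (ka xa5 ya36 za26) (ka xa5 ya38 za60) (ka xa5 ya38 za61) (ka xa10 ya36 za18) (ka xa15 ya22 za23) (ka xa5 ya38 za55) (ka xa5 ya36 za44) (ka xa5 ya38 za56) (ka xa5 ya39 za5) (ka xa5 ya39 za4) (ka xa4 ya4 za25) (ka xa5 ya59 za13) (ka xa8 ya27 za41) (ka xa8 ya27 za42) (ka xa8 ya26 za38) (ka xa8 ya7 za32) (ka xa10 ya36 za49) (ka xa8 ya7 za33) (ka xa8 ya27 za44) (ka xa8 ya27 za45) (ka xa8 ya27 za46) (ka xa8 ya27 za47) (ka xa8 ya11 za0) (ka xa8 ya27 za50) (ka xa8 ya14 za20)) (@D3.rec (fun _ => Pt) (ka xa8 ya38 za57) (ka xa15 ya22 za51) (ka xa4 ya31 za27) (ka xa4 ya31 za28) (ka xa4 ya31 za30) (ka xa8 ya27 za37) (ka xa8 ya27 za36) (ka xa4 ya4 za39) (ka xa15 ya23 za1) (ka xa5 ya39 za10) (ka xa5 ya39 za11) (ka xa10 ya38 za8) (ka xa5 ya39 za13) (ka xa4 ya51 za38) (ka xa5 ya39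 za14) (ka xa8 ya26 za47) (ka xa5 ya39 za16) (ka xa5 ya39 za17) (ka xa5 ya39 za18) (ka xa5 ya39 za19) (ka xa5 ya39 za20) (ka xa15 ya23 za28) (ka xa5 ya39 za22) (ka xa4 ya14 za43) (ka xa4 ya14 za44) (ka xa4 ya14 za45) (ka xa9 ya44 za33) (ka xa15 ya13 za42) (ka xa8 ya40 za36) (ka xa8 ya43 za44) (ka xa8 ya25 za51) (ka xa4 ya4 za56) (ka xa4 ya4 za52) (ka xa11 ya34 za34) (ka xa10 ya1 za20) (ka xa4 ya4 za55) (ka xa5 ya54 za26) (ka xa15 ya23 za42) (ka xa15 ya23 za43) (ka xa5 ya54 za24) (ka xa15 ya11 za56) (ka xa8 ya26 za3) (ka xa8 ya26 za4) (ka xa8 ya26 za5) (ka xa8 ya26 za6) (ka xa8 ya26 za7) (ka xa4 ya21 za11) (ka xa4 ya9 za30) (ka xa15 ya24 za7) (ka xa8 ya10 za51) (ka xa15 ya24 za14) (ka xa8 ya10 za49) (ka xa4 ya5 za12) (ka xa4 ya5 za15) (ka xa4 ya5 za16) (ka xa4 ya5 za18) (ka xa4 ya5 za19) (ka xa4 ya5 za24) (ka xa9 ya31 za53)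 (ka xa4 ya5 za25) (ka xa4 ya5 za26) (ka xa4 ya5 za27)) (@D3.rec (fun _ => Pt) (ka xa8 ya9 za59) (ka xa8 ya13 za15) (ka xa8 ya13 za16) (ka xa4 ya12 za7) (ka xa9 ya39 za21) (ka xa9 ya35 za30) (ka xa4 ya19 za6) (ka xa5 ya3 za3) (ka xa5 ya2 za61) (ka xa10 ya0 za41) (ka xa10 ya0 za43) (ka xa15 ya24 za51) (ka xa12 ya23 za24) (ka xa15 ya2 za32) (ka xa5 ya36 za54) (ka xa11 ya57 za9) (ka xa5 ya15 za17) (ka xa5 ya15 za34) (ka xa5 ya15 za35) (ka xa12 ya55 za35) (ka xa15 ya24 za18) (ka xa15 ya24 za19) (ka xa4 ya30 za54) (ka xa11 ya57 za28) (ka xa8 ya38 za31) (ka xa8 ya39 za47) (ka xa15 ya25 za13) (ka xa15 ya24 za21) (ka xa15 ya24 za22) (ka xa8 ya14 za25) (ka xa15 ya24 za23) (ka xa15 ya24 za24) (ka xa8 ya26 za28) (ka xa15 ya25 za29) (ka xa15 ya1 za48) (ka xa15 ya1 za46) (ka xa15 ya1 za45) (ka xa5 ya37 za1) (ka xa15 ya1 za47) (ka xa15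 ya25 za38) (ka xa10 ya26 za43) (ka xa10 ya33 za41) (ka xa15 ya25 za45) (ka xa15 ya24 za25) (ka xa11 ya51 za26) (ka xa10 ya16 za44) (ka xa10 ya15 za36) (ka xa8 ya52 za53) (ka xa15 ya24 za27) (ka xa8 ya52 za51) (ka xa15 ya24 za28) (ka xa4 ya55 za52) (ka xa4 ya55 za51) (ka xa8 ya27 za26) (ka xa8 ya27 za27) (ka xa8 ya27 za28) (ka xa8 ya13 za41) (ka xa8 ya14 za26) (ka xa5 ya39 za50) (ka xa5 ya37 za0) (ka xa8 ya14 za42) (ka xa8 ya14 za43)) (@D3.rec (fun _ => Pt) (ka xa8 ya14 za44) (ka xa4 ya37 za1) (ka xa6 ya8 za11) (ka xa6 ya8 za12) (ka xa6 ya8 za14) (ka xa4 ya32 za39) (ka xa10 ya6 za55) (ka xa12 ya9 za51) (ka xa6 ya8 za17) (ka xa6 ya8 za18) (ka xa10 ya4 za21) (ka xa6 ya7 za37) (ka xa10 ya18 za5) (ka xa12 ya9 za50) (ka xa6 ya7 za47) (ka xa4 ya6 za1) (ka xa8 ya14 za48) (ka xa4 ya5 za51) (ka xa9 ya44 za43) (ka xa6 ya15 za56)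 (ka xa6 ya15 za61) (ka xa15 ya13 za14) (ka xa5 ya37 za39) (ka xa4 ya5 za55) (ka xa7 ya36 za15) (ka xa4 ya5 za56) (ka xa4 ya5 za54) (ka xa10 ya18 za16) (ka xa12 ya11 za4) (ka xa15 ya26 za24) (ka xa12 ya10 za57) (ka xa15 ya26 za28) (ka xa13 ya1 za35) (ka xa5 ya52 za59) (ka xa4 ya5 za59) (ka xa4 ya5 za60) (ka xa4 ya5 za61) (ka xa4 ya6 za0) (ka xa11 ya35 za31) (ka xa9 ya47 za36) (ka xa11 ya35 za30) (ka xa15 ya26 za42) (ka xa5 ya55 za9) (ka xa9 ya17 za2) (ka xa15 ya26 za43) (ka xa12 ya33 za48) (ka xa5 ya55 za6) (ka xa15 ya26 za44) (ka xa12 ya30 za57) (ka xa12 ya31 za19) (ka xa15 ya26 za17) (ka xa8 ya14 za36) (ka xa8 ya14 za57) (ka xa10 ya6 za16) (ka xa8 ya14 za58) (ka xa8 ya14 za60) (ka xa8 ya14 za61) (ka xa8 ya15 za0) (ka xa7 ya55 za43) (ka xa15 ya27 za18) (ka xa8 ya13 za0) (ka xa15 ya27 za23)) (@D3.rec (fun _ => Pt) (ka xa8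 ya12 za60) (ka xa4 ya6 za23) (ka xa4 ya6 za24) (ka xa4 ya6 za30) (ka xa4 ya6 za33) (ka xa4 ya6 za34) (ka xa15 ya27 za37) (ka xa4 ya6 za41) (ka xa4 ya6 za42) (ka xa4 ya6 za43) (ka xa5 ya36 za8) (ka xa9 ya33 za14) (ka xa9 ya33 za15) (ka xa4 ya20 za22) (ka xa5 ya8 za47) (ka xa8 ya11 za1) (ka xa8 ya11 za2) (ka xa5 ya10 za15) (ka xa5 ya10 za13) (ka xa11 ya52 za39) (ka xa10 ya15 za42) (ka xa10 ya35 za44) (ka xa15 ya28 za2) (ka xa15 ya27 za27) (ka xa9 ya42 za44) (ka xa6 ya7 za7) (ka xa9 ya42 za43) (ka xa9 ya42 za45) (ka xa5 ya17 za14) (ka xa5 ya17 za19) (ka xa5 ya17 za20) (ka xa10 ya3 za32) (ka xa10 ya20 za23) (ka xa15 ya28 za19) (ka xa15 ya27 za29) (ka xa11 ya5 za17) (ka xa9 ya33 za18) (ka xa8 ya39 za28) (ka xa15 ya28 za32) (ka xa15 ya27 za31) (ka xa15 ya27 za32) (ka xa8 ya11 za56) (ka xa15 ya27 za33) (ka xa15 ya27 za34) (ka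 xa5 ya17 za24) (ka xa15 ya28 za50) (ka xa9 ya41 za41) (ka xa9 ya41 za38) (ka xa5 ya38 za39) (ka xa9 ya41 za39) (ka xa15 ya28 za61) (ka xa10 ya37 za18) (ka xa11 ya53 za11) (ka xa10 ya35 za46) (ka xa10 ya35 za42) (ka xa10 ya45 za15) (ka xa15 ya29 za12) (ka xa4 ya6 za40) (ka xa15 ya29 za15) (ka xa15 ya29 za8) (ka xa11 ya52 za40) (ka xa15 ya16 za22)) (@D3.rec (fun _ => Pt) (ka xa6 ya5 za24) (ka xa15 ya27 za40) (ka xa6 ya5 za22) (ka xa15 ya27 za41) (ka xa7 ya58 za43) (ka xa7 ya58 za42) (ka xa12 ya54 za52) (ka xa8 ya3 za44) (ka xa8 ya37 za44) (ka xa8 ya37 za46) (ka xa8 ya37 za47) (ka xa6 ya6 za58) (ka xa6 ya6 za57) (ka xa15 ya29 za50) (ka xa8 ya7 za9) (ka xa9 ya33 za24) (ka xa6 ya7 za4) (ka xa6 ya7 za3) (ka xa4 ya6 za52) (ka xa11 ya9 za57) (ka xa8 ya9 za61) (ka xa8 ya37 za49) (ka xa8 ya37 za50) (ka xa8 ya37 za51) (ka xa8 ya37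 za52) (ka xa8 ya11 za29) (ka xa8 ya11 za57) (ka xa4 ya7 za1) (ka xa4 ya6 za59) (ka xa11 ya54 za0) (ka xa15 ya30 za12) (ka xa15 ya30 za13) (ka xa4 ya6 za60) (ka xa15 ya30 za23) (ka xa15 ya28 za51) (ka xa4 ya7 za0) (ka xa8 ya12 za51) (ka xa5 ya51 za32) (ka xa15 ya30 za25) (ka xa12 ya29 za47) (ka xa15 ya30 za10) (ka xa5 ya52 za26) (ka xa8 ya11 za60) (ka xa8 ya11 za61) (ka xa8 ya12 za0) (ka xa7 ya59 za59) (ka xa4 ya7 za20) (ka xa4 ya13 za28) (ka xa8 ya12 za16) (ka xa6 ya17 za12) (ka xa4 ya7 za17) (ka xa10 ya17 za56) (ka xa12 ya29 za59) (ka xa5 ya8 za1) (ka xa5 ya8 za5) (ka xa6 ya7 za23) (ka xa6 ya7 za24) (ka xa8 ya12 za52) (ka xa8 ya12 za54) (ka xa10 ya18 za52) (ka xa8 ya12 za55) (ka xa8 ya12 za56)) (@D3.rec (fun _ => Pt) (ka xa8 ya12 za57) (ka xa5 ya0 za60) (ka xa5 ya0 za61) (ka xa8 ya15 za47) (ka xa8 ya15 za48) (ka xa4 ya53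 za58) (ka xa5 ya1 za32) (ka xa8 ya15 za51) (ka xa15 ya31 za2) (ka xa8 ya15 za53) (ka xa8 ya15 za55) (ka xa15 ya31 za8) (ka xa6 ya5 za31) (ka xa6 ya5 za32) (ka xa6 ya5 za33) (ka xa6 ya5 za34) (ka xa6 ya5 za35) (ka xa15 ya31 za21) (ka xa6 ya5 za61) (ka xa6 ya6 za0) (ka xa6 ya6 za2) (ka xa6 ya6 za3) (ka xa15 ya31 za31) (ka xa8 ya16 za6) (ka xa8 ya16 za7) (ka xa15 ya31 za35) (ka xa8 ya16 za9) (ka xa8 ya16 za10) (ka xa15 ya31 za41) (ka xa15 ya31 za45) (ka xa4 ya7 za43) (ka xa7 ya42 za30) (ka xa15 ya31 za40) (ka xa8 ya16 za16) (ka xa8 ya16 za17) (ka xa8 ya16 za18) (ka xa8 ya16 za19) (ka xa8 ya16 za20) (ka xa8 ya16 za21) (ka xa5 ya12 za36) (ka xa5 ya12 za37) (ka xa4 ya21 za10) (ka xa5 ya21 za45) (ka xa8 ya20 za28) (ka xa15 ya32 za7) (ka xa8 ya39 za46) (ka xa8 ya39 za48) (ka xa8 ya15 za3) (ka xa8 ya15 za4) (ka xa4 ya8 za37) (ka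 xa4 ya8 za36) (ka xa8 ya15 za7) (ka xa15 ya32 za14) (ka xa8 ya15 za9) (ka xa5 ya17 za49) (ka xa8 ya15 za10) (ka xa15 ya32 za22) (ka xa5 ya26 za10) (ka xa5 ya26 za11) (ka xa5 ya26 za12) (ka xa5 ya26 za13) (ka xa15 ya32 za29)) (@D3.rec (fun _ => Pt) (ka xa5 ya26 za44) (ka xa5 ya26 za45) (ka xa5 ya26 za46) (ka xa5 ya26 za47) (ka xa5 ya26 za48) (ka xa15 ya32 za40) (ka xa8 ya15 za23) (ka xa8 ya15 za24) (ka xa15 ya32 za48) (ka xa8 ya15 za26) (ka xa8 ya15 za27) (ka xa15 ya32 za54) (ka xa15 ya32 za59) (ka xa4 ya8 za4) (ka xa14 ya31 za49) (ka xa15 ya32 za53) (ka xa8 ya15 za33) (ka xa8 ya15 za34) (ka xa8 ya15 za35) (ka xa8 ya15 za36) (ka xa8 ya15 za37) (ka xa8 ya15 za38) (ka xa4 ya21 za6) (ka xa4 ya21 za7) (ka xa4 ya8 za34) (ka xa4 ya8 za35) (ka xa4 ya8 za40) (ka xa15 ya33 za26) (ka xa4 ya8 za45) (ka xa4 ya8 za46) (ka xa4 ya8 za48)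 (ka xa4 ya8 za50) (ka xa15 ya33 za38) (ka xa4 ya9 za8) (ka xa4 ya9 za9) (ka xa4 ya9 za10) (ka xa4 ya9 za13) (ka xa4 ya21 za12) (ka xa15 ya33 za48) (ka xa4 ya9 za21) (ka xa4 ya9 za22) (ka xa4 ya9 za26) (ka xa4 ya9 za28) (ka xa15 ya33 za60) (ka xa4 ya9 za33) (ka xa4 ya9 za34) (ka xa4 ya9 za36) (ka xa4 ya9 za39) (ka xa15 ya34 za10) (ka xa4 ya9 za42) (ka xa4 ya9 za43) (ka xa15 ya34 za18) (ka xa4 ya9 za45) (ka xa4 ya9 za46) (ka xa15 ya34 za22) (ka xa15 ya34 za27) (ka xa4 ya8 za24) (ka xa15 ya34 za32) (ka xa15 ya16 za53) (ka xa4 ya9 za52) (ka xa4 ya9 za53) (ka xa4 ya9 za55)) (@D3.rec (fun _ => Pt) (ka xa4 ya9 za57) (ka xa4 ya18 za60) (ka xa15 ya34 za46) (ka xa4 ya51 za60) (ka xa9 ya34 za12) (ka xa9 ya34 za13) (ka xa8 ya33 za18) (ka xa9 ya34 za14) (ka xa5 ya35 za11) (ka xa4 ya31 za20) (ka xa5 ya35 za24) (ka xa10 ya24 za13) (ka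 xa15 ya34 za60) (ka xa15 ya33 za20) (ka xa5 ya35 za57) (ka xa15 ya33 za21) (ka xa15 ya33 za22) (ka xa15 ya35 za7) (ka xa8 ya19 za28) (ka xa8 ya33 za23) (ka xa8 ya33 za24) (ka xa8 ya33 za25) (ka xa8 ya31 za7) (ka xa12 ya52 za24) (ka xa8 ya19 za27) (ka xa8 ya31 za8) (ka xa15 ya35 za20) (ka xa8 ya18 za46) (ka xa10 ya50 za26) (ka xa15 ya35 za25) (ka xa8 ya18 za45) (ka xa8 ya31 za3) (ka xa15 ya33 za37) (ka xa15 ya33 za36) (ka xa4 ya8 za44) (ka xa15 ya35 za36) (ka xa15 ya35 za37) (ka xa10 ya50 za19) (ka xa10 ya24 za1) (ka xa15 ya33 za29) (ka xa15 ya33 za30) (ka xa15 ya33 za31) (ka xa15 ya33 za32) (ka xa15 ya33 za33) (ka xa8 ya33 za34) (ka xa5 ya12 za23) (ka xa15 ya33 za34) (ka xa15 ya33 za35) (ka xa5 ya15 za57) (ka xa5 ya15 za56) (ka xa5 ya15 za59) (ka xa5 ya15 za45) (ka xa15 ya36 za20) (ka xa5 ya15 za55) (ka xa4 ya21 za17)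 (ka xa4 ya8 za59) (ka xa4 ya8 za60) (ka xa5 ya28 za19) (ka xa8 ya26 za41) (ka xa8 ya30 za52) (ka xa8 ya7 za54) (ka xa15 ya36 za32)) (@D3.rec (fun _ => Pt) (ka xa15 ya24 za10) (ka xa15 ya36 za23) (ka xa8 ya34 za5) (ka xa8 ya30 za47) (ka xa15 ya36 za24) (ka xa4 ya55 za9) (ka xa4 ya55 za10) (ka xa15 ya36 za45) (ka xa15 ya1 za50) (ka xa10 ya51 za37) (ka xa9 ya37 za44) (ka xa8 ya37 za14) (ka xa15 ya1 za51) (ka xa4 ya15 za41) (ka xa15 ya33 za25) (ka xa15 ya33 za24) (ka xa4 ya9 za7) (ka xa15 ya37 za1) (ka xa15 ya37 za2) (ka xa15 ya33 za41) (ka xa10 ya50 za36) (ka xa8 ya30 za25) (ka xa15 ya33 za42) (ka xa15 ya33 za43) (ka xa15 ya33 za44) (ka xa8 ya30 za19) (ka xa5 ya27 za40) (ka xa5 ya27 za41) (ka xa5 ya27 za39) (ka xa5 ya27 za42) (ka xa15 ya37 za36) (ka xa5 ya27 za38) (ka xa15 ya37 za41) (ka xa4 ya51 za50) (ka xa4 ya51 za51)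 (ka xa14 ya56 za57) (ka xa8 ya34 za36) (ka xa15 ya37 za50) (ka xa10 ya50 za20) (ka xa15 ya37 za53) (ka xa15 ya33 za59) (ka xa15 ya33 za58) (ka xa4 ya9 za20) (ka xa15 ya37 za59) (ka xa15 ya37 za60) (ka xa8 ya17 za30) (ka xa8 ya17 za27) (ka xa15 ya33 za51) (ka xa15 ya33 za52) (ka xa15 ya33 za53) (ka xa15 ya33 za54) (ka xa15 ya33 za55) (ka xa5 ya15 za20) (ka xa8 ya34 za46) (ka xa8 ya34 za47) (ka xa15 ya33 za56) (ka xa15 ya33 za57) (ka xa5 ya30 za13) (ka xa4 ya9 za31) (ka xa15 ya38 za32) (ka xa15 ya24 za3) (ka xa15 ya24 za4)) (@D3.rec (fun _ => Pt) (ka xa8 ya35 za7) (ka xa14 ya57 za32) (ka xa5 ya21 za20) (ka xa15 ya38 za29) (ka xa15 ya33 za47) (ka xa15 ya33 za46) (ka xa4 ya9 za32) (ka xa15 ya38 za47) (ka xa15 ya38 za48) (ka xa15 ya34 za1) (ka xa15 ya34 za2) (ka xa15 ya34 za3) (ka xa15 ya34 za4) (ka xa15 ya34 za5) (ka xa15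 ya34 za6) (ka xa15 ya34 za7) (ka xa8 ya35 za16) (ka xa5 ya5 za48) (ka xa5 ya15 za27) (ka xa5 ya15 za29) (ka xa15 ya34 za17) (ka xa15 ya34 za16) (ka xa4 ya9 za40) (ka xa15 ya39 za20) (ka xa15 ya39 za21) (ka xa15 ya39 za22) (ka xa4 ya52 za54) (ka xa8 ya17 za24) (ka xa8 ya17 za18) (ka xa15 ya34 za13) (ka xa15 ya34 za14) (ka xa15 ya34 za15) (ka xa15 ya34 za9) (ka xa15 ya34 za8) (ka xa4 ya9 za44) (ka xa15 ya39 za53) (ka xa15 ya39 za54) (ka xa13 ya34 za10) (ka xa15 ya34 za20) (ka xa15 ya34 za21) (ka xa4 ya9 za51) (ka xa4 ya9 za47) (ka xa15 ya40 za14) (ka xa15 ya40 za11) (ka xa15 ya40 za12) (ka xa15 ya40 za23) (ka xa12 ya59 za39) (ka xa4 ya9 za50) (ka xa15 ya40 za28) (ka xa15 ya32 za25) (ka xa15 ya40 za29) (ka xa15 ya40 za30) (ka xa15 ya40 za9) (ka xa15 ya16 za51) (ka xa15 ya40 za43) (ka xa15 ya34 za38) (ka xa15 ya40 za50) (ka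 xa15 ya34 za40) (ka xa15 ya40 za58) (ka xa15 ya15 za61) (ka xa8 ya55 za60) (ka xa15 ya34 za41)) (@D3.rec (fun _ => Pt) (ka xa15 ya34 za42) (ka xa15 ya15 za58) (ka xa8 ya32 za31) (ka xa8 ya32 za30) (ka xa9 ya33 za31) (ka xa8 ya32 za37) (ka xa8 ya32 za38) (ka xa8 ya32 za39) (ka xa14 ya58 za4) (ka xa8 ya32 za33) (ka xa8 ya32 za34) (ka xa8 ya32 za35) (ka xa15 ya41 za28) (ka xa8 ya33 za37) (ka xa4 ya12 za3) (ka xa15 ya41 za36) (ka xa4 ya10 za18) (ka xa4 ya10 za19) (ka xa4 ya10 za20) (ka xa4 ya10 za21) (ka xa4 ya10 za22) (ka xa7 ya58 za11) (ka xa8 ya7 za45) (ka xa7 ya57 za56) (ka xa8 ya7 za48) (ka xa15 ya41 za55) (ka xa8 ya53 za17) (ka xa8 ya53 za18) (ka xa8 ya15 za43) (ka xa8 ya53 za20) (ka xa15 ya42 za1) (ka xa8 ya33 za47) (ka xa8 ya33 za48) (ka xa8 ya33 za27) (ka xa8 ya33 za50) (ka xa15 ya42 za14) (ka xa8 ya33 za44) (ka xa8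 ya33 za45) (ka xa4 ya10 za51) (ka xa4 ya10 za49) (ka xa15 ya42 za23) (ka xa8 ya22 za8) (ka xa8 ya33 za54) (ka xa15 ya42 za31) (ka xa8 ya22 za7) (ka xa8 ya33 za52) (ka xa8 ya33 za56) (ka xa8 ya33 za55) (ka xa4 ya10 za17) (ka xa14 ya42 za24) (ka xa6 ya22 za36) (ka xa8 ya33 za61) (ka xa8 ya33 za60) (ka xa15 ya41 za39) (ka xa15 ya41 za40) (ka xa15 ya41 za41) (ka xa15 ya41 za42) (ka xa15 ya41 za43) (ka xa14 ya57 za13) (ka xa15 ya41 za44) (ka xa15 ya41 za45) (ka xa15 ya41 za46)) (@D3.rec (fun _ => Pt) (ka xa4 ya18 za29) (ka xa4 ya18 za25) (ka xa4 ya10 za23) (ka xa12 ya52 za22) (ka xa4 ya10 za25) (ka xa15 ya43 za8) (ka xa8 ya24 za61) (ka xa8 ya34 za9) (ka xa8 ya34 za7) (ka xa8 ya25 za5) (ka xa8 ya30 za38) (ka xa8 ya32 za40) (ka xa15 ya43 za21) (ka xa8 ya32 za42) (ka xa8 ya32 za43) (ka xa14 ya2 za21) (ka xa4 ya10 za47) (ka xa4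 ya10 za48) (ka xa15 ya43 za29) (ka xa8 ya22 za44) (ka xa8 ya33 za4) (ka xa15 ya43 za34) (ka xa8 ya22 za43) (ka xa8 ya33 za2) (ka xa8 ya33 za6) (ka xa8 ya33 za5) (ka xa4 ya10 za46) (ka xa15 ya43 za40) (ka xa8 ya33 za10) (ka xa8 ya33 za9) (ka xa4 ya18 za50) (ka xa13 ya55 za43) (ka xa12 ya42 za4) (ka xa15 ya43 za26) (ka xa8 ya30 za51) (ka xa15 ya42 za20) (ka xa5 ya22 za48) (ka xa5 ya22 za49) (ka xa5 ya22 za47) (ka xa5 ya22 za50) (ka xa15 ya44 za9) (ka xa8 ya33 za32) (ka xa9 ya24 za20) (ka xa8 ya33 za30) (ka xa6 ya32 za15) (ka xa14 ya11 za47) (ka xa5 ya29 za51) (ka xa5 ya28 za32) (ka xa5 ya28 za33) (ka xa15 ya44 za19) (ka xa5 ya28 za34) (ka xa5 ya28 za35) (ka xa5 ya28 za40) (ka xa5 ya28 za39) (ka xa4 ya11 za0) (ka xa15 ya44 za28) (ka xa4 ya11 za6) (ka xa4 ya11 za7) (ka xa4 ya11 za8) (ka xa4 ya11 za9) (ka xa4 ya11 za11) (ka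 xa15 ya44 za40)) (@D3.rec (fun _ => Pt) (ka xa8 ya34 za58) (ka xa15 ya44 za44) (ka xa8 ya34 za60) (ka xa8 ya34 za59) (ka xa4 ya11 za5) (ka xa15 ya44 za48) (ka xa6 ya37 za22) (ka xa8 ya20 za44) (ka xa8 ya20 za41) (ka xa15 ya44 za31) (ka xa15 ya44 za32) (ka xa15 ya44 za33) (ka xa15 ya44 za34) (ka xa15 ya44 za35) (ka xa12 ya20 za19) (ka xa15 ya44 za36) (ka xa10 ya40 za9) (ka xa4 ya11 za32) (ka xa15 ya44 za37) (ka xa15 ya43 za60) (ka xa5 ya23 za52) (ka xa8 ya35 za13) (ka xa8 ya35 za14) (ka xa9 ya28 za14) (ka xa8 ya35 za11) (ka xa5 ya39 za54) (ka xa8 ya31 za24) (ka xa8 ya31 za25) (ka xa8 ya34 za48) (ka xa15 ya45 za31) (ka xa5 ya30 za52) (ka xa13 ya54 za13) (ka xa4 ya11 za29) (ka xa4 ya11 za30) (ka xa4 ya11 za31) (ka xa4 ya11 za33) (ka xa15 ya45 za44) (ka xa15 ya45 za47) (ka xa8 ya34 za19) (ka xa8 ya34 za22) (ka xa8 ya34 za21)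 (ka xa4 ya11 za28) (ka xa13 ya54 za11) (ka xa8 ya21 za22) (ka xa8 ya21 za19) (ka xa4 ya52 za10) (ka xa15 ya45 za37) (ka xa15 ya45 za38) (ka xa15 ya45 za3) (ka xa15 ya45 za39) (ka xa15 ya45 za40) (ka xa15 ya45 za41) (ka xa15 ya44 za1) (ka xa12 ya20 za17) (ka xa15 ya45 za16) (ka xa8 ya34 za43) (ka xa8 ya34 za40) (ka xa8 ya34 za41) (ka xa8 ya31 za48) (ka xa13 ya37 za56) (ka xa8 ya35 za26) (ka xa8 ya35 za27)) (@D3.rec (fun _ => Pt) (ka xa8 ya35 za32) (ka xa8 ya35 za24) (ka xa4 ya11 za45) (ka xa8 ya35 za30) (ka xa8 ya35 za29) (ka xa11 ya51 za15) (ka xa4 ya12 za0) (ka xa12 ya13 za9) (ka xa4 ya11 za49) (ka xa4 ya11 za50) (ka xa4 ya11 za51) (ka xa8 ya35 za20) (ka xa4 ya11 za48) (ka xa4 ya53 za9) (ka xa12 ya17 za40) (ka xa15 ya38 za44) (ka xa15 ya46 za26) (ka xa15 ya46 za36) (ka xa15 ya46 za27) (ka xa12 ya11 za39) (ka xa4 ya11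 za54) (ka xa4 ya17 za5) (ka xa15 ya46 za28) (ka xa12 ya16 za25) (ka xa4 ya11 za55) (ka xa6 ya28 za36) (ka xa6 ya59 za2) (ka xa8 ya35 za23) (ka xa6 ya41 za42) (ka xa15 ya37 za52) (ka xa15 ya46 za44) (ka xa6 ya33 za4) (ka xa15 ya46 za50) (ka xa4 ya11 za60) (ka xa4 ya11 za61) (ka xa4 ya18 za28) (ka xa12 ya27 za6) (ka xa4 ya18 za24) (ka xa4 ya18 za26) (ka xa4 ya16 za30) (ka xa4 ya16 za29) (ka xa15 ya46 za61) (ka xa15 ya47 za0) (ka xa8 ya23 za46) (ka xa8 ya23 za45) (ka xa8 ya23 za44) (ka xa8 ya23 za43) (ka xa6 ya20 za58) (ka xa15 ya41 za32) (ka xa15 ya41 za33) (ka xa15 ya41 za34) (ka xa12 ya21 za36) (ka xa8 ya23 za54) (ka xa8 ya35 za53) (ka xa8 ya23 za52) (ka xa4 ya14 za1) (ka xa4 ya12 za8) (ka xa5 ya13 za42) (ka xa5 ya13 za43) (ka xa8 ya35 za55) (ka xa8 ya37 za3) (ka xa15 ya47 za38)) (@D3.rec (fun _ => Pt) (ka xa8 ya37 za5)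 (ka xa8 ya37 za6) (ka xa4 ya53 za44) (ka xa6 ya23 za40) (ka xa4 ya12 za27) (ka xa4 ya12 za28) (ka xa4 ya12 za29) (ka xa4 ya12 za30) (ka xa4 ya12 za31) (ka xa14 ya58 za10) (ka xa15 ya47 za58) (ka xa8 ya37 za16) (ka xa8 ya37 za17) (ka xa5 ya39 za48) (ka xa8 ya37 za18) (ka xa8 ya37 za19) (ka xa4 ya15 za42) (ka xa5 ya29 za41) (ka xa12 ya59 za27) (ka xa8 ya37 za12) (ka xa8 ya37 za13) (ka xa4 ya13 za12) (ka xa4 ya13 za11) (ka xa15 ya48 za17) (ka xa8 ya37 za24) (ka xa8 ya37 za25) (ka xa15 ya48 za24) (ka xa8 ya37 za21) (ka xa8 ya37 za22) (ka xa6 ya23 za41) (ka xa6 ya23 za42) (ka xa6 ya22 za30) (ka xa4 ya28 za37) (ka xa4 ya21 za15) (ka xa4 ya27 za61) (ka xa15 ya47 za51) (ka xa4 ya43 za41) (ka xa4 ya43 za40) (ka xa14 ya58 za11) (ka xa12 ya59 za20) (ka xa5 ya2 za15) (ka xa9 ya34 za8) (ka xa15 ya47 za52) (ka xa5 ya2 za14) (ka xa15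 ya47 za53) (ka xa5 ya1 za20) (ka xa15 ya48 za54) (ka xa9 ya34 za16) (ka xa9 ya34 za17) (ka xa9 ya34 za18) (ka xa9 ya34 za19) (ka xa9 ya34 za20) (ka xa4 ya12 za37) (ka xa6 ya42 za35) (ka xa5 ya30 za53) (ka xa5 ya30 za55) (ka xa5 ya39 za55) (ka xa8 ya36 za7) (ka xa14 ya56 za46) (ka xa8 ya40 za37) (ka xa6 ya47 za40) (ka xa8 ya21 za6)) (@D3.rec (fun _ => Pt) (ka xa12 ya13 za15) (ka xa13 ya2 za8) (ka xa9 ya34 za38) (ka xa8 ya40 za44) (ka xa14 ya58 za20) (ka xa8 ya21 za9) (ka xa5 ya29 za32) (ka xa12 ya59 za45) (ka xa8 ya35 za57) (ka xa8 ya35 za58) (ka xa15 ya49 za17) (ka xa4 ya13 za9) (ka xa4 ya13 za10) (ka xa9 ya34 za45) (ka xa7 ya55 za30) (ka xa11 ya19 za19) (ka xa8 ya36 za10) (ka xa8 ya36 za11) (ka xa5 ya29 za37) (ka xa15 ya49 za31) (ka xa8 ya36 za5) (ka xa8 ya36 za6) (ka xa5 ya39 za51) (ka xa8 ya36 za8) (ka xa15 ya49 za37)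 (ka xa5 ya44 za15) (ka xa8 ya36 za17) (ka xa5 ya44 za24) (ka xa8 ya36 za15) (ka xa8 ya36 za16) (ka xa6 ya27 za16) (ka xa8 ya36 za18) (ka xa4 ya13 za8) (ka xa15 ya49 za47) (ka xa8 ya36 za21) (ka xa4 ya16 za54) (ka xa12 ya54 za22) (ka xa15 ya43 za56) (ka xa12 ya54 za23) (ka xa15 ya48 za14) (ka xa9 ya34 za49) (ka xa15 ya48 za13) (ka xa7 ya48 za53) (ka xa13 ya52 za32) (ka xa8 ya36 za36) (ka xa8 ya41 za1) (ka xa15 ya49 za61) (ka xa5 ya23 za5) (ka xa8 ya28 za29) (ka xa8 ya28 za28) (ka xa4 ya13 za26) (ka xa8 ya10 za30) (ka xa4 ya13 za32) (ka xa8 ya5 za0) (ka xa15 ya30 za41) (ka xa4 ya13 za29) (ka xa15 ya50 za9) (ka xa11 ya8 za23) (ka xa4 ya13 za31) (ka xa15 ya50 za11) (ka xa15 ya50 za12) (ka xa15 ya50 za13)) (@D3.rec (fun _ => Pt) (ka xa15 ya50 za14) (ka xa11 ya34 za39) (ka xa15 ya50 za30) (ka xa8 ya10 za41) (ka xa8 ya10 za42)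 (ka xa8 ya10 za43) (ka xa8 ya10 za44) (ka xa8 ya10 za45) (ka xa4 ya13 za54) (ka xa5 ya8 za30) (ka xa5 ya8 za31) (ka xa5 ya8 za57) (ka xa15 ya50 za48) (ka xa8 ya26 za20) (ka xa8 ya26 za21) (ka xa4 ya53 za61) (ka xa6 ya5 za42) (ka xa6 ya5 za43) (ka xa8 ya4 za15) (ka xa15 ya50 za58) (ka xa8 ya26 za13) (ka xa8 ya26 za14) (ka xa4 ya14 za0) (ka xa4 ya14 za10) (ka xa15 ya51 za4) (ka xa4 ya14 za16) (ka xa4 ya14 za18) (ka xa10 ya50 za39) (ka xa8 ya11 za32) (ka xa15 ya51 za14) (ka xa11 ya55 za5) (ka xa10 ya19 za56) (ka xa4 ya51 za1) (ka xa4 ya51 za2) (ka xa5 ya29 za42) (ka xa13 ya45 za52) (ka xa10 ya19 za26) (ka xa10 ya46 za16) (ka xa8 ya9 za51) (ka xa15 ya35 za3) (ka xa15 ya50 za61) (ka xa8 ya17 za58) (ka xa5 ya30 za18) (ka xa9 ya41 za42) (ka xa15 ya51 za31) (ka xa9 ya41 za45) (ka xa9 ya41 za46) (ka xa8 ya10 za15) (ka xa9 ya41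 za48) (ka xa15 ya51 za36) (ka xa10 ya19 za20) (ka xa10 ya19 za21) (ka xa9 ya43 za29) (ka xa15 ya51 za0) (ka xa10 ya7 za20) (ka xa15 ya51 za1) (ka xa8 ya55 za1) (ka xa15 ya51 za46) (ka xa9 ya42 za25) (ka xa9 ya42 za26) (ka xa9 ya42 za27) (ka xa9 ya42 za28)) (@D3.rec (fun _ => Pt) (ka xa5 ya17 za16) (ka xa9 ya42 za29) (ka xa15 ya51 za60) (ka xa4 ya29 za51) (ka xa4 ya29 za52) (ka xa15 ya52 za5) (ka xa15 ya52 za10) (ka xa4 ya14 za15) (ka xa15 ya52 za14) (ka xa15 ya52 za4) (ka xa4 ya29 za10) (ka xa4 ya16 za37) (ka xa15 ya51 za6) (ka xa4 ya16 za35) (ka xa5 ya31 za5) (ka xa15 ya51 za7) (ka xa9 ya43 za26) (ka xa15 ya52 za34) (ka xa6 ya6 za60) (ka xa6 ya6 za61) (ka xa6 ya7 za0) (ka xa6 ya7 za1) (ka xa6 ya7 za2) (ka xa15 ya52 za44) (ka xa8 ya6 za61) (ka xa8 ya7 za0) (ka xa8 ya11 za53) (ka xa8 ya11 za54) (ka xa8 ya11 za55) (ka xa15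 ya52 za54) (ka xa15 ya52 za59) (ka xa4 ya14 za23) (ka xa15 ya53 za2) (ka xa15 ya52 za53) (ka xa8 ya28 za35) (ka xa8 ya28 za34) (ka xa8 ya10 za6) (ka xa8 ya10 za5) (ka xa4 ya14 za27) (ka xa8 ya7 za36) (ka xa8 ya7 za38) (ka xa8 ya9 za49) (ka xa8 ya9 za50) (ka xa9 ya41 za10) (ka xa8 ya9 za55) (ka xa8 ya9 za56) (ka xa8 ya9 za57) (ka xa8 ya9 za58) (ka xa5 ya53 za22) (ka xa7 ya52 za17) (ka xa8 ya9 za60) (ka xa10 ya57 za48) (ka xa7 ya58 za44) (ka xa7 ya58 za45) (ka xa7 ya58 za46) (ka xa7 ya58 za47) (ka xa7 ya58 za48) (ka xa8 ya8 za61) (ka xa8 ya8 za60) (ka xa4 ya14 za36) (ka xa15 ya53 za49) (ka xa8 ya8 za25)) (@D3.rec (fun _ => Pt) (ka xa8 ya8 za27) (ka xa8 ya8 za58) (ka xa8 ya8 za59) (ka xa9 ya4 za4) (ka xa9 ya43 za31) (ka xa8 ya44 za43) (ka xa9 ya43 za33) (ka xa5 ya1 za29) (ka xa9 ya43 za34) (ka xa5 ya1 za27) (ka xa8 ya8 za48)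 (ka xa8 ya8 za52) (ka xa8 ya9 za3) (ka xa8 ya9 za4) (ka xa11 ya9 za37) (ka xa10 ya41 za3) (ka xa4 ya14 za50) (ka xa4 ya14 za46) (ka xa15 ya15 za41) (ka xa15 ya54 za16) (ka xa15 ya22 za22) (ka xa15 ya54 za17) (ka xa4 ya14 za47) (ka xa15 ya54 za32) (ka xa15 ya54 za24) (ka xa15 ya22 za21) (ka xa15 ya54 za30) (ka xa4 ya14 za49) (ka xa8 ya25 za49) (ka xa8 ya25 za48) (ka xa15 ya54 za43) (ka xa15 ya54 za14) (ka xa8 ya9 za28) (ka xa8 ya9 za32) (ka xa8 ya27 za35) (ka xa8 ya27 za34) (ka xa9 ya44 za29) (ka xa9 ya44 za30) (ka xa11 ya8 za37) (ka xa11 ya8 za38) (ka xa15 ya55 za4) (ka xa5 ya25 za56) (ka xa5 ya25 za57) (ka xa5 ya25 za58) (ka xa5 ya25 za59) (ka xa5 ya25 za60) (ka xa15 ya55 za16) (ka xa5 ya26 za25) (ka xa5 ya26 za26) (ka xa5 ya26 za27) (ka xa5 ya26 za28) (ka xa5 ya26 za29) (ka xa15 ya55 za29) (ka xa8 ya29 za20) (ka xa8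 ya29 za21) (ka xa15 ya55 za37) (ka xa8 ya29 za23) (ka xa8 ya29 za24) (ka xa15 ya55 za44) (ka xa15 ya55 za49) (ka xa4 ya14 za61) (ka xa15 ya55 za52)) (@D3.rec (fun _ => Pt) (ka xa15 ya55 za43) (ka xa8 ya29 za30) (ka xa8 ya29 za31) (ka xa5 ya16 za13) (ka xa5 ya16 za11) (ka xa8 ya29 za33) (ka xa4 ya30 za49) (ka xa6 ya4 za57) (ka xa15 ya56 za8) (ka xa8 ya39 za27) (ka xa8 ya39 za29) (ka xa15 ya56 za12) (ka xa6 ya5 za49) (ka xa6 ya5 za50) (ka xa13 ya23 za33) (ka xa6 ya6 za19) (ka xa6 ya6 za20) (ka xa6 ya6 za21) (ka xa6 ya6 za23) (ka xa15 ya56 za21) (ka xa8 ya28 za53) (ka xa8 ya28 za54) (ka xa13 ya45 za54) (ka xa8 ya28 za56) (ka xa8 ya28 za57) (ka xa15 ya56 za30) (ka xa15 ya56 za35) (ka xa4 ya15 za15) (ka xa11 ya16 za7) (ka xa15 ya56 za29) (ka xa8 ya29 za1) (ka xa8 ya29 za2) (ka xa4 ya46 za57) (ka xa8 ya29 za5) (ka xa7 ya55 za31)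 (ka xa4 ya15 za39) (ka xa15 ya56 za51) (ka xa4 ya15 za44) (ka xa4 ya15 za45) (ka xa4 ya15 za47) (ka xa4 ya15 za49) (ka xa15 ya56 za60) (ka xa4 ya15 za60) (ka xa4 ya15 za61) (ka xa4 ya16 za0) (ka xa4 ya16 za2) (ka xa7 ya55 za44) (ka xa4 ya16 za3) (ka xa15 ya57 za11) (ka xa4 ya16 za6) (ka xa4 ya16 za7) (ka xa4 ya16 za9) (ka xa4 ya16 za11) (ka xa15 ya57 za20) (ka xa4 ya16 za15) (ka xa4 ya16 za16) (ka xa4 ya16 za17) (ka xa4 ya16 za20) (ka xa15 ya57 za31) (ka xa4 ya16 za23) (ka xa4 ya16 za24) (ka xa15 ya57 za36)) (@D3.rec (fun _ => Pt) (ka xa4 ya16 za27) (ka xa4 ya16 za28) (ka xa15 ya57 za42) (ka xa15 ya57 za47) (ka xa4 ya15 za33) (ka xa15 ya57 za52) (ka xa15 ya46 za60) (ka xa4 ya16 za33) (ka xa4 ya16 za34) (ka xa4 ya16 za36) (ka xa4 ya16 za38) (ka xa15 ya58 za4) (ka xa5 ya30 za20) (ka xa5 ya30 za16) (ka xa5 ya30 za14) (ka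 xa5 ya30 za15) (ka xa5 ya30 za17) (ka xa15 ya46 za46) (ka xa8 ya31 za59) (ka xa8 ya18 za25) (ka xa15 ya58 za19) (ka xa8 ya31 za18) (ka xa15 ya36 za52) (ka xa15 ya58 za25) (ka xa8 ya31 za17) (ka xa8 ya18 za21) (ka xa15 ya56 za59) (ka xa15 ya56 za58) (ka xa4 ya15 za43) (ka xa15 ya58 za38) (ka xa15 ya58 za39) (ka xa10 ya19 za16) (ka xa10 ya19 za11) (ka xa15 ya56 za54) (ka xa15 ya56 za55) (ka xa15 ya48 za48) (ka xa13 ya17 za41) (ka xa15 ya56 za56) (ka xa8 ya21 za10) (ka xa15 ya56 za57) (ka xa15 ya41 za17) (ka xa5 ya17 za60) (ka xa5 ya17 za59) (ka xa5 ya18 za0) (ka xa13 ya4 za60) (ka xa5 ya17 za58) (ka xa4 ya22 za41) (ka xa8 ya18 za3) (ka xa15 ya59 za2) (ka xa8 ya40 za54) (ka xa8 ya40 za55) (ka xa8 ya21 za34) (ka xa8 ya17 za59) (ka xa8 ya40 za56) (ka xa15 ya59 za9) (ka xa4 ya29 za11) (ka xa4 ya29 za12) (ka xa4 ya29 za14) (ka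 xa15 ya56 za50) (ka xa15 ya56 za49) (ka xa4 ya15 za59) (ka xa15 ya59 za17)) (@D3.rec (fun _ => Pt) (ka xa15 ya59 za18) (ka xa15 ya57 za1) (ka xa15 ya57 za2) (ka xa8 ya17 za31) (ka xa15 ya32 za45) (ka xa15 ya32 za44) (ka xa15 ya57 za3) (ka xa8 ya17 za22) (ka xa8 ya17 za25) (ka xa15 ya59 za35) (ka xa15 ya57 za8) (ka xa15 ya59 za39) (ka xa15 ya57 za19) (ka xa15 ya57 za18) (ka xa4 ya16 za5) (ka xa15 ya59 za45) (ka xa15 ya59 za46) (ka xa8 ya30 za24) (ka xa8 ya30 za21) (ka xa15 ya47 za4) (ka xa15 ya57 za14) (ka xa15 ya57 za15) (ka xa12 ya33 za51) (ka xa15 ya57 za16) (ka xa8 ya22 za26) (ka xa8 ya22 za27) (ka xa15 ya57 za17) (ka xa15 ya56 za4) (ka xa10 ya46 za28) (ka xa4 ya46 za22) (ka xa16 ya0 za9) (ka xa8 ya41 za27) (ka xa8 ya41 za28) (ka xa6 ya23 za33) (ka xa6 ya23 za28) (ka xa8 ya41 za29) (ka xa15 ya57 za10) (ka xa15 ya57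 za9) (ka xa4 ya16 za14) (ka xa16 ya0 za19) (ka xa9 ya28 za21) (ka xa15 ya57 za23) (ka xa15 ya57 za24) (ka xa15 ya57 za25) (ka xa15 ya57 za26) (ka xa15 ya57 za27) (ka xa15 ya57 za28) (ka xa10 ya50 za59) (ka xa8 ya22 za58) (ka xa5 ya17 za35) (ka xa5 ya17 za37) (ka xa15 ya57 za35) (ka xa15 ya57 za34) (ka xa4 ya16 za21) (ka xa16 ya0 za53) (ka xa16 ya0 za54) (ka xa16 ya0 za55) (ka xa4 ya50 za53) (ka xa4 ya51 za31) (ka xa8 ya30 za18) (ka xa15 ya47 za8) (ka xa9 ya24 za27)) (@D3.rec (fun _ => Pt) (ka xa9 ya24 za26) (ka xa15 ya57 za30) (ka xa15 ya57 za29) (ka xa4 ya16 za25) (ka xa16 ya1 za19) (ka xa16 ya1 za20) (ka xa16 ya1 za21) (ka xa10 ya19 za19) (ka xa15 ya57 za39) (ka xa15 ya57 za40) (ka xa15 ya57 za41) (ka xa16 ya1 za41) (ka xa4 ya53 za37) (ka xa16 ya1 za44) (ka xa15 ya47 za6) (ka xa4 ya16 za32) (ka xa15 ya47 za10) (ka xa15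 ya47 za9) (ka xa12 ya57 za35) (ka xa12 ya57 za34) (ka xa16 ya1 za56) (ka xa15 ya57 za58) (ka xa16 ya1 za59) (ka xa15 ya57 za60) (ka xa16 ya2 za2) (ka xa15 ya52 za26) (ka xa15 ya57 za61) (ka xa15 ya58 za0) (ka xa15 ya58 za1) (ka xa15 ya52 za22) (ka xa8 ya20 za3) (ka xa8 ya20 za2) (ka xa8 ya6 za49) (ka xa8 ya20 za9) (ka xa8 ya20 za10) (ka xa8 ya20 za11) (ka xa8 ya40 za13) (ka xa8 ya20 za5) (ka xa8 ya20 za6) (ka xa8 ya20 za7) (ka xa8 ya21 za11) (ka xa16 ya2 za35) (ka xa8 ya21 za13) (ka xa8 ya21 za14) (ka xa4 ya18 za31) (ka xa13 ya54 za17) (ka xa4 ya16 za55) (ka xa4 ya16 za56) (ka xa4 ya16 za57) (ka xa4 ya16 za58) (ka xa5 ya23 za58) (ka xa9 ya45 za58) (ka xa5 ya23 za60) (ka xa5 ya23 za55) (ka xa5 ya23 za53) (ka xa5 ya23 za54) (ka xa5 ya23 za56) (ka xa4 ya51 za11) (ka xa14 ya7 za57) (ka xa7 ya23 za21) (ka xa7 ya49 za47) (ka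 xa4 ya17 za28)) (@D3.rec (fun _ => Pt) (ka xa4 ya17 za27) (ka xa16 ya3 za3) (ka xa8 ya21 za23) (ka xa16 ya3 za7) (ka xa8 ya21 za20) (ka xa8 ya21 za25) (ka xa8 ya21 za24) (ka xa4 ya16 za53) (ka xa16 ya3 za11) (ka xa8 ya21 za29) (ka xa8 ya21 za28) (ka xa15 ya49 za49) (ka xa12 ya1 za2) (ka xa12 ya1 za1) (ka xa16 ya2 za44) (ka xa15 ya56 za45) (ka xa16 ya2 za45) (ka xa5 ya5 za28) (ka xa8 ya17 za6) (ka xa16 ya2 za46) (ka xa5 ya5 za27) (ka xa15 ya47 za27) (ka xa16 ya3 za41) (ka xa8 ya17 za19) (ka xa8 ya17 za20) (ka xa8 ya17 za21) (ka xa4 ya17 za1) (ka xa8 ya20 za33) (ka xa15 ya46 za47) (ka xa6 ya29 za15) (ka xa8 ya21 za43) (ka xa6 ya43 za43) (ka xa8 ya21 za41) (ka xa6 ya41 za16) (ka xa8 ya17 za44) (ka xa16 ya3 za61) (ka xa7 ya58 za38) (ka xa8 ya20 za13) (ka xa13 ya54 za22) (ka xa4 ya17 za25) (ka xa4 ya17 za26) (ka xa7 ya57 za51)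 (ka xa4 ya51 za21) (ka xa16 ya4 za12) (ka xa8 ya20 za36) (ka xa8 ya20 za37) (ka xa16 ya4 za20) (ka xa8 ya20 za31) (ka xa8 ya20 za32) (ka xa5 ya30 za54) (ka xa8 ya20 za34) (ka xa16 ya4 za32) (ka xa8 ya20 za45) (ka xa16 ya4 za37) (ka xa8 ya20 za42) (ka xa8 ya20 za47) (ka xa8 ya20 za46) (ka xa4 ya17 za24) (ka xa14 ya38 za46) (ka xa6 ya41 za17) (ka xa8 ya20 za52) (ka xa8 ya20 za51)) (@D3.rec (fun _ => Pt) (ka xa7 ya58 za36) (ka xa16 ya4 za6) (ka xa15 ya49 za53) (ka xa16 ya4 za7) (ka xa13 ya54 za23) (ka xa8 ya18 za2) (ka xa16 ya3 za0) (ka xa8 ya21 za8) (ka xa6 ya48 za20) (ka xa8 ya21 za7) (ka xa6 ya36 za33) (ka xa14 ya44 za34) (ka xa14 ya2 za19) (ka xa4 ya17 za42) (ka xa4 ya17 za43) (ka xa4 ya17 za44) (ka xa4 ya17 za45) (ka xa4 ya17 za46) (ka xa16 ya5 za14) (ka xa8 ya22 za38) (ka xa16 ya5 za19) (ka xa8 ya22 za40) (ka xa8 ya22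 za39) (ka xa4 ya17 za41) (ka xa14 ya2 za18) (ka xa12 ya39 za4) (ka xa4 ya53 za32) (ka xa12 ya26 za24) (ka xa16 ya5 za5) (ka xa16 ya5 za6) (ka xa16 ya5 za7) (ka xa16 ya5 za8) (ka xa15 ya57 za4) (ka xa16 ya5 za9) (ka xa16 ya5 za10) (ka xa4 ya18 za6) (ka xa8 ya18 za36) (ka xa16 ya5 za11) (ka xa11 ya54 za28) (ka xa10 ya47 za56) (ka xa8 ya22 za56) (ka xa8 ya22 za57) (ka xa6 ya48 za32) (ka xa8 ya22 za55) (ka xa6 ya37 za34) (ka xa6 ya20 za41) (ka xa8 ya18 za53) (ka xa8 ya18 za54) (ka xa8 ya22 za28) (ka xa14 ya11 za38) (ka xa5 ya35 za9) (ka xa16 ya6 za0) (ka xa4 ya18 za3) (ka xa4 ya18 za4) (ka xa4 ya18 za5) (ka xa4 ya18 za7) (ka xa16 ya6 za10) (ka xa16 ya6 za13) (ka xa8 ya22 za0) (ka xa8 ya22 za3) (ka xa8 ya22 za2) (ka xa4 ya18 za2)) (@D3.rec (fun _ => Pt) (ka xa16 ya6 za19) (ka xa7 ya58 za27) (ka xa16 ya6 za3) (ka xa16 ya6 za4)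 (ka xa16 ya5 za31) (ka xa16 ya6 za5) (ka xa16 ya6 za6) (ka xa8 ya19 za0) (ka xa16 ya6 za7) (ka xa10 ya47 za59) (ka xa16 ya5 za42) (ka xa8 ya22 za24) (ka xa6 ya48 za44) (ka xa8 ya22 za21) (ka xa8 ya22 za22) (ka xa6 ya26 za16) (ka xa8 ya19 za16) (ka xa12 ya27 za5) (ka xa6 ya23 za50) (ka xa6 ya23 za51) (ka xa8 ya23 za11) (ka xa6 ya23 za48) (ka xa13 ya0 za0) (ka xa8 ya23 za27) (ka xa8 ya23 za1) (ka xa14 ya2 za46) (ka xa8 ya22 za60) (ka xa8 ya22 za61) (ka xa4 ya18 za22) (ka xa8 ya23 za4) (ka xa8 ya23 za3) (ka xa9 ya43 za4) (ka xa8 ya23 za0) (ka xa4 ya18 za23) (ka xa4 ya51 za55) (ka xa13 ya2 za1) (ka xa12 ya59 za50) (ka xa15 ya45 za26) (ka xa16 ya6 za61) (ka xa15 ya43 za6) (ka xa15 ya43 za7) (ka xa6 ya20 za44) (ka xa12 ya11 za5) (ka xa6 ya23 za47) (ka xa12 ya27 za4) (ka xa15 ya59 za38) (ka xa15 ya47 za2) (ka xa15 ya43 za5) (ka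 xa4 ya43 za0) (ka xa16 ya2 za41) (ka xa15 ya42 za11) (ka xa16 ya2 za42) (ka xa6 ya41 za22) (ka xa8 ya23 za53) (ka xa10 ya50 za17) (ka xa8 ya23 za59) (ka xa11 ya19 za24) (ka xa8 ya25 za8) (ka xa8 ya25 za9) (ka xa4 ya52 za43) (ka xa12 ya20 za44) (ka xa4 ya18 za51)) (@D3.rec (fun _ => Pt) (ka xa4 ya18 za52) (ka xa4 ya18 za53) (ka xa4 ya18 za54) (ka xa10 ya50 za24) (ka xa16 ya7 za28) (ka xa8 ya25 za20) (ka xa8 ya25 za21) (ka xa8 ya24 za57) (ka xa8 ya25 za23) (ka xa16 ya7 za34) (ka xa8 ya25 za16) (ka xa8 ya25 za17) (ka xa4 ya19 za40) (ka xa4 ya19 za38) (ka xa11 ya18 za53) (ka xa8 ya25 za28) (ka xa8 ya25 za29) (ka xa8 ya25 za26) (ka xa8 ya25 za31) (ka xa12 ya24 za47) (ka xa5 ya43 za30) (ka xa8 ya25 za34) (ka xa15 ya43 za46) (ka xa9 ya20 za35) (ka xa12 ya23 za60) (ka xa16 ya7 za19) (ka xa15 ya42 za51) (ka xa16 ya7 za20) (ka xa5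 ya9 za44) (ka xa8 ya42 za37) (ka xa16 ya7 za21) (ka xa5 ya9 za43) (ka xa16 ya7 za22) (ka xa7 ya56 za7) (ka xa9 ya35 za51) (ka xa8 ya43 za21) (ka xa8 ya25 za44) (ka xa8 ya42 za45) (ka xa4 ya51 za17) (ka xa4 ya19 za2) (ka xa15 ya34 za50) (ka xa16 ya8 za6) (ka xa8 ya6 za47) (ka xa8 ya6 za45) (ka xa8 ya7 za23) (ka xa8 ya7 za24) (ka xa8 ya7 za25) (ka xa8 ya7 za29) (ka xa8 ya7 za28) (ka xa4 ya19 za11) (ka xa16 ya8 za16) (ka xa8 ya7 za60) (ka xa8 ya7 za61) (ka xa5 ya23 za35) (ka xa8 ya8 za1) (ka xa8 ya8 za2) (ka xa8 ya8 za4) (ka xa8 ya8 za5) (ka xa8 ya8 za6) (ka xa8 ya8 za7) (ka xa16 ya8 za32) (ka xa8 ya8 za9)) (@D3.rec (fun _ => Pt) (ka xa12 ya7 za21) (ka xa5 ya37 za9) (ka xa5 ya37 za10) (ka xa8 ya23 za60) (ka xa16 ya8 za41) (ka xa8 ya24 za0) (ka xa8 ya24 za1) (ka xa12 ya20 za47) (ka xa4 ya19 za36) (ka xa4 ya19 za37) (ka xa8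 ya43 za9) (ka xa16 ya8 za50) (ka xa8 ya24 za19) (ka xa8 ya24 za20) (ka xa8 ya18 za11) (ka xa16 ya8 za59) (ka xa8 ya24 za11) (ka xa8 ya24 za12) (ka xa8 ya24 za14) (ka xa8 ya24 za15) (ka xa12 ya35 za39) (ka xa8 ya24 za27) (ka xa8 ya24 za28) (ka xa16 ya9 za13) (ka xa8 ya24 za24) (ka xa8 ya24 za25) (ka xa12 ya18 za30) (ka xa16 ya8 za45) (ka xa9 ya20 za26) (ka xa16 ya8 za46) (ka xa8 ya43 za13) (ka xa15 ya36 za36) (ka xa15 ya1 za24) (ka xa15 ya1 za25) (ka xa15 ya1 za23) (ka xa15 ya1 za26) (ka xa15 ya1 za22) (ka xa4 ya51 za30) (ka xa4 ya19 za45) (ka xa16 ya9 za40) (ka xa5 ya35 za28) (ka xa5 ya37 za50) (ka xa5 ya37 za36) (ka xa16 ya9 za46) (ka xa8 ya14 za8) (ka xa5 ya35 za59) (ka xa8 ya14 za9) (ka xa8 ya14 za10) (ka xa14 ya50 za57) (ka xa8 ya14 za21) (ka xa8 ya14 za22) (ka xa8 ya14 za23) (ka xa8 ya14 za24) (ka xa16 ya9 za60) (ka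 xa8 ya38 za40) (ka xa5 ya6 za46) (ka xa16 ya10 za3) (ka xa16 ya10 za8) (ka xa4 ya19 za60) (ka xa16 ya10 za11) (ka xa16 ya10 za2) (ka xa8 ya38 za46)) (@D3.rec (fun _ => Pt) (ka xa8 ya38 za47) (ka xa4 ya56 za31) (ka xa7 ya46 za13) (ka xa5 ya5 za0) (ka xa5 ya5 za1) (ka xa5 ya5 za2) (ka xa5 ya5 za3) (ka xa11 ya57 za39) (ka xa5 ya5 za16) (ka xa5 ya6 za47) (ka xa15 ya7 za57) (ka xa9 ya45 za10) (ka xa8 ya38 za54) (ka xa4 ya20 za14) (ka xa10 ya5 za25) (ka xa4 ya20 za11) (ka xa16 ya10 za32) (ka xa4 ya20 za13) (ka xa16 ya10 za35) (ka xa12 ya22 za26) (ka xa15 ya50 za18) (ka xa16 ya10 za36) (ka xa16 ya10 za30) (ka xa8 ya5 za13) (ka xa8 ya39 za3) (ka xa16 ya10 za54) (ka xa8 ya39 za6) (ka xa8 ya39 za7) (ka xa8 ya39 za8) (ka xa8 ya39 za9) (ka xa8 ya39 za10) (ka xa8 ya11 za24) (ka xa9 ya41 za11) (ka xa16 ya11 za11) (ka xa11 ya52 za53)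 (ka xa15 ya27 za45) (ka xa16 ya11 za16) (ka xa6 ya7 za13) (ka xa6 ya7 za14) (ka xa16 ya11 za22) (ka xa8 ya37 za54) (ka xa16 ya11 za27) (ka xa16 ya11 za31) (ka xa4 ya20 za26) (ka xa16 ya11 za36) (ka xa16 ya11 za26) (ka xa8 ya37 za61) (ka xa8 ya38 za0) (ka xa14 ya39 za18) (ka xa5 ya12 za46) (ka xa5 ya12 za47) (ka xa5 ya12 za48) (ka xa5 ya12 za50) (ka xa5 ya13 za1) (ka xa8 ya38 za12) (ka xa8 ya2 za17) (ka xa14 ya56 za30) (ka xa8 ya10 za0) (ka xa11 ya35 za22) (ka xa4 ya20 za39) (ka xa16 ya11 za57) (ka xa16 ya11 za58)) (@D3.rec (fun _ => Pt) (ka xa16 ya11 za59) (ka xa16 ya11 za60) (ka xa13 ya47 za32) (ka xa8 ya38 za24) (ka xa8 ya3 za45) (ka xa16 ya12 za17) (ka xa8 ya38 za26) (ka xa8 ya38 za27) (ka xa8 ya38 za28) (ka xa8 ya38 za29) (ka xa8 ya38 za30) (ka xa16 ya12 za27) (ka xa8 ya39 za33) (ka xa8 ya39 za34) (ka xa8 ya39 za35)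 (ka xa8 ya7 za40) (ka xa8 ya7 za41) (ka xa8 ya7 za43) (ka xa16 ya12 za32) (ka xa16 ya12 za37) (ka xa4 ya20 za49) (ka xa16 ya12 za41) (ka xa16 ya12 za31) (ka xa8 ya39 za41) (ka xa8 ya39 za42) (ka xa8 ya39 za44) (ka xa16 ya12 za54) (ka xa8 ya29 za9) (ka xa8 ya13 za37) (ka xa8 ya29 za10) (ka xa5 ya20 za42) (ka xa16 ya12 za61) (ka xa5 ya35 za50) (ka xa8 ya39 za12) (ka xa8 ya39 za13) (ka xa8 ya39 za14) (ka xa16 ya13 za5) (ka xa16 ya13 za10) (ka xa4 ya20 za58) (ka xa16 ya13 za13) (ka xa16 ya13 za4) (ka xa8 ya39 za23) (ka xa8 ya39 za24) (ka xa5 ya25 za46) (ka xa8 ya39 za25) (ka xa16 ya13 za27) (ka xa8 ya15 za45) (ka xa8 ya11 za25) (ka xa8 ya15 za46) (ka xa11 ya17 za39) (ka xa11 ya17 za37) (ka xa4 ya54 za44) (ka xa4 ya54 za45) (ka xa12 ya19 za30) (ka xa15 ya24 za9) (ka xa15 ya33 za16) (ka xa15 ya33 za17) (ka xa5 ya15 za53) (ka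 xa15 ya33 za18) (ka xa16 ya13 za45) (ka xa15 ya24 za0) (ka xa15 ya24 za1)) (@D3.rec (fun _ => Pt) (ka xa15 ya33 za45) (ka xa10 ya37 za42) (ka xa15 ya46 za22) (ka xa4 ya53 za20) (ka xa4 ya53 za21) (ka xa16 ya13 za58) (ka xa16 ya14 za1) (ka xa4 ya21 za14) (ka xa16 ya14 za6) (ka xa16 ya13 za57) (ka xa4 ya28 za39) (ka xa15 ya48 za33) (ka xa9 ya37 za0) (ka xa8 ya32 za36) (ka xa16 ya14 za20) (ka xa4 ya51 za61) (ka xa9 ya34 za52) (ka xa9 ya34 za53) (ka xa5 ya23 za26) (ka xa9 ya34 za54) (ka xa16 ya14 za28) (ka xa4 ya51 za53) (ka xa4 ya51 za54) (ka xa14 ya56 za58) (ka xa14 ya56 za59) (ka xa16 ya14 za34) (ka xa9 ya37 za19) (ka xa4 ya21 za25) (ka xa16 ya14 za40) (ka xa16 ya14 za33) (ka xa9 ya34 za32) (ka xa14 ya57 za2) (ka xa9 ya35 za7) (ka xa16 ya14 za53) (ka xa9 ya35 za0) (ka xa16 ya14 za57) (ka xa8 ya10 za28) (ka xa8 ya24 za59)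 (ka xa14 ya57 za18) (ka xa14 ya57 za17) (ka xa4 ya21 za32) (ka xa16 ya15 za6) (ka xa16 ya15 za7) (ka xa9 ya38 za27) (ka xa8 ya25 za3) (ka xa10 ya10 za48) (ka xa14 ya57 za12) (ka xa14 ya57 za14) (ka xa10 ya19 za54) (ka xa14 ya57 za15) (ka xa10 ya19 za53) (ka xa14 ya57 za16) (ka xa5 ya23 za37) (ka xa16 ya15 za26) (ka xa8 ya30 za49) (ka xa8 ya30 za50) (ka xa8 ya30 za53) (ka xa14 ya57 za9) (ka xa14 ya57 za8) (ka xa4 ya21 za41) (ka xa16 ya15 za39) (ka xa16 ya15 za40)) (@D3.rec (fun _ => Pt) (ka xa9 ya38 za29) (ka xa8 ya25 za45) (ka xa14 ya57 za21) (ka xa14 ya57 za22) (ka xa9 ya44 za55) (ka xa8 ya6 za54) (ka xa10 ya37 za34) (ka xa9 ya34 za26) (ka xa9 ya38 za9) (ka xa9 ya38 za8) (ka xa4 ya21 za47) (ka xa16 ya16 za9) (ka xa16 ya16 za10) (ka xa9 ya38 za5) (ka xa9 ya37 za46) (ka xa9 ya37 za48) (ka xa9 ya38 za6) (ka xa9 ya38 za7)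 (ka xa14 ya57 za26) (ka xa14 ya57 za27) (ka xa14 ya57 za28) (ka xa10 ya42 za51) (ka xa14 ya57 za29) (ka xa5 ya23 za32) (ka xa10 ya0 za58) (ka xa5 ya23 za30) (ka xa12 ya26 za51) (ka xa8 ya31 za31) (ka xa8 ya31 za32) (ka xa8 ya31 za35) (ka xa9 ya38 za0) (ka xa9 ya37 za61) (ka xa4 ya21 za56) (ka xa16 ya16 za46) (ka xa12 ya26 za50) (ka xa9 ya38 za13) (ka xa9 ya37 za58) (ka xa9 ya37 za60) (ka xa9 ya38 za14) (ka xa9 ya38 za15) (ka xa14 ya57 za30) (ka xa10 ya29 za17) (ka xa14 ya57 za31) (ka xa14 ya57 za33) (ka xa10 ya29 za18) (ka xa14 ya57 za41) (ka xa14 ya57 za40) (ka xa4 ya22 za0) (ka xa16 ya17 za12) (ka xa12 ya50 za13) (ka xa9 ya45 za6) (ka xa14 ya57 za38) (ka xa14 ya57 za39) (ka xa14 ya57 za35) (ka xa14 ya57 za34) (ka xa4 ya22 za3) (ka xa16 ya17 za32) (ka xa16 ya17 za33) (ka xa16 ya17 za34) (ka xa14 ya57 za45) (ka xa14 ya57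 za46) (ka xa14 ya57 za47)) (@D3.rec (fun _ => Pt) (ka xa4 ya22 za10) (ka xa4 ya22 za6) (ka xa4 ya53 za38) (ka xa16 ya17 za51) (ka xa16 ya17 za52) (ka xa16 ya17 za53) (ka xa4 ya22 za7) (ka xa16 ya1 za45) (ka xa16 ya17 za58) (ka xa16 ya18 za0) (ka xa12 ya26 za37) (ka xa4 ya22 za9) (ka xa14 ya59 za9) (ka xa14 ya59 za8) (ka xa16 ya18 za12) (ka xa16 ya18 za13) (ka xa16 ya17 za49) (ka xa16 ya18 za26) (ka xa9 ya45 za0) (ka xa16 ya18 za30) (ka xa9 ya44 za54) (ka xa14 ya58 za0) (ka xa14 ya58 za1) (ka xa14 ya58 za2) (ka xa9 ya36 za31) (ka xa9 ya36 za27) (ka xa14 ya58 za3) (ka xa9 ya38 za33) (ka xa14 ya58 za5) (ka xa14 ya58 za6) (ka xa9 ya38 za34) (ka xa14 ya58 za7) (ka xa14 ya58 za8) (ka xa5 ya29 za34) (ka xa16 ya18 za61) (ka xa15 ya15 za2) (ka xa15 ya15 za3) (ka xa8 ya36 za29) (ka xa15 ya15 za4) (ka xa9 ya44 za50) (ka xa9 ya44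 za49) (ka xa4 ya22 za22) (ka xa16 ya19 za11) (ka xa14 ya58 za18) (ka xa14 ya58 za19) (ka xa8 ya36 za37) (ka xa5 ya1 za13) (ka xa5 ya37 za6) (ka xa5 ya37 za5) (ka xa6 ya25 za14) (ka xa8 ya43 za61) (ka xa8 ya43 za43) (ka xa12 ya8 za42) (ka xa9 ya14 za58) (ka xa4 ya22 za32) (ka xa4 ya22 za33) (ka xa5 ya42 za41) (ka xa5 ya42 za40) (ka xa16 ya19 za26) (ka xa16 ya19 za27) (ka xa11 ya8 za1) (ka xa11 ya38 za8)) (@D3.rec (fun _ => Pt) (ka xa16 ya19 za28) (ka xa14 ya58 za24) (ka xa14 ya58 za25) (ka xa14 ya58 za26) (ka xa14 ya58 za27) (ka xa6 ya15 za10) (ka xa6 ya15 za13) (ka xa14 ya58 za28) (ka xa16 ya19 za54) (ka xa8 ya37 za10) (ka xa16 ya19 za56) (ka xa10 ya38 za31) (ka xa10 ya38 za32) (ka xa8 ya37 za30) (ka xa15 ya49 za18) (ka xa14 ya58 za15) (ka xa14 ya58 za14) (ka xa4 ya22 za42) (ka xa16 ya20 za4) (ka xa9 ya44 za56) (ka xa9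 ya44 za57) (ka xa8 ya36 za35) (ka xa8 ya43 za55) (ka xa6 ya24 za36) (ka xa8 ya43 za54) (ka xa10 ya1 za17) (ka xa4 ya22 za49) (ka xa13 ya30 za6) (ka xa13 ya30 za7) (ka xa16 ya20 za16) (ka xa16 ya20 za17) (ka xa9 ya45 za1) (ka xa9 ya45 za2) (ka xa9 ya45 za3) (ka xa4 ya37 za28) (ka xa4 ya22 za54) (ka xa5 ya42 za43) (ka xa5 ya42 za42) (ka xa16 ya20 za35) (ka xa10 ya3 za14) (ka xa4 ya32 za53) (ka xa4 ya32 za56) (ka xa8 ya45 za28) (ka xa8 ya42 za51) (ka xa8 ya10 za29) (ka xa14 ya58 za30) (ka xa14 ya58 za31) (ka xa12 ya6 za38) (ka xa14 ya58 za32) (ka xa8 ya1 za7) (ka xa11 ya23 za36) (ka xa5 ya40 za60) (ka xa11 ya13 za26) (ka xa12 ya5 za20) (ka xa8 ya43 za24) (ka xa8 ya43 za22) (ka xa13 ya30 za8) (ka xa9 ya45 za7) (ka xa9 ya45 za8) (ka xa9 ya45 za9) (ka xa5 ya42 za61) (ka xa8 ya42 za50)) (@D3.rec (fun _ => Pt) (ka xa14 ya58 za35)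 (ka xa14 ya58 za36) (ka xa11 ya23 za34) (ka xa14 ya58 za37) (ka xa11 ya23 za33) (ka xa13 ya30 za37) (ka xa13 ya30 za58) (ka xa13 ya30 za38) (ka xa8 ya48 za28) (ka xa13 ya30 za39) (ka xa10 ya39 za13) (ka xa13 ya30 za40) (ka xa14 ya58 za38) (ka xa14 ya58 za39) (ka xa14 ya58 za40) (ka xa4 ya23 za32) (ka xa4 ya23 za21) (ka xa13 ya30 za36) (ka xa15 ya7 za7) (ka xa4 ya31 za57) (ka xa4 ya57 za5) (ka xa4 ya23 za24) (ka xa4 ya23 za25) (ka xa10 ya39 za38) (ka xa4 ya23 za26) (ka xa11 ya23 za11) (ka xa13 ya27 za51) (ka xa10 ya39 za31) (ka xa10 ya18 za11) (ka xa16 ya21 za42) (ka xa5 ya6 za43) (ka xa4 ya23 za28) (ka xa4 ya23 za29) (ka xa4 ya23 za30) (ka xa4 ya23 za31) (ka xa16 ya21 za55) (ka xa10 ya28 za40) (ka xa10 ya28 za39) (ka xa16 ya21 za60) (ka xa10 ya39 za34) (ka xa16 ya21 za50) (ka xa16 ya21 za51) (ka xa16 ya21 za52) (ka xa8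 ya28 za5) (ka xa10 ya39 za28) (ka xa16 ya21 za54) (ka xa16 ya21 za35) (ka xa8 ya52 za28) (ka xa10 ya29 za10) (ka xa16 ya21 za36) (ka xa4 ya26 za26) (ka xa5 ya57 za0) (ka xa4 ya23 za34) (ka xa16 ya22 za24) (ka xa16 ya22 za25) (ka xa10 ya28 za48) (ka xa14 ya59 za0) (ka xa14 ya59 za1) (ka xa14 ya59 za2) (ka xa4 ya23 za36) (ka xa16 ya22 za39) (ka xa16 ya22 za40)) (@D3.rec (fun _ => Pt) (ka xa14 ya59 za5) (ka xa14 ya59 za6) (ka xa14 ya59 za7) (ka xa14 ya57 za59) (ka xa14 ya57 za58) (ka xa4 ya23 za38) (ka xa10 ya9 za30) (ka xa14 ya59 za12) (ka xa14 ya59 za13) (ka xa14 ya59 za14) (ka xa14 ya59 za15) (ka xa16 ya23 za5) (ka xa14 ya59 za17) (ka xa14 ya59 za18) (ka xa14 ya59 za19) (ka xa12 ya45 za49) (ka xa14 ya59 za21) (ka xa11 ya23 za16) (ka xa10 ya28 za44) (ka xa14 ya59 za22) (ka xa14 ya59 za23) (ka xa14 ya59 za24) (ka xa12 ya5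 za19) (ka xa8 ya51 za51) (ka xa5 ya46 za22) (ka xa6 ya14 za9) (ka xa4 ya23 za48) (ka xa16 ya23 za32) (ka xa8 ya43 za42) (ka xa6 ya13 za57) (ka xa6 ya13 za58) (ka xa6 ya13 za59) (ka xa6 ya13 za60) (ka xa6 ya14 za1) (ka xa6 ya24 za57) (ka xa6 ya14 za12) (ka xa6 ya14 za13) (ka xa6 ya14 za14) (ka xa5 ya37 za12) (ka xa6 ya24 za29) (ka xa4 ya23 za61) (ka xa13 ya38 za29) (ka xa5 ya56 za4) (ka xa5 ya56 za5) (ka xa5 ya56 za1) (ka xa5 ya56 za2) (ka xa5 ya55 za39) (ka xa5 ya55 za32) (ka xa6 ya2 za21) (ka xa13 ya38 za54) (ka xa13 ya38 za53) (ka xa10 ya22 za11) (ka xa13 ya38 za55) (ka xa13 ya38 za28) (ka xa15 ya8 za7) (ka xa14 ya59 za29) (ka xa14 ya59 za30) (ka xa13 ya38 za23) (ka xa14 ya59 za32) (ka xa14 ya59 za33) (ka xa7 ya5 za39) (ka xa7 ya5 za40)) (@D3.rec (fun _ => Pt) (ka xa7 ya5 za41) (ka xa6 ya15 za12) (ka xa6 ya24 za24) (ka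 xa6 ya24 za25) (ka xa8 ya47 za1) (ka xa8 ya47 za2) (ka xa14 ya59 za25) (ka xa4 ya46 za28) (ka xa8 ya47 za0) (ka xa5 ya46 za45) (ka xa13 ya41 za0) (ka xa4 ya24 za21) (ka xa4 ya24 za22) (ka xa4 ya24 za23) (ka xa14 ya59 za27) (ka xa14 ya59 za28) (ka xa4 ya36 za51) (ka xa4 ya46 za52) (ka xa14 ya59 za26) (ka xa11 ya41 za19) (ka xa16 ya24 za29) (ka xa16 ya24 za30) (ka xa16 ya24 za31) (ka xa16 ya24 za32) (ka xa13 ya39 za9) (ka xa5 ya55 za61) (ka xa16 ya24 za33) (ka xa6 ya24 za53) (ka xa6 ya24 za48) (ka xa6 ya24 za49) (ka xa12 ya32 za19) (ka xa6 ya24 za51) (ka xa6 ya24 za52) (ka xa6 ya24 za50) (ka xa6 ya24 za54) (ka xa6 ya24 za55) (ka xa6 ya13 za56) (ka xa6 ya13 za33) (ka xa6 ya25 za2) (ka xa4 ya24 za50) (ka xa4 ya27 za0) (ka xa5 ya56 za6) (ka xa4 ya24 za36) (ka xa4 ya24 za37) (ka xa5 ya56 za45) (ka xa16 ya25 za23) (ka xa16 ya25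 za24) (ka xa16 ya25 za25) (ka xa16 ya25 za26) (ka xa10 ya58 za61) (ka xa14 ya59 za40) (ka xa12 ya22 za37) (ka xa16 ya25 za45) (ka xa14 ya59 za41) (ka xa14 ya59 za42) (ka xa4 ya27 za4) (ka xa14 ya59 za34) (ka xa4 ya24 za48) (ka xa4 ya24 za49) (ka xa4 ya24 za51) (ka xa4 ya24 za52) (ka xa4 ya24 za53)) (@D3.rec (fun _ => Pt) (ka xa8 ya46 za8) (ka xa8 ya46 za4) (ka xa8 ya46 za5) (ka xa5 ya59 za49) (ka xa14 ya59 za36) (ka xa16 ya25 za58) (ka xa13 ya26 za57) (ka xa16 ya25 za59) (ka xa16 ya25 za60) (ka xa16 ya25 za61) (ka xa16 ya25 za19) (ka xa16 ya26 za0) (ka xa16 ya26 za1) (ka xa7 ya39 za18) (ka xa16 ya26 za2) (ka xa16 ya26 za3) (ka xa16 ya26 za40) (ka xa9 ya46 za56) (ka xa9 ya46 za57) (ka xa10 ya52 za43) (ka xa9 ya46 za59) (ka xa9 ya46 za60) (ka xa9 ya46 za61) (ka xa9 ya47 za0) (ka xa9 ya47 za1) (ka xa9 ya47 za2) (ka xa9 ya47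 za5) (ka xa9 ya47 za6) (ka xa15 ya7 za33) (ka xa9 ya47 za7) (ka xa9 ya47 za8) (ka xa9 ya51 za23) (ka xa8 ya48 za44) (ka xa9 ya47 za10) (ka xa12 ya8 za36) (ka xa8 ya48 za45) (ka xa9 ya47 za11) (ka xa9 ya47 za12) (ka xa9 ya47 za13) (ka xa16 ya27 za27) (ka xa8 ya47 za41) (ka xa8 ya47 za40) (ka xa9 ya47 za15) (ka xa4 ya26 za5) (ka xa5 ya55 za41) (ka xa9 ya47 za16) (ka xa9 ya47 za17) (ka xa11 ya13 za25) (ka xa5 ya53 za17) (ka xa5 ya53 za18) (ka xa11 ya21 za2) (ka xa14 ya59 za48) (ka xa14 ya59 za49) (ka xa5 ya38 za14) (ka xa14 ya59 za50) (ka xa14 ya59 za51) (ka xa14 ya59 za52) (ka xa12 ya7 za59) (ka xa14 ya59 za53) (ka xa14 ya59 za54) (ka xa16 ya28 za5) (ka xa10 ya16 za18)) (@D3.rec (fun _ => Pt) (ka xa8 ya48 za1) (ka xa8 ya48 za0) (ka xa12 ya6 za18) (ka xa12 ya6 za19) (ka xa11 ya24 za11) (ka xa15 ya7 za53) (ka xa13 ya31 za6)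 (ka xa9 ya49 za58) (ka xa12 ya6 za17) (ka xa13 ya42 za5) (ka xa4 ya25 za24) (ka xa4 ya25 za25) (ka xa4 ya25 za26) (ka xa4 ya25 za27) (ka xa12 ya6 za9) (ka xa14 ya59 za44) (ka xa11 ya27 za29) (ka xa11 ya43 za47) (ka xa14 ya59 za43) (ka xa11 ya37 za42) (ka xa12 ya1 za57) (ka xa16 ya28 za17) (ka xa13 ya27 za50) (ka xa16 ya28 za18) (ka xa13 ya31 za26) (ka xa16 ya28 za19) (ka xa16 ya28 za20) (ka xa15 ya7 za59) (ka xa8 ya44 za8) (ka xa16 ya28 za21) (ka xa13 ya31 za25) (ka xa11 ya13 za9) (ka xa11 ya59 za29) (ka xa11 ya59 za30) (ka xa11 ya59 za32) (ka xa11 ya59 za33) (ka xa11 ya59 za34) (ka xa11 ya59 za35) (ka xa11 ya59 za36) (ka xa11 ya59 za37) (ka xa16 ya28 za60) (ka xa11 ya59 za38) (ka xa11 ya50 za31) (ka xa11 ya8 za25) (ka xa8 ya47 za32) (ka xa8 ya47 za35) (ka xa10 ya51 za29) (ka xa8 ya48 za48) (ka xa8 ya48 za47) (ka xa11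 ya59 za40) (ka xa4 ya26 za21) (ka xa4 ya26 za25) (ka xa4 ya26 za27) (ka xa5 ya55 za30) (ka xa4 ya25 za52) (ka xa4 ya25 za53) (ka xa4 ya25 za56) (ka xa11 ya27 za25) (ka xa11 ya27 za27) (ka xa15 ya7 za54) (ka xa13 ya46 za29) (ka xa15 ya7 za55)) (@D3.rec (fun _ => Pt) (ka xa13 ya46 za27) (ka xa4 ya58 za23) (ka xa4 ya58 za24) (ka xa4 ya58 za26) (ka xa4 ya58 za27) (ka xa4 ya39 za36) (ka xa4 ya39 za37) (ka xa9 ya9 za43) (ka xa9 ya9 za45) (ka xa5 ya38 za15) (ka xa11 ya7 za51) (ka xa4 ya26 za2) (ka xa5 ya6 za42) (ka xa5 ya5 za14) (ka xa11 ya7 za52) (ka xa10 ya16 za14) (ka xa4 ya26 za4) (ka xa11 ya37 za31) (ka xa12 ya23 za9) (ka xa15 ya4 za47) (ka xa11 ya25 za27) (ka xa4 ya34 za58) (ka xa12 ya5 za34) (ka xa5 ya50 za58) (ka xa5 ya40 za13) (ka xa6 ya39 za14) (ka xa5 ya38 za20) (ka xa11 ya59 za31) (ka xa16 ya29 za36) (ka xa5 ya38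 za17) (ka xa5 ya53 za15) (ka xa11 ya8 za24) (ka xa16 ya29 za46) (ka xa16 ya27 za34) (ka xa5 ya55 za31) (ka xa4 ya26 za11) (ka xa4 ya26 za12) (ka xa4 ya26 za15) (ka xa4 ya26 za17) (ka xa13 ya7 za13) (ka xa4 ya26 za20) (ka xa4 ya26 za22) (ka xa4 ya26 za24) (ka xa4 ya26 za10) (ka xa13 ya46 za26) (ka xa9 ya9 za32) (ka xa9 ya9 za35) (ka xa11 ya11 za38) (ka xa11 ya11 za45) (ka xa16 ya30 za17) (ka xa12 ya7 za61) (ka xa4 ya26 za13) (ka xa11 ya37 za14) (ka xa16 ya30 za19) (ka xa9 ya5 za45) (ka xa5 ya52 za17) (ka xa8 ya0 za54) (ka xa16 ya30 za18) (ka xa9 ya19 za35) (ka xa9 ya51 za2) (ka xa7 ya27 za11) (ka xa12 ya31 za6)) (@D3.rec (fun _ => Pt) (ka xa11 ya43 za32) (ka xa5 ya49 za24) (ka xa4 ya26 za18) (ka xa8 ya0 za39) (ka xa6 ya39 za17) (ka xa16 ya30 za20) (ka xa11 ya16 za39) (ka xa16 ya30 za21) (ka xa16 ya30 za22) (ka xa16 ya29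 za11) (ka xa11 ya44 za29) (ka xa16 ya30 za24) (ka xa16 ya30 za25) (ka xa16 ya30 za61) (ka xa11 ya11 za48) (ka xa16 ya29 za15) (ka xa16 ya29 za12) (ka xa16 ya29 za13) (ka xa16 ya29 za14) (ka xa15 ya7 za61) (ka xa16 ya22 za20) (ka xa10 ya17 za28) (ka xa16 ya22 za22) (ka xa16 ya22 za21) (ka xa16 ya29 za16) (ka xa4 ya26 za29) (ka xa4 ya26 za30) (ka xa11 ya37 za10) (ka xa12 ya6 za20) (ka xa9 ya25 za33) (ka xa16 ya31 za25) (ka xa16 ya31 za26) (ka xa16 ya31 za27) (ka xa15 ya0 za4) (ka xa13 ya47 za16) (ka xa9 ya19 za33) (ka xa9 ya19 za34) (ka xa15 ya0 za6) (ka xa9 ya19 za36) (ka xa9 ya19 za37) (ka xa9 ya19 za38) (ka xa9 ya19 za39) (ka xa7 ya27 za46) (ka xa9 ya19 za40) (ka xa7 ya57 za18) (ka xa6 ya31 za55) (ka xa4 ya26 za38) (ka xa16 ya31 za59) (ka xa16 ya31 za60) (ka xa16 ya31 za61) (ka xa11 ya14 za11) (ka xa16 ya32 za10) (ka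 xa8 ya51 za28) (ka xa8 ya51 za29) (ka xa16 ya32 za19) (ka xa8 ya51 za31) (ka xa8 ya51 za32) (ka xa8 ya51 za33) (ka xa8 ya51 za34) (ka xa8 ya51 za35) (ka xa8 ya51 za26) (ka xa11 ya34 za3)) (@D3.rec (fun _ => Pt) (ka xa4 ya26 za43) (ka xa16 ya32 za38) (ka xa16 ya32 za39) (ka xa16 ya32 za40) (ka xa16 ya32 za53) (ka xa12 ya5 za55) (ka xa12 ya5 za56) (ka xa15 ya0 za24) (ka xa15 ya0 za25) (ka xa15 ya0 za26) (ka xa15 ya0 za27) (ka xa15 ya0 za28) (ka xa15 ya0 za29) (ka xa15 ya0 za20) (ka xa4 ya26 za47) (ka xa12 ya45 za35) (ka xa16 ya33 za12) (ka xa16 ya33 za13) (ka xa11 ya37 za23) (ka xa12 ya5 za58) (ka xa12 ya5 za59) (ka xa15 ya0 za33) (ka xa11 ya6 za14) (ka xa12 ya7 za60) (ka xa15 ya0 za34) (ka xa12 ya7 za58) (ka xa8 ya50 za60) (ka xa11 ya33 za58) (ka xa8 ya50 za52) (ka xa8 ya50 za53) (ka xa16 ya28 za13) (ka xa8 ya50 za55) (ka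 xa8 ya50 za56) (ka xa8 ya50 za57) (ka xa8 ya50 za58) (ka xa8 ya50 za59) (ka xa6 ya15 za2) (ka xa12 ya5 za6) (ka xa12 ya5 za7) (ka xa12 ya5 za8) (ka xa7 ya14 za35) (ka xa12 ya5 za9) (ka xa12 ya5 za10) (ka xa11 ya33 za61) (ka xa12 ya5 za12) (ka xa12 ya5 za13) (ka xa12 ya5 za14) (ka xa12 ya5 za15) (ka xa12 ya5 za16) (ka xa12 ya5 za17) (ka xa16 ya34 za23) (ka xa8 ya45 za23) (ka xa14 ya52 za46) (ka xa12 ya5 za23) (ka xa12 ya5 za24) (ka xa6 ya4 za9) (ka xa11 ya8 za26) (ka xa16 ya25 za54) (ka xa9 ya51 za24) (ka xa9 ya51 za25) (ka xa5 ya21 za19) (ka xa5 ya15 za31)) (@D3.rec (fun _ => Pt) (ka xa5 ya15 za32) (ka xa5 ya21 za22) (ka xa10 ya28 za12) (ka xa5 ya21 za24) (ka xa5 ya21 za25) (ka xa16 ya34 za49) (ka xa5 ya5 za25) (ka xa5 ya5 za26) (ka xa5 ya5 za29) (ka xa16 ya34 za58) (ka xa5 ya16 za18) (ka xa5 ya16 za19) (ka xa5 ya16 za20)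 (ka xa5 ya16 za21) (ka xa5 ya16 za22) (ka xa16 ya35 za7) (ka xa8 ya52 za39) (ka xa8 ya52 za40) (ka xa16 ya35 za12) (ka xa8 ya52 za42) (ka xa8 ya52 za43) (ka xa16 ya35 za19) (ka xa16 ya35 za22) (ka xa4 ya27 za18) (ka xa11 ya23 za5) (ka xa16 ya35 za18) (ka xa8 ya52 za49) (ka xa8 ya52 za52) (ka xa8 ya44 za47) (ka xa16 ya35 za32) (ka xa5 ya13 za12) (ka xa5 ya13 za14) (ka xa16 ya35 za35) (ka xa5 ya18 za31) (ka xa5 ya18 za32) (ka xa5 ya18 za33) (ka xa5 ya18 za34) (ka xa5 ya18 za35) (ka xa16 ya35 za45) (ka xa8 ya52 za16) (ka xa8 ya52 za17) (ka xa16 ya22 za51) (ka xa8 ya52 za19) (ka xa8 ya52 za20) (ka xa16 ya35 za54) (ka xa16 ya35 za57) (ka xa4 ya27 za28) (ka xa16 ya36 za0) (ka xa16 ya35 za53) (ka xa8 ya52 za26) (ka xa6 ya25 za13) (ka xa8 ya11 za49) (ka xa8 ya52 za27) (ka xa8 ya11 za47) (ka xa16 ya36 za15) (ka xa4 ya28 za0) (ka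 xa4 ya28 za1) (ka xa4 ya28 za3) (ka xa16 ya36 za23) (ka xa4 ya28 za16) (ka xa4 ya28 za17) (ka xa4 ya28 za18)) (@D3.rec (fun _ => Pt) (ka xa4 ya28 za21) (ka xa16 ya36 za34) (ka xa4 ya28 za24) (ka xa4 ya28 za25) (ka xa16 ya36 za39) (ka xa4 ya28 za28) (ka xa4 ya28 za29) (ka xa16 ya36 za45) (ka xa16 ya36 za50) (ka xa4 ya27 za38) (ka xa16 ya36 za55) (ka xa16 ya36 za44) (ka xa4 ya28 za35) (ka xa4 ya28 za36) (ka xa4 ya28 za38) (ka xa4 ya28 za40) (ka xa16 ya37 za9) (ka xa8 ya20 za26) (ka xa8 ya20 za27) (ka xa5 ya28 za7) (ka xa8 ya20 za29) (ka xa16 ya37 za15) (ka xa5 ya28 za21) (ka xa5 ya28 za22) (ka xa5 ya28 za23) (ka xa5 ya28 za24) (ka xa5 ya28 za25) (ka xa16 ya37 za27) (ka xa8 ya54 za55) (ka xa11 ya53 za10) (ka xa16 ya37 za36) (ka xa8 ya54 za23) (ka xa15 ya17 za34) (ka xa16 ya37 za44) (ka xa8 ya54 za22) (ka xa11 ya3 za12) (ka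 xa16 ya36 za14) (ka xa16 ya36 za13) (ka xa4 ya27 za52) (ka xa16 ya37 za57) (ka xa16 ya37 za58) (ka xa15 ya17 za40) (ka xa9 ya51 za43) (ka xa15 ya17 za41) (ka xa15 ya17 za42) (ka xa11 ya4 za14) (ka xa15 ya17 za43) (ka xa15 ya17 za44) (ka xa5 ya29 za17) (ka xa10 ya36 za59) (ka xa10 ya36 za60) (ka xa5 ya21 za57) (ka xa5 ya21 za56) (ka xa5 ya21 za59) (ka xa5 ya21 za46) (ka xa16 ya38 za36) (ka xa5 ya21 za55) (ka xa15 ya17 za36) (ka xa15 ya17 za35) (ka xa4 ya27 za60) (ka xa16 ya38 za46) (ka xa16 ya38 za47)) (@D3.rec (fun _ => Pt) (ka xa15 ya48 za35) (ka xa16 ya36 za17) (ka xa11 ya52 za51) (ka xa16 ya36 za18) (ka xa16 ya36 za19) (ka xa16 ya36 za20) (ka xa10 ya29 za38) (ka xa5 ya30 za50) (ka xa16 ya39 za13) (ka xa7 ya58 za28) (ka xa15 ya9 za9) (ka xa5 ya31 za22) (ka xa10 ya20 za17) (ka xa15 ya9 za10) (ka xa16 ya39 za22) (ka xa15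 ya19 za8) (ka xa16 ya39 za27) (ka xa16 ya36 za22) (ka xa16 ya36 za21) (ka xa4 ya28 za8) (ka xa16 ya39 za33) (ka xa16 ya39 za34) (ka xa8 ya53 za34) (ka xa8 ya53 za31) (ka xa15 ya19 za14) (ka xa15 ya19 za15) (ka xa15 ya19 za16) (ka xa15 ya19 za17) (ka xa15 ya19 za18) (ka xa5 ya31 za61) (ka xa5 ya32 za0) (ka xa15 ya19 za19) (ka xa10 ya30 za29) (ka xa15 ya19 za20) (ka xa10 ya1 za47) (ka xa15 ya19 za10) (ka xa15 ya19 za9) (ka xa4 ya28 za15) (ka xa16 ya40 za5) (ka xa16 ya40 za6) (ka xa16 ya36 za26) (ka xa16 ya36 za27) (ka xa16 ya36 za28) (ka xa16 ya36 za29) (ka xa16 ya36 za30) (ka xa16 ya36 za31) (ka xa16 ya4 za29) (ka xa5 ya32 za53) (ka xa5 ya21 za37) (ka xa16 ya36 za38) (ka xa16 ya36 za37) (ka xa4 ya28 za22) (ka xa16 ya40 za36) (ka xa16 ya36 za35) (ka xa4 ya55 za16) (ka xa8 ya53 za28) (ka xa16 ya36 za36) (ka xa16 ya36 za33)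 (ka xa16 ya36 za32) (ka xa4 ya28 za26) (ka xa16 ya40 za53) (ka xa16 ya40 za43)) (@D3.rec (fun _ => Pt) (ka xa16 ya40 za54) (ka xa8 ya26 za56) (ka xa16 ya36 za41) (ka xa16 ya36 za42) (ka xa16 ya36 za43) (ka xa4 ya28 za34) (ka xa4 ya28 za30) (ka xa16 ya41 za14) (ka xa7 ya58 za54) (ka xa16 ya41 za11) (ka xa16 ya41 za12) (ka xa4 ya28 za31) (ka xa16 ya41 za29) (ka xa16 ya41 za22) (ka xa16 ya41 za24) (ka xa16 ya41 za27) (ka xa4 ya28 za33) (ka xa16 ya41 za39) (ka xa16 ya41 za40) (ka xa16 ya41 za41) (ka xa16 ya41 za42) (ka xa16 ya41 za8) (ka xa16 ya41 za9) (ka xa16 ya41 za61) (ka xa16 ya37 za0) (ka xa16 ya42 za5) (ka xa16 ya37 za2) (ka xa16 ya42 za13) (ka xa15 ya48 za31) (ka xa16 ya37 za3) (ka xa16 ya37 za4) (ka xa16 ya37 za5) (ka xa16 ya14 za12) (ka xa11 ya54 za24) (ka xa11 ya54 za23) (ka xa16 ya37 za6) (ka xa15 ya9 za36) (ka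 xa11 ya54 za29) (ka xa11 ya54 za30) (ka xa10 ya22 za19) (ka xa11 ya54 za27) (ka xa10 ya47 za57) (ka xa16 ya42 za47) (ka xa5 ya29 za49) (ka xa5 ya29 za50) (ka xa5 ya28 za36) (ka xa5 ya29 za52) (ka xa16 ya42 za56) (ka xa5 ya29 za46) (ka xa5 ya29 za47) (ka xa16 ya43 za0) (ka xa5 ya29 za59) (ka xa16 ya43 za4) (ka xa5 ya29 za56) (ka xa5 ya29 za61) (ka xa5 ya29 za60) (ka xa4 ya28 za49) (ka xa16 ya43 za11) (ka xa5 ya30 za4) (ka xa5 ya30 za3) (ka xa8 ya19 za60) (ka xa11 ya4 za10)) (@D3.rec (fun _ => Pt) (ka xa15 ya15 za9) (ka xa15 ya15 za10) (ka xa7 ya38 za59) (ka xa10 ya47 za35) (ka xa10 ya47 za28) (ka xa10 ya47 za29) (ka xa5 ya28 za27) (ka xa5 ya28 za26) (ka xa4 ya28 za55) (ka xa16 ya43 za32) (ka xa5 ya28 za46) (ka xa11 ya3 za41) (ka xa5 ya30 za26) (ka xa5 ya30 za28) (ka xa16 ya43 za47) (ka xa5 ya30 za22) (ka xa5 ya30 za24)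 (ka xa4 ya28 za60) (ka xa5 ya30 za32) (ka xa5 ya30 za31) (ka xa8 ya2 za19) (ka xa5 ya23 za11) (ka xa5 ya27 za25) (ka xa16 ya44 za2) (ka xa5 ya27 za27) (ka xa5 ya27 za28) (ka xa16 ya44 za9) (ka xa5 ya27 za46) (ka xa5 ya27 za47) (ka xa16 ya44 za17) (ka xa5 ya27 za55) (ka xa16 ya44 za22) (ka xa5 ya27 za52) (ka xa5 ya27 za57) (ka xa5 ya27 za56) (ka xa4 ya29 za9) (ka xa16 ya44 za31) (ka xa16 ya44 za32) (ka xa12 ya4 za31) (ka xa11 ya9 za26) (ka xa4 ya45 za48) (ka xa9 ya25 za24) (ka xa10 ya25 za11) (ka xa11 ya9 za9) (ka xa5 ya29 za7) (ka xa5 ya29 za9) (ka xa16 ya44 za53) (ka xa5 ya29 za3) (ka xa5 ya29 za5) (ka xa4 ya29 za18) (ka xa4 ya29 za19) (ka xa5 ya29 za13) (ka xa5 ya29 za12) (ka xa16 ya45 za0) (ka xa16 ya45 za1) (ka xa11 ya32 za21) (ka xa11 ya32 za20) (ka xa16 ya45 za2) (ka xa16 ya45 za20) (ka xa5 ya30 za48) (ka xa5 ya30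 za49) (ka xa16 ya45 za24)) (@D3.rec (fun _ => Pt) (ka xa5 ya32 za16) (ka xa16 ya45 za29) (ka xa5 ya32 za18) (ka xa5 ya32 za17) (ka xa4 ya29 za26) (ka xa16 ya45 za33) (ka xa16 ya45 za34) (ka xa15 ya15 za16) (ka xa15 ya15 za17) (ka xa15 ya15 za18) (ka xa15 ya15 za19) (ka xa15 ya15 za20) (ka xa15 ya15 za21) (ka xa15 ya15 za22) (ka xa5 ya24 za4) (ka xa15 ya15 za23) (ka xa10 ya26 za21) (ka xa15 ya15 za24) (ka xa10 ya20 za40) (ka xa10 ya57 za56) (ka xa5 ya32 za37) (ka xa5 ya32 za38) (ka xa9 ya44 za2) (ka xa5 ya32 za35) (ka xa4 ya29 za36) (ka xa4 ya29 za37) (ka xa16 ya46 za4) (ka xa16 ya46 za5) (ka xa16 ya46 za6) (ka xa12 ya31 za48) (ka xa16 ya46 za7) (ka xa16 ya46 za8) (ka xa16 ya30 za1) (ka xa5 ya31 za57) (ka xa5 ya31 za58) (ka xa5 ya31 za59) (ka xa5 ya31 za50) (ka xa5 ya31 za60) (ka xa5 ya24 za23) (ka xa5 ya24 za24) (ka xa5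 ya32 za2) (ka xa16 ya46 za24) (ka xa5 ya32 za4) (ka xa5 ya32 za5) (ka xa9 ya42 za52) (ka xa4 ya29 za53) (ka xa4 ya29 za54) (ka xa4 ya29 za55) (ka xa5 ya31 za7) (ka xa5 ya31 za6) (ka xa4 ya29 za50) (ka xa16 ya46 za32) (ka xa16 ya46 za33) (ka xa15 ya52 za1) (ka xa15 ya51 za52) (ka xa15 ya51 za54) (ka xa15 ya52 za2) (ka xa15 ya52 za3) (ka xa16 ya46 za27) (ka xa16 ya0 za5) (ka xa16 ya46 za28) (ka xa9 ya44 za13)) (@D3.rec (fun _ => Pt) (ka xa5 ya31 za37) (ka xa16 ya41 za18) (ka xa5 ya31 za34) (ka xa5 ya31 za35) (ka xa4 ya29 za59) (ka xa4 ya29 za60) (ka xa16 ya47 za0) (ka xa12 ya30 za6) (ka xa12 ya30 za5) (ka xa9 ya44 za20) (ka xa11 ya38 za59) (ka xa5 ya32 za52) (ka xa5 ya24 za46) (ka xa5 ya34 za18) (ka xa16 ya45 za31) (ka xa5 ya33 za29) (ka xa5 ya33 za30) (ka xa5 ya33 za31) (ka xa5 ya33 za50) (ka xa5 ya33 za26) (ka xa5 ya33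 za27) (ka xa4 ya30 za7) (ka xa4 ya30 za8) (ka xa16 ya47 za20) (ka xa16 ya47 za21) (ka xa11 ya18 za49) (ka xa16 ya47 za22) (ka xa11 ya18 za47) (ka xa5 ya33 za18) (ka xa5 ya33 za19) (ka xa5 ya33 za20) (ka xa5 ya33 za21) (ka xa5 ya33 za22) (ka xa5 ya33 za23) (ka xa5 ya33 za24) (ka xa5 ya34 za8) (ka xa5 ya32 za59) (ka xa5 ya32 za60) (ka xa5 ya32 za56) (ka xa5 ya32 za57) (ka xa5 ya32 za58) (ka xa4 ya30 za15) (ka xa4 ya30 za16) (ka xa4 ya30 za17) (ka xa5 ya33 za3) (ka xa5 ya33 za2) (ka xa16 ya47 za50) (ka xa14 ya50 za18) (ka xa16 ya47 za51) (ka xa6 ya44 za42) (ka xa6 ya45 za6) (ka xa11 ya39 za60) (ka xa4 ya30 za35) (ka xa12 ya55 za47) (ka xa4 ya30 za22) (ka xa4 ya30 za23) (ka xa4 ya30 za24) (ka xa4 ya55 za40) (ka xa10 ya55 za34) (ka xa16 ya40 za3) (ka xa10 ya54 za56) (ka xa16 ya48 za1)) (@D3.rec (fun _ => Pt) (ka xa4 ya30 za27)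 (ka xa5 ya33 za14) (ka xa16 ya48 za2) (ka xa16 ya48 za3) (ka xa4 ya30 za28) (ka xa5 ya32 za1) (ka xa16 ya48 za4) (ka xa11 ya39 za8) (ka xa5 ya33 za25) (ka xa4 ya30 za26) (ka xa10 ya56 za56) (ka xa16 ya48 za19) (ka xa16 ya48 za20) (ka xa16 ya39 za26) (ka xa16 ya48 za10) (ka xa11 ya38 za60) (ka xa16 ya48 za15) (ka xa11 ya39 za0) (ka xa5 ya32 za54) (ka xa4 ya30 za33) (ka xa4 ya30 za34) (ka xa5 ya45 za37) (ka xa5 ya34 za41) (ka xa5 ya45 za35) (ka xa4 ya30 za37) (ka xa5 ya44 za38) (ka xa5 ya44 za37) (ka xa15 ya27 za17) (ka xa16 ya48 za39) (ka xa11 ya48 za38) (ka xa11 ya56 za43) (ka xa11 ya56 za42) (ka xa11 ya49 za35) (ka xa4 ya30 za36) (ka xa16 ya48 za44) (ka xa5 ya34 za44) (ka xa11 ya43 za53) (ka xa5 ya34 za47) (ka xa9 ya13 za2) (ka xa5 ya34 za50) (ka xa16 ya47 za15) (ka xa5 ya34 za53) (ka xa16 ya47 za49) (ka xa5 ya34 za56)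 (ka xa5 ya34 za57) (ka xa5 ya34 za58) (ka xa5 ya34 za59) (ka xa15 ya16 za3) (ka xa15 ya16 za4) (ka xa15 ya16 za5) (ka xa11 ya58 za14) (ka xa5 ya35 za2) (ka xa5 ya35 za4) (ka xa15 ya52 za27) (ka xa10 ya46 za29) (ka xa16 ya46 za60) (ka xa5 ya35 za10) (ka xa10 ya35 za2) (ka xa16 ya43 za7) (ka xa5 ya39 za28) (ka xa5 ya39 za30) (ka xa16 ya49 za26))
def f_a_9 : D2 → D3 → Pt := @D2.rec (fun _ => D3 → Pt) (@D3.rec (fun _ => Pt) (ka xa5 ya39 za24) (ka xa5 ya39 za26) (ka xa15 ya1 za44) (ka xa4 ya55 za1) (ka xa4 ya30 za60) (ka xa10 ya35 za9) (ka xa16 ya49 za34) (ka xa5 ya0 za34) (ka xa5 ya37 za60) (ka xa5 ya37 za29) (ka xa11 ya13 za21) (ka xa5 ya40 za5) (ka xa5 ya40 za6) (ka xa11 ya16 za46) (ka xa5 ya40 za2) (ka xa5 ya40 za3) (ka xa5 ya40 za8) (ka xa5 ya40 za7) (ka xa11 ya59 za25) (ka xa11 ya59 za26) (ka xa11 ya59 za27) (ka xa11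 ya59 za28) (ka xa5 ya38 za30) (ka xa5 ya38 za31) (ka xa12 ya31 za47) (ka xa5 ya38 za32) (ka xa5 ya38 za33) (ka xa4 ya31 za13) (ka xa4 ya31 za15) (ka xa16 ya49 za52) (ka xa5 ya35 za15) (ka xa5 ya35 za16) (ka xa16 ya49 za58) (ka xa5 ya35 za34) (ka xa5 ya35 za35) (ka xa15 ya34 za54) (ka xa16 ya50 za6) (ka xa5 ya35 za26) (ka xa5 ya35 za27) (ka xa5 ya35 za29) (ka xa5 ya35 za30) (ka xa16 ya50 za18) (ka xa5 ya35 za42) (ka xa5 ya35 za43) (ka xa16 ya50 za25) (ka xa5 ya35 za39) (ka xa5 ya35 za40) (ka xa5 ya35 za45) (ka xa5 ya35 za44) (ka xa4 ya31 za25) (ka xa16 ya50 za35) (ka xa16 ya5 za41) (ka xa5 ya35 za49) (ka xa11 ya3 za58) (ka xa15 ya22 za53) (ka xa15 ya22 za54) (ka xa15 ya22 za55) (ka xa10 ya37 za29) (ka xa10 ya8 za12) (ka xa15 ya24 za29) (ka xa9 ya37 za51) (ka xa16 ya44 za27)) (@D3.rec (fun _ => Pt) (ka xa5 ya36 za50) (ka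 xa5 ya36 za52) (ka xa10 ya58 za44) (ka xa5 ya36 za46) (ka xa5 ya36 za48) (ka xa4 ya31 za34) (ka xa16 ya51 za3) (ka xa11 ya57 za23) (ka xa16 ya43 za31) (ka xa16 ya51 za4) (ka xa5 ya39 za36) (ka xa5 ya39 za37) (ka xa5 ya39 za38) (ka xa4 ya55 za15) (ka xa4 ya31 za37) (ka xa16 ya51 za13) (ka xa15 ya24 za44) (ka xa15 ya2 za0) (ka xa5 ya37 za38) (ka xa4 ya31 za40) (ka xa4 ya31 za41) (ka xa5 ya37 za56) (ka xa11 ya15 za29) (ka xa5 ya38 za12) (ka xa5 ya38 za13) (ka xa16 ya21 za40) (ka xa5 ya38 za9) (ka xa5 ya38 za10) (ka xa5 ya40 za16) (ka xa5 ya40 za52) (ka xa5 ya40 za50) (ka xa5 ya40 za51) (ka xa5 ya40 za53) (ka xa7 ya50 za0) (ka xa5 ya40 za46) (ka xa7 ya50 za3) (ka xa5 ya40 za48) (ka xa5 ya40 za49) (ka xa5 ya40 za61) (ka xa5 ya41 za1) (ka xa4 ya34 za59) (ka xa4 ya31 za61) (ka xa4 ya32 za0) (ka xa5 ya40 za30) (ka xa5 ya40 za29)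 (ka xa11 ya11 za46) (ka xa16 ya51 za35) (ka xa16 ya51 za36) (ka xa16 ya51 za37) (ka xa11 ya26 za51) (ka xa16 ya51 za38) (ka xa11 ya15 za47) (ka xa16 ya51 za51) (ka xa15 ya4 za4) (ka xa5 ya41 za12) (ka xa5 ya41 za13) (ka xa5 ya41 za14) (ka xa5 ya42 za31) (ka xa5 ya42 za32) (ka xa5 ya42 za33) (ka xa5 ya42 za27) (ka xa5 ya42 za28)) (@D3.rec (fun _ => Pt) (ka xa5 ya42 za29) (ka xa4 ya32 za14) (ka xa4 ya32 za15) (ka xa5 ya42 za48) (ka xa5 ya42 za49) (ka xa5 ya42 za54) (ka xa5 ya42 za53) (ka xa16 ya52 za2) (ka xa16 ya52 za3) (ka xa16 ya52 za4) (ka xa16 ya52 za5) (ka xa4 ya32 za59) (ka xa16 ya52 za6) (ka xa4 ya32 za58) (ka xa5 ya43 za34) (ka xa5 ya42 za13) (ka xa16 ya52 za27) (ka xa5 ya42 za15) (ka xa5 ya42 za16) (ka xa5 ya42 za17) (ka xa5 ya42 za18) (ka xa5 ya42 za20) (ka xa11 ya19 za7) (ka xa5 ya41 za28) (ka xa5 ya41 za29)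 (ka xa5 ya41 za30) (ka xa5 ya41 za61) (ka xa5 ya41 za21) (ka xa5 ya41 za23) (ka xa5 ya41 za24) (ka xa5 ya41 za25) (ka xa4 ya32 za33) (ka xa4 ya32 za37) (ka xa4 ya32 za38) (ka xa5 ya41 za39) (ka xa5 ya41 za36) (ka xa5 ya41 za41) (ka xa16 ya52 za50) (ka xa7 ya7 za55) (ka xa5 ya41 za50) (ka xa5 ya41 za51) (ka xa5 ya41 za47) (ka xa5 ya41 za48) (ka xa5 ya41 za53) (ka xa16 ya52 za52) (ka xa16 ya52 za53) (ka xa16 ya52 za54) (ka xa16 ya52 za55) (ka xa12 ya10 za0) (ka xa16 ya52 za56) (ka xa7 ya0 za43) (ka xa12 ya9 za61) (ka xa16 ya53 za30) (ka xa5 ya43 za51) (ka xa5 ya43 za4) (ka xa5 ya43 za5) (ka xa5 ya43 za6) (ka xa16 ya53 za35) (ka xa4 ya33 za20) (ka xa4 ya33 za24) (ka xa5 ya41 za27) (ka xa5 ya41 za45)) (@D3.rec (fun _ => Pt) (ka xa5 ya42 za0) (ka xa5 ya41 za58) (ka xa16 ya20 za20) (ka xa11 ya11 za18) (ka xa12 ya6 za37) (ka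 xa12 ya22 za5) (ka xa9 ya52 za60) (ka xa4 ya33 za0) (ka xa16 ya52 za29) (ka xa11 ya11 za33) (ka xa16 ya53 za56) (ka xa5 ya25 za0) (ka xa14 ya53 za4) (ka xa4 ya33 za2) (ka xa5 ya42 za12) (ka xa16 ya52 za28) (ka xa4 ya33 za3) (ka xa9 ya52 za59) (ka xa7 ya13 za47) (ka xa16 ya54 za7) (ka xa16 ya54 za0) (ka xa5 ya43 za3) (ka xa11 ya28 za5) (ka xa16 ya53 za29) (ka xa4 ya41 za28) (ka xa11 ya28 za4) (ka xa4 ya33 za11) (ka xa4 ya33 za12) (ka xa5 ya46 za53) (ka xa4 ya33 za13) (ka xa4 ya33 za14) (ka xa4 ya33 za15) (ka xa4 ya33 za16) (ka xa16 ya54 za35) (ka xa4 ya33 za19) (ka xa4 ya33 za21) (ka xa4 ya33 za22) (ka xa4 ya33 za23) (ka xa7 ya59 za35) (ka xa7 ya59 za34) (ka xa16 ya54 za20) (ka xa11 ya7 za39) (ka xa16 ya54 za53) (ka xa16 ya54 za22) (ka xa16 ya54 za23) (ka xa5 ya45 za17) (ka xa16 ya54 za24) (ka xa10 ya58 za22) (ka xa11 ya41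 za3) (ka xa16 ya54 za26) (ka xa9 ya22 za32) (ka xa5 ya45 za32) (ka xa12 ya23 za41) (ka xa16 ya55 za6) (ka xa4 ya57 za30) (ka xa16 ya54 za28) (ka xa16 ya54 za29) (ka xa13 ya20 za43) (ka xa12 ya8 za56) (ka xa16 ya54 za31) (ka xa16 ya54 za32) (ka xa5 ya34 za28)) (@D3.rec (fun _ => Pt) (ka xa5 ya34 za27) (ka xa4 ya33 za17) (ka xa16 ya55 za17) (ka xa16 ya55 za18) (ka xa8 ya28 za3) (ka xa10 ya34 za9) (ka xa16 ya54 za37) (ka xa16 ya54 za38) (ka xa16 ya54 za39) (ka xa16 ya54 za40) (ka xa16 ya53 za37) (ka xa12 ya3 za56) (ka xa16 ya54 za41) (ka xa16 ya54 za42) (ka xa9 ya17 za22) (ka xa12 ya3 za58) (ka xa16 ya54 za44) (ka xa6 ya11 za54) (ka xa16 ya54 za45) (ka xa16 ya53 za40) (ka xa16 ya53 za38) (ka xa16 ya53 za39) (ka xa5 ya57 za2) (ka xa4 ya38 za26) (ka xa5 ya57 za1) (ka xa4 ya33 za27) (ka xa4 ya33 za28) (ka xa5 ya45 za25) (ka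 xa5 ya45 za24) (ka xa16 ya56 za0) (ka xa16 ya56 za1) (ka xa16 ya56 za2) (ka xa16 ya56 za3) (ka xa16 ya56 za4) (ka xa5 ya44 za18) (ka xa5 ya45 za18) (ka xa5 ya45 za19) (ka xa5 ya45 za20) (ka xa5 ya45 za21) (ka xa4 ya33 za33) (ka xa4 ya33 za34) (ka xa5 ya45 za10) (ka xa5 ya45 za9) (ka xa16 ya56 za21) (ka xa5 ya47 za24) (ka xa5 ya44 za26) (ka xa5 ya45 za34) (ka xa16 ya56 za30) (ka xa5 ya34 za26) (ka xa5 ya34 za25) (ka xa5 ya34 za24) (ka xa4 ya33 za39) (ka xa16 ya56 za37) (ka xa11 ya48 za24) (ka xa16 ya56 za38) (ka xa16 ya56 za39) (ka xa16 ya56 za48) (ka xa5 ya45 za44) (ka xa5 ya45 za45) (ka xa5 ya45 za48) (ka xa5 ya46 za1) (ka xa4 ya33 za44)) (@D3.rec (fun _ => Pt) (ka xa16 ya56 za55) (ka xa16 ya56 za56) (ka xa16 ya57 za0) (ka xa5 ya45 za56) (ka xa5 ya45 za57) (ka xa5 ya45 za60) (ka xa5 ya46 za0) (ka xa5 ya45 za49) (ka xa4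 ya33 za48) (ka xa16 ya57 za3) (ka xa12 ya9 za20) (ka xa16 ya57 za4) (ka xa16 ya57 za12) (ka xa5 ya46 za7) (ka xa5 ya46 za8) (ka xa16 ya51 za59) (ka xa5 ya46 za12) (ka xa5 ya46 za13) (ka xa16 ya52 za46) (ka xa5 ya46 za16) (ka xa5 ya46 za17) (ka xa5 ya46 za18) (ka xa5 ya46 za19) (ka xa4 ya48 za12) (ka xa4 ya34 za0) (ka xa4 ya34 za1) (ka xa4 ya34 za2) (ka xa4 ya34 za4) (ka xa6 ya56 za40) (ka xa11 ya1 za51) (ka xa11 ya1 za60) (ka xa16 ya51 za31) (ka xa16 ya57 za26) (ka xa12 ya10 za49) (ka xa11 ya44 za17) (ka xa12 ya10 za50) (ka xa5 ya49 za36) (ka xa5 ya49 za37) (ka xa5 ya49 za35) (ka xa5 ya49 za1) (ka xa15 ya5 za9) (ka xa4 ya34 za8) (ka xa16 ya57 za32) (ka xa5 ya49 za25) (ka xa4 ya34 za10) (ka xa8 ya49 za54) (ka xa11 ya16 za18) (ka xa5 ya47 za60) (ka xa5 ya48 za0) (ka xa4 ya47 za43) (ka xa4 ya34 za32) (ka xa4 ya34 za33) (ka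 xa4 ya34 za35) (ka xa11 ya37 za12) (ka xa12 ya53 za19) (ka xa5 ya48 za20) (ka xa10 ya42 za32) (ka xa10 ya42 za36) (ka xa16 ya57 za40) (ka xa16 ya57 za41) (ka xa11 ya49 za7) (ka xa11 ya30 za24)) (@D3.rec (fun _ => Pt) (ka xa6 ya47 za25) (ka xa12 ya53 za28) (ka xa14 ya36 za59) (ka xa11 ya44 za56) (ka xa5 ya50 za23) (ka xa11 ya49 za51) (ka xa5 ya50 za16) (ka xa5 ya50 za17) (ka xa6 ya41 za53) (ka xa5 ya50 za19) (ka xa5 ya50 za55) (ka xa5 ya50 za56) (ka xa4 ya34 za46) (ka xa11 ya37 za61) (ka xa5 ya51 za0) (ka xa4 ya44 za5) (ka xa4 ya34 za53) (ka xa4 ya34 za54) (ka xa4 ya34 za55) (ka xa4 ya34 za56) (ka xa4 ya34 za57) (ka xa4 ya35 za0) (ka xa5 ya51 za22) (ka xa16 ya57 za60) (ka xa16 ya57 za61) (ka xa16 ya58 za0) (ka xa16 ya58 za1) (ka xa11 ya38 za47) (ka xa11 ya41 za48) (ka xa7 ya58 za61) (ka xa11 ya26 za43) (ka xa16 ya29 za57)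 (ka xa11 ya41 za49) (ka xa12 ya57 za57) (ka xa16 ya58 za2) (ka xa16 ya58 za3) (ka xa16 ya57 za50) (ka xa16 ya58 za4) (ka xa16 ya58 za5) (ka xa16 ya29 za59) (ka xa16 ya51 za33) (ka xa15 ya30 za21) (ka xa11 ya39 za36) (ka xa11 ya8 za9) (ka xa10 ya53 za0) (ka xa16 ya29 za60) (ka xa11 ya8 za4) (ka xa16 ya58 za6) (ka xa16 ya58 za7) (ka xa16 ya58 za9) (ka xa6 ya4 za2) (ka xa6 ya4 za3) (ka xa16 ya59 za3) (ka xa5 ya52 za54) (ka xa4 ya59 za9) (ka xa4 ya35 za6) (ka xa5 ya53 za1) (ka xa5 ya53 za0) (ka xa11 ya47 za38) (ka xa5 ya52 za60) (ka xa11 ya50 za52) (ka xa15 ya4 za58)) (@D3.rec (fun _ => Pt) (ka xa4 ya35 za9) (ka xa11 ya47 za26) (ka xa4 ya37 za39) (ka xa4 ya39 za20) (ka xa5 ya55 za46) (ka xa5 ya53 za11) (ka xa5 ya59 za11) (ka xa5 ya59 za12) (ka xa5 ya55 za40) (ka xa5 ya55 za34) (ka xa5 ya55 za44) (ka xa5 ya55 za33) (ka xa9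 ya11 za55) (ka xa5 ya55 za36) (ka xa5 ya55 za37) (ka xa4 ya35 za28) (ka xa4 ya35 za29) (ka xa4 ya35 za30) (ka xa4 ya35 za31) (ka xa4 ya35 za32) (ka xa4 ya35 za34) (ka xa4 ya35 za37) (ka xa4 ya35 za39) (ka xa4 ya35 za40) (ka xa5 ya56 za43) (ka xa5 ya56 za15) (ka xa6 ya34 za24) (ka xa6 ya28 za12) (ka xa6 ya28 za11) (ka xa6 ya34 za23) (ka xa11 ya50 za25) (ka xa11 ya50 za24) (ka xa6 ya6 za51) (ka xa14 ya35 za49) (ka xa14 ya35 za46) (ka xa16 ya59 za28) (ka xa16 ya59 za29) (ka xa11 ya34 za33) (ka xa15 ya49 za52) (ka xa10 ya17 za32) (ka xa10 ya17 za48) (ka xa10 ya17 za46) (ka xa16 ya59 za30) (ka xa16 ya52 za11) (ka xa4 ya39 za49) (ka xa4 ya39 za50) (ka xa10 ya6 za2) (ka xa16 ya59 za31) (ka xa16 ya25 za27) (ka xa16 ya59 za33) (ka xa16 ya59 za34) (ka xa16 ya59 za35) (ka xa4 ya37 za16) (ka xa9 ya48 za26) (ka xa6 ya6 za47) (ka xa4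 ya43 za46) (ka xa5 ya16 za47) (ka xa5 ya16 za46) (ka xa4 ya35 za46) (ka xa5 ya53 za30) (ka xa5 ya53 za44) (ka xa5 ya53 za45)) (@D3.rec (fun _ => Pt) (ka xa5 ya53 za34) (ka xa4 ya59 za31) (ka xa5 ya53 za48) (ka xa5 ya53 za32) (ka xa5 ya53 za33) (ka xa7 ya27 za29) (ka xa5 ya53 za35) (ka xa4 ya39 za17) (ka xa4 ya39 za23) (ka xa5 ya53 za40) (ka xa4 ya36 za8) (ka xa4 ya36 za9) (ka xa4 ya36 za12) (ka xa4 ya36 za13) (ka xa4 ya36 za16) (ka xa4 ya36 za17) (ka xa4 ya36 za19) (ka xa4 ya36 za20) (ka xa4 ya36 za23) (ka xa4 ya36 za24) (ka xa4 ya36 za25) (ka xa4 ya36 za27) (ka xa4 ya36 za28) (ka xa5 ya54 za7) (ka xa5 ya54 za8) (ka xa5 ya54 za4) (ka xa5 ya54 za5) (ka xa17 ya0 za37) (ka xa17 ya0 za38) (ka xa17 ya0 za39) (ka xa17 ya0 za40) (ka xa17 ya0 za41) (ka xa6 ya13 za4) (ka xa11 ya39 za18) (ka xa17 ya0 za42) (ka xa12 ya7 za49) (ka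 xa17 ya0 za43) (ka xa17 ya0 za44) (ka xa11 ya40 za31) (ka xa5 ya54 za45) (ka xa5 ya54 za42) (ka xa5 ya54 za47) (ka xa17 ya0 za45) (ka xa17 ya0 za46) (ka xa5 ya58 za42) (ka xa9 ya48 za16) (ka xa11 ya0 za49) (ka xa17 ya1 za31) (ka xa11 ya49 za44) (ka xa14 ya20 za41) (ka xa14 ya20 za38) (ka xa17 ya0 za47) (ka xa15 ya4 za38) (ka xa5 ya53 za13) (ka xa10 ya45 za33) (ka xa17 ya0 za48) (ka xa17 ya0 za49) (ka xa10 ya45 za29) (ka xa5 ya58 za47) (ka xa17 ya0 za50) (ka xa15 ya45 za30) (ka xa12 ya10 za2)) (@D3.rec (fun _ => Pt) (ka xa11 ya31 za39) (ka xa17 ya0 za51) (ka xa17 ya0 za53) (ka xa17 ya0 za54) (ka xa17 ya0 za55) (ka xa4 ya37 za35) (ka xa4 ya36 za29) (ka xa17 ya2 za10) (ka xa12 ya53 za52) (ka xa5 ya57 za18) (ka xa5 ya59 za5) (ka xa5 ya59 za7) (ka xa17 ya2 za15) (ka xa5 ya57 za25) (ka xa4 ya36 za35) (ka xa7 ya52 za24) (ka xa5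 ya57 za28) (ka xa5 ya57 za29) (ka xa4 ya38 za27) (ka xa4 ya36 za61) (ka xa4 ya37 za8) (ka xa4 ya37 za11) (ka xa4 ya37 za12) (ka xa5 ya53 za43) (ka xa4 ya36 za48) (ka xa12 ya23 za46) (ka xa7 ya25 za21) (ka xa7 ya57 za5) (ka xa7 ya57 za6) (ka xa5 ya54 za33) (ka xa12 ya9 za30) (ka xa11 ya29 za9) (ka xa8 ya49 za45) (ka xa16 ya24 za35) (ka xa5 ya56 za22) (ka xa8 ya49 za46) (ka xa11 ya29 za36) (ka xa4 ya36 za55) (ka xa5 ya56 za7) (ka xa16 ya28 za22) (ka xa17 ya2 za35) (ka xa8 ya1 za15) (ka xa8 ya5 za15) (ka xa8 ya49 za7) (ka xa12 ya22 za25) (ka xa8 ya49 za8) (ka xa12 ya9 za5) (ka xa4 ya37 za26) (ka xa15 ya10 za38) (ka xa11 ya7 za33) (ka xa4 ya37 za27) (ka xa11 ya57 za45) (ka xa10 ya5 za44) (ka xa12 ya22 za1) (ka xa15 ya10 za37) (ka xa8 ya5 za17) (ka xa4 ya37 za29) (ka xa6 ya9 za48) (ka xa4 ya39 za61) (ka xa4 ya40 za0) (ka xa4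 ya40 za1) (ka xa4 ya40 za2)) (@D3.rec (fun _ => Pt) (ka xa17 ya2 za21) (ka xa9 ya56 za8) (ka xa6 ya20 za13) (ka xa6 ya20 za16) (ka xa6 ya20 za15) (ka xa17 ya2 za22) (ka xa13 ya58 za18) (ka xa11 ya30 za25) (ka xa14 ya6 za48) (ka xa17 ya0 za11) (ka xa4 ya37 za32) (ka xa5 ya55 za11) (ka xa4 ya37 za34) (ka xa5 ya6 za49) (ka xa5 ya6 za50) (ka xa5 ya5 za60) (ka xa5 ya5 za61) (ka xa10 ya6 za12) (ka xa14 ya52 za45) (ka xa6 ya8 za15) (ka xa6 ya8 za16) (ka xa4 ya37 za38) (ka xa12 ya31 za17) (ka xa11 ya16 za31) (ka xa5 ya56 za49) (ka xa11 ya29 za10) (ka xa11 ya29 za11) (ka xa8 ya1 za16) (ka xa17 ya2 za49) (ka xa11 ya7 za59) (ka xa11 ya7 za55) (ka xa17 ya2 za52) (ka xa17 ya2 za51) (ka xa16 ya20 za34) (ka xa16 ya34 za26) (ka xa16 ya26 za32) (ka xa13 ya36 za40) (ka xa4 ya43 za10) (ka xa12 ya58 za36) (ka xa6 ya20 za17) (ka xa17 ya3 za17)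 (ka xa17 ya3 za18) (ka xa9 ya32 za51) (ka xa12 ya58 za40) (ka xa5 ya57 za20) (ka xa5 ya57 za21) (ka xa5 ya57 za22) (ka xa5 ya57 za24) (ka xa17 ya3 za19) (ka xa17 ya2 za9) (ka xa5 ya53 za20) (ka xa5 ya53 za21) (ka xa5 ya35 za48) (ka xa17 ya3 za31) (ka xa17 ya3 za32) (ka xa16 ya59 za12) (ka xa16 ya59 za13) (ka xa6 ya33 za41) (ka xa4 ya38 za10) (ka xa4 ya38 za11) (ka xa4 ya38 za12) (ka xa4 ya38 za13)) (@D3.rec (fun _ => Pt) (ka xa4 ya38 za14) (ka xa6 ya25 za22) (ka xa4 ya38 za16) (ka xa4 ya38 za17) (ka xa4 ya38 za18) (ka xa17 ya2 za23) (ka xa4 ya38 za20) (ka xa4 ya38 za21) (ka xa4 ya38 za22) (ka xa4 ya37 za47) (ka xa11 ya1 za19) (ka xa6 ya1 za55) (ka xa6 ya16 za43) (ka xa17 ya4 za39) (ka xa6 ya37 za35) (ka xa6 ya44 za22) (ka xa6 ya44 za20) (ka xa6 ya44 za36) (ka xa6 ya44 za37) (ka xa6 ya44 za38) (ka xa6 ya44 za39) (ka xa6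 ya2 za0) (ka xa6 ya2 za1) (ka xa6 ya39 za3) (ka xa6 ya44 za40) (ka xa6 ya2 za8) (ka xa6 ya44 za43) (ka xa6 ya44 za44) (ka xa12 ya28 za19) (ka xa6 ya44 za25) (ka xa6 ya44 za26) (ka xa6 ya44 za27) (ka xa6 ya44 za28) (ka xa6 ya44 za29) (ka xa6 ya38 za59) (ka xa6 ya44 za30) (ka xa6 ya2 za35) (ka xa6 ya2 za36) (ka xa6 ya2 za37) (ka xa6 ya38 za51) (ka xa6 ya38 za37) (ka xa4 ya37 za61) (ka xa5 ya56 za35) (ka xa4 ya59 za21) (ka xa6 ya39 za2) (ka xa6 ya39 za4) (ka xa6 ya39 za5) (ka xa6 ya38 za13) (ka xa6 ya39 za0) (ka xa11 ya49 za0) (ka xa12 ya23 za26) (ka xa6 ya38 za55) (ka xa6 ya38 za58) (ka xa6 ya38 za60) (ka xa6 ya38 za61) (ka xa9 ya7 za12) (ka xa6 ya39 za15) (ka xa14 ya4 za21) (ka xa11 ya49 za15) (ka xa17 ya4 za18) (ka xa17 ya4 za19) (ka xa17 ya4 za20)) (@D3.rec (fun _ => Pt) (ka xa9 ya49 za19) (ka xa4 ya59 za54) (ka xa17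 ya4 za22) (ka xa17 ya4 za23) (ka xa9 ya49 za12) (ka xa17 ya4 za24) (ka xa17 ya4 za25) (ka xa9 ya48 za50) (ka xa17 ya4 za26) (ka xa17 ya4 za27) (ka xa16 ya40 za15) (ka xa17 ya4 za28) (ka xa10 ya45 za26) (ka xa4 ya38 za15) (ka xa8 ya0 za40) (ka xa17 ya6 za15) (ka xa17 ya6 za16) (ka xa17 ya4 za30) (ka xa6 ya20 za24) (ka xa17 ya4 za31) (ka xa17 ya4 za32) (ka xa6 ya3 za0) (ka xa16 ya54 za13) (ka xa17 ya4 za33) (ka xa6 ya16 za52) (ka xa14 ya33 za21) (ka xa9 ya15 za12) (ka xa17 ya4 za34) (ka xa4 ya38 za19) (ka xa17 ya6 za40) (ka xa17 ya6 za41) (ka xa14 ya11 za17) (ka xa17 ya4 za36) (ka xa17 ya4 za37) (ka xa17 ya4 za38) (ka xa11 ya6 za22) (ka xa6 ya25 za57) (ka xa5 ya56 za28) (ka xa5 ya57 za12) (ka xa5 ya57 za13) (ka xa11 ya57 za55) (ka xa11 ya57 za53) (ka xa16 ya55 za57) (ka xa16 ya55 za59) (ka xa16 ya55 za58) (ka xa17 ya7 za11)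 (ka xa17 ya2 za20) (ka xa4 ya43 za2) (ka xa4 ya38 za33) (ka xa4 ya38 za34) (ka xa4 ya38 za35) (ka xa4 ya38 za36) (ka xa4 ya38 za37) (ka xa6 ya10 za32) (ka xa6 ya2 za19) (ka xa6 ya2 za18) (ka xa6 ya24 za39) (ka xa6 ya36 za45) (ka xa11 ya26 za20) (ka xa17 ya7 za17) (ka xa17 ya7 za18) (ka xa17 ya7 za19)) (@D3.rec (fun _ => Pt) (ka xa5 ya59 za40) (ka xa12 ya44 za19) (ka xa8 ya59 za38) (ka xa6 ya45 za21) (ka xa16 ya48 za36) (ka xa14 ya35 za48) (ka xa16 ya48 za35) (ka xa5 ya59 za57) (ka xa6 ya2 za2) (ka xa6 ya2 za3) (ka xa6 ya2 za5) (ka xa6 ya2 za6) (ka xa5 ya59 za61) (ka xa6 ya2 za10) (ka xa4 ya41 za40) (ka xa4 ya38 za47) (ka xa4 ya38 za48) (ka xa4 ya38 za49) (ka xa4 ya38 za50) (ka xa4 ya38 za52) (ka xa15 ya4 za55) (ka xa6 ya1 za47) (ka xa11 ya35 za27) (ka xa6 ya2 za58) (ka xa6 ya2 za57) (ka xa6 ya0 za5) (ka xa17 ya7 za45)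 (ka xa11 ya58 za31) (ka xa6 ya45 za51) (ka xa6 ya44 za17) (ka xa13 ya1 za38) (ka xa15 ya5 za14) (ka xa6 ya44 za16) (ka xa6 ya44 za18) (ka xa6 ya2 za33) (ka xa6 ya2 za34) (ka xa6 ya0 za21) (ka xa6 ya2 za39) (ka xa6 ya2 za40) (ka xa6 ya2 za42) (ka xa6 ya0 za24) (ka xa6 ya2 za43) (ka xa12 ya30 za52) (ka xa6 ya2 za48) (ka xa6 ya2 za49) (ka xa6 ya3 za8) (ka xa4 ya39 za1) (ka xa4 ya39 za2) (ka xa4 ya39 za3) (ka xa6 ya3 za11) (ka xa17 ya8 za3) (ka xa17 ya8 za4) (ka xa6 ya3 za14) (ka xa6 ya3 za13) (ka xa17 ya8 za5) (ka xa6 ya2 za32) (ka xa14 ya35 za58) (ka xa17 ya7 za44) (ka xa6 ya1 za9) (ka xa6 ya3 za1) (ka xa6 ya3 za2) (ka xa6 ya3 za7)) (@D3.rec (fun _ => Pt) (ka xa6 ya2 za50) (ka xa4 ya39 za10) (ka xa6 ya2 za54) (ka xa6 ya2 za53) (ka xa17 ya8 za22) (ka xa16 ya53 za8) (ka xa17 ya8 za28) (ka xa5 ya52 za40) (ka xa14 ya47 za36)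 (ka xa6 ya3 za35) (ka xa7 ya57 za12) (ka xa6 ya3 za26) (ka xa11 ya32 za18) (ka xa17 ya0 za33) (ka xa13 ya9 za24) (ka xa6 ya3 za37) (ka xa6 ya3 za38) (ka xa6 ya3 za39) (ka xa6 ya3 za40) (ka xa16 ya59 za14) (ka xa16 ya59 za15) (ka xa14 ya47 za11) (ka xa6 ya3 za44) (ka xa6 ya3 za45) (ka xa6 ya3 za46) (ka xa6 ya3 za47) (ka xa11 ya32 za12) (ka xa10 ya58 za19) (ka xa14 ya52 za39) (ka xa6 ya3 za51) (ka xa6 ya3 za52) (ka xa6 ya3 za53) (ka xa6 ya3 za54) (ka xa17 ya8 za52) (ka xa6 ya3 za56) (ka xa17 ya8 za57) (ka xa6 ya3 za58) (ka xa11 ya51 za38) (ka xa11 ya51 za37) (ka xa4 ya39 za28) (ka xa11 ya42 za61) (ka xa6 ya4 za8) (ka xa17 ya9 za2) (ka xa5 ya52 za33) (ka xa5 ya52 za31) (ka xa5 ya52 za32) (ka xa5 ya52 za34) (ka xa6 ya13 za45) (ka xa16 ya29 za28) (ka xa16 ya29 za29) (ka xa16 ya29 za30) (ka xa16 ya29 za31) (ka xa11 ya34 za7)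 (ka xa12 ya21 za54) (ka xa12 ya21 za55) (ka xa13 ya51 za31) (ka xa12 ya21 za56) (ka xa12 ya21 za57) (ka xa8 ya42 za53) (ka xa5 ya5 za5) (ka xa10 ya15 za23) (ka xa4 ya39 za46)) (@D3.rec (fun _ => Pt) (ka xa10 ya4 za27) (ka xa6 ya25 za25) (ka xa4 ya39 za47) (ka xa17 ya9 za23) (ka xa17 ya9 za27) (ka xa17 ya9 za28) (ka xa12 ya28 za50) (ka xa16 ya59 za52) (ka xa17 ya9 za38) (ka xa16 ya59 za57) (ka xa10 ya27 za44) (ka xa10 ya17 za16) (ka xa9 ya12 za26) (ka xa16 ya59 za58) (ka xa6 ya6 za46) (ka xa4 ya39 za51) (ka xa6 ya8 za24) (ka xa10 ya17 za14) (ka xa6 ya8 za27) (ka xa6 ya8 za29) (ka xa6 ya8 za30) (ka xa6 ya8 za31) (ka xa9 ya17 za58) (ka xa9 ya47 za56) (ka xa6 ya10 za54) (ka xa6 ya10 za52) (ka xa10 ya6 za34) (ka xa17 ya3 za1) (ka xa17 ya3 za2) (ka xa17 ya3 za3) (ka xa17 ya3 za4) (ka xa6 ya8 za22) (ka xa17 ya3 za5) (ka xa17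 ya3 za6) (ka xa10 ya27 za41) (ka xa17 ya3 za7) (ka xa17 ya2 za13) (ka xa12 ya23 za22) (ka xa12 ya23 za23) (ka xa10 ya44 za50) (ka xa12 ya9 za46) (ka xa12 ya9 za47) (ka xa12 ya9 za48) (ka xa6 ya8 za61) (ka xa6 ya9 za0) (ka xa6 ya19 za43) (ka xa4 ya43 za24) (ka xa12 ya11 za6) (ka xa6 ya20 za59) (ka xa17 ya10 za17) (ka xa12 ya11 za8) (ka xa4 ya43 za18) (ka xa9 ya28 za4) (ka xa6 ya19 za48) (ka xa6 ya23 za54) (ka xa6 ya20 za55) (ka xa9 ya28 za5) (ka xa17 ya10 za26) (ka xa9 ya28 za7) (ka xa12 ya11 za10) (ka xa12 ya11 za9) (ka xa4 ya40 za17)) (@D3.rec (fun _ => Pt) (ka xa11 ya45 za26) (ka xa17 ya10 za31) (ka xa4 ya40 za40) (ka xa4 ya40 za41) (ka xa4 ya40 za42) (ka xa4 ya40 za43) (ka xa4 ya40 za44) (ka xa4 ya40 za46) (ka xa4 ya40 za48) (ka xa4 ya40 za49) (ka xa4 ya44 za42) (ka xa4 ya40 za24) (ka xa4 ya44 za51) (ka xa4 ya44 za60)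 (ka xa4 ya44 za57) (ka xa4 ya44 za56) (ka xa4 ya40 za26) (ka xa11 ya33 za1) (ka xa4 ya44 za53) (ka xa4 ya44 za54) (ka xa4 ya44 za20) (ka xa9 ya21 za61) (ka xa9 ya21 za60) (ka xa4 ya40 za30) (ka xa16 ya24 za36) (ka xa4 ya46 za53) (ka xa9 ya22 za29) (ka xa4 ya40 za32) (ka xa17 ya11 za4) (ka xa4 ya46 za51) (ka xa9 ya22 za2) (ka xa13 ya16 za38) (ka xa6 ya8 za35) (ka xa4 ya40 za38) (ka xa5 ya51 za34) (ka xa11 ya45 za27) (ka xa17 ya11 za13) (ka xa13 ya10 za37) (ka xa17 ya11 za14) (ka xa17 ya11 za15) (ka xa11 ya40 za49) (ka xa6 ya17 za25) (ka xa17 ya10 za35) (ka xa16 ya56 za5) (ka xa17 ya10 za36) (ka xa17 ya10 za37) (ka xa17 ya11 za42) (ka xa17 ya10 za39) (ka xa17 ya10 za40) (ka xa17 ya11 za50) (ka xa17 ya10 za42) (ka xa6 ya33 za12) (ka xa12 ya32 za58) (ka xa9 ya27 za1) (ka xa12 ya57 za17) (ka xa17 ya10 za43) (ka xa6 ya12 za24)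 (ka xa12 ya57 za12) (ka xa17 ya10 za44) (ka xa17 ya10 za45) (ka xa4 ya41 za2) (ka xa4 ya41 za3)) (@D3.rec (fun _ => Pt) (ka xa4 ya47 za29) (ka xa6 ya12 za51) (ka xa8 ya12 za43) (ka xa17 ya10 za46) (ka xa4 ya40 za51) (ka xa4 ya40 za52) (ka xa4 ya40 za53) (ka xa4 ya40 za54) (ka xa11 ya40 za36) (ka xa17 ya12 za10) (ka xa5 ya44 za58) (ka xa12 ya9 za2) (ka xa14 ya52 za33) (ka xa13 ya1 za6) (ka xa17 ya12 za11) (ka xa9 ya30 za48) (ka xa17 ya12 za12) (ka xa17 ya12 za13) (ka xa12 ya9 za18) (ka xa12 ya9 za19) (ka xa6 ya12 za4) (ka xa12 ya23 za31) (ka xa9 ya4 za14) (ka xa11 ya49 za25) (ka xa6 ya12 za6) (ka xa6 ya12 za7) (ka xa6 ya12 za9) (ka xa6 ya12 za10) (ka xa6 ya12 za14) (ka xa17 ya12 za36) (ka xa6 ya12 za17) (ka xa6 ya12 za33) (ka xa6 ya12 za35) (ka xa11 ya25 za21) (ka xa17 ya12 za4) (ka xa17 ya12 za5) (ka xa6 ya32 za34) (ka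 xa11 ya25 za22) (ka xa11 ya25 za23) (ka xa6 ya12 za31) (ka xa6 ya12 za32) (ka xa11 ya28 za41) (ka xa6 ya8 za6) (ka xa6 ya42 za30) (ka xa6 ya12 za42) (ka xa6 ya25 za6) (ka xa5 ya12 za60) (ka xa5 ya13 za28) (ka xa4 ya41 za30) (ka xa5 ya38 za41) (ka xa5 ya49 za43) (ka xa16 ya54 za17) (ka xa16 ya54 za18) (ka xa6 ya16 za44) (ka xa6 ya16 za45) (ka xa11 ya26 za55) (ka xa12 ya33 za0) (ka xa17 ya13 za4) (ka xa9 ya15 za22) (ka xa11 ya58 za40) (ka xa6 ya16 za46) (ka xa6 ya16 za47)) (@D3.rec (fun _ => Pt) (ka xa6 ya1 za12) (ka xa4 ya41 za35) (ka xa12 ya30 za51) (ka xa6 ya16 za56) (ka xa6 ya16 za57) (ka xa6 ya16 za58) (ka xa6 ya16 za59) (ka xa17 ya7 za43) (ka xa4 ya41 za58) (ka xa17 ya13 za13) (ka xa6 ya25 za55) (ka xa4 ya41 za46) (ka xa9 ya49 za29) (ka xa6 ya36 za44) (ka xa4 ya43 za14) (ka xa12 ya49 za46) (ka xa13 ya1 za42) (ka xa9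 ya50 za54) (ka xa6 ya22 za10) (ka xa17 ya13 za20) (ka xa17 ya13 za23) (ka xa17 ya13 za25) (ka xa6 ya23 za4) (ka xa10 ya42 za18) (ka xa17 ya13 za32) (ka xa12 ya59 za55) (ka xa12 ya59 za54) (ka xa4 ya41 za60) (ka xa6 ya21 za58) (ka xa6 ya21 za57) (ka xa13 ya1 za11) (ka xa6 ya21 za42) (ka xa6 ya21 za43) (ka xa17 ya13 za46) (ka xa6 ya21 za22) (ka xa4 ya42 za8) (ka xa12 ya38 za53) (ka xa6 ya21 za31) (ka xa6 ya21 za30) (ka xa15 ya42 za37) (ka xa17 ya13 za55) (ka xa13 ya1 za12) (ka xa13 ya0 za12) (ka xa6 ya22 za20) (ka xa17 ya13 za59) (ka xa6 ya22 za22) (ka xa17 ya14 za0) (ka xa17 ya13 za35) (ka xa4 ya42 za13) (ka xa17 ya13 za61) (ka xa6 ya22 za27) (ka xa6 ya22 za31) (ka xa6 ya22 za60) (ka xa6 ya22 za59) (ka xa4 ya42 za16) (ka xa4 ya42 za18) (ka xa4 ya42 za19) (ka xa17 ya14 za16) (ka xa12 ya18 za46) (ka xa17 ya14 za14) (ka xa12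 ya13 za7) (ka xa13 ya15 za19)) (@D3.rec (fun _ => Pt) (ka xa6 ya22 za40) (ka xa6 ya22 za39) (ka xa4 ya42 za20) (ka xa17 ya14 za27) (ka xa6 ya23 za6) (ka xa6 ya23 za7) (ka xa12 ya39 za50) (ka xa12 ya20 za31) (ka xa12 ya20 za32) (ka xa13 ya0 za1) (ka xa12 ya20 za20) (ka xa12 ya20 za21) (ka xa4 ya42 za28) (ka xa4 ya42 za29) (ka xa6 ya23 za55) (ka xa17 ya14 za45) (ka xa12 ya21 za5) (ka xa17 ya14 za42) (ka xa6 ya24 za19) (ka xa12 ya0 za16) (ka xa4 ya42 za30) (ka xa17 ya14 za56) (ka xa6 ya24 za16) (ka xa6 ya24 za18) (ka xa11 ya59 za49) (ka xa6 ya14 za36) (ka xa4 ya42 za37) (ka xa4 ya42 za38) (ka xa17 ya14 za61) (ka xa17 ya15 za0) (ka xa17 ya15 za1) (ka xa17 ya15 za2) (ka xa11 ya13 za53) (ka xa8 ya50 za35) (ka xa8 ya50 za36) (ka xa8 ya49 za58) (ka xa8 ya50 za38) (ka xa8 ya50 za39) (ka xa8 ya50 za40) (ka xa8 ya50 za41) (ka xa8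 ya50 za43) (ka xa11 ya28 za2) (ka xa15 ya7 za51) (ka xa7 ya17 za19) (ka xa6 ya15 za60) (ka xa6 ya16 za1) (ka xa6 ya24 za31) (ka xa6 ya15 za42) (ka xa6 ya15 za43) (ka xa6 ya15 za44) (ka xa6 ya15 za53) (ka xa6 ya15 za57) (ka xa6 ya15 za58) (ka xa6 ya19 za35) (ka xa6 ya19 za34) (ka xa4 ya43 za15) (ka xa4 ya43 za16) (ka xa6 ya19 za53) (ka xa6 ya20 za7) (ka xa17 ya3 za50) (ka xa6 ya20 za14) (ka xa10 ya12 za6)) (@D3.rec (fun _ => Pt) (ka xa17 ya13 za17) (ka xa10 ya4 za38) (ka xa17 ya15 za57) (ka xa17 ya15 za48) (ka xa11 ya11 za4) (ka xa11 ya56 za18) (ka xa13 ya2 za32) (ka xa17 ya10 za21) (ka xa12 ya40 za50) (ka xa13 ya15 za16) (ka xa6 ya26 za44) (ka xa6 ya26 za51) (ka xa6 ya26 za50) (ka xa7 ya31 za0) (ka xa6 ya26 za37) (ka xa6 ya26 za38) (ka xa14 ya54 za30) (ka xa12 ya49 za21) (ka xa12 ya58 za22) (ka xa17 ya16 za9) (ka xa4 ya43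 za33) (ka xa12 ya58 za15) (ka xa17 ya16 za12) (ka xa17 ya16 za14) (ka xa6 ya27 za18) (ka xa6 ya27 za19) (ka xa8 ya37 za28) (ka xa4 ya43 za37) (ka xa17 ya16 za20) (ka xa6 ya27 za25) (ka xa6 ya27 za26) (ka xa6 ya27 za27) (ka xa17 ya16 za26) (ka xa15 ya48 za41) (ka xa17 ya16 za29) (ka xa8 ya36 za23) (ka xa17 ya16 za34) (ka xa6 ya42 za21) (ka xa6 ya29 za49) (ka xa12 ya13 za53) (ka xa17 ya16 za38) (ka xa7 ya31 za33) (ka xa6 ya29 za30) (ka xa7 ya31 za53) (ka xa6 ya28 za50) (ka xa12 ya53 za35) (ka xa6 ya29 za2) (ka xa6 ya28 za58) (ka xa6 ya19 za49) (ka xa4 ya46 za32) (ka xa6 ya32 za58) (ka xa4 ya46 za8) (ka xa4 ya46 za14) (ka xa4 ya50 za10) (ka xa6 ya32 za60) (ka xa6 ya33 za3) (ka xa15 ya38 za53) (ka xa6 ya33 za6) (ka xa6 ya56 za29) (ka xa6 ya33 za53) (ka xa6 ya56 za30) (ka xa4 ya47 za2)) (@D3.rec (fun _ => Pt) (ka xa6 ya32 za47)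 (ka xa6 ya33 za8) (ka xa6 ya33 za7) (ka xa16 ya57 za59) (ka xa4 ya44 za19) (ka xa6 ya33 za26) (ka xa6 ya33 za27) (ka xa6 ya33 za28) (ka xa7 ya42 za43) (ka xa6 ya33 za37) (ka xa6 ya33 za38) (ka xa6 ya11 za35) (ka xa7 ya42 za44) (ka xa6 ya33 za13) (ka xa6 ya33 za14) (ka xa6 ya33 za15) (ka xa6 ya12 za50) (ka xa6 ya33 za18) (ka xa6 ya33 za32) (ka xa7 ya3 za59) (ka xa7 ya32 za29) (ka xa7 ya32 za30) (ka xa7 ya32 za31) (ka xa14 ya23 za34) (ka xa12 ya28 za35) (ka xa12 ya28 za36) (ka xa12 ya57 za26) (ka xa14 ya11 za46) (ka xa17 ya10 za53) (ka xa17 ya10 za52) (ka xa17 ya17 za5) (ka xa17 ya10 za56) (ka xa12 ya52 za20) (ka xa17 ya17 za43) (ka xa6 ya32 za30) (ka xa6 ya32 za31) (ka xa6 ya34 za45) (ka xa6 ya34 za46) (ka xa6 ya11 za42) (ka xa6 ya11 za18) (ka xa6 ya33 za20) (ka xa6 ya33 za21) (ka xa4 ya45 za17) (ka xa4 ya45 za16) (ka xa5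 ya59 za22) (ka xa4 ya47 za12) (ka xa4 ya47 za14) (ka xa4 ya47 za28) (ka xa4 ya47 za30) (ka xa17 ya18 za3) (ka xa4 ya47 za42) (ka xa6 ya53 za55) (ka xa6 ya53 za54) (ka xa11 ya33 za29) (ka xa6 ya32 za13) (ka xa6 ya0 za8) (ka xa6 ya20 za60) (ka xa6 ya43 za31) (ka xa6 ya19 za25) (ka xa6 ya19 za26) (ka xa9 ya16 za22) (ka xa9 ya16 za21)) (@D3.rec (fun _ => Pt) (ka xa4 ya44 za38) (ka xa17 ya18 za13) (ka xa9 ya16 za30) (ka xa12 ya42 za25) (ka xa12 ya42 za26) (ka xa9 ya24 za6) (ka xa6 ya16 za25) (ka xa14 ya17 za43) (ka xa9 ya24 za5) (ka xa9 ya28 za41) (ka xa12 ya11 za32) (ka xa5 ya58 za17) (ka xa12 ya35 za11) (ka xa11 ya34 za16) (ka xa4 ya44 za50) (ka xa11 ya33 za2) (ka xa17 ya17 za3) (ka xa17 ya17 za2) (ka xa17 ya18 za32) (ka xa14 ya23 za48) (ka xa17 ya10 za47) (ka xa6 ya16 za34) (ka xa12 ya14 za41) (ka xa11 ya55 za7) (ka xa14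 ya42 za0) (ka xa17 ya10 za50) (ka xa17 ya10 za51) (ka xa17 ya10 za54) (ka xa7 ya2 za9) (ka xa9 ya16 za26) (ka xa5 ya58 za11) (ka xa5 ya54 za40) (ka xa9 ya3 za50) (ka xa10 ya42 za38) (ka xa9 ya24 za39) (ka xa15 ya30 za30) (ka xa4 ya44 za59) (ka xa17 ya10 za48) (ka xa17 ya6 za38) (ka xa12 ya49 za9) (ka xa13 ya5 za27) (ka xa7 ya47 za53) (ka xa14 ya41 za61) (ka xa4 ya46 za0) (ka xa4 ya45 za61) (ka xa4 ya45 za0) (ka xa12 ya9 za8) (ka xa17 ya19 za11) (ka xa4 ya45 za45) (ka xa4 ya45 za46) (ka xa4 ya45 za49) (ka xa4 ya45 za53) (ka xa4 ya45 za54) (ka xa4 ya45 za57) (ka xa4 ya45 za6) (ka xa17 ya19 za19) (ka xa4 ya46 za4) (ka xa4 ya46 za6) (ka xa4 ya46 za7) (ka xa4 ya46 za11) (ka xa4 ya46 za13) (ka xa4 ya46 za25)) (@D3.rec (fun _ => Pt) (ka xa4 ya46 za24) (ka xa4 ya45 za10) (ka xa17 ya19 za31) (ka xa4 ya46 za21) (ka xa4 ya46 za23)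 (ka xa4 ya46 za16) (ka xa4 ya46 za15) (ka xa4 ya45 za13) (ka xa11 ya21 za24) (ka xa14 ya34 za59) (ka xa4 ya46 za30) (ka xa4 ya46 za31) (ka xa12 ya27 za41) (ka xa17 ya11 za26) (ka xa17 ya17 za52) (ka xa11 ya47 za13) (ka xa12 ya27 za44) (ka xa17 ya11 za25) (ka xa14 ya32 za58) (ka xa4 ya45 za19) (ka xa4 ya45 za20) (ka xa9 ya26 za35) (ka xa9 ya26 za34) (ka xa17 ya19 za50) (ka xa17 ya19 za51) (ka xa17 ya19 za52) (ka xa17 ya19 za53) (ka xa17 ya19 za54) (ka xa4 ya46 za56) (ka xa4 ya46 za58) (ka xa4 ya46 za59) (ka xa10 ya13 za2) (ka xa4 ya47 za1) (ka xa4 ya47 za5) (ka xa4 ya47 za6) (ka xa4 ya47 za7) (ka xa4 ya47 za8) (ka xa4 ya47 za9) (ka xa4 ya47 za10) (ka xa17 ya20 za32) (ka xa4 ya47 za21) (ka xa4 ya47 za22) (ka xa6 ya50 za19) (ka xa6 ya50 za18) (ka xa12 ya9 za43) (ka xa5 ya50 za36) (ka xa12 ya12 za1) (ka xa12 ya4 za49) (ka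 xa7 ya33 za2) (ka xa12 ya14 za38) (ka xa4 ya45 za34) (ka xa6 ya39 za51) (ka xa6 ya43 za30) (ka xa4 ya48 za53) (ka xa7 ya34 za8) (ka xa12 ya14 za42) (ka xa5 ya59 za47) (ka xa11 ya48 za15) (ka xa12 ya39 za15) (ka xa12 ya7 za33) (ka xa4 ya45 za42) (ka xa12 ya9 za9)) (@D3.rec (fun _ => Pt) (ka xa17 ya20 za59) (ka xa17 ya20 za60) (ka xa17 ya20 za61) (ka xa17 ya21 za0) (ka xa12 ya10 za1) (ka xa9 ya22 za8) (ka xa9 ya22 za5) (ka xa10 ya44 za1) (ka xa17 ya21 za21) (ka xa15 ya45 za28) (ka xa6 ya47 za10) (ka xa17 ya21 za25) (ka xa12 ya15 za47) (ka xa4 ya47 za51) (ka xa17 ya19 za41) (ka xa6 ya42 za48) (ka xa6 ya42 za49) (ka xa6 ya42 za50) (ka xa17 ya19 za16) (ka xa16 ya0 za0) (ka xa8 ya21 za42) (ka xa4 ya47 za58) (ka xa6 ya42 za57) (ka xa17 ya19 za17) (ka xa12 ya13 za60) (ka xa17 ya21 za42) (ka xa8 ya32 za0) (ka xa8 ya31 za61) (ka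 xa12 ya24 za0) (ka xa5 ya48 za29) (ka xa4 ya45 za59) (ka xa11 ya30 za20) (ka xa11 ya6 za43) (ka xa5 ya59 za43) (ka xa6 ya1 za46) (ka xa12 ya57 za31) (ka xa5 ya48 za22) (ka xa4 ya46 za2) (ka xa4 ya46 za3) (ka xa9 ya22 za34) (ka xa14 ya1 za39) (ka xa17 ya21 za49) (ka xa15 ya5 za35) (ka xa17 ya21 za50) (ka xa10 ya21 za27) (ka xa7 ya0 za53) (ka xa6 ya43 za23) (ka xa5 ya18 za3) (ka xa17 ya19 za24) (ka xa17 ya19 za25) (ka xa17 ya16 za48) (ka xa14 ya32 za60) (ka xa5 ya17 za52) (ka xa6 ya43 za56) (ka xa17 ya19 za26) (ka xa6 ya48 za21) (ka xa6 ya43 za58) (ka xa4 ya47 za55) (ka xa15 ya58 za14) (ka xa17 ya19 za27) (ka xa17 ya22 za15) (ka xa10 ya43 za42)) (@D3.rec (fun _ => Pt) (ka xa10 ya43 za41) (ka xa9 ya39 za5) (ka xa6 ya0 za37) (ka xa12 ya48 za56) (ka xa12 ya10 za20) (ka xa17 ya19 za34) (ka xa12 ya10 za18) (ka xa17 ya19 za33)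 (ka xa17 ya10 za60) (ka xa10 ya17 za41) (ka xa4 ya46 za18) (ka xa4 ya46 za19) (ka xa4 ya46 za20) (ka xa5 ya45 za30) (ka xa12 ya10 za35) (ka xa16 ya49 za6) (ka xa11 ya21 za25) (ka xa16 ya29 za32) (ka xa17 ya22 za28) (ka xa17 ya22 za29) (ka xa17 ya22 za30) (ka xa17 ya22 za31) (ka xa17 ya22 za32) (ka xa10 ya42 za55) (ka xa8 ya56 za41) (ka xa17 ya19 za44) (ka xa9 ya49 za50) (ka xa13 ya20 za52) (ka xa17 ya19 za30) (ka xa9 ya49 za49) (ka xa13 ya31 za7) (ka xa4 ya46 za27) (ka xa11 ya44 za1) (ka xa8 ya50 za29) (ka xa14 ya34 za60) (ka xa16 ya24 za17) (ka xa14 ya59 za59) (ka xa16 ya24 za23) (ka xa14 ya34 za61) (ka xa5 ya15 za23) (ka xa10 ya20 za55) (ka xa17 ya19 za39) (ka xa12 ya32 za39) (ka xa10 ya7 za19) (ka xa17 ya16 za44) (ka xa6 ya0 za27) (ka xa4 ya46 za33) (ka xa11 ya34 za11) (ka xa4 ya59 za37) (ka xa4 ya59 za25) (ka xa6 ya0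 za43) (ka xa6 ya0 za17) (ka xa6 ya0 za44) (ka xa6 ya0 za45) (ka xa6 ya0 za38) (ka xa4 ya46 za37) (ka xa13 ya19 za53) (ka xa4 ya59 za34) (ka xa6 ya0 za34) (ka xa6 ya0 za35) (ka xa4 ya46 za45) (ka xa4 ya46 za46)) (@D3.rec (fun _ => Pt) (ka xa4 ya46 za47) (ka xa4 ya46 za48) (ka xa4 ya46 za49) (ka xa4 ya58 za40) (ka xa6 ya0 za46) (ka xa4 ya59 za1) (ka xa4 ya59 za46) (ka xa11 ya43 za15) (ka xa4 ya59 za47) (ka xa17 ya23 za32) (ka xa17 ya23 za33) (ka xa17 ya23 za34) (ka xa17 ya23 za35) (ka xa6 ya51 za6) (ka xa14 ya22 za31) (ka xa17 ya24 za0) (ka xa10 ya43 za46) (ka xa14 ya22 za30) (ka xa14 ya33 za27) (ka xa13 ya10 za16) (ka xa13 ya10 za18) (ka xa17 ya23 za36) (ka xa17 ya23 za37) (ka xa4 ya46 za50) (ka xa17 ya2 za33) (ka xa17 ya24 za18) (ka xa15 ya56 za43) (ka xa17 ya11 za6) (ka xa17 ya11 za7) (ka xa17 ya11 za8) (ka xa13 ya19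 za7) (ka xa17 ya11 za1) (ka xa13 ya20 za31) (ka xa17 ya11 za2) (ka xa9 ya23 za22) (ka xa9 ya23 za21) (ka xa11 ya43 za16) (ka xa9 ya26 za53) (ka xa9 ya26 za54) (ka xa9 ya26 za55) (ka xa9 ya26 za52) (ka xa11 ya50 za17) (ka xa17 ya20 za10) (ka xa17 ya20 za11) (ka xa17 ya20 za12) (ka xa16 ya24 za50) (ka xa10 ya21 za61) (ka xa10 ya19 za27) (ka xa17 ya20 za13) (ka xa17 ya20 za14) (ka xa17 ya20 za15) (ka xa17 ya20 za16) (ka xa9 ya26 za40) (ka xa9 ya26 za37) (ka xa9 ya26 za38) (ka xa9 ya26 za39) (ka xa10 ya17 za40) (ka xa10 ya17 za42) (ka xa10 ya17 za43) (ka xa6 ya19 za60) (ka xa12 ya4 za28) (ka xa17 ya20 za19)) (@D3.rec (fun _ => Pt) (ka xa17 ya20 za20) (ka xa9 ya16 za53) (ka xa17 ya20 za17) (ka xa4 ya47 za3) (ka xa5 ya4 za16) (ka xa17 ya25 za42) (ka xa14 ya36 za30) (ka xa12 ya28 za37) (ka xa17 ya20 za21) (ka xa17 ya20 za22)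 (ka xa12 ya32 za33) (ka xa12 ya32 za41) (ka xa10 ya2 za56) (ka xa17 ya20 za24) (ka xa17 ya20 za25) (ka xa17 ya26 za0) (ka xa17 ya20 za26) (ka xa17 ya20 za27) (ka xa17 ya12 za39) (ka xa17 ya20 za28) (ka xa17 ya26 za14) (ka xa12 ya57 za16) (ka xa17 ya11 za60) (ka xa17 ya20 za30) (ka xa6 ya43 za38) (ka xa17 ya22 za23) (ka xa17 ya17 za55) (ka xa13 ya15 za15) (ka xa13 ya1 za17) (ka xa17 ya17 za56) (ka xa17 ya11 za47) (ka xa17 ya17 za57) (ka xa10 ya5 za13) (ka xa5 ya14 za17) (ka xa17 ya26 za42) (ka xa12 ya57 za29) (ka xa17 ya20 za31) (ka xa4 ya47 za17) (ka xa17 ya26 za48) (ka xa10 ya5 za15) (ka xa4 ya49 za45) (ka xa12 ya57 za30) (ka xa4 ya47 za20) (ka xa17 ya26 za56) (ka xa17 ya26 za57) (ka xa12 ya57 za18) (ka xa17 ya20 za35) (ka xa6 ya47 za11) (ka xa17 ya20 za36) (ka xa6 ya43 za39) (ka xa4 ya48 za20) (ka xa4 ya48 za28) (ka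 xa17 ya20 za54) (ka xa6 ya43 za36) (ka xa4 ya47 za53) (ka xa6 ya43 za50) (ka xa6 ya43 za51) (ka xa4 ya48 za0) (ka xa6 ya43 za52) (ka xa17 ya17 za58) (ka xa17 ya14 za55) (ka xa17 ya12 za6)) (@D3.rec (fun _ => Pt) (ka xa17 ya17 za59) (ka xa17 ya17 za60) (ka xa17 ya27 za34) (ka xa17 ya18 za0) (ka xa9 ya15 za52) (ka xa9 ya15 za56) (ka xa17 ya27 za44) (ka xa9 ya15 za58) (ka xa17 ya27 za49) (ka xa12 ya11 za43) (ka xa12 ya11 za44) (ka xa4 ya53 za41) (ka xa17 ya27 za55) (ka xa12 ya11 za46) (ka xa8 ya22 za23) (ka xa17 ya27 za60) (ka xa12 ya11 za50) (ka xa12 ya11 za51) (ka xa17 ya28 za4) (ka xa12 ya11 za48) (ka xa12 ya11 za52) (ka xa8 ya31 za40) (ka xa4 ya47 za41) (ka xa17 ya28 za12) (ka xa12 ya11 za56) (ka xa12 ya11 za55) (ka xa6 ya17 za45) (ka xa17 ya18 za5) (ka xa6 ya43 za11) (ka xa6 ya43 za10) (ka xa16 ya57 za39) (ka xa4 ya47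 za52) (ka xa4 ya47 za54) (ka xa4 ya47 za61) (ka xa6 ya43 za22) (ka xa7 ya38 za1) (ka xa17 ya28 za38) (ka xa12 ya15 za39) (ka xa7 ya32 za54) (ka xa17 ya21 za28) (ka xa17 ya28 za28) (ka xa9 ya22 za9) (ka xa17 ya28 za29) (ka xa17 ya27 za18) (ka xa17 ya28 za30) (ka xa17 ya22 za9) (ka xa6 ya36 za32) (ka xa14 ya32 za36) (ka xa14 ya33 za30) (ka xa17 ya21 za37) (ka xa12 ya52 za11) (ka xa6 ya17 za36) (ka xa12 ya15 za54) (ka xa15 ya40 za20) (ka xa17 ya29 za15) (ka xa17 ya28 za32) (ka xa6 ya37 za8) (ka xa6 ya11 za34) (ka xa6 ya37 za10) (ka xa6 ya37 za11) (ka xa17 ya29 za26) (ka xa17 ya29 za29)) (@D3.rec (fun _ => Pt) (ka xa6 ya42 za55) (ka xa6 ya42 za56) (ka xa6 ya37 za15) (ka xa17 ya29 za33) (ka xa17 ya29 za37) (ka xa4 ya48 za9) (ka xa17 ya29 za41) (ka xa17 ya29 za32) (ka xa6 ya43 za7) (ka xa6 ya43 za8) (ka xa16 ya57 za25) (ka xa4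 ya48 za18) (ka xa4 ya48 za19) (ka xa4 ya48 za23) (ka xa4 ya48 za25) (ka xa4 ya48 za27) (ka xa7 ya50 za1) (ka xa4 ya57 za12) (ka xa7 ya50 za2) (ka xa15 ya4 za61) (ka xa6 ya50 za44) (ka xa17 ya29 za51) (ka xa17 ya29 za52) (ka xa12 ya32 za4) (ka xa17 ya29 za53) (ka xa17 ya27 za12) (ka xa16 ya30 za42) (ka xa12 ya50 za15) (ka xa14 ya4 za22) (ka xa11 ya57 za61) (ka xa11 ya14 za34) (ka xa12 ya50 za14) (ka xa17 ya29 za54) (ka xa12 ya32 za25) (ka xa12 ya24 za16) (ka xa17 ya29 za55) (ka xa17 ya30 za29) (ka xa17 ya29 za57) (ka xa17 ya27 za13) (ka xa17 ya30 za39) (ka xa6 ya38 za2) (ka xa6 ya37 za61) (ka xa6 ya37 za60) (ka xa6 ya38 za4) (ka xa17 ya30 za49) (ka xa6 ya38 za7) (ka xa6 ya36 za31) (ka xa17 ya30 za53) (ka xa17 ya30 za58) (ka xa4 ya48 za38) (ka xa17 ya31 za0) (ka xa17 ya30 za52) (ka xa6 ya44 za11) (ka xa6 ya44 za12) (ka xa6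 ya0 za23) (ka xa6 ya0 za26) (ka xa17 ya19 za10) (ka xa5 ya58 za23) (ka xa5 ya59 za45) (ka xa5 ya58 za22) (ka xa5 ya59 za44) (ka xa5 ya59 za46)) (@D3.rec (fun _ => Pt) (ka xa4 ya48 za45) (ka xa17 ya31 za15) (ka xa6 ya0 za12) (ka xa6 ya0 za13) (ka xa6 ya0 za14) (ka xa6 ya0 za15) (ka xa6 ya0 za16) (ka xa6 ya0 za18) (ka xa6 ya0 za19) (ka xa4 ya48 za52) (ka xa12 ya33 za7) (ka xa7 ya41 za56) (ka xa6 ya1 za52) (ka xa17 ya4 za40) (ka xa17 ya31 za27) (ka xa17 ya31 za28) (ka xa11 ya27 za34) (ka xa17 ya20 za48) (ka xa4 ya59 za43) (ka xa5 ya59 za53) (ka xa5 ya59 za55) (ka xa5 ya59 za59) (ka xa5 ya59 za60) (ka xa5 ya33 za41) (ka xa6 ya0 za0) (ka xa11 ya29 za29) (ka xa4 ya49 za2) (ka xa4 ya49 za3) (ka xa4 ya49 za4) (ka xa10 ya45 za9) (ka xa4 ya49 za6) (ka xa4 ya49 za7) (ka xa4 ya49 za8) (ka xa4 ya49 za9) (ka xa4 ya49 za10) (ka xa4 ya49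 za11) (ka xa4 ya49 za12) (ka xa6 ya6 za34) (ka xa4 ya49 za1) (ka xa9 ya50 za12) (ka xa17 ya31 za59) (ka xa17 ya26 za53) (ka xa17 ya32 za2) (ka xa13 ya8 za21) (ka xa6 ya45 za25) (ka xa17 ya31 za49) (ka xa11 ya54 za34) (ka xa17 ya31 za50) (ka xa9 ya17 za15) (ka xa12 ya56 za49) (ka xa10 ya45 za16) (ka xa4 ya49 za5) (ka xa7 ya44 za11) (ka xa11 ya57 za6) (ka xa17 ya32 za15) (ka xa17 ya20 za50) (ka xa13 ya8 za20) (ka xa17 ya31 za53) (ka xa11 ya54 za35) (ka xa17 ya31 za54) (ka xa5 ya33 za42) (ka xa12 ya32 za45)) (@D3.rec (fun _ => Pt) (ka xa10 ya44 za32) (ka xa13 ya1 za21) (ka xa10 ya45 za2) (ka xa10 ya44 za33) (ka xa6 ya8 za46) (ka xa12 ya50 za8) (ka xa11 ya55 za39) (ka xa11 ya55 za37) (ka xa17 ya31 za56) (ka xa17 ya31 za57) (ka xa17 ya31 za58) (ka xa6 ya45 za39) (ka xa6 ya45 za40) (ka xa4 ya49 za15) (ka xa4 ya49 za16) (ka xa6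 ya1 za58) (ka xa6 ya45 za47) (ka xa6 ya45 za46) (ka xa11 ya55 za1) (ka xa15 ya4 za3) (ka xa6 ya44 za56) (ka xa6 ya45 za26) (ka xa6 ya45 za27) (ka xa6 ya45 za28) (ka xa17 ya33 za16) (ka xa6 ya45 za33) (ka xa6 ya45 za34) (ka xa6 ya45 za35) (ka xa6 ya45 za37) (ka xa6 ya45 za12) (ka xa4 ya49 za23) (ka xa4 ya49 za25) (ka xa6 ya45 za16) (ka xa17 ya33 za22) (ka xa17 ya33 za23) (ka xa11 ya57 za22) (ka xa17 ya8 za19) (ka xa6 ya2 za29) (ka xa16 ya48 za37) (ka xa17 ya33 za38) (ka xa6 ya45 za53) (ka xa4 ya49 za29) (ka xa10 ya43 za59) (ka xa15 ya25 za28) (ka xa6 ya45 za58) (ka xa6 ya45 za60) (ka xa6 ya45 za61) (ka xa10 ya44 za49) (ka xa10 ya44 za51) (ka xa17 ya33 za47) (ka xa6 ya46 za4) (ka xa6 ya46 za5) (ka xa6 ya46 za6) (ka xa8 ya10 za58) (ka xa17 ya33 za50) (ka xa17 ya33 za55) (ka xa4 ya49 za38) (ka xa17 ya33 za60) (ka xa15 ya32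 za56) (ka xa6 ya46 za13) (ka xa6 ya46 za14) (ka xa6 ya46 za57)) (@D3.rec (fun _ => Pt) (ka xa7 ya34 za12) (ka xa6 ya47 za1) (ka xa6 ya47 za2) (ka xa4 ya49 za44) (ka xa17 ya34 za9) (ka xa6 ya47 za7) (ka xa6 ya47 za6) (ka xa5 ya0 za1) (ka xa5 ya0 za0) (ka xa4 ya49 za46) (ka xa17 ya34 za18) (ka xa17 ya34 za19) (ka xa6 ya46 za31) (ka xa12 ya54 za49) (ka xa6 ya47 za21) (ka xa6 ya47 za20) (ka xa10 ya11 za13) (ka xa10 ya11 za31) (ka xa17 ya34 za35) (ka xa6 ya46 za37) (ka xa17 ya34 za38) (ka xa15 ya24 za39) (ka xa6 ya46 za40) (ka xa6 ya46 za41) (ka xa6 ya46 za42) (ka xa6 ya46 za44) (ka xa6 ya47 za33) (ka xa4 ya49 za55) (ka xa11 ya6 za61) (ka xa6 ya46 za55) (ka xa5 ya14 za25) (ka xa4 ya49 za60) (ka xa6 ya30 za15) (ka xa4 ya50 za0) (ka xa11 ya59 za13) (ka xa6 ya47 za29) (ka xa17 ya34 za51) (ka xa6 ya26 za7) (ka xa17 ya34 za53) (ka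 xa6 ya40 za16) (ka xa6 ya47 za44) (ka xa12 ya19 za11) (ka xa12 ya32 za47) (ka xa17 ya16 za49) (ka xa17 ya14 za53) (ka xa7 ya31 za44) (ka xa6 ya47 za49) (ka xa6 ya47 za50) (ka xa12 ya24 za59) (ka xa7 ya31 za49) (ka xa6 ya47 za53) (ka xa9 ya10 za42) (ka xa12 ya20 za33) (ka xa6 ya47 za58) (ka xa17 ya34 za50) (ka xa17 ya34 za49) (ka xa4 ya50 za17) (ka xa17 ya35 za7) (ka xa6 ya48 za1) (ka xa6 ya48 za11) (ka xa6 ya48 za10) (ka xa4 ya50 za19)) (@D3.rec (fun _ => Pt) (ka xa17 ya35 za13) (ka xa16 ya14 za39) (ka xa6 ya52 za42) (ka xa6 ya9 za29) (ka xa6 ya9 za28) (ka xa4 ya50 za23) (ka xa16 ya14 za37) (ka xa6 ya48 za42) (ka xa12 ya20 za25) (ka xa12 ya12 za17) (ka xa12 ya12 za18) (ka xa17 ya35 za31) (ka xa12 ya12 za14) (ka xa12 ya12 za15) (ka xa8 ya13 za11) (ka xa8 ya13 za12) (ka xa10 ya16 za49) (ka xa10 ya24 za9) (ka xa8 ya13 za36)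 (ka xa10 ya24 za18) (ka xa17 ya35 za49) (ka xa10 ya33 za29) (ka xa10 ya9 za36) (ka xa17 ya35 za55) (ka xa8 ya14 za15) (ka xa5 ya36 za1) (ka xa5 ya36 za2) (ka xa5 ya36 za4) (ka xa15 ya47 za15) (ka xa8 ya6 za50) (ka xa8 ya6 za51) (ka xa8 ya20 za4) (ka xa8 ya6 za56) (ka xa8 ya6 za57) (ka xa17 ya36 za7) (ka xa17 ya36 za12) (ka xa4 ya50 za43) (ka xa17 ya36 za17) (ka xa17 ya36 za6) (ka xa8 ya6 za35) (ka xa8 ya6 za43) (ka xa8 ya7 za12) (ka xa8 ya7 za10) (ka xa7 ya57 za52) (ka xa4 ya51 za10) (ka xa17 ya36 za28) (ka xa4 ya51 za13) (ka xa4 ya51 za14) (ka xa17 ya36 za36) (ka xa4 ya51 za27) (ka xa4 ya51 za28) (ka xa16 ya1 za6) (ka xa17 ya36 za44) (ka xa4 ya51 za34) (ka xa4 ya51 za35) (ka xa4 ya51 za37) (ka xa4 ya51 za43) (ka xa4 ya51 za44) (ka xa4 ya51 za45) (ka xa4 ya51 za48) (ka xa17 ya36 za54) (ka xa17 ya36 za59)) (@D3.rec (fun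 _ => Pt) (ka xa4 ya50 za58) (ka xa17 ya37 za2) (ka xa17 ya36 za53) (ka xa4 ya52 za1) (ka xa4 ya52 za3) (ka xa17 ya37 za12) (ka xa15 ya51 za18) (ka xa15 ya51 za19) (ka xa8 ya24 za41) (ka xa15 ya51 za20) (ka xa5 ya23 za31) (ka xa17 ya37 za19) (ka xa8 ya17 za4) (ka xa8 ya17 za5) (ka xa8 ya17 za7) (ka xa17 ya37 za23) (ka xa8 ya24 za47) (ka xa8 ya24 za48) (ka xa8 ya24 za49) (ka xa8 ya24 za50) (ka xa8 ya24 za51) (ka xa17 ya37 za34) (ka xa9 ya35 za14) (ka xa17 ya36 za25) (ka xa17 ya37 za41) (ka xa9 ya35 za13) (ka xa8 ya41 za7) (ka xa17 ya36 za35) (ka xa17 ya36 za34) (ka xa4 ya51 za12) (ka xa17 ya37 za54) (ka xa17 ya37 za55) (ka xa8 ya40 za30) (ka xa17 ya36 za31) (ka xa17 ya36 za32) (ka xa16 ya3 za35) (ka xa17 ya36 za33) (ka xa16 ya8 za5) (ka xa8 ya25 za2) (ka xa5 ya1 za44) (ka xa5 ya1 za43) (ka xa5 ya1 za46) (ka xa14 ya15 za21)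 (ka xa5 ya1 za42) (ka xa4 ya51 za22) (ka xa8 ya25 za13) (ka xa17 ya38 za24) (ka xa10 ya32 za43) (ka xa16 ya2 za60) (ka xa8 ya25 za40) (ka xa16 ya8 za47) (ka xa17 ya38 za30) (ka xa8 ya40 za16) (ka xa8 ya40 za17) (ka xa8 ya40 za19) (ka xa17 ya36 za27) (ka xa17 ya36 za26) (ka xa4 ya51 za26) (ka xa17 ya38 za38) (ka xa17 ya38 za39) (ka xa17 ya36 za39) (ka xa17 ya36 za40)) (@D3.rec (fun _ => Pt) (ka xa8 ya40 za34) (ka xa17 ya36 za41) (ka xa16 ya9 za39) (ka xa16 ya1 za7) (ka xa9 ya38 za52) (ka xa16 ya1 za8) (ka xa17 ya38 za60) (ka xa8 ya40 za32) (ka xa16 ya1 za23) (ka xa16 ya1 za22) (ka xa4 ya51 za33) (ka xa17 ya39 za6) (ka xa17 ya39 za7) (ka xa9 ya34 za25) (ka xa9 ya34 za22) (ka xa17 ya36 za47) (ka xa17 ya36 za48) (ka xa16 ya5 za44) (ka xa17 ya36 za49) (ka xa15 ya23 za15) (ka xa9 ya38 za56) (ka xa9 ya38 za57) (ka xa15 ya37 za45)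 (ka xa15 ya22 za18) (ka xa4 ya51 za41) (ka xa17 ya39 za37) (ka xa10 ya32 za36) (ka xa10 ya32 za37) (ka xa9 ya38 za61) (ka xa17 ya39 za34) (ka xa8 ya11 za5) (ka xa17 ya39 za35) (ka xa17 ya36 za43) (ka xa17 ya36 za42) (ka xa4 ya51 za42) (ka xa17 ya39 za48) (ka xa13 ya52 za36) (ka xa17 ya36 za50) (ka xa17 ya36 za51) (ka xa9 ya52 za53) (ka xa15 ya11 za47) (ka xa17 ya36 za52) (ka xa16 ya50 za15) (ka xa9 ya39 za4) (ka xa5 ya1 za11) (ka xa5 ya1 za14) (ka xa16 ya14 za27) (ka xa16 ya14 za26) (ka xa4 ya51 za49) (ka xa17 ya40 za4) (ka xa12 ya17 za38) (ka xa8 ya36 za34) (ka xa15 ya37 za44) (ka xa15 ya37 za46) (ka xa15 ya18 za56) (ka xa15 ya37 za40) (ka xa15 ya37 za39) (ka xa4 ya51 za52) (ka xa17 ya40 za21) (ka xa17 ya40 za22) (ka xa16 ya14 za31) (ka xa10 ya8 za47)) (@D3.rec (fun _ => Pt) (ka xa12 ya30 za44) (ka xa4 ya51 za59) (ka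 xa17 ya40 za35) (ka xa16 ya6 za55) (ka xa12 ya26 za48) (ka xa4 ya51 za56) (ka xa17 ya40 za43) (ka xa17 ya40 za41) (ka xa4 ya51 za58) (ka xa17 ya40 za47) (ka xa17 ya40 za48) (ka xa17 ya40 za49) (ka xa17 ya40 za50) (ka xa17 ya40 za32) (ka xa17 ya40 za33) (ka xa17 ya41 za8) (ka xa15 ya34 za49) (ka xa17 ya40 za56) (ka xa16 ya14 za23) (ka xa17 ya41 za20) (ka xa9 ya36 za24) (ka xa17 ya37 za7) (ka xa17 ya37 za8) (ka xa17 ya37 za9) (ka xa9 ya36 za20) (ka xa9 ya52 za42) (ka xa10 ya45 za54) (ka xa8 ya42 za25) (ka xa9 ya38 za40) (ka xa9 ya38 za41) (ka xa16 ya7 za11) (ka xa8 ya42 za24) (ka xa9 ya38 za37) (ka xa9 ya38 za38) (ka xa12 ya59 za60) (ka xa4 ya52 za11) (ka xa4 ya52 za12) (ka xa4 ya52 za13) (ka xa4 ya52 za14) (ka xa17 ya41 za56) (ka xa9 ya38 za60) (ka xa5 ya43 za49) (ka xa15 ya45 za58) (ka xa6 ya22 za24) (ka xa6 ya22 za23)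 (ka xa17 ya41 za51) (ka xa15 ya45 za1) (ka xa17 ya41 za52) (ka xa17 ya41 za53) (ka xa4 ya52 za25) (ka xa9 ya37 za43) (ka xa17 ya41 za54) (ka xa15 ya29 za35) (ka xa16 ya9 za31) (ka xa9 ya37 za47) (ka xa9 ya38 za58) (ka xa12 ya59 za56) (ka xa4 ya52 za22) (ka xa4 ya52 za23) (ka xa4 ya52 za24) (ka xa4 ya52 za26) (ka xa17 ya42 za27)) (@D3.rec (fun _ => Pt) (ka xa8 ya40 za12) (ka xa17 ya42 za23) (ka xa16 ya6 za33) (ka xa17 ya13 za12) (ka xa17 ya42 za24) (ka xa9 ya37 za55) (ka xa15 ya38 za34) (ka xa16 ya9 za33) (ka xa16 ya1 za34) (ka xa15 ya38 za35) (ka xa4 ya52 za42) (ka xa4 ya52 za32) (ka xa17 ya39 za46) (ka xa15 ya46 za20) (ka xa17 ya42 za47) (ka xa17 ya42 za42) (ka xa6 ya42 za47) (ka xa4 ya52 za36) (ka xa14 ya56 za45) (ka xa8 ya40 za26) (ka xa17 ya42 za53) (ka xa4 ya52 za40) (ka xa4 ya52 za41) (ka xa4 ya53 za42) (ka xa4 ya53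 za10) (ka xa17 ya42 za60) (ka xa6 ya47 za47) (ka xa9 ya37 za28) (ka xa9 ya37 za27) (ka xa16 ya7 za16) (ka xa15 ya48 za6) (ka xa16 ya7 za17) (ka xa8 ya7 za57) (ka xa8 ya7 za56) (ka xa4 ya52 za46) (ka xa17 ya43 za11) (ka xa8 ya7 za34) (ka xa8 ya7 za35) (ka xa8 ya7 za37) (ka xa8 ya6 za37) (ka xa5 ya28 za4) (ka xa8 ya7 za39) (ka xa15 ya39 za34) (ka xa9 ya36 za50) (ka xa8 ya18 za10) (ka xa15 ya39 za35) (ka xa8 ya41 za14) (ka xa9 ya36 za54) (ka xa8 ya41 za15) (ka xa15 ya6 za43) (ka xa11 ya3 za8) (ka xa9 ya0 za60) (ka xa4 ya52 za61) (ka xa11 ya52 za2) (ka xa11 ya52 za3) (ka xa9 ya37 za5) (ka xa17 ya43 za30) (ka xa17 ya43 za31) (ka xa8 ya41 za36) (ka xa11 ya8 za57) (ka xa8 ya41 za37) (ka xa8 ya41 za31)) (@D3.rec (fun _ => Pt) (ka xa8 ya41 za30) (ka xa4 ya53 za3) (ka xa17 ya43 za44) (ka xa17 ya43 za45) (ka xa17 ya43 za46) (ka xa8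 ya41 za13) (ka xa8 ya41 za16) (ka xa8 ya41 za17) (ka xa8 ya41 za9) (ka xa8 ya41 za8) (ka xa4 ya53 za6) (ka xa17 ya44 za2) (ka xa17 ya44 za3) (ka xa8 ya41 za35) (ka xa8 ya41 za38) (ka xa8 ya41 za39) (ka xa17 ya44 za13) (ka xa15 ya46 za30) (ka xa12 ya17 za23) (ka xa17 ya44 za19) (ka xa15 ya54 za2) (ka xa4 ya53 za12) (ka xa15 ya7 za35) (ka xa15 ya7 za34) (ka xa17 ya40 za60) (ka xa17 ya44 za23) (ka xa17 ya44 za34) (ka xa8 ya40 za43) (ka xa17 ya44 za38) (ka xa8 ya41 za0) (ka xa15 ya7 za0) (ka xa15 ya7 za1) (ka xa15 ya7 za2) (ka xa8 ya42 za27) (ka xa8 ya42 za30) (ka xa15 ya7 za3) (ka xa15 ya41 za8) (ka xa9 ya36 za32) (ka xa9 ya36 za33) (ka xa15 ya47 za34) (ka xa9 ya36 za28) (ka xa9 ya36 za29) (ka xa4 ya53 za22) (ka xa4 ya53 za23) (ka xa4 ya53 za24) (ka xa16 ya13 za55) (ka xa12 ya20 za23) (ka xa16 ya13 za56) (ka xa12 ya20 za22)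 (ka xa15 ya6 za40) (ka xa17 ya5 za12) (ka xa17 ya44 za60) (ka xa9 ya35 za4) (ka xa17 ya5 za16) (ka xa15 ya25 za59) (ka xa11 ya4 za48) (ka xa9 ya35 za20) (ka xa9 ya35 za21) (ka xa9 ya36 za55) (ka xa6 ya48 za49) (ka xa9 ya36 za40) (ka xa9 ya35 za28)) (@D3.rec (fun _ => Pt) (ka xa12 ya16 za7) (ka xa11 ya4 za52) (ka xa15 ya6 za44) (ka xa12 ya16 za5) (ka xa9 ya35 za43) (ka xa9 ya25 za1) (ka xa16 ya17 za29) (ka xa16 ya6 za46) (ka xa16 ya17 za50) (ka xa16 ya17 za54) (ka xa12 ya12 za4) (ka xa12 ya58 za17) (ka xa12 ya24 za26) (ka xa17 ya42 za61) (ka xa13 ya13 za31) (ka xa15 ya47 za45) (ka xa15 ya47 za46) (ka xa15 ya47 za47) (ka xa5 ya47 za58) (ka xa5 ya49 za17) (ka xa5 ya1 za16) (ka xa8 ya11 za4) (ka xa5 ya1 za17) (ka xa5 ya1 za18) (ka xa15 ya30 za57) (ka xa5 ya1 za40) (ka xa16 ya23 za38) (ka xa10 ya16 za42) (ka xa15 ya50 za51)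 (ka xa8 ya3 za57) (ka xa8 ya3 za58) (ka xa8 ya4 za9) (ka xa17 ya45 za49) (ka xa9 ya40 za5) (ka xa9 ya40 za6) (ka xa17 ya45 za53) (ka xa5 ya2 za12) (ka xa5 ya2 za13) (ka xa5 ya2 za16) (ka xa17 ya46 za1) (ka xa5 ya3 za19) (ka xa5 ya3 za20) (ka xa5 ya3 za21) (ka xa5 ya3 za22) (ka xa5 ya3 za23) (ka xa17 ya46 za15) (ka xa9 ya40 za19) (ka xa9 ya40 za20) (ka xa17 ya46 za23) (ka xa9 ya40 za22) (ka xa9 ya40 za23) (ka xa17 ya46 za28) (ka xa17 ya46 za31) (ka xa4 ya54 za11) (ka xa17 ya46 za21) (ka xa17 ya46 za27) (ka xa9 ya40 za29) (ka xa9 ya40 za30) (ka xa9 ya40 za31) (ka xa9 ya40 za32) (ka xa9 ya40 za33) (ka xa9 ya40 za34)) (@D3.rec (fun _ => Pt) (ka xa5 ya4 za46) (ka xa5 ya8 za45) (ka xa5 ya8 za46) (ka xa5 ya9 za2) (ka xa17 ya46 za59) (ka xa9 ya39 za33) (ka xa9 ya39 za34) (ka xa17 ya47 za1) (ka xa5 ya10 za10) (ka xa5 ya10 za11)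 (ka xa5 ya10 za12) (ka xa5 ya10 za14) (ka xa17 ya47 za11) (ka xa5 ya10 za54) (ka xa5 ya10 za55) (ka xa5 ya10 za56) (ka xa5 ya10 za57) (ka xa5 ya10 za58) (ka xa17 ya47 za23) (ka xa9 ya39 za46) (ka xa9 ya39 za47) (ka xa17 ya47 za31) (ka xa9 ya39 za49) (ka xa9 ya39 za50) (ka xa17 ya47 za38) (ka xa17 ya47 za43) (ka xa4 ya54 za26) (ka xa9 ya57 za47) (ka xa17 ya47 za37) (ka xa9 ya39 za56) (ka xa9 ya39 za57) (ka xa9 ya39 za58) (ka xa9 ya39 za59) (ka xa9 ya39 za60) (ka xa9 ya39 za61) (ka xa5 ya11 za54) (ka xa17 ya48 za4) (ka xa4 ya54 za59) (ka xa4 ya54 za60) (ka xa17 ya48 za10) (ka xa4 ya55 za12) (ka xa4 ya55 za13) (ka xa17 ya48 za15) (ka xa4 ya55 za19) (ka xa4 ya55 za20) (ka xa4 ya55 za22) (ka xa4 ya55 za24) (ka xa4 ya55 za28) (ka xa4 ya55 za29) (ka xa4 ya55 za30) (ka xa4 ya55 za33) (ka xa17 ya48 za28) (ka xa4 ya55 za38) (ka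 xa4 ya55 za39) (ka xa17 ya48 za33) (ka xa17 ya48 za36) (ka xa4 ya54 za39) (ka xa17 ya48 za40) (ka xa17 ya48 za32) (ka xa4 ya55 za46) (ka xa4 ya55 za48) (ka xa4 ya55 za50)) (@D3.rec (fun _ => Pt) (ka xa5 ya35 za32) (ka xa17 ya48 za50) (ka xa16 ya13 za37) (ka xa15 ya35 za2) (ka xa5 ya35 za60) (ka xa16 ya13 za38) (ka xa5 ya38 za51) (ka xa5 ya38 za57) (ka xa17 ya48 za58) (ka xa15 ya1 za15) (ka xa8 ya27 za43) (ka xa8 ya38 za32) (ka xa15 ya1 za16) (ka xa17 ya49 za3) (ka xa5 ya36 za13) (ka xa5 ya36 za14) (ka xa5 ya36 za15) (ka xa5 ya36 za16) (ka xa5 ya36 za17) (ka xa17 ya49 za14) (ka xa9 ya42 za13) (ka xa10 ya35 za23) (ka xa17 ya30 za43) (ka xa9 ya42 za12) (ka xa10 ya35 za28) (ka xa17 ya48 za9) (ka xa17 ya48 za8) (ka xa4 ya54 za58) (ka xa17 ya49 za30) (ka xa17 ya49 za31) (ka xa10 ya35 za16) (ka xa17 ya48 za6) (ka xa10 ya35 za37)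 (ka xa10 ya35 za38) (ka xa17 ya48 za7) (ka xa13 ya10 za45) (ka xa5 ya36 za53) (ka xa5 ya36 za61) (ka xa8 ya13 za47) (ka xa8 ya13 za49) (ka xa17 ya50 za2) (ka xa8 ya13 za46) (ka xa8 ya26 za43) (ka xa5 ya38 za53) (ka xa17 ya50 za6) (ka xa8 ya26 za45) (ka xa8 ya26 za46) (ka xa5 ya39 za12) (ka xa8 ya26 za48) (ka xa17 ya50 za11) (ka xa15 ya36 za42) (ka xa5 ya39 za15) (ka xa15 ya23 za9) (ka xa17 ya48 za3) (ka xa17 ya48 za2) (ka xa4 ya55 za11) (ka xa17 ya50 za18) (ka xa17 ya50 za19) (ka xa17 ya48 za13) (ka xa10 ya37 za41) (ka xa10 ya37 za44) (ka xa6 ya2 za27)) (@D3.rec (fun _ => Pt) (ka xa16 ya51 za12) (ka xa5 ya39 za46) (ka xa16 ya40 za44) (ka xa15 ya3 za22) (ka xa9 ya52 za57) (ka xa16 ya40 za45) (ka xa17 ya50 za40) (ka xa10 ya35 za17) (ka xa16 ya40 za56) (ka xa16 ya40 za55) (ka xa4 ya55 za18) (ka xa17 ya50 za46) (ka xa9 ya41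 za23) (ka xa9 ya41 za20) (ka xa17 ya48 za18) (ka xa15 ya19 za39) (ka xa16 ya45 za53) (ka xa17 ya48 za19) (ka xa10 ya38 za49) (ka xa15 ya3 za25) (ka xa10 ya38 za50) (ka xa17 ya46 za51) (ka xa17 ya48 za20) (ka xa9 ya54 za60) (ka xa17 ya51 za9) (ka xa8 ya26 za58) (ka xa8 ya26 za59) (ka xa8 ya26 za60) (ka xa8 ya26 za61) (ka xa8 ya27 za1) (ka xa17 ya33 za42) (ka xa17 ya48 za14) (ka xa4 ya55 za27) (ka xa17 ya51 za17) (ka xa17 ya51 za18) (ka xa17 ya48 za21) (ka xa17 ya48 za22) (ka xa15 ya20 za27) (ka xa17 ya48 za23) (ka xa17 ya48 za24) (ka xa17 ya48 za25) (ka xa15 ya49 za35) (ka xa15 ya3 za26) (ka xa8 ya13 za26) (ka xa8 ya13 za24) (ka xa8 ya13 za27) (ka xa17 ya48 za27) (ka xa17 ya48 za26) (ka xa4 ya55 za34) (ka xa17 ya51 za47) (ka xa17 ya51 za48) (ka xa17 ya51 za49) (ka xa8 ya57 za44) (ka xa10 ya38 za48) (ka xa10 ya38 za51) (ka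 xa10 ya38 za52) (ka xa10 ya38 za44) (ka xa10 ya38 za43) (ka xa4 ya55 za37) (ka xa17 ya52 za5) (ka xa12 ya25 za26) (ka xa9 ya55 za46)) (@D3.rec (fun _ => Pt) (ka xa17 ya0 za16) (ka xa17 ya48 za31) (ka xa4 ya55 za44) (ka xa17 ya52 za12) (ka xa8 ya35 za31) (ka xa17 ya52 za14) (ka xa9 ya57 za15) (ka xa4 ya55 za43) (ka xa9 ya43 za37) (ka xa9 ya43 za38) (ka xa9 ya58 za51) (ka xa17 ya52 za18) (ka xa10 ya35 za8) (ka xa16 ya20 za23) (ka xa10 ya27 za39) (ka xa17 ya52 za24) (ka xa5 ya25 za38) (ka xa10 ya27 za9) (ka xa10 ya27 za7) (ka xa5 ya25 za34) (ka xa10 ya42 za41) (ka xa15 ya25 za56) (ka xa16 ya8 za39) (ka xa15 ya25 za60) (ka xa15 ya25 za61) (ka xa9 ya57 za41) (ka xa8 ya27 za16) (ka xa15 ya25 za58) (ka xa11 ya4 za49) (ka xa8 ya26 za52) (ka xa8 ya8 za20) (ka xa8 ya28 za4) (ka xa8 ya8 za21) (ka xa8 ya28 za6) (ka xa8 ya28 za8) (ka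 xa15 ya2 za14) (ka xa15 ya2 za15) (ka xa9 ya43 za8) (ka xa9 ya43 za9) (ka xa17 ya50 za16) (ka xa9 ya55 za45) (ka xa4 ya56 za3) (ka xa4 ya56 za4) (ka xa4 ya56 za5) (ka xa4 ya56 za6) (ka xa4 ya56 za7) (ka xa17 ya52 za60) (ka xa11 ya2 za34) (ka xa13 ya59 za12) (ka xa15 ya20 za24) (ka xa15 ya20 za30) (ka xa14 ya49 za5) (ka xa14 ya50 za30) (ka xa10 ya56 za34) (ka xa10 ya39 za45) (ka xa15 ya49 za4) (ka xa16 ya41 za2) (ka xa10 ya39 za46) (ka xa15 ya2 za31) (ka xa4 ya56 za23) (ka xa10 ya41 za20) (ka xa4 ya56 za13)) (@D3.rec (fun _ => Pt) (ka xa4 ya56 za14) (ka xa4 ya56 za15) (ka xa8 ya57 za22) (ka xa10 ya41 za21) (ka xa10 ya41 za22) (ka xa10 ya17 za0) (ka xa17 ya53 za28) (ka xa17 ya8 za49) (ka xa5 ya28 za60) (ka xa10 ya55 za25) (ka xa4 ya56 za19) (ka xa12 ya56 za44) (ka xa9 ya51 za13) (ka xa8 ya57 za61) (ka xa4 ya56 za17) (ka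 xa10 ya58 za48) (ka xa17 ya53 za30) (ka xa17 ya53 za31) (ka xa15 ya8 za57) (ka xa10 ya14 za28) (ka xa8 ya58 za9) (ka xa11 ya57 za33) (ka xa11 ya57 za32) (ka xa17 ya0 za24) (ka xa11 ya22 za42) (ka xa17 ya53 za46) (ka xa10 ya54 za44) (ka xa10 ya54 za45) (ka xa10 ya54 za46) (ka xa8 ya28 za36) (ka xa8 ya28 za37) (ka xa16 ya10 za20) (ka xa11 ya3 za9) (ka xa8 ya10 za26) (ka xa8 ya5 za2) (ka xa4 ya56 za36) (ka xa12 ya7 za50) (ka xa12 ya5 za4) (ka xa15 ya5 za44) (ka xa12 ya8 za37) (ka xa6 ya15 za30) (ka xa6 ya15 za26) (ka xa15 ya3 za48) (ka xa8 ya12 za18) (ka xa12 ya22 za4) (ka xa4 ya56 za44) (ka xa12 ya9 za60) (ka xa12 ya5 za42) (ka xa17 ya53 za58) (ka xa8 ya42 za40) (ka xa8 ya42 za39) (ka xa4 ya56 za46) (ka xa17 ya54 za1) (ka xa17 ya54 za2) (ka xa8 ya42 za20) (ka xa8 ya41 za4) (ka xa8 ya43 za19) (ka xa8 ya43 za20) (ka xa4 ya56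 za54) (ka xa17 ya54 za19) (ka xa17 ya54 za20) (ka xa17 ya54 za29)) (@D3.rec (fun _ => Pt) (ka xa8 ya42 za18) (ka xa8 ya43 za31) (ka xa8 ya43 za32) (ka xa8 ya43 za33) (ka xa11 ya23 za13) (ka xa17 ya54 za38) (ka xa8 ya41 za50) (ka xa8 ya43 za57) (ka xa8 ya43 za58) (ka xa8 ya43 za59) (ka xa8 ya38 za11) (ka xa4 ya57 za42) (ka xa4 ya57 za45) (ka xa4 ya57 za11) (ka xa5 ya38 za11) (ka xa5 ya40 za26) (ka xa10 ya39 za32) (ka xa16 ya21 za41) (ka xa11 ya6 za55) (ka xa5 ya40 za4) (ka xa11 ya6 za27) (ka xa11 ya24 za35) (ka xa5 ya40 za36) (ka xa5 ya40 za37) (ka xa6 ya8 za53) (ka xa11 ya16 za48) (ka xa14 ya38 za55) (ka xa17 ya54 za52) (ka xa13 ya55 za36) (ka xa4 ya57 za22) (ka xa4 ya57 za23) (ka xa5 ya40 za1) (ka xa4 ya57 za18) (ka xa15 ya7 za10) (ka xa7 ya33 za46) (ka xa5 ya40 za54) (ka xa16 ya53 za7) (ka xa17 ya55 za5) (ka xa11 ya6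 za26) (ka xa11 ya24 za34) (ka xa17 ya55 za20) (ka xa15 ya45 za51) (ka xa17 ya55 za4) (ka xa5 ya41 za9) (ka xa11 ya27 za28) (ka xa16 ya51 za50) (ka xa4 ya57 za32) (ka xa4 ya57 za36) (ka xa4 ya57 za37) (ka xa4 ya57 za39) (ka xa4 ya57 za40) (ka xa4 ya57 za41) (ka xa16 ya55 za10) (ka xa15 ya45 za53) (ka xa13 ya53 za12) (ka xa5 ya38 za29) (ka xa7 ya57 za11) (ka xa10 ya38 za39) (ka xa8 ya32 za51) (ka xa15 ya3 za43) (ka xa13 ya54 za31) (ka xa4 ya57 za35)) (@D3.rec (fun _ => Pt) (ka xa17 ya55 za43) (ka xa17 ya55 za44) (ka xa6 ya4 za18) (ka xa5 ya44 za46) (ka xa12 ya13 za40) (ka xa5 ya44 za44) (ka xa13 ya59 za7) (ka xa13 ya57 za34) (ka xa13 ya59 za5) (ka xa13 ya58 za19) (ka xa16 ya55 za27) (ka xa17 ya55 za29) (ka xa17 ya55 za30) (ka xa17 ya56 za7) (ka xa17 ya55 za31) (ka xa11 ya24 za26) (ka xa17 ya55 za32) (ka xa17 ya54 za49) (ka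 xa17 ya54 za47) (ka xa12 ya31 za52) (ka xa17 ya54 za48) (ka xa4 ya58 za61) (ka xa5 ya0 za4) (ka xa5 ya0 za6) (ka xa5 ya0 za5) (ka xa17 ya54 za50) (ka xa11 ya19 za18) (ka xa15 ya3 za42) (ka xa17 ya56 za29) (ka xa11 ya26 za53) (ka xa4 ya57 za49) (ka xa17 ya56 za32) (ka xa11 ya26 za28) (ka xa17 ya56 za33) (ka xa17 ya56 za34) (ka xa10 ya13 za25) (ka xa11 ya55 za45) (ka xa9 ya58 za1) (ka xa11 ya28 za61) (ka xa12 ya4 za23) (ka xa15 ya4 za33) (ka xa4 ya57 za55) (ka xa17 ya56 za45) (ka xa17 ya56 za46) (ka xa11 ya27 za7) (ka xa10 ya48 za59) (ka xa15 ya4 za36) (ka xa10 ya6 za51) (ka xa10 ya48 za54) (ka xa5 ya36 za21) (ka xa11 ya12 za45) (ka xa11 ya10 za41) (ka xa11 ya55 za46) (ka xa9 ya51 za19) (ka xa17 ya56 za55) (ka xa16 ya43 za58) (ka xa8 ya47 za17) (ka xa8 ya47 za18) (ka xa15 ya6 za10) (ka xa8 ya47 za20) (ka xa8 ya47 za21) (ka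 xa8 ya47 za22)) (@D3.rec (fun _ => Pt) (ka xa8 ya47 za23) (ka xa8 ya47 za24) (ka xa8 ya47 za25) (ka xa8 ya2 za21) (ka xa8 ya2 za31) (ka xa8 ya47 za26) (ka xa8 ya47 za27) (ka xa8 ya47 za29) (ka xa8 ya47 za30) (ka xa17 ya57 za28) (ka xa8 ya47 za33) (ka xa8 ya47 za36) (ka xa8 ya47 za37) (ka xa8 ya47 za38) (ka xa17 ya57 za38) (ka xa8 ya47 za42) (ka xa8 ya47 za45) (ka xa8 ya47 za46) (ka xa6 ya36 za20) (ka xa4 ya59 za53) (ka xa5 ya0 za2) (ka xa5 ya0 za7) (ka xa4 ya58 za44) (ka xa4 ya58 za49) (ka xa5 ya48 za16) (ka xa5 ya51 za15) (ka xa16 ya29 za26) (ka xa5 ya51 za29) (ka xa14 ya12 za50) (ka xa9 ya48 za13) (ka xa15 ya26 za29) (ka xa5 ya7 za35) (ka xa5 ya7 za45) (ka xa16 ya29 za27) (ka xa5 ya7 za55) (ka xa10 ya17 za10) (ka xa8 ya12 za39) (ka xa5 ya26 za52) (ka xa5 ya7 za12) (ka xa5 ya52 za11) (ka xa4 ya58 za60) (ka xa6 ya18 za13)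 (ka xa5 ya51 za35) (ka xa5 ya51 za37) (ka xa5 ya51 za38) (ka xa11 ya19 za15) (ka xa9 ya49 za14) (ka xa11 ya29 za6) (ka xa9 ya49 za13) (ka xa11 ya40 za35) (ka xa4 ya58 za39) (ka xa11 ya36 za21) (ka xa11 ya40 za27) (ka xa11 ya40 za29) (ka xa17 ya23 za38) (ka xa10 ya18 za61) (ka xa9 ya15 za23) (ka xa4 ya59 za2) (ka xa5 ya51 za52) (ka xa5 ya8 za21) (ka xa17 ya57 za43) (ka xa10 ya19 za2)) (@D3.rec (fun _ => Pt) (ka xa4 ya59 za4) (ka xa5 ya7 za5) (ka xa5 ya7 za6) (ka xa5 ya8 za6) (ka xa5 ya8 za7) (ka xa12 ya30 za55) (ka xa10 ya18 za15) (ka xa4 ya59 za8) (ka xa4 ya58 za58) (ka xa11 ya34 za4) (ka xa12 ya9 za7) (ka xa12 ya5 za35) (ka xa5 ya52 za6) (ka xa9 ya47 za29) (ka xa9 ya48 za18) (ka xa5 ya52 za23) (ka xa9 ya8 za45) (ka xa12 ya5 za37) (ka xa9 ya48 za14) (ka xa5 ya52 za35) (ka xa12 ya5 za36) (ka xa11 ya42 za31) (ka xa5 ya52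 za27) (ka xa17 ya56 za21) (ka xa5 ya52 za38) (ka xa15 ya22 za32) (ka xa9 ya7 za53) (ka xa4 ya59 za0) (ka xa11 ya36 za20) (ka xa11 ya39 za57) (ka xa11 ya42 za10) (ka xa11 ya42 za12) (ka xa14 ya54 za32) (ka xa12 ya29 za42) (ka xa5 ya52 za48) (ka xa5 ya32 za47) (ka xa5 ya52 za49) (ka xa5 ya52 za53) (ka xa17 ya58 za13) (ka xa12 ya29 za43) (ka xa5 ya53 za2) (ka xa5 ya53 za3) (ka xa5 ya53 za7) (ka xa11 ya42 za19) (ka xa11 ya28 za20) (ka xa14 ya34 za44) (ka xa17 ya58 za23) (ka xa16 ya59 za5) (ka xa16 ya59 za6) (ka xa9 ya50 za27) (ka xa9 ya12 za7) (ka xa4 ya59 za26) (ka xa4 ya59 za28) (ka xa4 ya59 za35) (ka xa14 ya32 za8) (ka xa12 ya16 za8) (ka xa12 ya16 za9) (ka xa6 ya37 za51) (ka xa4 ya59 za50) (ka xa4 ya59 za51) (ka xa4 ya59 za52) (ka xa11 ya48 za19)) (@D3.rec (fun _ => Pt) (ka xa4 ya59 za55) (ka xa4 ya59 za59) (ka xa4 ya59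 za60) (ka xa12 ya53 za40) (ka xa5 ya48 za30) (ka xa17 ya5 za23) (ka xa17 ya5 za24) (ka xa12 ya44 za4) (ka xa9 ya59 za6) (ka xa12 ya12 za25) (ka xa11 ya40 za30) (ka xa4 ya59 za24) (ka xa9 ya12 za4) (ka xa9 ya47 za48) (ka xa9 ya47 za46) (ka xa17 ya23 za18) (ka xa12 ya42 za57) (ka xa17 ya7 za30) (ka xa17 ya59 za9) (ka xa9 ya12 za0) (ka xa5 ya48 za49) (ka xa5 ya48 za50) (ka xa5 ya48 za60) (ka xa17 ya59 za10) (ka xa10 ya57 za15) (ka xa17 ya13 za14) (ka xa15 ya5 za15) (ka xa5 ya50 za20) (ka xa12 ya17 za45) (ka xa9 ya18 za12) (ka xa4 ya59 za33) (ka xa12 ya23 za11) (ka xa17 ya59 za60) (ka xa17 ya23 za26) (ka xa17 ya31 za6) (ka xa17 ya8 za0) (ka xa17 ya59 za11) (ka xa12 ya17 za3) (ka xa5 ya50 za34) (ka xa5 ya50 za24) (ka xa12 ya17 za4) (ka xa14 ya12 za22) (ka xa14 ya12 za25) (ka xa4 ya59 za39) (ka xa11 ya28 za7) (ka xa18 ya0 za15)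 (ka xa11 ya43 za49) (ka xa11 ya43 za51) (ka xa11 ya43 za52) (ka xa9 ya25 za29) (ka xa9 ya25 za26) (ka xa4 ya59 za42) (ka xa12 ya3 za9) (ka xa17 ya31 za38) (ka xa11 ya45 za16) (ka xa11 ya45 za17) (ka xa17 ya12 za55) (ka xa11 ya40 za18) (ka xa8 ya48 za7) (ka xa13 ya5 za22) (ka xa17 ya23 za45) (ka xa17 ya23 za46)) (@D3.rec (fun _ => Pt) (ka xa17 ya23 za47) (ka xa17 ya23 za48) (ka xa6 ya0 za48) (ka xa18 ya0 za50) (ka xa11 ya46 za40) (ka xa11 ya46 za41) (ka xa18 ya0 za57) (ka xa17 ya59 za19) (ka xa17 ya59 za20) (ka xa17 ya59 za21) (ka xa17 ya59 za22) (ka xa17 ya59 za23) (ka xa9 ya30 za39) (ka xa17 ya34 za20) (ka xa9 ya57 za0) (ka xa17 ya5 za60) (ka xa17 ya5 za61) (ka xa17 ya6 za0) (ka xa12 ya43 za1) (ka xa12 ya43 za42) (ka xa17 ya59 za24) (ka xa12 ya31 za43) (ka xa11 ya31 za58) (ka xa12 ya31 za42) (ka xa12 ya17 za29) (ka xa12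 ya24 za5) (ka xa4 ya59 za58) (ka xa9 ya48 za49) (ka xa18 ya1 za30) (ka xa17 ya59 za25) (ka xa11 ya6 za40) (ka xa11 ya30 za55) (ka xa6 ya39 za23) (ka xa10 ya43 za16) (ka xa12 ya25 za42) (ka xa10 ya43 za22) (ka xa17 ya34 za17) (ka xa10 ya57 za18) (ka xa11 ya56 za3) (ka xa17 ya34 za22) (ka xa17 ya36 za13) (ka xa10 ya49 za50) (ka xa15 ya22 za33) (ka xa15 ya26 za32) (ka xa16 ya59 za19) (ka xa17 ya56 za23) (ka xa16 ya59 za18) (ka xa17 ya56 za22) (ka xa11 ya32 za26) (ka xa11 ya32 za29) (ka xa18 ya2 za4) (ka xa11 ya43 za8) (ka xa5 ya0 za11) (ka xa5 ya0 za12) (ka xa9 ya18 za17) (ka xa11 ya31 za29) (ka xa9 ya59 za13) (ka xa9 ya55 za53) (ka xa10 ya6 za61) (ka xa15 ya5 za27) (ka xa11 ya47 za10) (ka xa5 ya0 za19)) (@D3.rec (fun _ => Pt) (ka xa15 ya5 za39) (ka xa15 ya5 za38) (ka xa8 ya49 za59) (ka xa11 ya7 za14) (ka xa12 ya32 za18)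 (ka xa6 ya51 za16) (ka xa16 ya13 za26) (ka xa6 ya51 za18) (ka xa11 ya51 za56) (ka xa11 ya51 za57) (ka xa11 ya51 za58) (ka xa5 ya38 za27) (ka xa5 ya31 za55) (ka xa9 ya44 za12) (ka xa5 ya31 za56) (ka xa17 ya56 za54) (ka xa17 ya56 za53) (ka xa5 ya0 za27) (ka xa18 ya2 za29) (ka xa9 ya46 za53) (ka xa7 ya14 za29) (ka xa6 ya16 za32) (ka xa5 ya0 za31) (ka xa8 ya47 za31) (ka xa8 ya51 za58) (ka xa8 ya51 za59) (ka xa16 ya23 za49) (ka xa10 ya40 za39) (ka xa7 ya58 za18) (ka xa18 ya2 za41) (ka xa9 ya51 za44) (ka xa9 ya51 za45) (ka xa18 ya2 za46) (ka xa5 ya24 za31) (ka xa5 ya24 za32) (ka xa11 ya2 za36) (ka xa11 ya2 za35) (ka xa5 ya0 za39) (ka xa16 ya10 za58) (ka xa9 ya51 za50) (ka xa5 ya23 za28) (ka xa9 ya51 za51) (ka xa18 ya3 za1) (ka xa8 ya53 za42) (ka xa9 ya51 za30) (ka xa9 ya51 za31) (ka xa16 ya41 za15) (ka xa16 ya49 za51) (ka xa5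 ya0 za43) (ka xa18 ya3 za10) (ka xa9 ya51 za39) (ka xa9 ya51 za41) (ka xa5 ya1 za5) (ka xa5 ya1 za8) (ka xa18 ya3 za22) (ka xa5 ya1 za10) (ka xa18 ya3 za26) (ka xa5 ya1 za25) (ka xa5 ya1 za26) (ka xa18 ya3 za31) (ka xa5 ya1 za35) (ka xa5 ya1 za36)) (@D3.rec (fun _ => Pt) (ka xa5 ya1 za38) (ka xa5 ya1 za39) (ka xa18 ya3 za43) (ka xa5 ya1 za48) (ka xa5 ya1 za49) (ka xa18 ya3 za51) (ka xa5 ya1 za51) (ka xa5 ya1 za52) (ka xa18 ya3 za57) (ka xa18 ya3 za60) (ka xa5 ya0 za53) (ka xa18 ya4 za3) (ka xa18 ya3 za56) (ka xa5 ya1 za58) (ka xa5 ya1 za59) (ka xa5 ya1 za61) (ka xa5 ya2 za1) (ka xa5 ya17 za15) (ka xa10 ya20 za27) (ka xa10 ya9 za55) (ka xa5 ya12 za15) (ka xa18 ya4 za21) (ka xa5 ya18 za12) (ka xa15 ya30 za50) (ka xa15 ya30 za51) (ka xa10 ya10 za15) (ka xa15 ya30 za52) (ka xa18 ya4 za28) (ka xa10 ya19 za52) (ka xa10 ya19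 za55) (ka xa18 ya4 za33) (ka xa9 ya54 za3) (ka xa10 ya10 za19) (ka xa10 ya10 za20) (ka xa10 ya10 za21) (ka xa10 ya8 za7) (ka xa18 ya4 za46) (ka xa9 ya54 za2) (ka xa10 ya8 za8) (ka xa17 ya43 za2) (ka xa9 ya53 za31) (ka xa15 ya16 za35) (ka xa9 ya36 za25) (ka xa9 ya53 za30) (ka xa10 ya8 za3) (ka xa18 ya3 za25) (ka xa18 ya3 za24) (ka xa5 ya1 za9) (ka xa18 ya5 za2) (ka xa18 ya5 za3) (ka xa15 ya14 za38) (ka xa16 ya16 za29) (ka xa16 ya15 za22) (ka xa9 ya35 za39) (ka xa16 ya19 za16) (ka xa16 ya15 za20) (ka xa16 ya19 za18) (ka xa9 ya42 za4) (ka xa17 ya23 za15) (ka xa9 ya3 za17) (ka xa9 ya3 za6) (ka xa15 ya48 za52)) (@D3.rec (fun _ => Pt) (ka xa17 ya45 za34) (ka xa18 ya5 za19) (ka xa15 ya14 za31) (ka xa8 ya6 za32) (ka xa18 ya3 za21) (ka xa18 ya3 za20) (ka xa5 ya1 za24) (ka xa18 ya5 za26) (ka xa18 ya3 za29) (ka xa15 ya19 za53) (ka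 xa15 ya19 za51) (ka xa15 ya54 za4) (ka xa10 ya7 za32) (ka xa11 ya4 za34) (ka xa10 ya11 za30) (ka xa11 ya4 za33) (ka xa18 ya5 za44) (ka xa11 ya4 za32) (ka xa18 ya5 za49) (ka xa5 ya18 za2) (ka xa15 ya30 za58) (ka xa10 ya11 za53) (ka xa15 ya30 za59) (ka xa10 ya30 za18) (ka xa15 ya14 za40) (ka xa17 ya38 za19) (ka xa17 ya38 za18) (ka xa5 ya1 za34) (ka xa12 ya35 za35) (ka xa18 ya5 za61) (ka xa9 ya52 za43) (ka xa9 ya52 za40) (ka xa18 ya3 za34) (ka xa18 ya3 za35) (ka xa18 ya3 za36) (ka xa18 ya3 za37) (ka xa18 ya3 za38) (ka xa10 ya12 za12) (ka xa10 ya12 za13) (ka xa18 ya3 za39) (ka xa11 ya2 za44) (ka xa18 ya3 za40) (ka xa10 ya12 za31) (ka xa17 ya45 za38) (ka xa17 ya45 za39) (ka xa18 ya3 za30) (ka xa16 ya22 za59) (ka xa5 ya1 za41) (ka xa18 ya6 za25) (ka xa14 ya15 za20) (ka xa17 ya38 za21) (ka xa16 ya22 za55) (ka xa17 ya38 za17)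 (ka xa13 ya18 za56) (ka xa7 ya33 za31) (ka xa17 ya38 za16) (ka xa16 ya22 za10) (ka xa10 ya12 za49) (ka xa18 ya3 za50) (ka xa18 ya3 za49) (ka xa5 ya1 za47) (ka xa18 ya6 za49)) (@D3.rec (fun _ => Pt) (ka xa18 ya6 za50) (ka xa18 ya6 za51) (ka xa9 ya52 za37) (ka xa9 ya52 za31) (ka xa18 ya3 za46) (ka xa18 ya3 za47) (ka xa18 ya3 za48) (ka xa18 ya3 za42) (ka xa18 ya3 za41) (ka xa5 ya1 za50) (ka xa18 ya7 za17) (ka xa18 ya7 za18) (ka xa18 ya3 za54) (ka xa16 ya20 za27) (ka xa18 ya3 za55) (ka xa5 ya1 za57) (ka xa5 ya1 za53) (ka xa10 ya30 za10) (ka xa5 ya18 za40) (ka xa18 ya7 za32) (ka xa18 ya7 za33) (ka xa5 ya1 za54) (ka xa18 ya7 za45) (ka xa18 ya1 za11) (ka xa18 ya7 za41) (ka xa18 ya7 za43) (ka xa5 ya1 za56) (ka xa18 ya7 za51) (ka xa18 ya7 za52) (ka xa15 ya29 za51) (ka xa18 ya7 za53) (ka xa18 ya7 za29) (ka xa18 ya7 za30) (ka xa18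 ya8 za9) (ka xa16 ya16 za21) (ka xa18 ya8 za14) (ka xa18 ya4 za10) (ka xa18 ya8 za23) (ka xa9 ya54 za42) (ka xa18 ya4 za11) (ka xa18 ya4 za12) (ka xa18 ya4 za13) (ka xa9 ya54 za38) (ka xa10 ya9 za27) (ka xa10 ya9 za26) (ka xa18 ya4 za14) (ka xa15 ya31 za5) (ka xa10 ya9 za33) (ka xa10 ya9 za34) (ka xa10 ya9 za35) (ka xa10 ya9 za31) (ka xa18 ya8 za54) (ka xa10 ya10 za55) (ka xa10 ya10 za56) (ka xa10 ya10 za29) (ka xa10 ya10 za57) (ka xa10 ya10 za58) (ka xa5 ya15 za24) (ka xa18 ya9 za5) (ka xa10 ya10 za53) (ka xa9 ya42 za23) (ka xa5 ya3 za0)) (@D3.rec (fun _ => Pt) (ka xa5 ya2 za60) (ka xa17 ya44 za53) (ka xa9 ya55 za4) (ka xa10 ya10 za61) (ka xa9 ya55 za2) (ka xa9 ya57 za29) (ka xa10 ya10 za60) (ka xa10 ya11 za1) (ka xa10 ya11 za0) (ka xa5 ya2 za11) (ka xa18 ya9 za28) (ka xa18 ya9 za29) (ka xa17 ya45 za56) (ka xa17 ya45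 za57) (ka xa17 ya45 za58) (ka xa17 ya45 za59) (ka xa17 ya45 za60) (ka xa17 ya39 za41) (ka xa15 ya48 za51) (ka xa10 ya7 za25) (ka xa15 ya48 za46) (ka xa15 ya48 za47) (ka xa18 ya9 za59) (ka xa10 ya7 za28) (ka xa10 ya7 za29) (ka xa10 ya7 za30) (ka xa10 ya7 za31) (ka xa10 ya10 za31) (ka xa10 ya10 za30) (ka xa5 ya2 za19) (ka xa17 ya59 za35) (ka xa18 ya10 za9) (ka xa9 ya59 za7) (ka xa10 ya10 za26) (ka xa10 ya10 za27) (ka xa9 ya59 za11) (ka xa10 ya10 za28) (ka xa10 ya9 za51) (ka xa10 ya2 za16) (ka xa10 ya2 za17) (ka xa10 ya10 za23) (ka xa10 ya10 za22) (ka xa5 ya2 za25) (ka xa9 ya59 za51) (ka xa18 ya10 za20) (ka xa9 ya43 za40) (ka xa9 ya42 za61) (ka xa10 ya2 za22) (ka xa5 ya2 za28) (ka xa10 ya40 za44) (ka xa12 ya38 za43) (ka xa18 ya10 za25) (ka xa9 ya57 za59) (ka xa9 ya50 za57) (ka xa10 ya2 za18) (ka xa10 ya2 za13) (ka xa10 ya2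 za12) (ka xa5 ya2 za31) (ka xa10 ya40 za43) (ka xa10 ya27 za3) (ka xa9 ya57 za57) (ka xa18 ya10 za41)) (@D3.rec (fun _ => Pt) (ka xa10 ya11 za19) (ka xa9 ya57 za51) (ka xa10 ya11 za20) (ka xa18 ya10 za46) (ka xa10 ya11 za16) (ka xa9 ya57 za50) (ka xa10 ya11 za17) (ka xa5 ya2 za37) (ka xa9 ya10 za1) (ka xa10 ya11 za23) (ka xa12 ya3 za37) (ka xa17 ya16 za31) (ka xa17 ya42 za34) (ka xa10 ya3 za58) (ka xa10 ya3 za61) (ka xa10 ya10 za47) (ka xa18 ya11 za4) (ka xa18 ya11 za6) (ka xa10 ya2 za40) (ka xa10 ya7 za51) (ka xa18 ya11 za10) (ka xa18 ya11 za12) (ka xa10 ya10 za51) (ka xa18 ya11 za16) (ka xa10 ya9 za38) (ka xa10 ya9 za39) (ka xa18 ya11 za23) (ka xa5 ya2 za58) (ka xa5 ya2 za59) (ka xa18 ya11 za30) (ka xa10 ya9 za57) (ka xa10 ya9 za58) (ka xa18 ya11 za37) (ka xa10 ya9 za49) (ka xa10 ya9 za50) (ka xa10 ya9 za52) (ka xa10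 ya9 za53) (ka xa18 ya11 za49) (ka xa9 ya58 za26) (ka xa10 ya10 za0) (ka xa18 ya11 za56) (ka xa9 ya58 za25) (ka xa10 ya9 za60) (ka xa10 ya10 za2) (ka xa10 ya10 za1) (ka xa5 ya2 za57) (ka xa18 ya12 za7) (ka xa18 ya12 za8) (ka xa18 ya11 za26) (ka xa18 ya9 za20) (ka xa18 ya11 za27) (ka xa18 ya9 za11) (ka xa10 ya7 za56) (ka xa18 ya9 za10) (ka xa15 ya24 za42) (ka xa15 ya24 za43) (ka xa15 ya24 za41) (ka xa15 ya24 za40) (ka xa12 ya2 za54) (ka xa10 ya10 za37) (ka xa9 ya58 za45) (ka xa10 ya10 za38)) (@D3.rec (fun _ => Pt) (ka xa9 ya50 za14) (ka xa10 ya10 za34) (ka xa9 ya58 za44) (ka xa10 ya10 za35) (ka xa5 ya3 za7) (ka xa5 ya3 za8) (ka xa10 ya10 za41) (ka xa7 ya31 za23) (ka xa18 ya12 za49) (ka xa18 ya12 za50) (ka xa18 ya10 za54) (ka xa18 ya12 za51) (ka xa18 ya10 za52) (ka xa10 ya3 za0) (ka xa10 ya3 za4) (ka xa9 ya43 za6) (ka xa10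 ya11 za27) (ka xa17 ya49 za4) (ka xa5 ya36 za12) (ka xa17 ya51 za19) (ka xa10 ya11 za29) (ka xa10 ya8 za10) (ka xa10 ya30 za21) (ka xa10 ya12 za20) (ka xa10 ya12 za22) (ka xa10 ya12 za21) (ka xa5 ya3 za18) (ka xa18 ya13 za11) (ka xa18 ya13 za12) (ka xa9 ya55 za5) (ka xa17 ya46 za4) (ka xa17 ya46 za5) (ka xa17 ya46 za6) (ka xa17 ya46 za7) (ka xa17 ya46 za8) (ka xa17 ya45 za35) (ka xa17 ya46 za9) (ka xa17 ya46 za10) (ka xa5 ya3 za49) (ka xa10 ya8 za18) (ka xa17 ya46 za11) (ka xa9 ya43 za25) (ka xa17 ya46 za12) (ka xa18 ya13 za45) (ka xa10 ya12 za38) (ka xa10 ya12 za39) (ka xa10 ya22 za38) (ka xa9 ya40 za27) (ka xa5 ya3 za27) (ka xa5 ya3 za28) (ka xa9 ya56 za5) (ka xa9 ya56 za1) (ka xa18 ya13 za51) (ka xa18 ya13 za52) (ka xa18 ya13 za53) (ka xa18 ya13 za54) (ka xa10 ya22 za47) (ka xa9 ya55 za60) (ka xa18 ya0 za12) (ka xa9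 ya55 za52) (ka xa10 ya12 za5) (ka xa10 ya22 za49)) (@D3.rec (fun _ => Pt) (ka xa10 ya12 za7) (ka xa9 ya46 za37) (ka xa10 ya12 za9) (ka xa10 ya12 za10) (ka xa10 ya12 za11) (ka xa10 ya8 za32) (ka xa10 ya8 za33) (ka xa10 ya13 za47) (ka xa10 ya12 za15) (ka xa10 ya12 za16) (ka xa18 ya14 za16) (ka xa10 ya12 za18) (ka xa10 ya12 za19) (ka xa18 ya14 za20) (ka xa5 ya3 za46) (ka xa5 ya3 za47) (ka xa5 ya3 za48) (ka xa5 ya3 za50) (ka xa18 ya14 za30) (ka xa10 ya11 za39) (ka xa10 ya11 za41) (ka xa10 ya11 za40) (ka xa5 ya3 za45) (ka xa18 ya14 za36) (ka xa18 ya14 za37) (ka xa9 ya56 za41) (ka xa9 ya56 za38) (ka xa18 ya14 za23) (ka xa18 ya14 za24) (ka xa18 ya13 za27) (ka xa18 ya14 za25) (ka xa18 ya14 za26) (ka xa10 ya8 za36) (ka xa18 ya14 za27) (ka xa17 ya51 za0) (ka xa15 ya30 za61) (ka xa18 ya13 za37) (ka xa10 ya22 za53) (ka xa10 ya11 za60)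 (ka xa12 ya35 za3) (ka xa10 ya11 za57) (ka xa10 ya11 za58) (ka xa5 ya3 za54) (ka xa5 ya3 za55) (ka xa9 ya57 za2) (ka xa9 ya56 za60) (ka xa18 ya15 za11) (ka xa18 ya15 za12) (ka xa16 ya7 za52) (ka xa16 ya7 za51) (ka xa10 ya42 za17) (ka xa9 ya43 za10) (ka xa10 ya22 za61) (ka xa18 ya15 za23) (ka xa10 ya12 za48) (ka xa10 ya8 za49) (ka xa10 ya13 za61) (ka xa10 ya13 za31) (ka xa5 ya4 za4) (ka xa5 ya4 za6) (ka xa10 ya13 za18) (ka xa10 ya13 za17)) (@D3.rec (fun _ => Pt) (ka xa13 ya14 za7) (ka xa13 ya14 za10) (ka xa6 ya40 za11) (ka xa7 ya48 za1) (ka xa10 ya13 za43) (ka xa6 ya38 za40) (ka xa9 ya49 za8) (ka xa9 ya55 za32) (ka xa6 ya40 za13) (ka xa6 ya37 za30) (ka xa10 ya13 za7) (ka xa9 ya55 za35) (ka xa10 ya13 za8) (ka xa9 ya50 za56) (ka xa10 ya13 za9) (ka xa10 ya13 za51) (ka xa10 ya12 za56) (ka xa10 ya12 za57) (ka xa18 ya15 za44)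 (ka xa10 ya12 za52) (ka xa10 ya12 za54) (ka xa5 ya4 za15) (ka xa5 ya4 za17) (ka xa10 ya12 za61) (ka xa10 ya12 za60) (ka xa18 ya15 za47) (ka xa18 ya15 za48) (ka xa10 ya3 za41) (ka xa10 ya3 za37) (ka xa17 ya25 za43) (ka xa18 ya15 za49) (ka xa18 ya15 za28) (ka xa18 ya15 za50) (ka xa18 ya15 za51) (ka xa5 ya4 za37) (ka xa12 ya2 za27) (ka xa5 ya4 za24) (ka xa5 ya4 za25) (ka xa5 ya4 za26) (ka xa10 ya12 za55) (ka xa5 ya4 za23) (ka xa5 ya16 za4) (ka xa18 ya16 za14) (ka xa18 ya16 za15) (ka xa18 ya15 za43) (ka xa18 ya6 za24) (ka xa18 ya16 za10) (ka xa18 ya16 za30) (ka xa16 ya18 za52) (ka xa18 ya16 za11) (ka xa5 ya4 za29) (ka xa9 ya55 za43) (ka xa6 ya39 za22) (ka xa5 ya4 za30) (ka xa10 ya12 za14) (ka xa18 ya16 za12) (ka xa18 ya14 za15) (ka xa5 ya4 za31) (ka xa10 ya13 za10) (ka xa5 ya4 za28) (ka xa17 ya47 za44) (ka xa18 ya16 za46))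
def f_a_10 : D2 → D3 → Pt := @D2.rec (fun _ => D3 → Pt) (@D3.rec (fun _ => Pt) (ka xa18 ya16 za47) (ka xa15 ya14 za34) (ka xa18 ya16 za36) (ka xa18 ya16 za40) (ka xa18 ya16 za44) (ka xa10 ya12 za50) (ka xa12 ya18 za55) (ka xa18 ya15 za22) (ka xa5 ya4 za35) (ka xa5 ya4 za36) (ka xa12 ya2 za24) (ka xa10 ya18 za58) (ka xa10 ya18 za59) (ka xa10 ya18 za55) (ka xa10 ya18 za56) (ka xa10 ya18 za30) (ka xa10 ya18 za29) (ka xa18 ya17 za2) (ka xa18 ya17 za3) (ka xa11 ya45 za9) (ka xa10 ya14 za17) (ka xa10 ya14 za16) (ka xa18 ya16 za8) (ka xa10 ya14 za22) (ka xa10 ya14 za23) (ka xa10 ya14 za24) (ka xa12 ya2 za34) (ka xa12 ya2 za35) (ka xa10 ya14 za26) (ka xa10 ya14 za27) (ka xa10 ya14 za29) (ka xa10 ya14 za31) (ka xa10 ya14 za32) (ka xa12 ya2 za44) (ka xa10 ya14 za34) (ka xa10 ya14 za35) (ka xa12 ya2 za32) (ka xa17 ya46 za49) (ka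 xa17 ya46 za50) (ka xa18 ya13 za49) (ka xa6 ya29 za4) (ka xa8 ya11 za9) (ka xa10 ya15 za33) (ka xa8 ya11 za10) (ka xa18 ya17 za45) (ka xa10 ya33 za9) (ka xa10 ya33 za10) (ka xa10 ya33 za11) (ka xa10 ya33 za12) (ka xa18 ya17 za54) (ka xa10 ya4 za11) (ka xa10 ya15 za45) (ka xa10 ya15 za46) (ka xa10 ya15 za47) (ka xa10 ya15 za48) (ka xa8 ya7 za53) (ka xa18 ya18 za3) (ka xa10 ya4 za13) (ka xa8 ya41 za24) (ka xa18 ya18 za10) (ka xa10 ya4 za15) (ka xa10 ya8 za11)) (@D3.rec (fun _ => Pt) (ka xa18 ya18 za17) (ka xa10 ya4 za16) (ka xa10 ya15 za51) (ka xa10 ya15 za50) (ka xa5 ya4 za60) (ka xa18 ya18 za26) (ka xa7 ya46 za12) (ka xa10 ya16 za20) (ka xa16 ya9 za49) (ka xa16 ya9 za50) (ka xa16 ya10 za23) (ka xa7 ya46 za22) (ka xa11 ya4 za2) (ka xa10 ya43 za10) (ka xa15 ya29 za42) (ka xa16 ya10 za24) (ka xa10 ya16 za9) (ka xa8 ya43 za25)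 (ka xa14 ya15 za49) (ka xa10 ya16 za5) (ka xa8 ya10 za34) (ka xa10 ya4 za14) (ka xa10 ya16 za11) (ka xa10 ya16 za10) (ka xa5 ya5 za9) (ka xa7 ya17 za32) (ka xa10 ya4 za12) (ka xa8 ya5 za5) (ka xa10 ya4 za8) (ka xa10 ya16 za13) (ka xa10 ya4 za7) (ka xa16 ya29 za39) (ka xa16 ya29 za40) (ka xa18 ya19 za15) (ka xa10 ya15 za55) (ka xa13 ya48 za16) (ka xa16 ya10 za27) (ka xa16 ya10 za28) (ka xa10 ya15 za39) (ka xa18 ya19 za31) (ka xa10 ya16 za28) (ka xa10 ya16 za29) (ka xa10 ya15 za8) (ka xa10 ya16 za30) (ka xa10 ya16 za31) (ka xa18 ya19 za41) (ka xa10 ya16 za26) (ka xa8 ya54 za34) (ka xa18 ya19 za48) (ka xa10 ya16 za36) (ka xa10 ya16 za37) (ka xa16 ya23 za40) (ka xa10 ya16 za33) (ka xa10 ya16 za34) (ka xa10 ya16 za39) (ka xa10 ya16 za38) (ka xa5 ya5 za24) (ka xa18 ya19 za58) (ka xa10 ya16 za43) (ka xa11 ya37 za39) (ka xa16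 ya34 za52) (ka xa16 ya34 za53)) (@D3.rec (fun _ => Pt) (ka xa16 ya34 za54) (ka xa16 ya34 za55) (ka xa15 ya9 za48) (ka xa16 ya3 za39) (ka xa16 ya3 za33) (ka xa16 ya3 za34) (ka xa18 ya20 za16) (ka xa10 ya24 za32) (ka xa10 ya24 za33) (ka xa10 ya24 za34) (ka xa10 ya24 za35) (ka xa10 ya24 za36) (ka xa9 ya55 za56) (ka xa9 ya55 za55) (ka xa5 ya5 za32) (ka xa18 ya20 za29) (ka xa9 ya55 za38) (ka xa9 ya55 za39) (ka xa9 ya55 za54) (ka xa10 ya14 za45) (ka xa5 ya5 za38) (ka xa18 ya20 za36) (ka xa9 ya55 za47) (ka xa5 ya5 za39) (ka xa18 ya9 za22) (ka xa10 ya16 za56) (ka xa10 ya16 za57) (ka xa17 ya50 za51) (ka xa10 ya16 za53) (ka xa10 ya16 za54) (ka xa5 ya5 za43) (ka xa18 ya20 za48) (ka xa18 ya20 za49) (ka xa18 ya20 za50) (ka xa18 ya20 za51) (ka xa10 ya24 za53) (ka xa18 ya20 za61) (ka xa7 ya32 za40) (ka xa15 ya39 za8) (ka xa17 ya51 za59)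 (ka xa9 ya56 za18) (ka xa10 ya4 za57) (ka xa10 ya4 za58) (ka xa10 ya4 za53) (ka xa10 ya4 za54) (ka xa5 ya50 za13) (ka xa10 ya4 za33) (ka xa10 ya4 za34) (ka xa11 ya35 za13) (ka xa7 ya20 za1) (ka xa10 ya4 za29) (ka xa6 ya7 za41) (ka xa6 ya7 za42) (ka xa6 ya7 za43) (ka xa6 ya7 za44) (ka xa10 ya17 za11) (ka xa9 ya27 za12) (ka xa17 ya3 za23) (ka xa17 ya3 za24) (ka xa17 ya3 za25) (ka xa17 ya3 za26) (ka xa16 ya59 za55)) (@D3.rec (fun _ => Pt) (ka xa9 ya57 za13) (ka xa10 ya15 za29) (ka xa10 ya15 za30) (ka xa18 ya21 za32) (ka xa9 ya57 za14) (ka xa10 ya15 za32) (ka xa10 ya14 za49) (ka xa8 ya6 za46) (ka xa18 ya21 za41) (ka xa10 ya14 za43) (ka xa10 ya14 za44) (ka xa10 ya14 za46) (ka xa10 ya14 za47) (ka xa18 ya21 za46) (ka xa8 ya43 za39) (ka xa18 ya21 za49) (ka xa10 ya14 za51) (ka xa10 ya14 za52) (ka xa10 ya14 za54) (ka xa10 ya14 za53)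 (ka xa5 ya6 za10) (ka xa18 ya21 za52) (ka xa18 ya21 za53) (ka xa10 ya29 za30) (ka xa10 ya29 za31) (ka xa10 ya29 za32) (ka xa10 ya29 za33) (ka xa10 ya24 za57) (ka xa10 ya29 za34) (ka xa10 ya29 za35) (ka xa10 ya29 za36) (ka xa10 ya29 za37) (ka xa8 ya13 za31) (ka xa6 ya44 za58) (ka xa10 ya29 za40) (ka xa18 ya12 za1) (ka xa10 ya15 za14) (ka xa9 ya59 za28) (ka xa10 ya15 za15) (ka xa17 ya51 za23) (ka xa10 ya15 za11) (ka xa9 ya59 za27) (ka xa10 ya15 za12) (ka xa5 ya6 za20) (ka xa17 ya50 za52) (ka xa18 ya20 za47) (ka xa5 ya15 za42) (ka xa5 ya6 za22) (ka xa18 ya22 za24) (ka xa10 ya47 za39) (ka xa10 ya25 za9) (ka xa6 ya44 za59) (ka xa6 ya44 za57) (ka xa10 ya4 za42) (ka xa6 ya7 za55) (ka xa6 ya7 za61) (ka xa5 ya58 za34) (ka xa17 ya9 za45) (ka xa9 ya56 za13) (ka xa10 ya17 za17) (ka xa10 ya17 za18) (ka xa9 ya56 za14)) (@D3.rec (fun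 _ => Pt) (ka xa10 ya17 za20) (ka xa10 ya17 za21) (ka xa11 ya40 za24) (ka xa6 ya44 za47) (ka xa6 ya45 za0) (ka xa10 ya17 za22) (ka xa10 ya17 za23) (ka xa10 ya1 za30) (ka xa10 ya1 za28) (ka xa16 ya29 za37) (ka xa16 ya29 za38) (ka xa10 ya0 za50) (ka xa10 ya1 za26) (ka xa10 ya0 za57) (ka xa10 ya1 za21) (ka xa10 ya0 za60) (ka xa10 ya1 za1) (ka xa18 ya23 za3) (ka xa14 ya48 za7) (ka xa13 ya46 za51) (ka xa13 ya48 za7) (ka xa8 ya12 za10) (ka xa17 ya3 za20) (ka xa17 ya3 za21) (ka xa11 ya59 za12) (ka xa17 ya3 za22) (ka xa13 ya1 za61) (ka xa9 ya15 za0) (ka xa6 ya30 za45) (ka xa10 ya2 za50) (ka xa5 ya6 za53) (ka xa17 ya26 za51) (ka xa18 ya23 za17) (ka xa10 ya2 za46) (ka xa10 ya2 za47) (ka xa16 ya59 za49) (ka xa10 ya17 za27) (ka xa17 ya26 za46) (ka xa9 ya20 za1) (ka xa16 ya59 za51) (ka xa10 ya17 za51) (ka xa10 ya17 za52) (ka xa10 ya3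 za53) (ka xa10 ya17 za53) (ka xa15 ya26 za18) (ka xa10 ya18 za18) (ka xa10 ya18 za19) (ka xa10 ya18 za17) (ka xa6 ya7 za51) (ka xa17 ya58 za14) (ka xa17 ya58 za15) (ka xa17 ya58 za16) (ka xa13 ya1 za56) (ka xa10 ya2 za43) (ka xa10 ya2 za44) (ka xa5 ya38 za46) (ka xa5 ya38 za47) (ka xa10 ya2 za41) (ka xa10 ya2 za42) (ka xa10 ya18 za27) (ka xa10 ya18 za13) (ka xa11 ya25 za32)) (@D3.rec (fun _ => Pt) (ka xa10 ya17 za54) (ka xa5 ya51 za48) (ka xa10 ya17 za55) (ka xa5 ya7 za19) (ka xa5 ya7 za22) (ka xa8 ya3 za23) (ka xa6 ya7 za35) (ka xa18 ya23 za42) (ka xa18 ya23 za43) (ka xa7 ya24 za60) (ka xa6 ya25 za52) (ka xa6 ya7 za38) (ka xa11 ya13 za47) (ka xa9 ya27 za32) (ka xa5 ya54 za50) (ka xa9 ya27 za39) (ka xa18 ya23 za60) (ka xa10 ya18 za21) (ka xa10 ya18 za23) (ka xa10 ya18 za20) (ka xa6 ya46 za21) (ka xa5 ya7 za40) (ka xa5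 ya7 za41) (ka xa5 ya7 za33) (ka xa5 ya7 za34) (ka xa8 ya38 za14) (ka xa17 ya9 za25) (ka xa18 ya24 za3) (ka xa12 ya56 za18) (ka xa18 ya24 za4) (ka xa7 ya26 za45) (ka xa11 ya8 za27) (ka xa11 ya35 za9) (ka xa5 ya7 za46) (ka xa12 ya15 za11) (ka xa18 ya24 za17) (ka xa12 ya24 za43) (ka xa18 ya24 za2) (ka xa5 ya7 za47) (ka xa10 ya18 za12) (ka xa5 ya48 za47) (ka xa17 ya56 za40) (ka xa5 ya7 za48) (ka xa5 ya48 za46) (ka xa9 ya9 za52) (ka xa15 ya26 za13) (ka xa17 ya57 za51) (ka xa11 ya8 za28) (ka xa18 ya24 za13) (ka xa12 ya35 za29) (ka xa18 ya24 za24) (ka xa10 ya18 za22) (ka xa18 ya23 za59) (ka xa5 ya7 za53) (ka xa5 ya7 za54) (ka xa5 ya7 za58) (ka xa5 ya7 za59) (ka xa13 ya20 za40) (ka xa5 ya7 za61) (ka xa5 ya8 za0) (ka xa5 ya8 za2) (ka xa5 ya8 za3)) (@D3.rec (fun _ => Pt) (ka xa5 ya8 za4) (ka xa5 ya7 za52) (ka xa9 ya7 za46) (ka xa18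 ya24 za52) (ka xa11 ya25 za46) (ka xa6 ya28 za55) (ka xa12 ya39 za39) (ka xa18 ya24 za39) (ka xa18 ya24 za40) (ka xa10 ya18 za41) (ka xa15 ya30 za47) (ka xa18 ya24 za41) (ka xa9 ya10 za17) (ka xa17 ya57 za53) (ka xa11 ya25 za48) (ka xa11 ya25 za44) (ka xa8 ya12 za53) (ka xa11 ya25 za45) (ka xa12 ya23 za27) (ka xa5 ya55 za1) (ka xa18 ya24 za42) (ka xa18 ya24 za43) (ka xa12 ya14 za10) (ka xa18 ya24 za44) (ka xa17 ya5 za25) (ka xa10 ya14 za11) (ka xa10 ya14 za10) (ka xa5 ya7 za60) (ka xa17 ya14 za28) (ka xa18 ya24 za48) (ka xa18 ya24 za49) (ka xa10 ya6 za33) (ka xa18 ya24 za50) (ka xa10 ya6 za31) (ka xa9 ya15 za26) (ka xa12 ya23 za16) (ka xa6 ya35 za42) (ka xa13 ya20 za39) (ka xa15 ya30 za42) (ka xa12 ya29 za8) (ka xa11 ya29 za19) (ka xa18 ya24 za51) (ka xa11 ya49 za29) (ka xa15 ya30 za43) (ka xa15 ya30 za44) (ka xa17 ya58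 za17) (ka xa17 ya58 za18) (ka xa17 ya58 za19) (ka xa17 ya58 za20) (ka xa10 ya18 za42) (ka xa10 ya18 za43) (ka xa9 ya46 za47) (ka xa10 ya18 za44) (ka xa5 ya8 za12) (ka xa5 ya8 za13) (ka xa8 ya12 za6) (ka xa5 ya45 za53) (ka xa17 ya7 za54) (ka xa17 ya59 za58) (ka xa6 ya31 za56) (ka xa18 ya26 za2) (ka xa9 ya50 za58)) (@D3.rec (fun _ => Pt) (ka xa10 ya18 za51) (ka xa12 ya1 za17) (ka xa10 ya14 za8) (ka xa10 ya14 za9) (ka xa18 ya26 za14) (ka xa10 ya14 za5) (ka xa10 ya14 za6) (ka xa5 ya8 za20) (ka xa12 ya36 za4) (ka xa12 ya1 za11) (ka xa14 ya4 za58) (ka xa5 ya52 za15) (ka xa10 ya19 za1) (ka xa11 ya24 za57) (ka xa10 ya19 za5) (ka xa11 ya58 za15) (ka xa10 ya19 za7) (ka xa11 ya24 za59) (ka xa10 ya19 za9) (ka xa9 ya25 za43) (ka xa8 ya26 za54) (ka xa14 ya43 za51) (ka xa5 ya16 za9) (ka xa15 ya50 za41) (ka xa15 ya50 za42) (ka xa9 ya55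 za19) (ka xa15 ya50 za43) (ka xa18 ya26 za30) (ka xa9 ya55 za23) (ka xa9 ya55 za24) (ka xa9 ya55 za25) (ka xa9 ya55 za26) (ka xa9 ya53 za12) (ka xa18 ya26 za42) (ka xa10 ya8 za54) (ka xa18 ya26 za47) (ka xa10 ya8 za26) (ka xa10 ya16 za2) (ka xa18 ya26 za54) (ka xa10 ya8 za25) (ka xa8 ya8 za31) (ka xa15 ya11 za14) (ka xa15 ya11 za13) (ka xa5 ya8 za37) (ka xa18 ya27 za2) (ka xa14 ya1 za14) (ka xa15 ya11 za8) (ka xa15 ya9 za49) (ka xa15 ya9 za50) (ka xa15 ya11 za9) (ka xa15 ya11 za10) (ka xa9 ya56 za19) (ka xa15 ya11 za11) (ka xa15 ya11 za12) (ka xa15 ya11 za0) (ka xa17 ya46 za53) (ka xa9 ya56 za52) (ka xa15 ya27 za46) (ka xa17 ya46 za54) (ka xa15 ya11 za6) (ka xa5 ya8 za48) (ka xa18 ya27 za8)) (@D3.rec (fun _ => Pt) (ka xa18 ya27 za24) (ka xa15 ya11 za18) (ka xa15 ya10 za0) (ka xa9 ya52 za44) (ka xa15 ya11 za19) (ka xa15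 ya11 za20) (ka xa15 ya11 za21) (ka xa9 ya52 za35) (ka xa9 ya52 za38) (ka xa15 ya11 za22) (ka xa9 ya57 za21) (ka xa10 ya0 za61) (ka xa9 ya0 za58) (ka xa18 ya27 za49) (ka xa18 ya27 za52) (ka xa5 ya15 za61) (ka xa5 ya16 za0) (ka xa15 ya50 za44) (ka xa9 ya57 za39) (ka xa15 ya50 za45) (ka xa15 ya11 za42) (ka xa15 ya11 za41) (ka xa5 ya8 za58) (ka xa18 ya28 za5) (ka xa18 ya28 za6) (ka xa10 ya7 za39) (ka xa10 ya7 za36) (ka xa15 ya11 za31) (ka xa15 ya11 za32) (ka xa15 ya11 za33) (ka xa15 ya11 za34) (ka xa15 ya11 za35) (ka xa9 ya58 za5) (ka xa9 ya58 za6) (ka xa15 ya11 za36) (ka xa15 ya11 za37) (ka xa9 ya58 za32) (ka xa17 ya46 za55) (ka xa17 ya46 za56) (ka xa15 ya11 za27) (ka xa15 ya11 za26) (ka xa5 ya9 za3) (ka xa18 ya28 za37) (ka xa18 ya28 za38) (ka xa15 ya11 za46) (ka xa15 ya11 za48) (ka xa15 ya11 za49) (ka xa9 ya35 za61) (ka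 xa15 ya11 za50) (ka xa9 ya58 za55) (ka xa15 ya11 za60) (ka xa15 ya11 za59) (ka xa5 ya9 za9) (ka xa15 ya14 za26) (ka xa10 ya7 za34) (ka xa15 ya11 za57) (ka xa15 ya11 za58) (ka xa15 ya11 za52) (ka xa15 ya11 za51) (ka xa5 ya9 za12) (ka xa18 ya29 za10) (ka xa12 ya58 za52)) (@D3.rec (fun _ => Pt) (ka xa15 ya12 za2) (ka xa15 ya12 za3) (ka xa5 ya9 za19) (ka xa5 ya9 za15) (ka xa16 ya35 za55) (ka xa5 ya16 za36) (ka xa18 ya29 za16) (ka xa18 ya29 za17) (ka xa5 ya9 za16) (ka xa18 ya29 za32) (ka xa18 ya29 za22) (ka xa18 ya29 za26) (ka xa18 ya29 za30) (ka xa5 ya9 za18) (ka xa15 ya13 za53) (ka xa15 ya13 za52) (ka xa18 ya29 za43) (ka xa18 ya29 za44) (ka xa18 ya29 za14) (ka xa18 ya29 za57) (ka xa15 ya12 za22) (ka xa18 ya29 za61) (ka xa15 ya12 za24) (ka xa15 ya12 za25) (ka xa15 ya12 za26) (ka xa15 ya12 za27) (ka xa9 ya54 za44) (ka xa9 ya54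 za43) (ka xa15 ya12 za28) (ka xa15 ya32 za19) (ka xa8 ya45 za6) (ka xa9 ya54 za50) (ka xa17 ya46 za60) (ka xa9 ya54 za47) (ka xa9 ya54 za48) (ka xa9 ya54 za49) (ka xa9 ya33 za22) (ka xa18 ya30 za31) (ka xa9 ya56 za24) (ka xa9 ya56 za25) (ka xa18 ya30 za38) (ka xa5 ya9 za41) (ka xa5 ya9 za42) (ka xa5 ya9 za45) (ka xa5 ya21 za30) (ka xa5 ya21 za31) (ka xa5 ya21 za32) (ka xa5 ya21 za34) (ka xa18 ya30 za50) (ka xa9 ya56 za33) (ka xa9 ya56 za34) (ka xa9 ya55 za37) (ka xa9 ya56 za35) (ka xa9 ya56 za36) (ka xa5 ya17 za32) (ka xa9 ya52 za19) (ka xa18 ya31 za1) (ka xa9 ya56 za30) (ka xa9 ya56 za31) (ka xa18 ya31 za9) (ka xa9 ya56 za42) (ka xa18 ya31 za14)) (@D3.rec (fun _ => Pt) (ka xa9 ya56 za39) (ka xa9 ya56 za44) (ka xa9 ya56 za43) (ka xa5 ya9 za40) (ka xa18 ya31 za22) (ka xa18 ya14 za59) (ka xa5 ya22 za11) (ka xa5 ya21 za40)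 (ka xa18 ya30 za41) (ka xa18 ya20 za10) (ka xa18 ya30 za42) (ka xa18 ya30 za43) (ka xa18 ya30 za44) (ka xa15 ya11 za2) (ka xa16 ya8 za2) (ka xa9 ya52 za25) (ka xa16 ya7 za58) (ka xa16 ya7 za59) (ka xa18 ya31 za52) (ka xa9 ya52 za32) (ka xa9 ya52 za33) (ka xa9 ya52 za34) (ka xa9 ya55 za41) (ka xa9 ya55 za40) (ka xa5 ya9 za48) (ka xa18 ya32 za3) (ka xa9 ya55 za33) (ka xa9 ya55 za34) (ka xa9 ya55 za36) (ka xa9 ya54 za54) (ka xa9 ya55 za28) (ka xa9 ya55 za27) (ka xa5 ya9 za53) (ka xa6 ya49 za5) (ka xa9 ya57 za1) (ka xa9 ya57 za3) (ka xa17 ya34 za21) (ka xa9 ya56 za59) (ka xa9 ya56 za61) (ka xa5 ya9 za57) (ka xa5 ya9 za58) (ka xa9 ya57 za6) (ka xa18 ya32 za31) (ka xa18 ya32 za32) (ka xa12 ya24 za46) (ka xa12 ya24 za42) (ka xa18 ya14 za58) (ka xa9 ya56 za15) (ka xa8 ya40 za45) (ka xa18 ya32 za43) (ka xa18 ya32 za45) (ka xa9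 ya56 za22) (ka xa18 ya32 za47) (ka xa9 ya54 za59) (ka xa18 ya10 za50) (ka xa9 ya54 za52) (ka xa9 ya54 za53) (ka xa9 ya54 za55) (ka xa9 ya54 za56) (ka xa17 ya41 za38) (ka xa9 ya55 za6) (ka xa9 ya55 za3)) (@D3.rec (fun _ => Pt) (ka xa9 ya55 za8) (ka xa9 ya55 za7) (ka xa5 ya10 za9) (ka xa18 ya33 za6) (ka xa18 ya33 za7) (ka xa17 ya47 za4) (ka xa17 ya47 za5) (ka xa17 ya47 za6) (ka xa17 ya47 za7) (ka xa17 ya47 za8) (ka xa11 ya10 za35) (ka xa11 ya10 za34) (ka xa15 ya27 za54) (ka xa9 ya32 za16) (ka xa15 ya27 za53) (ka xa18 ya21 za51) (ka xa9 ya56 za4) (ka xa9 ya56 za6) (ka xa18 ya33 za39) (ka xa9 ya56 za0) (ka xa9 ya56 za2) (ka xa5 ya10 za19) (ka xa5 ya10 za20) (ka xa9 ya56 za9) (ka xa16 ya55 za48) (ka xa18 ya32 za30) (ka xa18 ya32 za28) (ka xa9 ya57 za16) (ka xa18 ya33 za52) (ka xa9 ya57 za20) (ka xa9 ya53 za14) (ka xa9 ya32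 za17) (ka xa18 ya33 za59) (ka xa5 ya10 za32) (ka xa5 ya10 za33) (ka xa5 ya10 za34) (ka xa5 ya10 za35) (ka xa5 ya10 za36) (ka xa18 ya34 za10) (ka xa9 ya58 za19) (ka xa9 ya58 za21) (ka xa9 ya58 za20) (ka xa5 ya10 za31) (ka xa18 ya34 za16) (ka xa18 ya34 za17) (ka xa18 ya34 za0) (ka xa18 ya34 za1) (ka xa18 ya34 za2) (ka xa18 ya34 za3) (ka xa18 ya34 za4) (ka xa15 ya11 za23) (ka xa18 ya34 za5) (ka xa18 ya34 za6) (ka xa9 ya53 za21) (ka xa18 ya34 za7) (ka xa15 ya3 za12) (ka xa18 ya33 za27) (ka xa9 ya58 za40) (ka xa9 ya58 za41) (ka xa10 ya26 za57) (ka xa9 ya58 za38) (ka xa5 ya10 za40)) (@D3.rec (fun _ => Pt) (ka xa5 ya10 za41) (ka xa18 ya34 za53) (ka xa18 ya34 za54) (ka xa18 ya34 za55) (ka xa18 ya34 za56) (ka xa9 ya57 za60) (ka xa9 ya19 za61) (ka xa9 ya58 za0) (ka xa17 ya48 za43) (ka xa9 ya58 za2) (ka xa9 ya58 za3) (ka xa9 ya58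 za4) (ka xa9 ya53 za37) (ka xa9 ya53 za38) (ka xa9 ya59 za54) (ka xa9 ya58 za8) (ka xa9 ya58 za9) (ka xa18 ya35 za12) (ka xa9 ya58 za11) (ka xa9 ya58 za12) (ka xa9 ya57 za23) (ka xa9 ya57 za25) (ka xa9 ya57 za24) (ka xa5 ya10 za53) (ka xa18 ya35 za19) (ka xa18 ya9 za49) (ka xa17 ya47 za14) (ka xa17 ya47 za15) (ka xa17 ya47 za16) (ka xa17 ya47 za17) (ka xa17 ya47 za18) (ka xa9 ya53 za42) (ka xa17 ya47 za19) (ka xa17 ya47 za20) (ka xa15 ya11 za39) (ka xa17 ya47 za21) (ka xa10 ya27 za11) (ka xa18 ya29 za20) (ka xa9 ya57 za44) (ka xa9 ya57 za45) (ka xa5 ya11 za0) (ka xa5 ya11 za1) (ka xa12 ya54 za28) (ka xa18 ya35 za37) (ka xa18 ya34 za59) (ka xa18 ya9 za48) (ka xa10 ya27 za21) (ka xa18 ya35 za42) (ka xa9 ya58 za54) (ka xa9 ya53 za57) (ka xa10 ya0 za5) (ka xa18 ya34 za13) (ka xa9 ya59 za19) (ka xa7 ya31 za38) (ka xa9 ya59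 za20) (ka xa9 ya59 za39) (ka xa9 ya59 za16) (ka xa9 ya59 za17) (ka xa5 ya11 za13) (ka xa5 ya11 za15) (ka xa9 ya59 za24) (ka xa9 ya59 za23)) (@D3.rec (fun _ => Pt) (ka xa18 ya21 za45) (ka xa18 ya35 za59) (ka xa9 ya23 za31) (ka xa18 ya35 za60) (ka xa18 ya35 za61) (ka xa12 ya46 za7) (ka xa14 ya43 za6) (ka xa9 ya59 za10) (ka xa9 ya59 za12) (ka xa9 ya59 za14) (ka xa9 ya59 za58) (ka xa6 ya40 za32) (ka xa18 ya36 za22) (ka xa6 ya11 za11) (ka xa6 ya11 za3) (ka xa5 ya11 za22) (ka xa5 ya11 za24) (ka xa9 ya58 za61) (ka xa9 ya58 za60) (ka xa6 ya40 za18) (ka xa14 ya43 za9) (ka xa18 ya36 za25) (ka xa18 ya36 za10) (ka xa18 ya36 za26) (ka xa14 ya43 za7) (ka xa9 ya46 za35) (ka xa5 ya11 za44) (ka xa18 ya35 za45) (ka xa5 ya11 za31) (ka xa5 ya11 za32) (ka xa5 ya11 za33) (ka xa9 ya58 za57) (ka xa5 ya11 za30) (ka xa5 ya18 za7) (ka xa12 ya37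 za55) (ka xa18 ya36 za47) (ka xa18 ya36 za21) (ka xa18 ya28 za36) (ka xa18 ya13 za50) (ka xa18 ya36 za59) (ka xa18 ya36 za41) (ka xa18 ya36 za42) (ka xa5 ya11 za36) (ka xa9 ya59 za4) (ka xa18 ya36 za43) (ka xa18 ya36 za44) (ka xa5 ya11 za37) (ka xa9 ya58 za7) (ka xa18 ya36 za45) (ka xa18 ya35 za11) (ka xa5 ya11 za38) (ka xa9 ya59 za15) (ka xa5 ya11 za35) (ka xa18 ya15 za6) (ka xa18 ya37 za17) (ka xa18 ya37 za18) (ka xa8 ya5 za55) (ka xa18 ya37 za3) (ka xa18 ya37 za6) (ka xa14 ya16 za53) (ka xa18 ya37 za13) (ka xa9 ya58 za56)) (@D3.rec (fun _ => Pt) (ka xa17 ya13 za21) (ka xa18 ya35 za41) (ka xa5 ya11 za42) (ka xa5 ya11 za43) (ka xa18 ya37 za44) (ka xa10 ya7 za5) (ka xa10 ya7 za6) (ka xa18 ya37 za50) (ka xa10 ya7 za2) (ka xa10 ya7 za3) (ka xa10 ya6 za26) (ka xa10 ya6 za25) (ka xa18 ya37 za42) (ka xa18 ya37 za43) (ka xa18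 ya0 za9) (ka xa18 ya0 za7) (ka xa10 ya0 za21) (ka xa10 ya0 za20) (ka xa18 ya36 za38) (ka xa5 ya11 za45) (ka xa17 ya17 za7) (ka xa12 ya13 za1) (ka xa10 ya0 za23) (ka xa10 ya0 za24) (ka xa10 ya0 za25) (ka xa6 ya11 za8) (ka xa10 ya0 za28) (ka xa10 ya0 za29) (ka xa9 ya44 za19) (ka xa10 ya0 za30) (ka xa12 ya16 za44) (ka xa10 ya0 za31) (ka xa10 ya0 za32) (ka xa6 ya11 za13) (ka xa10 ya0 za34) (ka xa10 ya0 za35) (ka xa18 ya35 za53) (ka xa17 ya47 za61) (ka xa17 ya48 za0) (ka xa17 ya48 za1) (ka xa18 ya34 za50) (ka xa6 ya20 za30) (ka xa10 ya27 za50) (ka xa10 ya3 za9) (ka xa10 ya3 za10) (ka xa10 ya2 za19) (ka xa10 ya3 za11) (ka xa10 ya3 za12) (ka xa18 ya38 za43) (ka xa10 ya3 za6) (ka xa13 ya29 za45) (ka xa10 ya3 za16) (ka xa10 ya3 za17) (ka xa10 ya3 za19) (ka xa10 ya3 za18) (ka xa5 ya12 za3) (ka xa17 ya45 za48) (ka xa18 ya38 za45)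 (ka xa10 ya28 za19) (ka xa10 ya28 za20) (ka xa10 ya28 za21) (ka xa10 ya28 za22)) (@D3.rec (fun _ => Pt) (ka xa10 ya28 za23) (ka xa10 ya27 za53) (ka xa10 ya28 za24) (ka xa10 ya28 za25) (ka xa10 ya28 za26) (ka xa10 ya20 za2) (ka xa10 ya20 za3) (ka xa10 ya20 za4) (ka xa10 ya1 za42) (ka xa10 ya25 za49) (ka xa18 ya31 za18) (ka xa10 ya3 za40) (ka xa10 ya3 za42) (ka xa18 ya39 za16) (ka xa10 ya3 za36) (ka xa10 ya3 za38) (ka xa5 ya12 za19) (ka xa18 ya39 za21) (ka xa18 ya39 za22) (ka xa18 ya39 za23) (ka xa18 ya39 za24) (ka xa15 ya36 za4) (ka xa15 ya36 za5) (ka xa9 ya14 za60) (ka xa5 ya38 za45) (ka xa6 ya32 za18) (ka xa11 ya41 za31) (ka xa11 ya41 za32) (ka xa11 ya35 za35) (ka xa10 ya3 za1) (ka xa10 ya3 za2) (ka xa18 ya39 za40) (ka xa10 ya3 za5) (ka xa10 ya0 za42) (ka xa5 ya37 za4) (ka xa18 ya1 za5) (ka xa8 ya11 za46) (ka xa15 ya32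 za1) (ka xa10 ya35 za30) (ka xa10 ya1 za38) (ka xa10 ya35 za29) (ka xa18 ya39 za55) (ka xa8 ya13 za20) (ka xa10 ya24 za58) (ka xa18 ya39 za59) (ka xa10 ya0 za51) (ka xa10 ya0 za52) (ka xa10 ya0 za53) (ka xa10 ya0 za54) (ka xa18 ya40 za2) (ka xa10 ya1 za3) (ka xa10 ya1 za2) (ka xa5 ya12 za44) (ka xa18 ya40 za8) (ka xa18 ya1 za3) (ka xa10 ya1 za34) (ka xa11 ya3 za23) (ka xa16 ya11 za46) (ka xa11 ya3 za21) (ka xa11 ya57 za19) (ka xa10 ya29 za16) (ka xa16 ya11 za47)) (@D3.rec (fun _ => Pt) (ka xa15 ya12 za29) (ka xa15 ya12 za30) (ka xa10 ya7 za37) (ka xa15 ya12 za31) (ka xa18 ya40 za33) (ka xa10 ya1 za19) (ka xa5 ya12 za53) (ka xa18 ya40 za37) (ka xa7 ya14 za30) (ka xa10 ya1 za16) (ka xa10 ya1 za23) (ka xa10 ya1 za22) (ka xa5 ya46 za29) (ka xa10 ya1 za29) (ka xa8 ya49 za15) (ka xa17 ya12 za51) (ka xa17 ya12 za50) (ka xa7 ya17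 za29) (ka xa8 ya47 za61) (ka xa14 ya39 za17) (ka xa10 ya1 za7) (ka xa16 ya11 za48) (ka xa16 ya11 za49) (ka xa16 ya11 za50) (ka xa12 ya8 za27) (ka xa18 ya41 za8) (ka xa10 ya1 za46) (ka xa18 ya41 za12) (ka xa10 ya1 za40) (ka xa10 ya1 za41) (ka xa10 ya1 za43) (ka xa10 ya1 za44) (ka xa18 ya41 za21) (ka xa10 ya1 za52) (ka xa10 ya1 za53) (ka xa12 ya6 za33) (ka xa10 ya1 za49) (ka xa10 ya1 za50) (ka xa10 ya1 za55) (ka xa10 ya1 za54) (ka xa5 ya13 za9) (ka xa6 ya40 za27) (ka xa9 ya39 za27) (ka xa10 ya1 za58) (ka xa8 ya11 za45) (ka xa10 ya20 za21) (ka xa10 ya33 za16) (ka xa10 ya33 za17) (ka xa10 ya33 za15) (ka xa9 ya33 za16) (ka xa12 ya54 za2) (ka xa10 ya33 za14) (ka xa18 ya33 za2) (ka xa10 ya2 za28) (ka xa10 ya2 za29) (ka xa18 ya41 za45) (ka xa10 ya2 za25) (ka xa10 ya2 za26) (ka xa5 ya13 za19) (ka xa13 ya41 za44) (ka xa18 ya41 za52)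 (ka xa16 ya21 za3)) (@D3.rec (fun _ => Pt) (ka xa9 ya44 za5) (ka xa5 ya17 za47) (ka xa5 ya13 za22) (ka xa18 ya41 za53) (ka xa10 ya42 za57) (ka xa10 ya20 za41) (ka xa12 ya54 za3) (ka xa10 ya43 za14) (ka xa10 ya43 za13) (ka xa8 ya3 za34) (ka xa9 ya47 za35) (ka xa10 ya2 za55) (ka xa17 ya12 za52) (ka xa11 ya38 za39) (ka xa9 ya15 za17) (ka xa11 ya38 za40) (ka xa9 ya15 za11) (ka xa10 ya3 za59) (ka xa10 ya3 za60) (ka xa11 ya35 za39) (ka xa10 ya4 za0) (ka xa10 ya4 za1) (ka xa10 ya4 za5) (ka xa10 ya4 za6) (ka xa6 ya32 za20) (ka xa6 ya50 za51) (ka xa11 ya35 za17) (ka xa10 ya4 za36) (ka xa8 ya50 za21) (ka xa5 ya13 za40) (ka xa18 ya42 za19) (ka xa18 ya42 za20) (ka xa9 ya7 za39) (ka xa18 ya42 za30) (ka xa15 ya47 za30) (ka xa15 ya47 za31) (ka xa15 ya47 za32) (ka xa15 ya9 za53) (ka xa15 ya47 za33) (ka xa5 ya13 za47) (ka xa9 ya26 za56)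 (ka xa9 ya25 za9) (ka xa9 ya26 za57) (ka xa9 ya26 za58) (ka xa18 ya42 za45) (ka xa18 ya42 za46) (ka xa9 ya7 za41) (ka xa6 ya50 za50) (ka xa9 ya7 za40) (ka xa18 ya15 za14) (ka xa6 ya26 za4) (ka xa10 ya4 za40) (ka xa10 ya4 za41) (ka xa10 ya4 za43) (ka xa10 ya5 za0) (ka xa10 ya5 za2) (ka xa8 ya14 za51) (ka xa7 ya59 za61) (ka xa5 ya13 za61) (ka xa5 ya14 za3) (ka xa5 ya14 za4) (ka xa8 ya3 za30)) (@D3.rec (fun _ => Pt) (ka xa18 ya43 za1) (ka xa13 ya50 za22) (ka xa6 ya46 za17) (ka xa5 ya48 za57) (ka xa5 ya48 za55) (ka xa8 ya12 za12) (ka xa11 ya6 za33) (ka xa18 ya43 za2) (ka xa18 ya43 za3) (ka xa17 ya16 za35) (ka xa18 ya43 za4) (ka xa8 ya44 za28) (ka xa10 ya5 za39) (ka xa10 ya4 za60) (ka xa11 ya8 za34) (ka xa9 ya48 za6) (ka xa8 ya12 za27) (ka xa10 ya4 za47) (ka xa10 ya4 za45) (ka xa10 ya4 za46) (ka xa10 ya5 za19) (ka xa10 ya5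 za17) (ka xa10 ya5 za51) (ka xa10 ya5 za18) (ka xa5 ya54 za21) (ka xa6 ya46 za58) (ka xa17 ya34 za47) (ka xa10 ya4 za59) (ka xa11 ya8 za35) (ka xa10 ya0 za16) (ka xa10 ya0 za15) (ka xa5 ya14 za27) (ka xa11 ya56 za44) (ka xa11 ya56 za45) (ka xa5 ya14 za32) (ka xa5 ya14 za33) (ka xa11 ya22 za11) (ka xa18 ya43 za30) (ka xa18 ya43 za31) (ka xa18 ya43 za32) (ka xa18 ya43 za33) (ka xa10 ya6 za9) (ka xa10 ya6 za49) (ka xa10 ya6 za50) (ka xa10 ya6 za52) (ka xa5 ya14 za38) (ka xa5 ya14 za39) (ka xa6 ya8 za0) (ka xa15 ya26 za12) (ka xa14 ya33 za15) (ka xa14 ya33 za14) (ka xa10 ya7 za0) (ka xa8 ya14 za59) (ka xa5 ya50 za45) (ka xa18 ya43 za45) (ka xa10 ya0 za13) (ka xa10 ya0 za14) (ka xa6 ya10 za60) (ka xa10 ya0 za11) (ka xa10 ya0 za12) (ka xa5 ya14 za46) (ka xa9 ya47 za55)) (@D3.rec (fun _ => Pt) (ka xa5 ya40 za12) (ka xa10 ya7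 za12) (ka xa9 ya47 za61) (ka xa5 ya14 za49) (ka xa18 ya43 za54) (ka xa10 ya7 za14) (ka xa18 ya42 za60) (ka xa10 ya7 za16) (ka xa6 ya8 za5) (ka xa10 ya7 za18) (ka xa18 ya43 za60) (ka xa8 ya30 za32) (ka xa10 ya45 za56) (ka xa10 ya45 za55) (ka xa5 ya14 za55) (ka xa18 ya44 za8) (ka xa8 ya30 za31) (ka xa18 ya44 za15) (ka xa10 ya32 za55) (ka xa8 ya32 za7) (ka xa8 ya26 za50) (ka xa8 ya26 za51) (ka xa16 ya44 za1) (ka xa16 ya44 za0) (ka xa5 ya14 za60) (ka xa18 ya44 za27) (ka xa8 ya26 za36) (ka xa9 ya26 za47) (ka xa5 ya15 za18) (ka xa5 ya15 za19) (ka xa18 ya44 za41) (ka xa5 ya15 za26) (ka xa18 ya44 za44) (ka xa5 ya15 za38) (ka xa5 ya15 za39) (ka xa18 ya44 za50) (ka xa5 ya15 za47) (ka xa5 ya15 za48) (ka xa5 ya15 za50) (ka xa5 ya15 za51) (ka xa18 ya44 za60) (ka xa5 ya16 za2) (ka xa5 ya16 za3) (ka xa18 ya45 za5) (ka xa18 ya45 za9)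 (ka xa5 ya15 za7) (ka xa18 ya45 za14) (ka xa18 ya45 za4) (ka xa5 ya16 za10) (ka xa5 ya16 za12) (ka xa5 ya16 za14) (ka xa18 ya45 za25) (ka xa9 ya52 za28) (ka xa8 ya40 za50) (ka xa8 ya40 za48) (ka xa9 ya52 za29) (ka xa8 ya26 za31) (ka xa11 ya4 za30) (ka xa18 ya45 za29) (ka xa18 ya44 za36) (ka xa11 ya56 za61) (ka xa18 ya44 za37)) (@D3.rec (fun _ => Pt) (ka xa18 ya44 za38) (ka xa18 ya45 za35) (ka xa10 ya15 za5) (ka xa10 ya15 za6) (ka xa10 ya15 za7) (ka xa18 ya45 za37) (ka xa18 ya45 za40) (ka xa10 ya25 za5) (ka xa17 ya23 za28) (ka xa18 ya44 za43) (ka xa5 ya15 za25) (ka xa13 ya20 za30) (ka xa15 ya36 za16) (ka xa15 ya39 za9) (ka xa15 ya39 za10) (ka xa15 ya39 za12) (ka xa7 ya32 za37) (ka xa8 ya54 za12) (ka xa18 ya45 za56) (ka xa15 ya0 za46) (ka xa16 ya34 za42) (ka xa10 ya16 za45) (ka xa10 ya38 za57) (ka xa8 ya13 za32) (ka xa18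 ya46 za2) (ka xa15 ya24 za59) (ka xa15 ya24 za60) (ka xa9 ya52 za18) (ka xa15 ya24 za61) (ka xa5 ya17 za31) (ka xa18 ya44 za40) (ka xa18 ya44 za39) (ka xa5 ya15 za37) (ka xa18 ya46 za13) (ka xa18 ya46 za14) (ka xa17 ya24 za61) (ka xa18 ya44 za47) (ka xa10 ya24 za42) (ka xa16 ya36 za47) (ka xa18 ya22 za23) (ka xa8 ya57 za18) (ka xa10 ya17 za5) (ka xa10 ya47 za38) (ka xa5 ya30 za11) (ka xa18 ya46 za34) (ka xa10 ya47 za37) (ka xa10 ya29 za15) (ka xa10 ya26 za35) (ka xa18 ya46 za38) (ka xa15 ya36 za17) (ka xa15 ya36 za19) (ka xa15 ya36 za18) (ka xa5 ya15 za46) (ka xa11 ya45 za28) (ka xa18 ya46 za46) (ka xa9 ya25 za40) (ka xa18 ya44 za53) (ka xa18 ya44 za54) (ka xa18 ya13 za39) (ka xa18 ya44 za55) (ka xa18 ya44 za56) (ka xa10 ya26 za37)) (@D3.rec (fun _ => Pt) (ka xa10 ya26 za38) (ka xa18 ya27 za55) (ka xa18 ya44 za57) (ka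 xa18 ya47 za7) (ka xa15 ya0 za39) (ka xa15 ya0 za40) (ka xa10 ya26 za49) (ka xa12 ya20 za18) (ka xa16 ya13 za43) (ka xa18 ya44 za49) (ka xa18 ya44 za48) (ka xa5 ya15 za54) (ka xa18 ya47 za17) (ka xa18 ya47 za18) (ka xa15 ya36 za21) (ka xa15 ya36 za10) (ka xa15 ya36 za11) (ka xa15 ya36 za13) (ka xa15 ya36 za14) (ka xa15 ya36 za8) (ka xa15 ya36 za9) (ka xa10 ya26 za51) (ka xa18 ya44 za59) (ka xa18 ya44 za58) (ka xa5 ya15 za60) (ka xa18 ya47 za44) (ka xa18 ya47 za45) (ka xa9 ya24 za44) (ka xa18 ya27 za54) (ka xa18 ya27 za56) (ka xa18 ya27 za57) (ka xa18 ya27 za51) (ka xa18 ya27 za50) (ka xa5 ya16 za1) (ka xa18 ya48 za3) (ka xa18 ya48 za4) (ka xa18 ya45 za1) (ka xa18 ya45 za2) (ka xa18 ya45 za3) (ka xa5 ya16 za8) (ka xa17 ya47 za40) (ka xa18 ya16 za17) (ka xa18 ya16 za18) (ka xa5 ya16 za5) (ka xa18 ya48 za28) (ka xa18 ya48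 za24) (ka xa5 ya25 za36) (ka xa5 ya16 za7) (ka xa16 ya54 za10) (ka xa18 ya48 za33) (ka xa18 ya48 za34) (ka xa16 ya54 za9) (ka xa18 ya48 za18) (ka xa18 ya48 za46) (ka xa18 ya48 za47) (ka xa18 ya45 za20) (ka xa18 ya48 za51) (ka xa15 ya56 za0) (ka xa15 ya55 za7) (ka xa17 ya18 za56) (ka xa18 ya45 za21) (ka xa9 ya26 za46)) (@D3.rec (fun _ => Pt) (ka xa10 ya26 za17) (ka xa10 ya26 za16) (ka xa18 ya45 za22) (ka xa10 ya26 za23) (ka xa10 ya26 za24) (ka xa5 ya31 za24) (ka xa10 ya28 za13) (ka xa10 ya26 za19) (ka xa10 ya26 za20) (ka xa18 ya49 za15) (ka xa10 ya26 za42) (ka xa8 ya45 za51) (ka xa16 ya34 za61) (ka xa16 ya35 za0) (ka xa16 ya35 za1) (ka xa15 ya14 za8) (ka xa16 ya35 za2) (ka xa16 ya35 za3) (ka xa16 ya35 za4) (ka xa8 ya55 za39) (ka xa16 ya35 za5) (ka xa10 ya25 za24) (ka xa10 ya25 za25) (ka xa10 ya26 za39) (ka xa18 ya49 za30)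 (ka xa10 ya26 za26) (ka xa10 ya29 za47) (ka xa10 ya29 za48) (ka xa10 ya29 za49) (ka xa10 ya29 za50) (ka xa10 ya29 za51) (ka xa10 ya25 za28) (ka xa10 ya29 za52) (ka xa10 ya29 za53) (ka xa10 ya29 za54) (ka xa5 ya16 za50) (ka xa5 ya16 za37) (ka xa5 ya16 za39) (ka xa9 ya57 za46) (ka xa6 ya41 za11) (ka xa18 ya29 za21) (ka xa18 ya47 za15) (ka xa18 ya35 za54) (ka xa18 ya49 za57) (ka xa18 ya49 za46) (ka xa14 ya53 za38) (ka xa5 ya16 za42) (ka xa9 ya57 za56) (ka xa5 ya16 za43) (ka xa9 ya57 za61) (ka xa12 ya47 za10) (ka xa13 ya14 za41) (ka xa5 ya16 za44) (ka xa9 ya58 za37) (ka xa5 ya16 za41) (ka xa16 ya35 za58) (ka xa18 ya50 za11) (ka xa15 ya50 za57) (ka xa18 ya50 za0) (ka xa18 ya50 za5) (ka xa18 ya50 za6) (ka xa9 ya58 za52)) (@D3.rec (fun _ => Pt) (ka xa13 ya37 za54) (ka xa17 ya52 za28) (ka xa5 ya16 za48) (ka xa5 ya16 za49) (ka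 xa6 ya11 za29) (ka xa12 ya29 za1) (ka xa17 ya0 za17) (ka xa17 ya0 za15) (ka xa17 ya0 za4) (ka xa17 ya0 za3) (ka xa18 ya50 za26) (ka xa18 ya50 za27) (ka xa14 ya11 za54) (ka xa16 ya59 za40) (ka xa10 ya27 za40) (ka xa17 ya9 za44) (ka xa10 ya27 za42) (ka xa10 ya27 za43) (ka xa10 ya27 za45) (ka xa10 ya27 za46) (ka xa10 ya30 za27) (ka xa10 ya30 za28) (ka xa18 ya50 za59) (ka xa8 ya2 za45) (ka xa8 ya6 za15) (ka xa8 ya6 za16) (ka xa18 ya51 za4) (ka xa8 ya6 za18) (ka xa8 ya6 za19) (ka xa10 ya49 za56) (ka xa10 ya49 za55) (ka xa5 ya16 za58) (ka xa18 ya51 za14) (ka xa8 ya6 za25) (ka xa8 ya6 za26) (ka xa8 ya6 za28) (ka xa5 ya17 za22) (ka xa18 ya51 za29) (ka xa5 ya17 za26) (ka xa5 ya17 za28) (ka xa18 ya51 za33) (ka xa5 ya17 za34) (ka xa18 ya51 za37) (ka xa5 ya17 za43) (ka xa5 ya17 za44) (ka xa18 ya51 za44) (ka xa5 ya17 za51) (ka xa5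 ya17 za54) (ka xa5 ya17 za55) (ka xa18 ya51 za49) (ka xa5 ya18 za5) (ka xa5 ya18 za6) (ka xa18 ya51 za53) (ka xa18 ya51 za58) (ka xa5 ya17 za7) (ka xa18 ya52 za1) (ka xa18 ya51 za52) (ka xa5 ya18 za13) (ka xa5 ya18 za14) (ka xa5 ya18 za15) (ka xa5 ya18 za16) (ka xa5 ya18 za17)) (@D3.rec (fun _ => Pt) (ka xa18 ya52 za17) (ka xa8 ya17 za38) (ka xa8 ya1 za31) (ka xa11 ya54 za58) (ka xa18 ya52 za25) (ka xa14 ya34 za32) (ka xa11 ya4 za11) (ka xa15 ya51 za56) (ka xa15 ya51 za57) (ka xa9 ya33 za17) (ka xa18 ya52 za34) (ka xa10 ya50 za48) (ka xa15 ya28 za14) (ka xa8 ya17 za11) (ka xa11 ya5 za18) (ka xa15 ya30 za2) (ka xa18 ya51 za26) (ka xa18 ya51 za27) (ka xa9 ya33 za19) (ka xa15 ya28 za45) (ka xa15 ya28 za46) (ka xa15 ya28 za47) (ka xa18 ya52 za42) (ka xa18 ya52 za47) (ka xa5 ya17 za25) (ka xa16 ya29 za8) (ka xa18 ya52 za41)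 (ka xa18 ya51 za30) (ka xa11 ya55 za21) (ka xa11 ya2 za32) (ka xa11 ya2 za31) (ka xa18 ya53 za0) (ka xa10 ya2 za7) (ka xa10 ya2 za8) (ka xa10 ya2 za9) (ka xa10 ya2 za10) (ka xa10 ya2 za11) (ka xa18 ya53 za11) (ka xa10 ya25 za21) (ka xa18 ya46 za6) (ka xa18 ya53 za18) (ka xa10 ya25 za20) (ka xa10 ya20 za37) (ka xa18 ya51 za36) (ka xa18 ya51 za35) (ka xa5 ya17 za33) (ka xa18 ya53 za30) (ka xa18 ya53 za31) (ka xa15 ya40 za35) (ka xa16 ya0 za41) (ka xa16 ya0 za42) (ka xa16 ya0 za44) (ka xa16 ya0 za45) (ka xa10 ya2 za35) (ka xa5 ya24 za5) (ka xa18 ya53 za46) (ka xa10 ya27 za57) (ka xa10 ya3 za27) (ka xa10 ya15 za43) (ka xa10 ya27 za58) (ka xa18 ya51 za32) (ka xa18 ya51 za31)) (@D3.rec (fun _ => Pt) (ka xa5 ya17 za42) (ka xa18 ya53 za58) (ka xa18 ya53 za59) (ka xa18 ya51 za40) (ka xa18 ya51 za41) (ka xa10 ya20 za7) (ka xa10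 ya54 za14) (ka xa15 ya51 za39) (ka xa5 ya31 za26) (ka xa10 ya3 za50) (ka xa10 ya42 za56) (ka xa8 ya56 za42) (ka xa18 ya54 za16) (ka xa18 ya54 za19) (ka xa15 ya32 za18) (ka xa15 ya59 za0) (ka xa15 ya58 za61) (ka xa5 ya17 za50) (ka xa18 ya54 za27) (ka xa14 ya33 za3) (ka xa10 ya24 za41) (ka xa10 ya24 za38) (ka xa17 ya16 za46) (ka xa17 ya16 za45) (ka xa10 ya22 za21) (ka xa10 ya22 za22) (ka xa17 ya21 za57) (ka xa18 ya51 za46) (ka xa10 ya22 za31) (ka xa10 ya28 za0) (ka xa10 ya28 za1) (ka xa18 ya51 za43) (ka xa18 ya51 za42) (ka xa5 ya17 za57) (ka xa18 ya54 za43) (ka xa13 ya4 za59) (ka xa13 ya35 za47) (ka xa15 ya58 za59) (ka xa15 ya58 za60) (ka xa7 ya15 za52) (ka xa13 ya5 za1) (ka xa7 ya32 za43) (ka xa10 ya54 za18) (ka xa7 ya32 za42) (ka xa18 ya51 za48) (ka xa18 ya51 za47) (ka xa5 ya18 za1) (ka xa18 ya54 za60) (ka xa18 ya54 za61)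 (ka xa10 ya15 za9) (ka xa18 ya5 za48) (ka xa18 ya5 za47) (ka xa5 ya18 za4) (ka xa5 ya18 za11) (ka xa18 ya55 za14) (ka xa18 ya36 za49) (ka xa10 ya42 za27) (ka xa5 ya18 za8) (ka xa13 ya4 za26) (ka xa18 ya55 za20) (ka xa18 ya55 za21) (ka xa5 ya18 za10)) (@D3.rec (fun _ => Pt) (ka xa18 ya55 za23) (ka xa18 ya55 za24) (ka xa18 ya55 za25) (ka xa18 ya55 za26) (ka xa18 ya55 za12) (ka xa10 ya42 za6) (ka xa18 ya55 za41) (ka xa15 ya40 za37) (ka xa18 ya55 za44) (ka xa16 ya46 za48) (ka xa10 ya51 za31) (ka xa18 ya52 za10) (ka xa18 ya52 za11) (ka xa17 ya21 za19) (ka xa18 ya52 za12) (ka xa18 ya52 za13) (ka xa10 ya22 za1) (ka xa10 ya22 za0) (ka xa18 ya52 za14) (ka xa10 ya22 za7) (ka xa10 ya22 za8) (ka xa8 ya57 za16) (ka xa10 ya28 za2) (ka xa10 ya22 za3) (ka xa10 ya22 za4) (ka xa18 ya15 za53) (ka xa10 ya22 za25) (ka xa10 ya28 za32) (ka xa10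 ya28 za33) (ka xa10 ya28 za34) (ka xa10 ya28 za35) (ka xa10 ya28 za36) (ka xa10 ya27 za59) (ka xa10 ya28 za37) (ka xa10 ya28 za38) (ka xa10 ya20 za47) (ka xa5 ya25 za45) (ka xa10 ya20 za61) (ka xa10 ya21 za0) (ka xa10 ya22 za23) (ka xa18 ya56 za29) (ka xa12 ya6 za31) (ka xa10 ya22 za10) (ka xa8 ya11 za40) (ka xa16 ya35 za38) (ka xa16 ya35 za39) (ka xa16 ya35 za40) (ka xa16 ya35 za41) (ka xa16 ya35 za42) (ka xa10 ya21 za6) (ka xa16 ya22 za4) (ka xa10 ya21 za21) (ka xa5 ya18 za54) (ka xa18 ya7 za36) (ka xa5 ya18 za41) (ka xa5 ya18 za42) (ka xa5 ya18 za43) (ka xa10 ya11 za59) (ka xa18 ya7 za37) (ka xa18 ya54 za41) (ka xa18 ya15 za25) (ka xa14 ya35 za21)) (@D3.rec (fun _ => Pt) (ka xa18 ya56 za45) (ka xa18 ya2 za8) (ka xa5 ya18 za46) (ka xa9 ya55 za59) (ka xa17 ya16 za59) (ka xa17 ya20 za0) (ka xa5 ya18 za47) (ka xa9 ya43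 za18) (ka xa18 ya56 za46) (ka xa9 ya43 za17) (ka xa5 ya18 za48) (ka xa10 ya12 za36) (ka xa5 ya18 za45) (ka xa10 ya30 za14) (ka xa18 ya1 za10) (ka xa18 ya57 za5) (ka xa15 ya32 za13) (ka xa13 ya35 za59) (ka xa13 ya19 za50) (ka xa14 ya35 za27) (ka xa18 ya57 za0) (ka xa10 ya12 za46) (ka xa12 ya21 za15) (ka xa13 ya19 za49) (ka xa5 ya18 za52) (ka xa5 ya18 za53) (ka xa12 ya35 za2) (ka xa11 ya36 za11) (ka xa11 ya36 za12) (ka xa18 ya57 za35) (ka xa11 ya36 za8) (ka xa11 ya36 za9) (ka xa11 ya35 za44) (ka xa11 ya35 za43) (ka xa18 ya57 za26) (ka xa18 ya57 za27) (ka xa18 ya57 za28) (ka xa18 ya57 za29) (ka xa12 ya35 za12) (ka xa9 ya43 za14) (ka xa10 ya23 za14) (ka xa9 ya15 za34) (ka xa10 ya23 za16) (ka xa10 ya23 za17) (ka xa9 ya15 za10) (ka xa10 ya23 za18) (ka xa10 ya23 za19) (ka xa10 ya29 za12) (ka xa10 ya29 za13) (ka xa6 ya29 za11)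 (ka xa10 ya14 za42) (ka xa18 ya58 za10) (ka xa10 ya28 za4) (ka xa10 ya15 za1) (ka xa10 ya28 za5) (ka xa10 ya28 za6) (ka xa17 ya46 za34) (ka xa10 ya24 za56) (ka xa10 ya24 za59) (ka xa10 ya26 za32) (ka xa10 ya28 za7) (ka xa10 ya28 za8)) (@D3.rec (fun _ => Pt) (ka xa10 ya25 za29) (ka xa10 ya25 za30) (ka xa10 ya26 za22) (ka xa18 ya58 za19) (ka xa10 ya27 za52) (ka xa10 ya27 za54) (ka xa10 ya27 za55) (ka xa10 ya27 za60) (ka xa10 ya27 za61) (ka xa18 ya13 za5) (ka xa18 ya13 za4) (ka xa5 ya19 za12) (ka xa8 ya52 za2) (ka xa10 ya22 za6) (ka xa10 ya29 za26) (ka xa10 ya29 za25) (ka xa5 ya19 za15) (ka xa18 ya58 za36) (ka xa18 ya58 za37) (ka xa10 ya14 za58) (ka xa10 ya14 za59) (ka xa10 ya14 za60) (ka xa10 ya14 za61) (ka xa10 ya15 za0) (ka xa10 ya15 za2) (ka xa10 ya15 za3) (ka xa10 ya15 za4) (ka xa10 ya29 za43) (ka xa10 ya29 za42) (ka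 xa5 ya19 za21) (ka xa18 ya59 za2) (ka xa18 ya59 za3) (ka xa10 ya26 za27) (ka xa10 ya26 za28) (ka xa10 ya26 za29) (ka xa10 ya26 za30) (ka xa10 ya26 za31) (ka xa10 ya26 za33) (ka xa10 ya26 za34) (ka xa8 ya44 za37) (ka xa8 ya44 za36) (ka xa5 ya21 za43) (ka xa5 ya22 za53) (ka xa5 ya21 za42) (ka xa8 ya45 za18) (ka xa10 ya30 za1) (ka xa5 ya19 za28) (ka xa18 ya59 za34) (ka xa8 ya44 za55) (ka xa10 ya29 za60) (ka xa10 ya29 za61) (ka xa10 ya30 za0) (ka xa10 ya29 za56) (ka xa10 ya29 za55) (ka xa5 ya19 za31) (ka xa18 ya59 za49) (ka xa18 ya59 za50) (ka xa10 ya30 za5) (ka xa10 ya30 za6) (ka xa10 ya30 za7) (ka xa19 ya0 za3) (ka xa10 ya29 za5)) (@D3.rec (fun _ => Pt) (ka xa19 ya0 za9) (ka xa10 ya29 za3) (ka xa16 ya21 za16) (ka xa10 ya29 za1) (ka xa19 ya0 za20) (ka xa10 ya28 za61) (ka xa10 ya30 za22) (ka xa10 ya30 za23) (ka xa10 ya30 za24)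 (ka xa10 ya30 za25) (ka xa8 ya44 za48) (ka xa10 ya30 za26) (ka xa10 ya27 za47) (ka xa10 ya27 za48) (ka xa5 ya24 za26) (ka xa10 ya20 za46) (ka xa10 ya15 za60) (ka xa8 ya41 za41) (ka xa8 ya41 za44) (ka xa15 ya14 za32) (ka xa18 ya5 za53) (ka xa18 ya5 za52) (ka xa5 ya19 za45) (ka xa19 ya0 za42) (ka xa15 ya14 za39) (ka xa10 ya28 za15) (ka xa10 ya28 za14) (ka xa5 ya19 za48) (ka xa19 ya0 za52) (ka xa16 ya53 za0) (ka xa10 ya3 za23) (ka xa10 ya3 za24) (ka xa10 ya3 za25) (ka xa10 ya3 za26) (ka xa10 ya3 za28) (ka xa10 ya3 za29) (ka xa10 ya3 za30) (ka xa10 ya3 za31) (ka xa8 ya54 za6) (ka xa12 ya54 za14) (ka xa10 ya3 za34) (ka xa5 ya23 za19) (ka xa10 ya28 za28) (ka xa10 ya28 za27) (ka xa5 ya19 za56) (ka xa19 ya1 za14) (ka xa19 ya1 za15) (ka xa10 ya22 za26) (ka xa10 ya22 za27) (ka xa10 ya22 za28) (ka xa10 ya22 za29) (ka xa10 ya22 za30)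 (ka xa10 ya22 za32) (ka xa10 ya22 za33) (ka xa10 ya22 za34) (ka xa10 ya28 za53) (ka xa10 ya28 za52) (ka xa5 ya20 za0) (ka xa11 ya13 za38) (ka xa16 ya22 za31) (ka xa10 ya28 za49) (ka xa10 ya28 za50)) (@D3.rec (fun _ => Pt) (ka xa10 ya28 za51) (ka xa10 ya28 za45) (ka xa5 ya20 za3) (ka xa16 ya21 za19) (ka xa19 ya1 za44) (ka xa10 ya28 za57) (ka xa10 ya28 za58) (ka xa10 ya28 za59) (ka xa5 ya20 za6) (ka xa19 ya1 za54) (ka xa9 ya54 za17) (ka xa18 ya21 za39) (ka xa19 ya1 za53) (ka xa5 ya20 za7) (ka xa10 ya27 za13) (ka xa19 ya1 za61) (ka xa18 ya21 za40) (ka xa19 ya2 za5) (ka xa9 ya53 za23) (ka xa10 ya30 za20) (ka xa10 ya30 za19) (ka xa9 ya57 za22) (ka xa10 ya29 za6) (ka xa10 ya29 za7) (ka xa10 ya29 za8) (ka xa10 ya29 za9) (ka xa10 ya29 za11) (ka xa10 ya23 za20) (ka xa10 ya23 za21) (ka xa8 ya54 za32) (ka xa14 ya39 za11) (ka xa5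 ya21 za41) (ka xa19 ya2 za38) (ka xa5 ya21 za49) (ka xa5 ya21 za50) (ka xa5 ya21 za52) (ka xa5 ya21 za53) (ka xa19 ya2 za49) (ka xa5 ya21 za61) (ka xa5 ya22 za0) (ka xa19 ya2 za57) (ka xa5 ya22 za2) (ka xa5 ya22 za3) (ka xa19 ya3 za2) (ka xa19 ya3 za6) (ka xa5 ya20 za21) (ka xa19 ya3 za10) (ka xa19 ya3 za1) (ka xa5 ya22 za9) (ka xa5 ya22 za10) (ka xa5 ya22 za12) (ka xa5 ya22 za13) (ka xa5 ya22 za14) (ka xa19 ya3 za23) (ka xa10 ya35 za20) (ka xa10 ya35 za21) (ka xa19 ya3 za26) (ka xa19 ya3 za29) (ka xa5 ya22 za56) (ka xa19 ya3 za35) (ka xa5 ya22 za60) (ka xa5 ya23 za41)) (@D3.rec (fun _ => Pt) (ka xa5 ya23 za40) (ka xa5 ya20 za30) (ka xa19 ya3 za41) (ka xa5 ya23 za4) (ka xa5 ya23 za6) (ka xa5 ya23 za7) (ka xa5 ya23 za8) (ka xa5 ya23 za9) (ka xa5 ya23 za10) (ka xa5 ya23 za13) (ka xa5 ya23 za14) (ka xa19 ya3 za61) (ka xa5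 ya23 za34) (ka xa5 ya23 za38) (ka xa5 ya23 za0) (ka xa5 ya22 za61) (ka xa5 ya20 za37) (ka xa16 ya21 za25) (ka xa14 ya36 za39) (ka xa5 ya23 za45) (ka xa5 ya23 za46) (ka xa5 ya23 za47) (ka xa5 ya23 za48) (ka xa5 ya23 za49) (ka xa5 ya23 za50) (ka xa5 ya23 za51) (ka xa5 ya31 za18) (ka xa16 ya12 za59) (ka xa15 ya12 za48) (ka xa19 ya4 za24) (ka xa5 ya24 za8) (ka xa5 ya24 za37) (ka xa5 ya24 za36) (ka xa5 ya20 za44) (ka xa19 ya4 za29) (ka xa7 ya45 za58) (ka xa5 ya24 za17) (ka xa5 ya24 za19) (ka xa5 ya24 za20) (ka xa5 ya24 za21) (ka xa5 ya24 za25) (ka xa5 ya24 za27) (ka xa15 ya8 za54) (ka xa15 ya8 za55) (ka xa5 ya24 za11) (ka xa5 ya24 za10) (ka xa5 ya20 za50) (ka xa19 ya4 za39) (ka xa7 ya36 za55) (ka xa5 ya24 za40) (ka xa5 ya24 za41) (ka xa5 ya24 za42) (ka xa5 ya24 za43) (ka xa5 ya24 za44) (ka xa5 ya24 za45) (ka xa5 ya25 za2) (ka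 xa5 ya25 za1) (ka xa5 ya20 za55) (ka xa19 ya4 za52) (ka xa19 ya4 za53) (ka xa5 ya24 za61) (ka xa5 ya24 za52)) (@D3.rec (fun _ => Pt) (ka xa5 ya24 za51) (ka xa13 ya4 za48) (ka xa5 ya25 za7) (ka xa5 ya25 za8) (ka xa5 ya21 za4) (ka xa5 ya21 za0) (ka xa14 ya43 za30) (ka xa19 ya5 za3) (ka xa11 ya54 za56) (ka xa14 ya41 za58) (ka xa5 ya21 za1) (ka xa19 ya5 za8) (ka xa18 ya22 za25) (ka xa5 ya21 za3) (ka xa17 ya52 za23) (ka xa17 ya52 za22) (ka xa19 ya5 za2) (ka xa19 ya5 za15) (ka xa5 ya25 za30) (ka xa19 ya5 za19) (ka xa5 ya25 za32) (ka xa5 ya25 za35) (ka xa5 ya25 za37) (ka xa5 ya25 za39) (ka xa5 ya25 za40) (ka xa5 ya25 za41) (ka xa5 ya25 za43) (ka xa5 ya25 za44) (ka xa10 ya35 za18) (ka xa5 ya25 za47) (ka xa5 ya25 za48) (ka xa5 ya25 za49) (ka xa19 ya5 za39) (ka xa10 ya32 za45) (ka xa10 ya32 za46) (ka xa19 ya5 za43) (ka xa9 ya35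 za26) (ka xa9 ya35 za27) (ka xa15 ya41 za27) (ka xa15 ya41 za26) (ka xa5 ya21 za13) (ka xa14 ya46 za51) (ka xa10 ya32 za51) (ka xa9 ya34 za47) (ka xa10 ya32 za53) (ka xa10 ya32 za33) (ka xa10 ya32 za34) (ka xa16 ya3 za60) (ka xa16 ya3 za59) (ka xa5 ya21 za16) (ka xa19 ya6 za3) (ka xa10 ya32 za42) (ka xa7 ya58 za40) (ka xa10 ya32 za44) (ka xa19 ya6 za14) (ka xa10 ya19 za18) (ka xa19 ya6 za18) (ka xa15 ya0 za45) (ka xa15 ya38 za40) (ka xa15 ya38 za39) (ka xa15 ya38 za41) (ka xa15 ya0 za36)) (@D3.rec (fun _ => Pt) (ka xa15 ya0 za37) (ka xa16 ya34 za43) (ka xa16 ya34 za44) (ka xa18 ya34 za9) (ka xa18 ya34 za8) (ka xa5 ya21 za23) (ka xa19 ya6 za38) (ka xa16 ya34 za47) (ka xa12 ya47 za54) (ka xa10 ya0 za45) (ka xa10 ya0 za46) (ka xa10 ya0 za47) (ka xa10 ya0 za48) (ka xa19 ya6 za51) (ka xa10 ya16 za51) (ka xa10 ya16 za48) (ka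 xa10 ya16 za46) (ka xa10 ya16 za47) (ka xa19 ya6 za56) (ka xa10 ya34 za20) (ka xa19 ya6 za60) (ka xa10 ya33 za54) (ka xa11 ya6 za20) (ka xa19 ya7 za4) (ka xa10 ya33 za53) (ka xa14 ya39 za8) (ka xa14 ya39 za9) (ka xa14 ya39 za10) (ka xa15 ya0 za52) (ka xa9 ya33 za21) (ka xa13 ya34 za8) (ka xa14 ya17 za39) (ka xa11 ya54 za54) (ka xa13 ya7 za60) (ka xa10 ya42 za47) (ka xa14 ya39 za27) (ka xa18 ya31 za30) (ka xa14 ya39 za32) (ka xa19 ya2 za35) (ka xa18 ya59 za30) (ka xa19 ya7 za38) (ka xa8 ya11 za41) (ka xa15 ya16 za43) (ka xa11 ya55 za33) (ka xa15 ya32 za2) (ka xa19 ya7 za47) (ka xa16 ya38 za33) (ka xa19 ya7 za51) (ka xa16 ya38 za35) (ka xa16 ya38 za34) (ka xa5 ya21 za48) (ka xa19 ya7 za55) (ka xa19 ya7 za56) (ka xa10 ya33 za24) (ka xa10 ya33 za21) (ka xa19 ya2 za41) (ka xa19 ya2 za42) (ka xa19 ya2 za43) (ka xa19 ya2 za44)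 (ka xa19 ya2 za45) (ka xa11 ya55 za50) (ka xa11 ya55 za51)) (@D3.rec (fun _ => Pt) (ka xa19 ya2 za46) (ka xa16 ya2 za55) (ka xa19 ya2 za37) (ka xa19 ya2 za36) (ka xa5 ya21 za54) (ka xa19 ya8 za27) (ka xa19 ya8 za28) (ka xa16 ya38 za38) (ka xa16 ya38 za28) (ka xa9 ya4 za5) (ka xa16 ya38 za30) (ka xa16 ya38 za31) (ka xa16 ya38 za26) (ka xa16 ya38 za27) (ka xa11 ya56 za8) (ka xa19 ya2 za56) (ka xa19 ya2 za55) (ka xa5 ya21 za60) (ka xa19 ya8 za54) (ka xa19 ya8 za55) (ka xa10 ya33 za19) (ka xa19 ya2 za52) (ka xa19 ya2 za53) (ka xa19 ya2 za54) (ka xa19 ya2 za48) (ka xa19 ya2 za47) (ka xa5 ya22 za1) (ka xa19 ya9 za14) (ka xa19 ya9 za15) (ka xa19 ya2 za60) (ka xa19 ya2 za61) (ka xa19 ya3 za0) (ka xa5 ya22 za8) (ka xa5 ya22 za4) (ka xa17 ya36 za9) (ka xa6 ya46 za29) (ka xa19 ya9 za33) (ka xa19 ya9 za34) (ka xa5 ya22 za5) (ka xa19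 ya9 za46) (ka xa19 ya9 za41) (ka xa5 ya22 za7) (ka xa19 ya9 za48) (ka xa19 ya9 za49) (ka xa19 ya9 za50) (ka xa19 ya9 za51) (ka xa19 ya9 za30) (ka xa19 ya9 za31) (ka xa14 ya52 za5) (ka xa19 ya3 za15) (ka xa19 ya10 za8) (ka xa19 ya3 za17) (ka xa19 ya6 za44) (ka xa18 ya31 za28) (ka xa19 ya3 za18) (ka xa19 ya3 za19) (ka xa19 ya3 za20) (ka xa12 ya4 za32) (ka xa12 ya4 za33) (ka xa5 ya25 za42) (ka xa10 ya35 za24) (ka xa10 ya35 za25)) (@D3.rec (fun _ => Pt) (ka xa10 ya35 za26) (ka xa10 ya55 za51) (ka xa8 ya59 za57) (ka xa10 ya37 za36) (ka xa10 ya37 za35) (ka xa5 ya22 za19) (ka xa19 ya10 za38) (ka xa14 ya47 za51) (ka xa9 ya43 za12) (ka xa9 ya0 za5) (ka xa10 ya35 za35) (ka xa10 ya35 za36) (ka xa10 ya35 za39) (ka xa10 ya35 za40) (ka xa10 ya35 za41) (ka xa10 ya35 za43) (ka xa9 ya41 za30) (ka xa9 ya42 za7) (ka xa10 ya32 za28) (ka xa13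 ya9 za45) (ka xa10 ya30 za54) (ka xa10 ya30 za55) (ka xa18 ya22 za22) (ka xa9 ya41 za21) (ka xa10 ya34 za60) (ka xa10 ya34 za61) (ka xa10 ya35 za0) (ka xa19 ya10 za57) (ka xa9 ya41 za24) (ka xa10 ya15 za40) (ka xa10 ya15 za38) (ka xa19 ya3 za60) (ka xa19 ya3 za59) (ka xa5 ya22 za36) (ka xa7 ya50 za35) (ka xa10 ya35 za10) (ka xa10 ya35 za11) (ka xa9 ya41 za32) (ka xa9 ya41 za33) (ka xa10 ya35 za12) (ka xa10 ya35 za13) (ka xa10 ya35 za14) (ka xa8 ya13 za54) (ka xa10 ya35 za15) (ka xa8 ya13 za21) (ka xa19 ya11 za17) (ka xa8 ya13 za53) (ka xa19 ya3 za25) (ka xa19 ya3 za24) (ka xa5 ya22 za45) (ka xa19 ya11 za25) (ka xa15 ya44 za2) (ka xa15 ya44 za3) (ka xa15 ya44 za5) (ka xa15 ya44 za6) (ka xa16 ya14 za25) (ka xa15 ya43 za59) (ka xa15 ya44 za0) (ka xa15 ya44 za8) (ka xa15 ya44 za7) (ka xa5 ya22 za51) (ka xa10 ya41 za24)) (@D3.rec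 (fun _ => Pt) (ka xa19 ya11 za39) (ka xa10 ya40 za41) (ka xa17 ya35 za43) (ka xa18 ya59 za27) (ka xa18 ya59 za29) (ka xa19 ya3 za34) (ka xa19 ya3 za33) (ka xa5 ya22 za54) (ka xa18 ya53 za54) (ka xa19 ya12 za2) (ka xa10 ya39 za22) (ka xa19 ya3 za31) (ka xa19 ya3 za32) (ka xa19 ya3 za28) (ka xa19 ya3 za27) (ka xa5 ya22 za57) (ka xa19 ya12 za19) (ka xa19 ya12 za20) (ka xa8 ya9 za40) (ka xa10 ya39 za20) (ka xa19 ya3 za37) (ka xa19 ya12 za35) (ka xa17 ya49 za22) (ka xa10 ya39 za12) (ka xa19 ya4 za3) (ka xa19 ya12 za45) (ka xa18 ya39 za20) (ka xa10 ya39 za11) (ka xa19 ya4 za2) (ka xa5 ya23 za2) (ka xa5 ya23 za3) (ka xa19 ya4 za5) (ka xa19 ya4 za4) (ka xa19 ya12 za51) (ka xa14 ya38 za11) (ka xa19 ya12 za52) (ka xa19 ya12 za53) (ka xa14 ya40 za18) (ka xa19 ya13 za6) (ka xa19 ya3 za47) (ka xa19 ya13 za11) (ka xa15 ya50 za1) (ka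 xa18 ya49 za54) (ka xa19 ya3 za48) (ka xa19 ya3 za49) (ka xa18 ya50 za50) (ka xa19 ya13 za23) (ka xa19 ya3 za51) (ka xa19 ya13 za27) (ka xa8 ya9 za53) (ka xa19 ya3 za53) (ka xa14 ya36 za57) (ka xa19 ya3 za54) (ka xa19 ya3 za55) (ka xa19 ya3 za56) (ka xa19 ya3 za57) (ka xa16 ya43 za60) (ka xa17 ya0 za52) (ka xa16 ya43 za61) (ka xa8 ya53 za49) (ka xa8 ya53 za50) (ka xa19 ya3 za58)) (@D3.rec (fun _ => Pt) (ka xa16 ya57 za46) (ka xa11 ya53 za39) (ka xa11 ya53 za40) (ka xa11 ya53 za41) (ka xa11 ya53 za35) (ka xa11 ya53 za36) (ka xa19 ya14 za3) (ka xa11 ya53 za37) (ka xa11 ya53 za38) (ka xa11 ya53 za46) (ka xa19 ya14 za13) (ka xa11 ya52 za52) (ka xa11 ya53 za16) (ka xa10 ya37 za17) (ka xa10 ya37 za16) (ka xa5 ya23 za21) (ka xa10 ya37 za14) (ka xa10 ya37 za13) (ka xa8 ya13 za51) (ka xa11 ya53 za34) (ka xa19 ya14 za28) (ka xa5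 ya23 za29) (ka xa15 ya43 za61) (ka xa19 ya3 za22) (ka xa19 ya3 za21) (ka xa5 ya23 za27) (ka xa19 ya14 za37) (ka xa19 ya14 za38) (ka xa14 ya9 za48) (ka xa9 ya0 za57) (ka xa19 ya14 za30) (ka xa16 ya16 za36) (ka xa16 ya3 za44) (ka xa15 ya18 za61) (ka xa8 ya41 za6) (ka xa10 ya35 za4) (ka xa10 ya35 za3) (ka xa5 ya23 za33) (ka xa7 ya44 za46) (ka xa6 ya2 za23) (ka xa16 ya51 za14) (ka xa9 ya41 za59) (ka xa8 ya40 za1) (ka xa16 ya8 za25) (ka xa9 ya41 za60) (ka xa12 ya43 za37) (ka xa10 ya51 za54) (ka xa15 ya36 za40) (ka xa19 ya15 za8) (ka xa16 ya50 za31) (ka xa10 ya39 za57) (ka xa10 ya52 za21) (ka xa19 ya3 za39) (ka xa10 ya39 za56) (ka xa14 ya37 za24) (ka xa5 ya23 za43) (ka xa5 ya23 za44) (ka xa19 ya3 za43) (ka xa19 ya3 za42) (ka xa19 ya15 za23) (ka xa19 ya15 za24) (ka xa19 ya15 za25)) (@D3.rec (fun _ => Pt) (ka xa14 ya39 za24) (ka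 xa19 ya15 za26) (ka xa14 ya40 za21) (ka xa19 ya4 za10) (ka xa19 ya4 za11) (ka xa19 ya4 za12) (ka xa19 ya4 za13) (ka xa19 ya15 za56) (ka xa8 ya10 za11) (ka xa19 ya4 za15) (ka xa12 ya23 za36) (ka xa19 ya16 za4) (ka xa19 ya4 za16) (ka xa19 ya4 za17) (ka xa19 ya4 za18) (ka xa19 ya4 za19) (ka xa19 ya4 za20) (ka xa15 ya45 za21) (ka xa19 ya16 za22) (ka xa19 ya4 za22) (ka xa16 ya54 za55) (ka xa10 ya53 za43) (ka xa15 ya45 za23) (ka xa16 ya2 za54) (ka xa16 ya2 za56) (ka xa16 ya2 za50) (ka xa16 ya2 za51) (ka xa19 ya16 za38) (ka xa16 ya2 za52) (ka xa16 ya2 za53) (ka xa19 ya16 za46) (ka xa8 ya43 za11) (ka xa8 ya43 za12) (ka xa19 ya16 za53) (ka xa11 ya52 za10) (ka xa16 ya2 za48) (ka xa16 ya2 za59) (ka xa16 ya2 za58) (ka xa5 ya23 za59) (ka xa9 ya45 za57) (ka xa11 ya51 za61) (ka xa14 ya7 za46) (ka xa5 ya24 za6) (ka xa9 ya42 za57) (ka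 xa9 ya42 za56) (ka xa5 ya24 za0) (ka xa16 ya21 za5) (ka xa19 ya17 za7) (ka xa9 ya42 za53) (ka xa9 ya42 za18) (ka xa9 ya42 za20) (ka xa9 ya42 za54) (ka xa9 ya42 za55) (ka xa15 ya19 za40) (ka xa15 ya16 za58) (ka xa16 ya45 za54) (ka xa16 ya45 za55) (ka xa10 ya20 za22) (ka xa15 ya49 za60) (ka xa15 ya49 za59) (ka xa5 ya24 za7) (ka xa19 ya17 za24)) (@D3.rec (fun _ => Pt) (ka xa19 ya4 za26) (ka xa19 ya4 za23) (ka xa5 ya34 za13) (ka xa5 ya24 za9) (ka xa19 ya17 za34) (ka xa17 ya50 za41) (ka xa19 ya4 za38) (ka xa18 ya46 za24) (ka xa17 ya53 za27) (ka xa5 ya24 za13) (ka xa5 ya24 za14) (ka xa10 ya36 za27) (ka xa10 ya36 za23) (ka xa8 ya44 za10) (ka xa18 ya45 za39) (ka xa19 ya17 za41) (ka xa19 ya17 za42) (ka xa19 ya17 za43) (ka xa7 ya45 za39) (ka xa18 ya46 za18) (ka xa10 ya36 za19) (ka xa19 ya18 za2) (ka xa10 ya36 za10) (ka xa18 ya39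 za17) (ka xa18 ya46 za12) (ka xa19 ya4 za32) (ka xa18 ya20 za38) (ka xa19 ya18 za11) (ka xa8 ya44 za44) (ka xa19 ya4 za34) (ka xa5 ya37 za14) (ka xa8 ya44 za27) (ka xa9 ya45 za16) (ka xa14 ya41 za56) (ka xa8 ya44 za39) (ka xa19 ya18 za16) (ka xa19 ya4 za35) (ka xa5 ya37 za8) (ka xa8 ya44 za23) (ka xa5 ya24 za35) (ka xa14 ya43 za40) (ka xa14 ya43 za44) (ka xa5 ya24 za30) (ka xa19 ya18 za23) (ka xa18 ya2 za49) (ka xa9 ya43 za54) (ka xa9 ya43 za57) (ka xa18 ya2 za50) (ka xa18 ya2 za51) (ka xa15 ya20 za25) (ka xa19 ya18 za38) (ka xa16 ya47 za52) (ka xa5 ya33 za56) (ka xa19 ya4 za28) (ka xa7 ya44 za49) (ka xa5 ya24 za39) (ka xa10 ya37 za53) (ka xa10 ya37 za50) (ka xa19 ya18 za45) (ka xa13 ya19 za45) (ka xa13 ya19 za43) (ka xa19 ya4 za41)) (@D3.rec (fun _ => Pt) (ka xa19 ya18 za59) (ka xa10 ya41 za2) (ka xa14 ya39 za31) (ka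 xa19 ya4 za43) (ka xa19 ya19 za3) (ka xa14 ya39 za30) (ka xa14 ya41 za46) (ka xa19 ya4 za45) (ka xa19 ya4 za46) (ka xa8 ya22 za16) (ka xa13 ya5 za38) (ka xa11 ya52 za59) (ka xa11 ya52 za60) (ka xa11 ya2 za21) (ka xa11 ya52 za55) (ka xa11 ya52 za56) (ka xa19 ya19 za24) (ka xa11 ya52 za57) (ka xa11 ya52 za58) (ka xa19 ya17 za5) (ka xa19 ya4 za60) (ka xa19 ya4 za61) (ka xa11 ya59 za2) (ka xa14 ya43 za27) (ka xa19 ya4 za59) (ka xa16 ya15 za10) (ka xa5 ya24 za54) (ka xa5 ya24 za55) (ka xa5 ya24 za56) (ka xa15 ya15 za34) (ka xa15 ya15 za33) (ka xa19 ya19 za42) (ka xa19 ya19 za43) (ka xa19 ya5 za0) (ka xa17 ya44 za4) (ka xa19 ya19 za44) (ka xa14 ya3 za53) (ka xa14 ya53 za13) (ka xa14 ya53 za12) (ka xa9 ya51 za27) (ka xa15 ya2 za1) (ka xa10 ya36 za1) (ka xa18 ya46 za25) (ka xa9 ya55 za58) (ka xa9 ya55 za49) (ka xa18 ya20 za35)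 (ka xa15 ya2 za39) (ka xa19 ya4 za51) (ka xa14 ya43 za43) (ka xa19 ya4 za47) (ka xa19 ya4 za48) (ka xa19 ya4 za49) (ka xa5 ya25 za4) (ka xa5 ya25 za5) (ka xa15 ya2 za5) (ka xa15 ya2 za4) (ka xa19 ya20 za17) (ka xa14 ya53 za15) (ka xa19 ya4 za55) (ka xa19 ya4 za54) (ka xa18 ya58 za15) (ka xa13 ya4 za47)) (@D3.rec (fun _ => Pt) (ka xa14 ya21 za58) (ka xa14 ya23 za0) (ka xa10 ya40 za1) (ka xa8 ya28 za15) (ka xa14 ya53 za2) (ka xa18 ya21 za0) (ka xa19 ya5 za1) (ka xa6 ya52 za27) (ka xa7 ya20 za56) (ka xa5 ya25 za27) (ka xa5 ya25 za28) (ka xa19 ya19 za29) (ka xa5 ya25 za15) (ka xa5 ya25 za16) (ka xa19 ya4 za50) (ka xa5 ya25 za13) (ka xa19 ya20 za48) (ka xa19 ya20 za49) (ka xa15 ya54 za45) (ka xa5 ya32 za36) (ka xa9 ya43 za60) (ka xa9 ya44 za3) (ka xa9 ya44 za4) (ka xa5 ya25 za19) (ka xa10 ya35 za61) (ka xa19 ya20 za45) (ka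 xa18 ya45 za33) (ka xa5 ya25 za20) (ka xa11 ya21 za5) (ka xa19 ya20 za46) (ka xa19 ya18 za15) (ka xa5 ya25 za21) (ka xa16 ya22 za43) (ka xa5 ya25 za18) (ka xa19 ya21 za16) (ka xa19 ya21 za17) (ka xa19 ya21 za0) (ka xa17 ya58 za29) (ka xa19 ya21 za10) (ka xa19 ya21 za11) (ka xa16 ya47 za11) (ka xa7 ya36 za29) (ka xa19 ya19 za5) (ka xa5 ya25 za23) (ka xa5 ya25 za24) (ka xa5 ya25 za25) (ka xa5 ya25 za26) (ka xa19 ya21 za36) (ka xa19 ya21 za29) (ka xa19 ya21 za30) (ka xa16 ya22 za42) (ka xa19 ya21 za32) (ka xa19 ya21 za33) (ka xa19 ya21 za34) (ka xa19 ya5 za22) (ka xa10 ya54 za4) (ka xa14 ya13 za37) (ka xa19 ya20 za40) (ka xa19 ya21 za35) (ka xa18 ya45 za13) (ka xa18 ya47 za37) (ka xa19 ya20 za41)) (@D3.rec (fun _ => Pt) (ka xa19 ya10 za5) (ka xa19 ya10 za4) (ka xa19 ya20 za42) (ka xa5 ya25 za29) (ka xa19 ya22 za22) (ka xa19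 ya22 za23) (ka xa10 ya26 za5) (ka xa19 ya5 za18) (ka xa18 ya48 za44) (ka xa5 ya25 za31) (ka xa19 ya22 za35) (ka xa19 ya22 za36) (ka xa17 ya48 za42) (ka xa19 ya5 za23) (ka xa19 ya5 za24) (ka xa17 ya48 za41) (ka xa5 ya25 za33) (ka xa9 ya58 za50) (ka xa9 ya18 za23) (ka xa19 ya22 za53) (ka xa19 ya5 za26) (ka xa19 ya5 za27) (ka xa18 ya48 za27) (ka xa19 ya23 za2) (ka xa18 ya16 za24) (ka xa18 ya48 za32) (ka xa17 ya52 za26) (ka xa10 ya25 za56) (ka xa11 ya26 za8) (ka xa17 ya52 za25) (ka xa19 ya19 za37) (ka xa15 ya3 za10) (ka xa9 ya5 za56) (ka xa19 ya5 za29) (ka xa19 ya20 za15) (ka xa17 ya35 za52) (ka xa9 ya5 za57) (ka xa19 ya5 za31) (ka xa9 ya22 za33) (ka xa19 ya5 za32) (ka xa11 ya30 za23) (ka xa9 ya43 za20) (ka xa19 ya10 za29) (ka xa18 ya58 za24) (ka xa7 ya44 za42) (ka xa7 ya36 za35) (ka xa18 ya56 za24) (ka xa10 ya33 za34) (ka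 xa7 ya45 za8) (ka xa11 ya2 za40) (ka xa16 ya13 za23) (ka xa8 ya41 za21) (ka xa19 ya5 za36) (ka xa19 ya5 za37) (ka xa19 ya23 za40) (ka xa9 ya25 za23) (ka xa10 ya25 za10) (ka xa10 ya17 za4) (ka xa19 ya23 za48) (ka xa19 ya23 za51) (ka xa10 ya54 za29) (ka xa19 ya23 za55)) (@D3.rec (fun _ => Pt) (ka xa6 ya45 za48) (ka xa5 ya25 za55) (ka xa19 ya23 za58) (ka xa19 ya23 za59) (ka xa11 ya55 za6) (ka xa15 ya55 za8) (ka xa15 ya55 za9) (ka xa15 ya55 za10) (ka xa15 ya55 za11) (ka xa15 ya55 za12) (ka xa10 ya1 za13) (ka xa15 ya55 za13) (ka xa11 ya2 za17) (ka xa10 ya17 za8) (ka xa10 ya17 za7) (ka xa5 ya25 za61) (ka xa9 ya50 za33) (ka xa11 ya55 za14) (ka xa10 ya44 za18) (ka xa11 ya55 za15) (ka xa12 ya44 za40) (ka xa11 ya55 za12) (ka xa9 ya50 za35) (ka xa5 ya26 za3) (ka xa5 ya26 za4) (ka xa11 ya34 za56) (ka xa11 ya34 za55) (ka xa8 ya0 za17)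 (ka xa11 ya31 za47) (ka xa19 ya24 za31) (ka xa10 ya47 za41) (ka xa19 ya24 za35) (ka xa10 ya44 za37) (ka xa5 ya30 za7) (ka xa19 ya24 za42) (ka xa10 ya44 za36) (ka xa11 ya54 za32) (ka xa5 ya26 za9) (ka xa19 ya24 za45) (ka xa13 ya1 za36) (ka xa15 ya32 za26) (ka xa9 ya25 za0) (ka xa9 ya24 za61) (ka xa12 ya52 za43) (ka xa13 ya2 za15) (ka xa11 ya54 za50) (ka xa9 ya26 za16) (ka xa5 ya30 za36) (ka xa11 ya54 za47) (ka xa11 ya54 za48) (ka xa11 ya54 za53) (ka xa11 ya54 za52) (ka xa12 ya58 za12) (ka xa12 ya56 za35) (ka xa11 ya5 za33) (ka xa19 ya25 za10) (ka xa11 ya55 za19) (ka xa19 ya25 za14) (ka xa11 ya55 za55) (ka xa9 ya31 za42) (ka xa5 ya26 za24) (ka xa19 ya25 za18)) (@D3.rec (fun _ => Pt) (ka xa19 ya25 za19) (ka xa9 ya24 za7) (ka xa15 ya55 za19) (ka xa15 ya55 za20) (ka xa15 ya55 za21) (ka xa15 ya55 za22) (ka xa15 ya55 za23) (ka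 xa15 ya55 za24) (ka xa15 ya39 za5) (ka xa11 ya53 za13) (ka xa15 ya55 za25) (ka xa15 ya55 za26) (ka xa11 ya56 za6) (ka xa11 ya56 za7) (ka xa15 ya30 za14) (ka xa11 ya56 za4) (ka xa5 ya26 za33) (ka xa5 ya26 za34) (ka xa10 ya43 za18) (ka xa16 ya47 za9) (ka xa16 ya59 za10) (ka xa19 ya25 za46) (ka xa15 ya30 za19) (ka xa11 ya55 za48) (ka xa11 ya10 za45) (ka xa11 ya55 za49) (ka xa11 ya53 za22) (ka xa11 ya53 za23) (ka xa11 ya39 za24) (ka xa19 ya25 za55) (ka xa11 ya32 za52) (ka xa11 ya32 za53) (ka xa9 ya31 za0) (ka xa9 ya31 za3) (ka xa5 ya26 za43) (ka xa19 ya25 za60) (ka xa10 ya43 za35) (ka xa10 ya43 za32) (ka xa15 ya32 za31) (ka xa15 ya32 za32) (ka xa15 ya32 za33) (ka xa13 ya43 za12) (ka xa15 ya32 za34) (ka xa15 ya32 za35) (ka xa15 ya32 za36) (ka xa15 ya32 za37) (ka xa15 ya30 za22) (ka xa6 ya51 za15) (ka xa11 ya55 za38) (ka xa9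 ya31 za47) (ka xa9 ya15 za39) (ka xa9 ya31 za48) (ka xa5 ya26 za56) (ka xa5 ya26 za57) (ka xa11 ya56 za22) (ka xa11 ya56 za21) (ka xa19 ya26 za23) (ka xa19 ya26 za24) (ka xa11 ya22 za53) (ka xa11 ya32 za50) (ka xa11 ya15 za18) (ka xa11 ya12 za36)) (@D3.rec (fun _ => Pt) (ka xa10 ya48 za16) (ka xa11 ya56 za11) (ka xa9 ya31 za2) (ka xa11 ya56 za9) (ka xa6 ya42 za37) (ka xa5 ya27 za1) (ka xa11 ya56 za14) (ka xa11 ya56 za13) (ka xa15 ya37 za56) (ka xa9 ya30 za29) (ka xa5 ya27 za19) (ka xa5 ya27 za6) (ka xa5 ya27 za8) (ka xa11 ya56 za10) (ka xa5 ya27 za5) (ka xa8 ya13 za55) (ka xa9 ya30 za50) (ka xa19 ya26 za57) (ka xa11 ya32 za55) (ka xa13 ya2 za24) (ka xa13 ya2 za22) (ka xa19 ya27 za7) (ka xa19 ya26 za53) (ka xa19 ya26 za54) (ka xa5 ya27 za11) (ka xa12 ya54 za1) (ka xa9 ya12 za12) (ka xa11 ya32 za54) (ka xa19 ya26 za55) (ka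 xa9 ya8 za57) (ka xa11 ya33 za12) (ka xa19 ya7 za50) (ka xa19 ya27 za14) (ka xa9 ya8 za54) (ka xa12 ya53 za13) (ka xa5 ya27 za17) (ka xa5 ya27 za18) (ka xa19 ya27 za37) (ka xa11 ya58 za30) (ka xa11 ya58 za29) (ka xa11 ya58 za9) (ka xa17 ya58 za21) (ka xa19 ya27 za33) (ka xa19 ya27 za34) (ka xa19 ya27 za35) (ka xa19 ya27 za36) (ka xa5 ya34 za35) (ka xa5 ya34 za34) (ka xa19 ya26 za52) (ka xa5 ya27 za20) (ka xa18 ya37 za41) (ka xa19 ya27 za56) (ka xa11 ya56 za47) (ka xa11 ya2 za13) (ka xa9 ya36 za26) (ka xa10 ya19 za13) (ka xa10 ya19 za12) (ka xa5 ya27 za26) (ka xa19 ya28 za5) (ka xa19 ya28 za6) (ka xa16 ya44 za5) (ka xa15 ya56 za2)) (@D3.rec (fun _ => Pt) (ka xa15 ya56 za1) (ka xa16 ya44 za6) (ka xa5 ya34 za60) (ka xa5 ya34 za61) (ka xa5 ya35 za0) (ka xa15 ya59 za8) (ka xa15 ya59 za7) (ka xa5 ya27 za30) (ka xa7 ya40 za24)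 (ka xa5 ya27 za61) (ka xa5 ya28 za0) (ka xa5 ya28 za1) (ka xa5 ya28 za5) (ka xa5 ya28 za8) (ka xa5 ya28 za10) (ka xa19 ya28 za45) (ka xa8 ya26 za37) (ka xa16 ya44 za8) (ka xa16 ya44 za7) (ka xa5 ya27 za37) (ka xa19 ya28 za51) (ka xa19 ya28 za52) (ka xa15 ya37 za38) (ka xa15 ya37 za29) (ka xa15 ya37 za30) (ka xa15 ya37 za32) (ka xa15 ya37 za33) (ka xa15 ya37 za27) (ka xa8 ya31 za28) (ka xa8 ya59 za54) (ka xa15 ya37 za28) (ka xa19 ya29 za13) (ka xa15 ya1 za31) (ka xa15 ya1 za32) (ka xa15 ya16 za24) (ka xa15 ya16 za23) (ka xa15 ya37 za35) (ka xa15 ya37 za34) (ka xa5 ya27 za45) (ka xa19 ya29 za25) (ka xa19 ya29 za26) (ka xa16 ya44 za12) (ka xa16 ya44 za13) (ka xa16 ya44 za14) (ka xa11 ya55 za11) (ka xa11 ya55 za10) (ka xa16 ya44 za16) (ka xa16 ya44 za15) (ka xa5 ya27 za50) (ka xa19 ya29 za52) (ka xa19 ya29 za53) (ka xa10 ya53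 za61) (ka xa16 ya44 za24) (ka xa16 ya44 za25) (ka xa16 ya44 za21) (ka xa16 ya44 za20) (ka xa5 ya27 za53) (ka xa19 ya30 za12) (ka xa19 ya30 za13) (ka xa10 ya53 za59) (ka xa16 ya44 za19) (ka xa11 ya55 za8)) (@D3.rec (fun _ => Pt) (ka xa19 ya30 za27) (ka xa5 ya36 za45) (ka xa10 ya53 za51) (ka xa16 ya44 za30) (ka xa19 ya30 za36) (ka xa10 ya53 za50) (ka xa16 ya44 za28) (ka xa5 ya27 za59) (ka xa5 ya27 za60) (ka xa16 ya44 za34) (ka xa16 ya44 za33) (ka xa19 ya30 za44) (ka xa7 ya39 za52) (ka xa6 ya3 za27) (ka xa7 ya15 za26) (ka xa14 ya13 za29) (ka xa19 ya28 za37) (ka xa7 ya9 za48) (ka xa7 ya35 za9) (ka xa19 ya30 za57) (ka xa13 ya17 za35) (ka xa19 ya30 za60) (ka xa19 ya28 za39) (ka xa19 ya28 za40) (ka xa7 ya11 za8) (ka xa5 ya35 za53) (ka xa7 ya41 za25) (ka xa14 ya11 za0) (ka xa8 ya56 za4) (ka xa8 ya56 za5) (ka xa15 ya1 za41) (ka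 xa16 ya37 za12) (ka xa19 ya31 za14) (ka xa19 ya28 za42) (ka xa19 ya28 za43) (ka xa8 ya56 za3) (ka xa19 ya31 za24) (ka xa10 ya20 za45) (ka xa10 ya20 za42) (ka xa10 ya3 za49) (ka xa19 ya31 za34) (ka xa10 ya43 za30) (ka xa19 ya31 za38) (ka xa15 ya36 za26) (ka xa16 ya37 za26) (ka xa16 ya37 za25) (ka xa5 ya28 za20) (ka xa19 ya31 za44) (ka xa19 ya31 za45) (ka xa16 ya37 za18) (ka xa16 ya37 za19) (ka xa16 ya37 za20) (ka xa16 ya37 za21) (ka xa16 ya37 za22) (ka xa15 ya17 za51) (ka xa16 ya37 za23) (ka xa8 ya34 za39) (ka xa8 ya55 za41) (ka xa16 ya37 za24) (ka xa8 ya35 za9) (ka xa16 ya43 za30) (ka xa11 ya28 za18)) (@D3.rec (fun _ => Pt) (ka xa16 ya43 za28) (ka xa5 ya28 za29) (ka xa5 ya28 za30) (ka xa19 ya32 za13) (ka xa10 ya58 za16) (ka xa19 ya32 za14) (ka xa19 ya32 za15) (ka xa16 ya55 za51) (ka xa10 ya58 za33) (ka xa10 ya58 za34)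 (ka xa10 ya58 za35) (ka xa10 ya58 za36) (ka xa16 ya49 za23) (ka xa12 ya4 za1) (ka xa16 ya51 za1) (ka xa11 ya14 za50) (ka xa10 ya45 za0) (ka xa16 ya42 za53) (ka xa16 ya43 za43) (ka xa11 ya4 za58) (ka xa16 ya44 za59) (ka xa11 ya4 za60) (ka xa16 ya49 za25) (ka xa15 ya44 za25) (ka xa16 ya50 za52) (ka xa15 ya44 za23) (ka xa15 ya44 za24) (ka xa5 ya28 za43) (ka xa11 ya0 za11) (ka xa11 ya0 za12) (ka xa15 ya5 za8) (ka xa17 ya1 za34) (ka xa19 ya27 za45) (ka xa5 ya52 za28) (ka xa16 ya49 za30) (ka xa11 ya58 za26) (ka xa11 ya2 za5) (ka xa5 ya52 za30) (ka xa16 ya44 za52) (ka xa11 ya5 za23) (ka xa11 ya5 za24) (ka xa16 ya43 za36) (ka xa11 ya5 za21) (ka xa5 ya28 za50) (ka xa5 ya28 za51) (ka xa5 ya28 za52) (ka xa11 ya5 za8) (ka xa11 ya5 za7) (ka xa19 ya32 za52) (ka xa19 ya32 za53) (ka xa19 ya32 za54) (ka xa10 ya55 za28) (ka xa19 ya32 za55)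 (ka xa19 ya32 za56) (ka xa9 ya46 za48) (ka xa19 ya32 za57) (ka xa10 ya55 za24) (ka xa10 ya55 za26) (ka xa10 ya55 za27) (ka xa9 ya46 za45) (ka xa16 ya43 za46) (ka xa10 ya55 za42)) (@D3.rec (fun _ => Pt) (ka xa16 ya44 za44) (ka xa10 ya55 za47) (ka xa5 ya28 za61) (ka xa10 ya55 za52) (ka xa10 ya55 za53) (ka xa10 ya55 za54) (ka xa11 ya31 za33) (ka xa18 ya26 za1) (ka xa5 ya52 za20) (ka xa11 ya5 za31) (ka xa11 ya2 za20) (ka xa11 ya5 za32) (ka xa11 ya4 za54) (ka xa5 ya29 za2) (ka xa17 ya53 za35) (ka xa14 ya50 za13) (ka xa16 ya44 za47) (ka xa16 ya44 za46) (ka xa19 ya33 za30) (ka xa16 ya44 za57) (ka xa16 ya44 za58) (ka xa10 ya55 za7) (ka xa10 ya55 za8) (ka xa11 ya4 za57) (ka xa16 ya44 za60) (ka xa16 ya44 za61) (ka xa11 ya5 za20) (ka xa5 ya29 za6) (ka xa19 ya33 za52) (ka xa19 ya33 za53) (ka xa19 ya33 za54) (ka xa19 ya28 za44) (ka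 xa16 ya44 za49) (ka xa16 ya44 za50) (ka xa10 ya55 za4) (ka xa10 ya55 za5) (ka xa11 ya5 za30) (ka xa16 ya44 za51) (ka xa11 ya55 za17) (ka xa5 ya29 za14) (ka xa12 ya11 za2) (ka xa16 ya45 za6) (ka xa16 ya45 za7) (ka xa19 ya34 za19) (ka xa16 ya45 za3) (ka xa16 ya45 za4) (ka xa16 ya45 za9) (ka xa16 ya45 za8) (ka xa19 ya34 za15) (ka xa8 ya0 za19) (ka xa9 ya50 za41) (ka xa11 ya32 za2) (ka xa11 ya32 za3) (ka xa16 ya38 za21) (ka xa16 ya38 za23) (ka xa10 ya23 za30) (ka xa10 ya23 za29) (ka xa5 ya29 za18) (ka xa19 ya34 za50) (ka xa15 ya16 za0) (ka xa15 ya16 za1) (ka xa15 ya16 za2)) (@D3.rec (fun _ => Pt) (ka xa5 ya35 za5) (ka xa5 ya35 za6) (ka xa5 ya35 za7) (ka xa19 ya35 za6) (ka xa5 ya29 za39) (ka xa5 ya29 za40) (ka xa5 ya29 za43) (ka xa15 ya15 za6) (ka xa15 ya15 za5) (ka xa5 ya29 za25) (ka xa19 ya35 za18) (ka xa19 ya35 za19) (ka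 xa5 ya30 za5) (ka xa5 ya30 za6) (ka xa5 ya30 za8) (ka xa5 ya30 za9) (ka xa5 ya30 za10) (ka xa8 ya35 za54) (ka xa19 ya35 za37) (ka xa8 ya17 za37) (ka xa8 ya18 za38) (ka xa19 ya35 za44) (ka xa16 ya18 za58) (ka xa15 ya59 za29) (ka xa8 ya36 za3) (ka xa19 ya35 za48) (ka xa8 ya17 za28) (ka xa15 ya49 za27) (ka xa15 ya23 za21) (ka xa15 ya49 za28) (ka xa16 ya18 za60) (ka xa16 ya18 za59) (ka xa5 ya29 za38) (ka xa19 ya35 za59) (ka xa19 ya35 za8) (ka xa15 ya37 za23) (ka xa8 ya18 za20) (ka xa19 ya35 za9) (ka xa15 ya36 za53) (ka xa8 ya26 za27) (ka xa15 ya51 za21) (ka xa11 ya4 za50) (ka xa15 ya51 za22) (ka xa16 ya42 za46) (ka xa16 ya42 za45) (ka xa5 ya29 za45) (ka xa19 ya36 za17) (ka xa19 ya36 za18) (ka xa10 ya24 za11) (ka xa16 ya42 za59) (ka xa16 ya42 za55) (ka xa16 ya42 za54) (ka xa5 ya29 za48) (ka xa19 ya36 za31) (ka xa19 ya36 za32)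 (ka xa16 ya42 za50) (ka xa16 ya42 za51) (ka xa16 ya42 za52) (ka xa15 ya44 za14) (ka xa8 ya31 za47) (ka xa16 ya42 za61) (ka xa16 ya42 za60)) (@D3.rec (fun _ => Pt) (ka xa5 ya29 za53) (ka xa19 ya36 za50) (ka xa19 ya36 za2) (ka xa10 ya56 za28) (ka xa12 ya58 za26) (ka xa16 ya43 za3) (ka xa16 ya43 za2) (ka xa5 ya29 za57) (ka xa19 ya36 za59) (ka xa19 ya36 za60) (ka xa15 ya59 za30) (ka xa19 ya37 za3) (ka xa5 ya39 za23) (ka xa10 ya56 za19) (ka xa16 ya43 za10) (ka xa19 ya37 za13) (ka xa10 ya56 za18) (ka xa16 ya43 za8) (ka xa5 ya30 za1) (ka xa5 ya30 za2) (ka xa16 ya43 za13) (ka xa16 ya43 za12) (ka xa19 ya37 za20) (ka xa19 ya37 za21) (ka xa19 ya37 za22) (ka xa17 ya32 za34) (ka xa19 ya37 za23) (ka xa19 ya37 za24) (ka xa19 ya37 za46) (ka xa8 ya48 za46) (ka xa19 ya37 za50) (ka xa10 ya26 za10) (ka xa19 ya35 za26) (ka xa19 ya35 za27)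 (ka xa19 ya35 za28) (ka xa19 ya35 za29) (ka xa16 ya8 za19) (ka xa8 ya18 za9) (ka xa8 ya7 za59) (ka xa15 ya19 za28) (ka xa16 ya8 za24) (ka xa19 ya24 za39) (ka xa19 ya35 za30) (ka xa19 ya35 za31) (ka xa19 ya35 za32) (ka xa19 ya35 za33) (ka xa15 ya36 za48) (ka xa19 ya38 za24) (ka xa19 ya35 za35) (ka xa18 ya46 za31) (ka xa19 ya38 za33) (ka xa15 ya38 za28) (ka xa15 ya58 za10) (ka xa11 ya55 za35) (ka xa10 ya37 za46) (ka xa15 ya58 za11) (ka xa5 ya32 za30) (ka xa15 ya58 za7) (ka xa15 ya58 za8) (ka xa19 ya38 za47) (ka xa15 ya39 za42) (ka xa15 ya58 za9)) (@D3.rec (fun _ => Pt) (ka xa19 ya38 za52) (ka xa15 ya51 za29) (ka xa15 ya58 za12) (ka xa6 ya48 za19) (ka xa5 ya30 za19) (ka xa19 ya38 za56) (ka xa15 ya58 za6) (ka xa11 ya5 za22) (ka xa5 ya30 za21) (ka xa19 ya39 za2) (ka xa19 ya39 za3) (ka xa16 ya43 za39) (ka xa16 ya43 za38) (ka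 xa19 ya39 za13) (ka xa16 ya43 za50) (ka xa16 ya43 za51) (ka xa10 ya57 za10) (ka xa6 ya32 za8) (ka xa6 ya32 za9) (ka xa11 ya4 za53) (ka xa5 ya30 za25) (ka xa10 ya37 za51) (ka xa17 ya53 za19) (ka xa19 ya39 za24) (ka xa15 ya36 za44) (ka xa16 ya43 za41) (ka xa16 ya43 za42) (ka xa10 ya57 za7) (ka xa10 ya57 za8) (ka xa11 ya4 za59) (ka xa16 ya43 za44) (ka xa16 ya43 za45) (ka xa5 ya30 za33) (ka xa5 ya30 za34) (ka xa5 ya30 za35) (ka xa5 ya30 za37) (ka xa5 ya30 za38) (ka xa19 ya39 za54) (ka xa16 ya43 za56) (ka xa16 ya43 za57) (ka xa16 ya45 za11) (ka xa16 ya43 za53) (ka xa16 ya43 za54) (ka xa8 ya47 za19) (ka xa19 ya39 za48) (ka xa19 ya39 za49) (ka xa12 ya11 za3) (ka xa19 ya40 za6) (ka xa19 ya39 za50) (ka xa19 ya39 za51) (ka xa19 ya25 za3) (ka xa13 ya2 za21) (ka xa19 ya24 za58) (ka xa19 ya24 za60) (ka xa16 ya45 za12) (ka xa19 ya39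 za52) (ka xa19 ya37 za39) (ka xa19 ya39 za53) (ka xa7 ya59 za46) (ka xa11 ya10 za24) (ka xa11 ya2 za29) (ka xa11 ya10 za39)) (@D3.rec (fun _ => Pt) (ka xa9 ya6 za44) (ka xa12 ya57 za50) (ka xa12 ya57 za51) (ka xa5 ya32 za48) (ka xa12 ya15 za44) (ka xa19 ya40 za32) (ka xa5 ya30 za47) (ka xa19 ya40 za33) (ka xa19 ya40 za34) (ka xa11 ya2 za10) (ka xa12 ya55 za57) (ka xa12 ya14 za5) (ka xa16 ya39 za7) (ka xa19 ya40 za43) (ka xa16 ya39 za10) (ka xa5 ya57 za5) (ka xa5 ya30 za51) (ka xa16 ya5 za36) (ka xa12 ya14 za4) (ka xa15 ya45 za33) (ka xa16 ya4 za28) (ka xa6 ya11 za38) (ka xa12 ya15 za41) (ka xa12 ya15 za40) (ka xa5 ya30 za58) (ka xa15 ya51 za59) (ka xa15 ya51 za58) (ka xa5 ya30 za60) (ka xa19 ya40 za56) (ka xa19 ya40 za57) (ka xa5 ya31 za13) (ka xa5 ya31 za14) (ka xa5 ya31 za15) (ka xa5 ya31 za16) (ka xa5 ya31 za17) (ka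 xa5 ya31 za19) (ka xa5 ya31 za20) (ka xa5 ya31 za23) (ka xa5 ya31 za25) (ka xa15 ya51 za3) (ka xa15 ya51 za2) (ka xa5 ya31 za4) (ka xa19 ya41 za16) (ka xa10 ya38 za21) (ka xa19 ya41 za24) (ka xa5 ya32 za55) (ka xa16 ya46 za31) (ka xa19 ya41 za29) (ka xa5 ya31 za9) (ka xa5 ya31 za10) (ka xa10 ya47 za5) (ka xa10 ya47 za2) (ka xa19 ya41 za30) (ka xa14 ya16 za37) (ka xa19 ya41 za31) (ka xa19 ya41 za32) (ka xa16 ya8 za33) (ka xa19 ya41 za33) (ka xa19 ya41 za49) (ka xa10 ya46 za59) (ka xa19 ya41 za56) (ka xa10 ya46 za51)) (@D3.rec (fun _ => Pt) (ka xa17 ya12 za40) (ka xa19 ya41 za2) (ka xa18 ya4 za24) (ka xa18 ya4 za23) (ka xa10 ya41 za55) (ka xa18 ya54 za52) (ka xa7 ya38 za9) (ka xa19 ya42 za5) (ka xa19 ya41 za4) (ka xa19 ya41 za5) (ka xa15 ya30 za56) (ka xa15 ya30 za54) (ka xa15 ya3 za15) (ka xa15 ya19 za45) (ka xa10 ya25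 za6) (ka xa19 ya42 za13) (ka xa19 ya41 za7) (ka xa11 ya56 za2) (ka xa10 ya25 za42) (ka xa19 ya41 za8) (ka xa15 ya2 za12) (ka xa16 ya39 za18) (ka xa16 ya39 za19) (ka xa19 ya42 za22) (ka xa18 ya46 za59) (ka xa19 ya41 za10) (ka xa18 ya49 za8) (ka xa11 ya56 za1) (ka xa19 ya42 za30) (ka xa10 ya42 za60) (ka xa7 ya58 za59) (ka xa7 ya58 za60) (ka xa16 ya41 za19) (ka xa7 ya58 za55) (ka xa7 ya58 za56) (ka xa7 ya58 za57) (ka xa5 ya31 za30) (ka xa5 ya31 za31) (ka xa7 ya58 za33) (ka xa19 ya42 za40) (ka xa19 ya42 za41) (ka xa15 ya30 za34) (ka xa15 ya30 za33) (ka xa16 ya57 za53) (ka xa9 ya44 za26) (ka xa9 ya44 za27) (ka xa9 ya44 za28) (ka xa5 ya31 za33) (ka xa6 ya42 za20) (ka xa10 ya59 za29) (ka xa19 ya16 za7) (ka xa16 ya46 za58) (ka xa16 ya46 za59) (ka xa5 ya35 za1) (ka xa16 ya46 za61) (ka xa5 ya31 za36) (ka xa8 ya58 za60) (ka xa16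 ya40 za38) (ka xa16 ya46 za56) (ka xa5 ya31 za42) (ka xa5 ya31 za43) (ka xa5 ya31 za44)) (@D3.rec (fun _ => Pt) (ka xa5 ya31 za45) (ka xa5 ya31 za46) (ka xa5 ya31 za47) (ka xa19 ya43 za15) (ka xa10 ya49 za34) (ka xa10 ya49 za35) (ka xa19 ya43 za22) (ka xa10 ya49 za21) (ka xa10 ya49 za22) (ka xa16 ya47 za2) (ka xa16 ya47 za1) (ka xa19 ya43 za6) (ka xa19 ya43 za7) (ka xa19 ya43 za8) (ka xa19 ya43 za9) (ka xa19 ya43 za10) (ka xa19 ya43 za12) (ka xa19 ya43 za46) (ka xa19 ya43 za13) (ka xa19 ya43 za14) (ka xa11 ya12 za1) (ka xa5 ya31 za48) (ka xa19 ya43 za52) (ka xa11 ya26 za60) (ka xa10 ya48 za56) (ka xa9 ya44 za9) (ka xa10 ya48 za57) (ka xa10 ya48 za58) (ka xa10 ya48 za51) (ka xa11 ya12 za49) (ka xa16 ya46 za20) (ka xa18 ya2 za21) (ka xa15 ya48 za29) (ka xa12 ya58 za7) (ka xa8 ya58 za58) (ka xa12 ya58 za9) (ka xa10 ya58 za42)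 (ka xa11 ya12 za10) (ka xa16 ya41 za25) (ka xa16 ya39 za56) (ka xa16 ya39 za57) (ka xa19 ya44 za6) (ka xa10 ya48 za61) (ka xa5 ya34 za6) (ka xa5 ya32 za3) (ka xa19 ya44 za9) (ka xa16 ya20 za18) (ka xa10 ya49 za1) (ka xa18 ya10 za35) (ka xa18 ya13 za1) (ka xa5 ya32 za6) (ka xa10 ya35 za1) (ka xa10 ya49 za3) (ka xa10 ya49 za4) (ka xa10 ya49 za5) (ka xa15 ya15 za12) (ka xa15 ya15 za11) (ka xa5 ya32 za8) (ka xa19 ya44 za24) (ka xa19 ya44 za25) (ka xa5 ya32 za24) (ka xa5 ya32 za25)) (@D3.rec (fun _ => Pt) (ka xa5 ya32 za26) (ka xa5 ya32 za27) (ka xa5 ya32 za28) (ka xa5 ya32 za29) (ka xa5 ya32 za32) (ka xa16 ya45 za23) (ka xa15 ya21 za20) (ka xa5 ya32 za14) (ka xa16 ya45 za28) (ka xa16 ya45 za27) (ka xa5 ya32 za15) (ka xa19 ya44 za60) (ka xa16 ya45 za26) (ka xa19 ya45 za6) (ka xa15 ya21 za3) (ka xa16 ya45 za32) (ka xa5 ya32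 za20) (ka xa5 ya32 za21) (ka xa10 ya51 za16) (ka xa10 ya51 za13) (ka xa19 ya45 za11) (ka xa19 ya45 za12) (ka xa19 ya45 za13) (ka xa19 ya45 za14) (ka xa19 ya45 za15) (ka xa17 ya58 za50) (ka xa19 ya45 za36) (ka xa19 ya45 za38) (ka xa10 ya51 za3) (ka xa19 ya44 za34) (ka xa19 ya44 za35) (ka xa19 ya44 za36) (ka xa19 ya44 za37) (ka xa19 ya45 za53) (ka xa9 ya43 za53) (ka xa19 ya44 za39) (ka xa19 ya38 za13) (ka xa19 ya45 za60) (ka xa15 ya51 za55) (ka xa19 ya44 za41) (ka xa11 ya55 za26) (ka xa19 ya44 za42) (ka xa19 ya44 za43) (ka xa19 ya44 za44) (ka xa19 ya44 za45) (ka xa14 ya53 za10) (ka xa19 ya46 za17) (ka xa19 ya44 za47) (ka xa19 ya38 za42) (ka xa19 ya46 za27) (ka xa19 ya44 za49) (ka xa11 ya55 za31) (ka xa11 ya55 za32) (ka xa7 ya58 za58) (ka xa5 ya32 za34) (ka xa16 ya45 za60) (ka xa8 ya59 za10) (ka xa16 ya26 za60) (ka xa16 ya46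 za3) (ka xa19 ya20 za57) (ka xa16 ya46 za0) (ka xa16 ya46 za1)) (@D3.rec (fun _ => Pt) (ka xa5 ya35 za8) (ka xa16 ya46 za2) (ka xa5 ya32 za43) (ka xa5 ya32 za44) (ka xa5 ya32 za45) (ka xa5 ya32 za46) (ka xa19 ya46 za50) (ka xa10 ya52 za27) (ka xa10 ya52 za28) (ka xa19 ya20 za59) (ka xa10 ya52 za16) (ka xa16 ya46 za10) (ka xa16 ya46 za9) (ka xa13 ya35 za51) (ka xa15 ya8 za19) (ka xa9 ya49 za24) (ka xa19 ya47 za5) (ka xa19 ya46 za47) (ka xa9 ya50 za37) (ka xa19 ya40 za21) (ka xa14 ya38 za27) (ka xa19 ya46 za49) (ka xa12 ya29 za48) (ka xa11 ya55 za42) (ka xa5 ya52 za29) (ka xa5 ya32 za50) (ka xa19 ya47 za17) (ka xa5 ya34 za20) (ka xa5 ya32 za51) (ka xa19 ya47 za20) (ka xa16 ya41 za36) (ka xa16 ya40 za29) (ka xa5 ya33 za46) (ka xa11 ya28 za21) (ka xa12 ya55 za54) (ka xa16 ya47 za39) (ka xa16 ya47 za38) (ka xa19 ya47 za32)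 (ka xa16 ya47 za45) (ka xa16 ya47 za46) (ka xa16 ya47 za47) (ka xa16 ya47 za48) (ka xa5 ya34 za51) (ka xa11 ya49 za33) (ka xa17 ya51 za50) (ka xa16 ya47 za41) (ka xa16 ya47 za42) (ka xa16 ya47 za43) (ka xa8 ya27 za51) (ka xa5 ya33 za4) (ka xa5 ya33 za5) (ka xa5 ya33 za8) (ka xa5 ya33 za9) (ka xa5 ya33 za11) (ka xa5 ya33 za12) (ka xa5 ya33 za13) (ka xa8 ya57 za19) (ka xa16 ya27 za61) (ka xa16 ya47 za54) (ka xa19 ya18 za40) (ka xa16 ya47 za53) (ka xa11 ya3 za45)) (@D3.rec (fun _ => Pt) (ka xa11 ya3 za42) (ka xa19 ya47 za54) (ka xa19 ya47 za55) (ka xa19 ya47 za56) (ka xa19 ya47 za57) (ka xa19 ya47 za58) (ka xa19 ya47 za59) (ka xa19 ya43 za32) (ka xa11 ya5 za53) (ka xa11 ya5 za54) (ka xa11 ya5 za43) (ka xa11 ya5 za44) (ka xa16 ya47 za58) (ka xa16 ya47 za57) (ka xa19 ya47 za61) (ka xa19 ya48 za0) (ka xa10 ya48 za4) (ka xa19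 ya48 za1) (ka xa16 ya54 za12) (ka xa9 ya14 za27) (ka xa11 ya51 za10) (ka xa19 ya48 za2) (ka xa9 ya3 za47) (ka xa19 ya48 za3) (ka xa12 ya54 za59) (ka xa19 ya48 za4) (ka xa19 ya48 za5) (ka xa17 ya6 za32) (ka xa16 ya48 za11) (ka xa16 ya48 za12) (ka xa5 ya33 za16) (ka xa19 ya48 za58) (ka xa19 ya48 za48) (ka xa10 ya48 za8) (ka xa10 ya48 za9) (ka xa10 ya48 za10) (ka xa10 ya48 za11) (ka xa19 ya49 za2) (ka xa11 ya16 za27) (ka xa12 ya54 za19) (ka xa19 ya49 za6) (ka xa11 ya27 za60) (ka xa10 ya55 za36) (ka xa11 ya5 za36) (ka xa9 ya1 za2) (ka xa11 ya5 za48) (ka xa11 ya28 za17) (ka xa15 ya54 za47) (ka xa9 ya44 za15) (ka xa19 ya49 za13) (ka xa15 ya19 za21) (ka xa16 ya47 za18) (ka xa16 ya47 za19) (ka xa5 ya33 za55) (ka xa5 ya33 za28) (ka xa19 ya42 za31) (ka xa16 ya56 za29) (ka xa19 ya49 za19) (ka xa8 ya8 za41) (ka xa15 ya54 za31) (ka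 xa16 ya47 za14) (ka xa8 ya46 za49)) (@D3.rec (fun _ => Pt) (ka xa12 ya32 za29) (ka xa5 ya34 za54) (ka xa5 ya33 za37) (ka xa5 ya33 za40) (ka xa5 ya33 za43) (ka xa15 ya21 za15) (ka xa19 ya49 za41) (ka xa12 ya49 za49) (ka xa19 ya49 za34) (ka xa19 ya49 za35) (ka xa19 ya49 za36) (ka xa11 ya42 za44) (ka xa16 ya48 za24) (ka xa11 ya10 za5) (ka xa11 ya10 za6) (ka xa19 ya49 za57) (ka xa11 ya9 za55) (ka xa11 ya9 za56) (ka xa16 ya47 za24) (ka xa16 ya47 za23) (ka xa19 ya49 za38) (ka xa17 ya31 za45) (ka xa16 ya48 za27) (ka xa17 ya32 za37) (ka xa17 ya32 za35) (ka xa19 ya50 za12) (ka xa19 ya49 za39) (ka xa11 ya42 za56) (ka xa5 ya34 za36) (ka xa10 ya54 za49) (ka xa19 ya47 za25) (ka xa17 ya15 za45) (ka xa5 ya33 za57) (ka xa5 ya33 za59) (ka xa5 ya33 za60) (ka xa5 ya34 za1) (ka xa5 ya34 za2) (ka xa5 ya34 za5) (ka xa16 ya47 za16) (ka xa16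 ya47 za17) (ka xa5 ya33 za53) (ka xa5 ya33 za54) (ka xa18 ya33 za33) (ka xa15 ya2 za50) (ka xa15 ya2 za51) (ka xa11 ya10 za1) (ka xa19 ya33 za6) (ka xa19 ya50 za26) (ka xa19 ya49 za18) (ka xa11 ya47 za45) (ka xa16 ya47 za28) (ka xa17 ya15 za44) (ka xa19 ya50 za27) (ka xa11 ya41 za53) (ka xa19 ya4 za27) (ka xa19 ya15 za29) (ka xa19 ya18 za42) (ka xa19 ya50 za16) (ka xa19 ya4 za37) (ka xa5 ya33 za58) (ka xa19 ya50 za50) (ka xa19 ya50 za51))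
def f_a_11 : D2 → D3 → Pt := @D2.rec (fun _ => D3 → Pt) (@D3.rec (fun _ => Pt) (ka xa19 ya17 za30) (ka xa19 ya18 za47) (ka xa19 ya39 za26) (ka xa19 ya50 za17) (ka xa19 ya50 za18) (ka xa5 ya34 za14) (ka xa19 ya50 za19) (ka xa19 ya50 za20) (ka xa19 ya50 za21) (ka xa19 ya44 za8) (ka xa5 ya34 za15) (ka xa10 ya48 za28) (ka xa10 ya48 za29) (ka xa19 ya50 za22) (ka xa19 ya39 za28) (ka xa14 ya42 za33) (ka xa19 ya5 za5) (ka xa18 ya45 za19) (ka xa5 ya34 za16) (ka xa16 ya47 za34) (ka xa16 ya53 za23) (ka xa5 ya34 za17) (ka xa16 ya47 za36) (ka xa11 ya11 za40) (ka xa17 ya8 za24) (ka xa12 ya10 za6) (ka xa5 ya34 za10) (ka xa5 ya34 za11) (ka xa5 ya34 za12) (ka xa19 ya17 za31) (ka xa19 ya33 za34) (ka xa19 ya51 za26) (ka xa19 ya33 za41) (ka xa17 ya4 za42) (ka xa16 ya47 za60) (ka xa19 ya51 za27) (ka xa11 ya41 za52) (ka xa19 ya51 za28) (ka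 xa19 ya17 za32) (ka xa19 ya17 za33) (ka xa19 ya51 za1) (ka xa14 ya15 za25) (ka xa19 ya51 za11) (ka xa7 ya45 za46) (ka xa7 ya36 za26) (ka xa14 ya41 za57) (ka xa14 ya21 za57) (ka xa7 ya48 za26) (ka xa6 ya1 za61) (ka xa9 ya8 za46) (ka xa6 ya1 za59) (ka xa6 ya45 za45) (ka xa16 ya53 za36) (ka xa5 ya34 za29) (ka xa5 ya34 za30) (ka xa5 ya34 za31) (ka xa5 ya34 za32) (ka xa5 ya34 za33) (ka xa5 ya34 za23) (ka xa16 ya56 za32) (ka xa16 ya56 za31) (ka xa17 ya21 za14)) (@D3.rec (fun _ => Pt) (ka xa16 ya56 za36) (ka xa16 ya56 za35) (ka xa17 ya21 za16) (ka xa16 ya56 za34) (ka xa19 ya52 za6) (ka xa5 ya49 za16) (ka xa16 ya55 za16) (ka xa5 ya49 za15) (ka xa16 ya55 za14) (ka xa16 ya55 za20) (ka xa16 ya55 za19) (ka xa19 ya21 za60) (ka xa19 ya51 za51) (ka xa12 ya25 za6) (ka xa19 ya51 za52) (ka xa19 ya51 za53) (ka xa19 ya51 za54) (ka xa11 ya48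 za18) (ka xa19 ya51 za55) (ka xa9 ya11 za10) (ka xa16 ya56 za43) (ka xa19 ya51 za57) (ka xa16 ya53 za24) (ka xa19 ya49 za25) (ka xa19 ya27 za51) (ka xa11 ya35 za54) (ka xa19 ya27 za52) (ka xa12 ya55 za52) (ka xa19 ya27 za49) (ka xa11 ya35 za53) (ka xa19 ya27 za50) (ka xa19 ya27 za53) (ka xa7 ya36 za19) (ka xa17 ya28 za26) (ka xa5 ya34 za38) (ka xa16 ya48 za58) (ka xa16 ya48 za57) (ka xa19 ya47 za60) (ka xa5 ya34 za40) (ka xa16 ya29 za20) (ka xa16 ya29 za19) (ka xa19 ya48 za21) (ka xa16 ya48 za41) (ka xa11 ya28 za16) (ka xa16 ya43 za29) (ka xa11 ya28 za22) (ka xa5 ya36 za49) (ka xa11 ya48 za40) (ka xa5 ya34 za45) (ka xa19 ya53 za4) (ka xa5 ya45 za40) (ka xa9 ya5 za29) (ka xa11 ya58 za21) (ka xa11 ya48 za41) (ka xa11 ya58 za22) (ka xa16 ya49 za0) (ka xa16 ya48 za59) (ka xa5 ya34 za48) (ka xa19 ya53 za10) (ka xa19 ya53 za11)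 (ka xa9 ya5 za30) (ka xa12 ya23 za44)) (@D3.rec (fun _ => Pt) (ka xa16 ya49 za2) (ka xa19 ya47 za45) (ka xa11 ya58 za25) (ka xa19 ya47 za46) (ka xa11 ya36 za15) (ka xa10 ya48 za36) (ka xa19 ya49 za32) (ka xa6 ya29 za47) (ka xa19 ya49 za33) (ka xa11 ya36 za14) (ka xa10 ya53 za9) (ka xa17 ya22 za35) (ka xa19 ya53 za24) (ka xa10 ya45 za53) (ka xa19 ya41 za26) (ka xa19 ya28 za23) (ka xa19 ya28 za24) (ka xa10 ya43 za12) (ka xa19 ya28 za25) (ka xa19 ya43 za0) (ka xa10 ya49 za10) (ka xa10 ya40 za13) (ka xa19 ya53 za37) (ka xa19 ya45 za9) (ka xa19 ya35 za1) (ka xa19 ya35 za2) (ka xa15 ya31 za18) (ka xa19 ya35 za3) (ka xa19 ya46 za44) (ka xa10 ya52 za60) (ka xa17 ya59 za8) (ka xa10 ya24 za30) (ka xa10 ya24 za29) (ka xa19 ya53 za52) (ka xa9 ya43 za47) (ka xa9 ya51 za36) (ka xa9 ya51 za35) (ka xa5 ya35 za14) (ka xa16 ya11 za45) (ka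 xa16 ya10 za19) (ka xa10 ya42 za49) (ka xa16 ya49 za55) (ka xa15 ya3 za46) (ka xa11 ya4 za19) (ka xa9 ya53 za40) (ka xa15 ya22 za50) (ka xa15 ya22 za49) (ka xa5 ya35 za18) (ka xa7 ya23 za55) (ka xa5 ya35 za52) (ka xa5 ya35 za54) (ka xa5 ya35 za55) (ka xa5 ya35 za56) (ka xa5 ya35 za58) (ka xa5 ya35 za61) (ka xa5 ya36 za0) (ka xa15 ya34 za55) (ka xa15 ya34 za56) (ka xa15 ya34 za57) (ka xa16 ya49 za57) (ka xa16 ya49 za56) (ka xa5 ya35 za25)) (@D3.rec (fun _ => Pt) (ka xa19 ya54 za29) (ka xa19 ya54 za30) (ka xa16 ya50 za9) (ka xa16 ya50 za10) (ka xa16 ya50 za11) (ka xa16 ya50 za12) (ka xa16 ya50 za13) (ka xa16 ya9 za43) (ka xa9 ya37 za50) (ka xa9 ya44 za32) (ka xa16 ya50 za14) (ka xa19 ya54 za53) (ka xa8 ya53 za35) (ka xa17 ya48 za46) (ka xa17 ya48 za47) (ka xa16 ya50 za5) (ka xa16 ya50 za4) (ka xa5 ya35 za33) (ka xa19 ya55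 za0) (ka xa19 ya55 za1) (ka xa16 ya49 za61) (ka xa10 ya15 za58) (ka xa16 ya50 za0) (ka xa10 ya15 za56) (ka xa11 ya57 za21) (ka xa16 ya50 za17) (ka xa16 ya50 za16) (ka xa5 ya35 za38) (ka xa19 ya55 za26) (ka xa19 ya55 za27) (ka xa19 ya55 za28) (ka xa16 ya50 za28) (ka xa16 ya50 za29) (ka xa16 ya50 za30) (ka xa16 ya50 za24) (ka xa16 ya50 za23) (ka xa5 ya35 za41) (ka xa19 ya55 za51) (ka xa19 ya55 za52) (ka xa16 ya50 za21) (ka xa16 ya50 za22) (ka xa8 ya56 za11) (ka xa10 ya58 za0) (ka xa16 ya50 za34) (ka xa19 ya15 za13) (ka xa10 ya57 za61) (ka xa16 ya50 za32) (ka xa5 ya35 za47) (ka xa19 ya56 za14) (ka xa7 ya23 za51) (ka xa14 ya46 za6) (ka xa17 ya2 za16) (ka xa7 ya23 za52) (ka xa19 ya56 za21) (ka xa16 ya50 za40) (ka xa19 ya56 za27) (ka xa16 ya13 za1) (ka xa13 ya59 za38) (ka xa9 ya0 za53) (ka xa19 ya54 za18) (ka xa19 ya54 za19)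 (ka xa7 ya18 za4)) (@D3.rec (fun _ => Pt) (ka xa7 ya23 za59) (ka xa14 ya46 za7) (ka xa10 ya1 za12) (ka xa19 ya56 za37) (ka xa7 ya52 za18) (ka xa19 ya54 za20) (ka xa19 ya54 za21) (ka xa19 ya54 za22) (ka xa7 ya18 za11) (ka xa13 ya37 za8) (ka xa8 ya55 za61) (ka xa10 ya24 za6) (ka xa19 ya10 za48) (ka xa14 ya1 za51) (ka xa8 ya53 za45) (ka xa17 ya48 za53) (ka xa19 ya56 za52) (ka xa7 ya50 za42) (ka xa19 ya54 za24) (ka xa11 ya2 za43) (ka xa16 ya9 za51) (ka xa14 ya23 za24) (ka xa17 ya35 za58) (ka xa17 ya35 za59) (ka xa16 ya55 za26) (ka xa17 ya35 za60) (ka xa15 ya16 za56) (ka xa15 ya16 za59) (ka xa15 ya17 za7) (ka xa14 ya51 za2) (ka xa10 ya19 za57) (ka xa19 ya57 za7) (ka xa9 ya53 za17) (ka xa9 ya53 za15) (ka xa9 ya53 za13) (ka xa19 ya57 za17) (ka xa15 ya16 za9) (ka xa15 ya16 za61) (ka xa15 ya16 za60) (ka xa15 ya17 za6) (ka xa17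 ya56 za51) (ka xa17 ya49 za6) (ka xa17 ya49 za7) (ka xa17 ya49 za8) (ka xa17 ya49 za9) (ka xa17 ya49 za10) (ka xa16 ya50 za1) (ka xa11 ya19 za29) (ka xa9 ya38 za55) (ka xa9 ya43 za28) (ka xa10 ya50 za41) (ka xa17 ya49 za11) (ka xa9 ya39 za1) (ka xa10 ya52 za19) (ka xa10 ya49 za12) (ka xa11 ya27 za57) (ka xa11 ya12 za11) (ka xa10 ya49 za23) (ka xa10 ya48 za19) (ka xa10 ya52 za29) (ka xa10 ya48 za21) (ka xa15 ya17 za47)) (@D3.rec (fun _ => Pt) (ka xa19 ya44 za15) (ka xa5 ya36 za32) (ka xa5 ya36 za33) (ka xa5 ya36 za35) (ka xa5 ya36 za36) (ka xa19 ya57 za57) (ka xa8 ya7 za51) (ka xa10 ya48 za47) (ka xa10 ya48 za46) (ka xa5 ya36 za31) (ka xa19 ya58 za1) (ka xa19 ya58 za2) (ka xa19 ya57 za51) (ka xa11 ya53 za0) (ka xa19 ya57 za52) (ka xa19 ya57 za53) (ka xa19 ya57 za54) (ka xa8 ya13 za35) (ka xa10 ya24 za14) (ka xa19 ya29 za17)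 (ka xa10 ya49 za26) (ka xa10 ya48 za42) (ka xa10 ya52 za7) (ka xa10 ya48 za39) (ka xa10 ya48 za40) (ka xa5 ya36 za40) (ka xa17 ya34 za27) (ka xa16 ya58 za34) (ka xa19 ya58 za32) (ka xa19 ya58 za33) (ka xa10 ya49 za36) (ka xa10 ya49 za9) (ka xa10 ya49 za11) (ka xa10 ya43 za54) (ka xa15 ya17 za57) (ka xa12 ya10 za7) (ka xa10 ya58 za43) (ka xa16 ya57 za18) (ka xa16 ya50 za55) (ka xa16 ya50 za54) (ka xa19 ya58 za49) (ka xa16 ya50 za61) (ka xa16 ya51 za0) (ka xa10 ya58 za10) (ka xa10 ya58 za11) (ka xa15 ya44 za15) (ka xa5 ya46 za14) (ka xa16 ya51 za2) (ka xa10 ya58 za45) (ka xa17 ya33 za13) (ka xa19 ya10 za47) (ka xa16 ya50 za57) (ka xa16 ya50 za58) (ka xa10 ya58 za8) (ka xa10 ya58 za9) (ka xa11 ya57 za27) (ka xa16 ya50 za59) (ka xa11 ya57 za25) (ka xa15 ya24 za57) (ka xa15 ya1 za43) (ka xa5 ya36 za57) (ka xa5 ya36 za58)) (@D3.rec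 (fun _ => Pt) (ka xa15 ya41 za58) (ka xa19 ya59 za22) (ka xa19 ya59 za23) (ka xa15 ya29 za37) (ka xa15 ya29 za34) (ka xa17 ya51 za35) (ka xa17 ya49 za55) (ka xa17 ya49 za56) (ka xa15 ya25 za40) (ka xa15 ya13 za17) (ka xa5 ya46 za28) (ka xa16 ya19 za19) (ka xa19 ya18 za20) (ka xa16 ya8 za36) (ka xa8 ya51 za22) (ka xa16 ya8 za37) (ka xa16 ya8 za38) (ka xa11 ya59 za16) (ka xa16 ya22 za6) (ka xa5 ya37 za15) (ka xa10 ya33 za22) (ka xa19 ya18 za14) (ka xa9 ya12 za35) (ka xa12 ya10 za42) (ka xa19 ya59 za48) (ka xa11 ya13 za54) (ka xa9 ya45 za38) (ka xa9 ya45 za20) (ka xa11 ya16 za56) (ka xa11 ya16 za57) (ka xa11 ya16 za58) (ka xa11 ya16 za59) (ka xa11 ya16 za60) (ka xa10 ya18 za6) (ka xa11 ya14 za27) (ka xa11 ya14 za28) (ka xa5 ya44 za34) (ka xa5 ya37 za31) (ka xa5 ya37 za32) (ka xa13 ya58 za20) (ka xa9 ya50 za30) (ka xa12 ya49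 za30) (ka xa11 ya12 za24) (ka xa9 ya24 za32) (ka xa15 ya7 za18) (ka xa12 ya10 za59) (ka xa15 ya26 za25) (ka xa5 ya37 za46) (ka xa12 ya7 za19) (ka xa5 ya46 za38) (ka xa7 ya56 za23) (ka xa12 ya7 za20) (ka xa12 ya7 za16) (ka xa7 ya59 za27) (ka xa7 ya59 za28) (ka xa9 ya45 za18) (ka xa7 ya59 za17) (ka xa7 ya59 za18) (ka xa20 ya0 za6) (ka xa19 ya43 za51) (ka xa20 ya0 za7) (ka xa9 ya32 za28)) (@D3.rec (fun _ => Pt) (ka xa11 ya11 za60) (ka xa15 ya4 za6) (ka xa12 ya10 za58) (ka xa5 ya37 za52) (ka xa5 ya37 za53) (ka xa7 ya59 za22) (ka xa20 ya0 za21) (ka xa11 ya28 za19) (ka xa16 ya51 za18) (ka xa11 ya11 za27) (ka xa5 ya43 za41) (ka xa13 ya26 za61) (ka xa11 ya11 za36) (ka xa11 ya11 za37) (ka xa9 ya51 za3) (ka xa11 ya11 za39) (ka xa16 ya49 za35) (ka xa5 ya38 za0) (ka xa20 ya0 za37) (ka xa12 ya9 za3) (ka xa20 ya0 za44) (ka xa11 ya11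 za29) (ka xa11 ya11 za30) (ka xa11 ya11 za32) (ka xa19 ya48 za22) (ka xa5 ya38 za16) (ka xa5 ya38 za18) (ka xa5 ya38 za19) (ka xa20 ya0 za36) (ka xa15 ya26 za31) (ka xa5 ya38 za25) (ka xa5 ya38 za8) (ka xa20 ya0 za55) (ka xa9 ya9 za49) (ka xa20 ya0 za60) (ka xa16 ya51 za25) (ka xa16 ya51 za26) (ka xa15 ya4 za35) (ka xa15 ya30 za20) (ka xa9 ya3 za41) (ka xa17 ya54 za53) (ka xa20 ya1 za11) (ka xa16 ya51 za21) (ka xa16 ya51 za22) (ka xa11 ya20 za60) (ka xa16 ya27 za52) (ka xa16 ya27 za53) (ka xa16 ya29 za34) (ka xa16 ya29 za35) (ka xa11 ya11 za44) (ka xa11 ya11 za41) (ka xa8 ya49 za10) (ka xa8 ya49 za14) (ka xa16 ya30 za7) (ka xa20 ya1 za27) (ka xa9 ya10 za30) (ka xa18 ya33 za56) (ka xa17 ya56 za49) (ka xa17 ya55 za34) (ka xa9 ya10 za29) (ka xa18 ya33 za55) (ka xa20 ya0 za54)) (@D3.rec (fun _ => Pt) (ka xa5 ya38 za21) (ka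 xa8 ya42 za60) (ka xa19 ya33 za51) (ka xa5 ya58 za48) (ka xa9 ya6 za46) (ka xa17 ya45 za33) (ka xa5 ya38 za24) (ka xa16 ya34 za33) (ka xa17 ya4 za8) (ka xa9 ya6 za43) (ka xa11 ya29 za31) (ka xa18 ya2 za19) (ka xa15 ya28 za58) (ka xa18 ya2 za20) (ka xa11 ya51 za54) (ka xa11 ya51 za55) (ka xa17 ya55 za36) (ka xa17 ya55 za37) (ka xa12 ya15 za22) (ka xa16 ya49 za50) (ka xa5 ya38 za37) (ka xa5 ya38 za38) (ka xa17 ya8 za30) (ka xa8 ya25 za57) (ka xa8 ya49 za31) (ka xa8 ya48 za43) (ka xa8 ya51 za56) (ka xa10 ya5 za31) (ka xa10 ya5 za47) (ka xa18 ya23 za35) (ka xa17 ya5 za48) (ka xa18 ya23 za36) (ka xa18 ya23 za37) (ka xa16 ya30 za0) (ka xa10 ya18 za14) (ka xa10 ya18 za28) (ka xa12 ya30 za32) (ka xa8 ya28 za38) (ka xa8 ya28 za39) (ka xa15 ya22 za11) (ka xa15 ya22 za10) (ka xa5 ya38 za54) (ka xa20 ya2 za14) (ka xa8 ya6 za44) (ka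 xa15 ya22 za25) (ka xa15 ya22 za26) (ka xa15 ya22 za27) (ka xa16 ya9 za29) (ka xa17 ya48 za54) (ka xa17 ya48 za55) (ka xa5 ya38 za58) (ka xa20 ya2 za30) (ka xa15 ya22 za14) (ka xa15 ya22 za15) (ka xa15 ya22 za16) (ka xa15 ya22 za17) (ka xa15 ya17 za48) (ka xa9 ya37 za59) (ka xa8 ya9 za14) (ka xa8 ya9 za9) (ka xa5 ya39 za0) (ka xa17 ya30 za42)) (@D3.rec (fun _ => Pt) (ka xa15 ya17 za58) (ka xa15 ya16 za32) (ka xa15 ya17 za54) (ka xa15 ya17 za53) (ka xa5 ya39 za2) (ka xa20 ya2 za60) (ka xa15 ya17 za49) (ka xa15 ya17 za50) (ka xa16 ya38 za40) (ka xa8 ya56 za43) (ka xa15 ya22 za31) (ka xa20 ya3 za13) (ka xa15 ya22 za29) (ka xa5 ya39 za7) (ka xa20 ya3 za18) (ka xa20 ya3 za19) (ka xa19 ya40 za16) (ka xa20 ya3 za26) (ka xa15 ya18 za54) (ka xa15 ya18 za55) (ka xa20 ya3 za34) (ka xa15 ya18 za58) (ka xa14 ya30 za17) (ka xa15 ya23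 za6) (ka xa15 ya23 za7) (ka xa15 ya23 za8) (ka xa8 ya56 za39) (ka xa17 ya50 za8) (ka xa20 ya3 za46) (ka xa15 ya23 za13) (ka xa15 ya23 za14) (ka xa20 ya3 za54) (ka xa15 ya23 za17) (ka xa15 ya23 za19) (ka xa15 ya23 za20) (ka xa15 ya47 za54) (ka xa15 ya23 za22) (ka xa8 ya28 za14) (ka xa15 ya18 za59) (ka xa15 ya18 za60) (ka xa6 ya42 za38) (ka xa15 ya23 za24) (ka xa15 ya23 za25) (ka xa15 ya49 za5) (ka xa13 ya52 za31) (ka xa5 ya39 za21) (ka xa20 ya4 za13) (ka xa15 ya23 za30) (ka xa19 ya37 za7) (ka xa19 ya37 za8) (ka xa15 ya54 za34) (ka xa16 ya49 za19) (ka xa17 ya43 za8) (ka xa16 ya8 za10) (ka xa16 ya49 za29) (ka xa10 ya59 za16) (ka xa10 ya59 za17) (ka xa8 ya14 za19) (ka xa16 ya49 za31) (ka xa16 ya49 za32) (ka xa15 ya44 za22) (ka xa5 ya39 za27)) (@D3.rec (fun _ => Pt) (ka xa19 ya32 za45) (ka xa10 ya59 za45) (ka xa20 ya4 za33)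 (ka xa16 ya49 za21) (ka xa16 ya49 za22) (ka xa10 ya59 za13) (ka xa10 ya59 za14) (ka xa15 ya44 za16) (ka xa14 ya8 za17) (ka xa16 ya49 za24) (ka xa5 ya39 za32) (ka xa5 ya39 za33) (ka xa5 ya39 za34) (ka xa5 ya39 za35) (ka xa17 ya32 za36) (ka xa19 ya40 za22) (ka xa20 ya4 za52) (ka xa20 ya4 za53) (ka xa17 ya32 za22) (ka xa19 ya40 za23) (ka xa19 ya50 za8) (ka xa20 ya4 za54) (ka xa11 ya42 za20) (ka xa16 ya51 za5) (ka xa10 ya52 za59) (ka xa20 ya5 za4) (ka xa6 ya20 za32) (ka xa15 ya1 za61) (ka xa5 ya39 za41) (ka xa5 ya39 za42) (ka xa16 ya51 za16) (ka xa20 ya5 za12) (ka xa20 ya5 za9) (ka xa20 ya5 za10) (ka xa10 ya11 za11) (ka xa10 ya11 za10) (ka xa5 ya39 za43) (ka xa20 ya5 za22) (ka xa17 ya34 za34) (ka xa10 ya52 za61) (ka xa6 ya20 za35) (ka xa9 ya46 za51) (ka xa17 ya50 za34) (ka xa15 ya48 za4) (ka xa15 ya48 za5) (ka xa10 ya44 za24)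 (ka xa15 ya49 za34) (ka xa6 ya42 za31) (ka xa5 ya39 za58) (ka xa5 ya43 za29) (ka xa13 ya1 za58) (ka xa20 ya5 za35) (ka xa11 ya12 za23) (ka xa11 ya12 za4) (ka xa11 ya12 za25) (ka xa5 ya40 za10) (ka xa5 ya40 za11) (ka xa11 ya48 za20) (ka xa20 ya5 za42) (ka xa16 ya49 za41) (ka xa17 ya54 za58) (ka xa20 ya5 za44)) (@D3.rec (fun _ => Pt) (ka xa16 ya49 za38) (ka xa20 ya5 za46) (ka xa16 ya49 za44) (ka xa20 ya5 za50) (ka xa9 ya20 za4) (ka xa5 ya41 za2) (ka xa20 ya5 za38) (ka xa20 ya5 za39) (ka xa12 ya15 za4) (ka xa16 ya29 za47) (ka xa12 ya22 za2) (ka xa12 ya12 za27) (ka xa11 ya22 za18) (ka xa20 ya5 za53) (ka xa18 ya43 za53) (ka xa7 ya29 za14) (ka xa11 ya31 za21) (ka xa11 ya12 za52) (ka xa9 ya3 za3) (ka xa11 ya17 za17) (ka xa19 ya49 za37) (ka xa5 ya40 za31) (ka xa5 ya40 za33) (ka xa5 ya40 za34) (ka xa5 ya40 za35) (ka xa5 ya40 za23)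 (ka xa17 ya57 za46) (ka xa11 ya7 za9) (ka xa20 ya6 za2) (ka xa11 ya7 za21) (ka xa11 ya7 za22) (ka xa6 ya47 za35) (ka xa11 ya7 za23) (ka xa9 ya3 za9) (ka xa17 ya54 za54) (ka xa20 ya6 za17) (ka xa11 ya7 za12) (ka xa11 ya7 za13) (ka xa8 ya49 za47) (ka xa11 ya7 za15) (ka xa11 ya0 za23) (ka xa11 ya7 za50) (ka xa16 ya51 za40) (ka xa6 ya14 za51) (ka xa11 ya7 za49) (ka xa8 ya49 za48) (ka xa9 ya1 za45) (ka xa18 ya59 za61) (ka xa8 ya50 za14) (ka xa17 ya24 za20) (ka xa17 ya56 za48) (ka xa17 ya54 za56) (ka xa17 ya2 za34) (ka xa19 ya33 za16) (ka xa5 ya43 za45) (ka xa14 ya7 za58) (ka xa14 ya50 za26) (ka xa14 ya50 za8) (ka xa17 ya55 za0) (ka xa17 ya55 za1) (ka xa11 ya7 za0) (ka xa5 ya40 za42)) (@D3.rec (fun _ => Pt) (ka xa5 ya40 za43) (ka xa10 ya55 za20) (ka xa14 ya50 za1) (ka xa15 ya5 za20) (ka xa11 ya10 za53) (ka xa11 ya48 za42) (ka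 xa15 ya3 za59) (ka xa5 ya40 za47) (ka xa14 ya50 za5) (ka xa20 ya6 za47) (ka xa10 ya55 za37) (ka xa11 ya4 za56) (ka xa17 ya54 za61) (ka xa11 ya14 za51) (ka xa16 ya51 za28) (ka xa20 ya6 za51) (ka xa11 ya14 za52) (ka xa12 ya25 za12) (ka xa12 ya25 za10) (ka xa20 ya6 za56) (ka xa5 ya41 za6) (ka xa17 ya55 za8) (ka xa20 ya6 za59) (ka xa11 ya10 za52) (ka xa11 ya6 za42) (ka xa11 ya10 za54) (ka xa20 ya7 za1) (ka xa11 ya24 za8) (ka xa18 ya56 za33) (ka xa19 ya52 za55) (ka xa5 ya40 za58) (ka xa5 ya41 za3) (ka xa5 ya41 za4) (ka xa16 ya20 za60) (ka xa16 ya20 za61) (ka xa11 ya16 za47) (ka xa10 ya44 za61) (ka xa17 ya15 za52) (ka xa18 ya58 za3) (ka xa17 ya16 za18) (ka xa17 ya55 za12) (ka xa17 ya55 za16) (ka xa11 ya22 za17) (ka xa15 ya4 za5) (ka xa5 ya41 za7) (ka xa9 ya46 za50) (ka xa13 ya57 za32) (ka xa17 ya55 za27) (ka xa19 ya33 za11)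 (ka xa10 ya55 za29) (ka xa20 ya7 za16) (ka xa5 ya43 za58) (ka xa11 ya11 za17) (ka xa5 ya58 za46) (ka xa15 ya3 za53) (ka xa12 ya8 za57) (ka xa12 ya8 za52) (ka xa16 ya52 za43) (ka xa15 ya4 za51) (ka xa12 ya8 za54) (ka xa16 ya52 za44) (ka xa16 ya52 za45)) (@D3.rec (fun _ => Pt) (ka xa5 ya46 za10) (ka xa16 ya52 za47) (ka xa16 ya52 za48) (ka xa16 ya52 za49) (ka xa15 ya3 za52) (ka xa11 ya21 za1) (ka xa16 ya53 za41) (ka xa16 ya52 za38) (ka xa16 ya52 za39) (ka xa8 ya48 za31) (ka xa16 ya52 za40) (ka xa16 ya52 za41) (ka xa7 ya56 za20) (ka xa5 ya41 za42) (ka xa5 ya41 za43) (ka xa19 ya46 za46) (ka xa5 ya41 za54) (ka xa5 ya41 za55) (ka xa5 ya41 za56) (ka xa5 ya41 za57) (ka xa5 ya41 za59) (ka xa9 ya0 za10) (ka xa7 ya56 za32) (ka xa11 ya13 za24) (ka xa11 ya13 za23) (ka xa8 ya47 za47) (ka xa8 ya43 za52) (ka xa16 ya52 za57) (ka xa16 ya52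 za58) (ka xa5 ya46 za30) (ka xa12 ya7 za4) (ka xa12 ya7 za2) (ka xa16 ya52 za59) (ka xa16 ya52 za60) (ka xa16 ya52 za61) (ka xa20 ya8 za19) (ka xa16 ya53 za16) (ka xa16 ya35 za30) (ka xa10 ya29 za58) (ka xa16 ya53 za43) (ka xa18 ya59 za51) (ka xa7 ya56 za29) (ka xa16 ya53 za42) (ka xa15 ya3 za60) (ka xa16 ya28 za53) (ka xa16 ya53 za10) (ka xa16 ya53 za11) (ka xa10 ya5 za12) (ka xa15 ya26 za10) (ka xa12 ya9 za25) (ka xa12 ya9 za26) (ka xa16 ya30 za38) (ka xa16 ya28 za55) (ka xa9 ya19 za32) (ka xa11 ya6 za25) (ka xa5 ya55 za3) (ka xa16 ya31 za47) (ka xa20 ya8 za41) (ka xa11 ya20 za52) (ka xa11 ya30 za52) (ka xa20 ya8 za49) (ka xa11 ya20 za51)) (@D3.rec (fun _ => Pt) (ka xa16 ya53 za13) (ka xa16 ya53 za15) (ka xa16 ya53 za14) (ka xa16 ya53 za2) (ka xa20 ya7 za54) (ka xa15 ya4 za37) (ka xa20 ya7 za55) (ka xa20 ya7 za56) (ka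 xa20 ya7 za57) (ka xa19 ya27 za24) (ka xa16 ya53 za48) (ka xa8 ya50 za50) (ka xa20 ya7 za58) (ka xa15 ya0 za12) (ka xa16 ya53 za47) (ka xa16 ya53 za46) (ka xa16 ya53 za49) (ka xa15 ya3 za51) (ka xa15 ya4 za14) (ka xa16 ya52 za42) (ka xa20 ya9 za18) (ka xa16 ya53 za45) (ka xa12 ya9 za24) (ka xa12 ya23 za33) (ka xa6 ya12 za8) (ka xa12 ya23 za34) (ka xa6 ya11 za59) (ka xa11 ya6 za34) (ka xa11 ya6 za35) (ka xa5 ya42 za8) (ka xa5 ya42 za9) (ka xa11 ya19 za6) (ka xa20 ya9 za30) (ka xa6 ya1 za24) (ka xa9 ya29 za30) (ka xa20 ya9 za31) (ka xa16 ya52 za10) (ka xa16 ya54 za1) (ka xa16 ya54 za2) (ka xa11 ya22 za37) (ka xa16 ya52 za32) (ka xa5 ya43 za35) (ka xa5 ya42 za14) (ka xa20 ya9 za39) (ka xa20 ya9 za40) (ka xa20 ya9 za41) (ka xa11 ya59 za14) (ka xa11 ya22 za43) (ka xa12 ya30 za21) (ka xa11 ya16 za52) (ka xa10 ya48 za15) (ka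 xa11 ya12 za13) (ka xa11 ya12 za16) (ka xa20 ya9 za55) (ka xa11 ya24 za3) (ka xa11 ya16 za49) (ka xa11 ya24 za9) (ka xa11 ya24 za10) (ka xa20 ya9 za57) (ka xa19 ya59 za14) (ka xa5 ya42 za23) (ka xa11 ya19 za4)) (@D3.rec (fun _ => Pt) (ka xa20 ya9 za56) (ka xa11 ya18 za1) (ka xa11 ya24 za0) (ka xa11 ya24 za1) (ka xa11 ya24 za2) (ka xa16 ya21 za48) (ka xa16 ya19 za34) (ka xa16 ya51 za55) (ka xa15 ya4 za16) (ka xa20 ya10 za8) (ka xa16 ya51 za61) (ka xa16 ya52 za0) (ka xa11 ya16 za45) (ka xa16 ya19 za33) (ka xa16 ya51 za54) (ka xa14 ya42 za44) (ka xa16 ya51 za57) (ka xa16 ya51 za58) (ka xa10 ya44 za60) (ka xa5 ya42 za44) (ka xa19 ya43 za5) (ka xa5 ya42 za55) (ka xa5 ya42 za56) (ka xa5 ya42 za57) (ka xa5 ya42 za58) (ka xa5 ya42 za59) (ka xa5 ya42 za60) (ka xa5 ya43 za1) (ka xa13 ya29 za23) (ka xa9 ya1 za22) (ka xa16 ya19 za31)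 (ka xa16 ya19 za32) (ka xa16 ya19 za29) (ka xa16 ya19 za30) (ka xa13 ya29 za25) (ka xa16 ya20 za38) (ka xa16 ya20 za39) (ka xa16 ya20 za36) (ka xa16 ya20 za37) (ka xa16 ya20 za40) (ka xa11 ya23 za12) (ka xa20 ya11 za8) (ka xa16 ya52 za17) (ka xa13 ya30 za5) (ka xa13 ya30 za4) (ka xa13 ya29 za38) (ka xa13 ya14 za24) (ka xa9 ya1 za51) (ka xa11 ya23 za49) (ka xa11 ya23 za48) (ka xa20 ya11 za26) (ka xa16 ya52 za8) (ka xa16 ya52 za9) (ka xa6 ya3 za16) (ka xa16 ya52 za12) (ka xa20 ya11 za40) (ka xa11 ya23 za51) (ka xa6 ya11 za61) (ka xa6 ya12 za0) (ka xa17 ya24 za44) (ka xa11 ya21 za21) (ka xa16 ya52 za14)) (@D3.rec (fun _ => Pt) (ka xa20 ya11 za53) (ka xa11 ya21 za20) (ka xa15 ya50 za49) (ka xa16 ya52 za16) (ka xa16 ya52 za15) (ka xa16 ya20 za41) (ka xa20 ya10 za29) (ka xa8 ya29 za28) (ka xa19 ya23 za46) (ka xa18 ya48 za50)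 (ka xa20 ya10 za30) (ka xa11 ya17 za31) (ka xa20 ya10 za31) (ka xa16 ya48 za16) (ka xa12 ya53 za50) (ka xa16 ya56 za51) (ka xa20 ya10 za32) (ka xa20 ya10 za33) (ka xa9 ya5 za46) (ka xa13 ya9 za59) (ka xa16 ya48 za47) (ka xa20 ya12 za21) (ka xa5 ya43 za53) (ka xa5 ya43 za2) (ka xa20 ya12 za23) (ka xa16 ya54 za11) (ka xa16 ya54 za14) (ka xa10 ya58 za38) (ka xa20 ya12 za28) (ka xa11 ya28 za11) (ka xa5 ya43 za7) (ka xa9 ya10 za23) (ka xa16 ya48 za38) (ka xa5 ya44 za51) (ka xa5 ya44 za61) (ka xa5 ya45 za0) (ka xa5 ya45 za1) (ka xa5 ya44 za60) (ka xa5 ya45 za6) (ka xa8 ya50 za6) (ka xa5 ya43 za28) (ka xa16 ya7 za44) (ka xa5 ya43 za31) (ka xa5 ya43 za32) (ka xa11 ya16 za51) (ka xa11 ya15 za12) (ka xa9 ya0 za13) (ka xa11 ya12 za35) (ka xa9 ya45 za25) (ka xa11 ya14 za55) (ka xa11 ya52 za9) (ka xa11 ya16 za44) (ka xa11 ya14 za49)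 (ka xa7 ya50 za5) (ka xa5 ya43 za46) (ka xa12 ya44 za43) (ka xa11 ya6 za28) (ka xa11 ya6 za29) (ka xa11 ya6 za30) (ka xa11 ya6 za31) (ka xa11 ya6 za32) (ka xa20 ya12 za59)) (@D3.rec (fun _ => Pt) (ka xa11 ya18 za36) (ka xa20 ya12 za39) (ka xa20 ya13 za2) (ka xa11 ya18 za35) (ka xa20 ya5 za33) (ka xa16 ya7 za45) (ka xa17 ya41 za59) (ka xa17 ya41 za58) (ka xa18 ya26 za9) (ka xa20 ya12 za42) (ka xa20 ya12 za43) (ka xa18 ya26 za10) (ka xa20 ya9 za38) (ka xa5 ya43 za50) (ka xa16 ya52 za30) (ka xa16 ya52 za31) (ka xa5 ya43 za52) (ka xa11 ya11 za19) (ka xa5 ya43 za42) (ka xa5 ya43 za44) (ka xa20 ya13 za27) (ka xa20 ya0 za32) (ka xa20 ya0 za33) (ka xa16 ya53 za19) (ka xa20 ya13 za24) (ka xa20 ya13 za25) (ka xa20 ya13 za26) (ka xa6 ya16 za33) (ka xa14 ya1 za55) (ka xa20 ya6 za40) (ka xa20 ya12 za47) (ka xa11 ya16 za11) (ka xa11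 ya17 za52) (ka xa20 ya12 za46) (ka xa20 ya12 za40) (ka xa6 ya41 za7) (ka xa5 ya43 za48) (ka xa8 ya39 za50) (ka xa20 ya13 za43) (ka xa8 ya39 za49) (ka xa20 ya13 za18) (ka xa20 ya13 za19) (ka xa18 ya17 za43) (ka xa20 ya12 za22) (ka xa16 ya53 za32) (ka xa16 ya47 za27) (ka xa6 ya1 za10) (ka xa16 ya53 za33) (ka xa6 ya14 za11) (ka xa19 ya53 za14) (ka xa6 ya16 za48) (ka xa6 ya16 za49) (ka xa11 ya17 za32) (ka xa17 ya3 za35) (ka xa5 ya44 za13) (ka xa5 ya44 za14) (ka xa15 ya49 za38) (ka xa5 ya44 za16) (ka xa5 ya44 za17) (ka xa5 ya44 za19) (ka xa5 ya44 za20) (ka xa5 ya44 za21)) (@D3.rec (fun _ => Pt) (ka xa5 ya44 za25) (ka xa11 ya15 za1) (ka xa5 ya44 za31) (ka xa5 ya44 za32) (ka xa17 ya59 za41) (ka xa5 ya44 za35) (ka xa5 ya44 za36) (ka xa20 ya12 za30) (ka xa20 ya12 za29) (ka xa5 ya44 za4) (ka xa20 ya14 za25) (ka xa20 ya14 za26) (ka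 xa5 ya44 za42) (ka xa5 ya44 za43) (ka xa5 ya44 za45) (ka xa5 ya44 za47) (ka xa5 ya44 za48) (ka xa5 ya44 za49) (ka xa5 ya44 za50) (ka xa20 ya13 za22) (ka xa5 ya44 za53) (ka xa5 ya44 za54) (ka xa5 ya44 za55) (ka xa20 ya7 za10) (ka xa5 ya44 za57) (ka xa5 ya44 za59) (ka xa5 ya44 za12) (ka xa13 ya54 za15) (ka xa13 ya54 za12) (ka xa6 ya1 za35) (ka xa12 ya12 za56) (ka xa20 ya14 za2) (ka xa11 ya37 za51) (ka xa20 ya14 za3) (ka xa15 ya49 za40) (ka xa11 ya17 za3) (ka xa11 ya17 za0) (ka xa20 ya14 za7) (ka xa20 ya14 za8) (ka xa20 ya14 za9) (ka xa20 ya14 za10) (ka xa16 ya56 za17) (ka xa16 ya56 za18) (ka xa16 ya56 za19) (ka xa20 ya14 za11) (ka xa20 ya14 za12) (ka xa20 ya14 za13) (ka xa8 ya58 za27) (ka xa20 ya14 za14) (ka xa8 ya58 za25) (ka xa20 ya14 za5) (ka xa20 ya14 za4) (ka xa5 ya44 za23) (ka xa8 ya36 za14) (ka xa15 ya49 za42) (ka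 xa12 ya12 za51) (ka xa11 ya37 za34) (ka xa12 ya36 za17) (ka xa16 ya54 za19) (ka xa16 ya56 za27) (ka xa6 ya31 za5) (ka xa20 ya14 za15)) (@D3.rec (fun _ => Pt) (ka xa17 ya43 za48) (ka xa5 ya44 za29) (ka xa20 ya15 za44) (ka xa12 ya25 za58) (ka xa11 ya14 za61) (ka xa15 ya4 za13) (ka xa11 ya14 za31) (ka xa9 ya2 za22) (ka xa11 ya23 za57) (ka xa12 ya59 za48) (ka xa5 ya44 za33) (ka xa11 ya23 za53) (ka xa17 ya59 za40) (ka xa18 ya23 za26) (ka xa20 ya14 za16) (ka xa9 ya47 za45) (ka xa17 ya59 za38) (ka xa16 ya7 za35) (ka xa9 ya46 za26) (ka xa8 ya25 za15) (ka xa16 ya48 za48) (ka xa16 ya48 za46) (ka xa5 ya44 za40) (ka xa5 ya44 za41) (ka xa8 ya35 za56) (ka xa16 ya41 za51) (ka xa20 ya15 za61) (ka xa20 ya16 za0) (ka xa20 ya16 za1) (ka xa11 ya4 za47) (ka xa20 ya16 za2) (ka xa12 ya20 za55) (ka xa18 ya25 za27) (ka xa20 ya14 za34) (ka xa13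 ya58 za29) (ka xa17 ya55 za55) (ka xa6 ya42 za60) (ka xa20 ya14 za35) (ka xa12 ya13 za43) (ka xa20 ya16 za32) (ka xa15 ya4 za25) (ka xa20 ya14 za37) (ka xa20 ya14 za38) (ka xa20 ya16 za45) (ka xa20 ya14 za40) (ka xa20 ya14 za41) (ka xa20 ya14 za42) (ka xa20 ya14 za43) (ka xa20 ya14 za44) (ka xa20 ya14 za45) (ka xa20 ya14 za46) (ka xa20 ya12 za33) (ka xa12 ya25 za18) (ka xa20 ya12 za32) (ka xa12 ya19 za33) (ka xa20 ya7 za11) (ka xa5 ya44 za52) (ka xa7 ya23 za44) (ka xa20 ya17 za0) (ka xa7 ya23 za42) (ka xa20 ya14 za50) (ka xa17 ya41 za60)) (@D3.rec (fun _ => Pt) (ka xa20 ya14 za51) (ka xa12 ya47 za2) (ka xa11 ya46 za61) (ka xa14 ya52 za35) (ka xa13 ya1 za7) (ka xa20 ya14 za52) (ka xa11 ya40 za12) (ka xa20 ya14 za53) (ka xa20 ya13 za23) (ka xa5 ya44 za56) (ka xa20 ya17 za19) (ka xa20 ya17 za20) (ka xa20 ya17 za21) (ka xa20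 ya17 za28) (ka xa20 ya14 za54) (ka xa20 ya14 za55) (ka xa17 ya12 za18) (ka xa20 ya12 za44) (ka xa13 ya58 za51) (ka xa20 ya14 za56) (ka xa20 ya4 za50) (ka xa20 ya12 za34) (ka xa20 ya12 za35) (ka xa18 ya39 za36) (ka xa20 ya4 za39) (ka xa20 ya12 za36) (ka xa16 ya49 za18) (ka xa14 ya8 za16) (ka xa17 ya32 za61) (ka xa17 ya32 za60) (ka xa20 ya12 za37) (ka xa5 ya58 za50) (ka xa6 ya1 za27) (ka xa6 ya1 za28) (ka xa6 ya1 za34) (ka xa11 ya29 za30) (ka xa6 ya1 za31) (ka xa6 ya1 za32) (ka xa6 ya1 za37) (ka xa6 ya1 za36) (ka xa20 ya18 za8) (ka xa17 ya59 za3) (ka xa19 ya39 za47) (ka xa5 ya45 za11) (ka xa5 ya45 za12) (ka xa5 ya45 za13) (ka xa5 ya45 za14) (ka xa5 ya45 za16) (ka xa16 ya56 za24) (ka xa11 ya37 za50) (ka xa16 ya56 za22) (ka xa11 ya13 za61) (ka xa11 ya13 za58) (ka xa20 ya18 za13) (ka xa20 ya18 za14) (ka xa20 ya18 za15) (ka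 xa20 ya18 za16) (ka xa20 ya18 za17) (ka xa7 ya59 za58) (ka xa16 ya30 za2) (ka xa11 ya7 za44) (ka xa18 ya41 za58)) (@D3.rec (fun _ => Pt) (ka xa16 ya57 za9) (ka xa11 ya13 za5) (ka xa8 ya47 za50) (ka xa18 ya41 za57) (ka xa20 ya18 za18) (ka xa10 ya41 za28) (ka xa16 ya54 za60) (ka xa12 ya54 za58) (ka xa16 ya52 za25) (ka xa6 ya26 za2) (ka xa16 ya56 za20) (ka xa19 ya34 za14) (ka xa5 ya45 za26) (ka xa5 ya45 za27) (ka xa5 ya45 za28) (ka xa5 ya45 za29) (ka xa5 ya45 za31) (ka xa16 ya56 za8) (ka xa17 ya11 za34) (ka xa16 ya56 za6) (ka xa11 ya16 za1) (ka xa11 ya15 za60) (ka xa16 ya19 za35) (ka xa20 ya18 za57) (ka xa9 ya23 za8) (ka xa9 ya25 za16) (ka xa11 ya59 za19) (ka xa20 ya18 za58) (ka xa6 ya31 za20) (ka xa20 ya12 za14) (ka xa20 ya18 za59) (ka xa12 ya3 za34) (ka xa16 ya55 za5) (ka xa12 ya14 za61) (ka xa12 ya3 za49) (ka xa16 ya56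 za28) (ka xa13 ya0 za26) (ka xa16 ya48 za40) (ka xa16 ya48 za43) (ka xa11 ya28 za15) (ka xa16 ya29 za48) (ka xa15 ya49 za46) (ka xa5 ya45 za39) (ka xa5 ya45 za41) (ka xa5 ya45 za42) (ka xa20 ya19 za24) (ka xa20 ya19 za25) (ka xa16 ya48 za61) (ka xa19 ya53 za6) (ka xa19 ya53 za7) (ka xa16 ya59 za50) (ka xa20 ya19 za26) (ka xa12 ya32 za23) (ka xa5 ya45 za43) (ka xa20 ya19 za36) (ka xa20 ya12 za13) (ka xa11 ya36 za3) (ka xa16 ya56 za52) (ka xa16 ya56 za47) (ka xa5 ya45 za46) (ka xa18 ya50 za7) (ka xa7 ya30 za40)) (@D3.rec (fun _ => Pt) (ka xa18 ya50 za21) (ka xa16 ya57 za2) (ka xa5 ya45 za51) (ka xa5 ya45 za52) (ka xa13 ya38 za33) (ka xa20 ya19 za46) (ka xa14 ya43 za11) (ka xa18 ya26 za4) (ka xa11 ya49 za47) (ka xa11 ya57 za44) (ka xa18 ya26 za3) (ka xa10 ya18 za36) (ka xa12 ya25 za8) (ka xa16 ya57 za11) (ka xa5 ya45 za55)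 (ka xa20 ya19 za54) (ka xa20 ya19 za55) (ka xa11 ya12 za42) (ka xa11 ya11 za12) (ka xa16 ya55 za45) (ka xa11 ya28 za40) (ka xa16 ya56 za54) (ka xa5 ya46 za3) (ka xa5 ya46 za4) (ka xa5 ya46 za5) (ka xa16 ya56 za57) (ka xa19 ya52 za20) (ka xa20 ya20 za1) (ka xa20 ya20 za2) (ka xa5 ya56 za56) (ka xa11 ya50 za13) (ka xa20 ya20 za3) (ka xa16 ya52 za34) (ka xa20 ya20 za4) (ka xa12 ya3 za36) (ka xa16 ya56 za61) (ka xa5 ya46 za6) (ka xa11 ya14 za39) (ka xa20 ya7 za35) (ka xa19 ya58 za46) (ka xa20 ya7 za36) (ka xa14 ya33 za4) (ka xa9 ya44 za24) (ka xa11 ya14 za47) (ka xa11 ya49 za40) (ka xa16 ya57 za15) (ka xa16 ya57 za16) (ka xa19 ya59 za5) (ka xa19 ya59 za3) (ka xa11 ya49 za42) (ka xa16 ya57 za20) (ka xa20 ya7 za37) (ka xa16 ya57 za21) (ka xa10 ya44 za58) (ka xa16 ya57 za23) (ka xa16 ya57 za24) (ka xa11 ya51 za41) (ka xa11 ya51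 za42) (ka xa20 ya20 za41) (ka xa6 ya3 za60) (ka xa6 ya3 za59) (ka xa5 ya46 za21)) (@D3.rec (fun _ => Pt) (ka xa8 ya2 za5) (ka xa7 ya18 za47) (ka xa5 ya46 za26) (ka xa5 ya46 za27) (ka xa20 ya20 za46) (ka xa8 ya52 za24) (ka xa20 ya20 za47) (ka xa18 ya41 za7) (ka xa20 ya20 za48) (ka xa15 ya23 za31) (ka xa12 ya8 za21) (ka xa8 ya44 za25) (ka xa11 ya15 za40) (ka xa9 ya45 za4) (ka xa6 ya40 za31) (ka xa12 ya7 za5) (ka xa8 ya45 za17) (ka xa6 ya40 za33) (ka xa12 ya7 za7) (ka xa12 ya7 za8) (ka xa12 ya7 za9) (ka xa12 ya7 za10) (ka xa12 ya7 za11) (ka xa12 ya7 za12) (ka xa12 ya6 za45) (ka xa12 ya6 za46) (ka xa12 ya6 za12) (ka xa14 ya58 za46) (ka xa12 ya6 za47) (ka xa12 ya6 za48) (ka xa12 ya6 za39) (ka xa7 ya8 za6) (ka xa13 ya41 za45) (ka xa8 ya44 za4) (ka xa8 ya44 za2) (ka xa12 ya7 za13) (ka xa8 ya43 za50) (ka xa20 ya21 za24) (ka xa11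 ya23 za39) (ka xa11 ya23 za38) (ka xa12 ya7 za15) (ka xa12 ya8 za45) (ka xa12 ya8 za46) (ka xa16 ya24 za27) (ka xa12 ya8 za47) (ka xa12 ya8 za48) (ka xa6 ya24 za43) (ka xa7 ya6 za7) (ka xa11 ya15 za49) (ka xa11 ya15 za48) (ka xa20 ya21 za45) (ka xa11 ya15 za56) (ka xa11 ya59 za15) (ka xa11 ya19 za11) (ka xa7 ya56 za26) (ka xa7 ya59 za38) (ka xa14 ya7 za60) (ka xa11 ya19 za8) (ka xa11 ya59 za18) (ka xa11 ya36 za1) (ka xa11 ya59 za20) (ka xa20 ya15 za52)) (@D3.rec (fun _ => Pt) (ka xa11 ya15 za2) (ka xa11 ya15 za3) (ka xa11 ya15 za4) (ka xa11 ya14 za54) (ka xa20 ya21 za53) (ka xa20 ya21 za57) (ka xa5 ya46 za58) (ka xa20 ya21 za52) (ka xa11 ya12 za27) (ka xa11 ya14 za56) (ka xa11 ya14 za57) (ka xa8 ya48 za4) (ka xa6 ya29 za16) (ka xa5 ya47 za4) (ka xa5 ya47 za5) (ka xa5 ya47 za6) (ka xa5 ya47 za7) (ka xa5 ya47 za8) (ka xa11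 ya58 za45) (ka xa17 ya12 za14) (ka xa20 ya21 za61) (ka xa20 ya12 za56) (ka xa20 ya22 za0) (ka xa11 ya29 za57) (ka xa20 ya22 za1) (ka xa20 ya22 za2) (ka xa9 ya46 za15) (ka xa11 ya31 za9) (ka xa18 ya50 za36) (ka xa20 ya16 za38) (ka xa11 ya30 za58) (ka xa20 ya0 za16) (ka xa18 ya1 za40) (ka xa20 ya22 za3) (ka xa9 ya45 za39) (ka xa9 ya45 za21) (ka xa20 ya22 za20) (ka xa16 ya28 za28) (ka xa20 ya5 za34) (ka xa5 ya47 za14) (ka xa6 ya2 za55) (ka xa5 ya58 za60) (ka xa12 ya8 za49) (ka xa5 ya47 za25) (ka xa6 ya29 za34) (ka xa5 ya47 za33) (ka xa5 ya47 za34) (ka xa5 ya47 za35) (ka xa5 ya47 za36) (ka xa8 ya0 za3) (ka xa20 ya22 za25) (ka xa20 ya22 za26) (ka xa20 ya19 za52) (ka xa8 ya0 za16) (ka xa7 ya1 za57) (ka xa11 ya35 za6) (ka xa8 ya0 za2) (ka xa10 ya7 za13) (ka xa11 ya28 za28) (ka xa10 ya7 za17) (ka xa19 ya24 za28) (ka xa11 ya31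 za15)) (@D3.rec (fun _ => Pt) (ka xa20 ya22 za28) (ka xa20 ya22 za29) (ka xa11 ya31 za2) (ka xa11 ya29 za44) (ka xa19 ya52 za46) (ka xa20 ya22 za30) (ka xa11 ya31 za52) (ka xa11 ya29 za51) (ka xa11 ya29 za52) (ka xa11 ya30 za40) (ka xa6 ya51 za0) (ka xa5 ya48 za12) (ka xa12 ya8 za50) (ka xa5 ya47 za46) (ka xa8 ya0 za7) (ka xa20 ya22 za42) (ka xa11 ya30 za47) (ka xa20 ya22 za43) (ka xa11 ya28 za12) (ka xa12 ya9 za1) (ka xa12 ya9 za4) (ka xa9 ya17 za33) (ka xa9 ya17 za37) (ka xa9 ya17 za38) (ka xa11 ya51 za59) (ka xa5 ya47 za56) (ka xa5 ya47 za59) (ka xa8 ya49 za20) (ka xa11 ya30 za37) (ka xa20 ya22 za49) (ka xa20 ya22 za50) (ka xa20 ya22 za51) (ka xa10 ya4 za61) (ka xa16 ya57 za36) (ka xa6 ya8 za47) (ka xa16 ya57 za37) (ka xa16 ya57 za38) (ka xa11 ya29 za47) (ka xa11 ya29 za48) (ka xa11 ya29 za49) (ka xa11 ya29 za50) (ka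 xa11 ya29 za53) (ka xa11 ya29 za54) (ka xa11 ya29 za55) (ka xa10 ya6 za15) (ka xa10 ya6 za17) (ka xa10 ya6 za4) (ka xa14 ya26 za58) (ka xa10 ya6 za14) (ka xa6 ya43 za13) (ka xa5 ya48 za23) (ka xa5 ya48 za24) (ka xa5 ya48 za25) (ka xa5 ya48 za27) (ka xa5 ya48 za28) (ka xa17 ya59 za27) (ka xa5 ya48 za32) (ka xa5 ya48 za34) (ka xa5 ya48 za35) (ka xa5 ya48 za37) (ka xa20 ya12 za20) (ka xa5 ya48 za43)) (@D3.rec (fun _ => Pt) (ka xa5 ya48 za15) (ka xa17 ya23 za60) (ka xa6 ya51 za10) (ka xa11 ya43 za31) (ka xa13 ya19 za41) (ka xa6 ya50 za2) (ka xa13 ya3 za5) (ka xa13 ya5 za33) (ka xa10 ya42 za28) (ka xa13 ya8 za0) (ka xa17 ya31 za9) (ka xa17 ya21 za48) (ka xa6 ya1 za5) (ka xa20 ya23 za21) (ka xa20 ya23 za22) (ka xa20 ya23 za23) (ka xa20 ya23 za24) (ka xa19 ya13 za55) (ka xa20 ya22 za41) (ka xa5 ya48 za26) (ka xa9 ya12 za58) (ka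 xa20 ya24 za0) (ka xa14 ya30 za42) (ka xa20 ya23 za25) (ka xa17 ya19 za29) (ka xa12 ya25 za7) (ka xa7 ya59 za3) (ka xa20 ya23 za26) (ka xa9 ya46 za32) (ka xa17 ya59 za28) (ka xa17 ya59 za29) (ka xa12 ya45 za25) (ka xa14 ya37 za57) (ka xa12 ya58 za1) (ka xa20 ya23 za28) (ka xa20 ya23 za29) (ka xa12 ya58 za2) (ka xa20 ya24 za26) (ka xa20 ya23 za30) (ka xa20 ya23 za13) (ka xa16 ya51 za47) (ka xa17 ya59 za31) (ka xa20 ya23 za32) (ka xa9 ya6 za30) (ka xa14 ya48 za53) (ka xa14 ya48 za54) (ka xa14 ya48 za55) (ka xa14 ya48 za56) (ka xa5 ya48 za40) (ka xa12 ya11 za0) (ka xa12 ya10 za55) (ka xa9 ya1 za49) (ka xa14 ya1 za43) (ka xa9 ya46 za29) (ka xa5 ya48 za45) (ka xa9 ya17 za55) (ka xa20 ya24 za48) (ka xa12 ya22 za56) (ka xa13 ya6 za19) (ka xa18 ya24 za26) (ka xa10 ya55 za23) (ka xa11 ya49 za59)) (@D3.rec (fun _ => Pt) (ka xa18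 ya24 za27) (ka xa13 ya18 za61) (ka xa13 ya54 za28) (ka xa17 ya59 za48) (ka xa12 ya25 za38) (ka xa12 ya25 za37) (ka xa17 ya59 za49) (ka xa9 ya46 za44) (ka xa12 ya25 za1) (ka xa12 ya25 za2) (ka xa5 ya48 za56) (ka xa12 ya24 za50) (ka xa18 ya43 za11) (ka xa12 ya25 za5) (ka xa12 ya25 za4) (ka xa20 ya25 za8) (ka xa12 ya24 za2) (ka xa6 ya51 za9) (ka xa18 ya43 za10) (ka xa12 ya25 za45) (ka xa12 ya3 za52) (ka xa17 ya59 za50) (ka xa17 ya59 za51) (ka xa5 ya49 za0) (ka xa20 ya25 za22) (ka xa8 ya48 za57) (ka xa12 ya10 za60) (ka xa8 ya48 za58) (ka xa9 ya45 za44) (ka xa8 ya48 za16) (ka xa12 ya11 za1) (ka xa12 ya10 za51) (ka xa12 ya10 za52) (ka xa5 ya49 za19) (ka xa9 ya30 za16) (ka xa12 ya10 za56) (ka xa12 ya10 za54) (ka xa11 ya28 za9) (ka xa12 ya10 za27) (ka xa16 ya43 za55) (ka xa14 ya25 za34) (ka xa12 ya8 za53) (ka xa6 ya13 za21) (ka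 xa20 ya25 za31) (ka xa5 ya49 za23) (ka xa8 ya2 za26) (ka xa12 ya29 za56) (ka xa5 ya52 za19) (ka xa5 ya49 za29) (ka xa12 ya10 za19) (ka xa11 ya50 za27) (ka xa11 ya50 za26) (ka xa12 ya10 za36) (ka xa5 ya49 za30) (ka xa14 ya15 za56) (ka xa5 ya49 za33) (ka xa20 ya25 za37) (ka xa11 ya4 za55) (ka xa20 ya25 za25) (ka xa20 ya25 za27) (ka xa10 ya58 za41) (ka xa13 ya41 za26)) (@D3.rec (fun _ => Pt) (ka xa7 ya6 za34) (ka xa7 ya8 za44) (ka xa9 ya19 za41) (ka xa5 ya49 za44) (ka xa9 ya3 za25) (ka xa9 ya3 za22) (ka xa16 ya57 za35) (ka xa9 ya49 za44) (ka xa14 ya12 za31) (ka xa11 ya27 za37) (ka xa20 ya25 za44) (ka xa11 ya16 za29) (ka xa11 ya25 za18) (ka xa5 ya59 za41) (ka xa5 ya49 za50) (ka xa11 ya21 za39) (ka xa11 ya1 za43) (ka xa10 ya58 za46) (ka xa10 ya47 za61) (ka xa11 ya7 za7) (ka xa9 ya48 za44) (ka xa10 ya57 za33) (ka xa11 ya1 za45)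 (ka xa20 ya25 za55) (ka xa5 ya49 za61) (ka xa20 ya22 za53) (ka xa11 ya28 za56) (ka xa20 ya25 za56) (ka xa11 ya24 za58) (ka xa5 ya50 za1) (ka xa5 ya50 za5) (ka xa14 ya23 za45) (ka xa5 ya58 za15) (ka xa11 ya30 za44) (ka xa13 ya58 za44) (ka xa20 ya25 za58) (ka xa6 ya49 za28) (ka xa5 ya50 za6) (ka xa20 ya26 za0) (ka xa11 ya29 za22) (ka xa11 ya22 za20) (ka xa9 ya17 za41) (ka xa5 ya50 za11) (ka xa13 ya2 za11) (ka xa12 ya44 za6) (ka xa12 ya44 za7) (ka xa15 ya30 za35) (ka xa17 ya59 za59) (ka xa12 ya55 za32) (ka xa19 ya47 za27) (ka xa17 ya22 za34) (ka xa12 ya17 za44) (ka xa5 ya50 za29) (ka xa5 ya50 za30) (ka xa5 ya50 za31) (ka xa12 ya17 za30) (ka xa11 ya28 za26) (ka xa12 ya9 za45) (ka xa12 ya9 za44) (ka xa6 ya51 za13) (ka xa17 ya16 za37) (ka xa9 ya46 za38)) (@D3.rec (fun _ => Pt) (ka xa18 ya0 za11) (ka xa17 ya20 za39) (ka xa12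 ya17 za8) (ka xa12 ya17 za7) (ka xa14 ya10 za54) (ka xa7 ya33 za54) (ka xa9 ya47 za47) (ka xa11 ya38 za26) (ka xa11 ya38 za27) (ka xa9 ya9 za31) (ka xa9 ya10 za25) (ka xa9 ya10 za26) (ka xa12 ya23 za47) (ka xa7 ya57 za8) (ka xa12 ya23 za48) (ka xa12 ya23 za50) (ka xa12 ya23 za51) (ka xa12 ya23 za52) (ka xa12 ya23 za53) (ka xa10 ya6 za40) (ka xa11 ya31 za20) (ka xa12 ya43 za31) (ka xa11 ya28 za39) (ka xa16 ya57 za55) (ka xa5 ya50 za59) (ka xa16 ya29 za61) (ka xa16 ya58 za42) (ka xa12 ya5 za39) (ka xa11 ya51 za6) (ka xa9 ya30 za25) (ka xa11 ya20 za35) (ka xa11 ya8 za10) (ka xa16 ya57 za57) (ka xa11 ya47 za44) (ka xa20 ya26 za41) (ka xa16 ya57 za58) (ka xa9 ya9 za36) (ka xa5 ya51 za26) (ka xa5 ya51 za27) (ka xa5 ya51 za28) (ka xa12 ya27 za40) (ka xa5 ya51 za31) (ka xa5 ya51 za8) (ka xa20 ya26 za46) (ka xa11 ya25 za3) (ka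 xa20 ya26 za47) (ka xa7 ya42 za8) (ka xa11 ya25 za37) (ka xa11 ya25 za38) (ka xa11 ya25 za39) (ka xa11 ya25 za40) (ka xa11 ya25 za7) (ka xa11 ya25 za8) (ka xa11 ya25 za41) (ka xa11 ya25 za42) (ka xa11 ya25 za43) (ka xa7 ya35 za40) (ka xa11 ya24 za23) (ka xa17 ya57 za45) (ka xa17 ya57 za47) (ka xa7 ya35 za41) (ka xa7 ya42 za10)) (@D3.rec (fun _ => Pt) (ka xa7 ya42 za11) (ka xa7 ya42 za12) (ka xa7 ya42 za13) (ka xa6 ya12 za36) (ka xa6 ya12 za40) (ka xa6 ya12 za41) (ka xa6 ya55 za25) (ka xa14 ya30 za54) (ka xa14 ya30 za55) (ka xa16 ya58 za10) (ka xa16 ya58 za11) (ka xa6 ya53 za13) (ka xa7 ya4 za16) (ka xa13 ya5 za26) (ka xa13 ya5 za28) (ka xa6 ya51 za55) (ka xa5 ya51 za25) (ka xa20 ya27 za28) (ka xa13 ya20 za45) (ka xa19 ya23 za32) (ka xa9 ya24 za31) (ka xa13 ya1 za30) (ka xa20 ya22 za39) (ka xa10 ya42 za40) (ka xa9 ya5 za61)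 (ka xa9 ya10 za7) (ka xa13 ya0 za60) (ka xa17 ya57 za49) (ka xa12 ya31 za45) (ka xa13 ya20 za46) (ka xa13 ya9 za56) (ka xa5 ya58 za52) (ka xa17 ya11 za17) (ka xa11 ya58 za58) (ka xa17 ya57 za58) (ka xa17 ya57 za59) (ka xa17 ya57 za60) (ka xa11 ya25 za28) (ka xa17 ya57 za61) (ka xa12 ya29 za45) (ka xa11 ya25 za9) (ka xa6 ya19 za0) (ka xa5 ya51 za45) (ka xa5 ya51 za47) (ka xa11 ya28 za33) (ka xa20 ya25 za18) (ka xa12 ya30 za9) (ka xa11 ya25 za16) (ka xa12 ya9 za52) (ka xa12 ya9 za49) (ka xa20 ya27 za48) (ka xa13 ya2 za14) (ka xa11 ya13 za59) (ka xa18 ya23 za41) (ka xa20 ya27 za58) (ka xa9 ya50 za31) (ka xa12 ya30 za18) (ka xa13 ya1 za37) (ka xa11 ya24 za30) (ka xa17 ya56 za6) (ka xa17 ya58 za12) (ka xa12 ya30 za16)) (@D3.rec (fun _ => Pt) (ka xa5 ya51 za60) (ka xa20 ya27 za59) (ka xa11 ya25 za2) (ka xa19 ya27 za40) (ka xa6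 ya31 za12) (ka xa5 ya52 za21) (ka xa5 ya52 za22) (ka xa5 ya52 za24) (ka xa17 ya58 za26) (ka xa11 ya24 za27) (ka xa17 ya58 za27) (ka xa5 ya52 za7) (ka xa6 ya12 za21) (ka xa6 ya12 za28) (ka xa6 ya12 za29) (ka xa11 ya24 za61) (ka xa17 ya57 za55) (ka xa17 ya57 za56) (ka xa5 ya52 za12) (ka xa18 ya24 za0) (ka xa11 ya29 za20) (ka xa11 ya11 za16) (ka xa18 ya25 za46) (ka xa17 ya58 za30) (ka xa20 ya22 za32) (ka xa17 ya58 za35) (ka xa17 ya58 za36) (ka xa20 ya19 za40) (ka xa18 ya38 za23) (ka xa9 ya50 za55) (ka xa15 ya30 za38) (ka xa14 ya20 za44) (ka xa11 ya50 za48) (ka xa10 ya49 za6) (ka xa17 ya58 za37) (ka xa11 ya50 za49) (ka xa17 ya6 za24) (ka xa17 ya8 za37) (ka xa12 ya18 za26) (ka xa9 ya9 za0) (ka xa17 ya58 za33) (ka xa14 ya36 za11) (ka xa6 ya20 za49) (ka xa20 ya28 za18) (ka xa20 ya28 za21) (ka xa20 ya28 za22) (ka xa12 ya30 za2)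 (ka xa10 ya43 za28) (ka xa5 ya52 za44) (ka xa5 ya52 za45) (ka xa12 ya29 za54) (ka xa19 ya27 za41) (ka xa11 ya25 za6) (ka xa20 ya25 za13) (ka xa20 ya28 za28) (ka xa12 ya29 za29) (ka xa15 ya48 za26) (ka xa17 ya58 za49) (ka xa9 ya50 za22) (ka xa17 ya56 za4) (ka xa5 ya52 za52) (ka xa20 ya28 za35)) (@D3.rec (fun _ => Pt) (ka xa17 ya58 za51) (ka xa15 ya4 za54) (ka xa10 ya49 za51) (ka xa10 ya49 za52) (ka xa5 ya52 za61) (ka xa11 ya34 za0) (ka xa11 ya34 za1) (ka xa11 ya33 za59) (ka xa15 ya26 za41) (ka xa15 ya26 za40) (ka xa16 ya57 za56) (ka xa16 ya59 za8) (ka xa9 ya14 za26) (ka xa7 ya3 za50) (ka xa13 ya43 za9) (ka xa17 ya58 za55) (ka xa11 ya55 za43) (ka xa5 ya53 za6) (ka xa9 ya14 za12) (ka xa14 ya17 za46) (ka xa8 ya56 za56) (ka xa8 ya56 za55) (ka xa13 ya43 za45) (ka xa5 ya59 za19) (ka xa5 ya59 za20) (ka xa5 ya53 za12) (ka xa9 ya50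 za48) (ka xa11 ya58 za1) (ka xa6 ya1 za33) (ka xa9 ya50 za49) (ka xa20 ya28 za58) (ka xa17 ya1 za42) (ka xa17 ya1 za43) (ka xa16 ya27 za36) (ka xa16 ya27 za35) (ka xa16 ya30 za8) (ka xa7 ya8 za23) (ka xa15 ya10 za16) (ka xa15 ya10 za14) (ka xa15 ya13 za12) (ka xa16 ya27 za42) (ka xa16 ya27 za43) (ka xa16 ya27 za44) (ka xa16 ya27 za45) (ka xa6 ya3 za48) (ka xa16 ya59 za17) (ka xa16 ya59 za16) (ka xa7 ya52 za20) (ka xa7 ya51 za24) (ka xa17 ya4 za6) (ka xa10 ya44 za59) (ka xa16 ya55 za55) (ka xa10 ya44 za30) (ka xa10 ya44 za31) (ka xa10 ya45 za27) (ka xa10 ya45 za18) (ka xa11 ya34 za5) (ka xa12 ya9 za6) (ka xa15 ya4 za40) (ka xa11 ya33 za55) (ka xa15 ya8 za9) (ka xa11 ya33 za56)) (@D3.rec (fun _ => Pt) (ka xa17 ya0 za18) (ka xa9 ya16 za17) (ka xa9 ya22 za15) (ka xa17 ya0 za25) (ka xa17 ya0 za26) (ka xa17 ya0 za27) (ka xa17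 ya0 za28) (ka xa15 ya26 za36) (ka xa17 ya0 za29) (ka xa17 ya0 za30) (ka xa17 ya0 za31) (ka xa17 ya0 za32) (ka xa10 ya45 za30) (ka xa6 ya3 za24) (ka xa6 ya3 za28) (ka xa6 ya3 za41) (ka xa6 ya3 za42) (ka xa20 ya30 za35) (ka xa17 ya0 za35) (ka xa12 ya49 za24) (ka xa15 ya4 za39) (ka xa13 ya1 za46) (ka xa12 ya49 za26) (ka xa15 ya5 za7) (ka xa17 ya0 za19) (ka xa17 ya0 za20) (ka xa15 ya8 za14) (ka xa17 ya0 za21) (ka xa6 ya25 za49) (ka xa9 ya21 za53) (ka xa17 ya0 za23) (ka xa5 ya56 za14) (ka xa7 ya56 za61) (ka xa7 ya17 za31) (ka xa16 ya25 za57) (ka xa5 ya54 za15) (ka xa5 ya54 za16) (ka xa5 ya54 za17) (ka xa5 ya54 za18) (ka xa5 ya54 za19) (ka xa5 ya54 za23) (ka xa5 ya54 za25) (ka xa5 ya54 za51) (ka xa5 ya54 za54) (ka xa5 ya54 za55) (ka xa5 ya54 za60) (ka xa5 ya54 za61) (ka xa5 ya55 za0) (ka xa5 ya55 za2) (ka xa5 ya55 za4) (ka xa5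 ya55 za5) (ka xa11 ya41 za15) (ka xa5 ya55 za8) (ka xa5 ya55 za10) (ka xa6 ya6 za27) (ka xa11 ya32 za59) (ka xa11 ya32 za61) (ka xa17 ya0 za56) (ka xa8 ya51 za27) (ka xa11 ya32 za7) (ka xa16 ya32 za18) (ka xa8 ya51 za43)) (@D3.rec (fun _ => Pt) (ka xa11 ya32 za5) (ka xa11 ya32 za6) (ka xa7 ya57 za28) (ka xa8 ya50 za61) (ka xa9 ya48 za9) (ka xa11 ya32 za56) (ka xa12 ya7 za22) (ka xa9 ya14 za52) (ka xa12 ya7 za23) (ka xa12 ya7 za24) (ka xa12 ya7 za25) (ka xa9 ya25 za47) (ka xa11 ya45 za40) (ka xa12 ya7 za6) (ka xa12 ya7 za17) (ka xa12 ya9 za34) (ka xa9 ya22 za13) (ka xa19 ya21 za12) (ka xa16 ya54 za47) (ka xa20 ya30 za51) (ka xa20 ya30 za52) (ka xa20 ya31 za57) (ka xa19 ya52 za4) (ka xa20 ya30 za53) (ka xa16 ya31 za48) (ka xa20 ya26 za18) (ka xa19 ya52 za5) (ka xa20 ya30 za55) (ka xa20 ya30 za56) (ka xa20 ya30 za57) (ka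 xa20 ya30 za58) (ka xa20 ya30 za59) (ka xa20 ya30 za60) (ka xa9 ya7 za37) (ka xa8 ya10 za33) (ka xa18 ya43 za21) (ka xa13 ya50 za20) (ka xa13 ya51 za5) (ka xa13 ya51 za4) (ka xa8 ya26 za1) (ka xa15 ya23 za49) (ka xa15 ya23 za52) (ka xa20 ya30 za61) (ka xa20 ya31 za0) (ka xa20 ya32 za48) (ka xa20 ya31 za2) (ka xa15 ya23 za44) (ka xa15 ya23 za45) (ka xa6 ya8 za54) (ka xa6 ya8 za55) (ka xa6 ya8 za56) (ka xa6 ya8 za26) (ka xa11 ya49 za54) (ka xa6 ya49 za36) (ka xa6 ya50 za20) (ka xa10 ya43 za26) (ka xa10 ya43 za25) (ka xa6 ya12 za5) (ka xa6 ya12 za11) (ka xa12 ya9 za22) (ka xa12 ya9 za23) (ka xa11 ya40 za33)) (@D3.rec (fun _ => Pt) (ka xa8 ya0 za33) (ka xa11 ya44 za42) (ka xa11 ya45 za39) (ka xa12 ya53 za14) (ka xa11 ya48 za13) (ka xa12 ya55 za26) (ka xa11 ya24 za55) (ka xa17 ya1 za24) (ka xa11 ya41 za13) (ka xa10 ya5 za32)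 (ka xa18 ya23 za58) (ka xa20 ya31 za3) (ka xa7 ya33 za50) (ka xa10 ya2 za48) (ka xa7 ya36 za17) (ka xa20 ya31 za4) (ka xa20 ya31 za5) (ka xa10 ya17 za26) (ka xa6 ya16 za37) (ka xa16 ya56 za45) (ka xa6 ya16 za36) (ka xa15 ya4 za43) (ka xa8 ya38 za58) (ka xa20 ya31 za6) (ka xa20 ya31 za7) (ka xa20 ya31 za8) (ka xa20 ya31 za9) (ka xa9 ya13 za22) (ka xa13 ya2 za18) (ka xa18 ya25 za21) (ka xa8 ya12 za40) (ka xa8 ya12 za38) (ka xa13 ya20 za49) (ka xa20 ya31 za10) (ka xa20 ya8 za39) (ka xa10 ya15 za28) (ka xa18 ya21 za31) (ka xa14 ya35 za43) (ka xa7 ya41 za34) (ka xa10 ya17 za19) (ka xa18 ya22 za31) (ka xa15 ya27 za0) (ka xa15 ya27 za4) (ka xa10 ya27 za33) (ka xa10 ya27 za32) (ka xa5 ya55 za7) (ka xa20 ya33 za56) (ka xa18 ya43 za22) (ka xa17 ya26 za52) (ka xa20 ya31 za14) (ka xa17 ya0 za59) (ka xa15 ya26 za54) (ka xa15 ya26 za55)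 (ka xa11 ya1 za29) (ka xa11 ya1 za25) (ka xa16 ya7 za30) (ka xa11 ya49 za20) (ka xa11 ya49 za21) (ka xa6 ya11 za58) (ka xa11 ya49 za17) (ka xa11 ya58 za35) (ka xa13 ya1 za22)) (@D3.rec (fun _ => Pt) (ka xa12 ya31 za5) (ka xa11 ya23 za59) (ka xa7 ya19 za61) (ka xa11 ya21 za56) (ka xa14 ya29 za18) (ka xa14 ya11 za49) (ka xa5 ya55 za23) (ka xa18 ya43 za27) (ka xa10 ya27 za30) (ka xa10 ya27 za31) (ka xa20 ya34 za19) (ka xa10 ya27 za27) (ka xa10 ya27 za28) (ka xa12 ya29 za23) (ka xa11 ya2 za9) (ka xa11 ya2 za4) (ka xa11 ya37 za30) (ka xa12 ya23 za10) (ka xa11 ya37 za13) (ka xa16 ya30 za16) (ka xa9 ya48 za28) (ka xa9 ya47 za51) (ka xa16 ya23 za59) (ka xa16 ya30 za23) (ka xa16 ya30 za60) (ka xa12 ya42 za18) (ka xa12 ya45 za13) (ka xa15 ya5 za12) (ka xa12 ya1 za52) (ka xa12 ya37 za51) (ka xa11 ya36 za31) (ka xa11 ya36 za30) (ka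 xa16 ya59 za23) (ka xa16 ya31 za6) (ka xa16 ya27 za37) (ka xa16 ya59 za24) (ka xa14 ya18 za22) (ka xa6 ya19 za50) (ka xa12 ya44 za5) (ka xa12 ya2 za11) (ka xa16 ya59 za25) (ka xa16 ya59 za26) (ka xa16 ya59 za27) (ka xa6 ya6 za39) (ka xa20 ya14 za24) (ka xa5 ya56 za16) (ka xa5 ya56 za17) (ka xa5 ya56 za18) (ka xa5 ya56 za19) (ka xa5 ya56 za20) (ka xa5 ya56 za23) (ka xa5 ya56 za24) (ka xa5 ya56 za25) (ka xa5 ya56 za26) (ka xa5 ya56 za27) (ka xa5 ya56 za48) (ka xa5 ya56 za46) (ka xa5 ya56 za47) (ka xa5 ya56 za50) (ka xa5 ya56 za52) (ka xa5 ya56 za54) (ka xa5 ya56 za55)) (@D3.rec (fun _ => Pt) (ka xa5 ya56 za57) (ka xa5 ya56 za58) (ka xa5 ya56 za59) (ka xa5 ya56 za60) (ka xa5 ya57 za3) (ka xa5 ya57 za7) (ka xa5 ya57 za9) (ka xa5 ya57 za10) (ka xa16 ya38 za22) (ka xa5 ya57 za11) (ka xa8 ya50 za27) (ka xa16 ya24 za56) (ka xa9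 ya5 za53) (ka xa11 ya36 za18) (ka xa8 ya49 za52) (ka xa16 ya23 za58) (ka xa8 ya1 za21) (ka xa15 ya8 za39) (ka xa12 ya49 za27) (ka xa6 ya35 za6) (ka xa6 ya10 za23) (ka xa16 ya23 za53) (ka xa16 ya23 za54) (ka xa8 ya51 za18) (ka xa16 ya23 za55) (ka xa16 ya23 za56) (ka xa16 ya25 za20) (ka xa15 ya8 za51) (ka xa16 ya25 za21) (ka xa6 ya40 za28) (ka xa11 ya36 za16) (ka xa8 ya49 za17) (ka xa12 ya9 za27) (ka xa12 ya9 za28) (ka xa11 ya18 za56) (ka xa12 ya21 za59) (ka xa12 ya21 za60) (ka xa12 ya6 za56) (ka xa12 ya21 za61) (ka xa10 ya1 za59) (ka xa14 ya6 za38) (ka xa12 ya23 za12) (ka xa8 ya48 za19) (ka xa11 ya41 za11) (ka xa20 ya14 za21) (ka xa16 ya59 za39) (ka xa20 ya15 za41) (ka xa16 ya0 za10) (ka xa20 ya34 za59) (ka xa20 ya14 za17) (ka xa11 ya20 za49) (ka xa11 ya18 za32) (ka xa20 ya34 za60) (ka xa20 ya34 za61) (ka xa17 ya35 za36)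 (ka xa20 ya35 za1) (ka xa20 ya35 za2) (ka xa20 ya8 za43) (ka xa20 ya35 za3) (ka xa20 ya35 za4) (ka xa20 ya35 za5) (ka xa9 ya6 za13)) (@D3.rec (fun _ => Pt) (ka xa11 ya57 za48) (ka xa17 ya2 za32) (ka xa17 ya2 za30) (ka xa20 ya35 za6) (ka xa20 ya35 za7) (ka xa19 ya44 za5) (ka xa16 ya34 za34) (ka xa20 ya35 za8) (ka xa8 ya42 za61) (ka xa20 ya35 za9) (ka xa12 ya10 za3) (ka xa20 ya35 za10) (ka xa13 ya9 za55) (ka xa20 ya35 za11) (ka xa20 ya35 za12) (ka xa20 ya37 za21) (ka xa20 ya35 za14) (ka xa17 ya6 za51) (ka xa17 ya6 za52) (ka xa12 ya23 za17) (ka xa12 ya23 za28) (ka xa12 ya23 za29) (ka xa12 ya23 za30) (ka xa6 ya12 za1) (ka xa6 ya12 za2) (ka xa6 ya8 za43) (ka xa11 ya29 za7) (ka xa11 ya29 za8) (ka xa6 ya28 za20) (ka xa17 ya5 za22) (ka xa6 ya39 za1) (ka xa12 ya23 za18) (ka xa12 ya23 za19) (ka xa12 ya23 za20) (ka xa12 ya23 za21)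 (ka xa6 ya8 za58) (ka xa6 ya8 za59) (ka xa6 ya8 za60) (ka xa6 ya8 za28) (ka xa10 ya17 za13) (ka xa10 ya17 za15) (ka xa12 ya36 za33) (ka xa12 ya39 za22) (ka xa12 ya39 za23) (ka xa16 ya59 za36) (ka xa16 ya59 za37) (ka xa20 ya37 za58) (ka xa9 ya6 za27) (ka xa20 ya35 za15) (ka xa20 ya35 za16) (ka xa12 ya39 za36) (ka xa20 ya22 za44) (ka xa20 ya35 za18) (ka xa20 ya20 za19) (ka xa17 ya3 za33) (ka xa12 ya1 za16) (ka xa12 ya2 za18) (ka xa20 ya35 za19) (ka xa20 ya35 za20) (ka xa8 ya58 za10) (ka xa8 ya59 za15) (ka xa20 ya35 za21)) (@D3.rec (fun _ => Pt) (ka xa8 ya59 za17) (ka xa20 ya20 za18) (ka xa11 ya42 za13) (ka xa11 ya42 za14) (ka xa18 ya17 za20) (ka xa20 ya35 za22) (ka xa20 ya20 za16) (ka xa20 ya35 za23) (ka xa8 ya59 za7) (ka xa20 ya35 za24) (ka xa16 ya43 za34) (ka xa11 ya42 za16) (ka xa20 ya35 za25) (ka xa20 ya35 za26) (ka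 xa20 ya35 za27) (ka xa20 ya35 za29) (ka xa20 ya35 za30) (ka xa17 ya6 za57) (ka xa9 ya8 za33) (ka xa16 ya22 za23) (ka xa16 ya22 za19) (ka xa20 ya38 za56) (ka xa16 ya55 za60) (ka xa16 ya55 za56) (ka xa10 ya44 za28) (ka xa6 ya6 za43) (ka xa18 ya1 za44) (ka xa15 ya4 za49) (ka xa20 ya39 za8) (ka xa20 ya35 za32) (ka xa19 ya40 za46) (ka xa15 ya3 za47) (ka xa20 ya39 za17) (ka xa20 ya35 za33) (ka xa6 ya15 za0) (ka xa20 ya39 za21) (ka xa9 ya6 za42) (ka xa20 ya35 za35) (ka xa19 ya40 za42) (ka xa20 ya39 za31) (ka xa20 ya35 za37) (ka xa20 ya35 za41) (ka xa20 ya35 za42) (ka xa20 ya35 za43) (ka xa20 ya35 za44) (ka xa17 ya6 za54) (ka xa17 ya6 za55) (ka xa17 ya6 za56) (ka xa11 ya49 za38) (ka xa5 ya59 za10) (ka xa5 ya57 za16) (ka xa5 ya57 za17) (ka xa20 ya39 za50) (ka xa20 ya39 za51) (ka xa6 ya8 za50) (ka xa17 ya32 za40) (ka xa11 ya44 za30)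 (ka xa9 ya48 za29) (ka xa17 ya3 za61) (ka xa17 ya4 za0) (ka xa8 ya58 za51) (ka xa17 ya4 za1)) (@D3.rec (fun _ => Pt) (ka xa5 ya57 za23) (ka xa20 ya40 za3) (ka xa14 ya21 za41) (ka xa5 ya57 za27) (ka xa20 ya29 za8) (ka xa20 ya29 za13) (ka xa17 ya4 za13) (ka xa20 ya40 za12) (ka xa6 ya1 za39) (ka xa5 ya58 za13) (ka xa5 ya59 za31) (ka xa6 ya1 za0) (ka xa11 ya20 za6) (ka xa11 ya40 za37) (ka xa11 ya42 za6) (ka xa11 ya42 za5) (ka xa5 ya57 za38) (ka xa7 ya41 za11) (ka xa9 ya49 za57) (ka xa11 ya40 za40) (ka xa11 ya40 za41) (ka xa11 ya40 za42) (ka xa11 ya40 za43) (ka xa11 ya40 za44) (ka xa10 ya4 za2) (ka xa6 ya8 za10) (ka xa6 ya8 za1) (ka xa9 ya47 za52) (ka xa17 ya5 za43) (ka xa9 ya47 za53) (ka xa9 ya49 za10) (ka xa9 ya8 za38) (ka xa6 ya28 za53) (ka xa11 ya34 za61) (ka xa12 ya43 za25) (ka xa9 ya47 za49) (ka xa9 ya17 za8) (ka xa11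 ya40 za13) (ka xa14 ya12 za29) (ka xa5 ya57 za57) (ka xa11 ya40 za19) (ka xa11 ya40 za20) (ka xa11 ya40 za21) (ka xa11 ya40 za22) (ka xa11 ya40 za23) (ka xa6 ya31 za30) (ka xa5 ya58 za56) (ka xa5 ya58 za53) (ka xa6 ya31 za24) (ka xa9 ya16 za40) (ka xa12 ya11 za11) (ka xa6 ya8 za38) (ka xa6 ya8 za39) (ka xa6 ya8 za40) (ka xa6 ya8 za41) (ka xa6 ya8 za42) (ka xa6 ya8 za44) (ka xa6 ya8 za45) (ka xa6 ya8 za48) (ka xa6 ya8 za49) (ka xa6 ya8 za7) (ka xa6 ya8 za9)) (@D3.rec (fun _ => Pt) (ka xa14 ya23 za47) (ka xa17 ya19 za2) (ka xa17 ya19 za3) (ka xa9 ya3 za48) (ka xa20 ya40 za15) (ka xa20 ya40 za16) (ka xa11 ya44 za12) (ka xa20 ya25 za60) (ka xa17 ya12 za16) (ka xa5 ya58 za21) (ka xa5 ya58 za16) (ka xa11 ya37 za43) (ka xa20 ya40 za58) (ka xa11 ya35 za8) (ka xa7 ya56 za51) (ka xa11 ya33 za51) (ka xa5 ya58 za19) (ka xa7 ya56 za44)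 (ka xa20 ya41 za5) (ka xa8 ya46 za19) (ka xa20 ya40 za57) (ka xa17 ya19 za6) (ka xa17 ya31 za12) (ka xa17 ya31 za10) (ka xa13 ya5 za23) (ka xa5 ya59 za0) (ka xa5 ya59 za1) (ka xa5 ya59 za2) (ka xa5 ya59 za3) (ka xa11 ya45 za11) (ka xa5 ya59 za9) (ka xa10 ya15 za26) (ka xa10 ya15 za27) (ka xa5 ya59 za15) (ka xa5 ya59 za16) (ka xa20 ya41 za37) (ka xa5 ya59 za18) (ka xa5 ya59 za27) (ka xa6 ya1 za16) (ka xa5 ya58 za43) (ka xa5 ya58 za44) (ka xa5 ya58 za45) (ka xa5 ya58 za49) (ka xa13 ya41 za27) (ka xa5 ya58 za39) (ka xa7 ya33 za42) (ka xa20 ya41 za45) (ka xa7 ya1 za34) (ka xa9 ya6 za28) (ka xa9 ya6 za32) (ka xa14 ya30 za59) (ka xa14 ya30 za60) (ka xa11 ya0 za36) (ka xa10 ya59 za53) (ka xa17 ya1 za27) (ka xa20 ya41 za38) (ka xa20 ya17 za23) (ka xa17 ya1 za33) (ka xa20 ya41 za39) (ka xa20 ya41 za40) (ka xa20 ya41 za41) (ka xa20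 ya7 za19)) (@D3.rec (fun _ => Pt) (ka xa17 ya1 za51) (ka xa20 ya42 za10) (ka xa20 ya41 za43) (ka xa20 ya1 za41) (ka xa20 ya17 za54) (ka xa11 ya40 za15) (ka xa11 ya40 za14) (ka xa5 ya58 za51) (ka xa20 ya42 za20) (ka xa20 ya27 za36) (ka xa9 ya48 za30) (ka xa11 ya56 za46) (ka xa9 ya48 za31) (ka xa11 ya39 za2) (ka xa11 ya39 za3) (ka xa11 ya47 za36) (ka xa11 ya39 za11) (ka xa11 ya47 za35) (ka xa11 ya47 za37) (ka xa9 ya48 za43) (ka xa11 ya10 za22) (ka xa20 ya42 za37) (ka xa11 ya47 za34) (ka xa5 ya58 za61) (ka xa15 ya5 za10) (ka xa14 ya11 za45) (ka xa20 ya42 za39) (ka xa20 ya41 za18) (ka xa20 ya41 za19) (ka xa20 ya41 za20) (ka xa20 ya41 za17) (ka xa9 ya48 za21) (ka xa20 ya41 za22) (ka xa20 ya41 za23) (ka xa16 ya58 za12) (ka xa20 ya41 za24) (ka xa20 ya17 za16) (ka xa20 ya41 za25) (ka xa20 ya41 za26) (ka xa20 ya41 za27) (ka xa13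 ya5 za18) (ka xa17 ya10 za55) (ka xa17 ya2 za14) (ka xa13 ya11 za10) (ka xa10 ya59 za11) (ka xa11 ya56 za55) (ka xa20 ya41 za28) (ka xa20 ya41 za29) (ka xa20 ya43 za25) (ka xa20 ya41 za31) (ka xa20 ya39 za49) (ka xa12 ya31 za16) (ka xa7 ya52 za22) (ka xa16 ya59 za20) (ka xa16 ya59 za21) (ka xa16 ya59 za22) (ka xa10 ya59 za27) (ka xa6 ya6 za35) (ka xa7 ya52 za27) (ka xa15 ya22 za34) (ka xa20 ya43 za45) (ka xa9 ya14 za40)) (@D3.rec (fun _ => Pt) (ka xa20 ya41 za33) (ka xa19 ya37 za42) (ka xa20 ya43 za48) (ka xa20 ya41 za34) (ka xa17 ya43 za14) (ka xa5 ya59 za17) (ka xa20 ya43 za53) (ka xa17 ya43 za12) (ka xa9 ya50 za51) (ka xa11 ya48 za1) (ka xa11 ya47 za28) (ka xa7 ya9 za3) (ka xa20 ya29 za11) (ka xa20 ya29 za12) (ka xa13 ya52 za21) (ka xa9 ya26 za7) (ka xa9 ya26 za36) (ka xa17 ya17 za53) (ka xa14 ya30 za39) (ka xa17 ya17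 za54) (ka xa6 ya43 za37) (ka xa6 ya0 za49) (ka xa6 ya0 za50) (ka xa6 ya0 za51) (ka xa6 ya0 za52) (ka xa12 ya45 za23) (ka xa6 ya0 za54) (ka xa6 ya0 za58) (ka xa6 ya0 za59) (ka xa6 ya0 za60) (ka xa6 ya0 za61) (ka xa11 ya26 za3) (ka xa8 ya50 za0) (ka xa14 ya4 za41) (ka xa20 ya44 za44) (ka xa6 ya1 za7) (ka xa6 ya1 za8) (ka xa6 ya1 za11) (ka xa6 ya1 za15) (ka xa14 ya4 za43) (ka xa12 ya39 za5) (ka xa20 ya44 za53) (ka xa6 ya1 za22) (ka xa6 ya1 za23) (ka xa5 ya59 za39) (ka xa5 ya59 za42) (ka xa5 ya59 za36) (ka xa8 ya48 za17) (ka xa14 ya34 za54) (ka xa9 ya49 za46) (ka xa6 ya26 za48) (ka xa9 ya49 za47) (ka xa9 ya49 za48) (ka xa8 ya59 za36) (ka xa12 ya42 za56) (ka xa17 ya7 za31) (ka xa17 ya13 za10) (ka xa16 ya48 za26) (ka xa17 ya31 za46) (ka xa17 ya20 za43) (ka xa17 ya21 za45) (ka xa17 ya31 za13)) (@D3.rec (fun _ => Pt) (ka xa17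 ya31 za11) (ka xa9 ya25 za32) (ka xa17 ya31 za14) (ka xa11 ya48 za14) (ka xa17 ya20 za53) (ka xa5 ya59 za50) (ka xa16 ya26 za11) (ka xa12 ya42 za13) (ka xa20 ya45 za13) (ka xa20 ya45 za14) (ka xa20 ya45 za15) (ka xa17 ya21 za51) (ka xa11 ya41 za6) (ka xa17 ya31 za39) (ka xa17 ya31 za40) (ka xa14 ya3 za51) (ka xa17 ya31 za41) (ka xa9 ya5 za34) (ka xa13 ya6 za56) (ka xa17 ya31 za42) (ka xa17 ya31 za43) (ka xa17 ya31 za44) (ka xa13 ya6 za52) (ka xa17 ya7 za39) (ka xa17 ya7 za40) (ka xa17 ya7 za41) (ka xa16 ya36 za4) (ka xa16 ya36 za3) (ka xa13 ya58 za50) (ka xa8 ya50 za10) (ka xa11 ya39 za56) (ka xa6 ya0 za4) (ka xa6 ya0 za6) (ka xa6 ya0 za7) (ka xa13 ya47 za3) (ka xa7 ya36 za13) (ka xa6 ya0 za3) (ka xa20 ya45 za58) (ka xa19 ya23 za30) (ka xa7 ya44 za55) (ka xa17 ya7 za49) (ka xa17 ya7 za50) (ka xa11 ya35 za1) (ka xa20 ya44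 za41) (ka xa6 ya43 za29) (ka xa6 ya0 za10) (ka xa6 ya0 za11) (ka xa19 ya23 za57) (ka xa17 ya19 za14) (ka xa16 ya44 za38) (ka xa17 ya21 za24) (ka xa13 ya24 za28) (ka xa17 ya31 za19) (ka xa17 ya31 za20) (ka xa17 ya31 za21) (ka xa17 ya19 za13) (ka xa9 ya6 za3) (ka xa17 ya31 za23) (ka xa17 ya31 za24) (ka xa20 ya46 za16) (ka xa17 ya31 za25) (ka xa13 ya1 za53)) (@D3.rec (fun _ => Pt) (ka xa13 ya9 za14) (ka xa17 ya31 za26) (ka xa13 ya9 za12) (ka xa17 ya23 za22) (ka xa14 ya33 za29) (ka xa17 ya7 za58) (ka xa17 ya7 za57) (ka xa17 ya19 za15) (ka xa14 ya33 za34) (ka xa10 ya0 za19) (ka xa14 ya33 za31) (ka xa11 ya41 za29) (ka xa17 ya31 za7) (ka xa6 ya49 za52) (ka xa6 ya21 za27) (ka xa18 ya50 za48) (ka xa9 ya49 za54) (ka xa9 ya49 za55) (ka xa12 ya14 za18) (ka xa14 ya35 za38) (ka xa14 ya34 za51) (ka xa6 ya0 za31) (ka xa7 ya2 za15) (ka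 xa12 ya23 za4) (ka xa20 ya46 za34) (ka xa12 ya25 za0) (ka xa9 ya16 za0) (ka xa9 ya16 za35) (ka xa10 ya20 za53) (ka xa17 ya23 za27) (ka xa17 ya23 za29) (ka xa17 ya23 za9) (ka xa17 ya23 za30) (ka xa17 ya23 za31) (ka xa14 ya32 za61) (ka xa12 ya10 za21) (ka xa12 ya45 za20) (ka xa17 ya23 za24) (ka xa6 ya0 za42) (ka xa11 ya35 za2) (ka xa11 ya34 za12) (ka xa17 ya22 za41) (ka xa14 ya20 za20) (ka xa14 ya30 za11) (ka xa14 ya35 za6) (ka xa17 ya23 za19) (ka xa15 ya55 za30) (ka xa17 ya23 za20) (ka xa17 ya23 za21) (ka xa14 ya32 za30) (ka xa17 ya23 za23) (ka xa14 ya30 za13) (ka xa17 ya23 za39) (ka xa17 ya23 za40) (ka xa17 ya23 za41) (ka xa13 ya20 za38) (ka xa17 ya23 za43) (ka xa17 ya23 za42) (ka xa6 ya0 za47) (ka xa18 ya14 za2) (ka xa18 ya0 za46) (ka xa18 ya0 za47)) (@D3.rec (fun _ => Pt) (ka xa18 ya0 za48) (ka xa18 ya0 za45) (ka xa20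 ya47 za31) (ka xa18 ya37 za15) (ka xa20 ya44 za19) (ka xa20 ya44 za20) (ka xa17 ya15 za11) (ka xa20 ya44 za22) (ka xa18 ya45 za46) (ka xa20 ya44 za23) (ka xa20 ya44 za24) (ka xa20 ya44 za25) (ka xa20 ya44 za26) (ka xa6 ya56 za41) (ka xa15 ya5 za2) (ka xa15 ya5 za22) (ka xa6 ya56 za44) (ka xa6 ya56 za43) (ka xa20 ya44 za28) (ka xa20 ya44 za29) (ka xa12 ya45 za21) (ka xa12 ya44 za13) (ka xa12 ya45 za22) (ka xa6 ya56 za42) (ka xa6 ya56 za45) (ka xa14 ya37 za53) (ka xa20 ya44 za31) (ka xa13 ya10 za40) (ka xa11 ya46 za33) (ka xa20 ya33 za43) (ka xa20 ya44 za32) (ka xa17 ya11 za22) (ka xa20 ya44 za33) (ka xa11 ya46 za28) (ka xa20 ya44 za34) (ka xa20 ya48 za30) (ka xa20 ya16 za58) (ka xa20 ya16 za57) (ka xa20 ya44 za36) (ka xa20 ya48 za36) (ka xa9 ya50 za4) (ka xa9 ya50 za5) (ka xa13 ya55 za44) (ka xa13 ya55 za48) (ka xa12 ya17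 za22) (ka xa14 ya4 za44) (ka xa18 ya21 za10) (ka xa20 ya23 za47) (ka xa20 ya44 za52) (ka xa6 ya1 za6) (ka xa20 ya48 za46) (ka xa20 ya48 za47) (ka xa13 ya12 za13) (ka xa20 ya44 za46) (ka xa13 ya12 za1) (ka xa20 ya44 za47) (ka xa13 ya1 za50) (ka xa20 ya44 za48) (ka xa17 ya8 za20) (ka xa16 ya47 za33) (ka xa20 ya13 za55) (ka xa11 ya20 za2)) (@D3.rec (fun _ => Pt) (ka xa20 ya44 za49) (ka xa20 ya13 za52) (ka xa20 ya49 za9) (ka xa20 ya44 za51) (ka xa17 ya13 za8) (ka xa14 ya33 za22) (ka xa11 ya58 za6) (ka xa6 ya1 za18) (ka xa6 ya1 za19) (ka xa6 ya1 za20) (ka xa9 ya50 za60) (ka xa20 ya49 za15) (ka xa20 ya49 za13) (ka xa9 ya23 za15) (ka xa17 ya8 za23) (ka xa20 ya44 za40) (ka xa12 ya22 za24) (ka xa20 ya0 za26) (ka xa17 ya7 za46) (ka xa20 ya44 za43) (ka xa6 ya1 za21) (ka xa14 ya25 za56) (ka xa13 ya12 za0) (ka xa20 ya49 za25) (ka xa20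 ya44 za56) (ka xa20 ya9 za32) (ka xa9 ya7 za1) (ka xa20 ya49 za29) (ka xa11 ya43 za10) (ka xa20 ya17 za56) (ka xa12 ya18 za28) (ka xa20 ya17 za57) (ka xa20 ya17 za58) (ka xa20 ya49 za41) (ka xa11 ya42 za22) (ka xa11 ya42 za17) (ka xa11 ya42 za15) (ka xa11 ya42 za18) (ka xa9 ya6 za58) (ka xa20 ya49 za49) (ka xa20 ya18 za1) (ka xa20 ya18 za2) (ka xa14 ya4 za29) (ka xa14 ya4 za28) (ka xa11 ya29 za33) (ka xa10 ya59 za49) (ka xa20 ya50 za1) (ka xa20 ya17 za60) (ka xa20 ya14 za60) (ka xa20 ya14 za59) (ka xa17 ya8 za50) (ka xa14 ya4 za27) (ka xa20 ya50 za12) (ka xa20 ya18 za6) (ka xa17 ya16 za4) (ka xa20 ya50 za17) (ka xa20 ya18 za4) (ka xa16 ya46 za14) (ka xa20 ya18 za7) (ka xa19 ya26 za15) (ka xa6 ya1 za38) (ka xa20 ya50 za29)) (@D3.rec (fun _ => Pt) (ka xa17 ya59 za6) (ka xa11 ya43 za9) (ka xa20 ya40 za14) (ka xa6 ya3 za19)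 (ka xa6 ya1 za51) (ka xa6 ya1 za54) (ka xa6 ya1 za56) (ka xa6 ya1 za57) (ka xa6 ya1 za60) (ka xa17 ya21 za46) (ka xa17 ya7 za47) (ka xa12 ya49 za23) (ka xa6 ya51 za1) (ka xa11 ya35 za4) (ka xa11 ya44 za3) (ka xa9 ya23 za57) (ka xa15 ya5 za24) (ka xa20 ya8 za38) (ka xa11 ya1 za17) (ka xa9 ya48 za61) (ka xa11 ya10 za57) (ka xa17 ya7 za42) (ka xa20 ya50 za41) (ka xa20 ya50 za42) (ka xa9 ya4 za53) (ka xa20 ya19 za44) (ka xa7 ya3 za49) (ka xa20 ya25 za49) (ka xa17 ya12 za27) (ka xa17 ya31 za32) (ka xa17 ya19 za9) (ka xa19 ya27 za46) (ka xa20 ya50 za43) (ka xa20 ya50 za44) (ka xa20 ya50 za45) (ka xa19 ya51 za47) (ka xa17 ya4 za44) (ka xa17 ya4 za55) (ka xa8 ya59 za29) (ka xa17 ya4 za56) (ka xa11 ya1 za47) (ka xa11 ya1 za53) (ka xa11 ya12 za5) (ka xa17 ya12 za43) (ka xa12 ya56 za51) (ka xa12 ya55 za5) (ka xa17 ya4 za58) (ka xa11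 ya56 za41) (ka xa6 ya19 za36) (ka xa6 ya19 za37) (ka xa6 ya2 za22) (ka xa6 ya2 za24) (ka xa6 ya2 za25) (ka xa6 ya2 za26) (ka xa6 ya2 za28) (ka xa6 ya2 za30) (ka xa6 ya35 za0) (ka xa6 ya35 za1) (ka xa6 ya35 za3) (ka xa12 ya58 za44) (ka xa6 ya35 za26) (ka xa6 ya35 za27)) (@D3.rec (fun _ => Pt) (ka xa9 ya11 za49) (ka xa17 ya22 za58) (ka xa16 ya23 za60) (ka xa6 ya41 za14) (ka xa18 ya17 za47) (ka xa17 ya51 za33) (ka xa7 ya44 za45) (ka xa9 ya5 za60) (ka xa17 ya33 za29) (ka xa20 ya51 za19) (ka xa17 ya8 za12) (ka xa17 ya52 za32) (ka xa20 ya51 za20) (ka xa20 ya51 za21) (ka xa17 ya50 za32) (ka xa9 ya11 za58) (ka xa17 ya33 za35) (ka xa11 ya35 za59) (ka xa20 ya51 za22) (ka xa20 ya51 za51) (ka xa11 ya35 za56) (ka xa11 ya35 za57) (ka xa17 ya7 za53) (ka xa17 ya7 za56) (ka xa17 ya5 za17) (ka xa9 ya17 za23) (ka xa17 ya5 za13) (ka xa12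 ya37 za38) (ka xa17 ya5 za18) (ka xa10 ya6 za42) (ka xa17 ya7 za59) (ka xa17 ya7 za60) (ka xa17 ya7 za61) (ka xa10 ya57 za43) (ka xa20 ya32 za56) (ka xa8 ya59 za32) (ka xa17 ya10 za3) (ka xa6 ya2 za46) (ka xa11 ya39 za48) (ka xa20 ya51 za56) (ka xa11 ya22 za44) (ka xa17 ya8 za1) (ka xa11 ya22 za49) (ka xa6 ya2 za59) (ka xa9 ya8 za48) (ka xa17 ya6 za18) (ka xa12 ya6 za22) (ka xa11 ya22 za8) (ka xa13 ya38 za38) (ka xa16 ya24 za4) (ka xa7 ya33 za44) (ka xa9 ya6 za5) (ka xa17 ya6 za20) (ka xa6 ya45 za50) (ka xa11 ya34 za52) (ka xa12 ya54 za27) (ka xa17 ya6 za31) (ka xa19 ya48 za36) (ka xa17 ya12 za59) (ka xa11 ya26 za61) (ka xa17 ya8 za27) (ka xa17 ya8 za26)) (@D3.rec (fun _ => Pt) (ka xa6 ya3 za6) (ka xa12 ya40 za46) (ka xa17 ya8 za2) (ka xa6 ya3 za12) (ka xa6 ya3 za15) (ka xa6 ya35 za10) (ka xa13 ya10 za60) (ka xa17 ya8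 za7) (ka xa17 ya8 za9) (ka xa17 ya8 za8) (ka xa20 ya52 za11) (ka xa20 ya36 za1) (ka xa17 ya8 za16) (ka xa11 ya22 za30) (ka xa17 ya8 za15) (ka xa16 ya48 za18) (ka xa17 ya8 za17) (ka xa9 ya26 za41) (ka xa20 ya52 za36) (ka xa20 ya52 za13) (ka xa20 ya11 za36) (ka xa20 ya11 za37) (ka xa15 ya26 za9) (ka xa6 ya45 za22) (ka xa9 ya7 za31) (ka xa9 ya7 za30) (ka xa11 ya27 za51) (ka xa11 ya27 za50) (ka xa6 ya3 za21) (ka xa19 ya43 za20) (ka xa6 ya26 za3) (ka xa8 ya48 za42) (ka xa13 ya39 za49) (ka xa20 ya30 za24) (ka xa12 ya10 za8) (ka xa15 ya4 za59) (ka xa17 ya1 za55) (ka xa13 ya23 za27) (ka xa19 ya30 za54) (ka xa20 ya30 za25) (ka xa20 ya30 za26) (ka xa20 ya30 za27) (ka xa20 ya52 za60) (ka xa13 ya45 za51) (ka xa6 ya3 za31) (ka xa20 ya16 za28) (ka xa6 ya3 za36) (ka xa20 ya52 za61) (ka xa11 ya31 za32) (ka xa11 ya31 za35) (ka xa12 ya17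 za20) (ka xa17 ya8 za36) (ka xa9 ya6 za60) (ka xa20 ya30 za29) (ka xa20 ya30 za30) (ka xa20 ya30 za31) (ka xa20 ya30 za32) (ka xa13 ya46 za3) (ka xa13 ya46 za4) (ka xa6 ya3 za43) (ka xa20 ya53 za13) (ka xa12 ya43 za4)) (@D3.rec (fun _ => Pt) (ka xa17 ya8 za42) (ka xa12 ya43 za3) (ka xa17 ya7 za1) (ka xa17 ya8 za43) (ka xa17 ya8 za44) (ka xa12 ya15 za19) (ka xa11 ya29 za28) (ka xa17 ya8 za38) (ka xa7 ya50 za47) (ka xa20 ya29 za48) (ka xa10 ya58 za20) (ka xa6 ya3 za50) (ka xa20 ya53 za29) (ka xa17 ya8 za48) (ka xa12 ya59 za30) (ka xa8 ya23 za5) (ka xa12 ya4 za4) (ka xa17 ya3 za34) (ka xa12 ya4 za5) (ka xa15 ya25 za48) (ka xa17 ya8 za56) (ka xa6 ya3 za55) (ka xa20 ya53 za37) (ka xa20 ya53 za38) (ka xa17 ya8 za54) (ka xa17 ya8 za55) (ka xa8 ya11 za44) (ka xa17 ya8 za51) (ka xa6 ya3 za57) (ka xa14 ya47 za55) (ka xa14 ya25 za24)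 (ka xa14 ya45 za58) (ka xa12 ya53 za45) (ka xa20 ya20 za43) (ka xa20 ya20 za44) (ka xa20 ya20 za45) (ka xa6 ya4 za0) (ka xa9 ya14 za38) (ka xa9 ya14 za37) (ka xa20 ya54 za1) (ka xa20 ya54 za2) (ka xa11 ya22 za56) (ka xa11 ya22 za57) (ka xa19 ya59 za21) (ka xa16 ya58 za61) (ka xa16 ya59 za0) (ka xa16 ya59 za1) (ka xa16 ya59 za2) (ka xa16 ya58 za41) (ka xa13 ya9 za28) (ka xa6 ya4 za4) (ka xa20 ya54 za29) (ka xa12 ya48 za60) (ka xa6 ya4 za10) (ka xa11 ya8 za14) (ka xa11 ya8 za15) (ka xa9 ya51 za8) (ka xa9 ya51 za9) (ka xa9 ya51 za10) (ka xa11 ya25 za24) (ka xa20 ya54 za39) (ka xa10 ya38 za40)) (@D3.rec (fun _ => Pt) (ka xa11 ya52 za5) (ka xa20 ya54 za44) (ka xa9 ya37 za53) (ka xa9 ya37 za54) (ka xa11 ya52 za11) (ka xa11 ya52 za0) (ka xa15 ya43 za20) (ka xa15 ya43 za19) (ka xa6 ya4 za21) (ka xa11 ya16 za50) (ka xa10 ya38 za34)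 (ka xa11 ya52 za4) (ka xa6 ya4 za38) (ka xa6 ya4 za39) (ka xa20 ya55 za1) (ka xa6 ya4 za40) (ka xa6 ya4 za51) (ka xa6 ya4 za52) (ka xa6 ya4 za53) (ka xa6 ya4 za55) (ka xa11 ya53 za32) (ka xa6 ya4 za60) (ka xa6 ya5 za0) (ka xa6 ya5 za1) (ka xa20 ya55 za16) (ka xa6 ya5 za10) (ka xa6 ya5 za11) (ka xa11 ya54 za1) (ka xa6 ya5 za13) (ka xa6 ya5 za14) (ka xa20 ya55 za25) (ka xa20 ya55 za30) (ka xa6 ya4 za30) (ka xa20 ya55 za35) (ka xa20 ya55 za24) (ka xa6 ya5 za20) (ka xa6 ya5 za21) (ka xa6 ya5 za23) (ka xa6 ya5 za25) (ka xa8 ya13 za19) (ka xa8 ya13 za60) (ka xa11 ya52 za45) (ka xa11 ya52 za46) (ka xa11 ya52 za47) (ka xa20 ya55 za53) (ka xa11 ya52 za41) (ka xa11 ya52 za42) (ka xa11 ya52 za43) (ka xa20 ya55 za59) (ka xa20 ya54 za60) (ka xa20 ya56 za1) (ka xa8 ya54 za2) (ka xa10 ya37 za11) (ka xa8 ya38 za34) (ka xa20 ya55 za2)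 (ka xa10 ya40 za14) (ka xa10 ya40 za15) (ka xa10 ya40 za17) (ka xa10 ya40 za18) (ka xa10 ya40 za11) (ka xa10 ya40 za12) (ka xa20 ya56 za15)) (@D3.rec (fun _ => Pt) (ka xa11 ya5 za13) (ka xa20 ya55 za0) (ka xa20 ya54 za61) (ka xa6 ya4 za50) (ka xa20 ya56 za21) (ka xa20 ya55 za3) (ka xa19 ya54 za57) (ka xa20 ya55 za4) (ka xa19 ya54 za55) (ka xa20 ya55 za5) (ka xa8 ya53 za29) (ka xa8 ya13 za52) (ka xa15 ya56 za5) (ka xa10 ya44 za9) (ka xa15 ya36 za39) (ka xa20 ya56 za48) (ka xa10 ya37 za12) (ka xa20 ya56 za51) (ka xa20 ya55 za9) (ka xa20 ya55 za10) (ka xa20 ya55 za11) (ka xa20 ya55 za12) (ka xa10 ya44 za26) (ka xa10 ya44 za27) (ka xa20 ya55 za13) (ka xa15 ya42 za10) (ka xa8 ya6 za58) (ka xa8 ya6 za59) (ka xa8 ya6 za60) (ka xa20 ya55 za7) (ka xa20 ya55 za6) (ka xa6 ya5 za3) (ka xa11 ya52 za20) (ka xa20 ya57 za6) (ka xa10 ya37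 za19) (ka xa10 ya37 za4) (ka xa10 ya37 za5) (ka xa10 ya37 za7) (ka xa10 ya37 za8) (ka xa10 ya37 za1) (ka xa10 ya37 za2) (ka xa10 ya37 za3) (ka xa12 ya54 za15) (ka xa12 ya54 za29) (ka xa6 ya5 za9) (ka xa20 ya57 za29) (ka xa10 ya37 za9) (ka xa20 ya55 za19) (ka xa19 ya31 za61) (ka xa20 ya55 za20) (ka xa20 ya55 za15) (ka xa20 ya55 za14) (ka xa6 ya5 za12) (ka xa20 ya57 za42) (ka xa11 ya53 za61) (ka xa20 ya57 za43) (ka xa20 ya55 za22) (ka xa19 ya34 za41) (ka xa20 ya55 za23) (ka xa6 ya5 za19) (ka xa6 ya5 za15) (ka xa11 ya53 za54)) (@D3.rec (fun _ => Pt) (ka xa8 ya14 za29) (ka xa11 ya52 za27) (ka xa20 ya57 za60) (ka xa6 ya5 za16) (ka xa20 ya36 za46) (ka xa17 ya6 za59) (ka xa6 ya5 za18) (ka xa15 ya27 za47) (ka xa20 ya58 za6) (ka xa20 ya58 za7) (ka xa20 ya58 za8) (ka xa20 ya57 za58) (ka xa20 ya57 za59) (ka xa12 ya54 za13) (ka xa20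 ya55 za42) (ka xa20 ya58 za26) (ka xa20 ya55 za43) (ka xa20 ya58 za34) (ka xa15 ya29 za30) (ka xa20 ya55 za44) (ka xa20 ya55 za45) (ka xa20 ya55 za46) (ka xa15 ya29 za26) (ka xa8 ya55 za34) (ka xa8 ya55 za33) (ka xa20 ya55 za47) (ka xa8 ya9 za31) (ka xa8 ya55 za40) (ka xa8 ya34 za38) (ka xa8 ya55 za37) (ka xa8 ya55 za38) (ka xa20 ya59 za1) (ka xa10 ya43 za36) (ka xa20 ya59 za5) (ka xa9 ya30 za46) (ka xa9 ya30 za58) (ka xa6 ya5 za30) (ka xa20 ya59 za9) (ka xa15 ya31 za11) (ka xa15 ya31 za12) (ka xa15 ya31 za13) (ka xa15 ya31 za14) (ka xa15 ya31 za15) (ka xa15 ya31 za16) (ka xa15 ya31 za17) (ka xa6 ya47 za22) (ka xa20 ya23 za33) (ka xa10 ya43 za48) (ka xa10 ya43 za49) (ka xa6 ya51 za12) (ka xa10 ya43 za45) (ka xa6 ya5 za40) (ka xa10 ya43 za51) (ka xa10 ya43 za50) (ka xa10 ya33 za32) (ka xa20 ya59 za34) (ka xa10 ya32 za8)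 (ka xa15 ya50 za53) (ka xa10 ya24 za3) (ka xa15 ya50 za54) (ka xa20 ya59 za38) (ka xa20 ya59 za41)) (@D3.rec (fun _ => Pt) (ka xa20 ya59 za44) (ka xa9 ya31 za18) (ka xa6 ya5 za48) (ka xa20 ya59 za47) (ka xa20 ya59 za48) (ka xa8 ya26 za30) (ka xa10 ya43 za4) (ka xa9 ya22 za23) (ka xa10 ya46 za61) (ka xa15 ya56 za15) (ka xa10 ya46 za45) (ka xa10 ya46 za44) (ka xa10 ya43 za21) (ka xa18 ya1 za37) (ka xa10 ya43 za17) (ka xa10 ya43 za19) (ka xa6 ya5 za56) (ka xa10 ya49 za38) (ka xa21 ya0 za12) (ka xa10 ya43 za56) (ka xa19 ya37 za52) (ka xa10 ya24 za28) (ka xa6 ya5 za60) (ka xa21 ya0 za15) (ka xa21 ya0 za16) (ka xa15 ya31 za24) (ka xa10 ya56 za40) (ka xa15 ya31 za25) (ka xa15 ya31 za26) (ka xa15 ya31 za27) (ka xa8 ya6 za52) (ka xa10 ya56 za51) (ka xa10 ya56 za52) (ka xa10 ya33 za43) (ka xa15 ya31 za28) (ka xa10 ya51 za53) (ka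 xa13 ya2 za23) (ka xa9 ya31 za7) (ka xa10 ya44 za48) (ka xa9 ya31 za6) (ka xa6 ya6 za7) (ka xa6 ya6 za8) (ka xa10 ya57 za23) (ka xa11 ya32 za16) (ka xa19 ya39 za45) (ka xa9 ya46 za36) (ka xa9 ya46 za52) (ka xa20 ya5 za26) (ka xa10 ya44 za23) (ka xa10 ya44 za25) (ka xa10 ya33 za60) (ka xa10 ya33 za61) (ka xa6 ya41 za23) (ka xa21 ya0 za46) (ka xa19 ya16 za28) (ka xa10 ya43 za58) (ka xa6 ya46 za1) (ka xa6 ya6 za18) (ka xa13 ya23 za26) (ka xa12 ya34 za11) (ka xa7 ya15 za31) (ka xa14 ya23 za17)) (@D3.rec (fun _ => Pt) (ka xa15 ya56 za18) (ka xa10 ya54 za27) (ka xa10 ya54 za17) (ka xa9 ya50 za38) (ka xa10 ya44 za15) (ka xa12 ya54 za33) (ka xa10 ya44 za12) (ka xa10 ya44 za13) (ka xa10 ya34 za14) (ka xa10 ya45 za3) (ka xa10 ya45 za13) (ka xa10 ya45 za1) (ka xa6 ya6 za33) (ka xa10 ya45 za7) (ka xa10 ya45 za6) (ka xa15 ya59 za42)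 (ka xa20 ya43 za39) (ka xa20 ya4 za49) (ka xa9 ya20 za5) (ka xa6 ya45 za54) (ka xa6 ya45 za55) (ka xa10 ya44 za55) (ka xa10 ya44 za54) (ka xa20 ya34 za58) (ka xa6 ya6 za50) (ka xa6 ya6 za42) (ka xa6 ya45 za9) (ka xa6 ya45 za8) (ka xa21 ya1 za21) (ka xa21 ya1 za17) (ka xa20 ya39 za1) (ka xa20 ya56 za50) (ka xa6 ya45 za11) (ka xa6 ya6 za48) (ka xa6 ya6 za49) (ka xa17 ya9 za48) (ka xa17 ya0 za13) (ka xa17 ya9 za37) (ka xa17 ya3 za16) (ka xa21 ya1 za29) (ka xa21 ya1 za30) (ka xa11 ya48 za47) (ka xa8 ya59 za31) (ka xa8 ya59 za30) (ka xa10 ya18 za32) (ka xa10 ya18 za33) (ka xa11 ya42 za11) (ka xa10 ya45 za52) (ka xa21 ya1 za43) (ka xa15 ya29 za47) (ka xa21 ya1 za47) (ka xa15 ya29 za49) (ka xa15 ya29 za48) (ka xa6 ya6 za59) (ka xa18 ya8 za2) (ka xa11 ya42 za45) (ka xa15 ya52 za36) (ka xa15 ya52 za37) (ka xa15 ya52 za38) (ka xa15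 ya52 za39) (ka xa15 ya52 za40) (ka xa10 ya19 za60)) (@D3.rec (fun _ => Pt) (ka xa15 ya16 za16) (ka xa14 ya30 za37) (ka xa15 ya16 za17) (ka xa15 ya52 za41) (ka xa15 ya29 za57) (ka xa15 ya29 za58) (ka xa9 ya30 za53) (ka xa15 ya29 za55) (ka xa15 ya28 za11) (ka xa8 ya11 za15) (ka xa6 ya7 za8) (ka xa19 ya6 za47) (ka xa17 ya52 za38) (ka xa15 ya29 za39) (ka xa15 ya29 za38) (ka xa6 ya7 za12) (ka xa21 ya2 za15) (ka xa21 ya2 za16) (ka xa16 ya11 za18) (ka xa10 ya15 za59) (ka xa16 ya11 za19) (ka xa11 ya3 za24) (ka xa9 ya31 za35) (ka xa9 ya1 za7) (ka xa6 ya7 za19) (ka xa11 ya5 za57) (ka xa16 ya59 za43) (ka xa11 ya5 za55) (ka xa8 ya11 za23) (ka xa6 ya7 za22) (ka xa18 ya39 za49) (ka xa12 ya29 za16) (ka xa9 ya44 za22) (ka xa9 ya44 za21) (ka xa6 ya7 za26) (ka xa12 ya44 za8) (ka xa12 ya9 za42) (ka xa12 ya9 za53) (ka xa6 ya7 za39) (ka xa8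 ya38 za7) (ka xa18 ya23 za46) (ka xa18 ya23 za47) (ka xa6 ya51 za7) (ka xa12 ya10 za13) (ka xa11 ya22 za9) (ka xa9 ya9 za51) (ka xa18 ya21 za7) (ka xa18 ya21 za8) (ka xa11 ya38 za0) (ka xa15 ya26 za14) (ka xa18 ya21 za9) (ka xa6 ya50 za5) (ka xa18 ya21 za5) (ka xa9 ya12 za41) (ka xa18 ya21 za11) (ka xa9 ya12 za40) (ka xa20 ya4 za31) (ka xa17 ya9 za34) (ka xa6 ya7 za57) (ka xa12 ya30 za28) (ka xa12 ya56 za21) (ka xa9 ya29 za29)) (@D3.rec (fun _ => Pt) (ka xa15 ya26 za16) (ka xa11 ya32 za27) (ka xa7 ya26 za51) (ka xa18 ya22 za30) (ka xa12 ya4 za13) (ka xa18 ya43 za43) (ka xa11 ya47 za6) (ka xa21 ya3 za11) (ka xa7 ya27 za26) (ka xa10 ya45 za40) (ka xa6 ya8 za3) (ka xa13 ya1 za44) (ka xa6 ya12 za22) (ka xa18 ya43 za17) (ka xa8 ya59 za50) (ka xa10 ya7 za15) (ka xa17 ya12 za45) (ka xa7 ya26 za61) (ka xa20 ya40 za24) (ka xa20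 ya40 za22) (ka xa20 ya40 za23) (ka xa11 ya1 za52) (ka xa11 ya1 za54) (ka xa17 ya3 za30) (ka xa14 ya24 za0) (ka xa11 ya2 za2) (ka xa10 ya48 za35) (ka xa17 ya0 za10) (ka xa17 ya1 za23) (ka xa10 ya45 za39) (ka xa10 ya45 za38) (ka xa9 ya13 za27) (ka xa12 ya9 za33) (ka xa17 ya10 za0) (ka xa12 ya9 za32) (ka xa11 ya35 za60) (ka xa12 ya12 za12) (ka xa18 ya21 za22) (ka xa17 ya9 za51) (ka xa17 ya9 za53) (ka xa9 ya17 za59) (ka xa17 ya11 za12) (ka xa13 ya16 za36) (ka xa13 ya16 za37) (ka xa12 ya12 za53) (ka xa11 ya24 za18) (ka xa20 ya31 za60) (ka xa20 ya40 za38) (ka xa20 ya40 za39) (ka xa20 ya40 za40) (ka xa7 ya42 za27) (ka xa14 ya33 za23) (ka xa20 ya34 za8) (ka xa14 ya33 za24) (ka xa20 ya39 za56) (ka xa7 ya43 za27) (ka xa20 ya40 za41) (ka xa7 ya43 za25) (ka xa11 ya30 za33) (ka xa20 ya40 za61) (ka xa20 ya40 za42) (ka xa12 ya15 za29))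 (@D3.rec (fun _ => Pt) (ka xa20 ya22 za61) (ka xa17 ya18 za22) (ka xa10 ya40 za22) (ka xa20 ya39 za58) (ka xa12 ya49 za2) (ka xa18 ya22 za39) (ka xa21 ya3 za56) (ka xa14 ya3 za4) (ka xa17 ya50 za33) (ka xa20 ya37 za47) (ka xa12 ya17 za21) (ka xa16 ya57 za42) (ka xa10 ya4 za24) (ka xa9 ya32 za34) (ka xa11 ya14 za46) (ka xa11 ya23 za52) (ka xa11 ya6 za17) (ka xa17 ya59 za39) (ka xa11 ya23 za58) (ka xa11 ya21 za26) (ka xa11 ya23 za60) (ka xa20 ya7 za0) (ka xa20 ya6 za61) (ka xa6 ya9 za8) (ka xa21 ya4 za8) (ka xa9 ya0 za18) (ka xa9 ya0 za19) (ka xa9 ya0 za20) (ka xa9 ya0 za21) (ka xa8 ya48 za32) (ka xa8 ya48 za33) (ka xa8 ya49 za27) (ka xa8 ya48 za34) (ka xa8 ya48 za35) (ka xa8 ya48 za36) (ka xa8 ya48 za37) (ka xa8 ya48 za38) (ka xa8 ya48 za39) (ka xa8 ya48 za41) (ka xa19 ya37 za47) (ka xa8 ya48 za49) (ka xa13 ya0 za46) (ka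 xa21 ya4 za28) (ka xa12 ya13 za49) (ka xa12 ya13 za48) (ka xa12 ya21 za47) (ka xa16 ya15 za18) (ka xa12 ya58 za49) (ka xa12 ya58 za50) (ka xa9 ya19 za24) (ka xa21 ya4 za31) (ka xa6 ya22 za16) (ka xa12 ya20 za13) (ka xa17 ya35 za15) (ka xa6 ya9 za26) (ka xa21 ya4 za33) (ka xa12 ya58 za56) (ka xa6 ya54 za15) (ka xa14 ya56 za50) (ka xa17 ya13 za34) (ka xa17 ya35 za20) (ka xa12 ya42 za32))
def f_a_12 : D2 → D3 → Pt := @D2.rec (fun _ => D3 → Pt) (@D3.rec (fun _ => Pt) (ka xa21 ya4 za47) (ka xa17 ya35 za18) (ka xa7 ya31 za47) (ka xa6 ya28 za17) (ka xa6 ya28 za19) (ka xa12 ya12 za31) (ka xa21 ya4 za58) (ka xa12 ya0 za11) (ka xa21 ya5 za0) (ka xa6 ya9 za44) (ka xa21 ya5 za4) (ka xa12 ya0 za7) (ka xa12 ya15 za56) (ka xa21 ya5 za8) (ka xa12 ya59 za7) (ka xa12 ya59 za8) (ka xa9 ya19 za19) (ka xa7 ya11 za40) (ka xa21 ya5 za20) (ka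 xa12 ya21 za7) (ka xa15 ya16 za15) (ka xa12 ya59 za11) (ka xa12 ya59 za12) (ka xa12 ya59 za10) (ka xa12 ya27 za21) (ka xa12 ya59 za13) (ka xa6 ya9 za43) (ka xa21 ya5 za30) (ka xa12 ya13 za61) (ka xa6 ya48 za18) (ka xa21 ya5 za2) (ka xa12 ya59 za24) (ka xa12 ya59 za25) (ka xa15 ya48 za44) (ka xa12 ya59 za21) (ka xa12 ya59 za22) (ka xa6 ya10 za9) (ka xa6 ya10 za8) (ka xa17 ya3 za0) (ka xa6 ya11 za14) (ka xa6 ya11 za15) (ka xa6 ya11 za12) (ka xa6 ya11 za41) (ka xa6 ya11 za43) (ka xa21 ya5 za57) (ka xa12 ya12 za22) (ka xa6 ya32 za52) (ka xa21 ya6 za0) (ka xa12 ya27 za7) (ka xa21 ya6 za5) (ka xa21 ya6 za8) (ka xa12 ya1 za5) (ka xa21 ya6 za10) (ka xa21 ya6 za15) (ka xa6 ya10 za1) (ka xa21 ya6 za17) (ka xa16 ya6 za2) (ka xa12 ya48 za12) (ka xa7 ya33 za52) (ka xa13 ya51 za28) (ka xa21 ya6 za31) (ka xa12 ya48 za10)) (@D3.rec (fun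 _ => Pt) (ka xa21 ya6 za35) (ka xa8 ya33 za13) (ka xa8 ya33 za12) (ka xa6 ya10 za6) (ka xa21 ya6 za39) (ka xa12 ya0 za51) (ka xa7 ya31 za2) (ka xa12 ya48 za17) (ka xa12 ya31 za25) (ka xa7 ya32 za2) (ka xa7 ya32 za1) (ka xa10 ya7 za9) (ka xa17 ya18 za29) (ka xa21 ya5 za49) (ka xa6 ya10 za11) (ka xa6 ya10 za12) (ka xa11 ya38 za55) (ka xa10 ya7 za1) (ka xa18 ya36 za46) (ka xa6 ya11 za2) (ka xa6 ya11 za4) (ka xa12 ya23 za54) (ka xa17 ya0 za14) (ka xa6 ya11 za20) (ka xa6 ya11 za21) (ka xa6 ya11 za22) (ka xa6 ya11 za24) (ka xa6 ya11 za30) (ka xa6 ya11 za31) (ka xa6 ya33 za56) (ka xa6 ya33 za55) (ka xa6 ya35 za9) (ka xa6 ya34 za51) (ka xa6 ya34 za50) (ka xa6 ya10 za27) (ka xa6 ya34 za60) (ka xa6 ya34 za58) (ka xa6 ya10 za33) (ka xa17 ya7 za20) (ka xa17 ya3 za52) (ka xa21 ya7 za0) (ka xa12 ya58 za42) (ka xa21 ya7 za1) (ka xa6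 ya34 za34) (ka xa6 ya34 za35) (ka xa6 ya34 za41) (ka xa6 ya34 za42) (ka xa6 ya34 za43) (ka xa6 ya33 za60) (ka xa17 ya3 za60) (ka xa6 ya32 za36) (ka xa6 ya32 za37) (ka xa11 ya36 za28) (ka xa7 ya31 za40) (ka xa21 ya6 za49) (ka xa7 ya31 za37) (ka xa6 ya10 za44) (ka xa8 ya48 za20) (ka xa6 ya39 za40) (ka xa6 ya39 za41) (ka xa6 ya39 za42) (ka xa6 ya39 za43)) (@D3.rec (fun _ => Pt) (ka xa6 ya32 za49) (ka xa12 ya14 za48) (ka xa12 ya14 za49) (ka xa6 ya39 za36) (ka xa6 ya39 za37) (ka xa6 ya39 za38) (ka xa6 ya39 za39) (ka xa7 ya31 za46) (ka xa7 ya31 za48) (ka xa13 ya57 za11) (ka xa7 ya31 za36) (ka xa11 ya36 za39) (ka xa17 ya9 za55) (ka xa6 ya10 za58) (ka xa6 ya10 za59) (ka xa6 ya10 za61) (ka xa6 ya11 za0) (ka xa14 ya4 za39) (ka xa11 ya38 za56) (ka xa21 ya7 za38) (ka xa21 ya7 za39) (ka xa21 ya7 za40) (ka xa18 ya41 za39) (ka xa17 ya6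 za12) (ka xa10 ya0 za10) (ka xa18 ya32 za0) (ka xa18 ya43 za51) (ka xa9 ya59 za35) (ka xa12 ya28 za42) (ka xa12 ya28 za43) (ka xa21 ya6 za55) (ka xa21 ya6 za56) (ka xa10 ya0 za36) (ka xa18 ya36 za24) (ka xa10 ya0 za26) (ka xa10 ya0 za27) (ka xa6 ya30 za0) (ka xa18 ya38 za19) (ka xa6 ya40 za41) (ka xa12 ya13 za5) (ka xa12 ya13 za0) (ka xa12 ya13 za2) (ka xa6 ya58 za19) (ka xa18 ya35 za58) (ka xa10 ya0 za33) (ka xa18 ya38 za28) (ka xa6 ya29 za32) (ka xa12 ya16 za43) (ka xa17 ya16 za39) (ka xa21 ya5 za53) (ka xa12 ya46 za12) (ka xa12 ya28 za61) (ka xa12 ya29 za0) (ka xa18 ya32 za33) (ka xa9 ya56 za58) (ka xa18 ya41 za42) (ka xa12 ya29 za39) (ka xa12 ya29 za37) (ka xa12 ya14 za52) (ka xa18 ya49 za47) (ka xa18 ya20 za37) (ka xa18 ya50 za28)) (@D3.rec (fun _ => Pt) (ka xa18 ya41 za41) (ka xa21 ya6 za58) (ka xa6 ya18 za30) (ka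 xa21 ya6 za59) (ka xa6 ya18 za28) (ka xa18 ya50 za31) (ka xa12 ya29 za2) (ka xa17 ya29 za20) (ka xa12 ya39 za0) (ka xa9 ya49 za52) (ka xa12 ya16 za59) (ka xa12 ya23 za55) (ka xa18 ya50 za45) (ka xa12 ya16 za53) (ka xa14 ya11 za55) (ka xa12 ya16 za60) (ka xa6 ya24 za9) (ka xa12 ya12 za30) (ka xa12 ya16 za45) (ka xa21 ya8 za35) (ka xa19 ya55 za50) (ka xa16 ya2 za43) (ka xa6 ya41 za35) (ka xa21 ya8 za44) (ka xa21 ya8 za46) (ka xa6 ya41 za39) (ka xa6 ya41 za44) (ka xa6 ya41 za43) (ka xa6 ya11 za48) (ka xa21 ya8 za55) (ka xa7 ya49 za17) (ka xa6 ya11 za53) (ka xa6 ya11 za57) (ka xa12 ya56 za50) (ka xa11 ya21 za31) (ka xa21 ya8 za60) (ka xa11 ya22 za34) (ka xa9 ya56 za10) (ka xa21 ya8 za61) (ka xa20 ya9 za27) (ka xa20 ya9 za28) (ka xa12 ya54 za21) (ka xa20 ya11 za43) (ka xa20 ya11 za44) (ka xa21 ya9 za19) (ka xa20 ya11 za45)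 (ka xa20 ya11 za46) (ka xa20 ya37 za33) (ka xa17 ya7 za35) (ka xa11 ya21 za34) (ka xa20 ya37 za34) (ka xa12 ya55 za8) (ka xa11 ya27 za20) (ka xa12 ya4 za25) (ka xa17 ya59 za42) (ka xa19 ya43 za43) (ka xa9 ya4 za11) (ka xa21 ya9 za34) (ka xa9 ya4 za15) (ka xa20 ya9 za25) (ka xa20 ya9 za26) (ka xa21 ya9 za37)) (@D3.rec (fun _ => Pt) (ka xa12 ya14 za36) (ka xa10 ya48 za13) (ka xa19 ya59 za55) (ka xa12 ya55 za16) (ka xa11 ya51 za16) (ka xa11 ya51 za18) (ka xa12 ya55 za17) (ka xa20 ya12 za11) (ka xa17 ya12 za34) (ka xa12 ya56 za45) (ka xa17 ya34 za0) (ka xa17 ya33 za61) (ka xa6 ya12 za16) (ka xa11 ya58 za4) (ka xa6 ya12 za26) (ka xa6 ya12 za27) (ka xa18 ya32 za34) (ka xa19 ya25 za8) (ka xa12 ya24 za54) (ka xa12 ya29 za18) (ka xa6 ya32 za23) (ka xa6 ya32 za26) (ka xa18 ya39 za37) (ka xa9 ya46 za39) (ka xa21 ya9 za49) (ka xa12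 ya3 za53) (ka xa16 ya36 za7) (ka xa13 ya10 za2) (ka xa9 ya26 za60) (ka xa20 ya27 za17) (ka xa6 ya12 za37) (ka xa8 ya56 za38) (ka xa10 ya34 za57) (ka xa10 ya34 za58) (ka xa21 ya9 za54) (ka xa12 ya11 za34) (ka xa12 ya11 za35) (ka xa12 ya58 za5) (ka xa7 ya59 za47) (ka xa7 ya59 za49) (ka xa12 ya42 za55) (ka xa12 ya17 za12) (ka xa21 ya10 za0) (ka xa12 ya17 za36) (ka xa12 ya42 za41) (ka xa12 ya11 za61) (ka xa14 ya23 za13) (ka xa14 ya23 za14) (ka xa17 ya17 za16) (ka xa9 ya23 za47) (ka xa21 ya4 za46) (ka xa12 ya40 za9) (ka xa12 ya12 za6) (ka xa16 ya13 za54) (ka xa20 ya34 za25) (ka xa21 ya9 za61) (ka xa6 ya12 za61) (ka xa21 ya10 za8) (ka xa12 ya12 za11) (ka xa21 ya10 za11) (ka xa6 ya48 za57) (ka xa6 ya48 za59)) (@D3.rec (fun _ => Pt) (ka xa12 ya20 za11) (ka xa6 ya48 za53) (ka xa6 ya48 za55) (ka xa13 ya31 za16) (ka xa9 ya44 za37)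 (ka xa17 ya1 za10) (ka xa8 ya51 za37) (ka xa8 ya51 za38) (ka xa8 ya51 za39) (ka xa8 ya51 za41) (ka xa8 ya51 za42) (ka xa7 ya14 za31) (ka xa8 ya51 za44) (ka xa8 ya51 za45) (ka xa8 ya51 za46) (ka xa8 ya51 za47) (ka xa8 ya51 za48) (ka xa8 ya51 za49) (ka xa21 ya10 za56) (ka xa8 ya45 za22) (ka xa8 ya43 za53) (ka xa6 ya13 za12) (ka xa21 ya10 za60) (ka xa8 ya51 za53) (ka xa8 ya51 za54) (ka xa8 ya0 za12) (ka xa6 ya13 za20) (ka xa6 ya13 za25) (ka xa6 ya13 za26) (ka xa6 ya13 za27) (ka xa6 ya13 za28) (ka xa21 ya11 za8) (ka xa20 ya25 za30) (ka xa15 ya26 za52) (ka xa8 ya49 za22) (ka xa9 ya48 za11) (ka xa9 ya48 za20) (ka xa9 ya48 za17) (ka xa19 ya27 za30) (ka xa11 ya29 za27) (ka xa19 ya27 za31) (ka xa17 ya53 za22) (ka xa9 ya44 za47) (ka xa21 ya11 za29) (ka xa17 ya2 za1) (ka xa20 ya29 za20) (ka xa21 ya11 za10) (ka xa18 ya2 za31) (ka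 xa18 ya2 za30) (ka xa6 ya13 za29) (ka xa8 ya1 za14) (ka xa13 ya52 za45) (ka xa16 ya25 za14) (ka xa14 ya50 za29) (ka xa16 ya25 za15) (ka xa8 ya51 za5) (ka xa8 ya51 za6) (ka xa16 ya24 za37) (ka xa8 ya51 za19) (ka xa8 ya51 za20) (ka xa15 ya8 za24) (ka xa15 ya8 za25)) (@D3.rec (fun _ => Pt) (ka xa15 ya8 za26) (ka xa15 ya8 za27) (ka xa15 ya8 za50) (ka xa16 ya25 za55) (ka xa15 ya8 za52) (ka xa21 ya12 za9) (ka xa12 ya6 za7) (ka xa12 ya6 za6) (ka xa15 ya7 za48) (ka xa8 ya48 za14) (ka xa6 ya14 za3) (ka xa13 ya30 za61) (ka xa11 ya23 za26) (ka xa15 ya50 za5) (ka xa13 ya42 za2) (ka xa15 ya7 za49) (ka xa6 ya13 za51) (ka xa8 ya48 za8) (ka xa8 ya48 za2) (ka xa8 ya48 za3) (ka xa8 ya50 za28) (ka xa6 ya14 za50) (ka xa11 ya49 za46) (ka xa6 ya14 za53) (ka xa6 ya14 za54) (ka xa14 ya1 za56) (ka xa16 ya25 za12) (ka xa13 ya58 za61) (ka xa16 ya25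 za13) (ka xa15 ya6 za1) (ka xa16 ya24 za24) (ka xa10 ya26 za41) (ka xa16 ya23 za39) (ka xa10 ya16 za35) (ka xa16 ya23 za41) (ka xa16 ya23 za42) (ka xa7 ya7 za4) (ka xa9 ya3 za4) (ka xa8 ya43 za47) (ka xa11 ya23 za30) (ka xa21 ya12 za42) (ka xa12 ya6 za42) (ka xa12 ya6 za41) (ka xa15 ya14 za7) (ka xa21 ya12 za17) (ka xa11 ya23 za24) (ka xa11 ya23 za25) (ka xa11 ya23 za28) (ka xa11 ya23 za29) (ka xa8 ya2 za14) (ka xa20 ya13 za59) (ka xa20 ya13 za60) (ka xa20 ya13 za61) (ka xa16 ya24 za19) (ka xa16 ya23 za47) (ka xa16 ya23 za21) (ka xa11 ya37 za37) (ka xa16 ya23 za48) (ka xa14 ya44 za23) (ka xa6 ya14 za17) (ka xa6 ya14 za18) (ka xa21 ya13 za7)) (@D3.rec (fun _ => Pt) (ka xa21 ya13 za8) (ka xa21 ya13 za9) (ka xa11 ya13 za31) (ka xa21 ya13 za10) (ka xa11 ya13 za30) (ka xa11 ya23 za15) (ka xa11 ya34 za13) (ka xa11 ya23 za18)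 (ka xa11 ya23 za19) (ka xa11 ya23 za20) (ka xa11 ya23 za21) (ka xa11 ya23 za22) (ka xa11 ya23 za23) (ka xa11 ya23 za35) (ka xa17 ya47 za34) (ka xa11 ya23 za40) (ka xa11 ya6 za52) (ka xa11 ya34 za14) (ka xa7 ya56 za25) (ka xa11 ya6 za48) (ka xa11 ya6 za51) (ka xa8 ya37 za0) (ka xa11 ya34 za6) (ka xa11 ya34 za8) (ka xa11 ya34 za9) (ka xa11 ya34 za10) (ka xa17 ya14 za59) (ka xa16 ya24 za28) (ka xa6 ya14 za41) (ka xa6 ya14 za42) (ka xa6 ya14 za43) (ka xa6 ya14 za45) (ka xa6 ya14 za48) (ka xa9 ya23 za59) (ka xa21 ya13 za38) (ka xa21 ya13 za39) (ka xa21 ya13 za40) (ka xa21 ya13 za41) (ka xa21 ya13 za52) (ka xa21 ya13 za42) (ka xa21 ya13 za43) (ka xa20 ya32 za15) (ka xa17 ya15 za32) (ka xa17 ya23 za53) (ka xa21 ya13 za44) (ka xa16 ya35 za46) (ka xa7 ya17 za11) (ka xa7 ya17 za12) (ka xa7 ya17 za13) (ka xa9 ya8 za35) (ka xa9 ya44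 za36) (ka xa13 ya50 za31) (ka xa6 ya14 za49) (ka xa14 ya44 za25) (ka xa16 ya51 za39) (ka xa7 ya14 za50) (ka xa14 ya47 za24) (ka xa14 ya45 za16) (ka xa8 ya51 za25) (ka xa8 ya47 za57) (ka xa8 ya51 za23) (ka xa8 ya49 za50)) (@D3.rec (fun _ => Pt) (ka xa6 ya14 za52) (ka xa20 ya0 za27) (ka xa21 ya14 za17) (ka xa20 ya6 za27) (ka xa14 ya47 za25) (ka xa16 ya32 za17) (ka xa17 ya46 za29) (ka xa16 ya32 za16) (ka xa7 ya23 za8) (ka xa13 ya50 za41) (ka xa13 ya50 za42) (ka xa13 ya50 za28) (ka xa7 ya23 za9) (ka xa13 ya50 za43) (ka xa7 ya21 za52) (ka xa7 ya21 za53) (ka xa7 ya21 za54) (ka xa7 ya4 za25) (ka xa7 ya17 za20) (ka xa7 ya16 za44) (ka xa13 ya30 za21) (ka xa11 ya23 za10) (ka xa16 ya29 za54) (ka xa7 ya13 za0) (ka xa13 ya30 za49) (ka xa7 ya14 za46) (ka xa16 ya33 za53) (ka xa10 ya16 za24) (ka xa13 ya50 za21) (ka xa7 ya16 za54) (ka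 xa7 ya17 za43) (ka xa7 ya21 za51) (ka xa7 ya17 za17) (ka xa7 ya17 za18) (ka xa13 ya40 za35) (ka xa15 ya13 za26) (ka xa8 ya47 za34) (ka xa9 ya44 za39) (ka xa7 ya6 za46) (ka xa13 ya40 za34) (ka xa7 ya9 za16) (ka xa16 ya24 za15) (ka xa8 ya42 za52) (ka xa6 ya15 za14) (ka xa21 ya15 za1) (ka xa11 ya23 za41) (ka xa11 ya23 za42) (ka xa11 ya23 za44) (ka xa11 ya23 za45) (ka xa11 ya24 za42) (ka xa11 ya25 za12) (ka xa6 ya15 za27) (ka xa11 ya12 za56) (ka xa11 ya27 za41) (ka xa11 ya12 za59) (ka xa21 ya11 za24) (ka xa9 ya3 za58) (ka xa11 ya12 za55) (ka xa15 ya3 za58) (ka xa21 ya15 za15) (ka xa12 ya46 za10) (ka xa20 ya6 za58)) (@D3.rec (fun _ => Pt) (ka xa6 ya15 za34) (ka xa11 ya25 za19) (ka xa9 ya17 za11) (ka xa11 ya7 za19) (ka xa11 ya25 za20) (ka xa9 ya9 za46) (ka xa11 ya32 za57) (ka xa9 ya48 za10) (ka xa9 ya22 za46) (ka xa9 ya23 za61)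 (ka xa17 ya15 za38) (ka xa17 ya15 za39) (ka xa17 ya15 za40) (ka xa17 ya15 za41) (ka xa7 ya59 za25) (ka xa7 ya59 za15) (ka xa17 ya15 za42) (ka xa17 ya15 za43) (ka xa9 ya17 za18) (ka xa9 ya17 za19) (ka xa9 ya5 za10) (ka xa6 ya45 za44) (ka xa11 ya34 za59) (ka xa11 ya34 za60) (ka xa11 ya14 za22) (ka xa11 ya13 za49) (ka xa11 ya13 za50) (ka xa11 ya37 za32) (ka xa11 ya37 za33) (ka xa15 ya26 za20) (ka xa9 ya9 za30) (ka xa17 ya15 za46) (ka xa11 ya58 za34) (ka xa11 ya58 za32) (ka xa11 ya34 za15) (ka xa17 ya15 za33) (ka xa17 ya15 za34) (ka xa17 ya15 za35) (ka xa17 ya15 za36) (ka xa15 ya26 za21) (ka xa15 ya13 za22) (ka xa17 ya15 za37) (ka xa11 ya57 za36) (ka xa9 ya23 za44) (ka xa11 ya28 za58) (ka xa11 ya28 za57) (ka xa9 ya15 za40) (ka xa9 ya15 za41) (ka xa9 ya15 za42) (ka xa11 ya30 za49) (ka xa8 ya12 za13) (ka xa8 ya12 za7) (ka xa11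 ya30 za48) (ka xa11 ya57 za37) (ka xa6 ya16 za28) (ka xa6 ya16 za30) (ka xa6 ya16 za35) (ka xa6 ya16 za39) (ka xa6 ya16 za42) (ka xa14 ya25 za35) (ka xa9 ya44 za46) (ka xa9 ya2 za51)) (@D3.rec (fun _ => Pt) (ka xa9 ya2 za48) (ka xa9 ya24 za4) (ka xa9 ya8 za61) (ka xa11 ya38 za10) (ka xa15 ya26 za35) (ka xa14 ya26 za9) (ka xa11 ya0 za25) (ka xa11 ya5 za35) (ka xa11 ya50 za34) (ka xa20 ya13 za38) (ka xa12 ya14 za39) (ka xa17 ya18 za48) (ka xa19 ya51 za16) (ka xa11 ya57 za43) (ka xa19 ya51 za15) (ka xa20 ya33 za21) (ka xa17 ya8 za21) (ka xa20 ya33 za22) (ka xa9 ya25 za6) (ka xa11 ya27 za49) (ka xa9 ya25 za4) (ka xa11 ya45 za35) (ka xa21 ya15 za47) (ka xa12 ya31 za33) (ka xa21 ya16 za6) (ka xa6 ya16 za40) (ka xa17 ya24 za36) (ka xa11 ya27 za38) (ka xa14 ya26 za6) (ka xa17 ya4 za43) (ka xa17 ya4 za41) (ka xa17 ya12 za54) (ka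 xa17 ya12 za58) (ka xa17 ya12 za60) (ka xa20 ya14 za1) (ka xa9 ya25 za14) (ka xa11 ya27 za52) (ka xa6 ya16 za50) (ka xa6 ya16 za55) (ka xa6 ya16 za51) (ka xa14 ya20 za12) (ka xa20 ya19 za14) (ka xa11 ya6 za23) (ka xa18 ya42 za15) (ka xa14 ya11 za60) (ka xa6 ya16 za54) (ka xa6 ya25 za24) (ka xa20 ya52 za42) (ka xa21 ya9 za35) (ka xa9 ya5 za33) (ka xa9 ya5 za35) (ka xa11 ya27 za31) (ka xa11 ya27 za32) (ka xa6 ya17 za4) (ka xa11 ya27 za36) (ka xa11 ya26 za50) (ka xa11 ya27 za35) (ka xa8 ya12 za30) (ka xa11 ya7 za2) (ka xa11 ya6 za45) (ka xa11 ya27 za26) (ka xa6 ya17 za11)) (@D3.rec (fun _ => Pt) (ka xa11 ya26 za49) (ka xa11 ya27 za30) (ka xa10 ya49 za40) (ka xa10 ya52 za46) (ka xa8 ya12 za28) (ka xa8 ya35 za42) (ka xa9 ya15 za47) (ka xa21 ya16 za23) (ka xa9 ya15 za50) (ka xa9 ya15 za60) (ka xa9 ya15 za59) (ka xa11 ya40 za50)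 (ka xa6 ya17 za26) (ka xa6 ya17 za27) (ka xa6 ya17 za28) (ka xa6 ya17 za29) (ka xa6 ya17 za33) (ka xa6 ya17 za34) (ka xa21 ya16 za36) (ka xa17 ya11 za28) (ka xa17 ya11 za29) (ka xa17 ya11 za30) (ka xa17 ya11 za31) (ka xa21 ya16 za30) (ka xa19 ya17 za38) (ka xa21 ya16 za31) (ka xa12 ya32 za37) (ka xa13 ya15 za14) (ka xa17 ya26 za28) (ka xa17 ya28 za51) (ka xa21 ya16 za32) (ka xa6 ya29 za40) (ka xa9 ya22 za10) (ka xa19 ya10 za6) (ka xa12 ya4 za35) (ka xa12 ya4 za36) (ka xa12 ya32 za44) (ka xa21 ya16 za33) (ka xa12 ya33 za24) (ka xa8 ya23 za19) (ka xa21 ya17 za5) (ka xa17 ya29 za10) (ka xa21 ya17 za13) (ka xa9 ya28 za9) (ka xa9 ya28 za10) (ka xa21 ya17 za19) (ka xa9 ya28 za13) (ka xa21 ya17 za24) (ka xa9 ya28 za19) (ka xa21 ya17 za28) (ka xa9 ya28 za16) (ka xa9 ya28 za17) (ka xa9 ya28 za20) (ka xa6 ya17 za44) (ka xa21 ya17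 za34) (ka xa9 ya28 za25) (ka xa9 ya28 za24) (ka xa17 ya28 za22) (ka xa12 ya33 za49) (ka xa12 ya33 za50) (ka xa6 ya38 za36) (ka xa12 ya4 za45)) (@D3.rec (fun _ => Pt) (ka xa12 ya31 za20) (ka xa9 ya23 za46) (ka xa12 ya31 za21) (ka xa6 ya38 za27) (ka xa9 ya39 za10) (ka xa21 ya17 za50) (ka xa12 ya4 za52) (ka xa21 ya17 za51) (ka xa21 ya17 za54) (ka xa6 ya17 za58) (ka xa12 ya39 za27) (ka xa12 ya4 za58) (ka xa11 ya58 za36) (ka xa20 ya13 za8) (ka xa9 ya33 za12) (ka xa9 ya33 za13) (ka xa17 ya14 za30) (ka xa9 ya33 za9) (ka xa9 ya33 za10) (ka xa13 ya0 za29) (ka xa6 ya40 za39) (ka xa12 ya13 za19) (ka xa12 ya0 za45) (ka xa21 ya18 za16) (ka xa12 ya13 za18) (ka xa9 ya49 za9) (ka xa6 ya18 za8) (ka xa11 ya11 za11) (ka xa12 ya38 za20) (ka xa6 ya36 za30) (ka xa12 ya3 za17) (ka xa12 ya0 za5) (ka xa21 ya18 za24) (ka xa12 ya27 za1) (ka xa12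 ya28 za49) (ka xa12 ya28 za48) (ka xa17 ya11 za16) (ka xa17 ya57 za57) (ka xa6 ya18 za27) (ka xa6 ya18 za33) (ka xa6 ya18 za35) (ka xa6 ya18 za36) (ka xa21 ya18 za31) (ka xa6 ya18 za48) (ka xa6 ya18 za21) (ka xa12 ya27 za37) (ka xa6 ya35 za5) (ka xa6 ya35 za4) (ka xa6 ya18 za23) (ka xa16 ya23 za57) (ka xa6 ya33 za59) (ka xa11 ya18 za55) (ka xa12 ya28 za55) (ka xa11 ya58 za44) (ka xa6 ya29 za23) (ka xa20 ya36 za24) (ka xa11 ya18 za30) (ka xa12 ya40 za0) (ka xa21 ya18 za28) (ka xa18 ya50 za34) (ka xa21 ya8 za20) (ka xa12 ya39 za61)) (@D3.rec (fun _ => Pt) (ka xa12 ya2 za40) (ka xa10 ya14 za21) (ka xa12 ya2 za41) (ka xa6 ya59 za6) (ka xa12 ya40 za12) (ka xa12 ya2 za39) (ka xa12 ya40 za13) (ka xa9 ya18 za60) (ka xa12 ya48 za27) (ka xa8 ya23 za7) (ka xa21 ya19 za0) (ka xa12 ya40 za26) (ka xa21 ya19 za4) (ka xa12 ya18 za35)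 (ka xa12 ya18 za36) (ka xa8 ya25 za0) (ka xa12 ya18 za38) (ka xa21 ya19 za9) (ka xa12 ya12 za24) (ka xa12 ya12 za21) (ka xa21 ya19 za15) (ka xa12 ya27 za3) (ka xa12 ya27 za10) (ka xa12 ya27 za12) (ka xa12 ya27 za11) (ka xa6 ya18 za47) (ka xa21 ya19 za24) (ka xa12 ya18 za41) (ka xa12 ya18 za39) (ka xa6 ya27 za58) (ka xa21 ya18 za33) (ka xa21 ya19 za32) (ka xa12 ya28 za15) (ka xa18 ya26 za18) (ka xa21 ya19 za36) (ka xa6 ya18 za53) (ka xa21 ya19 za38) (ka xa21 ya19 za33) (ka xa12 ya26 za60) (ka xa21 ya8 za50) (ka xa9 ya46 za4) (ka xa21 ya4 za41) (ka xa12 ya27 za17) (ka xa11 ya19 za38) (ka xa12 ya24 za24) (ka xa21 ya19 za56) (ka xa7 ya29 za45) (ka xa7 ya48 za45) (ka xa11 ya59 za44) (ka xa11 ya59 za43) (ka xa21 ya20 za0) (ka xa7 ya29 za42) (ka xa12 ya29 za7) (ka xa9 ya20 za39) (ka xa6 ya23 za16) (ka xa12 ya15 za14) (ka xa12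 ya27 za59) (ka xa12 ya15 za49) (ka xa12 ya15 za48) (ka xa12 ya28 za39) (ka xa9 ya24 za24) (ka xa12 ya0 za28)) (@D3.rec (fun _ => Pt) (ka xa6 ya19 za18) (ka xa18 ya37 za61) (ka xa21 ya20 za7) (ka xa12 ya28 za13) (ka xa10 ya53 za18) (ka xa10 ya53 za11) (ka xa12 ya28 za14) (ka xa20 ya51 za54) (ka xa12 ya28 za40) (ka xa12 ya42 za27) (ka xa10 ya6 za22) (ka xa12 ya42 za28) (ka xa12 ya42 za29) (ka xa18 ya37 za57) (ka xa12 ya14 za51) (ka xa12 ya27 za56) (ka xa19 ya26 za22) (ka xa12 ya15 za15) (ka xa11 ya45 za18) (ka xa17 ya15 za47) (ka xa18 ya0 za17) (ka xa17 ya8 za13) (ka xa20 ya51 za17) (ka xa6 ya20 za25) (ka xa6 ya20 za26) (ka xa6 ya20 za27) (ka xa21 ya20 za24) (ka xa21 ya20 za26) (ka xa6 ya20 za33) (ka xa17 ya10 za10) (ka xa12 ya45 za53) (ka xa15 ya47 za23) (ka xa12 ya20 za0) (ka xa20 ya34 za53) (ka xa21 ya20 za29) (ka xa12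 ya40 za51) (ka xa12 ya4 za0) (ka xa17 ya15 za49) (ka xa9 ya23 za49) (ka xa12 ya10 za10) (ka xa12 ya44 za61) (ka xa9 ya22 za22) (ka xa9 ya23 za55) (ka xa14 ya35 za45) (ka xa12 ya42 za14) (ka xa12 ya45 za0) (ka xa12 ya45 za1) (ka xa12 ya45 za2) (ka xa12 ya2 za1) (ka xa12 ya2 za2) (ka xa18 ya49 za49) (ka xa12 ya14 za14) (ka xa12 ya2 za58) (ka xa12 ya21 za50) (ka xa17 ya33 za21) (ka xa12 ya28 za45) (ka xa17 ya3 za13) (ka xa6 ya34 za29) (ka xa14 ya11 za15) (ka xa6 ya20 za10) (ka xa6 ya20 za12) (ka xa11 ya21 za33)) (@D3.rec (fun _ => Pt) (ka xa17 ya15 za56) (ka xa14 ya14 za18) (ka xa14 ya12 za42) (ka xa17 ya3 za9) (ka xa11 ya11 za8) (ka xa17 ya3 za10) (ka xa12 ya58 za41) (ka xa17 ya15 za51) (ka xa7 ya43 za57) (ka xa17 ya3 za11) (ka xa17 ya3 za51) (ka xa10 ya5 za34) (ka xa12 ya58 za37) (ka xa12 ya32 za54) (ka xa12 ya13 za55)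 (ka xa12 ya14 za17) (ka xa12 ya19 za42) (ka xa6 ya44 za33) (ka xa12 ya28 za26) (ka xa11 ya51 za5) (ka xa12 ya28 za27) (ka xa14 ya11 za16) (ka xa11 ya8 za18) (ka xa18 ya23 za34) (ka xa17 ya59 za12) (ka xa15 ya46 za24) (ka xa17 ya52 za15) (ka xa21 ya20 za25) (ka xa6 ya20 za28) (ka xa11 ya58 za61) (ka xa21 ya20 za50) (ka xa21 ya20 za23) (ka xa6 ya20 za31) (ka xa17 ya5 za49) (ka xa21 ya20 za54) (ka xa21 ya20 za56) (ka xa12 ya18 za9) (ka xa21 ya20 za58) (ka xa6 ya20 za39) (ka xa9 ya28 za37) (ka xa10 ya53 za23) (ka xa10 ya53 za22) (ka xa21 ya16 za56) (ka xa21 ya21 za1) (ka xa10 ya53 za4) (ka xa6 ya20 za47) (ka xa14 ya13 za58) (ka xa9 ya24 za12) (ka xa12 ya13 za58) (ka xa12 ya13 za57) (ka xa16 ya0 za4) (ka xa12 ya45 za12) (ka xa14 ya36 za9) (ka xa6 ya20 za50) (ka xa9 ya28 za52) (ka xa17 ya18 za10) (ka xa12 ya0 za12) (ka xa6 ya20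 za56) (ka xa17 ya10 za20) (ka xa15 ya16 za28) (ka xa15 ya47 za22) (ka xa15 ya47 za19)) (@D3.rec (fun _ => Pt) (ka xa21 ya21 za10) (ka xa17 ya10 za13) (ka xa17 ya10 za14) (ka xa12 ya16 za30) (ka xa12 ya24 za57) (ka xa9 ya39 za3) (ka xa15 ya38 za59) (ka xa9 ya39 za0) (ka xa9 ya48 za55) (ka xa9 ya48 za56) (ka xa6 ya21 za9) (ka xa6 ya21 za14) (ka xa6 ya21 za15) (ka xa6 ya21 za16) (ka xa12 ya38 za38) (ka xa12 ya38 za37) (ka xa6 ya21 za7) (ka xa6 ya49 za4) (ka xa21 ya21 za13) (ka xa18 ya36 za16) (ka xa12 ya41 za31) (ka xa21 ya21 za14) (ka xa12 ya41 za28) (ka xa12 ya41 za29) (ka xa12 ya41 za30) (ka xa8 ya23 za23) (ka xa21 ya21 za37) (ka xa6 ya38 za50) (ka xa13 ya15 za59) (ka xa7 ya48 za54) (ka xa12 ya16 za3) (ka xa17 ya30 za45) (ka xa17 ya14 za23) (ka xa17 ya30 za44) (ka xa12 ya41 za51) (ka xa12 ya41 za52) (ka xa21 ya21 za52)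 (ka xa12 ya42 za7) (ka xa13 ya15 za56) (ka xa17 ya58 za48) (ka xa6 ya21 za19) (ka xa21 ya21 za57) (ka xa17 ya58 za47) (ka xa12 ya2 za47) (ka xa10 ya14 za30) (ka xa12 ya3 za18) (ka xa20 ya46 za29) (ka xa6 ya21 za28) (ka xa6 ya21 za32) (ka xa20 ya26 za14) (ka xa12 ya38 za56) (ka xa20 ya46 za30) (ka xa20 ya46 za31) (ka xa12 ya3 za13) (ka xa21 ya22 za0) (ka xa17 ya5 za10) (ka xa17 ya13 za50) (ka xa6 ya29 za48) (ka xa17 ya13 za49) (ka xa12 ya3 za10) (ka xa12 ya3 za15) (ka xa21 ya22 za21)) (@D3.rec (fun _ => Pt) (ka xa21 ya22 za2) (ka xa6 ya40 za22) (ka xa12 ya43 za30) (ka xa9 ya49 za37) (ka xa9 ya49 za40) (ka xa6 ya21 za38) (ka xa6 ya21 za39) (ka xa11 ya29 za3) (ka xa11 ya29 za2) (ka xa21 ya22 za28) (ka xa12 ya18 za10) (ka xa21 ya22 za31) (ka xa12 ya4 za41) (ka xa21 ya22 za36) (ka xa12 ya17 za60) (ka xa17 ya13 za54) (ka xa17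 ya13 za53) (ka xa6 ya21 za46) (ka xa21 ya22 za44) (ka xa20 ya42 za26) (ka xa11 ya50 za50) (ka xa11 ya59 za10) (ka xa11 ya46 za44) (ka xa9 ya38 za18) (ka xa20 ya22 za54) (ka xa6 ya21 za59) (ka xa6 ya21 za60) (ka xa6 ya22 za0) (ka xa17 ya13 za19) (ka xa9 ya50 za24) (ka xa11 ya28 za55) (ka xa6 ya21 za55) (ka xa17 ya13 za40) (ka xa6 ya22 za57) (ka xa17 ya13 za39) (ka xa6 ya29 za45) (ka xa12 ya4 za43) (ka xa21 ya22 za59) (ka xa9 ya35 za50) (ka xa17 ya38 za37) (ka xa8 ya23 za14) (ka xa6 ya42 za27) (ka xa21 ya22 za51) (ka xa20 ya51 za38) (ka xa11 ya28 za51) (ka xa9 ya49 za28) (ka xa6 ya22 za3) (ka xa8 ya0 za47) (ka xa18 ya25 za18) (ka xa17 ya13 za45) (ka xa17 ya13 za44) (ka xa6 ya22 za7) (ka xa21 ya23 za11) (ka xa21 ya23 za12) (ka xa17 ya58 za2) (ka xa6 ya22 za12) (ka xa21 ya23 za19) (ka xa14 ya29 za25) (ka xa6 ya22 za13) (ka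 xa21 ya23 za21) (ka xa12 ya17 za14) (ka xa21 ya23 za26)) (@D3.rec (fun _ => Pt) (ka xa20 ya4 za2) (ka xa12 ya26 za54) (ka xa12 ya50 za47) (ka xa6 ya22 za17) (ka xa21 ya23 za31) (ka xa17 ya13 za58) (ka xa6 ya22 za19) (ka xa21 ya23 za36) (ka xa21 ya23 za37) (ka xa12 ya15 za36) (ka xa12 ya17 za10) (ka xa13 ya0 za14) (ka xa6 ya22 za21) (ka xa21 ya23 za47) (ka xa21 ya23 za50) (ka xa15 ya57 za5) (ka xa17 ya33 za59) (ka xa17 ya42 za5) (ka xa21 ya23 za58) (ka xa17 ya42 za3) (ka xa6 ya22 za26) (ka xa17 ya42 za6) (ka xa15 ya48 za20) (ka xa21 ya23 za61) (ka xa15 ya47 za50) (ka xa21 ya24 za13) (ka xa11 ya31 za38) (ka xa19 ya10 za43) (ka xa11 ya47 za30) (ka xa12 ya56 za39) (ka xa8 ya37 za26) (ka xa17 ya14 za9) (ka xa21 ya24 za20) (ka xa6 ya22 za38) (ka xa21 ya24 za25) (ka xa12 ya13 za13) (ka xa12 ya13 za14) (ka xa6 ya28 za5) (ka xa12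 ya13 za16) (ka xa12 ya13 za28) (ka xa15 ya41 za38) (ka xa12 ya13 za27) (ka xa14 ya3 za20) (ka xa17 ya14 za15) (ka xa6 ya22 za37) (ka xa21 ya24 za37) (ka xa9 ya18 za58) (ka xa21 ya24 za22) (ka xa21 ya5 za42) (ka xa14 ya49 za55) (ka xa12 ya52 za50) (ka xa21 ya24 za49) (ka xa17 ya14 za25) (ka xa17 ya14 za26) (ka xa6 ya22 za42) (ka xa10 ya0 za6) (ka xa17 ya13 za24) (ka xa21 ya5 za48) (ka xa12 ya21 za18) (ka xa21 ya24 za61) (ka xa7 ya29 za48) (ka xa6 ya23 za49)) (@D3.rec (fun _ => Pt) (ka xa21 ya25 za4) (ka xa6 ya22 za55) (ka xa6 ya22 za56) (ka xa6 ya22 za58) (ka xa21 ya25 za8) (ka xa7 ya29 za35) (ka xa13 ya2 za7) (ka xa21 ya25 za12) (ka xa7 ya29 za61) (ka xa18 ya8 za3) (ka xa7 ya30 za7) (ka xa9 ya32 za41) (ka xa13 ya37 za14) (ka xa13 ya37 za13) (ka xa6 ya22 za53) (ka xa21 ya25 za23) (ka xa18 ya7 za12) (ka xa7 ya29 za50) (ka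 xa7 ya29 za51) (ka xa7 ya29 za29) (ka xa18 ya7 za54) (ka xa12 ya21 za49) (ka xa18 ya7 za34) (ka xa12 ya58 za54) (ka xa19 ya0 za43) (ka xa13 ya52 za23) (ka xa19 ya0 za44) (ka xa12 ya19 za61) (ka xa21 ya25 za42) (ka xa17 ya14 za12) (ka xa8 ya39 za53) (ka xa15 ya48 za43) (ka xa17 ya14 za11) (ka xa11 ya19 za54) (ka xa6 ya23 za0) (ka xa21 ya25 za50) (ka xa21 ya23 za7) (ka xa21 ya25 za51) (ka xa21 ya25 za52) (ka xa6 ya38 za31) (ka xa21 ya25 za59) (ka xa17 ya5 za6) (ka xa12 ya15 za16) (ka xa20 ya23 za15) (ka xa16 ya17 za43) (ka xa6 ya23 za14) (ka xa6 ya23 za15) (ka xa6 ya23 za17) (ka xa16 ya18 za11) (ka xa16 ya18 za5) (ka xa12 ya26 za40) (ka xa12 ya26 za39) (ka xa6 ya23 za12) (ka xa21 ya26 za2) (ka xa21 ya26 za3) (ka xa13 ya26 za28) (ka xa17 ya27 za21) (ka xa17 ya30 za16) (ka xa17 ya30 za32) (ka xa12 ya50 za20) (ka xa21 ya25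 za60) (ka xa12 ya19 za27)) (@D3.rec (fun _ => Pt) (ka xa12 ya14 za32) (ka xa21 ya20 za5) (ka xa17 ya28 za7) (ka xa12 ya26 za53) (ka xa6 ya23 za21) (ka xa21 ya26 za18) (ka xa21 ya26 za19) (ka xa21 ya26 za20) (ka xa21 ya26 za21) (ka xa21 ya17 za56) (ka xa6 ya23 za30) (ka xa12 ya5 za0) (ka xa6 ya23 za27) (ka xa11 ya59 za52) (ka xa17 ya35 za30) (ka xa14 ya36 za24) (ka xa13 ya0 za15) (ka xa8 ya22 za53) (ka xa10 ya21 za7) (ka xa8 ya22 za14) (ka xa9 ya19 za10) (ka xa9 ya19 za11) (ka xa9 ya38 za48) (ka xa9 ya38 za46) (ka xa6 ya23 za35) (ka xa9 ya33 za8) (ka xa6 ya23 za32) (ka xa17 ya55 za52) (ka xa21 ya10 za10) (ka xa20 ya42 za23) (ka xa16 ya0 za15) (ka xa9 ya19 za7) (ka xa9 ya19 za8) (ka xa9 ya32 za52) (ka xa18 ya15 za15) (ka xa12 ya58 za34) (ka xa6 ya23 za39) (ka xa21 ya26 za44) (ka xa6 ya28 za4) (ka xa6 ya26 za23) (ka xa21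 ya26 za49) (ka xa6 ya28 za1) (ka xa6 ya28 za2) (ka xa6 ya26 za22) (ka xa8 ya35 za60) (ka xa15 ya47 za48) (ka xa15 ya47 za49) (ka xa8 ya37 za7) (ka xa21 ya26 za60) (ka xa15 ya36 za56) (ka xa16 ya0 za17) (ka xa13 ya0 za25) (ka xa12 ya59 za52) (ka xa12 ya59 za61) (ka xa21 ya25 za2) (ka xa11 ya19 za31) (ka xa16 ya6 za45) (ka xa21 ya27 za3) (ka xa6 ya23 za57) (ka xa21 ya27 za8) (ka xa17 ya10 za22) (ka xa21 ya27 za11)) (@D3.rec (fun _ => Pt) (ka xa17 ya14 za44) (ka xa15 ya33 za28) (ka xa6 ya23 za56) (ka xa21 ya27 za13) (ka xa21 ya27 za14) (ka xa9 ya19 za16) (ka xa21 ya27 za5) (ka xa12 ya0 za19) (ka xa17 ya16 za28) (ka xa13 ya0 za23) (ka xa13 ya0 za24) (ka xa21 ya26 za29) (ka xa13 ya0 za10) (ka xa13 ya0 za11) (ka xa6 ya24 za0) (ka xa10 ya27 za22) (ka xa21 ya21 za9) (ka xa21 ya27 za41) (ka xa12 ya18 za58) (ka xa21 ya27 za45) (ka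 xa6 ya24 za8) (ka xa6 ya24 za10) (ka xa6 ya24 za11) (ka xa21 ya27 za51) (ka xa7 ya48 za51) (ka xa13 ya37 za41) (ka xa13 ya37 za40) (ka xa6 ya24 za6) (ka xa21 ya27 za57) (ka xa21 ya27 za58) (ka xa7 ya19 za20) (ka xa17 ya14 za22) (ka xa17 ya14 za21) (ka xa21 ya27 za47) (ka xa21 ya18 za13) (ka xa21 ya8 za29) (ka xa8 ya23 za51) (ka xa21 ya27 za48) (ka xa21 ya25 za17) (ka xa13 ya37 za51) (ka xa13 ya37 za52) (ka xa17 ya16 za25) (ka xa13 ya37 za48) (ka xa13 ya37 za49) (ka xa6 ya24 za15) (ka xa17 ya33 za26) (ka xa17 ya33 za25) (ka xa11 ya59 za45) (ka xa6 ya24 za17) (ka xa12 ya19 za21) (ka xa12 ya14 za53) (ka xa17 ya14 za52) (ka xa12 ya42 za49) (ka xa20 ya31 za36) (ka xa9 ya14 za53) (ka xa9 ya14 za54) (ka xa9 ya14 za56) (ka xa9 ya14 za57) (ka xa16 ya24 za16) (ka xa11 ya37 za35) (ka xa11 ya37 za36) (ka xa11 ya37 za38)) (@D3.rec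 (fun _ => Pt) (ka xa16 ya23 za50) (ka xa9 ya9 za53) (ka xa11 ya11 za10) (ka xa12 ya46 za39) (ka xa9 ya44 za44) (ka xa9 ya3 za5) (ka xa21 ya12 za20) (ka xa6 ya24 za40) (ka xa6 ya24 za41) (ka xa6 ya24 za42) (ka xa6 ya24 za44) (ka xa17 ya7 za22) (ka xa21 ya28 za51) (ka xa21 ya28 za52) (ka xa21 ya28 za53) (ka xa21 ya28 za54) (ka xa16 ya24 za53) (ka xa18 ya57 za3) (ka xa17 ya56 za44) (ka xa16 ya53 za12) (ka xa20 ya8 za53) (ka xa21 ya28 za55) (ka xa18 ya2 za11) (ka xa16 ya24 za49) (ka xa11 ya47 za16) (ka xa9 ya9 za44) (ka xa8 ya38 za19) (ka xa15 ya8 za10) (ka xa6 ya24 za47) (ka xa20 ya19 za35) (ka xa16 ya24 za59) (ka xa16 ya24 za60) (ka xa16 ya24 za61) (ka xa16 ya25 za0) (ka xa16 ya25 za1) (ka xa16 ya25 za2) (ka xa14 ya5 za14) (ka xa8 ya46 za51) (ka xa16 ya25 za7) (ka xa16 ya25 za5) (ka xa15 ya6 za6) (ka xa15 ya8 za38) (ka xa16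 ya25 za6) (ka xa15 ya8 za37) (ka xa14 ya5 za13) (ka xa16 ya24 za57) (ka xa16 ya24 za58) (ka xa16 ya25 za8) (ka xa16 ya25 za9) (ka xa16 ya25 za10) (ka xa16 ya25 za11) (ka xa13 ya38 za25) (ka xa14 ya1 za54) (ka xa16 ya23 za44) (ka xa16 ya23 za45) (ka xa16 ya23 za46) (ka xa11 ya26 za57) (ka xa8 ya1 za17) (ka xa8 ya1 za18) (ka xa8 ya1 za19) (ka xa8 ya1 za6) (ka xa8 ya1 za20)) (@D3.rec (fun _ => Pt) (ka xa7 ya2 za19) (ka xa13 ya57 za49) (ka xa13 ya57 za48) (ka xa13 ya38 za22) (ka xa11 ya45 za23) (ka xa13 ya57 za43) (ka xa16 ya25 za16) (ka xa16 ya25 za17) (ka xa16 ya25 za18) (ka xa8 ya49 za18) (ka xa11 ya36 za17) (ka xa9 ya49 za31) (ka xa11 ya37 za41) (ka xa17 ya12 za48) (ka xa17 ya12 za49) (ka xa16 ya36 za6) (ka xa10 ya6 za35) (ka xa11 ya38 za19) (ka xa11 ya38 za31) (ka xa11 ya38 za32) (ka xa11 ya38 za33) (ka xa11 ya38 za34)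 (ka xa9 ya15 za37) (ka xa9 ya15 za38) (ka xa8 ya11 za12) (ka xa12 ya43 za26) (ka xa9 ya11 za50) (ka xa10 ya6 za18) (ka xa11 ya38 za20) (ka xa11 ya38 za21) (ka xa11 ya38 za22) (ka xa9 ya17 za21) (ka xa6 ya45 za23) (ka xa11 ya14 za23) (ka xa11 ya14 za25) (ka xa21 ya30 za39) (ka xa10 ya38 za10) (ka xa17 ya4 za29) (ka xa7 ya20 za0) (ka xa6 ya25 za23) (ka xa17 ya5 za33) (ka xa9 ya3 za52) (ka xa17 ya9 za35) (ka xa6 ya38 za17) (ka xa11 ya1 za61) (ka xa7 ya59 za23) (ka xa9 ya9 za25) (ka xa11 ya29 za12) (ka xa11 ya29 za14) (ka xa14 ya6 za36) (ka xa11 ya29 za15) (ka xa11 ya29 za16) (ka xa11 ya29 za17) (ka xa11 ya29 za18) (ka xa12 ya1 za21) (ka xa12 ya3 za11) (ka xa16 ya18 za7) (ka xa12 ya24 za32) (ka xa12 ya24 za31) (ka xa6 ya25 za46) (ka xa8 ya36 za24) (ka xa6 ya25 za47)) (@D3.rec (fun _ => Pt) (ka xa9 ya24 za28) (ka xa6 ya25 za48)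 (ka xa11 ya27 za16) (ka xa18 ya23 za56) (ka xa17 ya0 za22) (ka xa9 ya50 za25) (ka xa17 ya6 za47) (ka xa6 ya25 za59) (ka xa6 ya25 za60) (ka xa20 ya24 za49) (ka xa18 ya16 za51) (ka xa6 ya44 za61) (ka xa6 ya49 za60) (ka xa21 ya30 za56) (ka xa12 ya25 za19) (ka xa6 ya26 za5) (ka xa9 ya29 za34) (ka xa21 ya30 za61) (ka xa21 ya31 za1) (ka xa21 ya31 za3) (ka xa17 ya3 za54) (ka xa17 ya3 za57) (ka xa6 ya26 za9) (ka xa21 ya31 za10) (ka xa12 ya13 za44) (ka xa21 ya31 za12) (ka xa9 ya39 za12) (ka xa17 ya16 za33) (ka xa17 ya16 za32) (ka xa6 ya26 za14) (ka xa21 ya31 za20) (ka xa12 ya23 za58) (ka xa12 ya23 za57) (ka xa6 ya26 za17) (ka xa21 ya31 za25) (ka xa17 ya13 za22) (ka xa6 ya26 za20) (ka xa13 ya37 za55) (ka xa6 ya26 za21) (ka xa21 ya31 za31) (ka xa21 ya31 za35) (ka xa12 ya59 za0) (ka xa10 ya10 za45) (ka xa10 ya5 za36) (ka xa21 ya31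 za40) (ka xa15 ya48 za45) (ka xa10 ya10 za44) (ka xa8 ya36 za19) (ka xa13 ya1 za25) (ka xa13 ya1 za29) (ka xa11 ya27 za11) (ka xa6 ya26 za28) (ka xa21 ya31 za43) (ka xa12 ya49 za19) (ka xa12 ya4 za18) (ka xa12 ya49 za20) (ka xa13 ya52 za22) (ka xa12 ya16 za4) (ka xa13 ya52 za24) (ka xa9 ya32 za48) (ka xa21 ya31 za56) (ka xa13 ya52 za26)) (@D3.rec (fun _ => Pt) (ka xa11 ya45 za25) (ka xa11 ya27 za8) (ka xa11 ya27 za9) (ka xa6 ya26 za35) (ka xa11 ya27 za14) (ka xa11 ya27 za13) (ka xa11 ya1 za13) (ka xa11 ya26 za25) (ka xa11 ya22 za12) (ka xa21 ya32 za1) (ka xa11 ya12 za18) (ka xa21 ya32 za5) (ka xa11 ya12 za17) (ka xa21 ya32 za9) (ka xa14 ya12 za17) (ka xa17 ya16 za8) (ka xa17 ya16 za7) (ka xa6 ya26 za41) (ka xa11 ya19 za52) (ka xa12 ya24 za14) (ka xa6 ya40 za37) (ka xa17 ya16 za1) (ka xa20 ya45 za1) (ka xa6 ya26 za49) (ka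 xa6 ya26 za52) (ka xa20 ya17 za12) (ka xa9 ya42 za60) (ka xa7 ya45 za38) (ka xa14 ya53 za5) (ka xa21 ya32 za24) (ka xa6 ya41 za26) (ka xa6 ya41 za25) (ka xa15 ya47 za20) (ka xa13 ya24 za24) (ka xa21 ya32 za26) (ka xa6 ya26 za57) (ka xa6 ya26 za58) (ka xa11 ya27 za5) (ka xa11 ya27 za4) (ka xa21 ya32 za37) (ka xa21 ya16 za18) (ka xa12 ya56 za46) (ka xa9 ya50 za34) (ka xa20 ya22 za14) (ka xa18 ya43 za35) (ka xa11 ya27 za19) (ka xa7 ya54 za57) (ka xa6 ya27 za0) (ka xa13 ya24 za27) (ka xa18 ya43 za46) (ka xa6 ya27 za4) (ka xa6 ya27 za5) (ka xa6 ya27 za6) (ka xa21 ya32 za50) (ka xa21 ya32 za47) (ka xa21 ya32 za48) (ka xa12 ya52 za52) (ka xa6 ya27 za7) (ka xa11 ya19 za3) (ka xa6 ya27 za10) (ka xa13 ya15 za17) (ka xa12 ya52 za49)) (@D3.rec (fun _ => Pt) (ka xa6 ya27 za12) (ka xa14 ya3 za27) (ka xa21 ya32 za58) (ka xa12 ya52 za57)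 (ka xa17 ya16 za13) (ka xa6 ya27 za15) (ka xa21 ya33 za1) (ka xa17 ya16 za11) (ka xa6 ya27 za17) (ka xa15 ya37 za7) (ka xa21 ya33 za7) (ka xa6 ya27 za24) (ka xa6 ya27 za20) (ka xa21 ya33 za13) (ka xa17 ya2 za11) (ka xa21 ya4 za7) (ka xa15 ya49 za15) (ka xa6 ya27 za21) (ka xa21 ya33 za24) (ka xa21 ya33 za21) (ka xa21 ya33 za23) (ka xa6 ya27 za23) (ka xa20 ya17 za38) (ka xa21 ya33 za31) (ka xa8 ya34 za27) (ka xa21 ya33 za10) (ka xa21 ya33 za37) (ka xa12 ya53 za49) (ka xa17 ya16 za24) (ka xa6 ya53 za53) (ka xa21 ya33 za39) (ka xa6 ya27 za40) (ka xa6 ya27 za42) (ka xa6 ya27 za43) (ka xa21 ya33 za44) (ka xa21 ya33 za47) (ka xa6 ya49 za57) (ka xa8 ya42 za10) (ka xa21 ya33 za52) (ka xa12 ya19 za51) (ka xa12 ya19 za50) (ka xa6 ya27 za38) (ka xa21 ya19 za58) (ka xa13 ya1 za14) (ka xa13 ya13 za52) (ka xa21 ya33 za41) (ka xa6 ya42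 za44) (ka xa12 ya50 za12) (ka xa9 ya36 za4) (ka xa16 ya0 za11) (ka xa8 ya41 za34) (ka xa8 ya41 za26) (ka xa16 ya0 za14) (ka xa12 ya20 za3) (ka xa12 ya18 za1) (ka xa6 ya27 za47) (ka xa18 ya43 za52) (ka xa21 ya23 za0) (ka xa21 ya22 za47) (ka xa21 ya34 za10) (ka xa12 ya13 za38) (ka xa21 ya34 za14)) (@D3.rec (fun _ => Pt) (ka xa21 ya34 za17) (ka xa12 ya12 za33) (ka xa21 ya34 za22) (ka xa12 ya13 za21) (ka xa8 ya35 za44) (ka xa8 ya35 za17) (ka xa8 ya23 za36) (ka xa12 ya0 za48) (ka xa6 ya36 za35) (ka xa15 ya45 za36) (ka xa12 ya13 za22) (ka xa12 ya13 za24) (ka xa12 ya13 za23) (ka xa6 ya27 za57) (ka xa21 ya34 za36) (ka xa21 ya19 za28) (ka xa12 ya48 za36) (ka xa12 ya13 za42) (ka xa21 ya34 za44) (ka xa13 ya0 za18) (ka xa6 ya28 za0) (ka xa12 ya0 za24) (ka xa21 ya34 za45) (ka xa21 ya24 za58) (ka xa21 ya26 za46) (ka xa21 ya34 za54)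 (ka xa21 ya26 za52) (ka xa12 ya28 za20) (ka xa13 ya37 za47) (ka xa6 ya28 za3) (ka xa21 ya34 za58) (ka xa12 ya59 za5) (ka xa21 ya26 za48) (ka xa21 ya24 za53) (ka xa7 ya33 za55) (ka xa6 ya28 za7) (ka xa20 ya9 za52) (ka xa12 ya12 za45) (ka xa18 ya50 za23) (ka xa12 ya39 za8) (ka xa11 ya29 za40) (ka xa9 ya23 za12) (ka xa16 ya59 za42) (ka xa7 ya2 za10) (ka xa9 ya23 za16) (ka xa16 ya59 za41) (ka xa21 ya35 za3) (ka xa6 ya29 za5) (ka xa7 ya31 za19) (ka xa6 ya29 za12) (ka xa21 ya4 za53) (ka xa6 ya38 za29) (ka xa6 ya38 za30) (ka xa6 ya38 za32) (ka xa17 ya5 za21) (ka xa6 ya38 za38) (ka xa12 ya14 za15) (ka xa18 ya25 za29) (ka xa20 ya37 za32) (ka xa12 ya13 za56) (ka xa6 ya28 za35) (ka xa6 ya28 za37)) (@D3.rec (fun _ => Pt) (ka xa14 ya12 za43) (ka xa21 ya20 za28) (ka xa6 ya28 za41) (ka xa6 ya35 za39) (ka xa20 ya37 za40) (ka xa21 ya35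 za7) (ka xa7 ya44 za36) (ka xa21 ya35 za8) (ka xa6 ya38 za39) (ka xa6 ya38 za41) (ka xa6 ya38 za42) (ka xa18 ya25 za31) (ka xa21 ya35 za13) (ka xa12 ya14 za3) (ka xa12 ya14 za6) (ka xa12 ya13 za32) (ka xa6 ya34 za14) (ka xa12 ya39 za34) (ka xa8 ya0 za14) (ka xa9 ya11 za28) (ka xa12 ya27 za27) (ka xa12 ya39 za33) (ka xa12 ya53 za21) (ka xa12 ya53 za37) (ka xa12 ya53 za38) (ka xa12 ya53 za39) (ka xa12 ya15 za18) (ka xa12 ya15 za20) (ka xa6 ya29 za3) (ka xa21 ya7 za41) (ka xa21 ya35 za18) (ka xa21 ya35 za19) (ka xa15 ya43 za11) (ka xa6 ya29 za8) (ka xa6 ya29 za9) (ka xa9 ya21 za24) (ka xa9 ya21 za25) (ka xa9 ya27 za7) (ka xa6 ya50 za49) (ka xa12 ya13 za59) (ka xa12 ya14 za8) (ka xa21 ya35 za25) (ka xa12 ya2 za28) (ka xa12 ya2 za29) (ka xa16 ya3 za49) (ka xa12 ya14 za55) (ka xa6 ya41 za0) (ka xa21 ya7 za55) (ka xa12 ya12 za35)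 (ka xa12 ya12 za34) (ka xa9 ya15 za6) (ka xa6 ya29 za26) (ka xa6 ya29 za27) (ka xa6 ya29 za29) (ka xa6 ya36 za26) (ka xa12 ya12 za52) (ka xa21 ya18 za44) (ka xa20 ya15 za8) (ka xa21 ya4 za2) (ka xa21 ya18 za45) (ka xa21 ya35 za46) (ka xa12 ya2 za51)) (@D3.rec (fun _ => Pt) (ka xa12 ya2 za52) (ka xa10 ya23 za5) (ka xa12 ya3 za6) (ka xa12 ya46 za14) (ka xa6 ya40 za50) (ka xa21 ya35 za52) (ka xa17 ya16 za40) (ka xa12 ya13 za52) (ka xa10 ya6 za39) (ka xa20 ya22 za27) (ka xa6 ya29 za41) (ka xa6 ya29 za42) (ka xa6 ya29 za43) (ka xa6 ya29 za44) (ka xa13 ya3 za21) (ka xa12 ya49 za47) (ka xa11 ya57 za31) (ka xa12 ya49 za48) (ka xa12 ya4 za19) (ka xa6 ya42 za26) (ka xa21 ya35 za57) (ka xa6 ya42 za24) (ka xa20 ya4 za7) (ka xa11 ya36 za13) (ka xa17 ya16 za36) (ka xa20 ya4 za6) (ka xa17 ya5 za3) (ka xa6 ya29 za59) (ka xa6 ya30 za1)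 (ka xa11 ya31 za55) (ka xa6 ya29 za54) (ka xa21 ya36 za9) (ka xa21 ya36 za10) (ka xa12 ya35 za37) (ka xa6 ya41 za9) (ka xa12 ya35 za44) (ka xa12 ya35 za45) (ka xa12 ya2 za57) (ka xa12 ya35 za46) (ka xa12 ya2 za56) (ka xa21 ya26 za41) (ka xa17 ya58 za28) (ka xa9 ya48 za33) (ka xa9 ya48 za39) (ka xa6 ya30 za4) (ka xa11 ya30 za39) (ka xa18 ya43 za48) (ka xa8 ya14 za39) (ka xa10 ya57 za22) (ka xa6 ya30 za6) (ka xa16 ya56 za50) (ka xa6 ya30 za16) (ka xa6 ya30 za18) (ka xa6 ya30 za19) (ka xa11 ya31 za50) (ka xa6 ya30 za10) (ka xa11 ya27 za46) (ka xa12 ya32 za2) (ka xa12 ya32 za3) (ka xa8 ya14 za52) (ka xa12 ya32 za5) (ka xa6 ya32 za10)) (@D3.rec (fun _ => Pt) (ka xa6 ya50 za53) (ka xa13 ya3 za20) (ka xa11 ya31 za46) (ka xa6 ya30 za22) (ka xa6 ya30 za23) (ka xa8 ya58 za8) (ka xa8 ya58 za7) (ka xa21 ya36 za39) (ka xa21 ya36 za40)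 (ka xa11 ya30 za46) (ka xa18 ya43 za38) (ka xa19 ya23 za13) (ka xa21 ya36 za47) (ka xa6 ya30 za33) (ka xa20 ya26 za4) (ka xa6 ya50 za15) (ka xa11 ya30 za61) (ka xa6 ya30 za40) (ka xa11 ya30 za56) (ka xa15 ya5 za16) (ka xa7 ya6 za60) (ka xa11 ya14 za48) (ka xa13 ya2 za3) (ka xa12 ya31 za10) (ka xa6 ya30 za51) (ka xa21 ya36 za50) (ka xa13 ya2 za10) (ka xa21 ya36 za51) (ka xa11 ya57 za59) (ka xa13 ya0 za55) (ka xa13 ya6 za29) (ka xa14 ya4 za30) (ka xa11 ya8 za36) (ka xa6 ya47 za38) (ka xa6 ya47 za41) (ka xa6 ya47 za46) (ka xa21 ya36 za61) (ka xa14 ya4 za32) (ka xa14 ya4 za33) (ka xa21 ya37 za4) (ka xa21 ya37 za7) (ka xa13 ya7 za4) (ka xa21 ya37 za11) (ka xa13 ya7 za7) (ka xa9 ya36 za0) (ka xa6 ya31 za3) (ka xa18 ya4 za30) (ka xa13 ya52 za28) (ka xa13 ya52 za30) (ka xa14 ya4 za38) (ka xa14 ya11 za26) (ka xa9 ya18 za2) (ka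 xa9 ya13 za42) (ka xa14 ya4 za25) (ka xa17 ya18 za11) (ka xa9 ya48 za5) (ka xa18 ya26 za21) (ka xa8 ya12 za48) (ka xa17 ya18 za8) (ka xa17 ya18 za7) (ka xa20 ya28 za0) (ka xa20 ya28 za27)) (@D3.rec (fun _ => Pt) (ka xa6 ya32 za11) (ka xa6 ya32 za12) (ka xa21 ya37 za25) (ka xa6 ya32 za17) (ka xa6 ya32 za25) (ka xa11 ya36 za0) (ka xa8 ya49 za61) (ka xa20 ya40 za32) (ka xa20 ya40 za33) (ka xa18 ya21 za6) (ka xa12 ya30 za23) (ka xa13 ya56 za32) (ka xa14 ya4 za49) (ka xa18 ya42 za13) (ka xa14 ya4 za51) (ka xa19 ya53 za19) (ka xa11 ya42 za51) (ka xa9 ya10 za22) (ka xa14 ya4 za47) (ka xa8 ya12 za49) (ka xa12 ya12 za0) (ka xa12 ya12 za2) (ka xa17 ya43 za23) (ka xa14 ya4 za45) (ka xa14 ya4 za46) (ka xa12 ya1 za8) (ka xa14 ya1 za40) (ka xa20 ya28 za6) (ka xa14 ya4 za52) (ka xa14 ya4 za53) (ka xa6 ya31 za48) (ka xa6 ya31 za49) (ka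 xa12 ya49 za12) (ka xa12 ya10 za23) (ka xa21 ya37 za36) (ka xa21 ya9 za47) (ka xa18 ya26 za15) (ka xa18 ya24 za31) (ka xa12 ya49 za31) (ka xa18 ya26 za22) (ka xa13 ya50 za30) (ka xa17 ya7 za51) (ka xa9 ya50 za23) (ka xa9 ya50 za21) (ka xa6 ya31 za60) (ka xa11 ya30 za28) (ka xa21 ya37 za45) (ka xa9 ya0 za24) (ka xa8 ya57 za29) (ka xa21 ya37 za51) (ka xa14 ya2 za12) (ka xa14 ya8 za4) (ka xa9 ya46 za19) (ka xa21 ya13 za14) (ka xa14 ya2 za13) (ka xa14 ya8 za6) (ka xa14 ya8 za7) (ka xa14 ya8 za8) (ka xa14 ya8 za9) (ka xa14 ya8 za10) (ka xa21 ya20 za4) (ka xa6 ya32 za5)) (@D3.rec (fun _ => Pt) (ka xa20 ya25 za34) (ka xa18 ya24 za56) (ka xa12 ya29 za57) (ka xa12 ya29 za58) (ka xa9 ya29 za23) (ka xa12 ya29 za60) (ka xa19 ya39 za23) (ka xa20 ya20 za25) (ka xa21 ya36 za37) (ka xa21 ya36 za35) (ka xa16 ya25 za3) (ka xa21 ya38 za10)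 (ka xa12 ya32 za13) (ka xa12 ya32 za12) (ka xa21 ya7 za42) (ka xa6 ya32 za16) (ka xa21 ya38 za13) (ka xa21 ya38 za14) (ka xa9 ya51 za4) (ka xa8 ya46 za30) (ka xa21 ya37 za26) (ka xa18 ya39 za34) (ka xa18 ya24 za11) (ka xa11 ya21 za52) (ka xa6 ya49 za50) (ka xa9 ya29 za33) (ka xa20 ya19 za32) (ka xa6 ya32 za24) (ka xa18 ya22 za40) (ka xa10 ya59 za0) (ka xa12 ya50 za4) (ka xa20 ya19 za42) (ka xa7 ya31 za16) (ka xa9 ya27 za10) (ka xa17 ya17 za40) (ka xa17 ya17 za46) (ka xa17 ya17 za47) (ka xa12 ya11 za26) (ka xa17 ya17 za6) (ka xa9 ya25 za42) (ka xa17 ya12 za42) (ka xa9 ya27 za11) (ka xa7 ya43 za20) (ka xa12 ya57 za37) (ka xa12 ya11 za36) (ka xa9 ya30 za61) (ka xa6 ya32 za35) (ka xa9 ya32 za42) (ka xa21 ya7 za16) (ka xa21 ya7 za17) (ka xa12 ya46 za50) (ka xa12 ya43 za35) (ka xa12 ya40 za15) (ka xa12 ya35 za17) (ka xa12 ya15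 za13) (ka xa12 ya45 za18) (ka xa14 ya28 za51) (ka xa13 ya19 za14) (ka xa9 ya16 za52) (ka xa17 ya16 za61) (ka xa7 ya32 za46) (ka xa14 ya32 za55)) (@D3.rec (fun _ => Pt) (ka xa9 ya17 za56) (ka xa14 ya32 za56) (ka xa21 ya7 za24) (ka xa6 ya37 za59) (ka xa6 ya38 za0) (ka xa21 ya39 za3) (ka xa21 ya5 za60) (ka xa9 ya30 za10) (ka xa14 ya32 za9) (ka xa6 ya51 za53) (ka xa14 ya32 za57) (ka xa14 ya32 za59) (ka xa13 ya4 za61) (ka xa13 ya5 za0) (ka xa6 ya47 za51) (ka xa17 ya16 za50) (ka xa17 ya16 za51) (ka xa21 ya39 za19) (ka xa21 ya39 za22) (ka xa21 ya39 za25) (ka xa6 ya48 za30) (ka xa6 ya48 za33) (ka xa21 ya39 za28) (ka xa17 ya16 za54) (ka xa12 ya11 za38) (ka xa21 ya39 za35) (ka xa15 ya46 za57) (ka xa21 ya4 za57) (ka xa21 ya4 za56) (ka xa6 ya33 za5) (ka xa21 ya39 za44) (ka xa17 ya16 za56) (ka xa17 ya16 za57) (ka xa14 ya29 za49) (ka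 xa17 ya17 za1) (ka xa14 ya29 za48) (ka xa17 ya17 za0) (ka xa13 ya5 za25) (ka xa6 ya33 za35) (ka xa6 ya33 za36) (ka xa13 ya0 za52) (ka xa7 ya35 za53) (ka xa6 ya33 za11) (ka xa19 ya53 za18) (ka xa16 ya46 za52) (ka xa7 ya41 za13) (ka xa17 ya17 za15) (ka xa17 ya11 za48) (ka xa8 ya12 za45) (ka xa12 ya11 za58) (ka xa12 ya11 za59) (ka xa8 ya31 za22) (ka xa21 ya40 za3) (ka xa13 ya9 za60) (ka xa17 ya17 za50) (ka xa7 ya42 za7) (ka xa13 ya9 za57) (ka xa13 ya9 za61) (ka xa13 ya10 za0) (ka xa13 ya10 za1) (ka xa7 ya37 za26) (ka xa7 ya37 za27)) (@D3.rec (fun _ => Pt) (ka xa7 ya37 za28) (ka xa17 ya17 za8) (ka xa14 ya17 za44) (ka xa14 ya17 za45) (ka xa14 ya17 za47) (ka xa17 ya17 za18) (ka xa7 ya0 za26) (ka xa7 ya0 za8) (ka xa7 ya3 za11) (ka xa7 ya3 za22) (ka xa7 ya3 za23) (ka xa11 ya55 za59) (ka xa16 ya48 za45) (ka xa12 ya49 za8) (ka xa6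 ya35 za47) (ka xa6 ya35 za49) (ka xa12 ya36 za3) (ka xa6 ya35 za43) (ka xa6 ya35 za45) (ka xa17 ya4 za14) (ka xa17 ya4 za15) (ka xa17 ya4 za16) (ka xa17 ya4 za17) (ka xa6 ya40 za40) (ka xa6 ya40 za35) (ka xa20 ya51 za35) (ka xa6 ya41 za15) (ka xa6 ya41 za19) (ka xa6 ya41 za20) (ka xa6 ya41 za21) (ka xa21 ya40 za52) (ka xa6 ya41 za28) (ka xa6 ya41 za13) (ka xa21 ya5 za56) (ka xa21 ya5 za55) (ka xa6 ya33 za51) (ka xa21 ya40 za58) (ka xa6 ya41 za50) (ka xa17 ya16 za58) (ka xa18 ya50 za29) (ka xa18 ya22 za38) (ka xa6 ya33 za58) (ka xa6 ya34 za27) (ka xa6 ya34 za26) (ka xa21 ya18 za37) (ka xa21 ya18 za38) (ka xa21 ya7 za13) (ka xa21 ya18 za39) (ka xa12 ya35 za54) (ka xa7 ya1 za16) (ka xa7 ya1 za17) (ka xa7 ya30 za43) (ka xa7 ya1 za14) (ka xa6 ya34 za8) (ka xa13 ya44 za60) (ka xa13 ya44 za59) (ka xa21 ya41 za17) (ka xa7 ya1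 za47) (ka xa7 ya3 za46) (ka xa14 ya11 za30) (ka xa6 ya34 za15) (ka xa12 ya39 za6)) (@D3.rec (fun _ => Pt) (ka xa17 ya58 za0) (ka xa20 ya37 za57) (ka xa10 ya27 za26) (ka xa9 ya58 za39) (ka xa12 ya39 za35) (ka xa12 ya39 za37) (ka xa12 ya39 za38) (ka xa6 ya34 za19) (ka xa17 ya9 za42) (ka xa7 ya2 za14) (ka xa12 ya38 za54) (ka xa9 ya22 za12) (ka xa10 ya27 za38) (ka xa21 ya7 za34) (ka xa21 ya41 za6) (ka xa21 ya20 za46) (ka xa21 ya7 za33) (ka xa12 ya32 za53) (ka xa17 ya52 za7) (ka xa12 ya58 za43) (ka xa17 ya59 za34) (ka xa21 ya20 za40) (ka xa14 ya11 za19) (ka xa7 ya44 za44) (ka xa7 ya45 za20) (ka xa7 ya45 za24) (ka xa14 ya11 za36) (ka xa14 ya11 za37) (ka xa14 ya16 za42) (ka xa10 ya5 za49) (ka xa17 ya15 za50) (ka xa14 ya16 za54) (ka xa14 ya16 za55) (ka xa17 ya41 za57) (ka xa21 ya7 za9) (ka xa9 ya53 za28) (ka xa21 ya7 za10) (ka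 xa12 ya29 za33) (ka xa14 ya12 za21) (ka xa8 ya37 za20) (ka xa12 ya41 za36) (ka xa14 ya12 za18) (ka xa6 ya34 za38) (ka xa21 ya42 za4) (ka xa12 ya29 za35) (ka xa12 ya29 za36) (ka xa12 ya29 za38) (ka xa20 ya42 za24) (ka xa14 ya12 za12) (ka xa21 ya7 za11) (ka xa14 ya12 za13) (ka xa21 ya7 za12) (ka xa21 ya4 za52) (ka xa21 ya42 za15) (ka xa12 ya34 za48) (ka xa14 ya23 za29) (ka xa6 ya34 za44) (ka xa21 ya33 za18) (ka xa21 ya42 za19) (ka xa17 ya17 za48) (ka xa17 ya17 za49) (ka xa12 ya41 za59)) (@D3.rec (fun _ => Pt) (ka xa21 ya42 za29) (ka xa6 ya34 za53) (ka xa18 ya38 za1) (ka xa12 ya34 za16) (ka xa10 ya7 za8) (ka xa7 ya1 za32) (ka xa7 ya15 za17) (ka xa20 ya46 za32) (ka xa12 ya41 za1) (ka xa14 ya14 za20) (ka xa20 ya51 za23) (ka xa20 ya51 za24) (ka xa6 ya37 za37) (ka xa20 ya51 za25) (ka xa14 ya11 za32) (ka xa17 ya8 za6) (ka xa21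 ya8 za12) (ka xa11 ya18 za57) (ka xa21 ya8 za21) (ka xa14 ya4 za48) (ka xa20 ya35 za51) (ka xa14 ya14 za6) (ka xa14 ya14 za7) (ka xa14 ya14 za19) (ka xa21 ya6 za60) (ka xa21 ya6 za61) (ka xa20 ya52 za14) (ka xa6 ya37 za26) (ka xa6 ya37 za25) (ka xa6 ya35 za11) (ka xa21 ya42 za44) (ka xa6 ya37 za36) (ka xa6 ya35 za16) (ka xa11 ya38 za41) (ka xa17 ya5 za8) (ka xa21 ya22 za6) (ka xa20 ya15 za34) (ka xa21 ya42 za47) (ka xa6 ya36 za58) (ka xa6 ya36 za59) (ka xa17 ya5 za2) (ka xa6 ya36 za61) (ka xa6 ya37 za2) (ka xa6 ya37 za3) (ka xa6 ya37 za5) (ka xa6 ya37 za6) (ka xa17 ya5 za15) (ka xa6 ya37 za13) (ka xa6 ya37 za14) (ka xa6 ya37 za17) (ka xa6 ya37 za18) (ka xa6 ya37 za21) (ka xa6 ya36 za23) (ka xa6 ya36 za22) (ka xa20 ya51 za29) (ka xa18 ya14 za6) (ka xa20 ya51 za30) (ka xa20 ya51 za31) (ka xa6 ya37 za49) (ka xa6 ya37 za50)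 (ka xa17 ya59 za18) (ka xa6 ya37 za53)) (@D3.rec (fun _ => Pt) (ka xa6 ya37 za55) (ka xa6 ya37 za56) (ka xa6 ya37 za57) (ka xa6 ya37 za58) (ka xa6 ya38 za5) (ka xa6 ya38 za8) (ka xa6 ya38 za9) (ka xa13 ya54 za24) (ka xa6 ya38 za11) (ka xa6 ya38 za12) (ka xa6 ya38 za33) (ka xa6 ya38 za34) (ka xa6 ya38 za35) (ka xa6 ya38 za18) (ka xa6 ya38 za20) (ka xa6 ya38 za14) (ka xa6 ya38 za16) (ka xa17 ya22 za59) (ka xa18 ya16 za1) (ka xa21 ya35 za9) (ka xa6 ya38 za43) (ka xa6 ya38 za44) (ka xa6 ya38 za45) (ka xa6 ya38 za46) (ka xa6 ya38 za47) (ka xa6 ya38 za48) (ka xa6 ya38 za49) (ka xa18 ya25 za39) (ka xa20 ya30 za50) (ka xa21 ya40 za32) (ka xa6 ya37 za7) (ka xa21 ya40 za33) (ka xa21 ya40 za34) (ka xa6 ya37 za28) (ka xa6 ya35 za46) (ka xa21 ya43 za60) (ka xa20 ya30 za49) (ka xa21 ya40 za30) (ka xa11 ya49 za27) (ka xa6 ya38 za1) (ka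 xa18 ya13 za38) (ka xa21 ya38 za58) (ka xa6 ya35 za54) (ka xa6 ya35 za55) (ka xa6 ya35 za56) (ka xa6 ya35 za57) (ka xa6 ya35 za58) (ka xa20 ya27 za32) (ka xa7 ya44 za25) (ka xa7 ya44 za23) (ka xa21 ya44 za7) (ka xa11 ya36 za29) (ka xa17 ya9 za24) (ka xa21 ya44 za8) (ka xa21 ya28 za58) (ka xa10 ya13 za34) (ka xa18 ya24 za6) (ka xa21 ya2 za54) (ka xa21 ya44 za9) (ka xa21 ya44 za10) (ka xa15 ya25 za2) (ka xa20 ya36 za6)) (@D3.rec (fun _ => Pt) (ka xa6 ya39 za52) (ka xa6 ya39 za53) (ka xa6 ya39 za54) (ka xa6 ya39 za55) (ka xa6 ya39 za56) (ka xa6 ya39 za57) (ka xa6 ya39 za58) (ka xa6 ya39 za59) (ka xa6 ya40 za8) (ka xa6 ya40 za9) (ka xa6 ya40 za10) (ka xa6 ya40 za2) (ka xa6 ya36 za2) (ka xa21 ya44 za43) (ka xa17 ya34 za54) (ka xa6 ya40 za19) (ka xa6 ya40 za21) (ka xa21 ya9 za31) (ka xa6 ya40 za24) (ka xa6 ya40 za25) (ka xa12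 ya12 za28) (ka xa6 ya40 za29) (ka xa6 ya40 za30) (ka xa6 ya40 za34) (ka xa18 ya42 za54) (ka xa6 ya40 za46) (ka xa6 ya41 za2) (ka xa6 ya36 za10) (ka xa20 ya47 za25) (ka xa6 ya40 za51) (ka xa6 ya40 za52) (ka xa18 ya29 za36) (ka xa6 ya40 za47) (ka xa6 ya36 za13) (ka xa19 ya48 za46) (ka xa12 ya58 za47) (ka xa6 ya41 za6) (ka xa12 ya16 za15) (ka xa12 ya16 za14) (ka xa6 ya36 za16) (ka xa21 ya22 za4) (ka xa6 ya36 za28) (ka xa18 ya0 za13) (ka xa9 ya55 za50) (ka xa6 ya36 za25) (ka xa21 ya45 za0) (ka xa19 ya53 za25) (ka xa18 ya57 za53) (ka xa21 ya35 za34) (ka xa21 ya35 za35) (ka xa20 ya22 za8) (ka xa21 ya35 za36) (ka xa18 ya0 za10) (ka xa9 ya18 za36) (ka xa12 ya35 za10) (ka xa14 ya52 za31) (ka xa12 ya16 za50) (ka xa14 ya33 za18) (ka xa12 ya42 za37) (ka xa17 ya30 za51) (ka xa17 ya29 za1) (ka xa16 ya5 za1)) (@D3.rec (fun _ => Pt) (ka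 xa12 ya3 za8) (ka xa7 ya31 za35) (ka xa21 ya45 za21) (ka xa21 ya34 za27) (ka xa8 ya34 za25) (ka xa11 ya43 za40) (ka xa12 ya34 za61) (ka xa7 ya43 za56) (ka xa12 ya27 za39) (ka xa14 ya11 za27) (ka xa14 ya11 za20) (ka xa6 ya36 za42) (ka xa6 ya45 za1) (ka xa13 ya58 za47) (ka xa12 ya46 za32) (ka xa9 ya23 za58) (ka xa17 ya13 za16) (ka xa17 ya7 za23) (ka xa6 ya36 za48) (ka xa6 ya36 za49) (ka xa6 ya36 za50) (ka xa6 ya36 za51) (ka xa11 ya38 za42) (ka xa11 ya38 za43) (ka xa21 ya45 za32) (ka xa21 ya3 za21) (ka xa21 ya45 za33) (ka xa12 ya12 za10) (ka xa17 ya29 za30) (ka xa21 ya45 za34) (ka xa21 ya33 za9) (ka xa6 ya36 za52) (ka xa20 ya15 za57) (ka xa12 ya28 za21) (ka xa12 ya28 za17) (ka xa12 ya35 za4) (ka xa11 ya38 za50) (ka xa12 ya35 za5) (ka xa12 ya35 za6) (ka xa10 ya6 za6) (ka xa14 ya26 za45) (ka xa14 ya26 za46) (ka xa14 ya26 za59)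 (ka xa14 ya26 za60) (ka xa21 ya31 za37) (ka xa21 ya42 za51) (ka xa21 ya34 za49) (ka xa6 ya36 za60) (ka xa21 ya26 za40) (ka xa21 ya42 za52) (ka xa9 ya19 za6) (ka xa17 ya5 za4) (ka xa6 ya37 za0) (ka xa21 ya46 za4) (ka xa21 ya10 za5) (ka xa21 ya42 za53) (ka xa21 ya42 za54) (ka xa21 ya33 za27) (ka xa12 ya42 za51) (ka xa21 ya33 za17) (ka xa21 ya33 za30) (ka xa12 ya12 za61)) (@D3.rec (fun _ => Pt) (ka xa12 ya12 za57) (ka xa21 ya42 za55) (ka xa21 ya42 za56) (ka xa15 ya54 za61) (ka xa21 ya42 za57) (ka xa21 ya42 za58) (ka xa21 ya42 za59) (ka xa17 ya45 za4) (ka xa21 ya43 za55) (ka xa12 ya4 za51) (ka xa15 ya59 za61) (ka xa17 ya29 za21) (ka xa12 ya13 za4) (ka xa12 ya13 za6) (ka xa17 ya29 za23) (ka xa12 ya32 za52) (ka xa21 ya42 za61) (ka xa12 ya58 za31) (ka xa21 ya46 za42) (ka xa21 ya43 za0) (ka xa12 ya40 za22) (ka xa17 ya29 za31)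 (ka xa12 ya40 za20) (ka xa21 ya46 za46) (ka xa21 ya43 za2) (ka xa21 ya46 za52) (ka xa12 ya13 za11) (ka xa14 ya56 za2) (ka xa21 ya46 za56) (ka xa6 ya37 za20) (ka xa21 ya46 za57) (ka xa15 ya44 za30) (ka xa21 ya43 za3) (ka xa21 ya43 za4) (ka xa21 ya43 za5) (ka xa21 ya43 za6) (ka xa15 ya44 za53) (ka xa6 ya37 za23) (ka xa21 ya47 za5) (ka xa6 ya37 za32) (ka xa21 ya25 za57) (ka xa7 ya44 za21) (ka xa21 ya42 za43) (ka xa6 ya37 za29) (ka xa21 ya43 za59) (ka xa17 ya5 za44) (ka xa11 ya50 za1) (ka xa21 ya47 za7) (ka xa21 ya47 za8) (ka xa18 ya15 za35) (ka xa9 ya20 za8) (ka xa12 ya14 za35) (ka xa7 ya43 za55) (ka xa17 ya4 za45) (ka xa18 ya46 za47) (ka xa6 ya41 za18) (ka xa21 ya42 za32) (ka xa21 ya40 za47) (ka xa6 ya37 za42) (ka xa6 ya37 za43) (ka xa6 ya37 za44) (ka xa6 ya37 za45)) (@D3.rec (fun _ => Pt) (ka xa6 ya37 za46) (ka xa12 ya36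 za8) (ka xa18 ya0 za8) (ka xa18 ya38 za3) (ka xa21 ya47 za18) (ka xa21 ya47 za19) (ka xa17 ya4 za48) (ka xa17 ya7 za24) (ka xa20 ya49 za11) (ka xa21 ya41 za47) (ka xa21 ya47 za20) (ka xa12 ya47 za41) (ka xa13 ya46 za7) (ka xa21 ya47 za21) (ka xa21 ya47 za22) (ka xa21 ya47 za23) (ka xa16 ya42 za16) (ka xa14 ya23 za54) (ka xa14 ya23 za55) (ka xa21 ya47 za48) (ka xa14 ya24 za6) (ka xa14 ya24 za7) (ka xa21 ya43 za11) (ka xa21 ya42 za40) (ka xa21 ya43 za12) (ka xa21 ya43 za13) (ka xa17 ya59 za16) (ka xa17 ya59 za17) (ka xa12 ya16 za22) (ka xa12 ya16 za23) (ka xa12 ya16 za24) (ka xa12 ya16 za20) (ka xa21 ya43 za15) (ka xa21 ya43 za16) (ka xa20 ya54 za5) (ka xa12 ya43 za16) (ka xa12 ya35 za40) (ka xa21 ya43 za17) (ka xa18 ya0 za52) (ka xa12 ya43 za17) (ka xa16 ya9 za9) (ka xa21 ya43 za18) (ka xa21 ya43 za19) (ka xa21 ya48 za41)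 (ka xa21 ya43 za21) (ka xa21 ya43 za22) (ka xa21 ya43 za23) (ka xa17 ya30 za41) (ka xa17 ya30 za40) (ka xa20 ya2 za51) (ka xa21 ya38 za60) (ka xa12 ya16 za34) (ka xa12 ya16 za35) (ka xa14 ya56 za14) (ka xa21 ya39 za1) (ka xa21 ya44 za5) (ka xa21 ya46 za43) (ka xa17 ya30 za46) (ka xa21 ya43 za25) (ka xa12 ya35 za61) (ka xa21 ya49 za3) (ka xa17 ya30 za50)) (@D3.rec (fun _ => Pt) (ka xa21 ya49 za8) (ka xa21 ya43 za27) (ka xa21 ya49 za13) (ka xa21 ya43 za29) (ka xa8 ya21 za32) (ka xa6 ya38 za10) (ka xa21 ya49 za18) (ka xa12 ya16 za37) (ka xa21 ya43 za30) (ka xa21 ya43 za31) (ka xa21 ya43 za32) (ka xa21 ya43 za33) (ka xa17 ya5 za34) (ka xa11 ya44 za7) (ka xa12 ya14 za44) (ka xa6 ya40 za36) (ka xa21 ya43 za38) (ka xa17 ya22 za60) (ka xa11 ya36 za25) (ka xa21 ya43 za36) (ka xa21 ya43 za37) (ka xa6 ya38 za25) (ka xa6 ya38 za26)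 (ka xa6 ya38 za28) (ka xa14 ya28 za56) (ka xa9 ya22 za3) (ka xa9 ya22 za4) (ka xa12 ya14 za9) (ka xa12 ya14 za11) (ka xa12 ya14 za12) (ka xa17 ya5 za37) (ka xa21 ya49 za38) (ka xa11 ya59 za61) (ka xa18 ya16 za2) (ka xa20 ya51 za58) (ka xa21 ya49 za39) (ka xa14 ya12 za10) (ka xa12 ya38 za58) (ka xa21 ya17 za48) (ka xa21 ya17 za49) (ka xa21 ya17 za47) (ka xa12 ya4 za44) (ka xa18 ya24 za45) (ka xa15 ya49 za12) (ka xa21 ya35 za4) (ka xa15 ya47 za44) (ka xa21 ya20 za35) (ka xa21 ya5 za41) (ka xa21 ya25 za58) (ka xa12 ya21 za52) (ka xa21 ya43 za56) (ka xa12 ya39 za58) (ka xa21 ya50 za6) (ka xa21 ya43 za35) (ka xa21 ya17 za45) (ka xa12 ya4 za40) (ka xa11 ya43 za54) (ka xa9 ya49 za16) (ka xa6 ya40 za38) (ka xa18 ya38 za21) (ka xa18 ya15 za34) (ka xa20 ya40 za27)) (@D3.rec (fun _ => Pt) (ka xa21 ya35 za12) (ka xa9 ya50 za18) (ka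 xa17 ya52 za57) (ka xa11 ya51 za1) (ka xa11 ya50 za61) (ka xa17 ya50 za27) (ka xa17 ya50 za31) (ka xa21 ya21 za4) (ka xa21 ya35 za30) (ka xa21 ya43 za44) (ka xa21 ya43 za45) (ka xa21 ya43 za46) (ka xa21 ya43 za47) (ka xa17 ya5 za29) (ka xa21 ya44 za6) (ka xa21 ya43 za49) (ka xa12 ya41 za35) (ka xa12 ya41 za39) (ka xa21 ya50 za35) (ka xa21 ya43 za51) (ka xa21 ya21 za39) (ka xa21 ya21 za40) (ka xa17 ya5 za19) (ka xa17 ya5 za20) (ka xa6 ya38 za54) (ka xa11 ya40 za34) (ka xa12 ya23 za25) (ka xa13 ya1 za9) (ka xa21 ya23 za16) (ka xa12 ya53 za26) (ka xa12 ya17 za2) (ka xa11 ya29 za21) (ka xa15 ya49 za14) (ka xa17 ya5 za41) (ka xa17 ya5 za42) (ka xa12 ya32 za51) (ka xa15 ya49 za33) (ka xa10 ya37 za45) (ka xa15 ya49 za32) (ka xa17 ya5 za35) (ka xa20 ya37 za38) (ka xa20 ya37 za39) (ka xa9 ya50 za19) (ka xa17 ya5 za26) (ka xa17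 ya5 za27) (ka xa17 ya5 za28) (ka xa17 ya4 za57) (ka xa12 ya47 za18) (ka xa17 ya5 za30) (ka xa17 ya5 za31) (ka xa17 ya5 za32) (ka xa6 ya39 za18) (ka xa6 ya39 za19) (ka xa6 ya39 za20) (ka xa6 ya39 za21) (ka xa18 ya16 za19) (ka xa6 ya39 za24) (ka xa6 ya39 za25) (ka xa18 ya16 za43) (ka xa6 ya39 za27) (ka xa6 ya39 za28) (ka xa6 ya39 za29)) (@D3.rec (fun _ => Pt) (ka xa6 ya39 za30) (ka xa6 ya39 za31) (ka xa6 ya39 za32) (ka xa6 ya39 za33) (ka xa9 ya49 za7) (ka xa11 ya36 za38) (ka xa11 ya28 za44) (ka xa11 ya28 za45) (ka xa11 ya57 za35) (ka xa17 ya5 za45) (ka xa17 ya5 za46) (ka xa17 ya5 za47) (ka xa7 ya36 za16) (ka xa11 ya46 za21) (ka xa16 ya30 za41) (ka xa16 ya30 za43) (ka xa16 ya30 za44) (ka xa19 ya53 za8) (ka xa21 ya51 za2) (ka xa9 ya13 za1) (ka xa16 ya30 za29) (ka xa21 ya51 za3) (ka xa18 ya23 za61) (ka xa21 ya51 za4) (ka xa21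 ya51 za5) (ka xa14 ya12 za38) (ka xa21 ya51 za6) (ka xa18 ya16 za41) (ka xa18 ya16 za42) (ka xa6 ya47 za17) (ka xa18 ya1 za38) (ka xa21 ya44 za40) (ka xa21 ya51 za8) (ka xa21 ya51 za9) (ka xa21 ya51 za10) (ka xa17 ya9 za31) (ka xa6 ya39 za26) (ka xa21 ya51 za50) (ka xa19 ya32 za17) (ka xa21 ya51 za51) (ka xa10 ya43 za20) (ka xa21 ya51 za11) (ka xa21 ya30 za35) (ka xa11 ya16 za55) (ka xa21 ya50 za47) (ka xa21 ya51 za12) (ka xa18 ya16 za53) (ka xa20 ya16 za43) (ka xa21 ya51 za13) (ka xa18 ya50 za38) (ka xa21 ya51 za14) (ka xa16 ya54 za15) (ka xa21 ya51 za15) (ka xa17 ya9 za57) (ka xa20 ya15 za39) (ka xa21 ya1 za34) (ka xa20 ya58 za15) (ka xa17 ya21 za1) (ka xa21 ya1 za24) (ka xa21 ya51 za17) (ka xa20 ya14 za30) (ka xa12 ya14 za40)) (@D3.rec (fun _ => Pt) (ka xa12 ya14 za45) (ka xa12 ya14 za46) (ka xa12 ya14 za47) (ka xa20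 ya2 za1) (ka xa12 ya59 za2) (ka xa21 ya7 za27) (ka xa21 ya7 za28) (ka xa21 ya7 za29) (ka xa21 ya7 za30) (ka xa16 ya18 za23) (ka xa21 ya7 za31) (ka xa21 ya7 za19) (ka xa12 ya15 za51) (ka xa11 ya36 za26) (ka xa21 ya7 za20) (ka xa21 ya7 za21) (ka xa21 ya7 za22) (ka xa21 ya7 za23) (ka xa12 ya32 za55) (ka xa7 ya36 za12) (ka xa11 ya45 za36) (ka xa11 ya46 za20) (ka xa11 ya46 za22) (ka xa11 ya43 za25) (ka xa7 ya45 za21) (ka xa11 ya26 za31) (ka xa7 ya45 za25) (ka xa7 ya45 za26) (ka xa7 ya45 za27) (ka xa7 ya45 za28) (ka xa7 ya45 za29) (ka xa7 ya45 za18) (ka xa7 ya32 za49) (ka xa17 ya20 za45) (ka xa21 ya44 za31) (ka xa8 ya51 za15) (ka xa21 ya44 za32) (ka xa20 ya35 za47) (ka xa21 ya44 za33) (ka xa21 ya44 za34) (ka xa20 ya5 za45) (ka xa21 ya44 za35) (ka xa21 ya35 za31) (ka xa16 ya49 za37) (ka xa13 ya27 za42) (ka xa13 ya27 za41) (ka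 xa21 ya44 za37) (ka xa13 ya38 za47) (ka xa20 ya20 za57) (ka xa8 ya45 za15) (ka xa21 ya44 za38) (ka xa21 ya44 za39) (ka xa7 ya44 za38) (ka xa12 ya14 za30) (ka xa7 ya32 za53) (ka xa7 ya44 za31) (ka xa7 ya44 za32) (ka xa7 ya44 za34) (ka xa7 ya44 za35) (ka xa7 ya44 za37) (ka xa21 ya44 za41) (ka xa21 ya44 za42)) (@D3.rec (fun _ => Pt) (ka xa6 ya40 za4) (ka xa6 ya40 za5) (ka xa13 ya19 za16) (ka xa19 ya7 za59) (ka xa20 ya22 za22) (ka xa21 ya44 za44) (ka xa20 ya13 za50) (ka xa10 ya13 za5) (ka xa21 ya44 za19) (ka xa18 ya20 za45) (ka xa12 ya8 za60) (ka xa16 ya32 za12) (ka xa12 ya2 za50) (ka xa12 ya53 za3) (ka xa12 ya29 za3) (ka xa12 ya47 za12) (ka xa13 ya41 za50) (ka xa13 ya38 za39) (ka xa18 ya15 za33) (ka xa6 ya40 za15) (ka xa17 ya34 za55) (ka xa16 ya35 za36) (ka xa18 ya36 za30) (ka xa21 ya44 za46) (ka xa21 ya44 za47) (ka xa21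 ya44 za48) (ka xa21 ya44 za49) (ka xa21 ya42 za2) (ka xa6 ya40 za23) (ka xa21 ya18 za43) (ka xa21 ya9 za30) (ka xa12 ya47 za3) (ka xa12 ya39 za14) (ka xa21 ya44 za51) (ka xa21 ya44 za52) (ka xa21 ya28 za35) (ka xa12 ya55 za9) (ka xa20 ya36 za12) (ka xa6 ya40 za26) (ka xa12 ya22 za3) (ka xa6 ya48 za61) (ka xa16 ya36 za1) (ka xa21 ya28 za34) (ka xa21 ya12 za16) (ka xa16 ya35 za44) (ka xa20 ya20 za59) (ka xa21 ya44 za54) (ka xa21 ya44 za55) (ka xa21 ya40 za46) (ka xa20 ya53 za1) (ka xa12 ya32 za50) (ka xa21 ya18 za8) (ka xa21 ya32 za20) (ka xa21 ya32 za21) (ka xa21 ya18 za9) (ka xa21 ya18 za7) (ka xa20 ya28 za9) (ka xa19 ya21 za20) (ka xa21 ya40 za45) (ka xa14 ya34 za6) (ka xa14 ya38 za18) (ka xa14 ya11 za34)) (@D3.rec (fun _ => Pt) (ka xa14 ya11 za33) (ka xa6 ya40 za45) (ka xa11 ya20 za1) (ka xa12 ya46 za31) (ka xa21 ya44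 za56) (ka xa18 ya15 za61) (ka xa21 ya44 za61) (ka xa6 ya40 za49) (ka xa19 ya48 za47) (ka xa21 ya54 za31) (ka xa10 ya22 za50) (ka xa21 ya33 za28) (ka xa12 ya46 za15) (ka xa21 ya35 za51) (ka xa16 ya35 za56) (ka xa13 ya27 za45) (ka xa13 ya14 za18) (ka xa13 ya10 za46) (ka xa12 ya43 za47) (ka xa21 ya51 za19) (ka xa21 ya25 za56) (ka xa6 ya40 za61) (ka xa21 ya54 za43) (ka xa6 ya44 za54) (ka xa21 ya7 za2) (ka xa21 ya44 za58) (ka xa6 ya41 za4) (ka xa6 ya41 za5) (ka xa18 ya45 za48) (ka xa21 ya44 za59) (ka xa21 ya54 za46) (ka xa21 ya54 za47) (ka xa21 ya54 za48) (ka xa21 ya42 za50) (ka xa21 ya54 za49) (ka xa21 ya54 za50) (ka xa21 ya55 za1) (ka xa19 ya50 za0) (ka xa16 ya7 za38) (ka xa18 ya15 za16) (ka xa21 ya36 za20) (ka xa12 ya41 za11) (ka xa18 ya49 za48) (ka xa6 ya58 za18) (ka xa14 ya54 za7) (ka xa21 ya40 za55) (ka xa18 ya17 za48)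 (ka xa21 ya36 za28) (ka xa7 ya36 za61) (ka xa21 ya40 za49) (ka xa16 ya3 za56) (ka xa7 ya25 za56) (ka xa14 ya1 za0) (ka xa18 ya17 za46) (ka xa10 ya33 za8) (ka xa13 ya56 za40) (ka xa16 ya7 za7) (ka xa14 ya2 za26) (ka xa14 ya54 za11) (ka xa14 ya28 za55) (ka xa21 ya32 za35) (ka xa21 ya55 za21)) (@D3.rec (fun _ => Pt) (ka xa14 ya28 za54) (ka xa7 ya54 za47) (ka xa6 ya41 za27) (ka xa14 ya4 za6) (ka xa21 ya32 za22) (ka xa21 ya18 za10) (ka xa13 ya44 za47) (ka xa13 ya44 za46) (ka xa13 ya54 za25) (ka xa21 ya55 za34) (ka xa12 ya0 za61) (ka xa21 ya55 za38) (ka xa12 ya0 za57) (ka xa21 ya8 za40) (ka xa21 ya8 za39) (ka xa6 ya41 za33) (ka xa21 ya55 za48) (ka xa12 ya1 za7) (ka xa21 ya8 za42) (ka xa13 ya51 za37) (ka xa21 ya8 za43) (ka xa14 ya54 za38) (ka xa6 ya41 za37) (ka xa21 ya56 za0) (ka xa21 ya56 za1) (ka xa13 ya51 za42) (ka xa21 ya8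 za48) (ka xa12 ya13 za8) (ka xa21 ya8 za45) (ka xa16 ya6 za37) (ka xa6 ya41 za40) (ka xa21 ya56 za16) (ka xa13 ya51 za44) (ka xa15 ya46 za52) (ka xa15 ya46 za25) (ka xa21 ya31 za22) (ka xa12 ya27 za16) (ka xa21 ya8 za53) (ka xa21 ya8 za54) (ka xa14 ya54 za42) (ka xa21 ya8 za51) (ka xa21 ya8 za52) (ka xa6 ya41 za46) (ka xa21 ya8 za57) (ka xa21 ya8 za56) (ka xa21 ya56 za37) (ka xa14 ya4 za5) (ka xa21 ya56 za49) (ka xa13 ya16 za2) (ka xa16 ya50 za41) (ka xa13 ya16 za20) (ka xa13 ya47 za59) (ka xa7 ya4 za11) (ka xa19 ya56 za32) (ka xa21 ya41 za1) (ka xa21 ya41 za2) (ka xa9 ya25 za3) (ka xa14 ya20 za4) (ka xa14 ya20 za16) (ka xa14 ya20 za19) (ka xa11 ya51 za52) (ka xa16 ya57 za54)) (@D3.rec (fun _ => Pt) (ka xa6 ya42 za23) (ka xa6 ya42 za25) (ka xa11 ya59 za4) (ka xa6 ya42 za32) (ka xa6 ya42 za39) (ka xa6 ya42 za42) (ka xa21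 ya57 za17) (ka xa6 ya42 za46) (ka xa12 ya34 za13) (ka xa9 ya22 za39) (ka xa14 ya1 za37) (ka xa20 ya26 za2) (ka xa12 ya31 za32) (ka xa14 ya1 za35) (ka xa6 ya42 za5) (ka xa21 ya57 za27) (ka xa21 ya57 za28) (ka xa21 ya57 za29) (ka xa18 ya43 za9) (ka xa12 ya24 za53) (ka xa12 ya24 za55) (ka xa9 ya20 za17) (ka xa18 ya21 za4) (ka xa11 ya48 za11) (ka xa11 ya33 za19) (ka xa14 ya2 za43) (ka xa11 ya33 za22) (ka xa11 ya37 za18) (ka xa6 ya42 za11) (ka xa15 ya0 za5) (ka xa11 ya6 za41) (ka xa12 ya31 za38) (ka xa21 ya57 za46) (ka xa13 ya55 za39) (ka xa14 ya50 za7) (ka xa15 ya0 za17) (ka xa13 ya55 za40) (ka xa14 ya50 za10) (ka xa14 ya50 za11) (ka xa14 ya50 za12) (ka xa14 ya50 za14) (ka xa14 ya50 za15) (ka xa21 ya46 za5) (ka xa6 ya42 za18) (ka xa16 ya46 za57) (ka xa18 ya43 za15) (ka xa9 ya18 za15) (ka xa12 ya29 za15) (ka xa12 ya29 za17)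 (ka xa10 ya59 za7) (ka xa15 ya5 za19) (ka xa6 ya42 za22) (ka xa21 ya1 za1) (ka xa19 ya34 za35) (ka xa21 ya36 za5) (ka xa20 ya43 za33) (ka xa21 ya58 za11) (ka xa21 ya57 za12) (ka xa20 ya44 za4) (ka xa21 ya36 za1) (ka xa17 ya5 za51) (ka xa6 ya42 za28)) (@D3.rec (fun _ => Pt) (ka xa20 ya33 za4) (ka xa17 ya12 za46) (ka xa20 ya5 za31) (ka xa21 ya57 za13) (ka xa12 ya32 za30) (ka xa15 ya48 za56) (ka xa20 ya49 za37) (ka xa6 ya42 za36) (ka xa9 ya31 za5) (ka xa19 ya26 za46) (ka xa15 ya23 za23) (ka xa20 ya4 za8) (ka xa12 ya26 za47) (ka xa8 ya41 za49) (ka xa9 ya29 za31) (ka xa9 ya29 za27) (ka xa17 ya39 za29) (ka xa21 ya57 za14) (ka xa21 ya58 za31) (ka xa21 ya22 za48) (ka xa12 ya19 za59) (ka xa17 ya39 za23) (ka xa21 ya58 za39) (ka xa6 ya42 za45) (ka xa21 ya58 za41) (ka xa21 ya58 za35) (ka xa21 ya22 za54) (ka xa21 ya57 za19) (ka xa21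 ya57 za20) (ka xa21 ya57 za21) (ka xa17 ya42 za54) (ka xa17 ya21 za31) (ka xa17 ya21 za32) (ka xa17 ya11 za9) (ka xa17 ya21 za33) (ka xa17 ya21 za34) (ka xa21 ya58 za57) (ka xa6 ya43 za44) (ka xa21 ya58 za60) (ka xa17 ya29 za28) (ka xa17 ya29 za27) (ka xa6 ya42 za53) (ka xa17 ya29 za25) (ka xa17 ya29 za24) (ka xa6 ya42 za54) (ka xa20 ya19 za23) (ka xa15 ya35 za22) (ka xa12 ya18 za2) (ka xa6 ya42 za58) (ka xa21 ya59 za10) (ka xa21 ya59 za11) (ka xa20 ya16 za26) (ka xa20 ya16 za27) (ka xa6 ya43 za4) (ka xa6 ya43 za0) (ka xa21 ya46 za7) (ka xa21 ya59 za20) (ka xa21 ya59 za21) (ka xa21 ya32 za12) (ka xa6 ya43 za1) (ka xa21 ya59 za33) (ka xa21 ya59 za28)) (@D3.rec (fun _ => Pt) (ka xa21 ya59 za30) (ka xa18 ya36 za33) (ka xa6 ya43 za3) (ka xa21 ya54 za10) (ka xa21 ya59 za40) (ka xa21 ya59 za41) (ka xa21 ya59 za42) (ka xa21 ya59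 za17) (ka xa21 ya59 za18) (ka xa21 ya59 za52) (ka xa21 ya11 za15) (ka xa16 ya6 za51) (ka xa12 ya56 za42) (ka xa17 ya29 za47) (ka xa7 ya31 za57) (ka xa17 ya19 za20) (ka xa13 ya7 za61) (ka xa17 ya20 za56) (ka xa20 ya23 za20) (ka xa6 ya43 za26) (ka xa6 ya43 za27) (ka xa6 ya43 za32) (ka xa6 ya43 za33) (ka xa6 ya43 za34) (ka xa6 ya43 za35) (ka xa6 ya43 za41) (ka xa6 ya43 za42) (ka xa6 ya43 za46) (ka xa6 ya43 za47) (ka xa22 ya0 za20) (ka xa6 ya43 za49) (ka xa7 ya34 za5) (ka xa7 ya34 za6) (ka xa7 ya21 za2) (ka xa7 ya34 za7) (ka xa7 ya34 za9) (ka xa7 ya34 za10) (ka xa7 ya34 za11) (ka xa17 ya28 za33) (ka xa7 ya30 za27) (ka xa7 ya42 za57) (ka xa7 ya48 za28) (ka xa7 ya48 za29) (ka xa22 ya0 za0) (ka xa22 ya0 za1) (ka xa21 ya40 za27) (ka xa22 ya0 za2) (ka xa14 ya41 za39) (ka xa20 ya46 za4) (ka xa17 ya20 za46) (ka xa17 ya12 za2) (ka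 xa17 ya20 za47) (ka xa17 ya18 za46) (ka xa22 ya0 za3) (ka xa22 ya0 za4) (ka xa20 ya49 za21) (ka xa22 ya0 za6) (ka xa21 ya35 za28) (ka xa18 ya49 za4) (ka xa22 ya1 za18) (ka xa22 ya0 za7) (ka xa22 ya0 za8)) (@D3.rec (fun _ => Pt) (ka xa22 ya0 za9) (ka xa22 ya0 za10) (ka xa22 ya1 za34) (ka xa22 ya0 za12) (ka xa17 ya27 za16) (ka xa17 ya27 za17) (ka xa20 ya44 za18) (ka xa17 ya26 za21) (ka xa17 ya26 za20) (ka xa22 ya1 za50) (ka xa17 ya27 za10) (ka xa9 ya28 za50) (ka xa21 ya21 za36) (ka xa13 ya1 za18) (ka xa15 ya36 za58) (ka xa22 ya0 za14) (ka xa16 ya3 za53) (ka xa22 ya0 za15) (ka xa22 ya2 za3) (ka xa21 ya58 za58) (ka xa9 ya21 za32) (ka xa15 ya59 za32) (ka xa8 ya21 za3) (ka xa16 ya43 za1) (ka xa8 ya17 za23) (ka xa22 ya0 za17) (ka xa21 ya10 za3) (ka xa21 ya33 za14) (ka xa21 ya46 za14) (ka xa6 ya43 za48) (ka xa22 ya2 za16) (ka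 xa22 ya2 za12) (ka xa21 ya0 za21) (ka xa22 ya0 za22) (ka xa22 ya0 za23) (ka xa21 ya0 za14) (ka xa17 ya27 za20) (ka xa21 ya52 za19) (ka xa22 ya2 za30) (ka xa17 ya30 za48) (ka xa17 ya30 za47) (ka xa6 ya43 za55) (ka xa22 ya2 za37) (ka xa10 ya43 za43) (ka xa17 ya30 za38) (ka xa17 ya30 za37) (ka xa6 ya43 za57) (ka xa16 ya7 za1) (ka xa17 ya22 za8) (ka xa12 ya25 za61) (ka xa12 ya18 za50) (ka xa13 ya20 za34) (ka xa12 ya25 za56) (ka xa6 ya44 za0) (ka xa22 ya2 za52) (ka xa22 ya2 za53) (ka xa22 ya2 za54) (ka xa12 ya26 za3) (ka xa6 ya44 za7) (ka xa6 ya44 za3) (ka xa22 ya2 za58) (ka xa16 ya33 za39)) (@D3.rec (fun _ => Pt) (ka xa6 ya44 za4) (ka xa16 ya9 za27) (ka xa22 ya2 za61) (ka xa12 ya46 za13) (ka xa6 ya44 za6) (ka xa22 ya3 za4) (ka xa21 ya53 za48) (ka xa22 ya3 za5) (ka xa20 ya36 za13) (ka xa21 ya54 za1) (ka xa16 ya8 za58) (ka xa20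 ya16 za60) (ka xa16 ya57 za27) (ka xa10 ya45 za34) (ka xa11 ya35 za3) (ka xa17 ya7 za55) (ka xa17 ya6 za19) (ka xa7 ya43 za58) (ka xa17 ya4 za47) (ka xa9 ya5 za54) (ka xa17 ya4 za46) (ka xa12 ya28 za22) (ka xa17 ya5 za5) (ka xa16 ya14 za15) (ka xa17 ya5 za7) (ka xa7 ya44 za41) (ka xa12 ya43 za29) (ka xa17 ya5 za9) (ka xa9 ya6 za1) (ka xa17 ya5 za11) (ka xa15 ya49 za44) (ka xa17 ya5 za14) (ka xa6 ya45 za7) (ka xa6 ya45 za5) (ka xa6 ya49 za19) (ka xa9 ya20 za45) (ka xa21 ya20 za47) (ka xa12 ya28 za23) (ka xa12 ya28 za24) (ka xa12 ya28 za25) (ka xa9 ya49 za3) (ka xa17 ya4 za49) (ka xa17 ya4 za50) (ka xa18 ya0 za56) (ka xa17 ya4 za51) (ka xa11 ya51 za32) (ka xa17 ya4 za52) (ka xa17 ya4 za53) (ka xa17 ya4 za54) (ka xa12 ya26 za27) (ka xa11 ya16 za14) (ka xa16 ya47 za59) (ka xa9 ya9 za8) (ka xa17 ya4 za59) (ka xa17 ya4 za60)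 (ka xa21 ya32 za19) (ka xa17 ya5 za0) (ka xa17 ya5 za1) (ka xa6 ya44 za55) (ka xa18 ya22 za41) (ka xa6 ya45 za2) (ka xa6 ya45 za3)) (@D3.rec (fun _ => Pt) (ka xa6 ya45 za4) (ka xa10 ya45 za25) (ka xa10 ya16 za50) (ka xa10 ya17 za6) (ka xa21 ya44 za57) (ka xa21 ya1 za33) (ka xa21 ya54 za51) (ka xa22 ya3 za43) (ka xa22 ya3 za44) (ka xa17 ya33 za10) (ka xa16 ya43 za33) (ka xa18 ya22 za29) (ka xa18 ya22 za13) (ka xa11 ya54 za13) (ka xa10 ya29 za39) (ka xa11 ya53 za42) (ka xa18 ya22 za12) (ka xa17 ya33 za18) (ka xa18 ya22 za28) (ka xa10 ya58 za39) (ka xa16 ya45 za22) (ka xa12 ya3 za41) (ka xa8 ya25 za36) (ka xa8 ya25 za38) (ka xa20 ya12 za7) (ka xa22 ya3 za45) (ka xa22 ya3 za15) (ka xa11 ya49 za55) (ka xa10 ya12 za42) (ka xa11 ya53 za43) (ka xa16 ya5 za27) (ka xa12 ya54 za41) (ka xa20 ya56 za17) (ka xa11 ya56 za5) (ka xa21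 ya1 za18) (ka xa21 ya1 za19) (ka xa21 ya1 za20) (ka xa19 ya14 za20) (ka xa6 ya45 za10) (ka xa16 ya11 za9) (ka xa21 ya1 za23) (ka xa12 ya54 za31) (ka xa21 ya1 za27) (ka xa21 ya1 za28) (ka xa17 ya33 za20) (ka xa6 ya45 za17) (ka xa6 ya45 za19) (ka xa6 ya45 za20) (ka xa6 ya45 za24) (ka xa9 ya32 za13) (ka xa17 ya33 za24) (ka xa17 ya7 za27) (ka xa8 ya14 za6) (ka xa17 ya33 za33) (ka xa17 ya33 za32) (ka xa22 ya4 za28) (ka xa22 ya4 za29) (ka xa22 ya4 za30) (ka xa11 ya21 za7) (ka xa10 ya58 za24) (ka xa16 ya51 za8) (ka xa14 ya35 za52)) (@D3.rec (fun _ => Pt) (ka xa17 ya31 za61) (ka xa21 ya30 za32) (ka xa17 ya32 za6) (ka xa6 ya50 za8) (ka xa22 ya4 za51) (ka xa11 ya48 za45) (ka xa17 ya33 za12) (ka xa17 ya6 za46) (ka xa12 ya3 za51) (ka xa12 ya46 za36) (ka xa12 ya56 za34) (ka xa17 ya33 za37) (ka xa17 ya33 za36) (ka xa6 ya45 za32) (ka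 xa22 ya5 za3) (ka xa17 ya32 za11) (ka xa12 ya4 za3) (ka xa12 ya4 za6) (ka xa22 ya5 za10) (ka xa13 ya58 za41) (ka xa17 ya33 za0) (ka xa17 ya33 za1) (ka xa6 ya45 za49) (ka xa19 ya27 za22) (ka xa17 ya32 za19) (ka xa17 ya33 za4) (ka xa11 ya35 za5) (ka xa17 ya1 za35) (ka xa17 ya33 za2) (ka xa17 ya33 za3) (ka xa19 ya32 za31) (ka xa17 ya32 za23) (ka xa11 ya28 za48) (ka xa17 ya7 za52) (ka xa17 ya33 za15) (ka xa8 ya11 za19) (ka xa6 ya45 za52) (ka xa17 ya33 za43) (ka xa16 ya11 za32) (ka xa16 ya11 za21) (ka xa21 ya1 za9) (ka xa22 ya5 za28) (ka xa12 ya56 za29) (ka xa17 ya33 za46) (ka xa14 ya47 za13) (ka xa6 ya45 za57) (ka xa17 ya51 za15) (ka xa8 ya58 za53) (ka xa6 ya46 za2) (ka xa22 ya5 za35) (ka xa19 ya43 za41) (ka xa21 ya0 za50) (ka xa11 ya1 za27) (ka xa20 ya53 za10) (ka xa10 ya57 za34) (ka xa15 ya24 za20) (ka xa6 ya46 za3) (ka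 xa10 ya53 za10) (ka xa17 ya32 za48) (ka xa17 ya33 za49) (ka xa17 ya33 za48) (ka xa6 ya46 za7)) (@D3.rec (fun _ => Pt) (ka xa15 ya27 za39) (ka xa6 ya46 za12) (ka xa6 ya46 za8) (ka xa22 ya5 za50) (ka xa22 ya5 za48) (ka xa17 ya42 za30) (ka xa6 ya46 za9) (ka xa22 ya5 za60) (ka xa22 ya5 za58) (ka xa17 ya14 za3) (ka xa6 ya46 za11) (ka xa16 ya7 za46) (ka xa17 ya12 za35) (ka xa22 ya6 za3) (ka xa20 ya49 za8) (ka xa22 ya5 za46) (ka xa17 ya34 za4) (ka xa17 ya34 za5) (ka xa10 ya5 za28) (ka xa18 ya15 za13) (ka xa18 ya23 za29) (ka xa11 ya57 za60) (ka xa6 ya51 za11) (ka xa6 ya51 za8) (ka xa6 ya46 za28) (ka xa6 ya50 za32) (ka xa6 ya51 za14) (ka xa19 ya9 za38) (ka xa22 ya6 za12) (ka xa12 ya55 za42) (ka xa6 ya46 za35) (ka xa18 ya41 za36) (ka xa15 ya5 za17) (ka xa21 ya53 za42) (ka xa12 ya55 za10) (ka xa10 ya43 za53) (ka xa6 ya46 za38) (ka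 xa21 ya2 za5) (ka xa21 ya53 za51) (ka xa12 ya18 za29) (ka xa22 ya6 za21) (ka xa22 ya6 za22) (ka xa12 ya51 za12) (ka xa12 ya58 za8) (ka xa9 ya44 za11) (ka xa12 ya4 za9) (ka xa12 ya25 za41) (ka xa6 ya46 za45) (ka xa22 ya6 za28) (ka xa9 ya30 za49) (ka xa12 ya3 za33) (ka xa11 ya48 za44) (ka xa13 ya1 za49) (ka xa6 ya46 za54) (ka xa6 ya46 za56) (ka xa22 ya6 za31) (ka xa18 ya43 za23) (ka xa6 ya47 za8) (ka xa6 ya47 za9) (ka xa6 ya47 za12) (ka xa7 ya34 za31) (ka xa15 ya31 za38)) (@D3.rec (fun _ => Pt) (ka xa17 ya34 za8) (ka xa6 ya47 za4) (ka xa6 ya47 za5) (ka xa17 ya34 za11) (ka xa17 ya34 za10) (ka xa22 ya6 za41) (ka xa22 ya6 za42) (ka xa17 ya26 za61) (ka xa16 ya57 za43) (ka xa22 ya6 za43) (ka xa22 ya6 za57) (ka xa17 ya34 za15) (ka xa9 ya16 za57) (ka xa17 ya34 za16) (ka xa21 ya49 za41) (ka xa17 ya34 za13) (ka xa9 ya27 za21) (ka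 xa9 ya16 za54) (ka xa9 ya27 za45) (ka xa20 ya43 za54) (ka xa22 ya6 za35) (ka xa22 ya6 za36) (ka xa22 ya6 za37) (ka xa22 ya6 za38) (ka xa20 ya46 za6) (ka xa21 ya53 za10) (ka xa9 ya21 za26) (ka xa22 ya6 za39) (ka xa14 ya16 za14) (ka xa9 ya27 za35) (ka xa9 ya27 za41) (ka xa9 ya24 za35) (ka xa6 ya47 za14) (ka xa20 ya27 za21) (ka xa8 ya32 za19) (ka xa8 ya32 za18) (ka xa14 ya33 za20) (ka xa12 ya32 za43) (ka xa14 ya35 za33) (ka xa6 ya47 za24) (ka xa6 ya47 za26) (ka xa6 ya47 za27) (ka xa20 ya59 za24) (ka xa15 ya28 za20) (ka xa21 ya0 za4) (ka xa17 ya34 za26) (ka xa17 ya34 za30) (ka xa17 ya34 za29) (ka xa20 ya55 za48) (ka xa20 ya59 za23) (ka xa10 ya53 za1) (ka xa10 ya53 za2) (ka xa22 ya7 za44) (ka xa22 ya7 za32) (ka xa15 ya5 za40) (ka xa21 ya50 za44) (ka xa14 ya20 za46) (ka xa9 ya6 za33) (ka xa22 ya7 za33) (ka xa17 ya34 za41) (ka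 xa17 ya34 za40) (ka xa6 ya47 za28)) (@D3.rec (fun _ => Pt) (ka xa22 ya4 za32) (ka xa11 ya26 za33) (ka xa11 ya26 za36) (ka xa18 ya13 za56) (ka xa17 ya34 za44) (ka xa12 ya4 za37) (ka xa20 ya6 za10) (ka xa10 ya55 za33) (ka xa12 ya56 za43) (ka xa10 ya55 za35) (ka xa6 ya47 za60) (ka xa6 ya47 za37) (ka xa10 ya43 za52) (ka xa21 ya36 za58) (ka xa13 ya1 za26) (ka xa9 ya20 za21) (ka xa21 ya36 za59) (ka xa9 ya39 za11) (ka xa17 ya58 za45) (ka xa14 ya12 za2) (ka xa14 ya12 za6) (ka xa6 ya47 za45) (ka xa9 ya20 za18) (ka xa21 ya31 za53) (ka xa17 ya43 za3) (ka xa16 ya6 za40) (ka xa10 ya51 za4) (ka xa17 ya34 za58) (ka xa22 ya8 za23) (ka xa16 ya49 za9) (ka xa13 ya0 za44) (ka xa12 ya40 za17) (ka xa6 ya47 za52) (ka xa7 ya31 za45) (ka xa12 ya20 za35) (ka xa6 ya47 za54) (ka xa9 ya10 za38) (ka xa12 ya15 za12) (ka xa17 ya34 za61) (ka xa6 ya47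 za57) (ka xa9 ya10 za43) (ka xa12 ya15 za6) (ka xa12 ya1 za41) (ka xa12 ya35 za19) (ka xa11 ya48 za59) (ka xa22 ya8 za3) (ka xa6 ya48 za0) (ka xa12 ya38 za35) (ka xa22 ya8 za39) (ka xa11 ya59 za47) (ka xa11 ya59 za48) (ka xa16 ya19 za17) (ka xa10 ya8 za61) (ka xa22 ya8 za45) (ka xa12 ya19 za23) (ka xa18 ya37 za33) (ka xa11 ya59 za56) (ka xa14 ya56 za40) (ka xa14 ya56 za39) (ka xa6 ya48 za8) (ka xa18 ya5 za8) (ka xa13 ya52 za15)) (@D3.rec (fun _ => Pt) (ka xa12 ya24 za41) (ka xa17 ya35 za12) (ka xa12 ya45 za4) (ka xa22 ya8 za60) (ka xa17 ya35 za10) (ka xa12 ya27 za31) (ka xa22 ya9 za6) (ka xa12 ya0 za14) (ka xa12 ya0 za15) (ka xa15 ya58 za57) (ka xa12 ya0 za23) (ka xa12 ya0 za21) (ka xa12 ya0 za22) (ka xa12 ya0 za25) (ka xa6 ya48 za17) (ka xa22 ya9 za18) (ka xa22 ya9 za19) (ka xa16 ya2 za14) (ka xa16 ya4 za61) (ka xa17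 ya22 za6) (ka xa8 ya24 za39) (ka xa12 ya0 za34) (ka xa12 ya0 za35) (ka xa22 ya9 za31) (ka xa12 ya0 za31) (ka xa12 ya0 za32) (ka xa6 ya48 za25) (ka xa8 ya24 za18) (ka xa22 ya9 za36) (ka xa16 ya13 za39) (ka xa11 ya51 za14) (ka xa22 ya9 za41) (ka xa13 ya0 za37) (ka xa13 ya0 za36) (ka xa6 ya48 za29) (ka xa14 ya27 za58) (ka xa22 ya9 za44) (ka xa6 ya49 za11) (ka xa16 ya29 za6) (ka xa8 ya19 za46) (ka xa17 ya27 za25) (ka xa13 ya0 za43) (ka xa21 ya19 za43) (ka xa13 ya0 za41) (ka xa6 ya48 za38) (ka xa8 ya25 za7) (ka xa21 ya35 za41) (ka xa15 ya27 za22) (ka xa11 ya19 za9) (ka xa21 ya10 za16) (ka xa8 ya35 za36) (ka xa17 ya35 za35) (ka xa12 ya20 za52) (ka xa6 ya48 za48) (ka xa9 ya18 za26) (ka xa9 ya18 za25) (ka xa9 ya36 za56) (ka xa17 ya45 za12) (ka xa17 ya45 za13) (ka xa16 ya5 za24) (ka xa9 ya36 za34) (ka xa12 ya20 za53))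
def f_a_13 : D2 → D3 → Pt := @D2.rec (fun _ => D3 → Pt) (@D3.rec (fun _ => Pt) (ka xa8 ya35 za22) (ka xa9 ya19 za9) (ka xa6 ya48 za52) (ka xa22 ya10 za4) (ka xa22 ya10 za5) (ka xa16 ya6 za29) (ka xa21 ya10 za13) (ka xa22 ya10 za15) (ka xa21 ya10 za20) (ka xa21 ya10 za21) (ka xa12 ya21 za12) (ka xa12 ya21 za13) (ka xa9 ya18 za42) (ka xa19 ya23 za27) (ka xa12 ya18 za11) (ka xa12 ya20 za16) (ka xa6 ya48 za56) (ka xa22 ya10 za32) (ka xa12 ya27 za19) (ka xa16 ya13 za35) (ka xa14 ya11 za23) (ka xa21 ya10 za15) (ka xa16 ya6 za11) (ka xa12 ya21 za9) (ka xa12 ya21 za10) (ka xa12 ya20 za51) (ka xa11 ya21 za36) (ka xa21 ya10 za17) (ka xa6 ya49 za2) (ka xa12 ya12 za19) (ka xa21 ya21 za16) (ka xa21 ya21 za17) (ka xa18 ya32 za16) (ka xa21 ya21 za18) (ka xa22 ya10 za48) (ka xa15 ya39 za6) (ka xa12 ya59 za33) (ka xa12 ya59 za32) (ka xa6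 ya49 za10) (ka xa22 ya10 za52) (ka xa14 ya52 za13) (ka xa12 ya59 za43) (ka xa17 ya45 za15) (ka xa12 ya59 za41) (ka xa12 ya58 za30) (ka xa17 ya39 za58) (ka xa11 ya59 za41) (ka xa6 ya49 za38) (ka xa6 ya49 za37) (ka xa6 ya50 za52) (ka xa21 ya3 za7) (ka xa14 ya10 za56) (ka xa12 ya33 za40) (ka xa7 ya1 za15) (ka xa7 ya30 za45) (ka xa12 ya30 za29) (ka xa6 ya50 za12) (ka xa6 ya50 za14) (ka xa21 ya52 za8) (ka xa22 ya11 za4) (ka xa11 ya30 za26) (ka xa22 ya11 za3)) (@D3.rec (fun _ => Pt) (ka xa6 ya49 za40) (ka xa22 ya6 za8) (ka xa18 ya37 za22) (ka xa6 ya49 za46) (ka xa21 ya3 za3) (ka xa6 ya49 za48) (ka xa9 ya17 za13) (ka xa11 ya20 za4) (ka xa20 ya22 za60) (ka xa12 ya43 za27) (ka xa20 ya26 za8) (ka xa9 ya18 za30) (ka xa9 ya18 za41) (ka xa22 ya11 za14) (ka xa12 ya26 za43) (ka xa7 ya36 za10) (ka xa21 ya2 za59) (ka xa9 ya27 za28) (ka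 xa12 ya52 za13) (ka xa15 ya5 za6) (ka xa13 ya6 za43) (ka xa9 ya31 za1) (ka xa11 ya35 za61) (ka xa20 ya4 za19) (ka xa22 ya4 za50) (ka xa12 ya24 za48) (ka xa12 ya58 za14) (ka xa22 ya11 za27) (ka xa22 ya11 za8) (ka xa12 ya24 za49) (ka xa11 ya30 za21) (ka xa6 ya50 za17) (ka xa14 ya13 za50) (ka xa17 ya20 za38) (ka xa17 ya20 za37) (ka xa8 ya12 za32) (ka xa10 ya43 za39) (ka xa11 ya30 za57) (ka xa9 ya13 za30) (ka xa6 ya50 za30) (ka xa6 ya50 za33) (ka xa15 ya0 za8) (ka xa9 ya18 za16) (ka xa6 ya50 za41) (ka xa11 ya58 za11) (ka xa14 ya19 za46) (ka xa11 ya33 za21) (ka xa14 ya4 za61) (ka xa14 ya5 za0) (ka xa12 ya56 za52) (ka xa11 ya46 za56) (ka xa14 ya33 za12) (ka xa14 ya33 za13) (ka xa11 ya44 za61) (ka xa17 ya26 za40) (ka xa18 ya43 za26) (ka xa10 ya4 za52) (ka xa17 ya30 za3) (ka xa11 ya10 za50) (ka xa17 ya30 za4) (ka xa18 ya42 za52)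 (ka xa10 ya4 za26)) (@D3.rec (fun _ => Pt) (ka xa21 ya36 za38) (ka xa8 ya35 za35) (ka xa20 ya52 za46) (ka xa12 ya30 za22) (ka xa14 ya1 za34) (ka xa22 ya11 za47) (ka xa22 ya11 za50) (ka xa12 ya19 za6) (ka xa8 ya25 za1) (ka xa20 ya22 za40) (ka xa12 ya30 za26) (ka xa11 ya28 za43) (ka xa14 ya39 za19) (ka xa22 ya6 za9) (ka xa11 ya30 za51) (ka xa10 ya43 za44) (ka xa20 ya23 za35) (ka xa18 ya24 za35) (ka xa11 ya35 za28) (ka xa20 ya26 za12) (ka xa20 ya59 za29) (ka xa10 ya52 za51) (ka xa10 ya45 za20) (ka xa11 ya55 za36) (ka xa10 ya45 za19) (ka xa19 ya26 za17) (ka xa22 ya6 za11) (ka xa21 ya59 za29) (ka xa6 ya51 za17) (ka xa22 ya12 za1) (ka xa18 ya2 za16) (ka xa18 ya24 za14) (ka xa9 ya20 za6) (ka xa22 ya12 za8) (ka xa22 ya12 za10) (ka xa13 ya26 za16) (ka xa13 ya26 za15) (ka xa6 ya51 za25) (ka xa22 ya12 za12) (ka xa7 ya29 za54) (ka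 xa13 ya26 za6) (ka xa13 ya18 za21) (ka xa7 ya30 za3) (ka xa6 ya51 za30) (ka xa22 ya12 za20) (ka xa7 ya29 za59) (ka xa7 ya30 za0) (ka xa7 ya41 za28) (ka xa7 ya41 za29) (ka xa13 ya14 za52) (ka xa13 ya14 za53) (ka xa13 ya14 za54) (ka xa13 ya14 za55) (ka xa6 ya51 za57) (ka xa22 ya12 za37) (ka xa6 ya52 za0) (ka xa6 ya52 za4) (ka xa6 ya52 za5) (ka xa6 ya52 za8) (ka xa6 ya52 za10) (ka xa6 ya52 za17) (ka xa6 ya53 za10)) (@D3.rec (fun _ => Pt) (ka xa6 ya51 za42) (ka xa13 ya4 za53) (ka xa19 ya23 za10) (ka xa6 ya54 za5) (ka xa6 ya54 za12) (ka xa11 ya26 za6) (ka xa14 ya12 za46) (ka xa6 ya53 za24) (ka xa6 ya53 za25) (ka xa6 ya53 za26) (ka xa6 ya53 za27) (ka xa6 ya53 za29) (ka xa6 ya53 za33) (ka xa6 ya53 za34) (ka xa6 ya53 za35) (ka xa13 ya20 za4) (ka xa13 ya19 za33) (ka xa13 ya4 za57) (ka xa13 ya4 za56) (ka xa18 ya54 za50) (ka xa12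 ya30 za1) (ka xa12 ya29 za14) (ka xa20 ya46 za24) (ka xa14 ya33 za28) (ka xa22 ya12 za35) (ka xa22 ya12 za36) (ka xa6 ya51 za58) (ka xa22 ya13 za15) (ka xa22 ya13 za16) (ka xa7 ya16 za33) (ka xa13 ya22 za39) (ka xa13 ya22 za40) (ka xa13 ya22 za36) (ka xa6 ya51 za61) (ka xa22 ya13 za33) (ka xa21 ya0 za51) (ka xa20 ya43 za17) (ka xa20 ya43 za16) (ka xa22 ya13 za40) (ka xa14 ya41 za26) (ka xa14 ya41 za27) (ka xa22 ya13 za48) (ka xa13 ya11 za38) (ka xa22 ya12 za39) (ka xa13 ya12 za49) (ka xa22 ya13 za56) (ka xa6 ya57 za14) (ka xa6 ya57 za13) (ka xa20 ya47 za22) (ka xa14 ya16 za0) (ka xa13 ya12 za48) (ka xa13 ya21 za37) (ka xa6 ya52 za9) (ka xa22 ya14 za3) (ka xa22 ya14 za4) (ka xa13 ya12 za55) (ka xa13 ya12 za53) (ka xa22 ya12 za41) (ka xa22 ya12 za42) (ka xa13 ya25 za17) (ka xa13 ya50 za6) (ka xa7 ya16 za34)) (@D3.rec (fun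 _ => Pt) (ka xa13 ya12 za45) (ka xa19 ya7 za22) (ka xa13 ya53 za58) (ka xa13 ya13 za8) (ka xa7 ya9 za47) (ka xa14 ya12 za58) (ka xa14 ya12 za59) (ka xa20 ya43 za3) (ka xa20 ya43 za2) (ka xa7 ya52 za49) (ka xa7 ya52 za51) (ka xa14 ya14 za54) (ka xa13 ya24 za22) (ka xa7 ya14 za53) (ka xa13 ya38 za46) (ka xa7 ya15 za28) (ka xa7 ya19 za32) (ka xa7 ya49 za11) (ka xa13 ya27 za49) (ka xa7 ya20 za54) (ka xa7 ya20 za53) (ka xa14 ya3 za31) (ka xa13 ya19 za60) (ka xa6 ya52 za43) (ka xa22 ya14 za50) (ka xa14 ya14 za48) (ka xa10 ya25 za58) (ka xa14 ya56 za47) (ka xa14 ya32 za21) (ka xa6 ya52 za35) (ka xa13 ya49 za43) (ka xa22 ya14 za59) (ka xa13 ya26 za35) (ka xa13 ya26 za33) (ka xa13 ya26 za32) (ka xa6 ya52 za37) (ka xa22 ya15 za3) (ka xa7 ya2 za2) (ka xa13 ya19 za61) (ka xa22 ya15 za10) (ka xa17 ya35 za17) (ka xa22 ya14 za45) (ka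 xa22 ya14 za46) (ka xa22 ya14 za47) (ka xa7 ya26 za22) (ka xa7 ya26 za21) (ka xa6 ya52 za47) (ka xa10 ya40 za61) (ka xa10 ya32 za1) (ka xa7 ya33 za34) (ka xa6 ya59 za47) (ka xa7 ya33 za35) (ka xa6 ya52 za58) (ka xa13 ya3 za1) (ka xa7 ya32 za36) (ka xa6 ya52 za51) (ka xa13 ya3 za18) (ka xa13 ya3 za17) (ka xa6 ya52 za53) (ka xa10 ya25 za35) (ka xa8 ya30 za44) (ka xa12 ya33 za12)) (@D3.rec (fun _ => Pt) (ka xa12 ya33 za13) (ka xa10 ya25 za40) (ka xa22 ya15 za36) (ka xa14 ya15 za31) (ka xa18 ya53 za38) (ka xa18 ya53 za36) (ka xa13 ya26 za8) (ka xa13 ya26 za7) (ka xa6 ya52 za59) (ka xa21 ya56 za48) (ka xa6 ya58 za7) (ka xa14 ya4 za24) (ka xa13 ya56 za12) (ka xa13 ya56 za11) (ka xa14 ya15 za58) (ka xa14 ya15 za59) (ka xa14 ya15 za60) (ka xa14 ya15 za61) (ka xa11 ya42 za40) (ka xa6 ya57 za35) (ka xa22 ya12 za43) (ka xa7 ya53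 za38) (ka xa9 ya49 za59) (ka xa11 ya41 za24) (ka xa20 ya27 za24) (ka xa12 ya33 za37) (ka xa11 ya30 za13) (ka xa9 ya22 za40) (ka xa11 ya30 za14) (ka xa6 ya53 za18) (ka xa6 ya53 za19) (ka xa6 ya53 za20) (ka xa6 ya53 za21) (ka xa11 ya26 za7) (ka xa22 ya16 za15) (ka xa14 ya48 za17) (ka xa13 ya17 za36) (ka xa22 ya16 za16) (ka xa10 ya40 za10) (ka xa22 ya16 za17) (ka xa22 ya16 za18) (ka xa22 ya16 za19) (ka xa22 ya16 za20) (ka xa14 ya16 za8) (ka xa14 ya52 za29) (ka xa14 ya16 za15) (ka xa20 ya40 za54) (ka xa20 ya40 za53) (ka xa21 ya38 za48) (ka xa22 ya12 za48) (ka xa22 ya12 za49) (ka xa22 ya12 za50) (ka xa22 ya12 za51) (ka xa14 ya0 za54) (ka xa14 ya16 za25) (ka xa14 ya16 za26) (ka xa7 ya11 za37) (ka xa22 ya12 za52) (ka xa22 ya12 za53) (ka xa14 ya0 za57) (ka xa14 ya0 za58) (ka xa7 ya53 za34)) (@D3.rec (fun _ => Pt) (ka xa14 ya16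 za31) (ka xa22 ya12 za54) (ka xa22 ya12 za55) (ka xa22 ya12 za57) (ka xa22 ya12 za58) (ka xa13 ya35 za52) (ka xa22 ya17 za26) (ka xa13 ya6 za8) (ka xa13 ya6 za7) (ka xa13 ya49 za48) (ka xa7 ya13 za20) (ka xa7 ya13 za15) (ka xa7 ya16 za10) (ka xa7 ya16 za11) (ka xa7 ya15 za46) (ka xa7 ya5 za58) (ka xa7 ya10 za45) (ka xa13 ya8 za51) (ka xa14 ya5 za2) (ka xa11 ya26 za58) (ka xa14 ya5 za1) (ka xa6 ya53 za47) (ka xa6 ya53 za48) (ka xa14 ya1 za41) (ka xa13 ya58 za17) (ka xa17 ya9 za41) (ka xa14 ya9 za38) (ka xa14 ya9 za37) (ka xa22 ya17 za46) (ka xa12 ya30 za30) (ka xa14 ya2 za14) (ka xa14 ya2 za15) (ka xa14 ya5 za7) (ka xa14 ya12 za51) (ka xa17 ya18 za6) (ka xa7 ya38 za22) (ka xa7 ya38 za23) (ka xa13 ya17 za30) (ka xa13 ya17 za32) (ka xa13 ya17 za8) (ka xa6 ya54 za1) (ka xa6 ya54 za3) (ka xa13 ya17 za46) (ka xa13 ya1 za20)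 (ka xa13 ya18 za30) (ka xa19 ya23 za8) (ka xa14 ya14 za14) (ka xa13 ya18 za38) (ka xa13 ya18 za39) (ka xa13 ya18 za48) (ka xa22 ya17 za60) (ka xa13 ya18 za18) (ka xa11 ya44 za22) (ka xa19 ya19 za36) (ka xa22 ya12 za45) (ka xa21 ya4 za38) (ka xa11 ya44 za18) (ka xa13 ya18 za22) (ka xa13 ya18 za23) (ka xa13 ya53 za47) (ka xa22 ya12 za18) (ka xa6 ya54 za10)) (@D3.rec (fun _ => Pt) (ka xa22 ya18 za33) (ka xa22 ya18 za34) (ka xa13 ya53 za48) (ka xa13 ya18 za26) (ka xa12 ya30 za41) (ka xa14 ya3 za42) (ka xa22 ya18 za47) (ka xa12 ya30 za43) (ka xa14 ya3 za37) (ka xa22 ya18 za56) (ka xa13 ya18 za57) (ka xa13 ya18 za58) (ka xa7 ya19 za59) (ka xa8 ya49 za39) (ka xa13 ya41 za32) (ka xa14 ya10 za21) (ka xa14 ya10 za22) (ka xa14 ya10 za23) (ka xa22 ya19 za8) (ka xa14 ya10 za24) (ka xa14 ya10 za25) (ka xa14 ya10 za26) (ka xa14 ya10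 za27) (ka xa14 ya10 za28) (ka xa14 ya10 za29) (ka xa6 ya56 za46) (ka xa6 ya54 za24) (ka xa22 ya19 za24) (ka xa6 ya56 za61) (ka xa6 ya57 za0) (ka xa22 ya19 za29) (ka xa6 ya57 za3) (ka xa6 ya57 za5) (ka xa22 ya19 za31) (ka xa6 ya57 za7) (ka xa6 ya57 za9) (ka xa6 ya57 za10) (ka xa6 ya57 za11) (ka xa22 ya19 za41) (ka xa6 ya57 za15) (ka xa6 ya57 za21) (ka xa6 ya57 za46) (ka xa6 ya54 za32) (ka xa22 ya19 za43) (ka xa6 ya57 za26) (ka xa6 ya57 za27) (ka xa6 ya57 za28) (ka xa22 ya19 za48) (ka xa6 ya57 za50) (ka xa6 ya57 za51) (ka xa7 ya3 za16) (ka xa7 ya3 za18) (ka xa13 ya53 za53) (ka xa13 ya53 za52) (ka xa14 ya25 za49) (ka xa14 ya25 za50) (ka xa14 ya25 za51) (ka xa13 ya50 za4) (ka xa14 ya52 za30) (ka xa13 ya11 za60) (ka xa10 ya33 za33) (ka xa12 ya51 za16)) (@D3.rec (fun _ => Pt) (ka xa11 ya26 za9) (ka xa6 ya54 za49) (ka xa6 ya54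 za50) (ka xa6 ya54 za51) (ka xa6 ya54 za52) (ka xa7 ya38 za7) (ka xa22 ya19 za60) (ka xa13 ya37 za30) (ka xa14 ya18 za7) (ka xa7 ya42 za5) (ka xa22 ya19 za61) (ka xa14 ya41 za59) (ka xa22 ya20 za0) (ka xa22 ya20 za1) (ka xa16 ya34 za28) (ka xa17 ya3 za49) (ka xa14 ya26 za14) (ka xa14 ya52 za47) (ka xa14 ya52 za48) (ka xa14 ya52 za50) (ka xa9 ya30 za56) (ka xa9 ya30 za43) (ka xa14 ya52 za51) (ka xa14 ya52 za52) (ka xa14 ya26 za24) (ka xa14 ya26 za25) (ka xa13 ya34 za39) (ka xa7 ya52 za54) (ka xa14 ya52 za53) (ka xa14 ya52 za54) (ka xa14 ya48 za22) (ka xa14 ya48 za23) (ka xa13 ya24 za19) (ka xa14 ya26 za31) (ka xa13 ya10 za23) (ka xa14 ya52 za55) (ka xa13 ya10 za24) (ka xa14 ya52 za57) (ka xa22 ya20 za61) (ka xa13 ya36 za41) (ka xa13 ya36 za42) (ka xa13 ya28 za45) (ka xa7 ya10 za56) (ka xa7 ya10 za57) (ka xa13 ya25 za25)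 (ka xa6 ya55 za19) (ka xa6 ya55 za21) (ka xa14 ya1 za44) (ka xa14 ya1 za42) (ka xa6 ya55 za13) (ka xa6 ya55 za14) (ka xa13 ya6 za17) (ka xa14 ya12 za45) (ka xa14 ya51 za26) (ka xa14 ya29 za33) (ka xa22 ya21 za8) (ka xa13 ya55 za41) (ka xa13 ya55 za42) (ka xa13 ya36 za32) (ka xa14 ya1 za49) (ka xa22 ya21 za23) (ka xa14 ya17 za40)) (@D3.rec (fun _ => Pt) (ka xa6 ya55 za27) (ka xa7 ya32 za13) (ka xa7 ya32 za14) (ka xa14 ya17 za49) (ka xa20 ya27 za18) (ka xa14 ya17 za58) (ka xa14 ya17 za60) (ka xa22 ya21 za25) (ka xa14 ya24 za38) (ka xa14 ya52 za32) (ka xa21 ya40 za18) (ka xa14 ya52 za34) (ka xa11 ya45 za2) (ka xa14 ya52 za36) (ka xa11 ya45 za0) (ka xa14 ya52 za40) (ka xa14 ya52 za37) (ka xa6 ya55 za35) (ka xa20 ya30 za28) (ka xa22 ya21 za55) (ka xa14 ya52 za41) (ka xa7 ya50 za53) (ka xa14 ya52 za43) (ka xa20 ya29 za1) (ka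 xa9 ya14 za14) (ka xa14 ya52 za44) (ka xa14 ya32 za31) (ka xa13 ya44 za27) (ka xa11 ya51 za49) (ka xa13 ya45 za41) (ka xa13 ya45 za42) (ka xa14 ya18 za2) (ka xa13 ya34 za52) (ka xa7 ya16 za32) (ka xa13 ya36 za47) (ka xa7 ya16 za36) (ka xa7 ya4 za42) (ka xa22 ya22 za15) (ka xa7 ya50 za46) (ka xa7 ya24 za39) (ka xa14 ya5 za42) (ka xa22 ya22 za21) (ka xa6 ya55 za49) (ka xa14 ya40 za22) (ka xa22 ya22 za17) (ka xa10 ya35 za19) (ka xa13 ya26 za1) (ka xa13 ya27 za52) (ka xa14 ya32 za11) (ka xa14 ya18 za31) (ka xa14 ya30 za38) (ka xa14 ya30 za40) (ka xa6 ya56 za1) (ka xa6 ya56 za3) (ka xa6 ya56 za4) (ka xa11 ya38 za12) (ka xa11 ya30 za30) (ka xa12 ya33 za56) (ka xa7 ya38 za16) (ka xa11 ya16 za19) (ka xa12 ya33 za53) (ka xa12 ya33 za57)) (@D3.rec (fun _ => Pt) (ka xa12 ya33 za58) (ka xa12 ya33 za59) (ka xa12 ya4 za27) (ka xa13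 ya27 za61) (ka xa22 ya22 za24) (ka xa13 ya35 za34) (ka xa14 ya19 za38) (ka xa14 ya31 za12) (ka xa14 ya31 za13) (ka xa14 ya31 za14) (ka xa20 ya37 za19) (ka xa14 ya31 za21) (ka xa20 ya37 za13) (ka xa22 ya22 za25) (ka xa6 ya59 za49) (ka xa14 ya19 za11) (ka xa9 ya26 za19) (ka xa14 ya22 za29) (ka xa9 ya26 za20) (ka xa14 ya22 za32) (ka xa14 ya22 za33) (ka xa14 ya19 za18) (ka xa14 ya22 za35) (ka xa13 ya8 za34) (ka xa13 ya8 za36) (ka xa19 ya57 za3) (ka xa13 ya36 za50) (ka xa13 ya36 za51) (ka xa14 ya18 za57) (ka xa14 ya22 za22) (ka xa14 ya22 za20) (ka xa6 ya56 za18) (ka xa6 ya56 za19) (ka xa6 ya56 za20) (ka xa14 ya19 za23) (ka xa14 ya41 za18) (ka xa14 ya32 za28) (ka xa9 ya16 za37) (ka xa14 ya18 za46) (ka xa14 ya30 za6) (ka xa11 ya46 za27) (ka xa14 ya32 za29) (ka xa14 ya32 za32) (ka xa13 ya40 za11) (ka xa13 ya44 za28) (ka xa9 ya41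 za35) (ka xa12 ya47 za17) (ka xa17 ya16 za60) (ka xa14 ya11 za6) (ka xa14 ya11 za7) (ka xa14 ya11 za8) (ka xa14 ya11 za9) (ka xa14 ya11 za10) (ka xa14 ya11 za11) (ka xa14 ya11 za12) (ka xa14 ya33 za0) (ka xa14 ya33 za1) (ka xa14 ya33 za2) (ka xa14 ya33 za6) (ka xa14 ya12 za52) (ka xa11 ya50 za6) (ka xa15 ya5 za30)) (@D3.rec (fun _ => Pt) (ka xa16 ya49 za39) (ka xa20 ya16 za35) (ka xa18 ya2 za7) (ka xa20 ya47 za60) (ka xa20 ya16 za54) (ka xa22 ya23 za38) (ka xa13 ya12 za3) (ka xa20 ya48 za1) (ka xa20 ya48 za2) (ka xa17 ya26 za24) (ka xa11 ya42 za43) (ka xa20 ya48 za4) (ka xa20 ya48 za3) (ka xa22 ya23 za49) (ka xa20 ya16 za51) (ka xa18 ya21 za44) (ka xa22 ya19 za23) (ka xa6 ya56 za49) (ka xa6 ya56 za50) (ka xa13 ya40 za58) (ka xa22 ya19 za26) (ka xa22 ya19 za25) (ka xa20 ya56 za38) (ka xa22 ya23 za53) (ka xa14 ya32 za24)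 (ka xa22 ya14 za57) (ka xa22 ya23 za54) (ka xa22 ya23 za55) (ka xa14 ya40 za33) (ka xa13 ya52 za20) (ka xa13 ya52 za18) (ka xa14 ya41 za21) (ka xa14 ya41 za22) (ka xa13 ya11 za36) (ka xa13 ya11 za37) (ka xa22 ya24 za25) (ka xa13 ya11 za33) (ka xa13 ya11 za34) (ka xa13 ya3 za42) (ka xa14 ya41 za12) (ka xa6 ya56 za59) (ka xa6 ya56 za60) (ka xa14 ya41 za16) (ka xa14 ya41 za15) (ka xa22 ya24 za30) (ka xa22 ya24 za31) (ka xa13 ya34 za53) (ka xa13 ya35 za40) (ka xa15 ya40 za7) (ka xa22 ya24 za50) (ka xa13 ya11 za53) (ka xa20 ya48 za25) (ka xa13 ya35 za39) (ka xa13 ya11 za50) (ka xa13 ya35 za38) (ka xa6 ya57 za2) (ka xa22 ya24 za55) (ka xa22 ya24 za56) (ka xa22 ya24 za57) (ka xa13 ya12 za30) (ka xa13 ya7 za59) (ka xa22 ya25 za11)) (@D3.rec (fun _ => Pt) (ka xa11 ya47 za22) (ka xa11 ya46 za54) (ka xa13 ya45 za56) (ka xa13 ya11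 za6) (ka xa6 ya57 za6) (ka xa22 ya0 za51) (ka xa22 ya25 za17) (ka xa22 ya25 za18) (ka xa22 ya25 za27) (ka xa22 ya19 za35) (ka xa13 ya20 za22) (ka xa20 ya47 za36) (ka xa22 ya25 za36) (ka xa11 ya46 za52) (ka xa22 ya25 za40) (ka xa22 ya19 za38) (ka xa22 ya25 za44) (ka xa22 ya25 za49) (ka xa6 ya57 za12) (ka xa22 ya25 za53) (ka xa22 ya25 za43) (ka xa22 ya13 za60) (ka xa22 ya13 za59) (ka xa20 ya48 za7) (ka xa20 ya48 za6) (ka xa22 ya26 za9) (ka xa13 ya53 za56) (ka xa13 ya53 za55) (ka xa6 ya57 za20) (ka xa22 ya26 za12) (ka xa13 ya11 za59) (ka xa22 ya19 za42) (ka xa7 ya47 za15) (ka xa14 ya39 za0) (ka xa6 ya57 za24) (ka xa6 ya57 za25) (ka xa14 ya39 za2) (ka xa14 ya39 za1) (ka xa22 ya26 za21) (ka xa13 ya12 za57) (ka xa13 ya12 za56) (ka xa22 ya26 za22) (ka xa22 ya26 za33) (ka xa20 ya47 za48) (ka xa14 ya44 za12) (ka xa13 ya4 za0) (ka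 xa22 ya19 za47) (ka xa13 ya34 za44) (ka xa13 ya3 za50) (ka xa13 ya3 za44) (ka xa13 ya29 za49) (ka xa7 ya55 za22) (ka xa22 ya26 za50) (ka xa13 ya3 za56) (ka xa22 ya26 za53) (ka xa13 ya3 za55) (ka xa13 ya12 za40) (ka xa13 ya12 za39) (ka xa6 ya57 za34) (ka xa22 ya16 za9) (ka xa22 ya26 za59) (ka xa22 ya16 za5)) (@D3.rec (fun _ => Pt) (ka xa14 ya2 za24) (ka xa6 ya57 za39) (ka xa16 ya7 za9) (ka xa22 ya27 za3) (ka xa13 ya25 za11) (ka xa7 ya30 za10) (ka xa14 ya2 za30) (ka xa14 ya2 za31) (ka xa13 ya4 za3) (ka xa22 ya27 za15) (ka xa20 ya56 za58) (ka xa6 ya57 za48) (ka xa6 ya57 za49) (ka xa14 ya44 za4) (ka xa22 ya19 za44) (ka xa20 ya56 za61) (ka xa22 ya27 za17) (ka xa7 ya12 za48) (ka xa22 ya27 za18) (ka xa22 ya27 za37) (ka xa22 ya19 za50) (ka xa20 ya48 za23) (ka xa22 ya19 za51) (ka xa13 ya37 za34) (ka xa13 ya37 za33) (ka xa7 ya38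 za49) (ka xa22 ya15 za22) (ka xa6 ya57 za54) (ka xa14 ya12 za61) (ka xa22 ya27 za53) (ka xa22 ya27 za55) (ka xa9 ya39 za14) (ka xa13 ya26 za3) (ka xa13 ya26 za2) (ka xa6 ya57 za59) (ka xa22 ya27 za60) (ka xa13 ya26 za19) (ka xa13 ya26 za21) (ka xa13 ya26 za20) (ka xa6 ya57 za61) (ka xa21 ya1 za16) (ka xa7 ya29 za49) (ka xa13 ya15 za11) (ka xa13 ya15 za10) (ka xa6 ya58 za1) (ka xa22 ya28 za12) (ka xa7 ya29 za46) (ka xa22 ya28 za17) (ka xa6 ya58 za5) (ka xa22 ya28 za18) (ka xa22 ya28 za19) (ka xa22 ya28 za27) (ka xa12 ya26 za44) (ka xa14 ya8 za33) (ka xa22 ya15 za49) (ka xa22 ya15 za50) (ka xa7 ya13 za34) (ka xa7 ya13 za33) (ka xa6 ya58 za8) (ka xa13 ya14 za25) (ka xa13 ya14 za26) (ka xa13 ya29 za46)) (@D3.rec (fun _ => Pt) (ka xa13 ya29 za47) (ka xa7 ya30 za29) (ka xa7 ya14 za10) (ka xa7 ya14 za9) (ka xa6 ya58 za14) (ka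 xa22 ya28 za45) (ka xa22 ya28 za47) (ka xa9 ya59 za0) (ka xa13 ya14 za38) (ka xa22 ya28 za52) (ka xa9 ya59 za1) (ka xa13 ya14 za36) (ka xa13 ya14 za40) (ka xa13 ya14 za39) (ka xa21 ya13 za57) (ka xa22 ya29 za0) (ka xa7 ya48 za61) (ka xa22 ya29 za2) (ka xa12 ya47 za16) (ka xa13 ya47 za14) (ka xa22 ya29 za4) (ka xa7 ya15 za25) (ka xa7 ya7 za15) (ka xa6 ya58 za26) (ka xa11 ya15 za46) (ka xa13 ya13 za59) (ka xa13 ya13 za60) (ka xa13 ya41 za20) (ka xa6 ya58 za50) (ka xa6 ya58 za35) (ka xa6 ya58 za36) (ka xa7 ya8 za5) (ka xa7 ya8 za4) (ka xa6 ya58 za31) (ka xa20 ya21 za19) (ka xa22 ya29 za23) (ka xa13 ya14 za11) (ka xa22 ya29 za29) (ka xa13 ya14 za8) (ka xa13 ya14 za13) (ka xa13 ya14 za12) (ka xa10 ya22 za51) (ka xa22 ya29 za14) (ka xa22 ya29 za15) (ka xa22 ya29 za16) (ka xa13 ya47 za61) (ka xa22 ya29 za17) (ka xa13 ya39 za17)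 (ka xa20 ya25 za41) (ka xa13 ya47 za60) (ka xa22 ya12 za9) (ka xa7 ya24 za28) (ka xa13 ya2 za49) (ka xa13 ya2 za50) (ka xa13 ya2 za51) (ka xa13 ya2 za52) (ka xa20 ya27 za25) (ka xa7 ya3 za1) (ka xa21 ya41 za14) (ka xa7 ya3 za4) (ka xa7 ya3 za8) (ka xa7 ya2 za61)) (@D3.rec (fun _ => Pt) (ka xa7 ya33 za61) (ka xa7 ya3 za60) (ka xa7 ya4 za1) (ka xa7 ya30 za31) (ka xa7 ya30 za30) (ka xa7 ya48 za56) (ka xa7 ya48 za55) (ka xa6 ya58 za52) (ka xa22 ya30 za7) (ka xa6 ya59 za21) (ka xa13 ya13 za43) (ka xa13 ya13 za42) (ka xa6 ya58 za57) (ka xa22 ya30 za16) (ka xa12 ya11 za27) (ka xa9 ya27 za27) (ka xa9 ya20 za9) (ka xa12 ya25 za60) (ka xa16 ya3 za10) (ka xa9 ya18 za61) (ka xa13 ya34 za36) (ka xa13 ya34 za35) (ka xa6 ya59 za10) (ka xa22 ya30 za20) (ka xa13 ya16 za16) (ka xa7 ya55 za23) (ka xa6 ya59 za12) (ka xa13 ya49 za30) (ka xa13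 ya43 za57) (ka xa13 ya16 za18) (ka xa6 ya59 za19) (ka xa6 ya59 za15) (ka xa13 ya40 za42) (ka xa14 ya48 za5) (ka xa22 ya30 za29) (ka xa7 ya7 za3) (ka xa6 ya59 za16) (ka xa22 ya30 za35) (ka xa14 ya48 za6) (ka xa16 ya11 za1) (ka xa6 ya59 za18) (ka xa13 ya51 za48) (ka xa22 ya30 za39) (ka xa22 ya30 za40) (ka xa16 ya11 za51) (ka xa22 ya30 za47) (ka xa13 ya34 za19) (ka xa18 ya42 za21) (ka xa22 ya30 za10) (ka xa22 ya30 za11) (ka xa7 ya48 za60) (ka xa7 ya34 za36) (ka xa7 ya31 za56) (ka xa6 ya59 za23) (ka xa22 ya31 za0) (ka xa7 ya34 za35) (ka xa12 ya16 za38) (ka xa22 ya31 za9) (ka xa14 ya44 za39) (ka xa12 ya16 za28) (ka xa14 ya44 za41) (ka xa14 ya44 za40)) (@D3.rec (fun _ => Pt) (ka xa6 ya59 za30) (ka xa19 ya56 za30) (ka xa12 ya48 za48) (ka xa7 ya17 za0) (ka xa6 ya59 za32) (ka xa7 ya18 za7) (ka xa7 ya18 za6) (ka xa7 ya16 za8) (ka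 xa13 ya51 za61) (ka xa13 ya27 za34) (ka xa6 ya59 za37) (ka xa13 ya52 za3) (ka xa13 ya52 za2) (ka xa22 ya31 za28) (ka xa22 ya31 za29) (ka xa22 ya31 za40) (ka xa13 ya15 za24) (ka xa22 ya31 za46) (ka xa13 ya15 za29) (ka xa22 ya31 za51) (ka xa12 ya48 za50) (ka xa13 ya51 za56) (ka xa13 ya51 za57) (ka xa13 ya51 za59) (ka xa13 ya57 za1) (ka xa13 ya40 za18) (ka xa13 ya36 za2) (ka xa7 ya1 za31) (ka xa13 ya47 za4) (ka xa14 ya13 za15) (ka xa19 ya22 za5) (ka xa6 ya59 za51) (ka xa6 ya59 za52) (ka xa6 ya59 za53) (ka xa6 ya59 za54) (ka xa16 ya56 za26) (ka xa11 ya58 za42) (ka xa11 ya58 za43) (ka xa9 ya16 za31) (ka xa13 ya57 za18) (ka xa14 ya12 za34) (ka xa22 ya32 za5) (ka xa22 ya32 za6) (ka xa20 ya30 za37) (ka xa22 ya16 za11) (ka xa22 ya32 za7) (ka xa13 ya40 za9) (ka xa20 ya30 za41) (ka xa14 ya20 za31) (ka xa16 ya32 za37) (ka xa7 ya2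 za16) (ka xa7 ya2 za18) (ka xa7 ya2 za20) (ka xa7 ya2 za40) (ka xa6 ya59 za59) (ka xa22 ya32 za23) (ka xa22 ya32 za24) (ka xa7 ya2 za35) (ka xa7 ya2 za36) (ka xa7 ya2 za25) (ka xa7 ya0 za0) (ka xa22 ya32 za36)) (@D3.rec (fun _ => Pt) (ka xa7 ya2 za46) (ka xa7 ya2 za47) (ka xa20 ya9 za34) (ka xa7 ya2 za50) (ka xa7 ya2 za51) (ka xa7 ya2 za55) (ka xa7 ya2 za60) (ka xa7 ya19 za55) (ka xa13 ya6 za39) (ka xa7 ya3 za47) (ka xa21 ya40 za23) (ka xa7 ya3 za26) (ka xa7 ya3 za27) (ka xa7 ya3 za28) (ka xa7 ya3 za29) (ka xa22 ya32 za60) (ka xa7 ya3 za34) (ka xa7 ya3 za51) (ka xa7 ya3 za52) (ka xa17 ya17 za21) (ka xa7 ya3 za56) (ka xa7 ya31 za58) (ka xa7 ya31 za55) (ka xa7 ya0 za19) (ka xa22 ya33 za8) (ka xa22 ya33 za9) (ka xa22 ya33 za10) (ka xa22 ya33 za11) (ka xa7 ya32 za24) (ka xa7 ya32 za25) (ka xa13 ya6 za37) (ka xa7 ya4 za20)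 (ka xa13 ya6 za38) (ka xa7 ya32 za10) (ka xa13 ya27 za29) (ka xa10 ya47 za20) (ka xa13 ya5 za36) (ka xa13 ya27 za28) (ka xa13 ya44 za37) (ka xa13 ya44 za41) (ka xa13 ya44 za40) (ka xa8 ya30 za36) (ka xa7 ya0 za27) (ka xa22 ya33 za28) (ka xa7 ya32 za55) (ka xa7 ya32 za56) (ka xa13 ya6 za42) (ka xa7 ya32 za48) (ka xa21 ya44 za18) (ka xa7 ya34 za23) (ka xa7 ya34 za24) (ka xa20 ya23 za37) (ka xa7 ya34 za27) (ka xa7 ya34 za28) (ka xa7 ya34 za29) (ka xa7 ya34 za30) (ka xa7 ya18 za32) (ka xa7 ya0 za34) (ka xa22 ya27 za33) (ka xa19 ya20 za35) (ka xa7 ya34 za40) (ka xa22 ya33 za50)) (@D3.rec (fun _ => Pt) (ka xa7 ya34 za42) (ka xa22 ya33 za54) (ka xa7 ya34 za44) (ka xa7 ya33 za43) (ka xa7 ya0 za44) (ka xa13 ya48 za61) (ka xa13 ya48 za60) (ka xa22 ya33 za60) (ka xa13 ya29 za22) (ka xa13 ya38 za7) (ka xa7 ya22 za11) (ka xa7 ya34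 za2) (ka xa7 ya4 za0) (ka xa7 ya34 za0) (ka xa7 ya34 za1) (ka xa7 ya0 za55) (ka xa7 ya0 za56) (ka xa7 ya0 za57) (ka xa13 ya6 za51) (ka xa17 ya21 za56) (ka xa17 ya19 za23) (ka xa13 ya2 za41) (ka xa13 ya6 za57) (ka xa13 ya6 za58) (ka xa14 ya43 za31) (ka xa22 ya32 za52) (ka xa13 ya7 za3) (ka xa22 ya34 za13) (ka xa22 ya34 za14) (ka xa18 ya51 za51) (ka xa13 ya6 za44) (ka xa7 ya32 za59) (ka xa7 ya32 za60) (ka xa7 ya33 za1) (ka xa7 ya33 za3) (ka xa7 ya33 za4) (ka xa7 ya33 za5) (ka xa7 ya33 za6) (ka xa13 ya6 za47) (ka xa13 ya6 za48) (ka xa7 ya33 za12) (ka xa7 ya33 za13) (ka xa7 ya33 za7) (ka xa7 ya1 za3) (ka xa22 ya34 za47) (ka xa22 ya34 za48) (ka xa7 ya33 za18) (ka xa7 ya33 za19) (ka xa13 ya6 za49) (ka xa7 ya33 za22) (ka xa7 ya33 za24) (ka xa22 ya35 za6) (ka xa7 ya33 za26) (ka xa7 ya33 za28) (ka xa7 ya33 za29) (ka xa7 ya33 za30)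 (ka xa9 ya53 za53) (ka xa13 ya7 za10) (ka xa13 ya7 za11) (ka xa7 ya24 za52) (ka xa7 ya24 za53) (ka xa11 ya27 za1)) (@D3.rec (fun _ => Pt) (ka xa14 ya3 za55) (ka xa7 ya3 za0) (ka xa21 ya41 za15) (ka xa21 ya41 za16) (ka xa22 ya11 za5) (ka xa13 ya20 za55) (ka xa21 ya41 za12) (ka xa9 ya26 za30) (ka xa7 ya1 za23) (ka xa7 ya1 za26) (ka xa13 ya54 za2) (ka xa13 ya54 za3) (ka xa13 ya56 za15) (ka xa7 ya40 za48) (ka xa12 ya32 za57) (ka xa22 ya35 za32) (ka xa12 ya46 za2) (ka xa7 ya30 za47) (ka xa13 ya44 za49) (ka xa13 ya35 za2) (ka xa13 ya44 za14) (ka xa22 ya31 za61) (ka xa13 ya35 za1) (ka xa13 ya44 za56) (ka xa13 ya44 za55) (ka xa22 ya35 za33) (ka xa7 ya44 za14) (ka xa7 ya44 za15) (ka xa7 ya44 za16) (ka xa7 ya44 za17) (ka xa7 ya44 za18) (ka xa7 ya44 za19) (ka xa7 ya44 za20) (ka xa13 ya3 za16) (ka xa7 ya3 za3) (ka xa20 ya41 za50)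 (ka xa20 ya41 za51) (ka xa7 ya1 za37) (ka xa7 ya1 za38) (ka xa7 ya1 za39) (ka xa7 ya1 za40) (ka xa11 ya26 za4) (ka xa22 ya15 za28) (ka xa10 ya39 za60) (ka xa14 ya31 za23) (ka xa10 ya39 za59) (ka xa22 ya32 za28) (ka xa22 ya36 za9) (ka xa19 ya15 za47) (ka xa10 ya27 za23) (ka xa10 ya27 za18) (ka xa7 ya44 za2) (ka xa7 ya44 za3) (ka xa9 ya25 za56) (ka xa7 ya44 za4) (ka xa7 ya44 za5) (ka xa7 ya44 za6) (ka xa7 ya44 za7) (ka xa7 ya44 za8) (ka xa14 ya15 za38) (ka xa13 ya4 za22) (ka xa13 ya4 za38)) (@D3.rec (fun _ => Pt) (ka xa22 ya36 za26) (ka xa13 ya20 za2) (ka xa13 ya20 za1) (ka xa13 ya45 za2) (ka xa13 ya3 za15) (ka xa7 ya1 za51) (ka xa13 ya45 za10) (ka xa13 ya45 za5) (ka xa22 ya36 za30) (ka xa7 ya30 za54) (ka xa17 ya17 za19) (ka xa7 ya1 za59) (ka xa22 ya36 za28) (ka xa7 ya2 za0) (ka xa7 ya2 za4) (ka xa7 ya2 za5) (ka xa22 ya36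 za29) (ka xa7 ya1 za58) (ka xa22 ya36 za46) (ka xa22 ya36 za47) (ka xa7 ya11 za16) (ka xa22 ya36 za42) (ka xa13 ya12 za10) (ka xa22 ya11 za6) (ka xa7 ya1 za61) (ka xa15 ya55 za40) (ka xa15 ya55 za41) (ka xa22 ya36 za44) (ka xa22 ya36 za56) (ka xa22 ya15 za5) (ka xa10 ya20 za11) (ka xa9 ya26 za32) (ka xa14 ya34 za3) (ka xa14 ya34 za1) (ka xa12 ya52 za51) (ka xa20 ya34 za30) (ka xa7 ya54 za12) (ka xa14 ya55 za55) (ka xa11 ya45 za55) (ka xa10 ya6 za37) (ka xa10 ya5 za57) (ka xa17 ya19 za0) (ka xa14 ya37 za29) (ka xa9 ya3 za57) (ka xa14 ya31 za42) (ka xa11 ya30 za18) (ka xa11 ya30 za29) (ka xa21 ya41 za34) (ka xa20 ya46 za35) (ka xa11 ya35 za32) (ka xa14 ya35 za34) (ka xa14 ya30 za5) (ka xa9 ya25 za27) (ka xa13 ya56 za20) (ka xa13 ya47 za26) (ka xa13 ya19 za5) (ka xa13 ya57 za47) (ka xa22 ya32 za22) (ka xa14 ya30 za0) (ka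 xa14 ya11 za40) (ka xa14 ya29 za56) (ka xa14 ya29 za57)) (@D3.rec (fun _ => Pt) (ka xa14 ya29 za58) (ka xa14 ya29 za59) (ka xa14 ya29 za60) (ka xa7 ya44 za53) (ka xa14 ya29 za61) (ka xa22 ya32 za35) (ka xa14 ya38 za25) (ka xa7 ya2 za28) (ka xa7 ya2 za29) (ka xa13 ya56 za24) (ka xa13 ya56 za25) (ka xa22 ya32 za38) (ka xa22 ya32 za37) (ka xa22 ya37 za43) (ka xa22 ya37 za44) (ka xa21 ya41 za23) (ka xa22 ya37 za45) (ka xa22 ya37 za46) (ka xa22 ya37 za47) (ka xa22 ya32 za14) (ka xa14 ya38 za30) (ka xa14 ya42 za39) (ka xa14 ya38 za36) (ka xa13 ya36 za7) (ka xa13 ya22 za57) (ka xa13 ya22 za59) (ka xa18 ya18 za42) (ka xa22 ya32 za31) (ka xa22 ya32 za32) (ka xa22 ya32 za33) (ka xa7 ya46 za58) (ka xa22 ya32 za34) (ka xa7 ya46 za57) (ka xa16 ya52 za33) (ka xa7 ya2 za42) (ka xa7 ya2 za43) (ka xa7 ya2 za44) (ka xa13 ya3 za51) (ka xa22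 ya38 za26) (ka xa22 ya32 za26) (ka xa22 ya32 za25) (ka xa22 ya38 za27) (ka xa22 ya38 za28) (ka xa13 ya44 za19) (ka xa13 ya44 za18) (ka xa22 ya38 za29) (ka xa18 ya18 za32) (ka xa22 ya32 za40) (ka xa22 ya32 za41) (ka xa17 ya23 za17) (ka xa13 ya44 za17) (ka xa22 ya32 za42) (ka xa13 ya43 za3) (ka xa7 ya2 za49) (ka xa22 ya38 za50) (ka xa22 ya38 za51) (ka xa13 ya22 za47) (ka xa22 ya32 za43) (ka xa22 ya32 za44) (ka xa22 ya32 za45) (ka xa14 ya1 za12) (ka xa22 ya32 za46)) (@D3.rec (fun _ => Pt) (ka xa7 ya2 za52) (ka xa14 ya38 za53) (ka xa14 ya38 za54) (ka xa14 ya38 za56) (ka xa20 ya24 za40) (ka xa22 ya32 za47) (ka xa14 ya42 za32) (ka xa14 ya49 za8) (ka xa7 ya2 za57) (ka xa22 ya39 za12) (ka xa14 ya50 za16) (ka xa7 ya46 za38) (ka xa7 ya46 za37) (ka xa22 ya32 za48) (ka xa22 ya32 za49) (ka xa22 ya29 za59) (ka xa14 ya53 za47) (ka xa22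 ya35 za24) (ka xa21 ya54 za27) (ka xa7 ya39 za8) (ka xa22 ya29 za54) (ka xa7 ya46 za26) (ka xa22 ya36 za4) (ka xa22 ya36 za5) (ka xa22 ya29 za56) (ka xa22 ya29 za57) (ka xa22 ya35 za25) (ka xa13 ya35 za33) (ka xa13 ya35 za31) (ka xa22 ya36 za6) (ka xa13 ya41 za61) (ka xa14 ya40 za40) (ka xa13 ya34 za51) (ka xa13 ya41 za18) (ka xa22 ya40 za1) (ka xa7 ya53 za50) (ka xa13 ya3 za32) (ka xa21 ya40 za24) (ka xa21 ya40 za25) (ka xa13 ya3 za30) (ka xa13 ya3 za31) (ka xa22 ya40 za16) (ka xa7 ya9 za11) (ka xa7 ya32 za4) (ka xa7 ya32 za3) (ka xa7 ya3 za20) (ka xa22 ya40 za18) (ka xa13 ya21 za56) (ka xa14 ya42 za35) (ka xa14 ya42 za51) (ka xa14 ya42 za49) (ka xa18 ya47 za55) (ka xa19 ya25 za30) (ka xa7 ya32 za41) (ka xa21 ya40 za26) (ka xa21 ya40 za28) (ka xa22 ya40 za32) (ka xa13 ya21 za24) (ka xa14 ya42 za48) (ka xa13 ya21 za25)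 (ka xa22 ya40 za41) (ka xa22 ya32 za54)) (@D3.rec (fun _ => Pt) (ka xa22 ya32 za55) (ka xa22 ya32 za56) (ka xa22 ya32 za57) (ka xa22 ya32 za58) (ka xa22 ya27 za21) (ka xa7 ya37 za53) (ka xa7 ya46 za60) (ka xa7 ya37 za51) (ka xa14 ya5 za59) (ka xa22 ya41 za0) (ka xa14 ya41 za48) (ka xa7 ya3 za33) (ka xa17 ya28 za34) (ka xa22 ya41 za1) (ka xa22 ya33 za0) (ka xa7 ya9 za45) (ka xa16 ya24 za7) (ka xa7 ya9 za42) (ka xa13 ya38 za31) (ka xa7 ya3 za39) (ka xa20 ya28 za57) (ka xa13 ya38 za37) (ka xa22 ya41 za14) (ka xa19 ya51 za46) (ka xa14 ya43 za55) (ka xa14 ya43 za54) (ka xa11 ya55 za58) (ka xa11 ya50 za37) (ka xa7 ya34 za15) (ka xa22 ya41 za18) (ka xa22 ya33 za2) (ka xa22 ya33 za3) (ka xa22 ya33 za4) (ka xa8 ya29 za14) (ka xa15 ya55 za17) (ka xa22 ya21 za35) (ka xa13 ya43 za13) (ka xa7 ya34 za17) (ka xa14 ya43 za19) (ka xa7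 ya3 za55) (ka xa22 ya41 za23) (ka xa22 ya33 za5) (ka xa22 ya41 za30) (ka xa7 ya52 za52) (ka xa17 ya17 za20) (ka xa7 ya38 za52) (ka xa13 ya29 za52) (ka xa22 ya29 za61) (ka xa22 ya30 za0) (ka xa22 ya41 za44) (ka xa13 ya41 za4) (ka xa22 ya34 za9) (ka xa22 ya34 za10) (ka xa22 ya30 za1) (ka xa22 ya30 za2) (ka xa7 ya9 za29) (ka xa7 ya48 za52) (ka xa7 ya19 za43) (ka xa7 ya4 za4) (ka xa22 ya30 za32) (ka xa22 ya41 za58) (ka xa7 ya19 za54)) (@D3.rec (fun _ => Pt) (ka xa7 ya49 za1) (ka xa7 ya49 za0) (ka xa7 ya4 za7) (ka xa7 ya49 za6) (ka xa7 ya49 za5) (ka xa7 ya4 za8) (ka xa22 ya42 za8) (ka xa7 ya19 za31) (ka xa22 ya42 za14) (ka xa7 ya19 za26) (ka xa21 ya57 za0) (ka xa21 ya57 za1) (ka xa21 ya57 za2) (ka xa7 ya4 za17) (ka xa7 ya4 za21) (ka xa7 ya15 za35) (ka xa22 ya32 za51) (ka xa20 ya27 za26) (ka xa20 ya27 za27) (ka xa13 ya8 za32)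 (ka xa13 ya53 za34) (ka xa22 ya42 za24) (ka xa13 ya4 za12) (ka xa22 ya42 za35) (ka xa12 ya25 za33) (ka xa20 ya10 za24) (ka xa22 ya33 za23) (ka xa12 ya25 za48) (ka xa11 ya44 za51) (ka xa7 ya50 za56) (ka xa7 ya8 za53) (ka xa7 ya48 za42) (ka xa13 ya27 za10) (ka xa13 ya27 za11) (ka xa13 ya39 za11) (ka xa13 ya39 za12) (ka xa21 ya14 za37) (ka xa13 ya25 za21) (ka xa13 ya25 za22) (ka xa13 ya25 za23) (ka xa14 ya5 za56) (ka xa13 ya25 za28) (ka xa7 ya4 za37) (ka xa7 ya4 za38) (ka xa7 ya4 za40) (ka xa21 ya55 za24) (ka xa7 ya22 za53) (ka xa7 ya22 za52) (ka xa7 ya4 za31) (ka xa22 ya43 za6) (ka xa13 ya25 za33) (ka xa13 ya25 za34) (ka xa7 ya50 za27) (ka xa7 ya53 za45) (ka xa14 ya5 za57) (ka xa14 ya5 za58) (ka xa22 ya43 za28) (ka xa13 ya25 za41) (ka xa13 ya25 za42) (ka xa22 ya43 za35) (ka xa13 ya25 za38) (ka xa13 ya25 za39)) (@D3.rec (fun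 _ => Pt) (ka xa13 ya25 za44) (ka xa13 ya25 za43) (ka xa22 ya43 za44) (ka xa13 ya25 za60) (ka xa22 ya43 za1) (ka xa22 ya43 za2) (ka xa21 ya26 za39) (ka xa21 ya24 za52) (ka xa22 ya43 za53) (ka xa19 ya56 za43) (ka xa22 ya43 za56) (ka xa13 ya13 za4) (ka xa22 ya43 za58) (ka xa13 ya25 za46) (ka xa14 ya49 za41) (ka xa22 ya44 za1) (ka xa7 ya24 za40) (ka xa13 ya3 za59) (ka xa7 ya27 za58) (ka xa7 ya4 za51) (ka xa22 ya44 za4) (ka xa13 ya24 za37) (ka xa13 ya24 za38) (ka xa13 ya24 za39) (ka xa13 ya56 za60) (ka xa13 ya8 za44) (ka xa7 ya5 za0) (ka xa7 ya5 za1) (ka xa13 ya24 za41) (ka xa7 ya28 za56) (ka xa7 ya28 za55) (ka xa7 ya4 za57) (ka xa22 ya44 za29) (ka xa13 ya24 za50) (ka xa13 ya24 za51) (ka xa13 ya56 za61) (ka xa13 ya57 za0) (ka xa22 ya44 za45) (ka xa13 ya24 za60) (ka xa13 ya24 za61) (ka xa22 ya44 za50) (ka xa13 ya24 za57) (ka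 xa13 ya24 za58) (ka xa13 ya25 za1) (ka xa13 ya25 za0) (ka xa22 ya44 za61) (ka xa13 ya25 za13) (ka xa13 ya57 za29) (ka xa22 ya44 za22) (ka xa22 ya44 za23) (ka xa14 ya47 za10) (ka xa22 ya44 za24) (ka xa22 ya45 za10) (ka xa22 ya45 za12) (ka xa14 ya47 za9) (ka xa7 ya30 za9) (ka xa22 ya45 za15) (ka xa22 ya37 za51) (ka xa22 ya45 za18) (ka xa22 ya45 za20) (ka xa13 ya25 za3) (ka xa14 ya46 za28)) (@D3.rec (fun _ => Pt) (ka xa19 ya56 za46) (ka xa13 ya9 za46) (ka xa13 ya13 za33) (ka xa13 ya13 za32) (ka xa7 ya5 za14) (ka xa22 ya45 za26) (ka xa13 ya2 za40) (ka xa13 ya5 za7) (ka xa13 ya5 za6) (ka xa13 ya59 za29) (ka xa7 ya5 za26) (ka xa7 ya29 za55) (ka xa7 ya5 za18) (ka xa22 ya45 za42) (ka xa7 ya30 za8) (ka xa13 ya2 za36) (ka xa13 ya2 za35) (ka xa7 ya5 za20) (ka xa22 ya45 za47) (ka xa13 ya13 za36) (ka xa13 ya13 za38) (ka xa13 ya13 za37)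 (ka xa7 ya5 za22) (ka xa22 ya45 za58) (ka xa7 ya29 za43) (ka xa22 ya30 za38) (ka xa7 ya29 za36) (ka xa18 ya26 za33) (ka xa12 ya19 za55) (ka xa22 ya45 za38) (ka xa22 ya45 za39) (ka xa22 ya45 za40) (ka xa13 ya4 za34) (ka xa13 ya4 za33) (ka xa7 ya5 za30) (ka xa13 ya4 za32) (ka xa13 ya38 za50) (ka xa7 ya33 za51) (ka xa13 ya38 za10) (ka xa13 ya38 za8) (ka xa16 ya24 za14) (ka xa16 ya21 za11) (ka xa13 ya38 za18) (ka xa13 ya49 za9) (ka xa7 ya14 za33) (ka xa13 ya38 za26) (ka xa13 ya38 za27) (ka xa13 ya38 za60) (ka xa7 ya5 za43) (ka xa22 ya46 za18) (ka xa13 ya38 za58) (ka xa13 ya38 za59) (ka xa7 ya6 za8) (ka xa7 ya5 za45) (ka xa20 ya1 za38) (ka xa7 ya40 za37) (ka xa13 ya39 za2) (ka xa8 ya47 za6) (ka xa7 ya15 za13) (ka xa20 ya6 za19) (ka xa13 ya39 za3) (ka xa11 ya7 za11)) (@D3.rec (fun _ => Pt) (ka xa20 ya6 za21) (ka xa13 ya39 za5)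 (ka xa13 ya39 za6) (ka xa7 ya48 za43) (ka xa7 ya47 za0) (ka xa7 ya48 za32) (ka xa13 ya39 za8) (ka xa13 ya38 za43) (ka xa13 ya38 za44) (ka xa13 ya38 za45) (ka xa13 ya24 za32) (ka xa13 ya24 za33) (ka xa22 ya14 za21) (ka xa7 ya46 za46) (ka xa7 ya48 za31) (ka xa7 ya48 za36) (ka xa7 ya48 za37) (ka xa7 ya6 za56) (ka xa7 ya6 za55) (ka xa13 ya39 za14) (ka xa13 ya39 za13) (ka xa7 ya5 za59) (ka xa7 ya11 za36) (ka xa7 ya5 za60) (ka xa22 ya14 za41) (ka xa13 ya46 za18) (ka xa22 ya47 za0) (ka xa7 ya6 za2) (ka xa13 ya17 za37) (ka xa13 ya17 za34) (ka xa22 ya47 za1) (ka xa13 ya39 za22) (ka xa13 ya39 za23) (ka xa13 ya39 za24) (ka xa13 ya16 za9) (ka xa13 ya38 za56) (ka xa13 ya38 za57) (ka xa20 ya6 za20) (ka xa13 ya38 za30) (ka xa13 ya38 za51) (ka xa13 ya38 za52) (ka xa12 ya45 za45) (ka xa12 ya45 za44) (ka xa13 ya38 za40) (ka xa17 ya30 za20)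 (ka xa12 ya47 za15) (ka xa13 ya38 za42) (ka xa13 ya39 za10) (ka xa7 ya39 za5) (ka xa13 ya4 za18) (ka xa8 ya48 za22) (ka xa8 ya44 za26) (ka xa13 ya9 za47) (ka xa13 ya39 za25) (ka xa8 ya1 za51) (ka xa8 ya1 za49) (ka xa13 ya39 za26) (ka xa13 ya31 za8) (ka xa13 ya31 za9) (ka xa13 ya31 za10) (ka xa13 ya31 za11) (ka xa13 ya10 za3)) (@D3.rec (fun _ => Pt) (ka xa13 ya39 za28) (ka xa13 ya39 za29) (ka xa20 ya25 za38) (ka xa13 ya39 za30) (ka xa13 ya39 za31) (ka xa13 ya39 za32) (ka xa13 ya39 za33) (ka xa13 ya39 za34) (ka xa13 ya39 za35) (ka xa13 ya39 za36) (ka xa7 ya8 za25) (ka xa7 ya8 za26) (ka xa7 ya8 za28) (ka xa7 ya8 za29) (ka xa7 ya8 za30) (ka xa20 ya25 za40) (ka xa7 ya8 za41) (ka xa7 ya8 za42) (ka xa7 ya8 za31) (ka xa7 ya6 za36) (ka xa22 ya47 za56) (ka xa14 ya43 za53) (ka xa7 ya8 za51) (ka xa7 ya8 za52) (ka xa20 ya1 za60) (ka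 xa7 ya8 za56) (ka xa7 ya8 za58) (ka xa22 ya48 za7) (ka xa7 ya8 za60) (ka xa7 ya9 za0) (ka xa7 ya9 za1) (ka xa7 ya9 za2) (ka xa18 ya52 za55) (ka xa7 ya9 za5) (ka xa7 ya9 za6) (ka xa7 ya9 za15) (ka xa7 ya9 za36) (ka xa7 ya6 za44) (ka xa22 ya48 za24) (ka xa7 ya9 za22) (ka xa7 ya9 za23) (ka xa21 ya11 za54) (ka xa7 ya9 za40) (ka xa7 ya9 za41) (ka xa7 ya36 za3) (ka xa13 ya8 za41) (ka xa7 ya9 za56) (ka xa7 ya9 za57) (ka xa7 ya10 za28) (ka xa7 ya10 za27) (ka xa7 ya6 za50) (ka xa22 ya48 za46) (ka xa7 ya10 za25) (ka xa7 ya10 za20) (ka xa7 ya10 za19) (ka xa7 ya6 za52) (ka xa22 ya48 za56) (ka xa22 ya48 za57) (ka xa7 ya10 za32) (ka xa22 ya28 za4) (ka xa22 ya46 za57) (ka xa13 ya45 za20)) (@D3.rec (fun _ => Pt) (ka xa22 ya49 za8) (ka xa22 ya46 za55) (ka xa13 ya45 za19) (ka xa22 ya26 za45) (ka xa7 ya6 za58) (ka xa13 ya36 za1) (ka xa22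 ya49 za14) (ka xa22 ya49 za15) (ka xa7 ya10 za50) (ka xa7 ya10 za51) (ka xa7 ya10 za52) (ka xa7 ya40 za43) (ka xa13 ya32 za22) (ka xa7 ya7 za2) (ka xa7 ya7 za5) (ka xa22 ya49 za34) (ka xa13 ya40 za39) (ka xa22 ya30 za34) (ka xa21 ya12 za39) (ka xa17 ya54 za46) (ka xa20 ya21 za20) (ka xa18 ya21 za50) (ka xa13 ya18 za8) (ka xa11 ya15 za28) (ka xa13 ya40 za61) (ka xa11 ya15 za34) (ka xa13 ya41 za7) (ka xa7 ya7 za12) (ka xa22 ya49 za56) (ka xa22 ya49 za57) (ka xa13 ya41 za5) (ka xa13 ya41 za6) (ka xa22 ya29 za7) (ka xa13 ya41 za10) (ka xa13 ya41 za11) (ka xa22 ya50 za8) (ka xa13 ya30 za44) (ka xa13 ya41 za12) (ka xa11 ya15 za45) (ka xa13 ya30 za45) (ka xa13 ya41 za14) (ka xa13 ya41 za15) (ka xa13 ya41 za16) (ka xa22 ya50 za26) (ka xa13 ya41 za19) (ka xa10 ya14 za50) (ka xa13 ya13 za61) (ka xa13 ya14 za0) (ka xa7 ya53 za51)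 (ka xa13 ya12 za50) (ka xa7 ya53 za55) (ka xa22 ya50 za36) (ka xa13 ya23 za46) (ka xa14 ya23 za27) (ka xa7 ya7 za26) (ka xa17 ya17 za23) (ka xa13 ya34 za49) (ka xa7 ya37 za45) (ka xa7 ya37 za43) (ka xa7 ya7 za31) (ka xa7 ya47 za10) (ka xa7 ya47 za9)) (@D3.rec (fun _ => Pt) (ka xa22 ya50 za45) (ka xa13 ya40 za30) (ka xa13 ya41 za1) (ka xa13 ya41 za2) (ka xa11 ya15 za44) (ka xa11 ya15 za43) (ka xa8 ya43 za27) (ka xa8 ya43 za28) (ka xa8 ya43 za56) (ka xa7 ya56 za18) (ka xa13 ya40 za59) (ka xa13 ya31 za3) (ka xa13 ya40 za52) (ka xa22 ya51 za3) (ka xa13 ya31 za4) (ka xa13 ya40 za54) (ka xa13 ya40 za55) (ka xa13 ya40 za56) (ka xa18 ya33 za45) (ka xa13 ya41 za28) (ka xa13 ya41 za29) (ka xa12 ya8 za20) (ka xa13 ya41 za25) (ka xa7 ya7 za53) (ka xa7 ya7 za54) (ka xa7 ya7 za56) (ka xa7 ya39 za25) (ka xa14 ya19 za55) (ka xa22 ya51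 za10) (ka xa20 ya52 za1) (ka xa22 ya29 za18) (ka xa22 ya51 za11) (ka xa16 ya53 za4) (ka xa16 ya53 za5) (ka xa16 ya53 za3) (ka xa16 ya53 za6) (ka xa8 ya44 za17) (ka xa8 ya44 za5) (ka xa8 ya44 za7) (ka xa8 ya44 za9) (ka xa8 ya44 za11) (ka xa13 ya41 za46) (ka xa13 ya41 za57) (ka xa13 ya41 za59) (ka xa13 ya29 za36) (ka xa13 ya29 za39) (ka xa22 ya51 za43) (ka xa13 ya42 za0) (ka xa13 ya42 za1) (ka xa12 ya8 za24) (ka xa22 ya47 za19) (ka xa22 ya29 za21) (ka xa22 ya29 za19) (ka xa22 ya29 za20) (ka xa20 ya21 za17) (ka xa20 ya21 za18) (ka xa20 ya21 za16) (ka xa13 ya41 za41) (ka xa8 ya44 za6) (ka xa13 ya41 za42) (ka xa13 ya41 za43) (ka xa12 ya6 za11)) (@D3.rec (fun _ => Pt) (ka xa13 ya41 za47) (ka xa13 ya41 za58) (ka xa13 ya41 za48) (ka xa13 ya30 za11) (ka xa13 ya30 za14) (ka xa22 ya52 za8) (ka xa8 ya48 za6) (ka xa9 ya25 za30) (ka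 xa13 ya27 za57) (ka xa13 ya27 za58) (ka xa13 ya27 za59) (ka xa13 ya27 za60) (ka xa7 ya14 za34) (ka xa7 ya14 za36) (ka xa7 ya14 za37) (ka xa7 ya14 za38) (ka xa12 ya5 za3) (ka xa7 ya39 za19) (ka xa15 ya10 za27) (ka xa20 ya29 za31) (ka xa20 ya29 za32) (ka xa7 ya19 za19) (ka xa22 ya47 za41) (ka xa22 ya47 za42) (ka xa22 ya47 za43) (ka xa8 ya48 za30) (ka xa8 ya48 za24) (ka xa22 ya47 za44) (ka xa22 ya47 za45) (ka xa22 ya47 za46) (ka xa21 ya10 za61) (ka xa22 ya47 za47) (ka xa22 ya47 za48) (ka xa14 ya19 za40) (ka xa22 ya47 za55) (ka xa7 ya8 za34) (ka xa7 ya8 za35) (ka xa7 ya39 za46) (ka xa22 ya47 za58) (ka xa22 ya47 za57) (ka xa22 ya52 za61) (ka xa22 ya53 za0) (ka xa13 ya41 za37) (ka xa22 ya29 za43) (ka xa20 ya32 za29) (ka xa13 ya42 za23) (ka xa14 ya27 za57) (ka xa14 ya28 za11) (ka xa14 ya27 za54) (ka xa14 ya28 za14) (ka xa13 ya33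 za13) (ka xa13 ya33 za16) (ka xa22 ya53 za29) (ka xa14 ya27 za21) (ka xa22 ya47 za51) (ka xa22 ya47 za52) (ka xa22 ya47 za53) (ka xa7 ya17 za58) (ka xa22 ya47 za54) (ka xa7 ya17 za57) (ka xa20 ya1 za61) (ka xa7 ya8 za46)) (@D3.rec (fun _ => Pt) (ka xa7 ya8 za47) (ka xa7 ya8 za48) (ka xa15 ya18 za24) (ka xa22 ya53 za48) (ka xa22 ya47 za49) (ka xa16 ya28 za50) (ka xa16 ya27 za38) (ka xa22 ya42 za7) (ka xa13 ya41 za55) (ka xa22 ya53 za49) (ka xa22 ya53 za50) (ka xa15 ya38 za55) (ka xa14 ya27 za20) (ka xa22 ya48 za0) (ka xa22 ya48 za1) (ka xa16 ya28 za37) (ka xa22 ya48 za2) (ka xa7 ya8 za55) (ka xa22 ya54 za4) (ka xa22 ya54 za5) (ka xa22 ya54 za6) (ka xa13 ya33 za0) (ka xa13 ya29 za12) (ka xa18 ya51 za18) (ka xa8 ya6 za23) (ka xa22 ya48 za4) (ka xa22 ya48 za5) (ka xa22 ya48 za6) (ka xa7 ya8 za59) (ka xa22 ya54 za27) (ka xa22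 ya54 za28) (ka xa22 ya54 za29) (ka xa18 ya51 za25) (ka xa7 ya42 za38) (ka xa22 ya48 za11) (ka xa22 ya48 za12) (ka xa22 ya48 za13) (ka xa22 ya48 za14) (ka xa22 ya54 za45) (ka xa22 ya48 za16) (ka xa22 ya54 za51) (ka xa7 ya40 za23) (ka xa22 ya48 za18) (ka xa20 ya44 za1) (ka xa14 ya18 za30) (ka xa20 ya43 za31) (ka xa20 ya44 za2) (ka xa14 ya52 za21) (ka xa14 ya52 za22) (ka xa14 ya52 za24) (ka xa22 ya48 za19) (ka xa22 ya48 za20) (ka xa22 ya48 za21) (ka xa7 ya50 za21) (ka xa7 ya9 za9) (ka xa22 ya55 za16) (ka xa7 ya50 za19) (ka xa7 ya50 za20) (ka xa13 ya40 za28) (ka xa13 ya40 za27) (ka xa7 ya9 za14) (ka xa22 ya55 za24)) (@D3.rec (fun _ => Pt) (ka xa13 ya32 za21) (ka xa22 ya48 za22) (ka xa7 ya52 za36) (ka xa21 ya14 za61) (ka xa7 ya9 za18) (ka xa7 ya9 za19) (ka xa22 ya48 za31) (ka xa22 ya48 za30) (ka xa22 ya55 za34) (ka xa22 ya55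 za35) (ka xa13 ya49 za24) (ka xa22 ya55 za36) (ka xa20 ya8 za0) (ka xa13 ya31 za50) (ka xa14 ya28 za17) (ka xa13 ya43 za53) (ka xa13 ya31 za51) (ka xa14 ya28 za21) (ka xa22 ya55 za59) (ka xa22 ya48 za26) (ka xa22 ya48 za27) (ka xa22 ya48 za28) (ka xa13 ya49 za46) (ka xa22 ya48 za29) (ka xa7 ya17 za60) (ka xa14 ya49 za30) (ka xa22 ya56 za14) (ka xa19 ya31 za0) (ka xa7 ya32 za38) (ka xa7 ya9 za28) (ka xa22 ya56 za16) (ka xa22 ya41 za55) (ka xa7 ya38 za38) (ka xa7 ya9 za30) (ka xa22 ya56 za22) (ka xa22 ya27 za47) (ka xa7 ya38 za50) (ka xa7 ya38 za51) (ka xa22 ya56 za33) (ka xa7 ya15 za14) (ka xa22 ya48 za23) (ka xa7 ya9 za38) (ka xa7 ya9 za39) (ka xa13 ya43 za42) (ka xa14 ya28 za25) (ka xa22 ya56 za38) (ka xa20 ya35 za55) (ka xa13 ya44 za3) (ka xa20 ya36 za29) (ka xa22 ya23 za56) (ka xa22 ya54 za57) (ka xa22 ya48 za34) (ka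 xa22 ya48 za35) (ka xa16 ya24 za38) (ka xa22 ya41 za9) (ka xa21 ya11 za55) (ka xa22 ya41 za8) (ka xa7 ya48 za40) (ka xa14 ya26 za33) (ka xa7 ya9 za44) (ka xa22 ya53 za1) (ka xa22 ya41 za6)) (@D3.rec (fun _ => Pt) (ka xa22 ya57 za4) (ka xa7 ya35 za43) (ka xa7 ya35 za42) (ka xa7 ya9 za51) (ka xa22 ya57 za9) (ka xa7 ya42 za39) (ka xa22 ya57 za15) (ka xa14 ya52 za20) (ka xa10 ya33 za30) (ka xa7 ya46 za16) (ka xa8 ya19 za37) (ka xa22 ya48 za41) (ka xa22 ya48 za42) (ka xa22 ya48 za43) (ka xa22 ya48 za44) (ka xa7 ya33 za49) (ka xa7 ya33 za48) (ka xa7 ya9 za59) (ka xa20 ya33 za12) (ka xa13 ya15 za46) (ka xa7 ya16 za5) (ka xa7 ya16 za4) (ka xa7 ya9 za61) (ka xa7 ya24 za30) (ka xa7 ya16 za56) (ka xa7 ya34 za16) (ka xa7 ya34 za14) (ka xa7 ya10 za3) (ka xa7 ya34 za19) (ka xa7 ya34 za18) (ka xa22 ya57 za43) (ka xa18 ya51 za50) (ka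 xa13 ya44 za43) (ka xa13 ya44 za44) (ka xa13 ya44 za45) (ka xa13 ya15 za21) (ka xa13 ya15 za20) (ka xa7 ya10 za5) (ka xa22 ya57 za58) (ka xa13 ya8 za26) (ka xa7 ya10 za12) (ka xa7 ya10 za13) (ka xa14 ya26 za36) (ka xa14 ya26 za35) (ka xa13 ya12 za47) (ka xa14 ya16 za4) (ka xa22 ya0 za39) (ka xa13 ya46 za21) (ka xa13 ya46 za22) (ka xa13 ya29 za56) (ka xa13 ya46 za23) (ka xa13 ya22 za32) (ka xa13 ya9 za32) (ka xa13 ya11 za46) (ka xa22 ya45 za32) (ka xa7 ya45 za41) (ka xa22 ya49 za1) (ka xa22 ya48 za54) (ka xa7 ya10 za22) (ka xa7 ya10 za23) (ka xa7 ya10 za24) (ka xa7 ya24 za41)) (@D3.rec (fun _ => Pt) (ka xa22 ya58 za23) (ka xa13 ya19 za22) (ka xa13 ya19 za19) (ka xa22 ya58 za24) (ka xa22 ya58 za25) (ka xa7 ya40 za51) (ka xa22 ya58 za26) (ka xa22 ya48 za51) (ka xa22 ya48 za52) (ka xa7 ya46 za52) (ka xa22 ya48 za53) (ka xa7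 ya46 za51) (ka xa22 ya49 za7) (ka xa7 ya46 za4) (ka xa13 ya45 za8) (ka xa22 ya58 za58) (ka xa7 ya46 za3) (ka xa13 ya45 za7) (ka xa22 ya26 za8) (ka xa7 ya10 za30) (ka xa7 ya10 za31) (ka xa22 ya48 za48) (ka xa22 ya48 za47) (ka xa22 ya59 za2) (ka xa22 ya59 za3) (ka xa22 ya58 za61) (ka xa22 ya59 za4) (ka xa22 ya59 za5) (ka xa22 ya59 za6) (ka xa14 ya35 za40) (ka xa22 ya48 za61) (ka xa13 ya22 za28) (ka xa22 ya49 za0) (ka xa13 ya22 za27) (ka xa13 ya10 za5) (ka xa7 ya10 za35) (ka xa22 ya59 za29) (ka xa14 ya44 za46) (ka xa13 ya11 za54) (ka xa13 ya11 za52) (ka xa13 ya11 za47) (ka xa7 ya10 za39) (ka xa22 ya59 za34) (ka xa13 ya49 za55) (ka xa13 ya49 za56) (ka xa7 ya10 za43) (ka xa7 ya10 za44) (ka xa10 ya25 za36) (ka xa13 ya45 za12) (ka xa13 ya45 za13) (ka xa22 ya59 za45) (ka xa10 ya57 za13) (ka xa13 ya6 za5) (ka xa22 ya59 za38) (ka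 xa22 ya59 za39) (ka xa22 ya59 za40) (ka xa22 ya17 za41) (ka xa7 ya10 za46) (ka xa22 ya59 za58) (ka xa10 ya27 za17) (ka xa13 ya45 za0) (ka xa13 ya45 za1)) (@D3.rec (fun _ => Pt) (ka xa13 ya45 za3) (ka xa13 ya29 za5) (ka xa13 ya16 za26) (ka xa7 ya10 za48) (ka xa23 ya0 za6) (ka xa13 ya36 za18) (ka xa13 ya36 za19) (ka xa13 ya21 za23) (ka xa13 ya36 za17) (ka xa23 ya0 za18) (ka xa14 ya17 za25) (ka xa22 ya49 za27) (ka xa22 ya49 za28) (ka xa23 ya0 za32) (ka xa14 ya17 za26) (ka xa22 ya49 za30) (ka xa22 ya49 za31) (ka xa13 ya36 za8) (ka xa13 ya36 za5) (ka xa13 ya36 za6) (ka xa13 ya43 za55) (ka xa13 ya36 za56) (ka xa13 ya36 za57) (ka xa23 ya0 za49) (ka xa13 ya36 za53) (ka xa13 ya36 za54) (ka xa13 ya36 za59) (ka xa13 ya36 za58) (ka xa13 ya37 za9) (ka xa19 ya45 za22) (ka xa19 ya45 za21) (ka xa23 ya1 za0) (ka xa13 ya8 za58) (ka xa22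 ya22 za14) (ka xa7 ya24 za25) (ka xa17 ya2 za17) (ka xa13 ya36 za61) (ka xa14 ya50 za51) (ka xa7 ya35 za16) (ka xa7 ya11 za2) (ka xa9 ya10 za36) (ka xa13 ya8 za39) (ka xa13 ya8 za40) (ka xa7 ya40 za25) (ka xa7 ya40 za26) (ka xa7 ya11 za12) (ka xa7 ya11 za13) (ka xa13 ya9 za34) (ka xa7 ya11 za19) (ka xa18 ya44 za32) (ka xa13 ya10 za26) (ka xa13 ya10 za27) (ka xa23 ya1 za19) (ka xa13 ya36 za24) (ka xa13 ya36 za25) (ka xa23 ya1 za25) (ka xa13 ya36 za21) (ka xa13 ya36 za22) (ka xa13 ya36 za27) (ka xa13 ya36 za26) (ka xa23 ya1 za33) (ka xa13 ya36 za36)) (@D3.rec (fun _ => Pt) (ka xa23 ya1 za14) (ka xa17 ya23 za59) (ka xa22 ya36 za51) (ka xa17 ya23 za57) (ka xa23 ya1 za44) (ka xa17 ya24 za33) (ka xa22 ya2 za49) (ka xa14 ya29 za47) (ka xa11 ya4 za9) (ka xa13 ya36 za28) (ka xa23 ya1 za16) (ka xa14 ya42 za45) (ka xa23 ya1 za53)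 (ka xa12 ya19 za13) (ka xa12 ya19 za12) (ka xa7 ya11 za22) (ka xa18 ya37 za30) (ka xa13 ya37 za25) (ka xa13 ya54 za44) (ka xa7 ya11 za29) (ka xa7 ya29 za31) (ka xa7 ya11 za26) (ka xa7 ya29 za38) (ka xa7 ya11 za27) (ka xa23 ya2 za3) (ka xa13 ya37 za17) (ka xa23 ya1 za61) (ka xa23 ya2 za0) (ka xa23 ya2 za1) (ka xa13 ya39 za16) (ka xa13 ya8 za7) (ka xa7 ya11 za33) (ka xa22 ya16 za23) (ka xa13 ya13 za24) (ka xa13 ya13 za23) (ka xa22 ya27 za58) (ka xa7 ya24 za21) (ka xa14 ya17 za5) (ka xa13 ya49 za57) (ka xa17 ya57 za29) (ka xa12 ya21 za26) (ka xa12 ya21 za25) (ka xa7 ya11 za38) (ka xa21 ya56 za28) (ka xa23 ya2 za30) (ka xa13 ya38 za3) (ka xa21 ya5 za17) (ka xa12 ya27 za28) (ka xa12 ya21 za42) (ka xa12 ya21 za43) (ka xa23 ya2 za45) (ka xa12 ya21 za39) (ka xa12 ya21 za40) (ka xa7 ya11 za44) (ka xa10 ya23 za0) (ka xa12 ya24 za37)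 (ka xa8 ya22 za59) (ka xa13 ya46 za41) (ka xa7 ya11 za53) (ka xa7 ya19 za22) (ka xa7 ya11 za49) (ka xa23 ya2 za58)) (@D3.rec (fun _ => Pt) (ka xa7 ya19 za27) (ka xa7 ya11 za51) (ka xa23 ya3 za1) (ka xa13 ya37 za45) (ka xa23 ya2 za55) (ka xa23 ya2 za56) (ka xa23 ya2 za57) (ka xa13 ya18 za9) (ka xa13 ya26 za39) (ka xa7 ya17 za3) (ka xa13 ya26 za38) (ka xa7 ya18 za8) (ka xa7 ya12 za3) (ka xa7 ya12 za4) (ka xa7 ya12 za6) (ka xa7 ya27 za47) (ka xa23 ya3 za20) (ka xa22 ya49 za44) (ka xa13 ya26 za42) (ka xa7 ya27 za48) (ka xa16 ya26 za42) (ka xa13 ya51 za53) (ka xa12 ya23 za3) (ka xa8 ya45 za57) (ka xa7 ya23 za7) (ka xa12 ya22 za51) (ka xa13 ya26 za45) (ka xa13 ya26 za46) (ka xa8 ya45 za53) (ka xa8 ya45 za41) (ka xa13 ya27 za38) (ka xa13 ya23 za18) (ka xa7 ya12 za12) (ka xa11 ya22 za4) (ka xa23 ya3 za38) (ka xa7 ya12 za34) (ka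 xa7 ya12 za15) (ka xa13 ya23 za21) (ka xa11 ya49 za48) (ka xa12 ya46 za17) (ka xa13 ya27 za43) (ka xa14 ya6 za50) (ka xa13 ya27 za46) (ka xa13 ya27 za7) (ka xa13 ya27 za8) (ka xa13 ya27 za9) (ka xa13 ya4 za14) (ka xa12 ya45 za47) (ka xa7 ya17 za52) (ka xa14 ya28 za13) (ka xa13 ya26 za36) (ka xa13 ya27 za39) (ka xa13 ya27 za40) (ka xa8 ya45 za50) (ka xa8 ya45 za49) (ka xa8 ya45 za52) (ka xa13 ya27 za35) (ka xa13 ya27 za36) (ka xa13 ya26 za50) (ka xa13 ya26 za51) (ka xa13 ya26 za47) (ka xa7 ya12 za39)) (@D3.rec (fun _ => Pt) (ka xa23 ya4 za6) (ka xa14 ya28 za23) (ka xa13 ya26 za56) (ka xa13 ya26 za60) (ka xa23 ya4 za13) (ka xa13 ya27 za1) (ka xa13 ya27 za2) (ka xa23 ya4 za18) (ka xa13 ya27 za6) (ka xa8 ya46 za24) (ka xa13 ya27 za47) (ka xa13 ya24 za34) (ka xa13 ya24 za35) (ka xa13 ya27 za20) (ka xa13 ya27 za19) (ka xa7 ya12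 za49) (ka xa13 ya37 za29) (ka xa13 ya14 za47) (ka xa7 ya48 za24) (ka xa7 ya12 za53) (ka xa23 ya4 za25) (ka xa23 ya4 za26) (ka xa13 ya27 za31) (ka xa13 ya27 za32) (ka xa13 ya27 za33) (ka xa13 ya27 za53) (ka xa13 ya27 za56) (ka xa14 ya32 za19) (ka xa13 ya28 za0) (ka xa13 ya28 za1) (ka xa13 ya28 za3) (ka xa13 ya28 za4) (ka xa13 ya28 za5) (ka xa13 ya28 za6) (ka xa13 ya28 za7) (ka xa13 ya28 za8) (ka xa13 ya28 za9) (ka xa21 ya14 za40) (ka xa7 ya14 za43) (ka xa7 ya14 za44) (ka xa7 ya14 za45) (ka xa7 ya14 za39) (ka xa7 ya13 za2) (ka xa20 ya30 za22) (ka xa7 ya14 za51) (ka xa7 ya14 za52) (ka xa21 ya14 za41) (ka xa7 ya14 za55) (ka xa7 ya14 za57) (ka xa11 ya50 za32) (ka xa7 ya14 za59) (ka xa7 ya14 za61) (ka xa7 ya15 za0) (ka xa7 ya15 za1) (ka xa23 ya5 za19) (ka xa7 ya15 za3) (ka xa7 ya15 za4) (ka xa7 ya15 za5) (ka xa7 ya15 za9) (ka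 xa7 ya15 za18) (ka xa7 ya13 za9) (ka xa23 ya1 za20)) (@D3.rec (fun _ => Pt) (ka xa7 ya15 za15) (ka xa7 ya15 za16) (ka xa7 ya15 za10) (ka xa7 ya13 za11) (ka xa15 ya53 za23) (ka xa7 ya15 za22) (ka xa7 ya15 za23) (ka xa19 ya30 za59) (ka xa23 ya5 za39) (ka xa13 ya16 za46) (ka xa22 ya17 za35) (ka xa13 ya10 za43) (ka xa14 ya48 za14) (ka xa7 ya15 za49) (ka xa7 ya15 za50) (ka xa14 ya8 za49) (ka xa14 ya17 za36) (ka xa13 ya50 za19) (ka xa13 ya16 za25) (ka xa22 ya17 za33) (ka xa22 ya17 za34) (ka xa7 ya16 za14) (ka xa7 ya16 za15) (ka xa7 ya16 za16) (ka xa7 ya39 za12) (ka xa7 ya39 za11) (ka xa7 ya13 za25) (ka xa13 ya32 za59) (ka xa13 ya32 za58) (ka xa20 ya37 za8) (ka xa13 ya30 za1) (ka xa7 ya39 za20) (ka xa7 ya18 za17) (ka xa7 ya39 za21) (ka xa12 ya8 za39) (ka xa12 ya8 za34) (ka xa7 ya20 za25) (ka xa22 ya28 za36) (ka xa22 ya28 za37)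 (ka xa13 ya29 za16) (ka xa7 ya20 za26) (ka xa16 ya20 za29) (ka xa13 ya15 za32) (ka xa7 ya47 za57) (ka xa7 ya13 za35) (ka xa16 ya34 za60) (ka xa7 ya47 za61) (ka xa7 ya13 za48) (ka xa7 ya13 za37) (ka xa7 ya48 za2) (ka xa7 ya18 za12) (ka xa23 ya6 za21) (ka xa13 ya30 za12) (ka xa16 ya54 za4) (ka xa13 ya30 za15) (ka xa13 ya30 za16) (ka xa13 ya30 za17) (ka xa23 ya6 za27) (ka xa13 ya11 za19) (ka xa13 ya30 za10) (ka xa16 ya54 za3) (ka xa13 ya29 za24)) (@D3.rec (fun _ => Pt) (ka xa8 ya46 za10) (ka xa13 ya30 za2) (ka xa13 ya30 za3) (ka xa7 ya18 za28) (ka xa13 ya23 za50) (ka xa13 ya29 za30) (ka xa13 ya29 za31) (ka xa13 ya29 za26) (ka xa7 ya13 za54) (ka xa23 ya6 za39) (ka xa13 ya29 za33) (ka xa13 ya29 za34) (ka xa13 ya29 za37) (ka xa20 ya11 za17) (ka xa13 ya29 za40) (ka xa13 ya29 za41) (ka xa13 ya29 za42) (ka xa18 ya53 za15) (ka xa13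 ya22 za33) (ka xa13 ya29 za44) (ka xa13 ya14 za27) (ka xa7 ya53 za53) (ka xa7 ya53 za54) (ka xa7 ya35 za60) (ka xa7 ya35 za61) (ka xa13 ya30 za22) (ka xa11 ya27 za61) (ka xa11 ya41 za43) (ka xa13 ya30 za19) (ka xa13 ya30 za20) (ka xa7 ya14 za11) (ka xa7 ya14 za20) (ka xa13 ya7 za14) (ka xa16 ya35 za47) (ka xa14 ya22 za49) (ka xa22 ya28 za43) (ka xa22 ya28 za44) (ka xa13 ya31 za42) (ka xa22 ya28 za46) (ka xa16 ya21 za34) (ka xa23 ya7 za3) (ka xa13 ya30 za57) (ka xa13 ya30 za59) (ka xa13 ya30 za60) (ka xa10 ya16 za59) (ka xa11 ya23 za32) (ka xa13 ya30 za41) (ka xa13 ya31 za0) (ka xa13 ya31 za2) (ka xa23 ya7 za21) (ka xa12 ya46 za16) (ka xa7 ya14 za21) (ka xa7 ya14 za22) (ka xa14 ya22 za46) (ka xa23 ya7 za4) (ka xa13 ya32 za8) (ka xa16 ya22 za48) (ka xa13 ya30 za42) (ka xa13 ya31 za1) (ka xa13 ya30 za43) (ka xa23 ya7 za31)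 (ka xa13 ya22 za30)) (@D3.rec (fun _ => Pt) (ka xa13 ya30 za47) (ka xa13 ya30 za48) (ka xa12 ya6 za14) (ka xa15 ya8 za49) (ka xa16 ya28 za39) (ka xa8 ya48 za9) (ka xa21 ya10 za38) (ka xa21 ya10 za39) (ka xa7 ya17 za33) (ka xa22 ya52 za13) (ka xa22 ya52 za14) (ka xa16 ya33 za61) (ka xa16 ya34 za0) (ka xa22 ya52 za15) (ka xa22 ya52 za16) (ka xa16 ya26 za37) (ka xa16 ya26 za34) (ka xa22 ya52 za18) (ka xa21 ya15 za55) (ka xa23 ya5 za1) (ka xa7 ya14 za41) (ka xa20 ya7 za27) (ka xa23 ya8 za7) (ka xa13 ya31 za45) (ka xa14 ya48 za49) (ka xa14 ya48 za50) (ka xa14 ya48 za44) (ka xa23 ya4 za58) (ka xa13 ya43 za40) (ka xa13 ya43 za43) (ka xa7 ya41 za49) (ka xa23 ya4 za60) (ka xa23 ya4 za61) (ka xa22 ya23 za28) (ka xa23 ya5 za0) (ka xa21 ya14 za43) (ka xa7 ya14 za48) (ka xa7 ya14 za49) (ka xa23 ya8 za33) (ka xa23 ya4 za55) (ka xa23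 ya4 za54) (ka xa21 ya10 za45) (ka xa21 ya4 za12) (ka xa23 ya7 za50) (ka xa23 ya5 za2) (ka xa23 ya5 za3) (ka xa21 ya12 za21) (ka xa22 ya3 za7) (ka xa23 ya5 za4) (ka xa18 ya15 za27) (ka xa7 ya14 za54) (ka xa22 ya41 za17) (ka xa23 ya8 za57) (ka xa13 ya43 za31) (ka xa14 ya25 za15) (ka xa23 ya5 za7) (ka xa23 ya5 za8) (ka xa23 ya5 za9) (ka xa14 ya53 za35) (ka xa23 ya5 za10) (ka xa7 ya14 za58) (ka xa16 ya33 za56)) (@D3.rec (fun _ => Pt) (ka xa21 ya14 za48) (ka xa23 ya9 za12) (ka xa23 ya7 za61) (ka xa13 ya21 za52) (ka xa23 ya5 za12) (ka xa23 ya5 za13) (ka xa23 ya5 za14) (ka xa7 ya17 za42) (ka xa23 ya5 za15) (ka xa11 ya32 za14) (ka xa14 ya24 za31) (ka xa15 ya57 za59) (ka xa10 ya44 za41) (ka xa13 ya23 za36) (ka xa23 ya5 za16) (ka xa16 ya26 za35) (ka xa23 ya9 za38) (ka xa7 ya15 za2) (ka xa23 ya9 za41) (ka xa23 ya9 za36) (ka xa7 ya38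 za60) (ka xa23 ya5 za22) (ka xa23 ya5 za23) (ka xa23 ya5 za24) (ka xa23 ya5 za25) (ka xa7 ya15 za6) (ka xa7 ya52 za16) (ka xa7 ya39 za16) (ka xa7 ya39 za15) (ka xa7 ya15 za8) (ka xa23 ya9 za60) (ka xa13 ya42 za53) (ka xa23 ya5 za26) (ka xa16 ya27 za23) (ka xa7 ya15 za12) (ka xa17 ya56 za61) (ka xa23 ya5 za33) (ka xa15 ya53 za24) (ka xa23 ya10 za5) (ka xa23 ya10 za11) (ka xa13 ya42 za28) (ka xa22 ya46 za29) (ka xa13 ya33 za43) (ka xa13 ya42 za29) (ka xa22 ya56 za35) (ka xa11 ya32 za22) (ka xa23 ya5 za29) (ka xa23 ya5 za30) (ka xa23 ya5 za31) (ka xa23 ya5 za32) (ka xa20 ya37 za14) (ka xa7 ya15 za20) (ka xa7 ya15 za21) (ka xa13 ya33 za15) (ka xa23 ya5 za27) (ka xa13 ya36 za20) (ka xa23 ya10 za32) (ka xa13 ya15 za28) (ka xa22 ya46 za27) (ka xa16 ya43 za22) (ka xa23 ya5 za34) (ka xa23 ya5 za35)) (@D3.rec (fun _ => Pt) (ka xa23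 ya5 za36) (ka xa22 ya29 za6) (ka xa23 ya5 za37) (ka xa13 ya33 za47) (ka xa22 ya14 za34) (ka xa7 ya34 za55) (ka xa22 ya47 za13) (ka xa23 ya10 za50) (ka xa19 ya56 za42) (ka xa7 ya15 za36) (ka xa23 ya10 za51) (ka xa14 ya24 za32) (ka xa14 ya28 za15) (ka xa23 ya5 za38) (ka xa13 ya19 za20) (ka xa7 ya15 za40) (ka xa14 ya29 za30) (ka xa13 ya21 za50) (ka xa13 ya21 za44) (ka xa13 ya21 za43) (ka xa7 ya15 za42) (ka xa23 ya11 za2) (ka xa23 ya11 za3) (ka xa23 ya11 za4) (ka xa14 ya25 za16) (ka xa14 ya28 za24) (ka xa19 ya31 za3) (ka xa13 ya9 za27) (ka xa13 ya10 za44) (ka xa23 ya11 za13) (ka xa7 ya41 za50) (ka xa23 ya11 za17) (ka xa23 ya5 za45) (ka xa23 ya5 za46) (ka xa23 ya5 za47) (ka xa23 ya5 za48) (ka xa7 ya41 za45) (ka xa13 ya17 za38) (ka xa22 ya16 za14) (ka xa7 ya15 za56) (ka xa13 ya17 za40) (ka xa13 ya17 za39) (ka xa15 ya32 za43)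 (ka xa13 ya34 za32) (ka xa13 ya34 za33) (ka xa13 ya34 za34) (ka xa12 ya48 za7) (ka xa12 ya48 za6) (ka xa14 ya10 za60) (ka xa13 ya19 za18) (ka xa7 ya15 za61) (ka xa7 ya16 za0) (ka xa7 ya16 za1) (ka xa7 ya21 za43) (ka xa23 ya11 za38) (ka xa13 ya19 za24) (ka xa13 ya19 za23) (ka xa23 ya11 za39) (ka xa18 ya57 za15) (ka xa12 ya34 za55) (ka xa12 ya34 za54) (ka xa18 ya57 za16)) (@D3.rec (fun _ => Pt) (ka xa13 ya35 za60) (ka xa13 ya35 za61) (ka xa13 ya20 za3) (ka xa13 ya36 za0) (ka xa14 ya15 za40) (ka xa13 ya20 za7) (ka xa7 ya16 za7) (ka xa13 ya35 za17) (ka xa13 ya35 za14) (ka xa23 ya11 za58) (ka xa13 ya20 za6) (ka xa18 ya54 za47) (ka xa13 ya35 za48) (ka xa13 ya35 za49) (ka xa23 ya12 za6) (ka xa22 ya17 za37) (ka xa22 ya17 za38) (ka xa22 ya17 za39) (ka xa22 ya17 za40) (ka xa13 ya29 za2) (ka xa13 ya28 za61) (ka xa7 ya16 za12) (ka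 xa23 ya12 za17) (ka xa13 ya45 za35) (ka xa13 ya45 za36) (ka xa13 ya45 za34) (ka xa23 ya12 za26) (ka xa22 ya33 za47) (ka xa23 ya5 za58) (ka xa22 ya57 za32) (ka xa23 ya12 za35) (ka xa22 ya33 za48) (ka xa23 ya5 za60) (ka xa23 ya5 za61) (ka xa13 ya45 za25) (ka xa13 ya45 za23) (ka xa13 ya45 za24) (ka xa7 ya45 za48) (ka xa7 ya45 za47) (ka xa7 ya16 za19) (ka xa19 ya30 za9) (ka xa13 ya9 za29) (ka xa13 ya9 za30) (ka xa7 ya35 za58) (ka xa7 ya38 za61) (ka xa7 ya16 za27) (ka xa7 ya16 za28) (ka xa7 ya42 za46) (ka xa7 ya42 za45) (ka xa7 ya16 za23) (ka xa19 ya28 za46) (ka xa11 ya50 za43) (ka xa8 ya26 za35) (ka xa15 ya55 za39) (ka xa8 ya29 za22) (ka xa15 ya55 za42) (ka xa13 ya12 za2) (ka xa13 ya46 za6) (ka xa13 ya46 za5) (ka xa7 ya50 za38) (ka xa23 ya12 za55) (ka xa19 ya42 za11)) (@D3.rec (fun _ => Pt) (ka xa23 ya12 za56) (ka xa23 ya12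 za57) (ka xa23 ya13 za8) (ka xa11 ya50 za57) (ka xa11 ya50 za58) (ka xa13 ya45 za58) (ka xa13 ya45 za57) (ka xa12 ya41 za12) (ka xa22 ya22 za9) (ka xa22 ya22 za10) (ka xa22 ya13 za24) (ka xa22 ya22 za11) (ka xa22 ya13 za23) (ka xa23 ya13 za24) (ka xa17 ya9 za0) (ka xa22 ya22 za13) (ka xa7 ya38 za10) (ka xa22 ya49 za3) (ka xa13 ya27 za25) (ka xa7 ya16 za42) (ka xa23 ya13 za30) (ka xa13 ya34 za47) (ka xa13 ya34 za48) (ka xa13 ya34 za50) (ka xa21 ya14 za38) (ka xa13 ya50 za7) (ka xa8 ya49 za44) (ka xa8 ya49 za0) (ka xa13 ya47 za29) (ka xa8 ya48 za60) (ka xa22 ya36 za31) (ka xa13 ya50 za9) (ka xa13 ya50 za10) (ka xa13 ya50 za11) (ka xa21 ya14 za45) (ka xa13 ya50 za13) (ka xa13 ya50 za14) (ka xa13 ya50 za15) (ka xa13 ya50 za16) (ka xa13 ya50 za17) (ka xa13 ya50 za18) (ka xa13 ya37 za57) (ka xa7 ya17 za34) (ka xa7 ya17 za35)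 (ka xa21 ya14 za47) (ka xa7 ya17 za41) (ka xa7 ya17 za36) (ka xa22 ya57 za38) (ka xa22 ya41 za21) (ka xa7 ya17 za48) (ka xa7 ya17 za49) (ka xa10 ya4 za19) (ka xa7 ya17 za54) (ka xa7 ya17 za55) (ka xa7 ya17 za59) (ka xa23 ya14 za21) (ka xa7 ya18 za2) (ka xa22 ya31 za23) (ka xa7 ya18 za13) (ka xa7 ya18 za14) (ka xa7 ya18 za15) (ka xa23 ya3 za17)) (@D3.rec (fun _ => Pt) (ka xa23 ya3 za18) (ka xa7 ya18 za25) (ka xa7 ya18 za26) (ka xa11 ya44 za34) (ka xa13 ya16 za28) (ka xa13 ya50 za39) (ka xa21 ya14 za7) (ka xa21 ya14 za8) (ka xa21 ya14 za9) (ka xa21 ya14 za52) (ka xa21 ya14 za10) (ka xa21 ya14 za11) (ka xa13 ya51 za6) (ka xa13 ya50 za32) (ka xa13 ya14 za19) (ka xa21 ya28 za50) (ka xa8 ya50 za34) (ka xa21 ya14 za6) (ka xa21 ya14 za51) (ka xa13 ya51 za19) (ka xa21 ya14 za53) (ka xa21 ya14 za54) (ka xa17 ya15 za31) (ka xa17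 ya15 za25) (ka xa13 ya50 za44) (ka xa13 ya50 za34) (ka xa13 ya20 za54) (ka xa13 ya50 za37) (ka xa13 ya50 za38) (ka xa13 ya46 za28) (ka xa7 ya19 za16) (ka xa7 ya19 za21) (ka xa8 ya39 za2) (ka xa18 ya40 za42) (ka xa18 ya40 za43) (ka xa18 ya40 za49) (ka xa18 ya40 za50) (ka xa20 ya30 za48) (ka xa14 ya45 za22) (ka xa18 ya18 za59) (ka xa18 ya18 za60) (ka xa23 ya7 za49) (ka xa23 ya7 za47) (ka xa23 ya13 za60) (ka xa15 ya10 za25) (ka xa23 ya15 za30) (ka xa23 ya14 za0) (ka xa23 ya14 za1) (ka xa23 ya14 za2) (ka xa14 ya17 za35) (ka xa20 ya32 za30) (ka xa7 ya17 za38) (ka xa7 ya17 za39) (ka xa23 ya7 za6) (ka xa20 ya32 za16) (ka xa23 ya15 za40) (ka xa23 ya15 za41) (ka xa13 ya50 za29) (ka xa23 ya8 za58) (ka xa12 ya48 za51) (ka xa13 ya14 za49) (ka xa13 ya14 za45)) (@D3.rec (fun _ => Pt) (ka xa13 ya49 za13) (ka xa13 ya49 za15) (ka xa23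 ya16 za5) (ka xa23 ya9 za33) (ka xa23 ya9 za31) (ka xa23 ya9 za32) (ka xa23 ya9 za34) (ka xa10 ya4 za20) (ka xa7 ya17 za45) (ka xa7 ya17 za46) (ka xa7 ya17 za47) (ka xa7 ya24 za16) (ka xa23 ya16 za16) (ka xa14 ya0 za32) (ka xa23 ya14 za3) (ka xa22 ya30 za14) (ka xa10 ya1 za35) (ka xa21 ya14 za24) (ka xa23 ya7 za23) (ka xa21 ya14 za23) (ka xa23 ya16 za25) (ka xa23 ya14 za7) (ka xa23 ya14 za8) (ka xa23 ya14 za9) (ka xa14 ya53 za32) (ka xa23 ya14 za10) (ka xa14 ya53 za31) (ka xa7 ya17 za53) (ka xa21 ya2 za37) (ka xa21 ya2 za36) (ka xa13 ya49 za1) (ka xa23 ya16 za27) (ka xa23 ya14 za13) (ka xa23 ya14 za14) (ka xa23 ya14 za15) (ka xa22 ya42 za42) (ka xa23 ya14 za16) (ka xa7 ya17 za56) (ka xa14 ya9 za5) (ka xa23 ya16 za51) (ka xa23 ya16 za58) (ka xa22 ya53 za45) (ka xa22 ya53 za43) (ka xa22 ya53 za44) (ka xa22 ya53 za46) (ka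 xa23 ya17 za7) (ka xa23 ya14 za18) (ka xa23 ya15 za24) (ka xa22 ya56 za10) (ka xa23 ya17 za16) (ka xa23 ya17 za21) (ka xa7 ya17 za61) (ka xa23 ya17 za26) (ka xa23 ya17 za15) (ka xa13 ya48 za55) (ka xa13 ya48 za54) (ka xa18 ya42 za40) (ka xa23 ya14 za22) (ka xa7 ya23 za57) (ka xa7 ya23 za54) (ka xa13 ya18 za6) (ka xa13 ya18 za5)) (@D3.rec (fun _ => Pt) (ka xa22 ya31 za24) (ka xa13 ya48 za30) (ka xa22 ya30 za50) (ka xa22 ya55 za48) (ka xa7 ya18 za10) (ka xa23 ya6 za15) (ka xa23 ya14 za31) (ka xa23 ya17 za55) (ka xa23 ya17 za56) (ka xa13 ya26 za43) (ka xa19 ya56 za41) (ka xa16 ya27 za22) (ka xa22 ya31 za30) (ka xa13 ya48 za0) (ka xa23 ya6 za20) (ka xa13 ya48 za1) (ka xa23 ya3 za43) (ka xa23 ya18 za20) (ka xa23 ya14 za27) (ka xa23 ya14 za28) (ka xa23 ya14 za29) (ka xa23 ya6 za4) (ka xa23 ya14 za30) (ka xa14 ya44 za45) (ka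 xa13 ya33 za10) (ka xa7 ya18 za19) (ka xa21 ya13 za5) (ka xa14 ya56 za56) (ka xa7 ya18 za23) (ka xa7 ya18 za24) (ka xa13 ya15 za27) (ka xa23 ya18 za35) (ka xa18 ya20 za7) (ka xa13 ya52 za12) (ka xa18 ya49 za19) (ka xa23 ya18 za39) (ka xa23 ya14 za34) (ka xa23 ya14 za35) (ka xa23 ya14 za36) (ka xa23 ya6 za33) (ka xa23 ya14 za37) (ka xa13 ya52 za6) (ka xa14 ya53 za36) (ka xa13 ya4 za30) (ka xa7 ya18 za30) (ka xa22 ya46 za13) (ka xa13 ya33 za22) (ka xa22 ya33 za43) (ka xa13 ya6 za9) (ka xa7 ya34 za46) (ka xa7 ya18 za39) (ka xa7 ya18 za40) (ka xa7 ya30 za48) (ka xa7 ya18 za37) (ka xa23 ya18 za60) (ka xa13 ya35 za43) (ka xa13 ya35 za44) (ka xa13 ya37 za38) (ka xa23 ya18 za56) (ka xa23 ya18 za57) (ka xa23 ya18 za58) (ka xa14 ya33 za54)) (@D3.rec (fun _ => Pt) (ka xa23 ya18 za59) (ka xa23 ya19 za16) (ka xa14 ya33 za53) (ka xa19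 ya19 za8) (ka xa13 ya7 za57) (ka xa22 ya33 za46) (ka xa13 ya3 za60) (ka xa13 ya46 za25) (ka xa22 ya12 za61) (ka xa13 ya46 za31) (ka xa13 ya46 za32) (ka xa13 ya46 za33) (ka xa23 ya11 za57) (ka xa13 ya46 za35) (ka xa13 ya46 za36) (ka xa13 ya46 za37) (ka xa13 ya46 za38) (ka xa13 ya46 za39) (ka xa13 ya46 za40) (ka xa13 ya40 za17) (ka xa11 ya34 za36) (ka xa12 ya8 za28) (ka xa10 ya18 za1) (ka xa7 ya18 za58) (ka xa7 ya18 za59) (ka xa7 ya18 za61) (ka xa20 ya51 za3) (ka xa23 ya2 za60) (ka xa12 ya8 za11) (ka xa13 ya47 za57) (ka xa12 ya31 za40) (ka xa12 ya7 za51) (ka xa13 ya47 za13) (ka xa7 ya48 za44) (ka xa13 ya47 za25) (ka xa18 ya1 za18) (ka xa7 ya46 za47) (ka xa13 ya47 za27) (ka xa13 ya47 za28) (ka xa13 ya47 za5) (ka xa14 ya12 za35) (ka xa12 ya8 za9) (ka xa12 ya8 za10) (ka xa12 ya8 za13) (ka xa13 ya47 za24) (ka xa8 ya3 za48) (ka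 xa15 ya12 za50) (ka xa15 ya12 za51) (ka xa15 ya12 za52) (ka xa23 ya14 za56) (ka xa7 ya49 za18) (ka xa15 ya10 za7) (ka xa15 ya10 za8) (ka xa22 ya52 za32) (ka xa22 ya52 za30) (ka xa21 ya28 za2) (ka xa18 ya40 za38) (ka xa23 ya20 za13) (ka xa21 ya28 za3) (ka xa21 ya28 za4) (ka xa22 ya15 za24) (ka xa14 ya44 za61)) (@D3.rec (fun _ => Pt) (ka xa7 ya19 za24) (ka xa7 ya19 za25) (ka xa22 ya42 za3) (ka xa22 ya42 za1) (ka xa11 ya34 za38) (ka xa11 ya34 za37) (ka xa13 ya47 za12) (ka xa22 ya54 za12) (ka xa22 ya42 za17) (ka xa22 ya42 za18) (ka xa22 ya42 za19) (ka xa14 ya45 za10) (ka xa7 ya19 za29) (ka xa7 ya19 za30) (ka xa22 ya42 za6) (ka xa22 ya42 za5) (ka xa18 ya30 za7) (ka xa15 ya50 za38) (ka xa23 ya20 za29) (ka xa13 ya47 za19) (ka xa23 ya20 za30) (ka xa22 ya42 za11) (ka xa22 ya42 za12) (ka xa22 ya42 za13) (ka xa7 ya19 za33) (ka xa23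 ya20 za39) (ka xa20 ya31 za41) (ka xa23 ya20 za46) (ka xa12 ya0 za59) (ka xa14 ya45 za12) (ka xa14 ya45 za13) (ka xa9 ya14 za55) (ka xa14 ya45 za14) (ka xa7 ya19 za36) (ka xa23 ya20 za57) (ka xa23 ya20 za58) (ka xa23 ya21 za1) (ka xa12 ya48 za19) (ka xa14 ya45 za2) (ka xa14 ya45 za3) (ka xa14 ya45 za4) (ka xa23 ya21 za8) (ka xa12 ya48 za25) (ka xa23 ya21 za14) (ka xa12 ya48 za32) (ka xa23 ya3 za0) (ka xa23 ya2 za61) (ka xa7 ya19 za41) (ka xa13 ya15 za41) (ka xa7 ya19 za45) (ka xa7 ya19 za46) (ka xa22 ya30 za31) (ka xa23 ya21 za21) (ka xa13 ya38 za21) (ka xa22 ya57 za3) (ka xa21 ya14 za59) (ka xa13 ya16 za21) (ka xa13 ya16 za22) (ka xa7 ya40 za42) (ka xa13 ya16 za23) (ka xa22 ya41 za29) (ka xa13 ya16 za8)) (@D3.rec (fun _ => Pt) (ka xa7 ya19 za52) (ka xa7 ya19 za53) (ka xa13 ya16 za12) (ka xa13 ya16 za11) (ka xa23 ya21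 za41) (ka xa23 ya21 za42) (ka xa13 ya49 za41) (ka xa22 ya50 za2) (ka xa22 ya41 za59) (ka xa22 ya41 za60) (ka xa14 ya43 za5) (ka xa22 ya41 za61) (ka xa13 ya49 za33) (ka xa15 ya39 za11) (ka xa23 ya21 za58) (ka xa12 ya58 za61) (ka xa22 ya18 za60) (ka xa20 ya46 za47) (ka xa13 ya11 za30) (ka xa22 ya18 za61) (ka xa13 ya11 za29) (ka xa11 ya43 za14) (ka xa12 ya24 za56) (ka xa12 ya19 za25) (ka xa12 ya24 za58) (ka xa23 ya22 za14) (ka xa12 ya24 za61) (ka xa23 ya22 za20) (ka xa12 ya30 za47) (ka xa23 ya22 za25) (ka xa12 ya30 za48) (ka xa11 ya9 za44) (ka xa8 ya25 za43) (ka xa23 ya22 za30) (ka xa23 ya22 za33) (ka xa21 ya4 za30) (ka xa9 ya35 za36) (ka xa7 ya20 za13) (ka xa23 ya22 za38) (ka xa14 ya2 za52) (ka xa13 ya55 za35) (ka xa13 ya55 za37) (ka xa13 ya55 za38) (ka xa7 ya50 za41) (ka xa14 ya1 za50) (ka xa12 ya5 za51) (ka xa7 ya20 za24)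 (ka xa7 ya20 za27) (ka xa7 ya20 za28) (ka xa23 ya22 za43) (ka xa17 ya57 za1) (ka xa15 ya43 za39) (ka xa23 ya22 za44) (ka xa22 ya8 za37) (ka xa22 ya53 za51) (ka xa14 ya2 za1) (ka xa23 ya6 za14) (ka xa23 ya22 za45) (ka xa23 ya22 za46) (ka xa17 ya38 za45) (ka xa21 ya32 za56) (ka xa14 ya2 za57)) (@D3.rec (fun _ => Pt) (ka xa14 ya2 za58) (ka xa14 ya2 za8) (ka xa14 ya2 za9) (ka xa14 ya2 za10) (ka xa14 ya2 za11) (ka xa23 ya23 za10) (ka xa14 ya2 za61) (ka xa14 ya3 za0) (ka xa22 ya38 za10) (ka xa14 ya3 za2) (ka xa14 ya3 za3) (ka xa14 ya3 za5) (ka xa9 ya45 za54) (ka xa14 ya3 za10) (ka xa7 ya20 za35) (ka xa23 ya23 za20) (ka xa23 ya23 za21) (ka xa14 ya3 za8) (ka xa14 ya3 za9) (ka xa14 ya55 za22) (ka xa14 ya3 za13) (ka xa14 ya3 za14) (ka xa23 ya23 za36) (ka xa14 ya3 za16) (ka xa14 ya3 za17) (ka xa14 ya55 za24) (ka xa14 ya3 za19) (ka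 xa14 ya3 za21) (ka xa7 ya54 za1) (ka xa7 ya54 za2) (ka xa7 ya54 za13) (ka xa7 ya47 za43) (ka xa7 ya55 za13) (ka xa23 ya4 za24) (ka xa13 ya24 za20) (ka xa14 ya53 za3) (ka xa7 ya20 za49) (ka xa16 ya53 za61) (ka xa14 ya3 za28) (ka xa14 ya3 za39) (ka xa14 ya3 za38) (ka xa7 ya20 za51) (ka xa19 ya21 za56) (ka xa22 ya46 za61) (ka xa14 ya13 za36) (ka xa17 ya50 za56) (ka xa22 ya34 za17) (ka xa13 ya6 za59) (ka xa13 ya7 za2) (ka xa23 ya23 za60) (ka xa14 ya3 za50) (ka xa14 ya3 za52) (ka xa13 ya7 za53) (ka xa13 ya7 za52) (ka xa7 ya21 za3) (ka xa13 ya12 za27) (ka xa13 ya12 za26) (ka xa23 ya24 za4) (ka xa13 ya4 za2) (ka xa7 ya49 za36) (ka xa14 ya1 za48) (ka xa7 ya50 za60)) (@D3.rec (fun _ => Pt) (ka xa7 ya21 za11) (ka xa7 ya21 za13) (ka xa13 ya19 za10) (ka xa13 ya19 za11) (ka xa14 ya2 za60) (ka xa23 ya24 za11) (ka xa23 ya23 za13) (ka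 xa14 ya3 za6) (ka xa14 ya3 za7) (ka xa14 ya3 za15) (ka xa23 ya24 za12) (ka xa8 ya22 za42) (ka xa11 ya18 za28) (ka xa8 ya22 za31) (ka xa14 ya2 za17) (ka xa11 ya18 za27) (ka xa14 ya2 za20) (ka xa8 ya32 za45) (ka xa14 ya2 za22) (ka xa14 ya2 za23) (ka xa14 ya2 za27) (ka xa14 ya2 za32) (ka xa8 ya33 za38) (ka xa8 ya34 za4) (ka xa12 ya37 za7) (ka xa12 ya48 za8) (ka xa23 ya24 za34) (ka xa14 ya3 za56) (ka xa11 ya27 za2) (ka xa14 ya3 za57) (ka xa7 ya40 za46) (ka xa9 ya45 za60) (ka xa14 ya3 za58) (ka xa14 ya3 za59) (ka xa14 ya3 za60) (ka xa14 ya3 za61) (ka xa21 ya41 za18) (ka xa14 ya4 za0) (ka xa14 ya4 za1) (ka xa14 ya4 za2) (ka xa14 ya4 za4) (ka xa14 ya4 za7) (ka xa14 ya4 za8) (ka xa14 ya4 za9) (ka xa13 ya37 za18) (ka xa21 ya30 za47) (ka xa7 ya23 za38) (ka xa7 ya23 za39) (ka xa7 ya23 za40) (ka xa23 ya25 za15) (ka xa7 ya23 za43)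 (ka xa7 ya23 za45) (ka xa7 ya23 za46) (ka xa7 ya23 za47) (ka xa7 ya23 za48) (ka xa7 ya23 za49) (ka xa7 ya21 za36) (ka xa19 ya56 za18) (ka xa7 ya23 za61) (ka xa7 ya24 za0) (ka xa23 ya25 za27) (ka xa7 ya24 za3)) (@D3.rec (fun _ => Pt) (ka xa7 ya24 za4) (ka xa23 ya25 za33) (ka xa7 ya24 za6) (ka xa7 ya24 za7) (ka xa7 ya24 za8) (ka xa7 ya24 za9) (ka xa23 ya25 za43) (ka xa7 ya24 za13) (ka xa7 ya24 za15) (ka xa22 ya58 za27) (ka xa7 ya24 za20) (ka xa7 ya24 za22) (ka xa7 ya24 za23) (ka xa7 ya24 za37) (ka xa7 ya24 za38) (ka xa14 ya6 za2) (ka xa13 ya59 za57) (ka xa14 ya5 za10) (ka xa14 ya5 za9) (ka xa14 ya5 za8) (ka xa21 ya14 za49) (ka xa16 ya24 za8) (ka xa21 ya14 za36) (ka xa21 ya14 za50) (ka xa21 ya14 za30) (ka xa21 ya14 za31) (ka xa14 ya5 za19) (ka xa21 ya14 za32) (ka xa14 ya9 za49) (ka xa21 ya14 za33) (ka xa21 ya14 za34) (ka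 xa21 ya14 za35) (ka xa7 ya21 za55) (ka xa13 ya57 za13) (ka xa23 ya26 za16) (ka xa13 ya52 za40) (ka xa9 ya45 za28) (ka xa13 ya52 za41) (ka xa13 ya52 za42) (ka xa12 ya49 za33) (ka xa12 ya49 za36) (ka xa13 ya8 za56) (ka xa13 ya8 za57) (ka xa8 ya21 za31) (ka xa11 ya46 za42) (ka xa14 ya6 za12) (ka xa14 ya6 za13) (ka xa23 ya26 za33) (ka xa11 ya46 za43) (ka xa14 ya6 za15) (ka xa14 ya6 za16) (ka xa14 ya6 za17) (ka xa14 ya6 za18) (ka xa14 ya6 za19) (ka xa14 ya6 za20) (ka xa14 ya6 za23) (ka xa7 ya22 za1) (ka xa23 ya26 za52) (ka xa23 ya26 za53) (ka xa14 ya6 za21) (ka xa14 ya6 za22) (ka xa7 ya22 za22)) (@D3.rec (fun _ => Pt) (ka xa7 ya22 za4) (ka xa23 ya27 za0) (ka xa14 ya6 za27) (ka xa14 ya6 za28) (ka xa23 ya27 za7) (ka xa13 ya57 za39) (ka xa14 ya6 za30) (ka xa23 ya27 za11) (ka xa13 ya56 za9) (ka xa13 ya56 za8) (ka xa23 ya27 za16)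 (ka xa13 ya5 za13) (ka xa13 ya5 za12) (ka xa22 ya34 za7) (ka xa22 ya34 za8) (ka xa13 ya19 za12) (ka xa7 ya22 za19) (ka xa7 ya22 za21) (ka xa7 ya41 za2) (ka xa7 ya41 za3) (ka xa13 ya20 za53) (ka xa14 ya6 za11) (ka xa23 ya27 za23) (ka xa23 ya26 za32) (ka xa13 ya21 za9) (ka xa13 ya21 za10) (ka xa14 ya6 za29) (ka xa23 ya27 za24) (ka xa23 ya26 za61) (ka xa14 ya6 za5) (ka xa14 ya5 za27) (ka xa23 ya27 za49) (ka xa12 ya31 za11) (ka xa14 ya5 za29) (ka xa14 ya5 za30) (ka xa14 ya5 za31) (ka xa14 ya5 za32) (ka xa14 ya5 za33) (ka xa14 ya5 za34) (ka xa14 ya6 za8) (ka xa12 ya47 za55) (ka xa7 ya51 za5) (ka xa7 ya53 za43) (ka xa14 ya5 za39) (ka xa14 ya5 za40) (ka xa14 ya5 za35) (ka xa7 ya22 za30) (ka xa23 ya28 za14) (ka xa22 ya22 za18) (ka xa14 ya5 za43) (ka xa14 ya5 za44) (ka xa14 ya6 za9) (ka xa13 ya58 za10) (ka xa14 ya5 za47) (ka xa23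 ya28 za32) (ka xa13 ya58 za11) (ka xa14 ya5 za49) (ka xa19 ya46 za15) (ka xa14 ya5 za54) (ka xa14 ya5 za55) (ka xa13 ya25 za24) (ka xa13 ya25 za35)) (@D3.rec (fun _ => Pt) (ka xa13 ya25 za36) (ka xa13 ya16 za24) (ka xa14 ya6 za39) (ka xa14 ya6 za40) (ka xa14 ya7 za19) (ka xa14 ya6 za33) (ka xa14 ya6 za34) (ka xa14 ya6 za35) (ka xa7 ya22 za50) (ka xa7 ya22 za51) (ka xa7 ya22 za54) (ka xa12 ya2 za9) (ka xa14 ya6 za47) (ka xa13 ya55 za33) (ka xa23 ya28 za54) (ka xa23 ya28 za55) (ka xa23 ya28 za56) (ka xa23 ya28 za57) (ka xa13 ya16 za39) (ka xa22 ya43 za4) (ka xa22 ya43 za5) (ka xa21 ya14 za26) (ka xa20 ya20 za32) (ka xa22 ya43 za3) (ka xa14 ya8 za57) (ka xa22 ya43 za8) (ka xa22 ya43 za7) (ka xa23 ya28 za58) (ka xa14 ya7 za4) (ka xa13 ya25 za47) (ka xa14 ya7 za31) (ka xa14 ya7 za33) (ka xa11 ya12 za46) (ka xa14 ya7 za34) (ka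 xa9 ya46 za7) (ka xa14 ya7 za35) (ka xa14 ya7 za36) (ka xa14 ya7 za12) (ka xa7 ya54 za35) (ka xa13 ya56 za5) (ka xa23 ya29 za36) (ka xa14 ya6 za37) (ka xa14 ya7 za21) (ka xa12 ya23 za5) (ka xa14 ya7 za20) (ka xa7 ya23 za10) (ka xa7 ya23 za11) (ka xa13 ya20 za56) (ka xa12 ya23 za2) (ka xa12 ya23 za1) (ka xa23 ya3 za33) (ka xa21 ya13 za60) (ka xa23 ya3 za34) (ka xa23 ya3 za35) (ka xa22 ya35 za30) (ka xa21 ya14 za22) (ka xa14 ya9 za11) (ka xa21 ya14 za27) (ka xa21 ya14 za15) (ka xa21 ya14 za21) (ka xa23 ya29 za40) (ka xa23 ya29 za41)) (@D3.rec (fun _ => Pt) (ka xa14 ya7 za5) (ka xa14 ya7 za32) (ka xa14 ya7 za6) (ka xa14 ya7 za7) (ka xa14 ya7 za8) (ka xa14 ya7 za9) (ka xa14 ya7 za10) (ka xa14 ya7 za11) (ka xa14 ya7 za37) (ka xa14 ya7 za14) (ka xa13 ya56 za52) (ka xa13 ya56 za55) (ka xa23 ya30 za24) (ka xa14 ya7 za17) (ka xa14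 ya7 za18) (ka xa7 ya23 za20) (ka xa14 ya7 za41) (ka xa13 ya6 za24) (ka xa9 ya10 za6) (ka xa9 ya46 za9) (ka xa11 ya6 za39) (ka xa7 ya23 za25) (ka xa16 ya17 za37) (ka xa23 ya30 za30) (ka xa19 ya16 za52) (ka xa19 ya17 za2) (ka xa14 ya7 za47) (ka xa14 ya7 za48) (ka xa7 ya59 za2) (ka xa11 ya19 za34) (ka xa14 ya7 za49) (ka xa14 ya7 za50) (ka xa14 ya7 za51) (ka xa14 ya7 za52) (ka xa14 ya7 za53) (ka xa20 ya45 za27) (ka xa14 ya7 za61) (ka xa23 ya30 za41) (ka xa7 ya23 za33) (ka xa20 ya28 za1) (ka xa20 ya28 za2) (ka xa12 ya55 za19) (ka xa14 ya4 za60) (ka xa20 ya27 za50) (ka xa11 ya28 za34) (ka xa23 ya25 za14) (ka xa7 ya23 za37) (ka xa12 ya39 za13) (ka xa23 ya30 za47) (ka xa23 ya30 za48) (ka xa11 ya44 za28) (ka xa11 ya20 za18) (ka xa23 ya25 za9) (ka xa20 ya6 za42) (ka xa23 ya25 za10) (ka xa23 ya25 za11) (ka xa23 ya25 za12) (ka xa7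 ya50 za11) (ka xa23 ya25 za13) (ka xa21 ya30 za49) (ka xa7 ya23 za41) (ka xa12 ya6 za27)) (@D3.rec (fun _ => Pt) (ka xa23 ya31 za6) (ka xa23 ya31 za7) (ka xa20 ya14 za49) (ka xa23 ya13 za56) (ka xa22 ya28 za22) (ka xa9 ya46 za8) (ka xa20 ya17 za2) (ka xa9 ya46 za6) (ka xa23 ya31 za17) (ka xa23 ya25 za18) (ka xa17 ya12 za21) (ka xa14 ya56 za26) (ka xa9 ya43 za48) (ka xa19 ya53 za0) (ka xa7 ya52 za4) (ka xa19 ya52 za61) (ka xa15 ya13 za33) (ka xa23 ya25 za20) (ka xa15 ya13 za50) (ka xa22 ya16 za52) (ka xa22 ya16 za51) (ka xa23 ya25 za21) (ka xa14 ya15 za22) (ka xa23 ya25 za22) (ka xa19 ya56 za16) (ka xa19 ya56 za17) (ka xa19 ya56 za15) (ka xa14 ya6 za61) (ka xa19 ya56 za20) (ka xa13 ya26 za9) (ka xa7 ya55 za12) (ka xa7 ya55 za8) (ka xa14 ya0 za38) (ka xa14 ya0 za41) (ka xa18 ya42 za25) (ka xa19 ya54 za17) (ka xa19 ya54 za15)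 (ka xa19 ya54 za16) (ka xa11 ya3 za57) (ka xa23 ya17 za41) (ka xa7 ya23 za60) (ka xa13 ya59 za42) (ka xa13 ya59 za41) (ka xa22 ya43 za54) (ka xa14 ya7 za25) (ka xa21 ya55 za20) (ka xa23 ya31 za47) (ka xa23 ya25 za24) (ka xa21 ya56 za38) (ka xa23 ya25 za25) (ka xa14 ya54 za26) (ka xa23 ya25 za26) (ka xa14 ya54 za25) (ka xa7 ya24 za2) (ka xa23 ya31 za56) (ka xa23 ya31 za57) (ka xa14 ya0 za27) (ka xa13 ya55 za16) (ka xa23 ya32 za5) (ka xa23 ya25 za29) (ka xa23 ya25 za30) (ka xa23 ya25 za31))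
def f_a_14 : D2 → D3 → Pt := @D2.rec (fun _ => D3 → Pt) (@D3.rec (fun _ => Pt) (ka xa22 ya43 za21) (ka xa23 ya25 za32) (ka xa7 ya24 za5) (ka xa23 ya21 za7) (ka xa23 ya32 za18) (ka xa23 ya32 za23) (ka xa23 ya25 za36) (ka xa23 ya25 za37) (ka xa15 ya13 za36) (ka xa23 ya25 za38) (ka xa23 ya32 za32) (ka xa23 ya25 za40) (ka xa23 ya32 za38) (ka xa15 ya13 za38) (ka xa23 ya32 za42) (ka xa15 ya14 za0) (ka xa7 ya24 za10) (ka xa23 ya32 za48) (ka xa23 ya32 za41) (ka xa14 ya0 za20) (ka xa14 ya0 za19) (ka xa23 ya25 za44) (ka xa23 ya25 za45) (ka xa14 ya5 za5) (ka xa14 ya5 za4) (ka xa7 ya24 za14) (ka xa23 ya33 za3) (ka xa13 ya59 za56) (ka xa23 ya25 za46) (ka xa7 ya24 za18) (ka xa7 ya24 za19) (ka xa22 ya30 za37) (ka xa13 ya48 za13) (ka xa16 ya10 za57) (ka xa14 ya5 za21) (ka xa23 ya0 za61) (ka xa23 ya33 za13) (ka xa23 ya33 za17) (ka xa13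 ya59 za32) (ka xa23 ya25 za48) (ka xa14 ya10 za3) (ka xa13 ya59 za33) (ka xa23 ya2 za23) (ka xa20 ya33 za29) (ka xa23 ya25 za50) (ka xa23 ya25 za51) (ka xa23 ya25 za52) (ka xa23 ya1 za4) (ka xa23 ya25 za53) (ka xa7 ya52 za35) (ka xa7 ya52 za29) (ka xa7 ya24 za27) (ka xa18 ya23 za5) (ka xa22 ya29 za45) (ka xa13 ya5 za53) (ka xa22 ya57 za37) (ka xa21 ya32 za31) (ka xa13 ya5 za59) (ka xa13 ya5 za60) (ka xa7 ya24 za35) (ka xa7 ya24 za36) (ka xa14 ya9 za53)) (@D3.rec (fun _ => Pt) (ka xa12 ya47 za52) (ka xa23 ya33 za42) (ka xa23 ya25 za54) (ka xa23 ya25 za55) (ka xa23 ya25 za56) (ka xa23 ya25 za57) (ka xa14 ya10 za7) (ka xa18 ya23 za4) (ka xa14 ya48 za13) (ka xa19 ya4 za40) (ka xa7 ya46 za6) (ka xa14 ya1 za26) (ka xa13 ya21 za60) (ka xa7 ya48 za21) (ka xa10 ya7 za45) (ka xa22 ya15 za37) (ka xa14 ya15 za32) (ka xa14 ya15 za33)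 (ka xa14 ya15 za34) (ka xa7 ya42 za34) (ka xa14 ya15 za35) (ka xa22 ya22 za19) (ka xa19 ya7 za21) (ka xa7 ya40 za21) (ka xa22 ya27 za59) (ka xa23 ya34 za7) (ka xa14 ya1 za11) (ka xa23 ya34 za12) (ka xa22 ya35 za17) (ka xa22 ya35 za18) (ka xa22 ya35 za19) (ka xa14 ya40 za35) (ka xa22 ya35 za20) (ka xa14 ya40 za34) (ka xa13 ya2 za4) (ka xa12 ya49 za13) (ka xa17 ya22 za18) (ka xa12 ya49 za10) (ka xa7 ya24 za59) (ka xa9 ya24 za40) (ka xa12 ya31 za26) (ka xa13 ya6 za23) (ka xa13 ya8 za48) (ka xa11 ya26 za52) (ka xa13 ya8 za47) (ka xa7 ya25 za2) (ka xa14 ya47 za61) (ka xa14 ya47 za60) (ka xa13 ya53 za60) (ka xa13 ya8 za59) (ka xa13 ya52 za44) (ka xa11 ya4 za13) (ka xa7 ya25 za14) (ka xa7 ya25 za17) (ka xa12 ya22 za52) (ka xa11 ya17 za28) (ka xa12 ya6 za25) (ka xa23 ya34 za40) (ka xa16 ya25 za46) (ka xa23 ya34 za41) (ka xa23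 ya34 za42) (ka xa14 ya53 za55)) (@D3.rec (fun _ => Pt) (ka xa14 ya53 za56) (ka xa13 ya52 za55) (ka xa14 ya53 za53) (ka xa14 ya53 za59) (ka xa14 ya53 za58) (ka xa23 ya34 za43) (ka xa7 ya25 za18) (ka xa23 ya35 za3) (ka xa13 ya53 za1) (ka xa13 ya53 za2) (ka xa13 ya53 za3) (ka xa13 ya53 za4) (ka xa12 ya31 za50) (ka xa12 ya31 za54) (ka xa13 ya6 za30) (ka xa13 ya6 za31) (ka xa17 ya2 za24) (ka xa13 ya54 za14) (ka xa8 ya34 za24) (ka xa8 ya34 za12) (ka xa13 ya54 za16) (ka xa8 ya21 za15) (ka xa13 ya54 za18) (ka xa13 ya54 za19) (ka xa13 ya13 za0) (ka xa7 ya25 za27) (ka xa12 ya47 za57) (ka xa13 ya54 za20) (ka xa7 ya25 za57) (ka xa7 ya25 za29) (ka xa13 ya13 za6) (ka xa13 ya13 za7) (ka xa13 ya54 za21) (ka xa23 ya35 za31) (ka xa23 ya35 za33) (ka xa22 ya12 za7) (ka xa22 ya12 za6) (ka xa7 ya25 za37) (ka xa23 ya33 za39) (ka xa14 ya9 za54)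 (ka xa14 ya9 za55) (ka xa18 ya23 za25) (ka xa8 ya0 za41) (ka xa12 ya49 za25) (ka xa23 ya35 za46) (ka xa23 ya35 za48) (ka xa8 ya35 za25) (ka xa23 ya35 za50) (ka xa21 ya31 za9) (ka xa21 ya31 za8) (ka xa7 ya25 za47) (ka xa23 ya35 za56) (ka xa13 ya52 za39) (ka xa7 ya41 za4) (ka xa7 ya41 za6) (ka xa7 ya41 za7) (ka xa7 ya25 za54) (ka xa13 ya52 za61) (ka xa13 ya53 za0) (ka xa7 ya45 za35) (ka xa13 ya54 za4) (ka xa13 ya53 za6)) (@D3.rec (fun _ => Pt) (ka xa13 ya53 za7) (ka xa23 ya36 za3) (ka xa13 ya53 za9) (ka xa13 ya53 za10) (ka xa11 ya59 za7) (ka xa13 ya53 za11) (ka xa13 ya54 za7) (ka xa13 ya54 za8) (ka xa13 ya53 za17) (ka xa13 ya53 za18) (ka xa13 ya53 za13) (ka xa7 ya26 za2) (ka xa23 ya36 za12) (ka xa13 ya53 za20) (ka xa13 ya53 za21) (ka xa13 ya54 za9) (ka xa13 ya53 za23) (ka xa13 ya53 za24) (ka xa23 ya36 za24) (ka xa13 ya53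 za26) (ka xa12 ya18 za42) (ka xa13 ya53 za27) (ka xa7 ya54 za58) (ka xa14 ya43 za52) (ka xa7 ya47 za40) (ka xa7 ya26 za11) (ka xa21 ya9 za13) (ka xa12 ya26 za1) (ka xa13 ya53 za38) (ka xa23 ya36 za35) (ka xa7 ya55 za16) (ka xa13 ya4 za21) (ka xa7 ya36 za30) (ka xa14 ya15 za37) (ka xa7 ya55 za21) (ka xa7 ya48 za14) (ka xa7 ya26 za17) (ka xa13 ya7 za8) (ka xa13 ya53 za40) (ka xa13 ya53 za39) (ka xa7 ya26 za19) (ka xa22 ya34 za22) (ka xa13 ya7 za5) (ka xa7 ya38 za41) (ka xa7 ya50 za17) (ka xa7 ya33 za25) (ka xa7 ya26 za24) (ka xa23 ya36 za52) (ka xa21 ya9 za12) (ka xa23 ya36 za60) (ka xa13 ya53 za50) (ka xa11 ya44 za15) (ka xa13 ya53 za51) (ka xa10 ya40 za36) (ka xa17 ya10 za57) (ka xa13 ya19 za0) (ka xa13 ya54 za27) (ka xa13 ya54 za29) (ka xa13 ya54 za32) (ka xa13 ya54 za33) (ka xa13 ya54 za34) (ka xa13 ya54 za35)) (@D3.rec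 (fun _ => Pt) (ka xa13 ya54 za37) (ka xa13 ya54 za38) (ka xa13 ya54 za39) (ka xa23 ya11 za37) (ka xa13 ya54 za40) (ka xa12 ya48 za46) (ka xa12 ya48 za3) (ka xa13 ya54 za41) (ka xa13 ya54 za42) (ka xa13 ya54 za43) (ka xa21 ya29 za47) (ka xa7 ya29 za20) (ka xa7 ya29 za21) (ka xa7 ya29 za22) (ka xa22 ya5 za56) (ka xa7 ya29 za24) (ka xa7 ya29 za25) (ka xa7 ya29 za26) (ka xa7 ya29 za27) (ka xa7 ya29 za28) (ka xa7 ya29 za30) (ka xa9 ya11 za57) (ka xa9 ya29 za28) (ka xa16 ya16 za57) (ka xa13 ya5 za11) (ka xa12 ya30 za53) (ka xa16 ya47 za30) (ka xa11 ya47 za51) (ka xa11 ya47 za43) (ka xa11 ya47 za42) (ka xa12 ya30 za31) (ka xa18 ya6 za6) (ka xa12 ya30 za37) (ka xa12 ya30 za38) (ka xa22 ya11 za1) (ka xa17 ya37 za1) (ka xa7 ya26 za57) (ka xa23 ya37 za57) (ka xa12 ya30 za49) (ka xa12 ya2 za17) (ka xa20 ya23 za1) (ka xa11 ya43 za33)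 (ka xa20 ya23 za0) (ka xa11 ya43 za39) (ka xa11 ya46 za45) (ka xa12 ya31 za23) (ka xa12 ya31 za24) (ka xa12 ya31 za18) (ka xa12 ya36 za19) (ka xa12 ya31 za12) (ka xa20 ya26 za1) (ka xa12 ya31 za14) (ka xa12 ya31 za28) (ka xa12 ya31 za29) (ka xa14 ya23 za44) (ka xa7 ya27 za21) (ka xa20 ya22 za58) (ka xa20 ya22 za57) (ka xa10 ya7 za10) (ka xa20 ya22 za46) (ka xa13 ya58 za42) (ka xa13 ya1 za47)) (@D3.rec (fun _ => Pt) (ka xa13 ya1 za48) (ka xa13 ya6 za20) (ka xa13 ya6 za18) (ka xa7 ya27 za38) (ka xa14 ya0 za24) (ka xa14 ya0 za23) (ka xa23 ya38 za13) (ka xa13 ya6 za32) (ka xa13 ya55 za19) (ka xa13 ya55 za18) (ka xa13 ya55 za17) (ka xa7 ya27 za49) (ka xa7 ya27 za50) (ka xa12 ya22 za44) (ka xa12 ya22 za36) (ka xa16 ya31 za56) (ka xa16 ya31 za57) (ka xa23 ya3 za22) (ka xa22 ya45 za14) (ka xa13 ya55 za26) (ka xa23 ya3 za28) (ka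 xa14 ya0 za34) (ka xa23 ya38 za22) (ka xa23 ya22 za55) (ka xa23 ya29 za61) (ka xa23 ya38 za23) (ka xa23 ya38 za46) (ka xa13 ya56 za30) (ka xa23 ya38 za52) (ka xa13 ya56 za33) (ka xa13 ya56 za34) (ka xa13 ya56 za35) (ka xa13 ya56 za36) (ka xa13 ya56 za37) (ka xa13 ya56 za38) (ka xa13 ya56 za45) (ka xa7 ya27 za55) (ka xa23 ya39 za5) (ka xa16 ya4 za57) (ka xa13 ya56 za43) (ka xa13 ya56 za44) (ka xa22 ya44 za3) (ka xa13 ya9 za40) (ka xa13 ya56 za49) (ka xa13 ya56 za50) (ka xa7 ya52 za39) (ka xa23 ya39 za23) (ka xa13 ya56 za53) (ka xa22 ya44 za5) (ka xa13 ya56 za56) (ka xa7 ya53 za46) (ka xa7 ya43 za51) (ka xa23 ya39 za38) (ka xa7 ya53 za36) (ka xa13 ya56 za58) (ka xa13 ya56 za59) (ka xa13 ya24 za40) (ka xa13 ya24 za54) (ka xa13 ya24 za55) (ka xa13 ya23 za8) (ka xa7 ya43 za33) (ka xa7 ya53 za30)) (@D3.rec (fun _ => Pt) (ka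 xa7 ya53 za35) (ka xa7 ya53 za40) (ka xa13 ya55 za15) (ka xa7 ya28 za12) (ka xa7 ya28 za14) (ka xa13 ya56 za29) (ka xa23 ya39 za56) (ka xa23 ya38 za51) (ka xa13 ya56 za39) (ka xa13 ya56 za51) (ka xa23 ya39 za57) (ka xa13 ya56 za21) (ka xa13 ya55 za45) (ka xa13 ya55 za46) (ka xa15 ya43 za50) (ka xa13 ya55 za49) (ka xa13 ya55 za50) (ka xa13 ya55 za51) (ka xa13 ya55 za52) (ka xa13 ya55 za53) (ka xa13 ya55 za54) (ka xa13 ya55 za59) (ka xa13 ya55 za60) (ka xa13 ya55 za55) (ka xa7 ya28 za21) (ka xa23 ya40 za20) (ka xa23 ya40 za21) (ka xa13 ya56 za2) (ka xa13 ya56 za3) (ka xa13 ya56 za26) (ka xa13 ya56 za6) (ka xa23 ya40 za30) (ka xa23 ya40 za34) (ka xa13 ya57 za5) (ka xa13 ya57 za6) (ka xa13 ya57 za7) (ka xa12 ya23 za49) (ka xa13 ya57 za41) (ka xa11 ya37 za40) (ka xa13 ya57 za2) (ka xa13 ya57 za3) (ka xa7 ya28 za37) (ka xa7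 ya28 za38) (ka xa7 ya28 za39) (ka xa7 ya28 za40) (ka xa7 ya28 za41) (ka xa7 ya28 za42) (ka xa13 ya57 za12) (ka xa9 ya10 za8) (ka xa17 ya22 za54) (ka xa13 ya38 za41) (ka xa19 ya16 za49) (ka xa21 ya29 za39) (ka xa23 ya40 za43) (ka xa23 ya40 za44) (ka xa22 ya29 za46) (ka xa23 ya40 za45) (ka xa22 ya45 za17) (ka xa22 ya15 za60) (ka xa23 ya40 za46) (ka xa23 ya40 za47) (ka xa13 ya59 za27)) (@D3.rec (fun _ => Pt) (ka xa23 ya40 za48) (ka xa23 ya40 za49) (ka xa23 ya40 za50) (ka xa23 ya40 za51) (ka xa13 ya57 za28) (ka xa13 ya58 za0) (ka xa13 ya58 za2) (ka xa13 ya58 za3) (ka xa13 ya58 za4) (ka xa13 ya58 za5) (ka xa13 ya58 za6) (ka xa13 ya58 za7) (ka xa13 ya57 za37) (ka xa7 ya53 za47) (ka xa13 ya58 za9) (ka xa23 ya41 za44) (ka xa7 ya43 za34) (ka xa13 ya58 za13) (ka xa13 ya58 za14) (ka xa13 ya57 za4) (ka xa13 ya57 za44) (ka xa13 ya57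 za42) (ka xa7 ya28 za57) (ka xa22 ya15 za57) (ka xa22 ya44 za28) (ka xa13 ya59 za44) (ka xa22 ya44 za26) (ka xa22 ya44 za27) (ka xa22 ya44 za31) (ka xa22 ya44 za30) (ka xa22 ya42 za50) (ka xa13 ya57 za30) (ka xa13 ya58 za1) (ka xa13 ya57 za31) (ka xa13 ya57 za33) (ka xa13 ya57 za35) (ka xa13 ya57 za36) (ka xa13 ya58 za8) (ka xa23 ya42 za5) (ka xa7 ya29 za3) (ka xa7 ya29 za4) (ka xa13 ya58 za16) (ka xa20 ya21 za56) (ka xa23 ya42 za6) (ka xa23 ya42 za7) (ka xa23 ya42 za8) (ka xa10 ya38 za41) (ka xa13 ya58 za26) (ka xa13 ya58 za27) (ka xa13 ya58 za30) (ka xa13 ya58 za31) (ka xa13 ya58 za32) (ka xa13 ya58 za33) (ka xa13 ya58 za34) (ka xa7 ya29 za10) (ka xa17 ya55 za39) (ka xa17 ya55 za38) (ka xa8 ya32 za58) (ka xa11 ya11 za55) (ka xa17 ya22 za20) (ka xa11 ya23 za56) (ka xa13 ya58 za36)) (@D3.rec (fun _ => Pt) (ka xa17 ya12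 za28) (ka xa16 ya51 za53) (ka xa20 ya5 za54) (ka xa19 ya43 za29) (ka xa12 ya31 za51) (ka xa18 ya50 za16) (ka xa12 ya31 za55) (ka xa12 ya31 za56) (ka xa12 ya31 za57) (ka xa12 ya31 za58) (ka xa12 ya31 za59) (ka xa23 ya37 za34) (ka xa7 ya29 za19) (ka xa23 ya42 za39) (ka xa20 ya40 za6) (ka xa20 ya45 za53) (ka xa11 ya20 za27) (ka xa11 ya10 za8) (ka xa23 ya29 za23) (ka xa23 ya37 za33) (ka xa15 ya10 za49) (ka xa15 ya10 za32) (ka xa17 ya55 za59) (ka xa7 ya52 za10) (ka xa17 ya55 za60) (ka xa21 ya30 za1) (ka xa7 ya29 za23) (ka xa23 ya42 za55) (ka xa23 ya42 za56) (ka xa23 ya43 za1) (ka xa19 ya49 za56) (ka xa21 ya3 za16) (ka xa23 ya37 za38) (ka xa13 ya13 za53) (ka xa23 ya37 za39) (ka xa23 ya30 za0) (ka xa23 ya37 za40) (ka xa23 ya43 za6) (ka xa15 ya50 za29) (ka xa23 ya37 za42) (ka xa23 ya43 za13) (ka xa15 ya50 za28) (ka xa7 ya50 za7)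 (ka xa23 ya37 za44) (ka xa21 ya25 za32) (ka xa21 ya25 za33) (ka xa23 ya43 za27) (ka xa21 ya25 za34) (ka xa21 ya25 za35) (ka xa13 ya40 za15) (ka xa22 ya28 za6) (ka xa7 ya29 za33) (ka xa7 ya29 za34) (ka xa22 ya45 za57) (ka xa22 ya45 za54) (ka xa23 ya43 za35) (ka xa23 ya43 za36) (ka xa13 ya57 za24) (ka xa22 ya45 za9) (ka xa23 ya43 za37) (ka xa23 ya43 za55) (ka xa21 ya25 za10)) (@D3.rec (fun _ => Pt) (ka xa22 ya46 za1) (ka xa22 ya46 za2) (ka xa7 ya50 za33) (ka xa22 ya46 za3) (ka xa7 ya50 za32) (ka xa13 ya48 za38) (ka xa7 ya29 za40) (ka xa7 ya29 za41) (ka xa22 ya30 za13) (ka xa23 ya44 za6) (ka xa22 ya45 za19) (ka xa13 ya57 za56) (ka xa23 ya44 za13) (ka xa21 ya20 za2) (ka xa22 ya45 za60) (ka xa22 ya45 za61) (ka xa22 ya46 za0) (ka xa7 ya29 za44) (ka xa23 ya44 za21) (ka xa23 ya44 za22) (ka xa14 ya9 za41) (ka xa22 ya28 za14) (ka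 xa22 ya28 za15) (ka xa22 ya28 za16) (ka xa7 ya29 za47) (ka xa18 ya26 za44) (ka xa21 ya25 za1) (ka xa22 ya28 za8) (ka xa22 ya28 za9) (ka xa22 ya28 za10) (ka xa23 ya44 za35) (ka xa21 ya25 za29) (ka xa16 ya18 za10) (ka xa21 ya25 za31) (ka xa23 ya2 za2) (ka xa16 ya17 za44) (ka xa7 ya29 za52) (ka xa13 ya6 za27) (ka xa13 ya6 za26) (ka xa7 ya29 za53) (ka xa23 ya44 za43) (ka xa14 ya9 za20) (ka xa18 ya29 za13) (ka xa22 ya12 za13) (ka xa7 ya29 za57) (ka xa7 ya29 za58) (ka xa22 ya45 za43) (ka xa22 ya31 za18) (ka xa10 ya37 za28) (ka xa13 ya55 za28) (ka xa22 ya45 za24) (ka xa23 ya44 za55) (ka xa22 ya12 za24) (ka xa14 ya0 za61) (ka xa14 ya2 za39) (ka xa14 ya2 za40) (ka xa23 ya45 za3) (ka xa21 ya25 za14) (ka xa22 ya12 za25) (ka xa19 ya47 za48) (ka xa22 ya12 za26) (ka xa23 ya1 za46)) (@D3.rec (fun _ => Pt) (ka xa22 ya12 za19) (ka xa7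 ya30 za5) (ka xa7 ya30 za6) (ka xa14 ya0 za40) (ka xa22 ya12 za21) (ka xa23 ya16 za24) (ka xa23 ya45 za10) (ka xa14 ya1 za6) (ka xa23 ya23 za30) (ka xa23 ya45 za24) (ka xa21 ya25 za15) (ka xa21 ya8 za41) (ka xa21 ya6 za13) (ka xa14 ya46 za5) (ka xa7 ya36 za0) (ka xa7 ya36 za1) (ka xa7 ya36 za2) (ka xa7 ya35 za55) (ka xa7 ya35 za56) (ka xa7 ya35 za57) (ka xa14 ya46 za11) (ka xa13 ya7 za15) (ka xa13 ya7 za16) (ka xa13 ya7 za17) (ka xa13 ya7 za19) (ka xa13 ya7 za20) (ka xa13 ya7 za21) (ka xa13 ya7 za22) (ka xa13 ya7 za23) (ka xa13 ya7 za24) (ka xa7 ya41 za59) (ka xa7 ya30 za22) (ka xa23 ya45 za53) (ka xa7 ya46 za48) (ka xa23 ya45 za60) (ka xa7 ya46 za54) (ka xa7 ya46 za55) (ka xa7 ya46 za59) (ka xa23 ya46 za3) (ka xa7 ya46 za42) (ka xa7 ya46 za41) (ka xa7 ya39 za28) (ka xa22 ya0 za38) (ka xa7 ya48 za33) (ka xa22 ya28 za42)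 (ka xa23 ya46 za16) (ka xa22 ya30 za6) (ka xa22 ya58 za59) (ka xa22 ya30 za4) (ka xa7 ya30 za33) (ka xa23 ya46 za19) (ka xa19 ya52 za59) (ka xa7 ya49 za19) (ka xa7 ya49 za20) (ka xa11 ya29 za4) (ka xa20 ya19 za41) (ka xa13 ya0 za51) (ka xa21 ya41 za13) (ka xa14 ya11 za43) (ka xa7 ya30 za49) (ka xa13 ya44 za48) (ka xa22 ya24 za47)) (@D3.rec (fun _ => Pt) (ka xa10 ya47 za27) (ka xa22 ya24 za46) (ka xa22 ya40 za10) (ka xa22 ya35 za51) (ka xa22 ya59 za33) (ka xa17 ya37 za14) (ka xa13 ya10 za48) (ka xa13 ya10 za49) (ka xa13 ya10 za50) (ka xa13 ya10 za51) (ka xa13 ya10 za52) (ka xa13 ya10 za53) (ka xa13 ya10 za54) (ka xa22 ya53 za42) (ka xa7 ya30 za59) (ka xa12 ya14 za58) (ka xa12 ya15 za21) (ka xa9 ya12 za31) (ka xa23 ya46 za48) (ka xa12 ya35 za22) (ka xa12 ya39 za10) (ka xa22 ya44 za2) (ka xa22 ya30 za15) (ka xa13 ya0 za20)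 (ka xa7 ya31 za1) (ka xa23 ya16 za18) (ka xa12 ya30 za50) (ka xa12 ya39 za9) (ka xa7 ya31 za6) (ka xa7 ya31 za7) (ka xa12 ya34 za59) (ka xa20 ya40 za25) (ka xa12 ya36 za14) (ka xa12 ya47 za0) (ka xa12 ya46 za61) (ka xa20 ya17 za14) (ka xa12 ya35 za26) (ka xa12 ya35 za27) (ka xa8 ya34 za49) (ka xa7 ya31 za14) (ka xa13 ya20 za59) (ka xa16 ya58 za27) (ka xa23 ya47 za3) (ka xa14 ya10 za58) (ka xa21 ya38 za28) (ka xa11 ya42 za25) (ka xa9 ya21 za27) (ka xa8 ya21 za45) (ka xa16 ya3 za48) (ka xa11 ya36 za5) (ka xa7 ya31 za28) (ka xa20 ya22 za9) (ka xa18 ya57 za51) (ka xa23 ya47 za17) (ka xa10 ya23 za12) (ka xa12 ya3 za14) (ka xa21 ya45 za18) (ka xa18 ya43 za44) (ka xa18 ya35 za52) (ka xa7 ya31 za39) (ka xa12 ya10 za44) (ka xa7 ya31 za42)) (@D3.rec (fun _ => Pt) (ka xa7 ya31 za43) (ka xa22 ya15 za54) (ka xa12 ya58 za19) (ka xa23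 ya47 za20) (ka xa15 ya49 za55) (ka xa22 ya15 za55) (ka xa12 ya58 za20) (ka xa21 ya7 za61) (ka xa17 ya34 za59) (ka xa23 ya47 za32) (ka xa12 ya42 za36) (ka xa21 ya7 za36) (ka xa12 ya35 za48) (ka xa12 ya35 za50) (ka xa18 ya7 za40) (ka xa14 ya12 za16) (ka xa14 ya12 za15) (ka xa12 ya25 za14) (ka xa12 ya35 za41) (ka xa7 ya31 za50) (ka xa23 ya47 za36) (ka xa12 ya35 za38) (ka xa9 ya49 za41) (ka xa22 ya33 za7) (ka xa22 ya30 za61) (ka xa9 ya49 za42) (ka xa21 ya44 za2) (ka xa22 ya33 za6) (ka xa7 ya32 za5) (ka xa11 ya40 za38) (ka xa14 ya22 za40) (ka xa11 ya28 za8) (ka xa14 ya22 za38) (ka xa21 ya6 za50) (ka xa13 ya16 za40) (ka xa13 ya50 za40) (ka xa22 ya40 za17) (ka xa22 ya34 za54) (ka xa12 ya44 za25) (ka xa14 ya25 za46) (ka xa22 ya40 za20) (ka xa22 ya40 za19) (ka xa12 ya15 za2) (ka xa12 ya28 za0) (ka xa7 ya47 za55) (ka xa13 ya8 za52)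 (ka xa13 ya3 za6) (ka xa7 ya32 za15) (ka xa7 ya32 za17) (ka xa7 ya32 za18) (ka xa9 ya47 za28) (ka xa13 ya6 za33) (ka xa13 ya10 za59) (ka xa22 ya21 za26) (ka xa20 ya41 za21) (ka xa22 ya21 za27) (ka xa20 ya40 za44) (ka xa23 ya47 za58) (ka xa13 ya4 za5) (ka xa13 ya4 za6) (ka xa23 ya47 za59) (ka xa13 ya13 za28)) (@D3.rec (fun _ => Pt) (ka xa23 ya47 za60) (ka xa23 ya47 za61) (ka xa14 ya23 za35) (ka xa14 ya23 za36) (ka xa14 ya23 za37) (ka xa14 ya23 za38) (ka xa14 ya23 za39) (ka xa14 ya23 za40) (ka xa14 ya23 za41) (ka xa14 ya23 za42) (ka xa22 ya34 za11) (ka xa14 ya44 za10) (ka xa23 ya48 za40) (ka xa22 ya33 za21) (ka xa22 ya33 za22) (ka xa13 ya16 za29) (ka xa7 ya32 za28) (ka xa22 ya12 za28) (ka xa22 ya12 za29) (ka xa23 ya48 za46) (ka xa22 ya38 za30) (ka xa17 ya17 za22) (ka xa14 ya44 za0) (ka xa17 ya17 za24) (ka xa17 ya17 za25)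 (ka xa22 ya15 za26) (ka xa7 ya32 za44) (ka xa14 ya51 za60) (ka xa14 ya22 za13) (ka xa10 ya47 za15) (ka xa14 ya15 za23) (ka xa7 ya32 za39) (ka xa19 ya20 za38) (ka xa23 ya48 za61) (ka xa18 ya21 za1) (ka xa14 ya43 za58) (ka xa13 ya53 za44) (ka xa10 ya41 za56) (ka xa15 ya30 za60) (ka xa7 ya32 za47) (ka xa20 ya45 za12) (ka xa21 ya59 za57) (ka xa23 ya49 za8) (ka xa21 ya40 za36) (ka xa22 ya0 za5) (ka xa22 ya33 za35) (ka xa21 ya52 za50) (ka xa7 ya32 za51) (ka xa7 ya32 za52) (ka xa14 ya20 za1) (ka xa13 ya1 za32) (ka xa23 ya49 za19) (ka xa17 ya10 za8) (ka xa23 ya49 za20) (ka xa21 ya3 za61) (ka xa21 ya53 za9) (ka xa17 ya21 za26) (ka xa17 ya28 za42) (ka xa12 ya15 za46) (ka xa22 ya33 za32) (ka xa17 ya28 za48) (ka xa14 ya37 za18)) (@D3.rec (fun _ => Pt) (ka xa22 ya33 za33) (ka xa20 ya45 za21) (ka xa7 ya32 za57) (ka xa23 ya49 za38) (ka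 xa21 ya43 za54) (ka xa23 ya49 za43) (ka xa12 ya36 za21) (ka xa12 ya36 za22) (ka xa17 ya22 za0) (ka xa22 ya34 za29) (ka xa22 ya34 za30) (ka xa22 ya34 za31) (ka xa7 ya38 za35) (ka xa17 ya20 za44) (ka xa13 ya6 za46) (ka xa7 ya32 za61) (ka xa23 ya34 za29) (ka xa23 ya49 za60) (ka xa12 ya15 za1) (ka xa12 ya36 za23) (ka xa12 ya36 za9) (ka xa22 ya34 za32) (ka xa18 ya26 za25) (ka xa23 ya50 za7) (ka xa14 ya35 za16) (ka xa14 ya26 za52) (ka xa22 ya34 za34) (ka xa23 ya50 za14) (ka xa14 ya35 za17) (ka xa22 ya34 za36) (ka xa18 ya6 za3) (ka xa18 ya6 za2) (ka xa22 ya34 za38) (ka xa21 ya14 za46) (ka xa22 ya34 za46) (ka xa7 ya33 za9) (ka xa7 ya33 za10) (ka xa22 ya34 za50) (ka xa22 ya34 za49) (ka xa23 ya50 za27) (ka xa23 ya50 za28) (ka xa22 ya33 za15) (ka xa22 ya56 za13) (ka xa23 ya50 za44) (ka xa22 ya34 za42) (ka xa22 ya34 za43) (ka xa22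 ya34 za44) (ka xa22 ya34 za45) (ka xa13 ya4 za25) (ka xa7 ya33 za16) (ka xa7 ya33 za17) (ka xa23 ya50 za52) (ka xa23 ya50 za53) (ka xa16 ya4 za56) (ka xa13 ya4 za11) (ka xa23 ya51 za1) (ka xa22 ya34 za56) (ka xa22 ya34 za57) (ka xa22 ya34 za58) (ka xa14 ya44 za3) (ka xa22 ya34 za59) (ka xa14 ya44 za2)) (@D3.rec (fun _ => Pt) (ka xa7 ya33 za21) (ka xa23 ya51 za14) (ka xa22 ya15 za21) (ka xa23 ya51 za15) (ka xa23 ya51 za23) (ka xa22 ya35 za1) (ka xa22 ya35 za2) (ka xa22 ya35 za3) (ka xa22 ya35 za4) (ka xa22 ya35 za5) (ka xa23 ya36 za50) (ka xa23 ya36 za51) (ka xa23 ya51 za45) (ka xa22 ya35 za10) (ka xa14 ya58 za51) (ka xa7 ya38 za44) (ka xa16 ya18 za17) (ka xa23 ya51 za54) (ka xa22 ya35 za12) (ka xa22 ya15 za40) (ka xa9 ya53 za49) (ka xa9 ya34 za42) (ka xa13 ya59 za22) (ka xa14 ya13 za30) (ka xa19 ya22 za9) (ka xa11 ya0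 za41) (ka xa22 ya14 za44) (ka xa14 ya15 za28) (ka xa14 ya15 za27) (ka xa14 ya49 za28) (ka xa14 ya49 za29) (ka xa13 ya5 za3) (ka xa14 ya1 za16) (ka xa14 ya1 za17) (ka xa14 ya1 za18) (ka xa14 ya1 za20) (ka xa23 ya52 za16) (ka xa14 ya3 za33) (ka xa13 ya19 za59) (ka xa20 ya41 za46) (ka xa13 ya45 za4) (ka xa22 ya30 za22) (ka xa22 ya41 za11) (ka xa22 ya36 za34) (ka xa22 ya30 za21) (ka xa22 ya41 za12) (ka xa20 ya33 za10) (ka xa20 ya33 za11) (ka xa20 ya33 za9) (ka xa10 ya1 za18) (ka xa21 ya6 za25) (ka xa23 ya52 za37) (ka xa7 ya33 za56) (ka xa18 ya38 za29) (ka xa18 ya15 za31) (ka xa21 ya18 za19) (ka xa11 ya27 za54) (ka xa7 ya41 za10) (ka xa13 ya5 za14) (ka xa13 ya5 za15) (ka xa13 ya5 za16) (ka xa13 ya5 za17)) (@D3.rec (fun _ => Pt) (ka xa13 ya3 za49) (ka xa14 ya26 za7) (ka xa14 ya26 za8) (ka xa22 ya29 za60) (ka xa13 ya34 za45)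 (ka xa22 ya34 za12) (ka xa22 ya26 za43) (ka xa7 ya34 za20) (ka xa13 ya5 za43) (ka xa22 ya0 za24) (ka xa22 ya0 za25) (ka xa17 ya28 za37) (ka xa17 ya20 za49) (ka xa17 ya20 za51) (ka xa12 ya57 za28) (ka xa13 ya5 za45) (ka xa22 ya0 za26) (ka xa22 ya0 za27) (ka xa22 ya0 za29) (ka xa22 ya0 za30) (ka xa22 ya0 za31) (ka xa22 ya0 za32) (ka xa22 ya0 za33) (ka xa22 ya0 za34) (ka xa17 ya34 za6) (ka xa13 ya5 za54) (ka xa13 ya5 za55) (ka xa22 ya57 za41) (ka xa22 ya57 za42) (ka xa22 ya57 za39) (ka xa22 ya57 za40) (ka xa13 ya6 za0) (ka xa22 ya57 za47) (ka xa19 ya34 za22) (ka xa22 ya57 za45) (ka xa22 ya57 za46) (ka xa22 ya57 za48) (ka xa10 ya53 za53) (ka xa23 ya52 za58) (ka xa17 ya34 za7) (ka xa7 ya34 za21) (ka xa23 ya53 za53) (ka xa12 ya35 za28) (ka xa17 ya34 za14) (ka xa18 ya55 za8) (ka xa22 ya33 za36) (ka xa7 ya40 za0) (ka xa17 ya26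 za41) (ka xa18 ya10 za39) (ka xa7 ya34 za25) (ka xa21 ya44 za22) (ka xa20 ya33 za57) (ka xa23 ya54 za0) (ka xa10 ya13 za59) (ka xa12 ya35 za31) (ka xa12 ya35 za32) (ka xa18 ya55 za10) (ka xa17 ya21 za22) (ka xa22 ya33 za39) (ka xa22 ya7 za16) (ka xa23 ya54 za12) (ka xa14 ya23 za61)) (@D3.rec (fun _ => Pt) (ka xa22 ya33 za40) (ka xa18 ya57 za43) (ka xa22 ya33 za42) (ka xa7 ya34 za33) (ka xa7 ya34 za34) (ka xa13 ya37 za37) (ka xa23 ya54 za24) (ka xa23 ya54 za25) (ka xa7 ya51 za7) (ka xa22 ya31 za5) (ka xa18 ya55 za45) (ka xa22 ya31 za6) (ka xa22 ya30 za59) (ka xa22 ya30 za60) (ka xa7 ya34 za38) (ka xa7 ya34 za39) (ka xa22 ya31 za2) (ka xa22 ya31 za1) (ka xa23 ya54 za42) (ka xa23 ya54 za43) (ka xa22 ya40 za61) (ka xa22 ya33 za13) (ka xa22 ya33 za49) (ka xa7 ya34 za41) (ka xa23 ya54 za56) (ka xa13 ya36 za10) (ka xa13 ya36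 za14) (ka xa22 ya33 za53) (ka xa7 ya34 za43) (ka xa23 ya55 za0) (ka xa23 ya55 za1) (ka xa22 ya33 za57) (ka xa22 ya33 za58) (ka xa7 ya40 za6) (ka xa22 ya33 za59) (ka xa13 ya47 za49) (ka xa13 ya40 za16) (ka xa22 ya40 za60) (ka xa22 ya29 za48) (ka xa10 ya33 za31) (ka xa13 ya8 za61) (ka xa7 ya37 za52) (ka xa7 ya39 za27) (ka xa9 ya22 za7) (ka xa12 ya34 za2) (ka xa12 ya34 za3) (ka xa11 ya32 za19) (ka xa12 ya34 za4) (ka xa7 ya53 za11) (ka xa13 ya9 za3) (ka xa7 ya38 za28) (ka xa7 ya38 za29) (ka xa23 ya55 za34) (ka xa7 ya38 za32) (ka xa7 ya38 za33) (ka xa7 ya38 za34) (ka xa7 ya38 za36) (ka xa7 ya38 za37) (ka xa13 ya9 za5) (ka xa7 ya38 za43) (ka xa13 ya9 za6) (ka xa7 ya38 za55)) (@D3.rec (fun _ => Pt) (ka xa23 ya55 za51) (ka xa7 ya38 za58) (ka xa13 ya9 za31) (ka xa7 ya39 za6) (ka xa7 ya39 za7) (ka xa7 ya40 za29) (ka xa14 ya23 za16)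 (ka xa13 ya8 za8) (ka xa14 ya23 za23) (ka xa15 ya32 za51) (ka xa23 ya56 za8) (ka xa7 ya39 za55) (ka xa7 ya39 za56) (ka xa7 ya39 za59) (ka xa7 ya39 za60) (ka xa7 ya39 za61) (ka xa7 ya40 za1) (ka xa7 ya40 za2) (ka xa7 ya40 za7) (ka xa7 ya35 za14) (ka xa23 ya56 za21) (ka xa7 ya40 za5) (ka xa11 ya36 za36) (ka xa7 ya40 za11) (ka xa7 ya40 za12) (ka xa20 ya37 za11) (ka xa7 ya40 za16) (ka xa22 ya18 za8) (ka xa7 ya40 za19) (ka xa7 ya40 za20) (ka xa13 ya32 za44) (ka xa13 ya9 za49) (ka xa7 ya41 za58) (ka xa7 ya41 za52) (ka xa7 ya35 za25) (ka xa7 ya35 za26) (ka xa7 ya35 za27) (ka xa7 ya35 za28) (ka xa20 ya28 za55) (ka xa22 ya38 za39) (ka xa20 ya28 za51) (ka xa19 ya16 za13) (ka xa19 ya34 za33) (ka xa23 ya56 za32) (ka xa7 ya41 za35) (ka xa7 ya41 za36) (ka xa13 ya10 za38) (ka xa7 ya41 za38) (ka xa7 ya41 za39) (ka xa7 ya41 za40) (ka xa7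 ya41 za41) (ka xa7 ya41 za42) (ka xa7 ya41 za43) (ka xa23 ya7 za51) (ka xa7 ya40 za54) (ka xa7 ya40 za55) (ka xa7 ya40 za57) (ka xa13 ya10 za28) (ka xa7 ya40 za47) (ka xa7 ya40 za50) (ka xa7 ya35 za44) (ka xa18 ya10 za55)) (@D3.rec (fun _ => Pt) (ka xa20 ya27 za7) (ka xa18 ya38 za12) (ka xa14 ya48 za57) (ka xa22 ya57 za8) (ka xa21 ya40 za12) (ka xa22 ya57 za5) (ka xa22 ya57 za6) (ka xa7 ya45 za40) (ka xa22 ya57 za11) (ka xa22 ya57 za10) (ka xa23 ya56 za55) (ka xa13 ya10 za15) (ka xa7 ya42 za23) (ka xa7 ya42 za24) (ka xa7 ya42 za26) (ka xa7 ya42 za28) (ka xa7 ya42 za29) (ka xa7 ya42 za31) (ka xa13 ya10 za21) (ka xa7 ya42 za32) (ka xa7 ya40 za53) (ka xa7 ya35 za54) (ka xa21 ya39 za57) (ka xa13 ya10 za34) (ka xa7 ya41 za20) (ka xa19 ya31 za13) (ka xa14 ya47 za0) (ka xa14 ya23 za9) (ka xa23 ya45 za30) (ka xa14 ya23 za19) (ka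 xa23 ya45 za31) (ka xa20 ya33 za48) (ka xa7 ya41 za44) (ka xa23 ya45 za32) (ka xa21 ya15 za54) (ka xa7 ya41 za51) (ka xa18 ya42 za1) (ka xa7 ya42 za14) (ka xa13 ya10 za6) (ka xa23 ya7 za0) (ka xa13 ya31 za33) (ka xa22 ya19 za59) (ka xa23 ya45 za27) (ka xa22 ya20 za5) (ka xa7 ya42 za25) (ka xa23 ya45 za28) (ka xa13 ya1 za45) (ka xa7 ya42 za33) (ka xa23 ya45 za29) (ka xa16 ya30 za12) (ka xa7 ya36 za18) (ka xa7 ya36 za20) (ka xa7 ya36 za21) (ka xa7 ya36 za22) (ka xa7 ya36 za23) (ka xa13 ya30 za27) (ka xa7 ya36 za25) (ka xa7 ya36 za27) (ka xa14 ya54 za10) (ka xa7 ya36 za31) (ka xa7 ya36 za32) (ka xa7 ya36 za33)) (@D3.rec (fun _ => Pt) (ka xa7 ya36 za34) (ka xa14 ya13 za49) (ka xa22 ya11 za18) (ka xa17 ya22 za19) (ka xa12 ya48 za57) (ka xa7 ya44 za1) (ka xa21 ya52 za23) (ka xa15 ya26 za39) (ka xa20 ya45 za57) (ka xa15 ya26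 za27) (ka xa18 ya23 za20) (ka xa14 ya50 za0) (ka xa12 ya10 za40) (ka xa20 ya9 za11) (ka xa17 ya2 za8) (ka xa23 ya58 za7) (ka xa12 ya48 za58) (ka xa20 ya33 za18) (ka xa20 ya45 za60) (ka xa12 ya48 za59) (ka xa11 ya45 za42) (ka xa23 ya57 za55) (ka xa23 ya57 za56) (ka xa21 ya11 za16) (ka xa21 ya3 za41) (ka xa23 ya36 za11) (ka xa7 ya36 za24) (ka xa23 ya58 za15) (ka xa23 ya58 za16) (ka xa14 ya22 za6) (ka xa23 ya57 za58) (ka xa13 ya16 za48) (ka xa14 ya42 za37) (ka xa23 ya6 za16) (ka xa7 ya36 za28) (ka xa14 ya44 za57) (ka xa19 ya21 za26) (ka xa23 ya58 za25) (ka xa9 ya8 za50) (ka xa18 ya41 za61) (ka xa23 ya58 za29) (ka xa9 ya8 za49) (ka xa23 ya57 za61) (ka xa21 ya11 za20) (ka xa11 ya31 za31) (ka xa21 ya36 za30) (ka xa12 ya57 za56) (ka xa7 ya44 za47) (ka xa7 ya44 za48) (ka xa7 ya44 za50) (ka xa7 ya44 za51) (ka xa7 ya44 za52) (ka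 xa7 ya44 za54) (ka xa7 ya44 za39) (ka xa7 ya36 za39) (ka xa19 ya5 za35) (ka xa20 ya51 za18) (ka xa7 ya44 za59) (ka xa7 ya44 za60) (ka xa7 ya44 za61) (ka xa7 ya45 za0) (ka xa7 ya45 za1)) (@D3.rec (fun _ => Pt) (ka xa7 ya45 za2) (ka xa7 ya45 za3) (ka xa7 ya45 za5) (ka xa7 ya45 za6) (ka xa7 ya45 za7) (ka xa19 ya23 za31) (ka xa7 ya45 za9) (ka xa7 ya45 za11) (ka xa7 ya45 za12) (ka xa7 ya45 za13) (ka xa23 ya59 za13) (ka xa7 ya45 za15) (ka xa7 ya45 za16) (ka xa7 ya45 za17) (ka xa7 ya45 za60) (ka xa7 ya36 za49) (ka xa7 ya42 za18) (ka xa7 ya45 za49) (ka xa7 ya45 za50) (ka xa7 ya45 za54) (ka xa7 ya45 za55) (ka xa7 ya45 za56) (ka xa7 ya45 za30) (ka xa7 ya45 za31) (ka xa7 ya36 za56) (ka xa7 ya45 za36) (ka xa23 ya34 za6) (ka xa7 ya41 za19) (ka xa18 ya2 za48) (ka xa7 ya46 za14) (ka xa7 ya46 za15) (ka xa21 ya55 za9) (ka xa18 ya18 za33)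 (ka xa7 ya46 za23) (ka xa7 ya46 za24) (ka xa7 ya46 za25) (ka xa7 ya46 za27) (ka xa23 ya59 za34) (ka xa7 ya46 za29) (ka xa20 ya24 za43) (ka xa7 ya46 za31) (ka xa11 ya40 za2) (ka xa14 ya50 za39) (ka xa7 ya37 za4) (ka xa7 ya46 za39) (ka xa7 ya46 za40) (ka xa20 ya52 za3) (ka xa7 ya37 za57) (ka xa7 ya37 za7) (ka xa23 ya59 za44) (ka xa7 ya47 za14) (ka xa7 ya53 za29) (ka xa7 ya48 za5) (ka xa7 ya37 za11) (ka xa7 ya48 za9) (ka xa7 ya48 za8) (ka xa23 ya59 za50) (ka xa11 ya0 za46) (ka xa10 ya41 za0) (ka xa7 ya47 za29) (ka xa24 ya0 za2) (ka xa7 ya47 za33)) (@D3.rec (fun _ => Pt) (ka xa24 ya0 za8) (ka xa7 ya47 za35) (ka xa7 ya47 za36) (ka xa7 ya47 za37) (ka xa7 ya47 za39) (ka xa7 ya37 za16) (ka xa14 ya20 za29) (ka xa7 ya47 za17) (ka xa7 ya37 za19) (ka xa7 ya37 za20) (ka xa7 ya47 za21) (ka xa7 ya47 za20) (ka xa24 ya0 za14) (ka xa14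 ya13 za28) (ka xa20 ya24 za41) (ka xa7 ya48 za16) (ka xa7 ya48 za17) (ka xa7 ya48 za18) (ka xa7 ya48 za19) (ka xa7 ya48 za20) (ka xa13 ya10 za30) (ka xa7 ya43 za37) (ka xa13 ya10 za29) (ka xa22 ya57 za7) (ka xa21 ya40 za11) (ka xa17 ya25 za8) (ka xa21 ya40 za13) (ka xa21 ya40 za14) (ka xa21 ya40 za15) (ka xa13 ya10 za17) (ka xa9 ya26 za17) (ka xa9 ya26 za14) (ka xa13 ya10 za19) (ka xa13 ya10 za20) (ka xa7 ya52 za31) (ka xa13 ya10 za22) (ka xa7 ya52 za59) (ka xa7 ya52 za60) (ka xa14 ya12 za32) (ka xa22 ya50 za44) (ka xa14 ya12 za30) (ka xa22 ya50 za43) (ka xa7 ya37 za47) (ka xa7 ya37 za48) (ka xa7 ya37 za49) (ka xa7 ya37 za50) (ka xa13 ya41 za53) (ka xa24 ya0 za53) (ka xa22 ya56 za27) (ka xa13 ya41 za34) (ka xa24 ya0 za54) (ka xa24 ya0 za55) (ka xa23 ya47 za50) (ka xa22 ya24 za59) (ka xa24 ya0 za56) (ka xa22 ya0 za46) (ka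 xa22 ya40 za59) (ka xa24 ya1 za13) (ka xa14 ya40 za53) (ka xa22 ya40 za56) (ka xa7 ya53 za18) (ka xa7 ya37 za59)) (@D3.rec (fun _ => Pt) (ka xa10 ya41 za1) (ka xa23 ya59 za45) (ka xa23 ya19 za18) (ka xa24 ya1 za18) (ka xa24 ya1 za30) (ka xa7 ya38 za0) (ka xa17 ya1 za26) (ka xa17 ya28 za35) (ka xa17 ya28 za36) (ka xa14 ya19 za27) (ka xa7 ya38 za13) (ka xa7 ya38 za14) (ka xa15 ya27 za3) (ka xa12 ya4 za46) (ka xa12 ya4 za47) (ka xa22 ya20 za2) (ka xa14 ya18 za6) (ka xa11 ya55 za61) (ka xa15 ya51 za10) (ka xa14 ya19 za29) (ka xa7 ya38 za11) (ka xa24 ya1 za41) (ka xa22 ya26 za57) (ka xa14 ya18 za8) (ka xa11 ya4 za21) (ka xa19 ya42 za8) (ka xa22 ya41 za31) (ka xa13 ya29 za53) (ka xa7 ya38 za17) (ka xa12 ya35 za55) (ka xa21 ya41 za37) (ka xa24 ya1 za52) (ka xa24 ya1 za53) (ka xa24 ya1 za54) (ka xa9 ya21 za23) (ka xa14 ya13 za2)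 (ka xa14 ya13 za3) (ka xa14 ya13 za4) (ka xa14 ya13 za5) (ka xa14 ya13 za6) (ka xa14 ya13 za7) (ka xa14 ya13 za8) (ka xa14 ya13 za9) (ka xa14 ya33 za5) (ka xa14 ya4 za54) (ka xa11 ya28 za31) (ka xa21 ya16 za13) (ka xa11 ya41 za0) (ka xa9 ya22 za19) (ka xa23 ya55 za33) (ka xa7 ya38 za26) (ka xa24 ya2 za20) (ka xa24 ya2 za21) (ka xa18 ya26 za17) (ka xa12 ya41 za17) (ka xa12 ya41 za18) (ka xa21 ya21 za3) (ka xa23 ya55 za30) (ka xa23 ya55 za31) (ka xa23 ya55 za32) (ka xa21 ya49 za42) (ka xa14 ya16 za61)) (@D3.rec (fun _ => Pt) (ka xa11 ya58 za24) (ka xa7 ya38 za30) (ka xa24 ya2 za41) (ka xa24 ya2 za42) (ka xa24 ya2 za43) (ka xa17 ya16 za41) (ka xa12 ya41 za20) (ka xa12 ya41 za21) (ka xa23 ya55 za38) (ka xa23 ya55 za39) (ka xa21 ya53 za0) (ka xa23 ya55 za40) (ka xa23 ya55 za41) (ka xa20 ya58 za16) (ka xa14 ya30 za15) (ka xa15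 ya55 za3) (ka xa24 ya3 za5) (ka xa14 ya30 za16) (ka xa23 ya49 za58) (ka xa19 ya35 za24) (ka xa19 ya35 za23) (ka xa23 ya55 za43) (ka xa20 ya25 za39) (ka xa22 ya56 za21) (ka xa7 ya38 za40) (ka xa22 ya56 za24) (ka xa22 ya56 za23) (ka xa24 ya3 za21) (ka xa24 ya3 za22) (ka xa22 ya50 za48) (ka xa23 ya36 za49) (ka xa13 ya43 za10) (ka xa13 ya44 za11) (ka xa20 ya40 za11) (ka xa23 ya51 za52) (ka xa19 ya41 za1) (ka xa19 ya40 za61) (ka xa7 ya52 za34) (ka xa13 ya9 za8) (ka xa7 ya38 za47) (ka xa7 ya38 za48) (ka xa7 ya50 za14) (ka xa24 ya3 za42) (ka xa22 ya27 za48) (ka xa23 ya54 za37) (ka xa22 ya42 za38) (ka xa24 ya3 za43) (ka xa24 ya3 za44) (ka xa22 ya27 za49) (ka xa24 ya4 za1) (ka xa22 ya56 za28) (ka xa22 ya56 za29) (ka xa22 ya56 za30) (ka xa22 ya41 za37) (ka xa22 ya56 za31) (ka xa22 ya41 za36) (ka xa7 ya38 za53) (ka xa24 ya4 za11)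 (ka xa24 ya4 za12) (ka xa24 ya4 za21) (ka xa14 ya30 za26) (ka xa23 ya55 za48)) (@D3.rec (fun _ => Pt) (ka xa23 ya55 za49) (ka xa23 ya55 za50) (ka xa7 ya38 za56) (ka xa24 ya4 za29) (ka xa24 ya4 za30) (ka xa24 ya4 za39) (ka xa14 ya30 za28) (ka xa23 ya55 za54) (ka xa15 ya55 za6) (ka xa23 ya55 za55) (ka xa17 ya0 za34) (ka xa23 ya12 za51) (ka xa23 ya12 za52) (ka xa23 ya12 za53) (ka xa14 ya51 za48) (ka xa13 ya42 za54) (ka xa13 ya44 za24) (ka xa24 ya4 za61) (ka xa14 ya48 za45) (ka xa14 ya48 za46) (ka xa14 ya48 za47) (ka xa14 ya48 za48) (ka xa24 ya5 za7) (ka xa22 ya47 za16) (ka xa11 ya51 za30) (ka xa23 ya55 za59) (ka xa23 ya55 za60) (ka xa23 ya55 za61) (ka xa22 ya39 za30) (ka xa23 ya56 za0) (ka xa22 ya39 za29) (ka xa17 ya55 za7) (ka xa15 ya4 za2) (ka xa7 ya39 za17) (ka xa11 ya27 za40) (ka xa12 ya9 za59) (ka xa23 ya9 za59) (ka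 xa23 ya9 za58) (ka xa14 ya43 za10) (ka xa23 ya10 za0) (ka xa23 ya9 za61) (ka xa22 ya54 za8) (ka xa16 ya26 za33) (ka xa20 ya37 za12) (ka xa23 ya6 za3) (ka xa24 ya5 za43) (ka xa14 ya12 za39) (ka xa23 ya10 za49) (ka xa7 ya39 za23) (ka xa13 ya7 za54) (ka xa13 ya7 za55) (ka xa13 ya7 za56) (ka xa22 ya32 za61) (ka xa22 ya51 za12) (ka xa7 ya48 za35) (ka xa22 ya32 za53) (ka xa11 ya47 za21) (ka xa23 ya46 za7) (ka xa7 ya39 za40) (ka xa7 ya39 za41) (ka xa7 ya39 za42) (ka xa7 ya39 za43)) (@D3.rec (fun _ => Pt) (ka xa7 ya39 za44) (ka xa7 ya50 za57) (ka xa7 ya39 za47) (ka xa7 ya39 za49) (ka xa7 ya39 za50) (ka xa7 ya39 za51) (ka xa12 ya10 za28) (ka xa14 ya16 za1) (ka xa14 ya16 za2) (ka xa12 ya10 za5) (ka xa24 ya5 za57) (ka xa23 ya55 za25) (ka xa17 ya34 za12) (ka xa22 ya6 za58) (ka xa13 ya8 za16) (ka xa24 ya5 za58) (ka xa24 ya5 za59) (ka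 xa20 ya34 za22) (ka xa23 ya53 za21) (ka xa23 ya55 za21) (ka xa17 ya32 za26) (ka xa23 ya53 za3) (ka xa24 ya5 za60) (ka xa16 ya44 za36) (ka xa13 ya8 za24) (ka xa13 ya8 za25) (ka xa22 ya41 za50) (ka xa22 ya53 za2) (ka xa22 ya53 za3) (ka xa24 ya6 za0) (ka xa24 ya6 za1) (ka xa13 ya8 za33) (ka xa22 ya7 za7) (ka xa13 ya33 za58) (ka xa24 ya6 za2) (ka xa13 ya34 za43) (ka xa13 ya34 za42) (ka xa24 ya6 za3) (ka xa24 ya6 za4) (ka xa24 ya6 za55) (ka xa24 ya6 za6) (ka xa19 ya30 za52) (ka xa7 ya39 za53) (ka xa24 ya7 za1) (ka xa24 ya7 za2) (ka xa12 ya39 za40) (ka xa12 ya39 za41) (ka xa23 ya56 za11) (ka xa21 ya20 za31) (ka xa23 ya56 za12) (ka xa23 ya56 za13) (ka xa23 ya49 za51) (ka xa14 ya14 za25) (ka xa23 ya56 za7) (ka xa7 ya39 za57) (ka xa21 ya30 za11) (ka xa24 ya7 za21) (ka xa24 ya7 za22) (ka xa11 ya25 za47) (ka xa12 ya39 za42) (ka xa12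 ya39 za43) (ka xa23 ya56 za14)) (@D3.rec (fun _ => Pt) (ka xa22 ya57 za0) (ka xa21 ya16 za54) (ka xa23 ya56 za15) (ka xa21 ya35 za6) (ka xa21 ya2 za55) (ka xa14 ya31 za47) (ka xa23 ya56 za16) (ka xa21 ya44 za17) (ka xa14 ya31 za48) (ka xa23 ya53 za60) (ka xa23 ya56 za17) (ka xa23 ya56 za18) (ka xa24 ya7 za52) (ka xa17 ya32 za38) (ka xa23 ya56 za19) (ka xa15 ya52 za20) (ka xa7 ya40 za4) (ka xa23 ya48 za11) (ka xa14 ya52 za3) (ka xa24 ya7 za58) (ka xa13 ya32 za12) (ka xa13 ya31 za53) (ka xa23 ya55 za13) (ka xa23 ya55 za11) (ka xa23 ya55 za12) (ka xa23 ya55 za14) (ka xa22 ya47 za25) (ka xa23 ya56 za20) (ka xa7 ya40 za9) (ka xa7 ya40 za10) (ka xa23 ya50 za41) (ka xa23 ya50 za39) (ka xa24 ya8 za14) (ka xa14 ya42 za41) (ka xa14 ya42 za40) (ka xa23 ya56 za22) (ka xa23 ya56 za23) (ka xa23 ya56 za24) (ka xa23 ya56 za25) (ka xa7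 ya40 za13) (ka xa22 ya14 za27) (ka xa20 ya37 za9) (ka xa14 ya31 za61) (ka xa23 ya56 za26) (ka xa23 ya56 za27) (ka xa22 ya46 za49) (ka xa20 ya37 za2) (ka xa7 ya40 za17) (ka xa24 ya8 za38) (ka xa14 ya32 za0) (ka xa18 ya48 za10) (ka xa23 ya56 za29) (ka xa23 ya56 za30) (ka xa19 ya37 za48) (ka xa13 ya31 za48) (ka xa14 ya51 za20) (ka xa24 ya8 za45) (ka xa13 ya31 za46) (ka xa12 ya59 za35) (ka xa16 ya27 za20) (ka xa24 ya8 za53) (ka xa7 ya40 za22)) (@D3.rec (fun _ => Pt) (ka xa24 ya8 za49) (ka xa19 ya28 za36) (ka xa19 ya28 za34) (ka xa19 ya28 za35) (ka xa22 ya48 za37) (ka xa22 ya48 za36) (ka xa23 ya1 za11) (ka xa23 ya1 za12) (ka xa14 ya52 za25) (ka xa14 ya52 za26) (ka xa14 ya52 za27) (ka xa13 ya31 za47) (ka xa23 ya4 za43) (ka xa13 ya38 za49) (ka xa13 ya31 za49) (ka xa13 ya44 za12) (ka xa7 ya40 za32) (ka xa13 ya33 za14) (ka xa22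 ya41 za10) (ka xa7 ya40 za34) (ka xa23 ya21 za50) (ka xa13 ya33 za17) (ka xa7 ya40 za41) (ka xa13 ya39 za1) (ka xa13 ya44 za25) (ka xa13 ya33 za44) (ka xa7 ya40 za38) (ka xa24 ya9 za30) (ka xa7 ya40 za40) (ka xa19 ya9 za19) (ka xa19 ya9 za18) (ka xa22 ya50 za51) (ka xa23 ya21 za36) (ka xa23 ya21 za37) (ka xa23 ya21 za38) (ka xa22 ya49 za32) (ka xa14 ya49 za31) (ka xa14 ya49 za43) (ka xa23 ya24 za39) (ka xa23 ya24 za5) (ka xa14 ya55 za38) (ka xa23 ya56 za53) (ka xa14 ya55 za31) (ka xa7 ya45 za19) (ka xa22 ya35 za38) (ka xa21 ya52 za34) (ka xa7 ya46 za43) (ka xa7 ya46 za44) (ka xa7 ya46 za53) (ka xa23 ya56 za54) (ka xa22 ya37 za61) (ka xa12 ya32 za56) (ka xa23 ya57 za19) (ka xa16 ya3 za55) (ka xa12 ya48 za0) (ka xa12 ya47 za59) (ka xa12 ya42 za24) (ka xa7 ya41 za12) (ka xa7 ya41 za14) (ka xa7 ya41 za15) (ka xa7 ya41 za17)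 (ka xa7 ya41 za18)) (@D3.rec (fun _ => Pt) (ka xa7 ya41 za21) (ka xa7 ya41 za22) (ka xa7 ya41 za23) (ka xa7 ya41 za24) (ka xa7 ya41 za26) (ka xa7 ya41 za27) (ka xa20 ya25 za36) (ka xa22 ya40 za26) (ka xa23 ya27 za25) (ka xa23 ya26 za23) (ka xa23 ya27 za26) (ka xa22 ya40 za24) (ka xa23 ya10 za58) (ka xa7 ya52 za43) (ka xa7 ya52 za44) (ka xa23 ya1 za3) (ka xa23 ya35 za59) (ka xa23 ya52 za38) (ka xa11 ya36 za4) (ka xa24 ya10 za5) (ka xa17 ya17 za14) (ka xa21 ya39 za59) (ka xa21 ya39 za60) (ka xa24 ya10 za6) (ka xa16 ya44 za42) (ka xa12 ya17 za57) (ka xa19 ya28 za49) (ka xa24 ya3 za45) (ka xa24 ya10 za7) (ka xa22 ya45 za34) (ka xa13 ya44 za16) (ka xa24 ya10 za8) (ka xa21 ya41 za25) (ka xa13 ya8 za54) (ka xa20 ya30 za33) (ka xa23 ya57 za21) (ka xa24 ya10 za9) (ka xa24 ya10 za10) (ka xa24 ya10 za11) (ka xa24 ya10 za12) (ka xa22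 ya39 za25) (ka xa22 ya48 za60) (ka xa14 ya36 za18) (ka xa19 ya28 za41) (ka xa19 ya31 za2) (ka xa19 ya24 za10) (ka xa23 ya1 za1) (ka xa13 ya37 za7) (ka xa12 ya33 za35) (ka xa12 ya33 za33) (ka xa21 ya13 za6) (ka xa20 ya28 za24) (ka xa21 ya37 za21) (ka xa21 ya37 za23) (ka xa22 ya12 za27) (ka xa17 ya11 za11) (ka xa13 ya20 za60) (ka xa13 ya20 za61) (ka xa13 ya21 za0) (ka xa13 ya21 za1) (ka xa13 ya21 za2) (ka xa13 ya21 za4)) (@D3.rec (fun _ => Pt) (ka xa13 ya20 za58) (ka xa20 ya33 za49) (ka xa14 ya37 za12) (ka xa23 ya56 za40) (ka xa23 ya56 za41) (ka xa13 ya20 za51) (ka xa13 ya10 za39) (ka xa23 ya56 za43) (ka xa23 ya56 za44) (ka xa21 ya52 za40) (ka xa20 ya33 za38) (ka xa11 ya45 za43) (ka xa23 ya56 za45) (ka xa11 ya45 za51) (ka xa23 ya56 za47) (ka xa14 ya24 za14) (ka xa14 ya24 za17) (ka xa11 ya9 za22) (ka xa23 ya56 za49) (ka xa23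 ya56 za50) (ka xa23 ya11 za14) (ka xa23 ya57 za28) (ka xa23 ya57 za29) (ka xa19 ya15 za44) (ka xa19 ya15 za42) (ka xa24 ya11 za41) (ka xa14 ya24 za60) (ka xa24 ya11 za47) (ka xa14 ya25 za6) (ka xa24 ya11 za52) (ka xa17 ya58 za22) (ka xa7 ya41 za48) (ka xa23 ya33 za16) (ka xa23 ya8 za21) (ka xa19 ya35 za15) (ka xa19 ya35 za11) (ka xa23 ya57 za34) (ka xa11 ya57 za1) (ka xa13 ya9 za50) (ka xa11 ya43 za18) (ka xa13 ya9 za51) (ka xa17 ya31 za30) (ka xa11 ya26 za22) (ka xa7 ya46 za50) (ka xa7 ya46 za56) (ka xa19 ya19 za20) (ka xa23 ya45 za52) (ka xa7 ya42 za6) (ka xa7 ya42 za15) (ka xa7 ya42 za17) (ka xa7 ya42 za19) (ka xa7 ya42 za20) (ka xa7 ya42 za21) (ka xa7 ya42 za22) (ka xa11 ya30 za7) (ka xa11 ya30 za8) (ka xa22 ya20 za8) (ka xa19 ya28 za38) (ka xa24 ya12 za8) (ka xa11 ya41 za50) (ka xa11 ya41 za51) (ka xa21 ya40 za5))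 (@D3.rec (fun _ => Pt) (ka xa20 ya27 za8) (ka xa20 ya27 za9) (ka xa20 ya27 za11) (ka xa20 ya27 za12) (ka xa20 ya27 za13) (ka xa20 ya27 za14) (ka xa20 ya27 za15) (ka xa20 ya27 za16) (ka xa23 ya57 za37) (ka xa14 ya52 za19) (ka xa24 ya12 za9) (ka xa24 ya12 za10) (ka xa13 ya10 za7) (ka xa13 ya10 za8) (ka xa13 ya10 za9) (ka xa24 ya12 za11) (ka xa24 ya12 za12) (ka xa23 ya57 za40) (ka xa24 ya12 za13) (ka xa23 ya11 za1) (ka xa24 ya12 za14) (ka xa13 ya10 za11) (ka xa24 ya12 za15) (ka xa13 ya19 za44) (ka xa24 ya12 za16) (ka xa22 ya20 za11) (ka xa22 ya20 za14) (ka xa24 ya13 za21) (ka xa24 ya12 za18) (ka xa24 ya12 za19) (ka xa24 ya12 za20) (ka xa14 ya38 za0) (ka xa20 ya46 za33) (ka xa23 ya57 za11) (ka xa23 ya57 za12) (ka xa23 ya57 za13) (ka xa14 ya35 za14) (ka xa20 ya34 za11) (ka xa17 ya24 za9) (ka xa20 ya34 za10) (ka xa23 ya57 za14)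 (ka xa22 ya57 za21) (ka xa13 ya20 za44) (ka xa21 ya52 za14) (ka xa23 ya57 za16) (ka xa20 ya33 za33) (ka xa23 ya0 za26) (ka xa14 ya27 za5) (ka xa14 ya27 za8) (ka xa8 ya16 za14) (ka xa15 ya31 za49) (ka xa22 ya57 za14) (ka xa23 ya0 za37) (ka xa23 ya57 za17) (ka xa22 ya46 za47) (ka xa23 ya57 za18) (ka xa23 ya57 za48) (ka xa23 ya52 za2) (ka xa23 ya34 za3) (ka xa23 ya34 za4) (ka xa22 ya10 za53) (ka xa14 ya27 za42)) (@D3.rec (fun _ => Pt) (ka xa14 ya27 za49) (ka xa24 ya14 za6) (ka xa24 ya14 za10) (ka xa7 ya42 za37) (ka xa24 ya14 za5) (ka xa22 ya54 za35) (ka xa22 ya57 za13) (ka xa19 ya35 za21) (ka xa9 ya48 za54) (ka xa12 ya33 za8) (ka xa7 ya42 za59) (ka xa13 ya9 za48) (ka xa7 ya43 za28) (ka xa7 ya42 za47) (ka xa17 ya17 za9) (ka xa17 ya17 za10) (ka xa17 ya17 za11) (ka xa17 ya17 za12) (ka xa17 ya17 za13) (ka xa13 ya39 za27) (ka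 xa20 ya28 za54) (ka xa13 ya4 za28) (ka xa20 ya28 za52) (ka xa23 ya12 za58) (ka xa13 ya11 za24) (ka xa19 ya34 za36) (ka xa23 ya12 za59) (ka xa19 ya34 za39) (ka xa13 ya10 za36) (ka xa13 ya10 za41) (ka xa11 ya45 za49) (ka xa13 ya9 za26) (ka xa13 ya10 za42) (ka xa17 ya49 za39) (ka xa7 ya50 za29) (ka xa7 ya43 za19) (ka xa9 ya28 za47) (ka xa7 ya43 za23) (ka xa7 ya43 za26) (ka xa22 ya0 za40) (ka xa7 ya43 za35) (ka xa19 ya17 za21) (ka xa7 ya43 za40) (ka xa7 ya43 za41) (ka xa24 ya0 za29) (ka xa7 ya43 za43) (ka xa7 ya43 za44) (ka xa24 ya14 za21) (ka xa7 ya43 za46) (ka xa7 ya43 za47) (ka xa7 ya43 za48) (ka xa7 ya43 za49) (ka xa21 ya36 za31) (ka xa7 ya43 za52) (ka xa7 ya43 za53) (ka xa12 ya32 za61) (ka xa12 ya33 za1) (ka xa12 ya33 za10) (ka xa9 ya23 za18) (ka xa12 ya33 za11) (ka xa9 ya24 za51) (ka xa11 ya45 za34)) (@D3.rec (fun _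 => Pt) (ka xa13 ya10 za55) (ka xa13 ya10 za56) (ka xa13 ya10 za57) (ka xa10 ya25 za19) (ka xa11 ya22 za41) (ka xa14 ya23 za43) (ka xa13 ya10 za58) (ka xa7 ya43 za12) (ka xa21 ya20 za20) (ka xa20 ya51 za41) (ka xa18 ya25 za14) (ka xa21 ya23 za3) (ka xa13 ya1 za51) (ka xa13 ya1 za52) (ka xa10 ya18 za50) (ka xa10 ya18 za49) (ka xa24 ya14 za20) (ka xa7 ya43 za17) (ka xa12 ya38 za57) (ka xa19 ya17 za25) (ka xa12 ya57 za36) (ka xa9 ya12 za25) (ka xa11 ya47 za5) (ka xa11 ya58 za51) (ka xa11 ya58 za53) (ka xa24 ya14 za54) (ka xa24 ya14 za55) (ka xa9 ya26 za18) (ka xa13 ya3 za23) (ka xa11 ya45 za4) (ka xa9 ya28 za48) (ka xa11 ya45 za10) (ka xa24 ya14 za56) (ka xa24 ya14 za57) (ka xa11 ya45 za8) (ka xa24 ya15 za57) (ka xa21 ya3 za45) (ka xa21 ya3 za46) (ka xa24 ya14 za58) (ka xa24 ya14 za59) (ka xa24 ya16 za8) (ka xa24 ya14 za60)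 (ka xa21 ya3 za42) (ka xa21 ya3 za43) (ka xa22 ya29 za8) (ka xa24 ya14 za23) (ka xa7 ya43 za30) (ka xa7 ya43 za31) (ka xa19 ya4 za42) (ka xa24 ya16 za14) (ka xa19 ya18 za10) (ka xa22 ya58 za60) (ka xa17 ya24 za32) (ka xa13 ya50 za2) (ka xa13 ya49 za61) (ka xa22 ya44 za40) (ka xa23 ya39 za52) (ka xa14 ya53 za6) (ka xa14 ya53 za8) (ka xa24 ya16 za32) (ka xa23 ya41 za47) (ka xa23 ya59 za20)) (@D3.rec (fun _ => Pt) (ka xa19 ya51 za5) (ka xa13 ya20 za33) (ka xa24 ya15 za2) (ka xa13 ya20 za32) (ka xa24 ya0 za31) (ka xa7 ya43 za39) (ka xa12 ya46 za59) (ka xa24 ya14 za61) (ka xa16 ya36 za54) (ka xa16 ya36 za52) (ka xa24 ya16 za44) (ka xa19 ya19 za31) (ka xa19 ya17 za22) (ka xa7 ya43 za42) (ka xa24 ya16 za46) (ka xa24 ya16 za47) (ka xa14 ya52 za61) (ka xa24 ya16 za56) (ka xa22 ya43 za17) (ka xa24 ya15 za8) (ka xa23 ya59 za22) (ka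 xa24 ya15 za9) (ka xa24 ya15 za10) (ka xa7 ya43 za45) (ka xa24 ya17 za6) (ka xa24 ya17 za7) (ka xa24 ya17 za16) (ka xa22 ya43 za20) (ka xa24 ya15 za14) (ka xa24 ya15 za15) (ka xa23 ya59 za32) (ka xa24 ya15 za16) (ka xa10 ya24 za5) (ka xa22 ya43 za22) (ka xa24 ya15 za18) (ka xa24 ya17 za26) (ka xa22 ya43 za23) (ka xa19 ya36 za25) (ka xa24 ya17 za34) (ka xa24 ya17 za38) (ka xa7 ya43 za50) (ka xa24 ya17 za43) (ka xa24 ya17 za33) (ka xa23 ya39 za35) (ka xa9 ya48 za45) (ka xa24 ya15 za19) (ka xa24 ya15 za20) (ka xa7 ya43 za59) (ka xa7 ya43 za61) (ka xa7 ya44 za0) (ka xa21 ya22 za13) (ka xa11 ya45 za20) (ka xa21 ya20 za44) (ka xa21 ya22 za11) (ka xa11 ya43 za48) (ka xa21 ya47 za57) (ka xa17 ya6 za22) (ka xa24 ya17 za58) (ka xa21 ya8 za4) (ka xa9 ya23 za9) (ka xa9 ya25 za34) (ka xa9 ya25 za38)) (@D3.rec (fun _ => Pt) (ka xa19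 ya12 za55) (ka xa24 ya17 za59) (ka xa24 ya17 za60) (ka xa24 ya17 za61) (ka xa18 ya23 za19) (ka xa23 ya58 za3) (ka xa11 ya45 za44) (ka xa22 ya36 za17) (ka xa22 ya36 za18) (ka xa16 ya17 za61) (ka xa16 ya17 za60) (ka xa18 ya26 za61) (ka xa18 ya26 za59) (ka xa19 ya50 za46) (ka xa14 ya31 za36) (ka xa21 ya4 za36) (ka xa14 ya14 za24) (ka xa14 ya14 za28) (ka xa24 ya18 za30) (ka xa21 ya26 za10) (ka xa22 ya36 za21) (ka xa10 ya26 za61) (ka xa7 ya44 za10) (ka xa7 ya44 za12) (ka xa23 ya53 za2) (ka xa24 ya18 za33) (ka xa22 ya7 za56) (ka xa10 ya27 za19) (ka xa17 ya32 za17) (ka xa17 ya32 za18) (ka xa24 ya18 za34) (ka xa24 ya18 za35) (ka xa24 ya18 za36) (ka xa12 ya57 za38) (ka xa13 ya20 za50) (ka xa22 ya35 za59) (ka xa22 ya35 za60) (ka xa22 ya35 za61) (ka xa11 ya45 za19) (ka xa22 ya36 za0) (ka xa13 ya35 za29) (ka xa22 ya36 za1) (ka xa22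 ya36 za2) (ka xa11 ya35 za37) (ka xa22 ya36 za3) (ka xa12 ya14 za43) (ka xa9 ya7 za34) (ka xa21 ya7 za18) (ka xa9 ya13 za5) (ka xa9 ya7 za33) (ka xa21 ya7 za26) (ka xa21 ya44 za11) (ka xa12 ya54 za61) (ka xa7 ya44 za27) (ka xa7 ya44 za28) (ka xa7 ya44 za29) (ka xa7 ya44 za30) (ka xa20 ya23 za12) (ka xa9 ya13 za56) (ka xa24 ya19 za3) (ka xa24 ya19 za4) (ka xa21 ya42 za46)) (@D3.rec (fun _ => Pt) (ka xa24 ya19 za5) (ka xa20 ya37 za46) (ka xa24 ya19 za6) (ka xa20 ya37 za44) (ka xa21 ya53 za11) (ka xa21 ya53 za12) (ka xa21 ya53 za13) (ka xa21 ya53 za14) (ka xa21 ya35 za33) (ka xa12 ya15 za52) (ka xa21 ya53 za15) (ka xa11 ya31 za41) (ka xa21 ya53 za16) (ka xa21 ya53 za17) (ka xa21 ya35 za11) (ka xa21 ya53 za18) (ka xa21 ya53 za19) (ka xa24 ya19 za37) (ka xa14 ya29 za42) (ka xa21 ya53 za8) (ka xa21 ya53 za7) (ka xa21 ya59 za45)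 (ka xa7 ya44 za43) (ka xa21 ya22 za14) (ka xa12 ya20 za15) (ka xa22 ya3 za14) (ka xa19 ya7 za53) (ka xa19 ya23 za25) (ka xa19 ya23 za28) (ka xa22 ya35 za40) (ka xa9 ya27 za6) (ka xa24 ya19 za43) (ka xa24 ya19 za44) (ka xa21 ya41 za46) (ka xa20 ya51 za36) (ka xa19 ya4 za0) (ka xa20 ya51 za37) (ka xa19 ya15 za0) (ka xa19 ya15 za1) (ka xa10 ya31 za18) (ka xa21 ya41 za60) (ka xa17 ya52 za21) (ka xa21 ya41 za58) (ka xa19 ya27 za4) (ka xa23 ya58 za40) (ka xa19 ya18 za44) (ka xa23 ya58 za41) (ka xa19 ya18 za22) (ka xa24 ya20 za7) (ka xa23 ya58 za42) (ka xa23 ya40 za6) (ka xa23 ya58 za43) (ka xa23 ya58 za44) (ka xa22 ya37 za36) (ka xa23 ya58 za45) (ka xa23 ya58 za46) (ka xa22 ya37 za35) (ka xa10 ya36 za51) (ka xa7 ya44 za58) (ka xa9 ya6 za2) (ka xa24 ya20 za18) (ka xa20 ya44 za39)) (@D3.rec (fun _ => Pt) (ka xa24 ya20 za19) (ka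 xa24 ya20 za20) (ka xa23 ya58 za49) (ka xa23 ya58 za50) (ka xa23 ya58 za51) (ka xa21 ya42 za39) (ka xa23 ya58 za53) (ka xa23 ya58 za54) (ka xa23 ya58 za55) (ka xa23 ya58 za56) (ka xa23 ya58 za57) (ka xa23 ya58 za58) (ka xa14 ya30 za2) (ka xa7 ya45 za4) (ka xa24 ya20 za35) (ka xa24 ya20 za36) (ka xa24 ya20 za37) (ka xa23 ya58 za59) (ka xa14 ya13 za61) (ka xa24 ya20 za47) (ka xa23 ya58 za60) (ka xa19 ya54 za40) (ka xa21 ya45 za58) (ka xa23 ya58 za61) (ka xa10 ya37 za54) (ka xa23 ya12 za22) (ka xa19 ya56 za55) (ka xa23 ya59 za3) (ka xa15 ya44 za50) (ka xa13 ya20 za42) (ka xa23 ya59 za4) (ka xa21 ya56 za23) (ka xa23 ya59 za5) (ka xa24 ya21 za2) (ka xa23 ya59 za7) (ka xa23 ya59 za8) (ka xa23 ya59 za16) (ka xa23 ya59 za10) (ka xa15 ya43 za14) (ka xa19 ya54 za7) (ka xa17 ya53 za50) (ka xa7 ya45 za14) (ka xa18 ya18 za46) (ka xa24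 ya21 za11) (ka xa23 ya59 za6) (ka xa23 ya59 za17) (ka xa22 ya39 za16) (ka xa23 ya59 za18) (ka xa22 ya39 za15) (ka xa21 ya52 za49) (ka xa21 ya52 za48) (ka xa23 ya19 za47) (ka xa21 ya12 za22) (ka xa11 ya46 za25) (ka xa21 ya52 za31) (ka xa21 ya52 za32) (ka xa21 ya52 za33) (ka xa11 ya26 za32) (ka xa21 ya41 za48) (ka xa21 ya41 za49) (ka xa21 ya52 za36) (ka xa21 ya52 za37)) (@D3.rec (fun _ => Pt) (ka xa14 ya31 za31) (ka xa24 ya9 za51) (ka xa21 ya52 za39) (ka xa21 ya52 za41) (ka xa24 ya12 za1) (ka xa21 ya52 za43) (ka xa21 ya52 za44) (ka xa21 ya52 za45) (ka xa21 ya52 za46) (ka xa24 ya21 za49) (ka xa21 ya52 za47) (ka xa10 ya36 za34) (ka xa7 ya45 za42) (ka xa7 ya45 za43) (ka xa14 ya48 za35) (ka xa14 ya48 za33) (ka xa19 ya7 za61) (ka xa23 ya58 za18) (ka xa12 ya46 za60) (ka xa24 ya21 za57) (ka xa19 ya17 za12) (ka xa19 ya17 za57) (ka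 xa23 ya57 za0) (ka xa23 ya58 za20) (ka xa22 ya58 za20) (ka xa13 ya21 za6) (ka xa16 ya32 za3) (ka xa10 ya57 za20) (ka xa19 ya27 za15) (ka xa16 ya47 za56) (ka xa13 ya21 za20) (ka xa23 ya12 za46) (ka xa23 ya12 za45) (ka xa19 ya2 za40) (ka xa23 ya12 za42) (ka xa24 ya22 za15) (ka xa13 ya21 za22) (ka xa23 ya59 za19) (ka xa24 ya22 za22) (ka xa14 ya42 za5) (ka xa23 ya36 za5) (ka xa14 ya42 za14) (ka xa23 ya59 za21) (ka xa23 ya35 za24) (ka xa7 ya45 za53) (ka xa24 ya22 za35) (ka xa8 ya33 za58) (ka xa15 ya42 za40) (ka xa21 ya24 za28) (ka xa22 ya37 za8) (ka xa19 ya48 za28) (ka xa22 ya37 za7) (ka xa19 ya8 za33) (ka xa13 ya22 za1) (ka xa13 ya22 za2) (ka xa9 ya45 za26) (ka xa13 ya22 za3) (ka xa21 ya11 za38) (ka xa17 ya35 za40) (ka xa7 ya46 za2) (ka xa7 ya46 za5) (ka xa14 ya41 za38)) (@D3.rec (fun _ => Pt) (ka xa13 ya12 za33) (ka xa13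 ya12 za37) (ka xa13 ya12 za36) (ka xa19 ya19 za28) (ka xa24 ya22 za44) (ka xa23 ya58 za24) (ka xa24 ya22 za53) (ka xa7 ya46 za8) (ka xa10 ya33 za25) (ka xa10 ya33 za26) (ka xa10 ya33 za27) (ka xa10 ya30 za30) (ka xa22 ya21 za10) (ka xa22 ya21 za19) (ka xa18 ya18 za31) (ka xa16 ya10 za21) (ka xa16 ya10 za22) (ka xa10 ya16 za19) (ka xa8 ya38 za48) (ka xa13 ya2 za12) (ka xa21 ya56 za21) (ka xa19 ya8 za29) (ka xa21 ya2 za11) (ka xa19 ya8 za30) (ka xa10 ya38 za0) (ka xa22 ya57 za22) (ka xa22 ya53 za32) (ka xa10 ya33 za35) (ka xa7 ya46 za20) (ka xa7 ya46 za21) (ka xa10 ya40 za5) (ka xa10 ya40 za2) (ka xa10 ya33 za37) (ka xa24 ya23 za12) (ka xa23 ya59 za26) (ka xa23 ya59 za27) (ka xa23 ya59 za28) (ka xa23 ya59 za29) (ka xa23 ya59 za30) (ka xa23 ya59 za31) (ka xa23 ya58 za34) (ka xa23 ya59 za33) (ka xa22 ya39 za44) (ka xa22 ya39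 za32) (ka xa22 ya39 za33) (ka xa22 ya26 za51) (ka xa22 ya39 za34) (ka xa20 ya24 za45) (ka xa7 ya46 za28) (ka xa24 ya23 za31) (ka xa24 ya23 za32) (ka xa23 ya59 za36) (ka xa23 ya59 za37) (ka xa18 ya18 za43) (ka xa7 ya46 za30) (ka xa24 ya23 za42) (ka xa24 ya23 za43) (ka xa23 ya59 za40) (ka xa23 ya59 za41) (ka xa7 ya46 za36) (ka xa7 ya46 za32) (ka xa23 ya30 za54)) (@D3.rec (fun _ => Pt) (ka xa24 ya23 za53) (ka xa23 ya25 za8) (ka xa24 ya23 za54) (ka xa7 ya46 za33) (ka xa7 ya50 za10) (ka xa24 ya23 za61) (ka xa24 ya24 za1) (ka xa24 ya24 za3) (ka xa7 ya46 za35) (ka xa7 ya50 za8) (ka xa21 ya29 za55) (ka xa20 ya25 za43) (ka xa14 ya50 za27) (ka xa14 ya49 za44) (ka xa14 ya42 za36) (ka xa22 ya37 za23) (ka xa22 ya39 za13) (ka xa22 ya39 za14) (ka xa10 ya36 za37) (ka xa19 ya56 za45) (ka xa23 ya59 za42) (ka xa10 ya38 za2) (ka xa13 ya9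 za43) (ka xa23 ya59 za43) (ka xa19 ya8 za34) (ka xa23 ya46 za6) (ka xa23 ya46 za5) (ka xa24 ya24 za37) (ka xa22 ya58 za43) (ka xa22 ya58 za42) (ka xa24 ya9 za54) (ka xa24 ya9 za55) (ka xa24 ya9 za56) (ka xa13 ya11 za28) (ka xa14 ya1 za33) (ka xa14 ya1 za31) (ka xa22 ya42 za47) (ka xa14 ya44 za5) (ka xa22 ya24 za20) (ka xa23 ya45 za58) (ka xa13 ya22 za31) (ka xa23 ya45 za59) (ka xa23 ya45 za55) (ka xa23 ya45 za54) (ka xa24 ya12 za4) (ka xa24 ya12 za5) (ka xa16 ya55 za31) (ka xa22 ya58 za51) (ka xa22 ya58 za49) (ka xa22 ya58 za50) (ka xa22 ya58 za52) (ka xa23 ya46 za1) (ka xa24 ya9 za57) (ka xa14 ya22 za58) (ka xa20 ya49 za23) (ka xa22 ya26 za15) (ka xa23 ya46 za0) (ka xa24 ya25 za17) (ka xa22 ya37 za57) (ka xa22 ya38 za23) (ka xa22 ya38 za21) (ka xa22 ya38 za22)) (@D3.rec (fun _ => Pt) (ka xa22 ya38 za24) (ka xa24 ya25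 za22) (ka xa22 ya26 za13) (ka xa24 ya25 za26) (ka xa22 ya40 za58) (ka xa22 ya40 za53) (ka xa24 ya24 za36) (ka xa24 ya24 za35) (ka xa7 ya46 za61) (ka xa24 ya25 za36) (ka xa22 ya46 za35) (ka xa22 ya58 za41) (ka xa13 ya11 za39) (ka xa7 ya47 za3) (ka xa7 ya47 za4) (ka xa13 ya11 za43) (ka xa13 ya11 za42) (ka xa24 ya25 za45) (ka xa13 ya10 za35) (ka xa14 ya41 za23) (ka xa22 ya46 za46) (ka xa13 ya11 za31) (ka xa13 ya11 za32) (ka xa14 ya41 za19) (ka xa7 ya47 za7) (ka xa23 ya46 za30) (ka xa13 ya3 za39) (ka xa13 ya3 za40) (ka xa22 ya50 za47) (ka xa22 ya50 za46) (ka xa7 ya47 za12) (ka xa21 ya54 za12) (ka xa22 ya50 za49) (ka xa24 ya26 za6) (ka xa24 ya26 za7) (ka xa23 ya59 za48) (ka xa23 ya59 za49) (ka xa23 ya49 za36) (ka xa14 ya38 za61) (ka xa12 ya51 za47) (ka xa20 ya35 za28) (ka xa7 ya47 za22) (ka xa7 ya47 za23) (ka xa7 ya47 za26)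 (ka xa24 ya0 za16) (ka xa24 ya0 za17) (ka xa10 ya40 za6) (ka xa24 ya0 za15) (ka xa13 ya23 za10) (ka xa19 ya31 za1) (ka xa24 ya0 za19) (ka xa24 ya0 za18) (ka xa24 ya26 za43) (ka xa24 ya26 za23) (ka xa24 ya26 za24) (ka xa24 ya26 za25) (ka xa10 ya39 za33) (ka xa11 ya0 za45) (ka xa10 ya32 za9) (ka xa13 ya8 za11) (ka xa24 ya26 za54) (ka xa9 ya22 za42)) (@D3.rec (fun _ => Pt) (ka xa9 ya22 za24) (ka xa7 ya47 za27) (ka xa24 ya26 za57) (ka xa24 ya26 za58) (ka xa24 ya27 za3) (ka xa14 ya38 za39) (ka xa23 ya59 za61) (ka xa24 ya0 za0) (ka xa24 ya0 za1) (ka xa7 ya47 za30) (ka xa24 ya27 za12) (ka xa24 ya27 za13) (ka xa24 ya27 za14) (ka xa24 ya27 za25) (ka xa14 ya38 za41) (ka xa23 ya49 za33) (ka xa24 ya0 za5) (ka xa24 ya0 za6) (ka xa24 ya0 za23) (ka xa24 ya0 za22) (ka xa7 ya47 za34) (ka xa24 ya27 za39) (ka xa16 ya6 za41) (ka xa24 ya27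 za42) (ka xa8 ya20 za49) (ka xa23 ya35 za22) (ka xa24 ya0 za11) (ka xa24 ya27 za52) (ka xa15 ya45 za54) (ka xa24 ya0 za13) (ka xa14 ya43 za56) (ka xa14 ya43 za57) (ka xa13 ya22 za6) (ka xa11 ya0 za15) (ka xa22 ya17 za59) (ka xa13 ya22 za48) (ka xa14 ya40 za14) (ka xa14 ya20 za32) (ka xa23 ya23 za45) (ka xa13 ya21 za21) (ka xa14 ya27 za34) (ka xa14 ya27 za33) (ka xa7 ya47 za46) (ka xa21 ya51 za41) (ka xa11 ya15 za15) (ka xa13 ya37 za11) (ka xa7 ya47 za48) (ka xa19 ya26 za40) (ka xa13 ya22 za58) (ka xa13 ya22 za50) (ka xa22 ya20 za7) (ka xa13 ya22 za49) (ka xa7 ya47 za54) (ka xa18 ya48 za1) (ka xa18 ya47 za61) (ka xa19 ya0 za51) (ka xa7 ya47 za59) (ka xa7 ya47 za60) (ka xa23 ya6 za18) (ka xa23 ya6 za17) (ka xa18 ya59 za10) (ka xa24 ya28 za14)) (@D3.rec (fun _ => Pt) (ka xa22 ya57 za57) (ka xa23 ya6 za0) (ka xa23 ya6 za29)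 (ka xa23 ya6 za19) (ka xa23 ya6 za8) (ka xa13 ya52 za10) (ka xa10 ya13 za6) (ka xa10 ya13 za24) (ka xa16 ya20 za25) (ka xa10 ya13 za20) (ka xa14 ya25 za38) (ka xa11 ya22 za6) (ka xa7 ya48 za4) (ka xa22 ya23 za16) (ka xa22 ya23 za15) (ka xa7 ya48 za10) (ka xa7 ya48 za11) (ka xa7 ya48 za13) (ka xa23 ya59 za53) (ka xa13 ya23 za38) (ka xa20 ya52 za55) (ka xa23 ya59 za51) (ka xa23 ya59 za52) (ka xa16 ya46 za41) (ka xa23 ya59 za54) (ka xa24 ya28 za51) (ka xa24 ya28 za34) (ka xa10 ya40 za23) (ka xa24 ya28 za35) (ka xa24 ya28 za36) (ka xa10 ya32 za6) (ka xa13 ya18 za24) (ka xa24 ya28 za37) (ka xa22 ya18 za25) (ka xa24 ya0 za7) (ka xa17 ya53 za8) (ka xa7 ya48 za15) (ka xa17 ya52 za58) (ka xa24 ya0 za25) (ka xa19 ya18 za39) (ka xa10 ya39 za40) (ka xa23 ya50 za13) (ka xa24 ya0 za26) (ka xa10 ya40 za48) (ka xa10 ya39 za41) (ka xa23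 ya49 za28) (ka xa24 ya0 za27) (ka xa24 ya0 za28) (ka xa23 ya33 za56) (ka xa20 ya59 za35) (ka xa24 ya29 za34) (ka xa10 ya7 za21) (ka xa14 ya3 za23) (ka xa13 ya28 za21) (ka xa13 ya23 za25) (ka xa13 ya23 za24) (ka xa14 ya42 za30) (ka xa14 ya42 za31) (ka xa14 ya13 za35) (ka xa22 ya0 za41) (ka xa22 ya0 za42) (ka xa22 ya0 za43)) (@D3.rec (fun _ => Pt) (ka xa14 ya13 za22) (ka xa24 ya0 za58) (ka xa14 ya14 za61) (ka xa14 ya14 za59) (ka xa13 ya13 za13) (ka xa14 ya40 za37) (ka xa24 ya29 za58) (ka xa22 ya46 za36) (ka xa23 ya46 za11) (ka xa23 ya46 za12) (ka xa14 ya13 za11) (ka xa23 ya46 za13) (ka xa13 ya12 za44) (ka xa23 ya46 za8) (ka xa24 ya5 za51) (ka xa24 ya5 za52) (ka xa24 ya30 za20) (ka xa22 ya46 za51) (ka xa22 ya46 za52) (ka xa22 ya46 za53) (ka xa22 ya46 za54) (ka xa24 ya30 za29) (ka xa7 ya48 za39) (ka xa12 ya6 za58) (ka xa16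 ya26 za8) (ka xa12 ya7 za53) (ka xa7 ya48 za41) (ka xa24 ya30 za30) (ka xa24 ya30 za32) (ka xa19 ya43 za17) (ka xa23 ya19 za43) (ka xa23 ya19 za44) (ka xa23 ya19 za45) (ka xa24 ya30 za43) (ka xa8 ya34 za11) (ka xa21 ya27 za50) (ka xa21 ya27 za49) (ka xa7 ya48 za47) (ka xa24 ya30 za49) (ka xa13 ya15 za58) (ka xa13 ya15 za61) (ka xa13 ya15 za60) (ka xa7 ya48 za50) (ka xa21 ya27 za53) (ka xa16 ya3 za50) (ka xa13 ya49 za23) (ka xa13 ya35 za37) (ka xa7 ya48 za58) (ka xa7 ya48 za59) (ka xa24 ya30 za55) (ka xa24 ya30 za56) (ka xa23 ya3 za59) (ka xa22 ya30 za57) (ka xa22 ya30 za58) (ka xa21 ya53 za44) (ka xa22 ya30 za56) (ka xa22 ya14 za39) (ka xa14 ya20 za35) (ka xa23 ya46 za15) (ka xa22 ya42 za0) (ka xa7 ya49 za3) (ka xa13 ya50 za61)) (@D3.rec (fun _ => Pt) (ka xa24 ya31 za9) (ka xa24 ya31 za10) (ka xa13 ya51 za38) (ka xa13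 ya51 za39) (ka xa13 ya51 za40) (ka xa22 ya46 za58) (ka xa14 ya56 za34) (ka xa14 ya55 za40) (ka xa7 ya49 za8) (ka xa7 ya49 za9) (ka xa13 ya51 za11) (ka xa24 ya31 za21) (ka xa13 ya51 za29) (ka xa13 ya51 za30) (ka xa13 ya51 za32) (ka xa22 ya14 za38) (ka xa12 ya7 za57) (ka xa7 ya49 za12) (ka xa7 ya49 za14) (ka xa7 ya49 za15) (ka xa24 ya31 za33) (ka xa24 ya31 za28) (ka xa13 ya47 za38) (ka xa24 ya31 za29) (ka xa24 ya31 za30) (ka xa21 ya40 za60) (ka xa21 ya40 za59) (ka xa7 ya49 za16) (ka xa24 ya31 za48) (ka xa16 ya50 za39) (ka xa19 ya55 za48) (ka xa14 ya59 za56) (ka xa23 ya19 za59) (ka xa21 ya30 za42) (ka xa15 ya12 za41) (ka xa19 ya47 za33) (ka xa23 ya46 za25) (ka xa23 ya19 za57) (ka xa14 ya48 za51) (ka xa14 ya48 za52) (ka xa14 ya48 za58) (ka xa14 ya48 za59) (ka xa14 ya48 za60) (ka xa14 ya48 za61) (ka xa14 ya49 za0) (ka xa14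 ya49 za1) (ka xa14 ya49 za2) (ka xa14 ya49 za3) (ka xa14 ya49 za4) (ka xa7 ya50 za6) (ka xa7 ya50 za9) (ka xa7 ya50 za12) (ka xa7 ya50 za13) (ka xa7 ya50 za25) (ka xa7 ya50 za26) (ka xa24 ya24 za13) (ka xa7 ya50 za30) (ka xa7 ya50 za34) (ka xa11 ya51 za31) (ka xa7 ya50 za39) (ka xa15 ya18 za23) (ka xa7 ya50 za48)) (@D3.rec (fun _ => Pt) (ka xa7 ya50 za49) (ka xa7 ya51 za2) (ka xa7 ya51 za3) (ka xa23 ya54 za36) (ka xa7 ya51 za8) (ka xa14 ya10 za13) (ka xa11 ya3 za50) (ka xa11 ya4 za1) (ka xa7 ya49 za45) (ka xa7 ya49 za46) (ka xa7 ya49 za48) (ka xa14 ya10 za20) (ka xa24 ya32 za22) (ka xa23 ya41 za16) (ka xa24 ya32 za23) (ka xa16 ya2 za61) (ka xa14 ya49 za40) (ka xa14 ya49 za53) (ka xa14 ya49 za57) (ka xa14 ya49 za58) (ka xa7 ya49 za57) (ka xa14 ya55 za41) (ka xa14 ya51 za1) (ka xa14 ya55 za39) (ka xa14 ya55 za44) (ka xa14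 ya55 za43) (ka xa23 ya37 za52) (ka xa14 ya49 za54) (ka xa13 ya25 za61) (ka xa24 ya32 za43) (ka xa17 ya24 za19) (ka xa20 ya47 za61) (ka xa16 ya51 za30) (ka xa20 ya6 za46) (ka xa17 ya29 za59) (ka xa17 ya29 za60) (ka xa17 ya29 za61) (ka xa17 ya30 za0) (ka xa16 ya51 za32) (ka xa20 ya54 za50) (ka xa7 ya50 za4) (ka xa24 ya32 za47) (ka xa19 ya6 za12) (ka xa24 ya32 za48) (ka xa23 ya42 za22) (ka xa24 ya27 za34) (ka xa18 ya37 za54) (ka xa23 ya43 za20) (ka xa16 ya51 za52) (ka xa19 ya6 za6) (ka xa24 ya32 za5) (ka xa10 ya32 za41) (ka xa24 ya23 za56) (ka xa24 ya24 za4) (ka xa22 ya45 za8) (ka xa23 ya31 za4) (ka xa23 ya31 za2) (ka xa21 ya40 za48) (ka xa24 ya33 za10) (ka xa24 ya32 za6) (ka xa21 ya55 za12) (ka xa24 ya32 za7)) (@D3.rec (fun _ => Pt) (ka xa14 ya19 za26) (ka xa23 ya43 za51) (ka xa7 ya50 za16) (ka xa23 ya29 za14) (ka xa17 ya38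 za25) (ka xa24 ya33 za19) (ka xa14 ya49 za36) (ka xa14 ya56 za32) (ka xa14 ya50 za50) (ka xa13 ya25 za54) (ka xa13 ya25 za50) (ka xa9 ya14 za21) (ka xa24 ya33 za30) (ka xa12 ya55 za44) (ka xa22 ya55 za22) (ka xa22 ya5 za61) (ka xa22 ya55 za23) (ka xa22 ya55 za15) (ka xa7 ya50 za23) (ka xa7 ya50 za24) (ka xa22 ya55 za18) (ka xa22 ya55 za17) (ka xa24 ya33 za36) (ka xa24 ya33 za37) (ka xa12 ya7 za56) (ka xa12 ya8 za4) (ka xa23 ya29 za52) (ka xa24 ya33 za50) (ka xa24 ya32 za8) (ka xa24 ya32 za9) (ka xa24 ya32 za10) (ka xa22 ya43 za18) (ka xa24 ya32 za11) (ka xa7 ya50 za28) (ka xa24 ya34 za0) (ka xa24 ya34 za1) (ka xa9 ya14 za8) (ka xa17 ya49 za54) (ka xa24 ya14 za53) (ka xa24 ya32 za13) (ka xa24 ya32 za14) (ka xa24 ya32 za15) (ka xa7 ya50 za31) (ka xa19 ya36 za58) (ka xa19 ya36 za57) (ka xa17 ya49 za38) (ka xa23 ya44 za3)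 (ka xa19 ya10 za61) (ka xa19 ya11 za2) (ka xa23 ya44 za4) (ka xa23 ya58 za48) (ka xa10 ya35 za7) (ka xa20 ya54 za27) (ka xa23 ya12 za49) (ka xa7 ya50 za36) (ka xa11 ya51 za29) (ka xa24 ya34 za20) (ka xa23 ya13 za1) (ka xa24 ya21 za14) (ka xa24 ya32 za16) (ka xa14 ya1 za47) (ka xa14 ya1 za46)) (@D3.rec (fun _ => Pt) (ka xa7 ya50 za40) (ka xa23 ya22 za42) (ka xa7 ya50 za45) (ka xa15 ya18 za21) (ka xa15 ya18 za22) (ka xa13 ya15 za33) (ka xa13 ya15 za38) (ka xa10 ya4 za18) (ka xa22 ya22 za16) (ka xa14 ya51 za46) (ka xa20 ya53 za24) (ka xa20 ya13 za51) (ka xa16 ya11 za20) (ka xa14 ya1 za8) (ka xa13 ya40 za12) (ka xa22 ya41 za16) (ka xa19 ya19 za10) (ka xa13 ya5 za35) (ka xa7 ya50 za55) (ka xa24 ya1 za37) (ka xa22 ya42 za39) (ka xa24 ya5 za61) (ka xa13 ya8 za30) (ka xa13 ya8 za31) (ka xa16 ya4 za51) (ka xa7 ya52 za40) (ka xa23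 ya24 za10) (ka xa7 ya51 za0) (ka xa7 ya51 za1) (ka xa14 ya51 za38) (ka xa22 ya22 za20) (ka xa19 ya8 za35) (ka xa24 ya22 za11) (ka xa14 ya38 za15) (ka xa23 ya27 za2) (ka xa14 ya38 za14) (ka xa20 ya53 za46) (ka xa24 ya32 za17) (ka xa24 ya32 za18) (ka xa24 ya22 za32) (ka xa23 ya28 za6) (ka xa16 ya11 za23) (ka xa14 ya51 za50) (ka xa24 ya32 za19) (ka xa13 ya42 za26) (ka xa14 ya25 za18) (ka xa14 ya25 za19) (ka xa14 ya25 za20) (ka xa14 ya25 za21) (ka xa13 ya42 za24) (ka xa13 ya42 za25) (ka xa14 ya45 za38) (ka xa14 ya45 za39) (ka xa11 ya26 za44) (ka xa11 ya26 za45) (ka xa11 ya26 za46) (ka xa11 ya26 za47) (ka xa14 ya19 za2) (ka xa14 ya45 za40) (ka xa14 ya45 za41) (ka xa14 ya45 za42) (ka xa14 ya45 za43)) (@D3.rec (fun _ => Pt) (ka xa14 ya45 za44) (ka xa14 ya45 za45) (ka xa14 ya45 za46) (ka xa14 ya45 za47) (ka xa14 ya45 za48) (ka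 xa9 ya43 za51) (ka xa7 ya52 za2) (ka xa7 ya52 za3) (ka xa13 ya22 za7) (ka xa7 ya52 za6) (ka xa7 ya52 za7) (ka xa7 ya52 za8) (ka xa7 ya52 za9) (ka xa7 ya52 za11) (ka xa7 ya52 za12) (ka xa7 ya52 za13) (ka xa7 ya52 za23) (ka xa7 ya52 za25) (ka xa7 ya52 za26) (ka xa7 ya52 za28) (ka xa24 ya35 za38) (ka xa7 ya52 za32) (ka xa7 ya52 za33) (ka xa7 ya52 za41) (ka xa7 ya52 za42) (ka xa7 ya52 za45) (ka xa7 ya52 za46) (ka xa24 ya35 za50) (ka xa14 ya15 za29) (ka xa14 ya15 za30) (ka xa13 ya33 za25) (ka xa14 ya28 za36) (ka xa7 ya51 za40) (ka xa7 ya51 za47) (ka xa14 ya54 za12) (ka xa14 ya54 za13) (ka xa14 ya47 za6) (ka xa14 ya54 za16) (ka xa14 ya54 za15) (ka xa24 ya35 za52) (ka xa14 ya46 za16) (ka xa13 ya25 za14) (ka xa24 ya36 za4) (ka xa14 ya28 za37) (ka xa14 ya40 za13) (ka xa7 ya51 za48) (ka xa7 ya51 za49) (ka xa7 ya51 za50) (ka xa21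 ya32 za34) (ka xa24 ya35 za55) (ka xa21 ya19 za11) (ka xa16 ya16 za2) (ka xa24 ya36 za5) (ka xa14 ya46 za17) (ka xa14 ya46 za27) (ka xa12 ya18 za49) (ka xa15 ya49 za39) (ka xa14 ya46 za18) (ka xa14 ya46 za19) (ka xa20 ya41 za11) (ka xa8 ya0 za46) (ka xa21 ya42 za36)) (@D3.rec (fun _ => Pt) (ka xa14 ya20 za11) (ka xa11 ya12 za2) (ka xa7 ya51 za58) (ka xa20 ya0 za18) (ka xa19 ya57 za40) (ka xa11 ya12 za8) (ka xa24 ya36 za23) (ka xa12 ya49 za34) (ka xa11 ya11 za57) (ka xa24 ya36 za26) (ka xa12 ya49 za37) (ka xa12 ya49 za38) (ka xa12 ya49 za39) (ka xa10 ya49 za15) (ka xa12 ya49 za40) (ka xa12 ya49 za41) (ka xa13 ya22 za10) (ka xa7 ya52 za1) (ka xa8 ya58 za47) (ka xa21 ya54 za37) (ka xa20 ya9 za50) (ka xa20 ya9 za46) (ka xa23 ya30 za29) (ka xa24 ya35 za23) (ka xa8 ya9 za2) (ka xa8 ya9 za1) (ka xa11 ya11 za56) (ka xa14 ya40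 za12) (ka xa7 ya52 za5) (ka xa12 ya5 za53) (ka xa9 ya43 za52) (ka xa24 ya36 za42) (ka xa24 ya36 za48) (ka xa24 ya35 za24) (ka xa20 ya43 za18) (ka xa23 ya1 za49) (ka xa16 ya46 za18) (ka xa23 ya30 za34) (ka xa23 ya29 za22) (ka xa14 ya21 za42) (ka xa24 ya35 za25) (ka xa19 ya55 za19) (ka xa20 ya43 za20) (ka xa24 ya35 za26) (ka xa24 ya35 za27) (ka xa24 ya37 za0) (ka xa24 ya35 za29) (ka xa24 ya35 za30) (ka xa24 ya35 za31) (ka xa16 ya30 za13) (ka xa14 ya47 za8) (ka xa13 ya36 za37) (ka xa14 ya51 za36) (ka xa14 ya51 za39) (ka xa8 ya7 za1) (ka xa15 ya53 za29) (ka xa15 ya53 za30) (ka xa8 ya37 za48) (ka xa7 ya52 za21) (ka xa15 ya53 za28) (ka xa15 ya53 za27) (ka xa15 ya30 za1)) (@D3.rec (fun _ => Pt) (ka xa14 ya55 za2) (ka xa14 ya46 za22) (ka xa11 ya4 za29) (ka xa20 ya43 za34) (ka xa24 ya35 za32) (ka xa24 ya35 za33) (ka xa24 ya35 za34)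 (ka xa16 ya5 za47) (ka xa14 ya51 za28) (ka xa15 ya23 za5) (ka xa24 ya35 za35) (ka xa24 ya35 za36) (ka xa14 ya54 za29) (ka xa15 ya22 za52) (ka xa20 ya41 za35) (ka xa24 ya35 za37) (ka xa20 ya2 za11) (ka xa17 ya53 za33) (ka xa20 ya41 za32) (ka xa7 ya52 za30) (ka xa14 ya27 za55) (ka xa20 ya43 za47) (ka xa22 ya54 za50) (ka xa24 ya35 za40) (ka xa24 ya35 za41) (ka xa24 ya35 za42) (ka xa13 ya8 za53) (ka xa24 ya3 za40) (ka xa14 ya51 za8) (ka xa23 ya33 za25) (ka xa22 ya55 za31) (ka xa7 ya52 za38) (ka xa23 ya8 za35) (ka xa23 ya8 za34) (ka xa20 ya50 za11) (ka xa16 ya4 za52) (ka xa14 ya50 za52) (ka xa23 ya39 za21) (ka xa14 ya48 za29) (ka xa14 ya50 za53) (ka xa16 ya4 za5) (ka xa22 ya52 za53) (ka xa15 ya52 za60) (ka xa24 ya35 za43) (ka xa24 ya35 za44) (ka xa24 ya35 za45) (ka xa14 ya48 za9) (ka xa24 ya10 za21) (ka xa14 ya25 za14) (ka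 xa24 ya10 za23) (ka xa14 ya48 za42) (ka xa23 ya39 za14) (ka xa23 ya11 za6) (ka xa24 ya35 za46) (ka xa24 ya35 za47) (ka xa24 ya27 za4) (ka xa14 ya55 za18) (ka xa24 ya35 za48) (ka xa24 ya6 za42) (ka xa23 ya11 za5) (ka xa14 ya13 za27) (ka xa7 ya52 za50)) (@D3.rec (fun _ => Pt) (ka xa22 ya20 za3) (ka xa22 ya14 za31) (ka xa7 ya52 za53) (ka xa14 ya27 za18) (ka xa24 ya27 za20) (ka xa10 ya34 za48) (ka xa24 ya35 za49) (ka xa22 ya13 za0) (ka xa7 ya52 za56) (ka xa19 ya31 za4) (ka xa19 ya31 za17) (ka xa7 ya52 za57) (ka xa24 ya38 za45) (ka xa13 ya0 za40) (ka xa24 ya0 za45) (ka xa24 ya0 za46) (ka xa24 ya0 za47) (ka xa24 ya0 za48) (ka xa19 ya7 za17) (ka xa14 ya31 za9) (ka xa13 ya34 za7) (ka xa13 ya32 za47) (ka xa13 ya32 za48) (ka xa15 ya40 za4) (ka xa13 ya32 za49) (ka xa14 ya28 za8) (ka xa14 ya28 za9) (ka xa14 ya28 za10) (ka xa21 ya14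 za28) (ka xa13 ya5 za44) (ka xa13 ya7 za58) (ka xa12 ya38 za55) (ka xa13 ya9 za9) (ka xa9 ya17 za12) (ka xa13 ya9 za11) (ka xa11 ya20 za3) (ka xa13 ya9 za13) (ka xa13 ya9 za16) (ka xa20 ya28 za56) (ka xa9 ya14 za28) (ka xa13 ya9 za15) (ka xa13 ya9 za20) (ka xa19 ya30 za53) (ka xa13 ya9 za22) (ka xa13 ya9 za25) (ka xa9 ya10 za18) (ka xa8 ya51 za52) (ka xa13 ya8 za17) (ka xa13 ya8 za18) (ka xa20 ya34 za20) (ka xa13 ya8 za19) (ka xa13 ya8 za22) (ka xa13 ya8 za23) (ka xa13 ya8 za28) (ka xa13 ya8 za29) (ka xa13 ya8 za35) (ka xa22 ya58 za37) (ka xa13 ya8 za37) (ka xa7 ya53 za37) (ka xa14 ya54 za9) (ka xa21 ya54 za11) (ka xa14 ya34 za16)) (@D3.rec (fun _ => Pt) (ka xa23 ya39 za53) (ka xa7 ya53 za33) (ka xa10 ya41 za4) (ka xa13 ya53 za35) (ka xa9 ya3 za12) (ka xa12 ya25 za28) (ka xa14 ya33 za57) (ka xa22 ya17 za9) (ka xa14 ya33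 za58) (ka xa23 ya39 za54) (ka xa10 ya56 za45) (ka xa23 ya39 za41) (ka xa10 ya40 za38) (ka xa10 ya40 za37) (ka xa20 ya15 za51) (ka xa10 ya40 za57) (ka xa18 ya51 za6) (ka xa8 ya6 za17) (ka xa22 ya45 za45) (ka xa7 ya53 za42) (ka xa24 ya40 za1) (ka xa23 ya28 za7) (ka xa22 ya45 za55) (ka xa7 ya53 za44) (ka xa24 ya40 za7) (ka xa24 ya17 za49) (ka xa23 ya39 za34) (ka xa23 ya41 za37) (ka xa23 ya41 za38) (ka xa23 ya41 za39) (ka xa22 ya51 za13) (ka xa13 ya48 za26) (ka xa13 ya48 za24) (ka xa24 ya40 za24) (ka xa14 ya53 za44) (ka xa13 ya42 za58) (ka xa13 ya49 za42) (ka xa14 ya53 za45) (ka xa10 ya22 za45) (ka xa22 ya40 za3) (ka xa22 ya50 za30) (ka xa22 ya50 za31) (ka xa22 ya50 za32) (ka xa24 ya40 za34) (ka xa14 ya53 za34) (ka xa14 ya53 za37) (ka xa18 ya50 za4) (ka xa13 ya22 za16) (ka xa23 ya6 za61) (ka xa16 ya22 za46) (ka xa16 ya22 za45)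 (ka xa22 ya50 za22) (ka xa22 ya50 za34) (ka xa14 ya2 za2) (ka xa22 ya8 za38) (ka xa14 ya1 za61) (ka xa14 ya2 za0) (ka xa7 ya53 za59) (ka xa14 ya2 za4) (ka xa14 ya2 za3) (ka xa24 ya40 za50) (ka xa24 ya40 za51)) (@D3.rec (fun _ => Pt) (ka xa24 ya41 za1) (ka xa14 ya55 za27) (ka xa14 ya55 za28) (ka xa14 ya55 za29) (ka xa14 ya55 za30) (ka xa14 ya55 za32) (ka xa14 ya55 za33) (ka xa12 ya47 za44) (ka xa23 ya23 za41) (ka xa14 ya52 za59) (ka xa14 ya19 za58) (ka xa12 ya47 za58) (ka xa14 ya49 za34) (ka xa14 ya49 za35) (ka xa7 ya54 za7) (ka xa14 ya49 za38) (ka xa14 ya49 za37) (ka xa24 ya41 za16) (ka xa19 ya16 za44) (ka xa24 ya41 za23) (ka xa14 ya55 za48) (ka xa14 ya55 za49) (ka xa14 ya55 za50) (ka xa14 ya55 za51) (ka xa19 ya32 za9) (ka xa13 ya59 za52) (ka xa13 ya59 za50) (ka xa24 ya41 za32) (ka xa14 ya55 za53) (ka xa14 ya51 za12) (ka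 xa9 ya20 za16) (ka xa20 ya34 za33) (ka xa9 ya48 za32) (ka xa23 ya23 za42) (ka xa23 ya23 za43) (ka xa23 ya23 za44) (ka xa7 ya54 za14) (ka xa24 ya41 za42) (ka xa12 ya48 za21) (ka xa24 ya41 za48) (ka xa14 ya56 za10) (ka xa14 ya56 za11) (ka xa12 ya48 za39) (ka xa14 ya56 za12) (ka xa7 ya54 za17) (ka xa21 ya42 za14) (ka xa24 ya41 za52) (ka xa24 ya41 za59) (ka xa14 ya56 za3) (ka xa14 ya56 za4) (ka xa14 ya56 za5) (ka xa24 ya42 za5) (ka xa14 ya54 za59) (ka xa24 ya42 za7) (ka xa14 ya54 za61) (ka xa14 ya56 za13) (ka xa7 ya54 za22) (ka xa23 ya30 za16) (ka xa24 ya42 za15) (ka xa14 ya54 za52) (ka xa24 ya42 za19) (ka xa14 ya54 za54)) (@D3.rec (fun _ => Pt) (ka xa14 ya55 za8) (ka xa7 ya54 za28) (ka xa14 ya51 za0) (ka xa7 ya54 za29) (ka xa14 ya55 za15) (ka xa7 ya54 za30) (ka xa24 ya42 za26) (ka xa14 ya55 za21) (ka xa14 ya55 za0) (ka xa7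 ya54 za32) (ka xa23 ya30 za18) (ka xa14 ya56 za18) (ka xa23 ya29 za32) (ka xa23 ya29 za33) (ka xa24 ya34 za46) (ka xa14 ya55 za4) (ka xa7 ya54 za37) (ka xa23 ya26 za8) (ka xa14 ya51 za56) (ka xa7 ya54 za39) (ka xa23 ya28 za5) (ka xa14 ya55 za7) (ka xa13 ya53 za19) (ka xa7 ya54 za43) (ka xa13 ya53 za25) (ka xa24 ya42 za43) (ka xa24 ya30 za50) (ka xa14 ya54 za1) (ka xa14 ya54 za2) (ka xa14 ya54 za3) (ka xa14 ya54 za4) (ka xa14 ya28 za42) (ka xa14 ya54 za5) (ka xa14 ya54 za6) (ka xa21 ya7 za35) (ka xa21 ya55 za23) (ka xa7 ya55 za6) (ka xa7 ya55 za7) (ka xa14 ya28 za40) (ka xa14 ya46 za23) (ka xa14 ya45 za7) (ka xa14 ya46 za21) (ka xa7 ya54 za53) (ka xa14 ya46 za25) (ka xa14 ya46 za24) (ka xa24 ya43 za4) (ka xa24 ya43 za5) (ka xa24 ya43 za17) (ka xa14 ya54 za20) (ka xa14 ya54 za21) (ka xa14 ya54 za22) (ka xa14 ya54 za23) (ka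 xa16 ya5 za48) (ka xa14 ya54 za28) (ka xa22 ya4 za26) (ka xa13 ya20 za37) (ka xa20 ya16 za19) (ka xa23 ya36 za27) (ka xa16 ya2 za36) (ka xa23 ya36 za28) (ka xa7 ya54 za59) (ka xa24 ya43 za26)) (@D3.rec (fun _ => Pt) (ka xa24 ya43 za27) (ka xa21 ya46 za54) (ka xa12 ya40 za27) (ka xa14 ya54 za48) (ka xa14 ya54 za49) (ka xa14 ya54 za50) (ka xa7 ya55 za0) (ka xa24 ya43 za34) (ka xa21 ya55 za59) (ka xa24 ya43 za38) (ka xa14 ya54 za40) (ka xa14 ya54 za41) (ka xa14 ya54 za43) (ka xa14 ya54 za55) (ka xa12 ya41 za53) (ka xa7 ya55 za3) (ka xa24 ya43 za44) (ka xa22 ya4 za25) (ka xa14 ya55 za11) (ka xa14 ya56 za31) (ka xa19 ya48 za26) (ka xa22 ya27 za12) (ka xa24 ya42 za61) (ka xa24 ya43 za0) (ka xa24 ya43 za56) (ka xa22 ya27 za11) (ka xa13 ya59 za11) (ka xa20 ya16 za23) (ka xa23 ya31 za36) (ka xa23 ya31 za37) (ka xa8 ya38 za56) (ka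 xa14 ya56 za19) (ka xa14 ya47 za7) (ka xa7 ya55 za10) (ka xa14 ya45 za6) (ka xa7 ya55 za11) (ka xa15 ya9 za52) (ka xa21 ya24 za48) (ka xa17 ya11 za19) (ka xa12 ya58 za58) (ka xa12 ya58 za57) (ka xa7 ya55 za14) (ka xa15 ya19 za4) (ka xa15 ya49 za56) (ka xa23 ya36 za37) (ka xa9 ya37 za18) (ka xa8 ya24 za58) (ka xa13 ya4 za27) (ka xa7 ya55 za19) (ka xa24 ya44 za11) (ka xa11 ya59 za58) (ka xa18 ya46 za51) (ka xa22 ya26 za47) (ka xa18 ya46 za49) (ka xa22 ya24 za18) (ka xa22 ya30 za26) (ka xa13 ya49 za27) (ka xa8 ya18 za35) (ka xa8 ya40 za23) (ka xa8 ya40 za24) (ka xa17 ya38 za59) (ka xa17 ya38 za58)) (@D3.rec (fun _ => Pt) (ka xa7 ya55 za27) (ka xa17 ya38 za48) (ka xa8 ya40 za31) (ka xa21 ya31 za28) (ka xa15 ya27 za20) (ka xa15 ya49 za20) (ka xa15 ya56 za46) (ka xa15 ya56 za47) (ka xa8 ya40 za58) (ka xa8 ya40 za57) (ka xa7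 ya55 za33) (ka xa21 ya31 za27) (ka xa8 ya40 za46) (ka xa8 ya20 za58) (ka xa8 ya40 za47) (ka xa8 ya40 za49) (ka xa8 ya40 za51) (ka xa8 ya40 za39) (ka xa8 ya40 za38) (ka xa7 ya55 za38) (ka xa24 ya44 za49) (ka xa8 ya41 za2) (ka xa8 ya41 za3) (ka xa15 ya27 za15) (ka xa15 ya27 za16) (ka xa15 ya57 za6) (ka xa8 ya41 za18) (ka xa8 ya41 za19) (ka xa8 ya41 za20) (ka xa8 ya41 za22) (ka xa8 ya41 za40) (ka xa8 ya41 za42) (ka xa8 ya19 za1) (ka xa8 ya41 za43) (ka xa8 ya41 za54) (ka xa8 ya41 za53) (ka xa7 ya55 za51) (ka xa17 ya39 za32) (ka xa8 ya41 za51) (ka xa8 ya41 za52) (ka xa8 ya41 za46) (ka xa8 ya41 za45) (ka xa7 ya55 za53) (ka xa24 ya45 za5) (ka xa24 ya45 za6) (ka xa8 ya41 za59) (ka xa8 ya41 za60) (ka xa8 ya41 za61) (ka xa7 ya55 za60) (ka xa7 ya55 za56) (ka xa17 ya36 za56) (ka xa24 ya45 za14) (ka xa24 ya45 za15) (ka xa7 ya55 za57)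 (ka xa21 ya33 za53) (ka xa24 ya45 za22) (ka xa24 ya45 za26) (ka xa7 ya55 za59) (ka xa8 ya45 za4) (ka xa8 ya45 za3) (ka xa24 ya45 za29) (ka xa24 ya45 za12)) (@D3.rec (fun _ => Pt) (ka xa8 ya42 za21) (ka xa8 ya42 za22) (ka xa8 ya42 za23) (ka xa8 ya42 za26) (ka xa8 ya20 za8) (ka xa8 ya42 za28) (ka xa8 ya42 za29) (ka xa8 ya42 za31) (ka xa8 ya42 za32) (ka xa7 ya56 za6) (ka xa8 ya24 za9) (ka xa8 ya24 za38) (ka xa17 ya37 za15) (ka xa24 ya45 za46) (ka xa8 ya43 za16) (ka xa8 ya43 za15) (ka xa7 ya56 za8) (ka xa22 ya14 za49) (ka xa8 ya42 za43) (ka xa8 ya42 za44) (ka xa8 ya25 za4) (ka xa7 ya56 za15) (ka xa19 ya10 za39) (ka xa18 ya36 za3) (ka xa8 ya43 za1) (ka xa8 ya43 za2) (ka xa8 ya43 za3) (ka xa8 ya43 za4) (ka xa8 ya43 za7) (ka xa17 ya52 za6) (ka xa8 ya43 za45) (ka xa8 ya43 za46) (ka xa8 ya43 za48) (ka xa19 ya21 za18) (ka xa18 ya39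 za19) (ka xa8 ya44 za0) (ka xa8 ya44 za1) (ka xa8 ya44 za3) (ka xa8 ya44 za12) (ka xa8 ya44 za13) (ka xa8 ya44 za14) (ka xa20 ya0 za8) (ka xa7 ya56 za27) (ka xa7 ya56 za28) (ka xa21 ya13 za28) (ka xa21 ya13 za29) (ka xa11 ya23 za27) (ka xa20 ya21 za48) (ka xa20 ya21 za49) (ka xa24 ya46 za5) (ka xa24 ya46 za6) (ka xa14 ya15 za14) (ka xa24 ya46 za7) (ka xa18 ya48 za60) (ka xa20 ya8 za24) (ka xa24 ya46 za8) (ka xa18 ya59 za48) (ka xa19 ya0 za31) (ka xa20 ya8 za25) (ka xa7 ya56 za30) (ka xa24 ya46 za27) (ka xa24 ya46 za28)) (@D3.rec (fun _ => Pt) (ka xa8 ya44 za56) (ka xa8 ya44 za57) (ka xa8 ya44 za58) (ka xa20 ya7 za25) (ka xa20 ya7 za59) (ka xa8 ya45 za0) (ka xa8 ya45 za1) (ka xa8 ya45 za2) (ka xa8 ya42 za13) (ka xa8 ya42 za12) (ka xa7 ya56 za34) (ka xa18 ya30 za21) (ka xa8 ya45 za7) (ka xa8 ya45 za8) (ka xa8 ya45 za9) (ka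 xa8 ya45 za10) (ka xa21 ya53 za5) (ka xa8 ya45 za12) (ka xa8 ya45 za13) (ka xa8 ya45 za14) (ka xa20 ya8 za3) (ka xa8 ya45 za16) (ka xa8 ya45 za19) (ka xa8 ya45 za20) (ka xa8 ya45 za21) (ka xa8 ya46 za6) (ka xa8 ya46 za18) (ka xa8 ya46 za14) (ka xa8 ya46 za15) (ka xa8 ya45 za55) (ka xa8 ya45 za56) (ka xa23 ya3 za31) (ka xa8 ya45 za58) (ka xa8 ya45 za59) (ka xa8 ya46 za56) (ka xa7 ya56 za52) (ka xa8 ya47 za4) (ka xa20 ya41 za2) (ka xa16 ya51 za20) (ka xa20 ya0 za59) (ka xa8 ya46 za50) (ka xa8 ya46 za53) (ka xa8 ya46 za54) (ka xa8 ya48 za18) (ka xa8 ya48 za15) (ka xa20 ya30 za45) (ka xa20 ya30 za46) (ka xa20 ya30 za47) (ka xa8 ya47 za51) (ka xa8 ya47 za52) (ka xa8 ya47 za54) (ka xa8 ya47 za55) (ka xa8 ya47 za56) (ka xa8 ya47 za58) (ka xa8 ya47 za59) (ka xa24 ya47 za18) (ka xa14 ya45 za31) (ka xa17 ya2 za25) (ka xa17 ya2 za26)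 (ka xa9 ya25 za36) (ka xa20 ya26 za20) (ka xa17 ya8 za31))
def f_a_15 : D2 → D3 → Pt := @D2.rec (fun _ => D3 → Pt) (@D3.rec (fun _ => Pt) (ka xa7 ya57 za21) (ka xa7 ya57 za22) (ka xa7 ya57 za23) (ka xa7 ya57 za24) (ka xa8 ya50 za33) (ka xa12 ya49 za29) (ka xa8 ya50 za37) (ka xa16 ya31 za58) (ka xa13 ya1 za41) (ka xa20 ya0 za0) (ka xa24 ya47 za19) (ka xa19 ya58 za44) (ka xa11 ya14 za13) (ka xa17 ya15 za26) (ka xa24 ya47 za21) (ka xa24 ya47 za22) (ka xa24 ya47 za35) (ka xa12 ya49 za35) (ka xa24 ya47 za23) (ka xa20 ya6 za23) (ka xa8 ya51 za13) (ka xa7 ya57 za25) (ka xa22 ya51 za36) (ka xa24 ya47 za41) (ka xa8 ya51 za7) (ka xa8 ya51 za8) (ka xa8 ya51 za9) (ka xa8 ya51 za10) (ka xa8 ya51 za11) (ka xa8 ya51 za12) (ka xa20 ya30 za39) (ka xa20 ya31 za30) (ka xa20 ya31 za31) (ka xa8 ya51 za21) (ka xa8 ya51 za24) (ka xa24 ya47 za58)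 (ka xa10 ya32 za61) (ka xa10 ya33 za0) (ka xa24 ya48 za2) (ka xa10 ya21 za4) (ka xa10 ya21 za5) (ka xa18 ya30 za30) (ka xa18 ya30 za29) (ka xa7 ya57 za33) (ka xa24 ya48 za12) (ka xa10 ya32 za57) (ka xa10 ya20 za19) (ka xa15 ya0 za53) (ka xa18 ya11 za15) (ka xa18 ya11 za14) (ka xa7 ya57 za35) (ka xa24 ya48 za25) (ka xa10 ya33 za28) (ka xa15 ya0 za47) (ka xa24 ya48 za33) (ka xa7 ya57 za59) (ka xa7 ya57 za60) (ka xa19 ya42 za17) (ka xa7 ya58 za6) (ka xa7 ya58 za7) (ka xa24 ya48 za43) (ka xa7 ya58 za13)) (@D3.rec (fun _ => Pt) (ka xa7 ya58 za14) (ka xa7 ya58 za16) (ka xa7 ya58 za17) (ka xa7 ya58 za20) (ka xa7 ya58 za21) (ka xa7 ya58 za22) (ka xa7 ya58 za25) (ka xa24 ya48 za52) (ka xa24 ya48 za54) (ka xa7 ya57 za45) (ka xa24 ya48 za59) (ka xa19 ya42 za39) (ka xa7 ya58 za39) (ka xa7 ya58 za41) (ka xa24 ya49 za7) (ka xa9 ya41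 za9) (ka xa9 ya41 za12) (ka xa24 ya49 za11) (ka xa16 ya4 za9) (ka xa15 ya42 za54) (ka xa16 ya7 za54) (ka xa19 ya32 za51) (ka xa8 ya37 za36) (ka xa8 ya37 za34) (ka xa8 ya37 za32) (ka xa8 ya37 za33) (ka xa8 ya37 za35) (ka xa24 ya49 za27) (ka xa15 ya2 za9) (ka xa15 ya41 za50) (ka xa24 ya49 za34) (ka xa10 ya46 za32) (ka xa10 ya46 za33) (ka xa19 ya12 za36) (ka xa24 ya48 za37) (ka xa7 ya57 za58) (ka xa15 ya2 za11) (ka xa24 ya49 za42) (ka xa15 ya41 za48) (ka xa24 ya33 za22) (ka xa15 ya41 za59) (ka xa10 ya47 za30) (ka xa24 ya48 za36) (ka xa11 ya5 za59) (ka xa9 ya0 za2) (ka xa8 ya11 za36) (ka xa8 ya11 za35) (ka xa8 ya11 za38) (ka xa8 ya11 za34) (ka xa24 ya50 za3) (ka xa8 ya18 za8) (ka xa8 ya18 za12) (ka xa19 ya37 za4) (ka xa24 ya48 za32) (ka xa7 ya58 za5) (ka xa19 ya42 za16) (ka xa24 ya50 za10) (ka xa24 ya48 za39) (ka xa24 ya48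 za40) (ka xa15 ya27 za61) (ka xa24 ya48 za41) (ka xa11 ya10 za27)) (@D3.rec (fun _ => Pt) (ka xa9 ya1 za17) (ka xa10 ya40 za40) (ka xa24 ya50 za32) (ka xa15 ya41 za49) (ka xa10 ya40 za55) (ka xa10 ya40 za54) (ka xa7 ya58 za12) (ka xa15 ya27 za58) (ka xa24 ya50 za38) (ka xa15 ya1 za28) (ka xa24 ya48 za46) (ka xa15 ya1 za36) (ka xa10 ya54 za20) (ka xa19 ya20 za19) (ka xa9 ya43 za35) (ka xa9 ya43 za36) (ka xa16 ya39 za15) (ka xa18 ya9 za0) (ka xa18 ya2 za40) (ka xa19 ya45 za7) (ka xa24 ya48 za42) (ka xa7 ya58 za19) (ka xa24 ya50 za51) (ka xa24 ya39 za57) (ka xa24 ya48 za47) (ka xa24 ya48 za48) (ka xa24 ya48 za49) (ka xa24 ya48 za50) (ka xa24 ya48 za51) (ka xa15 ya20 za1) (ka xa16 ya9 za6) (ka xa9 ya43 za58) (ka xa8 ya11 za13) (ka xa15 ya19 za58) (ka xa15 ya19 za57) (ka xa7 ya58 za26) (ka xa24 ya51 za18) (ka xa24 ya51 za17)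 (ka xa16 ya6 za22) (ka xa10 ya40 za46) (ka xa16 ya39 za16) (ka xa16 ya39 za12) (ka xa16 ya39 za11) (ka xa7 ya58 za29) (ka xa24 ya51 za33) (ka xa24 ya51 za34) (ka xa15 ya20 za0) (ka xa15 ya20 za2) (ka xa15 ya20 za3) (ka xa18 ya44 za21) (ka xa10 ya59 za43) (ka xa10 ya59 za44) (ka xa20 ya5 za20) (ka xa19 ya42 za42) (ka xa19 ya42 za43) (ka xa7 ya58 za35) (ka xa19 ya32 za61) (ka xa19 ya32 za58) (ka xa24 ya51 za53) (ka xa24 ya51 za23) (ka xa16 ya4 za48) (ka xa24 ya51 za60)) (@D3.rec (fun _ => Pt) (ka xa15 ya18 za37) (ka xa23 ya13 za27) (ka xa16 ya4 za2) (ka xa24 ya49 za3) (ka xa24 ya49 za4) (ka xa24 ya49 za5) (ka xa19 ya6 za10) (ka xa15 ya29 za31) (ka xa15 ya22 za3) (ka xa24 ya49 za6) (ka xa10 ya42 za31) (ka xa15 ya29 za36) (ka xa10 ya11 za55) (ka xa15 ya29 za33) (ka xa15 ya53 za35) (ka xa10 ya54 za12) (ka xa15 ya53 za36) (ka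 xa15 ya53 za37) (ka xa15 ya53 za38) (ka xa16 ya45 za42) (ka xa15 ya53 za39) (ka xa15 ya53 za40) (ka xa9 ya42 za3) (ka xa15 ya53 za42) (ka xa15 ya53 za43) (ka xa9 ya42 za19) (ka xa9 ya42 za42) (ka xa16 ya41 za20) (ka xa16 ya41 za21) (ka xa24 ya52 za38) (ka xa19 ya42 za35) (ka xa18 ya44 za16) (ka xa19 ya42 za36) (ka xa19 ya42 za37) (ka xa19 ya42 za38) (ka xa19 ya46 za32) (ka xa19 ya46 za33) (ka xa19 ya6 za13) (ka xa19 ya42 za32) (ka xa16 ya58 za24) (ka xa16 ya3 za16) (ka xa19 ya39 za0) (ka xa9 ya46 za27) (ka xa9 ya45 za59) (ka xa23 ya30 za35) (ka xa20 ya24 za9) (ka xa11 ya2 za42) (ka xa11 ya39 za31) (ka xa9 ya44 za42) (ka xa7 ya59 za41) (ka xa7 ya59 za45) (ka xa11 ya14 za17) (ka xa11 ya13 za4) (ka xa11 ya12 za54) (ka xa19 ya41 za47) (ka xa18 ya58 za35) (ka xa20 ya0 za14) (ka xa20 ya0 za15) (ka xa12 ya8 za58) (ka xa11 ya12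 za6) (ka xa11 ya13 za43) (ka xa20 ya0 za22)) (@D3.rec (fun _ => Pt) (ka xa8 ya1 za50) (ka xa19 ya41 za48) (ka xa14 ya25 za32) (ka xa9 ya31 za19) (ka xa9 ya1 za53) (ka xa11 ya12 za43) (ka xa11 ya7 za1) (ka xa7 ya59 za37) (ka xa7 ya59 za39) (ka xa7 ya59 za40) (ka xa7 ya59 za42) (ka xa7 ya59 za43) (ka xa7 ya59 za44) (ka xa11 ya19 za5) (ka xa11 ya14 za18) (ka xa7 ya59 za36) (ka xa11 ya15 za8) (ka xa17 ya8 za46) (ka xa24 ya53 za13) (ka xa24 ya46 za18) (ka xa20 ya9 za20) (ka xa16 ya55 za39) (ka xa24 ya53 za7) (ka xa23 ya35 za43) (ka xa24 ya52 za56) (ka xa11 ya19 za40) (ka xa24 ya53 za9) (ka xa24 ya53 za15) (ka xa24 ya53 za10) (ka xa24 ya53 za11) (ka xa24 ya52 za58) (ka xa24 ya52 za57) (ka xa19 ya39 za30) (ka xa9 ya46 za40) (ka xa20 ya20 za51) (ka xa11 ya7 za37) (ka xa9 ya46 za46) (ka xa11 ya14 za5) (ka xa9 ya8 za52) (ka xa11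 ya33 za20) (ka xa11 ya32 za58) (ka xa18 ya43 za0) (ka xa15 ya30 za40) (ka xa11 ya35 za21) (ka xa18 ya42 za61) (ka xa8 ya0 za8) (ka xa8 ya2 za18) (ka xa8 ya49 za19) (ka xa20 ya22 za45) (ka xa11 ya39 za27) (ka xa8 ya2 za20) (ka xa11 ya12 za58) (ka xa21 ya11 za6) (ka xa21 ya11 za7) (ka xa11 ya32 za1) (ka xa9 ya13 za20) (ka xa19 ya32 za36) (ka xa19 ya24 za25) (ka xa9 ya6 za61) (ka xa11 ya50 za35) (ka xa19 ya34 za34) (ka xa9 ya29 za19)) (@D3.rec (fun _ => Pt) (ka xa8 ya0 za42) (ka xa8 ya0 za43) (ka xa11 ya46 za14) (ka xa8 ya0 za45) (ka xa8 ya0 za49) (ka xa8 ya0 za50) (ka xa13 ya1 za19) (ka xa11 ya33 za23) (ka xa10 ya48 za30) (ka xa9 ya5 za40) (ka xa11 ya42 za24) (ka xa8 ya0 za32) (ka xa11 ya36 za27) (ka xa20 ya33 za0) (ka xa9 ya13 za31) (ka xa9 ya49 za26) (ka xa12 ya30 za19) (ka xa12 ya56 za32) (ka xa21 ya3 za4) (ka xa12 ya49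 za50) (ka xa11 ya12 za3) (ka xa17 ya4 za35) (ka xa11 ya46 za15) (ka xa19 ya27 za20) (ka xa11 ya48 za16) (ka xa20 ya7 za44) (ka xa20 ya26 za6) (ka xa9 ya50 za59) (ka xa21 ya37 za44) (ka xa20 ya8 za34) (ka xa13 ya10 za61) (ka xa24 ya53 za32) (ka xa20 ya8 za33) (ka xa8 ya0 za53) (ka xa8 ya0 za55) (ka xa9 ya24 za42) (ka xa24 ya53 za39) (ka xa24 ya53 za40) (ka xa9 ya51 za1) (ka xa9 ya51 za0) (ka xa12 ya57 za54) (ka xa8 ya0 za58) (ka xa21 ya38 za19) (ka xa15 ya7 za50) (ka xa9 ya44 za38) (ka xa8 ya1 za5) (ka xa24 ya53 za48) (ka xa21 ya29 za58) (ka xa16 ya20 za58) (ka xa21 ya12 za33) (ka xa18 ya49 za31) (ka xa21 ya29 za59) (ka xa16 ya20 za59) (ka xa15 ya6 za59) (ka xa15 ya6 za58) (ka xa8 ya1 za8) (ka xa18 ya4 za54) (ka xa15 ya7 za38) (ka xa15 ya7 za39) (ka xa20 ya10 za42) (ka xa15 ya7 za41) (ka xa15 ya7 za42)) (@D3.rec (fun _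 => Pt) (ka xa18 ya15 za54) (ka xa12 ya6 za29) (ka xa15 ya7 za44) (ka xa15 ya7 za45) (ka xa15 ya7 za46) (ka xa15 ya7 za47) (ka xa12 ya22 za40) (ka xa16 ya25 za44) (ka xa16 ya28 za23) (ka xa17 ya2 za39) (ka xa9 ya46 za58) (ka xa16 ya26 za39) (ka xa21 ya29 za51) (ka xa21 ya29 za52) (ka xa21 ya29 za53) (ka xa21 ya29 za54) (ka xa16 ya30 za45) (ka xa21 ya29 za56) (ka xa21 ya29 za24) (ka xa20 ya35 za46) (ka xa21 ya29 za57) (ka xa20 ya5 za61) (ka xa20 ya34 za32) (ka xa20 ya35 za49) (ka xa20 ya35 za50) (ka xa15 ya8 za33) (ka xa15 ya8 za34) (ka xa15 ya8 za35) (ka xa15 ya8 za36) (ka xa15 ya8 za28) (ka xa8 ya1 za24) (ka xa24 ya54 za38) (ka xa23 ya6 za24) (ka xa20 ya6 za1) (ka xa15 ya8 za44) (ka xa15 ya8 za45) (ka xa15 ya8 za46) (ka xa15 ya8 za47) (ka xa15 ya8 za48) (ka xa8 ya1 za28) (ka xa9 ya38 za49) (ka xa17 ya38 za56) (ka xa24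 ya54 za44) (ka xa9 ya37 za49) (ka xa9 ya39 za2) (ka xa18 ya52 za20) (ka xa8 ya1 za38) (ka xa8 ya1 za34) (ka xa16 ya13 za60) (ka xa24 ya44 za28) (ka xa24 ya54 za49) (ka xa24 ya54 za50) (ka xa8 ya1 za35) (ka xa24 ya54 za59) (ka xa24 ya54 za53) (ka xa24 ya54 za56) (ka xa23 ya37 za48) (ka xa8 ya1 za37) (ka xa15 ya5 za54) (ka xa15 ya5 za53) (ka xa24 ya55 za4) (ka xa24 ya55 za5)) (@D3.rec (fun _ => Pt) (ka xa9 ya38 za30) (ka xa9 ya38 za31) (ka xa9 ya38 za32) (ka xa9 ya38 za35) (ka xa19 ya59 za37) (ka xa8 ya1 za57) (ka xa8 ya1 za47) (ka xa8 ya44 za18) (ka xa24 ya55 za23) (ka xa18 ya58 za33) (ka xa9 ya45 za33) (ka xa20 ya20 za53) (ka xa24 ya53 za6) (ka xa23 ya4 za39) (ka xa8 ya1 za53) (ka xa8 ya1 za54) (ka xa8 ya1 za55) (ka xa8 ya1 za56) (ka xa11 ya6 za44) (ka xa24 ya55 za18) (ka xa24 ya55 za35) (ka xa24 ya55 za36) (ka xa24 ya55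 za37) (ka xa16 ya21 za56) (ka xa24 ya55 za38) (ka xa24 ya56 za4) (ka xa24 ya55 za40) (ka xa24 ya55 za41) (ka xa24 ya55 za21) (ka xa24 ya55 za42) (ka xa24 ya55 za43) (ka xa24 ya55 za44) (ka xa24 ya55 za22) (ka xa8 ya47 za28) (ka xa9 ya38 za23) (ka xa9 ya38 za22) (ka xa8 ya1 za59) (ka xa24 ya56 za26) (ka xa15 ya5 za57) (ka xa15 ya5 za58) (ka xa18 ya36 za29) (ka xa15 ya5 za60) (ka xa15 ya5 za61) (ka xa17 ya45 za50) (ka xa15 ya6 za2) (ka xa15 ya6 za3) (ka xa15 ya6 za4) (ka xa15 ya6 za5) (ka xa12 ya6 za8) (ka xa12 ya6 za15) (ka xa15 ya5 za43) (ka xa9 ya19 za42) (ka xa8 ya2 za30) (ka xa8 ya48 za5) (ka xa8 ya48 za59) (ka xa8 ya48 za61) (ka xa15 ya13 za31) (ka xa8 ya38 za10) (ka xa15 ya13 za30) (ka xa8 ya48 za27) (ka xa22 ya47 za21) (ka xa8 ya50 za19)) (@D3.rec (fun _ => Pt) (ka xa16 ya43 za59) (ka xa22 ya59 za37) (ka xa17 ya57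 za15) (ka xa8 ya2 za24) (ka xa8 ya2 za27) (ka xa8 ya2 za28) (ka xa8 ya2 za29) (ka xa8 ya45 za54) (ka xa24 ya46 za59) (ka xa11 ya32 za60) (ka xa12 ya22 za27) (ka xa24 ya47 za26) (ka xa24 ya56 za53) (ka xa24 ya56 za54) (ka xa11 ya33 za26) (ka xa16 ya57 za30) (ka xa24 ya56 za55) (ka xa17 ya53 za36) (ka xa20 ya25 za19) (ka xa10 ya57 za14) (ka xa17 ya57 za19) (ka xa17 ya57 za16) (ka xa17 ya57 za17) (ka xa17 ya57 za18) (ka xa12 ya5 za60) (ka xa12 ya5 za61) (ka xa12 ya6 za0) (ka xa12 ya6 za1) (ka xa15 ya6 za29) (ka xa8 ya2 za34) (ka xa24 ya57 za21) (ka xa22 ya51 za6) (ka xa24 ya57 za22) (ka xa15 ya6 za25) (ka xa15 ya6 za26) (ka xa15 ya6 za27) (ka xa15 ya6 za28) (ka xa12 ya22 za43) (ka xa12 ya22 za41) (ka xa11 ya37 za17) (ka xa8 ya2 za37) (ka xa24 ya57 za34) (ka xa24 ya57 za35) (ka xa24 ya57 za36) (ka xa15 ya6 za34) (ka xa15 ya6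 za35) (ka xa15 ya6 za36) (ka xa15 ya6 za37) (ka xa15 ya6 za38) (ka xa13 ya42 za3) (ka xa12 ya6 za2) (ka xa11 ya37 za27) (ka xa12 ya6 za4) (ka xa24 ya57 za52) (ka xa10 ya31 za42) (ka xa10 ya31 za43) (ka xa15 ya21 za36) (ka xa9 ya44 za18) (ka xa8 ya2 za44) (ka xa22 ya28 za55) (ka xa18 ya36 za51) (ka xa22 ya9 za15)) (@D3.rec (fun _ => Pt) (ka xa8 ya6 za36) (ka xa8 ya6 za38) (ka xa8 ya6 za39) (ka xa8 ya6 za53) (ka xa24 ya57 za56) (ka xa24 ya57 za61) (ka xa8 ya2 za49) (ka xa24 ya58 za4) (ka xa24 ya57 za55) (ka xa8 ya54 za10) (ka xa8 ya54 za13) (ka xa8 ya8 za40) (ka xa8 ya2 za54) (ka xa24 ya58 za9) (ka xa8 ya8 za22) (ka xa8 ya8 za23) (ka xa8 ya8 za26) (ka xa8 ya8 za28) (ka xa8 ya8 za29) (ka xa8 ya8 za30) (ka xa8 ya8 za32) (ka xa8 ya8 za17) (ka xa8 ya8 za16) (ka xa8 ya2 za60) (ka xa24 ya58 za21) (ka xa8 ya8 za44) (ka xa8 ya8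 za45) (ka xa8 ya8 za46) (ka xa8 ya8 za47) (ka xa8 ya8 za50) (ka xa15 ya52 za7) (ka xa15 ya21 za34) (ka xa15 ya21 za35) (ka xa24 ya58 za39) (ka xa15 ya21 za31) (ka xa15 ya21 za32) (ka xa8 ya55 za36) (ka xa8 ya9 za29) (ka xa8 ya9 za30) (ka xa8 ya9 za33) (ka xa8 ya9 za34) (ka xa24 ya58 za47) (ka xa15 ya12 za43) (ka xa15 ya12 za42) (ka xa8 ya3 za9) (ka xa23 ya50 za61) (ka xa15 ya12 za36) (ka xa15 ya12 za37) (ka xa10 ya2 za2) (ka xa10 ya7 za47) (ka xa10 ya7 za48) (ka xa15 ya12 za38) (ka xa14 ya56 za36) (ka xa10 ya17 za37) (ka xa15 ya12 za39) (ka xa15 ya12 za40) (ka xa15 ya12 za33) (ka xa15 ya12 za32) (ka xa8 ya3 za18) (ka xa24 ya59 za3) (ka xa15 ya12 za46) (ka xa15 ya12 za47)) (@D3.rec (fun _ => Pt) (ka xa10 ya8 za2) (ka xa15 ya12 za49) (ka xa18 ya23 za44) (ka xa18 ya23 za45) (ka xa15 ya12 za53) (ka xa15 ya12 za54) (ka xa15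 ya12 za55) (ka xa13 ya50 za51) (ka xa13 ya50 za52) (ka xa15 ya12 za56) (ka xa15 ya12 za57) (ka xa15 ya12 za58) (ka xa15 ya12 za60) (ka xa15 ya12 za61) (ka xa11 ya32 za38) (ka xa15 ya13 za0) (ka xa11 ya32 za37) (ka xa18 ya22 za46) (ka xa18 ya42 za0) (ka xa15 ya13 za5) (ka xa15 ya13 za6) (ka xa15 ya13 za7) (ka xa15 ya13 za1) (ka xa8 ya3 za40) (ka xa15 ya13 za3) (ka xa13 ya47 za44) (ka xa24 ya59 za40) (ka xa13 ya31 za18) (ka xa15 ya13 za8) (ka xa15 ya13 za9) (ka xa15 ya13 za10) (ka xa15 ya13 za11) (ka xa14 ya8 za21) (ka xa15 ya29 za41) (ka xa16 ya12 za12) (ka xa16 ya12 za13) (ka xa16 ya12 za14) (ka xa9 ya9 za54) (ka xa9 ya9 za48) (ka xa15 ya13 za45) (ka xa15 ya13 za46) (ka xa15 ya13 za47) (ka xa23 ya19 za50) (ka xa23 ya19 za51) (ka xa15 ya13 za49) (ka xa15 ya13 za51) (ka xa15 ya12 za17) (ka xa15 ya12 za16) (ka xa8 ya3 za50)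 (ka xa14 ya8 za20) (ka xa15 ya13 za56) (ka xa15 ya13 za57) (ka xa15 ya13 za58) (ka xa15 ya13 za59) (ka xa21 ya28 za45) (ka xa15 ya13 za61) (ka xa25 ya0 za7) (ka xa15 ya14 za2) (ka xa15 ya14 za3) (ka xa15 ya14 za4) (ka xa15 ya14 za5) (ka xa15 ya14 za6)) (@D3.rec (fun _ => Pt) (ka xa10 ya7 za54) (ka xa17 ya45 za44) (ka xa10 ya10 za13) (ka xa17 ya45 za45) (ka xa17 ya45 za46) (ka xa17 ya44 za22) (ka xa10 ya7 za59) (ka xa8 ya3 za60) (ka xa10 ya7 za46) (ka xa10 ya7 za49) (ka xa10 ya7 za50) (ka xa10 ya7 za52) (ka xa10 ya7 za53) (ka xa10 ya7 za42) (ka xa10 ya7 za41) (ka xa8 ya4 za3) (ka xa25 ya0 za19) (ka xa24 ya29 za33) (ka xa10 ya8 za1) (ka xa10 ya8 za4) (ka xa10 ya8 za5) (ka xa10 ya8 za6) (ka xa10 ya8 za9) (ka xa10 ya11 za50) (ka xa16 ya22 za8) (ka xa17 ya45 za47) (ka xa10 ya8 za40) (ka xa10 ya8 za39) (ka xa8 ya4 za10) (ka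 xa25 ya0 za33) (ka xa16 ya18 za33) (ka xa10 ya8 za27) (ka xa10 ya8 za28) (ka xa10 ya8 za29) (ka xa10 ya8 za30) (ka xa10 ya8 za31) (ka xa10 ya8 za34) (ka xa10 ya8 za35) (ka xa15 ya50 za55) (ka xa10 ya12 za34) (ka xa15 ya50 za56) (ka xa10 ya8 za21) (ka xa10 ya8 za20) (ka xa8 ya4 za16) (ka xa25 ya0 za49) (ka xa21 ya4 za34) (ka xa10 ya8 za44) (ka xa9 ya35 za40) (ka xa10 ya8 za45) (ka xa10 ya8 za46) (ka xa10 ya8 za48) (ka xa10 ya8 za58) (ka xa10 ya8 za57) (ka xa8 ya4 za21) (ka xa15 ya50 za31) (ka xa24 ya15 za32) (ka xa8 ya10 za40) (ka xa10 ya8 za55) (ka xa10 ya8 za56) (ka xa10 ya8 za51) (ka xa10 ya8 za50) (ka xa8 ya4 za24)) (@D3.rec (fun _ => Pt) (ka xa15 ya50 za32) (ka xa22 ya8 za43) (ka xa10 ya9 za0) (ka xa10 ya9 za1) (ka xa8 ya4 za31) (ka xa8 ya4 za27) (ka xa19 ya6 za31) (ka xa19 ya0 za36) (ka xa23 ya44 za31) (ka xa25 ya0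 za60) (ka xa8 ya4 za28) (ka xa25 ya1 za10) (ka xa25 ya1 za5) (ka xa23 ya44 za30) (ka xa25 ya1 za9) (ka xa8 ya4 za30) (ka xa15 ya10 za47) (ka xa15 ya10 za46) (ka xa23 ya42 za53) (ka xa25 ya1 za16) (ka xa24 ya56 za27) (ka xa25 ya1 za17) (ka xa10 ya9 za20) (ka xa25 ya1 za20) (ka xa10 ya9 za22) (ka xa10 ya9 za23) (ka xa10 ya9 za24) (ka xa10 ya9 za25) (ka xa10 ya9 za28) (ka xa10 ya16 za0) (ka xa10 ya16 za1) (ka xa10 ya16 za3) (ka xa15 ya9 za57) (ka xa15 ya9 za56) (ka xa8 ya4 za37) (ka xa25 ya1 za32) (ka xa15 ya9 za46) (ka xa15 ya9 za47) (ka xa15 ya9 za51) (ka xa15 ya9 za54) (ka xa15 ya9 za55) (ka xa14 ya45 za34) (ka xa15 ya9 za43) (ka xa15 ya9 za42) (ka xa8 ya4 za44) (ka xa25 ya1 za43) (ka xa15 ya9 za60) (ka xa15 ya9 za61) (ka xa10 ya31 za28) (ka xa15 ya10 za1) (ka xa13 ya50 za46) (ka xa13 ya50 za47) (ka xa13 ya50 za48) (ka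 xa15 ya10 za4) (ka xa15 ya10 za5) (ka xa15 ya10 za6) (ka xa15 ya10 za9) (ka xa15 ya10 za10) (ka xa15 ya10 za11) (ka xa15 ya13 za15) (ka xa15 ya10 za12) (ka xa15 ya10 za13)) (@D3.rec (fun _ => Pt) (ka xa15 ya10 za15) (ka xa15 ya10 za22) (ka xa8 ya4 za56) (ka xa15 ya10 za24) (ka xa23 ya17 za14) (ka xa15 ya10 za19) (ka xa15 ya10 za20) (ka xa15 ya10 za21) (ka xa15 ya10 za28) (ka xa15 ya10 za29) (ka xa15 ya10 za30) (ka xa15 ya10 za31) (ka xa11 ya32 za39) (ka xa8 ya5 za1) (ka xa8 ya12 za21) (ka xa15 ya12 za59) (ka xa15 ya50 za6) (ka xa11 ya6 za9) (ka xa25 ya2 za12) (ka xa24 ya55 za57) (ka xa8 ya5 za6) (ka xa8 ya5 za7) (ka xa12 ya9 za40) (ka xa18 ya19 za2) (ka xa25 ya2 za19) (ka xa25 ya2 za22) (ka xa12 ya8 za35) (ka xa8 ya5 za10) (ka xa8 ya5 za11) (ka xa8 ya5 za12) (ka xa15 ya7 za58) (ka xa15 ya7 za56) (ka xa25 ya2 za29) (ka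 xa13 ya59 za16) (ka xa23 ya43 za11) (ka xa25 ya2 za31) (ka xa14 ya0 za8) (ka xa16 ya10 za47) (ka xa14 ya0 za13) (ka xa18 ya23 za50) (ka xa25 ya2 za32) (ka xa16 ya10 za48) (ka xa8 ya10 za27) (ka xa17 ya2 za40) (ka xa17 ya2 za37) (ka xa15 ya10 za39) (ka xa15 ya10 za40) (ka xa15 ya10 za41) (ka xa17 ya2 za61) (ka xa15 ya10 za44) (ka xa13 ya59 za18) (ka xa15 ya10 za45) (ka xa10 ya9 za15) (ka xa10 ya9 za14) (ka xa8 ya5 za19) (ka xa23 ya42 za50) (ka xa15 ya10 za50) (ka xa15 ya10 za51) (ka xa15 ya10 za52) (ka xa15 ya10 za53) (ka xa25 ya3 za1) (ka xa15 ya10 za55)) (@D3.rec (fun _ => Pt) (ka xa14 ya0 za15) (ka xa20 ya36 za9) (ka xa15 ya10 za57) (ka xa15 ya10 za58) (ka xa15 ya10 za59) (ka xa15 ya10 za60) (ka xa15 ya10 za61) (ka xa12 ya6 za43) (ka xa10 ya22 za15) (ka xa15 ya14 za41) (ka xa15 ya14 za42) (ka xa15 ya14 za43) (ka xa8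 ya5 za36) (ka xa8 ya5 za32) (ka xa18 ya3 za58) (ka xa25 ya3 za15) (ka xa25 ya1 za18) (ka xa8 ya5 za33) (ka xa25 ya2 za61) (ka xa25 ya3 za19) (ka xa25 ya3 za22) (ka xa8 ya5 za35) (ka xa24 ya56 za11) (ka xa15 ya14 za57) (ka xa15 ya14 za58) (ka xa15 ya14 za59) (ka xa10 ya8 za53) (ka xa15 ya14 za60) (ka xa15 ya14 za61) (ka xa15 ya15 za0) (ka xa25 ya3 za38) (ka xa9 ya53 za2) (ka xa10 ya29 za19) (ka xa17 ya44 za48) (ka xa10 ya0 za1) (ka xa8 ya5 za44) (ka xa16 ya8 za8) (ka xa19 ya2 za14) (ka xa9 ya52 za50) (ka xa10 ya29 za24) (ka xa9 ya53 za24) (ka xa15 ya14 za9) (ka xa15 ya14 za10) (ka xa15 ya14 za11) (ka xa8 ya5 za58) (ka xa8 ya5 za54) (ka xa24 ya48 za21) (ka xa25 ya3 za49) (ka xa24 ya46 za55) (ka xa18 ya37 za0) (ka xa18 ya37 za19) (ka xa18 ya37 za28) (ka xa18 ya37 za29) (ka xa8 ya5 za57) (ka xa15 ya23 za54) (ka xa15 ya23 za53)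 (ka xa16 ya8 za7) (ka xa15 ya14 za23) (ka xa15 ya14 za24) (ka xa15 ya14 za25) (ka xa15 ya14 za27) (ka xa15 ya14 za28)) (@D3.rec (fun _ => Pt) (ka xa15 ya14 za29) (ka xa25 ya4 za5) (ka xa8 ya42 za35) (ka xa8 ya42 za36) (ka xa8 ya42 za38) (ka xa10 ya50 za8) (ka xa10 ya50 za7) (ka xa8 ya6 za4) (ka xa25 ya4 za12) (ka xa8 ya56 za0) (ka xa8 ya56 za1) (ka xa10 ya55 za56) (ka xa10 ya55 za55) (ka xa8 ya6 za8) (ka xa25 ya4 za19) (ka xa24 ya34 za57) (ka xa8 ya57 za7) (ka xa8 ya57 za8) (ka xa8 ya57 za9) (ka xa8 ya57 za10) (ka xa8 ya57 za11) (ka xa8 ya57 za12) (ka xa8 ya57 za13) (ka xa8 ya57 za15) (ka xa8 ya57 za17) (ka xa18 ya51 za3) (ka xa18 ya51 za2) (ka xa8 ya6 za14) (ka xa25 ya4 za39) (ka xa25 ya4 za40) (ka xa18 ya50 za61) (ka xa18 ya51 za0) (ka xa18 ya51 za1) (ka xa10 ya40 za30) (ka xa10 ya40 za29) (ka xa24 ya39 za61) (ka xa18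 ya51 za7) (ka xa18 ya51 za8) (ka xa8 ya6 za24) (ka xa8 ya6 za20) (ka xa18 ya2 za53) (ka xa8 ya28 za18) (ka xa19 ya36 za20) (ka xa25 ya5 za7) (ka xa8 ya6 za21) (ka xa25 ya5 za17) (ka xa19 ya49 za12) (ka xa19 ya36 za19) (ka xa25 ya5 za15) (ka xa22 ya54 za18) (ka xa22 ya54 za19) (ka xa22 ya54 za20) (ka xa25 ya5 za5) (ka xa25 ya5 za32) (ka xa18 ya51 za20) (ka xa25 ya5 za38) (ka xa18 ya51 za22) (ka xa25 ya5 za45) (ka xa8 ya20 za1) (ka xa18 ya51 za23) (ka xa18 ya51 za24) (ka xa8 ya19 za59)) (@D3.rec (fun _ => Pt) (ka xa10 ya49 za59) (ka xa10 ya49 za60) (ka xa10 ya49 za61) (ka xa8 ya59 za47) (ka xa8 ya59 za48) (ka xa8 ya59 za49) (ka xa15 ya22 za2) (ka xa16 ya8 za9) (ka xa25 ya6 za1) (ka xa11 ya4 za36) (ka xa15 ya41 za9) (ka xa15 ya41 za12) (ka xa8 ya6 za34) (ka xa15 ya58 za58) (ka xa25 ya6 za9) (ka xa12 ya0 za20) (ka xa11 ya57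 za0) (ka xa11 ya57 za2) (ka xa19 ya37 za58) (ka xa20 ya2 za23) (ka xa15 ya22 za0) (ka xa15 ya29 za22) (ka xa8 ya13 za61) (ka xa10 ya46 za35) (ka xa10 ya46 za34) (ka xa24 ya57 za54) (ka xa24 ya57 za53) (ka xa8 ya6 za42) (ka xa12 ya15 za59) (ka xa25 ya6 za25) (ka xa17 ya36 za23) (ka xa20 ya2 za20) (ka xa11 ya9 za1) (ka xa18 ya21 za37) (ka xa18 ya21 za38) (ka xa9 ya52 za41) (ka xa16 ya2 za23) (ka xa16 ya2 za24) (ka xa16 ya2 za18) (ka xa15 ya26 za1) (ka xa15 ya26 za4) (ka xa17 ya36 za2) (ka xa16 ya16 za1) (ka xa10 ya33 za42) (ka xa15 ya52 za48) (ka xa21 ya0 za25) (ka xa15 ya52 za49) (ka xa16 ya8 za26) (ka xa17 ya36 za0) (ka xa17 ya35 za61) (ka xa8 ya6 za55) (ka xa8 ya19 za53) (ka xa25 ya6 za53) (ka xa8 ya16 za58) (ka xa17 ya36 za4) (ka xa17 ya36 za5) (ka xa11 ya4 za26) (ka xa20 ya57 za2) (ka xa10 ya38 za54) (ka xa11 ya4 za27)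 (ka xa11 ya4 za38) (ka xa11 ya4 za37)) (@D3.rec (fun _ => Pt) (ka xa15 ya52 za47) (ka xa15 ya52 za50) (ka xa15 ya52 za51) (ka xa15 ya52 za43) (ka xa15 ya52 za42) (ka xa24 ya37 za14) (ka xa11 ya4 za39) (ka xa11 ya4 za28) (ka xa8 ya7 za8) (ka xa8 ya7 za4) (ka xa25 ya7 za16) (ka xa22 ya2 za20) (ka xa15 ya59 za36) (ka xa22 ya2 za19) (ka xa8 ya7 za5) (ka xa19 ya35 za41) (ka xa24 ya7 za55) (ka xa21 ya49 za59) (ka xa22 ya52 za41) (ka xa8 ya7 za7) (ka xa21 ya5 za40) (ka xa21 ya46 za0) (ka xa25 ya7 za28) (ka xa25 ya7 za14) (ka xa18 ya8 za0) (ka xa15 ya29 za53) (ka xa25 ya7 za42) (ka xa15 ya21 za58) (ka xa15 ya21 za56) (ka xa15 ya21 za57) (ka xa15 ya17 za31) (ka xa15 ya17 za30) (ka xa25 ya7 za55) (ka xa25 ya7 za58) (ka xa8 ya53 za32) (ka xa8 ya53 za58) (ka xa8 ya53 za57) (ka xa8 ya7 za16) (ka xa25 ya8 za1) (ka xa25 ya8 za2) (ka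 xa8 ya53 za41) (ka xa8 ya53 za43) (ka xa8 ya53 za44) (ka xa8 ya53 za46) (ka xa8 ya53 za47) (ka xa8 ya7 za21) (ka xa25 ya8 za20) (ka xa11 ya4 za61) (ka xa11 ya8 za56) (ka xa11 ya9 za6) (ka xa11 ya9 za7) (ka xa10 ya47 za54) (ka xa16 ya5 za45) (ka xa11 ya9 za3) (ka xa11 ya9 za2) (ka xa8 ya7 za26) (ka xa25 ya8 za36) (ka xa11 ya5 za34) (ka xa11 ya9 za0) (ka xa16 ya8 za14) (ka xa16 ya8 za15) (ka xa20 ya4 za22)) (@D3.rec (fun _ => Pt) (ka xa16 ya8 za11) (ka xa16 ya8 za12) (ka xa8 ya7 za31) (ka xa24 ya35 za39) (ka xa16 ya45 za38) (ka xa20 ya43 za51) (ka xa20 ya43 za44) (ka xa15 ya22 za38) (ka xa23 ya56 za38) (ka xa15 ya22 za41) (ka xa15 ya22 za42) (ka xa17 ya43 za15) (ka xa17 ya43 za16) (ka xa17 ya43 za17) (ka xa24 ya14 za2) (ka xa15 ya53 za17) (ka xa17 ya43 za18) (ka xa25 ya9 za6) (ka xa15 ya53 za19) (ka xa15 ya53 za20) (ka xa16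 ya12 za30) (ka xa14 ya48 za3) (ka xa14 ya48 za4) (ka xa14 ya45 za60) (ka xa13 ya32 za2) (ka xa16 ya9 za59) (ka xa16 ya9 za58) (ka xa8 ya7 za44) (ka xa8 ya7 za52) (ka xa8 ya7 za55) (ka xa15 ya41 za51) (ka xa15 ya41 za52) (ka xa15 ya41 za54) (ka xa15 ya41 za53) (ka xa8 ya7 za49) (ka xa25 ya9 za18) (ka xa19 ya38 za6) (ka xa15 ya3 za0) (ka xa19 ya57 za59) (ka xa18 ya53 za50) (ka xa15 ya35 za13) (ka xa15 ya36 za28) (ka xa15 ya36 za29) (ka xa17 ya43 za9) (ka xa17 ya43 za10) (ka xa16 ya49 za20) (ka xa17 ya43 za6) (ka xa17 ya43 za7) (ka xa19 ya38 za4) (ka xa19 ya38 za5) (ka xa16 ya8 za21) (ka xa16 ya8 za22) (ka xa16 ya8 za23) (ka xa24 ya20 za34) (ka xa11 ya9 za18) (ka xa11 ya9 za19) (ka xa9 ya35 za54) (ka xa25 ya9 za57) (ka xa11 ya9 za21) (ka xa11 ya9 za38) (ka xa11 ya9 za39) (ka xa10 ya37 za33)) (@D3.rec (fun _ => Pt) (ka xa25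 ya10 za1) (ka xa16 ya8 za28) (ka xa16 ya8 za29) (ka xa16 ya14 za52) (ka xa14 ya56 za42) (ka xa8 ya8 za8) (ka xa18 ya3 za28) (ka xa25 ya10 za5) (ka xa8 ya54 za15) (ka xa8 ya54 za36) (ka xa8 ya54 za35) (ka xa8 ya8 za11) (ka xa25 ya10 za11) (ka xa25 ya10 za12) (ka xa8 ya54 za24) (ka xa8 ya54 za25) (ka xa8 ya54 za26) (ka xa8 ya54 za27) (ka xa8 ya54 za28) (ka xa8 ya54 za31) (ka xa8 ya54 za33) (ka xa10 ya58 za50) (ka xa24 ya58 za20) (ka xa21 ya16 za60) (ka xa25 ya10 za27) (ka xa24 ya58 za18) (ka xa8 ya8 za19) (ka xa16 ya45 za49) (ka xa10 ya51 za39) (ka xa16 ya45 za47) (ka xa25 ya10 za30) (ka xa17 ya52 za46) (ka xa25 ya10 za35) (ka xa17 ya52 za48) (ka xa17 ya52 za49) (ka xa19 ya57 za13) (ka xa24 ya58 za14) (ka xa24 ya58 za15) (ka xa24 ya58 za16) (ka xa9 ya42 za15) (ka xa10 ya38 za53) (ka xa24 ya58 za36) (ka xa15 ya53 za55) (ka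 xa16 ya22 za54) (ka xa24 ya58 za17) (ka xa10 ya54 za13) (ka xa25 ya10 za51) (ka xa15 ya53 za57) (ka xa15 ya53 za58) (ka xa18 ya30 za13) (ka xa15 ya54 za1) (ka xa9 ya53 za10) (ka xa25 ya10 za58) (ka xa9 ya53 za9) (ka xa8 ya8 za37) (ka xa8 ya8 za38) (ka xa8 ya8 za39) (ka xa15 ya2 za34) (ka xa15 ya2 za33) (ka xa8 ya8 za34) (ka xa25 ya10 za61) (ka xa25 ya11 za0)) (@D3.rec (fun _ => Pt) (ka xa15 ya2 za46) (ka xa15 ya2 za29) (ka xa15 ya2 za47) (ka xa15 ya2 za48) (ka xa25 ya9 za30) (ka xa24 ya50 za50) (ka xa16 ya47 za13) (ka xa19 ya49 za20) (ka xa19 ya49 za26) (ka xa8 ya8 za43) (ka xa19 ya38 za1) (ka xa15 ya39 za39) (ka xa19 ya37 za61) (ka xa25 ya11 za28) (ka xa24 ya58 za27) (ka xa20 ya4 za1) (ka xa25 ya11 za33) (ka xa24 ya58 za29) (ka xa21 ya2 za3) (ka xa17 ya57 za21) (ka xa24 ya58 za30) (ka xa25 ya11 za40) (ka xa15 ya54 za6)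 (ka xa15 ya54 za7) (ka xa9 ya43 za49) (ka xa10 ya39 za49) (ka xa15 ya37 za47) (ka xa9 ya42 za37) (ka xa24 ya58 za43) (ka xa15 ya54 za9) (ka xa9 ya43 za50) (ka xa25 ya10 za9) (ka xa24 ya58 za31) (ka xa8 ya8 za57) (ka xa18 ya1 za55) (ka xa24 ya39 za50) (ka xa25 ya11 za49) (ka xa20 ya15 za23) (ka xa15 ya53 za59) (ka xa15 ya53 za60) (ka xa15 ya53 za61) (ka xa15 ya54 za0) (ka xa24 ya58 za38) (ka xa15 ya53 za48) (ka xa19 ya20 za10) (ka xa15 ya53 za45) (ka xa15 ya53 za46) (ka xa15 ya53 za32) (ka xa15 ya53 za31) (ka xa24 ya22 za27) (ka xa24 ya36 za41) (ka xa20 ya43 za43) (ka xa15 ya54 za10) (ka xa15 ya54 za11) (ka xa15 ya54 za12) (ka xa15 ya54 za13) (ka xa8 ya9 za21) (ka xa25 ya11 za48) (ka xa8 ya9 za8) (ka xa8 ya9 za10) (ka xa15 ya53 za47) (ka xa8 ya9 za7)) (@D3.rec (fun _ => Pt) (ka xa20 ya3 za12) (ka xa25 ya12 za13) (ka xa19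 ya17 za20) (ka xa10 ya56 za14) (ka xa22 ya54 za48) (ka xa19 ya19 za32) (ka xa25 ya12 za11) (ka xa25 ya12 za12) (ka xa8 ya9 za13) (ka xa20 ya2 za47) (ka xa19 ya38 za25) (ka xa15 ya53 za54) (ka xa19 ya38 za26) (ka xa25 ya10 za50) (ka xa8 ya9 za15) (ka xa10 ya59 za5) (ka xa8 ya9 za12) (ka xa16 ya36 za51) (ka xa25 ya12 za32) (ka xa25 ya12 za33) (ka xa10 ya56 za6) (ka xa25 ya12 za24) (ka xa24 ya15 za4) (ka xa20 ya2 za45) (ka xa20 ya2 za46) (ka xa15 ya54 za8) (ka xa24 ya9 za11) (ka xa24 ya16 za18) (ka xa8 ya9 za19) (ka xa8 ya9 za20) (ka xa19 ya49 za40) (ka xa15 ya9 za34) (ka xa15 ya9 za35) (ka xa25 ya12 za60) (ka xa15 ya9 za31) (ka xa15 ya9 za32) (ka xa15 ya8 za56) (ka xa18 ya16 za5) (ka xa25 ya12 za48) (ka xa25 ya12 za49) (ka xa25 ya12 za50) (ka xa25 ya12 za51) (ka xa25 ya7 za34) (ka xa25 ya7 za33) (ka xa25 ya12 za9) (ka xa25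 ya13 za15) (ka xa15 ya21 za51) (ka xa15 ya21 za52) (ka xa15 ya21 za54) (ka xa15 ya21 za55) (ka xa21 ya58 za2) (ka xa15 ya21 za46) (ka xa15 ya21 za47) (ka xa25 ya11 za60) (ka xa15 ya21 za48) (ka xa15 ya21 za49) (ka xa15 ya17 za28) (ka xa15 ya17 za29) (ka xa15 ya17 za27) (ka xa17 ya29 za12) (ka xa15 ya38 za22) (ka xa15 ya54 za55)) (@D3.rec (fun _ => Pt) (ka xa15 ya16 za20) (ka xa24 ya58 za45) (ka xa15 ya16 za6) (ka xa15 ya3 za8) (ka xa19 ya31 za12) (ka xa20 ya58 za54) (ka xa15 ya38 za25) (ka xa15 ya54 za57) (ka xa15 ya54 za58) (ka xa24 ya58 za46) (ka xa11 ya8 za40) (ka xa11 ya8 za39) (ka xa8 ya9 za35) (ka xa25 ya13 za52) (ka xa11 ya8 za52) (ka xa11 ya8 za53) (ka xa11 ya8 za54) (ka xa11 ya8 za55) (ka xa9 ya35 za23) (ka xa18 ya52 za31) (ka xa18 ya52 za30) (ka xa8 ya28 za25) (ka xa8 ya28 za20) (ka xa8 ya9 za41) (ka xa25 ya14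 za5) (ka xa11 ya8 za44) (ka xa11 ya8 za45) (ka xa11 ya8 za46) (ka xa25 ya7 za61) (ka xa11 ya9 za12) (ka xa25 ya14 za19) (ka xa11 ya9 za10) (ka xa9 ya48 za25) (ka xa9 ya50 za42) (ka xa11 ya42 za59) (ka xa15 ya53 za21) (ka xa15 ya53 za22) (ka xa24 ya12 za25) (ka xa15 ya18 za7) (ka xa19 ya13 za31) (ka xa25 ya14 za29) (ka xa15 ya18 za9) (ka xa15 ya18 za10) (ka xa15 ya53 za26) (ka xa16 ya11 za7) (ka xa15 ya29 za59) (ka xa16 ya11 za52) (ka xa16 ya11 za53) (ka xa16 ya11 za54) (ka xa11 ya2 za46) (ka xa11 ya2 za45) (ka xa8 ya10 za1) (ka xa14 ya51 za13) (ka xa9 ya0 za54) (ka xa9 ya0 za55) (ka xa9 ya0 za56) (ka xa15 ya51 za26) (ka xa25 ya9 za14) (ka xa15 ya53 za14) (ka xa15 ya53 za15) (ka xa25 ya14 za54) (ka xa15 ya53 za11)) (@D3.rec (fun _ => Pt) (ka xa15 ya53 za12) (ka xa8 ya10 za8) (ka xa25 ya15 za0) (ka xa25 ya15 za1) (ka xa25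 ya15 za2) (ka xa14 ya51 za9) (ka xa11 ya9 za23) (ka xa11 ya9 za24) (ka xa11 ya9 za25) (ka xa9 ya41 za52) (ka xa19 ya15 za59) (ka xa19 ya15 za60) (ka xa25 ya15 za22) (ka xa11 ya9 za29) (ka xa11 ya9 za30) (ka xa9 ya35 za19) (ka xa25 ya15 za28) (ka xa11 ya9 za32) (ka xa19 ya16 za32) (ka xa11 ya9 za33) (ka xa11 ya9 za34) (ka xa10 ya50 za28) (ka xa11 ya9 za36) (ka xa12 ya50 za10) (ka xa11 ya9 za41) (ka xa11 ya9 za42) (ka xa16 ya14 za56) (ka xa16 ya14 za55) (ka xa8 ya10 za21) (ka xa25 ya15 za46) (ka xa11 ya9 za47) (ka xa11 ya23 za9) (ka xa25 ya2 za48) (ka xa25 ya2 za47) (ka xa17 ya44 za15) (ka xa16 ya14 za60) (ka xa16 ya20 za47) (ka xa16 ya20 za48) (ka xa20 ya32 za23) (ka xa20 ya32 za24) (ka xa18 ya18 za54) (ka xa18 ya18 za55) (ka xa8 ya10 za37) (ka xa8 ya10 za38) (ka xa11 ya34 za46) (ka xa11 ya34 za47) (ka xa20 ya30 za1) (ka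 xa20 ya33 za6) (ka xa22 ya52 za20) (ka xa11 ya34 za40) (ka xa21 ya2 za41) (ka xa21 ya2 za40) (ka xa11 ya34 za41) (ka xa15 ya14 za55) (ka xa15 ya14 za54) (ka xa25 ya16 za22) (ka xa15 ya50 za34) (ka xa21 ya13 za34) (ka xa15 ya50 za36) (ka xa15 ya50 za37) (ka xa15 ya50 za39) (ka xa25 ya16 za34)) (@D3.rec (fun _ => Pt) (ka xa8 ya39 za60) (ka xa8 ya39 za61) (ka xa21 ya31 za15) (ka xa8 ya18 za60) (ka xa8 ya18 za61) (ka xa15 ya47 za37) (ka xa15 ya47 za36) (ka xa8 ya10 za48) (ka xa24 ya52 za43) (ka xa8 ya39 za54) (ka xa8 ya18 za0) (ka xa15 ya24 za16) (ka xa16 ya1 za42) (ka xa16 ya8 za40) (ka xa8 ya10 za50) (ka xa21 ya59 za48) (ka xa15 ya24 za11) (ka xa22 ya5 za19) (ka xa8 ya11 za20) (ka xa8 ya11 za21) (ka xa12 ya55 za55) (ka xa8 ya11 za27) (ka xa8 ya11 za28) (ka xa8 ya11 za30) (ka xa8 ya11 za31) (ka xa8 ya11 za43) (ka xa17 ya12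 za47) (ka xa8 ya11 za48) (ka xa8 ya11 za50) (ka xa9 ya0 za59) (ka xa16 ya42 za26) (ka xa15 ya27 za48) (ka xa15 ya27 za49) (ka xa15 ya27 za50) (ka xa15 ya27 za51) (ka xa20 ya0 za12) (ka xa17 ya39 za42) (ka xa15 ya48 za42) (ka xa17 ya39 za43) (ka xa9 ya32 za21) (ka xa9 ya56 za57) (ka xa9 ya56 za56) (ka xa9 ya56 za54) (ka xa9 ya56 za55) (ka xa9 ya1 za16) (ka xa25 ya16 za61) (ka xa15 ya25 za17) (ka xa18 ya17 za39) (ka xa22 ya4 za57) (ka xa15 ya25 za16) (ka xa25 ya16 za46) (ka xa8 ya11 za11) (ka xa23 ya40 za40) (ka xa16 ya13 za30) (ka xa18 ya17 za49) (ka xa18 ya17 za50) (ka xa21 ya2 za10) (ka xa11 ya5 za58) (ka xa20 ya47 za9) (ka xa10 ya20 za25) (ka xa10 ya20 za26) (ka xa10 ya20 za28)) (@D3.rec (fun _ => Pt) (ka xa22 ya5 za20) (ka xa22 ya5 za21) (ka xa12 ya37 za60) (ka xa19 ya10 za59) (ka xa25 ya16 za48) (ka xa19 ya10 za58)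 (ka xa16 ya11 za5) (ka xa15 ya30 za5) (ka xa16 ya11 za6) (ka xa25 ya17 za24) (ka xa16 ya13 za31) (ka xa20 ya57 za45) (ka xa20 ya57 za44) (ka xa8 ya11 za26) (ka xa25 ya17 za27) (ka xa25 ya17 za28) (ka xa15 ya24 za49) (ka xa15 ya24 za46) (ka xa19 ya59 za15) (ka xa20 ya16 za11) (ka xa20 ya16 za15) (ka xa19 ya59 za16) (ka xa25 ya16 za49) (ka xa15 ya30 za8) (ka xa15 ya30 za9) (ka xa19 ya7 za40) (ka xa16 ya7 za31) (ka xa15 ya51 za11) (ka xa9 ya31 za43) (ka xa8 ya11 za33) (ka xa22 ya5 za9) (ka xa23 ya3 za55) (ka xa24 ya49 za60) (ka xa18 ya2 za25) (ka xa24 ya49 za61) (ka xa24 ya50 za0) (ka xa18 ya11 za46) (ka xa22 ya5 za47) (ka xa8 ya11 za39) (ka xa24 ya34 za48) (ka xa11 ya6 za8) (ka xa19 ya7 za41) (ka xa19 ya7 za42) (ka xa17 ya33 za51) (ka xa19 ya7 za37) (ka xa8 ya11 za42) (ka xa20 ya53 za47) (ka xa16 ya24 za5) (ka xa11 ya51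 za19) (ka xa21 ya18 za40) (ka xa18 ya39 za48) (ka xa16 ya36 za12) (ka xa20 ya52 za19) (ka xa25 ya16 za51) (ka xa18 ya57 za1) (ka xa16 ya36 za8) (ka xa9 ya43 za21) (ka xa15 ya47 za35) (ka xa9 ya43 za27) (ka xa9 ya38 za54) (ka xa9 ya43 za23) (ka xa9 ya43 za24)) (@D3.rec (fun _ => Pt) (ka xa15 ya51 za8) (ka xa15 ya16 za39) (ka xa15 ya52 za52) (ka xa15 ya28 za26) (ka xa15 ya16 za40) (ka xa15 ya28 za42) (ka xa15 ya28 za43) (ka xa25 ya18 za5) (ka xa15 ya30 za39) (ka xa11 ya50 za22) (ka xa11 ya13 za48) (ka xa16 ya48 za55) (ka xa10 ya18 za48) (ka xa10 ya5 za45) (ka xa11 ya57 za49) (ka xa18 ya23 za7) (ka xa11 ya58 za0) (ka xa8 ya12 za50) (ka xa10 ya4 za44) (ka xa17 ya2 za56) (ka xa12 ya9 za29) (ka xa12 ya9 za39) (ka xa20 ya32 za25) (ka xa25 ya2 za13) (ka xa8 ya12 za29) (ka xa11 ya6 za46) (ka xa17 ya25 za33) (ka xa14 ya20 za9) (ka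 xa8 ya12 za31) (ka xa9 ya47 za30) (ka xa18 ya43 za18) (ka xa11 ya7 za29) (ka xa9 ya50 za43) (ka xa20 ya32 za26) (ka xa25 ya18 za16) (ka xa12 ya10 za4) (ka xa11 ya33 za7) (ka xa25 ya18 za27) (ka xa20 ya33 za39) (ka xa14 ya20 za7) (ka xa11 ya32 za9) (ka xa11 ya32 za8) (ka xa8 ya12 za41) (ka xa8 ya12 za44) (ka xa8 ya12 za47) (ka xa17 ya10 za59) (ka xa20 ya33 za15) (ka xa17 ya57 za54) (ka xa24 ya6 za14) (ka xa20 ya33 za14) (ka xa20 ya33 za36) (ka xa15 ya30 za45) (ka xa12 ya5 za33) (ka xa18 ya57 za25) (ka xa11 ya35 za51) (ka xa11 ya35 za52) (ka xa15 ya30 za29) (ka xa17 ya12 za7) (ka xa20 ya33 za13) (ka xa18 ya23 za18) (ka xa25 ya16 za14) (ka xa25 ya18 za33)) (@D3.rec (fun _ => Pt) (ka xa11 ya35 za41) (ka xa21 ya39 za53) (ka xa21 ya39 za61) (ka xa14 ya23 za12) (ka xa11 ya35 za42) (ka xa18 ya25 za15) (ka xa21 ya37 za28) (ka xa21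 ya37 za22) (ka xa18 ya25 za58) (ka xa25 ya18 za53) (ka xa15 ya30 za27) (ka xa18 ya24 za38) (ka xa15 ya30 za46) (ka xa15 ya30 za48) (ka xa25 ya18 za56) (ka xa14 ya57 za23) (ka xa14 ya57 za24) (ka xa8 ya59 za27) (ka xa8 ya12 za59) (ka xa19 ya32 za16) (ka xa14 ya57 za4) (ka xa15 ya27 za25) (ka xa12 ya59 za47) (ka xa8 ya12 za61) (ka xa25 ya19 za1) (ka xa15 ya27 za21) (ka xa25 ya19 za6) (ka xa8 ya13 za23) (ka xa25 ya19 za10) (ka xa8 ya13 za34) (ka xa25 ya19 za14) (ka xa8 ya13 za39) (ka xa8 ya13 za40) (ka xa8 ya13 za42) (ka xa8 ya13 za43) (ka xa25 ya19 za20) (ka xa25 ya19 za23) (ka xa8 ya13 za6) (ka xa25 ya19 za27) (ka xa12 ya56 za0) (ka xa8 ya14 za1) (ka xa8 ya14 za3) (ka xa24 ya1 za22) (ka xa17 ya35 za39) (ka xa17 ya35 za41) (ka xa8 ya38 za35) (ka xa10 ya7 za57) (ka xa11 ya54 za7) (ka xa15 ya24 za31) (ka xa15 ya24 za32) (ka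 xa15 ya24 za33) (ka xa15 ya24 za34) (ka xa17 ya34 za31) (ka xa10 ya11 za14) (ka xa10 ya11 za12) (ka xa15 ya29 za1) (ka xa25 ya19 za45) (ka xa15 ya28 za36) (ka xa15 ya2 za7) (ka xa25 ya19 za48) (ka xa15 ya28 za35) (ka xa15 ya1 za59)) (@D3.rec (fun _ => Pt) (ka xa25 ya19 za9) (ka xa25 ya19 za8) (ka xa8 ya13 za22) (ka xa24 ya50 za43) (ka xa24 ya1 za21) (ka xa16 ya12 za57) (ka xa25 ya19 za7) (ka xa17 ya51 za36) (ka xa17 ya51 za37) (ka xa17 ya51 za39) (ka xa17 ya51 za40) (ka xa11 ya57 za8) (ka xa17 ya51 za34) (ka xa25 ya20 za13) (ka xa10 ya24 za12) (ka xa25 ya20 za15) (ka xa16 ya37 za31) (ka xa25 ya19 za5) (ka xa25 ya19 za4) (ka xa8 ya13 za33) (ka xa12 ya57 za43) (ka xa25 ya20 za21) (ka xa25 ya19 za11) (ka xa19 ya29 za19) (ka xa19 ya58 za23) (ka xa17 ya35 za44) (ka xa15 ya26 za3) (ka xa16 ya19 za60) (ka xa25 ya20 za40) (ka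 xa16 ya12 za58) (ka xa17 ya50 za1) (ka xa17 ya50 za0) (ka xa8 ya13 za38) (ka xa16 ya12 za52) (ka xa25 ya20 za47) (ka xa15 ya27 za60) (ka xa15 ya27 za57) (ka xa25 ya19 za16) (ka xa25 ya19 za17) (ka xa19 ya25 za41) (ka xa25 ya19 za18) (ka xa25 ya19 za19) (ka xa15 ya26 za5) (ka xa15 ya26 za6) (ka xa20 ya56 za41) (ka xa10 ya24 za19) (ka xa10 ya24 za20) (ka xa10 ya24 za21) (ka xa25 ya19 za13) (ka xa25 ya19 za12) (ka xa8 ya13 za45) (ka xa8 ya14 za34) (ka xa25 ya21 za11) (ka xa17 ya50 za3) (ka xa17 ya49 za57) (ka xa17 ya49 za58) (ka xa17 ya49 za60) (ka xa17 ya49 za61) (ka xa11 ya8 za12) (ka xa19 ya11 za16) (ka xa19 ya11 za15) (ka xa8 ya13 za50)) (@D3.rec (fun _ => Pt) (ka xa25 ya21 za30) (ka xa15 ya27 za55) (ka xa19 ya14 za23) (ka xa20 ya56 za42) (ka xa20 ya56 za43) (ka xa19 ya11 za18) (ka xa19 ya11 za12) (ka xa19 ya11 za13)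 (ka xa8 ya13 za59) (ka xa15 ya56 za32) (ka xa19 ya26 za59) (ka xa19 ya26 za60) (ka xa8 ya13 za56) (ka xa25 ya21 za59) (ka xa25 ya19 za24) (ka xa8 ya13 za58) (ka xa22 ya7 za37) (ka xa22 ya7 za38) (ka xa18 ya52 za23) (ka xa25 ya22 za0) (ka xa25 ya21 za50) (ka xa25 ya21 za51) (ka xa15 ya16 za21) (ka xa20 ya55 za49) (ka xa25 ya6 za20) (ka xa25 ya22 za25) (ka xa11 ya54 za22) (ka xa25 ya19 za32) (ka xa25 ya19 za33) (ka xa25 ya19 za34) (ka xa11 ya54 za18) (ka xa15 ya3 za7) (ka xa25 ya19 za35) (ka xa15 ya3 za13) (ka xa11 ya6 za4) (ka xa9 ya36 za52) (ka xa15 ya3 za11) (ka xa11 ya6 za3) (ka xa11 ya57 za14) (ka xa11 ya57 za13) (ka xa22 ya4 za33) (ka xa15 ya10 za33) (ka xa10 ya1 za14) (ka xa16 ya9 za47) (ka xa16 ya9 za48) (ka xa25 ya22 za52) (ka xa25 ya22 za55) (ka xa11 ya56 za49) (ka xa11 ya56 za52) (ka xa11 ya56 za51) (ka xa8 ya14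 za13) (ka xa9 ya54 za29) (ka xa20 ya3 za9) (ka xa15 ya17 za25) (ka xa17 ya35 za57) (ka xa11 ya57 za7) (ka xa17 ya31 za47) (ka xa11 ya57 za4) (ka xa11 ya57 za5) (ka xa15 ya22 za45) (ka xa16 ya9 za52) (ka xa16 ya9 za53)) (@D3.rec (fun _ => Pt) (ka xa16 ya9 za54) (ka xa14 ya50 za61) (ka xa10 ya24 za15) (ka xa16 ya9 za55) (ka xa16 ya9 za56) (ka xa15 ya25 za7) (ka xa16 ya9 za57) (ka xa15 ya49 za1) (ka xa15 ya25 za23) (ka xa15 ya25 za24) (ka xa8 ya14 za40) (ka xa20 ya58 za1) (ka xa8 ya14 za30) (ka xa8 ya14 za31) (ka xa10 ya44 za14) (ka xa20 ya58 za2) (ka xa17 ya32 za41) (ka xa21 ya1 za0) (ka xa25 ya23 za28) (ka xa10 ya44 za22) (ka xa11 ya7 za38) (ka xa9 ya6 za41) (ka xa10 ya44 za46) (ka xa8 ya14 za33) (ka xa16 ya12 za53) (ka xa8 ya14 za38) (ka xa21 ya1 za32) (ka xa15 ya27 za10) (ka xa21 ya34 za61) (ka xa15 ya26 za56) (ka xa9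 ya22 za35) (ka xa22 ya16 za21) (ka xa21 ya36 za32) (ka xa10 ya54 za42) (ka xa10 ya54 za41) (ka xa11 ya28 za46) (ka xa20 ya42 za56) (ka xa20 ya19 za51) (ka xa11 ya31 za30) (ka xa15 ya26 za8) (ka xa15 ya4 za42) (ka xa8 ya25 za54) (ka xa10 ya6 za38) (ka xa10 ya6 za43) (ka xa10 ya6 za44) (ka xa15 ya26 za51) (ka xa15 ya27 za12) (ka xa10 ya6 za10) (ka xa15 ya27 za13) (ka xa25 ya23 za53) (ka xa9 ya52 za23) (ka xa9 ya52 za24) (ka xa9 ya52 za26) (ka xa25 ya23 za54) (ka xa10 ya54 za11) (ka xa15 ya32 za11) (ka xa10 ya54 za10) (ka xa9 ya39 za24) (ka xa9 ya53 za20) (ka xa9 ya53 za22) (ka xa14 ya13 za38) (ka xa9 ya58 za35)) (@D3.rec (fun _ => Pt) (ka xa18 ya54 za18) (ka xa18 ya54 za17) (ka xa8 ya15 za8) (ka xa20 ya11 za56) (ka xa15 ya32 za17) (ka xa9 ya54 za46) (ka xa15 ya32 za21) (ka xa15 ya32 za20) (ka xa8 ya15 za11) (ka xa22 ya54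 za40) (ka xa23 ya11 za20) (ka xa11 ya54 za38) (ka xa11 ya54 za39) (ka xa11 ya54 za40) (ka xa11 ya54 za41) (ka xa11 ya54 za42) (ka xa11 ya54 za43) (ka xa11 ya54 za44) (ka xa11 ya2 za26) (ka xa15 ya32 za28) (ka xa15 ya32 za27) (ka xa8 ya15 za17) (ka xa25 ya24 za25) (ka xa25 ya24 za26) (ka xa11 ya55 za25) (ka xa11 ya55 za27) (ka xa11 ya55 za28) (ka xa11 ya55 za29) (ka xa11 ya55 za34) (ka xa15 ya32 za47) (ka xa15 ya32 za46) (ka xa8 ya15 za22) (ka xa25 ya24 za37) (ka xa15 ya32 za39) (ka xa15 ya32 za38) (ka xa8 ya15 za25) (ka xa25 ya24 za43) (ka xa20 ya50 za15) (ka xa12 ya56 za61) (ka xa15 ya32 za52) (ka xa8 ya15 za32) (ka xa8 ya15 za28) (ka xa16 ya10 za5) (ka xa15 ya52 za55) (ka xa25 ya24 za47) (ka xa8 ya15 za29) (ka xa23 ya9 za21) (ka xa24 ya38 za9) (ka xa23 ya8 za0) (ka xa14 ya31 za50) (ka xa25 ya24 za45) (ka xa25 ya24 za57)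 (ka xa15 ya33 za5) (ka xa25 ya25 za0) (ka xa15 ya33 za7) (ka xa25 ya25 za8) (ka xa15 ya33 za9) (ka xa15 ya33 za10) (ka xa15 ya33 za11) (ka xa15 ya33 za12) (ka xa15 ya33 za13) (ka xa15 ya33 za14)) (@D3.rec (fun _ => Pt) (ka xa21 ya55 za15) (ka xa10 ya15 za37) (ka xa10 ya33 za44) (ka xa15 ya41 za60) (ka xa15 ya41 za61) (ka xa25 ya17 za23) (ka xa25 ya17 za22) (ka xa8 ya15 za44) (ka xa25 ya25 za25) (ka xa16 ya13 za29) (ka xa20 ya0 za10) (ka xa15 ya30 za55) (ka xa19 ya1 za55) (ka xa10 ya27 za16) (ka xa8 ya15 za52) (ka xa25 ya25 za36) (ka xa25 ya25 za34) (ka xa15 ya31 za4) (ka xa10 ya25 za14) (ka xa10 ya9 za29) (ka xa15 ya31 za7) (ka xa15 ya31 za6) (ka xa8 ya15 za56) (ka xa25 ya25 za45) (ka xa22 ya11 za34) (ka xa8 ya19 za49) (ka xa10 ya43 za40) (ka xa15 ya31 za20) (ka xa15 ya31 za19) (ka xa8 ya15 za61) (ka xa25 ya25 za51) (ka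 xa10 ya44 za38) (ka xa10 ya44 za39) (ka xa10 ya44 za40) (ka xa10 ya44 za42) (ka xa10 ya44 za43) (ka xa10 ya44 za44) (ka xa10 ya44 za45) (ka xa15 ya31 za34) (ka xa15 ya31 za33) (ka xa8 ya16 za5) (ka xa25 ya25 za60) (ka xa25 ya25 za61) (ka xa13 ya44 za42) (ka xa8 ya31 za5) (ka xa8 ya31 za4) (ka xa15 ya31 za30) (ka xa15 ya31 za29) (ka xa8 ya16 za8) (ka xa22 ya7 za31) (ka xa25 ya26 za6) (ka xa14 ya18 za9) (ka xa15 ya31 za39) (ka xa8 ya16 za15) (ka xa8 ya16 za11) (ka xa25 ya26 za14) (ka xa9 ya31 za58) (ka xa25 ya26 za11) (ka xa25 ya26 za12) (ka xa8 ya16 za12) (ka xa25 ya26 za19) (ka xa24 ya13 za44)) (@D3.rec (fun _ => Pt) (ka xa15 ya37 za6) (ka xa24 ya12 za42) (ka xa24 ya13 za45) (ka xa25 ya26 za10) (ka xa25 ya26 za36) (ka xa15 ya31 za52) (ka xa22 ya6 za47) (ka xa15 ya31 za54) (ka xa25 ya26 za43) (ka xa15 ya31 za56) (ka xa15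 ya31 za57) (ka xa15 ya31 za58) (ka xa15 ya31 za59) (ka xa15 ya31 za60) (ka xa15 ya31 za61) (ka xa21 ya25 za43) (ka xa8 ya39 za55) (ka xa8 ya39 za56) (ka xa8 ya39 za58) (ka xa25 ya26 za53) (ka xa8 ya17 za13) (ka xa8 ya17 za15) (ka xa8 ya17 za16) (ka xa22 ya2 za9) (ka xa8 ya18 za15) (ka xa8 ya18 za14) (ka xa8 ya16 za27) (ka xa25 ya26 za60) (ka xa12 ya21 za1) (ka xa8 ya17 za39) (ka xa8 ya17 za40) (ka xa8 ya17 za41) (ka xa8 ya17 za42) (ka xa8 ya17 za43) (ka xa8 ya17 za46) (ka xa8 ya17 za47) (ka xa8 ya17 za33) (ka xa8 ya17 za32) (ka xa8 ya16 za32) (ka xa25 ya27 za14) (ka xa25 ya27 za15) (ka xa8 ya18 za19) (ka xa8 ya18 za22) (ka xa8 ya18 za23) (ka xa8 ya18 za24) (ka xa8 ya40 za0) (ka xa8 ya19 za5) (ka xa8 ya19 za4) (ka xa8 ya16 za38) (ka xa25 ya27 za28) (ka xa21 ya17 za4) (ka xa8 ya18 za47) (ka xa8 ya18 za48) (ka xa8 ya18 za49)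 (ka xa8 ya18 za50) (ka xa8 ya18 za51) (ka xa8 ya18 za55) (ka xa8 ya18 za56) (ka xa8 ya18 za41) (ka xa8 ya18 za40) (ka xa8 ya16 za43) (ka xa25 ya27 za39)) (@D3.rec (fun _ => Pt) (ka xa25 ya27 za40) (ka xa8 ya19 za9) (ka xa8 ya19 za10) (ka xa8 ya19 za11) (ka xa8 ya19 za12) (ka xa8 ya19 za13) (ka xa8 ya19 za14) (ka xa8 ya19 za15) (ka xa8 ya19 za33) (ka xa8 ya19 za32) (ka xa8 ya16 za48) (ka xa25 ya27 za55) (ka xa21 ya58 za8) (ka xa8 ya19 za29) (ka xa8 ya19 za30) (ka xa8 ya19 za31) (ka xa8 ya19 za21) (ka xa8 ya19 za20) (ka xa8 ya16 za51) (ka xa22 ya55 za7) (ka xa8 ya19 za38) (ka xa8 ya19 za39) (ka xa8 ya16 za54) (ka xa25 ya28 za14) (ka xa25 ya7 za2) (ka xa25 ya28 za11) (ka xa25 ya28 za12) (ka xa8 ya16 za55) (ka xa17 ya52 za0) (ka xa25 ya7 za1) (ka xa16 ya27 za7) (ka xa22 ya9 za40) (ka xa8 ya16 za57) (ka xa25 ya5 za44) (ka xa25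 ya5 za43) (ka xa25 ya28 za27) (ka xa25 ya28 za28) (ka xa25 ya28 za39) (ka xa8 ya19 za55) (ka xa24 ya7 za51) (ka xa8 ya19 za57) (ka xa8 ya19 za61) (ka xa8 ya20 za0) (ka xa25 ya28 za47) (ka xa17 ya38 za29) (ka xa17 ya38 za28) (ka xa8 ya17 za2) (ka xa25 ya28 za51) (ka xa21 ya25 za45) (ka xa9 ya36 za16) (ka xa8 ya36 za40) (ka xa17 ya37 za20) (ka xa15 ya49 za9) (ka xa16 ya3 za36) (ka xa9 ya0 za35) (ka xa11 ya2 za56) (ka xa11 ya2 za57) (ka xa11 ya2 za58) (ka xa24 ya50 za2) (ka xa24 ya50 za1) (ka xa8 ya17 za12) (ka xa24 ya11 za39)) (@D3.rec (fun _ => Pt) (ka xa25 ya26 za54) (ka xa19 ya31 za5) (ka xa9 ya41 za3) (ka xa8 ya26 za39) (ka xa25 ya26 za55) (ka xa25 ya26 za57) (ka xa25 ya26 za56) (ka xa8 ya17 za17) (ka xa20 ya29 za43) (ka xa25 ya7 za44) (ka xa16 ya3 za42) (ka xa16 ya3 za43) (ka xa15 ya59 za31) (ka xa15 ya18 za40) (ka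 xa16 ya3 za45) (ka xa16 ya3 za46) (ka xa16 ya3 za40) (ka xa15 ya40 za17) (ka xa19 ya35 za43) (ka xa19 ya35 za42) (ka xa8 ya17 za26) (ka xa25 ya29 za26) (ka xa12 ya50 za46) (ka xa19 ya35 za47) (ka xa19 ya35 za46) (ka xa8 ya17 za29) (ka xa25 ya29 za31) (ka xa25 ya29 za32) (ka xa16 ya19 za4) (ka xa17 ya37 za46) (ka xa15 ya38 za0) (ka xa25 ya27 za13) (ka xa25 ya29 za49) (ka xa25 ya27 za10) (ka xa15 ya37 za61) (ka xa25 ya27 za11) (ka xa8 ya17 za35) (ka xa8 ya17 za36) (ka xa20 ya29 za19) (ka xa25 ya27 za16) (ka xa25 ya29 za58) (ka xa25 ya29 za59) (ka xa25 ya29 za60) (ka xa18 ya8 za1) (ka xa25 ya29 za61) (ka xa25 ya30 za0) (ka xa22 ya52 za42) (ka xa19 ya35 za40) (ka xa25 ya30 za15) (ka xa18 ya52 za19) (ka xa19 ya37 za55) (ka xa19 ya37 za59) (ka xa25 ya27 za2) (ka xa25 ya27 za3) (ka xa21 ya5 za47) (ka xa25 ya27 za5) (ka xa25 ya30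 za27) (ka xa25 ya27 za6) (ka xa25 ya7 za30) (ka xa16 ya0 za31) (ka xa16 ya0 za34) (ka xa25 ya27 za7)) (@D3.rec (fun _ => Pt) (ka xa25 ya27 za8) (ka xa16 ya3 za57) (ka xa17 ya27 za40) (ka xa16 ya3 za58) (ka xa10 ya15 za21) (ka xa10 ya15 za22) (ka xa25 ya27 za9) (ka xa17 ya36 za22) (ka xa10 ya21 za19) (ka xa10 ya21 za20) (ka xa10 ya21 za15) (ka xa10 ya21 za16) (ka xa24 ya38 za50) (ka xa10 ya21 za17) (ka xa10 ya21 za18) (ka xa24 ya40 za32) (ka xa10 ya20 za12) (ka xa10 ya20 za49) (ka xa10 ya20 za51) (ka xa10 ya20 za50) (ka xa8 ya17 za52) (ka xa10 ya21 za14) (ka xa21 ya23 za15) (ka xa8 ya18 za1) (ka xa8 ya18 za4) (ka xa16 ya42 za24) (ka xa10 ya47 za43) (ka xa15 ya51 za27) (ka xa15 ya18 za41) (ka xa15 ya18 za42) (ka xa17 ya50 za59) (ka xa17 ya50 za58) (ka xa8 ya17 za61) (ka xa18 ya12 za31) (ka xa21 ya32 za54) (ka xa25 ya16 za45)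 (ka xa8 ya37 za31) (ka xa25 ya31 za0) (ka xa15 ya49 za25) (ka xa11 ya53 za14) (ka xa10 ya37 za47) (ka xa25 ya31 za15) (ka xa9 ya41 za50) (ka xa19 ya15 za9) (ka xa10 ya52 za24) (ka xa8 ya18 za7) (ka xa25 ya15 za11) (ka xa24 ya50 za5) (ka xa10 ya51 za46) (ka xa18 ya52 za22) (ka xa16 ya8 za56) (ka xa16 ya8 za57) (ka xa8 ya30 za22) (ka xa10 ya50 za38) (ka xa25 ya31 za27) (ka xa25 ya31 za29) (ka xa12 ya20 za49) (ka xa15 ya38 za50) (ka xa12 ya52 za14) (ka xa15 ya44 za11) (ka xa17 ya50 za61) (ka xa15 ya38 za49)) (@D3.rec (fun _ => Pt) (ka xa25 ya26 za59) (ka xa8 ya18 za17) (ka xa8 ya18 za18) (ka xa25 ya26 za61) (ka xa18 ya12 za24) (ka xa25 ya31 za38) (ka xa15 ya33 za0) (ka xa12 ya26 za9) (ka xa15 ya59 za13) (ka xa25 ya31 za39) (ka xa25 ya31 za40) (ka xa22 ya54 za34) (ka xa25 ya27 za20) (ka xa25 ya5 za49) (ka xa25 ya31 za52) (ka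 xa19 ya36 za6) (ka xa15 ya58 za23) (ka xa23 ya47 za23) (ka xa15 ya58 za29) (ka xa22 ya2 za5) (ka xa25 ya27 za21) (ka xa25 ya27 za22) (ka xa25 ya27 za23) (ka xa10 ya50 za35) (ka xa25 ya27 za25) (ka xa17 ya22 za10) (ka xa15 ya58 za16) (ka xa10 ya46 za27) (ka xa10 ya46 za30) (ka xa10 ya46 za23) (ka xa10 ya46 za24) (ka xa25 ya32 za26) (ka xa10 ya46 za25) (ka xa10 ya46 za26) (ka xa10 ya46 za37) (ka xa10 ya46 za36) (ka xa8 ya18 za30) (ka xa25 ya32 za36) (ka xa10 ya46 za22) (ka xa9 ya35 za56) (ka xa9 ya35 za55) (ka xa8 ya18 za32) (ka xa25 ya32 za42) (ka xa21 ya22 za60) (ka xa9 ya35 za52) (ka xa9 ya35 za22) (ka xa9 ya35 za53) (ka xa15 ya20 za26) (ka xa18 ya52 za16) (ka xa18 ya52 za15) (ka xa8 ya18 za37) (ka xa19 ya35 za36) (ka xa8 ya23 za29) (ka xa8 ya18 za39) (ka xa16 ya17 za6) (ka xa17 ya39 za1) (ka xa10 ya45 za8) (ka xa25 ya7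 za13) (ka xa17 ya42 za46) (ka xa8 ya18 za43) (ka xa8 ya18 za44) (ka xa15 ya35 za34)) (@D3.rec (fun _ => Pt) (ka xa15 ya35 za30) (ka xa25 ya33 za0) (ka xa25 ya33 za1) (ka xa25 ya13 za16) (ka xa25 ya33 za2) (ka xa25 ya33 za3) (ka xa25 ya33 za4) (ka xa25 ya33 za18) (ka xa25 ya33 za19) (ka xa19 ya45 za41) (ka xa19 ya45 za45) (ka xa25 ya27 za31) (ka xa25 ya27 za32) (ka xa17 ya29 za39) (ka xa25 ya27 za34) (ka xa25 ya33 za33) (ka xa25 ya13 za6) (ka xa25 ya24 za32) (ka xa25 ya27 za35) (ka xa25 ya27 za36) (ka xa25 ya27 za37) (ka xa25 ya27 za38) (ka xa15 ya21 za60) (ka xa16 ya5 za56) (ka xa16 ya5 za57) (ka xa15 ya22 za6) (ka xa21 ya0 za23) (ka xa25 ya33 za51) (ka xa10 ya51 za51) (ka xa8 ya19 za3) (ka xa25 ya16 za33) (ka xa25 ya16 za32) (ka xa8 ya18 za59) (ka xa21 ya31 za13) (ka xa9 ya37 za6) (ka xa9 ya37 za9) (ka xa25 ya16 za38)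 (ka xa21 ya31 za16) (ka xa16 ya6 za34) (ka xa10 ya32 za59) (ka xa10 ya32 za58) (ka xa10 ya32 za60) (ka xa25 ya34 za1) (ka xa16 ya6 za52) (ka xa8 ya23 za15) (ka xa19 ya17 za15) (ka xa25 ya27 za27) (ka xa8 ya19 za7) (ka xa8 ya19 za8) (ka xa15 ya36 za61) (ka xa15 ya36 za57) (ka xa18 ya12 za27) (ka xa25 ya34 za6) (ka xa9 ya20 za56) (ka xa21 ya5 za3) (ka xa13 ya32 za11) (ka xa25 ya27 za47) (ka xa25 ya26 za48) (ka xa22 ya10 za60) (ka xa12 ya16 za6) (ka xa15 ya58 za54) (ka xa25 ya27 za48)) (@D3.rec (fun _ => Pt) (ka xa15 ya58 za55) (ka xa23 ya13 za32) (ka xa23 ya13 za31) (ka xa21 ya0 za20) (ka xa25 ya27 za50) (ka xa10 ya44 za8) (ka xa13 ya0 za35) (ka xa16 ya6 za43) (ka xa10 ya2 za38) (ka xa10 ya20 za13) (ka xa10 ya20 za14) (ka xa13 ya52 za13) (ka xa10 ya20 za15) (ka xa25 ya32 za39) (ka xa25 ya28 za4) (ka xa25 ya28 za5) (ka xa25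 ya28 za6) (ka xa25 ya28 za13) (ka xa25 ya28 za1) (ka xa25 ya28 za2) (ka xa8 ya19 za23) (ka xa8 ya19 za24) (ka xa8 ya19 za25) (ka xa20 ya54 za43) (ka xa16 ya5 za54) (ka xa23 ya0 za15) (ka xa24 ya22 za20) (ka xa22 ya57 za25) (ka xa22 ya57 za24) (ka xa22 ya55 za4) (ka xa25 ya34 za40) (ka xa25 ya34 za41) (ka xa21 ya58 za7) (ka xa25 ya34 za42) (ka xa9 ya37 za42) (ka xa9 ya37 za45) (ka xa25 ya28 za21) (ka xa22 ya9 za49) (ka xa25 ya27 za59) (ka xa15 ya20 za11) (ka xa20 ya43 za27) (ka xa20 ya43 za26) (ka xa10 ya51 za60) (ka xa25 ya27 za60) (ka xa25 ya27 za61) (ka xa20 ya43 za57) (ka xa25 ya28 za22) (ka xa16 ya16 za41) (ka xa25 ya27 za54) (ka xa22 ya9 za46) (ka xa25 ya27 za52) (ka xa22 ya21 za1) (ka xa25 ya27 za53) (ka xa8 ya19 za35) (ka xa8 ya19 za36) (ka xa19 ya35 za57) (ka xa19 ya35 za53) (ka xa25 ya35 za12) (ka xa22 ya48 za40)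 (ka xa22 ya9 za42) (ka xa25 ya35 za13) (ka xa22 ya54 za59)) (@D3.rec (fun _ => Pt) (ka xa25 ya35 za14) (ka xa19 ya45 za47) (ka xa22 ya57 za23) (ka xa18 ya52 za56) (ka xa14 ya52 za23) (ka xa22 ya33 za25) (ka xa15 ya43 za18) (ka xa13 ya11 za48) (ka xa22 ya59 za35) (ka xa8 ya19 za52) (ka xa25 ya34 za30) (ka xa8 ya19 za43) (ka xa8 ya19 za44) (ka xa22 ya9 za45) (ka xa8 ya19 za42) (ka xa25 ya35 za39) (ka xa25 ya35 za40) (ka xa15 ya35 za17) (ka xa25 ya35 za35) (ka xa25 ya35 za36) (ka xa9 ya28 za53) (ka xa25 ya35 za37) (ka xa25 ya28 za0) (ka xa8 ya19 za45) (ka xa16 ya14 za36) (ka xa25 ya35 za53) (ka xa22 ya9 za50) (ka xa22 ya9 za48) (ka xa8 ya19 za48) (ka xa8 ya19 za50) (ka xa8 ya19 za51) (ka xa25 ya36 za4) (ka xa25 ya36 za1) (ka xa20 ya59 za15) (ka xa25 ya36 za7) (ka xa10 ya24 za48) (ka xa25 ya36 za2) (ka xa10 ya26 za7) (ka xa25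 ya36 za13) (ka xa25 ya35 za32) (ka xa25 ya6 za55) (ka xa15 ya47 za14) (ka xa15 ya47 za13) (ka xa8 ya19 za54) (ka xa23 ya0 za25) (ka xa25 ya36 za15) (ka xa19 ya37 za57) (ka xa22 ya9 za14) (ka xa25 ya28 za41) (ka xa25 ya28 za42) (ka xa8 ya19 za56) (ka xa22 ya23 za4) (ka xa24 ya7 za49) (ka xa19 ya37 za53) (ka xa20 ya58 za61) (ka xa15 ya41 za2) (ka xa18 ya51 za16) (ka xa18 ya51 za15) (ka xa8 ya19 za58) (ka xa25 ya24 za34) (ka xa25 ya5 za50) (ka xa23 ya10 za25)) (@D3.rec (fun _ => Pt) (ka xa16 ya43 za16) (ka xa17 ya24 za4) (ka xa15 ya40 za55) (ka xa25 ya28 za44) (ka xa22 ya10 za55) (ka xa22 ya10 za56) (ka xa17 ya36 za3) (ka xa25 ya34 za35) (ka xa9 ya38 za36) (ka xa15 ya16 za10) (ka xa16 ya2 za22) (ka xa25 ya35 za11) (ka xa15 ya16 za11) (ka xa16 ya2 za20) (ka xa21 ya1 za3) (ka xa16 ya2 za32) (ka xa16 ya2 za33) (ka xa8 ya30 za40)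 (ka xa16 ya2 za34) (ka xa15 ya47 za43) (ka xa24 ya45 za43) (ka xa20 ya56 za45) (ka xa25 ya34 za4) (ka xa16 ya2 za26) (ka xa16 ya2 za27) (ka xa16 ya2 za28) (ka xa10 ya32 za39) (ka xa10 ya32 za38) (ka xa8 ya20 za12) (ka xa16 ya2 za39) (ka xa16 ya2 za38) (ka xa16 ya4 za3) (ka xa8 ya23 za48) (ka xa8 ya23 za49) (ka xa8 ya23 za50) (ka xa16 ya4 za4) (ka xa8 ya20 za15) (ka xa24 ya27 za46) (ka xa12 ya18 za40) (ka xa8 ya20 za53) (ka xa8 ya20 za54) (ka xa8 ya20 za55) (ka xa8 ya20 za56) (ka xa8 ya20 za57) (ka xa8 ya20 za59) (ka xa8 ya20 za60) (ka xa8 ya20 za61) (ka xa25 ya37 za22) (ka xa15 ya1 za38) (ka xa15 ya2 za3) (ka xa15 ya1 za29) (ka xa15 ya18 za30) (ka xa15 ya18 za31) (ka xa15 ya18 za33) (ka xa15 ya18 za32) (ka xa8 ya20 za25) (ka xa25 ya37 za31) (ka xa16 ya37 za11) (ka xa11 ya6 za0) (ka xa15 ya1 za40) (ka xa15 ya32 za3) (ka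 xa15 ya32 za4)) (@D3.rec (fun _ => Pt) (ka xa16 ya4 za11) (ka xa8 ya20 za30) (ka xa25 ya37 za40) (ka xa25 ya37 za41) (ka xa16 ya4 za23) (ka xa16 ya4 za24) (ka xa16 ya4 za25) (ka xa16 ya4 za26) (ka xa16 ya4 za27) (ka xa16 ya3 za47) (ka xa11 ya53 za25) (ka xa8 ya35 za50) (ka xa16 ya4 za19) (ka xa16 ya4 za18) (ka xa8 ya20 za35) (ka xa25 ya10 za39) (ka xa25 ya37 za56) (ka xa16 ya4 za15) (ka xa16 ya4 za16) (ka xa16 ya4 za17) (ka xa8 ya21 za35) (ka xa16 ya4 za31) (ka xa16 ya4 za30) (ka xa8 ya20 za40) (ka xa22 ya4 za41) (ka xa25 ya38 za8) (ka xa15 ya44 za57) (ka xa16 ya4 za39) (ka xa16 ya4 za40) (ka xa16 ya4 za36) (ka xa16 ya4 za35) (ka xa8 ya20 za43) (ka xa25 ya38 za24) (ka xa25 ya38 za25) (ka xa15 ya44 za55) (ka xa16 ya4 za34) (ka xa25 ya38 za37) (ka xa9 ya18 za39) (ka xa23 ya36 za22) (ka xa15 ya44 za49) (ka xa14 ya38 za47)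 (ka xa24 ya27 za47) (ka xa19 ya47 za31) (ka xa16 ya4 za46) (ka xa16 ya41 za34) (ka xa16 ya4 za44) (ka xa25 ya37 za11) (ka xa25 ya37 za12) (ka xa25 ya37 za13) (ka xa24 ya37 za60) (ka xa25 ya38 za55) (ka xa8 ya36 za26) (ka xa15 ya46 za5) (ka xa25 ya38 za58) (ka xa15 ya1 za19) (ka xa15 ya46 za4) (ka xa25 ya37 za15) (ka xa25 ya37 za16) (ka xa25 ya37 za17) (ka xa25 ya37 za18) (ka xa23 ya39 za8) (ka xa24 ya32 za29)) (@D3.rec (fun _ => Pt) (ka xa21 ya24 za47) (ka xa25 ya37 za19) (ka xa21 ya24 za24) (ka xa25 ya37 za20) (ka xa25 ya37 za21) (ka xa8 ya35 za47) (ka xa8 ya35 za39) (ka xa8 ya35 za40) (ka xa8 ya21 za5) (ka xa15 ya48 za53) (ka xa17 ya40 za39) (ka xa12 ya28 za32) (ka xa16 ya4 za58) (ka xa20 ya19 za22) (ka xa14 ya37 za38) (ka xa24 ya49 za10) (ka xa16 ya4 za60) (ka xa15 ya58 za56) (ka xa15 ya40 za6) (ka xa11 ya52 za7) (ka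 xa11 ya52 za6) (ka xa8 ya21 za12) (ka xa20 ya6 za39) (ka xa24 ya43 za25) (ka xa16 ya2 za37) (ka xa16 ya2 za40) (ka xa8 ya21 za33) (ka xa16 ya3 za2) (ka xa16 ya3 za1) (ka xa8 ya21 za18) (ka xa17 ya56 za31) (ka xa23 ya34 za35) (ka xa16 ya3 za6) (ka xa16 ya3 za5) (ka xa8 ya21 za21) (ka xa25 ya39 za47) (ka xa15 ya45 za56) (ka xa15 ya45 za8) (ka xa16 ya3 za4) (ka xa13 ya52 za51) (ka xa8 ya21 za27) (ka xa16 ya3 za12) (ka xa24 ya52 za52) (ka xa16 ya3 za17) (ka xa16 ya3 za15) (ka xa21 ya26 za54) (ka xa8 ya36 za22) (ka xa23 ya26 za29) (ka xa22 ya17 za44) (ka xa23 ya26 za30) (ka xa14 ya6 za14) (ka xa25 ya40 za4) (ka xa21 ya49 za17) (ka xa21 ya49 za20) (ka xa21 ya49 za19) (ka xa25 ya39 za38) (ka xa8 ya25 za37) (ka xa21 ya36 za12) (ka xa25 ya38 za3) (ka xa10 ya35 za56) (ka xa8 ya22 za19) (ka xa10 ya37 za22)) (@D3.rec (fun _ => Pt)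 (ka xa10 ya35 za57) (ka xa8 ya22 za52) (ka xa10 ya35 za51) (ka xa10 ya35 za52) (ka xa25 ya40 za31) (ka xa10 ya35 za53) (ka xa10 ya35 za54) (ka xa10 ya35 za59) (ka xa10 ya35 za58) (ka xa8 ya21 za40) (ka xa23 ya24 za40) (ka xa15 ya36 za59) (ka xa19 ya16 za45) (ka xa16 ya3 za52) (ka xa10 ya50 za58) (ka xa11 ya5 za45) (ka xa11 ya10 za7) (ka xa25 ya40 za40) (ka xa20 ya18 za48) (ka xa8 ya21 za49) (ka xa19 ya27 za23) (ka xa25 ya40 za39) (ka xa11 ya9 za60) (ka xa10 ya48 za25) (ka xa10 ya48 za26) (ka xa10 ya48 za23) (ka xa16 ya5 za61) (ka xa16 ya5 za60) (ka xa8 ya21 za55) (ka xa25 ya40 za49) (ka xa12 ya40 za31) (ka xa8 ya22 za9) (ka xa8 ya22 za10) (ka xa8 ya22 za11) (ka xa8 ya22 za12) (ka xa8 ya22 za13) (ka xa8 ya22 za15) (ka xa8 ya22 za18) (ka xa16 ya6 za9) (ka xa16 ya6 za8) (ka xa8 ya21 za61) (ka xa25 ya41 za7) (ka xa16 ya6 za15)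 (ka xa16 ya6 za12) (ka xa8 ya22 za1) (ka xa18 ya3 za5) (ka xa16 ya6 za18) (ka xa25 ya41 za18) (ka xa8 ya22 za5) (ka xa15 ya42 za39) (ka xa14 ya37 za28) (ka xa24 ya27 za57) (ka xa19 ya14 za43) (ka xa12 ya40 za36) (ka xa25 ya41 za24) (ka xa15 ya42 za34) (ka xa16 ya41 za46) (ka xa15 ya42 za26) (ka xa25 ya40 za51) (ka xa25 ya40 za52) (ka xa25 ya40 za53) (ka xa25 ya40 za54)) (@D3.rec (fun _ => Pt) (ka xa15 ya45 za6) (ka xa9 ya36 za46) (ka xa25 ya40 za55) (ka xa8 ya22 za48) (ka xa22 ya10 za22) (ka xa17 ya43 za20) (ka xa15 ya45 za0) (ka xa25 ya40 za10) (ka xa15 ya43 za37) (ka xa25 ya40 za56) (ka xa25 ya40 za57) (ka xa25 ya40 za58) (ka xa21 ya26 za34) (ka xa19 ya5 za61) (ka xa24 ya42 za22) (ka xa25 ya40 za60) (ka xa8 ya22 za54) (ka xa19 ya19 za2) (ka xa25 ya41 za59) (ka xa25 ya41 za0) (ka xa25 ya40 za23) (ka xa10 ya38 za17) (ka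 xa19 ya41 za19) (ka xa10 ya38 za22) (ka xa21 ya56 za35) (ka xa16 ya6 za42) (ka xa8 ya35 za37) (ka xa16 ya0 za57) (ka xa9 ya24 za9) (ka xa25 ya42 za9) (ka xa9 ya8 za60) (ka xa8 ya22 za29) (ka xa25 ya42 za11) (ka xa10 ya53 za19) (ka xa16 ya5 za3) (ka xa16 ya5 za2) (ka xa12 ya27 za9) (ka xa8 ya22 za46) (ka xa8 ya22 za47) (ka xa8 ya22 za49) (ka xa8 ya22 za50) (ka xa8 ya22 za51) (ka xa16 ya5 za13) (ka xa16 ya5 za12) (ka xa8 ya22 za36) (ka xa16 ya5 za18) (ka xa16 ya5 za17) (ka xa8 ya22 za37) (ka xa25 ya42 za26) (ka xa16 ya5 za16) (ka xa16 ya17 za27) (ka xa9 ya45 za41) (ka xa16 ya5 za21) (ka xa9 ya45 za53) (ka xa14 ya42 za28) (ka xa22 ya38 za12) (ka xa15 ya43 za36) (ka xa22 ya10 za2) (ka xa9 ya36 za42) (ka xa25 ya42 za13) (ka xa25 ya42 za14) (ka xa23 ya27 za58)) (@D3.rec (fun _ => Pt) (ka xa25 ya42 za15) (ka xa25 ya42 za43) (ka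 xa25 ya40 za14) (ka xa25 ya42 za46) (ka xa15 ya42 za55) (ka xa15 ya42 za52) (ka xa25 ya42 za17) (ka xa25 ya42 za18) (ka xa20 ya54 za49) (ka xa25 ya42 za19) (ka xa25 ya40 za24) (ka xa21 ya34 za21) (ka xa22 ya43 za49) (ka xa16 ya5 za50) (ka xa17 ya55 za45) (ka xa16 ya5 za52) (ka xa16 ya5 za53) (ka xa16 ya0 za40) (ka xa23 ya2 za54) (ka xa25 ya43 za1) (ka xa9 ya37 za13) (ka xa16 ya13 za44) (ka xa8 ya40 za2) (ka xa25 ya34 za2) (ka xa12 ya15 za25) (ka xa12 ya48 za34) (ka xa8 ya23 za16) (ka xa8 ya23 za18) (ka xa8 ya23 za22) (ka xa21 ya58 za33) (ka xa9 ya38 za17) (ka xa25 ya27 za26) (ka xa25 ya25 za4) (ka xa25 ya34 za3) (ka xa25 ya25 za3) (ka xa16 ya17 za10) (ka xa8 ya23 za17) (ka xa25 ya43 za15) (ka xa21 ya36 za4) (ka xa25 ya32 za55) (ka xa22 ya2 za0) (ka xa25 ya34 za23) (ka xa25 ya43 za6) (ka xa25 ya43 za7) (ka xa8 ya23 za30)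 (ka xa21 ya17 za2) (ka xa8 ya30 za17) (ka xa8 ya33 za28) (ka xa25 ya43 za29) (ka xa25 ya43 za8) (ka xa8 ya23 za32) (ka xa25 ya32 za56) (ka xa12 ya48 za33) (ka xa25 ya32 za57) (ka xa25 ya32 za58) (ka xa25 ya43 za22) (ka xa25 ya43 za26) (ka xa12 ya33 za26) (ka xa25 ya31 za26) (ka xa25 ya43 za33) (ka xa8 ya30 za6) (ka xa8 ya23 za41)) (@D3.rec (fun _ => Pt) (ka xa8 ya23 za42) (ka xa25 ya43 za40) (ka xa8 ya35 za46) (ka xa25 ya43 za45) (ka xa8 ya31 za19) (ka xa25 ya43 za49) (ka xa8 ya32 za14) (ka xa25 ya43 za52) (ka xa8 ya31 za60) (ka xa8 ya32 za17) (ka xa8 ya32 za16) (ka xa22 ya7 za28) (ka xa25 ya43 za39) (ka xa15 ya40 za42) (ka xa15 ya40 za41) (ka xa9 ya33 za28) (ka xa15 ya47 za21) (ka xa15 ya47 za18) (ka xa15 ya47 za17) (ka xa12 ya15 za61) (ka xa12 ya25 za32) (ka xa15 ya47 za16) (ka xa12 ya15 za60) (ka xa12 ya14 za31) (ka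 xa21 ya28 za15) (ka xa25 ya37 za6) (ka xa22 ya27 za9) (ka xa8 ya33 za21) (ka xa25 ya37 za7) (ka xa23 ya33 za51) (ka xa10 ya17 za34) (ka xa10 ya17 za35) (ka xa10 ya17 za36) (ka xa10 ya17 za38) (ka xa9 ya38 za39) (ka xa15 ya25 za57) (ka xa15 ya24 za6) (ka xa15 ya24 za5) (ka xa8 ya23 za61) (ka xa25 ya44 za22) (ka xa25 ya44 za23) (ka xa16 ya8 za43) (ka xa16 ya7 za15) (ka xa15 ya41 za19) (ka xa12 ya42 za45) (ka xa9 ya39 za15) (ka xa9 ya39 za16) (ka xa9 ya39 za17) (ka xa12 ya20 za45) (ka xa12 ya20 za46) (ka xa12 ya18 za24) (ka xa8 ya24 za35) (ka xa8 ya24 za42) (ka xa8 ya24 za44) (ka xa11 ya9 za35) (ka xa17 ya38 za27) (ka xa16 ya8 za49) (ka xa16 ya8 za48) (ka xa8 ya24 za10) (ka xa24 ya51 za55) (ka xa25 ya44 za37) (ka xa16 ya9 za0)) (@D3.rec (fun _ => Pt) (ka xa16 ya9 za1) (ka xa16 ya9 za2) (ka xa16 ya9 za3) (ka xa16 ya9 za4)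 (ka xa11 ya10 za43) (ka xa11 ya10 za44) (ka xa9 ya37 za30) (ka xa16 ya9 za5) (ka xa22 ya9 za35) (ka xa21 ya54 za24) (ka xa16 ya8 za53) (ka xa16 ya8 za54) (ka xa16 ya8 za55) (ka xa8 ya25 za41) (ka xa8 ya25 za39) (ka xa16 ya9 za8) (ka xa16 ya9 za7) (ka xa8 ya24 za23) (ka xa21 ya48 za35) (ka xa21 ya36 za26) (ka xa12 ya18 za22) (ka xa16 ya9 za16) (ka xa16 ya9 za12) (ka xa16 ya9 za11) (ka xa8 ya24 za26) (ka xa17 ya51 za57) (ka xa11 ya31 za56) (ka xa16 ya9 za10) (ka xa23 ya2 za47) (ka xa10 ya55 za32) (ka xa24 ya2 za30) (ka xa8 ya55 za28) (ka xa20 ya13 za48) (ka xa8 ya40 za11) (ka xa22 ya4 za5) (ka xa8 ya54 za0) (ka xa25 ya44 za32) (ka xa25 ya44 za33) (ka xa25 ya44 za34) (ka xa23 ya2 za44) (ka xa22 ya10 za6) (ka xa9 ya20 za33) (ka xa15 ya24 za37) (ka xa12 ya19 za31) (ka xa12 ya0 za33) (ka xa12 ya24 za45) (ka xa9 ya55 za20) (ka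 xa9 ya55 za21) (ka xa8 ya30 za35) (ka xa17 ya37 za16) (ka xa25 ya44 za35) (ka xa9 ya55 za18) (ka xa9 ya52 za61) (ka xa15 ya43 za9) (ka xa8 ya24 za46) (ka xa25 ya45 za20) (ka xa12 ya50 za5) (ka xa17 ya37 za26) (ka xa17 ya37 za27) (ka xa17 ya37 za28) (ka xa17 ya37 za29) (ka xa16 ya15 za55)) (@D3.rec (fun _ => Pt) (ka xa17 ya37 za30) (ka xa15 ya30 za7) (ka xa16 ya7 za24) (ka xa17 ya37 za31) (ka xa9 ya43 za55) (ka xa11 ya9 za43) (ka xa16 ya9 za41) (ka xa16 ya14 za61) (ka xa17 ya30 za25) (ka xa15 ya34 za52) (ka xa16 ya15 za19) (ka xa20 ya22 za23) (ka xa12 ya42 za43) (ka xa16 ya7 za14) (ka xa12 ya43 za32) (ka xa12 ya26 za16) (ka xa16 ya7 za18) (ka xa8 ya25 za10) (ka xa8 ya43 za14) (ka xa20 ya36 za19) (ka xa14 ya57 za5) (ka xa16 ya7 za27) (ka xa16 ya7 za26) (ka xa20 ya15 za59) (ka xa16 ya7 za36) (ka xa15 ya36 za38) (ka xa16 ya7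 za37) (ka xa10 ya50 za27) (ka xa10 ya50 za29) (ka xa16 ya7 za33) (ka xa16 ya7 za32) (ka xa8 ya25 za19) (ka xa12 ya43 za38) (ka xa12 ya43 za36) (ka xa11 ya10 za46) (ka xa9 ya42 za41) (ka xa16 ya7 za39) (ka xa8 ya25 za24) (ka xa11 ya17 za56) (ka xa14 ya49 za56) (ka xa11 ya18 za34) (ka xa16 ya7 za43) (ka xa11 ya18 za54) (ka xa16 ya7 za42) (ka xa12 ya53 za30) (ka xa15 ya59 za11) (ka xa11 ya21 za41) (ka xa8 ya25 za33) (ka xa23 ya24 za28) (ka xa8 ya33 za11) (ka xa21 ya4 za4) (ka xa18 ya42 za55) (ka xa9 ya7 za38) (ka xa8 ya34 za2) (ka xa22 ya8 za14) (ka xa14 ya12 za4) (ka xa14 ya56 za43) (ka xa16 ya15 za25) (ka xa16 ya15 za54) (ka xa10 ya38 za59) (ka xa10 ya38 za58) (ka xa8 ya25 za46)) (@D3.rec (fun _ => Pt) (ka xa25 ya46 za3) (ka xa10 ya36 za41) (ka xa19 ya49 za8) (ka xa15 ya54 za48) (ka xa15 ya54 za46) (ka xa12 ya6 za13) (ka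 xa15 ya13 za16) (ka xa23 ya25 za16) (ka xa16 ya22 za3) (ka xa8 ya25 za56) (ka xa25 ya46 za16) (ka xa8 ya25 za59) (ka xa8 ya25 za60) (ka xa8 ya25 za61) (ka xa8 ya26 za0) (ka xa23 ya25 za19) (ka xa20 ya1 za25) (ka xa25 ya46 za19) (ka xa8 ya38 za20) (ka xa25 ya46 za20) (ka xa23 ya35 za18) (ka xa25 ya46 za22) (ka xa25 ya46 za23) (ka xa20 ya32 za35) (ka xa25 ya46 za24) (ka xa16 ya30 za59) (ka xa25 ya46 za25) (ka xa20 ya32 za36) (ka xa14 ya8 za41) (ka xa14 ya8 za38) (ka xa8 ya26 za2) (ka xa15 ya11 za54) (ka xa15 ya12 za0) (ka xa20 ya31 za43) (ka xa15 ya23 za56) (ka xa25 ya46 za41) (ka xa15 ya23 za58) (ka xa15 ya23 za59) (ka xa13 ya51 za17) (ka xa15 ya23 za60) (ka xa24 ya29 za10) (ka xa10 ya7 za23) (ka xa10 ya7 za24) (ka xa10 ya7 za26) (ka xa10 ya8 za17) (ka xa10 ya8 za19) (ka xa18 ya9 za32) (ka xa18 ya46 za37) (ka xa8 ya26 za12)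 (ka xa11 ya16 za2) (ka xa15 ya50 za60) (ka xa9 ya39 za28) (ka xa19 ya51 za22) (ka xa11 ya54 za57) (ka xa11 ya54 za59) (ka xa15 ya11 za38) (ka xa15 ya11 za40) (ka xa10 ya22 za57) (ka xa8 ya26 za19) (ka xa20 ya11 za55) (ka xa15 ya50 za50) (ka xa8 ya26 za40)) (@D3.rec (fun _ => Pt) (ka xa8 ya26 za53) (ka xa8 ya26 za55) (ka xa10 ya53 za40) (ka xa10 ya53 za39) (ka xa8 ya26 za24) (ka xa25 ya46 za57) (ka xa8 ya27 za12) (ka xa8 ya27 za15) (ka xa15 ya26 za0) (ka xa19 ya36 za7) (ka xa14 ya23 za18) (ka xa15 ya25 za27) (ka xa21 ya0 za48) (ka xa21 ya0 za47) (ka xa8 ya26 za29) (ka xa22 ya4 za47) (ka xa17 ya25 za22) (ka xa25 ya47 za11) (ka xa9 ya34 za6) (ka xa9 ya34 za7) (ka xa9 ya34 za9) (ka xa10 ya50 za40) (ka xa10 ya50 za42) (ka xa17 ya50 za5) (ka xa17 ya50 za4) (ka xa25 ya29 za10) (ka xa15 ya22 za56) (ka xa15 ya36 za27) (ka xa25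 ya47 za18) (ka xa10 ya52 za1) (ka xa16 ya44 za56) (ka xa8 ya26 za44) (ka xa25 ya47 za21) (ka xa24 ya14 za33) (ka xa17 ya51 za8) (ka xa17 ya51 za7) (ka xa8 ya26 za49) (ka xa25 ya35 za20) (ka xa18 ya44 za19) (ka xa10 ya25 za7) (ka xa17 ya52 za44) (ka xa16 ya21 za53) (ka xa25 ya46 za54) (ka xa16 ya41 za1) (ka xa16 ya41 za3) (ka xa16 ya40 za37) (ka xa8 ya26 za57) (ka xa25 ya47 za28) (ka xa25 ya47 za29) (ka xa17 ya51 za12) (ka xa17 ya51 za13) (ka xa16 ya46 za49) (ka xa8 ya57 za54) (ka xa17 ya51 za14) (ka xa8 ya57 za55) (ka xa10 ya56 za38) (ka xa10 ya24 za7) (ka xa10 ya24 za8) (ka xa10 ya53 za26) (ka xa10 ya53 za25) (ka xa8 ya27 za2) (ka xa24 ya8 za11)) (@D3.rec (fun _ => Pt) (ka xa25 ya47 za43) (ka xa8 ya57 za53) (ka xa8 ya57 za56) (ka xa8 ya57 za57) (ka xa8 ya27 za9) (ka xa8 ya27 za5) (ka xa25 ya47 za49) (ka xa15 ya9 za30)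 (ka xa19 ya10 za22) (ka xa25 ya47 za47) (ka xa8 ya27 za6) (ka xa25 ya47 za58) (ka xa19 ya30 za14) (ka xa25 ya47 za57) (ka xa8 ya27 za8) (ka xa22 ya20 za19) (ka xa25 ya48 za4) (ka xa25 ya48 za5) (ka xa25 ya48 za6) (ka xa19 ya6 za58) (ka xa14 ya27 za15) (ka xa25 ya43 za38) (ka xa8 ya32 za29) (ka xa25 ya46 za60) (ka xa25 ya46 za61) (ka xa25 ya47 za0) (ka xa8 ya32 za25) (ka xa8 ya59 za53) (ka xa25 ya47 za1) (ka xa18 ya27 za60) (ka xa17 ya52 za40) (ka xa17 ya21 za36) (ka xa17 ya35 za54) (ka xa17 ya35 za53) (ka xa8 ya27 za17) (ka xa18 ya4 za6) (ka xa11 ya56 za56) (ka xa11 ya56 za57) (ka xa11 ya56 za58) (ka xa11 ya56 za59) (ka xa11 ya56 za60) (ka xa11 ya57 za3) (ka xa15 ya17 za4) (ka xa15 ya17 za3) (ka xa8 ya27 za23) (ka xa25 ya48 za44) (ka xa25 ya48 za45) (ka xa15 ya17 za0) (ka xa15 ya16 za44) (ka xa15 ya16 za46) (ka xa15 ya17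 za1) (ka xa15 ya17 za2) (ka xa15 ya26 za2) (ka xa8 ya27 za33) (ka xa8 ya27 za29) (ka xa15 ya31 za43) (ka xa15 ya55 za45) (ka xa25 ya48 za55) (ka xa25 ya48 za56) (ka xa8 ya27 za30) (ka xa14 ya51 za42) (ka xa22 ya38 za37)) (@D3.rec (fun _ => Pt) (ka xa25 ya49 za0) (ka xa22 ya38 za40) (ka xa8 ya27 za32) (ka xa25 ya7 za41) (ka xa25 ya7 za40) (ka xa19 ya16 za27) (ka xa15 ya54 za59) (ka xa15 ya54 za60) (ka xa15 ya53 za9) (ka xa15 ya53 za8) (ka xa25 ya12 za37) (ka xa15 ya22 za61) (ka xa15 ya23 za0) (ka xa25 ya49 za17) (ka xa15 ya22 za58) (ka xa15 ya22 za59) (ka xa25 ya49 za23) (ka xa15 ya18 za15) (ka xa25 ya12 za44) (ka xa15 ya18 za18) (ka xa15 ya18 za19) (ka xa15 ya22 za35) (ka xa15 ya22 za36) (ka xa13 ya40 za4) (ka xa13 ya43 za37) (ka xa17 ya48 za61) (ka xa15 ya22 za43) (ka xa14 ya50 za60) (ka xa14 ya50 za59) (ka xa14 ya50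 za55) (ka xa14 ya50 za56) (ka xa15 ya20 za48) (ka xa15 ya20 za47) (ka xa19 ya47 za52) (ka xa19 ya47 za53) (ka xa15 ya3 za14) (ka xa15 ya3 za16) (ka xa15 ya3 za17) (ka xa15 ya3 za18) (ka xa15 ya3 za20) (ka xa15 ya3 za21) (ka xa17 ya50 za35) (ka xa15 ya3 za23) (ka xa15 ya3 za24) (ka xa24 ya51 za14) (ka xa15 ya20 za45) (ka xa15 ya20 za46) (ka xa15 ya20 za60) (ka xa15 ya20 za43) (ka xa8 ya27 za60) (ka xa24 ya38 za5) (ka xa25 ya37 za10) (ka xa25 ya49 za43) (ka xa25 ya49 za44) (ka xa15 ya21 za11) (ka xa15 ya19 za42) (ka xa25 ya13 za1) (ka xa15 ya19 za47) (ka xa15 ya19 za48) (ka xa15 ya20 za38) (ka xa15 ya20 za39) (ka xa15 ya20 za40)) (@D3.rec (fun _ => Pt) (ka xa15 ya20 za41) (ka xa15 ya19 za50) (ka xa9 ya38 za20) (ka xa17 ya52 za51) (ka xa9 ya53 za11) (ka xa25 ya12 za57) (ka xa15 ya20 za22) (ka xa15 ya20 za23) (ka xa15 ya21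 za25) (ka xa15 ya20 za29) (ka xa15 ya20 za52) (ka xa15 ya20 za53) (ka xa15 ya20 za54) (ka xa15 ya20 za55) (ka xa8 ya28 za31) (ka xa25 ya5 za8) (ka xa8 ya28 za19) (ka xa8 ya28 za21) (ka xa25 ya5 za9) (ka xa25 ya5 za10) (ka xa16 ya46 za55) (ka xa19 ya28 za2) (ka xa25 ya50 za9) (ka xa25 ya50 za10) (ka xa8 ya28 za24) (ka xa25 ya14 za3) (ka xa25 ya14 za4) (ka xa17 ya52 za45) (ka xa25 ya50 za11) (ka xa25 ya10 za34) (ka xa8 ya28 za26) (ka xa10 ya58 za59) (ka xa8 ya28 za23) (ka xa18 ya2 za55) (ka xa11 ya9 za50) (ka xa25 ya50 za36) (ka xa25 ya50 za23) (ka xa25 ya50 za25) (ka xa25 ya14 za1) (ka xa25 ya14 za2) (ka xa24 ya58 za28) (ka xa25 ya50 za35) (ka xa25 ya11 za27) (ka xa8 ya28 za30) (ka xa17 ya53 za32) (ka xa10 ya41 za18) (ka xa15 ya50 za4) (ka xa10 ya58 za47) (ka xa15 ya50 za3) (ka xa25 ya50 za54) (ka xa25 ya50 za55) (ka xa25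 ya50 za56) (ka xa25 ya49 za8) (ka xa25 ya49 za7) (ka xa25 ya50 za7) (ka xa15 ya21 za61) (ka xa21 ya21 za6) (ka xa15 ya22 za7) (ka xa15 ya22 za8) (ka xa15 ya53 za6) (ka xa15 ya53 za7) (ka xa12 ya40 za3)) (@D3.rec (fun _ => Pt) (ka xa17 ya53 za49) (ka xa20 ya2 za9) (ka xa15 ya56 za11) (ka xa14 ya24 za15) (ka xa8 ya28 za40) (ka xa25 ya51 za23) (ka xa14 ya25 za8) (ka xa10 ya21 za58) (ka xa10 ya43 za5) (ka xa10 ya43 za6) (ka xa10 ya43 za7) (ka xa10 ya43 za8) (ka xa10 ya43 za9) (ka xa10 ya43 za11) (ka xa15 ya56 za17) (ka xa15 ya56 za16) (ka xa8 ya28 za46) (ka xa13 ya23 za34) (ka xa23 ya10 za54) (ka xa10 ya44 za2) (ka xa10 ya44 za3) (ka xa10 ya44 za4) (ka xa10 ya44 za5) (ka xa10 ya44 za6) (ka xa10 ya44 za7) (ka xa10 ya44 za10) (ka xa10 ya44 za11) (ka xa15 ya56 za28) (ka xa15 ya56 za27) (ka xa8 ya28 za52) (ka xa11 ya45 za46) (ka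 xa22 ya25 za16) (ka xa15 ya56 za24) (ka xa15 ya56 za25) (ka xa15 ya56 za26) (ka xa15 ya56 za20) (ka xa15 ya56 za19) (ka xa8 ya28 za55) (ka xa21 ya52 za2) (ka xa13 ya45 za53) (ka xa13 ya20 za25) (ka xa13 ya20 za26) (ka xa13 ya45 za55) (ka xa8 ya29 za0) (ka xa8 ya28 za58) (ka xa15 ya52 za56) (ka xa16 ya10 za4) (ka xa25 ya51 za55) (ka xa25 ya51 za56) (ka xa8 ya28 za59) (ka xa24 ya10 za22) (ka xa25 ya51 za60) (ka xa8 ya28 za61) (ka xa25 ya52 za1) (ka xa25 ya52 za2) (ka xa16 ya24 za52) (ka xa25 ya51 za53) (ka xa25 ya51 za54) (ka xa25 ya52 za13) (ka xa15 ya56 za41) (ka xa21 ya51 za47) (ka xa25 ya52 za17)) (@D3.rec (fun _ => Pt) (ka xa10 ya21 za57) (ka xa10 ya46 za0) (ka xa10 ya45 za61) (ka xa15 ya56 za44) (ka xa8 ya31 za27) (ka xa11 ya53 za12) (ka xa25 ya20 za39) (ka xa25 ya20 za38) (ka xa8 ya29 za8) (ka xa24 ya52 za44) (ka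 xa16 ya12 za56) (ka xa15 ya55 za2) (ka xa8 ya29 za11) (ka xa25 ya52 za36) (ka xa25 ya52 za37) (ka xa11 ya55 za9) (ka xa15 ya55 za15) (ka xa15 ya55 za14) (ka xa11 ya56 za0) (ka xa15 ya55 za36) (ka xa15 ya55 za35) (ka xa8 ya29 za19) (ka xa20 ya47 za7) (ka xa25 ya52 za44) (ka xa15 ya55 za32) (ka xa15 ya55 za33) (ka xa15 ya55 za34) (ka xa15 ya55 za28) (ka xa15 ya55 za27) (ka xa8 ya29 za29) (ka xa8 ya29 za25) (ka xa22 ya5 za11) (ka xa15 ya29 za9) (ka xa17 ya22 za39) (ka xa25 ya52 za60) (ka xa8 ya29 za26) (ka xa25 ya53 za4) (ka xa17 ya22 za38) (ka xa20 ya12 za4) (ka xa25 ya52 za59) (ka xa22 ya3 za50) (ka xa15 ya55 za59) (ka xa25 ya53 za16) (ka xa9 ya26 za26) (ka xa15 ya56 za3) (ka xa8 ya33 za15) (ka xa14 ya57 za6) (ka xa14 ya57 za7) (ka xa25 ya43 za28) (ka xa8 ya30 za59) (ka xa8 ya30 za58) (ka xa8 ya29 za36) (ka xa25 ya53 za23)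 (ka xa21 ya27 za18) (ka xa8 ya30 za33) (ka xa8 ya30 za34) (ka xa8 ya30 za37) (ka xa8 ya30 za39) (ka xa8 ya30 za27) (ka xa8 ya30 za26) (ka xa8 ya29 za41) (ka xa25 ya53 za28)) (@D3.rec (fun _ => Pt) (ka xa25 ya53 za29) (ka xa8 ya31 za1) (ka xa8 ya31 za2) (ka xa8 ya31 za6) (ka xa8 ya34 za32) (ka xa12 ya18 za15) (ka xa14 ya57 za25) (ka xa25 ya43 za44) (ka xa8 ya31 za10) (ka xa8 ya31 za37) (ka xa8 ya31 za36) (ka xa8 ya29 za48) (ka xa25 ya53 za38) (ka xa21 ya40 za2) (ka xa8 ya31 za20) (ka xa8 ya31 za21) (ka xa8 ya31 za23) (ka xa8 ya31 za26) (ka xa8 ya31 za13) (ka xa8 ya31 za12) (ka xa8 ya29 za53) (ka xa25 ya53 za41) (ka xa17 ya28 za10) (ka xa8 ya31 za41) (ka xa8 ya31 za42) (ka xa8 ya31 za43) (ka xa8 ya31 za44) (ka xa8 ya31 za45) (ka xa8 ya31 za46) (ka xa8 ya32 za2) (ka xa8 ya32 za1) (ka xa8 ya29 za58) (ka xa25 ya29 za54) (ka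 xa25 ya53 za59) (ka xa8 ya31 za52) (ka xa8 ya31 za51) (ka xa8 ya29 za61) (ka xa25 ya54 za6) (ka xa25 ya54 za7) (ka xa8 ya32 za8) (ka xa8 ya32 za9) (ka xa8 ya32 za10) (ka xa8 ya30 za2) (ka xa25 ya42 za20) (ka xa19 ya57 za25) (ka xa25 ya54 za19) (ka xa25 ya54 za20) (ka xa8 ya30 za3) (ka xa21 ya17 za60) (ka xa19 ya57 za24) (ka xa25 ya54 za27) (ka xa25 ya54 za29) (ka xa8 ya30 za5) (ka xa25 ya48 za16) (ka xa25 ya48 za15) (ka xa25 ya54 za36) (ka xa22 ya7 za25) (ka xa25 ya30 za2) (ka xa8 ya32 za21) (ka xa13 ya43 za11) (ka xa8 ya32 za23) (ka xa8 ya32 za26)) (@D3.rec (fun _ => Pt) (ka xa8 ya32 za27) (ka xa8 ya32 za28) (ka xa25 ya53 za21) (ka xa25 ya53 za20) (ka xa8 ya30 za11) (ka xa25 ya54 za57) (ka xa10 ya52 za6) (ka xa10 ya51 za57) (ka xa10 ya51 za58) (ka xa10 ya51 za61) (ka xa10 ya51 za52) (ka xa10 ya51 za55) (ka xa10 ya52 za2)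 (ka xa16 ya1 za11) (ka xa9 ya24 za58) (ka xa16 ya1 za10) (ka xa15 ya37 za26) (ka xa25 ya44 za50) (ka xa25 ya44 za49) (ka xa8 ya30 za20) (ka xa25 ya55 za14) (ka xa25 ya55 za15) (ka xa15 ya59 za58) (ka xa15 ya37 za16) (ka xa25 ya31 za25) (ka xa8 ya30 za23) (ka xa25 ya55 za26) (ka xa25 ya55 za27) (ka xa15 ya59 za56) (ka xa15 ya37 za18) (ka xa17 ya37 za47) (ka xa16 ya19 za3) (ka xa15 ya59 za48) (ka xa25 ya13 za35) (ka xa25 ya29 za50) (ka xa23 ya22 za17) (ka xa15 ya59 za47) (ka xa23 ya22 za16) (ka xa8 ya30 za29) (ka xa8 ya30 za30) (ka xa25 ya53 za31) (ka xa25 ya53 za30) (ka xa19 ya19 za34) (ka xa25 ya55 za46) (ka xa25 ya55 za47) (ka xa25 ya55 za48) (ka xa25 ya55 za49) (ka xa25 ya55 za50) (ka xa25 ya56 za1) (ka xa17 ya25 za4) (ka xa25 ya56 za4) (ka xa18 ya44 za0) (ka xa22 ya9 za33) (ka xa25 ya36 za53) (ka xa15 ya38 za60) (ka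 xa15 ya39 za0) (ka xa15 ya43 za17) (ka xa12 ya59 za9) (ka xa15 ya16 za13) (ka xa10 ya25 za37) (ka xa10 ya25 za38) (ka xa10 ya25 za16)) (@D3.rec (fun _ => Pt) (ka xa10 ya25 za15) (ka xa20 ya36 za21) (ka xa8 ya30 za48) (ka xa21 ya44 za27) (ka xa21 ya44 za28) (ka xa16 ya15 za29) (ka xa16 ya15 za30) (ka xa10 ya46 za6) (ka xa10 ya46 za5) (ka xa8 ya30 za54) (ka xa22 ya9 za27) (ka xa15 ya49 za45) (ka xa16 ya0 za21) (ka xa15 ya37 za8) (ka xa20 ya19 za21) (ka xa16 ya0 za20) (ka xa21 ya45 za38) (ka xa8 ya30 za61) (ka xa8 ya31 za0) (ka xa25 ya53 za25) (ka xa25 ya53 za24) (ka xa25 ya56 za34) (ka xa24 ya5 za41) (ka xa21 ya31 za4) (ka xa25 ya56 za35) (ka xa22 ya1 za57) (ka xa16 ya43 za24) (ka xa16 ya43 za26) (ka xa22 ya3 za2) (ka xa10 ya50 za23) (ka xa10 ya51 za10) (ka xa15 ya35 za12) (ka xa12 ya52 za21) (ka xa18 ya43 za59) (ka xa18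 ya43 za58) (ka xa8 ya31 za9) (ka xa15 ya17 za12) (ka xa25 ya53 za35) (ka xa8 ya35 za45) (ka xa8 ya31 za11) (ka xa17 ya39 za2) (ka xa16 ya17 za5) (ka xa11 ya56 za15) (ka xa25 ya32 za60) (ka xa16 ya18 za3) (ka xa8 ya31 za15) (ka xa8 ya31 za16) (ka xa15 ya58 za36) (ka xa15 ya58 za32) (ka xa25 ya56 za58) (ka xa25 ya33 za7) (ka xa25 ya56 za59) (ka xa25 ya56 za60) (ka xa25 ya56 za61) (ka xa25 ya57 za0) (ka xa23 ya10 za14) (ka xa15 ya58 za28) (ka xa25 ya57 za13) (ka xa15 ya58 za22) (ka xa25 ya43 za42) (ka xa25 ya43 za41) (ka xa12 ya40 za10))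
def f_a_16 : D2 → D3 → Pt := @D2.rec (fun _ => D3 → Pt) (@D3.rec (fun _ => Pt) (ka xa9 ya24 za19) (ka xa25 ya57 za24) (ka xa25 ya53 za40) (ka xa17 ya21 za39) (ka xa12 ya15 za50) (ka xa8 ya57 za59) (ka xa19 ya29 za8) (ka xa25 ya18 za55) (ka xa25 ya18 za54) (ka xa8 ya31 za30) (ka xa11 ya37 za47) (ka xa12 ya26 za49) (ka xa16 ya16 za39) (ka xa16 ya16 za40) (ka xa12 ya26 za52) (ka xa12 ya20 za30) (ka xa25 ya42 za7) (ka xa12 ya20 za50) (ka xa25 ya53 za37) (ka xa8 ya31 za39) (ka xa15 ya59 za15) (ka xa15 ya59 za12) (ka xa25 ya57 za34) (ka xa25 ya57 za35) (ka xa17 ya28 za11) (ka xa17 ya25 za60) (ka xa25 ya53 za48) (ka xa25 ya53 za49) (ka xa25 ya43 za43) (ka xa17 ya28 za2) (ka xa16 ya1 za33) (ka xa15 ya35 za59) (ka xa21 ya0 za27) (ka xa25 ya57 za51) (ka xa15 ya35 za60) (ka xa25 ya53 za51) (ka xa17 ya28 za1) (ka xa19 ya46 za2) (ka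 xa19 ya36 za42) (ka xa21 ya16 za20) (ka xa15 ya46 za17) (ka xa10 ya24 za49) (ka xa10 ya24 za50) (ka xa25 ya58 za2) (ka xa10 ya24 za51) (ka xa10 ya24 za52) (ka xa16 ya16 za5) (ka xa25 ya40 za48) (ka xa25 ya54 za4) (ka xa25 ya54 za5) (ka xa25 ya54 za21) (ka xa25 ya54 za1) (ka xa25 ya54 za2) (ka xa8 ya31 za54) (ka xa8 ya31 za55) (ka xa8 ya31 za56) (ka xa19 ya5 za42) (ka xa15 ya45 za27) (ka xa25 ya58 za16) (ka xa21 ya46 za36) (ka xa25 ya54 za9) (ka xa25 ya54 za8)) (@D3.rec (fun _ => Pt) (ka xa25 ya58 za17) (ka xa25 ya58 za18) (ka xa21 ya46 za17) (ka xa21 ya46 za13) (ka xa21 ya46 za34) (ka xa25 ya58 za19) (ka xa9 ya33 za51) (ka xa9 ya35 za3) (ka xa9 ya35 za5) (ka xa25 ya54 za25) (ka xa15 ya58 za15) (ka xa15 ya58 za13) (ka xa25 ya54 za30) (ka xa25 ya53 za57) (ka xa25 ya53 za58) (ka xa25 ya43 za48) (ka xa25 ya53 za54) (ka xa25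 ya53 za55) (ka xa25 ya53 za56) (ka xa8 ya32 za4) (ka xa8 ya32 za5) (ka xa8 ya32 za6) (ka xa9 ya35 za9) (ka xa9 ya35 za8) (ka xa25 ya58 za47) (ka xa23 ya22 za36) (ka xa25 ya53 za60) (ka xa25 ya35 za56) (ka xa25 ya58 za48) (ka xa25 ya58 za49) (ka xa25 ya58 za50) (ka xa25 ya58 za51) (ka xa25 ya58 za52) (ka xa16 ya0 za30) (ka xa9 ya37 za8) (ka xa18 ya44 za18) (ka xa25 ya54 za16) (ka xa25 ya54 za17) (ka xa25 ya43 za51) (ka xa21 ya16 za25) (ka xa25 ya43 za47) (ka xa8 ya32 za11) (ka xa15 ya24 za12) (ka xa16 ya16 za8) (ka xa8 ya32 za13) (ka xa8 ya42 za7) (ka xa25 ya59 za11) (ka xa25 ya36 za9) (ka xa25 ya59 za13) (ka xa25 ya35 za47) (ka xa25 ya59 za17) (ka xa25 ya35 za59) (ka xa25 ya43 za55) (ka xa22 ya7 za26) (ka xa22 ya7 za27) (ka xa25 ya59 za27) (ka xa8 ya32 za20) (ka xa25 ya59 za28) (ka xa25 ya59 za29) (ka xa8 ya32 za22) (ka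 xa19 ya26 za11) (ka xa19 ya26 za10)) (@D3.rec (fun _ => Pt) (ka xa25 ya46 za59) (ka xa25 ya46 za58) (ka xa8 ya32 za24) (ka xa19 ya6 za57) (ka xa25 ya48 za25) (ka xa25 ya48 za26) (ka xa18 ya30 za45) (ka xa19 ya6 za52) (ka xa25 ya59 za47) (ka xa19 ya28 za12) (ka xa25 ya54 za50) (ka xa25 ya54 za51) (ka xa25 ya59 za56) (ka xa19 ya28 za13) (ka xa12 ya59 za17) (ka xa25 ya48 za18) (ka xa25 ya8 za51) (ka xa25 ya48 za17) (ka xa15 ya16 za38) (ka xa25 ya58 za11) (ka xa15 ya41 za13) (ka xa25 ya58 za46) (ka xa15 ya41 za10) (ka xa15 ya16 za36) (ka xa15 ya16 za37) (ka xa18 ya16 za34) (ka xa15 ya41 za23) (ka xa15 ya41 za24) (ka xa15 ya41 za25) (ka xa16 ya14 za16) (ka xa16 ya14 za17) (ka xa24 ya19 za1) (ka xa15 ya41 za15) (ka xa15 ya41 za16) (ka xa15 ya41 za18) (ka xa8 ya32 za41) (ka xa14 ya55 za58) (ka xa15 ya43 za24) (ka xa15 ya41 za30)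 (ka xa15 ya41 za29) (ka xa15 ya43 za25) (ka xa8 ya35 za49) (ka xa8 ya35 za51) (ka xa12 ya3 za21) (ka xa8 ya33 za14) (ka xa8 ya33 za16) (ka xa8 ya33 za19) (ka xa26 ya0 za20) (ka xa10 ya38 za35) (ka xa17 ya55 za40) (ka xa10 ya38 za25) (ka xa10 ya38 za26) (ka xa10 ya38 za28) (ka xa10 ya38 za29) (ka xa10 ya38 za23) (ka xa10 ya34 za1) (ka xa10 ya38 za24) (ka xa23 ya42 za25) (ka xa10 ya38 za37) (ka xa10 ya38 za36) (ka xa9 ya34 za48) (ka xa14 ya46 za15)) (@D3.rec (fun _ => Pt) (ka xa8 ya34 za6) (ka xa15 ya43 za28) (ka xa15 ya43 za27) (ka xa8 ya33 za1) (ka xa15 ya43 za38) (ka xa15 ya43 za33) (ka xa15 ya43 za32) (ka xa8 ya33 za3) (ka xa24 ya35 za4) (ka xa23 ya22 za52) (ka xa13 ya15 za18) (ka xa8 ya33 za8) (ka xa15 ya43 za41) (ka xa26 ya0 za36) (ka xa21 ya3 za55) (ka xa15 ya43 za44) (ka xa15 ya3 za40) (ka xa15 ya43 za43) (ka xa25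 ya45 za56) (ka xa25 ya45 za57) (ka xa18 ya42 za28) (ka xa23 ya40 za10) (ka xa26 ya0 za43) (ka xa16 ya6 za31) (ka xa22 ya9 za32) (ka xa16 ya6 za30) (ka xa21 ya6 za37) (ka xa21 ya6 za41) (ka xa21 ya6 za40) (ka xa18 ya42 za26) (ka xa26 ya0 za16) (ka xa22 ya31 za16) (ka xa26 ya0 za17) (ka xa10 ya2 za4) (ka xa10 ya2 za5) (ka xa9 ya34 za35) (ka xa15 ya34 za53) (ka xa26 ya0 za19) (ka xa25 ya44 za12) (ka xa10 ya2 za3) (ka xa15 ya35 za16) (ka xa8 ya33 za22) (ka xa15 ya35 za10) (ka xa15 ya35 za11) (ka xa10 ya37 za32) (ka xa15 ya35 za14) (ka xa15 ya35 za15) (ka xa15 ya42 za9) (ka xa14 ya11 za48) (ka xa12 ya28 za44) (ka xa14 ya44 za44) (ka xa17 ya55 za42) (ka xa15 ya44 za13) (ka xa12 ya52 za16) (ka xa25 ya31 za30) (ka xa14 ya28 za53) (ka xa12 ya47 za50) (ka xa15 ya36 za1) (ka xa15 ya36 za3) (ka xa10 ya32 za48) (ka xa10 ya32 za47)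 (ka xa8 ya33 za35)) (@D3.rec (fun _ => Pt) (ka xa25 ya10 za33) (ka xa26 ya1 za7) (ka xa15 ya3 za2) (ka xa15 ya41 za31) (ka xa15 ya41 za35) (ka xa14 ya51 za40) (ka xa8 ya34 za1) (ka xa8 ya34 za3) (ka xa24 ya52 za26) (ka xa15 ya1 za18) (ka xa26 ya1 za23) (ka xa15 ya42 za0) (ka xa8 ya33 za43) (ka xa26 ya1 za25) (ka xa20 ya28 za33) (ka xa15 ya42 za17) (ka xa15 ya42 za18) (ka xa15 ya42 za19) (ka xa15 ya42 za13) (ka xa15 ya42 za12) (ka xa8 ya33 za46) (ka xa24 ya21 za16) (ka xa26 ya1 za36) (ka xa15 ya42 za4) (ka xa15 ya42 za5) (ka xa15 ya42 za6) (ka xa15 ya42 za7) (ka xa15 ya42 za8) (ka xa10 ya53 za20) (ka xa8 ya54 za46) (ka xa15 ya42 za22) (ka xa15 ya42 za21) (ka xa8 ya33 za51) (ka xa26 ya1 za44) (ka xa15 ya42 za35) (ka xa15 ya42 za30) (ka xa15 ya42 za29) (ka xa8 ya33 za53) (ka xa26 ya1 za49) (ka xa15 ya42 za27) (ka xa15 ya42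 za28) (ka xa17 ya38 za34) (ka xa23 ya23 za38) (ka xa20 ya53 za28) (ka xa15 ya42 za45) (ka xa26 ya1 za57) (ka xa15 ya42 za43) (ka xa26 ya1 za60) (ka xa15 ya2 za60) (ka xa22 ya21 za12) (ka xa20 ya53 za22) (ka xa14 ya48 za24) (ka xa14 ya51 za35) (ka xa23 ya23 za19) (ka xa26 ya1 za17) (ka xa22 ya17 za52) (ka xa14 ya14 za53) (ka xa14 ya5 za38) (ka xa15 ya43 za12) (ka xa26 ya2 za6) (ka xa15 ya43 za16) (ka xa12 ya59 za18)) (@D3.rec (fun _ => Pt) (ka xa26 ya1 za22) (ka xa12 ya38 za61) (ka xa15 ya45 za35) (ka xa15 ya45 za34) (ka xa21 ya45 za23) (ka xa8 ya34 za28) (ka xa8 ya34 za29) (ka xa8 ya34 za30) (ka xa8 ya34 za31) (ka xa8 ya34 za33) (ka xa8 ya34 za34) (ka xa8 ya34 za37) (ka xa15 ya45 za43) (ka xa15 ya45 za42) (ka xa8 ya34 za18) (ka xa26 ya2 za16) (ka xa15 ya45 za49) (ka xa15 ya45 za46) (ka xa15 ya45 za45) (ka xa8 ya34 za20)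 (ka xa17 ya55 za21) (ka xa15 ya45 za52) (ka xa23 ya35 za23) (ka xa21 ya45 za27) (ka xa12 ya59 za59) (ka xa21 ya33 za34) (ka xa21 ya33 za35) (ka xa12 ya54 za30) (ka xa21 ya33 za36) (ka xa25 ya41 za38) (ka xa26 ya2 za12) (ka xa8 ya35 za4) (ka xa26 ya2 za38) (ka xa25 ya41 za33) (ka xa23 ya35 za27) (ka xa25 ya38 za18) (ka xa10 ya53 za17) (ka xa25 ya38 za16) (ka xa25 ya11 za17) (ka xa20 ya54 za52) (ka xa24 ya41 za37) (ka xa9 ya0 za51) (ka xa8 ya35 za10) (ka xa26 ya2 za13) (ka xa9 ya35 za17) (ka xa15 ya17 za52) (ka xa24 ya41 za34) (ka xa14 ya51 za7) (ka xa14 ya55 za52) (ka xa20 ya58 za57) (ka xa15 ya46 za13) (ka xa24 ya52 za53) (ka xa15 ya46 za15) (ka xa15 ya46 za16) (ka xa15 ya39 za24) (ka xa26 ya2 za58) (ka xa15 ya38 za23) (ka xa15 ya38 za24) (ka xa21 ya57 za39) (ka xa26 ya3 za0) (ka xa15 ya44 za27) (ka xa15 ya44 za26)) (@D3.rec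 (fun _ => Pt) (ka xa8 ya34 za51) (ka xa26 ya3 za2) (ka xa12 ya0 za56) (ka xa8 ya35 za2) (ka xa8 ya35 za3) (ka xa8 ya35 za5) (ka xa8 ya35 za6) (ka xa8 ya35 za8) (ka xa15 ya44 za39) (ka xa15 ya44 za38) (ka xa8 ya34 za56) (ka xa13 ya0 za22) (ka xa15 ya44 za43) (ka xa8 ya34 za57) (ka xa26 ya3 za9) (ka xa15 ya44 za42) (ka xa17 ya39 za45) (ka xa26 ya3 za12) (ka xa15 ya44 za46) (ka xa8 ya35 za0) (ka xa24 ya29 za39) (ka xa26 ya3 za17) (ka xa15 ya2 za38) (ka xa25 ya19 za57) (ka xa22 ya4 za35) (ka xa26 ya3 za3) (ka xa26 ya3 za4) (ka xa26 ya3 za29) (ka xa23 ya35 za26) (ka xa13 ya0 za5) (ka xa16 ya3 za25) (ka xa16 ya3 za23) (ka xa23 ya32 za22) (ka xa9 ya37 za2) (ka xa15 ya38 za38) (ka xa19 ya5 za46) (ka xa23 ya31 za45) (ka xa12 ya48 za29) (ka xa26 ya2 za46) (ka xa20 ya16 za4) (ka xa12 ya58 za25) (ka xa14 ya42 za22) (ka xa15 ya45 za25)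 (ka xa15 ya39 za7) (ka xa21 ya21 za46) (ka xa12 ya20 za56) (ka xa9 ya39 za7) (ka xa17 ya43 za47) (ka xa22 ya10 za3) (ka xa21 ya25 za39) (ka xa25 ya16 za36) (ka xa12 ya51 za11) (ka xa15 ya38 za43) (ka xa26 ya3 za40) (ka xa25 ya58 za38) (ka xa9 ya36 za3) (ka xa25 ya53 za36) (ka xa22 ya9 za54) (ka xa22 ya8 za20) (ka xa17 ya25 za36) (ka xa17 ya39 za5) (ka xa8 ya35 za38)) (@D3.rec (fun _ => Pt) (ka xa25 ya29 za29) (ka xa12 ya52 za47) (ka xa23 ya42 za11) (ka xa21 ya34 za25) (ka xa25 ya56 za57) (ka xa24 ya8 za8) (ka xa25 ya25 za5) (ka xa12 ya47 za56) (ka xa23 ya33 za19) (ka xa13 ya13 za2) (ka xa25 ya37 za53) (ka xa9 ya36 za30) (ka xa19 ya48 za56) (ka xa20 ya16 za3) (ka xa15 ya49 za13) (ka xa15 ya47 za42) (ka xa9 ya37 za29) (ka xa9 ya37 za31) (ka xa15 ya49 za16) (ka xa8 ya36 za25) (ka xa8 ya36 za27) (ka xa8 ya36 za30) (ka xa8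 ya36 za32) (ka xa19 ya35 za45) (ka xa15 ya49 za2) (ka xa16 ya19 za61) (ka xa15 ya49 za22) (ka xa15 ya49 za21) (ka xa8 ya36 za4) (ka xa21 ya43 za34) (ka xa11 ya35 za55) (ka xa15 ya25 za26) (ka xa15 ya49 za30) (ka xa15 ya49 za29) (ka xa8 ya36 za9) (ka xa11 ya19 za17) (ka xa15 ya49 za24) (ka xa15 ya49 za26) (ka xa12 ya47 za38) (ka xa15 ya49 za36) (ka xa20 ya15 za32) (ka xa20 ya15 za33) (ka xa15 ya49 za43) (ka xa15 ya49 za41) (ka xa11 ya16 za41) (ka xa11 ya17 za5) (ka xa12 ya56 za11) (ka xa18 ya35 za2) (ka xa26 ya4 za15) (ka xa26 ya4 za16) (ka xa17 ya16 za27) (ka xa9 ya58 za49) (ka xa9 ya58 za48) (ka xa26 ya3 za60) (ka xa15 ya1 za20) (ka xa18 ya37 za26) (ka xa21 ya5 za44) (ka xa18 ya20 za52) (ka xa10 ya10 za16) (ka xa10 ya10 za17) (ka xa16 ya19 za2) (ka xa18 ya20 za56)) (@D3.rec (fun _ => Pt) (ka xa26 ya3 za61) (ka xa21 ya50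 za46) (ka xa10 ya10 za14) (ka xa17 ya40 za12) (ka xa16 ya20 za14) (ka xa9 ya34 za37) (ka xa8 ya36 za41) (ka xa15 ya14 za56) (ka xa15 ya14 za36) (ka xa15 ya16 za7) (ka xa11 ya9 za53) (ka xa15 ya18 za0) (ka xa15 ya18 za1) (ka xa25 ya50 za12) (ka xa15 ya17 za59) (ka xa15 ya17 za60) (ka xa8 ya36 za50) (ka xa26 ya4 za55) (ka xa25 ya36 za47) (ka xa10 ya51 za36) (ka xa26 ya4 za56) (ka xa15 ya18 za50) (ka xa15 ya18 za51) (ka xa15 ya18 za52) (ka xa10 ya51 za40) (ka xa10 ya37 za43) (ka xa15 ya16 za47) (ka xa26 ya5 za12) (ka xa15 ya19 za1) (ka xa15 ya19 za2) (ka xa17 ya53 za57) (ka xa17 ya53 za56) (ka xa8 ya36 za60) (ka xa10 ya53 za56) (ka xa21 ya13 za30) (ka xa16 ya17 za59) (ka xa11 ya6 za13) (ka xa11 ya6 za15) (ka xa11 ya6 za16) (ka xa9 ya43 za22) (ka xa15 ya24 za13) (ka xa8 ya37 za4) (ka xa26 ya5 za27) (ka xa15 ya47 za41) (ka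 xa21 ya24 za12) (ka xa8 ya37 za27) (ka xa8 ya37 za29) (ka xa9 ya34 za50) (ka xa15 ya47 za57) (ka xa15 ya47 za56) (ka xa8 ya37 za11) (ka xa26 ya5 za39) (ka xa21 ya41 za38) (ka xa15 ya48 za10) (ka xa15 ya48 za11) (ka xa15 ya48 za12) (ka xa15 ya36 za50) (ka xa15 ya36 za51) (ka xa12 ya53 za10) (ka xa8 ya37 za15) (ka xa19 ya17 za48) (ka xa21 ya22 za35)) (@D3.rec (fun _ => Pt) (ka xa15 ya47 za61) (ka xa15 ya48 za0) (ka xa15 ya48 za1) (ka xa15 ya48 za2) (ka xa15 ya48 za3) (ka xa15 ya48 za7) (ka xa15 ya2 za30) (ka xa15 ya48 za16) (ka xa15 ya48 za15) (ka xa12 ya41 za40) (ka xa15 ya48 za27) (ka xa15 ya48 za23) (ka xa15 ya48 za22) (ka xa8 ya37 za23) (ka xa23 ya13 za26) (ka xa26 ya5 za55) (ka xa15 ya48 za21) (ka xa20 ya9 za48) (ka xa26 ya5 za33) (ka xa21 ya48 za9) (ka xa26 ya5 za34) (ka xa26 ya5 za35) (ka xa21 ya41 za7) (ka xa17 ya16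 za19) (ka xa17 ya16 za22) (ka xa17 ya16 za21) (ka xa26 ya5 za36) (ka xa12 ya53 za1) (ka xa21 ya51 za46) (ka xa11 ya8 za47) (ka xa24 ya49 za23) (ka xa9 ya36 za53) (ka xa24 ya49 za24) (ka xa9 ya37 za7) (ka xa19 ya32 za2) (ka xa24 ya49 za20) (ka xa24 ya49 za21) (ka xa24 ya49 za22) (ka xa24 ya49 za19) (ka xa9 ya35 za2) (ka xa8 ya37 za39) (ka xa15 ya49 za6) (ka xa24 ya41 za53) (ka xa11 ya3 za7) (ka xa16 ya11 za15) (ka xa16 ya11 za14) (ka xa8 ya37 za43) (ka xa15 ya29 za43) (ka xa15 ya29 za44) (ka xa10 ya1 za8) (ka xa10 ya1 za9) (ka xa11 ya4 za20) (ka xa15 ya29 za60) (ka xa15 ya29 za61) (ka xa15 ya30 za0) (ka xa15 ya30 za3) (ka xa15 ya30 za4) (ka xa15 ya30 za6) (ka xa15 ya18 za26) (ka xa15 ya18 za25) (ka xa8 ya37 za53) (ka xa24 ya22 za13)) (@D3.rec (fun _ => Pt) (ka xa16 ya11 za24) (ka xa16 ya11 za25) (ka xa8 ya37 za60) (ka xa8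 ya37 za56) (ka xa15 ya55 za46) (ka xa15 ya31 za42) (ka xa26 ya6 za48) (ka xa26 ya6 za49) (ka xa8 ya37 za57) (ka xa26 ya6 za55) (ka xa26 ya6 za59) (ka xa8 ya37 za59) (ka xa16 ya12 za16) (ka xa16 ya12 za15) (ka xa26 ya7 za3) (ka xa18 ya3 za17) (ka xa16 ya11 za42) (ka xa16 ya11 za43) (ka xa16 ya11 za44) (ka xa11 ya2 za39) (ka xa9 ya44 za31) (ka xa14 ya39 za15) (ka xa14 ya39 za16) (ka xa10 ya1 za10) (ka xa10 ya1 za15) (ka xa21 ya2 za38) (ka xa21 ya2 za39) (ka xa10 ya1 za36) (ka xa10 ya1 za37) (ka xa23 ya3 za15) (ka xa8 ya38 za22) (ka xa18 ya24 za5) (ka xa8 ya38 za16) (ka xa23 ya30 za51) (ka xa26 ya7 za26) (ka xa8 ya38 za18) (ka xa8 ya38 za21) (ka xa23 ya40 za36) (ka xa23 ya40 za37) (ka xa21 ya29 za10) (ka xa21 ya29 za8) (ka xa26 ya7 za34) (ka xa19 ya58 za53) (ka xa19 ya48 za17) (ka xa19 ya48 za14) (ka xa26 ya7 za27) (ka xa26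 ya7 za24) (ka xa15 ya13 za37) (ka xa15 ya13 za41) (ka xa16 ya12 za9) (ka xa16 ya12 za10) (ka xa16 ya12 za11) (ka xa16 ya11 za38) (ka xa16 ya11 za37) (ka xa8 ya38 za25) (ka xa16 ya49 za53) (ka xa16 ya12 za18) (ka xa14 ya0 za33) (ka xa9 ya51 za38) (ka xa20 ya4 za46) (ka xa16 ya12 za19) (ka xa16 ya12 za20)) (@D3.rec (fun _ => Pt) (ka xa16 ya12 za22) (ka xa13 ya15 za39) (ka xa16 ya12 za23) (ka xa16 ya12 za24) (ka xa16 ya12 za25) (ka xa15 ya25 za6) (ka xa15 ya25 za8) (ka xa15 ya22 za44) (ka xa17 ya49 za0) (ka xa12 ya54 za39) (ka xa20 ya56 za47) (ka xa8 ya38 za33) (ka xa26 ya7 za54) (ka xa20 ya56 za4) (ka xa16 ya9 za45) (ka xa16 ya9 za44) (ka xa8 ya38 za36) (ka xa24 ya36 za54) (ka xa11 ya57 za18) (ka xa11 ya57 za20) (ka xa14 ya48 za12) (ka xa12 ya55 za39) (ka xa8 ya38 za39) (ka xa14 ya48 za41) (ka xa16 ya10 za0) (ka xa16 ya10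 za1) (ka xa8 ya38 za45) (ka xa8 ya38 za41) (ka xa26 ya8 za12) (ka xa26 ya8 za10) (ka xa26 ya8 za11) (ka xa8 ya38 za42) (ka xa12 ya55 za38) (ka xa20 ya55 za17) (ka xa26 ya8 za16) (ka xa24 ya31 za53) (ka xa8 ya38 za44) (ka xa16 ya10 za53) (ka xa16 ya10 za52) (ka xa25 ya39 za54) (ka xa25 ya42 za29) (ka xa26 ya8 za9) (ka xa16 ya10 za16) (ka xa16 ya10 za17) (ka xa16 ya10 za18) (ka xa11 ya2 za38) (ka xa10 ya15 za57) (ka xa10 ya15 za61) (ka xa10 ya16 za21) (ka xa10 ya16 za22) (ka xa10 ya16 za23) (ka xa13 ya15 za44) (ka xa15 ya22 za46) (ka xa15 ya22 za47) (ka xa15 ya22 za48) (ka xa20 ya33 za24) (ka xa20 ya33 za25) (ka xa8 ya38 za60) (ka xa8 ya38 za61) (ka xa8 ya39 za0) (ka xa8 ya39 za1) (ka xa25 ya1 za50)) (@D3.rec (fun _ => Pt) (ka xa25 ya1 za49) (ka xa26 ya8 za46) (ka xa23 ya19 za52) (ka xa21 ya12 za19) (ka xa23 ya20 za16) (ka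 xa23 ya14 za57) (ka xa20 ya6 za3) (ka xa22 ya30 za27) (ka xa23 ya14 za58) (ka xa16 ya10 za49) (ka xa16 ya10 za50) (ka xa16 ya10 za51) (ka xa15 ya10 za34) (ka xa15 ya10 za35) (ka xa15 ya10 za36) (ka xa16 ya10 za13) (ka xa16 ya10 za12) (ka xa8 ya39 za5) (ka xa16 ya10 za56) (ka xa16 ya10 za60) (ka xa16 ya10 za61) (ka xa19 ya49 za61) (ka xa16 ya11 za0) (ka xa16 ya11 za2) (ka xa16 ya11 za3) (ka xa16 ya11 za4) (ka xa17 ya52 za59) (ka xa8 ya39 za11) (ka xa16 ya13 za2) (ka xa16 ya13 za3) (ka xa15 ya18 za20) (ka xa8 ya39 za22) (ka xa8 ya39 za18) (ka xa26 ya7 za52) (ka xa26 ya9 za13) (ka xa26 ya9 za14) (ka xa26 ya9 za15) (ka xa8 ya39 za19) (ka xa26 ya9 za27) (ka xa26 ya9 za21) (ka xa26 ya9 za25) (ka xa8 ya39 za21) (ka xa24 ya47 za17) (ka xa24 ya47 za16) (ka xa26 ya9 za29) (ka xa24 ya21 za5) (ka xa16 ya13 za19) (ka xa16 ya13 za20)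 (ka xa16 ya13 za21) (ka xa16 ya13 za22) (ka xa16 ya13 za24) (ka xa16 ya13 za25) (ka xa15 ya28 za33) (ka xa15 ya30 za24) (ka xa8 ya39 za26) (ka xa25 ya19 za55) (ka xa15 ya56 za10) (ka xa15 ya28 za5) (ka xa15 ya28 za29) (ka xa10 ya31 za27) (ka xa19 ya53 za51) (ka xa8 ya39 za31)) (@D3.rec (fun _ => Pt) (ka xa23 ya43 za46) (ka xa11 ya3 za56) (ka xa16 ya12 za28) (ka xa16 ya12 za29) (ka xa8 ya39 za40) (ka xa8 ya39 za36) (ka xa18 ya52 za44) (ka xa25 ya19 za21) (ka xa26 ya9 za53) (ka xa26 ya9 za54) (ka xa8 ya39 za37) (ka xa25 ya21 za60) (ka xa26 ya10 za1) (ka xa8 ya39 za39) (ka xa16 ya28 za4) (ka xa16 ya28 za3) (ka xa26 ya10 za6) (ka xa26 ya10 za7) (ka xa19 ya48 za8) (ka xa16 ya12 za46) (ka xa16 ya12 za47) (ka xa16 ya12 za48) (ka xa16 ya12 za49) (ka xa10 ya42 za50) (ka xa16 ya12 za50) (ka xa16 ya12 za51) (ka xa9 ya51 za6) (ka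 xa8 ya39 za45) (ka xa21 ya53 za47) (ka xa15 ya32 za9) (ka xa15 ya24 za53) (ka xa15 ya25 za10) (ka xa17 ya42 za26) (ka xa17 ya42 za25) (ka xa17 ya41 za55) (ka xa13 ya0 za19) (ka xa19 ya44 za2) (ka xa9 ya41 za2) (ka xa9 ya41 za5) (ka xa12 ya59 za29) (ka xa21 ya25 za47) (ka xa25 ya16 za43) (ka xa25 ya26 za52) (ka xa10 ya21 za8) (ka xa15 ya46 za21) (ka xa8 ya39 za59) (ka xa26 ya10 za38) (ka xa20 ya34 za12) (ka xa17 ya45 za3) (ka xa19 ya5 za34) (ka xa19 ya10 za54) (ka xa17 ya42 za21) (ka xa17 ya42 za20) (ka xa20 ya53 za32) (ka xa12 ya4 za53) (ka xa9 ya38 za45) (ka xa9 ya38 za47) (ka xa8 ya40 za9) (ka xa8 ya40 za5) (ka xa25 ya43 za4) (ka xa15 ya6 za48) (ka xa26 ya5 za53)) (@D3.rec (fun _ => Pt) (ka xa21 ya26 za33) (ka xa8 ya40 za6) (ka xa26 ya10 za56) (ka xa26 ya10 za51) (ka xa25 ya13 za0) (ka xa26 ya10 za54) (ka xa8 ya40 za8)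 (ka xa25 ya45 za0) (ka xa25 ya44 za58) (ka xa26 ya11 za3) (ka xa20 ya13 za46) (ka xa26 ya11 za13) (ka xa8 ya55 za32) (ka xa17 ya33 za11) (ka xa22 ya4 za55) (ka xa12 ya53 za23) (ka xa16 ya2 za29) (ka xa16 ya2 za30) (ka xa17 ya37 za18) (ka xa17 ya37 za17) (ka xa8 ya40 za14) (ka xa26 ya11 za22) (ka xa21 ya32 za55) (ka xa9 ya36 za18) (ka xa17 ya38 za32) (ka xa10 ya35 za55) (ka xa9 ya35 za47) (ka xa9 ya35 za46) (ka xa8 ya40 za20) (ka xa26 ya11 za34) (ka xa21 ya31 za14) (ka xa9 ya35 za60) (ka xa24 ya44 za27) (ka xa8 ya40 za29) (ka xa8 ya40 za25) (ka xa26 ya11 za40) (ka xa15 ya40 za24) (ka xa9 ya33 za6) (ka xa17 ya42 za57) (ka xa9 ya33 za1) (ka xa8 ya40 za28) (ka xa26 ya11 za48) (ka xa26 ya11 za49) (ka xa26 ya11 za50) (ka xa26 ya11 za51) (ka xa26 ya11 za39) (ka xa21 ya41 za61) (ka xa17 ya38 za3) (ka xa24 ya44 za35) (ka xa24 ya44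 za36) (ka xa24 ya44 za37) (ka xa17 ya39 za0) (ka xa15 ya19 za3) (ka xa8 ya40 za33) (ka xa17 ya38 za52) (ka xa15 ya23 za27) (ka xa15 ya23 za26) (ka xa8 ya40 za35) (ka xa24 ya54 za54) (ka xa22 ya8 za6) (ka xa15 ya23 za35) (ka xa15 ya49 za7)) (@D3.rec (fun _ => Pt) (ka xa26 ya12 za28) (ka xa24 ya44 za47) (ka xa16 ya16 za11) (ka xa24 ya44 za48) (ka xa25 ya49 za59) (ka xa24 ya44 za46) (ka xa8 ya40 za41) (ka xa8 ya40 za42) (ka xa17 ya44 za0) (ka xa17 ya43 za60) (ka xa10 ya40 za25) (ka xa26 ya12 za37) (ka xa25 ya1 za14) (ka xa26 ya12 za38) (ka xa26 ya12 za39) (ka xa26 ya12 za40) (ka xa16 ya20 za31) (ka xa17 ya44 za37) (ka xa11 ya59 za46) (ka xa15 ya49 za10) (ka xa9 ya52 za55) (ka xa24 ya44 za6) (ka xa9 ya52 za52) (ka xa18 ya45 za26) (ka xa24 ya44 za44) (ka xa15 ya49 za57) (ka xa8 ya40 za53) (ka xa26 ya12 za58) (ka xa21 ya30 za60)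 (ka xa15 ya59 za5) (ka xa15 ya59 za6) (ka xa19 ya35 za52) (ka xa24 ya44 za40) (ka xa16 ya16 za48) (ka xa24 ya44 za41) (ka xa26 ya13 za6) (ka xa20 ya27 za39) (ka xa16 ya16 za47) (ka xa20 ya27 za47) (ka xa8 ya40 za60) (ka xa8 ya40 za61) (ka xa17 ya43 za43) (ka xa17 ya43 za39) (ka xa26 ya13 za10) (ka xa26 ya13 za11) (ka xa26 ya13 za12) (ka xa26 ya11 za19) (ka xa26 ya13 za13) (ka xa26 ya13 za14) (ka xa16 ya19 za42) (ka xa16 ya19 za46) (ka xa17 ya44 za40) (ka xa17 ya44 za41) (ka xa17 ya30 za22) (ka xa15 ya49 za58) (ka xa15 ya48 za61) (ka xa24 ya44 za54) (ka xa24 ya44 za55) (ka xa24 ya44 za56) (ka xa24 ya44 za57) (ka xa24 ya18 za26) (ka xa17 ya54 za14)) (@D3.rec (fun _ => Pt) (ka xa17 ya37 za38) (ka xa15 ya16 za42) (ka xa14 ya49 za51) (ka xa17 ya37 za45) (ka xa26 ya13 za53) (ka xa16 ya0 za46) (ka xa17 ya44 za1) (ka xa17 ya44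 za12) (ka xa16 ya1 za43) (ka xa8 ya41 za11) (ka xa8 ya41 za12) (ka xa16 ya15 za2) (ka xa26 ya13 za59) (ka xa26 ya13 za60) (ka xa26 ya13 za61) (ka xa26 ya14 za0) (ka xa26 ya14 za1) (ka xa16 ya21 za6) (ka xa16 ya21 za10) (ka xa17 ya43 za54) (ka xa17 ya43 za55) (ka xa9 ya54 za34) (ka xa16 ya17 za25) (ka xa17 ya43 za25) (ka xa17 ya43 za26) (ka xa17 ya43 za56) (ka xa17 ya43 za57) (ka xa17 ya43 za58) (ka xa24 ya45 za23) (ka xa9 ya52 za51) (ka xa24 ya44 za60) (ka xa19 ya0 za35) (ka xa21 ya42 za10) (ka xa24 ya45 za0) (ka xa24 ya45 za1) (ka xa19 ya23 za34) (ka xa10 ya37 za31) (ka xa26 ya14 za36) (ka xa18 ya18 za7) (ka xa16 ya0 za12) (ka xa16 ya0 za13) (ka xa15 ya39 za47) (ka xa17 ya43 za42) (ka xa26 ya10 za47) (ka xa17 ya43 za38) (ka xa17 ya43 za40) (ka xa8 ya41 za33) (ka xa16 ya15 za37) (ka xa16 ya15 za33) (ka xa25 ya1 za31) (ka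 xa17 ya14 za36) (ka xa21 ya34 za5) (ka xa21 ya34 za6) (ka xa16 ya20 za50) (ka xa16 ya20 za54) (ka xa17 ya44 za9) (ka xa17 ya44 za10) (ka xa14 ya4 za23) (ka xa17 ya43 za35) (ka xa17 ya30 za17) (ka xa17 ya43 za37) (ka xa17 ya44 za11)) (@D3.rec (fun _ => Pt) (ka xa21 ya33 za48) (ka xa17 ya38 za11) (ka xa24 ya45 za2) (ka xa21 ya56 za15) (ka xa17 ya38 za12) (ka xa15 ya59 za41) (ka xa15 ya37 za54) (ka xa17 ya54 za4) (ka xa18 ya4 za34) (ka xa24 ya45 za16) (ka xa15 ya46 za35) (ka xa17 ya54 za3) (ka xa8 ya41 za48) (ka xa16 ya19 za9) (ka xa16 ya19 za5) (ka xa26 ya15 za6) (ka xa21 ya58 za27) (ka xa21 ya58 za25) (ka xa21 ya58 za26) (ka xa17 ya54 za39) (ka xa17 ya54 za40) (ka xa17 ya54 za41) (ka xa17 ya54 za42) (ka xa17 ya36 za58) (ka xa21 ya58 za28) (ka xa16 ya16 za22) (ka xa24 ya45 za27) (ka xa15 ya45 za50) (ka xa17 ya54 za28) (ka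 xa9 ya39 za6) (ka xa17 ya54 za27) (ka xa24 ya45 za3) (ka xa8 ya41 za56) (ka xa8 ya41 za57) (ka xa8 ya41 za58) (ka xa20 ya54 za38) (ka xa20 ya54 za37) (ka xa13 ya58 za22) (ka xa26 ya15 za25) (ka xa16 ya20 za2) (ka xa16 ya20 za1) (ka xa26 ya15 za26) (ka xa25 ya0 za2) (ka xa12 ya19 za44) (ka xa14 ya9 za35) (ka xa21 ya33 za38) (ka xa18 ya28 za40) (ka xa18 ya28 za47) (ka xa18 ya28 za46) (ka xa8 ya42 za16) (ka xa9 ya39 za8) (ka xa8 ya42 za3) (ka xa8 ya42 za4) (ka xa8 ya42 za5) (ka xa9 ya39 za9) (ka xa25 ya33 za55) (ka xa26 ya15 za45) (ka xa21 ya50 za28) (ka xa8 ya42 za8) (ka xa16 ya8 za35) (ka xa14 ya35 za10) (ka xa14 ya35 za9)) (@D3.rec (fun _ => Pt) (ka xa8 ya42 za9) (ka xa21 ya26 za30) (ka xa21 ya59 za38) (ka xa15 ya59 za44) (ka xa19 ya19 za57) (ka xa12 ya19 za49) (ka xa21 ya50 za27) (ka xa12 ya23 za56) (ka xa26 ya15 za50)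 (ka xa21 ya33 za49) (ka xa14 ya9 za32) (ka xa12 ya19 za48) (ka xa8 ya42 za14) (ka xa8 ya42 za15) (ka xa26 ya16 za0) (ka xa22 ya15 za7) (ka xa18 ya28 za11) (ka xa14 ya15 za16) (ka xa26 ya15 za58) (ka xa19 ya5 za12) (ka xa26 ya15 za59) (ka xa26 ya15 za60) (ka xa26 ya15 za61) (ka xa12 ya45 za9) (ka xa26 ya12 za3) (ka xa26 ya15 za43) (ka xa8 ya42 za17) (ka xa26 ya16 za9) (ka xa26 ya16 za10) (ka xa17 ya54 za31) (ka xa8 ya42 za19) (ka xa26 ya16 za16) (ka xa18 ya30 za18) (ka xa15 ya11 za30) (ka xa17 ya54 za10) (ka xa17 ya54 za11) (ka xa17 ya54 za12) (ka xa26 ya16 za26) (ka xa24 ya45 za36) (ka xa18 ya28 za43) (ka xa26 ya4 za34) (ka xa24 ya45 za38) (ka xa24 ya45 za39) (ka xa26 ya15 za0) (ka xa17 ya41 za48) (ka xa17 ya41 za49) (ka xa26 ya15 za24) (ka xa17 ya41 za42) (ka xa17 ya41 za43) (ka xa24 ya45 za40) (ka xa24 ya45 za41) (ka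 xa24 ya45 za42) (ka xa9 ya59 za48) (ka xa17 ya44 za49) (ka xa24 ya45 za44) (ka xa26 ya14 za43) (ka xa17 ya44 za50) (ka xa24 ya45 za45) (ka xa10 ya50 za22) (ka xa10 ya50 za31) (ka xa10 ya50 za30) (ka xa8 ya42 za34)) (@D3.rec (fun _ => Pt) (ka xa26 ya16 za48) (ka xa25 ya4 za7) (ka xa16 ya7 za60) (ka xa15 ya58 za31) (ka xa15 ya35 za28) (ka xa16 ya17 za14) (ka xa17 ya54 za0) (ka xa26 ya16 za61) (ka xa17 ya53 za59) (ka xa16 ya17 za13) (ka xa17 ya53 za60) (ka xa8 ya42 za42) (ka xa25 ya3 za26) (ka xa26 ya17 za5) (ka xa26 ya17 za6) (ka xa26 ya17 za7) (ka xa9 ya52 za54) (ka xa12 ya58 za51) (ka xa9 ya52 za56) (ka xa11 ya6 za11) (ka xa16 ya21 za12) (ka xa16 ya21 za13) (ka xa16 ya21 za14) (ka xa16 ya20 za44) (ka xa16 ya20 za45) (ka xa16 ya20 za46) (ka xa8 ya42 za58) (ka xa8 ya42 za59) (ka xa8 ya43 za0) (ka xa11 ya15 za32) (ka xa11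 ya15 za33) (ka xa11 ya15 za30) (ka xa11 ya15 za31) (ka xa11 ya15 za13) (ka xa11 ya15 za6) (ka xa11 ya21 za22) (ka xa26 ya17 za19) (ka xa18 ya21 za61) (ka xa26 ya17 za20) (ka xa18 ya21 za59) (ka xa26 ya17 za21) (ka xa24 ya55 za51) (ka xa16 ya15 za49) (ka xa24 ya45 za51) (ka xa24 ya45 za52) (ka xa21 ya15 za5) (ka xa16 ya15 za50) (ka xa24 ya45 za54) (ka xa24 ya45 za55) (ka xa17 ya57 za5) (ka xa23 ya10 za7) (ka xa24 ya45 za56) (ka xa24 ya45 za57) (ka xa26 ya17 za60) (ka xa8 ya43 za8) (ka xa19 ya16 za51) (ka xa8 ya43 za10) (ka xa21 ya29 za38) (ka xa23 ya35 za29) (ka xa19 ya16 za50) (ka xa15 ya28 za27) (ka xa16 ya7 za25)) (@D3.rec (fun _ => Pt) (ka xa21 ya32 za52) (ka xa16 ya17 za40) (ka xa16 ya17 za39) (ka xa24 ya45 za49) (ka xa8 ya43 za18) (ka xa18 ya35 za7) (ka xa17 ya38 za36) (ka xa18 ya26 za34) (ka xa26 ya18 za9) (ka xa17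 ya54 za15) (ka xa17 ya54 za16) (ka xa17 ya54 za17) (ka xa17 ya54 za18) (ka xa26 ya18 za19) (ka xa16 ya8 za4) (ka xa16 ya21 za4) (ka xa8 ya43 za29) (ka xa8 ya43 za30) (ka xa10 ya55 za46) (ka xa18 ya38 za31) (ka xa9 ya3 za2) (ka xa22 ya50 za61) (ka xa22 ya51 za0) (ka xa9 ya43 za13) (ka xa18 ya15 za17) (ka xa14 ya43 za8) (ka xa21 ya15 za7) (ka xa9 ya54 za13) (ka xa17 ya54 za33) (ka xa13 ya40 za41) (ka xa24 ya55 za56) (ka xa16 ya15 za16) (ka xa17 ya54 za35) (ka xa17 ya54 za36) (ka xa9 ya10 za33) (ka xa8 ya43 za38) (ka xa11 ya15 za37) (ka xa11 ya15 za38) (ka xa11 ya15 za35) (ka xa11 ya15 za36) (ka xa11 ya15 za39) (ka xa11 ya16 za5) (ka xa16 ya23 za36) (ka xa16 ya23 za34) (ka xa16 ya19 za23) (ka xa16 ya19 za24) (ka xa16 ya19 za25) (ka xa15 ya23 za36) (ka xa15 ya23 za37) (ka xa24 ya55 za30) (ka xa16 ya16 za53) (ka xa17 ya46 za58)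 (ka xa24 ya45 za59) (ka xa18 ya21 za47) (ka xa16 ya16 za54) (ka xa17 ya46 za57) (ka xa24 ya45 za61) (ka xa18 ya21 za48) (ka xa15 ya5 za48) (ka xa15 ya5 za52) (ka xa11 ya12 za33) (ka xa11 ya12 za34)) (@D3.rec (fun _ => Pt) (ka xa20 ya8 za1) (ka xa17 ya15 za28) (ka xa21 ya10 za59) (ka xa10 ya16 za61) (ka xa16 ya20 za15) (ka xa10 ya38 za46) (ka xa16 ya16 za17) (ka xa17 ya54 za44) (ka xa17 ya54 za45) (ka xa22 ya49 za42) (ka xa16 ya16 za18) (ka xa13 ya26 za41) (ka xa16 ya19 za20) (ka xa16 ya19 za21) (ka xa16 ya19 za22) (ka xa17 ya45 za43) (ka xa10 ya29 za2) (ka xa24 ya46 za1) (ka xa24 ya46 za2) (ka xa10 ya30 za3) (ka xa18 ya31 za20) (ka xa18 ya39 za14) (ka xa26 ya19 za30) (ka xa21 ya12 za23) (ka xa22 ya51 za58) (ka xa10 ya31 za17) (ka xa22 ya51 za28) (ka xa22 ya51 za30) (ka xa22 ya51 za60) (ka xa19 ya17 za45) (ka xa19 ya20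 za43) (ka xa19 ya14 za58) (ka xa18 ya38 za42) (ka xa24 ya46 za3) (ka xa13 ya41 za39) (ka xa8 ya44 za46) (ka xa8 ya44 za49) (ka xa22 ya51 za27) (ka xa22 ya51 za29) (ka xa24 ya55 za24) (ka xa9 ya1 za25) (ka xa9 ya45 za17) (ka xa8 ya44 za29) (ka xa18 ya9 za17) (ka xa20 ya10 za51) (ka xa20 ya20 za54) (ka xa18 ya48 za36) (ka xa18 ya38 za41) (ka xa11 ya15 za5) (ka xa25 ya2 za15) (ka xa8 ya44 za40) (ka xa8 ya44 za41) (ka xa8 ya44 za42) (ka xa15 ya51 za41) (ka xa8 ya44 za45) (ka xa8 ya44 za35) (ka xa15 ya7 za23) (ka xa26 ya19 za51) (ka xa18 ya39 za61) (ka xa18 ya59 za26) (ka xa8 ya44 za38) (ka xa20 ya10 za39)) (@D3.rec (fun _ => Pt) (ka xa26 ya19 za59) (ka xa18 ya47 za12) (ka xa16 ya35 za17) (ka xa15 ya50 za8) (ka xa10 ya26 za50) (ka xa18 ya34 za42) (ka xa11 ya6 za18) (ka xa18 ya33 za25) (ka xa15 ya11 za24) (ka xa25 ya15 za20)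 (ka xa9 ya53 za56) (ka xa19 ya18 za12) (ka xa26 ya19 za50) (ka xa26 ya19 za40) (ka xa19 ya2 za18) (ka xa16 ya35 za29) (ka xa19 ya0 za32) (ka xa18 ya49 za44) (ka xa18 ya49 za27) (ka xa11 ya39 za20) (ka xa8 ya50 za20) (ka xa8 ya50 za23) (ka xa8 ya50 za22) (ka xa11 ya39 za19) (ka xa8 ya44 za53) (ka xa8 ya44 za54) (ka xa16 ya56 za25) (ka xa26 ya20 za19) (ka xa26 ya20 za20) (ka xa21 ya10 za23) (ka xa24 ya28 za17) (ka xa10 ya29 za59) (ka xa18 ya59 za36) (ka xa24 ya46 za32) (ka xa24 ya46 za33) (ka xa21 ya4 za15) (ka xa24 ya46 za34) (ka xa19 ya45 za44) (ka xa24 ya46 za35) (ka xa8 ya44 za60) (ka xa8 ya44 za61) (ka xa20 ya10 za35) (ka xa10 ya41 za50) (ka xa10 ya41 za32) (ka xa22 ya35 za58) (ka xa14 ya53 za50) (ka xa14 ya53 za49) (ka xa23 ya20 za34) (ka xa13 ya41 za56) (ka xa16 ya35 za14) (ka xa17 ya38 za13) (ka xa8 ya52 za41) (ka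 xa26 ya20 za46) (ka xa26 ya20 za48) (ka xa15 ya19 za43) (ka xa9 ya53 za51) (ka xa18 ya30 za22) (ka xa26 ya13 za30) (ka xa24 ya46 za44) (ka xa9 ya53 za46) (ka xa18 ya36 za56) (ka xa24 ya46 za46)) (@D3.rec (fun _ => Pt) (ka xa24 ya46 za47) (ka xa24 ya46 za48) (ka xa24 ya46 za49) (ka xa24 ya46 za50) (ka xa20 ya8 za4) (ka xa8 ya45 za11) (ka xa18 ya58 za61) (ka xa21 ya53 za2) (ka xa18 ya58 za60) (ka xa26 ya21 za9) (ka xa24 ya46 za52) (ka xa24 ya46 za53) (ka xa16 ya33 za3) (ka xa16 ya25 za51) (ka xa20 ya20 za61) (ka xa16 ya35 za6) (ka xa21 ya53 za3) (ka xa21 ya53 za4) (ka xa18 ya35 za56) (ka xa18 ya29 za9) (ka xa18 ya59 za32) (ka xa12 ya6 za55) (ka xa18 ya59 za33) (ka xa16 ya32 za36) (ka xa20 ya7 za22) (ka xa24 ya46 za56) (ka xa18 ya19 za25) (ka xa24 ya46 za57) (ka xa21 ya10 za57) (ka xa21 ya10 za58) (ka xa16 ya34 za25) (ka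 xa26 ya21 za35) (ka xa8 ya45 za27) (ka xa23 ya42 za36) (ka xa16 ya20 za43) (ka xa23 ya42 za34) (ka xa16 ya20 za42) (ka xa16 ya26 za4) (ka xa9 ya39 za26) (ka xa12 ya6 za32) (ka xa10 ya1 za51) (ka xa12 ya6 za34) (ka xa12 ya6 za35) (ka xa26 ya21 za45) (ka xa12 ya22 za53) (ka xa12 ya22 za54) (ka xa12 ya22 za55) (ka xa12 ya6 za54) (ka xa12 ya6 za57) (ka xa9 ya51 za26) (ka xa12 ya22 za0) (ka xa16 ya31 za24) (ka xa23 ya3 za36) (ka xa11 ya37 za21) (ka xa11 ya37 za22) (ka xa11 ya37 za24) (ka xa11 ya37 za25) (ka xa12 ya12 za49) (ka xa11 ya37 za15) (ka xa11 ya36 za22) (ka xa11 ya49 za2) (ka xa21 ya13 za53)) (@D3.rec (fun _ => Pt) (ka xa23 ya3 za57) (ka xa23 ya3 za58) (ka xa23 ya3 za53) (ka xa23 ya3 za54) (ka xa11 ya49 za49) (ka xa15 ya25 za47) (ka xa24 ya56 za56) (ka xa13 ya23 za16) (ka xa13 ya55 za21) (ka xa23 ya3 za32) (ka xa16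 ya32 za60) (ka xa17 ya45 za40) (ka xa16 ya32 za59) (ka xa23 ya3 za19) (ka xa13 ya26 za40) (ka xa12 ya8 za41) (ka xa12 ya21 za58) (ka xa9 ya25 za35) (ka xa16 ya26 za7) (ka xa12 ya6 za53) (ka xa16 ya26 za9) (ka xa16 ya26 za10) (ka xa23 ya15 za1) (ka xa9 ya25 za37) (ka xa12 ya6 za30) (ka xa16 ya26 za5) (ka xa16 ya26 za6) (ka xa11 ya23 za43) (ka xa12 ya7 za27) (ka xa8 ya46 za20) (ka xa8 ya46 za21) (ka xa8 ya46 za22) (ka xa8 ya46 za23) (ka xa8 ya46 za26) (ka xa24 ya46 za58) (ka xa9 ya9 za33) (ka xa9 ya16 za24) (ka xa12 ya5 za57) (ka xa13 ya33 za53) (ka xa16 ya32 za52) (ka xa20 ya41 za9) (ka xa26 ya22 za6) (ka xa26 ya22 za7) (ka xa26 ya22 za8) (ka xa23 ya4 za20) (ka xa24 ya56 za57) (ka xa20 ya52 za31) (ka xa21 ya53 za61) (ka xa26 ya22 za9) (ka xa12 ya22 za23) (ka xa9 ya26 za45) (ka xa21 ya54 za2) (ka xa15 ya55 za55) (ka xa12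 ya22 za16) (ka xa23 ya3 za44) (ka xa20 ya44 za50) (ka xa11 ya37 za11) (ka xa12 ya22 za45) (ka xa12 ya22 za46) (ka xa12 ya22 za30) (ka xa12 ya22 za31) (ka xa12 ya22 za32)) (@D3.rec (fun _ => Pt) (ka xa12 ya22 za33) (ka xa12 ya22 za34) (ka xa12 ya22 za35) (ka xa12 ya32 za10) (ka xa21 ya38 za20) (ka xa12 ya22 za39) (ka xa12 ya22 za42) (ka xa12 ya22 za38) (ka xa12 ya22 za47) (ka xa12 ya22 za48) (ka xa12 ya22 za49) (ka xa12 ya22 za50) (ka xa12 ya6 za26) (ka xa12 ya6 za28) (ka xa12 ya5 za52) (ka xa12 ya5 za54) (ka xa12 ya23 za6) (ka xa12 ya23 za7) (ka xa12 ya23 za8) (ka xa8 ya47 za10) (ka xa11 ya37 za26) (ka xa11 ya37 za28) (ka xa16 ya28 za16) (ka xa8 ya46 za45) (ka xa8 ya46 za46) (ka xa8 ya46 za47) (ka xa8 ya46 za48) (ka xa9 ya7 za48) (ka xa20 ya31 za58) (ka xa26 ya22 za55) (ka xa19 ya58 za60) (ka xa26 ya22 za56) (ka xa20 ya18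 za37) (ka xa19 ya48 za44) (ka xa19 ya48 za11) (ka xa21 ya29 za5) (ka xa19 ya48 za45) (ka xa19 ya48 za7) (ka xa26 ya22 za58) (ka xa19 ya49 za31) (ka xa24 ya47 za6) (ka xa23 ya43 za15) (ka xa21 ya29 za25) (ka xa21 ya12 za34) (ka xa15 ya6 za7) (ka xa8 ya46 za52) (ka xa14 ya1 za58) (ka xa25 ya2 za6) (ka xa21 ya29 za20) (ka xa24 ya47 za7) (ka xa18 ya18 za47) (ka xa16 ya23 za13) (ka xa21 ya11 za45) (ka xa21 ya13 za2) (ka xa8 ya51 za57) (ka xa12 ya6 za3) (ka xa22 ya52 za24) (ka xa11 ya33 za34) (ka xa8 ya47 za5) (ka xa8 ya47 za7) (ka xa8 ya47 za8) (ka xa8 ya47 za9)) (@D3.rec (fun _ => Pt) (ka xa8 ya47 za11) (ka xa8 ya47 za12) (ka xa8 ya47 za14) (ka xa8 ya47 za15) (ka xa16 ya23 za37) (ka xa16 ya24 za25) (ka xa16 ya24 za26) (ka xa16 ya24 za18) (ka xa14 ya44 za24) (ka xa16 ya24 za20) (ka xa16 ya24 za21) (ka xa11 ya44 za6) (ka xa24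 ya47 za0) (ka xa22 ya42 za48) (ka xa26 ya23 za20) (ka xa26 ya23 za21) (ka xa26 ya23 za22) (ka xa20 ya1 za36) (ka xa19 ya17 za49) (ka xa19 ya17 za52) (ka xa23 ya10 za17) (ka xa22 ya46 za26) (ka xa26 ya23 za23) (ka xa26 ya22 za28) (ka xa25 ya43 za54) (ka xa25 ya59 za14) (ka xa26 ya22 za52) (ka xa26 ya23 za24) (ka xa26 ya23 za25) (ka xa21 ya11 za11) (ka xa23 ya7 za55) (ka xa26 ya23 za26) (ka xa9 ya10 za35) (ka xa14 ya25 za42) (ka xa13 ya42 za16) (ka xa13 ya43 za15) (ka xa26 ya23 za27) (ka xa13 ya42 za15) (ka xa25 ya59 za48) (ka xa15 ya6 za11) (ka xa8 ya47 za16) (ka xa26 ya23 za57) (ka xa13 ya38 za20) (ka xa17 ya56 za58) (ka xa17 ya56 za59) (ka xa17 ya56 za60) (ka xa17 ya57 za0) (ka xa19 ya39 za61) (ka xa19 ya40 za0) (ka xa17 ya57 za4) (ka xa17 ya57 za6) (ka xa18 ya2 za37) (ka xa16 ya28 za57) (ka xa17 ya57 za8) (ka xa19 ya40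 za1) (ka xa16 ya28 za58) (ka xa17 ya57 za10) (ka xa17 ya57 za11) (ka xa17 ya57 za12) (ka xa25 ya4 za55) (ka xa10 ya56 za57) (ka xa17 ya57 za13)) (@D3.rec (fun _ => Pt) (ka xa17 ya57 za14) (ka xa24 ya8 za51) (ka xa17 ya57 za22) (ka xa17 ya57 za23) (ka xa24 ya56 za19) (ka xa24 ya56 za18) (ka xa26 ya24 za21) (ka xa15 ya34 za30) (ka xa17 ya57 za25) (ka xa17 ya57 za26) (ka xa17 ya57 za27) (ka xa16 ya33 za55) (ka xa17 ya57 za32) (ka xa22 ya54 za44) (ka xa16 ya29 za4) (ka xa17 ya57 za30) (ka xa17 ya57 za31) (ka xa17 ya57 za33) (ka xa21 ya14 za57) (ka xa21 ya14 za55) (ka xa14 ya27 za59) (ka xa17 ya57 za34) (ka xa13 ya49 za11) (ka xa13 ya43 za33) (ka xa17 ya57 za35) (ka xa26 ya24 za39) (ka xa25 ya5 za46) (ka xa8 ya47 za39) (ka xa26 ya24 za42) (ka xa26 ya24 za38) (ka xa16 ya27 za31) (ka xa16 ya27 za30) (ka xa17 ya57 za39) (ka xa17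 ya57 za40) (ka xa8 ya49 za33) (ka xa11 ya32 za34) (ka xa11 ya32 za33) (ka xa11 ya36 za34) (ka xa13 ya32 za6) (ka xa17 ya57 za41) (ka xa17 ya57 za42) (ka xa20 ya7 za61) (ka xa11 ya32 za40) (ka xa11 ya32 za41) (ka xa11 ya32 za42) (ka xa11 ya32 za43) (ka xa20 ya18 za50) (ka xa20 ya18 za51) (ka xa16 ya33 za30) (ka xa19 ya53 za55) (ka xa24 ya47 za11) (ka xa16 ya31 za53) (ka xa11 ya7 za45) (ka xa11 ya7 za46) (ka xa19 ya53 za58) (ka xa18 ya18 za56) (ka xa16 ya32 za27) (ka xa16 ya33 za35) (ka xa21 ya28 za39) (ka xa20 ya6 za24) (ka xa24 ya47 za12) (ka xa10 ya57 za57)) (@D3.rec (fun _ => Pt) (ka xa24 ya47 za14) (ka xa24 ya47 za15) (ka xa18 ya40 za53) (ka xa16 ya13 za15) (ka xa16 ya13 za14) (ka xa8 ya47 za60) (ka xa18 ya40 za51) (ka xa18 ya40 za52) (ka xa16 ya28 za9) (ka xa16 ya28 za8) (ka xa24 ya56 za45) (ka xa22 ya38 za53) (ka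 xa18 ya0 za34) (ka xa8 ya51 za30) (ka xa16 ya32 za9) (ka xa23 ya7 za42) (ka xa16 ya25 za22) (ka xa8 ya48 za21) (ka xa8 ya48 za23) (ka xa8 ya48 za25) (ka xa8 ya48 za26) (ka xa8 ya48 za29) (ka xa9 ya9 za39) (ka xa15 ya6 za8) (ka xa20 ya25 za26) (ka xa20 ya44 za57) (ka xa24 ya47 za8) (ka xa16 ya59 za32) (ka xa11 ya24 za37) (ka xa20 ya5 za41) (ka xa22 ya47 za18) (ka xa26 ya25 za27) (ka xa24 ya9 za17) (ka xa22 ya52 za43) (ka xa22 ya52 za44) (ka xa22 ya52 za45) (ka xa26 ya25 za28) (ka xa13 ya32 za15) (ka xa23 ya7 za39) (ka xa13 ya42 za4) (ka xa25 ya12 za23) (ka xa25 ya12 za22) (ka xa20 ya36 za60) (ka xa22 ya52 za39) (ka xa20 ya7 za43) (ka xa20 ya7 za48) (ka xa20 ya7 za49) (ka xa16 ya33 za44) (ka xa21 ya4 za10) (ka xa21 ya4 za11) (ka xa13 ya32 za5) (ka xa21 ya4 za14) (ka xa26 ya25 za54) (ka xa11 ya13 za44) (ka xa21 ya4 za16)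 (ka xa11 ya13 za52) (ka xa21 ya4 za18) (ka xa16 ya26 za52) (ka xa16 ya26 za55) (ka xa21 ya4 za19) (ka xa8 ya48 za40) (ka xa26 ya25 za60)) (@D3.rec (fun _ => Pt) (ka xa21 ya4 za20) (ka xa21 ya4 za21) (ka xa21 ya4 za22) (ka xa21 ya4 za23) (ka xa16 ya27 za14) (ka xa24 ya8 za50) (ka xa12 ya59 za38) (ka xa19 ya37 za49) (ka xa10 ya24 za25) (ka xa21 ya4 za24) (ka xa21 ya4 za25) (ka xa8 ya50 za9) (ka xa8 ya50 za16) (ka xa8 ya50 za17) (ka xa8 ya50 za18) (ka xa8 ya50 za15) (ka xa8 ya50 za24) (ka xa19 ya50 za5) (ka xa16 ya36 za2) (ka xa11 ya1 za40) (ka xa11 ya1 za39) (ka xa24 ya56 za46) (ka xa23 ya13 za40) (ka xa24 ya56 za47) (ka xa23 ya14 za59) (ka xa23 ya13 za38) (ka xa9 ya47 za26) (ka xa9 ya47 za33) (ka xa9 ya14 za48) (ka xa9 ya14 za49) (ka xa9 ya14 za50) (ka xa9 ya14 za51) (ka xa9 ya25 za17) (ka xa17 ya2 za41) (ka xa11 ya7 za47)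 (ka xa11 ya7 za48) (ka xa8 ya49 za28) (ka xa10 ya4 za9) (ka xa10 ya4 za10) (ka xa10 ya1 za31) (ka xa10 ya1 za32) (ka xa17 ya2 za57) (ka xa19 ya48 za23) (ka xa20 ya1 za26) (ka xa16 ya29 za45) (ka xa16 ya29 za44) (ka xa8 ya49 za32) (ka xa11 ya11 za9) (ka xa11 ya21 za40) (ka xa17 ya0 za61) (ka xa21 ya30 za7) (ka xa21 ya30 za8) (ka xa21 ya30 za9) (ka xa17 ya1 za13) (ka xa12 ya8 za22) (ka xa20 ya37 za1) (ka xa17 ya3 za53) (ka xa9 ya6 za31) (ka xa20 ya22 za52) (ka xa9 ya6 za39) (ka xa9 ya6 za45) (ka xa11 ya29 za25)) (@D3.rec (fun _ => Pt) (ka xa11 ya8 za33) (ka xa8 ya57 za32) (ka xa11 ya20 za59) (ka xa21 ya4 za13) (ka xa19 ya0 za33) (ka xa21 ya4 za17) (ka xa25 ya32 za35) (ka xa11 ya7 za53) (ka xa11 ya32 za35) (ka xa20 ya1 za59) (ka xa17 ya3 za46) (ka xa17 ya3 za48) (ka xa14 ya19 za49) (ka xa14 ya50 za49) (ka xa24 ya32 za20)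 (ka xa26 ya24 za48) (ka xa11 ya36 za19) (ka xa8 ya49 za49) (ka xa8 ya49 za57) (ka xa8 ya49 za53) (ka xa8 ya50 za5) (ka xa8 ya50 za7) (ka xa8 ya50 za8) (ka xa11 ya36 za23) (ka xa8 ya50 za11) (ka xa8 ya50 za12) (ka xa23 ya3 za46) (ka xa17 ya10 za61) (ka xa17 ya2 za27) (ka xa12 ya44 za20) (ka xa20 ya6 za29) (ka xa21 ya14 za16) (ka xa16 ya57 za34) (ka xa18 ya57 za2) (ka xa17 ya15 za7) (ka xa17 ya15 za23) (ka xa18 ya2 za14) (ka xa26 ya27 za2) (ka xa11 ya13 za51) (ka xa17 ya15 za18) (ka xa16 ya51 za42) (ka xa12 ya44 za14) (ka xa9 ya29 za26) (ka xa12 ya44 za15) (ka xa12 ya44 za16) (ka xa15 ya6 za16) (ka xa20 ya0 za30) (ka xa20 ya17 za26) (ka xa19 ya2 za30) (ka xa20 ya17 za25) (ka xa24 ya36 za47) (ka xa24 ya35 za22) (ka xa25 ya40 za41) (ka xa19 ya50 za6) (ka xa20 ya45 za54) (ka xa20 ya13 za56) (ka xa20 ya6 za32) (ka xa20 ya6 za31)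 (ka xa16 ya51 za41) (ka xa15 ya50 za25) (ka xa11 ya36 za24) (ka xa8 ya50 za13)) (@D3.rec (fun _ => Pt) (ka xa26 ya27 za19) (ka xa26 ya26 za18) (ka xa17 ya59 za52) (ka xa17 ya34 za46) (ka xa26 ya26 za12) (ka xa17 ya34 za45) (ka xa11 ya36 za33) (ka xa20 ya6 za38) (ka xa26 ya26 za13) (ka xa26 ya26 za14) (ka xa26 ya26 za15) (ka xa26 ya26 za16) (ka xa26 ya26 za17) (ka xa22 ya47 za22) (ka xa20 ya37 za0) (ka xa25 ya46 za27) (ka xa22 ya52 za9) (ka xa20 ya36 za48) (ka xa26 ya20 za15) (ka xa20 ya36 za49) (ka xa26 ya20 za14) (ka xa21 ya2 za53) (ka xa26 ya27 za60) (ka xa26 ya26 za20) (ka xa16 ya23 za51) (ka xa8 ya50 za30) (ka xa8 ya50 za31) (ka xa8 ya50 za32) (ka xa20 ya9 za51) (ka xa21 ya28 za61) (ka xa26 ya28 za2) (ka xa26 ya28 za3) (ka xa21 ya53 za34) (ka xa21 ya38 za7) (ka xa20 ya49 za24) (ka xa26 ya28 za4) (ka xa19 ya39 za21)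 (ka xa18 ya0 za38) (ka xa26 ya28 za5) (ka xa23 ya20 za55) (ka xa23 ya14 za54) (ka xa17 ya22 za56) (ka xa17 ya15 za14) (ka xa17 ya15 za15) (ka xa17 ya15 za16) (ka xa17 ya15 za17) (ka xa16 ya32 za25) (ka xa11 ya13 za56) (ka xa11 ya34 za24) (ka xa24 ya47 za25) (ka xa17 ya15 za19) (ka xa17 ya15 za20) (ka xa17 ya15 za21) (ka xa16 ya27 za51) (ka xa17 ya15 za22) (ka xa17 ya15 za24) (ka xa14 ya5 za15) (ka xa14 ya5 za16) (ka xa15 ya0 za7) (ka xa8 ya50 za47) (ka xa8 ya50 za48) (ka xa8 ya50 za49)) (@D3.rec (fun _ => Pt) (ka xa19 ya18 za37) (ka xa26 ya28 za26) (ka xa26 ya28 za27) (ka xa14 ya38 za26) (ka xa26 ya28 za28) (ka xa22 ya47 za60) (ka xa26 ya28 za29) (ka xa26 ya28 za30) (ka xa20 ya9 za9) (ka xa16 ya28 za14) (ka xa8 ya50 za51) (ka xa26 ya28 za47) (ka xa12 ya46 za11) (ka xa16 ya33 za36) (ka xa16 ya33 za37) (ka xa16 ya33 za38)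 (ka xa12 ya8 za7) (ka xa12 ya8 za5) (ka xa11 ya33 za60) (ka xa8 ya50 za54) (ka xa17 ya18 za33) (ka xa26 ya28 za57) (ka xa26 ya28 za58) (ka xa16 ya33 za42) (ka xa16 ya33 za43) (ka xa16 ya31 za46) (ka xa16 ya33 za46) (ka xa16 ya27 za56) (ka xa20 ya28 za49) (ka xa16 ya33 za47) (ka xa16 ya33 za48) (ka xa16 ya33 za49) (ka xa16 ya33 za50) (ka xa26 ya29 za17) (ka xa16 ya33 za52) (ka xa16 ya33 za31) (ka xa16 ya23 za23) (ka xa13 ya16 za49) (ka xa8 ya51 za1) (ka xa8 ya51 za2) (ka xa8 ya51 za3) (ka xa20 ya30 za40) (ka xa26 ya29 za25) (ka xa24 ya8 za19) (ka xa25 ya52 za16) (ka xa24 ya47 za52) (ka xa22 ya51 za21) (ka xa20 ya30 za44) (ka xa26 ya29 za21) (ka xa17 ya15 za12) (ka xa26 ya29 za22) (ka xa26 ya29 za23) (ka xa16 ya24 za39) (ka xa8 ya51 za4) (ka xa26 ya29 za36) (ka xa18 ya19 za49) (ka xa21 ya11 za46) (ka xa21 ya11 za47) (ka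 xa21 ya11 za48) (ka xa16 ya24 za12) (ka xa16 ya24 za10) (ka xa24 ya47 za31)) (@D3.rec (fun _ => Pt) (ka xa24 ya47 za44) (ka xa24 ya47 za45) (ka xa24 ya47 za46) (ka xa16 ya23 za12) (ka xa24 ya47 za47) (ka xa24 ya47 za48) (ka xa26 ya29 za54) (ka xa24 ya47 za50) (ka xa18 ya6 za41) (ka xa24 ya29 za7) (ka xa19 ya59 za47) (ka xa18 ya29 za58) (ka xa8 ya51 za16) (ka xa8 ya51 za17) (ka xa20 ya34 za43) (ka xa21 ya7 za50) (ka xa22 ya51 za37) (ka xa26 ya29 za56) (ka xa26 ya19 za33) (ka xa26 ya29 za57) (ka xa21 ya53 za38) (ka xa20 ya35 za54) (ka xa20 ya8 za40) (ka xa21 ya11 za52) (ka xa21 ya11 za53) (ka xa23 ya22 za22) (ka xa24 ya47 za55) (ka xa19 ya59 za42) (ka xa19 ya59 za43) (ka xa19 ya48 za16) (ka xa16 ya27 za48) (ka xa16 ya32 za35) (ka xa20 ya30 za8) (ka xa20 ya31 za21) (ka xa20 ya31 za22) (ka xa16 ya27 za57) (ka xa16 ya32 za13)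 (ka xa16 ya32 za14) (ka xa16 ya32 za15) (ka xa12 ya52 za61) (ka xa26 ya25 za23) (ka xa26 ya25 za24) (ka xa16 ya32 za23) (ka xa16 ya32 za24) (ka xa16 ya28 za47) (ka xa20 ya31 za23) (ka xa16 ya32 za26) (ka xa16 ya32 za29) (ka xa16 ya32 za30) (ka xa16 ya32 za31) (ka xa16 ya32 za32) (ka xa26 ya30 za42) (ka xa16 ya32 za34) (ka xa12 ya8 za26) (ka xa18 ya2 za34) (ka xa16 ya27 za11) (ka xa13 ya42 za61) (ka xa21 ya10 za29) (ka xa21 ya10 za30) (ka xa21 ya10 za31) (ka xa21 ya10 za32) (ka xa13 ya42 za11)) (@D3.rec (fun _ => Pt) (ka xa13 ya42 za12) (ka xa26 ya31 za2) (ka xa21 ya10 za34) (ka xa21 ya10 za35) (ka xa21 ya10 za36) (ka xa21 ya10 za37) (ka xa20 ya31 za26) (ka xa23 ya4 za56) (ka xa21 ya10 za41) (ka xa21 ya10 za42) (ka xa21 ya10 za43) (ka xa21 ya10 za44) (ka xa23 ya8 za42) (ka xa21 ya10 za46) (ka xa21 ya10 za47) (ka xa21 ya10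 za48) (ka xa21 ya10 za49) (ka xa18 ya45 za59) (ka xa21 ya10 za51) (ka xa22 ya20 za17) (ka xa21 ya10 za53) (ka xa26 ya21 za34) (ka xa26 ya21 za33) (ka xa8 ya51 za50) (ka xa26 ya31 za45) (ka xa16 ya23 za30) (ka xa9 ya10 za34) (ka xa24 ya39 za25) (ka xa13 ya8 za14) (ka xa21 ya11 za2) (ka xa21 ya11 za3) (ka xa21 ya11 za4) (ka xa21 ya11 za5) (ka xa11 ya8 za7) (ka xa11 ya38 za6) (ka xa26 ya23 za16) (ka xa26 ya32 za1) (ka xa18 ya2 za36) (ka xa17 ya57 za9) (ka xa18 ya2 za38) (ka xa26 ya32 za7) (ka xa26 ya32 za9) (ka xa10 ya20 za20) (ka xa10 ya33 za1) (ka xa10 ya33 za2) (ka xa18 ya14 za29) (ka xa18 ya14 za28) (ka xa10 ya33 za7) (ka xa16 ya35 za31) (ka xa8 ya52 za5) (ka xa21 ya44 za50) (ka xa26 ya32 za18) (ka xa10 ya1 za60) (ka xa10 ya1 za61) (ka xa10 ya2 za0) (ka xa10 ya2 za1) (ka xa16 ya35 za34) (ka xa16 ya35 za33) (ka xa8 ya52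 za9) (ka xa16 ya53 za17) (ka xa13 ya40 za45) (ka xa10 ya22 za12)) (@D3.rec (fun _ => Pt) (ka xa10 ya22 za13) (ka xa10 ya22 za14) (ka xa10 ya22 za16) (ka xa10 ya22 za17) (ka xa10 ya22 za18) (ka xa10 ya22 za20) (ka xa16 ya23 za15) (ka xa8 ya52 za15) (ka xa21 ya13 za61) (ka xa16 ya35 za48) (ka xa16 ya35 za49) (ka xa16 ya35 za43) (ka xa8 ya52 za18) (ka xa21 ya14 za5) (ka xa16 ya22 za49) (ka xa16 ya35 za51) (ka xa16 ya35 za52) (ka xa16 ya22 za2) (ka xa8 ya52 za25) (ka xa8 ya52 za21) (ka xa17 ya47 za54) (ka xa26 ya32 za34) (ka xa8 ya52 za22) (ka xa19 ya0 za10) (ka xa17 ya47 za55) (ka xa26 ya32 za39) (ka xa16 ya36 za9) (ka xa16 ya36 za10) (ka xa16 ya36 za11) (ka xa16 ya22 za15) (ka xa11 ya13 za37) (ka xa16 ya34 za48) (ka xa8 ya52 za29) (ka xa16 ya34 za57) (ka xa16 ya34 za56) (ka xa8 ya52 za32) (ka xa12 ya46 za21) (ka xa24 ya28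 za23) (ka xa10 ya26 za44) (ka xa10 ya26 za45) (ka xa10 ya26 za46) (ka xa10 ya26 za47) (ka xa10 ya26 za48) (ka xa16 ya35 za11) (ka xa12 ya46 za44) (ka xa8 ya52 za38) (ka xa12 ya7 za45) (ka xa13 ya41 za33) (ka xa16 ya35 za9) (ka xa16 ya35 za10) (ka xa26 ya20 za44) (ka xa16 ya35 za15) (ka xa16 ya35 za16) (ka xa8 ya52 za48) (ka xa8 ya52 za44) (ka xa10 ya9 za4) (ka xa12 ya47 za14) (ka xa8 ya52 za45) (ka xa10 ya22 za55) (ka xa23 ya43 za29) (ka xa23 ya42 za29) (ka xa26 ya20 za42)) (@D3.rec (fun _ => Pt) (ka xa8 ya52 za47) (ka xa12 ya46 za41) (ka xa16 ya29 za18) (ka xa11 ya44 za27) (ka xa11 ya44 za26) (ka xa20 ya19 za37) (ka xa12 ya23 za15) (ka xa12 ya4 za26) (ka xa15 ya25 za55) (ka xa16 ya35 za26) (ka xa16 ya35 za27) (ka xa16 ya35 za28) (ka xa15 ya25 za51) (ka xa8 ya53 za37) (ka xa8 ya53 za36) (ka xa8 ya52 za54) (ka xa26 ya7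 za58) (ka xa8 ya54 za1) (ka xa8 ya54 za3) (ka xa8 ya54 za4) (ka xa8 ya54 za5) (ka xa8 ya54 za18) (ka xa8 ya54 za17) (ka xa8 ya52 za58) (ka xa20 ya38 za33) (ka xa26 ya33 za19) (ka xa8 ya54 za40) (ka xa8 ya54 za41) (ka xa8 ya54 za42) (ka xa8 ya54 za43) (ka xa8 ya54 za44) (ka xa8 ya54 za45) (ka xa8 ya54 za58) (ka xa8 ya54 za57) (ka xa8 ya53 za1) (ka xa8 ya54 za53) (ka xa8 ya54 za56) (ka xa8 ya54 za50) (ka xa8 ya54 za49) (ka xa8 ya53 za4) (ka xa26 ya33 za35) (ka xa8 ya55 za2) (ka xa8 ya55 za3) (ka xa8 ya55 za4) (ka xa8 ya53 za11) (ka xa8 ya53 za7) (ka xa19 ya44 za50) (ka xa10 ya20 za38) (ka xa26 ya33 za45) (ka xa26 ya33 za46) (ka xa8 ya53 za8) (ka xa15 ya21 za17) (ka xa14 ya34 za9) (ka xa26 ya33 za52) (ka xa14 ya34 za8) (ka xa8 ya53 za10) (ka xa26 ya11 za12) (ka xa26 ya11 za11) (ka xa26 ya4 za60) (ka xa26 ya4 za58) (ka xa26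 ya33 za44) (ka xa26 ya34 za3)) (@D3.rec (fun _ => Pt) (ka xa8 ya55 za24) (ka xa18 ya22 za11) (ka xa8 ya55 za26) (ka xa8 ya55 za29) (ka xa8 ya55 za30) (ka xa8 ya55 za31) (ka xa8 ya55 za35) (ka xa19 ya57 za56) (ka xa19 ya57 za55) (ka xa8 ya53 za16) (ka xa26 ya34 za20) (ka xa15 ya41 za57) (ka xa10 ya47 za31) (ka xa25 ya7 za54) (ka xa25 ya7 za53) (ka xa8 ya53 za21) (ka xa26 ya34 za29) (ka xa26 ya34 za30) (ka xa10 ya47 za49) (ka xa10 ya47 za50) (ka xa10 ya47 za51) (ka xa10 ya47 za52) (ka xa10 ya47 za53) (ka xa10 ya47 za55) (ka xa10 ya47 za58) (ka xa10 ya47 za45) (ka xa10 ya47 za44) (ka xa8 ya53 za27) (ka xa16 ya41 za23) (ka xa26 ya34 za45) (ka xa16 ya40 za47) (ka xa15 ya28 za16) (ka xa20 ya56 za36) (ka xa20 ya56 za40) (ka xa19 ya54 za52) (ka xa19 ya54 za51) (ka xa8 ya53 za30) (ka xa16 ya39 za38) (ka xa26 ya34 za58) (ka xa16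 ya39 za42) (ka xa25 ya7 za60) (ka xa20 ya56 za32) (ka xa25 ya7 za57) (ka xa25 ya7 za56) (ka xa8 ya53 za33) (ka xa26 ya35 za11) (ka xa25 ya32 za4) (ka xa16 ya39 za40) (ka xa19 ya54 za56) (ka xa17 ya49 za23) (ka xa24 ya49 za39) (ka xa16 ya39 za36) (ka xa26 ya33 za10) (ka xa19 ya12 za46) (ka xa26 ya33 za8) (ka xa16 ya39 za35) (ka xa20 ya56 za27) (ka xa8 ya53 za39) (ka xa8 ya53 za40) (ka xa25 ya45 za8) (ka xa25 ya45 za7) (ka xa19 ya32 za20)) (@D3.rec (fun _ => Pt) (ka xa26 ya35 za32) (ka xa26 ya35 za33) (ka xa26 ya35 za34) (ka xa26 ya35 za35) (ka xa19 ya14 za16) (ka xa25 ya8 za12) (ka xa26 ya35 za53) (ka xa18 ya3 za3) (ka xa25 ya8 za13) (ka xa25 ya8 za14) (ka xa25 ya8 za15) (ka xa25 ya8 za16) (ka xa26 ya36 za4) (ka xa19 ya14 za7) (ka xa26 ya36 za8) (ka xa19 ya14 za6) (ka xa19 ya56 za48) (ka xa20 ya57 za15) (ka xa20 ya57 za18)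 (ka xa25 ya8 za18) (ka xa25 ya8 za19) (ka xa10 ya49 za53) (ka xa11 ya37 za8) (ka xa10 ya49 za54) (ka xa19 ya13 za52) (ka xa19 ya13 za53) (ka xa10 ya34 za12) (ka xa10 ya34 za13) (ka xa10 ya34 za8) (ka xa26 ya36 za41) (ka xa10 ya34 za10) (ka xa10 ya34 za11) (ka xa26 ya36 za46) (ka xa10 ya33 za46) (ka xa10 ya33 za49) (ka xa10 ya33 za48) (ka xa8 ya53 za55) (ka xa26 ya36 za48) (ka xa10 ya34 za7) (ka xa16 ya39 za47) (ka xa11 ya9 za8) (ka xa16 ya40 za7) (ka xa20 ya56 za23) (ka xa16 ya44 za54) (ka xa16 ya39 za48) (ka xa25 ya8 za0) (ka xa8 ya53 za60) (ka xa8 ya53 za61) (ka xa25 ya8 za4) (ka xa25 ya8 za3) (ka xa26 ya36 za60) (ka xa26 ya36 za61) (ka xa26 ya37 za0) (ka xa20 ya56 za18) (ka xa26 ya37 za1) (ka xa26 ya37 za2) (ka xa25 ya45 za9) (ka xa25 ya45 za10) (ka xa21 ya1 za38) (ka xa25 ya45 za11) (ka xa26 ya5 za3) (ka xa20 ya39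 za14)) (@D3.rec (fun _ => Pt) (ka xa20 ya55 za60) (ka xa26 ya37 za27) (ka xa20 ya39 za15) (ka xa26 ya33 za13) (ka xa26 ya33 za14) (ka xa21 ya1 za39) (ka xa26 ya33 za15) (ka xa10 ya53 za12) (ka xa16 ya40 za35) (ka xa19 ya41 za22) (ka xa10 ya53 za14) (ka xa15 ya2 za42) (ka xa15 ya2 za41) (ka xa8 ya54 za8) (ka xa26 ya37 za40) (ka xa15 ya2 za16) (ka xa15 ya2 za40) (ka xa24 ya58 za8) (ka xa10 ya54 za21) (ka xa10 ya54 za22) (ka xa18 ya3 za0) (ka xa18 ya2 za61) (ka xa8 ya54 za14) (ka xa19 ya14 za17) (ka xa25 ya10 za7) (ka xa25 ya10 za4) (ka xa8 ya59 za13) (ka xa8 ya54 za16) (ka xa17 ya50 za42) (ka xa24 ya50 za35) (ka xa26 ya33 za18) (ka xa19 ya17 za39) (ka xa24 ya52 za37) (ka xa8 ya54 za20) (ka xa8 ya54 za21) (ka xa16 ya37 za55) (ka xa16 ya37 za51) (ka xa26 ya37 za57) (ka xa16 ya37 za37) (ka xa26 ya37 za46) (ka xa16 ya37 za47)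 (ka xa24 ya26 za48) (ka xa16 ya37 za39) (ka xa17 ya50 za45) (ka xa25 ya10 za16) (ka xa25 ya10 za17) (ka xa26 ya38 za11) (ka xa16 ya38 za39) (ka xa16 ya38 za44) (ka xa25 ya10 za19) (ka xa25 ya10 za20) (ka xa25 ya10 za8) (ka xa19 ya43 za1) (ka xa19 ya41 za13) (ka xa25 ya10 za21) (ka xa24 ya26 za52) (ka xa10 ya55 za39) (ka xa10 ya55 za40) (ka xa26 ya38 za23) (ka xa19 ya31 za37) (ka xa22 ya24 za61) (ka xa19 ya2 za32)) (@D3.rec (fun _ => Pt) (ka xa18 ya19 za45) (ka xa19 ya1 za37) (ka xa18 ya19 za46) (ka xa8 ya58 za59) (ka xa25 ya10 za10) (ka xa8 ya54 za38) (ka xa8 ya54 za39) (ka xa16 ya38 za41) (ka xa26 ya38 za36) (ka xa20 ya38 za31) (ka xa26 ya38 za37) (ka xa26 ya38 za38) (ka xa26 ya38 za39) (ka xa26 ya38 za40) (ka xa26 ya33 za23) (ka xa9 ya12 za10) (ka xa26 ya33 za24) (ka xa20 ya38 za22) (ka xa26 ya38 za44) (ka xa20 ya56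 za12) (ka xa26 ya2 za47) (ka xa24 ya26 za41) (ka xa20 ya56 za13) (ka xa19 ya19 za18) (ka xa20 ya23 za41) (ka xa24 ya12 za6) (ka xa20 ya38 za18) (ka xa22 ya26 za23) (ka xa26 ya1 za42) (ka xa10 ya57 za31) (ka xa22 ya4 za3) (ka xa19 ya40 za51) (ka xa26 ya33 za34) (ka xa26 ya33 za47) (ka xa26 ya33 za32) (ka xa16 ya39 za8) (ka xa8 ya54 za52) (ka xa15 ya51 za45) (ka xa10 ya54 za57) (ka xa26 ya39 za20) (ka xa26 ya33 za31) (ka xa24 ya3 za29) (ka xa26 ya33 za30) (ka xa8 ya54 za61) (ka xa9 ya42 za2) (ka xa9 ya42 za5) (ka xa16 ya45 za48) (ka xa16 ya37 za30) (ka xa26 ya33 za29) (ka xa25 ya10 za24) (ka xa17 ya42 za29) (ka xa26 ya33 za26) (ka xa26 ya33 za27) (ka xa8 ya54 za60) (ka xa8 ya55 za0) (ka xa9 ya42 za9) (ka xa9 ya42 za8) (ka xa21 ya7 za46) (ka xa18 ya54 za4) (ka xa26 ya33 za39) (ka xa26 ya33 za41) (ka xa26 ya33 za40)) (@D3.rec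 (fun _ => Pt) (ka xa26 ya39 za38) (ka xa15 ya51 za43) (ka xa9 ya43 za56) (ka xa15 ya51 za44) (ka xa26 ya33 za42) (ka xa19 ya19 za16) (ka xa19 ya19 za15) (ka xa26 ya33 za43) (ka xa8 ya55 za21) (ka xa8 ya55 za22) (ka xa26 ya39 za12) (ka xa8 ya55 za9) (ka xa8 ya55 za10) (ka xa26 ya33 za28) (ka xa8 ya55 za7) (ka xa9 ya51 za46) (ka xa26 ya39 za55) (ka xa26 ya39 za33) (ka xa8 ya58 za1) (ka xa10 ya54 za32) (ka xa15 ya3 za27) (ka xa15 ya3 za28) (ka xa8 ya55 za13) (ka xa16 ya37 za28) (ka xa8 ya55 za14) (ka xa10 ya55 za38) (ka xa26 ya38 za22) (ka xa8 ya55 za15) (ka xa19 ya14 za11) (ka xa8 ya55 za12) (ka xa26 ya40 za4) (ka xa26 ya40 za5) (ka xa19 ya33 za56) (ka xa20 ya37 za61) (ka xa15 ya42 za44) (ka xa26 ya40 za2) (ka xa10 ya57 za30) (ka xa20 ya38 za44) (ka xa26 ya39 za7) (ka xa8 ya55 za17) (ka xa8 ya55 za18) (ka xa8 ya55 za19)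 (ka xa8 ya55 za20) (ka xa25 ya22 za27) (ka xa26 ya40 za15) (ka xa22 ya4 za1) (ka xa15 ya44 za56) (ka xa20 ya58 za46) (ka xa26 ya2 za7) (ka xa26 ya40 za16) (ka xa24 ya34 za12) (ka xa11 ya19 za25) (ka xa26 ya40 za18) (ka xa21 ya56 za36) (ka xa20 ya39 za23) (ka xa26 ya40 za19) (ka xa26 ya40 za20) (ka xa26 ya39 za53) (ka xa20 ya58 za21) (ka xa20 ya58 za20) (ka xa26 ya39 za54) (ka xa8 ya55 za23)) (@D3.rec (fun _ => Pt) (ka xa25 ya19 za38) (ka xa26 ya34 za6) (ka xa26 ya34 za7) (ka xa26 ya34 za8) (ka xa26 ya34 za9) (ka xa8 ya55 za25) (ka xa26 ya40 za51) (ka xa26 ya40 za52) (ka xa25 ya45 za13) (ka xa20 ya39 za46) (ka xa26 ya34 za11) (ka xa25 ya45 za4) (ka xa25 ya45 za3) (ka xa8 ya55 za27) (ka xa24 ya2 za27) (ka xa16 ya51 za11) (ka xa12 ya41 za16) (ka xa21 ya20 za55) (ka xa24 ya14 za46) (ka xa26 ya34 za12) (ka xa24 ya14 za44) (ka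 xa19 ya31 za39) (ka xa17 ya48 za12) (ka xa26 ya34 za13) (ka xa15 ya36 za25) (ka xa25 ya20 za14) (ka xa15 ya24 za30) (ka xa20 ya57 za48) (ka xa26 ya39 za17) (ka xa20 ya58 za49) (ka xa20 ya58 za50) (ka xa26 ya39 za37) (ka xa20 ya58 za47) (ka xa20 ya58 za52) (ka xa20 ya58 za51) (ka xa26 ya34 za14) (ka xa19 ya31 za11) (ka xa19 ya6 za28) (ka xa26 ya37 za56) (ka xa20 ya58 za59) (ka xa18 ya49 za28) (ka xa20 ya58 za60) (ka xa26 ya38 za34) (ka xa20 ya58 za56) (ka xa19 ya32 za6) (ka xa10 ya50 za44) (ka xa10 ya50 za43) (ka xa8 ya55 za42) (ka xa26 ya41 za31) (ka xa26 ya41 za32) (ka xa10 ya50 za55) (ka xa10 ya50 za56) (ka xa10 ya50 za57) (ka xa10 ya48 za17) (ka xa10 ya50 za51) (ka xa10 ya50 za50) (ka xa8 ya55 za47) (ka xa26 ya41 za43) (ka xa26 ya41 za44) (ka xa10 ya50 za49) (ka xa10 ya50 za61) (ka xa10 ya50 za60)) (@D3.rec (fun _ =>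 Pt) (ka xa8 ya55 za50) (ka xa12 ya52 za23) (ka xa10 ya51 za6) (ka xa10 ya51 za5) (ka xa8 ya55 za52) (ka xa26 ya41 za54) (ka xa26 ya41 za58) (ka xa8 ya59 za58) (ka xa10 ya51 za17) (ka xa26 ya42 za0) (ka xa10 ya51 za14) (ka xa8 ya55 za57) (ka xa10 ya51 za21) (ka xa10 ya51 za20) (ka xa24 ya0 za39) (ka xa24 ya0 za38) (ka xa15 ya41 za0) (ka xa26 ya42 za7) (ka xa26 ya42 za8) (ka xa19 ya53 za44) (ka xa23 ya56 za1) (ka xa23 ya56 za4) (ka xa13 ya43 za59) (ka xa23 ya56 za51) (ka xa15 ya59 za26) (ka xa26 ya42 za13) (ka xa15 ya59 za27) (ka xa19 ya31 za7) (ka xa10 ya48 za0) (ka xa11 ya1 za44) (ka xa10 ya47 za60) (ka xa9 ya1 za8) (ka xa8 ya56 za9) (ka xa12 ya54 za10) (ka xa11 ya39 za10) (ka xa26 ya42 za17) (ka xa10 ya48 za41) (ka xa19 ya56 za4) (ka xa10 ya52 za12) (ka xa10 ya52 za11) (ka xa25 ya31 za19) (ka xa10 ya52 za25) (ka xa10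 ya52 za26) (ka xa10 ya48 za18) (ka xa10 ya52 za30) (ka xa10 ya52 za31) (ka xa10 ya48 za60) (ka xa8 ya56 za14) (ka xa19 ya3 za40) (ka xa22 ya6 za16) (ka xa10 ya52 za14) (ka xa10 ya52 za15) (ka xa17 ya56 za28) (ka xa10 ya52 za41) (ka xa10 ya52 za42) (ka xa11 ya27 za39) (ka xa10 ya52 za38) (ka xa10 ya52 za39) (ka xa9 ya46 za55) (ka xa15 ya8 za0) (ka xa10 ya36 za56) (ka xa10 ya36 za58)) (@D3.rec (fun _ => Pt) (ka xa10 ya19 za23) (ka xa10 ya19 za22) (ka xa8 ya56 za23) (ka xa26 ya26 za54) (ka xa26 ya42 za43) (ka xa10 ya45 za60) (ka xa10 ya46 za1) (ka xa10 ya46 za18) (ka xa10 ya46 za17) (ka xa8 ya56 za26) (ka xa26 ya42 za50) (ka xa26 ya42 za51) (ka xa10 ya46 za41) (ka xa10 ya46 za42) (ka xa10 ya46 za43) (ka xa10 ya46 za47) (ka xa10 ya46 za46) (ka xa8 ya56 za29) (ka xa26 ya43 za6) (ka xa10 ya46 za60) (ka xa10 ya46 za55) (ka xa10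 ya46 za54) (ka xa8 ya56 za31) (ka xa26 ya43 za13) (ka xa10 ya46 za52) (ka xa10 ya46 za53) (ka xa17 ya50 za15) (ka xa9 ya0 za61) (ka xa10 ya47 za6) (ka xa26 ya43 za23) (ka xa10 ya47 za3) (ka xa8 ya56 za36) (ka xa8 ya56 za37) (ka xa10 ya47 za10) (ka xa10 ya47 za9) (ka xa26 ya43 za27) (ka xa14 ya26 za23) (ka xa20 ya29 za2) (ka xa11 ya44 za49) (ka xa26 ya43 za37) (ka xa18 ya41 za54) (ka xa20 ya27 za19) (ka xa14 ya29 za24) (ka xa17 ya22 za53) (ka xa10 ya49 za0) (ka xa20 ya3 za8) (ka xa10 ya49 za17) (ka xa10 ya49 za16) (ka xa26 ya43 za43) (ka xa10 ya49 za32) (ka xa10 ya49 za33) (ka xa10 ya49 za37) (ka xa10 ya48 za38) (ka xa8 ya56 za46) (ka xa16 ya38 za43) (ka xa24 ya36 za31) (ka xa15 ya51 za30) (ka xa10 ya49 za19) (ka xa10 ya49 za20) (ka xa10 ya48 za20) (ka xa10 ya49 za24) (ka xa10 ya49 za25)) (@D3.rec (fun _ => Pt) (ka xa8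 ya56 za53) (ka xa8 ya56 za54) (ka xa8 ya56 za57) (ka xa10 ya49 za44) (ka xa10 ya49 za45) (ka xa17 ya56 za25) (ka xa10 ya49 za41) (ka xa10 ya49 za42) (ka xa10 ya49 za47) (ka xa10 ya49 za46) (ka xa26 ya43 za59) (ka xa10 ya52 za40) (ka xa10 ya52 za54) (ka xa20 ya29 za6) (ka xa20 ya29 za7) (ka xa21 ya51 za57) (ka xa20 ya29 za3) (ka xa20 ya29 za4) (ka xa20 ya28 za16) (ka xa25 ya40 za35) (ka xa8 ya56 za58) (ka xa20 ya29 za56) (ka xa12 ya54 za20) (ka xa10 ya56 za5) (ka xa8 ya56 za61) (ka xa18 ya52 za57) (ka xa10 ya56 za12) (ka xa10 ya56 za9) (ka xa10 ya56 za8) (ka xa8 ya57 za1) (ka xa25 ya12 za18) (ka xa8 ya58 za14) (ka xa10 ya56 za15) (ka xa8 ya57 za5) (ka xa8 ya57 za6) (ka xa20 ya50 za7) (ka xa23 ya1 za48) (ka xa20 ya50 za5) (ka xa15 ya18 za4) (ka xa23 ya1 za32) (ka xa25 ya4 za23) (ka xa26 ya38 za41) (ka xa15 ya3 za19) (ka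 xa25 ya4 za25) (ka xa26 ya44 za32) (ka xa25 ya4 za27) (ka xa17 ya22 za12) (ka xa15 ya19 za29) (ka xa16 ya40 za46) (ka xa15 ya19 za27) (ka xa25 ya5 za13) (ka xa25 ya4 za29) (ka xa25 ya4 za30) (ka xa9 ya42 za16) (ka xa10 ya38 za55) (ka xa10 ya38 za56) (ka xa26 ya44 za43) (ka xa25 ya4 za32) (ka xa18 ya56 za3) (ka xa19 ya48 za6) (ka xa10 ya56 za55) (ka xa25 ya4 za56)) (@D3.rec (fun _ => Pt) (ka xa10 ya56 za60) (ka xa10 ya56 za61) (ka xa10 ya57 za1) (ka xa10 ya56 za58) (ka xa8 ya57 za26) (ka xa8 ya57 za27) (ka xa8 ya57 za28) (ka xa8 ya57 za30) (ka xa8 ya57 za31) (ka xa10 ya57 za12) (ka xa10 ya57 za11) (ka xa22 ya59 za48) (ka xa26 ya44 za48) (ka xa19 ya48 za29) (ka xa11 ya47 za57) (ka xa17 ya53 za23) (ka xa21 ya37 za49) (ka xa19 ya25 za2) (ka xa14 ya50 za36) (ka xa18 ya1 za29) (ka xa10 ya55 za30) (ka xa19 ya50 za30) (ka xa20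 ya54 za35) (ka xa22 ya8 za0) (ka xa8 ya57 za41) (ka xa17 ya7 za3) (ka xa21 ya7 za56) (ka xa8 ya57 za58) (ka xa8 ya57 za60) (ka xa17 ya51 za16) (ka xa26 ya44 za59) (ka xa10 ya53 za46) (ka xa8 ya57 za51) (ka xa8 ya57 za52) (ka xa26 ya44 za61) (ka xa24 ya6 za35) (ka xa21 ya36 za44) (ka xa21 ya36 za43) (ka xa26 ya45 za0) (ka xa23 ya56 za2) (ka xa19 ya38 za57) (ka xa14 ya43 za23) (ka xa17 ya12 za9) (ka xa25 ya48 za1) (ka xa25 ya47 za39) (ka xa19 ya24 za6) (ka xa19 ya24 za4) (ka xa25 ya24 za61) (ka xa10 ya26 za9) (ka xa15 ya51 za51) (ka xa26 ya45 za16) (ka xa26 ya44 za55) (ka xa12 ya33 za44) (ka xa26 ya45 za22) (ka xa26 ya44 za57) (ka xa15 ya54 za20) (ka xa10 ya54 za58) (ka xa12 ya49 za44) (ka xa10 ya54 za51) (ka xa10 ya54 za52) (ka xa8 ya59 za55) (ka xa10 ya54 za54)) (@D3.rec (fun _ => Pt) (ka xa8 ya58 za6) (ka xa10 ya55 za10)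 (ka xa10 ya55 za9) (ka xa26 ya45 za31) (ka xa17 ya53 za37) (ka xa19 ya51 za34) (ka xa21 ya36 za42) (ka xa26 ya40 za12) (ka xa19 ya51 za35) (ka xa10 ya44 za19) (ka xa20 ya38 za19) (ka xa10 ya41 za40) (ka xa17 ya32 za49) (ka xa15 ya20 za6) (ka xa10 ya58 za60) (ka xa8 ya59 za40) (ka xa10 ya59 za38) (ka xa10 ya59 za39) (ka xa10 ya58 za51) (ka xa10 ya58 za52) (ka xa8 ya58 za23) (ka xa8 ya58 za24) (ka xa8 ya58 za26) (ka xa10 ya59 za19) (ka xa10 ya59 za18) (ka xa26 ya45 za44) (ka xa20 ya17 za46) (ka xa11 ya17 za45) (ka xa10 ya59 za50) (ka xa20 ya15 za28) (ka xa14 ya4 za26) (ka xa19 ya59 za61) (ka xa20 ya4 za60) (ka xa11 ya46 za59) (ka xa11 ya0 za19) (ka xa19 ya59 za4) (ka xa11 ya0 za22) (ka xa22 ya4 za6) (ka xa10 ya57 za36) (ka xa10 ya57 za35) (ka xa26 ya45 za53) (ka xa10 ya57 za45) (ka xa10 ya57 za46) (ka xa10 ya57 za47) (ka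 xa18 ya2 za45) (ka xa10 ya57 za38) (ka xa10 ya57 za39) (ka xa10 ya57 za40) (ka xa10 ya57 za41) (ka xa8 ya59 za42) (ka xa8 ya58 za46) (ka xa8 ya58 za48) (ka xa10 ya39 za51) (ka xa10 ya57 za60) (ka xa10 ya57 za58) (ka xa19 ya47 za6) (ka xa14 ya38 za29) (ka xa10 ya58 za13) (ka xa10 ya58 za12) (ka xa12 ya53 za51) (ka xa11 ya0 za34) (ka xa20 ya40 za2)) (@D3.rec (fun _ => Pt) (ka xa19 ya44 za0) (ka xa8 ya58 za61) (ka xa8 ya59 za2) (ka xa8 ya59 za3) (ka xa8 ya59 za6) (ka xa26 ya37 za3) (ka xa21 ya57 za61) (ka xa19 ya43 za2) (ka xa25 ya10 za18) (ka xa24 ya27 za41) (ka xa8 ya59 za14) (ka xa10 ya58 za28) (ka xa10 ya58 za29) (ka xa26 ya46 za7) (ka xa19 ya43 za23) (ka xa8 ya59 za16) (ka xa11 ya16 za13) (ka xa16 ya53 za54) (ka xa11 ya50 za15) (ka xa8 ya59 za11) (ka xa8 ya59 za12) (ka xa19 ya34 za45) (ka xa19 ya46 za37) (ka xa19 ya46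 za38) (ka xa10 ya59 za12) (ka xa19 ya46 za53) (ka xa11 ya43 za57) (ka xa10 ya59 za22) (ka xa20 ya17 za50) (ka xa26 ya37 za51) (ka xa20 ya38 za20) (ka xa20 ya38 za21) (ka xa20 ya38 za23) (ka xa22 ya9 za55) (ka xa20 ya38 za24) (ka xa9 ya13 za6) (ka xa9 ya13 za4) (ka xa9 ya31 za38) (ka xa11 ya16 za32) (ka xa8 ya59 za28) (ka xa11 ya21 za37) (ka xa11 ya1 za42) (ka xa20 ya36 za23) (ka xa11 ya21 za38) (ka xa8 ya59 za34) (ka xa12 ya34 za12) (ka xa11 ya19 za21) (ka xa11 ya16 za20) (ka xa11 ya19 za20) (ka xa26 ya46 za30) (ka xa26 ya46 za31) (ka xa25 ya31 za8) (ka xa20 ya51 za10) (ka xa21 ya1 za40) (ka xa17 ya32 za47) (ka xa15 ya26 za11) (ka xa20 ya51 za57) (ka xa11 ya1 za36) (ka xa11 ya1 za35) (ka xa11 ya1 za56) (ka xa20 ya45 za6) (ka xa11 ya21 za47)) (@D3.rec (fun _ => Pt) (ka xa11 ya1 za55) (ka xa17 ya7 za34) (ka xa11 ya2 za0)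 (ka xa18 ya25 za53) (ka xa25 ya37 za46) (ka xa25 ya37 za51) (ka xa9 ya25 za15) (ka xa21 ya3 za14) (ka xa25 ya5 za59) (ka xa12 ya58 za29) (ka xa25 ya5 za60) (ka xa26 ya46 za43) (ka xa22 ya5 za37) (ka xa17 ya28 za44) (ka xa19 ya29 za7) (ka xa19 ya33 za47) (ka xa18 ya0 za61) (ka xa18 ya0 za49) (ka xa11 ya20 za26) (ka xa11 ya9 za51) (ka xa15 ya18 za45) (ka xa11 ya10 za3) (ka xa11 ya10 za4) (ka xa10 ya48 za12) (ka xa11 ya10 za9) (ka xa10 ya48 za22) (ka xa8 ya59 za61) (ka xa19 ya58 za26) (ka xa26 ya46 za50) (ka xa11 ya9 za54) (ka xa10 ya48 za34) (ka xa11 ya9 za58) (ka xa11 ya9 za59) (ka xa24 ya49 za59) (ka xa9 ya0 za6) (ka xa11 ya7 za16) (ka xa19 ya33 za48) (ka xa12 ya45 za43) (ka xa11 ya11 za0) (ka xa13 ya11 za0) (ka xa26 ya46 za60) (ka xa11 ya10 za59) (ka xa23 ya42 za9) (ka xa26 ya47 za1) (ka xa11 ya11 za2) (ka xa20 ya18 za35)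 (ka xa20 ya15 za12) (ka xa21 ya4 za9) (ka xa20 ya59 za28) (ka xa21 ya37 za48) (ka xa11 ya8 za19) (ka xa9 ya51 za47) (ka xa9 ya0 za29) (ka xa16 ya10 za55) (ka xa26 ya8 za31) (ka xa11 ya2 za41) (ka xa11 ya2 za60) (ka xa11 ya2 za59) (ka xa9 ya0 za32) (ka xa26 ya23 za8) (ka xa26 ya47 za8) (ka xa11 ya3 za20)) (@D3.rec (fun _ => Pt) (ka xa11 ya3 za22) (ka xa11 ya4 za46) (ka xa19 ya36 za8) (ka xa25 ya28 za61) (ka xa11 ya3 za16) (ka xa11 ya3 za15) (ka xa9 ya0 za36) (ka xa26 ya47 za20) (ka xa26 ya47 za21) (ka xa11 ya3 za2) (ka xa11 ya3 za3) (ka xa11 ya3 za4) (ka xa11 ya3 za5) (ka xa11 ya3 za6) (ka xa11 ya3 za10) (ka xa9 ya35 za42) (ka xa11 ya3 za26) (ka xa11 ya3 za25) (ka xa9 ya0 za41) (ka xa26 ya47 za40) (ka xa26 ya47 za41) (ka xa11 ya3 za39) (ka xa11 ya3 za40) (ka xa11 ya3 za35) (ka xa11 ya3 za34) (ka xa9 ya0 za44) (ka xa26 ya47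 za51) (ka xa26 ya47 za52) (ka xa11 ya3 za31) (ka xa11 ya3 za32) (ka xa11 ya3 za33) (ka xa10 ya37 za49) (ka xa11 ya3 za46) (ka xa24 ya34 za14) (ka xa11 ya3 za43) (ka xa9 ya0 za50) (ka xa20 ya6 za30) (ka xa19 ya40 za7) (ka xa21 ya2 za12) (ka xa14 ya45 za29) (ka xa11 ya3 za54) (ka xa12 ya48 za49) (ka xa19 ya5 za59) (ka xa25 ya14 za44) (ka xa18 ya17 za60) (ka xa21 ya18 za20) (ka xa20 ya54 za54) (ka xa25 ya14 za45) (ka xa19 ya14 za52) (ka xa18 ya27 za46) (ka xa26 ya48 za18) (ka xa17 ya43 za29) (ka xa10 ya48 za24) (ka xa26 ya43 za20) (ka xa11 ya5 za39) (ka xa11 ya5 za38) (ka xa26 ya48 za22) (ka xa11 ya5 za51) (ka xa11 ya5 za52) (ka xa11 ya5 za56) (ka xa19 ya14 za27) (ka xa11 ya5 za41)) (@D3.rec (fun _ => Pt) (ka xa11 ya5 za42) (ka xa10 ya48 za14) (ka xa11 ya5 za47) (ka xa9 ya1 za6) (ka xa9 ya1 za9) (ka xa11 ya10 za23) (ka xa26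 ya1 za41) (ka xa20 ya29 za58) (ka xa12 ya54 za60) (ka xa21 ya2 za32) (ka xa26 ya2 za54) (ka xa16 ya42 za15) (ka xa9 ya42 za0) (ka xa9 ya1 za15) (ka xa10 ya37 za40) (ka xa25 ya16 za58) (ka xa11 ya10 za30) (ka xa24 ya50 za29) (ka xa11 ya7 za8) (ka xa20 ya10 za37) (ka xa14 ya59 za38) (ka xa11 ya7 za42) (ka xa11 ya7 za43) (ka xa26 ya19 za43) (ka xa20 ya29 za60) (ka xa11 ya7 za35) (ka xa11 ya7 za36) (ka xa20 ya8 za60) (ka xa11 ya12 za14) (ka xa20 ya13 za13) (ka xa14 ya46 za32) (ka xa9 ya5 za31) (ka xa14 ya46 za38) (ka xa9 ya6 za40) (ka xa26 ya32 za56) (ka xa9 ya1 za46) (ka xa9 ya1 za47) (ka xa9 ya1 za48) (ka xa9 ya1 za50) (ka xa12 ya7 za54) (ka xa11 ya11 za42) (ka xa16 ya30 za58) (ka xa16 ya30 za40) (ka xa18 ya48 za37) (ka xa20 ya13 za31) (ka xa18 ya48 za40) (ka xa20 ya13 za32) (ka xa11 ya26 za40) (ka xa20 ya24 za25) (ka xa20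 ya19 za59) (ka xa9 ya45 za45) (ka xa9 ya1 za52) (ka xa14 ya46 za48) (ka xa14 ya8 za1) (ka xa11 ya15 za14) (ka xa11 ya15 za7) (ka xa24 ya28 za2) (ka xa11 ya15 za16) (ka xa11 ya15 za17) (ka xa9 ya5 za15) (ka xa23 ya24 za14) (ka xa11 ya15 za10)) (@D3.rec (fun _ => Pt) (ka xa11 ya15 za11) (ka xa26 ya45 za30) (ka xa9 ya2 za7) (ka xa9 ya2 za8) (ka xa9 ya2 za9) (ka xa9 ya2 za10) (ka xa9 ya2 za12) (ka xa26 ya49 za11) (ka xa11 ya15 za51) (ka xa11 ya15 za52) (ka xa11 ya14 za36) (ka xa9 ya7 za43) (ka xa11 ya15 za54) (ka xa22 ya46 za30) (ka xa11 ya15 za61) (ka xa11 ya16 za4) (ka xa11 ya16 za3) (ka xa11 ya15 za42) (ka xa26 ya49 za9) (ka xa17 ya24 za23) (ka xa22 ya59 za19) (ka xa17 ya24 za21) (ka xa24 ya10 za13) (ka xa20 ya20 za23) (ka xa26 ya49 za10) (ka xa11 ya21 za8) (ka xa19 ya32 za26) (ka xa9 ya2 za16) (ka xa9 ya3 za15) (ka xa9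 ya3 za8) (ka xa11 ya17 za14) (ka xa11 ya17 za15) (ka xa11 ya14 za40) (ka xa13 ya21 za33) (ka xa11 ya22 za32) (ka xa19 ya32 za21) (ka xa20 ya9 za60) (ka xa20 ya9 za58) (ka xa11 ya13 za7) (ka xa11 ya13 za8) (ka xa11 ya13 za10) (ka xa11 ya13 za11) (ka xa11 ya14 za19) (ka xa11 ya12 za57) (ka xa11 ya12 za60) (ka xa11 ya12 za61) (ka xa9 ya5 za18) (ka xa11 ya13 za1) (ka xa11 ya13 za2) (ka xa11 ya13 za3) (ka xa9 ya2 za37) (ka xa26 ya44 za47) (ka xa9 ya2 za44) (ka xa9 ya2 za45) (ka xa9 ya2 za46) (ka xa9 ya2 za47) (ka xa9 ya2 za49) (ka xa11 ya13 za27) (ka xa11 ya13 za28) (ka xa11 ya13 za32) (ka xa11 ya13 za33) (ka xa11 ya13 za34)) (@D3.rec (fun _ => Pt) (ka xa10 ya29 za29) (ka xa26 ya49 za51) (ka xa11 ya14 za3) (ka xa13 ya30 za34) (ka xa13 ya30 za32) (ka xa13 ya30 za33) (ka xa13 ya30 za35) (ka xa9 ya45 za36) (ka xa9 ya14 za5) (ka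 xa19 ya50 za42) (ka xa11 ya13 za45) (ka xa11 ya13 za46) (ka xa12 ya22 za19) (ka xa11 ya14 za0) (ka xa11 ya14 za2) (ka xa11 ya14 za1) (ka xa11 ya13 za36) (ka xa16 ya34 za59) (ka xa26 ya32 za17) (ka xa11 ya17 za23) (ka xa20 ya6 za25) (ka xa20 ya32 za61) (ka xa21 ya12 za24) (ka xa11 ya0 za20) (ka xa11 ya1 za22) (ka xa21 ya13 za11) (ka xa21 ya15 za49) (ka xa21 ya15 za50) (ka xa17 ya19 za45) (ka xa9 ya3 za23) (ka xa9 ya2 za52) (ka xa18 ya49 za55) (ka xa11 ya17 za44) (ka xa11 ya17 za47) (ka xa26 ya49 za61) (ka xa9 ya2 za57) (ka xa11 ya0 za52) (ka xa9 ya4 za10) (ka xa9 ya4 za20) (ka xa9 ya4 za21) (ka xa9 ya4 za19) (ka xa11 ya13 za6) (ka xa11 ya13 za42) (ka xa11 ya13 za39) (ka xa26 ya50 za10) (ka xa11 ya14 za21) (ka xa11 ya14 za15) (ka xa11 ya14 za14) (ka xa11 ya14 za10) (ka xa11 ya14 za16) (ka xa26 ya50 za14) (ka xa20 ya59 za54)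 (ka xa24 ya26 za53) (ka xa20 ya6 za12) (ka xa16 ya48 za17) (ka xa20 ya52 za29) (ka xa9 ya3 za10) (ka xa24 ya1 za20) (ka xa22 ya16 za7) (ka xa21 ya9 za16) (ka xa20 ya6 za36) (ka xa13 ya53 za37)) (@D3.rec (fun _ => Pt) (ka xa9 ya3 za20) (ka xa11 ya14 za37) (ka xa11 ya14 za38) (ka xa13 ya40 za60) (ka xa13 ya40 za53) (ka xa24 ya39 za55) (ka xa24 ya39 za54) (ka xa9 ya3 za19) (ka xa21 ya9 za14) (ka xa10 ya21 za51) (ka xa10 ya21 za48) (ka xa11 ya16 za25) (ka xa10 ya58 za18) (ka xa9 ya12 za22) (ka xa11 ya16 za26) (ka xa12 ya44 za51) (ka xa20 ya25 za45) (ka xa9 ya17 za51) (ka xa9 ya17 za52) (ka xa11 ya18 za58) (ka xa9 ya3 za40) (ka xa20 ya15 za47) (ka xa9 ya3 za43) (ka xa9 ya3 za44) (ka xa9 ya3 za46) (ka xa20 ya40 za45) (ka xa9 ya3 za49) (ka xa22 ya37 za9) (ka xa9 ya3 za55) (ka xa9 ya3 za56) (ka xa17 ya23 za1) (ka xa9 ya3 za59)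 (ka xa9 ya3 za60) (ka xa26 ya50 za0) (ka xa17 ya11 za27) (ka xa9 ya3 za33) (ka xa26 ya50 za44) (ka xa9 ya4 za6) (ka xa9 ya4 za7) (ka xa9 ya4 za8) (ka xa9 ya4 za9) (ka xa9 ya4 za12) (ka xa9 ya4 za13) (ka xa21 ya9 za32) (ka xa9 ya4 za16) (ka xa9 ya4 za18) (ka xa20 ya0 za20) (ka xa11 ya34 za18) (ka xa26 ya50 za32) (ka xa17 ya18 za25) (ka xa20 ya1 za9) (ka xa16 ya56 za14) (ka xa16 ya56 za15) (ka xa9 ya3 za42) (ka xa26 ya50 za59) (ka xa10 ya38 za20) (ka xa26 ya50 za34) (ka xa20 ya1 za33) (ka xa26 ya50 za35) (ka xa17 ya19 za5) (ka xa11 ya21 za6) (ka xa26 ya50 za36)) (@D3.rec (fun _ => Pt) (ka xa26 ya50 za37) (ka xa20 ya40 za48) (ka xa20 ya40 za49) (ka xa20 ya40 za50) (ka xa17 ya19 za4) (ka xa11 ya21 za32) (ka xa9 ya3 za53) (ka xa23 ya4 za21) (ka xa26 ya51 za13) (ka xa24 ya31 za52) (ka xa9 ya45 za52) (ka xa26 ya50 za39) (ka xa21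 ya37 za46) (ka xa26 ya51 za19) (ka xa11 ya1 za8) (ka xa17 ya22 za36) (ka xa11 ya1 za6) (ka xa9 ya4 za2) (ka xa9 ya4 za3) (ka xa11 ya1 za10) (ka xa11 ya1 za9) (ka xa26 ya51 za26) (ka xa26 ya51 za27) (ka xa26 ya51 za28) (ka xa26 ya51 za29) (ka xa26 ya51 za30) (ka xa11 ya4 za24) (ka xa9 ya46 za10) (ka xa22 ya38 za38) (ka xa26 ya50 za47) (ka xa20 ya24 za7) (ka xa14 ya40 za46) (ka xa26 ya38 za54) (ka xa26 ya50 za48) (ka xa26 ya50 za5) (ka xa26 ya50 za2) (ka xa26 ya50 za3) (ka xa26 ya50 za4) (ka xa19 ya27 za21) (ka xa15 ya4 za21) (ka xa20 ya51 za52) (ka xa26 ya50 za49) (ka xa26 ya52 za4) (ka xa26 ya50 za50) (ka xa17 ya12 za31) (ka xa11 ya22 za19) (ka xa26 ya10 za43) (ka xa26 ya38 za60) (ka xa10 ya11 za24) (ka xa19 ya26 za41) (ka xa26 ya50 za6) (ka xa10 ya48 za7) (ka xa18 ya21 za26) (ka xa18 ya48 za23) (ka xa18 ya48 za22) (ka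 xa11 ya32 za51) (ka xa11 ya39 za23) (ka xa9 ya12 za42) (ka xa9 ya12 za44) (ka xa9 ya12 za43) (ka xa11 ya39 za22) (ka xa26 ya43 za58)) (@D3.rec (fun _ => Pt) (ka xa9 ya4 za29) (ka xa9 ya4 za30) (ka xa9 ya4 za31) (ka xa9 ya4 za32) (ka xa9 ya4 za33) (ka xa9 ya16 za43) (ka xa11 ya21 za19) (ka xa24 ya47 za4) (ka xa11 ya21 za17) (ka xa17 ya54 za22) (ka xa26 ya52 za31) (ka xa20 ya1 za28) (ka xa21 ya16 za37) (ka xa26 ya52 za32) (ka xa16 ya54 za51) (ka xa16 ya54 za52) (ka xa26 ya52 za33) (ka xa11 ya18 za41) (ka xa11 ya18 za42) (ka xa11 ya18 za43) (ka xa11 ya21 za10) (ka xa9 ya4 za43) (ka xa11 ya20 za50) (ka xa20 ya35 za0) (ka xa11 ya20 za48) (ka xa16 ya22 za26) (ka xa13 ya16 za35) (ka xa11 ya18 za59) (ka xa11 ya21 za35) (ka xa10 ya58 za56) (ka xa9 ya4 za47) (ka xa11 ya0 za60) (ka xa11 ya0 za59) (ka xa24 ya27 za48) (ka xa11 ya1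 za3) (ka xa11 ya1 za1) (ka xa11 ya1 za0) (ka xa9 ya4 za52) (ka xa9 ya4 za54) (ka xa9 ya4 za55) (ka xa23 ya38 za0) (ka xa19 ya25 za22) (ka xa19 ya25 za21) (ka xa11 ya1 za20) (ka xa20 ya50 za55) (ka xa11 ya35 za19) (ka xa26 ya52 za58) (ka xa11 ya21 za58) (ka xa9 ya4 za56) (ka xa25 ya16 za50) (ka xa12 ya29 za50) (ka xa11 ya16 za15) (ka xa11 ya21 za57) (ka xa18 ya57 za21) (ka xa11 ya22 za21) (ka xa9 ya5 za0) (ka xa9 ya5 za1) (ka xa11 ya22 za25) (ka xa26 ya53 za8) (ka xa26 ya53 za5) (ka xa26 ya53 za6) (ka xa11 ya22 za35)) (@D3.rec (fun _ => Pt) (ka xa9 ya5 za2) (ka xa21 ya16 za15) (ka xa11 ya22 za1) (ka xa9 ya5 za9) (ka xa9 ya5 za11) (ka xa26 ya53 za12) (ka xa26 ya53 za11) (ka xa19 ya51 za48) (ka xa21 ya32 za46) (ka xa11 ya21 za0) (ka xa20 ya9 za5) (ka xa11 ya22 za13) (ka xa9 ya5 za12) (ka xa22 ya32 za10) (ka xa26 ya49 za2)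 (ka xa11 ya22 za45) (ka xa11 ya22 za46) (ka xa26 ya49 za40) (ka xa11 ya5 za37) (ka xa19 ya51 za23) (ka xa11 ya22 za50) (ka xa11 ya22 za52) (ka xa19 ya26 za36) (ka xa11 ya22 za54) (ka xa11 ya22 za55) (ka xa9 ya29 za10) (ka xa9 ya5 za32) (ka xa12 ya53 za12) (ka xa18 ya42 za53) (ka xa20 ya50 za60) (ka xa15 ya8 za15) (ka xa21 ya16 za10) (ka xa9 ya5 za42) (ka xa19 ya43 za21) (ka xa16 ya30 za32) (ka xa11 ya28 za6) (ka xa11 ya25 za33) (ka xa11 ya25 za35) (ka xa11 ya25 za36) (ka xa9 ya28 za30) (ka xa9 ya5 za58) (ka xa9 ya5 za59) (ka xa11 ya59 za11) (ka xa12 ya57 za8) (ka xa19 ya23 za23) (ka xa25 ya40 za27) (ka xa10 ya37 za0) (ka xa20 ya51 za39) (ka xa20 ya51 za40) (ka xa19 ya23 za37) (ka xa9 ya6 za36) (ka xa22 ya3 za16) (ka xa20 ya46 za14) (ka xa10 ya54 za43) (ka xa12 ya48 za61) (ka xa11 ya29 za23) (ka xa11 ya32 za10) (ka xa11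 ya29 za32) (ka xa11 ya29 za35) (ka xa9 ya21 za3) (ka xa9 ya6 za23) (ka xa9 ya6 za24)) (@D3.rec (fun _ => Pt) (ka xa9 ya6 za25) (ka xa9 ya6 za26) (ka xa9 ya6 za34) (ka xa9 ya6 za35) (ka xa9 ya6 za37) (ka xa9 ya6 za38) (ka xa9 ya6 za47) (ka xa9 ya6 za48) (ka xa24 ya49 za58) (ka xa9 ya6 za49) (ka xa11 ya30 za9) (ka xa11 ya30 za10) (ka xa11 ya42 za34) (ka xa22 ya6 za55) (ka xa20 ya23 za55) (ka xa22 ya6 za54) (ka xa19 ya23 za12) (ka xa26 ya53 za29) (ka xa26 ya53 za21) (ka xa26 ya53 za30) (ka xa26 ya53 za31) (ka xa20 ya38 za0) (ka xa20 ya41 za52) (ka xa20 ya24 za39) (ka xa15 ya3 za39) (ka xa26 ya26 za46) (ka xa26 ya26 za47) (ka xa14 ya11 za41) (ka xa20 ya41 za53) (ka xa20 ya41 za54) (ka xa22 ya7 za48) (ka xa18 ya2 za10) (ka xa20 ya38 za40) (ka xa20 ya42 za1) (ka xa11 ya5 za27) (ka xa23 ya58 za37) (ka xa20 ya42 za2) (ka xa26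 ya53 za32) (ka xa26 ya53 za33) (ka xa26 ya53 za35) (ka xa26 ya53 za36) (ka xa11 ya51 za48) (ka xa11 ya29 za26) (ka xa26 ya26 za48) (ka xa24 ya49 za49) (ka xa20 ya42 za13) (ka xa25 ya23 za36) (ka xa20 ya39 za24) (ka xa26 ya54 za28) (ka xa20 ya1 za45) (ka xa19 ya40 za26) (ka xa26 ya54 za31) (ka xa20 ya1 za43) (ka xa23 ya57 za22) (ka xa20 ya1 za51) (ka xa19 ya40 za27) (ka xa26 ya54 za38) (ka xa20 ya1 za50) (ka xa20 ya26 za34) (ka xa20 ya26 za44) (ka xa26 ya53 za42) (ka xa11 ya51 za44)) (@D3.rec (fun _ => Pt) (ka xa11 ya51 za45) (ka xa11 ya51 za46) (ka xa11 ya51 za47) (ka xa9 ya6 za52) (ka xa20 ya49 za45) (ka xa9 ya48 za47) (ka xa9 ya48 za48) (ka xa20 ya49 za31) (ka xa11 ya32 za11) (ka xa20 ya53 za2) (ka xa10 ya44 za20) (ka xa20 ya49 za26) (ka xa9 ya10 za55) (ka xa9 ya10 za56) (ka xa9 ya14 za19) (ka xa9 ya14 za20) (ka xa11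 ya32 za46) (ka xa11 ya32 za45) (ka xa9 ya50 za46) (ka xa9 ya50 za44) (ka xa11 ya42 za53) (ka xa11 ya42 za54) (ka xa11 ya42 za55) (ka xa11 ya36 za32) (ka xa11 ya36 za35) (ka xa11 ya36 za40) (ka xa11 ya36 za41) (ka xa11 ya36 za42) (ka xa9 ya7 za35) (ka xa9 ya7 za36) (ka xa9 ya7 za42) (ka xa9 ya7 za47) (ka xa16 ya28 za27) (ka xa9 ya7 za49) (ka xa9 ya7 za50) (ka xa9 ya7 za51) (ka xa11 ya38 za44) (ka xa11 ya38 za45) (ka xa20 ya40 za59) (ka xa11 ya37 za45) (ka xa10 ya23 za13) (ka xa12 ya27 za45) (ka xa12 ya27 za42) (ka xa11 ya57 za26) (ka xa18 ya25 za45) (ka xa21 ya20 za3) (ka xa25 ya18 za6) (ka xa20 ya32 za21) (ka xa20 ya32 za22) (ka xa10 ya4 za35) (ka xa11 ya21 za50) (ka xa10 ya4 za39) (ka xa9 ya15 za7) (ka xa23 ya30 za49) (ka xa23 ya47 za38) (ka xa10 ya2 za61) (ka xa18 ya39 za39) (ka xa9 ya15 za9) (ka xa9 ya15 za13) (ka xa22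 ya22 za27) (ka xa18 ya24 za54) (ka xa18 ya24 za55))
def f_a_17 : D2 → D3 → Pt := @D2.rec (fun _ => D3 → Pt) (@D3.rec (fun _ => Pt) (ka xa24 ya7 za23) (ka xa21 ya30 za10) (ka xa26 ya55 za6) (ka xa10 ya23 za9) (ka xa10 ya23 za8) (ka xa21 ya51 za53) (ka xa21 ya44 za14) (ka xa20 ya22 za21) (ka xa21 ya53 za27) (ka xa26 ya55 za7) (ka xa11 ya58 za27) (ka xa9 ya10 za9) (ka xa17 ya58 za41) (ka xa11 ya56 za36) (ka xa12 ya1 za22) (ka xa10 ya23 za7) (ka xa9 ya43 za0) (ka xa10 ya23 za6) (ka xa11 ya33 za0) (ka xa11 ya33 za24) (ka xa11 ya33 za25) (ka xa11 ya33 za27) (ka xa12 ya24 za4) (ka xa11 ya33 za30) (ka xa9 ya44 za23) (ka xa11 ya33 za3) (ka xa11 ya33 za4) (ka xa11 ya33 za5) (ka xa11 ya33 za6) (ka xa11 ya33 za8) (ka xa11 ya33 za9) (ka xa11 ya33 za10) (ka xa11 ya33 za11) (ka xa9 ya14 za13) (ka xa14 ya25 za10) (ka xa11 ya33 za18) (ka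 xa20 ya41 za1) (ka xa9 ya8 za27) (ka xa9 ya8 za28) (ka xa9 ya8 za29) (ka xa9 ya8 za30) (ka xa9 ya8 za31) (ka xa9 ya8 za34) (ka xa9 ya8 za36) (ka xa9 ya8 za37) (ka xa9 ya8 za42) (ka xa9 ya8 za43) (ka xa9 ya8 za51) (ka xa9 ya8 za55) (ka xa9 ya8 za56) (ka xa9 ya8 za59) (ka xa9 ya9 za1) (ka xa10 ya36 za57) (ka xa9 ya9 za2) (ka xa9 ya9 za3) (ka xa9 ya9 za4) (ka xa11 ya33 za57) (ka xa26 ya23 za41) (ka xa26 ya51 za0) (ka xa11 ya35 za50) (ka xa26 ya55 za38) (ka xa16 ya29 za49)) (@D3.rec (fun _ => Pt) (ka xa26 ya52 za29) (ka xa22 ya53 za5) (ka xa21 ya30 za45) (ka xa26 ya52 za28) (ka xa26 ya55 za39) (ka xa26 ya29 za27) (ka xa26 ya55 za40) (ka xa26 ya55 za41) (ka xa20 ya34 za3) (ka xa26 ya55 za42) (ka xa12 ya5 za5) (ka xa20 ya38 za49) (ka xa20 ya38 za50) (ka xa16 ya29 za53) (ka xa22 ya49 za6) (ka xa22 ya49 za5) (ka xa21 ya14 za12)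 (ka xa26 ya23 za47) (ka xa21 ya15 za48) (ka xa18 ya55 za53) (ka xa26 ya55 za44) (ka xa26 ya55 za45) (ka xa25 ya16 za8) (ka xa11 ya58 za28) (ka xa11 ya35 za7) (ka xa26 ya55 za46) (ka xa14 ya23 za6) (ka xa11 ya41 za54) (ka xa17 ya58 za31) (ka xa17 ya58 za32) (ka xa19 ya51 za39) (ka xa9 ya8 za47) (ka xa26 ya52 za1) (ka xa11 ya41 za57) (ka xa10 ya48 za31) (ka xa12 ya55 za27) (ka xa20 ya28 za10) (ka xa26 ya55 za47) (ka xa24 ya5 za26) (ka xa21 ya15 za10) (ka xa24 ya53 za21) (ka xa23 ya10 za44) (ka xa11 ya32 za31) (ka xa11 ya32 za32) (ka xa26 ya56 za49) (ka xa19 ya27 za32) (ka xa26 ya55 za48) (ka xa26 ya55 za49) (ka xa26 ya51 za33) (ka xa26 ya55 za51) (ka xa19 ya27 za18) (ka xa11 ya42 za0) (ka xa23 ya57 za31) (ka xa26 ya55 za52) (ka xa25 ya42 za10) (ka xa11 ya50 za36) (ka xa23 ya57 za33) (ka xa21 ya15 za52) (ka xa26 ya57 za8)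 (ka xa20 ya28 za14) (ka xa20 ya28 za15) (ka xa26 ya57 za15)) (@D3.rec (fun _ => Pt) (ka xa26 ya55 za53) (ka xa12 ya5 za44) (ka xa26 ya55 za57) (ka xa26 ya55 za58) (ka xa24 ya26 za18) (ka xa26 ya55 za59) (ka xa26 ya55 za60) (ka xa20 ya18 za52) (ka xa14 ya20 za14) (ka xa9 ya10 za49) (ka xa9 ya9 za7) (ka xa12 ya26 za14) (ka xa21 ya50 za57) (ka xa9 ya15 za36) (ka xa11 ya42 za42) (ka xa9 ya9 za12) (ka xa11 ya3 za51) (ka xa13 ya36 za35) (ka xa26 ya54 za57) (ka xa26 ya57 za30) (ka xa9 ya12 za46) (ka xa9 ya10 za0) (ka xa9 ya10 za5) (ka xa9 ya11 za5) (ka xa14 ya2 za16) (ka xa14 ya59 za57) (ka xa14 ya59 za58) (ka xa16 ya30 za28) (ka xa26 ya22 za11) (ka xa24 ya36 za43) (ka xa11 ya38 za2) (ka xa26 ya22 za12) (ka xa11 ya38 za1) (ka xa9 ya26 za24) (ka xa11 ya11 za52) (ka xa9 ya9 za40) (ka xa26 ya22 za57) (ka xa15 ya13 za44) (ka xa25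 ya45 za48) (ka xa15 ya6 za9) (ka xa15 ya13 za43) (ka xa16 ya29 za33) (ka xa21 ya29 za6) (ka xa21 ya29 za7) (ka xa21 ya29 za9) (ka xa17 ya19 za35) (ka xa21 ya12 za29) (ka xa21 ya15 za21) (ka xa21 ya15 za22) (ka xa9 ya10 za28) (ka xa20 ya0 za35) (ka xa9 ya10 za32) (ka xa9 ya10 za31) (ka xa21 ya2 za47) (ka xa18 ya24 za28) (ka xa18 ya24 za29) (ka xa15 ya26 za19) (ka xa16 ya29 za41) (ka xa18 ya20 za9) (ka xa24 ya59 za60) (ka xa24 ya59 za57) (ka xa15 ya13 za48)) (@D3.rec (fun _ => Pt) (ka xa12 ya0 za38) (ka xa9 ya15 za27) (ka xa9 ya15 za28) (ka xa9 ya15 za29) (ka xa9 ya15 za30) (ka xa9 ya15 za32) (ka xa9 ya15 za33) (ka xa9 ya15 za35) (ka xa18 ya10 za56) (ka xa12 ya15 za3) (ka xa12 ya15 za5) (ka xa12 ya15 za9) (ka xa20 ya2 za6) (ka xa12 ya14 za56) (ka xa23 ya40 za53) (ka xa18 ya24 za16) (ka xa11 ya56 za38) (ka xa9 ya10 za40)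 (ka xa9 ya10 za41) (ka xa9 ya10 za48) (ka xa10 ya4 za22) (ka xa10 ya4 za23) (ka xa10 ya4 za25) (ka xa10 ya2 za57) (ka xa10 ya2 za58) (ka xa10 ya2 za59) (ka xa10 ya2 za60) (ka xa18 ya25 za12) (ka xa18 ya25 za13) (ka xa18 ya24 za30) (ka xa11 ya58 za23) (ka xa9 ya10 za53) (ka xa9 ya10 za54) (ka xa11 ya38 za54) (ka xa11 ya51 za17) (ka xa11 ya17 za53) (ka xa20 ya1 za37) (ka xa20 ya18 za11) (ka xa19 ya29 za29) (ka xa20 ya1 za31) (ka xa26 ya57 za43) (ka xa18 ya44 za29) (ka xa23 ya1 za8) (ka xa26 ya57 za42) (ka xa24 ya0 za33) (ka xa26 ya17 za26) (ka xa16 ya30 za10) (ka xa26 ya31 za52) (ka xa16 ya30 za11) (ka xa13 ya8 za15) (ka xa9 ya19 za59) (ka xa12 ya15 za10) (ka xa12 ya1 za39) (ka xa16 ya29 za56) (ka xa12 ya24 za20) (ka xa22 ya3 za30) (ka xa23 ya47 za7) (ka xa12 ya24 za21) (ka xa26 ya52 za12) (ka xa17 ya16 za2) (ka xa12 ya1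 za49) (ka xa11 ya39 za58)) (@D3.rec (fun _ => Pt) (ka xa11 ya39 za59) (ka xa11 ya39 za61) (ka xa26 ya2 za31) (ka xa26 ya2 za33) (ka xa26 ya57 za26) (ka xa23 ya46 za26) (ka xa11 ya32 za49) (ka xa26 ya58 za30) (ka xa11 ya8 za8) (ka xa20 ya53 za26) (ka xa24 ya37 za48) (ka xa20 ya53 za25) (ka xa26 ya54 za56) (ka xa11 ya40 za6) (ka xa12 ya34 za19) (ka xa12 ya34 za20) (ka xa12 ya34 za21) (ka xa12 ya34 za22) (ka xa9 ya11 za59) (ka xa9 ya11 za60) (ka xa9 ya11 za61) (ka xa17 ya59 za37) (ka xa9 ya12 za2) (ka xa9 ya12 za3) (ka xa9 ya12 za5) (ka xa9 ya12 za6) (ka xa9 ya12 za8) (ka xa9 ya12 za9) (ka xa9 ya12 za11) (ka xa12 ya23 za37) (ka xa9 ya12 za17) (ka xa9 ya12 za19) (ka xa9 ya12 za20) (ka xa9 ya12 za23) (ka xa9 ya12 za27) (ka xa15 ya5 za21) (ka xa9 ya12 za32) (ka xa9 ya12 za33) (ka xa9 ya12 za34) (ka xa9 ya11 za13) (ka xa9 ya30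 za13) (ka xa12 ya10 za30) (ka xa11 ya0 za33) (ka xa12 ya10 za29) (ka xa11 ya48 za36) (ka xa12 ya40 za53) (ka xa12 ya53 za20) (ka xa12 ya53 za18) (ka xa12 ya41 za6) (ka xa12 ya53 za41) (ka xa12 ya53 za42) (ka xa12 ya53 za44) (ka xa12 ya53 za46) (ka xa12 ya53 za47) (ka xa12 ya53 za48) (ka xa11 ya48 za37) (ka xa11 ya48 za39) (ka xa12 ya43 za46) (ka xa11 ya48 za46) (ka xa12 ya53 za53) (ka xa12 ya53 za54) (ka xa26 ya4 za4)) (@D3.rec (fun _ => Pt) (ka xa12 ya53 za56) (ka xa12 ya53 za57) (ka xa12 ya36 za40) (ka xa12 ya29 za26) (ka xa12 ya39 za51) (ka xa12 ya53 za22) (ka xa12 ya19 za41) (ka xa12 ya53 za24) (ka xa12 ya36 za34) (ka xa12 ya53 za27) (ka xa12 ya16 za55) (ka xa12 ya53 za29) (ka xa9 ya38 za50) (ka xa11 ya49 za26) (ka xa12 ya53 za31) (ka xa12 ya36 za46) (ka xa9 ya38 za53) (ka xa11 ya49 za24) (ka xa11 ya49 za28) (ka xa12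 ya43 za22) (ka xa12 ya43 za23) (ka xa12 ya27 za54) (ka xa11 ya38 za29) (ka xa9 ya49 za5) (ka xa9 ya49 za6) (ka xa10 ya6 za24) (ka xa12 ya43 za43) (ka xa12 ya43 za44) (ka xa12 ya43 za45) (ka xa12 ya43 za13) (ka xa12 ya43 za48) (ka xa12 ya43 za49) (ka xa12 ya43 za50) (ka xa12 ya23 za40) (ka xa12 ya42 za12) (ka xa12 ya43 za39) (ka xa20 ya51 za32) (ka xa12 ya42 za30) (ka xa21 ya30 za22) (ka xa21 ya30 za23) (ka xa18 ya1 za24) (ka xa12 ya43 za33) (ka xa12 ya43 za34) (ka xa11 ya40 za28) (ka xa12 ya40 za45) (ka xa12 ya44 za9) (ka xa12 ya44 za10) (ka xa12 ya44 za11) (ka xa11 ya8 za30) (ka xa12 ya15 za33) (ka xa23 ya37 za45) (ka xa12 ya49 za60) (ka xa17 ya50 za23) (ka xa20 ya51 za49) (ka xa20 ya27 za0) (ka xa25 ya23 za49) (ka xa26 ya58 za39) (ka xa26 ya38 za57) (ka xa26 ya58 za40) (ka xa17 ya59 za47) (ka xa9 ya50 za15) (ka xa9 ya50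 za16)) (@D3.rec (fun _ => Pt) (ka xa9 ya50 za17) (ka xa20 ya40 za1) (ka xa26 ya58 za42) (ka xa26 ya58 za43) (ka xa26 ya58 za44) (ka xa17 ya59 za61) (ka xa17 ya9 za61) (ka xa17 ya51 za27) (ka xa26 ya58 za45) (ka xa26 ya41 za11) (ka xa17 ya51 za22) (ka xa26 ya58 za26) (ka xa12 ya2 za23) (ka xa26 ya38 za56) (ka xa26 ya58 za46) (ka xa9 ya12 za15) (ka xa9 ya12 za16) (ka xa20 ya8 za32) (ka xa11 ya49 za45) (ka xa12 ya53 za16) (ka xa11 ya49 za52) (ka xa18 ya22 za32) (ka xa14 ya34 za56) (ka xa26 ya10 za42) (ka xa11 ya31 za36) (ka xa26 ya58 za47) (ka xa20 ya53 za57) (ka xa26 ya58 za48) (ka xa21 ya48 za6) (ka xa21 ya45 za5) (ka xa17 ya9 za43) (ka xa11 ya49 za56) (ka xa10 ya58 za27) (ka xa26 ya50 za27) (ka xa17 ya24 za55) (ka xa26 ya50 za26) (ka xa20 ya11 za33) (ka xa26 ya58 za49) (ka xa9 ya22 za38) (ka xa24 ya15 za41) (ka xa9 ya12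 za29) (ka xa9 ya12 za30) (ka xa18 ya35 za5) (ka xa18 ya22 za36) (ka xa23 ya46 za50) (ka xa26 ya58 za50) (ka xa12 ya55 za7) (ka xa12 ya24 za6) (ka xa24 ya30 za31) (ka xa26 ya58 za51) (ka xa19 ya59 za52) (ka xa11 ya38 za17) (ka xa11 ya38 za18) (ka xa19 ya13 za51) (ka xa11 ya39 za45) (ka xa11 ya39 za46) (ka xa11 ya39 za47) (ka xa11 ya39 za17) (ka xa21 ya3 za0) (ka xa11 ya54 za5) (ka xa19 ya13 za56) (ka xa20 ya39 za26)) (@D3.rec (fun _ => Pt) (ka xa21 ya2 za61) (ka xa11 ya51 za2) (ka xa21 ya2 za60) (ka xa16 ya46 za25) (ka xa20 ya39 za25) (ka xa27 ya0 za23) (ka xa20 ya39 za12) (ka xa26 ya52 za25) (ka xa27 ya0 za29) (ka xa20 ya39 za11) (ka xa20 ya54 za6) (ka xa9 ya12 za45) (ka xa27 ya0 za32) (ka xa26 ya52 za26) (ka xa24 ya53 za25) (ka xa26 ya20 za17) (ka xa26 ya57 za32) (ka xa9 ya12 za59) (ka xa9 ya12 za60) (ka xa9 ya12 za61)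 (ka xa12 ya1 za38) (ka xa20 ya45 za10) (ka xa12 ya22 za11) (ka xa12 ya39 za17) (ka xa12 ya41 za7) (ka xa20 ya24 za1) (ka xa26 ya46 za26) (ka xa12 ya54 za51) (ka xa19 ya52 za54) (ka xa19 ya53 za5) (ka xa9 ya49 za17) (ka xa11 ya43 za55) (ka xa21 ya47 za6) (ka xa21 ya51 za34) (ka xa16 ya49 za1) (ka xa12 ya3 za48) (ka xa26 ya46 za28) (ka xa20 ya24 za27) (ka xa21 ya52 za22) (ka xa11 ya44 za23) (ka xa11 ya44 za24) (ka xa11 ya44 za25) (ka xa11 ya48 za21) (ka xa9 ya18 za7) (ka xa9 ya13 za57) (ka xa9 ya13 za26) (ka xa11 ya47 za18) (ka xa11 ya48 za10) (ka xa23 ya38 za1) (ka xa11 ya44 za40) (ka xa11 ya44 za41) (ka xa12 ya31 za41) (ka xa12 ya55 za33) (ka xa11 ya49 za22) (ka xa10 ya6 za57) (ka xa12 ya53 za15) (ka xa11 ya49 za23) (ka xa11 ya45 za6) (ka xa11 ya45 za5) (ka xa11 ya49 za30) (ka xa11 ya49 za31) (ka xa11 ya49 za32)) (@D3.rec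 (fun _ => Pt) (ka xa9 ya49 za35) (ka xa11 ya49 za41) (ka xa11 ya50 za2) (ka xa9 ya13 za50) (ka xa9 ya13 za51) (ka xa9 ya13 za54) (ka xa12 ya36 za15) (ka xa11 ya50 za7) (ka xa11 ya50 za9) (ka xa11 ya50 za8) (ka xa27 ya0 za53) (ka xa20 ya19 za33) (ka xa11 ya49 za10) (ka xa12 ya14 za21) (ka xa20 ya37 za54) (ka xa11 ya50 za14) (ka xa11 ya50 za12) (ka xa11 ya50 za16) (ka xa27 ya0 za54) (ka xa9 ya31 za36) (ka xa11 ya46 za58) (ka xa12 ya10 za16) (ka xa9 ya14 za4) (ka xa11 ya47 za14) (ka xa11 ya0 za24) (ka xa21 ya15 za8) (ka xa11 ya49 za61) (ka xa11 ya49 za60) (ka xa9 ya14 za6) (ka xa20 ya53 za55) (ka xa11 ya8 za22) (ka xa14 ya59 za61) (ka xa20 ya28 za37) (ka xa23 ya58 za32) (ka xa26 ya55 za37) (ka xa17 ya59 za44) (ka xa11 ya50 za51) (ka xa11 ya31 za37) (ka xa11 ya51 za7) (ka xa26 ya54 za58) (ka xa18 ya35 za10) (ka xa24 ya33 za29)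 (ka xa11 ya51 za0) (ka xa11 ya51 za3) (ka xa11 ya51 za4) (ka xa19 ya44 za7) (ka xa15 ya4 za17) (ka xa24 ya39 za15) (ka xa11 ya51 za13) (ka xa9 ya44 za7) (ka xa11 ya47 za50) (ka xa11 ya51 za27) (ka xa9 ya14 za33) (ka xa27 ya1 za5) (ka xa11 ya51 za24) (ka xa11 ya51 za25) (ka xa11 ya51 za20) (ka xa9 ya14 za35) (ka xa25 ya21 za25) (ka xa17 ya50 za60) (ka xa20 ya54 za4) (ka xa20 ya28 za20)) (@D3.rec (fun _ => Pt) (ka xa13 ya46 za14) (ka xa20 ya28 za19) (ka xa9 ya14 za42) (ka xa25 ya17 za12) (ka xa20 ya43 za23) (ka xa23 ya37 za32) (ka xa23 ya24 za44) (ka xa23 ya43 za0) (ka xa21 ya30 za12) (ka xa19 ya33 za10) (ka xa26 ya26 za23) (ka xa19 ya33 za17) (ka xa20 ya7 za15) (ka xa26 ya26 za24) (ka xa26 ya25 za49) (ka xa20 ya31 za37) (ka xa20 ya31 za38) (ka xa20 ya31 za39) (ka xa21 ya28 za37) (ka xa21 ya28 za38) (ka xa21 ya28 za40) (ka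 xa18 ya39 za32) (ka xa18 ya39 za33) (ka xa9 ya15 za3) (ka xa12 ya37 za52) (ka xa10 ya5 za26) (ka xa18 ya23 za16) (ka xa9 ya15 za4) (ka xa9 ya15 za5) (ka xa27 ya1 za24) (ka xa20 ya32 za47) (ka xa12 ya44 za35) (ka xa26 ya55 za13) (ka xa27 ya1 za25) (ka xa11 ya57 za57) (ka xa12 ya23 za42) (ka xa21 ya33 za29) (ka xa11 ya56 za37) (ka xa9 ya15 za8) (ka xa26 ya58 za53) (ka xa20 ya17 za8) (ka xa13 ya6 za25) (ka xa12 ya35 za8) (ka xa17 ya6 za30) (ka xa10 ya23 za15) (ka xa10 ya3 za57) (ka xa18 ya42 za12) (ka xa18 ya12 za52) (ka xa11 ya56 za35) (ka xa18 ya42 za10) (ka xa18 ya42 za11) (ka xa11 ya58 za38) (ka xa21 ya15 za46) (ka xa11 ya58 za39) (ka xa17 ya24 za37) (ka xa12 ya2 za12) (ka xa26 ya57 za52) (ka xa12 ya44 za53) (ka xa18 ya17 za10) (ka xa26 ya57 za53) (ka xa26 ya57 za27) (ka xa17 ya6 za6)) (@D3.rec (fun _ => Pt) (ka xa11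 ya58 za33) (ka xa17 ya59 za15) (ka xa26 ya57 za54) (ka xa11 ya49 za36) (ka xa18 ya57 za60) (ka xa18 ya57 za61) (ka xa20 ya51 za53) (ka xa21 ya30 za21) (ka xa14 ya13 za52) (ka xa18 ya23 za13) (ka xa12 ya14 za29) (ka xa17 ya10 za28) (ka xa25 ya53 za52) (ka xa12 ya16 za1) (ka xa12 ya16 za2) (ka xa21 ya17 za18) (ka xa21 ya17 za17) (ka xa9 ya15 za49) (ka xa27 ya1 za44) (ka xa17 ya27 za41) (ka xa12 ya15 za58) (ka xa9 ya20 za7) (ka xa12 ya20 za60) (ka xa25 ya30 za26) (ka xa17 ya27 za48) (ka xa17 ya27 za47) (ka xa9 ya15 za57) (ka xa27 ya1 za50) (ka xa17 ya10 za11) (ka xa17 ya27 za46) (ka xa21 ya16 za26) (ka xa9 ya16 za1) (ka xa20 ya46 za40) (ka xa27 ya1 za57) (ka xa18 ya57 za30) (ka xa9 ya16 za42) (ka xa9 ya16 za44) (ka xa9 ya16 za45) (ka xa27 ya2 za0) (ka xa9 ya16 za47) (ka xa9 ya16 za48) (ka xa27 ya2 za4) (ka xa9 ya16 za50)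 (ka xa9 ya16 za55) (ka xa9 ya16 za58) (ka xa9 ya16 za59) (ka xa9 ya17 za3) (ka xa9 ya22 za20) (ka xa9 ya22 za37) (ka xa20 ya30 za7) (ka xa9 ya22 za25) (ka xa9 ya22 za26) (ka xa9 ya21 za29) (ka xa9 ya21 za28) (ka xa9 ya22 za27) (ka xa11 ya42 za41) (ka xa9 ya21 za31) (ka xa14 ya3 za54) (ka xa17 ya18 za12) (ka xa15 ya26 za45) (ka xa9 ya25 za8) (ka xa16 ya30 za27)) (@D3.rec (fun _ => Pt) (ka xa22 ya35 za28) (ka xa9 ya26 za31) (ka xa9 ya26 za33) (ka xa17 ya19 za1) (ka xa9 ya16 za28) (ka xa24 ya19 za53) (ka xa9 ya26 za27) (ka xa9 ya26 za28) (ka xa9 ya26 za29) (ka xa12 ya50 za33) (ka xa17 ya18 za17) (ka xa14 ya29 za55) (ka xa11 ya58 za41) (ka xa9 ya16 za36) (ka xa9 ya16 za38) (ka xa9 ya16 za39) (ka xa12 ya12 za36) (ka xa11 ya30 za32) (ka xa20 ya15 za42) (ka xa14 ya56 za38) (ka xa20 ya46 za41) (ka xa20 ya46 za42) (ka xa11 ya46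 za31) (ka xa27 ya2 za30) (ka xa22 ya23 za21) (ka xa9 ya23 za17) (ka xa9 ya23 za13) (ka xa16 ya54 za34) (ka xa12 ya11 za19) (ka xa12 ya11 za20) (ka xa12 ya11 za21) (ka xa12 ya11 za22) (ka xa27 ya1 za61) (ka xa17 ya25 za11) (ka xa11 ya21 za18) (ka xa17 ya18 za26) (ka xa23 ya46 za37) (ka xa22 ya36 za54) (ka xa20 ya11 za48) (ka xa18 ya55 za47) (ka xa25 ya24 za6) (ka xa27 ya2 za3) (ka xa9 ya16 za46) (ka xa18 ya12 za11) (ka xa27 ya2 za46) (ka xa22 ya0 za35) (ka xa27 ya2 za2) (ka xa9 ya27 za30) (ka xa12 ya33 za47) (ka xa25 ya23 za39) (ka xa9 ya16 za49) (ka xa18 ya17 za31) (ka xa22 ya35 za42) (ka xa22 ya0 za36) (ka xa18 ya34 za18) (ka xa21 ya38 za53) (ka xa21 ya38 za54) (ka xa17 ya25 za39) (ka xa17 ya25 za37) (ka xa27 ya3 za4) (ka xa9 ya27 za22) (ka xa27 ya2 za6)) (@D3.rec (fun _ => Pt) (ka xa25 ya25 za53) (ka xa27 ya2 za7) (ka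 xa12 ya51 za50) (ka xa19 ya9 za61) (ka xa9 ya17 za34) (ka xa9 ya17 za35) (ka xa9 ya27 za61) (ka xa15 ya26 za57) (ka xa25 ya25 za52) (ka xa16 ya46 za42) (ka xa9 ya17 za9) (ka xa9 ya17 za14) (ka xa9 ya17 za16) (ka xa9 ya17 za17) (ka xa11 ya24 za19) (ka xa20 ya40 za31) (ka xa11 ya41 za8) (ka xa20 ya31 za11) (ka xa11 ya20 za16) (ka xa20 ya46 za3) (ka xa19 ya59 za60) (ka xa13 ya59 za10) (ka xa17 ya32 za13) (ka xa23 ya26 za22) (ka xa23 ya27 za53) (ka xa25 ya39 za53) (ka xa27 ya3 za16) (ka xa11 ya48 za28) (ka xa14 ya8 za0) (ka xa27 ya3 za24) (ka xa21 ya30 za31) (ka xa16 ya55 za44) (ka xa20 ya46 za8) (ka xa20 ya12 za24) (ka xa12 ya4 za8) (ka xa12 ya56 za12) (ka xa9 ya17 za29) (ka xa19 ya9 za60) (ka xa19 ya23 za7) (ka xa9 ya27 za18) (ka xa10 ya54 za0) (ka xa17 ya21 za60) (ka xa12 ya32 za40) (ka xa11 ya48 za43) (ka xa18 ya26 za5)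 (ka xa11 ya58 za16) (ka xa12 ya50 za1) (ka xa15 ya24 za26) (ka xa12 ya23 za13) (ka xa12 ya23 za14) (ka xa10 ya16 za16) (ka xa10 ya16 za15) (ka xa10 ya17 za12) (ka xa17 ya19 za56) (ka xa12 ya10 za31) (ka xa9 ya49 za56) (ka xa18 ya50 za8) (ka xa23 ya46 za27) (ka xa12 ya10 za32) (ka xa11 ya49 za58) (ka xa12 ya10 za33) (ka xa20 ya24 za50)) (@D3.rec (fun _ => Pt) (ka xa17 ya13 za15) (ka xa21 ya38 za57) (ka xa21 ya51 za18) (ka xa20 ya40 za26) (ka xa9 ya17 za57) (ka xa21 ya37 za16) (ka xa20 ya4 za30) (ka xa18 ya23 za30) (ka xa11 ya47 za4) (ka xa21 ya37 za17) (ka xa11 ya43 za56) (ka xa19 ya22 za48) (ka xa9 ya37 za3) (ka xa9 ya18 za9) (ka xa9 ya49 za25) (ka xa17 ya13 za0) (ka xa12 ya39 za16) (ka xa9 ya20 za0) (ka xa21 ya58 za1) (ka xa12 ya17 za28) (ka xa9 ya18 za19) (ka xa10 ya14 za0) (ka xa12 ya24 za35) (ka xa9 ya18 za20) (ka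 xa12 ya18 za56) (ka xa9 ya18 za21) (ka xa18 ya37 za59) (ka xa19 ya22 za49) (ka xa19 ya22 za50) (ka xa19 ya22 za51) (ka xa27 ya3 za40) (ka xa17 ya51 za60) (ka xa9 ya18 za24) (ka xa27 ya3 za52) (ka xa11 ya59 za59) (ka xa9 ya18 za47) (ka xa27 ya3 za55) (ka xa21 ya21 za12) (ka xa21 ya32 za3) (ka xa12 ya17 za34) (ka xa12 ya17 za32) (ka xa27 ya3 za59) (ka xa17 ya40 za10) (ka xa25 ya44 za46) (ka xa12 ya17 za50) (ka xa12 ya17 za49) (ka xa9 ya18 za33) (ka xa17 ya19 za32) (ka xa21 ya45 za6) (ka xa12 ya16 za58) (ka xa12 ya16 za56) (ka xa27 ya4 za7) (ka xa21 ya45 za24) (ka xa12 ya17 za16) (ka xa12 ya17 za15) (ka xa9 ya18 za40) (ka xa22 ya11 za11) (ka xa21 ya23 za48) (ka xa12 ya18 za5) (ka xa9 ya18 za44) (ka xa17 ya48 za44) (ka xa9 ya18 za49)) (@D3.rec (fun _ => Pt) (ka xa9 ya18 za46) (ka xa27 ya4 za16) (ka xa21 ya49 za49) (ka xa12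 ya56 za9) (ka xa21 ya32 za4) (ka xa22 ya10 za8) (ka xa26 ya46 za39) (ka xa27 ya3 za54) (ka xa22 ya10 za31) (ka xa12 ya18 za31) (ka xa21 ya27 za12) (ka xa12 ya19 za32) (ka xa12 ya19 za29) (ka xa27 ya4 za27) (ka xa9 ya18 za59) (ka xa12 ya18 za43) (ka xa9 ya18 za57) (ka xa27 ya4 za31) (ka xa27 ya4 za32) (ka xa21 ya24 za41) (ka xa27 ya4 za29) (ka xa12 ya21 za32) (ka xa12 ya21 za31) (ka xa12 ya16 za32) (ka xa21 ya27 za54) (ka xa12 ya18 za52) (ka xa12 ya18 za53) (ka xa9 ya19 za3) (ka xa10 ya6 za28) (ka xa25 ya44 za47) (ka xa12 ya12 za16) (ka xa21 ya26 za35) (ka xa21 ya19 za47) (ka xa21 ya59 za36) (ka xa18 ya36 za32) (ka xa21 ya26 za43) (ka xa16 ya16 za50) (ka xa22 ya8 za30) (ka xa18 ya36 za36) (ka xa21 ya26 za37) (ka xa21 ya26 za38) (ka xa27 ya4 za53) (ka xa9 ya19 za17) (ka xa27 ya4 za55) (ka xa12 ya21 za0) (ka xa9 ya19 za15)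 (ka xa25 ya57 za41) (ka xa27 ya4 za56) (ka xa21 ya27 za21) (ka xa21 ya5 za13) (ka xa21 ya5 za12) (ka xa27 ya4 za54) (ka xa12 ya21 za51) (ka xa9 ya32 za44) (ka xa21 ya5 za15) (ka xa9 ya27 za60) (ka xa9 ya19 za21) (ka xa20 ya37 za53) (ka xa20 ya37 za52) (ka xa12 ya7 za26) (ka xa20 ya41 za6) (ka xa9 ya19 za28)) (@D3.rec (fun _ => Pt) (ka xa9 ya19 za29) (ka xa9 ya19 za30) (ka xa9 ya19 za31) (ka xa26 ya22 za22) (ka xa27 ya5 za5) (ka xa27 ya5 za6) (ka xa27 ya5 za7) (ka xa16 ya30 za34) (ka xa27 ya5 za8) (ka xa26 ya25 za0) (ka xa26 ya29 za2) (ka xa11 ya46 za6) (ka xa16 ya32 za49) (ka xa20 ya8 za37) (ka xa16 ya31 za42) (ka xa16 ya31 za43) (ka xa16 ya31 za44) (ka xa16 ya31 za45) (ka xa16 ya30 za39) (ka xa16 ya31 za50) (ka xa16 ya31 za51) (ka xa16 ya31 za52) (ka xa16 ya31 za54) (ka xa16 ya30 za35) (ka xa16 ya31 za55) (ka xa13 ya47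 za23) (ka xa15 ya0 za13) (ka xa20 ya25 za42) (ka xa16 ya21 za1) (ka xa24 ya56 za44) (ka xa24 ya24 za12) (ka xa13 ya47 za22) (ka xa12 ya7 za42) (ka xa12 ya9 za35) (ka xa12 ya9 za36) (ka xa12 ya9 za37) (ka xa12 ya9 za38) (ka xa12 ya9 za41) (ka xa12 ya9 za10) (ka xa12 ya9 za11) (ka xa12 ya9 za12) (ka xa12 ya9 za13) (ka xa12 ya9 za16) (ka xa12 ya9 za17) (ka xa10 ya59 za51) (ka xa10 ya59 za31) (ka xa12 ya9 za31) (ka xa12 ya14 za19) (ka xa9 ya20 za3) (ka xa12 ya14 za37) (ka xa12 ya35 za30) (ka xa12 ya15 za7) (ka xa11 ya12 za37) (ka xa22 ya4 za54) (ka xa18 ya58 za4) (ka xa18 ya23 za23) (ka xa12 ya15 za0) (ka xa9 ya20 za2) (ka xa22 ya40 za21) (ka xa27 ya5 za42) (ka xa22 ya40 za33) (ka xa17 ya56 za43)) (@D3.rec (fun _ => Pt) (ka xa20 ya20 za39) (ka xa12 ya25 za21) (ka xa17 ya3 za59) (ka xa21 ya23 za56) (ka xa11 ya47 za54) (ka xa27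 ya5 za47) (ka xa22 ya8 za10) (ka xa12 ya25 za16) (ka xa12 ya25 za15) (ka xa9 ya20 za19) (ka xa22 ya8 za9) (ka xa12 ya26 za7) (ka xa9 ya20 za22) (ka xa12 ya26 za4) (ka xa9 ya20 za23) (ka xa27 ya5 za53) (ka xa20 ya34 za35) (ka xa27 ya5 za54) (ka xa11 ya12 za39) (ka xa16 ya9 za23) (ka xa9 ya20 za28) (ka xa16 ya9 za25) (ka xa16 ya9 za24) (ka xa27 ya5 za59) (ka xa12 ya26 za28) (ka xa12 ya21 za41) (ka xa9 ya20 za32) (ka xa16 ya7 za50) (ka xa12 ya21 za8) (ka xa9 ya20 za34) (ka xa27 ya6 za3) (ka xa9 ya56 za11) (ka xa12 ya24 za28) (ka xa12 ya24 za27) (ka xa9 ya20 za36) (ka xa10 ya18 za9) (ka xa12 ya29 za24) (ka xa11 ya28 za60) (ka xa9 ya20 za40) (ka xa12 ya2 za48) (ka xa12 ya29 za6) (ka xa14 ya24 za5) (ka xa20 ya23 za16) (ka xa21 ya30 za57) (ka xa9 ya25 za44) (ka xa10 ya25 za23) (ka xa10 ya25 za22) (ka xa20 ya2 za8) (ka xa9 ya24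 za50) (ka xa9 ya32 za43) (ka xa12 ya33 za15) (ka xa12 ya33 za16) (ka xa25 ya34 za15) (ka xa27 ya6 za16) (ka xa12 ya33 za23) (ka xa22 ya16 za31) (ka xa12 ya33 za31) (ka xa12 ya33 za32) (ka xa12 ya34 za38) (ka xa10 ya27 za4) (ka xa13 ya10 za47) (ka xa12 ya32 za59)) (@D3.rec (fun _ => Pt) (ka xa12 ya33 za36) (ka xa12 ya33 za34) (ka xa9 ya22 za17) (ka xa9 ya22 za16) (ka xa26 ya53 za28) (ka xa9 ya21 za30) (ka xa12 ya32 za38) (ka xa10 ya14 za20) (ka xa12 ya34 za1) (ka xa14 ya32 za14) (ka xa14 ya32 za15) (ka xa14 ya32 za16) (ka xa14 ya32 za17) (ka xa14 ya32 za18) (ka xa14 ya29 za20) (ka xa12 ya33 za46) (ka xa12 ya4 za48) (ka xa27 ya6 za40) (ka xa12 ya34 za5) (ka xa13 ya20 za10) (ka xa13 ya23 za44) (ka xa13 ya17 za19) (ka xa14 ya13 za21) (ka xa13 ya29 za55) (ka xa14 ya13 za23) (ka xa14 ya13 za24) (ka xa24 ya2 za1) (ka xa24 ya2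 za2) (ka xa21 ya35 za26) (ka xa21 ya35 za27) (ka xa22 ya7 za18) (ka xa22 ya7 za19) (ka xa24 ya2 za7) (ka xa23 ya47 za13) (ka xa26 ya43 za10) (ka xa23 ya47 za14) (ka xa27 ya2 za14) (ka xa21 ya38 za37) (ka xa21 ya38 za44) (ka xa27 ya7 za11) (ka xa12 ya32 za34) (ka xa22 ya7 za20) (ka xa27 ya2 za17) (ka xa9 ya21 za33) (ka xa27 ya7 za18) (ka xa27 ya7 za19) (ka xa12 ya32 za35) (ka xa12 ya32 za36) (ka xa12 ya35 za59) (ka xa12 ya35 za60) (ka xa12 ya33 za54) (ka xa20 ya19 za12) (ka xa9 ya23 za14) (ka xa11 ya43 za17) (ka xa11 ya43 za19) (ka xa9 ya27 za26) (ka xa9 ya27 za29) (ka xa9 ya27 za31) (ka xa9 ya27 za59) (ka xa9 ya28 za0) (ka xa9 ya28 za1) (ka xa27 ya7 za39)) (@D3.rec (fun _ => Pt) (ka xa9 ya28 za3) (ka xa21 ya16 za35) (ka xa21 ya16 za34) (ka xa9 ya21 za49) (ka xa27 ya7 za51) (ka xa9 ya28 za27) (ka xa13 ya6 za34) (ka xa12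 ya30 za59) (ka xa12 ya30 za58) (ka xa17 ya53 za44) (ka xa12 ya15 za55) (ka xa12 ya30 za54) (ka xa17 ya10 za58) (ka xa9 ya22 za1) (ka xa21 ya38 za26) (ka xa21 ya38 za25) (ka xa27 ya7 za59) (ka xa17 ya11 za10) (ka xa21 ya49 za40) (ka xa17 ya21 za17) (ka xa17 ya21 za18) (ka xa17 ya21 za20) (ka xa11 ya59 za1) (ka xa19 ya52 za1) (ka xa23 ya55 za22) (ka xa16 ya54 za49) (ka xa17 ya11 za35) (ka xa17 ya21 za15) (ka xa17 ya28 za49) (ka xa12 ya1 za12) (ka xa21 ya41 za35) (ka xa20 ya31 za52) (ka xa9 ya22 za18) (ka xa16 ya32 za20) (ka xa20 ya30 za9) (ka xa20 ya30 za10) (ka xa20 ya33 za2) (ka xa27 ya6 za27) (ka xa27 ya6 za28) (ka xa20 ya33 za3) (ka xa27 ya6 za26) (ka xa20 ya33 za45) (ka xa26 ya53 za0) (ka xa27 ya6 za29) (ka xa27 ya8 za14) (ka xa24 ya2 za18) (ka xa12 ya51 za52) (ka xa17 ya24 za54) (ka xa12 ya10 za11) (ka xa17 ya25 za20)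 (ka xa21 ya20 za32) (ka xa21 ya20 za33) (ka xa24 ya27 za59) (ka xa20 ya59 za56) (ka xa24 ya53 za33) (ka xa24 ya26 za56) (ka xa10 ya21 za59) (ka xa27 ya2 za10) (ka xa27 ya2 za11) (ka xa27 ya2 za12) (ka xa27 ya2 za13) (ka xa27 ya8 za61)) (@D3.rec (fun _ => Pt) (ka xa13 ya20 za41) (ka xa17 ya11 za3) (ka xa11 ya41 za1) (ka xa11 ya41 za2) (ka xa16 ya55 za4) (ka xa16 ya54 za59) (ka xa11 ya41 za21) (ka xa19 ya59 za53) (ka xa17 ya54 za55) (ka xa11 ya48 za30) (ka xa9 ya29 za56) (ka xa9 ya22 za47) (ka xa21 ya9 za28) (ka xa11 ya44 za55) (ka xa11 ya44 za48) (ka xa11 ya45 za7) (ka xa9 ya24 za18) (ka xa9 ya24 za23) (ka xa21 ya18 za55) (ka xa9 ya22 za55) (ka xa12 ya51 za15) (ka xa27 ya6 za10) (ka xa27 ya9 za4) (ka xa13 ya18 za20) (ka xa9 ya24 za48) (ka xa9 ya24 za49) (ka xa9 ya24 za54) (ka xa9 ya24 za59) (ka xa27 ya9 za10) (ka xa11 ya26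 za24) (ka xa9 ya25 za28) (ka xa9 ya23 za2) (ka xa17 ya13 za47) (ka xa9 ya25 za7) (ka xa9 ya25 za5) (ka xa17 ya2 za45) (ka xa20 ya19 za9) (ka xa23 ya58 za2) (ka xa24 ya18 za7) (ka xa9 ya25 za41) (ka xa21 ya35 za0) (ka xa9 ya24 za14) (ka xa24 ya14 za30) (ka xa24 ya15 za23) (ka xa9 ya25 za25) (ka xa16 ya53 za28) (ka xa21 ya35 za2) (ka xa20 ya10 za34) (ka xa18 ya47 za19) (ka xa24 ya15 za24) (ka xa9 ya23 za23) (ka xa9 ya23 za24) (ka xa9 ya23 za25) (ka xa9 ya23 za26) (ka xa9 ya23 za27) (ka xa17 ya24 za38) (ka xa17 ya12 za53) (ka xa17 ya24 za35) (ka xa27 ya9 za23) (ka xa27 ya9 za24) (ka xa27 ya9 za25) (ka xa27 ya9 za26)) (@D3.rec (fun _ => Pt) (ka xa10 ya27 za5) (ka xa21 ya40 za9) (ka xa22 ya7 za55) (ka xa27 ya3 za43) (ka xa21 ya40 za8) (ka xa24 ya15 za38) (ka xa22 ya22 za29) (ka xa22 ya22 za32) (ka xa27 ya9 za27) (ka xa27 ya9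 za28) (ka xa9 ya26 za42) (ka xa9 ya26 za43) (ka xa9 ya26 za44) (ka xa9 ya26 za48) (ka xa9 ya26 za49) (ka xa9 ya26 za50) (ka xa9 ya26 za51) (ka xa9 ya27 za2) (ka xa18 ya36 za6) (ka xa9 ya26 za61) (ka xa9 ya27 za0) (ka xa9 ya27 za8) (ka xa9 ya27 za9) (ka xa18 ya17 za23) (ka xa9 ya27 za13) (ka xa9 ya27 za14) (ka xa9 ya27 za16) (ka xa9 ya27 za17) (ka xa9 ya27 za19) (ka xa27 ya10 za13) (ka xa9 ya27 za23) (ka xa9 ya27 za36) (ka xa9 ya23 za39) (ka xa27 ya10 za15) (ka xa26 ya52 za60) (ka xa9 ya27 za46) (ka xa9 ya27 za48) (ka xa13 ya1 za34) (ka xa13 ya1 za33) (ka xa11 ya29 za1) (ka xa21 ya17 za46) (ka xa27 ya10 za22) (ka xa21 ya10 za4) (ka xa11 ya43 za59) (ka xa14 ya14 za13) (ka xa12 ya45 za33) (ka xa12 ya51 za49) (ka xa12 ya51 za51) (ka xa9 ya30 za17) (ka xa14 ya16 za12) (ka xa9 ya30 za55) (ka xa14 ya16 za13) (ka xa17 ya25 za58)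 (ka xa11 ya44 za4) (ka xa9 ya27 za52) (ka xa20 ya50 za48) (ka xa12 ya51 za17) (ka xa21 ya45 za31) (ka xa19 ya9 za59) (ka xa9 ya24 za0) (ka xa9 ya24 za1) (ka xa9 ya24 za2)) (@D3.rec (fun _ => Pt) (ka xa9 ya24 za3) (ka xa12 ya44 za57) (ka xa21 ya13 za17) (ka xa21 ya15 za24) (ka xa27 ya10 za41) (ka xa18 ya42 za18) (ka xa27 ya10 za37) (ka xa18 ya42 za17) (ka xa21 ya45 za36) (ka xa27 ya10 za38) (ka xa19 ya22 za20) (ka xa25 ya18 za45) (ka xa21 ya39 za52) (ka xa26 ya45 za29) (ka xa11 ya0 za61) (ka xa17 ya18 za27) (ka xa11 ya1 za2) (ka xa17 ya18 za19) (ka xa17 ya18 za20) (ka xa10 ya26 za13) (ka xa17 ya18 za21) (ka xa9 ya24 za8) (ka xa14 ya16 za57) (ka xa18 ya56 za26) (ka xa11 ya44 za50) (ka xa9 ya24 za11) (ka xa14 ya13 za56) (ka xa24 ya2 za31) (ka xa9 ya28 za39) (ka xa27 ya9 za20) (ka xa24 ya15 za40) (ka xa12 ya50 za31) (ka xa12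 ya50 za32) (ka xa12 ya50 za34) (ka xa12 ya50 za35) (ka xa27 ya10 za61) (ka xa15 ya52 za31) (ka xa9 ya28 za49) (ka xa21 ya46 za21) (ka xa16 ya0 za3) (ka xa26 ya14 za7) (ka xa26 ya14 za5) (ka xa9 ya24 za25) (ka xa27 ya11 za8) (ka xa27 ya11 za4) (ka xa11 ya43 za60) (ka xa11 ya48 za9) (ka xa19 ya10 za27) (ka xa11 ya26 za11) (ka xa9 ya24 za41) (ka xa9 ya24 za43) (ka xa11 ya44 za11) (ka xa23 ya34 za33) (ka xa18 ya48 za21) (ka xa24 ya53 za42) (ka xa24 ya53 za41) (ka xa13 ya18 za19) (ka xa10 ya25 za26) (ka xa26 ya19 za39) (ka xa17 ya23 za13) (ka xa17 ya12 za41) (ka xa27 ya9 za7)) (@D3.rec (fun _ => Pt) (ka xa14 ya14 za8) (ka xa17 ya23 za14) (ka xa18 ya53 za5) (ka xa24 ya15 za26) (ka xa27 ya11 za22) (ka xa19 ya26 za14) (ka xa12 ya59 za19) (ka xa25 ya31 za46) (ka xa12 ya52 za48) (ka xa9 ya28 za45) (ka xa15 ya37 za25) (ka xa19 ya26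 za8) (ka xa16 ya45 za46) (ka xa24 ya5 za12) (ka xa27 ya11 za34) (ka xa9 ya24 za60) (ka xa27 ya11 za37) (ka xa27 ya11 za31) (ka xa14 ya1 za36) (ka xa14 ya20 za3) (ka xa14 ya7 za59) (ka xa21 ya57 za9) (ka xa20 ya9 za33) (ka xa9 ya27 za25) (ka xa27 ya9 za12) (ka xa18 ya42 za48) (ka xa21 ya16 za1) (ka xa18 ya21 za15) (ka xa9 ya25 za18) (ka xa9 ya25 za19) (ka xa9 ya25 za20) (ka xa9 ya25 za21) (ka xa9 ya25 za22) (ka xa21 ya9 za10) (ka xa11 ya28 za50) (ka xa11 ya2 za11) (ka xa16 ya55 za15) (ka xa26 ya26 za25) (ka xa15 ya56 za37) (ka xa15 ya56 za33) (ka xa27 ya11 za46) (ka xa11 ya45 za41) (ka xa21 ya57 za10) (ka xa27 ya11 za47) (ka xa26 ya57 za58) (ka xa23 ya52 za60) (ka xa27 ya11 za48) (ka xa27 ya11 za49) (ka xa23 ya57 za54) (ka xa19 ya29 za24) (ka xa23 ya57 za20) (ka xa27 ya11 za50) (ka xa24 ya10 za33) (ka xa16 ya44 za43) (ka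 xa14 ya6 za49) (ka xa18 ya0 za29) (ka xa16 ya31 za41) (ka xa27 ya9 za11) (ka xa11 ya49 za1) (ka xa12 ya37 za17) (ka xa12 ya42 za17) (ka xa20 ya28 za11)) (@D3.rec (fun _ => Pt) (ka xa20 ya18 za61) (ka xa16 ya54 za30) (ka xa26 ya22 za2) (ka xa18 ya50 za14) (ka xa24 ya18 za8) (ka xa26 ya22 za3) (ka xa24 ya18 za6) (ka xa23 ya6 za56) (ka xa23 ya6 za48) (ka xa11 ya45 za31) (ka xa18 ya49 za13) (ka xa27 ya9 za22) (ka xa18 ya53 za8) (ka xa17 ya21 za59) (ka xa17 ya22 za1) (ka xa9 ya52 za58) (ka xa18 ya26 za24) (ka xa13 ya21 za49) (ka xa9 ya49 za15) (ka xa11 ya45 za45) (ka xa11 ya45 za47) (ka xa11 ya45 za48) (ka xa11 ya45 za3) (ka xa11 ya45 za50) (ka xa11 ya45 za37) (ka xa22 ya36 za19) (ka xa9 ya49 za33) (ka xa11 ya45 za29) (ka xa10 ya20 za8) (ka xa11 ya45 za30) (ka xa11 ya45 za32) (ka xa11 ya45 za33) (ka xa9 ya26 za9) (ka xa9 ya26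 za10) (ka xa9 ya26 za11) (ka xa9 ya26 za12) (ka xa9 ya26 za21) (ka xa9 ya26 za22) (ka xa9 ya47 za54) (ka xa11 ya45 za52) (ka xa11 ya45 za53) (ka xa11 ya45 za54) (ka xa11 ya45 za57) (ka xa11 ya45 za56) (ka xa20 ya44 za7) (ka xa9 ya49 za60) (ka xa9 ya49 za61) (ka xa9 ya50 za0) (ka xa9 ya50 za1) (ka xa22 ya37 za17) (ka xa27 ya12 za32) (ka xa27 ya12 za33) (ka xa22 ya36 za60) (ka xa12 ya7 za43) (ka xa24 ya33 za53) (ka xa27 ya12 za34) (ka xa25 ya52 za54) (ka xa13 ya37 za3) (ka xa27 ya12 za35) (ka xa13 ya37 za1) (ka xa11 ya26 za1) (ka xa20 ya33 za32)) (@D3.rec (fun _ => Pt) (ka xa9 ya26 za15) (ka xa23 ya57 za15) (ka xa20 ya33 za20) (ka xa19 ya24 za59) (ka xa15 ya41 za1) (ka xa24 ya0 za37) (ka xa20 ya39 za52) (ka xa22 ya22 za52) (ka xa22 ya22 za53) (ka xa14 ya31 za38) (ka xa22 ya22 za54) (ka xa22 ya22 za55) (ka xa22 ya0 za37)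 (ka xa24 ya39 za28) (ka xa27 ya13 za16) (ka xa27 ya12 za37) (ka xa27 ya12 za38) (ka xa27 ya12 za39) (ka xa9 ya26 za25) (ka xa14 ya46 za30) (ka xa11 ya11 za49) (ka xa16 ya52 za21) (ka xa27 ya13 za25) (ka xa16 ya52 za19) (ka xa26 ya6 za1) (ka xa25 ya53 za18) (ka xa27 ya2 za21) (ka xa20 ya11 za47) (ka xa27 ya2 za22) (ka xa27 ya2 za23) (ka xa27 ya2 za24) (ka xa27 ya2 za25) (ka xa14 ya33 za52) (ka xa13 ya37 za5) (ka xa18 ya48 za53) (ka xa17 ya19 za57) (ka xa12 ya10 za26) (ka xa17 ya9 za54) (ka xa17 ya19 za55) (ka xa20 ya44 za8) (ka xa20 ya44 za9) (ka xa20 ya44 za10) (ka xa20 ya44 za11) (ka xa17 ya25 za21) (ka xa11 ya15 za59) (ka xa22 ya46 za31) (ka xa17 ya25 za23) (ka xa17 ya25 za24) (ka xa17 ya25 za25) (ka xa17 ya25 za26) (ka xa17 ya25 za19) (ka xa20 ya52 za32) (ka xa20 ya52 za33) (ka xa20 ya52 za34) (ka xa17 ya18 za47) (ka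 xa17 ya6 za34) (ka xa27 ya9 za52) (ka xa18 ya44 za34) (ka xa18 ya44 za33) (ka xa27 ya9 za53) (ka xa19 ya28 za14) (ka xa10 ya20 za35)) (@D3.rec (fun _ => Pt) (ka xa21 ya16 za41) (ka xa23 ya19 za48) (ka xa26 ya22 za30) (ka xa18 ya48 za59) (ka xa15 ya58 za49) (ka xa20 ya20 za7) (ka xa27 ya9 za55) (ka xa18 ya47 za27) (ka xa14 ya22 za25) (ka xa27 ya14 za27) (ka xa27 ya9 za56) (ka xa17 ya11 za33) (ka xa25 ya47 za37) (ka xa26 ya42 za11) (ka xa19 ya38 za58) (ka xa27 ya14 za33) (ka xa25 ya59 za61) (ka xa27 ya9 za58) (ka xa25 ya32 za37) (ka xa17 ya24 za50) (ka xa17 ya18 za49) (ka xa17 ya24 za43) (ka xa15 ya51 za16) (ka xa17 ya24 za46) (ka xa17 ya24 za47) (ka xa17 ya24 za48) (ka xa17 ya24 za49) (ka xa18 ya21 za14) (ka xa18 ya42 za2) (ka xa18 ya42 za3) (ka xa18 ya42 za49) (ka xa18 ya42 za50) (ka xa18 ya42 za51) (ka xa15 ya26 za26)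 (ka xa18 ya14 za40) (ka xa27 ya14 za59) (ka xa16 ya6 za59) (ka xa17 ya11 za58) (ka xa25 ya59 za15) (ka xa17 ya11 za57) (ka xa18 ya13 za55) (ka xa27 ya9 za59) (ka xa9 ya27 za5) (ka xa9 ya59 za29) (ka xa23 ya56 za56) (ka xa27 ya15 za0) (ka xa27 ya15 za1) (ka xa24 ya19 za52) (ka xa27 ya15 za11) (ka xa27 ya10 za2) (ka xa27 ya10 za3) (ka xa27 ya10 za4) (ka xa21 ya38 za31) (ka xa27 ya10 za5) (ka xa21 ya38 za30) (ka xa18 ya21 za16) (ka xa18 ya21 za17) (ka xa17 ya26 za43) (ka xa17 ya20 za52) (ka xa23 ya8 za23) (ka xa16 ya0 za25) (ka xa18 ya47 za30)) (@D3.rec (fun _ => Pt) (ka xa9 ya27 za15) (ka xa27 ya15 za27) (ka xa19 ya7 za14) (ka xa27 ya15 za33) (ka xa27 ya10 za9) (ka xa27 ya10 za10) (ka xa23 ya0 za50) (ka xa21 ya16 za45) (ka xa27 ya10 za11) (ka xa19 ya3 za13) (ka xa19 ya6 za41) (ka xa26 ya42 za5) (ka xa27 ya15 za46) (ka xa27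 ya15 za48) (ka xa9 ya27 za20) (ka xa27 ya15 za53) (ka xa27 ya15 za45) (ka xa22 ya7 za3) (ka xa25 ya58 za35) (ka xa25 ya32 za38) (ka xa12 ya52 za8) (ka xa12 ya52 za7) (ka xa27 ya11 za41) (ka xa21 ya3 za60) (ka xa13 ya11 za9) (ka xa22 ya11 za20) (ka xa22 ya1 za14) (ka xa27 ya7 za33) (ka xa12 ya11 za28) (ka xa22 ya1 za15) (ka xa27 ya11 za42) (ka xa22 ya0 za61) (ka xa25 ya51 za43) (ka xa24 ya21 za22) (ka xa22 ya1 za0) (ka xa27 ya2 za57) (ka xa27 ya7 za34) (ka xa27 ya3 za11) (ka xa27 ya16 za33) (ka xa27 ya7 za36) (ka xa13 ya1 za54) (ka xa14 ya16 za47) (ka xa9 ya27 za34) (ka xa17 ya25 za57) (ka xa19 ya30 za1) (ka xa18 ya16 za0) (ka xa10 ya4 za37) (ka xa19 ya9 za58) (ka xa9 ya27 za38) (ka xa21 ya39 za55) (ka xa25 ya59 za40) (ka xa10 ya4 za31) (ka xa11 ya35 za48) (ka xa9 ya30 za41) (ka xa18 ya43 za12) (ka xa19 ya10 za28) (ka xa9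 ya27 za43) (ka xa9 ya27 za44) (ka xa20 ya27 za23) (ka xa18 ya14 za47) (ka xa27 ya16 za42) (ka xa12 ya57 za7)) (@D3.rec (fun _ => Pt) (ka xa27 ya16 za43) (ka xa25 ya54 za47) (ka xa22 ya7 za5) (ka xa27 ya10 za18) (ka xa25 ya48 za22) (ka xa27 ya10 za19) (ka xa25 ya43 za58) (ka xa27 ya16 za60) (ka xa21 ya38 za35) (ka xa27 ya17 za2) (ka xa12 ya52 za10) (ka xa26 ya53 za17) (ka xa9 ya29 za25) (ka xa9 ya29 za38) (ka xa26 ya57 za24) (ka xa26 ya53 za20) (ka xa12 ya52 za4) (ka xa12 ya52 za5) (ka xa9 ya28 za43) (ka xa27 ya17 za15) (ka xa12 ya52 za36) (ka xa12 ya19 za56) (ka xa17 ya29 za11) (ka xa27 ya17 za19) (ka xa22 ya2 za11) (ka xa12 ya59 za40) (ka xa27 ya17 za24) (ka xa22 ya2 za10) (ka xa27 ya17 za28) (ka xa22 ya1 za60) (ka xa27 ya17 za31) (ka xa22 ya1 za59) (ka xa27 ya17 za1) (ka xa27 ya17 za0) (ka xa9 ya28 za2) (ka xa25 ya24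 za38) (ka xa27 ya7 za41) (ka xa22 ya11 za22) (ka xa27 ya7 za42) (ka xa27 ya7 za43) (ka xa15 ya36 za2) (ka xa17 ya10 za19) (ka xa21 ya17 za12) (ka xa21 ya17 za11) (ka xa9 ya28 za6) (ka xa27 ya17 za50) (ka xa17 ya10 za29) (ka xa17 ya10 za25) (ka xa17 ya10 za24) (ka xa9 ya28 za8) (ka xa27 ya17 za55) (ka xa26 ya4 za1) (ka xa21 ya17 za16) (ka xa21 ya16 za22) (ka xa21 ya16 za21) (ka xa9 ya28 za12) (ka xa27 ya18 za0) (ka xa21 ya17 za21) (ka xa21 ya17 za23) (ka xa21 ya17 za22) (ka xa9 ya28 za15) (ka xa27 ya18 za6)) (@D3.rec (fun _ => Pt) (ka xa27 ya18 za7) (ka xa16 ya0 za36) (ka xa16 ya0 za29) (ka xa21 ya17 za27) (ka xa9 ya28 za18) (ka xa27 ya18 za15) (ka xa21 ya17 za26) (ka xa12 ya20 za2) (ka xa21 ya17 za32) (ka xa21 ya17 za33) (ka xa15 ya57 za22) (ka xa16 ya0 za24) (ka xa9 ya28 za23) (ka xa21 ya17 za36) (ka xa21 ya17 za35) (ka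 xa21 ya56 za46) (ka xa27 ya18 za24) (ka xa24 ya17 za30) (ka xa19 ya46 za20) (ka xa27 ya18 za35) (ka xa21 ya17 za40) (ka xa27 ya18 za41) (ka xa12 ya11 za57) (ka xa27 ya7 za56) (ka xa25 ya30 za44) (ka xa27 ya7 za57) (ka xa11 ya1 za33) (ka xa26 ya53 za19) (ka xa9 ya28 za40) (ka xa9 ya28 za42) (ka xa9 ya28 za44) (ka xa24 ya37 za41) (ka xa9 ya28 za55) (ka xa12 ya51 za38) (ka xa13 ya23 za12) (ka xa14 ya23 za7) (ka xa14 ya23 za8) (ka xa14 ya16 za11) (ka xa9 ya28 za36) (ka xa27 ya19 za0) (ka xa21 ya20 za60) (ka xa21 ya20 za61) (ka xa14 ya13 za57) (ka xa27 ya10 za56) (ka xa16 ya49 za13) (ka xa27 ya19 za12) (ka xa27 ya18 za50) (ka xa27 ya18 za51) (ka xa14 ya13 za60) (ka xa17 ya18 za28) (ka xa27 ya18 za52) (ka xa12 ya11 za29) (ka xa19 ya53 za36) (ka xa25 ya35 za51) (ka xa27 ya0 za4) (ka xa26 ya55 za56) (ka xa27 ya18 za53) (ka xa27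 ya18 za54) (ka xa19 ya40 za50) (ka xa19 ya40 za49) (ka xa25 ya31 za48) (ka xa27 ya11 za27)) (@D3.rec (fun _ => Pt) (ka xa21 ya45 za35) (ka xa12 ya38 za60) (ka xa19 ya17 za26) (ka xa24 ya15 za50) (ka xa24 ya15 za51) (ka xa27 ya19 za39) (ka xa27 ya11 za0) (ka xa21 ya45 za37) (ka xa22 ya1 za54) (ka xa25 ya13 za9) (ka xa12 ya11 za41) (ka xa17 ya27 za22) (ka xa15 ya21 za59) (ka xa25 ya35 za44) (ka xa25 ya35 za43) (ka xa9 ya28 za54) (ka xa21 ya58 za9) (ka xa21 ya21 za0) (ka xa25 ya35 za50) (ka xa27 ya18 za56) (ka xa12 ya3 za7) (ka xa12 ya40 za11) (ka xa24 ya42 za56) (ka xa12 ya40 za14) (ka xa12 ya50 za43) (ka xa12 ya50 za42) (ka xa9 ya28 za60) (ka xa12 ya50 za40) (ka xa12 ya50 za39) (ka xa9 ya28 za61) (ka xa12 ya39 za28) (ka xa12 ya40 za21) (ka xa9 ya29 za7) (ka xa9 ya29 za3) (ka xa27 ya19 za58) (ka xa25 ya13 za4) (ka xa22 ya2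 za29) (ka xa9 ya29 za4) (ka xa17 ya42 za10) (ka xa15 ya38 za13) (ka xa17 ya42 za40) (ka xa9 ya29 za6) (ka xa27 ya20 za1) (ka xa26 ya5 za46) (ka xa27 ya20 za2) (ka xa27 ya20 za3) (ka xa27 ya19 za57) (ka xa12 ya51 za13) (ka xa21 ya52 za26) (ka xa26 ya48 za49) (ka xa23 ya34 za30) (ka xa9 ya29 za21) (ka xa9 ya29 za22) (ka xa9 ya29 za24) (ka xa9 ya29 za32) (ka xa9 ya29 za35) (ka xa27 ya20 za9) (ka xa9 ya29 za37) (ka xa26 ya19 za44) (ka xa14 ya46 za34) (ka xa14 ya46 za35) (ka xa14 ya46 za36)) (@D3.rec (fun _ => Pt) (ka xa14 ya46 za37) (ka xa23 ya34 za32) (ka xa20 ya0 za23) (ka xa13 ya1 za57) (ka xa13 ya1 za59) (ka xa18 ya16 za45) (ka xa24 ya53 za14) (ka xa18 ya35 za9) (ka xa19 ya39 za46) (ka xa21 ya38 za6) (ka xa21 ya38 za5) (ka xa20 ya17 za40) (ka xa21 ya38 za21) (ka xa27 ya20 za25) (ka xa27 ya20 za7) (ka xa20 ya15 za13) (ka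 xa12 ya19 za57) (ka xa16 ya16 za59) (ka xa23 ya37 za46) (ka xa21 ya3 za2) (ka xa13 ya27 za44) (ka xa18 ya16 za38) (ka xa16 ya15 za53) (ka xa18 ya16 za37) (ka xa21 ya30 za59) (ka xa15 ya49 za8) (ka xa26 ya18 za10) (ka xa18 ya35 za6) (ka xa17 ya37 za43) (ka xa9 ya29 za36) (ka xa23 ya49 za52) (ka xa26 ya12 za16) (ka xa12 ya19 za58) (ka xa21 ya58 za34) (ka xa27 ya20 za11) (ka xa23 ya22 za0) (ka xa27 ya17 za6) (ka xa12 ya52 za45) (ka xa12 ya52 za44) (ka xa9 ya29 za39) (ka xa12 ya41 za48) (ka xa12 ya41 za47) (ka xa11 ya8 za61) (ka xa9 ya41 za22) (ka xa12 ya16 za33) (ka xa12 ya16 za31) (ka xa12 ya41 za57) (ka xa12 ya52 za40) (ka xa12 ya52 za39) (ka xa9 ya29 za44) (ka xa12 ya41 za61) (ka xa12 ya38 za59) (ka xa9 ya29 za51) (ka xa9 ya29 za47) (ka xa21 ya31 za6) (ka xa23 ya50 za20) (ka xa20 ya22 za24) (ka xa27 ya20 za52) (ka xa9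 ya29 za48) (ka xa25 ya31 za6) (ka xa23 ya50 za22) (ka xa21 ya34 za60)) (@D3.rec (fun _ => Pt) (ka xa9 ya29 za50) (ka xa26 ya46 za34) (ka xa21 ya59 za31) (ka xa21 ya35 za42) (ka xa27 ya20 za51) (ka xa21 ya42 za26) (ka xa9 ya49 za34) (ka xa11 ya45 za12) (ka xa24 ya2 za17) (ka xa11 ya26 za10) (ka xa11 ya41 za23) (ka xa11 ya44 za0) (ka xa11 ya41 za22) (ka xa11 ya43 za61) (ka xa11 ya44 za2) (ka xa9 ya30 za1) (ka xa21 ya49 za50) (ka xa26 ya43 za36) (ka xa21 ya22 za10) (ka xa11 ya44 za52) (ka xa11 ya44 za53) (ka xa11 ya44 za54) (ka xa19 ya47 za47) (ka xa11 ya44 za57) (ka xa11 ya44 za58) (ka xa11 ya44 za60) (ka xa11 ya45 za1) (ka xa9 ya30 za14) (ka xa9 ya30 za15) (ka xa20 ya44 za13) (ka xa14 ya30 za41) (ka xa19 ya51 za56) (ka xa11 ya48 za29) (ka xa20 ya41 za60) (ka xa20 ya24 za31) (ka xa27 ya21 za6) (ka xa18 ya47 za47) (ka xa27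 ya10 za29) (ka xa9 ya49 za53) (ka xa11 ya44 za13) (ka xa11 ya44 za14) (ka xa11 ya44 za16) (ka xa11 ya44 za19) (ka xa11 ya44 za20) (ka xa11 ya44 za21) (ka xa10 ya59 za21) (ka xa11 ya43 za58) (ka xa15 ya29 za56) (ka xa20 ya26 za31) (ka xa9 ya30 za45) (ka xa9 ya30 za47) (ka xa19 ya26 za51) (ka xa18 ya57 za9) (ka xa9 ya30 za57) (ka xa9 ya30 za59) (ka xa25 ya26 za15) (ka xa9 ya31 za8) (ka xa9 ya31 za9) (ka xa9 ya31 za10) (ka xa9 ya30 za40) (ka xa18 ya56 za43) (ka xa12 ya55 za0)) (@D3.rec (fun _ => Pt) (ka xa20 ya12 za55) (ka xa24 ya39 za26) (ka xa9 ya30 za42) (ka xa27 ya21 za23) (ka xa22 ya20 za27) (ka xa22 ya20 za28) (ka xa12 ya55 za2) (ka xa19 ya24 za55) (ka xa27 ya21 za28) (ka xa19 ya25 za61) (ka xa20 ya59 za7) (ka xa12 ya55 za15) (ka xa20 ya14 za57) (ka xa17 ya12 za22) (ka xa24 ya36 za49) (ka xa9 ya30 za54) (ka xa18 ya57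 za18) (ka xa14 ya35 za28) (ka xa14 ya35 za29) (ka xa12 ya55 za24) (ka xa18 ya41 za59) (ka xa21 ya2 za8) (ka xa11 ya10 za18) (ka xa12 ya55 za31) (ka xa20 ya41 za59) (ka xa27 ya0 za52) (ka xa14 ya26 za20) (ka xa27 ya10 za30) (ka xa22 ya20 za25) (ka xa22 ya20 za26) (ka xa22 ya11 za37) (ka xa20 ya42 za57) (ka xa25 ya20 za18) (ka xa19 ya26 za0) (ka xa10 ya51 za25) (ka xa10 ya59 za24) (ka xa11 ya10 za14) (ka xa10 ya59 za23) (ka xa14 ya27 za13) (ka xa19 ya24 za46) (ka xa11 ya39 za55) (ka xa15 ya30 za16) (ka xa18 ya43 za29) (ka xa19 ya26 za44) (ka xa27 ya21 za50) (ka xa19 ya24 za47) (ka xa19 ya25 za59) (ka xa16 ya48 za54) (ka xa12 ya55 za58) (ka xa16 ya47 za12) (ka xa25 ya25 za58) (ka xa21 ya0 za35) (ka xa21 ya0 za32) (ka xa21 ya0 za33) (ka xa19 ya25 za0) (ka xa19 ya24 za57) (ka xa27 ya13 za23) (ka xa27 ya13 za15) (ka xa27 ya13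 za21) (ka xa27 ya21 za20) (ka xa11 ya20 za29) (ka xa11 ya20 za28)) (@D3.rec (fun _ => Pt) (ka xa12 ya55 za20) (ka xa12 ya55 za21) (ka xa12 ya55 za28) (ka xa12 ya55 za29) (ka xa12 ya55 za25) (ka xa27 ya21 za4) (ka xa19 ya25 za20) (ka xa20 ya59 za46) (ka xa20 ya18 za49) (ka xa24 ya53 za2) (ka xa12 ya54 za9) (ka xa16 ya14 za13) (ka xa12 ya55 za6) (ka xa11 ya5 za49) (ka xa26 ya59 za56) (ka xa12 ya55 za34) (ka xa9 ya31 za24) (ka xa26 ya10 za33) (ka xa12 ya54 za17) (ka xa18 ya15 za29) (ka xa12 ya54 za44) (ka xa12 ya14 za54) (ka xa9 ya31 za33) (ka xa9 ya31 za34) (ka xa12 ya54 za50) (ka xa12 ya21 za46) (ka xa12 ya21 za45) (ka xa27 ya22 za4) (ka xa18 ya57 za59) (ka xa11 ya49 za8) (ka xa20 ya38 za1) (ka xa26 ya46 za29) (ka xa12 ya54 za54) (ka xa12 ya54 za53) (ka xa21 ya2 za31) (ka xa11 ya49 za16) (ka xa12 ya55 za12) (ka xa12 ya55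 za11) (ka xa9 ya31 za39) (ka xa24 ya34 za7) (ka xa24 ya34 za33) (ka xa19 ya23 za60) (ka xa9 ya42 za30) (ka xa12 ya55 za37) (ka xa19 ya26 za20) (ka xa19 ya26 za21) (ka xa12 ya55 za43) (ka xa9 ya31 za49) (ka xa12 ya55 za60) (ka xa12 ya55 za59) (ka xa9 ya31 za54) (ka xa15 ya25 za43) (ka xa25 ya24 za24) (ka xa18 ya47 za21) (ka xa17 ya52 za11) (ka xa9 ya31 za55) (ka xa25 ya52 za56) (ka xa27 ya22 za26) (ka xa26 ya6 za3) (ka xa12 ya18 za16) (ka xa9 ya31 za57) (ka xa12 ya4 za11)) (@D3.rec (fun _ => Pt) (ka xa12 ya4 za10) (ka xa24 ya28 za9) (ka xa27 ya12 za46) (ka xa25 ya26 za16) (ka xa12 ya56 za16) (ka xa12 ya56 za17) (ka xa14 ya16 za24) (ka xa14 ya16 za39) (ka xa12 ya57 za0) (ka xa9 ya32 za4) (ka xa12 ya57 za4) (ka xa12 ya57 za3) (ka xa14 ya26 za12) (ka xa12 ya57 za15) (ka xa14 ya16 za43) (ka xa12 ya57 za11) (ka xa12 ya57 za13)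 (ka xa9 ya50 za36) (ka xa9 ya32 za10) (ka xa9 ya32 za11) (ka xa9 ya50 za13) (ka xa10 ya10 za36) (ka xa9 ya50 za39) (ka xa21 ya0 za60) (ka xa24 ya36 za24) (ka xa19 ya24 za53) (ka xa12 ya57 za45) (ka xa11 ya5 za26) (ka xa19 ya24 za19) (ka xa12 ya57 za47) (ka xa12 ya57 za46) (ka xa15 ya27 za52) (ka xa18 ya33 za34) (ka xa18 ya33 za32) (ka xa11 ya10 za38) (ka xa9 ya32 za18) (ka xa25 ya23 za4) (ka xa24 ya53 za36) (ka xa9 ya32 za20) (ka xa19 ya6 za55) (ka xa12 ya57 za60) (ka xa12 ya57 za59) (ka xa19 ya50 za29) (ka xa27 ya22 za61) (ka xa12 ya58 za4) (ka xa16 ya31 za5) (ka xa16 ya31 za3) (ka xa10 ya18 za26) (ka xa18 ya24 za7) (ka xa9 ya32 za55) (ka xa9 ya32 za54) (ka xa9 ya32 za36) (ka xa25 ya31 za32) (ka xa9 ya32 za38) (ka xa12 ya38 za14) (ka xa12 ya46 za20) (ka xa21 ya36 za21) (ka xa21 ya25 za16) (ka xa12 ya58 za27) (ka xa14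 ya12 za8) (ka xa18 ya49 za29) (ka xa12 ya58 za38)) (@D3.rec (fun _ => Pt) (ka xa20 ya28 za31) (ka xa27 ya23 za2) (ka xa20 ya34 za13) (ka xa21 ya9 za24) (ka xa20 ya42 za22) (ka xa27 ya23 za0) (ka xa20 ya27 za35) (ka xa9 ya32 za57) (ka xa18 ya57 za23) (ka xa27 ya23 za15) (ka xa12 ya59 za4) (ka xa21 ya25 za41) (ka xa12 ya59 za1) (ka xa9 ya33 za0) (ka xa21 ya42 za27) (ka xa11 ya59 za53) (ka xa26 ya11 za47) (ka xa13 ya4 za40) (ka xa12 ya0 za1) (ka xa21 ya34 za4) (ka xa11 ya59 za60) (ka xa21 ya59 za51) (ka xa21 ya59 za50) (ka xa21 ya23 za57) (ka xa21 ya17 za57) (ka xa21 ya4 za48) (ka xa27 ya23 za29) (ka xa21 ya18 za2) (ka xa21 ya18 za3) (ka xa21 ya18 za4) (ka xa12 ya20 za14) (ka xa9 ya33 za11) (ka xa21 ya39 za41) (ka xa20 ya13 za7) (ka xa21 ya17 za59) (ka xa12 ya59 za51) (ka xa11 ya37 za54) (ka xa20 ya13 za9) (ka xa22 ya19 za55)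 (ka xa15 ya27 za43) (ka xa14 ya38 za58) (ka xa15 ya27 za44) (ka xa27 ya23 za45) (ka xa10 ya36 za2) (ka xa15 ya28 za25) (ka xa18 ya52 za38) (ka xa18 ya52 za39) (ka xa19 ya7 za46) (ka xa19 ya7 za45) (ka xa9 ya33 za20) (ka xa27 ya23 za53) (ka xa19 ya7 za20) (ka xa10 ya42 za35) (ka xa15 ya52 za33) (ka xa15 ya52 za32) (ka xa9 ya33 za23) (ka xa25 ya14 za51) (ka xa15 ya29 za54) (ka xa11 ya4 za22) (ka xa11 ya4 za23) (ka xa11 ya4 za25) (ka xa15 ya16 za49)) (@D3.rec (fun _ => Pt) (ka xa15 ya16 za48) (ka xa25 ya43 za60) (ka xa15 ya16 za41) (ka xa15 ya41 za6) (ka xa15 ya16 za54) (ka xa15 ya16 za55) (ka xa9 ya33 za38) (ka xa9 ya33 za34) (ka xa22 ya5 za29) (ka xa10 ya34 za34) (ka xa27 ya24 za9) (ka xa27 ya24 za10) (ka xa9 ya33 za35) (ka xa9 ya50 za40) (ka xa27 ya24 za17) (ka xa24 ya43 za52) (ka xa27 ya24 za22) (ka xa9 ya33 za37) (ka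 xa27 ya24 za27) (ka xa27 ya24 za28) (ka xa27 ya24 za29) (ka xa27 ya24 za8) (ka xa15 ya36 za7) (ka xa15 ya16 za30) (ka xa21 ya47 za0) (ka xa9 ya34 za23) (ka xa9 ya34 za56) (ka xa9 ya34 za55) (ka xa9 ya33 za45) (ka xa27 ya24 za38) (ka xa23 ya1 za52) (ka xa9 ya34 za33) (ka xa9 ya34 za34) (ka xa9 ya34 za36) (ka xa9 ya34 za28) (ka xa9 ya34 za27) (ka xa9 ya33 za48) (ka xa27 ya24 za47) (ka xa27 ya24 za48) (ka xa9 ya34 za60) (ka xa9 ya34 za61) (ka xa9 ya35 za1) (ka xa9 ya35 za33) (ka xa9 ya35 za32) (ka xa9 ya33 za52) (ka xa25 ya1 za48) (ka xa27 ya24 za56) (ka xa9 ya35 za15) (ka xa9 ya35 za16) (ka xa9 ya35 za18) (ka xa9 ya35 za37) (ka xa9 ya35 za38) (ka xa9 ya35 za41) (ka xa9 ya34 za2) (ka xa9 ya33 za60) (ka xa26 ya10 za28) (ka xa14 ya57 za50) (ka xa17 ya37 za37) (ka xa16 ya17 za23) (ka xa9 ya33 za61) (ka xa27 ya25 za13) (ka xa27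 ya25 za9)) (@D3.rec (fun _ => Pt) (ka xa27 ya25 za11) (ka xa14 ya4 za35) (ka xa9 ya34 za1) (ka xa17 ya41 za19) (ka xa17 ya41 za18) (ka xa27 ya25 za16) (ka xa26 ya12 za5) (ka xa9 ya36 za21) (ka xa9 ya36 za22) (ka xa9 ya36 za23) (ka xa21 ya58 za14) (ka xa25 ya47 za17) (ka xa9 ya34 za5) (ka xa27 ya25 za26) (ka xa14 ya11 za5) (ka xa14 ya58 za12) (ka xa15 ya48 za49) (ka xa16 ya14 za19) (ka xa16 ya14 za18) (ka xa9 ya34 za11) (ka xa15 ya34 za51) (ka xa25 ya28 za46) (ka xa25 ya28 za45) (ka xa9 ya34 za15) (ka xa27 ya25 za36) (ka xa18 ya5 za31) (ka xa15 ya48 za57) (ka xa15 ya48 za58) (ka xa15 ya48 za59) (ka xa15 ya48 za60) (ka xa15 ya49 za0) (ka xa15 ya49 za3) (ka xa26 ya0 za25) (ka xa26 ya0 za24) (ka xa9 ya34 za21) (ka xa27 ya25 za42) (ka xa27 ya25 za43) (ka xa17 ya36 za57) (ka xa16 ya16 za0) (ka xa26 ya4 za10) (ka xa21 ya53 za41)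 (ka xa9 ya34 za24) (ka xa26 ya11 za41) (ka xa17 ya30 za28) (ka xa17 ya39 za16) (ka xa16 ya16 za3) (ka xa15 ya35 za29) (ka xa15 ya58 za30) (ka xa17 ya39 za9) (ka xa17 ya40 za42) (ka xa26 ya17 za0) (ka xa27 ya24 za44) (ka xa17 ya39 za8) (ka xa27 ya24 za45) (ka xa9 ya34 za30) (ka xa9 ya34 za31) (ka xa25 ya58 za53) (ka xa25 ya28 za54) (ka xa25 ya32 za59) (ka xa27 ya25 za61) (ka xa27 ya26 za0) (ka xa27 ya26 za1)) (@D3.rec (fun _ => Pt) (ka xa27 ya26 za2) (ka xa27 ya26 za3) (ka xa27 ya24 za50) (ka xa16 ya14 za47) (ka xa27 ya24 za41) (ka xa27 ya24 za42) (ka xa18 ya27 za30) (ka xa27 ya24 za43) (ka xa22 ya31 za17) (ka xa22 ya27 za52) (ka xa26 ya0 za59) (ka xa16 ya17 za1) (ka xa16 ya17 za4) (ka xa16 ya22 za50) (ka xa26 ya4 za39) (ka xa19 ya0 za47) (ka xa9 ya53 za55) (ka xa9 ya53 za52) (ka xa9 ya53 za26) (ka xa9 ya53 za25) (ka xa21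 ya42 za1) (ka xa9 ya53 za50) (ka xa26 ya1 za19) (ka xa26 ya1 za18) (ka xa9 ya34 za46) (ka xa14 ya47 za4) (ka xa23 ya43 za50) (ka xa15 ya47 za55) (ka xa15 ya34 za45) (ka xa15 ya34 za44) (ka xa9 ya34 za51) (ka xa22 ya11 za32) (ka xa16 ya14 za24) (ka xa22 ya9 za37) (ka xa16 ya4 za41) (ka xa17 ya39 za49) (ka xa16 ya20 za6) (ka xa12 ya17 za39) (ka xa9 ya34 za58) (ka xa9 ya34 za59) (ka xa27 ya24 za39) (ka xa17 ya41 za31) (ka xa27 ya26 za42) (ka xa27 ya26 za43) (ka xa22 ya8 za8) (ka xa13 ya52 za59) (ka xa27 ya26 za44) (ka xa24 ya43 za7) (ka xa14 ya57 za1) (ka xa27 ya24 za51) (ka xa27 ya24 za53) (ka xa21 ya42 za3) (ka xa16 ya14 za54) (ka xa27 ya24 za52) (ka xa24 ya43 za16) (ka xa26 ya6 za24) (ka xa15 ya6 za41) (ka xa17 ya45 za6) (ka xa14 ya56 za61) (ka xa14 ya56 za60) (ka xa9 ya35 za6) (ka xa18 ya6 za55)) (@D3.rec (fun _ => Pt)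 (ka xa16 ya14 za51) (ka xa15 ya37 za55) (ka xa15 ya59 za40) (ka xa18 ya6 za60) (ka xa26 ya15 za1) (ka xa16 ya6 za60) (ka xa9 ya35 za11) (ka xa9 ya35 za12) (ka xa17 ya37 za52) (ka xa17 ya37 za48) (ka xa25 ya29 za42) (ka xa25 ya32 za44) (ka xa26 ya14 za10) (ka xa27 ya26 za37) (ka xa26 ya14 za8) (ka xa27 ya27 za7) (ka xa17 ya37 za44) (ka xa27 ya27 za12) (ka xa25 ya0 za28) (ka xa27 ya24 za59) (ka xa27 ya24 za60) (ka xa27 ya24 za61) (ka xa27 ya25 za0) (ka xa12 ya50 za21) (ka xa26 ya2 za50) (ka xa26 ya2 za51) (ka xa26 ya5 za15) (ka xa27 ya25 za1) (ka xa25 ya15 za27) (ka xa12 ya50 za16) (ka xa17 ya45 za9) (ka xa17 ya45 za10) (ka xa14 ya57 za37) (ka xa25 ya14 za0) (ka xa9 ya35 za29) (ka xa9 ya35 za31) (ka xa19 ya5 za38) (ka xa9 ya35 za25) (ka xa23 ya22 za37) (ka xa19 ya5 za45) (ka xa17 ya45 za14) (ka xa9 ya55 za17) (ka xa15 ya24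 za36) (ka xa15 ya24 za38) (ka xa25 ya43 za2) (ka xa16 ya6 za16) (ka xa9 ya37 za12) (ka xa27 ya24 za55) (ka xa9 ya35 za35) (ka xa17 ya38 za35) (ka xa17 ya40 za29) (ka xa27 ya27 za29) (ka xa22 ya18 za55) (ka xa25 ya0 za29) (ka xa24 ya56 za0) (ka xa25 ya0 za27) (ka xa27 ya25 za2) (ka xa21 ya4 za32) (ka xa13 ya0 za45) (ka xa26 ya5 za23) (ka xa26 ya10 za39) (ka xa26 ya11 za24)) (@D3.rec (fun _ => Pt) (ka xa26 ya11 za33) (ka xa25 ya58 za39) (ka xa26 ya10 za55) (ka xa26 ya11 za23) (ka xa9 ya35 za49) (ka xa26 ya11 za36) (ka xa26 ya11 za35) (ka xa27 ya27 za41) (ka xa21 ya23 za1) (ka xa17 ya45 za27) (ka xa17 ya13 za42) (ka xa27 ya25 za10) (ka xa16 ya8 za3) (ka xa25 ya15 za41) (ka xa25 ya32 za48) (ka xa25 ya9 za56) (ka xa27 ya25 za12) (ka xa25 ya28 za53) (ka xa27 ya27 za53) (ka xa25 ya28 za52) (ka xa25 ya32 za40) (ka xa9 ya35 za58)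 (ka xa9 ya35 za59) (ka xa25 ya32 za43) (ka xa17 ya40 za40) (ka xa27 ya27 za57) (ka xa26 ya14 za6) (ka xa27 ya27 za58) (ka xa27 ya27 za59) (ka xa17 ya39 za50) (ka xa18 ya28 za50) (ka xa24 ya59 za7) (ka xa9 ya36 za13) (ka xa9 ya36 za14) (ka xa25 ya32 za41) (ka xa9 ya36 za2) (ka xa27 ya28 za5) (ka xa27 ya28 za6) (ka xa25 ya39 za33) (ka xa15 ya43 za10) (ka xa17 ya40 za24) (ka xa9 ya36 za7) (ka xa17 ya37 za49) (ka xa9 ya36 za6) (ka xa27 ya27 za61) (ka xa27 ya28 za15) (ka xa27 ya27 za46) (ka xa9 ya36 za9) (ka xa9 ya36 za10) (ka xa9 ya36 za11) (ka xa9 ya36 za12) (ka xa26 ya11 za31) (ka xa17 ya41 za1) (ka xa23 ya43 za59) (ka xa26 ya11 za26) (ka xa17 ya41 za2) (ka xa9 ya36 za17) (ka xa27 ya28 za19) (ka xa27 ya28 za20) (ka xa27 ya26 za46) (ka xa9 ya38 za24) (ka xa25 ya43 za3)) (@D3.rec (fun _ => Pt) (ka xa24 ya56 za5) (ka xa17 ya40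 za52) (ka xa17 ya40 za55) (ka xa27 ya28 za21) (ka xa26 ya19 za42) (ka xa17 ya43 za1) (ka xa17 ya43 za0) (ka xa18 ya3 za19) (ka xa9 ya36 za15) (ka xa27 ya28 za37) (ka xa27 ya28 za38) (ka xa25 ya28 za58) (ka xa25 ya28 za59) (ka xa25 ya1 za22) (ka xa25 ya28 za60) (ka xa26 ya11 za29) (ka xa26 ya11 za30) (ka xa19 ya16 za59) (ka xa17 ya37 za4) (ka xa17 ya37 za3) (ka xa9 ya36 za19) (ka xa18 ya27 za36) (ka xa17 ya41 za33) (ka xa17 ya41 za34) (ka xa17 ya41 za35) (ka xa17 ya41 za32) (ka xa27 ya28 za58) (ka xa27 ya25 za23) (ka xa27 ya28 za61) (ka xa26 ya12 za6) (ka xa27 ya25 za25) (ka xa17 ya38 za41) (ka xa17 ya41 za25) (ka xa17 ya41 za22) (ka xa17 ya41 za23) (ka xa17 ya41 za24) (ka xa17 ya44 za52) (ka xa17 ya44 za51) (ka xa10 ya10 za59) (ka xa19 ya27 za59) (ka xa19 ya27 za60) (ka xa18 ya4 za1) (ka xa16 ya18 za47) (ka xa16 ya18 za48)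 (ka xa17 ya44 za59) (ka xa26 ya3 za54) (ka xa24 ya32 za28) (ka xa27 ya27 za28) (ka xa16 ya18 za44) (ka xa16 ya18 za45) (ka xa17 ya44 za56) (ka xa9 ya36 za45) (ka xa9 ya36 za47) (ka xa9 ya36 za48) (ka xa9 ya36 za51) (ka xa16 ya13 za34) (ka xa9 ya36 za39) (ka xa12 ya35 za33) (ka xa11 ya17 za7) (ka xa11 ya17 za6) (ka xa11 ya19 za61) (ka xa25 ya42 za33)) (@D3.rec (fun _ => Pt) (ka xa25 ya42 za34) (ka xa25 ya42 za35) (ka xa27 ya29 za24) (ka xa12 ya18 za19) (ka xa24 ya41 za36) (ka xa12 ya18 za17) (ka xa12 ya18 za21) (ka xa27 ya29 za14) (ka xa25 ya41 za45) (ka xa21 ya34 za7) (ka xa17 ya29 za38) (ka xa27 ya29 za15) (ka xa27 ya29 za16) (ka xa17 ya43 za21) (ka xa17 ya43 za22) (ka xa25 ya17 za25) (ka xa26 ya6 za12) (ka xa25 ya22 za44) (ka xa17 ya43 za24) (ka xa19 ya40 za47) (ka xa16 ya13 za52) (ka xa16 ya13 za51) (ka xa17 ya52 za13)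 (ka xa9 ya37 za1) (ka xa9 ya37 za4) (ka xa16 ya13 za33) (ka xa16 ya13 za32) (ka xa9 ya36 za61) (ka xa18 ya37 za46) (ka xa16 ya40 za50) (ka xa12 ya56 za5) (ka xa27 ya29 za40) (ka xa21 ya32 za0) (ka xa27 ya29 za42) (ka xa9 ya56 za12) (ka xa27 ya29 za35) (ka xa17 ya43 za34) (ka xa27 ya29 za48) (ka xa18 ya37 za25) (ka xa25 ya33 za57) (ka xa17 ya29 za40) (ka xa18 ya37 za24) (ka xa9 ya37 za15) (ka xa27 ya24 za54) (ka xa27 ya26 za47) (ka xa22 ya8 za19) (ka xa15 ya37 za58) (ka xa9 ya37 za14) (ka xa27 ya27 za3) (ka xa27 ya29 za54) (ka xa27 ya20 za31) (ka xa27 ya29 za52) (ka xa27 ya28 za16) (ka xa9 ya37 za20) (ka xa12 ya50 za30) (ka xa26 ya12 za15) (ka xa24 ya44 za8) (ka xa16 ya14 za38) (ka xa27 ya27 za43) (ka xa22 ya15 za14) (ka xa9 ya37 za25) (ka xa9 ya39 za13)) (@D3.rec (fun _ => Pt) (ka xa17 ya41 za6) (ka xa17 ya41 za5) (ka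 xa9 ya52 za39) (ka xa12 ya58 za24) (ka xa17 ya43 za5) (ka xa17 ya43 za4) (ka xa15 ya18 za46) (ka xa15 ya18 za47) (ka xa11 ya9 za52) (ka xa15 ya18 za43) (ka xa15 ya18 za44) (ka xa9 ya37 za35) (ka xa11 ya43 za7) (ka xa26 ya44 za26) (ka xa11 ya43 za4) (ka xa15 ya18 za11) (ka xa15 ya18 za12) (ka xa15 ya18 za13) (ka xa15 ya18 za16) (ka xa25 ya34 za60) (ka xa15 ya45 za5) (ka xa17 ya42 za13) (ka xa17 ya42 za14) (ka xa12 ya31 za22) (ka xa17 ya42 za18) (ka xa16 ya16 za23) (ka xa16 ya16 za24) (ka xa24 ya54 za47) (ka xa26 ya5 za10) (ka xa16 ya50 za51) (ka xa9 ya37 za56) (ka xa9 ya37 za57) (ka xa20 ya54 za47) (ka xa20 ya54 za48) (ka xa17 ya42 za36) (ka xa16 ya16 za58) (ka xa21 ya19 za53) (ka xa16 ya16 za60) (ka xa16 ya16 za44) (ka xa16 ya15 za42) (ka xa16 ya16 za45) (ka xa24 ya54 za51) (ka xa16 ya16 za42) (ka xa16 ya15 za41) (ka xa9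 ya38 za2) (ka xa9 ya38 za3) (ka xa9 ya38 za4) (ka xa16 ya6 za47) (ka xa11 ya19 za0) (ka xa27 ya30 za31) (ka xa27 ya4 za22) (ka xa27 ya30 za32) (ka xa21 ya57 za15) (ka xa21 ya23 za30) (ka xa16 ya16 za19) (ka xa16 ya16 za20) (ka xa16 ya16 za25) (ka xa16 ya16 za26) (ka xa16 ya16 za27) (ka xa24 ya54 za58) (ka xa16 ya15 za9) (ka xa25 ya49 za60)) (@D3.rec (fun _ => Pt) (ka xa16 ya15 za8) (ka xa16 ya16 za6) (ka xa9 ya38 za11) (ka xa9 ya38 za12) (ka xa10 ya40 za34) (ka xa27 ya1 za42) (ka xa27 ya1 za39) (ka xa27 ya30 za50) (ka xa21 ya26 za16) (ka xa16 ya16 za55) (ka xa16 ya16 za56) (ka xa16 ya16 za61) (ka xa16 ya16 za7) (ka xa9 ya38 za16) (ka xa21 ya58 za32) (ka xa15 ya23 za34) (ka xa25 ya43 za10) (ka xa25 ya43 za11) (ka xa21 ya22 za49) (ka xa9 ya38 za19) (ka xa17 ya52 za50) (ka xa18 ya27 za40) (ka xa15 ya11 za5) (ka xa9 ya38 za25)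 (ka xa18 ya6 za39) (ka xa24 ya56 za24) (ka xa24 ya56 za25) (ka xa27 ya31 za8) (ka xa24 ya56 za21) (ka xa24 ya56 za22) (ka xa22 ya15 za11) (ka xa24 ya56 za3) (ka xa17 ya45 za20) (ka xa27 ya31 za6) (ka xa9 ya38 za26) (ka xa24 ya56 za17) (ka xa27 ya31 za14) (ka xa16 ya15 za17) (ka xa9 ya38 za28) (ka xa22 ya18 za19) (ka xa16 ya15 za51) (ka xa16 ya15 za52) (ka xa24 ya55 za17) (ka xa22 ya18 za50) (ka xa24 ya55 za48) (ka xa24 ya55 za19) (ka xa24 ya55 za20) (ka xa18 ya16 za31) (ka xa15 ya14 za33) (ka xa16 ya18 za53) (ka xa16 ya18 za56) (ka xa17 ya41 za37) (ka xa17 ya41 za36) (ka xa9 ya55 za1) (ka xa25 ya36 za40) (ka xa25 ya36 za41) (ka xa17 ya41 za50) (ka xa25 ya44 za17) (ka xa25 ya20 za36) (ka xa17 ya41 za44) (ka xa9 ya38 za51) (ka xa26 ya10 za44)) (@D3.rec (fun _ => Pt) (ka xa21 ya42 za9) (ka xa18 ya10 za57) (ka xa24 ya54 za45)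 (ka xa16 ya13 za48) (ka xa12 ya40 za7) (ka xa21 ya44 za4) (ka xa17 ya38 za57) (ka xa19 ya57 za37) (ka xa25 ya17 za58) (ka xa17 ya39 za30) (ka xa17 ya39 za31) (ka xa27 ya21 za47) (ka xa12 ya59 za57) (ka xa12 ya59 za58) (ka xa17 ya39 za40) (ka xa13 ya0 za42) (ka xa19 ya57 za39) (ka xa20 ya16 za17) (ka xa24 ya44 za7) (ka xa26 ya15 za21) (ka xa17 ya44 za32) (ka xa19 ya19 za56) (ka xa26 ya15 za44) (ka xa26 ya15 za33) (ka xa25 ya45 za59) (ka xa26 ya15 za46) (ka xa26 ya15 za47) (ka xa17 ya40 za9) (ka xa22 ya8 za12) (ka xa22 ya8 za13) (ka xa27 ya28 za28) (ka xa27 ya30 za1) (ka xa22 ya27 za57) (ka xa11 ya8 za5) (ka xa9 ya53 za0) (ka xa9 ya57 za35) (ka xa18 ya27 za59) (ka xa25 ya23 za55) (ka xa9 ya53 za43) (ka xa9 ya53 za44) (ka xa16 ya24 za11) (ka xa18 ya56 za30) (ka xa18 ya41 za32) (ka xa16 ya21 za15) (ka xa15 ya11 za1) (ka xa15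 ya11 za3) (ka xa15 ya11 za4) (ka xa15 ya11 za25) (ka xa10 ya14 za56) (ka xa9 ya39 za32) (ka xa15 ya7 za43) (ka xa17 ya47 za0) (ka xa17 ya46 za61) (ka xa9 ya39 za35) (ka xa27 ya32 za8) (ka xa27 ya32 za9) (ka xa9 ya55 za12) (ka xa9 ya55 za13) (ka xa9 ya55 za14) (ka xa9 ya55 za15) (ka xa9 ya55 za16) (ka xa17 ya47 za10)) (@D3.rec (fun _ => Pt) (ka xa17 ya47 za9) (ka xa9 ya39 za39) (ka xa27 ya32 za22) (ka xa27 ya32 za23) (ka xa9 ya57 za30) (ka xa9 ya57 za31) (ka xa9 ya57 za32) (ka xa9 ya57 za33) (ka xa9 ya57 za34) (ka xa9 ya57 za36) (ka xa9 ya57 za37) (ka xa9 ya57 za40) (ka xa9 ya57 za42) (ka xa17 ya47 za30) (ka xa17 ya47 za29) (ka xa9 ya39 za45) (ka xa27 ya32 za51) (ka xa27 ya32 za52) (ka xa17 ya47 za26) (ka xa17 ya47 za27) (ka xa17 ya47 za28) (ka xa9 ya39 za54) (ka xa17 ya47 za22) (ka xa9 ya39 za48) (ka xa27 ya33 za2) (ka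 xa17 ya47 za35) (ka xa17 ya47 za36) (ka xa9 ya39 za55) (ka xa9 ya39 za51) (ka xa12 ya8 za6) (ka xa22 ya51 za48) (ka xa9 ya39 za52) (ka xa17 ya47 za51) (ka xa21 ya13 za16) (ka xa10 ya27 za56) (ka xa27 ya33 za12) (ka xa25 ya2 za59) (ka xa18 ya34 za51) (ka xa27 ya33 za8) (ka xa27 ya33 za9) (ka xa17 ya47 za50) (ka xa17 ya47 za52) (ka xa18 ya15 za52) (ka xa17 ya47 za53) (ka xa17 ya47 za56) (ka xa17 ya47 za57) (ka xa17 ya47 za58) (ka xa17 ya47 za59) (ka xa17 ya47 za60) (ka xa10 ya0 za37) (ka xa10 ya0 za38) (ka xa9 ya42 za21) (ka xa20 ya8 za22) (ka xa10 ya7 za55) (ka xa10 ya7 za58) (ka xa10 ya8 za37) (ka xa10 ya8 za38) (ka xa16 ya20 za55) (ka xa16 ya20 za51) (ka xa9 ya40 za4) (ka xa10 ya9 za32) (ka xa17 ya45 za52)) (@D3.rec (fun _ => Pt) (ka xa17 ya45 za51) (ka xa9 ya40 za7) (ka xa27 ya33 za50) (ka xa27 ya33 za51) (ka xa10 ya11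 za5) (ka xa10 ya11 za6) (ka xa10 ya11 za7) (ka xa10 ya11 za8) (ka xa10 ya11 za9) (ka xa17 ya46 za0) (ka xa17 ya45 za61) (ka xa9 ya40 za12) (ka xa27 ya34 za6) (ka xa27 ya29 za47) (ka xa10 ya12 za26) (ka xa10 ya12 za27) (ka xa10 ya12 za28) (ka xa10 ya12 za29) (ka xa10 ya12 za30) (ka xa10 ya12 za32) (ka xa10 ya12 za33) (ka xa10 ya12 za35) (ka xa17 ya46 za22) (ka xa9 ya40 za18) (ka xa18 ya8 za53) (ka xa25 ya3 za34) (ka xa17 ya46 za18) (ka xa17 ya46 za19) (ka xa17 ya46 za20) (ka xa17 ya46 za14) (ka xa17 ya46 za13) (ka xa9 ya40 za21) (ka xa20 ya21 za3) (ka xa22 ya15 za31) (ka xa12 ya7 za14) (ka xa17 ya46 za25) (ka xa17 ya46 za26) (ka xa9 ya40 za28) (ka xa9 ya40 za24) (ka xa25 ya3 za41) (ka xa10 ya21 za40) (ka xa18 ya10 za43) (ka xa27 ya34 za46) (ka xa9 ya40 za25) (ka xa9 ya59 za60) (ka xa21 ya9 za21) (ka xa18 ya10 za42) (ka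 xa27 ya34 za54) (ka xa18 ya13 za47) (ka xa27 ya34 za45) (ka xa17 ya46 za40) (ka xa17 ya46 za32) (ka xa17 ya46 za41) (ka xa17 ya46 za43) (ka xa16 ya35 za20) (ka xa16 ya35 za24) (ka xa17 ya46 za44) (ka xa17 ya46 za45) (ka xa17 ya46 za46) (ka xa17 ya46 za47) (ka xa17 ya46 za48) (ka xa10 ya14 za37)) (@D3.rec (fun _ => Pt) (ka xa10 ya14 za38) (ka xa10 ya14 za39) (ka xa9 ya41 za54) (ka xa9 ya41 za53) (ka xa9 ya40 za36) (ka xa26 ya15 za4) (ka xa9 ya41 za31) (ka xa9 ya41 za34) (ka xa9 ya41 za26) (ka xa9 ya41 za25) (ka xa9 ya40 za39) (ka xa27 ya35 za31) (ka xa16 ya42 za22) (ka xa9 ya41 za58) (ka xa9 ya42 za31) (ka xa9 ya40 za42) (ka xa17 ya52 za56) (ka xa25 ya16 za37) (ka xa9 ya42 za14) (ka xa9 ya42 za17) (ka xa9 ya42 za22) (ka xa9 ya42 za35) (ka xa9 ya42 za36) (ka xa9 ya42 za38) (ka xa9 ya42 za39) (ka xa9 ya42 za40) (ka xa9 ya42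 za47) (ka xa9 ya42 za46) (ka xa9 ya40 za51) (ka xa27 ya35 za40) (ka xa21 ya32 za30) (ka xa9 ya43 za1) (ka xa9 ya40 za58) (ka xa9 ya40 za54) (ka xa27 ya35 za43) (ka xa27 ya35 za44) (ka xa9 ya40 za55) (ka xa25 ya12 za54) (ka xa27 ya35 za46) (ka xa18 ya57 za40) (ka xa9 ya40 za57) (ka xa10 ya42 za15) (ka xa10 ya42 za12) (ka xa10 ya12 za8) (ka xa17 ya13 za60) (ka xa26 ya18 za24) (ka xa11 ya3 za13) (ka xa11 ya3 za14) (ka xa25 ya31 za1) (ka xa25 ya8 za53) (ka xa9 ya41 za1) (ka xa27 ya35 za56) (ka xa26 ya10 za31) (ka xa11 ya4 za15) (ka xa11 ya8 za48) (ka xa11 ya8 za49) (ka xa19 ya19 za54) (ka xa19 ya19 za52) (ka xa9 ya41 za8) (ka xa27 ya36 za1) (ka xa24 ya49 za9) (ka xa15 ya53 za25)) (@D3.rec (fun _ => Pt) (ka xa16 ya11 za8) (ka xa19 ya10 za32) (ka xa19 ya10 za31) (ka xa9 ya41 za13) (ka xa9 ya57 za17) (ka xa27 ya36 za7) (ka xa11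 ya4 za41) (ka xa11 ya4 za42) (ka xa11 ya4 za43) (ka xa11 ya4 za44) (ka xa11 ya4 za45) (ka xa11 ya4 za51) (ka xa19 ya10 za56) (ka xa19 ya10 za55) (ka xa9 ya41 za19) (ka xa18 ya22 za20) (ka xa27 ya36 za17) (ka xa17 ya50 za53) (ka xa19 ya10 za52) (ka xa19 ya10 za53) (ka xa19 ya10 za50) (ka xa19 ya10 za49) (ka xa10 ya36 za22) (ka xa16 ya37 za49) (ka xa17 ya50 za48) (ka xa26 ya35 za56) (ka xa27 ya36 za32) (ka xa27 ya35 za28) (ka xa17 ya50 za47) (ka xa27 ya35 za29) (ka xa9 ya41 za28) (ka xa9 ya41 za29) (ka xa26 ya39 za41) (ka xa26 ya39 za39) (ka xa27 ya36 za39) (ka xa27 ya36 za16) (ka xa27 ya36 za40) (ka xa27 ya36 za41) (ka xa14 ya47 za45) (ka xa14 ya32 za33) (ka xa27 ya29 za51) (ka xa19 ya10 za46) (ka xa19 ya15 za45) (ka xa19 ya15 za49) (ka xa27 ya35 za26) (ka xa27 ya35 za27) (ka xa27 ya36 za48) (ka xa19 ya11 za6) (ka xa20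 ya52 za59) (ka xa19 ya11 za8) (ka xa19 ya11 za9) (ka xa25 ya17 za42) (ka xa25 ya17 za43) (ka xa26 ya53 za40) (ka xa14 ya47 za37) (ka xa11 ya6 za6) (ka xa11 ya6 za7) (ka xa15 ya28 za54) (ka xa15 ya28 za55) (ka xa27 ya37 za3) (ka xa15 ya28 za56) (ka xa15 ya28 za57)) (@D3.rec (fun _ => Pt) (ka xa15 ya28 za31) (ka xa15 ya28 za30) (ka xa9 ya41 za40) (ka xa15 ya28 za53) (ka xa15 ya51 za24) (ka xa15 ya51 za23) (ka xa9 ya41 za44) (ka xa22 ya22 za59) (ka xa11 ya9 za27) (ka xa19 ya20 za30) (ka xa19 ya20 za27) (ka xa9 ya41 za49) (ka xa27 ya37 za19) (ka xa25 ya31 za17) (ka xa18 ya10 za22) (ka xa16 ya44 za26) (ka xa9 ya43 za39) (ka xa25 ya17 za16) (ka xa9 ya41 za56) (ka xa9 ya41 za57) (ka xa18 ya35 za14) (ka xa27 ya35 za24) (ka xa19 ya40 za31) (ka xa17 ya5 za52) (ka xa19 ya13 za14) (ka xa18 ya36 za23) (ka xa24 ya19 za11) (ka xa12 ya43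 za5) (ka xa19 ya15 za3) (ka xa19 ya15 za4) (ka xa26 ya59 za6) (ka xa12 ya43 za6) (ka xa11 ya49 za14) (ka xa11 ya59 za8) (ka xa11 ya10 za42) (ka xa15 ya53 za41) (ka xa18 ya30 za25) (ka xa24 ya52 za30) (ka xa18 ya50 za58) (ka xa18 ya50 za57) (ka xa9 ya42 za6) (ka xa10 ya39 za5) (ka xa16 ya39 za28) (ka xa26 ya39 za42) (ka xa27 ya36 za52) (ka xa16 ya39 za43) (ka xa9 ya42 za11) (ka xa17 ya49 za28) (ka xa17 ya49 za24) (ka xa27 ya37 za43) (ka xa18 ya41 za40) (ka xa10 ya2 za27) (ka xa10 ya3 za44) (ka xa17 ya49 za17) (ka xa18 ya39 za26) (ka xa19 ya18 za56) (ka xa13 ya53 za45) (ka xa27 ya37 za52) (ka xa15 ya36 za31) (ka xa15 ya36 za30) (ka xa17 ya8 za59) (ka xa15 ya36 za60)) (@D3.rec (fun _ => Pt) (ka xa9 ya58 za34) (ka xa24 ya52 za34) (ka xa19 ya17 za14) (ka xa27 ya33 za38) (ka xa18 ya9 za8) (ka xa27 ya37 za60) (ka xa18 ya9 za9)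 (ka xa15 ya51 za35) (ka xa15 ya51 za34) (ka xa9 ya42 za24) (ka xa27 ya38 za2) (ka xa23 ya12 za11) (ka xa15 ya51 za49) (ka xa15 ya51 za50) (ka xa15 ya51 za53) (ka xa12 ya55 za46) (ka xa16 ya46 za29) (ka xa9 ya42 za33) (ka xa9 ya42 za34) (ka xa9 ya57 za19) (ka xa21 ya50 za14) (ka xa20 ya16 za42) (ka xa17 ya6 za10) (ka xa10 ya3 za39) (ka xa18 ya39 za15) (ka xa24 ya53 za35) (ka xa27 ya38 za4) (ka xa17 ya6 za7) (ka xa21 ya41 za36) (ka xa27 ya35 za35) (ka xa26 ya55 za16) (ka xa27 ya35 za36) (ka xa27 ya35 za50) (ka xa11 ya49 za5) (ka xa15 ya28 za12) (ka xa11 ya6 za5) (ka xa15 ya28 za7) (ka xa15 ya28 za8) (ka xa27 ya38 za16) (ka xa15 ya28 za9) (ka xa15 ya28 za10) (ka xa24 ya32 za59) (ka xa26 ya16 za27) (ka xa27 ya35 za39) (ka xa22 ya5 za53) (ka xa24 ya32 za58) (ka xa27 ya35 za38) (ka xa9 ya42 za49) (ka xa9 ya42 za50) (ka xa9 ya42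 za51) (ka xa10 ya57 za44) (ka xa27 ya38 za24) (ka xa24 ya22 za37) (ka xa19 ya11 za3) (ka xa19 ya11 za0) (ka xa27 ya38 za25) (ka xa27 ya38 za26) (ka xa15 ya48 za25) (ka xa24 ya21 za58) (ka xa10 ya2 za39) (ka xa17 ya13 za31) (ka xa18 ya10 za24)) (@D3.rec (fun _ => Pt) (ka xa15 ya34 za28) (ka xa19 ya17 za16) (ka xa27 ya35 za47) (ka xa18 ya12 za60) (ka xa19 ya17 za6) (ka xa9 ya42 za59) (ka xa14 ya58 za29) (ka xa12 ya35 za18) (ka xa18 ya13 za0) (ka xa26 ya55 za24) (ka xa26 ya55 za25) (ka xa17 ya33 za54) (ka xa9 ya43 za3) (ka xa17 ya42 za22) (ka xa9 ya43 za5) (ka xa12 ya15 za26) (ka xa27 ya38 za42) (ka xa27 ya38 za44) (ka xa9 ya43 za11) (ka xa27 ya38 za46) (ka xa26 ya16 za12) (ka xa14 ya36 za41) (ka xa10 ya32 za15) (ka xa10 ya32 za14) (ka xa9 ya43 za15) (ka xa10 ya42 za29) (ka xa10 ya42 za26) (ka xa22 ya10 za41) (ka xa10 ya23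 za1) (ka xa20 ya48 za40) (ka xa19 ya23 za26) (ka xa23 ya58 za47) (ka xa11 ya49 za11) (ka xa19 ya56 za49) (ka xa26 ya5 za26) (ka xa27 ya37 za40) (ka xa21 ya22 za38) (ka xa18 ya13 za44) (ka xa11 ya57 za12) (ka xa25 ya17 za59) (ka xa15 ya52 za30) (ka xa21 ya22 za43) (ka xa25 ya17 za57) (ka xa19 ya57 za36) (ka xa15 ya51 za40) (ka xa15 ya54 za27) (ka xa15 ya19 za31) (ka xa25 ya50 za60) (ka xa15 ya19 za33) (ka xa15 ya19 za34) (ka xa17 ya44 za20) (ka xa15 ya54 za3) (ka xa19 ya32 za60) (ka xa24 ya50 za47) (ka xa27 ya39 za1) (ka xa27 ya39 za2) (ka xa17 ya48 za16) (ka xa12 ya43 za2) (ka xa14 ya43 za37) (ka xa16 ya12 za26) (ka xa9 ya43 za46) (ka xa24 ya20 za3)) (@D3.rec (fun _ => Pt) (ka xa19 ya53 za54) (ka xa21 ya30 za48) (ka xa23 ya31 za5) (ka xa23 ya31 za22) (ka xa23 ya25 za17) (ka xa19 ya5 za58) (ka xa25 ya11 za42) (ka xa25 ya11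 za43) (ka xa14 ya43 za35) (ka xa25 ya11 za47) (ka xa19 ya45 za56) (ka xa27 ya39 za13) (ka xa19 ya18 za33) (ka xa19 ya18 za34) (ka xa27 ya39 za16) (ka xa19 ya18 za36) (ka xa24 ya51 za13) (ka xa19 ya20 za58) (ka xa18 ya1 za57) (ka xa10 ya52 za22) (ka xa19 ya20 za60) (ka xa19 ya20 za61) (ka xa12 ya5 za41) (ka xa16 ya46 za15) (ka xa19 ya21 za1) (ka xa19 ya21 za2) (ka xa27 ya35 za33) (ka xa10 ya39 za8) (ka xa9 ya44 za6) (ka xa21 ya54 za25) (ka xa9 ya44 za16) (ka xa9 ya44 za17) (ka xa15 ya54 za44) (ka xa14 ya51 za17) (ka xa19 ya49 za11) (ka xa10 ya49 za14) (ka xa15 ya8 za17) (ka xa16 ya47 za4) (ka xa20 ya28 za7) (ka xa21 ya8 za1) (ka xa18 ya38 za22) (ka xa19 ya22 za16) (ka xa19 ya34 za23) (ka xa26 ya55 za28) (ka xa17 ya18 za9) (ka xa19 ya39 za58) (ka xa9 ya44 za25) (ka xa24 ya56 za15) (ka xa19 ya46 za45) (ka xa15 ya55 za0) (ka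 xa14 ya37 za40) (ka xa19 ya54 za49) (ka xa21 ya10 za22) (ka xa25 ya35 za29) (ka xa24 ya52 za55) (ka xa21 ya11 za26) (ka xa16 ya8 za31) (ka xa16 ya8 za30) (ka xa9 ya44 za48) (ka xa16 ya19 za8) (ka xa16 ya19 za10) (ka xa25 ya55 za39)) (@D3.rec (fun _ => Pt) (ka xa16 ya19 za6) (ka xa9 ya44 za52) (ka xa9 ya44 za53) (ka xa16 ya17 za11) (ka xa16 ya17 za7) (ka xa27 ya39 za29) (ka xa27 ya39 za30) (ka xa27 ya25 za60) (ka xa26 ya14 za3) (ka xa27 ya25 za58) (ka xa16 ya18 za34) (ka xa16 ya18 za35) (ka xa16 ya18 za36) (ka xa24 ya36 za10) (ka xa16 ya15 za61) (ka xa16 ya20 za9) (ka xa16 ya20 za10) (ka xa16 ya20 za11) (ka xa16 ya20 za12) (ka xa9 ya44 za59) (ka xa9 ya44 za60) (ka xa27 ya39 za58) (ka xa16 ya56 za9) (ka xa27 ya39 za53) (ka xa27 ya39 za54) (ka xa27 ya39 za55) (ka xa24 ya28 za28) (ka xa16 ya17 za30) (ka xa16 ya17 za28) (ka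 xa9 ya44 za61) (ka xa27 ya40 za8) (ka xa16 ya18 za29) (ka xa27 ya40 za13) (ka xa16 ya20 za28) (ka xa20 ya21 za36) (ka xa16 ya20 za32) (ka xa16 ya20 za33) (ka xa20 ya20 za56) (ka xa9 ya45 za5) (ka xa16 ya17 za19) (ka xa16 ya17 za20) (ka xa16 ya17 za21) (ka xa16 ya17 za22) (ka xa27 ya40 za20) (ka xa16 ya21 za7) (ka xa16 ya21 za8) (ka xa13 ya29 za19) (ka xa9 ya46 za18) (ka xa9 ya46 za20) (ka xa9 ya46 za17) (ka xa9 ya46 za25) (ka xa24 ya22 za43) (ka xa9 ya45 za27) (ka xa11 ya7 za40) (ka xa11 ya11 za34) (ka xa17 ya19 za8) (ka xa11 ya11 za51) (ka xa20 ya0 za13) (ka xa11 ya10 za60) (ka xa21 ya27 za0) (ka xa19 ya59 za56) (ka xa11 ya12 za12)) (@D3.rec (fun _ => Pt) (ka xa11 ya11 za58) (ka xa11 ya11 za59) (ka xa27 ya40 za31) (ka xa25 ya39 za43) (ka xa9 ya45 za42) (ka xa9 ya45 za37) (ka xa20 ya8 za5) (ka xa14 ya25 za31) (ka xa11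 ya12 za21) (ka xa26 ya28 za23) (ka xa26 ya49 za37) (ka xa26 ya49 za54) (ka xa11 ya12 za40) (ka xa26 ya32 za25) (ka xa27 ya40 za32) (ka xa20 ya13 za49) (ka xa11 ya12 za41) (ka xa20 ya22 za17) (ka xa21 ya29 za34) (ka xa27 ya40 za26) (ka xa9 ya45 za40) (ka xa16 ya5 za20) (ka xa27 ya40 za39) (ka xa23 ya23 za34) (ka xa20 ya13 za39) (ka xa22 ya17 za55) (ka xa23 ya26 za20) (ka xa11 ya12 za47) (ka xa20 ya27 za51) (ka xa9 ya46 za11) (ka xa9 ya46 za12) (ka xa9 ya46 za14) (ka xa9 ya46 za16) (ka xa21 ya37 za47) (ka xa11 ya7 za58) (ka xa23 ya23 za18) (ka xa11 ya8 za16) (ka xa11 ya8 za17) (ka xa14 ya7 za56) (ka xa14 ya7 za55) (ka xa16 ya2 za49) (ka xa24 ya9 za45) (ka xa16 ya3 za51) (ka xa9 ya46 za0) (ka xa9 ya46 za1) (ka xa15 ya46 za14) (ka xa27 ya40 za49) (ka xa23 ya24 za46) (ka xa27 ya40 za50) (ka xa23 ya30 za8) (ka xa27 ya40 za51)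 (ka xa25 ya18 za60) (ka xa12 ya20 za27) (ka xa21 ya19 za44) (ka xa21 ya19 za46) (ka xa11 ya19 za35) (ka xa27 ya40 za60) (ka xa22 ya45 za1) (ka xa23 ya26 za46) (ka xa14 ya8 za22) (ka xa14 ya8 za24) (ka xa26 ya51 za42)) (@D3.rec (fun _ => Pt) (ka xa26 ya51 za43) (ka xa23 ya23 za12) (ka xa22 ya38 za15) (ka xa22 ya45 za3) (ka xa11 ya31 za59) (ka xa27 ya40 za46) (ka xa11 ya30 za59) (ka xa9 ya46 za13) (ka xa22 ya42 za40) (ka xa27 ya41 za7) (ka xa26 ya48 za47) (ka xa22 ya38 za11) (ka xa22 ya45 za7) (ka xa22 ya32 za30) (ka xa20 ya22 za13) (ka xa23 ya30 za45) (ka xa26 ya48 za41) (ka xa23 ya23 za15) (ka xa18 ya25 za60) (ka xa21 ya37 za56) (ka xa27 ya40 za25) (ka xa9 ya48 za23) (ka xa9 ya50 za47) (ka xa9 ya50 za45) (ka xa27 ya41 za19) (ka xa16 ya45 za5) (ka xa19 ya50 za24) (ka xa19 ya49 za23) (ka xa16 ya43 za52) (ka xa9 ya46 za28)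 (ka xa19 ya47 za42) (ka xa15 ya43 za30) (ka xa9 ya46 za31) (ka xa9 ya46 za33) (ka xa9 ya46 za34) (ka xa20 ya16 za10) (ka xa27 ya41 za23) (ka xa18 ya25 za47) (ka xa27 ya41 za25) (ka xa20 ya24 za14) (ka xa10 ya5 za41) (ka xa18 ya37 za37) (ka xa18 ya32 za8) (ka xa17 ya15 za61) (ka xa12 ya22 za18) (ka xa9 ya46 za42) (ka xa9 ya46 za43) (ka xa24 ya53 za19) (ka xa11 ya11 za50) (ka xa11 ya7 za57) (ka xa21 ya24 za17) (ka xa11 ya4 za40) (ka xa27 ya41 za33) (ka xa9 ya51 za16) (ka xa9 ya51 za15) (ka xa9 ya46 za54) (ka xa22 ya59 za47) (ka xa23 ya3 za26) (ka xa16 ya26 za43) (ka xa16 ya26 za44) (ka xa16 ya26 za45) (ka xa13 ya43 za35)) (@D3.rec (fun _ => Pt) (ka xa16 ya26 za46) (ka xa13 ya52 za50) (ka xa24 ya54 za13) (ka xa24 ya54 za14) (ka xa16 ya26 za49) (ka xa16 ya19 za49) (ka xa16 ya26 za50) (ka xa19 ya47 za0) (ka xa16 ya26 za53)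 (ka xa16 ya34 za38) (ka xa16 ya26 za56) (ka xa16 ya26 za57) (ka xa16 ya26 za58) (ka xa16 ya26 za61) (ka xa16 ya27 za0) (ka xa15 ya8 za2) (ka xa15 ya8 za21) (ka xa15 ya8 za22) (ka xa15 ya8 za23) (ka xa15 ya8 za20) (ka xa27 ya41 za60) (ka xa15 ya20 za19) (ka xa16 ya27 za2) (ka xa16 ya27 za3) (ka xa22 ya55 za58) (ka xa16 ya27 za8) (ka xa16 ya27 za9) (ka xa16 ya27 za10) (ka xa9 ya47 za9) (ka xa13 ya37 za39) (ka xa16 ya27 za15) (ka xa16 ya27 za16) (ka xa16 ya27 za12) (ka xa16 ya27 za17) (ka xa16 ya27 za21) (ka xa16 ya27 za24) (ka xa26 ya24 za43) (ka xa22 ya23 za0) (ka xa9 ya47 za14) (ka xa16 ya27 za32) (ka xa16 ya27 za33) (ka xa16 ya27 za39) (ka xa16 ya27 za40) (ka xa9 ya47 za60) (ka xa21 ya37 za19) (ka xa11 ya29 za58) (ka xa11 ya11 za26) (ka xa11 ya29 za59) (ka xa25 ya45 za53) (ka xa11 ya30 za27) (ka xa25 ya18 za18) (ka xa10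 ya5 za46) (ka xa26 ya26 za22) (ka xa10 ya6 za13) (ka xa15 ya26 za47) (ka xa11 ya31 za16) (ka xa11 ya31 za17) (ka xa12 ya12 za37) (ka xa11 ya30 za34) (ka xa11 ya30 za35) (ka xa11 ya30 za36) (ka xa11 ya30 za38)) (@D3.rec (fun _ => Pt) (ka xa12 ya35 za0) (ka xa18 ya37 za48) (ka xa12 ya17 za54) (ka xa18 ya38 za17) (ka xa20 ya12 za53) (ka xa20 ya22 za12) (ka xa20 ya34 za31) (ka xa18 ya15 za36) (ka xa20 ya40 za28) (ka xa20 ya42 za47) (ka xa20 ya42 za50) (ka xa21 ya47 za9) (ka xa11 ya30 za60) (ka xa9 ya48 za38) (ka xa10 ya4 za49) (ka xa10 ya4 za50) (ka xa10 ya4 za51) (ka xa10 ya6 za45) (ka xa10 ya6 za46) (ka xa10 ya6 za47) (ka xa10 ya6 za48) (ka xa10 ya45 za41) (ka xa14 ya30 za30) (ka xa9 ya48 za46) (ka xa21 ya11 za18) (ka xa21 ya11 za17) (ka xa11 ya31 za8) (ka xa11 ya31 za10) (ka xa12 ya29 za41) (ka xa10 ya41 za37) (ka xa11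 ya31 za23) (ka xa17 ya1 za28) (ka xa17 ya1 za29) (ka xa11 ya31 za40) (ka xa21 ya11 za19) (ka xa11 ya31 za25) (ka xa11 ya31 za26) (ka xa11 ya31 za34) (ka xa21 ya1 za50) (ka xa23 ya56 za36) (ka xa25 ya14 za25) (ka xa17 ya0 za12) (ka xa20 ya39 za60) (ka xa18 ya43 za49) (ka xa21 ya7 za25) (ka xa12 ya58 za18) (ka xa20 ya42 za27) (ka xa12 ya16 za42) (ka xa12 ya16 za39) (ka xa11 ya31 za57) (ka xa10 ya56 za25) (ka xa11 ya32 za0) (ka xa20 ya42 za29) (ka xa20 ya42 za31) (ka xa21 ya3 za13) (ka xa11 ya32 za15) (ka xa27 ya42 za37) (ka xa20 ya42 za34) (ka xa19 ya40 za10) (ka xa24 ya4 za20) (ka xa20 ya25 za53) (ka xa24 ya17 za50)) (@D3.rec (fun _ => Pt) (ka xa24 ya17 za51) (ka xa24 ya17 za52) (ka xa24 ya16 za12) (ka xa11 ya20 za41) (ka xa25 ya14 za26) (ka xa27 ya42 za23) (ka xa11 ya48 za0) (ka xa24 ya16 za11) (ka xa11 ya2 za30) (ka xa9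 ya49 za18) (ka xa9 ya49 za23) (ka xa9 ya49 za36) (ka xa12 ya15 za24) (ka xa21 ya3 za26) (ka xa21 ya3 za25) (ka xa17 ya10 za1) (ka xa12 ya41 za26) (ka xa12 ya41 za27) (ka xa12 ya36 za60) (ka xa9 ya50 za7) (ka xa9 ya50 za8) (ka xa9 ya50 za9) (ka xa9 ya50 za10) (ka xa9 ya50 za11) (ka xa9 ya50 za20) (ka xa9 ya50 za29) (ka xa22 ya3 za22) (ka xa11 ya25 za55) (ka xa11 ya26 za29) (ka xa11 ya26 za30) (ka xa22 ya3 za36) (ka xa11 ya26 za41) (ka xa22 ya2 za40) (ka xa26 ya59 za5) (ka xa12 ya35 za20) (ka xa9 ya55 za30) (ka xa20 ya40 za29) (ka xa17 ya4 za21) (ka xa11 ya19 za16) (ka xa11 ya59 za17) (ka xa11 ya19 za12) (ka xa11 ya18 za4) (ka xa12 ya3 za54) (ka xa21 ya35 za5) (ka xa17 ya8 za35) (ka xa27 ya42 za47) (ka xa22 ya23 za18) (ka xa17 ya5 za59) (ka xa11 ya27 za3) (ka xa11 ya27 za6) (ka xa11 ya27 za21) (ka xa11 ya27 za22) (ka xa16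 ya31 za2) (ka xa20 ya34 za45) (ka xa22 ya54 za2) (ka xa19 ya47 za3) (ka xa19 ya47 za4) (ka xa18 ya1 za20) (ka xa10 ya6 za58) (ka xa11 ya28 za47) (ka xa9 ya49 za32) (ka xa17 ya6 za5))
def f_a_18 : D2 → D3 → Pt := @D2.rec (fun _ => D3 → Pt) (@D3.rec (fun _ => Pt) (ka xa20 ya45 za32) (ka xa20 ya45 za35) (ka xa25 ya17 za15) (ka xa18 ya0 za5) (ka xa18 ya16 za60) (ka xa18 ya0 za3) (ka xa19 ya42 za57) (ka xa10 ya14 za15) (ka xa12 ya41 za2) (ka xa10 ya14 za14) (ka xa12 ya38 za52) (ka xa11 ya29 za0) (ka xa9 ya57 za58) (ka xa12 ya38 za42) (ka xa23 ya47 za41) (ka xa9 ya49 za45) (ka xa20 ya25 za46) (ka xa12 ya14 za20) (ka xa23 ya49 za10) (ka xa27 ya1 za13) (ka xa27 ya7 za28) (ka xa20 ya44 za59) (ka xa20 ya44 za60) (ka xa20 ya44 za61) (ka xa20 ya45 za0) (ka xa20 ya45 za2) (ka xa20 ya45 za3) (ka xa20 ya45 za4) (ka xa20 ya45 za5) (ka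 xa17 ya22 za55) (ka xa21 ya47 za16) (ka xa20 ya40 za19) (ka xa20 ya40 za20) (ka xa20 ya40 za21) (ka xa16 ya28 za12) (ka xa22 ya16 za8) (ka xa26 ya50 za24) (ka xa26 ya50 za22) (ka xa16 ya31 za37) (ka xa27 ya12 za48) (ka xa27 ya12 za49) (ka xa26 ya41 za1) (ka xa19 ya57 za28) (ka xa27 ya12 za50) (ka xa19 ya11 za1) (ka xa11 ya46 za1) (ka xa11 ya45 za60) (ka xa11 ya45 za61) (ka xa11 ya46 za0) (ka xa16 ya49 za17) (ka xa9 ya50 za3) (ka xa27 ya9 za19) (ka xa12 ya41 za38) (ka xa20 ya48 za38) (ka xa20 ya48 za39) (ka xa20 ya27 za46) (ka xa12 ya53 za43) (ka xa9 ya50 za6) (ka xa27 ya43 za24) (ka xa23 ya29 za28) (ka xa27 ya42 za49) (ka xa16 ya49 za16)) (@D3.rec (fun _ => Pt) (ka xa23 ya59 za25) (ka xa20 ya17 za4) (ka xa21 ya55 za11) (ka xa10 ya15 za54) (ka xa20 ya22 za7) (ka xa10 ya15 za35) (ka xa22 ya45 za4) (ka xa27 ya43 za32) (ka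 xa23 ya26 za45) (ka xa24 ya33 za7) (ka xa10 ya27 za14) (ka xa9 ya54 za23) (ka xa21 ya22 za7) (ka xa18 ya12 za42) (ka xa18 ya10 za30) (ka xa18 ya12 za43) (ka xa26 ya59 za29) (ka xa24 ya53 za43) (ka xa13 ya50 za35) (ka xa24 ya53 za44) (ka xa17 ya59 za57) (ka xa18 ya15 za30) (ka xa21 ya50 za16) (ka xa21 ya50 za53) (ka xa17 ya5 za40) (ka xa21 ya50 za17) (ka xa24 ya33 za27) (ka xa21 ya23 za9) (ka xa21 ya23 za10) (ka xa16 ya46 za19) (ka xa9 ya50 za28) (ka xa18 ya15 za38) (ka xa20 ya52 za2) (ka xa24 ya47 za24) (ka xa23 ya26 za48) (ka xa20 ya37 za36) (ka xa20 ya0 za3) (ka xa11 ya55 za13) (ka xa12 ya44 za30) (ka xa19 ya24 za15) (ka xa11 ya24 za32) (ka xa19 ya24 za22) (ka xa26 ya10 za21) (ka xa27 ya24 za23) (ka xa11 ya39 za26) (ka xa27 ya43 za52) (ka xa25 ya18 za20) (ka xa27 ya43 za57) (ka xa20 ya40 za7) (ka xa26 ya55 za1) (ka xa20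 ya54 za36) (ka xa27 ya41 za17) (ka xa27 ya41 za18) (ka xa27 ya44 za4) (ka xa19 ya19 za49) (ka xa15 ya20 za34) (ka xa27 ya41 za15) (ka xa17 ya53 za18) (ka xa27 ya41 za16) (ka xa27 ya44 za8) (ka xa20 ya29 za15) (ka xa20 ya29 za16)) (@D3.rec (fun _ => Pt) (ka xa24 ya38 za8) (ka xa20 ya29 za18) (ka xa21 ya48 za27) (ka xa23 ya1 za47) (ka xa9 ya50 za50) (ka xa24 ya37 za38) (ka xa20 ya43 za59) (ka xa13 ya11 za2) (ka xa10 ya27 za1) (ka xa20 ya52 za30) (ka xa16 ya58 za31) (ka xa12 ya22 za22) (ka xa19 ya43 za59) (ka xa21 ya36 za34) (ka xa16 ya30 za36) (ka xa26 ya10 za22) (ka xa13 ya2 za30) (ka xa19 ya27 za43) (ka xa18 ya26 za0) (ka xa11 ya8 za11) (ka xa11 ya8 za13) (ka xa10 ya55 za31) (ka xa20 ya50 za22) (ka xa19 ya56 za61) (ka xa19 ya12 za60) (ka xa15 ya25 za33) (ka xa27 ya41 za34) (ka xa19 ya13 za1) (ka xa27 ya23 za19) (ka xa9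 ya51 za18) (ka xa12 ya5 za48) (ka xa12 ya5 za47) (ka xa27 ya44 za19) (ka xa21 ya54 za4) (ka xa16 ya33 za54) (ka xa22 ya20 za18) (ka xa16 ya34 za37) (ka xa16 ya26 za51) (ka xa16 ya34 za39) (ka xa19 ya20 za3) (ka xa15 ya2 za18) (ka xa9 ya51 za29) (ka xa27 ya44 za27) (ka xa18 ya3 za4) (ka xa18 ya3 za6) (ka xa16 ya47 za44) (ka xa9 ya51 za32) (ka xa27 ya44 za31) (ka xa14 ya21 za28) (ka xa10 ya39 za44) (ka xa10 ya39 za47) (ka xa10 ya39 za48) (ka xa18 ya44 za1) (ka xa15 ya15 za40) (ka xa19 ya53 za59) (ka xa15 ya54 za33) (ka xa19 ya46 za39) (ka xa19 ya53 za56) (ka xa22 ya12 za23) (ka xa18 ya3 za15) (ka xa18 ya3 za16) (ka xa16 ya39 za21)) (@D3.rec (fun _ => Pt) (ka xa16 ya39 za20) (ka xa9 ya51 za42) (ka xa27 ya44 za45) (ka xa16 ya38 za7) (ka xa18 ya2 za43) (ka xa15 ya44 za45) (ka xa18 ya2 za44) (ka xa19 ya55 za3) (ka xa19 ya55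 za2) (ka xa20 ya24 za33) (ka xa9 ya51 za49) (ka xa26 ya47 za4) (ka xa19 ya55 za35) (ka xa25 ya38 za41) (ka xa25 ya41 za13) (ka xa18 ya2 za59) (ka xa18 ya2 za60) (ka xa16 ya10 za15) (ka xa27 ya27 za1) (ka xa17 ya41 za7) (ka xa9 ya53 za5) (ka xa9 ya53 za4) (ka xa9 ya51 za54) (ka xa27 ya45 za2) (ka xa9 ya52 za46) (ka xa9 ya52 za45) (ka xa9 ya51 za56) (ka xa27 ya45 za7) (ka xa15 ya19 za6) (ka xa9 ya53 za8) (ka xa9 ya53 za45) (ka xa9 ya51 za59) (ka xa21 ya42 za0) (ka xa26 ya16 za34) (ka xa9 ya53 za32) (ka xa9 ya53 za33) (ka xa9 ya53 za34) (ka xa9 ya53 za35) (ka xa9 ya53 za36) (ka xa9 ya53 za39) (ka xa9 ya53 za41) (ka xa9 ya54 za8) (ka xa9 ya54 za7) (ka xa9 ya52 za2) (ka xa27 ya45 za17) (ka xa27 ya45 za18) (ka xa9 ya54 za4) (ka xa9 ya54 za5) (ka xa9 ya54 za6) (ka xa9 ya53 za59) (ka xa9 ya53 za58) (ka xa9 ya52 za5) (ka xa24 ya45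 za33) (ka xa27 ya45 za32) (ka xa9 ya54 za12) (ka xa9 ya54 za14) (ka xa9 ya52 za12) (ka xa9 ya52 za8) (ka xa15 ya14 za14) (ka xa27 ya45 za36) (ka xa9 ya52 za9) (ka xa26 ya12 za52)) (@D3.rec (fun _ => Pt) (ka xa27 ya45 za38) (ka xa17 ya41 za41) (ka xa27 ya45 za40) (ka xa9 ya52 za11) (ka xa18 ya8 za22) (ka xa18 ya8 za21) (ka xa15 ya52 za35) (ka xa27 ya45 za35) (ka xa21 ya37 za32) (ka xa27 ya45 za49) (ka xa9 ya54 za36) (ka xa9 ya54 za39) (ka xa9 ya54 za40) (ka xa9 ya54 za41) (ka xa9 ya54 za45) (ka xa18 ya31 za57) (ka xa18 ya46 za5) (ka xa18 ya46 za7) (ka xa19 ya20 za8) (ka xa22 ya57 za52) (ka xa22 ya57 za55) (ka xa9 ya52 za21) (ka xa24 ya18 za49) (ka xa10 ya54 za3) (ka xa10 ya54 za2) (ka xa18 ya31 za46) (ka xa24 ya45 za34) (ka xa25 ya3 za37) (ka xa9 ya52 za27) (ka xa22 ya11 za2) (ka xa12 ya30 za46) (ka xa20 ya4 za15) (ka xa27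 ya44 za61) (ka xa9 ya52 za30) (ka xa16 ya17 za8) (ka xa27 ya46 za3) (ka xa18 ya7 za1) (ka xa18 ya31 za54) (ka xa18 ya31 za55) (ka xa18 ya31 za56) (ka xa18 ya27 za39) (ka xa27 ya12 za25) (ka xa18 ya31 za58) (ka xa18 ya31 za60) (ka xa18 ya31 za51) (ka xa18 ya31 za50) (ka xa9 ya52 za36) (ka xa18 ya7 za38) (ka xa27 ya31 za5) (ka xa18 ya6 za61) (ka xa18 ya27 za41) (ka xa27 ya30 za3) (ka xa26 ya18 za45) (ka xa24 ya56 za28) (ka xa15 ya5 za56) (ka xa18 ya27 za35) (ka xa18 ya45 za42) (ka xa18 ya53 za22) (ka xa18 ya6 za1) (ka xa27 ya45 za6) (ka xa27 ya31 za55) (ka xa19 ya15 za21)) (@D3.rec (fun _ => Pt) (ka xa18 ya6 za0) (ka xa19 ya15 za20) (ka xa9 ya52 za48) (ka xa9 ya52 za49) (ka xa21 ya52 za17) (ka xa21 ya52 za18) (ka xa21 ya28 za30) (ka xa26 ya15 za52) (ka xa12 ya58 za60) (ka xa23 ya50 za48) (ka xa25 ya15 za38) (ka xa23 ya36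 za59) (ka xa26 ya12 za56) (ka xa27 ya46 za33) (ka xa26 ya12 za53) (ka xa18 ya31 za59) (ka xa18 ya27 za19) (ka xa18 ya45 za24) (ka xa18 ya45 za23) (ka xa9 ya53 za1) (ka xa25 ya3 za40) (ka xa27 ya46 za37) (ka xa18 ya6 za27) (ka xa18 ya27 za27) (ka xa18 ya6 za26) (ka xa27 ya45 za1) (ka xa9 ya53 za7) (ka xa27 ya45 za3) (ka xa26 ya20 za59) (ka xa27 ya46 za42) (ka xa27 ya10 za21) (ka xa17 ya37 za25) (ka xa26 ya14 za32) (ka xa27 ya25 za7) (ka xa18 ya26 za51) (ka xa25 ya43 za9) (ka xa18 ya26 za36) (ka xa19 ya57 za14) (ka xa18 ya33 za54) (ka xa19 ya57 za11) (ka xa19 ya57 za12) (ka xa27 ya46 za54) (ka xa19 ya57 za16) (ka xa19 ya57 za15) (ka xa9 ya53 za16) (ka xa27 ya46 za58) (ka xa19 ya57 za10) (ka xa10 ya25 za51) (ka xa10 ya25 za50) (ka xa9 ya53 za18) (ka xa25 ya23 za56) (ka xa18 ya34 za41) (ka xa10 ya29 za21) (ka xa10 ya29 za20)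 (ka xa19 ya2 za15) (ka xa18 ya28 za61) (ka xa18 ya46 za42) (ka xa18 ya54 za22) (ka xa24 ya46 za40) (ka xa27 ya47 za11) (ka xa18 ya56 za54) (ka xa9 ya53 za29)) (@D3.rec (fun _ => Pt) (ka xa18 ya5 za0) (ka xa18 ya4 za58) (ka xa14 ya14 za31) (ka xa14 ya14 za30) (ka xa21 ya42 za16) (ka xa24 ya43 za10) (ka xa14 ya4 za31) (ka xa23 ya22 za53) (ka xa27 ya45 za10) (ka xa27 ya47 za15) (ka xa24 ya40 za56) (ka xa27 ya47 za19) (ka xa27 ya45 za11) (ka xa24 ya45 za32) (ka xa18 ya40 za30) (ka xa27 ya45 za12) (ka xa23 ya22 za54) (ka xa18 ya6 za29) (ka xa27 ya20 za34) (ka xa18 ya35 za8) (ka xa27 ya28 za4) (ka xa19 ya54 za8) (ka xa27 ya47 za25) (ka xa18 ya36 za27) (ka xa9 ya59 za45) (ka xa9 ya53 za48) (ka xa18 ya5 za24) (ka xa18 ya5 za22) (ka xa27 ya47 za26) (ka xa18 ya6 za17) (ka xa26 ya14 za60) (ka xa22 ya34 za37) (ka xa27 ya26 za28) (ka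 xa27 ya47 za31) (ka xa18 ya27 za12) (ka xa27 ya47 za33) (ka xa18 ya27 za13) (ka xa22 ya36 za25) (ka xa24 ya58 za50) (ka xa17 ya44 za24) (ka xa27 ya45 za43) (ka xa16 ya33 za8) (ka xa27 ya47 za0) (ka xa27 ya45 za30) (ka xa27 ya45 za31) (ka xa26 ya16 za21) (ka xa26 ya16 za37) (ka xa27 ya45 za28) (ka xa27 ya45 za29) (ka xa9 ya53 za61) (ka xa9 ya54 za0) (ka xa9 ya54 za1) (ka xa24 ya48 za1) (ka xa27 ya47 za44) (ka xa27 ya47 za45) (ka xa17 ya38 za61) (ka xa27 ya47 za46) (ka xa26 ya12 za17) (ka xa25 ya18 za1) (ka xa26 ya13 za46) (ka xa17 ya39 za3) (ka xa18 ya4 za49)) (@D3.rec (fun _ => Pt) (ka xa21 ya1 za4) (ka xa18 ya4 za36) (ka xa26 ya14 za16) (ka xa23 ya22 za61) (ka xa23 ya22 za13) (ka xa27 ya45 za24) (ka xa18 ya9 za61) (ka xa27 ya45 za25) (ka xa24 ya32 za34) (ka xa27 ya45 za26) (ka xa26 ya21 za12) (ka xa27 ya45 za16) (ka xa12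 ya19 za16) (ka xa19 ya1 za58) (ka xa27 ya45 za14) (ka xa27 ya45 za15) (ka xa24 ya46 za51) (ka xa9 ya54 za10) (ka xa9 ya54 za11) (ka xa27 ya31 za40) (ka xa27 ya45 za19) (ka xa22 ya8 za32) (ka xa22 ya8 za31) (ka xa26 ya12 za46) (ka xa27 ya31 za7) (ka xa26 ya12 za45) (ka xa27 ya30 za41) (ka xa26 ya18 za26) (ka xa27 ya30 za40) (ka xa9 ya54 za31) (ka xa9 ya54 za32) (ka xa19 ya1 za59) (ka xa9 ya54 za19) (ka xa9 ya54 za20) (ka xa12 ya19 za22) (ka xa19 ya1 za60) (ka xa10 ya26 za53) (ka xa10 ya26 za58) (ka xa18 ya4 za47) (ka xa25 ya23 za6) (ka xa14 ya12 za14) (ka xa9 ya54 za24) (ka xa21 ya26 za11) (ka xa9 ya54 za25) (ka xa27 ya45 za27) (ka xa9 ya54 za22) (ka xa27 ya43 za34) (ka xa25 ya23 za8) (ka xa27 ya17 za17) (ka xa18 ya35 za44) (ka xa27 ya31 za17) (ka xa9 ya54 za27) (ka xa9 ya54 za28) (ka xa9 ya54 za30) (ka xa12 ya19 za20)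 (ka xa19 ya26 za43) (ka xa27 ya48 za16) (ka xa21 ya20 za11) (ka xa19 ya26 za45) (ka xa21 ya37 za29) (ka xa19 ya26 za48) (ka xa19 ya26 za50)) (@D3.rec (fun _ => Pt) (ka xa15 ya17 za24) (ka xa15 ya35 za43) (ka xa11 ya56 za54) (ka xa12 ya19 za9) (ka xa22 ya27 za54) (ka xa21 ya37 za2) (ka xa18 ya29 za55) (ka xa18 ya29 za54) (ka xa27 ya48 za7) (ka xa9 ya54 za33) (ka xa26 ya48 za19) (ka xa21 ya37 za31) (ka xa26 ya14 za17) (ka xa26 ya14 za18) (ka xa9 ya54 za35) (ka xa27 ya22 za5) (ka xa26 ya12 za34) (ka xa27 ya45 za51) (ka xa27 ya45 za52) (ka xa27 ya45 za53) (ka xa26 ya14 za20) (ka xa18 ya4 za5) (ka xa18 ya4 za4) (ka xa9 ya54 za37) (ka xa18 ya8 za36) (ka xa18 ya8 za37) (ka xa18 ya8 za38) (ka xa18 ya8 za35) (ka xa23 ya1 za54) (ka xa22 ya8 za42) (ka xa27 ya45 za54) (ka xa26 ya12 za20) (ka xa22 ya8 za41) (ka xa27 ya45 za55) (ka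 xa27 ya26 za52) (ka xa18 ya8 za27) (ka xa18 ya8 za24) (ka xa18 ya8 za25) (ka xa18 ya8 za26) (ka xa27 ya47 za43) (ka xa18 ya30 za15) (ka xa18 ya30 za16) (ka xa26 ya12 za43) (ka xa18 ya30 za12) (ka xa18 ya30 za17) (ka xa27 ya45 za56) (ka xa25 ya24 za7) (ka xa19 ya5 za11) (ka xa24 ya46 za42) (ka xa18 ya30 za26) (ka xa18 ya30 za27) (ka xa18 ya30 za28) (ka xa18 ya30 za23) (ka xa17 ya47 za24) (ka xa9 ya54 za51) (ka xa18 ya10 za49) (ka xa27 ya49 za12) (ka xa18 ya32 za52) (ka xa18 ya32 za53) (ka xa18 ya32 za54) (ka xa18 ya32 za55) (ka xa18 ya32 za9)) (@D3.rec (fun _ => Pt) (ka xa15 ya2 za17) (ka xa18 ya32 za56) (ka xa27 ya49 za26) (ka xa18 ya32 za50) (ka xa18 ya16 za49) (ka xa9 ya54 za58) (ka xa27 ya49 za27) (ka xa18 ya32 za49) (ka xa17 ya51 za4) (ka xa17 ya51 za6) (ka xa9 ya56 za53) (ka xa9 ya56 za51) (ka xa18 ya32 za58) (ka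 xa18 ya32 za57) (ka xa24 ya56 za30) (ka xa18 ya32 za61) (ka xa18 ya33 za0) (ka xa16 ya21 za43) (ka xa18 ya13 za21) (ka xa18 ya32 za60) (ka xa9 ya56 za49) (ka xa27 ya32 za24) (ka xa10 ya2 za24) (ka xa18 ya13 za14) (ka xa18 ya33 za5) (ka xa20 ya21 za0) (ka xa18 ya13 za13) (ka xa18 ya33 za3) (ka xa9 ya55 za10) (ka xa9 ya55 za11) (ka xa18 ya33 za9) (ka xa18 ya33 za8) (ka xa15 ya50 za46) (ka xa27 ya49 za56) (ka xa27 ya29 za46) (ka xa27 ya29 za45) (ka xa18 ya31 za42) (ka xa27 ya32 za12) (ka xa27 ya32 za13) (ka xa18 ya13 za20) (ka xa18 ya13 za19) (ka xa27 ya50 za9) (ka xa18 ya14 za57) (ka xa27 ya32 za31) (ka xa18 ya14 za56) (ka xa27 ya32 za16) (ka xa27 ya32 za17) (ka xa27 ya32 za18) (ka xa10 ya12 za45) (ka xa10 ya12 za25) (ka xa18 ya58 za22) (ka xa27 ya50 za19) (ka xa18 ya32 za38) (ka xa18 ya26 za27) (ka xa27 ya50 za22) (ka xa18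 ya32 za40) (ka xa25 ya45 za18) (ka xa18 ya26 za41) (ka xa18 ya26 za40) (ka xa9 ya55 za22) (ka xa18 ya26 za35) (ka xa18 ya7 za6)) (@D3.rec (fun _ => Pt) (ka xa18 ya26 za38) (ka xa18 ya27 za17) (ka xa18 ya26 za39) (ka xa18 ya41 za44) (ka xa18 ya32 za14) (ka xa18 ya32 za15) (ka xa18 ya39 za10) (ka xa18 ya32 za11) (ka xa18 ya32 za12) (ka xa9 ya55 za31) (ka xa27 ya50 za35) (ka xa27 ya50 za36) (ka xa27 ya20 za17) (ka xa18 ya41 za50) (ka xa18 ya30 za58) (ka xa18 ya32 za22) (ka xa18 ya33 za44) (ka xa18 ya32 za1) (ka xa18 ya32 za2) (ka xa18 ya31 za61) (ka xa9 ya55 za44) (ka xa18 ya33 za51) (ka xa17 ya50 za14) (ka xa18 ya33 za38) (ka xa17 ya51 za61) (ka xa9 ya55 za51) (ka xa20 ya38 za10) (ka xa27 ya20 za36) (ka xa27 ya36 za9) (ka xa18 ya14 za7) (ka xa18 ya1 za14) (ka xa18 ya20 za27) (ka xa18 ya20 za28) (ka xa18 ya33 za35) (ka xa18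 ya20 za25) (ka xa10 ya55 za48) (ka xa18 ya20 za15) (ka xa18 ya20 za14) (ka xa18 ya55 za18) (ka xa14 ya16 za48) (ka xa18 ya20 za26) (ka xa9 ya55 za61) (ka xa17 ya47 za46) (ka xa17 ya47 za41) (ka xa18 ya33 za43) (ka xa18 ya20 za32) (ka xa9 ya56 za3) (ka xa24 ya45 za8) (ka xa24 ya45 za7) (ka xa18 ya8 za55) (ka xa10 ya10 za54) (ka xa18 ya33 za36) (ka xa9 ya57 za12) (ka xa18 ya33 za37) (ka xa9 ya57 za10) (ka xa14 ya18 za61) (ka xa17 ya3 za8) (ka xa17 ya45 za1) (ka xa27 ya51 za6) (ka xa27 ya6 za6) (ka xa27 ya51 za10) (ka xa27 ya29 za44)) (@D3.rec (fun _ => Pt) (ka xa21 ya35 za21) (ka xa18 ya50 za33) (ka xa18 ya22 za35) (ka xa20 ya34 za24) (ka xa9 ya56 za16) (ka xa18 ya20 za60) (ka xa9 ya56 za17) (ka xa27 ya51 za18) (ka xa24 ya22 za52) (ka xa18 ya32 za44) (ka xa9 ya56 za20) (ka xa18 ya32 za42) (ka xa9 ya56 za21) (ka xa27 ya51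 za22) (ka xa15 ya0 za49) (ka xa15 ya0 za48) (ka xa9 ya56 za23) (ka xa27 ya51 za27) (ka xa27 ya51 za28) (ka xa18 ya30 za34) (ka xa18 ya30 za35) (ka xa18 ya30 za37) (ka xa18 ya30 za36) (ka xa9 ya56 za26) (ka xa27 ya51 za44) (ka xa27 ya51 za45) (ka xa9 ya56 za48) (ka xa9 ya56 za50) (ka xa18 ya30 za49) (ka xa18 ya30 za48) (ka xa9 ya56 za29) (ka xa26 ya30 za57) (ka xa18 ya31 za4) (ka xa18 ya31 za5) (ka xa18 ya31 za6) (ka xa18 ya31 za0) (ka xa18 ya30 za61) (ka xa9 ya56 za32) (ka xa27 ya52 za9) (ka xa27 ya52 za10) (ka xa18 ya30 za53) (ka xa18 ya30 za54) (ka xa18 ya30 za55) (ka xa18 ya30 za56) (ka xa18 ya30 za57) (ka xa18 ya30 za59) (ka xa15 ya25 za36) (ka xa18 ya31 za8) (ka xa18 ya31 za7) (ka xa9 ya56 za37) (ka xa27 ya16 za44) (ka xa27 ya52 za28) (ka xa18 ya14 za48) (ka xa18 ya31 za16) (ka xa18 ya31 za13) (ka xa18 ya31 za12)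 (ka xa9 ya56 za40) (ka xa22 ya7 za23) (ka xa27 ya52 za42) (ka xa18 ya14 za46) (ka xa18 ya13 za30) (ka xa18 ya31 za11)) (@D3.rec (fun _ => Pt) (ka xa18 ya46 za9) (ka xa10 ya3 za35) (ka xa18 ya14 za39) (ka xa18 ya31 za21) (ka xa26 ya19 za27) (ka xa18 ya14 za38) (ka xa18 ya31 za19) (ka xa9 ya56 za46) (ka xa9 ya56 za47) (ka xa18 ya31 za24) (ka xa18 ya31 za23) (ka xa17 ya11 za43) (ka xa27 ya52 za52) (ka xa27 ya49 za55) (ka xa18 ya14 za52) (ka xa18 ya14 za51) (ka xa27 ya51 za52) (ka xa27 ya51 za53) (ka xa27 ya51 za54) (ka xa24 ya38 za57) (ka xa27 ya53 za10) (ka xa27 ya49 za45) (ka xa27 ya51 za55) (ka xa27 ya51 za56) (ka xa15 ya37 za4) (ka xa27 ya49 za38) (ka xa27 ya53 za14) (ka xa15 ya38 za51) (ka xa18 ya27 za20) (ka xa25 ya16 za59) (ka xa19 ya36 za10) (ka xa15 ya36 za33) (ka xa21 ya27 za34) (ka xa25 ya16 za57) (ka xa25 ya16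 za56) (ka xa21 ya8 za8) (ka xa18 ya32 za18) (ka xa18 ya32 za17) (ka xa27 ya53 za19) (ka xa18 ya32 za26) (ka xa18 ya32 za27) (ka xa18 ya32 za29) (ka xa18 ya1 za13) (ka xa18 ya1 za15) (ka xa26 ya32 za8) (ka xa18 ya32 za20) (ka xa18 ya32 za21) (ka xa18 ya20 za33) (ka xa18 ya32 za23) (ka xa9 ya57 za8) (ka xa9 ya57 za9) (ka xa9 ya57 za11) (ka xa17 ya9 za47) (ka xa18 ya32 za35) (ka xa19 ya53 za20) (ka xa21 ya8 za9) (ka xa27 ya53 za29) (ka xa21 ya42 za5) (ka xa27 ya51 za2) (ka xa27 ya51 za3) (ka xa17 ya52 za3) (ka xa20 ya34 za17)) (@D3.rec (fun _ => Pt) (ka xa17 ya52 za8) (ka xa10 ya55 za49) (ka xa27 ya36 za8) (ka xa18 ya17 za59) (ka xa10 ya28 za10) (ka xa10 ya28 za9) (ka xa19 ya2 za21) (ka xa18 ya35 za15) (ka xa27 ya32 za10) (ka xa18 ya35 za18) (ka xa20 ya20 za58) (ka xa9 ya57 za27) (ka xa9 ya57 za28) (ka xa18 ya9 za26) (ka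 xa18 ya9 za23) (ka xa21 ya9 za8) (ka xa27 ya53 za45) (ka xa27 ya53 za46) (ka xa27 ya52 za45) (ka xa18 ya9 za40) (ka xa18 ya9 za39) (ka xa18 ya9 za18) (ka xa27 ya32 za14) (ka xa27 ya32 za32) (ka xa27 ya32 za33) (ka xa22 ya51 za56) (ka xa27 ya32 za34) (ka xa9 ya58 za29) (ka xa27 ya32 za36) (ka xa27 ya32 za37) (ka xa18 ya11 za60) (ka xa27 ya32 za38) (ka xa27 ya32 za39) (ka xa27 ya32 za40) (ka xa27 ya31 za59) (ka xa27 ya33 za10) (ka xa27 ya32 za42) (ka xa9 ya58 za36) (ka xa12 ya37 za40) (ka xa10 ya20 za58) (ka xa18 ya27 za61) (ka xa27 ya54 za8) (ka xa27 ya32 za44) (ka xa27 ya32 za45) (ka xa17 ya52 za37) (ka xa9 ya57 za43) (ka xa21 ya41 za33) (ka xa17 ya47 za48) (ka xa18 ya35 za36) (ka xa10 ya0 za39) (ka xa10 ya13 za38) (ka xa9 ya57 za52) (ka xa9 ya57 za53) (ka xa9 ya57 za54) (ka xa9 ya57 za55) (ka xa17 ya25 za40) (ka xa12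 ya58 za3) (ka xa27 ya54 za21) (ka xa27 ya54 za16) (ka xa26 ya6 za5) (ka xa18 ya49 za51) (ka xa27 ya54 za18)) (@D3.rec (fun _ => Pt) (ka xa27 ya22 za28) (ka xa27 ya22 za29) (ka xa11 ya45 za59) (ka xa27 ya54 za19) (ka xa27 ya54 za20) (ka xa25 ya39 za56) (ka xa12 ya36 za55) (ka xa18 ya10 za29) (ka xa18 ya48 za25) (ka xa27 ya44 za13) (ka xa18 ya29 za27) (ka xa18 ya28 za30) (ka xa18 ya28 za31) (ka xa18 ya37 za14) (ka xa21 ya3 za5) (ka xa9 ya59 za56) (ka xa9 ya58 za10) (ka xa27 ya37 za27) (ka xa18 ya33 za58) (ka xa18 ya33 za57) (ka xa9 ya58 za13) (ka xa27 ya54 za36) (ka xa27 ya54 za37) (ka xa9 ya58 za27) (ka xa9 ya58 za28) (ka xa9 ya58 za30) (ka xa9 ya58 za31) (ka xa9 ya58 za33) (ka xa16 ya34 za46) (ka xa16 ya34 za45) (ka xa9 ya58 za18) (ka xa19 ya2 za25) (ka xa18 ya34 za11) (ka xa18 ya47 za14) (ka xa27 ya54 za48) (ka xa18 ya34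 za14) (ka xa9 ya58 za23) (ka xa9 ya58 za24) (ka xa18 ya12 za5) (ka xa18 ya12 za2) (ka xa17 ya25 za34) (ka xa27 ya54 za51) (ka xa26 ya4 za22) (ka xa26 ya4 za21) (ka xa18 ya35 za29) (ka xa27 ya55 za3) (ka xa18 ya11 za59) (ka xa17 ya26 za59) (ka xa18 ya11 za52) (ka xa27 ya54 za40) (ka xa27 ya54 za41) (ka xa18 ya12 za15) (ka xa18 ya12 za14) (ka xa27 ya55 za16) (ka xa26 ya19 za60) (ka xa27 ya50 za7) (ka xa18 ya9 za44) (ka xa18 ya9 za42) (ka xa10 ya10 za46) (ka xa10 ya10 za5) (ka xa18 ya28 za35) (ka xa24 ya48 za7)) (@D3.rec (fun _ => Pt) (ka xa27 ya55 za24) (ka xa27 ya54 za42) (ka xa27 ya37 za55) (ka xa22 ya18 za11) (ka xa27 ya54 za5) (ka xa18 ya34 za47) (ka xa10 ya13 za53) (ka xa18 ya34 za52) (ka xa21 ya41 za29) (ka xa18 ya34 za48) (ka xa18 ya34 za49) (ka xa9 ya58 za46) (ka xa9 ya58 za47) (ka xa12 ya56 za19) (ka xa10 ya17 za49)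 (ka xa12 ya20 za34) (ka xa12 ya47 za39) (ka xa16 ya20 za24) (ka xa26 ya4 za19) (ka xa26 ya4 za20) (ka xa27 ya48 za10) (ka xa26 ya4 za17) (ka xa10 ya0 za7) (ka xa9 ya58 za53) (ka xa18 ya29 za40) (ka xa10 ya26 za60) (ka xa27 ya29 za50) (ka xa13 ya42 za49) (ka xa9 ya59 za31) (ka xa17 ya33 za19) (ka xa18 ya1 za21) (ka xa14 ya15 za54) (ka xa18 ya37 za11) (ka xa12 ya46 za18) (ka xa12 ya42 za60) (ka xa12 ya40 za49) (ka xa17 ya58 za7) (ka xa18 ya36 za19) (ka xa18 ya1 za31) (ka xa18 ya36 za20) (ka xa18 ya37 za16) (ka xa18 ya35 za48) (ka xa18 ya35 za57) (ka xa9 ya59 za44) (ka xa9 ya59 za18) (ka xa18 ya35 za50) (ka xa18 ya35 za51) (ka xa9 ya59 za25) (ka xa9 ya59 za26) (ka xa9 ya59 za30) (ka xa9 ya59 za32) (ka xa9 ya59 za33) (ka xa17 ya46 za42) (ka xa10 ya26 za25) (ka xa15 ya6 za0) (ka xa27 ya55 za43) (ka xa27 ya55 za44) (ka xa23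 ya21 za54) (ka xa27 ya55 za45) (ka xa23 ya21 za53) (ka xa18 ya23 za24) (ka xa12 ya47 za5)) (@D3.rec (fun _ => Pt) (ka xa17 ya26 za45) (ka xa12 ya37 za18) (ka xa12 ya42 za33) (ka xa21 ya45 za12) (ka xa22 ya28 za51) (ka xa15 ya21 za37) (ka xa27 ya29 za49) (ka xa21 ya31 za11) (ka xa10 ya0 za22) (ka xa21 ya7 za48) (ka xa9 ya59 za46) (ka xa9 ya59 za49) (ka xa9 ya59 za55) (ka xa18 ya35 za55) (ka xa9 ya59 za42) (ka xa9 ya59 za43) (ka xa20 ya45 za33) (ka xa10 ya21 za41) (ka xa10 ya21 za42) (ka xa12 ya43 za55) (ka xa27 ya55 za59) (ka xa18 ya36 za11) (ka xa27 ya55 za60) (ka xa27 ya55 za61) (ka xa10 ya42 za24) (ka xa26 ya20 za55) (ka xa27 ya46 za46) (ka xa24 ya46 za43) (ka xa27 ya55 za58) (ka xa18 ya46 za45) (ka xa9 ya59 za47) (ka xa17 ya44 za47) (ka xa24 ya44 za14) (ka xa25 ya3 za43) (ka xa16 ya2 za25) (ka xa23 ya22 za11) (ka xa10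 ya0 za2) (ka xa17 ya30 za23) (ka xa17 ya30 za21) (ka xa21 ya26 za14) (ka xa10 ya0 za3) (ka xa12 ya44 za27) (ka xa12 ya44 za28) (ka xa12 ya43 za58) (ka xa10 ya0 za4) (ka xa17 ya30 za5) (ka xa9 ya59 za61) (ka xa10 ya0 za0) (ka xa25 ya3 za44) (ka xa18 ya9 za4) (ka xa27 ya34 za55) (ka xa12 ya24 za10) (ka xa21 ya32 za44) (ka xa12 ya44 za46) (ka xa21 ya34 za51) (ka xa25 ya3 za45) (ka xa27 ya56 za6) (ka xa26 ya16 za15) (ka xa27 ya56 za7) (ka xa26 ya16 za14) (ka xa18 ya0 za4) (ka xa21 ya22 za46)) (@D3.rec (fun _ => Pt) (ka xa21 ya21 za58) (ka xa21 ya24 za57) (ka xa10 ya0 za17) (ka xa10 ya0 za18) (ka xa18 ya50 za43) (ka xa20 ya22 za55) (ka xa18 ya38 za20) (ka xa18 ya43 za50) (ka xa19 ya26 za56) (ka xa18 ya43 za28) (ka xa17 ya9 za58) (ka xa27 ya43 za3) (ka xa21 ya41 za42) (ka xa18 ya38 za8) (ka xa18 ya38 za9) (ka xa18 ya38 za10)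 (ka xa21 ya7 za45) (ka xa18 ya38 za5) (ka xa18 ya38 za6) (ka xa18 ya38 za11) (ka xa11 ya39 za4) (ka xa18 ya37 za47) (ka xa18 ya38 za18) (ka xa17 ya20 za23) (ka xa21 ya7 za60) (ka xa21 ya8 za0) (ka xa21 ya8 za2) (ka xa18 ya37 za53) (ka xa18 ya38 za25) (ka xa18 ya38 za26) (ka xa18 ya38 za27) (ka xa17 ya11 za51) (ka xa18 ya38 za30) (ka xa21 ya7 za54) (ka xa27 ya53 za43) (ka xa27 ya33 za37) (ka xa27 ya33 za39) (ka xa27 ya56 za36) (ka xa21 ya53 za49) (ka xa15 ya24 za47) (ka xa18 ya39 za44) (ka xa18 ya39 za45) (ka xa27 ya56 za38) (ka xa11 ya17 za42) (ka xa18 ya39 za46) (ka xa10 ya0 za44) (ka xa12 ya47 za53) (ka xa11 ya49 za4) (ka xa12 ya47 za46) (ka xa15 ya24 za54) (ka xa15 ya24 za55) (ka xa19 ya6 za48) (ka xa18 ya39 za54) (ka xa18 ya39 za53) (ka xa10 ya0 za49) (ka xa23 ya21 za20) (ka xa19 ya5 za44) (ka xa18 ya22 za52) (ka xa18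 ya39 za60) (ka xa18 ya13 za3) (ka xa16 ya50 za44) (ka xa18 ya27 za42)) (@D3.rec (fun _ => Pt) (ka xa18 ya27 za43) (ka xa18 ya39 za58) (ka xa18 ya39 za57) (ka xa10 ya0 za56) (ka xa26 ya9 za60) (ka xa27 ya56 za49) (ka xa18 ya22 za57) (ka xa16 ya16 za38) (ka xa18 ya40 za1) (ka xa18 ya40 za0) (ka xa10 ya0 za59) (ka xa27 ya56 za57) (ka xa24 ya45 za28) (ka xa18 ya22 za61) (ka xa18 ya27 za45) (ka xa18 ya27 za48) (ka xa18 ya27 za47) (ka xa10 ya1 za0) (ka xa27 ya57 za1) (ka xa26 ya8 za15) (ka xa18 ya23 za1) (ka xa18 ya40 za6) (ka xa18 ya40 za7) (ka xa21 ya2 za30) (ka xa18 ya40 za3) (ka xa18 ya40 za4) (ka xa10 ya1 za5) (ka xa18 ya40 za10) (ka xa18 ya40 za9) (ka xa27 ya57 za10) (ka xa23 ya35 za8) (ka xa14 ya39 za14) (ka xa13 ya21 za46) (ka xa14 ya21 za32) (ka xa18 ya40 za57) (ka xa18 ya40 za58) (ka xa18 ya40 za59) (ka xa18 ya40 za60)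 (ka xa27 ya57 za20) (ka xa21 ya11 za39) (ka xa26 ya6 za33) (ka xa21 ya30 za4) (ka xa13 ya21 za26) (ka xa14 ya39 za53) (ka xa19 ya24 za11) (ka xa27 ya57 za24) (ka xa14 ya37 za42) (ka xa16 ya25 za50) (ka xa18 ya40 za40) (ka xa18 ya40 za41) (ka xa23 ya52 za32) (ka xa18 ya40 za34) (ka xa18 ya40 za35) (ka xa18 ya40 za36) (ka xa15 ya23 za40) (ka xa15 ya23 za41) (ka xa16 ya27 za55) (ka xa18 ya22 za58) (ka xa18 ya22 za59) (ka xa13 ya47 za39) (ka xa13 ya47 za40) (ka xa18 ya22 za53)) (@D3.rec (fun _ => Pt) (ka xa18 ya22 za54) (ka xa18 ya22 za55) (ka xa15 ya13 za23) (ka xa18 ya22 za44) (ka xa18 ya22 za45) (ka xa18 ya22 za42) (ka xa18 ya22 za43) (ka xa23 ya10 za29) (ka xa18 ya42 za5) (ka xa26 ya26 za31) (ka xa19 ya1 za33) (ka xa19 ya1 za32) (ka xa25 ya16 za54) (ka xa18 ya40 za55) (ka xa18 ya40 za54) (ka xa10 ya1 za33) (ka xa27 ya57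 za60) (ka xa18 ya40 za16) (ka xa18 ya40 za17) (ka xa18 ya40 za18) (ka xa18 ya40 za19) (ka xa20 ya32 za39) (ka xa23 ya16 za21) (ka xa19 ya1 za46) (ka xa26 ya7 za20) (ka xa16 ya23 za26) (ka xa26 ya7 za21) (ka xa18 ya39 za51) (ka xa18 ya39 za7) (ka xa18 ya39 za52) (ka xa18 ya41 za6) (ka xa10 ya1 za39) (ka xa27 ya58 za16) (ka xa18 ya41 za15) (ka xa18 ya41 za16) (ka xa18 ya41 za17) (ka xa18 ya41 za18) (ka xa18 ya39 za8) (ka xa18 ya41 za19) (ka xa18 ya41 za11) (ka xa18 ya41 za10) (ka xa10 ya1 za45) (ka xa26 ya32 za61) (ka xa27 ya58 za27) (ka xa18 ya41 za9) (ka xa16 ya40 za0) (ka xa16 ya40 za2) (ka xa18 ya41 za20) (ka xa10 ya1 za48) (ka xa16 ya32 za55) (ka xa18 ya41 za27) (ka xa18 ya41 za28) (ka xa26 ya21 za40) (ka xa18 ya41 za24) (ka xa18 ya41 za25) (ka xa18 ya41 za31) (ka xa20 ya10 za60) (ka xa18 ya41 za29) (ka xa10 ya1 za57)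 (ka xa26 ya18 za21) (ka xa24 ya54 za40) (ka xa18 ya41 za33)) (@D3.rec (fun _ => Pt) (ka xa20 ya36 za11) (ka xa27 ya58 za46) (ka xa18 ya49 za41) (ka xa24 ya54 za27) (ka xa18 ya49 za40) (ka xa26 ya32 za22) (ka xa19 ya1 za27) (ka xa13 ya49 za32) (ka xa23 ya32 za3) (ka xa17 ya2 za58) (ka xa10 ya10 za9) (ka xa27 ya40 za16) (ka xa19 ya0 za0) (ka xa27 ya58 za56) (ka xa18 ya10 za37) (ka xa18 ya10 za36) (ka xa10 ya2 za6) (ka xa27 ya58 za60) (ka xa19 ya11 za48) (ka xa18 ya53 za3) (ka xa18 ya53 za4) (ka xa18 ya47 za56) (ka xa18 ya53 za6) (ka xa18 ya53 za7) (ka xa18 ya38 za38) (ka xa18 ya10 za34) (ka xa18 ya10 za40) (ka xa18 ya10 za31) (ka xa18 ya10 za32) (ka xa10 ya2 za15) (ka xa19 ya57 za27) (ka xa19 ya57 za26) (ka xa18 ya10 za45) (ka xa18 ya12 za47) (ka xa27 ya59 za15) (ka xa10 ya40 za45) (ka xa10 ya2 za21) (ka xa12 ya2 za60) (ka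 xa10 ya39 za26) (ka xa27 ya49 za47) (ka xa18 ya41 za49) (ka xa18 ya32 za7) (ka xa18 ya41 za51) (ka xa18 ya32 za10) (ka xa20 ya0 za11) (ka xa12 ya46 za9) (ka xa18 ya41 za43) (ka xa10 ya3 za45) (ka xa10 ya2 za31) (ka xa10 ya2 za32) (ka xa10 ya2 za33) (ka xa10 ya2 za34) (ka xa16 ya7 za57) (ka xa27 ya59 za22) (ka xa27 ya59 za24) (ka xa27 ya59 za23) (ka xa16 ya7 za61) (ka xa21 ya7 za49) (ka xa27 ya59 za31) (ka xa18 ya48 za15) (ka xa18 ya11 za5) (ka xa10 ya2 za36)) (@D3.rec (fun _ => Pt) (ka xa10 ya41 za5) (ka xa14 ya13 za34) (ka xa27 ya38 za36) (ka xa18 ya23 za27) (ka xa12 ya49 za22) (ka xa11 ya57 za52) (ka xa12 ya31 za9) (ka xa11 ya57 za46) (ka xa11 ya57 za47) (ka xa11 ya57 za50) (ka xa11 ya46 za46) (ka xa11 ya57 za54) (ka xa23 ya57 za36) (ka xa18 ya42 za4) (ka xa17 ya25 za27) (ka xa17 ya22 za27) (ka xa17 ya25 za55) (ka xa17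 ya25 za56) (ka xa26 ya57 za59) (ka xa26 ya57 za60) (ka xa18 ya54 za35) (ka xa21 ya38 za42) (ka xa11 ya58 za37) (ka xa24 ya7 za4) (ka xa26 ya57 za61) (ka xa24 ya7 za5) (ka xa16 ya55 za52) (ka xa26 ya58 za0) (ka xa25 ya44 za53) (ka xa26 ya55 za12) (ka xa20 ya19 za29) (ka xa11 ya35 za36) (ka xa10 ya3 za3) (ka xa25 ya18 za49) (ka xa27 ya59 za56) (ka xa18 ya57 za39) (ka xa18 ya39 za43) (ka xa15 ya16 za33) (ka xa15 ya16 za34) (ka xa10 ya30 za11) (ka xa10 ya30 za16) (ka xa10 ya3 za8) (ka xa22 ya29 za10) (ka xa18 ya38 za40) (ka xa13 ya11 za15) (ka xa10 ya13 za0) (ka xa10 ya3 za13) (ka xa16 ya20 za53) (ka xa16 ya20 za57) (ka xa10 ya3 za15) (ka xa13 ya29 za21) (ka xa10 ya11 za15) (ka xa10 ya3 za21) (ka xa10 ya3 za22) (ka xa18 ya51 za54) (ka xa28 ya0 za3) (ka xa27 ya58 za40) (ka xa24 ya9 za44) (ka xa20 ya8 za14) (ka xa16 ya19 za39)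 (ka xa19 ya0 za57) (ka xa16 ya19 za37)) (@D3.rec (fun _ => Pt) (ka xa28 ya0 za13) (ka xa19 ya0 za59) (ka xa19 ya0 za60) (ka xa19 ya0 za61) (ka xa19 ya1 za0) (ka xa19 ya1 za1) (ka xa18 ya59 za37) (ka xa19 ya1 za3) (ka xa18 ya53 za48) (ka xa19 ya1 za4) (ka xa19 ya1 za5) (ka xa16 ya37 za1) (ka xa12 ya54 za16) (ka xa12 ya54 za12) (ka xa19 ya1 za11) (ka xa18 ya32 za13) (ka xa18 ya42 za56) (ka xa18 ya39 za13) (ka xa18 ya39 za12) (ka xa20 ya8 za23) (ka xa17 ya49 za15) (ka xa27 ya37 za46) (ka xa10 ya35 za22) (ka xa10 ya20 za39) (ka xa10 ya3 za48) (ka xa10 ya32 za12) (ka xa19 ya31 za31) (ka xa18 ya54 za11) (ka xa12 ya54 za18) (ka xa12 ya54 za11) (ka xa11 ya58 za3) (ka xa11 ya35 za40) (ka xa17 ya6 za21) (ka xa22 ya3 za12) (ka xa18 ya57 za33) (ka xa18 ya11 za2) (ka xa17 ya6 za43) (ka xa18 ya42 za14) (ka xa12 ya34 za40) (ka xa11 ya59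 za5) (ka xa12 ya32 za28) (ka xa12 ya53 za59) (ka xa18 ya19 za5) (ka xa18 ya19 za6) (ka xa18 ya19 za3) (ka xa18 ya19 za4) (ka xa15 ya10 za17) (ka xa26 ya26 za28) (ka xa26 ya26 za29) (ka xa23 ya13 za55) (ka xa23 ya50 za25) (ka xa28 ya0 za30) (ka xa18 ya17 za57) (ka xa18 ya18 za61) (ka xa18 ya19 za0) (ka xa18 ya19 za1) (ka xa26 ya9 za22) (ka xa18 ya18 za6) (ka xa18 ya18 za57) (ka xa18 ya18 za58) (ka xa28 ya0 za37) (ka xa18 ya18 za13)) (@D3.rec (fun _ => Pt) (ka xa26 ya6 za56) (ka xa18 ya18 za20) (ka xa18 ya42 za29) (ka xa10 ya4 za17) (ka xa14 ya1 za7) (ka xa14 ya0 za52) (ka xa23 ya14 za11) (ka xa15 ya26 za15) (ka xa18 ya42 za22) (ka xa26 ya57 za57) (ka xa23 ya58 za8) (ka xa21 ya38 za29) (ka xa21 ya38 za43) (ka xa17 ya10 za9) (ka xa21 ya4 za1) (ka xa22 ya6 za53) (ka xa17 ya9 za26) (ka xa10 ya4 za32) (ka xa15 ya26 za59) (ka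 xa14 ya35 za4) (ka xa14 ya20 za10) (ka xa25 ya56 za20) (ka xa18 ya56 za60) (ka xa17 ya15 za55) (ka xa18 ya15 za60) (ka xa14 ya2 za41) (ka xa11 ya19 za13) (ka xa18 ya21 za3) (ka xa18 ya43 za19) (ka xa12 ya56 za20) (ka xa17 ya13 za7) (ka xa27 ya42 za16) (ka xa20 ya28 za4) (ka xa18 ya43 za25) (ka xa12 ya15 za23) (ka xa11 ya8 za29) (ka xa11 ya8 za31) (ka xa11 ya8 za32) (ka xa20 ya22 za59) (ka xa18 ya42 za58) (ka xa18 ya42 za59) (ka xa11 ya30 za53) (ka xa10 ya5 za7) (ka xa10 ya5 za8) (ka xa15 ya10 za2) (ka xa15 ya10 za3) (ka xa11 ya57 za40) (ka xa11 ya57 za41) (ka xa18 ya43 za6) (ka xa18 ya43 za5) (ka xa15 ya13 za39) (ka xa18 ya43 za13) (ka xa28 ya0 za49) (ka xa28 ya0 za50) (ka xa28 ya0 za51) (ka xa24 ya31 za11) (ka xa12 ya24 za3) (ka xa18 ya43 za7) (ka xa11 ya35 za10) (ka xa10 ya5 za52) (ka xa10 ya5 za16) (ka xa12 ya44 za22))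 (@D3.rec (fun _ => Pt) (ka xa11 ya31 za19) (ka xa21 ya41 za56) (ka xa10 ya5 za37) (ka xa10 ya5 za27) (ka xa10 ya5 za29) (ka xa16 ya10 za31) (ka xa12 ya37 za56) (ka xa17 ya34 za48) (ka xa28 ya0 za59) (ka xa21 ya58 za0) (ka xa20 ya2 za0) (ka xa12 ya32 za22) (ka xa20 ya33 za5) (ka xa10 ya5 za48) (ka xa13 ya2 za31) (ka xa18 ya25 za1) (ka xa17 ya3 za15) (ka xa10 ya5 za35) (ka xa21 ya45 za60) (ka xa24 ya19 za59) (ka xa18 ya37 za10) (ka xa18 ya38 za36) (ka xa21 ya31 za38) (ka xa21 ya20 za52) (ka xa10 ya5 za50) (ka xa18 ya43 za16) (ka xa11 ya26 za59) (ka xa11 ya27 za0) (ka xa17 ya2 za54) (ka xa17 ya2 za55) (ka xa17 ya3 za29) (ka xa12 ya31 za37) (ka xa22 ya11 za33) (ka xa22 ya11 za9) (ka xa20 ya2 za2) (ka xa13 ya2 za17) (ka xa21 ya20 za17) (ka xa18 ya43 za20) (ka xa15 ya27 za11) (ka xa10 ya6 za7) (ka xa10 ya6 za8) (ka xa10 ya6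 za11) (ka xa10 ya6 za20) (ka xa10 ya6 za21) (ka xa10 ya6 za23) (ka xa12 ya42 za42) (ka xa19 ya27 za54) (ka xa22 ya37 za4) (ka xa10 ya6 za29) (ka xa10 ya6 za30) (ka xa10 ya6 za32) (ka xa10 ya6 za41) (ka xa10 ya6 za3) (ka xa21 ya45 za47) (ka xa16 ya59 za60) (ka xa16 ya59 za61) (ka xa12 ya32 za1) (ka xa18 ya43 za37) (ka xa23 ya38 za9) (ka xa20 ya23 za18) (ka xa20 ya23 za17) (ka xa21 ya45 za48)) (@D3.rec (fun _ => Pt) (ka xa21 ya45 za49) (ka xa18 ya24 za15) (ka xa28 ya1 za8) (ka xa25 ya39 za25) (ka xa23 ya47 za55) (ka xa22 ya3 za20) (ka xa18 ya43 za40) (ka xa18 ya43 za41) (ka xa18 ya43 za42) (ka xa25 ya23 za50) (ka xa20 ya1 za8) (ka xa19 ya58 za41) (ka xa17 ya3 za27) (ka xa17 ya3 za28) (ka xa14 ya33 za10) (ka xa15 ya27 za5) (ka xa23 ya38 za8) (ka xa20 ya23 za14) (ka xa12 ya17 za48) (ka xa21 ya30 za24) (ka xa21 ya30 za25) (ka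 xa11 ya35 za29) (ka xa26 ya10 za40) (ka xa21 ya51 za33) (ka xa26 ya59 za7) (ka xa27 ya31 za39) (ka xa19 ya15 za2) (ka xa11 ya19 za32) (ka xa18 ya37 za58) (ka xa12 ya27 za57) (ka xa18 ya37 za56) (ka xa12 ya28 za11) (ka xa18 ya29 za50) (ka xa20 ya15 za55) (ka xa21 ya30 za27) (ka xa27 ya38 za55) (ka xa18 ya25 za41) (ka xa28 ya1 za9) (ka xa28 ya1 za10) (ka xa12 ya37 za27) (ka xa28 ya1 za11) (ka xa18 ya25 za36) (ka xa20 ya51 za55) (ka xa25 ya23 za48) (ka xa21 ya30 za16) (ka xa16 ya59 za44) (ka xa11 ya31 za22) (ka xa17 ya56 za37) (ka xa21 ya35 za55) (ka xa19 ya58 za38) (ka xa22 ya21 za28) (ka xa20 ya26 za28) (ka xa21 ya3 za17) (ka xa16 ya49 za3) (ka xa21 ya3 za8) (ka xa27 ya42 za17) (ka xa27 ya3 za29) (ka xa18 ya43 za56) (ka xa15 ya27 za8) (ka xa18 ya25 za61) (ka xa17 ya56 za18) (ka xa18 ya25 za59)) (@D3.rec (fun _ => Pt) (ka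 xa18 ya2 za18) (ka xa10 ya49 za7) (ka xa10 ya6 za60) (ka xa11 ya22 za10) (ka xa11 ya22 za7) (ka xa17 ya12 za44) (ka xa21 ya6 za54) (ka xa18 ya37 za45) (ka xa21 ya47 za46) (ka xa11 ya17 za8) (ka xa11 ya17 za11) (ka xa18 ya37 za52) (ka xa18 ya37 za55) (ka xa18 ya35 za46) (ka xa10 ya7 za4) (ka xa12 ya31 za36) (ka xa28 ya1 za42) (ka xa14 ya23 za53) (ka xa12 ya13 za33) (ka xa18 ya37 za49) (ka xa21 ya6 za51) (ka xa12 ya30 za56) (ka xa12 ya31 za39) (ka xa21 ya3 za15) (ka xa17 ya23 za16) (ka xa14 ya14 za22) (ka xa20 ya59 za33) (ka xa18 ya9 za53) (ka xa25 ya0 za15) (ka xa25 ya0 za14) (ka xa10 ya7 za27) (ka xa21 ya26 za6) (ka xa21 ya26 za8) (ka xa13 ya26 za27) (ka xa16 ya20 za7) (ka xa18 ya9 za60) (ka xa18 ya5 za36) (ka xa25 ya0 za11) (ka xa18 ya10 za0) (ka xa18 ya10 za2) (ka xa18 ya9 za58) (ka xa18 ya9 za57) (ka xa10 ya7 za33)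 (ka xa18 ya29 za23) (ka xa14 ya9 za25) (ka xa23 ya43 za16) (ka xa23 ya43 za9) (ka xa10 ya7 za35) (ka xa25 ya0 za1) (ka xa28 ya1 za53) (ka xa18 ya28 za17) (ka xa18 ya5 za34) (ka xa18 ya40 za32) (ka xa18 ya40 za31) (ka xa10 ya7 za38) (ka xa18 ya30 za10) (ka xa28 ya2 za0) (ka xa18 ya28 za15) (ka xa18 ya53 za23) (ka xa14 ya35 za12) (ka xa18 ya28 za8) (ka xa14 ya35 za11)) (@D3.rec (fun _ => Pt) (ka xa23 ya33 za55) (ka xa18 ya28 za7) (ka xa10 ya7 za44) (ka xa25 ya0 za21) (ka xa25 ya0 za20) (ka xa28 ya2 za6) (ka xa24 ya59 za14) (ka xa24 ya59 za18) (ka xa10 ya7 za61) (ka xa28 ya2 za16) (ka xa28 ya2 za18) (ka xa24 ya58 za54) (ka xa18 ya6 za34) (ka xa18 ya6 za36) (ka xa28 ya2 za24) (ka xa28 ya2 za25) (ka xa25 ya0 za17) (ka xa18 ya10 za1) (ka xa27 ya33 za41) (ka xa18 ya5 za16) (ka xa18 ya12 za28) (ka xa25 ya19 za39) (ka xa18 ya33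 za40) (ka xa18 ya28 za39) (ka xa10 ya8 za0) (ka xa25 ya0 za26) (ka xa26 ya12 za10) (ka xa18 ya5 za23) (ka xa28 ya2 za30) (ka xa24 ya29 za31) (ka xa17 ya38 za6) (ka xa24 ya58 za59) (ka xa25 ya0 za25) (ka xa27 ya29 za4) (ka xa24 ya59 za8) (ka xa18 ya4 za55) (ka xa17 ya41 za21) (ka xa27 ya38 za32) (ka xa25 ya0 za30) (ka xa18 ya4 za40) (ka xa17 ya44 za21) (ka xa18 ya4 za50) (ka xa18 ya17 za61) (ka xa18 ya18 za0) (ka xa25 ya38 za26) (ka xa18 ya18 za14) (ka xa16 ya50 za49) (ka xa18 ya18 za16) (ka xa18 ya18 za15) (ka xa10 ya8 za13) (ka xa10 ya21 za32) (ka xa10 ya21 za31) (ka xa10 ya8 za14) (ka xa28 ya2 za40) (ka xa10 ya21 za28) (ka xa10 ya21 za1) (ka xa10 ya21 za29) (ka xa10 ya21 za30) (ka xa25 ya46 za46) (ka xa17 ya45 za36) (ka xa15 ya52 za29) (ka xa18 ya13 za40)) (@D3.rec (fun _ => Pt) (ka xa18 ya54 za23) (ka xa18 ya46 za41)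 (ka xa25 ya0 za48) (ka xa25 ya3 za16) (ka xa18 ya49 za56) (ka xa10 ya8 za23) (ka xa10 ya8 za24) (ka xa18 ya27 za1) (ka xa18 ya26 za60) (ka xa28 ya2 za53) (ka xa28 ya2 za54) (ka xa16 ya18 za16) (ka xa28 ya2 za55) (ka xa23 ya51 za30) (ka xa23 ya42 za49) (ka xa18 ya26 za57) (ka xa28 ya3 za5) (ka xa18 ya26 za50) (ka xa24 ya59 za25) (ka xa24 ya59 za28) (ka xa25 ya0 za36) (ka xa25 ya0 za37) (ka xa25 ya3 za20) (ka xa25 ya0 za39) (ka xa26 ya29 za51) (ka xa25 ya0 za41) (ka xa25 ya0 za42) (ka xa25 ya0 za43) (ka xa25 ya0 za44) (ka xa25 ya1 za7) (ka xa18 ya14 za11) (ka xa18 ya14 za12) (ka xa27 ya31 za9) (ka xa25 ya0 za45) (ka xa24 ya56 za20) (ka xa18 ya14 za60) (ka xa10 ya13 za37) (ka xa10 ya8 za42) (ka xa10 ya8 za43) (ka xa18 ya27 za23) (ka xa16 ya17 za46) (ka xa22 ya55 za47) (ka xa22 ya55 za49) (ka xa16 ya18 za39) (ka xa28 ya3 za29)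 (ka xa27 ya39 za38) (ka xa16 ya17 za48) (ka xa16 ya17 za47) (ka xa25 ya3 za25) (ka xa28 ya3 za32) (ka xa17 ya40 za30) (ka xa25 ya1 za13) (ka xa28 ya2 za38) (ka xa25 ya0 za57) (ka xa25 ya0 za34) (ka xa25 ya0 za35) (ka xa25 ya0 za61) (ka xa25 ya0 za55) (ka xa25 ya0 za56) (ka xa25 ya3 za32) (ka xa25 ya3 za33) (ka xa18 ya5 za55)) (@D3.rec (fun _ => Pt) (ka xa25 ya0 za51) (ka xa25 ya0 za52) (ka xa25 ya0 za53) (ka xa19 ya1 za43) (ka xa22 ya14 za53) (ka xa21 ya25 za27) (ka xa23 ya43 za31) (ka xa22 ya14 za54) (ka xa25 ya0 za50) (ka xa16 ya23 za19) (ka xa10 ya8 za60) (ka xa23 ya2 za8) (ka xa23 ya2 za12) (ka xa14 ya9 za42) (ka xa10 ya9 za18) (ka xa26 ya32 za59) (ka xa10 ya9 za6) (ka xa10 ya9 za7) (ka xa26 ya32 za60) (ka xa22 ya50 za29) (ka xa10 ya12 za37) (ka xa10 ya22 za40) (ka xa10 ya9 za10) (ka xa18 ya26 za43) (ka xa23 ya44 za57)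 (ka xa28 ya2 za7) (ka xa10 ya9 za11) (ka xa18 ya14 za10) (ka xa28 ya2 za50) (ka xa28 ya3 za26) (ka xa10 ya9 za12) (ka xa25 ya0 za54) (ka xa10 ya9 za9) (ka xa25 ya46 za52) (ka xa28 ya3 za57) (ka xa22 ya9 za2) (ka xa12 ya38 za31) (ka xa28 ya3 za51) (ka xa23 ya44 za58) (ka xa28 ya3 za55) (ka xa18 ya15 za24) (ka xa24 ya44 za42) (ka xa28 ya3 za31) (ka xa10 ya9 za16) (ka xa10 ya9 za17) (ka xa25 ya2 za57) (ka xa23 ya43 za23) (ka xa25 ya2 za54) (ka xa25 ya2 za55) (ka xa23 ya43 za12) (ka xa18 ya25 za32) (ka xa24 ya41 za50) (ka xa21 ya25 za30) (ka xa23 ya44 za34) (ka xa18 ya8 za7) (ka xa18 ya8 za6) (ka xa25 ya3 za17) (ka xa10 ya9 za19) (ka xa16 ya33 za11) (ka xa23 ya43 za28) (ka xa23 ya43 za26) (ka xa10 ya9 za21)) (@D3.rec (fun _ => Pt) (ka xa28 ya4 za10) (ka xa23 ya43 za58) (ka xa25 ya1 za23) (ka xa25 ya1 za24) (ka xa25 ya1 za25)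 (ka xa24 ya31 za22) (ka xa21 ya26 za1) (ka xa13 ya51 za16) (ka xa21 ya25 za25) (ka xa25 ya1 za26) (ka xa18 ya26 za55) (ka xa27 ya46 za40) (ka xa18 ya8 za43) (ka xa15 ya19 za49) (ka xa28 ya3 za43) (ka xa18 ya8 za40) (ka xa18 ya8 za41) (ka xa18 ya8 za44) (ka xa16 ya18 za32) (ka xa25 ya1 za27) (ka xa25 ya25 za41) (ka xa14 ya59 za11) (ka xa16 ya22 za56) (ka xa18 ya8 za52) (ka xa27 ya33 za45) (ka xa17 ya50 za36) (ka xa18 ya8 za49) (ka xa18 ya8 za50) (ka xa18 ya8 za51) (ka xa15 ya0 za42) (ka xa15 ya0 za41) (ka xa10 ya9 za37) (ka xa28 ya4 za33) (ka xa24 ya53 za56) (ka xa18 ya11 za19) (ka xa18 ya11 za20) (ka xa18 ya11 za22) (ka xa18 ya11 za21) (ka xa10 ya9 za40) (ka xa28 ya4 za44) (ka xa26 ya4 za23) (ka xa10 ya10 za8) (ka xa10 ya10 za10) (ka xa10 ya10 za11) (ka xa10 ya10 za12) (ka xa16 ya2 za6) (ka xa28 ya4 za56) (ka xa24 ya16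 za52) (ka xa18 ya11 za29) (ka xa18 ya11 za28) (ka xa10 ya9 za48) (ka xa28 ya4 za58) (ka xa22 ya49 za50) (ka xa18 ya11 za40) (ka xa18 ya11 za41) (ka xa18 ya11 za42) (ka xa18 ya11 za43) (ka xa18 ya11 za44) (ka xa18 ya10 za14) (ka xa18 ya11 za45) (ka xa28 ya5 za10) (ka xa18 ya11 za36)) (@D3.rec (fun _ => Pt) (ka xa18 ya11 za35) (ka xa10 ya9 za56) (ka xa28 ya5 za15) (ka xa20 ya21 za21) (ka xa18 ya11 za32) (ka xa18 ya11 za33) (ka xa18 ya11 za34) (ka xa18 ya11 za48) (ka xa18 ya11 za47) (ka xa10 ya9 za59) (ka xa28 ya5 za26) (ka xa18 ya11 za61) (ka xa18 ya11 za55) (ka xa18 ya11 za54) (ka xa10 ya9 za61) (ka xa27 ya34 za11) (ka xa18 ya11 za53) (ka xa28 ya5 za36) (ka xa10 ya15 za10) (ka xa18 ya12 za6) (ka xa16 ya21 za20) (ka xa18 ya12 za3) (ka xa10 ya10 za4) (ka xa18 ya12 za10) (ka xa18 ya12 za9) (ka xa27 ya2 za5) (ka xa18 ya34 za35)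 (ka xa28 ya5 za45) (ka xa10 ya34 za53) (ka xa24 ya22 za58) (ka xa10 ya33 za36) (ka xa28 ya4 za49) (ka xa28 ya4 za50) (ka xa28 ya4 za51) (ka xa28 ya4 za52) (ka xa28 ya6 za3) (ka xa18 ya35 za28) (ka xa23 ya50 za55) (ka xa18 ya35 za27) (ka xa27 ya56 za33) (ka xa27 ya34 za14) (ka xa27 ya34 za17) (ka xa18 ya9 za36) (ka xa19 ya6 za23) (ka xa28 ya6 za16) (ka xa26 ya4 za31) (ka xa18 ya4 za25) (ka xa28 ya6 za19) (ka xa26 ya4 za27) (ka xa26 ya4 za28) (ka xa18 ya4 za45) (ka xa18 ya4 za44) (ka xa10 ya10 za18) (ka xa28 ya6 za26) (ka xa18 ya4 za37) (ka xa18 ya4 za38) (ka xa18 ya4 za39) (ka xa18 ya4 za15) (ka xa18 ya4 za42) (ka xa18 ya5 za15) (ka xa18 ya4 za43) (ka xa18 ya10 za19)) (@D3.rec (fun _ => Pt) (ka xa12 ya2 za25) (ka xa18 ya10 za17) (ka xa18 ya10 za18) (ka xa10 ya10 za25) (ka xa28 ya6 za33) (ka xa28 ya6 za34) (ka xa28 ya6 za35)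 (ka xa18 ya20 za41) (ka xa17 ya56 za42) (ka xa18 ya8 za61) (ka xa18 ya20 za43) (ka xa18 ya10 za7) (ka xa18 ya10 za8) (ka xa18 ya22 za15) (ka xa18 ya10 za4) (ka xa18 ya10 za5) (ka xa13 ya0 za32) (ka xa18 ya12 za37) (ka xa18 ya12 za36) (ka xa28 ya6 za52) (ka xa18 ya12 za45) (ka xa18 ya12 za46) (ka xa18 ya10 za15) (ka xa18 ya12 za48) (ka xa27 ya22 za46) (ka xa19 ya6 za17) (ka xa18 ya12 za39) (ka xa18 ya12 za40) (ka xa10 ya11 za26) (ka xa18 ya12 za41) (ka xa10 ya11 za25) (ka xa10 ya10 za42) (ka xa10 ya10 za43) (ka xa12 ya2 za53) (ka xa12 ya4 za16) (ka xa18 ya12 za53) (ka xa25 ya18 za7) (ka xa27 ya58 za41) (ka xa18 ya9 za52) (ka xa28 ya7 za1) (ka xa18 ya9 za55) (ka xa28 ya7 za4) (ka xa18 ya11 za11) (ka xa10 ya10 za49) (ka xa18 ya11 za9) (ka xa10 ya10 za50) (ka xa28 ya7 za6) (ka xa10 ya10 za52) (ka xa18 ya33 za42) (ka xa18 ya9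 za7) (ka xa18 ya9 za3) (ka xa27 ya50 za60) (ka xa18 ya8 za57) (ka xa18 ya8 za58) (ka xa18 ya8 za59) (ka xa18 ya8 za60) (ka xa18 ya9 za1) (ka xa18 ya9 za13) (ka xa18 ya9 za12) (ka xa26 ya19 za45) (ka xa18 ya9 za19) (ka xa18 ya9 za15)) (@D3.rec (fun _ => Pt) (ka xa18 ya9 za16) (ka xa18 ya53 za52) (ka xa10 ya16 za52) (ka xa18 ya9 za27) (ka xa21 ya12 za36) (ka xa18 ya9 za24) (ka xa10 ya11 za3) (ka xa10 ya11 za4) (ka xa18 ya9 za31) (ka xa18 ya9 za30) (ka xa28 ya7 za30) (ka xa21 ya12 za40) (ka xa26 ya19 za29) (ka xa28 ya5 za40) (ka xa27 ya33 za56) (ka xa23 ya51 za39) (ka xa27 ya33 za57) (ka xa27 ya33 za58) (ka xa21 ya12 za41) (ka xa27 ya33 za60) (ka xa27 ya33 za61) (ka xa27 ya34 za0) (ka xa27 ya34 za1) (ka xa18 ya35 za21) (ka xa19 ya22 za37) (ka xa16 ya22 za7) (ka xa19 ya20 za22) (ka xa10 ya11 za56) (ka xa19 ya54 za26) (ka xa19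 ya20 za21) (ka xa20 ya5 za19) (ka xa20 ya5 za18) (ka xa17 ya34 za33) (ka xa10 ya59 za42) (ka xa17 ya34 za32) (ka xa18 ya10 za33) (ka xa18 ya10 za51) (ka xa18 ya10 za53) (ka xa18 ya10 za23) (ka xa10 ya11 za18) (ka xa18 ya27 za22) (ka xa22 ya28 za38) (ka xa18 ya32 za48) (ka xa18 ya10 za44) (ka xa18 ya10 za16) (ka xa13 ya30 za18) (ka xa18 ya57 za4) (ka xa26 ya52 za11) (ka xa27 ya38 za29) (ka xa27 ya37 za45) (ka xa19 ya10 za60) (ka xa18 ya10 za21) (ka xa10 ya11 za28) (ka xa27 ya35 za23) (ka xa18 ya5 za38) (ka xa11 ya7 za60) (ka xa11 ya7 za56) (ka xa18 ya14 za19) (ka xa18 ya14 za18) (ka xa10 ya11 za32) (ka xa28 ya8 za7) (ka xa28 ya8 za8)) (@D3.rec (fun _ => Pt) (ka xa10 ya11 za45) (ka xa10 ya11 za46) (ka xa10 ya11 za47) (ka xa10 ya11 za48) (ka xa10 ya11 za49) (ka xa10 ya11 za51) (ka xa10 ya11 za52) (ka xa10 ya11 za54) (ka xa10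 ya33 za4) (ka xa10 ya33 za3) (ka xa10 ya11 za38) (ka xa18 ya14 za32) (ka xa28 ya8 za23) (ka xa10 ya12 za51) (ka xa18 ya14 za35) (ka xa28 ya8 za28) (ka xa10 ya11 za43) (ka xa10 ya11 za44) (ka xa17 ya11 za54) (ka xa28 ya8 za29) (ka xa27 ya50 za16) (ka xa28 ya8 za30) (ka xa28 ya8 za31) (ka xa28 ya8 za32) (ka xa24 ya13 za14) (ka xa28 ya8 za12) (ka xa27 ya52 za61) (ka xa27 ya52 za60) (ka xa28 ya8 za49) (ka xa28 ya8 za13) (ka xa28 ya8 za51) (ka xa28 ya8 za14) (ka xa28 ya7 za45) (ka xa24 ya57 za18) (ka xa20 ya12 za1) (ka xa18 ya31 za26) (ka xa25 ya0 za31) (ka xa19 ya6 za27) (ka xa28 ya8 za60) (ka xa28 ya8 za16) (ka xa28 ya8 za17) (ka xa18 ya5 za51) (ka xa16 ya22 za5) (ka xa27 ya52 za1) (ka xa28 ya8 za18) (ka xa20 ya21 za31) (ka xa24 ya52 za20) (ka xa18 ya15 za5) (ka xa18 ya15 za9) (ka xa18 ya15 za10) (ka xa10 ya14 za40) (ka xa17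 ya46 za37) (ka xa18 ya15 za7) (ka xa10 ya12 za1) (ka xa10 ya12 za2) (ka xa10 ya12 za3) (ka xa10 ya12 za4) (ka xa27 ya55 za27) (ka xa28 ya9 za12) (ka xa10 ya12 za44) (ka xa18 ya56 za48) (ka xa28 ya9 za13)) (@D3.rec (fun _ => Pt) (ka xa22 ya5 za57) (ka xa22 ya5 za59) (ka xa16 ya7 za47) (ka xa27 ya35 za52) (ka xa21 ya54 za35) (ka xa17 ya6 za42) (ka xa17 ya30 za27) (ka xa16 ya20 za5) (ka xa18 ya6 za19) (ka xa17 ya30 za7) (ka xa17 ya8 za40) (ka xa10 ya13 za49) (ka xa10 ya12 za17) (ka xa28 ya9 za21) (ka xa17 ya50 za20) (ka xa18 ya13 za7) (ka xa18 ya54 za40) (ka xa21 ya13 za19) (ka xa18 ya13 za9) (ka xa10 ya12 za24) (ka xa18 ya45 za36) (ka xa18 ya33 za23) (ka xa27 ya33 za59) (ka xa27 ya34 za12) (ka xa27 ya34 za13) (ka xa28 ya7 za40) (ka xa27 ya34 za15) (ka xa18 ya31 za38) (ka xa18 ya31 za36) (ka xa18 ya14 za44) (ka xa20 ya21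 za35) (ka xa27 ya34 za19) (ka xa27 ya34 za20) (ka xa27 ya34 za57) (ka xa27 ya34 za22) (ka xa21 ya47 za24) (ka xa18 ya13 za48) (ka xa10 ya12 za43) (ka xa18 ya57 za11) (ka xa26 ya39 za35) (ka xa28 ya3 za61) (ka xa10 ya14 za1) (ka xa10 ya12 za47) (ka xa28 ya9 za37) (ka xa18 ya7 za49) (ka xa10 ya13 za27) (ka xa18 ya26 za13) (ka xa28 ya8 za25) (ka xa18 ya15 za41) (ka xa18 ya59 za45) (ka xa18 ya15 za45) (ka xa18 ya15 za46) (ka xa14 ya11 za58) (ka xa10 ya14 za36) (ka xa10 ya22 za42) (ka xa18 ya16 za13) (ka xa16 ya23 za18) (ka xa18 ya15 za42) (ka xa12 ya2 za43) (ka xa10 ya13 za1) (ka xa10 ya13 za3) (ka xa10 ya13 za4)) (@D3.rec (fun _ => Pt) (ka xa27 ya59 za61) (ka xa28 ya0 za0) (ka xa24 ya28 za30) (ka xa14 ya58 za23) (ka xa28 ya9 za42) (ka xa24 ya28 za19) (ka xa17 ya20 za18) (ka xa28 ya8 za38) (ka xa22 ya29 za38) (ka xa28 ya9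 za43) (ka xa10 ya13 za22) (ka xa18 ya16 za21) (ka xa21 ya12 za48) (ka xa28 ya9 za44) (ka xa19 ya17 za40) (ka xa21 ya41 za4) (ka xa12 ya16 za19) (ka xa21 ya41 za3) (ka xa27 ya20 za16) (ka xa18 ya15 za37) (ka xa18 ya15 za39) (ka xa10 ya13 za36) (ka xa10 ya13 za12) (ka xa17 ya50 za25) (ka xa12 ya2 za33) (ka xa10 ya13 za21) (ka xa10 ya13 za23) (ka xa18 ya6 za23) (ka xa24 ya54 za6) (ka xa15 ya7 za40) (ka xa12 ya46 za22) (ka xa23 ya18 za13) (ka xa17 ya14 za34) (ka xa12 ya51 za1) (ka xa19 ya17 za37) (ka xa28 ya9 za59) (ka xa17 ya14 za38) (ka xa18 ya39 za28) (ka xa10 ya14 za18) (ka xa21 ya44 za15) (ka xa28 ya9 za38) (ka xa10 ya13 za40) (ka xa10 ya13 za41) (ka xa10 ya13 za44) (ka xa10 ya13 za45) (ka xa10 ya13 za48) (ka xa12 ya1 za18) (ka xa10 ya13 za35) (ka xa22 ya14 za55) (ka xa10 ya25 za55) (ka xa28 ya10 za1) (ka xa15 ya8 za60)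 (ka xa19 ya23 za9) (ka xa28 ya9 za56) (ka xa25 ya0 za32) (ka xa25 ya1 za6) (ka xa16 ya22 za60) (ka xa27 ya1 za21) (ka xa18 ya54 za26) (ka xa10 ya13 za39) (ka xa23 ya2 za6) (ka xa22 ya18 za24)) (@D3.rec (fun _ => Pt) (ka xa15 ya14 za49) (ka xa28 ya3 za30) (ka xa22 ya15 za51) (ka xa10 ya13 za57) (ka xa27 ya39 za35) (ka xa27 ya39 za34) (ka xa10 ya13 za58) (ka xa21 ya55 za4) (ka xa21 ya55 za5) (ka xa25 ya45 za15) (ka xa18 ya24 za20) (ka xa18 ya15 za32) (ka xa26 ya55 za18) (ka xa10 ya13 za60) (ka xa18 ya14 za13) (ka xa11 ya46 za3) (ka xa18 ya15 za40) (ka xa10 ya13 za54) (ka xa10 ya13 za55) (ka xa15 ya14 za50) (ka xa23 ya53 za55) (ka xa27 ya55 za31) (ka xa13 ya1 za2) (ka xa25 ya44 za56) (ka xa17 ya42 za41) (ka xa17 ya42 za38) (ka xa16 ya7 za55) (ka xa25 ya45 za38) (ka xa15 ya14 za51) (ka xa15 ya14 za52) (ka xa13 ya37 za16) (ka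 xa28 ya10 za7) (ka xa27 ya20 za29) (ka xa12 ya58 za55) (ka xa21 ya4 za37) (ka xa23 ya54 za4) (ka xa23 ya54 za5) (ka xa17 ya56 za41) (ka xa21 ya36 za46) (ka xa21 ya26 za27) (ka xa27 ya3 za45) (ka xa10 ya45 za50) (ka xa10 ya14 za12) (ka xa10 ya14 za13) (ka xa10 ya14 za4) (ka xa18 ya26 za7) (ka xa17 ya42 za28) (ka xa18 ya17 za21) (ka xa17 ya58 za1) (ka xa18 ya26 za19) (ka xa10 ya14 za7) (ka xa28 ya10 za16) (ka xa18 ya26 za11) (ka xa18 ya17 za27) (ka xa14 ya46 za46) (ka xa18 ya26 za12) (ka xa18 ya25 za30) (ka xa12 ya14 za13) (ka xa18 ya25 za28) (ka xa17 ya13 za26) (ka xa25 ya2 za38) (ka xa12 ya14 za1)) (@D3.rec (fun _ => Pt) (ka xa24 ya15 za56) (ka xa12 ya36 za2) (ka xa26 ya57 za50) (ka xa12 ya41 za3) (ka xa27 ya43 za4) (ka xa18 ya17 za17) (ka xa18 ya17 za18) (ka xa28 ya1 za2) (ka xa18 ya17 za13) (ka xa18 ya17 za14) (ka xa18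 ya17 za15) (ka xa18 ya17 za19) (ka xa14 ya19 za1) (ka xa21 ya16 za29) (ka xa21 ya18 za54) (ka xa20 ya40 za60) (ka xa21 ya16 za46) (ka xa17 ya58 za3) (ka xa18 ya17 za22) (ka xa12 ya2 za37) (ka xa18 ya17 za6) (ka xa12 ya42 za59) (ka xa17 ya53 za40) (ka xa11 ya31 za28) (ka xa21 ya21 za59) (ka xa18 ya17 za28) (ka xa18 ya17 za29) (ka xa18 ya17 za30) (ka xa12 ya2 za45) (ka xa14 ya15 za53) (ka xa18 ya17 za32) (ka xa16 ya20 za19) (ka xa28 ya8 za26) (ka xa27 ya35 za20) (ka xa27 ya35 za21) (ka xa27 ya35 za22) (ka xa18 ya24 za21) (ka xa18 ya58 za7) (ka xa18 ya20 za24) (ka xa18 ya45 za61) (ka xa18 ya21 za43) (ka xa16 ya21 za47) (ka xa16 ya21 za32) (ka xa10 ya14 za48) (ka xa22 ya50 za28) (ka xa10 ya14 za57) (ka xa27 ya32 za2) (ka xa27 ya32 za3) (ka xa27 ya51 za7) (ka xa24 ya57 za26) (ka xa28 ya10 za40) (ka xa28 ya10 za41) (ka xa18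 ya58 za44) (ka xa18 ya58 za45) (ka xa18 ya58 za46) (ka xa18 ya58 za47) (ka xa27 ya55 za48) (ka xa18 ya56 za38) (ka xa28 ya10 za52) (ka xa18 ya56 za37) (ka xa18 ya58 za50) (ka xa18 ya58 za51)) (@D3.rec (fun _ => Pt) (ka xa18 ya58 za52) (ka xa18 ya58 za53) (ka xa18 ya58 za54) (ka xa19 ya1 za48) (ka xa18 ya58 za56) (ka xa28 ya10 za61) (ka xa18 ya58 za58) (ka xa18 ya19 za28) (ka xa18 ya19 za37) (ka xa18 ya55 za6) (ka xa18 ya10 za6) (ka xa28 ya5 za37) (ka xa18 ya22 za18) (ka xa18 ya22 za17) (ka xa16 ya21 za21) (ka xa17 ya51 za24) (ka xa10 ya15 za13) (ka xa10 ya39 za23) (ka xa27 ya36 za34) (ka xa14 ya58 za34) (ka xa10 ya36 za26) (ka xa10 ya15 za17) (ka xa10 ya15 za18) (ka xa10 ya15 za19) (ka xa10 ya15 za20) (ka xa28 ya11 za10) (ka xa17 ya50 za54) (ka xa28 ya11 za11) (ka xa18 ya36 za37) (ka xa21 ya35 za29) (ka xa25 ya30 za48)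 (ka xa23 ya49 za6) (ka xa17 ya9 za21) (ka xa17 ya9 za22) (ka xa12 ya32 za21) (ka xa20 ya33 za34) (ka xa11 ya20 za23) (ka xa12 ya4 za22) (ka xa20 ya33 za46) (ka xa16 ya59 za56) (ka xa10 ya15 za31) (ka xa28 ya1 za14) (ka xa21 ya2 za35) (ka xa18 ya21 za36) (ka xa18 ya17 za40) (ka xa18 ya17 za41) (ka xa18 ya17 za44) (ka xa27 ya43 za31) (ka xa15 ya25 za50) (ka xa11 ya57 za30) (ka xa25 ya25 za18) (ka xa18 ya19 za27) (ka xa18 ya19 za29) (ka xa18 ya17 za53) (ka xa18 ya17 za52) (ka xa10 ya15 za41) (ka xa18 ya53 za49) (ka xa18 ya18 za2) (ka xa18 ya18 za1) (ka xa10 ya15 za44) (ka xa18 ya17 za58) (ka xa16 ya21 za58)) (@D3.rec (fun _ => Pt) (ka xa18 ya18 za9) (ka xa18 ya18 za8) (ka xa10 ya15 za49) (ka xa18 ya18 za24) (ka xa18 ya18 za25) (ka xa22 ya4 za27) (ka xa18 ya18 za21) (ka xa18 ya18 za22) (ka xa10 ya15 za53) (ka xa18 ya18 za28)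 (ka xa18 ya18 za27) (ka xa21 ya12 za58) (ka xa23 ya19 za35) (ka xa27 ya43 za29) (ka xa19 ya59 za7) (ka xa23 ya31 za16) (ka xa18 ya19 za17) (ka xa18 ya19 za18) (ka xa18 ya19 za19) (ka xa18 ya19 za20) (ka xa28 ya11 za52) (ka xa19 ya55 za18) (ka xa26 ya8 za35) (ka xa26 ya8 za36) (ka xa22 ya43 za41) (ka xa19 ya55 za14) (ka xa24 ya23 za47) (ka xa21 ya2 za25) (ka xa25 ya1 za28) (ka xa28 ya12 za4) (ka xa18 ya6 za14) (ka xa18 ya26 za53) (ka xa18 ya26 za52) (ka xa10 ya16 za4) (ka xa18 ya18 za51) (ka xa18 ya18 za52) (ka xa18 ya18 za53) (ka xa10 ya16 za7) (ka xa13 ya50 za56) (ka xa28 ya12 za10) (ka xa18 ya18 za48) (ka xa18 ya18 za49) (ka xa13 ya47 za33) (ka xa13 ya47 za34) (ka xa23 ya21 za31) (ka xa27 ya3 za35) (ka xa27 ya3 za33) (ka xa27 ya3 za34) (ka xa26 ya33 za6) (ka xa13 ya47 za35) (ka xa13 ya47 za36) (ka xa16 ya28 za6) (ka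 xa16 ya28 za7) (ka xa16 ya28 za2) (ka xa18 ya19 za14) (ka xa18 ya19 za13) (ka xa22 ya38 za43) (ka xa18 ya18 za34) (ka xa18 ya18 za35) (ka xa18 ya18 za36) (ka xa18 ya18 za37) (ka xa24 ya59 za52)) (@D3.rec (fun _ => Pt) (ka xa26 ya8 za38) (ka xa26 ya8 za39) (ka xa25 ya16 za15) (ka xa24 ya59 za53) (ka xa24 ya47 za30) (ka xa26 ya8 za40) (ka xa18 ya19 za30) (ka xa11 ya23 za7) (ka xa10 ya16 za25) (ka xa18 ya19 za44) (ka xa18 ya19 za40) (ka xa18 ya19 za39) (ka xa10 ya16 za27) (ka xa21 ya54 za41) (ka xa28 ya12 za41) (ka xa18 ya19 za33) (ka xa18 ya19 za34) (ka xa18 ya19 za35) (ka xa18 ya19 za36) (ka xa18 ya19 za38) (ka xa18 ya19 za47) (ka xa10 ya16 za32) (ka xa22 ya46 za33) (ka xa28 ya12 za47) (ka xa18 ya19 za53) (ka xa18 ya19 za54) (ka xa21 ya12 za35) (ka xa18 ya19 za50) (ka xa18 ya19 za51) (ka xa18 ya19 za57) (ka xa26 ya18 za30)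 (ka xa18 ya19 za55) (ka xa17 ya45 za42) (ka xa18 ya19 za61) (ka xa20 ya31 za55) (ka xa28 ya12 za60) (ka xa12 ya56 za31) (ka xa22 ya3 za47) (ka xa19 ya6 za54) (ka xa12 ya2 za22) (ka xa17 ya50 za50) (ka xa12 ya3 za0) (ka xa12 ya2 za55) (ka xa18 ya20 za46) (ka xa18 ya10 za3) (ka xa10 ya16 za55) (ka xa18 ya53 za55) (ka xa27 ya36 za26) (ka xa21 ya13 za21) (ka xa18 ya20 za40) (ka xa18 ya10 za13) (ka xa18 ya20 za42) (ka xa10 ya16 za60) (ka xa10 ya17 za3) (ka xa16 ya44 za40) (ka xa19 ya23 za45) (ka xa18 ya46 za26) (ka xa11 ya21 za3) (ka xa11 ya20 za61) (ka xa17 ya32 za20) (ka xa19 ya24 za14) (ka xa14 ya20 za39)) (@D3.rec (fun _ => Pt) (ka xa15 ya10 za18) (ka xa14 ya19 za36) (ka xa17 ya25 za28) (ka xa17 ya25 za29) (ka xa18 ya21 za13) (ka xa18 ya19 za8) (ka xa27 ya3 za37) (ka xa20 ya37 za48) (ka xa20 ya37 za49) (ka xa20 ya37 za50)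 (ka xa17 ya9 za49) (ka xa17 ya9 za50) (ka xa17 ya9 za46) (ka xa12 ya31 za13) (ka xa18 ya22 za37) (ka xa12 ya10 za43) (ka xa21 ya2 za46) (ka xa17 ya21 za7) (ka xa17 ya21 za5) (ka xa10 ya17 za30) (ka xa10 ya17 za31) (ka xa13 ya15 za47) (ka xa18 ya23 za8) (ka xa19 ya1 za30) (ka xa27 ya58 za55) (ka xa13 ya59 za34) (ka xa16 ya3 za29) (ka xa19 ya1 za29) (ka xa16 ya3 za20) (ka xa18 ya23 za2) (ka xa10 ya17 za33) (ka xa28 ya13 za17) (ka xa25 ya44 za14) (ka xa25 ya44 za15) (ka xa25 ya44 za16) (ka xa23 ya33 za26) (ka xa23 ya18 za7) (ka xa25 ya14 za33) (ka xa25 ya16 za26) (ka xa19 ya59 za46) (ka xa13 ya48 za56) (ka xa25 ya14 za34) (ka xa23 ya3 za10) (ka xa24 ya58 za57) (ka xa23 ya20 za28) (ka xa10 ya17 za44) (ka xa10 ya17 za45) (ka xa28 ya13 za38) (ka xa17 ya22 za25) (ka xa17 ya25 za30) (ka xa17 ya25 za31) (ka xa17 ya25 za32) (ka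 xa13 ya1 za60) (ka xa16 ya57 za28) (ka xa12 ya38 za24) (ka xa15 ya49 za51) (ka xa18 ya22 za16) (ka xa26 ya49 za15) (ka xa18 ya23 za39) (ka xa18 ya23 za40) (ka xa10 ya19 za6) (ka xa15 ya4 za44)) (@D3.rec (fun _ => Pt) (ka xa15 ya4 za41) (ka xa10 ya18 za0) (ka xa10 ya18 za7) (ka xa10 ya18 za8) (ka xa10 ya18 za10) (ka xa18 ya23 za49) (ka xa18 ya23 za48) (ka xa18 ya23 za57) (ka xa23 ya19 za40) (ka xa12 ya49 za18) (ka xa11 ya27 za18) (ka xa11 ya27 za12) (ka xa17 ya26 za54) (ka xa18 ya23 za51) (ka xa20 ya52 za5) (ka xa12 ya49 za45) (ka xa18 ya24 za25) (ka xa11 ya58 za13) (ka xa15 ya26 za30) (ka xa18 ya23 za28) (ka xa18 ya24 za37) (ka xa11 ya34 za35) (ka xa11 ya35 za47) (ka xa12 ya56 za56) (ka xa20 ya22 za37) (ka xa18 ya23 za33) (ka xa13 ya1 za55) (ka xa11 ya36 za7) (ka xa18 ya17 za9) (ka xa17 ya32 za42) (ka xa10 ya18 za37) (ka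 xa10 ya18 za38) (ka xa10 ya18 za39) (ka xa10 ya18 za40) (ka xa20 ya19 za50) (ka xa12 ya25 za44) (ka xa19 ya27 za47) (ka xa18 ya24 za57) (ka xa12 ya30 za10) (ka xa19 ya27 za42) (ka xa18 ya25 za6) (ka xa18 ya25 za7) (ka xa18 ya25 za8) (ka xa11 ya58 za5) (ka xa14 ya11 za57) (ka xa10 ya18 za54) (ka xa12 ya25 za49) (ka xa19 ya24 za23) (ka xa12 ya29 za46) (ka xa17 ya58 za43) (ka xa18 ya17 za7) (ka xa12 ya2 za26) (ka xa12 ya26 za56) (ka xa11 ya11 za14) (ka xa10 ya19 za4) (ka xa20 ya19 za56) (ka xa18 ya25 za57) (ka xa19 ya27 za44) (ka xa15 ya59 za34) (ka xa15 ya59 za33) (ka xa10 ya19 za10) (ka xa26 ya23 za43)) (@D3.rec (fun _ => Pt) (ka xa15 ya58 za51) (ka xa18 ya2 za52) (ka xa19 ya28 za3) (ka xa19 ya28 za4) (ka xa25 ya5 za18) (ka xa19 ya27 za61) (ka xa19 ya28 za0) (ka xa19 ya28 za1) (ka xa10 ya19 za15) (ka xa19 ya28 za8) (ka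 xa19 ya28 za7) (ka xa28 ya14 za11) (ka xa28 ya14 za17) (ka xa24 ya50 za31) (ka xa24 ya50 za30) (ka xa10 ya19 za17) (ka xa15 ya3 za31) (ka xa19 ya6 za16) (ka xa16 ya1 za35) (ka xa15 ya51 za38) (ka xa19 ya17 za28) (ka xa15 ya2 za49) (ka xa19 ya29 za28) (ka xa26 ya42 za42) (ka xa26 ya42 za40) (ka xa19 ya29 za27) (ka xa26 ya42 za41) (ka xa10 ya19 za25) (ka xa25 ya32 za34) (ka xa17 ya3 za41) (ka xa20 ya20 za10) (ka xa22 ya22 za48) (ka xa13 ya36 za49) (ka xa17 ya24 za58) (ka xa17 ya24 za57) (ka xa20 ya58 za9) (ka xa10 ya19 za59) (ka xa10 ya19 za61) (ka xa10 ya20 za0) (ka xa10 ya20 za31) (ka xa10 ya20 za30) (ka xa10 ya19 za30) (ka xa21 ya9 za41) (ka xa10 ya20 za9) (ka xa10 ya19 za32) (ka xa22 ya36 za58) (ka xa22 ya15 za1) (ka xa10 ya20 za36) (ka xa10 ya21 za10) (ka xa10 ya21 za9) (ka xa10 ya19 za35) (ka xa20 ya46 za43) (ka xa28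 ya14 za41) (ka xa10 ya20 za56) (ka xa10 ya20 za57) (ka xa10 ya20 za59) (ka xa10 ya20 za60) (ka xa10 ya21 za2) (ka xa10 ya21 za23) (ka xa10 ya21 za22) (ka xa10 ya19 za40) (ka xa28 ya14 za49)) (@D3.rec (fun _ => Pt) (ka xa28 ya14 za50) (ka xa10 ya21 za36) (ka xa10 ya21 za37) (ka xa10 ya21 za38) (ka xa10 ya19 za47) (ka xa10 ya19 za43) (ka xa23 ya6 za36) (ka xa25 ya23 za58) (ka xa28 ya14 za58) (ka xa10 ya19 za44) (ka xa28 ya15 za1) (ka xa28 ya14 za61) (ka xa20 ya31 za40) (ka xa10 ya41 za59) (ka xa10 ya19 za46) (ka xa25 ya52 za15) (ka xa28 ya15 za6) (ka xa28 ya15 za7) (ka xa28 ya14 za56) (ka xa11 ya0 za17) (ka xa10 ya21 za55) (ka xa10 ya21 za60) (ka xa10 ya22 za2) (ka xa18 ya5 za18) (ka xa18 ya5 za17) (ka xa10 ya19 za51) (ka xa16 ya15 za23) (ka xa19 ya57 za4) (ka xa20 ya47 za11) (ka xa10 ya19 za58) (ka xa26 ya45 za19) (ka xa25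 ya51 za28) (ka xa25 ya48 za27) (ka xa10 ya41 za26) (ka xa26 ya29 za26) (ka xa10 ya20 za1) (ka xa18 ya35 za20) (ka xa10 ya20 za5) (ka xa22 ya38 za57) (ka xa10 ya39 za14) (ka xa10 ya20 za6) (ka xa28 ya15 za18) (ka xa18 ya4 za56) (ka xa28 ya15 za22) (ka xa23 ya23 za61) (ka xa28 ya14 za39) (ka xa11 ya46 za8) (ka xa22 ya36 za57) (ka xa12 ya47 za28) (ka xa20 ya11 za57) (ka xa28 ya15 za27) (ka xa21 ya41 za22) (ka xa25 ya34 za29) (ka xa28 ya15 za29) (ka xa26 ya32 za6) (ka xa26 ya32 za5) (ka xa10 ya20 za18) (ka xa28 ya15 za33) (ka xa28 ya15 za34) (ka xa16 ya34 za17) (ka xa26 ya32 za2) (ka xa18 ya38 za39)) (@D3.rec (fun _ => Pt) (ka xa28 ya14 za34) (ka xa21 ya0 za7) (ka xa10 ya20 za24) (ka xa28 ya15 za44) (ka xa25 ya17 za14) (ka xa18 ya4 za16) (ka xa10 ya24 za39) (ka xa18 ya4 za17) (ka xa26 ya50 za8) (ka xa18 ya12 za0) (ka xa18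 ya47 za20) (ka xa18 ya54 za3) (ka xa10 ya39 za24) (ka xa10 ya20 za33) (ka xa10 ya20 za34) (ka xa28 ya14 za38) (ka xa28 ya14 za37) (ka xa28 ya15 za54) (ka xa10 ya39 za19) (ka xa19 ya12 za3) (ka xa26 ya33 za50) (ka xa19 ya12 za37) (ka xa18 ya53 za21) (ka xa26 ya33 za49) (ka xa10 ya39 za7) (ka xa10 ya40 za42) (ka xa18 ya41 za56) (ka xa19 ya31 za28) (ka xa19 ya31 za29) (ka xa28 ya15 za61) (ka xa19 ya31 za30) (ka xa10 ya51 za49) (ka xa19 ya31 za33) (ka xa19 ya31 za32) (ka xa10 ya20 za44) (ka xa28 ya16 za5) (ka xa19 ya31 za27) (ka xa15 ya50 za47) (ka xa10 ya20 za48) (ka xa28 ya16 za9) (ka xa25 ya30 za58) (ka xa18 ya28 za1) (ka xa18 ya5 za56) (ka xa25 ya30 za60) (ka xa28 ya16 za17) (ka xa18 ya16 za29) (ka xa10 ya20 za54) (ka xa12 ya40 za54) (ka xa20 ya46 za44) (ka xa14 ya56 za53) (ka xa28 ya16 za20) (ka xa14 ya56 za51) (ka xa21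 ya9 za3) (ka xa21 ya16 za40) (ka xa22 ya40 za28) (ka xa27 ya13 za38) (ka xa24 ya40 za28) (ka xa21 ya38 za40) (ka xa21 ya38 za39) (ka xa10 ya54 za24) (ka xa22 ya39 za57) (ka xa28 ya14 za46)) (@D3.rec (fun _ => Pt) (ka xa28 ya14 za47) (ka xa28 ya14 za48) (ka xa28 ya15 za0) (ka xa18 ya56 za25) (ka xa28 ya2 za46) (ka xa24 ya47 za57) (ka xa24 ya47 za56) (ka xa10 ya21 za3) (ka xa28 ya16 za49) (ka xa28 ya16 za50) (ka xa24 ya48 za5) (ka xa24 ya48 za6) (ka xa16 ya22 za1) (ka xa18 ya59 za43) (ka xa18 ya14 za33) (ka xa10 ya22 za41) (ka xa28 ya14 za40) (ka xa10 ya21 za12) (ka xa10 ya21 za13) (ka xa17 ya19 za48) (ka xa18 ya46 za10) (ka xa17 ya33 za53) (ka xa28 ya16 za61) (ka xa25 ya46 za7) (ka xa28 ya17 za0) (ka xa24 ya38 za48) (ka xa28 ya17 za1) (ka xa17 ya25 za7) (ka xa25 ya30 za61) (ka xa28 ya17 za12) (ka xa17 ya25 za61) (ka xa25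 ya30 za52) (ka xa27 ya59 za45) (ka xa25 ya30 za55) (ka xa24 ya0 za36) (ka xa25 ya30 za56) (ka xa24 ya38 za52) (ka xa10 ya41 za60) (ka xa18 ya58 za59) (ka xa24 ya25 za38) (ka xa24 ya21 za50) (ka xa24 ya40 za33) (ka xa19 ya0 za53) (ka xa19 ya43 za27) (ka xa10 ya21 za25) (ka xa10 ya21 za26) (ka xa28 ya14 za51) (ka xa17 ya31 za36) (ka xa22 ya34 za24) (ka xa28 ya17 za19) (ka xa28 ya17 za20) (ka xa23 ya51 za29) (ka xa20 ya31 za51) (ka xa27 ya8 za9) (ka xa28 ya2 za44) (ka xa13 ya22 za51) (ka xa18 ya20 za21) (ka xa28 ya2 za47) (ka xa28 ya2 za48) (ka xa28 ya2 za49) (ka xa21 ya9 za20) (ka xa14 ya42 za54)) (@D3.rec (fun _ => Pt) (ka xa21 ya9 za22) (ka xa14 ya42 za53) (ka xa28 ya2 za39) (ka xa10 ya21 za34) (ka xa10 ya21 za35) (ka xa23 ya23 za1) (ka xa28 ya2 za41) (ka xa23 ya37 za8) (ka xa24 ya28 za5) (ka xa23 ya50 za19) (ka xa14 ya27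 za50) (ka xa23 ya50 za18) (ka xa24 ya28 za8) (ka xa27 ya8 za5) (ka xa25 ya48 za21) (ka xa18 ya20 za59) (ka xa28 ya14 za55) (ka xa27 ya16 za54) (ka xa10 ya21 za52) (ka xa20 ya45 za31) (ka xa27 ya34 za49) (ka xa17 ya21 za53) (ka xa16 ya55 za54) (ka xa16 ya55 za53) (ka xa10 ya21 za45) (ka xa18 ya14 za8) (ka xa27 ya56 za0) (ka xa10 ya42 za22) (ka xa10 ya21 za44) (ka xa28 ya17 za59) (ka xa27 ya59 za54) (ka xa27 ya59 za53) (ka xa10 ya42 za25) (ka xa10 ya21 za49) (ka xa10 ya21 za50) (ka xa28 ya18 za0) (ka xa16 ya21 za46) (ka xa16 ya51 za43) (ka xa21 ya54 za33) (ka xa28 ya18 za1) (ka xa16 ya51 za45) (ka xa22 ya4 za45) (ka xa20 ya11 za20) (ka xa26 ya59 za51) (ka xa10 ya42 za8) (ka xa28 ya17 za50) (ka xa10 ya21 za53) (ka xa10 ya21 za54) (ka xa26 ya2 za55) (ka xa20 ya59 za55) (ka xa11 ya16 za9) (ka xa10 ya21 za56) (ka xa28 ya18 za17)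 (ka xa17 ya24 za34) (ka xa25 ya52 za18) (ka xa19 ya43 za16) (ka xa23 ya54 za60) (ka xa20 ya11 za39) (ka xa27 ya8 za49) (ka xa17 ya25 za3) (ka xa14 ya58 za53) (ka xa18 ya55 za59)) (@D3.rec (fun _ => Pt) (ka xa18 ya55 za60) (ka xa28 ya17 za37) (ka xa18 ya55 za57) (ka xa18 ya55 za61) (ka xa12 ya51 za58) (ka xa28 ya15 za11) (ka xa20 ya47 za56) (ka xa18 ya56 za6) (ka xa10 ya54 za26) (ka xa18 ya56 za7) (ka xa18 ya58 za30) (ka xa28 ya16 za59) (ka xa18 ya56 za2) (ka xa17 ya23 za10) (ka xa18 ya56 za28) (ka xa10 ya22 za9) (ka xa28 ya18 za42) (ka xa18 ya56 za31) (ka xa22 ya41 za45) (ka xa13 ya49 za34) (ka xa26 ya32 za26) (ka xa19 ya42 za20) (ka xa26 ya32 za37) (ka xa23 ya13 za48) (ka xa26 ya32 za27) (ka xa22 ya28 za41) (ka xa26 ya32 za29) (ka xa16 ya22 za18) (ka xa16 ya42 za40) (ka xa17 ya34 za60) (ka xa10 ya22 za24) (ka xa15 ya5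 za50) (ka xa18 ya56 za9) (ka xa19 ya1 za22) (ka xa19 ya1 za23) (ka xa19 ya1 za24) (ka xa19 ya1 za25) (ka xa28 ya10 za42) (ka xa19 ya1 za28) (ka xa25 ya3 za11) (ka xa18 ya20 za4) (ka xa18 ya20 za2) (ka xa18 ya54 za38) (ka xa19 ya0 za16) (ka xa16 ya22 za17) (ka xa19 ya2 za11) (ka xa10 ya22 za44) (ka xa12 ya2 za59) (ka xa12 ya47 za42) (ka xa12 ya14 za50) (ka xa28 ya3 za50) (ka xa18 ya13 za60) (ka xa20 ya47 za24) (ka xa18 ya59 za46) (ka xa10 ya36 za42) (ka xa16 ya53 za31) (ka xa18 ya28 za4) (ka xa10 ya22 za43) (ka xa20 ya46 za37) (ka xa22 ya40 za2) (ka xa19 ya18 za5) (ka xa19 ya18 za8)) (@D3.rec (fun _ => Pt) (ka xa10 ya22 za58) (ka xa24 ya40 za30) (ka xa24 ya40 za31) (ka xa22 ya29 za58) (ka xa14 ya53 za46) (ka xa10 ya22 za59) (ka xa10 ya22 za60) (ka xa11 ya21 za60) (ka xa17 ya12 za56) (ka xa20 ya24 za51) (ka xa21 ya54 za36)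 (ka xa10 ya22 za56) (ka xa22 ya29 za34) (ka xa21 ya36 za18) (ka xa17 ya23 za3) (ka xa25 ya46 za53) (ka xa14 ya8 za5) (ka xa28 ya18 za54) (ka xa25 ya46 za9) (ka xa24 ya13 za11) (ka xa25 ya46 za8) (ka xa11 ya22 za0) (ka xa21 ya38 za51) (ka xa12 ya27 za38) (ka xa23 ya2 za51) (ka xa21 ya53 za28) (ka xa10 ya23 za10) (ka xa10 ya23 za11) (ka xa12 ya2 za61) (ka xa12 ya34 za39) (ka xa21 ya35 za49) (ka xa12 ya3 za5) (ka xa21 ya35 za50) (ka xa18 ya11 za1) (ka xa12 ya12 za59) (ka xa26 ya55 za23) (ka xa11 ya24 za28) (ka xa26 ya55 za17) (ka xa12 ya44 za49) (ka xa26 ya50 za31) (ka xa21 ya51 za7) (ka xa21 ya54 za34) (ka xa26 ya55 za9) (ka xa18 ya17 za4) (ka xa21 ya49 za52) (ka xa12 ya3 za12) (ka xa21 ya22 za9) (ka xa23 ya47 za18) (ka xa11 ya45 za15) (ka xa28 ya4 za8) (ka xa10 ya36 za45) (ka xa23 ya47 za37) (ka xa18 ya58 za0) (ka xa18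 ya58 za1) (ka xa18 ya58 za2) (ka xa18 ya58 za5) (ka xa19 ya2 za33) (ka xa17 ya50 za39) (ka xa17 ya50 za38) (ka xa10 ya23 za22) (ka xa28 ya19 za17) (ka xa15 ya15 za30)) (@D3.rec (fun _ => Pt) (ka xa15 ya15 za31) (ka xa15 ya15 za32) (ka xa15 ya15 za26) (ka xa15 ya15 za25) (ka xa10 ya23 za26) (ka xa28 ya19 za19) (ka xa14 ya53 za16) (ka xa15 ya15 za36) (ka xa15 ya15 za37) (ka xa19 ya46 za34) (ka xa19 ya34 za48) (ka xa19 ya34 za49) (ka xa19 ya34 za46) (ka xa19 ya34 za47) (ka xa10 ya23 za32) (ka xa15 ya40 za57) (ka xa15 ya40 za56) (ka xa28 ya19 za29) (ka xa13 ya32 za23) (ka xa25 ya55 za53) (ka xa15 ya15 za54) (ka xa28 ya19 za38) (ka xa15 ya15 za56) (ka xa15 ya15 za59) (ka xa15 ya15 za60) (ka xa13 ya32 za32) (ka xa10 ya24 za16) (ka xa10 ya24 za17) (ka xa21 ya0 za13) (ka xa10 ya23 za37) (ka xa10 ya24 za27) (ka xa10 ya24 za61)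 (ka xa10 ya24 za60) (ka xa10 ya23 za40) (ka xa28 ya19 za49) (ka xa10 ya24 za44) (ka xa10 ya24 za43) (ka xa10 ya23 za42) (ka xa28 ya19 za56) (ka xa23 ya13 za5) (ka xa10 ya25 za3) (ka xa10 ya25 za4) (ka xa10 ya25 za32) (ka xa10 ya25 za31) (ka xa10 ya23 za45) (ka xa28 ya19 za60) (ka xa10 ya25 za27) (ka xa10 ya25 za45) (ka xa10 ya25 za44) (ka xa10 ya23 za49) (ka xa13 ya34 za31) (ka xa13 ya18 za29) (ka xa10 ya23 za56) (ka xa10 ya23 za52) (ka xa18 ya21 za54) (ka xa25 ya46 za47) (ka xa28 ya0 za47) (ka xa19 ya22 za12) (ka xa10 ya23 za53) (ka xa27 ya33 za52) (ka xa28 ya20 za10) (ka xa28 ya20 za12)) (@D3.rec (fun _ => Pt) (ka xa19 ya22 za0) (ka xa10 ya23 za55) (ka xa28 ya20 za16) (ka xa28 ya20 za17) (ka xa28 ya20 za18) (ka xa26 ya56 za3) (ka xa28 ya20 za5) (ka xa19 ya21 za44) (ka xa28 ya20 za25) (ka xa19 ya37 za51) (ka xa10 ya26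 za11) (ka xa10 ya26 za12) (ka xa10 ya26 za14) (ka xa10 ya26 za15) (ka xa10 ya26 za18) (ka xa15 ya37 za49) (ka xa15 ya37 za48) (ka xa10 ya24 za0) (ka xa28 ya20 za29) (ka xa15 ya35 za49) (ka xa15 ya6 za45) (ka xa20 ya5 za21) (ka xa15 ya36 za49) (ka xa15 ya29 za18) (ka xa25 ya20 za12) (ka xa10 ya24 za4) (ka xa24 ya15 za17) (ka xa19 ya46 za21) (ka xa19 ya36 za26) (ka xa25 ya47 za40) (ka xa15 ya22 za20) (ka xa15 ya22 za19) (ka xa24 ya17 za3) (ka xa19 ya24 za61) (ka xa10 ya24 za10) (ka xa24 ya17 za32) (ka xa25 ya23 za19) (ka xa26 ya5 za44) (ka xa17 ya35 za45) (ka xa17 ya35 za46) (ka xa25 ya21 za8) (ka xa10 ya24 za26) (ka xa10 ya24 za22) (ka xa25 ya25 za21) (ka xa16 ya13 za6) (ka xa28 ya20 za36) (ka xa28 ya20 za37) (ka xa10 ya24 za23) (ka xa28 ya20 za42) (ka xa22 ya55 za20) (ka xa28 ya20 za41) (ka xa22 ya55 za19) (ka xa26 ya26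 za11) (ka xa25 ya28 za34) (ka xa19 ya45 za1) (ka xa13 ya28 za32) (ka xa15 ya40 za3) (ka xa16 ya45 za25) (ka xa19 ya53 za50) (ka xa19 ya53 za49) (ka xa19 ya51 za0) (ka xa27 ya45 za57)) (@D3.rec (fun _ => Pt) (ka xa10 ya24 za31) (ka xa22 ya53 za12) (ka xa28 ya20 za50) (ka xa18 ya20 za19) (ka xa18 ya20 za20) (ka xa17 ya22 za2) (ka xa18 ya20 za22) (ka xa18 ya20 za23) (ka xa17 ya23 za12) (ka xa28 ya5 za9) (ka xa28 ya5 za8) (ka xa10 ya24 za37) (ka xa28 ya20 za56) (ka xa22 ya50 za27) (ka xa18 ya54 za34) (ka xa13 ya41 za17) (ka xa28 ya10 za39) (ka xa27 ya50 za45) (ka xa10 ya24 za40) (ka xa23 ya11 za48) (ka xa18 ya54 za32) (ka xa18 ya46 za22) (ka xa18 ya4 za57) (ka xa18 ya26 za58) (ka xa18 ya54 za29) (ka xa28 ya19 za55) (ka xa19 ya50 za60) (ka xa28 ya19 za53) (ka xa18 ya54 za28) (ka xa19 ya18 za46) (ka xa10 ya24 za46) (ka xa10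 ya24 za47) (ka xa25 ya56 za15) (ka xa25 ya56 za13) (ka xa23 ya9 za28) (ka xa23 ya0 za58) (ka xa13 ya5 za5) (ka xa23 ya0 za59) (ka xa13 ya5 za4) (ka xa25 ya36 za6) (ka xa28 ya21 za25) (ka xa28 ya21 za26) (ka xa25 ya57 za61) (ka xa28 ya21 za28) (ka xa18 ya58 za9) (ka xa18 ya58 za8) (ka xa10 ya24 za55) (ka xa28 ya21 za32) (ka xa18 ya22 za8) (ka xa18 ya39 za56) (ka xa15 ya18 za39) (ka xa19 ya18 za4) (ka xa18 ya33 za1) (ka xa18 ya54 za45) (ka xa10 ya36 za8) (ka xa18 ya41 za46) (ka xa18 ya54 za44) (ka xa28 ya19 za48) (ka xa10 ya25 za1) (ka xa10 ya25 za2) (ka xa28 ya19 za51) (ka xa28 ya19 za50)) (@D3.rec (fun _ => Pt) (ka xa28 ya21 za41) (ka xa28 ya21 za42) (ka xa28 ya21 za43) (ka xa18 ya46 za11) (ka xa16 ya40 za58) (ka xa28 ya21 za44) (ka xa23 ya46 za34) (ka xa25 ya47 za38) (ka xa28 ya21 za56) (ka xa28 ya21 za58) (ka xa19 ya20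 za7) (ka xa18 ya22 za27) (ka xa19 ya23 za43) (ka xa19 ya23 za44) (ka xa28 ya22 za0) (ka xa19 ya23 za47) (ka xa10 ya25 za12) (ka xa15 ya31 za1) (ka xa15 ya31 za0) (ka xa10 ya25 za13) (ka xa28 ya22 za5) (ka xa25 ya25 za40) (ka xa18 ya5 za57) (ka xa18 ya28 za0) (ka xa25 ya56 za16) (ka xa28 ya16 za18) (ka xa18 ya36 za58) (ka xa10 ya25 za18) (ka xa18 ya53 za28) (ka xa18 ya53 za24) (ka xa28 ya22 za13) (ka xa28 ya22 za19) (ka xa18 ya53 za20) (ka xa28 ya22 za24) (ka xa18 ya53 za14) (ka xa18 ya21 za20) (ka xa27 ya6 za9) (ka xa19 ya22 za11) (ka xa18 ya49 za42) (ka xa21 ya53 za57) (ka xa18 ya35 za16) (ka xa10 ya26 za59) (ka xa28 ya19 za59) (ka xa10 ya25 za34) (ka xa18 ya53 za56) (ka xa18 ya53 za53) (ka xa28 ya22 za33) (ka xa13 ya45 za11) (ka xa22 ya15 za29) (ka xa22 ya15 za30) (ka xa13 ya3 za19) (ka xa28 ya22 za47) (ka xa10 ya54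 za5) (ka xa19 ya22 za2) (ka xa26 ya32 za23) (ka xa28 ya20 za1) (ka xa24 ya46 za19) (ka xa28 ya3 za40) (ka xa27 ya5 za36) (ka xa28 ya20 za0) (ka xa10 ya25 za47) (ka xa10 ya25 za48)) (@D3.rec (fun _ => Pt) (ka xa28 ya20 za3) (ka xa28 ya20 za2) (ka xa28 ya22 za54) (ka xa23 ya53 za51) (ka xa22 ya18 za18) (ka xa28 ya20 za11) (ka xa18 ya39 za9) (ka xa27 ya34 za31) (ka xa14 ya16 za44) (ka xa28 ya23 za8) (ka xa14 ya16 za56) (ka xa27 ya47 za1) (ka xa10 ya26 za4) (ka xa27 ya47 za2) (ka xa10 ya25 za54) (ka xa28 ya23 za14) (ka xa22 ya18 za5) (ka xa22 ya14 za52) (ka xa18 ya10 za38) (ka xa28 ya10 za2) (ka xa10 ya25 za59) (ka xa10 ya25 za60) (ka xa28 ya23 za21) (ka xa10 ya26 za0) (ka xa10 ya26 za1) (ka xa10 ya26 za2) (ka xa10 ya26 za3) (ka xa28 ya23 za30) (ka xa28 ya23 za25) (ka xa25 ya36 za12) (ka xa28 ya23 za38) (ka xa28 ya23 za27)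 (ka xa28 ya23 za28) (ka xa25 ya36 za31) (ka xa27 ya22 za43) (ka xa20 ya33 za59) (ka xa28 ya23 za12) (ka xa26 ya51 za5) (ka xa26 ya51 za3) (ka xa28 ya23 za13) (ka xa19 ya22 za30) (ka xa10 ya26 za6) (ka xa26 ya43 za31) (ka xa26 ya43 za30) (ka xa10 ya26 za8) (ka xa14 ya17 za10) (ka xa19 ya36 za48) (ka xa17 ya11 za39) (ka xa26 ya52 za56) (ka xa25 ya25 za14) (ka xa27 ya22 za45) (ka xa28 ya24 za2) (ka xa25 ya25 za15) (ka xa17 ya1 za19) (ka xa22 ya47 za4) (ka xa28 ya20 za28) (ka xa24 ya46 za21) (ka xa18 ya49 za2) (ka xa24 ya46 za15) (ka xa18 ya48 za61) (ka xa18 ya49 za0) (ka xa18 ya49 za3)) (@D3.rec (fun _ => Pt) (ka xa28 ya18 za32) (ka xa28 ya22 za11) (ka xa18 ya49 za12) (ka xa16 ya45 za58) (ka xa18 ya58 za18) (ka xa28 ya22 za31) (ka xa18 ya49 za7) (ka xa18 ya49 za9) (ka xa24 ya53 za55) (ka xa18 ya49 za32) (ka xa18 ya59 za11)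 (ka xa18 ya59 za12) (ka xa18 ya59 za13) (ka xa18 ya59 za14) (ka xa24 ya18 za9) (ka xa18 ya59 za16) (ka xa18 ya59 za18) (ka xa18 ya59 za19) (ka xa18 ya59 za20) (ka xa18 ya59 za21) (ka xa18 ya58 za16) (ka xa19 ya0 za5) (ka xa18 ya59 za23) (ka xa18 ya59 za24) (ka xa10 ya42 za46) (ka xa18 ya47 za3) (ka xa17 ya21 za23) (ka xa21 ya57 za38) (ka xa18 ya49 za14) (ka xa10 ya26 za40) (ka xa17 ya45 za41) (ka xa18 ya49 za17) (ka xa28 ya24 za36) (ka xa11 ya12 za28) (ka xa24 ya57 za40) (ka xa20 ya21 za34) (ka xa20 ya21 za37) (ka xa18 ya38 za59) (ka xa18 ya38 za57) (ka xa19 ya48 za18) (ka xa22 ya31 za32) (ka xa26 ya33 za2) (ka xa26 ya20 za6) (ka xa17 ya31 za60) (ka xa27 ya48 za8) (ka xa10 ya27 za0) (ka xa10 ya27 za8) (ka xa22 ya28 za59) (ka xa18 ya34 za60) (ka xa22 ya11 za38) (ka xa27 ya48 za9) (ka xa26 ya32 za30) (ka xa28 ya21 za47)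 (ka xa27 ya55 za37) (ka xa18 ya5 za60) (ka xa19 ya12 za9) (ka xa22 ya59 za60) (ka xa28 ya24 za47) (ka xa19 ya13 za10) (ka xa27 ya6 za23) (ka xa18 ya23 za22) (ka xa27 ya9 za38)) (@D3.rec (fun _ => Pt) (ka xa10 ya27 za20) (ka xa15 ya25 za54) (ka xa16 ya30 za33) (ka xa12 ya22 za17) (ka xa18 ya33 za46) (ka xa10 ya27 za15) (ka xa19 ya1 za57) (ka xa19 ya2 za6) (ka xa19 ya2 za7) (ka xa17 ya31 za52) (ka xa27 ya4 za2) (ka xa18 ya35 za38) (ka xa22 ya28 za60) (ka xa21 ya31 za34) (ka xa28 ya24 za60) (ka xa13 ya44 za58) (ka xa13 ya44 za61) (ka xa22 ya59 za59) (ka xa17 ya32 za16) (ka xa24 ya18 za39) (ka xa24 ya15 za37) (ka xa16 ya56 za53) (ka xa21 ya27 za37) (ka xa17 ya35 za8) (ka xa21 ya27 za36) (ka xa15 ya26 za53) (ka xa10 ya27 za34) (ka xa10 ya27 za35) (ka xa10 ya27 za36) (ka xa10 ya27 za37) (ka xa17 ya10 za34) (ka xa20 ya26 za54)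 (ka xa20 ya34 za23) (ka xa18 ya22 za34) (ka xa20 ya34 za26) (ka xa10 ya27 za29) (ka xa28 ya25 za12) (ka xa20 ya34 za15) (ka xa20 ya34 za16) (ka xa18 ya21 za35) (ka xa17 ya48 za39) (ka xa20 ya34 za18) (ka xa23 ya55 za29) (ka xa14 ya17 za1) (ka xa20 ya33 za54) (ka xa20 ya33 za55) (ka xa20 ya33 za58) (ka xa28 ya23 za47) (ka xa23 ya54 za52) (ka xa24 ya7 za30) (ka xa28 ya25 za10) (ka xa14 ya11 za52) (ka xa20 ya40 za35) (ka xa12 ya38 za47) (ka xa26 ya46 za45) (ka xa20 ya40 za34) (ka xa20 ya36 za3) (ka xa24 ya19 za60) (ka xa21 ya41 za32) (ka xa17 ya33 za28) (ka xa17 ya10 za4) (ka xa17 ya10 za5)) (@D3.rec (fun _ => Pt) (ka xa18 ya50 za52) (ka xa18 ya50 za53) (ka xa18 ya50 za54) (ka xa11 ya12 za38) (ka xa17 ya15 za54) (ka xa18 ya50 za55) (ka xa19 ya0 za34) (ka xa18 ya38 za37) (ka xa18 ya53 za45) (ka xa18 ya53 za44) (ka xa10 ya27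 za51) (ka xa28 ya25 za37) (ka xa18 ya58 za21) (ka xa18 ya58 za23) (ka xa27 ya33 za15) (ka xa10 ya40 za60) (ka xa18 ya56 za20) (ka xa18 ya58 za25) (ka xa18 ya56 za4) (ka xa10 ya28 za3) (ka xa28 ya25 za43) (ka xa18 ya58 za12) (ka xa18 ya9 za50) (ka xa18 ya58 za13) (ka xa10 ya42 za43) (ka xa18 ya58 za17) (ka xa27 ya31 za60) (ka xa27 ya53 za37) (ka xa25 ya3 za23) (ka xa27 ya53 za36) (ka xa18 ya49 za10) (ka xa18 ya59 za4) (ka xa19 ya0 za50) (ka xa15 ya7 za9) (ka xa19 ya0 za48) (ka xa15 ya3 za55) (ka xa10 ya28 za17) (ka xa10 ya28 za18) (ka xa28 ya16 za57) (ka xa28 ya25 za54) (ka xa28 ya25 za55) (ka xa28 ya25 za56) (ka xa28 ya25 za57) (ka xa20 ya8 za16) (ka xa18 ya38 za52) (ka xa18 ya38 za53) (ka xa18 ya38 za54) (ka xa18 ya38 za55) (ka xa28 ya26 za8) (ka xa28 ya26 za10) (ka xa18 ya38 za60) (ka xa18 ya38 za61) (ka xa18 ya39 za0)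 (ka xa18 ya39 za1) (ka xa18 ya39 za2) (ka xa23 ya32 za8) (ka xa18 ya39 za4) (ka xa18 ya59 za58) (ka xa18 ya39 za6) (ka xa18 ya47 za38) (ka xa16 ya23 za8) (ka xa16 ya23 za6)) (@D3.rec (fun _ => Pt) (ka xa21 ya25 za37) (ka xa19 ya1 za12) (ka xa10 ya28 za30) (ka xa10 ya28 za31) (ka xa18 ya58 za31) (ka xa28 ya15 za51) (ka xa28 ya26 za16) (ka xa28 ya26 za17) (ka xa21 ya15 za9) (ka xa28 ya26 za18) (ka xa14 ya42 za60) (ka xa18 ya56 za10) (ka xa18 ya56 za11) (ka xa18 ya56 za12) (ka xa18 ya56 za13) (ka xa21 ya15 za6) (ka xa18 ya56 za15) (ka xa21 ya15 za2) (ka xa18 ya56 za16) (ka xa18 ya56 za17) (ka xa18 ya56 za18) (ka xa18 ya56 za19) (ka xa19 ya2 za2) (ka xa18 ya56 za22) (ka xa18 ya56 za23) (ka xa19 ya0 za22) (ka xa16 ya21 za59) (ka xa10 ya36 za3) (ka xa28 ya26 za43) (ka xa10 ya36 za4) (ka xa10 ya33 za39) (ka xa18 ya59 za44) (ka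 xa16 ya23 za20) (ka xa16 ya23 za22) (ka xa10 ya28 za47) (ka xa20 ya8 za7) (ka xa16 ya22 za32) (ka xa18 ya22 za6) (ka xa19 ya1 za38) (ka xa19 ya1 za39) (ka xa19 ya1 za40) (ka xa19 ya1 za41) (ka xa19 ya1 za42) (ka xa18 ya47 za13) (ka xa18 ya59 za31) (ka xa18 ya35 za49) (ka xa18 ya49 za53) (ka xa19 ya0 za8) (ka xa14 ya58 za56) (ka xa10 ya28 za55) (ka xa10 ya28 za56) (ka xa11 ya13 za40) (ka xa20 ya8 za9) (ka xa28 ya26 za61) (ka xa28 ya27 za0) (ka xa22 ya28 za49) (ka xa28 ya27 za1) (ka xa28 ya27 za2) (ka xa18 ya58 za57) (ka xa19 ya1 za49) (ka xa19 ya1 za50) (ka xa11 ya11 za47))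
def f_a_19 : D2 → D3 → Pt := @D2.rec (fun _ => D3 → Pt) (@D3.rec (fun _ => Pt) (ka xa18 ya20 za12) (ka xa19 ya1 za51) (ka xa19 ya1 za52) (ka xa10 ya28 za60) (ka xa20 ya21 za7) (ka xa18 ya56 za21) (ka xa19 ya0 za23) (ka xa19 ya0 za24) (ka xa18 ya59 za47) (ka xa10 ya29 za0) (ka xa16 ya35 za23) (ka xa28 ya27 za10) (ka xa19 ya0 za17) (ka xa19 ya0 za18) (ka xa19 ya0 za19) (ka xa26 ya19 za19) (ka xa18 ya49 za43) (ka xa19 ya0 za12) (ka xa19 ya0 za13) (ka xa19 ya0 za14) (ka xa10 ya29 za4) (ka xa26 ya32 za33) (ka xa18 ya59 za25) (ka xa19 ya0 za6) (ka xa19 ya0 za7) (ka xa19 ya2 za22) (ka xa19 ya2 za23) (ka xa19 ya2 za24) (ka xa19 ya2 za26) (ka xa19 ya2 za28) (ka xa19 ya2 za29) (ka xa14 ya58 za57) (ka xa16 ya22 za16) (ka xa16 ya30 za4) (ka xa18 ya58 za6) (ka xa16 ya16 za31) (ka xa15 ya12 za7) (ka xa27 ya33 za42) (ka xa27 ya47 za6)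 (ka xa27 ya47 za24) (ka xa27 ya47 za3) (ka xa27 ya47 za4) (ka xa10 ya29 za23) (ka xa12 ya19 za24) (ka xa12 ya19 za26) (ka xa25 ya3 za46) (ka xa25 ya3 za47) (ka xa17 ya38 za15) (ka xa18 ya58 za34) (ka xa24 ya55 za31) (ka xa18 ya58 za32) (ka xa14 ya42 za55) (ka xa10 ya29 za28) (ka xa18 ya47 za42) (ka xa28 ya20 za8) (ka xa28 ya27 za48) (ka xa20 ya18 za27) (ka xa18 ya21 za60) (ka xa26 ya24 za23) (ka xa18 ya22 za1) (ka xa18 ya22 za2) (ka xa18 ya22 za3)) (@D3.rec (fun _ => Pt) (ka xa18 ya22 za4) (ka xa18 ya22 za5) (ka xa28 ya26 za51) (ka xa18 ya22 za7) (ka xa18 ya22 za9) (ka xa18 ya22 za10) (ka xa22 ya3 za61) (ka xa22 ya3 za58) (ka xa22 ya3 za59) (ka xa22 ya3 za60) (ka xa22 ya3 za46) (ka xa18 ya22 za14) (ka xa18 ya59 za1) (ka xa27 ya47 za60) (ka xa10 ya29 za45) (ka xa10 ya29 za46) (ka xa28 ya27 za61) (ka xa28 ya28 za0) (ka xa24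 ya46 za36) (ka xa24 ya28 za18) (ka xa28 ya28 za1) (ka xa24 ya28 za21) (ka xa18 ya49 za33) (ka xa18 ya49 za34) (ka xa18 ya49 za35) (ka xa18 ya49 za36) (ka xa25 ya0 za10) (ka xa18 ya20 za6) (ka xa18 ya49 za38) (ka xa18 ya42 za27) (ka xa18 ya42 za23) (ka xa28 ya27 za16) (ka xa18 ya19 za11) (ka xa18 ya19 za10) (ka xa24 ya46 za12) (ka xa26 ya20 za27) (ka xa24 ya46 za11) (ka xa16 ya40 za1) (ka xa18 ya59 za38) (ka xa18 ya59 za39) (ka xa18 ya59 za40) (ka xa18 ya59 za41) (ka xa18 ya59 za42) (ka xa18 ya29 za3) (ka xa10 ya30 za4) (ka xa26 ya19 za23) (ka xa18 ya19 za23) (ka xa26 ya30 za11) (ka xa18 ya39 za3) (ka xa18 ya59 za59) (ka xa18 ya59 za60) (ka xa19 ya0 za1) (ka xa19 ya0 za2) (ka xa10 ya30 za12) (ka xa10 ya30 za9) (ka xa15 ya32 za12) (ka xa24 ya46 za30) (ka xa18 ya57 za6) (ka xa18 ya7 za13) (ka xa18 ya7 za31) (ka xa18 ya7 za35)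 (ka xa10 ya30 za15)) (@D3.rec (fun _ => Pt) (ka xa21 ya28 za32) (ka xa26 ya13 za9) (ka xa18 ya59 za22) (ka xa23 ya19 za7) (ka xa26 ya19 za54) (ka xa10 ya30 za17) (ka xa18 ya57 za7) (ka xa18 ya57 za8) (ka xa22 ya36 za27) (ka xa27 ya46 za12) (ka xa27 ya59 za60) (ka xa18 ya49 za45) (ka xa23 ya33 za46) (ka xa27 ya48 za14) (ka xa15 ya14 za37) (ka xa18 ya5 za54) (ka xa19 ya2 za19) (ka xa19 ya2 za20) (ka xa16 ya22 za14) (ka xa19 ya2 za16) (ka xa19 ya2 za17) (ka xa18 ya13 za6) (ka xa19 ya0 za25) (ka xa19 ya0 za26) (ka xa19 ya0 za27) (ka xa18 ya14 za31) (ka xa19 ya0 za28) (ka xa24 ya24 za11) (ka xa19 ya0 za29) (ka xa19 ya0 za30) (ka xa16 ya30 za48) (ka xa20 ya7 za46) (ka xa16 ya39 za61) (ka xa18 ya50 za56) (ka xa23 ya59 za24) (ka xa10 ya33 za38) (ka xa10 ya34 za3) (ka xa10 ya34 za2) (ka xa10 ya30 za32) (ka xa23 ya0 za28) (ka xa14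 ya38 za33) (ka xa10 ya33 za55) (ka xa10 ya33 za56) (ka xa10 ya33 za57) (ka xa10 ya33 za58) (ka xa10 ya33 za59) (ka xa10 ya34 za0) (ka xa10 ya34 za25) (ka xa10 ya34 za24) (ka xa10 ya30 za37) (ka xa28 ya29 za2) (ka xa28 ya29 za3) (ka xa10 ya34 za21) (ka xa10 ya34 za22) (ka xa10 ya34 za23) (ka xa10 ya34 za16) (ka xa10 ya34 za15) (ka xa10 ya30 za40) (ka xa28 ya29 za15) (ka xa28 ya29 za16) (ka xa10 ya34 za29) (ka xa10 ya34 za30)) (@D3.rec (fun _ => Pt) (ka xa10 ya34 za31) (ka xa10 ya30 za47) (ka xa10 ya30 za43) (ka xa28 ya29 za23) (ka xa26 ya7 za51) (ka xa24 ya26 za29) (ka xa10 ya30 za44) (ka xa24 ya29 za22) (ka xa28 ya29 za26) (ka xa28 ya29 za27) (ka xa10 ya30 za46) (ka xa21 ya9 za56) (ka xa21 ya9 za55) (ka xa17 ya26 za9) (ka xa24 ya38 za39) (ka xa10 ya34 za49) (ka xa24 ya38 za41) (ka xa10 ya34 za51) (ka xa10 ya34 za54) (ka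 xa10 ya34 za55) (ka xa10 ya34 za56) (ka xa10 ya37 za24) (ka xa10 ya37 za23) (ka xa10 ya30 za53) (ka xa10 ya35 za48) (ka xa10 ya35 za47) (ka xa10 ya30 za56) (ka xa10 ya36 za14) (ka xa10 ya36 za13) (ka xa10 ya30 za57) (ka xa28 ya29 za41) (ka xa10 ya36 za11) (ka xa10 ya36 za12) (ka xa10 ya36 za6) (ka xa10 ya36 za5) (ka xa10 ya30 za59) (ka xa28 ya29 za49) (ka xa10 ya36 za20) (ka xa19 ya39 za25) (ka xa10 ya37 za52) (ka xa16 ya43 za48) (ka xa10 ya31 za2) (ka xa10 ya37 za58) (ka xa10 ya37 za57) (ka xa28 ya29 za53) (ka xa28 ya29 za54) (ka xa28 ya29 za56) (ka xa10 ya36 za39) (ka xa10 ya36 za43) (ka xa10 ya36 za44) (ka xa23 ya57 za30) (ka xa10 ya36 za47) (ka xa28 ya29 za61) (ka xa10 ya36 za50) (ka xa10 ya36 za52) (ka xa10 ya36 za53) (ka xa10 ya36 za54) (ka xa10 ya36 za55) (ka xa10 ya36 za61) (ka xa10 ya35 za32) (ka xa10 ya35 za31)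 (ka xa10 ya31 za11)) (@D3.rec (fun _ => Pt) (ka xa14 ya36 za35) (ka xa28 ya30 za14) (ka xa10 ya36 za28) (ka xa10 ya36 za24) (ka xa10 ya36 za32) (ka xa10 ya36 za31) (ka xa26 ya19 za32) (ka xa24 ya19 za21) (ka xa24 ya19 za22) (ka xa24 ya19 za40) (ka xa10 ya38 za3) (ka xa10 ya38 za4) (ka xa10 ya38 za5) (ka xa10 ya38 za6) (ka xa28 ya30 za29) (ka xa10 ya38 za9) (ka xa10 ya38 za12) (ka xa10 ya38 za13) (ka xa10 ya38 za14) (ka xa10 ya38 za15) (ka xa10 ya38 za16) (ka xa19 ya25 za16) (ka xa10 ya38 za19) (ka xa10 ya39 za1) (ka xa10 ya31 za29) (ka xa28 ya30 za40) (ka xa10 ya39 za0) (ka xa10 ya59 za54) (ka xa10 ya39 za53) (ka xa10 ya31 za34) (ka xa28 ya30 za43) (ka xa22 ya39 za5) (ka xa10 ya39 za25) (ka xa19 ya51 za49) (ka xa10 ya39 za29) (ka xa10 ya39 za36) (ka xa19 ya15 za6) (ka xa10 ya59 za58) (ka xa10 ya39 za6) (ka xa10 ya31 za47)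 (ka xa14 ya1 za9) (ka xa10 ya39 za61) (ka xa14 ya33 za48) (ka xa10 ya40 za3) (ka xa28 ya30 za48) (ka xa10 ya40 za7) (ka xa10 ya40 za8) (ka xa10 ya40 za49) (ka xa10 ya40 za50) (ka xa10 ya40 za51) (ka xa10 ya41 za14) (ka xa10 ya40 za47) (ka xa10 ya31 za58) (ka xa10 ya31 za59) (ka xa10 ya40 za59) (ka xa10 ya40 za58) (ka xa27 ya52 za4) (ka xa21 ya9 za15) (ka xa24 ya0 za10) (ka xa10 ya40 za24) (ka xa10 ya40 za20) (ka xa10 ya40 za21)) (@D3.rec (fun _ => Pt) (ka xa10 ya40 za33) (ka xa10 ya41 za6) (ka xa10 ya32 za16) (ka xa10 ya32 za7) (ka xa24 ya29 za2) (ka xa11 ya0 za16) (ka xa26 ya33 za17) (ka xa24 ya26 za49) (ka xa10 ya32 za11) (ka xa25 ya10 za15) (ka xa28 ya30 za59) (ka xa18 ya8 za47) (ka xa16 ya18 za19) (ka xa25 ya47 za26) (ka xa19 ya42 za3) (ka xa10 ya32 za17) (ka xa27 ya52 za5) (ka xa28 ya30 za60) (ka xa10 ya42 za7) (ka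 xa10 ya32 za19) (ka xa26 ya15 za53) (ka xa23 ya36 za42) (ka xa10 ya41 za54) (ka xa10 ya42 za13) (ka xa10 ya42 za14) (ka xa28 ya31 za7) (ka xa10 ya42 za20) (ka xa10 ya42 za21) (ka xa21 ya4 za0) (ka xa10 ya42 za33) (ka xa20 ya46 za20) (ka xa10 ya42 za37) (ka xa10 ya42 za39) (ka xa19 ya10 za30) (ka xa16 ya13 za49) (ka xa14 ya20 za55) (ka xa10 ya42 za52) (ka xa10 ya42 za53) (ka xa17 ya39 za36) (ka xa10 ya32 za32) (ka xa28 ya31 za11) (ka xa19 ya5 za60) (ka xa16 ya0 za56) (ka xa10 ya32 za35) (ka xa18 ya17 za56) (ka xa17 ya39 za39) (ka xa16 ya6 za35) (ka xa20 ya16 za21) (ka xa24 ya43 za21) (ka xa21 ya56 za32) (ka xa20 ya16 za22) (ka xa25 ya36 za61) (ka xa21 ya8 za49) (ka xa23 ya13 za28) (ka xa24 ya33 za1) (ka xa19 ya6 za8) (ka xa19 ya42 za9) (ka xa19 ya6 za11) (ka xa17 ya53 za5) (ka xa16 ya50 za42) (ka xa19 ya5 za41) (ka xa15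 ya45 za13)) (@D3.rec (fun _ => Pt) (ka xa25 ya32 za53) (ka xa21 ya18 za58) (ka xa25 ya37 za57) (ka xa10 ya32 za50) (ka xa26 ya1 za9) (ka xa26 ya1 za8) (ka xa14 ya46 za49) (ka xa24 ya52 za25) (ka xa19 ya5 za55) (ka xa28 ya31 za37) (ka xa15 ya3 za6) (ka xa19 ya5 za57) (ka xa14 ya46 za42) (ka xa15 ya3 za37) (ka xa10 ya32 za54) (ka xa24 ya52 za40) (ka xa18 ya44 za17) (ka xa18 ya32 za25) (ka xa10 ya32 za56) (ka xa28 ya31 za45) (ka xa28 ya31 za46) (ka xa24 ya48 za17) (ka xa25 ya34 za0) (ka xa18 ya31 za43) (ka xa25 ya33 za60) (ka xa24 ya47 za61) (ka xa24 ya48 za0) (ka xa18 ya34 za37) (ka xa16 ya42 za37) (ka xa26 ya32 za10) (ka xa26 ya30 za54) (ka xa15 ya12 za6) (ka xa27 ya52 za30) (ka xa26 ya20 za60) (ka xa27 ya47 za38) (ka xa28 ya8 za19) (ka xa27 ya52 za29) (ka xa28 ya8 za20) (ka xa10 ya33 za6) (ka xa28 ya5 za24) (ka xa28 ya5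 za20) (ka xa17 ya26 za10) (ka xa26 ya32 za14) (ka xa26 ya32 za15) (ka xa10 ya34 za52) (ka xa21 ya55 za13) (ka xa21 ya55 za14) (ka xa11 ya57 za11) (ka xa18 ya17 za51) (ka xa28 ya4 za53) (ka xa27 ya18 za58) (ka xa10 ya33 za13) (ka xa16 ya2 za7) (ka xa27 ya10 za50) (ka xa18 ya41 za38) (ka xa17 ya34 za39) (ka xa10 ya33 za18) (ka xa16 ya2 za3) (ka xa15 ya52 za19) (ka xa24 ya16 za53) (ka xa10 ya33 za20) (ka xa28 ya32 za28)) (@D3.rec (fun _ => Pt) (ka xa28 ya32 za29) (ka xa19 ya8 za6) (ka xa28 ya4 za55) (ka xa28 ya4 za54) (ka xa10 ya33 za23) (ka xa26 ya45 za27) (ka xa19 ya8 za4) (ka xa25 ya19 za52) (ka xa21 ya54 za20) (ka xa19 ya7 za58) (ka xa24 ya22 za55) (ka xa26 ya42 za48) (ka xa21 ya54 za21) (ka xa19 ya7 za57) (ka xa17 ya26 za2) (ka xa24 ya22 za57) (ka xa22 ya35 za41) (ka xa14 ya52 za18) (ka xa28 ya32 za48) (ka xa28 ya32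 za50) (ka xa17 ya35 za51) (ka xa14 ya1 za22) (ka xa13 ya4 za1) (ka xa20 ya59 za32) (ka xa24 ya23 za11) (ka xa22 ya57 za20) (ka xa26 ya27 za36) (ka xa28 ya5 za53) (ka xa28 ya5 za54) (ka xa24 ya12 za48) (ka xa28 ya33 za1) (ka xa24 ya23 za14) (ka xa24 ya23 za16) (ka xa24 ya23 za15) (ka xa28 ya28 za51) (ka xa28 ya33 za11) (ka xa28 ya26 za47) (ka xa15 ya25 za44) (ka xa10 ya33 za40) (ka xa26 ya28 za10) (ka xa15 ya25 za25) (ka xa15 ya25 za41) (ka xa15 ya25 za42) (ka xa21 ya26 za42) (ka xa19 ya15 za5) (ka xa17 ya35 za48) (ka xa17 ya35 za47) (ka xa10 ya33 za45) (ka xa28 ya25 za33) (ka xa25 ya53 za0) (ka xa10 ya45 za31) (ka xa10 ya33 za47) (ka xa25 ya20 za43) (ka xa14 ya36 za26) (ka xa28 ya15 za58) (ka xa10 ya33 za51) (ka xa10 ya33 za52) (ka xa19 ya7 za13) (ka xa19 ya7 za9) (ka xa12 ya46 za3) (ka xa23 ya0 za20) (ka xa14 ya38 za16))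 (@D3.rec (fun _ => Pt) (ka xa24 ya19 za42) (ka xa23 ya0 za21) (ka xa28 ya33 za26) (ka xa28 ya33 za37) (ka xa19 ya7 za6) (ka xa28 ya33 za38) (ka xa19 ya7 za1) (ka xa28 ya28 za54) (ka xa24 ya12 za41) (ka xa22 ya49 za26) (ka xa23 ya0 za33) (ka xa28 ya33 za48) (ka xa28 ya28 za56) (ka xa28 ya33 za52) (ka xa28 ya28 za58) (ka xa28 ya28 za59) (ka xa19 ya12 za12) (ka xa28 ya28 za60) (ka xa19 ya12 za10) (ka xa21 ya0 za42) (ka xa21 ya0 za43) (ka xa28 ya34 za3) (ka xa28 ya28 za61) (ka xa26 ya0 za23) (ka xa22 ya11 za58) (ka xa21 ya1 za10) (ka xa28 ya28 za52) (ka xa10 ya34 za5) (ka xa10 ya34 za6) (ka xa14 ya39 za21) (ka xa14 ya39 za23) (ka xa28 ya34 za9) (ka xa28 ya34 za10) (ka xa14 ya38 za52) (ka xa14 ya40 za24) (ka xa14 ya48 za31) (ka xa24 ya13 za6) (ka xa26 ya36 za45) (ka xa24 ya13 za4) (ka xa28 ya34 za21) (ka xa26 ya36 za38) (ka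 xa28 ya34 za23) (ka xa26 ya36 za44) (ka xa19 ya13 za25) (ka xa26 ya36 za35) (ka xa26 ya36 za36) (ka xa21 ya11 za25) (ka xa21 ya0 za59) (ka xa28 ya33 za14) (ka xa25 ya24 za22) (ka xa22 ya20 za23) (ka xa24 ya28 za58) (ka xa27 ya22 za23) (ka xa24 ya38 za40) (ka xa10 ya34 za18) (ka xa10 ya34 za19) (ka xa25 ya25 za1) (ka xa28 ya29 za17) (ka xa19 ya37 za30) (ka xa19 ya37 za29) (ka xa24 ya39 za46) (ka xa28 ya34 za32)) (@D3.rec (fun _ => Pt) (ka xa24 ya39 za45) (ka xa28 ya29 za11) (ka xa22 ya7 za24) (ka xa28 ya29 za12) (ka xa28 ya29 za13) (ka xa19 ya11 za34) (ka xa28 ya29 za14) (ka xa19 ya11 za32) (ka xa24 ya51 za26) (ka xa28 ya29 za1) (ka xa27 ya24 za13) (ka xa28 ya29 za0) (ka xa28 ya1 za21) (ka xa28 ya1 za22) (ka xa10 ya34 za27) (ka xa10 ya34 za28) (ka xa28 ya29 za5) (ka xa28 ya29 za4) (ka xa14 ya28 za30) (ka xa14 ya28 za29)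 (ka xa28 ya34 za52) (ka xa24 ya27 za53) (ka xa28 ya34 za53) (ka xa28 ya34 za54) (ka xa22 ya20 za12) (ka xa28 ya8 za45) (ka xa28 ya29 za20) (ka xa28 ya29 za21) (ka xa28 ya29 za22) (ka xa19 ya13 za49) (ka xa10 ya34 za46) (ka xa10 ya34 za47) (ka xa27 ya24 za15) (ka xa10 ya34 za36) (ka xa10 ya34 za37) (ka xa27 ya24 za14) (ka xa27 ya24 za16) (ka xa24 ya27 za1) (ka xa12 ya56 za27) (ka xa23 ya57 za47) (ka xa25 ya59 za25) (ka xa10 ya34 za40) (ka xa20 ya29 za59) (ka xa28 ya35 za23) (ka xa21 ya11 za33) (ka xa26 ya20 za39) (ka xa10 ya34 za39) (ka xa28 ya35 za32) (ka xa10 ya34 za42) (ka xa10 ya34 za43) (ka xa10 ya34 za44) (ka xa10 ya34 za45) (ka xa28 ya35 za41) (ka xa24 ya13 za33) (ka xa28 ya35 za36) (ka xa28 ya35 za45) (ka xa20 ya46 za57) (ka xa28 ya35 za38) (ka xa17 ya26 za47) (ka xa17 ya20 za58) (ka xa17 ya12 za37) (ka xa17 ya12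 za3)) (@D3.rec (fun _ => Pt) (ka xa19 ya42 za0) (ka xa21 ya9 za53) (ka xa28 ya35 za39) (ka xa28 ya35 za40) (ka xa10 ya42 za1) (ka xa10 ya42 za0) (ka xa12 ya11 za33) (ka xa23 ya0 za56) (ka xa10 ya34 za50) (ka xa28 ya24 za27) (ka xa28 ya24 za26) (ka xa28 ya5 za56) (ka xa28 ya5 za60) (ka xa28 ya29 za32) (ka xa24 ya38 za35) (ka xa28 ya5 za51) (ka xa28 ya5 za48) (ka xa28 ya5 za49) (ka xa28 ya5 za50) (ka xa28 ya36 za21) (ka xa27 ya51 za34) (ka xa27 ya59 za30) (ka xa15 ya52 za8) (ka xa28 ya36 za26) (ka xa27 ya51 za35) (ka xa27 ya58 za59) (ka xa28 ya29 za35) (ka xa17 ya21 za47) (ka xa17 ya26 za55) (ka xa10 ya42 za42) (ka xa19 ya5 za33) (ka xa17 ya49 za2) (ka xa17 ya49 za1) (ka xa19 ya44 za16) (ka xa25 ya47 za13) (ka xa19 ya14 za60) (ka xa19 ya14 za61) (ka xa19 ya14 za59) (ka xa10 ya35 za6) (ka xa14 ya58 za22) (ka xa28 ya36 za43)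 (ka xa21 ya48 za30) (ka xa24 ya14 za47) (ka xa12 ya18 za27) (ka xa19 ya11 za4) (ka xa19 ya11 za10) (ka xa17 ya49 za41) (ka xa11 ya5 za50) (ka xa11 ya4 za12) (ka xa17 ya49 za21) (ka xa17 ya49 za20) (ka xa21 ya48 za52) (ka xa17 ya49 za18) (ka xa17 ya49 za19) (ka xa16 ya13 za50) (ka xa17 ya49 za13) (ka xa17 ya49 za12) (ka xa10 ya35 za27) (ka xa15 ya25 za5) (ka xa15 ya25 za3) (ka xa18 ya33 za50) (ka xa14 ya47 za47)) (@D3.rec (fun _ => Pt) (ka xa17 ya51 za54) (ka xa18 ya0 za44) (ka xa14 ya47 za48) (ka xa17 ya51 za53) (ka xa19 ya10 za44) (ka xa20 ya28 za17) (ka xa17 ya49 za47) (ka xa24 ya34 za15) (ka xa17 ya49 za49) (ka xa17 ya49 za50) (ka xa19 ya10 za45) (ka xa28 ya36 za60) (ka xa15 ya29 za6) (ka xa15 ya29 za7) (ka xa28 ya37 za5) (ka xa15 ya28 za60) (ka xa15 ya28 za59) (ka xa10 ya35 za45) (ka xa15 ya29 za5) (ka xa19 ya29 za48)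 (ka xa26 ya34 za54) (ka xa19 ya41 za20) (ka xa28 ya37 za14) (ka xa26 ya35 za26) (ka xa26 ya55 za55) (ka xa10 ya35 za50) (ka xa27 ya19 za18) (ka xa27 ya19 za17) (ka xa28 ya37 za19) (ka xa25 ya40 za26) (ka xa28 ya37 za23) (ka xa25 ya40 za29) (ka xa19 ya9 za7) (ka xa25 ya40 za34) (ka xa19 ya9 za5) (ka xa25 ya40 za22) (ka xa24 ya20 za44) (ka xa23 ya12 za21) (ka xa25 ya50 za27) (ka xa10 ya36 za0) (ka xa19 ya21 za3) (ka xa19 ya21 za4) (ka xa22 ya6 za14) (ka xa26 ya56 za38) (ka xa28 ya37 za32) (ka xa19 ya20 za4) (ka xa19 ya20 za5) (ka xa19 ya20 za6) (ka xa18 ya20 za18) (ka xa28 ya37 za45) (ka xa27 ya23 za47) (ka xa28 ya37 za48) (ka xa22 ya14 za8) (ka xa28 ya26 za45) (ka xa19 ya23 za18) (ka xa28 ya26 za46) (ka xa26 ya34 za25) (ka xa20 ya2 za56) (ka xa25 ya46 za5) (ka xa28 ya29 za48) (ka xa24 ya17 za57) (ka xa25 ya49 za16)) (@D3.rec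 (fun _ => Pt) (ka xa25 ya46 za4) (ka xa28 ya29 za46) (ka xa10 ya36 za9) (ka xa18 ya46 za19) (ka xa28 ya21 za36) (ka xa24 ya15 za59) (ka xa28 ya38 za3) (ka xa28 ya21 za37) (ka xa28 ya38 za4) (ka xa18 ya56 za55) (ka xa19 ya8 za18) (ka xa28 ya29 za45) (ka xa19 ya8 za16) (ka xa19 ya29 za20) (ka xa28 ya29 za40) (ka xa25 ya40 za44) (ka xa19 ya33 za25) (ka xa28 ya29 za39) (ka xa27 ya10 za49) (ka xa10 ya36 za16) (ka xa10 ya36 za17) (ka xa19 ya17 za29) (ka xa28 ya38 za23) (ka xa28 ya38 za24) (ka xa28 ya32 za37) (ka xa23 ya58 za31) (ka xa28 ya38 za25) (ka xa19 ya17 za60) (ka xa19 ya17 za61) (ka xa19 ya18 za0) (ka xa19 ya18 za1) (ka xa28 ya26 za40) (ka xa19 ya23 za29) (ka xa28 ya29 za52) (ka xa27 ya38 za60) (ka xa10 ya36 za21) (ka xa15 ya1 za33) (ka xa18 ya46 za21) (ka xa28 ya38 za46) (ka xa19 ya33 za20) (ka xa27 ya35 za30) (ka xa27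 ya36 za28) (ka xa28 ya21 za3) (ka xa24 ya20 za43) (ka xa26 ya34 za27) (ka xa10 ya36 za25) (ka xa16 ya37 za53) (ka xa24 ya17 za11) (ka xa21 ya54 za15) (ka xa22 ya39 za60) (ka xa23 ya59 za23) (ka xa10 ya36 za33) (ka xa10 ya36 za35) (ka xa10 ya36 za36) (ka xa28 ya5 za19) (ka xa14 ya35 za0) (ka xa25 ya30 za57) (ka xa28 ya38 za58) (ka xa24 ya21 za27) (ka xa26 ya56 za59) (ka xa18 ya2 za24) (ka xa24 ya10 za0)) (@D3.rec (fun _ => Pt) (ka xa27 ya16 za14) (ka xa18 ya2 za27) (ka xa28 ya38 za59) (ka xa28 ya38 za60) (ka xa24 ya24 za49) (ka xa24 ya24 za20) (ka xa10 ya36 za38) (ka xa27 ya53 za59) (ka xa21 ya39 za9) (ka xa24 ya12 za37) (ka xa18 ya56 za58) (ka xa10 ya36 za40) (ka xa24 ya46 za26) (ka xa28 ya17 za5) (ka xa17 ya50 za24) (ka xa28 ya18 za53) (ka xa24 ya46 za23) (ka xa28 ya29 za57) (ka xa28 ya29 za58) (ka xa24 ya24 za58) (ka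 xa28 ya29 za59) (ka xa28 ya19 za13) (ka xa24 ya17 za53) (ka xa10 ya36 za46) (ka xa28 ya39 za24) (ka xa19 ya8 za43) (ka xa26 ya39 za5) (ka xa10 ya36 za48) (ka xa23 ya57 za23) (ka xa28 ya39 za31) (ka xa28 ya39 za32) (ka xa15 ya22 za39) (ka xa28 ya30 za1) (ka xa24 ya12 za3) (ka xa28 ya39 za39) (ka xa28 ya30 za3) (ka xa28 ya30 za4) (ka xa28 ya39 za47) (ka xa28 ya30 za6) (ka xa28 ya30 za7) (ka xa28 ya30 za8) (ka xa28 ya39 za52) (ka xa28 ya30 za10) (ka xa28 ya30 za11) (ka xa28 ya30 za12) (ka xa28 ya40 za0) (ka xa26 ya42 za38) (ka xa26 ya55 za54) (ka xa24 ya26 za20) (ka xa19 ya9 za29) (ka xa26 ya42 za39) (ka xa17 ya6 za53) (ka xa16 ya38 za24) (ka xa16 ya38 za25) (ka xa28 ya30 za13) (ka xa11 ya26 za17) (ka xa17 ya6 za60) (ka xa20 ya57 za21) (ka xa20 ya57 za22) (ka xa20 ya57 za24) (ka xa28 ya40 za19) (ka xa20 ya57 za16)) (@D3.rec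 (fun _ => Pt) (ka xa20 ya38 za54) (ka xa28 ya40 za22) (ka xa26 ya37 za61) (ka xa10 ya37 za6) (ka xa28 ya40 za25) (ka xa28 ya40 za21) (ka xa16 ya38 za15) (ka xa16 ya38 za13) (ka xa20 ya57 za19) (ka xa20 ya57 za13) (ka xa20 ya57 za20) (ka xa16 ya41 za28) (ka xa20 ya56 za49) (ka xa10 ya37 za10) (ka xa28 ya40 za36) (ka xa19 ya45 za4) (ka xa16 ya38 za4) (ka xa16 ya39 za23) (ka xa22 ya4 za17) (ka xa19 ya14 za21) (ka xa12 ya54 za37) (ka xa19 ya14 za19) (ka xa28 ya33 za25) (ka xa15 ya29 za2) (ka xa20 ya57 za11) (ka xa20 ya57 za12) (ka xa20 ya57 za14) (ka xa16 ya50 za60) (ka xa10 ya37 za20) (ka xa24 ya19 za58) (ka xa10 ya37 za30) (ka xa27 ya37 za15) (ka xa19 ya18 za25) (ka xa25 ya49 za11) (ka xa28 ya29 za36) (ka xa19 ya18 za24) (ka xa24 ya20 za54) (ka xa10 ya37 za26) (ka xa10 ya37 za27) (ka xa24 ya29 za20) (ka xa24 ya29 za26) (ka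 xa28 ya40 za61) (ka xa23 ya45 za19) (ka xa15 ya44 za52) (ka xa24 ya23 za4) (ka xa28 ya41 za0) (ka xa24 ya24 za21) (ka xa23 ya44 za52) (ka xa23 ya44 za53) (ka xa21 ya6 za11) (ka xa22 ya45 za44) (ka xa26 ya5 za8) (ka xa16 ya50 za48) (ka xa28 ya40 za51) (ka xa28 ya40 za52) (ka xa28 ya40 za53) (ka xa26 ya14 za35) (ka xa21 ya47 za33) (ka xa16 ya21 za31) (ka xa19 ya10 za37) (ka xa19 ya10 za35) (ka xa19 ya10 za36)) (@D3.rec (fun _ => Pt) (ka xa14 ya36 za37) (ka xa14 ya36 za38) (ka xa18 ya25 za26) (ka xa17 ya50 za28) (ka xa17 ya50 za29) (ka xa19 ya7 za44) (ka xa19 ya4 za36) (ka xa28 ya29 za47) (ka xa10 ya37 za48) (ka xa15 ya36 za43) (ka xa19 ya50 za56) (ka xa24 ya24 za19) (ka xa26 ya48 za0) (ka xa11 ya3 za44) (ka xa19 ya48 za13) (ka xa19 ya18 za48) (ka xa19 ya18 za49) (ka xa19 ya39 za27) (ka xa24 ya29 za16) (ka xa24 ya20 za60)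 (ka xa18 ya5 za1) (ka xa18 ya4 za61) (ka xa23 ya11 za56) (ka xa10 ya37 za59) (ka xa10 ya37 za60) (ka xa10 ya37 za61) (ka xa10 ya38 za1) (ka xa28 ya41 za40) (ka xa27 ya23 za20) (ka xa10 ya59 za55) (ka xa24 ya29 za21) (ka xa23 ya50 za11) (ka xa28 ya41 za38) (ka xa23 ya51 za48) (ka xa28 ya41 za39) (ka xa22 ya15 za6) (ka xa28 ya41 za48) (ka xa26 ya48 za6) (ka xa24 ya20 za30) (ka xa19 ya40 za14) (ka xa24 ya23 za8) (ka xa24 ya20 za29) (ka xa14 ya30 za24) (ka xa24 ya4 za23) (ka xa14 ya30 za23) (ka xa17 ya49 za42) (ka xa28 ya30 za22) (ka xa13 ya19 za48) (ka xa24 ya46 za9) (ka xa17 ya49 za43) (ka xa28 ya30 za23) (ka xa28 ya30 za24) (ka xa28 ya30 za25) (ka xa28 ya30 za26) (ka xa28 ya30 za27) (ka xa23 ya57 za26) (ka xa10 ya38 za7) (ka xa21 ya0 za58) (ka xa19 ya52 za8) (ka xa15 ya23 za10) (ka xa15 ya23 za11) (ka xa19 ya23 za36)) (@D3.rec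 (fun _ => Pt) (ka xa25 ya41 za58) (ka xa28 ya30 za30) (ka xa21 ya30 za36) (ka xa28 ya30 za28) (ka xa10 ya38 za11) (ka xa26 ya39 za22) (ka xa19 ya49 za42) (ka xa10 ya54 za50) (ka xa28 ya42 za6) (ka xa28 ya30 za32) (ka xa28 ya30 za33) (ka xa28 ya42 za14) (ka xa28 ya30 za34) (ka xa14 ya18 za41) (ka xa28 ya30 za35) (ka xa28 ya30 za36) (ka xa28 ya42 za22) (ka xa25 ya41 za55) (ka xa28 ya30 za38) (ka xa28 ya30 za39) (ka xa28 ya42 za29) (ka xa25 ya42 za4) (ka xa10 ya38 za18) (ka xa19 ya25 za15) (ka xa28 ya42 za32) (ka xa19 ya23 za24) (ka xa25 ya42 za5) (ka xa15 ya53 za5) (ka xa11 ya55 za54) (ka xa19 ya41 za21) (ka xa25 ya41 za43) (ka xa25 ya41 za6) (ka xa15 ya23 za18) (ka xa26 ya0 za22) (ka xa24 ya43 za12) (ka xa21 ya56 za6) (ka xa21 ya18 za56) (ka xa26 ya48 za13) (ka xa10 ya38 za27) (ka xa24 ya43 za14) (ka xa24 ya36 za11) (ka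 xa25 ya41 za57) (ka xa25 ya41 za54) (ka xa23 ya42 za20) (ka xa14 ya54 za18) (ka xa15 ya44 za12) (ka xa10 ya38 za30) (ka xa28 ya42 za42) (ka xa28 ya42 za43) (ka xa14 ya6 za51) (ka xa16 ya19 za59) (ka xa16 ya19 za55) (ka xa13 ya58 za24) (ka xa10 ya38 za33) (ka xa24 ya36 za45) (ka xa28 ya42 za51) (ka xa20 ya54 za58) (ka xa26 ya0 za21) (ka xa23 ya42 za18) (ka xa17 ya41 za17) (ka xa20 ya54 za56) (ka xa22 ya31 za10)) (@D3.rec (fun _ => Pt) (ka xa26 ya0 za26) (ka xa20 ya54 za55) (ka xa13 ya58 za25) (ka xa20 ya54 za41) (ka xa25 ya47 za23) (ka xa10 ya40 za19) (ka xa17 ya52 za4) (ka xa10 ya38 za47) (ka xa21 ya8 za18) (ka xa28 ya42 za59) (ka xa28 ya42 za60) (ka xa27 ya29 za36) (ka xa14 ya38 za20) (ka xa25 ya45 za5) (ka xa17 ya51 za2) (ka xa15 ya38 za45) (ka xa17 ya52 za1) (ka xa25 ya10 za45) (ka xa26 ya44 za41) (ka xa25 ya25 za19)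 (ka xa15 ya21 za2) (ka xa14 ya32 za41) (ka xa14 ya34 za12) (ka xa25 ya46 za2) (ka xa10 ya38 za61) (ka xa14 ya33 za19) (ka xa17 ya29 za2) (ka xa20 ya46 za2) (ka xa18 ya44 za20) (ka xa19 ya12 za21) (ka xa11 ya0 za0) (ka xa11 ya0 za29) (ka xa11 ya0 za38) (ka xa11 ya0 za39) (ka xa10 ya39 za4) (ka xa28 ya43 za6) (ka xa26 ya39 za40) (ka xa18 ya36 za34) (ka xa12 ya11 za24) (ka xa16 ya39 za31) (ka xa18 ya36 za14) (ka xa10 ya39 za15) (ka xa10 ya39 za16) (ka xa10 ya39 za17) (ka xa28 ya7 za49) (ka xa16 ya21 za29) (ka xa22 ya38 za58) (ka xa28 ya43 za13) (ka xa16 ya8 za60) (ka xa16 ya26 za18) (ka xa26 ya36 za40) (ka xa27 ya2 za38) (ka xa16 ya26 za19) (ka xa28 ya43 za10) (ka xa26 ya22 za26) (ka xa28 ya43 za11) (ka xa28 ya43 za12) (ka xa14 ya38 za21) (ka xa28 ya15 za55) (ka xa28 ya15 za56) (ka xa19 ya12 za27) (ka xa19 ya12 za28)) (@D3.rec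 (fun _ => Pt) (ka xa19 ya12 za29) (ka xa19 ya12 za30) (ka xa10 ya39 za21) (ka xa28 ya43 za30) (ka xa18 ya53 za51) (ka xa18 ya49 za60) (ka xa26 ya50 za7) (ka xa28 ya14 za36) (ka xa18 ya49 za61) (ka xa20 ya12 za25) (ka xa14 ya33 za50) (ka xa10 ya39 za27) (ka xa16 ya22 za11) (ka xa19 ya51 za12) (ka xa11 ya6 za21) (ka xa10 ya41 za30) (ka xa10 ya39 za35) (ka xa28 ya43 za36) (ka xa28 ya8 za57) (ka xa28 ya30 za46) (ka xa11 ya6 za12) (ka xa24 ya52 za5) (ka xa14 ya36 za47) (ka xa10 ya39 za43) (ka xa19 ya14 za35) (ka xa19 ya14 za32) (ka xa28 ya43 za41) (ka xa28 ya43 za42) (ka xa21 ya12 za27) (ka xa27 ya44 za34) (ka xa27 ya40 za43) (ka xa27 ya40 za42) (ka xa28 ya43 za56) (ka xa17 ya53 za12) (ka xa17 ya53 za13) (ka xa27 ya44 za37) (ka xa17 ya53 za15) (ka xa16 ya32 za0) (ka xa10 ya39 za50) (ka xa14 ya43 za39) (ka xa10 ya57 za59) (ka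 xa26 ya46 za1) (ka xa10 ya59 za56) (ka xa24 ya47 za13) (ka xa14 ya36 za45) (ka xa10 ya39 za58) (ka xa18 ya53 za29) (ka xa11 ya0 za1) (ka xa19 ya15 za15) (ka xa19 ya15 za16) (ka xa24 ya29 za27) (ka xa24 ya29 za29) (ka xa28 ya44 za0) (ka xa28 ya44 za7) (ka xa22 ya36 za13) (ka xa22 ya14 za61) (ka xa17 ya50 za55) (ka xa22 ya36 za12) (ka xa19 ya52 za12) (ka xa10 ya40 za0) (ka xa28 ya44 za12) (ka xa25 ya18 za46)) (@D3.rec (fun _ => Pt) (ka xa19 ya20 za37) (ka xa22 ya32 za29) (ka xa15 ya45 za17) (ka xa10 ya40 za4) (ka xa22 ya36 za36) (ka xa10 ya41 za42) (ka xa24 ya26 za31) (ka xa24 ya26 za32) (ka xa13 ya50 za3) (ka xa22 ya26 za26) (ka xa14 ya48 za16) (ka xa28 ya30 za49) (ka xa19 ya30 za61) (ka xa22 ya15 za25) (ka xa20 ya56 za14) (ka xa16 ya41 za6) (ka xa16 ya41 za5) (ka xa28 ya44 za22) (ka xa16 ya40 za23) (ka xa28 ya44 za25)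 (ka xa14 ya30 za45) (ka xa20 ya56 za11) (ka xa28 ya44 za28) (ka xa28 ya44 za32) (ka xa10 ya40 za16) (ka xa28 ya44 za35) (ka xa28 ya44 za27) (ka xa20 ya56 za7) (ka xa14 ya39 za3) (ka xa10 ya41 za11) (ka xa28 ya42 za58) (ka xa14 ya34 za11) (ka xa15 ya21 za5) (ka xa19 ya44 za21) (ka xa15 ya58 za42) (ka xa21 ya3 za54) (ka xa13 ya6 za53) (ka xa10 ya42 za30) (ka xa24 ya28 za56) (ka xa24 ya28 za57) (ka xa28 ya30 za57) (ka xa26 ya12 za44) (ka xa10 ya40 za31) (ka xa10 ya40 za32) (ka xa10 ya40 za35) (ka xa25 ya4 za57) (ka xa24 ya15 za42) (ka xa25 ya4 za58) (ka xa19 ya39 za32) (ka xa18 ya1 za54) (ka xa24 ya16 za35) (ka xa24 ya16 za34) (ka xa17 ya48 za57) (ka xa24 ya28 za61) (ka xa17 ya48 za56) (ka xa24 ya58 za61) (ka xa17 ya45 za21) (ka xa16 ya18 za4) (ka xa23 ya37 za0) (ka xa26 ya23 za36) (ka xa24 ya5 za0) (ka xa24 ya4 za51)) (@D3.rec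 (fun _ => Pt) (ka xa23 ya59 za57) (ka xa24 ya39 za52) (ka xa24 ya39 za53) (ka xa18 ya2 za39) (ka xa19 ya11 za45) (ka xa19 ya11 za46) (ka xa19 ya11 za47) (ka xa18 ya54 za10) (ka xa18 ya4 za18) (ka xa28 ya30 za52) (ka xa15 ya20 za44) (ka xa23 ya50 za9) (ka xa24 ya29 za25) (ka xa28 ya30 za50) (ka xa22 ya34 za33) (ka xa10 ya42 za34) (ka xa20 ya40 za46) (ka xa10 ya40 za56) (ka xa26 ya37 za53) (ka xa15 ya2 za13) (ka xa24 ya50 za36) (ka xa18 ya33 za29) (ka xa18 ya33 za26) (ka xa24 ya21 za54) (ka xa24 ya39 za56) (ka xa24 ya39 za58) (ka xa24 ya1 za19) (ka xa17 ya50 za10) (ka xa28 ya30 za55) (ka xa24 ya29 za28) (ka xa17 ya50 za9) (ka xa28 ya30 za53) (ka xa27 ya34 za2) (ka xa22 ya15 za23) (ka xa23 ya59 za59) (ka xa13 ya17 za59) (ka xa23 ya59 za60) (ka xa19 ya19 za0) (ka xa14 ya13 za32) (ka xa27 ya59 za34) (ka xa10 ya41 za57) (ka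 xa10 ya41 za61) (ka xa10 ya42 za2) (ka xa16 ya21 za30) (ka xa28 ya44 za40) (ka xa10 ya41 za25) (ka xa10 ya41 za29) (ka xa28 ya30 za51) (ka xa10 ya41 za16) (ka xa10 ya41 za17) (ka xa28 ya30 za54) (ka xa26 ya18 za29) (ka xa28 ya45 za40) (ka xa25 ya50 za58) (ka xa24 ya0 za12) (ka xa28 ya45 za41) (ka xa24 ya26 za5) (ka xa10 ya56 za59) (ka xa17 ya53 za17) (ka xa10 ya57 za9) (ka xa17 ya53 za20) (ka xa17 ya53 za21)) (@D3.rec (fun _ => Pt) (ka xa10 ya41 za36) (ka xa17 ya53 za24) (ka xa17 ya53 za25) (ka xa19 ya11 za40) (ka xa19 ya11 za41) (ka xa19 ya50 za57) (ka xa19 ya50 za59) (ka xa21 ya15 za32) (ka xa26 ya51 za31) (ka xa28 ya15 za14) (ka xa10 ya41 za38) (ka xa10 ya41 za39) (ka xa11 ya34 za17) (ka xa20 ya6 za11) (ka xa21 ya13 za59) (ka xa24 ya47 za51) (ka xa10 ya41 za34) (ka xa10 ya41 za35) (ka xa14 ya58 za33) (ka xa22 ya18 za36)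 (ka xa12 ya46 za57) (ka xa19 ya32 za33) (ka xa19 ya51 za44) (ka xa21 ya15 za34) (ka xa26 ya51 za32) (ka xa23 ya52 za3) (ka xa14 ya20 za36) (ka xa28 ya15 za17) (ka xa22 ya16 za27) (ka xa10 ya41 za48) (ka xa10 ya41 za49) (ka xa25 ya50 za28) (ka xa10 ya41 za51) (ka xa10 ya41 za52) (ka xa10 ya41 za53) (ka xa10 ya41 za58) (ka xa10 ya41 za47) (ka xa20 ya10 za40) (ka xa28 ya46 za0) (ka xa19 ya50 za45) (ka xa19 ya50 za47) (ka xa28 ya46 za9) (ka xa26 ya51 za21) (ka xa28 ya45 za56) (ka xa18 ya52 za7) (ka xa23 ya45 za40) (ka xa28 ya15 za9) (ka xa26 ya20 za38) (ka xa20 ya9 za14) (ka xa26 ya51 za24) (ka xa25 ya40 za45) (ka xa26 ya52 za57) (ka xa28 ya46 za24) (ka xa25 ya40 za47) (ka xa26 ya52 za54) (ka xa19 ya41 za3) (ka xa13 ya53 za42) (ka xa19 ya42 za1) (ka xa19 ya41 za15) (ka xa19 ya42 za2) (ka xa11 ya1 za11) (ka xa23 ya48 za45))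 (@D3.rec (fun _ => Pt) (ka xa18 ya52 za0) (ka xa23 ya13 za29) (ka xa18 ya54 za53) (ka xa28 ya2 za45) (ka xa28 ya46 za33) (ka xa13 ya16 za30) (ka xa28 ya45 za61) (ka xa23 ya6 za44) (ka xa26 ya20 za40) (ka xa14 ya15 za24) (ka xa28 ya15 za5) (ka xa18 ya54 za37) (ka xa18 ya51 za57) (ka xa21 ya59 za55) (ka xa21 ya38 za46) (ka xa25 ya51 za2) (ka xa17 ya53 za41) (ka xa27 ya44 za14) (ka xa28 ya44 za41) (ka xa21 ya35 za59) (ka xa17 ya21 za10) (ka xa28 ya35 za59) (ka xa10 ya42 za4) (ka xa10 ya42 za5) (ka xa24 ya46 za39) (ka xa28 ya6 za28) (ka xa27 ya47 za61) (ka xa26 ya21 za13) (ka xa22 ya26 za36) (ka xa28 ya46 za47) (ka xa18 ya55 za40) (ka xa28 ya31 za1) (ka xa22 ya26 za24) (ka xa28 ya31 za2) (ka xa28 ya18 za9) (ka xa10 ya42 za10) (ka xa10 ya42 za11) (ka xa18 ya33 za24) (ka xa28 ya9 za6) (ka xa28 ya46 za52) (ka xa23 ya51 za43)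 (ka xa28 ya46 za53) (ka xa23 ya51 za41) (ka xa27 ya53 za35) (ka xa28 ya31 za4) (ka xa28 ya31 za5) (ka xa28 ya31 za6) (ka xa25 ya12 za28) (ka xa17 ya13 za11) (ka xa17 ya13 za27) (ka xa17 ya13 za28) (ka xa17 ya13 za29) (ka xa27 ya48 za3) (ka xa10 ya42 za19) (ka xa28 ya47 za7) (ka xa22 ya20 za57) (ka xa23 ya36 za46) (ka xa21 ya34 za50) (ka xa22 ya20 za15) (ka xa27 ya51 za19) (ka xa28 ya31 za9) (ka xa27 ya16 za46)) (@D3.rec (fun _ => Pt) (ka xa28 ya17 za58) (ka xa23 ya50 za16) (ka xa10 ya42 za23) (ka xa28 ya47 za17) (ka xa21 ya24 za56) (ka xa28 ya17 za61) (ka xa25 ya48 za14) (ka xa17 ya12 za38) (ka xa13 ya6 za45) (ka xa18 ya36 za52) (ka xa13 ya3 za2) (ka xa27 ya11 za13) (ka xa16 ya58 za16) (ka xa12 ya30 za11) (ka xa28 ya44 za45) (ka xa28 ya44 za46) (ka xa19 ya59 za31) (ka xa24 ya52 za18) (ka xa19 ya11 za54) (ka xa28 ya45 za10)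 (ka xa24 ya27 za21) (ka xa20 ya2 za29) (ka xa27 ya23 za59) (ka xa16 ya57 za44) (ka xa19 ya16 za25) (ka xa14 ya36 za27) (ka xa17 ya52 za30) (ka xa13 ya0 za13) (ka xa14 ya36 za28) (ka xa19 ya12 za32) (ka xa11 ya44 za38) (ka xa14 ya21 za5) (ka xa11 ya30 za19) (ka xa19 ya54 za3) (ka xa16 ya16 za35) (ka xa26 ya10 za20) (ka xa19 ya15 za61) (ka xa16 ya57 za49) (ka xa20 ya59 za37) (ka xa20 ya59 za36) (ka xa10 ya42 za54) (ka xa26 ya23 za30) (ka xa28 ya31 za16) (ka xa18 ya54 za12) (ka xa18 ya54 za13) (ka xa18 ya41 za55) (ka xa11 ya16 za8) (ka xa18 ya54 za15) (ka xa10 ya42 za58) (ka xa20 ya59 za40) (ka xa20 ya59 za39) (ka xa10 ya42 za59) (ka xa28 ya45 za5) (ka xa20 ya59 za43) (ka xa20 ya59 za42) (ka xa10 ya42 za61) (ka xa26 ya23 za34) (ka xa11 ya44 za47) (ka xa10 ya43 za2) (ka xa10 ya43 za3) (ka xa17 ya33 za41) (ka xa20 ya32 za60))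 (@D3.rec (fun _ => Pt) (ka xa20 ya28 za36) (ka xa28 ya47 za48) (ka xa26 ya50 za15) (ka xa28 ya47 za53) (ka xa16 ya46 za46) (ka xa28 ya47 za55) (ka xa16 ya46 za45) (ka xa19 ya53 za33) (ka xa25 ya51 za26) (ka xa25 ya51 za27) (ka xa14 ya29 za45) (ka xa18 ya18 za44) (ka xa28 ya48 za0) (ka xa19 ya53 za32) (ka xa18 ya41 za60) (ka xa18 ya1 za39) (ka xa28 ya15 za42) (ka xa21 ya0 za8) (ka xa20 ya8 za26) (ka xa17 ya34 za28) (ka xa21 ya51 za56) (ka xa20 ya25 za48) (ka xa18 ya1 za41) (ka xa18 ya43 za47) (ka xa20 ya32 za58) (ka xa15 ya4 za57) (ka xa22 ya13 za5) (ka xa20 ya28 za26) (ka xa11 ya24 za60) (ka xa19 ya31 za23) (ka xa19 ya31 za22) (ka xa10 ya43 za29) (ka xa24 ya7 za15) (ka xa19 ya31 za36) (ka xa20 ya59 za0) (ka xa10 ya43 za31) (ka xa21 ya5 za35) (ka xa26 ya5 za4) (ka xa19 ya26 za6) (ka xa10 ya51 za41) (ka xa20 ya59 za4) (ka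 xa20 ya59 za3) (ka xa10 ya43 za34) (ka xa25 ya11 za39) (ka xa19 ya26 za4) (ka xa10 ya43 za38) (ka xa17 ya32 za39) (ka xa17 ya32 za45) (ka xa28 ya48 za25) (ka xa22 ya8 za5) (ka xa22 ya8 za11) (ka xa28 ya48 za28) (ka xa28 ya48 za30) (ka xa17 ya34 za25) (ka xa22 ya11 za56) (ka xa17 ya32 za7) (ka xa25 ya15 za19) (ka xa17 ya32 za55) (ka xa10 ya52 za52) (ka xa17 ya24 za3) (ka xa10 ya52 za53) (ka xa18 ya52 za33)) (@D3.rec (fun _ => Pt) (ka xa17 ya32 za54) (ka xa20 ya59 za27) (ka xa16 ya46 za17) (ka xa10 ya52 za50) (ka xa25 ya23 za38) (ka xa20 ya59 za31) (ka xa28 ya48 za34) (ka xa22 ya8 za4) (ka xa12 ya4 za17) (ka xa19 ya44 za19) (ka xa10 ya43 za55) (ka xa28 ya48 za36) (ka xa21 ya0 za45) (ka xa21 ya0 za44) (ka xa10 ya43 za57) (ka xa19 ya16 za23) (ka xa19 ya4 za21) (ka xa28 ya48 za40) (ka xa10 ya43 za61) (ka xa10 ya44 za0) (ka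 xa17 ya33 za6) (ka xa16 ya56 za42) (ka xa16 ya56 za41) (ka xa26 ya45 za4) (ka xa20 ya20 za34) (ka xa22 ya23 za47) (ka xa27 ya3 za25) (ka xa25 ya51 za33) (ka xa25 ya51 za34) (ka xa25 ya51 za35) (ka xa13 ya22 za52) (ka xa28 ya48 za51) (ka xa25 ya51 za37) (ka xa28 ya48 za56) (ka xa22 ya0 za59) (ka xa19 ya30 za6) (ka xa25 ya51 za39) (ka xa19 ya30 za4) (ka xa25 ya51 za61) (ka xa25 ya51 za41) (ka xa25 ya34 za22) (ka xa15 ya28 za39) (ka xa20 ya56 za46) (ka xa28 ya49 za10) (ka xa21 ya0 za57) (ka xa21 ya0 za55) (ka xa10 ya44 za21) (ka xa26 ya45 za40) (ka xa24 ya36 za28) (ka xa26 ya54 za54) (ka xa26 ya2 za61) (ka xa19 ya33 za50) (ka xa20 ya18 za20) (ka xa25 ya21 za56) (ka xa20 ya39 za2) (ka xa10 ya44 za29) (ka xa26 ya48 za33) (ka xa24 ya7 za53) (ka xa24 ya7 za57) (ka xa17 ya32 za46) (ka xa10 ya44 za35) (ka xa17 ya32 za9)) (@D3.rec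 (fun _ => Pt) (ka xa17 ya32 za33) (ka xa27 ya15 za52) (ka xa27 ya15 za50) (ka xa25 ya34 za61) (ka xa19 ya24 za44) (ka xa25 ya9 za4) (ka xa19 ya24 za38) (ka xa25 ya32 za17) (ka xa17 ya22 za11) (ka xa24 ya33 za40) (ka xa16 ya1 za61) (ka xa16 ya1 za60) (ka xa28 ya49 za27) (ka xa25 ya25 za55) (ka xa17 ya22 za5) (ka xa11 ya47 za59) (ka xa25 ya25 za57) (ka xa13 ya2 za25) (ka xa21 ya0 za34) (ka xa24 ya34 za30) (ka xa17 ya33 za44) (ka xa17 ya33 za45) (ka xa12 ya14 za16) (ka xa10 ya44 za56) (ka xa10 ya44 za57) (ka xa19 ya56 za22) (ka xa21 ya1 za12) (ka xa26 ya9 za55) (ka xa21 ya1 za11) (ka xa21 ya1 za14) (ka xa21 ya1 za13) (ka xa22 ya45 za37) (ka xa22 ya45 za36) (ka xa20 ya29 za52) (ka xa20 ya29 za51) (ka xa28 ya49 za31) (ka xa16 ya57 za22) (ka xa20 ya20 za35) (ka xa20 ya29 za54) (ka xa20 ya29 za55) (ka xa14 ya42 za47) (ka xa16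 ya55 za49) (ka xa24 ya7 za56) (ka xa18 ya7 za55) (ka xa17 ya32 za43) (ka xa18 ya7 za58) (ka xa12 ya50 za9) (ka xa20 ya57 za3) (ka xa18 ya7 za60) (ka xa28 ya49 za47) (ka xa18 ya7 za61) (ka xa17 ya31 za51) (ka xa10 ya45 za48) (ka xa10 ya45 za22) (ka xa10 ya45 za23) (ka xa10 ya45 za28) (ka xa18 ya17 za8) (ka xa10 ya45 za17) (ka xa25 ya53 za2) (ka xa15 ya29 za10) (ka xa15 ya29 za11) (ka xa20 ya17 za48)) (@D3.rec (fun _ => Pt) (ka xa20 ya42 za7) (ka xa20 ya7 za20) (ka xa21 ya3 za39) (ka xa22 ya11 za61) (ka xa14 ya36 za43) (ka xa22 ya11 za59) (ka xa25 ya20 za46) (ka xa10 ya45 za21) (ka xa28 ya49 za57) (ka xa28 ya49 za58) (ka xa28 ya33 za24) (ka xa22 ya11 za57) (ka xa22 ya11 za52) (ka xa25 ya59 za39) (ka xa10 ya45 za32) (ka xa14 ya38 za28) (ka xa28 ya49 za48) (ka xa28 ya49 za49) (ka xa17 ya1 za50) (ka xa21 ya39 za54) (ka xa15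 ya5 za23) (ka xa16 ya55 za38) (ka xa12 ya55 za23) (ka xa15 ya44 za20) (ka xa11 ya14 za9) (ka xa24 ya4 za47) (ka xa20 ya7 za17) (ka xa28 ya22 za49) (ka xa24 ya4 za46) (ka xa23 ya57 za45) (ka xa12 ya5 za38) (ka xa12 ya5 za40) (ka xa17 ya1 za45) (ka xa10 ya45 za42) (ka xa10 ya45 za43) (ka xa10 ya45 za44) (ka xa10 ya45 za45) (ka xa10 ya45 za37) (ka xa20 ya27 za61) (ka xa20 ya27 za60) (ka xa11 ya31 za3) (ka xa11 ya31 za51) (ka xa18 ya43 za39) (ka xa18 ya2 za17) (ka xa18 ya43 za57) (ka xa10 ya48 za32) (ka xa11 ya48 za31) (ka xa18 ya43 za36) (ka xa22 ya5 za39) (ka xa11 ya1 za28) (ka xa11 ya1 za30) (ka xa11 ya1 za24) (ka xa11 ya1 za26) (ka xa11 ya1 za31) (ka xa18 ya24 za46) (ka xa20 ya37 za35) (ka xa10 ya45 za51) (ka xa20 ya17 za3) (ka xa21 ya45 za1) (ka xa17 ya41 za39) (ka xa17 ya41 za40) (ka xa18 ya44 za5)) (@D3.rec (fun _ =>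 Pt) (ka xa18 ya44 za6) (ka xa18 ya44 za7) (ka xa15 ya54 za21) (ka xa18 ya44 za2) (ka xa18 ya44 za3) (ka xa10 ya45 za58) (ka xa10 ya45 za59) (ka xa18 ya44 za10) (ka xa18 ya44 za9) (ka xa24 ya47 za2) (ka xa25 ya52 za12) (ka xa25 ya52 za11) (ka xa16 ya2 za9) (ka xa16 ya2 za13) (ka xa17 ya24 za60) (ka xa23 ya13 za16) (ka xa25 ya52 za20) (ka xa25 ya52 za21) (ka xa28 ya42 za5) (ka xa25 ya52 za23) (ka xa25 ya52 za22) (ka xa26 ya42 za49) (ka xa24 ya27 za32) (ka xa11 ya2 za15) (ka xa11 ya2 za16) (ka xa11 ya2 za18) (ka xa26 ya38 za26) (ka xa24 ya11 za55) (ka xa19 ya40 za59) (ka xa25 ya56 za24) (ka xa28 ya50 za42) (ka xa24 ya11 za56) (ka xa19 ya40 za58) (ka xa25 ya56 za22) (ka xa14 ya28 za2) (ka xa14 ya28 za3) (ka xa14 ya28 za1) (ka xa10 ya47 za16) (ka xa14 ya30 za57) (ka xa10 ya47 za22) (ka xa10 ya47 za23) (ka xa14 ya29 za43) (ka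 xa10 ya47 za33) (ka xa10 ya47 za34) (ka xa10 ya49 za31) (ka xa10 ya46 za15) (ka xa13 ya45 za50) (ka xa25 ya13 za49) (ka xa19 ya54 za27) (ka xa14 ya29 za26) (ka xa19 ya58 za48) (ka xa10 ya46 za20) (ka xa10 ya46 za21) (ka xa28 ya50 za57) (ka xa28 ya50 za58) (ka xa28 ya50 za59) (ka xa28 ya50 za60) (ka xa24 ya25 za10) (ka xa28 ya50 za61) (ka xa25 ya32 za31) (ka xa25 ya32 za22) (ka xa25 ya32 za23)) (@D3.rec (fun _ => Pt) (ka xa20 ya48 za31) (ka xa20 ya44 za35) (ka xa25 ya32 za29) (ka xa25 ya32 za30) (ka xa25 ya32 za32) (ka xa28 ya50 za40) (ka xa25 ya32 za18) (ka xa16 ya49 za14) (ka xa16 ya0 za6) (ka xa24 ya46 za17) (ka xa25 ya32 za20) (ka xa24 ya49 za26) (ka xa24 ya49 za25) (ka xa10 ya46 za31) (ka xa28 ya8 za5) (ka xa28 ya51 za21) (ka xa24 ya49 za37) (ka xa11 ya5 za19) (ka xa24 ya49 za38) (ka xa15 ya28 za23) (ka xa19 ya12 za13)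 (ka xa19 ya57 za60) (ka xa20 ya52 za51) (ka xa25 ya32 za33) (ka xa17 ya22 za49) (ka xa10 ya46 za39) (ka xa10 ya46 za40) (ka xa18 ya44 za25) (ka xa18 ya44 za22) (ka xa17 ya3 za38) (ka xa28 ya51 za39) (ka xa28 ya47 za39) (ka xa28 ya51 za40) (ka xa28 ya51 za41) (ka xa28 ya51 za42) (ka xa26 ya42 za57) (ka xa26 ya42 za58) (ka xa26 ya42 za59) (ka xa26 ya42 za60) (ka xa28 ya51 za61) (ka xa26 ya43 za0) (ka xa21 ya58 za52) (ka xa26 ya43 za1) (ka xa26 ya43 za2) (ka xa21 ya0 za2) (ka xa28 ya50 za50) (ka xa21 ya0 za0) (ka xa26 ya43 za22) (ka xa19 ya11 za19) (ka xa28 ya50 za32) (ka xa26 ya43 za4) (ka xa23 ya57 za25) (ka xa10 ya46 za49) (ka xa10 ya46 za50) (ka xa19 ya41 za14) (ka xa19 ya41 za12) (ka xa28 ya52 za11) (ka xa28 ya52 za12) (ka xa28 ya52 za13) (ka xa28 ya52 za14) (ka xa28 ya52 za15) (ka xa28 ya52 za16)) (@D3.rec (fun _ =>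 Pt) (ka xa19 ya41 za59) (ka xa17 ya26 za44) (ka xa19 ya41 za60) (ka xa19 ya41 za61) (ka xa19 ya25 za37) (ka xa26 ya43 za18) (ka xa19 ya25 za35) (ka xa22 ya21 za42) (ka xa20 ya2 za44) (ka xa13 ya45 za40) (ka xa22 ya21 za50) (ka xa20 ya27 za20) (ka xa10 ya46 za57) (ka xa10 ya46 za58) (ka xa15 ya52 za12) (ka xa28 ya5 za61) (ka xa28 ya47 za47) (ka xa28 ya52 za46) (ka xa28 ya52 za47) (ka xa28 ya52 za48) (ka xa19 ya41 za52) (ka xa19 ya41 za53) (ka xa19 ya41 za54) (ka xa19 ya41 za55) (ka xa19 ya53 za31) (ka xa26 ya43 za11) (ka xa20 ya59 za58) (ka xa10 ya47 za0) (ka xa28 ya53 za4) (ka xa28 ya53 za5) (ka xa19 ya41 za38) (ka xa19 ya41 za39) (ka xa19 ya57 za42) (ka xa26 ya43 za25) (ka xa26 ya43 za26) (ka xa26 ya43 za3) (ka xa10 ya47 za4) (ka xa28 ya53 za16) (ka xa28 ya53 za17) (ka xa19 ya41 za35) (ka xa19 ya41 za36) (ka xa19 ya58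 za42) (ka xa26 ya43 za21) (ka xa20 ya59 za51) (ka xa10 ya47 za11) (ka xa22 ya21 za2) (ka xa28 ya53 za33) (ka xa25 ya36 za10) (ka xa26 ya43 za28) (ka xa26 ya43 za33) (ka xa26 ya43 za32) (ka xa26 ya44 za6) (ka xa14 ya26 za41) (ka xa14 ya52 za42) (ka xa11 ya50 za38) (ka xa22 ya20 za13) (ka xa28 ya50 za56) (ka xa10 ya47 za19) (ka xa24 ya34 za31) (ka xa13 ya40 za7) (ka xa10 ya47 za21) (ka xa19 ya19 za12)) (@D3.rec (fun _ => Pt) (ka xa13 ya33 za27) (ka xa14 ya41 za49) (ka xa14 ya29 za44) (ka xa13 ya44 za26) (ka xa14 ya52 za9) (ka xa15 ya35 za1) (ka xa24 ya5 za38) (ka xa16 ya43 za27) (ka xa22 ya21 za37) (ka xa24 ya49 za52) (ka xa24 ya49 za53) (ka xa16 ya42 za36) (ka xa15 ya22 za4) (ka xa14 ya19 za25) (ka xa10 ya47 za32) (ka xa28 ya53 za53) (ka xa24 ya19 za38) (ka xa14 ya52 za10) (ka xa21 ya54 za26) (ka xa25 ya48 za28) (ka xa21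 ya53 za20) (ka xa27 ya42 za36) (ka xa19 ya24 za30) (ka xa19 ya24 za29) (ka xa10 ya47 za36) (ka xa24 ya13 za32) (ka xa25 ya12 za31) (ka xa18 ya46 za36) (ka xa18 ya46 za27) (ka xa18 ya46 za28) (ka xa18 ya46 za30) (ka xa18 ya22 za26) (ka xa18 ya46 za33) (ka xa18 ya46 za32) (ka xa10 ya47 za40) (ka xa25 ya26 za17) (ka xa19 ya24 za33) (ka xa16 ya39 za59) (ka xa10 ya47 za42) (ka xa16 ya42 za21) (ka xa25 ya31 za2) (ka xa26 ya47 za18) (ka xa19 ya40 za44) (ka xa28 ya54 za12) (ka xa10 ya47 za47) (ka xa10 ya47 za48) (ka xa28 ya54 za13) (ka xa28 ya54 za14) (ka xa28 ya54 za15) (ka xa28 ya54 za16) (ka xa28 ya54 za17) (ka xa26 ya52 za16) (ka xa26 ya34 za35) (ka xa26 ya34 za36) (ka xa26 ya34 za37) (ka xa21 ya48 za23) (ka xa28 ya54 za37) (ka xa22 ya27 za26) (ka xa26 ya34 za38) (ka xa22 ya27 za25) (ka xa26 ya34 za40) (ka xa11 ya53 za48))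 (@D3.rec (fun _ => Pt) (ka xa23 ya50 za60) (ka xa26 ya34 za41) (ka xa16 ya9 za34) (ka xa21 ya23 za53) (ka xa26 ya35 za23) (ka xa22 ya27 za23) (ka xa16 ya42 za44) (ka xa26 ya36 za57) (ka xa22 ya27 za20) (ka xa14 ya54 za24) (ka xa26 ya35 za8) (ka xa26 ya40 za33) (ka xa26 ya40 za31) (ka xa10 ya48 za3) (ka xa10 ya48 za5) (ka xa10 ya48 za6) (ka xa15 ya27 za19) (ka xa12 ya44 za38) (ka xa28 ya54 za55) (ka xa20 ya9 za47) (ka xa16 ya37 za61) (ka xa16 ya52 za35) (ka xa19 ya49 za55) (ka xa19 ya49 za1) (ka xa25 ya14 za17) (ka xa26 ya48 za3) (ka xa16 ya52 za26) (ka xa26 ya41 za60) (ka xa25 ya33 za50) (ka xa26 ya42 za32) (ka xa24 ya36 za22) (ka xa12 ya55 za30) (ka xa25 ya40 za46) (ka xa19 ya21 za21) (ka xa19 ya51 za13) (ka xa19 ya51 za14) (ka xa15 ya4 za56) (ka xa21 ya36 za53) (ka xa23 ya58 za36) (ka xa24 ya18 za13) (ka xa20 ya28 za29)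 (ka xa19 ya52 za44) (ka xa25 ya14 za21) (ka xa26 ya46 za38) (ka xa26 ya43 za49) (ka xa11 ya10 za0) (ka xa28 ya55 za4) (ka xa19 ya58 za30) (ka xa19 ya58 za31) (ka xa19 ya55 za30) (ka xa19 ya58 za28) (ka xa15 ya1 za21) (ka xa10 ya48 za48) (ka xa10 ya48 za49) (ka xa10 ya48 za50) (ka xa10 ya48 za52) (ka xa10 ya48 za53) (ka xa10 ya48 za55) (ka xa15 ya2 za57) (ka xa19 ya58 za0) (ka xa17 ya52 za52) (ka xa15 ya2 za56)) (@D3.rec (fun _ => Pt) (ka xa25 ya16 za41) (ka xa28 ya55 za8) (ka xa28 ya55 za9) (ka xa28 ya55 za10) (ka xa28 ya55 za11) (ka xa28 ya55 za12) (ka xa10 ya59 za46) (ka xa19 ya43 za53) (ka xa23 ya2 za29) (ka xa19 ya43 za57) (ka xa17 ya9 za9) (ka xa11 ya12 za48) (ka xa26 ya43 za50) (ka xa28 ya55 za13) (ka xa26 ya42 za21) (ka xa28 ya55 za14) (ka xa11 ya11 za53) (ka xa17 ya9 za11) (ka xa19 ya46 za57) (ka xa19 ya43 za56)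 (ka xa19 ya12 za39) (ka xa26 ya41 za41) (ka xa26 ya41 za3) (ka xa26 ya43 za40) (ka xa21 ya35 za60) (ka xa19 ya12 za16) (ka xa26 ya43 za42) (ka xa22 ya5 za18) (ka xa26 ya43 za41) (ka xa25 ya13 za51) (ka xa10 ya49 za18) (ka xa25 ya50 za20) (ka xa28 ya42 za26) (ka xa19 ya42 za58) (ka xa11 ya0 za30) (ka xa19 ya41 za41) (ka xa20 ya38 za51) (ka xa24 ya47 za28) (ka xa26 ya43 za55) (ka xa26 ya43 za56) (ka xa26 ya43 za57) (ka xa11 ya0 za32) (ka xa24 ya30 za37) (ka xa19 ya43 za26) (ka xa19 ya43 za28) (ka xa19 ya43 za30) (ka xa19 ya57 za43) (ka xa16 ya49 za15) (ka xa16 ya49 za36) (ka xa20 ya7 za33) (ka xa19 ya25 za51) (ka xa11 ya8 za2) (ka xa10 ya49 za28) (ka xa10 ya49 za29) (ka xa10 ya49 za30) (ka xa28 ya55 za52) (ka xa16 ya41 za32) (ka xa20 ya52 za9) (ka xa19 ya58 za34) (ka xa28 ya55 za53) (ka xa28 ya55 za54) (ka xa28 ya55 za55))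 (@D3.rec (fun _ => Pt) (ka xa25 ya47 za30) (ka xa28 ya15 za46) (ka xa19 ya41 za40) (ka xa26 ya43 za45) (ka xa22 ya5 za17) (ka xa26 ya43 za46) (ka xa26 ya43 za47) (ka xa21 ya0 za10) (ka xa24 ya30 za33) (ka xa19 ya43 za18) (ka xa19 ya43 za19) (ka xa19 ya53 za35) (ka xa26 ya43 za48) (ka xa21 ya0 za11) (ka xa11 ya21 za11) (ka xa10 ya49 za48) (ka xa28 ya56 za20) (ka xa26 ya44 za0) (ka xa26 ya44 za1) (ka xa10 ya49 za43) (ka xa21 ya32 za38) (ka xa20 ya45 za29) (ka xa14 ya16 za33) (ka xa17 ya53 za42) (ka xa26 ya44 za4) (ka xa26 ya44 za5) (ka xa26 ya51 za6) (ka xa26 ya44 za2) (ka xa20 ya50 za54) (ka xa19 ya43 za36) (ka xa19 ya43 za33) (ka xa26 ya43 za34) (ka xa28 ya56 za19) (ka xa14 ya18 za42) (ka xa15 ya4 za60) (ka xa12 ya49 za53) (ka xa14 ya32 za25) (ka xa20 ya28 za43) (ka xa20 ya28 za44) (ka xa14 ya32 za27) (ka xa26 ya36 za26)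 (ka xa11 ya53 za57) (ka xa26 ya36 za29) (ka xa19 ya34 za44) (ka xa19 ya34 za43) (ka xa16 ya48 za21) (ka xa18 ya51 za12) (ka xa18 ya51 za13) (ka xa18 ya51 za10) (ka xa18 ya51 za11) (ka xa10 ya49 za58) (ka xa25 ya26 za34) (ka xa25 ya26 za33) (ka xa25 ya24 za35) (ka xa25 ya5 za51) (ka xa22 ya2 za47) (ka xa21 ya24 za8) (ka xa25 ya5 za53) (ka xa25 ya5 za54) (ka xa25 ya5 za55) (ka xa25 ya5 za56) (ka xa25 ya5 za57)) (@D3.rec (fun _ => Pt) (ka xa28 ya56 za49) (ka xa11 ya2 za24) (ka xa11 ya2 za25) (ka xa11 ya2 za27) (ka xa23 ya24 za18) (ka xa25 ya4 za4) (ka xa10 ya50 za3) (ka xa28 ya56 za55) (ka xa10 ya50 za34) (ka xa10 ya50 za37) (ka xa28 ya44 za51) (ka xa14 ya30 za35) (ka xa19 ya44 za27) (ka xa25 ya4 za11) (ka xa27 ya53 za33) (ka xa14 ya30 za34) (ka xa19 ya44 za26) (ka xa25 ya4 za9) (ka xa10 ya50 za10) (ka xa10 ya50 za11) (ka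 xa25 ya4 za13) (ka xa14 ya32 za7) (ka xa28 ya57 za4) (ka xa14 ya24 za20) (ka xa14 ya24 za19) (ka xa28 ya57 za5) (ka xa10 ya51 za32) (ka xa10 ya51 za33) (ka xa10 ya51 za34) (ka xa10 ya51 za35) (ka xa10 ya51 za42) (ka xa10 ya51 za43) (ka xa10 ya51 za44) (ka xa10 ya51 za45) (ka xa28 ya1 za27) (ka xa10 ya51 za48) (ka xa15 ya37 za51) (ka xa10 ya50 za18) (ka xa28 ya57 za34) (ka xa28 ya57 za35) (ka xa15 ya35 za47) (ka xa15 ya17 za15) (ka xa15 ya35 za19) (ka xa15 ya35 za18) (ka xa10 ya50 za21) (ka xa16 ya7 za23) (ka xa15 ya35 za24) (ka xa15 ya35 za23) (ka xa10 ya50 za25) (ka xa28 ya57 za42) (ka xa24 ya1 za36) (ka xa25 ya31 za3) (ka xa16 ya15 za31) (ka xa15 ya39 za56) (ka xa19 ya37 za18) (ka xa21 ya46 za18) (ka xa26 ya16 za46) (ka xa15 ya39 za55) (ka xa26 ya16 za47) (ka xa10 ya50 za33) (ka xa28 ya57 za52) (ka xa28 ya57 za53)) (@D3.rec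 (fun _ => Pt) (ka xa28 ya57 za54) (ka xa28 ya57 za55) (ka xa10 ya51 za2) (ka xa28 ya56 za58) (ka xa25 ya32 za10) (ka xa22 ya8 za15) (ka xa15 ya37 za15) (ka xa15 ya51 za9) (ka xa16 ya50 za2) (ka xa19 ya57 za38) (ka xa18 ya12 za30) (ka xa24 ya11 za54) (ka xa20 ya2 za10) (ka xa23 ya7 za43) (ka xa24 ya11 za29) (ka xa20 ya4 za21) (ka xa25 ya15 za13) (ka xa10 ya50 za46) (ka xa10 ya50 za47) (ka xa15 ya15 za47) (ka xa15 ya15 za42) (ka xa28 ya58 za4) (ka xa28 ya48 za16) (ka xa28 ya48 za29) (ka xa28 ya58 za14) (ka xa14 ya34 za37) (ka xa18 ya52 za28) (ka xa26 ya42 za23) (ka xa19 ya44 za18) (ka xa20 ya5 za2) (ka xa26 ya41 za42) (ka xa10 ya50 za53) (ka xa10 ya50 za54) (ka xa28 ya58 za19) (ka xa27 ya29 za22) (ka xa28 ya58 za20) (ka xa28 ya58 za21) (ka xa28 ya58 za25) (ka xa19 ya46 za31) (ka xa26 ya41 za37) (ka xa28 ya58 za28) (ka xa28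 ya57 za3) (ka xa16 ya0 za38) (ka xa25 ya8 za32) (ka xa26 ya41 za50) (ka xa26 ya41 za51) (ka xa28 ya56 za59) (ka xa26 ya41 za48) (ka xa18 ya55 za46) (ka xa26 ya5 za2) (ka xa10 ya51 za1) (ka xa19 ya44 za54) (ka xa19 ya44 za51) (ka xa23 ya11 za32) (ka xa27 ya36 za14) (ka xa19 ya55 za21) (ka xa26 ya41 za57) (ka xa14 ya47 za44) (ka xa14 ya47 za43) (ka xa10 ya51 za8) (ka xa10 ya51 za9) (ka xa28 ya58 za38)) (@D3.rec (fun _ => Pt) (ka xa25 ya10 za40) (ka xa28 ya58 za39) (ka xa26 ya41 za53) (ka xa10 ya51 za11) (ka xa15 ya1 za52) (ka xa28 ya58 za47) (ka xa24 ya41 za45) (ka xa11 ya9 za48) (ka xa11 ya9 za49) (ka xa19 ya45 za19) (ka xa19 ya45 za20) (ka xa26 ya42 za2) (ka xa25 ya8 za35) (ka xa10 ya51 za15) (ka xa28 ya58 za55) (ka xa28 ya58 za56) (ka xa19 ya45 za17) (ka xa19 ya57 za44) (ka xa19 ya35 za54) (ka xa26 ya41 za61) (ka xa10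 ya51 za22) (ka xa10 ya51 za23) (ka xa10 ya51 za24) (ka xa10 ya51 za26) (ka xa10 ya51 za27) (ka xa22 ya54 za47) (ka xa26 ya42 za4) (ka xa22 ya48 za15) (ka xa22 ya54 za49) (ka xa19 ya8 za59) (ka xa19 ya8 za58) (ka xa22 ya59 za54) (ka xa22 ya59 za52) (ka xa26 ya42 za36) (ka xa27 ya13 za10) (ka xa28 ya59 za3) (ka xa28 ya59 za4) (ka xa27 ya13 za8) (ka xa25 ya50 za30) (ka xa10 ya52 za56) (ka xa27 ya21 za34) (ka xa28 ya59 za20) (ka xa11 ya43 za1) (ka xa28 ya59 za6) (ka xa28 ya59 za7) (ka xa28 ya59 za8) (ka xa10 ya51 za28) (ka xa11 ya59 za39) (ka xa14 ya27 za53) (ka xa16 ya29 za7) (ka xa10 ya51 za30) (ka xa18 ya52 za9) (ka xa11 ya55 za20) (ka xa15 ya40 za53) (ka xa27 ya15 za58) (ka xa15 ya35 za50) (ka xa28 ya57 za21) (ka xa15 ya40 za46) (ka xa15 ya16 za18) (ka xa15 ya35 za51) (ka xa28 ya57 za22) (ka xa15 ya20 za12)) (@D3.rec (fun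 _ => Pt) (ka xa28 ya57 za23) (ka xa15 ya20 za10) (ka xa26 ya5 za1) (ka xa24 ya58 za12) (ka xa15 ya18 za48) (ka xa15 ya18 za49) (ka xa15 ya18 za36) (ka xa28 ya48 za21) (ka xa25 ya51 za15) (ka xa28 ya57 za24) (ka xa21 ya0 za24) (ka xa25 ya32 za49) (ka xa28 ya57 za26) (ka xa10 ya56 za36) (ka xa28 ya57 za27) (ka xa28 ya57 za28) (ka xa28 ya57 za29) (ka xa25 ya22 za43) (ka xa25 ya33 za45) (ka xa28 ya57 za31) (ka xa27 ya24 za6) (ka xa28 ya59 za55) (ka xa25 ya31 za23) (ka xa23 ya56 za48) (ka xa10 ya51 za47) (ka xa15 ya21 za10) (ka xa15 ya21 za12) (ka xa25 ya15 za3) (ka xa25 ya33 za52) (ka xa25 ya33 za46) (ka xa25 ya14 za46) (ka xa26 ya33 za51) (ka xa28 ya57 za32) (ka xa10 ya51 za50) (ka xa24 ya12 za22) (ka xa25 ya33 za53) (ka xa25 ya33 za54) (ka xa25 ya11 za61) (ka xa25 ya55 za1) (ka xa21 ya0 za29) (ka xa25 ya56 za32) (ka xa25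 ya55 za3) (ka xa10 ya56 za48) (ka xa29 ya0 za10) (ka xa25 ya54 za60) (ka xa21 ya58 za13) (ka xa25 ya6 za52) (ka xa10 ya51 za59) (ka xa25 ya33 za44) (ka xa20 ya2 za35) (ka xa25 ya47 za10) (ka xa25 ya47 za9) (ka xa10 ya52 za0) (ka xa24 ya42 za46) (ka xa26 ya5 za45) (ka xa29 ya0 za18) (ka xa10 ya52 za5) (ka xa16 ya46 za40) (ka xa17 ya25 za14) (ka xa25 ya36 za34) (ka xa23 ya10 za37) (ka xa25 ya54 za59)) (@D3.rec (fun _ => Pt) (ka xa15 ya3 za41) (ka xa19 ya58 za29) (ka xa10 ya52 za9) (ka xa10 ya52 za10) (ka xa19 ya42 za33) (ka xa20 ya52 za44) (ka xa21 ya57 za34) (ka xa19 ya58 za36) (ka xa28 ya50 za15) (ka xa26 ya41 za40) (ka xa25 ya36 za29) (ka xa26 ya42 za24) (ka xa25 ya15 za14) (ka xa10 ya52 za13) (ka xa27 ya41 za38) (ka xa29 ya0 za21) (ka xa19 ya46 za35) (ka xa25 ya55 za61) (ka xa22 ya11 za24) (ka xa26 ya42 za34) (ka xa19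 ya46 za52) (ka xa16 ya31 za36) (ka xa19 ya46 za60) (ka xa12 ya32 za6) (ka xa10 ya52 za23) (ka xa19 ya3 za38) (ka xa11 ya0 za2) (ka xa19 ya15 za17) (ka xa11 ya0 za14) (ka xa24 ya36 za21) (ka xa15 ya4 za32) (ka xa24 ya36 za19) (ka xa19 ya19 za48) (ka xa25 ya29 za56) (ka xa26 ya42 za27) (ka xa26 ya42 za28) (ka xa26 ya42 za29) (ka xa26 ya42 za30) (ka xa26 ya42 za31) (ka xa28 ya43 za20) (ka xa19 ya46 za55) (ka xa19 ya46 za56) (ka xa19 ya43 za55) (ka xa19 ya46 za58) (ka xa19 ya57 za45) (ka xa11 ya55 za44) (ka xa17 ya30 za8) (ka xa11 ya20 za42) (ka xa10 ya52 za44) (ka xa10 ya52 za45) (ka xa10 ya52 za48) (ka xa10 ya52 za49) (ka xa10 ya52 za55) (ka xa10 ya52 za57) (ka xa10 ya52 za37) (ka xa21 ya31 za59) (ka xa22 ya59 za51) (ka xa26 ya33 za5) (ka xa17 ya53 za45) (ka xa26 ya44 za8) (ka xa22 ya53 za20) (ka xa16 ya26 za47)) (@D3.rec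 (fun _ => Pt) (ka xa16 ya26 za48) (ka xa16 ya26 za54) (ka xa23 ya46 za41) (ka xa23 ya46 za40) (ka xa25 ya2 za37) (ka xa26 ya2 za41) (ka xa10 ya52 za47) (ka xa16 ya50 za37) (ka xa28 ya49 za13) (ka xa29 ya0 za43) (ka xa17 ya58 za58) (ka xa19 ya53 za48) (ka xa21 ya36 za0) (ka xa27 ya42 za40) (ka xa19 ya15 za39) (ka xa25 ya15 za12) (ka xa11 ya9 za16) (ka xa19 ya49 za46) (ka xa20 ya29 za5) (ka xa21 ya0 za39) (ka xa20 ya9 za19) (ka xa10 ya57 za19) (ka xa11 ya10 za15) (ka xa11 ya10 za19) (ka xa25 ya50 za13) (ka xa26 ya44 za10) (ka xa16 ya58 za50) (ka xa16 ya58 za55) (ka xa20 ya5 za24) (ka xa20 ya5 za23) (ka xa22 ya7 za43) (ka xa17 ya50 za22) (ka xa10 ya53 za5) (ka xa10 ya53 za7) (ka xa10 ya53 za8) (ka xa19 ya52 za50) (ka xa22 ya5 za40) (ka xa21 ya40 za20) (ka xa26 ya37 za33) (ka xa26 ya37 za32) (ka xa22 ya21 za44) (ka xa26 ya37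 za35) (ka xa11 ya39 za38) (ka xa10 ya53 za13) (ka xa19 ya31 za42) (ka xa22 ya4 za4) (ka xa11 ya39 za30) (ka xa17 ya42 za19) (ka xa29 ya1 za1) (ka xa17 ya28 za59) (ka xa17 ya28 za58) (ka xa16 ya40 za31) (ka xa25 ya4 za33) (ka xa25 ya47 za42) (ka xa25 ya47 za48) (ka xa25 ya5 za16) (ka xa10 ya53 za28) (ka xa10 ya53 za29) (ka xa19 ya28 za32) (ka xa19 ya28 za28) (ka xa23 ya50 za49) (ka xa14 ya24 za36)) (@D3.rec (fun _ => Pt) (ka xa23 ya49 za56) (ka xa14 ya24 za35) (ka xa10 ya54 za1) (ka xa19 ya21 za55) (ka xa10 ya54 za8) (ka xa10 ya54 za9) (ka xa28 ya14 za25) (ka xa10 ya54 za16) (ka xa10 ya54 za19) (ka xa28 ya31 za29) (ka xa10 ya54 za25) (ka xa26 ya44 za58) (ka xa19 ya29 za55) (ka xa16 ya39 za53) (ka xa19 ya29 za54) (ka xa19 ya21 za58) (ka xa10 ya53 za42) (ka xa27 ya19 za1) (ka xa28 ya46 za46) (ka xa15 ya45 za22) (ka xa19 ya11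 za21) (ka xa19 ya16 za29) (ka xa16 ya39 za9) (ka xa25 ya47 za46) (ka xa10 ya53 za44) (ka xa29 ya1 za20) (ka xa11 ya2 za14) (ka xa20 ya47 za5) (ka xa25 ya46 za55) (ka xa10 ya53 za47) (ka xa10 ya53 za52) (ka xa10 ya53 za54) (ka xa10 ya53 za55) (ka xa10 ya53 za57) (ka xa27 ya37 za25) (ka xa19 ya30 za39) (ka xa19 ya30 za40) (ka xa29 ya1 za32) (ka xa19 ya30 za30) (ka xa19 ya30 za31) (ka xa19 ya34 za2) (ka xa19 ya33 za35) (ka xa24 ya12 za47) (ka xa22 ya58 za54) (ka xa23 ya50 za47) (ka xa29 ya1 za47) (ka xa20 ya53 za6) (ka xa15 ya3 za54) (ka xa15 ya4 za1) (ka xa10 ya53 za58) (ka xa29 ya1 za53) (ka xa29 ya1 za54) (ka xa19 ya30 za20) (ka xa19 ya30 za21) (ka xa19 ya30 za22) (ka xa19 ya30 za23) (ka xa10 ya53 za60) (ka xa28 ya43 za21) (ka xa29 ya2 za1) (ka xa19 ya30 za0) (ka xa19 ya30 za2) (ka xa19 ya30 za3)) (@D3.rec (fun _ => Pt)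 (ka xa19 ya10 za0) (ka xa19 ya21 za57) (ka xa19 ya21 za59) (ka xa19 ya5 za14) (ka xa25 ya47 za56) (ka xa10 ya54 za7) (ka xa29 ya2 za12) (ka xa20 ya59 za59) (ka xa14 ya23 za25) (ka xa19 ya5 za56) (ka xa25 ya10 za49) (ka xa13 ya45 za61) (ka xa24 ya34 za60) (ka xa10 ya54 za15) (ka xa28 ya30 za16) (ka xa25 ya23 za57) (ka xa15 ya1 za55) (ka xa15 ya0 za57) (ka xa24 ya50 za46) (ka xa26 ya37 za45) (ka xa18 ya49 za21) (ka xa28 ya14 za27) (ka xa10 ya54 za23) (ka xa28 ya46 za7) (ka xa29 ya2 za25) (ka xa28 ya15 za48) (ka xa21 ya0 za52) (ka xa22 ya15 za16) (ka xa27 ya50 za50) (ka xa25 ya47 za55) (ka xa10 ya54 za28) (ka xa10 ya58 za55) (ka xa15 ya3 za38) (ka xa19 ya39 za4) (ka xa26 ya39 za59) (ka xa15 ya3 za30) (ka xa15 ya3 za32) (ka xa15 ya3 za33) (ka xa15 ya3 za34) (ka xa15 ya1 za11) (ka xa10 ya54 za39) (ka xa10 ya54 za40) (ka xa15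 ya2 za53) (ka xa15 ya2 za54) (ka xa25 ya44 za20) (ka xa29 ya2 za36) (ka xa19 ya52 za39) (ka xa25 ya22 za12) (ka xa29 ya2 za37) (ka xa26 ya40 za40) (ka xa25 ya23 za45) (ka xa20 ya54 za33) (ka xa26 ya44 za45) (ka xa25 ya22 za38) (ka xa20 ya54 za23) (ka xa20 ya54 za26) (ka xa20 ya49 za12) (ka xa18 ya0 za6) (ka xa19 ya33 za33) (ka xa19 ya50 za15) (ka xa26 ya45 za28) (ka xa19 ya52 za45)) (@D3.rec (fun _ => Pt) (ka xa11 ya2 za19) (ka xa16 ya39 za52) (ka xa16 ya48 za7) (ka xa26 ya39 za23) (ka xa26 ya45 za26) (ka xa11 ya15 za20) (ka xa10 ya55 za11) (ka xa10 ya55 za12) (ka xa10 ya55 za13) (ka xa10 ya55 za14) (ka xa10 ya55 za15) (ka xa26 ya35 za30) (ka xa10 ya55 za16) (ka xa10 ya55 za18) (ka xa10 ya55 za19) (ka xa10 ya55 za3) (ka xa18 ya48 za55) (ka xa14 ya44 za29) (ka xa19 ya34 za9) (ka xa19 ya34 za10) (ka xa11 ya50 za29) (ka xa16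 ya57 za33) (ka xa10 ya55 za6) (ka xa16 ya48 za14) (ka xa21 ya37 za52) (ka xa21 ya54 za53) (ka xa19 ya33 za43) (ka xa18 ya47 za43) (ka xa19 ya33 za44) (ka xa14 ya8 za3) (ka xa19 ya33 za45) (ka xa26 ya59 za47) (ka xa10 ya58 za7) (ka xa19 ya34 za30) (ka xa26 ya45 za34) (ka xa29 ya3 za10) (ka xa19 ya34 za29) (ka xa26 ya45 za32) (ka xa26 ya45 za1) (ka xa29 ya2 za59) (ka xa22 ya5 za16) (ka xa12 ya55 za50) (ka xa21 ya38 za2) (ka xa12 ya3 za55) (ka xa21 ya15 za33) (ka xa26 ya40 za0) (ka xa10 ya55 za17) (ka xa27 ya11 za39) (ka xa26 ya39 za26) (ka xa29 ya2 za61) (ka xa27 ya43 za49) (ka xa11 ya6 za59) (ka xa10 ya55 za22) (ka xa19 ya33 za7) (ka xa23 ya30 za38) (ka xa19 ya39 za42) (ka xa19 ya33 za19) (ka xa19 ya33 za9) (ka xa24 ya49 za47) (ka xa18 ya2 za12) (ka xa19 ya50 za32) (ka xa22 ya7 za61)) (@D3.rec (fun _ => Pt) (ka xa16 ya48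 za0) (ka xa26 ya40 za3) (ka xa16 ya13 za36) (ka xa25 ya56 za21) (ka xa26 ya38 za21) (ka xa11 ya38 za5) (ka xa10 ya55 za41) (ka xa17 ya8 za45) (ka xa11 ya0 za9) (ka xa10 ya55 za45) (ka xa20 ya29 za23) (ka xa26 ya15 za9) (ka xa27 ya50 za47) (ka xa24 ya58 za35) (ka xa25 ya50 za24) (ka xa11 ya5 za0) (ka xa19 ya10 za33) (ka xa27 ya53 za23) (ka xa19 ya36 za28) (ka xa19 ya25 za9) (ka xa25 ya4 za18) (ka xa19 ya19 za33) (ka xa25 ya4 za15) (ka xa25 ya4 za16) (ka xa10 ya55 za58) (ka xa10 ya55 za59) (ka xa19 ya35 za16) (ka xa19 ya35 za12) (ka xa28 ya56 za61) (ka xa29 ya3 za26) (ka xa29 ya3 za27) (ka xa24 ya16 za27) (ka xa29 ya3 za28) (ka xa27 ya42 za30) (ka xa10 ya56 za29) (ka xa10 ya56 za30) (ka xa10 ya56 za31) (ka xa10 ya56 za32) (ka xa29 ya3 za40) (ka xa10 ya56 za35) (ka xa22 ya2 za23) (ka xa10 ya56 za39) (ka xa10 ya56 za41) (ka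 xa10 ya56 za42) (ka xa10 ya56 za43) (ka xa10 ya56 za44) (ka xa28 ya56 za40) (ka xa10 ya56 za47) (ka xa25 ya5 za23) (ka xa10 ya56 za50) (ka xa16 ya36 za46) (ka xa19 ya36 za52) (ka xa26 ya44 za15) (ka xa25 ya12 za34) (ka xa19 ya36 za51) (ka xa27 ya37 za34) (ka xa19 ya48 za10) (ka xa26 ya44 za19) (ka xa26 ya44 za20) (ka xa19 ya48 za9) (ka xa10 ya56 za11) (ka xa28 ya20 za46)) (@D3.rec (fun _ => Pt) (ka xa20 ya3 za52) (ka xa18 ya52 za54) (ka xa26 ya44 za16) (ka xa19 ya53 za47) (ka xa19 ya14 za15) (ka xa26 ya44 za18) (ka xa10 ya56 za13) (ka xa15 ya2 za19) (ka xa25 ya12 za19) (ka xa11 ya2 za23) (ka xa21 ya3 za50) (ka xa10 ya56 za20) (ka xa10 ya56 za21) (ka xa10 ya56 za22) (ka xa10 ya56 za23) (ka xa10 ya56 za24) (ka xa29 ya4 za11) (ka xa19 ya37 za16) (ka xa25 ya12 za21) (ka xa19 ya37 za9) (ka xa19 ya37 za10) (ka xa13 ya36 za30)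 (ka xa13 ya36 za29) (ka xa23 ya1 za37) (ka xa23 ya1 za36) (ka xa29 ya4 za7) (ka xa29 ya4 za25) (ka xa29 ya4 za8) (ka xa28 ya59 za23) (ka xa24 ya16 za30) (ka xa29 ya4 za10) (ka xa20 ya17 za49) (ka xa23 ya28 za36) (ka xa20 ya49 za46) (ka xa23 ya41 za41) (ka xa27 ya42 za31) (ka xa10 ya56 za26) (ka xa27 ya10 za53) (ka xa10 ya56 za27) (ka xa29 ya4 za39) (ka xa26 ya45 za8) (ka xa15 ya38 za9) (ka xa25 ya36 za20) (ka xa25 ya59 za52) (ka xa16 ya22 za37) (ka xa15 ya38 za10) (ka xa25 ya36 za21) (ka xa15 ya40 za1) (ka xa27 ya17 za42) (ka xa28 ya59 za27) (ka xa29 ya3 za38) (ka xa29 ya3 za39) (ka xa23 ya41 za45) (ka xa10 ya56 za33) (ka xa29 ya4 za54) (ka xa29 ya4 za55) (ka xa17 ya53 za10) (ka xa29 ya3 za42) (ka xa28 ya59 za49) (ka xa24 ya32 za61) (ka xa10 ya56 za37) (ka xa29 ya5 za0)) (@D3.rec (fun _ => Pt) (ka xa22 ya2 za22) (ka xa29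 ya3 za43) (ka xa16 ya0 za37) (ka xa23 ya41 za43) (ka xa29 ya3 za45) (ka xa29 ya5 za7) (ka xa26 ya1 za6) (ka xa26 ya1 za5) (ka xa29 ya3 za46) (ka xa29 ya3 za47) (ka xa25 ya38 za2) (ka xa28 ya47 za59) (ka xa28 ya47 za58) (ka xa29 ya3 za49) (ka xa23 ya39 za39) (ka xa13 ya56 za57) (ka xa25 ya5 za25) (ka xa10 ya56 za46) (ka xa21 ya48 za45) (ka xa21 ya48 za2) (ka xa17 ya28 za18) (ka xa18 ya52 za27) (ka xa27 ya18 za38) (ka xa29 ya3 za51) (ka xa27 ya30 za22) (ka xa25 ya31 za21) (ka xa28 ya56 za42) (ka xa10 ya56 za49) (ka xa29 ya5 za30) (ka xa25 ya26 za20) (ka xa27 ya18 za37) (ka xa19 ya36 za38) (ka xa15 ya3 za35) (ka xa15 ya3 za36) (ka xa18 ya51 za9) (ka xa19 ya39 za16) (ka xa26 ya44 za46) (ka xa16 ya48 za22) (ka xa16 ya48 za23) (ka xa18 ya2 za56) (ka xa25 ya24 za42) (ka xa24 ya16 za2) (ka xa24 ya16 za4) (ka xa21 ya3 za38) (ka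 xa11 ya2 za28) (ka xa17 ya53 za48) (ka xa11 ya13 za15) (ka xa10 ya57 za17) (ka xa24 ya22 za5) (ka xa10 ya57 za21) (ka xa10 ya57 za6) (ka xa29 ya2 za60) (ka xa19 ya39 za20) (ka xa16 ya48 za25) (ka xa26 ya25 za37) (ka xa19 ya39 za40) (ka xa19 ya39 za41) (ka xa19 ya33 za18) (ka xa19 ya39 za43) (ka xa26 ya28 za9) (ka xa19 ya39 za22) (ka xa26 ya22 za37)) (@D3.rec (fun _ => Pt) (ka xa17 ya57 za7) (ka xa24 ya57 za3) (ka xa20 ya25 za7) (ka xa17 ya59 za55) (ka xa17 ya59 za56) (ka xa10 ya57 za16) (ka xa16 ya47 za55) (ka xa26 ya44 za12) (ka xa20 ya42 za28) (ka xa24 ya16 za25) (ka xa22 ya44 za39) (ka xa29 ya0 za53) (ka xa20 ya26 za5) (ka xa21 ya11 za34) (ka xa29 ya5 za40) (ka xa21 ya0 za37) (ka xa20 ya22 za16) (ka xa10 ya57 za26) (ka xa22 ya7 za49) (ka xa29 ya5 za49) (ka xa10 ya57 za29) (ka xa28 ya49 za18) (ka xa26 ya40 za13) (ka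 xa23 ya45 za56) (ka xa26 ya39 za11) (ka xa10 ya59 za30) (ka xa20 ya25 za54) (ka xa11 ya28 za49) (ka xa26 ya1 za58) (ka xa26 ya2 za34) (ka xa19 ya58 za52) (ka xa15 ya42 za42) (ka xa10 ya57 za37) (ka xa14 ya45 za35) (ka xa24 ya20 za51) (ka xa26 ya0 za52) (ka xa26 ya45 za54) (ka xa26 ya45 za58) (ka xa26 ya45 za59) (ka xa26 ya45 za60) (ka xa25 ya38 za14) (ka xa26 ya45 za61) (ka xa17 ya56 za30) (ka xa29 ya6 za1) (ka xa26 ya46 za0) (ka xa11 ya2 za1) (ka xa11 ya2 za3) (ka xa17 ya31 za22) (ka xa14 ya9 za59) (ka xa20 ya31 za59) (ka xa26 ya45 za55) (ka xa26 ya45 za57) (ka xa15 ya53 za33) (ka xa15 ya53 za34) (ka xa10 ya58 za1) (ka xa10 ya58 za2) (ka xa10 ya58 za3) (ka xa10 ya58 za4) (ka xa10 ya58 za5) (ka xa10 ya58 za6) (ka xa11 ya1 za37) (ka xa10 ya58 za14)) (@D3.rec (fun _ => Pt) (ka xa10 ya58 za15) (ka xa10 ya58 za17) (ka xa10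 ya58 za21) (ka xa10 ya58 za23) (ka xa10 ya58 za25) (ka xa10 ya58 za26) (ka xa16 ya45 za59) (ka xa16 ya25 za37) (ka xa16 ya13 za18) (ka xa19 ya44 za59) (ka xa19 ya44 za56) (ka xa16 ya25 za34) (ka xa26 ya46 za2) (ka xa19 ya15 za14) (ka xa16 ya10 za44) (ka xa19 ya56 za10) (ka xa16 ya33 za29) (ka xa16 ya10 za43) (ka xa18 ya56 za39) (ka xa19 ya59 za8) (ka xa19 ya58 za54) (ka xa11 ya1 za41) (ka xa11 ya7 za24) (ka xa16 ya29 za42) (ka xa29 ya6 za10) (ka xa29 ya6 za11) (ka xa14 ya56 za20) (ka xa23 ya31 za19) (ka xa14 ya38 za50) (ka xa16 ya46 za13) (ka xa24 ya35 za57) (ka xa27 ya39 za19) (ka xa21 ya19 za6) (ka xa29 ya6 za12) (ka xa25 ya28 za3) (ka xa25 ya34 za36) (ka xa11 ya49 za57) (ka xa19 ya58 za61) (ka xa20 ya9 za59) (ka xa19 ya59 za17) (ka xa19 ya59 za1) (ka xa19 ya59 za2) (ka xa29 ya6 za35) (ka xa22 ya6 za26) (ka xa16 ya25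 za33) (ka xa16 ya25 za36) (ka xa12 ya38 za34) (ka xa12 ya47 za8) (ka xa10 ya58 za32) (ka xa24 ya34 za29) (ka xa24 ya22 za36) (ka xa29 ya6 za13) (ka xa26 ya49 za34) (ka xa29 ya3 za6) (ka xa29 ya3 za5) (ka xa28 ya24 za52) (ka xa16 ya7 za12) (ka xa26 ya46 za11) (ka xa10 ya58 za31) (ka xa20 ya59 za49) (ka xa23 ya30 za42) (ka xa28 ya47 za50)) (@D3.rec (fun _ => Pt) (ka xa20 ya4 za48) (ka xa19 ya32 za23) (ka xa10 ya58 za37) (ka xa28 ya26 za59) (ka xa29 ya6 za42) (ka xa19 ya50 za53) (ka xa10 ya58 za40) (ka xa29 ya6 za43) (ka xa15 ya50 za2) (ka xa20 ya2 za12) (ka xa20 ya15 za25) (ka xa17 ya53 za34) (ka xa15 ya15 za46) (ka xa10 ya58 za49) (ka xa24 ya58 za19) (ka xa25 ya10 za22) (ka xa23 ya31 za41) (ka xa21 ya32 za39) (ka xa10 ya59 za48) (ka xa10 ya58 za57) (ka xa15 ya20 za7) (ka xa28 ya55 za5) (ka xa29 ya2 za32) (ka xa17 ya56 za27)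 (ka xa26 ya52 za52) (ka xa11 ya1 za23) (ka xa15 ya20 za8) (ka xa25 ya49 za4) (ka xa21 ya35 za58) (ka xa21 ya35 za61) (ka xa26 ya45 za42) (ka xa16 ya25 za39) (ka xa11 ya2 za6) (ka xa11 ya2 za8) (ka xa10 ya59 za8) (ka xa10 ya59 za9) (ka xa10 ya59 za10) (ka xa11 ya11 za20) (ka xa10 ya59 za20) (ka xa10 ya59 za26) (ka xa15 ya21 za30) (ka xa10 ya59 za6) (ka xa19 ya16 za6) (ka xa21 ya58 za4) (ka xa25 ya12 za39) (ka xa29 ya0 za20) (ka xa19 ya40 za17) (ka xa29 ya7 za2) (ka xa27 ya21 za41) (ka xa20 ya43 za37) (ka xa29 ya6 za57) (ka xa29 ya6 za58) (ka xa20 ya43 za19) (ka xa20 ya4 za29) (ka xa20 ya4 za47) (ka xa19 ya32 za22) (ka xa14 ya8 za30) (ka xa10 ya59 za15) (ka xa26 ya0 za33) (ka xa21 ya35 za20) (ka xa23 ya3 za30) (ka xa16 ya12 za21)) (@D3.rec (fun _ => Pt) (ka xa12 ya47 za37) (ka xa19 ya52 za60) (ka xa23 ya31 za39) (ka xa23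 ya31 za38) (ka xa23 ya31 za51) (ka xa16 ya29 za17) (ka xa16 ya30 za53) (ka xa27 ya21 za16) (ka xa11 ya10 za20) (ka xa27 ya21 za48) (ka xa28 ya57 za10) (ka xa20 ya43 za41) (ka xa10 ya59 za25) (ka xa26 ya54 za1) (ka xa20 ya43 za42) (ka xa19 ya42 za59) (ka xa10 ya59 za57) (ka xa11 ya0 za3) (ka xa11 ya0 za4) (ka xa11 ya0 za6) (ka xa11 ya0 za7) (ka xa11 ya0 za8) (ka xa11 ya0 za13) (ka xa26 ya45 za43) (ka xa17 ya56 za26) (ka xa20 ya50 za49) (ka xa10 ya59 za47) (ka xa10 ya59 za52) (ka xa24 ya51 za29) (ka xa17 ya34 za42) (ka xa16 ya46 za21) (ka xa24 ya51 za49) (ka xa19 ya43 za60) (ka xa20 ya4 za36) (ka xa20 ya4 za37) (ka xa28 ya55 za26) (ka xa21 ya38 za16) (ka xa27 ya21 za11) (ka xa20 ya49 za60) (ka xa26 ya45 za45) (ka xa27 ya3 za20) (ka xa26 ya45 za47) (ka xa16 ya53 za9) (ka xa20 ya8 za31) (ka xa22 ya23 za31) (ka xa19 ya21 za39)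 (ka xa14 ya35 za13) (ka xa19 ya21 za40) (ka xa22 ya36 za24) (ka xa28 ya7 za50) (ka xa10 ya59 za60) (ka xa10 ya59 za61) (ka xa28 ya43 za9) (ka xa19 ya49 za5) (ka xa19 ya52 za11) (ka xa24 ya41 za11) (ka xa19 ya15 za10) (ka xa19 ya21 za5) (ka xa28 ya44 za1) (ka xa19 ya21 za6) (ka xa18 ya53 za26) (ka xa29 ya7 za37)) (@D3.rec (fun _ => Pt) (ka xa18 ya52 za60) (ka xa11 ya0 za40) (ka xa20 ya31 za34) (ka xa29 ya7 za15) (ka xa23 ya52 za0) (ka xa14 ya34 za0) (ka xa21 ya31 za45) (ka xa22 ya39 za7) (ka xa29 ya7 za16) (ka xa20 ya6 za16) (ka xa22 ya32 za20) (ka xa11 ya0 za42) (ka xa19 ya18 za13) (ka xa19 ya32 za34) (ka xa19 ya32 za35) (ka xa12 ya10 za14) (ka xa12 ya10 za12) (ka xa26 ya50 za21) (ka xa19 ya52 za0) (ka xa20 ya52 za45) (ka xa19 ya51 za61) (ka xa23 ya59 za58) (ka xa15 ya50 za52) (ka xa16 ya57 za19) (ka xa26 ya45 za51) (ka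 xa20 ya6 za22) (ka xa11 ya0 za31) (ka xa11 ya0 za35) (ka xa11 ya0 za37) (ka xa24 ya28 za59) (ka xa28 ya43 za5) (ka xa24 ya28 za39) (ka xa23 ya53 za45) (ka xa28 ya55 za39) (ka xa16 ya47 za5) (ka xa16 ya47 za8) (ka xa29 ya7 za48) (ka xa29 ya7 za49) (ka xa23 ya53 za42) (ka xa17 ya1 za30) (ka xa28 ya26 za21) (ka xa24 ya31 za8) (ka xa29 ya7 za61) (ka xa23 ya51 za59) (ka xa19 ya21 za22) (ka xa29 ya7 za43) (ka xa13 ya23 za23) (ka xa11 ya48 za35) (ka xa16 ya57 za7) (ka xa19 ya4 za33) (ka xa26 ya50 za1) (ka xa11 ya1 za12) (ka xa11 ya1 za14) (ka xa11 ya1 za15) (ka xa11 ya1 za16) (ka xa11 ya1 za18) (ka xa17 ya31 za31) (ka xa11 ya1 za21) (ka xa26 ya52 za53) (ka xa20 ya25 za12) (ka xa25 ya39 za28) (ka xa19 ya51 za20)) (@D3.rec (fun _ => Pt) (ka xa19 ya51 za18) (ka xa17 ya18 za23) (ka xa27 ya10 za52) (ka xa26 ya52 za55) (ka xa11 ya34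 za22) (ka xa11 ya34 za26) (ka xa11 ya1 za4) (ka xa28 ya13 za4) (ka xa19 ya15 za58) (ka xa26 ya51 za25) (ka xa26 ya51 za22) (ka xa19 ya50 za54) (ka xa19 ya18 za58) (ka xa28 ya46 za28) (ka xa29 ya8 za3) (ka xa29 ya8 za4) (ka xa29 ya8 za5) (ka xa29 ya8 za6) (ka xa29 ya8 za38) (ka xa21 ya31 za60) (ka xa11 ya22 za26) (ka xa21 ya9 za5) (ka xa29 ya8 za8) (ka xa26 ya49 za59) (ka xa20 ya25 za24) (ka xa29 ya8 za9) (ka xa28 ya37 za40) (ka xa29 ya8 za10) (ka xa20 ya45 za49) (ka xa20 ya50 za50) (ka xa20 ya50 za51) (ka xa20 ya25 za14) (ka xa22 ya40 za30) (ka xa29 ya8 za11) (ka xa26 ya52 za59) (ka xa20 ya50 za53) (ka xa20 ya28 za25) (ka xa29 ya8 za13) (ka xa21 ya13 za12) (ka xa19 ya42 za46) (ka xa21 ya3 za6) (ka xa20 ya53 za7) (ka xa28 ya43 za7) (ka xa28 ya50 za18) (ka xa19 ya32 za41) (ka xa19 ya42 za61) (ka xa11 ya25 za4) (ka xa28 ya30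 za42) (ka xa28 ya50 za17) (ka xa20 ya34 za9) (ka xa19 ya40 za35) (ka xa21 ya49 za45) (ka xa21 ya3 za28) (ka xa22 ya47 za17) (ka xa17 ya7 za28) (ka xa11 ya12 za29) (ka xa28 ya24 za59) (ka xa20 ya25 za3) (ka xa24 ya47 za9) (ka xa14 ya10 za51) (ka xa19 ya50 za1) (ka xa13 ya59 za15)) (@D3.rec (fun _ => Pt) (ka xa13 ya59 za13) (ka xa26 ya46 za32) (ka xa20 ya25 za52) (ka xa20 ya51 za13) (ka xa11 ya1 za49) (ka xa17 ya7 za29) (ka xa11 ya21 za48) (ka xa11 ya21 za49) (ka xa12 ya44 za17) (ka xa21 ya32 za40) (ka xa11 ya1 za58) (ka xa11 ya1 za59) (ka xa20 ya25 za2) (ka xa29 ya9 za10) (ka xa11 ya17 za49) (ka xa23 ya42 za44) (ka xa25 ya37 za47) (ka xa29 ya6 za4) (ka xa12 ya33 za43) (ka xa12 ya31 za15) (ka xa18 ya12 za54) (ka xa26 ya15 za12) (ka xa29 ya6 za55) (ka xa20 ya4 za58) (ka xa11 ya2 za12) (ka xa12 ya38 za46) (ka xa24 ya27 za31)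 (ka xa20 ya53 za3) (ka xa24 ya26 za35) (ka xa28 ya50 za30) (ka xa28 ya50 za31) (ka xa19 ya30 za24) (ka xa19 ya24 za13) (ka xa19 ya24 za7) (ka xa20 ya52 za53) (ka xa19 ya34 za11) (ka xa17 ya28 za52) (ka xa11 ya2 za22) (ka xa20 ya4 za56) (ka xa26 ya46 za41) (ka xa26 ya46 za40) (ka xa28 ya56 za52) (ka xa28 ya56 za53) (ka xa25 ya24 za21) (ka xa16 ya43 za19) (ka xa25 ya24 za17) (ka xa20 ya49 za33) (ka xa19 ya45 za3) (ka xa19 ya40 za11) (ka xa18 ya52 za59) (ka xa18 ya52 za58) (ka xa16 ya12 za60) (ka xa11 ya2 za33) (ka xa28 ya49 za33) (ka xa17 ya53 za0) (ka xa16 ya27 za49) (ka xa18 ya2 za57) (ka xa25 ya11 za57) (ka xa16 ya27 za54) (ka xa18 ya2 za54) (ka xa19 ya54 za5) (ka xa19 ya54 za4)) (@D3.rec (fun _ => Pt) (ka xa26 ya7 za16) (ka xa26 ya7 za17) (ka xa23 ya58 za52) (ka xa19 ya23 za33) (ka xa19 ya53 za61) (ka xa19 ya53 za60)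 (ka xa29 ya6 za3) (ka xa14 ya37 za39) (ka xa18 ya6 za21) (ka xa19 ya56 za38) (ka xa25 ya14 za41) (ka xa25 ya14 za42) (ka xa24 ya34 za19) (ka xa25 ya14 za38) (ka xa25 ya14 za39) (ka xa13 ya59 za36) (ka xa13 ya59 za37) (ka xa13 ya59 za35) (ka xa11 ya3 za59) (ka xa11 ya3 za60) (ka xa11 ya4 za5) (ka xa11 ya4 za6) (ka xa11 ya4 za7) (ka xa23 ya34 za38) (ka xa11 ya4 za18) (ka xa25 ya29 za0) (ka xa18 ya33 za28) (ka xa19 ya28 za48) (ka xa25 ya9 za48) (ka xa11 ya3 za0) (ka xa11 ya3 za1) (ka xa29 ya9 za55) (ka xa29 ya9 za56) (ka xa29 ya9 za57) (ka xa29 ya9 za58) (ka xa29 ya9 za59) (ka xa26 ya47 za28) (ka xa26 ya47 za29) (ka xa26 ya47 za30) (ka xa26 ya47 za31) (ka xa14 ya37 za21) (ka xa26 ya47 za33) (ka xa29 ya10 za22) (ka xa26 ya47 za34) (ka xa26 ya8 za8) (ka xa26 ya47 za35) (ka xa26 ya8 za6) (ka xa29 ya9 za46) (ka xa26 ya6 za27)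 (ka xa17 ya53 za51) (ka xa26 ya47 za37) (ka xa16 ya37 za35) (ka xa16 ya37 za34) (ka xa11 ya3 za11) (ka xa29 ya10 za35) (ka xa11 ya53 za8) (ka xa16 ya37 za48) (ka xa11 ya53 za6) (ka xa26 ya48 za21) (ka xa26 ya34 za44) (ka xa26 ya47 za19) (ka xa25 ya41 za36)) (@D3.rec (fun _ => Pt) (ka xa11 ya3 za18) (ka xa11 ya3 za19) (ka xa18 ya3 za8) (ka xa18 ya3 za7) (ka xa29 ya5 za56) (ka xa29 ya10 za43) (ka xa27 ya57 za0) (ka xa29 ya10 za44) (ka xa29 ya10 za45) (ka xa29 ya10 za46) (ka xa26 ya6 za58) (ka xa22 ya45 za49) (ka xa26 ya47 za12) (ka xa26 ya47 za13) (ka xa18 ya40 za25) (ka xa26 ya47 za14) (ka xa26 ya47 za15) (ka xa26 ya47 za16) (ka xa18 ya40 za21) (ka xa14 ya50 za41) (ka xa21 ya2 za29) (ka xa19 ya36 za55) (ka xa26 ya47 za39) (ka xa23 ya43 za47) (ka xa24 ya34 za6) (ka xa26 ya47 za38) (ka xa11 ya3 za28) (ka xa11 ya3 za29) (ka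 xa11 ya3 za30) (ka xa24 ya49 za33) (ka xa19 ya32 za49) (ka xa26 ya9 za48) (ka xa29 ya11 za13) (ka xa24 ya52 za4) (ka xa26 ya23 za10) (ka xa18 ya3 za12) (ka xa29 ya11 za14) (ka xa26 ya1 za30) (ka xa29 ya11 za15) (ka xa26 ya1 za28) (ka xa26 ya47 za57) (ka xa26 ya47 za58) (ka xa26 ya47 za59) (ka xa26 ya47 za60) (ka xa25 ya23 za18) (ka xa26 ya47 za61) (ka xa25 ya23 za17) (ka xa24 ya32 za2) (ka xa14 ya45 za30) (ka xa24 ya24 za17) (ka xa12 ya3 za20) (ka xa11 ya3 za37) (ka xa11 ya3 za38) (ka xa24 ya29 za15) (ka xa26 ya9 za9) (ka xa29 ya11 za39) (ka xa29 ya11 za40) (ka xa24 ya23 za49) (ka xa29 ya11 za41) (ka xa26 ya47 za44) (ka xa26 ya47 za45) (ka xa26 ya47 za46)) (@D3.rec (fun _ => Pt) (ka xa26 ya47 za47) (ka xa26 ya47 za48) (ka xa26 ya47 za49) (ka xa23 ya40 za32) (ka xa16 ya43 za37) (ka xa25 ya40 za38) (ka xa26 ya48 za4) (ka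 xa26 ya48 za5) (ka xa26 ya23 za9) (ka xa24 ya23 za23) (ka xa19 ya48 za15) (ka xa21 ya2 za21) (ka xa26 ya48 za1) (ka xa21 ya2 za19) (ka xa11 ya3 za48) (ka xa13 ya59 za26) (ka xa13 ya59 za24) (ka xa13 ya59 za25) (ka xa13 ya54 za57) (ka xa23 ya59 za15) (ka xa13 ya59 za28) (ka xa11 ya3 za53) (ka xa19 ya26 za25) (ka xa26 ya25 za13) (ka xa26 ya48 za9) (ka xa26 ya48 za10) (ka xa26 ya7 za10) (ka xa11 ya3 za55) (ka xa26 ya7 za9) (ka xa26 ya7 za8) (ka xa13 ya16 za1) (ka xa29 ya9 za52) (ka xa12 ya48 za53) (ka xa29 ya9 za53) (ka xa24 ya32 za21) (ka xa23 ya40 za52) (ka xa24 ya31 za60) (ka xa11 ya4 za3) (ka xa19 ya54 za9) (ka xa23 ya43 za48) (ka xa22 ya54 za31) (ka xa13 ya49 za10) (ka xa13 ya44 za8) (ka xa13 ya25 za9) (ka xa23 ya34 za39) (ka xa14 ya40 za19) (ka xa13 ya26 za0) (ka xa29 ya12 za26) (ka xa16 ya38 za16) (ka xa17 ya52 za33)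 (ka xa25 ya44 za18) (ka xa25 ya16 za52) (ka xa11 ya4 za16) (ka xa22 ya55 za30) (ka xa29 ya12 za27) (ka xa14 ya37 za26) (ka xa24 ya37 za56) (ka xa24 ya1 za49) (ka xa24 ya12 za23) (ka xa25 ya51 za14) (ka xa27 ya24 za25) (ka xa18 ya2 za23)) (@D3.rec (fun _ => Pt) (ka xa25 ya6 za58) (ka xa25 ya7 za27) (ka xa25 ya7 za12) (ka xa13 ya10 za25) (ka xa18 ya45 za27) (ka xa25 ya6 za0) (ka xa25 ya5 za61) (ka xa11 ya4 za31) (ka xa27 ya23 za11) (ka xa29 ya12 za38) (ka xa18 ya5 za46) (ka xa18 ya5 za39) (ka xa18 ya5 za40) (ka xa15 ya19 za35) (ka xa18 ya5 za37) (ka xa18 ya5 za43) (ka xa18 ya5 za42) (ka xa11 ya4 za35) (ka xa27 ya24 za18) (ka xa25 ya6 za3) (ka xa29 ya12 za47) (ka xa25 ya7 za0) (ka xa25 ya7 za21) (ka xa25 ya6 za60) (ka xa15 ya57 za49) (ka xa15 ya57 za44) (ka xa18 ya20 za31) (ka xa18 ya20 za30) (ka xa18 ya0 za42) (ka xa20 ya19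 za17) (ka xa21 ya23 za46) (ka xa28 ya41 za28) (ka xa20 ya19 za27) (ka xa21 ya16 za12) (ka xa26 ya47 za17) (ka xa20 ya14 za32) (ka xa17 ya52 za43) (ka xa17 ya45 za7) (ka xa19 ya36 za9) (ka xa17 ya45 za16) (ka xa14 ya50 za4) (ka xa20 ya6 za50) (ka xa19 ya30 za32) (ka xa19 ya33 za46) (ka xa19 ya37 za17) (ka xa19 ya39 za44) (ka xa25 ya8 za26) (ka xa24 ya49 za16) (ka xa24 ya49 za15) (ka xa25 ya22 za9) (ka xa24 ya51 za3) (ka xa11 ya5 za12) (ka xa11 ya5 za14) (ka xa11 ya5 za15) (ka xa11 ya5 za16) (ka xa16 ya37 za8) (ka xa16 ya37 za7) (ka xa11 ya5 za5) (ka xa25 ya22 za36) (ka xa15 ya18 za38) (ka xa19 ya29 za21) (ka xa24 ya50 za48)) (@D3.rec (fun _ => Pt) (ka xa19 ya32 za59) (ka xa11 ya5 za10) (ka xa11 ya5 za11) (ka xa25 ya44 za24) (ka xa29 ya13 za14) (ka xa27 ya22 za50) (ka xa26 ya54 za15) (ka xa24 ya51 za2) (ka xa29 ya13 za15)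 (ka xa29 ya13 za1) (ka xa29 ya13 za2) (ka xa29 ya13 za3) (ka xa29 ya9 za13) (ka xa25 ya22 za14) (ka xa20 ya56 za16) (ka xa25 ya22 za18) (ka xa29 ya13 za5) (ka xa20 ya55 za56) (ka xa29 ya13 za6) (ka xa28 ya14 za21) (ka xa26 ya44 za54) (ka xa24 ya51 za5) (ka xa29 ya5 za50) (ka xa15 ya28 za24) (ka xa29 ya13 za37) (ka xa28 ya51 za32) (ka xa16 ya49 za27) (ka xa26 ya35 za18) (ka xa19 ya32 za50) (ka xa19 ya39 za1) (ka xa19 ya32 za47) (ka xa19 ya32 za48) (ka xa11 ya5 za28) (ka xa11 ya5 za29) (ka xa19 ya33 za58) (ka xa27 ya22 za48) (ka xa19 ya39 za7) (ka xa26 ya54 za12) (ka xa18 ya25 za49) (ka xa29 ya2 za49) (ka xa29 ya13 za39) (ka xa18 ya25 za11) (ka xa19 ya30 za41) (ka xa25 ya8 za41) (ka xa15 ya0 za11) (ka xa20 ya9 za10) (ka xa11 ya22 za39) (ka xa25 ya41 za39) (ka xa19 ya28 za50) (ka xa11 ya5 za40) (ka xa29 ya13 za48) (ka xa29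 ya13 za49) (ka xa19 ya47 za30) (ka xa16 ya10 za42) (ka xa19 ya48 za20) (ka xa26 ya32 za58) (ka xa26 ya48 za30) (ka xa25 ya41 za26) (ka xa26 ya48 za31) (ka xa26 ya48 za32) (ka xa16 ya25 za30) (ka xa19 ya48 za37)) (@D3.rec (fun _ => Pt) (ka xa29 ya13 za60) (ka xa19 ya48 za40) (ka xa19 ya48 za41) (ka xa11 ya22 za48) (ka xa16 ya47 za35) (ka xa11 ya22 za47) (ka xa27 ya44 za32) (ka xa18 ya40 za14) (ka xa19 ya48 za19) (ka xa23 ya21 za45) (ka xa26 ya48 za25) (ka xa26 ya48 za26) (ka xa26 ya48 za27) (ka xa21 ya2 za34) (ka xa11 ya14 za59) (ka xa15 ya25 za18) (ka xa15 ya25 za21) (ka xa19 ya48 za39) (ka xa23 ya47 za26) (ka xa29 ya14 za11) (ka xa24 ya49 za57) (ka xa11 ya51 za43) (ka xa11 ya6 za1) (ka xa11 ya6 za2) (ka xa29 ya14 za18) (ka xa25 ya37 za38) (ka xa25 ya21 za49) (ka xa27 ya1 za8) (ka xa26 ya41 za22) (ka xa25 ya13 za45) (ka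 xa27 ya38 za11) (ka xa19 ya23 za16) (ka xa25 ya22 za46) (ka xa25 ya22 za45) (ka xa25 ya37 za36) (ka xa27 ya36 za60) (ka xa20 ya35 za52) (ka xa15 ya7 za4) (ka xa24 ya54 za42) (ka xa25 ya15 za58) (ka xa26 ya5 za22) (ka xa26 ya49 za47) (ka xa16 ya33 za27) (ka xa16 ya33 za28) (ka xa29 ya14 za33) (ka xa26 ya5 za25) (ka xa18 ya42 za39) (ka xa16 ya33 za10) (ka xa11 ya6 za24) (ka xa28 ya43 za34) (ka xa21 ya16 za5) (ka xa27 ya9 za33) (ka xa17 ya6 za50) (ka xa17 ya19 za7) (ka xa22 ya5 za7) (ka xa12 ya4 za2) (ka xa17 ya54 za60) (ka xa20 ya12 za51) (ka xa20 ya12 za52) (ka xa20 ya12 za54) (ka xa17 ya12 za20) (ka xa16 ya47 za31))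
def f_a_20 : D2 → D3 → Pt := @D2.rec (fun _ => D3 → Pt) (@D3.rec (fun _ => Pt) (ka xa15 ya0 za9) (ka xa22 ya45 za0) (ka xa20 ya6 za13) (ka xa18 ya1 za36) (ka xa24 ya55 za45) (ka xa25 ya18 za14) (ka xa11 ya6 za58) (ka xa11 ya6 za60) (ka xa14 ya58 za41) (ka xa23 ya49 za57) (ka xa15 ya32 za10) (ka xa18 ya20 za44) (ka xa15 ya24 za35) (ka xa17 ya54 za57) (ka xa15 ya3 za56) (ka xa15 ya3 za57) (ka xa11 ya24 za31) (ka xa20 ya32 za59) (ka xa14 ya50 za3) (ka xa20 ya5 za59) (ka xa16 ya54 za46) (ka xa11 ya7 za6) (ka xa15 ya3 za61) (ka xa17 ya30 za2) (ka xa20 ya6 za45) (ka xa27 ya13 za56) (ka xa11 ya47 za17) (ka xa12 ya8 za1) (ka xa21 ya53 za36) (ka xa20 ya1 za1) (ka xa16 ya30 za46) (ka xa24 ya54 za30) (ka xa11 ya17 za21) (ka xa11 ya17 za22) (ka xa20 ya6 za0) (ka xa17 ya2 za50) (ka xa11 ya7 za28) (ka xa11 ya7 za18) (ka xa20 ya6 za43)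 (ka xa20 ya27 za52) (ka xa25 ya47 za7) (ka xa21 ya15 za19) (ka xa21 ya15 za20) (ka xa20 ya6 za15) (ka xa11 ya7 za20) (ka xa26 ya8 za57) (ka xa28 ya47 za52) (ka xa20 ya6 za5) (ka xa20 ya6 za6) (ka xa20 ya6 za7) (ka xa20 ya6 za8) (ka xa20 ya6 za9) (ka xa20 ya30 za54) (ka xa24 ya53 za12) (ka xa11 ya7 za61) (ka xa11 ya7 za32) (ka xa27 ya20 za19) (ka xa24 ya53 za18) (ka xa29 ya14 za48) (ka xa14 ya59 za39) (ka xa11 ya7 za34) (ka xa29 ya11 za45)) (@D3.rec (fun _ => Pt) (ka xa22 ya56 za56) (ka xa20 ya0 za29) (ka xa26 ya48 za44) (ka xa26 ya48 za45) (ka xa20 ya17 za42) (ka xa26 ya48 za46) (ka xa25 ya23 za37) (ka xa24 ya53 za20) (ka xa18 ya25 za10) (ka xa16 ya54 za50) (ka xa20 ya30 za0) (ka xa11 ya7 za41) (ka xa28 ya13 za49) (ka xa29 ya14 za53) (ka xa26 ya48 za40) (ka xa20 ya14 za47) (ka xa20 ya18 za45) (ka xa20 ya18 za46) (ka xa26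 ya25 za4) (ka xa26 ya25 za5) (ka xa26 ya25 za6) (ka xa26 ya26 za26) (ka xa21 ya14 za14) (ka xa20 ya6 za28) (ka xa20 ya6 za26) (ka xa15 ya50 za16) (ka xa16 ya29 za43) (ka xa11 ya7 za54) (ka xa16 ya56 za11) (ka xa29 ya15 za0) (ka xa27 ya40 za28) (ka xa17 ya3 za39) (ka xa24 ya49 za28) (ka xa16 ya54 za57) (ka xa27 ya40 za47) (ka xa27 ya40 za48) (ka xa16 ya26 za17) (ka xa17 ya3 za36) (ka xa13 ya26 za54) (ka xa21 ya51 za31) (ka xa23 ya3 za60) (ka xa11 ya42 za3) (ka xa29 ya15 za7) (ka xa16 ya58 za52) (ka xa29 ya15 za10) (ka xa16 ya58 za49) (ka xa24 ya3 za53) (ka xa29 ya15 za13) (ka xa25 ya21 za58) (ka xa25 ya21 za26) (ka xa16 ya58 za57) (ka xa16 ya58 za54) (ka xa20 ya1 za54) (ka xa27 ya44 za15) (ka xa20 ya1 za52) (ka xa20 ya54 za32) (ka xa20 ya54 za34) (ka xa27 ya21 za32) (ka xa26 ya56 za26) (ka xa16 ya30 za9) (ka xa13 ya28 za24)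 (ka xa13 ya31 za60)) (@D3.rec (fun _ => Pt) (ka xa18 ya24 za10) (ka xa12 ya45 za3) (ka xa18 ya24 za34) (ka xa21 ya7 za37) (ka xa26 ya3 za55) (ka xa21 ya57 za32) (ka xa17 ya3 za12) (ka xa20 ya26 za61) (ka xa17 ya16 za47) (ka xa15 ya55 za1) (ka xa19 ya36 za12) (ka xa14 ya51 za16) (ka xa19 ya49 za9) (ka xa25 ya13 za50) (ka xa11 ya8 za42) (ka xa29 ya15 za31) (ka xa29 ya15 za32) (ka xa29 ya15 za33) (ka xa29 ya15 za34) (ka xa26 ya4 za46) (ka xa15 ya16 za31) (ka xa27 ya30 za13) (ka xa25 ya14 za11) (ka xa15 ya16 za19) (ka xa25 ya14 za12) (ka xa25 ya13 za41) (ka xa25 ya14 za13) (ka xa25 ya14 za14) (ka xa25 ya41 za49) (ka xa19 ya23 za21) (ka xa11 ya8 za51) (ka xa24 ya36 za33) (ka xa29 ya15 za55) (ka xa29 ya15 za56) (ka xa29 ya15 za57) (ka xa19 ya38 za49) (ka xa25 ya13 za58) (ka xa26 ya4 za53) (ka xa25 ya13 za60) (ka xa25 ya6 za45)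 (ka xa25 ya13 za61) (ka xa25 ya6 za43) (ka xa25 ya14 za59) (ka xa25 ya8 za28) (ka xa19 ya30 za8) (ka xa15 ya21 za23) (ka xa15 ya21 za24) (ka xa15 ya21 za9) (ka xa21 ya21 za30) (ka xa21 ya21 za27) (ka xa27 ya20 za41) (ka xa12 ya41 za49) (ka xa25 ya8 za42) (ka xa25 ya8 za43) (ka xa25 ya8 za44) (ka xa25 ya6 za34) (ka xa19 ya11 za57) (ka xa24 ya11 za22) (ka xa25 ya14 za15) (ka xa25 ya8 za33) (ka xa11 ya9 za5) (ka xa29 ya16 za26)) (@D3.rec (fun _ => Pt) (ka xa29 ya16 za27) (ka xa29 ya16 za28) (ka xa29 ya16 za29) (ka xa25 ya8 za29) (ka xa25 ya8 za30) (ka xa25 ya8 za31) (ka xa25 ya8 za34) (ka xa26 ya36 za52) (ka xa16 ya44 za45) (ka xa15 ya29 za52) (ka xa25 ya14 za22) (ka xa25 ya14 za23) (ka xa15 ya21 za0) (ka xa11 ya9 za11) (ka xa29 ya16 za40) (ka xa25 ya8 za27) (ka xa25 ya14 za18) (ka xa21 ya57 za54) (ka xa11 ya9 za14) (ka xa11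 ya9 za15) (ka xa26 ya37 za14) (ka xa29 ya0 za60) (ka xa29 ya16 za48) (ka xa29 ya0 za1) (ka xa29 ya16 za49) (ka xa24 ya20 za23) (ka xa11 ya9 za17) (ka xa24 ya20 za33) (ka xa29 ya16 za52) (ka xa25 ya9 za51) (ka xa25 ya9 za52) (ka xa25 ya9 za53) (ka xa25 ya9 za54) (ka xa24 ya11 za19) (ka xa11 ya9 za20) (ka xa24 ya2 za35) (ka xa25 ya9 za59) (ka xa25 ya9 za60) (ka xa24 ya10 za35) (ka xa24 ya11 za24) (ka xa25 ya15 za15) (ka xa25 ya15 za16) (ka xa25 ya15 za17) (ka xa25 ya15 za18) (ka xa24 ya12 za21) (ka xa20 ya23 za8) (ka xa11 ya9 za28) (ka xa29 ya17 za4) (ka xa28 ya41 za59) (ka xa25 ya13 za48) (ka xa25 ya15 za25) (ka xa25 ya15 za26) (ka xa19 ya45 za0) (ka xa25 ya15 za21) (ka xa11 ya9 za31) (ka xa29 ya17 za11) (ka xa25 ya15 za30) (ka xa25 ya15 za31) (ka xa26 ya16 za57) (ka xa25 ya15 za34) (ka xa25 ya15 za35) (ka xa26 ya18 za6))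 (@D3.rec (fun _ => Pt) (ka xa25 ya15 za37) (ka xa15 ya20 za15) (ka xa12 ya18 za0) (ka xa24 ya45 za4) (ka xa21 ya59 za13) (ka xa22 ya11 za10) (ka xa12 ya29 za25) (ka xa12 ya29 za22) (ka xa12 ya50 za11) (ka xa25 ya15 za39) (ka xa25 ya15 za40) (ka xa26 ya1 za35) (ka xa28 ya57 za46) (ka xa11 ya9 za46) (ka xa29 ya17 za29) (ka xa18 ya4 za31) (ka xa25 ya15 za47) (ka xa25 ya15 za48) (ka xa25 ya15 za49) (ka xa13 ya1 za23) (ka xa25 ya5 za21) (ka xa19 ya36 za15) (ka xa15 ya17 za61) (ka xa27 ya30 za10) (ka xa26 ya4 za40) (ka xa26 ya46 za54) (ka xa26 ya46 za55) (ka xa26 ya46 za56) (ka xa26 ya46 za57) (ka xa19 ya49 za53) (ka xa17 ya13 za6) (ka xa11 ya57 za56) (ka xa25 ya40 za43) (ka xa11 ya10 za2) (ka xa24 ya52 za42) (ka xa28 ya55 za3) (ka xa19 ya50 za33) (ka xa19 ya50 za34) (ka xa26 ya27 za13) (ka xa11 ya20 za24) (ka xa26 ya27 za14)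 (ka xa26 ya46 za48) (ka xa24 ya36 za35) (ka xa26 ya46 za49) (ka xa24 ya36 za32) (ka xa24 ya54 za28) (ka xa16 ya10 za59) (ka xa19 ya49 za54) (ka xa19 ya49 za0) (ka xa11 ya56 za17) (ka xa11 ya20 za20) (ka xa26 ya56 za57) (ka xa11 ya10 za16) (ka xa11 ya10 za17) (ka xa11 ya10 za21) (ka xa28 ya59 za36) (ka xa19 ya53 za38) (ka xa29 ya0 za54) (ka xa19 ya53 za23) (ka xa28 ya59 za22) (ka xa16 ya47 za32) (ka xa24 ya52 za15)) (@D3.rec (fun _ => Pt) (ka xa27 ya21 za38) (ka xa29 ya0 za55) (ka xa19 ya36 za29) (ka xa22 ya3 za19) (ka xa11 ya10 za25) (ka xa28 ya1 za23) (ka xa29 ya17 za55) (ka xa24 ya50 za27) (ka xa27 ya1 za33) (ka xa11 ya10 za32) (ka xa11 ya10 za33) (ka xa26 ya48 za36) (ka xa11 ya10 za31) (ka xa27 ya22 za55) (ka xa25 ya21 za10) (ka xa26 ya48 za37) (ka xa27 ya29 za30) (ka xa29 ya17 za58) (ka xa18 ya33 za31) (ka xa18 ya33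 za30) (ka xa15 ya2 za52) (ka xa18 ya52 za21) (ka xa11 ya10 za37) (ka xa19 ya40 za29) (ka xa19 ya40 za28) (ka xa29 ya14 za27) (ka xa11 ya55 za47) (ka xa29 ya18 za7) (ka xa20 ya51 za44) (ka xa21 ya23 za54) (ka xa25 ya44 za48) (ka xa12 ya50 za2) (ka xa29 ya18 za10) (ka xa11 ya17 za4) (ka xa11 ya24 za38) (ka xa11 ya10 za51) (ka xa29 ya18 za11) (ka xa20 ya6 za60) (ka xa11 ya11 za6) (ka xa11 ya11 za7) (ka xa20 ya15 za37) (ka xa16 ya28 za29) (ka xa11 ya10 za58) (ka xa26 ya4 za2) (ka xa11 ya10 za61) (ka xa12 ya45 za40) (ka xa11 ya11 za1) (ka xa28 ya8 za0) (ka xa21 ya3 za27) (ka xa26 ya47 za0) (ka xa11 ya11 za3) (ka xa24 ya28 za1) (ka xa21 ya28 za48) (ka xa11 ya11 za13) (ka xa14 ya8 za2) (ka xa20 ya7 za18) (ka xa26 ya32 za57) (ka xa27 ya13 za27) (ka xa20 ya22 za15) (ka xa20 ya0 za19) (ka xa27 ya42 za15) (ka xa15 ya6 za21)) (@D3.rec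 (fun _ => Pt) (ka xa20 ya0 za34) (ka xa15 ya6 za33) (ka xa11 ya11 za28) (ka xa16 ya12 za6) (ka xa23 ya4 za15) (ka xa20 ya0 za47) (ka xa20 ya0 za48) (ka xa20 ya0 za49) (ka xa20 ya0 za50) (ka xa20 ya0 za51) (ka xa12 ya58 za6) (ka xa19 ya21 za13) (ka xa16 ya53 za53) (ka xa20 ya0 za2) (ka xa21 ya37 za38) (ka xa20 ya0 za43) (ka xa19 ya51 za9) (ka xa11 ya11 za35) (ka xa22 ya31 za48) (ka xa13 ya26 za59) (ka xa13 ya27 za37) (ka xa13 ya27 za0) (ka xa19 ya51 za25) (ka xa15 ya0 za19) (ka xa16 ya27 za59) (ka xa16 ya53 za20) (ka xa20 ya1 za24) (ka xa12 ya8 za3) (ka xa20 ya1 za23) (ka xa16 ya30 za30) (ka xa16 ya50 za36) (ka xa16 ya30 za57) (ka xa16 ya30 za56) (ka xa27 ya13 za26) (ka xa22 ya38 za35) (ka xa23 ya3 za61) (ka xa16 ya53 za60) (ka xa24 ya36 za25) (ka xa16 ya31 za7) (ka xa15 ya43 za22) (ka xa11 ya17 za29) (ka xa23 ya42 za26)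 (ka xa13 ya58 za53) (ka xa20 ya0 za38) (ka xa29 ya18 za13) (ka xa20 ya0 za24) (ka xa14 ya46 za33) (ka xa11 ya12 za9) (ka xa20 ya27 za49) (ka xa20 ya18 za36) (ka xa19 ya57 za41) (ka xa11 ya12 za15) (ka xa25 ya45 za51) (ka xa21 ya32 za7) (ka xa26 ya58 za23) (ka xa22 ya2 za33) (ka xa11 ya12 za19) (ka xa21 ya29 za1) (ka xa12 ya8 za61) (ka xa11 ya12 za22) (ka xa20 ya5 za37) (ka xa11 ya59 za22)) (@D3.rec (fun _ => Pt) (ka xa11 ya59 za21) (ka xa11 ya12 za26) (ka xa29 ya18 za25) (ka xa29 ya18 za26) (ka xa21 ya21 za20) (ka xa29 ya18 za30) (ka xa20 ya10 za18) (ka xa25 ya28 za37) (ka xa26 ya19 za0) (ka xa26 ya19 za1) (ka xa11 ya18 za23) (ka xa11 ya19 za55) (ka xa20 ya25 za28) (ka xa23 ya30 za4) (ka xa27 ya40 za44) (ka xa17 ya9 za12) (ka xa11 ya12 za50) (ka xa19 ya27 za26) (ka xa20 ya5 za55) (ka xa11 ya41 za61) (ka xa19 ya27 za1)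 (ka xa20 ya8 za6) (ka xa16 ya23 za24) (ka xa21 ya15 za12) (ka xa20 ya7 za60) (ka xa14 ya59 za3) (ka xa24 ya53 za26) (ka xa13 ya42 za21) (ka xa20 ya8 za28) (ka xa24 ya53 za4) (ka xa26 ya49 za36) (ka xa26 ya49 za38) (ka xa26 ya49 za39) (ka xa19 ya33 za49) (ka xa26 ya27 za12) (ka xa11 ya22 za38) (ka xa11 ya22 za40) (ka xa11 ya22 za51) (ka xa26 ya49 za41) (ka xa29 ya18 za44) (ka xa23 ya5 za42) (ka xa24 ya52 za60) (ka xa24 ya52 za61) (ka xa16 ya28 za44) (ka xa15 ya5 za25) (ka xa26 ya18 za23) (ka xa19 ya2 za31) (ka xa26 ya32 za24) (ka xa16 ya28 za45) (ka xa16 ya28 za46) (ka xa28 ya26 za19) (ka xa26 ya49 za43) (ka xa26 ya22 za24) (ka xa22 ya59 za46) (ka xa11 ya14 za4) (ka xa11 ya14 za6) (ka xa11 ya14 za7) (ka xa11 ya14 za8) (ka xa11 ya14 za12) (ka xa14 ya59 za4) (ka xa20 ya7 za24) (ka xa16 ya27 za41)) (@D3.rec (fun _ => Pt) (ka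 xa13 ya33 za12) (ka xa16 ya21 za0) (ka xa26 ya24 za54) (ka xa14 ya59 za20) (ka xa16 ya23 za4) (ka xa17 ya55 za6) (ka xa20 ya7 za21) (ka xa18 ya59 za35) (ka xa20 ya18 za22) (ka xa18 ya59 za52) (ka xa20 ya18 za25) (ka xa26 ya29 za32) (ka xa26 ya5 za24) (ka xa26 ya49 za48) (ka xa18 ya21 za58) (ka xa20 ya18 za28) (ka xa18 ya58 za43) (ka xa26 ya49 za50) (ka xa26 ya49 za49) (ka xa11 ya13 za35) (ka xa26 ya24 za18) (ka xa26 ya18 za40) (ka xa17 ya46 za52) (ka xa18 ya22 za19) (ka xa14 ya58 za54) (ka xa14 ya58 za58) (ka xa19 ya24 za18) (ka xa24 ya21 za60) (ka xa20 ya7 za28) (ka xa26 ya49 za55) (ka xa22 ya11 za55) (ka xa19 ya50 za43) (ka xa17 ya6 za17) (ka xa15 ya5 za32) (ka xa15 ya5 za29) (ka xa20 ya52 za0) (ka xa26 ya25 za56) (ka xa17 ya15 za13) (ka xa11 ya48 za17) (ka xa11 ya35 za34) (ka xa16 ya33 za22) (ka xa11 ya13 za57) (ka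 xa26 ya46 za25) (ka xa11 ya37 za57) (ka xa29 ya19 za11) (ka xa20 ya18 za26) (ka xa20 ya27 za55) (ka xa21 ya15 za14) (ka xa21 ya15 za13) (ka xa11 ya13 za60) (ka xa26 ya31 za61) (ka xa20 ya18 za23) (ka xa26 ya49 za56) (ka xa12 ya22 za20) (ka xa26 ya49 za57) (ka xa22 ya49 za22) (ka xa20 ya8 za59) (ka xa29 ya18 za52) (ka xa29 ya18 za53) (ka xa20 ya8 za56) (ka xa16 ya51 za27) (ka xa23 ya10 za42)) (@D3.rec (fun _ => Pt) (ka xa26 ya56 za43) (ka xa24 ya53 za22) (ka xa29 ya18 za54) (ka xa20 ya32 za52) (ka xa29 ya18 za55) (ka xa16 ya57 za10) (ka xa26 ya50 za51) (ka xa20 ya9 za8) (ka xa20 ya9 za7) (ka xa16 ya32 za8) (ka xa19 ya58 za45) (ka xa14 ya20 za13) (ka xa20 ya29 za0) (ka xa22 ya6 za10) (ka xa19 ya21 za48) (ka xa24 ya52 za59) (ka xa27 ya44 za7) (ka xa22 ya8 za1) (ka xa11 ya14 za20) (ka xa19 ya40 za20) (ka xa15 ya4 za20) (ka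 xa26 ya50 za13) (ka xa21 ya30 za33) (ka xa21 ya30 za34) (ka xa21 ya30 za37) (ka xa12 ya3 za59) (ka xa12 ya3 za60) (ka xa12 ya3 za39) (ka xa12 ya3 za40) (ka xa21 ya52 za0) (ka xa11 ya14 za32) (ka xa11 ya14 za35) (ka xa11 ya47 za25) (ka xa17 ya22 za22) (ka xa13 ya17 za2) (ka xa26 ya50 za19) (ka xa26 ya50 za20) (ka xa21 ya3 za22) (ka xa11 ya17 za12) (ka xa11 ya14 za43) (ka xa11 ya14 za44) (ka xa11 ya14 za45) (ka xa26 ya49 za31) (ka xa20 ya9 za54) (ka xa20 ya17 za36) (ka xa26 ya45 za49) (ka xa14 ya50 za21) (ka xa19 ya32 za19) (ka xa16 ya9 za17) (ka xa20 ya21 za60) (ka xa14 ya50 za20) (ka xa16 ya31 za28) (ka xa12 ya27 za36) (ka xa21 ya18 za34) (ka xa20 ya9 za43) (ka xa11 ya14 za53) (ka xa11 ya15 za0) (ka xa11 ya14 za58) (ka xa16 ya52 za37) (ka xa19 ya48 za38) (ka xa16 ya52 za36) (ka xa20 ya15 za17)) (@D3.rec (fun _ => Pt) (ka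 xa20 ya15 za20) (ka xa20 ya10 za38) (ka xa29 ya19 za48) (ka xa26 ya17 za34) (ka xa20 ya11 za30) (ka xa20 ya11 za29) (ka xa26 ya49 za0) (ka xa26 ya48 za61) (ka xa11 ya15 za9) (ka xa29 ya19 za51) (ka xa29 ya19 za52) (ka xa20 ya21 za41) (ka xa20 ya21 za38) (ka xa26 ya17 za31) (ka xa26 ya49 za3) (ka xa26 ya49 za4) (ka xa24 ya53 za16) (ka xa26 ya49 za5) (ka xa20 ya7 za6) (ka xa26 ya17 za32) (ka xa26 ya48 za60) (ka xa26 ya20 za12) (ka xa24 ya28 za3) (ka xa22 ya17 za58) (ka xa13 ya24 za25) (ka xa26 ya49 za7) (ka xa26 ya49 za6) (ka xa29 ya2 za57) (ka xa29 ya2 za58) (ka xa11 ya16 za6) (ka xa11 ya16 za10) (ka xa11 ya16 za12) (ka xa11 ya16 za16) (ka xa11 ya16 za17) (ka xa17 ya19 za47) (ka xa16 ya22 za41) (ka xa22 ya49 za52) (ka xa16 ya51 za19) (ka xa20 ya10 za1) (ka xa16 ya21 za61) (ka xa19 ya21 za37) (ka xa26 ya17 za29) (ka xa15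 ya5 za59) (ka xa24 ya56 za33) (ka xa29 ya20 za29) (ka xa26 ya17 za23) (ka xa26 ya17 za24) (ka xa26 ya17 za25) (ka xa24 ya56 za39) (ka xa26 ya17 za27) (ka xa22 ya49 za54) (ka xa16 ya21 za44) (ka xa28 ya38 za6) (ka xa20 ya19 za1) (ka xa26 ya18 za33) (ka xa24 ya57 za38) (ka xa26 ya18 za34) (ka xa26 ya18 za35) (ka xa28 ya45 za42) (ka xa20 ya19 za3) (ka xa18 ya19 za56) (ka xa26 ya18 za31)) (@D3.rec (fun _ => Pt) (ka xa29 ya20 za43) (ka xa20 ya19 za5) (ka xa26 ya18 za37) (ka xa27 ya51 za59) (ka xa20 ya19 za6) (ka xa20 ya20 za52) (ka xa26 ya15 za37) (ka xa26 ya15 za36) (ka xa11 ya15 za41) (ka xa29 ya20 za48) (ka xa26 ya18 za14) (ka xa24 ya12 za49) (ka xa22 ya50 za57) (ka xa22 ya50 za58) (ka xa22 ya50 za60) (ka xa22 ya50 za55) (ka xa22 ya50 za56) (ka xa13 ya41 za13) (ka xa22 ya50 za15) (ka xa22 ya50 za16) (ka xa18 ya48 za42) (ka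 xa20 ya21 za42) (ka xa29 ya3 za3) (ka xa20 ya21 za39) (ka xa20 ya21 za44) (ka xa20 ya21 za43) (ka xa11 ya15 za50) (ka xa29 ya21 za13) (ka xa23 ya4 za16) (ka xa20 ya10 za5) (ka xa20 ya10 za4) (ka xa22 ya47 za7) (ka xa26 ya49 za12) (ka xa17 ya6 za36) (ka xa26 ya49 za13) (ka xa26 ya49 za14) (ka xa11 ya50 za20) (ka xa11 ya50 za21) (ka xa23 ya0 za23) (ka xa18 ya48 za57) (ka xa11 ya15 za55) (ka xa28 ya23 za7) (ka xa20 ya21 za47) (ka xa12 ya3 za42) (ka xa12 ya3 za43) (ka xa12 ya3 za45) (ka xa12 ya3 za46) (ka xa17 ya24 za27) (ka xa17 ya11 za38) (ka xa20 ya19 za4) (ka xa24 ya1 za14) (ka xa25 ya52 za4) (ka xa26 ya49 za16) (ka xa11 ya16 za0) (ka xa25 ya25 za39) (ka xa15 ya50 za59) (ka xa15 ya31 za3) (ka xa18 ya45 za49) (ka xa26 ya49 za18) (ka xa22 ya35 za53) (ka xa23 ya46 za36) (ka xa27 ya51 za1)) (@D3.rec (fun _ => Pt) (ka xa28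 ya5 za44) (ka xa18 ya34 za34) (ka xa28 ya47 za38) (ka xa29 ya20 za17) (ka xa15 ya56 za38) (ka xa20 ya58 za32) (ka xa29 ya20 za18) (ka xa12 ya54 za24) (ka xa25 ya52 za41) (ka xa25 ya52 za38) (ka xa29 ya20 za19) (ka xa12 ya4 za7) (ka xa21 ya9 za1) (ka xa11 ya21 za55) (ka xa11 ya21 za29) (ka xa26 ya46 za36) (ka xa29 ya20 za20) (ka xa22 ya5 za2) (ka xa29 ya20 za21) (ka xa28 ya19 za8) (ka xa11 ya25 za60) (ka xa11 ya16 za21) (ka xa11 ya17 za43) (ka xa11 ya16 za24) (ka xa17 ya12 za33) (ka xa19 ya18 za9) (ka xa25 ya53 za5) (ka xa23 ya37 za37) (ka xa11 ya16 za28) (ka xa11 ya18 za8) (ka xa11 ya18 za7) (ka xa25 ya31 za14) (ka xa11 ya19 za53) (ka xa11 ya19 za51) (ka xa11 ya20 za21) (ka xa11 ya20 za22) (ka xa11 ya20 za25) (ka xa11 ya20 za30) (ka xa29 ya21 za49) (ka xa11 ya17 za1) (ka xa11 ya17 za34) (ka xa24 ya54 za25) (ka xa11 ya17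 za9) (ka xa11 ya17 za10) (ka xa11 ya20 za17) (ka xa23 ya39 za60) (ka xa11 ya17 za33) (ka xa11 ya17 za30) (ka xa21 ya51 za59) (ka xa21 ya51 za60) (ka xa21 ya51 za61) (ka xa19 ya59 za57) (ka xa19 ya59 za58) (ka xa17 ya58 za4) (ka xa19 ya59 za59) (ka xa17 ya32 za0) (ka xa11 ya24 za21) (ka xa29 ya18 za9) (ka xa29 ya18 za8) (ka xa11 ya16 za61) (ka xa21 ya46 za19) (ka xa29 ya21 za52)) (@D3.rec (fun _ => Pt) (ka xa20 ya15 za7) (ka xa23 ya47 za0) (ka xa11 ya17 za2) (ka xa21 ya27 za40) (ka xa20 ya15 za5) (ka xa24 ya32 za49) (ka xa22 ya3 za13) (ka xa17 ya35 za33) (ka xa12 ya12 za13) (ka xa17 ya35 za37) (ka xa27 ya29 za18) (ka xa23 ya36 za17) (ka xa27 ya29 za39) (ka xa16 ya51 za29) (ka xa29 ya12 za60) (ka xa24 ya32 za46) (ka xa24 ya33 za14) (ka xa21 ya47 za50) (ka xa11 ya17 za40) (ka xa11 ya17 za41) (ka xa22 ya38 za41) (ka xa21 ya37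 za18) (ka xa11 ya18 za19) (ka xa11 ya20 za8) (ka xa11 ya17 za24) (ka xa11 ya17 za25) (ka xa11 ya17 za26) (ka xa11 ya17 za20) (ka xa29 ya21 za60) (ka xa29 ya21 za61) (ka xa26 ya57 za45) (ka xa16 ya51 za44) (ka xa16 ya51 za46) (ka xa24 ya59 za54) (ka xa24 ya54 za21) (ka xa23 ya24 za42) (ka xa23 ya34 za46) (ka xa27 ya1 za14) (ka xa12 ya10 za9) (ka xa17 ya55 za24) (ka xa21 ya9 za38) (ka xa20 ya14 za0) (ka xa26 ya46 za12) (ka xa11 ya17 za38) (ka xa29 ya6 za36) (ka xa27 ya43 za14) (ka xa16 ya14 za10) (ka xa27 ya3 za26) (ka xa15 ya48 za32) (ka xa17 ya55 za15) (ka xa12 ya46 za6) (ka xa14 ya48 za11) (ka xa11 ya47 za1) (ka xa27 ya56 za39) (ka xa29 ya22 za10) (ka xa11 ya46 za60) (ka xa16 ya30 za55) (ka xa26 ya25 za30) (ka xa23 ya38 za5) (ka xa12 ya6 za50) (ka xa12 ya6 za51) (ka xa12 ya6 za52)) (@D3.rec (fun _ => Pt) (ka xa20 ya13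 za41) (ka xa12 ya10 za34) (ka xa11 ya18 za31) (ka xa11 ya18 za33) (ka xa11 ya18 za51) (ka xa11 ya18 za50) (ka xa25 ya45 za49) (ka xa11 ya18 za37) (ka xa11 ya18 za38) (ka xa11 ya18 za39) (ka xa11 ya18 za40) (ka xa11 ya18 za44) (ka xa11 ya18 za45) (ka xa11 ya18 za46) (ka xa11 ya18 za48) (ka xa11 ya18 za61) (ka xa11 ya19 za14) (ka xa11 ya37 za49) (ka xa29 ya21 za46) (ka xa21 ya26 za58) (ka xa29 ya6 za0) (ka xa11 ya37 za44) (ka xa26 ya23 za19) (ka xa21 ya26 za56) (ka xa11 ya36 za44) (ka xa11 ya18 za10) (ka xa11 ya18 za11) (ka xa25 ya57 za27) (ka xa28 ya31 za17) (ka xa29 ya22 za18) (ka xa12 ya44 za60) (ka xa29 ya22 za19) (ka xa19 ya57 za35) (ka xa25 ya31 za10) (ka xa11 ya19 za33) (ka xa11 ya19 za37) (ka xa20 ya20 za37) (ka xa11 ya19 za41) (ka xa11 ya19 za42) (ka xa29 ya22 za23) (ka xa11 ya19 za44) (ka xa11 ya19 za45) (ka xa11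 ya19 za46) (ka xa11 ya19 za47) (ka xa11 ya19 za48) (ka xa11 ya19 za49) (ka xa11 ya19 za50) (ka xa20 ya1 za15) (ka xa28 ya39 za9) (ka xa13 ya59 za2) (ka xa11 ya19 za60) (ka xa11 ya20 za0) (ka xa11 ya20 za5) (ka xa11 ya20 za7) (ka xa11 ya20 za14) (ka xa11 ya20 za15) (ka xa11 ya20 za19) (ka xa17 ya32 za12) (ka xa23 ya24 za25) (ka xa11 ya47 za49) (ka xa11 ya47 za48) (ka xa21 ya18 za48)) (@D3.rec (fun _ => Pt) (ka xa23 ya2 za40) (ka xa29 ya0 za37) (ka xa20 ya36 za25) (ka xa29 ya22 za12) (ka xa21 ya18 za49) (ka xa20 ya13 za4) (ka xa25 ya45 za54) (ka xa20 ya13 za0) (ka xa12 ya28 za57) (ka xa20 ya15 za48) (ka xa21 ya3 za29) (ka xa20 ya52 za15) (ka xa16 ya49 za46) (ka xa17 ya30 za15) (ka xa26 ya46 za5) (ka xa27 ya43 za13) (ka xa26 ya45 za56) (ka xa20 ya9 za61) (ka xa26 ya52 za48) (ka xa26 ya52 za49) (ka xa20 ya10 za0) (ka xa27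 ya20 za20) (ka xa29 ya22 za14) (ka xa15 ya20 za37) (ka xa29 ya22 za15) (ka xa19 ya49 za10) (ka xa25 ya50 za14) (ka xa28 ya44 za42) (ka xa16 ya47 za29) (ka xa20 ya27 za37) (ka xa21 ya54 za30) (ka xa29 ya22 za13) (ka xa16 ya7 za40) (ka xa16 ya7 za41) (ka xa12 ya36 za36) (ka xa25 ya45 za52) (ka xa24 ya32 za31) (ka xa20 ya5 za40) (ka xa20 ya36 za0) (ka xa12 ya44 za54) (ka xa26 ya50 za30) (ka xa11 ya37 za46) (ka xa17 ya11 za18) (ka xa27 ya30 za33) (ka xa11 ya19 za2) (ka xa20 ya45 za28) (ka xa29 ya22 za49) (ka xa16 ya54 za21) (ka xa20 ya15 za9) (ka xa20 ya21 za50) (ka xa21 ya34 za52) (ka xa14 ya53 za14) (ka xa11 ya23 za61) (ka xa26 ya22 za60) (ka xa22 ya9 za53) (ka xa18 ya25 za33) (ka xa21 ya22 za41) (ka xa12 ya39 za32) (ka xa21 ya35 za39) (ka xa15 ya49 za23) (ka xa26 ya46 za33) (ka xa11 ya19 za26)) (@D3.rec (fun _ => Pt) (ka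 xa11 ya19 za27) (ka xa11 ya19 za28) (ka xa11 ya19 za30) (ka xa16 ya7 za13) (ka xa16 ya6 za39) (ka xa23 ya30 za36) (ka xa21 ya56 za30) (ka xa26 ya10 za25) (ka xa21 ya56 za27) (ka xa29 ya22 za57) (ka xa17 ya56 za35) (ka xa15 ya25 za19) (ka xa26 ya50 za29) (ka xa29 ya22 za60) (ka xa29 ya22 za56) (ka xa15 ya25 za20) (ka xa29 ya6 za8) (ka xa17 ya45 za17) (ka xa21 ya20 za13) (ka xa14 ya55 za56) (ka xa21 ya51 za20) (ka xa19 ya5 za47) (ka xa19 ya5 za50) (ka xa14 ya56 za27) (ka xa24 ya36 za39) (ka xa21 ya19 za51) (ka xa12 ya50 za51) (ka xa12 ya50 za52) (ka xa11 ya50 za45) (ka xa24 ya14 za50) (ka xa21 ya19 za52) (ka xa29 ya22 za22) (ka xa11 ya19 za39) (ka xa20 ya45 za36) (ka xa20 ya20 za36) (ka xa13 ya11 za1) (ka xa24 ya53 za8) (ka xa20 ya26 za17) (ka xa11 ya24 za29) (ka xa20 ya49 za4) (ka xa20 ya49 za2) (ka xa28 ya48 za44) (ka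 xa17 ya51 za21) (ka xa12 ya44 za47) (ka xa26 ya59 za4) (ka xa11 ya19 za43) (ka xa20 ya25 za61) (ka xa22 ya21 za45) (ka xa29 ya21 za50) (ka xa27 ya20 za13) (ka xa26 ya53 za15) (ka xa13 ya11 za14) (ka xa24 ya53 za37) (ka xa21 ya50 za15) (ka xa13 ya11 za4) (ka xa22 ya25 za13) (ka xa22 ya25 za14) (ka xa11 ya46 za37) (ka xa11 ya46 za36) (ka xa25 ya16 za44) (ka xa12 ya53 za11) (ka xa21 ya25 za49)) (@D3.rec (fun _ => Pt) (ka xa11 ya19 za58) (ka xa27 ya29 za19) (ka xa13 ya59 za6) (ka xa19 ya27 za57) (ka xa18 ya1 za1) (ka xa29 ya23 za19) (ka xa29 ya22 za27) (ka xa27 ya22 za36) (ka xa17 ya9 za40) (ka xa20 ya49 za7) (ka xa20 ya49 za5) (ka xa23 ya12 za61) (ka xa12 ya25 za25) (ka xa21 ya32 za45) (ka xa14 ya11 za35) (ka xa20 ya48 za54) (ka xa11 ya42 za36) (ka xa29 ya23 za23) (ka xa20 ya48 za18) (ka xa11 ya20 za10) (ka xa11 ya20 za11)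 (ka xa11 ya20 za12) (ka xa21 ya29 za11) (ka xa11 ya41 za56) (ka xa20 ya49 za19) (ka xa16 ya30 za49) (ka xa16 ya30 za47) (ka xa21 ya54 za29) (ka xa11 ya20 za13) (ka xa24 ya19 za56) (ka xa21 ya41 za53) (ka xa20 ya48 za19) (ka xa21 ya47 za26) (ka xa21 ya42 za35) (ka xa24 ya6 za12) (ka xa22 ya27 za42) (ka xa20 ya9 za44) (ka xa21 ya3 za18) (ka xa12 ya26 za22) (ka xa29 ya21 za47) (ka xa17 ya30 za11) (ka xa26 ya46 za46) (ka xa20 ya1 za4) (ka xa29 ya22 za41) (ka xa29 ya21 za48) (ka xa22 ya6 za0) (ka xa16 ya47 za26) (ka xa20 ya28 za59) (ka xa19 ya26 za61) (ka xa19 ya45 za31) (ka xa16 ya48 za28) (ka xa21 ya0 za38) (ka xa25 ya26 za21) (ka xa22 ya1 za55) (ka xa11 ya42 za4) (ka xa29 ya23 za37) (ka xa11 ya47 za29) (ka xa11 ya47 za31) (ka xa11 ya47 za32) (ka xa26 ya23 za53) (ka xa11 ya47 za47) (ka xa20 ya26 za32)) (@D3.rec (fun _ =>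 Pt) (ka xa29 ya23 za45) (ka xa11 ya47 za40) (ka xa11 ya47 za41) (ka xa24 ya33 za38) (ka xa11 ya47 za56) (ka xa29 ya23 za50) (ka xa11 ya47 za53) (ka xa11 ya47 za58) (ka xa11 ya20 za40) (ka xa29 ya23 za52) (ka xa25 ya43 za30) (ka xa17 ya3 za37) (ka xa29 ya0 za38) (ka xa11 ya20 za53) (ka xa11 ya20 za54) (ka xa11 ya20 za55) (ka xa11 ya20 za56) (ka xa11 ya20 za57) (ka xa11 ya21 za4) (ka xa26 ya52 za50) (ka xa19 ya25 za52) (ka xa20 ya36 za22) (ka xa20 ya8 za8) (ka xa20 ya8 za51) (ka xa20 ya36 za36) (ka xa20 ya8 za10) (ka xa20 ya8 za45) (ka xa19 ya0 za56) (ka xa20 ya8 za15) (ka xa29 ya24 za9) (ka xa29 ya19 za15) (ka xa29 ya18 za60) (ka xa29 ya23 za59) (ka xa28 ya13 za48) (ka xa20 ya28 za42) (ka xa16 ya49 za45) (ka xa20 ya6 za49) (ka xa16 ya25 za32) (ka xa23 ya35 za19) (ka xa20 ya32 za19) (ka xa29 ya23 za60) (ka xa28 ya13 za51)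 (ka xa28 ya13 za50) (ka xa26 ya48 za42) (ka xa26 ya26 za50) (ka xa20 ya1 za16) (ka xa20 ya1 za17) (ka xa26 ya51 za20) (ka xa15 ya44 za18) (ka xa17 ya33 za8) (ka xa16 ya27 za46) (ka xa16 ya27 za47) (ka xa17 ya2 za7) (ka xa21 ya51 za26) (ka xa22 ya59 za1) (ka xa22 ya4 za44) (ka xa26 ya56 za14) (ka xa11 ya21 za23) (ka xa11 ya21 za27) (ka xa11 ya21 za30) (ka xa26 ya52 za36) (ka xa17 ya23 za0)) (@D3.rec (fun _ => Pt) (ka xa26 ya52 za34) (ka xa20 ya10 za53) (ka xa27 ya2 za43) (ka xa20 ya10 za59) (ka xa20 ya11 za49) (ka xa20 ya11 za1) (ka xa20 ya11 za4) (ka xa28 ya16 za55) (ka xa27 ya2 za45) (ka xa17 ya19 za36) (ka xa29 ya21 za43) (ka xa21 ya9 za2) (ka xa17 ya17 za51) (ka xa21 ya9 za27) (ka xa12 ya10 za41) (ka xa20 ya27 za38) (ka xa20 ya51 za12) (ka xa19 ya57 za29) (ka xa23 ya2 za53) (ka xa25 ya45 za55) (ka xa20 ya25 za51) (ka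 xa15 ya59 za14) (ka xa15 ya43 za13) (ka xa12 ya50 za45) (ka xa11 ya21 za45) (ka xa11 ya21 za46) (ka xa11 ya21 za51) (ka xa19 ya57 za32) (ka xa20 ya54 za12) (ka xa18 ya21 za30) (ka xa20 ya45 za51) (ka xa22 ya46 za38) (ka xa12 ya32 za26) (ka xa17 ya8 za11) (ka xa21 ya49 za44) (ka xa12 ya22 za29) (ka xa11 ya21 za54) (ka xa16 ya36 za5) (ka xa26 ya53 za1) (ka xa26 ya53 za2) (ka xa11 ya31 za27) (ka xa14 ya10 za55) (ka xa12 ya32 za31) (ka xa23 ya4 za7) (ka xa11 ya48 za25) (ka xa26 ya21 za61) (ka xa11 ya22 za5) (ka xa29 ya24 za31) (ka xa24 ya28 za31) (ka xa20 ya35 za61) (ka xa18 ya43 za34) (ka xa15 ya30 za37) (ka xa11 ya24 za52) (ka xa29 ya24 za33) (ka xa11 ya22 za15) (ka xa11 ya22 za16) (ka xa18 ya43 za55) (ka xa21 ya16 za19) (ka xa25 ya17 za50) (ka xa16 ya51 za49) (ka xa26 ya52 za10) (ka xa20 ya34 za51)) (@D3.rec (fun _ => Pt)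 (ka xa29 ya8 za40) (ka xa11 ya22 za27) (ka xa11 ya22 za28) (ka xa11 ya22 za31) (ka xa11 ya22 za33) (ka xa22 ya37 za53) (ka xa22 ya23 za35) (ka xa17 ya25 za5) (ka xa26 ya53 za7) (ka xa29 ya8 za44) (ka xa18 ya44 za30) (ka xa20 ya34 za44) (ka xa27 ya58 za24) (ka xa29 ya8 za45) (ka xa26 ya52 za43) (ka xa27 ya13 za28) (ka xa11 ya39 za6) (ka xa20 ya52 za26) (ka xa11 ya39 za1) (ka xa11 ya38 za53) (ka xa20 ya52 za16) (ka xa20 ya34 za46) (ka xa26 ya49 za33) (ka xa16 ya52 za23) (ka xa22 ya16 za13) (ka xa12 ya32 za7) (ka xa24 ya29 za36) (ka xa21 ya38 za12) (ka xa29 ya18 za41) (ka xa29 ya18 za42) (ka xa21 ya2 za33) (ka xa20 ya51 za61) (ka xa13 ya57 za22) (ka xa29 ya22 za25) (ka xa19 ya25 za24) (ka xa19 ya26 za37) (ka xa20 ya16 za34) (ka xa20 ya14 za36) (ka xa28 ya33 za16) (ka xa17 ya16 za0) (ka xa27 ya22 za37) (ka xa11 ya22 za58)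 (ka xa23 ya12 za54) (ka xa11 ya51 za33) (ka xa11 ya51 za34) (ka xa11 ya51 za35) (ka xa11 ya23 za4) (ka xa11 ya23 za6) (ka xa11 ya23 za8) (ka xa21 ya15 za18) (ka xa23 ya31 za13) (ka xa15 ya4 za34) (ka xa20 ya11 za5) (ka xa15 ya7 za11) (ka xa16 ya21 za45) (ka xa29 ya24 za54) (ka xa17 ya54 za37) (ka xa12 ya45 za48) (ka xa18 ya13 za10) (ka xa12 ya46 za45) (ka xa21 ya13 za20) (ka xa16 ya23 za14)) (@D3.rec (fun _ => Pt) (ka xa18 ya9 za25) (ka xa20 ya29 za47) (ka xa21 ya13 za22) (ka xa17 ya47 za32) (ka xa21 ya13 za23) (ka xa27 ya52 za49) (ka xa21 ya12 za50) (ka xa19 ya0 za4) (ka xa21 ya12 za51) (ka xa21 ya12 za52) (ka xa27 ya50 za18) (ka xa21 ya12 za54) (ka xa21 ya12 za55) (ka xa21 ya12 za56) (ka xa21 ya12 za57) (ka xa28 ya7 za37) (ka xa13 ya30 za56) (ka xa13 ya30 za54) (ka xa13 ya30 za55) (ka xa13 ya14 za34) (ka xa13 ya29 za20)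 (ka xa18 ya31 za3) (ka xa29 ya25 za10) (ka xa29 ya25 za13) (ka xa11 ya23 za37) (ka xa27 ya34 za43) (ka xa27 ya34 za42) (ka xa20 ya21 za28) (ka xa20 ya21 za27) (ka xa21 ya13 za26) (ka xa21 ya13 za27) (ka xa18 ya34 za45) (ka xa21 ya15 za3) (ka xa21 ya15 za4) (ka xa18 ya56 za35) (ka xa18 ya35 za30) (ka xa17 ya54 za34) (ka xa18 ya56 za36) (ka xa20 ya10 za12) (ka xa20 ya11 za23) (ka xa28 ya18 za6) (ka xa20 ya10 za11) (ka xa20 ya11 za21) (ka xa20 ya11 za25) (ka xa20 ya11 za24) (ka xa11 ya23 za50) (ka xa29 ya25 za25) (ka xa20 ya11 za42) (ka xa14 ya58 za47) (ka xa14 ya58 za48) (ka xa20 ya15 za49) (ka xa28 ya10 za9) (ka xa11 ya24 za7) (ka xa11 ya24 za4) (ka xa29 ya21 za51) (ka xa25 ya53 za14) (ka xa14 ya7 za42) (ka xa11 ya24 za5) (ka xa29 ya25 za33) (ka xa29 ya25 za29) (ka xa20 ya9 za49) (ka xa11 ya24 za20)) (@D3.rec (fun _ =>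 Pt) (ka xa11 ya24 za22) (ka xa11 ya24 za24) (ka xa11 ya24 za25) (ka xa11 ya24 za33) (ka xa21 ya3 za30) (ka xa21 ya3 za31) (ka xa21 ya40 za6) (ka xa18 ya1 za4) (ka xa12 ya38 za50) (ka xa14 ya11 za51) (ka xa20 ya27 za3) (ka xa20 ya27 za4) (ka xa17 ya58 za5) (ka xa17 ya56 za14) (ka xa12 ya25 za43) (ka xa20 ya5 za58) (ka xa19 ya47 za16) (ka xa17 ya55 za17) (ka xa22 ya12 za3) (ka xa22 ya12 za2) (ka xa11 ya24 za36) (ka xa17 ya0 za7) (ka xa12 ya46 za4) (ka xa15 ya49 za11) (ka xa17 ya30 za56) (ka xa11 ya24 za50) (ka xa11 ya24 za51) (ka xa12 ya29 za9) (ka xa11 ya25 za0) (ka xa11 ya25 za1) (ka xa11 ya25 za5) (ka xa26 ya28 za41) (ka xa11 ya31 za24) (ka xa20 ya28 za3) (ka xa20 ya26 za50) (ka xa20 ya26 za51) (ka xa20 ya34 za7) (ka xa18 ya43 za24) (ka xa20 ya26 za60) (ka xa11 ya30 za22) (ka xa13 ya2 za9) (ka xa11 ya26 za18) (ka xa11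 ya25 za15) (ka xa11 ya25 za17) (ka xa11 ya38 za51) (ka xa15 ya4 za48) (ka xa14 ya4 za59) (ka xa29 ya25 za37) (ka xa20 ya27 za29) (ka xa11 ya25 za29) (ka xa11 ya25 za30) (ka xa11 ya25 za31) (ka xa16 ya29 za58) (ka xa11 ya28 za25) (ka xa12 ya17 za24) (ka xa18 ya17 za5) (ka xa29 ya25 za40) (ka xa14 ya4 za57) (ka xa14 ya4 za56) (ka xa18 ya23 za38) (ka xa13 ya1 za8) (ka xa11 ya59 za0)) (@D3.rec (fun _ => Pt) (ka xa14 ya4 za42) (ka xa14 ya4 za40) (ka xa20 ya26 za53) (ka xa24 ya14 za27) (ka xa20 ya26 za55) (ka xa20 ya26 za56) (ka xa20 ya26 za57) (ka xa20 ya26 za58) (ka xa20 ya3 za45) (ka xa20 ya26 za59) (ka xa20 ya27 za1) (ka xa20 ya27 za2) (ka xa14 ya35 za57) (ka xa11 ya26 za39) (ka xa18 ya25 za17) (ka xa12 ya19 za43) (ka xa17 ya16 za42) (ka xa18 ya24 za60) (ka xa18 ya24 za59) (ka xa24 ya7 za31) (ka xa12 ya51 za18) (ka xa11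 ya26 za13) (ka xa11 ya26 za14) (ka xa11 ya26 za15) (ka xa11 ya26 za16) (ka xa11 ya26 za23) (ka xa11 ya26 za27) (ka xa27 ya42 za52) (ka xa11 ya26 za34) (ka xa11 ya26 za35) (ka xa11 ya26 za38) (ka xa27 ya42 za56) (ka xa11 ya26 za42) (ka xa11 ya54 za46) (ka xa21 ya52 za16) (ka xa13 ya2 za16) (ka xa20 ya44 za38) (ka xa13 ya17 za51) (ka xa22 ya12 za46) (ka xa22 ya16 za22) (ka xa22 ya14 za23) (ka xa16 ya40 za24) (ka xa22 ya18 za0) (ka xa27 ya20 za58) (ka xa27 ya10 za26) (ka xa25 ya23 za42) (ka xa27 ya11 za10) (ka xa11 ya46 za47) (ka xa29 ya25 za51) (ka xa29 ya25 za52) (ka xa29 ya26 za17) (ka xa29 ya25 za53) (ka xa28 ya47 za23) (ka xa28 ya18 za11) (ka xa29 ya25 za55) (ka xa16 ya58 za14) (ka xa29 ya25 za56) (ka xa24 ya21 za39) (ka xa29 ya26 za29) (ka xa29 ya25 za58) (ka xa28 ya40 za13) (ka xa27 ya0 za44)) (@D3.rec (fun _ => Pt)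 (ka xa11 ya26 za21) (ka xa17 ya7 za25) (ka xa27 ya0 za46) (ka xa22 ya34 za15) (ka xa24 ya21 za32) (ka xa24 ya21 za31) (ka xa29 ya25 za59) (ka xa16 ya55 za30) (ka xa21 ya31 za61) (ka xa15 ya3 za45) (ka xa27 ya39 za17) (ka xa29 ya7 za17) (ka xa26 ya2 za30) (ka xa26 ya58 za27) (ka xa17 ya56 za39) (ka xa27 ya42 za51) (ka xa27 ya42 za53) (ka xa27 ya42 za54) (ka xa21 ya52 za35) (ka xa24 ya21 za33) (ka xa24 ya21 za34) (ka xa22 ya7 za57) (ka xa27 ya56 za61) (ka xa29 ya22 za3) (ka xa22 ya7 za58) (ka xa16 ya51 za48) (ka xa11 ya26 za37) (ka xa17 ya7 za37) (ka xa29 ya25 za36) (ka xa25 ya53 za10) (ka xa27 ya57 za21) (ka xa17 ya31 za34) (ka xa23 ya47 za56) (ka xa18 ya3 za9) (ka xa26 ya48 za56) (ka xa29 ya25 za45) (ka xa26 ya58 za19) (ka xa23 ya26 za18) (ka xa25 ya38 za42) (ka xa16 ya58 za23) (ka xa13 ya22 za4) (ka xa14 ya22 za14) (ka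 xa24 ya35 za5) (ka xa14 ya21 za39) (ka xa24 ya35 za6) (ka xa14 ya39 za47) (ka xa21 ya16 za17) (ka xa21 ya16 za14) (ka xa11 ya26 za56) (ka xa12 ya24 za9) (ka xa17 ya12 za61) (ka xa18 ya50 za9) (ka xa28 ya55 za58) (ka xa21 ya29 za32) (ka xa23 ya26 za1) (ka xa28 ya1 za3) (ka xa28 ya1 za4) (ka xa22 ya35 za21) (ka xa23 ya24 za36) (ka xa23 ya24 za37) (ka xa21 ya32 za28) (ka xa21 ya32 za27)) (@D3.rec (fun _ => Pt) (ka xa22 ya23 za10) (ka xa22 ya23 za9) (ka xa19 ya53 za12) (ka xa19 ya52 za57) (ka xa27 ya41 za57) (ka xa29 ya19 za28) (ka xa21 ya31 za57) (ka xa19 ya47 za2) (ka xa11 ya27 za15) (ka xa21 ya31 za42) (ka xa21 ya31 za44) (ka xa28 ya13 za54) (ka xa19 ya51 za59) (ka xa11 ya31 za53) (ka xa19 ya52 za31) (ka xa21 ya31 za58) (ka xa21 ya16 za16) (ka xa23 ya42 za28) (ka xa11 ya30 za45) (ka xa15 ya8 za18) (ka xa27 ya42 za60) (ka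 xa27 ya42 za61) (ka xa11 ya27 za24) (ka xa20 ya51 za5) (ka xa19 ya52 za24) (ka xa11 ya27 za58) (ka xa16 ya28 za24) (ka xa11 ya27 za59) (ka xa20 ya7 za12) (ka xa21 ya16 za8) (ka xa12 ya5 za32) (ka xa11 ya27 za43) (ka xa20 ya52 za35) (ka xa21 ya16 za2) (ka xa12 ya32 za0) (ka xa20 ya52 za43) (ka xa14 ya29 za6) (ka xa11 ya27 za56) (ka xa13 ya28 za2) (ka xa14 ya24 za22) (ka xa13 ya28 za15) (ka xa13 ya14 za48) (ka xa17 ya15 za27) (ka xa14 ya40 za11) (ka xa11 ya28 za10) (ka xa16 ya54 za16) (ka xa18 ya0 za16) (ka xa23 ya47 za43) (ka xa19 ya24 za21) (ka xa11 ya48 za27) (ka xa28 ya48 za42) (ka xa20 ya19 za20) (ka xa19 ya53 za2) (ka xa17 ya58 za60) (ka xa19 ya47 za26) (ka xa11 ya28 za23) (ka xa11 ya28 za27) (ka xa20 ya26 za9) (ka xa11 ya28 za35) (ka xa24 ya2 za16) (ka xa11 ya41 za7) (ka xa20 ya16 za46)) (@D3.rec (fun _ => Pt) (ka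 xa11 ya28 za38) (ka xa14 ya4 za50) (ka xa12 ya49 za11) (ka xa21 ya51 za21) (ka xa12 ya30 za14) (ka xa19 ya47 za12) (ka xa15 ya5 za26) (ka xa20 ya33 za1) (ka xa13 ya1 za10) (ka xa20 ya25 za57) (ka xa21 ya15 za45) (ka xa20 ya27 za6) (ka xa13 ya2 za19) (ka xa26 ya53 za24) (ka xa12 ya16 za49) (ka xa21 ya20 za19) (ka xa27 ya10 za20) (ka xa20 ya16 za37) (ka xa11 ya34 za25) (ka xa21 ya30 za43) (ka xa14 ya59 za60) (ka xa21 ya30 za44) (ka xa21 ya15 za11) (ka xa21 ya12 za25) (ka xa21 ya30 za51) (ka xa21 ya13 za13) (ka xa21 ya12 za26) (ka xa21 ya37 za40) (ka xa18 ya25 za51) (ka xa26 ya26 za49) (ka xa21 ya57 za37) (ka xa17 ya31 za48) (ka xa20 ya17 za61) (ka xa29 ya27 za15) (ka xa16 ya58 za58) (ka xa25 ya21 za12) (ka xa26 ya53 za26) (ka xa26 ya53 za27) (ka xa29 ya27 za22) (ka xa20 ya49 za59) (ka xa24 ya33 za20) (ka xa11 ya29 za34)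 (ka xa29 ya27 za26) (ka xa20 ya42 za14) (ka xa16 ya58 za59) (ka xa25 ya21 za13) (ka xa11 ya29 za43) (ka xa11 ya29 za45) (ka xa23 ya49 za22) (ka xa20 ya59 za30) (ka xa20 ya22 za34) (ka xa20 ya22 za35) (ka xa27 ya6 za32) (ka xa20 ya23 za2) (ka xa18 ya57 za31) (ka xa20 ya23 za4) (ka xa20 ya23 za5) (ka xa20 ya23 za6) (ka xa20 ya23 za7) (ka xa20 ya23 za9) (ka xa20 ya22 za38) (ka xa20 ya2 za7)) (@D3.rec (fun _ => Pt) (ka xa17 ya5 za54) (ka xa20 ya23 za10) (ka xa20 ya23 za11) (ka xa20 ya22 za10) (ka xa20 ya22 za11) (ka xa27 ya42 za14) (ka xa20 ya26 za11) (ka xa14 ya19 za0) (ka xa14 ya31 za0) (ka xa14 ya31 za1) (ka xa22 ya22 za31) (ka xa14 ya31 za2) (ka xa14 ya31 za3) (ka xa14 ya31 za4) (ka xa14 ya31 za5) (ka xa14 ya31 za6) (ka xa14 ya31 za7) (ka xa12 ya4 za29) (ka xa13 ya9 za4) (ka xa16 ya44 za41) (ka xa19 ya30 za11) (ka xa12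 ya57 za33) (ka xa26 ya31 za53) (ka xa17 ya26 za58) (ka xa13 ya5 za24) (ka xa13 ya14 za56) (ka xa13 ya24 za17) (ka xa13 ya24 za18) (ka xa11 ya30 za17) (ka xa20 ya22 za48) (ka xa21 ya36 za48) (ka xa21 ya50 za43) (ka xa12 ya37 za47) (ka xa22 ya37 za10) (ka xa22 ya37 za11) (ka xa17 ya35 za6) (ka xa11 ya42 za9) (ka xa20 ya15 za29) (ka xa20 ya19 za15) (ka xa16 ya15 za36) (ka xa27 ya2 za31) (ka xa21 ya3 za48) (ka xa26 ya10 za53) (ka xa27 ya42 za20) (ka xa21 ya36 za14) (ka xa21 ya45 za29) (ka xa18 ya0 za55) (ka xa16 ya15 za38) (ka xa11 ya30 za50) (ka xa20 ya6 za48) (ka xa13 ya58 za43) (ka xa17 ya55 za28) (ka xa20 ya0 za39) (ka xa22 ya11 za54) (ka xa24 ya31 za2) (ka xa20 ya8 za46) (ka xa21 ya52 za54) (ka xa21 ya53 za39) (ka xa11 ya30 za54) (ka xa11 ya31 za1) (ka xa19 ya27 za39) (ka xa19 ya27 za38)) (@D3.rec (fun _ => Pt) (ka xa12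 ya30 za60) (ka xa13 ya58 za39) (ka xa13 ya58 za40) (ka xa20 ya22 za33) (ka xa18 ya23 za32) (ka xa25 ya23 za46) (ka xa12 ya31 za27) (ka xa17 ya53 za38) (ka xa22 ya23 za36) (ka xa12 ya46 za56) (ka xa17 ya1 za36) (ka xa17 ya22 za61) (ka xa23 ya46 za49) (ka xa24 ya19 za29) (ka xa17 ya1 za59) (ka xa17 ya1 za60) (ka xa16 ya45 za18) (ka xa19 ya11 za5) (ka xa11 ya31 za43) (ka xa17 ya9 za1) (ka xa17 ya8 za61) (ka xa11 ya31 za44) (ka xa11 ya31 za45) (ka xa29 ya27 za52) (ka xa14 ya29 za51) (ka xa19 ya52 za36) (ka xa19 ya24 za27) (ka xa12 ya30 za61) (ka xa11 ya31 za54) (ka xa19 ya32 za40) (ka xa26 ya53 za56) (ka xa17 ya35 za0) (ka xa21 ya36 za11) (ka xa16 ya4 za14) (ka xa27 ya41 za4) (ka xa11 ya31 za61) (ka xa19 ya24 za0) (ka xa17 ya8 za32) (ka xa29 ya27 za57) (ka xa20 ya49 za47) (ka xa27 ya42 za32) (ka xa23 ya6 za1) (ka xa20 ya18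 za34) (ka xa19 ya34 za37) (ka xa19 ya34 za38) (ka xa20 ya31 za27) (ka xa20 ya31 za28) (ka xa20 ya31 za29) (ka xa20 ya31 za24) (ka xa16 ya32 za28) (ka xa20 ya31 za25) (ka xa14 ya18 za40) (ka xa14 ya32 za22) (ka xa25 ya18 za32) (ka xa14 ya32 za20) (ka xa14 ya18 za38) (ka xa14 ya52 za38) (ka xa13 ya23 za20) (ka xa11 ya32 za30) (ka xa20 ya17 za47) (ka xa27 ya42 za35) (ka xa26 ya54 za23)) (@D3.rec (fun _ => Pt) (ka xa20 ya9 za12) (ka xa13 ya9 za23) (ka xa16 ya44 za37) (ka xa16 ya45 za16) (ka xa16 ya45 za17) (ka xa19 ya40 za18) (ka xa16 ya45 za13) (ka xa16 ya45 za14) (ka xa11 ya40 za4) (ka xa23 ya10 za24) (ka xa27 ya30 za16) (ka xa11 ya43 za12) (ka xa11 ya43 za13) (ka xa11 ya40 za5) (ka xa29 ya28 za16) (ka xa18 ya1 za60) (ka xa18 ya1 za61) (ka xa25 ya6 za54) (ka xa18 ya2 za1) (ka xa15 ya35 za38) (ka xa12 ya5 za45) (ka xa26 ya56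 za45) (ka xa26 ya56 za46) (ka xa19 ya44 za10) (ka xa22 ya52 za10) (ka xa20 ya35 za60) (ka xa20 ya35 za59) (ka xa26 ya24 za49) (ka xa26 ya26 za56) (ka xa26 ya26 za57) (ka xa26 ya26 za58) (ka xa13 ya31 za19) (ka xa13 ya31 za20) (ka xa24 ya59 za31) (ka xa24 ya59 za29) (ka xa24 ya59 za30) (ka xa24 ya59 za32) (ka xa29 ya28 za36) (ka xa25 ya2 za9) (ka xa25 ya33 za5) (ka xa26 ya24 za24) (ka xa25 ya50 za5) (ka xa28 ya38 za26) (ka xa15 ya35 za8) (ka xa26 ya24 za55) (ka xa26 ya24 za56) (ka xa26 ya25 za43) (ka xa20 ya21 za1) (ka xa11 ya51 za9) (ka xa24 ya22 za39) (ka xa26 ya54 za60) (ka xa19 ya26 za34) (ka xa19 ya26 za33) (ka xa22 ya43 za29) (ka xa19 ya26 za38) (ka xa19 ya26 za39) (ka xa16 ya45 za21) (ka xa26 ya52 za18) (ka xa16 ya51 za7) (ka xa19 ya9 za42) (ka xa16 ya51 za24) (ka xa21 ya15 za23)) (@D3.rec (fun _ => Pt) (ka xa20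 ya1 za10) (ka xa15 ya23 za46) (ka xa20 ya31 za15) (ka xa24 ya56 za58) (ka xa24 ya56 za59) (ka xa20 ya31 za16) (ka xa23 ya4 za5) (ka xa17 ya10 za49) (ka xa16 ya33 za32) (ka xa17 ya18 za34) (ka xa17 ya18 za35) (ka xa20 ya31 za17) (ka xa26 ya55 za29) (ka xa26 ya55 za30) (ka xa20 ya31 za18) (ka xa26 ya55 za31) (ka xa26 ya55 za32) (ka xa26 ya55 za33) (ka xa26 ya55 za34) (ka xa26 ya55 za35) (ka xa25 ya18 za25) (ka xa26 ya55 za36) (ka xa13 ya39 za43) (ka xa22 ya53 za53) (ka xa11 ya50 za33) (ka xa11 ya50 za39) (ka xa11 ya50 za40) (ka xa11 ya50 za41) (ka xa13 ya9 za18) (ka xa11 ya50 za53) (ka xa11 ya50 za54) (ka xa11 ya50 za55) (ka xa11 ya50 za56) (ka xa14 ya29 za34) (ka xa21 ya0 za53) (ka xa11 ya33 za17) (ka xa23 ya5 za40) (ka xa13 ya16 za43) (ka xa24 ya47 za27) (ka xa15 ya0 za30) (ka xa16 ya32 za41) (ka xa13 ya16 za47) (ka xa26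 ya55 za26) (ka xa26 ya55 za27) (ka xa16 ya32 za47) (ka xa14 ya59 za45) (ka xa14 ya59 za46) (ka xa14 ya59 za47) (ka xa13 ya47 za37) (ka xa12 ya37 za36) (ka xa12 ya37 za28) (ka xa11 ya34 za19) (ka xa11 ya34 za20) (ka xa11 ya34 za23) (ka xa20 ya0 za52) (ka xa11 ya34 za27) (ka xa11 ya34 za28) (ka xa11 ya34 za29) (ka xa11 ya34 za30) (ka xa11 ya34 za31) (ka xa11 ya34 za32) (ka xa11 ya34 za42)) (@D3.rec (fun _ => Pt) (ka xa11 ya34 za43) (ka xa29 ya29 za19) (ka xa11 ya34 za45) (ka xa11 ya35 za11) (ka xa11 ya35 za15) (ka xa11 ya35 za16) (ka xa11 ya35 za23) (ka xa11 ya35 za24) (ka xa11 ya35 za25) (ka xa11 ya35 za26) (ka xa11 ya35 za33) (ka xa17 ya12 za17) (ka xa20 ya41 za3) (ka xa20 ya41 za4) (ka xa11 ya35 za49) (ka xa20 ya30 za2) (ka xa20 ya30 za5) (ka xa20 ya30 za11) (ka xa20 ya30 za14) (ka xa26 ya55 za61) (ka xa22 ya32 za21)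 (ka xa16 ya33 za33) (ka xa16 ya33 za34) (ka xa16 ya33 za45) (ka xa20 ya28 za48) (ka xa20 ya28 za50) (ka xa16 ya34 za6) (ka xa20 ya28 za45) (ka xa20 ya28 za46) (ka xa20 ya28 za47) (ka xa15 ya0 za31) (ka xa15 ya0 za32) (ka xa21 ya9 za4) (ka xa21 ya13 za31) (ka xa19 ya51 za2) (ka xa21 ya13 za32) (ka xa12 ya21 za53) (ka xa17 ya9 za15) (ka xa17 ya9 za16) (ka xa17 ya9 za17) (ka xa18 ya45 za12) (ka xa13 ya51 za26) (ka xa21 ya13 za33) (ka xa15 ya50 za33) (ka xa21 ya13 za35) (ka xa21 ya13 za36) (ka xa20 ya46 za58) (ka xa20 ya46 za59) (ka xa20 ya46 za60) (ka xa20 ya46 za61) (ka xa21 ya13 za18) (ka xa18 ya47 za52) (ka xa17 ya18 za31) (ka xa28 ya45 za53) (ka xa26 ya50 za53) (ka xa18 ya41 za34) (ka xa28 ya42 za34) (ka xa11 ya34 za21) (ka xa16 ya25 za28) (ka xa19 ya47 za49) (ka xa11 ya58 za46) (ka xa22 ya38 za16)) (@D3.rec (fun _ =>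 Pt) (ka xa24 ya47 za53) (ka xa28 ya45 za54) (ka xa26 ya28 za21) (ka xa25 ya1 za59) (ka xa26 ya28 za20) (ka xa29 ya8 za20) (ka xa23 ya46 za24) (ka xa27 ya57 za37) (ka xa29 ya29 za16) (ka xa26 ya30 za16) (ka xa29 ya19 za7) (ka xa29 ya7 za47) (ka xa29 ya7 za39) (ka xa26 ya20 za43) (ka xa24 ya47 za40) (ka xa12 ya7 za41) (ka xa13 ya47 za54) (ka xa29 ya29 za17) (ka xa29 ya18 za16) (ka xa20 ya18 za39) (ka xa25 ya16 za9) (ka xa16 ya59 za47) (ka xa16 ya59 za48) (ka xa15 ya23 za38) (ka xa15 ya23 za39) (ka xa15 ya26 za22) (ka xa15 ya26 za33) (ka xa27 ya16 za41) (ka xa23 ya19 za39) (ka xa13 ya31 za44) (ka xa13 ya47 za50) (ka xa22 ya42 za16) (ka xa22 ya48 za9) (ka xa23 ya20 za19) (ka xa22 ya42 za9) (ka xa15 ya50 za23) (ka xa15 ya50 za27) (ka xa23 ya20 za6) (ka xa21 ya2 za45) (ka xa18 ya19 za21) (ka xa25 ya16 za17) (ka xa21 ya2 za42)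 (ka xa25 ya18 za26) (ka xa24 ya18 za57) (ka xa28 ya26 za4) (ka xa26 ya56 za39) (ka xa26 ya10 za9) (ka xa17 ya9 za30) (ka xa11 ya34 za44) (ka xa28 ya34 za60) (ka xa29 ya29 za20) (ka xa24 ya5 za34) (ka xa20 ya9 za3) (ka xa25 ya16 za7) (ka xa24 ya59 za13) (ka xa23 ya20 za43) (ka xa11 ya49 za34) (ka xa20 ya52 za6) (ka xa19 ya24 za24) (ka xa20 ya0 za17) (ka xa19 ya23 za61) (ka xa16 ya53 za21)) (@D3.rec (fun _ => Pt) (ka xa15 ya5 za13) (ka xa20 ya26 za7) (ka xa17 ya18 za36) (ka xa17 ya18 za39) (ka xa12 ya50 za0) (ka xa18 ya24 za12) (ka xa15 ya23 za47) (ka xa23 ya31 za23) (ka xa29 ya30 za13) (ka xa14 ya15 za48) (ka xa14 ya15 za46) (ka xa14 ya15 za47) (ka xa13 ya34 za18) (ka xa15 ya26 za58) (ka xa15 ya26 za49) (ka xa15 ya26 za46) (ka xa24 ya5 za33) (ka xa20 ya47 za2) (ka xa14 ya20 za17) (ka xa29 ya29 za21) (ka xa17 ya24 za2) (ka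 xa12 ya10 za15) (ka xa12 ya10 za17) (ka xa24 ya53 za23) (ka xa16 ya11 za55) (ka xa16 ya11 za56) (ka xa23 ya32 za54) (ka xa23 ya17 za44) (ka xa29 ya29 za23) (ka xa14 ya0 za43) (ka xa28 ya27 za7) (ka xa29 ya29 za24) (ka xa17 ya23 za61) (ka xa14 ya31 za45) (ka xa18 ya39 za35) (ka xa21 ya38 za17) (ka xa15 ya26 za50) (ka xa21 ya16 za9) (ka xa14 ya30 za10) (ka xa15 ya26 za38) (ka xa21 ya10 za24) (ka xa29 ya19 za9) (ka xa28 ya1 za36) (ka xa11 ya46 za29) (ka xa22 ya23 za12) (ka xa17 ya18 za41) (ka xa18 ya39 za38) (ka xa24 ya18 za58) (ka xa14 ya19 za31) (ka xa14 ya30 za1) (ka xa22 ya52 za19) (ka xa25 ya18 za50) (ka xa25 ya18 za48) (ka xa23 ya54 za14) (ka xa18 ya57 za44) (ka xa18 ya57 za45) (ka xa11 ya35 za46) (ka xa14 ya16 za51) (ka xa18 ya57 za46) (ka xa18 ya55 za35) (ka xa25 ya56 za5) (ka xa22 ya48 za8)) (@D3.rec (fun _ => Pt)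 (ka xa25 ya36 za3) (ka xa23 ya18 za30) (ka xa26 ya56 za4) (ka xa17 ya1 za8) (ka xa26 ya56 za5) (ka xa25 ya18 za36) (ka xa20 ya54 za31) (ka xa20 ya22 za36) (ka xa11 ya58 za52) (ka xa19 ya52 za49) (ka xa14 ya31 za39) (ka xa14 ya31 za37) (ka xa16 ya13 za47) (ka xa17 ya35 za2) (ka xa21 ya36 za15) (ka xa18 ya57 za37) (ka xa18 ya57 za38) (ka xa18 ya12 za61) (ka xa18 ya57 za41) (ka xa11 ya36 za10) (ka xa14 ya52 za49) (ka xa21 ya3 za47) (ka xa14 ya26 za17) (ka xa18 ya57 za32) (ka xa18 ya11 za3) (ka xa12 ya4 za54) (ka xa18 ya57 za34) (ka xa21 ya36 za7) (ka xa20 ya35 za48) (ka xa21 ya13 za51) (ka xa13 ya20 za35) (ka xa17 ya58 za6) (ka xa15 ya6 za22) (ka xa14 ya54 za31) (ka xa20 ya52 za10) (ka xa17 ya16 za16) (ka xa26 ya27 za3) (ka xa26 ya27 za4) (ka xa21 ya52 za21) (ka xa21 ya5 za51) (ka xa21 ya44 za13) (ka xa20 ya34 za42) (ka xa20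 ya34 za41) (ka xa16 ya33 za14) (ka xa20 ya20 za11) (ka xa17 ya59 za53) (ka xa20 ya20 za21) (ka xa26 ya27 za28) (ka xa26 ya27 za29) (ka xa20 ya52 za39) (ka xa20 ya52 za22) (ka xa20 ya19 za61) (ka xa26 ya24 za50) (ka xa12 ya14 za33) (ka xa26 ya55 za5) (ka xa21 ya51 za37) (ka xa21 ya49 za61) (ka xa24 ya19 za10) (ka xa11 ya56 za23) (ka xa11 ya37 za48) (ka xa11 ya37 za52) (ka xa11 ya37 za53)) (@D3.rec (fun _ => Pt) (ka xa16 ya56 za23) (ka xa11 ya37 za55) (ka xa11 ya37 za56) (ka xa11 ya37 za58) (ka xa11 ya37 za59) (ka xa11 ya37 za60) (ka xa11 ya38 za3) (ka xa11 ya38 za4) (ka xa11 ya38 za7) (ka xa11 ya38 za9) (ka xa11 ya38 za11) (ka xa11 ya38 za13) (ka xa11 ya38 za14) (ka xa25 ya59 za18) (ka xa11 ya38 za16) (ka xa11 ya38 za48) (ka xa11 ya38 za49) (ka xa21 ya45 za44) (ka xa11 ya38 za52) (ka xa11 ya38 za57) (ka xa11 ya38 za58)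 (ka xa11 ya38 za61) (ka xa11 ya39 za5) (ka xa11 ya39 za7) (ka xa11 ya39 za9) (ka xa11 ya39 za12) (ka xa11 ya39 za13) (ka xa11 ya39 za14) (ka xa14 ya41 za40) (ka xa11 ya39 za15) (ka xa11 ya39 za16) (ka xa26 ya36 za7) (ka xa11 ya39 za29) (ka xa11 ya39 za33) (ka xa20 ya58 za42) (ka xa11 ya39 za37) (ka xa24 ya35 za17) (ka xa11 ya39 za40) (ka xa26 ya36 za27) (ka xa26 ya34 za28) (ka xa26 ya36 za28) (ka xa11 ya39 za41) (ka xa11 ya39 za42) (ka xa11 ya39 za43) (ka xa11 ya39 za44) (ka xa26 ya22 za35) (ka xa15 ya6 za19) (ka xa12 ya45 za37) (ka xa20 ya34 za28) (ka xa15 ya6 za23) (ka xa15 ya6 za24) (ka xa12 ya36 za20) (ka xa19 ya59 za36) (ka xa26 ya21 za49) (ka xa16 ya33 za21) (ka xa13 ya33 za46) (ka xa24 ya57 za16) (ka xa23 ya10 za40) (ka xa26 ya22 za53) (ka xa20 ya29 za26) (ka xa20 ya29 za25) (ka xa20 ya19 za49)) (@D3.rec (fun _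 => Pt) (ka xa20 ya15 za38) (ka xa11 ya50 za11) (ka xa21 ya28 za42) (ka xa18 ya57 za56) (ka xa21 ya28 za43) (ka xa21 ya28 za44) (ka xa12 ya37 za61) (ka xa21 ya13 za3) (ka xa21 ya13 za4) (ka xa15 ya14 za1) (ka xa21 ya28 za46) (ka xa18 ya20 za0) (ka xa12 ya46 za37) (ka xa12 ya53 za8) (ka xa21 ya49 za54) (ka xa27 ya20 za56) (ka xa26 ya55 za10) (ka xa29 ya22 za47) (ka xa25 ya57 za28) (ka xa15 ya49 za19) (ka xa29 ya31 za4) (ka xa15 ya59 za1) (ka xa20 ya18 za21) (ka xa16 ya48 za42) (ka xa12 ya12 za55) (ka xa20 ya15 za2) (ka xa26 ya23 za61) (ka xa28 ya12 za50) (ka xa29 ya31 za5) (ka xa13 ya33 za48) (ka xa21 ya28 za26) (ka xa29 ya31 za6) (ka xa26 ya17 za39) (ka xa28 ya12 za57) (ka xa24 ya54 za31) (ka xa22 ya47 za12) (ka xa20 ya18 za24) (ka xa29 ya19 za12) (ka xa29 ya19 za13) (ka xa29 ya31 za7) (ka xa29 ya14 za51) (ka xa27 ya9 za40)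 (ka xa28 ya33 za43) (ka xa25 ya35 za58) (ka xa25 ya59 za16) (ka xa27 ya0 za2) (ka xa11 ya54 za4) (ka xa21 ya2 za51) (ka xa16 ya31 za17) (ka xa16 ya31 za19) (ka xa29 ya32 za10) (ka xa26 ya57 za37) (ka xa26 ya57 za36) (ka xa23 ya10 za36) (ka xa23 ya10 za35) (ka xa29 ya31 za8) (ka xa22 ya56 za44) (ka xa29 ya31 za9) (ka xa28 ya50 za33) (ka xa26 ya38 za29) (ka xa16 ya28 za42) (ka xa22 ya55 za29)) (@D3.rec (fun _ => Pt) (ka xa16 ya31 za14) (ka xa16 ya29 za55) (ka xa14 ya27 za46) (ka xa29 ya31 za10) (ka xa29 ya31 za11) (ka xa26 ya24 za29) (ka xa28 ya17 za10) (ka xa29 ya31 za12) (ka xa13 ya40 za29) (ka xa14 ya27 za41) (ka xa29 ya31 za13) (ka xa14 ya18 za25) (ka xa14 ya25 za43) (ka xa13 ya10 za12) (ka xa13 ya43 za50) (ka xa29 ya31 za15) (ka xa28 ya17 za9) (ka xa24 ya13 za0) (ka xa29 ya31 za16) (ka xa13 ya10 za10) (ka xa24 ya0 za43)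 (ka xa11 ya38 za15) (ka xa29 ya32 za32) (ka xa24 ya0 za42) (ka xa29 ya31 za18) (ka xa25 ya59 za50) (ka xa27 ya0 za0) (ka xa27 ya0 za1) (ka xa21 ya30 za26) (ka xa21 ya30 za28) (ka xa21 ya30 za29) (ka xa21 ya30 za30) (ka xa12 ya27 za58) (ka xa12 ya3 za47) (ka xa12 ya3 za50) (ka xa19 ya27 za55) (ka xa18 ya1 za35) (ka xa21 ya20 za6) (ka xa12 ya43 za40) (ka xa12 ya43 za41) (ka xa12 ya28 za4) (ka xa21 ya30 za17) (ka xa21 ya30 za18) (ka xa21 ya30 za19) (ka xa14 ya36 za3) (ka xa21 ya30 za20) (ka xa14 ya36 za1) (ka xa11 ya59 za9) (ka xa18 ya42 za7) (ka xa18 ya42 za8) (ka xa18 ya42 za9) (ka xa21 ya42 za48) (ka xa17 ya14 za58) (ka xa17 ya14 za57) (ka xa17 ya8 za14) (ka xa24 ya19 za16) (ka xa21 ya20 za21) (ka xa12 ya35 za1) (ka xa11 ya38 za46) (ka xa29 ya32 za49) (ka xa28 ya1 za16) (ka xa16 ya41 za33)) (@D3.rec (fun _ => Pt) (ka xa16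 ya58 za21) (ka xa17 ya33 za30) (ka xa28 ya43 za27) (ka xa26 ya46 za27) (ka xa29 ya9 za4) (ka xa21 ya45 za45) (ka xa21 ya45 za46) (ka xa29 ya25 za38) (ka xa27 ya14 za5) (ka xa23 ya34 za20) (ka xa18 ya10 za26) (ka xa21 ya7 za43) (ka xa27 ya59 za27) (ka xa27 ya37 za49) (ka xa28 ya45 za4) (ka xa27 ya37 za48) (ka xa27 ya0 za50) (ka xa29 ya6 za9) (ka xa16 ya40 za26) (ka xa16 ya47 za10) (ka xa16 ya48 za30) (ka xa16 ya48 za31) (ka xa16 ya40 za17) (ka xa16 ya48 za32) (ka xa16 ya48 za34) (ka xa27 ya51 za23) (ka xa27 ya56 za21) (ka xa27 ya11 za14) (ka xa21 ya28 za59) (ka xa27 ya37 za33) (ka xa29 ya24 za43) (ka xa16 ya40 za9) (ka xa29 ya31 za20) (ka xa16 ya36 za24) (ka xa28 ya44 za33) (ka xa24 ya53 za24) (ka xa26 ya42 za19) (ka xa26 ya59 za57) (ka xa28 ya46 za49) (ka xa29 ya26 za32) (ka xa16 ya58 za32) (ka xa26 ya34 za49) (ka xa28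 ya48 za5) (ka xa28 ya39 za20) (ka xa16 ya41 za37) (ka xa29 ya26 za23) (ka xa29 ya31 za22) (ka xa28 ya18 za12) (ka xa27 ya0 za8) (ka xa17 ya1 za11) (ka xa17 ya1 za12) (ka xa19 ya33 za36) (ka xa25 ya47 za19) (ka xa26 ya20 za9) (ka xa19 ya14 za0) (ka xa26 ya57 za29) (ka xa11 ya39 za21) (ka xa29 ya33 za18) (ka xa29 ya33 za19) (ka xa26 ya52 za27) (ka xa26 ya52 za19) (ka xa26 ya52 za20)) (@D3.rec (fun _ => Pt) (ka xa26 ya52 za21) (ka xa11 ya56 za30) (ka xa19 ya25 za54) (ka xa24 ya14 za40) (ka xa21 ya58 za6) (ka xa25 ya8 za7) (ka xa29 ya27 za53) (ka xa26 ya35 za42) (ka xa11 ya39 za28) (ka xa29 ya33 za40) (ka xa27 ya44 za48) (ka xa17 ya7 za9) (ka xa17 ya7 za6) (ka xa29 ya10 za42) (ka xa16 ya38 za61) (ka xa16 ya39 za2) (ka xa25 ya8 za17) (ka xa11 ya39 za32) (ka xa29 ya33 za48) (ka xa29 ya31 za24) (ka xa24 ya35 za20) (ka xa11 ya39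 za35) (ka xa29 ya33 za54) (ka xa16 ya41 za54) (ka xa16 ya58 za47) (ka xa17 ya7 za4) (ka xa17 ya6 za61) (ka xa29 ya31 za28) (ka xa26 ya39 za10) (ka xa29 ya31 za26) (ka xa29 ya31 za25) (ka xa11 ya39 za39) (ka xa29 ya34 za4) (ka xa26 ya40 za24) (ka xa29 ya34 za11) (ka xa20 ya57 za32) (ka xa29 ya34 za16) (ka xa29 ya31 za36) (ka xa29 ya34 za24) (ka xa22 ya26 za1) (ka xa29 ya31 za37) (ka xa28 ya40 za31) (ka xa29 ya31 za38) (ka xa27 ya0 za5) (ka xa27 ya0 za6) (ka xa27 ya0 za7) (ka xa16 ya42 za9) (ka xa27 ya0 za9) (ka xa20 ya51 za59) (ka xa11 ya42 za50) (ka xa11 ya39 za52) (ka xa11 ya39 za53) (ka xa17 ya24 za6) (ka xa22 ya23 za24) (ka xa29 ya34 za38) (ka xa24 ya44 za20) (ka xa11 ya58 za54) (ka xa20 ya45 za55) (ka xa11 ya59 za3) (ka xa26 ya56 za37) (ka xa17 ya58 za42) (ka xa21 ya52 za1)) (@D3.rec (fun _ => Pt) (ka xa26 ya58 za25)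 (ka xa17 ya6 za1) (ka xa16 ya47 za61) (ka xa11 ya40 za1) (ka xa21 ya1 za51) (ka xa29 ya7 za0) (ka xa14 ya8 za14) (ka xa18 ya1 za48) (ka xa21 ya36 za3) (ka xa23 ya59 za11) (ka xa25 ya55 za34) (ka xa14 ya24 za33) (ka xa11 ya40 za7) (ka xa29 ya34 za51) (ka xa11 ya48 za2) (ka xa11 ya41 za4) (ka xa11 ya41 za5) (ka xa20 ya42 za19) (ka xa20 ya42 za18) (ka xa18 ya0 za31) (ka xa18 ya0 za32) (ka xa18 ya0 za33) (ka xa11 ya58 za19) (ka xa11 ya58 za20) (ka xa11 ya58 za18) (ka xa14 ya11 za31) (ka xa17 ya13 za3) (ka xa12 ya42 za61) (ka xa17 ya58 za8) (ka xa17 ya59 za36) (ka xa21 ya50 za41) (ka xa17 ya12 za15) (ka xa12 ya31 za7) (ka xa12 ya31 za8) (ka xa18 ya57 za55) (ka xa18 ya57 za52) (ka xa21 ya16 za27) (ka xa21 ya16 za28) (ka xa11 ya58 za47) (ka xa11 ya58 za48) (ka xa11 ya58 za49) (ka xa11 ya58 za56) (ka xa11 ya58 za60) (ka xa27 ya8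 za6) (ka xa14 ya12 za56) (ka xa16 ya54 za25) (ka xa19 ya20 za16) (ka xa23 ya49 za25) (ka xa16 ya55 za1) (ka xa16 ya55 za2) (ka xa16 ya55 za3) (ka xa20 ya48 za61) (ka xa20 ya45 za30) (ka xa13 ya5 za47) (ka xa13 ya5 za46) (ka xa29 ya0 za42) (ka xa27 ya3 za18) (ka xa11 ya41 za20) (ka xa11 ya41 za12) (ka xa16 ya59 za38) (ka xa18 ya38 za15) (ka xa11 ya58 za59)) (@D3.rec (fun _ => Pt) (ka xa28 ya25 za9) (ka xa17 ya0 za36) (ka xa14 ya59 za37) (ka xa20 ya31 za12) (ka xa20 ya31 za13) (ka xa11 ya41 za18) (ka xa17 ya14 za60) (ka xa21 ya11 za49) (ka xa26 ya29 za24) (ka xa16 ya24 za40) (ka xa29 ya35 za8) (ka xa14 ya49 za59) (ka xa20 ya52 za23) (ka xa24 ya34 za40) (ka xa26 ya59 za59) (ka xa22 ya46 za34) (ka xa27 ya20 za59) (ka xa11 ya42 za30) (ka xa11 ya42 za27) (ka xa11 ya42 za28) (ka xa11 ya42 za29) (ka xa14 ya12 za54) (ka xa11 ya42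 za32) (ka xa11 ya42 za33) (ka xa11 ya42 za35) (ka xa11 ya42 za37) (ka xa11 ya42 za38) (ka xa11 ya42 za39) (ka xa11 ya42 za46) (ka xa11 ya42 za47) (ka xa24 ya39 za4) (ka xa11 ya42 za49) (ka xa14 ya51 za18) (ka xa11 ya43 za0) (ka xa11 ya43 za3) (ka xa14 ya51 za14) (ka xa29 ya15 za29) (ka xa11 ya41 za35) (ka xa11 ya41 za55) (ka xa11 ya41 za58) (ka xa11 ya41 za59) (ka xa11 ya41 za60) (ka xa29 ya35 za35) (ka xa11 ya42 za2) (ka xa23 ya7 za2) (ka xa11 ya41 za46) (ka xa14 ya15 za39) (ka xa24 ya6 za8) (ka xa24 ya6 za7) (ka xa29 ya35 za38) (ka xa13 ya19 za35) (ka xa13 ya19 za36) (ka xa16 ya58 za22) (ka xa16 ya58 za28) (ka xa16 ya58 za29) (ka xa22 ya7 za46) (ka xa22 ya7 za47) (ka xa24 ya12 za29) (ka xa24 ya12 za30) (ka xa17 ya32 za24) (ka xa17 ya31 za33) (ka xa20 ya50 za58)) (@D3.rec (fun _ => Pt) (ka xa21 ya36 za52) (ka xa16 ya58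 za33) (ka xa16 ya58 za36) (ka xa29 ya35 za60) (ka xa29 ya35 za32) (ka xa29 ya35 za33) (ka xa26 ya59 za18) (ka xa19 ya27 za0) (ka xa29 ya0 za3) (ka xa28 ya36 za44) (ka xa11 ya42 za1) (ka xa29 ya36 za9) (ka xa27 ya30 za17) (ka xa16 ya58 za45) (ka xa20 ya26 za43) (ka xa29 ya35 za37) (ka xa29 ya15 za4) (ka xa26 ya57 za25) (ka xa20 ya40 za18) (ka xa20 ya40 za17) (ka xa11 ya42 za8) (ka xa23 ya47 za4) (ka xa17 ya35 za4) (ka xa12 ya20 za29) (ka xa12 ya35 za47) (ka xa21 ya20 za37) (ka xa12 ya17 za19) (ka xa17 ya58 za46) (ka xa19 ya47 za8) (ka xa17 ya58 za52) (ka xa20 ya46 za28) (ka xa17 ya58 za53) (ka xa24 ya16 za54) (ka xa24 ya11 za46) (ka xa17 ya58 za57) (ka xa20 ya49 za28) (ka xa20 ya49 za27) (ka xa11 ya42 za21) (ka xa20 ya49 za44) (ka xa11 ya42 za26) (ka xa20 ya59 za50) (ka xa24 ya53 za34) (ka xa22 ya7 za17) (ka xa23 ya47 za16)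 (ka xa24 ya6 za10) (ka xa22 ya29 za47) (ka xa27 ya2 za8) (ka xa17 ya58 za9) (ka xa29 ya35 za12) (ka xa29 ya35 za13) (ka xa17 ya58 za10) (ka xa29 ya35 za14) (ka xa29 ya35 za15) (ka xa29 ya35 za16) (ka xa29 ya35 za17) (ka xa22 ya14 za1) (ka xa15 ya30 za36) (ka xa17 ya32 za31) (ka xa29 ya35 za19) (ka xa29 ya35 za20) (ka xa29 ya35 za21) (ka xa20 ya45 za39)) (@D3.rec (fun _ => Pt) (ka xa26 ya53 za43) (ka xa24 ya2 za50) (ka xa13 ya4 za8) (ka xa13 ya4 za7) (ka xa22 ya13 za10) (ka xa29 ya35 za23) (ka xa26 ya53 za48) (ka xa22 ya13 za9) (ka xa21 ya47 za40) (ka xa24 ya15 za49) (ka xa29 ya35 za24) (ka xa29 ya37 za3) (ka xa23 ya1 za26) (ka xa22 ya16 za4) (ka xa27 ya2 za16) (ka xa22 ya2 za6) (ka xa13 ya3 za37) (ka xa13 ya3 za36) (ka xa14 ya50 za34) (ka xa19 ya49 za52) (ka xa14 ya50 za42) (ka xa21 ya1 za52) (ka xa29 ya37 za11) (ka xa17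 ya9 za4) (ka xa27 ya12 za15) (ka xa11 ya42 za48) (ka xa15 ya39 za41) (ka xa15 ya39 za40) (ka xa23 ya1 za31) (ka xa29 ya35 za29) (ka xa23 ya1 za27) (ka xa13 ya32 za45) (ka xa29 ya34 za37) (ka xa12 ya49 za55) (ka xa14 ya51 za3) (ka xa26 ya55 za2) (ka xa24 ya36 za30) (ka xa19 ya49 za49) (ka xa26 ya55 za3) (ka xa11 ya56 za16) (ka xa26 ya55 za4) (ka xa19 ya50 za11) (ka xa19 ya50 za14) (ka xa15 ya20 za51) (ka xa15 ya18 za6) (ka xa11 ya42 za60) (ka xa29 ya37 za27) (ka xa14 ya51 za21) (ka xa11 ya43 za2) (ka xa29 ya37 za30) (ka xa25 ya50 za40) (ka xa15 ya18 za5) (ka xa25 ya37 za35) (ka xa11 ya43 za6) (ka xa12 ya57 za19) (ka xa29 ya37 za34) (ka xa25 ya36 za14) (ka xa15 ya39 za45) (ka xa29 ya37 za38) (ka xa18 ya2 za6) (ka xa24 ya8 za33) (ka xa20 ya50 za37)) (@D3.rec (fun _ => Pt) (ka xa22 ya52 za17) (ka xa13 ya32 za43) (ka xa13 ya32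 za46) (ka xa29 ya28 za13) (ka xa12 ya49 za58) (ka xa29 ya28 za14) (ka xa21 ya36 za2) (ka xa17 ya23 za44) (ka xa17 ya24 za39) (ka xa17 ya24 za40) (ka xa17 ya24 za41) (ka xa17 ya24 za42) (ka xa27 ya7 za29) (ka xa17 ya31 za29) (ka xa24 ya12 za0) (ka xa27 ya7 za30) (ka xa27 ya7 za31) (ka xa27 ya7 za32) (ka xa12 ya52 za6) (ka xa11 ya46 za4) (ka xa11 ya46 za5) (ka xa22 ya37 za20) (ka xa11 ya46 za7) (ka xa11 ya46 za9) (ka xa11 ya46 za10) (ka xa11 ya46 za11) (ka xa11 ya46 za12) (ka xa21 ya52 za30) (ka xa11 ya46 za18) (ka xa11 ya46 za19) (ka xa24 ya21 za23) (ka xa11 ya46 za26) (ka xa11 ya46 za30) (ka xa11 ya46 za32) (ka xa11 ya46 za34) (ka xa19 ya29 za1) (ka xa11 ya46 za38) (ka xa21 ya39 za7) (ka xa20 ya23 za36) (ka xa14 ya36 za61) (ka xa11 ya47 za15) (ka xa11 ya44 za43) (ka xa23 ya38 za2) (ka xa11 ya47 za19) (ka xa11 ya43 za34)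 (ka xa24 ya5 za55) (ka xa11 ya46 za53) (ka xa11 ya46 za55) (ka xa11 ya46 za57) (ka xa11 ya47 za0) (ka xa16 ya24 za55) (ka xa11 ya47 za3) (ka xa11 ya46 za48) (ka xa11 ya43 za41) (ka xa24 ya5 za54) (ka xa26 ya4 za14) (ka xa11 ya47 za24) (ka xa16 ya28 za25) (ka xa24 ya18 za1) (ka xa18 ya0 za21) (ka xa18 ya0 za22) (ka xa18 ya0 za23)) (@D3.rec (fun _ => Pt) (ka xa18 ya0 za24) (ka xa12 ya25 za22) (ka xa18 ya0 za25) (ka xa18 ya0 za26) (ka xa18 ya0 za27) (ka xa18 ya0 za28) (ka xa16 ya48 za60) (ka xa27 ya10 za24) (ka xa27 ya20 za60) (ka xa20 ya48 za16) (ka xa17 ya7 za21) (ka xa27 ya20 za61) (ka xa14 ya13 za40) (ka xa11 ya44 za8) (ka xa11 ya44 za9) (ka xa11 ya44 za10) (ka xa26 ya23 za28) (ka xa21 ya12 za31) (ka xa26 ya23 za32) (ka xa26 ya23 za33) (ka xa21 ya49 za33) (ka xa14 ya14 za1) (ka xa28 ya20 za7) (ka xa29 ya38 za24) (ka xa22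 ya50 za12) (ka xa23 ya7 za24) (ka xa29 ya38 za25) (ka xa13 ya58 za35) (ka xa20 ya15 za45) (ka xa19 ya34 za21) (ka xa20 ya40 za52) (ka xa18 ya48 za19) (ka xa18 ya0 za0) (ka xa18 ya16 za16) (ka xa21 ya47 za12) (ka xa18 ya0 za1) (ka xa20 ya16 za33) (ka xa27 ya11 za12) (ka xa20 ya46 za49) (ka xa20 ya42 za61) (ka xa22 ya18 za40) (ka xa20 ya46 za50) (ka xa23 ya7 za29) (ka xa27 ya12 za21) (ka xa27 ya12 za30) (ka xa29 ya38 za46) (ka xa24 ya56 za12) (ka xa22 ya18 za16) (ka xa22 ya18 za17) (ka xa19 ya52 za28) (ka xa26 ya24 za2) (ka xa20 ya19 za30) (ka xa23 ya3 za48) (ka xa14 ya8 za15) (ka xa16 ya30 za54) (ka xa20 ya39 za57) (ka xa23 ya14 za38) (ka xa14 ya20 za8) (ka xa11 ya44 za37) (ka xa29 ya38 za54) (ka xa14 ya20 za18) (ka xa29 ya8 za22)) (@D3.rec (fun _ => Pt) (ka xa27 ya10 za54) (ka xa21 ya2 za1) (ka xa19 ya17 za27) (ka xa17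 ya12 za19) (ka xa12 ya51 za48) (ka xa25 ya42 za8) (ka xa12 ya57 za24) (ka xa26 ya52 za6) (ka xa17 ya12 za32) (ka xa24 ya34 za34) (ka xa22 ya42 za33) (ka xa27 ya21 za2) (ka xa27 ya21 za3) (ka xa27 ya9 za2) (ka xa16 ya57 za52) (ka xa22 ya18 za3) (ka xa11 ya44 za59) (ka xa24 ya2 za46) (ka xa21 ya47 za27) (ka xa27 ya21 za5) (ka xa19 ya5 za30) (ka xa20 ya47 za12) (ka xa22 ya21 za47) (ka xa27 ya12 za27) (ka xa13 ya3 za22) (ka xa27 ya9 za3) (ka xa24 ya15 za54) (ka xa21 ya38 za47) (ka xa20 ya42 za30) (ka xa12 ya16 za46) (ka xa12 ya16 za51) (ka xa12 ya16 za52) (ka xa12 ya36 za7) (ka xa14 ya31 za32) (ka xa11 ya45 za24) (ka xa13 ya20 za48) (ka xa21 ya29 za61) (ka xa18 ya49 za58) (ka xa27 ya12 za17) (ka xa29 ya39 za6) (ka xa17 ya10 za32) (ka xa17 ya11 za20) (ka xa17 ya11 za21) (ka xa18 ya44 za51) (ka xa18 ya46 za48) (ka xa27 ya12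 za29) (ka xa27 ya9 za18) (ka xa13 ya52 za17) (ka xa27 ya12 za31) (ka xa20 ya45 za38) (ka xa20 ya45 za41) (ka xa27 ya48 za27) (ka xa26 ya13 za20) (ka xa24 ya15 za27) (ka xa24 ya15 za28) (ka xa21 ya16 za3) (ka xa21 ya52 za24) (ka xa19 ya9 za56) (ka xa20 ya31 za46) (ka xa20 ya31 za47) (ka xa20 ya31 za48) (ka xa20 ya31 za49)) (@D3.rec (fun _ => Pt) (ka xa23 ya52 za59) (ka xa27 ya11 za57) (ka xa20 ya33 za17) (ka xa23 ya58 za10) (ka xa23 ya57 za27) (ka xa19 ya41 za27) (ka xa23 ya56 za46) (ka xa15 ya56 za22) (ka xa22 ya25 za33) (ka xa15 ya24 za58) (ka xa27 ya12 za26) (ka xa18 ya45 za28) (ka xa20 ya46 za21) (ka xa24 ya11 za14) (ka xa24 ya11 za15) (ka xa27 ya12 za40) (ka xa26 ya4 za13) (ka xa27 ya12 za41) (ka xa27 ya12 za42) (ka xa27 ya12 za43) (ka xa27 ya12 za44) (ka xa27 ya12 za45) (ka xa13 ya3 za48) (ka xa21 ya6 za52) (ka xa18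 ya49 za52) (ka xa12 ya38 za28) (ka xa27 ya43 za22) (ka xa23 ya6 za25) (ka xa27 ya43 za23) (ka xa27 ya38 za31) (ka xa22 ya37 za21) (ka xa11 ya46 za2) (ka xa21 ya29 za36) (ka xa29 ya39 za38) (ka xa21 ya28 za56) (ka xa27 ya40 za29) (ka xa13 ya12 za11) (ka xa29 ya38 za3) (ka xa29 ya38 za4) (ka xa29 ya25 za31) (ka xa27 ya2 za33) (ka xa28 ya15 za26) (ka xa27 ya5 za14) (ka xa20 ya48 za11) (ka xa22 ya39 za0) (ka xa29 ya38 za5) (ka xa22 ya25 za30) (ka xa24 ya21 za29) (ka xa13 ya12 za43) (ka xa22 ya25 za31) (ka xa20 ya48 za20) (ka xa29 ya38 za7) (ka xa21 ya3 za32) (ka xa29 ya38 za8) (ka xa22 ya24 za16) (ka xa28 ya24 za19) (ka xa18 ya49 za6) (ka xa22 ya24 za15) (ka xa24 ya25 za57) (ka xa24 ya36 za17) (ka xa13 ya11 za3) (ka xa14 ya46 za31)) (@D3.rec (fun _ => Pt) (ka xa27 ya16 za8) (ka xa13 ya11 za7) (ka xa13 ya11 za8) (ka xa13 ya11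 za12) (ka xa13 ya11 za11) (ka xa29 ya38 za11) (ka xa13 ya12 za24) (ka xa13 ya12 za23) (ka xa21 ya52 za27) (ka xa21 ya52 za28) (ka xa21 ya52 za29) (ka xa20 ya47 za43) (ka xa29 ya40 za7) (ka xa22 ya26 za35) (ka xa22 ya26 za34) (ka xa20 ya48 za43) (ka xa20 ya45 za9) (ka xa28 ya48 za47) (ka xa20 ya17 za18) (ka xa20 ya17 za31) (ka xa20 ya47 za50) (ka xa24 ya25 za7) (ka xa29 ya40 za16) (ka xa13 ya13 za21) (ka xa23 ya46 za44) (ka xa13 ya11 za51) (ka xa29 ya40 za22) (ka xa29 ya40 za24) (ka xa29 ya40 za26) (ka xa29 ya40 za29) (ka xa11 ya46 za35) (ka xa19 ya29 za0) (ka xa29 ya40 za25) (ka xa28 ya21 za59) (ka xa29 ya23 za15) (ka xa24 ya25 za58) (ka xa11 ya46 za39) (ka xa28 ya47 za28) (ka xa18 ya0 za53) (ka xa18 ya0 za54) (ka xa17 ya52 za29) (ka xa20 ya50 za9) (ka xa27 ya59 za37) (ka xa20 ya48 za15) (ka xa22 ya26 za40) (ka xa24 ya29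 za60) (ka xa11 ya46 za50) (ka xa11 ya46 za51) (ka xa29 ya38 za16) (ka xa24 ya21 za47) (ka xa22 ya25 za6) (ka xa29 ya40 za42) (ka xa29 ya40 za43) (ka xa29 ya25 za54) (ka xa20 ya17 za15) (ka xa22 ya25 za42) (ka xa29 ya40 za53) (ka xa22 ya25 za15) (ka xa22 ya26 za20) (ka xa22 ya26 za19) (ka xa23 ya9 za44) (ka xa20 ya40 za51)) (@D3.rec (fun _ => Pt) (ka xa20 ya49 za34) (ka xa25 ya17 za33) (ka xa20 ya16 za40) (ka xa25 ya17 za39) (ka xa20 ya16 za39) (ka xa20 ya17 za10) (ka xa29 ya9 za5) (ka xa20 ya17 za9) (ka xa12 ya56 za14) (ka xa11 ya47 za2) (ka xa26 ya58 za56) (ka xa12 ya41 za8) (ka xa19 ya42 za56) (ka xa11 ya47 za12) (ka xa25 ya18 za29) (ka xa11 ya47 za11) (ka xa29 ya41 za2) (ka xa27 ya50 za42) (ka xa26 ya54 za8) (ka xa20 ya17 za24) (ka xa29 ya38 za15) (ka xa12 ya51 za55) (ka xa22 ya25 za48) (ka xa14 ya40 za54) (ka xa16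 ya31 za34) (ka xa11 ya47 za23) (ka xa16 ya59 za11) (ka xa20 ya42 za36) (ka xa20 ya42 za35) (ka xa11 ya47 za27) (ka xa29 ya41 za10) (ka xa16 ya59 za7) (ka xa29 ya23 za39) (ka xa19 ya53 za46) (ka xa20 ya49 za0) (ka xa29 ya23 za40) (ka xa21 ya24 za7) (ka xa12 ya50 za6) (ka xa24 ya16 za10) (ka xa29 ya23 za36) (ka xa28 ya58 za36) (ka xa11 ya47 za33) (ka xa26 ya23 za51) (ka xa29 ya41 za18) (ka xa20 ya42 za38) (ka xa16 ya59 za4) (ka xa19 ya45 za33) (ka xa20 ya28 za39) (ka xa26 ya23 za56) (ka xa11 ya47 za39) (ka xa23 ya7 za40) (ka xa29 ya41 za30) (ka xa29 ya23 za48) (ka xa21 ya31 za47) (ka xa21 ya31 za46) (ka xa23 ya37 za53) (ka xa21 ya57 za41) (ka xa21 ya57 za40) (ka xa29 ya41 za35) (ka xa20 ya26 za39) (ka xa19 ya50 za38) (ka xa29 ya23 za44)) (@D3.rec (fun _ => Pt) (ka xa29 ya23 za43) (ka xa11 ya47 za46) (ka xa26 ya25 za25) (ka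 xa29 ya41 za41) (ka xa29 ya23 za41) (ka xa16 ya45 za37) (ka xa29 ya22 za29) (ka xa16 ya45 za35) (ka xa26 ya44 za49) (ka xa20 ya48 za41) (ka xa24 ya4 za55) (ka xa14 ya51 za34) (ka xa11 ya47 za52) (ka xa23 ya8 za45) (ka xa29 ya41 za55) (ka xa15 ya31 za37) (ka xa29 ya23 za49) (ka xa11 ya47 za55) (ka xa24 ya16 za36) (ka xa29 ya41 za58) (ka xa29 ya16 za12) (ka xa26 ya44 za50) (ka xa18 ya2 za22) (ka xa25 ya56 za29) (ka xa21 ya50 za26) (ka xa25 ya25 za56) (ka xa24 ya33 za49) (ka xa28 ya49 za29) (ka xa25 ya4 za28) (ka xa11 ya47 za61) (ka xa24 ya5 za37) (ka xa25 ya56 za47) (ka xa29 ya42 za7) (ka xa29 ya42 za8) (ka xa29 ya42 za16) (ka xa27 ya42 za44) (ka xa29 ya42 za19) (ka xa20 ya43 za61) (ka xa29 ya34 za53) (ka xa25 ya55 za54) (ka xa29 ya34 za54) (ka xa11 ya48 za22) (ka xa11 ya48 za23) (ka xa11 ya48 za32) (ka xa11 ya48 za33) (ka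 xa11 ya48 za34) (ka xa22 ya6 za29) (ka xa24 ya10 za57) (ka xa17 ya20 za55) (ka xa19 ya50 za25) (ka xa19 ya52 za29) (ka xa19 ya52 za30) (ka xa27 ya0 za51) (ka xa19 ya52 za35) (ka xa19 ya34 za28) (ka xa16 ya56 za44) (ka xa20 ya50 za57) (ka xa20 ya50 za56) (ka xa20 ya41 za61) (ka xa25 ya23 za47) (ka xa16 ya57 za29) (ka xa21 ya14 za13)) (@D3.rec (fun _ => Pt) (ka xa28 ya28 za2) (ka xa23 ya58 za21) (ka xa23 ya57 za57) (ka xa13 ya50 za26) (ka xa23 ya3 za37) (ka xa20 ya25 za23) (ka xa26 ya58 za59) (ka xa26 ya58 za60) (ka xa22 ya2 za38) (ka xa26 ya58 za61) (ka xa16 ya48 za52) (ka xa21 ya33 za6) (ka xa20 ya19 za16) (ka xa19 ya53 za3) (ka xa26 ya11 za15) (ka xa22 ya2 za43) (ka xa21 ya1 za37) (ka xa12 ya14 za22) (ka xa14 ya20 za56) (ka xa11 ya49 za9) (ka xa11 ya49 za12) (ka xa11 ya49 za13) (ka xa11 ya49 za18) (ka xa12 ya36 za10)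 (ka xa12 ya36 za11) (ka xa12 ya36 za13) (ka xa22 ya8 za36) (ka xa21 ya20 za16) (ka xa22 ya8 za35) (ka xa12 ya36 za54) (ka xa12 ya36 za56) (ka xa12 ya36 za57) (ka xa17 ya5 za36) (ka xa27 ya12 za12) (ka xa26 ya21 za51) (ka xa12 ya34 za25) (ka xa14 ya36 za34) (ka xa14 ya36 za36) (ka xa12 ya17 za43) (ka xa16 ya57 za47) (ka xa16 ya57 za48) (ka xa14 ya33 za9) (ka xa22 ya21 za48) (ka xa27 ya43 za28) (ka xa20 ya5 za28) (ka xa22 ya37 za6) (ka xa27 ya9 za21) (ka xa21 ya51 za23) (ka xa21 ya50 za20) (ka xa17 ya5 za53) (ka xa24 ya19 za0) (ka xa11 ya49 za19) (ka xa16 ya55 za40) (ka xa17 ya10 za6) (ka xa12 ya14 za7) (ka xa18 ya25 za42) (ka xa11 ya49 za39) (ka xa16 ya48 za56) (ka xa12 ya42 za34) (ka xa20 ya39 za48) (ka xa26 ya52 za47) (ka xa20 ya20 za31)) (@D3.rec (fun _ => Pt) (ka xa20 ya8 za35) (ka xa13 ya30 za29) (ka xa18 ya1 za32)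 (ka xa14 ya21 za46) (ka xa23 ya3 za42) (ka xa18 ya43 za14) (ka xa20 ya32 za57) (ka xa26 ya51 za47) (ka xa26 ya59 za46) (ka xa19 ya33 za57) (ka xa20 ya34 za34) (ka xa11 ya50 za10) (ka xa21 ya13 za55) (ka xa11 ya50 za19) (ka xa12 ya36 za26) (ka xa20 ya15 za11) (ka xa20 ya20 za20) (ka xa23 ya49 za45) (ka xa26 ya23 za5) (ka xa15 ya25 za52) (ka xa27 ya0 za55) (ka xa26 ya27 za8) (ka xa20 ya34 za50) (ka xa20 ya41 za12) (ka xa24 ya53 za38) (ka xa27 ya1 za0) (ka xa20 ya20 za17) (ka xa23 ya27 za28) (ka xa27 ya0 za61) (ka xa16 ya53 za55) (ka xa18 ya2 za9) (ka xa16 ya24 za46) (ka xa17 ya24 za51) (ka xa17 ya24 za52) (ka xa17 ya24 za53) (ka xa20 ya25 za32) (ka xa11 ya50 za18) (ka xa29 ya42 za36) (ka xa29 ya3 za2) (ka xa20 ya34 za49) (ka xa29 ya42 za32) (ka xa29 ya21 za27) (ka xa12 ya10 za47) (ka xa20 ya25 za35) (ka xa19 ya39 za5) (ka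 xa19 ya51 za19) (ka xa13 ya2 za2) (ka xa23 ya5 za11) (ka xa29 ya29 za7) (ka xa29 ya18 za58) (ka xa29 ya18 za39) (ka xa19 ya29 za22) (ka xa24 ya53 za31) (ka xa19 ya53 za34) (ka xa28 ya53 za14) (ka xa14 ya43 za20) (ka xa28 ya47 za51) (ka xa29 ya28 za1) (ka xa29 ya28 za2) (ka xa17 ya49 za48) (ka xa11 ya50 za42) (ka xa11 ya50 za47)) (@D3.rec (fun _ => Pt) (ka xa24 ya33 za4) (ka xa12 ya46 za49) (ka xa16 ya59 za9) (ka xa19 ya53 za27) (ka xa24 ya4 za6) (ka xa29 ya29 za9) (ka xa19 ya41 za46) (ka xa19 ya52 za41) (ka xa29 ya2 za54) (ka xa28 ya55 za2) (ka xa12 ya55 za53) (ka xa29 ya3 za14) (ka xa20 ya57 za47) (ka xa11 ya50 za60) (ka xa23 ya13 za14) (ka xa21 ya43 za61) (ka xa28 ya10 za22) (ka xa27 ya43 za40) (ka xa21 ya21 za38) (ka xa27 ya0 za20) (ka xa23 ya38 za6) (ka xa21 ya48 za5) (ka xa16 ya4 za50) (ka xa27 ya1 za1) (ka xa14 ya48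 za10) (ka xa17 ya4 za11) (ka xa17 ya4 za9) (ka xa23 ya45 za20) (ka xa16 ya4 za43) (ka xa11 ya51 za12) (ka xa24 ya51 za56) (ka xa27 ya43 za42) (ka xa16 ya13 za53) (ka xa25 ya17 za49) (ka xa25 ya17 za48) (ka xa21 ya48 za29) (ka xa27 ya1 za7) (ka xa11 ya51 za22) (ka xa11 ya51 za23) (ka xa25 ya17 za44) (ka xa25 ya19 za26) (ka xa26 ya46 za58) (ka xa24 ya51 za8) (ka xa21 ya43 za10) (ka xa27 ya38 za41) (ka xa21 ya43 za8) (ka xa14 ya48 za36) (ka xa15 ya25 za46) (ka xa21 ya11 za27) (ka xa21 ya47 za34) (ka xa24 ya5 za10) (ka xa24 ya5 za11) (ka xa23 ya55 za58) (ka xa23 ya8 za12) (ka xa22 ya3 za26) (ka xa17 ya8 za29) (ka xa24 ya32 za3) (ka xa17 ya6 za26) (ka xa22 ya3 za27) (ka xa29 ya24 za50) (ka xa28 ya44 za57) (ka xa26 ya40 za61)) (@D3.rec (fun _ => Pt) (ka xa22 ya3 za31) (ka xa11 ya51 za39) (ka xa11 ya51 za40) (ka xa23 ya13 za25)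 (ka xa17 ya8 za60) (ka xa12 ya41 za34) (ka xa17 ya7 za10) (ka xa29 ya43 za16) (ka xa29 ya43 za17) (ka xa22 ya6 za7) (ka xa22 ya6 za6) (ka xa25 ya17 za40) (ka xa20 ya19 za28) (ka xa26 ya53 za39) (ka xa29 ya14 za15) (ka xa29 ya13 za17) (ka xa26 ya54 za29) (ka xa26 ya54 za47) (ka xa26 ya54 za48) (ka xa26 ya54 za30) (ka xa26 ya54 za22) (ka xa29 ya27 za14) (ka xa26 ya54 za49) (ka xa19 ya42 za54) (ka xa21 ya57 za26) (ka xa26 ya54 za51) (ka xa19 ya42 za55) (ka xa14 ya47 za52) (ka xa22 ya21 za39) (ka xa11 ya51 za51) (ka xa21 ya23 za35) (ka xa20 ya34 za6) (ka xa20 ya1 za55) (ka xa19 ya42 za51) (ka xa20 ya1 za56) (ka xa16 ya46 za22) (ka xa18 ya1 za50) (ka xa16 ya17 za36) (ka xa16 ya17 za35) (ka xa11 ya51 za60) (ka xa24 ya41 za55) (ka xa19 ya17 za3) (ka xa20 ya54 za51) (ka xa15 ya39 za23) (ka xa11 ya52 za1) (ka xa23 ya30 za31) (ka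 xa29 ya43 za49) (ka xa17 ya43 za32) (ka xa17 ya43 za33) (ka xa15 ya46 za8) (ka xa14 ya46 za39) (ka xa20 ya54 za42) (ka xa16 ya5 za39) (ka xa23 ya42 za15) (ka xa16 ya50 za46) (ka xa19 ya17 za1) (ka xa19 ya16 za60) (ka xa29 ya43 za55) (ka xa19 ya16 za56) (ka xa26 ya37 za5) (ka xa11 ya52 za49) (ka xa11 ya53 za2)) (@D3.rec (fun _ => Pt) (ka xa11 ya53 za1) (ka xa11 ya52 za14) (ka xa11 ya52 za54) (ka xa11 ya53 za5) (ka xa11 ya53 za7) (ka xa11 ya53 za9) (ka xa11 ya53 za30) (ka xa11 ya53 za29) (ka xa20 ya57 za7) (ka xa11 ya53 za18) (ka xa11 ya53 za19) (ka xa11 ya53 za20) (ka xa11 ya53 za21) (ka xa11 ya53 za24) (ka xa11 ya53 za51) (ka xa11 ya53 za50) (ka xa11 ya52 za24) (ka xa16 ya11 za33) (ka xa29 ya44 za10) (ka xa11 ya53 za47) (ka xa11 ya53 za49) (ka xa20 ya58 za3) (ka xa11 ya53 za56) (ka xa11 ya53 za58) (ka xa11 ya52 za34) (ka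 xa11 ya52 za30) (ka xa20 ya55 za33) (ka xa27 ya15 za42) (ka xa29 ya44 za23) (ka xa29 ya44 za24) (ka xa11 ya52 za31) (ka xa25 ya7 za25) (ka xa27 ya15 za41) (ka xa20 ya55 za26) (ka xa27 ya0 za12) (ka xa11 ya52 za33) (ka xa25 ya22 za24) (ka xa25 ya22 za23) (ka xa29 ya44 za30) (ka xa29 ya44 za31) (ka xa21 ya16 za55) (ka xa22 ya3 za57) (ka xa11 ya54 za14) (ka xa11 ya54 za16) (ka xa11 ya54 za19) (ka xa11 ya54 za20) (ka xa11 ya54 za21) (ka xa11 ya54 za25) (ka xa12 ya57 za48) (ka xa15 ya29 za23) (ka xa20 ya55 za55) (ka xa24 ya51 za22) (ka xa25 ya6 za19) (ka xa11 ya52 za44) (ka xa29 ya44 za47) (ka xa20 ya55 za50) (ka xa19 ya58 za17) (ka xa27 ya57 za2) (ka xa24 ya23 za34) (ka xa11 ya52 za48) (ka xa16 ya39 za0) (ka xa29 ya43 za57)) (@D3.rec (fun _ => Pt) (ka xa22 ya3 za51) (ka xa11 ya52 za50) (ka xa26 ya37 za15) (ka xa28 ya32 za45)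 (ka xa16 ya11 za13) (ka xa29 ya43 za58) (ka xa29 ya43 za59) (ka xa19 ya19 za27) (ka xa29 ya43 za60) (ka xa24 ya23 za33) (ka xa29 ya45 za4) (ka xa19 ya19 za21) (ka xa16 ya40 za19) (ka xa16 ya40 za22) (ka xa19 ya19 za14) (ka xa11 ya52 za61) (ka xa19 ya58 za14) (ka xa12 ya54 za32) (ka xa16 ya38 za53) (ka xa21 ya0 za5) (ka xa28 ya30 za58) (ka xa11 ya53 za4) (ka xa29 ya45 za9) (ka xa16 ya38 za42) (ka xa29 ya45 za10) (ka xa29 ya45 za11) (ka xa29 ya43 za61) (ka xa16 ya37 za56) (ka xa29 ya37 za59) (ka xa29 ya10 za40) (ka xa29 ya45 za28) (ka xa24 ya0 za59) (ka xa16 ya37 za41) (ka xa24 ya1 za2) (ka xa24 ya1 za4) (ka xa29 ya10 za41) (ka xa16 ya37 za32) (ka xa29 ya45 za35) (ka xa13 ya11 za22) (ka xa29 ya45 za39) (ka xa16 ya37 za33) (ka xa15 ya28 za44) (ka xa15 ya29 za3) (ka xa15 ya29 za4) (ka xa25 ya52 za25) (ka xa15 ya41 za21) (ka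 xa19 ya25 za42) (ka xa16 ya11 za10) (ka xa11 ya53 za15) (ka xa19 ya14 za12) (ka xa11 ya56 za31) (ka xa11 ya53 za17) (ka xa29 ya45 za47) (ka xa29 ya44 za4) (ka xa27 ya10 za28) (ka xa29 ya44 za6) (ka xa29 ya44 za7) (ka xa26 ya35 za6) (ka xa13 ya13 za10) (ka xa23 ya55 za20) (ka xa29 ya33 za36) (ka xa13 ya13 za15)) (@D3.rec (fun _ => Pt) (ka xa29 ya44 za9) (ka xa25 ya37 za54) (ka xa15 ya16 za57) (ka xa19 ya26 za47) (ka xa25 ya36 za60) (ka xa29 ya44 za1) (ka xa11 ya53 za33) (ka xa20 ya55 za8) (ka xa26 ya52 za24) (ka xa29 ya45 za55) (ka xa27 ya0 za28) (ka xa19 ya14 za24) (ka xa19 ya14 za25) (ka xa19 ya14 za9) (ka xa19 ya14 za26) (ka xa16 ya38 za17) (ka xa19 ya13 za61) (ka xa29 ya33 za14) (ka xa16 ya38 za18) (ka xa19 ya14 za8) (ka xa19 ya14 za10) (ka xa19 ya13 za57) (ka xa19 ya13 za58) (ka xa26 ya52 za22) (ka xa19 ya13 za59)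 (ka xa21 ya52 za12) (ka xa22 ya4 za0) (ka xa20 ya57 za34) (ka xa21 ya52 za11) (ka xa11 ya53 za45) (ka xa29 ya46 za24) (ka xa29 ya46 za25) (ka xa20 ya39 za35) (ka xa29 ya46 za26) (ka xa20 ya57 za27) (ka xa29 ya44 za15) (ka xa29 ya44 za16) (ka xa28 ya54 za45) (ka xa29 ya44 za17) (ka xa24 ya25 za42) (ka xa26 ya0 za6) (ka xa26 ya40 za39) (ka xa11 ya53 za53) (ka xa11 ya53 za55) (ka xa15 ya25 za12) (ka xa15 ya25 za11) (ka xa25 ya19 za0) (ka xa20 ya53 za12) (ka xa16 ya42 za27) (ka xa20 ya57 za61) (ka xa20 ya58 za0) (ka xa29 ya34 za32) (ka xa26 ya34 za51) (ka xa27 ya17 za37) (ka xa29 ya44 za20) (ka xa28 ya56 za33) (ka xa29 ya44 za21) (ka xa28 ya56 za32) (ka xa11 ya54 za11) (ka xa11 ya54 za12) (ka xa11 ya54 za2) (ka xa20 ya57 za49)) (@D3.rec (fun _ => Pt) (ka xa20 ya57 za50) (ka xa15 ya30 za11) (ka xa15 ya30 za15) (ka xa20 ya55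 za21) (ka xa28 ya54 za27) (ka xa27 ya0 za10) (ka xa11 ya54 za8) (ka xa11 ya54 za9) (ka xa11 ya54 za10) (ka xa18 ya44 za35) (ka xa25 ya19 za40) (ka xa29 ya3 za21) (ka xa28 ya47 za41) (ka xa29 ya47 za1) (ka xa25 ya51 za22) (ka xa12 ya44 za56) (ka xa14 ya24 za13) (ka xa25 ya51 za19) (ka xa24 ya14 za32) (ka xa26 ya39 za32) (ka xa16 ya41 za59) (ka xa16 ya41 za58) (ka xa29 ya44 za38) (ka xa29 ya44 za39) (ka xa29 ya44 za40) (ka xa29 ya44 za41) (ka xa11 ya54 za15) (ka xa29 ya47 za20) (ka xa29 ya38 za2) (ka xa29 ya3 za18) (ka xa29 ya44 za42) (ka xa29 ya44 za43) (ka xa20 ya12 za5) (ka xa25 ya19 za28) (ka xa11 ya54 za17) (ka xa29 ya47 za29) (ka xa25 ya22 za37) (ka xa25 ya22 za35) (ka xa29 ya43 za38) (ka xa26 ya59 za21) (ka xa29 ya3 za17) (ka xa26 ya59 za23) (ka xa20 ya35 za34) (ka xa25 ya22 za28) (ka xa25 ya22 za26) (ka xa29 ya46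 za23) (ka xa16 ya41 za47) (ka xa16 ya42 za32) (ka xa26 ya40 za43) (ka xa16 ya42 za29) (ka xa16 ya42 za30) (ka xa16 ya42 za34) (ka xa16 ya42 za33) (ka xa26 ya41 za21) (ka xa15 ya22 za5) (ka xa28 ya40 za39) (ka xa16 ya42 za43) (ka xa16 ya5 za49) (ka xa27 ya19 za15) (ka xa16 ya42 za39) (ka xa16 ya42 za41) (ka xa15 ya40 za54)) (@D3.rec (fun _ => Pt) (ka xa19 ya24 za34) (ka xa11 ya54 za31) (ka xa26 ya37 za4) (ka xa19 ya24 za41) (ka xa19 ya24 za40) (ka xa11 ya54 za33) (ka xa29 ya47 za46) (ka xa17 ya32 za10) (ka xa29 ya47 za49) (ka xa11 ya54 za37) (ka xa24 ya39 za29) (ka xa29 ya47 za50) (ka xa25 ya24 za14) (ka xa25 ya24 za15) (ka xa25 ya24 za16) (ka xa15 ya40 za33) (ka xa24 ya17 za15) (ka xa24 ya23 za58) (ka xa25 ya24 za18) (ka xa29 ya47 za56) (ka xa25 ya5 za3) (ka xa29 ya47 za58) (ka xa25 ya5 za2) (ka xa12 ya57 za49) (ka xa12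 ya57 za42) (ka xa29 ya26 za0) (ka xa25 ya11 za56) (ka xa19 ya25 za1) (ka xa16 ya49 za48) (ka xa13 ya2 za20) (ka xa20 ya26 za49) (ka xa19 ya25 za5) (ka xa19 ya7 za23) (ka xa18 ya26 za26) (ka xa11 ya54 za55) (ka xa14 ya43 za49) (ka xa19 ya23 za39) (ka xa19 ya23 za38) (ka xa11 ya54 za60) (ka xa19 ya23 za50) (ka xa19 ya23 za49) (ka xa11 ya54 za61) (ka xa19 ya23 za54) (ka xa19 ya23 za53) (ka xa11 ya55 za0) (ka xa28 ya11 za31) (ka xa17 ya33 za7) (ka xa11 ya55 za3) (ka xa11 ya55 za4) (ka xa19 ya48 za59) (ka xa20 ya42 za40) (ka xa19 ya30 za43) (ka xa29 ya42 za46) (ka xa29 ya48 za10) (ka xa16 ya53 za51) (ka xa18 ya48 za49) (ka xa17 ya18 za53) (ka xa29 ya48 za13) (ka xa19 ya30 za26) (ka xa19 ya42 za7) (ka xa24 ya1 za50) (ka xa25 ya52 za40))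
def f_a_21 : D2 → D3 → Pt := @D2.rec (fun _ => D3 → Pt) (@D3.rec (fun _ => Pt) (ka xa19 ya29 za46) (ka xa29 ya48 za26) (ka xa19 ya29 za44) (ka xa29 ya25 za47) (ka xa12 ya57 za44) (ka xa20 ya56 za19) (ka xa27 ya43 za48) (ka xa18 ya46 za1) (ka xa19 ya24 za17) (ka xa21 ya57 za55) (ka xa19 ya34 za7) (ka xa19 ya34 za13) (ka xa11 ya55 za18) (ka xa18 ya51 za28) (ka xa12 ya52 za35) (ka xa11 ya55 za23) (ka xa11 ya55 za24) (ka xa29 ya28 za12) (ka xa29 ya48 za32) (ka xa28 ya59 za1) (ka xa15 ya39 za3) (ka xa12 ya52 za32) (ka xa29 ya17 za9) (ka xa15 ya38 za26) (ka xa19 ya38 za10) (ka xa15 ya16 za45) (ka xa25 ya24 za50) (ka xa16 ya0 za32) (ka xa29 ya48 za38) (ka xa19 ya38 za39) (ka xa22 ya11 za60) (ka xa25 ya24 za41) (ka xa17 ya32 za52) (ka xa17 ya32 za53) (ka xa19 ya26 za18) (ka xa17 ya32 za51) (ka xa28 ya49 za39) (ka xa19 ya47 za15)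 (ka xa20 ya17 za51) (ka xa19 ya40 za19) (ka xa28 ya49 za52) (ka xa21 ya44 za36) (ka xa19 ya8 za19) (ka xa19 ya8 za20) (ka xa19 ya25 za13) (ka xa19 ya25 za12) (ka xa11 ya55 za53) (ka xa15 ya51 za13) (ka xa15 ya51 za12) (ka xa26 ya9 za18) (ka xa12 ya55 za51) (ka xa13 ya3 za35) (ka xa19 ya42 za26) (ka xa20 ya30 za34) (ka xa25 ya48 za58) (ka xa19 ya25 za45) (ka xa21 ya46 za6) (ka xa19 ya25 za44) (ka xa19 ya15 za57) (ka xa19 ya8 za47) (ka xa17 ya34 za23) (ka xa25 ya6 za50)) (@D3.rec (fun _ => Pt) (ka xa15 ya30 za17) (ka xa12 ya49 za52) (ka xa29 ya32 za40) (ka xa15 ya41 za14) (ka xa18 ya7 za0) (ka xa25 ya55 za51) (ka xa22 ya38 za7) (ka xa29 ya48 za51) (ka xa25 ya51 za58) (ka xa12 ya55 za40) (ka xa19 ya8 za25) (ka xa19 ya26 za28) (ka xa19 ya26 za26) (ka xa19 ya26 za30) (ka xa19 ya26 za29) (ka xa29 ya31 za3) (ka xa13 ya13 za40)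 (ka xa11 ya56 za29) (ka xa12 ya54 za34) (ka xa12 ya54 za35) (ka xa12 ya54 za36) (ka xa11 ya56 za28) (ka xa29 ya48 za61) (ka xa12 ya54 za40) (ka xa12 ya44 za58) (ka xa24 ya3 za23) (ka xa29 ya33 za35) (ka xa12 ya54 za42) (ka xa12 ya54 za43) (ka xa11 ya56 za39) (ka xa11 ya56 za40) (ka xa21 ya35 za45) (ka xa15 ya30 za26) (ka xa12 ya54 za5) (ka xa12 ya44 za55) (ka xa22 ya4 za52) (ka xa22 ya4 za53) (ka xa20 ya51 za16) (ka xa16 ya38 za58) (ka xa16 ya39 za5) (ka xa16 ya48 za53) (ka xa25 ya22 za51) (ka xa25 ya22 za50) (ka xa11 ya56 za48) (ka xa29 ya49 za11) (ka xa25 ya22 za54) (ka xa25 ya22 za53) (ka xa11 ya56 za50) (ka xa25 ya22 za58) (ka xa25 ya36 za57) (ka xa17 ya58 za38) (ka xa20 ya40 za4) (ka xa20 ya43 za21) (ka xa25 ya48 za35) (ka xa25 ya48 za36) (ka xa25 ya48 za37) (ka xa25 ya48 za38) (ka xa29 ya49 za20) (ka xa29 ya49 za22)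 (ka xa25 ya13 za42) (ka xa21 ya11 za43) (ka xa25 ya48 za41)) (@D3.rec (fun _ => Pt) (ka xa29 ya49 za27) (ka xa20 ya46 za1) (ka xa24 ya14 za22) (ka xa15 ya20 za18) (ka xa25 ya6 za16) (ka xa12 ya56 za37) (ka xa25 ya6 za22) (ka xa25 ya23 za9) (ka xa17 ya32 za21) (ka xa24 ya51 za47) (ka xa15 ya24 za56) (ka xa14 ya39 za22) (ka xa16 ya50 za38) (ka xa28 ya31 za26) (ka xa25 ya22 za47) (ka xa11 ya57 za16) (ka xa11 ya57 za17) (ka xa28 ya4 za2) (ka xa29 ya49 za32) (ka xa19 ya56 za13) (ka xa29 ya49 za33) (ka xa19 ya56 za11) (ka xa26 ya8 za2) (ka xa23 ya42 za57) (ka xa29 ya49 za45) (ka xa18 ya40 za27) (ka xa26 ya8 za3) (ka xa23 ya29 za54) (ka xa26 ya8 za4) (ka xa19 ya55 za20) (ka xa18 ya18 za23) (ka xa17 ya33 za34) (ka xa16 ya51 za9) (ka xa20 ya20 za30) (ka xa19 ya59 za13) (ka xa18 ya39 za42) (ka xa13 ya48 za29) (ka xa13 ya48 za28)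 (ka xa16 ya10 za25) (ka xa16 ya10 za26) (ka xa15 ya23 za51) (ka xa15 ya23 za50) (ka xa20 ya32 za41) (ka xa28 ya0 za32) (ka xa28 ya0 za53) (ka xa20 ya32 za38) (ka xa18 ya42 za16) (ka xa17 ya2 za53) (ka xa21 ya13 za1) (ka xa25 ya18 za9) (ka xa27 ya59 za35) (ka xa20 ya36 za47) (ka xa27 ya9 za51) (ka xa16 ya31 za21) (ka xa12 ya37 za57) (ka xa14 ya27 za4) (ka xa25 ya18 za8) (ka xa24 ya59 za34) (ka xa27 ya59 za36) (ka xa13 ya1 za16) (ka xa17 ya7 za2) (ka xa17 ya7 za0)) (@D3.rec (fun _ => Pt) (ka xa17 ya6 za58) (ka xa21 ya57 za45) (ka xa17 ya30 za19) (ka xa13 ya1 za4) (ka xa15 ya5 za18) (ka xa18 ya14 za14) (ka xa19 ya52 za40) (ka xa13 ya0 za50) (ka xa18 ya25 za54) (ka xa21 ya37 za42) (ka xa27 ya42 za13) (ka xa11 ya58 za7) (ka xa22 ya17 za57) (ka xa17 ya58 za54) (ka xa16 ya49 za7) (ka xa18 ya26 za23) (ka xa14 ya8 za31) (ka xa18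 ya25 za52) (ka xa20 ya17 za37) (ka xa26 ya58 za2) (ka xa24 ya2 za40) (ka xa12 ya39 za25) (ka xa20 ya9 za37) (ka xa27 ya2 za29) (ka xa22 ya32 za8) (ka xa17 ya59 za14) (ka xa17 ya59 za13) (ka xa20 ya5 za48) (ka xa19 ya52 za52) (ka xa20 ya15 za10) (ka xa20 ya22 za4) (ka xa20 ya22 za5) (ka xa20 ya47 za52) (ka xa28 ya16 za22) (ka xa29 ya34 za60) (ka xa27 ya12 za58) (ka xa29 ya17 za51) (ka xa29 ya34 za61) (ka xa19 ya46 za43) (ka xa19 ya27 za2) (ka xa24 ya18 za22) (ka xa14 ya20 za24) (ka xa14 ya33 za42) (ka xa14 ya33 za43) (ka xa24 ya39 za8) (ka xa14 ya33 za36) (ka xa14 ya33 za37) (ka xa20 ya34 za21) (ka xa20 ya27 za41) (ka xa29 ya35 za9) (ka xa19 ya45 za10) (ka xa21 ya20 za51) (ka xa27 ya8 za7) (ka xa24 ya6 za18) (ka xa19 ya19 za35) (ka xa16 ya3 za14) (ka xa11 ya59 za6) (ka xa21 ya55 za32) (ka xa27 ya0 za58) (ka xa24 ya50 za28)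 (ka xa17 ya26 za23) (ka xa14 ya13 za54)) (@D3.rec (fun _ => Pt) (ka xa19 ya5 za28) (ka xa18 ya23 za14) (ka xa12 ya28 za58) (ka xa29 ya18 za24) (ka xa15 ya49 za50) (ka xa26 ya45 za48) (ka xa22 ya39 za11) (ka xa12 ya26 za15) (ka xa11 ya59 za24) (ka xa16 ya49 za47) (ka xa16 ya28 za48) (ka xa16 ya28 za49) (ka xa13 ya42 za42) (ka xa16 ya30 za3) (ka xa16 ya28 za51) (ka xa16 ya22 za35) (ka xa16 ya28 za54) (ka xa16 ya30 za5) (ka xa16 ya28 za56) (ka xa16 ya28 za59) (ka xa16 ya29 za0) (ka xa16 ya29 za1) (ka xa16 ya29 za2) (ka xa16 ya29 za3) (ka xa16 ya29 za9) (ka xa16 ya29 za10) (ka xa23 ya35 za49) (ka xa21 ya32 za53) (ka xa11 ya59 za42) (ka xa25 ya0 za58) (ka xa13 ya52 za35) (ka xa11 ya59 za50) (ka xa17 ya39 za57) (ka xa11 ya59 za55) (ka xa15 ya11 za45) (ka xa22 ya8 za50) (ka xa14 ya35 za15) (ka xa18 ya37 za34) (ka xa13 ya6 za55)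 (ka xa24 ya44 za13) (ka xa24 ya44 za15) (ka xa12 ya13 za41) (ka xa21 ya10 za18) (ka xa27 ya30 za37) (ka xa23 ya52 za14) (ka xa21 ya49 za48) (ka xa12 ya4 za50) (ka xa12 ya0 za0) (ka xa17 ya35 za25) (ka xa29 ya50 za32) (ka xa23 ya22 za29) (ka xa23 ya52 za10) (ka xa12 ya35 za52) (ka xa12 ya27 za50) (ka xa27 ya19 za56) (ka xa21 ya18 za22) (ka xa12 ya33 za28) (ka xa12 ya33 za27) (ka xa12 ya0 za6) (ka xa29 ya50 za38) (ka xa21 ya39 za21) (ka xa21 ya39 za20)) (@D3.rec (fun _ => Pt) (ka xa12 ya0 za8) (ka xa28 ya58 za53) (ka xa12 ya0 za30) (ka xa15 ya38 za54) (ka xa12 ya0 za10) (ka xa23 ya11 za61) (ka xa29 ya50 za46) (ka xa21 ya27 za17) (ka xa12 ya0 za13) (ka xa22 ya59 za12) (ka xa29 ya32 za39) (ka xa22 ya9 za9) (ka xa17 ya14 za50) (ka xa17 ya14 za49) (ka xa22 ya9 za10) (ka xa17 ya14 za54) (ka xa29 ya50 za52) (ka xa13 ya37 za46)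 (ka xa22 ya9 za5) (ka xa22 ya9 za4) (ka xa12 ya0 za18) (ka xa29 ya50 za54) (ka xa22 ya9 za12) (ka xa22 ya9 za11) (ka xa25 ya6 za14) (ka xa29 ya50 za58) (ka xa21 ya34 za47) (ka xa21 ya34 za48) (ka xa28 ya25 za7) (ka xa22 ya9 za17) (ka xa12 ya0 za27) (ka xa22 ya9 za21) (ka xa22 ya9 za20) (ka xa25 ya34 za27) (ka xa29 ya4 za16) (ka xa19 ya24 za36) (ka xa25 ya59 za54) (ka xa22 ya9 za29) (ka xa22 ya9 za28) (ka xa22 ya9 za34) (ka xa15 ya17 za20) (ka xa12 ya42 za47) (ka xa12 ya18 za48) (ka xa21 ya6 za38) (ka xa16 ya7 za56) (ka xa24 ya30 za42) (ka xa22 ya9 za30) (ka xa15 ya35 za54) (ka xa12 ya18 za57) (ka xa12 ya1 za13) (ka xa24 ya7 za24) (ka xa20 ya34 za39) (ka xa26 ya57 za51) (ka xa12 ya2 za49) (ka xa29 ya51 za8) (ka xa12 ya34 za34) (ka xa12 ya34 za33) (ka xa12 ya0 za44) (ka xa21 ya18 za12) (ka xa24 ya43 za43) (ka xa12 ya33 za6)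 (ka xa21 ya34 za28)) (@D3.rec (fun _ => Pt) (ka xa12 ya0 za47) (ka xa29 ya51 za12) (ka xa21 ya34 za26) (ka xa21 ya27 za44) (ka xa21 ya27 za43) (ka xa12 ya0 za49) (ka xa21 ya31 za19) (ka xa21 ya31 za18) (ka xa12 ya0 za50) (ka xa21 ya6 za45) (ka xa12 ya0 za52) (ka xa19 ya14 za49) (ka xa24 ya42 za17) (ka xa14 ya10 za12) (ka xa21 ya45 za20) (ka xa12 ya0 za53) (ka xa29 ya51 za24) (ka xa12 ya0 za55) (ka xa21 ya55 za47) (ka xa21 ya55 za43) (ka xa27 ya30 za54) (ka xa28 ya10 za5) (ka xa29 ya51 za27) (ka xa21 ya55 za40) (ka xa28 ya0 za33) (ka xa14 ya15 za50) (ka xa23 ya20 za48) (ka xa23 ya20 za49) (ka xa23 ya20 za50) (ka xa21 ya55 za37) (ka xa21 ya28 za23) (ka xa12 ya0 za60) (ka xa27 ya46 za49) (ka xa21 ya55 za36) (ka xa21 ya55 za33) (ka xa12 ya1 za0) (ka xa29 ya51 za35) (ka xa16 ya3 za26) (ka xa21 ya5 za43) (ka xa12 ya1 za4) (ka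 xa16 ya3 za28) (ka xa16 ya3 za27) (ka xa28 ya13 za16) (ka xa29 ya51 za36) (ka xa26 ya7 za45) (ka xa21 ya6 za9) (ka xa21 ya55 za51) (ka xa21 ya55 za52) (ka xa21 ya55 za53) (ka xa12 ya1 za54) (ka xa14 ya12 za33) (ka xa18 ya26 za20) (ka xa20 ya47 za23) (ka xa27 ya17 za32) (ka xa18 ya26 za6) (ka xa12 ya2 za30) (ka xa12 ya2 za31) (ka xa24 ya33 za13) (ka xa12 ya3 za1) (ka xa12 ya3 za3) (ka xa12 ya36 za24) (ka xa12 ya36 za25)) (@D3.rec (fun _ => Pt) (ka xa12 ya1 za40) (ka xa12 ya1 za42) (ka xa12 ya47 za24) (ka xa21 ya54 za59) (ka xa21 ya47 za36) (ka xa21 ya54 za58) (ka xa24 ya33 za15) (ka xa22 ya8 za29) (ka xa22 ya8 za2) (ka xa12 ya35 za34) (ka xa12 ya35 za36) (ka xa12 ya35 za49) (ka xa12 ya35 za51) (ka xa12 ya34 za46) (ka xa25 ya56 za19) (ka xa26 ya58 za24) (ka xa12 ya32 za48) (ka xa12 ya32 za49) (ka xa14 ya35 za47) (ka xa12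 ya45 za11) (ka xa12 ya45 za14) (ka xa12 ya45 za15) (ka xa12 ya45 za16) (ka xa12 ya45 za17) (ka xa12 ya33 za2) (ka xa17 ya58 za44) (ka xa14 ya35 za50) (ka xa12 ya45 za5) (ka xa12 ya45 za6) (ka xa12 ya45 za7) (ka xa12 ya45 za8) (ka xa12 ya45 za10) (ka xa27 ya1 za30) (ka xa12 ya35 za16) (ka xa12 ya35 za13) (ka xa14 ya55 za34) (ka xa14 ya12 za11) (ka xa20 ya2 za3) (ka xa12 ya2 za19) (ka xa12 ya2 za20) (ka xa12 ya2 za21) (ka xa12 ya28 za29) (ka xa12 ya32 za14) (ka xa20 ya38 za11) (ka xa29 ya51 za55) (ka xa18 ya17 za16) (ka xa16 ya40 za57) (ka xa26 ya4 za25) (ka xa18 ya16 za9) (ka xa18 ya20 za57) (ka xa16 ya33 za15) (ka xa22 ya51 za7) (ka xa21 ya35 za10) (ka xa21 ya49 za60) (ka xa18 ya17 za33) (ka xa12 ya28 za47) (ka xa16 ya46 za26) (ka xa28 ya9 za40) (ka xa22 ya51 za57) (ka xa22 ya46 za44) (ka xa18 ya17 za24) (ka xa14 ya12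 za7)) (@D3.rec (fun _ => Pt) (ka xa18 ya17 za25) (ka xa17 ya53 za39) (ka xa18 ya17 za26) (ka xa21 ya45 za7) (ka xa14 ya34 za58) (ka xa27 ya21 za1) (ka xa22 ya22 za28) (ka xa21 ya35 za48) (ka xa18 ya12 za35) (ka xa18 ya12 za55) (ka xa27 ya38 za35) (ka xa27 ya31 za34) (ka xa12 ya36 za16) (ka xa21 ya17 za52) (ka xa28 ya19 za7) (ka xa23 ya20 za36) (ka xa21 ya31 za36) (ka xa29 ya51 za47) (ka xa19 ya17 za8) (ka xa25 ya57 za21) (ka xa12 ya12 za60) (ka xa12 ya36 za18) (ka xa21 ya46 za48) (ka xa24 ya41 za9) (ka xa21 ya45 za16) (ka xa24 ya41 za5) (ka xa21 ya22 za16) (ka xa28 ya19 za10) (ka xa21 ya22 za18) (ka xa12 ya21 za35) (ka xa26 ya48 za14) (ka xa21 ya18 za21) (ka xa21 ya21 za61) (ka xa24 ya42 za0) (ka xa24 ya52 za54) (ka xa12 ya3 za19) (ka xa26 ya40 za34) (ka xa25 ya14 za43) (ka xa27 ya10 za46) (ka xa12 ya48 za14) (ka xa12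 ya48 za13) (ka xa14 ya10 za11) (ka xa12 ya48 za18) (ka xa12 ya48 za20) (ka xa12 ya3 za23) (ka xa12 ya48 za28) (ka xa12 ya3 za24) (ka xa28 ya31 za25) (ka xa12 ya48 za26) (ka xa19 ya5 za52) (ka xa12 ya13 za39) (ka xa12 ya48 za40) (ka xa12 ya48 za41) (ka xa12 ya48 za37) (ka xa12 ya48 za38) (ka xa12 ya3 za29) (ka xa12 ya48 za44) (ka xa12 ya48 za43) (ka xa29 ya52 za14) (ka xa29 ya52 za15) (ka xa12 ya3 za35) (ka xa12 ya3 za38)) (@D3.rec (fun _ => Pt) (ka xa22 ya6 za30) (ka xa20 ya12 za12) (ka xa20 ya19 za11) (ka xa18 ya46 za52) (ka xa20 ya31 za32) (ka xa19 ya52 za21) (ka xa29 ya52 za21) (ka xa29 ya29 za11) (ka xa18 ya13 za15) (ka xa29 ya19 za37) (ka xa17 ya22 za33) (ka xa28 ya45 za44) (ka xa14 ya3 za48) (ka xa14 ya3 za26) (ka xa16 ya54 za8) (ka xa19 ya4 za57) (ka xa16 ya53 za59) (ka xa23 ya47 za52) (ka xa27 ya22 za34) (ka xa12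 ya3 za44) (ka xa18 ya47 za60) (ka xa17 ya47 za45) (ka xa18 ya48 za0) (ka xa22 ya2 za44) (ka xa17 ya35 za3) (ka xa21 ya52 za3) (ka xa27 ya0 za48) (ka xa20 ya19 za13) (ka xa17 ya19 za12) (ka xa27 ya22 za27) (ka xa12 ya46 za30) (ka xa12 ya38 za17) (ka xa16 ya54 za43) (ka xa22 ya4 za61) (ka xa12 ya3 za57) (ka xa12 ya10 za48) (ka xa22 ya5 za8) (ka xa12 ya3 za61) (ka xa20 ya13 za40) (ka xa22 ya6 za27) (ka xa28 ya24 za35) (ka xa18 ya44 za42) (ka xa27 ya22 za3) (ka xa23 ya47 za54) (ka xa27 ya43 za17) (ka xa27 ya22 za2) (ka xa22 ya9 za60) (ka xa12 ya31 za35) (ka xa26 ya46 za52) (ka xa12 ya4 za24) (ka xa22 ya7 za53) (ka xa22 ya22 za34) (ka xa27 ya3 za12) (ka xa19 ya10 za1) (ka xa12 ya4 za34) (ka xa19 ya3 za12) (ka xa19 ya3 za11) (ka xa21 ya50 za13) (ka xa21 ya16 za58) (ka xa23 ya34 za34) (ka xa21 ya22 za34) (ka xa12 ya4 za55)) (@D3.rec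 (fun _ => Pt) (ka xa12 ya4 za42) (ka xa21 ya49 za58) (ka xa21 ya22 za57) (ka xa12 ya52 za26) (ka xa17 ya20 za42) (ka xa12 ya39 za54) (ka xa26 ya2 za37) (ka xa26 ya2 za19) (ka xa12 ya4 za57) (ka xa21 ya43 za53) (ka xa12 ya20 za28) (ka xa12 ya4 za59) (ka xa26 ya10 za29) (ka xa13 ya0 za6) (ka xa23 ya46 za57) (ka xa13 ya0 za21) (ka xa12 ya59 za49) (ka xa13 ya0 za27) (ka xa21 ya4 za42) (ka xa21 ya23 za49) (ka xa13 ya0 za8) (ka xa13 ya0 za9) (ka xa17 ya53 za52) (ka xa16 ya22 za29) (ka xa20 ya33 za40) (ka xa26 ya56 za17) (ka xa29 ya52 za43) (ka xa26 ya56 za19) (ka xa23 ya8 za43) (ka xa16 ya33 za57) (ka xa16 ya33 za58) (ka xa16 ya33 za59) (ka xa16 ya33 za60) (ka xa23 ya5 za5) (ka xa16 ya34 za2) (ka xa16 ya34 za3) (ka xa16 ya34 za4) (ka xa16 ya34 za5) (ka xa13 ya42 za6) (ka xa13 ya42 za7) (ka xa29 ya52 za58) (ka xa16 ya34 za8)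 (ka xa16 ya34 za9) (ka xa16 ya34 za10) (ka xa16 ya34 za11) (ka xa13 ya42 za41) (ka xa16 ya34 za13) (ka xa16 ya34 za14) (ka xa16 ya34 za15) (ka xa16 ya34 za16) (ka xa28 ya15 za38) (ka xa16 ya34 za18) (ka xa24 ya38 za34) (ka xa16 ya34 za20) (ka xa26 ya31 za47) (ka xa26 ya31 za46) (ka xa12 ya5 za18) (ka xa16 ya23 za28) (ka xa16 ya23 za29) (ka xa16 ya21 za2) (ka xa12 ya5 za22) (ka xa13 ya31 za30)) (@D3.rec (fun _ => Pt) (ka xa29 ya53 za16) (ka xa22 ya20 za16) (ka xa16 ya34 za29) (ka xa16 ya34 za30) (ka xa16 ya34 za31) (ka xa16 ya34 za32) (ka xa15 ya4 za52) (ka xa15 ya4 za53) (ka xa12 ya5 za31) (ka xa29 ya53 za28) (ka xa12 ya5 za46) (ka xa16 ya26 za29) (ka xa22 ya58 za45) (ka xa29 ya53 za25) (ka xa28 ya50 za13) (ka xa12 ya51 za10) (ka xa14 ya20 za23) (ka xa17 ya58 za25) (ka xa17 ya58 za24) (ka xa17 ya58 za34) (ka xa14 ya20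 za43) (ka xa28 ya34 za14) (ka xa26 ya57 za1) (ka xa26 ya57 za0) (ka xa12 ya8 za55) (ka xa19 ya8 za46) (ka xa17 ya53 za55) (ka xa20 ya53 za48) (ka xa27 ya44 za20) (ka xa12 ya5 za43) (ka xa29 ya40 za49) (ka xa26 ya56 za20) (ka xa26 ya57 za18) (ka xa19 ya9 za44) (ka xa19 ya47 za13) (ka xa25 ya44 za39) (ka xa26 ya36 za39) (ka xa21 ya43 za41) (ka xa14 ya38 za57) (ka xa18 ya18 za39) (ka xa26 ya22 za50) (ka xa21 ya54 za38) (ka xa26 ya21 za48) (ka xa21 ya1 za60) (ka xa24 ya36 za44) (ka xa16 ya25 za52) (ka xa16 ya32 za56) (ka xa16 ya32 za57) (ka xa16 ya32 za58) (ka xa20 ya41 za7) (ka xa26 ya22 za13) (ka xa26 ya22 za14) (ka xa16 ya33 za23) (ka xa16 ya33 za24) (ka xa13 ya28 za41) (ka xa13 ya33 za55) (ka xa24 ya57 za17) (ka xa28 ya8 za55) (ka xa24 ya57 za19) (ka xa24 ya57 za20) (ka xa24 ya56 za35) (ka xa24 ya57 za45)) (@D3.rec (fun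 _ => Pt) (ka xa24 ya57 za46) (ka xa24 ya57 za47) (ka xa23 ya1 za30) (ka xa24 ya9 za26) (ka xa24 ya57 za48) (ka xa24 ya57 za49) (ka xa24 ya57 za50) (ka xa27 ya51 za49) (ka xa28 ya8 za35) (ka xa12 ya6 za5) (ka xa29 ya53 za59) (ka xa29 ya53 za58) (ka xa21 ya12 za13) (ka xa21 ya12 za12) (ka xa24 ya56 za42) (ka xa24 ya56 za43) (ka xa12 ya46 za43) (ka xa12 ya6 za44) (ka xa23 ya7 za37) (ka xa16 ya12 za3) (ka xa12 ya22 za6) (ka xa13 ya42 za46) (ka xa14 ya37 za52) (ka xa16 ya21 za23) (ka xa16 ya53 za22) (ka xa20 ya26 za23) (ka xa20 ya26 za26) (ka xa19 ya18 za28) (ka xa23 ya34 za47) (ka xa17 ya2 za46) (ka xa24 ya24 za0) (ka xa20 ya45 za17) (ka xa26 ya22 za4) (ka xa15 ya5 za49) (ka xa16 ya25 za43) (ka xa18 ya41 za26) (ka xa18 ya33 za4) (ka xa26 ya21 za42) (ka xa25 ya3 za10) (ka xa13 ya29 za18) (ka xa18 ya33 za11) (ka xa18 ya33 za18)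 (ka xa12 ya6 za40) (ka xa29 ya54 za12) (ka xa27 ya52 za32) (ka xa21 ya12 za46) (ka xa21 ya12 za45) (ka xa25 ya3 za13) (ka xa18 ya36 za12) (ka xa27 ya36 za42) (ka xa20 ya21 za6) (ka xa20 ya21 za8) (ka xa20 ya21 za9) (ka xa28 ya7 za38) (ka xa20 ya21 za11) (ka xa20 ya21 za12) (ka xa20 ya21 za13) (ka xa20 ya21 za14) (ka xa18 ya40 za11) (ka xa21 ya51 za16) (ka xa24 ya44 za26) (ka xa22 ya56 za58)) (@D3.rec (fun _ => Pt) (ka xa21 ya29 za31) (ka xa21 ya2 za48) (ka xa16 ya25 za53) (ka xa20 ya36 za7) (ka xa20 ya36 za8) (ka xa13 ya49 za26) (ka xa14 ya29 za50) (ka xa12 ya6 za61) (ka xa12 ya7 za0) (ka xa12 ya7 za1) (ka xa12 ya7 za3) (ka xa16 ya53 za25) (ka xa19 ya52 za38) (ka xa20 ya26 za25) (ka xa12 ya31 za53) (ka xa26 ya24 za60) (ka xa17 ya46 za33) (ka xa17 ya21 za2) (ka xa20 ya31 za50) (ka xa18 ya35 za17) (ka xa20 ya20 za60) (ka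 xa18 ya41 za48) (ka xa20 ya21 za2) (ka xa20 ya21 za4) (ka xa27 ya34 za40) (ka xa27 ya34 za41) (ka xa20 ya21 za29) (ka xa20 ya21 za30) (ka xa14 ya58 za44) (ka xa14 ya58 za45) (ka xa16 ya8 za34) (ka xa20 ya31 za33) (ka xa20 ya31 za35) (ka xa20 ya31 za42) (ka xa15 ya23 za57) (ka xa20 ya31 za44) (ka xa20 ya31 za45) (ka xa26 ya22 za5) (ka xa12 ya7 za34) (ka xa12 ya7 za35) (ka xa12 ya7 za36) (ka xa12 ya7 za37) (ka xa12 ya7 za39) (ka xa12 ya7 za40) (ka xa12 ya7 za44) (ka xa29 ya54 za42) (ka xa29 ya54 za43) (ka xa29 ya54 za44) (ka xa29 ya54 za45) (ka xa29 ya54 za46) (ka xa29 ya54 za47) (ka xa20 ya34 za29) (ka xa12 ya7 za38) (ka xa16 ya23 za61) (ka xa22 ya53 za54) (ka xa20 ya52 za12) (ka xa28 ya50 za4) (ka xa13 ya14 za14) (ka xa29 ya54 za48) (ka xa19 ya21 za14) (ka xa13 ya57 za51) (ka xa16 ya35 za8)) (@D3.rec (fun _ => Pt) (ka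 xa22 ya37 za18) (ka xa27 ya12 za59) (ka xa26 ya32 za54) (ka xa22 ya19 za2) (ka xa26 ya32 za53) (ka xa16 ya35 za13) (ka xa13 ya47 za17) (ka xa13 ya47 za6) (ka xa13 ya47 za7) (ka xa13 ya47 za8) (ka xa13 ya47 za10) (ka xa13 ya47 za11) (ka xa17 ya1 za16) (ka xa20 ya50 za61) (ka xa20 ya1 za22) (ka xa13 ya57 za58) (ka xa16 ya30 za31) (ka xa12 ya8 za2) (ka xa24 ya12 za55) (ka xa23 ya46 za14) (ka xa24 ya10 za4) (ka xa13 ya57 za59) (ka xa13 ya57 za55) (ka xa13 ya48 za19) (ka xa13 ya48 za17) (ka xa23 ya19 za42) (ka xa13 ya57 za21) (ka xa13 ya57 za57) (ka xa14 ya52 za28) (ka xa23 ya3 za21) (ka xa13 ya55 za24) (ka xa13 ya55 za25) (ka xa13 ya55 za27) (ka xa13 ya55 za29) (ka xa13 ya55 za30) (ka xa13 ya55 za31) (ka xa13 ya55 za22) (ka xa13 ya24 za36) (ka xa13 ya46 za24) (ka xa22 ya51 za8) (ka xa13 ya39 za37) (ka xa13 ya39 za46) (ka xa22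 ya51 za47) (ka xa13 ya42 za35) (ka xa24 ya13 za3) (ka xa13 ya46 za34) (ka xa14 ya14 za33) (ka xa13 ya46 za44) (ka xa13 ya43 za0) (ka xa13 ya55 za20) (ka xa13 ya55 za23) (ka xa13 ya47 za18) (ka xa13 ya47 za9) (ka xa13 ya47 za20) (ka xa13 ya47 za21) (ka xa16 ya27 za19) (ka xa22 ya47 za27) (ka xa16 ya27 za18) (ka xa23 ya6 za6) (ka xa13 ya51 za55) (ka xa23 ya6 za7) (ka xa13 ya33 za3)) (@D3.rec (fun _ => Pt) (ka xa28 ya8 za34) (ka xa12 ya8 za44) (ka xa18 ya59 za17) (ka xa20 ya21 za32) (ka xa20 ya21 za33) (ka xa16 ya19 za45) (ka xa18 ya59 za15) (ka xa16 ya20 za26) (ka xa17 ya8 za25) (ka xa18 ya59 za8) (ka xa17 ya1 za39) (ka xa20 ya26 za22) (ka xa20 ya7 za23) (ka xa20 ya8 za48) (ka xa20 ya8 za47) (ka xa12 ya8 za59) (ka xa21 ya51 za44) (ka xa21 ya53 za31) (ka xa20 ya20 za49) (ka xa20 ya0 za41) (ka xa20 ya0 za42) (ka xa17 ya2 za47)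 (ka xa17 ya2 za48) (ka xa20 ya29 za61) (ka xa17 ya21 za3) (ka xa21 ya53 za52) (ka xa22 ya32 za19) (ka xa27 ya5 za37) (ka xa27 ya5 za38) (ka xa26 ya32 za16) (ka xa27 ya5 za39) (ka xa27 ya5 za40) (ka xa19 ya21 za7) (ka xa19 ya43 za44) (ka xa19 ya21 za23) (ka xa23 ya16 za36) (ka xa27 ya5 za4) (ka xa27 ya5 za31) (ka xa27 ya5 za32) (ka xa27 ya5 za33) (ka xa25 ya2 za43) (ka xa27 ya5 za34) (ka xa27 ya5 za35) (ka xa25 ya18 za11) (ka xa27 ya41 za1) (ka xa20 ya26 za10) (ka xa17 ya9 za52) (ka xa12 ya10 za22) (ka xa17 ya1 za18) (ka xa16 ya53 za26) (ka xa16 ya53 za27) (ka xa29 ya55 za45) (ka xa17 ya1 za57) (ka xa24 ya6 za11) (ka xa14 ya19 za34) (ka xa13 ya42 za18) (ka xa21 ya38 za15) (ka xa21 ya20 za30) (ka xa24 ya6 za40) (ka xa27 ya8 za40) (ka xa29 ya30 za23) (ka xa24 ya25 za37)) (@D3.rec (fun _ => Pt) (ka xa26 ya59 za48) (ka xa17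 ya22 za26) (ka xa20 ya25 za33) (ka xa20 ya46 za55) (ka xa26 ya51 za38) (ka xa19 ya59 za50) (ka xa12 ya10 za24) (ka xa27 ya13 za45) (ka xa20 ya25 za29) (ka xa20 ya33 za37) (ka xa16 ya57 za31) (ka xa26 ya58 za52) (ka xa19 ya57 za33) (ka xa14 ya23 za46) (ka xa20 ya24 za47) (ka xa16 ya57 za1) (ka xa20 ya25 za16) (ka xa20 ya24 za46) (ka xa12 ya25 za40) (ka xa20 ya19 za57) (ka xa16 ya0 za39) (ka xa17 ya27 za54) (ka xa17 ya27 za53) (ka xa12 ya11 za7) (ka xa29 ya55 za61) (ka xa16 ya1 za39) (ka xa17 ya10 za30) (ka xa20 ya40 za36) (ka xa20 ya40 za37) (ka xa18 ya38 za13) (ka xa12 ya11 za23) (ka xa12 ya11 za25) (ka xa12 ya11 za30) (ka xa12 ya11 za37) (ka xa17 ya18 za2) (ka xa17 ya18 za1) (ka xa12 ya11 za18) (ka xa16 ya56 za12) (ka xa26 ya35 za12) (ka xa23 ya4 za12) (ka xa18 ya46 za53) (ka xa17 ya25 za0) (ka xa27 ya2 za39) (ka xa27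 ya2 za40) (ka xa26 ya38 za35) (ka xa17 ya26 za7) (ka xa18 ya38 za16) (ka xa27 ya56 za25) (ka xa27 ya19 za3) (ka xa24 ya10 za1) (ka xa22 ya30 za17) (ka xa27 ya8 za11) (ka xa27 ya19 za21) (ka xa28 ya38 za7) (ka xa14 ya27 za1) (ka xa20 ya55 za40) (ka xa12 ya15 za42) (ka xa29 ya56 za18) (ka xa21 ya9 za58) (ka xa29 ya56 za21) (ka xa15 ya19 za23) (ka xa29 ya9 za15)) (@D3.rec (fun _ => Pt) (ka xa21 ya39 za32) (ka xa28 ya42 za9) (ka xa15 ya46 za45) (ka xa27 ya19 za42) (ka xa15 ya33 za50) (ka xa12 ya11 za40) (ka xa24 ya15 za35) (ka xa27 ya19 za43) (ka xa21 ya58 za3) (ka xa27 ya19 za19) (ka xa27 ya18 za45) (ka xa17 ya27 za43) (ka xa17 ya27 za42) (ka xa12 ya11 za42) (ka xa29 ya56 za33) (ka xa29 ya56 za34) (ka xa17 ya27 za52) (ka xa17 ya10 za16) (ka xa17 ya10 za15) (ka xa12 ya11 za45) (ka xa29 ya56 za39) (ka xa17 ya27 za57) (ka xa17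 ya27 za59) (ka xa17 ya27 za58) (ka xa12 ya11 za47) (ka xa29 ya56 za42) (ka xa17 ya28 za6) (ka xa17 ya28 za3) (ka xa12 ya11 za49) (ka xa29 ya56 za47) (ka xa25 ya57 za23) (ka xa25 ya53 za47) (ka xa17 ya28 za8) (ka xa17 ya28 za9) (ka xa12 ya11 za54) (ka xa17 ya28 za14) (ka xa17 ya28 za13) (ka xa29 ya52 za19) (ka xa29 ya56 za52) (ka xa29 ya57 za0) (ka xa17 ya28 za20) (ka xa29 ya57 za3) (ka xa27 ya18 za43) (ka xa27 ya18 za44) (ka xa27 ya18 za46) (ka xa12 ya42 za54) (ka xa17 ya20 za40) (ka xa12 ya42 za40) (ka xa12 ya42 za38) (ka xa12 ya42 za39) (ka xa12 ya12 za5) (ka xa12 ya12 za7) (ka xa21 ya8 za13) (ka xa29 ya57 za8) (ka xa12 ya12 za8) (ka xa29 ya57 za11) (ka xa12 ya20 za9) (ka xa17 ya35 za24) (ka xa29 ya57 za14) (ka xa17 ya35 za34) (ka xa15 ya57 za48) (ka xa22 ya10 za57)) (@D3.rec (fun _ => Pt) (ka xa27 ya4 za15) (ka xa29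 ya55 za59) (ka xa17 ya35 za27) (ka xa17 ya35 za28) (ka xa17 ya35 za29) (ka xa21 ya49 za37) (ka xa21 ya53 za22) (ka xa12 ya46 za55) (ka xa12 ya46 za51) (ka xa12 ya46 za54) (ka xa12 ya48 za5) (ka xa29 ya57 za30) (ka xa21 ya5 za58) (ka xa12 ya21 za34) (ka xa21 ya19 za3) (ka xa21 ya19 za2) (ka xa12 ya12 za23) (ka xa23 ya41 za5) (ka xa21 ya19 za12) (ka xa14 ya15 za55) (ka xa16 ya50 za45) (ka xa21 ya8 za31) (ka xa21 ya4 za55) (ka xa21 ya34 za20) (ka xa12 ya12 za32) (ka xa29 ya57 za43) (ka xa21 ya34 za19) (ka xa26 ya2 za29) (ka xa12 ya12 za58) (ka xa21 ya34 za13) (ka xa21 ya34 za12) (ka xa12 ya12 za42) (ka xa29 ya57 za53) (ka xa12 ya13 za30) (ka xa20 ya9 za53) (ka xa21 ya57 za44) (ka xa26 ya21 za50) (ka xa12 ya34 za44) (ka xa12 ya34 za45) (ka xa12 ya34 za47) (ka xa15 ya25 za49) (ka xa21 ya35 za37) (ka xa21 ya35 za38) (ka xa12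 ya46 za29) (ka xa12 ya28 za56) (ka xa12 ya28 za59) (ka xa27 ya23 za38) (ka xa29 ya31 za54) (ka xa20 ya14 za61) (ka xa20 ya15 za4) (ka xa21 ya33 za16) (ka xa25 ya56 za54) (ka xa24 ya21 za59) (ka xa24 ya14 za25) (ka xa18 ya38 za14) (ka xa17 ya19 za18) (ka xa19 ya16 za36) (ka xa21 ya46 za37) (ka xa19 ya6 za1) (ka xa21 ya56 za12) (ka xa21 ya46 za45) (ka xa21 ya46 za44)) (@D3.rec (fun _ => Pt) (ka xa12 ya13 za10) (ka xa21 ya46 za47) (ka xa21 ya18 za15) (ka xa21 ya18 za14) (ka xa12 ya13 za12) (ka xa29 ya58 za3) (ka xa19 ya48 za32) (ka xa21 ya24 za27) (ka xa21 ya24 za23) (ka xa12 ya13 za17) (ka xa29 ya58 za9) (ka xa14 ya49 za50) (ka xa21 ya18 za18) (ka xa21 ya34 za16) (ka xa21 ya34 za15) (ka xa12 ya13 za20) (ka xa29 ya58 za12) (ka xa21 ya34 za24) (ka xa21 ya34 za30) (ka xa29 ya50 za36) (ka xa21 ya34 za35) (ka xa29 ya58 za20)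 (ka xa21 ya34 za32) (ka xa21 ya34 za33) (ka xa12 ya13 za26) (ka xa21 ya24 za35) (ka xa21 ya24 za32) (ka xa29 ya58 za28) (ka xa12 ya27 za15) (ka xa29 ya57 za55) (ka xa29 ya57 za56) (ka xa29 ya57 za57) (ka xa12 ya13 za31) (ka xa12 ya13 za37) (ka xa21 ya46 za31) (ka xa21 ya56 za26) (ka xa12 ya13 za34) (ka xa27 ya4 za18) (ka xa12 ya13 za36) (ka xa29 ya22 za53) (ka xa21 ya40 za31) (ka xa21 ya42 za45) (ka xa21 ya50 za42) (ka xa12 ya59 za42) (ka xa17 ya55 za53) (ka xa23 ya42 za21) (ka xa17 ya55 za54) (ka xa17 ya14 za32) (ka xa21 ya59 za22) (ka xa27 ya3 za47) (ka xa21 ya34 za43) (ka xa20 ya16 za25) (ka xa20 ya16 za30) (ka xa17 ya43 za36) (ka xa21 ya33 za43) (ka xa21 ya33 za42) (ka xa12 ya13 za45) (ka xa22 ya28 za28) (ka xa12 ya26 za42) (ka xa29 ya58 za46) (ka xa22 ya11 za49) (ka xa22 ya11 za48)) (@D3.rec (fun _ => Pt) (ka xa12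 ya13 za50) (ka xa29 ya58 za47) (ka xa14 ya9 za13) (ka xa16 ya59 za45) (ka xa12 ya31 za60) (ka xa12 ya20 za1) (ka xa20 ya37 za37) (ka xa12 ya14 za2) (ka xa28 ya10 za24) (ka xa24 ya39 za11) (ka xa27 ya43 za46) (ka xa18 ya7 za57) (ka xa21 ya25 za55) (ka xa20 ya16 za18) (ka xa28 ya10 za23) (ka xa21 ya35 za1) (ka xa20 ya51 za27) (ka xa18 ya24 za36) (ka xa27 ya35 za37) (ka xa20 ya26 za15) (ka xa14 ya33 za8) (ka xa20 ya37 za56) (ka xa29 ya42 za25) (ka xa12 ya15 za31) (ka xa12 ya14 za26) (ka xa12 ya15 za27) (ka xa12 ya14 za27) (ka xa29 ya25 za50) (ka xa12 ya28 za1) (ka xa12 ya14 za34) (ka xa21 ya15 za57) (ka xa14 ya26 za48) (ka xa17 ya18 za50) (ka xa17 ya18 za51) (ka xa24 ya18 za61) (ka xa12 ya42 za46) (ka xa21 ya52 za15) (ka xa20 ya42 za25) (ka xa28 ya1 za28) (ka xa23 ya30 za50) (ka xa12 ya35 za21) (ka xa21 ya35 za15) (ka xa27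 ya5 za41) (ka xa23 ya50 za3) (ka xa14 ya34 za52) (ka xa26 ya57 za55) (ka xa12 ya35 za15) (ka xa12 ya53 za36) (ka xa23 ya46 za51) (ka xa21 ya35 za16) (ka xa12 ya15 za30) (ka xa21 ya3 za51) (ka xa18 ya24 za23) (ka xa29 ya43 za28) (ka xa12 ya15 za34) (ka xa16 ya42 za17) (ka xa12 ya15 za35) (ka xa29 ya58 za59) (ka xa12 ya15 za37) (ka xa26 ya59 za24) (ka xa17 ya28 za40) (ka xa17 ya28 za41)) (@D3.rec (fun _ => Pt) (ka xa17 ya29 za17) (ka xa12 ya15 za43) (ka xa27 ya37 za29) (ka xa14 ya23 za56) (ka xa12 ya43 za7) (ka xa24 ya19 za26) (ka xa15 ya54 za56) (ka xa29 ya59 za1) (ka xa25 ya6 za27) (ka xa12 ya21 za16) (ka xa12 ya16 za0) (ka xa27 ya1 za37) (ka xa17 ya13 za37) (ka xa12 ya16 za18) (ka xa12 ya16 za21) (ka xa27 ya47 za22) (ka xa13 ya0 za30) (ka xa13 ya0 za31) (ka xa13 ya0 za33) (ka xa29 ya59 za6) (ka xa20 ya7 za4) (ka xa28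 ya9 za55) (ka xa21 ya48 za18) (ka xa21 ya48 za19) (ka xa21 ya48 za17) (ka xa21 ya48 za20) (ka xa21 ya47 za29) (ka xa20 ya2 za49) (ka xa21 ya48 za11) (ka xa27 ya22 za58) (ka xa20 ya2 za48) (ka xa21 ya48 za12) (ka xa21 ya48 za13) (ka xa21 ya48 za14) (ka xa29 ya59 za22) (ka xa21 ya48 za16) (ka xa12 ya52 za12) (ka xa12 ya16 za26) (ka xa20 ya53 za18) (ka xa12 ya43 za20) (ka xa12 ya43 za21) (ka xa23 ya24 za33) (ka xa22 ya31 za13) (ka xa24 ya42 za14) (ka xa21 ya49 za0) (ka xa26 ya2 za56) (ka xa16 ya6 za44) (ka xa29 ya59 za31) (ka xa21 ya48 za61) (ka xa21 ya48 za53) (ka xa21 ya48 za54) (ka xa23 ya23 za29) (ka xa12 ya16 za36) (ka xa29 ya59 za33) (ka xa23 ya23 za28) (ka xa21 ya48 za21) (ka xa21 ya49 za24) (ka xa12 ya16 za41) (ka xa18 ya17 za0) (ka xa18 ya38 za24) (ka xa24 ya43 za32) (ka xa21 ya8 za32)) (@D3.rec (fun _ => Pt) (ka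 xa12 ya16 za54) (ka xa29 ya59 za39) (ka xa12 ya17 za0) (ka xa21 ya45 za9) (ka xa12 ya38 za40) (ka xa22 ya21 za49) (ka xa12 ya36 za35) (ka xa18 ya1 za12) (ka xa21 ya36 za29) (ka xa18 ya50 za46) (ka xa17 ya31 za18) (ka xa14 ya34 za53) (ka xa24 ya10 za25) (ka xa14 ya34 za50) (ka xa14 ya36 za23) (ka xa26 ya48 za12) (ka xa21 ya8 za26) (ka xa24 ya41 za25) (ka xa21 ya8 za28) (ka xa27 ya4 za6) (ka xa27 ya4 za5) (ka xa12 ya16 za61) (ka xa29 ya59 za45) (ka xa24 ya10 za26) (ka xa29 ya59 za40) (ka xa26 ya58 za41) (ka xa25 ya44 za27) (ka xa25 ya45 za14) (ka xa12 ya17 za9) (ka xa22 ya6 za2) (ka xa21 ya58 za59) (ka xa12 ya17 za11) (ka xa25 ya10 za0) (ka xa29 ya59 za26) (ka xa21 ya9 za60) (ka xa16 ya8 za61) (ka xa12 ya17 za13) (ka xa25 ya13 za3) (ka xa17 ya52 za36) (ka xa27 ya4 za11) (ka xa21 ya23 za22) (ka xa20 ya15 za56) (ka xa27 ya4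 za9) (ka xa17 ya52 za41) (ka xa12 ya17 za18) (ka xa24 ya39 za22) (ka xa18 ya16 za61) (ka xa12 ya26 za58) (ka xa12 ya50 za19) (ka xa17 ya44 za18) (ka xa21 ya57 za31) (ka xa12 ya17 za42) (ka xa26 ya18 za7) (ka xa21 ya23 za2) (ka xa12 ya50 za26) (ka xa23 ya38 za3) (ka xa27 ya48 za21) (ka xa21 ya10 za2) (ka xa27 ya3 za58) (ka xa12 ya17 za37) (ka xa15 ya37 za43) (ka xa27 ya24 za37)) (@D3.rec (fun _ => Pt) (ka xa12 ya26 za57) (ka xa17 ya40 za8) (ka xa21 ya22 za53) (ka xa14 ya33 za11) (ka xa25 ya44 za40) (ka xa25 ya45 za26) (ka xa21 ya23 za32) (ka xa12 ya19 za36) (ka xa27 ya4 za1) (ka xa18 ya1 za27) (ka xa18 ya1 za28) (ka xa12 ya17 za52) (ka xa12 ya17 za53) (ka xa21 ya34 za9) (ka xa21 ya59 za9) (ka xa15 ya36 za22) (ka xa12 ya43 za28) (ka xa29 ya17 za2) (ka xa21 ya59 za15) (ka xa12 ya17 za56) (ka xa23 ya1 za2) (ka xa12 ya17 za59)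 (ka xa21 ya22 za40) (ka xa29 ya39 za0) (ka xa21 ya33 za56) (ka xa21 ya59 za12) (ka xa12 ya17 za61) (ka xa25 ya9 za61) (ka xa23 ya36 za61) (ka xa21 ya59 za32) (ka xa17 ya43 za53) (ka xa12 ya18 za4) (ka xa21 ya23 za6) (ka xa27 ya44 za30) (ka xa27 ya4 za13) (ka xa20 ya54 za30) (ka xa12 ya18 za7) (ka xa12 ya18 za8) (ka xa21 ya46 za20) (ka xa21 ya59 za3) (ka xa21 ya59 za1) (ka xa25 ya19 za31) (ka xa27 ya4 za21) (ka xa22 ya3 za35) (ka xa24 ya20 za40) (ka xa22 ya10 za25) (ka xa19 ya57 za30) (ka xa12 ya18 za13) (ka xa17 ya13 za57) (ka xa21 ya10 za19) (ka xa12 ya18 za14) (ka xa28 ya33 za15) (ka xa24 ya41 za35) (ka xa19 ya32 za3) (ka xa20 ya5 za29) (ka xa27 ya22 za32) (ka xa17 ya16 za3) (ka xa17 ya35 za23) (ka xa12 ya18 za18) (ka xa28 ya42 za57) (ka xa27 ya29 za25) (ka xa12 ya18 za23)) (@D3.rec (fun _ => Pt) (ka xa21 ya36 za25)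 (ka xa27 ya29 za27) (ka xa27 ya29 za28) (ka xa24 ya14 za48) (ka xa25 ya45 za1) (ka xa27 ya29 za29) (ka xa25 ya44 za44) (ka xa20 ya49 za36) (ka xa19 ya34 za56) (ka xa25 ya44 za31) (ka xa25 ya44 za29) (ka xa25 ya44 za30) (ka xa16 ya8 za44) (ka xa12 ya18 za25) (ka xa30 ya0 za14) (ka xa28 ya32 za20) (ka xa24 ya51 za51) (ka xa17 ya56 za50) (ka xa27 ya4 za26) (ka xa27 ya4 za25) (ka xa12 ya18 za32) (ka xa30 ya0 za20) (ka xa12 ya18 za47) (ka xa21 ya19 za8) (ka xa15 ya43 za2) (ka xa12 ya18 za34) (ka xa30 ya0 za25) (ka xa21 ya19 za7) (ka xa14 ya38 za48) (ka xa21 ya55 za31) (ka xa21 ya55 za30) (ka xa23 ya39 za13) (ka xa21 ya19 za26) (ka xa24 ya42 za44) (ka xa25 ya38 za7) (ka xa21 ya19 za25) (ka xa23 ya36 za23) (ka xa12 ya18 za45) (ka xa30 ya0 za35) (ka xa23 ya40 za28) (ka xa30 ya0 za40) (ka xa17 ya14 za19) (ka xa30 ya0 za23) (ka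 xa23 ya40 za3) (ka xa30 ya0 za24) (ka xa22 ya3 za0) (ka xa24 ya36 za13) (ka xa15 ya43 za0) (ka xa14 ya56 za37) (ka xa12 ya18 za51) (ka xa25 ya44 za36) (ka xa23 ya2 za34) (ka xa13 ya25 za7) (ka xa12 ya27 za33) (ka xa22 ya5 za4) (ka xa22 ya2 za50) (ka xa19 ya23 za4) (ka xa18 ya17 za1) (ka xa12 ya27 za23) (ka xa21 ya33 za46) (ka xa21 ya33 za45) (ka xa12 ya18 za59)) (@D3.rec (fun _ => Pt) (ka xa22 ya28 za31) (ka xa14 ya9 za26) (ka xa12 ya20 za54) (ka xa23 ya1 za51) (ka xa12 ya19 za0) (ka xa27 ya47 za59) (ka xa22 ya11 za46) (ka xa22 ya11 za45) (ka xa12 ya19 za4) (ka xa23 ya17 za58) (ka xa14 ya8 za61) (ka xa22 ya8 za51) (ka xa12 ya19 za7) (ka xa30 ya0 za54) (ka xa14 ya9 za57) (ka xa14 ya10 za10) (ka xa17 ya34 za57) (ka xa12 ya21 za38) (ka xa21 ya26 za5) (ka xa23 ya1 za55) (ka xa27 ya26 za24) (ka xa21 ya26 za4) (ka xa22 ya2 za55)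 (ka xa12 ya19 za15) (ka xa21 ya33 za55) (ka xa18 ya30 za8) (ka xa30 ya0 za37) (ka xa18 ya29 za5) (ka xa26 ya15 za57) (ka xa14 ya9 za31) (ka xa18 ya29 za52) (ka xa14 ya9 za33) (ka xa14 ya8 za44) (ka xa14 ya8 za45) (ka xa14 ya8 za47) (ka xa14 ya8 za48) (ka xa27 ya48 za15) (ka xa18 ya59 za0) (ka xa30 ya1 za9) (ka xa16 ya6 za49) (ka xa30 ya1 za11) (ka xa17 ya35 za11) (ka xa12 ya19 za28) (ka xa15 ya33 za15) (ka xa21 ya26 za50) (ka xa15 ya34 za48) (ka xa27 ya4 za24) (ka xa16 ya13 za40) (ka xa27 ya4 za23) (ka xa20 ya16 za61) (ka xa12 ya19 za35) (ka xa12 ya19 za37) (ka xa12 ya19 za38) (ka xa25 ya36 za56) (ka xa28 ya44 za56) (ka xa21 ya20 za12) (ka xa12 ya47 za20) (ka xa12 ya40 za40) (ka xa12 ya42 za48) (ka xa12 ya19 za40) (ka xa12 ya19 za60) (ka xa21 ya33 za51)) (@D3.rec (fun _ => Pt) (ka xa21 ya33 za50) (ka xa18 ya30 za6) (ka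 xa12 ya19 za53) (ka xa12 ya19 za54) (ka xa21 ya25 za21) (ka xa21 ya25 za18) (ka xa18 ya26 za31) (ka xa27 ya48 za1) (ka xa18 ya26 za32) (ka xa27 ya31 za3) (ka xa14 ya35 za19) (ka xa18 ya7 za42) (ka xa22 ya8 za18) (ka xa24 ya36 za6) (ka xa18 ya16 za39) (ka xa30 ya1 za18) (ka xa17 ya44 za8) (ka xa21 ya34 za8) (ka xa12 ya20 za5) (ka xa12 ya20 za6) (ka xa12 ya20 za7) (ka xa12 ya20 za8) (ka xa26 ya16 za45) (ka xa26 ya3 za57) (ka xa28 ya33 za17) (ka xa30 ya1 za20) (ka xa21 ya41 za28) (ka xa18 ya37 za39) (ka xa21 ya42 za49) (ka xa12 ya21 za11) (ka xa16 ya18 za1) (ka xa24 ya19 za48) (ka xa24 ya19 za46) (ka xa16 ya14 za0) (ka xa15 ya45 za12) (ka xa17 ya14 za31) (ka xa28 ya9 za60) (ka xa17 ya14 za39) (ka xa17 ya14 za40) (ka xa13 ya25 za6) (ka xa12 ya39 za48) (ka xa12 ya29 za40) (ka xa19 ya7 za43) (ka xa17 ya14 za35) (ka xa12 ya20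 za37) (ka xa27 ya17 za52) (ka xa12 ya27 za24) (ka xa22 ya9 za0) (ka xa12 ya27 za32) (ka xa12 ya20 za40) (ka xa21 ya25 za44) (ka xa27 ya48 za32) (ka xa12 ya27 za26) (ka xa30 ya1 za24) (ka xa15 ya43 za45) (ka xa28 ya42 za61) (ka xa20 ya14 za23) (ka xa26 ya11 za18) (ka xa20 ya14 za19) (ka xa23 ya2 za49) (ka xa12 ya20 za48) (ka xa22 ya10 za30)) (@D3.rec (fun _ => Pt) (ka xa17 ya54 za59) (ka xa27 ya4 za52) (ka xa27 ya4 za51) (ka xa12 ya20 za57) (ka xa30 ya1 za29) (ka xa12 ya21 za6) (ka xa25 ya7 za35) (ka xa25 ya30 za10) (ka xa12 ya20 za59) (ka xa24 ya17 za31) (ka xa25 ya27 za4) (ka xa12 ya20 za61) (ka xa17 ya14 za10) (ka xa12 ya21 za3) (ka xa12 ya21 za4) (ka xa30 ya1 za31) (ka xa30 ya1 za32) (ka xa21 ya5 za7) (ka xa15 ya56 za53) (ka xa22 ya16 za28) (ka xa30 ya1 za34) (ka xa17 ya14 za48) (ka xa30 ya1 za30) (ka xa25 ya5 za0)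 (ka xa25 ya30 za17) (ka xa22 ya10 za26) (ka xa22 ya8 za61) (ka xa30 ya1 za39) (ka xa22 ya10 za39) (ka xa22 ya10 za40) (ka xa25 ya45 za2) (ka xa27 ya17 za40) (ka xa22 ya10 za28) (ka xa22 ya10 za29) (ka xa18 ya12 za32) (ka xa27 ya6 za4) (ka xa18 ya57 za24) (ka xa18 ya57 za22) (ka xa29 ya22 za34) (ka xa29 ya59 za5) (ka xa20 ya13 za3) (ka xa12 ya21 za17) (ka xa26 ya4 za0) (ka xa21 ya6 za4) (ka xa21 ya6 za3) (ka xa12 ya21 za19) (ka xa30 ya1 za51) (ka xa12 ya21 za33) (ka xa12 ya21 za37) (ka xa14 ya44 za36) (ka xa14 ya44 za35) (ka xa12 ya21 za23) (ka xa23 ya42 za17) (ka xa14 ya44 za43) (ka xa17 ya14 za24) (ka xa22 ya43 za47) (ka xa23 ya2 za27) (ka xa12 ya21 za28) (ka xa12 ya21 za29) (ka xa25 ya44 za10) (ka xa25 ya44 za9) (ka xa27 ya22 za9)) (@D3.rec (fun _ => Pt) (ka xa27 ya22 za8) (ka xa27 ya22 za14) (ka xa13 ya50 za55) (ka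 xa13 ya50 za58) (ka xa13 ya50 za59) (ka xa29 ya6 za27) (ka xa27 ya4 za44) (ka xa28 ya42 za41) (ka xa27 ya4 za43) (ka xa30 ya1 za53) (ka xa21 ya55 za19) (ka xa30 ya1 za54) (ka xa29 ya57 za34) (ka xa30 ya2 za22) (ka xa29 ya52 za3) (ka xa15 ya47 za24) (ka xa30 ya1 za55) (ka xa25 ya44 za60) (ka xa27 ya48 za44) (ka xa23 ya2 za46) (ka xa23 ya2 za48) (ka xa22 ya8 za57) (ka xa25 ya45 za50) (ka xa21 ya6 za30) (ka xa23 ya2 za42) (ka xa23 ya2 za43) (ka xa20 ya36 za30) (ka xa27 ya45 za48) (ka xa27 ya22 za7) (ka xa27 ya5 za58) (ka xa18 ya5 za6) (ka xa27 ya22 za6) (ka xa19 ya2 za0) (ka xa21 ya50 za1) (ka xa12 ya46 za42) (ka xa12 ya46 za35) (ka xa29 ya29 za39) (ka xa17 ya9 za18) (ka xa17 ya9 za19) (ka xa16 ya27 za58) (ka xa17 ya9 za20) (ka xa21 ya53 za45) (ka xa20 ya36 za2) (ka xa20 ya36 za4) (ka xa20 ya36 za5) (ka xa15 ya10 za54) (ka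 xa20 ya36 za10) (ka xa26 ya21 za47) (ka xa20 ya5 za52) (ka xa21 ya53 za53) (ka xa13 ya47 za15) (ka xa12 ya22 za12) (ka xa12 ya22 za13) (ka xa12 ya22 za14) (ka xa12 ya22 za15) (ka xa12 ya22 za21) (ka xa20 ya47 za34) (ka xa29 ya31 za51) (ka xa12 ya37 za54) (ka xa20 ya38 za28) (ka xa23 ya7 za20) (ka xa16 ya31 za29)) (@D3.rec (fun _ => Pt) (ka xa26 ya22 za31) (ka xa20 ya6 za57) (ka xa28 ya24 za39) (ka xa25 ya17 za52) (ka xa26 ya58 za9) (ka xa16 ya25 za35) (ka xa17 ya2 za42) (ka xa17 ya2 za43) (ka xa16 ya10 za40) (ka xa17 ya2 za44) (ka xa16 ya10 za39) (ka xa20 ya17 za22) (ka xa23 ya31 za12) (ka xa24 ya24 za8) (ka xa26 ya22 za38) (ka xa26 ya22 za39) (ka xa29 ya26 za37) (ka xa23 ya29 za59) (ka xa26 ya6 za30) (ka xa25 ya12 za7) (ka xa16 ya25 za48) (ka xa23 ya38 za25) (ka xa23 ya38 za26) (ka xa26 ya8 za60) (ka xa15 ya6 za18) (ka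 xa16 ya25 za42) (ka xa26 ya22 za43) (ka xa23 ya3 za29) (ka xa23 ya29 za58) (ka xa24 ya54 za11) (ka xa26 ya22 za42) (ka xa21 ya13 za0) (ka xa20 ya24 za53) (ka xa23 ya38 za24) (ka xa17 ya55 za18) (ka xa26 ya22 za36) (ka xa20 ya47 za32) (ka xa26 ya22 za44) (ka xa16 ya19 za57) (ka xa14 ya6 za52) (ka xa26 ya22 za46) (ka xa26 ya22 za47) (ka xa26 ya22 za48) (ka xa26 ya22 za49) (ka xa21 ya30 za5) (ka xa23 ya34 za44) (ka xa23 ya34 za45) (ka xa14 ya4 za10) (ka xa26 ya21 za46) (ka xa22 ya30 za46) (ka xa22 ya29 za1) (ka xa15 ya6 za12) (ka xa15 ya6 za13) (ka xa15 ya6 za14) (ka xa15 ya6 za15) (ka xa14 ya40 za10) (ka xa15 ya6 za17) (ka xa15 ya6 za20) (ka xa15 ya5 za47) (ka xa15 ya5 za51) (ka xa22 ya29 za3) (ka xa20 ya46 za36)) (@D3.rec (fun _ => Pt) (ka xa23 ya29 za39) (ka xa14 ya8 za25) (ka xa23 ya16 za50) (ka xa26 ya22 za51) (ka xa18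 ya18 za41) (ka xa21 ya29 za44) (ka xa22 ya42 za41) (ka xa16 ya29 za50) (ka xa16 ya29 za51) (ka xa16 ya29 za52) (ka xa17 ya0 za1) (ka xa14 ya26 za55) (ka xa17 ya9 za8) (ka xa27 ya3 za30) (ka xa27 ya3 za31) (ka xa27 ya3 za32) (ka xa18 ya25 za44) (ka xa20 ya37 za41) (ka xa20 ya37 za42) (ka xa20 ya37 za43) (ka xa20 ya37 za45) (ka xa17 ya10 za7) (ka xa17 ya5 za38) (ka xa17 ya5 za39) (ka xa18 ya25 za19) (ka xa18 ya25 za20) (ka xa20 ya37 za28) (ka xa18 ya25 za34) (ka xa20 ya37 za29) (ka xa20 ya37 za30) (ka xa20 ya37 za31) (ka xa17 ya12 za30) (ka xa12 ya55 za1) (ka xa20 ya9 za22) (ka xa20 ya9 za23) (ka xa12 ya44 za42) (ka xa19 ya16 za2) (ka xa20 ya9 za24) (ka xa27 ya13 za43) (ka xa12 ya23 za35) (ka xa29 ya8 za21) (ka xa26 ya59 za14) (ka xa14 ya45 za33) (ka xa20 ya26 za19) (ka xa20 ya26 za21) (ka xa17 ya1 za2) (ka xa23 ya40 za38)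 (ka xa13 ya54 za45) (ka xa17 ya53 za1) (ka xa13 ya58 za59) (ka xa21 ya53 za56) (ka xa20 ya26 za24) (ka xa25 ya16 za40) (ka xa23 ya54 za7) (ka xa22 ya11 za35) (ka xa25 ya39 za59) (ka xa12 ya24 za13) (ka xa17 ya16 za43) (ka xa27 ya26 za41) (ka xa17 ya30 za24) (ka xa16 ya15 za28) (ka xa12 ya24 za17)) (@D3.rec (fun _ => Pt) (ka xa21 ya36 za19) (ka xa12 ya24 za18) (ka xa27 ya23 za3) (ka xa12 ya24 za19) (ka xa15 ya59 za23) (ka xa27 ya11 za32) (ka xa17 ya30 za54) (ka xa26 ya58 za22) (ka xa14 ya2 za49) (ka xa14 ya2 za48) (ka xa12 ya24 za23) (ka xa18 ya16 za7) (ka xa12 ya24 za25) (ka xa15 ya38 za33) (ka xa16 ya14 za30) (ka xa15 ya24 za2) (ka xa15 ya38 za37) (ka xa27 ya3 za61) (ka xa21 ya6 za7) (ka xa21 ya6 za6) (ka xa12 ya24 za30) (ka xa29 ya58 za40) (ka xa12 ya48 za35) (ka xa22 ya8 za48) (ka xa22 ya8 za47) (ka xa12 ya24 za34)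 (ka xa25 ya45 za37) (ka xa14 ya57 za11) (ka xa14 ya57 za3) (ka xa30 ya1 za23) (ka xa23 ya2 za52) (ka xa12 ya24 za39) (ka xa23 ya2 za33) (ka xa30 ya3 za34) (ka xa18 ya57 za13) (ka xa12 ya24 za40) (ka xa21 ya8 za16) (ka xa12 ya39 za44) (ka xa18 ya24 za22) (ka xa23 ya2 za50) (ka xa12 ya24 za44) (ka xa30 ya3 za39) (ka xa20 ya25 za9) (ka xa12 ya24 za52) (ka xa20 ya25 za10) (ka xa19 ya51 za6) (ka xa20 ya49 za54) (ka xa20 ya49 za53) (ka xa28 ya44 za50) (ka xa21 ya57 za43) (ka xa25 ya45 za31) (ka xa23 ya22 za9) (ka xa30 ya3 za46) (ka xa12 ya58 za23) (ka xa27 ya5 za46) (ka xa27 ya5 za45) (ka xa12 ya24 za60) (ka xa20 ya25 za6) (ka xa20 ya25 za15) (ka xa19 ya39 za55) (ka xa19 ya52 za19) (ka xa20 ya24 za8)) (@D3.rec (fun _ => Pt) (ka xa17 ya42 za32) (ka xa12 ya25 za9) (ka xa26 ya4 za12) (ka xa17 ya13 za38) (ka xa17 ya14 za4) (ka xa12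 ya25 za11) (ka xa21 ya33 za20) (ka xa20 ya6 za53) (ka xa22 ya2 za28) (ka xa12 ya25 za13) (ka xa30 ya3 za53) (ka xa22 ya2 za27) (ka xa12 ya50 za58) (ka xa23 ya47 za35) (ka xa26 ya59 za3) (ka xa27 ya5 za51) (ka xa21 ya54 za42) (ka xa26 ya59 za0) (ka xa27 ya5 za50) (ka xa12 ya53 za55) (ka xa12 ya46 za52) (ka xa12 ya46 za53) (ka xa12 ya48 za4) (ka xa27 ya53 za32) (ka xa12 ya25 za29) (ka xa22 ya42 za36) (ka xa12 ya25 za34) (ka xa20 ya24 za61) (ka xa20 ya24 za60) (ka xa29 ya23 za21) (ka xa17 ya48 za30) (ka xa14 ya0 za56) (ka xa24 ya39 za42) (ka xa26 ya28 za13) (ka xa14 ya49 za48) (ka xa12 ya47 za60) (ka xa21 ya45 za30) (ka xa12 ya25 za39) (ka xa19 ya34 za20) (ka xa19 ya49 za17) (ka xa19 ya53 za9) (ka xa28 ya13 za58) (ka xa24 ya57 za7) (ka xa27 ya20 za21) (ka xa18 ya16 za52) (ka xa20 ya17 za13) (ka xa16 ya57 za8) (ka xa12 ya25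 za54) (ka xa12 ya25 za55) (ka xa22 ya2 za56) (ka xa12 ya25 za53) (ka xa30 ya4 za0) (ka xa16 ya20 za0) (ka xa21 ya4 za27) (ka xa15 ya36 za34) (ka xa16 ya14 za22) (ka xa13 ya52 za60) (ka xa30 ya3 za28) (ka xa12 ya26 za2) (ka xa23 ya36 za32) (ka xa29 ya22 za31) (ka xa26 ya0 za34)) (@D3.rec (fun _ => Pt) (ka xa25 ya17 za54) (ka xa12 ya26 za6) (ka xa22 ya43 za59) (ka xa24 ya42 za12) (ka xa23 ya36 za21) (ka xa27 ya5 za52) (ka xa20 ya51 za11) (ka xa12 ya26 za10) (ka xa25 ya31 za47) (ka xa12 ya39 za30) (ka xa12 ya26 za25) (ka xa26 ya13 za2) (ka xa22 ya10 za36) (ka xa12 ya26 za13) (ka xa12 ya52 za27) (ka xa27 ya43 za11) (ka xa21 ya18 za50) (ka xa12 ya39 za59) (ka xa12 ya35 za57) (ka xa25 ya45 za35) (ka xa21 ya32 za6) (ka xa12 ya26 za19) (ka xa22 ya10 za0) (ka xa12 ya26 za20) (ka xa12 ya26 za18) (ka xa26 ya11 za27) (ka xa29 ya19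 za43) (ka xa12 ya39 za57) (ka xa12 ya47 za11) (ka xa17 ya9 za36) (ka xa12 ya39 za60) (ka xa12 ya26 za23) (ka xa23 ya10 za47) (ka xa23 ya42 za43) (ka xa16 ya5 za25) (ka xa16 ya5 za26) (ka xa16 ya5 za28) (ka xa12 ya26 za26) (ka xa16 ya17 za45) (ka xa12 ya26 za30) (ka xa22 ya11 za15) (ka xa12 ya26 za45) (ka xa21 ya19 za55) (ka xa21 ya19 za54) (ka xa12 ya26 za34) (ka xa21 ya24 za60) (ka xa21 ya24 za59) (ka xa12 ya26 za35) (ka xa16 ya17 za0) (ka xa16 ya18 za9) (ka xa21 ya26 za0) (ka xa21 ya25 za61) (ka xa12 ya26 za38) (ka xa14 ya57 za54) (ka xa28 ya4 za16) (ka xa21 ya25 za24) (ka xa21 ya23 za24) (ka xa22 ya11 za16) (ka xa22 ya11 za17) (ka xa22 ya28 za29) (ka xa22 ya28 za30) (ka xa21 ya58 za17)) (@D3.rec (fun _ => Pt) (ka xa21 ya58 za19) (ka xa26 ya48 za15) (ka xa21 ya58 za20) (ka xa30 ya4 za24) (ka xa17 ya35 za19) (ka xa16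 ya16 za51) (ka xa16 ya16 za52) (ka xa17 ya42 za9) (ka xa21 ya26 za17) (ka xa21 ya23 za13) (ka xa12 ya26 za59) (ka xa27 ya31 za35) (ka xa21 ya18 za30) (ka xa21 ya18 za29) (ka xa12 ya26 za61) (ka xa21 ya19 za14) (ka xa21 ya19 za13) (ka xa12 ya27 za0) (ka xa30 ya4 za29) (ka xa21 ya18 za26) (ka xa21 ya18 za23) (ka xa15 ya46 za11) (ka xa12 ya27 za2) (ka xa30 ya3 za1) (ka xa21 ya19 za17) (ka xa16 ya7 za3) (ka xa21 ya6 za2) (ka xa12 ya39 za3) (ka xa21 ya5 za61) (ka xa23 ya27 za60) (ka xa21 ya19 za18) (ka xa21 ya39 za38) (ka xa21 ya19 za22) (ka xa21 ya19 za23) (ka xa25 ya42 za23) (ka xa21 ya19 za20) (ka xa12 ya27 za14) (ka xa22 ya44 za49) (ka xa30 ya4 za47) (ka xa29 ya58 za29) (ka xa29 ya58 za30) (ka xa29 ya58 za31) (ka xa24 ya42 za3) (ka xa21 ya19 za50) (ka xa12 ya27 za18) (ka xa12 ya27 za22) (ka xa30 ya1 za47) (ka xa21 ya5 za26)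 (ka xa21 ya5 za27) (ka xa12 ya39 za46) (ka xa19 ya22 za57) (ka xa18 ya16 za54) (ka xa20 ya15 za50) (ka xa27 ya3 za44) (ka xa12 ya27 za25) (ka xa27 ya4 za46) (ka xa27 ya4 za45) (ka xa29 ya15 za28) (ka xa12 ya27 za30) (ka xa22 ya9 za3) (ka xa17 ya30 za61) (ka xa15 ya30 za28)) (@D3.rec (fun _ => Pt) (ka xa17 ya19 za40) (ka xa21 ya20 za15) (ka xa17 ya19 za46) (ka xa12 ya27 za46) (ka xa12 ya42 za44) (ka xa17 ya59 za43) (ka xa14 ya27 za3) (ka xa12 ya28 za5) (ka xa12 ya28 za7) (ka xa12 ya37 za19) (ka xa21 ya7 za52) (ka xa14 ya36 za14) (ka xa12 ya43 za0) (ka xa12 ya28 za12) (ka xa27 ya42 za21) (ka xa21 ya20 za41) (ka xa21 ya20 za49) (ka xa22 ya3 za21) (ka xa12 ya28 za30) (ka xa12 ya28 za31) (ka xa19 ya49 za59) (ka xa18 ya11 za0) (ka xa30 ya5 za0) (ka xa24 ya32 za50) (ka xa28 ya1 za18) (ka xa12 ya28 za41) (ka xa17 ya17 za28) (ka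 xa17 ya17 za29) (ka xa12 ya51 za57) (ka xa18 ya39 za29) (ka xa12 ya43 za8) (ka xa12 ya45 za42) (ka xa28 ya10 za27) (ka xa14 ya36 za8) (ka xa12 ya38 za48) (ka xa12 ya38 za49) (ka xa12 ya38 za51) (ka xa21 ya18 za41) (ka xa21 ya18 za42) (ka xa20 ya15 za58) (ka xa25 ya17 za53) (ka xa12 ya59 za46) (ka xa17 ya31 za3) (ka xa26 ya46 za6) (ka xa29 ya6 za34) (ka xa21 ya1 za31) (ka xa12 ya28 za60) (ka xa30 ya5 za12) (ka xa21 ya8 za7) (ka xa18 ya50 za30) (ka xa18 ya50 za32) (ka xa12 ya47 za13) (ka xa12 ya29 za5) (ka xa28 ya10 za32) (ka xa21 ya37 za43) (ka xa18 ya25 za48) (ka xa28 ya48 za9) (ka xa12 ya29 za20) (ka xa19 ya49 za28) (ka xa19 ya22 za19) (ka xa19 ya33 za24) (ka xa19 ya49 za29)) (@D3.rec (fun _ => Pt) (ka xa19 ya40 za12) (ka xa12 ya49 za59) (ka xa20 ya44 za6) (ka xa20 ya40 za8) (ka xa15 ya46 za38) (ka xa12 ya49 za54) (ka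 xa26 ya14 za25) (ka xa20 ya34 za27) (ka xa30 ya5 za16) (ka xa12 ya29 za31) (ka xa12 ya29 za32) (ka xa20 ya28 za32) (ka xa15 ya43 za57) (ka xa26 ya5 za57) (ka xa20 ya27 za44) (ka xa20 ya34 za14) (ka xa30 ya5 za18) (ka xa21 ya38 za49) (ka xa18 ya50 za13) (ka xa21 ya31 za0) (ka xa12 ya47 za40) (ka xa17 ya34 za56) (ka xa21 ya42 za6) (ka xa21 ya42 za7) (ka xa21 ya42 za8) (ka xa21 ya24 za0) (ka xa15 ya48 za19) (ka xa30 ya5 za20) (ka xa12 ya47 za47) (ka xa21 ya22 za8) (ka xa14 ya20 za45) (ka xa14 ya32 za52) (ka xa15 ya30 za32) (ka xa27 ya56 za9) (ka xa18 ya2 za13) (ka xa12 ya32 za9) (ka xa21 ya38 za4) (ka xa12 ya32 za8) (ka xa13 ya2 za0) (ka xa12 ya30 za7) (ka xa12 ya30 za8) (ka xa26 ya46 za20) (ka xa16 ya47 za6) (ka xa16 ya46 za37) (ka xa16 ya46 za36) (ka xa23 ya53 za29) (ka xa18 ya37 za38) (ka xa12 ya30 za12) (ka xa20 ya27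 za30) (ka xa22 ya11 za42) (ka xa12 ya30 za25) (ka xa12 ya30 za27) (ka xa20 ya42 za0) (ka xa19 ya32 za37) (ka xa29 ya23 za42) (ka xa30 ya5 za21) (ka xa24 ya41 za20) (ka xa23 ya37 za51) (ka xa12 ya58 za13) (ka xa12 ya58 za16) (ka xa26 ya9 za11) (ka xa12 ya30 za36)) (@D3.rec (fun _ => Pt) (ka xa24 ya32 za39) (ka xa22 ya11 za29) (ka xa18 ya8 za5) (ka xa23 ya36 za34) (ka xa12 ya30 za39) (ka xa23 ya22 za32) (ka xa23 ya22 za31) (ka xa12 ya30 za40) (ka xa27 ya31 za26) (ka xa22 ya18 za44) (ka xa23 ya22 za28) (ka xa12 ya30 za42) (ka xa24 ya55 za55) (ka xa22 ya18 za51) (ka xa30 ya5 za27) (ka xa23 ya22 za27) (ka xa17 ya13 za5) (ka xa17 ya13 za9) (ka xa20 ya13 za21) (ka xa17 ya57 za44) (ka xa23 ya48 za1) (ka xa14 ya29 za52) (ka xa15 ya27 za7) (ka xa14 ya29 za53) (ka xa26 ya43 za61) (ka xa12 ya31 za2) (ka xa12 ya32 za20) (ka xa29 ya34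 za57) (ka xa15 ya27 za6) (ka xa18 ya7 za59) (ka xa24 ya54 za57) (ka xa18 ya8 za11) (ka xa18 ya4 za8) (ka xa23 ya38 za4) (ka xa23 ya48 za2) (ka xa23 ya38 za7) (ka xa12 ya31 za34) (ka xa21 ya57 za25) (ka xa20 ya6 za14) (ka xa27 ya9 za14) (ka xa20 ya26 za27) (ka xa29 ya0 za19) (ka xa21 ya3 za9) (ka xa21 ya35 za54) (ka xa15 ya5 za28) (ka xa12 ya31 za46) (ka xa16 ya55 za12) (ka xa17 ya55 za33) (ka xa16 ya49 za49) (ka xa16 ya46 za16) (ka xa23 ya42 za30) (ka xa12 ya31 za49) (ka xa19 ya43 za24) (ka xa26 ya43 za52) (ka xa23 ya35 za60) (ka xa23 ya35 za13) (ka xa17 ya56 za19) (ka xa29 ya54 za29) (ka xa23 ya35 za15) (ka xa23 ya35 za16) (ka xa23 ya42 za32) (ka xa23 ya42 za35)) (@D3.rec (fun _ => Pt) (ka xa21 ya42 za17) (ka xa27 ya36 za27) (ka xa19 ya43 za42) (ka xa26 ya52 za0) (ka xa21 ya36 za36) (ka xa17 ya30 za10) (ka xa17 ya30 za9)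 (ka xa16 ya31 za33) (ka xa26 ya28 za8) (ka xa26 ya22 za23) (ka xa12 ya32 za11) (ka xa30 ya5 za35) (ka xa20 ya20 za27) (ka xa12 ya32 za16) (ka xa12 ya32 za17) (ka xa21 ya15 za56) (ka xa19 ya50 za36) (ka xa20 ya33 za35) (ka xa21 ya51 za28) (ka xa15 ya5 za42) (ka xa16 ya25 za4) (ka xa17 ya30 za12) (ka xa28 ya0 za61) (ka xa24 ya41 za54) (ka xa21 ya58 za22) (ka xa17 ya18 za15) (ka xa17 ya18 za14) (ka xa29 ya24 za30) (ka xa14 ya11 za44) (ka xa18 ya23 za11) (ka xa17 ya25 za54) (ka xa17 ya25 za52) (ka xa30 ya5 za41) (ka xa27 ya7 za13) (ka xa27 ya3 za0) (ka xa17 ya27 za8) (ka xa30 ya5 za49) (ka xa17 ya17 za37) (ka xa27 ya7 za26) (ka xa18 ya46 za58) (ka xa18 ya46 za57) (ka xa27 ya7 za27) (ka xa18 ya21 za21) (ka xa18 ya23 za12) (ka xa17 ya17 za38) (ka xa22 ya7 za30) (ka xa19 ya22 za14) (ka xa20 ya46 za27) (ka xa13 ya5 za48) (ka xa21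 ya36 za17) (ka xa29 ya51 za54) (ka xa18 ya50 za22) (ka xa22 ya35 za39) (ka xa17 ya11 za55) (ka xa17 ya11 za56) (ka xa22 ya53 za40) (ka xa24 ya15 za21) (ka xa17 ya13 za1) (ka xa12 ya37 za41) (ka xa22 ya12 za5) (ka xa12 ya41 za50) (ka xa29 ya18 za12)) (@D3.rec (fun _ => Pt) (ka xa24 ya43 za41) (ka xa12 ya41 za54) (ka xa29 ya43 za52) (ka xa12 ya33 za5) (ka xa30 ya6 za10) (ka xa29 ya51 za10) (ka xa24 ya14 za19) (ka xa20 ya44 za37) (ka xa24 ya15 za22) (ka xa19 ya13 za8) (ka xa24 ya15 za25) (ka xa21 ya41 za21) (ka xa22 ya15 za33) (ka xa22 ya8 za17) (ka xa24 ya41 za12) (ka xa22 ya2 za46) (ka xa30 ya6 za23) (ka xa27 ya11 za21) (ka xa27 ya11 za20) (ka xa12 ya33 za17) (ka xa21 ya4 za61) (ka xa21 ya4 za60) (ka xa12 ya33 za18) (ka xa22 ya10 za47) (ka xa22 ya10 za46) (ka xa12 ya33 za19) (ka xa24 ya8 za47) (ka xa25 ya27 za49) (ka xa12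 ya33 za22) (ka xa30 ya6 za27) (ka xa25 ya33 za32) (ka xa27 ya6 za18) (ka xa21 ya17 za0) (ka xa27 ya6 za15) (ka xa27 ya6 za14) (ka xa12 ya33 za25) (ka xa30 ya6 za33) (ka xa29 ya57 za19) (ka xa21 ya34 za31) (ka xa29 ya32 za23) (ka xa29 ya50 za37) (ka xa17 ya35 za32) (ka xa22 ya55 za26) (ka xa24 ya8 za6) (ka xa12 ya33 za30) (ka xa29 ya50 za40) (ka xa29 ya50 za39) (ka xa23 ya9 za54) (ka xa30 ya6 za45) (ka xa27 ya6 za20) (ka xa30 ya6 za48) (ka xa27 ya6 za22) (ka xa17 ya21 za12) (ka xa15 ya27 za1) (ka xa19 ya27 za19) (ka xa17 ya26 za49) (ka xa22 ya16 za12) (ka xa14 ya19 za22) (ka xa27 ya11 za60) (ka xa14 ya29 za21) (ka xa14 ya29 za22) (ka xa15 ya27 za2)) (@D3.rec (fun _ => Pt) (ka xa21 ya50 za8) (ka xa30 ya6 za53) (ka xa15 ya57 za13) (ka xa12 ya33 za52) (ka xa22 ya22 za26) (ka xa14 ya30 za61) (ka xa20 ya22 za6) (ka xa22 ya22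 za30) (ka xa17 ya20 za4) (ka xa17 ya20 za1) (ka xa22 ya22 za33) (ka xa14 ya22 za24) (ka xa14 ya19 za4) (ka xa14 ya22 za26) (ka xa14 ya22 za27) (ka xa14 ya22 za28) (ka xa23 ya55 za23) (ka xa23 ya55 za24) (ka xa13 ya9 za10) (ka xa23 ya55 za26) (ka xa19 ya40 za37) (ka xa23 ya55 za27) (ka xa28 ya48 za26) (ka xa13 ya17 za10) (ka xa13 ya22 za37) (ka xa13 ya22 za38) (ka xa13 ya22 za54) (ka xa12 ya51 za45) (ka xa13 ya22 za55) (ka xa21 ya57 za22) (ka xa12 ya37 za37) (ka xa21 ya19 za40) (ka xa12 ya37 za29) (ka xa12 ya37 za31) (ka xa12 ya37 za32) (ka xa21 ya57 za30) (ka xa14 ya13 za43) (ka xa24 ya33 za5) (ka xa24 ya15 za34) (ka xa21 ya42 za34) (ka xa26 ya58 za34) (ka xa26 ya58 za35) (ka xa26 ya58 za36) (ka xa26 ya58 za37) (ka xa26 ya58 za38) (ka xa12 ya46 za58) (ka xa12 ya46 za48) (ka xa12 ya40 za57) (ka xa14 ya46 za57) (ka xa12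 ya47 za49) (ka xa24 ya9 za48) (ka xa24 ya9 za46) (ka xa12 ya34 za30) (ka xa23 ya37 za19) (ka xa24 ya41 za8) (ka xa12 ya47 za45) (ka xa23 ya22 za34) (ka xa25 ya54 za15) (ka xa12 ya34 za36) (ka xa14 ya45 za26) (ka xa14 ya45 za25) (ka xa30 ya7 za17)) (@D3.rec (fun _ => Pt) (ka xa23 ya37 za18) (ka xa12 ya48 za54) (ka xa12 ya48 za55) (ka xa18 ya36 za17) (ka xa18 ya36 za15) (ka xa22 ya8 za28) (ka xa12 ya35 za14) (ka xa16 ya9 za22) (ka xa29 ya21 za54) (ka xa29 ya18 za27) (ka xa27 ya29 za41) (ka xa29 ya51 za50) (ka xa13 ya19 za6) (ka xa14 ya10 za57) (ka xa13 ya14 za58) (ka xa13 ya19 za2) (ka xa13 ya19 za3) (ka xa12 ya34 za56) (ka xa13 ya54 za36) (ka xa23 ya11 za50) (ka xa23 ya11 za51) (ka xa21 ya39 za11) (ka xa18 ya45 za51) (ka xa13 ya21 za15) (ka xa23 ya11 za52) (ka xa14 ya29 za32) (ka xa24 ya40 za22) (ka xa21 ya45 za28) (ka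 xa21 ya26 za26) (ka xa18 ya15 za8) (ka xa21 ya45 za42) (ka xa21 ya45 za43) (ka xa18 ya57 za58) (ka xa18 ya13 za46) (ka xa13 ya20 za47) (ka xa17 ya18 za30) (ka xa17 ya51 za28) (ka xa14 ya23 za30) (ka xa16 ya8 za52) (ka xa27 ya38 za7) (ka xa22 ya8 za33) (ka xa22 ya8 za34) (ka xa18 ya17 za12) (ka xa29 ya42 za26) (ka xa23 ya46 za53) (ka xa23 ya46 za54) (ka xa14 ya36 za33) (ka xa12 ya41 za9) (ka xa14 ya37 za58) (ka xa14 ya37 za59) (ka xa23 ya47 za2) (ka xa23 ya3 za50) (ka xa21 ya52 za60) (ka xa20 ya17 za30) (ka xa22 ya37 za12) (ka xa23 ya53 za57) (ka xa18 ya24 za1) (ka xa23 ya54 za6) (ka xa14 ya36 za42) (ka xa23 ya54 za8) (ka xa14 ya36 za40) (ka xa16 ya14 za46)) (@D3.rec (fun _ => Pt) (ka xa18 ya3 za32) (ka xa17 ya38 za20) (ka xa12 ya46 za27) (ka xa17 ya38 za51) (ka xa12 ya35 za43) (ka xa18 ya12 za57) (ka xa21 ya36 za22) (ka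 xa21 ya36 za23) (ka xa21 ya36 za24) (ka xa17 ya45 za0) (ka xa16 ya16 za32) (ka xa30 ya3 za45) (ka xa21 ya49 za51) (ka xa30 ya3 za54) (ka xa14 ya54 za45) (ka xa12 ya35 za53) (ka xa18 ya6 za4) (ka xa21 ya38 za0) (ka xa22 ya3 za42) (ka xa12 ya35 za58) (ka xa25 ya44 za55) (ka xa30 ya4 za9) (ka xa25 ya17 za20) (ka xa25 ya17 za19) (ka xa26 ya13 za0) (ka xa24 ya44 za39) (ka xa17 ya31 za5) (ka xa17 ya35 za14) (ka xa21 ya44 za29) (ka xa12 ya36 za0) (ka xa28 ya16 za21) (ka xa27 ya43 za26) (ka xa12 ya40 za56) (ka xa27 ya42 za57) (ka xa21 ya40 za39) (ka xa20 ya17 za33) (ka xa14 ya49 za61) (ka xa23 ya49 za46) (ka xa23 ya49 za47) (ka xa14 ya37 za5) (ka xa12 ya41 za23) (ka xa23 ya50 za4) (ka xa21 ya45 za55) (ka xa12 ya40 za42) (ka xa12 ya36 za30) (ka xa21 ya19 za41) (ka xa14 ya35 za61) (ka xa12 ya36 za37) (ka xa20 ya37 za51) (ka xa21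 ya26 za28) (ka xa12 ya47 za33) (ka xa12 ya39 za45) (ka xa12 ya39 za49) (ka xa12 ya39 za55) (ka xa12 ya39 za56) (ka xa12 ya40 za1) (ka xa12 ya40 za2) (ka xa12 ya40 za4) (ka xa12 ya40 za5) (ka xa12 ya40 za6) (ka xa26 ya2 za39) (ka xa12 ya40 za16)) (@D3.rec (fun _ => Pt) (ka xa12 ya40 za19) (ka xa30 ya7 za43) (ka xa12 ya40 za24) (ka xa12 ya40 za32) (ka xa12 ya40 za33) (ka xa12 ya40 za34) (ka xa12 ya40 za35) (ka xa28 ya11 za20) (ka xa20 ya53 za45) (ka xa24 ya51 za48) (ka xa20 ya53 za43) (ka xa12 ya41 za22) (ka xa12 ya41 za24) (ka xa12 ya41 za25) (ka xa27 ya42 za48) (ka xa12 ya41 za32) (ka xa12 ya41 za33) (ka xa12 ya41 za37) (ka xa12 ya41 za41) (ka xa12 ya41 za42) (ka xa30 ya7 za53) (ka xa12 ya41 za44) (ka xa12 ya41 za45) (ka xa12 ya41 za46) (ka xa28 ya42 za45) (ka xa12 ya41 za58) (ka xa27 ya42 za29) (ka xa12 ya42 za1) (ka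 xa26 ya18 za11) (ka xa12 ya42 za3) (ka xa12 ya42 za8) (ka xa12 ya42 za9) (ka xa12 ya42 za10) (ka xa12 ya42 za11) (ka xa16 ya7 za29) (ka xa12 ya42 za53) (ka xa12 ya42 za19) (ka xa12 ya42 za20) (ka xa12 ya42 za16) (ka xa21 ya54 za16) (ka xa27 ya36 za37) (ka xa21 ya11 za37) (ka xa23 ya47 za24) (ka xa30 ya4 za60) (ka xa12 ya43 za9) (ka xa12 ya43 za10) (ka xa12 ya43 za11) (ka xa12 ya43 za12) (ka xa26 ya59 za11) (ka xa12 ya43 za15) (ka xa30 ya8 za7) (ka xa12 ya43 za19) (ka xa21 ya57 za58) (ka xa21 ya10 za9) (ka xa14 ya14 za4) (ka xa12 ya40 za8) (ka xa12 ya42 za50) (ka xa30 ya7 za4) (ka xa29 ya59 za51) (ka xa12 ya40 za44) (ka xa12 ya37 za35) (ka xa20 ya53 za15)) (@D3.rec (fun _ => Pt) (ka xa27 ya55 za39) (ka xa29 ya29 za15) (ka xa14 ya12 za26) (ka xa27 ya54 za11) (ka xa17 ya45 za5) (ka xa12 ya41 za55) (ka xa12 ya43 za14) (ka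 xa12 ya37 za50) (ka xa12 ya37 za53) (ka xa12 ya37 za58) (ka xa12 ya37 za59) (ka xa14 ya35 za51) (ka xa26 ya22 za59) (ka xa20 ya34 za40) (ka xa17 ya0 za6) (ka xa18 ya36 za39) (ka xa27 ya10 za14) (ka xa14 ya27 za7) (ka xa13 ya17 za48) (ka xa12 ya46 za8) (ka xa29 ya30 za57) (ka xa26 ya27 za7) (ka xa14 ya16 za50) (ka xa26 ya12 za59) (ka xa29 ya50 za1) (ka xa27 ya23 za16) (ka xa29 ya30 za59) (ka xa15 ya59 za3) (ka xa15 ya59 za4) (ka xa21 ya42 za28) (ka xa29 ya22 za20) (ka xa12 ya45 za34) (ka xa12 ya45 za36) (ka xa12 ya45 za38) (ka xa12 ya45 za39) (ka xa12 ya45 za41) (ka xa21 ya0 za41) (ka xa12 ya45 za46) (ka xa12 ya45 za50) (ka xa12 ya45 za51) (ka xa12 ya44 za31) (ka xa12 ya45 za60) (ka xa12 ya45 za61) (ka xa12 ya38 za13) (ka xa12 ya46 za5) (ka xa25 ya19 za3) (ka xa12 ya46 za23) (ka xa12 ya46 za24) (ka xa12 ya46 za25) (ka xa12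 ya46 za26) (ka xa16 ya34 za50) (ka xa12 ya46 za33) (ka xa12 ya46 za34) (ka xa26 ya33 za3) (ka xa12 ya46 za46) (ka xa12 ya46 za47) (ka xa12 ya47 za4) (ka xa12 ya54 za4) (ka xa12 ya47 za25) (ka xa12 ya47 za29) (ka xa23 ya36 za33) (ka xa12 ya47 za6)) (@D3.rec (fun _ => Pt) (ka xa12 ya38 za45) (ka xa19 ya27 za58) (ka xa29 ya23 za18) (ka xa27 ya2 za58) (ka xa27 ya3 za17) (ka xa17 ya6 za29) (ka xa17 ya13 za48) (ka xa21 ya8 za3) (ka xa24 ya39 za10) (ka xa21 ya22 za3) (ka xa30 ya8 za21) (ka xa27 ya20 za50) (ka xa18 ya16 za3) (ka xa29 ya24 za28) (ka xa24 ya21 za10) (ka xa25 ya34 za45) (ka xa21 ya8 za24) (ka xa29 ya23 za2) (ka xa14 ya11 za56) (ka xa22 ya27 za7) (ka xa21 ya6 za14) (ka xa12 ya39 za2) (ka xa29 ya58 za52) (ka xa16 ya5 za4) (ka xa17 ya13 za52) (ka xa30 ya4 za38) (ka xa24 ya38 za17) (ka xa16 ya5 za23) (ka xa21 ya41 za27)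 (ka xa20 ya27 za45) (ka xa21 ya32 za36) (ka xa17 ya20 za57) (ka xa12 ya39 za24) (ka xa12 ya39 za26) (ka xa12 ya39 za29) (ka xa17 ya29 za0) (ka xa17 ya21 za8) (ka xa17 ya29 za7) (ka xa15 ya59 za16) (ka xa21 ya58 za47) (ka xa30 ya8 za30) (ka xa30 ya4 za8) (ka xa21 ya41 za30) (ka xa21 ya41 za31) (ka xa20 ya35 za17) (ka xa20 ya38 za5) (ka xa20 ya38 za6) (ka xa18 ya24 za53) (ka xa18 ya24 za61) (ka xa18 ya25 za0) (ka xa24 ya7 za7) (ka xa24 ya7 za8) (ka xa24 ya7 za9) (ka xa24 ya7 za10) (ka xa24 ya7 za11) (ka xa21 ya42 za42) (ka xa24 ya7 za32) (ka xa24 ya7 za33) (ka xa14 ya37 za22) (ka xa22 ya37 za5) (ka xa18 ya24 za18) (ka xa21 ya50 za0)) (@D3.rec (fun _ => Pt) (ka xa15 ya17 za21) (ka xa30 ya4 za58) (ka xa25 ya53 za61) (ka xa21 ya50 za9) (ka xa12 ya39 za53) (ka xa12 ya49 za42) (ka xa21 ya0 za56) (ka xa12 ya50 za55) (ka xa27 ya23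 za35) (ka xa21 ya50 za10) (ka xa27 ya23 za5) (ka xa27 ya23 za1) (ka xa27 ya11 za6) (ka xa16 ya1 za3) (ka xa12 ya52 za28) (ka xa28 ya1 za32) (ka xa30 ya8 za44) (ka xa16 ya1 za2) (ka xa19 ya35 za55) (ka xa20 ya12 za60) (ka xa21 ya23 za38) (ka xa17 ya21 za38) (ka xa25 ya7 za48) (ka xa25 ya7 za51) (ka xa21 ya46 za25) (ka xa21 ya46 za24) (ka xa25 ya57 za22) (ka xa27 ya19 za38) (ka xa25 ya55 za19) (ka xa29 ya59 za50) (ka xa30 ya7 za41) (ka xa21 ya19 za34) (ka xa25 ya44 za21) (ka xa26 ya2 za11) (ka xa16 ya1 za4) (ka xa25 ya31 za37) (ka xa16 ya0 za59) (ka xa21 ya18 za57) (ka xa24 ya42 za54) (ka xa22 ya8 za27) (ka xa21 ya56 za29) (ka xa27 ya19 za50) (ka xa12 ya40 za18) (ka xa12 ya41 za56) (ka xa21 ya18 za61) (ka xa21 ya18 za60) (ka xa12 ya40 za23) (ka xa21 ya19 za1) (ka xa21 ya8 za22) (ka xa29 ya58 za17) (ka xa30 ya7 za42) (ka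 xa30 ya0 za6) (ka xa12 ya40 za25) (ka xa21 ya46 za55) (ka xa14 ya56 za1) (ka xa21 ya46 za53) (ka xa12 ya40 za28) (ka xa12 ya40 za30) (ka xa29 ya32 za48) (ka xa23 ya23 za40) (ka xa24 ya40 za61) (ka xa23 ya24 za19)) (@D3.rec (fun _ => Pt) (ka xa17 ya36 za24) (ka xa30 ya7 za45) (ka xa30 ya7 za46) (ka xa24 ya58 za7) (ka xa25 ya41 za23) (ka xa12 ya40 za38) (ka xa17 ya7 za32) (ka xa12 ya40 za47) (ka xa12 ya40 za48) (ka xa17 ya58 za11) (ka xa29 ya22 za38) (ka xa29 ya33 za0) (ka xa20 ya45 za34) (ka xa29 ya22 za24) (ka xa23 ya53 za6) (ka xa23 ya47 za1) (ka xa18 ya0 za30) (ka xa24 ya21 za56) (ka xa12 ya41 za4) (ka xa12 ya41 za5) (ka xa12 ya41 za10) (ka xa12 ya41 za13) (ka xa12 ya41 za14) (ka xa12 ya41 za15) (ka xa18 ya35 za35) (ka xa28 ya10 za25) (ka xa20 ya17 za32) (ka xa20 ya46 za18) (ka xa21 ya55 za10) (ka xa21 ya21 za26) (ka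 xa29 ya41 za0) (ka xa29 ya23 za13) (ka xa25 ya47 za16) (ka xa19 ya14 za57) (ka xa20 ya53 za49) (ka xa23 ya13 za12) (ka xa21 ya7 za4) (ka xa30 ya9 za2) (ka xa22 ya22 za0) (ka xa29 ya2 za13) (ka xa20 ya43 za8) (ka xa22 ya21 za61) (ka xa30 ya9 za4) (ka xa24 ya2 za28) (ka xa24 ya2 za29) (ka xa22 ya37 za13) (ka xa18 ya26 za8) (ka xa24 ya2 za26) (ka xa12 ya41 za19) (ka xa24 ya19 za57) (ka xa20 ya13 za17) (ka xa24 ya2 za53) (ka xa24 ya2 za54) (ka xa24 ya2 za55) (ka xa24 ya2 za56) (ka xa24 ya2 za57) (ka xa21 ya50 za22) (ka xa14 ya34 za55) (ka xa27 ya43 za27) (ka xa21 ya50 za23) (ka xa29 ya43 za26) (ka xa25 ya50 za0)) (@D3.rec (fun _ => Pt) (ka xa30 ya7 za48) (ka xa30 ya9 za24) (ka xa19 ya46 za19) (ka xa25 ya13 za8) (ka xa25 ya13 za7) (ka xa20 ya53 za21) (ka xa17 ya6 za28) (ka xa26 ya11 za16) (ka xa26 ya40 za46) (ka xa16 ya9 za19)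 (ka xa28 ya19 za11) (ka xa21 ya21 za28) (ka xa21 ya21 za31) (ka xa21 ya21 za32) (ka xa21 ya21 za33) (ka xa26 ya4 za48) (ka xa21 ya21 za35) (ka xa21 ya21 za24) (ka xa21 ya21 za22) (ka xa21 ya21 za23) (ka xa21 ya21 za25) (ka xa21 ya21 za55) (ka xa26 ya4 za49) (ka xa19 ya31 za55) (ka xa27 ya53 za31) (ka xa30 ya9 za40) (ka xa21 ya50 za30) (ka xa18 ya2 za2) (ka xa23 ya13 za11) (ka xa20 ya53 za35) (ka xa19 ya10 za41) (ka xa24 ya33 za28) (ka xa30 ya9 za46) (ka xa21 ya50 za32) (ka xa21 ya50 za33) (ka xa15 ya48 za18) (ka xa30 ya9 za52) (ka xa27 ya20 za48) (ka xa30 ya7 za51) (ka xa23 ya41 za20) (ka xa30 ya9 za58) (ka xa12 ya41 za43) (ka xa30 ya9 za60) (ka xa30 ya9 za57) (ka xa27 ya20 za43) (ka xa19 ya46 za18) (ka xa30 ya7 za54) (ka xa30 ya7 za55) (ka xa25 ya6 za33) (ka xa25 ya8 za24) (ka xa29 ya12 za58) (ka xa30 ya6 za3) (ka xa19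 ya10 za51) (ka xa21 ya21 za49) (ka xa21 ya21 za50) (ka xa24 ya43 za42) (ka xa30 ya6 za7) (ka xa30 ya6 za5) (ka xa30 ya6 za4) (ka xa29 ya57 za42) (ka xa27 ya20 za44) (ka xa21 ya21 za48)) (@D3.rec (fun _ => Pt) (ka xa21 ya21 za44) (ka xa30 ya7 za57) (ka xa26 ya1 za31) (ka xa12 ya41 za60) (ka xa30 ya10 za23) (ka xa27 ya20 za49) (ka xa27 ya26 za57) (ka xa30 ya2 za29) (ka xa12 ya42 za0) (ka xa29 ya10 za25) (ka xa30 ya7 za58) (ka xa30 ya5 za17) (ka xa23 ya23 za17) (ka xa12 ya42 za2) (ka xa23 ya39 za30) (ka xa30 ya7 za59) (ka xa22 ya3 za1) (ka xa15 ya43 za52) (ka xa12 ya42 za6) (ka xa15 ya43 za54) (ka xa15 ya43 za53) (ka xa30 ya10 za35) (ka xa30 ya10 za36) (ka xa29 ya49 za54) (ka xa21 ya21 za56) (ka xa29 ya49 za52) (ka xa30 ya7 za60) (ka xa25 ya30 za38) (ka xa30 ya7 za61) (ka xa27 ya17 za58) (ka xa28 ya13 za20) (ka xa30 ya8 za0)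 (ka xa23 ya40 za7) (ka xa20 ya45 za20) (ka xa27 ya12 za13) (ka xa22 ya0 za28) (ka xa28 ya32 za46) (ka xa21 ya18 za5) (ka xa12 ya42 za31) (ka xa12 ya42 za35) (ka xa17 ya18 za18) (ka xa12 ya57 za14) (ka xa14 ya23 za60) (ka xa26 ya59 za15) (ka xa20 ya19 za34) (ka xa19 ya52 za51) (ka xa28 ya35 za60) (ka xa27 ya55 za56) (ka xa21 ya4 za45) (ka xa17 ya14 za2) (ka xa17 ya31 za16) (ka xa21 ya42 za12) (ka xa18 ya50 za44) (ka xa21 ya58 za44) (ka xa20 ya36 za14) (ka xa29 ya57 za7) (ka xa26 ya4 za11) (ka xa26 ya13 za8) (ka xa21 ya10 za1) (ka xa15 ya17 za17) (ka xa21 ya7 za53) (ka xa20 ya34 za56)) (@D3.rec (fun _ => Pt) (ka xa21 ya45 za61) (ka xa21 ya28 za33) (ka xa26 ya1 za53) (ka xa30 ya11 za5) (ka xa30 ya11 za7) (ka xa30 ya8 za36) (ka xa12 ya42 za52) (ka xa26 ya1 za2) (ka xa21 ya40 za0) (ka xa21 ya46 za3) (ka xa21 ya46 za9) (ka xa25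 ya54 za61) (ka xa21 ya56 za11) (ka xa21 ya9 za57) (ka xa17 ya51 za20) (ka xa20 ya16 za53) (ka xa18 ya1 za22) (ka xa18 ya1 za25) (ka xa27 ya37 za31) (ka xa26 ya59 za8) (ka xa20 ya51 za48) (ka xa27 ya41 za31) (ka xa21 ya47 za56) (ka xa21 ya47 za59) (ka xa28 ya57 za19) (ka xa30 ya8 za5) (ka xa20 ya50 za24) (ka xa16 ya18 za6) (ka xa16 ya17 za57) (ka xa23 ya1 za35) (ka xa21 ya48 za26) (ka xa26 ya44 za37) (ka xa21 ya48 za33) (ka xa21 ya48 za34) (ka xa23 ya41 za32) (ka xa12 ya43 za18) (ka xa23 ya27 za46) (ka xa27 ya44 za1) (ka xa30 ya8 za9) (ka xa22 ya31 za11) (ka xa25 ya51 za1) (ka xa20 ya40 za30) (ka xa21 ya19 za42) (ka xa20 ya27 za31) (ka xa12 ya57 za55) (ka xa25 ya45 za34) (ka xa16 ya8 za1) (ka xa12 ya44 za44) (ka xa26 ya50 za28) (ka xa27 ya36 za35) (ka xa28 ya36 za57) (ka xa26 ya5 za40) (ka xa24 ya51 za9) (ka xa18 ya1 za23)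 (ka xa26 ya59 za9) (ka xa25 ya15 za29) (ka xa26 ya59 za10) (ka xa17 ya2 za12) (ka xa26 ya59 za12) (ka xa22 ya3 za29) (ka xa29 ya17 za15) (ka xa22 ya2 za42)) (@D3.rec (fun _ => Pt) (ka xa26 ya59 za13) (ka xa25 ya44 za42) (ka xa12 ya44 za18) (ka xa12 ya44 za21) (ka xa12 ya44 za23) (ka xa12 ya44 za24) (ka xa12 ya44 za26) (ka xa18 ya50 za40) (ka xa12 ya44 za32) (ka xa12 ya44 za33) (ka xa12 ya44 za34) (ka xa12 ya44 za41) (ka xa12 ya44 za45) (ka xa12 ya44 za48) (ka xa12 ya44 za50) (ka xa12 ya44 za52) (ka xa21 ya12 za59) (ka xa12 ya44 za59) (ka xa17 ya13 za2) (ka xa12 ya47 za19) (ka xa20 ya16 za20) (ka xa20 ya26 za3) (ka xa26 ya59 za16) (ka xa20 ya51 za47) (ka xa26 ya59 za17) (ka xa26 ya3 za56) (ka xa20 ya18 za53) (ka xa26 ya27 za10) (ka xa21 ya38 za18) (ka xa23 ya47 za47) (ka xa26 ya27 za11) (ka xa20 ya1 za39) (ka xa23 ya47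 za51) (ka xa18 ya25 za23) (ka xa17 ya7 za33) (ka xa22 ya36 za45) (ka xa25 ya45 za43) (ka xa20 ya34 za55) (ka xa22 ya36 za49) (ka xa22 ya36 za48) (ka xa30 ya11 za31) (ka xa14 ya42 za43) (ka xa27 ya10 za39) (ka xa29 ya21 za12) (ka xa21 ya15 za16) (ka xa29 ya21 za41) (ka xa16 ya9 za28) (ka xa15 ya55 za60) (ka xa30 ya2 za36) (ka xa27 ya9 za31) (ka xa12 ya44 za37) (ka xa12 ya44 za39) (ka xa21 ya51 za55) (ka xa17 ya0 za5) (ka xa24 ya36 za0) (ka xa21 ya51 za52) (ka xa19 ya24 za20) (ka xa16 ya45 za15) (ka xa22 ya4 za10) (ka xa20 ya12 za48) (ka xa20 ya12 za49) (ka xa20 ya12 za50)) (@D3.rec (fun _ => Pt) (ka xa20 ya9 za29) (ka xa20 ya39 za61) (ka xa15 ya55 za38) (ka xa21 ya9 za25) (ka xa26 ya57 za28) (ka xa25 ya17 za8) (ka xa25 ya16 za60) (ka xa25 ya25 za26) (ka xa13 ya0 za58) (ka xa22 ya41 za20) (ka xa29 ya49 za9) (ka xa20 ya57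 za28) (ka xa20 ya57 za25) (ka xa29 ya22 za21) (ka xa14 ya31 za43) (ka xa21 ya20 za36) (ka xa20 ya23 za34) (ka xa18 ya5 za4) (ka xa18 ya5 za5) (ka xa12 ya52 za37) (ka xa29 ya22 za55) (ka xa20 ya34 za38) (ka xa17 ya7 za38) (ka xa14 ya20 za6) (ka xa20 ya46 za56) (ka xa27 ya21 za7) (ka xa17 ya29 za48) (ka xa20 ya48 za8) (ka xa20 ya48 za9) (ka xa20 ya48 za10) (ka xa20 ya44 za27) (ka xa14 ya37 za54) (ka xa14 ya37 za55) (ka xa14 ya37 za56) (ka xa14 ya28 za45) (ka xa20 ya24 za18) (ka xa14 ya37 za60) (ka xa14 ya37 za61) (ka xa27 ya21 za9) (ka xa14 ya38 za2) (ka xa14 ya30 za9) (ka xa14 ya38 za3) (ka xa30 ya11 za54) (ka xa14 ya38 za5) (ka xa14 ya38 za6) (ka xa14 ya38 za7) (ka xa14 ya38 za8) (ka xa14 ya38 za10) (ka xa14 ya37 za50) (ka xa14 ya37 za49) (ka xa14 ya13 za46) (ka xa24 ya3 za2) (ka xa27 ya10 za25) (ka xa27 ya8 za34) (ka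 xa20 ya27 za56) (ka xa30 ya8 za15) (ka xa30 ya8 za16) (ka xa28 ya18 za43) (ka xa27 ya48 za11) (ka xa22 ya47 za15) (ka xa21 ya41 za52) (ka xa23 ya6 za55)) (@D3.rec (fun _ => Pt) (ka xa14 ya24 za10) (ka xa22 ya38 za0) (ka xa16 ya23 za7) (ka xa16 ya23 za16) (ka xa16 ya23 za17) (ka xa14 ya59 za16) (ka xa29 ya24 za55) (ka xa14 ya36 za20) (ka xa14 ya36 za19) (ka xa14 ya13 za55) (ka xa12 ya57 za25) (ka xa14 ya36 za4) (ka xa14 ya36 za5) (ka xa14 ya36 za6) (ka xa14 ya36 za7) (ka xa14 ya36 za10) (ka xa14 ya36 za12) (ka xa14 ya36 za13) (ka xa14 ya36 za15) (ka xa14 ya36 za16) (ka xa19 ya31 za20) (ka xa25 ya18 za40) (ka xa21 ya18 za6) (ka xa22 ya35 za44) (ka xa24 ya18 za48) (ka xa28 ya33 za28) (ka xa28 ya33 za29) (ka xa17 ya0 za8) (ka xa18 ya50 za25) (ka xa27 ya22 za33) (ka xa25 ya17 za37) (ka xa21 ya15 za17) (ka xa26 ya17 za15) (ka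 xa21 ya54 za39) (ka xa16 ya31 za32) (ka xa26 ya32 za51) (ka xa20 ya0 za28) (ka xa23 ya18 za17) (ka xa16 ya33 za20) (ka xa20 ya27 za57) (ka xa29 ya19 za10) (ka xa17 ya37 za40) (ka xa12 ya56 za33) (ka xa21 ya54 za28) (ka xa14 ya44 za54) (ka xa21 ya28 za41) (ka xa28 ya0 za54) (ka xa16 ya13 za28) (ka xa12 ya53 za6) (ka xa18 ya17 za38) (ka xa22 ya4 za58) (ka xa12 ya56 za38) (ka xa21 ya15 za25) (ka xa21 ya28 za49) (ka xa26 ya33 za4) (ka xa23 ya20 za37) (ka xa21 ya30 za50) (ka xa18 ya54 za39) (ka xa26 ya28 za15) (ka xa27 ya5 za18) (ka xa26 ya53 za18) (ka xa16 ya24 za47)) (@D3.rec (fun _ => Pt) (ka xa26 ya28 za6) (ka xa12 ya53 za9) (ka xa16 ya24 za51) (ka xa26 ya28 za7) (ka xa18 ya2 za33) (ka xa30 ya2 za38) (ka xa23 ya47 za29) (ka xa27 ya12 za14) (ka xa29 ya35 za26) (ka xa26 ya59 za30) (ka xa12 ya51 za3) (ka xa14 ya52 za60) (ka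 xa14 ya41 za31) (ka xa22 ya15 za59) (ka xa28 ya37 za38) (ka xa19 ya12 za48) (ka xa21 ya43 za39) (ka xa22 ya6 za17) (ka xa29 ya57 za27) (ka xa29 ya57 za25) (ka xa19 ya7 za8) (ka xa19 ya7 za12) (ka xa29 ya7 za10) (ka xa28 ya43 za35) (ka xa15 ya48 za9) (ka xa17 ya53 za29) (ka xa19 ya31 za18) (ka xa13 ya22 za18) (ka xa21 ya53 za43) (ka xa20 ya17 za27) (ka xa20 ya15 za30) (ka xa12 ya47 za9) (ka xa27 ya5 za56) (ka xa18 ya48 za38) (ka xa18 ya50 za41) (ka xa18 ya35 za4) (ka xa18 ya50 za10) (ka xa14 ya50 za19) (ka xa21 ya11 za41) (ka xa21 ya53 za33) (ka xa26 ya28 za46) (ka xa18 ya41 za13) (ka xa21 ya32 za16) (ka xa12 ya47 za22) (ka xa27 ya45 za20) (ka xa30 ya8 za17) (ka xa12 ya47 za30) (ka xa12 ya47 za31) (ka xa12 ya47 za32) (ka xa12 ya47 za34) (ka xa12 ya47 za35) (ka xa12 ya54 za6) (ka xa24 ya25 za41) (ka xa19 ya43 za25) (ka xa27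 ya30 za30) (ka xa27 ya30 za28) (ka xa29 ya27 za44) (ka xa27 ya22 za11) (ka xa21 ya7 za5) (ka xa21 ya7 za3) (ka xa27 ya20 za33) (ka xa22 ya38 za55)) (@D3.rec (fun _ => Pt) (ka xa23 ya19 za46) (ka xa12 ya47 za36) (ka xa26 ya4 za6) (ka xa30 ya12 za38) (ka xa18 ya37 za7) (ka xa18 ya37 za8) (ka xa22 ya44 za25) (ka xa23 ya10 za55) (ka xa26 ya59 za54) (ka xa14 ya21 za31) (ka xa21 ya47 za28) (ka xa18 ya1 za2) (ka xa14 ya46 za60) (ka xa19 ya6 za45) (ka xa19 ya6 za46) (ka xa15 ya32 za0) (ka xa26 ya3 za51) (ka xa24 ya41 za13) (ka xa22 ya30 za12) (ka xa21 ya28 za10) (ka xa13 ya59 za45) (ka xa12 ya47 za61) (ka xa30 ya12 za49) (ka xa14 ya55 za35) (ka xa13 ya24 za45) (ka xa23 ya37 za21) (ka xa22 ya45 za16) (ka xa30 ya3 za56) (ka xa30 ya12 za54) (ka xa22 ya16 za54) (ka xa21 ya24 za30) (ka xa21 ya24 za29) (ka xa21 ya3 za57) (ka xa21 ya6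 za34) (ka xa12 ya48 za9) (ka xa28 ya3 za52) (ka xa21 ya6 za33) (ka xa21 ya6 za29) (ka xa12 ya48 za11) (ka xa27 ya56 za59) (ka xa21 ya6 za23) (ka xa30 ya2 za25) (ka xa22 ya45 za21) (ka xa21 ya6 za19) (ka xa25 ya2 za25) (ka xa30 ya13 za0) (ka xa22 ya45 za22) (ka xa21 ya6 za18) (ka xa12 ya48 za16) (ka xa23 ya44 za15) (ka xa30 ya4 za19) (ka xa21 ya6 za46) (ka xa21 ya6 za47) (ka xa21 ya6 za48) (ka xa23 ya21 za33) (ka xa28 ya12 za25) (ka xa29 ya52 za10) (ka xa22 ya31 za50) (ka xa29 ya11 za12) (ka xa14 ya56 za8) (ka xa24 ya41 za46) (ka xa22 ya31 za49)) (@D3.rec (fun _ => Pt) (ka xa12 ya48 za23) (ka xa12 ya48 za24) (ka xa23 ya21 za13) (ka xa23 ya21 za12) (ka xa30 ya13 za14) (ka xa25 ya37 za3) (ka xa19 ya16 za35) (ka xa23 ya20 za52) (ka xa23 ya20 za54) (ka xa23 ya21 za10) (ka xa23 ya21 za11) (ka xa21 ya50 za12) (ka xa21 ya18 za59)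 (ka xa23 ya18 za0) (ka xa24 ya41 za31) (ka xa16 ya17 za3) (ka xa12 ya48 za31) (ka xa23 ya21 za6) (ka xa28 ya49 za36) (ka xa23 ya21 za2) (ka xa23 ya21 za5) (ka xa14 ya39 za20) (ka xa23 ya21 za16) (ka xa14 ya37 za31) (ka xa25 ya39 za27) (ka xa25 ya2 za42) (ka xa21 ya19 za35) (ka xa20 ya16 za8) (ka xa13 ya37 za43) (ka xa21 ya46 za40) (ka xa20 ya16 za6) (ka xa23 ya44 za33) (ka xa19 ya5 za49) (ka xa29 ya49 za36) (ka xa29 ya52 za13) (ka xa15 ya45 za24) (ka xa16 ya41 za53) (ka xa12 ya48 za45) (ka xa13 ya59 za48) (ka xa29 ya11 za22) (ka xa29 ya52 za16) (ka xa29 ya11 za21) (ka xa28 ya55 za27) (ka xa29 ya52 za18) (ka xa29 ya52 za17) (ka xa23 ya15 za54) (ka xa17 ya28 za15) (ka xa23 ya37 za22) (ka xa13 ya5 za9) (ka xa12 ya48 za47) (ka xa30 ya13 za48) (ka xa23 ya37 za29) (ka xa22 ya31 za20) (ka xa22 ya31 za21) (ka xa22 ya31 za12) (ka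 xa22 ya31 za22) (ka xa26 ya48 za11) (ka xa22 ya31 za53) (ka xa22 ya31 za54) (ka xa22 ya31 za55) (ka xa22 ya31 za56) (ka xa23 ya15 za55)) (@D3.rec (fun _ => Pt) (ka xa13 ya24 za10) (ka xa13 ya24 za11) (ka xa13 ya24 za12) (ka xa22 ya31 za43) (ka xa22 ya58 za17) (ka xa29 ya12 za22) (ka xa22 ya31 za44) (ka xa22 ya45 za56) (ka xa30 ya7 za26) (ka xa17 ya22 za21) (ka xa17 ya22 za42) (ka xa29 ya15 za61) (ka xa12 ya49 za57) (ka xa12 ya50 za3) (ka xa12 ya50 za17) (ka xa17 ya43 za52) (ka xa27 ya27 za4) (ka xa12 ya49 za6) (ka xa29 ya59 za57) (ka xa12 ya50 za27) (ka xa12 ya50 za28) (ka xa12 ya50 za29) (ka xa21 ya40 za29) (ka xa23 ya34 za31) (ka xa29 ya2 za51) (ka xa21 ya37 za37) (ka xa20 ya54 za24) (ka xa12 ya49 za15) (ka xa12 ya49 za16) (ka xa12 ya49 za17) (ka xa21 ya40 za35) (ka xa21 ya22 za50) (ka xa20 ya2 za5) (ka xa30 ya7 za40)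 (ka xa19 ya39 za6) (ka xa30 ya14 za9) (ka xa29 ya43 za45) (ka xa20 ya26 za30) (ka xa18 ya56 za27) (ka xa16 ya5 za58) (ka xa20 ya49 za57) (ka xa20 ya49 za56) (ka xa29 ya17 za0) (ka xa21 ya31 za49) (ka xa21 ya18 za35) (ka xa21 ya3 za1) (ka xa12 ya49 za32) (ka xa29 ya19 za35) (ka xa25 ya23 za29) (ka xa23 ya26 za21) (ka xa24 ya47 za37) (ka xa23 ya26 za24) (ka xa23 ya26 za25) (ka xa26 ya43 za53) (ka xa20 ya3 za17) (ka xa21 ya0 za9) (ka xa29 ya15 za58) (ka xa24 ya36 za34) (ka xa21 ya43 za52) (ka xa28 ya56 za28) (ka xa25 ya23 za43) (ka xa16 ya48 za6)) (@D3.rec (fun _ => Pt) (ka xa18 ya24 za9) (ka xa17 ya13 za18) (ka xa15 ya21 za50) (ka xa21 ya17 za8) (ka xa19 ya49 za43) (ka xa27 ya19 za30) (ka xa20 ya39 za4) (ka xa15 ya39 za32) (ka xa15 ya34 za12) (ka xa17 ya29 za16) (ka xa27 ya20 za5) (ka xa12 ya49 za56) (ka xa29 ya56 za20)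 (ka xa19 ya38 za45) (ka xa17 ya37 za10) (ka xa29 ya17 za50) (ka xa27 ya30 za38) (ka xa21 ya33 za61) (ka xa29 ya50 za31) (ka xa21 ya34 za0) (ka xa21 ya34 za2) (ka xa25 ya15 za36) (ka xa21 ya38 za24) (ka xa30 ya14 za18) (ka xa30 ya14 za20) (ka xa16 ya17 za17) (ka xa16 ya17 za18) (ka xa16 ya17 za16) (ka xa16 ya17 za24) (ka xa30 ya4 za12) (ka xa23 ya22 za35) (ka xa12 ya50 za18) (ka xa17 ya44 za14) (ka xa15 ya46 za29) (ka xa17 ya30 za33) (ka xa12 ya50 za25) (ka xa26 ya2 za49) (ka xa26 ya10 za50) (ka xa24 ya18 za31) (ka xa12 ya50 za22) (ka xa30 ya11 za2) (ka xa12 ya50 za24) (ka xa27 ya27 za21) (ka xa27 ya45 za8) (ka xa21 ya49 za53) (ka xa27 ya3 za57) (ka xa29 ya17 za25) (ka xa21 ya45 za39) (ka xa22 ya11 za43) (ka xa30 ya14 za7) (ka xa28 ya57 za57) (ka xa27 ya25 za30) (ka xa19 ya29 za41) (ka xa30 ya14 za17) (ka xa30 ya0 za2)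 (ka xa25 ya31 za36) (ka xa25 ya29 za16) (ka xa12 ya50 za36) (ka xa12 ya52 za19) (ka xa21 ya22 za30) (ka xa12 ya50 za38) (ka xa29 ya22 za46)) (@D3.rec (fun _ => Pt) (ka xa27 ya19 za55) (ka xa21 ya23 za40) (ka xa27 ya19 za54) (ka xa21 ya23 za39) (ka xa27 ya48 za33) (ka xa22 ya10 za24) (ka xa27 ya19 za52) (ka xa27 ya5 za57) (ka xa25 ya18 za57) (ka xa21 ya23 za14) (ka xa12 ya50 za49) (ka xa12 ya50 za50) (ka xa21 ya23 za25) (ka xa20 ya4 za4) (ka xa24 ya20 za6) (ka xa21 ya23 za18) (ka xa29 ya23 za3) (ka xa12 ya51 za7) (ka xa12 ya51 za8) (ka xa30 ya8 za38) (ka xa12 ya50 za56) (ka xa12 ya50 za57) (ka xa21 ya19 za48) (ka xa29 ya46 za41) (ka xa27 ya23 za7) (ka xa27 ya25 za5) (ka xa29 ya52 za37) (ka xa23 ya50 za23) (ka xa12 ya50 za61) (ka xa13 ya2 za27) (ka xa12 ya51 za0) (ka xa17 ya31 za2) (ka xa21 ya23 za29) (ka xa12 ya50 za60)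 (ka xa27 ya23 za36) (ka xa30 ya14 za38) (ka xa17 ya14 za33) (ka xa27 ya10 za23) (ka xa16 ya18 za2) (ka xa26 ya14 za51) (ka xa12 ya51 za4) (ka xa12 ya51 za5) (ka xa12 ya51 za6) (ka xa26 ya10 za35) (ka xa30 ya14 za41) (ka xa14 ya36 za21) (ka xa22 ya16 za37) (ka xa29 ya40 za50) (ka xa15 ya24 za15) (ka xa26 ya5 za28) (ka xa17 ya35 za22) (ka xa17 ya35 za21) (ka xa12 ya51 za9) (ka xa27 ya57 za15) (ka xa30 ya14 za43) (ka xa19 ya22 za13) (ka xa22 ya19 za58) (ka xa14 ya13 za41) (ka xa27 ya10 za35) (ka xa27 ya17 za8) (ka xa27 ya17 za7) (ka xa24 ya25 za24))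
def f_a_22 : D2 → D3 → Pt := @D2.rec (fun _ => D3 → Pt) (@D3.rec (fun _ => Pt) (ka xa12 ya51 za43) (ka xa12 ya51 za44) (ka xa12 ya51 za46) (ka xa12 ya51 za53) (ka xa12 ya51 za54) (ka xa14 ya13 za44) (ka xa12 ya51 za56) (ka xa12 ya51 za60) (ka xa12 ya51 za61) (ka xa12 ya52 za0) (ka xa12 ya52 za1) (ka xa28 ya18 za21) (ka xa12 ya52 za3) (ka xa25 ya31 za31) (ka xa12 ya52 za15) (ka xa12 ya52 za17) (ka xa25 ya53 za33) (ka xa12 ya52 za25) (ka xa27 ya17 za14) (ka xa27 ya17 za13) (ka xa12 ya51 za29) (ka xa30 ya15 za6) (ka xa12 ya52 za33) (ka xa12 ya52 za34) (ka xa14 ya16 za9) (ka xa14 ya16 za10) (ka xa14 ya16 za16) (ka xa14 ya16 za17) (ka xa21 ya49 za35) (ka xa14 ya16 za18) (ka xa14 ya16 za19) (ka xa14 ya16 za20) (ka xa14 ya16 za21) (ka xa14 ya16 za22) (ka xa14 ya16 za23) (ka xa17 ya11 za45) (ka xa17 ya11 za53) (ka xa17 ya24 za12)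 (ka xa14 ya10 za42) (ka xa13 ya34 za46) (ka xa14 ya32 za39) (ka xa14 ya43 za59) (ka xa14 ya43 za60) (ka xa14 ya43 za61) (ka xa30 ya14 za49) (ka xa30 ya14 za50) (ka xa14 ya22 za55) (ka xa30 ya14 za51) (ka xa30 ya7 za3) (ka xa24 ya25 za32) (ka xa30 ya14 za52) (ka xa13 ya12 za5) (ka xa28 ya18 za31) (ka xa28 ya24 za15) (ka xa24 ya26 za19) (ka xa24 ya30 za10) (ka xa24 ya30 za9) (ka xa22 ya19 za1) (ka xa27 ya10 za33) (ka xa19 ya25 za34) (ka xa27 ya3 za9) (ka xa17 ya26 za31)) (@D3.rec (fun _ => Pt) (ka xa17 ya26 za34) (ka xa27 ya8 za38) (ka xa27 ya8 za36) (ka xa27 ya8 za37) (ka xa27 ya8 za39) (ka xa29 ya33 za52) (ka xa29 ya33 za23) (ka xa30 ya14 za53) (ka xa30 ya14 za54) (ka xa28 ya53 za46) (ka xa29 ya2 za5) (ka xa22 ya19 za12) (ka xa29 ya41 za6) (ka xa24 ya21 za48) (ka xa17 ya26 za26) (ka xa17 ya26 za29) (ka xa30 ya14 za56)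 (ka xa28 ya18 za28) (ka xa12 ya51 za59) (ka xa22 ya25 za45) (ka xa26 ya35 za1) (ka xa25 ya7 za59) (ka xa30 ya14 za57) (ka xa30 ya14 za58) (ka xa28 ya48 za61) (ka xa22 ya25 za50) (ka xa29 ya34 za14) (ka xa30 ya14 za25) (ka xa28 ya18 za30) (ka xa29 ya46 za50) (ka xa30 ya14 za59) (ka xa22 ya24 za60) (ka xa30 ya16 za12) (ka xa30 ya16 za16) (ka xa12 ya52 za2) (ka xa30 ya16 za18) (ka xa30 ya16 za11) (ka xa30 ya15 za1) (ka xa27 ya17 za10) (ka xa27 ya17 za11) (ka xa27 ya17 za12) (ka xa29 ya33 za60) (ka xa29 ya32 za29) (ka xa29 ya46 za48) (ka xa27 ya16 za1) (ka xa27 ya16 za0) (ka xa24 ya25 za50) (ka xa27 ya14 za37) (ka xa23 ya36 za8) (ka xa24 ya42 za41) (ka xa12 ya52 za9) (ka xa24 ya2 za60) (ka xa30 ya6 za39) (ka xa27 ya17 za3) (ka xa17 ya29 za8) (ka xa20 ya17 za53) (ka xa25 ya29 za36) (ka xa15 ya59 za25) (ka xa25 ya29 za3) (ka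 xa17 ya27 za31) (ka xa17 ya27 za29) (ka xa28 ya50 za35)) (@D3.rec (fun _ => Pt) (ka xa15 ya46 za40) (ka xa23 ya23 za39) (ka xa23 ya24 za21) (ka xa12 ya52 za18) (ka xa30 ya16 za42) (ka xa15 ya37 za19) (ka xa20 ya43 za15) (ka xa25 ya54 za54) (ka xa25 ya56 za49) (ka xa15 ya33 za23) (ka xa17 ya27 za27) (ka xa17 ya27 za24) (ka xa12 ya52 za31) (ka xa27 ya17 za60) (ka xa29 ya51 za51) (ka xa28 ya58 za59) (ka xa12 ya52 za30) (ka xa30 ya16 za51) (ka xa29 ya23 za30) (ka xa15 ya17 za13) (ka xa15 ya17 za11) (ka xa26 ya23 za55) (ka xa19 ya46 za0) (ka xa19 ya44 za40) (ka xa29 ya17 za7) (ka xa30 ya16 za56) (ka xa25 ya59 za21) (ka xa21 ya32 za11) (ka xa21 ya32 za8) (ka xa17 ya29 za36) (ka xa12 ya52 za38) (ka xa29 ya23 za26) (ka xa27 ya20 za47) (ka xa20 ya6 za55) (ka xa27 ya20 za46) (ka xa22 ya3 za41) (ka xa22 ya3 za33) (ka xa12 ya52 za42)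 (ka xa20 ya51 za8) (ka xa27 ya20 za40) (ka xa17 ya59 za32) (ka xa23 ya23 za32) (ka xa21 ya50 za61) (ka xa20 ya51 za15) (ka xa21 ya9 za23) (ka xa24 ya35 za56) (ka xa21 ya39 za15) (ka xa19 ya34 za55) (ka xa26 ya5 za38) (ka xa13 ya37 za6) (ka xa21 ya24 za55) (ka xa25 ya57 za31) (ka xa12 ya52 za54) (ka xa12 ya52 za55) (ka xa12 ya52 za56) (ka xa21 ya25 za22) (ka xa21 ya32 za49) (ka xa26 ya15 za13) (ka xa12 ya52 za60) (ka xa30 ya16 za41) (ka xa25 ya24 za51) (ka xa12 ya53 za2)) (@D3.rec (fun _ => Pt) (ka xa21 ya24 za45) (ka xa21 ya49 za16) (ka xa15 ya59 za28) (ka xa26 ya41 za35) (ka xa12 ya53 za5) (ka xa12 ya53 za7) (ka xa25 ya31 za12) (ka xa13 ya42 za47) (ka xa25 ya17 za9) (ka xa23 ya10 za48) (ka xa30 ya17 za6) (ka xa23 ya10 za46) (ka xa18 ya22 za33) (ka xa20 ya13 za6) (ka xa14 ya36 za25) (ka xa12 ya54 za26) (ka xa16 ya57 za51)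 (ka xa29 ya22 za45) (ka xa26 ya38 za4) (ka xa20 ya5 za3) (ka xa18 ya25 za5) (ka xa21 ya35 za17) (ka xa17 ya59 za26) (ka xa26 ya58 za54) (ka xa26 ya58 za55) (ka xa26 ya58 za57) (ka xa20 ya53 za54) (ka xa20 ya53 za58) (ka xa27 ya43 za25) (ka xa21 ya50 za59) (ka xa17 ya3 za55) (ka xa20 ya54 za0) (ka xa25 ya31 za55) (ka xa22 ya2 za36) (ka xa26 ya58 za58) (ka xa21 ya23 za43) (ka xa17 ya59 za30) (ka xa22 ya37 za1) (ka xa25 ya31 za7) (ka xa26 ya59 za1) (ka xa26 ya59 za2) (ka xa22 ya2 za35) (ka xa21 ya42 za18) (ka xa12 ya54 za7) (ka xa12 ya54 za8) (ka xa12 ya54 za25) (ka xa19 ya1 za10) (ka xa18 ya41 za37) (ka xa26 ya5 za60) (ka xa29 ya21 za55) (ka xa15 ya56 za40) (ka xa20 ya56 za0) (ka xa22 ya4 za13) (ka xa26 ya42 za18) (ka xa26 ya7 za55) (ka xa22 ya4 za12) (ka xa26 ya34 za48) (ka xa20 ya55 za41) (ka xa19 ya1 za7) (ka xa19 ya1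 za8) (ka xa19 ya1 za9) (ka xa19 ya1 za6)) (@D3.rec (fun _ => Pt) (ka xa20 ya57 za26) (ka xa16 ya41 za45) (ka xa28 ya0 za22) (ka xa16 ya40 za30) (ka xa19 ya40 za45) (ka xa15 ya48 za34) (ka xa16 ya47 za37) (ka xa24 ya29 za37) (ka xa26 ya46 za13) (ka xa22 ya9 za61) (ka xa21 ya51 za58) (ka xa26 ya1 za56) (ka xa22 ya3 za55) (ka xa22 ya3 za52) (ka xa29 ya45 za8) (ka xa26 ya35 za36) (ka xa26 ya37 za52) (ka xa19 ya14 za18) (ka xa26 ya46 za8) (ka xa26 ya7 za53) (ka xa29 ya49 za2) (ka xa29 ya49 za5) (ka xa29 ya49 za6) (ka xa29 ya49 za7) (ka xa29 ya49 za8) (ka xa14 ya56 za17) (ka xa14 ya55 za54) (ka xa18 ya40 za5) (ka xa12 ya54 za55) (ka xa12 ya54 za56) (ka xa12 ya54 za57) (ka xa25 ya42 za27) (ka xa12 ya58 za0) (ka xa15 ya29 za40) (ka xa22 ya5 za25) (ka xa16 ya6 za24) (ka xa22 ya5 za24) (ka xa27 ya22 za13) (ka xa26 ya8 za20) (ka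 xa27 ya22 za10) (ka xa30 ya17 za40) (ka xa15 ya42 za24) (ka xa25 ya41 za5) (ka xa30 ya17 za41) (ka xa20 ya18 za55) (ka xa18 ya48 za41) (ka xa24 ya19 za2) (ka xa15 ya51 za15) (ka xa29 ya21 za9) (ka xa25 ya27 za18) (ka xa13 ya1 za24) (ka xa12 ya55 za4) (ka xa21 ya1 za35) (ka xa21 ya1 za36) (ka xa17 ya15 za53) (ka xa16 ya14 za14) (ka xa22 ya5 za55) (ka xa15 ya24 za48) (ka xa21 ya53 za50) (ka xa30 ya17 za51) (ka xa24 ya33 za9) (ka xa21 ya9 za33)) (@D3.rec (fun _ => Pt) (ka xa27 ya22 za15) (ka xa27 ya56 za37) (ka xa20 ya12 za17) (ka xa12 ya55 za14) (ka xa21 ya24 za54) (ka xa26 ya1 za26) (ka xa27 ya21 za35) (ka xa19 ya59 za54) (ka xa21 ya9 za36) (ka xa15 ya25 za30) (ka xa12 ya55 za18) (ka xa15 ya56 za31) (ka xa26 ya48 za59) (ka xa27 ya21 za58) (ka xa24 ya53 za29) (ka xa28 ya22 za1) (ka xa19 ya43 za40) (ka xa19 ya34 za4) (ka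 xa19 ya33 za27) (ka xa15 ya24 za17) (ka xa15 ya25 za0) (ka xa15 ya25 za1) (ka xa27 ya22 za17) (ka xa26 ya8 za14) (ka xa22 ya4 za36) (ka xa22 ya4 za34) (ka xa29 ya48 za53) (ka xa29 ya48 za54) (ka xa12 ya55 za41) (ka xa17 ya36 za8) (ka xa30 ya18 za2) (ka xa25 ya25 za20) (ka xa24 ya33 za54) (ka xa27 ya37 za37) (ka xa24 ya32 za57) (ka xa12 ya55 za49) (ka xa30 ya17 za49) (ka xa16 ya49 za12) (ka xa29 ya8 za15) (ka xa19 ya27 za48) (ka xa19 ya40 za36) (ka xa23 ya13 za0) (ka xa25 ya52 za30) (ka xa24 ya57 za58) (ka xa25 ya52 za26) (ka xa27 ya22 za21) (ka xa12 ya56 za15) (ka xa15 ya25 za37) (ka xa12 ya56 za4) (ka xa24 ya58 za1) (ka xa12 ya56 za3) (ka xa27 ya24 za11) (ka xa24 ya31 za6) (ka xa17 ya51 za44) (ka xa30 ya18 za8) (ka xa22 ya4 za56) (ka xa14 ya4 za14) (ka xa18 ya35 za0) (ka xa12 ya56 za8) (ka xa18 ya35 za1) (ka xa12 ya56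 za7) (ka xa14 ya47 za15)) (@D3.rec (fun _ => Pt) (ka xa20 ya17 za45) (ka xa29 ya40 za36) (ka xa21 ya22 za29) (ka xa12 ya56 za13) (ka xa25 ya39 za55) (ka xa30 ya18 za14) (ka xa20 ya54 za10) (ka xa20 ya54 za9) (ka xa13 ya1 za1) (ka xa13 ya2 za13) (ka xa20 ya9 za13) (ka xa13 ya2 za26) (ka xa12 ya56 za28) (ka xa30 ya12 za17) (ka xa19 ya11 za42) (ka xa24 ya23 za24) (ka xa16 ya43 za49) (ka xa21 ya54 za17) (ka xa29 ya12 za43) (ka xa27 ya48 za17) (ka xa27 ya22 za60) (ka xa12 ya56 za40) (ka xa12 ya56 za41) (ka xa28 ya44 za58) (ka xa30 ya7 za39) (ka xa28 ya45 za45) (ka xa19 ya48 za43) (ka xa21 ya9 za39) (ka xa12 ya56 za48) (ka xa20 ya50 za46) (ka xa21 ya9 za0) (ka xa12 ya56 za55) (ka xa30 ya18 za22) (ka xa28 ya13 za56) (ka xa22 ya54 za30) (ka xa12 ya57 za20) (ka xa12 ya57 za21) (ka xa12 ya57 za22) (ka xa12 ya57 za23) (ka xa12 ya57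 za27) (ka xa27 ya22 za39) (ka xa12 ya57 za5) (ka xa12 ya57 za6) (ka xa12 ya57 za9) (ka xa27 ya54 za54) (ka xa27 ya22 za42) (ka xa27 ya22 za41) (ka xa15 ya33 za6) (ka xa22 ya48 za10) (ka xa26 ya24 za34) (ka xa30 ya18 za28) (ka xa30 ya18 za29) (ka xa22 ya54 za9) (ka xa18 ya23 za15) (ka xa16 ya58 za15) (ka xa16 ya58 za13) (ka xa30 ya18 za30) (ka xa12 ya57 za10) (ka xa14 ya26 za13) (ka xa30 ya18 za42) (ka xa27 ya22 za44) (ka xa22 ya47 za2)) (@D3.rec (fun _ => Pt) (ka xa26 ya45 za13) (ka xa30 ya11 za0) (ka xa30 ya18 za47) (ka xa17 ya26 za17) (ka xa29 ya37 za40) (ka xa17 ya27 za2) (ka xa25 ya6 za56) (ka xa14 ya26 za32) (ka xa25 ya25 za12) (ka xa30 ya18 za23) (ka xa22 ya20 za54) (ka xa27 ya6 za47) (ka xa30 ya18 za24) (ka xa29 ya48 za24) (ka xa30 ya18 za25) (ka xa30 ya18 za26) (ka xa14 ya16 za59) (ka xa20 ya42 za42) (ka xa17 ya17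 za30) (ka xa17 ya17 za31) (ka xa17 ya17 za41) (ka xa30 ya19 za14) (ka xa23 ya53 za5) (ka xa18 ya11 za57) (ka xa19 ya9 za2) (ka xa15 ya57 za56) (ka xa16 ya1 za53) (ka xa16 ya1 za54) (ka xa15 ya47 za11) (ka xa24 ya15 za39) (ka xa21 ya38 za45) (ka xa15 ya32 za49) (ka xa12 ya57 za53) (ka xa12 ya57 za58) (ka xa25 ya20 za22) (ka xa24 ya50 za44) (ka xa29 ya47 za28) (ka xa15 ya29 za16) (ka xa15 ya29 za17) (ka xa27 ya22 za51) (ka xa25 ya22 za1) (ka xa25 ya21 za35) (ka xa27 ya29 za34) (ka xa19 ya40 za30) (ka xa12 ya57 za52) (ka xa23 ya58 za39) (ka xa20 ya41 za55) (ka xa20 ya41 za56) (ka xa16 ya58 za30) (ka xa19 ya47 za18) (ka xa30 ya19 za20) (ka xa25 ya52 za32) (ka xa25 ya52 za31) (ka xa21 ya9 za50) (ka xa23 ya30 za46) (ka xa17 ya20 za2) (ka xa14 ya35 za26) (ka xa20 ya24 za21) (ka xa20 ya24 za24) (ka xa27 ya9 za13) (ka xa24 ya12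 za33) (ka xa19 ya43 za61)) (@D3.rec (fun _ => Pt) (ka xa16 ya46 za23) (ka xa20 ya9 za17) (ka xa21 ya7 za8) (ka xa12 ya58 za45) (ka xa19 ya25 za7) (ka xa19 ya24 za49) (ka xa16 ya14 za59) (ka xa22 ya11 za25) (ka xa17 ya38 za44) (ka xa17 ya16 za10) (ka xa17 ya16 za6) (ka xa19 ya24 za50) (ka xa17 ya45 za28) (ka xa17 ya45 za29) (ka xa15 ya49 za54) (ka xa19 ya36 za5) (ka xa29 ya17 za24) (ka xa21 ya39 za13) (ka xa21 ya26 za12) (ka xa17 ya42 za45) (ka xa16 ya6 za58) (ka xa29 ya12 za45) (ka xa22 ya10 za51) (ka xa12 ya58 za28) (ka xa30 ya3 za42) (ka xa22 ya11 za0) (ka xa22 ya8 za40) (ka xa21 ya46 za39) (ka xa21 ya41 za5) (ka xa21 ya7 za7) (ka xa17 ya14 za37) (ka xa18 ya7 za22) (ka xa18 ya7 za21) (ka xa21 ya41 za40) (ka xa21 ya41 za41) (ka xa20 ya51 za28) (ka xa20 ya51 za26) (ka xa13 ya52 za53) (ka xa14 ya53 za54) (ka xa12 ya58 za48)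 (ka xa22 ya8 za26) (ka xa18 ya8 za32) (ka xa18 ya8 za29) (ka xa15 ya12 za1) (ka xa22 ya14 za48) (ka xa12 ya58 za53) (ka xa29 ya17 za28) (ka xa21 ya31 za24) (ka xa21 ya31 za23) (ka xa24 ya44 za43) (ka xa21 ya4 za35) (ka xa21 ya25 za11) (ka xa23 ya34 za17) (ka xa23 ya21 za60) (ka xa23 ya21 za61) (ka xa23 ya22 za1) (ka xa27 ya23 za17) (ka xa21 ya28 za21) (ka xa28 ya10 za15) (ka xa27 ya23 za18) (ka xa12 ya59 za3) (ka xa21 ya27 za26)) (@D3.rec (fun _ => Pt) (ka xa21 ya26 za47) (ka xa23 ya22 za19) (ka xa18 ya29 za35) (ka xa21 ya34 za59) (ka xa21 ya5 za19) (ka xa21 ya5 za18) (ka xa12 ya59 za6) (ka xa22 ya55 za9) (ka xa24 ya58 za5) (ka xa21 ya5 za11) (ka xa21 ya5 za14) (ka xa21 ya5 za23) (ka xa21 ya5 za22) (ka xa25 ya35 za31) (ka xa15 ya40 za47) (ka xa15 ya8 za61) (ka xa27 ya25 za27) (ka xa21 ya5 za29) (ka xa12 ya59 za15) (ka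 xa12 ya59 za16) (ka xa21 ya5 za32) (ka xa21 ya5 za31) (ka xa30 ya19 za51) (ka xa30 ya19 za52) (ka xa29 ya0 za17) (ka xa27 ya11 za33) (ka xa25 ya59 za53) (ka xa15 ya59 za10) (ka xa21 ya5 za38) (ka xa21 ya5 za37) (ka xa21 ya5 za46) (ka xa12 ya59 za23) (ka xa16 ya3 za24) (ka xa15 ya58 za52) (ka xa21 ya5 za39) (ka xa15 ya48 za8) (ka xa12 ya59 za28) (ka xa17 ya38 za33) (ka xa26 ya10 za32) (ka xa22 ya10 za49) (ka xa15 ya34 za31) (ka xa12 ya59 za31) (ka xa15 ya39 za59) (ka xa30 ya14 za39) (ka xa12 ya59 za36) (ka xa15 ya40 za13) (ka xa15 ya39 za49) (ka xa24 ya8 za48) (ka xa15 ya40 za27) (ka xa15 ya39 za37) (ka xa15 ya40 za26) (ka xa22 ya10 za61) (ka xa22 ya10 za58) (ka xa20 ya15 za54) (ka xa16 ya6 za57) (ka xa16 ya48 za33) (ka xa27 ya17 za61) (ka xa30 ya20 za6) (ka xa26 ya14 za42) (ka xa27 ya31 za38) (ka xa21 ya9 za46) (ka xa22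 ya4 za9)) (@D3.rec (fun _ => Pt) (ka xa21 ya33 za22) (ka xa24 ya27 za44) (ka xa15 ya45 za57) (ka xa16 ya6 za48) (ka xa13 ya0 za3) (ka xa13 ya0 za4) (ka xa15 ya48 za40) (ka xa29 ya23 za29) (ka xa17 ya14 za5) (ka xa30 ya20 za7) (ka xa30 ya14 za31) (ka xa26 ya2 za36) (ka xa26 ya0 za50) (ka xa29 ya52 za34) (ka xa29 ya51 za22) (ka xa13 ya0 za7) (ka xa23 ya29 za38) (ka xa30 ya8 za52) (ka xa26 ya3 za33) (ka xa29 ya52 za35) (ka xa29 ya52 za38) (ka xa29 ya52 za39) (ka xa15 ya45 za4) (ka xa25 ya41 za47) (ka xa21 ya59 za5) (ka xa21 ya23 za45) (ka xa21 ya27 za25) (ka xa30 ya20 za14) (ka xa21 ya27 za32) (ka xa21 ya27 za33) (ka xa21 ya26 za61) (ka xa17 ya14 za8) (ka xa13 ya0 za17) (ka xa23 ya46 za58) (ka xa30 ya19 za41) (ka xa26 ya10 za30) (ka xa21 ya33 za12) (ka xa29 ya52 za36) (ka xa25 ya6 za28) (ka xa21 ya27 za28) (ka xa21 ya27 za29)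 (ka xa17 ya52 za27) (ka xa22 ya12 za4) (ka xa28 ya6 za45) (ka xa23 ya6 za26) (ka xa28 ya6 za46) (ka xa21 ya39 za24) (ka xa21 ya39 za23) (ka xa13 ya0 za34) (ka xa22 ya9 za39) (ka xa25 ya35 za22) (ka xa22 ya8 za22) (ka xa13 ya0 za39) (ka xa14 ya31 za60) (ka xa24 ya0 za44) (ka xa15 ya41 za4) (ka xa15 ya41 za5) (ka xa21 ya17 za61) (ka xa22 ya9 za52) (ka xa24 ya42 za57) (ka xa15 ya38 za58) (ka xa22 ya9 za51)) (@D3.rec (fun _ => Pt) (ka xa22 ya8 za25) (ka xa14 ya4 za34) (ka xa18 ya4 za29) (ka xa13 ya0 za61) (ka xa13 ya0 za59) (ka xa13 ya19 za4) (ka xa13 ya20 za23) (ka xa26 ya6 za25) (ka xa13 ya1 za28) (ka xa18 ya24 za33) (ka xa20 ya4 za5) (ka xa17 ya13 za56) (ka xa27 ya30 za59) (ka xa27 ya30 za58) (ka xa13 ya1 za13) (ka xa21 ya33 za40) (ka xa21 ya33 za57) (ka xa21 ya33 za58) (ka xa14 ya20 za2) (ka xa29 ya50 za3) (ka xa17 ya26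 za25) (ka xa27 ya21 za57) (ka xa17 ya27 za37) (ka xa26 ya46 za53) (ka xa19 ya39 za18) (ka xa22 ya8 za7) (ka xa29 ya51 za53) (ka xa13 ya1 za27) (ka xa26 ya11 za28) (ka xa21 ya37 za1) (ka xa25 ya27 za19) (ka xa23 ya44 za17) (ka xa17 ya38 za31) (ka xa18 ya24 za32) (ka xa15 ya32 za24) (ka xa21 ya30 za54) (ka xa23 ya38 za10) (ka xa17 ya32 za30) (ka xa18 ya56 za49) (ka xa24 ya40 za55) (ka xa27 ya50 za37) (ka xa26 ya49 za30) (ka xa21 ya36 za49) (ka xa21 ya58 za48) (ka xa23 ya34 za28) (ka xa21 ya25 za7) (ka xa21 ya25 za6) (ka xa13 ya2 za5) (ka xa21 ya19 za61) (ka xa21 ya19 za60) (ka xa13 ya2 za6) (ka xa30 ya20 za30) (ka xa19 ya27 za12) (ka xa24 ya20 za61) (ka xa20 ya27 za53) (ka xa20 ya8 za30) (ka xa19 ya24 za54) (ka xa19 ya27 za11) (ka xa19 ya8 za24) (ka xa19 ya27 za5) (ka xa21 ya0 za30) (ka xa19 ya27 za3)) (@D3.rec (fun _ =>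 Pt) (ka xa29 ya46 za39) (ka xa13 ya2 za29) (ka xa20 ya22 za19) (ka xa20 ya22 za18) (ka xa22 ya10 za42) (ka xa21 ya38 za59) (ka xa14 ya2 za36) (ka xa14 ya2 za35) (ka xa13 ya2 za33) (ka xa13 ya14 za50) (ka xa13 ya2 za34) (ka xa24 ya34 za27) (ka xa13 ya2 za38) (ka xa14 ya9 za43) (ka xa30 ya20 za9) (ka xa22 ya45 za29) (ka xa22 ya45 za30) (ka xa22 ya45 za31) (ka xa13 ya6 za60) (ka xa14 ya10 za0) (ka xa13 ya2 za44) (ka xa14 ya10 za4) (ka xa30 ya20 za37) (ka xa18 ya2 za58) (ka xa14 ya9 za52) (ka xa14 ya9 za58) (ka xa14 ya9 za60) (ka xa14 ya29 za54) (ka xa14 ya13 za17) (ka xa14 ya13 za18) (ka xa22 ya29 za49) (ka xa22 ya29 za50) (ka xa22 ya19 za7) (ka xa22 ya29 za51) (ka xa22 ya29 za52) (ka xa13 ya3 za24) (ka xa13 ya3 za25) (ka xa13 ya2 za54) (ka xa30 ya20 za51) (ka xa13 ya3 za43) (ka xa30 ya20 za57) (ka xa13 ya3 za57) (ka xa13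 ya3 za58) (ka xa13 ya5 za20) (ka xa28 ya47 za22) (ka xa13 ya6 za54) (ka xa20 ya23 za38) (ka xa23 ya47 za57) (ka xa13 ya5 za49) (ka xa13 ya5 za50) (ka xa13 ya5 za51) (ka xa13 ya5 za52) (ka xa13 ya5 za57) (ka xa13 ya5 za58) (ka xa13 ya6 za1) (ka xa13 ya6 za2) (ka xa22 ya57 za44) (ka xa13 ya6 za3) (ka xa13 ya6 za4) (ka xa30 ya21 za10) (ka xa22 ya24 za8) (ka xa13 ya50 za8)) (@D3.rec (fun _ => Pt) (ka xa14 ya52 za7) (ka xa22 ya32 za3) (ka xa22 ya14 za60) (ka xa22 ya15 za27) (ka xa27 ya32 za60) (ka xa19 ya24 za26) (ka xa27 ya2 za26) (ka xa23 ya13 za17) (ka xa24 ya15 za47) (ka xa20 ya43 za7) (ka xa20 ya43 za4) (ka xa30 ya21 za20) (ka xa24 ya38 za37) (ka xa23 ya3 za45) (ka xa22 ya24 za9) (ka xa13 ya3 za27) (ka xa13 ya3 za28) (ka xa24 ya14 za39) (ka xa30 ya20 za52) (ka xa30 ya21 za25) (ka xa30 ya21 za26) (ka xa23 ya19 za15) (ka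 xa22 ya39 za28) (ka xa13 ya46 za12) (ka xa13 ya46 za10) (ka xa22 ya14 za10) (ka xa22 ya14 za13) (ka xa30 ya21 za46) (ka xa22 ya40 za12) (ka xa22 ya40 za13) (ka xa22 ya40 za14) (ka xa22 ya40 za15) (ka xa22 ya40 za5) (ka xa13 ya3 za34) (ka xa22 ya40 za7) (ka xa22 ya40 za6) (ka xa30 ya21 za50) (ka xa30 ya5 za39) (ka xa29 ya34 za41) (ka xa29 ya34 za39) (ka xa13 ya3 za38) (ka xa30 ya21 za54) (ka xa30 ya21 za55) (ka xa22 ya14 za0) (ka xa30 ya22 za4) (ka xa24 ya26 za1) (ka xa24 ya26 za2) (ka xa24 ya26 za3) (ka xa13 ya3 za41) (ka xa27 ya6 za48) (ka xa30 ya22 za6) (ka xa30 ya22 za10) (ka xa22 ya27 za2) (ka xa30 ya22 za15) (ka xa30 ya22 za18) (ka xa30 ya22 za23) (ka xa13 ya3 za45) (ka xa30 ya22 za27) (ka xa30 ya22 za17) (ka xa13 ya12 za22) (ka xa13 ya12 za21) (ka xa23 ya52 za45)) (@D3.rec (fun _ => Pt) (ka xa22 ya13 za43) (ka xa20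 ya42 za55) (ka xa22 ya26 za31) (ka xa13 ya3 za53) (ka xa13 ya3 za54) (ka xa22 ya26 za58) (ka xa22 ya26 za56) (ka xa30 ya22 za33) (ka xa19 ya11 za52) (ka xa24 ya23 za30) (ka xa22 ya13 za25) (ka xa22 ya26 za55) (ka xa22 ya41 za47) (ka xa22 ya13 za26) (ka xa22 ya26 za52) (ka xa30 ya22 za46) (ka xa29 ya36 za52) (ka xa30 ya20 za59) (ka xa30 ya20 za60) (ka xa23 ya19 za19) (ka xa29 ya36 za50) (ka xa13 ya27 za12) (ka xa30 ya22 za55) (ka xa20 ya23 za40) (ka xa22 ya27 za50) (ka xa23 ya48 za9) (ka xa23 ya48 za10) (ka xa14 ya27 za40) (ka xa26 ya53 za45) (ka xa29 ya36 za48) (ka xa27 ya13 za11) (ka xa14 ya52 za1) (ka xa22 ya42 za32) (ka xa23 ya14 za42) (ka xa13 ya44 za4) (ka xa30 ya23 za4) (ka xa26 ya19 za8) (ka xa30 ya23 za5) (ka xa14 ya45 za15) (ka xa14 ya44 za56) (ka xa29 ya9 za3) (ka xa13 ya27 za24) (ka xa24 ya44 za3) (ka xa23 ya23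 za50) (ka xa14 ya15 za26) (ka xa13 ya4 za41) (ka xa13 ya4 za42) (ka xa13 ya4 za43) (ka xa22 ya8 za44) (ka xa14 ya58 za17) (ka xa13 ya4 za24) (ka xa23 ya50 za51) (ka xa18 ya55 za17) (ka xa18 ya29 za4) (ka xa18 ya29 za7) (ka xa18 ya36 za48) (ka xa22 ya30 za3) (ka xa13 ya11 za25) (ka xa22 ya58 za55) (ka xa13 ya4 za31) (ka xa22 ya13 za2) (ka xa19 ya18 za55)) (@D3.rec (fun _ => Pt) (ka xa23 ya50 za32) (ka xa18 ya44 za46) (ka xa23 ya35 za34) (ka xa13 ya4 za36) (ka xa22 ya58 za16) (ka xa13 ya20 za29) (ka xa19 ya15 za35) (ka xa16 ya18 za15) (ka xa24 ya44 za10) (ka xa24 ya44 za9) (ka xa13 ya4 za39) (ka xa17 ya44 za30) (ka xa27 ya23 za21) (ka xa27 ya23 za22) (ka xa17 ya42 za59) (ka xa26 ya16 za5) (ka xa19 ya42 za27) (ka xa27 ya28 za39) (ka xa27 ya30 za47) (ka xa26 ya10 za34) (ka xa27 ya30 za46) (ka xa14 ya15 za2) (ka xa13 ya13 za26)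 (ka xa19 ya20 za33) (ka xa13 ya50 za60) (ka xa19 ya19 za13) (ka xa14 ya13 za25) (ka xa22 ya13 za3) (ka xa13 ya19 za42) (ka xa18 ya54 za48) (ka xa18 ya54 za49) (ka xa17 ya47 za33) (ka xa22 ya17 za49) (ka xa21 ya39 za12) (ka xa23 ya21 za57) (ka xa23 ya21 za56) (ka xa13 ya5 za2) (ka xa14 ya1 za15) (ka xa23 ya52 za7) (ka xa23 ya52 za8) (ka xa14 ya15 za19) (ka xa22 ya35 za16) (ka xa25 ya58 za4) (ka xa25 ya1 za35) (ka xa25 ya47 za25) (ka xa23 ya13 za7) (ka xa22 ya45 za35) (ka xa22 ya58 za18) (ka xa22 ya45 za33) (ka xa13 ya13 za54) (ka xa13 ya13 za55) (ka xa18 ya37 za2) (ka xa23 ya27 za18) (ka xa23 ya27 za17) (ka xa14 ya12 za1) (ka xa14 ya12 za5) (ka xa23 ya52 za39) (ka xa14 ya7 za23) (ka xa23 ya52 za40) (ka xa21 ya54 za13) (ka xa14 ya6 za58) (ka xa23 ya52 za41)) (@D3.rec (fun _ => Pt) (ka xa22 ya21 za21) (ka xa23 ya52 za42)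 (ka xa23 ya52 za43) (ka xa23 ya52 za44) (ka xa20 ya43 za13) (ka xa13 ya12 za61) (ka xa24 ya24 za54) (ka xa16 ya53 za58) (ka xa18 ya0 za35) (ka xa13 ya12 za59) (ka xa26 ya49 za25) (ka xa13 ya16 za44) (ka xa21 ya39 za56) (ka xa20 ya20 za24) (ka xa13 ya44 za38) (ka xa13 ya5 za34) (ka xa13 ya5 za37) (ka xa13 ya5 za39) (ka xa13 ya5 za40) (ka xa13 ya5 za41) (ka xa13 ya5 za42) (ka xa15 ya30 za31) (ka xa20 ya23 za39) (ka xa13 ya37 za32) (ka xa23 ya54 za26) (ka xa30 ya23 za49) (ka xa22 ya33 za24) (ka xa19 ya21 za28) (ka xa21 ya27 za19) (ka xa26 ya51 za1) (ka xa22 ya33 za26) (ka xa17 ya16 za55) (ka xa26 ya41 za45) (ka xa22 ya59 za0) (ka xa22 ya58 za56) (ka xa28 ya20 za40) (ka xa30 ya23 za52) (ka xa21 ya59 za46) (ka xa23 ya53 za7) (ka xa27 ya2 za35) (ka xa29 ya9 za8) (ka xa26 ya27 za39) (ka xa26 ya27 za38) (ka xa23 ya53 za16) (ka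 xa22 ya23 za26) (ka xa23 ya4 za44) (ka xa22 ya23 za27) (ka xa29 ya9 za12) (ka xa23 ya46 za43) (ka xa23 ya46 za45) (ka xa26 ya9 za6) (ka xa13 ya59 za20) (ka xa13 ya59 za19) (ka xa23 ya18 za55) (ka xa21 ya55 za29) (ka xa23 ya33 za30) (ka xa23 ya33 za32) (ka xa23 ya33 za31) (ka xa22 ya58 za35) (ka xa23 ya53 za22) (ka xa23 ya27 za22) (ka xa23 ya53 za23)) (@D3.rec (fun _ => Pt) (ka xa26 ya27 za31) (ka xa29 ya30 za61) (ka xa30 ya21 za3) (ka xa30 ya21 za4) (ka xa30 ya21 za5) (ka xa26 ya26 za0) (ka xa23 ya33 za35) (ka xa23 ya33 za36) (ka xa23 ya33 za37) (ka xa14 ya53 za7) (ka xa23 ya33 za38) (ka xa23 ya11 za45) (ka xa23 ya53 za35) (ka xa28 ya0 za20) (ka xa29 ya28 za25) (ka xa30 ya21 za6) (ka xa29 ya25 za20) (ka xa29 ya38 za31) (ka xa30 ya24 za24) (ka xa26 ya46 za19) (ka xa28 ya59 za12) (ka xa27 ya41 za35) (ka xa30 ya21 za9) (ka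 xa22 ya59 za49) (ka xa27 ya42 za1) (ka xa27 ya41 za39) (ka xa13 ya6 za6) (ka xa29 ya53 za53) (ka xa30 ya24 za26) (ka xa22 ya17 za30) (ka xa22 ya17 za29) (ka xa23 ya18 za53) (ka xa23 ya18 za54) (ka xa13 ya40 za19) (ka xa13 ya40 za20) (ka xa13 ya40 za10) (ka xa30 ya24 za38) (ka xa13 ya45 za15) (ka xa13 ya45 za16) (ka xa13 ya45 za17) (ka xa13 ya45 za18) (ka xa13 ya35 za56) (ka xa22 ya21 za9) (ka xa23 ya38 za12) (ka xa15 ya43 za48) (ka xa23 ya38 za11) (ka xa13 ya6 za28) (ka xa25 ya46 za31) (ka xa25 ya46 za30) (ka xa22 ya15 za32) (ka xa23 ya44 za42) (ka xa23 ya44 za41) (ka xa16 ya4 za55) (ka xa23 ya35 za36) (ka xa23 ya35 za35) (ka xa17 ya55 za25) (ka xa23 ya35 za17) (ka xa21 ya3 za12) (ka xa20 ya10 za23) (ka xa14 ya42 za34) (ka xa13 ya6 za50) (ka xa22 ya33 za34)) (@D3.rec (fun _ => Pt) (ka xa20 ya23 za42) (ka xa22 ya34 za27)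 (ka xa22 ya34 za28) (ka xa20 ya46 za15) (ka xa28 ya9 za4) (ka xa18 ya55 za16) (ka xa22 ya34 za39) (ka xa22 ya34 za40) (ka xa14 ya18 za27) (ka xa22 ya34 za60) (ka xa22 ya34 za61) (ka xa18 ya15 za3) (ka xa30 ya23 za7) (ka xa30 ya24 za53) (ka xa29 ya20 za45) (ka xa22 ya34 za16) (ka xa20 ya45 za47) (ka xa20 ya45 za48) (ka xa18 ya55 za4) (ka xa17 ya44 za39) (ka xa30 ya10 za61) (ka xa22 ya23 za34) (ka xa24 ya15 za29) (ka xa24 ya15 za30) (ka xa18 ya36 za61) (ka xa14 ya43 za33) (ka xa22 ya34 za18) (ka xa22 ya34 za19) (ka xa23 ya23 za53) (ka xa23 ya23 za54) (ka xa23 ya23 za55) (ka xa23 ya24 za51) (ka xa23 ya36 za45) (ka xa13 ya7 za0) (ka xa13 ya7 za1) (ka xa23 ya23 za49) (ka xa19 ya21 za19) (ka xa30 ya22 za54) (ka xa23 ya27 za20) (ka xa23 ya23 za56) (ka xa20 ya45 za40) (ka xa23 ya23 za57) (ka xa22 ya34 za23) (ka xa30 ya25 za3)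 (ka xa21 ya37 za9) (ka xa23 ya36 za47) (ka xa23 ya36 za48) (ka xa13 ya7 za6) (ka xa24 ya40 za23) (ka xa28 ya46 za19) (ka xa17 ya44 za43) (ka xa21 ya37 za13) (ka xa23 ya36 za41) (ka xa23 ya36 za43) (ka xa25 ya3 za57) (ka xa17 ya39 za52) (ka xa13 ya7 za9) (ka xa22 ya35 za14) (ka xa22 ya35 za15) (ka xa22 ya32 za17) (ka xa13 ya52 za16) (ka xa13 ya52 za19)) (@D3.rec (fun _ => Pt) (ka xa23 ya6 za37) (ka xa22 ya0 za57) (ka xa21 ya14 za3) (ka xa23 ya45 za35) (ka xa23 ya45 za36) (ka xa23 ya45 za37) (ka xa23 ya45 za38) (ka xa22 ya12 za32) (ka xa13 ya7 za18) (ka xa30 ya25 za23) (ka xa23 ya45 za39) (ka xa23 ya45 za41) (ka xa22 ya1 za11) (ka xa23 ya45 za43) (ka xa23 ya45 za44) (ka xa29 ya46 za37) (ka xa23 ya45 za46) (ka xa23 ya45 za47) (ka xa23 ya45 za48) (ka xa23 ya45 za49) (ka xa30 ya11 za51) (ka xa23 ya45 za50) (ka xa23 ya45 za51)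 (ka xa13 ya11 za16) (ka xa13 ya7 za27) (ka xa13 ya11 za21) (ka xa13 ya11 za20) (ka xa30 ya25 za39) (ka xa30 ya25 za43) (ka xa13 ya7 za30) (ka xa30 ya25 za45) (ka xa13 ya7 za33) (ka xa29 ya46 za18) (ka xa30 ya25 za46) (ka xa30 ya25 za51) (ka xa13 ya12 za9) (ka xa30 ya25 za52) (ka xa30 ya25 za55) (ka xa13 ya12 za15) (ka xa30 ya22 za28) (ka xa30 ya11 za57) (ka xa13 ya7 za38) (ka xa13 ya12 za31) (ka xa13 ya7 za43) (ka xa13 ya13 za14) (ka xa30 ya25 za60) (ka xa24 ya30 za8) (ka xa13 ya12 za46) (ka xa13 ya7 za47) (ka xa30 ya26 za5) (ka xa13 ya13 za20) (ka xa13 ya13 za22) (ka xa23 ya24 za3) (ka xa23 ya24 za2) (ka xa23 ya36 za30) (ka xa17 ya35 za38) (ka xa30 ya26 za9) (ka xa24 ya21 za43) (ka xa21 ya59 za56) (ka xa14 ya19 za41) (ka xa13 ya8 za6) (ka xa13 ya8 za10)) (@D3.rec (fun _ => Pt) (ka xa13 ya8 za12) (ka xa13 ya8 za13) (ka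 xa14 ya23 za15) (ka xa14 ya52 za0) (ka xa30 ya23 za59) (ka xa14 ya19 za43) (ka xa23 ya56 za3) (ka xa14 ya42 za50) (ka xa14 ya30 za56) (ka xa30 ya26 za12) (ka xa22 ya40 za27) (ka xa14 ya31 za25) (ka xa19 ya9 za24) (ka xa19 ya30 za55) (ka xa14 ya31 za26) (ka xa19 ya22 za58) (ka xa21 ya11 za1) (ka xa16 ya34 za19) (ka xa18 ya2 za35) (ka xa15 ya52 za15) (ka xa23 ya11 za47) (ka xa24 ya6 za13) (ka xa23 ya52 za57) (ka xa19 ya8 za50) (ka xa24 ya6 za20) (ka xa17 ya32 za28) (ka xa17 ya32 za29) (ka xa17 ya32 za4) (ka xa17 ya32 za5) (ka xa30 ya26 za29) (ka xa24 ya39 za30) (ka xa23 ya1 za10) (ka xa22 ya55 za14) (ka xa24 ya6 za25) (ka xa24 ya6 za26) (ka xa24 ya6 za27) (ka xa24 ya6 za28) (ka xa24 ya6 za29) (ka xa22 ya46 za60) (ka xa22 ya57 za61) (ka xa28 ya19 za26) (ka xa24 ya39 za32) (ka xa28 ya54 za6) (ka xa24 ya34 za38) (ka xa24 ya34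 za39) (ka xa22 ya42 za28) (ka xa24 ya34 za41) (ka xa22 ya42 za27) (ka xa22 ya58 za40) (ka xa24 ya6 za43) (ka xa30 ya26 za47) (ka xa24 ya39 za33) (ka xa22 ya54 za52) (ka xa24 ya39 za34) (ka xa22 ya7 za10) (ka xa22 ya23 za2) (ka xa24 ya39 za35) (ka xa19 ya22 za55) (ka xa24 ya39 za36) (ka xa30 ya26 za50) (ka xa25 ya8 za60) (ka xa13 ya8 za38)) (@D3.rec (fun _ => Pt) (ka xa22 ya52 za52) (ka xa15 ya39 za51) (ka xa19 ya30 za45) (ka xa23 ya1 za9) (ka xa22 ya48 za38) (ka xa22 ya48 za39) (ka xa25 ya4 za21) (ka xa22 ya44 za20) (ka xa13 ya8 za55) (ka xa22 ya17 za42) (ka xa14 ya39 za12) (ka xa22 ya40 za23) (ka xa16 ya4 za49) (ka xa22 ya27 za13) (ka xa24 ya37 za49) (ka xa24 ya34 za3) (ka xa23 ya26 za26) (ka xa23 ya26 za27) (ka xa23 ya26 za28) (ka xa14 ya39 za13) (ka xa29 ya0 za4) (ka xa22 ya16 za0) (ka xa24 ya38 za32) (ka xa13 ya8 za60)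 (ka xa23 ya24 za9) (ka xa13 ya9 za7) (ka xa14 ya12 za53) (ka xa14 ya12 za55) (ka xa18 ya25 za50) (ka xa23 ya55 za28) (ka xa23 ya55 za42) (ka xa27 ya12 za7) (ka xa23 ya55 za44) (ka xa23 ya51 za42) (ka xa23 ya55 za46) (ka xa13 ya23 za35) (ka xa23 ya55 za47) (ka xa19 ya31 za8) (ka xa24 ya10 za53) (ka xa20 ya54 za28) (ka xa30 ya27 za1) (ka xa24 ya3 za41) (ka xa19 ya30 za7) (ka xa24 ya39 za12) (ka xa19 ya40 za40) (ka xa20 ya16 za47) (ka xa29 ya28 za10) (ka xa20 ya46 za22) (ka xa20 ya51 za42) (ka xa21 ya22 za5) (ka xa19 ya30 za10) (ka xa24 ya39 za16) (ka xa24 ya39 za17) (ka xa24 ya39 za18) (ka xa24 ya39 za13) (ka xa13 ya9 za19) (ka xa24 ya3 za24) (ka xa24 ya10 za36) (ka xa29 ya29 za8) (ka xa22 ya26 za49) (ka xa22 ya26 za48) (ka xa21 ya47 za41)) (@D3.rec (fun _ => Pt) (ka xa21 ya47 za38) (ka xa24 ya39 za20) (ka xa24 ya39 za21)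 (ka xa29 ya27 za58) (ka xa24 ya39 za23) (ka xa24 ya39 za24) (ka xa23 ya12 za50) (ka xa23 ya55 za56) (ka xa23 ya55 za57) (ka xa13 ya46 za8) (ka xa13 ya46 za9) (ka xa13 ya46 za11) (ka xa23 ya1 za15) (ka xa13 ya46 za15) (ka xa13 ya36 za33) (ka xa13 ya9 za37) (ka xa14 ya48 za8) (ka xa13 ya9 za44) (ka xa13 ya56 za48) (ka xa14 ya1 za21) (ka xa14 ya48 za30) (ka xa13 ya9 za41) (ka xa22 ya45 za25) (ka xa23 ya56 za31) (ka xa13 ya10 za4) (ka xa13 ya10 za13) (ka xa21 ya40 za4) (ka xa16 ya59 za59) (ka xa21 ya8 za6) (ka xa17 ya20 za6) (ka xa21 ya40 za7) (ka xa20 ya27 za10) (ka xa17 ya20 za7) (ka xa21 ya40 za10) (ka xa21 ya9 za51) (ka xa22 ya47 za26) (ka xa22 ya30 za5) (ka xa30 ya27 za31) (ka xa25 ya57 za38) (ka xa22 ya36 za38) (ka xa23 ya57 za38) (ka xa23 ya57 za39) (ka xa24 ya12 za54) (ka xa23 ya8 za37) (ka xa24 ya12 za56) (ka xa23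 ya57 za41) (ka xa24 ya8 za12) (ka xa24 ya13 za7) (ka xa18 ya44 za31) (ka xa23 ya57 za8) (ka xa23 ya57 za9) (ka xa23 ya57 za10) (ka xa17 ya24 za7) (ka xa17 ya24 za8) (ka xa17 ya24 za10) (ka xa17 ya24 za11) (ka xa29 ya12 za35) (ka xa24 ya0 za40) (ka xa24 ya0 za41) (ka xa17 ya50 za7) (ka xa22 ya22 za61) (ka xa22 ya22 za60)) (@D3.rec (fun _ => Pt) (ka xa17 ya57 za37) (ka xa30 ya18 za58) (ka xa22 ya20 za55) (ka xa23 ya1 za17) (ka xa15 ya40 za51) (ka xa23 ya1 za18) (ka xa23 ya56 za52) (ka xa24 ya0 za32) (ka xa24 ya0 za30) (ka xa20 ya25 za1) (ka xa20 ya25 za0) (ka xa23 ya56 za42) (ka xa20 ya33 za44) (ka xa24 ya14 za49) (ka xa24 ya14 za51) (ka xa14 ya43 za14) (ka xa14 ya43 za13) (ka xa23 ya11 za11) (ka xa17 ya59 za46) (ka xa23 ya11 za12) (ka xa27 ya6 za24) (ka xa17 ya11 za24) (ka xa23 ya46 za42) (ka xa23 ya19 za1) (ka xa20 ya39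 za53) (ka xa23 ya46 za46) (ka xa22 ya16 za44) (ka xa22 ya16 za46) (ka xa13 ya42 za33) (ka xa23 ya31 za20) (ka xa22 ya53 za37) (ka xa19 ya50 za44) (ka xa22 ya36 za20) (ka xa24 ya15 za31) (ka xa22 ya18 za21) (ka xa20 ya20 za6) (ka xa20 ya28 za8) (ka xa27 ya12 za53) (ka xa13 ya11 za5) (ka xa29 ya47 za26) (ka xa28 ya25 za17) (ka xa30 ya27 za60) (ka xa22 ya25 za29) (ka xa26 ya52 za9) (ka xa24 ya34 za54) (ka xa29 ya38 za56) (ka xa30 ya27 za0) (ka xa19 ya25 za25) (ka xa24 ya1 za8) (ka xa13 ya11 za13) (ka xa28 ya53 za8) (ka xa28 ya53 za7) (ka xa29 ya23 za11) (ka xa13 ya11 za23) (ka xa13 ya11 za26) (ka xa13 ya11 za27) (ka xa13 ya33 za49) (ka xa26 ya41 za28) (ka xa30 ya25 za40) (ka xa24 ya24 za57) (ka xa22 ya25 za1) (ka xa26 ya41 za16)) (@D3.rec (fun _ => Pt) (ka xa30 ya28 za16) (ka xa29 ya45 za37) (ka xa22 ya24 za49) (ka xa22 ya24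 za48) (ka xa30 ya28 za9) (ka xa22 ya47 za30) (ka xa22 ya59 za17) (ka xa29 ya54 za58) (ka xa22 ya12 za60) (ka xa22 ya13 za14) (ka xa30 ya28 za10) (ka xa22 ya24 za12) (ka xa22 ya24 za11) (ka xa23 ya34 za24) (ka xa23 ya22 za6) (ka xa20 ya47 za57) (ka xa20 ya47 za54) (ka xa30 ya28 za37) (ka xa14 ya56 za54) (ka xa24 ya25 za56) (ka xa14 ya40 za38) (ka xa30 ya28 za44) (ka xa22 ya24 za27) (ka xa27 ya13 za59) (ka xa30 ya25 za42) (ka xa13 ya11 za35) (ka xa24 ya24 za50) (ka xa22 ya24 za22) (ka xa24 ya25 za43) (ka xa24 ya25 za44) (ka xa13 ya11 za44) (ka xa13 ya11 za45) (ka xa24 ya24 za38) (ka xa24 ya25 za49) (ka xa22 ya25 za22) (ka xa24 ya25 za47) (ka xa24 ya25 za48) (ka xa24 ya25 za51) (ka xa23 ya49 za7) (ka xa30 ya29 za6) (ka xa24 ya26 za46) (ka xa30 ya28 za57) (ka xa27 ya16 za25) (ka xa25 ya25 za9) (ka xa27 ya16 za24) (ka xa22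 ya48 za55) (ka xa14 ya11 za1) (ka xa14 ya10 za61) (ka xa22 ya24 za3) (ka xa22 ya24 za2) (ka xa13 ya11 za49) (ka xa30 ya29 za19) (ka xa29 ya40 za19) (ka xa22 ya47 za39) (ka xa22 ya47 za38) (ka xa13 ya11 za56) (ka xa13 ya11 za57) (ka xa13 ya11 za58) (ka xa29 ya45 za34) (ka xa14 ya22 za53) (ka xa22 ya1 za31) (ka xa16 ya39 za60)) (@D3.rec (fun _ => Pt) (ka xa29 ya46 za32) (ka xa22 ya23 za60) (ka xa30 ya29 za22) (ka xa30 ya29 za23) (ka xa25 ya52 za49) (ka xa25 ya52 za48) (ka xa20 ya48 za50) (ka xa22 ya26 za18) (ka xa30 ya29 za29) (ka xa30 ya25 za50) (ka xa30 ya25 za49) (ka xa13 ya11 za61) (ka xa24 ya25 za12) (ka xa20 ya16 za55) (ka xa20 ya16 za56) (ka xa20 ya48 za57) (ka xa15 ya55 za31) (ka xa13 ya12 za6) (ka xa13 ya12 za7) (ka xa29 ya34 za19) (ka xa30 ya15 za30) (ka xa30 ya14 za60) (ka xa22 ya24 za34) (ka xa25 ya52 za51) (ka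 xa25 ya52 za50) (ka xa30 ya25 za44) (ka xa26 ya28 za0) (ka xa13 ya12 za8) (ka xa30 ya29 za42) (ka xa22 ya23 za42) (ka xa20 ya47 za46) (ka xa20 ya47 za49) (ka xa22 ya36 za53) (ka xa20 ya47 za8) (ka xa30 ya25 za54) (ka xa30 ya25 za53) (ka xa13 ya12 za12) (ka xa30 ya29 za46) (ka xa29 ya33 za34) (ka xa29 ya49 za4) (ka xa13 ya12 za14) (ka xa30 ya29 za50) (ka xa20 ya48 za55) (ka xa13 ya12 za20) (ka xa13 ya12 za16) (ka xa22 ya1 za19) (ka xa26 ya51 za37) (ka xa27 ya6 za30) (ka xa20 ya49 za22) (ka xa13 ya12 za17) (ka xa22 ya1 za25) (ka xa26 ya51 za35) (ka xa30 ya29 za58) (ka xa13 ya12 za19) (ka xa30 ya20 za56) (ka xa30 ya20 za55) (ka xa29 ya30 za19) (ka xa28 ya53 za31) (ka xa30 ya29 za54) (ka xa29 ya36 za61) (ka xa29 ya40 za0) (ka xa29 ya39 za61)) (@D3.rec (fun _ => Pt) (ka xa30 ya21 za22) (ka xa20 ya39 za39) (ka xa22 ya26 za4)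 (ka xa29 ya40 za2) (ka xa22 ya26 za2) (ka xa27 ya16 za12) (ka xa29 ya40 za1) (ka xa29 ya39 za44) (ka xa13 ya35 za18) (ka xa13 ya12 za25) (ka xa23 ya24 za7) (ka xa23 ya24 za6) (ka xa13 ya12 za29) (ka xa14 ya41 za2) (ka xa23 ya24 za8) (ka xa14 ya40 za55) (ka xa30 ya30 za11) (ka xa29 ya40 za47) (ka xa22 ya25 za7) (ka xa20 ya48 za59) (ka xa20 ya48 za58) (ka xa13 ya12 za38) (ka xa13 ya12 za41) (ka xa16 ya40 za27) (ka xa19 ya22 za32) (ka xa24 ya29 za41) (ka xa19 ya19 za9) (ka xa24 ya22 za45) (ka xa30 ya26 za4) (ka xa30 ya26 za3) (ka xa24 ya1 za47) (ka xa22 ya14 za2) (ka xa30 ya30 za16) (ka xa13 ya12 za42) (ka xa20 ya48 za14) (ka xa20 ya48 za13) (ka xa19 ya22 za28) (ka xa29 ya39 za52) (ka xa23 ya10 za52) (ka xa24 ya6 za48) (ka xa20 ya48 za44) (ka xa30 ya26 za2) (ka xa29 ya39 za54) (ka xa14 ya16 za6) (ka xa23 ya48 za15) (ka xa13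 ya29 za3) (ka xa22 ya50 za33) (ka xa14 ya56 za52) (ka xa22 ya21 za60) (ka xa22 ya21 za59) (ka xa13 ya12 za52) (ka xa14 ya39 za45) (ka xa22 ya14 za14) (ka xa13 ya12 za54) (ka xa30 ya30 za37) (ka xa22 ya14 za11) (ka xa22 ya14 za6) (ka xa14 ya23 za22) (ka xa22 ya14 za5) (ka xa13 ya12 za60) (ka xa29 ya25 za22) (ka xa30 ya23 za47)) (@D3.rec (fun _ => Pt) (ka xa30 ya23 za45) (ka xa30 ya23 za46) (ka xa22 ya13 za52) (ka xa13 ya13 za3) (ka xa23 ya2 za21) (ka xa22 ya58 za21) (ka xa23 ya36 za7) (ka xa21 ya45 za19) (ka xa23 ya34 za54) (ka xa15 ya47 za26) (ka xa23 ya35 za28) (ka xa14 ya56 za25) (ka xa14 ya56 za21) (ka xa22 ya21 za13) (ka xa24 ya42 za34) (ka xa13 ya13 za9) (ka xa28 ya35 za9) (ka xa13 ya13 za16) (ka xa13 ya13 za18) (ka xa22 ya46 za48) (ka xa19 ya32 za8) (ka xa13 ya23 za4) (ka xa24 ya8 za26) (ka xa19 ya32 za5) (ka xa30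 ya25 za61) (ka xa19 ya31 za59) (ka xa19 ya31 za57) (ka xa29 ya33 za37) (ka xa29 ya45 za54) (ka xa24 ya30 za24) (ka xa30 ya30 za51) (ka xa29 ya21 za19) (ka xa30 ya30 za52) (ka xa13 ya17 za58) (ka xa30 ya30 za53) (ka xa24 ya30 za2) (ka xa30 ya26 za0) (ka xa13 ya13 za19) (ka xa23 ya2 za20) (ka xa24 ya30 za15) (ka xa23 ya4 za47) (ka xa30 ya31 za24) (ka xa20 ya17 za35) (ka xa23 ya2 za18) (ka xa23 ya2 za19) (ka xa23 ya2 za17) (ka xa22 ya55 za33) (ka xa13 ya33 za35) (ka xa14 ya24 za43) (ka xa14 ya24 za48) (ka xa22 ya14 za24) (ka xa23 ya48 za14) (ka xa17 ya38 za9) (ka xa13 ya13 za29) (ka xa18 ya8 za4) (ka xa13 ya13 za30) (ka xa25 ya29 za40) (ka xa17 ya45 za32) (ka xa13 ya37 za35) (ka xa14 ya1 za24) (ka xa13 ya13 za35) (ka xa23 ya16 za57)) (@D3.rec (fun _ => Pt) (ka xa29 ya11 za0) (ka xa22 ya45 za50) (ka xa22 ya45 za51) (ka xa22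 ya45 za52) (ka xa13 ya28 za59) (ka xa22 ya45 za53) (ka xa14 ya8 za50) (ka xa29 ya48 za60) (ka xa14 ya9 za27) (ka xa14 ya9 za28) (ka xa14 ya9 za29) (ka xa23 ya36 za44) (ka xa13 ya13 za45) (ka xa25 ya23 za11) (ka xa14 ya9 za21) (ka xa14 ya9 za22) (ka xa14 ya9 za23) (ka xa13 ya13 za47) (ka xa13 ya13 za49) (ka xa13 ya13 za50) (ka xa23 ya17 za54) (ka xa22 ya30 za41) (ka xa13 ya59 za4) (ka xa23 ya19 za32) (ka xa24 ya43 za50) (ka xa22 ya46 za5) (ka xa22 ya46 za4) (ka xa13 ya13 za51) (ka xa21 ya19 za57) (ka xa21 ya33 za59) (ka xa21 ya33 za60) (ka xa21 ya25 za0) (ka xa23 ya43 za3) (ka xa23 ya43 za4) (ka xa30 ya23 za32) (ka xa22 ya49 za33) (ka xa13 ya40 za37) (ka xa13 ya40 za38) (ka xa18 ya33 za41) (ka xa22 ya29 za9) (ka xa22 ya29 za11) (ka xa18 ya49 za25) (ka xa14 ya10 za44) (ka xa13 ya41 za35) (ka xa13 ya41 za36) (ka xa13 ya14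 za5) (ka xa13 ya41 za38) (ka xa13 ya14 za6) (ka xa30 ya31 za52) (ka xa18 ya59 za55) (ka xa22 ya29 za32) (ka xa18 ya16 za4) (ka xa13 ya14 za9) (ka xa27 ya53 za58) (ka xa28 ya10 za3) (ka xa15 ya8 za59) (ka xa22 ya29 za26) (ka xa22 ya29 za27) (ka xa22 ya29 za28) (ka xa18 ya56 za47) (ka xa18 ya57 za12) (ka xa22 ya29 za33)) (@D3.rec (fun _ => Pt) (ka xa13 ya14 za15) (ka xa21 ya29 za50) (ka xa13 ya14 za17) (ka xa21 ya29 za60) (ka xa13 ya14 za20) (ka xa23 ya3 za23) (ka xa13 ya44 za1) (ka xa13 ya29 za32) (ka xa14 ya33 za44) (ka xa22 ya28 za39) (ka xa18 ya21 za42) (ka xa22 ya28 za40) (ka xa23 ya6 za59) (ka xa23 ya6 za60) (ka xa13 ya14 za42) (ka xa13 ya14 za43) (ka xa13 ya14 za44) (ka xa13 ya14 za46) (ka xa13 ya30 za30) (ka xa13 ya30 za52) (ka xa13 ya30 za53) (ka xa13 ya30 za51) (ka xa29 ya25 za5) (ka xa13 ya14 za35) (ka xa30 ya6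 za16) (ka xa29 ya19 za4) (ka xa22 ya28 za56) (ka xa22 ya28 za57) (ka xa22 ya28 za58) (ka xa13 ya14 za37) (ka xa30 ya32 za1) (ka xa25 ya46 za43) (ka xa22 ya28 za50) (ka xa22 ya28 za61) (ka xa18 ya50 za12) (ka xa26 ya4 za9) (ka xa22 ya34 za25) (ka xa27 ya57 za45) (ka xa18 ya36 za8) (ka xa23 ya15 za58) (ka xa23 ya15 za59) (ka xa23 ya15 za57) (ka xa23 ya15 za60) (ka xa13 ya31 za43) (ka xa23 ya11 za40) (ka xa14 ya0 za53) (ka xa14 ya6 za55) (ka xa20 ya42 za45) (ka xa14 ya17 za38) (ka xa22 ya12 za30) (ka xa22 ya12 za31) (ka xa22 ya12 za33) (ka xa22 ya12 za34) (ka xa29 ya24 za42) (ka xa13 ya22 za20) (ka xa24 ya23 za28) (ka xa13 ya22 za24) (ka xa13 ya22 za25) (ka xa18 ya50 za3) (ka xa13 ya22 za15) (ka xa14 ya16 za3) (ka xa13 ya23 za47)) (@D3.rec (fun _ => Pt) (ka xa13 ya23 za48) (ka xa13 ya23 za53) (ka xa13 ya23 za54) (ka xa22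 ya14 za56) (ka xa14 ya10 za48) (ka xa22 ya22 za36) (ka xa14 ya10 za46) (ka xa13 ya15 za8) (ka xa29 ya51 za39) (ka xa30 ya32 za34) (ka xa13 ya15 za48) (ka xa13 ya15 za49) (ka xa21 ya55 za18) (ka xa14 ya9 za8) (ka xa13 ya48 za15) (ka xa14 ya11 za22) (ka xa13 ya15 za13) (ka xa21 ya16 za50) (ka xa23 ya23 za0) (ka xa22 ya48 za45) (ka xa13 ya15 za23) (ka xa14 ya15 za44) (ka xa14 ya15 za41) (ka xa30 ya32 za41) (ka xa28 ya0 za56) (ka xa22 ya31 za45) (ka xa14 ya56 za55) (ka xa16 ya12 za7) (ka xa23 ya6 za13) (ka xa13 ya15 za34) (ka xa22 ya45 za46) (ka xa13 ya51 za51) (ka xa13 ya23 za59) (ka xa26 ya7 za48) (ka xa13 ya29 za17) (ka xa13 ya15 za37) (ka xa23 ya17 za57) (ka xa14 ya0 za31) (ka xa13 ya26 za25) (ka xa13 ya15 za42) (ka xa13 ya15 za43) (ka xa22 ya28 za21) (ka xa30 ya32 za47) (ka xa27 ya42 za10) (ka xa27 ya42 za11) (ka xa30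 ya32 za48) (ka xa21 ya29 za49) (ka xa13 ya15 za45) (ka xa22 ya57 za35) (ka xa22 ya57 za36) (ka xa13 ya49 za2) (ka xa28 ya13 za13) (ka xa28 ya13 za14) (ka xa27 ya55 za54) (ka xa30 ya32 za39) (ka xa23 ya33 za50) (ka xa14 ya44 za55) (ka xa14 ya44 za52) (ka xa14 ya44 za53) (ka xa14 ya17 za12) (ka xa14 ya17 za13) (ka xa14 ya12 za24)) (@D3.rec (fun _ => Pt) (ka xa13 ya15 za54) (ka xa14 ya17 za17) (ka xa14 ya17 za16) (ka xa30 ya32 za60) (ka xa30 ya32 za61) (ka xa14 ya17 za9) (ka xa14 ya17 za11) (ka xa29 ya49 za53) (ka xa25 ya37 za60) (ka xa13 ya15 za57) (ka xa19 ya16 za61) (ka xa21 ya50 za39) (ka xa21 ya56 za54) (ka xa21 ya21 za42) (ka xa24 ya30 za53) (ka xa24 ya30 za54) (ka xa16 ya3 za31) (ka xa17 ya38 za8) (ka xa14 ya9 za47) (ka xa29 ya12 za20) (ka xa21 ya56 za52) (ka xa21 ya56 za53) (ka xa21 ya56 za55) (ka xa13 ya46 za57)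 (ka xa13 ya49 za0) (ka xa23 ya21 za39) (ka xa23 ya21 za40) (ka xa22 ya47 za10) (ka xa13 ya16 za13) (ka xa13 ya16 za14) (ka xa13 ya49 za12) (ka xa23 ya21 za44) (ka xa18 ya56 za40) (ka xa23 ya21 za46) (ka xa29 ya10 za50) (ka xa30 ya33 za26) (ka xa26 ya3 za24) (ka xa30 ya33 za27) (ka xa25 ya15 za59) (ka xa30 ya33 za28) (ka xa13 ya16 za15) (ka xa29 ya18 za18) (ka xa29 ya14 za47) (ka xa21 ya57 za3) (ka xa21 ya57 za6) (ka xa22 ya30 za25) (ka xa13 ya16 za17) (ka xa23 ya15 za45) (ka xa20 ya6 za18) (ka xa21 ya55 za61) (ka xa21 ya55 za57) (ka xa13 ya16 za19) (ka xa30 ya33 za40) (ka xa21 ya56 za57) (ka xa21 ya56 za58) (ka xa21 ya56 za59) (ka xa21 ya56 za60) (ka xa23 ya21 za30) (ka xa30 ya33 za49) (ka xa23 ya21 za34) (ka xa23 ya21 za35) (ka xa13 ya19 za21)) (@D3.rec (fun _ => Pt) (ka xa23 ya28 za49) (ka xa23 ya5 za50) (ka xa23 ya0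 za5) (ka xa22 ya13 za1) (ka xa23 ya14 za39) (ka xa13 ya16 za41) (ka xa13 ya16 za42) (ka xa13 ya16 za45) (ka xa21 ya3 za24) (ka xa23 ya28 za12) (ka xa16 ya57 za13) (ka xa23 ya29 za8) (ka xa23 ya47 za45) (ka xa23 ya47 za46) (ka xa13 ya21 za19) (ka xa29 ya18 za49) (ka xa30 ya5 za36) (ka xa22 ya18 za59) (ka xa23 ya5 za41) (ka xa21 ya15 za26) (ka xa19 ya51 za10) (ka xa20 ya31 za20) (ka xa13 ya20 za57) (ka xa13 ya16 za55) (ka xa13 ya16 za56) (ka xa13 ya21 za40) (ka xa13 ya21 za39) (ka xa30 ya33 za60) (ka xa13 ya19 za46) (ka xa19 ya19 za1) (ka xa17 ya56 za13) (ka xa13 ya21 za27) (ka xa13 ya21 za28) (ka xa13 ya21 za29) (ka xa13 ya21 za31) (ka xa13 ya21 za5) (ka xa13 ya16 za61) (ka xa13 ya21 za12) (ka xa13 ya21 za11) (ka xa30 ya34 za3) (ka xa13 ya21 za47) (ka xa13 ya21 za48) (ka xa13 ya21 za51) (ka xa13 ya21 za57) (ka xa13 ya21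 za58) (ka xa13 ya21 za59) (ka xa13 ya21 za61) (ka xa13 ya22 za5) (ka xa13 ya22 za13) (ka xa13 ya22 za14) (ka xa23 ya18 za37) (ka xa13 ya24 za16) (ka xa13 ya18 za25) (ka xa14 ya25 za55) (ka xa13 ya22 za61) (ka xa13 ya23 za0) (ka xa13 ya23 za1) (ka xa13 ya23 za2) (ka xa13 ya23 za3) (ka xa28 ya18 za44) (ka xa13 ya17 za15) (ka xa14 ya25 za52)) (@D3.rec (fun _ => Pt) (ka xa13 ya23 za14) (ka xa30 ya34 za15) (ka xa13 ya23 za30) (ka xa13 ya23 za31) (ka xa13 ya23 za32) (ka xa13 ya23 za41) (ka xa14 ya12 za27) (ka xa14 ya12 za23) (ka xa13 ya17 za24) (ka xa13 ya17 za25) (ka xa13 ya17 za26) (ka xa13 ya17 za27) (ka xa30 ya34 za17) (ka xa14 ya17 za21) (ka xa30 ya34 za18) (ka xa14 ya14 za41) (ka xa30 ya34 za19) (ka xa24 ya0 za61) (ka xa30 ya21 za57) (ka xa30 ya34 za20) (ka xa30 ya34 za32) (ka xa14 ya13 za13) (ka xa14 ya13 za14) (ka xa13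 ya24 za26) (ka xa22 ya16 za26) (ka xa15 ya40 za5) (ka xa22 ya16 za30) (ka xa23 ya11 za30) (ka xa13 ya17 za43) (ka xa27 ya10 za45) (ka xa30 ya34 za36) (ka xa29 ya9 za2) (ka xa14 ya13 za59) (ka xa14 ya14 za0) (ka xa22 ya17 za61) (ka xa14 ya13 za45) (ka xa14 ya16 za45) (ka xa29 ya26 za1) (ka xa29 ya26 za2) (ka xa14 ya16 za58) (ka xa14 ya17 za0) (ka xa28 ya25 za22) (ka xa14 ya17 za2) (ka xa13 ya49 za47) (ka xa30 ya31 za12) (ka xa28 ya45 za34) (ka xa13 ya50 za5) (ka xa13 ya45 za27) (ka xa13 ya45 za31) (ka xa14 ya17 za22) (ka xa13 ya17 za61) (ka xa30 ya34 za53) (ka xa26 ya49 za1) (ka xa14 ya17 za27) (ka xa13 ya18 za1) (ka xa30 ya34 za56) (ka xa29 ya20 za2) (ka xa14 ya17 za31) (ka xa14 ya17 za32) (ka xa14 ya17 za34) (ka xa13 ya18 za7) (ka xa23 ya4 za11)) (@D3.rec (fun _ => Pt) (ka xa23 ya17 za43) (ka xa23 ya3 za39) (ka xa23 ya17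 za46) (ka xa23 ya17 za45) (ka xa23 ya20 za40) (ka xa22 ya49 za51) (ka xa30 ya35 za3) (ka xa13 ya56 za13) (ka xa13 ya56 za14) (ka xa13 ya23 za51) (ka xa13 ya23 za52) (ka xa14 ya13 za10) (ka xa14 ya16 za5) (ka xa13 ya18 za27) (ka xa13 ya18 za28) (ka xa20 ya24 za3) (ka xa22 ya18 za15) (ka xa13 ya53 za46) (ka xa22 ya18 za26) (ka xa22 ya18 za27) (ka xa24 ya29 za3) (ka xa24 ya29 za4) (ka xa14 ya3 za41) (ka xa22 ya18 za42) (ka xa18 ya47 za48) (ka xa22 ya29 za36) (ka xa29 ya29 za58) (ka xa22 ya18 za1) (ka xa22 ya18 za2) (ka xa14 ya14 za9) (ka xa14 ya14 za10) (ka xa14 ya14 za11) (ka xa14 ya14 za21) (ka xa19 ya20 za14) (ka xa14 ya14 za26) (ka xa27 ya53 za61) (ka xa14 ya14 za29) (ka xa18 ya6 za31) (ka xa14 ya14 za32) (ka xa22 ya18 za6) (ka xa22 ya18 za7) (ka xa30 ya35 za22) (ka xa14 ya14 za44) (ka xa14 ya14 za45) (ka xa14 ya14 za46)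 (ka xa14 ya14 za47) (ka xa14 ya14 za34) (ka xa13 ya18 za44) (ka xa13 ya18 za45) (ka xa14 ya14 za38) (ka xa14 ya14 za37) (ka xa30 ya35 za23) (ka xa30 ya35 za24) (ka xa24 ya5 za45) (ka xa14 ya12 za37) (ka xa30 ya35 za33) (ka xa14 ya14 za56) (ka xa14 ya14 za57) (ka xa14 ya14 za58) (ka xa14 ya14 za60) (ka xa22 ya18 za9) (ka xa22 ya18 za10)) (@D3.rec (fun _ => Pt) (ka xa27 ya45 za33) (ka xa14 ya15 za5) (ka xa14 ya15 za6) (ka xa14 ya15 za7) (ka xa14 ya15 za8) (ka xa14 ya15 za9) (ka xa13 ya18 za51) (ka xa27 ya34 za39) (ka xa30 ya35 za48) (ka xa24 ya54 za3) (ka xa14 ya15 za13) (ka xa30 ya23 za27) (ka xa14 ya15 za18) (ka xa28 ya46 za48) (ka xa22 ya18 za57) (ka xa22 ya18 za58) (ka xa22 ya15 za41) (ka xa14 ya1 za28) (ka xa14 ya1 za29) (ka xa14 ya1 za30) (ka xa14 ya1 za32) (ka xa20 ya24 za57) (ka xa23 ya37 za4) (ka xa22 ya44 za13)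 (ka xa13 ya22 za17) (ka xa13 ya22 za26) (ka xa30 ya7 za29) (ka xa24 ya24 za45) (ka xa17 ya11 za0) (ka xa22 ya37 za22) (ka xa13 ya57 za54) (ka xa30 ya7 za27) (ka xa13 ya19 za15) (ka xa13 ya19 za25) (ka xa22 ya38 za44) (ka xa23 ya24 za13) (ka xa22 ya38 za42) (ka xa23 ya20 za2) (ka xa14 ya28 za44) (ka xa21 ya38 za52) (ka xa14 ya36 za29) (ka xa19 ya7 za16) (ka xa17 ya11 za52) (ka xa30 ya36 za3) (ka xa21 ya53 za23) (ka xa23 ya10 za57) (ka xa22 ya58 za32) (ka xa22 ya58 za33) (ka xa30 ya29 za13) (ka xa22 ya58 za29) (ka xa22 ya58 za30) (ka xa14 ya11 za3) (ka xa23 ya11 za43) (ka xa20 ya11 za59) (ka xa30 ya33 za55) (ka xa23 ya11 za41) (ka xa23 ya11 za42) (ka xa23 ya11 za44) (ka xa16 ya22 za44) (ka xa14 ya35 za35) (ka xa14 ya35 za36) (ka xa14 ya35 za37)) (@D3.rec (fun _ => Pt) (ka xa14 ya35 za39) (ka xa14 ya35 za41) (ka xa14 ya35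 za42) (ka xa14 ya35 za44) (ka xa13 ya22 za22) (ka xa13 ya22 za23) (ka xa13 ya22 za29) (ka xa29 ya24 za46) (ka xa22 ya59 za18) (ka xa13 ya19 za47) (ka xa30 ya23 za11) (ka xa24 ya38 za43) (ka xa19 ya18 za57) (ka xa19 ya18 za54) (ka xa30 ya23 za20) (ka xa28 ya9 za57) (ka xa29 ya22 za35) (ka xa14 ya35 za7) (ka xa14 ya35 za8) (ka xa17 ya23 za25) (ka xa22 ya23 za32) (ka xa14 ya35 za20) (ka xa23 ya52 za19) (ka xa23 ya52 za20) (ka xa19 ya50 za48) (ka xa18 ya6 za37) (ka xa13 ya20 za0) (ka xa19 ya2 za8) (ka xa13 ya20 za12) (ka xa13 ya20 za16) (ka xa13 ya20 za8) (ka xa13 ya46 za30) (ka xa22 ya59 za30) (ka xa23 ya11 za10) (ka xa14 ya15 za43) (ka xa22 ya59 za10) (ka xa19 ya19 za4) (ka xa23 ya12 za0) (ka xa22 ya22 za39) (ka xa23 ya55 za2) (ka xa23 ya8 za30) (ka xa25 ya51 za52) (ka xa13 ya20 za21) (ka xa25 ya51 za50) (ka xa13 ya20 za27)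 (ka xa21 ya51 za35) (ka xa13 ya20 za18) (ka xa13 ya20 za19) (ka xa21 ya51 za39) (ka xa21 ya51 za38) (ka xa30 ya36 za48) (ka xa13 ya37 za2) (ka xa22 ya42 za29) (ka xa22 ya25 za32) (ka xa17 ya11 za37) (ka xa25 ya51 za51) (ka xa13 ya20 za28) (ka xa18 ya45 za47) (ka xa18 ya44 za45) (ka xa24 ya16 za37) (ka xa17 ya23 za52) (ka xa24 ya16 za38)) (@D3.rec (fun _ => Pt) (ka xa29 ya30 za56) (ka xa22 ya3 za37) (ka xa27 ya4 za50) (ka xa24 ya36 za36) (ka xa18 ya24 za47) (ka xa21 ya45 za59) (ka xa20 ya51 za45) (ka xa14 ya38 za51) (ka xa14 ya38 za49) (ka xa16 ya54 za27) (ka xa20 ya27 za33) (ka xa20 ya27 za34) (ka xa21 ya41 za54) (ka xa21 ya47 za45) (ka xa23 ya0 za16) (ka xa24 ya18 za50) (ka xa23 ya0 za14) (ka xa17 ya23 za49) (ka xa21 ya14 za0) (ka xa23 ya27 za27) (ka xa20 ya44 za21) (ka xa20 ya47 za30) (ka xa22 ya35 za29) (ka xa14 ya40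 za15) (ka xa24 ya11 za7) (ka xa24 ya11 za6) (ka xa23 ya47 za5) (ka xa23 ya47 za6) (ka xa24 ya11 za1) (ka xa24 ya11 za2) (ka xa24 ya11 za3) (ka xa24 ya5 za24) (ka xa23 ya47 za10) (ka xa23 ya48 za29) (ka xa24 ya5 za20) (ka xa14 ya36 za56) (ka xa14 ya36 za53) (ka xa24 ya2 za8) (ka xa24 ya2 za10) (ka xa30 ya32 za26) (ka xa24 ya11 za5) (ka xa30 ya34 za2) (ka xa24 ya22 za3) (ka xa13 ya21 za13) (ka xa13 ya21 za14) (ka xa13 ya21 za16) (ka xa13 ya21 za17) (ka xa13 ya21 za18) (ka xa23 ya27 za1) (ka xa23 ya27 za32) (ka xa23 ya27 za33) (ka xa13 ya25 za57) (ka xa22 ya56 za55) (ka xa20 ya20 za5) (ka xa29 ya9 za11) (ka xa30 ya34 za4) (ka xa26 ya24 za51) (ka xa14 ya40 za58) (ka xa26 ya2 za4) (ka xa30 ya7 za15) (ka xa23 ya34 za5) (ka xa14 ya28 za50)) (@D3.rec (fun _ => Pt) (ka xa21 ya53 za1) (ka xa29 ya55 za8) (ka xa30 ya37 za14) (ka xa24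 ya22 za6) (ka xa24 ya27 za60) (ka xa24 ya27 za61) (ka xa24 ya28 za0) (ka xa21 ya1 za6) (ka xa22 ya40 za36) (ka xa23 ya36 za4) (ka xa13 ya53 za8) (ka xa17 ya56 za11) (ka xa15 ya45 za55) (ka xa22 ya40 za48) (ka xa30 ya34 za0) (ka xa17 ya56 za2) (ka xa20 ya31 za61) (ka xa26 ya3 za49) (ka xa24 ya21 za30) (ka xa27 ya5 za20) (ka xa30 ya34 za1) (ka xa14 ya40 za60) (ka xa14 ya40 za61) (ka xa14 ya40 za59) (ka xa14 ya41 za0) (ka xa26 ya49 za32) (ka xa13 ya21 za38) (ka xa13 ya21 za41) (ka xa13 ya21 za42) (ka xa13 ya21 za45) (ka xa14 ya13 za20) (ka xa29 ya36 za42) (ka xa28 ya36 za10) (ka xa30 ya33 za61) (ka xa30 ya5 za31) (ka xa20 ya6 za34) (ka xa24 ya53 za17) (ka xa15 ya52 za61) (ka xa16 ya55 za28) (ka xa14 ya18 za39) (ka xa15 ya53 za1) (ka xa20 ya13 za20) (ka xa22 ya35 za36) (ka xa18 ya40 za56) (ka xa22 ya35 za34) (ka xa30 ya3 za23)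 (ka xa24 ya11 za13) (ka xa23 ya10 za59) (ka xa23 ya10 za60) (ka xa23 ya10 za61) (ka xa13 ya21 za54) (ka xa13 ya21 za55) (ka xa24 ya22 za4) (ka xa16 ya28 za11) (ka xa30 ya37 za33) (ka xa21 ya54 za61) (ka xa22 ya46 za32) (ka xa18 ya45 za38) (ka xa19 ya17 za46) (ka xa24 ya28 za10) (ka xa24 ya28 za12) (ka xa25 ya39 za51)) (@D3.rec (fun _ => Pt) (ka xa20 ya47 za44) (ka xa28 ya18 za14) (ka xa28 ya18 za13) (ka xa29 ya20 za14) (ka xa23 ya33 za54) (ka xa19 ya4 za31) (ka xa24 ya22 za41) (ka xa19 ya51 za7) (ka xa24 ya22 za42) (ka xa29 ya26 za44) (ka xa30 ya34 za5) (ka xa21 ya4 za6) (ka xa13 ya22 za9) (ka xa14 ya40 za16) (ka xa14 ya40 za17) (ka xa14 ya37 za48) (ka xa14 ya37 za46) (ka xa24 ya47 za36) (ka xa30 ya34 za6) (ka xa23 ya0 za45) (ka xa30 ya34 za7) (ka xa25 ya52 za5) (ka xa30 ya32 za27) (ka xa24 ya40 za38) (ka xa30 ya37 za55)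 (ka xa14 ya29 za40) (ka xa22 ya41 za39) (ka xa30 ya12 za40) (ka xa22 ya13 za22) (ka xa14 ya25 za30) (ka xa14 ya25 za28) (ka xa22 ya41 za38) (ka xa14 ya39 za43) (ka xa14 ya39 za44) (ka xa14 ya39 za46) (ka xa30 ya32 za20) (ka xa30 ya32 za19) (ka xa27 ya13 za29) (ka xa30 ya36 za28) (ka xa30 ya38 za8) (ka xa30 ya32 za23) (ka xa30 ya32 za24) (ka xa24 ya13 za38) (ka xa30 ya32 za25) (ka xa14 ya39 za42) (ka xa30 ya35 za56) (ka xa30 ya30 za48) (ka xa22 ya59 za26) (ka xa22 ya59 za24) (ka xa22 ya59 za25) (ka xa22 ya59 za27) (ka xa26 ya49 za26) (ka xa30 ya36 za29) (ka xa30 ya38 za27) (ka xa23 ya7 za34) (ka xa24 ya24 za55) (ka xa24 ya24 za56) (ka xa18 ya46 za60) (ka xa22 ya58 za13) (ka xa30 ya38 za33) (ka xa19 ya12 za49) (ka xa30 ya37 za54)) (@D3.rec (fun _ => Pt) (ka xa28 ya44 za4) (ka xa13 ya22 za34) (ka xa18 ya49 za59) (ka xa14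 ya53 za39) (ka xa23 ya26 za50) (ka xa22 ya13 za32) (ka xa22 ya13 za35) (ka xa22 ya13 za34) (ka xa30 ya7 za1) (ka xa30 ya7 za2) (ka xa14 ya11 za2) (ka xa30 ya38 za48) (ka xa22 ya13 za28) (ka xa22 ya13 za29) (ka xa22 ya13 za30) (ka xa22 ya13 za31) (ka xa13 ya22 za41) (ka xa14 ya12 za36) (ka xa13 ya22 za46) (ka xa14 ya12 za41) (ka xa14 ya12 za40) (ka xa17 ya15 za58) (ka xa30 ya3 za50) (ka xa22 ya21 za11) (ka xa14 ya29 za11) (ka xa24 ya26 za55) (ka xa14 ya29 za7) (ka xa22 ya20 za10) (ka xa18 ya46 za54) (ka xa30 ya38 za52) (ka xa19 ya52 za32) (ka xa30 ya30 za19) (ka xa13 ya22 za56) (ka xa17 ya15 za60) (ka xa26 ya53 za3) (ka xa29 ya48 za50) (ka xa22 ya38 za8) (ka xa24 ya28 za4) (ka xa24 ya28 za6) (ka xa24 ya29 za13) (ka xa24 ya29 za11) (ka xa13 ya22 za60) (ka xa30 ya37 za15) (ka xa30 ya34 za8) (ka xa30 ya34 za9) (ka xa30 ya38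 za61) (ka xa30 ya34 za10) (ka xa29 ya19 za41) (ka xa22 ya38 za13) (ka xa24 ya30 za1) (ka xa30 ya34 za12) (ka xa28 ya51 za5) (ka xa30 ya34 za13) (ka xa14 ya41 za5) (ka xa24 ya25 za34) (ka xa26 ya2 za52) (ka xa14 ya22 za59) (ka xa30 ya11 za35) (ka xa14 ya41 za4) (ka xa14 ya22 za56) (ka xa14 ya17 za37) (ka xa14 ya17 za20)) (@D3.rec (fun _ => Pt) (ka xa13 ya23 za9) (ka xa13 ya23 za13) (ka xa27 ya18 za57) (ka xa24 ya1 za40) (ka xa24 ya23 za1) (ka xa24 ya23 za3) (ka xa13 ya33 za61) (ka xa30 ya34 za14) (ka xa13 ya33 za56) (ka xa13 ya33 za54) (ka xa14 ya28 za18) (ka xa14 ya15 za42) (ka xa14 ya15 za45) (ka xa24 ya28 za16) (ka xa13 ya23 za22) (ka xa23 ya23 za47) (ka xa14 ya48 za15) (ka xa13 ya42 za51) (ka xa13 ya23 za29) (ka xa25 ya51 za32) (ka xa21 ya52 za9) (ka xa13 ya46 za48) (ka xa24 ya28 za40) (ka xa13 ya23 za40) (ka xa30 ya39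 za13) (ka xa30 ya39 za14) (ka xa24 ya23 za19) (ka xa24 ya23 za21) (ka xa30 ya34 za16) (ka xa13 ya51 za60) (ka xa13 ya23 za42) (ka xa14 ya23 za26) (ka xa22 ya50 za38) (ka xa27 ya6 za42) (ka xa27 ya6 za43) (ka xa30 ya31 za29) (ka xa14 ya24 za55) (ka xa14 ya24 za53) (ka xa22 ya39 za31) (ka xa22 ya39 za26) (ka xa30 ya23 za36) (ka xa24 ya27 za50) (ka xa24 ya10 za51) (ka xa22 ya49 za40) (ka xa13 ya23 za49) (ka xa18 ya49 za18) (ka xa23 ya6 za34) (ka xa22 ya14 za12) (ka xa30 ya35 za4) (ka xa30 ya35 za5) (ka xa14 ya26 za26) (ka xa30 ya5 za54) (ka xa30 ya32 za31) (ka xa30 ya32 za32) (ka xa24 ya7 za43) (ka xa13 ya33 za31) (ka xa30 ya32 za33) (ka xa23 ya3 za16) (ka xa13 ya23 za60) (ka xa13 ya52 za8) (ka xa13 ya52 za9) (ka xa13 ya52 za11)) (@D3.rec (fun _ => Pt) (ka xa14 ya44 za59) (ka xa13 ya51 za3) (ka xa30 ya31 za58) (ka xa13 ya51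 za2) (ka xa23 ya4 za23) (ka xa13 ya51 za15) (ka xa13 ya51 za14) (ka xa13 ya32 za7) (ka xa13 ya24 za6) (ka xa20 ya32 za34) (ka xa23 ya15 za39) (ka xa13 ya51 za21) (ka xa13 ya51 za22) (ka xa13 ya51 za23) (ka xa13 ya24 za8) (ka xa23 ya44 za12) (ka xa20 ya32 za31) (ka xa13 ya51 za8) (ka xa13 ya51 za9) (ka xa13 ya51 za10) (ka xa30 ya39 za56) (ka xa29 ya14 za34) (ka xa23 ya17 za39) (ka xa30 ya14 za0) (ka xa13 ya24 za21) (ka xa23 ya23 za48) (ka xa24 ya29 za35) (ka xa22 ya20 za47) (ka xa22 ya20 za45) (ka xa22 ya36 za52) (ka xa29 ya35 za4) (ka xa22 ya42 za43) (ka xa22 ya14 za32) (ka xa20 ya46 za10) (ka xa22 ya44 za0) (ka xa13 ya24 za23) (ka xa21 ya32 za25) (ka xa29 ya20 za13) (ka xa14 ya24 za45) (ka xa14 ya48 za20) (ka xa17 ya56 za8) (ka xa21 ya30 za6) (ka xa13 ya48 za35) (ka xa22 ya42 za31) (ka xa22 ya46 za42) (ka xa22 ya46 za43)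 (ka xa22 ya46 za45) (ka xa14 ya40 za36) (ka xa16 ya26 za13) (ka xa23 ya4 za22) (ka xa14 ya7 za30) (ka xa23 ya29 za6) (ka xa22 ya44 za9) (ka xa22 ya44 za10) (ka xa22 ya44 za11) (ka xa22 ya44 za12) (ka xa22 ya44 za14) (ka xa22 ya44 za15) (ka xa22 ya44 za17) (ka xa22 ya44 za16) (ka xa23 ya39 za45) (ka xa23 ya39 za46)) (@D3.rec (fun _ => Pt) (ka xa30 ya40 za21) (ka xa13 ya25 za4) (ka xa13 ya25 za5) (ka xa13 ya57 za23) (ka xa13 ya57 za19) (ka xa13 ya57 za20) (ka xa13 ya24 za49) (ka xa13 ya57 za26) (ka xa13 ya57 za25) (ka xa29 ya12 za3) (ka xa30 ya40 za25) (ka xa29 ya10 za31) (ka xa22 ya44 za35) (ka xa22 ya44 za36) (ka xa22 ya44 za37) (ka xa22 ya44 za38) (ka xa23 ya41 za3) (ka xa14 ya34 za18) (ka xa14 ya47 za31) (ka xa29 ya55 za13) (ka xa14 ya34 za27) (ka xa14 ya0 za0) (ka xa14 ya34 za33) (ka xa14 ya34 za36) (ka xa23 ya39 za48)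 (ka xa23 ya39 za49) (ka xa23 ya39 za50) (ka xa23 ya39 za51) (ka xa13 ya24 za56) (ka xa20 ya29 za53) (ka xa29 ya10 za28) (ka xa22 ya44 za52) (ka xa22 ya44 za53) (ka xa22 ya44 za54) (ka xa22 ya44 za55) (ka xa13 ya24 za59) (ka xa30 ya40 za55) (ka xa30 ya40 za56) (ka xa22 ya44 za48) (ka xa30 ya41 za0) (ka xa22 ya44 za58) (ka xa18 ya40 za24) (ka xa22 ya44 za60) (ka xa22 ya44 za59) (ka xa13 ya25 za2) (ka xa25 ya40 za19) (ka xa30 ya40 za41) (ka xa21 ya27 za55) (ka xa30 ya1 za3) (ka xa15 ya46 za12) (ka xa30 ya0 za26) (ka xa24 ya42 za29) (ka xa30 ya1 za22) (ka xa13 ya25 za8) (ka xa13 ya59 za43) (ka xa22 ya45 za13) (ka xa13 ya25 za10) (ka xa24 ya40 za44) (ka xa13 ya25 za12) (ka xa21 ya33 za2) (ka xa23 ya24 za32) (ka xa23 ya24 za29)) (@D3.rec (fun _ => Pt) (ka xa22 ya42 za34) (ka xa13 ya25 za15) (ka xa14 ya11 za21) (ka xa14 ya5 za41)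 (ka xa13 ya25 za20) (ka xa14 ya5 za48) (ka xa23 ya42 za1) (ka xa23 ya41 za59) (ka xa29 ya10 za33) (ka xa22 ya42 za52) (ka xa22 ya42 za53) (ka xa22 ya42 za54) (ka xa22 ya42 za55) (ka xa22 ya35 za23) (ka xa22 ya42 za56) (ka xa22 ya42 za57) (ka xa22 ya42 za59) (ka xa22 ya42 za58) (ka xa23 ya28 za42) (ka xa23 ya28 za43) (ka xa22 ya21 za7) (ka xa30 ya4 za4) (ka xa13 ya25 za48) (ka xa13 ya25 za49) (ka xa13 ya25 za51) (ka xa21 ya55 za6) (ka xa14 ya7 za26) (ka xa14 ya7 za27) (ka xa14 ya7 za24) (ka xa13 ya25 za32) (ka xa14 ya7 za29) (ka xa14 ya7 za28) (ka xa30 ya40 za3) (ka xa23 ya38 za42) (ka xa30 ya41 za49) (ka xa22 ya43 za12) (ka xa22 ya43 za13) (ka xa22 ya43 za14) (ka xa22 ya43 za15) (ka xa19 ya47 za10) (ka xa14 ya33 za55) (ka xa23 ya28 za45) (ka xa23 ya28 za46) (ka xa23 ya28 za47) (ka xa23 ya28 za48) (ka xa13 ya25 za37) (ka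 xa30 ya41 za60) (ka xa26 ya6 za39) (ka xa22 ya43 za38) (ka xa21 ya34 za37) (ka xa13 ya25 za40) (ka xa30 ya40 za48) (ka xa22 ya43 za31) (ka xa22 ya43 za32) (ka xa22 ya43 za33) (ka xa22 ya43 za34) (ka xa25 ya42 za60) (ka xa28 ya12 za0) (ka xa22 ya43 za40) (ka xa22 ya43 za43) (ka xa22 ya43 za42) (ka xa13 ya25 za45)) (@D3.rec (fun _ => Pt) (ka xa20 ya0 za1) (ka xa17 ya55 za57) (ka xa30 ya42 za14) (ka xa17 ya56 za3) (ka xa18 ya1 za6) (ka xa30 ya31 za46) (ka xa30 ya42 za21) (ka xa17 ya56 za12) (ka xa14 ya46 za54) (ka xa14 ya8 za58) (ka xa13 ya25 za52) (ka xa23 ya13 za23) (ka xa13 ya25 za53) (ka xa22 ya43 za55) (ka xa14 ya5 za18) (ka xa13 ya25 za56) (ka xa21 ya55 za26) (ka xa14 ya6 za57) (ka xa13 ya25 za58) (ka xa14 ya9 za10) (ka xa13 ya25 za59) (ka xa21 ya55 za42) (ka xa21 ya55 za46) (ka xa24 ya32 za41) (ka xa14 ya9 za50) (ka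 xa22 ya22 za22) (ka xa13 ya26 za5) (ka xa23 ya16 za28) (ka xa25 ya52 za0) (ka xa22 ya12 za15) (ka xa22 ya12 za16) (ka xa22 ya12 za17) (ka xa13 ya34 za54) (ka xa22 ya15 za48) (ka xa14 ya29 za29) (ka xa22 ya15 za46) (ka xa19 ya26 za32) (ka xa19 ya26 za31) (ka xa13 ya26 za29) (ka xa13 ya26 za30) (ka xa13 ya26 za31) (ka xa23 ya16 za17) (ka xa13 ya26 za13) (ka xa14 ya9 za46) (ka xa19 ya14 za50) (ka xa14 ya53 za18) (ka xa22 ya30 za30) (ka xa13 ya26 za18) (ka xa30 ya42 za34) (ka xa19 ya55 za11) (ka xa22 ya28 za1) (ka xa22 ya28 za2) (ka xa22 ya28 za3) (ka xa22 ya28 za5) (ka xa14 ya8 za54) (ka xa14 ya53 za22) (ka xa21 ya57 za7) (ka xa14 ya8 za53) (ka xa13 ya26 za23) (ka xa30 ya42 za37) (ka xa14 ya9 za14) (ka xa14 ya9 za15)) (@D3.rec (fun _ => Pt) (ka xa14 ya9 za16) (ka xa14 ya9 za0) (ka xa14 ya9 za1) (ka xa14 ya9 za3) (ka xa22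 ya28 za26) (ka xa22 ya28 za25) (ka xa26 ya0 za61) (ka xa28 ya1 za29) (ka xa23 ya32 za61) (ka xa30 ya42 za46) (ka xa28 ya1 za30) (ka xa23 ya1 za56) (ka xa30 ya20 za33) (ka xa13 ya49 za45) (ka xa23 ya3 za51) (ka xa22 ya46 za37) (ka xa23 ya3 za27) (ka xa23 ya4 za4) (ka xa13 ya26 za49) (ka xa23 ya4 za8) (ka xa29 ya54 za53) (ka xa29 ya18 za20) (ka xa25 ya51 za47) (ka xa23 ya4 za1) (ka xa23 ya4 za2) (ka xa23 ya4 za3) (ka xa16 ya26 za21) (ka xa13 ya43 za58) (ka xa29 ya56 za7) (ka xa13 ya43 za41) (ka xa16 ya52 za13) (ka xa17 ya24 za45) (ka xa22 ya38 za56) (ka xa18 ya41 za22) (ka xa20 ya41 za15) (ka xa14 ya41 za10) (ka xa14 ya44 za7) (ka xa22 ya46 za15) (ka xa20 ya19 za31) (ka xa23 ya3 za47) (ka xa23 ya3 za49) (ka xa28 ya48 za43) (ka xa22 ya42 za44) (ka xa22 ya42 za45) (ka xa21 ya7 za59) (ka xa22 ya42 za46) (ka xa14 ya41 za20)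 (ka xa14 ya31 za54) (ka xa22 ya27 za19) (ka xa14 ya27 za45) (ka xa30 ya42 za54) (ka xa14 ya44 za17) (ka xa14 ya44 za18) (ka xa14 ya44 za19) (ka xa14 ya44 za20) (ka xa13 ya29 za1) (ka xa22 ya53 za17) (ka xa13 ya28 za60) (ka xa14 ya45 za5) (ka xa22 ya50 za35) (ka xa22 ya20 za38) (ka xa13 ya53 za43)) (@D3.rec (fun _ => Pt) (ka xa13 ya27 za26) (ka xa13 ya27 za30) (ka xa22 ya6 za61) (ka xa30 ya23 za48) (ka xa18 ya55 za54) (ka xa30 ya42 za58) (ka xa23 ya4 za35) (ka xa20 ya11 za31) (ka xa23 ya4 za37) (ka xa23 ya4 za38) (ka xa22 ya31 za27) (ka xa23 ya3 za52) (ka xa20 ya36 za35) (ka xa13 ya44 za6) (ka xa28 ya6 za40) (ka xa21 ya52 za59) (ka xa14 ya25 za23) (ka xa19 ya52 za53) (ka xa16 ya28 za30) (ka xa13 ya30 za50) (ka xa23 ya4 za40) (ka xa15 ya7 za60) (ka xa16 ya31 za13) (ka xa22 ya52 za11) (ka xa22 ya52 za12) (ka xa14 ya27 za26)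 (ka xa22 ya22 za35) (ka xa21 ya14 za56) (ka xa23 ya4 za42) (ka xa29 ya27 za8) (ka xa22 ya24 za5) (ka xa23 ya4 za45) (ka xa23 ya4 za46) (ka xa23 ya4 za48) (ka xa30 ya43 za8) (ka xa23 ya4 za50) (ka xa29 ya15 za25) (ka xa23 ya4 za52) (ka xa22 ya24 za54) (ka xa22 ya24 za53) (ka xa25 ya26 za45) (ka xa13 ya31 za22) (ka xa13 ya31 za23) (ka xa13 ya31 za24) (ka xa13 ya31 za27) (ka xa13 ya31 za28) (ka xa13 ya31 za29) (ka xa13 ya31 za31) (ka xa13 ya31 za32) (ka xa13 ya32 za4) (ka xa28 ya49 za22) (ka xa13 ya31 za54) (ka xa13 ya31 za55) (ka xa13 ya31 za56) (ka xa13 ya31 za58) (ka xa13 ya31 za34) (ka xa13 ya28 za20) (ka xa13 ya31 za39) (ka xa13 ya31 za38) (ka xa30 ya43 za20) (ka xa16 ya32 za5) (ka xa25 ya34 za16)) (@D3.rec (fun _ => Pt) (ka xa13 ya32 za13) (ka xa13 ya32 za14) (ka xa13 ya32 za16) (ka xa29 ya15 za27) (ka xa13 ya32 za25)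 (ka xa13 ya32 za26) (ka xa13 ya32 za27) (ka xa13 ya28 za27) (ka xa20 ya33 za61) (ka xa20 ya32 za32) (ka xa22 ya6 za48) (ka xa13 ya32 za34) (ka xa13 ya32 za35) (ka xa13 ya32 za36) (ka xa13 ya32 za37) (ka xa19 ya37 za27) (ka xa13 ya32 za39) (ka xa26 ya26 za10) (ka xa13 ya32 za42) (ka xa13 ya32 za50) (ka xa13 ya32 za51) (ka xa13 ya32 za52) (ka xa13 ya33 za1) (ka xa13 ya33 za40) (ka xa13 ya28 za38) (ka xa29 ya37 za16) (ka xa13 ya33 za19) (ka xa13 ya33 za20) (ka xa13 ya33 za21) (ka xa13 ya33 za23) (ka xa13 ya33 za7) (ka xa13 ya33 za6) (ka xa26 ya30 za37) (ka xa26 ya24 za15) (ka xa13 ya33 za51) (ka xa13 ya33 za52) (ka xa14 ya28 za5) (ka xa14 ya28 za4) (ka xa22 ya21 za4) (ka xa22 ya21 za5) (ka xa15 ya39 za58) (ka xa13 ya34 za11) (ka xa13 ya34 za12) (ka xa13 ya34 za13) (ka xa13 ya34 za14) (ka xa22 ya30 za19) (ka xa13 ya28 za51)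 (ka xa13 ya35 za22) (ka xa13 ya35 za21) (ka xa29 ya50 za45) (ka xa30 ya27 za44) (ka xa13 ya35 za7) (ka xa13 ya35 za8) (ka xa13 ya35 za10) (ka xa13 ya34 za57) (ka xa22 ya24 za45) (ka xa13 ya28 za56) (ka xa13 ya28 za57) (ka xa30 ya43 za58) (ka xa30 ya43 za59) (ka xa14 ya29 za41) (ka xa13 ya35 za30)) (@D3.rec (fun _ => Pt) (ka xa13 ya35 za32) (ka xa13 ya34 za56) (ka xa30 ya31 za41) (ka xa13 ya46 za17) (ka xa30 ya33 za0) (ka xa17 ya1 za15) (ka xa17 ya1 za14) (ka xa13 ya35 za12) (ka xa13 ya29 za0) (ka xa24 ya6 za53) (ka xa30 ya34 za35) (ka xa24 ya1 za45) (ka xa22 ya52 za60) (ka xa22 ya52 za59) (ka xa13 ya29 za6) (ka xa13 ya29 za7) (ka xa23 ya15 za38) (ka xa23 ya0 za2) (ka xa23 ya0 za3) (ka xa22 ya59 za44) (ka xa22 ya59 za43) (ka xa30 ya24 za34) (ka xa20 ya8 za55) (ka xa28 ya56 za2) (ka xa26 ya56 za21) (ka xa30 ya44 za5) (ka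 xa19 ya8 za9) (ka xa13 ya36 za11) (ka xa13 ya36 za12) (ka xa30 ya26 za36) (ka xa13 ya36 za15) (ka xa13 ya36 za16) (ka xa14 ya28 za35) (ka xa22 ya28 za35) (ka xa13 ya29 za15) (ka xa23 ya6 za32) (ka xa30 ya31 za53) (ka xa23 ya6 za12) (ka xa28 ya25 za48) (ka xa22 ya51 za53) (ka xa22 ya41 za43) (ka xa29 ya53 za57) (ka xa16 ya21 za9) (ka xa22 ya51 za54) (ka xa13 ya38 za17) (ka xa24 ya54 za23) (ka xa29 ya25 za6) (ka xa29 ya25 za7) (ka xa27 ya52 za15) (ka xa29 ya25 za9) (ka xa18 ya30 za52) (ka xa22 ya34 za5) (ka xa20 ya10 za36) (ka xa23 ya6 za28) (ka xa20 ya10 za50) (ka xa23 ya6 za38) (ka xa13 ya29 za28) (ka xa13 ya29 za29) (ka xa23 ya6 za41) (ka xa23 ya6 za40) (ka xa29 ya41 za1) (ka xa30 ya44 za39)) (@D3.rec (fun _ => Pt) (ka xa22 ya57 za60) (ka xa22 ya57 za59) (ka xa13 ya52 za7) (ka xa30 ya31 za55) (ka xa23 ya51 za18) (ka xa23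 ya6 za45) (ka xa23 ya6 za46) (ka xa23 ya6 za47) (ka xa13 ya29 za35) (ka xa29 ya41 za3) (ka xa29 ya29 za34) (ka xa28 ya20 za51) (ka xa20 ya45 za24) (ka xa23 ya6 za49) (ka xa23 ya6 za50) (ka xa20 ya11 za18) (ka xa20 ya11 za19) (ka xa30 ya44 za51) (ka xa22 ya51 za40) (ka xa23 ya6 za53) (ka xa23 ya6 za54) (ka xa24 ya18 za16) (ka xa14 ya53 za51) (ka xa23 ya6 za58) (ka xa30 ya44 za56) (ka xa30 ya44 za60) (ka xa13 ya29 za43) (ka xa18 ya53 za13) (ka xa18 ya38 za44) (ka xa18 ya29 za19) (ka xa14 ya53 za40) (ka xa14 ya53 za41) (ka xa14 ya53 za42) (ka xa22 ya26 za46) (ka xa14 ya53 za52) (ka xa22 ya46 za59) (ka xa13 ya29 za51) (ka xa30 ya22 za56) (ka xa22 ya41 za32) (ka xa27 ya6 za46) (ka xa22 ya58 za11) (ka xa22 ya58 za12) (ka xa22 ya58 za14) (ka xa14 ya22 za41) (ka xa14 ya22 za39) (ka xa13 ya30 za0) (ka xa14 ya41 za29) (ka xa14 ya41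 za28) (ka xa14 ya24 za29) (ka xa14 ya41 za32) (ka xa24 ya16 za48) (ka xa14 ya28 za31) (ka xa23 ya6 za2) (ka xa23 ya6 za30) (ka xa23 ya6 za31) (ka xa20 ya11 za15) (ka xa20 ya11 za16) (ka xa20 ya11 za12) (ka xa20 ya11 za13) (ka xa28 ya7 za61) (ka xa20 ya11 za14) (ka xa16 ya20 za21)) (@D3.rec (fun _ => Pt) (ka xa16 ya20 za22) (ka xa23 ya6 za22) (ka xa23 ya6 za23) (ka xa13 ya30 za13) (ka xa22 ya51 za23) (ka xa26 ya29 za29) (ka xa15 ya8 za31) (ka xa21 ya7 za51) (ka xa21 ya14 za39) (ka xa23 ya7 za1) (ka xa13 ya30 za28) (ka xa13 ya30 za31) (ka xa14 ya25 za53) (ka xa14 ya53 za30) (ka xa26 ya32 za38) (ka xa29 ya18 za56) (ka xa22 ya51 za18) (ka xa23 ya20 za23) (ka xa22 ya51 za16) (ka xa28 ya10 za37) (ka xa26 ya29 za28) (ka xa16 ya32 za46) (ka xa26 ya49 za52) (ka xa22 ya51 za4) (ka xa30 ya45 za38) (ka xa23 ya5 za53) (ka xa26 ya32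 za50) (ka xa16 ya21 za37) (ka xa16 ya21 za26) (ka xa16 ya21 za38) (ka xa16 ya21 za27) (ka xa24 ya29 za0) (ka xa23 ya7 za13) (ka xa23 ya7 za14) (ka xa23 ya7 za25) (ka xa23 ya7 za26) (ka xa15 ya0 za22) (ka xa16 ya33 za16) (ka xa30 ya45 za47) (ka xa28 ya45 za46) (ka xa22 ya50 za18) (ka xa30 ya45 za49) (ka xa27 ya59 za6) (ka xa13 ya30 za46) (ka xa30 ya45 za48) (ka xa23 ya7 za35) (ka xa23 ya7 za36) (ka xa21 ya14 za42) (ka xa17 ya46 za30) (ka xa30 ya31 za59) (ka xa26 ya49 za53) (ka xa26 ya31 za34) (ka xa29 ya25 za8) (ka xa22 ya49 za39) (ka xa22 ya49 za43) (ka xa28 ya5 za39) (ka xa18 ya13 za25) (ka xa21 ya7 za58) (ka xa16 ya21 za24) (ka xa23 ya7 za11) (ka xa16 ya21 za28) (ka xa23 ya7 za15)) (@D3.rec (fun _ => Pt) (ka xa23 ya7 za16) (ka xa23 ya7 za27) (ka xa23 ya7 za28) (ka xa23 ya7 za17) (ka xa23 ya7 za18) (ka xa23 ya7 za19)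 (ka xa28 ya11 za7) (ka xa28 ya11 za6) (ka xa13 ya31 za5) (ka xa16 ya31 za16) (ka xa20 ya29 za24) (ka xa22 ya47 za23) (ka xa22 ya47 za24) (ka xa13 ya42 za9) (ka xa13 ya42 za10) (ka xa13 ya42 za13) (ka xa13 ya42 za14) (ka xa20 ya44 za0) (ka xa13 ya42 za17) (ka xa20 ya33 za50) (ka xa15 ya23 za48) (ka xa24 ya59 za46) (ka xa24 ya59 za44) (ka xa25 ya5 za12) (ka xa16 ya25 za56) (ka xa30 ya46 za10) (ka xa25 ya9 za5) (ka xa29 ya28 za28) (ka xa23 ya20 za26) (ka xa23 ya20 za25) (ka xa13 ya50 za54) (ka xa29 ya28 za29) (ka xa13 ya50 za53) (ka xa29 ya41 za9) (ka xa28 ya9 za47) (ka xa25 ya4 za49) (ka xa25 ya12 za58) (ka xa24 ya9 za21) (ka xa24 ya9 za20) (ka xa16 ya28 za43) (ka xa28 ya57 za36) (ka xa15 ya17 za18) (ka xa15 ya35 za46) (ka xa16 ya28 za33) (ka xa16 ya28 za34) (ka xa16 ya28 za35) (ka xa28 ya57 za38) (ka xa26 ya23 za54) (ka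 xa30 ya43 za13) (ka xa30 ya18 za48) (ka xa30 ya43 za14) (ka xa30 ya43 za15) (ka xa22 ya21 za0) (ka xa14 ya51 za41) (ka xa25 ya35 za8) (ka xa29 ya28 za15) (ka xa29 ya53 za17) (ka xa30 ya43 za16) (ka xa23 ya57 za42) (ka xa22 ya49 za13) (ka xa22 ya49 za12) (ka xa13 ya31 za40)) (@D3.rec (fun _ => Pt) (ka xa13 ya31 za41) (ka xa13 ya33 za60) (ka xa14 ya26 za27) (ka xa14 ya26 za28) (ka xa30 ya43 za22) (ka xa17 ya1 za1) (ka xa30 ya43 za21) (ka xa26 ya20 za25) (ka xa30 ya43 za24) (ka xa30 ya43 za23) (ka xa27 ya59 za0) (ka xa30 ya46 za26) (ka xa18 ya53 za1) (ka xa30 ya46 za27) (ka xa30 ya46 za28) (ka xa29 ya30 za6) (ka xa28 ya23 za2) (ka xa22 ya46 za56) (ka xa29 ya30 za5) (ka xa23 ya8 za11) (ka xa19 ya39 za60) (ka xa24 ya9 za15) (ka xa24 ya9 za16) (ka xa30 ya46 za49) (ka xa24 ya8 za44) (ka xa22 ya55 za50) (ka xa22 ya55 za55) (ka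 xa24 ya14 za12) (ka xa24 ya14 za8) (ka xa13 ya31 za52) (ka xa25 ya34 za13) (ka xa27 ya58 za61) (ka xa14 ya39 za26) (ka xa22 ya56 za2) (ka xa22 ya56 za5) (ka xa30 ya43 za17) (ka xa30 ya43 za18) (ka xa22 ya23 za30) (ka xa30 ya43 za19) (ka xa23 ya15 za7) (ka xa21 ya38 za55) (ka xa23 ya15 za6) (ka xa14 ya11 za13) (ka xa13 ya48 za42) (ka xa13 ya48 za43) (ka xa13 ya48 za41) (ka xa13 ya48 za44) (ka xa23 ya18 za44) (ka xa13 ya32 za3) (ka xa13 ya32 za9) (ka xa13 ya32 za10) (ka xa13 ya52 za54) (ka xa23 ya38 za27) (ka xa20 ya30 za23) (ka xa21 ya13 za54) (ka xa25 ya34 za17) (ka xa25 ya4 za61) (ka xa24 ya8 za2) (ka xa22 ya56 za52) (ka xa22 ya56 za54) (ka xa23 ya27 za3) (ka xa30 ya37 za9)) (@D3.rec (fun _ => Pt) (ka xa23 ya27 za39) (ka xa25 ya12 za43) (ka xa17 ya59 za54) (ka xa26 ya25 za39) (ka xa13 ya32 za18) (ka xa13 ya32 za19) (ka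 xa13 ya32 za20) (ka xa30 ya43 za27) (ka xa14 ya25 za41) (ka xa22 ya6 za52) (ka xa30 ya47 za16) (ka xa30 ya47 za17) (ka xa13 ya51 za7) (ka xa30 ya47 za18) (ka xa30 ya47 za19) (ka xa30 ya47 za20) (ka xa22 ya59 za13) (ka xa27 ya42 za7) (ka xa15 ya15 za49) (ka xa15 ya15 za50) (ka xa15 ya15 za51) (ka xa23 ya9 za5) (ka xa30 ya43 za26) (ka xa27 ya59 za21) (ka xa28 ya23 za58) (ka xa27 ya59 za20) (ka xa28 ya28 za28) (ka xa13 ya32 za29) (ka xa13 ya32 za30) (ka xa13 ya32 za31) (ka xa22 ya6 za34) (ka xa19 ya56 za40) (ka xa24 ya59 za26) (ka xa29 ya50 za23) (ka xa15 ya37 za11) (ka xa14 ya32 za5) (ka xa24 ya9 za37) (ka xa24 ya9 za40) (ka xa25 ya26 za5) (ka xa30 ya43 za29) (ka xa15 ya31 za9) (ka xa30 ya43 za30) (ka xa30 ya37 za13) (ka xa24 ya31 za24) (ka xa16 ya27 za13) (ka xa13 ya32 za38) (ka xa30 ya47 za36) (ka xa19 ya37 za25) (ka xa15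 ya21 za4) (ka xa19 ya37 za28) (ka xa14 ya51 za22) (ka xa13 ya32 za40) (ka xa22 ya20 za52) (ka xa25 ya36 za24) (ka xa25 ya25 za46) (ka xa29 ya37 za45) (ka xa23 ya56 za6) (ka xa13 ya33 za50) (ka xa29 ya37 za15) (ka xa15 ya39 za61) (ka xa26 ya24 za20) (ka xa24 ya38 za61)) (@D3.rec (fun _ => Pt) (ka xa30 ya46 za48) (ka xa24 ya39 za1) (ka xa24 ya39 za2) (ka xa24 ya39 za3) (ka xa15 ya39 za29) (ka xa30 ya43 za33) (ka xa30 ya43 za34) (ka xa15 ya34 za19) (ka xa26 ya56 za25) (ka xa22 ya9 za7) (ka xa30 ya36 za46) (ka xa30 ya43 za35) (ka xa30 ya36 za47) (ka xa26 ya28 za36) (ka xa22 ya20 za32) (ka xa14 ya47 za17) (ka xa13 ya32 za55) (ka xa14 ya47 za21) (ka xa14 ya47 za20) (ka xa18 ya52 za51) (ka xa18 ya52 za49) (ka xa27 ya44 za16) (ka xa14 ya47 za14) (ka xa14 ya47 za16) (ka xa13 ya32 za61) (ka xa30 ya24 za37) (ka xa21 ya39 za42) (ka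 xa30 ya43 za36) (ka xa30 ya43 za37) (ka xa20 ya36 za61) (ka xa19 ya56 za53) (ka xa14 ya51 za30) (ka xa26 ya30 za51) (ka xa22 ya27 za46) (ka xa13 ya33 za8) (ka xa13 ya33 za9) (ka xa13 ya33 za11) (ka xa29 ya53 za2) (ka xa23 ya10 za6) (ka xa29 ya53 za1) (ka xa23 ya8 za40) (ka xa23 ya8 za38) (ka xa26 ya31 za40) (ka xa30 ya48 za1) (ka xa28 ya4 za34) (ka xa23 ya31 za24) (ka xa24 ya59 za61) (ka xa18 ya28 za41) (ka xa13 ya49 za3) (ka xa18 ya28 za42) (ka xa22 ya53 za25) (ka xa24 ya9 za22) (ka xa24 ya9 za23) (ka xa24 ya9 za24) (ka xa23 ya10 za33) (ka xa22 ya53 za26) (ka xa24 ya9 za27) (ka xa24 ya9 za28) (ka xa17 ya57 za24) (ka xa13 ya33 za18) (ka xa30 ya48 za12) (ka xa30 ya43 za40)) (@D3.rec (fun _ => Pt) (ka xa29 ya38 za22) (ka xa30 ya48 za18) (ka xa22 ya53 za33) (ka xa24 ya59 za59) (ka xa30 ya48 za21) (ka xa22 ya53 za34) (ka xa23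 ya18 za25) (ka xa30 ya43 za43) (ka xa23 ya18 za48) (ka xa23 ya18 za49) (ka xa13 ya48 za48) (ka xa23 ya18 za50) (ka xa30 ya48 za32) (ka xa14 ya14 za42) (ka xa13 ya33 za26) (ka xa24 ya38 za33) (ka xa13 ya33 za30) (ka xa25 ya29 za9) (ka xa28 ya50 za49) (ka xa29 ya32 za12) (ka xa30 ya39 za51) (ka xa14 ya24 za23) (ka xa13 ya33 za34) (ka xa14 ya24 za26) (ka xa14 ya24 za25) (ka xa29 ya44 za18) (ka xa30 ya48 za38) (ka xa14 ya22 za48) (ka xa14 ya24 za50) (ka xa14 ya24 za51) (ka xa14 ya24 za52) (ka xa14 ya24 za54) (ka xa23 ya4 za10) (ka xa13 ya33 za38) (ka xa22 ya56 za39) (ka xa13 ya43 za44) (ka xa30 ya43 za38) (ka xa30 ya43 za39) (ka xa13 ya33 za45) (ka xa22 ya56 za34) (ka xa23 ya10 za18) (ka xa23 ya10 za19) (ka xa24 ya9 za31) (ka xa29 ya50 za2) (ka xa20 ya36 za56) (ka xa30 ya26 za41) (ka xa30 ya48 za49) (ka xa29 ya31 za1) (ka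 xa26 ya23 za3) (ka xa29 ya31 za47) (ka xa30 ya43 za48) (ka xa29 ya53 za51) (ka xa22 ya53 za58) (ka xa28 ya58 za5) (ka xa22 ya53 za59) (ka xa22 ya37 za52) (ka xa20 ya1 za0) (ka xa23 ya27 za19) (ka xa21 ya12 za61) (ka xa23 ya47 za49) (ka xa30 ya46 za29) (ka xa28 ya22 za60)) (@D3.rec (fun _ => Pt) (ka xa14 ya27 za0) (ka xa24 ya29 za23) (ka xa28 ya29 za30) (ka xa13 ya51 za54) (ka xa13 ya34 za0) (ka xa14 ya19 za5) (ka xa14 ya19 za6) (ka xa14 ya22 za23) (ka xa14 ya19 za3) (ka xa13 ya34 za4) (ka xa14 ya19 za9) (ka xa14 ya19 za8) (ka xa22 ya58 za38) (ka xa14 ya32 za6) (ka xa14 ya31 za51) (ka xa13 ya34 za6) (ka xa30 ya26 za34) (ka xa30 ya49 za11) (ka xa24 ya38 za58) (ka xa24 ya38 za59) (ka xa19 ya7 za25) (ka xa14 ya31 za41) (ka xa14 ya39 za25) (ka xa15 ya40 za2) (ka xa15 ya39 za28) (ka xa15 ya39 za27) (ka xa30 ya36 za19) (ka xa24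 ya8 za4) (ka xa24 ya18 za53) (ka xa23 ya34 za1) (ka xa25 ya50 za43) (ka xa24 ya8 za5) (ka xa13 ya45 za29) (ka xa28 ya14 za5) (ka xa29 ya30 za14) (ka xa22 ya30 za48) (ka xa22 ya30 za49) (ka xa14 ya0 za55) (ka xa13 ya46 za47) (ka xa14 ya16 za29) (ka xa14 ya16 za30) (ka xa14 ya16 za27) (ka xa14 ya16 za28) (ka xa13 ya34 za30) (ka xa22 ya12 za56) (ka xa14 ya16 za34) (ka xa14 ya16 za35) (ka xa14 ya16 za32) (ka xa14 ya16 za36) (ka xa28 ya14 za53) (ka xa28 ya20 za4) (ka xa28 ya23 za15) (ka xa18 ya4 za19) (ka xa23 ya11 za34) (ka xa30 ya49 za34) (ka xa18 ya4 za20) (ka xa23 ya11 za36) (ka xa14 ya43 za0) (ka xa13 ya34 za38) (ka xa22 ya50 za1) (ka xa22 ya50 za0) (ka xa22 ya20 za39)) (@D3.rec (fun _ => Pt) (ka xa23 ya4 za28) (ka xa23 ya4 za27) (ka xa23 ya53 za14) (ka xa24 ya6 za44) (ka xa23 ya52 za50) (ka xa23 ya52 za49) (ka xa30 ya49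 za48) (ka xa23 ya13 za34) (ka xa30 ya49 za55) (ka xa23 ya13 za36) (ka xa23 ya13 za37) (ka xa22 ya50 za40) (ka xa22 ya50 za41) (ka xa22 ya39 za58) (ka xa22 ya50 za42) (ka xa28 ya16 za36) (ka xa22 ya15 za4) (ka xa21 ya57 za4) (ka xa22 ya15 za47) (ka xa23 ya37 za23) (ka xa14 ya38 za24) (ka xa22 ya27 za5) (ka xa30 ya13 za28) (ka xa13 ya35 za0) (ka xa13 ya35 za3) (ka xa13 ya35 za4) (ka xa13 ya35 za6) (ka xa13 ya55 za9) (ka xa30 ya50 za7) (ka xa22 ya35 za49) (ka xa22 ya35 za50) (ka xa23 ya46 za32) (ka xa22 ya35 za46) (ka xa22 ya35 za47) (ka xa28 ya46 za39) (ka xa22 ya16 za58) (ka xa23 ya23 za52) (ka xa14 ya52 za56) (ka xa22 ya57 za12) (ka xa30 ya50 za8) (ka xa22 ya20 za48) (ka xa14 ya41 za11) (ka xa14 ya40 za29) (ka xa14 ya40 za28) (ka xa29 ya40 za23) (ka xa21 ya11 za12) (ka xa30 ya43 za57) (ka xa30 ya37 za27) (ka xa30 ya36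 za52) (ka xa14 ya40 za48) (ka xa14 ya40 za49) (ka xa14 ya40 za47) (ka xa14 ya40 za50) (ka xa26 ya51 za45) (ka xa19 ya41 za43) (ka xa22 ya14 za58) (ka xa22 ya16 za34) (ka xa23 ya11 za60) (ka xa13 ya35 za15) (ka xa14 ya10 za47) (ka xa14 ya33 za51) (ka xa13 ya35 za25)) (@D3.rec (fun _ => Pt) (ka xa22 ya16 za33) (ka xa20 ya18 za54) (ka xa13 ya35 za23) (ka xa13 ya35 za24) (ka xa13 ya35 za26) (ka xa13 ya35 za27) (ka xa13 ya35 za28) (ka xa23 ya52 za22) (ka xa30 ya43 za54) (ka xa30 ya43 za55) (ka xa22 ya36 za35) (ka xa29 ya50 za61) (ka xa21 ya5 za9) (ka xa22 ya54 za16) (ka xa24 ya6 za57) (ka xa30 ya50 za25) (ka xa24 ya6 za54) (ka xa22 ya24 za6) (ka xa22 ya36 za8) (ka xa16 ya52 za20) (ka xa24 ya18 za55) (ka xa30 ya44 za4) (ka xa30 ya38 za13) (ka xa24 ya18 za54) (ka xa22 ya39 za48) (ka xa22 ya39 za49) (ka xa22 ya39 za47) (ka xa22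 ya39 za50) (ka xa28 ya17 za23) (ka xa13 ya35 za36) (ka xa22 ya36 za32) (ka xa30 ya33 za3) (ka xa30 ya50 za46) (ka xa14 ya11 za4) (ka xa13 ya35 za42) (ka xa15 ya40 za8) (ka xa29 ya37 za37) (ka xa15 ya8 za1) (ka xa13 ya35 za53) (ka xa13 ya35 za54) (ka xa13 ya35 za55) (ka xa30 ya6 za44) (ka xa23 ya12 za3) (ka xa22 ya49 za20) (ka xa22 ya49 za19) (ka xa13 ya35 za50) (ka xa20 ya7 za53) (ka xa17 ya56 za56) (ka xa16 ya46 za11) (ka xa22 ya17 za23) (ka xa30 ya50 za55) (ka xa19 ya39 za56) (ka xa19 ya37 za32) (ka xa30 ya50 za51) (ka xa19 ya37 za31) (ka xa29 ya19 za3) (ka xa29 ya39 za47) (ka xa29 ya39 za34) (ka xa13 ya35 za58) (ka xa18 ya57 za17) (ka xa18 ya56 za56) (ka xa23 ya11 za55))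
def f_a_23 : D2 → D3 → Pt := @D2.rec (fun _ => D3 → Pt) (@D3.rec (fun _ => Pt) (ka xa28 ya21 za13) (ka xa23 ya43 za32) (ka xa22 ya49 za17) (ka xa22 ya49 za18) (ka xa23 ya19 za38) (ka xa22 ya32 za2) (ka xa13 ya36 za4) (ka xa26 ya49 za8) (ka xa26 ya56 za7) (ka xa29 ya6 za40) (ka xa23 ya0 za42) (ka xa23 ya0 za43) (ka xa29 ya21 za32) (ka xa23 ya0 za46) (ka xa22 ya37 za16) (ka xa15 ya39 za25) (ka xa22 ya37 za14) (ka xa30 ya36 za21) (ka xa13 ya36 za9) (ka xa30 ya26 za39) (ka xa19 ya7 za60) (ka xa19 ya8 za1) (ka xa23 ya53 za41) (ka xa20 ya11 za38) (ka xa23 ya54 za22) (ka xa15 ya40 za44) (ka xa14 ya31 za46) (ka xa25 ya31 za41) (ka xa19 ya2 za39) (ka xa24 ya20 za59) (ka xa24 ya22 za12) (ka xa30 ya44 za16) (ka xa13 ya36 za13) (ka xa19 ya8 za10) (ka xa30 ya26 za35) (ka xa23 ya54 za61) (ka xa25 ya43 za12) (ka xa14 ya31 za52) (ka xa29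 ya52 za41) (ka xa30 ya44 za18) (ka xa30 ya36 za26) (ka xa30 ya36 za16) (ka xa23 ya0 za10) (ka xa23 ya0 za11) (ka xa30 ya50 za23) (ka xa22 ya39 za19) (ka xa23 ya0 za13) (ka xa23 ya10 za34) (ka xa23 ya1 za28) (ka xa13 ya36 za23) (ka xa17 ya26 za6) (ka xa23 ya1 za22) (ka xa23 ya1 za23) (ka xa23 ya1 za24) (ka xa26 ya31 za37) (ka xa24 ya57 za43) (ka xa19 ya10 za7) (ka xa29 ya31 za55) (ka xa18 ya53 za35) (ka xa18 ya53 za37) (ka xa23 ya12 za12) (ka xa14 ya0 za35)) (@D3.rec (fun _ => Pt) (ka xa13 ya36 za31) (ka xa14 ya29 za46) (ka xa21 ya23 za20) (ka xa14 ya29 za15) (ka xa14 ya0 za47) (ka xa24 ya37 za8) (ka xa24 ya37 za9) (ka xa24 ya37 za10) (ka xa17 ya3 za42) (ka xa22 ya21 za3) (ka xa22 ya20 za31) (ka xa14 ya28 za6) (ka xa14 ya28 za7) (ka xa30 ya9 za43) (ka xa13 ya37 za0) (ka xa22 ya22 za12) (ka xa13 ya37 za10) (ka xa22 ya23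 za3) (ka xa22 ya23 za5) (ka xa13 ya36 za52) (ka xa13 ya39 za61) (ka xa27 ya15 za39) (ka xa23 ya0 za51) (ka xa23 ya0 za52) (ka xa23 ya0 za53) (ka xa13 ya36 za55) (ka xa20 ya43 za12) (ka xa20 ya43 za30) (ka xa23 ya0 za48) (ka xa23 ya56 za39) (ka xa21 ya12 za2) (ka xa20 ya43 za28) (ka xa16 ya45 za39) (ka xa13 ya36 za60) (ka xa25 ya36 za36) (ka xa21 ya50 za29) (ka xa19 ya45 za24) (ka xa19 ya45 za23) (ka xa30 ya51 za31) (ka xa27 ya9 za37) (ka xa27 ya13 za3) (ka xa27 ya13 za4) (ka xa29 ya39 za13) (ka xa27 ya13 za0) (ka xa13 ya37 za4) (ka xa25 ya57 za32) (ka xa14 ya9 za61) (ka xa18 ya2 za3) (ka xa16 ya45 za36) (ka xa14 ya50 za35) (ka xa25 ya49 za35) (ka xa21 ya25 za3) (ka xa17 ya36 za30) (ka xa13 ya37 za12) (ka xa18 ya8 za28) (ka xa21 ya25 za19) (ka xa22 ya46 za11) (ka xa23 ya2 za4) (ka xa23 ya2 za5) (ka xa23 ya25 za5) (ka xa23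 ya25 za6) (ka xa13 ya37 za26)) (@D3.rec (fun _ => Pt) (ka xa13 ya37 za27) (ka xa13 ya37 za28) (ka xa14 ya9 za34) (ka xa13 ya37 za24) (ka xa23 ya1 za57) (ka xa23 ya1 za58) (ka xa18 ya36 za60) (ka xa30 ya51 za55) (ka xa18 ya29 za11) (ka xa30 ya51 za51) (ka xa24 ya40 za19) (ka xa30 ya32 za51) (ka xa18 ya29 za12) (ka xa24 ya43 za61) (ka xa30 ya51 za53) (ka xa30 ya23 za54) (ka xa30 ya23 za55) (ka xa22 ya27 za45) (ka xa22 ya27 za43) (ka xa22 ya27 za44) (ka xa22 ya27 za38) (ka xa22 ya27 za4) (ka xa23 ya45 za11) (ka xa14 ya0 za42) (ka xa23 ya54 za27) (ka xa23 ya54 za28) (ka xa24 ya56 za51) (ka xa21 ya27 za56) (ka xa23 ya30 za37) (ka xa19 ya33 za8) (ka xa13 ya37 za44) (ka xa30 ya13 za30) (ka xa23 ya43 za42) (ka xa21 ya31 za32) (ka xa21 ya24 za51) (ka xa30 ya52 za8) (ka xa23 ya3 za3) (ka xa23 ya3 za4) (ka xa23 ya3 za5) (ka xa23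 ya3 za6) (ka xa20 ya15 za0) (ka xa28 ya41 za17) (ka xa21 ya28 za24) (ka xa21 ya28 za25) (ka xa15 ya48 za39) (ka xa13 ya37 za50) (ka xa21 ya28 za19) (ka xa15 ya48 za28) (ka xa21 ya28 za20) (ka xa21 ya26 za59) (ka xa21 ya31 za39) (ka xa18 ya50 za24) (ka xa21 ya31 za30) (ka xa20 ya19 za18) (ka xa15 ya46 za18) (ka xa13 ya38 za4) (ka xa13 ya38 za5) (ka xa13 ya38 za6) (ka xa13 ya37 za61) (ka xa23 ya15 za53) (ka xa13 ya50 za27) (ka xa13 ya51 za46)) (@D3.rec (fun _ => Pt) (ka xa13 ya51 za45) (ka xa13 ya38 za2) (ka xa30 ya52 za25) (ka xa23 ya2 za36) (ka xa23 ya2 za37) (ka xa23 ya2 za38) (ka xa23 ya2 za39) (ka xa30 ya12 za58) (ka xa30 ya52 za21) (ka xa24 ya30 za40) (ka xa18 ya42 za42) (ka xa30 ya12 za59) (ka xa30 ya32 za7) (ka xa30 ya52 za22) (ka xa30 ya52 za42) (ka xa16 ya10 za29) (ka xa22 ya41 za57) (ka xa13 ya46 za61) (ka xa13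 ya47 za0) (ka xa16 ya24 za13) (ka xa13 ya38 za16) (ka xa21 ya14 za29) (ka xa14 ya5 za17) (ka xa22 ya29 za5) (ka xa27 ya41 za8) (ka xa29 ya38 za50) (ka xa17 ya56 za57) (ka xa22 ya46 za16) (ka xa14 ya5 za20) (ka xa21 ya29 za27) (ka xa19 ya49 za60) (ka xa14 ya59 za31) (ka xa16 ya24 za9) (ka xa13 ya57 za50) (ka xa13 ya57 za52) (ka xa13 ya57 za53) (ka xa16 ya23 za52) (ka xa20 ya51 za4) (ka xa13 ya38 za34) (ka xa22 ya34 za1) (ka xa24 ya9 za25) (ka xa26 ya46 za61) (ka xa20 ya52 za4) (ka xa13 ya49 za16) (ka xa16 ya24 za54) (ka xa22 ya13 za13) (ka xa16 ya30 za26) (ka xa22 ya46 za39) (ka xa20 ya45 za52) (ka xa22 ya46 za40) (ka xa21 ya41 za51) (ka xa22 ya46 za14) (ka xa22 ya47 za11) (ka xa16 ya24 za2) (ka xa16 ya24 za3) (ka xa15 ya25 za31) (ka xa26 ya28 za1) (ka xa16 ya24 za0) (ka xa16 ya24 za1) (ka xa14 ya44 za51) (ka xa20 ya1 za40)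 (ka xa20 ya6 za35)) (@D3.rec (fun _ => Pt) (ka xa29 ya24 za41) (ka xa22 ya46 za23) (ka xa22 ya46 za24) (ka xa22 ya46 za25) (ka xa22 ya46 za17) (ka xa20 ya30 za6) (ka xa13 ya39 za0) (ka xa20 ya19 za43) (ka xa22 ya46 za19) (ka xa26 ya56 za1) (ka xa22 ya56 za32) (ka xa22 ya33 za61) (ka xa21 ya16 za39) (ka xa13 ya39 za4) (ka xa29 ya14 za46) (ka xa20 ya6 za4) (ka xa20 ya11 za28) (ka xa30 ya52 za57) (ka xa13 ya39 za7) (ka xa30 ya52 za56) (ka xa16 ya24 za44) (ka xa16 ya55 za7) (ka xa22 ya42 za49) (ka xa22 ya42 za4) (ka xa13 ya53 za33) (ka xa13 ya39 za20) (ka xa13 ya39 za21) (ka xa22 ya58 za1) (ka xa22 ya58 za0) (ka xa29 ya1 za45) (ka xa30 ya52 za60) (ka xa28 ya22 za50) (ka xa29 ya3 za1) (ka xa28 ya24 za3) (ka xa29 ya21 za22) (ka xa22 ya47 za6) (ka xa29 ya21 za16) (ka xa22 ya47 za8) (ka xa22 ya47 za9) (ka xa15 ya7 za13) (ka xa22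 ya47 za20) (ka xa24 ya14 za34) (ka xa22 ya47 za28) (ka xa14 ya28 za12) (ka xa22 ya16 za45) (ka xa22 ya47 za31) (ka xa22 ya47 za32) (ka xa22 ya27 za40) (ka xa22 ya47 za33) (ka xa26 ya26 za59) (ka xa22 ya47 za35) (ka xa24 ya0 za50) (ka xa22 ya47 za37) (ka xa29 ya42 za12) (ka xa13 ya42 za40) (ka xa13 ya42 za39) (ka xa16 ya34 za7) (ka xa26 ya29 za12) (ka xa13 ya42 za27) (ka xa29 ya52 za54) (ka xa13 ya42 za31) (ka xa13 ya42 za32)) (@D3.rec (fun _ => Pt) (ka xa13 ya42 za34) (ka xa13 ya42 za19) (ka xa13 ya42 za44) (ka xa13 ya42 za45) (ka xa13 ya42 za48) (ka xa21 ya10 za33) (ka xa26 ya30 za59) (ka xa13 ya42 za55) (ka xa13 ya42 za56) (ka xa13 ya42 za57) (ka xa13 ya42 za59) (ka xa20 ya52 za47) (ka xa13 ya43 za4) (ka xa13 ya43 za5) (ka xa13 ya43 za6) (ka xa13 ya43 za8) (ka xa13 ya43 za14) (ka xa29 ya42 za61) (ka xa29 ya43 za1) (ka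 xa13 ya39 za54) (ka xa29 ya27 za51) (ka xa30 ya53 za32) (ka xa13 ya43 za21) (ka xa13 ya43 za22) (ka xa13 ya43 za23) (ka xa13 ya43 za24) (ka xa13 ya43 za32) (ka xa13 ya43 za54) (ka xa30 ya51 za33) (ka xa13 ya43 za46) (ka xa13 ya43 za47) (ka xa13 ya43 za48) (ka xa13 ya43 za49) (ka xa13 ya43 za36) (ka xa13 ya43 za60) (ka xa13 ya43 za61) (ka xa13 ya44 za0) (ka xa13 ya44 za2) (ka xa13 ya44 za13) (ka xa13 ya40 za8) (ka xa20 ya30 za36) (ka xa22 ya32 za18) (ka xa20 ya7 za40) (ka xa30 ya24 za36) (ka xa24 ya39 za40) (ka xa13 ya44 za32) (ka xa13 ya44 za33) (ka xa13 ya44 za34) (ka xa13 ya44 za35) (ka xa23 ya55 za15) (ka xa22 ya32 za1) (ka xa23 ya12 za5) (ka xa23 ya12 za4) (ka xa22 ya51 za25) (ka xa29 ya7 za52) (ka xa30 ya24 za35) (ka xa24 ya5 za50) (ka xa25 ya50 za46) (ka xa13 ya45 za28) (ka xa30 ya50 za11) (ka xa13 ya45 za32) (ka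 xa13 ya45 za33)) (@D3.rec (fun _ => Pt) (ka xa14 ya43 za1) (ka xa20 ya28 za41) (ka xa22 ya50 za52) (ka xa14 ya25 za44) (ka xa13 ya49 za21) (ka xa26 ya42 za14) (ka xa21 ya14 za58) (ka xa21 ya14 za60) (ka xa14 ya43 za4) (ka xa24 ya56 za41) (ka xa27 ya31 za28) (ka xa24 ya56 za32) (ka xa22 ya49 za37) (ka xa22 ya30 za28) (ka xa13 ya52 za56) (ka xa13 ya49 za5) (ka xa14 ya20 za33) (ka xa14 ya42 za59) (ka xa14 ya42 za58) (ka xa14 ya43 za3) (ka xa13 ya49 za14) (ka xa13 ya40 za51) (ka xa22 ya51 za1) (ka xa22 ya51 za2) (ka xa15 ya6 za32) (ka xa20 ya47 za27) (ka xa22 ya10 za44) (ka xa13 ya40 za57) (ka xa22 ya49 za53) (ka xa14 ya43 za2) (ka xa22 ya50 za53) (ka xa22 ya50 za54) (ka xa22 ya49 za35) (ka xa13 ya49 za39) (ka xa22 ya41 za46) (ka xa30 ya54 za4) (ka xa18 ya45 za6) (ka xa22 ya19 za0) (ka xa22 ya49 za55) (ka xa13 ya41 za9) (ka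 xa22 ya49 za59) (ka xa22 ya49 za58) (ka xa30 ya31 za61) (ka xa29 ya14 za39) (ka xa19 ya22 za7) (ka xa22 ya50 za5) (ka xa22 ya50 za6) (ka xa22 ya50 za7) (ka xa17 ya23 za8) (ka xa22 ya50 za13) (ka xa22 ya50 za14) (ka xa23 ya7 za10) (ka xa29 ya21 za4) (ka xa22 ya50 za19) (ka xa22 ya50 za20) (ka xa21 ya52 za61) (ka xa17 ya23 za7) (ka xa28 ya38 za40) (ka xa22 ya50 za23) (ka xa22 ya29 za12) (ka xa22 ya29 za13) (ka xa14 ya53 za48)) (@D3.rec (fun _ => Pt) (ka xa14 ya19 za39) (ka xa22 ya51 za9) (ka xa20 ya41 za44) (ka xa13 ya41 za40) (ka xa13 ya41 za54) (ka xa29 ya41 za4) (ka xa13 ya47 za53) (ka xa27 ya9 za8) (ka xa27 ya58 za22) (ka xa24 ya47 za32) (ka xa23 ya6 za51) (ka xa22 ya51 za59) (ka xa27 ya37 za44) (ka xa22 ya51 za32) (ka xa22 ya51 za33) (ka xa22 ya51 za61) (ka xa22 ya52 za0) (ka xa22 ya52 za3) (ka xa22 ya52 za4) (ka xa22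 ya52 za5) (ka xa21 ya28 za60) (ka xa13 ya41 za49) (ka xa24 ya0 za57) (ka xa13 ya48 za18) (ka xa20 ya45 za25) (ka xa22 ya51 za34) (ka xa22 ya51 za35) (ka xa22 ya52 za1) (ka xa22 ya52 za2) (ka xa20 ya45 za42) (ka xa30 ya22 za48) (ka xa13 ya41 za60) (ka xa30 ya54 za22) (ka xa30 ya54 za20) (ka xa22 ya39 za54) (ka xa22 ya51 za45) (ka xa22 ya51 za46) (ka xa21 ya12 za18) (ka xa24 ya57 za44) (ka xa16 ya28 za38) (ka xa20 ya49 za50) (ka xa25 ya58 za24) (ka xa16 ya28 za15) (ka xa19 ya36 za13) (ka xa29 ya52 za55) (ka xa23 ya16 za14) (ka xa23 ya16 za12) (ka xa13 ya47 za42) (ka xa29 ya52 za56) (ka xa13 ya47 za41) (ka xa13 ya42 za43) (ka xa14 ya18 za53) (ka xa30 ya46 za4) (ka xa30 ya46 za5) (ka xa30 ya32 za4) (ka xa16 ya26 za30) (ka xa26 ya30 za60) (ka xa25 ya55 za11) (ka xa26 ya25 za35) (ka xa26 ya30 za61) (ka xa26 ya31 za0) (ka xa13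 ya43 za2)) (@D3.rec (fun _ => Pt) (ka xa15 ya31 za48) (ka xa30 ya46 za6) (ka xa24 ya31 za17) (ka xa24 ya31 za19) (ka xa30 ya46 za7) (ka xa26 ya23 za52) (ka xa30 ya44 za3) (ka xa13 ya42 za22) (ka xa30 ya54 za38) (ka xa30 ya54 za39) (ka xa26 ya29 za9) (ka xa22 ya53 za19) (ka xa20 ya53 za53) (ka xa24 ya35 za0) (ka xa24 ya35 za1) (ka xa24 ya35 za2) (ka xa24 ya35 za3) (ka xa30 ya54 za43) (ka xa24 ya34 za55) (ka xa30 ya54 za46) (ka xa23 ya10 za21) (ka xa14 ya30 za33) (ka xa23 ya10 za28) (ka xa17 ya25 za59) (ka xa28 ya34 za12) (ka xa30 ya53 za24) (ka xa27 ya15 za49) (ka xa23 ya19 za56) (ka xa30 ya27 za54) (ka xa23 ya19 za55) (ka xa22 ya36 za40) (ka xa24 ya13 za8) (ka xa26 ya26 za9) (ka xa13 ya42 za38) (ka xa14 ya51 za33) (ka xa14 ya51 za32) (ka xa26 ya7 za0) (ka xa22 ya22 za43) (ka xa22 ya55 za41) (ka xa23 ya9 za14) (ka xa22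 ya55 za40) (ka xa29 ya27 za12) (ka xa16 ya34 za12) (ka xa21 ya10 za28) (ka xa30 ya53 za22) (ka xa20 ya50 za13) (ka xa25 ya48 za52) (ka xa23 ya10 za41) (ka xa23 ya10 za45) (ka xa30 ya16 za53) (ka xa30 ya53 za25) (ka xa25 ya58 za27) (ka xa25 ya58 za26) (ka xa29 ya54 za2) (ka xa29 ya26 za58) (ka xa29 ya29 za12) (ka xa25 ya25 za31) (ka xa13 ya42 za52) (ka xa13 ya47 za58) (ka xa26 ya21 za16) (ka xa29 ya34 za52) (ka xa23 ya10 za2)) (@D3.rec (fun _ => Pt) (ka xa24 ya4 za56) (ka xa25 ya56 za36) (ka xa26 ya3 za42) (ka xa25 ya56 za25) (ka xa30 ya53 za27) (ka xa22 ya54 za21) (ka xa30 ya53 za28) (ka xa30 ya45 za50) (ka xa30 ya53 za29) (ka xa24 ya40 za26) (ka xa24 ya40 za25) (ka xa24 ya40 za27) (ka xa13 ya43 za1) (ka xa26 ya30 za52) (ka xa23 ya8 za39) (ka xa26 ya30 za20) (ka xa26 ya31 za7) (ka xa29 ya55 za27) (ka xa26 ya21 za21) (ka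 xa27 ya42 za22) (ka xa28 ya31 za61) (ka xa15 ya31 za46) (ka xa30 ya46 za21) (ka xa29 ya30 za47) (ka xa30 ya48 za23) (ka xa25 ya59 za35) (ka xa30 ya53 za30) (ka xa26 ya30 za28) (ka xa18 ya53 za34) (ka xa25 ya59 za34) (ka xa30 ya53 za31) (ka xa13 ya48 za4) (ka xa13 ya48 za5) (ka xa13 ya48 za3) (ka xa13 ya48 za6) (ka xa24 ya3 za33) (ka xa13 ya43 za19) (ka xa24 ya4 za60) (ka xa13 ya43 za16) (ka xa24 ya4 za59) (ka xa25 ya54 za49) (ka xa13 ya43 za18) (ka xa29 ya41 za8) (ka xa30 ya53 za47) (ka xa20 ya48 za60) (ka xa25 ya35 za28) (ka xa30 ya53 za36) (ka xa29 ya41 za14) (ka xa28 ya41 za51) (ka xa28 ya17 za18) (ka xa30 ya53 za37) (ka xa30 ya53 za38) (ka xa30 ya54 za37) (ka xa30 ya53 za39) (ka xa21 ya39 za47) (ka xa30 ya45 za61) (ka xa30 ya53 za41) (ka xa23 ya46 za47) (ka xa14 ya25 za37) (ka xa14 ya25 za36) (ka xa13 ya43 za30) (ka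 xa14 ya25 za40)) (@D3.rec (fun _ => Pt) (ka xa14 ya25 za39) (ka xa30 ya55 za28) (ka xa23 ya8 za61) (ka xa26 ya23 za50) (ka xa26 ya23 za49) (ka xa13 ya43 za38) (ka xa22 ya55 za38) (ka xa16 ya19 za50) (ka xa25 ya49 za28) (ka xa26 ya9 za7) (ka xa27 ya42 za0) (ka xa13 ya43 za39) (ka xa29 ya15 za2) (ka xa25 ya55 za30) (ka xa15 ya59 za55) (ka xa27 ya41 za37) (ka xa25 ya58 za29) (ka xa16 ya26 za20) (ka xa22 ya56 za40) (ka xa22 ya56 za41) (ka xa25 ya55 za35) (ka xa23 ya8 za20) (ka xa28 ya9 za46) (ka xa30 ya46 za16) (ka xa20 ya29 za9) (ka xa15 ya40 za61) (ka xa30 ya53 za44) (ka xa28 ya13 za6) (ka xa23 ya8 za22) (ka xa18 ya19 za7) (ka xa23 ya18 za27) (ka xa30 ya44 za9) (ka xa13 ya43 za56) (ka xa22 ya55 za54) (ka xa23 ya0 za47) (ka xa20 ya36 za54) (ka xa20 ya36 za53) (ka xa19 ya38 za60) (ka xa30 ya53 za45) (ka xa30 ya53 za46) (ka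 xa20 ya35 za57) (ka xa23 ya8 za47) (ka xa20 ya8 za61) (ka xa25 ya58 za28) (ka xa17 ya1 za41) (ka xa23 ya8 za48) (ka xa22 ya3 za11) (ka xa21 ya33 za32) (ka xa22 ya3 za9) (ka xa14 ya25 za47) (ka xa13 ya44 za7) (ka xa13 ya44 za10) (ka xa22 ya26 za38) (ka xa24 ya3 za0) (ka xa15 ya55 za18) (ka xa21 ya55 za7) (ka xa23 ya46 za33) (ka xa22 ya35 za45) (ka xa14 ya29 za12) (ka xa22 ya38 za47) (ka xa22 ya38 za48) (ka xa22 ya38 za49)) (@D3.rec (fun _ => Pt) (ka xa24 ya9 za29) (ka xa14 ya31 za19) (ka xa13 ya44 za21) (ka xa13 ya44 za22) (ka xa13 ya44 za23) (ka xa14 ya51 za59) (ka xa14 ya51 za52) (ka xa30 ya55 za49) (ka xa24 ya4 za57) (ka xa24 ya4 za58) (ka xa22 ya36 za33) (ka xa22 ya23 za17) (ka xa22 ya23 za19) (ka xa13 ya44 za29) (ka xa14 ya30 za20) (ka xa30 ya53 za35) (ka xa27 ya36 za49) (ka xa13 ya44 za31) (ka xa24 ya39 za39) (ka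 xa29 ya41 za29) (ka xa15 ya31 za10) (ka xa23 ya30 za19) (ka xa24 ya39 za9) (ka xa28 ya47 za60) (ka xa24 ya4 za41) (ka xa24 ya18 za59) (ka xa30 ya53 za48) (ka xa28 ya42 za11) (ka xa24 ya4 za42) (ka xa28 ya47 za33) (ka xa22 ya33 za27) (ka xa30 ya23 za50) (ka xa19 ya36 za53) (ka xa30 ya56 za4) (ka xa22 ya57 za53) (ka xa30 ya56 za7) (ka xa22 ya57 za56) (ka xa14 ya4 za3) (ka xa13 ya44 za54) (ka xa13 ya44 za57) (ka xa22 ya29 za44) (ka xa22 ya35 za55) (ka xa22 ya35 za56) (ka xa22 ya35 za52) (ka xa22 ya35 za57) (ka xa22 ya17 za11) (ka xa26 ya20 za41) (ka xa22 ya20 za20) (ka xa18 ya53 za19) (ka xa25 ya25 za35) (ka xa21 ya41 za19) (ka xa21 ya41 za20) (ka xa21 ya41 za24) (ka xa23 ya16 za35) (ka xa28 ya22 za16) (ka xa22 ya59 za61) (ka xa19 ya15 za22) (ka xa13 ya50 za12) (ka xa13 ya45 za9) (ka xa23 ya53 za46) (ka xa22 ya58 za57) (ka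 xa21 ya5 za5)) (@D3.rec (fun _ => Pt) (ka xa22 ya36 za37) (ka xa28 ya22 za41) (ka xa30 ya46 za61) (ka xa22 ya59 za42) (ka xa23 ya5 za52) (ka xa23 ya5 za51) (ka xa13 ya45 za14) (ka xa26 ya29 za41) (ka xa29 ya27 za4) (ka xa25 ya47 za34) (ka xa29 ya0 za28) (ka xa17 ya51 za11) (ka xa23 ya0 za60) (ka xa29 ya9 za6) (ka xa23 ya13 za6) (ka xa30 ya36 za11) (ka xa30 ya46 za46) (ka xa13 ya45 za22) (ka xa30 ya56 za21) (ka xa29 ya30 za16) (ka xa30 ya56 za22) (ka xa19 ya11 za37) (ka xa14 ya37 za25) (ka xa23 ya12 za44) (ka xa30 ya36 za13) (ka xa30 ya50 za12) (ka xa13 ya45 za26) (ka xa30 ya56 za25) (ka xa30 ya12 za11) (ka xa28 ya24 za0) (ka xa28 ya37 za16) (ka xa28 ya20 za27) (ka xa24 ya11 za9) (ka xa25 ya5 za20) (ka xa28 ya33 za56) (ka xa13 ya45 za30) (ka xa28 ya23 za45) (ka xa25 ya50 za47) (ka xa27 ya50 za46) (ka xa30 ya34 za39) (ka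 xa30 ya53 za54) (ka xa28 ya21 za1) (ka xa14 ya38 za34) (ka xa28 ya37 za30) (ka xa23 ya12 za23) (ka xa14 ya38 za32) (ka xa14 ya38 za31) (ka xa26 ya46 za3) (ka xa28 ya52 za45) (ka xa14 ya47 za53) (ka xa22 ya22 za6) (ka xa14 ya25 za11) (ka xa14 ya25 za12) (ka xa14 ya25 za13) (ka xa20 ya20 za42) (ka xa13 ya45 za60) (ka xa13 ya46 za0) (ka xa13 ya46 za1) (ka xa14 ya32 za23) (ka xa14 ya32 za26) (ka xa24 ya4 za13) (ka xa20 ya17 za11)) (@D3.rec (fun _ => Pt) (ka xa22 ya5 za41) (ka xa14 ya47 za57) (ka xa29 ya26 za57) (ka xa26 ya10 za58) (ka xa27 ya25 za31) (ka xa18 ya51 za39) (ka xa23 ya12 za14) (ka xa22 ya15 za45) (ka xa13 ya46 za2) (ka xa29 ya44 za19) (ka xa26 ya5 za47) (ka xa21 ya48 za28) (ka xa21 ya47 za35) (ka xa30 ya56 za52) (ka xa20 ya53 za14) (ka xa28 ya52 za4) (ka xa19 ya28 za15) (ka xa22 ya13 za7) (ka xa29 ya39 za30) (ka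 xa29 ya39 za32) (ka xa29 ya36 za35) (ka xa30 ya21 za42) (ka xa30 ya37 za0) (ka xa22 ya45 za11) (ka xa13 ya46 za13) (ka xa20 ya54 za3) (ka xa16 ya9 za14) (ka xa15 ya3 za1) (ka xa19 ya5 za53) (ka xa19 ya22 za1) (ka xa13 ya46 za20) (ka xa15 ya39 za2) (ka xa15 ya39 za1) (ka xa29 ya30 za43) (ka xa22 ya58 za7) (ka xa30 ya57 za1) (ka xa22 ya58 za9) (ka xa22 ya58 za10) (ka xa16 ya29 za25) (ka xa23 ya14 za55) (ka xa16 ya29 za22) (ka xa30 ya36 za35) (ka xa29 ya55 za15) (ka xa23 ya19 za22) (ka xa23 ya19 za23) (ka xa23 ya19 za24) (ka xa23 ya19 za25) (ka xa28 ya28 za15) (ka xa18 ya49 za23) (ka xa23 ya19 za28) (ka xa23 ya19 za29) (ka xa23 ya19 za30) (ka xa23 ya19 za31) (ka xa27 ya1 za17) (ka xa23 ya19 za33) (ka xa18 ya22 za49) (ka xa13 ya59 za3) (ka xa23 ya19 za36) (ka xa30 ya57 za10) (ka xa23 ya19 za37) (ka xa13 ya47 za43) (ka xa30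 ya57 za11)) (@D3.rec (fun _ => Pt) (ka xa13 ya47 za46) (ka xa13 ya47 za47) (ka xa13 ya47 za48) (ka xa13 ya48 za14) (ka xa30 ya20 za39) (ka xa28 ya25 za61) (ka xa30 ya57 za15) (ka xa13 ya48 za21) (ka xa13 ya48 za22) (ka xa13 ya48 za23) (ka xa13 ya48 za25) (ka xa18 ya23 za6) (ka xa30 ya42 za24) (ka xa13 ya48 za32) (ka xa13 ya48 za33) (ka xa13 ya48 za34) (ka xa13 ya48 za36) (ka xa30 ya57 za27) (ka xa13 ya48 za46) (ka xa23 ya17 za28) (ka xa23 ya17 za27) (ka xa13 ya46 za55) (ka xa13 ya48 za57) (ka xa25 ya3 za7) (ka xa25 ya3 za6) (ka xa23 ya21 za43) (ka xa30 ya57 za34) (ka xa13 ya49 za18) (ka xa13 ya49 za19) (ka xa13 ya49 za20) (ka xa13 ya49 za22) (ka xa13 ya49 za6) (ka xa25 ya3 za29) (ka xa30 ya57 za41) (ka xa13 ya49 za36) (ka xa13 ya49 za37) (ka xa13 ya49 za38) (ka xa13 ya49 za40) (ka xa20 ya45 za56) (ka xa22 ya32 za4) (ka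 xa29 ya36 za32) (ka xa23 ya55 za18) (ka xa22 ya14 za33) (ka xa26 ya26 za38) (ka xa29 ya55 za30) (ka xa29 ya55 za9) (ka xa23 ya20 za20) (ka xa29 ya55 za10) (ka xa26 ya32 za49) (ka xa29 ya55 za7) (ka xa23 ya42 za58) (ka xa29 ya55 za29) (ka xa23 ya42 za59) (ka xa24 ya58 za60) (ka xa16 ya31 za40) (ka xa23 ya13 za39) (ka xa13 ya50 za49) (ka xa16 ya12 za5) (ka xa16 ya12 za8) (ka xa16 ya29 za24) (ka xa25 ya2 za50) (ka xa28 ya12 za14)) (@D3.rec (fun _ => Pt) (ka xa25 ya2 za49) (ka xa16 ya24 za22) (ka xa24 ya59 za39) (ka xa30 ya57 za53) (ka xa28 ya12 za19) (ka xa28 ya12 za20) (ka xa22 ya53 za41) (ka xa22 ya53 za39) (ka xa24 ya31 za41) (ka xa30 ya57 za60) (ka xa29 ya29 za14) (ka xa24 ya31 za39) (ka xa25 ya1 za60) (ka xa23 ya18 za26) (ka xa27 ya57 za41) (ka xa27 ya57 za42) (ka xa27 ya57 za43) (ka xa27 ya57 za44) (ka xa30 ya58 za11)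 (ka xa23 ya16 za59) (ka xa30 ya54 za29) (ka xa30 ya32 za3) (ka xa30 ya48 za27) (ka xa23 ya15 za29) (ka xa13 ya48 za47) (ka xa30 ya48 za29) (ka xa23 ya15 za28) (ka xa24 ya59 za42) (ka xa23 ya15 za26) (ka xa23 ya15 za23) (ka xa13 ya47 za45) (ka xa30 ya57 za47) (ka xa30 ya57 za12) (ka xa25 ya2 za51) (ka xa30 ya2 za8) (ka xa23 ya17 za17) (ka xa30 ya2 za7) (ka xa23 ya17 za33) (ka xa22 ya49 za16) (ka xa22 ya42 za10) (ka xa13 ya47 za55) (ka xa13 ya47 za56) (ka xa30 ya54 za11) (ka xa23 ya20 za31) (ka xa29 ya29 za59) (ka xa22 ya31 za47) (ka xa30 ya58 za28) (ka xa28 ya26 za0) (ka xa30 ya58 za25) (ka xa29 ya30 za9) (ka xa30 ya58 za26) (ka xa29 ya30 za8) (ka xa24 ya5 za44) (ka xa23 ya2 za59) (ka xa21 ya56 za45) (ka xa21 ya56 za61) (ka xa30 ya58 za33) (ka xa22 ya29 za41) (ka xa22 ya29 za39) (ka xa22 ya29 za40) (ka xa22 ya29 za42) (ka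 xa30 ya58 za39)) (@D3.rec (fun _ => Pt) (ka xa23 ya18 za10) (ka xa28 ya13 za33) (ka xa23 ya18 za15) (ka xa30 ya57 za14) (ka xa30 ya20 za40) (ka xa13 ya48 za2) (ka xa30 ya47 za3) (ka xa23 ya16 za61) (ka xa30 ya48 za24) (ka xa30 ya55 za17) (ka xa23 ya20 za24) (ka xa30 ya48 za28) (ka xa23 ya7 za46) (ka xa30 ya55 za16) (ka xa23 ya7 za45) (ka xa23 ya32 za0) (ka xa13 ya48 za12) (ka xa22 ya45 za41) (ka xa14 ya11 za25) (ka xa23 ya46 za61) (ka xa23 ya31 za31) (ka xa18 ya19 za22) (ka xa28 ya10 za38) (ka xa30 ya54 za18) (ka xa14 ya10 za5) (ka xa13 ya48 za20) (ka xa30 ya58 za51) (ka xa13 ya48 za31) (ka xa22 ya45 za27) (ka xa30 ya31 za35) (ka xa23 ya17 za22) (ka xa23 ya34 za8) (ka xa28 ya12 za33) (ka xa23 ya20 za38) (ka xa30 ya57 za17) (ka xa23 ya11 za53) (ka xa21 ya15 za35) (ka xa30 ya58 za59) (ka xa23 ya17 za50) (ka xa30 ya57 za19)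 (ka xa30 ya57 za20) (ka xa30 ya42 za25) (ka xa30 ya57 za21) (ka xa23 ya20 za51) (ka xa30 ya57 za22) (ka xa30 ya57 za23) (ka xa30 ya57 za24) (ka xa26 ya28 za16) (ka xa26 ya30 za0) (ka xa30 ya40 za1) (ka xa21 ya30 za2) (ka xa13 ya48 za39) (ka xa30 ya59 za4) (ka xa23 ya44 za5) (ka xa29 ya50 za25) (ka xa27 ya57 za47) (ka xa30 ya59 za3) (ka xa22 ya27 za61) (ka xa13 ya48 za40) (ka xa23 ya15 za19) (ka xa30 ya47 za4) (ka xa23 ya16 za7)) (@D3.rec (fun _ => Pt) (ka xa30 ya47 za6) (ka xa30 ya47 za1) (ka xa30 ya7 za33) (ka xa23 ya21 za4) (ka xa30 ya47 za2) (ka xa30 ya48 za31) (ka xa30 ya48 za30) (ka xa13 ya48 za45) (ka xa26 ya15 za41) (ka xa30 ya59 za13) (ka xa26 ya9 za28) (ka xa30 ya57 za29) (ka xa30 ya57 za26) (ka xa30 ya57 za25) (ka xa15 ya13 za4) (ka xa13 ya48 za53) (ka xa13 ya48 za49) (ka xa23 ya15 za35) (ka xa30 ya59 za21) (ka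 xa30 ya59 za20) (ka xa30 ya59 za22) (ka xa13 ya48 za50) (ka xa23 ya16 za30) (ka xa30 ya59 za27) (ka xa30 ya58 za18) (ka xa30 ya59 za31) (ka xa13 ya48 za52) (ka xa23 ya14 za20) (ka xa23 ya14 za19) (ka xa23 ya45 za13) (ka xa23 ya45 za12) (ka xa23 ya17 za34) (ka xa23 ya17 za35) (ka xa23 ya15 za37) (ka xa23 ya17 za31) (ka xa23 ya17 za32) (ka xa25 ya16 za24) (ka xa26 ya30 za2) (ka xa23 ya18 za9) (ka xa22 ya42 za22) (ka xa30 ya57 za32) (ka xa13 ya59 za39) (ka xa28 ya13 za15) (ka xa22 ya34 za0) (ka xa20 ya33 za27) (ka xa22 ya34 za3) (ka xa22 ya34 za2) (ka xa24 ya31 za12) (ka xa23 ya33 za41) (ka xa30 ya52 za38) (ka xa23 ya16 za38) (ka xa30 ya32 za53) (ka xa30 ya32 za54) (ka xa24 ya59 za41) (ka xa22 ya28 za20) (ka xa13 ya49 za7) (ka xa13 ya49 za8) (ka xa22 ya30 za36) (ka xa21 ya25 za9) (ka xa23 ya20 za33) (ka xa23 ya20 za32) (ka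 xa23 ya45 za23)) (@D3.rec (fun _ => Pt) (ka xa21 ya56 za13) (ka xa25 ya3 za8) (ka xa25 ya2 za53) (ka xa28 ya10 za13) (ka xa26 ya24 za8) (ka xa25 ya3 za12) (ka xa23 ya21 za27) (ka xa18 ya42 za36) (ka xa30 ya33 za29) (ka xa23 ya17 za38) (ka xa23 ya16 za0) (ka xa28 ya10 za45) (ka xa28 ya10 za46) (ka xa18 ya36 za31) (ka xa30 ya59 za58) (ka xa23 ya16 za2) (ka xa25 ya2 za52) (ka xa21 ya53 za37) (ka xa30 ya57 za40) (ka xa30 ya57 za39) (ka xa13 ya49 za17) (ka xa28 ya2 za60) (ka xa30 ya46 za60) (ka xa30 ya57 za36) (ka xa30 ya57 za37) (ka xa22 ya56 za6) (ka xa23 ya15 za13) (ka xa23 ya10 za30) (ka xa30 ya57 za38) (ka xa30 ya53 za56) (ka xa20 ya34 za1) (ka xa25 ya59 za33) (ka xa28 ya3 za4) (ka xa24 ya44 za24) (ka xa24 ya44 za25) (ka xa13 ya49 za31) (ka xa27 ya58 za51) (ka xa22 ya32 za50) (ka xa30 ya57 za33) (ka xa13 ya49 za35) (ka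 xa31 ya0 za7) (ka xa30 ya57 za42) (ka xa30 ya57 za43) (ka xa23 ya21 za48) (ka xa22 ya53 za47) (ka xa27 ya58 za33) (ka xa25 ya3 za0) (ka xa28 ya10 za44) (ka xa22 ya56 za8) (ka xa22 ya56 za9) (ka xa22 ya56 za11) (ka xa30 ya34 za47) (ka xa28 ya23 za16) (ka xa22 ya17 za31) (ka xa22 ya17 za32) (ka xa22 ya16 za53) (ka xa13 ya49 za58) (ka xa13 ya49 za59) (ka xa13 ya49 za60) (ka xa13 ya50 za0) (ka xa13 ya49 za54) (ka xa23 ya54 za48)) (@D3.rec (fun _ => Pt) (ka xa29 ya41 za21) (ka xa22 ya23 za23) (ka xa31 ya0 za15) (ka xa31 ya0 za16) (ka xa31 ya0 za17) (ka xa31 ya0 za18) (ka xa31 ya0 za26) (ka xa19 ya2 za3) (ka xa29 ya50 za14) (ka xa27 ya2 za34) (ka xa30 ya24 za12) (ka xa24 ya16 za22) (ka xa24 ya16 za23) (ka xa24 ya16 za21) (ka xa24 ya16 za24) (ka xa22 ya13 za21) (ka xa13 ya50 za1) (ka xa29 ya5 za39) (ka xa14 ya23 za2) (ka xa22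 ya14 za19) (ka xa29 ya14 za60) (ka xa30 ya21 za12) (ka xa23 ya13 za43) (ka xa23 ya13 za44) (ka xa23 ya13 za45) (ka xa23 ya13 za46) (ka xa23 ya31 za59) (ka xa28 ya18 za46) (ka xa23 ya13 za49) (ka xa23 ya13 za50) (ka xa23 ya13 za51) (ka xa23 ya13 za52) (ka xa22 ya28 za23) (ka xa23 ya13 za54) (ka xa26 ya55 za11) (ka xa18 ya40 za12) (ka xa23 ya13 za57) (ka xa23 ya13 za59) (ka xa23 ya0 za4) (ka xa20 ya32 za28) (ka xa18 ya43 za8) (ka xa29 ya42 za20) (ka xa21 ya14 za25) (ka xa14 ya44 za30) (ka xa14 ya44 za31) (ka xa14 ya44 za32) (ka xa21 ya55 za0) (ka xa14 ya37 za51) (ka xa17 ya25 za1) (ka xa23 ya47 za48) (ka xa15 ya10 za42) (ka xa15 ya10 za43) (ka xa16 ya12 za2) (ka xa29 ya6 za7) (ka xa25 ya1 za51) (ka xa23 ya8 za29) (ka xa23 ya8 za27) (ka xa14 ya45 za37) (ka xa30 ya57 za46) (ka xa14 ya45 za32) (ka xa23 ya44 za44) (ka xa23 ya45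 za9)) (@D3.rec (fun _ => Pt) (ka xa24 ya31 za20) (ka xa24 ya59 za20) (ka xa22 ya35 za37) (ka xa23 ya44 za47) (ka xa30 ya46 za13) (ka xa25 ya46 za21) (ka xa20 ya32 za37) (ka xa23 ya31 za44) (ka xa30 ya2 za4) (ka xa30 ya2 za5) (ka xa30 ya51 za54) (ka xa28 ya12 za11) (ka xa27 ya39 za6) (ka xa13 ya50 za57) (ka xa26 ya8 za55) (ka xa30 ya2 za6) (ka xa16 ya12 za4) (ka xa28 ya46 za40) (ka xa30 ya39 za52) (ka xa20 ya32 za33) (ka xa23 ya14 za46) (ka xa23 ya50 za40) (ka xa30 ya36 za32) (ka xa22 ya51 za17) (ka xa23 ya16 za10) (ka xa22 ya52 za29) (ka xa22 ya52 za28) (ka xa23 ya33 za8) (ka xa18 ya42 za44) (ka xa13 ya51 za18) (ka xa13 ya51 za20) (ka xa23 ya15 za43) (ka xa23 ya17 za60) (ka xa23 ya17 za59) (ka xa16 ya22 za47) (ka xa23 ya54 za55) (ka xa21 ya8 za15) (ka xa21 ya53 za55) (ka xa23 ya16 za33) (ka xa13 ya51 za25) (ka xa22 ya34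 za4) (ka xa27 ya58 za53) (ka xa29 ya30 za4) (ka xa20 ya32 za55) (ka xa29 ya29 za42) (ka xa26 ya24 za59) (ka xa13 ya51 za27) (ka xa31 ya0 za50) (ka xa21 ya6 za26) (ka xa21 ya6 za27) (ka xa21 ya6 za28) (ka xa23 ya16 za43) (ka xa21 ya56 za7) (ka xa24 ya31 za23) (ka xa21 ya56 za8) (ka xa16 ya31 za39) (ka xa24 ya31 za26) (ka xa13 ya51 za34) (ka xa13 ya51 za35) (ka xa31 ya0 za53) (ka xa26 ya14 za56) (ka xa26 ya30 za58)) (@D3.rec (fun _ => Pt) (ka xa24 ya59 za22) (ka xa13 ya51 za36) (ka xa21 ya56 za19) (ka xa24 ya31 za18) (ka xa23 ya17 za3) (ka xa21 ya56 za20) (ka xa21 ya56 za17) (ka xa14 ya0 za3) (ka xa13 ya51 za41) (ka xa24 ya52 za21) (ka xa21 ya56 za9) (ka xa21 ya56 za10) (ka xa21 ya56 za3) (ka xa21 ya56 za2) (ka xa13 ya51 za43) (ka xa31 ya0 za59) (ka xa21 ya56 za22) (ka xa28 ya0 za31) (ka xa30 ya52 za24) (ka xa30 ya52 za23)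 (ka xa18 ya17 za55) (ka xa13 ya51 za52) (ka xa30 ya32 za44) (ka xa26 ya7 za49) (ka xa30 ya42 za47) (ka xa27 ya47 za51) (ka xa26 ya7 za42) (ka xa23 ya18 za6) (ka xa27 ya47 za52) (ka xa29 ya30 za12) (ka xa22 ya31 za57) (ka xa18 ya40 za44) (ka xa31 ya1 za7) (ka xa21 ya55 za54) (ka xa22 ya31 za59) (ka xa22 ya31 za60) (ka xa14 ya28 za32) (ka xa14 ya28 za33) (ka xa14 ya28 za34) (ka xa22 ya31 za25) (ka xa22 ya31 za26) (ka xa13 ya52 za4) (ka xa13 ya52 za5) (ka xa23 ya14 za25) (ka xa22 ya31 za31) (ka xa19 ya59 za9) (ka xa22 ya31 za33) (ka xa30 ya10 za46) (ka xa23 ya18 za43) (ka xa26 ya7 za29) (ka xa14 ya28 za20) (ka xa30 ya44 za40) (ka xa26 ya57 za46) (ka xa18 ya15 za59) (ka xa18 ya15 za57) (ka xa25 ya33 za61) (ka xa22 ya15 za35) (ka xa22 ya15 za34) (ka xa13 ya52 za14) (ka xa30 ya45 za43) (ka xa22 ya8 za53) (ka xa22 ya8 za54))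 (@D3.rec (fun _ => Pt) (ka xa17 ya30 za35) (ka xa22 ya8 za55) (ka xa28 ya24 za21) (ka xa30 ya25 za14) (ka xa27 ya59 za9) (ka xa29 ya38 za43) (ka xa22 ya24 za14) (ka xa31 ya1 za25) (ka xa30 ya3 za55) (ka xa21 ya31 za51) (ka xa26 ya6 za26) (ka xa18 ya16 za35) (ka xa24 ya43 za2) (ka xa18 ya7 za4) (ka xa13 ya52 za25) (ka xa26 ya17 za2) (ka xa15 ya58 za37) (ka xa15 ya58 za35) (ka xa23 ya35 za47) (ka xa22 ya9 za1) (ka xa13 ya52 za27) (ka xa29 ya14 za31) (ka xa16 ya33 za25) (ka xa23 ya35 za45) (ka xa23 ya35 za44) (ka xa13 ya52 za29) (ka xa25 ya37 za55) (ka xa21 ya37 za15) (ka xa21 ya37 za10) (ka xa21 ya4 za50) (ka xa13 ya52 za33) (ka xa21 ya37 za6) (ka xa21 ya37 za5) (ka xa13 ya52 za34) (ka xa21 ya40 za56) (ka xa21 ya58 za30) (ka xa16 ya1 za25) (ka xa17 ya39 za38) (ka xa13 ya52 za38) (ka xa23 ya36 za58) (ka xa27 ya33 za17) (ka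 xa26 ya17 za1) (ka xa14 ya48 za1) (ka xa13 ya52 za49) (ka xa13 ya52 za52) (ka xa13 ya52 za57) (ka xa13 ya52 za58) (ka xa26 ya2 za20) (ka xa26 ya2 za22) (ka xa27 ya39 za14) (ka xa25 ya39 za46) (ka xa25 ya39 za50) (ka xa16 ya3 za9) (ka xa18 ya6 za7) (ka xa18 ya6 za16) (ka xa14 ya5 za23) (ka xa27 ya45 za9) (ka xa24 ya32 za37) (ka xa25 ya38 za21) (ka xa23 ya34 za61) (ka xa24 ya32 za38) (ka xa18 ya7 za3)) (@D3.rec (fun _ => Pt) (ka xa22 ya30 za18) (ka xa18 ya48 za5) (ka xa23 ya35 za14) (ka xa23 ya35 za61) (ka xa23 ya36 za0) (ka xa23 ya35 za9) (ka xa23 ya35 za10) (ka xa23 ya35 za11) (ka xa23 ya31 za21) (ka xa23 ya35 za12) (ka xa13 ya53 za5) (ka xa31 ya1 za38) (ka xa17 ya56 za1) (ka xa13 ya54 za6) (ka xa25 ya34 za31) (ka xa17 ya56 za17) (ka xa25 ya39 za41) (ka xa21 ya49 za12) (ka xa17 ya55 za35) (ka xa16 ya4 za53) (ka xa13 ya53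 za15) (ka xa13 ya53 za16) (ka xa23 ya36 za14) (ka xa23 ya36 za13) (ka xa24 ya41 za43) (ka xa31 ya1 za41) (ka xa23 ya34 za36) (ka xa23 ya35 za32) (ka xa21 ya21 za54) (ka xa21 ya21 za51) (ka xa14 ya10 za8) (ka xa24 ya42 za42) (ka xa22 ya2 za41) (ka xa23 ya36 za18) (ka xa17 ya55 za23) (ka xa23 ya36 za19) (ka xa13 ya53 za22) (ka xa24 ya41 za18) (ka xa16 ya4 za42) (ka xa22 ya2 za1) (ka xa21 ya46 za59) (ka xa14 ya54 za8) (ka xa14 ya54 za33) (ka xa14 ya54 za34) (ka xa14 ya54 za35) (ka xa14 ya42 za38) (ka xa23 ya36 za29) (ka xa22 ya41 za15) (ka xa22 ya42 za25) (ka xa22 ya18 za35) (ka xa22 ya14 za43) (ka xa25 ya33 za56) (ka xa22 ya58 za36) (ka xa22 ya18 za28) (ka xa22 ya18 za29) (ka xa22 ya18 za30) (ka xa22 ya18 za39) (ka xa22 ya18 za41) (ka xa23 ya35 za58) (ka xa23 ya35 za57) (ka xa13 ya53 za49) (ka xa18 ya45 za44)) (@D3.rec (fun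 _ => Pt) (ka xa24 ya53 za1) (ka xa23 ya37 za3) (ka xa22 ya19 za53) (ka xa22 ya19 za52) (ka xa13 ya53 za57) (ka xa14 ya28 za39) (ka xa22 ya26 za11) (ka xa22 ya26 za10) (ka xa22 ya26 za14) (ka xa22 ya21 za24) (ka xa14 ya48 za26) (ka xa13 ya54 za5) (ka xa13 ya54 za10) (ka xa22 ya35 za35) (ka xa16 ya51 za60) (ka xa23 ya36 za1) (ka xa23 ya36 za2) (ka xa23 ya36 za6) (ka xa19 ya35 za4) (ka xa21 ya46 za61) (ka xa23 ya36 za9) (ka xa22 ya2 za2) (ka xa23 ya36 za20) (ka xa24 ya42 za45) (ka xa30 ya15 za2) (ka xa20 ya14 za58) (ka xa23 ya35 za20) (ka xa23 ya35 za21) (ka xa15 ya49 za48) (ka xa22 ya43 za61) (ka xa29 ya24 za18) (ka xa23 ya35 za25) (ka xa22 ya43 za60) (ka xa21 ya21 za41) (ka xa13 ya54 za26) (ka xa23 ya37 za5) (ka xa20 ya24 za58) (ka xa20 ya24 za59) (ka xa23 ya37 za6) (ka xa14 ya28 za38) (ka xa15 ya44 za10) (ka xa28 ya2 za42)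 (ka xa20 ya13 za35) (ka xa23 ya37 za7) (ka xa17 ya9 za6) (ka xa23 ya37 za9) (ka xa17 ya55 za47) (ka xa23 ya37 za10) (ka xa23 ya37 za11) (ka xa23 ya37 za12) (ka xa23 ya37 za13) (ka xa22 ya18 za31) (ka xa30 ya7 za25) (ka xa24 ya24 za18) (ka xa23 ya37 za14) (ka xa23 ya37 za15) (ka xa23 ya37 za16) (ka xa23 ya37 za17) (ka xa23 ya37 za20) (ka xa30 ya50 za5) (ka xa23 ya37 za24) (ka xa23 ya37 za25)) (@D3.rec (fun _ => Pt) (ka xa23 ya37 za27) (ka xa23 ya37 za28) (ka xa23 ya37 za30) (ka xa26 ya9 za42) (ka xa23 ya37 za31) (ka xa23 ya1 za59) (ka xa23 ya1 za60) (ka xa29 ya12 za16) (ka xa14 ya40 za1) (ka xa13 ya58 za52) (ka xa13 ya58 za54) (ka xa13 ya58 za55) (ka xa13 ya58 za56) (ka xa13 ya58 za58) (ka xa13 ya58 za45) (ka xa13 ya54 za49) (ka xa15 ya50 za7) (ka xa17 ya53 za4) (ka xa13 ya59 za9) (ka xa15 ya50 za15) (ka xa13 ya59 za17)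 (ka xa13 ya59 za21) (ka xa13 ya59 za23) (ka xa23 ya31 za48) (ka xa13 ya59 za47) (ka xa13 ya59 za49) (ka xa13 ya59 za51) (ka xa13 ya54 za60) (ka xa26 ya0 za57) (ka xa13 ya59 za59) (ka xa13 ya59 za60) (ka xa13 ya59 za61) (ka xa14 ya0 za1) (ka xa13 ya55 za1) (ka xa28 ya27 za17) (ka xa28 ya28 za13) (ka xa14 ya0 za6) (ka xa14 ya0 za7) (ka xa14 ya0 za9) (ka xa31 ya2 za35) (ka xa14 ya0 za11) (ka xa23 ya32 za50) (ka xa23 ya32 za49) (ka xa13 ya55 za6) (ka xa14 ya0 za21) (ka xa14 ya0 za22) (ka xa14 ya0 za28) (ka xa24 ya31 za50) (ka xa14 ya0 za39) (ka xa29 ya29 za60) (ka xa14 ya0 za44) (ka xa14 ya0 za45) (ka xa14 ya0 za46) (ka xa14 ya0 za48) (ka xa14 ya1 za2) (ka xa14 ya1 za3) (ka xa14 ya1 za4) (ka xa14 ya1 za5) (ka xa23 ya39 za55) (ka xa30 ya57 za57) (ka xa23 ya38 za21) (ka xa29 ya55 za28)) (@D3.rec (fun _ => Pt) (ka xa29 ya7 za6)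 (ka xa20 ya24 za54) (ka xa26 ya21 za58) (ka xa26 ya21 za59) (ka xa29 ya55 za23) (ka xa29 ya55 za24) (ka xa29 ya55 za22) (ka xa29 ya55 za25) (ka xa14 ya55 za17) (ka xa29 ya55 za19) (ka xa23 ya38 za30) (ka xa23 ya38 za31) (ka xa27 ya58 za3) (ka xa23 ya38 za36) (ka xa29 ya55 za21) (ka xa23 ya29 za7) (ka xa13 ya55 za34) (ka xa26 ya0 za40) (ka xa20 ya24 za37) (ka xa30 ya38 za49) (ka xa17 ya55 za26) (ka xa21 ya57 za49) (ka xa17 ya12 za23) (ka xa14 ya29 za9) (ka xa21 ya57 za51) (ka xa21 ya57 za52) (ka xa22 ya21 za16) (ka xa22 ya21 za17) (ka xa22 ya21 za18) (ka xa15 ya43 za47) (ka xa15 ya43 za49) (ka xa23 ya40 za8) (ka xa13 ya56 za23) (ka xa13 ya55 za47) (ka xa29 ya55 za49) (ka xa30 ya10 za58) (ka xa26 ya0 za39) (ka xa23 ya27 za6) (ka xa23 ya40 za11) (ka xa23 ya40 za12) (ka xa31 ya3 za14) (ka xa23 ya29 za26) (ka xa23 ya40 za14)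 (ka xa31 ya1 za52) (ka xa23 ya29 za27) (ka xa18 ya1 za8) (ka xa17 ya55 za58) (ka xa31 ya3 za22) (ka xa18 ya1 za34) (ka xa23 ya40 za17) (ka xa22 ya40 za4) (ka xa23 ya40 za19) (ka xa13 ya55 za57) (ka xa13 ya55 za58) (ka xa23 ya40 za23) (ka xa23 ya40 za22) (ka xa31 ya3 za27) (ka xa31 ya3 za28) (ka xa23 ya38 za17) (ka xa29 ya42 za55) (ka xa23 ya40 za18) (ka xa13 ya56 za28)) (@D3.rec (fun _ => Pt) (ka xa13 ya56 za1) (ka xa22 ya37 za48) (ka xa14 ya48 za34) (ka xa22 ya53 za60) (ka xa31 ya3 za34) (ka xa23 ya40 za25) (ka xa23 ya26 za37) (ka xa13 ya56 za4) (ka xa27 ya4 za58) (ka xa27 ya4 za57) (ka xa23 ya40 za29) (ka xa13 ya56 za7) (ka xa31 ya3 za43) (ka xa25 ya38 za34) (ka xa29 ya59 za29) (ka xa30 ya40 za4) (ka xa13 ya56 za10) (ka xa22 ya15 za53) (ka xa22 ya15 za52) (ka xa22 ya56 za57) (ka xa22 ya18 za38) (ka xa29 ya54 za27) (ka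 xa22 ya16 za60) (ka xa13 ya56 za22) (ka xa13 ya56 za27) (ka xa14 ya29 za8) (ka xa14 ya29 za10) (ka xa22 ya37 za19) (ka xa20 ya52 za27) (ka xa23 ya40 za13) (ka xa23 ya30 za25) (ka xa23 ya29 za60) (ka xa22 ya37 za49) (ka xa22 ya37 za50) (ka xa23 ya40 za26) (ka xa23 ya40 za27) (ka xa31 ya3 za46) (ka xa31 ya3 za47) (ka xa29 ya5 za18) (ka xa22 ya54 za0) (ka xa31 ya3 za32) (ka xa31 ya3 za33) (ka xa23 ya39 za58) (ka xa23 ya39 za59) (ka xa23 ya38 za48) (ka xa23 ya38 za49) (ka xa21 ya50 za36) (ka xa23 ya38 za50) (ka xa23 ya38 za45) (ka xa13 ya56 za31) (ka xa31 ya4 za3) (ka xa23 ya38 za55) (ka xa23 ya38 za56) (ka xa17 ya12 za24) (ka xa23 ya38 za57) (ka xa23 ya39 za61) (ka xa23 ya30 za10) (ka xa23 ya38 za59) (ka xa15 ya45 za61) (ka xa23 ya30 za11) (ka xa21 ya34 za29) (ka xa23 ya38 za60)) (@D3.rec (fun _ => Pt) (ka xa23 ya38 za61)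 (ka xa29 ya5 za19) (ka xa23 ya39 za1) (ka xa23 ya39 za2) (ka xa23 ya39 za3) (ka xa14 ya55 za20) (ka xa14 ya48 za40) (ka xa14 ya53 za21) (ka xa31 ya4 za14) (ka xa23 ya39 za10) (ka xa23 ya39 za11) (ka xa23 ya39 za12) (ka xa22 ya32 za9) (ka xa23 ya39 za4) (ka xa13 ya56 za47) (ka xa23 ya39 za7) (ka xa23 ya39 za6) (ka xa28 ya49 za42) (ka xa25 ya38 za54) (ka xa24 ya34 za42) (ka xa23 ya38 za15) (ka xa31 ya4 za20) (ka xa23 ya39 za18) (ka xa23 ya39 za19) (ka xa23 ya39 za20) (ka xa23 ya39 za22) (ka xa23 ya40 za2) (ka xa29 ya12 za8) (ka xa23 ya30 za20) (ka xa23 ya39 za25) (ka xa23 ya39 za26) (ka xa23 ya39 za27) (ka xa13 ya56 za54) (ka xa23 ya29 za20) (ka xa31 ya4 za33) (ka xa30 ya55 za56) (ka xa19 ya45 za32) (ka xa23 ya39 za31) (ka xa23 ya39 za32) (ka xa23 ya39 za42) (ka xa23 ya39 za43) (ka xa23 ya39 za44) (ka xa22 ya44 za18) (ka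 xa22 ya44 za19) (ka xa29 ya5 za44) (ka xa22 ya44 za41) (ka xa22 ya44 za42) (ka xa22 ya44 za43) (ka xa22 ya44 za44) (ka xa22 ya32 za0) (ka xa23 ya40 za41) (ka xa23 ya40 za42) (ka xa23 ya41 za51) (ka xa23 ya40 za35) (ka xa13 ya57 za14) (ka xa13 ya57 za15) (ka xa13 ya57 za16) (ka xa13 ya57 za17) (ka xa13 ya57 za27) (ka xa27 ya12 za54) (ka xa31 ya4 za57) (ka xa29 ya50 za21)) (@D3.rec (fun _ => Pt) (ka xa29 ya55 za1) (ka xa29 ya46 za42) (ka xa31 ya4 za58) (ka xa24 ya32 za52) (ka xa31 ya4 za34) (ka xa27 ya30 za25) (ka xa22 ya42 za51) (ka xa23 ya26 za15) (ka xa22 ya32 za11) (ka xa30 ya40 za24) (ka xa29 ya55 za16) (ka xa29 ya9 za54) (ka xa29 ya13 za59) (ka xa30 ya40 za23) (ka xa14 ya47 za3) (ka xa28 ya49 za45) (ka xa28 ya10 za56) (ka xa29 ya55 za11) (ka xa28 ya49 za44) (ka xa28 ya49 za41) (ka xa23 ya28 za33) (ka xa23 ya41 za23)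 (ka xa14 ya50 za38) (ka xa14 ya8 za18) (ka xa23 ya41 za28) (ka xa23 ya42 za0) (ka xa23 ya26 za41) (ka xa23 ya26 za44) (ka xa18 ya0 za59) (ka xa23 ya42 za2) (ka xa23 ya41 za35) (ka xa23 ya41 za36) (ka xa14 ya55 za12) (ka xa14 ya55 za13) (ka xa25 ya44 za11) (ka xa30 ya40 za30) (ka xa13 ya57 za40) (ka xa23 ya40 za39) (ka xa22 ya10 za16) (ka xa21 ya30 za0) (ka xa13 ya57 za60) (ka xa13 ya57 za61) (ka xa27 ya12 za51) (ka xa30 ya52 za46) (ka xa29 ya55 za2) (ka xa29 ya55 za3) (ka xa30 ya52 za47) (ka xa30 ya52 za48) (ka xa30 ya52 za49) (ka xa30 ya52 za50) (ka xa30 ya36 za0) (ka xa30 ya7 za14) (ka xa14 ya47 za26) (ka xa29 ya55 za14) (ka xa21 ya2 za27) (ka xa30 ya36 za1) (ka xa27 ya58 za11) (ka xa29 ya55 za12) (ka xa21 ya29 za28) (ka xa21 ya29 za17) (ka xa23 ya27 za31) (ka xa14 ya5 za24)) (@D3.rec (fun _ => Pt) (ka xa14 ya8 za35)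 (ka xa23 ya41 za24) (ka xa23 ya41 za25) (ka xa23 ya41 za61) (ka xa20 ya7 za13) (ka xa23 ya41 za26) (ka xa23 ya41 za27) (ka xa23 ya41 za29) (ka xa17 ya55 za49) (ka xa23 ya41 za30) (ka xa23 ya27 za56) (ka xa23 ya27 za59) (ka xa31 ya5 za38) (ka xa23 ya41 za33) (ka xa23 ya41 za34) (ka xa23 ya42 za3) (ka xa14 ya54 za57) (ka xa23 ya41 za40) (ka xa14 ya55 za10) (ka xa23 ya11 za21) (ka xa23 ya28 za28) (ka xa31 ya5 za44) (ka xa29 ya4 za36) (ka xa31 ya5 za48) (ka xa13 ya58 za12) (ka xa23 ya27 za30) (ka xa23 ya41 za48) (ka xa23 ya41 za49) (ka xa23 ya41 za50) (ka xa14 ya50 za22) (ka xa13 ya58 za23) (ka xa20 ya54 za45) (ka xa24 ya22 za16) (ka xa24 ya44 za45) (ka xa14 ya50 za37) (ka xa15 ya3 za44) (ka xa20 ya16 za5) (ka xa23 ya2 za28) (ka xa19 ya43 za54) (ka xa26 ya12 za36) (ka xa23 ya42 za24) (ka xa13 ya58 za37) (ka xa19 ya48 za60)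 (ka xa24 ya32 za45) (ka xa29 ya27 za47) (ka xa17 ya56 za15) (ka xa22 ya7 za54) (ka xa13 ya58 za48) (ka xa13 ya58 za49) (ka xa16 ya59 za53) (ka xa21 ya20 za39) (ka xa16 ya10 za33) (ka xa23 ya42 za16) (ka xa28 ya31 za21) (ka xa14 ya39 za61) (ka xa31 ya5 za54) (ka xa23 ya42 za45) (ka xa31 ya2 za26) (ka xa31 ya2 za27) (ka xa29 ya18 za23) (ka xa30 ya47 za0) (ka xa27 ya1 za15)) (@D3.rec (fun _ => Pt) (ka xa24 ya33 za34) (ka xa24 ya33 za33) (ka xa14 ya46 za56) (ka xa29 ya12 za14) (ka xa14 ya46 za55) (ka xa17 ya53 za2) (ka xa13 ya59 za0) (ka xa13 ya59 za1) (ka xa30 ya13 za59) (ka xa24 ya44 za0) (ka xa29 ya12 za23) (ka xa24 ya42 za27) (ka xa21 ya29 za12) (ka xa20 ya20 za50) (ka xa28 ya0 za26) (ka xa29 ya23 za17) (ka xa18 ya40 za15) (ka xa13 ya59 za8) (ka xa29 ya43 za56) (ka xa19 ya48 za27) (ka xa22 ya23 za29) (ka xa23 ya23 za8)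 (ka xa17 ya53 za3) (ka xa20 ya33 za7) (ka xa22 ya55 za45) (ka xa23 ya32 za56) (ka xa23 ya32 za53) (ka xa23 ya51 za57) (ka xa31 ya2 za29) (ka xa28 ya10 za51) (ka xa29 ya12 za12) (ka xa23 ya16 za20) (ka xa28 ya27 za14) (ka xa29 ya12 za10) (ka xa23 ya41 za9) (ka xa29 ya12 za13) (ka xa14 ya56 za28) (ka xa14 ya56 za29) (ka xa19 ya50 za3) (ka xa19 ya50 za2) (ka xa23 ya43 za61) (ka xa19 ya49 za16) (ka xa29 ya9 za51) (ka xa27 ya56 za58) (ka xa23 ya20 za7) (ka xa16 ya6 za36) (ka xa30 ya12 za48) (ka xa13 ya59 za46) (ka xa23 ya25 za23) (ka xa23 ya33 za49) (ka xa26 ya1 za0) (ka xa19 ya50 za4) (ka xa30 ya13 za32) (ka xa30 ya13 za33) (ka xa31 ya2 za30) (ka xa24 ya41 za30) (ka xa13 ya59 za54) (ka xa13 ya59 za55) (ka xa29 ya30 za7) (ka xa23 ya19 za26) (ka xa31 ya6 za11) (ka xa26 ya10 za0)) (@D3.rec (fun _ => Pt) (ka xa23 ya16 za15) (ka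 xa23 ya33 za9) (ka xa30 ya39 za59) (ka xa18 ya20 za8) (ka xa26 ya3 za36) (ka xa13 ya59 za58) (ka xa28 ya10 za59) (ka xa29 ya9 za7) (ka xa18 ya58 za55) (ka xa28 ya11 za0) (ka xa23 ya44 za26) (ka xa26 ya18 za27) (ka xa31 ya2 za31) (ka xa31 ya2 za32) (ka xa31 ya2 za33) (ka xa31 ya0 za34) (ka xa30 ya40 za40) (ka xa30 ya40 za42) (ka xa14 ya0 za4) (ka xa23 ya32 za59) (ka xa30 ya13 za26) (ka xa26 ya9 za56) (ka xa16 ya6 za32) (ka xa14 ya0 za5) (ka xa28 ya11 za34) (ka xa26 ya25 za31) (ka xa29 ya22 za11) (ka xa29 ya52 za12) (ka xa23 ya42 za41) (ka xa25 ya2 za41) (ka xa28 ya13 za53) (ka xa28 ya13 za52) (ka xa14 ya0 za10) (ka xa30 ya35 za10) (ka xa31 ya2 za37) (ka xa25 ya2 za44) (ka xa31 ya2 za34) (ka xa25 ya15 za61) (ka xa14 ya0 za12) (ka xa31 ya6 za22) (ka xa24 ya57 za4) (ka xa14 ya0 za18) (ka xa14 ya0 za14) (ka xa30 ya32 za52)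 (ka xa25 ya3 za28) (ka xa25 ya3 za9) (ka xa27 ya58 za49) (ka xa25 ya3 za5) (ka xa14 ya0 za17) (ka xa23 ya25 za42) (ka xa23 ya25 za41) (ka xa30 ya42 za48) (ka xa23 ya32 za55) (ka xa23 ya31 za26) (ka xa20 ya33 za26) (ka xa23 ya32 za52) (ka xa23 ya31 za25) (ka xa26 ya27 za18) (ka xa26 ya9 za40) (ka xa23 ya32 za19) (ka xa31 ya0 za35) (ka xa22 ya46 za8)) (@D3.rec (fun _ => Pt) (ka xa30 ya13 za29) (ka xa23 ya38 za16) (ka xa23 ya38 za14) (ka xa14 ya0 za26) (ka xa23 ya38 za19) (ka xa23 ya38 za18) (ka xa30 ya31 za43) (ka xa31 ya0 za42) (ka xa23 ya20 za27) (ka xa23 ya32 za1) (ka xa31 ya2 za40) (ka xa23 ya52 za33) (ka xa30 ya58 za45) (ka xa14 ya0 za36) (ka xa23 ya44 za50) (ka xa23 ya44 za54) (ka xa14 ya30 za32) (ka xa14 ya0 za37) (ka xa30 ya42 za38) (ka xa16 ya7 za8) (ka xa29 ya7 za42) (ka xa26 ya23 za6) (ka xa28 ya41 za2) (ka xa31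 ya2 za42) (ka xa25 ya49 za10) (ka xa14 ya51 za29) (ka xa18 ya42 za35) (ka xa30 ya32 za11) (ka xa30 ya13 za43) (ka xa30 ya32 za12) (ka xa22 ya16 za55) (ka xa22 ya16 za57) (ka xa22 ya16 za56) (ka xa30 ya3 za61) (ka xa31 ya6 za47) (ka xa22 ya17 za6) (ka xa22 ya17 za7) (ka xa22 ya17 za8) (ka xa22 ya17 za10) (ka xa14 ya2 za38) (ka xa23 ya44 za60) (ka xa23 ya17 za48) (ka xa14 ya1 za1) (ka xa25 ya15 za54) (ka xa31 ya2 za43) (ka xa23 ya45 za17) (ka xa19 ya2 za12) (ka xa31 ya2 za45) (ka xa31 ya6 za52) (ka xa23 ya31 za49) (ka xa22 ya30 za55) (ka xa15 ya47 za29) (ka xa31 ya6 za54) (ka xa28 ya1 za50) (ka xa22 ya39 za4) (ka xa18 ya27 za0) (ka xa14 ya43 za48) (ka xa23 ya34 za11) (ka xa23 ya34 za10) (ka xa30 ya56 za11) (ka xa23 ya52 za11) (ka xa23 ya52 za12)) (@D3.rec (fun _ => Pt) (ka xa27 ya59 za12) (ka xa22 ya57 za29) (ka xa23 ya52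 za15) (ka xa14 ya31 za58) (ka xa14 ya31 za59) (ka xa22 ya37 za60) (ka xa14 ya21 za26) (ka xa14 ya1 za25) (ka xa23 ya16 za31) (ka xa31 ya6 za60) (ka xa23 ya33 za58) (ka xa23 ya33 za57) (ka xa14 ya1 za27) (ka xa30 ya46 za0) (ka xa23 ya51 za27) (ka xa27 ya49 za10) (ka xa30 ya35 za53) (ka xa22 ya8 za52) (ka xa23 ya51 za3) (ka xa30 ya11 za53) (ka xa20 ya38 za9) (ka xa23 ya51 za4) (ka xa24 ya24 za25) (ka xa24 ya21 za26) (ka xa22 ya24 za13) (ka xa24 ya24 za46) (ka xa29 ya55 za50) (ka xa23 ya35 za2) (ka xa22 ya11 za44) (ka xa14 ya14 za16) (ka xa17 ya29 za50) (ka xa21 ya57 za23) (ka xa17 ya30 za1) (ka xa17 ya21 za52) (ka xa21 ya9 za59) (ka xa15 ya43 za31) (ka xa23 ya23 za26) (ka xa31 ya7 za3) (ka xa19 ya54 za23) (ka xa19 ya56 za44) (ka xa14 ya1 za57) (ka xa14 ya1 za59) (ka xa14 ya1 za60) (ka xa14 ya2 za5) (ka xa21 ya29 za45) (ka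 xa21 ya29 za46) (ka xa20 ya13 za36) (ka xa21 ya12 za28) (ka xa24 ya44 za32) (ka xa24 ya44 za29) (ka xa26 ya0 za32) (ka xa27 ya25 za41) (ka xa25 ya28 za49) (ka xa30 ya8 za56) (ka xa22 ya27 za8) (ka xa24 ya40 za48) (ka xa24 ya40 za49) (ka xa24 ya40 za45) (ka xa24 ya40 za46) (ka xa24 ya36 za8) (ka xa24 ya40 za54) (ka xa23 ya22 za59)) (@D3.rec (fun _ => Pt) (ka xa24 ya36 za9) (ka xa24 ya40 za52) (ka xa23 ya34 za27) (ka xa14 ya2 za7) (ka xa30 ya4 za11) (ka xa31 ya7 za11) (ka xa26 ya8 za26) (ka xa31 ya7 za12) (ka xa18 ya18 za30) (ka xa23 ya23 za5) (ka xa23 ya23 za6) (ka xa23 ya23 za7) (ka xa23 ya23 za9) (ka xa21 ya37 za55) (ka xa23 ya23 za2) (ka xa21 ya37 za58) (ka xa21 ya37 za59) (ka xa22 ya17 za56) (ka xa15 ya50 za20) (ka xa20 ya18 za38) (ka xa23 ya24 za26) (ka xa23 ya24 za27) (ka xa14 ya42 za25) (ka xa16 ya5 za22) (ka xa14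 ya38 za43) (ka xa23 ya24 za31) (ka xa16 ya6 za28) (ka xa16 ya5 za34) (ka xa22 ya27 za10) (ka xa16 ya19 za58) (ka xa24 ya41 za0) (ka xa14 ya2 za33) (ka xa23 ya23 za27) (ka xa14 ya2 za34) (ka xa22 ya15 za2) (ka xa22 ya17 za54) (ka xa22 ya17 za53) (ka xa31 ya6 za48) (ka xa26 ya15 za42) (ka xa23 ya44 za61) (ka xa23 ya45 za0) (ka xa23 ya45 za1) (ka xa23 ya45 za2) (ka xa15 ya4 za23) (ka xa23 ya22 za24) (ka xa23 ya22 za23) (ka xa14 ya2 za44) (ka xa23 ya22 za18) (ka xa14 ya2 za45) (ka xa21 ya4 za26) (ka xa14 ya2 za47) (ka xa26 ya14 za22) (ka xa28 ya47 za4) (ka xa27 ya26 za60) (ka xa26 ya10 za59) (ka xa26 ya10 za57) (ka xa14 ya2 za51) (ka xa23 ya23 za59) (ka xa23 ya23 za58) (ka xa14 ya29 za16) (ka xa21 ya37 za54) (ka xa23 ya23 za3)) (@D3.rec (fun _ => Pt) (ka xa23 ya23 za4) (ka xa23 ya24 za15) (ka xa23 ya24 za16) (ka xa14 ya3 za1)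 (ka xa22 ya38 za9) (ka xa14 ya38 za40) (ka xa23 ya24 za17) (ka xa22 ya27 za6) (ka xa22 ya1 za48) (ka xa23 ya24 za20) (ka xa26 ya25 za22) (ka xa14 ya20 za25) (ka xa14 ya3 za12) (ka xa23 ya23 za23) (ka xa23 ya23 za22) (ka xa24 ya43 za28) (ka xa25 ya41 za9) (ka xa20 ya13 za11) (ka xa23 ya23 za33) (ka xa23 ya23 za35) (ka xa23 ya24 za22) (ka xa21 ya33 za4) (ka xa15 ya42 za38) (ka xa21 ya24 za36) (ka xa14 ya3 za18) (ka xa24 ya35 za59) (ka xa31 ya7 za35) (ka xa14 ya55 za57) (ka xa14 ya55 za59) (ka xa23 ya23 za46) (ka xa22 ya19 za54) (ka xa24 ya36 za18) (ka xa21 ya32 za59) (ka xa21 ya44 za60) (ka xa21 ya37 za3) (ka xa14 ya3 za29) (ka xa25 ya10 za3) (ka xa14 ya56 za44) (ka xa24 ya31 za7) (ka xa23 ya52 za17) (ka xa23 ya52 za18) (ka xa22 ya18 za52) (ka xa19 ya5 za21) (ka xa22 ya18 za53) (ka xa22 ya28 za11) (ka xa22 ya18 za32) (ka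 xa19 ya22 za56) (ka xa22 ya18 za45) (ka xa22 ya18 za46) (ka xa14 ya24 za30) (ka xa14 ya15 za10) (ka xa14 ya15 za11) (ka xa14 ya3 za47) (ka xa25 ya45 za19) (ka xa31 ya7 za41) (ka xa27 ya35 za6) (ka xa23 ya50 za2) (ka xa27 ya49 za48) (ka xa23 ya22 za39) (ka xa18 ya5 za11) (ka xa14 ya3 za49) (ka xa21 ya23 za28)) (@D3.rec (fun _ => Pt) (ka xa19 ya19 za58) (ka xa25 ya46 za50) (ka xa31 ya7 za46) (ka xa23 ya24 za1) (ka xa22 ya35 za22) (ka xa23 ya24 za35) (ka xa23 ya24 za38) (ka xa23 ya24 za43) (ka xa18 ya48 za7) (ka xa23 ya24 za45) (ka xa23 ya24 za47) (ka xa23 ya24 za48) (ka xa23 ya24 za49) (ka xa23 ya24 za50) (ka xa23 ya24 za54) (ka xa23 ya24 za55) (ka xa23 ya24 za56) (ka xa23 ya24 za57) (ka xa21 ya41 za0) (ka xa21 ya40 za53) (ka xa23 ya24 za58) (ka xa21 ya55 za25) (ka xa21 ya56 za47) (ka xa22 ya58 za19) (ka xa23 ya24 za60)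 (ka xa23 ya24 za61) (ka xa24 ya10 za37) (ka xa23 ya25 za0) (ka xa23 ya25 za1) (ka xa21 ya56 za51) (ka xa23 ya25 za2) (ka xa23 ya25 za4) (ka xa17 ya9 za5) (ka xa14 ya8 za19) (ka xa14 ya8 za11) (ka xa30 ya18 za11) (ka xa30 ya18 za12) (ka xa20 ya12 za27) (ka xa14 ya8 za32) (ka xa14 ya8 za34) (ka xa14 ya8 za36) (ka xa30 ya3 za14) (ka xa14 ya8 za39) (ka xa31 ya8 za6) (ka xa14 ya8 za43) (ka xa17 ya5 za50) (ka xa17 ya30 za18) (ka xa25 ya4 za1) (ka xa15 ya6 za56) (ka xa26 ya14 za59) (ka xa31 ya8 za13) (ka xa21 ya36 za57) (ka xa14 ya46 za26) (ka xa20 ya49 za55) (ka xa23 ya46 za55) (ka xa26 ya13 za48) (ka xa27 ya25 za15) (ka xa14 ya4 za37) (ka xa27 ya48 za50) (ka xa27 ya48 za46) (ka xa28 ya31 za50) (ka xa25 ya49 za58)) (@D3.rec (fun _ => Pt) (ka xa16 ya56 za40) (ka xa17 ya7 za48) (ka xa20 ya44 za42) (ka xa21 ya22 za55) (ka xa21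 ya37 za33) (ka xa20 ya13 za58) (ka xa20 ya53 za20) (ka xa21 ya37 za35) (ka xa18 ya25 za16) (ka xa18 ya24 za58) (ka xa22 ya11 za36) (ka xa22 ya17 za45) (ka xa22 ya17 za43) (ka xa14 ya5 za6) (ka xa23 ya33 za2) (ka xa23 ya28 za20) (ka xa23 ya33 za1) (ka xa23 ya26 za58) (ka xa23 ya33 za5) (ka xa23 ya33 za4) (ka xa23 ya44 za23) (ka xa23 ya25 za60) (ka xa14 ya5 za22) (ka xa14 ya5 za25) (ka xa21 ya29 za33) (ka xa21 ya29 za21) (ka xa21 ya29 za22) (ka xa22 ya53 za52) (ka xa30 ya40 za57) (ka xa30 ya52 za44) (ka xa23 ya26 za10) (ka xa23 ya26 za11) (ka xa30 ya40 za58) (ka xa30 ya52 za45) (ka xa23 ya41 za57) (ka xa31 ya8 za26) (ka xa23 ya26 za13) (ka xa23 ya41 za58) (ka xa28 ya11 za54) (ka xa30 ya41 za43) (ka xa29 ya49 za48) (ka xa23 ya41 za22) (ka xa22 ya44 za33) (ka xa31 ya5 za21) (ka xa23 ya41 za60) (ka xa23 ya27 za48) (ka xa14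 ya5 za26) (ka xa31 ya8 za59) (ka xa23 ya27 za44) (ka xa23 ya27 za45) (ka xa23 ya27 za47) (ka xa14 ya6 za7) (ka xa14 ya5 za28) (ka xa24 ya28 za11) (ka xa30 ya37 za23) (ka xa23 ya27 za51) (ka xa23 ya27 za52) (ka xa23 ya27 za54) (ka xa25 ya42 za42) (ka xa23 ya27 za57) (ka xa23 ya27 za61) (ka xa23 ya28 za0)) (@D3.rec (fun _ => Pt) (ka xa23 ya41 za21) (ka xa23 ya28 za2) (ka xa23 ya28 za3) (ka xa23 ya28 za4) (ka xa23 ya28 za13) (ka xa14 ya5 za37) (ka xa23 ya28 za16) (ka xa23 ya28 za15) (ka xa15 ya42 za60) (ka xa29 ya3 za34) (ka xa23 ya28 za9) (ka xa23 ya28 za10) (ka xa23 ya28 za11) (ka xa21 ya24 za31) (ka xa14 ya51 za51) (ka xa24 ya23 za50) (ka xa29 ya58 za27) (ka xa31 ya9 za21) (ka xa23 ya28 za22) (ka xa23 ya28 za23) (ka xa23 ya28 za24) (ka xa14 ya51 za37) (ka xa23 ya28 za25) (ka xa14 ya5 za46) (ka xa31 ya9 za27) (ka xa23 ya28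 za29) (ka xa23 ya28 za30) (ka xa23 ya28 za31) (ka xa30 ya41 za10) (ka xa30 ya41 za11) (ka xa21 ya49 za14) (ka xa23 ya28 za37) (ka xa23 ya28 za38) (ka xa31 ya9 za38) (ka xa14 ya53 za26) (ka xa14 ya34 za43) (ka xa31 ya9 za43) (ka xa31 ya9 za48) (ka xa14 ya5 za52) (ka xa19 ya46 za14) (ka xa28 ya19 za22) (ka xa14 ya53 za11) (ka xa23 ya28 za39) (ka xa23 ya28 za40) (ka xa23 ya28 za41) (ka xa22 ya42 za60) (ka xa22 ya42 za61) (ka xa31 ya10 za3) (ka xa22 ya43 za24) (ka xa22 ya43 za25) (ka xa22 ya43 za26) (ka xa22 ya43 za27) (ka xa14 ya33 za56) (ka xa14 ya53 za0) (ka xa14 ya53 za9) (ka xa23 ya25 za58) (ka xa14 ya6 za6) (ka xa14 ya6 za10) (ka xa23 ya27 za42) (ka xa23 ya27 za43) (ka xa20 ya12 za45) (ka xa23 ya27 za55)) (@D3.rec (fun _ => Pt) (ka xa29 ya51 za15) (ka xa30 ya4 za41) (ka xa23 ya28 za26) (ka xa21 ya24 za43) (ka xa30 ya41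 za13) (ka xa30 ya41 za12) (ka xa14 ya36 za50) (ka xa21 ya49 za32) (ka xa23 ya26 za31) (ka xa25 ya40 za2) (ka xa16 ya3 za21) (ka xa23 ya26 za38) (ka xa23 ya26 za39) (ka xa23 ya27 za29) (ka xa23 ya26 za42) (ka xa31 ya10 za17) (ka xa31 ya10 za20) (ka xa23 ya26 za49) (ka xa23 ya26 za60) (ka xa23 ya26 za51) (ka xa14 ya6 za25) (ka xa14 ya6 za26) (ka xa23 ya26 za55) (ka xa23 ya26 za54) (ka xa31 ya10 za23) (ka xa23 ya27 za5) (ka xa23 ya27 za34) (ka xa23 ya27 za35) (ka xa21 ya24 za39) (ka xa23 ya27 za10) (ka xa14 ya6 za31) (ka xa23 ya41 za18) (ka xa19 ya56 za3) (ka xa29 ya49 za47) (ka xa14 ya6 za32) (ka xa23 ya28 za53) (ka xa16 ya10 za37) (ka xa16 ya10 za38) (ka xa21 ya30 za46) (ka xa23 ya29 za37) (ka xa15 ya24 za52) (ka xa23 ya28 za50) (ka xa23 ya28 za51) (ka xa14 ya6 za53) (ka xa14 ya6 za54) (ka xa14 ya6 za56) (ka xa14 ya6 za59)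 (ka xa14 ya6 za60) (ka xa14 ya7 za0) (ka xa14 ya7 za1) (ka xa14 ya7 za2) (ka xa14 ya7 za3) (ka xa19 ya56 za35) (ka xa17 ya3 za14) (ka xa28 ya42 za47) (ka xa26 ya22 za45) (ka xa30 ya2 za37) (ka xa30 ya2 za59) (ka xa24 ya36 za37) (ka xa31 ya10 za31) (ka xa30 ya3 za0) (ka xa31 ya10 za32)) (@D3.rec (fun _ => Pt) (ka xa31 ya10 za33) (ka xa30 ya32 za13) (ka xa30 ya12 za53) (ka xa22 ya43 za16) (ka xa29 ya15 za41) (ka xa21 ya18 za17) (ka xa29 ya58 za11) (ka xa30 ya23 za38) (ka xa31 ya10 za34) (ka xa23 ya31 za34) (ka xa29 ya15 za40) (ka xa29 ya28 za46) (ka xa31 ya10 za35) (ka xa31 ya10 za36) (ka xa30 ya41 za42) (ka xa31 ya10 za37) (ka xa14 ya46 za13) (ka xa26 ya1 za33) (ka xa23 ya40 za31) (ka xa30 ya1 za36) (ka xa21 ya48 za39) (ka xa23 ya39 za0) (ka xa23 ya38 za41) (ka xa23 ya29 za21) (ka xa23 ya30 za1) (ka xa23 ya30 za2) (ka xa23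 ya30 za5) (ka xa23 ya30 za6) (ka xa23 ya29 za24) (ka xa23 ya30 za7) (ka xa23 ya30 za9) (ka xa29 ya59 za2) (ka xa21 ya50 za34) (ka xa23 ya30 za13) (ka xa23 ya30 za14) (ka xa23 ya29 za30) (ka xa23 ya29 za31) (ka xa14 ya53 za27) (ka xa14 ya53 za28) (ka xa14 ya53 za29) (ka xa23 ya30 za17) (ka xa19 ya45 za34) (ka xa31 ya11 za12) (ka xa19 ya46 za3) (ka xa14 ya7 za15) (ka xa19 ya45 za52) (ka xa31 ya3 za51) (ka xa14 ya33 za60) (ka xa23 ya30 za26) (ka xa23 ya30 za27) (ka xa23 ya30 za28) (ka xa23 ya28 za52) (ka xa30 ya41 za41) (ka xa30 ya41 za39) (ka xa30 ya41 za40) (ka xa31 ya7 za48) (ka xa30 ya41 za44) (ka xa23 ya38 za34) (ka xa23 ya38 za37) (ka xa22 ya44 za7) (ka xa23 ya38 za44) (ka xa23 ya30 za3)) (@D3.rec (fun _ => Pt) (ka xa23 ya29 za25) (ka xa22 ya44 za6) (ka xa23 ya29 za29) (ka xa23 ya30 za15) (ka xa30 ya41 za48) (ka xa14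 ya7 za38) (ka xa14 ya7 za43) (ka xa14 ya7 za44) (ka xa14 ya7 za45) (ka xa16 ya49 za42) (ka xa25 ya45 za40) (ka xa16 ya7 za2) (ka xa31 ya8 za4) (ka xa24 ya10 za3) (ka xa25 ya45 za39) (ka xa20 ya54 za53) (ka xa23 ya30 za52) (ka xa21 ya27 za52) (ka xa19 ya16 za58) (ka xa31 ya11 za26) (ka xa19 ya16 za43) (ka xa21 ya19 za45) (ka xa14 ya46 za44) (ka xa29 ya0 za14) (ka xa23 ya30 za40) (ka xa16 ya2 za57) (ka xa20 ya6 za41) (ka xa27 ya11 za52) (ka xa20 ya25 za17) (ka xa16 ya35 za60) (ka xa21 ya37 za50) (ka xa28 ya19 za1) (ka xa21 ya37 za60) (ka xa29 ya55 za57) (ka xa16 ya23 za35) (ka xa21 ya37 za61) (ka xa16 ya23 za33) (ka xa28 ya1 za13) (ka xa26 ya8 za23) (ka xa14 ya8 za13) (ka xa30 ya33 za41) (ka xa23 ya32 za28) (ka xa26 ya46 za4) (ka xa21 ya33 za33) (ka xa19 ya53 za15) (ka xa23 ya30 za56) (ka xa26 ya14 za48) (ka xa26 ya14 za53)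 (ka xa30 ya51 za56) (ka xa18 ya28 za14) (ka xa15 ya13 za55) (ka xa24 ya37 za18) (ka xa24 ya37 za16) (ka xa15 ya12 za18) (ka xa30 ya3 za15) (ka xa14 ya8 za27) (ka xa14 ya8 za28) (ka xa21 ya2 za23) (ka xa23 ya14 za50) (ka xa23 ya14 za52) (ka xa31 ya5 za14) (ka xa30 ya31 za54)) (@D3.rec (fun _ => Pt) (ka xa17 ya9 za7) (ka xa14 ya8 za29) (ka xa24 ya46 za61) (ka xa22 ya28 za32) (ka xa22 ya28 za33) (ka xa30 ya11 za24) (ka xa14 ya8 za37) (ka xa31 ya11 za37) (ka xa31 ya11 za31) (ka xa18 ya26 za46) (ka xa25 ya3 za58) (ka xa15 ya13 za34) (ka xa18 ya29 za49) (ka xa14 ya8 za40) (ka xa30 ya2 za50) (ka xa16 ya25 za41) (ka xa18 ya26 za45) (ka xa25 ya46 za37) (ka xa28 ya36 za49) (ka xa28 ya36 za52) (ka xa14 ya46 za47) (ka xa31 ya8 za8) (ka xa27 ya58 za25) (ka xa18 ya29 za46) (ka xa27 ya50 za28) (ka xa27 ya44 za33) (ka xa18 ya29 za60)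 (ka xa14 ya8 za46) (ka xa18 ya29 za59) (ka xa16 ya35 za59) (ka xa30 ya1 za8) (ka xa18 ya29 za6) (ka xa23 ya0 za1) (ka xa30 ya31 za42) (ka xa30 ya2 za3) (ka xa14 ya8 za55) (ka xa14 ya8 za56) (ka xa14 ya8 za59) (ka xa30 ya42 za36) (ka xa25 ya37 za2) (ka xa30 ya13 za38) (ka xa30 ya20 za11) (ka xa23 ya2 za32) (ka xa30 ya51 za60) (ka xa31 ya11 za50) (ka xa31 ya11 za51) (ka xa16 ya13 za0) (ka xa19 ya55 za23) (ka xa19 ya56 za39) (ka xa29 ya18 za45) (ka xa17 ya38 za26) (ka xa14 ya47 za1) (ka xa31 ya11 za52) (ka xa29 ya58 za49) (ka xa29 ya58 za48) (ka xa14 ya8 za60) (ka xa31 ya11 za43) (ka xa23 ya45 za6) (ka xa18 ya30 za1) (ka xa17 ya40 za53) (ka xa30 ya0 za53) (ka xa23 ya31 za40)) (@D3.rec (fun _ => Pt) (ka xa30 ya0 za57) (ka xa30 ya0 za58) (ka xa30 ya42 za41) (ka xa14 ya47 za46) (ka xa14 ya47 za49) (ka xa23 ya16 za53) (ka xa14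 ya9 za9) (ka xa30 ya2 za14) (ka xa31 ya12 za4) (ka xa24 ya31 za42) (ka xa26 ya7 za46) (ka xa30 ya25 za0) (ka xa22 ya42 za15) (ka xa14 ya9 za12) (ka xa25 ya45 za32) (ka xa21 ya55 za49) (ka xa23 ya45 za25) (ka xa22 ya11 za31) (ka xa29 ya58 za51) (ka xa30 ya0 za60) (ka xa30 ya0 za61) (ka xa14 ya9 za18) (ka xa14 ya9 za19) (ka xa23 ya38 za20) (ka xa30 ya42 za30) (ka xa30 ya42 za29) (ka xa23 ya32 za10) (ka xa29 ya58 za39) (ka xa29 ya58 za43) (ka xa29 ya58 za50) (ka xa15 ya12 za13) (ka xa15 ya12 za8) (ka xa27 ya45 za41) (ka xa21 ya56 za31) (ka xa18 ya29 za53) (ka xa14 ya9 za30) (ka xa27 ya4 za48) (ka xa26 ya15 za55) (ka xa26 ya15 za56) (ka xa30 ya1 za6) (ka xa24 ya45 za11) (ka xa22 ya17 za51) (ka xa22 ya17 za50) (ka xa14 ya9 za40) (ka xa23 ya19 za60) (ka xa28 ya3 za45) (ka xa28 ya3 za46) (ka xa23 ya20 za3) (ka xa30 ya20 za35)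 (ka xa30 ya42 za33) (ka xa23 ya33 za14) (ka xa28 ya11 za44) (ka xa19 ya14 za47) (ka xa19 ya14 za48) (ka xa23 ya33 za15) (ka xa14 ya9 za51) (ka xa31 ya12 za13) (ka xa18 ya29 za24) (ka xa18 ya29 za38) (ka xa28 ya10 za6) (ka xa23 ya33 za40) (ka xa23 ya35 za39)) (@D3.rec (fun _ => Pt) (ka xa23 ya35 za40) (ka xa23 ya35 za41) (ka xa23 ya35 za42) (ka xa14 ya9 za56) (ka xa30 ya0 za59) (ka xa27 ya31 za58) (ka xa23 ya43 za57) (ka xa24 ya38 za13) (ka xa30 ya20 za36) (ka xa23 ya19 za61) (ka xa14 ya10 za6) (ka xa23 ya2 za22) (ka xa23 ya17 za30) (ka xa23 ya17 za29) (ka xa30 ya20 za38) (ka xa30 ya58 za42) (ka xa30 ya58 za50) (ka xa23 ya33 za45) (ka xa31 ya12 za21) (ka xa19 ya14 za42) (ka xa20 ya53 za27) (ka xa31 ya1 za45) (ka xa27 ya26 za25) (ka xa23 ya17 za61) (ka xa14 ya10 za9) (ka xa23 ya44 za16) (ka xa29 ya22 za7) (ka xa14 ya19 za42)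 (ka xa14 ya19 za45) (ka xa14 ya19 za48) (ka xa14 ya19 za28) (ka xa14 ya19 za30) (ka xa14 ya19 za33) (ka xa24 ya32 za24) (ka xa24 ya32 za25) (ka xa22 ya19 za3) (ka xa22 ya19 za4) (ka xa22 ya19 za5) (ka xa22 ya19 za6) (ka xa22 ya19 za10) (ka xa19 ya21 za45) (ka xa22 ya19 za11) (ka xa29 ya45 za50) (ka xa22 ya19 za13) (ka xa22 ya19 za14) (ka xa29 ya41 za7) (ka xa22 ya19 za16) (ka xa22 ya19 za17) (ka xa22 ya19 za18) (ka xa22 ya19 za19) (ka xa22 ya19 za21) (ka xa22 ya19 za22) (ka xa14 ya30 za46) (ka xa14 ya10 za32) (ka xa14 ya40 za43) (ka xa14 ya40 za42) (ka xa19 ya47 za23) (ka xa29 ya47 za18) (ka xa14 ya40 za39) (ka xa14 ya40 za41) (ka xa14 ya10 za34) (ka xa31 ya12 za42)) (@D3.rec (fun _ => Pt) (ka xa14 ya40 za56) (ka xa14 ya40 za51) (ka xa30 ya11 za39) (ka xa14 ya10 za38) (ka xa30 ya23 za2) (ka xa14 ya40 za26) (ka xa14 ya40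 za25) (ka xa14 ya25 za57) (ka xa14 ya44 za13) (ka xa29 ya55 za54) (ka xa29 ya55 za55) (ka xa14 ya44 za8) (ka xa14 ya44 za9) (ka xa14 ya44 za11) (ka xa21 ya14 za19) (ka xa14 ya44 za58) (ka xa14 ya10 za45) (ka xa26 ya7 za23) (ka xa26 ya7 za22) (ka xa14 ya10 za50) (ka xa30 ya13 za41) (ka xa29 ya51 za28) (ka xa31 ya12 za55) (ka xa25 ya14 za57) (ka xa20 ya32 za6) (ka xa14 ya45 za36) (ka xa17 ya4 za5) (ka xa17 ya12 za57) (ka xa25 ya17 za51) (ka xa30 ya7 za28) (ka xa14 ya41 za25) (ka xa23 ya47 za12) (ka xa22 ya58 za31) (ka xa23 ya10 za56) (ka xa18 ya54 za6) (ka xa27 ya3 za6) (ka xa20 ya11 za60) (ka xa17 ya11 za36) (ka xa25 ya43 za20) (ka xa30 ya46 za59) (ka xa19 ya40 za3) (ka xa19 ya40 za2) (ka xa22 ya23 za22) (ka xa22 ya16 za48) (ka xa20 ya48 za24) (ka xa22 ya16 za49) (ka xa22 ya23 za25) (ka xa23 ya9 za57) (ka xa14 ya11 za18)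 (ka xa20 ya28 za12) (ka xa17 ya6 za44) (ka xa21 ya20 za48) (ka xa31 ya13 za0) (ka xa21 ya41 za44) (ka xa21 ya41 za45) (ka xa23 ya37 za54) (ka xa27 ya56 za60) (ka xa21 ya10 za14) (ka xa22 ya10 za33) (ka xa28 ya41 za16) (ka xa27 ya57 za19) (ka xa23 ya16 za19)) (@D3.rec (fun _ => Pt) (ka xa20 ya13 za1) (ka xa21 ya47 za15) (ka xa21 ya41 za50) (ka xa14 ya11 za42) (ka xa20 ya42 za21) (ka xa22 ya37 za26) (ka xa22 ya37 za27) (ka xa17 ya3 za56) (ka xa26 ya54 za4) (ka xa26 ya54 za5) (ka xa22 ya37 za32) (ka xa30 ya48 za45) (ka xa23 ya46 za31) (ka xa17 ya17 za33) (ka xa17 ya17 za35) (ka xa29 ya9 za25) (ka xa20 ya42 za43) (ka xa14 ya11 za53) (ka xa18 ya50 za47) (ka xa27 ya16 za39) (ka xa14 ya12 za3) (ka xa30 ya23 za33) (ka xa29 ya30 za32) (ka xa15 ya37 za17) (ka xa21 ya43 za42) (ka xa28 ya10 za31) (ka xa19 ya59 za18) (ka xa30 ya23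 za34) (ka xa29 ya38 za29) (ka xa21 ya54 za6) (ka xa27 ya6 za12) (ka xa27 ya23 za6) (ka xa14 ya12 za9) (ka xa31 ya13 za20) (ka xa27 ya4 za20) (ka xa21 ya32 za13) (ka xa14 ya12 za20) (ka xa18 ya50 za51) (ka xa16 ya59 za54) (ka xa28 ya25 za23) (ka xa30 ya32 za59) (ka xa18 ya0 za14) (ka xa24 ya0 za51) (ka xa20 ya25 za47) (ka xa24 ya0 za49) (ka xa22 ya32 za12) (ka xa22 ya32 za13) (ka xa21 ya51 za29) (ka xa23 ya19 za49) (ka xa22 ya56 za59) (ka xa14 ya22 za52) (ka xa21 ya51 za32) (ka xa21 ya9 za17) (ka xa28 ya45 za43) (ka xa21 ya9 za43) (ka xa18 ya25 za4) (ka xa20 ya24 za32) (ka xa22 ya12 za47) (ka xa14 ya12 za57) (ka xa14 ya12 za60) (ka xa14 ya13 za0) (ka xa14 ya13 za1)) (@D3.rec (fun _ => Pt) (ka xa28 ya13 za60) (ka xa21 ya37 za20) (ka xa21 ya37 za34) (ka xa29 ya35 za18) (ka xa29 ya35 za22) (ka xa28 ya18 za57) (ka xa29 ya35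 za1) (ka xa30 ya9 za11) (ka xa28 ya37 za50) (ka xa22 ya14 za25) (ka xa22 ya14 za26) (ka xa14 ya27 za17) (ka xa28 ya52 za56) (ka xa31 ya13 za28) (ka xa22 ya27 za51) (ka xa22 ya26 za44) (ka xa31 ya13 za29) (ka xa31 ya13 za30) (ka xa29 ya3 za15) (ka xa28 ya41 za56) (ka xa30 ya38 za4) (ka xa30 ya37 za30) (ka xa23 ya54 za11) (ka xa24 ya2 za3) (ka xa24 ya2 za4) (ka xa24 ya2 za5) (ka xa24 ya2 za6) (ka xa24 ya2 za9) (ka xa24 ya2 za11) (ka xa22 ya37 za33) (ka xa27 ya8 za18) (ka xa24 ya2 za13) (ka xa24 ya2 za14) (ka xa24 ya2 za15) (ka xa30 ya35 za6) (ka xa24 ya30 za5) (ka xa24 ya30 za6) (ka xa24 ya30 za7) (ka xa28 ya17 za29) (ka xa28 ya37 za35) (ka xa14 ya13 za12) (ka xa28 ya46 za38) (ka xa30 ya21 za19) (ka xa30 ya34 za34) (ka xa27 ya8 za50) (ka xa19 ya21 za61) (ka xa14 ya13 za19) (ka xa30 ya20 za43) (ka xa23 ya55 za19) (ka xa29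 ya35 za44) (ka xa23 ya52 za5) (ka xa30 ya34 za23) (ka xa31 ya12 za31) (ka xa29 ya36 za28) (ka xa27 ya6 za44) (ka xa27 ya6 za45) (ka xa24 ya29 za49) (ka xa24 ya29 za47) (ka xa24 ya25 za60) (ka xa27 ya6 za50) (ka xa27 ya6 za51) (ka xa14 ya13 za33)) (@D3.rec (fun _ => Pt) (ka xa28 ya45 za35) (ka xa28 ya45 za36) (ka xa30 ya25 za13) (ka xa24 ya22 za46) (ka xa27 ya11 za18) (ka xa24 ya29 za40) (ka xa18 ya39 za31) (ka xa22 ya24 za38) (ka xa14 ya13 za42) (ka xa24 ya29 za59) (ka xa18 ya0 za18) (ka xa30 ya14 za45) (ka xa29 ya40 za45) (ka xa30 ya14 za47) (ka xa30 ya7 za6) (ka xa28 ya18 za27) (ka xa28 ya16 za12) (ka xa24 ya21 za36) (ka xa30 ya12 za0) (ka xa14 ya13 za51) (ka xa14 ya13 za53) (ka xa23 ya58 za0) (ka xa20 ya26 za48) (ka xa29 ya25 za35) (ka xa26 ya53 za23) (ka xa20 ya40 za47) (ka xa31 ya14 za9) (ka xa29 ya50 za19) (ka xa14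 ya43 za45) (ka xa28 ya43 za60) (ka xa30 ya12 za6) (ka xa27 ya10 za55) (ka xa27 ya19 za9) (ka xa14 ya42 za15) (ka xa25 ya38 za13) (ka xa24 ya20 za10) (ka xa14 ya41 za37) (ka xa27 ya54 za0) (ka xa14 ya14 za3) (ka xa29 ya38 za28) (ka xa30 ya8 za12) (ka xa29 ya7 za35) (ka xa29 ya47 za10) (ka xa14 ya14 za5) (ka xa31 ya14 za18) (ka xa20 ya52 za17) (ka xa21 ya42 za37) (ka xa21 ya42 za38) (ka xa26 ya15 za51) (ka xa27 ya11 za19) (ka xa26 ya15 za16) (ka xa14 ya26 za51) (ka xa17 ya30 za30) (ka xa24 ya18 za17) (ka xa27 ya39 za45) (ka xa26 ya10 za49) (ka xa19 ya41 za0) (ka xa20 ya0 za9) (ka xa14 ya24 za18) (ka xa28 ya1 za45) (ka xa14 ya14 za17) (ka xa30 ya37 za32)) (@D3.rec (fun _ => Pt) (ka xa27 ya21 za14) (ka xa27 ya53 za47) (ka xa23 ya36 za56) (ka xa21 ya20 za43) (ka xa21 ya42 za41) (ka xa24 ya18 za32) (ka xa28 ya1 za44) (ka xa14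 ya14 za23) (ka xa28 ya25 za30) (ka xa19 ya20 za11) (ka xa26 ya13 za50) (ka xa19 ya15 za31) (ka xa26 ya16 za4) (ka xa14 ya43 za41) (ka xa14 ya14 za27) (ka xa31 ya14 za28) (ka xa19 ya23 za1) (ka xa24 ya18 za27) (ka xa18 ya48 za11) (ka xa18 ya48 za9) (ka xa17 ya30 za55) (ka xa24 ya44 za12) (ka xa17 ya30 za60) (ka xa21 ya59 za27) (ka xa27 ya47 za13) (ka xa18 ya22 za50) (ka xa27 ya33 za53) (ka xa14 ya14 za39) (ka xa14 ya14 za40) (ka xa29 ya20 za34) (ka xa30 ya35 za25) (ka xa28 ya15 za15) (ka xa22 ya15 za0) (ka xa31 ya14 za42) (ka xa27 ya32 za58) (ka xa28 ya25 za38) (ka xa31 ya14 za35) (ka xa31 ya14 za36) (ka xa31 ya14 za37) (ka xa14 ya27 za31) (ka xa23 ya20 za21) (ka xa14 ya27 za30) (ka xa30 ya35 za32) (ka xa30 ya35 za31) (ka xa14 ya14 za43) (ka xa31 ya14 za46) (ka xa29 ya50 za30) (ka xa19 ya41 za44) (ka xa18 ya5 za9) (ka xa19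 ya40 za60) (ka xa30 ya19 za53) (ka xa22 ya14 za51) (ka xa14 ya14 za51) (ka xa14 ya14 za52) (ka xa28 ya9 za28) (ka xa18 ya31 za37) (ka xa31 ya14 za49) (ka xa29 ya32 za54) (ka xa29 ya38 za40) (ka xa31 ya14 za50) (ka xa19 ya32 za0) (ka xa15 ya9 za45)) (@D3.rec (fun _ => Pt) (ka xa30 ya23 za30) (ka xa14 ya14 za55) (ka xa27 ya39 za39) (ka xa23 ya34 za18) (ka xa23 ya34 za21) (ka xa28 ya6 za30) (ka xa30 ya35 za34) (ka xa30 ya25 za57) (ka xa30 ya35 za35) (ka xa27 ya11 za16) (ka xa24 ya29 za53) (ka xa24 ya29 za54) (ka xa24 ya29 za52) (ka xa24 ya29 za55) (ka xa14 ya15 za1) (ka xa14 ya15 za3) (ka xa31 ya15 za6) (ka xa31 ya15 za3) (ka xa22 ya50 za4) (ka xa31 ya15 za4) (ka xa30 ya54 za3) (ka xa26 ya12 za51) (ka xa30 ya35 za52) (ka xa14 ya15 za4) (ka xa26 ya20 za56) (ka xa27 ya47 za10) (ka xa30 ya35 za41) (ka xa23 ya34 za14) (ka xa30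 ya35 za42) (ka xa18 ya47 za51) (ka xa18 ya28 za13) (ka xa30 ya35 za43) (ka xa30 ya35 za44) (ka xa30 ya35 za45) (ka xa30 ya35 za46) (ka xa30 ya35 za47) (ka xa30 ya35 za36) (ka xa29 ya20 za36) (ka xa31 ya15 za24) (ka xa18 ya33 za15) (ka xa29 ya20 za27) (ka xa19 ya22 za42) (ka xa22 ya21 za33) (ka xa19 ya22 za40) (ka xa27 ya45 za34) (ka xa14 ya15 za12) (ka xa24 ya54 za1) (ka xa26 ya13 za18) (ka xa19 ya15 za33) (ka xa25 ya44 za61) (ka xa24 ya53 za60) (ka xa24 ya46 za14) (ka xa14 ya24 za34) (ka xa27 ya56 za4) (ka xa14 ya15 za17) (ka xa30 ya23 za25) (ka xa30 ya23 za26) (ka xa23 ya31 za27) (ka xa31 ya15 za35) (ka xa19 ya51 za43) (ka xa28 ya28 za3) (ka xa28 ya20 za49)) (@D3.rec (fun _ => Pt) (ka xa19 ya51 za4) (ka xa23 ya52 za4) (ka xa14 ya31 za57) (ka xa19 ya21 za25) (ka xa23 ya52 za1) (ka xa23 ya48 za50) (ka xa24 ya35 za51) (ka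 xa22 ya15 za38) (ka xa22 ya15 za39) (ka xa27 ya51 za17) (ka xa21 ya4 za51) (ka xa23 ya33 za60) (ka xa23 ya33 za61) (ka xa28 ya21 za0) (ka xa21 ya4 za44) (ka xa23 ya34 za2) (ka xa14 ya15 za36) (ka xa23 ya36 za39) (ka xa23 ya36 za40) (ka xa22 ya36 za22) (ka xa22 ya36 za23) (ka xa29 ya35 za39) (ka xa22 ya59 za7) (ka xa28 ya27 za5) (ka xa29 ya29 za22) (ka xa30 ya36 za38) (ka xa30 ya36 za39) (ka xa28 ya28 za7) (ka xa26 ya7 za19) (ka xa29 ya30 za15) (ka xa26 ya7 za40) (ka xa28 ya25 za59) (ka xa18 ya18 za50) (ka xa23 ya33 za11) (ka xa27 ya44 za58) (ka xa29 ya51 za20) (ka xa28 ya11 za35) (ka xa14 ya15 za51) (ka xa14 ya29 za17) (ka xa22 ya15 za56) (ka xa22 ya15 za58) (ka xa22 ya15 za61) (ka xa22 ya16 za1) (ka xa22 ya16 za2) (ka xa22 ya16 za3) (ka xa22 ya13 za61) (ka xa24 ya6 za9) (ka xa30 ya32 za28) (ka xa30 ya32 za29) (ka xa22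 ya58 za5) (ka xa22 ya58 za4) (ka xa30 ya35 za7) (ka xa30 ya21 za53) (ka xa28 ya37 za54) (ka xa24 ya9 za2) (ka xa29 ya54 za56) (ka xa29 ya26 za60) (ka xa22 ya20 za22) (ka xa14 ya16 za38) (ka xa20 ya47 za0) (ka xa17 ya22 za45) (ka xa26 ya44 za9)) (@D3.rec (fun _ => Pt) (ka xa24 ya11 za36) (ka xa24 ya11 za33) (ka xa14 ya35 za24) (ka xa14 ya26 za21) (ka xa27 ya10 za31) (ka xa22 ya7 za22) (ka xa21 ya47 za14) (ka xa22 ya16 za38) (ka xa28 ya56 za26) (ka xa27 ya14 za52) (ka xa28 ya23 za56) (ka xa30 ya6 za56) (ka xa30 ya15 za8) (ka xa23 ya57 za35) (ka xa22 ya58 za2) (ka xa30 ya15 za9) (ka xa22 ya16 za43) (ka xa27 ya59 za39) (ka xa30 ya15 za10) (ka xa28 ya35 za48) (ka xa29 ya27 za60) (ka xa14 ya26 za18) (ka xa22 ya16 za59) (ka xa22 ya16 za61) (ka xa30 ya49 za25) (ka xa30 ya27 za37) (ka xa24 ya13 za58) (ka xa28 ya25 za58) (ka xa26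 ya53 za9) (ka xa21 ya36 za45) (ka xa26 ya45 za5) (ka xa31 ya16 za2) (ka xa28 ya39 za10) (ka xa30 ya49 za26) (ka xa30 ya18 za43) (ka xa22 ya17 za12) (ka xa28 ya32 za52) (ka xa30 ya49 za28) (ka xa28 ya35 za56) (ka xa30 ya49 za29) (ka xa28 ya53 za39) (ka xa23 ya0 za22) (ka xa19 ya51 za38) (ka xa27 ya59 za44) (ka xa28 ya45 za55) (ka xa19 ya51 za32) (ka xa23 ya11 za59) (ka xa30 ya35 za12) (ka xa30 ya46 za31) (ka xa28 ya14 za54) (ka xa28 ya25 za60) (ka xa18 ya55 za3) (ka xa27 ya22 za38) (ka xa14 ya16 za41) (ka xa27 ya22 za40) (ka xa18 ya37 za20) (ka xa31 ya16 za10) (ka xa21 ya41 za55) (ka xa24 ya8 za10) (ka xa24 ya8 za9) (ka xa14 ya27 za9) (ka xa27 ya50 za52)) (@D3.rec (fun _ => Pt) (ka xa14 ya16 za52) (ka xa29 ya30 za42) (ka xa26 ya52 za61) (ka xa31 ya16 za12) (ka xa18 ya37 za35) (ka xa18 ya37 za36) (ka xa21 ya41 za57) (ka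 xa21 ya30 za53) (ka xa21 ya41 za59) (ka xa31 ya16 za19) (ka xa24 ya54 za39) (ka xa23 ya48 za22) (ka xa14 ya16 za60) (ka xa28 ya6 za48) (ka xa20 ya33 za53) (ka xa31 ya16 za21) (ka xa30 ya34 za42) (ka xa30 ya34 za43) (ka xa30 ya34 za44) (ka xa28 ya23 za41) (ka xa28 ya25 za24) (ka xa24 ya4 za45) (ka xa23 ya0 za24) (ka xa30 ya34 za46) (ka xa14 ya17 za6) (ka xa14 ya17 za7) (ka xa22 ya16 za24) (ka xa23 ya2 za24) (ka xa23 ya2 za25) (ka xa30 ya34 za49) (ka xa30 ya34 za48) (ka xa31 ya16 za30) (ka xa28 ya7 za12) (ka xa31 ya16 za31) (ka xa31 ya16 za32) (ka xa31 ya16 za33) (ka xa14 ya46 za3) (ka xa14 ya24 za44) (ka xa25 ya47 za45) (ka xa29 ya30 za1) (ka xa30 ya32 za58) (ka xa28 ya20 za13) (ka xa14 ya17 za18) (ka xa14 ya17 za19) (ka xa30 ya33 za1) (ka xa30 ya33 za2) (ka xa29 ya42 za11) (ka xa29 ya42 za10) (ka xa23 ya18 za61) (ka xa30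 ya33 za36) (ka xa29 ya16 za5) (ka xa31 ya16 za48) (ka xa18 ya57 za48) (ka xa29 ya16 za4) (ka xa23 ya55 za17) (ka xa23 ya20 za35) (ka xa14 ya17 za24) (ka xa30 ya34 za57) (ka xa28 ya9 za9) (ka xa31 ya16 za57) (ka xa18 ya48 za56) (ka xa23 ya0 za35)) (@D3.rec (fun _ => Pt) (ka xa14 ya17 za29) (ka xa14 ya17 za30) (ka xa22 ya36 za39) (ka xa27 ya23 za40) (ka xa25 ya54 za31) (ka xa25 ya56 za30) (ka xa25 ya56 za28) (ka xa29 ya19 za54) (ka xa25 ya59 za22) (ka xa24 ya27 za10) (ka xa30 ya34 za59) (ka xa14 ya27 za23) (ka xa14 ya27 za24) (ka xa14 ya27 za22) (ka xa14 ya27 za25) (ka xa23 ya5 za49) (ka xa30 ya12 za52) (ka xa23 ya54 za54) (ka xa23 ya14 za41) (ka xa23 ya48 za48) (ka xa20 ya56 za59) (ka xa14 ya26 za19) (ka xa17 ya18 za24) (ka xa21 ya40 za16) (ka xa21 ya40 za17) (ka xa14 ya26 za11) (ka xa21 ya40 za19) (ka xa21 ya40 za21) (ka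 xa22 ya21 za29) (ka xa18 ya57 za42) (ka xa14 ya23 za57) (ka xa14 ya23 za58) (ka xa14 ya23 za59) (ka xa14 ya23 za49) (ka xa14 ya17 za52) (ka xa24 ya14 za24) (ka xa31 ya17 za8) (ka xa29 ya30 za41) (ka xa14 ya24 za8) (ka xa14 ya24 za9) (ka xa14 ya24 za11) (ka xa14 ya24 za12) (ka xa22 ya21 za30) (ka xa14 ya24 za21) (ka xa22 ya21 za32) (ka xa25 ya26 za8) (ka xa22 ya21 za34) (ka xa22 ya21 za36) (ka xa14 ya24 za61) (ka xa14 ya25 za0) (ka xa14 ya25 za1) (ka xa14 ya18 za0) (ka xa24 ya14 za43) (ka xa31 ya17 za17) (ka xa14 ya25 za7) (ka xa14 ya25 za9) (ka xa22 ya22 za7) (ka xa22 ya22 za8) (ka xa20 ya53 za52) (ka xa14 ya25 za25) (ka xa14 ya25 za26) (ka xa14 ya25 za27)) (@D3.rec (fun _ => Pt) (ka xa14 ya25 za29) (ka xa16 ya43 za20) (ka xa16 ya46 za39) (ka xa22 ya20 za6) (ka xa16 ya43 za21) (ka xa24 ya1 za48) (ka xa22 ya54 za56) (ka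 xa14 ya26 za53) (ka xa14 ya18 za10) (ka xa31 ya17 za25) (ka xa31 ya17 za26) (ka xa14 ya26 za47) (ka xa14 ya26 za49) (ka xa14 ya26 za50) (ka xa14 ya26 za61) (ka xa14 ya27 za2) (ka xa14 ya27 za6) (ka xa14 ya27 za10) (ka xa14 ya27 za11) (ka xa14 ya27 za14) (ka xa14 ya27 za27) (ka xa14 ya18 za20) (ka xa14 ya27 za35) (ka xa14 ya27 za36) (ka xa14 ya27 za37) (ka xa14 ya27 za38) (ka xa14 ya27 za43) (ka xa14 ya27 za44) (ka xa28 ya47 za19) (ka xa14 ya27 za51) (ka xa14 ya27 za52) (ka xa22 ya22 za23) (ka xa14 ya18 za43) (ka xa26 ya55 za0) (ka xa29 ya28 za4) (ka xa28 ya42 za16) (ka xa17 ya58 za39) (ka xa28 ya42 za13) (ka xa15 ya18 za8) (ka xa23 ya1 za29) (ka xa14 ya30 za3) (ka xa14 ya30 za4) (ka xa22 ya23 za11) (ka xa14 ya30 za7) (ka xa14 ya30 za8) (ka xa14 ya30 za12) (ka xa20 ya47 za6) (ka xa14 ya30 za14) (ka xa19 ya38 za23) (ka xa14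 ya30 za18) (ka xa14 ya30 za19) (ka xa16 ya43 za23) (ka xa22 ya23 za6) (ka xa14 ya28 za41) (ka xa14 ya28 za49) (ka xa14 ya19 za10) (ka xa17 ya25 za44) (ka xa24 ya35 za7) (ka xa30 ya49 za9) (ka xa30 ya36 za20) (ka xa30 ya6 za59) (ka xa30 ya49 za7)) (@D3.rec (fun _ => Pt) (ka xa14 ya38 za22) (ka xa30 ya49 za8) (ka xa27 ya9 za54) (ka xa29 ya55 za42) (ka xa30 ya45 za15) (ka xa30 ya49 za10) (ka xa30 ya36 za8) (ka xa31 ya14 za8) (ka xa22 ya22 za49) (ka xa22 ya22 za50) (ka xa22 ya22 za51) (ka xa14 ya31 za33) (ka xa14 ya31 za34) (ka xa14 ya31 za35) (ka xa14 ya31 za40) (ka xa17 ya24 za1) (ka xa14 ya31 za44) (ka xa14 ya31 za53) (ka xa14 ya31 za55) (ka xa14 ya28 za52) (ka xa17 ya22 za50) (ka xa14 ya29 za35) (ka xa16 ya58 za53) (ka xa19 ya13 za28) (ka xa24 ya11 za31) (ka xa19 ya29 za51) (ka xa19 ya15 za55) (ka xa20 ya47 za4) (ka xa14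 ya30 za21) (ka xa14 ya30 za22) (ka xa19 ya3 za50) (ka xa17 ya1 za52) (ka xa31 ya12 za28) (ka xa17 ya1 za56) (ka xa14 ya30 za36) (ka xa23 ya53 za13) (ka xa18 ya21 za12) (ka xa14 ya31 za8) (ka xa22 ya22 za40) (ka xa22 ya22 za41) (ka xa14 ya31 za17) (ka xa22 ya22 za45) (ka xa22 ya52 za58) (ka xa30 ya26 za11) (ka xa30 ya26 za13) (ka xa19 ya27 za29) (ka xa30 ya26 za15) (ka xa19 ya9 za39) (ka xa14 ya31 za56) (ka xa31 ya12 za27) (ka xa30 ya26 za21) (ka xa26 ya27 za40) (ka xa26 ya26 za44) (ka xa26 ya26 za55) (ka xa17 ya22 za48) (ka xa14 ya20 za21) (ka xa14 ya20 za22) (ka xa20 ya51 za2) (ka xa14 ya20 za30) (ka xa31 ya18 za1) (ka xa31 ya10 za47) (ka xa14 ya20 za42)) (@D3.rec (fun _ => Pt) (ka xa23 ya49 za21) (ka xa27 ya59 za50) (ka xa17 ya19 za37) (ka xa14 ya35 za5) (ka xa25 ya18 za31) (ka xa29 ya38 za53) (ka xa25 ya16 za13) (ka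 xa14 ya20 za15) (ka xa18 ya23 za10) (ka xa24 ya10 za60) (ka xa20 ya47 za3) (ka xa28 ya13 za12) (ka xa29 ya0 za30) (ka xa29 ya50 za8) (ka xa31 ya7 za31) (ka xa14 ya20 za27) (ka xa14 ya20 za28) (ka xa29 ya7 za29) (ka xa14 ya38 za17) (ka xa24 ya27 za15) (ka xa14 ya38 za23) (ka xa20 ya51 za1) (ka xa24 ya42 za24) (ka xa30 ya53 za61) (ka xa14 ya39 za5) (ka xa14 ya20 za37) (ka xa24 ya1 za24) (ka xa31 ya18 za13) (ka xa27 ya16 za37) (ka xa14 ya20 za40) (ka xa24 ya5 za49) (ka xa19 ya12 za25) (ka xa17 ya8 za33) (ka xa26 ya42 za33) (ka xa14 ya39 za40) (ka xa30 ya32 za14) (ka xa19 ya32 za38) (ka xa16 ya58 za35) (ka xa26 ya58 za28) (ka xa22 ya7 za45) (ka xa14 ya36 za44) (ka xa14 ya36 za46) (ka xa14 ya36 za49) (ka xa14 ya36 za51) (ka xa14 ya36 za52) (ka xa14 ya36 za54) (ka xa14 ya36 za55) (ka xa17 ya52 za31) (ka xa14 ya47 za50) (ka xa14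 ya37 za2) (ka xa14 ya37 za3) (ka xa14 ya37 za4) (ka xa19 ya54 za2) (ka xa14 ya37 za6) (ka xa14 ya37 za7) (ka xa14 ya37 za8) (ka xa14 ya37 za9) (ka xa14 ya37 za10) (ka xa14 ya37 za11) (ka xa14 ya37 za17) (ka xa14 ya37 za20) (ka xa14 ya37 za23)) (@D3.rec (fun _ => Pt) (ka xa28 ya47 za29) (ka xa26 ya50 za40) (ka xa29 ya12 za29) (ka xa14 ya37 za27) (ka xa14 ya37 za30) (ka xa14 ya37 za32) (ka xa14 ya37 za44) (ka xa14 ya37 za34) (ka xa14 ya37 za35) (ka xa29 ya47 za40) (ka xa14 ya37 za37) (ka xa20 ya40 za9) (ka xa24 ya37 za42) (ka xa14 ya21 za10) (ka xa25 ya37 za44) (ka xa19 ya56 za19) (ka xa14 ya37 za36) (ka xa14 ya37 za45) (ka xa14 ya37 za47) (ka xa14 ya38 za37) (ka xa14 ya33 za61) (ka xa14 ya38 za42) (ka xa14 ya34 za20) (ka xa19 ya12 za50) (ka xa19 ya2 za34) (ka xa18 ya1 za0) (ka xa14 ya39 za34) (ka xa14 ya39 za35) (ka xa14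 ya39 za36) (ka xa14 ya39 za37) (ka xa14 ya39 za38) (ka xa14 ya39 za39) (ka xa14 ya34 za30) (ka xa14 ya39 za41) (ka xa14 ya21 za37) (ka xa30 ya27 za23) (ka xa14 ya39 za51) (ka xa14 ya39 za52) (ka xa28 ya44 za24) (ka xa29 ya26 za45) (ka xa14 ya39 za57) (ka xa14 ya39 za58) (ka xa14 ya40 za20) (ka xa14 ya40 za23) (ka xa14 ya21 za49) (ka xa14 ya23 za1) (ka xa31 ya18 za37) (ka xa28 ya39 za61) (ka xa14 ya41 za35) (ka xa14 ya41 za36) (ka xa14 ya21 za56) (ka xa14 ya43 za21) (ka xa14 ya43 za22) (ka xa14 ya43 za18) (ka xa14 ya43 za24) (ka xa31 ya18 za45) (ka xa28 ya20 za22) (ka xa19 ya20 za0) (ka xa19 ya51 za21) (ka xa19 ya20 za34) (ka xa19 ya20 za36) (ka xa14 ya42 za6))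
def f_a_24 : D2 → D3 → Pt := @D2.rec (fun _ => D3 → Pt) (@D3.rec (fun _ => Pt) (ka xa14 ya42 za7) (ka xa14 ya42 za8) (ka xa14 ya21 za60) (ka xa24 ya16 za17) (ka xa31 ya18 za54) (ka xa14 ya42 za16) (ka xa14 ya42 za17) (ka xa14 ya43 za34) (ka xa14 ya22 za0) (ka xa25 ya58 za22) (ka xa19 ya4 za58) (ka xa14 ya42 za26) (ka xa19 ya20 za54) (ka xa14 ya42 za29) (ka xa14 ya22 za12) (ka xa14 ya41 za47) (ka xa14 ya41 za44) (ka xa14 ya41 za45) (ka xa14 ya41 za51) (ka xa14 ya41 za50) (ka xa27 ya44 za44) (ka xa31 ya18 za60) (ka xa14 ya42 za19) (ka xa14 ya42 za18) (ka xa27 ya39 za3) (ka xa14 ya43 za38) (ka xa14 ya43 za42) (ka xa14 ya43 za46) (ka xa14 ya43 za47) (ka xa14 ya32 za44) (ka xa22 ya23 za8) (ka xa14 ya34 za4) (ka xa22 ya23 za7) (ka xa17 ya3 za44) (ka xa25 ya47 za36) (ka xa30 ya6 za60) (ka xa18 ya47 za34) (ka xa17 ya24 za5) (ka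 xa16 ya43 za15) (ka xa16 ya43 za14) (ka xa22 ya22 za57) (ka xa22 ya22 za58) (ka xa20 ya37 za23) (ka xa20 ya37 za20) (ka xa22 ya10 za54) (ka xa14 ya52 za14) (ka xa14 ya52 za15) (ka xa14 ya52 za16) (ka xa14 ya52 za17) (ka xa23 ya47 za44) (ka xa23 ya4 za51) (ka xa23 ya47 za42) (ka xa30 ya45 za11) (ka xa14 ya22 za47) (ka xa14 ya22 za50) (ka xa14 ya22 za51) (ka xa14 ya22 za54) (ka xa23 ya7 za22) (ka xa14 ya44 za1) (ka xa20 ya56 za31) (ka xa31 ya19 za19) (ka xa22 ya33 za17)) (@D3.rec (fun _ => Pt) (ka xa31 ya19 za20) (ka xa26 ya57 za23) (ka xa20 ya56 za33) (ka xa31 ya19 za21) (ka xa20 ya56 za34) (ka xa28 ya54 za33) (ka xa31 ya19 za22) (ka xa30 ya15 za22) (ka xa22 ya23 za48) (ka xa24 ya9 za61) (ka xa24 ya9 za58) (ka xa30 ya25 za28) (ka xa30 ya29 za60) (ka xa14 ya22 za57) (ka xa20 ya11 za50) (ka xa24 ya25 za11) (ka xa30 ya16 za25)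 (ka xa30 ya39 za7) (ka xa14 ya23 za3) (ka xa19 ya20 za26) (ka xa16 ya53 za57) (ka xa15 ya28 za4) (ka xa15 ya27 za42) (ka xa31 ya0 za33) (ka xa23 ya58 za26) (ka xa25 ya20 za24) (ka xa29 ya13 za22) (ka xa29 ya18 za1) (ka xa24 ya22 za60) (ka xa24 ya22 za59) (ka xa14 ya23 za4) (ka xa27 ya18 za59) (ka xa27 ya18 za60) (ka xa24 ya15 za5) (ka xa27 ya18 za61) (ka xa25 ya18 za47) (ka xa19 ya35 za50) (ka xa14 ya48 za19) (ka xa30 ya26 za14) (ka xa25 ya49 za5) (ka xa22 ya41 za3) (ka xa14 ya23 za21) (ka xa29 ya2 za10) (ka xa28 ya48 za38) (ka xa31 ya19 za50) (ka xa22 ya49 za11) (ka xa29 ya36 za30) (ka xa22 ya26 za30) (ka xa23 ya56 za5) (ka xa19 ya56 za57) (ka xa20 ya59 za60) (ka xa30 ya21 za52) (ka xa14 ya23 za31) (ka xa14 ya23 za32) (ka xa14 ya23 za33) (ka xa30 ya7 za35) (ka xa29 ya30 za39) (ka xa31 ya16 za15) (ka xa31 ya14 za16) (ka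 xa31 ya19 za54) (ka xa31 ya19 za55) (ka xa31 ya19 za56)) (@D3.rec (fun _ => Pt) (ka xa31 ya19 za57) (ka xa17 ya17 za26) (ka xa17 ya17 za27) (ka xa23 ya48 za23) (ka xa23 ya48 za24) (ka xa23 ya48 za25) (ka xa23 ya48 za26) (ka xa17 ya17 za32) (ka xa22 ya37 za37) (ka xa23 ya48 za27) (ka xa22 ya37 za38) (ka xa23 ya48 za28) (ka xa31 ya20 za10) (ka xa23 ya48 za31) (ka xa23 ya48 za32) (ka xa23 ya48 za33) (ka xa20 ya25 za59) (ka xa17 ya31 za8) (ka xa17 ya18 za45) (ka xa29 ya47 za9) (ka xa14 ya23 za51) (ka xa14 ya23 za52) (ka xa30 ya8 za31) (ka xa29 ya52 za33) (ka xa31 ya20 za13) (ka xa31 ya20 za14) (ka xa21 ya47 za47) (ka xa16 ya42 za14) (ka xa21 ya47 za43) (ka xa21 ya47 za44) (ka xa15 ya48 za30) (ka xa17 ya21 za27) (ka xa28 ya56 za51) (ka xa24 ya27 za30) (ka xa31 ya13 za19) (ka xa20 ya3 za35) (ka xa31 ya20 za26) (ka xa24 ya11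 za25) (ka xa30 ya56 za30) (ka xa25 ya47 za44) (ka xa21 ya3 za20) (ka xa14 ya24 za2) (ka xa14 ya24 za3) (ka xa14 ya24 za4) (ka xa28 ya55 za59) (ka xa29 ya6 za5) (ka xa20 ya46 za17) (ka xa31 ya20 za31) (ka xa31 ya20 za32) (ka xa29 ya26 za19) (ka xa20 ya43 za1) (ka xa31 ya20 za33) (ka xa29 ya30 za36) (ka xa21 ya47 za51) (ka xa21 ya47 za52) (ka xa21 ya47 za53) (ka xa21 ya47 za54) (ka xa21 ya47 za55) (ka xa31 ya20 za44) (ka xa24 ya11 za26) (ka xa22 ya1 za51) (ka xa30 ya50 za17)) (@D3.rec (fun _ => Pt) (ka xa23 ya10 za53) (ka xa30 ya11 za42) (ka xa21 ya52 za51) (ka xa29 ya44 za35) (ka xa24 ya11 za20) (ka xa14 ya24 za16) (ka xa29 ya47 za30) (ka xa31 ya20 za46) (ka xa28 ya59 za54) (ka xa24 ya11 za23) (ka xa25 ya51 za21) (ka xa31 ya20 za54) (ka xa28 ya57 za16) (ka xa28 ya1 za24) (ka xa28 ya57 za13) (ka xa28 ya57 za14) (ka xa28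 ya57 za18) (ka xa28 ya57 za17) (ka xa29 ya17 za52) (ka xa29 ya15 za26) (ka xa30 ya48 za37) (ka xa14 ya24 za27) (ka xa14 ya24 za28) (ka xa21 ya1 za25) (ka xa22 ya21 za56) (ka xa27 ya0 za22) (ka xa30 ya48 za39) (ka xa29 ya34 za49) (ka xa30 ya48 za60) (ka xa16 ya40 za41) (ka xa31 ya20 za60) (ka xa29 ya1 za12) (ka xa31 ya20 za61) (ka xa23 ya9 za35) (ka xa29 ya34 za50) (ka xa24 ya5 za4) (ka xa24 ya5 za6) (ka xa26 ya11 za7) (ka xa29 ya1 za7) (ka xa24 ya34 za56) (ka xa14 ya51 za27) (ka xa22 ya21 za41) (ka xa14 ya24 za42) (ka xa14 ya24 za46) (ka xa14 ya24 za47) (ka xa14 ya29 za27) (ka xa26 ya2 za0) (ka xa26 ya10 za4) (ka xa31 ya16 za45) (ka xa31 ya16 za46) (ka xa30 ya40 za0) (ka xa30 ya39 za61) (ka xa31 ya17 za10) (ka xa20 ya1 za46) (ka xa31 ya21 za24) (ka xa31 ya21 za10) (ka xa31 ya21 za11) (ka xa31 ya21 za12) (ka xa30 ya9 za3)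 (ka xa30 ya31 za31) (ka xa31 ya21 za13) (ka xa30 ya31 za30)) (@D3.rec (fun _ => Pt) (ka xa25 ya26 za9) (ka xa14 ya24 za49) (ka xa25 ya55 za31) (ka xa24 ya5 za15) (ka xa24 ya5 za19) (ka xa28 ya58 za1) (ka xa20 ya53 za4) (ka xa30 ya39 za28) (ka xa28 ya52 za9) (ka xa30 ya39 za29) (ka xa31 ya21 za41) (ka xa14 ya24 za57) (ka xa14 ya24 za58) (ka xa23 ya12 za60) (ka xa31 ya21 za47) (ka xa31 ya21 za42) (ka xa26 ya40 za58) (ka xa31 ya21 za43) (ka xa31 ya21 za44) (ka xa31 ya21 za45) (ka xa17 ya58 za59) (ka xa14 ya24 za59) (ka xa26 ya42 za16) (ka xa19 ya15 za43) (ka xa24 ya11 za37) (ka xa24 ya11 za44) (ka xa24 ya11 za45) (ka xa29 ya1 za17) (ka xa24 ya26 za16) (ka xa14 ya25 za3) (ka xa14 ya25 za4) (ka xa26 ya53 za38) (ka xa31 ya21 za61) (ka xa31 ya21 za59) (ka xa25 ya20 za33) (ka xa29 ya13 za31) (ka xa27 ya43 za9) (ka xa31 ya21 za60)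 (ka xa24 ya11 za40) (ka xa14 ya25 za5) (ka xa31 ya9 za46) (ka xa23 ya11 za24) (ka xa23 ya11 za28) (ka xa24 ya11 za50) (ka xa24 ya11 za51) (ka xa23 ya54 za21) (ka xa19 ya27 za28) (ka xa19 ya27 za25) (ka xa30 ya56 za41) (ka xa30 ya56 za42) (ka xa30 ya56 za43) (ka xa19 ya19 za61) (ka xa30 ya56 za44) (ka xa28 ya45 za50) (ka xa24 ya38 za16) (ka xa20 ya50 za10) (ka xa23 ya9 za0) (ka xa23 ya11 za8) (ka xa23 ya11 za9) (ka xa23 ya9 za39) (ka xa23 ya9 za37) (ka xa14 ya25 za17)) (@D3.rec (fun _ => Pt) (ka xa19 ya19 za60) (ka xa24 ya34 za58) (ka xa24 ya34 za59) (ka xa28 ya41 za54) (ka xa24 ya3 za35) (ka xa24 ya18 za19) (ka xa24 ya3 za36) (ka xa14 ya25 za22) (ka xa30 ya55 za48) (ka xa30 ya43 za7) (ka xa20 ya53 za50) (ka xa20 ya53 za51) (ka xa17 ya22 za13) (ka xa30 ya19 za36) (ka xa28 ya50 za24) (ka xa24 ya4 za3) (ka xa31 ya15 za43)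 (ka xa24 ya20 za32) (ka xa31 ya13 za44) (ka xa24 ya4 za4) (ka xa22 ya37 za34) (ka xa30 ya37 za46) (ka xa30 ya38 za0) (ka xa30 ya38 za1) (ka xa22 ya37 za31) (ka xa27 ya40 za35) (ka xa17 ya1 za38) (ka xa30 ya55 za26) (ka xa30 ya55 za27) (ka xa30 ya55 za25) (ka xa26 ya53 za13) (ka xa26 ya24 za35) (ka xa26 ya52 za51) (ka xa20 ya33 za16) (ka xa20 ya32 za51) (ka xa30 ya49 za54) (ka xa30 ya46 za43) (ka xa20 ya50 za30) (ka xa19 ya31 za6) (ka xa25 ya59 za31) (ka xa25 ya59 za30) (ka xa15 ya59 za22) (ka xa30 ya47 za42) (ka xa14 ya25 za45) (ka xa23 ya15 za52) (ka xa22 ya34 za53) (ka xa29 ya48 za5) (ka xa29 ya48 za3) (ka xa30 ya27 za51) (ka xa23 ya58 za30) (ka xa23 ya5 za56) (ka xa14 ya44 za14) (ka xa14 ya44 za15) (ka xa30 ya11 za40) (ka xa20 ya44 za54) (ka xa20 ya44 za45) (ka xa30 ya27 za50) (ka xa14 ya26 za10) (ka xa14 ya26 za15)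 (ka xa14 ya26 za16) (ka xa14 ya26 za22) (ka xa14 ya48 za21)) (@D3.rec (fun _ => Pt) (ka xa14 ya26 za29) (ka xa14 ya26 za30) (ka xa14 ya26 za34) (ka xa14 ya26 za37) (ka xa14 ya26 za38) (ka xa31 ya0 za21) (ka xa14 ya26 za40) (ka xa20 ya41 za48) (ka xa20 ya41 za47) (ka xa23 ya52 za46) (ka xa20 ya42 za44) (ka xa21 ya15 za53) (ka xa20 ya17 za34) (ka xa22 ya20 za21) (ka xa15 ya26 za48) (ka xa24 ya18 za41) (ka xa31 ya22 za33) (ka xa27 ya11 za15) (ka xa21 ya3 za53) (ka xa31 ya17 za4) (ka xa22 ya20 za24) (ka xa27 ya21 za39) (ka xa31 ya15 za51) (ka xa28 ya56 za27) (ka xa26 ya43 za35) (ka xa22 ya20 za33) (ka xa22 ya20 za34) (ka xa22 ya20 za35) (ka xa22 ya20 za36) (ka xa22 ya20 za37) (ka xa30 ya39 za44) (ka xa28 ya53 za25) (ka xa30 ya46 za30) (ka xa28 ya22 za58) (ka xa30 ya18 za61) (ka xa16 ya46 za35) (ka xa30 ya46 za32) (ka xa27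 ya59 za3) (ka xa30 ya46 za44) (ka xa31 ya22 za35) (ka xa21 ya15 za58) (ka xa28 ya56 za21) (ka xa14 ya51 za58) (ka xa22 ya20 za49) (ka xa22 ya58 za3) (ka xa30 ya18 za54) (ka xa30 ya53 za1) (ka xa30 ya53 za0) (ka xa22 ya26 za39) (ka xa31 ya22 za37) (ka xa31 ya22 za38) (ka xa30 ya46 za25) (ka xa31 ya22 za39) (ka xa22 ya49 za9) (ka xa22 ya59 za16) (ka xa14 ya26 za39) (ka xa31 ya23 za6) (ka xa22 ya59 za14) (ka xa29 ya27 za5) (ka xa31 ya22 za41) (ka xa30 ya46 za42) (ka xa30 ya20 za47)) (@D3.rec (fun _ => Pt) (ka xa28 ya53 za44) (ka xa14 ya26 za43) (ka xa14 ya26 za44) (ka xa28 ya36 za25) (ka xa18 ya21 za23) (ka xa18 ya21 za25) (ka xa28 ya45 za9) (ka xa21 ya45 za50) (ka xa21 ya45 za51) (ka xa21 ya45 za52) (ka xa21 ya45 za53) (ka xa21 ya45 za54) (ka xa31 ya17 za28) (ka xa29 ya32 za9) (ka xa27 ya21 za29) (ka xa19 ya24 za32) (ka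 xa26 ya6 za53) (ka xa29 ya51 za1) (ka xa28 ya17 za43) (ka xa28 ya0 za25) (ka xa27 ya16 za40) (ka xa14 ya26 za56) (ka xa14 ya26 za57) (ka xa17 ya0 za0) (ka xa21 ya5 za50) (ka xa30 ya8 za29) (ka xa28 ya35 za52) (ka xa29 ya32 za4) (ka xa28 ya34 za48) (ka xa28 ya34 za49) (ka xa18 ya57 za49) (ka xa20 ya23 za19) (ka xa21 ya45 za56) (ka xa21 ya45 za57) (ka xa30 ya33 za51) (ka xa24 ya23 za9) (ka xa24 ya29 za24) (ka xa26 ya26 za36) (ka xa28 ya28 za25) (ka xa26 ya24 za44) (ka xa24 ya13 za41) (ka xa31 ya17 za29) (ka xa27 ya16 za55) (ka xa22 ya41 za54) (ka xa31 ya17 za30) (ka xa24 ya13 za43) (ka xa30 ya57 za6) (ka xa24 ya16 za58) (ka xa31 ya17 za31) (ka xa15 ya40 za52) (ka xa29 ya47 za41) (ka xa15 ya34 za39) (ka xa14 ya27 za12) (ka xa19 ya25 za57) (ka xa27 ya21 za51) (ka xa15 ya17 za16) (ka xa19 ya26 za42) (ka xa19 ya25 za58) (ka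 xa14 ya27 za19) (ka xa28 ya24 za28) (ka xa28 ya36 za29) (ka xa28 ya58 za60)) (@D3.rec (fun _ => Pt) (ka xa29 ya20 za1) (ka xa31 ya23 za30) (ka xa22 ya53 za57) (ka xa27 ya2 za55) (ka xa22 ya57 za27) (ka xa22 ya57 za31) (ka xa21 ya39 za43) (ka xa31 ya17 za3) (ka xa16 ya7 za5) (ka xa23 ya53 za59) (ka xa23 ya53 za58) (ka xa15 ya51 za61) (ka xa22 ya22 za46) (ka xa25 ya59 za41) (ka xa14 ya27 za32) (ka xa29 ya32 za16) (ka xa29 ya32 za8) (ka xa29 ya54 za41) (ka xa29 ya19 za57) (ka xa16 ya32 za43) (ka xa24 ya9 za14) (ka xa25 ya48 za39) (ka xa25 ya12 za6) (ka xa29 ya42 za34) (ka xa28 ya52 za34) (ka xa28 ya35 za1) (ka xa22 ya27 za22) (ka xa28 ya34 za61) (ka xa24 ya13 za48) (ka xa24 ya13 za50) (ka xa24 ya14 za3) (ka xa25 ya59 za24) (ka xa29 ya53 za35) (ka xa20 ya43 za60) (ka xa31 ya17 za32) (ka xa25 ya59 za43) (ka xa30 ya12 za4) (ka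 xa28 ya39 za7) (ka xa14 ya27 za48) (ka xa29 ya32 za26) (ka xa28 ya46 za35) (ka xa24 ya14 za4) (ka xa25 ya48 za23) (ka xa25 ya35 za61) (ka xa22 ya53 za24) (ka xa14 ya27 za56) (ka xa25 ya35 za57) (ka xa21 ya39 za26) (ka xa22 ya9 za47) (ka xa14 ya28 za0) (ka xa16 ya29 za5) (ka xa16 ya27 za1) (ka xa25 ya8 za59) (ka xa14 ya27 za60) (ka xa31 ya16 za34) (ka xa31 ya23 za37) (ka xa28 ya34 za59) (ka xa24 ya14 za15) (ka xa28 ya50 za53) (ka xa24 ya14 za16) (ka xa28 ya50 za55) (ka xa27 ya16 za38)) (@D3.rec (fun _ => Pt) (ka xa29 ya28 za22) (ka xa26 ya27 za53) (ka xa23 ya52 za54) (ka xa28 ya35 za43) (ka xa30 ya43 za50) (ka xa30 ya51 za29) (ka xa29 ya54 za54) (ka xa29 ya54 za59) (ka xa29 ya29 za27) (ka xa27 ya12 za61) (ka xa29 ya14 za36) (ka xa15 ya21 za26) (ka xa24 ya39 za6) (ka xa27 ya12 za11) (ka xa24 ya8 za20) (ka xa22 ya53 za21)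 (ka xa22 ya53 za22) (ka xa16 ya28 za32) (ka xa29 ya40 za18) (ka xa30 ya53 za12) (ka xa22 ya52 za38) (ka xa22 ya52 za37) (ka xa22 ya55 za51) (ka xa22 ya55 za52) (ka xa22 ya55 za53) (ka xa23 ya3 za40) (ka xa21 ya12 za3) (ka xa22 ya55 za56) (ka xa22 ya55 za57) (ka xa23 ya11 za0) (ka xa14 ya28 za27) (ka xa22 ya56 za42) (ka xa28 ya35 za0) (ka xa26 ya10 za10) (ka xa28 ya29 za6) (ka xa28 ya26 za28) (ka xa30 ya6 za58) (ka xa22 ya54 za36) (ka xa28 ya12 za12) (ka xa26 ya29 za37) (ka xa22 ya54 za37) (ka xa24 ya31 za3) (ka xa30 ya44 za19) (ka xa25 ya5 za26) (ka xa18 ya21 za57) (ka xa17 ya55 za41) (ka xa21 ya40 za51) (ka xa30 ya30 za36) (ka xa21 ya40 za50) (ka xa26 ya0 za27) (ka xa24 ya43 za6) (ka xa14 ya38 za1) (ka xa30 ya29 za55) (ka xa30 ya11 za45) (ka xa14 ya40 za30) (ka xa14 ya40 za31) (ka xa14 ya40 za32) (ka xa14 ya40 za52) (ka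 xa24 ya1 za10) (ka xa30 ya28 za4) (ka xa28 ya50 za41) (ka xa24 ya1 za9)) (@D3.rec (fun _ => Pt) (ka xa19 ya12 za61) (ka xa21 ya16 za49) (ka xa31 ya17 za51) (ka xa23 ya42 za13) (ka xa21 ya14 za20) (ka xa14 ya29 za19) (ka xa14 ya29 za23) (ka xa14 ya29 za28) (ka xa14 ya29 za31) (ka xa14 ya29 za36) (ka xa14 ya29 za37) (ka xa14 ya29 za38) (ka xa14 ya29 za39) (ka xa16 ya52 za22) (ka xa28 ya14 za7) (ka xa26 ya0 za37) (ka xa31 ya3 za6) (ka xa25 ya34 za38) (ka xa30 ya55 za57) (ka xa31 ya3 za8) (ka xa30 ya38 za50) (ka xa14 ya51 za47) (ka xa15 ya55 za50) (ka xa14 ya51 za49) (ka xa24 ya20 za9) (ka xa21 ya22 za12) (ka xa21 ya22 za23) (ka xa27 ya6 za37) (ka xa27 ya2 za53) (ka xa25 ya51 za42) (ka xa30 ya6 za52) (ka xa24 ya21 za21) (ka xa27 ya2 za1) (ka xa17 ya22 za52) (ka xa26 ya43 za39) (ka xa20 ya3 za38) (ka xa22 ya21 za57) (ka xa23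 ya37 za26) (ka xa27 ya36 za61) (ka xa29 ya2 za28) (ka xa24 ya40 za6) (ka xa30 ya38 za40) (ka xa24 ya25 za59) (ka xa31 ya23 za58) (ka xa24 ya37 za21) (ka xa24 ya23 za51) (ka xa30 ya44 za2) (ka xa31 ya23 za59) (ka xa31 ya17 za23) (ka xa30 ya37 za56) (ka xa29 ya1 za8) (ka xa22 ya41 za42) (ka xa24 ya19 za41) (ka xa22 ya21 za38) (ka xa25 ya51 za29) (ka xa28 ya47 za34) (ka xa24 ya21 za18) (ka xa20 ya50 za47) (ka xa29 ya30 za20) (ka xa29 ya39 za23) (ka xa23 ya58 za9) (ka xa30 ya20 za42)) (@D3.rec (fun _ => Pt) (ka xa27 ya2 za28) (ka xa22 ya37 za28) (ka xa22 ya37 za29) (ka xa22 ya37 za30) (ka xa26 ya51 za58) (ka xa22 ya37 za40) (ka xa22 ya37 za25) (ka xa22 ya37 za24) (ka xa24 ya16 za29) (ka xa23 ya12 za32) (ka xa29 ya58 za57) (ka xa31 ya17 za41) (ka xa30 ya37 za47) (ka xa22 ya38 za46) (ka xa20 ya47 za13) (ka xa20 ya47 za14) (ka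 xa28 ya41 za47) (ka xa26 ya15 za54) (ka xa28 ya20 za34) (ka xa20 ya3 za33) (ka xa24 ya3 za4) (ka xa31 ya24 za23) (ka xa20 ya2 za57) (ka xa24 ya3 za9) (ka xa20 ya3 za39) (ka xa24 ya2 za37) (ka xa24 ya2 za59) (ka xa29 ya16 za53) (ka xa30 ya9 za23) (ka xa19 ya36 za14) (ka xa24 ya28 za32) (ka xa23 ya57 za24) (ka xa31 ya17 za56) (ka xa23 ya53 za1) (ka xa28 ya46 za22) (ka xa26 ya57 za4) (ka xa23 ya53 za0) (ka xa24 ya4 za24) (ka xa28 ya41 za53) (ka xa15 ya34 za61) (ka xa24 ya4 za38) (ka xa14 ya30 za25) (ka xa31 ya24 za31) (ka xa31 ya24 za32) (ka xa24 ya4 za25) (ka xa24 ya4 za26) (ka xa20 ya42 za33) (ka xa14 ya30 za27) (ka xa29 ya34 za0) (ka xa31 ya24 za40) (ka xa24 ya4 za43) (ka xa24 ya4 za44) (ka xa14 ya30 za29) (ka xa24 ya16 za9) (ka xa19 ya36 za11) (ka xa19 ya28 za27) (ka xa19 ya28 za31) (ka xa27 ya37 za14) (ka xa25 ya4 za20)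 (ka xa24 ya25 za14) (ka xa28 ya57 za0) (ka xa30 ya39 za15)) (@D3.rec (fun _ => Pt) (ka xa20 ya44 za14) (ka xa14 ya38 za4) (ka xa27 ya21 za10) (ka xa19 ya13 za33) (ka xa14 ya40 za44) (ka xa14 ya40 za45) (ka xa16 ya40 za25) (ka xa31 ya24 za51) (ka xa14 ya30 za58) (ka xa14 ya31 za10) (ka xa14 ya31 za11) (ka xa14 ya31 za15) (ka xa14 ya31 za16) (ka xa14 ya31 za18) (ka xa14 ya31 za20) (ka xa14 ya31 za22) (ka xa14 ya31 za24) (ka xa31 ya25 za1) (ka xa14 ya31 za28) (ka xa14 ya31 za29) (ka xa14 ya31 za30) (ka xa20 ya3 za44) (ka xa19 ya38 za34) (ka xa19 ya56 za58) (ka xa29 ya2 za16) (ka xa15 ya22 za37) (ka xa25 ya51 za25) (ka xa25 ya12 za46) (ka xa28 ya54 za5) (ka xa20 ya41 za57) (ka xa20 ya41 za58) (ka xa27 ya9 za45) (ka xa30 ya6 za55) (ka xa22 ya7 za60) (ka xa24 ya48 za20) (ka xa27 ya23 za58) (ka xa26 ya54 za9) (ka xa19 ya13 za9)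 (ka xa29 ya27 za40) (ka xa29 ya27 za41) (ka xa28 ya6 za53) (ka xa19 ya8 za8) (ka xa15 ya33 za1) (ka xa27 ya54 za43) (ka xa28 ya32 za40) (ka xa30 ya43 za49) (ka xa30 ya49 za3) (ka xa19 ya41 za42) (ka xa19 ya7 za29) (ka xa20 ya11 za11) (ka xa26 ya31 za35) (ka xa31 ya24 za58) (ka xa30 ya43 za53) (ka xa30 ya49 za21) (ka xa22 ya22 za42) (ka xa21 ya14 za18) (ka xa22 ya22 za44) (ka xa26 ya31 za36) (ka xa31 ya24 za60) (ka xa24 ya39 za7) (ka xa31 ya23 za43) (ka xa30 ya52 za55)) (@D3.rec (fun _ => Pt) (ka xa20 ya37 za17) (ka xa30 ya45 za51) (ka xa29 ya53 za20) (ka xa21 ya14 za44) (ka xa19 ya8 za38) (ka xa31 ya12 za40) (ka xa19 ya8 za36) (ka xa22 ya22 za47) (ka xa23 ya8 za31) (ka xa29 ya53 za21) (ka xa28 ya47 za10) (ka xa18 ya50 za19) (ka xa31 ya6 za58) (ka xa31 ya24 za61) (ka xa18 ya34 za24) (ka xa30 ya26 za20) (ka xa29 ya52 za48)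 (ka xa30 ya26 za23) (ka xa30 ya26 za24) (ka xa31 ya23 za38) (ka xa26 ya24 za25) (ka xa14 ya31 za27) (ka xa29 ya53 za60) (ka xa31 ya25 za39) (ka xa27 ya53 za2) (ka xa27 ya53 za5) (ka xa30 ya56 za40) (ka xa30 ya45 za18) (ka xa31 ya25 za3) (ka xa27 ya55 za5) (ka xa26 ya45 za25) (ka xa24 ya21 za35) (ka xa19 ya31 za25) (ka xa19 ya9 za53) (ka xa30 ya27 za40) (ka xa25 ya59 za49) (ka xa31 ya6 za59) (ka xa31 ya17 za50) (ka xa22 ya39 za42) (ka xa30 ya51 za10) (ka xa29 ya30 za27) (ka xa24 ya7 za40) (ka xa26 ya24 za46) (ka xa24 ya7 za45) (ka xa15 ya32 za61) (ka xa15 ya33 za2) (ka xa25 ya24 za53) (ka xa31 ya17 za47) (ka xa24 ya8 za28) (ka xa30 ya51 za16) (ka xa24 ya8 za29) (ka xa24 ya24 za28) (ka xa30 ya11 za48) (ka xa29 ya53 za34) (ka xa30 ya11 za47) (ka xa28 ya50 za12) (ka xa31 ya18 za2) (ka xa24 ya13 za60) (ka xa23 ya53 za26) (ka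 xa31 ya15 za37) (ka xa24 ya13 za57) (ka xa24 ya18 za23)) (@D3.rec (fun _ => Pt) (ka xa30 ya37 za22) (ka xa24 ya18 za24) (ka xa15 ya18 za14) (ka xa24 ya8 za30) (ka xa24 ya8 za41) (ka xa14 ya32 za4) (ka xa14 ya32 za1) (ka xa30 ya47 za38) (ka xa22 ya53 za28) (ka xa31 ya17 za36) (ka xa14 ya32 za2) (ka xa30 ya47 za37) (ka xa22 ya53 za27) (ka xa31 ya25 za58) (ka xa25 ya4 za38) (ka xa24 ya8 za57) (ka xa24 ya8 za59) (ka xa30 ya51 za32) (ka xa28 ya57 za7) (ka xa21 ya39 za6) (ka xa14 ya33 za16) (ka xa14 ya32 za47) (ka xa21 ya2 za2) (ka xa14 ya33 za45) (ka xa23 ya55 za35) (ka xa21 ya18 za53) (ka xa27 ya6 za33) (ka xa20 ya23 za3) (ka xa27 ya6 za34) (ka xa27 ya6 za35) (ka xa17 ya19 za42) (ka xa27 ya6 za36) (ka xa20 ya58 za18) (ka xa15 ya51 za33) (ka xa23 ya4 za41) (ka xa26 ya52 za23) (ka xa26 ya39 za25) (ka xa29 ya28 za5) (ka xa30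 ya56 za45) (ka xa22 ya13 za17) (ka xa20 ya39 za3) (ka xa30 ya56 za46) (ka xa30 ya56 za47) (ka xa23 ya55 za52) (ka xa16 ya42 za20) (ka xa28 ya56 za29) (ka xa16 ya42 za18) (ka xa19 ya10 za42) (ka xa21 ya24 za3) (ka xa22 ya23 za13) (ka xa20 ya16 za29) (ka xa22 ya23 za14) (ka xa27 ya36 za50) (ka xa14 ya47 za38) (ka xa14 ya33 za25) (ka xa14 ya33 za26) (ka xa14 ya33 za32) (ka xa14 ya33 za33) (ka xa14 ya33 za38) (ka xa14 ya33 za39) (ka xa14 ya33 za41) (ka xa14 ya34 za7)) (@D3.rec (fun _ => Pt) (ka xa24 ya26 za26) (ka xa27 ya13 za44) (ka xa14 ya34 za2) (ka xa24 ya26 za59) (ka xa15 ya21 za22) (ka xa24 ya1 za33) (ka xa27 ya15 za40) (ka xa28 ya48 za20) (ka xa14 ya34 za19) (ka xa14 ya34 za21) (ka xa14 ya34 za22) (ka xa24 ya26 za11) (ka xa31 ya25 za60) (ka xa31 ya26 za35) (ka xa14 ya34 za28) (ka xa14 ya34 za29) (ka xa14 ya34 za31)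 (ka xa18 ya52 za26) (ka xa14 ya34 za34) (ka xa14 ya34 za45) (ka xa14 ya34 za46) (ka xa21 ya38 za56) (ka xa21 ya39 za8) (ka xa17 ya19 za43) (ka xa17 ya19 za49) (ka xa21 ya39 za10) (ka xa17 ya22 za3) (ka xa20 ya46 za53) (ka xa20 ya46 za54) (ka xa22 ya18 za22) (ka xa22 ya18 za23) (ka xa22 ya23 za33) (ka xa15 ya11 za55) (ka xa29 ya34 za58) (ka xa21 ya40 za38) (ka xa21 ya17 za6) (ka xa28 ya43 za1) (ka xa18 ya57 za20) (ka xa17 ya20 za5) (ka xa22 ya7 za29) (ka xa17 ya21 za30) (ka xa17 ya6 za39) (ka xa19 ya19 za46) (ka xa29 ya4 za1) (ka xa31 ya26 za20) (ka xa30 ya21 za48) (ka xa29 ya26 za61) (ka xa22 ya13 za8) (ka xa31 ya26 za21) (ka xa20 ya43 za9) (ka xa17 ya29 za3) (ka xa17 ya29 za4) (ka xa31 ya26 za22) (ka xa31 ya10 za5) (ka xa20 ya46 za26) (ka xa30 ya56 za56) (ka xa18 ya38 za0) (ka xa14 ya33 za35) (ka xa25 ya56 za33) (ka xa19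 ya12 za5) (ka xa29 ya41 za11) (ka xa29 ya50 za15)) (@D3.rec (fun _ => Pt) (ka xa29 ya50 za16) (ka xa29 ya0 za29) (ka xa19 ya46 za41) (ka xa31 ya26 za52) (ka xa19 ya46 za42) (ka xa26 ya51 za12) (ka xa31 ya26 za55) (ka xa25 ya49 za56) (ka xa14 ya33 za40) (ka xa24 ya11 za53) (ka xa20 ya49 za38) (ka xa17 ya59 za7) (ka xa17 ya59 za2) (ka xa29 ya37 za10) (ka xa14 ya33 za49) (ka xa24 ya58 za26) (ka xa28 ya30 za47) (ka xa24 ya0 za3) (ka xa15 ya21 za27) (ka xa28 ya16 za7) (ka xa28 ya16 za0) (ka xa23 ya19 za13) (ka xa23 ya19 za11) (ka xa23 ya19 za12) (ka xa23 ya19 za14) (ka xa19 ya47 za9) (ka xa30 ya41 za55) (ka xa19 ya44 za31) (ka xa24 ya39 za44) (ka xa24 ya11 za8) (ka xa19 ya45 za29) (ka xa31 ya26 za26) (ka xa14 ya33 za59) (ka xa31 ya27 za3) (ka xa19 ya19 za51) (ka xa19 ya19 za50) (ka xa20 ya50 za18) (ka xa22 ya36 za59) (ka xa22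 ya36 za61) (ka xa30 ya39 za10) (ka xa31 ya19 za13) (ka xa31 ya26 za24) (ka xa31 ya27 za8) (ka xa26 ya33 za57) (ka xa14 ya34 za10) (ka xa25 ya57 za4) (ka xa14 ya34 za14) (ka xa14 ya34 za15) (ka xa22 ya50 za50) (ka xa31 ya27 za14) (ka xa31 ya27 za12) (ka xa31 ya27 za13) (ka xa18 ya30 za47) (ka xa19 ya6 za59) (ka xa20 ya42 za32) (ka xa31 ya26 za34) (ka xa14 ya34 za17) (ka xa30 ya11 za26) (ka xa24 ya7 za47) (ka xa30 ya40 za36) (ka xa31 ya26 za28) (ka xa25 ya25 za42)) (@D3.rec (fun _ => Pt) (ka xa25 ya36 za26) (ka xa25 ya36 za25) (ka xa27 ya12 za57) (ka xa18 ya52 za32) (ka xa28 ya50 za2) (ka xa29 ya0 za48) (ka xa14 ya34 za24) (ka xa14 ya34 za25) (ka xa31 ya27 za26) (ka xa31 ya27 za22) (ka xa29 ya45 za38) (ka xa19 ya12 za47) (ka xa31 ya27 za23) (ka xa31 ya27 za24) (ka xa31 ya11 za15) (ka xa20 ya59 za16) (ka xa14 ya34 za26) (ka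 xa29 ya4 za56) (ka xa28 ya56 za60) (ka xa28 ya57 za59) (ka xa25 ya31 za18) (ka xa31 ya26 za37) (ka xa28 ya58 za15) (ka xa30 ya38 za15) (ka xa30 ya40 za44) (ka xa31 ya9 za50) (ka xa14 ya34 za35) (ka xa27 ya38 za18) (ka xa29 ya5 za25) (ka xa26 ya41 za47) (ka xa17 ya28 za17) (ka xa21 ya27 za9) (ka xa18 ya52 za35) (ka xa14 ya34 za42) (ka xa14 ya34 za38) (ka xa24 ya54 za19) (ka xa31 ya4 za52) (ka xa27 ya56 za56) (ka xa14 ya34 za39) (ka xa28 ya58 za12) (ka xa24 ya54 za18) (ka xa31 ya4 za51) (ka xa29 ya0 za23) (ka xa14 ya34 za41) (ka xa31 ya9 za37) (ka xa31 ya9 za36) (ka xa31 ya27 za48) (ka xa29 ya36 za22) (ka xa26 ya46 za18) (ka xa14 ya53 za25) (ka xa17 ya58 za61) (ka xa17 ya59 za0) (ka xa17 ya59 za1) (ka xa19 ya13 za22) (ka xa29 ya23 za4) (ka xa31 ya27 za5) (ka xa29 ya39 za57) (ka xa19 ya11 za60) (ka xa14 ya34 za57) (ka xa14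 ya35 za1) (ka xa14 ya35 za2) (ka xa14 ya35 za3)) (@D3.rec (fun _ => Pt) (ka xa29 ya22 za43) (ka xa20 ya44 za58) (ka xa26 ya10 za52) (ka xa25 ya12 za56) (ka xa30 ya9 za19) (ka xa26 ya59 za41) (ka xa17 ya23 za6) (ka xa17 ya19 za38) (ka xa17 ya23 za4) (ka xa18 ya56 za14) (ka xa25 ya30 za53) (ka xa24 ya46 za31) (ka xa30 ya46 za22) (ka xa19 ya32 za39) (ka xa28 ya56 za17) (ka xa30 ya36 za33) (ka xa22 ya50 za21) (ka xa23 ya49 za53) (ka xa27 ya31 za43) (ka xa24 ya5 za5) (ka xa27 ya31 za52) (ka xa29 ya7 za27) (ka xa21 ya3 za40) (ka xa24 ya13 za61) (ka xa24 ya14 za1) (ka xa27 ya39 za43) (ka xa16 ya15 za60) (ka xa23 ya50 za17) (ka xa24 ya55 za50) (ka xa28 ya28 za29) (ka xa14 ya35 za18) (ka xa21 ya58 za38) (ka xa23 ya50 za5) (ka xa14 ya35 za25) (ka xa14 ya35 za30) (ka xa14 ya35 za31) (ka xa14 ya35 za32) (ka xa25 ya23 za40) (ka xa31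 ya25 za11) (ka xa18 ya57 za19) (ka xa26 ya53 za57) (ka xa24 ya6 za15) (ka xa27 ya21 za45) (ka xa29 ya37 za29) (ka xa29 ya26 za3) (ka xa31 ya28 za1) (ka xa25 ya26 za7) (ka xa25 ya18 za38) (ka xa21 ya53 za24) (ka xa18 ya4 za22) (ka xa22 ya37 za15) (ka xa28 ya21 za17) (ka xa30 ya36 za23) (ka xa22 ya57 za28) (ka xa22 ya59 za23) (ka xa22 ya59 za20) (ka xa30 ya36 za25) (ka xa20 ya32 za43) (ka xa20 ya33 za47) (ka xa23 ya11 za25) (ka xa30 ya36 za27) (ka xa21 ya20 za34)) (@D3.rec (fun _ => Pt) (ka xa20 ya51 za50) (ka xa16 ya2 za31) (ka xa22 ya4 za46) (ka xa14 ya35 za59) (ka xa14 ya35 za60) (ka xa14 ya36 za0) (ka xa14 ya36 za2) (ka xa28 ya36 za47) (ka xa31 ya28 za11) (ka xa31 ya28 za12) (ka xa20 ya34 za57) (ka xa17 ya50 za26) (ka xa31 ya28 za13) (ka xa29 ya32 za46) (ka xa29 ya32 za47) (ka xa29 ya58 za54) (ka xa20 ya37 za55) (ka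 xa28 ya45 za16) (ka xa29 ya43 za34) (ka xa29 ya32 za42) (ka xa29 ya32 za43) (ka xa19 ya4 za7) (ka xa19 ya4 za8) (ka xa24 ya19 za61) (ka xa24 ya20 za1) (ka xa30 ya12 za7) (ka xa21 ya21 za5) (ka xa26 ya57 za10) (ka xa30 ya12 za8) (ka xa20 ya28 za13) (ka xa24 ya19 za55) (ka xa30 ya12 za10) (ka xa31 ya28 za30) (ka xa29 ya1 za14) (ka xa24 ya19 za51) (ka xa31 ya28 za34) (ka xa31 ya28 za36) (ka xa14 ya36 za17) (ka xa19 ya31 za16) (ka xa31 ya28 za33) (ka xa19 ya4 za9) (ka xa24 ya10 za52) (ka xa19 ya8 za0) (ka xa14 ya36 za31) (ka xa14 ya36 za32) (ka xa29 ya22 za44) (ka xa21 ya26 za32) (ka xa27 ya4 za3) (ka xa21 ya26 za31) (ka xa28 ya43 za19) (ka xa28 ya47 za30) (ka xa24 ya19 za34) (ka xa17 ya25 za47) (ka xa17 ya11 za5) (ka xa30 ya37 za3) (ka xa24 ya19 za30) (ka xa20 ya17 za29) (ka xa21 ya47 za49) (ka xa19 ya14 za29) (ka xa18 ya24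 za19) (ka xa18 ya57 za57) (ka xa24 ya19 za23)) (@D3.rec (fun _ => Pt) (ka xa28 ya41 za29) (ka xa24 ya19 za24) (ka xa30 ya3 za38) (ka xa17 ya52 za61) (ka xa25 ya49 za42) (ka xa24 ya20 za50) (ka xa21 ya59 za14) (ka xa14 ya36 za48) (ka xa24 ya37 za54) (ka xa24 ya10 za24) (ka xa23 ya49 za35) (ka xa29 ya10 za1) (ka xa25 ya38 za40) (ka xa25 ya38 za39) (ka xa30 ya0 za28) (ka xa31 ya9 za19) (ka xa31 ya18 za16) (ka xa24 ya57 za23) (ka xa14 ya36 za60) (ka xa14 ya37 za0) (ka xa14 ya37 za1) (ka xa25 ya51 za13) (ka xa29 ya25 za41) (ka xa20 ya3 za25) (ka xa31 ya18 za17) (ka xa24 ya27 za29) (ka xa30 ya8 za61) (ka xa24 ya27 za27) (ka xa31 ya18 za18) (ka xa19 ya15 za41) (ka xa19 ya15 za38) (ka xa31 ya18 za19) (ka xa24 ya5 za17) (ka xa20 ya3 za27) (ka xa15 ya18 za53) (ka xa14 ya37 za14) (ka xa14 ya37 za15) (ka xa14 ya37 za16) (ka xa30 ya5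 za19) (ka xa29 ya12 za55) (ka xa21 ya23 za44) (ka xa27 ya36 za13) (ka xa27 ya51 za4) (ka xa19 ya12 za43) (ka xa19 ya11 za36) (ka xa24 ya37 za50) (ka xa24 ya37 za55) (ka xa14 ya37 za19) (ka xa29 ya9 za42) (ka xa26 ya47 za32) (ka xa24 ya20 za5) (ka xa19 ya47 za34) (ka xa31 ya18 za20) (ka xa29 ya10 za17) (ka xa19 ya14 za36) (ka xa29 ya10 za18) (ka xa25 ya41 za19) (ka xa29 ya0 za32) (ka xa31 ya18 za21) (ka xa23 ya0 za29) (ka xa19 ya15 za19) (ka xa22 ya11 za53)) (@D3.rec (fun _ => Pt) (ka xa24 ya35 za21) (ka xa29 ya26 za46) (ka xa14 ya37 za33) (ka xa26 ya41 za19) (ka xa31 ya29 za0) (ka xa16 ya12 za45) (ka xa31 ya18 za25) (ka xa31 ya18 za26) (ka xa25 ya39 za31) (ka xa25 ya58 za23) (ka xa21 ya45 za14) (ka xa14 ya37 za43) (ka xa28 ya58 za42) (ka xa28 ya58 za41) (ka xa14 ya47 za58) (ka xa25 ya10 za42) (ka xa16 ya4 za21) (ka xa31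 ya18 za24) (ka xa24 ya10 za56) (ka xa30 ya11 za61) (ka xa28 ya22 za51) (ka xa24 ya10 za31) (ka xa17 ya26 za33) (ka xa20 ya44 za30) (ka xa29 ya39 za53) (ka xa30 ya11 za43) (ka xa23 ya34 za23) (ka xa19 ya12 za58) (ka xa30 ya11 za44) (ka xa20 ya47 za47) (ka xa22 ya38 za18) (ka xa20 ya24 za5) (ka xa20 ya24 za4) (ka xa20 ya24 za19) (ka xa20 ya24 za20) (ka xa24 ya13 za31) (ka xa23 ya49 za17) (ka xa30 ya11 za50) (ka xa30 ya11 za52) (ka xa20 ya23 za57) (ka xa31 ya24 za50) (ka xa26 ya40 za14) (ka xa26 ya29 za58) (ka xa22 ya19 za57) (ka xa30 ya11 za55) (ka xa31 ya12 za35) (ka xa26 ya29 za59) (ka xa20 ya48 za49) (ka xa22 ya1 za13) (ka xa14 ya38 za9) (ka xa18 ya47 za40) (ka xa30 ya11 za59) (ka xa29 ya20 za22) (ka xa30 ya11 za60) (ka xa19 ya20 za23) (ka xa28 ya53 za54) (ka xa21 ya47 za17) (ka xa14 ya38 za19) (ka xa17 ya51 za58) (ka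 xa21 ya18 za52) (ka xa20 ya8 za27) (ka xa24 ya42 za30)) (@D3.rec (fun _ => Pt) (ka xa30 ya40 za12) (ka xa30 ya50 za6) (ka xa27 ya2 za20) (ka xa22 ya37 za42) (ka xa22 ya38 za52) (ka xa19 ya46 za48) (ka xa22 ya38 za3) (ka xa30 ya56 za37) (ka xa30 ya56 za38) (ka xa30 ya10 za21) (ka xa30 ya56 za36) (ka xa14 ya48 za32) (ka xa23 ya0 za30) (ka xa16 ya9 za61) (ka xa28 ya31 za28) (ka xa14 ya38 za35) (ka xa23 ya30 za32) (ka xa29 ya16 za57) (ka xa31 ya14 za14) (ka xa31 ya18 za28) (ka xa15 ya39 za26) (ka xa24 ya27 za24) (ka xa14 ya38 za38) (ka xa24 ya52 za9) (ka xa24 ya38 za27) (ka xa24 ya27 za5) (ka xa24 ya27 za6) (ka xa15 ya20 za49) (ka xa30 ya14 za34) (ka xa24 ya27 za28) (ka xa29 ya34 za44) (ka xa24 ya32 za56) (ka xa14 ya48 za39) (ka xa24 ya32 za55) (ka xa30 ya8 za26) (ka xa14 ya38 za45) (ka xa19 ya48 za50) (ka xa17 ya51 za52)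 (ka xa30 ya36 za51) (ka xa20 ya29 za49) (ka xa24 ya24 za22) (ka xa22 ya39 za6) (ka xa22 ya39 za8) (ka xa17 ya54 za51) (ka xa14 ya39 za4) (ka xa22 ya26 za27) (ka xa23 ya49 za3) (ka xa28 ya44 za38) (ka xa28 ya44 za39) (ka xa31 ya29 za41) (ka xa29 ya26 za12) (ka xa31 ya29 za42) (ka xa18 ya11 za8) (ka xa14 ya39 za6) (ka xa27 ya14 za18) (ka xa19 ya7 za10) (ka xa31 ya18 za14) (ka xa19 ya7 za15) (ka xa18 ya31 za29) (ka xa24 ya1 za29) (ka xa24 ya1 za28) (ka xa30 ya26 za58)) (@D3.rec (fun _ => Pt) (ka xa25 ya33 za11) (ka xa22 ya41 za4) (ka xa27 ya23 za60) (ka xa22 ya41 za5) (ka xa19 ya14 za44) (ka xa25 ya28 za43) (ka xa27 ya12 za52) (ka xa25 ya22 za48) (ka xa19 ya15 za40) (ka xa24 ya7 za35) (ka xa30 ya46 za54) (ka xa19 ya7 za24) (ka xa14 ya39 za33) (ka xa31 ya26 za32) (ka xa19 ya7 za31) (ka xa19 ya7 za33) (ka xa19 ya7 za32) (ka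 xa29 ya24 za40) (ka xa25 ya14 za50) (ka xa22 ya41 za26) (ka xa31 ya30 za3) (ka xa22 ya41 za27) (ka xa29 ya58 za26) (ka xa19 ya56 za9) (ka xa22 ya6 za15) (ka xa29 ya8 za48) (ka xa30 ya36 za60) (ka xa30 ya3 za41) (ka xa22 ya29 za55) (ka xa30 ya37 za42) (ka xa22 ya14 za9) (ka xa14 ya39 za49) (ka xa14 ya39 za50) (ka xa20 ya56 za9) (ka xa20 ya55 za58) (ka xa26 ya8 za0) (ka xa31 ya6 za20) (ka xa26 ya9 za30) (ka xa27 ya56 za41) (ka xa26 ya48 za8) (ka xa29 ya48 za55) (ka xa26 ya9 za33) (ka xa14 ya39 za55) (ka xa14 ya39 za56) (ka xa30 ya27 za24) (ka xa31 ya30 za10) (ka xa31 ya30 za11) (ka xa18 ya40 za26) (ka xa31 ya30 za12) (ka xa19 ya55 za57) (ka xa23 ya39 za15) (ka xa24 ya10 za45) (ka xa29 ya58 za7) (ka xa14 ya40 za0) (ka xa14 ya40 za2) (ka xa31 ya5 za55) (ka xa14 ya46 za52) (ka xa30 ya3 za5) (ka xa20 ya59 za17) (ka xa29 ya41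 za23) (ka xa29 ya5 za1) (ka xa14 ya40 za5)) (@D3.rec (fun _ => Pt) (ka xa21 ya12 za30) (ka xa14 ya40 za6) (ka xa28 ya48 za23) (ka xa14 ya40 za7) (ka xa14 ya46 za53) (ka xa30 ya26 za8) (ka xa29 ya5 za2) (ka xa26 ya41 za56) (ka xa21 ya29 za13) (ka xa31 ya18 za31) (ka xa31 ya30 za6) (ka xa19 ya2 za27) (ka xa17 ya15 za30) (ka xa14 ya45 za55) (ka xa24 ya27 za58) (ka xa30 ya37 za40) (ka xa30 ya8 za24) (ka xa19 ya55 za49) (ka xa23 ya24 za53) (ka xa19 ya15 za11) (ka xa19 ya13 za5) (ka xa19 ya14 za46) (ka xa24 ya22 za40) (ka xa30 ya31 za25) (ka xa30 ya50 za16) (ka xa23 ya34 za22) (ka xa26 ya36 za42) (ka xa28 ya34 za16) (ka xa24 ya13 za51) (ka xa31 ya12 za49) (ka xa30 ya50 za19) (ka xa31 ya12 za46) (ka xa31 ya12 za47) (ka xa30 ya53 za4) (ka xa30 ya31 za27) (ka xa14 ya41 za7) (ka xa14 ya41 za6) (ka xa14 ya40 za27) (ka xa22 ya24 za32)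 (ka xa24 ya30 za26) (ka xa24 ya30 za25) (ka xa31 ya23 za53) (ka xa30 ya28 za49) (ka xa31 ya23 za54) (ka xa31 ya15 za1) (ka xa22 ya35 za27) (ka xa23 ya34 za25) (ka xa31 ya22 za11) (ka xa27 ya13 za60) (ka xa19 ya13 za4) (ka xa22 ya24 za26) (ka xa30 ya28 za42) (ka xa30 ya22 za38) (ka xa30 ya31 za26) (ka xa22 ya16 za6) (ka xa22 ya39 za55) (ka xa22 ya39 za56) (ka xa22 ya23 za59) (ka xa19 ya13 za19) (ka xa26 ya51 za46) (ka xa31 ya24 za53) (ka xa31 ya24 za54)) (@D3.rec (fun _ => Pt) (ka xa31 ya24 za55) (ka xa31 ya24 za56) (ka xa26 ya51 za48) (ka xa24 ya30 za28) (ka xa30 ya50 za21) (ka xa30 ya11 za46) (ka xa30 ya26 za1) (ka xa20 ya48 za21) (ka xa30 ya42 za55) (ka xa30 ya37 za28) (ka xa19 ya28 za57) (ka xa24 ya1 za15) (ka xa22 ya25 za12) (ka xa29 ya23 za12) (ka xa24 ya11 za59) (ka xa30 ya30 za12) (ka xa26 ya59 za49) (ka xa14 ya40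 za57) (ka xa31 ya12 za45) (ka xa29 ya38 za10) (ka xa29 ya21 za17) (ka xa30 ya39 za8) (ka xa14 ya41 za1) (ka xa29 ya45 za33) (ka xa21 ya59 za61) (ka xa27 ya5 za9) (ka xa14 ya41 za3) (ka xa27 ya10 za40) (ka xa28 ya52 za31) (ka xa26 ya9 za19) (ka xa26 ya9 za20) (ka xa29 ya40 za6) (ka xa22 ya0 za49) (ka xa31 ya30 za33) (ka xa22 ya40 za54) (ka xa31 ya30 za32) (ka xa14 ya41 za9) (ka xa21 ya15 za61) (ka xa18 ya47 za39) (ka xa30 ya42 za51) (ka xa27 ya58 za34) (ka xa21 ya54 za52) (ka xa20 ya57 za39) (ka xa22 ya24 za28) (ka xa22 ya24 za29) (ka xa14 ya41 za17) (ka xa28 ya54 za39) (ka xa22 ya24 za35) (ka xa22 ya24 za36) (ka xa22 ya24 za33) (ka xa22 ya1 za46) (ka xa22 ya24 za37) (ka xa30 ya15 za31) (ka xa30 ya28 za33) (ka xa30 ya27 za43) (ka xa31 ya7 za2) (ka xa22 ya24 za19) (ka xa20 ya47 za58) (ka xa20 ya48 za35) (ka xa24 ya10 za42)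 (ka xa23 ya48 za58) (ka xa31 ya12 za58)) (@D3.rec (fun _ => Pt) (ka xa31 ya31 za23) (ka xa22 ya13 za45) (ka xa22 ya13 za46) (ka xa22 ya13 za47) (ka xa25 ya11 za32) (ka xa19 ya20 za56) (ka xa14 ya41 za33) (ka xa14 ya41 za34) (ka xa30 ya12 za26) (ka xa27 ya46 za57) (ka xa27 ya46 za56) (ka xa24 ya15 za11) (ka xa30 ya45 za31) (ka xa25 ya50 za48) (ka xa26 ya57 za7) (ka xa31 ya18 za38) (ka xa24 ya4 za28) (ka xa31 ya18 za39) (ka xa17 ya2 za4) (ka xa22 ya0 za54) (ka xa19 ya13 za48) (ka xa29 ya31 za21) (ka xa31 ya31 za37) (ka xa14 ya41 za53) (ka xa14 ya41 za54) (ka xa14 ya41 za55) (ka xa24 ya15 za0) (ka xa31 ya18 za61) (ka xa31 ya18 za52) (ka xa19 ya3 za5) (ka xa31 ya19 za0) (ka xa19 ya19 za6) (ka xa19 ya19 za7) (ka xa30 ya30 za17) (ka xa28 ya53 za48) (ka xa19 ya53 za28) (ka xa28 ya40 za46) (ka xa31 ya19 za3) (ka xa31 ya19 za4)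 (ka xa31 ya19 za2) (ka xa28 ya53 za57) (ka xa16 ya40 za21) (ka xa31 ya19 za5) (ka xa14 ya41 za52) (ka xa31 ya19 za7) (ka xa31 ya19 za6) (ka xa22 ya24 za40) (ka xa31 ya24 za57) (ka xa16 ya39 za41) (ka xa19 ya5 za7) (ka xa31 ya31 za39) (ka xa27 ya19 za7) (ka xa16 ya39 za55) (ka xa16 ya53 za52) (ka xa14 ya41 za60) (ka xa22 ya40 za25) (ka xa17 ya18 za55) (ka xa14 ya42 za2) (ka xa14 ya42 za3) (ka xa24 ya15 za3) (ka xa31 ya27 za15) (ka xa31 ya31 za59)) (@D3.rec (fun _ => Pt) (ka xa31 ya31 za60) (ka xa19 ya9 za37) (ka xa31 ya31 za61) (ka xa14 ya42 za4) (ka xa14 ya51 za55) (ka xa24 ya22 za25) (ka xa24 ya22 za26) (ka xa31 ya18 za41) (ka xa30 ya56 za9) (ka xa31 ya17 za44) (ka xa23 ya55 za9) (ka xa31 ya18 za53) (ka xa14 ya42 za10) (ka xa14 ya42 za11) (ka xa14 ya42 za12) (ka xa23 ya58 za19) (ka xa29 ya18 za3) (ka xa28 ya31 za39) (ka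 xa24 ya50 za7) (ka xa31 ya32 za10) (ka xa14 ya52 za4) (ka xa19 ya23 za20) (ka xa31 ya32 za11) (ka xa31 ya32 za12) (ka xa24 ya22 za21) (ka xa14 ya42 za13) (ka xa31 ya32 za18) (ka xa24 ya20 za27) (ka xa24 ya22 za29) (ka xa24 ya20 za25) (ka xa24 ya2 za33) (ka xa19 ya53 za26) (ka xa19 ya28 za22) (ka xa30 ya35 za59) (ka xa14 ya46 za45) (ka xa31 ya19 za9) (ka xa24 ya37 za28) (ka xa31 ya19 za8) (ka xa29 ya52 za7) (ka xa14 ya42 za21) (ka xa26 ya34 za46) (ka xa16 ya48 za9) (ka xa14 ya42 za23) (ka xa25 ya12 za16) (ka xa22 ya10 za1) (ka xa31 ya32 za25) (ka xa15 ya41 za37) (ka xa15 ya42 za41) (ka xa16 ya56 za33) (ka xa29 ya24 za45) (ka xa22 ya41 za41) (ka xa31 ya14 za13) (ka xa14 ya42 za27) (ka xa19 ya9 za21) (ka xa31 ya17 za43) (ka xa30 ya39 za3) (ka xa24 ya34 za43) (ka xa15 ya44 za51) (ka xa24 ya24 za14) (ka xa17 ya18 za52) (ka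 xa22 ya38 za4) (ka xa22 ya38 za5)) (@D3.rec (fun _ => Pt) (ka xa22 ya38 za6) (ka xa20 ya5 za51) (ka xa16 ya51 za56) (ka xa20 ya10 za22) (ka xa22 ya40 za37) (ka xa18 ya48 za8) (ka xa22 ya40 za38) (ka xa30 ya11 za32) (ka xa18 ya48 za12) (ka xa17 ya34 za1) (ka xa22 ya38 za59) (ka xa23 ya38 za53) (ka xa22 ya38 za60) (ka xa28 ya27 za47) (ka xa14 ya42 za61) (ka xa30 ya53 za58) (ka xa22 ya41 za13) (ka xa16 ya22 za30) (ka xa19 ya1 za19) (ka xa18 ya36 za5) (ka xa28 ya26 za26) (ka xa19 ya1 za21) (ka xa28 ya26 za24) (ka xa16 ya35 za37) (ka xa30 ya54 za1) (ka xa24 ya56 za36) (ka xa26 ya13 za36) (ka xa26 ya8 za59) (ka xa17 ya54 za26) (ka xa25 ya2 za0) (ka xa18 ya36 za2) (ka xa20 ya19 za48) (ka xa24 ya11 za30) (ka xa31 ya20 za21) (ka xa14 ya43 za26) (ka xa14 ya43 za28) (ka xa14 ya43 za29) (ka xa14 ya43 za32) (ka xa28 ya45 za51) (ka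 xa19 ya51 za31) (ka xa22 ya41 za22) (ka xa29 ya42 za43) (ka xa29 ya42 za44) (ka xa29 ya30 za34) (ka xa30 ya56 za48) (ka xa31 ya18 za42) (ka xa31 ya18 za43) (ka xa25 ya11 za29) (ka xa25 ya18 za44) (ka xa31 ya18 za44) (ka xa26 ya45 za2) (ka xa14 ya43 za25) (ka xa31 ya15 za59) (ka xa26 ya45 za12) (ka xa31 ya18 za46) (ka xa29 ya30 za49) (ka xa19 ya19 za38) (ka xa19 ya19 za39) (ka xa19 ya8 za51) (ka xa19 ya51 za29) (ka xa28 ya23 za1) (ka xa19 ya19 za53)) (@D3.rec (fun _ => Pt) (ka xa22 ya51 za31) (ka xa26 ya38 za30) (ka xa19 ya5 za4) (ka xa22 ya34 za20) (ka xa22 ya34 za21) (ka xa28 ya11 za14) (ka xa31 ya32 za41) (ka xa16 ya33 za9) (ka xa25 ya16 za0) (ka xa27 ya32 za0) (ka xa15 ya50 za40) (ka xa22 ya40 za40) (ka xa26 ya44 za56) (ka xa22 ya40 za39) (ka xa26 ya6 za34) (ka xa19 ya55 za53) (ka xa19 ya15 za18) (ka xa31 ya19 za11)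 (ka xa28 ya43 za59) (ka xa25 ya11 za58) (ka xa19 ya14 za39) (ka xa19 ya15 za30) (ka xa19 ya3 za7) (ka xa22 ya57 za1) (ka xa24 ya7 za36) (ka xa19 ya20 za12) (ka xa19 ya14 za40) (ka xa19 ya18 za50) (ka xa19 ya20 za29) (ka xa19 ya18 za51) (ka xa31 ya19 za12) (ka xa18 ya27 za29) (ka xa31 ya6 za55) (ka xa15 ya11 za17) (ka xa14 ya43 za50) (ka xa22 ya42 za26) (ka xa20 ya20 za26) (ka xa22 ya4 za7) (ka xa26 ya50 za16) (ka xa16 ya6 za20) (ka xa23 ya49 za5) (ka xa22 ya26 za25) (ka xa31 ya33 za3) (ka xa30 ya15 za14) (ka xa30 ya15 za15) (ka xa30 ya15 za16) (ka xa30 ya15 za17) (ka xa23 ya48 za57) (ka xa30 ya15 za18) (ka xa23 ya48 za56) (ka xa31 ya19 za23) (ka xa27 ya14 za42) (ka xa23 ya51 za12) (ka xa23 ya51 za10) (ka xa23 ya51 za11) (ka xa23 ya51 za13) (ka xa30 ya42 za53) (ka xa30 ya39 za0) (ka xa14 ya44 za6) (ka xa23 ya49 za9) (ka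 xa20 ya48 za45) (ka xa31 ya19 za26)) (@D3.rec (fun _ => Pt) (ka xa31 ya12 za52) (ka xa22 ya40 za49) (ka xa22 ya27 za35) (ka xa30 ya39 za32) (ka xa31 ya12 za54) (ka xa23 ya48 za35) (ka xa23 ya48 za36) (ka xa23 ya48 za37) (ka xa22 ya19 za46) (ka xa22 ya0 za56) (ka xa22 ya0 za55) (ka xa29 ya40 za8) (ka xa31 ya12 za51) (ka xa31 ya12 za50) (ka xa31 ya22 za30) (ka xa22 ya27 za39) (ka xa30 ya15 za33) (ka xa31 ya22 za31) (ka xa27 ya5 za12) (ka xa27 ya5 za11) (ka xa14 ya44 za16) (ka xa31 ya33 za33) (ka xa29 ya32 za6) (ka xa30 ya42 za56) (ka xa22 ya27 za29) (ka xa24 ya24 za40) (ka xa24 ya24 za39) (ka xa31 ya19 za30) (ka xa24 ya25 za3) (ka xa14 ya44 za21) (ka xa14 ya44 za27) (ka xa17 ya6 za48) (ka xa14 ya44 za28) (ka xa19 ya34 za8) (ka xa28 ya51 za1) (ka xa29 ya3 za0) (ka xa28 ya50 za23) (ka xa19 ya33 za42) (ka xa31 ya0 za38) (ka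 xa28 ya12 za31) (ka xa23 ya3 za9) (ka xa25 ya52 za3) (ka xa21 ya5 za45) (ka xa14 ya44 za33) (ka xa30 ya1 za60) (ka xa29 ya50 za41) (ka xa30 ya1 za58) (ka xa28 ya42 za53) (ka xa30 ya1 za57) (ka xa14 ya44 za38) (ka xa14 ya55 za26) (ka xa30 ya42 za11) (ka xa26 ya0 za18) (ka xa22 ya31 za14) (ka xa22 ya31 za15) (ka xa14 ya44 za49) (ka xa14 ya44 za50) (ka xa29 ya30 za0) (ka xa31 ya16 za61) (ka xa31 ya33 za45) (ka xa26 ya48 za53) (ka xa26 ya48 za55)) (@D3.rec (fun _ => Pt) (ka xa26 ya57 za41) (ka xa28 ya13 za45) (ka xa20 ya27 za54) (ka xa24 ya9 za41) (ka xa26 ya22 za33) (ka xa26 ya48 za39) (ka xa22 ya5 za52) (ka xa23 ya36 za38) (ka xa19 ya51 za41) (ka xa14 ya45 za0) (ka xa14 ya45 za1) (ka xa18 ya23 za55) (ka xa23 ya17 za47) (ka xa31 ya33 za48) (ka xa28 ya1 za5) (ka xa29 ya42 za42) (ka xa27 ya1 za19) (ka xa23 ya8 za2) (ka xa23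 ya21 za3) (ka xa23 ya8 za3) (ka xa23 ya20 za0) (ka xa14 ya45 za11) (ka xa18 ya30 za5) (ka xa23 ya20 za53) (ka xa22 ya54 za43) (ka xa28 ya11 za39) (ka xa23 ya20 za56) (ka xa30 ya59 za28) (ka xa14 ya45 za21) (ka xa14 ya45 za23) (ka xa14 ya45 za24) (ka xa30 ya7 za23) (ka xa30 ya7 za22) (ka xa14 ya45 za20) (ka xa31 ya33 za57) (ka xa26 ya57 za39) (ka xa31 ya33 za53) (ka xa26 ya11 za57) (ka xa31 ya33 za54) (ka xa23 ya15 za11) (ka xa30 ya59 za59) (ka xa23 ya15 za8) (ka xa23 ya44 za9) (ka xa30 ya7 za20) (ka xa30 ya7 za21) (ka xa26 ya0 za54) (ka xa30 ya7 za18) (ka xa30 ya7 za19) (ka xa14 ya45 za28) (ka xa28 ya41 za32) (ka xa23 ya25 za47) (ka xa26 ya26 za21) (ka xa16 ya55 za9) (ka xa16 ya11 za35) (ka xa24 ya35 za8) (ka xa24 ya35 za9) (ka xa24 ya35 za10) (ka xa24 ya35 za11) (ka xa24 ya35 za12) (ka xa24 ya35 za13) (ka xa19 ya56 za36)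 (ka xa24 ya35 za14)) (@D3.rec (fun _ => Pt) (ka xa24 ya35 za15) (ka xa24 ya35 za16) (ka xa19 ya55 za47) (ka xa20 ya53 za56) (ka xa24 ya35 za19) (ka xa14 ya46 za50) (ka xa14 ya46 za59) (ka xa14 ya46 za61) (ka xa14 ya47 za28) (ka xa14 ya47 za29) (ka xa14 ya47 za30) (ka xa14 ya47 za32) (ka xa26 ya5 za6) (ka xa14 ya47 za39) (ka xa14 ya47 za40) (ka xa14 ya47 za41) (ka xa14 ya47 za59) (ka xa14 ya48 za37) (ka xa14 ya48 za38) (ka xa14 ya48 za43) (ka xa16 ya30 za14) (ka xa19 ya56 za34) (ka xa14 ya46 za12) (ka xa14 ya46 za14) (ka xa23 ya45 za33) (ka xa23 ya45 za34) (ka xa26 ya7 za50) (ka xa25 ya42 za1) (ka xa17 ya41 za46) (ka xa15 ya42 za61) (ka xa24 ya36 za1) (ka xa20 ya15 za36) (ka xa24 ya36 za15) (ka xa24 ya36 za16) (ka xa18 ya7 za8) (ka xa24 ya43 za3) (ka xa24 ya43 za8) (ka xa23 ya22 za57) (ka xa23 ya22 za60) (ka xa21 ya37 za0)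 (ka xa24 ya36 za12) (ka xa22 ya45 za23) (ka xa24 ya43 za15) (ka xa14 ya46 za29) (ka xa26 ya48 za48) (ka xa23 ya30 za43) (ka xa20 ya13 za15) (ka xa14 ya46 za41) (ka xa14 ya46 za43) (ka xa20 ya13 za5) (ka xa21 ya35 za23) (ka xa28 ya31 za41) (ka xa23 ya29 za3) (ka xa25 ya17 za30) (ka xa24 ya41 za61) (ka xa24 ya22 za33) (ka xa24 ya22 za31) (ka xa22 ya5 za34) (ka xa17 ya51 za45) (ka xa17 ya51 za41) (ka xa29 ya6 za19) (ka xa19 ya45 za59)) (@D3.rec (fun _ => Pt) (ka xa30 ya7 za8) (ka xa19 ya5 za54) (ka xa31 ya19 za42) (ka xa29 ya49 za44) (ka xa20 ya53 za0) (ka xa21 ya40 za37) (ka xa29 ya34 za56) (ka xa18 ya1 za9) (ka xa30 ya14 za10) (ka xa22 ya4 za60) (ka xa14 ya46 za58) (ka xa28 ya25 za14) (ka xa26 ya59 za42) (ka xa21 ya6 za57) (ka xa20 ya13 za16) (ka xa21 ya7 za6) (ka xa30 ya12 za42) (ka xa29 ya15 za9) (ka xa25 ya37 za45) (ka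 xa14 ya47 za5) (ka xa20 ya26 za40) (ka xa28 ya31 za34) (ka xa15 ya1 za39) (ka xa26 ya2 za2) (ka xa31 ya21 za27) (ka xa24 ya37 za6) (ka xa24 ya37 za7) (ka xa18 ya1 za26) (ka xa21 ya48 za31) (ka xa17 ya8 za41) (ka xa14 ya47 za12) (ka xa25 ya19 za25) (ka xa24 ya37 za15) (ka xa23 ya31 za1) (ka xa23 ya31 za0) (ka xa26 ya41 za20) (ka xa14 ya47 za22) (ka xa14 ya47 za23) (ka xa20 ya18 za3) (ka xa30 ya47 za57) (ka xa19 ya26 za9) (ka xa30 ya47 za58) (ka xa25 ya54 za42) (ka xa29 ya48 za36) (ka xa28 ya49 za40) (ka xa30 ya56 za39) (ka xa31 ya5 za23) (ka xa26 ya9 za57) (ka xa30 ya2 za42) (ka xa20 ya50 za26) (ka xa14 ya47 za27) (ka xa31 ya34 za37) (ka xa24 ya34 za49) (ka xa17 ya23 za54) (ka xa22 ya5 za32) (ka xa30 ya18 za16) (ka xa31 ya11 za2) (ka xa24 ya42 za2) (ka xa31 ya29 za29) (ka xa30 ya40 za37) (ka xa30 ya40 za38) (ka xa30 ya40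 za39)) (@D3.rec (fun _ => Pt) (ka xa14 ya47 za34) (ka xa14 ya47 za35) (ka xa29 ya13 za24) (ka xa22 ya21 za15) (ka xa31 ya22 za3) (ka xa25 ya11 za9) (ka xa19 ya55 za24) (ka xa17 ya33 za39) (ka xa29 ya58 za36) (ka xa24 ya37 za32) (ka xa24 ya42 za50) (ka xa24 ya41 za28) (ka xa16 ya41 za50) (ka xa28 ya58 za37) (ka xa16 ya50 za33) (ka xa19 ya11 za7) (ka xa27 ya35 za25) (ka xa27 ya37 za24) (ka xa28 ya36 za50) (ka xa19 ya54 za12) (ka xa14 ya47 za56) (ka xa27 ya19 za49) (ka xa30 ya56 za49) (ka xa25 ya13 za29) (ka xa31 ya34 za14) (ka xa25 ya9 za11) (ka xa24 ya37 za58) (ka xa22 ya12 za11) (ka xa27 ya43 za41) (ka xa19 ya48 za49) (ka xa19 ya26 za19) (ka xa19 ya30 za58) (ka xa27 ya44 za2) (ka xa17 ya33 za40) (ka xa20 ya46 za9) (ka xa31 ya22 za34) (ka xa26 ya22 za18) (ka xa30 ya46 za9) (ka xa22 ya20 za43) (ka xa22 ya20 za44) (ka xa20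 ya41 za13) (ka xa22 ya20 za46) (ka xa23 ya28 za19) (ka xa24 ya27 za56) (ka xa26 ya36 za43) (ka xa29 ya10 za26) (ka xa14 ya55 za14) (ka xa31 ya3 za35) (ka xa15 ya25 za39) (ka xa24 ya33 za52) (ka xa31 ya9 za8) (ka xa31 ya4 za11) (ka xa31 ya4 za12) (ka xa26 ya8 za5) (ka xa22 ya23 za44) (ka xa23 ya8 za18) (ka xa24 ya3 za39) (ka xa15 ya15 za15) (ka xa24 ya5 za1) (ka xa24 ya5 za2) (ka xa19 ya42 za12) (ka xa29 ya43 za2)) (@D3.rec (fun _ => Pt) (ka xa23 ya8 za13) (ka xa23 ya8 za14) (ka xa23 ya8 za15) (ka xa23 ya8 za16) (ka xa16 ya3 za8) (ka xa20 ya24 za42) (ka xa20 ya24 za44) (ka xa23 ya56 za57) (ka xa24 ya31 za54) (ka xa24 ya31 za55) (ka xa24 ya31 za56) (ka xa24 ya31 za57) (ka xa24 ya31 za58) (ka xa24 ya31 za59) (ka xa24 ya31 za61) (ka xa24 ya32 za0) (ka xa24 ya32 za1) (ka xa20 ya35 za36) (ka xa29 ya43 za9) (ka xa24 ya32 za4)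 (ka xa20 ya39 za20) (ka xa24 ya21 za0) (ka xa16 ya30 za51) (ka xa14 ya50 za23) (ka xa14 ya50 za33) (ka xa14 ya50 za40) (ka xa14 ya50 za43) (ka xa14 ya50 za44) (ka xa31 ya35 za8) (ka xa14 ya50 za46) (ka xa14 ya50 za47) (ka xa14 ya50 za48) (ka xa14 ya51 za4) (ka xa14 ya51 za5) (ka xa14 ya51 za6) (ka xa14 ya51 za10) (ka xa14 ya51 za11) (ka xa14 ya51 za15) (ka xa14 ya49 za20) (ka xa15 ya18 za3) (ka xa14 ya51 za23) (ka xa14 ya51 za24) (ka xa14 ya51 za25) (ka xa14 ya51 za43) (ka xa14 ya51 za44) (ka xa14 ya51 za45) (ka xa14 ya51 za53) (ka xa14 ya51 za54) (ka xa14 ya51 za57) (ka xa14 ya52 za6) (ka xa14 ya49 za27) (ka xa23 ya52 za6) (ka xa14 ya49 za39) (ka xa24 ya41 za14) (ka xa24 ya41 za15) (ka xa14 ya49 za49) (ka xa22 ya2 za45) (ka xa19 ya48 za30) (ka xa24 ya41 za17) (ka xa23 ya36 za25) (ka xa29 ya0 za15) (ka xa29 ya23 za47))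 (@D3.rec (fun _ => Pt) (ka xa21 ya51 za54) (ka xa24 ya32 za30) (ka xa24 ya41 za22) (ka xa24 ya41 za21) (ka xa14 ya49 za42) (ka xa14 ya49 za52) (ka xa21 ya26 za13) (ka xa26 ya1 za11) (ka xa23 ya34 za59) (ka xa23 ya35 za0) (ka xa17 ya54 za13) (ka xa19 ya16 za40) (ka xa24 ya32 za40) (ka xa21 ya24 za46) (ka xa25 ya44 za59) (ka xa24 ya32 za32) (ka xa24 ya32 za33) (ka xa20 ya47 za59) (ka xa23 ya36 za31) (ka xa19 ya39 za31) (ka xa29 ya12 za57) (ka xa19 ya39 za29) (ka xa19 ya32 za30) (ka xa14 ya50 za6) (ka xa17 ya34 za24) (ka xa20 ya6 za37) (ka xa14 ya50 za9) (ka xa31 ya35 za28) (ka xa19 ya25 za48) (ka xa28 ya18 za3) (ka xa20 ya43 za36) (ka xa16 ya44 za55) (ka xa20 ya4 za44) (ka xa20 ya2 za31) (ka xa21 ya57 za57) (ka xa20 ya4 za42) (ka xa22 ya37 za3) (ka xa23 ya40 za58) (ka xa25 ya50 za38) (ka xa20 ya16 za24) (ka xa25 ya50 za39)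 (ka xa15 ya20 za50) (ka xa14 ya50 za31) (ka xa17 ya2 za29) (ka xa21 ya11 za44) (ka xa19 ya16 za54) (ka xa26 ya15 za27) (ka xa16 ya30 za50) (ka xa14 ya50 za32) (ka xa17 ya32 za14) (ka xa25 ya33 za10) (ka xa24 ya43 za54) (ka xa31 ya35 za5) (ka xa25 ya8 za40) (ka xa16 ya11 za17) (ka xa29 ya37 za9) (ka xa29 ya35 za27) (ka xa29 ya16 za46) (ka xa29 ya15 za37) (ka xa30 ya56 za1) (ka xa31 ya35 za6) (ka xa31 ya35 za7)) (@D3.rec (fun _ => Pt) (ka xa14 ya50 za45) (ka xa29 ya37 za12) (ka xa27 ya21 za31) (ka xa31 ya35 za10) (ka xa29 ya37 za31) (ka xa31 ya35 za11) (ka xa24 ya33 za25) (ka xa24 ya33 za26) (ka xa23 ya1 za5) (ka xa23 ya1 za6) (ka xa23 ya1 za7) (ka xa31 ya35 za53) (ka xa24 ya38 za0) (ka xa31 ya35 za58) (ka xa15 ya17 za5) (ka xa24 ya33 za32) (ka xa23 ya42 za52) (ka xa25 ya6 za35) (ka xa23 ya42 za51) (ka xa25 ya49 za32) (ka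 xa25 ya49 za30) (ka xa24 ya10 za44) (ka xa24 ya38 za24) (ka xa24 ya38 za28) (ka xa29 ya37 za17) (ka xa31 ya35 za12) (ka xa29 ya58 za44) (ka xa29 ya58 za45) (ka xa24 ya27 za36) (ka xa31 ya35 za13) (ka xa31 ya36 za5) (ka xa24 ya37 za52) (ka xa24 ya34 za9) (ka xa30 ya9 za14) (ka xa26 ya4 za57) (ka xa26 ya40 za17) (ka xa29 ya15 za30) (ka xa29 ya35 za30) (ka xa18 ya2 za5) (ka xa28 ya30 za37) (ka xa31 ya35 za14) (ka xa17 ya28 za31) (ka xa23 ya59 za12) (ka xa25 ya33 za17) (ka xa29 ya59 za60) (ka xa28 ya11 za24) (ka xa25 ya33 za16) (ka xa27 ya43 za44) (ka xa17 ya4 za10) (ka xa22 ya21 za14) (ka xa24 ya20 za45) (ka xa30 ya18 za59) (ka xa24 ya37 za31) (ka xa29 ya9 za41) (ka xa24 ya20 za8) (ka xa24 ya20 za46) (ka xa19 ya56 za56) (ka xa30 ya54 za57) (ka xa24 ya34 za26) (ka xa24 ya52 za29) (ka xa15 ya42 za49) (ka xa31 ya36 za14)) (@D3.rec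 (fun _ => Pt) (ka xa24 ya37 za12) (ka xa31 ya9 za25) (ka xa29 ya59 za47) (ka xa31 ya9 za26) (ka xa31 ya36 za21) (ka xa15 ya53 za50) (ka xa26 ya1 za15) (ka xa26 ya1 za16) (ka xa18 ya2 za0) (ka xa15 ya31 za47) (ka xa25 ya48 za54) (ka xa26 ya6 za45) (ka xa25 ya0 za0) (ka xa23 ya45 za7) (ka xa29 ya59 za61) (ka xa29 ya59 za48) (ka xa24 ya4 za54) (ka xa21 ya45 za26) (ka xa28 ya49 za43) (ka xa31 ya9 za18) (ka xa26 ya6 za51) (ka xa25 ya49 za3) (ka xa31 ya35 za16) (ka xa31 ya35 za17) (ka xa24 ya37 za22) (ka xa29 ya58 za23) (ka xa29 ya58 za24) (ka xa24 ya22 za24) (ka xa24 ya37 za23) (ka xa24 ya42 za37) (ka xa24 ya42 za38) (ka xa24 ya42 za39) (ka xa22 ya21 za22) (ka xa22 ya56 za15) (ka xa21 ya10 za52) (ka xa19 ya10 za14) (ka xa29 ya1 za26) (ka xa22 ya13 za12) (ka xa29 ya36 za49) (ka xa19 ya3 za14) (ka xa19 ya8 za53) (ka xa19 ya3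 za16) (ka xa28 ya18 za49) (ka xa22 ya36 za11) (ka xa26 ya26 za60) (ka xa14 ya52 za12) (ka xa29 ya50 za43) (ka xa28 ya47 za8) (ka xa18 ya47 za25) (ka xa25 ya55 za59) (ka xa15 ya36 za12) (ka xa28 ya14 za33) (ka xa18 ya47 za36) (ka xa25 ya55 za60) (ka xa24 ya44 za19) (ka xa29 ya49 za15) (ka xa28 ya32 za47) (ka xa18 ya12 za19) (ka xa22 ya57 za18) (ka xa22 ya57 za19) (ka xa31 ya23 za36) (ka xa22 ya54 za61)) (@D3.rec (fun _ => Pt) (ka xa27 ya41 za59) (ka xa22 ya55 za1) (ka xa22 ya55 za2) (ka xa22 ya55 za3) (ka xa20 ya41 za30) (ka xa31 ya0 za39) (ka xa24 ya9 za12) (ka xa24 ya12 za59) (ka xa21 ya3 za44) (ka xa23 ya11 za22) (ka xa21 ya45 za8) (ka xa21 ya20 za9) (ka xa22 ya21 za43) (ka xa22 ya21 za54) (ka xa29 ya1 za25) (ka xa17 ya8 za47) (ka xa22 ya21 za51) (ka xa22 ya21 za52) (ka xa22 ya21 za53) (ka xa28 ya53 za45) (ka xa22 ya22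 za1) (ka xa22 ya22 za2) (ka xa21 ya22 za45) (ka xa22 ya22 za4) (ka xa22 ya22 za5) (ka xa16 ya34 za27) (ka xa17 ya32 za1) (ka xa29 ya30 za54) (ka xa17 ya24 za13) (ka xa20 ya59 za10) (ka xa22 ya20 za30) (ka xa28 ya48 za18) (ka xa22 ya20 za41) (ka xa22 ya20 za51) (ka xa22 ya20 za53) (ka xa22 ya20 za56) (ka xa22 ya20 za58) (ka xa24 ya41 za10) (ka xa26 ya57 za13) (ka xa23 ya11 za18) (ka xa23 ya5 za44) (ka xa26 ya42 za37) (ka xa21 ya32 za32) (ka xa29 ya3 za33) (ka xa24 ya16 za28) (ka xa19 ya9 za0) (ka xa19 ya8 za60) (ka xa29 ya39 za1) (ka xa31 ya10 za6) (ka xa31 ya10 za7) (ka xa15 ya20 za35) (ka xa31 ya18 za47) (ka xa19 ya20 za1) (ka xa19 ya20 za2) (ka xa16 ya54 za6) (ka xa16 ya54 za5) (ka xa19 ya20 za24) (ka xa15 ya2 za23) (ka xa19 ya20 za25) (ka xa28 ya19 za21) (ka xa27 ya17 za36) (ka xa15 ya15 za35)) (@D3.rec (fun _ => Pt)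 (ka xa24 ya42 za25) (ka xa14 ya53 za20) (ka xa31 ya36 za61) (ka xa28 ya13 za28) (ka xa31 ya4 za4) (ka xa29 ya57 za1) (ka xa24 ya10 za40) (ka xa14 ya53 za24) (ka xa30 ya9 za61) (ka xa31 ya9 za42) (ka xa31 ya9 za29) (ka xa31 ya9 za30) (ka xa31 ya9 za41) (ka xa29 ya56 za51) (ka xa31 ya4 za31) (ka xa31 ya11 za10) (ka xa30 ya42 za23) (ka xa31 ya37 za9) (ka xa25 ya57 za53) (ka xa23 ya2 za10) (ka xa25 ya59 za5) (ka xa27 ya58 za10) (ka xa21 ya41 za26) (ka xa22 ya18 za48) (ka xa14 ya53 za33) (ka xa23 ya9 za10) (ka xa23 ya9 za9) (ka xa23 ya9 za11) (ka xa18 ya46 za56) (ka xa24 ya40 za36) (ka xa18 ya50 za1) (ka xa18 ya50 za2) (ka xa15 ya36 za15) (ka xa18 ya47 za41) (ka xa14 ya53 za43) (ka xa27 ya54 za6) (ka xa24 ya40 za29) (ka xa28 ya18 za60) (ka xa22 ya39 za23) (ka xa24 ya46 za38) (ka xa24 ya40 za42) (ka xa30 ya44 za55) (ka xa24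 ya40 za40) (ka xa30 ya45 za5) (ka xa22 ya43 za57) (ka xa23 ya34 za57) (ka xa23 ya34 za58) (ka xa30 ya19 za39) (ka xa23 ya34 za55) (ka xa23 ya34 za56) (ka xa14 ya53 za60) (ka xa14 ya53 za61) (ka xa23 ya35 za1) (ka xa25 ya38 za23) (ka xa23 ya34 za60) (ka xa22 ya11 za39) (ka xa18 ya6 za10) (ka xa30 ya45 za59) (ka xa29 ya59 za53) (ka xa28 ya41 za20) (ka xa31 ya37 za18) (ka xa21 ya46 za60)) (@D3.rec (fun _ => Pt) (ka xa23 ya35 za30) (ka xa14 ya54 za0) (ka xa27 ya27 za24) (ka xa24 ya42 za51) (ka xa24 ya42 za52) (ka xa21 ya8 za25) (ka xa24 ya42 za53) (ka xa24 ya42 za55) (ka xa21 ya40 za54) (ka xa21 ya8 za23) (ka xa24 ya39 za37) (ka xa19 ya50 za55) (ka xa21 ya39 za14) (ka xa21 ya55 za17) (ka xa24 ya35 za53) (ka xa24 ya35 za54) (ka xa14 ya54 za17) (ka xa24 ya35 za58) (ka xa23 ya23 za37) (ka xa28 ya56 za56) (ka xa21 ya36 za56) (ka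 xa24 ya36 za3) (ka xa24 ya36 za2) (ka xa14 ya54 za19) (ka xa30 ya9 za0) (ka xa21 ya22 za17) (ka xa24 ya43 za19) (ka xa24 ya43 za20) (ka xa24 ya34 za11) (ka xa24 ya43 za22) (ka xa23 ya31 za55) (ka xa21 ya56 za14) (ka xa14 ya54 za27) (ka xa31 ya7 za9) (ka xa16 ya5 za46) (ka xa21 ya23 za52) (ka xa17 ya42 za4) (ka xa16 ya5 za40) (ka xa24 ya43 za24) (ka xa24 ya43 za23) (ka xa25 ya41 za61) (ka xa25 ya40 za61) (ka xa14 ya54 za37) (ka xa23 ya23 za24) (ka xa31 ya37 za27) (ka xa19 ya37 za6) (ka xa21 ya55 za60) (ka xa24 ya43 za33) (ka xa14 ya54 za39) (ka xa30 ya4 za42) (ka xa18 ya29 za51) (ka xa24 ya42 za1) (ka xa14 ya54 za46) (ka xa16 ya9 za42) (ka xa21 ya38 za23) (ka xa20 ya54 za40) (ka xa27 ya31 za36) (ka xa29 ya17 za3) (ka xa24 ya43 za37) (ka xa14 ya54 za47) (ka xa24 ya42 za21) (ka xa24 ya32 za54)) (@D3.rec (fun _ => Pt) (ka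 xa21 ya8 za33) (ka xa24 ya41 za51) (ka xa24 ya33 za57) (ka xa21 ya34 za42) (ka xa24 ya42 za18) (ka xa14 ya54 za51) (ka xa30 ya4 za28) (ka xa14 ya54 za53) (ka xa31 ya37 za36) (ka xa24 ya42 za23) (ka xa24 ya43 za40) (ka xa24 ya43 za45) (ka xa21 ya33 za3) (ka xa28 ya27 za29) (ka xa21 ya21 za43) (ka xa14 ya54 za58) (ka xa31 ya37 za44) (ka xa21 ya6 za12) (ka xa24 ya42 za4) (ka xa14 ya54 za60) (ka xa28 ya31 za13) (ka xa24 ya41 za60) (ka xa15 ya45 za14) (ka xa24 ya42 za9) (ka xa23 ya58 za22) (ka xa24 ya40 za0) (ka xa14 ya55 za6) (ka xa23 ya31 za11) (ka xa29 ya11 za1) (ka xa22 ya43 za51) (ka xa24 ya21 za61) (ka xa25 ya39 za16) (ka xa29 ya58 za38) (ka xa31 ya37 za48) (ka xa22 ya27 za14) (ka xa30 ya2 za58) (ka xa29 ya10 za6) (ka xa24 ya38 za29) (ka xa24 ya38 za30) (ka xa24 ya38 za31) (ka xa31 ya4 za10) (ka xa22 ya1 za49) (ka xa23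 ya23 za31) (ka xa14 ya55 za25) (ka xa21 ya24 za33) (ka xa23 ya24 za23) (ka xa19 ya38 za53) (ka xa31 ya33 za44) (ka xa31 ya30 za55) (ka xa29 ya59 za42) (ka xa24 ya34 za10) (ka xa24 ya41 za3) (ka xa24 ya41 za4) (ka xa24 ya41 za6) (ka xa21 ya46 za38) (ka xa24 ya41 za7) (ka xa17 ya29 za22) (ka xa22 ya10 za59) (ka xa24 ya43 za49) (ka xa24 ya43 za48) (ka xa24 ya52 za23) (ka xa14 ya56 za22)) (@D3.rec (fun _ => Pt) (ka xa14 ya56 za23) (ka xa29 ya6 za29) (ka xa23 ya22 za12) (ka xa24 ya32 za35) (ka xa14 ya55 za45) (ka xa14 ya55 za46) (ka xa24 ya9 za50) (ka xa17 ya38 za47) (ka xa24 ya32 za36) (ka xa27 ya26 za38) (ka xa18 ya6 za5) (ka xa31 ya37 za56) (ka xa19 ya16 za34) (ka xa29 ya52 za11) (ka xa19 ya16 za39) (ka xa24 ya32 za42) (ka xa17 ya38 za54) (ka xa14 ya55 za47) (ka xa26 ya14 za29) (ka xa24 ya41 za26) (ka xa24 ya41 za27) (ka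 xa19 ya5 za48) (ka xa24 ya41 za29) (ka xa24 ya41 za39) (ka xa24 ya41 za38) (ka xa15 ya43 za23) (ka xa14 ya55 za61) (ka xa14 ya56 za0) (ka xa23 ya36 za15) (ka xa30 ya8 za43) (ka xa28 ya48 za27) (ka xa27 ya11 za5) (ka xa21 ya21 za60) (ka xa24 ya41 za47) (ka xa14 ya56 za7) (ka xa27 ya28 za1) (ka xa27 ya27 za26) (ka xa24 ya41 za58) (ka xa14 ya56 za9) (ka xa31 ya1 za29) (ka xa24 ya42 za10) (ka xa21 ya39 za0) (ka xa21 ya48 za55) (ka xa21 ya5 za59) (ka xa14 ya56 za16) (ka xa24 ya42 za11) (ka xa28 ya28 za47) (ka xa30 ya31 za44) (ka xa24 ya42 za59) (ka xa24 ya42 za58) (ka xa22 ya28 za24) (ka xa29 ya6 za28) (ka xa17 ya36 za15) (ka xa25 ya34 za34) (ka xa24 ya36 za51) (ka xa31 ya37 za35) (ka xa14 ya56 za24) (ka xa24 ya52 za24) (ka xa31 ya37 za17) (ka xa31 ya6 za5) (ka xa25 ya2 za40) (ka xa23 ya2 za13)) (@D3.rec (fun _ => Pt) (ka xa23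 ya31 za9) (ka xa25 ya2 za39) (ka xa31 ya5 za57) (ka xa22 ya14 za42) (ka xa24 ya58 za55) (ka xa24 ya58 za56) (ka xa16 ya15 za21) (ka xa17 ya45 za18) (ka xa17 ya42 za56) (ka xa22 ya15 za9) (ka xa22 ya15 za8) (ka xa14 ya56 za49) (ka xa23 ya50 za21) (ka xa21 ya4 za39) (ka xa18 ya16 za32) (ka xa21 ya4 za40) (ka xa28 ya14 za45) (ka xa27 ya45 za23) (ka xa28 ya16 za29) (ka xa24 ya38 za54) (ka xa20 ya39 za55) (ka xa28 ya16 za25) (ka xa31 ya15 za20) (ka xa24 ya59 za35) (ka xa23 ya18 za33) (ka xa23 ya18 za34) (ka xa21 ya12 za60) (ka xa16 ya14 za32) (ka xa15 ya6 za49) (ka xa23 ya34 za49) (ka xa27 ya27 za0) (ka xa26 ya48 za16) (ka xa23 ya34 za48) (ka xa27 ya26 za59) (ka xa27 ya26 za53) (ka xa16 ya14 za48) (ka xa16 ya14 za49) (ka xa16 ya14 za50) (ka xa25 ya36 za55) (ka xa21 ya42 za25) (ka xa16 ya15 za32) (ka xa16 ya15 za34) (ka xa18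 ya29 za41) (ka xa22 ya8 za49) (ka xa16 ya15 za24) (ka xa23 ya30 za33) (ka xa16 ya15 za5) (ka xa16 ya15 za1) (ka xa16 ya15 za3) (ka xa14 ya57 za20) (ka xa30 ya15 za4) (ka xa27 ya26 za34) (ka xa28 ya1 za54) (ka xa31 ya38 za15) (ka xa16 ya15 za56) (ka xa16 ya15 za57) (ka xa16 ya15 za58) (ka xa16 ya15 za59) (ka xa25 ya18 za58) (ka xa25 ya18 za59) (ka xa16 ya16 za30) (ka xa27 ya26 za54)) (@D3.rec (fun _ => Pt) (ka xa16 ya16 za33) (ka xa16 ya16 za34) (ka xa16 ya17 za2) (ka xa16 ya17 za31) (ka xa20 ya4 za3) (ka xa14 ya57 za43) (ka xa14 ya57 za44) (ka xa18 ya10 za48) (ka xa18 ya10 za47) (ka xa30 ya6 za31) (ka xa27 ya27 za5) (ka xa23 ya44 za40) (ka xa14 ya57 za61) (ka xa27 ya25 za6) (ka xa14 ya57 za51) (ka xa14 ya57 za52) (ka xa16 ya17 za9) (ka xa27 ya25 za8) (ka xa26 ya3 za1) (ka xa26 ya13 za57) (ka xa26 ya3 za8) (ka xa30 ya8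 za51) (ka xa14 ya57 za55) (ka xa16 ya16 za28) (ka xa31 ya38 za23) (ka xa30 ya4 za18) (ka xa14 ya57 za56) (ka xa16 ya17 za26) (ka xa18 ya18 za12) (ka xa14 ya57 za60) (ka xa31 ya38 za27) (ka xa31 ya38 za28) (ka xa18 ya6 za13) (ka xa18 ya3 za52) (ka xa18 ya4 za26) (ka xa31 ya38 za29) (ka xa16 ya18 za38) (ka xa27 ya20 za28) (ka xa16 ya18 za41) (ka xa16 ya18 za42) (ka xa16 ya18 za49) (ka xa16 ya18 za50) (ka xa16 ya18 za51) (ka xa15 ya41 za20) (ka xa16 ya18 za54) (ka xa16 ya18 za57) (ka xa14 ya58 za13) (ka xa27 ya25 za29) (ka xa25 ya45 za58) (ka xa16 ya20 za3) (ka xa27 ya54 za17) (ka xa16 ya19 za43) (ka xa16 ya19 za44) (ka xa29 ya55 za33) (ka xa16 ya19 za47) (ka xa16 ya19 za48) (ka xa16 ya19 za51) (ka xa16 ya19 za52) (ka xa31 ya38 za44) (ka xa16 ya20 za52) (ka xa28 ya0 za1) (ka xa16 ya20 za56)) (@D3.rec (fun _ => Pt) (ka xa27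 ya55 za46) (ka xa16 ya21 za17) (ka xa16 ya21 za18) (ka xa16 ya21 za33) (ka xa28 ya43 za33) (ka xa14 ya58 za49) (ka xa14 ya58 za50) (ka xa14 ya58 za52) (ka xa14 ya58 za55) (ka xa19 ya15 za48) (ka xa29 ya54 za36) (ka xa19 ya1 za36) (ka xa19 ya1 za34) (ka xa28 ya22 za42) (ka xa23 ya51 za51) (ka xa18 ya55 za58) (ka xa29 ya1 za52) (ka xa19 ya29 za9) (ka xa15 ya4 za19) (ka xa18 ya54 za56) (ka xa28 ya18 za22) (ka xa18 ya55 za56) (ka xa27 ya38 za49) (ka xa19 ya13 za16) (ka xa28 ya26 za60) (ka xa28 ya27 za31) (ka xa19 ya13 za12) (ka xa14 ya58 za60) (ka xa14 ya58 za61) (ka xa28 ya23 za0) (ka xa19 ya1 za56) (ka xa24 ya18 za11) (ka xa16 ya22 za33) (ka xa16 ya22 za34) (ka xa16 ya22 za36) (ka xa16 ya22 za38) (ka xa19 ya1 za18) (ka xa26 ya32 za40) (ka xa24 ya40 za39) (ka xa19 ya22 za24) (ka xa18 ya5 za58) (ka xa28 ya4 za26) (ka xa18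 ya8 za48) (ka xa18 ya16 za27) (ka xa16 ya22 za58) (ka xa26 ya17 za42) (ka xa16 ya22 za61) (ka xa16 ya23 za0) (ka xa16 ya23 za1) (ka xa16 ya23 za2) (ka xa16 ya23 za3) (ka xa18 ya7 za16) (ka xa16 ya23 za10) (ka xa16 ya23 za11) (ka xa24 ya56 za14) (ka xa15 ya14 za48) (ka xa16 ya23 za25) (ka xa16 ya23 za27) (ka xa16 ya24 za34) (ka xa15 ya8 za8) (ka xa29 ya24 za32) (ka xa23 ya43 za2)) (@D3.rec (fun _ => Pt) (ka xa16 ya26 za12) (ka xa26 ya43 za60) (ka xa19 ya28 za9) (ka xa28 ya14 za14) (ka xa16 ya56 za7) (ka xa26 ya22 za32) (ka xa16 ya25 za40) (ka xa16 ya25 za49) (ka xa16 ya28 za26) (ka xa19 ya52 za58) (ka xa26 ya29 za61) (ka xa16 ya27 za50) (ka xa16 ya27 za60) (ka xa19 ya18 za43) (ka xa16 ya28 za0) (ka xa16 ya28 za1) (ka xa16 ya12 za43) (ka xa16 ya12 za42) (ka xa14 ya59 za55) (ka xa15 ya0 za10) (ka xa26 ya25 za19) (ka xa15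 ya0 za14) (ka xa15 ya0 za15) (ka xa15 ya0 za18) (ka xa18 ya1 za33) (ka xa16 ya31 za49) (ka xa15 ya8 za11) (ka xa20 ya30 za38) (ka xa19 ya33 za37) (ka xa27 ya5 za25) (ka xa18 ya41 za4) (ka xa16 ya32 za61) (ka xa23 ya7 za9) (ka xa28 ya44 za8) (ka xa26 ya25 za20) (ka xa15 ya0 za16) (ka xa22 ya39 za17) (ka xa21 ya57 za50) (ka xa31 ya39 za5) (ka xa26 ya5 za19) (ka xa20 ya32 za14) (ka xa15 ya0 za23) (ka xa30 ya45 za45) (ka xa30 ya12 za16) (ka xa16 ya33 za0) (ka xa16 ya33 za1) (ka xa16 ya33 za2) (ka xa16 ya33 za4) (ka xa16 ya33 za5) (ka xa31 ya1 za23) (ka xa16 ya33 za7) (ka xa19 ya21 za15) (ka xa16 ya32 za45) (ka xa20 ya32 za0) (ka xa24 ya57 za1) (ka xa16 ya33 za26) (ka xa18 ya47 za6) (ka xa18 ya47 za5) (ka xa15 ya0 za35) (ka xa31 ya39 za13) (ka xa31 ya15 za8) (ka xa19 ya6 za25)) (@D3.rec (fun _ => Pt) (ka xa19 ya6 za26) (ka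 xa18 ya6 za52) (ka xa15 ya0 za38) (ka xa31 ya39 za16) (ka xa31 ya39 za17) (ka xa18 ya47 za10) (ka xa18 ya47 za11) (ka xa18 ya14 za61) (ka xa28 ya4 za32) (ka xa27 ya33 za13) (ka xa26 ya31 za54) (ka xa28 ya4 za31) (ka xa15 ya0 za44) (ka xa26 ya30 za40) (ka xa25 ya1 za55) (ka xa26 ya31 za18) (ka xa31 ya39 za25) (ka xa19 ya6 za21) (ka xa24 ya48 za30) (ka xa24 ya48 za31) (ka xa24 ya12 za34) (ka xa15 ya14 za46) (ka xa27 ya51 za25) (ka xa27 ya51 za26) (ka xa27 ya51 za24) (ka xa15 ya0 za51) (ka xa27 ya51 za30) (ka xa27 ya51 za29) (ka xa25 ya23 za60) (ka xa31 ya39 za34) (ka xa24 ya48 za18) (ka xa24 ya48 za19) (ka xa15 ya1 za53) (ka xa15 ya0 za54) (ka xa24 ya50 za45) (ka xa29 ya35 za34) (ka xa15 ya1 za42) (ka xa15 ya1 za34) (ka xa29 ya2 za20) (ka xa15 ya1 za57) (ka xa15 ya1 za58) (ka xa15 ya1 za60) (ka xa15 ya2 za20) (ka xa15 ya0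 za60) (ka xa25 ya19 za47) (ka xa31 ya39 za44) (ka xa15 ya2 za10) (ka xa15 ya2 za24) (ka xa15 ya2 za25) (ka xa15 ya2 za26) (ka xa15 ya2 za27) (ka xa15 ya2 za28) (ka xa15 ya1 za7) (ka xa28 ya19 za14) (ka xa15 ya1 za8) (ka xa31 ya39 za48) (ka xa30 ya7 za9) (ka xa25 ya22 za10) (ka xa29 ya2 za40) (ka xa15 ya1 za10) (ka xa28 ya31 za36) (ka xa28 ya31 za35)) (@D3.rec (fun _ => Pt) (ka xa25 ya50 za31) (ka xa31 ya39 za47) (ka xa27 ya4 za14) (ka xa15 ya3 za3) (ka xa15 ya3 za4) (ka xa15 ya3 za5) (ka xa15 ya3 za9) (ka xa15 ya1 za14) (ka xa31 ya39 za57) (ka xa17 ya48 za60) (ka xa15 ya43 za15) (ka xa15 ya1 za17) (ka xa29 ya57 za28) (ka xa26 ya1 za21) (ka xa25 ya39 za0) (ka xa19 ya57 za48) (ka xa19 ya57 za47) (ka xa28 ya55 za6) (ka xa28 ya55 za7) (ka xa16 ya9 za38) (ka xa16 ya9 za35) (ka xa16 ya9 za36) (ka xa16 ya9 za37) (ka xa16 ya9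 za30) (ka xa16 ya9 za32) (ka xa19 ya29 za12) (ka xa19 ya29 za11) (ka xa15 ya1 za27) (ka xa20 ya1 za32) (ka xa31 ya40 za10) (ka xa24 ya50 za42) (ka xa25 ya37 za27) (ka xa25 ya20 za31) (ka xa19 ya55 za29) (ka xa15 ya1 za30) (ka xa25 ya52 za33) (ka xa31 ya40 za19) (ka xa19 ya29 za16) (ka xa19 ya29 za18) (ka xa16 ya37 za50) (ka xa28 ya38 za48) (ka xa27 ya36 za33) (ka xa15 ya1 za37) (ka xa28 ya38 za61) (ka xa31 ya40 za30) (ka xa26 ya54 za45) (ka xa31 ya40 za31) (ka xa19 ya43 za58) (ka xa25 ya37 za25) (ka xa16 ya58 za44) (ka xa31 ya34 za24) (ka xa25 ya37 za39) (ka xa19 ya31 za9) (ka xa19 ya31 za10) (ka xa25 ya21 za19) (ka xa25 ya21 za22) (ka xa31 ya39 za38) (ka xa19 ya59 za20) (ka xa16 ya58 za8) (ka xa16 ya49 za33) (ka xa15 ya25 za32) (ka xa15 ya25 za34)) (@D3.rec (fun _ => Pt) (ka xa15 ya25 za35) (ka xa15 ya34 za59) (ka xa15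 ya34 za58) (ka xa15 ya1 za49) (ka xa31 ya24 za20) (ka xa15 ya36 za47) (ka xa24 ya50 za53) (ka xa24 ya27 za18) (ka xa24 ya50 za52) (ka xa31 ya39 za36) (ka xa15 ya1 za56) (ka xa28 ya14 za19) (ka xa29 ya2 za18) (ka xa29 ya2 za19) (ka xa28 ya59 za18) (ka xa25 ya20 za19) (ka xa31 ya40 za46) (ka xa31 ya40 za47) (ka xa25 ya38 za44) (ka xa25 ya38 za48) (ka xa31 ya39 za41) (ka xa31 ya34 za23) (ka xa31 ya36 za56) (ka xa25 ya19 za51) (ka xa31 ya39 za42) (ka xa31 ya39 za43) (ka xa31 ya24 za36) (ka xa20 ya5 za7) (ka xa21 ya3 za59) (ka xa16 ya51 za17) (ka xa18 ya44 za14) (ka xa18 ya44 za13) (ka xa15 ya2 za2) (ka xa31 ya41 za7) (ka xa25 ya37 za26) (ka xa16 ya39 za29) (ka xa19 ya20 za20) (ka xa27 ya37 za41) (ka xa15 ya2 za8) (ka xa28 ya43 za14) (ka xa29 ya7 za28) (ka xa26 ya37 za54) (ka xa24 ya49 za30) (ka xa15 ya28 za3) (ka xa22 ya7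 za35) (ka xa24 ya48 za34) (ka xa19 ya42 za18) (ka xa17 ya52 za53) (ka xa19 ya57 za61) (ka xa26 ya37 za44) (ka xa15 ya20 za5) (ka xa15 ya2 za22) (ka xa24 ya50 za8) (ka xa24 ya50 za6) (ka xa27 ya12 za10) (ka xa27 ya12 za9) (ka xa29 ya4 za26) (ka xa31 ya36 za54) (ka xa24 ya52 za1) (ka xa31 ya9 za52) (ka xa25 ya41 za34) (ka xa25 ya41 za37)) (@D3.rec (fun _ => Pt) (ka xa31 ya39 za46) (ka xa25 ya19 za49) (ka xa19 ya58 za7) (ka xa19 ya57 za50) (ka xa27 ya29 za31) (ka xa19 ya58 za21) (ka xa25 ya20 za8) (ka xa24 ya51 za54) (ka xa20 ya53 za42) (ka xa21 ya50 za52) (ka xa25 ya11 za14) (ka xa25 ya11 za15) (ka xa29 ya2 za38) (ka xa17 ya53 za16) (ka xa15 ya53 za44) (ka xa25 ya9 za19) (ka xa25 ya10 za60) (ka xa15 ya2 za37) (ka xa15 ya2 za36) (ka xa25 ya11 za2) (ka xa25 ya11 za1) (ka xa31 ya41 za21) (ka xa20 ya55 za51) (ka xa15 ya2 za59)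 (ka xa26 ya3 za19) (ka xa25 ya22 za4) (ka xa19 ya9 za8) (ka xa26 ya3 za20) (ka xa27 ya22 za52) (ka xa19 ya50 za28) (ka xa28 ya14 za23) (ka xa26 ya1 za59) (ka xa26 ya37 za39) (ka xa15 ya2 za44) (ka xa15 ya2 za45) (ka xa26 ya3 za16) (ka xa26 ya3 za15) (ka xa26 ya46 za14) (ka xa31 ya41 za31) (ka xa28 ya51 za26) (ka xa31 ya41 za32) (ka xa31 ya41 za33) (ka xa31 ya41 za34) (ka xa25 ya11 za10) (ka xa25 ya11 za11) (ka xa25 ya11 za12) (ka xa25 ya11 za16) (ka xa21 ya2 za9) (ka xa21 ya43 za9) (ka xa19 ya50 za31) (ka xa28 ya14 za24) (ka xa21 ya24 za16) (ka xa26 ya54 za17) (ka xa15 ya2 za58) (ka xa24 ya51 za7) (ka xa15 ya47 za59) (ka xa20 ya53 za30) (ka xa31 ya41 za25) (ka xa31 ya41 za26) (ka xa26 ya2 za1) (ka xa15 ya2 za61) (ka xa29 ya36 za3)) (@D3.rec (fun _ => Pt) (ka xa25 ya9 za24) (ka xa24 ya50 za58) (ka xa25 ya9 za25) (ka xa25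 ya9 za26) (ka xa19 ya55 za33) (ka xa19 ya18 za21) (ka xa26 ya37 za43) (ka xa31 ya39 za56) (ka xa25 ya21 za29) (ka xa24 ya22 za23) (ka xa28 ya31 za40) (ka xa26 ya2 za59) (ka xa25 ya22 za40) (ka xa25 ya22 za41) (ka xa31 ya41 za29) (ka xa20 ya4 za61) (ka xa25 ya13 za44) (ka xa25 ya22 za42) (ka xa19 ya23 za17) (ka xa29 ya17 za57) (ka xa18 ya34 za46) (ka xa23 ya21 za9) (ka xa25 ya49 za36) (ka xa24 ya42 za60) (ka xa24 ya43 za57) (ka xa19 ya6 za7) (ka xa16 ya4 za8) (ka xa25 ya49 za37) (ka xa25 ya49 za38) (ka xa24 ya37 za59) (ka xa17 ya50 za37) (ka xa25 ya38 za20) (ka xa25 ya38 za36) (ka xa25 ya49 za41) (ka xa17 ya51 za1) (ka xa26 ya39 za60) (ka xa26 ya39 za61) (ka xa16 ya39 za32) (ka xa15 ya3 za29) (ka xa25 ya19 za53) (ka xa19 ya6 za15) (ka xa29 ya2 za33) (ka xa20 ya4 za34) (ka xa15 ya24 za8) (ka xa15 ya56 za9) (ka xa26 ya0 za41)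 (ka xa29 ya2 za35) (ka xa26 ya9 za49) (ka xa28 ya31 za43) (ka xa29 ya2 za34) (ka xa26 ya54 za0) (ka xa26 ya54 za2) (ka xa15 ya43 za42) (ka xa16 ya5 za51) (ka xa21 ya8 za34) (ka xa17 ya53 za54) (ka xa15 ya4 za24) (ka xa15 ya4 za31) (ka xa15 ya4 za30) (ka xa20 ya9 za15) (ka xa20 ya7 za41) (ka xa20 ya7 za42)) (@D3.rec (fun _ => Pt) (ka xa31 ya7 za47) (ka xa23 ya24 za0) (ka xa17 ya33 za9) (ka xa27 ya5 za22) (ka xa20 ya7 za29) (ka xa28 ya18 za2) (ka xa15 ya7 za12) (ka xa15 ya4 za22) (ka xa20 ya16 za36) (ka xa15 ya4 za26) (ka xa15 ya4 za28) (ka xa15 ya4 za29) (ka xa20 ya0 za53) (ka xa15 ya4 za18) (ka xa17 ya30 za6) (ka xa15 ya4 za27) (ka xa20 ya10 za16) (ka xa22 ya38 za36) (ka xa20 ya0 za57) (ka xa17 ya56 za47) (ka xa20 ya1 za7) (ka xa17 ya1 za40) (ka xa20 ya9 za1) (ka xa20 ya33 za23) (ka xa20 ya38 za35) (ka xa17 ya7 za14) (ka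 xa20 ya7 za26) (ka xa29 ya53 za24) (ka xa28 ya48 za7) (ka xa22 ya5 za14) (ka xa28 ya48 za8) (ka xa20 ya52 za52) (ka xa15 ya5 za31) (ka xa17 ya18 za54) (ka xa20 ya42 za41) (ka xa17 ya51 za25) (ka xa17 ya34 za37) (ka xa20 ya16 za52) (ka xa20 ya52 za24) (ka xa15 ya5 za36) (ka xa15 ya5 za37) (ka xa17 ya21 za55) (ka xa17 ya21 za54) (ka xa18 ya1 za17) (ka xa18 ya1 za19) (ka xa31 ya42 za7) (ka xa24 ya55 za11) (ka xa24 ya55 za10) (ka xa15 ya5 za46) (ka xa27 ya46 za22) (ka xa29 ya54 za30) (ka xa27 ya54 za49) (ka xa30 ya3 za10) (ka xa30 ya3 za11) (ka xa26 ya18 za58) (ka xa18 ya56 za8) (ka xa18 ya30 za33) (ka xa26 ya18 za61) (ka xa26 ya18 za59) (ka xa26 ya18 za60) (ka xa23 ya51 za50) (ka xa24 ya55 za8)) (@D3.rec (fun _ => Pt) (ka xa24 ya55 za9) (ka xa23 ya51 za46) (ka xa24 ya55 za6) (ka xa22 ya35 za9) (ka xa24 ya56 za31) (ka xa27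 ya35 za10) (ka xa18 ya36 za28) (ka xa24 ya56 za34) (ka xa24 ya56 za37) (ka xa24 ya56 za38) (ka xa24 ya56 za40) (ka xa21 ya29 za29) (ka xa26 ya25 za29) (ka xa17 ya57 za2) (ka xa17 ya57 za3) (ka xa30 ya2 za49) (ka xa27 ya39 za12) (ka xa30 ya3 za4) (ka xa24 ya17 za40) (ka xa24 ya17 za35) (ka xa30 ya3 za6) (ka xa20 ya13 za34) (ka xa24 ya57 za29) (ka xa22 ya49 za45) (ka xa30 ya3 za7) (ka xa20 ya12 za41) (ka xa30 ya3 za8) (ka xa18 ya20 za3) (ka xa20 ya4 za45) (ka xa29 ya14 za49) (ka xa20 ya0 za31) (ka xa20 ya36 za34) (ka xa29 ya31 za41) (ka xa24 ya56 za61) (ka xa24 ya57 za30) (ka xa27 ya31 za20) (ka xa24 ya57 za32) (ka xa24 ya57 za33) (ka xa15 ya6 za31) (ka xa23 ya54 za10) (ka xa18 ya19 za60) (ka xa31 ya7 za26) (ka xa19 ya59 za38) (ka xa24 ya57 za42) (ka xa15 ya6 za42) (ka xa17 ya45 za2) (ka xa25 ya44 za19) (ka xa17 ya43 za27)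 (ka xa26 ya10 za48) (ka xa15 ya6 za50) (ka xa15 ya6 za51) (ka xa17 ya43 za41) (ka xa27 ya26 za61) (ka xa15 ya6 za54) (ka xa16 ya14 za58) (ka xa29 ya25 za11) (ka xa15 ya6 za55) (ka xa21 ya37 za30) (ka xa17 ya43 za59) (ka xa15 ya6 za53) (ka xa25 ya1 za40) (ka xa29 ya57 za49)) (@D3.rec (fun _ => Pt) (ka xa25 ya45 za25) (ka xa30 ya3 za29) (ka xa31 ya42 za41) (ka xa31 ya42 za42) (ka xa15 ya6 za60) (ka xa15 ya6 za61) (ka xa24 ya54 za2) (ka xa31 ya15 za33) (ka xa24 ya53 za61) (ka xa24 ya54 za0) (ka xa24 ya53 za47) (ka xa24 ya53 za46) (ka xa31 ya42 za46) (ka xa31 ya42 za47) (ka xa31 ya42 za48) (ka xa31 ya14 za26) (ka xa27 ya29 za3) (ka xa17 ya44 za42) (ka xa15 ya7 za19) (ka xa17 ya44 za45) (ka xa17 ya44 za46) (ka xa15 ya7 za28) (ka xa15 ya7 za32) (ka xa15 ya7 za8) (ka xa16 ya21 za39) (ka xa30 ya45 za60) (ka xa28 ya43 za61) (ka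 xa27 ya29 za1) (ka xa27 ya25 za24) (ka xa28 ya25 za53) (ka xa16 ya20 za49) (ka xa19 ya0 za49) (ka xa26 ya18 za38) (ka xa30 ya24 za54) (ka xa27 ya40 za19) (ka xa15 ya7 za20) (ka xa15 ya7 za21) (ka xa15 ya7 za22) (ka xa15 ya7 za24) (ka xa26 ya16 za31) (ka xa15 ya7 za26) (ka xa15 ya7 za27) (ka xa15 ya7 za29) (ka xa15 ya7 za30) (ka xa15 ya7 za31) (ka xa20 ya0 za4) (ka xa26 ya13 za17) (ka xa30 ya45 za40) (ka xa17 ya44 za44) (ka xa31 ya42 za59) (ka xa24 ya18 za28) (ka xa16 ya19 za41) (ka xa27 ya41 za52) (ka xa31 ya38 za37) (ka xa27 ya28 za17) (ka xa21 ya37 za12) (ka xa16 ya20 za30) (ka xa15 ya13 za19) (ka xa27 ya40 za12) (ka xa27 ya47 za20) (ka xa26 ya19 za52) (ka xa26 ya19 za53)) (@D3.rec (fun _ => Pt) (ka xa17 ya39 za54) (ka xa31 ya43 za4) (ka xa30 ya25 za6) (ka xa17 ya44 za31) (ka xa15 ya7 za25) (ka xa17 ya41 za0) (ka xa31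 ya43 za3) (ka xa27 ya28 za34) (ka xa24 ya56 za10) (ka xa27 ya25 za22) (ka xa24 ya56 za8) (ka xa15 ya14 za22) (ka xa20 ya45 za46) (ka xa26 ya15 za18) (ka xa24 ya46 za54) (ka xa17 ya53 za47) (ka xa26 ya13 za21) (ka xa17 ya44 za35) (ka xa16 ya27 za5) (ka xa16 ya27 za4) (ka xa18 ya28 za34) (ka xa17 ya44 za28) (ka xa17 ya44 za29) (ka xa27 ya37 za28) (ka xa17 ya44 za25) (ka xa17 ya44 za26) (ka xa15 ya7 za37) (ka xa15 ya12 za20) (ka xa18 ya4 za53) (ka xa27 ya45 za46) (ka xa18 ya9 za14) (ka xa24 ya54 za4) (ka xa23 ya6 za11) (ka xa20 ya10 za43) (ka xa24 ya54 za7) (ka xa21 ya11 za60) (ka xa24 ya28 za25) (ka xa24 ya54 za8) (ka xa24 ya54 za9) (ka xa20 ya10 za48) (ka xa24 ya54 za10) (ka xa23 ya6 za9) (ka xa21 ya12 za14) (ka xa21 ya12 za15) (ka xa17 ya15 za29) (ka xa16 ya28 za10) (ka xa16 ya29 za21) (ka xa16 ya29 za23) (ka xa25 ya2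 za36) (ka xa25 ya2 za33) (ka xa25 ya2 za34) (ka xa23 ya2 za26) (ka xa30 ya50 za50) (ka xa15 ya8 za12) (ka xa15 ya8 za13) (ka xa15 ya8 za16) (ka xa16 ya24 za6) (ka xa16 ya24 za45) (ka xa20 ya30 za3) (ka xa20 ya30 za4) (ka xa31 ya32 za47) (ka xa24 ya54 za33)) (@D3.rec (fun _ => Pt) (ka xa29 ya38 za51) (ka xa24 ya47 za54) (ka xa28 ya26 za2) (ka xa19 ya47 za1) (ka xa23 ya32 za40) (ka xa25 ya15 za53) (ka xa27 ya41 za58) (ka xa21 ya32 za42) (ka xa27 ya41 za56) (ka xa27 ya41 za49) (ka xa27 ya41 za50) (ka xa27 ya41 za51) (ka xa26 ya27 za46) (ka xa27 ya41 za53) (ka xa31 ya43 za26) (ka xa27 ya41 za55) (ka xa20 ya35 za56) (ka xa21 ya11 za56) (ka xa18 ya34 za33) (ka xa21 ya11 za58) (ka xa21 ya11 za59) (ka xa15 ya8 za30) (ka xa15 ya8 za32) (ka xa24 ya20 za17) (ka xa30 ya36 za58) (ka xa31 ya43 za28) (ka xa18 ya38 za49) (ka xa25 ya52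 za10) (ka xa25 ya52 za8) (ka xa24 ya54 za22) (ka xa24 ya54 za34) (ka xa31 ya43 za32) (ka xa24 ya54 za36) (ka xa24 ya54 za37) (ka xa15 ya8 za41) (ka xa15 ya8 za42) (ka xa15 ya8 za43) (ka xa31 ya43 za33) (ka xa20 ya10 za55) (ka xa26 ya23 za0) (ka xa18 ya56 za34) (ka xa26 ya13 za32) (ka xa24 ya54 za43) (ka xa23 ya0 za55) (ka xa23 ya7 za38) (ka xa21 ya11 za61) (ka xa21 ya12 za0) (ka xa21 ya12 za1) (ka xa21 ya12 za4) (ka xa21 ya12 za5) (ka xa21 ya12 za6) (ka xa29 ya53 za61) (ka xa15 ya8 za53) (ka xa15 ya16 za26) (ka xa15 ya16 za25) (ka xa15 ya9 za8) (ka xa15 ya9 za4) (ka xa25 ya47 za4) (ka xa22 ya5 za43) (ka xa26 ya3 za43) (ka xa31 ya43 za39) (ka xa15 ya9 za5)) (@D3.rec (fun _ => Pt) (ka xa31 ya43 za45) (ka xa22 ya5 za49) (ka xa31 ya43 za42) (ka xa27 ya44 za18) (ka xa15 ya9 za7) (ka xa22 ya9 za8) (ka xa27 ya24 za36) (ka xa21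 ya47 za3) (ka xa16 ya39 za17) (ka xa15 ya9 za13) (ka xa29 ya3 za55) (ka xa26 ya45 za46) (ka xa19 ya38 za3) (ka xa26 ya44 za35) (ka xa15 ya19 za36) (ka xa15 ya19 za37) (ka xa15 ya19 za38) (ka xa15 ya19 za44) (ka xa15 ya19 za25) (ka xa19 ya49 za14) (ka xa15 ya19 za22) (ka xa15 ya9 za24) (ka xa31 ya43 za52) (ka xa27 ya14 za36) (ka xa25 ya35 za0) (ka xa26 ya44 za36) (ka xa24 ya16 za15) (ka xa15 ya20 za14) (ka xa15 ya54 za40) (ka xa15 ya20 za17) (ka xa15 ya20 za20) (ka xa15 ya20 za32) (ka xa25 ya47 za53) (ka xa25 ya12 za53) (ka xa27 ya35 za42) (ka xa19 ya44 za13) (ka xa15 ya19 za41) (ka xa25 ya13 za2) (ka xa15 ya20 za42) (ka xa15 ya9 za33) (ka xa25 ya11 za19) (ka xa25 ya33 za24) (ka xa25 ya12 za55) (ka xa15 ya20 za28) (ka xa25 ya12 za59) (ka xa15 ya22 za1) (ka xa15 ya22 za9) (ka xa15 ya9 za41) (ka xa25 ya1 za42) (ka xa25 ya1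 za39) (ka xa18 ya6 za38) (ka xa25 ya1 za36) (ka xa31 ya1 za30) (ka xa27 ya56 za14) (ka xa18 ya27 za11) (ka xa24 ya44 za4) (ka xa24 ya44 za5) (ka xa18 ya42 za43) (ka xa25 ya1 za37) (ka xa18 ya27 za31) (ka xa23 ya14 za53) (ka xa19 ya19 za55)) (@D3.rec (fun _ => Pt) (ka xa26 ya14 za49) (ka xa25 ya1 za29) (ka xa25 ya1 za30) (ka xa15 ya9 za59) (ka xa30 ya24 za55) (ka xa31 ya44 za0) (ka xa30 ya23 za31) (ka xa17 ya40 za31) (ka xa18 ya27 za34) (ka xa25 ya16 za4) (ka xa25 ya18 za22) (ka xa26 ya57 za47) (ka xa28 ya0 za52) (ka xa20 ya32 za54) (ka xa18 ya27 za6) (ka xa25 ya1 za53) (ka xa25 ya1 za54) (ka xa25 ya46 za26) (ka xa18 ya27 za7) (ka xa25 ya1 za56) (ka xa23 ya20 za1) (ka xa25 ya46 za15) (ka xa23 ya21 za0) (ka xa29 ya30 za2) (ka xa25 ya1 za57) (ka xa18 ya28 za18) (ka xa22 ya54 za32) (ka xa25 ya46 za17) (ka xa18 ya28 za19) (ka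 xa20 ya29 za34) (ka xa20 ya29 za35) (ka xa20 ya29 za33) (ka xa20 ya29 za36) (ka xa30 ya20 za3) (ka xa21 ya2 za57) (ka xa24 ya44 za23) (ka xa25 ya2 za20) (ka xa25 ya2 za1) (ka xa25 ya2 za3) (ka xa23 ya15 za2) (ka xa15 ya10 za26) (ka xa23 ya17 za53) (ka xa23 ya15 za27) (ka xa25 ya16 za6) (ka xa22 ya52 za22) (ka xa29 ya29 za18) (ka xa22 ya52 za21) (ka xa25 ya2 za5) (ka xa25 ya2 za27) (ka xa25 ya2 za7) (ka xa25 ya2 za8) (ka xa25 ya2 za10) (ka xa18 ya40 za61) (ka xa18 ya41 za3) (ka xa20 ya13 za33) (ka xa26 ya8 za53) (ka xa26 ya9 za0) (ka xa17 ya2 za60) (ka xa31 ya0 za40) (ka xa22 ya56 za3) (ka xa17 ya2 za59) (ka xa22 ya55 za46))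
def f_a_25 : D2 → D3 → Pt := @D2.rec (fun _ => D3 → Pt) (@D3.rec (fun _ => Pt) (ka xa24 ya38 za12) (ka xa18 ya26 za48) (ka xa16 ya17 za42) (ka xa25 ya2 za58) (ka xa25 ya2 za60) (ka xa27 ya58 za50) (ka xa25 ya3 za31) (ka xa15 ya10 za56) (ka xa30 ya57 za35) (ka xa28 ya3 za58) (ka xa19 ya1 za26) (ka xa18 ya26 za37) (ka xa26 ya20 za4) (ka xa27 ya32 za1) (ka xa18 ya26 za29) (ka xa18 ya26 za28) (ka xa27 ya48 za4) (ka xa18 ya27 za16) (ka xa28 ya21 za9) (ka xa15 ya11 za16) (ka xa18 ya27 za4) (ka xa18 ya27 za3) (ka xa30 ya59 za15) (ka xa31 ya44 za17) (ka xa31 ya32 za60) (ka xa18 ya27 za32) (ka xa18 ya27 za25) (ka xa17 ya39 za55) (ka xa17 ya39 za18) (ka xa17 ya39 za53) (ka xa18 ya27 za38) (ka xa18 ya34 za36) (ka xa18 ya36 za54) (ka xa15 ya11 za29) (ka xa18 ya28 za54) (ka xa18 ya28 za55) (ka xa18 ya28 za20) (ka xa18 ya28 za21) (ka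 xa25 ya3 za54) (ka xa18 ya28 za23) (ka xa30 ya31 za51) (ka xa18 ya28 za25) (ka xa18 ya28 za26) (ka xa18 ya28 za27) (ka xa18 ya28 za28) (ka xa18 ya28 za33) (ka xa25 ya46 za51) (ka xa27 ya45 za37) (ka xa18 ya28 za2) (ka xa15 ya11 za44) (ka xa18 ya29 za8) (ka xa18 ya29 za0) (ka xa18 ya29 za1) (ka xa18 ya29 za2) (ka xa18 ya29 za31) (ka xa18 ya28 za57) (ka xa18 ya28 za58) (ka xa18 ya28 za53) (ka xa21 ya4 za29) (ka xa26 ya13 za28) (ka xa15 ya12 za9) (ka xa18 ya28 za56)) (@D3.rec (fun _ => Pt) (ka xa28 ya31 za60) (ka xa27 ya26 za27) (ka xa27 ya47 za5) (ka xa27 ya28 za36) (ka xa28 ya27 za34) (ka xa15 ya12 za12) (ka xa18 ya36 za55) (ka xa18 ya28 za29) (ka xa26 ya13 za29) (ka xa15 ya12 za14) (ka xa15 ya12 za11) (ka xa30 ya25 za4) (ka xa31 ya44 za35) (ka xa18 ya28 za51) (ka xa16 ya15 za12) (ka xa27 ya28 za2) (ka xa15 ya12 za19) (ka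 xa15 ya12 za21) (ka xa15 ya14 za16) (ka xa31 ya36 za23) (ka xa15 ya12 za23) (ka xa31 ya12 za0) (ka xa17 ya41 za13) (ka xa18 ya30 za2) (ka xa18 ya30 za3) (ka xa18 ya30 za4) (ka xa18 ya30 za9) (ka xa18 ya30 za19) (ka xa18 ya40 za28) (ka xa24 ya59 za1) (ka xa24 ya59 za2) (ka xa16 ya16 za49) (ka xa15 ya12 za35) (ka xa27 ya47 za36) (ka xa30 ya23 za23) (ka xa22 ya15 za43) (ka xa24 ya58 za51) (ka xa24 ya58 za58) (ka xa29 ya48 za1) (ka xa24 ya58 za49) (ka xa24 ya54 za60) (ka xa30 ya59 za54) (ka xa24 ya58 za48) (ka xa15 ya12 za45) (ka xa28 ya4 za30) (ka xa31 ya32 za55) (ka xa27 ya27 za11) (ka xa31 ya44 za45) (ka xa17 ya36 za45) (ka xa16 ya12 za0) (ka xa16 ya11 za61) (ka xa23 ya19 za54) (ka xa26 ya26 za33) (ka xa24 ya59 za15) (ka xa24 ya59 za16) (ka xa24 ya48 za14) (ka xa24 ya59 za19) (ka xa24 ya59 za24) (ka xa29 ya5 za57) (ka xa20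 ya32 za3) (ka xa23 ya15 za12) (ka xa28 ya10 za48)) (@D3.rec (fun _ => Pt) (ka xa24 ya28 za29) (ka xa24 ya59 za37) (ka xa27 ya57 za32) (ka xa24 ya59 za38) (ka xa27 ya57 za25) (ka xa24 ya59 za47) (ka xa16 ya25 za47) (ka xa24 ya59 za49) (ka xa24 ya59 za50) (ka xa20 ya29 za38) (ka xa24 ya59 za51) (ka xa27 ya13 za24) (ka xa15 ya13 za18) (ka xa15 ya26 za23) (ka xa25 ya46 za13) (ka xa16 ya21 za49) (ka xa31 ya44 za57) (ka xa30 ya0 za32) (ka xa30 ya13 za6) (ka xa15 ya13 za24) (ka xa24 ya59 za36) (ka xa31 ya43 za8) (ka xa15 ya13 za25) (ka xa27 ya57 za48) (ka xa26 ya8 za51) (ka xa21 ya55 za44) (ka xa26 ya8 za32) (ka xa24 ya59 za48) (ka xa31 ya44 za55) (ka xa15 ya13 za32) (ka xa30 ya2 za2) (ka xa15 ya13 za35) (ka xa15 ya13 za40) (ka xa24 ya56 za49) (ka xa24 ya56 za50) (ka xa26 ya25 za8) (ka xa24 ya56 za48) (ka xa19 ya40 za4) (ka xa18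 ya37 za60) (ka xa24 ya44 za1) (ka xa24 ya43 za60) (ka xa23 ya32 za29) (ka xa21 ya56 za25) (ka xa21 ya15 za40) (ka xa23 ya32 za35) (ka xa26 ya7 za41) (ka xa26 ya7 za39) (ka xa15 ya23 za33) (ka xa15 ya23 za32) (ka xa23 ya15 za0) (ka xa23 ya14 za60) (ka xa23 ya15 za33) (ka xa23 ya18 za16) (ka xa23 ya18 za2) (ka xa18 ya29 za47) (ka xa18 ya29 za48) (ka xa30 ya1 za7) (ka xa18 ya29 za45) (ka xa25 ya0 za3) (ka xa17 ya46 za36) (ka xa25 ya0 za4) (ka xa15 ya14 za18)) (@D3.rec (fun _ => Pt) (ka xa23 ya18 za46) (ka xa15 ya13 za60) (ka xa31 ya45 za7) (ka xa30 ya49 za24) (ka xa31 ya45 za8) (ka xa23 ya32 za47) (ka xa23 ya14 za24) (ka xa23 ya14 za23) (ka xa23 ya18 za1) (ka xa23 ya32 za45) (ka xa21 ya12 za38) (ka xa18 ya49 za39) (ka xa23 ya18 za5) (ka xa21 ya12 za47) (ka xa25 ya3 za48) (ka xa15 ya14 za15) (ka xa18 ya28 za3) (ka xa18 ya29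 za56) (ka xa30 ya44 za20) (ka xa15 ya14 za19) (ka xa18 ya28 za22) (ka xa27 ya45 za47) (ka xa15 ya14 za20) (ka xa18 ya58 za28) (ka xa27 ya48 za52) (ka xa18 ya28 za48) (ka xa16 ya19 za12) (ka xa27 ya40 za14) (ka xa23 ya32 za44) (ka xa23 ya14 za32) (ka xa30 ya59 za12) (ka xa25 ya0 za6) (ka xa18 ya28 za59) (ka xa18 ya28 za60) (ka xa17 ya47 za25) (ka xa25 ya4 za2) (ka xa25 ya4 za3) (ka xa18 ya4 za27) (ka xa15 ya14 za30) (ka xa26 ya12 za29) (ka xa18 ya5 za20) (ka xa17 ya47 za39) (ka xa27 ya31 za29) (ka xa18 ya16 za33) (ka xa18 ya16 za48) (ka xa18 ya16 za55) (ka xa19 ya0 za45) (ka xa19 ya0 za46) (ka xa25 ya3 za14) (ka xa15 ya14 za47) (ka xa28 ya3 za11) (ka xa28 ya3 za34) (ka xa31 ya39 za30) (ka xa26 ya30 za36) (ka xa25 ya0 za38) (ka xa28 ya10 za10) (ka xa28 ya10 za11) (ka xa22 ya18 za54) (ka xa23 ya43 za10) (ka xa25 ya16 za21)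 (ka xa28 ya3 za53) (ka xa25 ya16 za19)) (@D3.rec (fun _ => Pt) (ka xa31 ya6 za24) (ka xa23 ya37 za47) (ka xa25 ya3 za35) (ka xa25 ya3 za36) (ka xa19 ya35 za5) (ka xa15 ya15 za1) (ka xa30 ya1 za50) (ka xa16 ya19 za1) (ka xa27 ya35 za59) (ka xa19 ya35 za17) (ka xa28 ya7 za57) (ka xa19 ya35 za13) (ka xa15 ya15 za8) (ka xa19 ya35 za20) (ka xa29 ya9 za28) (ka xa19 ya44 za22) (ka xa19 ya44 za23) (ka xa27 ya22 za25) (ka xa19 ya44 za20) (ka xa15 ya15 za14) (ka xa24 ya11 za58) (ka xa22 ya21 za6) (ka xa30 ya9 za49) (ka xa16 ya45 za40) (ka xa25 ya10 za32) (ka xa16 ya45 za43) (ka xa26 ya36 za55) (ka xa16 ya45 za45) (ka xa20 ya50 za28) (ka xa16 ya45 za51) (ka xa16 ya45 za52) (ka xa31 ya45 za29) (ka xa16 ya45 za57) (ka xa19 ya40 za52) (ka xa26 ya37 za38) (ka xa25 ya26 za32) (ka xa25 ya26 za35) (ka xa26 ya39 za18) (ka xa24 ya14 za14)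 (ka xa15 ya15 za28) (ka xa15 ya15 za29) (ka xa25 ya29 za6) (ka xa25 ya29 za2) (ka xa31 ya25 za17) (ka xa27 ya44 za5) (ka xa31 ya39 za51) (ka xa31 ya39 za54) (ka xa27 ya44 za6) (ka xa31 ya9 za53) (ka xa22 ya52 za35) (ka xa28 ya19 za18) (ka xa26 ya54 za61) (ka xa27 ya43 za58) (ka xa26 ya35 za27) (ka xa28 ya16 za2) (ka xa16 ya26 za59) (ka xa16 ya45 za61) (ka xa19 ya19 za45) (ka xa19 ya19 za47) (ka xa31 ya9 za57) (ka xa28 ya19 za23) (ka xa22 ya53 za56)) (@D3.rec (fun _ => Pt) (ka xa21 ya27 za23) (ka xa28 ya19 za24) (ka xa20 ya59 za22) (ka xa20 ya59 za20) (ka xa28 ya19 za25) (ka xa15 ya15 za52) (ka xa27 ya44 za35) (ka xa15 ya15 za43) (ka xa15 ya54 za15) (ka xa15 ya54 za18) (ka xa15 ya54 za19) (ka xa26 ya18 za22) (ka xa22 ya52 za23) (ka xa16 ya45 za50) (ka xa31 ya22 za13) (ka xa15 ya15 za48) (ka xa19 ya40 za55) (ka xa15 ya15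 za45) (ka xa18 ya44 za4) (ka xa28 ya50 za48) (ka xa23 ya12 za33) (ka xa20 ya4 za20) (ka xa29 ya6 za46) (ka xa19 ya44 za48) (ka xa31 ya27 za50) (ka xa19 ya46 za16) (ka xa24 ya9 za43) (ka xa30 ya46 za20) (ka xa25 ya49 za61) (ka xa25 ya24 za55) (ka xa25 ya24 za54) (ka xa31 ya28 za54) (ka xa15 ya15 za53) (ka xa31 ya45 za51) (ka xa31 ya45 za52) (ka xa28 ya19 za35) (ka xa28 ya19 za36) (ka xa28 ya19 za37) (ka xa15 ya15 za55) (ka xa29 ya48 za49) (ka xa28 ya19 za41) (ka xa28 ya19 za42) (ka xa28 ya19 za43) (ka xa15 ya34 za34) (ka xa15 ya34 za33) (ka xa15 ya15 za57) (ka xa16 ya27 za26) (ka xa28 ya19 za44) (ka xa25 ya43 za35) (ka xa15 ya37 za13) (ka xa15 ya40 za60) (ka xa19 ya34 za54) (ka xa29 ya5 za38) (ka xa19 ya34 za57) (ka xa19 ya34 za58) (ka xa19 ya34 za59) (ka xa19 ya34 za60) (ka xa19 ya34 za61) (ka xa29 ya50 za9) (ka xa16 ya49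 za8) (ka xa16 ya49 za10) (ka xa19 ya57 za6)) (@D3.rec (fun _ => Pt) (ka xa19 ya57 za5) (ka xa15 ya16 za8) (ka xa25 ya48 za60) (ka xa19 ya57 za19) (ka xa26 ya6 za28) (ka xa25 ya36 za42) (ka xa25 ya36 za43) (ka xa30 ya9 za16) (ka xa25 ya36 za46) (ka xa15 ya16 za14) (ka xa25 ya56 za11) (ka xa31 ya35 za9) (ka xa25 ya35 za30) (ka xa28 ya59 za24) (ka xa21 ya5 za24) (ka xa28 ya42 za19) (ka xa21 ya2 za4) (ka xa27 ya5 za30) (ka xa28 ya57 za20) (ka xa20 ya55 za52) (ka xa15 ya29 za24) (ka xa25 ya20 za17) (ka xa21 ya2 za6) (ka xa31 ya43 za37) (ka xa31 ya43 za38) (ka xa15 ya16 za29) (ka xa27 ya30 za15) (ka xa21 ya21 za8) (ka xa22 ya10 za38) (ka xa27 ya24 za35) (ka xa27 ya38 za58) (ka xa29 ya12 za31) (ka xa29 ya15 za43) (ka xa21 ya48 za48) (ka xa20 ya2 za55) (ka xa24 ya37 za17) (ka xa26 ya0 za5) (ka xa26 ya0 za0) (ka xa25 ya59 za58)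 (ka xa27 ya24 za19) (ka xa25 ya18 za0) (ka xa31 ya46 za20) (ka xa25 ya18 za3) (ka xa20 ya2 za41) (ka xa27 ya24 za7) (ka xa20 ya2 za39) (ka xa31 ya43 za43) (ka xa25 ya48 za50) (ka xa27 ya20 za27) (ka xa25 ya21 za9) (ka xa21 ya0 za61) (ka xa25 ya23 za31) (ka xa19 ya38 za46) (ka xa15 ya16 za52) (ka xa20 ya29 za17) (ka xa15 ya40 za40) (ka xa22 ya7 za6) (ka xa26 ya23 za18) (ka xa19 ya57 za0) (ka xa31 ya43 za41) (ka xa19 ya57 za23) (ka xa25 ya56 za55)) (@D3.rec (fun _ => Pt) (ka xa19 ya57 za21) (ka xa15 ya34 za29) (ka xa15 ya34 za24) (ka xa25 ya48 za48) (ka xa25 ya48 za53) (ka xa28 ya37 za6) (ka xa25 ya48 za33) (ka xa28 ya34 za47) (ka xa25 ya48 za32) (ka xa25 ya13 za14) (ka xa25 ya48 za46) (ka xa25 ya43 za61) (ka xa19 ya57 za2) (ka xa15 ya37 za57) (ka xa15 ya17 za23) (ka xa25 ya48 za43) (ka xa15 ya17 za10) (ka xa25 ya53 za34)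 (ka xa31 ya46 za41) (ka xa28 ya33 za18) (ka xa28 ya34 za30) (ka xa19 ya57 za22) (ka xa25 ya48 za49) (ka xa25 ya56 za2) (ka xa30 ya16 za54) (ka xa20 ya55 za31) (ka xa27 ya43 za56) (ka xa19 ya57 za1) (ka xa15 ya17 za22) (ka xa25 ya56 za8) (ka xa15 ya35 za58) (ka xa27 ya59 za29) (ka xa25 ya55 za20) (ka xa15 ya21 za43) (ka xa15 ya21 za42) (ka xa21 ya27 za6) (ka xa25 ya22 za59) (ka xa25 ya22 za60) (ka xa25 ya22 za61) (ka xa25 ya23 za0) (ka xa15 ya53 za4) (ka xa15 ya53 za3) (ka xa15 ya17 za26) (ka xa25 ya13 za37) (ka xa15 ya35 za9) (ka xa25 ya7 za46) (ka xa25 ya7 za45) (ka xa25 ya55 za42) (ka xa21 ya46 za22) (ka xa25 ya13 za34) (ka xa25 ya55 za38) (ka xa21 ya46 za23) (ka xa25 ya13 za36) (ka xa16 ya37 za14) (ka xa16 ya37 za13) (ka xa15 ya17 za32) (ka xa16 ya37 za43) (ka xa16 ya37 za42) (ka xa15 ya17 za33) (ka xa22 ya1 za21) (ka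 xa16 ya37 za40) (ka xa15 ya22 za28)) (@D3.rec (fun _ => Pt) (ka xa16 ya38 za45) (ka xa15 ya17 za38) (ka xa15 ya17 za39) (ka xa16 ya38 za49) (ka xa16 ya38 za48) (ka xa27 ya17 za29) (ka xa27 ya16 za22) (ka xa20 ya39 za5) (ka xa31 ya26 za9) (ka xa27 ya16 za23) (ka xa29 ya37 za32) (ka xa27 ya14 za19) (ka xa16 ya38 za5) (ka xa16 ya38 za8) (ka xa16 ya38 za9) (ka xa16 ya38 za10) (ka xa16 ya38 za11) (ka xa20 ya39 za16) (ka xa16 ya38 za19) (ka xa16 ya38 za20) (ka xa15 ya17 za46) (ka xa29 ya59 za10) (ka xa29 ya59 za9) (ka xa31 ya47 za7) (ka xa21 ya48 za49) (ka xa25 ya49 za13) (ka xa19 ya57 za46) (ka xa20 ya3 za15) (ka xa20 ya2 za43) (ka xa20 ya3 za3) (ka xa20 ya3 za4) (ka xa20 ya3 za5) (ka xa19 ya36 za43) (ka xa20 ya2 za59) (ka xa20 ya3 za6) (ka xa19 ya37 za12) (ka xa15 ya17 za56) (ka xa29 ya49 za13) (ka xa31 ya46 za15) (ka xa31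 ya47 za17) (ka xa24 ya36 za53) (ka xa19 ya58 za43) (ka xa20 ya2 za52) (ka xa20 ya2 za53) (ka xa20 ya2 za54) (ka xa26 ya4 za42) (ka xa26 ya4 za41) (ka xa31 ya47 za31) (ka xa26 ya4 za51) (ka xa26 ya4 za52) (ka xa25 ya13 za57) (ka xa16 ya2 za16) (ka xa26 ya4 za54) (ka xa17 ya48 za49) (ka xa26 ya4 za44) (ka xa26 ya4 za45) (ka xa25 ya14 za10) (ka xa26 ya4 za47) (ka xa31 ya35 za3) (ka xa24 ya8 za52) (ka xa22 ya20 za60) (ka xa25 ya14 za32)) (@D3.rec (fun _ => Pt) (ka xa25 ya13 za40) (ka xa29 ya37 za28) (ka xa26 ya17 za54) (ka xa30 ya51 za23) (ka xa19 ya26 za5) (ka xa22 ya52 za26) (ka xa15 ya18 za17) (ka xa31 ya24 za38) (ka xa25 ya49 za25) (ka xa25 ya13 za25) (ka xa30 ya54 za56) (ka xa24 ya34 za25) (ka xa31 ya35 za15) (ka xa27 ya37 za16) (ka xa15 ya22 za57) (ka xa25 ya37 za30) (ka xa25 ya22 za33) (ka xa25 ya37 za29) (ka xa15 ya18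 za35) (ka xa24 ya51 za15) (ka xa26 ya38 za42) (ka xa31 ya47 za45) (ka xa25 ya11 za4) (ka xa28 ya59 za40) (ka xa24 ya52 za0) (ka xa24 ya52 za2) (ka xa24 ya52 za3) (ka xa29 ya13 za10) (ka xa29 ya13 za11) (ka xa29 ya13 za12) (ka xa15 ya20 za4) (ka xa27 ya30 za5) (ka xa27 ya30 za4) (ka xa27 ya30 za11) (ka xa27 ya30 za12) (ka xa27 ya30 za14) (ka xa26 ya46 za47) (ka xa27 ya30 za6) (ka xa27 ya30 za7) (ka xa25 ya13 za59) (ka xa27 ya30 za8) (ka xa27 ya30 za9) (ka xa28 ya59 za37) (ka xa28 ya59 za38) (ka xa28 ya59 za21) (ka xa28 ya59 za39) (ka xa30 ya55 za53) (ka xa28 ya58 za46) (ka xa19 ya54 za28) (ka xa26 ya5 za9) (ka xa25 ya12 za30) (ka xa20 ya3 za29) (ka xa20 ya3 za30) (ka xa20 ya3 za31) (ka xa20 ya3 za32) (ka xa27 ya3 za60) (ka xa17 ya40 za15) (ka xa15 ya18 za57) (ka xa29 ya5 za24) (ka xa20 ya3 za36) (ka xa20 ya3 za37) (ka xa21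 ya23 za27)) (@D3.rec (fun _ => Pt) (ka xa21 ya22 za32) (ka xa15 ya19 za0) (ka xa26 ya5 za14) (ka xa23 ya36 za36) (ka xa16 ya39 za25) (ka xa15 ya19 za7) (ka xa28 ya20 za47) (ka xa16 ya39 za24) (ka xa16 ya39 za51) (ka xa15 ya20 za31) (ka xa16 ya40 za4) (ka xa15 ya19 za12) (ka xa15 ya19 za13) (ka xa29 ya5 za36) (ka xa31 ya45 za38) (ka xa19 ya5 za9) (ka xa16 ya39 za44) (ka xa16 ya39 za45) (ka xa16 ya48 za8) (ka xa16 ya39 za49) (ka xa16 ya39 za50) (ka xa16 ya39 za54) (ka xa19 ya49 za15) (ka xa25 ya12 za10) (ka xa16 ya40 za49) (ka xa31 ya43 za51) (ka xa29 ya56 za14) (ka xa15 ya19 za24) (ka xa31 ya43 za50) (ka xa25 ya51 za0) (ka xa15 ya19 za30) (ka xa31 ya48 za9) (ka xa25 ya4 za24) (ka xa16 ya4 za0) (ka xa15 ya54 za29) (ka xa15 ya19 za32) (ka xa31 ya48 za10) (ka xa31 ya48 za11) (ka xa31 ya48 za13) (ka xa15 ya42 za15) (ka xa19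 ya37 za0) (ka xa31 ya48 za16) (ka xa24 ya21 za15) (ka xa25 ya49 za52) (ka xa25 ya49 za55) (ka xa19 ya17 za17) (ka xa25 ya49 za47) (ka xa25 ya49 za48) (ka xa27 ya30 za45) (ka xa19 ya42 za10) (ka xa15 ya21 za13) (ka xa15 ya19 za46) (ka xa30 ya7 za50) (ka xa25 ya49 za49) (ka xa25 ya49 za50) (ka xa25 ya23 za1) (ka xa26 ya15 za30) (ka xa27 ya31 za45) (ka xa15 ya19 za52) (ka xa31 ya48 za19) (ka xa24 ya51 za16) (ka xa15 ya19 za60)) (@D3.rec (fun _ => Pt) (ka xa15 ya19 za61) (ka xa24 ya51 za20) (ka xa24 ya51 za19) (ka xa26 ya37 za8) (ka xa25 ya9 za22) (ka xa31 ya45 za57) (ka xa28 ya45 za32) (ka xa31 ya48 za21) (ka xa28 ya59 za29) (ka xa24 ya34 za5) (ka xa24 ya51 za43) (ka xa24 ya51 za44) (ka xa24 ya51 za45) (ka xa29 ya58 za53) (ka xa24 ya51 za10) (ka xa24 ya51 za11) (ka xa24 ya51 za46) (ka xa16 ya5 za38) (ka xa29 ya6 za50) (ka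 xa24 ya58 za40) (ka xa31 ya40 za48) (ka xa26 ya45 za41) (ka xa29 ya6 za51) (ka xa29 ya6 za52) (ka xa29 ya4 za30) (ka xa28 ya59 za32) (ka xa27 ya24 za5) (ka xa15 ya54 za42) (ka xa15 ya20 za13) (ka xa24 ya28 za47) (ka xa31 ya48 za32) (ka xa29 ya27 za37) (ka xa24 ya26 za4) (ka xa15 ya20 za16) (ka xa31 ya48 za37) (ka xa26 ya24 za12) (ka xa28 ya23 za40) (ka xa31 ya48 za39) (ka xa31 ya23 za39) (ka xa19 ya24 za43) (ka xa15 ya20 za21) (ka xa31 ya23 za40) (ka xa17 ya53 za6) (ka xa17 ya53 za7) (ka xa31 ya43 za57) (ka xa25 ya50 za2) (ka xa25 ya50 za3) (ka xa17 ya53 za9) (ka xa15 ya20 za57) (ka xa15 ya20 za36) (ka xa28 ya41 za55) (ka xa31 ya26 za54) (ka xa28 ya48 za33) (ka xa31 ya20 za52) (ka xa25 ya49 za53) (ka xa28 ya59 za59) (ka xa20 ya59 za26) (ka xa19 ya53 za57) (ka xa24 ya29 za19) (ka xa28 ya45 za6) (ka xa15 ya21 za53) (ka xa19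 ya38 za37)) (@D3.rec (fun _ => Pt) (ka xa26 ya39 za34) (ka xa25 ya49 za33) (ka xa31 ya29 za38) (ka xa29 ya37 za23) (ka xa25 ya33 za12) (ka xa26 ya54 za55) (ka xa24 ya8 za22) (ka xa21 ya29 za19) (ka xa25 ya50 za6) (ka xa15 ya21 za44) (ka xa25 ya10 za23) (ka xa15 ya21 za6) (ka xa15 ya21 za7) (ka xa15 ya21 za1) (ka xa28 ya57 za33) (ka xa28 ya19 za27) (ka xa24 ya27 za43) (ka xa28 ya16 za1) (ka xa16 ya45 za30) (ka xa19 ya45 za8) (ka xa25 ya57 za3) (ka xa19 ya45 za18) (ka xa16 ya28 za41) (ka xa16 ya28 za40) (ka xa15 ya21 za21) (ka xa29 ya22 za28) (ka xa31 ya27 za4) (ka xa28 ya36 za38) (ka xa19 ya22 za47) (ka xa25 ya49 za51) (ka xa25 ya9 za50) (ka xa19 ya31 za26) (ka xa15 ya21 za18) (ka xa15 ya21 za19) (ka xa19 ya44 za53) (ka xa26 ya33 za54) (ka xa26 ya33 za55) (ka xa15 ya53 za10) (ka xa29 ya0 za5) (ka xa19 ya49 za44) (ka xa31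 ya48 za54) (ka xa25 ya43 za23) (ka xa28 ya16 za3) (ka xa22 ya54 za1) (ka xa15 ya53 za18) (ka xa29 ya16 za14) (ka xa24 ya12 za27) (ka xa25 ya50 za1) (ka xa15 ya21 za38) (ka xa15 ya21 za39) (ka xa15 ya21 za40) (ka xa15 ya21 za41) (ka xa29 ya6 za59) (ka xa24 ya58 za33) (ka xa17 ya48 za37) (ka xa24 ya58 za42) (ka xa24 ya18 za3) (ka xa15 ya54 za5) (ka xa22 ya52 za36) (ka xa24 ya58 za44) (ka xa15 ya21 za33) (ka xa31 ya41 za48)) (@D3.rec (fun _ => Pt) (ka xa16 ya14 za4) (ka xa15 ya53 za56) (ka xa24 ya58 za37) (ka xa21 ya22 za37) (ka xa17 ya29 za35) (ka xa28 ya42 za37) (ka xa15 ya38 za16) (ka xa21 ya48 za4) (ka xa21 ya48 za3) (ka xa17 ya29 za9) (ka xa30 ya9 za50) (ka xa30 ya55 za19) (ka xa27 ya11 za26) (ka xa30 ya8 za60) (ka xa25 ya7 za9) (ka xa15 ya21 za45) (ka xa15 ya38 za3) (ka xa30 ya51 za25) (ka xa25 ya13 za26) (ka xa25 ya13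 za27) (ka xa25 ya13 za28) (ka xa25 ya13 za31) (ka xa25 ya13 za32) (ka xa25 ya33 za13) (ka xa27 ya43 za61) (ka xa25 ya9 za9) (ka xa25 ya13 za18) (ka xa25 ya13 za19) (ka xa25 ya13 za20) (ka xa24 ya34 za23) (ka xa31 ya48 za46) (ka xa25 ya13 za21) (ka xa25 ya13 za22) (ka xa30 ya4 za23) (ka xa25 ya7 za49) (ka xa15 ya58 za33) (ka xa25 ya7 za52) (ka xa25 ya7 za43) (ka xa30 ya14 za27) (ka xa27 ya19 za46) (ka xa25 ya9 za0) (ka xa20 ya2 za25) (ka xa21 ya1 za59) (ka xa25 ya33 za49) (ka xa24 ya52 za16) (ka xa19 ya59 za29) (ka xa25 ya51 za16) (ka xa25 ya51 za17) (ka xa20 ya3 za49) (ka xa19 ya28 za47) (ka xa20 ya2 za13) (ka xa19 ya33 za29) (ka xa15 ya22 za13) (ka xa31 ya49 za11) (ka xa31 ya49 za12) (ka xa31 ya49 za13) (ka xa31 ya49 za14) (ka xa25 ya8 za50) (ka xa20 ya2 za36) (ka xa25 ya9 za39) (ka xa20 ya2 za38) (ka xa20 ya2 za40))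 (@D3.rec (fun _ => Pt) (ka xa17 ya39 za33) (ka xa15 ya54 za38) (ka xa15 ya54 za39) (ka xa15 ya54 za25) (ka xa15 ya54 za26) (ka xa15 ya22 za24) (ka xa29 ya12 za44) (ka xa29 ya59 za18) (ka xa31 ya49 za23) (ka xa31 ya49 za24) (ka xa25 ya8 za56) (ka xa20 ya2 za22) (ka xa20 ya2 za24) (ka xa20 ya2 za26) (ka xa20 ya2 za27) (ka xa20 ya2 za58) (ka xa31 ya46 za54) (ka xa19 ya32 za24) (ka xa20 ya3 za16) (ka xa15 ya22 za30) (ka xa31 ya49 za31) (ka xa19 ya32 za42) (ka xa20 ya3 za10) (ka xa20 ya3 za11) (ka xa31 ya17 za35) (ka xa17 ya58 za40) (ka xa17 ya59 za4) (ka xa26 ya23 za17) (ka xa25 ya49 za26) (ka xa15 ya22 za40) (ka xa29 ya42 za18) (ka xa29 ya57 za10) (ka xa25 ya8 za61) (ka xa18 ya42 za37) (ka xa18 ya42 za41) (ka xa25 ya23 za10) (ka xa29 ya51 za38) (ka xa26 ya8 za41) (ka xa19 ya54 za13) (ka xa19 ya54 za14) (ka xa28 ya36 za48)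 (ka xa19 ya54 za10) (ka xa19 ya54 za11) (ka xa21 ya8 za37) (ka xa16 ya50 za43) (ka xa16 ya50 za47) (ka xa19 ya38 za30) (ka xa31 ya47 za42) (ka xa28 ya29 za37) (ka xa25 ya49 za20) (ka xa24 ya23 za18) (ka xa17 ya35 za56) (ka xa25 ya49 za21) (ka xa25 ya49 za22) (ka xa15 ya22 za60) (ka xa25 ya50 za26) (ka xa31 ya49 za44) (ka xa23 ya46 za23) (ka xa25 ya49 za12) (ka xa20 ya2 za42) (ka xa25 ya49 za14) (ka xa25 ya49 za15)) (@D3.rec (fun _ => Pt) (ka xa15 ya23 za2) (ka xa15 ya23 za3) (ka xa15 ya23 za4) (ka xa19 ya38 za27) (ka xa28 ya41 za10) (ka xa31 ya49 za51) (ka xa30 ya17 za54) (ka xa31 ya49 za53) (ka xa29 ya59 za44) (ka xa29 ya5 za28) (ka xa27 ya42 za42) (ka xa15 ya36 za46) (ka xa19 ya40 za15) (ka xa19 ya36 za16) (ka xa19 ya39 za12) (ka xa20 ya3 za40) (ka xa20 ya3 za41) (ka xa20 ya3 za42) (ka xa20 ya3 za43) (ka xa19 ya24 za56)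 (ka xa16 ya22 za9) (ka xa20 ya3 za53) (ka xa15 ya23 za12) (ka xa31 ya49 za55) (ka xa31 ya49 za56) (ka xa20 ya3 za50) (ka xa20 ya3 za51) (ka xa17 ya39 za28) (ka xa15 ya23 za16) (ka xa21 ya50 za55) (ka xa20 ya3 za56) (ka xa20 ya3 za57) (ka xa25 ya20 za37) (ka xa31 ya38 za34) (ka xa20 ya3 za59) (ka xa20 ya3 za60) (ka xa21 ya58 za21) (ka xa20 ya4 za0) (ka xa18 ya5 za10) (ka xa20 ya4 za9) (ka xa20 ya4 za10) (ka xa17 ya40 za13) (ka xa25 ya44 za57) (ka xa26 ya12 za22) (ka xa26 ya12 za23) (ka xa26 ya12 za27) (ka xa15 ya23 za29) (ka xa20 ya4 za16) (ka xa20 ya4 za17) (ka xa20 ya4 za18) (ka xa27 ya30 za60) (ka xa31 ya43 za10) (ka xa31 ya43 za59) (ka xa24 ya57 za5) (ka xa23 ya33 za43) (ka xa31 ya45 za3) (ka xa26 ya12 za48) (ka xa26 ya12 za26) (ka xa19 ya59 za39) (ka xa22 ya31 za38) (ka xa28 ya0 za46) (ka xa23 ya32 za37)) (@D3.rec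 (fun _ => Pt) (ka xa24 ya29 za8) (ka xa29 ya30 za3) (ka xa27 ya57 za35) (ka xa27 ya57 za36) (ka xa24 ya59 za9) (ka xa27 ya57 za38) (ka xa24 ya59 za43) (ka xa20 ya32 za53) (ka xa17 ya1 za22) (ka xa20 ya32 za20) (ka xa29 ya28 za50) (ka xa26 ya56 za15) (ka xa26 ya31 za17) (ka xa23 ya58 za6) (ka xa15 ya26 za60) (ka xa18 ya41 za2) (ka xa29 ya49 za59) (ka xa20 ya32 za40) (ka xa27 ya50 za32) (ka xa25 ya3 za61) (ka xa31 ya11 za40) (ka xa25 ya3 za59) (ka xa15 ya23 za55) (ka xa31 ya45 za1) (ka xa23 ya17 za36) (ka xa25 ya46 za40) (ka xa18 ya42 za38) (ka xa29 ya54 za38) (ka xa29 ya54 za39) (ka xa25 ya46 za42) (ka xa25 ya46 za44) (ka xa25 ya46 za45) (ka xa15 ya38 za31) (ka xa15 ya38 za30) (ka xa15 ya23 za61) (ka xa28 ya19 za9) (ka xa16 ya6 za50) (ka xa17 ya48 za17) (ka xa15 ya38 za36) (ka xa28 ya1 za25) (ka xa21 ya30 za52) (ka xa19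 ya33 za0) (ka xa28 ya32 za43) (ka xa16 ya13 za41) (ka xa20 ya16 za59) (ka xa15 ya36 za35) (ka xa15 ya24 za50) (ka xa26 ya59 za38) (ka xa15 ya25 za4) (ka xa15 ya25 za22) (ka xa16 ya56 za49) (ka xa15 ya25 za53) (ka xa19 ya56 za51) (ka xa26 ya5 za21) (ka xa18 ya19 za12) (ka xa25 ya45 za16) (ka xa18 ya12 za34) (ka xa18 ya12 za33) (ka xa16 ya51 za15) (ka xa18 ya12 za29) (ka xa21 ya52 za6) (ka xa15 ya24 za45)) (@D3.rec (fun _ => Pt) (ka xa29 ya52 za23) (ka xa31 ya50 za6) (ka xa25 ya17 za36) (ka xa30 ya3 za19) (ka xa25 ya17 za29) (ka xa26 ya5 za30) (ka xa29 ya46 za40) (ka xa29 ya46 za38) (ka xa21 ya52 za5) (ka xa22 ya3 za8) (ka xa30 ya12 za22) (ka xa27 ya38 za54) (ka xa17 ya9 za3) (ka xa29 ya39 za27) (ka xa18 ya46 za4) (ka xa18 ya0 za2) (ka xa17 ya50 za17) (ka xa28 ya1 za12) (ka xa26 ya59 za28) (ka xa21 ya42 za23) (ka xa21 ya42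 za22) (ka xa25 ya23 za23) (ka xa15 ya32 za6) (ka xa15 ya32 za5) (ka xa15 ya25 za9) (ka xa17 ya42 za15) (ka xa30 ya18 za18) (ka xa15 ya25 za14) (ka xa15 ya25 za15) (ka xa25 ya17 za4) (ka xa24 ya32 za53) (ka xa26 ya55 za20) (ka xa26 ya59 za27) (ka xa20 ya49 za1) (ka xa26 ya59 za40) (ka xa29 ya22 za9) (ka xa25 ya17 za2) (ka xa21 ya53 za30) (ka xa31 ya34 za38) (ka xa20 ya49 za3) (ka xa20 ya54 za11) (ka xa30 ya52 za52) (ka xa17 ya49 za51) (ka xa17 ya49 za52) (ka xa20 ya53 za39) (ka xa27 ya20 za22) (ka xa25 ya52 za53) (ka xa26 ya21 za57) (ka xa20 ya53 za34) (ka xa20 ya53 za33) (ka xa20 ya19 za58) (ka xa23 ya46 za28) (ka xa21 ya29 za3) (ka xa21 ya35 za40) (ka xa21 ya33 za0) (ka xa29 ya40 za37) (ka xa26 ya59 za22) (ka xa17 ya52 za42) (ka xa17 ya45 za8) (ka xa17 ya52 za39) (ka xa25 ya47 za2) (ka xa25 ya49 za1)) (@D3.rec (fun _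 => Pt) (ka xa25 ya6 za40) (ka xa18 ya6 za58) (ka xa31 ya50 za20) (ka xa25 ya6 za42) (ka xa25 ya21 za6) (ka xa15 ya26 za7) (ka xa16 ya59 za46) (ka xa18 ya32 za36) (ka xa21 ya2 za56) (ka xa21 ya2 za49) (ka xa28 ya0 za40) (ka xa21 ya15 za43) (ka xa27 ya58 za45) (ka xa31 ya2 za36) (ka xa20 ya0 za5) (ka xa30 ya25 za1) (ka xa15 ya26 za34) (ka xa27 ya2 za48) (ka xa17 ya57 za50) (ka xa28 ya13 za55) (ka xa18 ya1 za46) (ka xa26 ya31 za21) (ka xa24 ya59 za10) (ka xa29 ya24 za13) (ka xa28 ya13 za46) (ka xa20 ya30 za20) (ka xa20 ya32 za42) (ka xa15 ya26 za37) (ka xa31 ya15 za52) (ka xa20 ya49 za14) (ka xa29 ya30 za30) (ka xa23 ya58 za4) (ka xa20 ya28 za53) (ka xa15 ya26 za61) (ka xa28 ya13 za11) (ka xa28 ya25 za8) (ka xa20 ya34 za5) (ka xa27 ya1 za29) (ka xa24 ya18 za47) (ka xa27 ya3 za15) (ka xa21 ya53 za21) (ka xa26 ya20 za26) (ka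 xa30 ya39 za16) (ka xa31 ya22 za27) (ka xa24 ya28 za48) (ka xa17 ya21 za11) (ka xa19 ya18 za61) (ka xa24 ya1 za35) (ka xa20 ya33 za52) (ka xa18 ya21 za33) (ka xa20 ya33 za51) (ka xa27 ya42 za18) (ka xa28 ya1 za37) (ka xa15 ya27 za9) (ka xa16 ya0 za8) (ka xa16 ya0 za7) (ka xa15 ya27 za14) (ka xa21 ya59 za8) (ka xa24 ya44 za58) (ka xa24 ya44 za59) (ka xa17 ya55 za51) (ka xa28 ya54 za56)) (@D3.rec (fun _ => Pt) (ka xa20 ya57 za46) (ka xa15 ya27 za24) (ka xa25 ya45 za33) (ka xa21 ya44 za45) (ka xa15 ya28 za18) (ka xa15 ya28 za17) (ka xa15 ya27 za26) (ka xa15 ya28 za6) (ka xa15 ya28 za1) (ka xa15 ya28 za0) (ka xa15 ya27 za28) (ka xa15 ya28 za22) (ka xa15 ya28 za49) (ka xa15 ya28 za48) (ka xa15 ya27 za30) (ka xa31 ya50 za41) (ka xa15 ya28 za37) (ka xa15 ya28 za38) (ka xa15 ya28 za40) (ka xa15 ya28 za41) (ka xa15 ya27 za35) (ka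 xa16 ya13 za7) (ka xa31 ya50 za50) (ka xa15 ya27 za36) (ka xa15 ya29 za14) (ka xa24 ya33 za31) (ka xa20 ya53 za40) (ka xa15 ya27 za38) (ka xa20 ya58 za33) (ka xa25 ya52 za34) (ka xa31 ya50 za52) (ka xa21 ya23 za41) (ka xa15 ya29 za27) (ka xa15 ya29 za28) (ka xa15 ya29 za29) (ka xa15 ya29 za32) (ka xa27 ya23 za44) (ka xa27 ya23 za43) (ka xa16 ya42 za0) (ka xa18 ya27 za21) (ka xa20 ya58 za10) (ka xa25 ya21 za52) (ka xa25 ya21 za36) (ka xa28 ya37 za4) (ka xa28 ya37 za3) (ka xa15 ya27 za56) (ka xa25 ya20 za45) (ka xa24 ya48 za44) (ka xa15 ya27 za59) (ka xa24 ya51 za1) (ka xa25 ya20 za54) (ka xa24 ya50 za23) (ka xa19 ya7 za7) (ka xa24 ya52 za39) (ka xa25 ya19 za61) (ka xa16 ya12 za55) (ka xa29 ya17 za53) (ka xa16 ya6 za23) (ka xa31 ya40 za21) (ka xa31 ya18 za11) (ka xa31 ya19 za41) (ka xa25 ya19 za54)) (@D3.rec (fun _ => Pt)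 (ka xa26 ya9 za50) (ka xa29 ya45 za21) (ka xa29 ya45 za24) (ka xa27 ya38 za20) (ka xa31 ya50 za39) (ka xa29 ya13 za30) (ka xa31 ya51 za4) (ka xa27 ya38 za14) (ka xa24 ya51 za6) (ka xa27 ya38 za19) (ka xa27 ya38 za21) (ka xa26 ya53 za34) (ka xa18 ya52 za24) (ka xa15 ya28 za13) (ka xa16 ya42 za25) (ka xa15 ya28 za15) (ka xa31 ya51 za6) (ka xa25 ya6 za21) (ka xa17 ya32 za32) (ka xa24 ya50 za15) (ka xa27 ya35 za45) (ka xa15 ya28 za21) (ka xa22 ya7 za34) (ka xa29 ya13 za36) (ka xa24 ya1 za25) (ka xa29 ya44 za59) (ka xa29 ya44 za61) (ka xa28 ya51 za50) (ka xa31 ya50 za40) (ka xa31 ya51 za15) (ka xa28 ya51 za35) (ka xa24 ya49 za32) (ka xa29 ya2 za21) (ka xa24 ya4 za34) (ka xa28 ya47 za61) (ka xa27 ya23 za48) (ka xa17 ya44 za58) (ka xa25 ya15 za32) (ka xa15 ya56 za7) (ka xa15 ya56 za6) (ka xa15 ya28 za28) (ka xa31 ya51 za20) (ka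 xa26 ya9 za51) (ka xa19 ya7 za52) (ka xa27 ya37 za10) (ka xa25 ya19 za46) (ka xa19 ya27 za6) (ka xa15 ya28 za34) (ka xa26 ya9 za46) (ka xa28 ya45 za19) (ka xa31 ya51 za24) (ka xa31 ya51 za25) (ka xa31 ya51 za26) (ka xa27 ya37 za9) (ka xa25 ya19 za50) (ka xa29 ya46 za0) (ka xa29 ya46 za2) (ka xa31 ya50 za45) (ka xa31 ya50 za46) (ka xa29 ya13 za35) (ka xa31 ya50 za48) (ka xa31 ya51 za27)) (@D3.rec (fun _ => Pt) (ka xa28 ya49 za7) (ka xa28 ya49 za8) (ka xa31 ya40 za18) (ka xa31 ya50 za49) (ka xa31 ya40 za16) (ka xa29 ya43 za29) (ka xa25 ya18 za4) (ka xa29 ya45 za42) (ka xa18 ya52 za40) (ka xa25 ya6 za49) (ka xa20 ya5 za14) (ka xa15 ya28 za52) (ka xa20 ya26 za35) (ka xa20 ya26 za45) (ka xa29 ya41 za34) (ka xa27 ya37 za11) (ka xa27 ya37 za12) (ka xa27 ya37 za7) (ka xa27 ya37 za13) (ka xa24 ya49 za54) (ka xa27 ya37 za0) (ka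 xa29 ya29 za10) (ka xa24 ya49 za55) (ka xa27 ya37 za6) (ka xa27 ya37 za8) (ka xa17 ya8 za58) (ka xa20 ya1 za49) (ka xa25 ya48 za42) (ka xa28 ya37 za8) (ka xa24 ya52 za8) (ka xa15 ya29 za0) (ka xa31 ya48 za22) (ka xa31 ya52 za6) (ka xa31 ya52 za7) (ka xa31 ya52 za8) (ka xa22 ya7 za41) (ka xa25 ya19 za42) (ka xa28 ya40 za40) (ka xa28 ya40 za41) (ka xa28 ya40 za42) (ka xa28 ya40 za43) (ka xa29 ya45 za43) (ka xa29 ya45 za44) (ka xa29 ya45 za45) (ka xa28 ya37 za9) (ka xa28 ya37 za10) (ka xa28 ya37 za2) (ka xa28 ya37 za11) (ka xa28 ya37 za1) (ka xa19 ya59 za26) (ka xa15 ya29 za20) (ka xa15 ya29 za21) (ka xa25 ya19 za41) (ka xa25 ya53 za3) (ka xa28 ya20 za35) (ka xa28 ya49 za51) (ka xa19 ya25 za53) (ka xa28 ya49 za53) (ka xa20 ya1 za48) (ka xa15 ya29 za13) (ka xa16 ya13 za11) (ka xa31 ya21 za23)) (@D3.rec (fun _ => Pt) (ka xa15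 ya29 za19) (ka xa22 ya7 za40) (ka xa29 ya47 za43) (ka xa30 ya19 za22) (ka xa24 ya51 za25) (ka xa29 ya47 za45) (ka xa30 ya19 za23) (ka xa25 ya31 za50) (ka xa28 ya20 za33) (ka xa19 ya57 za49) (ka xa24 ya48 za57) (ka xa31 ya24 za21) (ka xa19 ya42 za47) (ka xa26 ya41 za9) (ka xa19 ya58 za13) (ka xa29 ya44 za44) (ka xa26 ya34 za19) (ka xa29 ya44 za45) (ka xa19 ya58 za15) (ka xa31 ya45 za61) (ka xa31 ya40 za49) (ka xa28 ya51 za25) (ka xa31 ya46 za0) (ka xa20 ya55 za37) (ka xa20 ya55 za36) (ka xa15 ya29 za25) (ka xa20 ya58 za44) (ka xa16 ya41 za43) (ka xa20 ya58 za43) (ka xa27 ya44 za47) (ka xa29 ya11 za10) (ka xa31 ya40 za51) (ka xa27 ya44 za46) (ka xa25 ya9 za16) (ka xa31 ya50 za57) (ka xa20 ya58 za37) (ka xa19 ya57 za58) (ka xa20 ya58 za36) (ka xa19 ya42 za53) (ka xa31 ya40 za50) (ka xa24 ya52 za12) (ka xa24 ya52 za13) (ka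 xa24 ya52 za17) (ka xa19 ya38 za17) (ka xa17 ya42 za17) (ka xa19 ya59 za33) (ka xa19 ya59 za32) (ka xa21 ya2 za14) (ka xa24 ya23 za7) (ka xa26 ya6 za31) (ka xa21 ya1 za42) (ka xa21 ya1 za41) (ka xa15 ya29 za45) (ka xa21 ya1 za46) (ka xa21 ya1 za45) (ka xa15 ya29 za46) (ka xa31 ya48 za52) (ka xa26 ya0 za10) (ka xa21 ya1 za48) (ka xa25 ya7 za36) (ka xa25 ya7 za37) (ka xa25 ya7 za38)) (@D3.rec (fun _ => Pt) (ka xa25 ya7 za39) (ka xa25 ya10 za55) (ka xa27 ya24 za2) (ka xa27 ya24 za3) (ka xa17 ya34 za36) (ka xa29 ya58 za55) (ka xa18 ya7 za39) (ka xa27 ya21 za17) (ka xa18 ya7 za47) (ka xa21 ya2 za7) (ka xa25 ya14 za35) (ka xa22 ya28 za13) (ka xa26 ya10 za2) (ka xa26 ya6 za35) (ka xa29 ya52 za5) (ka xa26 ya6 za37) (ka xa26 ya6 za38) (ka xa19 ya55 za46) (ka xa19 ya55 za44) (ka xa18 ya52 za36) (ka xa26 ya6 za60) (ka xa26 ya6 za41)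 (ka xa26 ya6 za42) (ka xa25 ya17 za21) (ka xa31 ya53 za10) (ka xa26 ya6 za44) (ka xa25 ya45 za28) (ka xa29 ya46 za59) (ka xa15 ya30 za18) (ka xa21 ya57 za48) (ka xa29 ya46 za60) (ka xa25 ya6 za51) (ka xa27 ya21 za49) (ka xa29 ya23 za32) (ka xa29 ya36 za5) (ka xa31 ya53 za13) (ka xa16 ya58 za46) (ka xa20 ya1 za6) (ka xa19 ya25 za4) (ka xa17 ya11 za49) (ka xa24 ya18 za37) (ka xa30 ya23 za53) (ka xa20 ya23 za45) (ka xa21 ya57 za60) (ka xa29 ya6 za14) (ka xa19 ya42 za50) (ka xa20 ya28 za5) (ka xa20 ya50 za59) (ka xa18 ya25 za43) (ka xa17 ya5 za55) (ka xa18 ya25 za9) (ka xa25 ya25 za33) (ka xa25 ya25 za32) (ka xa15 ya30 za49) (ka xa15 ya30 za53) (ka xa17 ya45 za37) (ka xa18 ya5 za50) (ka xa19 ya42 za15) (ka xa18 ya45 za7) (ka xa26 ya32 za11) (ka xa24 ya48 za28) (ka xa27 ya9 za15)) (@D3.rec (fun _ => Pt) (ka xa28 ya22 za30)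 (ka xa28 ya22 za2) (ka xa28 ya22 za3) (ka xa25 ya26 za42) (ka xa25 ya26 za41) (ka xa29 ya20 za35) (ka xa17 ya11 za40) (ka xa18 ya8 za46) (ka xa25 ya24 za28) (ka xa25 ya25 za44) (ka xa29 ya52 za26) (ka xa25 ya24 za27) (ka xa30 ya47 za32) (ka xa30 ya55 za54) (ka xa20 ya59 za12) (ka xa20 ya59 za13) (ka xa20 ya59 za14) (ka xa19 ya53 za45) (ka xa20 ya59 za18) (ka xa31 ya53 za26) (ka xa31 ya27 za45) (ka xa19 ya53 za43) (ka xa19 ya8 za49) (ka xa25 ya25 za50) (ka xa17 ya33 za52) (ka xa15 ya31 za22) (ka xa15 ya31 za23) (ka xa25 ya24 za11) (ka xa25 ya24 za8) (ka xa31 ya53 za27) (ka xa29 ya3 za35) (ka xa31 ya53 za30) (ka xa15 ya38 za17) (ka xa25 ya51 za30) (ka xa15 ya40 za59) (ka xa19 ya34 za53) (ka xa25 ya26 za13) (ka xa15 ya31 za32) (ka xa17 ya27 za35) (ka xa25 ya56 za45) (ka xa25 ya25 za59) (ka xa21 ya0 za31) (ka xa19 ya46 za40)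 (ka xa15 ya31 za36) (ka xa25 ya26 za0) (ka xa15 ya31 za50) (ka xa26 ya6 za52) (ka xa15 ya31 za44) (ka xa26 ya6 za54) (ka xa25 ya48 za57) (ka xa21 ya0 za26) (ka xa22 ya2 za60) (ka xa30 ya54 za33) (ka xa24 ya13 za46) (ka xa25 ya5 za30) (ka xa25 ya5 za29) (ka xa31 ya45 za31) (ka xa15 ya31 za51) (ka xa31 ya53 za33) (ka xa25 ya26 za38) (ka xa25 ya26 za39) (ka xa16 ya46 za47)) (@D3.rec (fun _ => Pt) (ka xa15 ya31 za53) (ka xa19 ya8 za56) (ka xa30 ya26 za53) (ka xa15 ya46 za34) (ka xa15 ya46 za32) (ka xa16 ya7 za6) (ka xa25 ya25 za38) (ka xa25 ya25 za37) (ka xa15 ya31 za55) (ka xa22 ya24 za43) (ka xa25 ya26 za46) (ka xa25 ya26 za47) (ka xa22 ya7 za8) (ka xa25 ya26 za49) (ka xa18 ya55 za49) (ka xa18 ya55 za52) (ka xa25 ya26 za50) (ka xa25 ya26 za51) (ka xa18 ya39 za50) (ka xa19 ya17 za19) (ka xa22 ya5 za31) (ka xa18 ya52 za43)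 (ka xa29 ya21 za45) (ka xa31 ya34 za39) (ka xa27 ya22 za22) (ka xa15 ya32 za8) (ka xa21 ya52 za7) (ka xa28 ya15 za2) (ka xa30 ya23 za6) (ka xa26 ya10 za23) (ka xa26 ya10 za24) (ka xa23 ya8 za56) (ka xa25 ya23 za52) (ka xa25 ya23 za51) (ka xa15 ya32 za16) (ka xa23 ya11 za49) (ka xa15 ya32 za15) (ka xa25 ya25 za7) (ka xa25 ya25 za6) (ka xa20 ya11 za54) (ka xa18 ya54 za21) (ka xa18 ya30 za20) (ka xa24 ya16 za61) (ka xa31 ya53 za44) (ka xa25 ya24 za9) (ka xa15 ya32 za23) (ka xa22 ya54 za54) (ka xa26 ya25 za36) (ka xa27 ya11 za38) (ka xa31 ya53 za45) (ka xa25 ya24 za23) (ka xa15 ya32 za30) (ka xa17 ya12 za8) (ka xa17 ya12 za0) (ka xa29 ya33 za15) (ka xa19 ya26 za13) (ka xa20 ya50 za25) (ka xa19 ya26 za16) (ka xa17 ya32 za50) (ka xa25 ya24 za40) (ka xa15 ya32 za41) (ka xa15 ya32 za42)) (@D3.rec (fun _ => Pt) (ka xa25 ya24 za44)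 (ka xa30 ya56 za16) (ka xa29 ya48 za41) (ka xa25 ya29 za55) (ka xa31 ya26 za61) (ka xa22 ya54 za38) (ka xa15 ya32 za50) (ka xa24 ya18 za46) (ka xa23 ya55 za45) (ka xa24 ya4 za0) (ka xa15 ya33 za3) (ka xa15 ya32 za57) (ka xa15 ya32 za58) (ka xa25 ya24 za36) (ka xa15 ya32 za55) (ka xa17 ya31 za55) (ka xa17 ya34 za3) (ka xa19 ya31 za35) (ka xa28 ya15 za36) (ka xa15 ya32 za60) (ka xa19 ya46 za29) (ka xa20 ya17 za52) (ka xa28 ya15 za35) (ka xa31 ya53 za49) (ka xa28 ya16 za51) (ka xa31 ya25 za49) (ka xa25 ya31 za45) (ka xa28 ya15 za53) (ka xa27 ya54 za52) (ka xa29 ya27 za42) (ka xa27 ya54 za44) (ka xa31 ya25 za12) (ka xa25 ya4 za35) (ka xa19 ya34 za52) (ka xa19 ya34 za51) (ka xa25 ya4 za36) (ka xa15 ya33 za4) (ka xa31 ya53 za61) (ka xa25 ya24 za59) (ka xa25 ya24 za60) (ka xa25 ya29 za30) (ka xa25 ya24 za4) (ka xa25 ya24 za3)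 (ka xa15 ya33 za8) (ka xa29 ya24 za25) (ka xa22 ya47 za40) (ka xa25 ya25 za10) (ka xa25 ya25 za11) (ka xa15 ya38 za57) (ka xa25 ya25 za13) (ka xa25 ya25 za16) (ka xa25 ya25 za17) (ka xa16 ya13 za42) (ka xa15 ya33 za19) (ka xa15 ya35 za0) (ka xa15 ya35 za4) (ka xa15 ya35 za6) (ka xa15 ya35 za5) (ka xa25 ya40 za37) (ka xa15 ya37 za0) (ka xa15 ya33 za27) (ka xa15 ya37 za3)) (@D3.rec (fun _ => Pt) (ka xa27 ya55 za28) (ka xa31 ya54 za4) (ka xa15 ya35 za52) (ka xa15 ya35 za53) (ka xa21 ya27 za10) (ka xa15 ya35 za55) (ka xa15 ya35 za57) (ka xa15 ya35 za61) (ka xa15 ya36 za0) (ka xa15 ya36 za6) (ka xa15 ya35 za33) (ka xa15 ya35 za35) (ka xa26 ya16 za55) (ka xa15 ya35 za31) (ka xa15 ya33 za39) (ka xa15 ya33 za40) (ka xa15 ya35 za39) (ka xa26 ya3 za46) (ka xa22 ya4 za49) (ka xa22 ya11 za30) (ka xa15 ya37 za12) (ka xa15 ya37 za20)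 (ka xa15 ya37 za21) (ka xa15 ya37 za22) (ka xa25 ya51 za18) (ka xa15 ya37 za24) (ka xa15 ya46 za31) (ka xa15 ya38 za46) (ka xa15 ya33 za49) (ka xa30 ya45 za12) (ka xa29 ya56 za25) (ka xa15 ya38 za11) (ka xa15 ya38 za12) (ka xa25 ya41 za50) (ka xa15 ya38 za14) (ka xa15 ya38 za18) (ka xa15 ya38 za19) (ka xa15 ya38 za20) (ka xa15 ya38 za21) (ka xa15 ya33 za61) (ka xa15 ya34 za0) (ka xa31 ya54 za13) (ka xa31 ya38 za43) (ka xa29 ya0 za25) (ka xa25 ya57 za6) (ka xa30 ya27 za45) (ka xa29 ya50 za44) (ka xa15 ya38 za56) (ka xa15 ya38 za61) (ka xa21 ya39 za27) (ka xa15 ya39 za4) (ka xa27 ya38 za38) (ka xa15 ya39 za50) (ka xa15 ya39 za52) (ka xa15 ya39 za48) (ka xa15 ya34 za11) (ka xa25 ya47 za15) (ka xa25 ya59 za2) (ka xa29 ya37 za49) (ka xa15 ya39 za38) (ka xa15 ya39 za43) (ka xa15 ya39 za44)) (@D3.rec (fun _ => Pt) (ka xa15 ya40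 za22) (ka xa15 ya39 za18) (ka xa15 ya39 za19) (ka xa19 ya48 za34) (ka xa15 ya39 za14) (ka xa15 ya39 za15) (ka xa15 ya39 za16) (ka xa30 ya47 za50) (ka xa25 ya58 za31) (ka xa30 ya6 za8) (ka xa27 ya38 za40) (ka xa15 ya34 za25) (ka xa15 ya34 za26) (ka xa15 ya39 za17) (ka xa15 ya34 za23) (ka xa31 ya54 za17) (ka xa28 ya42 za18) (ka xa25 ya41 za2) (ka xa25 ya56 za52) (ka xa31 ya46 za31) (ka xa29 ya57 za60) (ka xa15 ya39 za36) (ka xa15 ya39 za46) (ka xa27 ya38 za39) (ka xa27 ya38 za37) (ka xa31 ya46 za30) (ka xa29 ya56 za2) (ka xa15 ya34 za35) (ka xa15 ya34 za36) (ka xa26 ya51 za4) (ka xa31 ya38 za36) (ka xa31 ya38 za35) (ka xa31 ya54 za24) (ka xa26 ya24 za47) (ka xa18 ya52 za53) (ka xa26 ya20 za31) (ka xa29 ya50 za26) (ka xa20 ya7 za7) (ka xa26 ya24 za7) (ka xa15 ya34 za37) (ka xa27 ya12 za60) (ka xa15 ya40 za48) (ka xa15 ya40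 za49) (ka xa24 ya23 za5) (ka xa15 ya41 za3) (ka xa17 ya37 za22) (ka xa17 ya37 za21) (ka xa15 ya34 za43) (ka xa27 ya26 za36) (ka xa23 ya34 za52) (ka xa27 ya26 za33) (ka xa15 ya34 za47) (ka xa17 ya40 za19) (ka xa17 ya40 za17) (ka xa17 ya37 za57) (ka xa27 ya26 za8) (ka xa27 ya17 za48) (ka xa27 ya17 za44) (ka xa17 ya41 za11) (ka xa17 ya41 za12) (ka xa17 ya41 za14) (ka xa16 ya50 za3)) (@D3.rec (fun _ => Pt) (ka xa19 ya54 za25) (ka xa26 ya34 za15) (ka xa25 ya4 za42) (ka xa22 ya1 za58) (ka xa25 ya32 za3) (ka xa31 ya40 za40) (ka xa25 ya4 za41) (ka xa31 ya40 za41) (ka xa30 ya54 za44) (ka xa22 ya56 za17) (ka xa15 ya51 za25) (ka xa25 ya38 za4) (ka xa25 ya55 za9) (ka xa27 ya11 za28) (ka xa25 ya55 za43) (ka xa30 ya8 za42) (ka xa21 ya58 za56) (ka xa31 ya54 za9) (ka xa30 ya19 za32) (ka xa25 ya35 za45) (ka xa25 ya54 za53) (ka xa28 ya20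 za31) (ka xa28 ya57 za41) (ka xa31 ya1 za53) (ka xa28 ya20 za30) (ka xa28 ya57 za39) (ka xa15 ya35 za21) (ka xa25 ya32 za51) (ka xa26 ya51 za17) (ka xa16 ya7 za0) (ka xa25 ya26 za40) (ka xa15 ya35 za26) (ka xa15 ya35 za27) (ka xa25 ya32 za54) (ka xa29 ya15 za1) (ka xa25 ya55 za25) (ka xa22 ya1 za56) (ka xa26 ya16 za54) (ka xa25 ya43 za16) (ka xa26 ya16 za56) (ka xa22 ya27 za56) (ka xa27 ya24 za46) (ka xa17 ya39 za10) (ka xa27 ya25 za53) (ka xa25 ya33 za6) (ka xa26 ya1 za3) (ka xa27 ya18 za12) (ka xa30 ya8 za46) (ka xa25 ya54 za56) (ka xa15 ya35 za32) (ka xa15 ya58 za34) (ka xa31 ya54 za41) (ka xa31 ya54 za8) (ka xa31 ya28 za0) (ka xa15 ya57 za32) (ka xa25 ya26 za3) (ka xa19 ya39 za33) (ka xa25 ya53 za32) (ka xa15 ya35 za40) (ka xa15 ya35 za41) (ka xa15 ya35 za42) (ka xa15 ya35 za44)) (@D3.rec (fun _ => Pt) (ka xa15 ya35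 za45) (ka xa31 ya46 za40) (ka xa15 ya57 za57) (ka xa29 ya37 za19) (ka xa29 ya23 za54) (ka xa25 ya48 za47) (ka xa31 ya54 za46) (ka xa31 ya54 za47) (ka xa31 ya54 za48) (ka xa31 ya36 za3) (ka xa21 ya27 za7) (ka xa31 ya54 za49) (ka xa27 ya48 za23) (ka xa30 ya40 za45) (ka xa29 ya56 za55) (ka xa15 ya35 za48) (ka xa31 ya3 za44) (ka xa21 ya27 za24) (ka xa29 ya48 za43) (ka xa30 ya10 za44) (ka xa30 ya47 za10) (ka xa31 ya46 za4) (ka xa31 ya47 za58) (ka xa29 ya51 za5) (ka xa29 ya51 za6) (ka xa25 ya57 za46) (ka xa17 ya10 za23) (ka xa15 ya35 za56) (ka xa31 ya7 za36) (ka xa27 ya18 za16) (ka xa30 ya8 za35) (ka xa25 ya57 za45) (ka xa31 ya54 za6) (ka xa25 ya36 za50) (ka xa31 ya55 za4) (ka xa25 ya57 za49) (ka xa29 ya56 za46) (ka xa25 ya57 za52) (ka xa21 ya49 za27) (ka xa25 ya57 za55) (ka xa25 ya57 za57) (ka xa31 ya55 za8) (ka xa31 ya36 za40)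 (ka xa31 ya54 za7) (ka xa17 ya28 za24) (ka xa31 ya55 za10) (ka xa25 ya57 za54) (ka xa27 ya17 za41) (ka xa18 ya39 za30) (ka xa29 ya5 za11) (ka xa29 ya5 za17) (ka xa31 ya55 za13) (ka xa18 ya47 za31) (ka xa24 ya18 za10) (ka xa30 ya27 za58) (ka xa18 ya47 za33) (ka xa18 ya47 za35) (ka xa19 ya12 za56) (ka xa18 ya46 za40) (ka xa28 ya2 za51) (ka xa18 ya46 za43) (ka xa18 ya47 za28)) (@D3.rec (fun _ => Pt) (ka xa15 ya36 za37) (ka xa17 ya48 za48) (ka xa19 ya31 za40) (ka xa19 ya35 za51) (ka xa27 ya37 za53) (ka xa27 ya37 za54) (ka xa17 ya30 za59) (ka xa22 ya3 za38) (ka xa16 ya48 za51) (ka xa26 ya35 za59) (ka xa20 ya14 za33) (ka xa31 ya50 za10) (ka xa22 ya3 za6) (ka xa31 ya55 za14) (ka xa20 ya12 za31) (ka xa15 ya36 za41) (ka xa31 ya36 za45) (ka xa17 ya50 za13) (ka xa24 ya17 za20) (ka xa16 ya43 za40) (ka xa25 ya33 za37) (ka xa19 ya46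 za25) (ka xa28 ya59 za43) (ka xa19 ya38 za22) (ka xa25 ya39 za49) (ka xa15 ya58 za24) (ka xa15 ya46 za58) (ka xa15 ya36 za54) (ka xa28 ya57 za40) (ka xa15 ya36 za55) (ka xa16 ya3 za54) (ka xa22 ya0 za13) (ka xa17 ya34 za52) (ka xa25 ya34 za9) (ka xa25 ya34 za7) (ka xa25 ya34 za8) (ka xa21 ya58 za55) (ka xa21 ya46 za35) (ka xa15 ya37 za5) (ka xa15 ya37 za9) (ka xa15 ya37 za10) (ka xa23 ya0 za27) (ka xa27 ya14 za60) (ka xa27 ya53 za7) (ka xa27 ya49 za34) (ka xa25 ya26 za26) (ka xa17 ya22 za7) (ka xa21 ya33 za8) (ka xa17 ya28 za60) (ka xa26 ya41 za46) (ka xa25 ya22 za7) (ka xa28 ya48 za32) (ka xa15 ya37 za14) (ka xa31 ya21 za39) (ka xa25 ya41 za53) (ka xa22 ya3 za32) (ka xa25 ya55 za36) (ka xa28 ya58 za2) (ka xa28 ya58 za3) (ka xa28 ya58 za0) (ka xa25 ya55 za37) (ka xa28 ya58 za13)) (@D3.rec (fun _ => Pt) (ka xa28 ya57 za60)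 (ka xa28 ya50 za47) (ka xa28 ya57 za61) (ka xa25 ya29 za4) (ka xa16 ya37 za46) (ka xa30 ya9 za27) (ka xa28 ya49 za0) (ka xa29 ya45 za27) (ka xa29 ya36 za23) (ka xa30 ya10 za22) (ka xa19 ya36 za4) (ka xa25 ya36 za48) (ka xa25 ya55 za7) (ka xa26 ya36 za56) (ka xa27 ya11 za29) (ka xa27 ya11 za30) (ka xa25 ya55 za8) (ka xa19 ya26 za7) (ka xa19 ya29 za6) (ka xa31 ya38 za53) (ka xa19 ya29 za10) (ka xa29 ya22 za26) (ka xa19 ya28 za60) (ka xa19 ya28 za61) (ka xa31 ya39 za7) (ka xa31 ya55 za40) (ka xa15 ya37 za31) (ka xa31 ya30 za53) (ka xa31 ya55 za36) (ka xa19 ya29 za2) (ka xa19 ya29 za3) (ka xa19 ya28 za59) (ka xa19 ya29 za4) (ka xa19 ya29 za23) (ka xa18 ya44 za28) (ka xa16 ya30 za6) (ka xa15 ya37 za37) (ka xa17 ya25 za18) (ka xa17 ya26 za19) (ka xa15 ya39 za13) (ka xa17 ya40 za20) (ka xa17 ya40 za34) (ka xa15 ya37 za42) (ka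 xa17 ya40 za23) (ka xa17 ya39 za11) (ka xa29 ya59 za56) (ka xa27 ya30 za53) (ka xa29 ya59 za55) (ka xa17 ya40 za14) (ka xa19 ya38 za11) (ka xa25 ya54 za24) (ka xa25 ya29 za27) (ka xa27 ya19 za59) (ka xa19 ya6 za0) (ka xa25 ya29 za33) (ka xa15 ya46 za39) (ka xa15 ya46 za51) (ka xa15 ya46 za53) (ka xa15 ya46 za54) (ka xa17 ya37 za58) (ka xa15 ya59 za43) (ka xa27 ya29 za53)) (@D3.rec (fun _ => Pt) (ka xa15 ya38 za1) (ka xa15 ya38 za2) (ka xa15 ya38 za4) (ka xa15 ya38 za5) (ka xa15 ya38 za6) (ka xa20 ya29 za39) (ka xa25 ya29 za44) (ka xa15 ya59 za50) (ka xa31 ya54 za14) (ka xa28 ya54 za59) (ka xa24 ya36 za50) (ka xa24 ya23 za0) (ka xa25 ya12 za4) (ka xa25 ya13 za23) (ka xa25 ya53 za45) (ka xa31 ya55 za56) (ka xa24 ya37 za46) (ka xa24 ya37 za43) (ka xa15 ya38 za7) (ka xa15 ya38 za8) (ka xa30 ya48 za10) (ka xa29 ya4 za43) (ka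 xa29 ya4 za44) (ka xa31 ya49 za1) (ka xa24 ya58 za41) (ka xa29 ya50 za48) (ka xa31 ya45 za56) (ka xa31 ya19 za39) (ka xa31 ya31 za27) (ka xa27 ya19 za60) (ka xa31 ya47 za49) (ka xa31 ya54 za10) (ka xa21 ya39 za30) (ka xa15 ya38 za15) (ka xa28 ya42 za35) (ka xa31 ya56 za1) (ka xa28 ya59 za50) (ka xa25 ya31 za20) (ka xa31 ya47 za9) (ka xa25 ya35 za3) (ka xa25 ya57 za18) (ka xa28 ya42 za8) (ka xa25 ya35 za4) (ka xa31 ya41 za23) (ka xa19 ya38 za48) (ka xa19 ya38 za18) (ka xa19 ya38 za29) (ka xa31 ya54 za12) (ka xa26 ya2 za60) (ka xa25 ya13 za43) (ka xa19 ya32 za28) (ka xa15 ya38 za27) (ka xa19 ya38 za28) (ka xa19 ya38 za35) (ka xa19 ya38 za36) (ka xa16 ya17 za55) (ka xa23 ya23 za51) (ka xa17 ya42 za39) (ka xa27 ya20 za0) (ka xa27 ya51 za8) (ka xa19 ya6 za24) (ka xa23 ya21 za55)) (@D3.rec (fun _ => Pt) (ka xa19 ya6 za22) (ka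 xa15 ya38 za42) (ka xa15 ya46 za23) (ka xa15 ya46 za33) (ka xa15 ya41 za22) (ka xa25 ya47 za6) (ka xa15 ya38 za52) (ka xa25 ya31 za34) (ka xa25 ya31 za35) (ka xa25 ya31 za33) (ka xa27 ya49 za36) (ka xa27 ya49 za35) (ka xa27 ya53 za16) (ka xa22 ya53 za30) (ka xa31 ya23 za29) (ka xa17 ya16 za52) (ka xa22 ya47 za61) (ka xa22 ya53 za55) (ka xa27 ya15 za36) (ka xa30 ya20 za21) (ka xa30 ya20 za22) (ka xa25 ya56 za9) (ka xa19 ya25 za40) (ka xa15 ya46 za41) (ka xa30 ya19 za58) (ka xa30 ya18 za44) (ka xa25 ya57 za26) (ka xa21 ya5 za33) (ka xa30 ya7 za30) (ka xa18 ya45 za52) (ka xa15 ya40 za10) (ka xa23 ya23 za14) (ka xa25 ya42 za12) (ka xa27 ya40 za30) (ka xa24 ya43 za53) (ka xa15 ya41 za7) (ka xa19 ya48 za35) (ka xa31 ya54 za16) (ka xa24 ya10 za17) (ka xa30 ya55 za38) (ka xa15 ya39 za30) (ka xa15 ya39 za31) (ka xa15 ya39 za33)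 (ka xa28 ya42 za44) (ka xa29 ya43 za48) (ka xa21 ya45 za15) (ka xa29 ya51 za7) (ka xa31 ya55 za57) (ka xa30 ya50 za22) (ka xa29 ya34 za36) (ka xa27 ya1 za41) (ka xa25 ya51 za8) (ka xa25 ya54 za13) (ka xa25 ya51 za12) (ka xa28 ya41 za14) (ka xa31 ya53 za32) (ka xa31 ya7 za29) (ka xa28 ya42 za24) (ka xa29 ya41 za12) (ka xa28 ya42 za21) (ka xa17 ya43 za19) (ka xa19 ya26 za3)) (@D3.rec (fun _ => Pt) (ka xa24 ya58 za24) (ka xa29 ya36 za0) (ka xa27 ya46 za51) (ka xa25 ya33 za39) (ka xa25 ya33 za42) (ka xa29 ya36 za15) (ka xa31 ya54 za19) (ka xa26 ya13 za15) (ka xa22 ya52 za54) (ka xa27 ya48 za28) (ka xa27 ya47 za12) (ka xa15 ya41 za11) (ka xa15 ya39 za57) (ka xa15 ya39 za60) (ka xa15 ya40 za0) (ka xa31 ya54 za20) (ka xa28 ya57 za50) (ka xa28 ya57 za51) (ka xa30 ya20 za2) (ka xa25 ya47 za59) (ka xa15 ya51 za37) (ka xa29 ya40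 za55) (ka xa22 ya10 za50) (ka xa29 ya48 za35) (ka xa30 ya19 za35) (ka xa29 ya48 za34) (ka xa29 ya37 za47) (ka xa29 ya37 za46) (ka xa23 ya9 za45) (ka xa17 ya53 za53) (ka xa25 ya6 za12) (ka xa22 ya9 za13) (ka xa15 ya40 za39) (ka xa31 ya35 za46) (ka xa31 ya35 za47) (ka xa15 ya40 za18) (ka xa15 ya40 za19) (ka xa15 ya40 za21) (ka xa30 ya20 za1) (ka xa15 ya40 za15) (ka xa15 ya40 za16) (ka xa28 ya57 za48) (ka xa30 ya46 za17) (ka xa17 ya29 za14) (ka xa17 ya29 za13) (ka xa25 ya29 za19) (ka xa25 ya43 za18) (ka xa16 ya1 za49) (ka xa28 ya21 za5) (ka xa28 ya48 za24) (ka xa17 ya29 za18) (ka xa17 ya28 za53) (ka xa27 ya44 za11) (ka xa15 ya40 za25) (ka xa26 ya11 za44) (ka xa30 ya49 za19) (ka xa16 ya1 za27) (ka xa24 ya8 za46) (ka xa20 ya36 za43) (ka xa16 ya1 za51) (ka xa30 ya20 za4) (ka xa24 ya8 za43)) (@D3.rec (fun _ => Pt) (ka xa25 ya58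 za44) (ka xa15 ya40 za32) (ka xa15 ya40 za36) (ka xa20 ya34 za0) (ka xa15 ya40 za31) (ka xa31 ya56 za27) (ka xa18 ya53 za39) (ka xa15 ya40 za34) (ka xa25 ya56 za41) (ka xa16 ya1 za47) (ka xa19 ya30 za47) (ka xa28 ya19 za33) (ka xa18 ya55 za29) (ka xa15 ya40 za38) (ka xa20 ya43 za56) (ka xa15 ya40 za45) (ka xa31 ya23 za23) (ka xa30 ya19 za50) (ka xa31 ya56 za31) (ka xa29 ya47 za54) (ka xa19 ya45 za42) (ka xa19 ya45 za46) (ka xa29 ya5 za26) (ka xa31 ya54 za27) (ka xa22 ya54 za53) (ka xa24 ya17 za1) (ka xa24 ya17 za0) (ka xa28 ya19 za31) (ka xa28 ya19 za32) (ka xa19 ya39 za10) (ka xa28 ya19 za30) (ka xa18 ya55 za33) (ka xa30 ya55 za37) (ka xa27 ya13 za7) (ka xa19 ya38 za59) (ka xa26 ya44 za27) (ka xa23 ya1 za34) (ka xa30 ya7 za12) (ka xa29 ya22 za8) (ka xa30 ya7 za11) (ka xa17 ya44 za54) (ka xa17 ya44 za55) (ka xa25 ya6 za5)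 (ka xa25 ya6 za6) (ka xa26 ya7 za61) (ka xa31 ya56 za18) (ka xa25 ya6 za8) (ka xa16 ya8 za18) (ka xa25 ya32 za11) (ka xa29 ya48 za48) (ka xa25 ya30 za33) (ka xa26 ya0 za8) (ka xa26 ya0 za11) (ka xa15 ya58 za53) (ka xa25 ya44 za26) (ka xa24 ya44 za38) (ka xa21 ya25 za53) (ka xa21 ya1 za49) (ka xa26 ya0 za9) (ka xa27 ya4 za59) (ka xa20 ya57 za4) (ka xa19 ya5 za51)) (@D3.rec (fun _ => Pt) (ka xa26 ya0 za12) (ka xa26 ya0 za13) (ka xa23 ya43 za39) (ka xa21 ya56 za5) (ka xa26 ya0 za14) (ka xa26 ya1 za13) (ka xa15 ya47 za25) (ka xa15 ya47 za28) (ka xa31 ya7 za33) (ka xa25 ya40 za50) (ka xa15 ya53 za51) (ka xa15 ya42 za46) (ka xa15 ya42 za47) (ka xa15 ya42 za48) (ka xa28 ya19 za5) (ka xa15 ya42 za56) (ka xa15 ya42 za57) (ka xa15 ya42 za58) (ka xa15 ya42 za59) (ka xa15 ya43 za1) (ka xa15 ya43 za3) (ka xa15 ya43 za4) (ka xa15 ya41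 za47) (ka xa29 ya3 za16) (ka xa31 ya56 za53) (ka xa24 ya49 za48) (ka xa24 ya50 za34) (ka xa24 ya49 za31) (ka xa28 ya7 za53) (ka xa25 ya9 za17) (ka xa25 ya9 za15) (ka xa15 ya41 za56) (ka xa30 ya26 za59) (ka xa31 ya56 za58) (ka xa31 ya56 za59) (ka xa20 ya43 za52) (ka xa19 ya59 za34) (ka xa26 ya34 za24) (ka xa19 ya59 za25) (ka xa24 ya49 za51) (ka xa15 ya42 za2) (ka xa15 ya42 za3) (ka xa31 ya35 za36) (ka xa29 ya59 za52) (ka xa23 ya59 za14) (ka xa24 ya33 za18) (ka xa16 ya49 za4) (ka xa19 ya53 za16) (ka xa26 ya0 za60) (ka xa28 ya41 za49) (ka xa26 ya1 za39) (ka xa16 ya49 za5) (ka xa26 ya1 za40) (ka xa16 ya7 za10) (ka xa20 ya57 za1) (ka xa23 ya22 za26) (ka xa15 ya42 za16) (ka xa19 ya6 za2) (ka xa31 ya48 za15) (ka xa29 ya10 za19) (ka xa22 ya31 za8) (ka xa26 ya1 za29)) (@D3.rec (fun _ => Pt) (ka xa26 ya1 za32) (ka xa26 ya1 za34)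 (ka xa19 ya46 za10) (ka xa15 ya43 za58) (ka xa25 ya29 za11) (ka xa31 ya7 za34) (ka xa26 ya1 za43) (ka xa21 ya24 za34) (ka xa15 ya42 za25) (ka xa26 ya58 za32) (ka xa25 ya41 za42) (ka xa31 ya57 za11) (ka xa25 ya41 za40) (ka xa23 ya49 za34) (ka xa19 ya47 za40) (ka xa25 ya41 za32) (ka xa16 ya5 za37) (ka xa26 ya1 za54) (ka xa16 ya5 za35) (ka xa27 ya39 za25) (ka xa24 ya52 za31) (ka xa23 ya22 za58) (ka xa26 ya1 za48) (ka xa24 ya40 za53) (ka xa15 ya42 za32) (ka xa15 ya42 za33) (ka xa18 ya27 za44) (ka xa25 ya41 za14) (ka xa26 ya47 za25) (ka xa31 ya57 za15) (ka xa25 ya41 za27) (ka xa25 ya41 za28) (ka xa25 ya41 za29) (ka xa25 ya41 za30) (ka xa23 ya27 za13) (ka xa26 ya1 za47) (ka xa24 ya52 za32) (ka xa15 ya42 za36) (ka xa27 ya56 za47) (ka xa24 ya20 za13) (ka xa24 ya20 za12) (ka xa18 ya3 za13) (ka xa20 ya24 za38) (ka xa26 ya2 za44)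 (ka xa24 ya50 za18) (ka xa31 ya56 za43) (ka xa31 ya32 za19) (ka xa31 ya57 za24) (ka xa24 ya50 za19) (ka xa31 ya56 za44) (ka xa29 ya5 za58) (ka xa31 ya56 za45) (ka xa31 ya56 za46) (ka xa31 ya56 za47) (ka xa23 ya28 za18) (ka xa15 ya42 za50) (ka xa31 ya57 za31) (ka xa25 ya42 za51) (ka xa15 ya42 za53) (ka xa27 ya59 za26) (ka xa31 ya57 za32) (ka xa30 ya2 za32)) (@D3.rec (fun _ => Pt) (ka xa24 ya49 za14) (ka xa25 ya42 za48) (ka xa25 ya42 za49) (ka xa25 ya44 za7) (ka xa31 ya57 za40) (ka xa31 ya56 za49) (ka xa31 ya56 za50) (ka xa31 ya57 za46) (ka xa31 ya56 za51) (ka xa25 ya40 za8) (ka xa30 ya42 za16) (ka xa30 ya41 za5) (ka xa29 ya49 za41) (ka xa28 ya24 za45) (ka xa28 ya24 za44) (ka xa25 ya42 za56) (ka xa24 ya42 za31) (ka xa29 ya57 za45) (ka xa27 ya47 za42) (ka xa25 ya42 za52) (ka xa30 ya51 za50) (ka xa30 ya42 za31) (ka xa28 ya42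 za55) (ka xa27 ya28 za10) (ka xa27 ya28 za11) (ka xa18 ya25 za3) (ka xa26 ya1 za24) (ka xa21 ya56 za24) (ka xa19 ya51 za60) (ka xa26 ya40 za30) (ka xa25 ya41 za21) (ka xa24 ya21 za8) (ka xa31 ya1 za57) (ka xa17 ya40 za38) (ka xa29 ya18 za22) (ka xa26 ya1 za10) (ka xa27 ya57 za27) (ka xa26 ya0 za15) (ka xa15 ya43 za55) (ka xa26 ya0 za30) (ka xa26 ya0 za31) (ka xa23 ya23 za16) (ka xa26 ya0 za28) (ka xa17 ya55 za3) (ka xa26 ya0 za29) (ka xa25 ya45 za42) (ka xa23 ya22 za50) (ka xa15 ya43 za35) (ka xa25 ya41 za52) (ka xa25 ya31 za24) (ka xa23 ya22 za51) (ka xa22 ya38 za61) (ka xa26 ya55 za21) (ka xa17 ya12 za25) (ka xa16 ya11 za39) (ka xa22 ya6 za4) (ka xa18 ya14 za5) (ka xa29 ya39 za41) (ka xa31 ya3 za10) (ka xa21 ya30 za55) (ka xa30 ya24 za40) (ka xa31 ya3 za11)) (@D3.rec (fun _ => Pt) (ka xa31 ya3 za12) (ka xa31 ya3 za13)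 (ka xa23 ya40 za9) (ka xa26 ya1 za45) (ka xa15 ya43 za51) (ka xa31 ya4 za35) (ka xa28 ya34 za42) (ka xa29 ya14 za5) (ka xa25 ya39 za9) (ka xa30 ya10 za41) (ka xa15 ya45 za7) (ka xa30 ya10 za42) (ka xa31 ya58 za6) (ka xa30 ya10 za38) (ka xa15 ya46 za2) (ka xa30 ya10 za39) (ka xa30 ya10 za43) (ka xa29 ya47 za55) (ka xa28 ya33 za60) (ka xa22 ya43 za45) (ka xa28 ya34 za0) (ka xa29 ya11 za60) (ka xa19 ya11 za35) (ka xa15 ya45 za20) (ka xa15 ya46 za10) (ka xa29 ya35 za6) (ka xa19 ya11 za29) (ka xa16 ya57 za45) (ka xa31 ya58 za12) (ka xa19 ya11 za31) (ka xa31 ya35 za26) (ka xa15 ya44 za4) (ka xa28 ya23 za3) (ka xa31 ya35 za25) (ka xa19 ya11 za33) (ka xa16 ya45 za19) (ka xa28 ya38 za53) (ka xa25 ya26 za58) (ka xa19 ya56 za5) (ka xa15 ya44 za21) (ka xa15 ya44 za17) (ka xa16 ya30 za52) (ka xa29 ya0 za31) (ka xa20 ya4 za32) (ka xa19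 ya12 za15) (ka xa19 ya21 za50) (ka xa19 ya32 za32) (ka xa19 ya21 za53) (ka xa16 ya0 za47) (ka xa15 ya44 za29) (ka xa25 ya37 za9) (ka xa15 ya44 za58) (ka xa15 ya44 za59) (ka xa15 ya44 za60) (ka xa15 ya44 za61) (ka xa15 ya45 za2) (ka xa15 ya45 za9) (ka xa15 ya45 za10) (ka xa15 ya45 za11) (ka xa28 ya31 za24) (ka xa15 ya45 za15) (ka xa24 ya41 za41)) (@D3.rec (fun _ => Pt) (ka xa15 ya45 za19) (ka xa26 ya3 za11) (ka xa25 ya28 za17) (ka xa26 ya3 za7) (ka xa30 ya8 za49) (ka xa22 ya4 za42) (ka xa19 ya16 za31) (ka xa15 ya44 za41) (ka xa26 ya2 za17) (ka xa23 ya36 za16) (ka xa29 ya5 za55) (ka xa25 ya44 za13) (ka xa26 ya2 za18) (ka xa18 ya3 za14) (ka xa25 ya38 za27) (ka xa27 ya44 za51) (ka xa26 ya3 za13) (ka xa26 ya3 za5) (ka xa15 ya44 za47) (ka xa24 ya20 za56) (ka xa26 ya41 za2) (ka xa25 ya39 za30) (ka xa28 ya41 za11) (ka xa21 ya47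 za4) (ka xa15 ya44 za54) (ka xa29 ya47 za61) (ka xa19 ya58 za57) (ka xa25 ya38 za30) (ka xa25 ya38 za31) (ka xa25 ya38 za32) (ka xa25 ya38 za33) (ka xa26 ya40 za27) (ka xa25 ya38 za15) (ka xa16 ya5 za33) (ka xa24 ya50 za60) (ka xa31 ya7 za32) (ka xa19 ya54 za61) (ka xa24 ya50 za61) (ka xa16 ya5 za29) (ka xa19 ya58 za47) (ka xa25 ya38 za12) (ka xa30 ya14 za26) (ka xa25 ya38 za10) (ka xa19 ya16 za30) (ka xa25 ya41 za51) (ka xa17 ya42 za8) (ka xa31 ya57 za50) (ka xa22 ya10 za23) (ka xa30 ya16 za58) (ka xa20 ya2 za28) (ka xa25 ya27 za33) (ka xa25 ya41 za44) (ka xa25 ya39 za48) (ka xa25 ya31 za54) (ka xa19 ya16 za42) (ka xa19 ya16 za17) (ka xa29 ya57 za61) (ka xa19 ya16 za41) (ka xa19 ya16 za0) (ka xa15 ya45 za18) (ka xa28 ya31 za12) (ka xa24 ya41 za40)) (@D3.rec (fun _ => Pt) (ka xa25 ya51 za9) (ka xa24 ya32 za27) (ka xa28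 ya42 za48) (ka xa31 ya58 za30) (ka xa19 ya16 za21) (ka xa19 ya16 za26) (ka xa26 ya3 za38) (ka xa16 ya0 za16) (ka xa20 ya46 za5) (ka xa15 ya45 za29) (ka xa17 ya1 za54) (ka xa15 ya45 za32) (ka xa25 ya34 za32) (ka xa15 ya45 za59) (ka xa15 ya45 za60) (ka xa15 ya46 za0) (ka xa31 ya58 za32) (ka xa15 ya46 za6) (ka xa15 ya46 za7) (ka xa15 ya46 za9) (ka xa15 ya57 za43) (ka xa26 ya2 za15) (ka xa26 ya2 za14) (ka xa21 ya34 za34) (ka xa25 ya43 za5) (ka xa26 ya2 za21) (ka xa15 ya45 za48) (ka xa22 ya4 za31) (ka xa29 ya48 za56) (ka xa16 ya11 za40) (ka xa26 ya2 za24) (ka xa26 ya50 za57) (ka xa26 ya6 za0) (ka xa17 ya41 za61) (ka xa17 ya42 za0) (ka xa17 ya42 za1) (ka xa31 ya1 za39) (ka xa27 ya1 za28) (ka xa31 ya8 za60) (ka xa31 ya8 za61) (ka xa30 ya24 za39) (ka xa31 ya4 za2) (ka xa23 ya38 za58) (ka xa15 ya46 za1) (ka xa31 ya1 za43) (ka xa28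 ya47 za5) (ka xa15 ya46 za3) (ka xa31 ya58 za43) (ka xa25 ya39 za1) (ka xa25 ya39 za2) (ka xa31 ya58 za46) (ka xa25 ya38 za57) (ka xa25 ya39 za19) (ka xa27 ya58 za13) (ka xa28 ya10 za57) (ka xa30 ya4 za13) (ka xa25 ya39 za15) (ka xa30 ya42 za15) (ka xa28 ya42 za49) (ka xa27 ya58 za8) (ka xa22 ya44 za56) (ka xa26 ya2 za57)) (@D3.rec (fun _ => Pt) (ka xa25 ya57 za58) (ka xa15 ya46 za19) (ka xa17 ya39 za44) (ka xa17 ya40 za61) (ka xa16 ya13 za59) (ka xa25 ya42 za24) (ka xa15 ya46 za42) (ka xa15 ya46 za43) (ka xa15 ya46 za49) (ka xa18 ya5 za35) (ka xa17 ya44 za16) (ka xa17 ya44 za17) (ka xa23 ya0 za36) (ka xa30 ya26 za48) (ka xa26 ya15 za3) (ka xa15 ya46 za37) (ka xa25 ya29 za38) (ka xa29 ya0 za34) (ka xa25 ya35 za46) (ka xa27 ya2 za42) (ka xa23 ya46 za38) (ka xa28 ya11 za4) (ka xa15 ya46 za55) (ka xa25 ya12 za41) (ka xa29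 ya56 za23) (ka xa28 ya54 za0) (ka xa15 ya46 za56) (ka xa29 ya56 za12) (ka xa15 ya56 za48) (ka xa15 ya46 za48) (ka xa20 ya18 za10) (ka xa27 ya25 za54) (ka xa30 ya53 za57) (ka xa15 ya46 za59) (ka xa31 ya58 za52) (ka xa25 ya5 za48) (ka xa28 ya14 za16) (ka xa28 ya14 za1) (ka xa15 ya52 za21) (ka xa15 ya47 za12) (ka xa15 ya47 za1) (ka xa15 ya59 za60) (ka xa15 ya59 za59) (ka xa16 ya0 za28) (ka xa15 ya57 za7) (ka xa15 ya47 za3) (ka xa25 ya55 za28) (ka xa16 ya1 za40) (ka xa16 ya1 za15) (ka xa15 ya47 za5) (ka xa31 ya34 za54) (ka xa16 ya1 za38) (ka xa15 ya47 za7) (ka xa28 ya44 za49) (ka xa16 ya26 za24) (ka xa16 ya1 za52) (ka xa31 ya45 za39) (ka xa30 ya47 za26) (ka xa17 ya27 za6) (ka xa30 ya18 za51) (ka xa17 ya36 za1) (ka xa25 ya7 za11)) (@D3.rec (fun _ => Pt) (ka xa25 ya44 za5) (ka xa31 ya38 za5) (ka xa25 ya44 za3) (ka xa25 ya44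 za2) (ka xa28 ya57 za37) (ka xa25 ya44 za0) (ka xa27 ya4 za40) (ka xa25 ya39 za3) (ka xa26 ya3 za52) (ka xa21 ya27 za60) (ka xa21 ya27 za59) (ka xa23 ya29 za34) (ka xa16 ya3 za38) (ka xa25 ya41 za11) (ka xa18 ya42 za32) (ka xa18 ya42 za33) (ka xa18 ya42 za34) (ka xa17 ya44 za57) (ka xa19 ya56 za50) (ka xa24 ya54 za46) (ka xa19 ya42 za44) (ka xa21 ya46 za32) (ka xa15 ya47 za39) (ka xa15 ya47 za40) (ka xa19 ya58 za3) (ka xa26 ya3 za58) (ka xa25 ya36 za54) (ka xa21 ya22 za26) (ka xa31 ya59 za6) (ka xa21 ya24 za10) (ka xa21 ya24 za11) (ka xa21 ya24 za9) (ka xa15 ya48 za36) (ka xa15 ya48 za37) (ka xa15 ya48 za38) (ka xa15 ya48 za50) (ka xa21 ya24 za50) (ka xa15 ya47 za60) (ka xa27 ya38 za53) (ka xa21 ya11 za35) (ka xa21 ya23 za4) (ka xa26 ya5 za48) (ka xa21 ya51 za1) (ka xa26 ya5 za50) (ka xa21 ya24 za6) (ka xa26 ya5 za51)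 (ka xa17 ya13 za43) (ka xa17 ya14 za29) (ka xa20 ya5 za30) (ka xa15 ya58 za18) (ka xa15 ya58 za17) (ka xa26 ya5 za41) (ka xa26 ya5 za42) (ka xa18 ya21 za28) (ka xa26 ya5 za43) (ka xa21 ya42 za20) (ka xa18 ya37 za23) (ka xa25 ya15 za42) (ka xa16 ya14 za8) (ka xa24 ya36 za14) (ka xa21 ya28 za17) (ka xa23 ya51 za49)) (@D3.rec (fun _ => Pt) (ka xa16 ya14 za7) (ka xa21 ya24 za4) (ka xa21 ya27 za30) (ka xa16 ya42 za12) (ka xa16 ya42 za11) (ka xa19 ya17 za13) (ka xa31 ya20 za23) (ka xa16 ya37 za60) (ka xa16 ya37 za59) (ka xa16 ya38 za56) (ka xa16 ya38 za57) (ka xa16 ya38 za59) (ka xa31 ya34 za20) (ka xa16 ya42 za8) (ka xa21 ya22 za27) (ka xa18 ya37 za9) (ka xa25 ya16 za55) (ka xa29 ya25 za14) (ka xa18 ya9 za56) (ka xa23 ya36 za53) (ka xa15 ya48 za55) (ka xa31 ya49 za61) (ka xa31 ya55 za48) (ka xa27 ya25 za38) (ka xa27 ya25 za39)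 (ka xa24 ya55 za0) (ka xa21 ya23 za5) (ka xa30 ya14 za33) (ka xa25 ya23 za26) (ka xa25 ya47 za27) (ka xa26 ya12 za60) (ka xa21 ya31 za50) (ka xa23 ya44 za14) (ka xa25 ya19 za2) (ka xa21 ya50 za45) (ka xa21 ya33 za19) (ka xa26 ya3 za59) (ka xa21 ya31 za26) (ka xa18 ya37 za27) (ka xa23 ya42 za14) (ka xa23 ya42 za10) (ka xa26 ya4 za3) (ka xa25 ya39 za45) (ka xa21 ya51 za36) (ka xa26 ya4 za5) (ka xa26 ya1 za1) (ka xa27 ya43 za39) (ka xa26 ya4 za8) (ka xa17 ya2 za38) (ka xa20 ya14 za6) (ka xa21 ya28 za22) (ka xa20 ya6 za52) (ka xa20 ya15 za35) (ka xa17 ya57 za48) (ka xa20 ya15 za6) (ka xa20 ya19 za19) (ka xa16 ya3 za18) (ka xa16 ya3 za19) (ka xa24 ya45 za48) (ka xa17 ya45 za24) (ka xa26 ya4 za37) (ka xa26 ya4 za36)) (@D3.rec (fun _ => Pt) (ka xa26 ya13 za37) (ka xa26 ya13 za38) (ka xa19 ya17 za23) (ka xa15 ya50 za0) (ka xa19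 ya12 za0) (ka xa19 ya11 za58) (ka xa25 ya48 za11) (ka xa18 ya47 za23) (ka xa18 ya50 za20) (ka xa18 ya50 za18) (ka xa29 ya6 za44) (ka xa25 ya50 za61) (ka xa25 ya50 za59) (ka xa25 ya2 za14) (ka xa26 ya20 za5) (ka xa24 ya59 za21) (ka xa15 ya50 za10) (ka xa24 ya59 za27) (ka xa26 ya25 za14) (ka xa15 ya50 za17) (ka xa15 ya50 za19) (ka xa23 ya20 za5) (ka xa15 ya50 za21) (ka xa15 ya50 za22) (ka xa15 ya50 za24) (ka xa15 ya50 za26) (ka xa24 ya59 za17) (ka xa16 ya31 za15) (ka xa29 ya10 za47) (ka xa31 ya59 za23) (ka xa22 ya17 za48) (ka xa22 ya17 za47) (ka xa26 ya3 za32) (ka xa31 ya12 za8) (ka xa31 ya2 za5) (ka xa31 ya2 za39) (ka xa31 ya35 za59) (ka xa23 ya43 za17) (ka xa29 ya29 za44) (ka xa29 ya29 za45) (ka xa25 ya16 za25) (ka xa15 ya50 za35) (ka xa25 ya16 za29) (ka xa22 ya29 za31) (ka xa25 ya16 za30) (ka xa25 ya16 za31) (ka xa18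 ya27 za58) (ka xa18 ya51 za55) (ka xa27 ya49 za59) (ka xa28 ya16 za8) (ka xa23 ya37 za1) (ka xa25 ya0 za46) (ka xa18 ya29 za33) (ka xa18 ya50 za15) (ka xa15 ya51 za42) (ka xa19 ya41 za28) (ka xa26 ya38 za18) (ka xa15 ya51 za5) (ka xa16 ya2 za1) (ka xa16 ya2 za0) (ka xa15 ya52 za23) (ka xa15 ya52 za24)) (@D3.rec (fun _ => Pt) (ka xa15 ya52 za25) (ka xa15 ya52 za28) (ka xa25 ya17 za60) (ka xa25 ya52 za27) (ka xa24 ya57 za57) (ka xa29 ya48 za45) (ka xa25 ya34 za5) (ka xa20 ya0 za40) (ka xa29 ya14 za37) (ka xa19 ya38 za51) (ka xa19 ya38 za50) (ka xa15 ya51 za17) (ka xa31 ya59 za37) (ka xa19 ya10 za34) (ka xa28 ya51 za36) (ka xa25 ya27 za56) (ka xa21 ya47 za32) (ka xa17 ya37 za11) (ka xa15 ya51 za28) (ka xa20 ya38 za52) (ka xa26 ya43 za54) (ka xa15 ya51 za32) (ka xa26 ya39 za21) (ka xa19 ya17 za4) (ka xa27 ya38 za1) (ka xa22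 ya15 za44) (ka xa19 ya5 za13) (ka xa25 ya45 za29) (ka xa15 ya51 za47) (ka xa15 ya51 za48) (ka xa19 ya34 za0) (ka xa29 ya4 za17) (ka xa31 ya26 za1) (ka xa26 ya45 za38) (ka xa23 ya12 za9) (ka xa26 ya39 za44) (ka xa24 ya0 za34) (ka xa17 ya25 za12) (ka xa18 ya54 za7) (ka xa16 ya46 za44) (ka xa18 ya52 za29) (ka xa26 ya39 za14) (ka xa19 ya40 za53) (ka xa15 ya52 za0) (ka xa24 ya2 za39) (ka xa23 ya54 za38) (ka xa19 ya41 za23) (ka xa15 ya52 za9) (ka xa19 ya40 za54) (ka xa15 ya52 za6) (ka xa31 ya59 za44) (ka xa30 ya27 za5) (ka xa31 ya41 za6) (ka xa24 ya58 za32) (ka xa28 ya36 za24) (ka xa19 ya42 za29) (ka xa19 ya42 za4) (ka xa15 ya52 za13) (ka xa15 ya52 za11) (ka xa25 ya35 za19) (ka xa30 ya3 za57) (ka xa28 ya52 za50)) (@D3.rec (fun _ => Pt) (ka xa28 ya36 za34) (ka xa16 ya46 za43) (ka xa30 ya23 za56) (ka xa31 ya48 za33) (ka xa15 ya52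 za16) (ka xa15 ya52 za17) (ka xa15 ya52 za18) (ka xa27 ya52 za17) (ka xa27 ya52 za16) (ka xa27 ya55 za4) (ka xa27 ya55 za11) (ka xa25 ya46 za6) (ka xa27 ya55 za10) (ka xa28 ya32 za24) (ka xa19 ya23 za6) (ka xa15 ya57 za54) (ka xa15 ya57 za53) (ka xa16 ya2 za17) (ka xa16 ya2 za15) (ka xa29 ya8 za55) (ka xa27 ya14 za14) (ka xa18 ya48 za14) (ka xa17 ya27 za4) (ka xa24 ya8 za42) (ka xa27 ya14 za13) (ka xa16 ya2 za4) (ka xa16 ya2 za5) (ka xa18 ya45 za32) (ka xa19 ya31 za19) (ka xa26 ya7 za18) (ka xa27 ya24 za0) (ka xa31 ya27 za16) (ka xa25 ya7 za8) (ka xa25 ya7 za6) (ka xa27 ya26 za12) (ka xa21 ya1 za53) (ka xa21 ya1 za54) (ka xa21 ya1 za55) (ka xa21 ya1 za56) (ka xa24 ya8 za21) (ka xa31 ya13 za18) (ka xa21 ya1 za61) (ka xa25 ya21 za27) (ka xa25 ya7 za15) (ka xa15 ya52 za45) (ka xa15 ya52 za46) (ka xa25 ya7 za10) (ka xa25 ya30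 za5) (ka xa25 ya7 za3) (ka xa25 ya7 za22) (ka xa25 ya6 za47) (ka xa32 ya0 za2) (ka xa23 ya8 za46) (ka xa25 ya7 za4) (ka xa24 ya38 za10) (ka xa15 ya52 za57) (ka xa15 ya52 za58) (ka xa25 ya24 za49) (ka xa21 ya0 za54) (ka xa25 ya51 za57) (ka xa25 ya6 za2) (ka xa25 ya53 za53)) (@D3.rec (fun _ => Pt) (ka xa15 ya53 za0) (ka xa25 ya17 za61) (ka xa31 ya49 za19) (ka xa24 ya38 za21) (ka xa19 ya49 za27) (ka xa24 ya1 za39) (ka xa30 ya8 za34) (ka xa15 ya54 za53) (ka xa15 ya54 za52) (ka xa31 ya48 za57) (ka xa23 ya33 za24) (ka xa19 ya14 za33) (ka xa25 ya14 za58) (ka xa25 ya8 za25) (ka xa25 ya14 za60) (ka xa25 ya14 za61) (ka xa19 ya11 za61) (ka xa15 ya53 za13) (ka xa28 ya45 za26) (ka xa32 ya0 za8) (ka xa25 ya14 za49) (ka xa25 ya14 za52) (ka xa25 ya14 za53) (ka xa15 ya53 za16) (ka xa31 ya49 za0) (ka xa25 ya9 za8) (ka xa25 ya14 za28) (ka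 xa30 ya46 za8) (ka xa23 ya10 za8) (ka xa27 ya36 za4) (ka xa24 ya37 za20) (ka xa26 ya41 za12) (ka xa24 ya37 za19) (ka xa25 ya12 za1) (ka xa31 ya19 za10) (ka xa23 ya1 za50) (ka xa24 ya52 za22) (ka xa24 ya52 za27) (ka xa24 ya52 za28) (ka xa27 ya11 za17) (ka xa29 ya9 za36) (ka xa24 ya52 za33) (ka xa24 ya20 za4) (ka xa15 ya53 za52) (ka xa15 ya53 za53) (ka xa31 ya36 za17) (ka xa27 ya21 za36) (ka xa25 ya10 za46) (ka xa25 ya10 za47) (ka xa25 ya10 za53) (ka xa25 ya10 za54) (ka xa25 ya12 za29) (ka xa25 ya10 za43) (ka xa25 ya11 za54) (ka xa28 ya41 za46) (ka xa25 ya10 za44) (ka xa24 ya16 za7) (ka xa26 ya48 za7) (ka xa23 ya37 za61) (ka xa16 ya15 za4) (ka xa17 ya43 za61) (ka xa25 ya5 za28)) (@D3.rec (fun _ => Pt) (ka xa21 ya47 za61) (ka xa25 ya12 za47) (ka xa25 ya11 za45) (ka xa25 ya11 za46) (ka xa30 ya48 za11) (ka xa20 ya29 za41) (ka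 xa25 ya12 za8) (ka xa15 ya54 za54) (ka xa26 ya44 za24) (ka xa15 ya54 za22) (ka xa15 ya54 za23) (ka xa15 ya54 za28) (ka xa16 ya8 za13) (ka xa19 ya40 za24) (ka xa20 ya15 za26) (ka xa31 ya43 za47) (ka xa31 ya45 za45) (ka xa31 ya45 za46) (ka xa28 ya50 za21) (ka xa28 ya32 za59) (ka xa19 ya33 za31) (ka xa28 ya36 za14) (ka xa28 ya32 za53) (ka xa15 ya54 za36) (ka xa19 ya44 za14) (ka xa15 ya54 za37) (ka xa25 ya14 za55) (ka xa19 ya11 za38) (ka xa19 ya21 za31) (ka xa31 ya21 za52) (ka xa19 ya37 za38) (ka xa24 ya49 za0) (ka xa29 ya12 za40) (ka xa27 ya35 za48) (ka xa29 ya47 za47) (ka xa15 ya54 za41) (ka xa15 ya54 za35) (ka xa26 ya25 za1) (ka xa24 ya36 za38) (ka xa24 ya36 za40) (ka xa20 ya43 za50) (ka xa30 ya14 za12) (ka xa28 ya52 za51) (ka xa22 ya57 za30) (ka xa26 ya45 za35) (ka xa31 ya59 za39) (ka xa23 ya5 za57) (ka xa23 ya12 za37)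 (ka xa24 ya26 za13) (ka xa31 ya49 za22) (ka xa28 ya23 za42) (ka xa27 ya41 za61) (ka xa32 ya0 za30) (ka xa31 ya36 za43) (ka xa15 ya54 za49) (ka xa15 ya54 za50) (ka xa15 ya54 za51) (ka xa27 ya39 za20) (ka xa19 ya20 za53) (ka xa25 ya46 za12) (ka xa17 ya52 za47) (ka xa25 ya46 za11)) (@D3.rec (fun _ => Pt) (ka xa25 ya10 za29) (ka xa21 ya50 za40) (ka xa19 ya22 za15) (ka xa27 ya23 za26) (ka xa32 ya0 za37) (ka xa30 ya34 za37) (ka xa31 ya56 za24) (ka xa32 ya0 za38) (ka xa25 ya34 za51) (ka xa25 ya42 za0) (ka xa31 ya48 za12) (ka xa31 ya48 za8) (ka xa25 ya34 za53) (ka xa24 ya20 za21) (ka xa19 ya56 za59) (ka xa19 ya38 za8) (ka xa25 ya13 za46) (ka xa25 ya13 za47) (ka xa25 ya27 za24) (ka xa20 ya58 za17) (ka xa25 ya52 za35) (ka xa24 ya3 za10) (ka xa20 ya58 za14) (ka xa15 ya55 za5) (ka xa30 ya33 za44) (ka xa24 ya12 za26) (ka xa19 ya24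 za8) (ka xa19 ya24 za9) (ka xa18 ya45 za31) (ka xa24 ya10 za54) (ka xa25 ya24 za33) (ka xa25 ya52 za42) (ka xa22 ya41 za19) (ka xa19 ya25 za27) (ka xa19 ya25 za28) (ka xa19 ya25 za29) (ka xa31 ya59 za35) (ka xa19 ya25 za32) (ka xa31 ya50 za35) (ka xa19 ya25 za36) (ka xa25 ya53 za7) (ka xa19 ya25 za39) (ka xa24 ya10 za29) (ka xa17 ya26 za32) (ka xa25 ya52 za57) (ka xa25 ya52 za58) (ka xa25 ya52 za61) (ka xa22 ya46 za22) (ka xa25 ya52 za52) (ka xa25 ya52 za43) (ka xa22 ya36 za43) (ka xa22 ya36 za55) (ka xa22 ya36 za41) (ka xa15 ya55 za56) (ka xa15 ya55 za57) (ka xa15 ya55 za47) (ka xa15 ya55 za48) (ka xa25 ya48 za59) (ka xa21 ya1 za8) (ka xa26 ya6 za50) (ka xa15 ya55 za51) (ka xa19 ya25 za38)) (@D3.rec (fun _ => Pt) (ka xa22 ya45 za28) (ka xa15 ya55 za53) (ka xa15 ya55 za54) (ka xa24 ya30 za41) (ka xa20 ya11 za51) (ka xa22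 ya39 za21) (ka xa31 ya39 za4) (ka xa26 ya22 za10) (ka xa24 ya57 za28) (ka xa26 ya48 za54) (ka xa24 ya57 za27) (ka xa19 ya28 za11) (ka xa19 ya28 za10) (ka xa15 ya55 za58) (ka xa25 ya53 za15) (ka xa18 ya45 za15) (ka xa16 ya32 za44) (ka xa15 ya55 za61) (ka xa18 ya48 za54) (ka xa30 ya56 za54) (ka xa19 ya28 za16) (ka xa19 ya28 za17) (ka xa19 ya28 za20) (ka xa19 ya28 za19) (ka xa25 ya53 za19) (ka xa20 ya56 za44) (ka xa22 ya5 za44) (ka xa25 ya47 za3) (ka xa31 ya51 za19) (ka xa31 ya43 za46) (ka xa22 ya5 za42) (ka xa22 ya7 za52) (ka xa22 ya7 za51) (ka xa24 ya49 za35) (ka xa25 ya19 za29) (ka xa25 ya51 za20) (ka xa15 ya56 za13) (ka xa15 ya56 za14) (ka xa20 ya12 za9) (ka xa28 ya50 za52) (ka xa20 ya59 za61) (ka xa20 ya12 za8) (ka xa25 ya51 za31) (ka xa25 ya51 za49) (ka xa15 ya56 za23) (ka xa29 ya39 za26) (ka xa31 ya59 za41) (ka xa28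 ya49 za14) (ka xa22 ya25 za5) (ka xa22 ya25 za4) (ka xa22 ya25 za24) (ka xa22 ya25 za23) (ka xa25 ya51 za48) (ka xa25 ya17 za46) (ka xa17 ya23 za56) (ka xa30 ya17 za55) (ka xa17 ya33 za56) (ka xa25 ya51 za44) (ka xa25 ya51 za45) (ka xa15 ya56 za39) (ka xa15 ya56 za34) (ka xa25 ya51 za46)) (@D3.rec (fun _ => Pt) (ka xa19 ya7 za49) (ka xa30 ya17 za56) (ka xa19 ya26 za58) (ka xa25 ya21 za53) (ka xa15 ya56 za36) (ka xa20 ya12 za26) (ka xa27 ya11 za56) (ka xa25 ya51 za40) (ka xa31 ya55 za43) (ka xa28 ya49 za9) (ka xa20 ya24 za29) (ka xa26 ya42 za46) (ka xa26 ya42 za45) (ka xa28 ya30 za19) (ka xa20 ya21 za55) (ka xa25 ya52 za14) (ka xa15 ya56 za42) (ka xa29 ya34 za55) (ka xa17 ya24 za25) (ka xa25 ya52 za24) (ka xa15 ya58 za3) (ka xa15 ya58 za2) (ka xa26 ya2 za8) (ka xa15 ya56 za52) (ka xa15 ya59 za20) (ka xa15 ya59 za19) (ka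 xa28 ya24 za58) (ka xa28 ya23 za46) (ka xa15 ya56 za61) (ka xa15 ya57 za0) (ka xa15 ya58 za41) (ka xa15 ya58 za40) (ka xa25 ya29 za57) (ka xa22 ya0 za16) (ka xa25 ya7 za17) (ka xa15 ya59 za37) (ka xa16 ya6 za56) (ka xa16 ya0 za18) (ka xa15 ya57 za12) (ka xa30 ya50 za54) (ka xa16 ya0 za2) (ka xa15 ya57 za21) (ka xa31 ya56 za21) (ka xa31 ya37 za4) (ka xa27 ya18 za20) (ka xa25 ya33 za14) (ka xa27 ya18 za21) (ka xa21 ya17 za31) (ka xa16 ya0 za26) (ka xa16 ya0 za27) (ka xa27 ya18 za13) (ka xa16 ya0 za35) (ka xa17 ya10 za12) (ka xa25 ya48 za61) (ka xa16 ya1 za16) (ka xa16 ya1 za17) (ka xa16 ya1 za18) (ka xa16 ya1 za13) (ka xa16 ya1 za14) (ka xa15 ya57 za33) (ka xa16 ya1 za26) (ka xa21 ya46 za2)) (@D3.rec (fun _ => Pt) (ka xa27 ya11 za9) (ka xa16 ya0 za51) (ka xa16 ya0 za52) (ka xa26 ya13 za54) (ka xa16 ya0 za48) (ka xa16 ya0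 za49) (ka xa15 ya57 za37) (ka xa15 ya57 za38) (ka xa16 ya0 za61) (ka xa16 ya0 za60) (ka xa26 ya23 za46) (ka xa32 ya1 za22) (ka xa29 ya51 za25) (ka xa25 ya34 za52) (ka xa32 ya1 za23) (ka xa21 ya40 za57) (ka xa16 ya1 za36) (ka xa16 ya1 za37) (ka xa29 ya21 za57) (ka xa15 ya57 za45) (ka xa15 ya57 za46) (ka xa16 ya0 za50) (ka xa31 ya58 za33) (ka xa30 ya0 za0) (ka xa25 ya32 za50) (ka xa16 ya1 za9) (ka xa29 ya18 za33) (ka xa15 ya57 za50) (ka xa27 ya11 za3) (ka xa15 ya57 za51) (ka xa16 ya1 za12) (ka xa23 ya55 za4) (ka xa27 ya42 za6) (ka xa32 ya1 za34) (ka xa32 ya1 za35) (ka xa31 ya46 za6) (ka xa15 ya57 za55) (ka xa31 ya57 za58) (ka xa31 ya59 za53) (ka xa30 ya19 za16) (ka xa32 ya1 za41) (ka xa29 ya20 za46) (ka xa24 ya33 za42) (ka xa31 ya59 za50) (ka xa31 ya59 za49) (ka xa29 ya18 za36) (ka xa30 ya19 za15) (ka xa17 ya27 za1) (ka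 xa31 ya54 za51) (ka xa23 ya9 za40) (ka xa16 ya2 za10) (ka xa16 ya2 za11) (ka xa32 ya1 za47) (ka xa25 ya29 za20) (ka xa22 ya2 za7) (ka xa29 ya21 za56) (ka xa25 ya29 za48) (ka xa15 ya58 za5) (ka xa32 ya1 za48) (ka xa19 ya38 za61) (ka xa19 ya38 za44) (ka xa21 ya50 za11)) (@D3.rec (fun _ => Pt) (ka xa27 ya19 za32) (ka xa19 ya38 za38) (ka xa30 ya14 za32) (ka xa19 ya38 za41) (ka xa26 ya12 za31) (ka xa25 ya58 za34) (ka xa25 ya58 za36) (ka xa25 ya32 za12) (ka xa25 ya32 za16) (ka xa25 ya29 za12) (ka xa26 ya5 za54) (ka xa23 ya7 za57) (ka xa30 ya19 za45) (ka xa28 ya13 za61) (ka xa15 ya58 za20) (ka xa15 ya58 za21) (ka xa25 ya56 za53) (ka xa25 ya56 za50) (ka xa30 ya54 za30) (ka xa21 ya46 za28) (ka xa25 ya7 za32) (ka xa25 ya57 za16) (ka xa25 ya57 za17) (ka xa25 ya57 za19) (ka xa28 ya14 za15) (ka xa25 ya29 za35) (ka xa15 ya58 za26) (ka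 xa15 ya58 za27) (ka xa25 ya43 za46) (ka xa29 ya25 za24) (ka xa23 ya10 za13) (ka xa24 ya4 za2) (ka xa25 ya57 za11) (ka xa25 ya57 za12) (ka xa20 ya40 za10) (ka xa23 ya10 za20) (ka xa25 ya31 za56) (ka xa25 ya31 za60) (ka xa25 ya7 za50) (ka xa17 ya53 za61) (ka xa26 ya16 za53) (ka xa25 ya57 za2) (ka xa25 ya7 za47) (ka xa25 ya29 za14) (ka xa30 ya54 za60) (ka xa31 ya49 za9) (ka xa15 ya58 za43) (ka xa15 ya58 za44) (ka xa15 ya58 za45) (ka xa15 ya58 za46) (ka xa15 ya58 za47) (ka xa21 ya1 za5) (ka xa31 ya55 za54) (ka xa18 ya51 za19) (ka xa20 ya50 za39) (ka xa28 ya44 za44) (ka xa28 ya23 za60) (ka xa30 ya7 za0) (ka xa27 ya26 za11) (ka xa24 ya38 za49) (ka xa24 ya38 za53) (ka xa19 ya39 za17)) (@D3.rec (fun _ => Pt) (ka xa31 ya53 za46) (ka xa15 ya58 za48) (ka xa25 ya7 za23) (ka xa27 ya14 za24) (ka xa15 ya58 za50) (ka xa20 ya33 za60) (ka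 xa28 ya14 za0) (ka xa27 ya14 za17) (ka xa25 ya7 za29) (ka xa25 ya34 za21) (ka xa29 ya50 za57) (ka xa25 ya6 za10) (ka xa30 ya7 za32) (ka xa18 ya53 za33) (ka xa27 ya47 za8) (ka xa18 ya53 za32) (ka xa18 ya54 za24) (ka xa29 ya31 za53) (ka xa28 ya12 za39) (ka xa21 ya7 za14) (ka xa18 ya23 za21) (ka xa19 ya44 za3) (ka xa19 ya28 za33) (ka xa30 ya27 za16) (ka xa19 ya28 za29) (ka xa23 ya9 za3) (ka xa25 ya57 za20) (ka xa27 ya9 za9) (ka xa23 ya55 za6) (ka xa20 ya50 za23) (ka xa23 ya55 za5) (ka xa25 ya57 za37) (ka xa19 ya38 za40) (ka xa24 ya15 za58) (ka xa15 ya59 za21) (ka xa15 ya59 za24) (ka xa23 ya9 za1) (ka xa32 ya1 za13) (ka xa27 ya10 za0) (ka xa32 ya1 za11) (ka xa32 ya1 za12) (ka xa25 ya36 za8) (ka xa30 ya56 za20) (ka xa30 ya50 za29) (ka xa28 ya58 za27) (ka xa25 ya24 za39) (ka xa32 ya2 za9) (ka xa20 ya50 za31) (ka xa26 ya42 za12)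 (ka xa22 ya2 za8) (ka xa25 ya55 za17) (ka xa27 ya7 za47) (ka xa25 ya28 za18) (ka xa25 ya55 za16) (ka xa21 ya18 za51) (ka xa25 ya6 za61) (ka xa29 ya44 za22) (ka xa16 ya7 za4) (ka xa15 ya59 za49) (ka xa15 ya59 za51) (ka xa15 ya59 za52) (ka xa15 ya59 za53)) (@D3.rec (fun _ => Pt) (ka xa15 ya59 za54) (ka xa29 ya13 za0) (ka xa25 ya55 za41) (ka xa25 ya12 za20) (ka xa24 ya16 za45) (ka xa26 ya15 za10) (ka xa25 ya27 za44) (ka xa26 ya14 za24) (ka xa31 ya54 za38) (ka xa30 ya19 za29) (ka xa26 ya14 za9) (ka xa25 ya55 za32) (ka xa25 ya55 za33) (ka xa15 ya59 za57) (ka xa29 ya19 za53) (ka xa32 ya2 za21) (ka xa25 ya55 za21) (ka xa25 ya55 za22) (ka xa25 ya33 za40) (ka xa25 ya55 za23) (ka xa25 ya56 za26) (ka xa21 ya8 za19) (ka xa21 ya46 za26) (ka xa21 ya17 za30) (ka xa16 ya0 za1) (ka xa30 ya6 za19) (ka xa25 ya34 za26) (ka xa20 ya14 za27)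 (ka xa20 ya36 za18) (ka xa26 ya14 za39) (ka xa26 ya14 za40) (ka xa22 ya2 za51) (ka xa23 ya1 za45) (ka xa27 ya7 za50) (ka xa16 ya0 za22) (ka xa16 ya0 za23) (ka xa30 ya55 za45) (ka xa25 ya56 za31) (ka xa22 ya22 za38) (ka xa27 ya18 za23) (ka xa30 ya36 za42) (ka xa17 ya14 za46) (ka xa27 ya18 za22) (ka xa31 ya13 za22) (ka xa27 ya15 za37) (ka xa25 ya30 za31) (ka xa25 ya30 za25) (ka xa27 ya18 za14) (ka xa27 ya17 za30) (ka xa25 ya30 za35) (ka xa32 ya1 za16) (ka xa16 ya0 za33) (ka xa25 ya30 za37) (ka xa24 ya40 za18) (ka xa25 ya30 za46) (ka xa25 ya30 za39) (ka xa27 ya1 za54) (ka xa25 ya30 za40) (ka xa25 ya43 za0) (ka xa30 ya56 za14) (ka xa32 ya2 za37) (ka xa18 ya53 za42)) (@D3.rec (fun _ => Pt) (ka xa28 ya44 za10) (ka xa32 ya2 za40) (ka xa16 ya0 za43) (ka xa30 ya51 za24) (ka xa22 ya15 za42) (ka xa26 ya13 za55) (ka xa26 ya13 za56)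 (ka xa26 ya3 za6) (ka xa28 ya14 za3) (ka xa30 ya30 za49) (ka xa32 ya1 za21) (ka xa16 ya2 za19) (ka xa29 ya6 za33) (ka xa32 ya1 za30) (ka xa29 ya6 za37) (ka xa31 ya33 za51) (ka xa16 ya0 za58) (ka xa16 ya1 za0) (ka xa16 ya1 za1) (ka xa16 ya1 za5) (ka xa26 ya9 za10) (ka xa28 ya31 za15) (ka xa24 ya0 za9) (ka xa24 ya21 za9) (ka xa23 ya7 za41) (ka xa32 ya1 za31) (ka xa23 ya8 za52) (ka xa23 ya8 za51) (ka xa23 ya10 za43) (ka xa23 ya10 za16) (ka xa30 ya19 za55) (ka xa25 ya28 za8) (ka xa32 ya1 za32) (ka xa31 ya17 za24) (ka xa25 ya55 za5) (ka xa17 ya26 za18) (ka xa25 ya55 za6) (ka xa32 ya1 za36) (ka xa16 ya6 za54) (ka xa17 ya40 za1) (ka xa32 ya1 za19) (ka xa31 ya58 za58) (ka xa27 ya28 za29) (ka xa27 ya46 za28) (ka xa25 ya36 za0) (ka xa31 ya36 za28) (ka xa16 ya2 za21) (ka xa16 ya1 za24) (ka xa16 ya1 za28) (ka xa16 ya1 za29) (ka xa16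 ya1 za30) (ka xa16 ya1 za31) (ka xa16 ya1 za32) (ka xa17 ya37 za56) (ka xa29 ya56 za40) (ka xa26 ya15 za11) (ka xa29 ya50 za28) (ka xa30 ya50 za56) (ka xa32 ya2 za50) (ka xa29 ya48 za33) (ka xa32 ya2 za51) (ka xa29 ya4 za33)) (@D3.rec (fun _ => Pt) (ka xa29 ya4 za34) (ka xa31 ya6 za17) (ka xa25 ya27 za57) (ka xa32 ya2 za52) (ka xa32 ya2 za53) (ka xa24 ya40 za20) (ka xa32 ya2 za54) (ka xa32 ya1 za28) (ka xa28 ya43 za0) (ka xa31 ya58 za57) (ka xa26 ya13 za58) (ka xa16 ya1 za46) (ka xa29 ya41 za33) (ka xa16 ya1 za48) (ka xa16 ya26 za25) (ka xa17 ya25 za38) (ka xa20 ya36 za44) (ka xa16 ya1 za50) (ka xa20 ya35 za13) (ka xa31 ya58 za60) (ka xa28 ya49 za25) (ka xa22 ya2 za26) (ka xa23 ya55 za8) (ka xa29 ya1 za34) (ka xa24 ya8 za31) (ka xa19 ya9 za40) (ka xa31 ya18 za5) (ka xa16 ya1 za55) (ka xa16 ya1 za57) (ka xa16 ya1 za58)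 (ka xa24 ya5 za40) (ka xa24 ya5 za39) (ka xa30 ya39 za37) (ka xa23 ya18 za31) (ka xa23 ya9 za29) (ka xa23 ya9 za25) (ka xa27 ya59 za32) (ka xa32 ya1 za43) (ka xa32 ya3 za3) (ka xa19 ya27 za13) (ka xa17 ya26 za50) (ka xa24 ya8 za13) (ka xa30 ya44 za15) (ka xa24 ya8 za35) (ka xa31 ya59 za57) (ka xa32 ya3 za5) (ka xa31 ya33 za49) (ka xa16 ya2 za8) (ka xa16 ya26 za38) (ka xa24 ya13 za35) (ka xa20 ya37 za25) (ka xa28 ya50 za26) (ka xa19 ya45 za43) (ka xa22 ya9 za26) (ka xa21 ya5 za36) (ka xa28 ya19 za46) (ka xa16 ya2 za12) (ka xa30 ya50 za58) (ka xa25 ya6 za38) (ka xa32 ya2 za42) (ka xa31 ya36 za27) (ka xa17 ya25 za16))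
def f_a_26 : D2 → D3 → Pt := @D2.rec (fun _ => D3 → Pt) (@D3.rec (fun _ => Pt) (ka xa25 ya6 za37) (ka xa32 ya2 za44) (ka xa31 ya37 za61) (ka xa28 ya59 za0) (ka xa30 ya18 za3) (ka xa25 ya6 za36) (ka xa20 ya57 za40) (ka xa27 ya56 za5) (ka xa25 ya36 za51) (ka xa25 ya36 za58) (ka xa25 ya22 za57) (ka xa25 ya36 za52) (ka xa25 ya37 za0) (ka xa25 ya37 za1) (ka xa25 ya37 za4) (ka xa25 ya39 za37) (ka xa16 ya3 za30) (ka xa16 ya3 za32) (ka xa24 ya30 za52) (ka xa16 ya3 za37) (ka xa16 ya2 za47) (ka xa19 ya16 za57) (ka xa19 ya16 za33) (ka xa19 ya8 za23) (ka xa17 ya37 za33) (ka xa17 ya37 za32) (ka xa19 ya17 za0) (ka xa24 ya9 za49) (ka xa25 ya39 za42) (ka xa25 ya39 za44) (ka xa25 ya39 za39) (ka xa25 ya39 za40) (ka xa23 ya34 za50) (ka xa19 ya49 za58) (ka xa21 ya32 za61) (ka xa31 ya1 za33) (ka xa16 ya3 za13) (ka xa24 ya10 za15) (ka xa31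 ya56 za14) (ka xa23 ya26 za36) (ka xa23 ya26 za17) (ka xa24 ya52 za45) (ka xa29 ya51 za34) (ka xa16 ya3 za22) (ka xa30 ya13 za39) (ka xa26 ya3 za34) (ka xa26 ya3 za35) (ka xa29 ya31 za2) (ka xa26 ya3 za31) (ka xa31 ya6 za33) (ka xa22 ya10 za12) (ka xa26 ya8 za42) (ka xa19 ya47 za35) (ka xa29 ya51 za18) (ka xa24 ya31 za45) (ka xa30 ya13 za25) (ka xa26 ya3 za37) (ka xa23 ya25 za28) (ka xa28 ya24 za42) (ka xa17 ya38 za10) (ka xa25 ya37 za48) (ka xa22 ya46 za6)) (@D3.rec (fun _ => Pt) (ka xa23 ya31 za50) (ka xa25 ya45 za45) (ka xa21 ya50 za7) (ka xa25 ya29 za45) (ka xa29 ya51 za19) (ka xa19 ya46 za7) (ka xa19 ya46 za6) (ka xa16 ya4 za1) (ka xa19 ya6 za5) (ka xa19 ya6 za4) (ka xa25 ya39 za35) (ka xa24 ya36 za7) (ka xa26 ya23 za13) (ka xa25 ya37 za5) (ka xa27 ya46 za36) (ka xa24 ya38 za6) (ka xa24 ya38 za7) (ka xa16 ya4 za54)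 (ka xa17 ya38 za23) (ka xa17 ya38 za22) (ka xa30 ya51 za47) (ka xa24 ya49 za13) (ka xa16 ya5 za0) (ka xa16 ya4 za10) (ka xa25 ya39 za26) (ka xa16 ya4 za13) (ka xa22 ya5 za5) (ka xa31 ya34 za44) (ka xa19 ya55 za39) (ka xa25 ya37 za61) (ka xa19 ya55 za37) (ka xa21 ya49 za2) (ka xa25 ya38 za0) (ka xa23 ya41 za17) (ka xa25 ya38 za1) (ka xa20 ya4 za11) (ka xa16 ya4 za22) (ka xa27 ya30 za24) (ka xa29 ya17 za26) (ka xa25 ya37 za50) (ka xa25 ya37 za52) (ka xa16 ya51 za6) (ka xa16 ya40 za28) (ka xa25 ya38 za6) (ka xa16 ya4 za33) (ka xa25 ya40 za3) (ka xa32 ya3 za19) (ka xa25 ya38 za35) (ka xa25 ya38 za22) (ka xa16 ya4 za38) (ka xa31 ya48 za4) (ka xa28 ya41 za19) (ka xa32 ya3 za21) (ka xa21 ya50 za2) (ka xa25 ya38 za17) (ka xa29 ya6 za30) (ka xa22 ya4 za11) (ka xa16 ya4 za45) (ka xa19 ya47 za28) (ka xa24 ya51 za31) (ka xa16 ya4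 za47) (ka xa28 ya35 za6)) (@D3.rec (fun _ => Pt) (ka xa24 ya3 za46) (ka xa24 ya51 za59) (ka xa24 ya33 za23) (ka xa29 ya42 za54) (ka xa22 ya37 za58) (ka xa30 ya6 za17) (ka xa16 ya4 za59) (ka xa16 ya41 za48) (ka xa25 ya53 za22) (ka xa31 ya29 za34) (ka xa31 ya7 za7) (ka xa21 ya46 za33) (ka xa16 ya5 za30) (ka xa16 ya5 za43) (ka xa25 ya42 za22) (ka xa25 ya42 za21) (ka xa16 ya5 za15) (ka xa25 ya41 za8) (ka xa25 ya41 za12) (ka xa21 ya10 za7) (ka xa23 ya22 za47) (ka xa25 ya42 za25) (ka xa23 ya22 za48) (ka xa27 ya40 za40) (ka xa25 ya42 za30) (ka xa27 ya41 za11) (ka xa31 ya7 za17) (ka xa30 ya8 za28) (ka xa29 ya21 za59) (ka xa21 ya18 za27) (ka xa20 ya24 za12) (ka xa17 ya4 za2) (ka xa27 ya41 za27) (ka xa17 ya4 za3) (ka xa19 ya47 za29) (ka xa31 ya58 za24) (ka xa22 ya10 za11) (ka xa21 ya10 za6) (ka xa16 ya5 za32) (ka xa21 ya42 za60)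 (ka xa26 ya40 za36) (ka xa19 ya40 za5) (ka xa30 ya11 za4) (ka xa29 ya18 za5) (ka xa25 ya38 za43) (ka xa28 ya59 za46) (ka xa16 ya6 za38) (ka xa16 ya40 za20) (ka xa32 ya3 za35) (ka xa21 ya58 za36) (ka xa17 ya39 za24) (ka xa17 ya39 za25) (ka xa22 ya40 za55) (ka xa28 ya59 za41) (ka xa16 ya51 za10) (ka xa18 ya48 za48) (ka xa21 ya21 za45) (ka xa25 ya42 za61) (ka xa16 ya5 za55) (ka xa24 ya52 za11) (ka xa25 ya33 za48) (ka xa19 ya25 za50)) (@D3.rec (fun _ => Pt) (ka xa16 ya5 za59) (ka xa24 ya45 za18) (ka xa16 ya6 za1) (ka xa16 ya6 za25) (ka xa16 ya6 za26) (ka xa25 ya41 za17) (ka xa25 ya58 za7) (ka xa25 ya41 za3) (ka xa24 ya45 za20) (ka xa16 ya6 za14) (ka xa28 ya49 za32) (ka xa25 ya41 za1) (ka xa16 ya6 za17) (ka xa25 ya41 za16) (ka xa26 ya50 za17) (ka xa24 ya51 za36) (ka xa24 ya51 za35) (ka xa16 ya6 za21) (ka xa29 ya44 za46) (ka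 xa24 ya51 za24) (ka xa24 ya51 za27) (ka xa26 ya7 za43) (ka xa29 ya10 za53) (ka xa27 ya1 za27) (ka xa22 ya31 za36) (ka xa30 ya17 za44) (ka xa31 ya6 za19) (ka xa30 ya42 za26) (ka xa28 ya42 za40) (ka xa16 ya6 za27) (ka xa30 ya17 za46) (ka xa26 ya0 za48) (ka xa25 ya46 za32) (ka xa22 ya10 za18) (ka xa26 ya0 za45) (ka xa26 ya0 za46) (ka xa23 ya32 za4) (ka xa26 ya0 za56) (ka xa25 ya42 za6) (ka xa27 ya37 za30) (ka xa16 ya6 za53) (ka xa31 ya54 za40) (ka xa23 ya9 za2) (ka xa24 ya57 za59) (ka xa27 ya15 za16) (ka xa30 ya19 za34) (ka xa25 ya27 za17) (ka xa31 ya27 za42) (ka xa29 ya23 za0) (ka xa22 ya38 za17) (ka xa30 ya36 za43) (ka xa21 ya55 za16) (ka xa25 ya44 za8) (ka xa30 ya2 za1) (ka xa17 ya41 za45) (ka xa20 ya2 za4) (ka xa21 ya51 za25) (ka xa21 ya26 za23) (ka xa25 ya44 za25) (ka xa25 ya45 za36) (ka xa16 ya7 za53) (ka xa16 ya8 za0))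 (@D3.rec (fun _ => Pt) (ka xa21 ya27 za42) (ka xa17 ya27 za51) (ka xa20 ya5 za43) (ka xa25 ya45 za41) (ka xa17 ya4 za61) (ka xa25 ya45 za44) (ka xa21 ya55 za2) (ka xa26 ya13 za1) (ka xa25 ya45 za47) (ka xa22 ya29 za35) (ka xa17 ya37 za39) (ka xa21 ya49 za56) (ka xa21 ya32 za2) (ka xa20 ya47 za16) (ka xa20 ya44 za55) (ka xa16 ya7 za48) (ka xa16 ya7 za49) (ka xa18 ya15 za21) (ka xa26 ya16 za13) (ka xa18 ya15 za18) (ka xa18 ya15 za19) (ka xa18 ya14 za43) (ka xa18 ya14 za42) (ka xa18 ya30 za40) (ka xa27 ya37 za50) (ka xa21 ya7 za47) (ka xa32 ya3 za50) (ka xa18 ya31 za48) (ka xa18 ya31 za49) (ka xa29 ya32 za52) (ka xa31 ya7 za38) (ka xa18 ya31 za45) (ka xa27 ya27 za49) (ka xa27 ya25 za37) (ka xa16 ya18 za40) (ka xa27 ya27 za50) (ka xa25 ya45 za61) (ka xa25 ya45 za60) (ka xa26 ya18 za20) (ka xa17 ya38 za14) (ka xa20 ya4 za24)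 (ka xa25 ya8 za46) (ka xa25 ya8 za45) (ka xa27 ya35 za54) (ka xa25 ya8 za54) (ka xa25 ya8 za55) (ka xa20 ya2 za19) (ka xa25 ya8 za57) (ka xa21 ya48 za15) (ka xa21 ya48 za22) (ka xa29 ya59 za14) (ka xa25 ya8 za48) (ka xa25 ya8 za49) (ka xa20 ya2 za37) (ka xa25 ya8 za52) (ka xa16 ya8 za17) (ka xa16 ya8 za20) (ka xa24 ya37 za34) (ka xa16 ya36 za59) (ka xa29 ya4 za59) (ka xa16 ya36 za58) (ka xa31 ya56 za39)) (@D3.rec (fun _ => Pt) (ka xa29 ya4 za60) (ka xa19 ya38 za2) (ka xa19 ya36 za49) (ka xa16 ya38 za60) (ka xa19 ya24 za37) (ka xa32 ya0 za29) (ka xa24 ya32 za12) (ka xa31 ya28 za14) (ka xa19 ya14 za51) (ka xa25 ya9 za49) (ka xa17 ya43 za28) (ka xa26 ya14 za19) (ka xa16 ya8 za27) (ka xa27 ya26 za56) (ka xa25 ya10 za2) (ka xa17 ya39 za26) (ka xa27 ya25 za33) (ka xa30 ya3 za30) (ka xa27 ya39 za26) (ka xa24 ya47 za39) (ka xa29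 ya54 za35) (ka xa25 ya16 za53) (ka xa19 ya59 za40) (ka xa17 ya39 za59) (ka xa20 ya8 za12) (ka xa19 ya59 za45) (ka xa17 ya52 za34) (ka xa16 ya8 za42) (ka xa21 ya59 za49) (ka xa28 ya30 za20) (ka xa25 ya17 za5) (ka xa28 ya15 za60) (ka xa27 ya29 za23) (ka xa16 ya9 za18) (ka xa16 ya9 za20) (ka xa16 ya9 za21) (ka xa16 ya9 za26) (ka xa30 ya0 za49) (ka xa22 ya2 za48) (ka xa16 ya8 za51) (ka xa21 ya50 za51) (ka xa25 ya44 za51) (ka xa25 ya44 za52) (ka xa25 ya44 za54) (ka xa18 ya52 za37) (ka xa19 ya38 za54) (ka xa17 ya29 za43) (ka xa23 ya13 za10) (ka xa25 ya44 za41) (ka xa27 ya4 za0) (ka xa25 ya44 za43) (ka xa25 ya44 za45) (ka xa30 ya1 za25) (ka xa16 ya13 za61) (ka xa25 ya55 za10) (ka xa16 ya9 za15) (ka xa27 ya19 za53) (ka xa21 ya36 za13) (ka xa27 ya12 za47) (ka xa30 ya18 za17) (ka xa22 ya3 za48) (ka xa30 ya34 za11)) (@D3.rec (fun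 _ => Pt) (ka xa25 ya42 za32) (ka xa17 ya24 za24) (ka xa27 ya5 za61) (ka xa17 ya33 za58) (ka xa27 ya5 za60) (ka xa18 ya13 za59) (ka xa27 ya6 za1) (ka xa27 ya6 za0) (ka xa31 ya51 za52) (ka xa29 ya28 za53) (ka xa31 ya40 za27) (ka xa31 ya40 za7) (ka xa17 ya42 za16) (ka xa31 ya40 za44) (ka xa31 ya40 za9) (ka xa29 ya0 za13) (ka xa28 ya54 za48) (ka xa31 ya40 za5) (ka xa27 ya6 za2) (ka xa31 ya40 za3) (ka xa31 ya40 za1) (ka xa31 ya40 za2) (ka xa29 ya11 za25) (ka xa26 ya17 za3) (ka xa17 ya38 za55) (ka xa22 ya11 za7) (ka xa23 ya22 za10) (ka xa19 ya54 za48) (ka xa25 ya6 za4) (ka xa26 ya8 za1) (ka xa21 ya29 za18) (ka xa25 ya22 za49) (ka xa27 ya21 za12) (ka xa18 ya18 za40) (ka xa24 ya29 za14) (ka xa25 ya23 za13) (ka xa32 ya4 za31) (ka xa25 ya23 za15) (ka xa25 ya23 za16) (ka xa22 ya44 za47) (ka xa26 ya8 za17) (ka xa25 ya23 za21) (ka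 xa25 ya23 za22) (ka xa32 ya4 za34) (ka xa25 ya23 za25) (ka xa24 ya38 za11) (ka xa30 ya10 za57) (ka xa26 ya8 za7) (ka xa16 ya10 za6) (ka xa16 ya10 za7) (ka xa25 ya51 za59) (ka xa24 ya38 za20) (ka xa25 ya24 za46) (ka xa24 ya7 za16) (ka xa25 ya24 za48) (ka xa16 ya10 za9) (ka xa18 ya23 za0) (ka xa26 ya7 za14) (ka xa19 ya55 za10) (ka xa16 ya10 za10) (ka xa25 ya23 za20) (ka xa29 ya10 za7)) (@D3.rec (fun _ => Pt) (ka xa23 ya8 za36) (ka xa31 ya48 za47) (ka xa26 ya7 za11) (ka xa16 ya10 za14) (ka xa32 ya4 za41) (ka xa26 ya9 za4) (ka xa31 ya12 za18) (ka xa26 ya9 za2) (ka xa19 ya56 za29) (ka xa19 ya56 za28) (ka xa19 ya56 za26) (ka xa26 ya7 za2) (ka xa26 ya8 za33) (ka xa26 ya8 za48) (ka xa26 ya6 za57) (ka xa26 ya8 za34) (ka xa19 ya54 za0) (ka xa19 ya54 za1) (ka xa25 ya48 za29) (ka xa23 ya52 za28) (ka xa18 ya19 za24) (ka xa18 ya19 za26)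 (ka xa23 ya46 za18) (ka xa23 ya46 za17) (ka xa16 ya10 za46) (ka xa30 ya37 za36) (ka xa16 ya10 za34) (ka xa16 ya10 za45) (ka xa30 ya3 za12) (ka xa23 ya21 za49) (ka xa30 ya2 za39) (ka xa26 ya8 za61) (ka xa30 ya2 za40) (ka xa26 ya8 za25) (ka xa16 ya10 za41) (ka xa26 ya47 za5) (ka xa32 ya4 za44) (ka xa29 ya6 za26) (ka xa29 ya6 za25) (ka xa25 ya2 za46) (ka xa23 ya52 za30) (ka xa25 ya2 za45) (ka xa23 ya21 za26) (ka xa26 ya3 za21) (ka xa26 ya8 za24) (ka xa21 ya6 za44) (ka xa23 ya44 za10) (ka xa26 ya9 za5) (ka xa22 ya30 za33) (ka xa23 ya21 za23) (ka xa24 ya32 za26) (ka xa19 ya3 za4) (ka xa16 ya12 za33) (ka xa22 ya4 za19) (ka xa16 ya11 za12) (ka xa22 ya3 za54) (ka xa26 ya11 za14) (ka xa26 ya35 za55) (ka xa16 ya36 za16) (ka xa29 ya44 za56) (ka xa29 ya44 za57) (ka xa25 ya36 za44)) (@D3.rec (fun _ => Pt) (ka xa24 ya23 za35) (ka xa26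 ya6 za29) (ka xa21 ya2 za22) (ka xa21 ya2 za26) (ka xa21 ya2 za28) (ka xa24 ya34 za53) (ka xa19 ya54 za46) (ka xa26 ya6 za47) (ka xa19 ya54 za44) (ka xa16 ya11 za41) (ka xa16 ya11 za29) (ka xa16 ya11 za30) (ka xa16 ya11 za28) (ka xa31 ya36 za30) (ka xa22 ya5 za23) (ka xa18 ya18 za19) (ka xa16 ya11 za34) (ka xa26 ya6 za40) (ka xa32 ya4 za52) (ka xa31 ya34 za8) (ka xa22 ya4 za38) (ka xa29 ya44 za11) (ka xa30 ya42 za28) (ka xa23 ya42 za38) (ka xa26 ya7 za44) (ka xa26 ya7 za33) (ka xa23 ya35 za6) (ka xa31 ya58 za17) (ka xa30 ya13 za20) (ka xa26 ya47 za7) (ka xa26 ya47 za6) (ka xa16 ya49 za54) (ka xa25 ya2 za26) (ka xa26 ya7 za12) (ka xa26 ya7 za15) (ka xa18 ya40 za22) (ka xa18 ya40 za23) (ka xa29 ya49 za60) (ka xa18 ya41 za0) (ka xa18 ya41 za1) (ka xa18 ya41 za5) (ka xa25 ya14 za37) (ka xa26 ya0 za51) (ka xa27 ya44 za56) (ka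 xa29 ya30 za24) (ka xa29 ya30 za25) (ka xa16 ya12 za1) (ka xa26 ya9 za52) (ka xa26 ya7 za13) (ka xa31 ya0 za43) (ka xa31 ya0 za44) (ka xa25 ya2 za24) (ka xa29 ya22 za1) (ka xa24 ya59 za55) (ka xa31 ya59 za2) (ka xa23 ya20 za14) (ka xa26 ya25 za34) (ka xa20 ya0 za45) (ka xa27 ya57 za54) (ka xa24 ya28 za27) (ka xa21 ya29 za23) (ka xa26 ya7 za31)) (@D3.rec (fun _ => Pt) (ka xa24 ya59 za56) (ka xa32 ya5 za4) (ka xa26 ya7 za7) (ka xa30 ya5 za33) (ka xa26 ya7 za5) (ka xa26 ya7 za47) (ka xa22 ya16 za50) (ka xa23 ya10 za9) (ka xa27 ya44 za43) (ka xa19 ya55 za54) (ka xa25 ya58 za20) (ka xa21 ya36 za60) (ka xa28 ya34 za8) (ka xa16 ya12 za34) (ka xa16 ya12 za35) (ka xa16 ya12 za36) (ka xa30 ya13 za27) (ka xa31 ya29 za31) (ka xa21 ya0 za49) (ka xa24 ya25 za29) (ka xa24 ya25 za30) (ka xa16 ya12 za39) (ka xa18 ya22 za56) (ka xa30 ya59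 za7) (ka xa32 ya5 za7) (ka xa16 ya12 za40) (ka xa32 ya5 za8) (ka xa16 ya12 za38) (ka xa23 ya17 za10) (ka xa16 ya12 za44) (ka xa24 ya23 za37) (ka xa31 ya39 za3) (ka xa30 ya33 za42) (ka xa24 ya23 za41) (ka xa30 ya59 za37) (ka xa30 ya59 za36) (ka xa30 ya57 za59) (ka xa30 ya57 za58) (ka xa30 ya42 za43) (ka xa26 ya10 za15) (ka xa23 ya32 za58) (ka xa26 ya10 za16) (ka xa23 ya25 za3) (ka xa26 ya10 za17) (ka xa26 ya10 za18) (ka xa26 ya10 za19) (ka xa25 ya20 za48) (ka xa29 ya6 za18) (ka xa19 ya55 za31) (ka xa24 ya52 za47) (ka xa25 ya20 za0) (ka xa25 ya20 za42) (ka xa26 ya8 za47) (ka xa16 ya13 za8) (ka xa16 ya13 za9) (ka xa19 ya26 za27) (ka xa23 ya32 za21) (ka xa24 ya33 za47) (ka xa28 ya37 za7) (ka xa31 ya50 za51) (ka xa18 ya18 za4) (ka xa32 ya3 za41)) (@D3.rec (fun _ => Pt) (ka xa23 ya31 za61) (ka xa16 ya13 za12) (ka xa25 ya23 za12)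 (ka xa29 ya11 za28) (ka xa24 ya3 za47) (ka xa31 ya6 za31) (ka xa16 ya13 za16) (ka xa16 ya13 za17) (ka xa26 ya25 za15) (ka xa20 ya32 za46) (ka xa24 ya9 za33) (ka xa29 ya6 za21) (ka xa29 ya6 za20) (ka xa29 ya6 za16) (ka xa29 ya6 za17) (ka xa26 ya9 za39) (ka xa26 ya9 za41) (ka xa26 ya9 za43) (ka xa26 ya9 za44) (ka xa26 ya9 za45) (ka xa19 ya23 za35) (ka xa18 ya1 za42) (ka xa18 ya2 za15) (ka xa25 ya25 za29) (ka xa25 ya25 za30) (ka xa20 ya16 za7) (ka xa27 ya29 za38) (ka xa27 ya29 za37) (ka xa17 ya36 za55) (ka xa21 ya10 za12) (ka xa22 ya10 za35) (ka xa17 ya48 za52) (ka xa22 ya9 za38) (ka xa17 ya33 za17) (ka xa22 ya15 za19) (ka xa21 ya59 za43) (ka xa26 ya37 za24) (ka xa29 ya12 za56) (ka xa16 ya13 za46) (ka xa17 ya39 za60) (ka xa18 ya25 za22) (ka xa26 ya44 za42) (ka xa17 ya6 za23) (ka xa16 ya55 za46) (ka xa17 ya44 za61) (ka xa31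 ya58 za51) (ka xa27 ya1 za9) (ka xa16 ya16 za43) (ka xa24 ya54 za48) (ka xa23 ya49 za55) (ka xa21 ya58 za37) (ka xa16 ya14 za3) (ka xa24 ya18 za2) (ka xa20 ya27 za42) (ka xa16 ya14 za5) (ka xa17 ya40 za2) (ka xa16 ya14 za2) (ka xa23 ya35 za55) (ka xa23 ya13 za3) (ka xa23 ya35 za54) (ka xa31 ya44 za41) (ka xa32 ya5 za27)) (@D3.rec (fun _ => Pt) (ka xa27 ya3 za41) (ka xa27 ya51 za5) (ka xa27 ya3 za46) (ka xa16 ya14 za9) (ka xa29 ya49 za12) (ka xa31 ya34 za45) (ka xa32 ya5 za29) (ka xa24 ya3 za37) (ka xa31 ya34 za52) (ka xa31 ya38 za52) (ka xa26 ya25 za33) (ka xa16 ya36 za57) (ka xa16 ya36 za56) (ka xa16 ya14 za11) (ka xa26 ya7 za56) (ka xa20 ya51 za14) (ka xa21 ya48 za7) (ka xa30 ya14 za24) (ka xa21 ya26 za57) (ka xa16 ya15 za46) (ka xa29 ya31 za46) (ka xa27 ya25 za32) (ka xa16 ya14 za21) (ka xa17 ya40 za3) (ka xa17 ya39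 za61) (ka xa27 ya27 za52) (ka xa17 ya40 za54) (ka xa21 ya33 za25) (ka xa22 ya11 za28) (ka xa17 ya41 za15) (ka xa17 ya41 za16) (ka xa17 ya40 za51) (ka xa27 ya23 za23) (ka xa17 ya40 za0) (ka xa16 ya14 za29) (ka xa17 ya40 za6) (ka xa17 ya40 za5) (ka xa27 ya28 za14) (ka xa27 ya3 za56) (ka xa16 ya14 za45) (ka xa16 ya14 za35) (ka xa17 ya37 za42) (ka xa32 ya5 za36) (ka xa27 ya27 za44) (ka xa25 ya35 za54) (ka xa27 ya29 za58) (ka xa27 ya29 za59) (ka xa17 ya35 za16) (ka xa16 ya14 za41) (ka xa16 ya14 za42) (ka xa16 ya14 za43) (ka xa16 ya14 za44) (ka xa32 ya5 za41) (ka xa32 ya5 za42) (ka xa27 ya31 za53) (ka xa30 ya59 za60) (ka xa32 ya5 za43) (ka xa24 ya31 za37) (ka xa32 ya5 za35) (ka xa32 ya5 za45) (ka xa32 ya5 za46) (ka xa28 ya44 za3)) (@D3.rec (fun _ => Pt) (ka xa27 ya28 za27) (ka xa32 ya5 za47) (ka xa28 ya41 za43) (ka xa16 ya18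 za24) (ka xa27 ya45 za60) (ka xa17 ya37 za6) (ka xa17 ya41 za29) (ka xa27 ya26 za18) (ka xa27 ya26 za19) (ka xa27 ya28 za40) (ka xa18 ya27 za26) (ka xa31 ya38 za11) (ka xa27 ya28 za31) (ka xa31 ya38 za13) (ka xa26 ya16 za43) (ka xa17 ya42 za55) (ka xa17 ya30 za31) (ka xa18 ya6 za57) (ka xa26 ya16 za39) (ka xa27 ya26 za55) (ka xa18 ya8 za31) (ka xa31 ya1 za32) (ka xa25 ya15 za43) (ka xa25 ya15 za44) (ka xa31 ya14 za47) (ka xa28 ya27 za44) (ka xa25 ya15 za57) (ka xa25 ya15 za45) (ka xa16 ya15 za0) (ka xa25 ya3 za39) (ka xa31 ya37 za57) (ka xa25 ya55 za4) (ka xa29 ya0 za16) (ka xa31 ya38 za14) (ka xa18 ya8 za16) (ka xa29 ya17 za23) (ka xa23 ya30 za39) (ka xa16 ya15 za11) (ka xa16 ya15 za13) (ka xa16 ya15 za14) (ka xa16 ya15 za15) (ka xa28 ya4 za19) (ka xa27 ya30 za49) (ka xa18 ya8 za42) (ka xa19 ya19 za41) (ka xa18 ya7 za25)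 (ka xa18 ya7 za23) (ka xa31 ya7 za22) (ka xa25 ya15 za56) (ka xa31 ya7 za0) (ka xa32 ya6 za1) (ka xa23 ya51 za21) (ka xa18 ya3 za61) (ka xa18 ya5 za14) (ka xa30 ya3 za31) (ka xa31 ya7 za44) (ka xa18 ya5 za12) (ka xa26 ya16 za36) (ka xa16 ya15 za27) (ka xa21 ya44 za23) (ka xa25 ya45 za30) (ka xa27 ya38 za59)) (@D3.rec (fun _ => Pt) (ka xa21 ya42 za24) (ka xa26 ya4 za7) (ka xa21 ya33 za11) (ka xa26 ya14 za46) (ka xa26 ya14 za47) (ka xa29 ya50 za35) (ka xa16 ya15 za35) (ka xa31 ya14 za20) (ka xa21 ya49 za57) (ka xa19 ya2 za1) (ka xa16 ya15 za43) (ka xa16 ya15 za44) (ka xa16 ya15 za45) (ka xa16 ya15 za47) (ka xa16 ya15 za48) (ka xa25 ya35 za7) (ka xa26 ya19 za31) (ka xa24 ya55 za46) (ka xa23 ya51 za47) (ka xa27 ya30 za29) (ka xa20 ya46 za52) (ka xa24 ya56 za16) (ka xa29 ya39 za48) (ka xa31 ya1 za19) (ka xa28 ya3 za48) (ka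 xa27 ya31 za13) (ka xa32 ya6 za4) (ka xa27 ya31 za50) (ka xa25 ya0 za59) (ka xa25 ya1 za8) (ka xa16 ya22 za57) (ka xa26 ya17 za48) (ka xa24 ya57 za41) (ka xa27 ya31 za21) (ka xa27 ya31 za22) (ka xa26 ya15 za14) (ka xa24 ya28 za26) (ka xa25 ya46 za0) (ka xa25 ya46 za1) (ka xa26 ya18 za15) (ka xa27 ya39 za46) (ka xa27 ya39 za48) (ka xa26 ya21 za0) (ka xa31 ya38 za17) (ka xa31 ya38 za18) (ka xa27 ya48 za59) (ka xa18 ya6 za59) (ka xa27 ya39 za44) (ka xa23 ya37 za55) (ka xa30 ya18 za52) (ka xa23 ya50 za10) (ka xa27 ya25 za52) (ka xa27 ya25 za50) (ka xa16 ya16 za4) (ka xa25 ya54 za3) (ka xa25 ya58 za5) (ka xa25 ya58 za6) (ka xa24 ya45 za19) (ka xa25 ya59 za10) (ka xa16 ya16 za12) (ka xa16 ya16 za13) (ka xa16 ya16 za14)) (@D3.rec (fun _ => Pt) (ka xa16 ya16 za15) (ka xa16 ya16 za16) (ka xa27 ya50 za29) (ka xa17 ya54 za8) (ka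 xa32 ya6 za17) (ka xa17 ya21 za41) (ka xa17 ya40 za26) (ka xa17 ya21 za40) (ka xa17 ya39 za14) (ka xa25 ya57 za10) (ka xa17 ya39 za12) (ka xa27 ya31 za2) (ka xa26 ya19 za6) (ka xa26 ya19 za7) (ka xa31 ya35 za22) (ka xa26 ya19 za13) (ka xa18 ya7 za2) (ka xa18 ya8 za12) (ka xa18 ya8 za13) (ka xa26 ya5 za11) (ka xa18 ya8 za20) (ka xa28 ya41 za21) (ka xa23 ya35 za51) (ka xa27 ya30 za42) (ka xa25 ya57 za7) (ka xa21 ya36 za6) (ka xa27 ya30 za43) (ka xa27 ya30 za44) (ka xa31 ya38 za25) (ka xa24 ya43 za18) (ka xa28 ya27 za33) (ka xa30 ya6 za0) (ka xa18 ya5 za32) (ka xa30 ya8 za25) (ka xa26 ya48 za17) (ka xa19 ya14 za56) (ka xa16 ya16 za37) (ka xa27 ya48 za35) (ka xa27 ya56 za51) (ka xa25 ya57 za29) (ka xa25 ya57 za30) (ka xa27 ya29 za17) (ka xa22 ya9 za58) (ka xa16 ya18 za55) (ka xa27 ya31 za4) (ka xa30 ya7 za38) (ka xa26 ya13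 za3) (ka xa26 ya13 za4) (ka xa23 ya42 za46) (ka xa24 ya59 za0) (ka xa27 ya4 za49) (ka xa21 ya59 za39) (ka xa28 ya4 za1) (ka xa23 ya42 za47) (ka xa28 ya5 za23) (ka xa26 ya18 za52) (ka xa23 ya20 za60) (ka xa27 ya1 za20) (ka xa27 ya30 za56) (ka xa23 ya37 za49) (ka xa18 ya6 za30) (ka xa27 ya30 za57)) (@D3.rec (fun _ => Pt) (ka xa16 ya18 za43) (ka xa17 ya39 za4) (ka xa31 ya38 za24) (ka xa25 ya43 za14) (ka xa17 ya48 za5) (ka xa27 ya39 za31) (ka xa16 ya17 za15) (ka xa27 ya31 za31) (ka xa31 ya38 za21) (ka xa19 ya44 za11) (ka xa25 ya57 za5) (ka xa25 ya58 za55) (ka xa19 ya53 za21) (ka xa22 ya2 za57) (ka xa26 ya13 za35) (ka xa27 ya40 za18) (ka xa23 ya49 za50) (ka xa30 ya14 za36) (ka xa24 ya56 za13) (ka xa27 ya40 za7) (ka xa27 ya28 za32) (ka xa17 ya45 za19) (ka xa27 ya40 za5) (ka xa27 ya40 za6) (ka xa16 ya18 za46) (ka xa16 ya17 za38)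 (ka xa16 ya17 za41) (ka xa24 ya36 za46) (ka xa29 ya51 za23) (ka xa32 ya6 za29) (ka xa25 ya10 za56) (ka xa26 ya18 za4) (ka xa26 ya18 za5) (ka xa17 ya45 za23) (ka xa26 ya18 za2) (ka xa26 ya18 za3) (ka xa20 ya11 za7) (ka xa20 ya11 za6) (ka xa32 ya6 za30) (ka xa31 ya44 za15) (ka xa30 ya2 za55) (ka xa23 ya17 za8) (ka xa23 ya35 za38) (ka xa16 ya18 za25) (ka xa17 ya45 za22) (ka xa16 ya17 za56) (ka xa17 ya45 za25) (ka xa17 ya45 za26) (ka xa30 ya11 za13) (ka xa30 ya11 za17) (ka xa16 ya18 za8) (ka xa23 ya49 za48) (ka xa18 ya5 za7) (ka xa19 ya5 za20) (ka xa24 ya11 za17) (ka xa23 ya44 za37) (ka xa23 ya44 za38) (ka xa21 ya25 za28) (ka xa16 ya18 za18) (ka xa16 ya18 za20) (ka xa16 ya18 za21) (ka xa16 ya18 za22)) (@D3.rec (fun _ => Pt) (ka xa16 ya18 za14) (ka xa28 ya46 za23) (ka xa28 ya54 za3) (ka xa28 ya29 za38) (ka xa23 ya50 za12) (ka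 xa22 ya15 za15) (ka xa27 ya29 za60) (ka xa27 ya46 za14) (ka xa28 ya28 za35) (ka xa16 ya18 za27) (ka xa16 ya18 za28) (ka xa27 ya39 za33) (ka xa17 ya52 za20) (ka xa26 ya4 za18) (ka xa18 ya16 za59) (ka xa18 ya16 za57) (ka xa16 ya18 za31) (ka xa27 ya39 za57) (ka xa27 ya39 za56) (ka xa26 ya31 za6) (ka xa27 ya54 za25) (ka xa18 ya6 za45) (ka xa27 ya39 za40) (ka xa27 ya39 za41) (ka xa27 ya39 za42) (ka xa28 ya10 za29) (ka xa16 ya18 za37) (ka xa17 ya51 za42) (ka xa31 ya57 za55) (ka xa27 ya27 za33) (ka xa31 ya38 za31) (ka xa24 ya55 za39) (ka xa32 ya3 za55) (ka xa31 ya38 za32) (ka xa18 ya3 za33) (ka xa30 ya4 za1) (ka xa26 ya12 za57) (ka xa18 ya6 za46) (ka xa27 ya29 za13) (ka xa26 ya12 za18) (ka xa31 ya38 za33) (ka xa27 ya31 za30) (ka xa27 ya31 za32) (ka xa26 ya12 za14) (ka xa28 ya6 za31) (ka xa21 ya26 za22) (ka xa19 ya35 za56) (ka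 xa19 ya35 za58) (ka xa16 ya19 za0) (ka xa27 ya17 za51) (ka xa30 ya1 za38) (ka xa32 ya6 za53) (ka xa31 ya45 za23) (ka xa25 ya55 za40) (ka xa25 ya29 za37) (ka xa25 ya27 za12) (ka xa25 ya29 za39) (ka xa20 ya3 za58) (ka xa27 ya25 za40) (ka xa27 ya39 za28) (ka xa27 ya25 za35) (ka xa16 ya19 za7)) (@D3.rec (fun _ => Pt) (ka xa17 ya37 za50) (ka xa23 ya22 za41) (ka xa23 ya22 za15) (ka xa26 ya6 za23) (ka xa27 ya5 za48) (ka xa16 ya19 za13) (ka xa16 ya19 za14) (ka xa16 ya19 za15) (ka xa31 ya48 za20) (ka xa31 ya1 za18) (ka xa26 ya19 za15) (ka xa26 ya19 za16) (ka xa26 ya19 za34) (ka xa26 ya19 za17) (ka xa26 ya19 za18) (ka xa21 ya53 za32) (ka xa26 ya18 za43) (ka xa26 ya18 za44) (ka xa27 ya54 za27) (ka xa16 ya19 za36) (ka xa16 ya19 za38) (ka xa16 ya19 za40) (ka xa28 ya45 za57) (ka xa20 ya10 za45) (ka xa20 ya10 za46) (ka xa20 ya10 za47)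 (ka xa17 ya3 za45) (ka xa20 ya10 za49) (ka xa28 ya46 za1) (ka xa20 ya10 za41) (ka xa29 ya18 za31) (ka xa20 ya10 za13) (ka xa20 ya10 za19) (ka xa29 ya18 za34) (ka xa20 ya10 za3) (ka xa27 ya33 za25) (ka xa27 ya33 za23) (ka xa30 ya58 za29) (ka xa28 ya0 za11) (ka xa20 ya36 za32) (ka xa27 ya9 za36) (ka xa29 ya32 za28) (ka xa24 ya46 za45) (ka xa29 ya53 za43) (ka xa26 ya24 za33) (ka xa29 ya24 za61) (ka xa26 ya31 za58) (ka xa28 ya28 za11) (ka xa26 ya13 za31) (ka xa31 ya38 za38) (ka xa31 ya6 za9) (ka xa31 ya38 za39) (ka xa29 ya0 za41) (ka xa26 ya20 za34) (ka xa25 ya9 za2) (ka xa29 ya50 za22) (ka xa31 ya38 za41) (ka xa31 ya38 za42) (ka xa26 ya24 za41) (ka xa26 ya24 za40) (ka xa16 ya19 za53) (ka xa28 ya11 za61)) (@D3.rec (fun _ => Pt) (ka xa28 ya42 za50) (ka xa27 ya39 za27) (ka xa26 ya15 za34) (ka xa26 ya15 za35) (ka xa26 ya15 za31)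 (ka xa26 ya15 za32) (ka xa20 ya3 za61) (ka xa21 ya22 za52) (ka xa27 ya26 za50) (ka xa16 ya20 za8) (ka xa17 ya30 za26) (ka xa21 ya43 za28) (ka xa27 ya39 za47) (ka xa30 ya35 za16) (ka xa20 ya11 za10) (ka xa26 ya13 za39) (ka xa27 ya39 za50) (ka xa27 ya39 za51) (ka xa26 ya20 za51) (ka xa16 ya20 za13) (ka xa26 ya4 za38) (ka xa18 ya19 za59) (ka xa25 ya5 za11) (ka xa20 ya7 za45) (ka xa17 ya48 za45) (ka xa29 ya25 za4) (ka xa18 ya7 za27) (ka xa23 ya32 za11) (ka xa26 ya21 za60) (ka xa19 ya20 za51) (ka xa18 ya41 za30) (ka xa20 ya10 za61) (ka xa32 ya7 za20) (ka xa20 ya10 za54) (ka xa20 ya10 za56) (ka xa20 ya10 za57) (ka xa27 ya37 za59) (ka xa20 ya11 za2) (ka xa24 ya55 za32) (ka xa26 ya21 za39) (ka xa20 ya8 za21) (ka xa26 ya21 za36) (ka xa26 ya21 za37) (ka xa26 ya17 za16) (ka xa26 ya17 za17) (ka xa18 ya4 za52) (ka xa31 ya43 za2) (ka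 xa27 ya33 za43) (ka xa27 ya33 za44) (ka xa26 ya19 za25) (ka xa27 ya58 za36) (ka xa27 ya52 za26) (ka xa26 ya14 za55) (ka xa28 ya0 za6) (ka xa31 ya38 za45) (ka xa31 ya38 za46) (ka xa26 ya19 za24) (ka xa28 ya0 za2) (ka xa24 ya53 za54) (ka xa24 ya53 za58) (ka xa24 ya53 za59) (ka xa24 ya53 za57)) (@D3.rec (fun _ => Pt) (ka xa20 ya7 za8) (ka xa20 ya7 za9) (ka xa32 ya7 za29) (ka xa27 ya5 za29) (ka xa27 ya5 za28) (ka xa26 ya21 za3) (ka xa26 ya14 za12) (ka xa26 ya14 za13) (ka xa22 ya14 za36) (ka xa27 ya40 za24) (ka xa30 ya44 za24) (ka xa30 ya44 za25) (ka xa28 ya1 za47) (ka xa26 ya14 za15) (ka xa28 ya27 za45) (ka xa26 ya17 za10) (ka xa26 ya17 za11) (ka xa26 ya17 za13) (ka xa26 ya17 za14) (ka xa19 ya0 za15) (ka xa29 ya53 za14) (ka xa26 ya21 za18) (ka xa31 ya32 za46) (ka xa19 ya1 za45) (ka xa26 ya18 za56) (ka xa26 ya18 za49) (ka xa26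 ya31 za56) (ka xa18 ya12 za4) (ka xa27 ya34 za8) (ka xa18 ya33 za12) (ka xa16 ya21 za22) (ka xa26 ya13 za16) (ka xa19 ya4 za6) (ka xa16 ya33 za18) (ka xa26 ya17 za12) (ka xa28 ya13 za0) (ka xa26 ya23 za29) (ka xa28 ya41 za26) (ka xa31 ya22 za21) (ka xa17 ya21 za58) (ka xa16 ya22 za13) (ka xa30 ya45 za41) (ka xa17 ya41 za4) (ka xa16 ya51 za23) (ka xa17 ya29 za58) (ka xa18 ya32 za59) (ka xa27 ya49 za42) (ka xa29 ya20 za26) (ka xa27 ya53 za52) (ka xa30 ya31 za57) (ka xa16 ya22 za12) (ka xa16 ya21 za57) (ka xa24 ya55 za60) (ka xa24 ya55 za61) (ka xa19 ya2 za4) (ka xa30 ya46 za2) (ka xa27 ya58 za21) (ka xa27 ya58 za23) (ka xa28 ya26 za41) (ka xa16 ya22 za0) (ka xa18 ya14 za54) (ka xa29 ya20 za24)) (@D3.rec (fun _ => Pt) (ka xa29 ya20 za25) (ka xa26 ya32 za44) (ka xa26 ya32 za43) (ka xa26 ya32 za32) (ka xa25 ya0 za12) (ka xa25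 ya46 za14) (ka xa18 ya56 za42) (ka xa27 ya46 za35) (ka xa28 ya2 za29) (ka xa20 ya38 za53) (ka xa32 ya7 za34) (ka xa28 ya2 za28) (ka xa20 ya10 za21) (ka xa28 ya2 za27) (ka xa16 ya31 za20) (ka xa16 ya31 za18) (ka xa28 ya55 za37) (ka xa17 ya7 za15) (ka xa29 ya19 za33) (ka xa16 ya22 za27) (ka xa16 ya22 za28) (ka xa30 ya53 za49) (ka xa30 ya53 za51) (ka xa28 ya27 za13) (ka xa26 ya56 za12) (ka xa22 ya53 za7) (ka xa25 ya18 za41) (ka xa19 ya1 za35) (ka xa28 ya26 za49) (ka xa26 ya26 za6) (ka xa28 ya26 za50) (ka xa25 ya28 za35) (ka xa31 ya38 za59) (ka xa29 ya14 za32) (ka xa26 ya17 za53) (ka xa26 ya45 za10) (ka xa29 ya4 za45) (ka xa29 ya3 za37) (ka xa19 ya21 za47) (ka xa19 ya9 za45) (ka xa19 ya22 za8) (ka xa23 ya11 za46) (ka xa16 ya35 za61) (ka xa20 ya32 za13) (ka xa16 ya35 za50) (ka xa27 ya39 za32) (ka xa16 ya22 za52) (ka xa27 ya40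 za4) (ka xa16 ya22 za53) (ka xa27 ya56 za15) (ka xa28 ya4 za27) (ka xa26 ya18 za18) (ka xa28 ya4 za28) (ka xa31 ya39 za0) (ka xa27 ya47 za48) (ka xa18 ya16 za25) (ka xa23 ya51 za24) (ka xa26 ya30 za33) (ka xa31 ya38 za61) (ka xa18 ya5 za28) (ka xa19 ya6 za33) (ka xa29 ya38 za45)) (@D3.rec (fun _ => Pt) (ka xa26 ya13 za42) (ka xa27 ya46 za4) (ka xa26 ya30 za23) (ka xa26 ya19 za5) (ka xa26 ya30 za45) (ka xa26 ya30 za44) (ka xa32 ya7 za53) (ka xa31 ya32 za57) (ka xa28 ya28 za38) (ka xa16 ya23 za9) (ka xa26 ya30 za39) (ka xa27 ya29 za12) (ka xa18 ya7 za10) (ka xa19 ya22 za27) (ka xa28 ya9 za41) (ka xa26 ya29 za20) (ka xa23 ya8 za59) (ka xa28 ya27 za11) (ka xa26 ya19 za21) (ka xa29 ya52 za50) (ka xa31 ya39 za1) (ka xa23 ya9 za18) (ka xa29 ya52 za51) (ka xa27 ya40 za34) (ka xa29 ya53 za13) (ka xa26 ya26 za5) (ka xa30 ya54 za28)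 (ka xa29 ya53 za15) (ka xa27 ya40 za36) (ka xa26 ya31 za50) (ka xa26 ya31 za51) (ka xa28 ya55 za36) (ka xa26 ya30 za46) (ka xa16 ya34 za22) (ka xa16 ya34 za21) (ka xa16 ya23 za31) (ka xa26 ya18 za41) (ka xa26 ya18 za42) (ka xa32 ya6 za37) (ka xa26 ya18 za39) (ka xa18 ya19 za52) (ka xa28 ya7 za20) (ka xa21 ya12 za37) (ka xa29 ya54 za14) (ka xa29 ya54 za13) (ka xa16 ya23 za43) (ka xa21 ya29 za48) (ka xa21 ya28 za47) (ka xa21 ya11 za42) (ka xa20 ya35 za53) (ka xa21 ya18 za36) (ka xa20 ya51 za34) (ka xa29 ya54 za57) (ka xa28 ya55 za15) (ka xa29 ya31 za48) (ka xa30 ya52 za53) (ka xa30 ya52 za54) (ka xa25 ya17 za47) (ka xa23 ya26 za2) (ka xa23 ya26 za3) (ka xa26 ya18 za28) (ka xa20 ya19 za45)) (@D3.rec (fun _ => Pt) (ka xa26 ya23 za31) (ka xa30 ya57 za50) (ka xa17 ya23 za2) (ka xa17 ya23 za5) (ka xa21 ya12 za32) (ka xa21 ya13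 za37) (ka xa16 ya24 za41) (ka xa16 ya24 za42) (ka xa16 ya24 za43) (ka xa16 ya24 za48) (ka xa25 ya52 za7) (ka xa17 ya2 za28) (ka xa17 ya2 za31) (ka xa21 ya11 za50) (ka xa21 ya11 za51) (ka xa32 ya8 za6) (ka xa28 ya53 za35) (ka xa28 ya47 za49) (ka xa24 ya34 za36) (ka xa30 ya51 za7) (ka xa32 ya8 za7) (ka xa30 ya52 za59) (ka xa17 ya15 za3) (ka xa21 ya38 za9) (ka xa20 ya7 za52) (ka xa28 ya32 za44) (ka xa19 ya17 za54) (ka xa28 ya12 za48) (ka xa16 ya26 za23) (ka xa31 ya42 za0) (ka xa17 ya25 za2) (ka xa21 ya29 za0) (ka xa24 ya47 za5) (ka xa24 ya31 za4) (ka xa28 ya36 za42) (ka xa20 ya35 za45) (ka xa21 ya29 za35) (ka xa19 ya46 za61) (ka xa21 ya29 za14) (ka xa21 ya29 za15) (ka xa26 ya23 za7) (ka xa27 ya41 za20) (ka xa21 ya29 za30) (ka xa21 ya29 za26) (ka xa21 ya29 za37) (ka xa23 ya40 za55) (ka xa21 ya29 za40) (ka xa21 ya29 za41) (ka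 xa21 ya29 za42) (ka xa21 ya29 za43) (ka xa21 ya11 za40) (ka xa21 ya30 za3) (ka xa16 ya26 za26) (ka xa20 ya35 za58) (ka xa26 ya25 za26) (ka xa16 ya25 za29) (ka xa16 ya25 za31) (ka xa17 ya2 za36) (ka xa16 ya25 za38) (ka xa21 ya44 za12) (ka xa20 ya15 za53) (ka xa29 ya24 za14)) (@D3.rec (fun _ => Pt) (ka xa24 ya57 za39) (ka xa28 ya24 za38) (ka xa27 ya58 za44) (ka xa22 ya56 za48) (ka xa27 ya14 za7) (ka xa20 ya52 za18) (ka xa23 ya33 za21) (ka xa26 ya22 za40) (ka xa16 ya49 za59) (ka xa19 ya56 za8) (ka xa19 ya55 za34) (ka xa27 ya57 za28) (ka xa30 ya2 za53) (ka xa26 ya1 za12) (ka xa27 ya57 za26) (ka xa26 ya28 za51) (ka xa16 ya34 za35) (ka xa25 ya14 za27) (ka xa25 ya6 za57) (ka xa20 ya14 za22) (ka xa16 ya26 za14) (ka xa16 ya26 za15) (ka xa16 ya26 za16) (ka xa16 ya26 za22) (ka xa16 ya26 za27) (ka xa16 ya26 za28) (ka xa16 ya26 za31)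 (ka xa16 ya26 za36) (ka xa20 ya45 za16) (ka xa26 ya19 za36) (ka xa19 ya23 za41) (ka xa26 ya22 za0) (ka xa20 ya45 za18) (ka xa20 ya45 za19) (ka xa19 ya23 za56) (ka xa28 ya48 za41) (ka xa19 ya19 za59) (ka xa29 ya27 za0) (ka xa31 ya28 za48) (ka xa29 ya7 za45) (ka xa32 ya4 za14) (ka xa17 ya0 za57) (ka xa28 ya43 za17) (ka xa18 ya43 za61) (ka xa30 ya17 za8) (ka xa30 ya32 za56) (ka xa25 ya54 za10) (ka xa17 ya1 za17) (ka xa30 ya54 za32) (ka xa23 ya10 za4) (ka xa23 ya10 za3) (ka xa20 ya49 za42) (ka xa23 ya8 za5) (ka xa20 ya17 za59) (ka xa22 ya52 za47) (ka xa22 ya2 za21) (ka xa20 ya49 za48) (ka xa16 ya26 za41) (ka xa27 ya41 za42) (ka xa27 ya41 za41) (ka xa32 ya8 za23) (ka xa20 ya36 za26)) (@D3.rec (fun _ => Pt) (ka xa26 ya42 za25) (ka xa28 ya58 za48) (ka xa20 ya45 za50) (ka xa32 ya8 za26) (ka xa26 ya31 za3) (ka xa27 ya44 za26) (ka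 xa30 ya47 za40) (ka xa25 ya28 za38) (ka xa23 ya18 za4) (ka xa27 ya41 za47) (ka xa28 ya58 za61) (ka xa31 ya56 za30) (ka xa25 ya11 za35) (ka xa27 ya41 za48) (ka xa26 ya24 za45) (ka xa22 ya48 za33) (ka xa32 ya8 za29) (ka xa29 ya36 za39) (ka xa20 ya8 za20) (ka xa30 ya24 za21) (ka xa22 ya54 za60) (ka xa16 ya27 za6) (ka xa31 ya58 za16) (ka xa19 ya0 za58) (ka xa20 ya29 za40) (ka xa24 ya13 za20) (ka xa26 ya30 za50) (ka xa26 ya30 za8) (ka xa30 ya47 za35) (ka xa20 ya37 za5) (ka xa27 ya42 za2) (ka xa27 ya42 za3) (ka xa27 ya42 za4) (ka xa26 ya17 za44) (ka xa22 ya6 za49) (ka xa24 ya5 za31) (ka xa29 ya28 za0) (ka xa27 ya42 za5) (ka xa16 ya27 za29) (ka xa16 ya27 za25) (ka xa26 ya17 za59) (ka xa26 ya17 za58) (ka xa16 ya27 za28) (ka xa17 ya57 za36) (ka xa24 ya7 za39) (ka xa26 ya24 za14) (ka xa24 ya13 za42) (ka xa25 ya28 za33) (ka xa16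 ya30 za15) (ka xa20 ya29 za27) (ka xa20 ya34 za52) (ka xa22 ya37 za56) (ka xa27 ya42 za12) (ka xa27 ya40 za37) (ka xa20 ya8 za2) (ka xa20 ya29 za44) (ka xa20 ya29 za45) (ka xa26 ya56 za22) (ka xa29 ya14 za43) (ka xa23 ya20 za45) (ka xa21 ya13 za15) (ka xa26 ya28 za17)) (@D3.rec (fun _ => Pt) (ka xa17 ya15 za9) (ka xa25 ya50 za37) (ka xa29 ya9 za35) (ka xa27 ya57 za40) (ka xa20 ya1 za18) (ka xa20 ya1 za19) (ka xa20 ya1 za20) (ka xa28 ya14 za2) (ka xa25 ya2 za35) (ka xa26 ya30 za19) (ka xa29 ya14 za54) (ka xa29 ya18 za17) (ka xa28 ya12 za37) (ka xa19 ya56 za23) (ka xa25 ya46 za18) (ka xa26 ya10 za8) (ka xa28 ya12 za21) (ka xa28 ya12 za22) (ka xa28 ya12 za23) (ka xa24 ya47 za20) (ka xa24 ya47 za34) (ka xa31 ya43 za17) (ka xa23 ya36 za10) (ka xa16 ya33 za40) (ka xa16 ya33 za41) (ka xa20 ya50 za2) (ka xa26 ya22 za54) (ka xa16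 ya28 za31) (ka xa16 ya28 za36) (ka xa24 ya54 za12) (ka xa20 ya13 za57) (ka xa23 ya32 za25) (ka xa29 ya38 za17) (ka xa26 ya11 za10) (ka xa26 ya8 za56) (ka xa23 ya7 za58) (ka xa25 ya25 za47) (ka xa19 ya46 za54) (ka xa30 ya37 za12) (ka xa22 ya54 za3) (ka xa30 ya54 za25) (ka xa30 ya54 za26) (ka xa28 ya49 za23) (ka xa20 ya29 za46) (ka xa27 ya21 za61) (ka xa26 ya27 za32) (ka xa28 ya14 za29) (ka xa29 ya18 za50) (ka xa29 ya18 za38) (ka xa17 ya9 za14) (ka xa28 ya1 za20) (ka xa26 ya56 za8) (ka xa26 ya30 za31) (ka xa28 ya50 za38) (ka xa16 ya28 za52) (ka xa28 ya34 za58) (ka xa20 ya8 za36) (ka xa26 ya28 za31) (ka xa28 ya23 za37) (ka xa28 ya58 za45) (ka xa16 ya28 za61) (ka xa32 ya8 za48)) (@D3.rec (fun _ => Pt) (ka xa22 ya17 za5) (ka xa26 ya56 za23) (ka xa31 ya20 za58) (ka xa26 ya28 za38) (ka xa29 ya50 za24) (ka xa26 ya21 za25) (ka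 xa26 ya20 za29) (ka xa26 ya29 za6) (ka xa27 ya44 za23) (ka xa23 ya8 za32) (ka xa22 ya48 za17) (ka xa18 ya52 za52) (ka xa16 ya31 za4) (ka xa16 ya31 za8) (ka xa16 ya31 za9) (ka xa16 ya31 za10) (ka xa16 ya31 za11) (ka xa16 ya31 za12) (ka xa16 ya31 za1) (ka xa28 ya55 za45) (ka xa16 ya31 za23) (ka xa24 ya31 za51) (ka xa17 ya57 za52) (ka xa17 ya9 za10) (ka xa17 ya9 za13) (ka xa17 ya22 za37) (ka xa20 ya1 za21) (ka xa29 ya29 za46) (ka xa18 ya22 za47) (ka xa18 ya22 za48) (ka xa30 ya55 za39) (ka xa18 ya19 za9) (ka xa26 ya57 za48) (ka xa25 ya1 za52) (ka xa26 ya27 za45) (ka xa26 ya27 za1) (ka xa24 ya7 za37) (ka xa26 ya56 za6) (ka xa23 ya14 za43) (ka xa30 ya3 za16) (ka xa26 ya56 za13) (ka xa29 ya52 za53) (ka xa29 ya31 za61) (ka xa30 ya3 za17) (ka xa23 ya57 za52) (ka xa29 ya32 za14) (ka xa16 ya58 za25) (ka xa16 ya58 za26) (ka xa16 ya58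 za43) (ka xa20 ya26 za29) (ka xa20 ya18 za44) (ka xa28 ya50 za44) (ka xa28 ya50 za54) (ka xa29 ya24 za39) (ka xa16 ya44 za3) (ka xa23 ya57 za53) (ka xa20 ya29 za28) (ka xa20 ya29 za29) (ka xa20 ya29 za30) (ka xa23 ya4 za49) (ka xa24 ya38 za44) (ka xa26 ya58 za15)) (@D3.rec (fun _ => Pt) (ka xa26 ya58 za18) (ka xa26 ya26 za35) (ka xa16 ya30 za37) (ka xa20 ya34 za36) (ka xa20 ya34 za37) (ka xa27 ya2 za19) (ka xa27 ya5 za13) (ka xa21 ya44 za21) (ka xa20 ya52 za21) (ka xa26 ya48 za52) (ka xa21 ya51 za27) (ka xa21 ya51 za30) (ka xa20 ya7 za34) (ka xa20 ya4 za38) (ka xa20 ya4 za40) (ka xa29 ya7 za8) (ka xa29 ya38 za44) (ka xa26 ya48 za51) (ka xa23 ya32 za57) (ka xa16 ya31 za0) (ka xa26 ya32 za48) (ka xa26 ya32 za46) (ka xa31 ya14 za55) (ka xa28 ya56 za0) (ka xa27 ya43 za0) (ka xa29 ya14 za58) (ka xa32 ya8 za53) (ka xa27 ya58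 za19) (ka xa20 ya34 za47) (ka xa20 ya34 za48) (ka xa31 ya23 za35) (ka xa22 ya17 za0) (ka xa26 ya25 za45) (ka xa29 ya32 za17) (ka xa30 ya27 za57) (ka xa28 ya51 za56) (ka xa19 ya7 za26) (ka xa32 ya8 za54) (ka xa22 ya16 za42) (ka xa22 ya16 za41) (ka xa23 ya57 za51) (ka xa29 ya32 za13) (ka xa27 ya24 za24) (ka xa28 ya32 za30) (ka xa31 ya59 za25) (ka xa26 ya26 za34) (ka xa24 ya57 za12) (ka xa28 ya22 za18) (ka xa31 ya33 za37) (ka xa29 ya32 za5) (ka xa27 ya9 za48) (ka xa27 ya9 za46) (ka xa31 ya23 za16) (ka xa24 ya9 za1) (ka xa29 ya32 za7) (ka xa32 ya7 za38) (ka xa29 ya53 za6) (ka xa28 ya27 za8) (ka xa29 ya26 za42) (ka xa31 ya23 za45) (ka xa16 ya31 za22) (ka xa32 ya9 za16)) (@D3.rec (fun _ => Pt) (ka xa22 ya25 za26) (ka xa23 ya3 za56) (ka xa16 ya31 za30) (ka xa16 ya31 za31) (ka xa16 ya31 za35) (ka xa16 ya31 za38) (ka xa21 ya54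 za0) (ka xa21 ya54 za3) (ka xa21 ya38 za8) (ka xa19 ya46 za59) (ka xa19 ya7 za39) (ka xa29 ya54 za28) (ka xa31 ya32 za61) (ka xa21 ya32 za33) (ka xa32 ya8 za10) (ka xa21 ya53 za58) (ka xa23 ya16 za47) (ka xa26 ya24 za61) (ka xa27 ya5 za19) (ka xa30 ya37 za25) (ka xa20 ya32 za4) (ka xa20 ya32 za2) (ka xa27 ya5 za21) (ka xa17 ya55 za9) (ka xa27 ya5 za23) (ka xa27 ya5 za24) (ka xa16 ya32 za1) (ka xa16 ya32 za2) (ka xa16 ya32 za4) (ka xa16 ya32 za6) (ka xa16 ya32 za7) (ka xa26 ya25 za57) (ka xa26 ya30 za18) (ka xa32 ya9 za21) (ka xa28 ya34 za4) (ka xa31 ya32 za37) (ka xa22 ya55 za13) (ka xa28 ya35 za30) (ka xa26 ya26 za3) (ka xa28 ya34 za39) (ka xa29 ya14 za55) (ka xa20 ya22 za31) (ka xa28 ya50 za8) (ka xa28 ya50 za7) (ka xa32 ya9 za24) (ka xa29 ya19 za31) (ka xa21 ya54 za40) (ka xa16 ya32 za11) (ka xa26 ya30 za27) (ka xa28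 ya13 za3) (ka xa26 ya30 za21) (ka xa26 ya23 za15) (ka xa26 ya29 za42) (ka xa26 ya30 za22) (ka xa26 ya30 za24) (ka xa26 ya30 za25) (ka xa26 ya30 za26) (ka xa16 ya32 za21) (ka xa16 ya32 za22) (ka xa27 ya8 za15) (ka xa27 ya8 za16) (ka xa30 ya55 za23)) (@D3.rec (fun _ => Pt) (ka xa30 ya53 za40) (ka xa26 ya29 za35) (ka xa17 ya15 za10) (ka xa29 ya55 za35) (ka xa32 ya9 za27) (ka xa26 ya30 za30) (ka xa26 ya26 za7) (ka xa26 ya31 za25) (ka xa28 ya28 za16) (ka xa23 ya8 za10) (ka xa26 ya31 za29) (ka xa26 ya30 za34) (ka xa23 ya4 za57) (ka xa32 ya9 za33) (ka xa31 ya39 za29) (ka xa32 ya9 za35) (ka xa32 ya9 za37) (ka xa16 ya32 za33) (ka xa32 ya9 za39) (ka xa32 ya9 za34) (ka xa26 ya21 za15) (ka xa16 ya32 za48) (ka xa16 ya32 za50) (ka xa16 ya32 za51) (ka xa20 ya41 za8) (ka xa16 ya32 za42) (ka xa18 ya45 za34) (ka xa17 ya1 za5) (ka xa22 ya51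 za20) (ka xa22 ya51 za5) (ka xa28 ya27 za32) (ka xa27 ya39 za22) (ka xa20 ya8 za11) (ka xa28 ya27 za3) (ka xa28 ya15 za25) (ka xa26 ya29 za1) (ka xa16 ya32 za54) (ka xa24 ya9 za39) (ka xa29 ya19 za17) (ka xa31 ya56 za28) (ka xa27 ya12 za20) (ka xa23 ya12 za7) (ka xa26 ya28 za52) (ka xa32 ya9 za42) (ka xa29 ya53 za45) (ka xa29 ya53 za46) (ka xa28 ya24 za29) (ka xa30 ya29 za61) (ka xa28 ya12 za45) (ka xa27 ya46 za8) (ka xa31 ya44 za29) (ka xa18 ya28 za24) (ka xa30 ya24 za60) (ka xa30 ya24 za59) (ka xa16 ya33 za6) (ka xa27 ya48 za13) (ka xa16 ya33 za17) (ka xa16 ya33 za19) (ka xa24 ya21 za42) (ka xa24 ya21 za46) (ka xa32 ya7 za35) (ka xa24 ya47 za10)) (@D3.rec (fun _ => Pt) (ka xa23 ya16 za48) (ka xa32 ya9 za48) (ka xa23 ya17 za37) (ka xa26 ya58 za10) (ka xa29 ya31 za43) (ka xa26 ya58 za16) (ka xa27 ya51 za61) (ka xa29 ya53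 za50) (ka xa26 ya24 za27) (ka xa29 ya38 za41) (ka xa28 ya12 za3) (ka xa19 ya1 za47) (ka xa29 ya6 za24) (ka xa28 ya31 za51) (ka xa29 ya28 za54) (ka xa29 ya28 za55) (ka xa20 ya32 za9) (ka xa28 ya28 za17) (ka xa26 ya28 za32) (ka xa26 ya25 za9) (ka xa23 ya9 za15) (ka xa26 ya28 za50) (ka xa26 ya28 za53) (ka xa26 ya21 za2) (ka xa26 ya28 za54) (ka xa26 ya28 za55) (ka xa26 ya28 za56) (ka xa26 ya28 za48) (ka xa23 ya9 za27) (ka xa32 ya2 za0) (ka xa26 ya29 za5) (ka xa26 ya25 za52) (ka xa31 ya46 za24) (ka xa26 ya20 za57) (ka xa26 ya29 za11) (ka xa31 ya25 za18) (ka xa25 ya3 za53) (ka xa22 ya48 za32) (ka xa32 ya9 za61) (ka xa26 ya21 za10) (ka xa24 ya48 za13) (ka xa28 ya31 za53) (ka xa16 ya33 za51) (ka xa32 ya10 za3) (ka xa26 ya21 za5) (ka xa26 ya21 za4) (ka xa26 ya21 za32) (ka xa31 ya25 za26) (ka xa28 ya31 za56) (ka xa31 ya16 za37)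 (ka xa26 ya24 za26) (ka xa22 ya55 za32) (ka xa23 ya9 za13) (ka xa26 ya31 za59) (ka xa19 ya6 za30) (ka xa29 ya52 za49) (ka xa26 ya56 za35) (ka xa18 ya11 za31) (ka xa23 ya20 za61) (ka xa23 ya5 za6) (ka xa23 ya7 za56) (ka xa23 ya7 za59)) (@D3.rec (fun _ => Pt) (ka xa23 ya7 za60) (ka xa29 ya52 za47) (ka xa16 ya34 za1) (ka xa26 ya24 za4) (ka xa26 ya32 za4) (ka xa29 ya52 za52) (ka xa26 ya16 za19) (ka xa23 ya9 za16) (ka xa27 ya44 za24) (ka xa29 ya29 za35) (ka xa29 ya29 za36) (ka xa29 ya29 za37) (ka xa30 ya53 za21) (ka xa29 ya52 za59) (ka xa29 ya52 za60) (ka xa27 ya52 za25) (ka xa29 ya52 za61) (ka xa25 ya16 za12) (ka xa24 ya48 za15) (ka xa27 ya58 za15) (ka xa27 ya47 za47) (ka xa25 ya18 za21) (ka xa29 ya53 za0) (ka xa29 ya52 za57) (ka xa27 ya53 za1) (ka xa26 ya29 za7) (ka xa29 ya53 za3) (ka xa29 ya53 za4) (ka xa28 ya31 za59) (ka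 xa26 ya29 za10) (ka xa27 ya49 za15) (ka xa29 ya53 za5) (ka xa26 ya56 za10) (ka xa29 ya53 za7) (ka xa22 ya51 za51) (ka xa24 ya12 za50) (ka xa24 ya12 za57) (ka xa23 ya0 za54) (ka xa29 ya20 za61) (ka xa28 ya31 za47) (ka xa22 ya55 za42) (ka xa28 ya36 za36) (ka xa29 ya20 za47) (ka xa32 ya8 za3) (ka xa30 ya53 za5) (ka xa16 ya34 za24) (ka xa21 ya10 za55) (ka xa21 ya10 za54) (ka xa32 ya10 za18) (ka xa32 ya10 za19) (ka xa26 ya21 za29) (ka xa26 ya21 za30) (ka xa17 ya3 za47) (ka xa20 ya27 za22) (ka xa24 ya48 za10) (ka xa27 ya42 za9) (ka xa26 ya19 za26) (ka xa29 ya49 za61) (ka xa26 ya17 za46) (ka xa26 ya30 za53) (ka xa29 ya53 za23) (ka xa20 ya8 za50)) (@D3.rec (fun _ => Pt) (ka xa29 ya24 za1) (ka xa16 ya34 za36) (ka xa18 ya45 za60) (ka xa27 ya44 za25) (ka xa26 ya31 za4) (ka xa18 ya45 za55) (ka xa18 ya45 za54) (ka xa16 ya34 za40) (ka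 xa18 ya12 za44) (ka xa16 ya34 za41) (ka xa19 ya6 za29) (ka xa25 ya23 za59) (ka xa27 ya54 za47) (ka xa27 ya40 za3) (ka xa19 ya6 za42) (ka xa19 ya6 za43) (ka xa21 ya15 za29) (ka xa16 ya53 za18) (ka xa16 ya34 za51) (ka xa27 ya39 za23) (ka xa28 ya0 za55) (ka xa29 ya20 za33) (ka xa18 ya20 za5) (ka xa18 ya54 za54) (ka xa20 ya7 za47) (ka xa17 ya55 za13) (ka xa18 ya49 za20) (ka xa18 ya49 za24) (ka xa29 ya20 za12) (ka xa18 ya49 za26) (ka xa18 ya56 za51) (ka xa29 ya7 za41) (ka xa26 ya20 za3) (ka xa19 ya0 za21) (ka xa16 ya35 za21) (ka xa27 ya33 za21) (ka xa27 ya35 za7) (ka xa18 ya49 za22) (ka xa22 ya51 za14) (ka xa16 ya35 za25) (ka xa24 ya46 za37) (ka xa27 ya35 za8) (ka xa27 ya35 za9) (ka xa26 ya20 za2) (ka xa26 ya20 za1) (ka xa26 ya56 za11) (ka xa26 ya27 za21) (ka xa26 ya33 za7) (ka xa26 ya27 za20) (ka xa23 ya14 za48) (ka xa22 ya51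 za26) (ka xa21 ya53 za35) (ka xa29 ya24 za17) (ka xa21 ya14 za4) (ka xa21 ya14 za2) (ka xa27 ya39 za9) (ka xa16 ya51 za34) (ka xa20 ya5 za56) (ka xa19 ya58 za55) (ka xa18 ya29 za15) (ka xa18 ya29 za18) (ka xa18 ya19 za42)) (@D3.rec (fun _ => Pt) (ka xa30 ya4 za21) (ka xa30 ya19 za42) (ka xa18 ya56 za41) (ka xa21 ya44 za53) (ka xa21 ya53 za54) (ka xa19 ya39 za57) (ka xa18 ya40 za48) (ka xa26 ya32 za47) (ka xa16 ya37 za54) (ka xa27 ya36 za30) (ka xa16 ya37 za52) (ka xa32 ya4 za46) (ka xa26 ya46 za9) (ka xa16 ya39 za3) (ka xa16 ya39 za4) (ka xa16 ya39 za6) (ka xa26 ya37 za37) (ka xa19 ya5 za6) (ka xa16 ya39 za30) (ka xa16 ya36 za25) (ka xa31 ya19 za1) (ka xa29 ya33 za3) (ka xa31 ya31 za47) (ka xa16 ya40 za14) (ka xa16 ya40 za16) (ka xa29 ya33 za1) (ka xa16 ya40 za51) (ka xa16 ya40 za52) (ka xa16 ya41 za13) (ka xa16 ya40 za48)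 (ka xa16 ya40 za42) (ka xa16 ya40 za40) (ka xa16 ya40 za34) (ka xa29 ya3 za53) (ka xa16 ya40 za32) (ka xa16 ya36 za40) (ka xa31 ya20 za20) (ka xa29 ya46 za29) (ka xa32 ya10 za38) (ka xa16 ya40 za59) (ka xa16 ya40 za61) (ka xa16 ya40 za60) (ka xa16 ya41 za4) (ka xa16 ya41 za7) (ka xa16 ya36 za60) (ka xa16 ya36 za48) (ka xa16 ya36 za49) (ka xa16 ya40 za33) (ka xa29 ya3 za54) (ka xa18 ya46 za23) (ka xa18 ya46 za20) (ka xa19 ya38 za31) (ka xa16 ya36 za53) (ka xa29 ya3 za56) (ka xa25 ya12 za35) (ka xa25 ya12 za36) (ka xa31 ya31 za40) (ka xa24 ya16 za43) (ka xa28 ya58 za30) (ka xa32 ya4 za6) (ka xa29 ya9 za32) (ka xa27 ya19 za20)) (@D3.rec (fun _ => Pt) (ka xa32 ya4 za8) (ka xa32 ya3 za60) (ka xa29 ya52 za30) (ka xa16 ya36 za61) (ka xa28 ya47 za36) (ka xa26 ya34 za39) (ka xa16 ya42 za1) (ka xa16 ya42 za2) (ka xa16 ya42 za3)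 (ka xa16 ya42 za4) (ka xa26 ya36 za32) (ka xa16 ya42 za10) (ka xa16 ya42 za19) (ka xa16 ya42 za23) (ka xa16 ya42 za35) (ka xa25 ya29 za1) (ka xa26 ya38 za24) (ka xa29 ya13 za8) (ka xa28 ya50 za43) (ka xa25 ya22 za16) (ka xa16 ya37 za10) (ka xa29 ya14 za17) (ka xa29 ya14 za16) (ka xa32 ya11 za0) (ka xa25 ya37 za37) (ka xa19 ya11 za56) (ka xa29 ya1 za18) (ka xa19 ya12 za44) (ka xa20 ya35 za39) (ka xa16 ya37 za16) (ka xa16 ya37 za17) (ka xa32 ya11 za5) (ka xa32 ya11 za6) (ka xa32 ya11 za7) (ka xa30 ya16 za15) (ka xa19 ya31 za52) (ka xa19 ya31 za53) (ka xa19 ya31 za54) (ka xa19 ya31 za58) (ka xa26 ya34 za5) (ka xa19 ya31 za60) (ka xa19 ya32 za1) (ka xa31 ya46 za55) (ka xa32 ya10 za31) (ka xa19 ya54 za59) (ka xa16 ya37 za29) (ka xa24 ya27 za40) (ka xa26 ya40 za1) (ka xa22 ya3 za56) (ka xa20 ya38 za41) (ka xa32 ya11 za16) (ka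 xa20 ya57 za52) (ka xa26 ya39 za30) (ka xa26 ya59 za35) (ka xa19 ya11 za20) (ka xa26 ya47 za50) (ka xa29 ya10 za34) (ka xa26 ya38 za12) (ka xa16 ya37 za38) (ka xa26 ya38 za0) (ka xa26 ya38 za1) (ka xa26 ya41 za27)) (@D3.rec (fun _ => Pt) (ka xa28 ya54 za54) (ka xa22 ya1 za20) (ka xa32 ya11 za22) (ka xa26 ya38 za5) (ka xa26 ya38 za6) (ka xa26 ya38 za7) (ka xa20 ya56 za57) (ka xa29 ya8 za17) (ka xa19 ya32 za10) (ka xa27 ya10 za51) (ka xa29 ya44 za54) (ka xa16 ya37 za45) (ka xa21 ya16 za38) (ka xa28 ya40 za24) (ka xa31 ya55 za28) (ka xa26 ya38 za2) (ka xa27 ya36 za29) (ka xa26 ya38 za9) (ka xa19 ya58 za27) (ka xa28 ya38 za47) (ka xa26 ya50 za60) (ka xa31 ya40 za26) (ka xa26 ya37 za59) (ka xa19 ya32 za4) (ka xa29 ya46 za5) (ka xa29 ya45 za23) (ka xa19 ya11 za23) (ka xa25 ya4 za53) (ka xa28 ya38 za56) (ka xa31 ya50 za61) (ka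 xa19 ya43 za11) (ka xa29 ya33 za45) (ka xa16 ya38 za0) (ka xa16 ya38 za1) (ka xa16 ya38 za2) (ka xa16 ya38 za3) (ka xa22 ya4 za15) (ka xa26 ya37 za16) (ka xa26 ya50 za11) (ka xa26 ya36 za54) (ka xa28 ya54 za57) (ka xa27 ya16 za21) (ka xa20 ya39 za7) (ka xa29 ya15 za5) (ka xa28 ya40 za27) (ka xa28 ya39 za4) (ka xa29 ya15 za6) (ka xa28 ya40 za26) (ka xa26 ya37 za23) (ka xa32 ya11 za46) (ka xa32 ya11 za47) (ka xa28 ya35 za3) (ka xa32 ya11 za48) (ka xa16 ya38 za6) (ka xa26 ya48 za35) (ka xa26 ya7 za57) (ka xa17 ya49 za25) (ka xa31 ya46 za61) (ka xa32 ya12 za3) (ka xa25 ya31 za9) (ka xa31 ya47 za0) (ka xa31 ya47 za1)) (@D3.rec (fun _ => Pt) (ka xa31 ya47 za2) (ka xa31 ya47 za3) (ka xa31 ya47 za4) (ka xa27 ya16 za17) (ka xa16 ya38 za12) (ka xa32 ya12 za14) (ka xa28 ya39 za30) (ka xa20 ya35 za31) (ka xa16 ya38 za14) (ka xa32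 ya12 za16) (ka xa26 ya37 za10) (ka xa28 ya39 za38) (ka xa28 ya40 za29) (ka xa26 ya41 za25) (ka xa32 ya12 za20) (ka xa29 ya46 za9) (ka xa29 ya46 za10) (ka xa29 ya33 za16) (ka xa29 ya46 za12) (ka xa29 ya46 za13) (ka xa29 ya46 za16) (ka xa29 ya46 za20) (ka xa32 ya12 za30) (ka xa28 ya39 za27) (ka xa31 ya47 za5) (ka xa31 ya47 za6) (ka xa19 ya34 za40) (ka xa20 ya35 za38) (ka xa20 ya35 za40) (ka xa19 ya34 za42) (ka xa28 ya39 za55) (ka xa28 ya40 za11) (ka xa26 ya34 za10) (ka xa26 ya40 za29) (ka xa26 ya56 za44) (ka xa19 ya8 za44) (ka xa19 ya8 za45) (ka xa32 ya12 za43) (ka xa19 ya8 za40) (ka xa21 ya11 za36) (ka xa19 ya17 za50) (ka xa16 ya38 za29) (ka xa24 ya24 za26) (ka xa24 ya34 za44) (ka xa19 ya8 za42) (ka xa19 ya8 za37) (ka xa16 ya38 za32) (ka xa28 ya42 za33) (ka xa16 ya38 za37) (ka xa31 ya17 za48) (ka xa26 ya38 za13) (ka xa26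 ya38 za14) (ka xa20 ya3 za7) (ka xa29 ya45 za16) (ka xa26 ya35 za39) (ka xa25 ya4 za26) (ka xa25 ya32 za13) (ka xa19 ya32 za7) (ka xa31 ya46 za56) (ka xa29 ya45 za15) (ka xa16 ya38 za50) (ka xa16 ya38 za51)) (@D3.rec (fun _ => Pt) (ka xa16 ya38 za52) (ka xa16 ya38 za54) (ka xa16 ya38 za55) (ka xa16 ya48 za5) (ka xa20 ya59 za2) (ka xa20 ya54 za59) (ka xa31 ya24 za26) (ka xa31 ya46 za57) (ka xa25 ya11 za3) (ka xa32 ya12 za51) (ka xa26 ya36 za10) (ka xa29 ya4 za2) (ka xa28 ya56 za45) (ka xa26 ya37 za28) (ka xa20 ya3 za20) (ka xa20 ya56 za2) (ka xa26 ya35 za37) (ka xa29 ya45 za49) (ka xa32 ya12 za52) (ka xa31 ya20 za24) (ka xa32 ya12 za53) (ka xa29 ya33 za5) (ka xa26 ya59 za31) (ka xa26 ya35 za48) (ka xa26 ya10 za36) (ka xa29 ya44 za55) (ka xa31 ya34 za60) (ka xa16 ya39 za1) (ka xa26 ya37 za13) (ka xa32 ya3 za36) (ka xa31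 ya26 za0) (ka xa28 ya48 za31) (ka xa19 ya40 za39) (ka xa19 ya40 za38) (ka xa27 ya0 za21) (ka xa19 ya40 za41) (ka xa29 ya1 za19) (ka xa26 ya33 za16) (ka xa25 ya4 za34) (ka xa24 ya51 za32) (ka xa16 ya39 za14) (ka xa31 ya52 za32) (ka xa32 ya12 za58) (ka xa24 ya52 za6) (ka xa24 ya50 za49) (ka xa19 ya42 za19) (ka xa16 ya39 za39) (ka xa26 ya37 za50) (ka xa26 ya37 za49) (ka xa26 ya37 za48) (ka xa26 ya37 za47) (ka xa16 ya48 za29) (ka xa22 ya4 za16) (ka xa19 ya20 za18) (ka xa24 ya50 za41) (ka xa31 ya41 za10) (ka xa16 ya42 za38) (ka xa16 ya39 za37) (ka xa31 ya26 za5) (ka xa26 ya35 za22) (ka xa29 ya11 za16) (ka xa19 ya14 za2)) (@D3.rec (fun _ => Pt) (ka xa26 ya34 za59) (ka xa26 ya34 za60) (ka xa26 ya35 za15) (ka xa30 ya15 za58) (ka xa22 ya3 za18) (ka xa26 ya35 za3) (ka xa26 ya35 za4) (ka xa26 ya35 za5) (ka xa27 ya37 za42) (ka xa26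 ya35 za17) (ka xa31 ya21 za7) (ka xa16 ya39 za46) (ka xa26 ya34 za57) (ka xa26 ya36 za50) (ka xa26 ya36 za51) (ka xa31 ya48 za7) (ka xa28 ya40 za38) (ka xa28 ya0 za19) (ka xa25 ya46 za56) (ka xa31 ya18 za59) (ka xa31 ya31 za56) (ka xa19 ya44 za4) (ka xa16 ya41 za26) (ka xa16 ya39 za58) (ka xa26 ya34 za16) (ka xa27 ya0 za19) (ka xa19 ya28 za26) (ka xa28 ya54 za9) (ka xa27 ya54 za1) (ka xa20 ya36 za59) (ka xa24 ya29 za1) (ka xa27 ya58 za30) (ka xa27 ya58 za31) (ka xa27 ya58 za29) (ka xa16 ya42 za42) (ka xa21 ya16 za44) (ka xa16 ya40 za8) (ka xa16 ya40 za10) (ka xa16 ya40 za11) (ka xa16 ya40 za12) (ka xa16 ya40 za13) (ka xa16 ya45 za41) (ka xa25 ya9 za20) (ka xa29 ya5 za43) (ka xa16 ya40 za18) (ka xa29 ya33 za2) (ka xa29 ya32 za57) (ka xa32 ya13 za28) (ka xa32 ya3 za37) (ka xa32 ya13 za29) (ka xa29 ya44 za2) (ka xa28 ya44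 za34) (ka xa28 ya44 za31) (ka xa30 ya16 za14) (ka xa16 ya55 za32) (ka xa28 ya40 za44) (ka xa17 ya6 za13) (ka xa17 ya5 za57) (ka xa29 ya42 za30) (ka xa31 ya30 za57) (ka xa16 ya55 za47) (ka xa29 ya32 za58)) (@D3.rec (fun _ => Pt) (ka xa32 ya13 za31) (ka xa28 ya39 za19) (ka xa29 ya26 za34) (ka xa29 ya45 za6) (ka xa29 ya26 za21) (ka xa19 ya13 za26) (ka xa29 ya26 za22) (ka xa16 ya41 za38) (ka xa29 ya32 za55) (ka xa29 ya32 za56) (ka xa20 ya39 za28) (ka xa19 ya47 za24) (ka xa16 ya41 za10) (ka xa28 ya27 za60) (ka xa25 ya47 za41) (ka xa28 ya0 za18) (ka xa29 ya1 za2) (ka xa16 ya42 za28) (ka xa25 ya4 za37) (ka xa29 ya56 za9) (ka xa16 ya40 za39) (ka xa25 ya47 za22) (ka xa19 ya16 za5) (ka xa19 ya43 za3) (ka xa30 ya23 za29) (ka xa24 ya14 za36) (ka xa19 ya43 za48) (ka xa32 ya3 za61) (ka xa32 ya10 za37) (ka xa26 ya44 za28) (ka xa26 ya34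 za52) (ka xa32 ya10 za35) (ka xa20 ya58 za19) (ka xa16 ya41 za17) (ka xa25 ya12 za0) (ka xa18 ya35 za39) (ka xa32 ya0 za46) (ka xa16 ya42 za31) (ka xa16 ya41 za0) (ka xa17 ya49 za33) (ka xa19 ya17 za36) (ka xa17 ya49 za32) (ka xa17 ya50 za43) (ka xa27 ya50 za54) (ka xa25 ya47 za35) (ka xa32 ya10 za45) (ka xa31 ya32 za23) (ka xa31 ya30 za44) (ka xa29 ya47 za32) (ka xa31 ya30 za43) (ka xa29 ya44 za12) (ka xa29 ya25 za57) (ka xa32 ya10 za46) (ka xa16 ya41 za57) (ka xa16 ya41 za60) (ka xa16 ya41 za16) (ka xa32 ya10 za36) (ka xa32 ya13 za23) (ka xa29 ya26 za25) (ka xa19 ya42 za34) (ka xa24 ya52 za35) (ka xa24 ya52 za36)) (@D3.rec (fun _ => Pt) (ka xa19 ya43 za45) (ka xa26 ya34 za47) (ka xa16 ya41 za35) (ka xa19 ya44 za1) (ka xa16 ya41 za30) (ka xa16 ya41 za31) (ka xa31 ya51 za0) (ka xa32 ya13 za60) (ka xa32 ya10 za39) (ka xa32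 ya13 za61) (ka xa29 ya26 za24) (ka xa32 ya13 za58) (ka xa16 ya47 za7) (ka xa19 ya47 za22) (ka xa24 ya21 za41) (ka xa16 ya41 za44) (ka xa16 ya41 za49) (ka xa24 ya37 za35) (ka xa16 ya41 za52) (ka xa16 ya41 za55) (ka xa16 ya41 za56) (ka xa28 ya54 za24) (ka xa32 ya10 za49) (ka xa32 ya14 za5) (ka xa20 ya39 za33) (ka xa28 ya54 za22) (ka xa28 ya8 za4) (ka xa25 ya41 za31) (ka xa27 ya19 za22) (ka xa26 ya36 za33) (ka xa25 ya39 za29) (ka xa19 ya32 za12) (ka xa31 ya29 za5) (ka xa19 ya32 za11) (ka xa21 ya8 za36) (ka xa30 ya8 za11) (ka xa26 ya2 za40) (ka xa27 ya10 za57) (ka xa29 ya39 za5) (ka xa20 ya57 za41) (ka xa19 ya42 za49) (ka xa27 ya0 za16) (ka xa26 ya41 za10) (ka xa20 ya58 za48) (ka xa32 ya10 za50) (ka xa32 ya10 za51) (ka xa21 ya48 za8) (ka xa32 ya10 za52) (ka xa32 ya10 za53) (ka xa32 ya10 za54) (ka xa32 ya10 za55) (ka xa16 ya42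 za6) (ka xa16 ya42 za7) (ka xa28 ya21 za53) (ka xa28 ya15 za43) (ka xa28 ya37 za59) (ka xa28 ya37 za60) (ka xa32 ya14 za22) (ka xa24 ya4 za16) (ka xa28 ya54 za38) (ka xa26 ya59 za43) (ka xa20 ya53 za61)) (@D3.rec (fun _ => Pt) (ka xa26 ya51 za14) (ka xa18 ya0 za41) (ka xa25 ya41 za20) (ka xa19 ya33 za22) (ka xa32 ya10 za56) (ka xa29 ya46 za49) (ka xa32 ya10 za57) (ka xa31 ya26 za15) (ka xa28 ya54 za10) (ka xa25 ya22 za13) (ka xa26 ya40 za42) (ka xa17 ya6 za9) (ka xa25 ya49 za31) (ka xa29 ya34 za33) (ka xa28 ya54 za30) (ka xa29 ya12 za28) (ka xa22 ya23 za61) (ka xa29 ya47 za36) (ka xa29 ya47 za37) (ka xa24 ya21 za3) (ka xa24 ya33 za35) (ka xa20 ya58 za53) (ka xa19 ya59 za28) (ka xa27 ya19 za14) (ka xa32 ya13 za6) (ka xa26 ya36 za13) (ka xa28 ya44 za26) (ka xa26 ya34 za61) (ka xa22 ya23 za57) (ka xa31 ya52 za57) (ka xa27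 ya19 za5) (ka xa16 ya42 za48) (ka xa16 ya42 za49) (ka xa32 ya14 za36) (ka xa32 ya0 za14) (ka xa22 ya3 za3) (ka xa27 ya17 za34) (ka xa19 ya36 za39) (ka xa31 ya54 za44) (ka xa31 ya37 za54) (ka xa19 ya39 za9) (ka xa19 ya33 za21) (ka xa19 ya36 za30) (ka xa16 ya42 za57) (ka xa16 ya42 za58) (ka xa22 ya16 za32) (ka xa25 ya31 za49) (ka xa24 ya17 za29) (ka xa19 ya36 za47) (ka xa28 ya37 za61) (ka xa19 ya36 za44) (ka xa19 ya36 za45) (ka xa28 ya36 za46) (ka xa19 ya37 za2) (ka xa16 ya43 za5) (ka xa29 ya47 za44) (ka xa24 ya24 za7) (ka xa19 ya36 za56) (ka xa16 ya43 za6) (ka xa32 ya14 za37) (ka xa19 ya32 za27) (ka xa19 ya37 za19)) (@D3.rec (fun _ => Pt) (ka xa16 ya43 za9) (ka xa31 ya37 za28) (ka xa19 ya37 za11) (ka xa30 ya47 za41) (ka xa19 ya37 za26) (ka xa17 ya26 za11) (ka xa31 ya45 za25) (ka xa16 ya43 za17) (ka xa16 ya43 za18) (ka xa29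 ya9 za27) (ka xa31 ya34 za33) (ka xa17 ya25 za13) (ka xa25 ya56 za48) (ka xa16 ya43 za25) (ka xa23 ya6 za5) (ka xa28 ya53 za49) (ka xa24 ya4 za22) (ka xa16 ya43 za35) (ka xa22 ya3 za53) (ka xa20 ya38 za36) (ka xa29 ya12 za1) (ka xa19 ya33 za14) (ka xa29 ya12 za2) (ka xa19 ya36 za27) (ka xa19 ya39 za11) (ka xa26 ya24 za0) (ka xa31 ya54 za42) (ka xa19 ya39 za34) (ka xa19 ya39 za35) (ka xa19 ya39 za36) (ka xa19 ya39 za37) (ka xa19 ya39 za38) (ka xa19 ya32 za29) (ka xa23 ya58 za33) (ka xa19 ya39 za19) (ka xa27 ya41 za21) (ka xa19 ya37 za33) (ka xa24 ya39 za41) (ka xa19 ya13 za46) (ka xa19 ya13 za50) (ka xa18 ya44 za24) (ka xa18 ya44 za26) (ka xa18 ya44 za23) (ka xa16 ya44 za4) (ka xa28 ya33 za27) (ka xa25 ya53 za12) (ka xa25 ya53 za11) (ka xa31 ya28 za22) (ka xa19 ya7 za11) (ka xa19 ya28 za21) (ka xa16 ya44 za10) (ka xa16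 ya44 za11) (ka xa30 ya24 za16) (ka xa32 ya14 za46) (ka xa29 ya48 za2) (ka xa29 ya48 za25) (ka xa32 ya14 za47) (ka xa19 ya29 za35) (ka xa19 ya29 za36) (ka xa19 ya29 za37) (ka xa19 ya29 za38) (ka xa32 ya14 za57)) (@D3.rec (fun _ => Pt) (ka xa19 ya29 za40) (ka xa19 ya29 za42) (ka xa19 ya29 za43) (ka xa19 ya30 za35) (ka xa19 ya29 za50) (ka xa32 ya2 za2) (ka xa16 ya44 za18) (ka xa29 ya48 za6) (ka xa29 ya48 za12) (ka xa32 ya15 za1) (ka xa17 ya17 za34) (ka xa19 ya30 za25) (ka xa29 ya50 za10) (ka xa16 ya44 za23) (ka xa28 ya42 za31) (ka xa28 ya47 za3) (ka xa32 ya15 za7) (ka xa32 ya15 za8) (ka xa19 ya30 za5) (ka xa27 ya37 za26) (ka xa16 ya50 za53) (ka xa19 ya30 za42) (ka xa19 ya29 za47) (ka xa16 ya44 za29) (ka xa32 ya15 za12) (ka xa19 ya30 za33) (ka xa19 ya30 za34) (ka xa16 ya44 za35) (ka xa19 ya30 za48) (ka xa30 ya26 za52) (ka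 xa18 ya55 za43) (ka xa18 ya55 za42) (ka xa19 ya30 za50) (ka xa19 ya30 za49) (ka xa19 ya34 za31) (ka xa24 ya6 za24) (ka xa17 ya31 za17) (ka xa16 ya44 za39) (ka xa28 ya37 za33) (ka xa24 ya10 za34) (ka xa19 ya33 za23) (ka xa19 ya33 za28) (ka xa19 ya33 za26) (ka xa16 ya44 za48) (ka xa32 ya15 za19) (ka xa19 ya34 za3) (ka xa19 ya34 za5) (ka xa19 ya34 za6) (ka xa19 ya34 za12) (ka xa19 ya32 za44) (ka xa19 ya33 za12) (ka xa31 ya35 za27) (ka xa21 ya37 za53) (ka xa21 ya57 za53) (ka xa25 ya47 za20) (ka xa19 ya33 za38) (ka xa19 ya33 za39) (ka xa19 ya33 za40) (ka xa16 ya55 za61) (ka xa16 ya45 za10) (ka xa24 ya47 za1) (ka xa21 ya37 za24)) (@D3.rec (fun _ => Pt) (ka xa19 ya34 za17) (ka xa19 ya34 za18) (ka xa19 ya34 za27) (ka xa29 ya39 za8) (ka xa19 ya34 za24) (ka xa19 ya34 za25) (ka xa19 ya30 za51) (ka xa32 ya15 za25) (ka xa19 ya39 za59)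 (ka xa23 ya52 za61) (ka xa19 ya40 za25) (ka xa28 ya50 za6) (ka xa19 ya47 za7) (ka xa26 ya57 za3) (ka xa27 ya8 za8) (ka xa19 ya44 za52) (ka xa19 ya45 za2) (ka xa28 ya19 za15) (ka xa19 ya45 za5) (ka xa19 ya44 za57) (ka xa19 ya44 za58) (ka xa31 ya48 za49) (ka xa29 ya41 za53) (ka xa27 ya21 za33) (ka xa25 ya50 za8) (ka xa29 ya41 za50) (ka xa17 ya43 za13) (ka xa25 ya36 za35) (ka xa26 ya39 za29) (ka xa31 ya11 za17) (ka xa29 ya12 za41) (ka xa28 ya0 za21) (ka xa16 ya45 za44) (ka xa29 ya17 za18) (ka xa31 ya45 za26) (ka xa24 ya58 za13) (ka xa24 ya58 za25) (ka xa21 ya50 za31) (ka xa31 ya45 za47) (ka xa28 ya54 za2) (ka xa31 ya45 za28) (ka xa19 ya17 za18) (ka xa26 ya10 za41) (ka xa16 ya45 za56) (ka xa32 ya15 za35) (ka xa19 ya42 za52) (ka xa19 ya46 za36) (ka xa16 ya52 za51) (ka xa16 ya46 za12) (ka xa20 ya50 za8) (ka xa20 ya50 za21) (ka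 xa29 ya12 za42) (ka xa29 ya6 za39) (ka xa29 ya7 za19) (ka xa19 ya58 za20) (ka xa16 ya46 za51) (ka xa24 ya29 za12) (ka xa16 ya46 za54) (ka xa19 ya41 za11) (ka xa16 ya46 za30) (ka xa31 ya28 za23) (ka xa16 ya46 za34)) (@D3.rec (fun _ => Pt) (ka xa16 ya46 za38) (ka xa19 ya43 za38) (ka xa24 ya28 za50) (ka xa29 ya27 za59) (ka xa19 ya25 za23) (ka xa23 ya53 za30) (ka xa28 ya36 za33) (ka xa28 ya17 za45) (ka xa19 ya45 za40) (ka xa31 ya50 za32) (ka xa26 ya20 za35) (ka xa27 ya3 za10) (ka xa24 ya28 za53) (ka xa22 ya7 za0) (ka xa32 ya15 za39) (ka xa28 ya14 za10) (ka xa16 ya46 za50) (ka xa30 ya36 za6) (ka xa32 ya0 za49) (ka xa18 ya45 za30) (ka xa30 ya15 za12) (ka xa32 ya14 za42) (ka xa16 ya46 za53) (ka xa30 ya47 za9) (ka xa30 ya47 za8) (ka xa24 ya13 za30) (ka xa19 ya43 za4) (ka xa19 ya7 za5) (ka xa19 ya42 za60) (ka xa17 ya21 za13) (ka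 xa16 ya52 za1) (ka xa16 ya47 za3) (ka xa19 ya43 za37) (ka xa29 ya19 za44) (ka xa19 ya43 za34) (ka xa25 ya50 za44) (ka xa29 ya7 za54) (ka xa29 ya7 za55) (ka xa25 ya47 za33) (ka xa29 ya7 za56) (ka xa19 ya25 za47) (ka xa25 ya11 za21) (ka xa19 ya49 za30) (ka xa19 ya50 za23) (ka xa16 ya47 za25) (ka xa19 ya50 za39) (ka xa24 ya58 za11) (ka xa19 ya50 za41) (ka xa21 ya4 za5) (ka xa20 ya9 za45) (ka xa29 ya14 za0) (ka xa19 ya51 za24) (ka xa27 ya14 za9) (ka xa16 ya47 za40) (ka xa19 ya47 za36) (ka xa19 ya47 za50) (ka xa20 ya15 za16) (ka xa19 ya47 za51) (ka xa19 ya47 za37) (ka xa19 ya47 za38) (ka xa19 ya47 za39) (ka xa19 ya47 za41)) (@D3.rec (fun _ => Pt) (ka xa19 ya47 za44) (ka xa19 ya18 za41) (ka xa19 ya48 za12) (ka xa23 ya12 za47) (ka xa23 ya42 za42) (ka xa20 ya15 za14) (ka xa21 ya35 za43) (ka xa16 ya48 za13) (ka xa22 ya4 za18) (ka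 xa26 ya33 za12) (ka xa31 ya48 za6) (ka xa19 ya48 za57) (ka xa20 ya13 za42) (ka xa22 ya4 za8) (ka xa24 ya51 za37) (ka xa28 ya56 za38) (ka xa28 ya56 za39) (ka xa28 ya33 za61) (ka xa24 ya17 za48) (ka xa22 ya17 za19) (ka xa21 ya36 za41) (ka xa31 ya31 za36) (ka xa28 ya39 za16) (ka xa29 ya32 za59) (ka xa29 ya32 za60) (ka xa20 ya8 za42) (ka xa17 ya7 za26) (ka xa20 ya38 za3) (ka xa17 ya7 za36) (ka xa17 ya33 za31) (ka xa16 ya48 za49) (ka xa16 ya48 za50) (ka xa19 ya53 za1) (ka xa20 ya15 za60) (ka xa17 ya31 za1) (ka xa27 ya41 za26) (ka xa20 ya12 za15) (ka xa29 ya34 za35) (ka xa19 ya32 za43) (ka xa17 ya14 za6) (ka xa19 ya53 za40) (ka xa19 ya53 za39) (ka xa31 ya45 za58) (ka xa16 ya49 za11) (ka xa27 ya19 za11) (ka xa18 ya57 za54) (ka xa20 ya17 za41) (ka xa25 ya9 za36) (ka xa20 ya4 za41) (ka xa20 ya4 za43) (ka xa16 ya49 za28) (ka xa29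 ya13 za38) (ka xa21 ya9 za48) (ka xa22 ya11 za23) (ka xa20 ya4 za25) (ka xa20 ya4 za26) (ka xa20 ya4 za27) (ka xa20 ya4 za28) (ka xa20 ya53 za41) (ka xa31 ya40 za39) (ka xa16 ya49 za40) (ka xa23 ya3 za41)) (@D3.rec (fun _ => Pt) (ka xa20 ya5 za49) (ka xa16 ya49 za43) (ka xa27 ya53 za28) (ka xa29 ya47 za48) (ka xa18 ya3 za11) (ka xa26 ya7 za35) (ka xa26 ya8 za30) (ka xa26 ya8 za29) (ka xa16 ya49 za60) (ka xa28 ya11 za28) (ka xa28 ya11 za51) (ka xa32 ya15 za57) (ka xa19 ya55 za12) (ka xa19 ya55 za13) (ka xa19 ya55 za15) (ka xa19 ya55 za16) (ka xa19 ya55 za17) (ka xa19 ya57 za34) (ka xa19 ya31 za41) (ka xa19 ya54 za60) (ka xa16 ya50 za7) (ka xa16 ya50 za8) (ka xa31 ya6 za35) (ka xa31 ya6 za34) (ka xa32 ya16 za3) (ka xa25 ya38 za28) (ka xa32 ya4 za54) (ka xa32 ya16 za4) (ka xa19 ya54 za36) (ka xa19 ya54 za37) (ka xa19 ya54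 za38) (ka xa19 ya54 za39) (ka xa24 ya20 za49) (ka xa19 ya54 za41) (ka xa19 ya54 za43) (ka xa19 ya54 za45) (ka xa30 ya40 za5) (ka xa19 ya54 za50) (ka xa19 ya55 za25) (ka xa19 ya55 za22) (ka xa16 ya50 za19) (ka xa16 ya50 za20) (ka xa27 ya56 za48) (ka xa31 ya3 za21) (ka xa19 ya55 za59) (ka xa19 ya55 za60) (ka xa19 ya55 za61) (ka xa19 ya56 za0) (ka xa19 ya56 za1) (ka xa19 ya56 za2) (ka xa26 ya34 za55) (ka xa16 ya50 za26) (ka xa16 ya50 za27) (ka xa29 ya14 za42) (ka xa31 ya29 za13) (ka xa31 ya9 za3) (ka xa31 ya29 za12) (ka xa19 ya55 za40) (ka xa19 ya55 za41) (ka xa19 ya55 za42) (ka xa19 ya55 za43) (ka xa19 ya55 za45)) (@D3.rec (fun _ => Pt) (ka xa19 ya15 za12) (ka xa19 ya56 za12) (ka xa31 ya28 za60) (ka xa19 ya32 za25) (ka xa19 ya56 za6) (ka xa19 ya56 za7) (ka xa19 ya15 za37) (ka xa25 ya49 za57) (ka xa24 ya23 za39) (ka xa19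 ya56 za24) (ka xa19 ya56 za25) (ka xa21 ya56 za56) (ka xa21 ya22 za15) (ka xa19 ya16 za37) (ka xa21 ya8 za30) (ka xa21 ya34 za1) (ka xa24 ya44 za31) (ka xa26 ya14 za34) (ka xa16 ya50 za50) (ka xa18 ya8 za10) (ka xa27 ya59 za59) (ka xa19 ya54 za58) (ka xa16 ya50 za56) (ka xa32 ya8 za41) (ka xa28 ya11 za43) (ka xa19 ya59 za10) (ka xa19 ya59 za11) (ka xa19 ya59 za12) (ka xa27 ya38 za27) (ka xa28 ya40 za50) (ka xa19 ya58 za56) (ka xa19 ya58 za58) (ka xa19 ya58 za59) (ka xa19 ya25 za56) (ka xa29 ya28 za48) (ka xa26 ya35 za54) (ka xa20 ya5 za11) (ka xa20 ya5 za15) (ka xa31 ya41 za5) (ka xa24 ya31 za5) (ka xa20 ya1 za14) (ka xa17 ya56 za16) (ka xa20 ya18 za43) (ka xa29 ya28 za49) (ka xa20 ya1 za2) (ka xa20 ya1 za3) (ka xa20 ya1 za5) (ka xa17 ya56 za10) (ka xa24 ya32 za44) (ka xa17 ya29 za49) (ka xa28 ya12 za16) (ka xa26 ya27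 za17) (ka xa26 ya27 za9) (ka xa24 ya30 za60) (ka xa25 ya52 za9) (ka xa24 ya30 za61) (ka xa20 ya24 za34) (ka xa27 ya11 za11) (ka xa29 ya22 za4) (ka xa22 ya5 za12) (ka xa20 ya10 za20) (ka xa20 ya10 za7)) (@D3.rec (fun _ => Pt) (ka xa20 ya10 za6) (ka xa22 ya33 za52) (ka xa16 ya57 za14) (ka xa20 ya10 za14) (ka xa20 ya10 za15) (ka xa20 ya10 za17) (ka xa20 ya10 za26) (ka xa20 ya10 za25) (ka xa23 ya0 za7) (ka xa16 ya52 za18) (ka xa16 ya52 za24) (ka xa16 ya52 za7) (ka xa20 ya11 za32) (ka xa20 ya11 za34) (ka xa20 ya11 za35) (ka xa18 ya42 za57) (ka xa20 ya11 za52) (ka xa28 ya14 za8) (ka xa20 ya11 za58) (ka xa32 ya16 za26) (ka xa28 ya20 za58) (ka xa30 ya50 za32) (ka xa32 ya16 za27) (ka xa27 ya13 za30) (ka xa30 ya30 za26) (ka xa22 ya16 za10) (ka xa22 ya39 za51) (ka xa29 ya25 za23) (ka xa29 ya51 za45) (ka xa30 ya37 za29) (ka xa22 ya11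 za41) (ka xa20 ya9 za42) (ka xa22 ya38 za25) (ka xa20 ya20 za22) (ka xa19 ya48 za52) (ka xa26 ya55 za19) (ka xa20 ya7 za30) (ka xa17 ya55 za10) (ka xa20 ya7 za31) (ka xa20 ya7 za32) (ka xa16 ya57 za17) (ka xa20 ya7 za38) (ka xa30 ya44 za12) (ka xa20 ya7 za51) (ka xa30 ya50 za53) (ka xa29 ya14 za45) (ka xa28 ya26 za48) (ka xa19 ya59 za41) (ka xa20 ya8 za13) (ka xa20 ya8 za18) (ka xa20 ya8 za17) (ka xa16 ya53 za1) (ka xa22 ya51 za22) (ka xa22 ya51 za50) (ka xa17 ya55 za11) (ka xa20 ya8 za29) (ka xa20 ya8 za52) (ka xa20 ya8 za54) (ka xa30 ya44 za13) (ka xa19 ya52 za23) (ka xa28 ya15 za52) (ka xa16 ya53 za34)) (@D3.rec (fun _ => Pt) (ka xa16 ya54 za33) (ka xa19 ya51 za50) (ka xa16 ya55 za35) (ka xa16 ya55 za36) (ka xa16 ya55 za37) (ka xa16 ya55 za34) (ka xa16 ya55 za50) (ka xa19 ya18 za6) (ka xa18 ya46 za8) (ka xa27 ya14 za6)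 (ka xa16 ya53 za44) (ka xa26 ya35 za38) (ka xa29 ya28 za9) (ka xa20 ya9 za21) (ka xa16 ya53 za50) (ka xa19 ya24 za2) (ka xa24 ya29 za38) (ka xa26 ya3 za14) (ka xa29 ya18 za21) (ka xa20 ya9 za35) (ka xa20 ya9 za36) (ka xa19 ya51 za17) (ka xa18 ya0 za37) (ka xa26 ya51 za11) (ka xa18 ya0 za36) (ka xa26 ya51 za10) (ka xa17 ya6 za35) (ka xa17 ya6 za33) (ka xa21 ya50 za48) (ka xa20 ya16 za12) (ka xa20 ya15 za40) (ka xa18 ya50 za39) (ka xa16 ya54 za48) (ka xa29 ya22 za52) (ka xa16 ya54 za56) (ka xa16 ya54 za58) (ka xa16 ya54 za61) (ka xa16 ya55 za0) (ka xa29 ya35 za2) (ka xa16 ya55 za11) (ka xa23 ya59 za1) (ka xa28 ya32 za32) (ka xa29 ya39 za10) (ka xa27 ya2 za37) (ka xa16 ya54 za36) (ka xa29 ya37 za54) (ka xa30 ya36 za50) (ka xa16 ya55 za29) (ka xa16 ya55 za33) (ka xa16 ya55 za41) (ka xa16 ya55 za43) (ka xa20 ya9 za6) (ka xa27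 ya20 za18) (ka xa20 ya31 za54) (ka xa32 ya16 za41) (ka xa28 ya17 za27) (ka xa29 ya14 za52) (ka xa25 ya42 za31) (ka xa26 ya52 za46) (ka xa16 ya54 za54) (ka xa26 ya35 za20) (ka xa27 ya8 za10)) (@D3.rec (fun _ => Pt) (ka xa17 ya0 za58) (ka xa22 ya16 za29) (ka xa28 ya17 za60) (ka xa18 ya55 za38) (ka xa25 ya28 za29) (ka xa18 ya55 za37) (ka xa19 ya34 za26) (ka xa30 ya50 za24) (ka xa30 ya37 za31) (ka xa29 ya35 za5) (ka xa26 ya50 za25) (ka xa26 ya50 za23) (ka xa24 ya16 za5) (ka xa16 ya55 za8) (ka xa26 ya41 za0) (ka xa28 ya53 za34) (ka xa29 ya3 za7) (ka xa25 ya29 za28) (ka xa29 ya6 za41) (ka xa16 ya55 za13) (ka xa20 ya18 za47) (ka xa19 ya21 za42) (ka xa19 ya52 za10) (ka xa27 ya11 za51) (ka xa19 ya21 za49) (ka xa19 ya52 za9) (ka xa16 ya55 za21) (ka xa16 ya55 za22) (ka xa16 ya55 za23) (ka xa16 ya55 za24) (ka xa16 ya55 za25) (ka xa19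 ya21 za8) (ka xa19 ya21 za24) (ka xa17 ya1 za48) (ka xa29 ya39 za19) (ka xa22 ya25 za51) (ka xa30 ya33 za58) (ka xa22 ya25 za46) (ka xa21 ya16 za4) (ka xa32 ya16 za47) (ka xa30 ya28 za21) (ka xa32 ya16 za48) (ka xa17 ya55 za61) (ka xa17 ya56 za0) (ka xa29 ya26 za35) (ka xa22 ya58 za53) (ka xa24 ya24 za59) (ka xa20 ya52 za7) (ka xa24 ya25 za2) (ka xa32 ya13 za39) (ka xa32 ya13 za40) (ka xa28 ya39 za44) (ka xa28 ya39 za46) (ka xa32 ya16 za37) (ka xa29 ya51 za60) (ka xa30 ya37 za48) (ka xa30 ya37 za18) (ka xa29 ya39 za7) (ka xa24 ya11 za4) (ka xa31 ya35 za29) (ka xa32 ya16 za36) (ka xa30 ya30 za33)) (@D3.rec (fun _ => Pt) (ka xa21 ya38 za3) (ka xa17 ya1 za32) (ka xa28 ya48 za49) (ka xa30 ya30 za24) (ka xa16 ya55 za42) (ka xa32 ya16 za28) (ka xa20 ya46 za7) (ka xa26 ya59 za52) (ka xa26 ya59 za50) (ka xa22 ya23 za43) (ka xa20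 ya19 za60) (ka xa18 ya33 za47) (ka xa17 ya3 za58) (ka xa29 ya19 za39) (ka xa29 ya36 za40) (ka xa27 ya59 za55) (ka xa19 ya31 za51) (ka xa28 ya17 za55) (ka xa20 ya29 za57) (ka xa20 ya38 za60) (ka xa20 ya38 za61) (ka xa20 ya39 za0) (ka xa20 ya57 za23) (ka xa24 ya14 za35) (ka xa20 ya57 za8) (ka xa17 ya7 za7) (ka xa17 ya7 za13) (ka xa20 ya38 za59) (ka xa17 ya1 za3) (ka xa17 ya1 za0) (ka xa32 ya15 za24) (ka xa16 ya56 za10) (ka xa16 ya56 za13) (ka xa16 ya56 za16) (ka xa20 ya19 za0) (ka xa27 ya14 za29) (ka xa20 ya18 za60) (ka xa28 ya33 za44) (ka xa27 ya39 za60) (ka xa32 ya17 za10) (ka xa32 ya17 za11) (ka xa28 ya38 za50) (ka xa32 ya17 za12) (ka xa20 ya20 za14) (ka xa28 ya32 za42) (ka xa28 ya18 za18) (ka xa26 ya50 za58) (ka xa20 ya51 za60) (ka xa20 ya15 za18) (ka xa20 ya15 za19) (ka xa20 ya18 za19) (ka xa24 ya5 za32) (ka xa19 ya49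 za24) (ka xa19 ya51 za58) (ka xa19 ya21 za54) (ka xa19 ya52 za3) (ka xa18 ya55 za48) (ka xa19 ya21 za51) (ka xa16 ya56 za46) (ka xa19 ya52 za34) (ka xa17 ya20 za34) (ka xa23 ya54 za2)) (@D3.rec (fun _ => Pt) (ka xa17 ya18 za42) (ka xa20 ya19 za38) (ka xa20 ya19 za39) (ka xa22 ya40 za34) (ka xa29 ya54 za37) (ka xa16 ya56 za59) (ka xa16 ya56 za60) (ka xa20 ya20 za8) (ka xa16 ya56 za58) (ka xa23 ya53 za28) (ka xa31 ya25 za54) (ka xa16 ya57 za6) (ka xa16 ya57 za5) (ka xa24 ya5 za30) (ka xa27 ya5 za16) (ka xa20 ya16 za50) (ka xa28 ya26 za15) (ka xa17 ya27 za11) (ka xa21 ya53 za60) (ka xa17 ya28 za27) (ka xa17 ya27 za15) (ka xa16 ya58 za18) (ka xa28 ya47 za27) (ka xa23 ya49 za24) (ka xa20 ya26 za13) (ka xa31 ya51 za55) (ka xa20 ya26 za36) (ka xa20 ya26 za37) (ka xa17 ya17 za4) (ka xa16 ya58 za17) (ka xa16 ya58 za19) (ka xa16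 ya58 za20) (ka xa16 ya58 za37) (ka xa16 ya58 za38) (ka xa25 ya20 za11) (ka xa16 ya58 za39) (ka xa16 ya58 za40) (ka xa31 ya17 za53) (ka xa24 ya4 za31) (ka xa20 ya54 za13) (ka xa17 ya49 za53) (ka xa29 ya15 za16) (ka xa16 ya58 za60) (ka xa20 ya43 za0) (ka xa30 ya18 za39) (ka xa22 ya14 za28) (ka xa30 ya18 za38) (ka xa28 ya45 za2) (ka xa20 ya43 za6) (ka xa31 ya13 za37) (ka xa29 ya35 za49) (ka xa29 ya35 za51) (ka xa30 ya38 za46) (ka xa32 ya17 za23) (ka xa32 ya17 za24) (ka xa29 ya28 za52) (ka xa20 ya28 za30) (ka xa24 ya18 za40) (ka xa29 ya35 za45) (ka xa29 ya35 za46) (ka xa29 ya35 za47) (ka xa29 ya25 za46)) (@D3.rec (fun _ => Pt) (ka xa24 ya52 za50) (ka xa19 ya50 za13) (ka xa24 ya52 za51) (ka xa27 ya43 za37) (ka xa23 ya47 za8) (ka xa23 ya47 za9) (ka xa29 ya35 za48) (ka xa28 ya43 za25) (ka xa20 ya49 za18) (ka xa24 ya12 za36) (ka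 xa29 ya36 za1) (ka xa29 ya35 za56) (ka xa19 ya58 za37) (ka xa31 ya29 za50) (ka xa29 ya35 za57) (ka xa19 ya58 za6) (ka xa28 ya37 za49) (ka xa24 ya51 za52) (ka xa28 ya9 za2) (ka xa32 ya17 za25) (ka xa27 ya37 za1) (ka xa32 ya17 za26) (ka xa20 ya54 za20) (ka xa20 ya28 za61) (ka xa31 ya40 za35) (ka xa31 ya40 za36) (ka xa29 ya36 za17) (ka xa31 ya53 za18) (ka xa16 ya58 za48) (ka xa20 ya54 za16) (ka xa20 ya54 za19) (ka xa16 ya58 za51) (ka xa32 ya17 za53) (ka xa28 ya53 za52) (ka xa29 ya15 za20) (ka xa31 ya17 za52) (ka xa31 ya56 za60) (ka xa32 ya17 za27) (ka xa16 ya58 za56) (ka xa29 ya15 za17) (ka xa31 ya21 za21) (ka xa29 ya27 za17) (ka xa32 ya17 za59) (ka xa29 ya27 za31) (ka xa32 ya17 za28) (ka xa24 ya49 za45) (ka xa32 ya17 za29) (ka xa20 ya54 za17) (ka xa20 ya54 za18) (ka xa20 ya54 za22) (ka xa30 ya14 za8) (ka xa20 ya54 za25)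 (ka xa29 ya4 za29) (ka xa29 ya41 za13) (ka xa19 ya25 za49) (ka xa25 ya12 za5) (ka xa17 ya4 za12) (ka xa17 ya2 za18) (ka xa17 ya8 za39) (ka xa28 ya34 za15) (ka xa20 ya29 za50) (ka xa25 ya4 za51)) (@D3.rec (fun _ => Pt) (ka xa23 ya56 za33) (ka xa18 ya1 za49) (ka xa20 ya43 za35) (ka xa20 ya43 za38) (ka xa20 ya43 za40) (ka xa20 ya34 za54) (ka xa17 ya0 za2) (ka xa17 ya0 za9) (ka xa28 ya1 za31) (ka xa18 ya50 za42) (ka xa20 ya36 za16) (ka xa23 ya19 za34) (ka xa18 ya21 za29) (ka xa17 ya9 za32) (ka xa26 ya59 za37) (ka xa27 ya56 za22) (ka xa17 ya51 za30) (ka xa18 ya50 za37) (ka xa18 ya37 za12) (ka xa26 ya49 za35) (ka xa25 ya17 za31) (ka xa25 ya39 za52) (ka xa28 ya1 za34) (ka xa18 ya50 za35) (ka xa17 ya52 za9) (ka xa17 ya52 za10) (ka xa20 ya30 za42) (ka xa20 ya30 za43) (ka xa17 ya53 za43) (ka xa20 ya30 za12) (ka xa20 ya30 za13) (ka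 xa20 ya30 za15) (ka xa20 ya30 za16) (ka xa20 ya30 za17) (ka xa20 ya30 za18) (ka xa20 ya30 za19) (ka xa20 ya30 za21) (ka xa17 ya8 za34) (ka xa17 ya0 za60) (ka xa17 ya1 za4) (ka xa17 ya1 za6) (ka xa17 ya1 za7) (ka xa17 ya1 za9) (ka xa28 ya23 za50) (ka xa17 ya1 za20) (ka xa17 ya1 za21) (ka xa17 ya1 za25) (ka xa17 ya1 za37) (ka xa17 ya1 za46) (ka xa17 ya1 za47) (ka xa32 ya16 za49) (ka xa17 ya1 za49) (ka xa17 ya1 za53) (ka xa17 ya2 za0) (ka xa19 ya13 za47) (ka xa19 ya11 za24) (ka xa17 ya28 za55) (ka xa17 ya2 za2) (ka xa17 ya2 za3) (ka xa17 ya2 za5) (ka xa17 ya2 za6) (ka xa20 ya31 za19)) (@D3.rec (fun _ => Pt) (ka xa32 ya8 za21) (ka xa23 ya4 za9) (ka xa32 ya16 za46) (ka xa18 ya52 za5) (ka xa20 ya34 za2) (ka xa20 ya34 za4) (ka xa26 ya26 za37) (ka xa23 ya0 za8) (ka xa26 ya25 za51) (ka xa30 ya46 za34) (ka xa26 ya31 za32) (ka xa26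 ya32 za45) (ka xa26 ya20 za24) (ka xa26 ya26 za40) (ka xa20 ya18 za56) (ka xa25 ya16 za11) (ka xa27 ya5 za10) (ka xa21 ya10 za25) (ka xa32 ya18 za18) (ka xa21 ya10 za27) (ka xa21 ya11 za31) (ka xa22 ya49 za24) (ka xa26 ya24 za57) (ka xa26 ya26 za1) (ka xa32 ya18 za21) (ka xa22 ya55 za8) (ka xa20 ya1 za58) (ka xa29 ya21 za29) (ka xa29 ya27 za50) (ka xa29 ya55 za47) (ka xa29 ya42 za9) (ka xa29 ya55 za43) (ka xa27 ya14 za11) (ka xa31 ya42 za4) (ka xa28 ya50 za14) (ka xa26 ya30 za56) (ka xa28 ya20 za23) (ka xa20 ya39 za59) (ka xa19 ya11 za43) (ka xa20 ya32 za45) (ka xa29 ya55 za34) (ka xa28 ya35 za31) (ka xa30 ya55 za46) (ka xa20 ya9 za0) (ka xa26 ya36 za34) (ka xa20 ya29 za21) (ka xa20 ya29 za22) (ka xa32 ya18 za11) (ka xa28 ya43 za15) (ka xa17 ya1 za44) (ka xa32 ya11 za54) (ka xa28 ya50 za11) (ka xa29 ya42 za3) (ka xa32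 ya18 za10) (ka xa30 ya44 za11) (ka xa32 ya16 za50) (ka xa28 ya33 za51) (ka xa20 ya4 za51) (ka xa29 ya55 za44) (ka xa19 ya12 za59) (ka xa31 ya17 za58) (ka xa31 ya17 za55)) (@D3.rec (fun _ => Pt) (ka xa21 ya11 za23) (ka xa21 ya11 za22) (ka xa29 ya40 za20) (ka xa26 ya44 za13) (ka xa24 ya11 za35) (ka xa31 ya18 za0) (ka xa29 ya55 za48) (ka xa24 ya26 za14) (ka xa17 ya1 za58) (ka xa32 ya18 za33) (ka xa24 ya19 za27) (ka xa28 ya52 za26) (ka xa28 ya52 za27) (ka xa24 ya39 za38) (ka xa29 ya27 za48) (ka xa17 ya1 za61) (ka xa30 ya12 za3) (ka xa32 ya9 za12) (ka xa21 ya11 za32) (ka xa30 ya30 za13) (ka xa28 ya23 za52) (ka xa28 ya20 za24) (ka xa30 ya25 za35) (ka xa24 ya1 za1) (ka xa17 ya27 za14) (ka xa20 ya42 za17) (ka xa17 ya4 za4) (ka xa17 ya9 za60) (ka xa21 ya52 za4) (ka xa20 ya38 za55) (ka xa17 ya2 za19) (ka xa32 ya12 za17) (ka xa17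 ya7 za16) (ka xa32 ya8 za8) (ka xa29 ya49 za24) (ka xa29 ya7 za25) (ka xa20 ya36 za52) (ka xa20 ya36 za51) (ka xa29 ya6 za15) (ka xa24 ya31 za35) (ka xa31 ya44 za12) (ka xa24 ya31 za0) (ka xa17 ya3 za43) (ka xa17 ya3 za40) (ka xa28 ya1 za6) (ka xa20 ya13 za30) (ka xa23 ya21 za52) (ka xa24 ya59 za11) (ka xa26 ya26 za32) (ka xa29 ya53 za19) (ka xa18 ya38 za2) (ka xa21 ya5 za52) (ka xa17 ya9 za56) (ka xa17 ya9 za59) (ka xa17 ya10 za2) (ka xa21 ya20 za45) (ka xa27 ya29 za20) (ka xa18 ya23 za9) (ka xa17 ya22 za44) (ka xa18 ya21 za18) (ka xa18 ya21 za19) (ka xa18 ya21 za24)) (@D3.rec (fun _ => Pt) (ka xa18 ya21 za27) (ka xa28 ya1 za7) (ka xa21 ya3 za19) (ka xa28 ya51 za45) (ka xa28 ya51 za44) (ka xa29 ya18 za51) (ka xa29 ya23 za55) (ka xa28 ya11 za2) (ka xa29 ya23 za56) (ka xa21 ya29 za4) (ka xa26 ya30 za3) (ka xa31 ya19 za14)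 (ka xa28 ya24 za22) (ka xa28 ya24 za24) (ka xa30 ya55 za44) (ka xa26 ya26 za61) (ka xa26 ya30 za5) (ka xa28 ya26 za33) (ka xa26 ya27 za0) (ka xa20 ya24 za36) (ka xa30 ya12 za36) (ka xa28 ya25 za13) (ka xa21 ya31 za7) (ka xa20 ya6 za54) (ka xa21 ya7 za15) (ka xa20 ya40 za0) (ka xa17 ya6 za11) (ka xa20 ya24 za13) (ka xa23 ya58 za38) (ka xa31 ya12 za56) (ka xa17 ya4 za7) (ka xa30 ya41 za36) (ka xa25 ya38 za9) (ka xa31 ya57 za26) (ka xa21 ya40 za40) (ka xa21 ya40 za41) (ka xa21 ya40 za42) (ka xa21 ya40 za43) (ka xa21 ya40 za44) (ka xa17 ya5 za56) (ka xa17 ya5 za58) (ka xa21 ya22 za25) (ka xa17 ya6 za2) (ka xa17 ya6 za3) (ka xa17 ya6 za4) (ka xa17 ya6 za8) (ka xa17 ya6 za14) (ka xa17 ya6 za25) (ka xa17 ya6 za27) (ka xa17 ya6 za37) (ka xa17 ya6 za45) (ka xa17 ya6 za49) (ka xa21 ya16 za11) (ka xa17 ya9 za39) (ka xa22 ya3 za23)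 (ka xa22 ya3 za24) (ka xa20 ya49 za10) (ka xa22 ya3 za25) (ka xa22 ya3 za34) (ka xa20 ya51 za6) (ka xa20 ya51 za7) (ka xa20 ya51 za9)) (@D3.rec (fun _ => Pt) (ka xa21 ya32 za17) (ka xa22 ya3 za39) (ka xa22 ya3 za40) (ka xa21 ya32 za14) (ka xa20 ya16 za44) (ka xa17 ya59 za33) (ka xa17 ya50 za30) (ka xa18 ya25 za24) (ka xa21 ya50 za19) (ka xa21 ya50 za54) (ka xa21 ya50 za56) (ka xa21 ya43 za48) (ka xa21 ya50 za58) (ka xa21 ya51 za0) (ka xa21 ya30 za41) (ka xa21 ya49 za43) (ka xa21 ya51 za22) (ka xa21 ya51 za24) (ka xa20 ya42 za6) (ka xa28 ya0 za60) (ka xa27 ya37 za32) (ka xa20 ya58 za39) (ka xa25 ya17 za56) (ka xa20 ya58 za41) (ka xa21 ya20 za59) (ka xa32 ya3 za34) (ka xa32 ya10 za32) (ka xa25 ya17 za32) (ka xa25 ya17 za18) (ka xa18 ya1 za16) (ka xa21 ya54 za9) (ka xa26 ya37 za22) (ka xa29 ya44 za58) (ka xa26 ya59 za44)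 (ka xa28 ya44 za20) (ka xa26 ya34 za53) (ka xa27 ya36 za38) (ka xa26 ya55 za14) (ka xa25 ya16 za47) (ka xa29 ya45 za2) (ka xa25 ya17 za34) (ka xa24 ya18 za5) (ka xa24 ya33 za12) (ka xa26 ya40 za60) (ka xa26 ya59 za33) (ka xa30 ya9 za26) (ka xa20 ya52 za8) (ka xa19 ya43 za31) (ka xa21 ya16 za0) (ka xa24 ya25 za16) (ka xa26 ya52 za8) (ka xa18 ya48 za43) (ka xa26 ya52 za7) (ka xa29 ya21 za24) (ka xa21 ya55 za8) (ka xa28 ya16 za4) (ka xa17 ya33 za14) (ka xa20 ya38 za37) (ka xa30 ya28 za34) (ka xa20 ya41 za14) (ka xa30 ya30 za21) (ka xa29 ya14 za38))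
def f_a_27 : D2 → D3 → Pt := @D2.rec (fun _ => D3 → Pt) (@D3.rec (fun _ => Pt) (ka xa20 ya37 za26) (ka xa20 ya37 za27) (ka xa20 ya36 za45) (ka xa28 ya40 za10) (ka xa17 ya28 za54) (ka xa20 ya39 za43) (ka xa20 ya39 za44) (ka xa20 ya39 za45) (ka xa20 ya38 za48) (ka xa20 ya39 za47) (ka xa20 ya58 za5) (ka xa28 ya40 za14) (ka xa20 ya55 za34) (ka xa28 ya40 za15) (ka xa28 ya40 za16) (ka xa29 ya33 za61) (ka xa26 ya40 za41) (ka xa29 ya0 za61) (ka xa29 ya50 za4) (ka xa26 ya38 za25) (ka xa20 ya53 za19) (ka xa26 ya37 za34) (ka xa24 ya3 za25) (ka xa17 ya7 za5) (ka xa32 ya19 za1) (ka xa32 ya19 za2) (ka xa29 ya33 za47) (ka xa32 ya17 za6) (ka xa20 ya57 za10) (ka xa17 ya7 za8) (ka xa32 ya19 za10) (ka xa29 ya33 za41) (ka xa17 ya7 za12) (ka xa29 ya43 za21) (ka xa29 ya43 za20) (ka xa29 ya42 za14) (ka xa30 ya15 za55) (ka xa31 ya26 za10) (ka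 xa31 ya46 za58) (ka xa31 ya42 za5) (ka xa28 ya55 za44) (ka xa29 ya45 za31) (ka xa32 ya18 za42) (ka xa30 ya29 za27) (ka xa20 ya23 za61) (ka xa29 ya22 za37) (ka xa20 ya24 za2) (ka xa27 ya55 za40) (ka xa21 ya9 za26) (ka xa29 ya13 za61) (ka xa20 ya38 za16) (ka xa20 ya50 za52) (ka xa17 ya32 za25) (ka xa17 ya8 za10) (ka xa17 ya8 za18) (ka xa20 ya52 za20) (ka xa29 ya24 za29) (ka xa29 ya22 za32) (ka xa21 ya3 za58) (ka xa29 ya32 za44) (ka xa31 ya3 za48) (ka xa20 ya52 za28)) (@D3.rec (fun _ => Pt) (ka xa20 ya52 za25) (ka xa20 ya53 za23) (ka xa29 ya5 za59) (ka xa28 ya9 za19) (ka xa27 ya41 za5) (ka xa17 ya8 za53) (ka xa28 ya25 za19) (ka xa20 ya53 za36) (ka xa19 ya59 za27) (ka xa26 ya10 za46) (ka xa30 ya51 za36) (ka xa29 ya43 za18) (ka xa30 ya0 za17) (ka xa18 ya0 za19) (ka xa20 ya13 za37) (ka xa23 ya30 za61) (ka xa27 ya57 za49) (ka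 xa23 ya13 za53) (ka xa29 ya29 za41) (ka xa24 ya31 za16) (ka xa26 ya14 za57) (ka xa18 ya36 za57) (ka xa31 ya11 za49) (ka xa28 ya11 za18) (ka xa17 ya9 za29) (ka xa17 ya9 za33) (ka xa30 ya17 za60) (ka xa26 ya3 za23) (ka xa25 ya42 za37) (ka xa25 ya18 za37) (ka xa21 ya7 za32) (ka xa27 ya51 za16) (ka xa27 ya41 za6) (ka xa20 ya5 za8) (ka xa27 ya1 za55) (ka xa29 ya5 za4) (ka xa27 ya46 za60) (ka xa21 ya21 za11) (ka xa29 ya57 za13) (ka xa17 ya44 za6) (ka xa29 ya56 za35) (ka xa25 ya34 za50) (ka xa17 ya44 za5) (ka xa29 ya56 za38) (ka xa17 ya10 za18) (ka xa27 ya17 za49) (ka xa27 ya17 za45) (ka xa30 ya12 za61) (ka xa27 ya17 za54) (ka xa27 ya17 za53) (ka xa17 ya10 za27) (ka xa27 ya17 za57) (ka xa27 ya17 za56) (ka xa31 ya4 za19) (ka xa25 ya57 za56) (ka xa27 ya1 za34) (ka xa29 ya56 za1) (ka xa17 ya10 za33) (ka xa29 ya39 za9) (ka xa31 ya16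 za14) (ka xa28 ya24 za57) (ka xa17 ya11 za32)) (@D3.rec (fun _ => Pt) (ka xa17 ya10 za38) (ka xa24 ya10 za32) (ka xa17 ya11 za46) (ka xa17 ya11 za41) (ka xa17 ya10 za41) (ka xa18 ya31 za25) (ka xa17 ya11 za61) (ka xa17 ya12 za1) (ka xa20 ya42 za46) (ka xa29 ya21 za8) (ka xa17 ya18 za57) (ka xa17 ya18 za58) (ka xa17 ya18 za59) (ka xa17 ya18 za60) (ka xa17 ya17 za36) (ka xa32 ya19 za30) (ka xa20 ya43 za14) (ka xa17 ya17 za42) (ka xa27 ya7 za58) (ka xa26 ya27 za5) (ka xa24 ya22 za2) (ka xa17 ya24 za26) (ka xa17 ya24 za28) (ka xa17 ya24 za29) (ka xa17 ya24 za30) (ka xa17 ya24 za31) (ka xa22 ya13 za6) (ka xa27 ya7 za0) (ka xa24 ya11 za0) (ka xa21 ya3 za23) (ka xa17 ya11 za23) (ka xa20 ya27 za40) (ka xa28 ya21 za19) (ka xa20 ya47 za40) (ka xa23 ya19 za9) (ka xa22 ya16 za39) (ka xa30 ya27 za55) (ka xa26 ya50 za43) (ka xa19 ya17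 za51) (ka xa21 ya16 za42) (ka xa21 ya16 za43) (ka xa27 ya13 za36) (ka xa25 ya43 za19) (ka xa20 ya19 za2) (ka xa31 ya53 za23) (ka xa20 ya19 za8) (ka xa17 ya11 za44) (ka xa27 ya52 za56) (ka xa25 ya18 za17) (ka xa27 ya52 za57) (ka xa27 ya8 za0) (ka xa27 ya59 za49) (ka xa31 ya29 za14) (ka xa24 ya10 za28) (ka xa27 ya51 za48) (ka xa24 ya8 za3) (ka xa31 ya56 za26) (ka xa17 ya26 za35) (ka xa21 ya45 za3) (ka xa28 ya8 za33) (ka xa28 ya8 za9) (ka xa30 ya6 za2)) (@D3.rec (fun _ => Pt) (ka xa21 ya38 za34) (ka xa28 ya21 za23) (ka xa28 ya28 za53) (ka xa30 ya18 za46) (ka xa17 ya11 za59) (ka xa30 ya48 za16) (ka xa23 ya46 za35) (ka xa28 ya21 za55) (ka xa31 ya58 za55) (ka xa22 ya0 za60) (ka xa26 ya45 za11) (ka xa17 ya26 za37) (ka xa21 ya9 za52) (ka xa28 ya35 za54) (ka xa30 ya19 za33) (ka xa25 ya18 za39) (ka xa17 ya12 za26) (ka xa21 ya45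 za4) (ka xa20 ya40 za56) (ka xa29 ya29 za25) (ka xa19 ya50 za40) (ka xa27 ya39 za10) (ka xa30 ya2 za48) (ka xa31 ya57 za59) (ka xa17 ya12 za29) (ka xa19 ya25 za26) (ka xa20 ya13 za47) (ka xa28 ya5 za46) (ka xa29 ya38 za52) (ka xa18 ya25 za56) (ka xa21 ya30 za13) (ka xa21 ya30 za14) (ka xa21 ya30 za15) (ka xa18 ya40 za46) (ka xa18 ya40 za47) (ka xa18 ya40 za45) (ka xa29 ya30 za10) (ka xa18 ya42 za6) (ka xa27 ya36 za25) (ka xa27 ya3 za42) (ka xa17 ya13 za30) (ka xa26 ya11 za0) (ka xa27 ya3 za39) (ka xa17 ya20 za3) (ka xa21 ya34 za53) (ka xa18 ya37 za40) (ka xa26 ya11 za2) (ka xa21 ya19 za49) (ka xa28 ya47 za6) (ka xa29 ya52 za0) (ka xa30 ya19 za60) (ka xa29 ya52 za1) (ka xa17 ya13 za33) (ka xa30 ya10 za7) (ka xa17 ya14 za7) (ka xa17 ya13 za36) (ka xa26 ya11 za38) (ka xa21 ya58 za45) (ka xa21 ya22 za58) (ka xa17 ya13 za41)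 (ka xa25 ya9 za55) (ka xa21 ya31 za17)) (@D3.rec (fun _ => Pt) (ka xa26 ya5 za49) (ka xa21 ya23 za8) (ka xa18 ya57 za10) (ka xa24 ya19 za47) (ka xa27 ya56 za50) (ka xa21 ya22 za20) (ka xa21 ya22 za19) (ka xa17 ya13 za51) (ka xa29 ya16 za60) (ka xa21 ya22 za42) (ka xa27 ya38 za52) (ka xa21 ya22 za39) (ka xa29 ya57 za58) (ka xa21 ya23 za34) (ka xa24 ya49 za2) (ka xa21 ya18 za0) (ka xa17 ya14 za1) (ka xa29 ya23 za27) (ka xa21 ya19 za37) (ka xa29 ya58 za41) (ka xa23 ya47 za34) (ka xa21 ya23 za42) (ka xa17 ya43 za50) (ka xa21 ya25 za48) (ka xa21 ya25 za46) (ka xa21 ya24 za19) (ka xa21 ya24 za18) (ka xa17 ya14 za13) (ka xa32 ya19 za48) (ka xa17 ya14 za20) (ka xa30 ya19 za44) (ka xa17 ya14 za17) (ka xa17 ya14 za18) (ka xa30 ya51 za49) (ka xa32 ya19 za51) (ka xa30 ya8 za54) (ka xa30 ya0 za42) (ka xa30 ya0 za43) (ka xa30 ya0 za44)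 (ka xa30 ya0 za45) (ka xa25 ya44 za6) (ka xa32 ya19 za50) (ka xa31 ya58 za26) (ka xa21 ya28 za8) (ka xa21 ya28 za6) (ka xa21 ya34 za56) (ka xa21 ya34 za55) (ka xa28 ya9 za61) (ka xa23 ya44 za36) (ka xa26 ya14 za50) (ka xa22 ya37 za2) (ka xa21 ya27 za2) (ka xa21 ya27 za1) (ka xa17 ya14 za41) (ka xa17 ya14 za51) (ka xa17 ya14 za43) (ka xa17 ya14 za47) (ka xa23 ya27 za9) (ka xa23 ya27 za8) (ka xa25 ya36 za59) (ka xa28 ya47 za46) (ka xa29 ya4 za51)) (@D3.rec (fun _ => Pt) (ka xa29 ya59 za16) (ka xa29 ya4 za48) (ka xa31 ya46 za35) (ka xa30 ya19 za28) (ka xa21 ya15 za36) (ka xa17 ya15 za4) (ka xa17 ya15 za5) (ka xa17 ya15 za6) (ka xa17 ya15 za8) (ka xa24 ya25 za25) (ka xa26 ya56 za16) (ka xa24 ya30 za19) (ka xa24 ya30 za18) (ka xa26 ya27 za6) (ka xa20 ya47 za42) (ka xa29 ya38 za9) (ka xa26 ya53 za14) (ka xa29 ya19 za8) (ka xa21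 ya53 za59) (ka xa26 ya28 za18) (ka xa22 ya38 za19) (ka xa26 ya28 za22) (ka xa24 ya53 za3) (ka xa26 ya28 za24) (ka xa26 ya28 za25) (ka xa24 ya47 za29) (ka xa29 ya27 za9) (ka xa29 ya27 za10) (ka xa26 ya19 za4) (ka xa26 ya19 za3) (ka xa25 ya6 za17) (ka xa21 ya15 za37) (ka xa21 ya15 za38) (ka xa21 ya15 za39) (ka xa21 ya15 za41) (ka xa21 ya15 za42) (ka xa18 ya54 za58) (ka xa21 ya15 za27) (ka xa21 ya15 za28) (ka xa21 ya15 za30) (ka xa21 ya15 za31) (ka xa21 ya20 za42) (ka xa17 ya15 za59) (ka xa28 ya6 za58) (ka xa31 ya26 za45) (ka xa21 ya31 za55) (ka xa21 ya31 za54) (ka xa17 ya16 za5) (ka xa26 ya17 za4) (ka xa29 ya59 za58) (ka xa21 ya32 za18) (ka xa21 ya32 za15) (ka xa21 ya33 za5) (ka xa17 ya16 za15) (ka xa17 ya16 za17) (ka xa30 ya8 za10) (ka xa21 ya54 za32) (ka xa21 ya59 za7) (ka xa21 ya28 za29) (ka xa17 ya16 za23) (ka xa26 ya6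 za4) (ka xa26 ya6 za2)) (@D3.rec (fun _ => Pt) (ka xa26 ya6 za7) (ka xa26 ya6 za6) (ka xa26 ya6 za18) (ka xa17 ya16 za30) (ka xa21 ya27 za35) (ka xa27 ya38 za34) (ka xa18 ya10 za59) (ka xa30 ya3 za24) (ka xa27 ya59 za52) (ka xa18 ya54 za36) (ka xa17 ya19 za21) (ka xa28 ya37 za34) (ka xa23 ya47 za30) (ka xa31 ya37 za22) (ka xa21 ya39 za34) (ka xa21 ya39 za33) (ka xa17 ya16 za53) (ka xa31 ya49 za33) (ka xa21 ya39 za31) (ka xa27 ya21 za56) (ka xa21 ya39 za49) (ka xa31 ya56 za7) (ka xa21 ya39 za51) (ka xa18 ya56 za59) (ka xa22 ya23 za20) (ka xa30 ya46 za58) (ka xa17 ya18 za40) (ka xa17 ya18 za37) (ka xa17 ya18 za38) (ka xa17 ya18 za43) (ka xa22 ya25 za47) (ka xa30 ya5 za5) (ka xa20 ya26 za52) (ka xa24 ya14 za26) (ka xa24 ya14 za28) (ka xa24 ya14 za29) (ka xa24 ya14 za31) (ka xa24 ya10 za27) (ka xa27 ya11 za2) (ka xa27 ya11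 za1) (ka xa17 ya17 za17) (ka xa29 ya30 za46) (ka xa22 ya41 za33) (ka xa22 ya41 za34) (ka xa23 ya48 za54) (ka xa23 ya48 za55) (ka xa22 ya50 za39) (ka xa22 ya7 za11) (ka xa22 ya13 za49) (ka xa30 ya5 za4) (ka xa23 ya48 za59) (ka xa23 ya48 za60) (ka xa27 ya21 za40) (ka xa30 ya5 za6) (ka xa30 ya5 za7) (ka xa30 ya5 za8) (ka xa32 ya20 za20) (ka xa30 ya19 za9) (ka xa27 ya59 za7) (ka xa30 ya22 za34) (ka xa31 ya20 za8) (ka xa27 ya13 za42)) (@D3.rec (fun _ => Pt) (ka xa27 ya2 za27) (ka xa30 ya19 za12) (ka xa32 ya19 za27) (ka xa32 ya19 za28) (ka xa29 ya9 za24) (ka xa32 ya20 za30) (ka xa28 ya52 za3) (ka xa32 ya20 za33) (ka xa30 ya5 za58) (ka xa30 ya39 za22) (ka xa32 ya19 za29) (ka xa17 ya17 za39) (ka xa28 ya0 za45) (ka xa21 ya38 za33) (ka xa32 ya20 za40) (ka xa30 ya19 za11) (ka xa30 ya28 za51) (ka xa30 ya28 za48) (ka xa17 ya17 za44)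 (ka xa17 ya17 za45) (ka xa27 ya9 za44) (ka xa28 ya25 za5) (ka xa32 ya20 za42) (ka xa31 ya38 za10) (ka xa28 ya25 za32) (ka xa32 ya20 za52) (ka xa21 ya38 za38) (ka xa21 ya38 za41) (ka xa18 ya0 za20) (ka xa20 ya44 za12) (ka xa20 ya44 za15) (ka xa20 ya44 za16) (ka xa20 ya44 za17) (ka xa17 ya26 za27) (ka xa17 ya26 za36) (ka xa32 ya21 za0) (ka xa17 ya26 za39) (ka xa28 ya58 za23) (ka xa29 ya0 za35) (ka xa17 ya17 za61) (ka xa30 ya55 za3) (ka xa17 ya27 za36) (ka xa17 ya27 za38) (ka xa17 ya27 za39) (ka xa30 ya19 za61) (ka xa29 ya56 za5) (ka xa29 ya56 za6) (ka xa25 ya56 za51) (ka xa29 ya56 za3) (ka xa29 ya56 za4) (ka xa25 ya57 za33) (ka xa17 ya18 za4) (ka xa27 ya18 za40) (ka xa27 ya18 za39) (ka xa32 ya21 za6) (ka xa32 ya21 za7) (ka xa17 ya28 za23) (ka xa17 ya28 za25) (ka xa27 ya2 za18) (ka xa17 ya18 za16) (ka xa30 ya5 za37) (ka xa28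 ya18 za59)) (@D3.rec (fun _ => Pt) (ka xa27 ya2 za50) (ka xa28 ya0 za44) (ka xa27 ya12 za1) (ka xa28 ya17 za56) (ka xa28 ya16 za47) (ka xa18 ya48 za13) (ka xa20 ya40 za43) (ka xa21 ya3 za52) (ka xa26 ya44 za14) (ka xa18 ya47 za53) (ka xa26 ya50 za61) (ka xa21 ya16 za51) (ka xa29 ya47 za38) (ka xa30 ya7 za34) (ka xa17 ya18 za44) (ka xa26 ya28 za59) (ka xa26 ya28 za60) (ka xa29 ya28 za56) (ka xa23 ya48 za30) (ka xa29 ya28 za57) (ka xa29 ya28 za58) (ka xa27 ya10 za17) (ka xa32 ya20 za8) (ka xa27 ya9 za6) (ka xa27 ya59 za58) (ka xa32 ya20 za6) (ka xa32 ya20 za7) (ka xa30 ya11 za1) (ka xa31 ya24 za10) (ka xa28 ya46 za45) (ka xa31 ya24 za9) (ka xa32 ya15 za4) (ka xa31 ya18 za8) (ka xa30 ya28 za38) (ka xa21 ya52 za53) (ka xa31 ya9 za2) (ka xa22 ya1 za2) (ka xa22 ya1 za3) (ka xa22 ya1 za1) (ka xa22 ya1 za4) (ka xa21 ya15 za59)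 (ka xa27 ya14 za26) (ka xa28 ya52 za35) (ka xa31 ya32 za33) (ka xa28 ya17 za26) (ka xa28 ya17 za28) (ka xa29 ya48 za11) (ka xa31 ya22 za56) (ka xa31 ya13 za57) (ka xa18 ya48 za58) (ka xa23 ya48 za44) (ka xa27 ya13 za40) (ka xa29 ya1 za60) (ka xa27 ya13 za41) (ka xa32 ya19 za25) (ka xa32 ya19 za26) (ka xa32 ya20 za24) (ka xa30 ya21 za49) (ka xa31 ya13 za11) (ka xa32 ya20 za10) (ka xa32 ya20 za9) (ka xa17 ya18 za61)) (@D3.rec (fun _ => Pt) (ka xa28 ya36 za35) (ka xa27 ya40 za27) (ka xa20 ya46 za13) (ka xa20 ya46 za25) (ka xa17 ya19 za22) (ka xa32 ya20 za0) (ka xa27 ya8 za23) (ka xa17 ya21 za61) (ka xa23 ya7 za7) (ka xa25 ya56 za27) (ka xa17 ya19 za28) (ka xa17 ya22 za57) (ka xa17 ya22 za24) (ka xa22 ya7 za59) (ka xa21 ya37 za39) (ka xa25 ya23 za61) (ka xa30 ya54 za12) (ka xa31 ya27 za59) (ka xa20 ya46 za46) (ka xa18 ya0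 za51) (ka xa17 ya21 za29) (ka xa20 ya51 za46) (ka xa17 ya23 za11) (ka xa17 ya19 za58) (ka xa17 ya19 za59) (ka xa17 ya19 za60) (ka xa17 ya19 za61) (ka xa17 ya20 za8) (ka xa17 ya20 za9) (ka xa27 ya13 za46) (ka xa27 ya13 za47) (ka xa21 ya51 za49) (ka xa28 ya32 za31) (ka xa19 ya59 za51) (ka xa28 ya27 za19) (ka xa30 ya27 za36) (ka xa26 ya17 za40) (ka xa23 ya1 za39) (ka xa18 ya56 za61) (ka xa30 ya6 za57) (ka xa20 ya36 za41) (ka xa32 ya15 za51) (ka xa29 ya14 za56) (ka xa29 ya14 za57) (ka xa27 ya7 za20) (ka xa24 ya12 za31) (ka xa26 ya27 za51) (ka xa28 ya17 za8) (ka xa26 ya27 za50) (ka xa28 ya12 za15) (ka xa31 ya0 za3) (ka xa21 ya2 za52) (ka xa17 ya24 za56) (ka xa17 ya24 za59) (ka xa23 ya57 za2) (ka xa17 ya25 za6) (ka xa17 ya25 za10) (ka xa31 ya34 za50) (ka xa17 ya25 za17) (ka xa17 ya25 za41) (ka xa28 ya9 za51) (ka xa28 ya9 za52))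 (@D3.rec (fun _ => Pt) (ka xa25 ya56 za38) (ka xa28 ya34 za13) (ka xa17 ya25 za49) (ka xa17 ya25 za50) (ka xa17 ya25 za51) (ka xa17 ya25 za53) (ka xa27 ya56 za23) (ka xa27 ya56 za24) (ka xa30 ya54 za49) (ka xa17 ya26 za4) (ka xa17 ya26 za5) (ka xa17 ya26 za8) (ka xa30 ya48 za17) (ka xa17 ya20 za29) (ka xa21 ya44 za16) (ka xa17 ya20 za33) (ka xa29 ya54 za51) (ka xa27 ya8 za21) (ka xa17 ya27 za3) (ka xa17 ya27 za5) (ka xa20 ya26 za16) (ka xa18 ya5 za30) (ka xa17 ya20 za41) (ka xa21 ya59 za37) (ka xa20 ya45 za7) (ka xa21 ya52 za52) (ka xa20 ya23 za44) (ka xa32 ya21 za42) (ka xa20 ya56 za54) (ka xa17 ya31 za37) (ka xa17 ya32 za27) (ka xa23 ya53 za4) (ka xa28 ya23 za44) (ka xa22 ya0 za58) (ka xa29 ya28 za51) (ka xa21 ya59 za58) (ka xa28 ya35 za53) (ka xa17 ya21 za6) (ka xa17 ya21 za9) (ka xa21 ya51 za42) (ka xa24 ya25 za27)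 (ka xa17 ya21 za4) (ka xa31 ya20 za16) (ka xa27 ya55 za57) (ka xa31 ya19 za51) (ka xa22 ya33 za29) (ka xa21 ya8 za38) (ka xa28 ya37 za12) (ka xa29 ya39 za25) (ka xa19 ya12 za18) (ka xa19 ya6 za53) (ka xa26 ya35 za9) (ka xa19 ya52 za2) (ka xa19 ya45 za37) (ka xa20 ya46 za0) (ka xa23 ya49 za31) (ka xa17 ya28 za43) (ka xa26 ya40 za37) (ka xa30 ya27 za30) (ka xa28 ya57 za43) (ka xa31 ya46 za37) (ka xa17 ya21 za35)) (@D3.rec (fun _ => Pt) (ka xa17 ya29 za6) (ka xa27 ya6 za39) (ka xa27 ya6 za38) (ka xa25 ya54 za28) (ka xa17 ya21 za44) (ka xa24 ya43 za31) (ka xa21 ya46 za12) (ka xa30 ya6 za18) (ka xa17 ya21 za43) (ka xa25 ya54 za0) (ka xa20 ya23 za46) (ka xa26 ya48 za57) (ka xa20 ya45 za37) (ka xa19 ya23 za11) (ka xa20 ya38 za27) (ka xa24 ya6 za17) (ka xa23 ya51 za9) (ka xa25 ya49 za39) (ka xa23 ya49 za4) (ka xa23 ya49 za49)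 (ka xa21 ya39 za18) (ka xa21 ya39 za17) (ka xa17 ya22 za4) (ka xa28 ya58 za11) (ka xa28 ya58 za8) (ka xa31 ya55 za21) (ka xa25 ya13 za12) (ka xa17 ya28 za61) (ka xa25 ya29 za13) (ka xa25 ya32 za14) (ka xa25 ya32 za15) (ka xa17 ya22 za17) (ka xa21 ya31 za5) (ka xa22 ya9 za25) (ka xa17 ya22 za14) (ka xa27 ya20 za57) (ka xa27 ya20 za6) (ka xa17 ya22 za16) (ka xa25 ya25 za48) (ka xa19 ya43 za47) (ka xa29 ya19 za38) (ka xa17 ya26 za22) (ka xa17 ya26 za30) (ka xa30 ya15 za13) (ka xa28 ya13 za39) (ka xa27 ya57 za50) (ka xa17 ya22 za40) (ka xa17 ya22 za43) (ka xa17 ya22 za46) (ka xa17 ya22 za47) (ka xa17 ya22 za51) (ka xa26 ya51 za23) (ka xa23 ya42 za27) (ka xa29 ya38 za55) (ka xa29 ya21 za44) (ka xa29 ya26 za40) (ka xa25 ya53 za6) (ka xa20 ya47 za1) (ka xa30 ya8 za37) (ka xa28 ya13 za57) (ka xa21 ya39 za58) (ka xa31 ya20 za34))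 (@D3.rec (fun _ => Pt) (ka xa32 ya21 za51) (ka xa27 ya8 za2) (ka xa29 ya0 za59) (ka xa31 ya20 za35) (ka xa28 ya43 za8) (ka xa28 ya51 za38) (ka xa28 ya51 za20) (ka xa22 ya21 za31) (ka xa31 ya41 za52) (ka xa24 ya50 za55) (ka xa24 ya50 za54) (ka xa24 ya9 za13) (ka xa20 ya51 za33) (ka xa21 ya49 za34) (ka xa21 ya54 za7) (ka xa20 ya43 za24) (ka xa29 ya24 za20) (ka xa20 ya46 za38) (ka xa28 ya19 za0) (ka xa29 ya51 za61) (ka xa26 ya29 za40) (ka xa20 ya45 za43) (ka xa28 ya18 za40) (ka xa28 ya5 za4) (ka xa28 ya21 za39) (ka xa18 ya4 za41) (ka xa20 ya47 za10) (ka xa20 ya46 za23) (ka xa29 ya7 za34) (ka xa20 ya46 za45) (ka xa20 ya45 za44) (ka xa20 ya46 za48) (ka xa17 ya23 za50) (ka xa17 ya23 za51) (ka xa17 ya23 za55) (ka xa17 ya23 za58) (ka xa29 ya28 za40) (ka xa17 ya24 za15) (ka xa17 ya24 za16) (ka xa17 ya24 za17) (ka xa20 ya47 za15)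 (ka xa20 ya47 za17) (ka xa20 ya47 za18) (ka xa20 ya47 za19) (ka xa20 ya47 za20) (ka xa20 ya47 za21) (ka xa17 ya34 za2) (ka xa26 ya5 za58) (ka xa18 ya0 za39) (ka xa18 ya0 za40) (ka xa18 ya0 za43) (ka xa23 ya29 za42) (ka xa24 ya23 za6) (ka xa22 ya23 za37) (ka xa23 ya28 za59) (ka xa30 ya51 za46) (ka xa31 ya27 za19) (ka xa24 ya17 za2) (ka xa21 ya3 za35) (ka xa21 ya14 za1) (ka xa25 ya28 za40) (ka xa24 ya9 za9)) (@D3.rec (fun _ => Pt) (ka xa23 ya1 za43) (ka xa32 ya22 za2) (ka xa31 ya27 za36) (ka xa23 ya1 za40) (ka xa23 ya1 za41) (ka xa29 ya54 za61) (ka xa29 ya30 za22) (ka xa25 ya36 za33) (ka xa19 ya37 za37) (ka xa31 ya19 za15) (ka xa19 ya37 za34) (ka xa22 ya14 za30) (ka xa27 ya21 za21) (ka xa30 ya27 za39) (ka xa30 ya6 za50) (ka xa17 ya32 za57) (ka xa17 ya24 za14) (ka xa32 ya22 za6) (ka xa29 ya28 za38) (ka xa27 ya16 za35) (ka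 xa28 ya49 za20) (ka xa17 ya32 za58) (ka xa32 ya21 za59) (ka xa17 ya32 za56) (ka xa25 ya2 za11) (ka xa17 ya24 za22) (ka xa20 ya6 za33) (ka xa20 ya5 za57) (ka xa20 ya20 za15) (ka xa22 ya39 za37) (ka xa26 ya49 za23) (ka xa28 ya16 za30) (ka xa28 ya16 za31) (ka xa31 ya33 za13) (ka xa32 ya19 za33) (ka xa32 ya19 za34) (ka xa27 ya2 za41) (ka xa32 ya19 za61) (ka xa18 ya46 za55) (ka xa28 ya51 za58) (ka xa27 ya8 za51) (ka xa27 ya8 za53) (ka xa27 ya6 za61) (ka xa21 ya30 za38) (ka xa24 ya15 za1) (ka xa21 ya16 za7) (ka xa27 ya9 za29) (ka xa27 ya9 za30) (ka xa29 ya37 za50) (ka xa29 ya37 za51) (ka xa29 ya37 za52) (ka xa29 ya37 za53) (ka xa29 ya37 za55) (ka xa29 ya37 za56) (ka xa27 ya14 za39) (ka xa27 ya14 za40) (ka xa20 ya0 za25) (ka xa27 ya14 za41) (ka xa27 ya14 za43) (ka xa22 ya24 za23) (ka xa24 ya24 za48) (ka xa27 ya14 za44)) (@D3.rec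 (fun _ => Pt) (ka xa27 ya14 za45) (ka xa27 ya14 za46) (ka xa27 ya14 za47) (ka xa27 ya14 za49) (ka xa27 ya14 za38) (ka xa20 ya38 za8) (ka xa26 ya50 za9) (ka xa26 ya23 za4) (ka xa28 ya32 za41) (ka xa26 ya45 za52) (ka xa27 ya17 za9) (ka xa26 ya56 za32) (ka xa31 ya36 za38) (ka xa25 ya48 za24) (ka xa25 ya48 za20) (ka xa29 ya16 za32) (ka xa32 ya21 za36) (ka xa25 ya56 za7) (ka xa24 ya22 za54) (ka xa25 ya8 za11) (ka xa32 ya8 za15) (ka xa30 ya36 za12) (ka xa31 ya6 za43) (ka xa31 ya16 za54) (ka xa25 ya56 za3) (ka xa32 ya1 za56) (ka xa27 ya8 za41) (ka xa17 ya25 za9) (ka xa32 ya8 za12) (ka xa26 ya52 za35) (ka xa32 ya22 za28) (ka xa27 ya19 za41) (ka xa29 ya41 za49) (ka xa17 ya25 za15) (ka xa29 ya41 za47) (ka xa30 ya16 za55) (ka xa24 ya58 za23) (ka xa22 ya1 za47) (ka xa27 ya14 za4) (ka xa27 ya13 za54) (ka xa27 ya13 za55) (ka xa27 ya13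 za57) (ka xa24 ya29 za51) (ka xa27 ya13 za58) (ka xa27 ya13 za61) (ka xa27 ya14 za0) (ka xa27 ya14 za1) (ka xa27 ya14 za2) (ka xa29 ya34 za8) (ka xa27 ya14 za3) (ka xa27 ya57 za52) (ka xa27 ya59 za40) (ka xa23 ya53 za9) (ka xa28 ya13 za41) (ka xa28 ya13 za42) (ka xa28 ya13 za43) (ka xa27 ya54 za56) (ka xa28 ya13 za44) (ka xa30 ya54 za34) (ka xa17 ya25 za35) (ka xa25 ya31 za42) (ka xa31 ya30 za52)) (@D3.rec (fun _ => Pt) (ka xa17 ya25 za45) (ka xa17 ya25 za46) (ka xa28 ya22 za52) (ka xa31 ya13 za12) (ka xa28 ya20 za20) (ka xa31 ya15 za60) (ka xa30 ya36 za10) (ka xa32 ya22 za24) (ka xa28 ya37 za56) (ka xa28 ya26 za35) (ka xa29 ya42 za15) (ka xa17 ya25 za48) (ka xa32 ya22 za36) (ka xa27 ya16 za52) (ka xa27 ya16 za56) (ka xa32 ya21 za39) (ka xa26 ya3 za44) (ka xa28 ya51 za57) (ka xa32 ya18 za43) (ka xa29 ya34 za42) (ka xa30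 ya5 za38) (ka xa30 ya5 za40) (ka xa27 ya59 za42) (ka xa27 ya59 za43) (ka xa27 ya59 za46) (ka xa29 ya30 za52) (ka xa30 ya54 za50) (ka xa17 ya26 za1) (ka xa29 ya38 za23) (ka xa30 ya24 za31) (ka xa30 ya56 za3) (ka xa28 ya22 za37) (ka xa28 ya22 za35) (ka xa17 ya26 za3) (ka xa30 ya46 za53) (ka xa29 ya52 za28) (ka xa25 ya34 za18) (ka xa25 ya57 za44) (ka xa28 ya32 za25) (ka xa23 ya1 za21) (ka xa24 ya15 za6) (ka xa20 ya55 za32) (ka xa20 ya55 za27) (ka xa28 ya32 za10) (ka xa28 ya32 za11) (ka xa17 ya26 za16) (ka xa17 ya26 za12) (ka xa32 ya20 za5) (ka xa17 ya26 za13) (ka xa23 ya8 za26) (ka xa19 ya26 za2) (ka xa32 ya20 za4) (ka xa19 ya26 za1) (ka xa17 ya26 za15) (ka xa29 ya37 za42) (ka xa29 ya37 za41) (ka xa31 ya35 za38) (ka xa29 ya28 za37) (ka xa19 ya37 za54) (ka xa28 ya23 za59) (ka xa30 ya48 za51) (ka xa29 ya34 za23)) (@D3.rec (fun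 _ => Pt) (ka xa22 ya1 za45) (ka xa22 ya1 za44) (ka xa29 ya46 za28) (ka xa30 ya20 za23) (ka xa30 ya11 za38) (ka xa29 ya34 za18) (ka xa29 ya34 za17) (ka xa29 ya50 za18) (ka xa20 ya48 za0) (ka xa29 ya49 za1) (ka xa29 ya33 za24) (ka xa30 ya15 za49) (ka xa22 ya26 za5) (ka xa29 ya34 za25) (ka xa19 ya13 za0) (ka xa32 ya21 za48) (ka xa32 ya21 za49) (ka xa26 ya36 za3) (ka xa30 ya15 za37) (ka xa30 ya15 za38) (ka xa30 ya50 za15) (ka xa26 ya35 za41) (ka xa25 ya8 za6) (ka xa25 ya8 za9) (ka xa22 ya24 za44) (ka xa22 ya24 za42) (ka xa30 ya16 za5) (ka xa28 ya48 za58) (ka xa32 ya11 za12) (ka xa30 ya16 za4) (ka xa32 ya19 za45) (ka xa32 ya22 za57) (ka xa30 ya30 za61) (ka xa17 ya26 za38) (ka xa32 ya21 za1) (ka xa27 ya13 za19) (ka xa27 ya55 za55) (ka xa23 ya58 za28) (ka xa24 ya8 za61) (ka xa23 ya47 za19) (ka xa24 ya7 za20) (ka xa20 ya32 za27)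 (ka xa17 ya26 za60) (ka xa17 ya27 za0) (ka xa18 ya11 za50) (ka xa27 ya55 za6) (ka xa19 ya22 za61) (ka xa31 ya59 za51) (ka xa28 ya36 za7) (ka xa32 ya23 za13) (ka xa30 ya38 za34) (ka xa30 ya49 za39) (ka xa27 ya15 za13) (ka xa29 ya1 za59) (ka xa18 ya48 za17) (ka xa24 ya7 za42) (ka xa27 ya15 za14) (ka xa28 ya52 za60) (ka xa30 ya5 za47) (ka xa31 ya13 za54) (ka xa17 ya27 za7) (ka xa32 ya23 za24)) (@D3.rec (fun _ => Pt) (ka xa17 ya27 za33) (ka xa17 ya27 za32) (ka xa17 ya27 za9) (ka xa22 ya1 za53) (ka xa29 ya24 za15) (ka xa31 ya54 za43) (ka xa17 ya30 za36) (ka xa21 ya59 za60) (ka xa21 ya59 za59) (ka xa27 ya14 za10) (ka xa22 ya1 za38) (ka xa22 ya1 za39) (ka xa22 ya1 za40) (ka xa22 ya0 za19) (ka xa22 ya0 za18) (ka xa17 ya27 za19) (ka xa31 ya0 za30) (ka xa18 ya7 za48) (ka xa32 ya19 za22) (ka xa17 ya27 za23) (ka xa31 ya0 za28) (ka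 xa28 ya59 za35) (ka xa29 ya55 za60) (ka xa27 ya19 za48) (ka xa17 ya27 za26) (ka xa28 ya58 za57) (ka xa29 ya9 za16) (ka xa29 ya5 za48) (ka xa17 ya27 za28) (ka xa25 ya8 za5) (ka xa25 ya57 za48) (ka xa17 ya27 za30) (ka xa21 ya6 za53) (ka xa28 ya58 za26) (ka xa26 ya41 za36) (ka xa31 ya52 za40) (ka xa24 ya39 za60) (ka xa20 ya57 za53) (ka xa32 ya10 za41) (ka xa31 ya20 za28) (ka xa21 ya27 za31) (ka xa25 ya30 za47) (ka xa19 ya45 za48) (ka xa29 ya57 za35) (ka xa25 ya28 za57) (ka xa27 ya1 za46) (ka xa27 ya22 za56) (ka xa30 ya13 za1) (ka xa25 ya28 za56) (ka xa27 ya1 za45) (ka xa17 ya27 za45) (ka xa26 ya16 za49) (ka xa21 ya26 za45) (ka xa27 ya1 za49) (ka xa27 ya1 za48) (ka xa17 ya27 za50) (ka xa27 ya1 za52) (ka xa27 ya1 za51) (ka xa21 ya49 za29) (ka xa30 ya37 za6) (ka xa22 ya2 za13) (ka xa22 ya9 za56)) (@D3.rec (fun _ => Pt) (ka xa17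 ya27 za56) (ka xa29 ya51 za41) (ka xa32 ya23 za39) (ka xa29 ya56 za41) (ka xa31 ya49 za5) (ka xa29 ya5 za47) (ka xa17 ya27 za61) (ka xa17 ya28 za0) (ka xa29 ya56 za44) (ka xa29 ya56 za43) (ka xa31 ya44 za60) (ka xa29 ya56 za50) (ka xa25 ya29 za46) (ka xa25 ya53 za50) (ka xa25 ya57 za47) (ka xa17 ya28 za5) (ka xa25 ya30 za29) (ka xa29 ya56 za48) (ka xa29 ya58 za2) (ka xa32 ya23 za44) (ka xa25 ya53 za44) (ka xa25 ya53 za46) (ka xa25 ya57 za42) (ka xa25 ya57 za39) (ka xa17 ya28 za16) (ka xa29 ya49 za35) (ka xa29 ya5 za32) (ka xa29 ya56 za53) (ka xa29 ya56 za54) (ka xa29 ya56 za57) (ka xa29 ya56 za56) (ka xa32 ya23 za52) (ka xa30 ya13 za44) (ka xa30 ya40 za43) (ka xa31 ya27 za39) (ka xa17 ya28 za19) (ka xa29 ya58 za4) (ka xa19 ya46 za30) (ka xa19 ya46 za22) (ka xa27 ya7 za53) (ka xa27 ya7 za52) (ka xa17 ya28 za21) (ka xa31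 ya49 za3) (ka xa21 ya17 za42) (ka xa21 ya17 za43) (ka xa21 ya17 za10) (ka xa21 ya17 za44) (ka xa29 ya5 za46) (ka xa31 ya55 za22) (ka xa30 ya9 za32) (ka xa17 ya28 za46) (ka xa17 ya28 za47) (ka xa17 ya28 za50) (ka xa17 ya28 za56) (ka xa17 ya28 za57) (ka xa31 ya36 za7) (ka xa17 ya29 za19) (ka xa22 ya41 za2) (ka xa19 ya6 za50) (ka xa24 ya1 za31) (ka xa24 ya1 za32) (ka xa24 ya1 za34)) (@D3.rec (fun _ => Pt) (ka xa17 ya28 za39) (ka xa19 ya41 za17) (ka xa32 ya23 za60) (ka xa21 ya16 za48) (ka xa30 ya17 za31) (ka xa26 ya41 za30) (ka xa29 ya58 za61) (ka xa24 ya26 za51) (ka xa29 ya9 za23) (ka xa23 ya49 za32) (ka xa29 ya59 za0) (ka xa26 ya46 za44) (ka xa17 ya28 za45) (ka xa28 ya52 za25) (ka xa26 ya41 za23) (ka xa20 ya58 za58) (ka xa32 ya11 za24) (ka xa19 ya11 za27) (ka xa19 ya11 za26) (ka xa21 ya17 za9) (ka xa26 ya33 za61) (ka xa21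 ya16 za52) (ka xa26 ya40 za28) (ka xa31 ya56 za25) (ka xa31 ya45 za60) (ka xa28 ya56 za48) (ka xa32 ya18 za58) (ka xa28 ya43 za16) (ka xa32 ya23 za58) (ka xa32 ya0 za56) (ka xa21 ya58 za5) (ka xa29 ya6 za60) (ka xa25 ya55 za0) (ka xa29 ya34 za59) (ka xa28 ya43 za2) (ka xa28 ya43 za3) (ka xa31 ya26 za47) (ka xa28 ya48 za2) (ka xa21 ya46 za27) (ka xa17 ya29 za5) (ka xa29 ya16 za31) (ka xa27 ya14 za31) (ka xa21 ya17 za3) (ka xa21 ya17 za7) (ka xa30 ya16 za38) (ka xa30 ya6 za40) (ka xa25 ya13 za39) (ka xa31 ya49 za2) (ka xa27 ya17 za23) (ka xa24 ya34 za21) (ka xa21 ya46 za41) (ka xa29 ya27 za46) (ka xa21 ya59 za6) (ka xa26 ya5 za56) (ka xa21 ya59 za2) (ka xa21 ya59 za0) (ka xa21 ya4 za54) (ka xa17 ya29 za46) (ka xa17 ya29 za34) (ka xa25 ya32 za52) (ka xa25 ya33 za29) (ka xa30 ya16 za57)) (@D3.rec (fun _ => Pt) (ka xa25 ya33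 za58) (ka xa17 ya29 za42) (ka xa17 ya29 za44) (ka xa17 ya29 za45) (ka xa31 ya49 za10) (ka xa21 ya58 za10) (ka xa27 ya11 za36) (ka xa17 ya30 za14) (ka xa27 ya39 za36) (ka xa17 ya29 za56) (ka xa30 ya45 za44) (ka xa17 ya30 za34) (ka xa29 ya27 za38) (ka xa20 ya16 za49) (ka xa29 ya42 za28) (ka xa30 ya5 za34) (ka xa18 ya36 za18) (ka xa18 ya10 za12) (ka xa26 ya50 za52) (ka xa20 ya0 za56) (ka xa20 ya15 za21) (ka xa21 ya32 za43) (ka xa25 ya17 za45) (ka xa30 ya5 za11) (ka xa30 ya5 za9) (ka xa17 ya30 za13) (ka xa29 ya31 za19) (ka xa25 ya6 za48) (ka xa24 ya45 za37) (ka xa18 ya37 za32) (ka xa27 ya31 za10) (ka xa17 ya42 za50) (ka xa30 ya3 za25) (ka xa21 ya54 za60) (ka xa18 ya6 za18) (ka xa30 ya44 za54) (ka xa18 ya10 za27) (ka xa28 ya2 za36) (ka xa28 ya6 za27) (ka xa32 ya23 za26) (ka xa22 ya2 za39) (ka xa20 ya2 za50) (ka xa31 ya37 za25)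 (ka xa21 ya48 za44) (ka xa21 ya48 za60) (ka xa29 ya51 za49) (ka xa22 ya2 za34) (ka xa22 ya2 za32) (ka xa21 ya48 za37) (ka xa21 ya49 za5) (ka xa21 ya45 za11) (ka xa17 ya31 za4) (ka xa17 ya30 za57) (ka xa31 ya14 za31) (ka xa30 ya2 za28) (ka xa31 ya14 za32) (ka xa20 ya36 za15) (ka xa27 ya11 za35) (ka xa20 ya23 za43) (ka xa20 ya41 za16) (ka xa20 ya45 za8) (ka xa20 ya45 za11)) (@D3.rec (fun _ => Pt) (ka xa30 ya11 za3) (ka xa21 ya8 za5) (ka xa20 ya46 za11) (ka xa20 ya46 za12) (ka xa17 ya33 za5) (ka xa20 ya46 za19) (ka xa17 ya31 za35) (ka xa21 ya52 za25) (ka xa29 ya37 za58) (ka xa21 ya52 za38) (ka xa24 ya12 za2) (ka xa19 ya50 za37) (ka xa26 ya6 za32) (ka xa27 ya34 za56) (ka xa23 ya50 za0) (ka xa30 ya45 za42) (ka xa19 ya50 za7) (ka xa25 ya23 za7) (ka xa28 ya25 za1) (ka xa30 ya6 za47) (ka xa17 ya32 za59) (ka xa27 ya13 za12) (ka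 xa30 ya30 za5) (ka xa17 ya32 za3) (ka xa27 ya55 za42) (ka xa32 ya24 za15) (ka xa28 ya59 za10) (ka xa27 ya21 za53) (ka xa17 ya32 za8) (ka xa24 ya7 za14) (ka xa32 ya0 za24) (ka xa24 ya37 za2) (ka xa20 ya1 za57) (ka xa26 ya44 za23) (ka xa19 ya37 za40) (ka xa22 ya5 za6) (ka xa25 ya49 za46) (ka xa28 ya25 za4) (ka xa20 ya5 za0) (ka xa24 ya6 za21) (ka xa27 ya6 za52) (ka xa19 ya49 za48) (ka xa28 ya59 za17) (ka xa28 ya59 za14) (ka xa30 ya26 za27) (ka xa24 ya18 za42) (ka xa31 ya49 za54) (ka xa17 ya45 za11) (ka xa19 ya50 za9) (ka xa25 ya23 za32) (ka xa17 ya32 za44) (ka xa24 ya7 za54) (ka xa29 ya17 za61) (ka xa27 ya21 za27) (ka xa29 ya28 za39) (ka xa32 ya22 za7) (ka xa27 ya6 za19) (ka xa22 ya11 za21) (ka xa22 ya5 za13) (ka xa28 ya47 za37) (ka xa30 ya27 za18) (ka xa26 ya25 za44)) (@D3.rec (fun _ => Pt) (ka xa28 ya46 za21) (ka xa28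 ya48 za4) (ka xa21 ya9 za45) (ka xa21 ya9 za42) (ka xa17 ya33 za27) (ka xa18 ya8 za15) (ka xa21 ya28 za31) (ka xa21 ya28 za28) (ka xa21 ya28 za0) (ka xa21 ya27 za61) (ka xa22 ya4 za39) (ka xa21 ya54 za57) (ka xa28 ya45 za37) (ka xa22 ya4 za37) (ka xa21 ya28 za1) (ka xa22 ya5 za0) (ka xa27 ya43 za16) (ka xa22 ya5 za22) (ka xa28 ya49 za30) (ka xa28 ya43 za40) (ka xa29 ya40 za60) (ka xa22 ya5 za45) (ka xa25 ya25 za24) (ka xa19 ya8 za52) (ka xa30 ya43 za32) (ka xa25 ya4 za17) (ka xa17 ya33 za57) (ka xa21 ya9 za29) (ka xa18 ya14 za0) (ka xa18 ya14 za1) (ka xa30 ya9 za12) (ka xa28 ya16 za52) (ka xa21 ya23 za55) (ka xa21 ya53 za29) (ka xa21 ya9 za18) (ka xa28 ya2 za37) (ka xa20 ya17 za7) (ka xa20 ya20 za40) (ka xa23 ya53 za52) (ka xa22 ya6 za40) (ka xa23 ya53 za54) (ka xa22 ya6 za46) (ka xa22 ya6 za45) (ka xa18 ya55 za34) (ka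 xa22 ya6 za60) (ka xa18 ya55 za50) (ka xa18 ya32 za24) (ka xa29 ya37 za24) (ka xa19 ya58 za35) (ka xa31 ya41 za27) (ka xa19 ya58 za5) (ka xa22 ya7 za39) (ka xa24 ya51 za28) (ka xa28 ya7 za54) (ka xa28 ya7 za55) (ka xa20 ya5 za13) (ka xa27 ya17 za46) (ka xa29 ya38 za19) (ka xa21 ya21 za29) (ka xa29 ya7 za18) (ka xa22 ya6 za20) (ka xa17 ya34 za43)) (@D3.rec (fun _ => Pt) (ka xa17 ya35 za5) (ka xa21 ya46 za11) (ka xa17 ya35 za1) (ka xa21 ya31 za2) (ka xa28 ya51 za17) (ka xa21 ya46 za10) (ka xa23 ya47 za31) (ka xa21 ya59 za24) (ka xa29 ya50 za34) (ka xa27 ya46 za59) (ka xa28 ya58 za43) (ka xa19 ya57 za8) (ka xa29 ya36 za21) (ka xa27 ya46 za61) (ka xa32 ya24 za21) (ka xa17 ya35 za9) (ka xa21 ya44 za25) (ka xa22 ya8 za56) (ka xa22 ya8 za59) (ka xa18 ya2 za28) (ka xa19 ya15 za28) (ka xa22 ya15 za12) (ka xa22 ya15 za13) (ka xa26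 ya11 za32) (ka xa30 ya0 za8) (ka xa29 ya57 za12) (ka xa25 ya51 za3) (ka xa29 ya50 za33) (ka xa29 ya56 za37) (ka xa17 ya35 za26) (ka xa29 ya57 za22) (ka xa29 ya57 za23) (ka xa29 ya57 za17) (ka xa29 ya57 za16) (ka xa29 ya57 za21) (ka xa21 ya46 za8) (ka xa21 ya59 za34) (ka xa29 ya57 za24) (ka xa21 ya18 za46) (ka xa29 ya57 za18) (ka xa23 ya55 za3) (ka xa28 ya12 za59) (ka xa28 ya12 za58) (ka xa25 ya19 za37) (ka xa25 ya19 za36) (ka xa17 ya35 za42) (ka xa32 ya24 za36) (ka xa19 ya11 za50) (ka xa25 ya20 za35) (ka xa28 ya33 za21) (ka xa28 ya33 za22) (ka xa28 ya34 za7) (ka xa28 ya33 za19) (ka xa17 ya35 za50) (ka xa28 ya32 za27) (ka xa30 ya46 za45) (ka xa28 ya17 za7) (ka xa28 ya32 za54) (ka xa24 ya12 za35) (ka xa19 ya23 za22) (ka xa24 ya23 za2) (ka xa31 ya58 za61)) (@D3.rec (fun _ => Pt) (ka xa25 ya48 za30) (ka xa31 ya9 za10) (ka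 xa25 ya23 za2) (ka xa25 ya23 za3) (ka xa31 ya25 za4) (ka xa25 ya11 za26) (ka xa19 ya38 za20) (ka xa25 ya6 za44) (ka xa17 ya36 za21) (ka xa17 ya36 za10) (ka xa17 ya36 za11) (ka xa22 ya5 za51) (ka xa30 ya18 za4) (ka xa19 ya9 za10) (ka xa19 ya9 za35) (ka xa19 ya9 za32) (ka xa19 ya9 za36) (ka xa17 ya36 za14) (ka xa19 ya57 za18) (ka xa25 ya6 za39) (ka xa29 ya16 za3) (ka xa31 ya32 za4) (ka xa17 ya36 za16) (ka xa18 ya1 za43) (ka xa26 ya27 za42) (ka xa19 ya56 za60) (ka xa32 ya24 za41) (ka xa17 ya36 za18) (ka xa17 ya36 za19) (ka xa17 ya36 za20) (ka xa30 ya8 za58) (ka xa29 ya57 za36) (ka xa31 ya46 za45) (ka xa31 ya55 za0) (ka xa31 ya57 za12) (ka xa25 ya6 za29) (ka xa24 ya58 za6) (ka xa21 ya22 za61) (ka xa17 ya36 za29) (ka xa17 ya38 za40) (ka xa27 ya46 za17) (ka xa17 ya38 za4) (ka xa17 ya38 za5) (ka xa17 ya38 za7) (ka xa17 ya37 za51)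 (ka xa17 ya37 za53) (ka xa25 ya29 za41) (ka xa17 ya36 za37) (ka xa17 ya36 za38) (ka xa32 ya24 za52) (ka xa17 ya38 za2) (ka xa17 ya38 za49) (ka xa17 ya38 za53) (ka xa17 ya38 za50) (ka xa17 ya42 za43) (ka xa17 ya39 za47) (ka xa17 ya36 za46) (ka xa31 ya44 za38) (ka xa30 ya8 za55) (ka xa17 ya39 za19) (ka xa17 ya39 za20) (ka xa17 ya39 za21)) (@D3.rec (fun _ => Pt) (ka xa17 ya39 za22) (ka xa17 ya39 za27) (ka xa17 ya39 za56) (ka xa31 ya41 za58) (ka xa31 ya44 za26) (ka xa21 ya59 za25) (ka xa24 ya45 za13) (ka xa18 ya5 za33) (ka xa24 ya45 za17) (ka xa17 ya36 za61) (ka xa17 ya40 za11) (ka xa17 ya37 za0) (ka xa17 ya40 za16) (ka xa17 ya36 za60) (ka xa27 ya25 za51) (ka xa23 ya37 za56) (ka xa17 ya37 za5) (ka xa31 ya59 za14) (ka xa27 ya26 za17) (ka xa27 ya28 za50) (ka xa27 ya28 za49) (ka xa27 ya28 za30) (ka xa24 ya56 za9) (ka xa17 ya41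 za27) (ka xa24 ya55 za28) (ka xa17 ya41 za30) (ka xa17 ya37 za13) (ka xa22 ya9 za16) (ka xa32 ya24 za58) (ka xa24 ya45 za47) (ka xa21 ya58 za51) (ka xa23 ya13 za4) (ka xa26 ya11 za21) (ka xa26 ya5 za16) (ka xa27 ya27 za17) (ka xa26 ya16 za60) (ka xa17 ya37 za24) (ka xa26 ya4 za33) (ka xa25 ya45 za23) (ka xa25 ya45 za24) (ka xa26 ya16 za58) (ka xa23 ya34 za51) (ka xa17 ya37 za35) (ka xa17 ya37 za36) (ka xa31 ya37 za20) (ka xa31 ya37 za19) (ka xa31 ya35 za23) (ka xa31 ya33 za61) (ka xa31 ya14 za27) (ka xa27 ya27 za10) (ka xa26 ya13 za52) (ka xa27 ya25 za14) (ka xa26 ya13 za51) (ka xa25 ya29 za43) (ka xa25 ya43 za31) (ka xa31 ya42 za61) (ka xa31 ya27 za41) (ka xa27 ya27 za2) (ka xa17 ya54 za9) (ka xa27 ya45 za21) (ka xa17 ya54 za7) (ka xa17 ya37 za59)) (@D3.rec (fun _ => Pt) (ka xa17 ya37 za60) (ka xa17 ya37 za61) (ka xa17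 ya38 za0) (ka xa17 ya38 za1) (ka xa27 ya29 za7) (ka xa31 ya54 za29) (ka xa31 ya54 za39) (ka xa27 ya46 za16) (ka xa25 ya28 za55) (ka xa31 ya59 za28) (ka xa27 ya28 za24) (ka xa25 ya55 za58) (ka xa25 ya48 za34) (ka xa28 ya3 za44) (ka xa31 ya37 za8) (ka xa32 ya25 za1) (ka xa30 ya1 za14) (ka xa27 ya25 za18) (ka xa26 ya12 za7) (ka xa26 ya12 za8) (ka xa32 ya24 za49) (ka xa32 ya24 za50) (ka xa32 ya24 za48) (ka xa32 ya24 za51) (ka xa21 ya25 za20) (ka xa23 ya45 za22) (ka xa31 ya45 za12) (ka xa25 ya1 za1) (ka xa18 ya6 za32) (ka xa27 ya26 za32) (ka xa29 ya58 za6) (ka xa30 ya33 za59) (ka xa27 ya26 za29) (ka xa25 ya28 za50) (ka xa24 ya44 za51) (ka xa27 ya28 za47) (ka xa25 ya28 za48) (ka xa17 ya39 za13) (ka xa24 ya43 za9) (ka xa30 ya17 za3) (ka xa27 ya29 za55) (ka xa21 ya30 za58) (ka xa17 ya38 za42) (ka xa17 ya38 za43) (ka xa17 ya38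 za46) (ka xa31 ya43 za11) (ka xa17 ya40 za59) (ka xa17 ya42 za44) (ka xa27 ya47 za57) (ka xa27 ya28 za46) (ka xa26 ya18 za8) (ka xa30 ya19 za31) (ka xa18 ya8 za34) (ka xa24 ya44 za34) (ka xa24 ya44 za61) (ka xa26 ya12 za19) (ka xa26 ya5 za13) (ka xa21 ya49 za6) (ka xa30 ya42 za1) (ka xa24 ya44 za33) (ka xa23 ya35 za53) (ka xa24 ya54 za52)) (@D3.rec (fun _ => Pt) (ka xa24 ya44 za30) (ka xa18 ya3 za18) (ka xa27 ya25 za57) (ka xa17 ya42 za48) (ka xa21 ya57 za16) (ka xa24 ya45 za10) (ka xa30 ya11 za8) (ka xa17 ya39 za15) (ka xa31 ya44 za25) (ka xa32 ya25 za5) (ka xa27 ya25 za49) (ka xa25 ya1 za46) (ka xa17 ya39 za17) (ka xa32 ya25 za6) (ka xa32 ya5 za24) (ka xa32 ya24 za53) (ka xa31 ya34 za16) (ka xa27 ya25 za34) (ka xa30 ya4 za26) (ka xa30 ya4 za25) (ka xa28 ya41 za23) (ka xa21 ya58 za42) (ka xa31 ya38 za20) (ka xa29 ya59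 za41) (ka xa24 ya41 za2) (ka xa32 ya25 za9) (ka xa24 ya43 za36) (ka xa27 ya57 za57) (ka xa17 ya41 za47) (ka xa17 ya39 za51) (ka xa27 ya28 za3) (ka xa30 ya25 za7) (ka xa31 ya43 za9) (ka xa26 ya16 za29) (ka xa29 ya14 za29) (ka xa31 ya24 za19) (ka xa32 ya5 za32) (ka xa28 ya41 za45) (ka xa32 ya5 za28) (ka xa27 ya28 za25) (ka xa32 ya5 za30) (ka xa17 ya40 za7) (ka xa32 ya3 za44) (ka xa17 ya42 za58) (ka xa26 ya11 za43) (ka xa30 ya23 za17) (ka xa17 ya40 za46) (ka xa27 ya28 za13) (ka xa27 ya31 za51) (ka xa26 ya4 za32) (ka xa26 ya4 za35) (ka xa27 ya46 za18) (ka xa26 ya11 za25) (ka xa17 ya40 za18) (ka xa27 ya46 za38) (ka xa27 ya28 za18) (ka xa31 ya38 za12) (ka xa17 ya40 za25) (ka xa17 ya40 za27) (ka xa17 ya40 za28) (ka xa31 ya7 za8) (ka xa17 ya40 za44)) (@D3.rec (fun _ => Pt) (ka xa27 ya28 za12) (ka xa24 ya43 za35) (ka xa25 ya1 za15)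 (ka xa27 ya27 za30) (ka xa18 ya6 za20) (ka xa17 ya40 za36) (ka xa17 ya40 za37) (ka xa28 ya2 za33) (ka xa27 ya31 za25) (ka xa28 ya41 za24) (ka xa25 ya39 za23) (ka xa25 ya39 za24) (ka xa27 ya28 za0) (ka xa27 ya27 za47) (ka xa26 ya11 za37) (ka xa17 ya40 za45) (ka xa17 ya42 za52) (ka xa24 ya55 za54) (ka xa27 ya27 za55) (ka xa17 ya40 za57) (ka xa17 ya40 za58) (ka xa17 ya41 za3) (ka xa28 ya2 za35) (ka xa27 ya28 za33) (ka xa27 ya26 za10) (ka xa27 ya27 za39) (ka xa32 ya25 za12) (ka xa26 ya12 za0) (ka xa17 ya45 za30) (ka xa25 ya58 za42) (ka xa27 ya25 za21) (ka xa26 ya12 za12) (ka xa26 ya15 za20) (ka xa27 ya28 za23) (ka xa24 ya56 za7) (ka xa31 ya35 za21) (ka xa25 ya1 za3) (ka xa17 ya41 za9) (ka xa17 ya41 za10) (ka xa22 ya15 za17) (ka xa26 ya12 za9) (ka xa31 ya12 za19) (ka xa30 ya1 za12) (ka xa31 ya11 za60) (ka xa30 ya42 za42) (ka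 xa27 ya48 za49) (ka xa27 ya26 za49) (ka xa27 ya26 za35) (ka xa31 ya34 za0) (ka xa27 ya25 za20) (ka xa27 ya25 za19) (ka xa27 ya49 za9) (ka xa27 ya29 za6) (ka xa30 ya23 za14) (ka xa27 ya29 za8) (ka xa27 ya29 za9) (ka xa27 ya29 za10) (ka xa32 ya24 za57) (ka xa17 ya41 za26) (ka xa31 ya44 za40) (ka xa29 ya38 za47) (ka xa17 ya41 za28)) (@D3.rec (fun _ => Pt) (ka xa27 ya29 za2) (ka xa24 ya55 za27) (ka xa27 ya29 za0) (ka xa24 ya55 za16) (ka xa18 ya27 za33) (ka xa31 ya55 za55) (ka xa27 ya28 za52) (ka xa27 ya26 za4) (ka xa27 ya28 za54) (ka xa27 ya28 za55) (ka xa27 ya28 za56) (ka xa27 ya45 za42) (ka xa26 ya21 za11) (ka xa26 ya16 za38) (ka xa17 ya42 za7) (ka xa17 ya42 za11) (ka xa17 ya42 za12) (ka xa26 ya14 za41) (ka xa20 ya13 za10) (ka xa20 ya17 za1) (ka xa26 ya57 za56) (ka xa27 ya53 za34) (ka xa19 ya36 za34) (ka xa26 ya5 za32) (ka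 xa17 ya42 za2) (ka xa21 ya23 za60) (ka xa27 ya43 za8) (ka xa21 ya24 za1) (ka xa21 ya24 za2) (ka xa21 ya24 za5) (ka xa20 ya5 za16) (ka xa24 ya51 za4) (ka xa31 ya28 za18) (ka xa31 ya40 za61) (ka xa22 ya7 za42) (ka xa17 ya42 za35) (ka xa19 ya17 za11) (ka xa26 ya10 za27) (ka xa26 ya10 za26) (ka xa20 ya13 za12) (ka xa17 ya42 za31) (ka xa21 ya41 za10) (ka xa17 ya42 za33) (ka xa31 ya16 za17) (ka xa18 ya10 za61) (ka xa18 ya9 za35) (ka xa18 ya9 za34) (ka xa17 ya47 za13) (ka xa17 ya42 za37) (ka xa18 ya16 za6) (ka xa18 ya15 za26) (ka xa17 ya49 za40) (ka xa17 ya42 za51) (ka xa25 ya32 za61) (ka xa17 ya42 za49) (ka xa27 ya26 za40) (ka xa31 ya44 za1) (ka xa28 ya3 za1) (ka xa26 ya11 za45) (ka xa26 ya11 za46) (ka xa26 ya16 za6) (ka xa30 ya23 za15)) (@D3.rec (fun _ => Pt) (ka xa30 ya23 za16) (ka xa17 ya45 za31) (ka xa31 ya44 za34) (ka xa18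 ya4 za51) (ka xa25 ya9 za32) (ka xa25 ya9 za31) (ka xa25 ya9 za37) (ka xa25 ya9 za38) (ka xa25 ya9 za40) (ka xa25 ya9 za41) (ka xa20 ya4 za23) (ka xa25 ya9 za33) (ka xa25 ya9 za34) (ka xa20 ya2 za21) (ka xa25 ya9 za35) (ka xa25 ya6 za26) (ka xa20 ya29 za10) (ka xa20 ya42 za12) (ka xa28 ya49 za24) (ka xa27 ya59 za5) (ka xa30 ya51 za34) (ka xa32 ya0 za33) (ka xa19 ya46 za24) (ka xa31 ya35 za37) (ka xa26 ya1 za37) (ka xa23 ya29 za5) (ka xa27 ya40 za59) (ka xa29 ya43 za53) (ka xa21 ya54 za55) (ka xa26 ya13 za19) (ka xa21 ya54 za54) (ka xa17 ya43 za49) (ka xa17 ya43 za51) (ka xa20 ya15 za43) (ka xa32 ya23 za25) (ka xa30 ya14 za6) (ka xa31 ya43 za61) (ka xa21 ya4 za43) (ka xa21 ya58 za16) (ka xa29 ya23 za28) (ka xa18 ya7 za28) (ka xa18 ya7 za26) (ka xa26 ya14 za23) (ka xa26 ya14 za26) (ka xa26 ya14 za27) (ka xa25 ya10 za48)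 (ka xa22 ya15 za20) (ka xa22 ya15 za18) (ka xa27 ya47 za27) (ka xa26 ya12 za42) (ka xa17 ya44 za7) (ka xa28 ya3 za8) (ka xa27 ya56 za11) (ka xa25 ya32 za46) (ka xa21 ya6 za20) (ka xa30 ya1 za19) (ka xa26 ya14 za58) (ka xa26 ya14 za61) (ka xa22 ya11 za13) (ka xa22 ya11 za12) (ka xa25 ya15 za50) (ka xa27 ya31 za46)) (@D3.rec (fun _ => Pt) (ka xa27 ya31 za47) (ka xa27 ya56 za18) (ka xa26 ya14 za11) (ka xa21 ya26 za9) (ka xa26 ya14 za44) (ka xa18 ya4 za48) (ka xa17 ya44 za33) (ka xa18 ya7 za24) (ka xa17 ya44 za27) (ka xa18 ya28 za32) (ka xa27 ya20 za30) (ka xa27 ya45 za13) (ka xa30 ya20 za26) (ka xa26 ya13 za25) (ka xa17 ya44 za36) (ka xa31 ya43 za12) (ka xa31 ya15 za42) (ka xa18 ya7 za50) (ka xa27 ya48 za2) (ka xa30 ya24 za57) (ka xa24 ya54 za35) (ka xa26 ya13 za33) (ka xa26 ya13 za34) (ka xa31 ya42 za57) (ka xa31 ya42 za58)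 (ka xa27 ya28 za8) (ka xa21 ya37 za8) (ka xa31 ya42 za60) (ka xa23 ya6 za10) (ka xa25 ya3 za42) (ka xa26 ya16 za41) (ka xa26 ya15 za7) (ka xa26 ya16 za42) (ka xa27 ya48 za38) (ka xa21 ya8 za11) (ka xa21 ya34 za11) (ka xa24 ya41 za56) (ka xa29 ya0 za46) (ka xa22 ya9 za59) (ka xa18 ya25 za25) (ka xa18 ya7 za19) (ka xa31 ya38 za7) (ka xa28 ya27 za46) (ka xa24 ya18 za18) (ka xa30 ya14 za19) (ka xa25 ya10 za57) (ka xa27 ya30 za61) (ka xa27 ya31 za0) (ka xa27 ya46 za19) (ka xa27 ya48 za24) (ka xa26 ya13 za27) (ka xa27 ya27 za48) (ka xa24 ya18 za20) (ka xa26 ya11 za54) (ka xa28 ya15 za23) (ka xa18 ya4 za60) (ka xa27 ya46 za2) (ka xa27 ya46 za1) (ka xa23 ya45 za5) (ka xa18 ya13 za34) (ka xa18 ya58 za26) (ka xa28 ya9 za23)) (@D3.rec (fun _ => Pt) (ka xa24 ya29 za9) (ka xa25 ya0 za13) (ka xa18 ya38 za46) (ka xa18 ya38 za47) (ka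 xa27 ya33 za48) (ka xa27 ya33 za49) (ka xa27 ya33 za46) (ka xa27 ya33 za47) (ka xa17 ya45 za54) (ka xa17 ya45 za55) (ka xa18 ya13 za8) (ka xa28 ya20 za6) (ka xa18 ya9 za37) (ka xa18 ya9 za38) (ka xa18 ya13 za22) (ka xa31 ya7 za45) (ka xa18 ya9 za45) (ka xa18 ya9 za46) (ka xa18 ya9 za47) (ka xa27 ya34 za4) (ka xa27 ya34 za5) (ka xa27 ya34 za3) (ka xa17 ya46 za2) (ka xa17 ya46 za3) (ka xa18 ya9 za21) (ka xa28 ya20 za48) (ka xa32 ya25 za43) (ka xa32 ya25 za44) (ka xa32 ya25 za45) (ka xa27 ya50 za1) (ka xa27 ya50 za0) (ka xa18 ya9 za43) (ka xa18 ya13 za23) (ka xa18 ya13 za24) (ka xa18 ya13 za26) (ka xa30 ya31 za60) (ka xa18 ya13 za28) (ka xa18 ya13 za29) (ka xa18 ya13 za31) (ka xa18 ya13 za32) (ka xa18 ya13 za33) (ka xa27 ya34 za51) (ka xa18 ya13 za36) (ka xa30 ya39 za35) (ka xa18 ya13 za42) (ka xa18 ya13 za43) (ka xa27 ya34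 za34) (ka xa27 ya34 za33) (ka xa27 ya34 za35) (ka xa27 ya34 za47) (ka xa27 ya34 za30) (ka xa17 ya46 za16) (ka xa17 ya46 za17) (ka xa27 ya34 za37) (ka xa27 ya34 za36) (ka xa32 ya25 za61) (ka xa27 ya33 za7) (ka xa27 ya33 za0) (ka xa23 ya50 za34) (ka xa27 ya34 za28) (ka xa22 ya13 za4) (ka xa27 ya34 za29)) (@D3.rec (fun _ => Pt) (ka xa27 ya32 za57) (ka xa27 ya34 za23) (ka xa17 ya46 za24) (ka xa32 ya26 za5) (ka xa27 ya55 za25) (ka xa29 ya50 za27) (ka xa27 ya34 za44) (ka xa27 ya32 za56) (ka xa17 ya46 za38) (ka xa17 ya46 za39) (ka xa18 ya13 za35) (ka xa30 ya44 za34) (ka xa17 ya46 za35) (ka xa24 ya48 za9) (ka xa27 ya35 za3) (ka xa18 ya58 za14) (ka xa27 ya34 za21) (ka xa23 ya22 za40) (ka xa28 ya9 za30) (ka xa28 ya4 za36) (ka xa32 ya26 za7) (ka xa26 ya32 za35) (ka xa30 ya45 za53) (ka xa26 ya17 za36) (ka xa27 ya35 za2) (ka xa26 ya17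 za35) (ka xa27 ya35 za4) (ka xa27 ya35 za5) (ka xa27 ya35 za11) (ka xa32 ya25 za59) (ka xa27 ya35 za13) (ka xa32 ya26 za3) (ka xa27 ya35 za15) (ka xa27 ya35 za16) (ka xa27 ya35 za17) (ka xa27 ya35 za18) (ka xa32 ya25 za41) (ka xa18 ya17 za35) (ka xa17 ya51 za3) (ka xa18 ya17 za36) (ka xa28 ya43 za31) (ka xa18 ya27 za18) (ka xa19 ya0 za37) (ka xa26 ya18 za47) (ka xa26 ya18 za48) (ka xa18 ya30 za24) (ka xa27 ya32 za6) (ka xa27 ya32 za7) (ka xa27 ya32 za4) (ka xa27 ya32 za5) (ka xa17 ya47 za2) (ka xa17 ya47 za3) (ka xa18 ya51 za59) (ka xa23 ya50 za26) (ka xa28 ya7 za47) (ka xa27 ya51 za40) (ka xa18 ya33 za14) (ka xa18 ya33 za16) (ka xa18 ya33 za17) (ka xa18 ya35 za22) (ka xa18 ya33 za19) (ka xa18 ya33 za20)) (@D3.rec (fun _ => Pt) (ka xa18 ya33 za21) (ka xa18 ya33 za22) (ka xa19 ya20 za32) (ka xa27 ya32 za21) (ka xa27 ya32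 za19) (ka xa27 ya32 za20) (ka xa17 ya47 za12) (ka xa29 ya7 za38) (ka xa26 ya19 za28) (ka xa28 ya6 za13) (ka xa28 ya6 za12) (ka xa18 ya31 za15) (ka xa18 ya35 za23) (ka xa18 ya35 za24) (ka xa18 ya31 za40) (ka xa18 ya35 za26) (ka xa28 ya25 za50) (ka xa18 ya31 za41) (ka xa28 ya7 za51) (ka xa18 ya35 za31) (ka xa18 ya35 za32) (ka xa27 ya33 za16) (ka xa18 ya35 za34) (ka xa27 ya33 za1) (ka xa27 ya49 za11) (ka xa28 ya4 za25) (ka xa27 ya34 za27) (ka xa27 ya34 za26) (ka xa27 ya32 za59) (ka xa27 ya32 za61) (ka xa27 ya32 za50) (ka xa18 ya55 za7) (ka xa31 ya45 za10) (ka xa27 ya32 za47) (ka xa27 ya32 za46) (ka xa27 ya32 za48) (ka xa27 ya32 za54) (ka xa27 ya32 za53) (ka xa29 ya24 za51) (ka xa22 ya35 za7) (ka xa21 ya13 za24) (ka xa21 ya13 za25) (ka xa20 ya21 za26) (ka xa20 ya21 za25) (ka xa27 ya33 za6) (ka xa17 ya47 za49) (ka xa17 ya47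 za42) (ka xa27 ya32 za49) (ka xa30 ya44 za35) (ka xa18 ya48 za20) (ka xa27 ya50 za55) (ka xa27 ya32 za41) (ka xa32 ya26 za15) (ka xa27 ya54 za7) (ka xa17 ya47 za47) (ka xa18 ya16 za50) (ka xa27 ya21 za13) (ka xa18 ya35 za33) (ka xa30 ya23 za28) (ka xa32 ya26 za38) (ka xa27 ya54 za12) (ka xa27 ya51 za32)) (@D3.rec (fun _ => Pt) (ka xa27 ya51 za31) (ka xa32 ya26 za42) (ka xa27 ya33 za24) (ka xa27 ya33 za14) (ka xa27 ya33 za26) (ka xa27 ya33 za27) (ka xa23 ya36 za55) (ka xa26 ya32 za36) (ka xa26 ya32 za41) (ka xa26 ya32 za42) (ka xa24 ya54 za5) (ka xa27 ya33 za28) (ka xa32 ya6 za44) (ka xa27 ya33 za30) (ka xa32 ya26 za41) (ka xa27 ya33 za32) (ka xa27 ya33 za33) (ka xa27 ya33 za34) (ka xa27 ya33 za35) (ka xa32 ya26 za35) (ka xa18 ya38 za33) (ka xa18 ya38 za34) (ka xa18 ya38 za35) (ka xa18 ya33 za53) (ka xa17 ya50 za21) (ka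 xa24 ya34 za16) (ka xa17 ya49 za44) (ka xa17 ya49 za45) (ka xa17 ya49 za27) (ka xa17 ya49 za29) (ka xa19 ya12 za40) (ka xa17 ya48 za11) (ka xa32 ya27 za2) (ka xa17 ya53 za26) (ka xa30 ya3 za21) (ka xa17 ya51 za29) (ka xa17 ya51 za31) (ka xa21 ya20 za18) (ka xa17 ya51 za46) (ka xa17 ya51 za43) (ka xa17 ya48 za29) (ka xa27 ya46 za15) (ka xa24 ya58 za34) (ka xa17 ya48 za34) (ka xa17 ya48 za35) (ka xa25 ya20 za20) (ka xa17 ya48 za38) (ka xa17 ya52 za2) (ka xa25 ya50 za33) (ka xa28 ya25 za20) (ka xa17 ya51 za32) (ka xa28 ya25 za21) (ka xa18 ya35 za3) (ka xa27 ya48 za25) (ka xa26 ya4 za43) (ka xa30 ya7 za49) (ka xa17 ya48 za51) (ka xa32 ya13 za52) (ka xa32 ya5 za25) (ka xa25 ya4 za8) (ka xa28 ya44 za54) (ka xa28 ya41 za25)) (@D3.rec (fun _ => Pt) (ka xa28 ya44 za52) (ka xa17 ya48 za59) (ka xa30 ya28 za40) (ka xa28 ya39 za42)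 (ka xa25 ya49 za29) (ka xa28 ya36 za39) (ka xa28 ya36 za37) (ka xa17 ya49 za5) (ka xa18 ya13 za2) (ka xa18 ya10 za28) (ka xa29 ya22 za33) (ka xa30 ya9 za35) (ka xa29 ya31 za40) (ka xa24 ya20 za41) (ka xa19 ya36 za54) (ka xa28 ya10 za28) (ka xa17 ya49 za35) (ka xa17 ya49 za16) (ka xa27 ya37 za38) (ka xa27 ya37 za35) (ka xa27 ya59 za18) (ka xa31 ya38 za19) (ka xa32 ya8 za5) (ka xa31 ya4 za1) (ka xa27 ya37 za47) (ka xa27 ya3 za38) (ka xa18 ya41 za47) (ka xa21 ya38 za1) (ka xa19 ya12 za41) (ka xa26 ya35 za16) (ka xa26 ya33 za9) (ka xa29 ya40 za59) (ka xa17 ya49 za26) (ka xa24 ya49 za41) (ka xa18 ya39 za18) (ka xa21 ya50 za49) (ka xa32 ya12 za8) (ka xa21 ya43 za40) (ka xa26 ya59 za36) (ka xa17 ya49 za34) (ka xa17 ya49 za36) (ka xa17 ya49 za37) (ka xa21 ya12 za49) (ka xa28 ya8 za39) (ka xa32 ya13 za54) (ka xa30 ya18 za13) (ka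 xa32 ya14 za23) (ka xa32 ya6 za56) (ka xa17 ya49 za46) (ka xa23 ya11 za16) (ka xa24 ya14 za52) (ka xa27 ya55 za12) (ka xa17 ya50 za44) (ka xa28 ya36 za56) (ka xa28 ya36 za58) (ka xa28 ya36 za53) (ka xa29 ya57 za26) (ka xa28 ya36 za54) (ka xa31 ya24 za33) (ka xa29 ya14 za24) (ka xa19 ya59 za35) (ka xa24 ya10 za38)) (@D3.rec (fun _ => Pt) (ka xa25 ya21 za20) (ka xa26 ya54 za20) (ka xa31 ya41 za11) (ka xa17 ya49 za59) (ka xa29 ya27 za29) (ka xa32 ya27 za16) (ka xa25 ya21 za23) (ka xa25 ya21 za17) (ka xa25 ya21 za24) (ka xa25 ya20 za53) (ka xa25 ya20 za44) (ka xa25 ya21 za15) (ka xa25 ya21 za16) (ka xa25 ya21 za18) (ka xa24 ya11 za57) (ka xa19 ya14 za31) (ka xa25 ya9 za13) (ka xa28 ya45 za28) (ka xa28 ya45 za24) (ka xa17 ya50 za12) (ka xa31 ya58 za29) (ka xa31 ya58 za28) (ka xa31 ya17 za14) (ka xa28 ya47 za57) (ka xa24 ya34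 za17) (ka xa19 ya41 za34) (ka xa26 ya43 za19) (ka xa18 ya14 za17) (ka xa24 ya56 za23) (ka xa21 ya21 za2) (ka xa26 ya3 za39) (ka xa21 ya50 za18) (ka xa26 ya59 za20) (ka xa20 ya38 za29) (ka xa19 ya44 za55) (ka xa27 ya36 za19) (ka xa28 ya10 za18) (ka xa22 ya5 za33) (ka xa27 ya36 za18) (ka xa28 ya19 za16) (ka xa17 ya52 za35) (ka xa24 ya50 za37) (ka xa26 ya38 za8) (ka xa17 ya50 za49) (ka xa23 ya7 za12) (ka xa18 ya33 za49) (ka xa18 ya22 za21) (ka xa27 ya36 za24) (ka xa20 ya38 za15) (ka xa20 ya38 za13) (ka xa26 ya4 za24) (ka xa30 ya11 za28) (ka xa17 ya50 za57) (ka xa25 ya31 za4) (ka xa25 ya31 za5) (ka xa18 ya15 za2) (ka xa32 ya27 za23) (ka xa28 ya11 za21) (ka xa32 ya27 za12) (ka xa26 ya18 za36) (ka xa17 ya51 za5) (ka xa32 ya2 za20)) (@D3.rec (fun _ => Pt) (ka xa27 ya49 za32) (ka xa25 ya47 za24) (ka xa17 ya51 za10) (ka xa29 ya23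 za9) (ka xa17 ya51 za26) (ka xa28 ya10 za17) (ka xa27 ya38 za8) (ka xa21 ya41 za39) (ka xa27 ya38 za6) (ka xa30 ya17 za52) (ka xa30 ya0 za16) (ka xa19 ya59 za30) (ka xa29 ya15 za23) (ka xa29 ya45 za7) (ka xa25 ya20 za7) (ka xa29 ya35 za31) (ka xa17 ya51 za38) (ka xa32 ya27 za25) (ka xa24 ya17 za27) (ka xa25 ya20 za9) (ka xa25 ya20 za3) (ka xa25 ya20 za10) (ka xa31 ya34 za18) (ka xa28 ya10 za14) (ka xa17 ya51 za51) (ka xa17 ya51 za55) (ka xa17 ya51 za56) (ka xa26 ya48 za28) (ka xa28 ya2 za31) (ka xa18 ya33 za48) (ka xa28 ya36 za51) (ka xa20 ya47 za29) (ka xa18 ya27 za37) (ka xa32 ya25 za11) (ka xa27 ya6 za5) (ka xa21 ya8 za10) (ka xa18 ya21 za2) (ka xa25 ya28 za24) (ka xa25 ya27 za51) (ka xa25 ya28 za23) (ka xa25 ya28 za10) (ka xa20 ya53 za44) (ka xa17 ya52 za16) (ka xa32 ya27 za27) (ka xa17 ya52 za17) (ka xa29 ya54 za21)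 (ka xa17 ya52 za19) (ka xa31 ya43 za13) (ka xa32 ya25 za13) (ka xa24 ya46 za22) (ka xa29 ya54 za20) (ka xa29 ya39 za36) (ka xa27 ya4 za10) (ka xa25 ya44 za38) (ka xa25 ya17 za11) (ka xa18 ya25 za35) (ka xa29 ya43 za13) (ka xa32 ya0 za39) (ka xa25 ya6 za30) (ka xa26 ya12 za61) (ka xa19 ya12 za34) (ka xa29 ya25 za3)) (@D3.rec (fun _ => Pt) (ka xa27 ya52 za37) (ka xa17 ya52 za54) (ka xa17 ya52 za55) (ka xa24 ya0 za24) (ka xa29 ya9 za34) (ka xa27 ya44 za49) (ka xa23 ya20 za12) (ka xa27 ya44 za50) (ka xa31 ya5 za60) (ka xa26 ya32 za55) (ka xa27 ya3 za21) (ka xa28 ya31 za22) (ka xa24 ya54 za16) (ka xa17 ya53 za11) (ka xa23 ya22 za49) (ka xa29 ya16 za59) (ka xa17 ya53 za14) (ka xa20 ya24 za10) (ka xa29 ya44 za51) (ka xa19 ya48 za31) (ka xa25 ya50 za57) (ka xa29 ya28 za20) (ka xa26 ya29 za31) (ka xa26 ya32 za19) (ka xa29 ya30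 za35) (ka xa25 ya38 za19) (ka xa26 ya5 za18) (ka xa26 ya18 za1) (ka xa26 ya16 za59) (ka xa17 ya54 za5) (ka xa17 ya54 za6) (ka xa26 ya15 za5) (ka xa26 ya20 za45) (ka xa26 ya16 za11) (ka xa18 ya37 za5) (ka xa18 ya37 za4) (ka xa27 ya20 za8) (ka xa30 ya3 za44) (ka xa18 ya28 za45) (ka xa23 ya51 za2) (ka xa26 ya16 za22) (ka xa26 ya16 za23) (ka xa26 ya16 za24) (ka xa24 ya18 za25) (ka xa26 ya13 za47) (ka xa23 ya49 za54) (ka xa26 ya13 za40) (ka xa26 ya18 za12) (ka xa26 ya13 za41) (ka xa27 ya49 za17) (ka xa26 ya18 za16) (ka xa26 ya18 za17) (ka xa32 ya3 za48) (ka xa17 ya54 za23) (ka xa17 ya54 za24) (ka xa17 ya54 za25) (ka xa26 ya16 za18) (ka xa26 ya16 za17) (ka xa17 ya54 za21) (ka xa31 ya39 za20) (ka xa26 ya52 za38) (ka xa31 ya1 za17)) (@D3.rec (fun _ => Pt) (ka xa31 ya32 za40) (ka xa31 ya14 za39) (ka xa29 ya14 za40) (ka xa26 ya32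 za13) (ka xa26 ya20 za47) (ka xa26 ya15 za22) (ka xa26 ya15 za23) (ka xa26 ya15 za19) (ka xa17 ya54 za30) (ka xa31 ya15 za34) (ka xa28 ya27 za36) (ka xa27 ya49 za3) (ka xa24 ya55 za58) (ka xa17 ya54 za32) (ka xa25 ya3 za27) (ka xa29 ya25 za19) (ka xa18 ya20 za11) (ka xa28 ya12 za38) (ka xa26 ya15 za15) (ka xa24 ya55 za34) (ka xa17 ya54 za43) (ka xa27 ya46 za21) (ka xa30 ya39 za34) (ka xa32 ya27 za40) (ka xa26 ya19 za9) (ka xa17 ya56 za20) (ka xa17 ya55 za19) (ka xa27 ya9 za1) (ka xa20 ya1 za30) (ka xa20 ya47 za35) (ka xa25 ya34 za33) (ka xa17 ya55 za2) (ka xa17 ya55 za14) (ka xa30 ya54 za19) (ka xa26 ya21 za23) (ka xa24 ya5 za25) (ka xa26 ya21 za28) (ka xa26 ya24 za53) (ka xa28 ya12 za29) (ka xa17 ya55 za22) (ka xa26 ya2 za23) (ka xa31 ya2 za56) (ka xa19 ya18 za31) (ka xa19 ya18 za30) (ka xa20 ya7 za14) (ka xa30 ya2 za51)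 (ka xa17 ya56 za5) (ka xa20 ya1 za34) (ka xa20 ya1 za35) (ka xa17 ya55 za46) (ka xa17 ya55 za48) (ka xa17 ya55 za50) (ka xa30 ya3 za35) (ka xa28 ya17 za41) (ka xa31 ya2 za6) (ka xa31 ya10 za59) (ka xa31 ya2 za0) (ka xa31 ya5 za33) (ka xa29 ya58 za37) (ka xa27 ya30 za26) (ka xa17 ya55 za56) (ka xa30 ya41 za1)) (@D3.rec (fun _ => Pt) (ka xa32 ya27 za50) (ka xa21 ya15 za44) (ka xa30 ya37 za24) (ka xa30 ya42 za18) (ka xa20 ya28 za34) (ka xa27 ya1 za4) (ka xa27 ya1 za32) (ka xa17 ya56 za9) (ka xa23 ya3 za24) (ka xa29 ya11 za6) (ka xa31 ya14 za21) (ka xa26 ya2 za25) (ka xa29 ya54 za3) (ka xa32 ya24 za44) (ka xa29 ya17 za44) (ka xa18 ya1 za56) (ka xa18 ya1 za58) (ka xa18 ya1 za51) (ka xa18 ya1 za52) (ka xa17 ya56 za24) (ka xa26 ya22 za41) (ka xa26 ya42 za35) (ka xa29 ya22 za58) (ka xa17 ya56 za36) (ka xa32 ya27 za52) (ka xa17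 ya56 za38) (ka xa26 ya46 za35) (ka xa26 ya2 za32) (ka xa29 ya26 za38) (ka xa30 ya14 za16) (ka xa27 ya50 za59) (ka xa21 ya50 za21) (ka xa30 ya18 za5) (ka xa17 ya56 za52) (ka xa18 ya2 za26) (ka xa22 ya17 za21) (ka xa30 ya43 za44) (ka xa23 ya10 za15) (ka xa19 ya39 za14) (ka xa22 ya17 za25) (ka xa32 ya27 za54) (ka xa26 ya23 za59) (ka xa26 ya23 za58) (ka xa31 ya42 za27) (ka xa29 ya4 za4) (ka xa29 ya4 za14) (ka xa29 ya5 za41) (ka xa26 ya24 za9) (ka xa26 ya24 za13) (ka xa24 ya57 za9) (ka xa24 ya57 za10) (ka xa24 ya57 za11) (ka xa24 ya55 za52) (ka xa24 ya57 za13) (ka xa30 ya46 za41) (ka xa24 ya57 za15) (ka xa24 ya57 za8) (ka xa20 ya25 za4) (ka xa24 ya57 za6) (ka xa24 ya39 za0) (ka xa17 ya57 za20) (ka xa25 ya50 za51)) (@D3.rec (fun _ => Pt) (ka xa23 ya10 za10) (ka xa22 ya17 za24) (ka xa26 ya24 za30) (ka xa26 ya24 za31) (ka xa26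 ya24 za32) (ka xa26 ya24 za37) (ka xa25 ya54 za32) (ka xa22 ya54 za17) (ka xa29 ya41 za61) (ka xa26 ya31 za55) (ka xa22 ya30 za43) (ka xa22 ya30 za44) (ka xa26 ya24 za52) (ka xa21 ya3 za10) (ka xa20 ya27 za5) (ka xa20 ya5 za60) (ka xa18 ya23 za31) (ka xa18 ya25 za55) (ka xa25 ya18 za51) (ka xa30 ya5 za30) (ka xa20 ya27 za43) (ka xa21 ya35 za14) (ka xa23 ya9 za19) (ka xa17 ya59 za5) (ka xa29 ya24 za19) (ka xa29 ya52 za46) (ka xa29 ya52 za45) (ka xa31 ya17 za37) (ka xa28 ya10 za26) (ka xa21 ya43 za26) (ka xa19 ya44 za33) (ka xa19 ya45 za35) (ka xa20 ya28 za40) (ka xa31 ya13 za1) (ka xa29 ya5 za45) (ka xa20 ya28 za60) (ka xa19 ya31 za21) (ka xa17 ya58 za56) (ka xa29 ya42 za2) (ka xa29 ya36 za24) (ka xa19 ya40 za13) (ka xa29 ya41 za60) (ka xa25 ya15 za10) (ka xa29 ya41 za59) (ka xa20 ya50 za35) (ka xa31 ya37 za7) (ka xa31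 ya37 za6) (ka xa17 ya59 za45) (ka xa21 ya43 za14) (ka xa18 ya0 za60) (ka xa31 ya18 za35) (ka xa20 ya24 za15) (ka xa20 ya23 za27) (ka xa20 ya24 za16) (ka xa20 ya24 za17) (ka xa30 ya17 za12) (ka xa20 ya23 za31) (ka xa21 ya42 za33) (ka xa30 ya27 za53) (ka xa29 ya29 za1) (ka xa20 ya25 za20) (ka xa20 ya25 za21)) (@D3.rec (fun _ => Pt) (ka xa26 ya27 za24) (ka xa30 ya27 za52) (ka xa29 ya5 za42) (ka xa18 ya17 za11) (ka xa18 ya38 za4) (ka xa31 ya52 za54) (ka xa27 ya54 za24) (ka xa28 ya32 za16) (ka xa27 ya29 za26) (ka xa24 ya4 za36) (ka xa29 ya38 za21) (ka xa21 ya33 za15) (ka xa32 ya16 za40) (ka xa20 ya15 za15) (ka xa20 ya13 za45) (ka xa30 ya26 za55) (ka xa27 ya22 za16) (ka xa21 ya9 za44) (ka xa30 ya18 za6) (ka xa30 ya12 za32) (ka xa29 ya12 za54) (ka xa30 ya40 za52) (ka xa20 ya47 za26) (ka xa20 ya47 za28) (ka xa18 ya0 za58) (ka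 xa22 ya3 za28) (ka xa21 ya42 za31) (ka xa21 ya47 za58) (ka xa20 ya51 za43) (ka xa18 ya40 za13) (ka xa30 ya8 za18) (ka xa18 ya39 za47) (ka xa18 ya1 za7) (ka xa31 ya5 za53) (ka xa18 ya7 za46) (ka xa27 ya50 za43) (ka xa28 ya18 za4) (ka xa26 ya54 za3) (ka xa30 ya11 za27) (ka xa25 ya45 za46) (ka xa20 ya53 za17) (ka xa24 ya34 za28) (ka xa20 ya53 za31) (ka xa28 ya31 za32) (ka xa24 ya37 za47) (ka xa29 ya17 za17) (ka xa21 ya20 za10) (ka xa29 ya1 za0) (ka xa21 ya0 za6) (ka xa19 ya43 za50) (ka xa31 ya45 za36) (ka xa31 ya45 za37) (ka xa18 ya1 za45) (ka xa30 ya14 za11) (ka xa29 ya43 za47) (ka xa32 ya18 za5) (ka xa25 ya7 za26) (ka xa18 ya1 za47) (ka xa25 ya4 za52) (ka xa29 ya56 za29) (ka xa29 ya34 za47) (ka xa25 ya13 za24)) (@D3.rec (fun _ => Pt) (ka xa29 ya50 za6) (ka xa21 ya50 za37) (ka xa24 ya34 za32) (ka xa32 ya18 za6) (ka xa18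 ya1 za53) (ka xa25 ya4 za44) (ka xa25 ya4 za47) (ka xa20 ya9 za16) (ka xa18 ya1 za59) (ka xa31 ya56 za5) (ka xa29 ya28 za18) (ka xa25 ya35 za52) (ka xa29 ya42 za33) (ka xa18 ya14 za9) (ka xa19 ya22 za17) (ka xa20 ya1 za53) (ka xa22 ya55 za21) (ka xa29 ya12 za32) (ka xa24 ya58 za3) (ka xa18 ya2 za32) (ka xa21 ya11 za28) (ka xa30 ya3 za60) (ka xa31 ya16 za40) (ka xa26 ya26 za8) (ka xa26 ya31 za8) (ka xa26 ya32 za3) (ka xa26 ya24 za5) (ka xa18 ya2 za42) (ka xa32 ya28 za9) (ka xa27 ya44 za52) (ka xa21 ya23 za33) (ka xa18 ya2 za47) (ka xa19 ya59 za6) (ka xa23 ya43 za25) (ka xa19 ya18 za29) (ka xa25 ya5 za6) (ka xa29 ya5 za37) (ka xa19 ya18 za35) (ka xa30 ya20 za41) (ka xa27 ya44 za57) (ka xa28 ya4 za11) (ka xa27 ya44 za59) (ka xa27 ya44 za60) (ka xa26 ya9 za8) (ka xa24 ya0 za20) (ka xa18 ya3 za2) (ka xa25 ya22 za32) (ka xa25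 ya22 za29) (ka xa20 ya39 za10) (ka xa27 ya39 za5) (ka xa27 ya39 za7) (ka xa25 ya41 za15) (ka xa27 ya44 za29) (ka xa31 ya7 za55) (ka xa28 ya40 za56) (ka xa31 ya6 za39) (ka xa26 ya8 za43) (ka xa27 ya44 za39) (ka xa23 ya52 za34) (ka xa27 ya44 za41) (ka xa27 ya44 za42) (ka xa18 ya4 za32)) (@D3.rec (fun _ => Pt) (ka xa27 ya49 za2) (ka xa18 ya5 za25) (ka xa18 ya3 za23) (ka xa18 ya5 za27) (ka xa30 ya2 za33) (ka xa28 ya15 za21) (ka xa18 ya4 za59) (ka xa18 ya3 za27) (ka xa21 ya58 za43) (ka xa23 ya22 za56) (ka xa18 ya6 za8) (ka xa18 ya6 za12) (ka xa18 ya6 za15) (ka xa27 ya31 za11) (ka xa18 ya7 za14) (ka xa18 ya7 za15) (ka xa18 ya7 za11) (ka xa18 ya3 za44) (ka xa18 ya3 za45) (ka xa18 ya7 za20) (ka xa21 ya54 za44) (ka xa27 ya25 za59) (ka xa31 ya50 za19) (ka xa24 ya44 za17) (ka xa18 ya7 za5) (ka xa18 ya7 za7) (ka xa18 ya7 za9) (ka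 xa18 ya7 za44) (ka xa18 ya6 za47) (ka xa18 ya6 za48) (ka xa18 ya6 za43) (ka xa18 ya6 za44) (ka xa18 ya3 za53) (ka xa22 ya35 za0) (ka xa23 ya51 za44) (ka xa18 ya4 za7) (ka xa18 ya3 za59) (ka xa25 ya0 za47) (ka xa18 ya4 za0) (ka xa27 ya48 za0) (ka xa18 ya4 za2) (ka xa23 ya44 za32) (ka xa27 ya29 za11) (ka xa18 ya6 za40) (ka xa27 ya48 za39) (ka xa27 ya48 za37) (ka xa24 ya56 za29) (ka xa25 ya3 za21) (ka xa21 ya28 za27) (ka xa18 ya4 za9) (ka xa31 ya37 za21) (ka xa18 ya8 za17) (ka xa18 ya8 za18) (ka xa18 ya8 za19) (ka xa18 ya8 za30) (ka xa18 ya8 za33) (ka xa18 ya8 za45) (ka xa18 ya52 za61) (ka xa28 ya25 za34) (ka xa30 ya49 za31) (ka xa26 ya12 za4) (ka xa28 ya4 za41)) (@D3.rec (fun _ => Pt) (ka xa31 ya45 za9) (ka xa27 ya31 za57) (ka xa27 ya31 za56) (ka xa18 ya4 za35) (ka xa26 ya21 za1) (ka xa28 ya2 za20) (ka xa28 ya3 za23) (ka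 xa28 ya6 za29) (ka xa26 ya29 za49) (ka xa28 ya3 za14) (ka xa31 ya14 za19) (ka xa28 ya3 za13) (ka xa19 ya2 za9) (ka xa28 ya6 za25) (ka xa26 ya16 za7) (ka xa27 ya35 za41) (ka xa27 ya26 za7) (ka xa27 ya24 za40) (ka xa27 ya27 za51) (ka xa27 ya31 za48) (ka xa32 ya7 za17) (ka xa27 ya40 za21) (ka xa24 ya53 za49) (ka xa28 ya19 za54) (ka xa28 ya21 za8) (ka xa27 ya48 za26) (ka xa28 ya41 za35) (ka xa28 ya1 za46) (ka xa25 ya58 za43) (ka xa28 ya16 za16) (ka xa30 ya20 za29) (ka xa28 ya10 za0) (ka xa28 ya7 za3) (ka xa18 ya5 za13) (ka xa32 ya24 za11) (ka xa26 ya20 za7) (ka xa26 ya1 za14) (ka xa18 ya5 za21) (ka xa27 ya27 za54) (ka xa32 ya25 za15) (ka xa18 ya30 za11) (ka xa27 ya48 za57) (ka xa18 ya5 za29) (ka xa30 ya20 za27) (ka xa31 ya6 za2) (ka xa32 ya23 za35) (ka xa18 ya16 za26) (ka xa31 ya45 za2) (ka xa31 ya1 za27) (ka xa21 ya6 za32)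 (ka xa32 ya24 za55) (ka xa25 ya35 za2) (ka xa31 ya49 za57) (ka xa29 ya43 za14) (ka xa18 ya5 za41) (ka xa28 ya12 za61) (ka xa24 ya26 za10) (ka xa24 ya26 za9) (ka xa18 ya5 za45) (ka xa27 ya23 za9) (ka xa27 ya1 za36) (ka xa27 ya23 za13)) (@D3.rec (fun _ => Pt) (ka xa18 ya6 za42) (ka xa18 ya55 za11) (ka xa18 ya55 za13) (ka xa19 ya0 za40) (ka xa19 ya0 za41) (ka xa25 ya1 za2) (ka xa19 ya0 za38) (ka xa28 ya3 za56) (ka xa25 ya56 za14) (ka xa28 ya22 za10) (ka xa23 ya51 za25) (ka xa18 ya5 za59) (ka xa25 ya35 za10) (ka xa23 ya50 za24) (ka xa27 ya56 za12) (ka xa18 ya6 za9) (ka xa28 ya1 za49) (ka xa28 ya1 za48) (ka xa30 ya1 za16) (ka xa18 ya6 za11) (ka xa24 ya55 za59) (ka xa30 ya1 za15) (ka xa21 ya21 za15) (ka xa27 ya47 za29) (ka xa19 ya0 za39) (ka xa18 ya6 za22) (ka xa18 ya6 za28) (ka xa27 ya30 za48) (ka xa31 ya5 za61) (ka xa27 ya47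 za23) (ka xa31 ya45 za13) (ka xa18 ya6 za33) (ka xa32 ya28 za30) (ka xa18 ya6 za35) (ka xa27 ya51 za11) (ka xa30 ya5 za28) (ka xa25 ya1 za33) (ka xa28 ya3 za3) (ka xa19 ya6 za34) (ka xa32 ya10 za12) (ka xa27 ya54 za34) (ka xa32 ya6 za45) (ka xa25 ya39 za18) (ka xa18 ya8 za39) (ka xa18 ya6 za53) (ka xa18 ya6 za54) (ka xa18 ya6 za56) (ka xa26 ya31 za20) (ka xa26 ya20 za54) (ka xa28 ya31 za44) (ka xa27 ya53 za24) (ka xa23 ya21 za25) (ka xa23 ya21 za28) (ka xa31 ya50 za22) (ka xa31 ya59 za17) (ka xa30 ya30 za50) (ka xa28 ya11 za47) (ka xa27 ya26 za48) (ka xa31 ya1 za34) (ka xa21 ya25 za5) (ka xa19 ya1 za13) (ka xa19 ya22 za26)) (@D3.rec (fun _ => Pt) (ka xa27 ya45 za39) (ka xa21 ya26 za7) (ka xa27 ya31 za18) (ka xa19 ya22 za52) (ka xa25 ya0 za16) (ka xa31 ya38 za22) (ka xa28 ya4 za17) (ka xa18 ya8 za8) (ka xa18 ya56 za44)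 (ka xa18 ya56 za50) (ka xa18 ya15 za20) (ka xa21 ya52 za58) (ka xa30 ya4 za17) (ka xa26 ya29 za55) (ka xa19 ya2 za13) (ka xa21 ya25 za36) (ka xa18 ya7 za56) (ka xa22 ya6 za19) (ka xa28 ya49 za46) (ka xa30 ya5 za29) (ka xa28 ya57 za49) (ka xa21 ya22 za56) (ka xa28 ya6 za32) (ka xa25 ya30 za12) (ka xa27 ya31 za49) (ka xa27 ya35 za53) (ka xa27 ya46 za25) (ka xa20 ya46 za51) (ka xa25 ya35 za9) (ka xa28 ya4 za9) (ka xa31 ya44 za58) (ka xa32 ya4 za42) (ka xa21 ya26 za51) (ka xa21 ya59 za4) (ka xa30 ya58 za49) (ka xa26 ya14 za37) (ka xa30 ya5 za14) (ka xa27 ya45 za45) (ka xa27 ya31 za33) (ka xa27 ya45 za44) (ka xa27 ya48 za53) (ka xa27 ya48 za54) (ka xa27 ya48 za55) (ka xa27 ya48 za56) (ka xa21 ya28 za18) (ka xa29 ya51 za30) (ka xa23 ya37 za59) (ka xa32 ya6 za22) (ka xa29 ya54 za34) (ka xa27 ya28 za45) (ka xa23 ya37 za58) (ka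 xa28 ya13 za36) (ka xa25 ya3 za24) (ka xa27 ya48 za40) (ka xa27 ya48 za41) (ka xa27 ya48 za42) (ka xa27 ya48 za43) (ka xa27 ya46 za41) (ka xa30 ya23 za19) (ka xa26 ya13 za45) (ka xa28 ya4 za20) (ka xa28 ya4 za23)) (@D3.rec (fun _ => Pt) (ka xa28 ya4 za24) (ka xa28 ya4 za21) (ka xa27 ya45 za0) (ka xa27 ya40 za11) (ka xa28 ya3 za36) (ka xa28 ya3 za35) (ka xa27 ya53 za56) (ka xa31 ya32 za58) (ka xa28 ya4 za29) (ka xa27 ya28 za51) (ka xa23 ya34 za15) (ka xa27 ya34 za24) (ka xa18 ya8 za56) (ka xa32 ya10 za16) (ka xa30 ya45 za23) (ka xa26 ya31 za30) (ka xa32 ya28 za41) (ka xa27 ya39 za49) (ka xa28 ya6 za23) (ka xa28 ya7 za14) (ka xa28 ya7 za15) (ka xa28 ya7 za16) (ka xa32 ya25 za34) (ka xa28 ya6 za41) (ka xa28 ya7 za27) (ka xa28 ya7 za18) (ka xa18 ya9 za2) (ka xa18 ya9 za6) (ka xa28 ya5 za14) (ka xa32 ya28 za45) (ka xa32 ya28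 za46) (ka xa32 ya28 za47) (ka xa27 ya38 za0) (ka xa28 ya38 za5) (ka xa25 ya31 za44) (ka xa25 ya34 za11) (ka xa25 ya34 za10) (ka xa27 ya54 za59) (ka xa18 ya12 za25) (ka xa31 ya44 za42) (ka xa28 ya7 za19) (ka xa28 ya7 za24) (ka xa26 ya19 za46) (ka xa27 ya53 za51) (ka xa28 ya7 za23) (ka xa18 ya12 za21) (ka xa32 ya25 za46) (ka xa18 ya20 za39) (ka xa23 ya36 za57) (ka xa27 ya53 za48) (ka xa27 ya59 za13) (ka xa28 ya7 za28) (ka xa28 ya7 za29) (ka xa29 ya24 za56) (ka xa28 ya7 za25) (ka xa18 ya12 za13) (ka xa18 ya9 za33) (ka xa28 ya7 za32) (ka xa28 ya7 za31) (ka xa25 ya46 za48) (ka xa30 ya35 za38) (ka xa32 ya25 za50)) (@D3.rec (fun _ => Pt) (ka xa27 ya32 za30) (ka xa27 ya32 za29) (ka xa32 ya2 za39) (ka xa27 ya55 za2) (ka xa29 ya25 za15) (ka xa27 ya55 za1) (ka xa30 ya5 za2) (ka xa18 ya14 za55) (ka xa32 ya25 za38) (ka xa18 ya9 za41)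 (ka xa32 ya29 za0) (ka xa30 ya21 za14) (ka xa29 ya30 za58) (ka xa27 ya55 za19) (ka xa27 ya56 za29) (ka xa29 ya54 za26) (ka xa18 ya34 za20) (ka xa28 ya22 za43) (ka xa20 ya21 za10) (ka xa18 ya9 za51) (ka xa32 ya28 za39) (ka xa27 ya55 za22) (ka xa18 ya9 za54) (ka xa31 ya43 za36) (ka xa31 ya42 za32) (ka xa28 ya1 za1) (ka xa28 ya5 za2) (ka xa31 ya59 za12) (ka xa23 ya43 za24) (ka xa26 ya14 za2) (ka xa28 ya11 za9) (ka xa28 ya1 za61) (ka xa25 ya16 za18) (ka xa28 ya6 za44) (ka xa28 ya6 za43) (ka xa18 ya10 za10) (ka xa18 ya10 za11) (ka xa22 ya11 za40) (ka xa28 ya7 za7) (ka xa28 ya5 za38) (ka xa28 ya5 za6) (ka xa28 ya8 za3) (ka xa20 ya49 za17) (ka xa27 ya43 za35) (ka xa27 ya59 za11) (ka xa18 ya53 za17) (ka xa23 ya12 za38) (ka xa19 ya44 za12) (ka xa28 ya5 za12) (ka xa28 ya44 za55) (ka xa19 ya42 za28) (ka xa28 ya23 za17) (ka xa23 ya53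 za61) (ka xa27 ya59 za10) (ka xa26 ya39 za43) (ka xa27 ya34 za50) (ka xa28 ya7 za58) (ka xa28 ya7 za59) (ka xa28 ya7 za60) (ka xa27 ya41 za30) (ka xa18 ya32 za51) (ka xa28 ya6 za49)) (@D3.rec (fun _ => Pt) (ka xa28 ya7 za56) (ka xa20 ya11 za61) (ka xa18 ya12 za58) (ka xa18 ya12 za59) (ka xa24 ya20 za42) (ka xa26 ya11 za1) (ka xa18 ya10 za58) (ka xa18 ya38 za48) (ka xa25 ya33 za59) (ka xa28 ya6 za5) (ka xa18 ya10 za60) (ka xa27 ya47 za34) (ka xa29 ya32 za50) (ka xa28 ya25 za45) (ka xa28 ya6 za6) (ka xa30 ya5 za1) (ka xa27 ya1 za31) (ka xa23 ya52 za9) (ka xa18 ya11 za7) (ka xa19 ya22 za59) (ka xa31 ya50 za3) (ka xa28 ya7 za5) (ka xa18 ya11 za13) (ka xa20 ya38 za25) (ka xa24 ya48 za24) (ka xa24 ya48 za22) (ka xa24 ya48 za23) (ka xa18 ya11 za17) (ka xa18 ya11 za18) (ka xa24 ya48 za27) (ka xa24 ya48 za26) (ka xa27 ya35 za0)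 (ka xa27 ya34 za61) (ka xa32 ya29 za14) (ka xa19 ya10 za20) (ka xa19 ya10 za24) (ka xa28 ya4 za38) (ka xa28 ya4 za39) (ka xa28 ya4 za40) (ka xa27 ya54 za39) (ka xa27 ya33 za55) (ka xa32 ya28 za20) (ka xa27 ya54 za38) (ka xa28 ya4 za42) (ka xa18 ya11 za24) (ka xa18 ya11 za25) (ka xa28 ya4 za46) (ka xa28 ya4 za45) (ka xa27 ya2 za54) (ka xa21 ya12 za7) (ka xa32 ya25 za36) (ka xa27 ya54 za60) (ka xa18 ya12 za16) (ka xa18 ya12 za17) (ka xa18 ya12 za18) (ka xa18 ya12 za22) (ka xa18 ya12 za23) (ka xa28 ya6 za51) (ka xa28 ya4 za57) (ka xa20 ya11 za3) (ka xa29 ya25 za17) (ka xa26 ya30 za6)) (@D3.rec (fun _ => Pt) (ka xa28 ya5 za16) (ka xa18 ya34 za43) (ka xa28 ya5 za17) (ka xa32 ya26 za10) (ka xa19 ya4 za56) (ka xa19 ya5 za16) (ka xa28 ya6 za47) (ka xa27 ya58 za57) (ka xa28 ya5 za13) (ka xa18 ya11 za38) (ka xa18 ya11 za39) (ka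 xa32 ya29 za33) (ka xa32 ya29 za34) (ka xa32 ya29 za35) (ka xa32 ya26 za14) (ka xa22 ya49 za48) (ka xa25 ya48 za8) (ka xa25 ya48 za7) (ka xa28 ya4 za61) (ka xa28 ya5 za0) (ka xa32 ya28 za40) (ka xa28 ya5 za1) (ka xa32 ya29 za22) (ka xa28 ya5 za7) (ka xa28 ya5 za25) (ka xa26 ya31 za15) (ka xa26 ya18 za51) (ka xa28 ya5 za21) (ka xa18 ya11 za51) (ka xa19 ya6 za36) (ka xa19 ya6 za32) (ka xa29 ya16 za8) (ka xa21 ya12 za44) (ka xa31 ya42 za6) (ka xa27 ya55 za7) (ka xa27 ya55 za8) (ka xa27 ya55 za9) (ka xa27 ya39 za0) (ka xa28 ya5 za34) (ka xa28 ya20 za53) (ka xa28 ya5 za35) (ka xa28 ya5 za31) (ka xa18 ya11 za58) (ka xa32 ya29 za9) (ka xa30 ya45 za21) (ka xa18 ya13 za18) (ka xa28 ya9 za26) (ka xa28 ya5 za32) (ka xa27 ya54 za55) (ka xa20 ya21 za5) (ka xa27 ya54 za53) (ka xa27 ya59 za14) (ka xa18 ya12 za12) (ka xa28 ya16 za58)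 (ka xa28 ya5 za43) (ka xa31 ya44 za14) (ka xa27 ya2 za47) (ka xa27 ya2 za49) (ka xa32 ya29 za50) (ka xa31 ya25 za42) (ka xa18 ya34 za27) (ka xa18 ya34 za26)) (@D3.rec (fun _ => Pt) (ka xa27 ya53 za3) (ka xa26 ya31 za24) (ka xa24 ya13 za24) (ka xa27 ya53 za0) (ka xa28 ya5 za58) (ka xa24 ya13 za25) (ka xa32 ya29 za29) (ka xa25 ya31 za43) (ka xa31 ya25 za34) (ka xa28 ya7 za21) (ka xa18 ya12 za20) (ka xa32 ya7 za55) (ka xa30 ya1 za46) (ka xa32 ya29 za3) (ka xa18 ya12 za26) (ka xa32 ya1 za33) (ka xa25 ya34 za12) (ka xa28 ya5 za11) (ka xa28 ya6 za50) (ka xa18 ya12 za38) (ka xa27 ya55 za29) (ka xa28 ya6 za60) (ka xa28 ya6 za61) (ka xa19 ya44 za17) (ka xa27 ya47 za50) (ka xa28 ya6 za55) (ka xa28 ya6 za56) (ka xa28 ya6 za57) (ka xa26 ya47 za2) (ka xa18 ya12 za56) (ka xa28 ya1 za15) (ka xa21 ya48 za24) (ka xa21 ya32 za23) (ka xa19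 ya35 za14) (ka xa27 ya29 za21) (ka xa19 ya22 za43) (ka xa18 ya58 za29) (ka xa18 ya58 za27) (ka xa28 ya3 za38) (ka xa27 ya56 za35) (ka xa28 ya8 za21) (ka xa28 ya9 za22) (ka xa32 ya25 za37) (ka xa18 ya17 za34) (ka xa28 ya9 za24) (ka xa18 ya13 za16) (ka xa18 ya13 za17) (ka xa23 ya50 za1) (ka xa27 ya49 za49) (ka xa29 ya52 za22) (ka xa27 ya55 za14) (ka xa27 ya49 za43) (ka xa26 ya19 za48) (ka xa27 ya55 za20) (ka xa27 ya58 za54) (ka xa28 ya22 za45) (ka xa27 ya49 za6) (ka xa28 ya32 za5) (ka xa22 ya28 za53) (ka xa19 ya13 za7) (ka xa32 ya25 za54) (ka xa22 ya34 za35)) (@D3.rec (fun _ => Pt) (ka xa23 ya49 za37) (ka xa26 ya38 za28) (ka xa32 ya26 za8) (ka xa30 ya24 za51) (ka xa28 ya21 za33) (ka xa18 ya15 za4) (ka xa24 ya40 za35) (ka xa27 ya34 za53) (ka xa18 ya13 za41) (ka xa32 ya25 za33) (ka xa28 ya46 za55) (ka xa21 ya44 za3) (ka xa27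 ya34 za60) (ka xa28 ya9 za10) (ka xa27 ya56 za19) (ka xa28 ya9 za35) (ka xa18 ya13 za58) (ka xa24 ya45 za50) (ka xa18 ya13 za61) (ka xa18 ya14 za3) (ka xa18 ya14 za4) (ka xa18 ya13 za57) (ka xa29 ya54 za33) (ka xa28 ya17 za4) (ka xa27 ya43 za6) (ka xa26 ya16 za20) (ka xa28 ya6 za54) (ka xa26 ya17 za18) (ka xa30 ya52 za58) (ka xa28 ya0 za10) (ka xa28 ya3 za24) (ka xa28 ya6 za39) (ka xa28 ya6 za37) (ka xa29 ya51 za59) (ka xa27 ya47 za40) (ka xa28 ya8 za6) (ka xa18 ya14 za21) (ka xa18 ya14 za22) (ka xa27 ya51 za42) (ka xa27 ya51 za39) (ka xa18 ya14 za49) (ka xa18 ya14 za50) (ka xa18 ya15 za1) (ka xa24 ya12 za43) (ka xa25 ya26 za30) (ka xa28 ya28 za46) (ka xa28 ya8 za22) (ka xa26 ya32 za12) (ka xa18 ya14 za34) (ka xa24 ya53 za51) (ka xa28 ya8 za27) (ka xa18 ya14 za41) (ka xa25 ya26 za28) (ka xa27 ya52 za50) (ka xa22 ya6 za44)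 (ka xa27 ya52 za48) (ka xa27 ya14 za56) (ka xa28 ya8 za50) (ka xa32 ya30 za15) (ka xa27 ya49 za37) (ka xa27 ya51 za51) (ka xa28 ya17 za6)) (@D3.rec (fun _ => Pt) (ka xa31 ya59 za31) (ka xa27 ya50 za5) (ka xa27 ya50 za3) (ka xa18 ya14 za45) (ka xa25 ya48 za9) (ka xa24 ya13 za29) (ka xa27 ya16 za45) (ka xa27 ya52 za34) (ka xa27 ya52 za35) (ka xa27 ya52 za36) (ka xa25 ya48 za12) (ka xa25 ya48 za10) (ka xa27 ya36 za51) (ka xa32 ya30 za14) (ka xa27 ya53 za50) (ka xa28 ya32 za7) (ka xa18 ya14 za53) (ka xa29 ya20 za23) (ka xa32 ya30 za22) (ka xa27 ya50 za13) (ka xa27 ya53 za53) (ka xa32 ya30 za25) (ka xa27 ya50 za21) (ka xa28 ya31 za49) (ka xa18 ya15 za0) (ka xa27 ya33 za4) (ka xa29 ya20 za5) (ka xa18 ya34 za57) (ka xa25 ya27 za0) (ka xa27 ya53 za20) (ka xa28 ya9 za8) (ka xa18 ya37 za21) (ka xa28 ya9 za11) (ka xa30 ya24 za43)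 (ka xa28 ya6 za9) (ka xa31 ya39 za21) (ka xa28 ya6 za10) (ka xa18 ya56 za53) (ka xa31 ya53 za41) (ka xa21 ya44 za0) (ka xa27 ya0 za47) (ka xa28 ya9 za39) (ka xa27 ya21 za24) (ka xa18 ya15 za55) (ka xa18 ya15 za56) (ka xa18 ya15 za58) (ka xa24 ya46 za0) (ka xa30 ya36 za22) (ka xa18 ya38 za56) (ka xa30 ya32 za9) (ka xa28 ya26 za9) (ka xa27 ya58 za43) (ka xa27 ya58 za42) (ka xa30 ya32 za10) (ka xa22 ya30 za53) (ka xa27 ya16 za36) (ka xa21 ya49 za47) (ka xa27 ya10 za43) (ka xa18 ya16 za28) (ka xa18 ya16 za20) (ka xa18 ya16 za22) (ka xa18 ya16 za23)) (@D3.rec (fun _ => Pt) (ka xa18 ya48 za26) (ka xa28 ya9 za54) (ka xa31 ya1 za28) (ka xa28 ya16 za19) (ka xa23 ya51 za53) (ka xa26 ya0 za7) (ka xa18 ya16 za56) (ka xa18 ya16 za58) (ka xa31 ya45 za11) (ka xa21 ya36 za33) (ka xa31 ya55 za51) (ka xa27 ya30 za52) (ka xa27 ya47 za14)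 (ka xa28 ya27 za35) (ka xa24 ya58 za53) (ka xa26 ya20 za49) (ka xa31 ya6 za10) (ka xa28 ya3 za37) (ka xa27 ya31 za1) (ka xa27 ya54 za14) (ka xa28 ya10 za20) (ka xa20 ya38 za26) (ka xa26 ya55 za15) (ka xa27 ya10 za6) (ka xa27 ya10 za7) (ka xa21 ya16 za47) (ka xa29 ya38 za27) (ka xa28 ya10 za21) (ka xa32 ya30 za7) (ka xa27 ya50 za14) (ka xa28 ya10 za34) (ka xa31 ya11 za22) (ka xa32 ya26 za26) (ka xa18 ya31 za39) (ka xa32 ya30 za23) (ka xa27 ya53 za39) (ka xa18 ya17 za37) (ka xa22 ya5 za1) (ka xa18 ya17 za42) (ka xa20 ya13 za53) (ka xa31 ya13 za16) (ka xa24 ya23 za38) (ka xa28 ya11 za23) (ka xa28 ya11 za22) (ka xa31 ya0 za4) (ka xa27 ya57 za30) (ka xa27 ya57 za33) (ka xa25 ya38 za38) (ka xa26 ya47 za42) (ka xa18 ya18 za5) (ka xa27 ya4 za4) (ka xa26 ya14 za38) (ka xa28 ya0 za35) (ka xa28 ya11 za30) (ka xa28 ya11 za27) (ka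 xa31 ya3 za9) (ka xa24 ya17 za37) (ka xa18 ya18 za11) (ka xa23 ya31 za43) (ka xa21 ya55 za39) (ka xa23 ya46 za56) (ka xa20 ya24 za22)) (@D3.rec (fun _ => Pt) (ka xa19 ya55 za6) (ka xa18 ya18 za18) (ka xa20 ya55 za57) (ka xa30 ya17 za59) (ka xa28 ya0 za36) (ka xa28 ya0 za39) (ka xa28 ya11 za36) (ka xa28 ya11 za25) (ka xa29 ya49 za56) (ka xa28 ya11 za29) (ka xa18 ya18 za29) (ka xa29 ya48 za52) (ka xa28 ya11 za37) (ka xa28 ya11 za40) (ka xa31 ya7 za14) (ka xa21 ya59 za53) (ka xa31 ya2 za55) (ka xa28 ya12 za27) (ka xa30 ya2 za26) (ka xa23 ya46 za60) (ka xa18 ya18 za38) (ka xa20 ya24 za30) (ka xa31 ya58 za23) (ka xa29 ya9 za40) (ka xa18 ya18 za45) (ka xa25 ya2 za4) (ka xa26 ya23 za14) (ka xa25 ya39 za36) (ka xa26 ya23 za11) (ka xa28 ya26 za11) (ka xa27 ya56 za45) (ka xa28 ya12 za8) (ka xa25 ya2 za2) (ka xa27 ya56 za46) (ka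 xa28 ya12 za9) (ka xa25 ya16 za2) (ka xa25 ya16 za3) (ka xa20 ya32 za7) (ka xa25 ya16 za5) (ka xa28 ya0 za28) (ka xa26 ya25 za3) (ka xa23 ya15 za14) (ka xa23 ya15 za15) (ka xa23 ya15 za16) (ka xa23 ya15 za17) (ka xa22 ya29 za37) (ka xa28 ya0 za34) (ka xa23 ya16 za55) (ka xa25 ya2 za23) (ka xa27 ya1 za16) (ka xa27 ya11 za45) (ka xa28 ya0 za29) (ka xa27 ya14 za50) (ka xa28 ya0 za27) (ka xa26 ya8 za58) (ka xa30 ya33 za54) (ka xa28 ya13 za7) (ka xa27 ya27 za27) (ka xa31 ya0 za6) (ka xa28 ya28 za14) (ka xa18 ya19 za16) (ka xa31 ya12 za17)) (@D3.rec (fun _ => Pt) (ka xa32 ya30 za41) (ka xa30 ya13 za9) (ka xa31 ya8 za24) (ka xa23 ya26 za12) (ka xa31 ya12 za11) (ka xa28 ya11 za46) (ka xa28 ya11 za48) (ka xa28 ya11 za49) (ka xa25 ya42 za59) (ka xa28 ya11 za50) (ka xa24 ya40 za21) (ka xa23 ya29 za56) (ka xa30 ya2 za13) (ka xa25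 ya42 za53) (ka xa30 ya42 za45) (ka xa26 ya31 za19) (ka xa18 ya19 za32) (ka xa32 ya8 za61) (ka xa30 ya45 za54) (ka xa26 ya27 za27) (ka xa28 ya26 za52) (ka xa26 ya19 za56) (ka xa23 ya7 za8) (ka xa26 ya19 za57) (ka xa20 ya20 za12) (ka xa23 ya43 za22) (ka xa28 ya12 za40) (ka xa18 ya19 za43) (ka xa32 ya8 za47) (ka xa26 ya38 za33) (ka xa26 ya38 za31) (ka xa26 ya38 za32) (ka xa28 ya12 za46) (ka xa23 ya18 za45) (ka xa24 ya25 za40) (ka xa28 ya12 za53) (ka xa26 ya18 za50) (ka xa28 ya27 za53) (ka xa28 ya12 za56) (ka xa28 ya12 za54) (ka xa18 ya21 za56) (ka xa18 ya32 za37) (ka xa27 ya55 za52) (ka xa27 ya55 za51) (ka xa26 ya23 za2) (ka xa25 ya18 za12) (ka xa18 ya20 za1) (ka xa30 ya59 za52) (ka xa31 ya42 za33) (ka xa23 ya32 za46) (ka xa25 ya0 za5) (ka xa23 ya18 za36) (ka xa31 ya44 za49) (ka xa23 ya20 za41) (ka xa27 ya53 za54) (ka xa18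 ya42 za24) (ka xa18 ya20 za13) (ka xa27 ya52 za7) (ka xa30 ya24 za61) (ka xa19 ya10 za25) (ka xa18 ya20 za17) (ka xa22 ya53 za31)) (@D3.rec (fun _ => Pt) (ka xa22 ya53 za10) (ka xa28 ya17 za57) (ka xa28 ya18 za20) (ka xa24 ya6 za37) (ka xa28 ya17 za30) (ka xa27 ya30 za19) (ka xa22 ya51 za42) (ka xa27 ya6 za58) (ka xa28 ya16 za41) (ka xa23 ya22 za4) (ka xa27 ya50 za53) (ka xa27 ya50 za44) (ka xa23 ya34 za0) (ka xa27 ya49 za50) (ka xa27 ya52 za51) (ka xa18 ya20 za34) (ka xa29 ya51 za58) (ka xa28 ya6 za38) (ka xa27 ya36 za20) (ka xa28 ya6 za42) (ka xa22 ya54 za25) (ka xa22 ya54 za23) (ka xa18 ya20 za53) (ka xa18 ya20 za55) (ka xa18 ya20 za54) (ka xa28 ya44 za11) (ka xa25 ya38 za59) (ka xa20 ya38 za12) (ka xa30 ya52 za39) (ka xa25 ya7 za31) (ka xa19 ya10 za21) (ka xa18 ya20 za58) (ka xa25 ya59 za36) (ka xa30 ya3 za40) (ka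 xa19 ya20 za39) (ka xa21 ya2 za50) (ka xa21 ya2 za58) (ka xa20 ya48 za42) (ka xa28 ya55 za34) (ka xa23 ya53 za17) (ka xa27 ya14 za51) (ka xa28 ya20 za15) (ka xa27 ya15 za22) (ka xa27 ya15 za23) (ka xa23 ya53 za43) (ka xa18 ya47 za32) (ka xa27 ya15 za24) (ka xa28 ya56 za16) (ka xa28 ya56 za18) (ka xa27 ya2 za51) (ka xa23 ya58 za1) (ka xa28 ya8 za15) (ka xa27 ya6 za8) (ka xa18 ya48 za31) (ka xa18 ya48 za30) (ka xa26 ya52 za15) (ka xa18 ya21 za34) (ka xa28 ya25 za18) (ka xa27 ya8 za24) (ka xa26 ya48 za20) (ka xa19 ya2 za10) (ka xa18 ya36 za0))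
def f_a_28 : D2 → D3 → Pt := @D2.rec (fun _ => D3 → Pt) (@D3.rec (fun _ => Pt) (ka xa18 ya36 za1) (ka xa24 ya45 za60) (ka xa26 ya18 za57) (ka xa18 ya21 za55) (ka xa31 ya23 za51) (ka xa28 ya26 za30) (ka xa26 ya18 za53) (ka xa29 ya4 za12) (ka xa28 ya27 za51) (ka xa28 ya27 za52) (ka xa27 ya54 za29) (ka xa26 ya17 za38) (ka xa28 ya12 za49) (ka xa18 ya22 za0) (ka xa28 ya27 za54) (ka xa31 ya54 za50) (ka xa28 ya27 za55) (ka xa28 ya27 za56) (ka xa26 ya39 za15) (ka xa26 ya38 za17) (ka xa22 ya17 za13) (ka xa26 ya44 za31) (ka xa22 ya4 za2) (ka xa28 ya27 za59) (ka xa28 ya11 za8) (ka xa24 ya7 za19) (ka xa23 ya31 za14) (ka xa27 ya57 za53) (ka xa27 ya57 za39) (ka xa27 ya57 za51) (ka xa18 ya22 za51) (ka xa23 ya21 za17) (ka xa21 ya2 za43) (ka xa21 ya6 za24) (ka xa27 ya57 za46) (ka xa27 ya56 za52) (ka xa27 ya57 za4) (ka xa18 ya22 za60) (ka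 xa30 ya18 za15) (ka xa27 ya57 za5) (ka xa25 ya18 za10) (ka xa28 ya20 za21) (ka xa28 ya26 za34) (ka xa29 ya30 za18) (ka xa27 ya8 za1) (ka xa27 ya7 za12) (ka xa25 ya15 za60) (ka xa18 ya51 za56) (ka xa28 ya13 za47) (ka xa18 ya23 za52) (ka xa18 ya23 za53) (ka xa18 ya23 za54) (ka xa24 ya59 za12) (ka xa21 ya2 za44) (ka xa21 ya53 za46) (ka xa26 ya32 za20) (ka xa22 ya30 za24) (ka xa29 ya14 za44) (ka xa29 ya18 za15) (ka xa18 ya24 za8) (ka xa26 ya59 za19) (ka xa21 ya38 za22)) (@D3.rec (fun _ => Pt) (ka xa31 ya28 za46) (ka xa27 ya50 za25) (ka xa18 ya38 za7) (ka xa20 ya24 za55) (ka xa20 ya24 za56) (ka xa24 ya31 za14) (ka xa26 ya57 za44) (ka xa26 ya58 za1) (ka xa18 ya25 za2) (ka xa18 ya25 za37) (ka xa18 ya25 za38) (ka xa18 ya25 za40) (ka xa25 ya17 za17) (ka xa23 ya42 za37) (ka xa18 ya39 za41) (ka xa27 ya53 za30) (ka xa20 ya37 za60)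 (ka xa30 ya8 za33) (ka xa21 ya35 za24) (ka xa29 ya13 za44) (ka xa26 ya25 za50) (ka xa19 ya9 za12) (ka xa19 ya9 za13) (ka xa20 ya5 za5) (ka xa24 ya3 za13) (ka xa25 ya16 za39) (ka xa28 ya41 za30) (ka xa19 ya35 za34) (ka xa21 ya20 za38) (ka xa22 ya46 za7) (ka xa22 ya46 za10) (ka xa26 ya55 za8) (ka xa21 ya46 za15) (ka xa29 ya13 za42) (ka xa26 ya55 za22) (ka xa30 ya5 za13) (ka xa20 ya33 za42) (ka xa25 ya18 za52) (ka xa28 ya55 za61) (ka xa28 ya10 za30) (ka xa29 ya51 za46) (ka xa28 ya10 za8) (ka xa18 ya26 za16) (ka xa31 ya7 za42) (ka xa23 ya50 za6) (ka xa23 ya49 za59) (ka xa27 ya46 za27) (ka xa26 ya19 za12) (ka xa27 ya47 za17) (ka xa27 ya47 za16) (ka xa23 ya33 za53) (ka xa30 ya37 za37) (ka xa31 ya6 za57) (ka xa18 ya26 za49) (ka xa24 ya44 za52) (ka xa32 ya25 za30) (ka xa32 ya31 za0) (ka xa28 ya3 za6) (ka xa28 ya3 za7) (ka xa28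 ya3 za9) (ka xa28 ya12 za7) (ka xa27 ya50 za31)) (@D3.rec (fun _ => Pt) (ka xa18 ya26 za56) (ka xa28 ya12 za6) (ka xa28 ya21 za10) (ka xa28 ya2 za57) (ka xa28 ya2 za58) (ka xa28 ya2 za56) (ka xa18 ya27 za5) (ka xa18 ya29 za25) (ka xa31 ya44 za20) (ka xa31 ya44 za21) (ka xa30 ya4 za22) (ka xa31 ya44 za18) (ka xa31 ya44 za19) (ka xa30 ya59 za17) (ka xa32 ya31 za3) (ka xa31 ya44 za2) (ka xa18 ya27 za9) (ka xa31 ya43 za58) (ka xa18 ya27 za10) (ka xa31 ya14 za53) (ka xa27 ya46 za5) (ka xa31 ya1 za48) (ka xa32 ya25 za25) (ka xa30 ya23 za21) (ka xa18 ya27 za14) (ka xa18 ya27 za15) (ka xa32 ya31 za8) (ka xa26 ya20 za13) (ka xa26 ya20 za11) (ka xa26 ya20 za8) (ka xa18 ya27 za28) (ka xa27 ya38 za28) (ka xa30 ya1 za0) (ka xa27 ya28 za7) (ka xa31 ya44 za24) (ka xa27 ya28 za22) (ka xa27 ya20 za37) (ka xa27 ya22 za35) (ka xa18 ya28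 za52) (ka xa18 ya48 za2) (ka xa18 ya27 za53) (ka xa18 ya48 za6) (ka xa23 ya24 za41) (ka xa29 ya8 za12) (ka xa18 ya47 za54) (ka xa19 ya22 za3) (ka xa18 ya47 za4) (ka xa18 ya47 za57) (ka xa18 ya47 za58) (ka xa18 ya47 za59) (ka xa18 ya29 za28) (ka xa25 ya30 za59) (ka xa28 ya16 za15) (ka xa18 ya28 za9) (ka xa18 ya28 za10) (ka xa18 ya28 za12) (ka xa28 ya2 za5) (ka xa28 ya2 za3) (ka xa28 ya2 za4) (ka xa30 ya58 za14) (ka xa23 ya18 za21) (ka xa30 ya58 za46)) (@D3.rec (fun _ => Pt) (ka xa30 ya59 za14) (ka xa27 ya29 za57) (ka xa32 ya28 za25) (ka xa27 ya47 za37) (ka xa23 ya18 za32) (ka xa18 ya28 za16) (ka xa28 ya1 za57) (ka xa28 ya1 za58) (ka xa27 ya30 za51) (ka xa28 ya1 za59) (ka xa29 ya29 za55) (ka xa25 ya3 za50) (ka xa31 ya39 za11) (ka xa27 ya46 za11) (ka xa27 ya46 za9) (ka xa31 ya44 za28) (ka xa31 ya42 za8) (ka xa31 ya44 za30)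 (ka xa31 ya44 za31) (ka xa31 ya39 za12) (ka xa29 ya15 za53) (ka xa29 ya15 za52) (ka xa29 ya32 za61) (ka xa27 ya46 za6) (ka xa27 ya54 za30) (ka xa30 ya41 za57) (ka xa18 ya29 za29) (ka xa31 ya44 za33) (ka xa28 ya12 za2) (ka xa18 ya28 za44) (ka xa18 ya37 za1) (ka xa18 ya29 za42) (ka xa18 ya28 za49) (ka xa31 ya44 za27) (ka xa25 ya3 za51) (ka xa27 ya49 za5) (ka xa27 ya49 za4) (ka xa27 ya56 za17) (ka xa27 ya53 za38) (ka xa29 ya16 za23) (ka xa18 ya54 za57) (ka xa30 ya23 za8) (ka xa30 ya23 za9) (ka xa18 ya30 za14) (ka xa27 ya26 za13) (ka xa23 ya44 za45) (ka xa23 ya44 za46) (ka xa31 ya11 za39) (ka xa26 ya13 za24) (ka xa30 ya45 za2) (ka xa18 ya49 za50) (ka xa18 ya29 za37) (ka xa21 ya55 za35) (ka xa25 ya3 za60) (ka xa28 ya22 za12) (ka xa18 ya29 za39) (ka xa27 ya47 za7) (ka xa18 ya29 za34) (ka xa25 ya0 za9) (ka xa32 ya31 za2) (ka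 xa30 ya4 za20) (ka xa18 ya35 za40)) (@D3.rec (fun _ => Pt) (ka xa30 ya13 za4) (ka xa26 ya14 za52) (ka xa21 ya2 za17) (ka xa28 ya10 za4) (ka xa31 ya11 za45) (ka xa31 ya11 za46) (ka xa31 ya45 za5) (ka xa30 ya52 za0) (ka xa18 ya50 za49) (ka xa27 ya48 za29) (ka xa18 ya30 za0) (ka xa27 ya44 za40) (ka xa31 ya12 za1) (ka xa31 ya44 za36) (ka xa31 ya44 za37) (ka xa31 ya44 za39) (ka xa21 ya33 za54) (ka xa27 ya48 za6) (ka xa30 ya1 za2) (ka xa26 ya12 za41) (ka xa27 ya48 za60) (ka xa27 ya49 za1) (ka xa32 ya27 za26) (ka xa27 ya48 za61) (ka xa27 ya49 za0) (ka xa27 ya34 za25) (ka xa24 ya46 za41) (ka xa26 ya20 za50) (ka xa26 ya20 za52) (ka xa27 ya49 za8) (ka xa25 ya1 za44) (ka xa24 ya48 za11) (ka xa24 ya48 za8) (ka xa18 ya30 za32) (ka xa22 ya55 za44) (ka xa32 ya31 za31) (ka xa27 ya33 za19) (ka xa31 ya30 za23) (ka xa27 ya51 za36) (ka xa27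 ya51 za37) (ka xa27 ya51 za38) (ka xa27 ya45 za61) (ka xa27 ya51 za43) (ka xa28 ya7 za46) (ka xa18 ya30 za39) (ka xa27 ya51 za47) (ka xa27 ya51 za46) (ka xa30 ya15 za11) (ka xa28 ya8 za43) (ka xa18 ya31 za31) (ka xa18 ya31 za32) (ka xa18 ya31 za33) (ka xa18 ya31 za34) (ka xa19 ya6 za49) (ka xa19 ya7 za3) (ka xa19 ya7 za2) (ka xa18 ya30 za46) (ka xa27 ya51 za58) (ka xa18 ya30 za51) (ka xa32 ya31 za40) (ka xa30 ya44 za36) (ka xa27 ya52 za18)) (@D3.rec (fun _ => Pt) (ka xa27 ya52 za19) (ka xa27 ya52 za21) (ka xa27 ya50 za26) (ka xa32 ya7 za46) (ka xa27 ya12 za23) (ka xa32 ya31 za36) (ka xa27 ya50 za40) (ka xa27 ya52 za23) (ka xa18 ya53 za10) (ka xa18 ya53 za9) (ka xa18 ya30 za60) (ka xa27 ya53 za17) (ka xa27 ya50 za48) (ka xa27 ya52 za8) (ka xa27 ya49 za28) (ka xa18 ya31 za2) (ka xa27 ya52 za0) (ka xa27 ya52 za2) (ka xa32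 ya29 za11) (ka xa19 ya12 za54) (ka xa19 ya6 za40) (ka xa27 ya52 za27) (ka xa32 ya7 za26) (ka xa26 ya14 za54) (ka xa19 ya6 za39) (ka xa27 ya52 za24) (ka xa18 ya31 za10) (ka xa30 ya44 za27) (ka xa30 ya44 za22) (ka xa29 ya54 za11) (ka xa32 ya31 za37) (ka xa27 ya52 za41) (ka xa27 ya52 za47) (ka xa32 ya26 za36) (ka xa27 ya52 za38) (ka xa27 ya52 za40) (ka xa18 ya31 za17) (ka xa18 ya39 za11) (ka xa27 ya50 za39) (ka xa22 ya51 za55) (ka xa18 ya33 za13) (ka xa32 ya31 za47) (ka xa30 ya48 za8) (ka xa27 ya52 za54) (ka xa20 ya12 za0) (ka xa18 ya31 za27) (ka xa27 ya3 za27) (ka xa32 ya31 za48) (ka xa19 ya10 za16) (ka xa19 ya10 za17) (ka xa19 ya10 za18) (ka xa19 ya10 za15) (ka xa30 ya49 za15) (ka xa19 ya7 za27) (ka xa19 ya7 za28) (ka xa29 ya16 za7) (ka xa19 ya10 za11) (ka xa32 ya26 za32) (ka xa27 ya53 za4) (ka xa31 ya14 za23) (ka xa19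 ya10 za12) (ka xa19 ya30 za15)) (@D3.rec (fun _ => Pt) (ka xa28 ya8 za11) (ka xa28 ya8 za10) (ka xa31 ya14 za44) (ka xa18 ya31 za35) (ka xa30 ya35 za18) (ka xa27 ya51 za9) (ka xa27 ya51 za14) (ka xa28 ya9 za29) (ka xa30 ya35 za37) (ka xa27 ya55 za34) (ka xa27 ya55 za36) (ka xa32 ya26 za37) (ka xa27 ya34 za10) (ka xa27 ya34 za9) (ka xa28 ya31 za55) (ka xa32 ya3 za49) (ka xa18 ya31 za44) (ka xa31 ya7 za39) (ka xa32 ya3 za53) (ka xa18 ya31 za47) (ka xa28 ya25 za39) (ka xa32 ya32 za0) (ka xa32 ya3 za51) (ka xa27 ya49 za18) (ka xa32 ya3 za52) (ka xa27 ya46 za13) (ka xa18 ya31 za53) (ka xa27 ya20 za38) (ka xa19 ya22 za25) (ka xa27 ya46 za7) (ka xa23 ya51 za5) (ka xa26 ya16 za44) (ka xa27 ya48 za22) (ka xa18 ya32 za4) (ka xa18 ya32 za5) (ka xa18 ya32 za6) (ka xa29 ya39 za37) (ka xa27 ya54 za32) (ka xa27 ya59 za17) (ka xa27 ya54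 za31) (ka xa22 ya47 za14) (ka xa27 ya49 za23) (ka xa27 ya59 za19) (ka xa27 ya50 za34) (ka xa27 ya50 za33) (ka xa22 ya10 za43) (ka xa22 ya10 za45) (ka xa27 ya52 za6) (ka xa23 ya54 za13) (ka xa27 ya50 za61) (ka xa27 ya53 za18) (ka xa27 ya51 za57) (ka xa18 ya32 za19) (ka xa24 ya12 za40) (ka xa27 ya54 za26) (ka xa27 ya53 za25) (ka xa27 ya53 za26) (ka xa27 ya53 za27) (ka xa27 ya5 za43) (ka xa28 ya25 za41) (ka xa27 ya53 za21) (ka xa27 ya53 za22)) (@D3.rec (fun _ => Pt) (ka xa29 ya20 za37) (ka xa18 ya32 za39) (ka xa28 ya31 za48) (ka xa27 ya46 za32) (ka xa18 ya32 za41) (ka xa27 ya51 za21) (ka xa18 ya32 za46) (ka xa27 ya50 za38) (ka xa32 ya21 za45) (ka xa32 ya10 za6) (ka xa31 ya25 za20) (ka xa31 ya25 za19) (ka xa23 ya54 za32) (ka xa32 ya27 za33) (ka xa27 ya49 za19) (ka xa27 ya49 za20) (ka xa27 ya49 za21) (ka xa32 ya26 za31) (ka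 xa27 ya49 za25) (ka xa27 ya49 za40) (ka xa26 ya21 za41) (ka xa27 ya53 za9) (ka xa29 ya54 za0) (ka xa27 ya49 za44) (ka xa27 ya49 za41) (ka xa27 ya49 za54) (ka xa29 ya54 za8) (ka xa27 ya49 za24) (ka xa27 ya49 za51) (ka xa27 ya49 za52) (ka xa18 ya33 za10) (ka xa27 ya49 za58) (ka xa27 ya49 za57) (ka xa28 ya7 za44) (ka xa28 ya47 za16) (ka xa32 ya7 za33) (ka xa32 ya25 za47) (ka xa20 ya21 za15) (ka xa21 ya12 za53) (ka xa31 ya21 za8) (ka xa18 ya35 za25) (ka xa29 ya20 za9) (ka xa30 ya44 za41) (ka xa29 ya54 za10) (ka xa28 ya7 za33) (ka xa18 ya34 za32) (ka xa28 ya4 za43) (ka xa27 ya33 za54) (ka xa32 ya25 za49) (ka xa19 ya17 za44) (ka xa19 ya50 za49) (ka xa27 ya34 za18) (ka xa31 ya51 za7) (ka xa25 ya37 za28) (ka xa27 ya22 za53) (ka xa27 ya22 za54) (ka xa27 ya51 za0) (ka xa25 ya4 za10) (ka xa27 ya50 za56) (ka xa27 ya50 za57) (ka xa27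 ya50 za58) (ka xa22 ya50 za59)) (@D3.rec (fun _ => Pt) (ka xa20 ya5 za47) (ka xa30 ya35 za50) (ka xa30 ya54 za15) (ka xa27 ya50 za41) (ka xa26 ya40 za26) (ka xa19 ya29 za14) (ka xa27 ya54 za35) (ka xa18 ya33 za60) (ka xa18 ya33 za61) (ka xa27 ya2 za60) (ka xa28 ya6 za1) (ka xa28 ya6 za0) (ka xa18 ya34 za25) (ka xa18 ya34 za29) (ka xa18 ya34 za31) (ka xa27 ya59 za51) (ka xa18 ya34 za39) (ka xa18 ya34 za40) (ka xa18 ya34 za44) (ka xa19 ya6 za35) (ka xa19 ya6 za37) (ka xa27 ya53 za40) (ka xa27 ya54 za46) (ka xa18 ya34 za12) (ka xa31 ya42 za11) (ka xa18 ya35 za47) (ka xa18 ya38 za32) (ka xa27 ya54 za50) (ka xa18 ya34 za15) (ka xa18 ya34 za19) (ka xa18 ya34 za21) (ka xa18 ya34 za22) (ka xa18 ya34 za23) (ka xa27 ya2 za59) (ka xa21 ya15 za0) (ka xa21 ya12 za8) (ka xa32 ya10 za9) (ka xa32 ya30 za9) (ka xa18 ya36 za7) (ka xa27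 ya36 za43) (ka xa31 ya53 za57) (ka xa31 ya25 za43) (ka xa31 ya23 za31) (ka xa28 ya4 za48) (ka xa31 ya25 za0) (ka xa19 ya9 za25) (ka xa30 ya31 za11) (ka xa31 ya25 za38) (ka xa29 ya21 za39) (ka xa18 ya34 za28) (ka xa27 ya54 za57) (ka xa18 ya34 za30) (ka xa31 ya48 za38) (ka xa29 ya20 za11) (ka xa31 ya53 za59) (ka xa21 ya11 za57) (ka xa31 ya22 za4) (ka xa19 ya18 za18) (ka xa31 ya38 za8) (ka xa29 ya25 za2) (ka xa18 ya34 za38) (ka xa32 ya9 za58)) (@D3.rec (fun _ => Pt) (ka xa28 ya14 za31) (ka xa32 ya29 za36) (ka xa26 ya54 za18) (ka xa28 ya51 za33) (ka xa22 ya18 za4) (ka xa31 ya54 za1) (ka xa19 ya22 za38) (ka xa28 ya14 za28) (ka xa27 ya55 za30) (ka xa23 ya54 za58) (ka xa27 ya54 za13) (ka xa27 ya55 za32) (ka xa18 ya34 za58) (ka xa18 ya34 za61) (ka xa32 ya30 za26) (ka xa32 ya0 za3) (ka xa31 ya8 za5) (ka xa31 ya53 za53) (ka xa32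 ya27 za4) (ka xa27 ya1 za3) (ka xa28 ya47 za21) (ka xa18 ya35 za13) (ka xa27 ya53 za41) (ka xa27 ya31 za61) (ka xa27 ya53 za44) (ka xa32 ya26 za33) (ka xa27 ya52 za46) (ka xa28 ya25 za52) (ka xa23 ya50 za54) (ka xa28 ya6 za7) (ka xa27 ya33 za18) (ka xa29 ya25 za18) (ka xa32 ya26 za1) (ka xa32 ya26 za44) (ka xa29 ya19 za47) (ka xa27 ya54 za15) (ka xa28 ya25 za3) (ka xa18 ya35 za43) (ka xa18 ya36 za40) (ka xa27 ya55 za41) (ka xa21 ya7 za57) (ka xa26 ya21 za14) (ka xa18 ya36 za4) (ka xa18 ya36 za9) (ka xa18 ya36 za13) (ka xa29 ya7 za14) (ka xa23 ya10 za22) (ka xa22 ya52 za34) (ka xa30 ya54 za0) (ka xa30 ya55 za5) (ka xa30 ya32 za57) (ka xa27 ya9 za60) (ka xa27 ya9 za61) (ka xa32 ya6 za20) (ka xa27 ya56 za1) (ka xa21 ya21 za21) (ka xa18 ya36 za53) (ka xa22 ya36 za15) (ka xa30 ya59 za56) (ka xa18 ya36 za35) (ka xa21 ya26 za36)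 (ka xa27 ya4 za47)) (@D3.rec (fun _ => Pt) (ka xa27 ya46 za31) (ka xa18 ya36 za50) (ka xa18 ya55 za19) (ka xa22 ya28 za54) (ka xa28 ya4 za3) (ka xa21 ya6 za21) (ka xa23 ya44 za59) (ka xa18 ya37 za31) (ka xa28 ya1 za41) (ka xa20 ya21 za51) (ka xa25 ya3 za55) (ka xa25 ya3 za56) (ka xa29 ya20 za44) (ka xa23 ya18 za3) (ka xa27 ya38 za23) (ka xa22 ya8 za58) (ka xa18 ya37 za51) (ka xa27 ya38 za5) (ka xa27 ya37 za36) (ka xa29 ya14 za9) (ka xa27 ya56 za20) (ka xa27 ya56 za27) (ka xa20 ya53 za16) (ka xa21 ya20 za14) (ka xa21 ya20 za8) (ka xa21 ya47 za25) (ka xa27 ya42 za28) (ka xa21 ya35 za32) (ka xa27 ya36 za15) (ka xa26 ya16 za25) (ka xa28 ya1 za39) (ka xa23 ya47 za25) (ka xa21 ya35 za53) (ka xa32 ya32 za13) (ka xa27 ya56 za30) (ka xa31 ya8 za47) (ka xa32 ya27 za0) (ka xa22 ya51 za19) (ka xa23 ya16 za22) (ka xa18 ya53 za16) (ka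 xa18 ya38 za50) (ka xa18 ya38 za51) (ka xa18 ya49 za37) (ka xa30 ya57 za13) (ka xa23 ya18 za47) (ka xa23 ya18 za11) (ka xa23 ya18 za12) (ka xa30 ya57 za16) (ka xa25 ya1 za61) (ka xa28 ya26 za6) (ka xa28 ya26 za7) (ka xa23 ya31 za29) (ka xa18 ya38 za58) (ka xa28 ya24 za40) (ka xa28 ya26 za12) (ka xa30 ya58 za48) (ka xa23 ya29 za16) (ka xa25 ya42 za54) (ka xa28 ya26 za13) (ka xa23 ya32 za6) (ka xa28 ya26 za14) (ka xa18 ya39 za5)) (@D3.rec (fun _ => Pt) (ka xa23 ya32 za9) (ka xa28 ya24 za41) (ka xa26 ya58 za7) (ka xa28 ya23 za4) (ka xa25 ya43 za21) (ka xa28 ya23 za5) (ka xa22 ya52 za7) (ka xa22 ya52 za6) (ka xa28 ya0 za24) (ka xa27 ya50 za30) (ka xa18 ya39 za25) (ka xa18 ya39 za27) (ka xa30 ya47 za27) (ka xa28 ya28 za26) (ka xa24 ya29 za5) (ka xa31 ya55 za9) (ka xa31 ya18 za3) (ka xa28 ya24 za9) (ka xa27 ya1 za23) (ka xa29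 ya30 za29) (ka xa21 ya43 za7) (ka xa27 ya37 za57) (ka xa27 ya56 za43) (ka xa27 ya56 za42) (ka xa24 ya37 za45) (ka xa27 ya57 za7) (ka xa31 ya29 za51) (ka xa27 ya56 za54) (ka xa26 ya47 za9) (ka xa27 ya57 za9) (ka xa27 ya56 za53) (ka xa20 ya59 za45) (ka xa30 ya17 za38) (ka xa30 ya17 za39) (ka xa23 ya32 za24) (ka xa23 ya52 za36) (ka xa27 ya57 za6) (ka xa27 ya57 za12) (ka xa28 ya41 za4) (ka xa24 ya31 za25) (ka xa27 ya57 za13) (ka xa31 ya0 za37) (ka xa29 ya10 za21) (ka xa26 ya48 za24) (ka xa23 ya44 za51) (ka xa31 ya4 za55) (ka xa27 ya58 za5) (ka xa27 ya47 za56) (ka xa27 ya58 za6) (ka xa27 ya58 za7) (ka xa27 ya58 za9) (ka xa26 ya47 za10) (ka xa18 ya40 za20) (ka xa32 ya32 za41) (ka xa23 ya38 za38) (ka xa31 ya8 za42) (ka xa32 ya4 za49) (ka xa29 ya57 za54) (ka xa31 ya8 za37) (ka xa31 ya8 za27) (ka xa29 ya49 za49) (ka xa26 ya17 za61))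 (@D3.rec (fun _ => Pt) (ka xa22 ya44 za57) (ka xa31 ya30 za17) (ka xa28 ya3 za28) (ka xa26 ya30 za10) (ka xa18 ya40 za29) (ka xa30 ya4 za14) (ka xa28 ya2 za1) (ka xa28 ya1 za60) (ka xa27 ya57 za31) (ka xa27 ya57 za34) (ka xa18 ya40 za39) (ka xa23 ya20 za11) (ka xa24 ya9 za38) (ka xa31 ya33 za47) (ka xa23 ya14 za61) (ka xa27 ya9 za49) (ka xa26 ya48 za50) (ka xa30 ya2 za34) (ka xa28 ya27 za6) (ka xa23 ya15 za4) (ka xa23 ya15 za5) (ka xa26 ya25 za16) (ka xa26 ya25 za17) (ka xa26 ya25 za18) (ka xa31 ya36 za22) (ka xa21 ya55 za55) (ka xa32 ya4 za57) (ka xa27 ya57 za17) (ka xa28 ya41 za15) (ka xa27 ya40 za38) (ka xa31 ya2 za21) (ka xa24 ya30 za39) (ka xa30 ya52 za36) (ka xa23 ya16 za32) (ka xa31 ya44 za51) (ka xa28 ya42 za52) (ka xa31 ya32 za48) (ka xa26 ya25 za12) (ka xa27 ya40 za17) (ka xa25 ya56 za18) (ka xa27 ya58 za26)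 (ka xa18 ya41 za14) (ka xa30 ya54 za17) (ka xa28 ya28 za32) (ka xa30 ya54 za16) (ka xa26 ya29 za48) (ka xa27 ya58 za32) (ka xa18 ya41 za23) (ka xa26 ya22 za27) (ka xa28 ya0 za12) (ka xa20 ya36 za27) (ka xa29 ya53 za55) (ka xa29 ya54 za7) (ka xa27 ya58 za35) (ka xa27 ya58 za39) (ka xa30 ya45 za22) (ka xa27 ya58 za38) (ka xa20 ya36 za33) (ka xa27 ya23 za42) (ka xa27 ya23 za41) (ka xa18 ya41 za35) (ka xa27 ya46 za55)) (@D3.rec (fun _ => Pt) (ka xa26 ya19 za35) (ka xa28 ya19 za47) (ka xa29 ya54 za31) (ka xa26 ya28 za49) (ka xa19 ya52 za7) (ka xa28 ya32 za36) (ka xa23 ya10 za27) (ka xa27 ya57 za56) (ka xa32 ya19 za46) (ka xa29 ya31 za45) (ka xa28 ya49 za56) (ka xa25 ya18 za34) (ka xa23 ya58 za11) (ka xa22 ya30 za51) (ka xa22 ya30 za52) (ka xa23 ya17 za42) (ka xa21 ya6 za42) (ka xa18 ya42 za31) (ka xa30 ya33 za31) (ka xa30 ya31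 za39) (ka xa21 ya49 za30) (ka xa29 ya10 za52) (ka xa31 ya59 za3) (ka xa29 ya10 za0) (ka xa31 ya59 za4) (ka xa31 ya59 za5) (ka xa31 ya8 za28) (ka xa31 ya5 za24) (ka xa24 ya40 za3) (ka xa30 ya39 za57) (ka xa29 ya18 za59) (ka xa31 ya49 za36) (ka xa29 ya14 za35) (ka xa23 ya16 za1) (ka xa29 ya6 za22) (ka xa31 ya49 za37) (ka xa27 ya48 za51) (ka xa31 ya43 za60) (ka xa18 ya42 za47) (ka xa27 ya11 za44) (ka xa32 ya32 za52) (ka xa27 ya14 za53) (ka xa27 ya14 za54) (ka xa27 ya14 za55) (ka xa27 ya14 za57) (ka xa24 ya31 za1) (ka xa25 ya18 za24) (ka xa28 ya0 za48) (ka xa20 ya18 za33) (ka xa20 ya1 za12) (ka xa20 ya18 za42) (ka xa20 ya18 za41) (ka xa23 ya32 za31) (ka xa23 ya32 za30) (ka xa20 ya25 za11) (ka xa25 ya18 za19) (ka xa22 ya6 za33) (ka xa27 ya11 za59) (ka xa21 ya32 za41) (ka xa28 ya48 za6) (ka xa23 ya48 za0) (ka xa25 ya55 za13))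 (@D3.rec (fun _ => Pt) (ka xa25 ya56 za6) (ka xa25 ya43 za37) (ka xa26 ya25 za7) (ka xa25 ya58 za8) (ka xa28 ya15 za20) (ka xa22 ya57 za33) (ka xa28 ya50 za19) (ka xa24 ya10 za14) (ka xa26 ya49 za17) (ka xa28 ya50 za20) (ka xa26 ya45 za15) (ka xa18 ya44 za11) (ka xa28 ya50 za22) (ka xa29 ya21 za14) (ka xa24 ya47 za3) (ka xa25 ya55 za24) (ka xa25 ya43 za36) (ka xa18 ya44 za12) (ka xa28 ya51 za23) (ka xa24 ya50 za11) (ka xa28 ya51 za22) (ka xa19 ya58 za19) (ka xa28 ya43 za4) (ka xa24 ya51 za30) (ka xa24 ya51 za50) (ka xa19 ya41 za6) (ka xa28 ya21 za57) (ka xa19 ya42 za21) (ka xa28 ya9 za7) (ka xa26 ya25 za46) (ka xa28 ya51 za43) (ka xa28 ya9 za0) (ka xa32 ya30 za10) (ka xa24 ya38 za51) (ka xa18 ya46 za0) (ka xa29 ya47 za2) (ka xa19 ya18 za7) (ka xa18 ya46 za16) (ka xa18 ya46 za15) (ka xa18 ya45 za45) (ka xa18 ya47 za16)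 (ka xa18 ya44 za52) (ka xa28 ya22 za46) (ka xa31 ya38 za47) (ka xa32 ya32 za56) (ka xa24 ya44 za16) (ka xa18 ya46 za61) (ka xa18 ya47 za0) (ka xa18 ya47 za1) (ka xa18 ya44 za61) (ka xa18 ya45 za0) (ka xa18 ya47 za46) (ka xa29 ya8 za56) (ka xa22 ya57 za49) (ka xa23 ya53 za49) (ka xa18 ya48 za16) (ka xa18 ya45 za18) (ka xa29 ya52 za24) (ka xa18 ya45 za8) (ka xa28 ya18 za41) (ka xa28 ya22 za4) (ka xa18 ya45 za11)) (@D3.rec (fun _ => Pt) (ka xa18 ya47 za2) (ka xa18 ya45 za10) (ka xa25 ya25 za27) (ka xa32 ya7 za45) (ka xa29 ya29 za43) (ka xa19 ya22 za10) (ka xa18 ya45 za16) (ka xa18 ya45 za17) (ka xa29 ya21 za11) (ka xa19 ya21 za46) (ka xa30 ya26 za10) (ka xa18 ya49 za5) (ka xa28 ya15 za24) (ka xa29 ya3 za57) (ka xa19 ya21 za9) (ka xa23 ya50 za31) (ka xa28 ya21 za12) (ka xa19 ya21 za27) (ka xa18 ya45 za41) (ka xa28 ya21 za2)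 (ka xa28 ya14 za4) (ka xa27 ya45 za5) (ka xa18 ya45 za43) (ka xa27 ya31 za54) (ka xa28 ya15 za12) (ka xa26 ya29 za34) (ka xa20 ya47 za41) (ka xa18 ya45 za50) (ka xa30 ya7 za31) (ka xa18 ya45 za53) (ka xa29 ya48 za0) (ka xa28 ya21 za34) (ka xa31 ya44 za44) (ka xa18 ya45 za57) (ka xa18 ya45 za58) (ka xa25 ya26 za22) (ka xa25 ya26 za18) (ka xa31 ya17 za38) (ka xa21 ya10 za50) (ka xa31 ya32 za56) (ka xa28 ya21 za30) (ka xa30 ya46 za23) (ka xa19 ya24 za16) (ka xa26 ya40 za54) (ka xa18 ya46 za3) (ka xa32 ya14 za56) (ka xa19 ya34 za1) (ka xa30 ya56 za57) (ka xa19 ya42 za25) (ka xa29 ya48 za47) (ka xa31 ya50 za11) (ka xa18 ya59 za5) (ka xa26 ya49 za60) (ka xa25 ya26 za27) (ka xa18 ya46 za17) (ka xa19 ya17 za58) (ka xa19 ya17 za59) (ka xa28 ya21 za6) (ka xa19 ya7 za54) (ka xa31 ya52 za45) (ka xa26 ya5 za31) (ka xa18 ya46 za29))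 (@D3.rec (fun _ => Pt) (ka xa24 ya16 za20) (ka xa25 ya12 za17) (ka xa25 ya4 za54) (ka xa25 ya12 za42) (ka xa26 ya59 za55) (ka xa18 ya46 za35) (ka xa28 ya32 za12) (ka xa24 ya16 za19) (ka xa25 ya46 za49) (ka xa18 ya46 za39) (ka xa28 ya22 za7) (ka xa28 ya22 za6) (ka xa23 ya49 za16) (ka xa28 ya18 za35) (ka xa30 ya15 za51) (ka xa28 ya2 za52) (ka xa27 ya46 za29) (ka xa18 ya46 za44) (ka xa18 ya54 za25) (ka xa27 ya56 za3) (ka xa18 ya46 za50) (ka xa21 ya42 za30) (ka xa21 ya3 za33) (ka xa29 ya39 za11) (ka xa29 ya39 za12) (ka xa24 ya44 za21) (ka xa31 ya31 za25) (ka xa30 ya38 za38) (ka xa30 ya56 za55) (ka xa24 ya44 za18) (ka xa27 ya13 za31) (ka xa27 ya13 za32) (ka xa31 ya37 za12) (ka xa30 ya32 za30) (ka xa30 ya5 za56) (ka xa30 ya5 za55) (ka xa22 ya58 za15) (ka xa28 ya17 za31) (ka xa28 ya22 za28) (ka xa28 ya17 za32) (ka xa30 ya5 za59)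 (ka xa27 ya59 za8) (ka xa29 ya48 za22) (ka xa32 ya20 za36) (ka xa29 ya48 za28) (ka xa32 ya15 za0) (ka xa32 ya33 za0) (ka xa27 ya8 za4) (ka xa30 ya5 za52) (ka xa18 ya47 za8) (ka xa18 ya47 za9) (ka xa25 ya26 za24) (ka xa27 ya22 za31) (ka xa31 ya45 za53) (ka xa32 ya26 za2) (ka xa20 ya19 za7) (ka xa31 ya39 za23) (ka xa18 ya58 za38) (ka xa27 ya52 za53) (ka xa18 ya49 za11) (ka xa30 ya29 za43) (ka xa18 ya47 za22)) (@D3.rec (fun _ => Pt) (ka xa18 ya47 za24) (ka xa18 ya47 za26) (ka xa30 ya36 za49) (ka xa32 ya15 za26) (ka xa27 ya54 za23) (ka xa19 ya13 za13) (ka xa27 ya54 za61) (ka xa27 ya23 za56) (ka xa27 ya9 za47) (ka xa20 ya37 za16) (ka xa20 ya37 za6) (ka xa31 ya19 za16) (ka xa18 ya47 za29) (ka xa30 ya36 za15) (ka xa31 ya55 za12) (ka xa30 ya36 za9) (ka xa28 ya17 za47) (ka xa30 ya48 za46) (ka xa23 ya9 za49) (ka xa18 ya47 za49)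 (ka xa18 ya47 za50) (ka xa28 ya26 za22) (ka xa30 ya32 za21) (ka xa22 ya59 za28) (ka xa32 ya9 za55) (ka xa30 ya38 za26) (ka xa27 ya8 za44) (ka xa26 ya50 za55) (ka xa27 ya8 za45) (ka xa23 ya48 za38) (ka xa27 ya59 za4) (ka xa28 ya16 za37) (ka xa28 ya16 za39) (ka xa32 ya21 za25) (ka xa29 ya48 za15) (ka xa32 ya15 za6) (ka xa29 ya52 za25) (ka xa18 ya49 za1) (ka xa32 ya31 za10) (ka xa30 ya3 za13) (ka xa31 ya7 za52) (ka xa27 ya40 za53) (ka xa32 ya32 za22) (ka xa24 ya7 za18) (ka xa30 ya26 za18) (ka xa26 ya45 za7) (ka xa30 ya26 za22) (ka xa28 ya17 za16) (ka xa29 ya57 za6) (ka xa32 ya2 za18) (ka xa18 ya48 za45) (ka xa29 ya38 za35) (ka xa30 ya35 za40) (ka xa32 ya26 za43) (ka xa30 ya35 za39) (ka xa26 ya52 za17) (ka xa27 ya8 za3) (ka xa27 ya59 za1) (ka xa19 ya23 za0) (ka xa18 ya48 za29) (ka xa26 ya51 za2) (ka xa19 ya23 za5)) (@D3.rec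 (fun _ => Pt) (ka xa18 ya48 za35) (ka xa18 ya48 za39) (ka xa24 ya53 za5) (ka xa24 ya36 za29) (ka xa27 ya43 za36) (ka xa30 ya17 za48) (ka xa20 ya21 za40) (ka xa29 ya19 za58) (ka xa31 ya15 za29) (ka xa19 ya22 za34) (ka xa28 ya23 za53) (ka xa20 ya23 za53) (ka xa20 ya38 za47) (ka xa22 ya39 za2) (ka xa22 ya39 za1) (ka xa31 ya2 za7) (ka xa29 ya29 za29) (ka xa18 ya48 za52) (ka xa26 ya52 za45) (ka xa29 ya5 za35) (ka xa27 ya59 za2) (ka xa22 ya0 za11) (ka xa24 ya46 za20) (ka xa28 ya24 za12) (ka xa28 ya24 za10) (ka xa28 ya24 za11) (ka xa28 ya24 za13) (ka xa23 ya49 za15) (ka xa22 ya1 za17) (ka xa28 ya24 za14) (ka xa22 ya1 za28) (ka xa22 ya0 za52) (ka xa18 ya56 za0) (ka xa28 ya24 za16) (ka xa28 ya24 za20) (ka xa28 ya16 za13) (ka xa29 ya39 za56) (ka xa28 ya24 za17) (ka xa28 ya24 za18) (ka xa29 ya39 za14) (ka xa27 ya12 za22) (ka xa28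 ya14 za59) (ka xa18 ya49 za16) (ka xa21 ya52 za57) (ka xa22 ya32 za59) (ka xa29 ya2 za23) (ka xa23 ya19 za27) (ka xa32 ya11 za23) (ka xa29 ya20 za10) (ka xa24 ya38 za42) (ka xa32 ya24 za3) (ka xa30 ya58 za27) (ka xa29 ya54 za19) (ka xa19 ya13 za15) (ka xa18 ya50 za17) (ka xa31 ya38 za50) (ka xa31 ya37 za13) (ka xa23 ya48 za5) (ka xa28 ya43 za29) (ka xa27 ya7 za61) (ka xa24 ya40 za37) (ka xa28 ya27 za42)) (@D3.rec (fun _ => Pt) (ka xa27 ya12 za18) (ka xa23 ya42 za31) (ka xa28 ya32 za33) (ka xa28 ya27 za4) (ka xa31 ya25 za32) (ka xa25 ya37 za14) (ka xa30 ya52 za19) (ka xa21 ya8 za14) (ka xa20 ya12 za19) (ka xa25 ya16 za35) (ka xa21 ya8 za27) (ka xa21 ya48 za10) (ka xa30 ya23 za13) (ka xa19 ya13 za21) (ka xa24 ya48 za53) (ka xa26 ya44 za17) (ka xa27 ya37 za39) (ka xa18 ya50 za60) (ka xa25 ya4 za50) (ka xa18 ya51 za5) (ka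 xa32 ya32 za9) (ka xa24 ya39 za59) (ka xa23 ya39 za40) (ka xa25 ya4 za60) (ka xa25 ya5 za1) (ka xa25 ya5 za4) (ka xa22 ya20 za40) (ka xa25 ya12 za15) (ka xa28 ya56 za41) (ka xa18 ya51 za17) (ka xa25 ya36 za30) (ka xa25 ya36 za27) (ka xa25 ya36 za28) (ka xa25 ya36 za11) (ka xa32 ya1 za60) (ka xa25 ya5 za35) (ka xa25 ya5 za36) (ka xa25 ya5 za37) (ka xa18 ya51 za21) (ka xa32 ya33 za41) (ka xa31 ya18 za55) (ka xa25 ya5 za40) (ka xa25 ya5 za41) (ka xa25 ya5 za42) (ka xa25 ya5 za47) (ka xa28 ya34 za29) (ka xa25 ya59 za55) (ka xa28 ya13 za1) (ka xa18 ya53 za57) (ka xa18 ya51 za34) (ka xa18 ya53 za61) (ka xa18 ya53 za60) (ka xa30 ya55 za14) (ka xa18 ya53 za27) (ka xa27 ya46 za23) (ka xa18 ya53 za25) (ka xa18 ya51 za38) (ka xa30 ya53 za19) (ka xa28 ya45 za49) (ka xa18 ya54 za42) (ka xa18 ya51 za45) (ka xa30 ya48 za14)) (@D3.rec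 (fun _ => Pt) (ka xa18 ya54 za59) (ka xa18 ya54 za55) (ka xa18 ya55 za1) (ka xa18 ya55 za0) (ka xa22 ya57 za50) (ka xa18 ya52 za6) (ka xa27 ya32 za11) (ka xa20 ya45 za22) (ka xa19 ya0 za54) (ka xa28 ya46 za42) (ka xa18 ya51 za60) (ka xa18 ya55 za5) (ka xa18 ya51 za61) (ka xa23 ya54 za41) (ka xa28 ya46 za30) (ka xa27 ya59 za41) (ka xa18 ya52 za2) (ka xa18 ya52 za3) (ka xa18 ya52 za4) (ka xa30 ya47 za25) (ka xa27 ya15 za4) (ka xa28 ya0 za41) (ka xa23 ya59 za56) (ka xa26 ya56 za36) (ka xa26 ya57 za21) (ka xa18 ya52 za8) (ka xa32 ya3 za4) (ka xa23 ya12 za31) (ka xa18 ya55 za55) (ka xa18 ya52 za18) (ka xa25 ya29 za24) (ka xa25 ya29 za21) (ka xa28 ya23 za29) (ka xa25 ya22 za8) (ka xa24 ya11 za18) (ka xa25 ya21 za54) (ka xa18 ya52 za45) (ka xa18 ya52 za46) (ka xa29 ya26 za4) (ka xa31 ya53 za39) (ka xa22 ya16 za35) (ka xa18 ya52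 za50) (ka xa18 ya52 za48) (ka xa31 ya44 za7) (ka xa30 ya47 za59) (ka xa30 ya18 za31) (ka xa19 ya44 za61) (ka xa25 ya10 za6) (ka xa27 ya32 za25) (ka xa23 ya51 za61) (ka xa18 ya53 za2) (ka xa22 ya50 za11) (ka xa28 ya43 za23) (ka xa27 ya52 za39) (ka xa28 ya43 za32) (ka xa31 ya15 za36) (ka xa18 ya53 za12) (ka xa28 ya32 za14) (ka xa26 ya49 za20) (ka xa28 ya22 za26) (ka xa28 ya22 za27) (ka xa28 ya22 za29)) (@D3.rec (fun _ => Pt) (ka xa23 ya52 za13) (ka xa23 ya12 za41) (ka xa28 ya15 za19) (ka xa19 ya12 za42) (ka xa28 ya22 za22) (ka xa25 ya35 za48) (ka xa28 ya15 za57) (ka xa28 ya22 za23) (ka xa27 ya46 za24) (ka xa25 ya0 za18) (ka xa28 ya2 za2) (ka xa29 ya7 za30) (ka xa28 ya15 za16) (ka xa23 ya0 za0) (ka xa28 ya22 za14) (ka xa28 ya22 za15) (ka xa31 ya6 za28) (ka xa24 ya18 za51) (ka xa31 ya6 za29) (ka xa27 ya2 za32) (ka xa30 ya53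 za20) (ka xa30 ya55 za13) (ka xa32 ya33 za54) (ka xa27 ya3 za1) (ka xa31 ya16 za9) (ka xa18 ya53 za40) (ka xa18 ya53 za41) (ka xa30 ya44 za53) (ka xa18 ya53 za43) (ka xa28 ya25 za36) (ka xa28 ya15 za40) (ka xa28 ya25 za35) (ka xa18 ya53 za47) (ka xa27 ya54 za4) (ka xa28 ya15 za31) (ka xa28 ya24 za53) (ka xa19 ya12 za4) (ka xa19 ya12 za7) (ka xa28 ya22 za36) (ka xa27 ya12 za24) (ka xa32 ya32 za58) (ka xa18 ya54 za0) (ka xa18 ya54 za1) (ka xa18 ya54 za2) (ka xa18 ya54 za5) (ka xa28 ya56 za23) (ka xa32 ya32 za53) (ka xa18 ya56 za52) (ka xa32 ya33 za43) (ka xa30 ya53 za34) (ka xa31 ya49 za18) (ka xa30 ya36 za37) (ka xa31 ya59 za42) (ka xa26 ya40 za53) (ka xa32 ya32 za4) (ka xa27 ya3 za7) (ka xa18 ya54 za8) (ka xa28 ya14 za26) (ka xa18 ya54 za9) (ka xa20 ya48 za33) (ka xa32 ya21 za54) (ka xa28 ya46 za10)) (@D3.rec (fun _ =>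 Pt) (ka xa18 ya54 za14) (ka xa22 ya5 za15) (ka xa25 ya24 za1) (ka xa25 ya24 za2) (ka xa28 ya14 za60) (ka xa18 ya54 za20) (ka xa28 ya16 za11) (ka xa28 ya16 za10) (ka xa31 ya14 za7) (ka xa31 ya53 za43) (ka xa27 ya47 za9) (ka xa18 ya56 za1) (ka xa28 ya3 za54) (ka xa18 ya54 za30) (ka xa28 ya21 za14) (ka xa28 ya21 za15) (ka xa23 ya11 za54) (ka xa30 ya24 za32) (ka xa26 ya27 za47) (ka xa18 ya54 za31) (ka xa32 ya10 za25) (ka xa28 ya38 za51) (ka xa28 ya21 za4) (ka xa28 ya21 za7) (ka xa18 ya54 za33) (ka xa30 ya50 za2) (ka xa28 ya20 za59) (ka xa28 ya20 za60) (ka xa28 ya16 za38) (ka xa28 ya20 za61) (ka xa25 ya24 za0) (ka xa18 ya56 za5) (ka xa30 ya28 za1) (ka xa18 ya54 za46) (ka xa30 ya49 za6) (ka xa27 ya15 za32) (ka xa28 ya21 za38) (ka xa27 ya15 za31) (ka xa30 ya56 za5) (ka xa32 ya22 za49) (ka xa30 ya48 za15) (ka xa23 ya12 za1) (ka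 xa24 ya46 za13) (ka xa27 ya50 za17) (ka xa28 ya30 za21) (ka xa27 ya53 za55) (ka xa28 ya14 za42) (ka xa18 ya54 za51) (ka xa28 ya24 za34) (ka xa19 ya27 za27) (ka xa23 ya4 za31) (ka xa24 ya21 za20) (ka xa27 ya15 za2) (ka xa28 ya32 za38) (ka xa18 ya55 za2) (ka xa31 ya39 za33) (ka xa32 ya8 za13) (ka xa31 ya25 za13) (ka xa24 ya6 za33) (ka xa29 ya52 za27) (ka xa22 ya56 za61) (ka xa31 ya32 za45)) (@D3.rec (fun _ => Pt) (ka xa24 ya46 za29) (ka xa24 ya28 za60) (ka xa22 ya53 za16) (ka xa25 ya40 za32) (ka xa28 ya11 za3) (ka xa28 ya11 za5) (ka xa29 ya25 za26) (ka xa20 ya11 za41) (ka xa18 ya55 za9) (ka xa29 ya25 za28) (ka xa28 ya30 za61) (ka xa30 ya43 za1) (ka xa18 ya55 za36) (ka xa18 ya55 za39) (ka xa18 ya55 za15) (ka xa22 ya57 za51) (ka xa23 ya18 za52) (ka xa27 ya50 za51) (ka xa28 ya24 za54) (ka xa28 ya24 za55) (ka xa32 ya29 za23)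 (ka xa18 ya55 za22) (ka xa29 ya28 za30) (ka xa29 ya30 za44) (ka xa32 ya31 za24) (ka xa18 ya55 za28) (ka xa29 ya25 za27) (ka xa18 ya55 za31) (ka xa18 ya55 za32) (ka xa28 ya20 za32) (ka xa18 ya55 za27) (ka xa31 ya53 za21) (ka xa31 ya23 za27) (ka xa28 ya24 za49) (ka xa28 ya24 za51) (ka xa32 ya8 za28) (ka xa29 ya30 za37) (ka xa26 ya25 za58) (ka xa18 ya55 za30) (ka xa30 ya56 za19) (ka xa25 ya11 za36) (ka xa23 ya54 za19) (ka xa25 ya50 za50) (ka xa28 ya47 za56) (ka xa27 ya10 za32) (ka xa23 ya12 za36) (ka xa25 ya53 za27) (ka xa18 ya57 za47) (ka xa30 ya26 za46) (ka xa31 ya57 za9) (ka xa26 ya55 za43) (ka xa30 ya52 za1) (ka xa26 ya57 za20) (ka xa28 ya18 za10) (ka xa31 ya59 za56) (ka xa29 ya39 za20) (ka xa23 ya53 za10) (ka xa28 ya55 za35) (ka xa22 ya54 za24) (ka xa27 ya15 za59) (ka xa25 ya55 za56) (ka xa32 ya2 za61)) (@D3.rec (fun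 _ => Pt) (ka xa23 ya12 za29) (ka xa31 ya48 za59) (ka xa18 ya55 za51) (ka xa23 ya4 za33) (ka xa30 ya15 za21) (ka xa31 ya58 za54) (ka xa30 ya16 za24) (ka xa32 ya33 za34) (ka xa31 ya33 za16) (ka xa28 ya11 za17) (ka xa28 ya18 za24) (ka xa28 ya18 za25) (ka xa28 ya18 za23) (ka xa28 ya18 za26) (ka xa28 ya18 za29) (ka xa22 ya0 za53) (ka xa28 ya18 za33) (ka xa28 ya18 za37) (ka xa28 ya18 za38) (ka xa20 ya47 za55) (ka xa28 ya18 za34) (ka xa23 ya22 za2) (ka xa26 ya58 za12) (ka xa28 ya26 za27) (ka xa26 ya58 za13) (ka xa28 ya26 za29) (ka xa19 ya10 za10) (ka xa19 ya10 za9) (ka xa24 ya7 za59) (ka xa26 ya29 za46) (ka xa28 ya26 za32) (ka xa28 ya26 za36) (ka xa28 ya26 za38) (ka xa28 ya26 za39) (ka xa28 ya22 za48) (ka xa21 ya9 za40) (ka xa18 ya56 za32) (ka xa29 ya25 za30) (ka xa26 ya23 za1) (ka xa21 ya29 za2) (ka xa28 ya10 za53) (ka xa28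 ya11 za1) (ka xa26 ya0 za58) (ka xa30 ya52 za26) (ka xa25 ya39 za14) (ka xa25 ya39 za13) (ka xa31 ya44 za56) (ka xa18 ya56 za57) (ka xa32 ya10 za28) (ka xa28 ya23 za33) (ka xa29 ya42 za13) (ka xa28 ya23 za34) (ka xa19 ya48 za55) (ka xa28 ya21 za35) (ka xa28 ya23 za18) (ka xa28 ya23 za19) (ka xa30 ya47 za43) (ka xa27 ya1 za60) (ka xa25 ya53 za26) (ka xa19 ya52 za56) (ka xa18 ya57 za14) (ka xa28 ya28 za33)) (@D3.rec (fun _ => Pt) (ka xa28 ya28 za34) (ka xa27 ya21 za18) (ka xa29 ya27 za56) (ka xa28 ya9 za36) (ka xa27 ya21 za37) (ka xa27 ya7 za21) (ka xa30 ya1 za49) (ka xa21 ya5 za28) (ka xa25 ya18 za35) (ka xa20 ya41 za0) (ka xa18 ya57 za50) (ka xa29 ya30 za55) (ka xa18 ya57 za36) (ka xa26 ya58 za21) (ka xa24 ya33 za11) (ka xa29 ya27 za45) (ka xa29 ya30 za53) (ka xa22 ya23 za40) (ka xa27 ya59 za57) (ka xa27 ya1 za6) (ka xa27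 ya35 za49) (ka xa27 ya35 za51) (ka xa22 ya33 za41) (ka xa23 ya47 za39) (ka xa23 ya54 za20) (ka xa29 ya30 za38) (ka xa29 ya30 za40) (ka xa29 ya30 za45) (ka xa31 ya16 za55) (ka xa29 ya15 za59) (ka xa23 ya50 za8) (ka xa30 ya34 za38) (ka xa27 ya7 za24) (ka xa19 ya7 za48) (ka xa27 ya45 za58) (ka xa28 ya21 za31) (ka xa28 ya21 za29) (ka xa18 ya58 za11) (ka xa23 ya50 za35) (ka xa28 ya6 za20) (ka xa29 ya54 za32) (ka xa28 ya6 za59) (ka xa31 ya42 za38) (ka xa18 ya58 za20) (ka xa31 ya14 za43) (ka xa27 ya51 za13) (ka xa31 ya15 za5) (ka xa32 ya34 za46) (ka xa22 ya49 za38) (ka xa29 ya54 za18) (ka xa27 ya34 za16) (ka xa31 ya14 za52) (ka xa28 ya9 za27) (ka xa24 ya55 za29) (ka xa18 ya58 za39) (ka xa18 ya58 za40) (ka xa18 ya58 za41) (ka xa18 ya58 za42) (ka xa23 ya53 za27) (ka xa23 ya52 za31) (ka xa23 ya53 za50) (ka xa23 ya14 za5)) (@D3.rec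 (fun _ => Pt) (ka xa23 ya15 za47) (ka xa30 ya59 za55) (ka xa24 ya57 za2) (ka xa29 ya55 za41) (ka xa20 ya32 za44) (ka xa29 ya18 za61) (ka xa28 ya10 za49) (ka xa28 ya10 za50) (ka xa18 ya58 za48) (ka xa27 ya55 za50) (ka xa18 ya58 za49) (ka xa27 ya57 za29) (ka xa28 ya10 za54) (ka xa28 ya10 za58) (ka xa28 ya10 za60) (ka xa26 ya53 za16) (ka xa18 ya59 za6) (ka xa18 ya59 za7) (ka xa18 ya59 za9) (ka xa20 ya7 za50) (ka xa29 ya24 za7) (ka xa19 ya51 za40) (ka xa28 ya17 za21) (ka xa31 ya28 za10) (ka xa24 ya28 za22) (ka xa29 ya19 za30) (ka xa24 ya28 za20) (ka xa28 ya24 za23) (ka xa24 ya9 za35) (ka xa28 ya24 za25) (ka xa28 ya0 za5) (ka xa30 ya44 za45) (ka xa28 ya24 za30) (ka xa26 ya58 za17) (ka xa28 ya0 za42) (ka xa27 ya15 za9) (ka xa28 ya24 za31) (ka xa28 ya28 za31) (ka xa28 ya24 za32) (ka xa28 ya24 za33) (ka xa19 ya12 za31) (ka xa26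 ya19 za58) (ka xa32 ya23 za59) (ka xa18 ya59 za28) (ka xa32 ya20 za28) (ka xa19 ya11 za53) (ka xa19 ya11 za55) (ka xa19 ya7 za36) (ka xa26 ya49 za46) (ka xa26 ya20 za28) (ka xa26 ya20 za30) (ka xa19 ya1 za2) (ka xa27 ya58 za20) (ka xa28 ya28 za19) (ka xa28 ya28 za20) (ka xa28 ya28 za21) (ka xa28 ya28 za22) (ka xa28 ya27 za18) (ka xa28 ya28 za24) (ka xa19 ya49 za3) (ka xa24 ya46 za24) (ka xa18 ya59 za53)) (@D3.rec (fun _ => Pt) (ka xa18 ya59 za54) (ka xa18 ya59 za56) (ka xa18 ya59 za57) (ka xa26 ya29 za33) (ka xa28 ya19 za3) (ka xa23 ya52 za23) (ka xa28 ya12 za18) (ka xa20 ya33 za30) (ka xa26 ya27 za57) (ka xa28 ya27 za20) (ka xa19 ya0 za11) (ka xa26 ya21 za17) (ka xa31 ya44 za3) (ka xa26 ya20 za23) (ka xa23 ya31 za32) (ka xa29 ya54 za24) (ka xa19 ya1 za31) (ka xa23 ya25 za34) (ka xa28 ya26 za57) (ka xa27 ya9 za34) (ka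 xa28 ya27 za9) (ka xa32 ya28 za57) (ka xa28 ya28 za40) (ka xa32 ya30 za5) (ka xa28 ya28 za42) (ka xa28 ya28 za43) (ka xa28 ya28 za44) (ka xa28 ya28 za45) (ka xa31 ya11 za6) (ka xa24 ya42 za13) (ka xa28 ya28 za49) (ka xa24 ya46 za25) (ka xa26 ya29 za30) (ka xa26 ya14 za30) (ka xa25 ya1 za4) (ka xa27 ya56 za13) (ka xa27 ya40 za10) (ka xa32 ya28 za29) (ka xa31 ya46 za36) (ka xa32 ya7 za16) (ka xa32 ya19 za47) (ka xa31 ya8 za10) (ka xa28 ya18 za61) (ka xa31 ya8 za9) (ka xa26 ya12 za25) (ka xa26 ya19 za14) (ka xa27 ya31 za42) (ka xa24 ya28 za13) (ka xa19 ya0 za55) (ka xa32 ya33 za44) (ka xa29 ya24 za6) (ka xa28 ya0 za8) (ka xa28 ya0 za9) (ka xa27 ya58 za37) (ka xa28 ya0 za14) (ka xa28 ya0 za16) (ka xa28 ya0 za17) (ka xa30 ya17 za20) (ka xa31 ya52 za55) (ka xa28 ya0 za23) (ka xa26 ya39 za13) (ka xa19 ya1 za16)) (@D3.rec (fun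 _ => Pt) (ka xa19 ya1 za17) (ka xa19 ya1 za20) (ka xa20 ya51 za0) (ka xa23 ya51 za60) (ka xa29 ya7 za59) (ka xa31 ya38 za60) (ka xa32 ya4 za45) (ka xa23 ya52 za27) (ka xa32 ya8 za43) (ka xa32 ya10 za26) (ka xa30 ya32 za55) (ka xa26 ya17 za47) (ka xa31 ya0 za36) (ka xa23 ya25 za35) (ka xa27 ya57 za59) (ka xa23 ya13 za47) (ka xa26 ya29 za8) (ka xa26 ya30 za17) (ka xa31 ya38 za51) (ka xa28 ya26 za53) (ka xa28 ya26 za54) (ka xa28 ya26 za55) (ka xa28 ya26 za56) (ka xa32 ya34 za59) (ka xa28 ya26 za58) (ka xa24 ya7 za38) (ka xa28 ya11 za13) (ka xa29 ya9 za61) (ka xa22 ya54 za26) (ka xa24 ya18 za29) (ka xa30 ya53 za16) (ka xa28 ya26 za37) (ka xa28 ya12 za43) (ka xa28 ya24 za61) (ka xa28 ya25 za0) (ka xa26 ya16 za8) (ka xa30 ya5 za25) (ka xa31 ya6 za50) (ka xa26 ya21 za8) (ka xa28 ya46 za2) (ka xa28 ya27 za22) (ka xa32 ya29 za46)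 (ka xa28 ya27 za24) (ka xa28 ya27 za25) (ka xa28 ya27 za26) (ka xa28 ya27 za27) (ka xa27 ya54 za45) (ka xa24 ya43 za46) (ka xa31 ya5 za41) (ka xa28 ya27 za30) (ka xa30 ya37 za60) (ka xa19 ya7 za34) (ka xa19 ya8 za26) (ka xa27 ya3 za2) (ka xa19 ya8 za7) (ka xa32 ya35 za3) (ka xa19 ya8 za12) (ka xa32 ya35 za4) (ka xa19 ya8 za14) (ka xa19 ya8 za15) (ka xa19 ya8 za17) (ka xa19 ya8 za22)) (@D3.rec (fun _ => Pt) (ka xa19 ya9 za11) (ka xa19 ya9 za9) (ka xa19 ya2 za50) (ka xa19 ya2 za51) (ka xa19 ya9 za17) (ka xa19 ya9 za16) (ka xa24 ya9 za34) (ka xa28 ya59 za11) (ka xa31 ya18 za51) (ka xa32 ya35 za8) (ka xa31 ya18 za50) (ka xa19 ya9 za1) (ka xa19 ya9 za3) (ka xa19 ya9 za4) (ka xa19 ya9 za6) (ka xa19 ya2 za58) (ka xa19 ya2 za59) (ka xa19 ya8 za57) (ka xa30 ya28 za41) (ka xa29 ya40 za57) (ka xa19 ya9 za26) (ka xa19 ya9 za27) (ka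 xa19 ya9 za28) (ka xa19 ya3 za3) (ka xa28 ya48 za37) (ka xa31 ya31 za43) (ka xa19 ya3 za8) (ka xa19 ya3 za9) (ka xa31 ya21 za0) (ka xa29 ya53 za30) (ka xa22 ya57 za2) (ka xa29 ya37 za14) (ka xa19 ya10 za13) (ka xa32 ya35 za18) (ka xa29 ya4 za15) (ka xa19 ya10 za26) (ka xa19 ya14 za34) (ka xa25 ya14 za48) (ka xa26 ya16 za3) (ka xa19 ya12 za17) (ka xa19 ya12 za14) (ka xa19 ya3 za30) (ka xa29 ya8 za25) (ka xa32 ya33 za55) (ka xa29 ya8 za24) (ka xa19 ya12 za11) (ka xa19 ya12 za1) (ka xa19 ya15 za7) (ka xa19 ya11 za59) (ka xa19 ya3 za36) (ka xa31 ya26 za33) (ka xa32 ya35 za19) (ka xa19 ya12 za33) (ka xa19 ya3 za44) (ka xa19 ya3 za45) (ka xa32 ya35 za23) (ka xa19 ya3 za46) (ka xa19 ya13 za17) (ka xa19 ya13 za18) (ka xa19 ya13 za20) (ka xa31 ya17 za57) (ka xa19 ya3 za52)) (@D3.rec (fun _ => Pt) (ka xa29 ya34 za26) (ka xa19 ya13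 za32) (ka xa31 ya17 za59) (ka xa19 ya13 za35) (ka xa19 ya13 za36) (ka xa32 ya35 za28) (ka xa19 ya13 za38) (ka xa19 ya13 za39) (ka xa19 ya13 za40) (ka xa31 ya30 za48) (ka xa19 ya13 za42) (ka xa19 ya13 za43) (ka xa19 ya13 za44) (ka xa19 ya13 za54) (ka xa19 ya4 za1) (ka xa31 ya27 za29) (ka xa19 ya42 za14) (ka xa31 ya28 za42) (ka xa30 ya23 za12) (ka xa25 ya53 za13) (ka xa26 ya5 za29) (ka xa28 ya22 za44) (ka xa19 ya15 za46) (ka xa19 ya15 za50) (ka xa19 ya15 za51) (ka xa19 ya15 za52) (ka xa19 ya15 za53) (ka xa19 ya15 za54) (ka xa19 ya16 za3) (ka xa19 ya4 za14) (ka xa19 ya16 za1) (ka xa32 ya35 za33) (ka xa19 ya16 za9) (ka xa19 ya16 za10) (ka xa19 ya16 za12) (ka xa19 ya16 za14) (ka xa19 ya16 za15) (ka xa24 ya37 za39) (ka xa19 ya16 za18) (ka xa19 ya16 za19) (ka xa19 ya4 za25) (ka xa29 ya8 za32) (ka xa19 ya52 za47) (ka xa19 ya4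 za30) (ka xa32 ya24 za61) (ka xa29 ya8 za1) (ka xa19 ya18 za19) (ka xa24 ya16 za16) (ka xa19 ya4 za44) (ka xa19 ya19 za11) (ka xa19 ya20 za13) (ka xa19 ya20 za47) (ka xa19 ya20 za9) (ka xa19 ya20 za31) (ka xa19 ya20 za50) (ka xa19 ya20 za28) (ka xa29 ya35 za52) (ka xa19 ya19 za40) (ka xa20 ya56 za20) (ka xa19 ya5 za10) (ka xa19 ya5 za17) (ka xa28 ya23 za10)) (@D3.rec (fun _ => Pt) (ka xa30 ya30 za29) (ka xa19 ya22 za31) (ka xa19 ya22 za33) (ka xa29 ya39 za4) (ka xa19 ya22 za44) (ka xa19 ya22 za45) (ka xa19 ya22 za46) (ka xa19 ya5 za25) (ka xa30 ya26 za49) (ka xa19 ya22 za60) (ka xa29 ya50 za20) (ka xa19 ya5 za40) (ka xa25 ya41 za60) (ka xa24 ya42 za20) (ka xa28 ya31 za23) (ka xa25 ya58 za21) (ka xa19 ya23 za42) (ka xa20 ya14 za28) (ka xa28 ya31 za31) (ka xa28 ya31 za33) (ka xa28 ya31 za42) (ka xa23 ya30 za53) (ka xa27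 ya39 za11) (ka xa28 ya31 za14) (ka xa25 ya40 za59) (ka xa21 ya8 za47) (ka xa21 ya2 za13) (ka xa32 ya3 za12) (ka xa24 ya22 za14) (ka xa19 ya41 za9) (ka xa31 ya41 za57) (ka xa28 ya31 za18) (ka xa27 ya43 za43) (ka xa28 ya31 za19) (ka xa24 ya33 za21) (ka xa24 ya48 za61) (ka xa24 ya48 za60) (ka xa19 ya6 za9) (ka xa31 ya40 za55) (ka xa24 ya27 za17) (ka xa24 ya52 za10) (ka xa24 ya32 za51) (ka xa28 ya31 za20) (ka xa24 ya52 za48) (ka xa27 ya47 za49) (ka xa19 ya6 za19) (ka xa19 ya6 za20) (ka xa26 ya31 za39) (ka xa28 ya7 za2) (ka xa27 ya55 za23) (ka xa23 ya37 za60) (ka xa26 ya30 za13) (ka xa31 ya39 za27) (ka xa26 ya30 za41) (ka xa31 ya56 za6) (ka xa28 ya6 za14) (ka xa26 ya30 za48) (ka xa29 ya53 za9) (ka xa31 ya39 za15) (ka xa26 ya31 za28) (ka xa25 ya1 za0) (ka xa23 ya9 za20)) (@D3.rec (fun _ => Pt) (ka xa32 ya7 za56) (ka xa32 ya28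 za32) (ka xa30 ya59 za53) (ka xa32 ya7 za49) (ka xa32 ya29 za44) (ka xa27 ya53 za57) (ka xa32 ya29 za1) (ka xa27 ya55 za15) (ka xa31 ya46 za25) (ka xa30 ya53 za23) (ka xa27 ya15 za43) (ka xa27 ya15 za44) (ka xa28 ya16 za6) (ka xa31 ya25 za21) (ka xa28 ya20 za57) (ka xa32 ya9 za14) (ka xa27 ya43 za7) (ka xa30 ya12 za43) (ka xa30 ya12 za44) (ka xa30 ya12 za45) (ka xa21 ya24 za15) (ka xa28 ya47 za40) (ka xa29 ya44 za52) (ka xa29 ya44 za53) (ka xa25 ya48 za13) (ka xa27 ya15 za38) (ka xa31 ya27 za17) (ka xa27 ya23 za54) (ka xa19 ya6 za61) (ka xa19 ya7 za0) (ka xa26 ya27 za43) (ka xa27 ya9 za32) (ka xa26 ya50 za41) (ka xa28 ya19 za2) (ka xa28 ya33 za41) (ka xa28 ya33 za42) (ka xa28 ya13 za5) (ka xa19 ya12 za24) (ka xa28 ya22 za53) (ka xa32 ya15 za17) (ka xa24 ya12 za44) (ka xa27 ya14 za8) (ka xa26 ya52 za44) (ka xa25 ya16 za42)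 (ka xa26 ya22 za25) (ka xa20 ya56 za3) (ka xa21 ya49 za36) (ka xa24 ya38 za56) (ka xa19 ya7 za18) (ka xa31 ya59 za24) (ka xa19 ya7 za19) (ka xa30 ya44 za6) (ka xa23 ya53 za36) (ka xa25 ya50 za22) (ka xa27 ya23 za57) (ka xa30 ya47 za14) (ka xa28 ya56 za7) (ka xa32 ya9 za8) (ka xa32 ya31 za57) (ka xa25 ya50 za19) (ka xa30 ya38 za7) (ka xa30 ya38 za6)) (@D3.rec (fun _ => Pt) (ka xa30 ya50 za4) (ka xa19 ya7 za30) (ka xa32 ya35 za57) (ka xa31 ya29 za57) (ka xa31 ya29 za61) (ka xa32 ya35 za61) (ka xa31 ya29 za58) (ka xa31 ya29 za59) (ka xa31 ya30 za1) (ka xa31 ya30 za0) (ka xa29 ya37 za1) (ka xa19 ya7 za35) (ka xa32 ya20 za26) (ka xa30 ya30 za42) (ka xa19 ya8 za48) (ka xa21 ya23 za51) (ka xa20 ya20 za38) (ka xa21 ya26 za24) (ka xa25 ya7 za19) (ka xa27 ya23 za52) (ka xa29 ya44 za25) (ka xa27 ya23 za49) (ka xa27 ya23 za50) (ka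 xa32 ya1 za3) (ka xa19 ya27 za10) (ka xa19 ya14 za22) (ka xa19 ya8 za2) (ka xa26 ya42 za44) (ka xa21 ya53 za25) (ka xa21 ya53 za26) (ka xa30 ya51 za8) (ka xa30 ya44 za17) (ka xa31 ya51 za29) (ka xa32 ya33 za61) (ka xa30 ya36 za14) (ka xa28 ya38 za55) (ka xa28 ya38 za54) (ka xa19 ya8 za3) (ka xa19 ya8 za5) (ka xa32 ya19 za59) (ka xa29 ya2 za56) (ka xa28 ya32 za34) (ka xa28 ya32 za35) (ka xa20 ya36 za42) (ka xa26 ya52 za37) (ka xa28 ya53 za32) (ka xa31 ya25 za10) (ka xa31 ya0 za29) (ka xa19 ya8 za11) (ka xa30 ya36 za41) (ka xa31 ya56 za33) (ka xa26 ya56 za56) (ka xa19 ya8 za13) (ka xa32 ya36 za5) (ka xa31 ya50 za34) (ka xa32 ya35 za6) (ka xa23 ya12 za34) (ka xa31 ya22 za52) (ka xa28 ya34 za41) (ka xa28 ya38 za18) (ka xa25 ya40 za18) (ka xa26 ya46 za17)) (@D3.rec (fun _ => Pt) (ka xa25 ya40 za20) (ka xa28 ya37 za28) (ka xa28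 ya38 za15) (ka xa19 ya8 za21) (ka xa26 ya28 za34) (ka xa31 ya31 za45) (ka xa28 ya59 za25) (ka xa27 ya23 za51) (ka xa26 ya9 za12) (ka xa19 ya8 za31) (ka xa19 ya8 za32) (ka xa32 ya0 za19) (ka xa23 ya8 za24) (ka xa27 ya10 za1) (ka xa21 ya11 za21) (ka xa26 ya54 za59) (ka xa24 ya24 za27) (ka xa31 ya25 za28) (ka xa32 ya7 za39) (ka xa32 ya12 za46) (ka xa31 ya25 za27) (ka xa19 ya8 za39) (ka xa32 ya12 za42) (ka xa19 ya8 za41) (ka xa29 ya33 za11) (ka xa28 ya39 za28) (ka xa30 ya22 za36) (ka xa29 ya53 za31) (ka xa30 ya36 za7) (ka xa28 ya19 za45) (ka xa25 ya7 za20) (ka xa30 ya26 za25) (ka xa19 ya8 za61) (ka xa31 ya28 za6) (ka xa31 ya36 za49) (ka xa30 ya24 za33) (ka xa31 ya43 za23) (ka xa31 ya36 za50) (ka xa28 ya58 za22) (ka xa26 ya28 za39) (ka xa28 ya37 za29) (ka xa28 ya33 za58) (ka xa25 ya40 za6) (ka xa28 ya37 za26) (ka xa28 ya37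 za27) (ka xa29 ya28 za24) (ka xa32 ya35 za7) (ka xa25 ya7 za7) (ka xa24 ya7 za28) (ka xa24 ya7 za29) (ka xa32 ya30 za60) (ka xa29 ya28 za23) (ka xa19 ya9 za20) (ka xa19 ya9 za22) (ka xa19 ya9 za23) (ka xa30 ya39 za12) (ka xa32 ya35 za9) (ka xa32 ya18 za54) (ka xa26 ya25 za55) (ka xa24 ya8 za56) (ka xa20 ya32 za49) (ka xa24 ya8 za27)) (@D3.rec (fun _ => Pt) (ka xa24 ya9 za32) (ka xa24 ya8 za25) (ka xa29 ya15 za12) (ka xa26 ya35 za51) (ka xa29 ya36 za2) (ka xa29 ya53 za27) (ka xa26 ya1 za61) (ka xa31 ya32 za32) (ka xa32 ya36 za10) (ka xa22 ya27 za16) (ka xa29 ya34 za2) (ka xa29 ya40 za56) (ka xa30 ya30 za22) (ka xa29 ya2 za3) (ka xa32 ya35 za14) (ka xa32 ya35 za15) (ka xa32 ya35 za16) (ka xa32 ya36 za19) (ka xa32 ya12 za35) (ka xa28 ya40 za7) (ka xa28 ya40 za8) (ka xa30 ya23 za61) (ka xa31 ya32 za6) (ka xa19 ya9 za43) (ka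 xa32 ya24 za45) (ka xa32 ya18 za53) (ka xa32 ya2 za6) (ka xa31 ya32 za7) (ka xa28 ya55 za33) (ka xa32 ya3 za1) (ka xa26 ya28 za37) (ka xa26 ya56 za41) (ka xa19 ya9 za47) (ka xa32 ya35 za13) (ka xa29 ya35 za7) (ka xa30 ya24 za1) (ka xa19 ya9 za54) (ka xa32 ya28 za27) (ka xa19 ya9 za57) (ka xa19 ya10 za2) (ka xa19 ya10 za3) (ka xa19 ya9 za52) (ka xa30 ya24 za3) (ka xa24 ya9 za3) (ka xa30 ya26 za16) (ka xa19 ya9 za55) (ka xa29 ya29 za26) (ka xa32 ya36 za27) (ka xa23 ya53 za19) (ka xa29 ya1 za58) (ka xa30 ya49 za44) (ka xa29 ya1 za57) (ka xa24 ya7 za26) (ka xa27 ya10 za36) (ka xa27 ya3 za13) (ka xa30 ya24 za14) (ka xa23 ya53 za38) (ka xa31 ya15 za38) (ka xa29 ya1 za55) (ka xa19 ya22 za21) (ka xa21 ya49 za46) (ka xa30 ya51 za22)) (@D3.rec (fun _ => Pt) (ka xa29 ya31 za44) (ka xa30 ya48 za56) (ka xa32 ya30 za49) (ka xa28 ya37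 za53) (ka xa32 ya31 za58) (ka xa29 ya2 za4) (ka xa32 ya31 za59) (ka xa27 ya16 za48) (ka xa30 ya49 za46) (ka xa32 ya33 za25) (ka xa22 ya38 za32) (ka xa32 ya31 za55) (ka xa31 ya0 za12) (ka xa32 ya31 za51) (ka xa25 ya50 za21) (ka xa31 ya55 za18) (ka xa32 ya31 za52) (ka xa31 ya25 za16) (ka xa32 ya31 za53) (ka xa32 ya31 za54) (ka xa31 ya10 za2) (ka xa19 ya10 za19) (ka xa31 ya56 za8) (ka xa32 ya29 za17) (ka xa25 ya47 za54) (ka xa24 ya7 za3) (ka xa19 ya10 za23) (ka xa32 ya22 za44) (ka xa30 ya24 za49) (ka xa24 ya7 za60) (ka xa32 ya8 za38) (ka xa32 ya27 za41) (ka xa29 ya21 za37) (ka xa26 ya45 za6) (ka xa25 ya48 za0) (ka xa27 ya9 za0) (ka xa26 ya31 za41) (ka xa27 ya36 za6) (ka xa25 ya12 za27) (ka xa27 ya36 za5) (ka xa28 ya44 za53) (ka xa28 ya41 za27) (ka xa26 ya22 za34) (ka xa19 ya10 za40) (ka xa20 ya42 za9) (ka xa28 ya36 za55)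 (ka xa26 ya41 za52) (ka xa24 ya19 za7) (ka xa25 ya14 za40) (ka xa23 ya43 za18) (ka xa24 ya34 za18) (ka xa27 ya38 za30) (ka xa23 ya43 za19) (ka xa27 ya36 za55) (ka xa27 ya36 za57) (ka xa28 ya36 za45) (ka xa27 ya36 za53) (ka xa21 ya50 za50) (ka xa27 ya36 za54) (ka xa31 ya34 za25) (ka xa19 ya11 za11) (ka xa32 ya36 za37)) (@D3.rec (fun _ => Pt) (ka xa30 ya18 za53) (ka xa25 ya21 za48) (ka xa25 ya21 za46) (ka xa25 ya19 za44) (ka xa25 ya19 za43) (ka xa19 ya11 za14) (ka xa25 ya7 za5) (ka xa26 ya9 za58) (ka xa25 ya21 za28) (ka xa25 ya21 za44) (ka xa25 ya21 za45) (ka xa25 ya21 za47) (ka xa27 ya10 za47) (ka xa28 ya50 za28) (ka xa19 ya11 za22) (ka xa31 ya20 za59) (ka xa23 ya12 za30) (ka xa32 ya24 za4) (ka xa31 ya58 za11) (ka xa19 ya11 za28) (ka xa30 ya24 za13) (ka xa31 ya58 za7) (ka xa31 ya58 za10) (ka xa19 ya11 za30) (ka xa31 ya58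 za5) (ka xa32 ya36 za45) (ka xa28 ya34 za43) (ka xa28 ya34 za44) (ka xa28 ya34 za1) (ka xa28 ya34 za40) (ka xa23 ya12 za43) (ka xa30 ya56 za24) (ka xa19 ya11 za44) (ka xa26 ya43 za38) (ka xa27 ya6 za11) (ka xa23 ya48 za39) (ka xa31 ya49 za25) (ka xa30 ya18 za20) (ka xa21 ya54 za14) (ka xa32 ya18 za26) (ka xa19 ya52 za26) (ka xa29 ya48 za9) (ka xa28 ya45 za29) (ka xa28 ya45 za3) (ka xa30 ya22 za53) (ka xa19 ya11 za49) (ka xa29 ya36 za55) (ka xa31 ya30 za5) (ka xa19 ya11 za51) (ka xa26 ya54 za16) (ka xa23 ya48 za8) (ka xa30 ya22 za35) (ka xa32 ya17 za31) (ka xa28 ya36 za3) (ka xa23 ya52 za53) (ka xa28 ya47 za31) (ka xa27 ya15 za8) (ka xa29 ya16 za25) (ka xa31 ya59 za19) (ka xa26 ya40 za55) (ka xa26 ya40 za56) (ka xa26 ya41 za49)) (@D3.rec (fun _ => Pt) (ka xa31 ya36 za4) (ka xa31 ya59 za18) (ka xa32 ya33 za36) (ka xa19 ya12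 za6) (ka xa19 ya12 za8) (ka xa27 ya49 za33) (ka xa20 ya10 za52) (ka xa21 ya16 za53) (ka xa29 ya16 za30) (ka xa31 ya0 za19) (ka xa32 ya36 za55) (ka xa32 ya33 za56) (ka xa32 ya24 za37) (ka xa32 ya1 za52) (ka xa32 ya33 za57) (ka xa28 ya34 za2) (ka xa32 ya28 za6) (ka xa31 ya57 za6) (ka xa28 ya33 za59) (ka xa29 ya19 za34) (ka xa31 ya38 za56) (ka xa31 ya58 za14) (ka xa31 ya58 za15) (ka xa19 ya12 za22) (ka xa19 ya12 za23) (ka xa19 ya12 za26) (ka xa20 ya29 za42) (ka xa32 ya9 za31) (ka xa30 ya44 za57) (ka xa32 ya36 za59) (ka xa32 ya36 za60) (ka xa32 ya33 za42) (ka xa28 ya51 za47) (ka xa29 ya8 za34) (ka xa31 ya18 za6) (ka xa28 ya56 za9) (ka xa29 ya8 za33) (ka xa32 ya35 za59) (ka xa32 ya35 za58) (ka xa32 ya36 za61) (ka xa23 ya6 za57) (ka xa28 ya43 za26) (ka xa28 ya43 za28) (ka xa30 ya23 za43) (ka xa31 ya10 za50) (ka xa32 ya27 za29)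 (ka xa19 ya12 za38) (ka xa26 ya35 za19) (ka xa24 ya49 za40) (ka xa31 ya18 za10) (ka xa26 ya52 za41) (ka xa28 ya22 za21) (ka xa32 ya37 za12) (ka xa25 ya40 za36) (ka xa28 ya33 za36) (ka xa28 ya33 za35) (ka xa26 ya35 za28) (ka xa30 ya38 za35) (ka xa19 ya12 za57) (ka xa19 ya13 za2) (ka xa19 ya13 za3) (ka xa24 ya49 za43)) (@D3.rec (fun _ => Pt) (ka xa31 ya31 za6) (ka xa31 ya12 za48) (ka xa31 ya23 za33) (ka xa31 ya26 za38) (ka xa26 ya35 za45) (ka xa29 ya32 za11) (ka xa32 ya18 za31) (ka xa24 ya8 za37) (ka xa30 ya50 za18) (ka xa20 ya14 za48) (ka xa23 ya53 za32) (ka xa30 ya11 za49) (ka xa29 ya18 za47) (ka xa31 ya38 za57) (ka xa32 ya35 za25) (ka xa29 ya39 za55) (ka xa26 ya46 za22) (ka xa28 ya44 za9) (ka xa31 ya39 za9) (ka xa26 ya39 za1) (ka xa20 ya38 za43) (ka xa31 ya23 za52) (ka xa30 ya46 za11) (ka xa29 ya40 za34) (ka xa19 ya13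 za24) (ka xa29 ya34 za27) (ka xa31 ya29 za46) (ka xa26 ya36 za23) (ka xa28 ya34 za25) (ka xa32 ya35 za27) (ka xa26 ya36 za6) (ka xa19 ya13 za29) (ka xa19 ya13 za30) (ka xa28 ya44 za17) (ka xa28 ya44 za19) (ka xa28 ya50 za10) (ka xa30 ya35 za9) (ka xa29 ya8 za23) (ka xa26 ya36 za11) (ka xa19 ya13 za34) (ka xa32 ya37 za26) (ka xa28 ya40 za2) (ka xa27 ya36 za3) (ka xa32 ya35 za30) (ka xa26 ya51 za51) (ka xa31 ya12 za41) (ka xa26 ya51 za52) (ka xa19 ya13 za37) (ka xa32 ya22 za56) (ka xa29 ya47 za17) (ka xa31 ya30 za47) (ka xa32 ya13 za49) (ka xa19 ya13 za41) (ka xa32 ya37 za35) (ka xa31 ya30 za45) (ka xa26 ya36 za30) (ka xa32 ya11 za18) (ka xa31 ya24 za52) (ka xa31 ya30 za50) (ka xa29 ya40 za27) (ka xa31 ya39 za58) (ka xa23 ya59 za47)) (@D3.rec (fun _ => Pt) (ka xa19 ya13 za45) (ka xa32 ya36 za13) (ka xa28 ya39 za41) (ka xa29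 ya40 za9) (ka xa31 ya34 za58) (ka xa28 ya51 za16) (ka xa31 ya31 za35) (ka xa28 ya35 za19) (ka xa28 ya35 za20) (ka xa32 ya37 za48) (ka xa27 ya0 za3) (ka xa26 ya36 za31) (ka xa32 ya37 za50) (ka xa20 ya23 za60) (ka xa27 ya0 za11) (ka xa27 ya0 za13) (ka xa27 ya0 za14) (ka xa29 ya46 za17) (ka xa29 ya46 za21) (ka xa19 ya13 za60) (ka xa31 ya55 za33) (ka xa19 ya14 za5) (ka xa19 ya14 za1) (ka xa32 ya13 za9) (ka xa26 ya35 za13) (ka xa19 ya14 za4) (ka xa26 ya35 za47) (ka xa26 ya35 za44) (ka xa32 ya36 za14) (ka xa26 ya36 za12) (ka xa29 ya33 za20) (ka xa20 ya39 za41) (ka xa29 ya46 za7) (ka xa29 ya46 za6) (ka xa29 ya46 za8) (ka xa29 ya46 za15) (ka xa19 ya14 za14) (ka xa29 ya4 za3) (ka xa26 ya38 za16) (ka xa20 ya58 za55) (ka xa25 ya21 za37) (ka xa25 ya21 za38) (ka xa25 ya21 za39) (ka xa25 ya21 za40) (ka xa26 ya38 za55) (ka xa29 ya46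 za1) (ka xa24 ya26 za36) (ka xa32 ya36 za4) (ka xa29 ya46 za3) (ka xa29 ya46 za4) (ka xa26 ya48 za29) (ka xa19 ya14 za53) (ka xa19 ya14 za54) (ka xa19 ya14 za55) (ka xa28 ya43 za45) (ka xa28 ya43 za46) (ka xa27 ya44 za54) (ka xa30 ya49 za36) (ka xa28 ya43 za43) (ka xa28 ya43 za44) (ka xa31 ya28 za59) (ka xa19 ya14 za41)) (@D3.rec (fun _ => Pt) (ka xa19 ya14 za45) (ka xa31 ya32 za52) (ka xa23 ya33 za22) (ka xa31 ya32 za54) (ka xa28 ya11 za38) (ka xa30 ya58 za0) (ka xa30 ya57 za61) (ka xa32 ya35 za24) (ka xa31 ya12 za24) (ka xa29 ya51 za21) (ka xa25 ya15 za4) (ka xa25 ya41 za22) (ka xa29 ya1 za3) (ka xa30 ya6 za38) (ka xa25 ya34 za54) (ka xa28 ya12 za28) (ka xa23 ya46 za59) (ka xa23 ya2 za41) (ka xa31 ya12 za12) (ka xa26 ya1 za51) (ka xa24 ya40 za59) (ka xa26 ya14 za21) (ka xa29 ya57 za51) (ka xa27 ya27 za20) (ka xa27 ya28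 za9) (ka xa27 ya35 za61) (ka xa26 ya19 za37) (ka xa28 ya36 za41) (ka xa19 ya57 za31) (ka xa24 ya20 za0) (ka xa28 ya1 za26) (ka xa30 ya27 za49) (ka xa24 ya31 za49) (ka xa31 ya29 za55) (ka xa28 ya43 za48) (ka xa27 ya46 za26) (ka xa28 ya43 za47) (ka xa31 ya28 za61) (ka xa19 ya15 za32) (ka xa19 ya15 za34) (ka xa19 ya15 za27) (ka xa31 ya32 za53) (ka xa28 ya44 za5) (ka xa26 ya12 za2) (ka xa32 ya28 za13) (ka xa27 ya27 za37) (ka xa25 ya49 za54) (ka xa24 ya11 za16) (ka xa19 ya15 za36) (ka xa25 ya37 za49) (ka xa29 ya0 za49) (ka xa23 ya9 za48) (ka xa31 ya21 za57) (ka xa24 ya11 za38) (ka xa24 ya5 za3) (ka xa25 ya11 za50) (ka xa23 ya48 za19) (ka xa28 ya47 za0) (ka xa28 ya47 za1) (ka xa20 ya3 za48) (ka xa31 ya48 za45) (ka xa29 ya41 za46)) (@D3.rec (fun _ => Pt) (ka xa29 ya12 za39) (ka xa31 ya49 za17) (ka xa31 ya58 za27) (ka xa32 ya33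 za49) (ka xa31 ya55 za34) (ka xa19 ya28 za18) (ka xa19 ya16 za8) (ka xa28 ya42 za30) (ka xa25 ya33 za41) (ka xa21 ya17 za1) (ka xa32 ya35 za34) (ka xa23 ya11 za27) (ka xa32 ya35 za35) (ka xa23 ya56 za37) (ka xa19 ya16 za11) (ka xa29 ya33 za38) (ka xa23 ya56 za35) (ka xa29 ya49 za29) (ka xa25 ya28 za16) (ka xa25 ya6 za15) (ka xa29 ya57 za9) (ka xa25 ya34 za59) (ka xa19 ya16 za16) (ka xa29 ya0 za8) (ka xa25 ya34 za57) (ka xa32 ya35 za36) (ka xa19 ya33 za32) (ka xa29 ya1 za22) (ka xa31 ya28 za47) (ka xa19 ya16 za20) (ka xa28 ya42 za7) (ka xa26 ya43 za14) (ka xa19 ya16 za24) (ka xa26 ya36 za47) (ka xa20 ya31 za56) (ka xa25 ya33 za34) (ka xa31 ya21 za33) (ka xa25 ya13 za5) (ka xa29 ya2 za14) (ka xa28 ya50 za29) (ka xa26 ya3 za28) (ka xa21 ya28 za7) (ka xa19 ya16 za47) (ka xa19 ya16 za48) (ka xa25 ya34 za43) (ka xa21 ya43 za24)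 (ka xa32 ya32 za44) (ka xa23 ya40 za54) (ka xa25 ya42 za2) (ka xa25 ya42 za58) (ka xa26 ya18 za0) (ka xa19 ya16 za55) (ka xa28 ya12 za35) (ka xa24 ya30 za47) (ka xa32 ya3 za10) (ka xa25 ya39 za22) (ka xa29 ya11 za37) (ka xa21 ya23 za59) (ka xa19 ya19 za30) (ka xa19 ya17 za9) (ka xa19 ya17 za10) (ka xa21 ya26 za55)) (@D3.rec (fun _ => Pt) (ka xa25 ya59 za8) (ka xa24 ya15 za36) (ka xa27 ya19 za34) (ka xa27 ya19 za35) (ka xa28 ya14 za22) (ka xa19 ya51 za30) (ka xa19 ya17 za35) (ka xa19 ya52 za42) (ka xa27 ya12 za4) (ka xa19 ya50 za52) (ka xa19 ya17 za53) (ka xa19 ya17 za55) (ka xa19 ya17 za56) (ka xa19 ya17 za47) (ka xa24 ya50 za39) (ka xa26 ya56 za48) (ka xa27 ya19 za27) (ka xa26 ya23 za42) (ka xa30 ya37 za59) (ka xa24 ya19 za49) (ka xa19 ya39 za39) (ka xa19 ya41 za57) (ka xa32 ya33 za6) (ka xa28 ya20 za52) (ka xa31 ya51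 za33) (ka xa26 ya54 za7) (ka xa28 ya38 za41) (ka xa20 ya38 za2) (ka xa28 ya38 za42) (ka xa28 ya18 za58) (ka xa19 ya18 za3) (ka xa27 ya33 za40) (ka xa28 ya20 za54) (ka xa24 ya46 za4) (ka xa19 ya59 za49) (ka xa21 ya54 za23) (ka xa19 ya18 za17) (ka xa29 ya8 za51) (ka xa29 ya8 za57) (ka xa31 ya36 za51) (ka xa27 ya22 za19) (ka xa19 ya18 za26) (ka xa19 ya18 za27) (ka xa28 ya40 za58) (ka xa28 ya40 za59) (ka xa28 ya40 za54) (ka xa28 ya40 za55) (ka xa28 ya41 za36) (ka xa28 ya41 za34) (ka xa32 ya35 za37) (ka xa32 ya38 za20) (ka xa31 ya0 za46) (ka xa30 ya24 za42) (ka xa29 ya22 za5) (ka xa30 ya3 za3) (ka xa31 ya6 za18) (ka xa19 ya18 za32) (ka xa29 ya52 za32) (ka xa29 ya26 za36) (ka xa24 ya29 za18) (ka xa23 ya49 za29) (ka xa24 ya55 za26)) (@D3.rec (fun _ => Pt) (ka xa19 ya18 za52) (ka xa19 ya50 za58) (ka xa29 ya39 za18) (ka xa26 ya11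 za61) (ka xa22 ya40 za0) (ka xa28 ya41 za42) (ka xa32 ya28 za10) (ka xa19 ya18 za53) (ka xa24 ya47 za33) (ka xa28 ya39 za17) (ka xa25 ya58 za0) (ka xa27 ya59 za25) (ka xa19 ya18 za60) (ka xa30 ya39 za9) (ka xa29 ya2 za55) (ka xa29 ya2 za53) (ka xa30 ya28 za12) (ka xa28 ya39 za33) (ka xa31 ya31 za44) (ka xa28 ya39 za34) (ka xa26 ya59 za34) (ka xa29 ya45 za3) (ka xa19 ya19 za17) (ka xa32 ya38 za25) (ka xa23 ya59 za38) (ka xa19 ya19 za19) (ka xa26 ya41 za26) (ka xa19 ya19 za26) (ka xa19 ya19 za22) (ka xa31 ya26 za12) (ka xa29 ya49 za14) (ka xa26 ya38 za52) (ka xa19 ya19 za23) (ka xa20 ya38 za34) (ka xa26 ya38 za51) (ka xa19 ya19 za25) (ka xa32 ya23 za6) (ka xa32 ya13 za33) (ka xa24 ya22 za47) (ka xa24 ya22 za48) (ka xa19 ya20 za44) (ka xa19 ya22 za18) (ka xa20 ya15 za27) (ka xa28 ya57 za6) (ka xa25 ya55 za55) (ka xa19 ya23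 za14) (ka xa19 ya23 za15) (ka xa29 ya18 za37) (ka xa31 ya45 za40) (ka xa25 ya43 za53) (ka xa21 ya31 za48) (ka xa19 ya35 za10) (ka xa27 ya36 za0) (ka xa28 ya36 za40) (ka xa27 ya35 za60) (ka xa27 ya50 za49) (ka xa21 ya25 za54) (ka xa20 ya53 za60) (ka xa22 ya6 za23) (ka xa29 ya40 za35) (ka xa31 ya18 za48) (ka xa28 ya57 za56)) (@D3.rec (fun _ => Pt) (ka xa30 ya22 za50) (ka xa30 ya54 za21) (ka xa26 ya53 za47) (ka xa28 ya37 za43) (ka xa20 ya38 za14) (ka xa19 ya23 za52) (ka xa25 ya11 za59) (ka xa32 ya17 za43) (ka xa29 ya2 za44) (ka xa24 ya7 za6) (ka xa19 ya23 za19) (ka xa32 ya13 za5) (ka xa31 ya41 za45) (ka xa32 ya27 za3) (ka xa32 ya10 za33) (ka xa31 ya29 za28) (ka xa24 ya19 za17) (ka xa31 ya52 za51) (ka xa31 ya36 za53) (ka xa25 ya20 za49) (ka xa31 ya23 za57) (ka xa31 ya21 za26) (ka xa31 ya36 za55) (ka xa31 ya19 za40) (ka xa27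 ya37 za18) (ka xa32 ya29 za20) (ka xa25 ya49 za18) (ka xa30 ya44 za49) (ka xa27 ya37 za17) (ka xa28 ya37 za42) (ka xa32 ya35 za40) (ka xa32 ya35 za41) (ka xa25 ya11 za6) (ka xa31 ya18 za49) (ka xa22 ya33 za45) (ka xa23 ya49 za0) (ka xa23 ya49 za1) (ka xa27 ya22 za12) (ka xa31 ya31 za5) (ka xa32 ya29 za40) (ka xa19 ya20 za52) (ka xa19 ya20 za55) (ka xa20 ya10 za58) (ka xa23 ya47 za53) (ka xa21 ya9 za11) (ka xa22 ya6 za25) (ka xa22 ya51 za39) (ka xa28 ya46 za12) (ka xa28 ya46 za11) (ka xa28 ya19 za58) (ka xa24 ya4 za53) (ka xa24 ya28 za38) (ka xa30 ya53 za52) (ka xa20 ya31 za53) (ka xa20 ya32 za1) (ka xa23 ya53 za44) (ka xa19 ya21 za43) (ka xa26 ya17 za22) (ka xa30 ya35 za51) (ka xa29 ya19 za32) (ka xa31 ya29 za27) (ka xa19 ya22 za6)) (@D3.rec (fun _ => Pt) (ka xa19 ya21 za38) (ka xa26 ya17 za28) (ka xa28 ya28 za39) (ka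 xa32 ya31 za9) (ka xa32 ya25 za58) (ka xa30 ya12 za2) (ka xa31 ya29 za26) (ka xa19 ya42 za23) (ka xa32 ya32 za54) (ka xa19 ya21 za41) (ka xa28 ya21 za61) (ka xa28 ya45 za48) (ka xa28 ya45 za47) (ka xa32 ya15 za22) (ka xa30 ya25 za38) (ka xa30 ya28 za32) (ka xa30 ya25 za37) (ka xa30 ya30 za18) (ka xa31 ya12 za32) (ka xa22 ya18 za49) (ka xa32 ya2 za46) (ka xa27 ya22 za0) (ka xa24 ya11 za34) (ka xa26 ya16 za1) (ka xa19 ya21 za52) (ka xa29 ya24 za59) (ka xa32 ya38 za40) (ka xa29 ya1 za24) (ka xa19 ya52 za13) (ka xa30 ya36 za34) (ka xa28 ya20 za14) (ka xa32 ya31 za11) (ka xa30 ya35 za17) (ka xa19 ya22 za4) (ka xa32 ya27 za38) (ka xa24 ya8 za40) (ka xa31 ya13 za59) (ka xa32 ya21 za40) (ka xa23 ya48 za41) (ka xa22 ya58 za34) (ka xa23 ya20 za17) (ka xa29 ya54 za49) (ka xa28 ya20 za9) (ka xa30 ya14 za44) (ka xa31 ya32 za28) (ka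 xa27 ya8 za29) (ka xa19 ya41 za18) (ka xa19 ya22 za29) (ka xa22 ya35 za13) (ka xa20 ya38 za38) (ka xa32 ya33 za27) (ka xa31 ya42 za19) (ka xa19 ya22 za39) (ka xa19 ya22 za41) (ka xa32 ya38 za45) (ka xa27 ya54 za10) (ka xa32 ya7 za60) (ka xa31 ya15 za27) (ka xa29 ya20 za28) (ka xa29 ya1 za6) (ka xa31 ya20 za50) (ka xa31 ya15 za28)) (@D3.rec (fun _ => Pt) (ka xa28 ya41 za57) (ka xa28 ya41 za58) (ka xa31 ya45 za35) (ka xa26 ya43 za15) (ka xa23 ya35 za52) (ka xa25 ya42 za45) (ka xa27 ya3 za48) (ka xa19 ya22 za54) (ka xa24 ya38 za47) (ka xa29 ya36 za56) (ka xa24 ya13 za10) (ka xa31 ya16 za38) (ka xa32 ya38 za51) (ka xa31 ya10 za1) (ka xa32 ya23 za16) (ka xa32 ya23 za17) (ka xa28 ya7 za34) (ka xa19 ya23 za3) (ka xa32 ya35 za43) (ka xa23 ya56 za28) (ka xa32 ya29 za19) (ka xa28 ya9 za20) (ka xa22 ya12 za44) (ka xa20 ya23 za52)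 (ka xa32 ya19 za60) (ka xa31 ya32 za16) (ka xa29 ya38 za60) (ka xa26 ya53 za22) (ka xa20 ya48 za37) (ka xa23 ya59 za0) (ka xa24 ya19 za50) (ka xa28 ya37 za55) (ka xa29 ya12 za36) (ka xa23 ya11 za29) (ka xa24 ya10 za55) (ka xa32 ya15 za18) (ka xa26 ya34 za4) (ka xa27 ya21 za59) (ka xa20 ya12 za2) (ka xa19 ya29 za31) (ka xa28 ya32 za21) (ka xa20 ya58 za12) (ka xa29 ya48 za4) (ka xa29 ya21 za10) (ka xa29 ya48 za7) (ka xa29 ya38 za20) (ka xa27 ya4 za60) (ka xa19 ya30 za16) (ka xa19 ya24 za1) (ka xa26 ya22 za17) (ka xa19 ya48 za61) (ka xa20 ya52 za56) (ka xa20 ya0 za46) (ka xa19 ya24 za3) (ka xa32 ya0 za47) (ka xa19 ya24 za5) (ka xa28 ya23 za43) (ka xa27 ya37 za23) (ka xa19 ya46 za12) (ka xa19 ya46 za11) (ka xa23 ya11 za23) (ka xa25 ya20 za34)) (@D3.rec (fun _ => Pt) (ka xa19 ya24 za12) (ka xa31 ya18 za27) (ka xa27 ya19 za37)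 (ka xa29 ya12 za37) (ka xa27 ya22 za1) (ka xa20 ya38 za42) (ka xa28 ya13 za59) (ka xa24 ya53 za28) (ka xa24 ya53 za30) (ka xa21 ya35 za56) (ka xa32 ya32 za55) (ka xa29 ya27 za55) (ka xa28 ya53 za60) (ka xa28 ya53 za61) (ka xa31 ya23 za50) (ka xa28 ya53 za58) (ka xa19 ya36 za22) (ka xa31 ya23 za14) (ka xa24 ya39 za31) (ka xa28 ya54 za7) (ka xa24 ya15 za7) (ka xa19 ya38 za7) (ka xa31 ya50 za5) (ka xa24 ya24 za2) (ka xa25 ya35 za49) (ka xa19 ya24 za48) (ka xa21 ya40 za22) (ka xa24 ya43 za30) (ka xa19 ya24 za51) (ka xa19 ya36 za23) (ka xa19 ya24 za52) (ka xa26 ya37 za31) (ka xa25 ya31 za51) (ka xa25 ya11 za52) (ka xa19 ya25 za6) (ka xa32 ya38 za55) (ka xa19 ya25 za11) (ka xa28 ya29 za24) (ka xa24 ya1 za43) (ka xa29 ya48 za44) (ka xa19 ya25 za17) (ka xa26 ya23 za35) (ka xa20 ya25 za50) (ka xa22 ya46 za41) (ka xa20 ya16 za41)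 (ka xa31 ya33 za31) (ka xa30 ya8 za27) (ka xa20 ya48 za17) (ka xa30 ya28 za6) (ka xa26 ya52 za2) (ka xa32 ya0 za51) (ka xa19 ya25 za31) (ka xa32 ya38 za56) (ka xa32 ya0 za50) (ka xa30 ya15 za20) (ka xa31 ya59 za36) (ka xa19 ya25 za33) (ka xa29 ya26 za10) (ka xa27 ya16 za27) (ka xa30 ya28 za2) (ka xa28 ya52 za44) (ka xa22 ya1 za24)) (@D3.rec (fun _ => Pt) (ka xa25 ya32 za6) (ka xa31 ya19 za33) (ka xa28 ya51 za13) (ka xa30 ya39 za2) (ka xa32 ya0 za53) (ka xa29 ya0 za26) (ka xa32 ya39 za4) (ka xa25 ya21 za0) (ka xa25 ya21 za1) (ka xa25 ya53 za9) (ka xa19 ya25 za43) (ka xa30 ya55 za51) (ka xa29 ya40 za30) (ka xa19 ya40 za8) (ka xa25 ya52 za47) (ka xa31 ya33 za28) (ka xa29 ya25 za42) (ka xa31 ya52 za43) (ka xa19 ya47 za21) (ka xa29 ya3 za25) (ka xa27 ya13 za20) (ka xa31 ya45 za41) (ka xa22 ya47 za50) (ka xa26 ya25 za42) (ka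 xa27 ya30 za18) (ka xa25 ya59 za20) (ka xa31 ya7 za4) (ka xa19 ya26 za12) (ka xa30 ya9 za53) (ka xa20 ya50 za27) (ka xa27 ya22 za18) (ka xa19 ya26 za35) (ka xa26 ya3 za10) (ka xa19 ya53 za53) (ka xa29 ya48 za57) (ka xa29 ya48 za59) (ka xa21 ya56 za18) (ka xa29 ya48 za58) (ka xa30 ya42 za0) (ka xa21 ya0 za36) (ka xa24 ya33 za44) (ka xa23 ya29 za19) (ka xa23 ya28 za17) (ka xa24 ya38 za18) (ka xa23 ya29 za18) (ka xa23 ya29 za15) (ka xa27 ya48 za18) (ka xa19 ya26 za49) (ka xa19 ya27 za16) (ka xa19 ya27 za17) (ka xa32 ya1 za4) (ka xa25 ya21 za55) (ka xa21 ya0 za40) (ka xa25 ya21 za57) (ka xa29 ya36 za6) (ka xa30 ya20 za32) (ka xa28 ya13 za10) (ka xa19 ya27 za8) (ka xa19 ya27 za9) (ka xa32 ya33 za53) (ka xa32 ya22 za19) (ka xa31 ya28 za41)) (@D3.rec (fun _ => Pt) (ka xa32 ya34 za4) (ka xa32 ya36 za3) (ka xa24 ya17 za4) (ka xa30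 ya20 za31) (ka xa21 ya13 za56) (ka xa30 ya51 za9) (ka xa26 ya44 za11) (ka xa26 ya28 za43) (ka xa26 ya28 za42) (ka xa31 ya25 za23) (ka xa28 ya39 za35) (ka xa26 ya56 za51) (ka xa24 ya13 za55) (ka xa21 ya11 za14) (ka xa26 ya56 za34) (ka xa19 ya39 za8) (ka xa30 ya18 za7) (ka xa19 ya52 za48) (ka xa19 ya52 za43) (ka xa28 ya14 za6) (ka xa28 ya14 za9) (ka xa25 ya50 za18) (ka xa28 ya14 za12) (ka xa24 ya30 za36) (ka xa24 ya5 za14) (ka xa29 ya32 za34) (ka xa25 ya59 za51) (ka xa32 ya0 za55) (ka xa28 ya37 za13) (ka xa28 ya42 za39) (ka xa19 ya53 za29) (ka xa19 ya53 za30) (ka xa19 ya29 za49) (ka xa20 ya36 za58) (ka xa32 ya13 za25) (ka xa22 ya1 za61) (ka xa30 ya49 za23) (ka xa31 ya24 za48) (ka xa26 ya25 za53) (ka xa29 ya1 za5) (ka xa19 ya29 za5) (ka xa24 ya9 za60) (ka xa19 ya28 za30) (ka xa26 ya34 za18) (ka xa26 ya26 za51) (ka xa32 ya39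 za19) (ka xa30 ya20 za5) (ka xa25 ya32 za1) (ka xa25 ya5 za19) (ka xa22 ya56 za18) (ka xa19 ya29 za45) (ka xa31 ya13 za9) (ka xa25 ya52 za39) (ka xa24 ya8 za58) (ka xa26 ya26 za52) (ka xa24 ya8 za60) (ka xa19 ya30 za56) (ka xa19 ya28 za53) (ka xa19 ya28 za54) (ka xa19 ya28 za55) (ka xa19 ya28 za56) (ka xa19 ya28 za58)) (@D3.rec (fun _ => Pt) (ka xa30 ya24 za17) (ka xa24 ya30 za34) (ka xa32 ya39 za25) (ka xa30 ya53 za11) (ka xa29 ya13 za50) (ka xa22 ya40 za51) (ka xa29 ya31 za17) (ka xa31 ya55 za47) (ka xa31 ya55 za27) (ka xa31 ya55 za35) (ka xa29 ya40 za33) (ka xa29 ya38 za1) (ka xa28 ya52 za41) (ka xa28 ya49 za2) (ka xa29 ya21 za25) (ka xa30 ya30 za8) (ka xa28 ya40 za5) (ka xa27 ya23 za4) (ka xa31 ya38 za54) (ka xa29 ya45 za29) (ka xa27 ya12 za6) (ka xa19 ya29 za15) (ka xa28 ya14 za20) (ka xa28 ya14 za18) (ka xa32 ya36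 za41) (ka xa25 ya22 za21) (ka xa24 ya51 za39) (ka xa32 ya39 za32) (ka xa31 ya40 za24) (ka xa31 ya40 za25) (ka xa31 ya17 za5) (ka xa31 ya20 za37) (ka xa19 ya58 za25) (ka xa28 ya9 za3) (ka xa31 ya17 za6) (ka xa25 ya20 za30) (ka xa25 ya47 za14) (ka xa29 ya13 za7) (ka xa27 ya12 za5) (ka xa19 ya29 za30) (ka xa19 ya29 za32) (ka xa19 ya29 za33) (ka xa19 ya29 za34) (ka xa28 ya14 za30) (ka xa26 ya58 za4) (ka xa26 ya58 za3) (ka xa30 ya48 za53) (ka xa28 ya38 za32) (ka xa29 ya13 za20) (ka xa32 ya16 za34) (ka xa25 ya20 za27) (ka xa32 ya39 za36) (ka xa32 ya21 za12) (ka xa32 ya17 za39) (ka xa30 ya30 za25) (ka xa32 ya39 za37) (ka xa26 ya27 za35) (ka xa27 ya15 za17) (ka xa27 ya13 za39) (ka xa32 ya14 za54) (ka xa32 ya14 za55) (ka xa19 ya29 za39)) (@D3.rec (fun _ => Pt) (ka xa32 ya14 za59) (ka xa30 ya5 za44) (ka xa30 ya21 za17) (ka xa27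 ya7 za6) (ka xa23 ya13 za15) (ka xa28 ya53 za1) (ka xa30 ya19 za19) (ka xa32 ya20 za22) (ka xa29 ya48 za29) (ka xa24 ya4 za8) (ka xa29 ya48 za23) (ka xa19 ya29 za56) (ka xa19 ya29 za57) (ka xa19 ya29 za58) (ka xa19 ya29 za59) (ka xa19 ya29 za60) (ka xa19 ya29 za61) (ka xa29 ya1 za23) (ka xa29 ya1 za13) (ka xa29 ya1 za10) (ka xa29 ya1 za11) (ka xa30 ya23 za58) (ka xa29 ya53 za39) (ka xa30 ya26 za17) (ka xa31 ya28 za26) (ka xa27 ya19 za13) (ka xa26 ya57 za11) (ka xa26 ya57 za12) (ka xa32 ya39 za17) (ka xa30 ya25 za20) (ka xa31 ya19 za32) (ka xa24 ya25 za28) (ka xa32 ya39 za48) (ka xa32 ya39 za49) (ka xa24 ya8 za24) (ka xa27 ya8 za42) (ka xa29 ya1 za37) (ka xa29 ya2 za6) (ka xa29 ya2 za7) (ka xa29 ya2 za8) (ka xa29 ya2 za9) (ka xa28 ya51 za12) (ka xa30 ya15 za60) (ka xa31 ya55 za30) (ka xa28 ya48 za60) (ka xa23 ya12 za48)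 (ka xa19 ya30 za17) (ka xa19 ya30 za18) (ka xa19 ya30 za19) (ka xa31 ya56 za20) (ka xa25 ya47 za61) (ka xa25 ya50 za42) (ka xa32 ya39 za20) (ka xa29 ya16 za15) (ka xa30 ya9 za7) (ka xa31 ya10 za56) (ka xa23 ya48 za12) (ka xa30 ya37 za57) (ka xa31 ya13 za34) (ka xa29 ya1 za29) (ka xa27 ya16 za57) (ka xa29 ya1 za61)) (@D3.rec (fun _ => Pt) (ka xa29 ya2 za0) (ka xa28 ya52 za5) (ka xa30 ya38 za42) (ka xa29 ya48 za16) (ka xa19 ya30 za28) (ka xa19 ya30 za29) (ka xa30 ya48 za58) (ka xa22 ya23 za51) (ka xa22 ya23 za50) (ka xa29 ya1 za35) (ka xa29 ya1 za36) (ka xa29 ya1 za38) (ka xa29 ya1 za39) (ka xa29 ya12 za59) (ka xa20 ya52 za54) (ka xa30 ya26 za31) (ka xa19 ya30 za37) (ka xa19 ya30 za38) (ka xa29 ya1 za9) (ka xa31 ya36 za36) (ka xa31 ya30 za16) (ka xa32 ya21 za60) (ka xa31 ya30 za15) (ka xa29 ya1 za27) (ka xa29 ya1 za28) (ka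 xa24 ya6 za31) (ka xa29 ya1 za30) (ka xa29 ya1 za31) (ka xa29 ya13 za45) (ka xa29 ya9 za18) (ka xa32 ya15 za11) (ka xa22 ya25 za57) (ka xa28 ya33 za45) (ka xa19 ya30 za46) (ka xa26 ya51 za15) (ka xa26 ya22 za16) (ka xa30 ya49 za38) (ka xa29 ya42 za39) (ka xa31 ya53 za20) (ka xa23 ya53 za40) (ka xa30 ya53 za50) (ka xa29 ya1 za43) (ka xa29 ya1 za41) (ka xa31 ya16 za4) (ka xa24 ya7 za0) (ka xa24 ya39 za19) (ka xa22 ya1 za9) (ka xa30 ya55 za50) (ka xa24 ya26 za34) (ka xa26 ya42 za15) (ka xa30 ya27 za10) (ka xa30 ya27 za11) (ka xa26 ya54 za33) (ka xa19 ya31 za15) (ka xa24 ya21 za55) (ka xa29 ya42 za45) (ka xa31 ya28 za40) (ka xa24 ya26 za40) (ka xa28 ya48 za15) (ka xa30 ya47 za30) (ka xa28 ya48 za12) (ka xa28 ya48 za13)) (@D3.rec (fun _ => Pt) (ka xa25 ya43 za25) (ka xa31 ya26 za53) (ka xa26 ya44 za39) (ka xa26 ya16 za2) (ka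 xa31 ya53 za47) (ka xa24 ya12 za28) (ka xa22 ya20 za42) (ka xa28 ya48 za19) (ka xa28 ya58 za29) (ka xa26 ya38 za27) (ka xa26 ya41 za8) (ka xa29 ya18 za6) (ka xa19 ya31 za43) (ka xa19 ya31 za46) (ka xa19 ya31 za47) (ka xa19 ya31 za48) (ka xa19 ya31 za49) (ka xa19 ya31 za50) (ka xa31 ya35 za51) (ka xa32 ya14 za32) (ka xa32 ya40 za12) (ka xa31 ya35 za48) (ka xa26 ya40 za25) (ka xa30 ya31 za2) (ka xa26 ya40 za21) (ka xa29 ya34 za7) (ka xa32 ya18 za55) (ka xa20 ya58 za4) (ka xa30 ya16 za13) (ka xa32 ya11 za14) (ka xa26 ya41 za14) (ka xa30 ya28 za13) (ka xa29 ya21 za31) (ka xa24 ya1 za5) (ka xa31 ya15 za0) (ka xa30 ya9 za38) (ka xa30 ya16 za2) (ka xa19 ya31 za56) (ka xa26 ya40 za59) (ka xa24 ya25 za46) (ka xa30 ya31 za1) (ka xa30 ya31 za0) (ka xa29 ya34 za15) (ka xa30 ya20 za24) (ka xa29 ya34 za13) (ka xa20 ya57 za37) (ka xa30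 ya28 za19) (ka xa32 ya10 za58) (ka xa26 ya6 za16) (ka xa32 ya11 za40) (ka xa32 ya11 za41) (ka xa30 ya30 za58) (ka xa30 ya30 za55) (ka xa32 ya11 za31) (ka xa26 ya35 za0) (ka xa19 ya32 za18) (ka xa25 ya18 za61) (ka xa26 ya35 za40) (ka xa30 ya15 za36) (ka xa25 ya33 za9) (ka xa32 ya14 za39) (ka xa32 ya17 za34)) (@D3.rec (fun _ => Pt) (ka xa31 ya18 za15) (ka xa29 ya30 za51) (ka xa20 ya53 za9) (ka xa20 ya4 za35) (ka xa19 ya32 za46) (ka xa19 ya49 za21) (ka xa24 ya49 za17) (ka xa24 ya49 za18) (ka xa19 ya33 za1) (ka xa19 ya33 za2) (ka xa19 ya33 za3) (ka xa19 ya33 za4) (ka xa19 ya33 za5) (ka xa19 ya33 za13) (ka xa19 ya33 za15) (ka xa26 ya21 za53) (ka xa31 ya51 za5) (ka xa32 ya40 za33) (ka xa32 ya40 za32) (ka xa31 ya55 za38) (ka xa32 ya39 za8) (ka xa31 ya41 za36) (ka xa32 ya39 za7) (ka xa29 ya15 za15) (ka xa32 ya40 za35) (ka xa32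 ya39 za14) (ka xa19 ya50 za35) (ka xa21 ya56 za42) (ka xa32 ya8 za60) (ka xa32 ya40 za53) (ka xa32 ya40 za36) (ka xa31 ya35 za24) (ka xa32 ya40 za37) (ka xa28 ya35 za28) (ka xa27 ya59 za38) (ka xa28 ya23 za57) (ka xa26 ya21 za31) (ka xa26 ya20 za16) (ka xa31 ya12 za44) (ka xa19 ya51 za33) (ka xa29 ya21 za33) (ka xa29 ya1 za44) (ka xa29 ya33 za12) (ka xa29 ya33 za13) (ka xa27 ya0 za40) (ka xa26 ya26 za19) (ka xa31 ya55 za37) (ka xa31 ya17 za61) (ka xa31 ya38 za55) (ka xa29 ya18 za43) (ka xa30 ya17 za57) (ka xa32 ya15 za23) (ka xa19 ya33 za55) (ka xa19 ya33 za59) (ka xa19 ya33 za60) (ka xa19 ya33 za61) (ka xa32 ya12 za34) (ka xa29 ya33 za6) (ka xa20 ya24 za52) (ka xa24 ya2 za44) (ka xa29 ya50 za7) (ka xa28 ya1 za38)) (@D3.rec (fun _ => Pt) (ka xa26 ya27 za23) (ka xa32 ya33 za3) (ka xa22 ya49 za23) (ka xa29 ya1 za42) (ka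 xa29 ya54 za55) (ka xa32 ya7 za36) (ka xa32 ya15 za21) (ka xa28 ya32 za56) (ka xa30 ya17 za58) (ka xa28 ya38 za35) (ka xa31 ya23 za12) (ka xa29 ya42 za50) (ka xa29 ya42 za49) (ka xa30 ya39 za30) (ka xa29 ya48 za31) (ka xa29 ya38 za33) (ka xa27 ya59 za47) (ka xa24 ya18 za14) (ka xa27 ya59 za48) (ka xa19 ya34 za32) (ka xa19 ya34 za16) (ka xa24 ya6 za41) (ka xa29 ya27 za7) (ka xa28 ya21 za45) (ka xa32 ya1 za53) (ka xa29 ya3 za8) (ka xa23 ya53 za8) (ka xa24 ya6 za23) (ka xa21 ya57 za59) (ka xa24 ya14 za45) (ka xa32 ya12 za36) (ka xa29 ya46 za61) (ka xa20 ya57 za57) (ka xa20 ya57 za55) (ka xa32 ya11 za20) (ka xa32 ya12 za38) (ka xa32 ya12 za39) (ka xa29 ya31 za34) (ka xa26 ya46 za15) (ka xa26 ya46 za16) (ka xa19 ya44 za46) (ka xa28 ya19 za28) (ka xa19 ya46 za26) (ka xa31 ya26 za23) (ka xa31 ya21 za55) (ka xa26 ya37 za12) (ka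 xa30 ya0 za11) (ka xa29 ya9 za31) (ka xa27 ya19 za25) (ka xa19 ya35 za0) (ka xa29 ya35 za0) (ka xa24 ya2 za32) (ka xa19 ya53 za41) (ka xa19 ya53 za42) (ka xa31 ya54 za28) (ka xa19 ya35 za7) (ka xa24 ya41 za19) (ka xa31 ya23 za26) (ka xa19 ya36 za3) (ka xa19 ya36 za46) (ka xa24 ya17 za18) (ka xa19 ya44 za28)) (@D3.rec (fun _ => Pt) (ka xa24 ya11 za60) (ka xa30 ya51 za12) (ka xa32 ya30 za2) (ka xa19 ya36 za41) (ka xa19 ya35 za22) (ka xa19 ya35 za25) (ka xa28 ya44 za43) (ka xa24 ya14 za18) (ka xa32 ya41 za16) (ka xa29 ya50 za60) (ka xa19 ya50 za10) (ka xa31 ya29 za53) (ka xa32 ya30 za61) (ka xa24 ya3 za14) (ka xa24 ya3 za15) (ka xa29 ya25 za48) (ka xa24 ya3 za12) (ka xa24 ya3 za17) (ka xa24 ya3 za16) (ka xa21 ya50 za24) (ka xa25 ya6 za18) (ka xa19 ya37 za56) (ka xa19 ya37 za60) (ka xa19 ya38 za0) (ka xa19 ya38 za9) (ka xa31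 ya55 za52) (ka xa19 ya38 za12) (ka xa19 ya38 za14) (ka xa19 ya38 za15) (ka xa19 ya38 za16) (ka xa31 ya52 za60) (ka xa19 ya38 za19) (ka xa19 ya38 za32) (ka xa25 ya12 za14) (ka xa19 ya35 za38) (ka xa19 ya35 za39) (ka xa22 ya52 za40) (ka xa25 ya44 za4) (ka xa22 ya52 za46) (ka xa25 ya29 za25) (ka xa25 ya31 za28) (ka xa25 ya29 za22) (ka xa19 ya35 za49) (ka xa27 ya10 za59) (ka xa30 ya1 za26) (ka xa31 ya55 za15) (ka xa20 ya4 za12) (ka xa28 ya59 za2) (ka xa25 ya35 za41) (ka xa27 ya48 za20) (ka xa25 ya35 za16) (ka xa25 ya35 za17) (ka xa19 ya35 za60) (ka xa19 ya35 za61) (ka xa19 ya36 za0) (ka xa19 ya36 za1) (ka xa28 ya44 za61) (ka xa21 ya58 za50) (ka xa29 ya43 za3) (ka xa24 ya17 za19) (ka xa25 ya32 za0) (ka xa25 ya32 za2)) (@D3.rec (fun _ => Pt) (ka xa25 ya31 za59) (ka xa24 ya4 za5) (ka xa25 ya31 za57) (ka xa25 ya31 za58) (ka xa19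 ya36 za21) (ka xa22 ya56 za53) (ka xa32 ya15 za59) (ka xa29 ya15 za35) (ka xa27 ya11 za24) (ka xa30 ya55 za60) (ka xa29 ya17 za30) (ka xa27 ya11 za23) (ka xa24 ya17 za39) (ka xa25 ya31 za61) (ka xa19 ya36 za24) (ka xa24 ya17 za22) (ka xa29 ya17 za48) (ka xa29 ya0 za50) (ka xa32 ya1 za57) (ka xa19 ya36 za33) (ka xa19 ya36 za35) (ka xa19 ya36 za36) (ka xa28 ya34 za38) (ka xa27 ya7 za37) (ka xa31 ya54 za45) (ka xa19 ya36 za37) (ka xa27 ya17 za33) (ka xa25 ya56 za44) (ka xa19 ya36 za40) (ka xa28 ya54 za8) (ka xa26 ya33 za58) (ka xa29 ya31 za32) (ka xa32 ya41 za14) (ka xa32 ya4 za13) (ka xa30 ya9 za17) (ka xa31 ya39 za61) (ka xa20 ya49 za40) (ka xa24 ya34 za13) (ka xa19 ya36 za61) (ka xa19 ya37 za1) (ka xa32 ya27 za10) (ka xa24 ya21 za13) (ka xa24 ya21 za12) (ka xa27 ya23 za10) (ka xa29 ya11 za11) (ka xa26 ya25 za59) (ka xa25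 ya9 za47) (ka xa19 ya37 za5) (ka xa26 ya24 za1) (ka xa31 ya45 za34) (ka xa31 ya37 za30) (ka xa31 ya1 za47) (ka xa31 ya35 za19) (ka xa21 ya5 za1) (ka xa30 ya9 za18) (ka xa19 ya37 za14) (ka xa19 ya37 za15) (ka xa27 ya17 za25) (ka xa32 ya41 za25) (ka xa22 ya2 za15) (ka xa24 ya7 za61) (ka xa26 ya24 za10)) (@D3.rec (fun _ => Pt) (ka xa26 ya0 za3) (ka xa21 ya0 za19) (ka xa28 ya57 za47) (ka xa19 ya37 za35) (ka xa19 ya37 za36) (ka xa32 ya0 za20) (ka xa19 ya37 za43) (ka xa19 ya37 za44) (ka xa19 ya37 za45) (ka xa30 ya47 za39) (ka xa27 ya21 za26) (ka xa28 ya29 za7) (ka xa22 ya17 za20) (ka xa32 ya41 za26) (ka xa27 ya21 za43) (ka xa32 ya21 za61) (ka xa30 ya47 za48) (ka xa27 ya21 za42) (ka xa24 ya50 za14) (ka xa29 ya36 za25) (ka xa19 ya37 za41) (ka xa25 ya9 za44) (ka xa20 ya4 za59) (ka xa19 ya45 za28) (ka xa25 ya6 za13) (ka xa28 ya34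 za6) (ka xa29 ya44 za50) (ka xa19 ya45 za49) (ka xa31 ya10 za25) (ka xa25 ya11 za8) (ka xa29 ya13 za32) (ka xa31 ya43 za56) (ka xa25 ya11 za25) (ka xa32 ya4 za12) (ka xa32 ya0 za45) (ka xa27 ya17 za21) (ka xa20 ya4 za55) (ka xa25 ya9 za42) (ka xa25 ya9 za43) (ka xa25 ya9 za45) (ka xa25 ya9 za23) (ka xa26 ya2 za53) (ka xa28 ya59 za57) (ka xa25 ya31 za22) (ka xa31 ya41 za55) (ka xa29 ya17 za60) (ka xa26 ya2 za45) (ka xa32 ya41 za20) (ka xa31 ya11 za3) (ka xa19 ya45 za58) (ka xa25 ya33 za36) (ka xa29 ya13 za26) (ka xa30 ya7 za47) (ka xa32 ya24 za42) (ka xa24 ya3 za8) (ka xa19 ya38 za21) (ka xa32 ya41 za33) (ka xa28 ya59 za42) (ka xa31 ya35 za60) (ka xa25 ya11 za55) (ka xa31 ya49 za50) (ka xa29 ya50 za17))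
def f_a_29 : D2 → D3 → Pt := @D2.rec (fun _ => D3 → Pt) (@D3.rec (fun _ => Pt) (ka xa29 ya27 za34) (ka xa20 ya3 za23) (ka xa29 ya27 za36) (ka xa20 ya42 za8) (ka xa22 ya21 za20) (ka xa25 ya12 za38) (ka xa31 ya23 za17) (ka xa29 ya58 za60) (ka xa28 ya42 za23) (ka xa31 ya28 za53) (ka xa19 ya38 za43) (ka xa32 ya24 za43) (ka xa29 ya14 za25) (ka xa26 ya6 za15) (ka xa23 ya42 za23) (ka xa24 ya35 za60) (ka xa26 ya12 za32) (ka xa22 ya9 za24) (ka xa19 ya38 za55) (ka xa21 ya37 za41) (ka xa19 ya49 za45) (ka xa19 ya39 za15) (ka xa32 ya27 za53) (ka xa24 ya17 za42) (ka xa29 ya12 za52) (ka xa25 ya27 za43) (ka xa28 ya49 za5) (ka xa29 ya0 za39) (ka xa23 ya12 za10) (ka xa24 ya16 za1) (ka xa23 ya58 za12) (ka xa25 ya40 za42) (ka xa24 ya20 za57) (ka xa31 ya36 za52) (ka xa25 ya43 za17) (ka xa27 ya7 za38) (ka xa29 ya23 za35) (ka xa20 ya15 za1)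 (ka xa20 ya18 za12) (ka xa29 ya0 za27) (ka xa30 ya50 za57) (ka xa26 ya17 za52) (ka xa20 ya40 za55) (ka xa19 ya40 za9) (ka xa32 ya3 za22) (ka xa31 ya24 za22) (ka xa27 ya31 za37) (ka xa32 ya41 za37) (ka xa24 ya17 za5) (ka xa28 ya41 za50) (ka xa28 ya58 za17) (ka xa29 ya28 za11) (ka xa29 ya16 za51) (ka xa19 ya47 za11) (ka xa20 ya4 za57) (ka xa20 ya5 za1) (ka xa31 ya41 za37) (ka xa30 ya5 za22) (ka xa29 ya9 za1) (ka xa27 ya12 za2) (ka xa20 ya3 za21) (ka xa27 ya0 za17)) (@D3.rec (fun _ => Pt) (ka xa27 ya43 za47) (ka xa19 ya40 za48) (ka xa26 ya39 za16) (ka xa28 ya41 za12) (ka xa29 ya3 za19) (ka xa28 ya50 za39) (ka xa28 ya46 za59) (ka xa24 ya3 za38) (ka xa24 ya10 za50) (ka xa28 ya53 za18) (ka xa28 ya52 za19) (ka xa28 ya52 za20) (ka xa24 ya3 za31) (ka xa28 ya52 za18) (ka xa24 ya19 za33) (ka xa29 ya8 za26) (ka xa32 ya41 za38) (ka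 xa24 ya4 za27) (ka xa26 ya34 za26) (ka xa26 ya37 za36) (ka xa19 ya41 za25) (ka xa29 ya39 za2) (ka xa28 ya42 za27) (ka xa28 ya52 za17) (ka xa28 ya46 za27) (ka xa24 ya39 za14) (ka xa24 ya38 za36) (ka xa28 ya53 za23) (ka xa28 ya53 za24) (ka xa28 ya52 za59) (ka xa28 ya53 za26) (ka xa28 ya53 za27) (ka xa19 ya41 za37) (ka xa31 ya33 za36) (ka xa25 ya59 za23) (ka xa28 ya53 za9) (ka xa28 ya53 za10) (ka xa28 ya52 za36) (ka xa28 ya53 za11) (ka xa28 ya53 za12) (ka xa30 ya44 za14) (ka xa28 ya53 za42) (ka xa28 ya56 za3) (ka xa28 ya53 za41) (ka xa28 ya55 za41) (ka xa23 ya4 za29) (ka xa32 ya2 za45) (ka xa19 ya41 za45) (ka xa31 ya29 za39) (ka xa30 ya27 za22) (ka xa29 ya42 za48) (ka xa29 ya7 za60) (ka xa24 ya46 za16) (ka xa19 ya41 za50) (ka xa19 ya41 za51) (ka xa28 ya35 za58) (ka xa32 ya18 za16) (ka xa28 ya35 za51) (ka xa28 ya35 za49) (ka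 xa27 ya16 za53) (ka xa27 ya8 za52) (ka xa28 ya52 za61)) (@D3.rec (fun _ => Pt) (ka xa28 ya53 za0) (ka xa19 ya41 za58) (ka xa32 ya29 za28) (ka xa28 ya35 za13) (ka xa28 ya36 za5) (ka xa22 ya1 za10) (ka xa28 ya52 za37) (ka xa28 ya52 za38) (ka xa28 ya52 za39) (ka xa28 ya52 za40) (ka xa24 ya1 za42) (ka xa31 ya52 za46) (ka xa19 ya42 za6) (ka xa21 ya47 za39) (ka xa28 ya42 za38) (ka xa30 ya31 za34) (ka xa24 ya12 za24) (ka xa29 ya48 za17) (ka xa24 ya50 za12) (ka xa24 ya50 za13) (ka xa24 ya48 za38) (ka xa25 ya20 za32) (ka xa30 ya23 za18) (ka xa28 ya18 za45) (ka xa32 ya3 za23) (ka xa19 ya42 za24) (ka xa32 ya14 za45) (ka xa30 ya39 za47) (ka xa24 ya10 za39) (ka xa29 ya48 za20) (ka xa32 ya28 za48) (ka xa29 ya38 za48) (ka xa19 ya49 za22) (ka xa24 ya52 za41) (ka xa24 ya52 za49) (ka xa24 ya52 za46) (ka xa19 ya42 za45) (ka xa19 ya42 za48)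 (ka xa24 ya51 za12) (ka xa31 ya40 za54) (ka xa24 ya48 za58) (ka xa32 ya14 za44) (ka xa29 ya8 za58) (ka xa29 ya8 za59) (ka xa28 ya45 za8) (ka xa29 ya43 za35) (ka xa29 ya43 za37) (ka xa31 ya51 za36) (ka xa29 ya43 za46) (ka xa19 ya58 za39) (ka xa31 ya56 za55) (ka xa21 ya57 za24) (ka xa32 ya14 za43) (ka xa28 ya44 za15) (ka xa20 ya53 za8) (ka xa28 ya44 za14) (ka xa28 ya33 za40) (ka xa20 ya10 za27) (ka xa20 ya10 za28) (ka xa19 ya43 za39) (ka xa19 ya46 za51) (ka xa19 ya43 za49)) (@D3.rec (fun _ => Pt) (ka xa24 ya30 za35) (ka xa23 ya4 za32) (ka xa20 ya52 za38) (ka xa20 ya11 za22) (ka xa29 ya22 za51) (ka xa19 ya48 za54) (ka xa19 ya48 za53) (ka xa26 ya51 za16) (ka xa28 ya56 za25) (ka xa30 ya29 za56) (ka xa19 ya43 za35) (ka xa32 ya15 za42) (ka xa31 ya43 za29) (ka xa30 ya56 za51) (ka xa20 ya53 za11) (ka xa23 ya48 za18) (ka xa25 ya37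 za23) (ka xa20 ya58 za40) (ka xa20 ya58 za29) (ka xa29 ya1 za4) (ka xa32 ya2 za3) (ka xa20 ya58 za11) (ka xa32 ya13 za21) (ka xa32 ya13 za22) (ka xa29 ya8 za28) (ka xa28 ya49 za19) (ka xa19 ya44 za29) (ka xa19 ya44 za30) (ka xa19 ya44 za32) (ka xa30 ya23 za60) (ka xa31 ya36 za42) (ka xa32 ya41 za56) (ka xa30 ya51 za30) (ka xa24 ya39 za43) (ka xa23 ya39 za9) (ka xa25 ya24 za30) (ka xa30 ya9 za48) (ka xa26 ya20 za37) (ka xa19 ya45 za50) (ka xa19 ya45 za51) (ka xa19 ya44 za38) (ka xa29 ya15 za47) (ka xa19 ya45 za57) (ka xa19 ya46 za1) (ka xa31 ya11 za13) (ka xa19 ya46 za4) (ka xa19 ya46 za8) (ka xa19 ya46 za9) (ka xa31 ya34 za46) (ka xa19 ya46 za13) (ka xa30 ya10 za1) (ka xa19 ya46 za23) (ka xa30 ya10 za6) (ka xa26 ya33 za33) (ka xa26 ya33 za48) (ka xa24 ya58 za10) (ka xa26 ya33 za53) (ka xa28 ya15 za13) (ka xa31 ya13 za3)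 (ka xa32 ya15 za31) (ka xa30 ya0 za7) (ka xa29 ya17 za19)) (@D3.rec (fun _ => Pt) (ka xa31 ya50 za60) (ka xa24 ya15 za43) (ka xa26 ya37 za11) (ka xa28 ya40 za37) (ka xa27 ya41 za44) (ka xa32 ya15 za30) (ka xa30 ya43 za52) (ka xa19 ya45 za25) (ka xa19 ya45 za27) (ka xa31 ya27 za1) (ka xa19 ya45 za30) (ka xa19 ya45 za16) (ka xa28 ya0 za7) (ka xa31 ya48 za50) (ka xa27 ya41 za45) (ka xa28 ya29 za34) (ka xa21 ya5 za34) (ka xa25 ya47 za31) (ka xa32 ya10 za0) (ka xa30 ya51 za40) (ka xa30 ya51 za39) (ka xa30 ya51 za42) (ka xa30 ya51 za41) (ka xa31 ya11 za1) (ka xa32 ya42 za0) (ka xa19 ya45 za26) (ka xa24 ya50 za56) (ka xa32 ya42 za5) (ka xa29 ya17 za12) (ka xa26 ya54 za52) (ka xa25 ya11 za24) (ka xa31 ya27 za2) (ka xa30 ya10 za29) (ka xa25 ya58 za61) (ka xa25 ya59 za0) (ka xa32 ya42 za11) (ka xa23 ya30 za22) (ka xa29 ya41 za28)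 (ka xa30 ya9 za47) (ka xa19 ya45 za39) (ka xa29 ya50 za55) (ka xa32 ya15 za38) (ka xa31 ya50 za29) (ka xa25 ya33 za21) (ka xa25 ya33 za22) (ka xa26 ya20 za36) (ka xa31 ya49 za28) (ka xa29 ya59 za4) (ka xa27 ya5 za1) (ka xa31 ya57 za5) (ka xa31 ya36 za15) (ka xa27 ya4 za61) (ka xa30 ya9 za41) (ka xa31 ya11 za16) (ka xa19 ya45 za54) (ka xa19 ya45 za55) (ka xa24 ya17 za17) (ka xa29 ya57 za5) (ka xa29 ya15 za45) (ka xa26 ya4 za59) (ka xa26 ya5 za0) (ka xa31 ya34 za19)) (@D3.rec (fun _ => Pt) (ka xa19 ya45 za61) (ka xa24 ya23 za60) (ka xa24 ya24 za6) (ka xa32 ya42 za21) (ka xa27 ya1 za35) (ka xa31 ya56 za35) (ka xa31 ya11 za14) (ka xa19 ya46 za5) (ka xa31 ya42 za15) (ka xa32 ya42 za23) (ka xa32 ya23 za34) (ka xa25 ya30 za49) (ka xa31 ya3 za15) (ka xa31 ya4 za9) (ka xa32 ya42 za28) (ka xa30 ya1 za33) (ka xa32 ya15 za47) (ka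 xa25 ya30 za50) (ka xa23 ya27 za38) (ka xa23 ya28 za1) (ka xa29 ya7 za11) (ka xa31 ya45 za48) (ka xa30 ya10 za4) (ka xa30 ya10 za5) (ka xa25 ya9 za58) (ka xa24 ya17 za28) (ka xa25 ya36 za22) (ka xa30 ya10 za54) (ka xa25 ya15 za9) (ka xa32 ya41 za12) (ka xa19 ya46 za28) (ka xa32 ya33 za7) (ka xa27 ya18 za26) (ka xa29 ya6 za38) (ka xa32 ya35 za49) (ka xa28 ya18 za19) (ka xa25 ya10 za13) (ka xa27 ya44 za36) (ka xa25 ya5 za52) (ka xa23 ya19 za17) (ka xa19 ya47 za14) (ka xa27 ya41 za46) (ka xa27 ya43 za2) (ka xa26 ya38 za43) (ka xa23 ya28 za44) (ka xa27 ya42 za34) (ka xa27 ya18 za47) (ka xa27 ya18 za5) (ka xa27 ya17 za27) (ka xa19 ya47 za19) (ka xa19 ya58 za22) (ka xa30 ya18 za41) (ka xa31 ya40 za29) (ka xa31 ya28 za37) (ka xa29 ya47 za5) (ka xa25 ya41 za10) (ka xa19 ya55 za4) (ka xa25 ya1 za58) (ka xa25 ya38 za50) (ka xa27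 ya1 za2) (ka xa31 ya57 za27) (ka xa31 ya41 za53)) (@D3.rec (fun _ => Pt) (ka xa20 ya14 za20) (ka xa19 ya47 za43) (ka xa30 ya46 za1) (ka xa19 ya54 za6) (ka xa19 ya53 za17) (ka xa24 ya2 za45) (ka xa31 ya33 za46) (ka xa23 ya19 za53) (ka xa20 ya16 za16) (ka xa20 ya38 za17) (ka xa19 ya48 za24) (ka xa19 ya48 za25) (ka xa19 ya48 za33) (ka xa19 ya48 za51) (ka xa25 ya23 za44) (ka xa26 ya57 za38) (ka xa26 ya10 za13) (ka xa26 ya10 za14) (ka xa26 ya9 za47) (ka xa24 ya32 za60) (ka xa26 ya10 za12) (ka xa26 ya10 za11) (ka xa28 ya13 za34) (ka xa29 ya12 za5) (ka xa26 ya30 za12) (ka xa26 ya7 za38) (ka xa26 ya7 za37) (ka xa21 ya28 za5) (ka xa24 ya43 za51) (ka xa24 ya43 za1) (ka xa26 ya1 za55) (ka xa29 ya49 za38) (ka xa31 ya54 za15) (ka xa25 ya58 za12) (ka xa21 ya35 za44) (ka xa19 ya48 za42) (ka xa20 ya13 za44) (ka xa25 ya58 za14) (ka xa29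 ya5 za33) (ka xa26 ya44 za52) (ka xa23 ya0 za9) (ka xa26 ya51 za18) (ka xa19 ya49 za4) (ka xa19 ya49 za7) (ka xa25 ya46 za10) (ka xa29 ya22 za40) (ka xa25 ya5 za22) (ka xa29 ya56 za22) (ka xa31 ya28 za55) (ka xa29 ya56 za19) (ka xa25 ya11 za18) (ka xa25 ya11 za22) (ka xa25 ya11 za23) (ka xa32 ya18 za48) (ka xa32 ya3 za33) (ka xa19 ya53 za22) (ka xa31 ya48 za58) (ka xa19 ya49 za50) (ka xa19 ya49 za51) (ka xa25 ya12 za52) (ka xa27 ya19 za31) (ka xa31 ya48 za60)) (@D3.rec (fun _ => Pt) (ka xa20 ya40 za5) (ka xa32 ya42 za14) (ka xa19 ya49 za47) (ka xa32 ya42 za37) (ka xa29 ya37 za22) (ka xa30 ya46 za52) (ka xa23 ya26 za0) (ka xa31 ya6 za8) (ka xa26 ya27 za15) (ka xa32 ya21 za57) (ka xa21 ya54 za22) (ka xa29 ya5 za20) (ka xa32 ya17 za42) (ka xa29 ya37 za26) (ka xa28 ya9 za45) (ka xa19 ya51 za3) (ka xa19 ya51 za8) (ka xa20 ya24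 za11) (ka xa27 ya22 za59) (ka xa26 ya44 za53) (ka xa29 ya17 za38) (ka xa29 ya26 za43) (ka xa31 ya47 za53) (ka xa32 ya27 za8) (ka xa29 ya18 za14) (ka xa26 ya57 za35) (ka xa29 ya17 za47) (ka xa24 ya18 za21) (ka xa24 ya50 za40) (ka xa23 ya58 za17) (ka xa28 ya21 za11) (ka xa31 ya27 za60) (ka xa32 ya21 za30) (ka xa32 ya38 za24) (ka xa27 ya12 za28) (ka xa23 ya49 za41) (ka xa32 ya13 za55) (ka xa19 ya50 za61) (ka xa27 ya34 za7) (ka xa20 ya32 za12) (ka xa30 ya18 za21) (ka xa26 ya32 za31) (ka xa23 ya33 za20) (ka xa19 ya51 za45) (ka xa29 ya53 za47) (ka xa26 ya23 za39) (ka xa29 ya8 za16) (ka xa20 ya32 za11) (ka xa19 ya51 za36) (ka xa19 ya51 za37) (ka xa30 ya43 za51) (ka xa32 ya38 za16) (ka xa23 ya5 za54) (ka xa32 ya42 za39) (ka xa26 ya45 za36) (ka xa26 ya45 za37) (ka xa26 ya45 za39) (ka xa32 ya32 za17) (ka xa29 ya24 za8) (ka xa28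 ya28 za4) (ka xa29 ya1 za51) (ka xa19 ya51 za42)) (@D3.rec (fun _ => Pt) (ka xa30 ya24 za15) (ka xa28 ya30 za45) (ka xa31 ya40 za17) (ka xa19 ya52 za14) (ka xa19 ya52 za15) (ka xa19 ya52 za16) (ka xa19 ya52 za17) (ka xa29 ya52 za20) (ka xa19 ya52 za22) (ka xa19 ya52 za25) (ka xa19 ya52 za27) (ka xa19 ya52 za33) (ka xa28 ya2 za43) (ka xa19 ya52 za37) (ka xa29 ya27 za1) (ka xa22 ya5 za38) (ka xa29 ya7 za46) (ka xa26 ya35 za7) (ka xa32 ya17 za18) (ka xa32 ya17 za19) (ka xa20 ya32 za5) (ka xa21 ya30 za40) (ka xa20 ya45 za61) (ka xa28 ya39 za37) (ka xa28 ya29 za44) (ka xa28 ya29 za42) (ka xa29 ya1 za15) (ka xa32 ya37 za10) (ka xa29 ya3 za24) (ka xa30 ya27 za28) (ka xa29 ya8 za60) (ka xa30 ya27 za27) (ka xa28 ya30 za41) (ka xa28 ya38 za36) (ka xa28 ya38 za33) (ka xa32 ya15 za5) (ka xa32 ya21 za21) (ka xa32 ya33 za12) (ka xa19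 ya52 za18) (ka xa32 ya18 za13) (ka xa20 ya20 za0) (ka xa29 ya42 za21) (ka xa30 ya3 za48) (ka xa30 ya3 za49) (ka xa20 ya20 za9) (ka xa20 ya20 za13) (ka xa32 ya37 za1) (ka xa29 ya29 za30) (ka xa24 ya23 za25) (ka xa32 ya14 za41) (ka xa30 ya8 za3) (ka xa28 ya43 za37) (ka xa29 ya27 za3) (ka xa32 ya18 za27) (ka xa32 ya41 za40) (ka xa25 ya48 za19) (ka xa28 ya14 za52) (ka xa28 ya43 za38) (ka xa29 ya2 za42) (ka xa29 ya2 za43) (ka xa29 ya8 za30) (ka xa31 ya24 za8)) (@D3.rec (fun _ => Pt) (ka xa29 ya39 za24) (ka xa29 ya0 za58) (ka xa22 ya33 za31) (ka xa22 ya14 za40) (ka xa20 ya38 za4) (ka xa20 ya49 za6) (ka xa23 ya12 za13) (ka xa23 ya32 za7) (ka xa22 ya16 za40) (ka xa30 ya7 za37) (ka xa19 ya53 za13) (ka xa22 ya37 za54) (ka xa22 ya16 za47) (ka xa19 ya58 za12) (ka xa29 ya12 za7) (ka xa21 ya16 za61) (ka xa27 ya17 za26) (ka xa31 ya32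 za21) (ka xa28 ya53 za29) (ka xa31 ya31 za46) (ka xa31 ya31 za51) (ka xa31 ya20 za17) (ka xa32 ya13 za11) (ka xa27 ya19 za8) (ka xa27 ya7 za4) (ka xa23 ya47 za15) (ka xa32 ya15 za29) (ka xa26 ya42 za9) (ka xa25 ya4 za14) (ka xa32 ya15 za52) (ka xa31 ya21 za49) (ka xa28 ya56 za47) (ka xa26 ya33 za60) (ka xa31 ya29 za7) (ka xa27 ya39 za4) (ka xa26 ya25 za2) (ka xa25 ya49 za40) (ka xa29 ya9 za43) (ka xa29 ya9 za44) (ka xa31 ya18 za23) (ka xa27 ya57 za23) (ka xa24 ya37 za53) (ka xa24 ya20 za48) (ka xa29 ya9 za37) (ka xa29 ya9 za38) (ka xa30 ya32 za45) (ka xa19 ya54 za47) (ka xa31 ya11 za44) (ka xa31 ya18 za34) (ka xa31 ya3 za20) (ka xa30 ya42 za40) (ka xa23 ya31 za42) (ka xa19 ya56 za31) (ka xa19 ya56 za33) (ka xa23 ya29 za11) (ka xa19 ya54 za31) (ka xa19 ya54 za32) (ka xa19 ya54 za33) (ka xa19 ya54 za34) (ka xa19 ya54 za35)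 (ka xa32 ya28 za17) (ka xa28 ya28 za27)) (@D3.rec (fun _ => Pt) (ka xa28 ya13 za23) (ka xa24 ya20 za11) (ka xa32 ya0 za16) (ka xa32 ya16 za2) (ka xa30 ya41 za50) (ka xa32 ya42 za55) (ka xa24 ya42 za36) (ka xa26 ya6 za61) (ka xa31 ya8 za39) (ka xa32 ya5 za2) (ka xa31 ya8 za45) (ka xa30 ya13 za3) (ka xa31 ya8 za44) (ka xa32 ya16 za10) (ka xa32 ya5 za5) (ka xa31 ya37 za47) (ka xa32 ya16 za11) (ka xa24 ya20 za53) (ka xa24 ya20 za55) (ka xa25 ya37 za59) (ka xa32 ya16 za0) (ka xa28 ya11 za42) (ka xa19 ya54 za42) (ka xa31 ya9 za6) (ka xa30 ya33 za9) (ka xa21 ya49 za9) (ka xa24 ya34 za45) (ka xa29 ya11 za36) (ka xa22 ya43 za30) (ka xa31 ya8 za48) (ka xa30 ya40 za6) (ka xa22 ya43 za11) (ka xa32 ya4 za30) (ka xa22 ya44 za8) (ka xa26 ya34 za56) (ka xa19 ya54 za54) (ka xa32 ya30 za40) (ka xa31 ya18 za33) (ka xa32 ya11 za58) (ka xa32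 ya43 za1) (ka xa20 ya56 za29) (ka xa20 ya56 za35) (ka xa20 ya39 za13) (ka xa19 ya55 za5) (ka xa19 ya55 za7) (ka xa19 ya55 za8) (ka xa19 ya55 za9) (ka xa25 ya46 za28) (ka xa31 ya2 za41) (ka xa29 ya51 za37) (ka xa22 ya31 za34) (ka xa32 ya43 za4) (ka xa28 ya13 za21) (ka xa26 ya3 za22) (ka xa32 ya30 za39) (ka xa29 ya47 za24) (ka xa32 ya26 za47) (ka xa32 ya43 za5) (ka xa31 ya57 za25) (ka xa32 ya32 za33) (ka xa32 ya32 za30) (ka xa32 ya4 za39)) (@D3.rec (fun _ => Pt) (ka xa22 ya28 za0) (ka xa24 ya42 za28) (ka xa30 ya0 za41) (ka xa32 ya16 za1) (ka xa31 ya8 za46) (ka xa31 ya8 za43) (ka xa27 ya41 za9) (ka xa31 ya8 za49) (ka xa30 ya16 za60) (ka xa29 ya49 za55) (ka xa25 ya22 za30) (ka xa28 ya58 za44) (ka xa21 ya55 za58) (ka xa19 ya55 za32) (ka xa19 ya55 za36) (ka xa19 ya55 za38) (ka xa26 ya37 za60) (ka xa32 ya5 za19) (ka xa31 ya41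 za14) (ka xa32 ya43 za12) (ka xa31 ya41 za12) (ka xa21 ya56 za41) (ka xa21 ya56 za39) (ka xa32 ya24 za29) (ka xa30 ya20 za8) (ka xa26 ya6 za22) (ka xa32 ya3 za17) (ka xa30 ya40 za35) (ka xa26 ya10 za3) (ka xa31 ya9 za5) (ka xa32 ya3 za14) (ka xa31 ya5 za13) (ka xa31 ya37 za45) (ka xa32 ya16 za17) (ka xa32 ya16 za18) (ka xa32 ya16 za19) (ka xa29 ya10 za27) (ka xa28 ya42 za56) (ka xa31 ya8 za53) (ka xa19 ya55 za55) (ka xa19 ya55 za56) (ka xa19 ya55 za58) (ka xa31 ya7 za53) (ka xa30 ya47 za33) (ka xa30 ya37 za38) (ka xa20 ya0 za61) (ka xa31 ya0 za56) (ka xa31 ya7 za58) (ka xa32 ya23 za36) (ka xa30 ya52 za32) (ka xa31 ya18 za36) (ka xa31 ya30 za19) (ka xa31 ya29 za6) (ka xa32 ya23 za37) (ka xa32 ya16 za13) (ka xa32 ya16 za14) (ka xa32 ya16 za15) (ka xa32 ya16 za16) (ka xa31 ya10 za29) (ka xa31 ya8 za51) (ka xa25 ya40 za21)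 (ka xa30 ya51 za26)) (@D3.rec (fun _ => Pt) (ka xa31 ya29 za10) (ka xa26 ya42 za20) (ka xa26 ya42 za22) (ka xa22 ya43 za9) (ka xa31 ya10 za9) (ka xa29 ya6 za23) (ka xa29 ya49 za39) (ka xa29 ya9 za14) (ka xa23 ya28 za27) (ka xa29 ya49 za37) (ka xa23 ya31 za33) (ka xa30 ya2 za16) (ka xa23 ya31 za30) (ka xa23 ya31 za35) (ka xa23 ya31 za3) (ka xa32 ya8 za44) (ka xa23 ya25 za7) (ka xa30 ya32 za50) (ka xa30 ya33 za15) (ka xa31 ya2 za25) (ka xa22 ya31 za19) (ka xa31 ya6 za0) (ka xa21 ya57 za5) (ka xa23 ya31 za10) (ka xa32 ya42 za54) (ka xa29 ya15 za21) (ka xa19 ya56 za47) (ka xa19 ya56 za54) (ka xa26 ya41 za15) (ka xa23 ya59 za2) (ka xa31 ya25 za5) (ka xa25 ya6 za31) (ka xa27 ya44 za17) (ka xa31 ya46 za38) (ka xa31 ya46 za39) (ka xa22 ya22 za56) (ka xa28 ya47 za32) (ka xa28 ya48 za3) (ka xa19 ya57 za9) (ka xa28 ya42 za0) (ka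 xa25 ya50 za32) (ka xa26 ya44 za30) (ka xa26 ya44 za51) (ka xa22 ya6 za18) (ka xa25 ya14 za6) (ka xa22 ya8 za21) (ka xa31 ya45 za59) (ka xa19 ya57 za20) (ka xa31 ya46 za28) (ka xa31 ya46 za29) (ka xa30 ya8 za41) (ka xa31 ya46 za26) (ka xa29 ya0 za24) (ka xa31 ya46 za27) (ka xa27 ya43 za20) (ka xa24 ya20 za39) (ka xa26 ya10 za37) (ka xa24 ya36 za20) (ka xa21 ya48 za50) (ka xa28 ya53 za13) (ka xa20 ya13 za14) (ka xa31 ya47 za13)) (@D3.rec (fun _ => Pt) (ka xa25 ya57 za1) (ka xa19 ya58 za9) (ka xa19 ya58 za10) (ka xa19 ya58 za11) (ka xa31 ya52 za50) (ka xa19 ya58 za16) (ka xa19 ya58 za18) (ka xa28 ya51 za37) (ka xa26 ya34 za17) (ka xa29 ya36 za4) (ka xa25 ya9 za27) (ka xa25 ya9 za28) (ka xa25 ya9 za29) (ka xa31 ya41 za15) (ka xa19 ya58 za4) (ka xa19 ya58 za8) (ka xa30 ya14 za37) (ka xa20 ya54 za15) (ka xa31 ya41 za20) (ka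 xa30 ya0 za15) (ka xa28 ya51 za48) (ka xa29 ya35 za55) (ka xa24 ya1 za26) (ka xa32 ya17 za56) (ka xa24 ya34 za2) (ka xa29 ya38 za59) (ka xa28 ya59 za51) (ka xa32 ya20 za11) (ka xa31 ya48 za30) (ka xa29 ya35 za58) (ka xa25 ya20 za5) (ka xa24 ya4 za35) (ka xa28 ya59 za30) (ka xa32 ya43 za21) (ka xa31 ya59 za46) (ka xa25 ya20 za59) (ka xa25 ya20 za23) (ka xa19 ya58 za24) (ka xa26 ya46 za51) (ka xa19 ya58 za40) (ka xa30 ya20 za25) (ka xa31 ya40 za22) (ka xa28 ya1 za33) (ka xa30 ya9 za1) (ka xa28 ya1 za19) (ka xa28 ya53 za28) (ka xa31 ya47 za25) (ka xa31 ya47 za26) (ka xa19 ya58 za50) (ka xa19 ya58 za51) (ka xa28 ya51 za4) (ka xa31 ya36 za25) (ka xa32 ya42 za56) (ka xa31 ya57 za42) (ka xa31 ya1 za14) (ka xa31 ya9 za12) (ka xa31 ya8 za22) (ka xa31 ya9 za14) (ka xa31 ya9 za15) (ka xa23 ya29 za12) (ka xa19 ya59 za0) (ka xa27 ya0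 za49)) (@D3.rec (fun _ => Pt) (ka xa26 ya45 za50) (ka xa31 ya1 za12) (ka xa32 ya16 za21) (ka xa31 ya19 za43) (ka xa31 ya58 za2) (ka xa25 ya40 za7) (ka xa32 ya16 za22) (ka xa31 ya45 za44) (ka xa29 ya49 za58) (ka xa28 ya10 za19) (ka xa29 ya15 za3) (ka xa19 ya59 za19) (ka xa32 ya43 za28) (ka xa31 ya40 za38) (ka xa31 ya24 za35) (ka xa20 ya54 za14) (ka xa26 ya34 za22) (ka xa26 ya34 za21) (ka xa19 ya59 za24) (ka xa29 ya36 za18) (ka xa31 ya50 za16) (ka xa31 ya51 za57) (ka xa32 ya43 za31) (ka xa31 ya52 za37) (ka xa27 ya36 za59) (ka xa29 ya0 za12) (ka xa29 ya35 za3) (ka xa20 ya5 za25) (ka xa30 ya27 za12) (ka xa27 ya27 za34) (ka xa29 ya29 za53) (ka xa23 ya22 za21) (ka xa26 ya20 za33) (ka xa19 ya59 za44) (ka xa22 ya42 za21) (ka xa28 ya13 za32) (ka xa24 ya9 za10) (ka xa25 ya47 za8) (ka xa26 ya59 za61) (ka xa23 ya6 za43) (ka xa27 ya40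 za2) (ka xa30 ya12 za14) (ka xa26 ya47 za53) (ka xa26 ya24 za58) (ka xa28 ya0 za57) (ka xa26 ya49 za45) (ka xa23 ya4 za14) (ka xa22 ya31 za42) (ka xa20 ya0 za58) (ka xa24 ya54 za29) (ka xa32 ya16 za24) (ka xa20 ya36 za40) (ka xa26 ya50 za56) (ka xa20 ya1 za13) (ka xa26 ya25 za10) (ka xa26 ya28 za40) (ka xa27 ya9 za42) (ka xa27 ya9 za43) (ka xa26 ya27 za25) (ka xa29 ya50 za0) (ka xa23 ya19 za20) (ka xa29 ya18 za19)) (@D3.rec (fun _ => Pt) (ka xa20 ya1 za29) (ka xa25 ya29 za34) (ka xa23 ya10 za12) (ka xa29 ya14 za10) (ka xa20 ya42 za16) (ka xa26 ya35 za43) (ka xa26 ya35 za46) (ka xa20 ya1 za42) (ka xa29 ya43 za33) (ka xa24 ya33 za17) (ka xa20 ya1 za44) (ka xa29 ya43 za30) (ka xa28 ya35 za2) (ka xa20 ya1 za47) (ka xa32 ya43 za40) (ka xa28 ya55 za23) (ka xa26 ya53 za41) (ka xa26 ya54 za39) (ka xa32 ya43 za43) (ka xa31 ya17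 za12) (ka xa26 ya54 za34) (ka xa29 ya12 za25) (ka xa29 ya43 za44) (ka xa27 ya38 za12) (ka xa29 ya41 za51) (ka xa22 ya47 za36) (ka xa24 ya3 za19) (ka xa22 ya48 za3) (ka xa21 ya34 za57) (ka xa20 ya41 za36) (ka xa24 ya37 za36) (ka xa20 ya2 za15) (ka xa20 ya2 za16) (ka xa20 ya2 za17) (ka xa20 ya2 za18) (ka xa28 ya58 za7) (ka xa32 ya14 za50) (ka xa24 ya36 za58) (ka xa32 ya15 za20) (ka xa29 ya49 za26) (ka xa23 ya41 za10) (ka xa23 ya41 za4) (ka xa31 ya3 za30) (ka xa25 ya6 za32) (ka xa31 ya42 za9) (ka xa29 ya4 za58) (ka xa29 ya16 za21) (ka xa29 ya3 za41) (ka xa29 ya16 za22) (ka xa31 ya47 za27) (ka xa31 ya47 za28) (ka xa30 ya40 za17) (ka xa28 ya3 za21) (ka xa28 ya3 za20) (ka xa31 ya49 za30) (ka xa20 ya2 za32) (ka xa20 ya2 za33) (ka xa20 ya2 za34) (ka xa21 ya57 za56) (ka xa28 ya25 za29) (ka xa31 ya35 za33) (ka xa21 ya57 za11)) (@D3.rec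 (fun _ => Pt) (ka xa32 ya43 za49) (ka xa29 ya43 za12) (ka xa32 ya36 za57) (ka xa27 ya24 za20) (ka xa23 ya54 za53) (ka xa23 ya54 za50) (ka xa31 ya49 za21) (ka xa28 ya5 za55) (ka xa27 ya52 za31) (ka xa31 ya47 za15) (ka xa32 ya27 za37) (ka xa31 ya46 za23) (ka xa20 ya50 za20) (ka xa29 ya20 za51) (ka xa25 ya12 za45) (ka xa28 ya52 za53) (ka xa29 ya59 za17) (ka xa31 ya49 za39) (ka xa29 ya59 za15) (ka xa29 ya49 za19) (ka xa31 ya47 za29) (ka xa29 ya15 za46) (ka xa29 ya15 za48) (ka xa28 ya3 za39) (ka xa31 ya46 za17) (ka xa28 ya37 za57) (ka xa20 ya2 za61) (ka xa20 ya3 za0) (ka xa20 ya3 za1) (ka xa20 ya3 za2) (ka xa28 ya38 za8) (ka xa27 ya19 za40) (ka xa27 ya14 za15) (ka xa30 ya27 za41) (ka xa31 ya47 za16) (ka xa31 ya24 za25) (ka xa31 ya55 za3) (ka xa31 ya47 za20) (ka xa29 ya45 za13) (ka xa31 ya3 za60) (ka xa20 ya3 za14) (ka xa31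 ya47 za8) (ka xa32 ya38 za47) (ka xa31 ya59 za55) (ka xa32 ya43 za54) (ka xa31 ya47 za14) (ka xa24 ya36 za57) (ka xa30 ya14 za14) (ka xa20 ya3 za22) (ka xa20 ya3 za24) (ka xa32 ya3 za8) (ka xa29 ya0 za52) (ka xa20 ya3 za28) (ka xa24 ya11 za27) (ka xa31 ya49 za52) (ka xa31 ya37 za33) (ka xa29 ya23 za34) (ka xa24 ya22 za17) (ka xa29 ya17 za8) (ka xa27 ya39 za15) (ka xa27 ya4 za8) (ka xa31 ya36 za10)) (@D3.rec (fun _ => Pt) (ka xa21 ya57 za42) (ka xa29 ya41 za57) (ka xa21 ya23 za17) (ka xa24 ya41 za57) (ka xa20 ya3 za47) (ka xa29 ya58 za56) (ka xa31 ya59 za9) (ka xa22 ya2 za24) (ka xa29 ya16 za58) (ka xa21 ya0 za22) (ka xa31 ya36 za8) (ka xa20 ya3 za55) (ka xa29 ya4 za28) (ka xa31 ya20 za57) (ka xa30 ya3 za20) (ka xa21 ya50 za60) (ka xa31 ya37 za55) (ka xa27 ya43 za45) (ka xa26 ya44 za33) (ka xa29 ya3 za61) (ka xa30 ya20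 za17) (ka xa29 ya25 za49) (ka xa31 ya26 za57) (ka xa26 ya12 za35) (ka xa22 ya8 za16) (ka xa21 ya58 za46) (ka xa26 ya1 za38) (ka xa31 ya49 za60) (ka xa22 ya8 za46) (ka xa20 ya4 za14) (ka xa28 ya58 za10) (ka xa29 ya59 za35) (ka xa32 ya25 za22) (ka xa29 ya59 za21) (ka xa31 ya4 za54) (ka xa31 ya41 za60) (ka xa32 ya40 za31) (ka xa31 ya2 za51) (ka xa29 ya7 za20) (ka xa32 ya15 za55) (ka xa29 ya41 za48) (ka xa32 ya15 za56) (ka xa29 ya59 za12) (ka xa29 ya59 za11) (ka xa27 ya41 za14) (ka xa32 ya6 za15) (ka xa31 ya35 za32) (ka xa29 ya7 za26) (ka xa28 ya58 za16) (ka xa32 ya0 za23) (ka xa21 ya58 za15) (ka xa21 ya3 za36) (ka xa24 ya3 za18) (ka xa25 ya19 za56) (ka xa31 ya39 za39) (ka xa20 ya5 za6) (ka xa30 ya27 za7) (ka xa24 ya52 za19) (ka xa20 ya5 za17) (ka xa29 ya23 za38) (ka xa28 ya59 za45) (ka xa27 ya21 za52)) (@D3.rec (fun _ =>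 Pt) (ka xa31 ya21 za38) (ka xa24 ya1 za27) (ka xa31 ya35 za20) (ka xa24 ya27 za16) (ka xa31 ya18 za12) (ka xa26 ya2 za43) (ka xa28 ya54 za11) (ka xa20 ya5 za27) (ka xa20 ya12 za58) (ka xa20 ya12 za57) (ka xa20 ya5 za32) (ka xa20 ya5 za36) (ka xa21 ya38 za61) (ka xa20 ya6 za44) (ka xa29 ya7 za24) (ka xa28 ya0 za58) (ka xa20 ya32 za18) (ka xa26 ya25 za11) (ka xa22 ya31 za41) (ka xa29 ya14 za61) (ka xa22 ya46 za21) (ka xa26 ya50 za18) (ka xa25 ya39 za34) (ka xa23 ya30 za59) (ka xa21 ya4 za3) (ka xa20 ya7 za2) (ka xa20 ya7 za3) (ka xa21 ya41 za9) (ka xa32 ya7 za28) (ka xa31 ya42 za51) (ka xa20 ya7 za5) (ka xa26 ya17 za30) (ka xa29 ya20 za6) (ka xa25 ya54 za26) (ka xa26 ya17 za33) (ka xa31 ya42 za17) (ka xa25 ya54 za45) (ka xa28 ya44 za47) (ka xa26 ya25 za48) (ka xa20 ya52 za50) (ka xa31 ya42 za3) (ka xa20 ya20 za28) (ka xa20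 ya20 za29) (ka xa28 ya55 za49) (ka xa20 ya7 za39) (ka xa23 ya43 za49) (ka xa30 ya25 za12) (ka xa28 ya39 za12) (ka xa29 ya24 za47) (ka xa22 ya32 za15) (ka xa26 ya25 za47) (ka xa26 ya58 za5) (ka xa20 ya8 za57) (ka xa20 ya8 za58) (ka xa20 ya9 za2) (ka xa20 ya9 za4) (ka xa22 ya51 za15) (ka xa30 ya55 za6) (ka xa20 ya52 za49) (ka xa28 ya13 za30) (ka xa20 ya18 za31) (ka xa28 ya26 za5)) (@D3.rec (fun _ => Pt) (ka xa31 ya0 za22) (ka xa29 ya38 za34) (ka xa31 ya43 za21) (ka xa22 ya59 za55) (ka xa22 ya29 za25) (ka xa29 ya42 za41) (ka xa29 ya42 za40) (ka xa20 ya32 za10) (ka xa27 ya5 za17) (ka xa20 ya33 za41) (ka xa21 ya53 za40) (ka xa20 ya8 za44) (ka xa20 ya36 za37) (ka xa20 ya36 za38) (ka xa29 ya24 za4) (ka xa20 ya18 za30) (ka xa29 ya24 za5) (ka xa26 ya29 za38) (ka xa29 ya24 za2) (ka xa29 ya24 za3) (ka xa29 ya29 za6) (ka xa30 ya44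 za44) (ka xa30 ya48 za22) (ka xa30 ya51 za2) (ka xa30 ya43 za42) (ka xa30 ya33 za48) (ka xa30 ya51 za3) (ka xa29 ya29 za4) (ka xa20 ya25 za5) (ka xa29 ya30 za50) (ka xa28 ya26 za25) (ka xa26 ya28 za45) (ka xa28 ya45 za59) (ka xa26 ya20 za18) (ka xa28 ya38 za19) (ka xa21 ya57 za47) (ka xa30 ya51 za19) (ka xa21 ya9 za9) (ka xa27 ya11 za40) (ka xa26 ya52 za13) (ka xa30 ya30 za40) (ka xa22 ya40 za47) (ka xa32 ya6 za3) (ka xa21 ya33 za26) (ka xa26 ya45 za33) (ka xa31 ya42 za53) (ka xa32 ya6 za61) (ka xa28 ya9 za34) (ka xa20 ya10 za2) (ka xa32 ya1 za37) (ka xa29 ya21 za18) (ka xa20 ya10 za9) (ka xa20 ya10 za10) (ka xa25 ya57 za14) (ka xa23 ya55 za7) (ka xa32 ya17 za21) (ka xa32 ya17 za20) (ka xa24 ya8 za18) (ka xa28 ya18 za7) (ka xa29 ya25 za21) (ka xa32 ya7 za0) (ka xa30 ya24 za25)) (@D3.rec (fun _ => Pt) (ka xa32 ya16 za25)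 (ka xa24 ya8 za0) (ka xa22 ya33 za56) (ka xa29 ya38 za39) (ka xa29 ya31 za42) (ka xa27 ya55 za26) (ka xa29 ya18 za32) (ka xa32 ya6 za60) (ka xa31 ya43 za15) (ka xa28 ya7 za41) (ka xa28 ya18 za48) (ka xa28 ya8 za53) (ka xa26 ya32 za28) (ka xa22 ya42 za37) (ka xa22 ya39 za3) (ka xa29 ya23 za57) (ka xa31 ya22 za28) (ka xa20 ya12 za3) (ka xa20 ya12 za6) (ka xa20 ya12 za10) (ka xa20 ya12 za16) (ka xa20 ya12 za18) (ka xa24 ya21 za52) (ka xa27 ya55 za17) (ka xa26 ya19 za61) (ka xa26 ya20 za0) (ka xa26 ya19 za47) (ka xa23 ya51 za40) (ka xa28 ya46 za58) (ka xa20 ya10 za44) (ka xa31 ya54 za32) (ka xa32 ya6 za58) (ka xa32 ya6 za59) (ka xa26 ya32 za21) (ka xa23 ya50 za29) (ka xa25 ya24 za5) (ka xa23 ya51 za37) (ka xa28 ya7 za0) (ka xa32 ya7 za19) (ka xa31 ya25 za41) (ka xa29 ya24 za22) (ka xa29 ya24 za53) (ka xa29 ya24 za52) (ka xa20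 ya11 za0) (ka xa28 ya10 za12) (ka xa22 ya18 za14) (ka xa25 ya54 za41) (ka xa26 ya31 za42) (ka xa20 ya11 za9) (ka xa31 ya59 za48) (ka xa32 ya6 za35) (ka xa29 ya16 za13) (ka xa31 ya25 za14) (ka xa29 ya53 za8) (ka xa30 ya45 za32) (ka xa31 ya24 za59) (ka xa32 ya7 za52) (ka xa30 ya45 za24) (ka xa30 ya45 za25) (ka xa30 ya45 za27) (ka xa30 ya45 za28) (ka xa26 ya31 za38)) (@D3.rec (fun _ => Pt) (ka xa30 ya45 za30) (ka xa32 ya28 za51) (ka xa30 ya45 za20) (ka xa29 ya31 za59) (ka xa23 ya6 za52) (ka xa32 ya21 za31) (ka xa30 ya44 za47) (ka xa30 ya44 za48) (ka xa27 ya2 za9) (ka xa22 ya4 za48) (ka xa28 ya47 za43) (ka xa28 ya15 za8) (ka xa21 ya51 za43) (ka xa20 ya11 za27) (ka xa28 ya14 za13) (ka xa30 ya53 za33) (ka xa23 ya4 za36) (ka xa24 ya25 za20) (ka xa29 ya19 za50) (ka xa22 ya27 za31) (ka xa30 ya43 za2) (ka xa30 ya43 za3) (ka xa23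 ya4 za34) (ka xa30 ya48 za61) (ka xa26 ya59 za53) (ka xa28 ya51 za14) (ka xa30 ya39 za6) (ka xa20 ya52 za41) (ka xa29 ya24 za23) (ka xa26 ya56 za27) (ka xa29 ya24 za24) (ka xa28 ya54 za32) (ka xa23 ya0 za12) (ka xa28 ya55 za40) (ka xa32 ya16 za29) (ka xa30 ya36 za18) (ka xa31 ya25 za15) (ka xa28 ya36 za32) (ka xa30 ya49 za13) (ka xa28 ya8 za48) (ka xa29 ya38 za57) (ka xa21 ya51 za45) (ka xa32 ya0 za60) (ka xa20 ya19 za10) (ka xa27 ya11 za54) (ka xa25 ya25 za22) (ka xa20 ya14 za18) (ka xa20 ya17 za39) (ka xa20 ya17 za44) (ka xa20 ya12 za38) (ka xa20 ya16 za48) (ka xa20 ya21 za54) (ka xa20 ya12 za61) (ka xa30 ya3 za26) (ka xa21 ya41 za8) (ka xa22 ya3 za49) (ka xa25 ya54 za55) (ka xa25 ya54 za18) (ka xa31 ya26 za19) (ka xa26 ya2 za28) (ka xa20 ya13 za28) (ka xa20 ya13 za29)) (@D3.rec (fun _ => Pt) (ka xa30 ya59 za46) (ka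 xa26 ya8 za52) (ka xa29 ya31 za39) (ka xa20 ya24 za23) (ka xa26 ya48 za58) (ka xa28 ya43 za53) (ka xa31 ya7 za6) (ka xa23 ya45 za26) (ka xa25 ya36 za38) (ka xa25 ya17 za35) (ka xa20 ya13 za54) (ka xa23 ya32 za26) (ka xa20 ya15 za3) (ka xa20 ya15 za31) (ka xa20 ya15 za22) (ka xa20 ya15 za24) (ka xa32 ya28 za26) (ka xa32 ya8 za20) (ka xa20 ya14 za29) (ka xa20 ya14 za31) (ka xa21 ya44 za30) (ka xa21 ya52 za13) (ka xa20 ya16 za31) (ka xa20 ya14 za39) (ka xa21 ya47 za13) (ka xa20 ya20 za33) (ka xa25 ya32 za21) (ka xa20 ya17 za6) (ka xa25 ya12 za25) (ka xa20 ya50 za6) (ka xa29 ya57 za59) (ka xa21 ya32 za60) (ka xa27 ya0 za57) (ka xa27 ya36 za10) (ka xa21 ya27 za38) (ka xa22 ya36 za16) (ka xa29 ya31 za52) (ka xa27 ya0 za45) (ka xa21 ya47 za10) (ka xa32 ya16 za39) (ka xa29 ya6 za45) (ka xa20 ya17 za43) (ka xa30 ya12 za33) (ka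 xa24 ya18 za0) (ka xa24 ya19 za45) (ka xa22 ya3 za17) (ka xa21 ya58 za61) (ka xa20 ya36 za17) (ka xa29 ya59 za59) (ka xa20 ya15 za46) (ka xa29 ya38 za32) (ka xa29 ya3 za4) (ka xa26 ya50 za33) (ka xa21 ya19 za39) (ka xa30 ya5 za10) (ka xa21 ya52 za20) (ka xa20 ya16 za14) (ka xa20 ya16 za9) (ka xa27 ya41 za22) (ka xa31 ya50 za37) (ka xa20 ya16 za13) (ka xa32 ya18 za50)) (@D3.rec (fun _ => Pt) (ka xa26 ya3 za48) (ka xa31 ya35 za35) (ka xa21 ya45 za17) (ka xa21 ya59 za16) (ka xa24 ya17 za54) (ka xa32 ya3 za13) (ka xa29 ya38 za38) (ka xa29 ya25 za39) (ka xa31 ya30 za61) (ka xa27 ya38 za3) (ka xa32 ya15 za14) (ka xa22 ya23 za52) (ka xa24 ya25 za13) (ka xa21 ya47 za31) (ka xa31 ya24 za49) (ka xa20 ya48 za34) (ka xa30 ya42 za12) (ka xa23 ya31 za15) (ka xa21 ya45 za2) (ka xa20 ya17 za5) (ka xa31 ya36 za48) (ka xa21 ya32 za29) (ka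 xa29 ya40 za46) (ka xa20 ya17 za17) (ka xa31 ya28 za45) (ka xa31 ya17 za39) (ka xa22 ya2 za31) (ka xa27 ya4 za17) (ka xa27 ya30 za39) (ka xa22 ya10 za7) (ka xa22 ya2 za18) (ka xa29 ya28 za8) (ka xa25 ya23 za33) (ka xa32 ya24 za23) (ka xa29 ya16 za56) (ka xa29 ya0 za36) (ka xa20 ya49 za39) (ka xa20 ya17 za55) (ka xa29 ya17 za59) (ka xa20 ya49 za32) (ka xa20 ya49 za35) (ka xa20 ya50 za4) (ka xa21 ya36 za54) (ka xa20 ya50 za0) (ka xa20 ya49 za61) (ka xa20 ya18 za0) (ka xa30 ya54 za27) (ka xa24 ya35 za61) (ka xa20 ya49 za52) (ka xa20 ya50 za16) (ka xa20 ya18 za5) (ka xa30 ya54 za59) (ka xa20 ya18 za9) (ka xa30 ya50 za49) (ka xa25 ya30 za4) (ka xa26 ya58 za6) (ka xa26 ya58 za8) (ka xa29 ya20 za15) (ka xa31 ya12 za61) (ka xa20 ya18 za32) (ka xa20 ya18 za40) (ka xa31 ya39 za6)) (@D3.rec (fun _ => Pt) (ka xa32 ya17 za17) (ka xa26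 ya32 za0) (ka xa29 ya19 za18) (ka xa29 ya19 za19) (ka xa29 ya19 za14) (ka xa29 ya19 za16) (ka xa28 ya27 za50) (ka xa28 ya26 za20) (ka xa29 ya7 za58) (ka xa20 ya18 za29) (ka xa30 ya58 za30) (ka xa29 ya32 za37) (ka xa32 ya7 za1) (ka xa25 ya18 za23) (ka xa26 ya22 za61) (ka xa27 ya17 za4) (ka xa29 ya29 za61) (ka xa26 ya32 za52) (ka xa23 ya24 za30) (ka xa27 ya42 za24) (ka xa27 ya12 za16) (ka xa31 ya45 za32) (ka xa29 ya20 za40) (ka xa29 ya21 za28) (ka xa29 ya21 za30) (ka xa25 ya26 za44) (ka xa32 ya1 za42) (ka xa29 ya27 za11) (ka xa21 ya45 za13) (ka xa27 ya0 za56) (ka xa21 ya38 za27) (ka xa20 ya19 za47) (ka xa24 ya46 za60) (ka xa20 ya19 za53) (ka xa32 ya22 za0) (ka xa30 ya12 za19) (ka xa29 ya27 za6) (ka xa32 ya42 za48) (ka xa29 ya30 za60) (ka xa26 ya26 za53) (ka xa24 ya23 za17) (ka xa23 ya4 za0) (ka xa22 ya29 za53) (ka xa20 ya38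 za30) (ka xa29 ya42 za51) (ka xa24 ya27 za49) (ka xa22 ya36 za7) (ka xa29 ya18 za48) (ka xa29 ya45 za41) (ka xa31 ya24 za18) (ka xa20 ya53 za59) (ka xa27 ya34 za38) (ka xa29 ya20 za42) (ka xa29 ya20 za41) (ka xa20 ya20 za55) (ka xa21 ya53 za6) (ka xa27 ya49 za53) (ka xa29 ya28 za44) (ka xa29 ya54 za25) (ka xa28 ya46 za25) (ka xa32 ya29 za49) (ka xa26 ya17 za45)) (@D3.rec (fun _ => Pt) (ka xa29 ya54 za22) (ka xa29 ya54 za23) (ka xa28 ya8 za59) (ka xa27 ya38 za61) (ka xa26 ya18 za25) (ka xa22 ya29 za22) (ka xa22 ya49 za46) (ka xa22 ya49 za47) (ka xa22 ya51 za52) (ka xa22 ya49 za49) (ka xa20 ya21 za22) (ka xa24 ya54 za55) (ka xa32 ya25 za55) (ka xa20 ya21 za23) (ka xa25 ya45 za17) (ka xa27 ya50 za4) (ka xa29 ya54 za17) (ka xa27 ya51 za60) (ka xa28 ya9 za31) (ka xa27 ya40 za15) (ka xa22 ya17 za16) (ka xa29 ya19 za59) (ka xa22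 ya26 za60) (ka xa26 ya49 za27) (ka xa25 ya55 za29) (ka xa20 ya21 za46) (ka xa28 ya23 za6) (ka xa28 ya23 za26) (ka xa28 ya23 za9) (ka xa20 ya21 za59) (ka xa28 ya24 za37) (ka xa20 ya47 za39) (ka xa32 ya1 za10) (ka xa20 ya21 za58) (ka xa32 ya44 za28) (ka xa23 ya49 za23) (ka xa20 ya24 za28) (ka xa20 ya22 za47) (ka xa20 ya38 za7) (ka xa29 ya23 za7) (ka xa20 ya22 za56) (ka xa24 ya20 za22) (ka xa28 ya49 za16) (ka xa31 ya22 za44) (ka xa29 ya27 za35) (ka xa20 ya24 za35) (ka xa26 ya53 za61) (ka xa21 ya0 za3) (ka xa28 ya57 za15) (ka xa29 ya17 za21) (ka xa21 ya20 za27) (ka xa20 ya23 za48) (ka xa20 ya23 za49) (ka xa20 ya23 za51) (ka xa20 ya48 za53) (ka xa20 ya23 za54) (ka xa20 ya23 za56) (ka xa26 ya39 za51) (ka xa20 ya23 za59) (ka xa20 ya24 za6) (ka xa29 ya55 za56) (ka xa30 ya4 za10)) (@D3.rec (fun _ => Pt) (ka xa20 ya59 za25) (ka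 xa22 ya33 za37) (ka xa22 ya33 za38) (ka xa24 ya18 za44) (ka xa28 ya20 za38) (ka xa29 ya39 za59) (ka xa30 ya24 za44) (ka xa30 ya31 za10) (ka xa32 ya24 za14) (ka xa31 ya29 za18) (ka xa28 ya48 za57) (ka xa31 ya29 za17) (ka xa24 ya22 za50) (ka xa29 ya26 za33) (ka xa30 ya29 za37) (ka xa32 ya37 za41) (ka xa32 ya13 za45) (ka xa20 ya23 za50) (ka xa32 ya44 za33) (ka xa24 ya2 za49) (ka xa30 ya29 za53) (ka xa26 ya39 za4) (ka xa26 ya39 za6) (ka xa20 ya38 za45) (ka xa26 ya40 za10) (ka xa26 ya39 za58) (ka xa31 ya29 za21) (ka xa31 ya27 za10) (ka xa31 ya48 za56) (ka xa20 ya23 za58) (ka xa32 ya44 za36) (ka xa29 ya44 za37) (ka xa20 ya38 za39) (ka xa29 ya26 za13) (ka xa26 ya39 za2) (ka xa26 ya51 za44) (ka xa28 ya43 za58) (ka xa21 ya29 za16) (ka xa27 ya41 za28) (ka xa29 ya55 za58) (ka xa27 ya11 za55) (ka xa29 ya47 za19) (ka xa26 ya27 za58)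 (ka xa29 ya7 za21) (ka xa22 ya39 za9) (ka xa23 ya59 za39) (ka xa24 ya21 za1) (ka xa30 ya2 za56) (ka xa31 ya2 za52) (ka xa30 ya2 za46) (ka xa31 ya2 za59) (ka xa32 ya27 za46) (ka xa31 ya58 za40) (ka xa29 ya58 za14) (ka xa29 ya39 za39) (ka xa31 ya1 za61) (ka xa30 ya3 za58) (ka xa23 ya13 za2) (ka xa23 ya8 za54) (ka xa30 ya3 za59) (ka xa23 ya52 za56) (ka xa24 ya15 za46)) (@D3.rec (fun _ => Pt) (ka xa26 ya23 za37) (ka xa29 ya8 za14) (ka xa29 ya38 za36) (ka xa29 ya8 za52) (ka xa23 ya12 za8) (ka xa24 ya6 za58) (ka xa29 ya24 za36) (ka xa28 ya56 za22) (ka xa22 ya47 za29) (ka xa27 ya5 za26) (ka xa27 ya5 za27) (ka xa29 ya24 za27) (ka xa23 ya8 za41) (ka xa29 ya54 za4) (ka xa20 ya54 za21) (ka xa20 ya26 za33) (ka xa31 ya34 za28) (ka xa26 ya54 za41) (ka xa31 ya51 za56) (ka xa30 ya26 za60) (ka xa31 ya21 za18) (ka xa31 ya50 za15) (ka xa20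 ya26 za38) (ka xa32 ya44 za45) (ka xa29 ya41 za38) (ka xa31 ya34 za22) (ka xa20 ya26 za42) (ka xa31 ya34 za21) (ka xa30 ya27 za14) (ka xa27 ya37 za4) (ka xa31 ya22 za2) (ka xa26 ya54 za43) (ka xa29 ya35 za36) (ka xa31 ya51 za58) (ka xa29 ya0 za0) (ka xa29 ya25 za44) (ka xa29 ya0 za2) (ka xa25 ya11 za31) (ka xa27 ya20 za12) (ka xa30 ya27 za33) (ka xa24 ya12 za38) (ka xa24 ya12 za39) (ka xa25 ya26 za29) (ka xa29 ya53 za22) (ka xa21 ya54 za56) (ka xa28 ya25 za15) (ka xa27 ya19 za51) (ka xa23 ya30 za44) (ka xa26 ya57 za14) (ka xa31 ya28 za27) (ka xa26 ya56 za28) (ka xa23 ya5 za20) (ka xa20 ya28 za23) (ka xa20 ya39 za6) (ka xa32 ya13 za10) (ka xa28 ya48 za11) (ka xa28 ya25 za2) (ka xa20 ya28 za38) (ka xa22 ya22 za3) (ka xa26 ya45 za3) (ka xa23 ya53 za20) (ka xa32 ya27 za60)) (@D3.rec (fun _ => Pt) (ka xa26 ya24 za36) (ka xa20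 ya52 za57) (ka xa20 ya52 za58) (ka xa29 ya29 za38) (ka xa23 ya56 za34) (ka xa24 ya14 za37) (ka xa31 ya50 za27) (ka xa30 ya16 za52) (ka xa29 ya23 za31) (ka xa26 ya50 za12) (ka xa22 ya21 za46) (ka xa29 ya0 za51) (ka xa21 ya0 za17) (ka xa20 ya44 za3) (ka xa20 ya44 za5) (ka xa22 ya52 za55) (ka xa20 ya29 za14) (ka xa32 ya44 za53) (ka xa27 ya44 za10) (ka xa32 ya28 za7) (ka xa27 ya39 za21) (ka xa31 ya33 za8) (ka xa24 ya9 za0) (ka xa28 ya34 za51) (ka xa28 ya34 za45) (ka xa22 ya17 za14) (ka xa32 ya8 za58) (ka xa32 ya8 za59) (ka xa22 ya52 za27) (ka xa22 ya52 za31) (ka xa28 ya23 za22) (ka xa31 ya44 za8) (ka xa30 ya48 za19) (ka xa30 ya39 za55) (ka xa31 ya44 za5) (ka xa31 ya44 za6) (ka xa20 ya29 za37) (ka xa27 ya15 za57) (ka xa27 ya13 za18) (ka xa27 ya21 za54) (ka xa27 ya12 za36) (ka xa30 ya24 za28) (ka xa30 ya23 za57) (ka xa32 ya8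 za39) (ka xa29 ya24 za57) (ka xa32 ya8 za40) (ka xa23 ya41 za11) (ka xa32 ya17 za2) (ka xa26 ya48 za34) (ka xa26 ya48 za43) (ka xa25 ya16 za10) (ka xa27 ya10 za34) (ka xa26 ya53 za55) (ka xa26 ya6 za9) (ka xa26 ya30 za14) (ka xa26 ya30 za15) (ka xa27 ya8 za17) (ka xa27 ya8 za19) (ka xa27 ya8 za20) (ka xa29 ya29 za28) (ka xa29 ya28 za61) (ka xa29 ya28 za60)) (@D3.rec (fun _ => Pt) (ka xa30 ya44 za10) (ka xa27 ya42 za59) (ka xa32 ya18 za8) (ka xa31 ya50 za24) (ka xa29 ya19 za27) (ka xa31 ya50 za25) (ka xa29 ya19 za20) (ka xa20 ya52 za48) (ka xa22 ya21 za58) (ka xa20 ya53 za5) (ka xa25 ya21 za21) (ka xa21 ya9 za7) (ka xa23 ya8 za55) (ka xa32 ya44 za60) (ka xa23 ya15 za10) (ka xa21 ya44 za1) (ka xa20 ya32 za8) (ka xa20 ya32 za17) (ka xa24 ya59 za45) (ka xa20 ya31 za1) (ka xa20 ya32 za50) (ka xa20 ya33 za19) (ka xa23 ya52 za24)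 (ka xa20 ya33 za28) (ka xa20 ya33 za31) (ka xa27 ya3 za19) (ka xa28 ya35 za46) (ka xa24 ya9 za8) (ka xa29 ya28 za59) (ka xa28 ya18 za16) (ka xa29 ya8 za47) (ka xa32 ya18 za14) (ka xa32 ya18 za15) (ka xa30 ya32 za18) (ka xa22 ya50 za10) (ka xa26 ya31 za9) (ka xa26 ya31 za10) (ka xa26 ya31 za11) (ka xa29 ya28 za3) (ka xa21 ya28 za36) (ka xa31 ya50 za9) (ka xa27 ya1 za18) (ka xa23 ya20 za44) (ka xa28 ya15 za4) (ka xa25 ya46 za38) (ka xa25 ya46 za39) (ka xa26 ya26 za27) (ka xa29 ya55 za40) (ka xa29 ya54 za40) (ka xa29 ya39 za21) (ka xa31 ya13 za25) (ka xa32 ya4 za16) (ka xa32 ya16 za42) (ka xa29 ya14 za30) (ka xa31 ya44 za50) (ka xa28 ya3 za10) (ka xa32 ya42 za42) (ka xa30 ya32 za5) (ka xa22 ya34 za26) (ka xa23 ya15 za44) (ka xa23 ya25 za49) (ka xa29 ya24 za16)) (@D3.rec (fun _ => Pt) (ka xa24 ya30 za57) (ka xa23 ya54 za39)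 (ka xa24 ya59 za23) (ka xa25 ya16 za1) (ka xa23 ya20 za42) (ka xa22 ya53 za18) (ka xa22 ya53 za15) (ka xa23 ya31 za58) (ka xa23 ya15 za51) (ka xa23 ya15 za49) (ka xa27 ya3 za36) (ka xa31 ya2 za28) (ka xa23 ya21 za29) (ka xa20 ya33 za8) (ka xa22 ya57 za34) (ka xa23 ya52 za29) (ka xa23 ya12 za19) (ka xa31 ya22 za23) (ka xa28 ya0 za43) (ka xa22 ya25 za56) (ka xa24 ya10 za58) (ka xa31 ya23 za0) (ka xa27 ya13 za6) (ka xa21 ya15 za60) (ka xa26 ya8 za44) (ka xa26 ya8 za45) (ka xa32 ya15 za16) (ka xa24 ya13 za40) (ka xa30 ya50 za39) (ka xa28 ya11 za19) (ka xa25 ya18 za30) (ka xa32 ya19 za37) (ka xa23 ya47 za22) (ka xa31 ya22 za29) (ka xa24 ya28 za43) (ka xa27 ya39 za24) (ka xa24 ya2 za52) (ka xa28 ya23 za36) (ka xa28 ya25 za25) (ka xa24 ya1 za56) (ka xa28 ya25 za26) (ka xa23 ya55 za37) (ka xa23 ya54 za1) (ka xa23 ya13 za33) (ka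 xa28 ya23 za23) (ka xa28 ya25 za27) (ka xa27 ya6 za41) (ka xa23 ya9 za23) (ka xa30 ya43 za28) (ka xa24 ya28 za55) (ka xa29 ya19 za29) (ka xa28 ya55 za1) (ka xa27 ya15 za25) (ka xa28 ya25 za16) (ka xa24 ya39 za27) (ka xa28 ya25 za11) (ka xa22 ya37 za0) (ka xa21 ya44 za20) (ka xa27 ya50 za12) (ka xa21 ya44 za26) (ka xa29 ya24 za38) (ka xa22 ya17 za1)) (@D3.rec (fun _ => Pt) (ka xa32 ya9 za4) (ka xa22 ya56 za47) (ka xa26 ya0 za47) (ka xa21 ya1 za15) (ka xa20 ya36 za20) (ka xa20 ya36 za28) (ka xa20 ya36 za31) (ka xa20 ya36 za39) (ka xa20 ya36 za55) (ka xa20 ya36 za57) (ka xa20 ya37 za3) (ka xa20 ya37 za4) (ka xa20 ya37 za7) (ka xa20 ya37 za10) (ka xa31 ya25 za25) (ka xa20 ya37 za15) (ka xa20 ya37 za18) (ka xa28 ya51 za6) (ka xa20 ya37 za24) (ka xa27 ya20 za26) (ka xa20 ya38 za32) (ka xa24 ya26 za21) (ka xa20 ya38 za46) (ka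 xa32 ya12 za15) (ka xa20 ya39 za19) (ka xa20 ya39 za30) (ka xa20 ya39 za29) (ka xa29 ya47 za33) (ka xa20 ya39 za27) (ka xa31 ya34 za61) (ka xa31 ya35 za0) (ka xa32 ya12 za37) (ka xa28 ya58 za31) (ka xa32 ya11 za4) (ka xa28 ya56 za37) (ka xa31 ya35 za4) (ka xa20 ya39 za37) (ka xa20 ya39 za40) (ka xa20 ya39 za42) (ka xa29 ya22 za2) (ka xa27 ya36 za12) (ka xa24 ya54 za32) (ka xa29 ya20 za4) (ka xa26 ya30 za4) (ka xa28 ya36 za0) (ka xa28 ya13 za9) (ka xa26 ya11 za20) (ka xa22 ya56 za49) (ka xa26 ya21 za54) (ka xa32 ya10 za29) (ka xa31 ya37 za59) (ka xa21 ya28 za57) (ka xa29 ya22 za36) (ka xa25 ya56 za17) (ka xa21 ya18 za47) (ka xa23 ya0 za57) (ka xa30 ya24 za29) (ka xa32 ya45 za3) (ka xa32 ya13 za27) (ka xa29 ya21 za3) (ka xa31 ya42 za34) (ka xa26 ya26 za42)) (@D3.rec (fun _ => Pt) (ka xa30 ya49 za57) (ka xa32 ya9 za1) (ka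 xa29 ya43 za7) (ka xa29 ya43 za6) (ka xa24 ya7 za27) (ka xa26 ya27 za49) (ka xa24 ya30 za22) (ka xa26 ya27 za54) (ka xa24 ya8 za16) (ka xa24 ya7 za13) (ka xa20 ya36 za50) (ka xa28 ya39 za5) (ka xa22 ya56 za19) (ka xa26 ya27 za41) (ka xa26 ya26 za45) (ka xa32 ya18 za46) (ka xa24 ya8 za15) (ka xa26 ya27 za33) (ka xa32 ya18 za45) (ka xa30 ya55 za41) (ka xa30 ya53 za43) (ka xa30 ya48 za57) (ka xa29 ya46 za33) (ka xa21 ya39 za39) (ka xa30 ya26 za44) (ka xa32 ya14 za11) (ka xa24 ya8 za39) (ka xa32 ya8 za36) (ka xa26 ya17 za41) (ka xa22 ya1 za42) (ka xa31 ya25 za22) (ka xa31 ya25 za24) (ka xa20 ya37 za22) (ka xa29 ya39 za45) (ka xa28 ya50 za25) (ka xa29 ya43 za22) (ka xa32 ya19 za14) (ka xa29 ya24 za11) (ka xa30 ya32 za37) (ka xa21 ya5 za10) (ka xa21 ya1 za2) (ka xa30 ya3 za18) (ka xa24 ya19 za19) (ka xa24 ya19 za20) (ka xa27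 ya0 za59) (ka xa31 ya47 za50) (ka xa24 ya19 za13) (ka xa24 ya19 za14) (ka xa21 ya46 za58) (ka xa20 ya37 za59) (ka xa27 ya51 za12) (ka xa32 ya9 za47) (ka xa26 ya4 za29) (ka xa29 ya51 za56) (ka xa23 ya50 za57) (ka xa26 ya39 za8) (ka xa26 ya39 za9) (ka xa26 ya38 za46) (ka xa26 ya38 za61) (ka xa26 ya46 za23) (ka xa26 ya46 za24) (ka xa28 ya3 za22)) (@D3.rec (fun _ => Pt) (ka xa21 ya47 za11) (ka xa26 ya33 za25) (ka xa26 ya38 za45) (ka xa26 ya33 za21) (ka xa32 ya38 za28) (ka xa26 ya37 za21) (ka xa28 ya55 za57) (ka xa31 ya55 za46) (ka xa32 ya13 za43) (ka xa32 ya21 za44) (ka xa32 ya37 za49) (ka xa28 ya34 za24) (ka xa28 ya55 za42) (ka xa28 ya55 za43) (ka xa20 ya57 za17) (ka xa25 ya25 za54) (ka xa26 ya36 za17) (ka xa29 ya33 za49) (ka xa20 ya38 za57) (ka xa20 ya38 za58) (ka xa28 ya40 za30) (ka xa32 ya45 za29) (ka xa30 ya27 za48) (ka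 xa22 ya1 za6) (ka xa27 ya16 za10) (ka xa32 ya17 za7) (ka xa32 ya17 za8) (ka xa32 ya17 za4) (ka xa32 ya17 za9) (ka xa29 ya45 za56) (ka xa32 ya11 za49) (ka xa32 ya11 za50) (ka xa32 ya17 za3) (ka xa32 ya12 za50) (ka xa22 ya25 za38) (ka xa21 ya1 za26) (ka xa20 ya56 za60) (ka xa22 ya27 za27) (ka xa28 ya42 za15) (ka xa32 ya11 za45) (ka xa20 ya39 za9) (ka xa27 ya0 za31) (ka xa30 ya29 za20) (ka xa32 ya20 za56) (ka xa31 ya26 za4) (ka xa26 ya35 za31) (ka xa29 ya45 za58) (ka xa27 ya0 za26) (ka xa20 ya39 za18) (ka xa29 ya33 za17) (ka xa32 ya45 za42) (ka xa32 ya45 za43) (ka xa22 ya1 za5) (ka xa32 ya14 za35) (ka xa20 ya39 za22) (ka xa32 ya13 za59) (ka xa31 ya34 za30) (ka xa31 ya34 za12) (ka xa32 ya37 za52) (ka xa29 ya46 za19) (ka xa22 ya1 za41) (ka xa27 ya0 za15)) (@D3.rec (fun _ => Pt) (ka xa24 ya11 za48) (ka xa29 ya46 za36) (ka xa28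 ya35 za10) (ka xa31 ya21 za51) (ka xa20 ya39 za32) (ka xa32 ya45 za6) (ka xa32 ya45 za5) (ka xa28 ya54 za25) (ka xa27 ya14 za48) (ka xa32 ya14 za10) (ka xa32 ya14 za12) (ka xa20 ya39 za34) (ka xa31 ya34 za10) (ka xa28 ya54 za44) (ka xa22 ya1 za26) (ka xa28 ya54 za42) (ka xa20 ya39 za36) (ka xa27 ya16 za6) (ka xa27 ya16 za5) (ka xa22 ya25 za19) (ka xa32 ya45 za9) (ka xa32 ya40 za19) (ka xa32 ya45 za10) (ka xa27 ya15 za61) (ka xa20 ya39 za38) (ka xa27 ya16 za13) (ka xa28 ya30 za0) (ka xa28 ya39 za25) (ka xa31 ya14 za5) (ka xa29 ya47 za27) (ka xa29 ya46 za14) (ka xa29 ya43 za10) (ka xa20 ya57 za51) (ka xa26 ya41 za13) (ka xa30 ya17 za27) (ka xa26 ya46 za37) (ka xa25 ya34 za49) (ka xa20 ya43 za32) (ka xa20 ya39 za54) (ka xa22 ya13 za39) (ka xa30 ya27 za56) (ka xa22 ya13 za38) (ka xa27 ya15 za19) (ka xa31 ya13 za17) (ka xa24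 ya22 za30) (ka xa31 ya54 za52) (ka xa31 ya17 za33) (ka xa27 ya43 za60) (ka xa29 ya46 za34) (ka xa24 ya3 za27) (ka xa24 ya3 za34) (ka xa20 ya40 za13) (ka xa23 ya8 za60) (ka xa20 ya50 za38) (ka xa20 ya50 za40) (ka xa25 ya53 za17) (ka xa24 ya33 za6) (ka xa21 ya37 za27) (ka xa24 ya15 za33) (ka xa27 ya19 za33) (ka xa21 ya3 za34) (ka xa21 ya3 za37)) (@D3.rec (fun _ => Pt) (ka xa28 ya56 za50) (ka xa23 ya48 za6) (ka xa26 ya50 za38) (ka xa29 ya14 za26) (ka xa22 ya42 za30) (ka xa26 ya51 za9) (ka xa25 ya40 za25) (ka xa28 ya35 za34) (ka xa20 ya41 za10) (ka xa21 ya3 za49) (ka xa30 ya23 za35) (ka xa30 ya28 za35) (ka xa20 ya42 za48) (ka xa20 ya42 za49) (ka xa20 ya42 za51) (ka xa20 ya42 za52) (ka xa20 ya42 za53) (ka xa20 ya42 za54) (ka xa23 ya48 za3) (ka xa20 ya42 za58) (ka xa20 ya42 za59) (ka xa20 ya42 za60) (ka xa23 ya48 za4) (ka xa20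 ya43 za5) (ka xa20 ya43 za10) (ka xa30 ya49 za17) (ka xa21 ya54 za8) (ka xa24 ya36 za56) (ka xa31 ya36 za44) (ka xa20 ya43 za29) (ka xa24 ya37 za37) (ka xa27 ya38 za15) (ka xa20 ya42 za4) (ka xa20 ya42 za5) (ka xa24 ya48 za35) (ka xa20 ya41 za42) (ka xa29 ya27 za32) (ka xa20 ya42 za15) (ka xa20 ya41 za49) (ka xa23 ya52 za21) (ka xa31 ya22 za32) (ka xa30 ya20 za49) (ka xa30 ya45 za3) (ka xa30 ya21 za40) (ka xa23 ya48 za49) (ka xa26 ya53 za58) (ka xa26 ya53 za59) (ka xa26 ya53 za60) (ka xa26 ya54 za6) (ka xa26 ya53 za50) (ka xa30 ya19 za26) (ka xa26 ya53 za51) (ka xa28 ya30 za56) (ka xa31 ya13 za36) (ka xa31 ya24 za15) (ka xa29 ya13 za21) (ka xa26 ya54 za11) (ka xa26 ya54 za14) (ka xa29 ya13 za29) (ka xa31 ya55 za58) (ka xa20 ya42 za3) (ka xa31 ya47 za48)) (@D3.rec (fun _ => Pt) (ka xa25 ya35 za1) (ka xa26 ya54 za10) (ka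 xa28 ya35 za4) (ka xa24 ya51 za61) (ka xa29 ya13 za9) (ka xa25 ya23 za34) (ka xa28 ya49 za54) (ka xa32 ya41 za35) (ka xa32 ya36 za34) (ka xa20 ya42 za11) (ka xa32 ya46 za1) (ka xa32 ya46 za2) (ka xa32 ya46 za3) (ka xa32 ya46 za4) (ka xa32 ya25 za23) (ka xa25 ya35 za5) (ka xa32 ya27 za20) (ka xa26 ya54 za26) (ka xa29 ya14 za19) (ka xa32 ya3 za24) (ka xa30 ya8 za20) (ka xa27 ya23 za12) (ka xa24 ya17 za47) (ka xa25 ya32 za8) (ka xa27 ya42 za39) (ka xa28 ya59 za19) (ka xa29 ya41 za26) (ka xa29 ya41 za27) (ka xa23 ya48 za53) (ka xa30 ya19 za8) (ka xa24 ya1 za46) (ka xa31 ya22 za42) (ka xa23 ya14 za40) (ka xa30 ya30 za28) (ka xa30 ya22 za52) (ka xa23 ya13 za20) (ka xa29 ya36 za37) (ka xa29 ya36 za36) (ka xa30 ya30 za38) (ka xa26 ya24 za17) (ka xa26 ya52 za14) (ka xa29 ya38 za37) (ka xa22 ya38 za31) (ka xa30 ya38 za18) (ka xa32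 ya37 za8) (ka xa30 ya22 za31) (ka xa31 ya13 za14) (ka xa31 ya43 za20) (ka xa22 ya14 za29) (ka xa24 ya38 za38) (ka xa22 ya14 za20) (ka xa30 ya22 za43) (ka xa22 ya14 za16) (ka xa30 ya34 za41) (ka xa32 ya17 za1) (ka xa28 ya37 za46) (ka xa28 ya47 za9) (ka xa32 ya27 za7) (ka xa30 ya30 za46) (ka xa31 ya13 za35) (ka xa32 ya17 za0) (ka xa22 ya25 za59)) (@D3.rec (fun _ => Pt) (ka xa32 ya9 za9) (ka xa28 ya33 za10) (ka xa30 ya22 za41) (ka xa20 ya43 za11) (ka xa30 ya49 za16) (ka xa32 ya46 za22) (ka xa32 ya19 za31) (ka xa32 ya19 za32) (ka xa30 ya55 za40) (ka xa24 ya36 za55) (ka xa24 ya16 za13) (ka xa20 ya43 za22) (ka xa24 ya37 za1) (ka xa30 ya12 za30) (ka xa28 ya29 za31) (ka xa22 ya54 za58) (ka xa22 ya48 za25) (ka xa24 ya37 za24) (ka xa32 ya18 za7) (ka xa25 ya30 za3) (ka xa32 ya44 za50) (ka xa32 ya2 za1) (ka xa29 ya7 za4) (ka xa25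 ya12 za3) (ka xa27 ya22 za47) (ka xa30 ya55 za43) (ka xa29 ya7 za13) (ka xa20 ya43 za46) (ka xa25 ya9 za1) (ka xa24 ya18 za43) (ka xa20 ya43 za49) (ka xa24 ya37 za4) (ka xa25 ya8 za10) (ka xa31 ya57 za2) (ka xa20 ya43 za55) (ka xa30 ya46 za3) (ka xa31 ya31 za21) (ka xa22 ya59 za36) (ka xa20 ya43 za58) (ka xa32 ya34 za32) (ka xa22 ya7 za4) (ka xa27 ya15 za55) (ka xa27 ya15 za54) (ka xa29 ya41 za20) (ka xa29 ya41 za19) (ka xa22 ya54 za55) (ka xa25 ya35 za27) (ka xa25 ya35 za26) (ka xa30 ya8 za32) (ka xa25 ya27 za58) (ka xa27 ya13 za48) (ka xa27 ya13 za49) (ka xa27 ya13 za50) (ka xa27 ya13 za51) (ka xa26 ya50 za45) (ka xa27 ya13 za52) (ka xa27 ya13 za53) (ka xa32 ya20 za55) (ka xa27 ya21 za8) (ka xa20 ya56 za28) (ka xa32 ya14 za34) (ka xa32 ya20 za57)) (@D3.rec (fun _ => Pt) (ka xa32 ya20 za58) (ka xa28 ya51 za11) (ka xa20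 ya58 za28) (ka xa20 ya47 za37) (ka xa20 ya47 za38) (ka xa20 ya47 za45) (ka xa29 ya38 za12) (ka xa20 ya47 za51) (ka xa20 ya47 za53) (ka xa27 ya5 za15) (ka xa24 ya25 za19) (ka xa20 ya48 za5) (ka xa29 ya38 za6) (ka xa29 ya39 za51) (ka xa30 ya28 za45) (ka xa20 ya49 za20) (ka xa20 ya48 za48) (ka xa26 ya25 za32) (ka xa29 ya49 za10) (ka xa27 ya22 za57) (ka xa28 ya47 za45) (ka xa27 ya43 za10) (ka xa22 ya56 za0) (ka xa27 ya15 za28) (ka xa20 ya45 za23) (ka xa20 ya45 za26) (ka xa29 ya54 za5) (ka xa27 ya56 za26) (ka xa23 ya49 za39) (ka xa23 ya47 za28) (ka xa30 ya47 za29) (ka xa22 ya17 za17) (ka xa29 ya22 za50) (ka xa28 ya56 za15) (ka xa29 ya19 za1) (ka xa28 ya17 za51) (ka xa29 ya27 za2) (ka xa29 ya36 za41) (ka xa29 ya23 za6) (ka xa29 ya20 za3) (ka xa23 ya50 za58) (ka xa26 ya30 za9) (ka xa29 ya39 za15) (ka xa23 ya22 za5) (ka xa26 ya27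 za16) (ka xa26 ya20 za61) (ka xa20 ya45 za45) (ka xa27 ya28 za60) (ka xa29 ya2 za31) (ka xa30 ya24 za56) (ka xa23 ya3 za25) (ka xa24 ya57 za0) (ka xa27 ya3 za28) (ka xa23 ya58 za5) (ka xa20 ya45 za59) (ka xa27 ya11 za53) (ka xa22 ya23 za45) (ka xa29 ya21 za40) (ka xa30 ya9 za8) (ka xa29 ya13 za25) (ka xa28 ya47 za26) (ka xa30 ya9 za5)) (@D3.rec (fun _ => Pt) (ka xa21 ya23 za23) (ka xa24 ya39 za47) (ka xa29 ya1 za21) (ka xa30 ya25 za5) (ka xa28 ya31 za3) (ka xa26 ya40 za38) (ka xa20 ya46 za39) (ka xa26 ya51 za57) (ka xa26 ya44 za3) (ka xa27 ya1 za58) (ka xa26 ya50 za42) (ka xa28 ya16 za23) (ka xa28 ya16 za24) (ka xa23 ya1 za42) (ka xa28 ya18 za39) (ka xa29 ya38 za42) (ka xa32 ya28 za36) (ka xa32 ya6 za19) (ka xa28 ya44 za2) (ka xa26 ya51 za34) (ka xa28 ya23 za55) (ka xa29 ya29 za49) (ka xa31 ya15 za50) (ka xa24 ya10 za59)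 (ka xa29 ya9 za0) (ka xa27 ya10 za48) (ka xa25 ya52 za45) (ka xa25 ya17 za13) (ka xa29 ya50 za12) (ka xa30 ya22 za39) (ka xa23 ya13 za18) (ka xa31 ya52 za27) (ka xa23 ya13 za19) (ka xa31 ya43 za19) (ka xa22 ya59 za57) (ka xa32 ya19 za35) (ka xa27 ya38 za51) (ka xa28 ya6 za36) (ka xa20 ya47 za33) (ka xa29 ya26 za54) (ka xa30 ya2 za57) (ka xa25 ya39 za57) (ka xa32 ya0 za61) (ka xa30 ya52 za2) (ka xa22 ya26 za7) (ka xa29 ya32 za33) (ka xa30 ya29 za44) (ka xa22 ya59 za56) (ka xa26 ya13 za22) (ka xa29 ya40 za12) (ka xa29 ya40 za5) (ka xa29 ya38 za13) (ka xa22 ya26 za37) (ka xa24 ya21 za24) (ka xa22 ya26 za42) (ka xa28 ya39 za15) (ka xa28 ya18 za36) (ka xa24 ya17 za56) (ka xa32 ya23 za2) (ka xa29 ya26 za5) (ka xa32 ya16 za60) (ka xa22 ya25 za61)) (@D3.rec (fun _ => Pt) (ka xa22 ya25 za60) (ka xa22 ya26 za6) (ka xa22 ya26 za3)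 (ka xa30 ya11 za37) (ka xa30 ya11 za41) (ka xa29 ya39 za50) (ka xa24 ya25 za31) (ka xa20 ya48 za12) (ka xa24 ya30 za11) (ka xa28 ya40 za3) (ka xa29 ya40 za41) (ka xa32 ya46 za41) (ka xa29 ya39 za49) (ka xa29 ya52 za42) (ka xa32 ya21 za23) (ka xa32 ya39 za50) (ka xa20 ya48 za22) (ka xa31 ya29 za40) (ka xa24 ya9 za18) (ka xa22 ya24 za52) (ka xa26 ya57 za2) (ka xa32 ya46 za32) (ka xa20 ya48 za26) (ka xa22 ya58 za44) (ka xa20 ya48 za27) (ka xa20 ya48 za32) (ka xa20 ya48 za28) (ka xa28 ya39 za59) (ka xa32 ya46 za45) (ka xa20 ya48 za29) (ka xa28 ya49 za12) (ka xa32 ya46 za48) (ka xa30 ya25 za41) (ka xa28 ya51 za10) (ka xa28 ya39 za23) (ka xa28 ya44 za59) (ka xa22 ya6 za1) (ka xa25 ya17 za55) (ka xa32 ya30 za53) (ka xa30 ya30 za56) (ka xa32 ya37 za39) (ka xa29 ya40 za10) (ka xa20 ya48 za51) (ka xa20 ya48 za52) (ka xa30 ya15 za53)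 (ka xa23 ya49 za12) (ka xa29 ya23 za22) (ka xa22 ya26 za17) (ka xa30 ya29 za28) (ka xa21 ya11 za30) (ka xa21 ya59 za47) (ka xa32 ya44 za30) (ka xa30 ya25 za27) (ka xa20 ya48 za56) (ka xa30 ya26 za57) (ka xa25 ya35 za21) (ka xa28 ya35 za11) (ka xa28 ya29 za19) (ka xa30 ya30 za15) (ka xa27 ya36 za31) (ka xa27 ya22 za20) (ka xa32 ya18 za49)) (@D3.rec (fun _ => Pt) (ka xa21 ya47 za30) (ka xa22 ya49 za60) (ka xa20 ya49 za16) (ka xa22 ya50 za9) (ka xa23 ya7 za5) (ka xa30 ya30 za30) (ka xa22 ya1 za12) (ka xa23 ya45 za45) (ka xa23 ya9 za42) (ka xa22 ya52 za33) (ka xa20 ya49 za30) (ka xa24 ya15 za60) (ka xa25 ya34 za58) (ka xa26 ya54 za53) (ka xa23 ya9 za47) (ka xa31 ya24 za34) (ka xa29 ya41 za43) (ka xa29 ya41 za42) (ka xa20 ya49 za43) (ka xa29 ya37 za44) (ka xa29 ya37 za43) (ka xa23 ya19 za0) (ka xa32 ya41 za24) (ka xa24 ya23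 za59) (ka xa31 ya5 za45) (ka xa31 ya47 za51) (ka xa29 ya36 za26) (ka xa29 ya36 za27) (ka xa29 ya4 za37) (ka xa23 ya11 za19) (ka xa20 ya49 za51) (ka xa31 ya8 za12) (ka xa31 ya8 za11) (ka xa25 ya59 za12) (ka xa25 ya21 za14) (ka xa20 ya49 za58) (ka xa32 ya36 za35) (ka xa31 ya39 za45) (ka xa29 ya27 za24) (ka xa31 ya21 za22) (ka xa32 ya44 za18) (ka xa20 ya50 za3) (ka xa29 ya41 za17) (ka xa29 ya41 za16) (ka xa32 ya8 za45) (ka xa30 ya55 za0) (ka xa28 ya41 za61) (ka xa27 ya14 za34) (ka xa29 ya17 za40) (ka xa27 ya14 za32) (ka xa26 ya44 za25) (ka xa29 ya15 za24) (ka xa31 ya36 za6) (ka xa26 ya44 za22) (ka xa31 ya22 za12) (ka xa20 ya50 za14) (ka xa30 ya48 za4) (ka xa29 ya17 za1) (ka xa20 ya50 za19) (ka xa27 ya42 za43) (ka xa27 ya42 za41) (ka xa27 ya42 za8)) (@D3.rec (fun _ => Pt) (ka xa31 ya35 za61) (ka xa31 ya36 za1) (ka xa27 ya42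 za38) (ka xa26 ya56 za52) (ka xa32 ya34 za42) (ka xa32 ya2 za8) (ka xa31 ya45 za27) (ka xa20 ya50 za32) (ka xa20 ya50 za33) (ka xa26 ya56 za30) (ka xa23 ya54 za47) (ka xa23 ya54 za46) (ka xa23 ya4 za53) (ka xa28 ya24 za50) (ka xa27 ya0 za35) (ka xa27 ya15 za10) (ka xa20 ya50 za34) (ka xa30 ya45 za52) (ka xa25 ya14 za30) (ka xa20 ya50 za36) (ka xa23 ya19 za41) (ka xa29 ya8 za41) (ka xa30 ya1 za42) (ka xa30 ya7 za5) (ka xa30 ya4 za7) (ka xa21 ya20 za22) (ka xa21 ya41 za43) (ka xa30 ya19 za38) (ka xa27 ya20 za14) (ka xa30 ya27 za2) (ka xa26 ya38 za58) (ka xa32 ya18 za52) (ka xa20 ya52 za40) (ka xa27 ya44 za12) (ka xa24 ya8 za23) (ka xa31 ya3 za49) (ka xa20 ya52 za37) (ka xa32 ya44 za10) (ka xa32 ya27 za11) (ka xa28 ya53 za37) (ka xa29 ya19 za6) (ka xa29 ya19 za5) (ka xa24 ya31 za15) (ka xa24 ya28 za41) (ka xa24 ya28 za42)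 (ka xa28 ya53 za55) (ka xa20 ya59 za52) (ka xa32 ya35 za56) (ka xa29 ya1 za50) (ka xa28 ya56 za12) (ka xa28 ya56 za11) (ka xa29 ya24 za44) (ka xa29 ya59 za25) (ka xa32 ya18 za61) (ka xa26 ya2 za3) (ka xa23 ya26 za59) (ka xa31 ya50 za14) (ka xa31 ya50 za13) (ka xa29 ya53 za32) (ka xa29 ya53 za33) (ka xa30 ya8 za19) (ka xa23 ya5 za17)) (@D3.rec (fun _ => Pt) (ka xa31 ya22 za14) (ka xa23 ya5 za18) (ka xa24 ya34 za61) (ka xa28 ya57 za58) (ka xa30 ya54 za40) (ka xa30 ya54 za41) (ka xa29 ya32 za3) (ka xa29 ya32 za2) (ka xa30 ya17 za11) (ka xa24 ya35 za18) (ka xa29 ya34 za31) (ka xa32 ya34 za36) (ka xa29 ya16 za1) (ka xa27 ya38 za56) (ka xa27 ya46 za53) (ka xa30 ya17 za14) (ka xa20 ya54 za7) (ka xa20 ya54 za8) (ka xa27 ya1 za11) (ka xa32 ya35 za17) (ka xa27 ya0 za34) (ka xa27 ya0 za33) (ka xa29 ya32 za35) (ka xa32 ya46 za27)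 (ka xa29 ya49 za0) (ka xa30 ya15 za50) (ka xa21 ya47 za60) (ka xa29 ya44 za13) (ka xa21 ya20 za53) (ka xa25 ya21 za5) (ka xa29 ya15 za11) (ka xa32 ya17 za51) (ka xa32 ya17 za52) (ka xa29 ya15 za8) (ka xa24 ya19 za18) (ka xa29 ya2 za45) (ka xa32 ya43 za59) (ka xa29 ya2 za46) (ka xa20 ya58 za38) (ka xa31 ya41 za39) (ka xa32 ya14 za30) (ka xa32 ya14 za25) (ka xa30 ya9 za36) (ka xa30 ya0 za1) (ka xa29 ya15 za22) (ka xa21 ya57 za36) (ka xa29 ya2 za48) (ka xa27 ya43 za54) (ka xa25 ya34 za44) (ka xa20 ya54 za46) (ka xa30 ya37 za17) (ka xa32 ya47 za10) (ka xa21 ya39 za2) (ka xa27 ya30 za27) (ka xa30 ya1 za59) (ka xa20 ya54 za57) (ka xa23 ya31 za18) (ka xa20 ya55 za61) (ka xa20 ya56 za5) (ka xa20 ya56 za6) (ka xa20 ya56 za8) (ka xa20 ya56 za26)) (@D3.rec (fun _ => Pt) (ka xa32 ya34 za57) (ka xa20 ya57 za5) (ka xa26 ya38 za50) (ka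 xa29 ya45 za57) (ka xa20 ya56 za53) (ka xa30 ya17 za28) (ka xa20 ya56 za55) (ka xa20 ya56 za56) (ka xa30 ya16 za19) (ka xa20 ya57 za0) (ka xa20 ya55 za18) (ka xa26 ya8 za21) (ka xa26 ya39 za50) (ka xa29 ya43 za27) (ka xa32 ya11 za21) (ka xa20 ya57 za35) (ka xa20 ya57 za36) (ka xa20 ya57 za38) (ka xa22 ya56 za25) (ka xa23 ya13 za9) (ka xa20 ya57 za54) (ka xa20 ya57 za56) (ka xa25 ya56 za56) (ka xa20 ya55 za28) (ka xa20 ya55 za29) (ka xa28 ya33 za20) (ka xa31 ya27 za6) (ka xa31 ya21 za4) (ka xa31 ya46 za44) (ka xa32 ya18 za57) (ka xa20 ya55 za38) (ka xa20 ya55 za39) (ka xa31 ya52 za56) (ka xa30 ya17 za19) (ka xa30 ya19 za56) (ka xa24 ya3 za3) (ka xa31 ya24 za24) (ka xa29 ya26 za31) (ka xa20 ya58 za22) (ka xa20 ya58 za23) (ka xa20 ya58 za24) (ka xa20 ya58 za25) (ka xa20 ya58 za30) (ka xa20 ya58 za31) (ka xa25 ya22 za15) (ka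 xa25 ya22 za17) (ka xa26 ya3 za18) (ka xa20 ya55 za54) (ka xa31 ya55 za61) (ka xa31 ya47 za57) (ka xa28 ya59 za26) (ka xa27 ya39 za18) (ka xa28 ya32 za22) (ka xa28 ya32 za23) (ka xa26 ya35 za10) (ka xa26 ya37 za25) (ka xa26 ya7 za59) (ka xa26 ya7 za60) (ka xa26 ya59 za32) (ka xa25 ya20 za25) (ka xa31 ya31 za53) (ka xa25 ya20 za26)) (@D3.rec (fun _ => Pt) (ka xa32 ya10 za34) (ka xa31 ya59 za11) (ka xa26 ya59 za39) (ka xa28 ya44 za21) (ka xa20 ya56 za10) (ka xa32 ya44 za38) (ka xa26 ya39 za3) (ka xa27 ya38 za13) (ka xa22 ya4 za14) (ka xa20 ya56 za22) (ka xa20 ya56 za24) (ka xa20 ya56 za25) (ka xa32 ya13 za17) (ka xa29 ya16 za38) (ka xa32 ya47 za22) (ka xa26 ya36 za59) (ka xa26 ya36 za53) (ka xa32 ya47 za23) (ka xa32 ya47 za24) (ka xa32 ya46 za29) (ka xa31 ya27 za30) (ka xa25 ya20 za1) (ka xa31 ya14 za1) (ka xa26 ya35 za25)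 (ka xa25 ya20 za2) (ka xa31 ya14 za2) (ka xa31 ya14 za3) (ka xa25 ya32 za7) (ka xa20 ya56 za30) (ka xa28 ya51 za19) (ka xa31 ya19 za25) (ka xa27 ya0 za41) (ka xa32 ya39 za2) (ka xa24 ya25 za23) (ka xa22 ya24 za58) (ka xa20 ya56 za37) (ka xa32 ya41 za3) (ka xa22 ya24 za1) (ka xa24 ya17 za10) (ka xa20 ya56 za39) (ka xa32 ya47 za27) (ka xa29 ya24 za48) (ka xa25 ya21 za7) (ka xa25 ya21 za41) (ka xa25 ya21 za42) (ka xa25 ya21 za43) (ka xa30 ya17 za29) (ka xa20 ya56 za52) (ka xa32 ya47 za12) (ka xa26 ya37 za17) (ka xa23 ya45 za42) (ka xa32 ya11 za30) (ka xa30 ya34 za40) (ka xa32 ya45 za38) (ka xa22 ya27 za28) (ka xa20 ya57 za9) (ka xa29 ya33 za29) (ka xa29 ya44 za3) (ka xa29 ya33 za46) (ka xa32 ya17 za5) (ka xa31 ya46 za59) (ka xa31 ya53 za38)) (@D3.rec (fun _ => Pt) (ka xa25 ya20 za55) (ka xa28 ya40 za45) (ka xa25 ya20 za56)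 (ka xa28 ya40 za48) (ka xa28 ya40 za49) (ka xa26 ya35 za24) (ka xa28 ya40 za33) (ka xa28 ya40 za32) (ka xa28 ya40 za34) (ka xa26 ya36 za15) (ka xa26 ya36 za16) (ka xa32 ya45 za26) (ka xa26 ya36 za18) (ka xa26 ya36 za19) (ka xa29 ya34 za30) (ka xa28 ya40 za35) (ka xa26 ya36 za20) (ka xa28 ya40 za17) (ka xa22 ya19 za32) (ka xa29 ya33 za59) (ka xa26 ya36 za21) (ka xa28 ya40 za18) (ka xa30 ya11 za34) (ka xa20 ya58 za45) (ka xa20 ya57 za30) (ka xa20 ya57 za31) (ka xa20 ya57 za33) (ka xa30 ya17 za32) (ka xa27 ya16 za2) (ka xa26 ya33 za37) (ka xa30 ya17 za33) (ka xa32 ya14 za14) (ka xa22 ya25 za0) (ka xa29 ya32 za22) (ka xa29 ya34 za48) (ka xa32 ya47 za14) (ka xa29 ya34 za1) (ka xa22 ya19 za15) (ka xa25 ya17 za7) (ka xa22 ya12 za0) (ka xa25 ya17 za6) (ka xa21 ya59 za23) (ka xa23 ya29 za1) (ka xa29 ya46 za55) (ka xa29 ya46 za56)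 (ka xa29 ya46 za57) (ka xa29 ya46 za58) (ka xa30 ya42 za59) (ka xa22 ya1 za43) (ka xa26 ya41 za5) (ka xa22 ya1 za29) (ka xa32 ya41 za6) (ka xa32 ya41 za5) (ka xa32 ya41 za7) (ka xa32 ya47 za54) (ka xa29 ya46 za43) (ka xa29 ya46 za44) (ka xa29 ya46 za45) (ka xa29 ya46 za46) (ka xa25 ya23 za27) (ka xa25 ya23 za30) (ka xa28 ya56 za31)) (@D3.rec (fun _ => Pt) (ka xa30 ya29 za30) (ka xa20 ya58 za13) (ka xa28 ya14 za35) (ka xa31 ya26 za14) (ka xa31 ya50 za58) (ka xa29 ya5 za54) (ka xa32 ya40 za22) (ka xa31 ya22 za26) (ka xa32 ya40 za0) (ka xa24 ya2 za19) (ka xa23 ya49 za42) (ka xa31 ya26 za3) (ka xa31 ya24 za43) (ka xa32 ya14 za3) (ka xa32 ya14 za2) (ka xa31 ya40 za52) (ka xa32 ya47 za17) (ka xa28 ya39 za49) (ka xa23 ya45 za57) (ka xa29 ya26 za41) (ka xa20 ya58 za27) (ka xa32 ya14 za9) (ka xa32 ya4 za0) (ka xa32 ya33 za10) (ka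 xa29 ya10 za55) (ka xa32 ya14 za6) (ka xa22 ya23 za39) (ka xa29 ya34 za29) (ka xa22 ya7 za36) (ka xa20 ya58 za35) (ka xa24 ya3 za6) (ka xa29 ya58 za58) (ka xa26 ya39 za48) (ka xa29 ya31 za27) (ka xa29 ya47 za35) (ka xa29 ya47 za34) (ka xa26 ya41 za17) (ka xa26 ya41 za18) (ka xa27 ya8 za12) (ka xa32 ya12 za0) (ka xa23 ya59 za9) (ka xa24 ya7 za50) (ka xa31 ya53 za24) (ka xa25 ya22 za2) (ka xa26 ya41 za55) (ka xa25 ya22 za5) (ka xa20 ya59 za6) (ka xa25 ya50 za34) (ka xa26 ya47 za3) (ka xa20 ya59 za8) (ka xa20 ya59 za11) (ka xa31 ya56 za23) (ka xa31 ya49 za48) (ka xa32 ya2 za49) (ka xa25 ya36 za19) (ka xa25 ya40 za17) (ka xa20 ya59 za19) (ka xa31 ya3 za18) (ka xa20 ya59 za21) (ka xa31 ya9 za51) (ka xa31 ya45 za43) (ka xa25 ya41 za25)) (@D3.rec (fun _ => Pt) (ka xa28 ya15 za30) (ka xa25 ya1 za38) (ka xa26 ya42 za54) (ka xa24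 ya5 za47) (ka xa28 ya47 za42) (ka xa24 ya5 za46) (ka xa26 ya43 za7) (ka xa28 ya47 za44) (ka xa32 ya32 za38) (ka xa28 ya37 za41) (ka xa20 ya59 za53) (ka xa27 ya8 za46) (ka xa26 ya43 za8) (ka xa20 ya59 za57) (ka xa32 ya48 za0) (ka xa28 ya17 za34) (ka xa28 ya53 za3) (ka xa29 ya2 za17) (ka xa30 ya30 za39) (ka xa31 ya19 za53) (ka xa29 ya2 za29) (ka xa32 ya0 za59) (ka xa28 ya16 za42) (ka xa28 ya52 za10) (ka xa22 ya7 za13) (ka xa26 ya42 za55) (ka xa21 ya0 za1) (ka xa32 ya48 za4) (ka xa28 ya16 za44) (ka xa28 ya52 za8) (ka xa32 ya48 za6) (ka xa28 ya56 za14) (ka xa21 ya0 za18) (ka xa25 ya58 za59) (ka xa25 ya35 za25) (ka xa25 ya35 za23) (ka xa24 ya33 za43) (ka xa30 ya3 za52) (ka xa21 ya0 za28) (ka xa30 ya4 za61) (ka xa31 ya0 za31) (ka xa25 ya26 za2) (ka xa32 ya4 za20) (ka xa25 ya30 za18) (ka xa28 ya48 za39) (ka xa25 ya47 za5) (ka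 xa31 ya28 za28) (ka xa28 ya15 za49) (ka xa25 ya36 za49) (ka xa25 ya5 za39) (ka xa22 ya40 za35) (ka xa21 ya1 za7) (ka xa27 ya57 za11) (ka xa22 ya5 za26) (ka xa22 ya5 za27) (ka xa24 ya23 za40) (ka xa25 ya42 za28) (ka xa28 ya49 za34) (ka xa28 ya49 za37) (ka xa28 ya49 za35) (ka xa22 ya28 za7) (ka xa21 ya1 za22)) (@D3.rec (fun _ => Pt) (ka xa29 ya43 za24) (ka xa27 ya16 za9) (ka xa22 ya4 za20) (ka xa31 ya21 za1) (ka xa22 ya25 za39) (ka xa22 ya4 za21) (ka xa22 ya4 za22) (ka xa22 ya4 za23) (ka xa22 ya4 za24) (ka xa21 ya52 za10) (ka xa29 ya38 za18) (ka xa21 ya1 za44) (ka xa26 ya11 za4) (ka xa25 ya8 za37) (ka xa28 ya44 za30) (ka xa24 ya38 za55) (ka xa31 ya59 za59) (ka xa30 ya6 za41) (ka xa30 ya16 za40) (ka xa29 ya16 za19) (ka xa21 ya1 za57) (ka xa31 ya26 za29) (ka xa21 ya1 za58) (ka xa32 ya24 za9) (ka xa26 ya57 za34) (ka xa31 ya59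 za60) (ka xa29 ya15 za39) (ka xa21 ya2 za0) (ka xa31 ya25 za61) (ka xa28 ya42 za17) (ka xa31 ya46 za1) (ka xa29 ya50 za13) (ka xa21 ya2 za18) (ka xa21 ya2 za20) (ka xa30 ya20 za12) (ka xa27 ya18 za25) (ka xa21 ya56 za33) (ka xa29 ya12 za9) (ka xa29 ya6 za31) (ka xa29 ya12 za6) (ka xa32 ya4 za47) (ka xa25 ya39 za12) (ka xa31 ya8 za31) (ka xa31 ya11 za32) (ka xa24 ya33 za3) (ka xa21 ya2 za24) (ka xa32 ya48 za12) (ka xa23 ya40 za33) (ka xa23 ya38 za40) (ka xa28 ya11 za60) (ka xa31 ya5 za25) (ka xa31 ya5 za2) (ka xa21 ya49 za25) (ka xa22 ya31 za7) (ka xa21 ya49 za23) (ka xa29 ya11 za9) (ka xa27 ya57 za8) (ka xa32 ya28 za3) (ka xa29 ya14 za8) (ka xa25 ya16 za16) (ka xa26 ya8 za37) (ka xa26 ya31 za57)) (@D3.rec (fun _ => Pt) (ka xa29 ya14 za59) (ka xa21 ya44 za24) (ka xa22 ya56 za43) (ka xa22 ya11 za19) (ka xa27 ya0 za18) (ka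 xa31 ya34 za29) (ka xa27 ya44 za0) (ka xa28 ya55 za60) (ka xa23 ya58 za13) (ka xa25 ya5 za58) (ka xa26 ya43 za12) (ka xa30 ya37 za49) (ka xa29 ya39 za28) (ka xa29 ya49 za31) (ka xa23 ya19 za8) (ka xa24 ya15 za61) (ka xa24 ya16 za0) (ka xa28 ya59 za61) (ka xa27 ya16 za7) (ka xa23 ya49 za27) (ka xa28 ya31 za10) (ka xa23 ya28 za61) (ka xa26 ya17 za55) (ka xa22 ya54 za33) (ka xa26 ya26 za4) (ka xa23 ya16 za54) (ka xa25 ya28 za36) (ka xa27 ya33 za5) (ka xa25 ya58 za56) (ka xa30 ya1 za13) (ka xa23 ya50 za46) (ka xa21 ya58 za18) (ka xa21 ya4 za49) (ka xa27 ya23 za27) (ka xa27 ya23 za8) (ka xa26 ya13 za5) (ka xa21 ya19 za19) (ka xa21 ya39 za40) (ka xa21 ya4 za59) (ka xa21 ya39 za46) (ka xa21 ya39 za45) (ka xa24 ya30 za45) (ka xa31 ya57 za57) (ka xa24 ya38 za46) (ka xa25 ya27 za46) (ka xa22 ya48 za49) (ka xa21 ya5 za6) (ka xa30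 ya50 za28) (ka xa25 ya33 za25) (ka xa31 ya59 za58) (ka xa30 ya19 za47) (ka xa29 ya57 za29) (ka xa21 ya5 za16) (ka xa32 ya47 za11) (ka xa21 ya5 za21) (ka xa29 ya4 za40) (ka xa30 ya1 za48) (ka xa25 ya56 za10) (ka xa21 ya5 za25) (ka xa31 ya35 za44) (ka xa28 ya57 za9) (ka xa22 ya59 za11)) (@D3.rec (fun _ => Pt) (ka xa30 ya6 za43) (ka xa24 ya7 za17) (ka xa30 ya19 za59) (ka xa30 ya56 za59) (ka xa30 ya19 za57) (ka xa25 ya30 za23) (ka xa25 ya30 za24) (ka xa25 ya34 za46) (ka xa21 ya5 za54) (ka xa29 ya57 za33) (ka xa21 ya39 za5) (ka xa30 ya5 za24) (ka xa21 ya6 za1) (ka xa30 ya4 za40) (ka xa30 ya4 za39) (ka xa23 ya40 za0) (ka xa30 ya4 za36) (ka xa30 ya4 za37) (ka xa26 ya0 za53) (ka xa26 ya1 za4) (ka xa23 ya52 za35) (ka xa28 ya41 za9) (ka xa22 ya10 za14) (ka xa26 ya15 za28) (ka xa21 ya6 za16) (ka xa25 ya54 za12) (ka xa32 ya5 za3)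 (ka xa21 ya6 za22) (ka xa23 ya46 za21) (ka xa31 ya0 za48) (ka xa27 ya48 za45) (ka xa30 ya2 za27) (ka xa30 ya12 za57) (ka xa30 ya1 za27) (ka xa26 ya0 za42) (ka xa21 ya6 za36) (ka xa21 ya6 za43) (ka xa29 ya10 za49) (ka xa25 ya14 za36) (ka xa22 ya30 za8) (ka xa31 ya44 za59) (ka xa27 ya18 za1) (ka xa30 ya13 za7) (ka xa31 ya44 za61) (ka xa30 ya13 za8) (ka xa26 ya49 za28) (ka xa28 ya1 za40) (ka xa21 ya8 za17) (ka xa30 ya12 za37) (ka xa27 ya20 za45) (ka xa21 ya41 za11) (ka xa22 ya2 za14) (ka xa30 ya11 za6) (ka xa22 ya11 za26) (ka xa21 ya38 za50) (ka xa21 ya7 za44) (ka xa29 ya32 za53) (ka xa32 ya29 za6) (ka xa27 ya59 za16) (ka xa27 ya54 za33) (ka xa26 ya51 za54) (ka xa27 ya12 za19)) (@D3.rec (fun _ => Pt) (ka xa27 ya3 za49) (ka xa27 ya3 za51) (ka xa29 ya59 za43) (ka xa21 ya28 za14) (ka xa32 ya4 za32) (ka xa25 ya23 za14) (ka xa31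 ya37 za34) (ka xa24 ya27 za38) (ka xa30 ya0 za52) (ka xa32 ya48 za27) (ka xa21 ya55 za56) (ka xa24 ya43 za13) (ka xa23 ya32 za27) (ka xa21 ya56 za34) (ka xa21 ya8 za58) (ka xa21 ya8 za59) (ka xa21 ya56 za40) (ka xa21 ya56 za44) (ka xa21 ya56 za43) (ka xa21 ya17 za37) (ka xa29 ya8 za7) (ka xa21 ya9 za6) (ka xa27 ya53 za49) (ka xa25 ya17 za0) (ka xa28 ya14 za57) (ka xa28 ya17 za36) (ka xa25 ya24 za10) (ka xa28 ya22 za59) (ka xa27 ya15 za35) (ka xa30 ya11 za12) (ka xa26 ya34 za2) (ka xa32 ya3 za31) (ka xa28 ya43 za57) (ka xa24 ya2 za23) (ka xa22 ya10 za13) (ka xa22 ya10 za19) (ka xa22 ya10 za37) (ka xa21 ya59 za26) (ka xa22 ya10 za20) (ka xa22 ya10 za21) (ka xa31 ya29 za48) (ka xa23 ya0 za38) (ka xa29 ya40 za13) (ka xa21 ya10 za26) (ka xa32 ya44 za22) (ka xa27 ya42 za26) (ka xa27 ya42 za25) (ka xa26 ya31 za1) (ka xa24 ya13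 za16) (ka xa26 ya30 za55) (ka xa26 ya21 za19) (ka xa26 ya21 za22) (ka xa26 ya31 za5) (ka xa26 ya26 za41) (ka xa23 ya4 za59) (ka xa23 ya7 za44) (ka xa23 ya7 za48) (ka xa26 ya31 za23) (ka xa21 ya10 za40) (ka xa26 ya31 za13) (ka xa26 ya31 za14) (ka xa26 ya31 za16)) (@D3.rec (fun _ => Pt) (ka xa26 ya31 za22) (ka xa22 ya55 za39) (ka xa22 ya55 za37) (ka xa26 ya31 za26) (ka xa26 ya31 za27) (ka xa26 ya31 za31) (ka xa26 ya27 za56) (ka xa26 ya31 za33) (ka xa29 ya20 za53) (ka xa28 ya31 za57) (ka xa31 ya1 za5) (ka xa31 ya16 za24) (ka xa30 ya47 za55) (ka xa26 ya21 za24) (ka xa26 ya19 za20) (ka xa26 ya21 za27) (ka xa21 ya11 za0) (ka xa22 ya52 za56) (ka xa31 ya0 za11) (ka xa26 ya57 za49) (ka xa24 ya13 za2) (ka xa24 ya13 za9) (ka xa29 ya27 za43) (ka xa26 ya31 za60) (ka xa24 ya53 za27) (ka xa21 ya11 za13) (ka xa31 ya34 za47) (ka xa28 ya35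 za5) (ka xa21 ya11 za9) (ka xa30 ya36 za24) (ka xa28 ya29 za29) (ka xa28 ya34 za27) (ka xa29 ya42 za58) (ka xa29 ya42 za59) (ka xa24 ya13 za53) (ka xa24 ya8 za32) (ka xa32 ya9 za11) (ka xa32 ya40 za56) (ka xa31 ya23 za42) (ka xa28 ya52 za22) (ka xa32 ya18 za38) (ka xa32 ya8 za56) (ka xa32 ya48 za36) (ka xa26 ya17 za43) (ka xa30 ya17 za7) (ka xa26 ya29 za44) (ka xa26 ya29 za45) (ka xa29 ya7 za44) (ka xa30 ya47 za49) (ka xa32 ya29 za31) (ka xa26 ya30 za7) (ka xa22 ya56 za51) (ka xa30 ya44 za43) (ka xa22 ya17 za27) (ka xa30 ya51 za35) (ka xa28 ya12 za51) (ka xa30 ya55 za32) (ka xa22 ya49 za41) (ka xa21 ya12 za11) (ka xa21 ya12 za10) (ka xa24 ya13 za22) (ka xa24 ya57 za51)) (@D3.rec (fun _ => Pt) (ka xa28 ya7 za22) (ka xa30 ya2 za0) (ka xa23 ya8 za53) (ka xa27 ya41 za12) (ka xa29 ya27 za13) (ka xa29 ya38 za26) (ka xa30 ya12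 za31) (ka xa28 ya12 za52) (ka xa28 ya7 za26) (ka xa29 ya54 za16) (ka xa28 ya7 za43) (ka xa28 ya5 za29) (ka xa21 ya12 za43) (ka xa26 ya21 za44) (ka xa26 ya21 za43) (ka xa32 ya3 za54) (ka xa29 ya54 za9) (ka xa29 ya25 za16) (ka xa28 ya25 za49) (ka xa28 ya18 za52) (ka xa27 ya38 za50) (ka xa27 ya38 za45) (ka xa29 ya25 za0) (ka xa29 ya25 za1) (ka xa28 ya27 za15) (ka xa29 ya24 za58) (ka xa27 ya50 za15) (ka xa23 ya27 za21) (ka xa26 ya28 za11) (ka xa21 ya37 za57) (ka xa24 ya53 za50) (ka xa28 ya13 za2) (ka xa28 ya25 za40) (ka xa27 ya54 za22) (ka xa27 ya48 za48) (ka xa26 ya5 za20) (ka xa24 ya46 za10) (ka xa26 ya53 za4) (ka xa25 ya16 za27) (ka xa25 ya16 za28) (ka xa29 ya29 za48) (ka xa24 ya8 za17) (ka xa21 ya13 za45) (ka xa21 ya13 za46) (ka xa21 ya13 za47) (ka xa21 ya13 za48) (ka xa21 ya13 za49) (ka xa21 ya13 za50) (ka xa21 ya13 za58)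 (ka xa28 ya46 za41) (ka xa32 ya48 za41) (ka xa27 ya10 za16) (ka xa30 ya49 za47) (ka xa22 ya46 za20) (ka xa24 ya9 za6) (ka xa28 ya56 za4) (ka xa23 ya52 za55) (ka xa26 ya21 za52) (ka xa22 ya24 za7) (ka xa24 ya9 za7) (ka xa31 ya25 za55) (ka xa27 ya13 za5)) (@D3.rec (fun _ => Pt) (ka xa31 ya15 za40) (ka xa23 ya29 za0) (ka xa23 ya29 za44) (ka xa23 ya29 za45) (ka xa30 ya36 za53) (ka xa32 ya22 za1) (ka xa30 ya25 za18) (ka xa23 ya14 za49) (ka xa22 ya38 za1) (ka xa23 ya14 za45) (ka xa23 ya14 za47) (ka xa23 ya29 za17) (ka xa23 ya29 za57) (ka xa22 ya43 za19) (ka xa23 ya29 za53) (ka xa23 ya13 za42) (ka xa23 ya29 za10) (ka xa30 ya52 za43) (ka xa30 ya12 za51) (ka xa23 ya26 za9) (ka xa31 ya1 za59) (ka xa23 ya26 za14) (ka xa23 ya26 za6) (ka xa23 ya26 za4) (ka xa23 ya26 za5) (ka xa23 ya26 za7) (ka xa29 ya55 za32) (ka xa23 ya9 za17) (ka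 xa23 ya25 za61) (ka xa23 ya14 za51) (ka xa23 ya14 za44) (ka xa30 ya18 za32) (ka xa29 ya55 za26) (ka xa24 ya45 za53) (ka xa26 ya56 za40) (ka xa26 ya29 za3) (ka xa30 ya45 za39) (ka xa30 ya46 za47) (ka xa30 ya33 za39) (ka xa30 ya35 za11) (ka xa29 ya29 za47) (ka xa28 ya26 za3) (ka xa23 ya57 za3) (ka xa26 ya56 za31) (ka xa26 ya56 za58) (ka xa21 ya15 za51) (ka xa32 ya11 za57) (ka xa26 ya56 za29) (ka xa26 ya57 za6) (ka xa23 ya26 za34) (ka xa23 ya34 za26) (ka xa30 ya25 za17) (ka xa31 ya30 za38) (ka xa30 ya29 za57) (ka xa23 ya46 za9) (ka xa23 ya46 za10) (ka xa29 ya25 za60) (ka xa23 ya42 za33) (ka xa29 ya26 za39) (ka xa21 ya18 za1) (ka xa27 ya17 za22) (ka xa21 ya16 za24)) (@D3.rec (fun _ => Pt) (ka xa30 ya7 za16) (ka xa27 ya1 za56) (ka xa25 ya28 za26) (ka xa27 ya7 za48) (ka xa27 ya7 za49) (ka xa27 ya7 za45) (ka xa27 ya7 za46) (ka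 xa22 ya46 za28) (ka xa32 ya11 za32) (ka xa26 ya39 za19) (ka xa32 ya11 za11) (ka xa31 ya23 za56) (ka xa25 ya43 za27) (ka xa30 ya6 za30) (ka xa25 ya10 za26) (ka xa32 ya24 za5) (ka xa31 ya27 za31) (ka xa30 ya5 za23) (ka xa21 ya16 za57) (ka xa29 ya6 za49) (ka xa21 ya58 za12) (ka xa21 ya16 za59) (ka xa29 ya6 za47) (ka xa25 ya43 za24) (ka xa31 ya26 za50) (ka xa25 ya27 za30) (ka xa31 ya26 za39) (ka xa32 ya11 za9) (ka xa30 ya9 za59) (ka xa27 ya43 za59) (ka xa32 ya23 za57) (ka xa29 ya58 za0) (ka xa31 ya45 za21) (ka xa21 ya17 za14) (ka xa21 ya17 za15) (ka xa27 ya1 za40) (ka xa32 ya48 za52) (ka xa27 ya23 za28) (ka xa27 ya1 za43) (ka xa21 ya17 za20) (ka xa25 ya58 za54) (ka xa27 ya18 za3) (ka xa21 ya17 za25) (ka xa27 ya18 za9) (ka xa27 ya18 za8) (ka xa31 ya9 za32) (ka xa25 ya30 za36) (ka xa21 ya17 za29) (ka xa27 ya18 za17) (ka xa29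 ya57 za38) (ka xa27 ya18 za11) (ka xa24 ya40 za13) (ka xa21 ya17 za38) (ka xa27 ya18 za27) (ka xa27 ya18 za28) (ka xa25 ya30 za14) (ka xa27 ya18 za30) (ka xa27 ya18 za29) (ka xa31 ya36 za35) (ka xa32 ya0 za10) (ka xa32 ya42 za31) (ka xa32 ya48 za53)) (@D3.rec (fun _ => Pt) (ka xa21 ya17 za39) (ka xa24 ya40 za5) (ka xa32 ya4 za50) (ka xa21 ya17 za41) (ka xa29 ya57 za39) (ka xa29 ya4 za57) (ka xa28 ya17 za48) (ka xa21 ya49 za55) (ka xa21 ya17 za53) (ka xa28 ya42 za20) (ka xa25 ya14 za31) (ka xa21 ya17 za55) (ka xa27 ya23 za25) (ka xa27 ya1 za38) (ka xa21 ya17 za58) (ka xa32 ya48 za55) (ka xa27 ya23 za33) (ka xa27 ya23 za32) (ka xa27 ya23 za39) (ka xa21 ya39 za37) (ka xa32 ya23 za32) (ka xa27 ya23 za34) (ka xa27 ya23 za30) (ka xa27 ya23 za31) (ka xa27 ya23 za37) (ka xa21 ya54 za19) (ka xa27 ya36 za56) (ka xa21 ya54 za18)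 (ka xa24 ya49 za12) (ka xa29 ya50 za51) (ka xa21 ya18 za11) (ka xa32 ya48 za58) (ka xa30 ya13 za22) (ka xa29 ya51 za9) (ka xa21 ya28 za12) (ka xa27 ya17 za43) (ka xa27 ya24 za31) (ka xa30 ya42 za22) (ka xa29 ya56 za49) (ka xa29 ya57 za4) (ka xa31 ya10 za49) (ka xa29 ya58 za10) (ka xa21 ya48 za59) (ka xa21 ya18 za25) (ka xa29 ya58 za8) (ka xa25 ya39 za17) (ka xa30 ya4 za32) (ka xa30 ya4 za33) (ka xa30 ya4 za34) (ka xa24 ya54 za61) (ka xa30 ya0 za39) (ka xa28 ya41 za22) (ka xa30 ya0 za38) (ka xa21 ya18 za32) (ka xa28 ya11 za57) (ka xa21 ya19 za29) (ka xa21 ya19 za30) (ka xa21 ya19 za31) (ka xa27 ya4 za12) (ka xa29 ya22 za30) (ka xa25 ya28 za20) (ka xa25 ya41 za56)) (@D3.rec (fun _ => Pt) (ka xa29 ya56 za31) (ka xa30 ya12 za60) (ka xa27 ya18 za18) (ka xa21 ya19 za5) (ka xa27 ya18 za36) (ka xa32 ya24 za32) (ka xa27 ya26 za30)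 (ka xa24 ya23 za52) (ka xa29 ya57 za44) (ka xa21 ya19 za10) (ka xa29 ya57 za41) (ka xa23 ya41 za6) (ka xa21 ya19 za16) (ka xa32 ya48 za56) (ka xa29 ya26 za53) (ka xa30 ya4 za35) (ka xa30 ya2 za61) (ka xa21 ya46 za49) (ka xa32 ya48 za18) (ka xa30 ya4 za46) (ka xa21 ya19 za21) (ka xa31 ya55 za1) (ka xa30 ya4 za44) (ka xa24 ya38 za25) (ka xa24 ya38 za26) (ka xa30 ya10 za52) (ka xa24 ya23 za22) (ka xa23 ya39 za16) (ka xa21 ya19 za27) (ka xa21 ya34 za39) (ka xa21 ya34 za40) (ka xa21 ya34 za41) (ka xa31 ya4 za61) (ka xa32 ya48 za22) (ka xa31 ya37 za2) (ka xa32 ya48 za23) (ka xa24 ya34 za8) (ka xa27 ya40 za58) (ka xa24 ya42 za32) (ka xa23 ya44 za27) (ka xa21 ya31 za21) (ka xa27 ya4 za19) (ka xa30 ya52 za11) (ka xa23 ya44 za28) (ka xa24 ya37 za26) (ka xa24 ya37 za27) (ka xa21 ya19 za59) (ka xa21 ya20 za1) (ka xa23 ya43 za54) (ka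 xa23 ya43 za53) (ka xa23 ya44 za29) (ka xa23 ya44 za18) (ka xa21 ya45 za22) (ka xa25 ya11 za13) (ka xa24 ya19 za15) (ka xa25 ya23 za5) (ka xa29 ya17 za5) (ka xa24 ya11 za10) (ka xa29 ya47 za31) (ka xa21 ya20 za57) (ka xa29 ya0 za7) (ka xa27 ya19 za6)) (@D3.rec (fun _ => Pt) (ka xa27 ya19 za10) (ka xa21 ya21 za7) (ka xa23 ya41 za31) (ka xa31 ya45 za42) (ka xa29 ya4 za47) (ka xa21 ya27 za39) (ka xa21 ya21 za19) (ka xa30 ya9 za22) (ka xa31 ya43 za44) (ka xa25 ya8 za22) (ka xa25 ya8 za21) (ka xa29 ya17 za43) (ka xa29 ya17 za42) (ka xa30 ya9 za34) (ka xa26 ya4 za50) (ka xa29 ya16 za18) (ka xa27 ya5 za0) (ka xa29 ya16 za16) (ka xa25 ya14 za7) (ka xa30 ya9 za30) (ka xa30 ya9 za31) (ka xa29 ya17 za33) (ka xa21 ya21 za34) (ka xa30 ya41 za59) (ka xa30 ya9 za33) (ka xa29 ya42 za52) (ka xa21 ya22 za33) (ka xa30 ya40 za61) (ka xa30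 ya33 za13) (ka xa23 ya27 za14) (ka xa30 ya10 za19) (ka xa21 ya21 za47) (ka xa30 ya10 za9) (ka xa21 ya21 za53) (ka xa32 ya49 za16) (ka xa29 ya17 za31) (ka xa30 ya10 za49) (ka xa30 ya10 za50) (ka xa30 ya10 za51) (ka xa21 ya22 za1) (ka xa21 ya22 za24) (ka xa27 ya27 za23) (ka xa24 ya42 za49) (ka xa29 ya52 za2) (ka xa25 ya15 za8) (ka xa21 ya22 za22) (ka xa31 ya20 za55) (ka xa24 ya38 za2) (ka xa24 ya38 za15) (ka xa31 ya28 za56) (ka xa21 ya46 za29) (ka xa21 ya43 za58) (ka xa25 ya37 za43) (ka xa24 ya40 za58) (ka xa30 ya5 za15) (ka xa25 ya32 za47) (ka xa25 ya32 za45) (ka xa21 ya57 za18) (ka xa27 ya5 za49) (ka xa29 ya22 za48) (ka xa24 ya37 za44) (ka xa24 ya38 za14))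
def f_a_30 : D2 → D3 → Pt := @D2.rec (fun _ => D3 → Pt) (@D3.rec (fun _ => Pt) (ka xa25 ya54 za23) (ka xa29 ya43 za43) (ka xa21 ya58 za54) (ka xa30 ya14 za28) (ka xa31 ya41 za19) (ka xa31 ya50 za56) (ka xa21 ya46 za51) (ka xa29 ya3 za60) (ka xa27 ya23 za24) (ka xa31 ya50 za38) (ka xa31 ya29 za11) (ka xa28 ya56 za46) (ka xa31 ya59 za8) (ka xa31 ya59 za7) (ka xa21 ya24 za14) (ka xa29 ya13 za19) (ka xa27 ya38 za10) (ka xa27 ya1 za12) (ka xa31 ya34 za17) (ka xa30 ya3 za32) (ka xa21 ya24 za21) (ka xa31 ya6 za27) (ka xa31 ya10 za27) (ka xa21 ya24 za42) (ka xa21 ya24 za44) (ka xa21 ya24 za26) (ka xa22 ya43 za50) (ka xa30 ya42 za20) (ka xa24 ya20 za14) (ka xa31 ya1 za26) (ka xa30 ya1 za56) (ka xa30 ya8 za59) (ka xa25 ya2 za17) (ka xa30 ya12 za56) (ka xa31 ya57 za10) (ka xa21 ya24 za38) (ka xa31 ya2 za22) (ka xa21 ya25 za26) (ka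 xa29 ya57 za52) (ka xa29 ya57 za50) (ka xa21 ya24 za40) (ka xa29 ya11 za2) (ka xa27 ya4 za36) (ka xa27 ya4 za37) (ka xa27 ya4 za38) (ka xa27 ya4 za39) (ka xa32 ya48 za20) (ka xa31 ya10 za10) (ka xa31 ya50 za7) (ka xa26 ya5 za37) (ka xa30 ya52 za10) (ka xa30 ya4 za16) (ka xa29 ya52 za8) (ka xa23 ya43 za60) (ka xa21 ya25 za13) (ka xa32 ya32 za25) (ka xa32 ya49 za22) (ka xa23 ya44 za0) (ka xa23 ya44 za1) (ka xa23 ya45 za4) (ka xa23 ya44 za19) (ka xa23 ya44 za20)) (@D3.rec (fun _ => Pt) (ka xa28 ya2 za32) (ka xa30 ya51 za48) (ka xa28 ya4 za18) (ka xa22 ya43 za48) (ka xa32 ya6 za41) (ka xa30 ya14 za40) (ka xa23 ya44 za39) (ka xa25 ya2 za56) (ka xa23 ya43 za30) (ka xa21 ya25 za38) (ka xa30 ya11 za36) (ka xa21 ya25 za40) (ka xa27 ya28 za42) (ka xa29 ya50 za29) (ka xa27 ya26 za16) (ka xa27 ya47 za21) (ka xa27 ya47 za18) (ka xa31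 ya14 za34) (ka xa21 ya26 za15) (ka xa27 ya30 za55) (ka xa21 ya26 za25) (ka xa31 ya14 za33) (ka xa22 ya43 za52) (ka xa21 ya31 za29) (ka xa21 ya26 za53) (ka xa26 ya5 za52) (ka xa28 ya57 za44) (ka xa29 ya51 za33) (ka xa31 ya1 za54) (ka xa21 ya27 za4) (ka xa21 ya27 za22) (ka xa21 ya27 za15) (ka xa21 ya27 za16) (ka xa29 ya5 za15) (ka xa21 ya27 za20) (ka xa31 ya9 za11) (ka xa23 ya41 za19) (ka xa31 ya9 za54) (ka xa26 ya16 za50) (ka xa21 ya27 za27) (ka xa32 ya49 za2) (ka xa30 ya20 za20) (ka xa29 ya42 za22) (ka xa31 ya18 za22) (ka xa32 ya2 za34) (ka xa30 ya20 za16) (ka xa27 ya53 za12) (ka xa21 ya34 za46) (ka xa29 ya50 za56) (ka xa28 ya25 za6) (ka xa25 ya4 za6) (ka xa21 ya27 za46) (ka xa30 ya13 za24) (ka xa21 ya28 za9) (ka xa21 ya28 za11) (ka xa21 ya28 za16) (ka xa30 ya0 za30) (ka xa24 ya30 za48) (ka xa24 ya30 za46) (ka xa29 ya43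 za54) (ka xa24 ya30 za44) (ka xa31 ya2 za8)) (@D3.rec (fun _ => Pt) (ka xa29 ya54 za1) (ka xa26 ya3 za53) (ka xa25 ya2 za30) (ka xa23 ya43 za34) (ka xa23 ya20 za8) (ka xa23 ya20 za9) (ka xa23 ya20 za15) (ka xa23 ya15 za36) (ka xa23 ya15 za34) (ka xa30 ya58 za13) (ka xa32 ya19 za54) (ka xa31 ya6 za7) (ka xa32 ya19 za53) (ka xa27 ya58 za12) (ka xa23 ya44 za7) (ka xa30 ya12 za47) (ka xa29 ya12 za11) (ka xa30 ya12 za46) (ka xa30 ya59 za34) (ka xa30 ya2 za20) (ka xa30 ya2 za19) (ka xa30 ya13 za52) (ka xa21 ya28 za13) (ka xa30 ya59 za30) (ka xa31 ya59 za10) (ka xa21 ya55 za41) (ka xa27 ya57 za18) (ka xa29 ya51 za31) (ka xa27 ya20 za54) (ka xa21 ya49 za7) (ka xa30 ya13 za17) (ka xa30 ya52 za18) (ka xa25 ya38 za61) (ka xa27 ya45 za4) (ka xa28 ya12 za17) (ka xa30 ya24 za22) (ka xa21 ya51 za48) (ka xa23 ya40 za56) (ka xa21 ya54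 za5) (ka xa26 ya7 za30) (ka xa26 ya7 za32) (ka xa32 ya32 za46) (ka xa24 ya33 za48) (ka xa31 ya42 za28) (ka xa30 ya38 za55) (ka xa30 ya2 za47) (ka xa29 ya26 za49) (ka xa30 ya2 za45) (ka xa27 ya3 za22) (ka xa24 ya54 za15) (ka xa23 ya43 za14) (ka xa27 ya40 za45) (ka xa31 ya5 za28) (ka xa26 ya23 za12) (ka xa31 ya42 za26) (ka xa26 ya15 za40) (ka xa29 ya26 za47) (ka xa29 ya39 za40) (ka xa24 ya42 za35) (ka xa23 ya40 za57) (ka xa30 ya40 za59) (ka xa29 ya58 za16)) (@D3.rec (fun _ => Pt) (ka xa23 ya40 za60) (ka xa21 ya34 za23) (ka xa31 ya7 za5) (ka xa28 ya43 za54) (ka xa24 ya54 za17) (ka xa24 ya23 za57) (ka xa24 ya54 za20) (ka xa24 ya54 za24) (ka xa24 ya54 za26) (ka xa32 ya28 za24) (ka xa24 ya53 za52) (ka xa24 ya53 za53) (ka xa26 ya7 za28) (ka xa28 ya17 za39) (ka xa23 ya37 za41) (ka xa23 ya42 za54) (ka xa26 ya26 za39) (ka xa26 ya26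 za43) (ka xa29 ya32 za41) (ka xa25 ya17 za3) (ka xa29 ya17 za14) (ka xa27 ya35 za34) (ka xa31 ya0 za49) (ka xa22 ya38 za45) (ka xa27 ya6 za7) (ka xa27 ya20 za32) (ka xa29 ya21 za53) (ka xa32 ya24 za22) (ka xa21 ya32 za57) (ka xa24 ya55 za1) (ka xa26 ya5 za17) (ka xa26 ya12 za54) (ka xa30 ya0 za19) (ka xa30 ya52 za20) (ka xa21 ya31 za33) (ka xa27 ya40 za52) (ka xa31 ya25 za37) (ka xa32 ya49 za39) (ka xa24 ya20 za2) (ka xa21 ya31 za41) (ka xa27 ya59 za33) (ka xa24 ya23 za27) (ka xa22 ya8 za24) (ka xa30 ya17 za2) (ka xa27 ya39 za37) (ka xa21 ya42 za11) (ka xa21 ya31 za52) (ka xa30 ya4 za2) (ka xa29 ya8 za42) (ka xa29 ya8 za43) (ka xa22 ya40 za22) (ka xa30 ya55 za47) (ka xa29 ya48 za37) (ka xa21 ya32 za10) (ka xa21 ya42 za13) (ka xa23 ya22 za8) (ka xa21 ya55 za27) (ka xa25 ya47 za60) (ka xa29 ya26 za56) (ka xa29 ya26 za59)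 (ka xa27 ya44 za21) (ka xa23 ya33 za33)) (@D3.rec (fun _ => Pt) (ka xa21 ya32 za51) (ka xa26 ya16 za35) (ka xa30 ya3 za47) (ka xa32 ya3 za9) (ka xa22 ya44 za21) (ka xa31 ya37 za40) (ka xa31 ya37 za41) (ka xa29 ya42 za24) (ka xa21 ya45 za41) (ka xa21 ya42 za21) (ka xa29 ya25 za61) (ka xa23 ya35 za4) (ka xa21 ya58 za29) (ka xa25 ya42 za55) (ka xa28 ya12 za5) (ka xa31 ya42 za44) (ka xa30 ya0 za51) (ka xa27 ya48 za12) (ka xa24 ya45 za25) (ka xa21 ya55 za50) (ka xa28 ya3 za60) (ka xa26 ya33 za0) (ka xa28 ya2 za10) (ka xa25 ya13 za33) (ka xa21 ya34 za3) (ka xa27 ya27 za19) (ka xa27 ya27 za18) (ka xa31 ya7 za24) (ka xa24 ya42 za6) (ka xa21 ya34 za18) (ka xa32 ya24 za33) (ka xa32 ya3 za15) (ka xa29 ya57 za46) (ka xa29 ya57 za47) (ka xa29 ya57 za48) (ka xa29 ya58 za15) (ka xa29 ya51 za16) (ka xa29 ya51 za17) (ka xa21 ya45 za25)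 (ka xa29 ya51 za14) (ka xa29 ya51 za13) (ka xa23 ya40 za1) (ka xa24 ya41 za49) (ka xa30 ya6 za37) (ka xa29 ya58 za22) (ka xa31 ya58 za35) (ka xa29 ya58 za19) (ka xa21 ya34 za38) (ka xa30 ya42 za5) (ka xa30 ya42 za4) (ka xa31 ya57 za44) (ka xa32 ya3 za18) (ka xa30 ya41 za17) (ka xa30 ya52 za37) (ka xa30 ya41 za20) (ka xa32 ya49 za8) (ka xa31 ya36 za24) (ka xa31 ya5 za34) (ka xa21 ya46 za1) (ka xa30 ya19 za43) (ka xa21 ya43 za43) (ka xa29 ya48 za39)) (@D3.rec (fun _ => Pt) (ka xa21 ya35 za22) (ka xa27 ya51 za15) (ka xa27 ya50 za6) (ka xa32 ya32 za14) (ka xa27 ya6 za49) (ka xa27 ya6 za31) (ka xa27 ya6 za53) (ka xa27 ya6 za54) (ka xa27 ya6 za55) (ka xa27 ya20 za24) (ka xa29 ya22 za54) (ka xa27 ya20 za23) (ka xa21 ya35 za47) (ka xa28 ya1 za35) (ka xa27 ya48 za36) (ka xa29 ya59 za54) (ka xa21 ya36 za8) (ka xa21 ya49 za11) (ka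 xa21 ya36 za16) (ka xa24 ya20 za38) (ka xa21 ya36 za27) (ka xa21 ya36 za55) (ka xa29 ya0 za57) (ka xa29 ya56 za17) (ka xa29 ya51 za11) (ka xa28 ya28 za36) (ka xa30 ya25 za2) (ka xa21 ya37 za14) (ka xa27 ya47 za35) (ka xa27 ya48 za19) (ka xa27 ya42 za19) (ka xa22 ya38 za34) (ka xa31 ya7 za27) (ka xa26 ya9 za3) (ka xa27 ya20 za15) (ka xa21 ya38 za11) (ka xa22 ya32 za16) (ka xa27 ya7 za60) (ka xa27 ya15 za20) (ka xa22 ya13 za37) (ka xa27 ya15 za21) (ka xa21 ya38 za32) (ka xa32 ya49 za58) (ka xa32 ya19 za41) (ka xa28 ya52 za1) (ka xa32 ya19 za42) (ka xa31 ya33 za11) (ka xa27 ya16 za58) (ka xa32 ya20 za15) (ka xa21 ya38 za36) (ka xa32 ya50 za2) (ka xa32 ya50 za3) (ka xa28 ya16 za48) (ka xa32 ya20 za54) (ka xa22 ya41 za51) (ka xa28 ya16 za35) (ka xa28 ya16 za34) (ka xa32 ya39 za42) (ka xa27 ya7 za8) (ka xa28 ya16 za40) (ka xa30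 ya18 za40) (ka xa30 ya15 za7)) (@D3.rec (fun _ => Pt) (ka xa26 ya14 za31) (ka xa30 ya36 za5) (ka xa27 ya2 za61) (ka xa21 ya48 za51) (ka xa21 ya48 za58) (ka xa21 ya48 za57) (ka xa31 ya38 za0) (ka xa21 ya48 za56) (ka xa25 ya28 za9) (ka xa30 ya55 za22) (ka xa21 ya39 za4) (ka xa30 ya10 za17) (ka xa30 ya10 za16) (ka xa30 ya55 za24) (ka xa30 ya10 za12) (ka xa32 ya32 za20) (ka xa22 ya29 za24) (ka xa26 ya2 za5) (ka xa27 ya11 za7) (ka xa25 ya57 za25) (ka xa31 ya37 za23) (ka xa31 ya27 za33) (ka xa31 ya27 za34) (ka xa21 ya39 za16) (ka xa31 ya22 za18) (ka xa31 ya45 za50) (ka xa30 ya47 za47) (ka xa21 ya39 za29) (ka xa31 ya25 za30) (ka xa31 ya17 za34) (ka xa29 ya56 za13) (ka xa24 ya45 za9) (ka xa31 ya49 za6) (ka xa21 ya39 za36) (ka xa31 ya35 za40) (ka xa32 ya1 za61) (ka xa32 ya20 za1) (ka xa30 ya4 za43) (ka xa28 ya41 za13) (ka xa22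 ya1 za52) (ka xa27 ya19 za45) (ka xa29 ya49 za17) (ka xa30 ya33 za47) (ka xa29 ya51 za0) (ka xa22 ya59 za41) (ka xa21 ya39 za48) (ka xa32 ya33 za1) (ka xa27 ya21 za19) (ka xa21 ya39 za50) (ka xa32 ya1 za15) (ka xa27 ya13 za14) (ka xa31 ya56 za9) (ka xa24 ya10 za30) (ka xa21 ya40 za1) (ka xa30 ya27 za32) (ka xa24 ya12 za32) (ka xa23 ya53 za11) (ka xa27 ya9 za39) (ka xa24 ya9 za36) (ka xa23 ya56 za60) (ka xa24 ya0 za35) (ka xa30 ya32 za0)) (@D3.rec (fun _ => Pt) (ka xa25 ya55 za57) (ka xa22 ya40 za8) (ka xa22 ya40 za9) (ka xa22 ya0 za48) (ka xa21 ya43 za57) (ka xa29 ya42 za23) (ka xa23 ya49 za14) (ka xa30 ya19 za24) (ka xa24 ya33 za0) (ka xa24 ya48 za56) (ka xa31 ya50 za12) (ka xa25 ya36 za39) (ka xa25 ya36 za37) (ka xa31 ya12 za26) (ka xa23 ya29 za51) (ka xa22 ya37 za59) (ka xa29 ya56 za0) (ka xa21 ya40 za61) (ka xa24 ya31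 za46) (ka xa24 ya31 za47) (ka xa24 ya31 za43) (ka xa24 ya31 za44) (ka xa24 ya31 za32) (ka xa24 ya31 za31) (ka xa30 ya59 za41) (ka xa23 ya24 za52) (ka xa21 ya57 za8) (ka xa22 ya35 za31) (ka xa23 ya46 za29) (ka xa22 ya35 za26) (ka xa25 ya34 za28) (ka xa28 ya15 za28) (ka xa25 ya56 za12) (ka xa23 ya17 za2) (ka xa27 ya8 za13) (ka xa24 ya1 za55) (ka xa30 ya12 za39) (ka xa29 ya9 za9) (ka xa26 ya14 za45) (ka xa22 ya6 za24) (ka xa21 ya57 za33) (ka xa21 ya46 za30) (ka xa21 ya46 za50) (ka xa21 ya43 za1) (ka xa30 ya8 za53) (ka xa21 ya47 za1) (ka xa21 ya47 za2) (ka xa28 ya59 za52) (ka xa21 ya48 za0) (ka xa27 ya35 za55) (ka xa25 ya10 za52) (ka xa21 ya48 za38) (ka xa31 ya56 za0) (ka xa21 ya43 za20) (ka xa21 ya48 za46) (ka xa21 ya48 za47) (ka xa31 ya37 za39) (ka xa21 ya49 za1) (ka xa21 ya49 za10) (ka xa21 ya49 za15) (ka xa21 ya49 za26)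 (ka xa21 ya49 za28)) (@D3.rec (fun _ => Pt) (ka xa21 ya49 za31) (ka xa30 ya17 za13) (ka xa31 ya32 za27) (ka xa29 ya8 za50) (ka xa32 ya0 za42) (ka xa21 ya50 za25) (ka xa32 ya0 za41) (ka xa21 ya43 za50) (ka xa31 ya4 za0) (ka xa21 ya50 za38) (ka xa27 ya5 za55) (ka xa26 ya40 za35) (ka xa23 ya49 za40) (ka xa31 ya11 za28) (ka xa32 ya24 za27) (ka xa21 ya52 za55) (ka xa21 ya52 za56) (ka xa21 ya54 za45) (ka xa27 ya43 za30) (ka xa29 ya42 za60) (ka xa29 ya36 za20) (ka xa21 ya45 za10) (ka xa31 ya24 za3) (ka xa31 ya29 za33) (ka xa24 ya24 za16) (ka xa26 ya14 za33) (ka xa24 ya22 za34) (ka xa28 ya48 za46) (ka xa26 ya2 za27) (ka xa24 ya7 za25) (ka xa21 ya45 za40) (ka xa24 ya2 za22) (ka xa29 ya37 za48) (ka xa28 ya1 za17) (ka xa25 ya49 za6) (ka xa25 ya30 za30) (ka xa21 ya50 za5) (ka xa27 ya11 za58) (ka xa21 ya59 za19) (ka xa31 ya58 za25)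 (ka xa30 ya11 za29) (ka xa29 ya12 za50) (ka xa25 ya29 za15) (ka xa24 ya43 za29) (ka xa21 ya46 za16) (ka xa32 ya6 za18) (ka xa25 ya29 za47) (ka xa31 ya46 za53) (ka xa30 ya19 za37) (ka xa25 ya41 za4) (ka xa30 ya14 za21) (ka xa24 ya45 za21) (ka xa22 ya10 za17) (ka xa30 ya7 za44) (ka xa27 ya4 za35) (ka xa27 ya24 za58) (ka xa23 ya34 za53) (ka xa30 ya17 za50) (ka xa27 ya24 za30) (ka xa30 ya0 za31) (ka xa25 ya13 za13) (ka xa24 ya20 za26)) (@D3.rec (fun _ => Pt) (ka xa24 ya41 za24) (ka xa29 ya13 za43) (ka xa21 ya47 za37) (ka xa24 ya3 za58) (ka xa21 ya47 za42) (ka xa29 ya38 za61) (ka xa30 ya12 za41) (ka xa28 ya52 za54) (ka xa29 ya38 za58) (ka xa32 ya37 za3) (ka xa30 ya22 za40) (ka xa23 ya48 za7) (ka xa27 ya22 za30) (ka xa30 ya11 za15) (ka xa24 ya37 za33) (ka xa30 ya11 za16) (ka xa25 ya6 za7) (ka xa28 ya58 za34) (ka xa28 ya58 za54)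 (ka xa24 ya18 za4) (ka xa32 ya49 za13) (ka xa30 ya11 za14) (ka xa29 ya59 za7) (ka xa24 ya11 za28) (ka xa21 ya48 za1) (ka xa31 ya56 za2) (ka xa26 ya59 za45) (ka xa25 ya32 za5) (ka xa32 ya4 za4) (ka xa32 ya14 za20) (ka xa29 ya59 za19) (ka xa29 ya59 za20) (ka xa27 ya18 za49) (ka xa29 ya59 za24) (ka xa29 ya59 za13) (ka xa27 ya36 za11) (ka xa29 ya43 za42) (ka xa32 ya50 za32) (ka xa28 ya54 za35) (ka xa30 ya11 za22) (ka xa21 ya48 za25) (ka xa29 ya4 za52) (ka xa30 ya11 za21) (ka xa23 ya1 za13) (ka xa30 ya11 za19) (ka xa30 ya11 za18) (ka xa21 ya48 za32) (ka xa29 ya4 za38) (ka xa29 ya3 za36) (ka xa25 ya4 za22) (ka xa25 ya13 za10) (ka xa31 ya20 za29) (ka xa21 ya48 za36) (ka xa28 ya49 za28) (ka xa31 ya53 za7) (ka xa32 ya24 za13) (ka xa30 ya56 za35) (ka xa21 ya48 za43) (ka xa21 ya48 za40) (ka xa29 ya56 za28) (ka xa21 ya48 za42) (ka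 xa24 ya40 za8)) (@D3.rec (fun _ => Pt) (ka xa31 ya3 za31) (ka xa29 ya3 za50) (ka xa31 ya46 za16) (ka xa32 ya24 za12) (ka xa29 ya5 za22) (ka xa29 ya5 za23) (ka xa29 ya3 za52) (ka xa27 ya3 za53) (ka xa31 ya47 za12) (ka xa29 ya59 za32) (ka xa31 ya11 za20) (ka xa32 ya50 za6) (ka xa30 ya6 za14) (ka xa31 ya37 za60) (ka xa30 ya10 za25) (ka xa30 ya10 za24) (ka xa30 ya6 za12) (ka xa30 ya6 za11) (ka xa31 ya3 za45) (ka xa29 ya59 za30) (ka xa30 ya55 za55) (ka xa24 ya22 za9) (ka xa25 ya32 za9) (ka xa21 ya49 za4) (ka xa30 ya10 za15) (ka xa30 ya10 za14) (ka xa32 ya50 za36) (ka xa31 ya9 za33) (ka xa31 ya24 za46) (ka xa29 ya4 za32) (ka xa31 ya9 za35) (ka xa31 ya3 za17) (ka xa32 ya16 za20) (ka xa32 ya42 za59) (ka xa30 ya17 za5) (ka xa21 ya49 za21) (ka xa21 ya49 za22) (ka xa31 ya57 za51) (ka xa25 ya40 za13) (ka xa25 ya40 za15) (ka xa31 ya57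 za48) (ka xa25 ya40 za9) (ka xa25 ya40 za11) (ka xa25 ya40 za16) (ka xa25 ya30 za19) (ka xa31 ya13 za23) (ka xa23 ya21 za47) (ka xa30 ya33 za35) (ka xa32 ya42 za61) (ka xa29 ya59 za36) (ka xa29 ya59 za37) (ka xa29 ya59 za38) (ka xa29 ya58 za25) (ka xa30 ya37 za11) (ka xa29 ya5 za27) (ka xa31 ya54 za36) (ka xa31 ya54 za58) (ka xa26 ya6 za46) (ka xa23 ya26 za35) (ka xa31 ya9 za1) (ka xa31 ya10 za14) (ka xa22 ya18 za20)) (@D3.rec (fun _ => Pt) (ka xa22 ya7 za1) (ka xa27 ya8 za27) (ka xa21 ya58 za40) (ka xa27 ya21 za0) (ka xa26 ya2 za42) (ka xa21 ya50 za3) (ka xa29 ya51 za52) (ka xa21 ya50 za4) (ka xa27 ya27 za6) (ka xa30 ya11 za10) (ka xa30 ya11 za9) (ka xa30 ya13 za23) (ka xa29 ya52 za29) (ka xa26 ya15 za48) (ka xa30 ya9 za21) (ka xa30 ya9 za13) (ka xa30 ya9 za15) (ka xa26 ya15 za49) (ka xa30 ya9 za45) (ka xa30 ya9 za44)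 (ka xa30 ya51 za37) (ka xa30 ya9 za42) (ka xa30 ya9 za39) (ka xa32 ya41 za30) (ka xa23 ya43 za5) (ka xa32 ya42 za10) (ka xa24 ya16 za57) (ka xa27 ya43 za38) (ka xa27 ya37 za51) (ka xa30 ya8 za40) (ka xa30 ya17 za0) (ka xa21 ya51 za40) (ka xa24 ya28 za7) (ka xa31 ya43 za30) (ka xa29 ya46 za22) (ka xa22 ya40 za57) (ka xa30 ya1 za10) (ka xa29 ya40 za3) (ka xa27 ya16 za4) (ka xa23 ya46 za2) (ka xa24 ya5 za53) (ka xa29 ya40 za4) (ka xa24 ya3 za1) (ka xa24 ya21 za25) (ka xa24 ya21 za28) (ka xa24 ya9 za53) (ka xa24 ya25 za5) (ka xa24 ya13 za54) (ka xa24 ya13 za52) (ka xa28 ya39 za11) (ka xa24 ya21 za37) (ka xa22 ya19 za20) (ka xa24 ya21 za38) (ka xa23 ya34 za19) (ka xa21 ya52 za42) (ka xa24 ya21 za44) (ka xa32 ya50 za39) (ka xa22 ya19 za40) (ka xa30 ya25 za29) (ka xa24 ya21 za51) (ka xa24 ya21 za53) (ka xa24 ya21 za19)) (@D3.rec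 (fun _ => Pt) (ka xa23 ya49 za18) (ka xa30 ya39 za1) (ka xa28 ya46 za5) (ka xa26 ya57 za16) (ka xa24 ya8 za36) (ka xa30 ya39 za36) (ka xa23 ya49 za30) (ka xa24 ya19 za25) (ka xa24 ya19 za28) (ka xa31 ya18 za57) (ka xa24 ya19 za31) (ka xa23 ya12 za28) (ka xa31 ya53 za42) (ka xa30 ya12 za34) (ka xa29 ya14 za41) (ka xa30 ya59 za61) (ka xa24 ya47 za43) (ka xa22 ya6 za13) (ka xa30 ya13 za54) (ka xa29 ya24 za35) (ka xa31 ya58 za13) (ka xa32 ya9 za19) (ka xa25 ya17 za10) (ka xa32 ya21 za56) (ka xa31 ya51 za10) (ka xa32 ya5 za26) (ka xa24 ya26 za8) (ka xa30 ya23 za37) (ka xa30 ya18 za19) (ka xa31 ya27 za58) (ka xa29 ya37 za13) (ka xa29 ya54 za6) (ka xa27 ya43 za19) (ka xa29 ya22 za42) (ka xa30 ya12 za13) (ka xa30 ya51 za45) (ka xa26 ya58 za20) (ka xa29 ya51 za48) (ka xa21 ya55 za3) (ka xa30 ya7 za36) (ka xa22 ya39 za27) (ka xa30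 ya9 za6) (ka xa24 ya33 za16) (ka xa28 ya32 za17) (ka xa28 ya32 za18) (ka xa28 ya32 za19) (ka xa30 ya2 za17) (ka xa30 ya2 za15) (ka xa23 ya31 za46) (ka xa21 ya55 za22) (ka xa30 ya41 za9) (ka xa29 ya55 za18) (ka xa23 ya55 za16) (ka xa23 ya41 za2) (ka xa21 ya55 za28) (ka xa31 ya7 za21) (ka xa30 ya0 za33) (ka xa29 ya51 za32) (ka xa23 ya3 za7) (ka xa23 ya3 za11) (ka xa29 ya58 za1) (ka xa27 ya1 za47)) (@D3.rec (fun _ => Pt) (ka xa21 ya55 za45) (ka xa27 ya17 za47) (ka xa30 ya59 za25) (ka xa29 ya10 za11) (ka xa28 ya4 za0) (ka xa32 ya6 za21) (ka xa25 ya2 za18) (ka xa29 ya51 za42) (ka xa29 ya51 za44) (ka xa27 ya58 za1) (ka xa30 ya20 za0) (ka xa31 ya37 za29) (ka xa31 ya56 za19) (ka xa30 ya31 za45) (ka xa21 ya56 za4) (ka xa31 ya0 za58) (ka xa30 ya51 za52) (ka xa30 ya2 za30) (ka xa31 ya0 za60) (ka xa32 ya50 za44) (ka xa26 ya8 za28)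 (ka xa30 ya47 za34) (ka xa29 ya57 za32) (ka xa30 ya11 za11) (ka xa30 ya1 za52) (ka xa26 ya0 za55) (ka xa23 ya32 za20) (ka xa26 ya9 za16) (ka xa22 ya58 za22) (ka xa23 ya33 za0) (ka xa23 ya2 za31) (ka xa30 ya58 za31) (ka xa23 ya31 za52) (ka xa23 ya31 za53) (ka xa32 ya9 za54) (ka xa30 ya17 za45) (ka xa32 ya48 za28) (ka xa30 ya40 za22) (ka xa23 ya43 za40) (ka xa26 ya0 za44) (ka xa31 ya6 za37) (ka xa23 ya46 za20) (ka xa30 ya58 za32) (ka xa23 ya33 za28) (ka xa27 ya18 za32) (ka xa31 ya1 za10) (ka xa30 ya17 za43) (ka xa31 ya7 za57) (ka xa21 ya56 za50) (ka xa32 ya50 za51) (ka xa30 ya42 za27) (ka xa31 ya8 za1) (ka xa30 ya2 za21) (ka xa30 ya33 za17) (ka xa30 ya12 za18) (ka xa30 ya33 za19) (ka xa30 ya33 za10) (ka xa30 ya33 za11) (ka xa30 ya33 za12) (ka xa23 ya31 za8) (ka xa30 ya33 za43) (ka xa30 ya33 za45)) (@D3.rec (fun _ => Pt)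 (ka xa22 ya42 za23) (ka xa30 ya33 za38) (ka xa32 ya5 za13) (ka xa30 ya52 za16) (ka xa32 ya43 za19) (ka xa32 ya3 za7) (ka xa27 ya30 za35) (ka xa21 ya58 za49) (ka xa26 ya54 za50) (ka xa21 ya57 za35) (ka xa24 ya33 za8) (ka xa27 ya43 za53) (ka xa25 ya50 za41) (ka xa32 ya22 za22) (ka xa29 ya16 za47) (ka xa31 ya34 za51) (ka xa27 ya41 za29) (ka xa21 ya58 za53) (ka xa21 ya58 za23) (ka xa27 ya31 za44) (ka xa21 ya58 za24) (ka xa30 ya8 za50) (ka xa31 ya45 za20) (ka xa30 ya19 za40) (ka xa26 ya11 za17) (ka xa22 ya1 za27) (ka xa25 ya41 za41) (ka xa25 ya13 za38) (ka xa30 ya0 za3) (ka xa31 ya1 za35) (ka xa31 ya50 za36) (ka xa22 ya10 za10) (ka xa25 ya55 za2) (ka xa25 ya45 za27) (ka xa24 ya22 za28) (ka xa32 ya45 za21) (ka xa26 ya15 za17) (ka xa29 ya13 za16) (ka xa21 ya59 za35) (ka xa22 ya9 za43) (ka xa30 ya1 za5) (ka xa21 ya59 za44) (ka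 xa31 ya48 za26) (ka xa21 ya59 za54) (ka xa28 ya46 za43) (ka xa23 ya49 za11) (ka xa31 ya33 za34) (ka xa23 ya49 za13) (ka xa30 ya25 za56) (ka xa22 ya0 za44) (ka xa22 ya0 za45) (ka xa22 ya0 za47) (ka xa22 ya0 za50) (ka xa22 ya1 za7) (ka xa22 ya1 za8) (ka xa32 ya11 za27) (ka xa22 ya1 za16) (ka xa22 ya1 za22) (ka xa22 ya1 za23) (ka xa22 ya1 za30) (ka xa22 ya25 za21) (ka xa32 ya1 za0)) (@D3.rec (fun _ => Pt) (ka xa32 ya22 za31) (ka xa22 ya1 za37) (ka xa23 ya24 za24) (ka xa31 ya45 za24) (ka xa24 ya44 za50) (ka xa32 ya23 za29) (ka xa22 ya0 za21) (ka xa30 ya5 za61) (ka xa23 ya53 za12) (ka xa23 ya53 za15) (ka xa23 ya53 za18) (ka xa28 ya4 za47) (ka xa26 ya45 za20) (ka xa27 ya11 za43) (ka xa24 ya29 za43) (ka xa24 ya29 za44) (ka xa24 ya29 za45) (ka xa24 ya29 za46) (ka xa24 ya29 za48) (ka xa32 ya45 za32) (ka xa28 ya48 za54) (ka xa28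 ya24 za4) (ka xa24 ya1 za7) (ka xa32 ya47 za26) (ka xa32 ya45 za28) (ka xa32 ya47 za5) (ka xa32 ya50 za16) (ka xa31 ya31 za0) (ka xa32 ya50 za55) (ka xa32 ya14 za19) (ka xa22 ya25 za20) (ka xa24 ya25 za52) (ka xa32 ya34 za24) (ka xa24 ya30 za16) (ka xa30 ya25 za16) (ka xa32 ya18 za37) (ka xa28 ya54 za58) (ka xa27 ya16 za18) (ka xa27 ya16 za19) (ka xa32 ya21 za24) (ka xa32 ya37 za28) (ka xa30 ya16 za30) (ka xa30 ya16 za32) (ka xa32 ya45 za4) (ka xa32 ya41 za45) (ka xa32 ya22 za55) (ka xa30 ya30 za20) (ka xa31 ya31 za17) (ka xa30 ya25 za15) (ka xa27 ya16 za11) (ka xa29 ya43 za25) (ka xa28 ya16 za14) (ka xa30 ya29 za48) (ka xa29 ya40 za44) (ka xa32 ya11 za26) (ka xa27 ya0 za36) (ka xa32 ya50 za56) (ka xa32 ya38 za61) (ka xa26 ya38 za3) (ka xa30 ya29 za59) (ka xa28 ya52 za42) (ka xa31 ya13 za55)) (@D3.rec (fun _ => Pt) (ka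 xa30 ya29 za45) (ka xa30 ya29 za24) (ka xa28 ya54 za36) (ka xa32 ya45 za52) (ka xa27 ya16 za29) (ka xa27 ya16 za26) (ka xa32 ya39 za56) (ka xa32 ya13 za24) (ka xa30 ya29 za21) (ka xa30 ya29 za25) (ka xa30 ya25 za47) (ka xa22 ya1 za36) (ka xa22 ya1 za32) (ka xa28 ya54 za28) (ka xa26 ya38 za53) (ka xa26 ya34 za34) (ka xa22 ya1 za33) (ka xa32 ya45 za22) (ka xa22 ya1 za35) (ka xa29 ya44 za8) (ka xa32 ya34 za5) (ka xa32 ya51 za2) (ka xa31 ya24 za29) (ka xa32 ya23 za27) (ka xa28 ya24 za6) (ka xa24 ya1 za16) (ka xa32 ya23 za28) (ka xa32 ya20 za61) (ka xa32 ya20 za60) (ka xa32 ya22 za29) (ka xa30 ya15 za41) (ka xa30 ya45 za16) (ka xa30 ya15 za42) (ka xa30 ya16 za44) (ka xa30 ya17 za1) (ka xa30 ya16 za43) (ka xa30 ya55 za4) (ka xa31 ya20 za25) (ka xa27 ya19 za44) (ka xa31 ya54 za31) (ka xa29 ya49 za18) (ka xa22 ya2 za59) (ka xa22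 ya2 za4) (ka xa30 ya16 za35) (ka xa30 ya16 za33) (ka xa31 ya49 za8) (ka xa31 ya37 za52) (ka xa31 ya49 za7) (ka xa32 ya14 za38) (ka xa31 ya35 za31) (ka xa30 ya19 za30) (ka xa22 ya2 za17) (ka xa29 ya28 za7) (ka xa23 ya8 za49) (ka xa25 ya7 za24) (ka xa27 ya14 za35) (ka xa22 ya2 za25) (ka xa27 ya19 za61) (ka xa25 ya41 za48) (ka xa31 ya37 za24) (ka xa29 ya11 za8) (ka xa31 ya3 za5)) (@D3.rec (fun _ => Pt) (ka xa30 ya11 za30) (ka xa30 ya16 za34) (ka xa30 ya3 za43) (ka xa27 ya26 za39) (ka xa31 ya1 za56) (ka xa30 ya10 za34) (ka xa22 ya3 za10) (ka xa29 ya53 za44) (ka xa26 ya23 za44) (ka xa31 ya55 za23) (ka xa32 ya11 za61) (ka xa29 ya43 za8) (ka xa27 ya42 za55) (ka xa30 ya8 za1) (ka xa29 ya43 za15) (ka xa30 ya17 za23) (ka xa32 ya14 za40) (ka xa30 ya17 za22) (ka xa32 ya11 za17) (ka xa29 ya44 za33) (ka xa28 ya27 za57) (ka xa32 ya15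 za46) (ka xa30 ya17 za17) (ka xa30 ya17 za15) (ka xa32 ya12 za56) (ka xa31 ya13 za24) (ka xa32 ya11 za35) (ka xa29 ya34 za34) (ka xa29 ya44 za5) (ka xa29 ya45 za46) (ka xa32 ya13 za1) (ka xa27 ya19 za4) (ka xa29 ya46 za27) (ka xa29 ya46 za30) (ka xa31 ya19 za35) (ka xa32 ya46 za46) (ka xa32 ya46 za47) (ka xa31 ya26 za2) (ka xa28 ya11 za32) (ka xa28 ya11 za33) (ka xa22 ya4 za40) (ka xa22 ya4 za43) (ka xa31 ya58 za37) (ka xa30 ya13 za46) (ka xa26 ya3 za25) (ka xa30 ya13 za35) (ka xa26 ya3 za30) (ka xa30 ya59 za26) (ka xa28 ya18 za5) (ka xa22 ya5 za36) (ka xa30 ya8 za57) (ka xa22 ya4 za59) (ka xa27 ya38 za9) (ka xa31 ya50 za4) (ka xa25 ya15 za6) (ka xa25 ya52 za55) (ka xa25 ya53 za1) (ka xa28 ya55 za50) (ka xa28 ya56 za8) (ka xa27 ya57 za3) (ka xa27 ya1 za26) (ka xa32 ya3 za43)) (@D3.rec (fun _ => Pt) (ka xa32 ya4 za58) (ka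 xa31 ya0 za41) (ka xa22 ya5 za30) (ka xa26 ya0 za4) (ka xa27 ya24 za12) (ka xa27 ya41 za32) (ka xa27 ya43 za18) (ka xa28 ya50 za16) (ka xa22 ya5 za54) (ka xa31 ya51 za18) (ka xa30 ya28 za31) (ka xa23 ya37 za35) (ka xa23 ya37 za36) (ka xa27 ya36 za45) (ka xa22 ya6 za5) (ka xa28 ya0 za38) (ka xa24 ya33 za55) (ka xa26 ya5 za59) (ka xa25 ya17 za26) (ka xa30 ya12 za28) (ka xa28 ya37 za37) (ka xa29 ya7 za40) (ka xa22 ya6 za32) (ka xa22 ya7 za9) (ka xa22 ya7 za12) (ka xa22 ya7 za14) (ka xa22 ya7 za15) (ka xa32 ya51 za12) (ka xa22 ya6 za50) (ka xa22 ya6 za51) (ka xa22 ya6 za56) (ka xa28 ya20 za45) (ka xa29 ya55 za31) (ka xa30 ya30 za44) (ka xa32 ya8 za30) (ka xa31 ya13 za39) (ka xa32 ya51 za13) (ka xa30 ya47 za22) (ka xa26 ya53 za46) (ka xa26 ya53 za44) (ka xa30 ya5 za60) (ka xa29 ya5 za51) (ka xa22 ya6 za59) (ka xa23 ya53 za34)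 (ka xa25 ya34 za25) (ka xa31 ya53 za35) (ka xa27 ya3 za3) (ka xa22 ya7 za2) (ka xa22 ya52 za49) (ka xa32 ya51 za17) (ka xa32 ya6 za16) (ka xa25 ya43 za59) (ka xa26 ya13 za49) (ka xa28 ya37 za0) (ka xa24 ya6 za45) (ka xa32 ya20 za17) (ka xa32 ya51 za9) (ka xa31 ya33 za12) (ka xa22 ya23 za1) (ka xa24 ya37 za51) (ka xa32 ya20 za16) (ka xa24 ya6 za34)) (@D3.rec (fun _ => Pt) (ka xa32 ya49 za61) (ka xa30 ya49 za52) (ka xa32 ya48 za3) (ka xa32 ya51 za10) (ka xa32 ya39 za46) (ka xa32 ya51 za27) (ka xa32 ya46 za9) (ka xa32 ya51 za11) (ka xa29 ya36 za29) (ka xa27 ya6 za57) (ka xa32 ya51 za29) (ka xa27 ya7 za15) (ka xa27 ya7 za1) (ka xa32 ya21 za29) (ka xa22 ya7 za21) (ka xa25 ya54 za46) (ka xa25 ya54 za39) (ka xa31 ya20 za4) (ka xa31 ya26 za41) (ka xa28 ya52 za6) (ka xa22 ya7 za50) (ka xa32 ya3 za39) (ka xa25 ya22 za3) (ka xa25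 ya22 za6) (ka xa30 ya7 za7) (ka xa31 ya52 za17) (ka xa29 ya35 za50) (ka xa31 ya56 za54) (ka xa27 ya5 za3) (ka xa25 ya57 za9) (ka xa30 ya16 za50) (ka xa27 ya26 za51) (ka xa25 ya29 za18) (ka xa27 ya3 za14) (ka xa26 ya3 za45) (ka xa25 ya35 za24) (ka xa24 ya5 za13) (ka xa30 ya8 za48) (ka xa29 ya42 za27) (ka xa24 ya40 za47) (ka xa30 ya14 za23) (ka xa22 ya10 za34) (ka xa26 ya33 za1) (ka xa30 ya4 za59) (ka xa27 ya4 za30) (ka xa25 ya55 za12) (ka xa30 ya47 za53) (ka xa29 ya50 za50) (ka xa31 ya33 za42) (ka xa31 ya53 za25) (ka xa25 ya36 za17) (ka xa22 ya9 za22) (ka xa22 ya9 za23) (ka xa23 ya50 za50) (ka xa30 ya54 za51) (ka xa25 ya58 za30) (ka xa29 ya44 za34) (ka xa29 ya51 za4) (ka xa25 ya34 za24) (ka xa29 ya51 za2) (ka xa27 ya3 za50) (ka xa27 ya7 za44)) (@D3.rec (fun _ => Pt) (ka xa30 ya13 za10) (ka xa25 ya35 za38) (ka xa25 ya35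 za18) (ka xa24 ya59 za33) (ka xa25 ya35 za60) (ka xa28 ya50 za46) (ka xa22 ya9 za57) (ka xa22 ya10 za9) (ka xa29 ya11 za24) (ka xa22 ya12 za14) (ka xa30 ya32 za40) (ka xa23 ya43 za41) (ka xa29 ya49 za34) (ka xa31 ya56 za40) (ka xa22 ya10 za27) (ka xa32 ya48 za61) (ka xa30 ya1 za45) (ka xa29 ya17 za20) (ka xa31 ya13 za5) (ka xa31 ya46 za5) (ka xa30 ya1 za41) (ka xa25 ya34 za19) (ka xa25 ya34 za20) (ka xa27 ya16 za3) (ka xa28 ya54 za43) (ka xa29 ya13 za40) (ka xa27 ya31 za12) (ka xa27 ya46 za43) (ka xa31 ya54 za30) (ka xa27 ya46 za30) (ka xa22 ya11 za51) (ka xa28 ya50 za3) (ka xa28 ya49 za55) (ka xa22 ya46 za12) (ka xa30 ya32 za46) (ka xa23 ya44 za48) (ka xa23 ya45 za8) (ka xa22 ya12 za22) (ka xa23 ya45 za14) (ka xa23 ya14 za4) (ka xa23 ya16 za4) (ka xa27 ya44 za38) (ka xa24 ya10 za61) (ka xa23 ya48 za47) (ka xa30 ya32 za16)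 (ka xa31 ya12 za57) (ka xa30 ya25 za21) (ka xa24 ya6 za61) (ka xa30 ya32 za17) (ka xa29 ya35 za41) (ka xa32 ya40 za5) (ka xa22 ya12 za38) (ka xa22 ya13 za18) (ka xa32 ya43 za58) (ka xa32 ya51 za15) (ka xa22 ya25 za55) (ka xa22 ya25 za54) (ka xa22 ya12 za40) (ka xa32 ya17 za33) (ka xa22 ya14 za17) (ka xa22 ya14 za18) (ka xa31 ya30 za41)) (@D3.rec (fun _ => Pt) (ka xa30 ya36 za17) (ka xa32 ya51 za37) (ka xa31 ya13 za27) (ka xa22 ya17 za2) (ka xa22 ya17 za3) (ka xa22 ya17 za4) (ka xa22 ya17 za15) (ka xa30 ya49 za27) (ka xa32 ya30 za57) (ka xa22 ya17 za22) (ka xa22 ya12 za59) (ka xa30 ya28 za26) (ka xa23 ya19 za21) (ka xa30 ya33 za57) (ka xa27 ya50 za11) (ka xa30 ya23 za10) (ka xa31 ya20 za3) (ka xa28 ya52 za2) (ka xa31 ya20 za12) (ka xa23 ya48 za42) (ka xa22 ya13 za11) (ka xa32 ya36 za28) (ka xa22 ya26 za0) (ka xa30 ya28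 za28) (ka xa30 ya28 za29) (ka xa22 ya13 za19) (ka xa22 ya13 za20) (ka xa31 ya26 za8) (ka xa31 ya26 za7) (ka xa30 ya38 za3) (ka xa32 ya47 za28) (ka xa32 ya20 za49) (ka xa32 ya51 za34) (ka xa30 ya45 za6) (ka xa32 ya51 za46) (ka xa32 ya27 za9) (ka xa32 ya4 za24) (ka xa31 ya29 za60) (ka xa32 ya35 za20) (ka xa30 ya57 za45) (ka xa29 ya35 za43) (ka xa30 ya37 za61) (ka xa23 ya13 za21) (ka xa31 ya30 za40) (ka xa30 ya29 za18) (ka xa30 ya29 za15) (ka xa22 ya13 za27) (ka xa32 ya20 za50) (ka xa24 ya15 za45) (ka xa27 ya8 za57) (ka xa22 ya13 za36) (ka xa30 ya38 za41) (ka xa24 ya1 za51) (ka xa23 ya52 za52) (ka xa22 ya13 za41) (ka xa22 ya13 za42) (ka xa30 ya28 za30) (ka xa22 ya33 za18) (ka xa32 ya51 za56) (ka xa32 ya51 za53) (ka xa32 ya51 za54) (ka xa32 ya33 za58)) (@D3.rec (fun _ => Pt) (ka xa32 ya46 za25) (ka xa30 ya38 za31) (ka xa30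 ya28 za24) (ka xa30 ya28 za23) (ka xa22 ya13 za44) (ka xa30 ya38 za21) (ka xa22 ya13 za50) (ka xa32 ya20 za19) (ka xa31 ya31 za22) (ka xa30 ya30 za34) (ka xa22 ya13 za51) (ka xa32 ya16 za43) (ka xa32 ya51 za14) (ka xa32 ya36 za31) (ka xa32 ya39 za57) (ka xa22 ya13 za53) (ka xa31 ya21 za35) (ka xa22 ya13 za58) (ka xa22 ya13 za54) (ka xa31 ya22 za25) (ka xa30 ya49 za61) (ka xa31 ya7 za1) (ka xa30 ya38 za19) (ka xa22 ya13 za55) (ka xa31 ya19 za27) (ka xa31 ya15 za15) (ka xa31 ya1 za50) (ka xa22 ya13 za57) (ka xa22 ya19 za39) (ka xa32 ya52 za10) (ka xa32 ya40 za3) (ka xa29 ya36 za45) (ka xa30 ya30 za27) (ka xa22 ya14 za7) (ka xa27 ya6 za59) (ka xa28 ya37 za51) (ka xa28 ya34 za26) (ka xa30 ya38 za11) (ka xa24 ya24 za52) (ka xa29 ya39 za29) (ka xa30 ya9 za10) (ka xa29 ya37 za2) (ka xa32 ya49 za41) (ka xa29 ya36 za51) (ka xa30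 ya31 za19) (ka xa30 ya31 za18) (ka xa22 ya14 za15) (ka xa32 ya36 za52) (ka xa23 ya7 za30) (ka xa32 ya48 za35) (ka xa28 ya45 za0) (ka xa31 ya15 za46) (ka xa29 ya36 za34) (ka xa28 ya37 za44) (ka xa22 ya18 za37) (ka xa22 ya14 za22) (ka xa22 ya50 za37) (ka xa30 ya31 za32) (ka xa30 ya31 za33) (ka xa31 ya21 za32) (ka xa30 ya30 za23) (ka xa30 ya39 za41)) (@D3.rec (fun _ => Pt) (ka xa30 ya52 za7) (ka xa30 ya37 za45) (ka xa23 ya46 za4) (ka xa30 ya42 za49) (ka xa22 ya14 za35) (ka xa22 ya14 za37) (ka xa25 ya25 za28) (ka xa22 ya18 za12) (ka xa28 ya3 za41) (ka xa28 ya3 za42) (ka xa30 ya21 za15) (ka xa22 ya36 za10) (ka xa28 ya30 za18) (ka xa28 ya19 za12) (ka xa27 ya28 za53) (ka xa27 ya29 za61) (ka xa27 ya30 za0) (ka xa27 ya27 za45) (ka xa29 ya2 za22) (ka xa27 ya48 za58) (ka xa22 ya36 za14) (ka xa28 ya2 za23) (ka xa32 ya6 za55) (ka xa25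 ya1 za34) (ka xa31 ya15 za39) (ka xa23 ya51 za55) (ka xa23 ya51 za56) (ka xa22 ya35 za11) (ka xa27 ya34 za58) (ka xa26 ya39 za24) (ka xa23 ya51 za0) (ka xa24 ya59 za6) (ka xa22 ya28 za34) (ka xa23 ya47 za21) (ka xa23 ya47 za27) (ka xa29 ya35 za10) (ka xa22 ya41 za40) (ka xa30 ya12 za27) (ka xa23 ya41 za7) (ka xa31 ya15 za44) (ka xa30 ya35 za57) (ka xa30 ya45 za8) (ka xa30 ya35 za58) (ka xa28 ya38 za43) (ka xa31 ya30 za42) (ka xa22 ya27 za0) (ka xa22 ya27 za1) (ka xa22 ya26 za61) (ka xa22 ya47 za3) (ka xa22 ya16 za25) (ka xa23 ya11 za31) (ka xa32 ya33 za51) (ka xa22 ya16 za36) (ka xa25 ya23 za41) (ka xa23 ya2 za15) (ka xa23 ya2 za16) (ka xa25 ya48 za2) (ka xa29 ya28 za42) (ka xa28 ya52 za21) (ka xa22 ya20 za4) (ka xa29 ya3 za29) (ka xa28 ya35 za21)) (@D3.rec (fun _ => Pt) (ka xa31 ya15 za53) (ka xa28 ya35 za35) (ka xa31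 ya15 za56) (ka xa28 ya35 za42) (ka xa30 ya53 za13) (ka xa30 ya48 za2) (ka xa30 ya53 za15) (ka xa31 ya7 za15) (ka xa31 ya6 za42) (ka xa30 ya50 za14) (ka xa31 ya15 za61) (ka xa31 ya6 za46) (ka xa23 ya19 za10) (ka xa28 ya37 za20) (ka xa28 ya35 za55) (ka xa29 ya8 za0) (ka xa26 ya42 za52) (ka xa28 ya51 za0) (ka xa32 ya9 za13) (ka xa30 ya44 za7) (ka xa31 ya48 za61) (ka xa26 ya24 za19) (ka xa30 ya2 za35) (ka xa32 ya44 za1) (ka xa22 ya17 za18) (ka xa29 ya19 za61) (ka xa22 ya17 za28) (ka xa30 ya47 za60) (ka xa29 ya28 za41) (ka xa29 ya31 za56) (ka xa32 ya48 za33) (ka xa27 ya15 za29) (ka xa28 ya22 za17) (ka xa28 ya34 za35) (ka xa22 ya49 za21) (ka xa23 ya5 za55) (ka xa23 ya5 za43) (ka xa22 ya55 za25) (ka xa22 ya17 za36) (ka xa25 ya42 za40) (ka xa25 ya39 za60) (ka xa31 ya8 za21) (ka xa28 ya43 za52) (ka xa27 ya55 za33) (ka xa29 ya26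 za6) (ka xa30 ya35 za14) (ka xa30 ya35 za15) (ka xa30 ya35 za19) (ka xa30 ya35 za20) (ka xa28 ya36 za28) (ka xa30 ya35 za21) (ka xa27 ya54 za3) (ka xa31 ya45 za19) (ka xa22 ya18 za13) (ka xa24 ya55 za33) (ka xa24 ya59 za4) (ka xa29 ya38 za49) (ka xa27 ya31 za19) (ka xa30 ya27 za59) (ka xa26 ya29 za53) (ka xa26 ya29 za52) (ka xa27 ya58 za58)) (@D3.rec (fun _ => Pt) (ka xa23 ya44 za11) (ka xa25 ya18 za15) (ka xa30 ya5 za26) (ka xa22 ya18 za43) (ka xa25 ya1 za11) (ka xa29 ya39 za3) (ka xa24 ya56 za2) (ka xa27 ya27 za31) (ka xa30 ya25 za11) (ka xa30 ya25 za32) (ka xa30 ya25 za36) (ka xa30 ya25 za8) (ka xa29 ya18 za46) (ka xa23 ya49 za2) (ka xa23 ya22 za3) (ka xa30 ya15 za48) (ka xa30 ya15 za34) (ka xa29 ya55 za51) (ka xa29 ya55 za6) (ka xa31 ya12 za30) (ka xa28 ya52 za29) (ka xa30 ya20 za46) (ka xa30 ya28 za43) (ka xa22 ya19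 za9) (ka xa32 ya44 za21) (ka xa31 ya12 za36) (ka xa31 ya12 za37) (ka xa29 ya40 za52) (ka xa24 ya1 za11) (ka xa30 ya11 za58) (ka xa31 ya12 za38) (ka xa31 ya14 za6) (ka xa30 ya25 za9) (ka xa30 ya30 za14) (ka xa30 ya28 za7) (ka xa26 ya57 za22) (ka xa30 ya25 za10) (ka xa28 ya46 za16) (ka xa28 ya46 za14) (ka xa22 ya19 za27) (ka xa22 ya23 za58) (ka xa29 ya40 za32) (ka xa22 ya24 za24) (ka xa22 ya19 za28) (ka xa22 ya25 za25) (ka xa22 ya19 za30) (ka xa22 ya19 za33) (ka xa30 ya16 za10) (ka xa32 ya47 za46) (ka xa22 ya25 za10) (ka xa22 ya25 za9) (ka xa22 ya19 za34) (ka xa22 ya19 za36) (ka xa22 ya25 za35) (ka xa22 ya25 za34) (ka xa22 ya19 za37) (ka xa30 ya14 za48) (ka xa23 ya51 za7) (ka xa31 ya13 za15) (ka xa32 ya45 za14) (ka xa22 ya19 za45) (ka xa22 ya27 za24)) (@D3.rec (fun _ => Pt) (ka xa22 ya27 za36) (ka xa24 ya25 za6) (ka xa22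 ya26 za41) (ka xa22 ya26 za29) (ka xa22 ya26 za28) (ka xa22 ya19 za49) (ka xa30 ya53 za2) (ka xa31 ya36 za46) (ka xa24 ya24 za5) (ka xa22 ya19 za56) (ka xa28 ya15 za10) (ka xa23 ya57 za43) (ka xa22 ya20 za9) (ka xa23 ya57 za44) (ka xa24 ya1 za38) (ka xa23 ya57 za46) (ka xa28 ya35 za44) (ka xa28 ya52 za23) (ka xa28 ya17 za44) (ka xa32 ya15 za37) (ka xa24 ya13 za15) (ka xa23 ya57 za50) (ka xa28 ya17 za46) (ka xa24 ya13 za17) (ka xa24 ya13 za18) (ka xa28 ya34 za31) (ka xa30 ya53 za53) (ka xa27 ya21 za44) (ka xa32 ya30 za13) (ka xa22 ya20 za29) (ka xa32 ya19 za43) (ka xa28 ya53 za15) (ka xa30 ya53 za14) (ka xa31 ya22 za48) (ka xa22 ya57 za16) (ka xa23 ya0 za34) (ka xa22 ya49 za29) (ka xa30 ya56 za13) (ka xa31 ya22 za49) (ka xa23 ya0 za19) (ka xa30 ya43 za12) (ka xa22 ya56 za45) (ka xa30 ya43 za56) (ka xa30 ya44 za1) (ka xa29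 ya32 za24) (ka xa30 ya43 za61) (ka xa28 ya23 za48) (ka xa22 ya20 za50) (ka xa25 ya43 za13) (ka xa28 ya31 za8) (ka xa22 ya20 za59) (ka xa31 ya47 za37) (ka xa26 ya43 za29) (ka xa25 ya25 za2) (ka xa30 ya27 za46) (ka xa27 ya43 za15) (ka xa31 ya29 za19) (ka xa29 ya40 za54) (ka xa24 ya22 za61) (ka xa25 ya37 za32) (ka xa29 ya27 za19) (ka xa31 ya3 za7)) (@D3.rec (fun _ => Pt) (ka xa22 ya23 za46) (ka xa22 ya21 za40) (ka xa29 ya42 za29) (ka xa31 ya15 za31) (ka xa31 ya15 za30) (ka xa25 ya47 za51) (ka xa31 ya17 za13) (ka xa29 ya17 za56) (ka xa31 ya17 za15) (ka xa31 ya17 za16) (ka xa28 ya53 za50) (ka xa28 ya53 za51) (ka xa29 ya14 za28) (ka xa31 ya52 za2) (ka xa29 ya27 za28) (ka xa31 ya34 za27) (ka xa25 ya56 za23) (ka xa32 ya38 za39) (ka xa27 ya21 za60) (ka xa31 ya21 za2) (ka xa31 ya28 za32) (ka xa32 ya21 za43) (ka xa29 ya1 za49) (ka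 xa23 ya59 za35) (ka xa24 ya23 za44) (ka xa30 ya28 za39) (ka xa31 ya17 za21) (ka xa29 ya8 za31) (ka xa29 ya8 za29) (ka xa31 ya17 za22) (ka xa27 ya10 za58) (ka xa22 ya22 za37) (ka xa30 ya6 za54) (ka xa29 ya27 za39) (ka xa32 ya1 za14) (ka xa30 ya49 za4) (ka xa27 ya9 za35) (ka xa23 ya53 za25) (ka xa31 ya7 za37) (ka xa27 ya13 za13) (ka xa24 ya13 za34) (ka xa29 ya16 za33) (ka xa31 ya48 za43) (ka xa24 ya25 za54) (ka xa22 ya48 za50) (ka xa25 ya27 za45) (ka xa30 ya26 za54) (ka xa32 ya47 za6) (ka xa29 ya33 za22) (ka xa28 ya41 za31) (ka xa24 ya5 za56) (ka xa24 ya5 za48) (ka xa27 ya43 za1) (ka xa27 ya42 za58) (ka xa23 ya8 za28) (ka xa27 ya2 za36) (ka xa29 ya34 za40) (ka xa26 ya27 za34) (ka xa25 ya30 za54) (ka xa30 ya24 za58) (ka xa22 ya23 za41) (ka xa32 ya14 za26)) (@D3.rec (fun _ => Pt) (ka xa32 ya47 za55) (ka xa28 ya22 za32) (ka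 xa28 ya48 za59) (ka xa31 ya31 za38) (ka xa24 ya9 za59) (ka xa32 ya45 za17) (ka xa28 ya48 za48) (ka xa30 ya25 za34) (ka xa32 ya15 za9) (ka xa22 ya24 za4) (ka xa22 ya24 za10) (ka xa32 ya46 za30) (ka xa28 ya44 za16) (ka xa28 ya54 za31) (ka xa31 ya33 za7) (ka xa31 ya33 za9) (ka xa22 ya24 za0) (ka xa30 ya29 za5) (ka xa30 ya29 za4) (ka xa28 ya54 za46) (ka xa30 ya29 za17) (ka xa26 ya51 za40) (ka xa30 ya29 za14) (ka xa30 ya22 za3) (ka xa30 ya22 za2) (ka xa32 ya52 za30) (ka xa30 ya21 za11) (ka xa30 ya50 za34) (ka xa30 ya21 za23) (ka xa30 ya21 za24) (ka xa30 ya21 za56) (ka xa30 ya18 za10) (ka xa28 ya46 za15) (ka xa24 ya25 za53) (ka xa26 ya59 za58) (ka xa29 ya35 za11) (ka xa31 ya1 za24) (ka xa22 ya24 za17) (ka xa27 ya8 za33) (ka xa30 ya27 za25) (ka xa27 ya36 za2) (ka xa28 ya29 za18) (ka xa24 ya24 za51) (ka xa30 ya25 za22) (ka xa22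 ya24 za21) (ka xa29 ya38 za14) (ka xa31 ya33 za15) (ka xa32 ya22 za13) (ka xa27 ya7 za17) (ka xa24 ya24 za42) (ka xa32 ya42 za52) (ka xa27 ya7 za16) (ka xa32 ya22 za16) (ka xa32 ya52 za41) (ka xa31 ya31 za8) (ka xa31 ya31 za9) (ka xa32 ya52 za43) (ka xa22 ya24 za41) (ka xa31 ya31 za16) (ka xa32 ya52 za46) (ka xa31 ya31 za13) (ka xa31 ya31 za14)) (@D3.rec (fun _ => Pt) (ka xa32 ya32 za37) (ka xa30 ya29 za36) (ka xa30 ya29 za35) (ka xa31 ya13 za61) (ka xa30 ya28 za18) (ka xa30 ya28 za17) (ka xa22 ya24 za39) (ka xa32 ya40 za23) (ka xa31 ya31 za54) (ka xa32 ya23 za9) (ka xa32 ya15 za34) (ka xa32 ya44 za13) (ka xa32 ya19 za11) (ka xa22 ya35 za48) (ka xa30 ya28 za22) (ka xa30 ya21 za45) (ka xa32 ya16 za53) (ka xa30 ya28 za20) (ka xa30 ya21 za44) (ka xa22 ya24 za51) (ka xa29 ya33 za42) (ka xa30 ya16 za8) (ka xa22 ya25 za2) (ka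 xa22 ya25 za3) (ka xa30 ya16 za1) (ka xa30 ya16 za9) (ka xa31 ya12 za43) (ka xa27 ya0 za43) (ka xa29 ya40 za48) (ka xa22 ya25 za8) (ka xa29 ya47 za0) (ka xa32 ya50 za38) (ka xa31 ya30 za54) (ka xa32 ya45 za54) (ka xa32 ya14 za8) (ka xa30 ya29 za2) (ka xa30 ya29 za1) (ka xa29 ya26 za14) (ka xa32 ya50 za30) (ka xa32 ya4 za7) (ka xa32 ya52 za52) (ka xa31 ya31 za1) (ka xa22 ya25 za28) (ka xa28 ya16 za60) (ka xa29 ya39 za46) (ka xa30 ya16 za0) (ka xa22 ya25 za37) (ka xa32 ya45 za15) (ka xa30 ya15 za52) (ka xa30 ya48 za55) (ka xa22 ya25 za41) (ka xa32 ya34 za14) (ka xa32 ya44 za9) (ka xa29 ya26 za20) (ka xa22 ya25 za58) (ka xa24 ya9 za52) (ka xa29 ya3 za9) (ka xa29 ya55 za53) (ka xa22 ya25 za52) (ka xa30 ya15 za59) (ka xa24 ya1 za12) (ka xa26 ya29 za47)) (@D3.rec (fun _ => Pt) (ka xa32 ya40 za8) (ka xa32 ya39 za53) (ka xa32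 ya39 za61) (ka xa32 ya36 za12) (ka xa32 ya46 za37) (ka xa27 ya21 za22) (ka xa32 ya18 za56) (ka xa31 ya53 za37) (ka xa28 ya51 za15) (ka xa31 ya1 za51) (ka xa31 ya1 za49) (ka xa22 ya26 za16) (ka xa24 ya25 za15) (ka xa26 ya57 za19) (ka xa30 ya25 za33) (ka xa29 ya40 za58) (ka xa22 ya26 za32) (ka xa24 ya26 za33) (ka xa28 ya46 za17) (ka xa22 ya40 za31) (ka xa30 ya15 za46) (ka xa26 ya59 za60) (ka xa28 ya35 za12) (ka xa30 ya22 za60) (ka xa26 ya52 za3) (ka xa28 ya51 za54) (ka xa26 ya49 za24) (ka xa30 ya22 za32) (ka xa29 ya36 za33) (ka xa28 ya31 za0) (ka xa29 ya41 za5) (ka xa31 ya22 za59) (ka xa30 ya31 za21) (ka xa26 ya51 za61) (ka xa30 ya22 za9) (ka xa30 ya45 za4) (ka xa24 ya9 za47) (ka xa22 ya26 za54) (ka xa29 ya36 za38) (ka xa29 ya48 za18) (ka xa29 ya19 za40) (ka xa32 ya44 za27) (ka xa28 ya33 za13) (ka xa32 ya30 za50) (ka xa30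 ya18 za33) (ka xa30 ya50 za45) (ka xa29 ya36 za58) (ka xa30 ya50 za43) (ka xa22 ya39 za46) (ka xa25 ya58 za9) (ka xa27 ya47 za55) (ka xa22 ya27 za30) (ka xa22 ya27 za32) (ka xa22 ya27 za34) (ka xa32 ya22 za14) (ka xa28 ya54 za52) (ka xa29 ya40 za39) (ka xa30 ya48 za59) (ka xa28 ya54 za51) (ka xa32 ya46 za38) (ka xa32 ya52 za22) (ka xa27 ya16 za32)) (@D3.rec (fun _ => Pt) (ka xa28 ya54 za41) (ka xa28 ya54 za40) (ka xa28 ya54 za23) (ka xa32 ya45 za39) (ka xa32 ya47 za33) (ka xa32 ya47 za34) (ka xa30 ya42 za57) (ka xa31 ya33 za38) (ka xa31 ya33 za39) (ka xa32 ya47 za31) (ka xa29 ya26 za7) (ka xa28 ya8 za46) (ka xa22 ya33 za44) (ka xa30 ya52 za4) (ka xa30 ya50 za9) (ka xa30 ya48 za0) (ka xa32 ya52 za59) (ka xa31 ya12 za53) (ka xa30 ya22 za45) (ka xa30 ya22 za44) (ka xa32 ya44 za2) (ka xa30 ya30 za32) (ka xa31 ya15 za58) (ka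 xa32 ya46 za43) (ka xa22 ya27 za41) (ka xa24 ya24 za23) (ka xa24 ya24 za53) (ka xa24 ya24 za34) (ka xa30 ya52 za3) (ka xa22 ya41 za35) (ka xa24 ya3 za61) (ka xa24 ya3 za59) (ka xa30 ya22 za57) (ka xa30 ya22 za58) (ka xa29 ya2 za15) (ka xa23 ya16 za29) (ka xa30 ya58 za37) (ka xa31 ya7 za56) (ka xa32 ya4 za37) (ka xa28 ya13 za19) (ka xa30 ya42 za35) (ka xa22 ya49 za2) (ka xa23 ya43 za33) (ka xa23 ya33 za6) (ka xa24 ya43 za47) (ka xa30 ya13 za13) (ka xa22 ya45 za5) (ka xa31 ya11 za33) (ka xa31 ya11 za34) (ka xa31 ya11 za35) (ka xa32 ya46 za17) (ka xa25 ya0 za40) (ka xa22 ya28 za48) (ka xa22 ya49 za36) (ka xa23 ya42 za61) (ka xa22 ya50 za3) (ka xa30 ya54 za7) (ka xa26 ya19 za49) (ka xa22 ya42 za2) (ka xa22 ya51 za49) (ka xa27 ya32 za35) (ka xa23 ya6 za42)) (@D3.rec (fun _ => Pt) (ka xa30 ya6 za61) (ka xa22 ya29 za30) (ka xa31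 ya1 za1) (ka xa23 ya15 za21) (ka xa23 ya7 za54) (ka xa29 ya29 za57) (ka xa30 ya58 za35) (ka xa23 ya3 za12) (ka xa30 ya58 za36) (ka xa27 ya55 za49) (ka xa27 ya55 za53) (ka xa23 ya33 za27) (ka xa23 ya33 za29) (ka xa23 ya41 za1) (ka xa23 ya58 za35) (ka xa31 ya13 za42) (ka xa30 ya20 za44) (ka xa30 ya20 za48) (ka xa29 ya29 za33) (ka xa22 ya39 za36) (ka xa22 ya39 za35) (ka xa28 ya17 za22) (ka xa31 ya30 za8) (ka xa22 ya39 za40) (ka xa22 ya39 za41) (ka xa22 ya39 za43) (ka xa22 ya37 za39) (ka xa22 ya39 za22) (ka xa23 ya52 za47) (ka xa23 ya52 za48) (ka xa28 ya16 za33) (ka xa22 ya41 za52) (ka xa22 ya41 za53) (ka xa22 ya41 za56) (ka xa22 ya30 za9) (ka xa31 ya58 za44) (ka xa31 ya12 za15) (ka xa29 ya32 za38) (ka xa32 ya18 za47) (ka xa22 ya30 za54) (ka xa30 ya20 za10) (ka xa22 ya30 za23) (ka xa30 ya53 za60) (ka xa30 ya42 za32) (ka xa23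 ya21 za22) (ka xa29 ya9 za45) (ka xa30 ya20 za34) (ka xa22 ya30 za42) (ka xa22 ya30 za45) (ka xa32 ya5 za0) (ka xa29 ya12 za17) (ka xa23 ya2 za11) (ka xa23 ya32 za43) (ka xa23 ya17 za51) (ka xa23 ya17 za52) (ka xa28 ya28 za10) (ka xa26 ya23 za45) (ka xa28 ya9 za50) (ka xa23 ya54 za40) (ka xa23 ya47 za40) (ka xa22 ya31 za3) (ka xa22 ya31 za4)) (@D3.rec (fun _ => Pt) (ka xa22 ya49 za4) (ka xa23 ya54 za44) (ka xa23 ya54 za45) (ka xa22 ya59 za31) (ka xa31 ya1 za15) (ka xa31 ya46 za22) (ka xa32 ya2 za12) (ka xa32 ya33 za46) (ka xa31 ya49 za20) (ka xa29 ya10 za24) (ka xa30 ya13 za56) (ka xa30 ya13 za57) (ka xa30 ya13 za58) (ka xa29 ya59 za28) (ka xa31 ya38 za6) (ka xa29 ya12 za18) (ka xa31 ya2 za20) (ka xa30 ya13 za53) (ka xa30 ya59 za24) (ka xa30 ya13 za55) (ka xa30 ya43 za5) (ka xa30 ya43 za4) (ka xa31 ya6 za26) (ka xa31 ya1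 za9) (ka xa32 ya50 za18) (ka xa30 ya43 za6) (ka xa22 ya31 za35) (ka xa22 ya31 za37) (ka xa22 ya31 za39) (ka xa23 ya18 za8) (ka xa31 ya1 za11) (ka xa28 ya13 za18) (ka xa30 ya39 za53) (ka xa31 ya1 za13) (ka xa32 ya43 za6) (ka xa30 ya10 za47) (ka xa23 ya54 za49) (ka xa32 ya53 za14) (ka xa30 ya14 za1) (ka xa29 ya55 za38) (ka xa22 ya31 za52) (ka xa23 ya42 za40) (ka xa26 ya9 za32) (ka xa30 ya13 za60) (ka xa25 ya51 za24) (ka xa30 ya13 za61) (ka xa31 ya1 za6) (ka xa30 ya6 za42) (ka xa29 ya19 za25) (ka xa22 ya31 za58) (ka xa30 ya34 za60) (ka xa24 ya7 za34) (ka xa31 ya1 za8) (ka xa31 ya0 za5) (ka xa27 ya57 za55) (ka xa22 ya35 za54) (ka xa30 ya51 za0) (ka xa30 ya21 za13) (ka xa26 ya51 za36) (ka xa27 ya26 za31) (ka xa22 ya32 za27) (ka xa22 ya38 za33)) (@D3.rec (fun _ => Pt) (ka xa22 ya38 za14) (ka xa22 ya38 za20) (ka xa22 ya37 za41)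 (ka xa22 ya32 za39) (ka xa22 ya37 za55) (ka xa22 ya39 za10) (ka xa22 ya39 za18) (ka xa22 ya39 za20) (ka xa22 ya40 za43) (ka xa22 ya40 za44) (ka xa22 ya40 za46) (ka xa26 ya5 za61) (ka xa22 ya40 za50) (ka xa22 ya40 za52) (ka xa22 ya41 za7) (ka xa22 ya33 za1) (ka xa22 ya41 za28) (ka xa22 ya33 za12) (ka xa22 ya33 za14) (ka xa22 ya33 za16) (ka xa22 ya33 za19) (ka xa32 ya40 za38) (ka xa32 ya50 za42) (ka xa23 ya48 za51) (ka xa32 ya52 za40) (ka xa32 ya53 za9) (ka xa31 ya19 za29) (ka xa31 ya40 za28) (ka xa32 ya11 za37) (ka xa31 ya20 za9) (ka xa32 ya53 za23) (ka xa32 ya52 za9) (ka xa22 ya33 za20) (ka xa31 ya15 za11) (ka xa23 ya48 za43) (ka xa22 ya49 za10) (ka xa22 ya33 za30) (ka xa25 ya51 za5) (ka xa28 ya25 za31) (ka xa23 ya12 za39) (ka xa29 ya45 za52) (ka xa29 ya36 za53) (ka xa23 ya54 za16) (ka xa23 ya54 za17) (ka xa23 ya54 za18)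 (ka xa32 ya28 za50) (ka xa23 ya54 za23) (ka xa23 ya18 za51) (ka xa23 ya54 za30) (ka xa23 ya54 za29) (ka xa31 ya11 za57) (ka xa32 ya27 za32) (ka xa32 ya35 za11) (ka xa22 ya33 za51) (ka xa32 ya24 za34) (ka xa31 ya58 za34) (ka xa22 ya33 za55) (ka xa23 ya54 za57) (ka xa31 ya11 za7) (ka xa23 ya55 za10) (ka xa30 ya33 za50) (ka xa32 ya4 za61)) (@D3.rec (fun _ => Pt) (ka xa30 ya44 za38) (ka xa30 ya59 za50) (ka xa30 ya59 za49) (ka xa22 ya34 za6) (ka xa22 ya41 za48) (ka xa22 ya41 za49) (ka xa23 ya48 za34) (ka xa23 ya52 za51) (ka xa32 ya36 za53) (ka xa28 ya39 za36) (ka xa23 ya32 za33) (ka xa29 ya55 za39) (ka xa23 ya53 za47) (ka xa30 ya52 za61) (ka xa30 ya24 za45) (ka xa30 ya24 za46) (ka xa26 ya18 za13) (ka xa28 ya46 za32) (ka xa28 ya6 za4) (ka xa30 ya24 za47) (ka xa30 ya24 za48) (ka xa30 ya24 za50) (ka xa22 ya34 za41) (ka xa22 ya34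 za51) (ka xa22 ya34 za52) (ka xa23 ya50 za30) (ka xa32 ya29 za12) (ka xa32 ya53 za30) (ka xa30 ya44 za52) (ka xa32 ya50 za28) (ka xa32 ya53 za31) (ka xa23 ya50 za43) (ka xa23 ya50 za42) (ka xa22 ya34 za55) (ka xa23 ya51 za6) (ka xa23 ya51 za8) (ka xa23 ya51 za36) (ka xa28 ya6 za8) (ka xa27 ya49 za60) (ka xa28 ya17 za54) (ka xa28 ya17 za52) (ka xa23 ya51 za26) (ka xa23 ya51 za28) (ka xa23 ya51 za31) (ka xa23 ya51 za32) (ka xa23 ya51 za33) (ka xa23 ya51 za34) (ka xa23 ya51 za35) (ka xa22 ya35 za8) (ka xa31 ya42 za23) (ka xa28 ya8 za1) (ka xa28 ya45 za58) (ka xa23 ya51 za22) (ka xa23 ya34 za16) (ka xa31 ya4 za27) (ka xa30 ya41 za21) (ka xa22 ya39 za45) (ka xa30 ya23 za40) (ka xa30 ya23 za42) (ka xa24 ya27 za33) (ka xa30 ya36 za54) (ka xa30 ya36 za55)) (@D3.rec (fun _ => Pt) (ka xa23 ya29 za50) (ka xa23 ya29 za55) (ka xa30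 ya49 za1) (ka xa22 ya35 za43) (ka xa31 ya0 za47) (ka xa30 ya6 za1) (ka xa26 ya45 za17) (ka xa28 ya34 za28) (ka xa23 ya57 za6) (ka xa28 ya17 za15) (ka xa27 ya15 za6) (ka xa23 ya12 za15) (ka xa27 ya14 za21) (ka xa23 ya12 za24) (ka xa28 ya33 za34) (ka xa28 ya17 za13) (ka xa23 ya0 za41) (ka xa30 ya21 za0) (ka xa29 ya21 za35) (ka xa22 ya57 za26) (ka xa23 ya56 za59) (ka xa23 ya0 za17) (ka xa27 ya55 za47) (ka xa24 ya18 za52) (ka xa29 ya53 za29) (ka xa24 ya18 za56) (ka xa23 ya0 za40) (ka xa24 ya18 za60) (ka xa22 ya39 za38) (ka xa22 ya39 za52) (ka xa30 ya50 za35) (ka xa31 ya16 za7) (ka xa23 ya20 za22) (ka xa24 ya18 za15) (ka xa28 ya46 za29) (ka xa23 ya13 za41) (ka xa30 ya50 za47) (ka xa28 ya21 za51) (ka xa23 ya52 za25) (ka xa23 ya52 za26) (ka xa30 ya50 za27) (ka xa28 ya33 za49) (ka xa25 ya57 za40) (ka xa26 ya3 za50) (ka xa30 ya54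 za52) (ka xa31 ya16 za52) (ka xa22 ya55 za10) (ka xa22 ya55 za12) (ka xa22 ya36 za50) (ka xa28 ya17 za2) (ka xa26 ya50 za46) (ka xa24 ya22 za38) (ka xa22 ya58 za48) (ka xa29 ya55 za4) (ka xa30 ya35 za60) (ka xa30 ya35 za61) (ka xa31 ya24 za16) (ka xa31 ya13 za6) (ka xa24 ya57 za24) (ka xa31 ya24 za13) (ka xa24 ya23 za26) (ka xa31 ya24 za14)) (@D3.rec (fun _ => Pt) (ka xa23 ya13 za22) (ka xa31 ya13 za7) (ka xa31 ya13 za8) (ka xa24 ya19 za54) (ka xa30 ya49 za2) (ka xa32 ya53 za18) (ka xa27 ya17 za59) (ka xa31 ya3 za37) (ka xa31 ya3 za36) (ka xa22 ya53 za61) (ka xa31 ya3 za53) (ka xa30 ya10 za53) (ka xa26 ya25 za38) (ka xa22 ya54 za42) (ka xa22 ya38 za2) (ka xa22 ya40 za42) (ka xa31 ya5 za49) (ka xa29 ya43 za50) (ka xa26 ya51 za56) (ka xa30 ya38 za54) (ka xa31 ya29 za54) (ka xa31 ya32 za34) (ka xa24 ya14 za0) (ka xa23 ya38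 za54) (ka xa27 ya41 za2) (ka xa26 ya28 za19) (ka xa30 ya37 za41) (ka xa22 ya58 za47) (ka xa24 ya25 za9) (ka xa26 ya49 za29) (ka xa23 ya48 za21) (ka xa26 ya51 za8) (ka xa23 ya49 za61) (ka xa22 ya38 za54) (ka xa31 ya32 za36) (ka xa31 ya12 za25) (ka xa26 ya7 za25) (ka xa28 ya1 za51) (ka xa29 ya11 za44) (ka xa31 ya44 za22) (ka xa24 ya24 za15) (ka xa30 ya37 za26) (ka xa24 ya23 za29) (ka xa30 ya56 za28) (ka xa30 ya51 za21) (ka xa30 ya23 za1) (ka xa24 ya5 za21) (ka xa24 ya11 za12) (ka xa26 ya51 za55) (ka xa29 ya50 za11) (ka xa32 ya52 za14) (ka xa31 ya37 za15) (ka xa31 ya37 za16) (ka xa32 ya52 za15) (ka xa22 ya39 za61) (ka xa22 ya39 za24) (ka xa24 ya10 za49) (ka xa28 ya52 za57) (ka xa31 ya28 za43) (ka xa28 ya43 za18) (ka xa28 ya28 za50) (ka xa30 ya21 za41)) (@D3.rec (fun _ => Pt) (ka xa24 ya5 za22) (ka xa24 ya5 za23) (ka xa32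 ya41 za0) (ka xa30 ya21 za29) (ka xa23 ya48 za20) (ka xa30 ya38 za32) (ka xa28 ya32 za61) (ka xa28 ya32 za60) (ka xa22 ya39 za39) (ka xa30 ya39 za48) (ka xa30 ya39 za50) (ka xa30 ya22 za37) (ka xa31 ya13 za41) (ka xa22 ya59 za22) (ka xa31 ya22 za19) (ka xa24 ya17 za23) (ka xa30 ya50 za3) (ka xa30 ya50 za0) (ka xa29 ya36 za43) (ka xa30 ya22 za22) (ka xa30 ya50 za44) (ka xa30 ya22 za5) (ka xa30 ya50 za41) (ka xa32 ya52 za36) (ka xa31 ya21 za36) (ka xa32 ya37 za33) (ka xa28 ya17 za25) (ka xa22 ya39 za53) (ka xa32 ya53 za51) (ka xa30 ya54 za23) (ka xa30 ya54 za24) (ka xa30 ya22 za1) (ka xa30 ya38 za5) (ka xa22 ya39 za59) (ka xa27 ya16 za50) (ka xa28 ya38 za57) (ka xa32 ya40 za60) (ka xa31 ya30 za37) (ka xa28 ya16 za27) (ka xa31 ya3 za24) (ka xa24 ya10 za41) (ka xa30 ya21 za51) (ka xa28 ya53 za2) (ka xa32 ya51 za30) (ka xa32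 ya50 za15) (ka xa32 ya24 za7) (ka xa26 ya53 za52) (ka xa32 ya22 za41) (ka xa22 ya40 za11) (ka xa23 ya26 za19) (ka xa24 ya10 za20) (ka xa31 ya31 za57) (ka xa22 ya40 za29) (ka xa31 ya1 za40) (ka xa30 ya37 za19) (ka xa30 ya2 za44) (ka xa31 ya32 za35) (ka xa32 ya49 za15) (ka xa32 ya8 za17) (ka xa31 ya24 za2) (ka xa32 ya5 za11) (ka xa22 ya40 za45)) (@D3.rec (fun _ => Pt) (ka xa24 ya29 za57) (ka xa30 ya12 za1) (ka xa28 ya49 za3) (ka xa24 ya27 za55) (ka xa31 ya23 za61) (ka xa31 ya33 za23) (ka xa29 ya21 za26) (ka xa24 ya1 za17) (ka xa24 ya25 za21) (ka xa28 ya44 za13) (ka xa24 ya16 za39) (ka xa32 ya24 za35) (ka xa28 ya34 za55) (ka xa22 ya41 za24) (ka xa22 ya41 za25) (ka xa24 ya11 za61) (ka xa25 ya18 za42) (ka xa32 ya27 za6) (ka xa32 ya42 za41) (ka xa32 ya34 za50) (ka xa32 ya36 za49) (ka xa31 ya28 za57) (ka xa27 ya7 za9) (ka xa32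 ya20 za12) (ka xa31 ya31 za55) (ka xa32 ya20 za13) (ka xa32 ya53 za2) (ka xa31 ya15 za12) (ka xa24 ya4 za7) (ka xa24 ya4 za9) (ka xa28 ya56 za13) (ka xa32 ya53 za19) (ka xa24 ya30 za3) (ka xa31 ya32 za31) (ka xa27 ya40 za22) (ka xa27 ya32 za43) (ka xa30 ya12 za5) (ka xa25 ya59 za32) (ka xa32 ya21 za15) (ka xa32 ya38 za41) (ka xa32 ya39 za52) (ka xa30 ya22 za61) (ka xa31 ya22 za47) (ka xa32 ya39 za58) (ka xa24 ya6 za30) (ka xa30 ya45 za0) (ka xa30 ya44 za59) (ka xa29 ya2 za27) (ka xa30 ya38 za9) (ka xa32 ya35 za22) (ka xa30 ya38 za10) (ka xa22 ya56 za20) (ka xa23 ya20 za18) (ka xa30 ya33 za32) (ka xa30 ya57 za7) (ka xa29 ya28 za33) (ka xa22 ya42 za20) (ka xa28 ya13 za29) (ka xa31 ya33 za52) (ka xa23 ya32 za2) (ka xa30 ya43 za60) (ka xa24 ya3 za51)) (@D3.rec (fun _ => Pt) (ka xa24 ya3 za50) (ka xa23 ya16 za49) (ka xa30 ya42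 za50) (ka xa22 ya44 za32) (ka xa23 ya27 za15) (ka xa26 ya47 za36) (ka xa29 ya10 za30) (ka xa31 ya9 za45) (ka xa30 ya41 za18) (ka xa30 ya41 za22) (ka xa30 ya41 za23) (ka xa30 ya41 za24) (ka xa24 ya22 za0) (ka xa30 ya41 za27) (ka xa30 ya41 za28) (ka xa30 ya41 za25) (ka xa30 ya41 za26) (ka xa29 ya15 za51) (ka xa30 ya41 za29) (ka xa32 ya26 za16) (ka xa31 ya10 za0) (ka xa22 ya43 za0) (ka xa30 ya13 za37) (ka xa23 ya29 za13) (ka xa23 ya29 za9) (ka xa22 ya43 za10) (ka xa31 ya3 za23) (ka xa32 ya54 za5) (ka xa32 ya48 za14) (ka xa31 ya2 za61) (ka xa23 ya29 za35) (ka xa30 ya41 za51) (ka xa31 ya11 za19) (ka xa30 ya41 za52) (ka xa30 ya41 za54) (ka xa29 ya11 za27) (ka xa24 ya16 za59) (ka xa24 ya33 za59) (ka xa24 ya33 za60) (ka xa24 ya33 za61) (ka xa23 ya32 za16) (ka xa22 ya43 za46) (ka xa23 ya32 za17) (ka xa27 ya18 za33) (ka xa24 ya17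 za24) (ka xa25 ya30 za13) (ka xa31 ya37 za1) (ka xa30 ya41 za3) (ka xa22 ya44 za51) (ka xa30 ya42 za6) (ka xa32 ya54 za0) (ka xa30 ya42 za7) (ka xa27 ya43 za21) (ka xa30 ya42 za9) (ka xa30 ya42 za10) (ka xa22 ya43 za36) (ka xa22 ya43 za37) (ka xa23 ya38 za28) (ka xa23 ya38 za32) (ka xa30 ya2 za60) (ka xa31 ya49 za38) (ka xa29 ya59 za27)) (@D3.rec (fun _ => Pt) (ka xa22 ya43 za39) (ka xa27 ya40 za61) (ka xa31 ya57 za29) (ka xa30 ya40 za47) (ka xa30 ya41 za8) (ka xa25 ya39 za11) (ka xa32 ya49 za18) (ka xa32 ya54 za12) (ka xa30 ya41 za4) (ka xa30 ya12 za50) (ka xa23 ya39 za28) (ka xa23 ya39 za29) (ka xa23 ya40 za5) (ka xa23 ya40 za4) (ka xa31 ya4 za39) (ka xa31 ya10 za13) (ka xa30 ya41 za45) (ka xa30 ya4 za52) (ka xa30 ya40 za8) (ka xa32 ya48 za15) (ka xa30 ya4 za54) (ka xa30 ya35 za55) (ka xa30 ya40 za9) (ka xa30 ya40 za10)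 (ka xa30 ya40 za11) (ka xa30 ya40 za15) (ka xa30 ya40 za16) (ka xa30 ya40 za13) (ka xa30 ya40 za14) (ka xa30 ya40 za18) (ka xa32 ya26 za49) (ka xa31 ya4 za46) (ka xa31 ya4 za47) (ka xa31 ya4 za48) (ka xa31 ya4 za49) (ka xa31 ya4 za50) (ka xa26 ya58 za31) (ka xa32 ya42 za57) (ka xa31 ya5 za4) (ka xa23 ya41 za53) (ka xa23 ya41 za54) (ka xa23 ya41 za52) (ka xa23 ya41 za14) (ka xa23 ya38 za39) (ka xa23 ya41 za56) (ka xa30 ya41 za16) (ka xa31 ya8 za57) (ka xa31 ya8 za58) (ka xa23 ya42 za4) (ka xa22 ya44 za34) (ka xa29 ya10 za4) (ka xa30 ya40 za31) (ka xa30 ya40 za33) (ka xa31 ya5 za52) (ka xa30 ya40 za34) (ka xa24 ya16 za26) (ka xa31 ya4 za23) (ka xa28 ya3 za25) (ka xa31 ya4 za53) (ka xa29 ya59 za23) (ka xa22 ya44 za46) (ka xa31 ya5 za0)) (@D3.rec (fun _ => Pt) (ka xa28 ya49 za38) (ka xa27 ya26 za58) (ka xa31 ya5 za31) (ka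 xa32 ya54 za9) (ka xa30 ya4 za49) (ka xa30 ya4 za48) (ka xa30 ya40 za49) (ka xa30 ya40 za51) (ka xa31 ya11 za58) (ka xa30 ya40 za53) (ka xa30 ya40 za54) (ka xa24 ya30 za51) (ka xa29 ya23 za16) (ka xa31 ya37 za0) (ka xa22 ya45 za2) (ka xa25 ya42 za57) (ka xa25 ya39 za10) (ka xa31 ya2 za49) (ka xa27 ya41 za3) (ka xa32 ya44 za15) (ka xa30 ya0 za27) (ka xa22 ya45 za6) (ka xa29 ya57 za37) (ka xa24 ya40 za16) (ka xa23 ya14 za12) (ka xa23 ya16 za41) (ka xa26 ya3 za27) (ka xa30 ya13 za50) (ka xa26 ya8 za22) (ka xa23 ya44 za25) (ka xa23 ya44 za24) (ka xa25 ya39 za21) (ka xa30 ya32 za43) (ka xa23 ya44 za49) (ka xa22 ya45 za48) (ka xa30 ya31 za40) (ka xa23 ya43 za38) (ka xa22 ya45 za59) (ka xa23 ya33 za18) (ka xa31 ya16 za44) (ka xa29 ya9 za50) (ka xa23 ya44 za2) (ka xa27 ya28 za44) (ka xa26 ya9 za38) (ka xa31 ya6 za30) (ka xa27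 ya58 za14) (ka xa22 ya46 za9) (ka xa23 ya21 za24) (ka xa23 ya32 za51) (ka xa30 ya23 za3) (ka xa30 ya40 za2) (ka xa24 ya25 za39) (ka xa30 ya52 za51) (ka xa24 ya29 za56) (ka xa22 ya46 za50) (ka xa24 ya25 za8) (ka xa24 ya30 za23) (ka xa30 ya31 za6) (ka xa22 ya47 za5) (ka xa29 ya46 za47) (ka xa30 ya53 za7) (ka xa30 ya53 za8)) (@D3.rec (fun _ => Pt) (ka xa30 ya53 za9) (ka xa28 ya23 za11) (ka xa29 ya21 za20) (ka xa29 ya21 za21) (ka xa30 ya33 za21) (ka xa30 ya33 za20) (ka xa30 ya33 za25) (ka xa24 ya5 za9) (ka xa22 ya47 za34) (ka xa30 ya53 za17) (ka xa30 ya45 za14) (ka xa32 ya36 za11) (ka xa30 ya26 za40) (ka xa22 ya52 za48) (ka xa22 ya52 za50) (ka xa22 ya52 za51) (ka xa22 ya52 za57) (ka xa22 ya53 za35) (ka xa22 ya53 za36) (ka xa22 ya53 za38) (ka xa22 ya47 za59) (ka xa22 ya53 za6) (ka xa22 ya53 za4) (ka xa22 ya53 za9) (ka xa22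 ya53 za8) (ka xa32 ya51 za21) (ka xa22 ya54 za22) (ka xa22 ya54 za7) (ka xa29 ya30 za48) (ka xa22 ya54 za39) (ka xa22 ya54 za41) (ka xa31 ya39 za14) (ka xa27 ya22 za24) (ka xa22 ya55 za5) (ka xa22 ya55 za6) (ka xa22 ya55 za11) (ka xa22 ya55 za27) (ka xa22 ya55 za28) (ka xa22 ya56 za36) (ka xa22 ya56 za37) (ka xa22 ya55 za61) (ka xa30 ya53 za42) (ka xa29 ya19 za24) (ka xa22 ya56 za7) (ka xa27 ya41 za36) (ka xa32 ya8 za2) (ka xa32 ya9 za59) (ka xa30 ya51 za38) (ka xa22 ya56 za50) (ka xa24 ya12 za45) (ka xa24 ya9 za4) (ka xa29 ya7 za50) (ka xa29 ya4 za6) (ka xa24 ya12 za52) (ka xa22 ya59 za8) (ka xa22 ya59 za9) (ka xa30 ya26 za42) (ka xa22 ya58 za46) (ka xa22 ya48 za58) (ka xa22 ya48 za59) (ka xa30 ya39 za60) (ka xa30 ya26 za45)) (@D3.rec (fun _ => Pt) (ka xa31 ya25 za50) (ka xa30 ya26 za43) (ka xa24 ya10 za46) (ka xa23 ya8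 za6) (ka xa22 ya59 za21) (ka xa22 ya49 za25) (ka xa28 ya32 za51) (ka xa30 ya24 za19) (ka xa32 ya22 za46) (ka xa23 ya10 za31) (ka xa29 ya29 za0) (ka xa26 ya56 za54) (ka xa26 ya49 za42) (ka xa26 ya49 za58) (ka xa29 ya1 za40) (ka xa25 ya59 za42) (ka xa23 ya0 za31) (ka xa28 ya33 za31) (ka xa23 ya0 za39) (ka xa24 ya9 za42) (ka xa25 ya3 za18) (ka xa30 ya53 za59) (ka xa28 ya5 za28) (ka xa30 ya45 za57) (ka xa26 ya19 za10) (ka xa26 ya19 za11) (ka xa32 ya7 za47) (ka xa28 ya5 za27) (ka xa30 ya45 za58) (ka xa32 ya29 za39) (ka xa32 ya7 za51) (ka xa32 ya30 za1) (ka xa32 ya29 za37) (ka xa31 ya42 za31) (ka xa27 ya33 za11) (ka xa27 ya34 za48) (ka xa28 ya4 za60) (ka xa32 ya31 za5) (ka xa30 ya35 za0) (ka xa22 ya49 za61) (ka xa23 ya21 za51) (ka xa28 ya7 za42) (ka xa31 ya15 za10) (ka xa29 ya53 za52) (ka xa29 ya19 za21) (ka xa28 ya26 za31)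 (ka xa32 ya38 za17) (ka xa29 ya21 za6) (ka xa29 ya21 za7) (ka xa28 ya45 za27) (ka xa30 ya45 za46) (ka xa22 ya50 za17) (ka xa30 ya35 za28) (ka xa28 ya21 za27) (ka xa27 ya20 za35) (ka xa24 ya40 za41) (ka xa22 ya50 za24) (ka xa28 ya38 za28) (ka xa32 ya29 za42) (ka xa30 ya39 za46) (ka xa22 ya50 za25) (ka xa32 ya29 za47)) (@D3.rec (fun _ => Pt) (ka xa30 ya39 za45) (ka xa32 ya44 za20) (ka xa28 ya3 za49) (ka xa29 ya35 za42) (ka xa30 ya30 za35) (ka xa24 ya40 za43) (ka xa30 ya21 za33) (ka xa32 ya53 za21) (ka xa30 ya23 za41) (ka xa30 ya49 za33) (ka xa32 ya52 za5) (ka xa24 ya0 za52) (ka xa25 ya27 za29) (ka xa30 ya53 za55) (ka xa30 ya43 za10) (ka xa23 ya57 za4) (ka xa30 ya16 za31) (ka xa31 ya14 za30) (ka xa24 ya13 za27) (ka xa31 ya14 za22) (ka xa29 ya21 za2) (ka xa27 ya52 za44) (ka xa28 ya12 za55) (ka xa27 ya49 za14) (ka xa29 ya20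 za57) (ka xa29 ya20 za58) (ka xa32 ya10 za4) (ka xa29 ya20 za59) (ka xa29 ya20 za60) (ka xa32 ya9 za60) (ka xa29 ya21 za0) (ka xa24 ya26 za12) (ka xa29 ya20 za54) (ka xa30 ya45 za37) (ka xa30 ya54 za9) (ka xa31 ya32 za38) (ka xa30 ya48 za50) (ka xa30 ya45 za33) (ka xa22 ya51 za24) (ka xa29 ya55 za36) (ka xa24 ya55 za47) (ka xa26 ya19 za41) (ka xa27 ya21 za15) (ka xa23 ya21 za59) (ka xa27 ya20 za10) (ka xa24 ya47 za42) (ka xa30 ya44 za50) (ka xa22 ya51 za38) (ka xa22 ya51 za44) (ka xa22 ya51 za41) (ka xa23 ya9 za7) (ka xa24 ya13 za1) (ka xa29 ya42 za17) (ka xa27 ya33 za22) (ka xa27 ya58 za18) (ka xa32 ya10 za17) (ka xa32 ya6 za11) (ka xa30 ya44 za23) (ka xa30 ya44 za28) (ka xa24 ya40 za57) (ka xa24 ya55 za25) (ka xa23 ya9 za55)) (@D3.rec (fun _ => Pt) (ka xa23 ya34 za13) (ka xa29 ya6 za2) (ka xa26 ya19 za55) (ka xa29 ya37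 za35) (ka xa23 ya7 za52) (ka xa23 ya7 za53) (ka xa23 ya8 za1) (ka xa23 ya8 za4) (ka xa25 ya49 za27) (ka xa24 ya34 za37) (ka xa22 ya52 za25) (ka xa28 ya39 za22) (ka xa31 ya23 za18) (ka xa23 ya20 za4) (ka xa31 ya34 za53) (ka xa31 ya34 za49) (ka xa23 ya10 za23) (ka xa25 ya35 za42) (ka xa31 ya36 za19) (ka xa32 ya33 za48) (ka xa25 ya5 za27) (ka xa23 ya9 za22) (ka xa24 ya18 za12) (ka xa28 ya15 za41) (ka xa30 ya55 za42) (ka xa24 ya6 za51) (ka xa22 ya53 za11) (ka xa22 ya53 za13) (ka xa22 ya53 za14) (ka xa22 ya56 za60) (ka xa24 ya6 za32) (ka xa23 ya53 za48) (ka xa24 ya6 za36) (ka xa31 ya23 za10) (ka xa26 ya56 za9) (ka xa32 ya54 za27) (ka xa32 ya1 za55) (ka xa30 ya47 za24) (ka xa32 ya9 za30) (ka xa32 ya22 za53) (ka xa30 ya47 za23) (ka xa27 ya41 za54) (ka xa24 ya6 za60) (ka xa24 ya5 za36) (ka xa24 ya6 za38) (ka xa27 ya23 za55) (ka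 xa23 ya12 za16) (ka xa29 ya55 za37) (ka xa22 ya55 za0) (ka xa22 ya53 za23) (ka xa30 ya51 za20) (ka xa31 ya25 za57) (ka xa29 ya7 za5) (ka xa27 ya15 za34) (ka xa24 ya23 za10) (ka xa32 ya48 za32) (ka xa32 ya2 za30) (ka xa30 ya57 za56) (ka xa27 ya6 za25) (ka xa23 ya46 za39) (ka xa23 ya18 za22) (ka xa23 ya12 za2)) (@D3.rec (fun _ => Pt) (ka xa23 ya30 za60) (ka xa23 ya17 za1) (ka xa23 ya17 za4) (ka xa23 ya16 za6) (ka xa23 ya16 za60) (ka xa30 ya58 za12) (ka xa23 ya17 za0) (ka xa31 ya8 za29) (ka xa26 ya45 za24) (ka xa26 ya45 za23) (ka xa25 ya30 za20) (ka xa30 ya48 za33) (ka xa30 ya48 za35) (ka xa31 ya3 za38) (ka xa28 ya32 za55) (ka xa31 ya11 za18) (ka xa22 ya54 za10) (ka xa22 ya54 za11) (ka xa22 ya54 za13) (ka xa22 ya54 za14) (ka xa22 ya54 za15) (ka xa31 ya17 za46) (ka xa30 ya18 za37) (ka xa30 ya46 za40) (ka xa30 ya46 za37) (ka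 xa28 ya20 za19) (ka xa25 ya43 za57) (ka xa28 ya11 za12) (ka xa32 ya34 za20) (ka xa29 ya38 za30) (ka xa28 ya53 za59) (ka xa31 ya23 za49) (ka xa25 ya24 za12) (ka xa29 ya11 za43) (ka xa30 ya13 za21) (ka xa26 ya24 za28) (ka xa22 ya54 za46) (ka xa24 ya14 za11) (ka xa24 ya14 za7) (ka xa28 ya59 za9) (ka xa26 ya24 za6) (ka xa26 ya42 za3) (ka xa24 ya5 za42) (ka xa28 ya24 za56) (ka xa32 ya28 za5) (ka xa31 ya36 za41) (ka xa32 ya38 za48) (ka xa30 ya6 za26) (ka xa28 ya59 za16) (ka xa29 ya53 za48) (ka xa25 ya28 za7) (ka xa32 ya7 za57) (ka xa31 ya22 za22) (ka xa30 ya19 za46) (ka xa32 ya22 za48) (ka xa29 ya53 za12) (ka xa32 ya1 za51) (ka xa24 ya33 za39) (ka xa24 ya33 za41) (ka xa28 ya20 za44) (ka xa30 ya24 za27) (ka xa30 ya55 za34)) (@D3.rec (fun _ => Pt) (ka xa30 ya31 za15) (ka xa22 ya55 za43) (ka xa30 ya24 za5) (ka xa30 ya54 za58) (ka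 xa29 ya41 za56) (ka xa30 ya57 za2) (ka xa31 ya39 za35) (ka xa30 ya54 za54) (ka xa28 ya5 za42) (ka xa30 ya55 za31) (ka xa25 ya33 za20) (ka xa25 ya50 za4) (ka xa22 ya55 za60) (ka xa32 ya29 za25) (ka xa28 ya19 za61) (ka xa28 ya22 za40) (ka xa27 ya3 za5) (ka xa27 ya10 za12) (ka xa22 ya56 za1) (ka xa29 ya28 za32) (ka xa31 ya44 za13) (ka xa22 ya56 za4) (ka xa29 ya19 za22) (ka xa23 ya9 za24) (ka xa23 ya16 za8) (ka xa30 ya55 za30) (ka xa30 ya50 za52) (ka xa23 ya15 za22) (ka xa23 ya16 za11) (ka xa23 ya15 za25) (ka xa23 ya17 za6) (ka xa23 ya17 za5) (ka xa22 ya56 za12) (ka xa30 ya47 za11) (ka xa32 ya39 za24) (ka xa30 ya47 za12) (ka xa31 ya33 za25) (ka xa24 ya3 za20) (ka xa22 ya56 za26) (ka xa24 ya3 za26) (ka xa31 ya26 za16) (ka xa32 ya40 za20) (ka xa32 ya54 za40) (ka xa32 ya48 za30) (ka xa32 ya54 za41) (ka xa23 ya47 za11) (ka xa28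 ya17 za17) (ka xa31 ya26 za17) (ka xa31 ya16 za1) (ka xa22 ya56 za46) (ka xa30 ya45 za36) (ka xa27 ya15 za60) (ka xa30 ya55 za35) (ka xa28 ya51 za46) (ka xa31 ya23 za48) (ka xa30 ya29 za49) (ka xa28 ya36 za1) (ka xa29 ya32 za21) (ka xa28 ya53 za6) (ka xa30 ya30 za57) (ka xa24 ya3 za28) (ka xa29 ya21 za23)) (@D3.rec (fun _ => Pt) (ka xa31 ya5 za22) (ka xa30 ya36 za2) (ka xa30 ya37 za4) (ka xa24 ya12 za46) (ka xa30 ya27 za35) (ka xa31 ya22 za60) (ka xa28 ya22 za34) (ka xa23 ya56 za61) (ka xa23 ya57 za1) (ka xa23 ya56 za58) (ka xa23 ya57 za5) (ka xa22 ya57 za17) (ka xa32 ya52 za26) (ka xa29 ya21 za38) (ka xa32 ya14 za49) (ka xa28 ya5 za52) (ka xa29 ya37 za4) (ka xa29 ya35 za25) (ka xa30 ya51 za28) (ka xa25 ya35 za55) (ka xa32 ya8 za31) (ka xa24 ya12 za53) (ka xa32 ya0 za31) (ka xa28 ya50 za36) (ka xa25 ya3 za3) (ka xa23 ya53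 za24) (ka xa23 ya53 za33) (ka xa30 ya21 za7) (ka xa23 ya53 za37) (ka xa23 ya53 za39) (ka xa31 ya43 za24) (ka xa27 ya45 za59) (ka xa30 ya51 za15) (ka xa30 ya45 za9) (ka xa22 ya57 za54) (ka xa32 ya36 za24) (ka xa28 ya40 za57) (ka xa30 ya56 za10) (ka xa28 ya53 za36) (ka xa27 ya16 za51) (ka xa32 ya9 za10) (ka xa31 ya15 za55) (ka xa31 ya22 za55) (ka xa31 ya15 za48) (ka xa28 ya35 za50) (ka xa31 ya13 za48) (ka xa28 ya36 za8) (ka xa29 ya54 za52) (ka xa22 ya58 za6) (ka xa32 ya30 za27) (ka xa32 ya46 za20) (ka xa30 ya56 za61) (ka xa30 ya19 za1) (ka xa30 ya57 za0) (ka xa24 ya5 za35) (ka xa22 ya58 za8) (ka xa32 ya54 za48) (ka xa29 ya32 za0) (ka xa30 ya57 za5) (ka xa31 ya13 za40) (ka xa32 ya54 za51) (ka xa30 ya22 za20)) (@D3.rec (fun _ => Pt) (ka xa30 ya38 za17) (ka xa32 ya33 za13) (ka xa28 ya22 za25) (ka xa30 ya38 za16) (ka xa28 ya33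 za0) (ka xa23 ya24 za59) (ka xa24 ya22 za1) (ka xa22 ya58 za28) (ka xa22 ya58 za39) (ka xa30 ya31 za14) (ka xa31 ya12 za59) (ka xa23 ya5 za59) (ka xa23 ya12 za25) (ka xa32 ya38 za42) (ka xa30 ya24 za9) (ka xa27 ya16 za20) (ka xa24 ya24 za24) (ka xa24 ya2 za61) (ka xa28 ya39 za8) (ka xa24 ya24 za30) (ka xa32 ya46 za31) (ka xa24 ya25 za4) (ka xa25 ya34 za48) (ka xa23 ya0 za44) (ka xa26 ya51 za7) (ka xa22 ya59 za15) (ka xa31 ya35 za43) (ka xa30 ya36 za40) (ka xa29 ya50 za47) (ka xa25 ya56 za43) (ka xa31 ya23 za9) (ka xa32 ya33 za39) (ka xa26 ya49 za21) (ka xa31 ya23 za5) (ka xa30 ya28 za27) (ka xa30 ya36 za30) (ka xa31 ya28 za8) (ka xa31 ya28 za9) (ka xa31 ya15 za49) (ka xa29 ya30 za28) (ka xa32 ya49 za59) (ka xa30 ya38 za22) (ka xa31 ya31 za24) (ka xa30 ya30 za47) (ka xa30 ya38 za20) (ka xa30 ya30 za45) (ka xa22 ya59 za32)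 (ka xa30 ya36 za36) (ka xa31 ya4 za30) (ka xa29 ya23 za53) (ka xa24 ya56 za52) (ka xa22 ya59 za53) (ka xa30 ya48 za26) (ka xa26 ya49 za44) (ka xa25 ya53 za39) (ka xa22 ya59 za50) (ka xa25 ya58 za57) (ka xa29 ya0 za40) (ka xa25 ya59 za57) (ka xa31 ya26 za51) (ka xa31 ya23 za47) (ka xa30 ya51 za6)) (@D3.rec (fun _ => Pt) (ka xa30 ya33 za56) (ka xa31 ya44 za48) (ka xa29 ya19 za23) (ka xa29 ya19 za26) (ka xa31 ya28 za5) (ka xa32 ya34 za6) (ka xa30 ya50 za61) (ka xa26 ya22 za19) (ka xa28 ya33 za30) (ka xa28 ya50 za5) (ka xa24 ya13 za39) (ka xa31 ya23 za24) (ka xa28 ya57 za1) (ka xa32 ya0 za34) (ka xa31 ya30 za26) (ka xa30 ya49 za32) (ka xa24 ya13 za49) (ka xa31 ya30 za25) (ka xa31 ya24 za5) (ka xa29 ya19 za36) (ka xa30 ya46 za50) (ka xa30 ya37 za44) (ka xa28 ya35 za61) (ka xa25 ya9 za3) (ka xa25 ya58 za3) (ka xa25 ya13 za17)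 (ka xa29 ya11 za61) (ka xa31 ya11 za11) (ka xa30 ya49 za18) (ka xa24 ya9 za5) (ka xa29 ya3 za32) (ka xa23 ya1 za38) (ka xa24 ya14 za17) (ka xa23 ya5 za28) (ka xa27 ya30 za20) (ka xa29 ya53 za54) (ka xa27 ya1 za10) (ka xa30 ya11 za20) (ka xa30 ya43 za47) (ka xa29 ya4 za20) (ka xa29 ya4 za19) (ka xa29 ya4 za22) (ka xa29 ya4 za21) (ka xa31 ya5 za32) (ka xa31 ya27 za35) (ka xa30 ya12 za35) (ka xa27 ya12 za55) (ka xa26 ya1 za20) (ka xa30 ya1 za1) (ka xa27 ya4 za33) (ka xa25 ya39 za20) (ka xa23 ya2 za9) (ka xa30 ya13 za16) (ka xa23 ya2 za14) (ka xa23 ya20 za10) (ka xa23 ya2 za7) (ka xa23 ya42 za48) (ka xa31 ya5 za59) (ka xa31 ya45 za0) (ka xa31 ya5 za56) (ka xa23 ya43 za43) (ka xa30 ya59 za5)) (@D3.rec (fun _ => Pt) (ka xa28 ya4 za7) (ka xa28 ya23 za51) (ka xa29 ya39 za43) (ka xa30 ya31 za28) (ka xa30 ya31 za13) (ka xa31 ya16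 za36) (ka xa31 ya22 za57) (ka xa30 ya23 za0) (ka xa23 ya2 za35) (ka xa31 ya5 za11) (ka xa30 ya0 za50) (ka xa29 ya58 za42) (ka xa32 ya36 za32) (ka xa30 ya52 za30) (ka xa30 ya52 za31) (ka xa30 ya52 za33) (ka xa30 ya14 za3) (ka xa30 ya52 za34) (ka xa30 ya2 za31) (ka xa28 ya19 za6) (ka xa30 ya3 za33) (ka xa23 ya3 za8) (ka xa23 ya3 za13) (ka xa23 ya21 za19) (ka xa23 ya21 za18) (ka xa23 ya3 za2) (ka xa28 ya24 za43) (ka xa32 ya43 za38) (ka xa32 ya48 za47) (ka xa30 ya59 za33) (ka xa30 ya52 za13) (ka xa30 ya52 za14) (ka xa29 ya11 za49) (ka xa30 ya52 za15) (ka xa30 ya52 za17) (ka xa32 ya30 za42) (ka xa28 ya12 za32) (ka xa30 ya4 za53) (ka xa23 ya17 za49) (ka xa27 ya59 za28) (ka xa30 ya58 za58) (ka xa30 ya58 za57) (ka xa23 ya3 za14) (ka xa29 ya55 za17) (ka xa23 ya38 za29) (ka xa23 ya38 za33) (ka xa23 ya29 za43) (ka xa23 ya29 za46)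 (ka xa23 ya29 za47) (ka xa23 ya29 za48) (ka xa23 ya29 za49) (ka xa30 ya42 za52) (ka xa25 ya17 za41) (ka xa26 ya21 za55) (ka xa26 ya21 za56) (ka xa24 ya12 za61) (ka xa23 ya4 za19) (ka xa23 ya4 za17) (ka xa27 ya54 za28) (ka xa26 ya22 za21) (ka xa23 ya4 za30) (ka xa30 ya35 za13)) (@D3.rec (fun _ => Pt) (ka xa24 ya6 za47) (ka xa24 ya6 za46) (ka xa30 ya26 za6) (ka xa32 ya34 za12) (ka xa24 ya24 za33) (ka xa26 ya31 za44) (ka xa32 ya44 za8) (ka xa30 ya42 za60) (ka xa30 ya42 za61) (ka xa30 ya43 za0) (ka xa32 ya41 za8) (ka xa28 ya51 za3) (ka xa24 ya9 za19) (ka xa30 ya24 za4) (ka xa30 ya26 za32) (ka xa30 ya24 za6) (ka xa28 ya28 za30) (ka xa30 ya43 za9) (ka xa31 ya19 za17) (ka xa28 ya19 za57) (ka xa28 ya21 za20) (ka xa26 ya31 za12) (ka xa23 ya8 za44) (ka xa28 ya32 za9) (ka xa23 ya8 za25) (ka xa23 ya8 za50) (ka xa31 ya59 za61) (ka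 xa23 ya9 za4) (ka xa23 ya9 za6) (ka xa23 ya9 za8) (ka xa23 ya9 za26) (ka xa23 ya9 za30) (ka xa23 ya5 za21) (ka xa29 ya21 za15) (ka xa28 ya21 za49) (ka xa23 ya11 za15) (ka xa23 ya9 za46) (ka xa23 ya9 za50) (ka xa23 ya9 za51) (ka xa23 ya9 za53) (ka xa26 ya29 za0) (ka xa23 ya9 za56) (ka xa30 ya43 za41) (ka xa29 ya32 za20) (ka xa23 ya10 za26) (ka xa23 ya10 za38) (ka xa23 ya10 za39) (ka xa23 ya9 za43) (ka xa23 ya11 za26) (ka xa26 ya20 za21) (ka xa28 ya53 za40) (ka xa26 ya20 za22) (ka xa28 ya45 za52) (ka xa30 ya26 za26) (ka xa23 ya12 za40) (ka xa30 ya45 za13) (ka xa23 ya18 za29) (ka xa25 ya43 za32) (ka xa24 ya28 za15) (ka xa30 ya44 za21) (ka xa30 ya32 za42) (ka xa23 ya58 za23)) (@D3.rec (fun _ => Pt) (ka xa28 ya9 za48) (ka xa24 ya28 za24) (ka xa31 ya53 za60) (ka xa23 ya51 za20) (ka xa23 ya6 za35) (ka xa30 ya54 za13) (ka xa30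 ya54 za14) (ka xa30 ya31 za56) (ka xa31 ya22 za36) (ka xa30 ya45 za34) (ka xa32 ya46 za54) (ka xa23 ya15 za42) (ka xa27 ya9 za16) (ka xa30 ya54 za5) (ka xa30 ya54 za6) (ka xa28 ya8 za2) (ka xa28 ya12 za44) (ka xa28 ya12 za42) (ka xa23 ya16 za23) (ka xa27 ya40 za33) (ka xa23 ya7 za33) (ka xa28 ya45 za1) (ka xa23 ya7 za32) (ka xa30 ya38 za29) (ka xa30 ya38 za30) (ka xa26 ya25 za40) (ka xa26 ya25 za41) (ka xa29 ya23 za46) (ka xa26 ya21 za26) (ka xa23 ya15 za20) (ka xa25 ya55 za18) (ka xa30 ya55 za36) (ka xa26 ya23 za48) (ka xa25 ya24 za52) (ka xa27 ya14 za58) (ka xa31 ya33 za50) (ka xa31 ya5 za47) (ka xa23 ya9 za52) (ka xa23 ya8 za8) (ka xa23 ya8 za9) (ka xa29 ya43 za4) (ka xa29 ya43 za5) (ka xa31 ya42 za2) (ka xa23 ya8 za17) (ka xa25 ya29 za8) (ka xa30 ya55 za33) (ka xa23 ya8 za19) (ka xa32 ya55 za4) (ka xa32 ya2 za24) (ka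 xa27 ya10 za8) (ka xa27 ya15 za26) (ka xa30 ya19 za54) (ka xa30 ya36 za44) (ka xa31 ya23 za3) (ka xa30 ya48 za7) (ka xa31 ya25 za29) (ka xa25 ya9 za10) (ka xa24 ya37 za57) (ka xa30 ya48 za3) (ka xa29 ya23 za51) (ka xa25 ya55 za44) (ka xa31 ya49 za15)) (@D3.rec (fun _ => Pt) (ka xa29 ya41 za45) (ka xa32 ya15 za53) (ka xa30 ya55 za29) (ka xa27 ya7 za40) (ka xa30 ya16 za36) (ka xa28 ya9 za49) (ka xa29 ya18 za57) (ka xa32 ya8 za19) (ka xa32 ya10 za11) (ka xa32 ya27 za58) (ka xa32 ya1 za59) (ka xa32 ya3 za2) (ka xa30 ya58 za20) (ka xa28 ya21 za21) (ka xa28 ya19 za52) (ka xa31 ya44 za11) (ka xa23 ya16 za13) (ka xa23 ya16 za9) (ka xa32 ya4 za11) (ka xa25 ya13 za11) (ka xa32 ya48 za37) (ka xa32 ya1 za17) (ka xa30 ya6 za9) (ka xa26 ya28 za61) (ka xa30 ya6 za13) (ka xa24 ya5 za29) (ka xa24 ya5 za27) (ka xa24 ya5 za28) (ka xa23 ya10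 za1) (ka xa30 ya55 za2) (ka xa30 ya48 za25) (ka xa30 ya48 za9) (ka xa29 ya53 za56) (ka xa30 ya54 za45) (ka xa30 ya47 za61) (ka xa30 ya48 za52) (ka xa30 ya54 za31) (ka xa25 ya36 za32) (ka xa25 ya34 za39) (ka xa26 ya26 za30) (ka xa29 ya37 za8) (ka xa29 ya32 za19) (ka xa30 ya46 za24) (ka xa29 ya37 za25) (ka xa26 ya58 za14) (ka xa25 ya57 za36) (ka xa26 ya56 za42) (ka xa30 ya3 za51) (ka xa24 ya5 za8) (ka xa23 ya11 za7) (ka xa28 ya53 za47) (ka xa28 ya49 za11) (ka xa32 ya0 za48) (ka xa25 ya9 za46) (ka xa25 ya24 za13) (ka xa30 ya10 za20) (ka xa23 ya28 za35) (ka xa24 ya10 za18) (ka xa32 ya15 za40) (ka xa31 ya22 za6) (ka xa28 ya58 za9) (ka xa31 ya30 za56)) (@D3.rec (fun _ => Pt) (ka xa32 ya41 za15) (ka xa24 ya36 za59) (ka xa31 ya22 za7) (ka xa27 ya15 za30) (ka xa23 ya11 za33) (ka xa28 ya22 za38) (ka xa32 ya46 za59) (ka xa23 ya11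 za35) (ka xa32 ya9 za38) (ka xa24 ya27 za8) (ka xa30 ya49 za37) (ka xa23 ya33 za59) (ka xa32 ya36 za26) (ka xa30 ya26 za37) (ka xa25 ya57 za59) (ka xa30 ya58 za9) (ka xa25 ya26 za1) (ka xa32 ya1 za24) (ka xa32 ya34 za11) (ka xa28 ya23 za39) (ka xa25 ya56 za42) (ka xa23 ya12 za18) (ka xa23 ya12 za20) (ka xa32 ya15 za28) (ka xa28 ya37 za31) (ka xa23 ya12 za27) (ka xa32 ya51 za42) (ka xa32 ya23 za19) (ka xa30 ya37 za43) (ka xa32 ya24 za17) (ka xa24 ya2 za38) (ka xa31 ya36 za59) (ka xa31 ya22 za8) (ka xa31 ya48 za34) (ka xa31 ya56 za36) (ka xa30 ya9 za56) (ka xa24 ya22 za10) (ka xa24 ya22 za7) (ka xa24 ya22 za8) (ka xa24 ya33 za45) (ka xa24 ya13 za26) (ka xa24 ya4 za48) (ka xa24 ya4 za49) (ka xa24 ya4 za50) (ka xa24 ya4 za52) (ka xa24 ya14 za38) (ka xa24 ya14 za41) (ka xa24 ya14 za42) (ka xa24 ya28 za44) (ka xa24 ya34 za22)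 (ka xa31 ya21 za50) (ka xa29 ya3 za13) (ka xa23 ya13 za13) (ka xa32 ya14 za60) (ka xa25 ya52 za19) (ka xa28 ya16 za28) (ka xa24 ya15 za55) (ka xa28 ya15 za47) (ka xa31 ya43 za18) (ka xa29 ya51 za3) (ka xa32 ya45 za2) (ka xa30 ya49 za51)) (@D3.rec (fun _ => Pt) (ka xa30 ya49 za53) (ka xa23 ya13 za35) (ka xa30 ya48 za5) (ka xa32 ya34 za60) (ka xa32 ya34 za16) (ka xa30 ya49 za58) (ka xa24 ya7 za46) (ka xa30 ya39 za54) (ka xa30 ya59 za39) (ka xa30 ya59 za38) (ka xa23 ya13 za58) (ka xa23 ya13 za61) (ka xa23 ya15 za32) (ka xa28 ya10 za43) (ka xa23 ya16 za3) (ka xa23 ya14 za6) (ka xa28 ya10 za47) (ka xa23 ya16 za34) (ka xa31 ya44 za10) (ka xa23 ya16 za39) (ka xa23 ya16 za40) (ka xa23 ya16 za42) (ka xa23 ya16 za44) (ka xa23 ya16 za45) (ka xa23 ya16 za46) (ka xa23 ya17 za13) (ka xa23 ya17 za12) (ka xa23 ya14 za17) (ka xa30 ya59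 za10) (ka xa23 ya17 za11) (ka xa31 ya0 za8) (ka xa30 ya59 za35) (ka xa23 ya17 za40) (ka xa23 ya18 za38) (ka xa23 ya14 za26) (ka xa25 ya0 za8) (ka xa23 ya18 za23) (ka xa23 ya18 za24) (ka xa23 ya18 za28) (ka xa23 ya18 za19) (ka xa23 ya18 za18) (ka xa23 ya14 za33) (ka xa23 ya18 za41) (ka xa23 ya18 za42) (ka xa31 ya26 za6) (ka xa30 ya21 za39) (ka xa23 ya19 za58) (ka xa23 ya15 za31) (ka xa31 ya45 za4) (ka xa30 ya58 za5) (ka xa26 ya22 za1) (ka xa30 ya58 za4) (ka xa32 ya44 za59) (ka xa23 ya15 za3) (ka xa31 ya44 za52) (ka xa31 ya34 za4) (ka xa30 ya46 za57) (ka xa23 ya25 za59) (ka xa26 ya9 za37) (ka xa26 ya9 za36) (ka xa23 ya15 za9) (ka xa28 ya41 za6)) (@D3.rec (fun _ => Pt) (ka xa28 ya41 za5) (ka xa31 ya34 za2) (ka xa31 ya34 za5) (ka xa30 ya59 za51) (ka xa30 ya57 za51) (ka xa30 ya57 za49) (ka xa31 ya44 za53) (ka xa31 ya12 za23)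 (ka xa31 ya0 za45) (ka xa30 ya56 za15) (ka xa32 ya0 za54) (ka xa23 ya15 za18) (ka xa30 ya47 za5) (ka xa30 ya2 za9) (ka xa28 ya2 za59) (ka xa32 ya53 za16) (ka xa30 ya58 za17) (ka xa30 ya58 za16) (ka xa23 ya17 za24) (ka xa30 ya58 za61) (ka xa30 ya55 za12) (ka xa30 ya59 za18) (ka xa30 ya59 za23) (ka xa30 ya58 za24) (ka xa30 ya58 za23) (ka xa23 ya15 za48) (ka xa23 ya15 za50) (ka xa28 ya18 za51) (ka xa23 ya15 za46) (ka xa26 ya17 za37) (ka xa29 ya24 za10) (ka xa30 ya13 za31) (ka xa30 ya13 za42) (ka xa23 ya15 za56) (ka xa30 ya59 za48) (ka xa30 ya32 za6) (ka xa30 ya32 za8) (ka xa30 ya31 za36) (ka xa30 ya59 za57) (ka xa23 ya15 za61) (ka xa31 ya49 za35) (ka xa32 ya55 za10) (ka xa23 ya45 za15) (ka xa32 ya9 za50) (ka xa32 ya32 za24) (ka xa23 ya33 za12) (ka xa28 ya2 za61) (ka xa31 ya6 za14) (ka xa28 ya10 za55) (ka xa27 ya48 za34) (ka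 xa23 ya45 za16) (ka xa23 ya16 za26) (ka xa32 ya50 za19) (ka xa32 ya50 za17) (ka xa32 ya6 za40) (ka xa32 ya49 za31) (ka xa30 ya59 za32) (ka xa30 ya52 za41) (ka xa30 ya52 za40) (ka xa23 ya16 za37) (ka xa32 ya8 za18) (ka xa30 ya58 za19)) (@D3.rec (fun _ => Pt) (ka xa31 ya58 za31) (ka xa32 ya5 za12) (ka xa32 ya5 za55) (ka xa23 ya16 za56) (ka xa23 ya16 za52) (ka xa30 ya51 za61) (ka xa31 ya1 za0) (ka xa26 ya9 za23) (ka xa32 ya50 za21) (ka xa30 ya59 za16) (ka xa30 ya57 za28) (ka xa31 ya0 za9) (ka xa25 ya3 za30) (ka xa23 ya17 za9) (ka xa28 ya3 za0) (ka xa25 ya0 za22) (ka xa30 ya59 za9) (ka xa28 ya2 za13) (ka xa30 ya58 za21) (ka xa31 ya2 za47) (ka xa23 ya17 za19) (ka xa23 ya17 za18) (ka xa23 ya17 za20) (ka xa30 ya58 za22) (ka xa30 ya33 za18) (ka xa30 ya13 za2) (ka xa30 ya17 za47) (ka xa23 ya17 za23) (ka xa24 ya31 za27) (ka xa31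 ya58 za50) (ka xa30 ya2 za23) (ka xa23 ya17 za25) (ka xa30 ya58 za56) (ka xa30 ya52 za29) (ka xa30 ya2 za18) (ka xa30 ya57 za31) (ka xa26 ya9 za35) (ka xa26 ya9 za34) (ka xa30 ya57 za9) (ka xa30 ya57 za8) (ka xa31 ya2 za9) (ka xa30 ya7 za24) (ka xa32 ya55 za11) (ka xa30 ya59 za45) (ka xa30 ya59 za47) (ka xa30 ya59 za43) (ka xa29 ya22 za0) (ka xa30 ya59 za44) (ka xa30 ya58 za34) (ka xa30 ya35 za2) (ka xa30 ya35 za1) (ka xa30 ya58 za3) (ka xa27 ya58 za47) (ka xa28 ya32 za2) (ka xa25 ya1 za41) (ka xa28 ya26 za1) (ka xa28 ya9 za58) (ka xa30 ya58 za38) (ka xa23 ya18 za14) (ka xa24 ya31 za40) (ka xa26 ya11 za55) (ka xa30 ya12 za15))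
def f_a_31 : D2 → D3 → Pt := @D2.rec (fun _ => D3 → Pt) (@D3.rec (fun _ => Pt) (ka xa32 ya31 za14) (ka xa32 ya31 za15) (ka xa32 ya55 za12) (ka xa27 ya9 za50) (ka xa27 ya56 za44) (ka xa30 ya33 za53) (ka xa27 ya57 za58) (ka xa23 ya18 za40) (ka xa30 ya57 za30) (ka xa30 ya59 za11) (ka xa31 ya2 za46) (ka xa29 ya53 za18) (ka xa28 ya36 za12) (ka xa32 ya53 za26) (ka xa32 ya29 za24) (ka xa23 ya19 za2) (ka xa23 ya19 za3) (ka xa23 ya19 za4) (ka xa23 ya19 za5) (ka xa28 ya38 za9) (ka xa31 ya16 za51) (ka xa24 ya6 za5) (ka xa29 ya19 za0) (ka xa31 ya42 za37) (ka xa32 ya8 za4) (ka xa32 ya53 za39) (ka xa23 ya19 za6) (ka xa31 ya53 za22) (ka xa27 ya17 za20) (ka xa28 ya33 za47) (ka xa27 ya17 za16) (ka xa29 ya48 za40) (ka xa31 ya27 za0) (ka xa24 ya1 za23) (ka xa23 ya32 za15) (ka xa23 ya32 za60) (ka xa28 ya28 za12) (ka xa28 ya11 za41) (ka xa24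 ya30 za38) (ka xa24 ya39 za5) (ka xa24 ya59 za58) (ka xa30 ya18 za1) (ka xa23 ya33 za7) (ka xa26 ya8 za49) (ka xa26 ya8 za50) (ka xa30 ya58 za8) (ka xa28 ya43 za51) (ka xa30 ya36 za4) (ka xa29 ya51 za29) (ka xa30 ya3 za22) (ka xa23 ya20 za47) (ka xa31 ya44 za46) (ka xa31 ya6 za23) (ka xa23 ya20 za59) (ka xa31 ya6 za3) (ka xa31 ya44 za4) (ka xa29 ya11 za46) (ka xa31 ya37 za58) (ka xa30 ya13 za15) (ka xa23 ya21 za15) (ka xa30 ya13 za18) (ka xa31 ya57 za36)) (@D3.rec (fun _ => Pt) (ka xa30 ya59 za6) (ka xa30 ya32 za2) (ka xa32 ya54 za59) (ka xa32 ya54 za58) (ka xa31 ya39 za18) (ka xa29 ya53 za10) (ka xa30 ya33 za46) (ka xa23 ya21 za32) (ka xa30 ya33 za52) (ka xa30 ya33 za23) (ka xa30 ya13 za45) (ka xa30 ya33 za30) (ka xa29 ya14 za1) (ka xa30 ya33 za33) (ka xa29 ya13 za54) (ka xa30 ya33 za4) (ka xa31 ya46 za34) (ka xa27 ya39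 za61) (ka xa26 ya17 za9) (ka xa26 ya13 za23) (ka xa32 ya9 za46) (ka xa32 ya34 za29) (ka xa32 ya28 za42) (ka xa24 ya47 za49) (ka xa30 ya28 za36) (ka xa23 ya22 za7) (ka xa30 ya0 za29) (ka xa27 ya46 za48) (ka xa27 ya56 za2) (ka xa24 ya43 za39) (ka xa24 ya58 za52) (ka xa31 ya7 za40) (ka xa26 ya12 za21) (ka xa26 ya0 za35) (ka xa27 ya47 za58) (ka xa30 ya14 za29) (ka xa31 ya7 za16) (ka xa31 ya7 za28) (ka xa23 ya23 za11) (ka xa25 ya42 za36) (ka xa30 ya38 za53) (ka xa23 ya23 za25) (ka xa31 ya37 za26) (ka xa25 ya42 za44) (ka xa31 ya37 za31) (ka xa23 ya45 za21) (ka xa31 ya37 za32) (ka xa28 ya58 za51) (ka xa28 ya2 za21) (ka xa30 ya30 za10) (ka xa30 ya22 za26) (ka xa30 ya30 za9) (ka xa23 ya26 za43) (ka xa25 ya29 za23) (ka xa30 ya1 za28) (ka xa31 ya57 za8) (ka xa30 ya17 za4) (ka xa25 ya39 za32) (ka xa31 ya37 za53) (ka xa29 ya55 za20)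 (ka xa31 ya5 za10) (ka xa29 ya26 za55)) (@D3.rec (fun _ => Pt) (ka xa27 ya40 za56) (ka xa31 ya7 za49) (ka xa31 ya3 za4) (ka xa32 ya55 za21) (ka xa31 ya7 za51) (ka xa25 ya46 za34) (ka xa27 ya40 za54) (ka xa28 ya18 za15) (ka xa30 ya1 za61) (ka xa30 ya59 za40) (ka xa31 ya7 za54) (ka xa32 ya32 za50) (ka xa31 ya7 za59) (ka xa31 ya2 za48) (ka xa31 ya6 za49) (ka xa31 ya7 za60) (ka xa31 ya2 za44) (ka xa31 ya6 za53) (ka xa31 ya6 za51) (ka xa31 ya8 za0) (ka xa30 ya33 za16) (ka xa28 ya12 za30) (ka xa30 ya0 za36) (ka xa31 ya8 za2) (ka xa31 ya8 za3) (ka xa29 ya12 za19) (ka xa23 ya30 za57) (ka xa23 ya30 za58) (ka xa29 ya30 za11) (ka xa23 ya31 za28) (ka xa23 ya31 za54) (ka xa23 ya32 za12) (ka xa23 ya32 za13) (ka xa23 ya32 za14) (ka xa23 ya32 za36) (ka xa23 ya25 za39) (ka xa25 ya18 za13) (ka xa23 ya32 za34) (ka xa31 ya6 za25) (ka xa25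 ya46 za35) (ka xa23 ya33 za10) (ka xa29 ya10 za48) (ka xa23 ya33 za23) (ka xa23 ya33 za44) (ka xa31 ya2 za16) (ka xa23 ya33 za47) (ka xa31 ya0 za10) (ka xa30 ya59 za19) (ka xa31 ya2 za13) (ka xa30 ya42 za17) (ka xa31 ya33 za41) (ka xa29 ya17 za37) (ka xa29 ya26 za48) (ka xa31 ya8 za30) (ka xa31 ya37 za46) (ka xa27 ya57 za16) (ka xa27 ya40 za41) (ka xa31 ya5 za18) (ka xa32 ya4 za40) (ka xa29 ya26 za50) (ka xa31 ya5 za19) (ka xa30 ya40 za29)) (@D3.rec (fun _ => Pt) (ka xa31 ya8 za34) (ka xa31 ya8 za35) (ka xa31 ya8 za36) (ka xa32 ya30 za45) (ka xa31 ya2 za2) (ka xa30 ya16 za61) (ka xa24 ya10 za16) (ka xa30 ya26 za61) (ka xa24 ya10 za19) (ka xa27 ya56 za55) (ka xa25 ya39 za58) (ka xa25 ya39 za61) (ka xa25 ya40 za0) (ka xa25 ya40 za1) (ka xa23 ya26 za40) (ka xa29 ya5 za12) (ka xa31 ya29 za36) (ka xa30 ya10 za31) (ka xa29 ya47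 za57) (ka xa32 ya55 za26) (ka xa29 ya9 za49) (ka xa26 ya47 za43) (ka xa23 ya26 za47) (ka xa30 ya40 za26) (ka xa30 ya38 za39) (ka xa31 ya10 za21) (ka xa31 ya10 za22) (ka xa23 ya26 za56) (ka xa23 ya26 za57) (ka xa31 ya10 za24) (ka xa29 ya15 za42) (ka xa30 ya10 za0) (ka xa23 ya27 za40) (ka xa23 ya27 za41) (ka xa23 ya27 za4) (ka xa24 ya34 za47) (ka xa30 ya37 za8) (ka xa30 ya37 za7) (ka xa30 ya47 za13) (ka xa32 ya55 za27) (ka xa31 ya9 za24) (ka xa32 ya42 za34) (ka xa31 ya10 za28) (ka xa23 ya27 za12) (ka xa25 ya30 za16) (ka xa30 ya10 za18) (ka xa23 ya27 za36) (ka xa23 ya27 za37) (ka xa27 ya0 za60) (ka xa29 ya42 za35) (ka xa31 ya10 za16) (ka xa23 ya41 za46) (ka xa31 ya5 za20) (ka xa30 ya37 za10) (ka xa31 ya9 za28) (ka xa31 ya10 za26) (ka xa32 ya1 za27) (ka xa32 ya54 za57) (ka xa31 ya5 za39) (ka xa31 ya10 za8) (ka xa29 ya16 za39)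 (ka xa31 ya7 za19)) (@D3.rec (fun _ => Pt) (ka xa30 ya8 za8) (ka xa27 ya36 za23) (ka xa25 ya42 za41) (ka xa23 ya27 za50) (ka xa24 ya40 za4) (ka xa32 ya49 za14) (ka xa31 ya9 za7) (ka xa31 ya47 za24) (ka xa31 ya9 za9) (ka xa29 ya5 za13) (ka xa24 ya42 za40) (ka xa24 ya34 za51) (ka xa24 ya34 za52) (ka xa31 ya9 za20) (ka xa23 ya28 za8) (ka xa31 ya9 za13) (ka xa31 ya9 za16) (ka xa32 ya55 za31) (ka xa31 ya57 za30) (ka xa27 ya1 za53) (ka xa23 ya28 za21) (ka xa32 ya43 za45) (ka xa31 ya9 za22) (ka xa30 ya41 za56) (ka xa31 ya9 za23) (ka xa31 ya7 za20) (ka xa31 ya8 za41) (ka xa30 ya35 za54) (ka xa31 ya5 za43) (ka xa31 ya5 za42) (ka xa30 ya50 za48) (ka xa24 ya40 za14) (ka xa31 ya9 za31) (ka xa23 ya28 za34) (ka xa23 ya29 za4) (ka xa25 ya40 za5) (ka xa31 ya11 za24) (ka xa31 ya9 za55) (ka xa31 ya9 za56) (ka xa30 ya41 za14) (ka xa31 ya5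 za50) (ka xa31 ya9 za59) (ka xa32 ya48 za13) (ka xa31 ya5 za51) (ka xa31 ya9 za60) (ka xa32 ya26 za12) (ka xa30 ya41 za31) (ka xa30 ya41 za32) (ka xa30 ya41 za33) (ka xa30 ya41 za34) (ka xa30 ya41 za35) (ka xa24 ya17 za41) (ka xa24 ya17 za36) (ka xa30 ya41 za58) (ka xa29 ya17 za34) (ka xa28 ya11 za45) (ka xa31 ya10 za30) (ka xa23 ya28 za60) (ka xa23 ya29 za2) (ka xa31 ya9 za0) (ka xa32 ya48 za44) (ka xa29 ya58 za32)) (@D3.rec (fun _ => Pt) (ka xa30 ya41 za61) (ka xa31 ya5 za46) (ka xa29 ya49 za51) (ka xa31 ya57 za45) (ka xa30 ya41 za38) (ka xa31 ya5 za17) (ka xa31 ya10 za60) (ka xa31 ya10 za61) (ka xa31 ya11 za0) (ka xa31 ya11 za5) (ka xa31 ya1 za60) (ka xa30 ya52 za9) (ka xa31 ya11 za8) (ka xa29 ya11 za31) (ka xa23 ya42 za60) (ka xa31 ya8 za50) (ka xa32 ya43 za16) (ka xa31 ya5 za5) (ka xa31 ya2 za57) (ka xa31 ya2 za60)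 (ka xa31 ya3 za52) (ka xa23 ya38 za43) (ka xa30 ya49 za0) (ka xa24 ya33 za46) (ka xa28 ya13 za27) (ka xa29 ya49 za50) (ka xa32 ya32 za34) (ka xa31 ya11 za9) (ka xa30 ya2 za52) (ka xa31 ya10 za38) (ka xa31 ya11 za23) (ka xa30 ya42 za2) (ka xa30 ya51 za43) (ka xa27 ya40 za57) (ka xa30 ya4 za57) (ka xa31 ya49 za26) (ka xa32 ya43 za56) (ka xa31 ya10 za52) (ka xa23 ya30 za12) (ka xa31 ya3 za58) (ka xa31 ya11 za4) (ka xa28 ya28 za48) (ka xa31 ya4 za29) (ka xa31 ya4 za28) (ka xa23 ya30 za21) (ka xa29 ya41 za24) (ka xa31 ya5 za1) (ka xa30 ya54 za36) (ka xa23 ya30 za23) (ka xa30 ya37 za16) (ka xa31 ya4 za40) (ka xa31 ya4 za43) (ka xa30 ya41 za53) (ka xa27 ya43 za33) (ka xa23 ya30 za55) (ka xa24 ya23 za55) (ka xa30 ya51 za59) (ka xa24 ya44 za2) (ka xa31 ya8 za7) (ka xa30 ya51 za57) (ka xa27 ya39 za8) (ka xa27 ya47 za28)) (@D3.rec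 (fun _ => Pt) (ka xa29 ya12 za21) (ka xa31 ya6 za6) (ka xa27 ya46 za44) (ka xa31 ya0 za54) (ka xa31 ya59 za21) (ka xa24 ya43 za59) (ka xa31 ya6 za1) (ka xa30 ya2 za11) (ka xa29 ya7 za7) (ka xa26 ya17 za50) (ka xa27 ya56 za16) (ka xa23 ya31 za60) (ka xa32 ya50 za35) (ka xa32 ya5 za22) (ka xa30 ya58 za47) (ka xa31 ya12 za5) (ka xa32 ya2 za60) (ka xa25 ya59 za1) (ka xa28 ya43 za55) (ka xa26 ya3 za26) (ka xa24 ya23 za36) (ka xa32 ya3 za11) (ka xa23 ya32 za39) (ka xa31 ya0 za52) (ka xa25 ya4 za0) (ka xa31 ya2 za38) (ka xa30 ya33 za22) (ka xa30 ya0 za21) (ka xa28 ya21 za16) (ka xa28 ya21 za18) (ka xa30 ya42 za44) (ka xa26 ya10 za5) (ka xa31 ya8 za23) (ka xa26 ya0 za49) (ka xa26 ya47 za23) (ka xa26 ya47 za22) (ka xa32 ya27 za43) (ka xa30 ya13 za40) (ka xa31 ya59 za27) (ka xa27 ya44 za55) (ka xa32 ya28 za16) (ka xa32 ya2 za58)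 (ka xa30 ya24 za8) (ka xa27 ya14 za22) (ka xa31 ya50 za28) (ka xa32 ya44 za16) (ka xa30 ya24 za11) (ka xa23 ya33 za34) (ka xa23 ya35 za37) (ka xa31 ya2 za14) (ka xa28 ya28 za37) (ka xa31 ya2 za18) (ka xa23 ya33 za48) (ka xa31 ya2 za17) (ka xa23 ya33 za52) (ka xa24 ya29 za32) (ka xa32 ya28 za31) (ka xa28 ya1 za52) (ka xa24 ya13 za12) (ka xa24 ya13 za36) (ka xa23 ya34 za9) (ka xa32 ya6 za36)) (@D3.rec (fun _ => Pt) (ka xa26 ya12 za49) (ka xa30 ya22 za21) (ka xa24 ya25 za55) (ka xa23 ya34 za37) (ka xa28 ya49 za26) (ka xa30 ya3 za2) (ka xa29 ya22 za6) (ka xa26 ya2 za10) (ka xa27 ya27 za60) (ka xa24 ya41 za33) (ka xa31 ya14 za25) (ka xa23 ya35 za5) (ka xa23 ya35 za7) (ka xa31 ya11 za38) (ka xa27 ya57 za14) (ka xa30 ya24 za7) (ka xa31 ya1 za36) (ka xa26 ya2 za26) (ka xa31 ya59 za20) (ka xa31 ya3 za61) (ka xa31 ya4 za25) (ka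 xa30 ya12 za55) (ka xa26 ya12 za47) (ka xa32 ya2 za55) (ka xa30 ya4 za27) (ka xa31 ya55 za49) (ka xa24 ya54 za41) (ka xa30 ya5 za32) (ka xa31 ya1 za37) (ka xa25 ya34 za56) (ka xa32 ya8 za46) (ka xa23 ya58 za14) (ka xa25 ya41 za35) (ka xa25 ya37 za8) (ka xa25 ya38 za5) (ka xa23 ya36 za26) (ka xa25 ya30 za28) (ka xa30 ya27 za38) (ka xa26 ya4 za30) (ka xa28 ya6 za17) (ka xa31 ya1 za31) (ka xa23 ya36 za54) (ka xa28 ya1 za43) (ka xa32 ya28 za53) (ka xa26 ya12 za55) (ka xa27 ya32 za15) (ka xa23 ya37 za2) (ka xa24 ya53 za0) (ka xa23 ya41 za55) (ka xa31 ya2 za1) (ka xa32 ya32 za31) (ka xa31 ya2 za4) (ka xa28 ya17 za40) (ka xa29 ya11 za42) (ka xa31 ya2 za10) (ka xa27 ya44 za53) (ka xa30 ya31 za37) (ka xa30 ya13 za47) (ka xa29 ya11 za47) (ka xa31 ya2 za12) (ka xa31 ya2 za15) (ka xa32 ya49 za21)) (@D3.rec (fun _ => Pt) (ka xa31 ya2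 za19) (ka xa30 ya13 za51) (ka xa31 ya2 za23) (ka xa31 ya2 za24) (ka xa23 ya42 za12) (ka xa28 ya9 za16) (ka xa23 ya37 za43) (ka xa31 ya5 za58) (ka xa23 ya43 za21) (ka xa28 ya27 za43) (ka xa28 ya27 za41) (ka xa29 ya41 za32) (ka xa29 ya41 za31) (ka xa23 ya37 za50) (ka xa31 ya13 za4) (ka xa32 ya6 za12) (ka xa32 ya24 za56) (ka xa32 ya6 za13) (ka xa31 ya14 za48) (ka xa32 ya28 za38) (ka xa32 ya28 za37) (ka xa30 ya24 za41) (ka xa29 ya13 za56) (ka xa31 ya6 za32) (ka xa27 ya58 za2) (ka xa31 ya11 za56) (ka xa23 ya38 za35) (ka xa28 ya11 za59) (ka xa28 ya13 za26) (ka xa30 ya47 za7) (ka xa31 ya2 za53) (ka xa29 ya49 za42) (ka xa32 ya53 za42) (ka xa32 ya30 za47) (ka xa31 ya3 za0) (ka xa31 ya3 za1) (ka xa31 ya3 za2) (ka xa28 ya11 za58) (ka xa32 ya26 za58) (ka xa29 ya10 za8) (ka xa32 ya15 za60) (ka xa31 ya4 za26) (ka xa28 ya11 za55) (ka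 xa29 ya11 za5) (ka xa29 ya10 za12) (ka xa29 ya10 za10) (ka xa29 ya11 za4) (ka xa28 ya10 za35) (ka xa29 ya10 za29) (ka xa29 ya11 za7) (ka xa31 ya5 za15) (ka xa29 ya11 za59) (ka xa32 ya49 za10) (ka xa29 ya11 za38) (ka xa31 ya10 za57) (ka xa31 ya10 za58) (ka xa31 ya10 za46) (ka xa30 ya41 za46) (ka xa30 ya41 za47) (ka xa23 ya38 za47) (ka xa25 ya42 za38) (ka xa25 ya42 za39)) (@D3.rec (fun _ => Pt) (ka xa31 ya4 za59) (ka xa30 ya10 za59) (ka xa27 ya8 za35) (ka xa26 ya47 za55) (ka xa31 ya37 za51) (ka xa29 ya11 za29) (ka xa29 ya10 za23) (ka xa31 ya4 za6) (ka xa24 ya34 za50) (ka xa31 ya4 za8) (ka xa27 ya24 za1) (ka xa30 ya1 za35) (ka xa29 ya13 za55) (ka xa31 ya4 za15) (ka xa29 ya13 za57) (ka xa29 ya13 za58) (ka xa31 ya4 za16) (ka xa32 ya41 za57) (ka xa24 ya38 za19) (ka xa24 ya20 za15) (ka xa31 ya4 za13) (ka xa23 ya39 za17) (ka xa31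 ya4 za22) (ka xa31 ya4 za24) (ka xa31 ya3 za40) (ka xa24 ya38 za1) (ka xa24 ya38 za3) (ka xa23 ya39 za24) (ka xa31 ya3 za54) (ka xa24 ya40 za10) (ka xa24 ya40 za11) (ka xa31 ya4 za32) (ka xa29 ya56 za45) (ka xa30 ya10 za27) (ka xa32 ya54 za13) (ka xa30 ya10 za30) (ka xa24 ya17 za45) (ka xa24 ya17 za44) (ka xa23 ya39 za33) (ka xa32 ya26 za11) (ka xa32 ya55 za47) (ka xa24 ya40 za12) (ka xa24 ya40 za9) (ka xa23 ya39 za36) (ka xa31 ya24 za44) (ka xa30 ya40 za7) (ka xa24 ya4 za40) (ka xa31 ya16 za49) (ka xa23 ya39 za37) (ka xa31 ya24 za47) (ka xa24 ya17 za25) (ka xa29 ya47 za59) (ka xa24 ya50 za59) (ka xa25 ya4 za48) (ka xa30 ya1 za37) (ka xa31 ya4 za37) (ka xa31 ya4 za38) (ka xa25 ya4 za59) (ka xa32 ya16 za12) (ka xa31 ya4 za41) (ka xa31 ya4 za44) (ka xa32 ya31 za33)) (@D3.rec (fun _ => Pt) (ka xa30 ya40 za20) (ka xa28 ya47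 za13) (ka xa28 ya36 za20) (ka xa23 ya39 za47) (ka xa32 ya23 za43) (ka xa24 ya15 za53) (ka xa24 ya39 za48) (ka xa24 ya39 za49) (ka xa31 ya3 za59) (ka xa29 ya12 za4) (ka xa30 ya0 za47) (ka xa31 ya49 za42) (ka xa31 ya57 za21) (ka xa30 ya41 za15) (ka xa30 ya10 za60) (ka xa31 ya58 za4) (ka xa31 ya3 za50) (ka xa23 ya40 za15) (ka xa31 ya10 za44) (ka xa31 ya30 za24) (ka xa23 ya40 za16) (ka xa31 ya3 za25) (ka xa31 ya3 za26) (ka xa23 ya40 za24) (ka xa31 ya3 za29) (ka xa28 ya59 za28) (ka xa31 ya3 za55) (ka xa30 ya0 za22) (ka xa31 ya3 za42) (ka xa29 ya11 za58) (ka xa31 ya4 za56) (ka xa23 ya40 za59) (ka xa23 ya40 za61) (ka xa23 ya41 za0) (ka xa23 ya41 za8) (ka xa23 ya41 za12) (ka xa23 ya41 za13) (ka xa23 ya41 za15) (ka xa31 ya5 za29) (ka xa32 ya32 za19) (ka xa32 ya38 za13) (ka xa32 ya49 za27) (ka xa32 ya3 za16) (ka xa32 ya49 za33)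 (ka xa31 ya10 za18) (ka xa32 ya32 za15) (ka xa31 ya8 za56) (ka xa23 ya57 za60) (ka xa32 ya43 za57) (ka xa29 ya57 za40) (ka xa28 ya38 za44) (ka xa31 ya22 za17) (ka xa31 ya5 za37) (ka xa32 ya2 za29) (ka xa31 ya35 za42) (ka xa31 ya57 za19) (ka xa28 ya52 za55) (ka xa31 ya8 za54) (ka xa31 ya8 za55) (ka xa27 ya40 za55) (ka xa31 ya5 za6) (ka xa31 ya5 za7)) (@D3.rec (fun _ => Pt) (ka xa31 ya5 za8) (ka xa29 ya4 za23) (ka xa24 ya33 za56) (ka xa28 ya59 za48) (ka xa31 ya5 za40) (ka xa31 ya5 za9) (ka xa28 ya27 za28) (ka xa30 ya34 za58) (ka xa31 ya5 za12) (ka xa31 ya5 za27) (ka xa24 ya40 za15) (ka xa30 ya51 za27) (ka xa23 ya41 za42) (ka xa29 ya3 za44) (ka xa29 ya5 za6) (ka xa24 ya17 za14) (ka xa29 ya4 za53) (ka xa26 ya44 za29) (ka xa30 ya47 za15) (ka xa30 ya40 za32) (ka xa30 ya10 za10) (ka xa32 ya39 za11) (ka xa27 ya56 za31) (ka xa31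 ya5 za30) (ka xa31 ya4 za36) (ka xa32 ya54 za21) (ka xa23 ya42 za19) (ka xa31 ya59 za13) (ka xa30 ya8 za13) (ka xa32 ya44 za19) (ka xa31 ya28 za52) (ka xa23 ya43 za8) (ka xa29 ya49 za43) (ka xa30 ya31 za47) (ka xa30 ya31 za48) (ka xa30 ya31 za49) (ka xa31 ya54 za57) (ka xa23 ya43 za7) (ka xa31 ya7 za13) (ka xa28 ya3 za47) (ka xa25 ya16 za20) (ka xa31 ya59 za29) (ka xa31 ya59 za30) (ka xa23 ya43 za56) (ka xa29 ya9 za47) (ka xa28 ya4 za4) (ka xa28 ya4 za5) (ka xa32 ya28 za11) (ka xa31 ya57 za49) (ka xa27 ya1 za22) (ka xa23 ya43 za44) (ka xa23 ya43 za45) (ka xa23 ya43 za52) (ka xa31 ya57 za37) (ka xa31 ya56 za41) (ka xa32 ya48 za57) (ka xa31 ya8 za25) (ka xa30 ya34 za50) (ka xa30 ya42 za8) (ka xa31 ya41 za50) (ka xa27 ya28 za43) (ka xa31 ya12 za20)) (@D3.rec (fun _ => Pt) (ka xa25 ya1 za21) (ka xa28 ya4 za12) (ka xa31 ya57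 za52) (ka xa32 ya6 za49) (ka xa23 ya44 za8) (ka xa31 ya6 za15) (ka xa32 ya6 za38) (ka xa32 ya6 za39) (ka xa25 ya46 za33) (ka xa32 ya19 za49) (ka xa32 ya5 za6) (ka xa27 ya58 za4) (ka xa28 ya41 za18) (ka xa23 ya44 za56) (ka xa32 ya3 za46) (ka xa30 ya32 za36) (ka xa32 ya3 za29) (ka xa27 ya57 za61) (ka xa26 ya7 za6) (ka xa27 ya28 za41) (ka xa31 ya11 za61) (ka xa23 ya45 za18) (ka xa32 ya49 za23) (ka xa30 ya58 za7) (ka xa28 ya41 za8) (ka xa30 ya37 za35) (ka xa30 ya7 za13) (ka xa23 ya57 za49) (ka xa23 ya57 za32) (ka xa31 ya34 za15) (ka xa30 ya25 za19) (ka xa23 ya48 za52) (ka xa28 ya46 za18) (ka xa31 ya33 za14) (ka xa32 ya39 za6) (ka xa24 ya21 za45) (ka xa30 ya25 za25) (ka xa30 ya25 za26) (ka xa30 ya25 za30) (ka xa32 ya22 za60) (ka xa24 ya13 za5) (ka xa28 ya39 za45) (ka xa23 ya45 za61) (ka xa30 ya29 za26) (ka xa28 ya55 za38) (ka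 xa24 ya25 za18) (ka xa24 ya24 za31) (ka xa24 ya24 za32) (ka xa28 ya39 za1) (ka xa24 ya24 za29) (ka xa24 ya30 za13) (ka xa24 ya30 za12) (ka xa24 ya30 za0) (ka xa30 ya31 za17) (ka xa24 ya30 za4) (ka xa23 ya46 za22) (ka xa26 ya58 za29) (ka xa30 ya20 za45) (ka xa24 ya25 za61) (ka xa30 ya50 za10) (ka xa31 ya53 za29) (ka xa29 ya23 za58)) (@D3.rec (fun _ => Pt) (ka xa23 ya46 za52) (ka xa27 ya42 za33) (ka xa31 ya36 za47) (ka xa29 ya3 za58) (ka xa31 ya8 za14) (ka xa30 ya20 za18) (ka xa30 ya36 za57) (ka xa30 ya37 za1) (ka xa30 ya37 za2) (ka xa28 ya50 za51) (ka xa31 ya13 za47) (ka xa27 ya8 za58) (ka xa27 ya15 za3) (ka xa31 ya22 za20) (ka xa29 ya36 za46) (ka xa30 ya25 za58) (ka xa27 ya56 za40) (ka xa29 ya34 za43) (ka xa25 ya48 za40) (ka xa24 ya2 za34) (ka xa23 ya47 za33) (ka xa32 ya22 za47) (ka xa25 ya57 za43) (ka xa30 ya10 za45)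 (ka xa30 ya17 za25) (ka xa29 ya29 za50) (ka xa32 ya56 za1) (ka xa30 ya21 za2) (ka xa23 ya48 za13) (ka xa23 ya48 za16) (ka xa23 ya48 za17) (ka xa32 ya33 za4) (ka xa32 ya45 za57) (ka xa31 ya38 za49) (ka xa28 ya52 za58) (ka xa29 ya36 za59) (ka xa29 ya35 za53) (ka xa26 ya53 za49) (ka xa32 ya52 za57) (ka xa30 ya18 za35) (ka xa30 ya49 za59) (ka xa30 ya38 za12) (ka xa30 ya32 za15) (ka xa31 ya23 za8) (ka xa24 ya5 za18) (ka xa31 ya20 za7) (ka xa31 ya15 za2) (ka xa31 ya13 za10) (ka xa30 ya49 za45) (ka xa32 ya52 za4) (ka xa32 ya14 za53) (ka xa32 ya52 za8) (ka xa32 ya20 za29) (ka xa32 ya20 za14) (ka xa27 ya16 za59) (ka xa30 ya15 za61) (ka xa32 ya56 za7) (ka xa27 ya8 za48) (ka xa31 ya31 za19) (ka xa28 ya46 za36) (ka xa32 ya38 za37) (ka xa30 ya29 za3)) (@D3.rec (fun _ => Pt) (ka xa31 ya17 za9) (ka xa29 ya45 za22) (ka xa29 ya45 za25)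 (ka xa29 ya45 za26) (ka xa32 ya45 za33) (ka xa29 ya34 za28) (ka xa30 ya25 za31) (ka xa28 ya22 za8) (ka xa23 ya57 za7) (ka xa23 ya49 za26) (ka xa31 ya52 za61) (ka xa31 ya18 za9) (ka xa32 ya38 za23) (ka xa24 ya27 za51) (ka xa24 ya22 za18) (ka xa31 ya28 za44) (ka xa24 ya1 za58) (ka xa31 ya14 za24) (ka xa23 ya49 za44) (ka xa27 ya46 za10) (ka xa26 ya13 za7) (ka xa27 ya41 za10) (ka xa30 ya45 za19) (ka xa28 ya5 za59) (ka xa31 ya14 za17) (ka xa31 ya7 za10) (ka xa24 ya55 za15) (ka xa27 ya25 za48) (ka xa23 ya50 za15) (ka xa31 ya18 za7) (ka xa30 ya45 za17) (ka xa27 ya20 za53) (ka xa27 ya20 za55) (ka xa30 ya1 za21) (ka xa30 ya1 za17) (ka xa23 ya50 za36) (ka xa23 ya50 za37) (ka xa23 ya50 za38) (ka xa32 ya7 za21) (ka xa27 ya40 za1) (ka xa32 ya31 za7) (ka xa32 ya29 za4) (ka xa23 ya50 za33) (ka xa28 ya25 za44) (ka xa28 ya6 za2) (ka xa32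 ya5 za60) (ka xa23 ya50 za45) (ka xa26 ya12 za24) (ka xa31 ya8 za18) (ka xa23 ya50 za56) (ka xa23 ya50 za59) (ka xa32 ya28 za49) (ka xa28 ya25 za51) (ka xa28 ya2 za19) (ka xa32 ya25 za26) (ka xa26 ya27 za22) (ka xa32 ya54 za32) (ka xa32 ya44 za5) (ka xa32 ya32 za32) (ka xa32 ya55 za40) (ka xa32 ya32 za2) (ka xa32 ya30 za11)) (@D3.rec (fun _ => Pt) (ka xa28 ya54 za34) (ka xa24 ya24 za44) (ka xa31 ya13 za46) (ka xa23 ya51 za17) (ka xa23 ya51 za19) (ka xa28 ya25 za46) (ka xa23 ya51 za16) (ka xa31 ya45 za18) (ka xa24 ya47 za60) (ka xa32 ya30 za0) (ka xa30 ya44 za42) (ka xa30 ya34 za33) (ka xa30 ya39 za27) (ka xa32 ya51 za45) (ka xa32 ya53 za48) (ka xa30 ya22 za25) (ka xa32 ya48 za5) (ka xa31 ya23 za22) (ka xa32 ya53 za34) (ka xa31 ya30 za36) (ka xa24 ya44 za22) (ka xa32 ya56 za16) (ka xa32 ya10 za24) (ka xa32 ya29 za43) (ka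 xa23 ya51 za38) (ka xa31 ya42 za22) (ka xa32 ya30 za18) (ka xa28 ya46 za57) (ka xa28 ya46 za61) (ka xa28 ya18 za8) (ka xa30 ya27 za4) (ka xa30 ya27 za3) (ka xa31 ya39 za22) (ka xa24 ya55 za7) (ka xa27 ya40 za9) (ka xa23 ya51 za58) (ka xa28 ya20 za55) (ka xa24 ya13 za59) (ka xa28 ya35 za57) (ka xa30 ya23 za24) (ka xa29 ya55 za0) (ka xa32 ya15 za27) (ka xa27 ya31 za16) (ka xa24 ya5 za16) (ka xa30 ya23 za39) (ka xa32 ya21 za22) (ka xa30 ya22 za51) (ka xa31 ya24 za4) (ka xa30 ya49 za43) (ka xa30 ya50 za38) (ka xa29 ya39 za22) (ka xa24 ya6 za22) (ka xa25 ya18 za28) (ka xa30 ya24 za0) (ka xa31 ya16 za5) (ka xa30 ya49 za41) (ka xa30 ya24 za2) (ka xa32 ya19 za44) (ka xa30 ya31 za22) (ka xa24 ya28 za52) (ka xa27 ya15 za5) (ka xa30 ya24 za10)) (@D3.rec (fun _ => Pt) (ka xa31 ya16 za8) (ka xa30 ya48 za48) (ka xa23 ya53 za31) (ka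 xa31 ya38 za48) (ka xa28 ya53 za43) (ka xa31 ya15 za54) (ka xa32 ya42 za49) (ka xa30 ya36 za31) (ka xa31 ya16 za0) (ka xa28 ya21 za24) (ka xa23 ya53 za56) (ka xa31 ya23 za28) (ka xa23 ya54 za3) (ka xa32 ya34 za31) (ka xa27 ya1 za59) (ka xa24 ya1 za57) (ka xa32 ya56 za17) (ka xa27 ya29 za43) (ka xa32 ya2 za10) (ka xa23 ya54 za9) (ka xa31 ya51 za53) (ka xa23 ya54 za15) (ka xa32 ya29 za52) (ka xa32 ya29 za54) (ka xa29 ya53 za11) (ka xa31 ya50 za17) (ka xa32 ya34 za39) (ka xa32 ya34 za40) (ka xa32 ya34 za41) (ka xa32 ya27 za34) (ka xa23 ya54 za31) (ka xa23 ya54 za33) (ka xa23 ya54 za34) (ka xa23 ya54 za35) (ka xa24 ya8 za54) (ka xa32 ya8 za32) (ka xa30 ya52 za5) (ka xa26 ya30 za49) (ka xa28 ya47 za11) (ka xa31 ya16 za60) (ka xa27 ya44 za22) (ka xa31 ya16 za59) (ka xa32 ya53 za27) (ka xa32 ya32 za18) (ka xa30 ya42 za39) (ka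 xa24 ya3 za48) (ka xa24 ya3 za49) (ka xa32 ya53 za8) (ka xa23 ya54 za51) (ka xa31 ya9 za47) (ka xa32 ya2 za27) (ka xa31 ya0 za20) (ka xa30 ya36 za45) (ka xa31 ya49 za27) (ka xa27 ya14 za23) (ka xa28 ya25 za28) (ka xa32 ya1 za38) (ka xa23 ya54 za59) (ka xa32 ya10 za13) (ka xa31 ya16 za41) (ka xa31 ya16 za39) (ka xa24 ya30 za58)) (@D3.rec (fun _ => Pt) (ka xa32 ya1 za29) (ka xa32 ya53 za38) (ka xa31 ya32 za9) (ka xa24 ya8 za7) (ka xa24 ya6 za19) (ka xa28 ya51 za30) (ka xa28 ya51 za34) (ka xa31 ya36 za58) (ka xa23 ya55 za36) (ka xa31 ya14 za0) (ka xa24 ya3 za52) (ka xa31 ya39 za52) (ka xa29 ya15 za19) (ka xa30 ya27 za6) (ka xa27 ya37 za22) (ka xa30 ya27 za8) (ka xa30 ya27 za9) (ka xa23 ya55 za53) (ka xa31 ya26 za13) (ka xa31 ya30 za9) (ka xa32 ya47 za57) (ka xa30 ya27 za26) (ka xa30 ya27 za29) (ka xa24 ya10 za48) (ka xa25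 ya58 za33) (ka xa23 ya56 za9) (ka xa23 ya56 za10) (ka xa32 ya36 za30) (ka xa24 ya7 za12) (ka xa24 ya7 za41) (ka xa24 ya7 za44) (ka xa24 ya7 za48) (ka xa24 ya8 za34) (ka xa29 ya34 za46) (ka xa30 ya6 za29) (ka xa25 ya14 za24) (ka xa24 ya14 za9) (ka xa27 ya42 za27) (ka xa28 ya15 za37) (ka xa29 ya23 za25) (ka xa31 ya26 za48) (ka xa24 ya11 za11) (ka xa31 ya19 za34) (ka xa24 ya27 za54) (ka xa24 ya27 za9) (ka xa32 ya8 za11) (ka xa30 ya47 za21) (ka xa24 ya13 za47) (ka xa26 ya36 za49) (ka xa31 ya33 za40) (ka xa24 ya13 za37) (ka xa24 ya10 za2) (ka xa26 ya54 za35) (ka xa26 ya53 za37) (ka xa31 ya22 za10) (ka xa26 ya56 za61) (ka xa24 ya11 za32) (ka xa28 ya29 za60) (ka xa26 ya56 za60) (ka xa28 ya30 za2) (ka xa31 ya22 za9) (ka xa28 ya55 za47)) (@D3.rec (fun _ => Pt) (ka xa26 ya57 za5) (ka xa23 ya57 za59) (ka xa24 ya13 za56) (ka xa28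 ya11 za16) (ka xa32 ya52 za23) (ka xa25 ya59 za26) (ka xa28 ya38 za34) (ka xa31 ya14 za29) (ka xa27 ya8 za32) (ka xa31 ya14 za11) (ka xa28 ya38 za49) (ka xa25 ya19 za59) (ka xa29 ya18 za4) (ka xa23 ya58 za27) (ka xa24 ya22 za56) (ka xa28 ya55 za0) (ka xa24 ya20 za16) (ka xa24 ya20 za24) (ka xa24 ya20 za28) (ka xa24 ya20 za31) (ka xa24 ya20 za52) (ka xa24 ya20 za58) (ka xa30 ya1 za43) (ka xa29 ya9 za39) (ka xa24 ya21 za17) (ka xa24 ya21 za6) (ka xa24 ya21 za7) (ka xa28 ya48 za1) (ka xa24 ya22 za19) (ka xa31 ya49 za41) (ka xa31 ya49 za43) (ka xa24 ya24 za9) (ka xa32 ya14 za48) (ka xa29 ya10 za37) (ka xa29 ya9 za48) (ka xa27 ya42 za50) (ka xa29 ya11 za50) (ka xa23 ya59 za46) (ka xa24 ya26 za15) (ka xa24 ya26 za17) (ka xa32 ya53 za10) (ka xa24 ya27 za7) (ka xa24 ya28 za45) (ka xa24 ya28 za46) (ka xa24 ya28 za49) (ka xa23 ya59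 za55) (ka xa24 ya28 za54) (ka xa24 ya39 za51) (ka xa28 ya44 za60) (ka xa28 ya45 za33) (ka xa28 ya29 za10) (ka xa28 ya29 za8) (ka xa24 ya26 za28) (ka xa24 ya27 za11) (ka xa24 ya0 za4) (ka xa28 ya19 za40) (ka xa31 ya26 za60) (ka xa30 ya12 za9) (ka xa31 ya28 za29) (ka xa26 ya38 za19) (ka xa24 ya0 za21) (ka xa24 ya26 za27)) (@D3.rec (fun _ => Pt) (ka xa24 ya26 za30) (ka xa26 ya33 za20) (ka xa24 ya26 za39) (ka xa24 ya26 za37) (ka xa24 ya26 za38) (ka xa24 ya26 za42) (ka xa24 ya26 za45) (ka xa24 ya26 za44) (ka xa24 ya27 za37) (ka xa24 ya27 za35) (ka xa25 ya49 za34) (ka xa24 ya29 za17) (ka xa24 ya29 za30) (ka xa24 ya16 za40) (ka xa26 ya58 za11) (ka xa27 ya13 za9) (ka xa28 ya17 za11) (ka xa30 ya53 za18) (ka xa32 ya19 za3) (ka xa24 ya0 za60) (ka xa24 ya1 za0) (ka xa24 ya1 za3) (ka xa24 ya1 za6) (ka xa24 ya29 za50) (ka xa32 ya39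 za31) (ka xa29 ya45 za30) (ka xa24 ya29 za61) (ka xa30 ya22 za24) (ka xa32 ya55 za39) (ka xa30 ya34 za26) (ka xa24 ya30 za27) (ka xa32 ya18 za23) (ka xa28 ya52 za30) (ka xa28 ya49 za1) (ka xa31 ya17 za42) (ka xa30 ya17 za34) (ka xa32 ya18 za12) (ka xa32 ya13 za14) (ka xa31 ya24 za30) (ka xa25 ya33 za27) (ka xa28 ya45 za23) (ka xa25 ya19 za60) (ka xa24 ya33 za2) (ka xa29 ya14 za3) (ka xa32 ya38 za26) (ka xa31 ya31 za49) (ka xa32 ya11 za44) (ka xa32 ya24 za6) (ka xa31 ya26 za27) (ka xa31 ya26 za25) (ka xa24 ya1 za44) (ka xa27 ya10 za44) (ka xa32 ya46 za18) (ka xa29 ya48 za19) (ka xa24 ya1 za59) (ka xa24 ya1 za60) (ka xa24 ya1 za61) (ka xa24 ya2 za0) (ka xa32 ya50 za23) (ka xa32 ya50 za24) (ka xa32 ya56 za18) (ka xa32 ya50 za12)) (@D3.rec (fun _ => Pt) (ka xa32 ya54 za43) (ka xa32 ya50 za13) (ka xa32 ya38 za44) (ka xa30 ya21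 za16) (ka xa30 ya19 za17) (ka xa32 ya47 za29) (ka xa32 ya16 za35) (ka xa31 ya13 za45) (ka xa27 ya6 za60) (ka xa30 ya34 za29) (ka xa24 ya2 za12) (ka xa32 ya4 za17) (ka xa30 ya21 za18) (ka xa24 ya2 za24) (ka xa24 ya2 za25) (ka xa32 ya43 za0) (ka xa27 ya10 za42) (ka xa29 ya9 za21) (ka xa32 ya14 za24) (ka xa32 ya14 za29) (ka xa26 ya33 za36) (ka xa24 ya28 za33) (ka xa32 ya47 za48) (ka xa25 ya45 za6) (ka xa26 ya37 za19) (ka xa30 ya16 za37) (ka xa24 ya2 za36) (ka xa32 ya24 za10) (ka xa27 ya17 za39) (ka xa30 ya9 za51) (ka xa32 ya55 za7) (ka xa24 ya2 za47) (ka xa24 ya2 za48) (ka xa24 ya2 za51) (ka xa27 ya11 za61) (ka xa27 ya12 za3) (ka xa32 ya47 za8) (ka xa28 ya51 za31) (ka xa32 ya1 za5) (ka xa31 ya59 za33) (ka xa32 ya46 za40) (ka xa32 ya47 za47) (ka xa32 ya50 za57) (ka xa32 ya25 za24) (ka xa24 ya2 za58) (ka xa32 ya24 za8) (ka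 xa24 ya3 za7) (ka xa31 ya52 za48) (ka xa31 ya40 za58) (ka xa31 ya50 za55) (ka xa28 ya46 za60) (ka xa31 ya52 za47) (ka xa25 ya11 za53) (ka xa31 ya24 za27) (ka xa24 ya3 za11) (ka xa29 ya59 za46) (ka xa32 ya41 za18) (ka xa29 ya17 za13) (ka xa26 ya26 za2) (ka xa28 ya37 za15) (ka xa24 ya3 za30) (ka xa24 ya3 za32)) (@D3.rec (fun _ => Pt) (ka xa28 ya29 za28) (ka xa29 ya49 za3) (ka xa30 ya27 za19) (ka xa32 ya19 za0) (ka xa29 ya44 za27) (ka xa32 ya45 za56) (ka xa32 ya27 za5) (ka xa26 ya38 za10) (ka xa28 ya7 za39) (ka xa31 ya41 za24) (ka xa24 ya3 za55) (ka xa24 ya3 za56) (ka xa24 ya3 za57) (ka xa24 ya3 za60) (ka xa32 ya3 za25) (ka xa32 ya3 za26) (ka xa32 ya46 za6) (ka xa32 ya39 za3) (ka xa29 ya27 za20) (ka xa32 ya3 za27) (ka xa32 ya1 za7) (ka xa26 ya54 za40) (ka xa29 ya41 za39) (ka xa25 ya21 za61) (ka xa24 ya3 za54) (ka xa32 ya56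 za41) (ka xa28 ya45 za21) (ka xa24 ya33 za24) (ka xa31 ya51 za61) (ka xa32 ya14 za0) (ka xa32 ya47 za9) (ka xa31 ya51 za11) (ka xa30 ya22 za59) (ka xa28 ya42 za36) (ka xa31 ya41 za41) (ka xa30 ya22 za16) (ka xa30 ya38 za24) (ka xa32 ya53 za3) (ka xa29 ya18 za0) (ka xa25 ya31 za53) (ka xa31 ya22 za16) (ka xa24 ya4 za10) (ka xa24 ya4 za15) (ka xa24 ya4 za17) (ka xa24 ya4 za18) (ka xa24 ya4 za19) (ka xa31 ya24 za41) (ka xa24 ya4 za14) (ka xa32 ya36 za15) (ka xa29 ya9 za30) (ka xa30 ya56 za50) (ka xa29 ya34 za3) (ka xa25 ya50 za29) (ka xa32 ya13 za53) (ka xa32 ya39 za16) (ka xa28 ya56 za44) (ka xa31 ya24 za37) (ka xa28 ya41 za52) (ka xa31 ya24 za39) (ka xa24 ya4 za33) (ka xa24 ya4 za37) (ka xa24 ya4 za32)) (@D3.rec (fun _ => Pt) (ka xa32 ya17 za57) (ka xa31 ya40 za60) (ka xa29 ya27 za30) (ka xa24 ya34 za4) (ka xa28 ya8 za56)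 (ka xa32 ya39 za21) (ka xa30 ya55 za59) (ka xa30 ya56 za2) (ka xa30 ya56 za32) (ka xa31 ya17 za60) (ka xa31 ya17 za54) (ka xa24 ya24 za47) (ka xa29 ya41 za54) (ka xa25 ya5 za14) (ka xa29 ya43 za0) (ka xa32 ya37 za11) (ka xa31 ya21 za40) (ka xa31 ya10 za51) (ka xa30 ya6 za24) (ka xa30 ya38 za14) (ka xa31 ya13 za13) (ka xa26 ya19 za38) (ka xa30 ya47 za52) (ka xa29 ya30 za17) (ka xa32 ya53 za50) (ka xa30 ya22 za19) (ka xa29 ya47 za7) (ka xa25 ya18 za43) (ka xa29 ya20 za16) (ka xa29 ya30 za33) (ka xa24 ya30 za14) (ka xa24 ya30 za17) (ka xa29 ya35 za40) (ka xa24 ya6 za16) (ka xa24 ya34 za35) (ka xa24 ya6 za39) (ka xa30 ya54 za8) (ka xa24 ya6 za49) (ka xa24 ya6 za50) (ka xa24 ya6 za52) (ka xa32 ya20 za44) (ka xa24 ya6 za59) (ka xa29 ya36 za31) (ka xa31 ya28 za3) (ka xa29 ya25 za43) (ka xa32 ya1 za2) (ka xa31 ya59 za54) (ka xa30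 ya39 za42) (ka xa30 ya26 za33) (ka xa30 ya26 za38) (ka xa32 ya33 za59) (ka xa31 ya22 za61) (ka xa28 ya33 za57) (ka xa31 ya43 za22) (ka xa32 ya34 za13) (ka xa30 ya49 za42) (ka xa27 ya8 za47) (ka xa30 ya52 za6) (ka xa32 ya18 za20) (ka xa30 ya30 za31) (ka xa30 ya49 za5) (ka xa31 ya22 za51)) (@D3.rec (fun _ => Pt) (ka xa29 ya30 za21) (ka xa32 ya52 za54) (ka xa32 ya19 za40) (ka xa30 ya54 za53) (ka xa32 ya53 za6) (ka xa30 ya50 za33) (ka xa24 ya6 za56) (ka xa32 ya54 za56) (ka xa31 ya13 za43) (ka xa30 ya50 za30) (ka xa30 ya46 za33) (ka xa32 ya54 za55) (ka xa28 ya56 za10) (ka xa32 ya40 za10) (ka xa28 ya48 za17) (ka xa32 ya23 za12) (ka xa26 ya27 za52) (ka xa29 ya0 za6) (ka xa30 ya46 za12) (ka xa31 ya25 za46) (ka xa31 ya25 za47) (ka xa31 ya25 za48) (ka xa31 ya15 za17) (ka xa25 ya36 za16) (ka xa30 ya51 za11) (ka xa31 ya27 za18) (ka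 xa28 ya56 za57) (ka xa28 ya23 za32) (ka xa31 ya16 za11) (ka xa25 ya34 za14) (ka xa24 ya8 za1) (ka xa28 ya8 za42) (ka xa32 ya30 za59) (ka xa28 ya39 za2) (ka xa32 ya30 za55) (ka xa26 ya27 za30) (ka xa24 ya38 za60) (ka xa24 ya8 za55) (ka xa24 ya13 za19) (ka xa25 ya11 za38) (ka xa25 ya11 za41) (ka xa31 ya25 za53) (ka xa29 ya53 za38) (ka xa24 ya12 za60) (ka xa32 ya29 za57) (ka xa26 ya27 za59) (ka xa31 ya25 za45) (ka xa30 ya50 za60) (ka xa30 ya48 za54) (ka xa30 ya47 za31) (ka xa28 ya48 za14) (ka xa28 ya0 za4) (ka xa28 ya39 za21) (ka xa24 ya24 za41) (ka xa24 ya24 za43) (ka xa32 ya52 za29) (ka xa29 ya56 za11) (ka xa28 ya45 za20) (ka xa24 ya10 za43) (ka xa24 ya10 za47) (ka xa32 ya14 za52) (ka xa30 ya39 za4)) (@D3.rec (fun _ => Pt) (ka xa31 ya41 za40) (ka xa32 ya33 za5) (ka xa30 ya38 za59) (ka xa30 ya8 za22) (ka xa31 ya15 za47)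 (ka xa30 ya51 za18) (ka xa32 ya45 za0) (ka xa32 ya42 za44) (ka xa29 ya8 za61) (ka xa27 ya8 za30) (ka xa27 ya8 za28) (ka xa32 ya16 za57) (ka xa31 ya31 za4) (ka xa30 ya36 za59) (ka xa30 ya36 za61) (ka xa29 ya35 za54) (ka xa30 ya36 za56) (ka xa31 ya26 za49) (ka xa29 ya24 za49) (ka xa27 ya27 za35) (ka xa24 ya50 za4) (ka xa25 ya22 za11) (ka xa29 ya0 za45) (ka xa24 ya11 za21) (ka xa29 ya44 za36) (ka xa29 ya16 za35) (ka xa26 ya37 za6) (ka xa31 ya20 za53) (ka xa32 ya56 za49) (ka xa30 ya16 za22) (ka xa31 ya19 za38) (ka xa24 ya11 za42) (ka xa24 ya11 za43) (ka xa27 ya36 za58) (ka xa29 ya41 za15) (ka xa29 ya14 za14) (ka xa24 ya50 za26) (ka xa31 ya21 za56) (ka xa25 ya9 za7) (ka xa31 ya21 za58) (ka xa24 ya11 za49) (ka xa31 ya21 za46) (ka xa32 ya45 za47) (ka xa29 ya47 za12) (ka xa31 ya9 za44) (ka xa31 ya27 za37) (ka xa30 ya10 za28) (ka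 xa31 ya9 za49) (ka xa28 ya50 za37) (ka xa29 ya23 za14) (ka xa24 ya21 za40) (ka xa24 ya12 za7) (ka xa28 ya39 za57) (ka xa24 ya24 za60) (ka xa24 ya24 za61) (ka xa24 ya25 za0) (ka xa24 ya25 za1) (ka xa24 ya26 za47) (ka xa24 ya12 za51) (ka xa29 ya20 za55) (ka xa24 ya12 za58) (ka xa24 ya13 za13)) (@D3.rec (fun _ => Pt) (ka xa28 ya8 za44) (ka xa24 ya12 za17) (ka xa32 ya9 za15) (ka xa24 ya13 za28) (ka xa27 ya24 za4) (ka xa29 ya12 za30) (ka xa31 ya32 za29) (ka xa32 ya8 za42) (ka xa32 ya44 za51) (ka xa32 ya35 za48) (ka xa28 ya33 za46) (ka xa24 ya18 za38) (ka xa25 ya26 za31) (ka xa28 ya22 za57) (ka xa29 ya20 za52) (ka xa29 ya21 za36) (ka xa28 ya36 za17) (ka xa25 ya4 za43) (ka xa26 ya30 za35) (ka xa28 ya7 za11) (ka xa28 ya7 za10) (ka xa28 ya32 za13) (ka xa29 ya32 za30) (ka xa28 ya50 za9) (ka xa29 ya32 za31) (ka xa29 ya31 za14) (ka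 xa26 ya30 za47) (ka xa28 ya34 za20) (ka xa28 ya34 za17) (ka xa30 ya54 za55) (ka xa30 ya6 za28) (ka xa31 ya57 za35) (ka xa28 ya19 za4) (ka xa32 ya52 za25) (ka xa27 ya53 za8) (ka xa32 ya48 za31) (ka xa32 ya52 za24) (ka xa30 ya3 za36) (ka xa28 ya8 za47) (ka xa24 ya13 za23) (ka xa32 ya48 za40) (ka xa29 ya20 za39) (ka xa27 ya52 za59) (ka xa28 ya8 za41) (ka xa32 ya29 za56) (ka xa31 ya23 za46) (ka xa31 ya23 za19) (ka xa31 ya23 za20) (ka xa31 ya23 za21) (ka xa25 ya26 za25) (ka xa30 ya44 za0) (ka xa31 ya30 za27) (ka xa31 ya55 za20) (ka xa31 ya23 za41) (ka xa26 ya53 za10) (ka xa29 ya54 za60) (ka xa32 ya34 za47) (ka xa30 ya46 za51) (ka xa24 ya14 za13) (ka xa32 ya38 za50) (ka xa24 ya15 za12) (ka xa29 ya49 za28)) (@D3.rec (fun _ => Pt) (ka xa26 ya37 za30) (ka xa25 ya47 za32) (ka xa30 ya17 za37) (ka xa29 ya47 za11) (ka xa29 ya33 za44)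 (ka xa26 ya37 za58) (ka xa30 ya57 za44) (ka xa30 ya21 za28) (ka xa30 ya21 za27) (ka xa25 ya8 za8) (ka xa27 ya0 za37) (ka xa32 ya48 za7) (ka xa28 ya44 za29) (ka xa31 ya17 za18) (ka xa29 ya47 za3) (ka xa26 ya41 za7) (ka xa30 ya48 za40) (ka xa30 ya48 za47) (ka xa32 ya41 za2) (ka xa29 ya21 za58) (ka xa24 ya15 za44) (ka xa24 ya15 za48) (ka xa24 ya15 za52) (ka xa28 ya56 za43) (ka xa24 ya16 za41) (ka xa31 ya19 za49) (ka xa24 ya16 za31) (ka xa31 ya19 za48) (ka xa24 ya16 za60) (ka xa29 ya49 za21) (ka xa31 ya31 za32) (ka xa31 ya31 za33) (ka xa24 ya23 za13) (ka xa28 ya29 za50) (ka xa24 ya16 za55) (ka xa24 ya15 za13) (ka xa31 ya47 za21) (ka xa24 ya17 za21) (ka xa28 ya39 za3) (ka xa29 ya56 za26) (ka xa32 ya12 za44) (ka xa30 ya19 za18) (ka xa32 ya35 za38) (ka xa31 ya56 za12) (ka xa31 ya56 za38) (ka xa27 ya5 za44) (ka xa32 ya39 za41)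 (ka xa27 ya19 za36) (ka xa31 ya17 za40) (ka xa31 ya24 za17) (ka xa29 ya56 za24) (ka xa30 ya50 za59) (ka xa24 ya16 za3) (ka xa28 ya54 za1) (ka xa25 ya11 za51) (ka xa24 ya16 za6) (ka xa31 ya43 za54) (ka xa29 ya17 za22) (ka xa32 ya35 za39) (ka xa32 ya35 za5) (ka xa31 ya18 za56) (ka xa25 ya26 za4)) (@D3.rec (fun _ => Pt) (ka xa31 ya0 za32) (ka xa29 ya4 za9) (ka xa29 ya4 za31) (ka xa24 ya16 za33) (ka xa25 ya12 za26) (ka xa24 ya17 za55) (ka xa29 ya44 za26) (ka xa32 ya14 za1) (ka xa24 ya16 za42) (ka xa32 ya56 za58) (ka xa29 ya26 za27) (ka xa31 ya58 za53) (ka xa24 ya16 za50) (ka xa24 ya16 za51) (ka xa24 ya16 za49) (ka xa24 ya26 za60) (ka xa25 ya48 za31) (ka xa28 ya32 za26) (ka xa31 ya23 za25) (ka xa27 ya12 za56) (ka xa31 ya54 za26) (ka xa32 ya57 za1) (ka xa24 ya17 za9) (ka xa24 ya17 za12) (ka xa24 ya17 za13) (ka xa32 ya47 za15)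 (ka xa24 ya17 za8) (ka xa32 ya12 za49) (ka xa32 ya45 za27) (ka xa28 ya30 za15) (ka xa29 ya45 za20) (ka xa29 ya56 za16) (ka xa31 ya56 za22) (ka xa30 ya6 za21) (ka xa30 ya6 za22) (ka xa30 ya51 za44) (ka xa27 ya13 za2) (ka xa31 ya24 za45) (ka xa32 ya3 za40) (ka xa27 ya18 za34) (ka xa32 ya42 za30) (ka xa27 ya25 za56) (ka xa26 ya3 za47) (ka xa31 ya42 za10) (ka xa32 ya7 za11) (ka xa25 ya24 za20) (ka xa31 ya42 za12) (ka xa31 ya53 za1) (ka xa24 ya17 za46) (ka xa31 ya42 za13) (ka xa25 ya5 za24) (ka xa31 ya42 za14) (ka xa32 ya48 za16) (ka xa32 ya49 za35) (ka xa32 ya49 za36) (ka xa32 ya13 za30) (ka xa32 ya0 za12) (ka xa32 ya15 za48) (ka xa30 ya12 za29) (ka xa27 ya9 za17) (ka xa29 ya7 za31) (ka xa32 ya40 za7)) (@D3.rec (fun _ => Pt) (ka xa25 ya29 za53) (ka xa24 ya18 za45) (ka xa32 ya17 za36) (ka xa31 ya22 za43) (ka xa32 ya0 za36)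 (ka xa30 ya51 za4) (ka xa28 ya34 za33) (ka xa32 ya33 za47) (ka xa30 ya50 za36) (ka xa30 ya50 za37) (ka xa28 ya26 za23) (ka xa24 ya19 za8) (ka xa24 ya19 za9) (ka xa24 ya19 za12) (ka xa26 ya5 za7) (ka xa31 ya41 za42) (ka xa32 ya23 za1) (ka xa31 ya41 za1) (ka xa27 ya29 za32) (ka xa32 ya18 za4) (ka xa32 ya38 za33) (ka xa32 ya45 za18) (ka xa26 ya42 za47) (ka xa26 ya44 za60) (ka xa32 ya0 za28) (ka xa32 ya0 za27) (ka xa28 ya52 za24) (ka xa29 ya27 za49) (ka xa29 ya48 za46) (ka xa31 ya18 za58) (ka xa24 ya19 za32) (ka xa32 ya23 za61) (ka xa30 ya27 za20) (ka xa24 ya19 za39) (ka xa24 ya19 za35) (ka xa31 ya51 za23) (ka xa24 ya19 za36) (ka xa29 ya5 za53) (ka xa32 ya21 za52) (ka xa32 ya42 za40) (ka xa28 ya53 za56) (ka xa28 ya49 za61) (ka xa28 ya30 za17) (ka xa30 ya37 za58) (ka xa31 ya14 za15) (ka xa29 ya23 za24) (ka xa28 ya1 za0) (ka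 xa28 ya42 za28) (ka xa26 ya23 za38) (ka xa31 ya36 za9) (ka xa32 ya49 za19) (ka xa31 ya48 za35) (ka xa31 ya11 za30) (ka xa29 ya0 za9) (ka xa25 ya5 za31) (ka xa29 ya6 za48) (ka xa29 ya59 za49) (ka xa30 ya39 za21) (ka xa31 ya36 za33) (ka xa28 ya40 za60) (ka xa26 ya48 za2) (ka xa28 ya41 za37)) (@D3.rec (fun _ => Pt) (ka xa24 ya21 za4) (ka xa31 ya35 za49) (ka xa32 ya54 za10) (ka xa32 ya36 za36) (ka xa32 ya49 za1) (ka xa26 ya40 za32) (ka xa29 ya11 za52) (ka xa29 ya9 za33) (ka xa31 ya41 za2) (ka xa31 ya57 za3) (ka xa29 ya12 za0) (ka xa30 ya0 za10) (ka xa26 ya47 za56) (ka xa26 ya47 za54) (ka xa27 ya2 za52) (ka xa31 ya33 za26) (ka xa32 ya34 za27) (ka xa29 ya26 za11) (ka xa29 ya26 za9) (ka xa30 ya26 za56) (ka xa32 ya34 za15) (ka xa29 ya26 za26) (ka xa32 ya9 za18) (ka xa32 ya14 za4) (ka xa32 ya47 za50) (ka xa32 ya50 za40) (ka xa28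 ya46 za6) (ka xa28 ya45 za60) (ka xa28 ya45 za15) (ka xa24 ya33 za58) (ka xa32 ya53 za59) (ka xa26 ya9 za17) (ka xa32 ya53 za12) (ka xa30 ya8 za23) (ka xa26 ya2 za9) (ka xa31 ya36 za31) (ka xa31 ya3 za16) (ka xa31 ya35 za18) (ka xa25 ya12 za2) (ka xa29 ya1 za48) (ka xa29 ya40 za17) (ka xa24 ya22 za49) (ka xa24 ya22 za51) (ka xa32 ya38 za31) (ka xa32 ya38 za32) (ka xa32 ya13 za44) (ka xa28 ya39 za26) (ka xa31 ya30 za46) (ka xa29 ya52 za40) (ka xa32 ya37 za42) (ka xa26 ya54 za13) (ka xa28 ya11 za26) (ka xa31 ya31 za30) (ka xa28 ya57 za11) (ka xa30 ya37 za20) (ka xa28 ya41 za33) (ka xa32 ya56 za60) (ka xa28 ya33 za3) (ka xa28 ya33 za6) (ka xa28 ya33 za7) (ka xa30 ya21 za37) (ka xa28 ya33 za4)) (@D3.rec (fun _ => Pt) (ka xa28 ya33 za9) (ka xa28 ya33 za8) (ka xa31 ya31 za28) (ka xa24 ya23 za20) (ka xa32 ya57 za11) (ka xa28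 ya37 za47) (ka xa24 ya24 za10) (ka xa32 ya17 za38) (ka xa30 ya32 za22) (ka xa31 ya17 za19) (ka xa24 ya23 za45) (ka xa24 ya23 za46) (ka xa24 ya23 za48) (ka xa31 ya32 za43) (ka xa31 ya32 za42) (ka xa28 ya53 za22) (ka xa28 ya53 za20) (ka xa28 ya12 za1) (ka xa32 ya4 za48) (ka xa29 ya11 za51) (ka xa32 ya49 za3) (ka xa32 ya42 za8) (ka xa32 ya7 za6) (ka xa28 ya4 za37) (ka xa31 ya10 za19) (ka xa30 ya51 za17) (ka xa30 ya51 za14) (ka xa31 ya25 za51) (ka xa32 ya47 za2) (ka xa32 ya45 za12) (ka xa32 ya55 za0) (ka xa32 ya34 za21) (ka xa24 ya25 za35) (ka xa24 ya25 za33) (ka xa32 ya23 za11) (ka xa32 ya40 za16) (ka xa31 ya15 za19) (ka xa30 ya38 za37) (ka xa29 ya55 za52) (ka xa32 ya18 za28) (ka xa30 ya21 za43) (ka xa30 ya20 za61) (ka xa30 ya23 za44) (ka xa26 ya39 za49) (ka xa26 ya39 za47) (ka xa28 ya39 za54) (ka xa31 ya29 za47) (ka xa28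 ya39 za50) (ka xa28 ya30 za9) (ka xa32 ya46 za49) (ka xa28 ya39 za58) (ka xa32 ya34 za8) (ka xa27 ya14 za61) (ka xa25 ya32 za27) (ka xa30 ya29 za32) (ka xa24 ya42 za48) (ka xa30 ya55 za61) (ka xa26 ya38 za59) (ka xa32 ya41 za9) (ka xa32 ya51 za1) (ka xa32 ya46 za28) (ka xa29 ya23 za8)) (@D3.rec (fun _ => Pt) (ka xa30 ya15 za27) (ka xa30 ya29 za41) (ka xa32 ya21 za17) (ka xa32 ya22 za59) (ka xa31 ya24 za12) (ka xa28 ya45 za38) (ka xa28 ya39 za0) (ka xa32 ya45 za51) (ka xa30 ya28 za54) (ka xa30 ya28 za55) (ka xa32 ya46 za52) (ka xa32 ya40 za25) (ka xa32 ya12 za22) (ka xa30 ya28 za60) (ka xa30 ya28 za61) (ka xa32 ya52 za35) (ka xa30 ya28 za58) (ka xa30 ya15 za47) (ka xa32 ya57 za15) (ka xa31 ya13 za58) (ka xa32 ya34 za9) (ka xa29 ya37 za36) (ka xa30 ya22 za8) (ka xa24 ya26 za0) (ka xa30 ya50 za42) (ka xa28 ya16 za26) (ka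 xa31 ya48 za36) (ka xa25 ya33 za28) (ka xa31 ya30 za2) (ka xa32 ya28 za28) (ka xa31 ya29 za52) (ka xa32 ya48 za9) (ka xa31 ya26 za30) (ka xa31 ya26 za31) (ka xa32 ya0 za32) (ka xa28 ya40 za6) (ka xa26 ya46 za21) (ka xa24 ya26 za22) (ka xa30 ya28 za3) (ka xa24 ya26 za50) (ka xa26 ya33 za56) (ka xa32 ya56 za27) (ka xa32 ya38 za1) (ka xa28 ya29 za25) (ka xa28 ya44 za18) (ka xa28 ya34 za5) (ka xa29 ya9 za19) (ka xa26 ya33 za22) (ka xa31 ya51 za39) (ka xa31 ya19 za45) (ka xa32 ya12 za10) (ka xa29 ya9 za20) (ka xa32 ya48 za29) (ka xa29 ya44 za60) (ka xa30 ya29 za8) (ka xa30 ya39 za24) (ka xa26 ya38 za20) (ka xa30 ya38 za51) (ka xa31 ya35 za39) (ka xa24 ya26 za61) (ka xa24 ya27 za0) (ka xa24 ya27 za2)) (@D3.rec (fun _ => Pt) (ka xa31 ya32 za39) (ka xa31 ya45 za55) (ka xa31 ya46 za43) (ka xa31 ya46 za42) (ka xa27 ya24 za21) (ka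 xa32 ya57 za19) (ka xa28 ya35 za22) (ka xa28 ya35 za27) (ka xa32 ya32 za35) (ka xa31 ya17 za2) (ka xa24 ya27 za19) (ka xa24 ya27 za22) (ka xa24 ya27 za23) (ka xa31 ya55 za16) (ka xa31 ya40 za42) (ka xa32 ya41 za34) (ka xa28 ya47 za25) (ka xa32 ya17 za32) (ka xa24 ya27 za26) (ka xa25 ya38 za46) (ka xa31 ya57 za13) (ka xa29 ya9 za17) (ka xa31 ya34 za57) (ka xa26 ya39 za46) (ka xa32 ya48 za26) (ka xa24 ya27 za45) (ka xa31 ya48 za48) (ka xa30 ya8 za2) (ka xa28 ya46 za44) (ka xa31 ya25 za6) (ka xa32 ya45 za60) (ka xa30 ya39 za33) (ka xa28 ya35 za7) (ka xa27 ya8 za43) (ka xa30 ya37 za21) (ka xa30 ya38 za56) (ka xa30 ya37 za34) (ka xa26 ya28 za35) (ka xa30 ya45 za35) (ka xa31 ya32 za0) (ka xa27 ya40 za0) (ka xa24 ya29 za6) (ka xa31 ya30 za14) (ka xa31 ya30 za13) (ka xa32 ya2 za11) (ka xa28 ya22 za61) (ka xa26 ya19 za22) (ka xa24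 ya56 za60) (ka xa28 ya12 za36) (ka xa31 ya39 za2) (ka xa32 ya56 za28) (ka xa32 ya38 za3) (ka xa28 ya41 za1) (ka xa28 ya41 za41) (ka xa28 ya41 za3) (ka xa25 ya1 za45) (ka xa28 ya15 za39) (ka xa26 ya21 za7) (ka xa27 ya49 za7) (ka xa32 ya55 za38) (ka xa25 ya0 za24) (ka xa26 ya28 za12)) (@D3.rec (fun _ => Pt) (ka xa32 ya16 za38) (ka xa32 ya45 za41) (ka xa32 ya45 za40) (ka xa24 ya29 za42) (ka xa32 ya12 za1) (ka xa32 ya12 za4) (ka xa32 ya37 za16) (ka xa30 ya28 za14) (ka xa29 ya28 za21) (ka xa30 ya28 za15) (ka xa32 ya12 za41) (ka xa30 ya5 za46) (ka xa30 ya18 za57) (ka xa27 ya13 za33) (ka xa31 ya12 za33) (ka xa30 ya28 za46) (ka xa28 ya24 za8) (ka xa32 ya18 za60) (ka xa32 ya17 za16) (ka xa32 ya12 za12) (ka xa32 ya48 za34) (ka xa32 ya4 za18) (ka xa32 ya51 za8) (ka xa30 ya39 za5) (ka xa32 ya52 za55) (ka xa30 ya48 za36) (ka xa31 ya29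 za15) (ka xa32 ya55 za1) (ka xa28 ya49 za15) (ka xa32 ya56 za43) (ka xa32 ya16 za51) (ka xa28 ya48 za45) (ka xa32 ya19 za56) (ka xa24 ya30 za21) (ka xa30 ya14 za46) (ka xa32 ya45 za11) (ka xa29 ya1 za33) (ka xa26 ya27 za48) (ka xa30 ya31 za7) (ka xa30 ya31 za8) (ka xa31 ya17 za49) (ka xa31 ya2 za50) (ka xa30 ya19 za48) (ka xa32 ya49 za30) (ka xa24 ya42 za47) (ka xa24 ya30 za59) (ka xa29 ya6 za6) (ka xa28 ya12 za13) (ka xa24 ya31 za13) (ka xa25 ya59 za46) (ka xa30 ya54 za35) (ka xa25 ya58 za15) (ka xa30 ya39 za58) (ka xa24 ya31 za36) (ka xa24 ya31 za38) (ka xa32 ya55 za15) (ka xa32 ya31 za6) (ka xa24 ya31 za34) (ka xa32 ya5 za57) (ka xa32 ya5 za56) (ka xa32 ya55 za16) (ka xa27 ya25 za47)) (@D3.rec (fun _ => Pt) (ka xa27 ya28 za48) (ka xa32 ya5 za39) (ka xa30 ya58 za1) (ka xa32 ya5 za37) (ka xa30 ya57 za55) (ka xa30 ya58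 za2) (ka xa32 ya49 za50) (ka xa31 ya34 za56) (ka xa26 ya8 za19) (ka xa32 ya11 za33) (ka xa29 ya34 za12) (ka xa31 ya34 za59) (ka xa29 ya33 za57) (ka xa31 ya50 za23) (ka xa24 ya34 za24) (ka xa31 ya12 za29) (ka xa27 ya27 za16) (ka xa30 ya0 za18) (ka xa27 ya38 za22) (ka xa29 ya4 za61) (ka xa25 ya45 za12) (ka xa29 ya27 za27) (ka xa29 ya27 za25) (ka xa24 ya50 za21) (ka xa24 ya49 za50) (ka xa28 ya36 za59) (ka xa31 ya34 za41) (ka xa30 ya27 za15) (ka xa29 ya27 za16) (ka xa29 ya50 za5) (ka xa29 ya33 za56) (ka xa31 ya35 za50) (ka xa32 ya5 za16) (ka xa26 ya42 za10) (ka xa32 ya39 za10) (ka xa32 ya54 za23) (ka xa32 ya5 za20) (ka xa24 ya33 za51) (ka xa25 ya17 za38) (ka xa25 ya25 za23) (ka xa32 ya41 za60) (ka xa31 ya34 za26) (ka xa31 ya52 za1) (ka xa32 ya41 za22) (ka xa26 ya1 za27) (ka xa26 ya11 za5) (ka xa29 ya3 za48) (ka xa29 ya53 za26)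 (ka xa32 ya55 za29) (ka xa30 ya46 za15) (ka xa27 ya9 za57) (ka xa30 ya14 za15) (ka xa26 ya11 za8) (ka xa30 ya46 za14) (ka xa25 ya43 za50) (ka xa32 ya18 za51) (ka xa31 ya34 za7) (ka xa31 ya32 za22) (ka xa28 ya40 za4) (ka xa31 ya34 za11) (ka xa26 ya37 za26) (ka xa29 ya31 za29)) (@D3.rec (fun _ => Pt) (ka xa29 ya31 za30) (ka xa32 ya3 za59) (ka xa32 ya34 za22) (ka xa25 ya8 za58) (ka xa29 ya31 za35) (ka xa24 ya36 za52) (ka xa24 ya36 za60) (ka xa24 ya36 za61) (ka xa24 ya35 za28) (ka xa25 ya6 za11) (ka xa24 ya37 za3) (ka xa24 ya37 za5) (ka xa24 ya37 za25) (ka xa24 ya37 za29) (ka xa24 ya37 za40) (ka xa25 ya9 za12) (ka xa24 ya38 za22) (ka xa24 ya38 za23) (ka xa31 ya29 za37) (ka xa28 ya58 za52) (ka xa29 ya18 za2) (ka xa27 ya28 za35) (ka xa26 ya14 za14) (ka xa27 ya25 za46) (ka xa28 ya55 za31) (ka xa25 ya40 za33) (ka xa25 ya40 za30)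 (ka xa26 ya43 za51) (ka xa24 ya36 za27) (ka xa26 ya51 za59) (ka xa32 ya22 za23) (ka xa30 ya16 za49) (ka xa29 ya17 za46) (ka xa29 ya15 za60) (ka xa31 ya35 za41) (ka xa29 ya23 za1) (ka xa25 ya37 za42) (ka xa27 ya30 za23) (ka xa27 ya15 za56) (ka xa31 ya31 za58) (ka xa30 ya6 za34) (ka xa31 ya35 za34) (ka xa31 ya10 za54) (ka xa30 ya50 za26) (ka xa29 ya50 za59) (ka xa31 ya56 za37) (ka xa25 ya35 za33) (ka xa25 ya35 za34) (ka xa28 ya54 za21) (ka xa31 ya29 za1) (ka xa31 ya34 za31) (ka xa28 ya54 za18) (ka xa31 ya36 za20) (ka xa24 ya37 za11) (ka xa32 ya42 za18) (ka xa31 ya36 za16) (ka xa31 ya36 za13) (ka xa31 ya36 za12) (ka xa24 ya37 za13) (ka xa25 ya46 za36) (ka xa28 ya59 za58) (ka xa29 ya42 za0)) (@D3.rec (fun _ => Pt) (ka xa31 ya36 za29) (ka xa29 ya42 za1) (ka xa31 ya49 za49) (ka xa25 ya30 za9) (ka xa28 ya38 za0) (ka xa24 ya37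 za30) (ka xa29 ya41 za52) (ka xa27 ya18 za55) (ka xa29 ya17 za10) (ka xa31 ya28 za49) (ka xa29 ya16 za61) (ka xa32 ya42 za53) (ka xa31 ya35 za57) (ka xa31 ya35 za56) (ka xa24 ya37 za61) (ka xa29 ya4 za50) (ka xa31 ya35 za55) (ka xa25 ya49 za45) (ka xa32 ya55 za45) (ka xa30 ya46 za18) (ka xa31 ya35 za52) (ka xa24 ya38 za4) (ka xa28 ya12 za24) (ka xa25 ya1 za19) (ka xa30 ya4 za56) (ka xa29 ya13 za51) (ka xa32 ya4 za38) (ka xa25 ya59 za60) (ka xa25 ya58 za45) (ka xa31 ya36 za0) (ka xa26 ya8 za13) (ka xa31 ya29 za35) (ka xa31 ya52 za9) (ka xa31 ya28 za58) (ka xa31 ya37 za50) (ka xa29 ya56 za58) (ka xa28 ya53 za19) (ka xa31 ya54 za25) (ka xa27 ya14 za12) (ka xa31 ya54 za0) (ka xa25 ya30 za42) (ka xa30 ya47 za45) (ka xa29 ya3 za30) (ka xa25 ya50 za53) (ka xa29 ya35 za28) (ka xa25 ya31 za16) (ka xa30 ya26 za7) (ka xa31 ya13 za2)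 (ka xa29 ya23 za20) (ka xa28 ya34 za34) (ka xa28 ya34 za37) (ka xa28 ya43 za39) (ka xa29 ya0 za33) (ka xa28 ya45 za18) (ka xa24 ya50 za57) (ka xa28 ya45 za22) (ka xa24 ya50 za22) (ka xa31 ya40 za23) (ka xa31 ya17 za7) (ka xa30 ya56 za31) (ka xa32 ya23 za30) (ka xa24 ya40 za2)) (@D3.rec (fun _ => Pt) (ka xa30 ya42 za13) (ka xa30 ya40 za46) (ka xa29 ya58 za34) (ka xa31 ya49 za32) (ka xa25 ya53 za43) (ka xa32 ya22 za10) (ka xa27 ya42 za46) (ka xa27 ya42 za45) (ka xa27 ya26 za14) (ka xa24 ya40 za17) (ka xa32 ya42 za58) (ka xa32 ya9 za53) (ka xa28 ya16 za32) (ka xa28 ya18 za56) (ka xa32 ya33 za40) (ka xa30 ya37 za51) (ka xa30 ya37 za52) (ka xa24 ya43 za58) (ka xa24 ya40 za60) (ka xa27 ya25 za45) (ka xa27 ya25 za44) (ka xa27 ya45 za50) (ka xa27 ya6 za13) (ka xa30 ya6 za20) (ka xa30 ya16 za59) (ka xa27 ya20 za42) (ka xa31 ya1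 za42) (ka xa24 ya41 za44) (ka xa26 ya42 za1) (ka xa30 ya13 za11) (ka xa28 ya58 za50) (ka xa31 ya1 za44) (ka xa31 ya1 za46) (ka xa29 ya16 za55) (ka xa29 ya52 za6) (ka xa24 ya43 za55) (ka xa24 ya42 za8) (ka xa31 ya38 za1) (ka xa31 ya38 za2) (ka xa30 ya7 za56) (ka xa30 ya4 za5) (ka xa30 ya4 za6) (ka xa31 ya38 za4) (ka xa31 ya38 za3) (ka xa24 ya42 za16) (ka xa29 ya11 za32) (ka xa31 ya2 za54) (ka xa29 ya10 za15) (ka xa24 ya42 za33) (ka xa31 ya58 za19) (ka xa31 ya36 za34) (ka xa31 ya9 za4) (ka xa30 ya16 za46) (ka xa31 ya1 za58) (ka xa26 ya41 za39) (ka xa29 ya17 za16) (ka xa24 ya43 za11) (ka xa26 ya12 za30) (ka xa31 ya0 za57) (ka xa29 ya31 za50) (ka xa30 ya10 za13) (ka xa26 ya0 za2)) (@D3.rec (fun _ => Pt) (ka xa30 ya6 za6) (ka xa31 ya37 za37) (ka xa31 ya37 za38) (ka xa31 ya37 za43) (ka xa31 ya37 za42) (ka xa25 ya44 za1) (ka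 xa30 ya33 za14) (ka xa27 ya31 za41) (ka xa28 ya8 za58) (ka xa32 ya32 za60) (ka xa27 ya7 za23) (ka xa26 ya12 za11) (ka xa27 ya27 za56) (ka xa26 ya12 za13) (ka xa26 ya12 za33) (ka xa24 ya44 za53) (ka xa32 ya7 za50) (ka xa26 ya13 za43) (ka xa26 ya13 za44) (ka xa27 ya36 za21) (ka xa27 ya27 za22) (ka xa26 ya15 za8) (ka xa27 ya48 za5) (ka xa24 ya45 za24) (ka xa26 ya15 za2) (ka xa26 ya14 za28) (ka xa31 ya55 za50) (ka xa24 ya45 za30) (ka xa24 ya45 za31) (ka xa24 ya45 za35) (ka xa31 ya42 za40) (ka xa26 ya16 za30) (ka xa26 ya16 za33) (ka xa26 ya16 za40) (ka xa25 ya15 za33) (ka xa25 ya28 za31) (ka xa25 ya28 za30) (ka xa24 ya55 za53) (ka xa26 ya17 za49) (ka xa26 ya17 za51) (ka xa32 ya22 za3) (ka xa26 ya17 za56) (ka xa26 ya17 za57) (ka xa25 ya27 za42) (ka xa24 ya45 za58) (ka xa26 ya18 za54) (ka xa26 ya18 za55) (ka xa28 ya14 za43) (ka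 xa31 ya16 za3) (ka xa31 ya13 za33) (ka xa28 ya18 za55) (ka xa28 ya28 za18) (ka xa26 ya11 za9) (ka xa25 ya32 za19) (ka xa28 ya51 za18) (ka xa28 ya55 za48) (ka xa28 ya38 za20) (ka xa28 ya39 za13) (ka xa32 ya34 za52) (ka xa26 ya20 za32) (ka xa28 ya28 za5) (ka xa26 ya20 za58)) (@D3.rec (fun _ => Pt) (ka xa26 ya20 za53) (ka xa26 ya21 za20) (ka xa31 ya32 za49) (ka xa26 ya9 za31) (ka xa25 ya52 za6) (ka xa24 ya47 za38) (ka xa29 ya23 za61) (ka xa25 ya32 za24) (ka xa32 ya19 za57) (ka xa28 ya39 za18) (ka xa32 ya46 za39) (ka xa28 ya3 za12) (ka xa28 ya3 za19) (ka xa24 ya47 za59) (ka xa30 ya43 za31) (ka xa28 ya31 za58) (ka xa24 ya48 za3) (ka xa24 ya48 za4) (ka xa31 ya1 za4) (ka xa31 ya43 za14) (ka xa27 ya39 za59) (ka xa27 ya55 za35) (ka xa31 ya15 za32) (ka xa28 ya16 za56) (ka xa32 ya26 za9) (ka xa24 ya48 za16) (ka xa31 ya53 za28) (ka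 xa28 ya31 za52) (ka xa32 ya10 za1) (ka xa26 ya29 za14) (ka xa25 ya3 za52) (ka xa32 ya29 za61) (ka xa31 ya50 za26) (ka xa28 ya22 za55) (ka xa24 ya48 za29) (ka xa30 ya48 za6) (ka xa24 ya50 za9) (ka xa32 ya18 za3) (ka xa24 ya49 za56) (ka xa29 ya17 za54) (ka xa32 ya41 za50) (ka xa24 ya50 za20) (ka xa24 ya50 za24) (ka xa24 ya50 za25) (ka xa24 ya48 za45) (ka xa29 ya41 za37) (ka xa24 ya51 za0) (ka xa24 ya49 za1) (ka xa24 ya48 za55) (ka xa31 ya40 za57) (ka xa32 ya41 za52) (ka xa25 ya4 za45) (ka xa31 ya17 za11) (ka xa32 ya12 za59) (ka xa25 ya4 za46) (ka xa31 ya40 za56) (ka xa24 ya52 za7) (ka xa24 ya49 za8) (ka xa28 ya39 za60) (ka xa32 ya11 za59) (ka xa31 ya57 za43) (ka xa28 ya58 za35)) (@D3.rec (fun _ => Pt) (ka xa32 ya24 za25) (ka xa26 ya6 za20) (ka xa26 ya6 za21) (ka xa26 ya6 za19) (ka xa31 ya41 za22) (ka xa26 ya6 za17) (ka xa31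 ya47 za52) (ka xa26 ya6 za11) (ka xa32 ya11 za38) (ka xa26 ya6 za14) (ka xa24 ya49 za29) (ka xa32 ya57 za40) (ka xa31 ya40 za43) (ka xa32 ya52 za38) (ka xa32 ya57 za41) (ka xa31 ya41 za13) (ka xa25 ya21 za4) (ka xa29 ya8 za2) (ka xa25 ya21 za2) (ka xa24 ya49 za36) (ka xa32 ya0 za57) (ka xa25 ya19 za58) (ka xa29 ya13 za41) (ka xa31 ya36 za57) (ka xa28 ya51 za28) (ka xa28 ya51 za29) (ka xa26 ya35 za21) (ka xa26 ya6 za10) (ka xa30 ya34 za27) (ka xa29 ya5 za52) (ka xa24 ya49 za44) (ka xa24 ya49 za46) (ka xa32 ya27 za17) (ka xa31 ya52 za0) (ka xa31 ya52 za29) (ka xa26 ya54 za24) (ka xa26 ya54 za25) (ka xa31 ya52 za3) (ka xa29 ya14 za13) (ka xa26 ya46 za59) (ka xa25 ya29 za5) (ka xa25 ya29 za7) (ka xa31 ya32 za14) (ka xa31 ya40 za12) (ka xa26 ya6 za13) (ka xa31 ya51 za9) (ka xa24 ya50 za16) (ka xa24 ya50 za17) (ka xa25 ya11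 za20) (ka xa25 ya22 za20) (ka xa25 ya22 za39) (ka xa25 ya22 za31) (ka xa29 ya47 za15) (ka xa32 ya11 za3) (ka xa29 ya2 za39) (ka xa28 ya31 za38) (ka xa31 ya39 za55) (ka xa31 ya39 za49) (ka xa31 ya20 za48) (ka xa31 ya51 za2) (ka xa31 ya22 za1) (ka xa27 ya29 za33)) (@D3.rec (fun _ => Pt) (ka xa32 ya15 za32) (ka xa31 ya28 za17) (ka xa31 ya29 za8) (ka xa32 ya24 za26) (ka xa32 ya43 za23) (ka xa26 ya48 za38) (ka xa25 ya47 za52) (ka xa24 ya50 za33) (ka xa31 ya51 za22) (ka xa31 ya51 za21) (ka xa26 ya37 za55) (ka xa27 ya37 za2) (ka xa29 ya11 za20) (ka xa31 ya40 za15) (ka xa29 ya11 za18) (ka xa29 ya13 za13) (ka xa31 ya41 za51) (ka xa32 ya42 za6) (ka xa31 ya50 za42) (ka xa30 ya0 za4) (ka xa29 ya13 za18) (ka xa24 ya51 za21) (ka xa31 ya40 za4) (ka xa25 ya33 za43) (ka xa31 ya21 za9) (ka xa24 ya51 za57) (ka xa24 ya51 za58) (ka xa27 ya22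 za49) (ka xa32 ya25 za17) (ka xa24 ya52 za14) (ka xa32 ya12 za57) (ka xa24 ya51 za38) (ka xa24 ya51 za40) (ka xa24 ya51 za41) (ka xa24 ya51 za42) (ka xa31 ya50 za54) (ka xa28 ya55 za21) (ka xa29 ya0 za56) (ka xa32 ya27 za22) (ka xa29 ya43 za39) (ka xa31 ya24 za0) (ka xa31 ya21 za34) (ka xa31 ya28 za15) (ka xa31 ya48 za27) (ka xa31 ya48 za28) (ka xa28 ya45 za12) (ka xa31 ya51 za59) (ka xa31 ya47 za46) (ka xa25 ya12 za61) (ka xa32 ya46 za12) (ka xa31 ya11 za59) (ka xa31 ya41 za16) (ka xa27 ya12 za8) (ka xa29 ya5 za61) (ka xa31 ya47 za47) (ka xa28 ya59 za44) (ka xa32 ya16 za23) (ka xa28 ya31 za30) (ka xa27 ya25 za3) (ka xa31 ya57 za14) (ka xa29 ya17 za35) (ka xa31 ya59 za22)) (@D3.rec (fun _ => Pt) (ka xa26 ya22 za29) (ka xa31 ya47 za41) (ka xa30 ya54 za42) (ka xa29 ya18 za40) (ka xa26 ya56 za33) (ka xa27 ya0 za39) (ka xa27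 ya52 za33) (ka xa24 ya53 za45) (ka xa28 ya3 za16) (ka xa29 ya15 za44) (ka xa31 ya27 za43) (ka xa28 ya8 za24) (ka xa31 ya27 za46) (ka xa31 ya27 za49) (ka xa31 ya27 za51) (ka xa29 ya5 za8) (ka xa32 ya1 za46) (ka xa29 ya18 za35) (ka xa32 ya2 za48) (ka xa28 ya46 za51) (ka xa31 ya42 za49) (ka xa31 ya42 za52) (ka xa31 ya15 za25) (ka xa30 ya35 za49) (ka xa32 ya26 za48) (ka xa31 ya43 za16) (ka xa30 ya2 za54) (ka xa27 ya41 za43) (ka xa30 ya2 za43) (ka xa31 ya43 za31) (ka xa32 ya49 za34) (ka xa30 ya44 za33) (ka xa27 ya50 za24) (ka xa27 ya58 za48) (ka xa29 ya31 za60) (ka xa31 ya43 za34) (ka xa32 ya6 za46) (ka xa31 ya0 za23) (ka xa28 ya25 za42) (ka xa32 ya6 za23) (ka xa31 ya38 za30) (ka xa24 ya55 za2) (ka xa24 ya55 za3) (ka xa31 ya44 za43) (ka xa30 ya4 za15) (ka xa32 ya10 za23) (ka xa24 ya55 za12) (ka xa24 ya55 za13) (ka xa24 ya55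 za14) (ka xa31 ya42 za20) (ka xa32 ya6 za24) (ka xa29 ya18 za29) (ka xa31 ya42 za21) (ka xa29 ya19 za45) (ka xa32 ya6 za26) (ka xa32 ya44 za3) (ka xa32 ya31 za41) (ka xa27 ya31 za23) (ka xa27 ya31 za24) (ka xa24 ya55 za49) (ka xa27 ya31 za27) (ka xa27 ya25 za55)) (@D3.rec (fun _ => Pt) (ka xa31 ya43 za6) (ka xa31 ya43 za5) (ka xa26 ya18 za46) (ka xa24 ya56 za6) (ka xa24 ya56 za1) (ka xa31 ya43 za1) (ka xa31 ya43 za0) (ka xa32 ya27 za56) (ka xa25 ya2 za21) (ka xa27 ya27 za32) (ka xa25 ya15 za51) (ka xa27 ya26 za45) (ka xa27 ya31 za15) (ka xa27 ya38 za47) (ka xa31 ya39 za19) (ka xa29 ya20 za8) (ka xa31 ya42 za25) (ka xa26 ya25 za21) (ka xa30 ya56 za58) (ka xa29 ya39 za33) (ka xa29 ya36 za47) (ka xa29 ya19 za2) (ka xa31 ya22 za53) (ka xa28 ya34 za36) (ka xa30 ya49 za30) (ka xa32 ya44 za26) (ka xa24 ya57 za14) (ka xa32 ya52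 za58) (ka xa24 ya57 za25) (ka xa29 ya3 za12) (ka xa30 ya11 za33) (ka xa31 ya42 za29) (ka xa24 ya57 za31) (ka xa24 ya57 za37) (ka xa31 ya42 za35) (ka xa32 ya6 za5) (ka xa27 ya50 za23) (ka xa25 ya6 za23) (ka xa25 ya6 za24) (ka xa24 ya57 za60) (ka xa31 ya59 za34) (ka xa25 ya6 za59) (ka xa24 ya58 za2) (ka xa25 ya6 za46) (ka xa29 ya59 za8) (ka xa24 ya58 za0) (ka xa25 ya52 za29) (ka xa25 ya50 za15) (ka xa31 ya47 za54) (ka xa32 ya0 za40) (ka xa25 ya10 za28) (ka xa25 ya10 za25) (ka xa24 ya58 za22) (ka xa31 ya48 za55) (ka xa31 ya26 za56) (ka xa31 ya48 za3) (ka xa28 ya59 za31) (ka xa25 ya11 za44) (ka xa28 ya2 za17) (ka xa25 ya15 za52) (ka xa28 ya13 za37) (ka xa27 ya30 za36)) (@D3.rec (fun _ => Pt) (ka xa24 ya59 za5) (ka xa27 ya29 za56) (ka xa28 ya2 za15) (ka xa28 ya27 za12) (ka xa31 ya0 za55) (ka xa29 ya28 za34) (ka xa29 ya28 za35)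 (ka xa28 ya20 za43) (ka xa29 ya28 za31) (ka xa31 ya44 za54) (ka xa30 ya57 za18) (ka xa30 ya55 za15) (ka xa26 ya57 za40) (ka xa30 ya48 za20) (ka xa27 ya52 za55) (ka xa26 ya15 za39) (ka xa32 ya7 za30) (ka xa25 ya0 za23) (ka xa28 ya2 za11) (ka xa28 ya2 za12) (ka xa28 ya2 za8) (ka xa28 ya2 za9) (ka xa30 ya37 za39) (ka xa32 ya57 za24) (ka xa28 ya2 za34) (ka xa27 ya27 za8) (ka xa27 ya25 za4) (ka xa28 ya3 za33) (ka xa28 ya3 za15) (ka xa26 ya29 za50) (ka xa28 ya3 za17) (ka xa28 ya3 za18) (ka xa32 ya26 za34) (ka xa28 ya3 za27) (ka xa27 ya30 za2) (ka xa25 ya1 za12) (ka xa28 ya4 za13) (ka xa28 ya4 za14) (ka xa27 ya24 za57) (ka xa28 ya4 za15) (ka xa27 ya28 za59) (ka xa26 ya10 za60) (ka xa27 ya49 za39) (ka xa31 ya42 za43) (ka xa28 ya15 za32) (ka xa25 ya1 za47) (ka xa31 ya0 za51) (ka xa32 ya3 za42) (ka xa30 ya51 za1) (ka xa27 ya58 za52)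 (ka xa29 ya29 za54) (ka xa28 ya12 za34) (ka xa30 ya57 za54) (ka xa30 ya58 za6) (ka xa31 ya44 za9) (ka xa25 ya2 za28) (ka xa28 ya24 za46) (ka xa25 ya2 za16) (ka xa27 ya48 za30) (ka xa29 ya51 za40) (ka xa27 ya18 za10) (ka xa29 ya51 za43)) (@D3.rec (fun _ => Pt) (ka xa30 ya51 za58) (ka xa25 ya16 za23) (ka xa27 ya46 za47) (ka xa25 ya15 za55) (ka xa30 ya57 za48) (ka xa28 ya4 za6) (ka xa32 ya31 za4) (ka xa25 ya3 za2) (ka xa25 ya3 za4) (ka xa27 ya46 za0) (ka xa27 ya34 za32) (ka xa27 ya56 za8) (ka xa27 ya26 za26) (ka xa27 ya47 za30) (ka xa32 ya31 za16) (ka xa32 ya31 za22) (ka xa32 ya32 za27) (ka xa32 ya32 za26) (ka xa31 ya15 za7) (ka xa30 ya24 za52) (ka xa30 ya14 za22) (ka xa29 ya56 za32) (ka xa32 ya49 za29) (ka xa26 ya16 za52) (ka xa30 ya15 za3) (ka xa26 ya42 za6) (ka xa26 ya44 za34) (ka xa29 ya42 za6) (ka xa26 ya44 za40) (ka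 xa25 ya4 za31) (ka xa31 ya48 za53) (ka xa25 ya24 za56) (ka xa29 ya24 za21) (ka xa31 ya54 za33) (ka xa28 ya58 za49) (ka xa28 ya47 za2) (ka xa27 ya43 za50) (ka xa27 ya43 za51) (ka xa25 ya10 za14) (ka xa25 ya43 za56) (ka xa28 ya44 za48) (ka xa28 ya49 za21) (ka xa29 ya59 za3) (ka xa29 ya47 za60) (ka xa29 ya14 za7) (ka xa25 ya50 za16) (ka xa25 ya50 za17) (ka xa26 ya44 za38) (ka xa29 ya5 za21) (ka xa32 ya0 za17) (ka xa30 ya6 za25) (ka xa25 ya5 za33) (ka xa25 ya5 za34) (ka xa28 ya16 za53) (ka xa32 ya25 za32) (ka xa31 ya32 za1) (ka xa25 ya33 za26) (ka xa25 ya11 za5) (ka xa26 ya46 za42) (ka xa29 ya12 za46) (ka xa27 ya19 za24) (ka xa25 ya22 za19)) (@D3.rec (fun _ => Pt) (ka xa25 ya22 za22) (ka xa29 ya49 za30) (ka xa31 ya47 za55) (ka xa31 ya51 za8) (ka xa25 ya30 za21) (ka xa30 ya20 za19) (ka xa25 ya54 za35) (ka xa32 ya24 za47) (ka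 xa32 ya24 za38) (ka xa31 ya58 za21) (ka xa32 ya24 za39) (ka xa32 ya7 za9) (ka xa31 ya53 za6) (ka xa31 ya53 za8) (ka xa32 ya42 za24) (ka xa25 ya8 za38) (ka xa30 ya10 za2) (ka xa29 ya16 za24) (ka xa32 ya24 za46) (ka xa31 ya50 za18) (ka xa25 ya6 za41) (ka xa32 ya55 za3) (ka xa30 ya33 za5) (ka xa29 ya16 za11) (ka xa26 ya30 za32) (ka xa28 ya32 za8) (ka xa29 ya12 za51) (ka xa29 ya12 za53) (ka xa29 ya12 za48) (ka xa29 ya12 za49) (ka xa25 ya28 za25) (ka xa25 ya28 za19) (ka xa32 ya0 za0) (ka xa32 ya0 za1) (ka xa31 ya1 za16) (ka xa27 ya5 za2) (ka xa28 ya27 za38) (ka xa27 ya10 za60) (ka xa29 ya12 za33) (ka xa29 ya12 za34) (ka xa25 ya30 za1) (ka xa25 ya7 za18) (ka xa31 ya32 za3) (ka xa31 ya32 za2) (ka xa29 ya44 za28) (ka xa27 ya24 za32) (ka xa32 ya23 za45) (ka xa31 ya54 za11) (ka xa31 ya53 za0) (ka xa31 ya53 za2) (ka xa31 ya53 za3)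 (ka xa31 ya53 za4) (ka xa31 ya53 za5) (ka xa30 ya8 za47) (ka xa25 ya14 za16) (ka xa26 ya34 za42) (ka xa26 ya36 za58) (ka xa26 ya37 za7) (ka xa27 ya0 za38) (ka xa29 ya45 za60) (ka xa32 ya10 za30) (ka xa26 ya35 za57)) (@D3.rec (fun _ => Pt) (ka xa26 ya35 za60) (ka xa26 ya35 za61) (ka xa26 ya36 za0) (ka xa26 ya36 za1) (ka xa26 ya36 za2) (ka xa26 ya36 za24) (ka xa26 ya36 za25) (ka xa25 ya8 za23) (ka xa29 ya16 za41) (ka xa25 ya33 za38) (ka xa32 ya0 za6) (ka xa32 ya21 za38) (ka xa30 ya10 za8) (ka xa29 ya12 za61) (ka xa29 ya16 za45) (ka xa29 ya16 za9) (ka xa29 ya16 za34) (ka xa25 ya8 za39) (ka xa32 ya0 za9) (ka xa32 ya48 za8) (ka xa29 ya16 za37) (ka xa31 ya26 za36) (ka xa32 ya49 za51) (ka xa32 ya23 za56) (ka xa31 ya4 za7) (ka xa29 ya13 za46) (ka xa29 ya13 za47) (ka xa29 ya15 za49) (ka xa29 ya15 za50) (ka xa29 ya16 za20) (ka xa32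 ya3 za58) (ka xa25 ya8 za47) (ka xa32 ya4 za5) (ka xa32 ya4 za1) (ka xa32 ya4 za2) (ka xa32 ya4 za3) (ka xa32 ya34 za23) (ka xa30 ya26 za51) (ka xa31 ya49 za4) (ka xa32 ya21 za46) (ka xa32 ya55 za6) (ka xa31 ya42 za1) (ka xa25 ya14 za47) (ka xa31 ya52 za13) (ka xa31 ya56 za57) (ka xa25 ya9 za21) (ka xa31 ya41 za47) (ka xa31 ya41 za54) (ka xa29 ya35 za61) (ka xa25 ya33 za30) (ka xa29 ya32 za45) (ka xa29 ya41 za25) (ka xa31 ya40 za6) (ka xa29 ya7 za22) (ka xa31 ya43 za48) (ka xa31 ya46 za2) (ka xa32 ya19 za55) (ka xa29 ya44 za49) (ka xa25 ya30 za22) (ka xa32 ya15 za54) (ka xa31 ya48 za0) (ka xa31 ya56 za3)) (@D3.rec (fun _ => Pt) (ka xa31 ya47 za60) (ka xa32 ya25 za20) (ka xa32 ya25 za21) (ka xa31 ya43 za55) (ka xa26 ya1 za50) (ka xa32 ya33 za38) (ka xa26 ya46 za10) (ka xa26 ya38 za15) (ka xa25 ya51 za11) (ka xa25 ya10 za31)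 (ka xa25 ya10 za36) (ka xa25 ya10 za37) (ka xa25 ya51 za10) (ka xa25 ya10 za38) (ka xa32 ya24 za24) (ka xa25 ya37 za58) (ka xa25 ya10 za41) (ka xa32 ya25 za0) (ka xa32 ya50 za25) (ka xa25 ya10 za59) (ka xa26 ya17 za8) (ka xa25 ya11 za7) (ka xa25 ya21 za31) (ka xa31 ya55 za60) (ka xa32 ya47 za18) (ka xa32 ya56 za48) (ka xa30 ya14 za42) (ka xa31 ya41 za43) (ka xa31 ya41 za44) (ka xa32 ya13 za8) (ka xa29 ya13 za28) (ka xa31 ya53 za14) (ka xa25 ya11 za30) (ka xa25 ya48 za3) (ka xa30 ya56 za33) (ka xa31 ya28 za51) (ka xa31 ya31 za26) (ka xa25 ya11 za34) (ka xa28 ya8 za52) (ka xa25 ya11 za37) (ka xa31 ya50 za31) (ka xa32 ya0 za18) (ka xa32 ya21 za55) (ka xa30 ya27 za42) (ka xa32 ya0 za15) (ka xa28 ya41 za60) (ka xa25 ya13 za30) (ka xa26 ya7 za1) (ka xa31 ya32 za26) (ka xa26 ya44 za21) (ka xa29 ya4 za13) (ka xa32 ya0 za13) (ka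 xa25 ya22 za56) (ka xa31 ya45 za30) (ka xa25 ya12 za40) (ka xa31 ya43 za53) (ka xa29 ya26 za28) (ka xa25 ya49 za9) (ka xa29 ya6 za56) (ka xa28 ya24 za1) (ka xa29 ya6 za61) (ka xa30 ya24 za20)) (@D3.rec (fun _ => Pt) (ka xa25 ya49 za24) (ka xa25 ya33 za23) (ka xa27 ya19 za47) (ka xa27 ya18 za42) (ka xa31 ya47 za38) (ka xa27 ya18 za4) (ka xa30 ya6 za32) (ka xa30 ya16 za47) (ka xa30 ya16 za45) (ka xa25 ya55 za45) (ka xa27 ya20 za4) (ka xa25 ya13 za53) (ka xa25 ya13 za54) (ka xa25 ya13 za55) (ka xa25 ya13 za56) (ka xa30 ya54 za61) (ka xa32 ya47 za1) (ka xa28 ya42 za1) (ka xa28 ya21 za50) (ka xa25 ya49 za2) (ka xa30 ya33 za8) (ka xa29 ya16 za6) (ka xa25 ya50 za49) (ka xa25 ya14 za8) (ka xa25 ya14 za9) (ka xa28 ya37 za36) (ka xa31 ya5 za35) (ka xa31 ya16 za53) (ka xa29 ya4 za46) (ka xa32 ya25 za60) (ka xa29 ya15 za54) (ka xa25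 ya14 za20) (ka xa31 ya37 za3) (ka xa27 ya6 za17) (ka xa31 ya53 za9) (ka xa30 ya58 za40) (ka xa28 ya13 za31) (ka xa28 ya13 za35) (ka xa30 ya40 za60) (ka xa29 ya16 za17) (ka xa32 ya42 za32) (ka xa31 ya18 za29) (ka xa31 ya10 za11) (ka xa31 ya18 za30) (ka xa25 ya14 za56) (ka xa32 ya0 za26) (ka xa32 ya22 za25) (ka xa32 ya36 za56) (ka xa29 ya47 za52) (ka xa31 ya36 za2) (ka xa28 ya59 za60) (ka xa25 ya15 za5) (ka xa29 ya16 za54) (ka xa25 ya15 za7) (ka xa27 ya21 za46) (ka xa25 ya15 za23) (ka xa25 ya15 za24) (ka xa27 ya46 za52) (ka xa32 ya35 za44) (ka xa32 ya44 za29) (ka xa29 ya17 za27) (ka xa25 ya45 za21)) (@D3.rec (fun _ => Pt) (ka xa31 ya57 za53) (ka xa32 ya34 za53) (ka xa31 ya59 za32) (ka xa27 ya51 za20) (ka xa30 ya17 za53) (ka xa28 ya48 za22) (ka xa25 ya17 za1) (ka xa30 ya0 za48) (ka xa31 ya58 za39) (ka xa29 ya29 za40) (ka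 xa25 ya31 za11) (ka xa28 ya15 za50) (ka xa30 ya7 za10) (ka xa29 ya42 za57) (ka xa29 ya42 za56) (ka xa29 ya27 za21) (ka xa29 ya14 za20) (ka xa31 ya16 za25) (ka xa31 ya46 za19) (ka xa27 ya45 za22) (ka xa25 ya18 za2) (ka xa32 ya46 za61) (ka xa27 ya47 za53) (ka xa31 ya34 za13) (ka xa29 ya29 za3) (ka xa29 ya29 za5) (ka xa31 ya39 za32) (ka xa29 ya28 za6) (ka xa31 ya6 za44) (ka xa29 ya4 za42) (ka xa32 ya0 za35) (ka xa31 ya48 za40) (ka xa26 ya45 za9) (ka xa32 ya43 za61) (ka xa28 ya33 za54) (ka xa25 ya51 za38) (ka xa30 ya14 za30) (ka xa29 ya22 za59) (ka xa30 ya0 za9) (ka xa25 ya20 za4) (ka xa25 ya20 za28) (ka xa25 ya19 za15) (ka xa31 ya41 za18) (ka xa32 ya2 za17) (ka xa32 ya20 za45) (ka xa25 ya20 za57) (ka xa25 ya20 za58) (ka xa32 ya5 za17) (ka xa25 ya20 za60) (ka xa25 ya21 za3) (ka xa25 ya19 za22) (ka xa26 ya9 za59) (ka xa25 ya19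 za30) (ka xa32 ya32 za8) (ka xa31 ya41 za35) (ka xa31 ya20 za49) (ka xa30 ya0 za5) (ka xa25 ya22 za34) (ka xa29 ya47 za4) (ka xa31 ya51 za35) (ka xa29 ya4 za0) (ka xa26 ya35 za29)) (@D3.rec (fun _ => Pt) (ka xa26 ya40 za6) (ka xa31 ya52 za49) (ka xa31 ya40 za59) (ka xa32 ya40 za52) (ka xa25 ya20 za6) (ka xa28 ya55 za16) (ka xa25 ya20 za16) (ka xa28 ya7 za52) (ka xa31 ya46 za3) (ka xa31 ya40 za45) (ka xa30 ya12 za24) (ka xa31 ya21 za31) (ka xa32 ya47 za19) (ka xa32 ya10 za61) (ka xa32 ya39 za39) (ka xa25 ya20 za29) (ka xa32 ya35 za46) (ka xa31 ya52 za18) (ka xa30 ya18 za9) (ka xa25 ya52 za28) (ka xa25 ya20 za41) (ka xa31 ya41 za9) (ka xa31 ya41 za8) (ka xa31 ya28 za35) (ka xa25 ya20 za50) (ka xa25 ya20 za51) (ka xa25 ya20 za52) (ka xa25 ya20 za61) (ka xa32 ya5 za18) (ka xa28 ya33 za32) (ka xa32 ya38 za36) (ka xa32 ya58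 za13) (ka xa32 ya56 za12) (ka xa28 ya43 za24) (ka xa32 ya33 za60) (ka xa31 ya50 za59) (ka xa29 ya2 za47) (ka xa32 ya38 za34) (ka xa32 ya47 za35) (ka xa31 ya31 za48) (ka xa32 ya47 za36) (ka xa32 ya57 za46) (ka xa32 ya51 za44) (ka xa32 ya53 za56) (ka xa32 ya58 za9) (ka xa31 ya52 za25) (ka xa32 ya57 za43) (ka xa32 ya43 za24) (ka xa32 ya19 za24) (ka xa32 ya56 za36) (ka xa31 ya52 za26) (ka xa32 ya51 za49) (ka xa26 ya6 za8) (ka xa31 ya16 za20) (ka xa32 ya57 za45) (ka xa26 ya53 za25) (ka xa29 ya27 za18) (ka xa29 ya14 za21) (ka xa29 ya27 za33) (ka xa31 ya41 za46) (ka xa32 ya27 za19) (ka xa31 ya21 za28)) (@D3.rec (fun _ => Pt) (ka xa31 ya40 za33) (ka xa31 ya34 za42) (ka xa30 ya27 za13) (ka xa31 ya40 za37) (ka xa32 ya46 za55) (ka xa32 ya27 za21) (ka xa25 ya21 za32) (ka xa25 ya21 za33) (ka xa25 ya21 za34) (ka xa31 ya36 za32) (ka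 xa32 ya58 za7) (ka xa32 ya51 za48) (ka xa32 ya58 za19) (ka xa31 ya47 za43) (ka xa32 ya58 za20) (ka xa32 ya23 za23) (ka xa32 ya58 za21) (ka xa30 ya19 za25) (ka xa31 ya51 za17) (ka xa32 ya37 za59) (ka xa32 ya2 za16) (ka xa32 ya37 za60) (ka xa32 ya10 za59) (ka xa32 ya37 za61) (ka xa32 ya38 za0) (ka xa31 ya51 za45) (ka xa31 ya51 za50) (ka xa29 ya39 za31) (ka xa32 ya47 za30) (ka xa31 ya40 za34) (ka xa32 ya36 za42) (ka xa32 ya36 za43) (ka xa26 ya37 za41) (ka xa32 ya11 za2) (ka xa32 ya11 za1) (ka xa32 ya17 za55) (ka xa32 ya36 za40) (ka xa29 ya14 za23) (ka xa32 ya1 za6) (ka xa32 ya33 za50) (ka xa27 ya17 za35) (ka xa32 ya21 za34) (ka xa32 ya39 za13) (ka xa28 ya49 za17) (ka xa32 ya21 za33) (ka xa28 ya15 za59) (ka xa29 ya2 za11) (ka xa31 ya20 za51) (ka xa31 ya20 za47) (ka xa31 ya51 za1) (ka xa29 ya13 za4) (ka xa28 ya45 za17) (ka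 xa32 ya10 za60) (ka xa32 ya27 za13) (ka xa27 ya43 za5) (ka xa28 ya27 za58) (ka xa29 ya44 za32) (ka xa26 ya41 za29) (ka xa32 ya58 za10) (ka xa32 ya34 za38) (ka xa28 ya57 za30) (ka xa31 ya14 za10)) (@D3.rec (fun _ => Pt) (ka xa31 ya46 za48) (ka xa31 ya27 za47) (ka xa31 ya46 za49) (ka xa31 ya46 za50) (ka xa31 ya46 za51) (ka xa31 ya46 za52) (ka xa31 ya46 za12) (ka xa30 ya9 za54) (ka xa31 ya46 za13) (ka xa31 ya49 za34) (ka xa25 ya23 za24) (ka xa32 ya58 za29) (ka xa32 ya4 za36) (ka xa25 ya23 za35) (ka xa31 ya48 za31) (ka xa32 ya44 za17) (ka xa32 ya4 za22) (ka xa32 ya40 za51) (ka xa26 ya54 za27) (ka xa32 ya36 za48) (ka xa28 ya53 za38) (ka xa28 ya23 za31) (ka xa31 ya0 za27) (ka xa27 ya2 za44) (ka xa29 ya47 za42) (ka xa30 ya19 za49) (ka xa25 ya24 za19) (ka xa25 ya24 za29) (ka xa31 ya39 za26) (ka xa31 ya12 za60) (ka xa25 ya24 za31)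 (ka xa32 ya0 za4) (ka xa25 ya34 za55) (ka xa25 ya24 za58) (ka xa31 ya53 za54) (ka xa30 ya18 za45) (ka xa31 ya54 za3) (ka xa30 ya30 za7) (ka xa29 ya45 za61) (ka xa28 ya20 za39) (ka xa32 ya24 za19) (ka xa27 ya55 za38) (ka xa30 ya12 za12) (ka xa28 ya22 za9) (ka xa25 ya25 za43) (ka xa25 ya25 za49) (ka xa25 ya56 za0) (ka xa28 ya54 za4) (ka xa32 ya25 za40) (ka xa25 ya26 za23) (ka xa32 ya25 za42) (ka xa32 ya20 za3) (ka xa32 ya26 za29) (ka xa28 ya9 za17) (ka xa31 ya53 za34) (ka xa31 ya54 za5) (ka xa31 ya58 za3) (ka xa28 ya8 za40) (ka xa32 ya24 za20) (ka xa28 ya8 za54) (ka xa30 ya54 za2) (ka xa25 ya26 za37)) (@D3.rec (fun _ => Pt) (ka xa31 ya36 za39) (ka xa28 ya9 za5) (ka xa32 ya44 za23) (ka xa31 ya53 za36) (ka xa25 ya27 za1) (ka xa31 ya53 za55) (ka xa25 ya30 za32) (ka xa25 ya30 za43) (ka xa25 ya29 za52) (ka xa25 ya29 za17) (ka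 xa25 ya33 za31) (ka xa31 ya46 za47) (ka xa25 ya33 za47) (ka xa25 ya27 za41) (ka xa25 ya33 za8) (ka xa29 ya6 za32) (ka xa25 ya34 za37) (ka xa25 ya28 za15) (ka xa32 ya2 za19) (ka xa25 ya35 za6) (ka xa25 ya35 za15) (ka xa32 ya2 za47) (ka xa32 ya57 za60) (ka xa32 ya7 za43) (ka xa25 ya28 za32) (ka xa31 ya36 za37) (ka xa31 ya27 za20) (ka xa25 ya36 za23) (ka xa28 ya56 za54) (ka xa27 ya26 za5) (ka xa30 ya20 za28) (ka xa30 ya16 za39) (ka xa29 ya20 za30) (ka xa31 ya45 za33) (ka xa32 ya38 za54) (ka xa32 ya7 za40) (ka xa30 ya10 za55) (ka xa31 ya55 za53) (ka xa25 ya57 za8) (ka xa27 ya26 za6) (ka xa26 ya3 za41) (ka xa25 ya29 za51) (ka xa26 ya42 za26) (ka xa27 ya17 za5) (ka xa26 ya41 za38) (ka xa28 ya58 za24) (ka xa25 ya30 za6) (ka xa25 ya30 za7) (ka xa25 ya30 za8) (ka xa25 ya30 za11) (ka xa28 ya0 za15) (ka xa25 ya54 za48) (ka xa29 ya34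 za45) (ka xa32 ya7 za3) (ka xa32 ya54 za7) (ka xa32 ya54 za8) (ka xa32 ya42 za35) (ka xa31 ya11 za36) (ka xa30 ya10 za56) (ka xa32 ya21 za4) (ka xa32 ya21 za3) (ka xa32 ya23 za41)) (@D3.rec (fun _ => Pt) (ka xa27 ya24 za33) (ka xa29 ya58 za21) (ka xa32 ya23 za46) (ka xa29 ya16 za36) (ka xa25 ya30 za34) (ka xa32 ya2 za36) (ka xa32 ya50 za7) (ka xa32 ya50 za8) (ka xa25 ya30 za41) (ka xa28 ya11 za15) (ka xa25 ya30 za45) (ka xa32 ya23 za33) (ka xa28 ya17 za14) (ka xa25 ya30 za51) (ka xa25 ya31 za13) (ka xa28 ya57 za45) (ka xa31 ya32 za13) (ka xa32 ya53 za37) (ka xa28 ya36 za15) (ka xa32 ya1 za58) (ka xa31 ya25 za52) (ka xa27 ya11 za25) (ka xa27 ya18 za48) (ka xa30 ya17 za9) (ka xa32 ya1 za49) (ka xa31 ya55 za31) (ka xa31 ya55 za32) (ka xa28 ya51 za8) (ka xa26 ya35 za14) (ka xa32 ya11 za29) (ka xa28 ya52 za43) (ka xa31 ya55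 za25) (ka xa31 ya55 za26) (ka xa28 ya40 za20) (ka xa28 ya42 za4) (ka xa28 ya51 za9) (ka xa25 ya32 za28) (ka xa28 ya55 za46) (ka xa28 ya55 za19) (ka xa32 ya56 za24) (ka xa25 ya32 za25) (ka xa32 ya57 za52) (ka xa32 ya46 za44) (ka xa25 ya53 za8) (ka xa32 ya52 za34) (ka xa32 ya53 za43) (ka xa29 ya33 za7) (ka xa28 ya51 za7) (ka xa25 ya45 za22) (ka xa31 ya7 za25) (ka xa31 ya38 za26) (ka xa27 ya56 za10) (ka xa28 ya57 za25) (ka xa31 ya54 za37) (ka xa25 ya55 za52) (ka xa27 ya29 za5) (ka xa25 ya33 za15) (ka xa25 ya34 za47) (ka xa29 ya35 za59) (ka xa32 ya38 za12) (ka xa31 ya48 za23) (ka xa29 ya44 za48)) (@D3.rec (fun _ => Pt) (ka xa30 ya7 za52) (ka xa25 ya33 za35) (ka xa30 ya9 za25) (ka xa31 ya47 za61) (ka xa32 ya0 za7) (ka xa27 ya44 za9) (ka xa28 ya31 za54) (ka xa27 ya6 za21) (ka xa28 ya36 za22) (ka xa30 ya6 za51) (ka xa32 ya31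 za50) (ka xa32 ya44 za6) (ka xa31 ya26 za43) (ka xa32 ya50 za22) (ka xa26 ya0 za38) (ka xa32 ya0 za43) (ka xa32 ya1 za25) (ka xa32 ya49 za17) (ka xa25 ya36 za45) (ka xa30 ya13 za12) (ka xa28 ya52 za49) (ka xa25 ya53 za42) (ka xa31 ya27 za32) (ka xa29 ya47 za51) (ka xa25 ya51 za6) (ka xa27 ya19 za23) (ka xa27 ya2 za56) (ka xa25 ya36 za5) (ka xa26 ya29 za39) (ka xa32 ya30 za17) (ka xa26 ya24 za11) (ka xa25 ya36 za18) (ka xa32 ya32 za45) (ka xa28 ya33 za50) (ka xa32 ya56 za46) (ka xa29 ya5 za5) (ka xa30 ya56 za34) (ka xa31 ya35 za45) (ka xa31 ya26 za44) (ka xa26 ya4 za61) (ka xa30 ya20 za13) (ka xa31 ya11 za54) (ka xa32 ya3 za32) (ka xa25 ya38 za45) (ka xa25 ya38 za49) (ka xa25 ya38 za51) (ka xa25 ya38 za52) (ka xa25 ya38 za53) (ka xa32 ya31 za34) (ka xa25 ya39 za5) (ka xa25 ya39 za6) (ka xa25 ya39 za8) (ka xa32 ya48 za11)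 (ka xa25 ya37 za24) (ka xa30 ya19 za27) (ka xa29 ya2 za50) (ka xa32 ya32 za7) (ka xa31 ya47 za44) (ka xa25 ya37 za33) (ka xa25 ya37 za34) (ka xa26 ya54 za36) (ka xa32 ya36 za39)) (@D3.rec (fun _ => Pt) (ka xa32 ya36 za38) (ka xa32 ya58 za36) (ka xa29 ya37 za33) (ka xa31 ya29 za9) (ka xa32 ya42 za60) (ka xa29 ya4 za49) (ka xa28 ya38 za17) (ka xa31 ya57 za20) (ka xa31 ya1 za55) (ka xa28 ya23 za49) (ka xa30 ya0 za34) (ka xa25 ya38 za11) (ka xa27 ya24 za34) (ka xa31 ya32 za20) (ka xa31 ya41 za59) (ka xa25 ya38 za29) (ka xa32 ya16 za7) (ka xa31 ya58 za20) (ka xa31 ya58 za22) (ka xa31 ya10 za55) (ka xa31 ya57 za7) (ka xa31 ya10 za12) (ka xa32 ya55 za41) (ka xa31 ya58 za41) (ka xa25 ya38 za47) (ka xa29 ya10 za58) (ka xa26 ya58 za33) (ka xa29 ya5 za60) (ka xa32 ya26 za60) (ka xa30 ya41 za2) (ka xa31 ya4 za18) (ka xa25 ya38 za56)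 (ka xa25 ya38 za60) (ka xa31 ya58 za42) (ka xa31 ya58 za36) (ka xa31 ya25 za31) (ka xa31 ya0 za61) (ka xa31 ya11 za53) (ka xa31 ya58 za45) (ka xa31 ya59 za0) (ka xa25 ya39 za4) (ka xa31 ya58 za9) (ka xa29 ya13 za53) (ka xa31 ya39 za60) (ka xa30 ya4 za50) (ka xa31 ya5 za3) (ka xa25 ya39 za7) (ka xa32 ya31 za35) (ka xa30 ya10 za40) (ka xa31 ya11 za48) (ka xa25 ya41 za46) (ka xa30 ya10 za37) (ka xa31 ya12 za2) (ka xa31 ya50 za0) (ka xa32 ya6 za50) (ka xa26 ya16 za28) (ka xa32 ya14 za13) (ka xa29 ya50 za42) (ka xa25 ya54 za37) (ka xa27 ya3 za23) (ka xa32 ya55 za22) (ka xa32 ya53 za57)) (@D3.rec (fun _ => Pt) (ka xa32 ya3 za20) (ka xa32 ya50 za37) (ka xa29 ya14 za4) (ka xa31 ya53 za56) (ka xa31 ya10 za15) (ka xa28 ya37 za24) (ka xa25 ya40 za12) (ka xa28 ya37 za21) (ka xa32 ya49 za49) (ka xa31 ya57 za41) (ka xa28 ya37 za22)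 (ka xa28 ya37 za18) (ka xa25 ya40 za28) (ka xa30 ya12 za20) (ka xa28 ya38 za21) (ka xa28 ya38 za22) (ka xa26 ya24 za22) (ka xa26 ya8 za27) (ka xa32 ya3 za38) (ka xa31 ya37 za49) (ka xa31 ya57 za17) (ka xa31 ya46 za9) (ka xa31 ya57 za18) (ka xa27 ya57 za22) (ka xa26 ya2 za35) (ka xa30 ya8 za39) (ka xa27 ya4 za42) (ka xa28 ya42 za2) (ka xa27 ya37 za21) (ka xa27 ya37 za20) (ka xa25 ya42 za3) (ka xa30 ya59 za0) (ka xa25 ya42 za16) (ka xa25 ya54 za22) (ka xa30 ya34 za55) (ka xa30 ya4 za45) (ka xa31 ya57 za34) (ka xa30 ya17 za42) (ka xa32 ya3 za30) (ka xa31 ya50 za8) (ka xa29 ya26 za52) (ka xa31 ya57 za23) (ka xa31 ya57 za33) (ka xa25 ya42 za47) (ka xa30 ya32 za35) (ka xa31 ya57 za38) (ka xa25 ya42 za50) (ka xa32 ya38 za49) (ka xa32 ya49 za44) (ka xa32 ya38 za14) (ka xa30 ya59 za29) (ka xa26 ya10 za45) (ka xa25 ya43 za34) (ka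 xa31 ya27 za11) (ka xa28 ya24 za5) (ka xa27 ya3 za8) (ka xa32 ya1 za54) (ka xa25 ya59 za9) (ka xa25 ya58 za41) (ka xa32 ya53 za40) (ka xa25 ya59 za19) (ka xa27 ya23 za61)) (@D3.rec (fun _ => Pt) (ka xa31 ya57 za39) (ka xa32 ya3 za47) (ka xa26 ya8 za54) (ka xa28 ya13 za22) (ka xa28 ya13 za24) (ka xa28 ya13 za25) (ka xa25 ya44 za28) (ka xa30 ya0 za13) (ka xa30 ya0 za12) (ka xa29 ya17 za6) (ka xa30 ya2 za24) (ka xa29 ya45 za1) (ka xa27 ya50 za27) (ka xa31 ya11 za27) (ka xa27 ya25 za17) (ka xa32 ya3 za57) (ka xa32 ya3 za56) (ka xa27 ya47 za54) (ka xa28 ya38 za1) (ka xa28 ya37 za58) (ka xa31 ya7 za18) (ka xa31 ya6 za4) (ka xa31 ya41 za61) (ka xa25 ya46 za29) (ka xa28 ya32 za49) (ka xa26 ya27 za44) (ka xa32 ya28 za12) (ka xa31 ya6 za38) (ka xa27 ya26 za9) (ka xa31 ya11 za41) (ka xa31 ya11 za42) (ka xa27 ya55 za0) (ka xa31 ya50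 za2) (ka xa31 ya20 za39) (ka xa31 ya43 za40) (ka xa25 ya51 za36) (ka xa28 ya48 za55) (ka xa25 ya47 za12) (ka xa32 ya39 za34) (ka xa25 ya50 za45) (ka xa32 ya15 za43) (ka xa25 ya52 za46) (ka xa28 ya21 za52) (ka xa32 ya13 za50) (ka xa25 ya47 za50) (ka xa32 ya46 za34) (ka xa29 ya13 za34) (ka xa32 ya0 za25) (ka xa29 ya20 za49) (ka xa25 ya54 za44) (ka xa25 ya54 za43) (ka xa27 ya16 za47) (ka xa32 ya44 za14) (ka xa25 ya54 za38) (ka xa31 ya22 za46) (ka xa29 ya16 za43) (ka xa28 ya23 za54) (ka xa25 ya59 za44) (ka xa29 ya50 za49) (ka xa29 ya49 za16) (ka xa29 ya49 za25) (ka xa30 ya53 za26))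
def f_a_32 : D2 → D3 → Pt := @D2.rec (fun _ => D3 → Pt) (@D3.rec (fun _ => Pt) (ka xa31 ya46 za32) (ka xa31 ya46 za33) (ka xa25 ya48 za51) (ka xa28 ya9 za15) (ka xa31 ya53 za31) (ka xa32 ya1 za18) (ka xa31 ya47 za10) (ka xa31 ya56 za4) (ka xa25 ya49 za19) (ka xa31 ya47 za18) (ka xa29 ya56 za59) (ka xa32 ya56 za59) (ka xa31 ya27 za56) (ka xa31 ya48 za51) (ka xa26 ya41 za34) (ka xa31 ya48 za44) (ka xa29 ya10 za2) (ka xa31 ya45 za49) (ka xa31 ya48 za41) (ka xa28 ya34 za11) (ka xa28 ya59 za5) (ka xa32 ya48 za10) (ka xa32 ya41 za13) (ka xa29 ya17 za49) (ka xa27 ya21 za30) (ka xa31 ya59 za47) (ka xa31 ya49 za45) (ka xa31 ya28 za25) (ka xa31 ya28 za24) (ka xa26 ya5 za5) (ka xa25 ya50 za52) (ka xa30 ya49 za22) (ka xa31 ya31 za34) (ka xa27 ya30 za21) (ka xa30 ya51 za13) (ka xa31 ya50 za30) (ka xa31 ya28 za4) (ka xa25 ya51 za4)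 (ka xa25 ya51 za7) (ka xa27 ya38 za57) (ka xa31 ya43 za49) (ka xa30 ya8 za6) (ka xa30 ya8 za4) (ka xa31 ya56 za15) (ka xa32 ya41 za17) (ka xa28 ya59 za34) (ka xa26 ya39 za36) (ka xa28 ya47 za54) (ka xa30 ya55 za52) (ka xa26 ya45 za18) (ka xa28 ya48 za53) (ka xa28 ya48 za50) (ka xa32 ya1 za8) (ka xa28 ya49 za4) (ka xa30 ya58 za10) (ka xa28 ya50 za27) (ka xa27 ya19 za29) (ka xa31 ya40 za20) (ka xa32 ya41 za55) (ka xa29 ya48 za21) (ka xa29 ya21 za42) (ka xa29 ya39 za42)) (@D3.rec (fun _ => Pt) (ka xa30 ya14 za61) (ka xa32 ya47 za40) (ka xa31 ya22 za45) (ka xa28 ya33 za23) (ka xa28 ya49 za50) (ka xa31 ya20 za38) (ka xa31 ya52 za38) (ka xa31 ya21 za20) (ka xa32 ya0 za52) (ka xa32 ya33 za32) (ka xa29 ya25 za32) (ka xa25 ya56 za39) (ka xa25 ya56 za40) (ka xa25 ya56 za37) (ka xa30 ya27 za34) (ka xa30 ya6 za49) (ka xa25 ya57 za50)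 (ka xa30 ya55 za21) (ka xa32 ya0 za5) (ka xa25 ya58 za40) (ka xa32 ya6 za14) (ka xa25 ya58 za10) (ka xa25 ya54 za11) (ka xa25 ya54 za14) (ka xa30 ya56 za17) (ka xa31 ya56 za16) (ka xa32 ya48 za46) (ka xa31 ya3 za56) (ka xa25 ya59 za7) (ka xa31 ya17 za0) (ka xa25 ya58 za13) (ka xa25 ya58 za25) (ka xa25 ya58 za32) (ka xa27 ya53 za15) (ka xa25 ya54 za33) (ka xa25 ya54 za34) (ka xa25 ya58 za37) (ka xa29 ya19 za49) (ka xa31 ya16 za56) (ka xa32 ya42 za26) (ka xa32 ya56 za53) (ka xa25 ya54 za40) (ka xa29 ya24 za26) (ka xa25 ya59 za37) (ka xa32 ya7 za14) (ka xa32 ya7 za23) (ka xa31 ya42 za16) (ka xa25 ya54 za52) (ka xa25 ya54 za58) (ka xa31 ya55 za24) (ka xa32 ya2 za26) (ka xa30 ya47 za56) (ka xa28 ya38 za13) (ka xa28 ya56 za24) (ka xa31 ya58 za56) (ka xa30 ya46 za36) (ka xa27 ya14 za25) (ka xa28 ya58 za18) (ka xa31 ya55 za19)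 (ka xa30 ya55 za10) (ka xa28 ya19 za34) (ka xa30 ya6 za35)) (@D3.rec (fun _ => Pt) (ka xa26 ya30 za29) (ka xa29 ya37 za21) (ka xa26 ya43 za5) (ka xa29 ya3 za20) (ka xa32 ya52 za28) (ka xa32 ya42 za38) (ka xa28 ya35 za26) (ka xa32 ya2 za25) (ka xa29 ya42 za5) (ka xa25 ya56 za46) (ka xa31 ya16 za18) (ka xa31 ya32 za44) (ka xa30 ya33 za6) (ka xa32 ya22 za21) (ka xa32 ya54 za54) (ka xa32 ya38 za35) (ka xa31 ya52 za20) (ka xa31 ya50 za43) (ka xa28 ya17 za49) (ka xa31 ya54 za18) (ka xa27 ya37 za61) (ka xa25 ya57 za15) (ka xa32 ya34 za17) (ka xa32 ya22 za27) (ka xa30 ya54 za48) (ka xa32 ya2 za7) (ka xa32 ya1 za50) (ka xa31 ya16 za50) (ka xa32 ya23 za48) (ka xa31 ya10 za53) (ka xa30 ya46 za56) (ka xa32 ya8 za22) (ka xa32 ya49 za7) (ka xa32 ya48 za24) (ka xa30 ya1 za44) (ka xa32 ya9 za32) (ka xa31 ya55 za5) (ka xa25 ya57 za60)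 (ka xa32 ya54 za31) (ka xa27 ya50 za2) (ka xa25 ya58 za1) (ka xa32 ya44 za25) (ka xa25 ya59 za59) (ka xa32 ya43 za51) (ka xa26 ya0 za1) (ka xa29 ya1 za46) (ka xa28 ya46 za20) (ka xa31 ya54 za21) (ka xa31 ya42 za18) (ka xa29 ya47 za53) (ka xa25 ya58 za58) (ka xa25 ya58 za60) (ka xa25 ya59 za3) (ka xa25 ya59 za4) (ka xa25 ya59 za6) (ka xa31 ya7 za23) (ka xa32 ya55 za56) (ka xa32 ya42 za2) (ka xa31 ya6 za41) (ka xa32 ya42 za12) (ka xa31 ya6 za16) (ka xa28 ya23 za61)) (@D3.rec (fun _ => Pt) (ka xa32 ya52 za16) (ka xa28 ya35 za29) (ka xa30 ya55 za11) (ka xa25 ya59 za38) (ka xa28 ya20 za26) (ka xa25 ya59 za45) (ka xa32 ya50 za29) (ka xa30 ya14 za5) (ka xa29 ya16 za50) (ka xa30 ya4 za3) (ka xa28 ya42 za54) (ka xa31 ya6 za21) (ka xa28 ya31 za27) (ka xa29 ya23 za5) (ka xa29 ya11 za30) (ka xa30 ya4 za31) (ka xa31 ya10 za42) (ka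 xa29 ya11 za26) (ka xa30 ya4 za51) (ka xa26 ya1 za46) (ka xa31 ya58 za0) (ka xa26 ya1 za52) (ka xa29 ya0 za44) (ka xa29 ya2 za24) (ka xa29 ya36 za19) (ka xa31 ya21 za14) (ka xa31 ya21 za15) (ka xa31 ya21 za19) (ka xa32 ya41 za19) (ka xa31 ya12 za16) (ka xa31 ya58 za38) (ka xa29 ya52 za31) (ka xa31 ya56 za42) (ka xa29 ya6 za54) (ka xa26 ya59 za25) (ka xa26 ya2 za48) (ka xa26 ya37 za29) (ka xa26 ya38 za48) (ka xa31 ya58 za18) (ka xa30 ya19 za21) (ka xa31 ya27 za38) (ka xa26 ya9 za61) (ka xa31 ya44 za47) (ka xa30 ya17 za61) (ka xa27 ya27 za42) (ka xa32 ya22 za39) (ka xa31 ya12 za14) (ka xa31 ya59 za1) (ka xa27 ya39 za52) (ka xa28 ya6 za15) (ka xa26 ya4 za26) (ka xa28 ya6 za22) (ka xa28 ya6 za24) (ka xa28 ya6 za18) (ka xa29 ya54 za15) (ka xa26 ya16 za32) (ka xa31 ya59 za16) (ka xa31 ya59 za15) (ka xa31 ya47 za30) (ka xa31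 ya35 za1) (ka xa26 ya34 za1) (ka xa26 ya39 za27)) (@D3.rec (fun _ => Pt) (ka xa29 ya47 za22) (ka xa31 ya47 za33) (ka xa31 ya47 za34) (ka xa31 ya47 za35) (ka xa30 ya9 za28) (ka xa31 ya47 za32) (ka xa26 ya33 za59) (ka xa30 ya29 za39) (ka xa26 ya34 za0) (ka xa32 ya10 za48) (ka xa32 ya10 za47) (ka xa30 ya55 za18) (ka xa28 ya59 za33) (ka xa28 ya58 za33) (ka xa26 ya23 za40) (ka xa32 ya15 za36) (ka xa29 ya29 za51) (ka xa31 ya20 za11) (ka xa31 ya33 za21) (ka xa32 ya57 za47) (ka xa29 ya48 za42) (ka xa32 ya41 za36) (ka xa31 ya53 za16) (ka xa32 ya32 za59) (ka xa30 ya21 za36) (ka xa32 ya57 za31) (ka xa32 ya43 za14) (ka xa32 ya57 za37) (ka xa32 ya40 za42) (ka xa32 ya51 za31) (ka xa29 ya10 za32) (ka xa26 ya6 za36) (ka xa29 ya52 za4) (ka xa32 ya4 za53) (ka xa26 ya6 za43) (ka xa32 ya49 za20) (ka xa31 ya53 za12) (ka xa30 ya31 za38) (ka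 xa31 ya36 za26) (ka xa29 ya10 za61) (ka xa31 ya2 za58) (ka xa26 ya7 za4) (ka xa27 ya48 za31) (ka xa32 ya4 za59) (ka xa26 ya7 za36) (ka xa28 ya28 za6) (ka xa26 ya33 za11) (ka xa29 ya49 za40) (ka xa31 ya30 za18) (ka xa28 ya11 za56) (ka xa29 ya57 za2) (ka xa32 ya55 za44) (ka xa26 ya8 za18) (ka xa32 ya4 za33) (ka xa26 ya47 za26) (ka xa32 ya54 za17) (ka xa32 ya55 za42) (ka xa28 ya12 za26) (ka xa30 ya18 za0) (ka xa32 ya4 za43) (ka xa32 ya43 za9) (ka xa30 ya34 za61)) (@D3.rec (fun _ => Pt) (ka xa30 ya32 za49) (ka xa32 ya19 za52) (ka xa29 ya10 za9) (ka xa29 ya51 za26) (ka xa26 ya9 za1) (ka xa29 ya10 za14) (ka xa31 ya12 za10) (ka xa26 ya9 za24) (ka xa26 ya9 za26) (ka xa32 ya54 za1) (ka xa32 ya53 za11) (ka xa30 ya38 za60) (ka xa30 ya59 za1) (ka xa30 ya14 za2) (ka xa32 ya23 za53) (ka xa32 ya31 za25) (ka xa31 ya34 za32) (ka xa31 ya50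 za47) (ka xa31 ya51 za28) (ka xa29 ya11 za17) (ka xa31 ya34 za36) (ka xa32 ya53 za22) (ka xa31 ya6 za13) (ka xa32 ya30 za12) (ka xa27 ya27 za14) (ka xa27 ya35 za58) (ka xa30 ya12 za25) (ka xa26 ya10 za61) (ka xa27 ya27 za38) (ka xa26 ya11 za6) (ka xa27 ya27 za40) (ka xa32 ya24 za28) (ka xa27 ya27 za36) (ka xa32 ya5 za40) (ka xa32 ya25 za10) (ka xa26 ya11 za58) (ka xa26 ya11 za42) (ka xa31 ya34 za3) (ka xa32 ya25 za19) (ka xa31 ya34 za1) (ka xa32 ya5 za33) (ka xa26 ya11 za52) (ka xa26 ya11 za53) (ka xa26 ya11 za56) (ka xa32 ya25 za3) (ka xa26 ya11 za59) (ka xa26 ya11 za60) (ka xa26 ya12 za1) (ka xa32 ya5 za52) (ka xa32 ya9 za49) (ka xa32 ya38 za9) (ka xa32 ya38 za10) (ka xa32 ya5 za48) (ka xa32 ya38 za5) (ka xa32 ya38 za4) (ka xa30 ya59 za2) (ka xa31 ya33 za59) (ka xa31 ya33 za58) (ka xa32 ya25 za14) (ka xa32 ya7 za24)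 (ka xa31 ya14 za45) (ka xa32 ya6 za52)) (@D3.rec (fun _ => Pt) (ka xa32 ya25 za2) (ka xa26 ya12 za50) (ka xa32 ya9 za45) (ka xa29 ya19 za42) (ka xa26 ya13 za26) (ka xa31 ya43 za35) (ka xa32 ya25 za27) (ka xa32 ya25 za28) (ka xa32 ya25 za29) (ka xa32 ya6 za33) (ka xa32 ya56 za54) (ka xa30 ya45 za56) (ka xa31 ya8 za15) (ka xa31 ya8 za17) (ka xa32 ya1 za20) (ka xa29 ya17 za45) (ka xa30 ya18 za50) (ka xa26 ya14 za4) (ka xa30 ya8 za45) (ka xa29 ya39 za17) (ka xa28 ya9 za53) (ka xa30 ya13 za5) (ka xa27 ya48 za47) (ka xa31 ya42 za39) (ka xa31 ya42 za50) (ka xa32 ya8 za25) (ka xa31 ya42 za54) (ka xa32 ya8 za24) (ka xa32 ya27 za39) (ka xa26 ya15 za29) (ka xa26 ya15 za38) (ka xa32 ya43 za18) (ka xa32 ya54 za24) (ka xa32 ya6 za9) (ka xa32 ya7 za15) (ka xa29 ya20 za50) (ka xa31 ya6 za61) (ka xa26 ya21 za38) (ka xa31 ya12 za6) (ka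 xa31 ya12 za7) (ka xa30 ya58 za54) (ka xa30 ya1 za4) (ka xa32 ya25 za18) (ka xa32 ya27 za36) (ka xa27 ya35 za12) (ka xa27 ya47 za41) (ka xa31 ya42 za36) (ka xa32 ya27 za30) (ka xa32 ya27 za31) (ka xa31 ya12 za3) (ka xa31 ya57 za54) (ka xa32 ya12 za61) (ka xa32 ya5 za61) (ka xa26 ya16 za51) (ka xa32 ya48 za54) (ka xa30 ya23 za22) (ka xa27 ya36 za47) (ka xa32 ya27 za35) (ka xa29 ya20 za31) (ka xa29 ya20 za32) (ka xa29 ya20 za7) (ka xa29 ya19 za46)) (@D3.rec (fun _ => Pt) (ka xa29 ya19 za60) (ka xa29 ya24 za12) (ka xa32 ya30 za56) (ka xa31 ya54 za53) (ka xa32 ya34 za58) (ka xa32 ya36 za44) (ka xa31 ya30 za22) (ka xa32 ya7 za42) (ka xa32 ya36 za47) (ka xa31 ya46 za11) (ka xa32 ya34 za51) (ka xa31 ya27 za44) (ka xa32 ya26 za53) (ka xa32 ya57 za36) (ka xa32 ya1 za44) (ka xa32 ya6 za34) (ka xa28 ya27 za39) (ka xa27 ya46 za20)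 (ka xa32 ya25 za56) (ka xa29 ya20 za38) (ka xa26 ya18 za32) (ka xa31 ya14 za38) (ka xa32 ya26 za28) (ka xa32 ya1 za45) (ka xa32 ya5 za59) (ka xa32 ya44 za4) (ka xa28 ya5 za22) (ka xa32 ya7 za32) (ka xa29 ya18 za28) (ka xa26 ya19 za2) (ka xa31 ya44 za16) (ka xa32 ya7 za54) (ka xa32 ya7 za27) (ka xa28 ya7 za35) (ka xa26 ya20 za10) (ka xa26 ya29 za60) (ka xa28 ya56 za5) (ka xa32 ya30 za16) (ka xa26 ya27 za55) (ka xa28 ya34 za18) (ka xa31 ya54 za35) (ka xa32 ya28 za56) (ka xa32 ya7 za7) (ka xa31 ya54 za23) (ka xa32 ya42 za15) (ka xa28 ya15 za3) (ka xa28 ya5 za3) (ka xa30 ya44 za26) (ka xa32 ya28 za35) (ka xa28 ya32 za3) (ka xa31 ya38 za16) (ka xa30 ya44 za30) (ka xa29 ya20 za56) (ka xa26 ya21 za6) (ka xa32 ya7 za31) (ka xa27 ya53 za11) (ka xa28 ya32 za0) (ka xa30 ya47 za51) (ka xa32 ya8 za50) (ka xa32 ya10 za21) (ka xa28 ya46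 za56) (ka xa32 ya10 za22)) (@D3.rec (fun _ => Pt) (ka xa32 ya10 za7) (ka xa32 ya10 za8) (ka xa30 ya43 za45) (ka xa26 ya31 za43) (ka xa31 ya0 za24) (ka xa27 ya36 za22) (ka xa26 ya22 za15) (ka xa26 ya22 za20) (ka xa26 ya57 za33) (ka xa32 ya40 za9) (ka xa26 ya28 za14) (ka xa31 ya17 za45) (ka xa27 ya14 za28) (ka xa28 ya22 za56) (ka xa32 ya54 za61) (ka xa27 ya14 za20) (ka xa32 ya36 za33) (ka xa30 ya38 za58) (ka xa30 ya58 za60) (ka xa30 ya55 za7) (ka xa29 ya22 za17) (ka xa26 ya56 za0) (ka xa32 ya2 za31) (ka xa26 ya23 za60) (ka xa32 ya6 za27) (ka xa32 ya6 za25) (ka xa26 ya24 za3) (ka xa32 ya29 za21) (ka xa28 ya23 za35) (ka xa26 ya24 za16) (ka xa30 ya18 za34) (ka xa30 ya49 za20) (ka xa31 ya16 za35) (ka xa32 ya8 za51) (ka xa32 ya10 za10) (ka xa32 ya9 za52) (ka xa29 ya32 za27) (ka xa32 ya27 za57) (ka xa28 ya36 za30) (ka xa29 ya28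 za43) (ka xa29 ya28 za45) (ka xa26 ya48 za23) (ka xa31 ya25 za7) (ka xa28 ya28 za8) (ka xa29 ya12 za15) (ka xa29 ya41 za44) (ka xa31 ya7 za30) (ka xa27 ya58 za28) (ka xa26 ya25 za61) (ka xa32 ya48 za17) (ka xa32 ya7 za58) (ka xa32 ya8 za33) (ka xa32 ya28 za8) (ka xa26 ya27 za26) (ka xa26 ya27 za37) (ka xa32 ya40 za58) (ka xa29 ya53 za41) (ka xa32 ya45 za13) (ka xa29 ya28 za26) (ka xa29 ya28 za27) (ka xa28 ya55 za28) (ka xa27 ya58 za17)) (@D3.rec (fun _ => Pt) (ka xa32 ya40 za41) (ka xa29 ya32 za1) (ka xa32 ya45 za16) (ka xa32 ya30 za48) (ka xa29 ya31 za0) (ka xa32 ya39 za9) (ka xa32 ya40 za49) (ka xa32 ya22 za40) (ka xa28 ya32 za57) (ka xa29 ya37 za0) (ka xa30 ya49 za40) (ka xa29 ya53 za36) (ka xa26 ya57 za17) (ka xa30 ya24 za18) (ka xa28 ya32 za15) (ka xa31 ya25 za2) (ka xa26 ya27 za61) (ka xa32 ya36 za18) (ka xa31 ya29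 za22) (ka xa30 ya12 za21) (ka xa32 ya46 za33) (ka xa26 ya28 za33) (ka xa32 ya35 za50) (ka xa32 ya16 za30) (ka xa26 ya28 za44) (ka xa32 ya32 za6) (ka xa32 ya9 za44) (ka xa26 ya29 za4) (ka xa32 ya9 za56) (ka xa32 ya21 za13) (ka xa30 ya46 za38) (ka xa28 ya38 za27) (ka xa32 ya2 za35) (ka xa26 ya29 za13) (ka xa26 ya29 za19) (ka xa26 ya29 za15) (ka xa32 ya35 za12) (ka xa26 ya29 za16) (ka xa30 ya56 za8) (ka xa26 ya29 za18) (ka xa32 ya41 za42) (ka xa32 ya41 za27) (ka xa26 ya29 za43) (ka xa32 ya29 za30) (ka xa32 ya9 za26) (ka xa32 ya6 za2) (ka xa31 ya1 za20) (ka xa29 ya32 za51) (ka xa26 ya30 za1) (ka xa32 ya5 za49) (ka xa30 ya58 za43) (ka xa32 ya43 za47) (ka xa32 ya8 za35) (ka xa31 ya37 za11) (ka xa30 ya13 za34) (ka xa28 ya17 za24) (ka xa32 ya9 za28) (ka xa32 ya17 za13) (ka xa28 ya8 za61) (ka xa30 ya43 za46) (ka xa30 ya45 za29)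 (ka xa26 ya30 za38)) (@D3.rec (fun _ => Pt) (ka xa29 ya4 za18) (ka xa31 ya39 za28) (ka xa32 ya26 za13) (ka xa26 ya30 za43) (ka xa30 ya45 za26) (ka xa32 ya28 za60) (ka xa28 ya7 za9) (ka xa32 ya8 za0) (ka xa32 ya8 za1) (ka xa28 ya8 za36) (ka xa32 ya8 za34) (ka xa30 ya55 za8) (ka xa27 ya47 za39) (ka xa31 ya16 za58) (ka xa32 ya28 za52) (ka xa32 ya44 za56) (ka xa27 ya49 za13) (ka xa30 ya45 za55) (ka xa26 ya31 za48) (ka xa26 ya31 za49) (ka xa32 ya44 za12) (ka xa32 ya7 za59) (ka xa32 ya7 za61) (ka xa31 ya42 za45) (ka xa31 ya15 za22) (ka xa28 ya22 za20) (ka xa28 ya28 za9) (ka xa32 ya50 za33) (ka xa28 ya24 za48) (ka xa29 ya31 za49) (ka xa31 ya46 za60) (ka xa26 ya34 za43) (ka xa26 ya59 za26) (ka xa28 ya45 za14) (ka xa29 ya45 za0) (ka xa26 ya39 za31) (ka xa26 ya39 za56) (ka xa26 ya39 za28) (ka xa26 ya33 za38) (ka xa26 ya40 za8) (ka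 xa32 ya38 za57) (ka xa27 ya17 za38) (ka xa32 ya47 za49) (ka xa32 ya38 za59) (ka xa32 ya56 za57) (ka xa26 ya39 za45) (ka xa26 ya39 za52) (ka xa32 ya4 za10) (ka xa32 ya4 za9) (ka xa26 ya40 za22) (ka xa26 ya40 za44) (ka xa26 ya40 za45) (ka xa26 ya40 za47) (ka xa26 ya40 za48) (ka xa26 ya40 za49) (ka xa26 ya40 za50) (ka xa26 ya41 za4) (ka xa26 ya41 za6) (ka xa28 ya54 za47) (ka xa31 ya52 za22) (ka xa31 ya52 za52) (ka xa31 ya51 za13)) (@D3.rec (fun _ => Pt) (ka xa26 ya34 za23) (ka xa31 ya52 za34) (ka xa31 ya52 za33) (ka xa31 ya40 za53) (ka xa29 ya31 za33) (ka xa26 ya34 za31) (ka xa26 ya34 za32) (ka xa26 ya34 za33) (ka xa32 ya50 za31) (ka xa29 ya56 za27) (ka xa32 ya22 za17) (ka xa29 ya56 za10) (ka xa27 ya16 za28) (ka xa32 ya13 za26) (ka xa28 ya54 za29) (ka xa32 ya14 za16) (ka xa26 ya34 za50) (ka xa30 ya17 za18) (ka xa28 ya39 za56)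 (ka xa32 ya14 za15) (ka xa28 ya56 za34) (ka xa29 ya44 za14) (ka xa26 ya35 za2) (ka xa28 ya18 za47) (ka xa27 ya19 za16) (ka xa32 ya13 za19) (ka xa30 ya15 za54) (ka xa30 ya14 za55) (ka xa32 ya13 za13) (ka xa31 ya55 za29) (ka xa29 ya45 za51) (ka xa28 ya54 za53) (ka xa29 ya56 za8) (ka xa31 ya34 za9) (ka xa32 ya11 za56) (ka xa30 ya17 za26) (ka xa32 ya13 za15) (ka xa30 ya34 za28) (ka xa31 ya40 za8) (ka xa32 ya13 za7) (ka xa28 ya54 za49) (ka xa28 ya54 za50) (ka xa32 ya47 za39) (ka xa32 ya37 za15) (ka xa31 ya19 za46) (ka xa29 ya33 za39) (ka xa26 ya35 za49) (ka xa26 ya35 za50) (ka xa26 ya35 za52) (ka xa29 ya33 za30) (ka xa29 ya33 za31) (ka xa32 ya37 za53) (ka xa32 ya37 za54) (ka xa32 ya12 za55) (ka xa26 ya56 za50) (ka xa32 ya34 za25) (ka xa32 ya11 za34) (ka xa29 ya55 za46) (ka xa29 ya10 za38) (ka xa31 ya39 za59) (ka xa32 ya18 za34)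 (ka xa30 ya17 za10)) (@D3.rec (fun _ => Pt) (ka xa29 ya47 za39) (ka xa31 ya33 za4) (ka xa32 ya37 za56) (ka xa26 ya35 za58) (ka xa31 ya33 za5) (ka xa32 ya19 za8) (ka xa32 ya19 za9) (ka xa32 ya21 za47) (ka xa27 ya36 za36) (ka xa32 ya14 za21) (ka xa31 ya31 za50) (ka xa32 ya34 za28) (ka xa31 ya33 za19) (ka xa32 ya23 za3) (ka xa26 ya36 za5) (ka xa29 ya31 za23) (ka xa26 ya36 za9) (ka xa26 ya57 za31) (ka xa32 ya37 za47) (ka xa32 ya37 za24) (ka xa26 ya36 za14) (ka xa32 ya50 za59) (ka xa31 ya31 za12) (ka xa32 ya39 za55) (ka xa32 ya47 za41) (ka xa32 ya47 za42) (ka xa32 ya40 za28) (ka xa32 ya47 za37) (ka xa32 ya36 za54) (ka xa32 ya37 za20) (ka xa26 ya36 za22) (ka xa32 ya45 za25) (ka xa32 ya57 za14) (ka xa32 ya45 za23) (ka xa28 ya55 za56) (ka xa28 ya35 za18) (ka xa28 ya56 za30) (ka xa29 ya31 za31) (ka xa28 ya56 za35) (ka xa28 ya56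 za36) (ka xa32 ya39 za26) (ka xa31 ya33 za10) (ka xa28 ya34 za22) (ka xa26 ya36 za37) (ka xa31 ya26 za40) (ka xa32 ya45 za24) (ka xa28 ya34 za19) (ka xa32 ya13 za16) (ka xa32 ya43 za3) (ka xa31 ya27 za27) (ka xa29 ya33 za33) (ka xa26 ya37 za9) (ka xa26 ya37 za18) (ka xa26 ya37 za20) (ka xa32 ya47 za13) (ka xa32 ya11 za53) (ka xa30 ya17 za24) (ka xa31 ya41 za30) (ka xa26 ya37 za42) (ka xa31 ya39 za53) (ka xa32 ya50 za41) (ka xa32 ya6 za51)) (@D3.rec (fun _ => Pt) (ka xa32 ya13 za4) (ka xa30 ya17 za30) (ka xa32 ya13 za3) (ka xa32 ya13 za2) (ka xa32 ya13 za0) (ka xa28 ya45 za11) (ka xa26 ya41 za24) (ka xa32 ya11 za39) (ka xa31 ya48 za29) (ka xa28 ya40 za23) (ka xa29 ya27 za54) (ka xa29 ya9 za22) (ka xa32 ya24 za0) (ka xa32 ya11 za28) (ka xa31 ya19 za37) (ka xa32 ya11 za36) (ka xa32 ya12 za47) (ka xa29 ya45 za12) (ka xa32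 ya24 za2) (ka xa32 ya11 za25) (ka xa32 ya40 za30) (ka xa29 ya3 za22) (ka xa29 ya3 za23) (ka xa26 ya39 za57) (ka xa30 ya16 za7) (ka xa28 ya50 za34) (ka xa32 ya11 za13) (ka xa29 ya31 za58) (ka xa26 ya38 za47) (ka xa26 ya38 za49) (ka xa31 ya27 za55) (ka xa26 ya39 za0) (ka xa32 ya37 za19) (ka xa28 ya44 za37) (ka xa32 ya45 za45) (ka xa32 ya44 za35) (ka xa32 ya38 za29) (ka xa32 ya18 za41) (ka xa32 ya18 za40) (ka xa26 ya51 za49) (ka xa26 ya51 za50) (ka xa32 ya47 za3) (ka xa32 ya47 za20) (ka xa29 ya33 za8) (ka xa31 ya29 za45) (ka xa29 ya26 za16) (ka xa32 ya47 za21) (ka xa32 ya36 za6) (ka xa32 ya38 za27) (ka xa28 ya39 za51) (ka xa31 ya59 za43) (ka xa32 ya15 za33) (ka xa27 ya35 za57) (ka xa31 ya21 za53) (ka xa27 ya36 za44) (ka xa29 ya7 za36) (ka xa32 ya57 za10) (ka xa32 ya41 za21) (ka xa26 ya40 za11) (ka xa29 ya33 za55) (ka xa26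 ya40 za7) (ka xa26 ya40 za9)) (@D3.rec (fun _ => Pt) (ka xa31 ya21 za29) (ka xa31 ya27 za7) (ka xa29 ya47 za14) (ka xa29 ya47 za13) (ka xa31 ya29 za23) (ka xa26 ya40 za23) (ka xa29 ya47 za25) (ka xa32 ya40 za13) (ka xa30 ya29 za34) (ka xa29 ya47 za21) (ka xa29 ya34 za9) (ka xa29 ya32 za25) (ka xa29 ya34 za10) (ka xa31 ya57 za56) (ka xa29 ya46 za31) (ka xa32 ya11 za19) (ka xa32 ya11 za15) (ka xa32 ya33 za33) (ka xa32 ya45 za46) (ka xa30 ya15 za29) (ka xa30 ya9 za29) (ka xa32 ya12 za9) (ka xa26 ya40 za57) (ka xa27 ya36 za46) (ka xa31 ya20 za18) (ka xa29 ya43 za41) (ka xa30 ya27 za61) (ka xa32 ya30 za58) (ka xa32 ya40 za11) (ka xa31 ya20 za19) (ka xa29 ya43 za40) (ka xa32 ya40 za21) (ka xa28 ya54 za19) (ka xa32 ya24 za1) (ka xa29 ya37 za60) (ka xa29 ya33 za53) (ka xa26 ya41 za33) (ka xa26 ya41 za59) (ka xa30 ya16 za48) (ka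 xa28 ya54 za60) (ka xa30 ya17 za16) (ka xa29 ya8 za49) (ka xa26 ya45 za21) (ka xa29 ya2 za52) (ka xa29 ya2 za41) (ka xa29 ya2 za26) (ka xa26 ya42 za53) (ka xa26 ya42 za56) (ka xa31 ya18 za32) (ka xa30 ya49 za14) (ka xa29 ya15 za36) (ka xa32 ya15 za58) (ka xa31 ya23 za60) (ka xa31 ya13 za50) (ka xa28 ya51 za59) (ka xa28 ya51 za60) (ka xa28 ya15 za45) (ka xa26 ya42 za61) (ka xa32 ya46 za36) (ka xa28 ya52 za0) (ka xa30 ya56 za53) (ka xa32 ya22 za11)) (@D3.rec (fun _ => Pt) (ka xa28 ya16 za45) (ka xa26 ya43 za9) (ka xa32 ya57 za12) (ka xa32 ya35 za60) (ka xa27 ya8 za31) (ka xa29 ya8 za35) (ka xa28 ya17 za35) (ka xa26 ya43 za16) (ka xa26 ya43 za17) (ka xa30 ya28 za8) (ka xa32 ya51 za0) (ka xa28 ya53 za30) (ka xa26 ya43 za24) (ka xa32 ya57 za8) (ka xa29 ya23 za10) (ka xa32 ya22 za33) (ka xa29 ya30 za26) (ka xa28 ya32 za39) (ka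 xa28 ya47 za35) (ka xa26 ya43 za44) (ka xa29 ya15 za38) (ka xa28 ya56 za6) (ka xa28 ya46 za13) (ka xa28 ya55 za51) (ka xa26 ya52 za30) (ka xa26 ya44 za7) (ka xa28 ya17 za3) (ka xa31 ya15 za41) (ka xa30 ya56 za23) (ka xa29 ya9 za26) (ka xa29 ya4 za5) (ka xa29 ya3 za59) (ka xa31 ya41 za0) (ka xa32 ya13 za51) (ka xa30 ya29 za10) (ka xa26 ya44 za44) (ka xa32 ya4 za15) (ka xa30 ya26 za19) (ka xa29 ya4 za41) (ka xa26 ya45 za14) (ka xa30 ya55 za58) (ka xa32 ya34 za35) (ka xa29 ya3 za11) (ka xa31 ya59 za40) (ka xa32 ya18 za17) (ka xa32 ya57 za28) (ka xa30 ya17 za21) (ka xa29 ya5 za16) (ka xa31 ya27 za57) (ka xa32 ya37 za38) (ka xa32 ya19 za18) (ka xa27 ya9 za41) (ka xa29 ya9 za29) (ka xa30 ya55 za1) (ka xa31 ya47 za59) (ka xa29 ya17 za39) (ka xa29 ya17 za41) (ka xa26 ya47 za11) (ka xa32 ya14 za51) (ka xa28 ya58 za6) (ka xa31 ya8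 za40) (ka xa32 ya32 za42)) (@D3.rec (fun _ => Pt) (ka xa29 ya10 za20) (ka xa29 ya11 za3) (ka xa29 ya10 za3) (ka xa26 ya47 za24) (ka xa26 ya47 za27) (ka xa32 ya30 za46) (ka xa32 ya55 za46) (ka xa31 ya57 za16) (ka xa32 ya58 za49) (ka xa32 ya38 za6) (ka xa29 ya10 za13) (ka xa29 ya10 za16) (ka xa31 ya9 za58) (ka xa29 ya11 za54) (ka xa29 ya11 za55) (ka xa29 ya11 za56) (ka xa29 ya11 za57) (ka xa29 ya11 za33) (ka xa29 ya11 za34) (ka xa29 ya11 za35) (ka xa30 ya10 za32) (ka xa29 ya14 za2) (ka xa29 ya14 za6) (ka xa31 ya41 za56) (ka xa29 ya14 za50) (ka xa29 ya20 za0) (ka xa26 ya49 za19) (ka xa26 ya49 za22) (ka xa26 ya52 za5) (ka xa29 ya21 za34) (ka xa32 ya9 za23) (ka xa32 ya34 za49) (ka xa32 ya19 za39) (ka xa32 ya52 za53) (ka xa28 ya51 za49) (ka xa31 ya20 za6) (ka xa26 ya51 za60) (ka xa26 ya51 za53) (ka xa31 ya33 za0) (ka xa29 ya22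 za39) (ka xa27 ya43 za12) (ka xa26 ya50 za54) (ka xa29 ya29 za52) (ka xa30 ya22 za11) (ka xa32 ya52 za3) (ka xa32 ya33 za17) (ka xa26 ya56 za2) (ka xa26 ya51 za39) (ka xa26 ya51 za41) (ka xa26 ya55 za50) (ka xa26 ya56 za55) (ka xa31 ya33 za30) (ka xa32 ya52 za19) (ka xa30 ya29 za16) (ka xa32 ya17 za40) (ka xa32 ya53 za45) (ka xa32 ya53 za46) (ka xa31 ya24 za11) (ka xa32 ya57 za30) (ka xa32 ya55 za61) (ka xa29 ya39 za60) (ka xa32 ya18 za9)) (@D3.rec (fun _ => Pt) (ka xa29 ya36 za60) (ka xa29 ya36 za54) (ka xa29 ya28 za47) (ka xa29 ya33 za32) (ka xa29 ya33 za27) (ka xa29 ya45 za59) (ka xa27 ya0 za27) (ka xa29 ya33 za25) (ka xa29 ya33 za26) (ka xa29 ya33 za28) (ka xa26 ya52 za39) (ka xa26 ya52 za40) (ka xa26 ya52 za42) (ka xa32 ya9 za57) (ka xa32 ya29 za45) (ka xa32 ya29 za48) (ka xa31 ya33 za18) (ka xa29 ya24 za0) (ka xa29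 ya8 za18) (ka xa29 ya8 za19) (ka xa29 ya19 za56) (ka xa29 ya19 za55) (ka xa32 ya58 za18) (ka xa26 ya53 za53) (ka xa26 ya53 za54) (ka xa26 ya54 za19) (ka xa26 ya54 za21) (ka xa26 ya54 za37) (ka xa26 ya54 za44) (ka xa26 ya54 za46) (ka xa32 ya17 za37) (ka xa28 ya37 za52) (ka xa31 ya32 za17) (ka xa30 ya20 za58) (ka xa28 ya54 za61) (ka xa32 ya44 za57) (ka xa31 ya28 za2) (ka xa32 ya17 za30) (ka xa31 ya30 za7) (ka xa28 ya51 za53) (ka xa32 ya16 za54) (ka xa32 ya38 za18) (ka xa29 ya7 za12) (ka xa28 ya45 za7) (ka xa32 ya57 za48) (ka xa32 ya57 za49) (ka xa32 ya46 za14) (ka xa32 ya45 za58) (ka xa32 ya46 za15) (ka xa32 ya46 za16) (ka xa32 ya40 za48) (ka xa29 ya43 za31) (ka xa29 ya43 za32) (ka xa26 ya54 za32) (ka xa32 ya44 za42) (ka xa31 ya52 za35) (ka xa29 ya13 za23) (ka xa31 ya22 za0) (ka xa32 ya44 za43) (ka xa26 ya54 za42) (ka xa32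 ya43 za35) (ka xa32 ya43 za30)) (@D3.rec (fun _ => Pt) (ka xa32 ya44 za48) (ka xa32 ya40 za47) (ka xa32 ya44 za49) (ka xa31 ya39 za37) (ka xa31 ya28 za19) (ka xa27 ya43 za55) (ka xa27 ya44 za3) (ka xa29 ya37 za18) (ka xa29 ya29 za2) (ka xa32 ya16 za61) (ka xa26 ya56 za53) (ka xa26 ya56 za47) (ka xa31 ya19 za36) (ka xa29 ya8 za39) (ka xa29 ya29 za31) (ka xa29 ya29 za32) (ka xa29 ya1 za56) (ka xa32 ya15 za44) (ka xa26 ya56 za18) (ka xa32 ya59 za0) (ka xa31 ya22 za58) (ka xa26 ya56 za24) (ka xa32 ya44 za11) (ka xa31 ya19 za31) (ka xa32 ya44 za54) (ka xa32 ya22 za20) (ka xa28 ya37 za39) (ka xa29 ya8 za53) (ka xa31 ya30 za39) (ka xa32 ya54 za26) (ka xa32 ya34 za43) (ka xa28 ya39 za6) (ka xa32 ya43 za20) (ka xa26 ya57 za9) (ka xa32 ya11 za60) (ka xa32 ya37 za27) (ka xa32 ya46 za42) (ka xa30 ya15 za35) (ka xa29 ya53 za40) (ka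 xa32 ya34 za18) (ka xa32 ya13 za38) (ka xa32 ya13 za37) (ka xa27 ya0 za42) (ka xa27 ya15 za18) (ka xa32 ya43 za39) (ka xa29 ya32 za18) (ka xa29 ya32 za15) (ka xa30 ya32 za38) (ka xa29 ya6 za53) (ka xa29 ya40 za61) (ka xa29 ya22 za61) (ka xa31 ya34 za55) (ka xa29 ya42 za31) (ka xa28 ya35 za25) (ka xa28 ya34 za57) (ka xa28 ya54 za26) (ka xa30 ya30 za6) (ka xa29 ya44 za29) (ka xa27 ya19 za26) (ka xa32 ya37 za51) (ka xa31 ya33 za17) (ka xa29 ya42 za53)) (@D3.rec (fun _ => Pt) (ka xa31 ya21 za3) (ka xa27 ya0 za24) (ka xa27 ya0 za25) (ka xa31 ya19 za18) (ka xa32 ya30 za54) (ka xa32 ya32 za51) (ka xa32 ya51 za5) (ka xa32 ya42 za51) (ka xa32 ya12 za5) (ka xa32 ya12 za6) (ka xa27 ya0 za30) (ka xa30 ya29 za12) (ka xa32 ya33 za30) (ka xa32 ya37 za21) (ka xa29 ya32 za36) (ka xa32 ya37 za18) (ka xa32 ya41 za46) (ka xa32 ya35 za26)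 (ka xa32 ya15 za50) (ka xa32 ya40 za57) (ka xa32 ya37 za25) (ka xa32 ya42 za22) (ka xa27 ya17 za18) (ka xa32 ya23 za38) (ka xa31 ya51 za48) (ka xa27 ya8 za54) (ka xa27 ya8 za55) (ka xa27 ya7 za2) (ka xa27 ya7 za3) (ka xa27 ya7 za10) (ka xa27 ya2 za15) (ka xa29 ya37 za6) (ka xa29 ya37 za7) (ka xa27 ya13 za34) (ka xa27 ya13 za35) (ka xa29 ya39 za35) (ka xa32 ya29 za51) (ka xa29 ya30 za31) (ka xa32 ya44 za32) (ka xa32 ya16 za32) (ka xa31 ya23 za2) (ka xa30 ya5 za43) (ka xa30 ya5 za45) (ka xa30 ya26 za30) (ka xa31 ya15 za57) (ka xa27 ya16 za30) (ka xa28 ya13 za8) (ka xa28 ya27 za40) (ka xa27 ya4 za28) (ka xa31 ya12 za9) (ka xa27 ya4 za41) (ka xa27 ya4 za34) (ka xa32 ya5 za1) (ka xa30 ya2 za12) (ka xa30 ya2 za10) (ka xa31 ya47 za56) (ka xa31 ya33 za32) (ka xa31 ya39 za8) (ka xa32 ya28 za61) (ka xa28 ya33 za39) (ka xa28 ya47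 za24) (ka xa27 ya13 za37)) (@D3.rec (fun _ => Pt) (ka xa27 ya9 za5) (ka xa30 ya6 za36) (ka xa32 ya58 za35) (ka xa31 ya53 za51) (ka xa27 ya15 za51) (ka xa27 ya15 za47) (ka xa27 ya8 za25) (ka xa27 ya8 za26) (ka xa27 ya8 za22) (ka xa27 ya8 za60) (ka xa27 ya8 za59) (ka xa29 ya13 za27) (ka xa30 ya39 za23) (ka xa30 ya39 za25) (ka xa31 ya13 za53) (ka xa30 ya5 za48) (ka xa30 ya18 za60) (ka xa30 ya18 za55) (ka xa32 ya49 za56) (ka xa30 ya22 za7) (ka xa27 ya6 za56) (ka xa32 ya42 za50) (ka xa28 ya52 za7) (ka xa32 ya49 za55) (ka xa27 ya8 za56) (ka xa32 ya47 za61) (ka xa28 ya33 za12) (ka xa32 ya50 za5) (ka xa28 ya26 za44) (ka xa31 ya13 za52) (ka xa27 ya7 za5) (ka xa32 ya39 za59) (ka xa32 ya21 za28) (ka xa27 ya7 za7) (ka xa32 ya58 za30) (ka xa32 ya56 za5) (ka xa28 ya16 za43) (ka xa32 ya33 za16) (ka xa32 ya31 za12) (ka xa32 ya22 za42)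 (ka xa27 ya7 za14) (ka xa32 ya39 za43) (ka xa27 ya7 za22) (ka xa32 ya34 za33) (ka xa31 ya22 za40) (ka xa31 ya50 za44) (ka xa32 ya59 za12) (ka xa32 ya56 za26) (ka xa32 ya32 za57) (ka xa30 ya21 za31) (ka xa30 ya21 za47) (ka xa32 ya51 za28) (ka xa27 ya7 za25) (ka xa32 ya56 za4) (ka xa30 ya5 za53) (ka xa29 ya37 za57) (ka xa29 ya33 za43) (ka xa29 ya37 za61) (ka xa29 ya38 za0) (ka xa32 ya39 za30) (ka xa30 ya16 za28) (ka xa30 ya16 za27)) (@D3.rec (fun _ => Pt) (ka xa27 ya7 za35) (ka xa27 ya16 za34) (ka xa32 ya48 za49) (ka xa31 ya54 za60) (ka xa31 ya54 za59) (ka xa32 ya48 za48) (ka xa27 ya7 za54) (ka xa27 ya7 za55) (ka xa32 ya23 za55) (ka xa32 ya23 za54) (ka xa32 ya23 za51) (ka xa32 ya23 za50) (ka xa28 ya51 za52) (ka xa32 ya9 za29) (ka xa32 ya44 za58) (ka xa30 ya39 za38) (ka xa32 ya45 za1) (ka xa31 ya31 za2) (ka xa32 ya35 za51)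 (ka xa32 ya49 za54) (ka xa32 ya52 za20) (ka xa29 ya8 za36) (ka xa31 ya15 za45) (ka xa29 ya40 za14) (ka xa30 ya15 za39) (ka xa28 ya17 za33) (ka xa32 ya33 za18) (ka xa32 ya53 za53) (ka xa32 ya20 za32) (ka xa30 ya19 za13) (ka xa29 ya7 za32) (ka xa29 ya21 za5) (ka xa32 ya55 za2) (ka xa31 ya52 za44) (ka xa31 ya52 za41) (ka xa32 ya22 za45) (ka xa27 ya14 za16) (ka xa32 ya32 za23) (ka xa31 ya47 za11) (ka xa27 ya15 za15) (ka xa28 ya46 za37) (ka xa32 ya48 za43) (ka xa27 ya10 za27) (ka xa30 ya27 za21) (ka xa29 ya33 za9) (ka xa28 ya7 za8) (ka xa31 ya47 za39) (ka xa32 ya12 za7) (ka xa27 ya16 za15) (ka xa27 ya16 za16) (ka xa32 ya50 za58) (ka xa27 ya12 za0) (ka xa31 ya28 za38) (ka xa32 ya45 za20) (ka xa28 ya21 za60) (ka xa31 ya48 za42) (ka xa30 ya12 za23) (ka xa29 ya7 za9) (ka xa32 ya44 za55) (ka xa27 ya13 za22) (ka xa28 ya53 za21) (ka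 xa28 ya59 za15)) (@D3.rec (fun _ => Pt) (ka xa29 ya24 za34) (ka xa29 ya55 za5) (ka xa27 ya13 za1) (ka xa31 ya38 za40) (ka xa32 ya55 za55) (ka xa32 ya48 za42) (ka xa27 ya13 za17) (ka xa27 ya21 za55) (ka xa32 ya22 za52) (ka xa32 ya22 za51) (ka xa31 ya37 za5) (ka xa32 ya14 za61) (ka xa32 ya39 za45) (ka xa30 ya28 za47) (ka xa30 ya30 za54) (ka xa32 ya22 za30) (ka xa30 ya28 za52) (ka xa32 ya11 za10) (ka xa32 ya22 za32) (ka xa28 ya49 za60) (ka xa32 ya18 za25) (ka xa32 ya2 za13) (ka xa30 ya14 za13) (ka xa31 ya35 za30) (ka xa27 ya15 za7) (ka xa31 ya49 za46) (ka xa32 ya23 za21) (ka xa32 ya2 za23) (ka xa27 ya14 za30) (ka xa30 ya16 za29) (ka xa32 ya22 za15) (ka xa30 ya15 za0) (ka xa32 ya22 za18) (ka xa32 ya15 za15) (ka xa32 ya31 za56) (ka xa32 ya34 za48) (ka xa27 ya15 za12) (ka xa32 ya28 za4) (ka xa32 ya58 za8) (ka xa32 ya3 za45)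 (ka xa32 ya9 za7) (ka xa30 ya38 za47) (ka xa32 ya20 za39) (ka xa32 ya49 za57) (ka xa28 ya36 za27) (ka xa32 ya21 za35) (ka xa30 ya44 za8) (ka xa31 ya13 za21) (ka xa30 ya47 za54) (ka xa28 ya22 za39) (ka xa32 ya29 za15) (ka xa32 ya22 za9) (ka xa32 ya22 za8) (ka xa30 ya46 za39) (ka xa32 ya41 za4) (ka xa30 ya15 za45) (ka xa28 ya39 za48) (ka xa27 ya16 za31) (ka xa32 ya45 za36) (ka xa31 ya31 za3) (ka xa31 ya12 za39) (ka xa32 ya45 za8)) (@D3.rec (fun _ => Pt) (ka xa32 ya45 za53) (ka xa31 ya28 za16) (ka xa29 ya39 za58) (ka xa32 ya12 za13) (ka xa32 ya52 za42) (ka xa32 ya52 za48) (ka xa28 ya44 za36) (ka xa32 ya57 za13) (ka xa32 ya45 za7) (ka xa30 ya29 za9) (ka xa32 ya51 za6) (ka xa31 ya30 za34) (ka xa31 ya23 za15) (ka xa27 ya16 za49) (ka xa32 ya28 za43) (ka xa32 ya30 za21) (ka xa28 ya47 za14) (ka xa28 ya47 za15) (ka xa32 ya29 za32)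 (ka xa30 ya56 za27) (ka xa32 ya41 za39) (ka xa32 ya22 za26) (ka xa32 ya41 za43) (ka xa31 ya52 za15) (ka xa27 ya16 za61) (ka xa27 ya30 za34) (ka xa27 ya20 za39) (ka xa30 ya16 za23) (ka xa30 ya16 za26) (ka xa30 ya15 za5) (ka xa31 ya36 za60) (ka xa32 ya57 za3) (ka xa29 ya57 za20) (ka xa31 ya55 za11) (ka xa29 ya5 za10) (ka xa27 ya46 za45) (ka xa29 ya11 za48) (ka xa29 ya11 za53) (ka xa32 ya19 za23) (ka xa27 ya18 za2) (ka xa32 ya32 za47) (ka xa31 ya54 za61) (ka xa32 ya48 za25) (ka xa31 ya10 za4) (ka xa27 ya18 za19) (ka xa31 ya46 za46) (ka xa31 ya55 za2) (ka xa32 ya43 za17) (ka xa32 ya2 za28) (ka xa32 ya24 za30) (ka xa32 ya21 za11) (ka xa32 ya21 za10) (ka xa27 ya18 za31) (ka xa32 ya5 za14) (ka xa32 ya21 za9) (ka xa32 ya21 za8) (ka xa31 ya47 za23) (ka xa29 ya56 za30) (ka xa27 ya19 za28) (ka xa28 ya26 za42) (ka xa27 ya19 za2) (ka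 xa31 ya28 za31)) (@D3.rec (fun _ => Pt) (ka xa32 ya13 za12) (ka xa32 ya14 za33) (ka xa32 ya13 za18) (ka xa28 ya18 za50) (ka xa28 ya37 za17) (ka xa29 ya56 za15) (ka xa31 ya19 za47) (ka xa30 ya38 za45) (ka xa31 ya20 za45) (ka xa29 ya49 za23) (ka xa31 ya20 za27) (ka xa27 ya46 za34) (ka xa30 ya10 za3) (ka xa30 ya9 za55) (ka xa29 ya26 za8) (ka xa27 ya21 za25) (ka xa32 ya52 za27) (ka xa30 ya56 za29) (ka xa32 ya35 za47) (ka xa31 ya53 za40) (ka xa31 ya53 za58) (ka xa27 ya23 za14) (ka xa30 ya3 za27) (ka xa29 ya23 za33) (ka xa31 ya48 za14) (ka xa31 ya40 za0) (ka xa31 ya41 za3) (ka xa30 ya8 za14) (ka xa32 ya5 za31) (ka xa29 ya11 za23) (ka xa32 ya23 za49) (ka xa32 ya42 za1) (ka xa29 ya58 za5) (ka xa30 ya4 za30) (ka xa30 ya34 za54) (ka xa30 ya39 za11) (ka xa27 ya23 za46) (ka xa28 ya38 za12) (ka xa31 ya46 za8) (ka xa31 ya46 za10) (ka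 xa32 ya27 za48) (ka xa27 ya24 za26) (ka xa28 ya59 za53) (ka xa29 ya0 za11) (ka xa27 ya41 za13) (ka xa28 ya35 za24) (ka xa31 ya46 za18) (ka xa31 ya46 za7) (ka xa27 ya26 za22) (ka xa27 ya26 za20) (ka xa27 ya26 za21) (ka xa27 ya26 za23) (ka xa27 ya24 za49) (ka xa27 ya27 za15) (ka xa32 ya25 za7) (ka xa27 ya46 za50) (ka xa31 ya8 za16) (ka xa27 ya28 za57) (ka xa27 ya25 za28) (ka xa32 ya25 za8) (ka xa32 ya56 za9) (ka xa28 ya30 za44)) (@D3.rec (fun _ => Pt) (ka xa31 ya48 za17) (ka xa27 ya26 za15) (ka xa32 ya6 za0) (ka xa32 ya5 za44) (ka xa32 ya31 za27) (ka xa27 ya27 za9) (ka xa27 ya27 za13) (ka xa32 ya24 za54) (ka xa32 ya24 za59) (ka xa27 ya27 za25) (ka xa32 ya5 za34) (ka xa27 ya38 za33) (ka xa27 ya28 za26) (ka xa27 ya38 za48) (ka xa32 ya5 za58) (ka xa27 ya46 za39) (ka xa32 ya25 za31) (ka xa31 ya41 za28) (ka xa32 ya6 za42) (ka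 xa32 ya5 za38) (ka xa31 ya48 za1) (ka xa31 ya48 za2) (ka xa29 ya17 za32) (ka xa29 ya36 za14) (ka xa31 ya20 za43) (ka xa28 ya2 za22) (ka xa31 ya14 za54) (ka xa32 ya6 za6) (ka xa32 ya6 za7) (ka xa32 ya6 za8) (ka xa28 ya1 za55) (ka xa32 ya25 za16) (ka xa31 ya45 za54) (ka xa27 ya54 za9) (ka xa27 ya49 za22) (ka xa32 ya26 za30) (ka xa27 ya51 za50) (ka xa27 ya53 za42) (ka xa27 ya50 za8) (ka xa32 ya31 za20) (ka xa31 ya53 za48) (ka xa27 ya33 za36) (ka xa31 ya53 za50) (ka xa27 ya32 za26) (ka xa27 ya32 za27) (ka xa27 ya32 za28) (ka xa27 ya49 za46) (ka xa28 ya7 za36) (ka xa32 ya30 za28) (ka xa28 ya7 za48) (ka xa27 ya49 za61) (ka xa32 ya35 za45) (ka xa32 ya31 za30) (ka xa32 ya30 za19) (ka xa27 ya53 za60) (ka xa29 ya25 za12) (ka xa32 ya7 za18) (ka xa32 ya26 za40) (ka xa28 ya46 za4) (ka xa27 ya33 za29) (ka xa31 ya49 za29) (ka xa27 ya32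 za55)) (@D3.rec (fun _ => Pt) (ka xa32 ya26 za6) (ka xa28 ya9 za32) (ka xa28 ya16 za54) (ka xa27 ya33 za31) (ka xa32 ya26 za39) (ka xa27 ya33 za3) (ka xa32 ya26 za0) (ka xa27 ya33 za20) (ka xa27 ya54 za2) (ka xa31 ya39 za24) (ka xa27 ya52 za3) (ka xa31 ya9 za39) (ka xa31 ya4 za45) (ka xa32 ya10 za2) (ka xa27 ya52 za14) (ka xa27 ya34 za52) (ka xa30 ya40 za19) (ka xa32 ya59 za16) (ka xa32 ya26 za51) (ka xa32 ya43 za25) (ka xa32 ya26 za45) (ka xa32 ya26 za55) (ka xa32 ya26 za54) (ka xa32 ya26 za57) (ka xa32 ya26 za59) (ka xa32 ya59 za15) (ka xa27 ya56 za32) (ka xa32 ya32 za21) (ka xa32 ya7 za22) (ka xa31 ya53 za52) (ka xa32 ya25 za35) (ka xa28 ya7 za17) (ka xa28 ya5 za57) (ka xa28 ya9 za25) (ka xa31 ya44 za32) (ka xa27 ya35 za19) (ka xa28 ya5 za33) (ka xa28 ya6 za11) (ka xa27 ya34 za59) (ka xa32 ya26 za4) (ka xa32 ya25 za57)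 (ka xa27 ya35 za14) (ka xa27 ya35 za1) (ka xa28 ya17 za53) (ka xa28 ya9 za33) (ka xa32 ya26 za20) (ka xa32 ya29 za16) (ka xa29 ya10 za56) (ka xa31 ya42 za24) (ka xa30 ya41 za30) (ka xa32 ya58 za51) (ka xa32 ya26 za18) (ka xa32 ya55 za53) (ka xa32 ya7 za12) (ka xa32 ya26 za22) (ka xa32 ya26 za21) (ka xa32 ya55 za18) (ka xa32 ya26 za23) (ka xa31 ya8 za38) (ka xa32 ya26 za24) (ka xa31 ya57 za28) (ka xa32 ya31 za46)) (@D3.rec (fun _ => Pt) (ka xa28 ya10 za36) (ka xa32 ya31 za61) (ka xa27 ya35 za32) (ka xa28 ya45 za13) (ka xa28 ya9 za18) (ka xa31 ya21 za6) (ka xa30 ya39 za17) (ka xa29 ya36 za57) (ka xa29 ya7 za23) (ka xa30 ya21 za35) (ka xa28 ya58 za40) (ka xa29 ya42 za38) (ka xa27 ya37 za58) (ka xa31 ya52 za53) (ka xa32 ya43 za44) (ka xa32 ya43 za37) (ka xa27 ya37 za5) (ka xa31 ya40 za32) (ka xa32 ya44 za47) (ka xa31 ya51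 za60) (ka xa29 ya36 za16) (ka xa31 ya52 za5) (ka xa31 ya41 za38) (ka xa27 ya37 za56) (ka xa32 ya39 za33) (ka xa27 ya38 za17) (ka xa28 ya4 za22) (ka xa27 ya38 za43) (ka xa32 ya55 za30) (ka xa28 ya38 za45) (ka xa32 ya6 za47) (ka xa32 ya6 za48) (ka xa30 ya34 za51) (ka xa28 ya7 za13) (ka xa31 ya16 za29) (ka xa32 ya6 za57) (ka xa32 ya6 za43) (ka xa29 ya16 za10) (ka xa28 ya46 za34) (ka xa32 ya6 za28) (ka xa27 ya40 za23) (ka xa28 ya36 za31) (ka xa32 ya33 za21) (ka xa31 ya6 za36) (ka xa32 ya30 za24) (ka xa32 ya30 za29) (ka xa29 ya26 za51) (ka xa32 ya29 za7) (ka xa32 ya24 za40) (ka xa32 ya55 za25) (ka xa27 ya41 za0) (ka xa32 ya30 za43) (ka xa27 ya41 za24) (ka xa29 ya0 za22) (ka xa27 ya41 za40) (ka xa32 ya28 za54) (ka xa31 ya43 za7) (ka xa32 ya8 za37) (ka xa30 ya55 za9) (ka xa32 ya38 za11) (ka xa29 ya27 za61) (ka xa32 ya34 za37))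 (@D3.rec (fun _ => Pt) (ka xa32 ya55 za32) (ka xa32 ya55 za28) (ka xa32 ya34 za34) (ka xa29 ya49 za57) (ka xa32 ya22 za37) (ka xa30 ya47 za44) (ka xa28 ya38 za16) (ka xa29 ya28 za19) (ka xa32 ya8 za52) (ka xa27 ya44 za28) (ka xa28 ya44 za6) (ka xa31 ya11 za47) (ka xa31 ya59 za26) (ka xa28 ya41 za44) (ka xa32 ya28 za18) (ka xa32 ya28 za19) (ka xa31 ya6 za40) (ka xa29 ya9 za60) (ka xa32 ya28 za14) (ka xa32 ya28 za15) (ka xa27 ya51 za41) (ka xa32 ya30 za36) (ka xa32 ya31 za18) (ka xa32 ya31 za17) (ka xa30 ya3 za9) (ka xa28 ya3 za2) (ka xa29 ya22 za16) (ka xa28 ya35 za37) (ka xa31 ya31 za29) (ka xa28 ya27 za37) (ka xa27 ya47 za32) (ka xa31 ya6 za56) (ka xa28 ya32 za1) (ka xa32 ya28 za59) (ka xa32 ya54 za15) (ka xa32 ya7 za48) (ka xa29 ya39 za16) (ka xa31 ya8 za20) (ka xa31 ya8 za19) (ka xa27 ya50 za20) (ka xa27 ya52 za20)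 (ka xa27 ya49 za16) (ka xa31 ya1 za22) (ka xa32 ya23 za14) (ka xa32 ya29 za59) (ka xa27 ya49 za29) (ka xa27 ya49 za30) (ka xa27 ya49 za31) (ka xa29 ya2 za30) (ka xa31 ya14 za51) (ka xa30 ya34 za45) (ka xa29 ya21 za1) (ka xa32 ya10 za14) (ka xa31 ya7 za43) (ka xa32 ya27 za55) (ka xa32 ya29 za60) (ka xa32 ya7 za41) (ka xa28 ya27 za21) (ka xa32 ya32 za5) (ka xa32 ya28 za33) (ka xa32 ya10 za5) (ka xa32 ya19 za58)) (@D3.rec (fun _ => Pt) (ka xa27 ya50 za10) (ka xa28 ya32 za6) (ka xa32 ya51 za40) (ka xa27 ya53 za13) (ka xa31 ya14 za41) (ka xa32 ya57 za6) (ka xa29 ya51 za57) (ka xa32 ya27 za47) (ka xa32 ya30 za30) (ka xa27 ya52 za43) (ka xa32 ya31 za43) (ka xa28 ya5 za18) (ka xa30 ya35 za26) (ka xa32 ya31 za60) (ka xa27 ya51 za33) (ka xa32 ya22 za50) (ka xa32 ya26 za46) (ka xa28 ya36 za23) (ka xa32 ya57 za32) (ka xa28 ya47 za20)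 (ka xa28 ya45 za25) (ka xa32 ya8 za27) (ka xa27 ya52 za22) (ka xa28 ya23 za20) (ka xa31 ya0 za14) (ka xa30 ya48 za13) (ka xa32 ya31 za38) (ka xa32 ya29 za53) (ka xa29 ya2 za2) (ka xa27 ya53 za6) (ka xa32 ya9 za43) (ka xa29 ya53 za49) (ka xa32 ya23 za18) (ka xa27 ya52 za11) (ka xa27 ya52 za12) (ka xa27 ya52 za13) (ka xa28 ya9 za1) (ka xa30 ya44 za32) (ka xa32 ya54 za19) (ka xa30 ya44 za29) (ka xa28 ya45 za39) (ka xa32 ya31 za42) (ka xa30 ya44 za58) (ka xa31 ya15 za23) (ka xa28 ya32 za4) (ka xa32 ya17 za14) (ka xa28 ya28 za41) (ka xa30 ya44 za61) (ka xa32 ya17 za15) (ka xa29 ya24 za60) (ka xa27 ya52 za58) (ka xa32 ya19 za36) (ka xa31 ya16 za22) (ka xa32 ya29 za27) (ka xa31 ya16 za23) (ka xa32 ya36 za46) (ka xa31 ya25 za44) (ka xa31 ya23 za44) (ka xa32 ya49 za28) (ka xa32 ya28 za44) (ka xa32 ya28 za55) (ka xa31 ya39 za31))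 (@D3.rec (fun _ => Pt) (ka xa31 ya15 za9) (ka xa30 ya44 za31) (ka xa28 ya57 za2) (ka xa32 ya30 za38) (ka xa32 ya32 za11) (ka xa28 ya27 za23) (ka xa32 ya53 za61) (ka xa27 ya56 za28) (ka xa32 ya30 za37) (ka xa28 ya8 za37) (ka xa28 ya14 za32) (ka xa31 ya14 za61) (ka xa32 ya5 za23) (ka xa30 ya26 za28) (ka xa27 ya55 za13) (ka xa27 ya54 za58) (ka xa32 ya7 za37) (ka xa31 ya56 za29) (ka xa31 ya15 za26) (ka xa32 ya25 za53) (ka xa32 ya53 za29) (ka xa32 ya23 za15) (ka xa27 ya55 za18) (ka xa27 ya56 za34) (ka xa32 ya27 za44) (ka xa27 ya55 za21) (ka xa28 ya9 za14) (ka xa30 ya49 za49) (ka xa32 ya25 za48) (ka xa32 ya27 za45) (ka xa32 ya29 za8) (ka xa32 ya32 za29) (ka xa32 ya43 za8) (ka xa32 ya56 za20) (ka xa32 ya56 za56) (ka xa32 ya43 za7) (ka xa32 ya28 za21) (ka xa32 ya30 za8) (ka xa32 ya30 za3) (ka xa29 ya10 za54) (ka xa29 ya10 za36)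 (ka xa27 ya58 za0) (ka xa30 ya52 za35) (ka xa32 ya27 za51) (ka xa32 ya55 za19) (ka xa31 ya3 za3) (ka xa32 ya16 za5) (ka xa31 ya8 za33) (ka xa32 ya9 za3) (ka xa28 ya36 za2) (ka xa30 ya30 za43) (ka xa32 ya33 za15) (ka xa32 ya32 za36) (ka xa29 ya40 za38) (ka xa32 ya19 za4) (ka xa31 ya23 za34) (ka xa32 ya7 za2) (ka xa30 ya21 za8) (ka xa32 ya14 za27) (ka xa31 ya23 za32) (ka xa28 ya34 za50) (ka xa28 ya57 za12)) (@D3.rec (fun _ => Pt) (ka xa28 ya1 za56) (ka xa32 ya31 za13) (ka xa28 ya3 za59) (ka xa28 ya2 za14) (ka xa31 ya45 za6) (ka xa30 ya44 za37) (ka xa31 ya33 za56) (ka xa31 ya14 za40) (ka xa28 ya2 za26) (ka xa28 ya46 za3) (ka xa28 ya17 za38) (ka xa28 ya46 za31) (ka xa32 ya20 za38) (ka xa32 ya31 za1) (ka xa31 ya0 za0) (ka xa31 ya0 za1) (ka xa31 ya45 za14) (ka xa32 ya28 za23) (ka xa32 ya28 za22) (ka xa32 ya43 za48) (ka xa32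 ya25 za39) (ka xa32 ya53 za60) (ka xa31 ya45 za15) (ka xa32 ya43 za52) (ka xa28 ya23 za24) (ka xa32 ya5 za15) (ka xa32 ya38 za19) (ka xa32 ya25 za4) (ka xa32 ya55 za57) (ka xa32 ya55 za59) (ka xa32 ya25 za52) (ka xa28 ya4 za35) (ka xa32 ya51 za32) (ka xa31 ya9 za61) (ka xa31 ya56 za48) (ka xa31 ya57 za47) (ka xa28 ya5 za5) (ka xa28 ya5 za30) (ka xa32 ya29 za26) (ka xa32 ya32 za16) (ka xa28 ya4 za59) (ka xa31 ya42 za56) (ka xa32 ya29 za41) (ka xa32 ya29 za10) (ka xa32 ya58 za52) (ka xa32 ya53 za28) (ka xa32 ya26 za61) (ka xa28 ya5 za41) (ka xa28 ya5 za47) (ka xa32 ya58 za32) (ka xa31 ya56 za10) (ka xa28 ya36 za13) (ka xa28 ya36 za16) (ka xa28 ya36 za18) (ka xa28 ya36 za19) (ka xa28 ya36 za11) (ka xa32 ya22 za34) (ka xa28 ya32 za58) (ka xa28 ya36 za4) (ka xa28 ya36 za6) (ka xa32 ya29 za13) (ka xa32 ya27 za1)) (@D3.rec (fun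 _ => Pt) (ka xa28 ya6 za21) (ka xa32 ya34 za45) (ka xa31 ya14 za60) (ka xa32 ya43 za10) (ka xa28 ya21 za54) (ka xa32 ya28 za58) (ka xa32 ya9 za25) (ka xa31 ya56 za56) (ka xa31 ya50 za53) (ka xa28 ya19 za20) (ka xa32 ya48 za45) (ka xa32 ya30 za4) (ka xa32 ya57 za53) (ka xa28 ya10 za33) (ka xa30 ya5 za3) (ka xa31 ya10 za45) (ka xa32 ya31 za39) (ka xa29 ya7 za57) (ka xa31 ya16 za43) (ka xa31 ya10 za39) (ka xa30 ya6 za15) (ka xa32 ya26 za27) (ka xa28 ya17 za42) (ka xa32 ya21 za37) (ka xa30 ya58 za44) (ka xa30 ya0 za55) (ka xa31 ya45 za17) (ka xa31 ya45 za16) (ka xa32 ya34 za55) (ka xa32 ya30 za31) (ka xa29 ya10 za60) (ka xa31 ya7 za50) (ka xa31 ya14 za58) (ka xa29 ya10 za59) (ka xa31 ya5 za26) (ka xa31 ya32 za8) (ka xa32 ya30 za52) (ka xa30 ya29 za0) (ka xa29 ya48 za8) (ka xa32 ya43 za11) (ka xa32 ya55 za33) (ka xa28 ya11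 za53) (ka xa32 ya15 za61) (ka xa32 ya55 za43) (ka xa28 ya42 za46) (ka xa31 ya56 za32) (ka xa30 ya2 za41) (ka xa32 ya23 za40) (ka xa32 ya57 za57) (ka xa32 ya50 za45) (ka xa31 ya2 za11) (ka xa32 ya19 za5) (ka xa28 ya13 za40) (ka xa28 ya21 za46) (ka xa28 ya46 za8) (ka xa28 ya48 za10) (ka xa28 ya14 za44) (ka xa32 ya20 za48) (ka xa28 ya21 za40) (ka xa32 ya4 za23) (ka xa31 ya38 za9) (ka xa32 ya56 za6)) (@D3.rec (fun _ => Pt) (ka xa28 ya16 za46) (ka xa30 ya6 za46) (ka xa32 ya51 za41) (ka xa28 ya56 za1) (ka xa31 ya13 za31) (ka xa31 ya24 za1) (ka xa28 ya43 za22) (ka xa29 ya5 za31) (ka xa32 ya34 za1) (ka xa32 ya34 za0) (ka xa29 ya47 za23) (ka xa32 ya37 za57) (ka xa29 ya8 za37) (ka xa30 ya50 za1) (ka xa32 ya33 za19) (ka xa32 ya30 za51) (ka xa32 ya20 za37) (ka xa32 ya16 za45) (ka xa32 ya21 za26) (ka xa32 ya33 za14) (ka xa32 ya48 za2)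 (ka xa32 ya27 za42) (ka xa32 ya44 za0) (ka xa32 ya35 za52) (ka xa32 ya35 za55) (ka xa28 ya36 za9) (ka xa32 ya48 za39) (ka xa28 ya46 za50) (ka xa32 ya33 za35) (ka xa32 ya52 za45) (ka xa32 ya19 za12) (ka xa32 ya34 za26) (ka xa32 ya1 za9) (ka xa32 ya14 za17) (ka xa28 ya24 za7) (ka xa32 ya33 za28) (ka xa28 ya38 za2) (ka xa32 ya42 za36) (ka xa31 ya48 za5) (ka xa30 ya50 za31) (ka xa31 ya37 za14) (ka xa28 ya19 za39) (ka xa28 ya38 za31) (ka xa28 ya21 za48) (ka xa28 ya27 za49) (ka xa32 ya38 za43) (ka xa30 ya33 za7) (ka xa31 ya28 za7) (ka xa30 ya46 za19) (ka xa28 ya42 za3) (ka xa31 ya52 za39) (ka xa30 ya23 za51) (ka xa32 ya34 za10) (ka xa28 ya49 za59) (ka xa28 ya21 za22) (ka xa28 ya29 za43) (ka xa28 ya38 za11) (ka xa28 ya38 za14) (ka xa30 ya21 za61) (ka xa31 ya22 za50) (ka xa31 ya51 za34) (ka xa28 ya33 za33)) (@D3.rec (fun _ =>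 Pt) (ka xa32 ya33 za9) (ka xa32 ya33 za8) (ka xa32 ya40 za14) (ka xa32 ya37 za14) (ka xa28 ya50 za0) (ka xa30 ya16 za20) (ka xa30 ya51 za5) (ka xa32 ya54 za53) (ka xa31 ya30 za51) (ka xa31 ya31 za20) (ka xa32 ya33 za52) (ka xa30 ya56 za18) (ka xa30 ya53 za3) (ka xa31 ya22 za54) (ka xa30 ya29 za51) (ka xa31 ya29 za20) (ka xa30 ya57 za4) (ka xa32 ya2 za22) (ka xa32 ya18 za39) (ka xa32 ya44 za24) (ka xa30 ya47 za28) (ka xa31 ya30 za31) (ka xa31 ya35 za2) (ka xa31 ya47 za36) (ka xa30 ya15 za32) (ka xa32 ya11 za55) (ka xa32 ya33 za31) (ka xa31 ya29 za16) (ka xa32 ya12 za11) (ka xa31 ya1 za21) (ka xa32 ya54 za60) (ka xa31 ya16 za13) (ka xa29 ya37 za39) (ka xa32 ya20 za43) (ka xa32 ya28 za2) (ka xa32 ya15 za41) (ka xa29 ya43 za11) (ka xa32 ya27 za61) (ka xa31 ya52 za59) (ka xa31 ya16 za26) (ka xa31 ya16 za27) (ka xa31 ya16 za28)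 (ka xa29 ya42 za4) (ka xa32 ya18 za30) (ka xa32 ya43 za50) (ka xa32 ya32 za1) (ka xa28 ya25 za47) (ka xa31 ya25 za56) (ka xa32 ya22 za35) (ka xa32 ya16 za31) (ka xa30 ya39 za19) (ka xa32 ya7 za10) (ka xa31 ya38 za58) (ka xa31 ya50 za1) (ka xa32 ya35 za0) (ka xa32 ya32 za28) (ka xa32 ya35 za2) (ka xa29 ya44 za0) (ka xa32 ya7 za4) (ka xa28 ya28 za23) (ka xa30 ya57 za3) (ka xa32 ya38 za38)) (@D3.rec (fun _ => Pt) (ka xa32 ya34 za54) (ka xa32 ya56 za11) (ka xa32 ya34 za56) (ka xa28 ya28 za55) (ka xa28 ya28 za57) (ka xa31 ya26 za59) (ka xa28 ya33 za55) (ka xa28 ya34 za46) (ka xa28 ya29 za9) (ka xa28 ya34 za56) (ka xa32 ya43 za41) (ka xa30 ya34 za52) (ka xa32 ya9 za36) (ka xa28 ya35 za33) (ka xa28 ya35 za14) (ka xa28 ya35 za15) (ka xa28 ya35 za16) (ka xa29 ya43 za19) (ka xa28 ya29 za33) (ka xa28 ya29 za51) (ka xa30 ya21 za38)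 (ka xa32 ya55 za8) (ka xa30 ya39 za49) (ka xa28 ya29 za55) (ka xa28 ya41 za7) (ka xa28 ya39 za14) (ka xa32 ya19 za17) (ka xa28 ya39 za29) (ka xa28 ya30 za5) (ka xa32 ya59 za26) (ka xa28 ya39 za43) (ka xa32 ya57 za4) (ka xa32 ya59 za27) (ka xa28 ya30 za31) (ka xa28 ya42 za10) (ka xa28 ya42 za12) (ka xa28 ya42 za25) (ka xa28 ya43 za49) (ka xa31 ya26 za42) (ka xa31 ya26 za58) (ka xa28 ya45 za30) (ka xa28 ya45 za31) (ka xa32 ya45 za50) (ka xa28 ya47 za18) (ka xa31 ya49 za58) (ka xa32 ya25 za51) (ka xa31 ya51 za16) (ka xa32 ya24 za18) (ka xa31 ya25 za9) (ka xa29 ya5 za34) (ka xa32 ya9 za22) (ka xa32 ya21 za18) (ka xa32 ya33 za23) (ka xa32 ya53 za7) (ka xa32 ya40 za46) (ka xa32 ya33 za24) (ka xa29 ya42 za47) (ka xa28 ya33 za2) (ka xa28 ya38 za38) (ka xa28 ya38 za37) (ka xa32 ya15 za3) (ka xa28 ya33 za5)) (@D3.rec (fun _ => Pt)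 (ka xa32 ya57 za50) (ka xa32 ya40 za55) (ka xa32 ya39 za22) (ka xa28 ya50 za1) (ka xa28 ya40 za47) (ka xa28 ya33 za53) (ka xa32 ya13 za47) (ka xa32 ya36 za17) (ka xa32 ya41 za44) (ka xa32 ya58 za58) (ka xa28 ya35 za8) (ka xa30 ya43 za11) (ka xa30 ya30 za3) (ka xa28 ya40 za1) (ka xa28 ya40 za28) (ka xa31 ya21 za48) (ka xa32 ya46 za53) (ka xa32 ya36 za7) (ka xa32 ya9 za17) (ka xa28 ya35 za17) (ka xa32 ya37 za44) (ka xa32 ya45 za31) (ka xa32 ya58 za57) (ka xa32 ya37 za45) (ka xa30 ya49 za35) (ka xa32 ya57 za20) (ka xa30 ya56 za12) (ka xa28 ya35 za47) (ka xa30 ya21 za21) (ka xa32 ya52 za11) (ka xa31 ya17 za27) (ka xa30 ya22 za13) (ka xa30 ya52 za12) (ka xa32 ya8 za16) (ka xa29 ya36 za8) (ka xa29 ya41 za36) (ka xa31 ya29 za3) (ka xa28 ya36 za61) (ka xa31 ya57 za0) (ka xa31 ya56 za61) (ka xa31 ya52 za36) (ka xa28 ya51 za24)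 (ka xa31 ya52 za30) (ka xa31 ya52 za31) (ka xa32 ya7 za5) (ka xa28 ya37 za25) (ka xa32 ya29 za55) (ka xa32 ya7 za8) (ka xa31 ya53 za19) (ka xa30 ya39 za20) (ka xa32 ya57 za21) (ka xa32 ya50 za26) (ka xa30 ya22 za47) (ka xa30 ya35 za8) (ka xa32 ya12 za28) (ka xa28 ya38 za10) (ka xa31 ya49 za47) (ka xa29 ya16 za2) (ka xa32 ya44 za52) (ka xa28 ya38 za29) (ka xa28 ya38 za30) (ka xa28 ya38 za39)) (@D3.rec (fun _ => Pt) (ka xa32 ya45 za59) (ka xa29 ya8 za46) (ka xa32 ya47 za4) (ka xa30 ya9 za9) (ka xa32 ya39 za38) (ka xa32 ya42 za46) (ka xa32 ya38 za53) (ka xa32 ya40 za59) (ka xa29 ya36 za44) (ka xa32 ya53 za47) (ka xa29 ya8 za27) (ka xa31 ya22 za15) (ka xa28 ya38 za52) (ka xa32 ya40 za34) (ka xa32 ya34 za3) (ka xa32 ya11 za43) (ka xa31 ya33 za6) (ka xa32 ya43 za60) (ka xa32 ya19 za15) (ka xa32 ya13 za32) (ka xa32 ya12 za29)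 (ka xa32 ya19 za13) (ka xa32 ya59 za24) (ka xa32 ya59 za25) (ka xa32 ya12 za19) (ka xa32 ya19 za20) (ka xa28 ya39 za40) (ka xa32 ya18 za35) (ka xa30 ya15 za40) (ka xa32 ya52 za44) (ka xa32 ya59 za7) (ka xa32 ya39 za29) (ka xa32 ya38 za30) (ka xa30 ya38 za25) (ka xa32 ya56 za50) (ka xa28 ya39 za53) (ka xa32 ya47 za44) (ka xa32 ya47 za43) (ka xa32 ya15 za49) (ka xa29 ya40 za40) (ka xa32 ya45 za44) (ka xa29 ya26 za15) (ka xa31 ya29 za49) (ka xa32 ya57 za29) (ka xa32 ya36 za20) (ka xa32 ya36 za23) (ka xa32 ya45 za30) (ka xa32 ya12 za18) (ka xa28 ya40 za9) (ka xa29 ya33 za10) (ka xa28 ya40 za12) (ka xa32 ya18 za59) (ka xa29 ya33 za58) (ka xa32 ya11 za51) (ka xa32 ya11 za52) (ka xa32 ya44 za31) (ka xa32 ya12 za2) (ka xa32 ya33 za11) (ka xa32 ya47 za45) (ka xa31 ya52 za19) (ka xa31 ya52 za21) (ka xa31 ya52 za23)) (@D3.rec (fun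 _ => Pt) (ka xa31 ya52 za24) (ka xa31 ya31 za42) (ka xa32 ya58 za1) (ka xa31 ya32 za51) (ka xa32 ya5 za54) (ka xa32 ya5 za53) (ka xa32 ya16 za9) (ka xa32 ya49 za24) (ka xa32 ya57 za22) (ka xa32 ya5 za50) (ka xa32 ya5 za51) (ka xa32 ya27 za59) (ka xa31 ya55 za59) (ka xa31 ya10 za40) (ka xa31 ya58 za49) (ka xa32 ya42 za3) (ka xa29 ya7 za51) (ka xa30 ya44 za46) (ka xa32 ya17 za41) (ka xa32 ya31 za26) (ka xa28 ya43 za50) (ka xa32 ya59 za19) (ka xa32 ya52 za18) (ka xa31 ya14 za12) (ka xa29 ya7 za33) (ka xa28 ya44 za23) (ka xa31 ya19 za44) (ka xa32 ya13 za48) (ka xa29 ya33 za4) (ka xa32 ya13 za36) (ka xa32 ya37 za32) (ka xa31 ya29 za43) (ka xa31 ya29 za44) (ka xa31 ya28 za20) (ka xa31 ya51 za37) (ka xa32 ya2 za15) (ka xa31 ya51 za30) (ka xa31 ya13 za60) (ka xa32 ya34 za61) (ka xa30 ya27 za17) (ka xa28 ya46 za26) (ka xa30 ya39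 za39) (ka xa30 ya50 za13) (ka xa32 ya33 za45) (ka xa31 ya20 za2) (ka xa28 ya46 za54) (ka xa32 ya39 za60) (ka xa29 ya16 za42) (ka xa30 ya47 za46) (ka xa31 ya58 za47) (ka xa31 ya25 za59) (ka xa28 ya47 za12) (ka xa32 ya50 za49) (ka xa32 ya37 za6) (ka xa31 ya54 za34) (ka xa28 ya48 za35) (ka xa28 ya48 za52) (ka xa32 ya10 za40) (ka xa32 ya48 za51) (ka xa32 ya10 za43) (ka xa32 ya52 za49) (ka xa30 ya15 za57)) (@D3.rec (fun _ => Pt) (ka xa32 ya56 za25) (ka xa32 ya56 za30) (ka xa29 ya45 za32) (ka xa31 ya21 za17) (ka xa28 ya49 za6) (ka xa32 ya58 za25) (ka xa31 ya12 za34) (ka xa28 ya55 za22) (ka xa28 ya55 za20) (ka xa32 ya9 za5) (ka xa31 ya34 za34) (ka xa31 ya11 za21) (ka xa32 ya58 za42) (ka xa31 ya52 za42) (ka xa28 ya55 za25) (ka xa32 ya51 za4) (ka xa31 ya21 za54) (ka xa28 ya52 za28) (ka xa32 ya40 za24) (ka xa28 ya50 za45) (ka xa28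 ya52 za52) (ka xa31 ya22 za5) (ka xa32 ya36 za2) (ka xa32 ya58 za11) (ka xa30 ya48 za34) (ka xa28 ya51 za2) (ka xa32 ya12 za40) (ka xa32 ya41 za47) (ka xa32 ya41 za10) (ka xa32 ya37 za31) (ka xa32 ya20 za59) (ka xa31 ya19 za24) (ka xa28 ya51 za27) (ka xa32 ya27 za24) (ka xa31 ya59 za38) (ka xa32 ya43 za22) (ka xa28 ya51 za51) (ka xa28 ya51 za55) (ka xa32 ya37 za4) (ka xa31 ya51 za14) (ka xa32 ya56 za15) (ka xa31 ya26 za46) (ka xa30 ya5 za57) (ka xa32 ya20 za41) (ka xa32 ya51 za51) (ka xa32 ya22 za12) (ka xa30 ya19 za4) (ka xa32 ya40 za27) (ka xa28 ya52 za32) (ka xa28 ya52 za33) (ka xa29 ya40 za15) (ka xa32 ya51 za7) (ka xa30 ya39 za40) (ka xa30 ya30 za1) (ka xa32 ya41 za49) (ka xa32 ya12 za23) (ka xa30 ya16 za6) (ka xa30 ya22 za14) (ka xa30 ya39 za43) (ka xa32 ya20 za31) (ka xa32 ya38 za46) (ka xa30 ya30 za2)) (@D3.rec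 (fun _ => Pt) (ka xa29 ya47 za8) (ka xa32 ya52 za12) (ka xa32 ya50 za27) (ka xa30 ya22 za30) (ka xa32 ya41 za41) (ka xa30 ya20 za50) (ka xa32 ya42 za43) (ka xa31 ya27 za61) (ka xa30 ya30 za0) (ka xa32 ya8 za9) (ka xa31 ya23 za13) (ka xa32 ya14 za28) (ka xa28 ya54 za20) (ka xa32 ya14 za7) (ka xa32 ya34 za2) (ka xa32 ya44 za34) (ka xa31 ya30 za35) (ka xa32 ya47 za51) (ka xa32 ya52 za21) (ka xa29 ya34 za21) (ka xa30 ya48 za41) (ka xa32 ya14 za31) (ka xa29 ya47 za6) (ka xa30 ya29 za7) (ka xa32 ya39 za18) (ka xa31 ya31 za11) (ka xa32 ya47 za60) (ka xa32 ya39 za47) (ka xa32 ya12 za26) (ka xa32 ya43 za2) (ka xa32 ya13 za20) (ka xa29 ya17 za36) (ka xa28 ya55 za18) (ka xa28 ya55 za17) (ka xa32 ya37 za13) (ka xa28 ya55 za24) (ka xa28 ya55 za30) (ka xa28 ya55 za32) (ka xa30 ya34 za21) (ka xa32 ya56 za47) (ka xa32 ya56 za13) (ka xa32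 ya9 za0) (ka xa32 ya4 za28) (ka xa32 ya56 za14) (ka xa32 ya52 za1) (ka xa32 ya58 za43) (ka xa32 ya35 za54) (ka xa32 ya18 za1) (ka xa32 ya17 za50) (ka xa32 ya9 za6) (ka xa32 ya57 za44) (ka xa31 ya53 za17) (ka xa31 ya51 za3) (ka xa28 ya55 za29) (ka xa32 ya56 za34) (ka xa32 ya36 za1) (ka xa29 ya53 za37) (ka xa32 ya19 za19) (ka xa32 ya8 za55) (ka xa32 ya37 za7) (ka xa30 ya38 za36) (ka xa32 ya42 za45)) (@D3.rec (fun _ => Pt) (ka xa30 ya38 za2) (ka xa32 ya41 za53) (ka xa31 ya26 za18) (ka xa29 ya45 za36) (ka xa32 ya22 za54) (ka xa29 ya46 za52) (ka xa29 ya46 za51) (ka xa29 ya46 za53) (ka xa30 ya53 za10) (ka xa31 ya30 za58) (ka xa32 ya39 za28) (ka xa32 ya46 za51) (ka xa29 ya5 za29) (ka xa32 ya0 za22) (ka xa28 ya58 za32) (ka xa30 ya56 za0) (ka xa28 ya57 za8) (ka xa32 ya0 za44) (ka xa31 ya20 za56) (ka xa32 ya3 za28) (ka xa28 ya59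 za47) (ka xa32 ya13 za57) (ka xa31 ya34 za43) (ka xa32 ya42 za13) (ka xa29 ya41 za22) (ka xa28 ya58 za58) (ka xa28 ya59 za13) (ka xa32 ya9 za41) (ka xa32 ya58 za41) (ka xa32 ya45 za19) (ka xa30 ya11 za23) (ka xa32 ya58 za12) (ka xa32 ya50 za4) (ka xa28 ya59 za56) (ka xa31 ya32 za15) (ka xa29 ya36 za7) (ka xa32 ya4 za21) (ka xa29 ya0 za47) (ka xa29 ya1 za16) (ka xa32 ya23 za20) (ka xa29 ya8 za54) (ka xa32 ya40 za4) (ka xa32 ya9 za40) (ka xa32 ya23 za22) (ka xa32 ya36 za8) (ka xa30 ya15 za44) (ka xa32 ya19 za16) (ka xa32 ya39 za27) (ka xa32 ya59 za38) (ka xa32 ya39 za54) (ka xa31 ya39 za40) (ka xa32 ya52 za2) (ka xa31 ya39 za50) (ka xa32 ya41 za1) (ka xa32 ya56 za0) (ka xa32 ya0 za58) (ka xa29 ya3 za31) (ka xa31 ya9 za17) (ka xa32 ya43 za46) (ka xa32 ya55 za23) (ka xa31 ya34 za40) (ka xa32 ya46 za57)) (@D3.rec (fun _ =>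 Pt) (ka xa29 ya4 za24) (ka xa32 ya24 za31) (ka xa32 ya2 za57) (ka xa32 ya38 za15) (ka xa32 ya46 za58) (ka xa29 ya4 za27) (ka xa31 ya41 za17) (ka xa32 ya49 za25) (ka xa31 ya30 za21) (ka xa32 ya43 za15) (ka xa30 ya11 za25) (ka xa29 ya4 za35) (ka xa32 ya2 za59) (ka xa32 ya41 za23) (ka xa29 ya7 za1) (ka xa32 ya7 za44) (ka xa32 ya49 za37) (ka xa32 ya55 za24) (ka xa31 ya35 za54) (ka xa32 ya42 za33) (ka xa32 ya55 za54) (ka xa29 ya5 za3) (ka xa32 ya19 za21) (ka xa29 ya5 za9) (ka xa31 ya46 za14) (ka xa32 ya57 za55) (ka xa32 ya1 za39) (ka xa32 ya54 za35) (ka xa29 ya5 za14) (ka xa32 ya49 za45) (ka xa31 ya27 za40) (ka xa29 ya56 za60) (ka xa31 ya49 za40) (ka xa32 ya42 za19) (ka xa31 ya3 za41) (ka xa31 ya54 za56) (ka xa32 ya33 za37) (ka xa29 ya7 za3) (ka xa32 ya2 za5) (ka xa29 ya7 za53) (ka xa31 ya28 za39) (ka xa30 ya39 za18) (ka xa29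 ya29 za56) (ka xa32 ya40 za6) (ka xa31 ya24 za7) (ka xa32 ya40 za61) (ka xa32 ya37 za5) (ka xa32 ya44 za61) (ka xa29 ya24 za37) (ka xa31 ya16 za6) (ka xa32 ya20 za21) (ka xa32 ya19 za7) (ka xa30 ya28 za50) (ka xa31 ya36 za11) (ka xa29 ya12 za24) (ka xa29 ya10 za5) (ka xa29 ya13 za52) (ka xa30 ya41 za37) (ka xa31 ya37 za10) (ka xa30 ya10 za33) (ka xa31 ya57 za4) (ka xa30 ya10 za48)) (@D3.rec (fun _ => Pt) (ka xa31 ya20 za15) (ka xa29 ya10 za39) (ka xa32 ya40 za29) (ka xa32 ya12 za48) (ka xa29 ya10 za51) (ka xa29 ya10 za57) (ka xa30 ya33 za34) (ka xa32 ya30 za35) (ka xa32 ya30 za32) (ka xa32 ya4 za60) (ka xa32 ya32 za3) (ka xa32 ya32 za39) (ka xa29 ya11 za19) (ka xa32 ya58 za14) (ka xa32 ya4 za26) (ka xa32 ya42 za9) (ka xa31 ya5 za16) (ka xa32 ya23 za47) (ka xa32 ya6 za31) (ka xa30 ya14 za4) (ka xa32 ya18 za32) (ka xa29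 ya13 za33) (ka xa32 ya39 za35) (ka xa31 ya41 za4) (ka xa31 ya51 za47) (ka xa32 ya26 za19) (ka xa32 ya55 za50) (ka xa32 ya50 za50) (ka xa29 ya14 za12) (ka xa32 ya59 za17) (ka xa32 ya17 za61) (ka xa29 ya14 za22) (ka xa32 ya59 za40) (ka xa32 ya59 za41) (ka xa32 ya56 za39) (ka xa32 ya17 za60) (ka xa32 ya44 za44) (ka xa32 ya27 za15) (ka xa30 ya52 za27) (ka xa32 ya18 za44) (ka xa29 ya15 za14) (ka xa32 ya35 za10) (ka xa32 ya53 za24) (ka xa29 ya15 za18) (ka xa32 ya27 za14) (ka xa31 ya4 za21) (ka xa32 ya41 za58) (ka xa32 ya9 za51) (ka xa32 ya31 za19) (ka xa29 ya16 za0) (ka xa32 ya34 za44) (ka xa32 ya2 za43) (ka xa32 ya31 za23) (ka xa32 ya57 za59) (ka xa29 ya16 za44) (ka xa32 ya49 za38) (ka xa31 ya5 za36) (ka xa31 ya10 za48) (ka xa30 ya20 za53) (ka xa29 ya43 za36) (ka xa32 ya37 za17) (ka xa31 ya50 za33)) (@D3.rec (fun _ => Pt) (ka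 xa32 ya33 za22) (ka xa30 ya24 za23) (ka xa30 ya31 za20) (ka xa31 ya42 za55) (ka xa32 ya7 za25) (ka xa31 ya14 za57) (ka xa31 ya56 za11) (ka xa32 ya54 za25) (ka xa30 ya53 za6) (ka xa30 ya29 za52) (ka xa29 ya42 za37) (ka xa32 ya18 za22) (ka xa32 ya10 za20) (ka xa30 ya29 za11) (ka xa31 ya59 za52) (ka xa30 ya42 za19) (ka xa31 ya6 za45) (ka xa31 ya53 za15) (ka xa29 ya41 za40) (ka xa31 ya11 za29) (ka xa30 ya45 za1) (ka xa30 ya25 za24) (ka xa29 ya52 za44) (ka xa31 ya54 za2) (ka xa32 ya34 za19) (ka xa32 ya2 za41) (ka xa31 ya43 za25) (ka xa30 ya30 za41) (ka xa29 ya25 za34) (ka xa31 ya49 za59) (ka xa29 ya40 za51) (ka xa32 ya37 za55) (ka xa32 ya19 za38) (ka xa29 ya26 za18) (ka xa32 ya40 za15) (ka xa32 ya13 za35) (ka xa29 ya26 za30) (ka xa32 ya47 za38) (ka xa29 ya45 za5) (ka xa32 ya50 za52) (ka xa32 ya57 za34) (ka xa32 ya57 za9) (ka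 xa32 ya17 za54) (ka xa32 ya17 za58) (ka xa32 ya43 za36) (ka xa29 ya27 za23) (ka xa32 ya51 za26) (ka xa32 ya27 za18) (ka xa32 ya18 za0) (ka xa32 ya18 za2) (ka xa29 ya37 za20) (ka xa31 ya25 za8) (ka xa32 ya36 za58) (ka xa29 ya28 za17) (ka xa32 ya18 za24) (ka xa32 ya21 za58) (ka xa32 ya10 za15) (ka xa32 ya17 za35) (ka xa32 ya21 za14) (ka xa30 ya57 za52) (ka xa29 ya29 za13) (ka xa32 ya42 za47)) (@D3.rec (fun _ => Pt) (ka xa31 ya24 za6) (ka xa32 ya21 za16) (ka xa30 ya56 za60) (ka xa29 ya31 za57) (ka xa30 ya15 za43) (ka xa29 ya34 za6) (ka xa29 ya34 za5) (ka xa32 ya23 za8) (ka xa32 ya22 za61) (ka xa29 ya34 za20) (ka xa29 ya34 za22) (ka xa31 ya33 za35) (ka xa31 ya30 za29) (ka xa32 ya8 za57) (ka xa30 ya25 za59) (ka xa30 ya29 za47) (ka xa32 ya9 za2) (ka xa30 ya28 za5) (ka xa31 ya28 za21) (ka xa32 ya41 za29) (ka xa32 ya21 za53) (ka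 xa30 ya14 za35) (ka xa30 ya16 za17) (ka xa32 ya12 za33) (ka xa32 ya12 za45) (ka xa32 ya12 za31) (ka xa29 ya46 za11) (ka xa31 ya27 za28) (ka xa30 ya15 za24) (ka xa29 ya33 za21) (ka xa32 ya37 za46) (ka xa32 ya36 za21) (ka xa30 ya15 za19) (ka xa31 ya14 za4) (ka xa32 ya57 za25) (ka xa32 ya57 za26) (ka xa32 ya22 za58) (ka xa32 ya47 za56) (ka xa29 ya45 za53) (ka xa30 ya31 za3) (ka xa31 ya33 za2) (ka xa31 ya33 za1) (ka xa29 ya33 za50) (ka xa29 ya33 za51) (ka xa32 ya37 za40) (ka xa32 ya13 za34) (ka xa32 ya14 za18) (ka xa31 ya24 za42) (ka xa32 ya45 za55) (ka xa32 ya46 za50) (ka xa32 ya35 za42) (ka xa31 ya31 za7) (ka xa30 ya16 za3) (ka xa32 ya23 za0) (ka xa30 ya29 za33) (ka xa32 ya45 za48) (ka xa31 ya21 za5) (ka xa31 ya13 za32) (ka xa32 ya17 za47) (ka xa32 ya37 za0) (ka xa31 ya32 za30) (ka xa32 ya59 za36)) (@D3.rec (fun _ => Pt)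 (ka xa32 ya59 za21) (ka xa29 ya36 za10) (ka xa29 ya36 za11) (ka xa29 ya36 za12) (ka xa29 ya36 za13) (ka xa32 ya50 za0) (ka xa31 ya21 za16) (ka xa32 ya59 za48) (ka xa32 ya59 za49) (ka xa30 ya19 za6) (ka xa32 ya59 za14) (ka xa32 ya59 za47) (ka xa31 ya41 za49) (ka xa32 ya59 za18) (ka xa32 ya17 za46) (ka xa32 ya17 za48) (ka xa32 ya17 za49) (ka xa30 ya31 za50) (ka xa31 ya19 za52) (ka xa32 ya53 za52) (ka xa30 ya49 za50) (ka xa32 ya52 za56) (ka xa29 ya37 za5) (ka xa32 ya57 za42) (ka xa32 ya58 za39) (ka xa30 ya22 za0) (ka xa32 ya57 za16) (ka xa29 ya43 za23) (ka xa31 ya30 za60) (ka xa29 ya45 za19) (ka xa30 ya28 za11) (ka xa30 ya50 za20) (ka xa29 ya40 za21) (ka xa32 ya9 za20) (ka xa31 ya59 za45) (ka xa32 ya58 za26) (ka xa32 ya14 za58) (ka xa30 ya30 za4) (ka xa30 ya30 za59) (ka xa31 ya39 za10) (ka xa31 ya20 za40) (ka xa29 ya40 za11)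 (ka xa32 ya18 za36) (ka xa30 ya31 za23) (ka xa31 ya55 za42) (ka xa29 ya40 za28) (ka xa30 ya17 za35) (ka xa30 ya17 za36) (ka xa29 ya40 za31) (ka xa31 ya30 za49) (ka xa32 ya45 za49) (ka xa32 ya41 za11) (ka xa31 ya31 za10) (ka xa32 ya36 za16) (ka xa30 ya54 za10) (ka xa31 ya52 za4) (ka xa32 ya46 za60) (ka xa32 ya41 za61) (ka xa32 ya42 za4) (ka xa30 ya56 za6) (ka xa32 ya46 za56) (ka xa31 ya50 za21)) (@D3.rec (fun _ => Pt) (ka xa32 ya57 za56) (ka xa31 ya49 za16) (ka xa31 ya30 za28) (ka xa32 ya13 za41) (ka xa32 ya37 za2) (ka xa30 ya15 za25) (ka xa30 ya27 za47) (ka xa32 ya50 za61) (ka xa31 ya20 za36) (ka xa31 ya21 za30) (ka xa29 ya43 za51) (ka xa29 ya50 za53) (ka xa29 ya45 za48) (ka xa32 ya12 za54) (ka xa29 ya46 za35) (ka xa31 ya27 za25) (ka xa32 ya47 za25) (ka xa29 ya47 za16) (ka xa31 ya48 za24) (ka xa31 ya51 za12) (ka xa32 ya13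 za42) (ka xa32 ya13 za46) (ka xa29 ya45 za14) (ka xa29 ya45 za17) (ka xa29 ya45 za18) (ka xa32 ya47 za16) (ka xa30 ya15 za23) (ka xa29 ya45 za40) (ka xa30 ya21 za30) (ka xa31 ya20 za5) (ka xa31 ya52 za28) (ka xa30 ya31 za9) (ka xa32 ya59 za33) (ka xa30 ya31 za4) (ka xa30 ya31 za5) (ka xa31 ya51 za38) (ka xa31 ya51 za40) (ka xa32 ya12 za27) (ka xa32 ya44 za37) (ka xa32 ya11 za42) (ka xa32 ya1 za1) (ka xa32 ya12 za24) (ka xa32 ya12 za25) (ka xa32 ya37 za37) (ka xa32 ya37 za36) (ka xa32 ya37 za58) (ka xa30 ya25 za48) (ka xa31 ya20 za41) (ka xa31 ya20 za22) (ka xa32 ya10 za42) (ka xa31 ya29 za24) (ka xa32 ya40 za17) (ka xa32 ya51 za3) (ka xa32 ya59 za29) (ka xa29 ya46 za54) (ka xa30 ya28 za0) (ka xa32 ya45 za37) (ka xa31 ya17 za20) (ka xa32 ya56 za52) (ka xa32 ya56 za61) (ka xa32 ya40 za26) (ka xa32 ya20 za25)) (@D3.rec (fun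 _ => Pt) (ka xa29 ya48 za14) (ka xa32 ya52 za6) (ka xa32 ya33 za20) (ka xa30 ya19 za2) (ka xa29 ya48 za27) (ka xa31 ya15 za16) (ka xa29 ya48 za30) (ka xa31 ya26 za11) (ka xa31 ya47 za19) (ka xa31 ya31 za31) (ka xa32 ya0 za21) (ka xa31 ya56 za52) (ka xa29 ya49 za46) (ka xa31 ya4 za42) (ka xa30 ya40 za28) (ka xa30 ya41 za19) (ka xa31 ya27 za52) (ka xa32 ya8 za49) (ka xa29 ya58 za18) (ka xa32 ya52 za61) (ka xa30 ya0 za46) (ka xa32 ya48 za60) (ka xa29 ya58 za33) (ka xa29 ya58 za35) (ka xa32 ya2 za33) (ka xa32 ya23 za42) (ka xa31 ya32 za24) (ka xa29 ya52 za9) (ka xa30 ya13 za36) (ka xa31 ya31 za52) (ka xa30 ya48 za43) (ka xa31 ya25 za35) (ka xa30 ya46 za55) (ka xa30 ya24 za30) (ka xa31 ya33 za20) (ka xa30 ya22 za49) (ka xa29 ya53 za42) (ka xa30 ya55 za20) (ka xa32 ya55 za52) (ka xa32 ya33 za26) (ka xa31 ya25 za40) (ka xa29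 ya54 za50) (ka xa32 ya22 za5) (ka xa32 ya21 za41) (ka xa31 ya4 za60) (ka xa32 ya32 za10) (ka xa32 ya1 za26) (ka xa30 ya52 za28) (ka xa32 ya21 za5) (ka xa32 ya21 za2) (ka xa32 ya50 za34) (ka xa32 ya38 za58) (ka xa29 ya56 za36) (ka xa29 ya56 za61) (ka xa32 ya6 za54) (ka xa29 ya57 za15) (ka xa29 ya58 za13) (ka xa31 ya11 za55) (ka xa29 ya57 za31) (ka xa32 ya54 za37) (ka xa32 ya48 za21) (ka xa30 ya20 za15)) (@D3.rec (fun _ => Pt) (ka xa32 ya49 za4) (ka xa31 ya29 za4) (ka xa30 ya1 za40) (ka xa31 ya30 za20) (ka xa32 ya49 za0) (ka xa32 ya49 za46) (ka xa32 ya49 za48) (ka xa32 ya2 za32) (ka xa30 ya4 za55) (ka xa32 ya55 za36) (ka xa31 ya8 za52) (ka xa32 ya49 za43) (ka xa32 ya50 za43) (ka xa30 ya9 za20) (ka xa31 ya4 za5) (ka xa30 ya38 za57) (ka xa29 ya59 za34) (ka xa31 ya56 za17) (ka xa30 ya41 za6) (ka xa31 ya28 za50) (ka xa32 ya4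 za35) (ka xa31 ya7 za61) (ka xa30 ya0 za56) (ka xa31 ya12 za22) (ka xa32 ya38 za7) (ka xa32 ya42 za7) (ka xa32 ya58 za46) (ka xa31 ya10 za41) (ka xa32 ya29 za58) (ka xa31 ya45 za22) (ka xa31 ya33 za43) (ka xa30 ya58 za55) (ka xa32 ya49 za47) (ka xa31 ya10 za43) (ka xa31 ya42 za30) (ka xa31 ya27 za53) (ka xa31 ya27 za54) (ka xa32 ya42 za16) (ka xa32 ya43 za55) (ka xa30 ya3 za37) (ka xa32 ya50 za47) (ka xa30 ya22 za42) (ka xa32 ya57 za33) (ka xa32 ya49 za11) (ka xa31 ya58 za48) (ka xa32 ya42 za29) (ka xa32 ya49 za5) (ka xa32 ya49 za32) (ka xa32 ya49 za6) (ka xa31 ya58 za8) (ka xa31 ya34 za6) (ka xa31 ya47 za22) (ka xa32 ya59 za9) (ka xa32 ya59 za20) (ka xa32 ya21 za19) (ka xa32 ya20 za23) (ka xa32 ya20 za18) (ka xa32 ya22 za43) (ka xa30 ya5 za42) (ka xa30 ya50 za40) (ka xa32 ya54 za28) (ka xa30 ya19 za0)) (@D3.rec (fun _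 => Pt) (ka xa32 ya46 za5) (ka xa32 ya59 za8) (ka xa30 ya5 za50) (ka xa30 ya5 za51) (ka xa32 ya41 za32) (ka xa32 ya20 za27) (ka xa30 ya10 za11) (ka xa31 ya55 za6) (ka xa31 ya55 za7) (ka xa32 ya55 za17) (ka xa32 ya53 za15) (ka xa32 ya53 za5) (ka xa31 ya19 za61) (ka xa31 ya20 za1) (ka xa32 ya59 za35) (ka xa30 ya38 za44) (ka xa30 ya15 za26) (ka xa30 ya58 za53) (ka xa30 ya33 za24) (ka xa30 ya58 za52) (ka xa32 ya55 za14) (ka xa30 ya59 za8) (ka xa31 ya56 za13) (ka xa31 ya19 za58) (ka xa31 ya19 za59) (ka xa31 ya48 za18) (ka xa32 ya36 za51) (ka xa32 ya40 za2) (ka xa30 ya35 za29) (ka xa32 ya3 za6) (ka xa30 ya29 za38) (ka xa32 ya11 za8) (ka xa30 ya9 za37) (ka xa32 ya10 za27) (ka xa32 ya48 za50) (ka xa31 ya6 za12) (ka xa30 ya10 za26) (ka xa31 ya58 za1) (ka xa30 ya29 za31) (ka xa30 ya11 za56) (ka xa31 ya29 za25) (ka xa32 ya12 za60)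 (ka xa30 ya34 za22) (ka xa32 ya49 za12) (ka xa30 ya13 za19) (ka xa32 ya32 za49) (ka xa32 ya56 za23) (ka xa32 ya49 za40) (ka xa32 ya54 za4) (ka xa32 ya38 za52) (ka xa32 ya43 za27) (ka xa30 ya13 za49) (ka xa32 ya44 za39) (ka xa32 ya54 za18) (ka xa32 ya53 za17) (ka xa30 ya15 za28) (ka xa30 ya15 za56) (ka xa31 ya20 za42) (ka xa32 ya21 za50) (ka xa32 ya12 za21) (ka xa32 ya52 za51) (ka xa32 ya47 za7)) (@D3.rec (fun _ => Pt) (ka xa32 ya15 za10) (ka xa31 ya30 za59) (ka xa30 ya16 za21) (ka xa32 ya47 za52) (ka xa32 ya39 za15) (ka xa32 ya19 za6) (ka xa32 ya23 za10) (ka xa32 ya39 za51) (ka xa31 ya33 za22) (ka xa30 ya18 za56) (ka xa30 ya19 za3) (ka xa30 ya19 za7) (ka xa30 ya18 za27) (ka xa30 ya18 za36) (ka xa30 ya22 za12) (ka xa30 ya20 za54) (ka xa32 ya56 za44) (ka xa30 ya18 za49) (ka xa32 ya51 za22) (ka xa32 ya58 za38) (ka xa32 ya58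 za37) (ka xa30 ya43 za25) (ka xa32 ya51 za18) (ka xa32 ya59 za46) (ka xa32 ya59 za56) (ka xa32 ya59 za55) (ka xa32 ya44 za46) (ka xa30 ya19 za5) (ka xa32 ya20 za51) (ka xa30 ya19 za10) (ka xa30 ya38 za43) (ka xa32 ya4 za29) (ka xa32 ya31 za32) (ka xa32 ya51 za35) (ka xa30 ya21 za32) (ka xa32 ya51 za33) (ka xa32 ya53 za36) (ka xa30 ya21 za1) (ka xa32 ya57 za54) (ka xa32 ya52 za60) (ka xa32 ya29 za2) (ka xa32 ya33 za2) (ka xa30 ya56 za26) (ka xa32 ya58 za3) (ka xa31 ya51 za42) (ka xa31 ya15 za13) (ka xa30 ya21 za34) (ka xa32 ya59 za13) (ka xa31 ya52 za11) (ka xa31 ya51 za51) (ka xa32 ya52 za50) (ka xa32 ya39 za44) (ka xa32 ya58 za5) (ka xa30 ya21 za59) (ka xa30 ya21 za60) (ka xa32 ya52 za39) (ka xa30 ya21 za58) (ka xa32 ya59 za1) (ka xa32 ya59 za43) (ka xa32 ya54 za52) (ka xa32 ya59 za59) (ka xa32 ya59 za22)) (@D3.rec (fun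 _ => Pt) (ka xa32 ya52 za37) (ka xa32 ya40 za44) (ka xa32 ya41 za51) (ka xa32 ya16 za44) (ka xa31 ya13 za49) (ka xa30 ya45 za10) (ka xa32 ya48 za1) (ka xa32 ya56 za29) (ka xa31 ya13 za51) (ka xa30 ya34 za31) (ka xa30 ya22 za29) (ka xa32 ya36 za29) (ka xa32 ya40 za1) (ka xa32 ya53 za25) (ka xa30 ya37 za50) (ka xa30 ya37 za53) (ka xa32 ya3 za0) (ka xa32 ya57 za61) (ka xa32 ya38 za22) (ka xa32 ya16 za52) (ka xa32 ya21 za20) (ka xa32 ya40 za18) (ka xa30 ya30 za60) (ka xa31 ya18 za4) (ka xa31 ya25 za36) (ka xa31 ya25 za33) (ka xa30 ya49 za12) (ka xa32 ya24 za16) (ka xa32 ya2 za4) (ka xa31 ya23 za55) (ka xa30 ya28 za25) (ka xa32 ya59 za11) (ka xa32 ya58 za40) (ka xa32 ya52 za47) (ka xa31 ya55 za44) (ka xa31 ya31 za15) (ka xa30 ya38 za23) (ka xa32 ya52 za0) (ka xa31 ya40 za13) (ka xa32 ya51 za55) (ka xa30 ya34 za24) (ka xa30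 ya28 za53) (ka xa32 ya23 za4) (ka xa30 ya28 za56) (ka xa32 ya37 za29) (ka xa32 ya33 za29) (ka xa30 ya28 za59) (ka xa32 ya52 za33) (ka xa32 ya23 za5) (ka xa32 ya38 za60) (ka xa32 ya51 za50) (ka xa32 ya50 za60) (ka xa30 ya29 za40) (ka xa32 ya16 za33) (ka xa31 ya23 za1) (ka xa31 ya33 za24) (ka xa32 ya46 za21) (ka xa31 ya13 za38) (ka xa31 ya43 za27) (ka xa30 ya31 za16) (ka xa32 ya51 za39) (ka xa32 ya48 za19)) (@D3.rec (fun _ => Pt) (ka xa32 ya54 za38) (ka xa32 ya53 za55) (ka xa30 ya39 za26) (ka xa31 ya21 za37) (ka xa32 ya54 za14) (ka xa32 ya50 za11) (ka xa31 ya23 za4) (ka xa32 ya35 za53) (ka xa31 ya16 za47) (ka xa30 ya34 za25) (ka xa31 ya18 za40) (ka xa32 ya5 za10) (ka xa31 ya29 za32) (ka xa32 ya54 za11) (ka xa30 ya33 za37) (ka xa32 ya50 za10) (ka xa30 ya58 za15) (ka xa32 ya50 za54) (ka xa30 ya37 za5) (ka xa30 ya39 za31) (ka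 xa32 ya59 za4) (ka xa30 ya45 za7) (ka xa32 ya5 za21) (ka xa30 ya34 za30) (ka xa32 ya43 za42) (ka xa32 ya52 za13) (ka xa31 ya0 za13) (ka xa31 ya16 za42) (ka xa32 ya31 za45) (ka xa32 ya30 za20) (ka xa30 ya35 za27) (ka xa30 ya35 za30) (ka xa32 ya55 za20) (ka xa32 ya54 za30) (ka xa31 ya15 za18) (ka xa32 ya56 za37) (ka xa32 ya51 za36) (ka xa31 ya55 za17) (ka xa31 ya17 za1) (ka xa31 ya0 za25) (ka xa31 ya58 za59) (ka xa32 ya58 za6) (ka xa31 ya8 za32) (ka xa31 ya55 za45) (ka xa32 ya54 za46) (ka xa32 ya16 za55) (ka xa32 ya16 za56) (ka xa32 ya37 za9) (ka xa31 ya15 za14) (ka xa32 ya58 za16) (ka xa31 ya22 za24) (ka xa30 ya38 za28) (ka xa32 ya46 za19) (ka xa32 ya21 za27) (ka xa32 ya58 za15) (ka xa32 ya53 za1) (ka xa31 ya51 za43) (ka xa31 ya57 za61) (ka xa32 ya56 za10) (ka xa31 ya29 za30) (ka xa32 ya31 za21) (ka xa32 ya30 za6)) (@D3.rec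 (fun _ => Pt) (ka xa30 ya40 za50) (ka xa32 ya5 za9) (ka xa32 ya54 za20) (ka xa32 ya54 za16) (ka xa32 ya50 za48) (ka xa30 ya40 za27) (ka xa32 ya57 za5) (ka xa31 ya54 za54) (ka xa31 ya54 za55) (ka xa30 ya42 za3) (ka xa31 ya29 za2) (ka xa32 ya53 za13) (ka xa30 ya41 za7) (ka xa31 ya9 za34) (ka xa32 ya53 za4) (ka xa32 ya28 za34) (ka xa32 ya54 za3) (ka xa32 ya4 za55) (ka xa32 ya50 za53) (ka xa32 ya29 za38) (ka xa32 ya54 za2) (ka xa31 ya11 za25) (ka xa32 ya55 za35) (ka xa31 ya34 za35) (ka xa32 ya6 za32) (ka xa32 ya44 za7) (ka xa32 ya18 za29) (ka xa30 ya46 za35) (ka xa32 ya49 za60) (ka xa32 ya55 za13) (ka xa32 ya53 za33) (ka xa32 ya2 za38) (ka xa31 ya14 za56) (ka xa32 ya54 za44) (ka xa32 ya54 za49) (ka xa32 ya42 za27) (ka xa32 ya54 za50) (ka xa32 ya48 za59) (ka xa32 ya53 za0) (ka xa32 ya55 za5) (ka xa30 ya48 za42) (ka xa30 ya48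 za44) (ka xa32 ya59 za54) (ka xa31 ya20 za0) (ka xa32 ya54 za33) (ka xa32 ya54 za47) (ka xa32 ya53 za44) (ka xa32 ya54 za45) (ka xa30 ya49 za56) (ka xa32 ya54 za34) (ka xa32 ya54 za36) (ka xa30 ya49 za60) (ka xa32 ya51 za59) (ka xa32 ya34 za7) (ka xa32 ya2 za14) (ka xa31 ya23 za11) (ka xa31 ya23 za7) (ka xa31 ya3 za57) (ka xa31 ya1 za3) (ka xa31 ya1 za2) (ka xa32 ya34 za30) (ka xa32 ya8 za14)) (@D3.rec (fun _ => Pt) (ka xa31 ya30 za30) (ka xa31 ya33 za27) (ka xa32 ya21 za32) (ka xa31 ya46 za21) (ka xa30 ya54 za47) (ka xa32 ya54 za39) (ka xa31 ya47 za40) (ka xa31 ya20 za30) (ka xa32 ya35 za21) (ka xa32 ya59 za3) (ka xa30 ya58 za41) (ka xa30 ya59 za42) (ka xa31 ya0 za2) (ka xa32 ya54 za29) (ka xa32 ya50 za20) (ka xa31 ya33 za55) (ka xa31 ya33 za60) (ka xa32 ya50 za9) (ka xa32 ya26 za56) (ka xa32 ya30 za44) (ka xa32 ya53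 za32) (ka xa31 ya2 za3) (ka xa31 ya57 za60) (ka xa32 ya41 za59) (ka xa32 ya42 za17) (ka xa32 ya27 za49) (ka xa31 ya3 za19) (ka xa31 ya3 za39) (ka xa32 ya28 za1) (ka xa31 ya34 za48) (ka xa32 ya27 za28) (ka xa31 ya4 za17) (ka xa32 ya28 za0) (ka xa32 ya32 za40) (ka xa32 ya58 za61) (ka xa32 ya54 za22) (ka xa32 ya49 za9) (ka xa32 ya55 za60) (ka xa31 ya32 za59) (ka xa31 ya19 za28) (ka xa31 ya14 za59) (ka xa31 ya57 za22) (ka xa32 ya4 za56) (ka xa32 ya32 za43) (ka xa32 ya4 za51) (ka xa31 ya36 za18) (ka xa32 ya16 za6) (ka xa31 ya9 za40) (ka xa32 ya56 za22) (ka xa32 ya58 za27) (ka xa32 ya43 za26) (ka xa32 ya58 za53) (ka xa32 ya48 za38) (ka xa32 ya26 za52) (ka xa32 ya42 za20) (ka xa32 ya22 za4) (ka xa32 ya2 za56) (ka xa32 ya31 za28) (ka xa32 ya56 za19) (ka xa32 ya31 za29) (ka xa32 ya55 za37) (ka xa32 ya16 za59)) (@D3.rec (fun _ =>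 Pt) (ka xa32 ya41 za54) (ka xa31 ya13 za26) (ka xa32 ya59 za23) (ka xa32 ya56 za35) (ka xa32 ya20 za53) (ka xa32 ya20 za35) (ka xa32 ya32 za61) (ka xa31 ya13 za56) (ka xa32 ya59 za52) (ka xa32 ya24 za60) (ka xa32 ya53 za58) (ka xa32 ya35 za1) (ka xa31 ya51 za32) (ka xa32 ya40 za40) (ka xa32 ya40 za43) (ka xa32 ya39 za40) (ka xa31 ya15 za21) (ka xa31 ya16 za16) (ka xa31 ya19 za60) (ka xa32 ya55 za58) (ka xa32 ya30 za33) (ka xa32 ya57 za58) (ka xa32 ya55 za48) (ka xa32 ya50 za46) (ka xa31 ya55 za39) (ka xa32 ya39 za0) (ka xa32 ya20 za47) (ka xa31 ya31 za41) (ka xa31 ya32 za50) (ka xa32 ya52 za7) (ka xa32 ya39 za1) (ka xa32 ya58 za59) (ka xa32 ya57 za39) (ka xa32 ya59 za53) (ka xa32 ya40 za54) (ka xa32 ya56 za3) (ka xa31 ya51 za49) (ka xa32 ya53 za35) (ka xa32 ya58 za54) (ka xa32 ya43 za34) (ka xa32 ya58 za48) (ka xa31 ya21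 za25) (ka xa32 ya59 za44) (ka xa31 ya33 za29) (ka xa32 ya51 za16) (ka xa32 ya59 za6) (ka xa31 ya56 za34) (ka xa32 ya40 za39) (ka xa31 ya48 za25) (ka xa31 ya24 za28) (ka xa32 ya37 za34) (ka xa32 ya59 za34) (ka xa32 ya47 za58) (ka xa32 ya1 za40) (ka xa32 ya6 za10) (ka xa32 ya59 za31) (ka xa32 ya30 za34) (ka xa32 ya10 za44) (ka xa31 ya27 za9) (ka xa32 ya0 za11) (ka xa31 ya29 za56) (ka xa32 ya47 za59)) (@D3.rec (fun _ => Pt) (ka xa32 ya58 za60) (ka xa31 ya27 za21) (ka xa32 ya57 za18) (ka xa32 ya23 za31) (ka xa32 ya35 za31) (ka xa32 ya54 za6) (ka xa32 ya29 za5) (ka xa32 ya58 za50) (ka xa32 ya15 za13) (ka xa32 ya44 za41) (ka xa32 ya13 za56) (ka xa31 ya30 za4) (ka xa32 ya15 za2) (ka xa32 ya23 za7) (ka xa32 ya12 za32) (ka xa31 ya31 za18) (ka xa32 ya46 za26) (ka xa32 ya59 za45) (ka xa32 ya57 za2) (ka xa31 ya32 za5) (ka xa32 ya36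 za25) (ka xa32 ya36 za50) (ka xa32 ya38 za8) (ka xa32 ya57 za27) (ka xa31 ya44 za23) (ka xa32 ya45 za34) (ka xa32 ya45 za35) (ka xa32 ya57 za23) (ka xa32 ya15 za45) (ka xa32 ya37 za43) (ka xa32 ya16 za58) (ka xa32 ya4 za25) (ka xa32 ya29 za18) (ka xa32 ya49 za42) (ka xa32 ya44 za40) (ka xa32 ya58 za31) (ka xa32 ya7 za13) (ka xa32 ya4 za27) (ka xa32 ya57 za51) (ka xa32 ya56 za32) (ka xa31 ya40 za11) (ka xa31 ya40 za14) (ka xa32 ya46 za23) (ka xa31 ya51 za46) (ka xa32 ya40 za50) (ka xa31 ya51 za54) (ka xa31 ya51 za41) (ka xa32 ya4 za19) (ka xa32 ya17 za44) (ka xa32 ya17 za45) (ka xa32 ya36 za0) (ka xa32 ya57 za38) (ka xa31 ya55 za41) (ka xa32 ya32 za12) (ka xa32 ya51 za38) (ka xa32 ya42 za25) (ka xa32 ya47 za0) (ka xa32 ya32 za48) (ka xa32 ya56 za21) (ka xa32 ya43 za53) (ka xa31 ya54 za22) (ka xa32 ya52 za17)) (@D3.rec (fun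 _ => Pt) (ka xa32 ya58 za28) (ka xa32 ya38 za2) (ka xa32 ya58 za4) (ka xa32 ya51 za43) (ka xa32 ya58 za2) (ka xa32 ya51 za52) (ka xa32 ya53 za41) (ka xa31 ya52 za10) (ka xa32 ya22 za38) (ka xa31 ya51 za44) (ka xa31 ya52 za58) (ka xa32 ya39 za23) (ka xa32 ya41 za31) (ka xa31 ya51 za31) (ka xa32 ya43 za13) (ka xa32 ya53 za54) (ka xa32 ya53 za49) (ka xa32 ya59 za5) (ka xa32 ya17 za22) (ka xa31 ya52 za12) (ka xa31 ya52 za14) (ka xa31 ya52 za16) (ka xa32 ya59 za10) (ka xa32 ya59 za57) (ka xa32 ya59 za2) (ka xa32 ya39 za5) (ka xa32 ya46 za35) (ka xa32 ya55 za49) (ka xa32 ya58 za0) (ka xa31 ya53 za11) (ka xa32 ya20 za34) (ka xa32 ya57 za35) (ka xa32 ya31 za49) (ka xa32 ya58 za44) (ka xa32 ya58 za47) (ka xa32 ya20 za2) (ka xa31 ya57 za1) (ka xa32 ya51 za20) (ka xa32 ya51 za19) (ka xa32 ya46 za24) (ka xa32 ya52 za32) (ka xa32 ya41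 za28) (ka xa32 ya39 za12) (ka xa32 ya40 za45) (ka xa32 ya58 za33) (ka xa32 ya59 za39) (ka xa32 ya49 za26) (ka xa32 ya58 za34) (ka xa32 ya56 za40) (ka xa32 ya16 za8) (ka xa32 ya57 za7) (ka xa32 ya26 za50) (ka xa32 ya31 za44) (ka xa32 ya55 za51) (ka xa32 ya56 za38) (ka xa32 ya59 za30) (ka xa32 ya59 za32) (ka xa32 ya36 za22) (ka xa32 ya36 za9) (ka xa32 ya56 za31) (ka xa32 ya57 za0) (ka xa32 ya55 za34)) (@D3.rec (fun _ => Pt) (ka xa32 ya18 za19) (ka xa32 ya51 za57) (ka xa32 ya58 za24) (ka xa32 ya55 za9) (ka xa32 ya53 za20) (ka xa32 ya58 za17) (ka xa32 ya56 za45) (ka xa32 ya37 za30) (ka xa32 ya50 za1) (ka xa32 ya49 za52) (ka xa32 ya58 za22) (ka xa32 ya52 za31) (ka xa32 ya20 za46) (ka xa32 ya51 za47) (ka xa32 ya46 za10) (ka xa32 ya26 za25) (ka xa32 ya26 za17) (ka xa32 ya43 za29) (ka xa32 ya46 za13) (ka xa32 ya38 za21) (ka xa32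 ya49 za53) (ka xa32 ya46 za0) (ka xa32 ya51 za61) (ka xa32 ya56 za2) (ka xa32 ya37 za22) (ka xa32 ya37 za23) (ka xa32 ya35 za29) (ka xa32 ya35 za32) (ka xa32 ya59 za37) (ka xa32 ya47 za53) (ka xa32 ya58 za55) (ka xa32 ya56 za55) (ka xa32 ya58 za56) (ka xa32 ya47 za32) (ka xa32 ya56 za51) (ka xa32 ya50 za14) (ka xa32 ya45 za61) (ka xa32 ya59 za28) (ka xa32 ya41 za48) (ka xa32 ya58 za45) (ka xa32 ya43 za32) (ka xa32 ya43 za33) (ka xa32 ya59 za61) (ka xa32 ya51 za58) (ka xa32 ya56 za42) (ka xa32 ya57 za17) (ka xa32 ya51 za23) (ka xa32 ya46 za11) (ka xa32 ya46 za7) (ka xa32 ya46 za8) (ka xa32 ya59 za60) (ka xa32 ya59 za58) (ka xa32 ya56 za8) (ka xa32 ya56 za33) (ka xa32 ya54 za42) (ka xa32 ya51 za25) (ka xa32 ya51 za24) (ka xa32 ya58 za23) (ka xa32 ya59 za51) (ka xa32 ya51 za60) (ka xa32 ya59 za50) (ka xa32 ya59 za42))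
def f_a : Pt → Pt := @Pt.rec (fun _ => Pt) (@D1.rec (fun _ => D2 → D3 → Pt) f_a_0 f_a_1 f_a_2 f_a_3 f_a_4 f_a_5 f_a_6 f_a_7 f_a_8 f_a_9 f_a_10 f_a_11 f_a_12 f_a_13 f_a_14 f_a_15 f_a_16 f_a_17 f_a_18 f_a_19 f_a_20 f_a_21 f_a_22 f_a_23 f_a_24 f_a_25 f_a_26 f_a_27 f_a_28 f_a_29 f_a_30 f_a_31 f_a_32)
def fi_a : Pt → Pt := f_a

theorem inv_chk_a : chkInv allPts beqPt f_a fi_a = true := by decide +kernel

end

end Cfsg.Agent.Helper28.S1692
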