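import Cfsg.Agent.Lib.Helper28.S1692.Defs

set_option autoImplicit false
set_option maxRecDepth 100000
set_option linter.all false

namespace Cfsg.Agent.Helper28.S1692

open Cfsg.Agent.Helper28
open Cfsg.Spor.ON (Gen)

noncomputable section

abbrev kb := Pt.mk
abbrev xb0 := D1.c0
abbrev xb1 := D1.c1
abbrev xb2 := D1.c2
abbrev xb3 := D1.c3
abbrev xb4 := D1.c4
abbrev xb5 := D1.c5
abbrev xb6 := D1.c6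
abbrev xb7 := D1.c7
abbrev xb8 := D1.c8
abbrev xb9 := D1.c9
abbrev xb10 := D1.c10
abbrev xb11 := D1.c11
abbrev xb12 := D1.c12
abbrev xb13 := D1.c13
abbrev xb14 := D1.c14
abbrev xb15 := D1.c15
abbrev xb16 := D1.c16
abbrev xb17 := D1.c17
abbrev xb18 := D1.c18
abbrev xb19 := D1.c19
abbrev xb20 := D1.c20
abbrev xb21 := D1.c21
abbrev xb22 := D1.c22
abbrev xb23 := D1.c23
abbrev xb24 := D1.c24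
abbrev xb25 := D1.c25
abbrev xb26 := D1.c26
abbrev xb27 := D1.c27
abbrev xb28 := D1.c28
abbrev xb29 := D1.c29
abbrev xb30 := D1.c30
abbrev xb31 := D1.c31
abbrev xb32 := D1.c32
abbrev yb0 := D2.c0
abbrev yb1 := D2.c1
abbrev yb2 := D2.c2
abbrev yb3 := D2.c3
abbrev yb4 := D2.c4
abbrev yb5 := D2.c5
abbrev yb6 := D2.c6
abbrev yb7 := D2.c7
abbrev yb8 := D2.c8
abbrev yb9 := D2.c9
abbrev yb10 := D2.c10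
abbrev yb11 := D2.c11
abbrev yb12 := D2.c12
abbrev yb13 := D2.c13
abbrev yb14 := D2.c14
abbrev yb15 := D2.c15
abbrev yb16 := D2.c16
abbrev yb17 := D2.c17
abbrev yb18 := D2.c18
abbrev yb19 := D2.c19
abbrev yb20 := D2.c20
abbrev yb21 := D2.c21
abbrev yb22 := D2.c22
abbrev yb23 := D2.c23
abbrev yb24 := D2.c24
abbrev yb25 := D2.c25
abbrev yb26 := D2.c26
abbrev yb27 := D2.c27
abbrev yb28 := D2.c28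
abbrev yb29 := D2.c29
abbrev yb30 := D2.c30
abbrev yb31 := D2.c31
abbrev yb32 := D2.c32
abbrev yb33 := D2.c33
abbrev yb34 := D2.c34
abbrev yb35 := D2.c35
abbrev yb36 := D2.c36
abbrev yb37 := D2.c37
abbrev yb38 := D2.c38
abbrev yb39 := D2.c39
abbrev yb40 := D2.c40
abbrev yb41 := D2.c41
abbrev yb42 := D2.c42
abbrev yb43 := D2.c43
abbrev yb44 := D2.c44
abbrev yb45 := D2.c45
abbrev yb46 := D2.c46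
abbrev yb47 := D2.c47
abbrev yb48 := D2.c48
abbrev yb49 := D2.c49
abbrev yb50 := D2.c50
abbrev yb51 := D2.c51
abbrev yb52 := D2.c52
abbrev yb53 := D2.c53
abbrev yb54 := D2.c54
abbrev yb55 := D2.c55
abbrev yb56 := D2.c56
abbrev yb57 := D2.c57
abbrev yb58 := D2.c58
abbrev yb59 := D2.c59
abbrev zb0 := D3.c0
abbrev zb1 := D3.c1
abbrev zb2 := D3.c2
abbrev zb3 := D3.c3
abbrev zb4 := D3.c4
abbrev zb5 := D3.c5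
abbrev zb6 := D3.c6
abbrev zb7 := D3.c7
abbrev zb8 := D3.c8
abbrev zb9 := D3.c9
abbrev zb10 := D3.c10
abbrev zb11 := D3.c11
abbrev zb12 := D3.c12
abbrev zb13 := D3.c13
abbrev zb14 := D3.c14
abbrev zb15 := D3.c15
abbrev zb16 := D3.c16
abbrev zb17 := D3.c17
abbrev zb18 := D3.c18
abbrev zb19 := D3.c19
abbrev zb20 := D3.c20
abbrev zb21 := D3.c21
abbrev zb22 := D3.c22
abbrev zb23 := D3.c23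
abbrev zb24 := D3.c24
abbrev zb25 := D3.c25
abbrev zb26 := D3.c26
abbrev zb27 := D3.c27
abbrev zb28 := D3.c28
abbrev zb29 := D3.c29
abbrev zb30 := D3.c30
abbrev zb31 := D3.c31
abbrev zb32 := D3.c32
abbrev zb33 := D3.c33
abbrev zb34 := D3.c34
abbrev zb35 := D3.c35
abbrev zb36 := D3.c36
abbrev zb37 := D3.c37
abbrev zb38 := D3.c38
abbrev zb39 := D3.c39
abbrev zb40 := D3.c40
abbrev zb41 := D3.c41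
abbrev zb42 := D3.c42
abbrev zb43 := D3.c43
abbrev zb44 := D3.c44
abbrev zb45 := D3.c45
abbrev zb46 := D3.c46
abbrev zb47 := D3.c47
abbrev zb48 := D3.c48
abbrev zb49 := D3.c49
abbrev zb50 := D3.c50
abbrev zb51 := D3.c51
abbrev zb52 := D3.c52
abbrev zb53 := D3.c53
abbrev zb54 := D3.c54
abbrev zb55 := D3.c55
abbrev zb56 := D3.c56
abbrev zb57 := D3.c57
abbrev zb58 := D3.c58
abbrev zb59 := D3.c59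
abbrev zb60 := D3.c60
abbrev zb61 := D3.c61
def f_b_0 : D2 → D3 → Pt := @D2.rec (fun _ => D3 → Pt) (@D3.rec (fun _ => Pt) (kb xb0 yb0 zb0) (kb xb0 yb0 zb2) (kb xb0 yb0 zb1) (kb xb0 yb0 zb13) (kb xb0 yb0 zb10) (kb xb0 yb0 zb11) (kb xb0 yb0 zb7) (kb xb0 yb0 zb6) (kb xb0 yb0 zb8) (kb xb0 yb0 zb29) (kb xb0 yb0 zb4) (kb xb0 yb0 zb5) (kb xb0 yb0 zb40) (kb xb0 yb0 zb3) (kb xb0 yb0 zb43) (kb xb0 yb0 zb44) (kb xb0 yb0 zb16) (kb xb0 yb0 zb35) (kb xb0 yb0 zb18) (kb xb0 yb0 zb19) (kb xb0 yb0 zb38) (kb xb0 yb0 zb39) (kb xb0 yb1 zb0) (kb xb0 yb1 zb2) (kb xb0 yb1 zb4) (kb xb0 yb0 zb25) (kb xb0 yb0 zb26) (kb xb0 yb0 zb27) (kb xb0 yb1 zb14) (kb xb0 yb0 zb9) (kb xb0 yb1 zb16) (kb xb0 yb1 zb17) (kb xb0 yb0 zb33) (kb xb0 yb0 zb32) (kb xb0 yb1 zb32) (kb xb0 yb0 zb17) (kb xb0 yb1 zb9) (kb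 xb0 yb1 zb10) (kb xb0 yb0 zb20) (kb xb0 yb0 zb21) (kb xb0 yb0 zb12) (kb xb0 yb0 zb41) (kb xb0 yb0 zb42) (kb xb0 yb0 zb14) (kb xb0 yb0 zb15) (kb xb0 yb1 zb49) (kb xb0 yb1 zb50) (kb xb0 yb1 zb59) (kb xb0 yb1 zb52) (kb xb0 yb1 zb53) (kb xb0 yb1 zb54) (kb xb0 yb0 zb51) (kb xb0 yb0 zb52) (kb xb0 yb1 zb36) (kb xb0 yb1 zb37) (kb xb0 yb0 zb55) (kb xb0 yb0 zb56) (kb xb0 yb0 zb57) (kb xb0 yb0 zb58) (kb xb0 yb2 zb15) (kb xb0 yb1 zb45) (kb xb0 yb2 zb19)) (@D3.rec (fun _ => Pt) (kb xb0 yb0 zb22) (kb xb0 yb2 zb25) (kb xb0 yb0 zb23) (kb xb0 yb2 zb31) (kb xb0 yb0 zb24) (kb xb0 yb2 zb34) (kb xb0 yb2 zb35) (kb xb0 yb2 zb42) (kb xb0 yb1 zb8) (kb xb0 yb0 zb36) (kb xb0 yb0 zb37) (kb xb0 yb1 zb11) (kb xb0 yb1 zb12) (kb xb0 yb1 zb13) (kb xb0 yb0 zb28) (kb xb0 yb2 zb59) (kb xb0 yb0 zb30) (kb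 xb0 yb0 zb31) (kb xb0 yb1 zb18) (kb xb0 yb3 zb8) (kb xb0 yb3 zb13) (kb xb0 yb3 zb3) (kb xb0 yb1 zb22) (kb xb0 yb3 zb21) (kb xb0 yb3 zb4) (kb xb0 yb3 zb5) (kb xb0 yb3 zb29) (kb xb0 yb1 zb29) (kb xb0 yb3 zb31) (kb xb0 yb1 zb27) (kb xb0 yb1 zb30) (kb xb0 yb3 zb34) (kb xb0 yb0 zb34) (kb xb0 yb2 zb27) (kb xb0 yb3 zb36) (kb xb0 yb2 zb45) (kb xb0 yb0 zb53) (kb xb0 yb0 zb54) (kb xb0 yb3 zb46) (kb xb0 yb2 zb49) (kb xb0 yb3 zb51) (kb xb0 yb2 zb51) (kb xb0 yb2 zb52) (kb xb0 yb2 zb53) (kb xb0 yb3 zb60) (kb xb0 yb0 zb60) (kb xb0 yb1 zb46) (kb xb0 yb1 zb47) (kb xb0 yb1 zb48) (kb xb0 yb0 zb45) (kb xb0 yb0 zb46) (kb xb0 yb1 zb51) (kb xb0 yb0 zb48) (kb xb0 yb0 zb49) (kb xb0 yb0 zb50) (kb xb0 yb4 zb6) (kb xb0 yb4 zb16) (kb xb0 yb4 zb8) (kb xb0 yb4 zb9) (kb xb0 yb0 zb47) (kb xb0 yb4 zb19)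 (kb xb0 yb4 zb11)) (@D3.rec (fun _ => Pt) (kb xb0 yb4 zb24) (kb xb0 yb4 zb13) (kb xb0 yb4 zb26) (kb xb0 yb4 zb15) (kb xb0 yb4 zb30) (kb xb0 yb3 zb44) (kb xb0 yb4 zb35) (kb xb0 yb2 zb7) (kb xb0 yb4 zb41) (kb xb0 yb2 zb9) (kb xb0 yb4 zb45) (kb xb0 yb4 zb47) (kb xb0 yb2 zb12) (kb xb0 yb4 zb51) (kb xb0 yb4 zb53) (kb xb0 yb0 zb59) (kb xb0 yb4 zb59) (kb xb0 yb4 zb60) (kb xb0 yb4 zb1) (kb xb0 yb0 zb61) (kb xb0 yb5 zb5) (kb xb0 yb5 zb6) (kb xb0 yb2 zb58) (kb xb0 yb2 zb23) (kb xb0 yb2 zb30) (kb xb0 yb1 zb1) (kb xb0 yb5 zb19) (kb xb0 yb1 zb33) (kb xb0 yb5 zb24) (kb xb0 yb5 zb18) (kb xb0 yb2 zb24) (kb xb0 yb1 zb3) (kb xb0 yb5 zb33) (kb xb0 yb5 zb32) (kb xb0 yb1 zb5) (kb xb0 yb1 zb6) (kb xb0 yb5 zb46) (kb xb0 yb5 zb41) (kb xb0 yb5 zb52) (kb xb0 yb2 zb39) (kb xb0 yb5 zb44) (kb xb0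 yb5 zb45) (kb xb0 yb1 zb7) (kb xb0 yb5 zb30) (kb xb0 yb5 zb61) (kb xb0 yb1 zb35) (kb xb0 yb2 zb46) (kb xb0 yb2 zb47) (kb xb0 yb5 zb42) (kb xb0 yb1 zb39) (kb xb0 yb6 zb9) (kb xb0 yb1 zb41) (kb xb0 yb1 zb42) (kb xb0 yb1 zb43) (kb xb0 yb6 zb18) (kb xb0 yb2 zb55) (kb xb0 yb6 zb22) (kb xb0 yb2 zb57) (kb xb0 yb2 zb22) (kb xb0 yb1 zb15) (kb xb0 yb6 zb31) (kb xb0 yb6 zb30)) (@D3.rec (fun _ => Pt) (kb xb0 yb6 zb36) (kb xb0 yb5 zb38) (kb xb0 yb6 zb39) (kb xb0 yb1 zb21) (kb xb0 yb1 zb24) (kb xb0 yb1 zb25) (kb xb0 yb6 zb49) (kb xb0 yb3 zb7) (kb xb0 yb1 zb19) (kb xb0 yb6 zb56) (kb xb0 yb6 zb55) (kb xb0 yb7 zb0) (kb xb0 yb7 zb2) (kb xb0 yb1 zb20) (kb xb0 yb7 zb7) (kb xb0 yb7 zb8) (kb xb0 yb3 zb16) (kb xb0 yb7 zb17) (kb xb0 yb6 zb43) (kb xb0 yb6 zb44) (kb xb0 yb3 zb20) (kb xb0 yb1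 zb23) (kb xb0 yb3 zb22) (kb xb0 yb7 zb29) (kb xb0 yb3 zb24) (kb xb0 yb7 zb34) (kb xb0 yb7 zb39) (kb xb0 yb6 zb48) (kb xb0 yb5 zb60) (kb xb0 yb1 zb26) (kb xb0 yb7 zb47) (kb xb0 yb1 zb28) (kb xb0 yb7 zb49) (kb xb0 yb3 zb33) (kb xb0 yb1 zb31) (kb xb0 yb7 zb53) (kb xb0 yb1 zb34) (kb xb0 yb7 zb55) (kb xb0 yb5 zb23) (kb xb0 yb3 zb39) (kb xb0 yb7 zb54) (kb xb0 yb7 zb48) (kb xb0 yb8 zb1) (kb xb0 yb8 zb5) (kb xb0 yb2 zb5) (kb xb0 yb8 zb9) (kb xb0 yb1 zb38) (kb xb0 yb8 zb13) (kb xb0 yb3 zb48) (kb xb0 yb8 zb21) (kb xb0 yb6 zb8) (kb xb0 yb1 zb40) (kb xb0 yb8 zb27) (kb xb0 yb8 zb30) (kb xb0 yb6 zb12) (kb xb0 yb8 zb35) (kb xb0 yb8 zb37) (kb xb0 yb6 zb15) (kb xb0 yb8 zb42) (kb xb0 yb8 zb44) (kb xb0 yb1 zb44) (kb xb0 yb8 zb51)) (@D3.rec (fun _ => Pt) (kb xb0 yb8 zb52) (kb xb0 yb2 zb18)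 (kb xb0 yb4 zb2) (kb xb0 yb4 zb3) (kb xb0 yb4 zb4) (kb xb0 yb4 zb5) (kb xb0 yb1 zb55) (kb xb0 yb4 zb7) (kb xb0 yb1 zb57) (kb xb0 yb1 zb58) (kb xb0 yb4 zb10) (kb xb0 yb1 zb61) (kb xb0 yb4 zb12) (kb xb0 yb2 zb1) (kb xb0 yb9 zb8) (kb xb0 yb2 zb3) (kb xb0 yb1 zb56) (kb xb0 yb9 zb12) (kb xb0 yb9 zb1) (kb xb0 yb1 zb60) (kb xb0 yb9 zb16) (kb xb0 yb9 zb15) (kb xb0 yb9 zb21) (kb xb0 yb9 zb6) (kb xb0 yb2 zb0) (kb xb0 yb9 zb7) (kb xb0 yb2 zb2) (kb xb0 yb9 zb28) (kb xb0 yb9 zb29) (kb xb0 yb9 zb11) (kb xb0 yb2 zb4) (kb xb0 yb9 zb35) (kb xb0 yb9 zb36) (kb xb0 yb8 zb8) (kb xb0 yb9 zb41) (kb xb0 yb2 zb6) (kb xb0 yb9 zb46) (kb xb0 yb9 zb47) (kb xb0 yb9 zb53) (kb xb0 yb8 zb25) (kb xb0 yb4 zb40) (kb xb0 yb2 zb8) (kb xb0 yb9 zb59) (kb xb0 yb9 zb60) (kb xb0 yb4 zb44) (kb xb0 yb2 zb10) (kb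 xb0 yb10 zb5) (kb xb0 yb2 zb11) (kb xb0 yb10 zb10) (kb xb0 yb10 zb11) (kb xb0 yb8 zb40) (kb xb0 yb2 zb13) (kb xb0 yb10 zb18) (kb xb0 yb2 zb14) (kb xb0 yb10 zb24) (kb xb0 yb10 zb25) (kb xb0 yb10 zb29) (kb xb0 yb10 zb33) (kb xb0 yb4 zb58) (kb xb0 yb2 zb16) (kb xb0 yb2 zb17) (kb xb0 yb10 zb44)) (@D3.rec (fun _ => Pt) (kb xb0 yb10 zb46) (kb xb0 yb10 zb48) (kb xb0 yb10 zb41) (kb xb0 yb10 zb42) (kb xb0 yb10 zb43) (kb xb0 yb2 zb20) (kb xb0 yb2 zb21) (kb xb0 yb10 zb60) (kb xb0 yb10 zb57) (kb xb0 yb10 zb59) (kb xb0 yb6 zb27) (kb xb0 yb6 zb28) (kb xb0 yb5 zb12) (kb xb0 yb5 zb13) (kb xb0 yb5 zb29) (kb xb0 yb6 zb29) (kb xb0 yb5 zb16) (kb xb0 yb11 zb20) (kb xb0 yb2 zb29) (kb xb0 yb2 zb26) (kb xb0 yb11 zb27) (kb xb0 yb11 zb26) (kb xb0 yb11 zb33) (kb xb0 yb3 zb38) (kb xb0 yb2 zb28)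 (kb xb0 yb11 zb42) (kb xb0 yb11 zb47) (kb xb0 yb6 zb25) (kb xb0 yb11 zb25) (kb xb0 yb5 zb14) (kb xb0 yb2 zb43) (kb xb0 yb11 zb57) (kb xb0 yb2 zb33) (kb xb0 yb2 zb32) (kb xb0 yb12 zb3) (kb xb0 yb6 zb33) (kb xb0 yb12 zb11) (kb xb0 yb11 zb61) (kb xb0 yb3 zb1) (kb xb0 yb11 zb5) (kb xb0 yb12 zb21) (kb xb0 yb2 zb37) (kb xb0 yb2 zb48) (kb xb0 yb11 zb10) (kb xb0 yb2 zb40) (kb xb0 yb2 zb41) (kb xb0 yb2 zb36) (kb xb0 yb12 zb37) (kb xb0 yb12 zb42) (kb xb0 yb5 zb49) (kb xb0 yb12 zb26) (kb xb0 yb12 zb27) (kb xb0 yb2 zb38) (kb xb0 yb12 zb53) (kb xb0 yb5 zb54) (kb xb0 yb12 zb58) (kb xb0 yb5 zb56) (kb xb0 yb13 zb2) (kb xb0 yb12 zb33) (kb xb0 yb7 zb46) (kb xb0 yb3 zb28) (kb xb0 yb2 zb44)) (@D3.rec (fun _ => Pt) (kb xb0 yb11 zb56) (kb xb0 yb13 zb15) (kb xb0 yb13 zb9) (kb xb0 yb13 zb10)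 (kb xb0 yb13 zb8) (kb xb0 yb13 zb17) (kb xb0 yb12 zb28) (kb xb0 yb13 zb25) (kb xb0 yb3 zb50) (kb xb0 yb2 zb50) (kb xb0 yb13 zb30) (kb xb0 yb13 zb33) (kb xb0 yb3 zb54) (kb xb0 yb13 zb37) (kb xb0 yb13 zb39) (kb xb0 yb3 zb57) (kb xb0 yb13 zb42) (kb xb0 yb10 zb23) (kb xb0 yb2 zb54) (kb xb0 yb13 zb49) (kb xb0 yb13 zb50) (kb xb0 yb6 zb21) (kb xb0 yb2 zb56) (kb xb0 yb13 zb59) (kb xb0 yb14 zb0) (kb xb0 yb5 zb27) (kb xb0 yb6 zb26) (kb xb0 yb5 zb10) (kb xb0 yb5 zb11) (kb xb0 yb5 zb15) (kb xb0 yb2 zb61) (kb xb0 yb2 zb60) (kb xb0 yb14 zb11) (kb xb0 yb5 zb35) (kb xb0 yb11 zb60) (kb xb0 yb14 zb10) (kb xb0 yb3 zb0) (kb xb0 yb14 zb18) (kb xb0 yb12 zb16) (kb xb0 yb3 zb2) (kb xb0 yb14 zb30) (kb xb0 yb14 zb33) (kb xb0 yb14 zb36) (kb xb0 yb3 zb18) (kb xb0 yb3 zb19) (kb xb0 yb14 zb43) (kb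 xb0 yb14 zb44) (kb xb0 yb14 zb46) (kb xb0 yb3 zb27) (kb xb0 yb3 zb6) (kb xb0 yb14 zb53) (kb xb0 yb14 zb58) (kb xb0 yb14 zb20) (kb xb0 yb6 zb53) (kb xb0 yb6 zb54) (kb xb0 yb3 zb10) (kb xb0 yb3 zb9) (kb xb0 yb15 zb10) (kb xb0 yb14 zb23) (kb xb0 yb15 zb17) (kb xb0 yb15 zb8) (kb xb0 yb15 zb9)) (@D3.rec (fun _ => Pt) (kb xb0 yb3 zb11) (kb xb0 yb15 zb28) (kb xb0 yb3 zb12) (kb xb0 yb15 zb34) (kb xb0 yb15 zb37) (kb xb0 yb15 zb40) (kb xb0 yb12 zb36) (kb xb0 yb3 zb14) (kb xb0 yb3 zb15) (kb xb0 yb15 zb47) (kb xb0 yb15 zb56) (kb xb0 yb15 zb59) (kb xb0 yb15 zb50) (kb xb0 yb15 zb51) (kb xb0 yb16 zb4) (kb xb0 yb7 zb15) (kb xb0 yb7 zb16) (kb xb0 yb3 zb17) (kb xb0 yb16 zb17) (kb xb0 yb16 zb15) (kb xb0 yb16 zb16) (kb xb0 yb7 zb21) (kb xb0 yb16 zb26) (kb xb0 yb16 zb32) (kb xb0 yb14 zb42)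 (kb xb0 yb16 zb36) (kb xb0 yb16 zb41) (kb xb0 yb7 zb27) (kb xb0 yb8 zb11) (kb xb0 yb3 zb23) (kb xb0 yb7 zb30) (kb xb0 yb16 zb52) (kb xb0 yb16 zb50) (kb xb0 yb16 zb57) (kb xb0 yb3 zb25) (kb xb0 yb16 zb61) (kb xb0 yb16 zb60) (kb xb0 yb17 zb5) (kb xb0 yb17 zb8) (kb xb0 yb3 zb26) (kb xb0 yb17 zb14) (kb xb0 yb17 zb15) (kb xb0 yb14 zb49) (kb xb0 yb13 zb7) (kb xb0 yb7 zb52) (kb xb0 yb7 zb45) (kb xb0 yb5 zb59) (kb xb0 yb3 zb30) (kb xb0 yb3 zb41) (kb xb0 yb3 zb32) (kb xb0 yb17 zb26) (kb xb0 yb12 zb30) (kb xb0 yb7 zb44) (kb xb0 yb3 zb35) (kb xb0 yb3 zb40) (kb xb0 yb3 zb37) (kb xb0 yb17 zb33) (kb xb0 yb7 zb57) (kb xb0 yb17 zb41) (kb xb0 yb11 zb37) (kb xb0 yb11 zb38) (kb xb0 yb17 zb49)) (@D3.rec (fun _ => Pt) (kb xb0 yb13 zb19) (kb xb0 yb3 zb42) (kb xb0 yb17 zb55) (kb xb0 yb17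 zb57) (kb xb0 yb17 zb59) (kb xb0 yb3 zb43) (kb xb0 yb18 zb2) (kb xb0 yb18 zb3) (kb xb0 yb4 zb33) (kb xb0 yb3 zb45) (kb xb0 yb18 zb8) (kb xb0 yb7 zb28) (kb xb0 yb10 zb58) (kb xb0 yb3 zb47) (kb xb0 yb18 zb17) (kb xb0 yb18 zb20) (kb xb0 yb18 zb16) (kb xb0 yb18 zb25) (kb xb0 yb8 zb18) (kb xb0 yb18 zb28) (kb xb0 yb18 zb31) (kb xb0 yb3 zb49) (kb xb0 yb18 zb36) (kb xb0 yb18 zb37) (kb xb0 yb8 zb24) (kb xb0 yb4 zb39) (kb xb0 yb13 zb29) (kb xb0 yb3 zb52) (kb xb0 yb18 zb49) (kb xb0 yb18 zb48) (kb xb0 yb3 zb53) (kb xb0 yb18 zb57) (kb xb0 yb18 zb58) (kb xb0 yb13 zb36) (kb xb0 yb19 zb2) (kb xb0 yb3 zb55) (kb xb0 yb19 zb6) (kb xb0 yb3 zb56) (kb xb0 yb19 zb13) (kb xb0 yb19 zb14) (kb xb0 yb4 zb50) (kb xb0 yb8 zb41) (kb xb0 yb3 zb58) (kb xb0 yb19 zb22) (kb xb0 yb3 zb59) (kb xb0 yb8 zb45)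 (kb xb0 yb19 zb27) (kb xb0 yb19 zb28) (kb xb0 yb19 zb34) (kb xb0 yb19 zb38) (kb xb0 yb13 zb48) (kb xb0 yb3 zb61) (kb xb0 yb4 zb0) (kb xb0 yb19 zb49) (kb xb0 yb19 zb51) (kb xb0 yb19 zb53) (kb xb0 yb19 zb46) (kb xb0 yb19 zb47) (kb xb0 yb19 zb48) (kb xb0 yb8 zb59) (kb xb0 yb8 zb60) (kb xb0 yb20 zb0)) (@D3.rec (fun _ => Pt) (kb xb0 yb9 zb0) (kb xb0 yb4 zb18) (kb xb0 yb9 zb2) (kb xb0 yb20 zb5) (kb xb0 yb9 zb4) (kb xb0 yb20 zb10) (kb xb0 yb4 zb23) (kb xb0 yb4 zb25) (kb xb0 yb4 zb14) (kb xb0 yb20 zb17) (kb xb0 yb20 zb18) (kb xb0 yb4 zb29) (kb xb0 yb4 zb17) (kb xb0 yb20 zb26) (kb xb0 yb20 zb3) (kb xb0 yb4 zb21) (kb xb0 yb4 zb20) (kb xb0 yb20 zb34) (kb xb0 yb20 zb28) (kb xb0 yb20 zb8) (kb xb0 yb20 zb30) (kb xb0 yb4 zb22) (kb xb0 yb20 zb40) (kb xb0 yb20 zb11) (kb xb0 yb20 zb12)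 (kb xb0 yb20 zb44) (kb xb0 yb20 zb48) (kb xb0 yb9 zb27) (kb xb0 yb4 zb27) (kb xb0 yb4 zb28) (kb xb0 yb20 zb56) (kb xb0 yb20 zb57) (kb xb0 yb21 zb2) (kb xb0 yb21 zb6) (kb xb0 yb9 zb34) (kb xb0 yb4 zb31) (kb xb0 yb4 zb32) (kb xb0 yb21 zb16) (kb xb0 yb21 zb13) (kb xb0 yb21 zb14) (kb xb0 yb21 zb15) (kb xb0 yb4 zb34) (kb xb0 yb21 zb27) (kb xb0 yb21 zb29) (kb xb0 yb21 zb33) (kb xb0 yb9 zb45) (kb xb0 yb4 zb36) (kb xb0 yb4 zb37) (kb xb0 yb21 zb41) (kb xb0 yb21 zb50) (kb xb0 yb21 zb51) (kb xb0 yb21 zb44) (kb xb0 yb21 zb45) (kb xb0 yb4 zb38) (kb xb0 yb21 zb56) (kb xb0 yb21 zb57) (kb xb0 yb21 zb59) (kb xb0 yb22 zb0) (kb xb0 yb9 zb58) (kb xb0 yb4 zb42) (kb xb0 yb4 zb43) (kb xb0 yb22 zb9)) (@D3.rec (fun _ => Pt) (kb xb0 yb22 zb11) (kb xb0 yb22 zb12) (kb xb0 yb22 zb19) (kb xb0 yb22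 zb22) (kb xb0 yb10 zb4) (kb xb0 yb4 zb46) (kb xb0 yb22 zb26) (kb xb0 yb22 zb29) (kb xb0 yb22 zb31) (kb xb0 yb10 zb9) (kb xb0 yb4 zb48) (kb xb0 yb4 zb49) (kb xb0 yb22 zb36) (kb xb0 yb22 zb41) (kb xb0 yb22 zb39) (kb xb0 yb22 zb32) (kb xb0 yb22 zb45) (kb xb0 yb10 zb17) (kb xb0 yb4 zb52) (kb xb0 yb22 zb52) (kb xb0 yb22 zb23) (kb xb0 yb22 zb58) (kb xb0 yb10 zb22) (kb xb0 yb6 zb17) (kb xb0 yb4 zb54) (kb xb0 yb4 zb55) (kb xb0 yb23 zb10) (kb xb0 yb10 zb27) (kb xb0 yb23 zb15) (kb xb0 yb4 zb56) (kb xb0 yb23 zb24) (kb xb0 yb23 zb20) (kb xb0 yb23 zb21) (kb xb0 yb4 zb57) (kb xb0 yb23 zb33) (kb xb0 yb23 zb31) (kb xb0 yb23 zb32) (kb xb0 yb10 zb37) (kb xb0 yb23 zb43) (kb xb0 yb23 zb46) (kb xb0 yb23 zb51) (kb xb0 yb5 zb2) (kb xb0 yb5 zb3) (kb xb0 yb5 zb4) (kb xb0 yb4 zb61) (kb xb0 yb24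 zb2) (kb xb0 yb5 zb0) (kb xb0 yb24 zb8) (kb xb0 yb5 zb1) (kb xb0 yb24 zb15) (kb xb0 yb24 zb20) (kb xb0 yb24 zb24) (kb xb0 yb23 zb57) (kb xb0 yb23 zb58) (kb xb0 yb24 zb29) (kb xb0 yb23 zb61) (kb xb0 yb15 zb45) (kb xb0 yb5 zb8) (kb xb0 yb8 zb12) (kb xb0 yb5 zb9) (kb xb0 yb5 zb7) (kb xb0 yb24 zb43)) (@D3.rec (fun _ => Pt) (kb xb0 yb12 zb24) (kb xb0 yb24 zb48) (kb xb0 yb24 zb35) (kb xb0 yb24 zb36) (kb xb0 yb24 zb55) (kb xb0 yb5 zb39) (kb xb0 yb14 zb5) (kb xb0 yb14 zb6) (kb xb0 yb13 zb58) (kb xb0 yb11 zb9) (kb xb0 yb5 zb43) (kb xb0 yb11 zb11) (kb xb0 yb11 zb12) (kb xb0 yb25 zb9) (kb xb0 yb11 zb55) (kb xb0 yb14 zb7) (kb xb0 yb14 zb52) (kb xb0 yb11 zb17) (kb xb0 yb12 zb35) (kb xb0 yb15 zb46) (kb xb0 yb5 zb17) (kb xb0 yb11 zb39) (kb xb0 yb25 zb27) (kb xb0 yb14 zb8) (kb xb0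 yb11 zb24) (kb xb0 yb5 zb28) (kb xb0 yb5 zb21) (kb xb0 yb5 zb20) (kb xb0 yb25 zb46) (kb xb0 yb25 zb49) (kb xb0 yb25 zb16) (kb xb0 yb25 zb41) (kb xb0 yb25 zb42) (kb xb0 yb5 zb22) (kb xb0 yb25 zb61) (kb xb0 yb25 zb20) (kb xb0 yb25 zb40) (kb xb0 yb7 zb59) (kb xb0 yb7 zb60) (kb xb0 yb11 zb21) (kb xb0 yb26 zb14) (kb xb0 yb12 zb2) (kb xb0 yb5 zb25) (kb xb0 yb26 zb22) (kb xb0 yb26 zb25) (kb xb0 yb26 zb20) (kb xb0 yb26 zb21) (kb xb0 yb5 zb26) (kb xb0 yb26 zb35) (kb xb0 yb26 zb33) (kb xb0 yb26 zb34) (kb xb0 yb26 zb44) (kb xb0 yb14 zb3) (kb xb0 yb14 zb4) (kb xb0 yb26 zb51) (kb xb0 yb11 zb14) (kb xb0 yb6 zb0) (kb xb0 yb5 zb31) (kb xb0 yb26 zb59) (kb xb0 yb26 zb60) (kb xb0 yb6 zb34) (kb xb0 yb5 zb37)) (@D3.rec (fun _ => Pt) (kb xb0 yb12 zb19) (kb xb0 yb27 zb6) (kb xb0 yb11 zb41)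 (kb xb0 yb5 zb34) (kb xb0 yb27 zb13) (kb xb0 yb27 zb16) (kb xb0 yb27 zb11) (kb xb0 yb27 zb12) (kb xb0 yb27 zb23) (kb xb0 yb14 zb14) (kb xb0 yb14 zb15) (kb xb0 yb5 zb36) (kb xb0 yb27 zb35) (kb xb0 yb27 zb33) (kb xb0 yb27 zb34) (kb xb0 yb15 zb33) (kb xb0 yb6 zb38) (kb xb0 yb27 zb46) (kb xb0 yb24 zb57) (kb xb0 yb12 zb0) (kb xb0 yb27 zb53) (kb xb0 yb5 zb40) (kb xb0 yb27 zb58) (kb xb0 yb27 zb59) (kb xb0 yb11 zb0) (kb xb0 yb25 zb2) (kb xb0 yb5 zb50) (kb xb0 yb5 zb51) (kb xb0 yb6 zb6) (kb xb0 yb25 zb5) (kb xb0 yb7 zb51) (kb xb0 yb25 zb6) (kb xb0 yb28 zb23) (kb xb0 yb5 zb58) (kb xb0 yb28 zb27) (kb xb0 yb11 zb18) (kb xb0 yb7 zb6) (kb xb0 yb5 zb47) (kb xb0 yb28 zb35) (kb xb0 yb28 zb38) (kb xb0 yb28 zb33) (kb xb0 yb28 zb34) (kb xb0 yb5 zb48) (kb xb0 yb25 zb33) (kb xb0 yb28 zb45)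 (kb xb0 yb28 zb46) (kb xb0 yb28 zb55) (kb xb0 yb12 zb47) (kb xb0 yb12 zb48) (kb xb0 yb28 zb60) (kb xb0 yb12 zb50) (kb xb0 yb29 zb6) (kb xb0 yb28 zb12) (kb xb0 yb5 zb53) (kb xb0 yb29 zb12) (kb xb0 yb29 zb11) (kb xb0 yb29 zb18) (kb xb0 yb12 zb57) (kb xb0 yb5 zb55) (kb xb0 yb29 zb25) (kb xb0 yb29 zb27) (kb xb0 yb12 zb61)) (@D3.rec (fun _ => Pt) (kb xb0 yb29 zb33) (kb xb0 yb29 zb36) (kb xb0 yb5 zb57) (kb xb0 yb29 zb42) (kb xb0 yb29 zb43) (kb xb0 yb28 zb26) (kb xb0 yb17 zb24) (kb xb0 yb7 zb43) (kb xb0 yb6 zb4) (kb xb0 yb6 zb2) (kb xb0 yb6 zb3) (kb xb0 yb29 zb51) (kb xb0 yb13 zb12) (kb xb0 yb26 zb54) (kb xb0 yb26 zb55) (kb xb0 yb6 zb1) (kb xb0 yb29 zb57) (kb xb0 yb6 zb5) (kb xb0 yb30 zb0) (kb xb0 yb8 zb0) (kb xb0 yb18 zb46) (kb xb0 yb30 zb4) (kb xb0 yb28 zb14) (kb xb0 yb21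 zb26) (kb xb0 yb30 zb9) (kb xb0 yb6 zb7) (kb xb0 yb30 zb13) (kb xb0 yb30 zb14) (kb xb0 yb13 zb28) (kb xb0 yb8 zb26) (kb xb0 yb6 zb10) (kb xb0 yb30 zb25) (kb xb0 yb30 zb24) (kb xb0 yb6 zb11) (kb xb0 yb30 zb33) (kb xb0 yb30 zb34) (kb xb0 yb8 zb33) (kb xb0 yb6 zb13) (kb xb0 yb30 zb41) (kb xb0 yb6 zb14) (kb xb0 yb30 zb46) (kb xb0 yb30 zb47) (kb xb0 yb6 zb16) (kb xb0 yb30 zb53) (kb xb0 yb23 zb5) (kb xb0 yb23 zb6) (kb xb0 yb30 zb59) (kb xb0 yb31 zb1) (kb xb0 yb8 zb50) (kb xb0 yb6 zb19) (kb xb0 yb6 zb20) (kb xb0 yb31 zb12) (kb xb0 yb31 zb14) (kb xb0 yb31 zb16) (kb xb0 yb31 zb9) (kb xb0 yb31 zb10) (kb xb0 yb31 zb11) (kb xb0 yb31 zb24) (kb xb0 yb11 zb8) (kb xb0 yb6 zb23) (kb xb0 yb31 zb29) (kb xb0 yb31 zb30)) (@D3.rec (fun _ => Pt) (kb xb0 yb6 zb24) (kb xb0 yb31 zb36) (kb xb0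 yb31 zb37) (kb xb0 yb11 zb52) (kb xb0 yb11 zb53) (kb xb0 yb11 zb6) (kb xb0 yb11 zb7) (kb xb0 yb11 zb15) (kb xb0 yb11 zb23) (kb xb0 yb25 zb13) (kb xb0 yb6 zb35) (kb xb0 yb6 zb32) (kb xb0 yb31 zb51) (kb xb0 yb31 zb52) (kb xb0 yb12 zb9) (kb xb0 yb12 zb10) (kb xb0 yb27 zb3) (kb xb0 yb27 zb4) (kb xb0 yb6 zb37) (kb xb0 yb27 zb43) (kb xb0 yb6 zb52) (kb xb0 yb32 zb2) (kb xb0 yb32 zb3) (kb xb0 yb6 zb58) (kb xb0 yb27 zb48) (kb xb0 yb27 zb44) (kb xb0 yb27 zb45) (kb xb0 yb32 zb14) (kb xb0 yb26 zb56) (kb xb0 yb24 zb42) (kb xb0 yb6 zb40) (kb xb0 yb32 zb22) (kb xb0 yb32 zb23) (kb xb0 yb6 zb41) (kb xb0 yb32 zb28) (kb xb0 yb32 zb29) (kb xb0 yb6 zb42) (kb xb0 yb32 zb35) (kb xb0 yb32 zb36) (kb xb0 yb32 zb38) (kb xb0 yb32 zb40) (kb xb0 yb32 zb42) (kb xb0 yb7 zb24) (kb xb0 yb6 zb45) (kb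 xb0 yb6 zb46) (kb xb0 yb32 zb47) (kb xb0 yb6 zb47) (kb xb0 yb32 zb54) (kb xb0 yb32 zb55) (kb xb0 yb7 zb42) (kb xb0 yb32 zb61) (kb xb0 yb33 zb1) (kb xb0 yb11 zb16) (kb xb0 yb6 zb50) (kb xb0 yb33 zb8) (kb xb0 yb33 zb10) (kb xb0 yb33 zb6) (kb xb0 yb33 zb7) (kb xb0 yb6 zb51) (kb xb0 yb33 zb19) (kb xb0 yb33 zb18) (kb xb0 yb33 zb24)) (@D3.rec (fun _ => Pt) (kb xb0 yb32 zb5) (kb xb0 yb32 zb6) (kb xb0 yb33 zb29) (kb xb0 yb27 zb30) (kb xb0 yb33 zb36) (kb xb0 yb15 zb5) (kb xb0 yb32 zb0) (kb xb0 yb33 zb40) (kb xb0 yb6 zb60) (kb xb0 yb6 zb61) (kb xb0 yb6 zb57) (kb xb0 yb33 zb51) (kb xb0 yb33 zb53) (kb xb0 yb33 zb49) (kb xb0 yb33 zb50) (kb xb0 yb33 zb60) (kb xb0 yb32 zb9) (kb xb0 yb6 zb59) (kb xb0 yb34 zb6) (kb xb0 yb34 zb4) (kb xb0 yb34 zb5) (kb xb0 yb32 zb12) (kb xb0 yb34 zb13)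 (kb xb0 yb34 zb18) (kb xb0 yb33 zb46) (kb xb0 yb27 zb51) (kb xb0 yb34 zb23) (kb xb0 yb15 zb32) (kb xb0 yb7 zb1) (kb xb0 yb34 zb29) (kb xb0 yb34 zb30) (kb xb0 yb34 zb35) (kb xb0 yb15 zb27) (kb xb0 yb12 zb15) (kb xb0 yb7 zb3) (kb xb0 yb34 zb44) (kb xb0 yb34 zb45) (kb xb0 yb7 zb4) (kb xb0 yb25 zb25) (kb xb0 yb34 zb50) (kb xb0 yb7 zb5) (kb xb0 yb34 zb55) (kb xb0 yb17 zb32) (kb xb0 yb28 zb30) (kb xb0 yb27 zb57) (kb xb0 yb10 zb56) (kb xb0 yb11 zb19) (kb xb0 yb7 zb9) (kb xb0 yb35 zb10) (kb xb0 yb35 zb14) (kb xb0 yb7 zb12) (kb xb0 yb7 zb13) (kb xb0 yb35 zb22) (kb xb0 yb35 zb25) (kb xb0 yb35 zb8) (kb xb0 yb35 zb9) (kb xb0 yb7 zb10) (kb xb0 yb35 zb34) (kb xb0 yb35 zb35) (kb xb0 yb7 zb11) (kb xb0 yb35 zb45) (kb xb0 yb35 zb46)) (@D3.rec (fun _ => Pt) (kb xb0 yb35 zb51) (kb xb0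 yb35 zb55) (kb xb0 yb35 zb60) (kb xb0 yb35 zb21) (kb xb0 yb7 zb14) (kb xb0 yb36 zb4) (kb xb0 yb36 zb5) (kb xb0 yb36 zb13) (kb xb0 yb32 zb30) (kb xb0 yb36 zb18) (kb xb0 yb16 zb10) (kb xb0 yb27 zb28) (kb xb0 yb16 zb12) (kb xb0 yb16 zb13) (kb xb0 yb24 zb60) (kb xb0 yb7 zb19) (kb xb0 yb7 zb20) (kb xb0 yb7 zb18) (kb xb0 yb36 zb32) (kb xb0 yb36 zb33) (kb xb0 yb36 zb38) (kb xb0 yb36 zb29) (kb xb0 yb36 zb30) (kb xb0 yb36 zb41) (kb xb0 yb16 zb24) (kb xb0 yb16 zb25) (kb xb0 yb7 zb22) (kb xb0 yb36 zb52) (kb xb0 yb36 zb50) (kb xb0 yb36 zb51) (kb xb0 yb36 zb59) (kb xb0 yb37 zb0) (kb xb0 yb7 zb23) (kb xb0 yb37 zb6) (kb xb0 yb37 zb7) (kb xb0 yb32 zb45) (kb xb0 yb7 zb25) (kb xb0 yb37 zb16) (kb xb0 yb37 zb15) (kb xb0 yb37 zb20) (kb xb0 yb37 zb23) (kb xb0 yb7 zb26) (kb xb0 yb37 zb28)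 (kb xb0 yb37 zb29) (kb xb0 yb37 zb35) (kb xb0 yb18 zb23) (kb xb0 yb16 zb46) (kb xb0 yb18 zb11) (kb xb0 yb30 zb21) (kb xb0 yb18 zb13) (kb xb0 yb7 zb32) (kb xb0 yb16 zb51) (kb xb0 yb7 zb31) (kb xb0 yb37 zb49) (kb xb0 yb18 zb51) (kb xb0 yb37 zb52) (kb xb0 yb29 zb10) (kb xb0 yb7 zb33) (kb xb0 yb37 zb57) (kb xb0 yb37 zb61) (kb xb0 yb7 zb36) (kb xb0 yb7 zb35)) (@D3.rec (fun _ => Pt) (kb xb0 yb38 zb8) (kb xb0 yb38 zb9) (kb xb0 yb32 zb48) (kb xb0 yb38 zb16) (kb xb0 yb38 zb4) (kb xb0 yb7 zb37) (kb xb0 yb38 zb22) (kb xb0 yb38 zb23) (kb xb0 yb7 zb38) (kb xb0 yb38 zb31) (kb xb0 yb38 zb32) (kb xb0 yb38 zb38) (kb xb0 yb38 zb43) (kb xb0 yb29 zb41) (kb xb0 yb7 zb40) (kb xb0 yb7 zb41) (kb xb0 yb38 zb53) (kb xb0 yb38 zb55) (kb xb0 yb38 zb51) (kb xb0 yb38 zb52) (kb xb0 yb17 zb20) (kb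 xb0 yb38 zb1) (kb xb0 yb17 zb27) (kb xb0 yb17 zb23) (kb xb0 yb13 zb6) (kb xb0 yb17 zb25) (kb xb0 yb7 zb50) (kb xb0 yb17 zb22) (kb xb0 yb17 zb53) (kb xb0 yb39 zb4) (kb xb0 yb39 zb5) (kb xb0 yb24 zb32) (kb xb0 yb15 zb42) (kb xb0 yb7 zb56) (kb xb0 yb39 zb13) (kb xb0 yb39 zb16) (kb xb0 yb39 zb11) (kb xb0 yb39 zb12) (kb xb0 yb39 zb23) (kb xb0 yb17 zb39) (kb xb0 yb17 zb40) (kb xb0 yb7 zb58) (kb xb0 yb39 zb30) (kb xb0 yb39 zb28) (kb xb0 yb39 zb29) (kb xb0 yb17 zb45) (kb xb0 yb39 zb35) (kb xb0 yb39 zb40) (kb xb0 yb26 zb11) (kb xb0 yb7 zb61) (kb xb0 yb39 zb47) (kb xb0 yb39 zb48) (kb xb0 yb30 zb3) (kb xb0 yb17 zb28) (kb xb0 yb28 zb19) (kb xb0 yb8 zb2) (kb xb0 yb39 zb54) (kb xb0 yb8 zb3) (kb xb0 yb39 zb61) (kb xb0 yb8 zb4) (kb xb0 yb40 zb5) (kb xb0 yb40 zb9)) (@D3.rec (fun _ =>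 Pt) (kb xb0 yb40 zb13) (kb xb0 yb29 zb61) (kb xb0 yb8 zb6) (kb xb0 yb8 zb7) (kb xb0 yb40 zb23) (kb xb0 yb40 zb20) (kb xb0 yb40 zb21) (kb xb0 yb40 zb22) (kb xb0 yb8 zb10) (kb xb0 yb40 zb32) (kb xb0 yb40 zb31) (kb xb0 yb16 zb47) (kb xb0 yb24 zb37) (kb xb0 yb16 zb49) (kb xb0 yb18 zb14) (kb xb0 yb40 zb45) (kb xb0 yb8 zb16) (kb xb0 yb8 zb14) (kb xb0 yb40 zb52) (kb xb0 yb40 zb51) (kb xb0 yb8 zb15) (kb xb0 yb40 zb60) (kb xb0 yb41 zb1) (kb xb0 yb16 zb45) (kb xb0 yb40 zb50) (kb xb0 yb8 zb17) (kb xb0 yb41 zb11) (kb xb0 yb41 zb12) (kb xb0 yb8 zb19) (kb xb0 yb41 zb18) (kb xb0 yb41 zb19) (kb xb0 yb8 zb20) (kb xb0 yb41 zb25) (kb xb0 yb41 zb27) (kb xb0 yb41 zb31) (kb xb0 yb30 zb12) (kb xb0 yb8 zb22) (kb xb0 yb8 zb23) (kb xb0 yb41 zb44) (kb xb0 yb41 zb39) (kb xb0 yb41 zb50) (kb xb0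 yb41 zb52) (kb xb0 yb41 zb42) (kb xb0 yb41 zb43) (kb xb0 yb41 zb58) (kb xb0 yb41 zb60) (kb xb0 yb13 zb20) (kb xb0 yb42 zb1) (kb xb0 yb8 zb29) (kb xb0 yb8 zb28) (kb xb0 yb42 zb9) (kb xb0 yb16 zb54) (kb xb0 yb42 zb14) (kb xb0 yb42 zb5) (kb xb0 yb42 zb18) (kb xb0 yb42 zb21) (kb xb0 yb30 zb32) (kb xb0 yb8 zb31) (kb xb0 yb8 zb32) (kb xb0 yb42 zb30) (kb xb0 yb42 zb39) (kb xb0 yb42 zb41)) (@D3.rec (fun _ => Pt) (kb xb0 yb42 zb33) (kb xb0 yb42 zb34) (kb xb0 yb8 zb34) (kb xb0 yb42 zb48) (kb xb0 yb42 zb51) (kb xb0 yb30 zb40) (kb xb0 yb8 zb36) (kb xb0 yb42 zb58) (kb xb0 yb42 zb60) (kb xb0 yb42 zb57) (kb xb0 yb22 zb46) (kb xb0 yb43 zb4) (kb xb0 yb30 zb45) (kb xb0 yb8 zb38) (kb xb0 yb8 zb39) (kb xb0 yb43 zb10) (kb xb0 yb43 zb11) (kb xb0 yb43 zb12) (kb xb0 yb43 zb14) (kb xb0 yb43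 zb5) (kb xb0 yb43 zb19) (kb xb0 yb30 zb52) (kb xb0 yb8 zb43) (kb xb0 yb43 zb25) (kb xb0 yb42 zb52) (kb xb0 yb43 zb31) (kb xb0 yb23 zb0) (kb xb0 yb8 zb46) (kb xb0 yb8 zb47) (kb xb0 yb19 zb29) (kb xb0 yb31 zb3) (kb xb0 yb31 zb4) (kb xb0 yb30 zb57) (kb xb0 yb43 zb47) (kb xb0 yb8 zb48) (kb xb0 yb43 zb53) (kb xb0 yb43 zb50) (kb xb0 yb43 zb51) (kb xb0 yb8 zb49) (kb xb0 yb20 zb47) (kb xb0 yb43 zb61) (kb xb0 yb44 zb0) (kb xb0 yb31 zb5) (kb xb0 yb44 zb11) (kb xb0 yb44 zb14) (kb xb0 yb44 zb19) (kb xb0 yb8 zb56) (kb xb0 yb8 zb57) (kb xb0 yb8 zb58) (kb xb0 yb8 zb53) (kb xb0 yb44 zb32) (kb xb0 yb8 zb54) (kb xb0 yb44 zb39) (kb xb0 yb8 zb55) (kb xb0 yb44 zb47) (kb xb0 yb44 zb52) (kb xb0 yb44 zb56) (kb xb0 yb44 zb25) (kb xb0 yb44 zb26) (kb xb0 yb45 zb2) (kb xb0 yb45 zb4) (kb xb0 yb44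 zb29)) (@D3.rec (fun _ => Pt) (kb xb0 yb8 zb61) (kb xb0 yb45 zb11) (kb xb0 yb20 zb2) (kb xb0 yb9 zb14) (kb xb0 yb20 zb4) (kb xb0 yb9 zb3) (kb xb0 yb45 zb16) (kb xb0 yb20 zb7) (kb xb0 yb9 zb19) (kb xb0 yb20 zb9) (kb xb0 yb9 zb5) (kb xb0 yb9 zb23) (kb xb0 yb9 zb24) (kb xb0 yb20 zb13) (kb xb0 yb23 zb16) (kb xb0 yb45 zb23) (kb xb0 yb45 zb10) (kb xb0 yb9 zb9) (kb xb0 yb9 zb10) (kb xb0 yb45 zb33) (kb xb0 yb45 zb30) (kb xb0 yb45 zb31) (kb xb0 yb45 zb32) (kb xb0 yb45 zb39) (kb xb0 yb45 zb42) (kb xb0 yb20 zb25) (kb xb0 yb9 zb13) (kb xb0 yb45 zb49) (kb xb0 yb9 zb18) (kb xb0 yb20 zb29) (kb xb0 yb9 zb20) (kb xb0 yb22 zb1) (kb xb0 yb45 zb55) (kb xb0 yb20 zb33) (kb xb0 yb9 zb17) (kb xb0 yb45 zb59) (kb xb0 yb45 zb60) (kb xb0 yb21 zb34) (kb xb0 yb46 zb1) (kb xb0 yb20 zb39) (kb xb0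 yb9 zb22) (kb xb0 yb46 zb5) (kb xb0 yb20 zb42) (kb xb0 yb46 zb7) (kb xb0 yb9 zb25) (kb xb0 yb46 zb11) (kb xb0 yb46 zb9) (kb xb0 yb19 zb39) (kb xb0 yb9 zb26) (kb xb0 yb31 zb0) (kb xb0 yb46 zb20) (kb xb0 yb46 zb21) (kb xb0 yb20 zb52) (kb xb0 yb46 zb29) (kb xb0 yb46 zb32) (kb xb0 yb23 zb54) (kb xb0 yb9 zb30) (kb xb0 yb9 zb31) (kb xb0 yb46 zb45) (kb xb0 yb46 zb48) (kb xb0 yb46 zb41) (kb xb0 yb46 zb44)) (@D3.rec (fun _ => Pt) (kb xb0 yb21 zb0) (kb xb0 yb46 zb53) (kb xb0 yb9 zb32) (kb xb0 yb47 zb1) (kb xb0 yb46 zb59) (kb xb0 yb46 zb60) (kb xb0 yb9 zb33) (kb xb0 yb47 zb10) (kb xb0 yb47 zb9) (kb xb0 yb21 zb9) (kb xb0 yb47 zb16) (kb xb0 yb47 zb19) (kb xb0 yb47 zb24) (kb xb0 yb9 zb38) (kb xb0 yb9 zb39) (kb xb0 yb9 zb40) (kb xb0 yb9 zb37) (kb xb0 yb47 zb35) (kb xb0 yb47 zb39)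 (kb xb0 yb47 zb43) (kb xb0 yb47 zb30) (kb xb0 yb47 zb31) (kb xb0 yb47 zb33) (kb xb0 yb40 zb14) (kb xb0 yb47 zb49) (kb xb0 yb21 zb25) (kb xb0 yb13 zb23) (kb xb0 yb9 zb42) (kb xb0 yb47 zb55) (kb xb0 yb9 zb43) (kb xb0 yb47 zb60) (kb xb0 yb47 zb58) (kb xb0 yb47 zb59) (kb xb0 yb9 zb44) (kb xb0 yb20 zb37) (kb xb0 yb48 zb7) (kb xb0 yb21 zb36) (kb xb0 yb21 zb37) (kb xb0 yb48 zb17) (kb xb0 yb48 zb20) (kb xb0 yb22 zb8) (kb xb0 yb9 zb48) (kb xb0 yb48 zb31) (kb xb0 yb48 zb33) (kb xb0 yb9 zb51) (kb xb0 yb9 zb52) (kb xb0 yb48 zb39) (kb xb0 yb48 zb41) (kb xb0 yb48 zb29) (kb xb0 yb48 zb30) (kb xb0 yb9 zb49) (kb xb0 yb9 zb50) (kb xb0 yb48 zb49) (kb xb0 yb48 zb50) (kb xb0 yb48 zb38) (kb xb0 yb48 zb53) (kb xb0 yb9 zb54) (kb xb0 yb9 zb55) (kb xb0 yb48 zb57) (kb xb0 yb9 zb56) (kb xb0 yb46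 zb56) (kb xb0 yb48 zb60)) (@D3.rec (fun _ => Pt) (kb xb0 yb9 zb57) (kb xb0 yb20 zb31) (kb xb0 yb49 zb5) (kb xb0 yb49 zb6) (kb xb0 yb22 zb4) (kb xb0 yb22 zb5) (kb xb0 yb49 zb15) (kb xb0 yb49 zb18) (kb xb0 yb21 zb40) (kb xb0 yb9 zb61) (kb xb0 yb49 zb29) (kb xb0 yb10 zb0) (kb xb0 yb10 zb1) (kb xb0 yb49 zb34) (kb xb0 yb49 zb35) (kb xb0 yb49 zb27) (kb xb0 yb49 zb28) (kb xb0 yb49 zb40) (kb xb0 yb49 zb33) (kb xb0 yb10 zb2) (kb xb0 yb49 zb43) (kb xb0 yb49 zb42) (kb xb0 yb10 zb3) (kb xb0 yb10 zb20) (kb xb0 yb22 zb24) (kb xb0 yb22 zb35) (kb xb0 yb10 zb6) (kb xb0 yb49 zb58) (kb xb0 yb49 zb57) (kb xb0 yb10 zb7) (kb xb0 yb23 zb17) (kb xb0 yb10 zb8) (kb xb0 yb10 zb15) (kb xb0 yb22 zb33) (kb xb0 yb22 zb34) (kb xb0 yb22 zb25) (kb xb0 yb10 zb12) (kb xb0 yb50 zb9) (kb xb0 yb50 zb11)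 (kb xb0 yb10 zb14) (kb xb0 yb50 zb13) (kb xb0 yb10 zb13) (kb xb0 yb23 zb22) (kb xb0 yb50 zb0) (kb xb0 yb49 zb30) (kb xb0 yb10 zb16) (kb xb0 yb19 zb10) (kb xb0 yb50 zb22) (kb xb0 yb22 zb48) (kb xb0 yb48 zb8) (kb xb0 yb50 zb30) (kb xb0 yb23 zb9) (kb xb0 yb10 zb19) (kb xb0 yb50 zb40) (kb xb0 yb50 zb43) (kb xb0 yb50 zb39) (kb xb0 yb49 zb47) (kb xb0 yb49 zb48) (kb xb0 yb10 zb21) (kb xb0 yb30 zb38) (kb xb0 yb50 zb51) (kb xb0 yb50 zb52)) (@D3.rec (fun _ => Pt) (kb xb0 yb19 zb26) (kb xb0 yb23 zb1) (kb xb0 yb23 zb2) (kb xb0 yb51 zb1) (kb xb0 yb51 zb3) (kb xb0 yb13 zb44) (kb xb0 yb13 zb45) (kb xb0 yb49 zb7) (kb xb0 yb51 zb15) (kb xb0 yb22 zb51) (kb xb0 yb10 zb26) (kb xb0 yb50 zb12) (kb xb0 yb51 zb25) (kb xb0 yb23 zb13) (kb xb0 yb23 zb14) (kb xb0 yb10 zb28) (kb xb0 yb20 zb14)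 (kb xb0 yb22 zb30) (kb xb0 yb49 zb60) (kb xb0 yb51 zb34) (kb xb0 yb10 zb31) (kb xb0 yb10 zb32) (kb xb0 yb22 zb42) (kb xb0 yb30 zb39) (kb xb0 yb10 zb30) (kb xb0 yb51 zb43) (kb xb0 yb51 zb44) (kb xb0 yb51 zb53) (kb xb0 yb51 zb38) (kb xb0 yb51 zb39) (kb xb0 yb50 zb50) (kb xb0 yb10 zb35) (kb xb0 yb10 zb36) (kb xb0 yb10 zb34) (kb xb0 yb52 zb0) (kb xb0 yb52 zb1) (kb xb0 yb52 zb7) (kb xb0 yb51 zb61) (kb xb0 yb23 zb38) (kb xb0 yb52 zb11) (kb xb0 yb52 zb14) (kb xb0 yb52 zb19) (kb xb0 yb23 zb42) (kb xb0 yb10 zb38) (kb xb0 yb52 zb30) (kb xb0 yb52 zb27) (kb xb0 yb10 zb39) (kb xb0 yb52 zb39) (kb xb0 yb52 zb38) (kb xb0 yb52 zb45) (kb xb0 yb52 zb49) (kb xb0 yb10 zb40) (kb xb0 yb52 zb55) (kb xb0 yb52 zb56) (kb xb0 yb20 zb55) (kb xb0 yb53 zb5) (kb xb0 yb53 zb9) (kb xb0 yb10 zb52) (kb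 xb0 yb10 zb53) (kb xb0 yb53 zb17) (kb xb0 yb53 zb19) (kb xb0 yb10 zb55)) (@D3.rec (fun _ => Pt) (kb xb0 yb24 zb0) (kb xb0 yb24 zb7) (kb xb0 yb10 zb45) (kb xb0 yb53 zb32) (kb xb0 yb52 zb34) (kb xb0 yb53 zb31) (kb xb0 yb24 zb6) (kb xb0 yb24 zb1) (kb xb0 yb10 zb47) (kb xb0 yb53 zb46) (kb xb0 yb53 zb44) (kb xb0 yb53 zb45) (kb xb0 yb52 zb50) (kb xb0 yb53 zb53) (kb xb0 yb24 zb14) (kb xb0 yb10 zb49) (kb xb0 yb53 zb61) (kb xb0 yb54 zb1) (kb xb0 yb53 zb59) (kb xb0 yb53 zb60) (kb xb0 yb10 zb50) (kb xb0 yb54 zb9) (kb xb0 yb54 zb7) (kb xb0 yb54 zb8) (kb xb0 yb10 zb51) (kb xb0 yb54 zb14) (kb xb0 yb54 zb13) (kb xb0 yb53 zb13) (kb xb0 yb53 zb16) (kb xb0 yb10 zb54) (kb xb0 yb54 zb17) (kb xb0 yb54 zb19) (kb xb0 yb17 zb31) (kb xb0 yb35 zb3) (kb xb0 yb24 zb58) (kb xb0 yb11 zb2) (kb xb0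 yb11 zb3) (kb xb0 yb18 zb12) (kb xb0 yb24 zb61) (kb xb0 yb54 zb35) (kb xb0 yb32 zb17) (kb xb0 yb26 zb12) (kb xb0 yb14 zb29) (kb xb0 yb10 zb61) (kb xb0 yb54 zb43) (kb xb0 yb54 zb44) (kb xb0 yb28 zb4) (kb xb0 yb28 zb5) (kb xb0 yb11 zb1) (kb xb0 yb54 zb52) (kb xb0 yb54 zb53) (kb xb0 yb28 zb9) (kb xb0 yb54 zb56) (kb xb0 yb54 zb58) (kb xb0 yb54 zb30) (kb xb0 yb11 zb4) (kb xb0 yb55 zb2) (kb xb0 yb12 zb18) (kb xb0 yb24 zb34) (kb xb0 yb31 zb43) (kb xb0 yb16 zb14) (kb xb0 yb24 zb38)) (@D3.rec (fun _ => Pt) (kb xb0 yb55 zb12) (kb xb0 yb31 zb26) (kb xb0 yb12 zb25) (kb xb0 yb25 zb3) (kb xb0 yb25 zb4) (kb xb0 yb12 zb29) (kb xb0 yb12 zb31) (kb xb0 yb55 zb24) (kb xb0 yb25 zb8) (kb xb0 yb11 zb13) (kb xb0 yb27 zb56) (kb xb0 yb55 zb28) (kb xb0 yb25 zb12) (kb xb0 yb14 zb9) (kb xb0 yb26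 zb32) (kb xb0 yb25 zb39) (kb xb0 yb11 zb30) (kb xb0 yb31 zb45) (kb xb0 yb31 zb46) (kb xb0 yb33 zb3) (kb xb0 yb11 zb35) (kb xb0 yb26 zb53) (kb xb0 yb25 zb22) (kb xb0 yb25 zb23) (kb xb0 yb28 zb29) (kb xb0 yb15 zb38) (kb xb0 yb35 zb5) (kb xb0 yb11 zb22) (kb xb0 yb26 zb13) (kb xb0 yb56 zb10) (kb xb0 yb56 zb13) (kb xb0 yb56 zb4) (kb xb0 yb56 zb5) (kb xb0 yb12 zb43) (kb xb0 yb31 zb47) (kb xb0 yb31 zb48) (kb xb0 yb56 zb28) (kb xb0 yb25 zb37) (kb xb0 yb25 zb38) (kb xb0 yb25 zb15) (kb xb0 yb11 zb36) (kb xb0 yb11 zb31) (kb xb0 yb11 zb32) (kb xb0 yb56 zb43) (kb xb0 yb34 zb21) (kb xb0 yb25 zb60) (kb xb0 yb11 zb28) (kb xb0 yb56 zb50) (kb xb0 yb56 zb51) (kb xb0 yb11 zb29) (kb xb0 yb56 zb56) (kb xb0 yb56 zb57) (kb xb0 yb55 zb40) (kb xb0 yb55 zb41) (kb xb0 yb57 zb2) (kb xb0 yb55 zb43)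 (kb xb0 yb57 zb6) (kb xb0 yb56 zb42) (kb xb0 yb57 zb9) (kb xb0 yb34 zb39) (kb xb0 yb25 zb45) (kb xb0 yb11 zb34)) (@D3.rec (fun _ => Pt) (kb xb0 yb57 zb18) (kb xb0 yb57 zb20) (kb xb0 yb57 zb16) (kb xb0 yb57 zb17) (kb xb0 yb55 zb51) (kb xb0 yb55 zb52) (kb xb0 yb56 zb37) (kb xb0 yb56 zb38) (kb xb0 yb55 zb56) (kb xb0 yb56 zb40) (kb xb0 yb57 zb33) (kb xb0 yb17 zb48) (kb xb0 yb24 zb41) (kb xb0 yb25 zb28) (kb xb0 yb11 zb40) (kb xb0 yb32 zb15) (kb xb0 yb57 zb42) (kb xb0 yb27 zb8) (kb xb0 yb57 zb51) (kb xb0 yb57 zb55) (kb xb0 yb11 zb45) (kb xb0 yb11 zb46) (kb xb0 yb11 zb43) (kb xb0 yb58 zb4) (kb xb0 yb58 zb5) (kb xb0 yb11 zb44) (kb xb0 yb58 zb13) (kb xb0 yb58 zb14) (kb xb0 yb58 zb19) (kb xb0 yb58 zb22) (kb xb0 yb58 zb27) (kb xb0 yb58 zb0) (kb xb0 yb25 zb14) (kb xb0 yb11 zb49)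 (kb xb0 yb11 zb50) (kb xb0 yb11 zb48) (kb xb0 yb58 zb40) (kb xb0 yb58 zb41) (kb xb0 yb58 zb48) (kb xb0 yb58 zb50) (kb xb0 yb58 zb33) (kb xb0 yb56 zb25) (kb xb0 yb58 zb36) (kb xb0 yb58 zb37) (kb xb0 yb11 zb51) (kb xb0 yb58 zb54) (kb xb0 yb58 zb55) (kb xb0 yb58 zb60) (kb xb0 yb56 zb32) (kb xb0 yb28 zb49) (kb xb0 yb31 zb42) (kb xb0 yb11 zb54) (kb xb0 yb59 zb0) (kb xb0 yb25 zb21) (kb xb0 yb13 zb13) (kb xb0 yb13 zb14) (kb xb0 yb14 zb28) (kb xb0 yb59 zb8) (kb xb0 yb58 zb61) (kb xb0 yb11 zb58) (kb xb0 yb11 zb59) (kb xb0 yb59 zb11)) (@D3.rec (fun _ => Pt) (kb xb0 yb36 zb3) (kb xb0 yb59 zb14) (kb xb0 yb59 zb15) (kb xb0 yb14 zb16) (kb xb0 yb14 zb17) (kb xb0 yb27 zb52) (kb xb0 yb12 zb1) (kb xb0 yb59 zb32) (kb xb0 yb26 zb17) (kb xb0 yb27 zb61) (kb xb0 yb59 zb42) (kb xb0 yb12 zb6)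 (kb xb0 yb12 zb7) (kb xb0 yb12 zb4) (kb xb0 yb59 zb52) (kb xb0 yb59 zb53) (kb xb0 yb12 zb5) (kb xb1 yb0 zb0) (kb xb1 yb0 zb1) (kb xb1 yb0 zb6) (kb xb1 yb0 zb9) (kb xb1 yb0 zb14) (kb xb0 yb59 zb49) (kb xb0 yb12 zb8) (kb xb1 yb0 zb18) (kb xb1 yb0 zb19) (kb xb1 yb0 zb25) (kb xb1 yb0 zb27) (kb xb0 yb16 zb11) (kb xb0 yb58 zb35) (kb xb0 yb15 zb3) (kb xb0 yb31 zb59) (kb xb0 yb28 zb32) (kb xb0 yb12 zb13) (kb xb0 yb12 zb14) (kb xb0 yb12 zb12) (kb xb1 yb0 zb38) (kb xb1 yb0 zb39) (kb xb1 yb0 zb44) (kb xb0 yb59 zb26) (kb xb1 yb0 zb34) (kb xb1 yb0 zb35) (kb xb0 yb34 zb41) (kb xb0 yb14 zb19) (kb xb0 yb14 zb25) (kb xb0 yb14 zb26) (kb xb0 yb12 zb17) (kb xb1 yb0 zb54) (kb xb0 yb14 zb24) (kb xb0 yb55 zb5) (kb xb0 yb55 zb6) (kb xb0 yb15 zb25) (kb xb0 yb27 zb5) (kb xb0 yb12 zb20) (kb xb0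 yb35 zb4) (kb xb1 yb1 zb4) (kb xb0 yb25 zb10) (kb xb0 yb15 zb44) (kb xb0 yb12 zb22) (kb xb0 yb12 zb23) (kb xb1 yb1 zb10) (kb xb0 yb27 zb9)) (@D3.rec (fun _ => Pt) (kb xb1 yb1 zb19) (kb xb1 yb1 zb12) (kb xb1 yb1 zb13) (kb xb1 yb1 zb26) (kb xb0 yb24 zb46) (kb xb0 yb24 zb47) (kb xb1 yb1 zb34) (kb xb0 yb55 zb16) (kb xb0 yb55 zb17) (kb xb0 yb24 zb51) (kb xb0 yb55 zb18) (kb xb1 yb1 zb44) (kb xb0 yb12 zb52) (kb xb1 yb1 zb50) (kb xb0 yb13 zb22) (kb xb1 yb1 zb55) (kb xb0 yb55 zb22) (kb xb1 yb1 zb60) (kb xb1 yb2 zb0) (kb xb0 yb17 zb54) (kb xb0 yb55 zb23) (kb xb0 yb38 zb21) (kb xb1 yb2 zb8) (kb xb0 yb12 zb32) (kb xb1 yb2 zb14) (kb xb1 yb2 zb15) (kb xb0 yb13 zb5) (kb xb0 yb12 zb34) (kb xb1 yb2 zb23) (kb xb0 yb25 zb24) (kb xb0 yb15 zb43) (kb xb1 yb2 zb33) (kb xb0 yb27 zb32) (kb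 xb0 yb12 zb40) (kb xb0 yb12 zb41) (kb xb0 yb12 zb38) (kb xb1 yb2 zb42) (kb xb1 yb2 zb43) (kb xb0 yb12 zb39) (kb xb1 yb2 zb50) (kb xb1 yb2 zb51) (kb xb1 yb2 zb54) (kb xb1 yb2 zb57) (kb xb1 yb3 zb0) (kb xb1 yb2 zb41) (kb xb0 yb12 zb44) (kb xb0 yb12 zb45) (kb xb0 yb56 zb20) (kb xb0 yb56 zb21) (kb xb0 yb26 zb49) (kb xb1 yb1 zb29) (kb xb1 yb3 zb15) (kb xb1 yb3 zb5) (kb xb1 yb1 zb32) (kb xb1 yb3 zb7) (kb xb0 yb12 zb46) (kb xb1 yb3 zb21) (kb xb1 yb3 zb22) (kb xb1 yb3 zb25) (kb xb0 yb28 zb59) (kb xb0 yb12 zb49) (kb xb1 yb3 zb29)) (@D3.rec (fun _ => Pt) (kb xb1 yb3 zb28) (kb xb1 yb3 zb27) (kb xb1 yb3 zb34) (kb xb0 yb29 zb3) (kb xb1 yb3 zb39) (kb xb1 yb3 zb42) (kb xb0 yb12 zb51) (kb xb1 yb3 zb48) (kb xb1 yb3 zb49) (kb xb1 yb1 zb47) (kb xb0 yb16 zb56) (kb xb0 yb12 zb55) (kb xb0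 yb12 zb54) (kb xb1 yb3 zb60) (kb xb1 yb3 zb61) (kb xb0 yb30 zb6) (kb xb1 yb1 zb53) (kb xb1 yb3 zb56) (kb xb0 yb12 zb56) (kb xb1 yb4 zb10) (kb xb1 yb4 zb9) (kb xb1 yb1 zb58) (kb xb0 yb30 zb28) (kb xb0 yb29 zb23) (kb xb0 yb36 zb57) (kb xb0 yb12 zb59) (kb xb1 yb4 zb18) (kb xb0 yb12 zb60) (kb xb1 yb4 zb23) (kb xb1 yb4 zb24) (kb xb1 yb2 zb3) (kb xb0 yb39 zb56) (kb xb0 yb29 zb32) (kb xb0 yb13 zb0) (kb xb1 yb4 zb35) (kb xb1 yb4 zb36) (kb xb0 yb13 zb1) (kb xb1 yb4 zb44) (kb xb1 yb4 zb45) (kb xb1 yb4 zb51) (kb xb1 yb4 zb56) (kb xb0 yb17 zb13) (kb xb0 yb13 zb3) (kb xb0 yb13 zb4) (kb xb1 yb5 zb4) (kb xb1 yb5 zb6) (kb xb1 yb5 zb2) (kb xb1 yb5 zb3) (kb xb1 yb5 zb14) (kb xb0 yb29 zb49) (kb xb1 yb5 zb20) (kb xb0 yb13 zb11) (kb xb0 yb33 zb45) (kb xb0 yb29 zb53) (kb xb0 yb29 zb54) (kb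 xb1 yb5 zb23) (kb xb0 yb59 zb5) (kb xb0 yb13 zb16) (kb xb1 yb5 zb28) (kb xb0 yb47 zb50) (kb xb1 yb5 zb32) (kb xb0 yb18 zb1)) (@D3.rec (fun _ => Pt) (kb xb0 yb13 zb18) (kb xb1 yb5 zb40) (kb xb1 yb5 zb39) (kb xb0 yb17 zb52) (kb xb0 yb13 zb21) (kb xb1 yb5 zb50) (kb xb0 yb29 zb15) (kb xb1 yb5 zb55) (kb xb1 yb1 zb54) (kb xb0 yb13 zb24) (kb xb0 yb46 zb2) (kb xb0 yb47 zb0) (kb xb0 yb18 zb35) (kb xb0 yb13 zb26) (kb xb0 yb13 zb27) (kb xb1 yb6 zb6) (kb xb0 yb48 zb46) (kb xb1 yb6 zb16) (kb xb1 yb6 zb9) (kb xb1 yb6 zb10) (kb xb1 yb6 zb20) (kb xb0 yb16 zb48) (kb xb0 yb30 zb22) (kb xb1 yb6 zb23) (kb xb0 yb13 zb32) (kb xb0 yb13 zb31) (kb xb1 yb6 zb32) (kb xb0 yb42 zb4) (kb xb0 yb29 zb22) (kb xb1 yb6 zb28) (kb xb1 yb6 zb37) (kb xb1 yb6 zb39) (kb xb0 yb18 zb56) (kb xb0 yb13 zb34) (kb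 xb0 yb13 zb35) (kb xb1 yb6 zb47) (kb xb1 yb6 zb49) (kb xb1 yb6 zb50) (kb xb0 yb22 zb59) (kb xb0 yb23 zb23) (kb xb0 yb19 zb5) (kb xb0 yb13 zb38) (kb xb1 yb6 zb61) (kb xb1 yb7 zb2) (kb xb1 yb7 zb4) (kb xb0 yb19 zb12) (kb xb0 yb13 zb40) (kb xb0 yb13 zb41) (kb xb1 yb7 zb6) (kb xb1 yb7 zb7) (kb xb1 yb7 zb5) (kb xb1 yb7 zb14) (kb xb0 yb19 zb21) (kb xb0 yb13 zb43) (kb xb1 yb7 zb20) (kb xb0 yb51 zb9) (kb xb0 yb51 zb12) (kb xb0 yb19 zb32) (kb xb1 yb7 zb29) (kb xb0 yb13 zb46) (kb xb0 yb50 zb45) (kb xb1 yb7 zb31)) (@D3.rec (fun _ => Pt) (kb xb0 yb20 zb49) (kb xb0 yb13 zb47) (kb xb0 yb42 zb45) (kb xb0 yb19 zb30) (kb xb0 yb19 zb31) (kb xb0 yb19 zb42) (kb xb1 yb7 zb46) (kb xb1 yb7 zb49) (kb xb1 yb7 zb54) (kb xb0 yb13 zb54) (kb xb0 yb13 zb55) (kb xb0 yb13 zb56) (kb xb0 yb13 zb51)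 (kb xb1 yb8 zb5) (kb xb0 yb13 zb52) (kb xb1 yb8 zb12) (kb xb0 yb13 zb53) (kb xb1 yb8 zb20) (kb xb1 yb8 zb25) (kb xb1 yb8 zb28) (kb xb1 yb7 zb60) (kb xb1 yb7 zb61) (kb xb0 yb54 zb16) (kb xb1 yb8 zb2) (kb xb0 yb13 zb57) (kb xb1 yb8 zb39) (kb xb0 yb25 zb1) (kb xb1 yb8 zb47) (kb xb1 yb8 zb51) (kb xb0 yb13 zb60) (kb xb0 yb13 zb61) (kb xb1 yb8 zb59) (kb xb1 yb8 zb61) (kb xb1 yb9 zb1) (kb xb1 yb8 zb58) (kb xb0 yb58 zb3) (kb xb0 yb14 zb1) (kb xb0 yb14 zb2) (kb xb1 yb9 zb10) (kb xb0 yb31 zb39) (kb xb1 yb9 zb9) (kb xb1 yb9 zb11) (kb xb0 yb26 zb50) (kb xb0 yb24 zb59) (kb xb1 yb9 zb13) (kb xb0 yb25 zb17) (kb xb0 yb25 zb18) (kb xb0 yb25 zb34) (kb xb0 yb25 zb35) (kb xb0 yb55 zb34) (kb xb0 yb55 zb35) (kb xb0 yb14 zb12) (kb xb0 yb14 zb13) (kb xb1 yb9 zb22) (kb xb1 yb9 zb24) (kb xb1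 yb9 zb26) (kb xb1 yb9 zb21) (kb xb1 yb9 zb28) (kb xb1 yb9 zb15) (kb xb0 yb27 zb31) (kb xb1 yb9 zb29) (kb xb0 yb59 zb27)) (@D3.rec (fun _ => Pt) (kb xb0 yb15 zb6) (kb xb0 yb32 zb1) (kb xb0 yb14 zb21) (kb xb0 yb14 zb22) (kb xb1 yb0 zb50) (kb xb0 yb15 zb0) (kb xb0 yb15 zb1) (kb xb1 yb0 zb51) (kb xb1 yb9 zb35) (kb xb0 yb15 zb16) (kb xb1 yb0 zb59) (kb xb1 yb0 zb60) (kb xb0 yb15 zb21) (kb xb1 yb0 zb53) (kb xb0 yb14 zb27) (kb xb0 yb26 zb15) (kb xb1 yb9 zb40) (kb xb0 yb24 zb40) (kb xb0 yb59 zb7) (kb xb0 yb54 zb40) (kb xb1 yb9 zb53) (kb xb1 yb9 zb57) (kb xb0 yb14 zb31) (kb xb0 yb14 zb32) (kb xb1 yb10 zb3) (kb xb1 yb10 zb5) (kb xb1 yb10 zb7) (kb xb1 yb10 zb2) (kb xb0 yb14 zb34) (kb xb0 yb14 zb35) (kb xb0 yb16 zb8) (kb xb1 yb10 zb18) (kb xb1 yb10 zb14) (kb xb1 yb10 zb17) (kb xb0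 yb35 zb44) (kb xb0 yb14 zb37) (kb xb0 yb14 zb38) (kb xb1 yb10 zb25) (kb xb0 yb14 zb39) (kb xb1 yb10 zb26) (kb xb0 yb14 zb40) (kb xb1 yb10 zb31) (kb xb0 yb14 zb41) (kb xb1 yb10 zb36) (kb xb1 yb10 zb37) (kb xb0 yb16 zb35) (kb xb0 yb38 zb30) (kb xb0 yb14 zb45) (kb xb0 yb17 zb2) (kb xb1 yb2 zb4) (kb xb1 yb10 zb45) (kb xb1 yb10 zb48) (kb xb1 yb10 zb53) (kb xb0 yb55 zb1) (kb xb0 yb14 zb47) (kb xb0 yb14 zb48) (kb xb1 yb10 zb61) (kb xb1 yb11 zb0) (kb xb1 yb11 zb1) (kb xb1 yb11 zb7) (kb xb1 yb11 zb9) (kb xb0 yb14 zb50)) (@D3.rec (fun _ => Pt) (kb xb1 yb11 zb12) (kb xb0 yb14 zb51) (kb xb1 yb11 zb14) (kb xb0 yb25 zb19) (kb xb1 yb11 zb20) (kb xb1 yb11 zb24) (kb xb0 yb14 zb56) (kb xb0 yb14 zb57) (kb xb0 yb14 zb54) (kb xb1 yb11 zb32) (kb xb0 yb14 zb55) (kb xb1 yb11 zb39) (kb xb1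 yb11 zb40) (kb xb1 yb11 zb44) (kb xb1 yb11 zb47) (kb xb1 yb11 zb52) (kb xb1 yb11 zb31) (kb xb1 yb11 zb56) (kb xb0 yb14 zb60) (kb xb0 yb14 zb59) (kb xb1 yb11 zb61) (kb xb1 yb12 zb4) (kb xb0 yb33 zb22) (kb xb1 yb12 zb9) (kb xb0 yb14 zb61) (kb xb1 yb12 zb11) (kb xb1 yb12 zb12) (kb xb1 yb12 zb16) (kb xb0 yb56 zb58) (kb xb0 yb15 zb2) (kb xb1 yb12 zb21) (kb xb1 yb12 zb20) (kb xb1 yb12 zb24) (kb xb0 yb57 zb27) (kb xb1 yb12 zb27) (kb xb1 yb12 zb30) (kb xb0 yb15 zb4) (kb xb1 yb12 zb36) (kb xb1 yb12 zb37) (kb xb1 yb9 zb30) (kb xb0 yb15 zb7) (kb xb1 yb12 zb44) (kb xb1 yb10 zb15) (kb xb1 yb9 zb33) (kb xb0 yb56 zb26) (kb xb0 yb29 zb52) (kb xb0 yb15 zb24) (kb xb1 yb12 zb48) (kb xb1 yb12 zb51) (kb xb0 yb15 zb13) (kb xb0 yb15 zb14) (kb xb0 yb15 zb11) (kb xb1 yb12 zb61) (kb xb0 yb15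 zb12) (kb xb1 yb13 zb4) (kb xb1 yb13 zb5) (kb xb1 yb13 zb9) (kb xb1 yb13 zb12) (kb xb1 yb13 zb17) (kb xb1 yb12 zb57) (kb xb0 yb15 zb15) (kb xb1 yb13 zb21)) (@D3.rec (fun _ => Pt) (kb xb0 yb34 zb0) (kb xb1 yb12 zb43) (kb xb1 yb13 zb30) (kb xb1 yb13 zb32) (kb xb0 yb15 zb19) (kb xb0 yb15 zb20) (kb xb0 yb15 zb18) (kb xb1 yb13 zb39) (kb xb1 yb13 zb40) (kb xb1 yb13 zb44) (kb xb1 yb13 zb38) (kb xb1 yb13 zb47) (kb xb1 yb6 zb36) (kb xb0 yb15 zb22) (kb xb1 yb13 zb52) (kb xb1 yb13 zb51) (kb xb1 yb13 zb55) (kb xb1 yb13 zb58) (kb xb0 yb15 zb23) (kb xb1 yb14 zb0) (kb xb0 yb39 zb33) (kb xb0 yb25 zb44) (kb xb1 yb1 zb1) (kb xb0 yb15 zb26) (kb xb0 yb57 zb10) (kb xb1 yb14 zb8) (kb xb0 yb34 zb38) (kb xb1 yb14 zb15) (kb xb1 yb14 zb19) (kb xb0 yb15 zb29) (kb xb0 yb15 zb30) (kb xb1 yb14 zb27)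 (kb xb1 yb14 zb29) (kb xb1 yb14 zb31) (kb xb1 yb14 zb26) (kb xb0 yb15 zb31) (kb xb1 yb14 zb35) (kb xb0 yb59 zb31) (kb xb0 yb34 zb26) (kb xb0 yb25 zb59) (kb xb1 yb8 zb38) (kb xb0 yb27 zb42) (kb xb0 yb55 zb50) (kb xb1 yb14 zb50) (kb xb0 yb15 zb35) (kb xb0 yb15 zb36) (kb xb1 yb14 zb57) (kb xb1 yb14 zb59) (kb xb1 yb14 zb61) (kb xb1 yb14 zb56) (kb xb0 yb15 zb39) (kb xb0 yb56 zb0) (kb xb1 yb2 zb24) (kb xb1 yb15 zb5) (kb xb1 yb15 zb6) (kb xb0 yb15 zb41) (kb xb1 yb2 zb27) (kb xb1 yb15 zb15) (kb xb1 yb15 zb16) (kb xb0 yb39 zb8) (kb xb1 yb15 zb25) (kb xb0 yb35 zb15)) (@D3.rec (fun _ => Pt) (kb xb1 yb2 zb31) (kb xb1 yb2 zb32) (kb xb1 yb1 zb9) (kb xb0 yb24 zb33) (kb xb0 yb27 zb54) (kb xb0 yb25 zb26) (kb xb1 yb15 zb41) (kb xb1 yb0 zb58) (kb xb0 yb15 zb54) (kb xb0 yb15 zb55) (kb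 xb0 yb15 zb48) (kb xb1 yb15 zb54) (kb xb1 yb15 zb51) (kb xb1 yb15 zb52) (kb xb0 yb15 zb49) (kb xb0 yb34 zb61) (kb xb1 yb16 zb4) (kb xb1 yb16 zb5) (kb xb1 yb16 zb12) (kb xb1 yb16 zb16) (kb xb1 yb16 zb22) (kb xb0 yb16 zb3) (kb xb0 yb15 zb52) (kb xb1 yb16 zb26) (kb xb1 yb16 zb27) (kb xb0 yb15 zb53) (kb xb1 yb16 zb31) (kb xb1 yb16 zb32) (kb xb1 yb16 zb35) (kb xb1 yb16 zb38) (kb xb1 yb16 zb43) (kb xb1 yb15 zb49) (kb xb1 yb16 zb2) (kb xb0 yb56 zb3) (kb xb0 yb15 zb57) (kb xb0 yb15 zb58) (kb xb1 yb16 zb58) (kb xb1 yb15 zb58) (kb xb1 yb17 zb3) (kb xb1 yb16 zb54) (kb xb1 yb15 zb61) (kb xb1 yb16 zb57) (kb xb1 yb15 zb50) (kb xb0 yb59 zb43) (kb xb0 yb32 zb34) (kb xb0 yb15 zb60) (kb xb0 yb15 zb61) (kb xb1 yb17 zb25) (kb xb1 yb17 zb20) (kb xb1 yb17 zb23) (kb xb1 yb17 zb24) (kb xb0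 yb16 zb0) (kb xb1 yb17 zb38) (kb xb1 yb17 zb35) (kb xb1 yb17 zb36) (kb xb0 yb16 zb1) (kb xb1 yb17 zb48) (kb xb1 yb17 zb47) (kb xb1 yb17 zb54) (kb xb1 yb17 zb57) (kb xb0 yb16 zb2) (kb xb1 yb18 zb1)) (@D3.rec (fun _ => Pt) (kb xb1 yb18 zb2) (kb xb1 yb16 zb25) (kb xb1 yb18 zb9) (kb xb0 yb27 zb0) (kb xb0 yb16 zb5) (kb xb0 yb16 zb6) (kb xb1 yb18 zb22) (kb xb1 yb18 zb25) (kb xb1 yb18 zb28) (kb xb1 yb18 zb17) (kb xb1 yb18 zb34) (kb xb1 yb18 zb20) (kb xb1 yb18 zb21) (kb xb0 yb16 zb7) (kb xb1 yb18 zb37) (kb xb1 yb18 zb39) (kb xb1 yb18 zb41) (kb xb1 yb18 zb43) (kb xb0 yb16 zb9) (kb xb1 yb18 zb48) (kb xb1 yb18 zb49) (kb xb1 yb18 zb55) (kb xb1 yb10 zb20) (kb xb0 yb36 zb23) (kb xb1 yb18 zb59) (kb xb0 yb55 zb11) (kb xb1 yb19 zb1) (kb xb1 yb10 zb11) (kb xb0 yb39 zb52) (kb xb0 yb16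 zb21) (kb xb0 yb16 zb22) (kb xb1 yb19 zb3) (kb xb0 yb16 zb18) (kb xb0 yb16 zb19) (kb xb1 yb19 zb13) (kb xb1 yb19 zb8) (kb xb1 yb19 zb11) (kb xb1 yb19 zb12) (kb xb0 yb16 zb20) (kb xb1 yb19 zb22) (kb xb1 yb13 zb27) (kb xb0 yb16 zb23) (kb xb1 yb19 zb28) (kb xb1 yb19 zb27) (kb xb1 yb19 zb36) (kb xb1 yb19 zb37) (kb xb1 yb10 zb28) (kb xb0 yb36 zb47) (kb xb0 yb36 zb48) (kb xb1 yb3 zb33) (kb xb0 yb16 zb28) (kb xb0 yb16 zb29) (kb xb0 yb16 zb27) (kb xb1 yb19 zb41) (kb xb1 yb19 zb42) (kb xb1 yb19 zb46) (kb xb0 yb42 zb13) (kb xb0 yb29 zb24) (kb xb0 yb38 zb0) (kb xb0 yb16 zb30) (kb xb1 yb19 zb52) (kb xb1 yb19 zb53)) (@D3.rec (fun _ => Pt) (kb xb0 yb16 zb31) (kb xb1 yb20 zb1) (kb xb1 yb20 zb2) (kb xb1 yb20 zb8) (kb xb1 yb20 zb12) (kb xb1 yb3 zb47) (kb xb0 yb16 zb33) (kb xb0 yb16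 zb34) (kb xb1 yb20 zb23) (kb xb1 yb20 zb25) (kb xb1 yb20 zb27) (kb xb1 yb20 zb20) (kb xb1 yb20 zb21) (kb xb1 yb20 zb22) (kb xb1 yb20 zb34) (kb xb0 yb16 zb38) (kb xb0 yb16 zb37) (kb xb1 yb20 zb43) (kb xb1 yb3 zb4) (kb xb1 yb20 zb39) (kb xb0 yb16 zb39) (kb xb1 yb20 zb51) (kb xb1 yb20 zb52) (kb xb0 yb16 zb40) (kb xb1 yb20 zb59) (kb xb1 yb20 zb61) (kb xb1 yb21 zb2) (kb xb1 yb3 zb59) (kb xb0 yb16 zb42) (kb xb0 yb16 zb43) (kb xb1 yb21 zb11) (kb xb1 yb21 zb18) (kb xb1 yb21 zb20) (kb xb1 yb21 zb13) (kb xb1 yb21 zb7) (kb xb0 yb16 zb44) (kb xb1 yb21 zb29) (kb xb1 yb21 zb28) (kb xb1 yb21 zb32) (kb xb0 yb41 zb6) (kb xb0 yb41 zb7) (kb xb1 yb21 zb36) (kb xb0 yb40 zb38) (kb xb1 yb6 zb26) (kb xb1 yb21 zb37) (kb xb0 yb40 zb42) (kb xb0 yb37 zb46) (kb xb1 yb21 zb38) (kb xb1 yb21 zb40)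 (kb xb0 yb16 zb53) (kb xb1 yb21 zb45) (kb xb1 yb21 zb49) (kb xb0 yb16 zb55) (kb xb1 yb5 zb47) (kb xb1 yb21 zb53) (kb xb1 yb21 zb56) (kb xb1 yb4 zb17) (kb xb0 yb16 zb58) (kb xb1 yb22 zb1) (kb xb1 yb22 zb3) (kb xb1 yb22 zb0) (kb xb0 yb16 zb59)) (@D3.rec (fun _ => Pt) (kb xb0 yb36 zb58) (kb xb0 yb17 zb21) (kb xb1 yb22 zb9) (kb xb1 yb22 zb11) (kb xb0 yb17 zb4) (kb xb1 yb22 zb13) (kb xb1 yb22 zb14) (kb xb1 yb4 zb22) (kb xb0 yb17 zb0) (kb xb0 yb17 zb1) (kb xb1 yb22 zb19) (kb xb1 yb22 zb25) (kb xb1 yb22 zb27) (kb xb1 yb22 zb20) (kb xb1 yb5 zb15) (kb xb1 yb22 zb32) (kb xb0 yb17 zb3) (kb xb1 yb22 zb35) (kb xb1 yb22 zb37) (kb xb1 yb22 zb41) (kb xb1 yb4 zb34) (kb xb0 yb28 zb21) (kb xb0 yb17 zb6) (kb xb0 yb17 zb7) (kb xb1 yb22 zb53) (kb xb1 yb22 zb56) (kb xb1 yb22 zb57) (kb xb1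 yb21 zb31) (kb xb1 yb23 zb3) (kb xb1 yb4 zb42) (kb xb0 yb32 zb46) (kb xb0 yb17 zb9) (kb xb0 yb17 zb10) (kb xb1 yb23 zb17) (kb xb1 yb23 zb19) (kb xb1 yb23 zb20) (kb xb1 yb4 zb49) (kb xb1 yb23 zb28) (kb xb0 yb17 zb11) (kb xb1 yb23 zb36) (kb xb1 yb23 zb32) (kb xb1 yb23 zb33) (kb xb0 yb38 zb44) (kb xb0 yb17 zb12) (kb xb0 yb38 zb42) (kb xb1 yb23 zb50) (kb xb1 yb23 zb51) (kb xb1 yb4 zb60) (kb xb1 yb23 zb61) (kb xb1 yb24 zb2) (kb xb1 yb7 zb57) (kb xb0 yb17 zb18) (kb xb0 yb17 zb19) (kb xb0 yb17 zb16) (kb xb1 yb24 zb17) (kb xb0 yb17 zb17) (kb xb1 yb24 zb24) (kb xb1 yb24 zb29) (kb xb1 yb24 zb33) (kb xb1 yb24 zb11) (kb xb1 yb24 zb37) (kb xb1 yb4 zb59)) (@D3.rec (fun _ => Pt) (kb xb1 yb24 zb14) (kb xb1 yb24 zb43) (kb xb0 yb39 zb2) (kb xb1 yb22 zb8) (kb xb0 yb17 zb29) (kb xb0 yb17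 zb30) (kb xb1 yb24 zb51) (kb xb0 yb54 zb20) (kb xb0 yb34 zb59) (kb xb1 yb24 zb58) (kb xb1 yb25 zb0) (kb xb0 yb17 zb36) (kb xb0 yb17 zb37) (kb xb0 yb17 zb34) (kb xb1 yb25 zb8) (kb xb1 yb25 zb9) (kb xb0 yb17 zb35) (kb xb1 yb25 zb13) (kb xb1 yb25 zb14) (kb xb1 yb25 zb17) (kb xb1 yb25 zb20) (kb xb1 yb25 zb25) (kb xb1 yb25 zb7) (kb xb0 yb17 zb38) (kb xb1 yb25 zb29) (kb xb1 yb25 zb30) (kb xb1 yb12 zb35) (kb xb0 yb39 zb27) (kb xb0 yb17 zb43) (kb xb0 yb17 zb44) (kb xb0 yb17 zb42) (kb xb1 yb25 zb35) (kb xb1 yb25 zb36) (kb xb0 yb34 zb20) (kb xb1 yb25 zb40) (kb xb0 yb17 zb46) (kb xb1 yb12 zb5) (kb xb1 yb25 zb42) (kb xb1 yb25 zb45) (kb xb1 yb25 zb47) (kb xb0 yb17 zb47) (kb xb1 yb25 zb53) (kb xb1 yb25 zb54) (kb xb0 yb57 zb36) (kb xb1 yb26 zb1) (kb xb1 yb26 zb5) (kb xb1 yb5 zb27)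 (kb xb0 yb17 zb50) (kb xb0 yb17 zb51) (kb xb1 yb26 zb9) (kb xb1 yb26 zb10) (kb xb0 yb39 zb51) (kb xb0 yb36 zb28) (kb xb1 yb4 zb43) (kb xb0 yb17 zb56) (kb xb1 yb10 zb44) (kb xb0 yb29 zb31) (kb xb1 yb26 zb21) (kb xb0 yb42 zb22) (kb xb1 yb26 zb25) (kb xb0 yb45 zb15) (kb xb0 yb17 zb58)) (@D3.rec (fun _ => Pt) (kb xb1 yb26 zb29) (kb xb1 yb26 zb30) (kb xb0 yb41 zb32) (kb xb1 yb26 zb33) (kb xb0 yb45 zb20) (kb xb0 yb17 zb60) (kb xb1 yb26 zb37) (kb xb0 yb41 zb10) (kb xb1 yb26 zb41) (kb xb0 yb17 zb61) (kb xb0 yb47 zb56) (kb xb1 yb26 zb45) (kb xb1 yb26 zb46) (kb xb0 yb18 zb0) (kb xb0 yb21 zb23) (kb xb1 yb26 zb53) (kb xb1 yb5 zb35) (kb xb1 yb26 zb58) (kb xb1 yb26 zb60) (kb xb1 yb27 zb3) (kb xb0 yb18 zb5) (kb xb0 yb18 zb6) (kb xb0 yb18 zb7) (kb xb0 yb18 zb4) (kb xb1 yb27 zb14) (kb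 xb1 yb27 zb19) (kb xb1 yb27 zb23) (kb xb1 yb27 zb9) (kb xb1 yb27 zb10) (kb xb1 yb27 zb12) (kb xb1 yb27 zb32) (kb xb0 yb18 zb10) (kb xb0 yb18 zb9) (kb xb1 yb27 zb39) (kb xb1 yb2 zb21) (kb xb1 yb27 zb43) (kb xb1 yb27 zb35) (kb xb1 yb27 zb46) (kb xb0 yb37 zb42) (kb xb1 yb27 zb51) (kb xb0 yb54 zb32) (kb xb1 yb27 zb57) (kb xb0 yb37 zb45) (kb xb1 yb28 zb1) (kb xb1 yb28 zb3) (kb xb0 yb18 zb15) (kb xb1 yb28 zb9) (kb xb1 yb28 zb10) (kb xb1 yb3 zb57) (kb xb0 yb40 zb49) (kb xb0 yb18 zb24) (kb xb0 yb18 zb19) (kb xb0 yb18 zb18) (kb xb1 yb28 zb27) (kb xb1 yb20 zb37) (kb xb1 yb27 zb61) (kb xb1 yb28 zb23) (kb xb1 yb28 zb31) (kb xb1 yb28 zb35) (kb xb1 yb5 zb49) (kb xb0 yb18 zb21) (kb xb1 yb28 zb42)) (@D3.rec (fun _ => Pt) (kb xb1 yb28 zb43) (kb xb0 yb18 zb22) (kb xb1 yb28 zb51) (kb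 xb1 yb28 zb49) (kb xb1 yb28 zb50) (kb xb1 yb28 zb55) (kb xb0 yb37 zb39) (kb xb0 yb37 zb40) (kb xb0 yb45 zb43) (kb xb1 yb28 zb60) (kb xb0 yb40 zb7) (kb xb0 yb18 zb26) (kb xb0 yb18 zb27) (kb xb1 yb29 zb4) (kb xb1 yb29 zb6) (kb xb1 yb5 zb33) (kb xb1 yb29 zb15) (kb xb0 yb47 zb52) (kb xb0 yb18 zb29) (kb xb0 yb18 zb30) (kb xb1 yb29 zb22) (kb xb1 yb29 zb25) (kb xb0 yb46 zb54) (kb xb1 yb29 zb32) (kb xb1 yb5 zb60) (kb xb0 yb18 zb32) (kb xb1 yb29 zb36) (kb xb0 yb18 zb33) (kb xb1 yb29 zb43) (kb xb1 yb29 zb41) (kb xb1 yb29 zb42) (kb xb0 yb18 zb34) (kb xb0 yb40 zb2) (kb xb1 yb29 zb50) (kb xb1 yb6 zb1) (kb xb1 yb6 zb2) (kb xb1 yb29 zb59) (kb xb1 yb30 zb0) (kb xb1 yb24 zb23) (kb xb0 yb18 zb39) (kb xb1 yb30 zb11) (kb xb1 yb30 zb14) (kb xb0 yb18 zb42) (kb xb0 yb18 zb43) (kb xb0 yb18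 zb38) (kb xb1 yb30 zb22) (kb xb1 yb30 zb25) (kb xb1 yb30 zb29) (kb xb1 yb30 zb9) (kb xb1 yb30 zb10) (kb xb0 yb18 zb40) (kb xb1 yb30 zb39) (kb xb0 yb18 zb41) (kb xb1 yb30 zb44) (kb xb1 yb30 zb47) (kb xb1 yb30 zb50) (kb xb1 yb30 zb19) (kb xb1 yb30 zb54) (kb xb0 yb18 zb44) (kb xb1 yb30 zb57) (kb xb0 yb18 zb45) (kb xb1 yb31 zb0)) (@D3.rec (fun _ => Pt) (kb xb1 yb20 zb58) (kb xb0 yb18 zb47) (kb xb1 yb31 zb7) (kb xb1 yb31 zb8) (kb xb0 yb30 zb27) (kb xb0 yb18 zb53) (kb xb1 yb4 zb13) (kb xb1 yb31 zb17) (kb xb1 yb6 zb31) (kb xb0 yb18 zb50) (kb xb1 yb5 zb0) (kb xb1 yb20 zb41) (kb xb1 yb31 zb25) (kb xb0 yb36 zb56) (kb xb0 yb18 zb52) (kb xb1 yb31 zb30) (kb xb1 yb31 zb29) (kb xb1 yb10 zb23) (kb xb0 yb18 zb54) (kb xb1 yb31 zb34) (kb xb1 yb31 zb32) (kb xb0 yb18 zb55) (kb xb0 yb39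 zb58) (kb xb0 yb51 zb46) (kb xb1 yb31 zb37) (kb xb1 yb6 zb42) (kb xb1 yb6 zb43) (kb xb0 yb50 zb23) (kb xb1 yb31 zb46) (kb xb1 yb24 zb16) (kb xb0 yb18 zb59) (kb xb1 yb31 zb52) (kb xb1 yb31 zb55) (kb xb0 yb19 zb0) (kb xb0 yb19 zb1) (kb xb1 yb31 zb61) (kb xb1 yb32 zb2) (kb xb1 yb31 zb51) (kb xb1 yb24 zb30) (kb xb0 yb18 zb60) (kb xb1 yb32 zb12) (kb xb0 yb18 zb61) (kb xb1 yb32 zb17) (kb xb1 yb32 zb19) (kb xb1 yb31 zb60) (kb xb0 yb31 zb2) (kb xb0 yb50 zb15) (kb xb0 yb45 zb21) (kb xb0 yb19 zb3) (kb xb1 yb32 zb26) (kb xb1 yb32 zb25) (kb xb0 yb19 zb4) (kb xb0 yb19 zb24) (kb xb1 yb6 zb59) (kb xb1 yb32 zb34) (kb xb1 yb32 zb37) (kb xb1 yb23 zb16) (kb xb0 yb19 zb9) (kb xb0 yb19 zb7) (kb xb1 yb32 zb47) (kb xb0 yb19 zb8) (kb xb1 yb32 zb53)) (@D3.rec (fun _ => Pt) (kb xb1 yb32 zb57)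 (kb xb1 yb32 zb61) (kb xb1 yb32 zb33) (kb xb0 yb50 zb21) (kb xb0 yb19 zb11) (kb xb0 yb19 zb19) (kb xb1 yb33 zb6) (kb xb1 yb33 zb9) (kb xb0 yb51 zb26) (kb xb0 yb52 zb4) (kb xb0 yb19 zb15) (kb xb0 yb19 zb16) (kb xb0 yb19 zb17) (kb xb1 yb33 zb17) (kb xb0 yb19 zb18) (kb xb0 yb43 zb39) (kb xb0 yb43 zb52) (kb xb1 yb33 zb5) (kb xb1 yb31 zb56) (kb xb0 yb19 zb20) (kb xb1 yb33 zb25) (kb xb1 yb7 zb16) (kb xb1 yb33 zb30) (kb xb1 yb33 zb33) (kb xb1 yb22 zb18) (kb xb0 yb19 zb23) (kb xb1 yb33 zb43) (kb xb1 yb33 zb46) (kb xb1 yb33 zb42) (kb xb1 yb32 zb30) (kb xb1 yb32 zb31) (kb xb0 yb19 zb25) (kb xb1 yb33 zb52) (kb xb1 yb33 zb53) (kb xb0 yb50 zb59) (kb xb0 yb50 zb60) (kb xb1 yb7 zb24) (kb xb1 yb33 zb61) (kb xb1 yb21 zb61) (kb xb0 yb43 zb15) (kb xb1 yb34 zb7) (kb xb1 yb34 zb10) (kb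 xb1 yb7 zb17) (kb xb1 yb5 zb37) (kb xb0 yb44 zb6) (kb xb1 yb7 zb27) (kb xb1 yb7 zb28) (kb xb0 yb19 zb33) (kb xb1 yb7 zb3) (kb xb1 yb33 zb3) (kb xb0 yb19 zb36) (kb xb0 yb19 zb37) (kb xb0 yb43 zb16) (kb xb0 yb19 zb35) (kb xb1 yb34 zb23) (kb xb0 yb46 zb18) (kb xb1 yb34 zb31) (kb xb1 yb34 zb19) (kb xb1 yb34 zb20) (kb xb1 yb32 zb21) (kb xb0 yb46 zb13) (kb xb0 yb19 zb40)) (@D3.rec (fun _ => Pt) (kb xb0 yb19 zb41) (kb xb0 yb45 zb46) (kb xb0 yb46 zb16) (kb xb1 yb34 zb41) (kb xb1 yb34 zb35) (kb xb1 yb7 zb41) (kb xb0 yb43 zb44) (kb xb1 yb34 zb44) (kb xb1 yb34 zb47) (kb xb1 yb34 zb52) (kb xb1 yb7 zb45) (kb xb0 yb19 zb43) (kb xb1 yb35 zb1) (kb xb1 yb34 zb60) (kb xb0 yb19 zb44) (kb xb1 yb35 zb11) (kb xb1 yb35 zb10) (kb xb1 yb35 zb18) (kb xb1 yb35 zb21) (kb xb0 yb19 zb45) (kb xb1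 yb35 zb27) (kb xb1 yb35 zb28) (kb xb1 yb5 zb1) (kb xb1 yb35 zb39) (kb xb1 yb35 zb42) (kb xb0 yb19 zb57) (kb xb0 yb19 zb58) (kb xb1 yb35 zb50) (kb xb1 yb35 zb53) (kb xb0 yb19 zb61) (kb xb1 yb8 zb3) (kb xb1 yb21 zb44) (kb xb0 yb19 zb50) (kb xb1 yb36 zb6) (kb xb1 yb35 zb5) (kb xb1 yb36 zb4) (kb xb1 yb36 zb5) (kb xb1 yb8 zb10) (kb xb1 yb21 zb10) (kb xb0 yb19 zb52) (kb xb1 yb35 zb14) (kb xb1 yb36 zb25) (kb xb1 yb36 zb22) (kb xb1 yb36 zb23) (kb xb1 yb36 zb32) (kb xb1 yb31 zb24) (kb xb1 yb8 zb19) (kb xb0 yb19 zb54) (kb xb1 yb36 zb42) (kb xb1 yb36 zb45) (kb xb1 yb36 zb40) (kb xb1 yb36 zb41) (kb xb0 yb19 zb55) (kb xb1 yb36 zb58) (kb xb1 yb36 zb55) (kb xb1 yb36 zb56) (kb xb0 yb19 zb56) (kb xb1 yb37 zb9) (kb xb1 yb37 zb7) (kb xb1 yb37 zb8) (kb xb1 yb35 zb46) (kb xb1 yb37 zb16))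 (@D3.rec (fun _ => Pt) (kb xb1 yb7 zb51) (kb xb1 yb35 zb49) (kb xb0 yb19 zb59) (kb xb1 yb37 zb23) (kb xb0 yb19 zb60) (kb xb1 yb37 zb25) (kb xb1 yb37 zb28) (kb xb1 yb37 zb32) (kb xb1 yb7 zb30) (kb xb0 yb50 zb46) (kb xb0 yb20 zb16) (kb xb0 yb20 zb1) (kb xb1 yb37 zb37) (kb xb1 yb6 zb40) (kb xb1 yb37 zb41) (kb xb0 yb39 zb60) (kb xb0 yb20 zb6) (kb xb1 yb37 zb44) (kb xb1 yb6 zb0) (kb xb1 yb37 zb46) (kb xb0 yb40 zb4) (kb xb0 yb42 zb47) (kb xb0 yb51 zb31) (kb xb0 yb20 zb15) (kb xb1 yb37 zb52) (kb xb1 yb37 zb53) (kb xb1 yb37 zb33) (kb xb1 yb37 zb61) (kb xb1 yb38 zb2) (kb xb1 yb38 zb7) (kb xb0 yb20 zb20) (kb xb0 yb20 zb21) (kb xb0 yb20 zb22) (kb xb0 yb20 zb19) (kb xb1 yb38 zb20) (kb xb1 yb38 zb22) (kb xb1 yb38 zb25) (kb xb1 yb38 zb13) (kb xb1 yb38 zb14) (kb xb0 yb20 zb23) (kb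 xb1 yb38 zb32) (kb xb1 yb38 zb30) (kb xb0 yb20 zb24) (kb xb0 yb41 zb8) (kb xb1 yb38 zb36) (kb xb0 yb45 zb45) (kb xb0 yb44 zb1) (kb xb1 yb38 zb44) (kb xb0 yb47 zb27) (kb xb0 yb20 zb27) (kb xb1 yb38 zb53) (kb xb1 yb38 zb56) (kb xb1 yb38 zb52) (kb xb0 yb46 zb61) (kb xb0 yb49 zb8) (kb xb0 yb20 zb32) (kb xb0 yb45 zb56) (kb xb1 yb39 zb2) (kb xb1 yb39 zb4) (kb xb0 yb20 zb35) (kb xb0 yb20 zb36) (kb xb1 yb39 zb8)) (@D3.rec (fun _ => Pt) (kb xb0 yb48 zb6) (kb xb0 yb20 zb38) (kb xb0 yb30 zb10) (kb xb1 yb39 zb13) (kb xb0 yb46 zb4) (kb xb0 yb20 zb41) (kb xb0 yb46 zb6) (kb xb0 yb20 zb43) (kb xb0 yb46 zb17) (kb xb0 yb20 zb46) (kb xb1 yb6 zb57) (kb xb0 yb20 zb45) (kb xb1 yb7 zb26) (kb xb0 yb43 zb60) (kb xb1 yb39 zb28) (kb xb1 yb39 zb21) (kb xb0 yb44 zb2) (kb xb0 yb46 zb8) (kb xb0 yb43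 zb55) (kb xb1 yb7 zb34) (kb xb0 yb20 zb50) (kb xb0 yb20 zb51) (kb xb1 yb5 zb36) (kb xb1 yb7 zb37) (kb xb1 yb39 zb43) (kb xb1 yb39 zb38) (kb xb0 yb46 zb26) (kb xb1 yb39 zb47) (kb xb0 yb46 zb28) (kb xb0 yb20 zb53) (kb xb1 yb39 zb56) (kb xb1 yb39 zb53) (kb xb0 yb20 zb54) (kb xb1 yb40 zb2) (kb xb1 yb40 zb1) (kb xb1 yb40 zb8) (kb xb1 yb40 zb11) (kb xb0 yb52 zb61) (kb xb0 yb53 zb4) (kb xb1 yb40 zb22) (kb xb1 yb40 zb26) (kb xb0 yb20 zb60) (kb xb1 yb26 zb54) (kb xb1 yb40 zb31) (kb xb0 yb20 zb61) (kb xb0 yb20 zb58) (kb xb1 yb40 zb38) (kb xb1 yb40 zb39) (kb xb0 yb20 zb59) (kb xb1 yb40 zb43) (kb xb1 yb40 zb44) (kb xb0 yb46 zb51) (kb xb0 yb46 zb52) (kb xb0 yb21 zb1) (kb xb0 yb41 zb22) (kb xb1 yb40 zb48) (kb xb0 yb21 zb60) (kb xb0 yb48 zb61) (kb xb1 yb40 zb53) (kb xb0 yb21 zb4)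 (kb xb0 yb21 zb5) (kb xb0 yb45 zb53)) (@D3.rec (fun _ => Pt) (kb xb0 yb30 zb11) (kb xb0 yb21 zb3) (kb xb1 yb40 zb61) (kb xb1 yb41 zb0) (kb xb1 yb41 zb1) (kb xb0 yb47 zb5) (kb xb1 yb40 zb57) (kb xb1 yb40 zb58) (kb xb1 yb39 zb12) (kb xb0 yb21 zb8) (kb xb0 yb21 zb7) (kb xb1 yb37 zb58) (kb xb1 yb38 zb15) (kb xb1 yb41 zb11) (kb xb1 yb41 zb15) (kb xb0 yb47 zb15) (kb xb0 yb21 zb10) (kb xb1 yb41 zb26) (kb xb1 yb41 zb23) (kb xb0 yb21 zb11) (kb xb1 yb41 zb32) (kb xb1 yb41 zb31) (kb xb1 yb41 zb37) (kb xb1 yb41 zb40) (kb xb0 yb21 zb12) (kb xb1 yb41 zb45) (kb xb1 yb41 zb46) (kb xb0 yb45 zb48) (kb xb1 yb41 zb55) (kb xb1 yb41 zb59) (kb xb0 yb21 zb20) (kb xb0 yb21 zb21) (kb xb1 yb42 zb4) (kb xb0 yb21 zb22) (kb xb0 yb47 zb34) (kb xb0 yb21 zb17) (kb xb1 yb42 zb12) (kb xb1 yb42 zb14)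 (kb xb1 yb42 zb11) (kb xb0 yb21 zb18) (kb xb1 yb42 zb20) (kb xb1 yb42 zb18) (kb xb1 yb42 zb19) (kb xb0 yb21 zb19) (kb xb1 yb42 zb29) (kb xb1 yb42 zb27) (kb xb1 yb42 zb28) (kb xb1 yb42 zb1) (kb xb1 yb26 zb52) (kb xb0 yb21 zb24) (kb xb0 yb29 zb59) (kb xb1 yb42 zb32) (kb xb0 yb41 zb17) (kb xb0 yb47 zb53) (kb xb1 yb35 zb54) (kb xb0 yb21 zb28) (kb xb0 yb40 zb10) (kb xb0 yb49 zb4) (kb xb0 yb21 zb31) (kb xb0 yb21 zb32) (kb xb0 yb21 zb30) (kb xb0 yb51 zb36)) (@D3.rec (fun _ => Pt) (kb xb1 yb42 zb46) (kb xb1 yb42 zb51) (kb xb1 yb42 zb43) (kb xb0 yb48 zb3) (kb xb1 yb42 zb45) (kb xb0 yb48 zb59) (kb xb0 yb46 zb0) (kb xb0 yb21 zb35) (kb xb0 yb22 zb49) (kb xb1 yb42 zb61) (kb xb1 yb42 zb59) (kb xb1 yb43 zb4) (kb xb0 yb48 zb12) (kb xb1 yb43 zb11) (kb xb1 yb43 zb12) (kb xb0 yb48 zb15)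 (kb xb0 yb48 zb16) (kb xb0 yb21 zb38) (kb xb1 yb43 zb17) (kb xb1 yb43 zb15) (kb xb0 yb21 zb39) (kb xb1 yb43 zb25) (kb xb1 yb43 zb24) (kb xb1 yb43 zb28) (kb xb1 yb43 zb31) (kb xb0 yb49 zb23) (kb xb0 yb49 zb24) (kb xb1 yb43 zb42) (kb xb1 yb43 zb46) (kb xb0 yb21 zb48) (kb xb0 yb21 zb49) (kb xb0 yb21 zb42) (kb xb1 yb43 zb56) (kb xb0 yb21 zb43) (kb xb1 yb38 zb61) (kb xb1 yb43 zb61) (kb xb1 yb44 zb2) (kb xb1 yb44 zb7) (kb xb0 yb21 zb54) (kb xb0 yb21 zb46) (kb xb1 yb44 zb12) (kb xb0 yb21 zb47) (kb xb1 yb44 zb17) (kb xb1 yb44 zb18) (kb xb1 yb43 zb58) (kb xb0 yb48 zb45) (kb xb0 yb30 zb16) (kb xb1 yb43 zb52) (kb xb0 yb48 zb48) (kb xb0 yb21 zb52) (kb xb0 yb21 zb53) (kb xb1 yb44 zb29) (kb xb1 yb44 zb10) (kb xb0 yb21 zb55) (kb xb1 yb44 zb30) (kb xb1 yb44 zb33) (kb xb0 yb48 zb56)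 (kb xb0 yb21 zb58) (kb xb0 yb49 zb3) (kb xb0 yb48 zb5) (kb xb0 yb21 zb61) (kb xb0 yb46 zb57)) (@D3.rec (fun _ => Pt) (kb xb1 yb40 zb51) (kb xb1 yb44 zb43) (kb xb1 yb44 zb38) (kb xb0 yb48 zb58) (kb xb0 yb47 zb57) (kb xb0 yb22 zb2) (kb xb0 yb22 zb3) (kb xb0 yb23 zb7) (kb xb0 yb45 zb54) (kb xb1 yb44 zb55) (kb xb1 yb44 zb50) (kb xb1 yb44 zb52) (kb xb1 yb44 zb61) (kb xb0 yb49 zb13) (kb xb0 yb49 zb14) (kb xb0 yb22 zb6) (kb xb1 yb45 zb9) (kb xb1 yb45 zb6) (kb xb0 yb22 zb7) (kb xb1 yb45 zb13) (kb xb1 yb45 zb12) (kb xb1 yb45 zb18) (kb xb1 yb45 zb21) (kb xb0 yb48 zb25) (kb xb0 yb48 zb26) (kb xb1 yb45 zb31) (kb xb1 yb45 zb33) (kb xb0 yb22 zb15) (kb xb0 yb22 zb16) (kb xb0 yb22 zb10) (kb xb0 yb22 zb44) (kb xb1 yb45 zb42) (kb xb1 yb45 zb46) (kb xb0 yb22 zb18) (kb xb0 yb22 zb13) (kb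 xb0 yb22 zb14) (kb xb1 yb45 zb54) (kb xb1 yb45 zb56) (kb xb1 yb45 zb57) (kb xb1 yb45 zb40) (kb xb0 yb22 zb17) (kb xb1 yb45 zb49) (kb xb0 yb22 zb21) (kb xb0 yb22 zb20) (kb xb1 yb45 zb60) (kb xb1 yb45 zb61) (kb xb1 yb45 zb59) (kb xb0 yb22 zb56) (kb xb0 yb22 zb57) (kb xb1 yb46 zb5) (kb xb0 yb49 zb50) (kb xb1 yb46 zb11) (kb xb1 yb46 zb13) (kb xb0 yb50 zb5) (kb xb0 yb50 zb6) (kb xb1 yb46 zb21) (kb xb1 yb46 zb25) (kb xb0 yb22 zb28) (kb xb0 yb22 zb27) (kb xb1 yb46 zb32) (kb xb0 yb23 zb18) (kb xb0 yb51 zb32)) (@D3.rec (fun _ => Pt) (kb xb0 yb22 zb43) (kb xb1 yb46 zb36) (kb xb0 yb50 zb2) (kb xb1 yb46 zb38) (kb xb1 yb46 zb40) (kb xb0 yb49 zb53) (kb xb0 yb49 zb54) (kb xb1 yb46 zb46) (kb xb1 yb46 zb49) (kb xb0 yb22 zb37) (kb xb1 yb46 zb52) (kb xb0 yb22 zb38) (kb xb0 yb23 zb11)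 (kb xb0 yb22 zb40) (kb xb1 yb46 zb54) (kb xb0 yb42 zb46) (kb xb0 yb51 zb40) (kb xb0 yb51 zb41) (kb xb1 yb47 zb1) (kb xb1 yb46 zb35) (kb xb1 yb45 zb41) (kb xb0 yb43 zb3) (kb xb0 yb22 zb47) (kb xb0 yb42 zb27) (kb xb1 yb47 zb12) (kb xb1 yb47 zb10) (kb xb1 yb47 zb15) (kb xb0 yb50 zb27) (kb xb1 yb47 zb22) (kb xb1 yb42 zb60) (kb xb0 yb22 zb50) (kb xb1 yb47 zb27) (kb xb1 yb47 zb26) (kb xb1 yb47 zb32) (kb xb1 yb47 zb35) (kb xb0 yb51 zb20) (kb xb0 yb51 zb21) (kb xb1 yb47 zb46) (kb xb1 yb47 zb50) (kb xb0 yb22 zb55) (kb xb0 yb22 zb53) (kb xb1 yb47 zb55) (kb xb1 yb47 zb56) (kb xb0 yb22 zb54) (kb xb1 yb47 zb58) (kb xb0 yb30 zb60) (kb xb0 yb45 zb9) (kb xb1 yb46 zb3) (kb xb1 yb48 zb6) (kb xb1 yb46 zb4) (kb xb0 yb23 zb30) (kb xb0 yb22 zb60) (kb xb0 yb22 zb61) (kb xb1 yb6 zb3) (kb xb1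 yb6 zb58) (kb xb1 yb48 zb18) (kb xb1 yb48 zb11) (kb xb0 yb50 zb57) (kb xb1 yb48 zb13) (kb xb0 yb43 zb34) (kb xb0 yb43 zb35) (kb xb1 yb48 zb28)) (@D3.rec (fun _ => Pt) (kb xb0 yb51 zb0) (kb xb0 yb23 zb3) (kb xb1 yb48 zb31) (kb xb0 yb23 zb4) (kb xb1 yb48 zb34) (kb xb1 yb48 zb35) (kb xb1 yb31 zb38) (kb xb1 yb48 zb41) (kb xb1 yb48 zb46) (kb xb0 yb30 zb55) (kb xb1 yb33 zb13) (kb xb1 yb39 zb41) (kb xb0 yb30 zb56) (kb xb1 yb48 zb52) (kb xb1 yb44 zb53) (kb xb0 yb23 zb8) (kb xb1 yb48 zb59) (kb xb1 yb48 zb58) (kb xb1 yb49 zb0) (kb xb1 yb49 zb3) (kb xb0 yb50 zb35) (kb xb0 yb50 zb36) (kb xb1 yb49 zb13) (kb xb1 yb49 zb16) (kb xb0 yb52 zb5) (kb xb0 yb23 zb12) (kb xb0 yb43 zb8) (kb xb1 yb40 zb55) (kb xb1 yb49 zb20) (kb xb0 yb51 zb29) (kb xb0 yb51 zb30) (kb xb0 yb45 zb22) (kb xb0 yb49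 zb61) (kb xb1 yb41 zb29) (kb xb0 yb23 zb19) (kb xb1 yb49 zb29) (kb xb0 yb47 zb61) (kb xb1 yb49 zb33) (kb xb0 yb23 zb28) (kb xb0 yb23 zb29) (kb xb0 yb50 zb16) (kb xb0 yb50 zb17) (kb xb1 yb6 zb4) (kb xb0 yb23 zb25) (kb xb0 yb23 zb26) (kb xb1 yb39 zb11) (kb xb0 yb42 zb23) (kb xb1 yb49 zb53) (kb xb1 yb49 zb46) (kb xb1 yb49 zb47) (kb xb1 yb49 zb48) (kb xb1 yb49 zb57) (kb xb1 yb49 zb60) (kb xb0 yb23 zb27) (kb xb1 yb36 zb18) (kb xb1 yb50 zb3) (kb xb0 yb51 zb56) (kb xb1 yb49 zb38) (kb xb1 yb41 zb21) (kb xb1 yb48 zb9) (kb xb1 yb50 zb15) (kb xb0 yb23 zb37)) (@D3.rec (fun _ => Pt) (kb xb0 yb23 zb34) (kb xb0 yb23 zb35) (kb xb1 yb50 zb21) (kb xb1 yb47 zb60) (kb xb0 yb43 zb9) (kb xb0 yb51 zb24) (kb xb1 yb47 zb61) (kb xb0 yb23 zb36) (kb xb1 yb50 zb27) (kb xb1 yb50 zb28) (kb xb0 yb52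 zb10) (kb xb0 yb23 zb39) (kb xb1 yb50 zb37) (kb xb1 yb50 zb35) (kb xb0 yb23 zb40) (kb xb1 yb50 zb42) (kb xb1 yb50 zb41) (kb xb1 yb50 zb45) (kb xb1 yb50 zb48) (kb xb0 yb23 zb41) (kb xb1 yb50 zb54) (kb xb1 yb50 zb55) (kb xb1 yb50 zb61) (kb xb1 yb51 zb2) (kb xb0 yb52 zb24) (kb xb1 yb44 zb39) (kb xb1 yb51 zb6) (kb xb0 yb23 zb45) (kb xb1 yb51 zb12) (kb xb1 yb51 zb14) (kb xb0 yb23 zb44) (kb xb1 yb51 zb18) (kb xb1 yb51 zb19) (kb xb0 yb52 zb33) (kb xb0 yb24 zb4) (kb xb1 yb51 zb11) (kb xb1 yb48 zb10) (kb xb1 yb51 zb34) (kb xb0 yb23 zb48) (kb xb0 yb23 zb47) (kb xb1 yb51 zb44) (kb xb1 yb51 zb45) (kb xb0 yb52 zb42) (kb xb1 yb51 zb39) (kb xb1 yb51 zb40) (kb xb0 yb23 zb49) (kb xb1 yb42 zb40) (kb xb1 yb51 zb61) (kb xb1 yb52 zb0) (kb xb0 yb23 zb50) (kb xb0 yb24 zb12) (kb xb1 yb52 zb10)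 (kb xb1 yb52 zb11) (kb xb1 yb52 zb16) (kb xb1 yb50 zb53) (kb xb0 yb23 zb52) (kb xb0 yb23 zb53) (kb xb1 yb52 zb28) (kb xb1 yb52 zb30) (kb xb1 yb52 zb32) (kb xb1 yb52 zb23) (kb xb0 yb46 zb37)) (@D3.rec (fun _ => Pt) (kb xb1 yb52 zb39) (kb xb1 yb52 zb43) (kb xb1 yb52 zb26) (kb xb1 yb52 zb27) (kb xb0 yb46 zb38) (kb xb0 yb23 zb55) (kb xb1 yb52 zb61) (kb xb1 yb52 zb58) (kb xb1 yb52 zb59) (kb xb0 yb23 zb56) (kb xb1 yb53 zb11) (kb xb1 yb53 zb9) (kb xb1 yb53 zb10) (kb xb0 yb24 zb27) (kb xb1 yb53 zb17) (kb xb1 yb53 zb20) (kb xb0 yb24 zb28) (kb xb0 yb23 zb59) (kb xb1 yb53 zb24) (kb xb0 yb23 zb60) (kb xb1 yb32 zb10) (kb xb1 yb53 zb27) (kb xb1 yb53 zb32) (kb xb1 yb53 zb34) (kb xb0 yb53 zb24) (kb xb1 yb53 zb40) (kb xb1 yb53 zb42) (kb xb0 yb53 zb40) (kb xb0 yb53 zb41) (kb xb1 yb53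 zb50) (kb xb1 yb53 zb54) (kb xb0 yb24 zb5) (kb xb0 yb24 zb3) (kb xb1 yb53 zb59) (kb xb1 yb51 zb31) (kb xb1 yb51 zb32) (kb xb1 yb53 zb60) (kb xb0 yb53 zb37) (kb xb1 yb54 zb5) (kb xb1 yb54 zb7) (kb xb0 yb53 zb27) (kb xb0 yb53 zb28) (kb xb1 yb54 zb15) (kb xb1 yb54 zb17) (kb xb0 yb24 zb10) (kb xb0 yb24 zb11) (kb xb0 yb24 zb9) (kb xb1 yb53 zb3) (kb xb1 yb51 zb53) (kb xb1 yb54 zb25) (kb xb1 yb54 zb23) (kb xb1 yb52 zb9) (kb xb1 yb52 zb12) (kb xb0 yb24 zb13) (kb xb1 yb54 zb30) (kb xb1 yb54 zb29) (kb xb0 yb53 zb56) (kb xb1 yb54 zb36) (kb xb1 yb54 zb39) (kb xb0 yb24 zb18) (kb xb0 yb24 zb19) (kb xb0 yb24 zb16)) (@D3.rec (fun _ => Pt) (kb xb1 yb53 zb16) (kb xb0 yb24 zb17) (kb xb1 yb54 zb46) (kb xb1 yb54 zb43) (kb xb1 yb53 zb6) (kb xb0 yb54 zb5) (kb xb1 yb54 zb52) (kb xb0 yb24 zb22)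 (kb xb0 yb24 zb23) (kb xb0 yb24 zb21) (kb xb1 yb52 zb55) (kb xb0 yb54 zb11) (kb xb1 yb55 zb1) (kb xb0 yb24 zb26) (kb xb0 yb24 zb25) (kb xb1 yb55 zb4) (kb xb0 yb31 zb22) (kb xb0 yb24 zb30) (kb xb1 yb55 zb7) (kb xb0 yb24 zb31) (kb xb0 yb39 zb7) (kb xb1 yb55 zb12) (kb xb0 yb59 zb37) (kb xb1 yb15 zb36) (kb xb0 yb59 zb60) (kb xb1 yb55 zb21) (kb xb0 yb55 zb7) (kb xb0 yb55 zb8) (kb xb0 yb55 zb9) (kb xb1 yb55 zb31) (kb xb0 yb24 zb54) (kb xb1 yb55 zb34) (kb xb0 yb40 zb40) (kb xb1 yb55 zb37) (kb xb1 yb55 zb39) (kb xb0 yb24 zb39) (kb xb1 yb55 zb45) (kb xb0 yb59 zb6) (kb xb1 yb9 zb45) (kb xb0 yb57 zb38) (kb xb0 yb32 zb19) (kb xb1 yb55 zb54) (kb xb1 yb55 zb58) (kb xb0 yb24 zb44) (kb xb0 yb24 zb45) (kb xb1 yb56 zb3) (kb xb0 yb59 zb22) (kb xb1 yb56 zb6) (kb xb1 yb56 zb2) (kb xb1 yb56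 zb9) (kb xb1 yb1 zb31) (kb xb1 yb1 zb33) (kb xb0 yb24 zb49) (kb xb0 yb24 zb50) (kb xb1 yb56 zb12) (kb xb1 yb1 zb39) (kb xb0 yb24 zb52) (kb xb1 yb56 zb13) (kb xb0 yb24 zb53) (kb xb1 yb56 zb17) (kb xb1 yb56 zb18) (kb xb1 yb56 zb22)) (@D3.rec (fun _ => Pt) (kb xb1 yb56 zb26) (kb xb0 yb32 zb53) (kb xb0 yb24 zb56) (kb xb1 yb56 zb34) (kb xb0 yb55 zb4) (kb xb0 yb27 zb49) (kb xb0 yb27 zb50) (kb xb0 yb54 zb26) (kb xb0 yb54 zb27) (kb xb0 yb54 zb28) (kb xb1 yb56 zb46) (kb xb0 yb36 zb25) (kb xb0 yb25 zb0) (kb xb1 yb56 zb52) (kb xb1 yb8 zb45) (kb xb1 yb8 zb46) (kb xb0 yb28 zb7) (kb xb0 yb28 zb8) (kb xb0 yb28 zb10) (kb xb1 yb56 zb60) (kb xb0 yb55 zb20) (kb xb1 yb57 zb2) (kb xb0 yb28 zb16) (kb xb0 yb28 zb20) (kb xb0 yb25 zb7) (kb xb1 yb57 zb11) (kb xb1 yb57 zb12) (kb xb0 yb55 zb27)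 (kb xb0 yb25 zb11) (kb xb1 yb1 zb8) (kb xb1 yb57 zb17) (kb xb1 yb15 zb53) (kb xb0 yb55 zb32) (kb xb0 yb55 zb33) (kb xb0 yb31 zb49) (kb xb0 yb31 zb50) (kb xb1 yb15 zb7) (kb xb0 yb56 zb35) (kb xb0 yb56 zb36) (kb xb1 yb14 zb39) (kb xb0 yb25 zb52) (kb xb0 yb25 zb53) (kb xb0 yb56 zb39) (kb xb0 yb25 zb55) (kb xb1 yb57 zb44) (kb xb1 yb9 zb14) (kb xb1 yb57 zb47) (kb xb1 yb25 zb12) (kb xb1 yb11 zb18) (kb xb1 yb11 zb19) (kb xb0 yb34 zb42) (kb xb0 yb26 zb4) (kb xb0 yb26 zb5) (kb xb1 yb15 zb4) (kb xb0 yb59 zb2) (kb xb0 yb58 zb34) (kb xb0 yb26 zb8) (kb xb0 yb59 zb3) (kb xb1 yb58 zb8) (kb xb0 yb55 zb59) (kb xb1 yb2 zb28) (kb xb1 yb2 zb29)) (@D3.rec (fun _ => Pt) (kb xb0 yb34 zb51) (kb xb1 yb15 zb39) (kb xb1 yb15 zb40) (kb xb0 yb35 zb33) (kb xb0 yb25 zb31) (kb xb0 yb25 zb32) (kb xb1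 yb24 zb54) (kb xb1 yb58 zb31) (kb xb0 yb57 zb40) (kb xb0 yb57 zb41) (kb xb0 yb25 zb29) (kb xb1 yb58 zb38) (kb xb1 yb58 zb39) (kb xb0 yb25 zb30) (kb xb1 yb58 zb49) (kb xb1 yb58 zb50) (kb xb1 yb58 zb56) (kb xb1 yb58 zb59) (kb xb1 yb59 zb2) (kb xb1 yb58 zb28) (kb xb0 yb28 zb47) (kb xb0 yb28 zb48) (kb xb0 yb58 zb31) (kb xb0 yb58 zb58) (kb xb1 yb3 zb6) (kb xb0 yb26 zb41) (kb xb0 yb33 zb44) (kb xb1 yb9 zb16) (kb xb0 yb25 zb36) (kb xb1 yb59 zb18) (kb xb1 yb59 zb19) (kb xb1 yb59 zb25) (kb xb0 yb26 zb48) (kb xb0 yb56 zb33) (kb xb0 yb56 zb34) (kb xb0 yb55 zb37) (kb xb0 yb55 zb38) (kb xb0 yb26 zb6) (kb xb0 yb26 zb7) (kb xb0 yb55 zb42) (kb xb0 yb26 zb9) (kb xb1 yb59 zb33) (kb xb0 yb25 zb57) (kb xb0 yb25 zb43) (kb xb0 yb57 zb37) (kb xb1 yb59 zb36) (kb xb1 yb14 zb6) (kb xb0 yb57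 zb13) (kb xb1 yb59 zb44) (kb xb1 yb59 zb48) (kb xb0 yb25 zb47) (kb xb0 yb25 zb48) (kb xb1 yb59 zb55) (kb xb1 yb59 zb11) (kb xb1 yb59 zb58) (kb xb1 yb59 zb54) (kb xb0 yb25 zb50) (kb xb0 yb25 zb51) (kb xb0 yb33 zb28) (kb xb1 yb59 zb28) (kb xb2 yb0 zb3) (kb xb2 yb0 zb2)) (@D3.rec (fun _ => Pt) (kb xb2 yb0 zb6) (kb xb1 yb57 zb38) (kb xb0 yb25 zb54) (kb xb2 yb0 zb8) (kb xb2 yb0 zb10) (kb xb1 yb57 zb41) (kb xb0 yb25 zb56) (kb xb2 yb0 zb16) (kb xb2 yb0 zb17) (kb xb0 yb25 zb58) (kb xb0 yb34 zb24) (kb xb2 yb0 zb21) (kb xb1 yb14 zb42) (kb xb0 yb56 zb47) (kb xb2 yb0 zb29) (kb xb2 yb0 zb33) (kb xb0 yb26 zb2) (kb xb0 yb26 zb3) (kb xb0 yb26 zb0) (kb xb2 yb0 zb41) (kb xb0 yb26 zb1) (kb xb2 yb0 zb45) (kb xb2 yb0 zb46) (kb xb2 yb0 zb49) (kb xb2 yb0 zb51) (kb xb2 yb0 zb40) (kb xb2 yb0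 zb0) (kb xb0 yb33 zb33) (kb xb2 yb0 zb55) (kb xb1 yb57 zb60) (kb xb2 yb0 zb57) (kb xb1 yb11 zb58) (kb xb1 yb59 zb32) (kb xb0 yb26 zb10) (kb xb2 yb0 zb61) (kb xb2 yb1 zb0) (kb xb0 yb39 zb43) (kb xb0 yb56 zb44) (kb xb0 yb54 zb39) (kb xb0 yb59 zb28) (kb xb0 yb56 zb8) (kb xb0 yb56 zb9) (kb xb0 yb26 zb16) (kb xb1 yb9 zb41) (kb xb0 yb59 zb33) (kb xb2 yb1 zb16) (kb xb2 yb1 zb17) (kb xb2 yb1 zb26) (kb xb1 yb8 zb52) (kb xb0 yb59 zb38) (kb xb0 yb59 zb39) (kb xb0 yb26 zb18) (kb xb1 yb55 zb50) (kb xb2 yb1 zb36) (kb xb2 yb1 zb37) (kb xb0 yb26 zb19) (kb xb2 yb1 zb53) (kb xb2 yb1 zb51) (kb xb2 yb1 zb52) (kb xb2 yb1 zb60) (kb xb2 yb2 zb2) (kb xb2 yb2 zb8)) (@D3.rec (fun _ => Pt) (kb xb0 yb26 zb31) (kb xb2 yb1 zb48) (kb xb0 yb59 zb51) (kb xb0 yb31 zb35) (kb xb0 yb26 zb23) (kb xb0 yb26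 zb24) (kb xb2 yb1 zb42) (kb xb2 yb2 zb28) (kb xb2 yb2 zb21) (kb xb2 yb1 zb45) (kb xb2 yb2 zb24) (kb xb1 yb55 zb11) (kb xb0 yb59 zb61) (kb xb0 yb26 zb26) (kb xb0 yb26 zb27) (kb xb2 yb2 zb42) (kb xb2 yb2 zb39) (kb xb2 yb2 zb40) (kb xb2 yb2 zb41) (kb xb0 yb26 zb28) (kb xb2 yb2 zb51) (kb xb2 yb2 zb50) (kb xb0 yb26 zb29) (kb xb2 yb2 zb60) (kb xb2 yb2 zb59) (kb xb2 yb3 zb3) (kb xb1 yb30 zb53) (kb xb0 yb26 zb30) (kb xb2 yb3 zb8) (kb xb2 yb3 zb9) (kb xb2 yb2 zb11) (kb xb0 yb56 zb22) (kb xb2 yb3 zb14) (kb xb0 yb26 zb40) (kb xb0 yb55 zb55) (kb xb0 yb27 zb29) (kb xb0 yb26 zb42) (kb xb0 yb26 zb43) (kb xb2 yb3 zb18) (kb xb1 yb0 zb17) (kb xb0 yb26 zb36) (kb xb0 yb26 zb37) (kb xb2 yb3 zb30) (kb xb2 yb3 zb33) (kb xb2 yb3 zb36) (kb xb2 yb3 zb26) (kb xb1 yb59 zb15) (kb xb2 yb3 zb29)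 (kb xb0 yb26 zb38) (kb xb2 yb3 zb41) (kb xb0 yb26 zb39) (kb xb1 yb59 zb16) (kb xb2 yb3 zb44) (kb xb1 yb0 zb37) (kb xb0 yb26 zb45) (kb xb0 yb26 zb46) (kb xb2 yb3 zb55) (kb xb2 yb3 zb51) (kb xb0 yb56 zb23) (kb xb2 yb3 zb54) (kb xb0 yb26 zb47) (kb xb0 yb26 zb58)) (@D3.rec (fun _ => Pt) (kb xb0 yb26 zb52) (kb xb2 yb4 zb1) (kb xb0 yb55 zb54) (kb xb0 yb55 zb57) (kb xb2 yb4 zb5) (kb xb0 yb29 zb56) (kb xb0 yb54 zb37) (kb xb0 yb32 zb18) (kb xb0 yb26 zb57) (kb xb2 yb4 zb12) (kb xb2 yb4 zb0) (kb xb0 yb26 zb61) (kb xb1 yb9 zb49) (kb xb2 yb4 zb24) (kb xb0 yb27 zb1) (kb xb0 yb27 zb2) (kb xb1 yb0 zb46) (kb xb2 yb4 zb19) (kb xb2 yb4 zb20) (kb xb1 yb18 zb12) (kb xb1 yb18 zb13) (kb xb2 yb4 zb40) (kb xb0 yb54 zb46) (kb xb2 yb4 zb45) (kb xb2 yb4 zb31) (kb xb2 yb4 zb49) (kb xb0 yb27 zb39)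 (kb xb0 yb31 zb61) (kb xb0 yb57 zb39) (kb xb1 yb1 zb2) (kb xb1 yb1 zb3) (kb xb0 yb34 zb37) (kb xb0 yb27 zb7) (kb xb0 yb57 zb44) (kb xb2 yb4 zb56) (kb xb2 yb4 zb57) (kb xb2 yb5 zb1) (kb xb0 yb54 zb22) (kb xb0 yb57 zb49) (kb xb0 yb57 zb50) (kb xb1 yb1 zb17) (kb xb1 yb1 zb18) (kb xb0 yb27 zb10) (kb xb0 yb35 zb43) (kb xb2 yb5 zb18) (kb xb2 yb5 zb19) (kb xb1 yb1 zb22) (kb xb2 yb5 zb28) (kb xb2 yb5 zb33) (kb xb0 yb27 zb22) (kb xb2 yb2 zb33) (kb xb0 yb58 zb2) (kb xb0 yb27 zb14) (kb xb0 yb27 zb15) (kb xb2 yb5 zb48) (kb xb2 yb5 zb11) (kb xb2 yb5 zb53) (kb xb2 yb5 zb44) (kb xb2 yb5 zb14) (kb xb2 yb5 zb47) (kb xb0 yb54 zb24) (kb xb0 yb58 zb12))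
def f_b_1 : D2 → D3 → Pt := @D2.rec (fun _ => D3 → Pt) (@D3.rec (fun _ => Pt) (kb xb0 yb27 zb17) (kb xb0 yb27 zb18) (kb xb2 yb6 zb6) (kb xb2 yb6 zb2) (kb xb2 yb5 zb24) (kb xb2 yb6 zb5) (kb xb0 yb27 zb19) (kb xb2 yb6 zb13) (kb xb2 yb6 zb12) (kb xb0 yb27 zb20) (kb xb2 yb6 zb21) (kb xb2 yb6 zb20) (kb xb2 yb6 zb26) (kb xb2 yb6 zb28) (kb xb0 yb27 zb21) (kb xb2 yb5 zb36) (kb xb2 yb6 zb34) (kb xb0 yb58 zb39) (kb xb0 yb27 zb24) (kb xb0 yb27 zb25) (kb xb2 yb6 zb46) (kb xb2 yb6 zb48) (kb xb2 yb6 zb42) (kb xb2 yb6 zb53) (kb xb2 yb6 zb45) (kb xb0 yb27 zb26) (kb xb2 yb6 zb55) (kb xb0 yb27 zb27) (kb xb2 yb6 zb58) (kb xb1 yb13 zb35) (kb xb1 yb2 zb36) (kb xb1 yb2 zb37) (kb xb2 yb6 zb4) (kb xb1 yb56 zb44) (kb xb0 yb27 zb40) (kb xb0 yb27 zb41) (kb xb1 yb16 zb47) (kb xb0 yb58 zb53) (kb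 xb0 yb27 zb36) (kb xb0 yb27 zb37) (kb xb2 yb7 zb17) (kb xb2 yb7 zb12) (kb xb2 yb7 zb15) (kb xb2 yb7 zb16) (kb xb0 yb27 zb38) (kb xb2 yb7 zb25) (kb xb0 yb59 zb16) (kb xb1 yb14 zb46) (kb xb1 yb14 zb47) (kb xb1 yb12 zb60) (kb xb0 yb32 zb4) (kb xb0 yb32 zb7) (kb xb2 yb7 zb34) (kb xb0 yb32 zb13) (kb xb0 yb27 zb47) (kb xb1 yb8 zb40) (kb xb2 yb7 zb37) (kb xb2 yb7 zb38) (kb xb0 yb35 zb7) (kb xb0 yb32 zb10) (kb xb0 yb32 zb11) (kb xb2 yb7 zb48)) (@D3.rec (fun _ => Pt) (kb xb1 yb56 zb40) (kb xb0 yb34 zb22) (kb xb0 yb59 zb29) (kb xb0 yb59 zb30) (kb xb0 yb27 zb55) (kb xb1 yb15 zb37) (kb xb2 yb7 zb56) (kb xb2 yb7 zb57) (kb xb0 yb55 zb29) (kb xb0 yb35 zb2) (kb xb0 yb27 zb60) (kb xb1 yb8 zb48) (kb xb0 yb28 zb1) (kb xb0 yb28 zb2) (kb xb2 yb1 zb49) (kb xb2 yb8 zb3) (kb xb2 yb5 zb37)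 (kb xb0 yb59 zb40) (kb xb0 yb59 zb41) (kb xb0 yb28 zb0) (kb xb2 yb8 zb20) (kb xb2 yb8 zb21) (kb xb0 yb59 zb46) (kb xb2 yb8 zb26) (kb xb2 yb8 zb31) (kb xb2 yb8 zb9) (kb xb0 yb28 zb3) (kb xb2 yb8 zb35) (kb xb2 yb8 zb36) (kb xb0 yb28 zb50) (kb xb2 yb8 zb42) (kb xb0 yb54 zb50) (kb xb0 yb28 zb53) (kb xb0 yb54 zb51) (kb xb0 yb28 zb6) (kb xb2 yb8 zb46) (kb xb2 yb8 zb47) (kb xb2 yb8 zb50) (kb xb2 yb8 zb52) (kb xb0 yb54 zb55) (kb xb2 yb8 zb58) (kb xb1 yb56 zb59) (kb xb1 yb19 zb51) (kb xb2 yb9 zb3) (kb xb0 yb28 zb11) (kb xb2 yb9 zb9) (kb xb2 yb9 zb10) (kb xb0 yb29 zb9) (kb xb2 yb9 zb17) (kb xb2 yb9 zb20) (kb xb0 yb28 zb13) (kb xb2 yb9 zb25) (kb xb2 yb9 zb26) (kb xb0 yb29 zb16) (kb xb0 yb30 zb8) (kb xb0 yb28 zb15) (kb xb2 yb9 zb37) (kb xb2 yb9 zb38) (kb xb0 yb29 zb21) (kb xb1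 yb57 zb5) (kb xb0 yb28 zb17) (kb xb2 yb9 zb47)) (@D3.rec (fun _ => Pt) (kb xb0 yb28 zb18) (kb xb2 yb9 zb52) (kb xb2 yb9 zb53) (kb xb0 yb29 zb30) (kb xb0 yb32 zb49) (kb xb1 yb57 zb7) (kb xb1 yb22 zb49) (kb xb1 yb22 zb50) (kb xb0 yb28 zb22) (kb xb2 yb10 zb5) (kb xb2 yb10 zb6) (kb xb2 yb10 zb12) (kb xb2 yb10 zb17) (kb xb1 yb55 zb44) (kb xb0 yb28 zb24) (kb xb0 yb28 zb25) (kb xb2 yb10 zb28) (kb xb2 yb10 zb30) (kb xb2 yb10 zb25) (kb xb2 yb10 zb26) (kb xb2 yb10 zb27) (kb xb0 yb40 zb34) (kb xb1 yb57 zb16) (kb xb0 yb28 zb28) (kb xb0 yb34 zb52) (kb xb2 yb10 zb46) (kb xb2 yb10 zb47) (kb xb0 yb34 zb56) (kb xb0 yb55 zb60) (kb xb0 yb55 zb61) (kb xb1 yb58 zb48) (kb xb0 yb35 zb0) (kb xb0 yb35 zb1) (kb xb0 yb28 zb31) (kb xb2 yb11 zb1) (kb xb2 yb11 zb2) (kb xb1 yb0 zb30) (kb xb1 yb0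 zb31) (kb xb2 yb11 zb13) (kb xb1 yb57 zb22) (kb xb2 yb11 zb20) (kb xb0 yb28 zb44) (kb xb0 yb28 zb36) (kb xb0 yb28 zb37) (kb xb2 yb11 zb4) (kb xb2 yb11 zb33) (kb xb2 yb11 zb27) (kb xb2 yb11 zb7) (kb xb2 yb11 zb30) (kb xb1 yb58 zb47) (kb xb0 yb28 zb39) (kb xb0 yb28 zb40) (kb xb2 yb11 zb43) (kb xb2 yb11 zb42) (kb xb0 yb28 zb41) (kb xb2 yb11 zb50) (kb xb2 yb11 zb49) (kb xb0 yb28 zb42) (kb xb2 yb11 zb60) (kb xb2 yb11 zb59) (kb xb2 yb12 zb4) (kb xb2 yb12 zb7)) (@D3.rec (fun _ => Pt) (kb xb0 yb28 zb43) (kb xb2 yb12 zb13) (kb xb2 yb12 zb14) (kb xb2 yb11 zb23) (kb xb0 yb37 zb18) (kb xb0 yb28 zb52) (kb xb0 yb56 zb24) (kb xb0 yb28 zb54) (kb xb2 yb12 zb21) (kb xb2 yb12 zb23) (kb xb1 yb59 zb9) (kb xb1 yb59 zb12) (kb xb2 yb12 zb28) (kb xb2 yb12 zb29) (kb xb2 yb12 zb30) (kb xb0 yb28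 zb51) (kb xb2 yb12 zb31) (kb xb1 yb24 zb47) (kb xb1 yb5 zb54) (kb xb2 yb8 zb45) (kb xb2 yb7 zb5) (kb xb0 yb28 zb56) (kb xb0 yb28 zb57) (kb xb2 yb12 zb44) (kb xb2 yb12 zb41) (kb xb0 yb28 zb58) (kb xb2 yb12 zb52) (kb xb0 yb29 zb1) (kb xb0 yb29 zb0) (kb xb0 yb28 zb61) (kb xb2 yb12 zb56) (kb xb1 yb26 zb23) (kb xb2 yb8 zb56) (kb xb0 yb36 zb49) (kb xb0 yb29 zb2) (kb xb2 yb13 zb1) (kb xb2 yb13 zb2) (kb xb2 yb8 zb61) (kb xb1 yb3 zb38) (kb xb0 yb29 zb4) (kb xb2 yb13 zb10) (kb xb2 yb13 zb11) (kb xb0 yb29 zb5) (kb xb2 yb13 zb19) (kb xb2 yb13 zb20) (kb xb2 yb13 zb25) (kb xb2 yb13 zb14) (kb xb0 yb37 zb5) (kb xb0 yb29 zb7) (kb xb0 yb29 zb8) (kb xb2 yb13 zb39) (kb xb2 yb13 zb41) (kb xb2 yb13 zb43) (kb xb2 yb13 zb36) (kb xb2 yb13 zb37) (kb xb2 yb13 zb38) (kb xb0 yb29 zb17) (kb xb0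 yb40 zb48) (kb xb1 yb27 zb55) (kb xb0 yb37 zb27) (kb xb0 yb29 zb13) (kb xb0 yb29 zb14)) (@D3.rec (fun _ => Pt) (kb xb2 yb13 zb55) (kb xb2 yb13 zb56) (kb xb2 yb14 zb0) (kb xb1 yb5 zb53) (kb xb2 yb14 zb3) (kb xb2 yb9 zb32) (kb xb2 yb9 zb33) (kb xb2 yb14 zb7) (kb xb2 yb14 zb10) (kb xb0 yb29 zb20) (kb xb0 yb29 zb19) (kb xb2 yb14 zb15) (kb xb2 yb14 zb11) (kb xb0 yb42 zb6) (kb xb2 yb14 zb20) (kb xb2 yb14 zb22) (kb xb2 yb14 zb23) (kb xb0 yb37 zb56) (kb xb0 yb29 zb26) (kb xb2 yb14 zb25) (kb xb2 yb14 zb27) (kb xb2 yb14 zb28) (kb xb0 yb38 zb7) (kb xb0 yb29 zb28) (kb xb0 yb29 zb29) (kb xb2 yb14 zb33) (kb xb2 yb14 zb39) (kb xb2 yb14 zb41) (kb xb2 yb14 zb35) (kb xb2 yb14 zb36) (kb xb2 yb14 zb45) (kb xb2 yb14 zb47) (kb xb2 yb14 zb6) (kb xb1 yb23 zb35) (kb xb0 yb38 zb20) (kb xb0 yb29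 zb34) (kb xb0 yb29 zb35) (kb xb2 yb14 zb56) (kb xb2 yb14 zb59) (kb xb2 yb14 zb60) (kb xb1 yb21 zb57) (kb xb2 yb15 zb7) (kb xb0 yb38 zb29) (kb xb0 yb39 zb53) (kb xb0 yb29 zb37) (kb xb0 yb29 zb38) (kb xb2 yb15 zb19) (kb xb2 yb15 zb22) (kb xb2 yb15 zb23) (kb xb0 yb38 zb36) (kb xb2 yb0 zb5) (kb xb0 yb29 zb39) (kb xb2 yb15 zb41) (kb xb2 yb15 zb36) (kb xb2 yb15 zb37) (kb xb2 yb15 zb38) (kb xb0 yb29 zb40) (kb xb2 yb15 zb55) (kb xb2 yb15 zb54) (kb xb0 yb38 zb61) (kb xb0 yb38 zb47) (kb xb2 yb16 zb3)) (@D3.rec (fun _ => Pt) (kb xb0 yb42 zb10) (kb xb0 yb44 zb22) (kb xb0 yb29 zb46) (kb xb0 yb29 zb47) (kb xb0 yb29 zb44) (kb xb2 yb16 zb19) (kb xb0 yb29 zb45) (kb xb2 yb16 zb26) (kb xb2 yb16 zb31) (kb xb2 yb16 zb34) (kb xb2 yb16 zb14) (kb xb2 yb16 zb0) (kb xb2 yb16 zb37) (kb xb2 yb16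 zb16) (kb xb0 yb29 zb48) (kb xb0 yb38 zb14) (kb xb2 yb16 zb42) (kb xb2 yb14 zb31) (kb xb1 yb5 zb18) (kb xb1 yb5 zb19) (kb xb0 yb29 zb50) (kb xb2 yb16 zb50) (kb xb2 yb16 zb52) (kb xb0 yb29 zb55) (kb xb2 yb16 zb56) (kb xb2 yb16 zb57) (kb xb2 yb16 zb61) (kb xb0 yb39 zb46) (kb xb0 yb29 zb58) (kb xb2 yb17 zb3) (kb xb1 yb39 zb9) (kb xb1 yb42 zb33) (kb xb0 yb29 zb60) (kb xb0 yb41 zb15) (kb xb2 yb17 zb11) (kb xb0 yb40 zb16) (kb xb0 yb46 zb22) (kb xb0 yb43 zb43) (kb xb2 yb17 zb22) (kb xb0 yb30 zb2) (kb xb0 yb30 zb1) (kb xb2 yb17 zb29) (kb xb2 yb17 zb34) (kb xb2 yb17 zb38) (kb xb2 yb17 zb27) (kb xb2 yb17 zb42) (kb xb1 yb28 zb22) (kb xb0 yb37 zb53) (kb xb2 yb17 zb44) (kb xb0 yb40 zb59) (kb xb0 yb30 zb5) (kb xb2 yb17 zb49) (kb xb2 yb17 zb50) (kb xb1 yb4 zb3) (kb xb1 yb3 zb18) (kb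 xb0 yb30 zb7) (kb xb2 yb17 zb56) (kb xb2 yb17 zb57) (kb xb1 yb28 zb61) (kb xb1 yb39 zb10) (kb xb0 yb41 zb24) (kb xb1 yb38 zb31)) (@D3.rec (fun _ => Pt) (kb xb0 yb45 zb18) (kb xb0 yb41 zb34) (kb xb0 yb41 zb35) (kb xb0 yb50 zb53) (kb xb0 yb51 zb42) (kb xb2 yb16 zb25) (kb xb0 yb30 zb15) (kb xb1 yb49 zb19) (kb xb1 yb41 zb5) (kb xb0 yb30 zb18) (kb xb0 yb30 zb19) (kb xb2 yb18 zb20) (kb xb2 yb18 zb22) (kb xb2 yb18 zb12) (kb xb2 yb18 zb13) (kb xb1 yb44 zb22) (kb xb0 yb30 zb17) (kb xb2 yb18 zb31) (kb xb2 yb18 zb34) (kb xb2 yb18 zb19) (kb xb0 yb30 zb20) (kb xb2 yb18 zb39) (kb xb1 yb6 zb22) (kb xb0 yb30 zb23) (kb xb2 yb18 zb46) (kb xb2 yb18 zb47) (kb xb0 yb37 zb43) (kb xb1 yb6 zb27) (kb xb0 yb30 zb29) (kb xb1 yb21 zb3) (kb xb2 yb18 zb55) (kb xb0 yb42 zb8) (kb xb0 yb30 zb26) (kb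 xb2 yb18 zb60) (kb xb2 yb18 zb61) (kb xb1 yb31 zb14) (kb xb0 yb34 zb12) (kb xb0 yb30 zb30) (kb xb1 yb26 zb43) (kb xb0 yb30 zb31) (kb xb0 yb45 zb13) (kb xb2 yb19 zb4) (kb xb0 yb42 zb25) (kb xb0 yb42 zb26) (kb xb2 yb19 zb10) (kb xb2 yb19 zb13) (kb xb2 yb16 zb18) (kb xb0 yb30 zb35) (kb xb2 yb19 zb23) (kb xb0 yb30 zb36) (kb xb0 yb30 zb37) (kb xb2 yb19 zb27) (kb xb2 yb19 zb29) (kb xb2 yb19 zb21) (kb xb2 yb19 zb22) (kb xb2 yb19 zb36) (kb xb2 yb3 zb37) (kb xb0 yb46 zb10) (kb xb0 yb50 zb54) (kb xb0 yb42 zb53) (kb xb2 yb15 zb18) (kb xb0 yb30 zb42)) (@D3.rec (fun _ => Pt) (kb xb2 yb19 zb41) (kb xb2 yb19 zb44) (kb xb0 yb30 zb43) (kb xb0 yb43 zb48) (kb xb0 yb30 zb44) (kb xb0 yb30 zb50) (kb xb0 yb30 zb48) (kb xb0 yb30 zb49) (kb xb2 yb14 zb55) (kb xb1 yb34 zb8) (kb xb2 yb19 zb52)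 (kb xb1 yb7 zb32) (kb xb2 yb19 zb47) (kb xb2 yb19 zb24) (kb xb0 yb30 zb51) (kb xb2 yb19 zb58) (kb xb0 yb43 zb21) (kb xb0 yb43 zb42) (kb xb2 yb20 zb3) (kb xb2 yb14 zb32) (kb xb0 yb30 zb54) (kb xb2 yb20 zb11) (kb xb2 yb20 zb9) (kb xb2 yb17 zb19) (kb xb0 yb43 zb36) (kb xb2 yb20 zb15) (kb xb0 yb46 zb12) (kb xb0 yb43 zb45) (kb xb0 yb43 zb46) (kb xb0 yb30 zb58) (kb xb0 yb45 zb8) (kb xb0 yb30 zb61) (kb xb1 yb7 zb11) (kb xb1 yb47 zb59) (kb xb0 yb46 zb19) (kb xb2 yb20 zb32) (kb xb2 yb20 zb22) (kb xb0 yb46 zb23) (kb xb1 yb32 zb22) (kb xb1 yb32 zb23) (kb xb2 yb20 zb37) (kb xb0 yb44 zb5) (kb xb2 yb20 zb39) (kb xb1 yb38 zb37) (kb xb2 yb20 zb46) (kb xb0 yb44 zb10) (kb xb0 yb31 zb6) (kb xb2 yb20 zb55) (kb xb2 yb20 zb52) (kb xb0 yb31 zb7) (kb xb2 yb21 zb2) (kb xb0 yb45 zb0) (kb xb2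 yb21 zb8) (kb xb2 yb21 zb11) (kb xb0 yb31 zb8) (kb xb2 yb21 zb17) (kb xb2 yb21 zb18) (kb xb0 yb38 zb50) (kb xb2 yb21 zb29) (kb xb1 yb8 zb27) (kb xb0 yb31 zb20) (kb xb0 yb31 zb21)) (@D3.rec (fun _ => Pt) (kb xb1 yb38 zb38) (kb xb2 yb21 zb39) (kb xb0 yb31 zb23) (kb xb0 yb44 zb30) (kb xb2 yb14 zb14) (kb xb0 yb31 zb13) (kb xb2 yb21 zb54) (kb xb2 yb20 zb59) (kb xb2 yb21 zb52) (kb xb2 yb21 zb53) (kb xb0 yb44 zb37) (kb xb2 yb13 zb54) (kb xb0 yb31 zb15) (kb xb2 yb19 zb56) (kb xb2 yb22 zb9) (kb xb2 yb22 zb6) (kb xb2 yb22 zb7) (kb xb2 yb22 zb15) (kb xb2 yb22 zb18) (kb xb0 yb44 zb46) (kb xb0 yb31 zb17) (kb xb2 yb22 zb26) (kb xb2 yb22 zb29) (kb xb2 yb22 zb24) (kb xb2 yb22 zb25) (kb xb0 yb31 zb18) (kb xb2 yb22 zb39) (kb xb1 yb7 zb59) (kb xb0 yb31 zb19) (kb xb2 yb22 zb46) (kb xb2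 yb22 zb45) (kb xb2 yb21 zb34) (kb xb2 yb21 zb7) (kb xb2 yb22 zb52) (kb xb2 yb21 zb36) (kb xb1 yb55 zb5) (kb xb2 yb22 zb59) (kb xb2 yb23 zb0) (kb xb0 yb34 zb40) (kb xb0 yb31 zb25) (kb xb1 yb0 zb55) (kb xb2 yb23 zb4) (kb xb2 yb23 zb5) (kb xb2 yb23 zb11) (kb xb2 yb4 zb25) (kb xb0 yb55 zb14) (kb xb0 yb55 zb15) (kb xb0 yb31 zb27) (kb xb1 yb1 zb11) (kb xb2 yb23 zb20) (kb xb2 yb23 zb21) (kb xb0 yb31 zb28) (kb xb0 yb57 zb48) (kb xb2 yb23 zb30) (kb xb2 yb23 zb31) (kb xb2 yb23 zb37) (kb xb2 yb23 zb40) (kb xb2 yb23 zb45) (kb xb0 yb31 zb34) (kb xb0 yb31 zb31) (kb xb2 yb23 zb51) (kb xb0 yb31 zb32)) (@D3.rec (fun _ => Pt) (kb xb2 yb23 zb57) (kb xb0 yb31 zb33) (kb xb2 yb24 zb2) (kb xb2 yb24 zb3) (kb xb2 yb23 zb48) (kb xb2 yb2 zb16) (kb xb2 yb2 zb17) (kb xb2 yb24 zb11) (kb xb1 yb57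 zb26) (kb xb0 yb31 zb40) (kb xb0 yb31 zb38) (kb xb0 yb31 zb41) (kb xb2 yb24 zb14) (kb xb0 yb31 zb44) (kb xb0 yb55 zb45) (kb xb0 yb31 zb58) (kb xb0 yb56 zb27) (kb xb1 yb57 zb28) (kb xb2 yb24 zb17) (kb xb2 yb24 zb19) (kb xb2 yb24 zb23) (kb xb0 yb31 zb56) (kb xb0 yb31 zb53) (kb xb2 yb24 zb29) (kb xb0 yb31 zb54) (kb xb2 yb24 zb35) (kb xb0 yb31 zb55) (kb xb2 yb24 zb26) (kb xb0 yb31 zb57) (kb xb0 yb31 zb60) (kb xb0 yb33 zb39) (kb xb1 yb9 zb31) (kb xb1 yb9 zb32) (kb xb0 yb33 zb43) (kb xb1 yb9 zb34) (kb xb0 yb32 zb8) (kb xb2 yb24 zb47) (kb xb2 yb24 zb48) (kb xb2 yb24 zb49) (kb xb2 yb24 zb50) (kb xb0 yb32 zb16) (kb xb0 yb57 zb43) (kb xb1 yb12 zb59) (kb xb2 yb24 zb53) (kb xb2 yb24 zb54) (kb xb0 yb54 zb38) (kb xb1 yb11 zb38) (kb xb2 yb4 zb10) (kb xb2 yb4 zb11) (kb xb0 yb59 zb12)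 (kb xb2 yb1 zb50) (kb xb1 yb55 zb52) (kb xb1 yb55 zb53) (kb xb0 yb32 zb20) (kb xb2 yb1 zb27) (kb xb2 yb25 zb15) (kb xb2 yb25 zb16) (kb xb0 yb32 zb21) (kb xb1 yb55 zb51) (kb xb2 yb25 zb26) (kb xb2 yb25 zb27) (kb xb2 yb25 zb32)) (@D3.rec (fun _ => Pt) (kb xb2 yb25 zb35) (kb xb2 yb25 zb40) (kb xb0 yb32 zb27) (kb xb0 yb32 zb24) (kb xb2 yb25 zb44) (kb xb0 yb32 zb25) (kb xb2 yb25 zb51) (kb xb0 yb32 zb26) (kb xb2 yb25 zb58) (kb xb2 yb25 zb59) (kb xb2 yb25 zb43) (kb xb0 yb36 zb27) (kb xb1 yb10 zb12) (kb xb2 yb26 zb4) (kb xb0 yb32 zb32) (kb xb0 yb33 zb42) (kb xb1 yb10 zb16) (kb xb0 yb32 zb33) (kb xb0 yb32 zb31) (kb xb2 yb26 zb11) (kb xb0 yb36 zb22) (kb xb1 yb17 zb15) (kb xb1 yb17 zb16) (kb xb0 yb42 zb17) (kb xb2 yb26 zb17) (kb xb0 yb32 zb37) (kb xb0 yb32 zb39) (kb xb2 yb8 zb55)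 (kb xb0 yb36 zb46) (kb xb2 yb26 zb23) (kb xb1 yb20 zb0) (kb xb0 yb32 zb41) (kb xb2 yb26 zb26) (kb xb2 yb26 zb29) (kb xb2 yb26 zb33) (kb xb1 yb56 zb16) (kb xb0 yb32 zb43) (kb xb0 yb32 zb44) (kb xb2 yb26 zb44) (kb xb2 yb26 zb41) (kb xb2 yb26 zb42) (kb xb2 yb26 zb43) (kb xb1 yb23 zb12) (kb xb1 yb23 zb13) (kb xb0 yb39 zb55) (kb xb0 yb32 zb50) (kb xb1 yb27 zb38) (kb xb2 yb26 zb60) (kb xb0 yb32 zb51) (kb xb2 yb27 zb5) (kb xb2 yb27 zb2) (kb xb2 yb27 zb3) (kb xb2 yb10 zb18) (kb xb0 yb32 zb52) (kb xb1 yb27 zb36) (kb xb2 yb27 zb20) (kb xb2 yb27 zb21) (kb xb1 yb56 zb30) (kb xb2 yb27 zb33) (kb xb2 yb27 zb36) (kb xb1 yb30 zb21) (kb xb0 yb32 zb56)) (@D3.rec (fun _ => Pt) (kb xb0 yb32 zb57) (kb xb0 yb32 zb58) (kb xb2 yb27 zb50) (kb xb2 yb27 zb53) (kb xb2 yb27 zb46) (kb xb2 yb27 zb47)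 (kb xb2 yb27 zb49) (kb xb0 yb32 zb59) (kb xb2 yb27 zb59) (kb xb0 yb32 zb60) (kb xb2 yb28 zb0) (kb xb2 yb28 zb1) (kb xb0 yb33 zb0) (kb xb2 yb28 zb3) (kb xb0 yb33 zb2) (kb xb2 yb28 zb5) (kb xb2 yb24 zb51) (kb xb2 yb1 zb7) (kb xb0 yb55 zb48) (kb xb0 yb55 zb49) (kb xb0 yb33 zb4) (kb xb1 yb15 zb38) (kb xb2 yb28 zb13) (kb xb2 yb28 zb14) (kb xb0 yb33 zb5) (kb xb1 yb14 zb12) (kb xb2 yb28 zb21) (kb xb2 yb28 zb22) (kb xb2 yb28 zb28) (kb xb2 yb28 zb31) (kb xb2 yb28 zb36) (kb xb0 yb33 zb16) (kb xb0 yb33 zb9) (kb xb2 yb28 zb44) (kb xb2 yb28 zb18) (kb xb2 yb28 zb51) (kb xb2 yb28 zb43) (kb xb2 yb1 zb9) (kb xb1 yb9 zb46) (kb xb0 yb33 zb11) (kb xb0 yb33 zb12) (kb xb2 yb29 zb5) (kb xb2 yb29 zb1) (kb xb2 yb29 zb4) (kb xb0 yb33 zb13) (kb xb2 yb29 zb14) (kb xb2 yb29 zb13) (kb xb0 yb33 zb14)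 (kb xb2 yb29 zb23) (kb xb2 yb29 zb22) (kb xb2 yb29 zb29) (kb xb2 yb29 zb32) (kb xb0 yb33 zb15) (kb xb2 yb29 zb38) (kb xb2 yb29 zb39) (kb xb2 yb28 zb39) (kb xb0 yb33 zb17) (kb xb2 yb29 zb45) (kb xb0 yb57 zb31) (kb xb2 yb29 zb51) (kb xb2 yb29 zb55) (kb xb0 yb33 zb20)) (@D3.rec (fun _ => Pt) (kb xb2 yb29 zb61) (kb xb2 yb30 zb2) (kb xb2 yb30 zb4) (kb xb2 yb29 zb60) (kb xb0 yb33 zb21) (kb xb0 yb39 zb36) (kb xb2 yb30 zb10) (kb xb2 yb16 zb54) (kb xb2 yb30 zb14) (kb xb0 yb33 zb23) (kb xb2 yb30 zb18) (kb xb0 yb33 zb25) (kb xb0 yb33 zb26) (kb xb2 yb30 zb25) (kb xb2 yb30 zb23) (kb xb2 yb30 zb24) (kb xb0 yb33 zb27) (kb xb2 yb30 zb34) (kb xb2 yb30 zb36) (kb xb2 yb30 zb38) (kb xb0 yb33 zb31) (kb xb0 yb33 zb30) (kb xb2 yb30 zb41) (kb xb2 yb30 zb42) (kb xb0 yb33 zb32) (kb xb2 yb30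 zb48) (kb xb2 yb30 zb49) (kb xb0 yb33 zb34) (kb xb2 yb30 zb52) (kb xb2 yb30 zb53) (kb xb0 yb33 zb35) (kb xb2 yb30 zb60) (kb xb2 yb30 zb61) (kb xb2 yb31 zb3) (kb xb2 yb31 zb8) (kb xb0 yb39 zb26) (kb xb0 yb33 zb37) (kb xb0 yb33 zb38) (kb xb2 yb31 zb17) (kb xb2 yb31 zb19) (kb xb2 yb31 zb21) (kb xb2 yb31 zb15) (kb xb2 yb31 zb16) (kb xb0 yb34 zb1) (kb xb0 yb33 zb41) (kb xb1 yb57 zb57) (kb xb2 yb24 zb46) (kb xb1 yb57 zb32) (kb xb0 yb33 zb47) (kb xb2 yb31 zb27) (kb xb2 yb31 zb28) (kb xb0 yb33 zb48) (kb xb2 yb31 zb33) (kb xb2 yb31 zb34) (kb xb2 yb31 zb38) (kb xb2 yb31 zb41) (kb xb2 yb31 zb46) (kb xb0 yb33 zb59) (kb xb2 yb25 zb2) (kb xb1 yb9 zb42) (kb xb1 yb0 zb49) (kb xb0 yb33 zb52)) (@D3.rec (fun _ => Pt) (kb xb2 yb31 zb58) (kb xb2 yb31 zb30) (kb xb2 yb32 zb0) (kb xb2 yb31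 zb57) (kb xb0 yb33 zb54) (kb xb0 yb33 zb55) (kb xb2 yb32 zb11) (kb xb2 yb32 zb9) (kb xb2 yb32 zb10) (kb xb0 yb33 zb56) (kb xb2 yb32 zb21) (kb xb2 yb32 zb20) (kb xb0 yb33 zb57) (kb xb2 yb32 zb29) (kb xb2 yb32 zb28) (kb xb2 yb32 zb35) (kb xb2 yb32 zb38) (kb xb0 yb33 zb58) (kb xb2 yb32 zb44) (kb xb2 yb32 zb45) (kb xb2 yb31 zb49) (kb xb0 yb33 zb61) (kb xb2 yb32 zb55) (kb xb2 yb32 zb57) (kb xb2 yb32 zb58) (kb xb2 yb32 zb54) (kb xb2 yb33 zb1) (kb xb0 yb36 zb40) (kb xb2 yb33 zb2) (kb xb2 yb33 zb3) (kb xb0 yb34 zb2) (kb xb2 yb33 zb7) (kb xb0 yb34 zb3) (kb xb2 yb33 zb9) (kb xb2 yb33 zb10) (kb xb1 yb0 zb29) (kb xb1 yb58 zb2) (kb xb2 yb33 zb21) (kb xb0 yb34 zb10) (kb xb0 yb34 zb7) (kb xb0 yb34 zb8) (kb xb2 yb33 zb29) (kb xb2 yb33 zb27) (kb xb2 yb33 zb28) (kb xb0 yb34 zb9) (kb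 xb2 yb33 zb36) (kb xb2 yb14 zb57) (kb xb0 yb34 zb11) (kb xb2 yb33 zb39) (kb xb2 yb33 zb40) (kb xb2 yb33 zb43) (kb xb0 yb34 zb15) (kb xb0 yb34 zb14) (kb xb2 yb33 zb47) (kb xb2 yb33 zb48) (kb xb0 yb34 zb16) (kb xb2 yb33 zb55) (kb xb2 yb33 zb56) (kb xb0 yb34 zb17) (kb xb2 yb33 zb60) (kb xb2 yb33 zb61) (kb xb2 yb34 zb2)) (@D3.rec (fun _ => Pt) (kb xb0 yb34 zb19) (kb xb2 yb34 zb6) (kb xb2 yb34 zb8) (kb xb2 yb34 zb10) (kb xb2 yb34 zb5) (kb xb1 yb25 zb39) (kb xb0 yb56 zb46) (kb xb2 yb7 zb51) (kb xb0 yb34 zb25) (kb xb2 yb0 zb22) (kb xb2 yb34 zb18) (kb xb2 yb10 zb44) (kb xb1 yb11 zb25) (kb xb1 yb14 zb40) (kb xb1 yb14 zb41) (kb xb0 yb34 zb27) (kb xb1 yb59 zb40) (kb xb2 yb34 zb27) (kb xb2 yb34 zb28) (kb xb0 yb34 zb28) (kb xb2 yb34 zb37) (kb xb2 yb34 zb35) (kb xb2 yb34 zb36) (kb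 xb2 yb34 zb43) (kb xb2 yb34 zb46) (kb xb2 yb34 zb51) (kb xb0 yb34 zb34) (kb xb0 yb34 zb31) (kb xb2 yb34 zb56) (kb xb0 yb34 zb32) (kb xb2 yb34 zb61) (kb xb0 yb34 zb33) (kb xb2 yb35 zb6) (kb xb2 yb35 zb7) (kb xb2 yb34 zb54) (kb xb0 yb34 zb36) (kb xb2 yb35 zb11) (kb xb2 yb4 zb55) (kb xb1 yb15 zb3) (kb xb0 yb55 zb39) (kb xb1 yb14 zb13) (kb xb1 yb14 zb14) (kb xb0 yb57 zb12) (kb xb2 yb23 zb1) (kb xb2 yb0 zb25) (kb xb2 yb35 zb24) (kb xb1 yb0 zb47) (kb xb1 yb0 zb48) (kb xb1 yb57 zb55) (kb xb1 yb57 zb56) (kb xb0 yb34 zb43) (kb xb2 yb35 zb34) (kb xb2 yb35 zb35) (kb xb1 yb58 zb19) (kb xb2 yb35 zb41) (kb xb2 yb35 zb46) (kb xb0 yb34 zb49) (kb xb0 yb34 zb46) (kb xb2 yb35 zb51) (kb xb0 yb34 zb47) (kb xb2 yb35 zb56) (kb xb0 yb34 zb48)) (@D3.rec (fun _ => Pt) (kb xb2 yb36 zb1) (kb xb2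 yb36 zb2) (kb xb2 yb35 zb49) (kb xb1 yb14 zb38) (kb xb0 yb55 zb53) (kb xb0 yb34 zb53) (kb xb0 yb34 zb54) (kb xb0 yb55 zb36) (kb xb1 yb58 zb17) (kb xb1 yb58 zb18) (kb xb2 yb10 zb48) (kb xb2 yb10 zb49) (kb xb2 yb10 zb50) (kb xb2 yb36 zb26) (kb xb2 yb36 zb13) (kb xb0 yb34 zb57) (kb xb0 yb34 zb58) (kb xb2 yb10 zb53) (kb xb2 yb10 zb54) (kb xb2 yb10 zb55) (kb xb2 yb36 zb43) (kb xb2 yb36 zb33) (kb xb2 yb1 zb15) (kb xb1 yb24 zb56) (kb xb1 yb24 zb57) (kb xb0 yb34 zb60) (kb xb2 yb36 zb51) (kb xb2 yb36 zb52) (kb xb1 yb16 zb3) (kb xb1 yb16 zb6) (kb xb1 yb16 zb7) (kb xb2 yb36 zb60) (kb xb2 yb37 zb2) (kb xb2 yb37 zb7) (kb xb2 yb11 zb0) (kb xb2 yb8 zb2) (kb xb0 yb54 zb23) (kb xb1 yb1 zb5) (kb xb1 yb11 zb21) (kb xb0 yb56 zb1) (kb xb0 yb56 zb2) (kb xb0 yb35 zb6) (kb xb2 yb37 zb19) (kb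 xb2 yb37 zb20) (kb xb2 yb7 zb43) (kb xb2 yb7 zb44) (kb xb2 yb37 zb27) (kb xb1 yb58 zb45) (kb xb2 yb37 zb34) (kb xb0 yb35 zb31) (kb xb0 yb35 zb42) (kb xb0 yb35 zb12) (kb xb0 yb35 zb13) (kb xb0 yb55 zb31) (kb xb0 yb35 zb11) (kb xb2 yb37 zb47) (kb xb2 yb37 zb48) (kb xb2 yb11 zb3) (kb xb0 yb35 zb37) (kb xb2 yb38 zb0) (kb xb2 yb37 zb42) (kb xb0 yb35 zb40)) (@D3.rec (fun _ => Pt) (kb xb2 yb37 zb44) (kb xb2 yb37 zb45) (kb xb0 yb35 zb32) (kb xb1 yb15 zb28) (kb xb0 yb35 zb16) (kb xb0 yb35 zb17) (kb xb1 yb15 zb29) (kb xb1 yb15 zb30) (kb xb2 yb38 zb24) (kb xb2 yb38 zb15) (kb xb2 yb38 zb17) (kb xb2 yb38 zb18) (kb xb0 yb35 zb18) (kb xb2 yb38 zb38) (kb xb2 yb38 zb34) (kb xb2 yb38 zb35) (kb xb0 yb35 zb19) (kb xb2 yb38 zb51) (kb xb1 yb58 zb30) (kb xb2 yb38 zb50) (kb xb2 yb38 zb59)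 (kb xb2 yb39 zb1) (kb xb0 yb35 zb20) (kb xb2 yb39 zb8) (kb xb2 yb39 zb9) (kb xb0 yb36 zb1) (kb xb0 yb35 zb23) (kb xb0 yb35 zb24) (kb xb2 yb37 zb22) (kb xb2 yb39 zb24) (kb xb2 yb39 zb21) (kb xb0 yb35 zb26) (kb xb0 yb35 zb27) (kb xb2 yb39 zb33) (kb xb2 yb39 zb32) (kb xb0 yb35 zb28) (kb xb2 yb39 zb40) (kb xb2 yb39 zb39) (kb xb0 yb35 zb29) (kb xb2 yb39 zb48) (kb xb2 yb39 zb47) (kb xb2 yb39 zb53) (kb xb2 yb39 zb56) (kb xb0 yb35 zb30) (kb xb2 yb39 zb61) (kb xb2 yb40 zb0) (kb xb2 yb37 zb37) (kb xb1 yb0 zb36) (kb xb2 yb38 zb9) (kb xb1 yb58 zb24) (kb xb1 yb58 zb25) (kb xb2 yb38 zb13) (kb xb2 yb40 zb13) (kb xb2 yb40 zb18) (kb xb0 yb35 zb39) (kb xb2 yb28 zb24) (kb xb2 yb40 zb26) (kb xb0 yb35 zb41) (kb xb0 yb35 zb36) (kb xb2 yb40 zb32) (kb xb2 yb40 zb31) (kb xb2 yb40 zb38)) (@D3.rec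 (fun _ => Pt) (kb xb2 yb37 zb59) (kb xb2 yb40 zb41) (kb xb2 yb40 zb44) (kb xb0 yb35 zb38) (kb xb2 yb40 zb50) (kb xb2 yb40 zb51) (kb xb2 yb40 zb52) (kb xb2 yb38 zb4) (kb xb2 yb40 zb23) (kb xb2 yb38 zb7) (kb xb2 yb37 zb38) (kb xb2 yb5 zb17) (kb xb2 yb5 zb20) (kb xb2 yb5 zb21) (kb xb2 yb41 zb1) (kb xb1 yb10 zb21) (kb xb1 yb10 zb22) (kb xb1 yb58 zb41) (kb xb2 yb37 zb39) (kb xb2 yb41 zb18) (kb xb0 yb35 zb48) (kb xb1 yb58 zb53) (kb xb2 yb36 zb7) (kb xb0 yb35 zb49) (kb xb0 yb35 zb50) (kb xb0 yb35 zb47) (kb xb2 yb41 zb30) (kb xb2 yb41 zb31) (kb xb2 yb38 zb27) (kb xb2 yb41 zb39) (kb xb2 yb41 zb23) (kb xb2 yb41 zb24) (kb xb2 yb41 zb45) (kb xb1 yb58 zb26) (kb xb2 yb41 zb50) (kb xb0 yb35 zb53) (kb xb0 yb35 zb54) (kb xb2 yb41 zb58) (kb xb0 yb35 zb52) (kb xb2 yb42 zb1) (kb xb2 yb42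 zb2) (kb xb2 yb42 zb10) (kb xb2 yb38 zb45) (kb xb2 yb41 zb56) (kb xb2 yb41 zb57) (kb xb2 yb11 zb57) (kb xb2 yb42 zb21) (kb xb0 yb35 zb57) (kb xb0 yb35 zb56) (kb xb2 yb42 zb30) (kb xb2 yb42 zb31) (kb xb2 yb38 zb55) (kb xb2 yb42 zb38) (kb xb2 yb42 zb26) (kb xb0 yb35 zb58) (kb xb2 yb42 zb44) (kb xb2 yb42 zb45) (kb xb0 yb35 zb59) (kb xb2 yb42 zb55) (kb xb2 yb42 zb56) (kb xb2 yb42 zb61) (kb xb2 yb43 zb4)) (@D3.rec (fun _ => Pt) (kb xb2 yb12 zb12) (kb xb0 yb35 zb61) (kb xb0 yb36 zb0) (kb xb2 yb43 zb14) (kb xb2 yb43 zb15) (kb xb2 yb43 zb12) (kb xb2 yb43 zb13) (kb xb2 yb43 zb23) (kb xb2 yb43 zb27) (kb xb0 yb36 zb2) (kb xb2 yb2 zb15) (kb xb2 yb43 zb31) (kb xb0 yb59 zb19) (kb xb0 yb59 zb20) (kb xb2 yb43 zb39) (kb xb2 yb43 zb42) (kb xb2 yb43 zb47) (kb xb0 yb36 zb9) (kb xb2 yb43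 zb54) (kb xb2 yb43 zb57) (kb xb0 yb36 zb11) (kb xb0 yb36 zb12) (kb xb0 yb36 zb6) (kb xb2 yb44 zb2) (kb xb2 yb44 zb1) (kb xb0 yb36 zb7) (kb xb2 yb44 zb10) (kb xb2 yb44 zb9) (kb xb0 yb36 zb8) (kb xb2 yb44 zb17) (kb xb2 yb44 zb18) (kb xb2 yb44 zb20) (kb xb2 yb43 zb52) (kb xb2 yb43 zb53) (kb xb0 yb36 zb10) (kb xb2 yb44 zb27) (kb xb2 yb44 zb28) (kb xb0 yb36 zb14) (kb xb2 yb44 zb33) (kb xb0 yb36 zb15) (kb xb2 yb44 zb38) (kb xb0 yb36 zb16) (kb xb2 yb44 zb43) (kb xb0 yb36 zb17) (kb xb2 yb44 zb49) (kb xb2 yb44 zb51) (kb xb2 yb44 zb55) (kb xb1 yb26 zb17) (kb xb0 yb36 zb19) (kb xb0 yb36 zb20) (kb xb2 yb45 zb1) (kb xb2 yb45 zb9) (kb xb2 yb45 zb10) (kb xb2 yb45 zb4) (kb xb2 yb45 zb5) (kb xb0 yb36 zb21) (kb xb2 yb45 zb15) (kb xb2 yb45 zb16) (kb xb1 yb28 zb58) (kb xb0 yb36 zb24) (kb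 xb2 yb45 zb18) (kb xb2 yb26 zb21)) (@D3.rec (fun _ => Pt) (kb xb1 yb27 zb50) (kb xb0 yb36 zb26) (kb xb1 yb28 zb0) (kb xb0 yb36 zb31) (kb xb2 yb45 zb21) (kb xb2 yb45 zb23) (kb xb2 yb45 zb26) (kb xb2 yb45 zb31) (kb xb0 yb36 zb35) (kb xb2 yb45 zb37) (kb xb2 yb45 zb38) (kb xb0 yb36 zb36) (kb xb0 yb36 zb37) (kb xb0 yb36 zb34) (kb xb2 yb45 zb43) (kb xb2 yb45 zb46) (kb xb2 yb45 zb49) (kb xb2 yb45 zb35) (kb xb2 yb45 zb36) (kb xb2 yb45 zb55) (kb xb2 yb45 zb56) (kb xb2 yb12 zb51) (kb xb0 yb36 zb39) (kb xb2 yb46 zb0) (kb xb2 yb30 zb54) (kb xb2 yb46 zb5) (kb xb2 yb46 zb7) (kb xb0 yb36 zb43) (kb xb0 yb36 zb42) (kb xb2 yb46 zb14) (kb xb2 yb46 zb16) (kb xb2 yb46 zb13) (kb xb2 yb46 zb22) (kb xb2 yb46 zb23) (kb xb2 yb46 zb9) (kb xb2 yb13 zb0) (kb xb0 yb36 zb44) (kb xb0 yb36 zb45) (kb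 xb2 yb13 zb7) (kb xb2 yb46 zb31) (kb xb2 yb18 zb51) (kb xb0 yb36 zb53) (kb xb0 yb36 zb54) (kb xb2 yb46 zb34) (kb xb2 yb46 zb40) (kb xb2 yb46 zb35) (kb xb0 yb36 zb55) (kb xb2 yb46 zb41) (kb xb2 yb46 zb42) (kb xb2 yb46 zb46) (kb xb2 yb13 zb9) (kb xb1 yb1 zb42) (kb xb0 yb36 zb60) (kb xb0 yb36 zb61) (kb xb2 yb47 zb0) (kb xb2 yb47 zb2) (kb xb2 yb46 zb58) (kb xb2 yb46 zb60) (kb xb2 yb46 zb61) (kb xb2 yb12 zb59) (kb xb2 yb47 zb13) (kb xb2 yb13 zb17)) (@D3.rec (fun _ => Pt) (kb xb1 yb10 zb30) (kb xb0 yb37 zb1) (kb xb0 yb37 zb2) (kb xb2 yb47 zb26) (kb xb2 yb47 zb28) (kb xb2 yb13 zb31) (kb xb2 yb13 zb24) (kb xb2 yb47 zb37) (kb xb0 yb37 zb3) (kb xb2 yb47 zb42) (kb xb2 yb47 zb39) (kb xb1 yb20 zb13) (kb xb0 yb37 zb4) (kb xb1 yb20 zb11) (kb xb2 yb47 zb52) (kb xb2 yb47 zb53) (kb xb2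 yb13 zb32) (kb xb2 yb48 zb3) (kb xb2 yb48 zb6) (kb xb2 yb48 zb11) (kb xb0 yb37 zb11) (kb xb0 yb37 zb12) (kb xb0 yb37 zb13) (kb xb0 yb37 zb8) (kb xb2 yb48 zb23) (kb xb0 yb37 zb9) (kb xb2 yb48 zb30) (kb xb0 yb37 zb10) (kb xb2 yb48 zb37) (kb xb2 yb48 zb42) (kb xb2 yb48 zb46) (kb xb2 yb48 zb17) (kb xb2 yb48 zb18) (kb xb2 yb48 zb20) (kb xb0 yb37 zb14) (kb xb2 yb48 zb58) (kb xb2 yb48 zb59) (kb xb0 yb40 zb54) (kb xb2 yb18 zb42) (kb xb0 yb37 zb19) (kb xb2 yb18 zb58) (kb xb0 yb42 zb11) (kb xb1 yb25 zb61) (kb xb0 yb37 zb17) (kb xb2 yb44 zb31) (kb xb2 yb49 zb12) (kb xb2 yb49 zb9) (kb xb2 yb49 zb10) (kb xb2 yb49 zb17) (kb xb2 yb49 zb19) (kb xb1 yb28 zb26) (kb xb0 yb37 zb21) (kb xb0 yb37 zb22) (kb xb2 yb49 zb25) (kb xb2 yb49 zb28) (kb xb2 yb49 zb20) (kb xb2 yb49 zb34) (kb xb1 yb24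 zb50) (kb xb0 yb42 zb0) (kb xb0 yb37 zb24) (kb xb2 yb49 zb45) (kb xb0 yb37 zb25)) (@D3.rec (fun _ => Pt) (kb xb2 yb49 zb54) (kb xb2 yb49 zb51) (kb xb0 yb37 zb26) (kb xb1 yb6 zb29) (kb xb2 yb49 zb60) (kb xb2 yb49 zb61) (kb xb2 yb13 zb51) (kb xb0 yb37 zb34) (kb xb2 yb50 zb9) (kb xb2 yb50 zb11) (kb xb0 yb44 zb38) (kb xb0 yb37 zb30) (kb xb2 yb50 zb22) (kb xb0 yb37 zb33) (kb xb2 yb50 zb27) (kb xb2 yb50 zb29) (kb xb2 yb50 zb20) (kb xb2 yb50 zb21) (kb xb0 yb37 zb31) (kb xb2 yb50 zb37) (kb xb0 yb37 zb32) (kb xb2 yb50 zb42) (kb xb2 yb50 zb43) (kb xb2 yb50 zb46) (kb xb2 yb50 zb49) (kb xb2 yb22 zb2) (kb xb2 yb50 zb8) (kb xb2 yb50 zb56) (kb xb0 yb37 zb37) (kb xb0 yb37 zb36) (kb xb2 yb50 zb59) (kb xb0 yb38 zb27) (kb xb0 yb37 zb38) (kb xb2 yb51 zb1) (kb xb2 yb51 zb2) (kb xb1 yb23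 zb34) (kb xb0 yb37 zb41) (kb xb0 yb37 zb44) (kb xb0 yb37 zb47) (kb xb2 yb51 zb8) (kb xb0 yb37 zb48) (kb xb2 yb51 zb12) (kb xb2 yb51 zb15) (kb xb2 yb51 zb18) (kb xb0 yb44 zb31) (kb xb0 yb37 zb50) (kb xb2 yb51 zb25) (kb xb2 yb51 zb28) (kb xb2 yb51 zb24) (kb xb0 yb37 zb51) (kb xb2 yb51 zb31) (kb xb2 yb17 zb43) (kb xb1 yb23 zb14) (kb xb0 yb37 zb54) (kb xb2 yb51 zb42) (kb xb2 yb51 zb41) (kb xb0 yb37 zb55) (kb xb1 yb4 zb40) (kb xb2 yb14 zb24) (kb xb2 yb51 zb50) (kb xb2 yb51 zb53) (kb xb0 yb43 zb38)) (@D3.rec (fun _ => Pt) (kb xb0 yb37 zb60) (kb xb0 yb37 zb58) (kb xb2 yb52 zb1) (kb xb0 yb37 zb59) (kb xb2 yb52 zb7) (kb xb2 yb52 zb10) (kb xb2 yb52 zb13) (kb xb2 yb51 zb61) (kb xb0 yb39 zb3) (kb xb0 yb38 zb2) (kb xb2 yb52 zb17) (kb xb0 yb38 zb3) (kb xb1 yb28 zb17) (kb xb0 yb38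 zb5) (kb xb0 yb38 zb6) (kb xb2 yb14 zb30) (kb xb2 yb52 zb20) (kb xb2 yb52 zb23) (kb xb0 yb43 zb24) (kb xb0 yb38 zb10) (kb xb0 yb38 zb13) (kb xb2 yb52 zb37) (kb xb2 yb52 zb39) (kb xb2 yb52 zb32) (kb xb2 yb52 zb33) (kb xb0 yb38 zb11) (kb xb2 yb52 zb47) (kb xb0 yb38 zb12) (kb xb2 yb52 zb48) (kb xb2 yb52 zb50) (kb xb2 yb52 zb52) (kb xb2 yb16 zb43) (kb xb0 yb38 zb15) (kb xb2 yb52 zb56) (kb xb2 yb52 zb59) (kb xb0 yb38 zb17) (kb xb2 yb52 zb61) (kb xb0 yb38 zb18) (kb xb2 yb15 zb39) (kb xb2 yb53 zb2) (kb xb2 yb53 zb3) (kb xb0 yb38 zb19) (kb xb2 yb9 zb49) (kb xb2 yb53 zb12) (kb xb2 yb53 zb16) (kb xb2 yb14 zb53) (kb xb2 yb14 zb54) (kb xb1 yb23 zb4) (kb xb2 yb53 zb27) (kb xb1 yb2 zb6) (kb xb1 yb2 zb7) (kb xb2 yb50 zb0) (kb xb2 yb53 zb39) (kb xb0 yb38 zb24) (kb xb2 yb53 zb45) (kb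 xb2 yb53 zb49) (kb xb0 yb38 zb25) (kb xb0 yb38 zb26) (kb xb2 yb53 zb56) (kb xb2 yb53 zb59) (kb xb2 yb53 zb44) (kb xb2 yb54 zb3)) (@D3.rec (fun _ => Pt) (kb xb2 yb53 zb55) (kb xb2 yb50 zb58) (kb xb2 yb19 zb0) (kb xb0 yb38 zb28) (kb xb1 yb22 zb47) (kb xb2 yb54 zb9) (kb xb2 yb52 zb55) (kb xb2 yb9 zb51) (kb xb2 yb15 zb12) (kb xb2 yb15 zb13) (kb xb2 yb54 zb20) (kb xb2 yb54 zb23) (kb xb1 yb10 zb42) (kb xb1 yb10 zb43) (kb xb1 yb21 zb52) (kb xb2 yb54 zb36) (kb xb0 yb42 zb56) (kb xb0 yb38 zb33) (kb xb2 yb47 zb36) (kb xb0 yb38 zb34) (kb xb0 yb38 zb35) (kb xb2 yb54 zb53) (kb xb2 yb54 zb55) (kb xb2 yb54 zb45) (kb xb2 yb54 zb46) (kb xb2 yb54 zb61) (kb xb2 yb54 zb52) (kb xb2 yb15 zb30) (kb xb0 yb38 zb37) (kb xb2 yb55 zb2) (kb xb2 yb55 zb3) (kb xb2 yb14 zb2) (kb xb0 yb38 zb40) (kb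 xb0 yb38 zb41) (kb xb1 yb21 zb35) (kb xb1 yb4 zb33) (kb xb0 yb38 zb39) (kb xb2 yb55 zb17) (kb xb2 yb55 zb18) (kb xb1 yb23 zb49) (kb xb2 yb15 zb45) (kb xb2 yb55 zb30) (kb xb2 yb55 zb10) (kb xb1 yb23 zb52) (kb xb2 yb15 zb49) (kb xb2 yb55 zb12) (kb xb2 yb55 zb13) (kb xb1 yb23 zb53) (kb xb2 yb15 zb33) (kb xb1 yb23 zb39) (kb xb0 yb38 zb45) (kb xb0 yb38 zb46) (kb xb1 yb23 zb43) (kb xb1 yb23 zb47) (kb xb2 yb55 zb54) (kb xb2 yb55 zb47) (kb xb2 yb15 zb60) (kb xb2 yb55 zb49) (kb xb2 yb55 zb50) (kb xb2 yb56 zb2) (kb xb2 yb16 zb2) (kb xb0 yb38 zb48)) (@D3.rec (fun _ => Pt) (kb xb2 yb56 zb13) (kb xb2 yb56 zb10) (kb xb0 yb38 zb49) (kb xb2 yb56 zb23) (kb xb2 yb56 zb22) (kb xb2 yb56 zb30) (kb xb2 yb56 zb34) (kb xb2 yb21 zb23) (kb xb2 yb21 zb28) (kb xb2 yb56 zb46) (kb xb2 yb56 zb50)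 (kb xb0 yb38 zb59) (kb xb2 yb52 zb54) (kb xb2 yb55 zb45) (kb xb0 yb39 zb0) (kb xb2 yb16 zb17) (kb xb0 yb42 zb29) (kb xb0 yb38 zb54) (kb xb2 yb57 zb6) (kb xb2 yb56 zb17) (kb xb2 yb57 zb4) (kb xb2 yb57 zb5) (kb xb2 yb16 zb24) (kb xb0 yb41 zb38) (kb xb0 yb38 zb56) (kb xb2 yb56 zb26) (kb xb2 yb57 zb23) (kb xb2 yb16 zb7) (kb xb2 yb57 zb20) (kb xb0 yb38 zb57) (kb xb0 yb42 zb38) (kb xb2 yb57 zb32) (kb xb2 yb57 zb33) (kb xb0 yb38 zb58) (kb xb2 yb19 zb8) (kb xb2 yb57 zb44) (kb xb2 yb57 zb45) (kb xb0 yb38 zb60) (kb xb2 yb57 zb51) (kb xb2 yb15 zb61) (kb xb2 yb57 zb58) (kb xb2 yb57 zb61) (kb xb2 yb58 zb4) (kb xb0 yb39 zb1) (kb xb2 yb58 zb6) (kb xb2 yb58 zb9) (kb xb2 yb58 zb12) (kb xb1 yb3 zb17) (kb xb2 yb58 zb15) (kb xb2 yb58 zb18) (kb xb1 yb20 zb57) (kb xb0 yb39 zb6) (kb xb2 yb58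 zb20) (kb xb1 yb55 zb10) (kb xb0 yb56 zb6) (kb xb1 yb25 zb1) (kb xb1 yb15 zb23) (kb xb1 yb15 zb24) (kb xb0 yb39 zb9) (kb xb1 yb57 zb18) (kb xb2 yb58 zb28) (kb xb2 yb38 zb54)) (@D3.rec (fun _ => Pt) (kb xb0 yb39 zb10) (kb xb1 yb24 zb55) (kb xb2 yb58 zb33) (kb xb2 yb58 zb34) (kb xb2 yb58 zb39) (kb xb2 yb58 zb42) (kb xb2 yb58 zb47) (kb xb0 yb39 zb22) (kb xb0 yb39 zb14) (kb xb0 yb39 zb15) (kb xb2 yb58 zb54) (kb xb2 yb58 zb52) (kb xb0 yb55 zb47) (kb xb0 yb39 zb17) (kb xb0 yb39 zb18) (kb xb2 yb59 zb2) (kb xb2 yb59 zb1) (kb xb0 yb39 zb19) (kb xb2 yb59 zb9) (kb xb2 yb59 zb8) (kb xb0 yb39 zb20) (kb xb2 yb59 zb17) (kb xb2 yb59 zb16) (kb xb2 yb59 zb22) (kb xb2 yb59 zb25) (kb xb0 yb39 zb21) (kb xb2 yb59 zb30) (kb xb2 yb59 zb31) (kb xb2 yb58 zb50) (kb xb0 yb39 zb24) (kb xb0 yb39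 zb25) (kb xb2 yb59 zb38) (kb xb2 yb59 zb37) (kb xb2 yb59 zb43) (kb xb2 yb31 zb11) (kb xb0 yb39 zb31) (kb xb0 yb39 zb32) (kb xb2 yb59 zb48) (kb xb2 yb59 zb47) (kb xb1 yb14 zb5) (kb xb0 yb39 zb34) (kb xb2 yb59 zb54) (kb xb0 yb39 zb37) (kb xb2 yb30 zb9) (kb xb2 yb16 zb44) (kb xb0 yb39 zb38) (kb xb2 yb59 zb60) (kb xb0 yb39 zb39) (kb xb3 yb0 zb1) (kb xb3 yb0 zb2) (kb xb2 yb30 zb31) (kb xb3 yb0 zb10) (kb xb2 yb16 zb55) (kb xb0 yb39 zb41) (kb xb0 yb39 zb42) (kb xb3 yb0 zb19) (kb xb3 yb0 zb21) (kb xb3 yb0 zb23) (kb xb3 yb0 zb16) (kb xb3 yb0 zb17) (kb xb3 yb0 zb18) (kb xb1 yb20 zb42)) (@D3.rec (fun _ => Pt) (kb xb2 yb49 zb53) (kb xb0 yb39 zb44) (kb xb3 yb0 zb32) (kb xb3 yb0 zb31) (kb xb1 yb26 zb6) (kb xb0 yb39 zb45) (kb xb1 yb26 zb4) (kb xb2 yb49 zb52) (kb xb1 yb29 zb3) (kb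 xb0 yb39 zb49) (kb xb0 yb39 zb50) (kb xb3 yb0 zb46) (kb xb3 yb0 zb49) (kb xb3 yb0 zb42) (kb xb3 yb0 zb52) (kb xb3 yb0 zb55) (kb xb3 yb0 zb45) (kb xb1 yb18 zb47) (kb xb2 yb15 zb16) (kb xb2 yb15 zb17) (kb xb1 yb26 zb20) (kb xb0 yb39 zb57) (kb xb2 yb26 zb57) (kb xb1 yb3 zb31) (kb xb1 yb31 zb39) (kb xb0 yb39 zb59) (kb xb1 yb37 zb42) (kb xb3 yb1 zb6) (kb xb3 yb1 zb8) (kb xb0 yb40 zb0) (kb xb0 yb40 zb1) (kb xb3 yb1 zb11) (kb xb1 yb29 zb49) (kb xb0 yb40 zb3) (kb xb3 yb1 zb13) (kb xb1 yb33 zb23) (kb xb2 yb19 zb5) (kb xb0 yb40 zb6) (kb xb3 yb1 zb21) (kb xb1 yb29 zb1) (kb xb1 yb29 zb2) (kb xb0 yb40 zb8) (kb xb3 yb1 zb25) (kb xb1 yb6 zb38) (kb xb1 yb31 zb33) (kb xb0 yb40 zb11) (kb xb0 yb40 zb12) (kb xb1 yb42 zb41) (kb xb1 yb30 zb56) (kb xb3 yb1 zb30) (kb xb3 yb1 zb31) (kb xb1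 yb29 zb12) (kb xb0 yb47 zb48) (kb xb0 yb40 zb15) (kb xb0 yb46 zb42) (kb xb3 yb1 zb40) (kb xb3 yb1 zb42) (kb xb2 yb17 zb16) (kb xb0 yb40 zb17) (kb xb3 yb1 zb49) (kb xb0 yb40 zb18) (kb xb3 yb1 zb54)) (@D3.rec (fun _ => Pt) (kb xb3 yb1 zb53) (kb xb3 yb1 zb59) (kb xb3 yb2 zb0) (kb xb0 yb40 zb19) (kb xb3 yb2 zb6) (kb xb3 yb2 zb7) (kb xb2 yb17 zb2) (kb xb3 yb2 zb15) (kb xb3 yb2 zb18) (kb xb0 yb40 zb27) (kb xb0 yb40 zb28) (kb xb3 yb2 zb26) (kb xb0 yb40 zb29) (kb xb2 yb17 zb28) (kb xb0 yb40 zb24) (kb xb3 yb2 zb34) (kb xb3 yb2 zb36) (kb xb3 yb2 zb32) (kb xb3 yb2 zb33) (kb xb0 yb40 zb25) (kb xb3 yb2 zb48) (kb xb3 yb2 zb46) (kb xb3 yb2 zb47) (kb xb0 yb40 zb26) (kb xb3 yb2 zb60) (kb xb2 yb17 zb26) (kb xb3 yb2 zb59) (kb xb3 yb2 zb22) (kb xb3 yb3 zb6) (kb xb3 yb3 zb8) (kb xb3 yb2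 zb25) (kb xb3 yb3 zb14) (kb xb0 yb40 zb30) (kb xb3 yb3 zb17) (kb xb1 yb27 zb49) (kb xb0 yb40 zb36) (kb xb1 yb10 zb54) (kb xb3 yb3 zb25) (kb xb1 yb10 zb46) (kb xb0 yb40 zb33) (kb xb3 yb3 zb30) (kb xb3 yb3 zb31) (kb xb2 yb10 zb40) (kb xb0 yb40 zb35) (kb xb3 yb3 zb34) (kb xb2 yb24 zb15) (kb xb0 yb40 zb37) (kb xb3 yb3 zb37) (kb xb2 yb9 zb55) (kb xb1 yb27 zb34) (kb xb1 yb19 zb0) (kb xb0 yb40 zb39) (kb xb3 yb3 zb45) (kb xb1 yb43 zb35) (kb xb1 yb27 zb54) (kb xb1 yb3 zb58) (kb xb1 yb28 zb48) (kb xb0 yb40 zb41) (kb xb3 yb3 zb49) (kb xb2 yb8 zb41) (kb xb1 yb28 zb21) (kb xb0 yb40 zb55)) (@D3.rec (fun _ => Pt) (kb xb1 yb19 zb2) (kb xb0 yb40 zb43) (kb xb3 yb3 zb60) (kb xb0 yb40 zb44) (kb xb3 yb4 zb2) (kb xb3 yb4 zb3) (kb xb1 yb31 zb18) (kb xb1 yb31 zb13) (kb xb3 yb3 zb44) (kb xb0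 yb40 zb46) (kb xb0 yb40 zb47) (kb xb3 yb4 zb15) (kb xb3 yb4 zb17) (kb xb3 yb4 zb26) (kb xb3 yb4 zb18) (kb xb3 yb4 zb19) (kb xb2 yb9 zb29) (kb xb1 yb22 zb12) (kb xb3 yb4 zb35) (kb xb1 yb28 zb19) (kb xb1 yb28 zb20) (kb xb1 yb27 zb60) (kb xb1 yb5 zb46) (kb xb0 yb40 zb56) (kb xb2 yb58 zb19) (kb xb3 yb4 zb43) (kb xb1 yb20 zb50) (kb xb0 yb40 zb53) (kb xb3 yb4 zb49) (kb xb3 yb4 zb50) (kb xb2 yb8 zb57) (kb xb0 yb40 zb57) (kb xb3 yb4 zb56) (kb xb3 yb4 zb52) (kb xb3 yb4 zb53) (kb xb0 yb40 zb58) (kb xb2 yb9 zb34) (kb xb3 yb5 zb3) (kb xb3 yb5 zb4) (kb xb2 yb17 zb47) (kb xb3 yb5 zb16) (kb xb3 yb5 zb12) (kb xb0 yb40 zb61) (kb xb0 yb41 zb0) (kb xb3 yb5 zb27) (kb xb3 yb5 zb29) (kb xb3 yb5 zb32) (kb xb3 yb5 zb26) (kb xb1 yb27 zb56) (kb xb0 yb41 zb3) (kb xb0 yb41 zb4) (kb xb0 yb41 zb2)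 (kb xb3 yb5 zb40) (kb xb3 yb5 zb41) (kb xb3 yb5 zb37) (kb xb0 yb41 zb5) (kb xb3 yb5 zb44) (kb xb3 yb5 zb45) (kb xb1 yb18 zb58) (kb xb1 yb31 zb31) (kb xb0 yb41 zb9) (kb xb1 yb5 zb58)) (@D3.rec (fun _ => Pt) (kb xb3 yb5 zb49) (kb xb1 yb26 zb39) (kb xb1 yb26 zb40) (kb xb1 yb26 zb8) (kb xb0 yb41 zb13) (kb xb1 yb40 zb32) (kb xb0 yb41 zb14) (kb xb3 yb6 zb4) (kb xb3 yb6 zb6) (kb xb3 yb5 zb60) (kb xb3 yb5 zb61) (kb xb3 yb6 zb13) (kb xb1 yb26 zb51) (kb xb2 yb17 zb12) (kb xb2 yb17 zb13) (kb xb0 yb41 zb16) (kb xb1 yb46 zb57) (kb xb3 yb6 zb19) (kb xb1 yb32 zb51) (kb xb1 yb32 zb11) (kb xb2 yb20 zb20) (kb xb2 yb52 zb0) (kb xb0 yb41 zb20) (kb xb2 yb21 zb40) (kb xb1 yb48 zb15) (kb xb0 yb41 zb21) (kb xb3 yb6 zb39) (kb xb3 yb6 zb42) (kb xb3 yb6 zb32) (kb xb3 yb6 zb33) (kb xb3 yb6 zb48)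 (kb xb1 yb40 zb49) (kb xb0 yb41 zb23) (kb xb3 yb6 zb50) (kb xb1 yb32 zb45) (kb xb2 yb52 zb6) (kb xb0 yb41 zb26) (kb xb3 yb6 zb59) (kb xb3 yb6 zb41) (kb xb3 yb6 zb58) (kb xb2 yb17 zb7) (kb xb0 yb41 zb29) (kb xb0 yb41 zb30) (kb xb0 yb41 zb28) (kb xb3 yb7 zb3) (kb xb1 yb35 zb22) (kb xb3 yb7 zb0) (kb xb1 yb31 zb43) (kb xb3 yb7 zb2) (kb xb1 yb26 zb32) (kb xb0 yb41 zb33) (kb xb3 yb7 zb12) (kb xb3 yb7 zb11) (kb xb3 yb7 zb17) (kb xb2 yb17 zb61) (kb xb3 yb7 zb24) (kb xb3 yb7 zb25) (kb xb2 yb18 zb1) (kb xb2 yb18 zb2) (kb xb0 yb41 zb36) (kb xb1 yb35 zb30) (kb xb3 yb7 zb27)) (@D3.rec (fun _ => Pt) (kb xb0 yb41 zb37) (kb xb3 yb7 zb34) (kb xb3 yb7 zb33) (kb xb3 yb7 zb39) (kb xb3 yb7 zb42) (kb xb2 yb57 zb16) (kb xb2 yb57 zb17) (kb xb3 yb7 zb52) (kb xb3 yb7 zb56) (kb xb0 yb41 zb48)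 (kb xb0 yb41 zb49) (kb xb0 yb41 zb40) (kb xb3 yb8 zb2) (kb xb3 yb8 zb0) (kb xb0 yb41 zb41) (kb xb3 yb8 zb6) (kb xb3 yb8 zb5) (kb xb3 yb8 zb9) (kb xb3 yb8 zb11) (kb xb0 yb41 zb56) (kb xb1 yb37 zb48) (kb xb1 yb10 zb60) (kb xb0 yb41 zb45) (kb xb3 yb8 zb18) (kb xb3 yb8 zb19) (kb xb0 yb41 zb46) (kb xb3 yb8 zb29) (kb xb3 yb8 zb27) (kb xb3 yb8 zb28) (kb xb0 yb41 zb47) (kb xb3 yb8 zb42) (kb xb3 yb8 zb40) (kb xb3 yb8 zb41) (kb xb3 yb8 zb48) (kb xb3 yb8 zb51) (kb xb3 yb8 zb55) (kb xb2 yb6 zb27) (kb xb3 yb8 zb3) (kb xb1 yb44 zb20) (kb xb0 yb41 zb51) (kb xb3 yb9 zb1) (kb xb3 yb9 zb0) (kb xb3 yb7 zb60) (kb xb2 yb18 zb30) (kb xb0 yb41 zb53) (kb xb3 yb9 zb9) (kb xb3 yb9 zb8) (kb xb0 yb41 zb54) (kb xb3 yb9 zb17) (kb xb3 yb9 zb16) (kb xb0 yb41 zb55) (kb xb3 yb9 zb25) (kb xb3 yb9 zb26)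 (kb xb0 yb58 zb26) (kb xb0 yb41 zb57) (kb xb1 yb44 zb23) (kb xb1 yb26 zb48) (kb xb0 yb41 zb59) (kb xb3 yb9 zb36) (kb xb3 yb9 zb35) (kb xb3 yb9 zb40) (kb xb2 yb18 zb38)) (@D3.rec (fun _ => Pt) (kb xb0 yb41 zb61) (kb xb3 yb9 zb44) (kb xb3 yb9 zb43) (kb xb2 yb49 zb41) (kb xb3 yb9 zb50) (kb xb3 yb9 zb54) (kb xb2 yb9 zb36) (kb xb0 yb42 zb2) (kb xb0 yb42 zb3) (kb xb3 yb9 zb59) (kb xb3 yb3 zb59) (kb xb3 yb9 zb61) (kb xb2 yb49 zb6) (kb xb1 yb28 zb7) (kb xb1 yb6 zb35) (kb xb2 yb9 zb43) (kb xb2 yb14 zb19) (kb xb0 yb42 zb7) (kb xb1 yb28 zb6) (kb xb2 yb55 zb19) (kb xb2 yb44 zb37) (kb xb2 yb55 zb7) (kb xb2 yb14 zb50) (kb xb3 yb10 zb22) (kb xb0 yb44 zb45) (kb xb0 yb42 zb12) (kb xb3 yb10 zb25) (kb xb3 yb10 zb26) (kb xb2 yb18 zb44) (kb xb0 yb42 zb16) (kb xb0 yb42 zb15) (kb xb1 yb28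 zb59) (kb xb0 yb42 zb20) (kb xb1 yb26 zb44) (kb xb0 yb42 zb19) (kb xb1 yb39 zb24) (kb xb3 yb10 zb30) (kb xb0 yb42 zb24) (kb xb0 yb51 zb6) (kb xb1 yb26 zb24) (kb xb1 yb49 zb52) (kb xb3 yb10 zb35) (kb xb2 yb19 zb9) (kb xb1 yb29 zb47) (kb xb3 yb10 zb43) (kb xb1 yb47 zb11) (kb xb0 yb42 zb28) (kb xb3 yb10 zb45) (kb xb3 yb10 zb46) (kb xb3 yb10 zb48) (kb xb2 yb57 zb1) (kb xb0 yb42 zb37) (kb xb0 yb42 zb31) (kb xb3 yb10 zb56) (kb xb3 yb10 zb54) (kb xb0 yb42 zb32) (kb xb0 yb43 zb18) (kb xb3 yb10 zb60) (kb xb3 yb11 zb1) (kb xb3 yb11 zb4) (kb xb0 yb42 zb44) (kb xb0 yb42 zb35)) (@D3.rec (fun _ => Pt) (kb xb3 yb11 zb10) (kb xb3 yb11 zb9) (kb xb0 yb42 zb36) (kb xb3 yb11 zb20) (kb xb3 yb11 zb18) (kb xb3 yb11 zb19) (kb xb3 yb11 zb25) (kb xb3 yb11 zb29) (kb xb3 yb11 zb34) (kb xb2 yb57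 zb34) (kb xb0 yb53 zb20) (kb xb1 yb29 zb19) (kb xb0 yb42 zb40) (kb xb3 yb11 zb44) (kb xb3 yb11 zb43) (kb xb1 yb46 zb60) (kb xb1 yb37 zb49) (kb xb0 yb42 zb42) (kb xb3 yb11 zb53) (kb xb0 yb42 zb43) (kb xb3 yb11 zb6) (kb xb0 yb43 zb59) (kb xb1 yb7 zb38) (kb xb1 yb7 zb39) (kb xb1 yb46 zb55) (kb xb0 yb42 zb50) (kb xb0 yb42 zb49) (kb xb3 yb12 zb0) (kb xb3 yb12 zb1) (kb xb3 yb11 zb61) (kb xb0 yb43 zb29) (kb xb0 yb43 zb30) (kb xb3 yb12 zb3) (kb xb0 yb43 zb2) (kb xb0 yb42 zb54) (kb xb3 yb12 zb8) (kb xb3 yb12 zb6) (kb xb0 yb42 zb55) (kb xb3 yb12 zb17) (kb xb3 yb12 zb16) (kb xb3 yb12 zb24) (kb xb3 yb12 zb27) (kb xb2 yb54 zb41) (kb xb2 yb54 zb42) (kb xb3 yb12 zb31) (kb xb1 yb29 zb34) (kb xb2 yb49 zb24) (kb xb0 yb42 zb59) (kb xb3 yb12 zb42) (kb xb3 yb12 zb12) (kb xb3 yb12 zb41)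 (kb xb1 yb29 zb18) (kb xb2 yb49 zb44) (kb xb0 yb42 zb61) (kb xb3 yb12 zb20) (kb xb3 yb12 zb54) (kb xb3 yb12 zb52) (kb xb0 yb43 zb0) (kb xb3 yb12 zb61) (kb xb3 yb12 zb59) (kb xb3 yb12 zb60) (kb xb0 yb43 zb1)) (@D3.rec (fun _ => Pt) (kb xb3 yb13 zb12) (kb xb3 yb13 zb10) (kb xb3 yb13 zb11) (kb xb0 yb43 zb49) (kb xb1 yb47 zb8) (kb xb0 yb43 zb17) (kb xb0 yb43 zb6) (kb xb3 yb13 zb21) (kb xb3 yb13 zb20) (kb xb0 yb43 zb7) (kb xb3 yb13 zb26) (kb xb3 yb13 zb25) (kb xb1 yb39 zb42) (kb xb0 yb51 zb10) (kb xb1 yb50 zb23) (kb xb1 yb33 zb16) (kb xb1 yb33 zb15) (kb xb0 yb43 zb13) (kb xb1 yb34 zb6) (kb xb1 yb34 zb21) (kb xb1 yb34 zb22) (kb xb3 yb13 zb35) (kb xb3 yb13 zb19) (kb xb1 yb26 zb35) (kb xb3 yb10 zb61) (kb xb0 yb43 zb20) (kb xb3 yb13 zb45) (kb xb3 yb13 zb44) (kb xb3 yb13 zb48)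 (kb xb2 yb20 zb0) (kb xb0 yb43 zb22) (kb xb3 yb13 zb55) (kb xb3 yb13 zb52) (kb xb0 yb43 zb23) (kb xb3 yb13 zb60) (kb xb3 yb13 zb59) (kb xb3 yb14 zb4) (kb xb3 yb14 zb7) (kb xb2 yb52 zb28) (kb xb2 yb52 zb29) (kb xb3 yb14 zb17) (kb xb3 yb13 zb50) (kb xb0 yb43 zb28) (kb xb0 yb43 zb26) (kb xb3 yb14 zb25) (kb xb3 yb14 zb26) (kb xb0 yb43 zb27) (kb xb3 yb14 zb31) (kb xb3 yb14 zb32) (kb xb3 yb7 zb31) (kb xb1 yb49 zb34) (kb xb1 yb36 zb61) (kb xb0 yb43 zb32) (kb xb0 yb43 zb33) (kb xb3 yb14 zb42) (kb xb3 yb14 zb40) (kb xb1 yb48 zb24) (kb xb3 yb14 zb41) (kb xb3 yb14 zb49) (kb xb1 yb40 zb12) (kb xb2 yb20 zb14) (kb xb0 yb43 zb37)) (@D3.rec (fun _ => Pt) (kb xb3 yb14 zb59) (kb xb3 yb14 zb58) (kb xb3 yb15 zb0) (kb xb1 yb50 zb43) (kb xb2 yb51 zb58) (kb xb2 yb20 zb36) (kb xb1 yb33 zb18)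 (kb xb0 yb43 zb40) (kb xb1 yb7 zb9) (kb xb3 yb1 zb28) (kb xb0 yb43 zb41) (kb xb3 yb15 zb6) (kb xb2 yb20 zb2) (kb xb3 yb15 zb7) (kb xb2 yb20 zb18) (kb xb2 yb20 zb19) (kb xb2 yb19 zb46) (kb xb3 yb1 zb51) (kb xb3 yb15 zb16) (kb xb0 yb43 zb57) (kb xb0 yb43 zb58) (kb xb1 yb33 zb19) (kb xb1 yb33 zb20) (kb xb0 yb43 zb54) (kb xb1 yb44 zb37) (kb xb3 yb15 zb23) (kb xb3 yb15 zb21) (kb xb1 yb39 zb34) (kb xb1 yb39 zb35) (kb xb3 yb15 zb27) (kb xb3 yb15 zb30) (kb xb0 yb43 zb56) (kb xb2 yb57 zb15) (kb xb3 yb15 zb35) (kb xb2 yb20 zb10) (kb xb0 yb44 zb4) (kb xb1 yb48 zb49) (kb xb3 yb15 zb46) (kb xb3 yb15 zb48) (kb xb1 yb38 zb43) (kb xb1 yb39 zb39) (kb xb0 yb44 zb3) (kb xb3 yb15 zb53) (kb xb3 yb15 zb54) (kb xb0 yb44 zb7) (kb xb3 yb15 zb59) (kb xb3 yb15 zb58) (kb xb0 yb44 zb8) (kb xb3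 yb16 zb4) (kb xb3 yb15 zb10) (kb xb3 yb12 zb9) (kb xb3 yb16 zb10) (kb xb0 yb44 zb9) (kb xb3 yb16 zb16) (kb xb3 yb16 zb17) (kb xb3 yb16 zb23) (kb xb1 yb35 zb41) (kb xb2 yb20 zb50) (kb xb3 yb10 zb31) (kb xb3 yb16 zb31) (kb xb0 yb44 zb13) (kb xb3 yb16 zb38)) (@D3.rec (fun _ => Pt) (kb xb3 yb16 zb40) (kb xb0 yb44 zb12) (kb xb3 yb16 zb44) (kb xb3 yb16 zb45) (kb xb2 yb20 zb58) (kb xb0 yb44 zb34) (kb xb3 yb16 zb36) (kb xb3 yb16 zb37) (kb xb3 yb6 zb14) (kb xb3 yb17 zb2) (kb xb0 yb44 zb16) (kb xb0 yb44 zb15) (kb xb3 yb17 zb11) (kb xb3 yb17 zb12) (kb xb0 yb44 zb40) (kb xb2 yb21 zb5) (kb xb3 yb17 zb6) (kb xb3 yb17 zb7) (kb xb0 yb44 zb17) (kb xb3 yb17 zb31) (kb xb3 yb17 zb32) (kb xb0 yb44 zb18) (kb xb1 yb29 zb45) (kb xb3 yb17 zb37) (kb xb3 yb17 zb41) (kb xb3 yb17 zb45) (kb xb3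 yb16 zb15) (kb xb0 yb44 zb20) (kb xb0 yb44 zb21) (kb xb3 yb17 zb58) (kb xb1 yb29 zb60) (kb xb3 yb17 zb61) (kb xb3 yb17 zb53) (kb xb2 yb16 zb10) (kb xb3 yb18 zb6) (kb xb3 yb18 zb10) (kb xb3 yb17 zb56) (kb xb3 yb17 zb57) (kb xb2 yb16 zb11) (kb xb0 yb44 zb23) (kb xb3 yb18 zb24) (kb xb1 yb34 zb56) (kb xb0 yb44 zb24) (kb xb3 yb18 zb35) (kb xb3 yb18 zb33) (kb xb3 yb18 zb34) (kb xb0 yb44 zb60) (kb xb3 yb16 zb8) (kb xb3 yb17 zb1) (kb xb0 yb45 zb1) (kb xb0 yb44 zb27) (kb xb1 yb42 zb44) (kb xb3 yb18 zb49) (kb xb0 yb44 zb28) (kb xb0 yb47 zb54) (kb xb2 yb5 zb54) (kb xb2 yb6 zb22) (kb xb3 yb18 zb55) (kb xb3 yb18 zb57) (kb xb2 yb21 zb45) (kb xb3 yb19 zb1) (kb xb3 yb19 zb3)) (@D3.rec (fun _ => Pt) (kb xb2 yb50 zb54) (kb xb2 yb51 zb21) (kb xb3 yb19 zb12) (kb xb3 yb19 zb16) (kb xb0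 yb44 zb35) (kb xb0 yb44 zb36) (kb xb0 yb44 zb33) (kb xb3 yb19 zb24) (kb xb3 yb19 zb25) (kb xb3 yb16 zb57) (kb xb3 yb16 zb35) (kb xb3 yb19 zb34) (kb xb3 yb16 zb59) (kb xb3 yb19 zb38) (kb xb3 yb19 zb22) (kb xb3 yb19 zb42) (kb xb2 yb22 zb1) (kb xb3 yb19 zb46) (kb xb0 yb51 zb54) (kb xb2 yb50 zb16) (kb xb2 yb50 zb17) (kb xb3 yb15 zb12) (kb xb0 yb44 zb42) (kb xb0 yb44 zb43) (kb xb3 yb17 zb19) (kb xb0 yb44 zb41) (kb xb3 yb20 zb3) (kb xb2 yb22 zb36) (kb xb3 yb17 zb23) (kb xb3 yb20 zb7) (kb xb3 yb20 zb11) (kb xb3 yb19 zb60) (kb xb0 yb44 zb44) (kb xb3 yb7 zb46) (kb xb3 yb20 zb17) (kb xb3 yb20 zb24) (kb xb3 yb10 zb23) (kb xb2 yb22 zb21) (kb xb3 yb20 zb33) (kb xb3 yb20 zb37) (kb xb0 yb44 zb50) (kb xb0 yb44 zb51) (kb xb0 yb44 zb48) (kb xb3 yb20 zb45) (kb xb3 yb20 zb46) (kb xb0 yb44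 zb49) (kb xb3 yb20 zb56) (kb xb3 yb20 zb57) (kb xb3 yb21 zb0) (kb xb3 yb21 zb4) (kb xb3 yb21 zb9) (kb xb2 yb59 zb27) (kb xb3 yb18 zb30) (kb xb2 yb21 zb31) (kb xb2 yb34 zb1) (kb xb0 yb44 zb54) (kb xb0 yb44 zb55) (kb xb3 yb21 zb23) (kb xb0 yb44 zb53) (kb xb2 yb29 zb11) (kb xb3 yb21 zb26) (kb xb1 yb33 zb51)) (@D3.rec (fun _ => Pt) (kb xb3 yb18 zb27) (kb xb3 yb21 zb36) (kb xb3 yb21 zb21) (kb xb3 yb15 zb15) (kb xb3 yb17 zb22) (kb xb2 yb22 zb43) (kb xb3 yb21 zb43) (kb xb0 yb44 zb58) (kb xb0 yb44 zb59) (kb xb0 yb44 zb57) (kb xb3 yb21 zb50) (kb xb3 yb21 zb51) (kb xb3 yb21 zb56) (kb xb3 yb18 zb39) (kb xb2 yb21 zb33) (kb xb3 yb18 zb41) (kb xb0 yb44 zb61) (kb xb3 yb21 zb60) (kb xb3 yb21 zb61) (kb xb2 yb21 zb6) (kb xb3 yb22 zb4) (kb xb3 yb22 zb7) (kb xb3 yb22 zb11) (kb xb0 yb45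 zb3) (kb xb3 yb22 zb16) (kb xb0 yb45 zb5) (kb xb3 yb22 zb20) (kb xb3 yb22 zb19) (kb xb0 yb45 zb6) (kb xb3 yb22 zb25) (kb xb3 yb22 zb24) (kb xb3 yb22 zb30) (kb xb0 yb45 zb7) (kb xb0 yb45 zb26) (kb xb3 yb5 zb50) (kb xb1 yb48 zb1) (kb xb2 yb27 zb43) (kb xb0 yb45 zb12) (kb xb1 yb38 zb26) (kb xb3 yb22 zb45) (kb xb3 yb22 zb44) (kb xb0 yb45 zb14) (kb xb1 yb26 zb26) (kb xb3 yb22 zb47) (kb xb0 yb45 zb17) (kb xb3 yb22 zb49) (kb xb0 yb45 zb19) (kb xb3 yb22 zb50) (kb xb1 yb30 zb20) (kb xb1 yb32 zb16) (kb xb2 yb54 zb1) (kb xb1 yb49 zb26) (kb xb0 yb45 zb24) (kb xb0 yb45 zb25) (kb xb3 yb22 zb59) (kb xb2 yb20 zb28) (kb xb2 yb20 zb29) (kb xb3 yb23 zb0) (kb xb0 yb47 zb11) (kb xb3 yb23 zb6) (kb xb3 yb22 zb35) (kb xb0 yb45 zb27)) (@D3.rec (fun _ => Pt) (kb xb3 yb10 zb50) (kb xb3 yb23 zb11)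 (kb xb0 yb45 zb28) (kb xb3 yb23 zb22) (kb xb3 yb23 zb21) (kb xb3 yb23 zb28) (kb xb3 yb23 zb31) (kb xb0 yb45 zb29) (kb xb3 yb23 zb37) (kb xb3 yb23 zb38) (kb xb1 yb56 zb33) (kb xb3 yb23 zb47) (kb xb3 yb23 zb51) (kb xb0 yb45 zb37) (kb xb0 yb45 zb38) (kb xb0 yb47 zb12) (kb xb3 yb7 zb1) (kb xb2 yb56 zb35) (kb xb3 yb24 zb0) (kb xb2 yb26 zb58) (kb xb0 yb45 zb34) (kb xb3 yb24 zb6) (kb xb0 yb45 zb35) (kb xb3 yb7 zb37) (kb xb3 yb24 zb11) (kb xb0 yb45 zb36) (kb xb1 yb37 zb38) (kb xb3 yb13 zb1) (kb xb3 yb23 zb55) (kb xb3 yb24 zb14) (kb xb0 yb45 zb41) (kb xb1 yb5 zb61) (kb xb0 yb45 zb40) (kb xb3 yb24 zb18) (kb xb3 yb13 zb30) (kb xb3 yb24 zb17) (kb xb0 yb45 zb44) (kb xb1 yb7 zb43) (kb xb1 yb8 zb0) (kb xb3 yb24 zb23) (kb xb3 yb24 zb27) (kb xb1 yb38 zb41) (kb xb3 yb24 zb34) (kb xb1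 yb34 zb39) (kb xb0 yb45 zb47) (kb xb3 yb24 zb38) (kb xb3 yb24 zb37) (kb xb3 yb24 zb41) (kb xb1 yb41 zb49) (kb xb1 yb41 zb54) (kb xb3 yb24 zb49) (kb xb3 yb24 zb53) (kb xb0 yb45 zb52) (kb xb0 yb45 zb50) (kb xb3 yb24 zb58) (kb xb3 yb24 zb59) (kb xb0 yb45 zb51) (kb xb3 yb24 zb61) (kb xb1 yb40 zb59) (kb xb1 yb40 zb60) (kb xb1 yb44 zb54) (kb xb0 yb48 zb34)) (@D3.rec (fun _ => Pt) (kb xb1 yb39 zb0) (kb xb1 yb39 zb1) (kb xb0 yb45 zb57) (kb xb1 yb41 zb4) (kb xb0 yb45 zb58) (kb xb2 yb18 zb0) (kb xb3 yb25 zb8) (kb xb3 yb25 zb12) (kb xb0 yb45 zb61) (kb xb1 yb5 zb30) (kb xb1 yb5 zb59) (kb xb0 yb51 zb45) (kb xb0 yb47 zb8) (kb xb0 yb46 zb3) (kb xb3 yb25 zb16) (kb xb1 yb39 zb15) (kb xb1 yb44 zb0) (kb xb1 yb47 zb54) (kb xb1 yb39 zb18) (kb xb1 yb39 zb33) (kb xb1 yb39 zb36) (kb xb0 yb46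 zb15) (kb xb2 yb19 zb37) (kb xb2 yb19 zb38) (kb xb1 yb31 zb35) (kb xb3 yb25 zb33) (kb xb3 yb25 zb34) (kb xb1 yb50 zb25) (kb xb0 yb46 zb14) (kb xb3 yb25 zb42) (kb xb3 yb25 zb43) (kb xb1 yb39 zb31) (kb xb3 yb25 zb28) (kb xb1 yb39 zb19) (kb xb1 yb34 zb27) (kb xb1 yb34 zb28) (kb xb1 yb39 zb20) (kb xb3 yb25 zb57) (kb xb0 yb46 zb25) (kb xb1 yb34 zb40) (kb xb3 yb26 zb0) (kb xb0 yb51 zb11) (kb xb1 yb33 zb12) (kb xb0 yb46 zb24) (kb xb3 yb26 zb4) (kb xb3 yb26 zb5) (kb xb1 yb39 zb46) (kb xb0 yb46 zb27) (kb xb3 yb26 zb12) (kb xb3 yb26 zb13) (kb xb3 yb26 zb17) (kb xb1 yb52 zb44) (kb xb1 yb39 zb52) (kb xb0 yb46 zb31) (kb xb3 yb26 zb24) (kb xb1 yb51 zb42) (kb xb0 yb46 zb30) (kb xb2 yb51 zb57) (kb xb3 yb26 zb30) (kb xb1 yb39 zb59) (kb xb3 yb26 zb23) (kb xb1 yb44 zb48)) (@D3.rec (fun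 _ => Pt) (kb xb3 yb26 zb40) (kb xb0 yb46 zb34) (kb xb0 yb46 zb33) (kb xb3 yb26 zb49) (kb xb3 yb26 zb50) (kb xb1 yb40 zb5) (kb xb3 yb26 zb45) (kb xb3 yb26 zb46) (kb xb0 yb46 zb35) (kb xb3 yb27 zb3) (kb xb3 yb27 zb4) (kb xb0 yb46 zb36) (kb xb1 yb33 zb59) (kb xb3 yb27 zb12) (kb xb3 yb27 zb16) (kb xb2 yb19 zb55) (kb xb3 yb27 zb19) (kb xb1 yb52 zb38) (kb xb3 yb27 zb22) (kb xb3 yb27 zb25) (kb xb1 yb52 zb54) (kb xb1 yb52 zb51) (kb xb0 yb46 zb39) (kb xb3 yb27 zb36) (kb xb3 yb27 zb33) (kb xb3 yb27 zb34) (kb xb0 yb46 zb40) (kb xb3 yb27 zb47) (kb xb3 yb27 zb45) (kb xb3 yb27 zb46) (kb xb3 yb1 zb39) (kb xb0 yb46 zb43) (kb xb1 yb29 zb5) (kb xb3 yb27 zb53) (kb xb3 yb27 zb57) (kb xb3 yb27 zb42) (kb xb1 yb40 zb36) (kb xb1 yb54 zb44) (kb xb0 yb46 zb46) (kb xb0 yb46 zb47) (kb xb3 yb27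 zb32) (kb xb1 yb40 zb41) (kb xb1 yb54 zb45) (kb xb0 yb46 zb49) (kb xb0 yb46 zb50) (kb xb3 yb28 zb15) (kb xb1 yb40 zb46) (kb xb1 yb40 zb47) (kb xb0 yb46 zb55) (kb xb1 yb29 zb31) (kb xb3 yb28 zb21) (kb xb0 yb49 zb0) (kb xb1 yb44 zb40) (kb xb0 yb46 zb58) (kb xb3 yb28 zb27) (kb xb0 yb51 zb27) (kb xb1 yb43 zb13) (kb xb0 yb47 zb6) (kb xb0 yb47 zb7) (kb xb1 yb38 zb58) (kb xb1 yb38 zb59) (kb xb0 yb47 zb2)) (@D3.rec (fun _ => Pt) (kb xb0 yb47 zb3) (kb xb0 yb47 zb4) (kb xb3 yb28 zb35) (kb xb3 yb23 zb19) (kb xb1 yb39 zb3) (kb xb1 yb6 zb8) (kb xb3 yb28 zb37) (kb xb3 yb28 zb38) (kb xb3 yb28 zb49) (kb xb3 yb28 zb31) (kb xb1 yb48 zb12) (kb xb0 yb47 zb13) (kb xb3 yb23 zb4) (kb xb3 yb23 zb58) (kb xb3 yb28 zb60) (kb xb0 yb47 zb14) (kb xb3 yb29 zb3) (kb xb3 yb29 zb4) (kb xb3 yb29 zb10)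 (kb xb3 yb29 zb14) (kb xb1 yb41 zb20) (kb xb0 yb51 zb58) (kb xb3 yb29 zb18) (kb xb0 yb47 zb18) (kb xb3 yb29 zb20) (kb xb3 yb29 zb22) (kb xb0 yb47 zb17) (kb xb2 yb21 zb47) (kb xb3 yb29 zb24) (kb xb0 yb51 zb33) (kb xb3 yb29 zb31) (kb xb0 yb47 zb21) (kb xb0 yb47 zb20) (kb xb3 yb29 zb40) (kb xb3 yb29 zb41) (kb xb1 yb41 zb35) (kb xb3 yb29 zb36) (kb xb0 yb47 zb22) (kb xb3 yb29 zb53) (kb xb3 yb29 zb54) (kb xb0 yb47 zb23) (kb xb3 yb29 zb60) (kb xb3 yb29 zb61) (kb xb3 yb30 zb3) (kb xb3 yb29 zb2) (kb xb0 yb47 zb25) (kb xb0 yb47 zb26) (kb xb3 yb30 zb12) (kb xb3 yb30 zb7) (kb xb1 yb38 zb48) (kb xb3 yb30 zb19) (kb xb3 yb30 zb23) (kb xb3 yb30 zb10) (kb xb3 yb30 zb11) (kb xb1 yb38 zb49) (kb xb0 yb47 zb28) (kb xb3 yb30 zb41) (kb xb3 yb30 zb38) (kb xb3 yb30 zb39) (kb xb0 yb47 zb29)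 (kb xb3 yb30 zb55) (kb xb3 yb30 zb53)) (@D3.rec (fun _ => Pt) (kb xb3 yb30 zb54) (kb xb0 yb47 zb47) (kb xb3 yb30 zb60) (kb xb3 yb31 zb1) (kb xb0 yb47 zb32) (kb xb3 yb11 zb60) (kb xb3 yb25 zb61) (kb xb3 yb28 zb12) (kb xb1 yb42 zb8) (kb xb3 yb31 zb13) (kb xb3 yb31 zb17) (kb xb0 yb47 zb38) (kb xb0 yb47 zb36) (kb xb3 yb30 zb47) (kb xb0 yb47 zb37) (kb xb3 yb30 zb50) (kb xb1 yb42 zb16) (kb xb3 yb31 zb27) (kb xb0 yb47 zb41) (kb xb0 yb47 zb42) (kb xb0 yb47 zb40) (kb xb3 yb31 zb35) (kb xb3 yb31 zb36) (kb xb3 yb31 zb34) (kb xb3 yb30 zb35) (kb xb1 yb42 zb25) (kb xb3 yb31 zb42) (kb xb0 yb47 zb45) (kb xb0 yb47 zb46) (kb xb0 yb47 zb44) (kb xb3 yb31 zb49) (kb xb2 yb21 zb0) (kb xb0 yb47 zb51) (kb xb1 yb5 zb31) (kb xb3 yb31 zb50) (kb xb1 yb42 zb35) (kb xb3 yb7 zb4) (kb xb1 yb50 zb19)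 (kb xb3 yb31 zb56) (kb xb1 yb55 zb3) (kb xb0 yb52 zb46) (kb xb1 yb26 zb47) (kb xb1 yb44 zb49) (kb xb0 yb48 zb2) (kb xb1 yb35 zb51) (kb xb0 yb48 zb4) (kb xb0 yb48 zb0) (kb xb1 yb49 zb32) (kb xb3 yb11 zb38) (kb xb3 yb32 zb9) (kb xb3 yb32 zb14) (kb xb0 yb48 zb1) (kb xb1 yb55 zb36) (kb xb3 yb32 zb19) (kb xb1 yb42 zb54) (kb xb3 yb32 zb5) (kb xb3 yb32 zb6) (kb xb1 yb42 zb57) (kb xb3 yb32 zb32) (kb xb0 yb48 zb10) (kb xb0 yb50 zb29) (kb xb0 yb48 zb9)) (@D3.rec (fun _ => Pt) (kb xb3 yb32 zb37) (kb xb3 yb32 zb38) (kb xb1 yb43 zb2) (kb xb3 yb32 zb34) (kb xb0 yb48 zb11) (kb xb3 yb32 zb46) (kb xb3 yb32 zb47) (kb xb3 yb26 zb21) (kb xb3 yb32 zb54) (kb xb1 yb43 zb9) (kb xb1 yb43 zb10) (kb xb0 yb48 zb13) (kb xb0 yb48 zb14) (kb xb1 yb40 zb56) (kb xb3 yb32 zb59) (kb xb0 yb48 zb19) (kb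 xb3 yb27 zb2) (kb xb0 yb48 zb18) (kb xb3 yb33 zb5) (kb xb3 yb33 zb6) (kb xb1 yb43 zb20) (kb xb3 yb33 zb1) (kb xb3 yb33 zb2) (kb xb3 yb33 zb17) (kb xb0 yb48 zb22) (kb xb0 yb48 zb21) (kb xb3 yb33 zb21) (kb xb3 yb33 zb22) (kb xb0 yb48 zb23) (kb xb3 yb33 zb30) (kb xb3 yb33 zb31) (kb xb0 yb48 zb24) (kb xb3 yb33 zb37) (kb xb3 yb33 zb38) (kb xb3 yb33 zb41) (kb xb1 yb27 zb53) (kb xb3 yb33 zb43) (kb xb1 yb45 zb26) (kb xb3 yb33 zb49) (kb xb3 yb33 zb53) (kb xb1 yb45 zb29) (kb xb1 yb45 zb30) (kb xb0 yb48 zb27) (kb xb3 yb34 zb5) (kb xb3 yb34 zb2) (kb xb3 yb34 zb3) (kb xb0 yb48 zb28) (kb xb3 yb34 zb13) (kb xb3 yb34 zb11) (kb xb3 yb34 zb12) (kb xb3 yb34 zb18) (kb xb1 yb44 zb11) (kb xb0 yb48 zb47) (kb xb3 yb1 zb32) (kb xb3 yb26 zb1) (kb xb3 yb28 zb26) (kb xb0 yb48 zb32) (kb xb3 yb25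 zb55) (kb xb0 yb48 zb44) (kb xb3 yb31 zb61) (kb xb3 yb25 zb3) (kb xb0 yb48 zb35)) (@D3.rec (fun _ => Pt) (kb xb1 yb39 zb16) (kb xb3 yb34 zb28) (kb xb0 yb48 zb36) (kb xb3 yb34 zb32) (kb xb3 yb34 zb31) (kb xb3 yb34 zb37) (kb xb3 yb34 zb40) (kb xb0 yb48 zb37) (kb xb3 yb34 zb46) (kb xb3 yb34 zb47) (kb xb0 yb48 zb52) (kb xb1 yb43 zb51) (kb xb0 yb48 zb40) (kb xb3 yb34 zb57) (kb xb3 yb33 zb61) (kb xb1 yb44 zb15) (kb xb1 yb54 zb24) (kb xb0 yb48 zb42) (kb xb0 yb48 zb43) (kb xb3 yb8 zb1) (kb xb1 yb30 zb38) (kb xb1 yb44 zb34) (kb xb1 yb6 zb15) (kb xb1 yb30 zb55) (kb xb1 yb44 zb24) (kb xb1 yb47 zb45) (kb xb3 yb35 zb15) (kb xb3 yb35 zb17) (kb xb1 yb44 zb28) (kb xb0 yb48 zb51) (kb xb0 yb48 zb54) (kb xb3 yb35 zb21) (kb xb3 yb35 zb20) (kb xb0 yb48 zb55) (kb xb1 yb44 zb21) (kb xb1 yb44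 zb35) (kb xb1 yb46 zb20) (kb xb1 yb34 zb24) (kb xb0 yb49 zb2) (kb xb0 yb52 zb25) (kb xb1 yb40 zb52) (kb xb3 yb28 zb24) (kb xb3 yb35 zb39) (kb xb0 yb49 zb1) (kb xb3 yb5 zb36) (kb xb3 yb35 zb44) (kb xb1 yb44 zb46) (kb xb3 yb35 zb34) (kb xb1 yb39 zb61) (kb xb1 yb42 zb42) (kb xb0 yb49 zb10) (kb xb1 yb45 zb58) (kb xb0 yb49 zb11) (kb xb0 yb51 zb14) (kb xb1 yb38 zb60) (kb xb0 yb49 zb9) (kb xb3 yb36 zb5) (kb xb3 yb36 zb6) (kb xb1 yb44 zb58) (kb xb3 yb35 zb59) (kb xb3 yb36 zb15) (kb xb0 yb49 zb12)) (@D3.rec (fun _ => Pt) (kb xb3 yb36 zb18) (kb xb3 yb36 zb23) (kb xb3 yb26 zb44) (kb xb1 yb45 zb3) (kb xb1 yb45 zb4) (kb xb3 yb36 zb29) (kb xb0 yb49 zb17) (kb xb3 yb36 zb31) (kb xb3 yb36 zb33) (kb xb0 yb49 zb16) (kb xb2 yb8 zb60) (kb xb3 yb36 zb38) (kb xb0 yb49 zb20) (kb xb0 yb49 zb19)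 (kb xb3 yb36 zb46) (kb xb3 yb36 zb47) (kb xb1 yb45 zb16) (kb xb3 yb36 zb43) (kb xb0 yb49 zb21) (kb xb3 yb36 zb57) (kb xb3 yb36 zb58) (kb xb0 yb49 zb22) (kb xb2 yb9 zb5) (kb xb3 yb37 zb0) (kb xb3 yb4 zb13) (kb xb3 yb3 zb47) (kb xb1 yb43 zb37) (kb xb3 yb37 zb8) (kb xb3 yb37 zb10) (kb xb1 yb43 zb40) (kb xb1 yb43 zb41) (kb xb0 yb49 zb25) (kb xb3 yb37 zb19) (kb xb0 yb49 zb26) (kb xb3 yb37 zb25) (kb xb3 yb37 zb23) (kb xb3 yb37 zb24) (kb xb3 yb37 zb30) (kb xb3 yb37 zb33) (kb xb3 yb37 zb39) (kb xb0 yb49 zb39) (kb xb0 yb50 zb20) (kb xb0 yb49 zb31) (kb xb3 yb37 zb45) (kb xb3 yb37 zb47) (kb xb3 yb37 zb50) (kb xb0 yb49 zb32) (kb xb3 yb37 zb53) (kb xb1 yb46 zb31) (kb xb0 yb49 zb41) (kb xb3 yb37 zb21) (kb xb1 yb45 zb51) (kb xb1 yb53 zb58) (kb xb1 yb51 zb30) (kb xb0 yb49 zb36) (kb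 xb3 yb38 zb2) (kb xb0 yb49 zb37) (kb xb0 yb49 zb38) (kb xb1 yb44 zb51) (kb xb0 yb49 zb46) (kb xb0 yb49 zb44) (kb xb0 yb49 zb45)) (@D3.rec (fun _ => Pt) (kb xb3 yb38 zb5) (kb xb3 yb28 zb29) (kb xb3 yb38 zb9) (kb xb0 yb50 zb47) (kb xb0 yb50 zb49) (kb xb0 yb49 zb49) (kb xb3 yb38 zb13) (kb xb3 yb38 zb14) (kb xb3 yb25 zb26) (kb xb3 yb38 zb21) (kb xb1 yb46 zb10) (kb xb0 yb49 zb51) (kb xb3 yb38 zb26) (kb xb0 yb49 zb52) (kb xb3 yb38 zb29) (kb xb3 yb38 zb32) (kb xb1 yb46 zb42) (kb xb3 yb38 zb38) (kb xb3 yb38 zb41) (kb xb1 yb46 zb45) (kb xb1 yb44 zb36) (kb xb0 yb49 zb55) (kb xb3 yb38 zb54) (kb xb3 yb38 zb51) (kb xb3 yb38 zb52) (kb xb0 yb49 zb56) (kb xb3 yb38 zb60) (kb xb3 yb38 zb58) (kb xb3 yb38 zb59) (kb xb3 yb38 zb48) (kb xb1 yb46 zb30) (kb xb1 yb45 zb48) (kb xb0 yb49 zb59)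 (kb xb3 yb39 zb2) (kb xb1 yb49 zb27) (kb xb0 yb50 zb19) (kb xb0 yb50 zb1) (kb xb3 yb39 zb18) (kb xb0 yb50 zb3) (kb xb3 yb39 zb23) (kb xb0 yb50 zb4) (kb xb3 yb39 zb28) (kb xb1 yb46 zb16) (kb xb3 yb39 zb35) (kb xb3 yb39 zb38) (kb xb1 yb46 zb19) (kb xb0 yb50 zb7) (kb xb3 yb39 zb45) (kb xb3 yb39 zb44) (kb xb0 yb50 zb8) (kb xb3 yb39 zb49) (kb xb3 yb39 zb48) (kb xb0 yb50 zb10) (kb xb1 yb47 zb57) (kb xb0 yb50 zb14) (kb xb1 yb32 zb24) (kb xb3 yb5 zb48) (kb xb1 yb29 zb16) (kb xb1 yb49 zb40) (kb xb2 yb21 zb37) (kb xb1 yb32 zb15) (kb xb1 yb49 zb41)) (@D3.rec (fun _ => Pt) (kb xb1 yb51 zb60) (kb xb0 yb50 zb18) (kb xb3 yb40 zb8) (kb xb3 yb40 zb9) (kb xb1 yb47 zb4) (kb xb3 yb37 zb42) (kb xb3 yb39 zb16) (kb xb3 yb40 zb22) (kb xb1 yb33 zb4) (kb xb3 yb40 zb24) (kb xb0 yb50 zb25) (kb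 xb1 yb31 zb45) (kb xb0 yb50 zb24) (kb xb3 yb40 zb31) (kb xb3 yb40 zb32) (kb xb0 yb50 zb26) (kb xb3 yb40 zb37) (kb xb3 yb40 zb38) (kb xb1 yb49 zb36) (kb xb3 yb29 zb35) (kb xb1 yb47 zb20) (kb xb3 yb40 zb45) (kb xb0 yb50 zb28) (kb xb3 yb40 zb49) (kb xb3 yb40 zb50) (kb xb3 yb40 zb57) (kb xb0 yb50 zb32) (kb xb0 yb50 zb31) (kb xb3 yb41 zb2) (kb xb3 yb41 zb3) (kb xb1 yb47 zb30) (kb xb3 yb40 zb61) (kb xb0 yb50 zb33) (kb xb3 yb41 zb13) (kb xb3 yb41 zb14) (kb xb0 yb50 zb34) (kb xb3 yb41 zb20) (kb xb3 yb41 zb21) (kb xb3 yb41 zb25) (kb xb3 yb41 zb27) (kb xb3 yb41 zb29) (kb xb1 yb49 zb9) (kb xb3 yb41 zb35) (kb xb3 yb41 zb38) (kb xb1 yb49 zb12) (kb xb1 yb44 zb25) (kb xb0 yb50 zb37) (kb xb3 yb41 zb48) (kb xb3 yb41 zb45) (kb xb3 yb41 zb46) (kb xb0 yb50 zb38) (kb xb3 yb41 zb56) (kb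 xb3 yb41 zb54) (kb xb3 yb41 zb55) (kb xb1 yb39 zb17) (kb xb0 yb50 zb41) (kb xb0 yb50 zb42) (kb xb1 yb46 zb53) (kb xb0 yb50 zb44) (kb xb1 yb7 zb33) (kb xb0 yb52 zb3) (kb xb0 yb52 zb6)) (@D3.rec (fun _ => Pt) (kb xb2 yb17 zb8) (kb xb1 yb37 zb35) (kb xb3 yb42 zb5) (kb xb3 yb38 zb11) (kb xb3 yb42 zb9) (kb xb3 yb42 zb11) (kb xb0 yb50 zb48) (kb xb3 yb42 zb16) (kb xb3 yb42 zb17) (kb xb0 yb51 zb59) (kb xb0 yb52 zb36) (kb xb0 yb50 zb56) (kb xb1 yb41 zb10) (kb xb0 yb50 zb58) (kb xb3 yb42 zb30) (kb xb1 yb29 zb24) (kb xb3 yb6 zb0) (kb xb2 yb19 zb39) (kb xb0 yb50 zb55) (kb xb3 yb42 zb38) (kb xb3 yb42 zb39) (kb xb1 yb48 zb21) (kb xb3 yb42 zb27) (kb xb3 yb42 zb28) (kb xb1 yb33 zb56) (kb xb1 yb48 zb25) (kb xb3 yb42 zb51) (kb xb3 yb42 zb53) (kb xb0 yb50 zb61) (kb xb3 yb42 zb55) (kb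 xb3 yb42 zb56) (kb xb0 yb51 zb2) (kb xb3 yb42 zb60) (kb xb3 yb42 zb59) (kb xb0 yb51 zb4) (kb xb0 yb51 zb5) (kb xb3 yb43 zb3) (kb xb3 yb43 zb1) (kb xb3 yb43 zb2) (kb xb3 yb43 zb10) (kb xb3 yb10 zb36) (kb xb0 yb51 zb7) (kb xb3 yb43 zb16) (kb xb2 yb55 zb40) (kb xb3 yb43 zb21) (kb xb3 yb43 zb23) (kb xb0 yb51 zb8) (kb xb2 yb46 zb2) (kb xb3 yb43 zb26) (kb xb1 yb34 zb36) (kb xb3 yb43 zb30) (kb xb3 yb29 zb52) (kb xb0 yb51 zb13) (kb xb3 yb43 zb36) (kb xb3 yb43 zb37) (kb xb1 yb48 zb55) (kb xb3 yb36 zb1) (kb xb3 yb36 zb2) (kb xb0 yb51 zb17) (kb xb0 yb51 zb16) (kb xb3 yb43 zb48) (kb xb3 yb43 zb49)) (@D3.rec (fun _ => Pt) (kb xb0 yb51 zb18) (kb xb3 yb43 zb57) (kb xb3 yb43 zb58) (kb xb0 yb51 zb19) (kb xb3 yb10 zb6) (kb xb3 yb44 zb3) (kb xb3 yb44 zb6) (kb xb3 yb44 zb8) (kb xb3 yb44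 zb10) (kb xb1 yb47 zb41) (kb xb3 yb44 zb16) (kb xb3 yb44 zb19) (kb xb1 yb47 zb44) (kb xb0 yb51 zb22) (kb xb3 yb44 zb27) (kb xb3 yb44 zb25) (kb xb0 yb51 zb23) (kb xb3 yb44 zb31) (kb xb3 yb44 zb30) (kb xb1 yb6 zb7) (kb xb0 yb51 zb28) (kb xb3 yb44 zb36) (kb xb3 yb39 zb14) (kb xb1 yb49 zb23) (kb xb1 yb49 zb24) (kb xb3 yb44 zb42) (kb xb1 yb37 zb51) (kb xb1 yb46 zb34) (kb xb3 yb29 zb30) (kb xb0 yb51 zb35) (kb xb3 yb44 zb49) (kb xb3 yb44 zb48) (kb xb1 yb42 zb47) (kb xb0 yb51 zb37) (kb xb1 yb33 zb50) (kb xb3 yb44 zb57) (kb xb1 yb47 zb18) (kb xb3 yb45 zb1) (kb xb0 yb51 zb57) (kb xb3 yb45 zb4) (kb xb1 yb46 zb58) (kb xb1 yb46 zb61) (kb xb3 yb45 zb9) (kb xb2 yb18 zb5) (kb xb3 yb12 zb14) (kb xb3 yb45 zb13) (kb xb0 yb51 zb48) (kb xb0 yb51 zb49) (kb xb0 yb51 zb50) (kb xb3 yb45 zb18)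 (kb xb3 yb25 zb15) (kb xb3 yb45 zb23) (kb xb1 yb31 zb40) (kb xb0 yb51 zb47) (kb xb3 yb45 zb32) (kb xb3 yb13 zb8) (kb xb3 yb45 zb17) (kb xb0 yb51 zb51) (kb xb3 yb45 zb41) (kb xb3 yb45 zb42) (kb xb0 yb51 zb52) (kb xb3 yb45 zb47)) (@D3.rec (fun _ => Pt) (kb xb3 yb45 zb48) (kb xb3 yb45 zb52) (kb xb3 yb29 zb39) (kb xb0 yb51 zb55) (kb xb3 yb45 zb59) (kb xb3 yb45 zb61) (kb xb3 yb19 zb48) (kb xb3 yb46 zb5) (kb xb3 yb46 zb8) (kb xb3 yb45 zb57) (kb xb3 yb45 zb58) (kb xb3 yb46 zb15) (kb xb1 yb50 zb12) (kb xb1 yb50 zb13) (kb xb3 yb29 zb17) (kb xb0 yb51 zb60) (kb xb3 yb46 zb22) (kb xb3 yb46 zb23) (kb xb3 yb32 zb7) (kb xb1 yb42 zb37) (kb xb3 yb46 zb28) (kb xb0 yb52 zb2) (kb xb3 yb46 zb30) (kb xb1 yb33 zb14) (kb xb3 yb46 zb32) (kb xb1 yb39 zb27) (kb xb3 yb15 zb3) (kb xb0 yb52 zb8)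 (kb xb0 yb52 zb9) (kb xb3 yb46 zb41) (kb xb3 yb46 zb49) (kb xb3 yb46 zb52) (kb xb3 yb46 zb44) (kb xb3 yb46 zb57) (kb xb1 yb50 zb34) (kb xb0 yb52 zb13) (kb xb3 yb46 zb59) (kb xb0 yb52 zb12) (kb xb3 yb47 zb1) (kb xb3 yb47 zb2) (kb xb1 yb50 zb40) (kb xb0 yb52 zb16) (kb xb0 yb52 zb15) (kb xb1 yb34 zb3) (kb xb3 yb47 zb10) (kb xb0 yb52 zb17) (kb xb2 yb51 zb51) (kb xb3 yb47 zb18) (kb xb0 yb52 zb18) (kb xb3 yb47 zb25) (kb xb3 yb47 zb26) (kb xb3 yb47 zb29) (kb xb3 yb47 zb33) (kb xb0 yb52 zb54) (kb xb0 yb52 zb20) (kb xb0 yb52 zb21) (kb xb3 yb47 zb42) (kb xb3 yb47 zb51) (kb xb3 yb47 zb54) (kb xb3 yb47 zb45) (kb xb3 yb47 zb46) (kb xb0 yb52 zb22)) (@D3.rec (fun _ => Pt) (kb xb3 yb48 zb2) (kb xb3 yb48 zb0) (kb xb0 yb52 zb23) (kb xb3 yb48 zb6) (kb xb3 yb48 zb5) (kb xb3 yb35 zb35)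 (kb xb0 yb52 zb26) (kb xb2 yb20 zb1) (kb xb3 yb48 zb13) (kb xb1 yb53 zb37) (kb xb3 yb48 zb17) (kb xb0 yb52 zb35) (kb xb0 yb52 zb28) (kb xb3 yb48 zb23) (kb xb0 yb52 zb29) (kb xb3 yb48 zb28) (kb xb3 yb48 zb30) (kb xb3 yb47 zb0) (kb xb0 yb52 zb31) (kb xb0 yb52 zb32) (kb xb3 yb48 zb38) (kb xb3 yb48 zb40) (kb xb3 yb48 zb33) (kb xb3 yb48 zb46) (kb xb3 yb48 zb49) (kb xb3 yb48 zb36) (kb xb3 yb48 zb37) (kb xb3 yb48 zb56) (kb xb1 yb51 zb28) (kb xb1 yb51 zb29) (kb xb1 yb45 zb53) (kb xb0 yb53 zb34) (kb xb0 yb53 zb35) (kb xb3 yb42 zb25) (kb xb0 yb52 zb37) (kb xb3 yb49 zb7) (kb xb3 yb49 zb8) (kb xb3 yb49 zb11) (kb xb1 yb54 zb2) (kb xb0 yb52 zb43) (kb xb0 yb52 zb44) (kb xb3 yb49 zb17) (kb xb1 yb39 zb55) (kb xb3 yb19 zb49) (kb xb0 yb52 zb40) (kb xb0 yb52 zb41) (kb xb3 yb49 zb25) (kb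 xb3 yb49 zb34) (kb xb3 yb49 zb37) (kb xb3 yb49 zb28) (kb xb3 yb49 zb29) (kb xb3 yb49 zb44) (kb xb1 yb51 zb52) (kb xb0 yb53 zb48) (kb xb1 yb51 zb54) (kb xb3 yb49 zb52) (kb xb3 yb49 zb16) (kb xb3 yb48 zb12) (kb xb3 yb49 zb58) (kb xb3 yb47 zb17) (kb xb1 yb47 zb0) (kb xb0 yb52 zb47)) (@D3.rec (fun _ => Pt) (kb xb0 yb52 zb48) (kb xb3 yb31 zb60) (kb xb3 yb50 zb13) (kb xb3 yb50 zb6) (kb xb3 yb50 zb9) (kb xb3 yb50 zb10) (kb xb3 yb50 zb22) (kb xb3 yb50 zb24) (kb xb3 yb47 zb24) (kb xb0 yb53 zb51) (kb xb0 yb52 zb51) (kb xb0 yb52 zb52) (kb xb0 yb53 zb52) (kb xb3 yb50 zb34) (kb xb3 yb50 zb37) (kb xb3 yb50 zb38) (kb xb0 yb52 zb53) (kb xb3 yb50 zb49) (kb xb3 yb50 zb50) (kb xb3 yb47 zb37) (kb xb3 yb47 zb38) (kb xb3 yb50 zb58) (kb xb3 yb50 zb61) (kb xb0 yb52 zb60) (kb xb3 yb51 zb5)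 (kb xb3 yb51 zb8) (kb xb0 yb53 zb2) (kb xb0 yb53 zb3) (kb xb0 yb52 zb57) (kb xb3 yb51 zb16) (kb xb0 yb52 zb58) (kb xb3 yb51 zb22) (kb xb0 yb52 zb59) (kb xb3 yb51 zb30) (kb xb3 yb51 zb35) (kb xb3 yb51 zb39) (kb xb3 yb51 zb3) (kb xb3 yb51 zb4) (kb xb1 yb40 zb17) (kb xb0 yb53 zb0) (kb xb3 yb51 zb57) (kb xb3 yb51 zb54) (kb xb3 yb51 zb55) (kb xb0 yb53 zb1) (kb xb1 yb39 zb51) (kb xb2 yb38 zb53) (kb xb3 yb52 zb7) (kb xb3 yb52 zb11) (kb xb3 yb52 zb15) (kb xb3 yb52 zb21) (kb xb3 yb51 zb13) (kb xb1 yb40 zb21) (kb xb3 yb52 zb26) (kb xb3 yb52 zb29) (kb xb1 yb40 zb20) (kb xb0 yb54 zb10) (kb xb3 yb39 zb12) (kb xb3 yb52 zb36) (kb xb0 yb53 zb7) (kb xb0 yb53 zb8) (kb xb3 yb52 zb45) (kb xb0 yb53 zb6)) (@D3.rec (fun _ => Pt) (kb xb3 yb52 zb49) (kb xb3 yb52 zb50) (kb xb1 yb53 zb2) (kb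 xb0 yb53 zb47) (kb xb3 yb52 zb61) (kb xb3 yb52 zb42) (kb xb0 yb54 zb4) (kb xb3 yb44 zb44) (kb xb3 yb53 zb4) (kb xb0 yb53 zb11) (kb xb0 yb53 zb12) (kb xb0 yb53 zb10) (kb xb3 yb53 zb15) (kb xb3 yb53 zb16) (kb xb3 yb53 zb22) (kb xb3 yb53 zb12) (kb xb0 yb54 zb0) (kb xb0 yb53 zb14) (kb xb3 yb53 zb26) (kb xb3 yb53 zb25) (kb xb0 yb53 zb15) (kb xb3 yb53 zb29) (kb xb3 yb53 zb31) (kb xb3 yb28 zb5) (kb xb0 yb53 zb18) (kb xb3 yb53 zb35) (kb xb3 yb9 zb6) (kb xb0 yb53 zb21) (kb xb3 yb53 zb41) (kb xb3 yb53 zb40) (kb xb3 yb53 zb44) (kb xb3 yb53 zb46) (kb xb0 yb53 zb22) (kb xb3 yb53 zb51) (kb xb0 yb53 zb23) (kb xb2 yb50 zb26) (kb xb3 yb53 zb55) (kb xb1 yb51 zb9) (kb xb3 yb33 zb54) (kb xb1 yb53 zb39) (kb xb0 yb53 zb25) (kb xb3 yb54 zb5) (kb xb0 yb53 zb26) (kb xb3 yb54 zb11) (kb xb3 yb54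 zb13) (kb xb1 yb54 zb10) (kb xb3 yb54 zb19) (kb xb3 yb54 zb22) (kb xb1 yb54 zb13) (kb xb1 yb54 zb14) (kb xb0 yb53 zb29) (kb xb3 yb54 zb31) (kb xb3 yb54 zb29) (kb xb3 yb53 zb11) (kb xb0 yb53 zb30) (kb xb3 yb54 zb39) (kb xb3 yb54 zb37) (kb xb3 yb54 zb38) (kb xb1 yb45 zb52) (kb xb0 yb53 zb33) (kb xb0 yb53 zb36) (kb xb3 yb54 zb48)) (@D3.rec (fun _ => Pt) (kb xb3 yb54 zb49) (kb xb3 yb47 zb8) (kb xb1 yb51 zb38) (kb xb1 yb54 zb3) (kb xb1 yb54 zb4) (kb xb0 yb53 zb38) (kb xb3 yb54 zb61) (kb xb0 yb53 zb39) (kb xb3 yb55 zb4) (kb xb3 yb55 zb7) (kb xb1 yb53 zb45) (kb xb3 yb55 zb13) (kb xb3 yb55 zb15) (kb xb1 yb53 zb48) (kb xb1 yb53 zb49) (kb xb0 yb53 zb42) (kb xb3 yb55 zb23) (kb xb0 yb53 zb43) (kb xb3 yb55 zb25) (kb xb3 yb52 zb43) (kb xb3 yb55 zb28) (kb xb3 yb55 zb30) (kb xb3 yb41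 zb61) (kb xb0 yb53 zb50) (kb xb1 yb44 zb16) (kb xb0 yb53 zb49) (kb xb3 yb33 zb29) (kb xb3 yb50 zb30) (kb xb3 yb50 zb31) (kb xb0 yb53 zb55) (kb xb0 yb53 zb54) (kb xb3 yb55 zb46) (kb xb3 yb55 zb47) (kb xb3 yb32 zb61) (kb xb1 yb54 zb34) (kb xb1 yb54 zb35) (kb xb0 yb53 zb57) (kb xb3 yb55 zb56) (kb xb3 yb55 zb54) (kb xb0 yb53 zb58) (kb xb3 yb55 zb59) (kb xb3 yb55 zb61) (kb xb1 yb54 zb56) (kb xb0 yb54 zb3) (kb xb1 yb40 zb37) (kb xb1 yb40 zb42) (kb xb0 yb54 zb2) (kb xb3 yb56 zb7) (kb xb3 yb56 zb9) (kb xb1 yb54 zb49) (kb xb1 yb54 zb50) (kb xb3 yb56 zb13) (kb xb0 yb54 zb6) (kb xb3 yb56 zb16) (kb xb3 yb56 zb3) (kb xb3 yb53 zb8) (kb xb1 yb54 zb42) (kb xb3 yb49 zb12) (kb xb3 yb52 zb39) (kb xb3 yb56 zb29) (kb xb3 yb56 zb31) (kb xb1 yb54 zb61)) (@D3.rec (fun _ => Pt) (kb xb3 yb56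 zb34) (kb xb0 yb54 zb12) (kb xb3 yb56 zb36) (kb xb1 yb42 zb39) (kb xb0 yb54 zb15) (kb xb1 yb8 zb35) (kb xb3 yb42 zb0) (kb xb0 yb54 zb18) (kb xb3 yb56 zb50) (kb xb1 yb55 zb9) (kb xb1 yb24 zb53) (kb xb0 yb58 zb11) (kb xb0 yb54 zb21) (kb xb3 yb56 zb56) (kb xb3 yb56 zb57) (kb xb2 yb5 zb4) (kb xb2 yb5 zb5) (kb xb3 yb57 zb2) (kb xb2 yb5 zb7) (kb xb3 yb57 zb7) (kb xb2 yb5 zb58) (kb xb0 yb54 zb25) (kb xb3 yb57 zb12) (kb xb3 yb57 zb13) (kb xb3 yb57 zb17) (kb xb1 yb56 zb42) (kb xb1 yb56 zb43) (kb xb3 yb57 zb20) (kb xb1 yb56 zb45) (kb xb3 yb57 zb23) (kb xb2 yb13 zb18) (kb xb0 yb54 zb29) (kb xb3 yb57 zb30) (kb xb3 yb57 zb31) (kb xb0 yb54 zb31) (kb xb3 yb57 zb39) (kb xb1 yb42 zb52) (kb xb0 yb54 zb33) (kb xb3 yb57 zb44) (kb xb0 yb54 zb34) (kb xb3 yb57 zb48) (kb xb3 yb38 zb35) (kb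 xb3 yb57 zb51) (kb xb3 yb57 zb54) (kb xb1 yb2 zb13) (kb xb0 yb54 zb36) (kb xb3 yb57 zb61) (kb xb2 yb4 zb8) (kb xb2 yb25 zb1) (kb xb2 yb1 zb8) (kb xb0 yb57 zb52) (kb xb1 yb9 zb58) (kb xb1 yb9 zb51) (kb xb1 yb9 zb52) (kb xb0 yb54 zb41) (kb xb2 yb4 zb21) (kb xb3 yb58 zb12) (kb xb3 yb58 zb13) (kb xb0 yb54 zb42) (kb xb3 yb58 zb20) (kb xb3 yb58 zb21) (kb xb3 yb58 zb24)) (@D3.rec (fun _ => Pt) (kb xb3 yb58 zb27) (kb xb3 yb58 zb32) (kb xb0 yb54 zb48) (kb xb0 yb54 zb45) (kb xb3 yb58 zb37) (kb xb2 yb4 zb44) (kb xb0 yb54 zb47) (kb xb3 yb58 zb47) (kb xb3 yb58 zb35) (kb xb0 yb54 zb49) (kb xb3 yb58 zb51) (kb xb3 yb58 zb52) (kb xb0 yb54 zb54) (kb xb0 yb54 zb57) (kb xb3 yb58 zb58) (kb xb3 yb59 zb1) (kb xb1 yb10 zb35) (kb xb0 yb54 zb59) (kb xb0 yb54 zb60) (kb xb3 yb59 zb11) (kb xb3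 yb59 zb9) (kb xb3 yb59 zb10) (kb xb0 yb54 zb61) (kb xb3 yb59 zb21) (kb xb3 yb59 zb17) (kb xb3 yb59 zb18) (kb xb0 yb55 zb0) (kb xb3 yb59 zb31) (kb xb3 yb59 zb29) (kb xb3 yb59 zb30) (kb xb1 yb10 zb57) (kb xb3 yb59 zb41) (kb xb3 yb59 zb44) (kb xb1 yb38 zb10) (kb xb0 yb55 zb3) (kb xb3 yb59 zb53) (kb xb3 yb59 zb56) (kb xb3 yb59 zb52) (kb xb1 yb56 zb38) (kb xb1 yb56 zb39) (kb xb1 yb1 zb0) (kb xb3 yb59 zb59) (kb xb1 yb55 zb25) (kb xb1 yb55 zb26) (kb xb1 yb0 zb33) (kb xb1 yb55 zb28) (kb xb0 yb55 zb10) (kb xb4 yb0 zb1) (kb xb4 yb0 zb2) (kb xb2 yb15 zb31) (kb xb4 yb0 zb7) (kb xb1 yb57 zb10) (kb xb0 yb55 zb13) (kb xb4 yb0 zb10) (kb xb4 yb0 zb14) (kb xb4 yb0 zb16) (kb xb4 yb0 zb18) (kb xb2 yb23 zb19) (kb xb4 yb0 zb22) (kb xb1 yb1 zb41) (kb xb0 yb55 zb19) (kb xb4 yb0 zb28)) (@D3.rec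 (fun _ => Pt) (kb xb4 yb0 zb29) (kb xb1 yb57 zb1) (kb xb0 yb55 zb21) (kb xb4 yb0 zb37) (kb xb1 yb57 zb4) (kb xb1 yb1 zb59) (kb xb1 yb57 zb6) (kb xb1 yb2 zb5) (kb xb3 yb3 zb26) (kb xb4 yb0 zb44) (kb xb1 yb56 zb51) (kb xb0 yb55 zb25) (kb xb0 yb55 zb26) (kb xb4 yb0 zb52) (kb xb4 yb0 zb51) (kb xb4 yb0 zb53) (kb xb1 yb2 zb22) (kb xb0 yb55 zb30) (kb xb1 yb24 zb59) (kb xb2 yb8 zb0) (kb xb2 yb8 zb1) (kb xb4 yb1 zb4) (kb xb1 yb2 zb39) (kb xb4 yb1 zb9) (kb xb2 yb37 zb46) (kb xb2 yb46 zb28) (kb xb1 yb9 zb8) (kb xb1 yb57 zb27) (kb xb1 yb9 zb17) (kb xb2 yb36 zb14) (kb xb2 yb36 zb15) (kb xb1 yb57 zb31) (kb xb1 yb12 zb47) (kb xb3 yb39 zb32) (kb xb1 yb59 zb30) (kb xb2 yb35 zb16) (kb xb2 yb11 zb28) (kb xb4 yb1 zb21) (kb xb0 yb57 zb1) (kb xb4 yb1 zb23) (kb xb4 yb1 zb25) (kb xb0 yb57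 zb5) (kb xb4 yb1 zb28) (kb xb4 yb1 zb30) (kb xb0 yb55 zb44) (kb xb4 yb1 zb33) (kb xb2 yb24 zb44) (kb xb0 yb55 zb46) (kb xb4 yb1 zb39) (kb xb2 yb58 zb59) (kb xb2 yb58 zb60) (kb xb4 yb1 zb46) (kb xb4 yb1 zb49) (kb xb4 yb1 zb54) (kb xb2 yb28 zb11) (kb xb1 yb14 zb48) (kb xb1 yb14 zb49) (kb xb1 yb12 zb45) (kb xb1 yb57 zb58) (kb xb3 yb57 zb53) (kb xb0 yb57 zb29) (kb xb2 yb36 zb8)) (@D3.rec (fun _ => Pt) (kb xb2 yb36 zb9) (kb xb4 yb2 zb6) (kb xb1 yb13 zb36) (kb xb2 yb59 zb59) (kb xb4 yb2 zb9) (kb xb2 yb4 zb4) (kb xb4 yb2 zb12) (kb xb3 yb0 zb0) (kb xb0 yb55 zb58) (kb xb4 yb2 zb19) (kb xb4 yb2 zb20) (kb xb1 yb58 zb11) (kb xb2 yb36 zb16) (kb xb2 yb5 zb15) (kb xb4 yb2 zb29) (kb xb2 yb10 zb57) (kb xb2 yb10 zb45) (kb xb1 yb15 zb8) (kb xb1 yb15 zb9) (kb xb1 yb14 zb53) (kb xb2 yb36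 zb11) (kb xb4 yb2 zb39) (kb xb2 yb37 zb18) (kb xb3 yb57 zb11) (kb xb1 yb16 zb49) (kb xb1 yb16 zb50) (kb xb1 yb17 zb33) (kb xb4 yb2 zb53) (kb xb0 yb56 zb19) (kb xb2 yb58 zb23) (kb xb1 yb16 zb18) (kb xb0 yb56 zb7) (kb xb4 yb3 zb1) (kb xb4 yb3 zb2) (kb xb2 yb58 zb25) (kb xb2 yb37 zb54) (kb xb4 yb3 zb15) (kb xb2 yb1 zb14) (kb xb0 yb56 zb11) (kb xb0 yb56 zb12) (kb xb2 yb37 zb49) (kb xb1 yb17 zb17) (kb xb4 yb3 zb28) (kb xb4 yb3 zb21) (kb xb2 yb41 zb25) (kb xb1 yb15 zb47) (kb xb4 yb3 zb23) (kb xb1 yb2 zb49) (kb xb1 yb2 zb30) (kb xb0 yb56 zb14) (kb xb0 yb56 zb15) (kb xb4 yb3 zb46) (kb xb4 yb3 zb41) (kb xb1 yb17 zb21) (kb xb4 yb3 zb44) (kb xb4 yb3 zb45) (kb xb0 yb56 zb16) (kb xb4 yb3 zb55) (kb xb4 yb3 zb54) (kb xb0 yb56 zb17) (kb xb4 yb4 zb2) (kb xb4 yb4 zb1)) (@D3.rec (fun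 _ => Pt) (kb xb4 yb4 zb7) (kb xb4 yb4 zb9) (kb xb0 yb56 zb18) (kb xb4 yb4 zb14) (kb xb4 yb4 zb15) (kb xb4 yb2 zb56) (kb xb2 yb41 zb9) (kb xb4 yb4 zb22) (kb xb4 yb4 zb25) (kb xb1 yb3 zb10) (kb xb4 yb4 zb31) (kb xb0 yb56 zb53) (kb xb1 yb3 zb11) (kb xb4 yb4 zb34) (kb xb2 yb41 zb10) (kb xb0 yb58 zb46) (kb xb0 yb58 zb51) (kb xb4 yb1 zb15) (kb xb0 yb56 zb29) (kb xb0 yb56 zb30) (kb xb4 yb4 zb39) (kb xb4 yb4 zb37) (kb xb4 yb4 zb45) (kb xb2 yb23 zb24) (kb xb4 yb4 zb38) (kb xb0 yb56 zb31) (kb xb2 yb25 zb49) (kb xb4 yb4 zb48) (kb xb0 yb56 zb59) (kb xb4 yb4 zb50) (kb xb1 yb57 zb34) (kb xb4 yb4 zb51) (kb xb0 yb57 zb32) (kb xb0 yb56 zb41) (kb xb4 yb4 zb55) (kb xb4 yb4 zb56) (kb xb0 yb56 zb45) (kb xb2 yb1 zb5) (kb xb4 yb4 zb60) (kb xb2 yb34 zb16) (kb xb1 yb14 zb16) (kb xb2 yb0 zb34)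 (kb xb2 yb0 zb27) (kb xb2 yb0 zb28) (kb xb0 yb56 zb48) (kb xb2 yb1 zb6) (kb xb4 yb5 zb7) (kb xb4 yb5 zb8) (kb xb0 yb56 zb49) (kb xb4 yb5 zb14) (kb xb2 yb40 zb24) (kb xb4 yb5 zb17) (kb xb4 yb5 zb20) (kb xb3 yb21 zb7) (kb xb0 yb56 zb55) (kb xb0 yb56 zb52) (kb xb4 yb5 zb28) (kb xb4 yb4 zb29) (kb xb0 yb56 zb54) (kb xb3 yb2 zb52) (kb xb3 yb24 zb8) (kb xb4 yb5 zb27))
def f_b_2 : D2 → D3 → Pt := @D2.rec (fun _ => D3 → Pt) (@D3.rec (fun _ => Pt) (kb xb0 yb57 zb26) (kb xb4 yb5 zb35) (kb xb0 yb56 zb61) (kb xb0 yb56 zb60) (kb xb4 yb5 zb36) (kb xb1 yb4 zb50) (kb xb0 yb57 zb0) (kb xb4 yb5 zb41) (kb xb0 yb57 zb3) (kb xb4 yb5 zb43) (kb xb0 yb57 zb4) (kb xb4 yb5 zb44) (kb xb4 yb5 zb45) (kb xb4 yb5 zb49) (kb xb4 yb5 zb54) (kb xb2 yb0 zb60) (kb xb0 yb57 zb7) (kb xb0 yb57 zb8) (kb xb4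 yb6 zb2) (kb xb4 yb6 zb0) (kb xb4 yb6 zb1) (kb xb0 yb57 zb11) (kb xb1 yb14 zb9) (kb xb4 yb6 zb8) (kb xb2 yb35 zb20) (kb xb1 yb14 zb44) (kb xb2 yb23 zb3) (kb xb1 yb59 zb42) (kb xb1 yb59 zb43) (kb xb0 yb57 zb14) (kb xb2 yb34 zb21) (kb xb4 yb6 zb17) (kb xb4 yb6 zb18) (kb xb0 yb57 zb15) (kb xb1 yb59 zb41) (kb xb4 yb6 zb26) (kb xb4 yb6 zb27) (kb xb4 yb6 zb32) (kb xb4 yb6 zb35) (kb xb4 yb6 zb40) (kb xb0 yb57 zb25) (kb xb0 yb57 zb19) (kb xb4 yb6 zb23) (kb xb4 yb6 zb46) (kb xb4 yb6 zb45) (kb xb0 yb57 zb21) (kb xb0 yb57 zb22) (kb xb4 yb6 zb52) (kb xb4 yb6 zb51) (kb xb0 yb57 zb23) (kb xb4 yb6 zb55) (kb xb0 yb57 zb24) (kb xb4 yb7 zb0) (kb xb4 yb7 zb1) (kb xb4 yb6 zb43) (kb xb0 yb57 zb28) (kb xb2 yb15 zb34) (kb xb0 yb57 zb30) (kb xb4 yb7 zb8) (kb xb4 yb7 zb11) (kb xb2 yb0 zb15)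 (kb xb0 yb57 zb34)) (@D3.rec (fun _ => Pt) (kb xb0 yb57 zb35) (kb xb4 yb7 zb21) (kb xb4 yb7 zb23) (kb xb4 yb7 zb19) (kb xb4 yb7 zb20) (kb xb1 yb59 zb37) (kb xb1 yb59 zb45) (kb xb1 yb11 zb17) (kb xb1 yb55 zb49) (kb xb1 yb11 zb37) (kb xb2 yb4 zb50) (kb xb2 yb4 zb51) (kb xb2 yb4 zb52) (kb xb4 yb7 zb43) (kb xb1 yb58 zb37) (kb xb1 yb15 zb22) (kb xb0 yb57 zb45) (kb xb0 yb57 zb46) (kb xb2 yb24 zb52) (kb xb2 yb24 zb56) (kb xb2 yb24 zb57) (kb xb2 yb4 zb58) (kb xb2 yb4 zb59) (kb xb2 yb4 zb60) (kb xb4 yb8 zb4) (kb xb4 yb7 zb52) (kb xb0 yb57 zb47) (kb xb1 yb9 zb54) (kb xb4 yb8 zb8) (kb xb4 yb8 zb9) (kb xb2 yb23 zb32) (kb xb2 yb23 zb33) (kb xb4 yb8 zb17) (kb xb3 yb56 zb53) (kb xb4 yb8 zb24) (kb xb2 yb5 zb9) (kb xb0 yb57 zb53) (kb xb0 yb57 zb54) (kb xb2 yb3 zb19) (kb xb3 yb58 zb6)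 (kb xb2 yb29 zb3) (kb xb2 yb5 zb10) (kb xb0 yb58 zb6) (kb xb4 yb8 zb44) (kb xb4 yb8 zb30) (kb xb0 yb58 zb9) (kb xb2 yb36 zb31) (kb xb4 yb3 zb5) (kb xb0 yb58 zb1) (kb xb1 yb1 zb14) (kb xb1 yb9 zb50) (kb xb0 yb57 zb57) (kb xb0 yb57 zb58) (kb xb0 yb57 zb56) (kb xb4 yb9 zb0) (kb xb4 yb9 zb1) (kb xb4 yb9 zb7) (kb xb4 yb8 zb60) (kb xb4 yb3 zb39) (kb xb4 yb8 zb61) (kb xb0 yb57 zb59) (kb xb4 yb9 zb20)) (@D3.rec (fun _ => Pt) (kb xb4 yb9 zb16) (kb xb4 yb9 zb17) (kb xb0 yb57 zb60) (kb xb4 yb9 zb32) (kb xb4 yb3 zb43) (kb xb4 yb9 zb31) (kb xb4 yb9 zb40) (kb xb4 yb9 zb44) (kb xb0 yb57 zb61) (kb xb4 yb9 zb50) (kb xb4 yb9 zb51) (kb xb0 yb58 zb30) (kb xb4 yb8 zb52) (kb xb2 yb5 zb39) (kb xb2 yb5 zb40) (kb xb1 yb18 zb10) (kb xb1 yb9 zb5) (kb xb1 yb9 zb6) (kb xb4 yb8 zb58) (kb xb3 yb56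 zb58) (kb xb4 yb10 zb17) (kb xb0 yb58 zb8) (kb xb4 yb7 zb48) (kb xb2 yb3 zb15) (kb xb0 yb58 zb10) (kb xb4 yb10 zb23) (kb xb4 yb8 zb41) (kb xb4 yb10 zb25) (kb xb0 yb58 zb7) (kb xb4 yb10 zb30) (kb xb4 yb10 zb34) (kb xb4 yb8 zb48) (kb xb4 yb10 zb22) (kb xb0 yb59 zb50) (kb xb3 yb56 zb55) (kb xb2 yb5 zb59) (kb xb2 yb5 zb60) (kb xb4 yb10 zb41) (kb xb4 yb10 zb46) (kb xb0 yb58 zb16) (kb xb0 yb58 zb17) (kb xb0 yb58 zb18) (kb xb0 yb58 zb15) (kb xb3 yb17 zb26) (kb xb4 yb9 zb10) (kb xb4 yb10 zb50) (kb xb4 yb10 zb51) (kb xb4 yb11 zb0) (kb xb2 yb6 zb10) (kb xb4 yb11 zb5) (kb xb0 yb58 zb21) (kb xb0 yb58 zb20) (kb xb4 yb11 zb15) (kb xb4 yb11 zb20) (kb xb4 yb9 zb26) (kb xb4 yb11 zb10) (kb xb4 yb11 zb11) (kb xb2 yb6 zb18) (kb xb4 yb11 zb28) (kb xb0 yb58 zb24) (kb xb0 yb58 zb23) (kb xb4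 yb11 zb37)) (@D3.rec (fun _ => Pt) (kb xb4 yb9 zb36) (kb xb4 yb11 zb41) (kb xb4 yb11 zb33) (kb xb0 yb58 zb25) (kb xb3 yb6 zb45) (kb xb4 yb11 zb48) (kb xb4 yb11 zb53) (kb xb2 yb6 zb32) (kb xb0 yb58 zb28) (kb xb0 yb58 zb29) (kb xb4 yb11 zb61) (kb xb4 yb12 zb0) (kb xb4 yb12 zb3) (kb xb4 yb12 zb7) (kb xb0 yb58 zb32) (kb xb2 yb2 zb23) (kb xb4 yb12 zb8) (kb xb2 yb30 zb59) (kb xb0 yb58 zb38) (kb xb2 yb1 zb38) (kb xb4 yb12 zb10) (kb xb2 yb6 zb37) (kb xb2 yb6 zb38) (kb xb4 yb12 zb18) (kb xb4 yb12 zb21) (kb xb4 yb12 zb26) (kb xb0 yb58 zb45) (kb xb4 yb6 zb29) (kb xb4 yb12 zb33) (kb xb0 yb58 zb47) (kb xb0 yb58 zb42) (kb xb4 yb12 zb37) (kb xb4 yb12 zb36) (kb xb0 yb58 zb43) (kb xb4 yb12 zb44) (kb xb4 yb12 zb43) (kb xb0 yb58 zb44) (kb xb1 yb6 zb56) (kb xb4 yb12 zb48) (kb xb4 yb12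 zb50) (kb xb4 yb12 zb31) (kb xb0 yb58 zb49) (kb xb4 yb12 zb53) (kb xb2 yb6 zb57) (kb xb0 yb58 zb52) (kb xb4 yb12 zb55) (kb xb2 yb7 zb7) (kb xb2 yb7 zb8) (kb xb4 yb13 zb0) (kb xb4 yb13 zb3) (kb xb4 yb13 zb8) (kb xb0 yb58 zb57) (kb xb4 yb13 zb13) (kb xb2 yb35 zb23) (kb xb0 yb58 zb59) (kb xb0 yb58 zb56) (kb xb3 yb24 zb15) (kb xb4 yb13 zb20) (kb xb4 yb13 zb12) (kb xb4 yb8 zb56) (kb xb4 yb13 zb22) (kb xb2 yb7 zb24)) (@D3.rec (fun _ => Pt) (kb xb0 yb59 zb10) (kb xb0 yb59 zb1) (kb xb4 yb13 zb26) (kb xb4 yb13 zb27) (kb xb1 yb58 zb5) (kb xb0 yb59 zb4) (kb xb4 yb13 zb31) (kb xb4 yb13 zb32) (kb xb1 yb55 zb47) (kb xb2 yb24 zb55) (kb xb1 yb9 zb47) (kb xb1 yb9 zb48) (kb xb0 yb59 zb9) (kb xb2 yb25 zb0) (kb xb4 yb13 zb42) (kb xb4 yb13 zb43) (kb xb2 yb8 zb4) (kb xb4 yb13 zb24) (kb xb2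 yb25 zb17) (kb xb0 yb59 zb17) (kb xb0 yb59 zb18) (kb xb1 yb55 zb55) (kb xb2 yb25 zb8) (kb xb2 yb25 zb9) (kb xb0 yb59 zb13) (kb xb1 yb8 zb44) (kb xb4 yb14 zb2) (kb xb4 yb14 zb3) (kb xb2 yb25 zb11) (kb xb4 yb14 zb11) (kb xb4 yb14 zb15) (kb xb0 yb59 zb24) (kb xb2 yb7 zb26) (kb xb2 yb7 zb27) (kb xb4 yb14 zb23) (kb xb4 yb13 zb57) (kb xb4 yb14 zb27) (kb xb2 yb43 zb36) (kb xb2 yb23 zb8) (kb xb2 yb43 zb38) (kb xb0 yb59 zb21) (kb xb4 yb14 zb36) (kb xb4 yb14 zb35) (kb xb2 yb42 zb54) (kb xb1 yb56 zb5) (kb xb0 yb59 zb23) (kb xb4 yb14 zb49) (kb xb4 yb14 zb50) (kb xb4 yb14 zb18) (kb xb0 yb59 zb25) (kb xb2 yb1 zb10) (kb xb2 yb1 zb11) (kb xb2 yb1 zb12) (kb xb4 yb14 zb61) (kb xb2 yb7 zb55) (kb xb1 yb14 zb37) (kb xb0 yb59 zb34) (kb xb0 yb59 zb35) (kb xb2 yb1 zb21) (kb xb2 yb1 zb22) (kb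 xb2 yb1 zb23) (kb xb4 yb15 zb15)) (@D3.rec (fun _ => Pt) (kb xb4 yb15 zb6) (kb xb0 yb59 zb36) (kb xb4 yb15 zb19) (kb xb4 yb15 zb20) (kb xb1 yb55 zb15) (kb xb1 yb55 zb16) (kb xb4 yb15 zb26) (kb xb1 yb55 zb18) (kb xb4 yb15 zb33) (kb xb2 yb1 zb35) (kb xb2 yb1 zb41) (kb xb0 yb59 zb55) (kb xb4 yb15 zb43) (kb xb2 yb8 zb17) (kb xb0 yb59 zb58) (kb xb1 yb58 zb13) (kb xb2 yb8 zb19) (kb xb1 yb17 zb11) (kb xb0 yb59 zb44) (kb xb0 yb59 zb45) (kb xb1 yb17 zb12) (kb xb1 yb17 zb13) (kb xb4 yb15 zb59) (kb xb4 yb15 zb55) (kb xb1 yb0 zb4) (kb xb4 yb15 zb56) (kb xb4 yb16 zb5) (kb xb2 yb8 zb25) (kb xb0 yb59 zb47) (kb xb4 yb16 zb14) (kb xb4 yb16 zb13) (kb xb4 yb16 zb21) (kb xb4 yb16 zb25) (kb xb0 yb59 zb48) (kb xb4 yb16 zb32) (kb xb4 yb11 zb60) (kb xb1 yb0 zb15) (kb xb1 yb1 zb16) (kb xb4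 yb10 zb36) (kb xb2 yb2 zb13) (kb xb2 yb2 zb14) (kb xb2 yb38 zb22) (kb xb4 yb16 zb48) (kb xb4 yb16 zb53) (kb xb0 yb59 zb57) (kb xb2 yb58 zb36) (kb xb4 yb16 zb59) (kb xb0 yb59 zb59) (kb xb0 yb59 zb54) (kb xb4 yb17 zb1) (kb xb4 yb17 zb0) (kb xb4 yb17 zb5) (kb xb4 yb15 zb40) (kb xb0 yb59 zb56) (kb xb1 yb35 zb55) (kb xb4 yb17 zb10) (kb xb4 yb15 zb47) (kb xb4 yb16 zb58) (kb xb1 yb55 zb20) (kb xb2 yb2 zb35) (kb xb2 yb2 zb36) (kb xb4 yb17 zb17)) (@D3.rec (fun _ => Pt) (kb xb2 yb7 zb2) (kb xb4 yb17 zb24) (kb xb1 yb0 zb3) (kb xb4 yb17 zb29) (kb xb1 yb0 zb32) (kb xb1 yb0 zb5) (kb xb1 yb0 zb2) (kb xb4 yb17 zb33) (kb xb4 yb16 zb0) (kb xb4 yb17 zb28) (kb xb2 yb2 zb48) (kb xb4 yb17 zb41) (kb xb1 yb0 zb8) (kb xb1 yb0 zb7) (kb xb4 yb17 zb50) (kb xb4 yb17 zb55) (kb xb4 yb16 zb9) (kb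 xb4 yb17 zb46) (kb xb2 yb2 zb57) (kb xb4 yb18 zb2) (kb xb1 yb0 zb11) (kb xb1 yb0 zb10) (kb xb1 yb35 zb56) (kb xb4 yb16 zb17) (kb xb4 yb18 zb14) (kb xb4 yb18 zb7) (kb xb1 yb0 zb12) (kb xb1 yb30 zb36) (kb xb1 yb0 zb13) (kb xb3 yb10 zb58) (kb xb4 yb18 zb23) (kb xb4 yb18 zb27) (kb xb2 yb3 zb7) (kb xb4 yb18 zb31) (kb xb1 yb0 zb16) (kb xb2 yb11 zb38) (kb xb4 yb18 zb35) (kb xb2 yb3 zb21) (kb xb2 yb3 zb22) (kb xb4 yb18 zb42) (kb xb2 yb41 zb3) (kb xb4 yb18 zb49) (kb xb1 yb0 zb22) (kb xb4 yb18 zb55) (kb xb4 yb18 zb57) (kb xb1 yb0 zb24) (kb xb1 yb0 zb20) (kb xb4 yb18 zb61) (kb xb1 yb0 zb21) (kb xb3 yb9 zb3) (kb xb4 yb19 zb1) (kb xb4 yb19 zb2) (kb xb4 yb18 zb54) (kb xb1 yb0 zb23) (kb xb2 yb41 zb12) (kb xb1 yb0 zb26) (kb xb4 yb19 zb6) (kb xb2 yb3 zb43) (kb xb1 yb0 zb28) (kb xb2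 yb37 zb40) (kb xb2 yb11 zb24) (kb xb4 yb19 zb11)) (@D3.rec (fun _ => Pt) (kb xb2 yb11 zb11) (kb xb4 yb19 zb17) (kb xb2 yb6 zb0) (kb xb2 yb11 zb12) (kb xb4 yb19 zb19) (kb xb1 yb3 zb20) (kb xb2 yb40 zb4) (kb xb2 yb3 zb46) (kb xb2 yb3 zb47) (kb xb4 yb19 zb27) (kb xb4 yb19 zb30) (kb xb4 yb19 zb35) (kb xb1 yb0 zb41) (kb xb4 yb19 zb41) (kb xb2 yb34 zb31) (kb xb1 yb0 zb42) (kb xb1 yb0 zb43) (kb xb1 yb0 zb40) (kb xb2 yb19 zb35) (kb xb4 yb19 zb45) (kb xb4 yb19 zb39) (kb xb4 yb19 zb40) (kb xb2 yb25 zb29) (kb xb4 yb19 zb50) (kb xb2 yb3 zb61) (kb xb1 yb0 zb45) (kb xb2 yb4 zb32) (kb xb2 yb4 zb33) (kb xb4 yb19 zb60) (kb xb2 yb35 zb30) (kb xb2 yb31 zb53) (kb xb4 yb20 zb4) (kb xb2 yb33 zb54) (kb xb4 yb20 zb7) (kb xb1 yb0 zb52) (kb xb4 yb20 zb13) (kb xb4 yb20 zb14) (kb xb1 yb0 zb56)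 (kb xb1 yb0 zb57) (kb xb2 yb23 zb6) (kb xb2 yb23 zb7) (kb xb4 yb20 zb26) (kb xb4 yb20 zb22) (kb xb1 yb15 zb44) (kb xb1 yb15 zb45) (kb xb3 yb4 zb11) (kb xb4 yb2 zb0) (kb xb4 yb20 zb35) (kb xb1 yb0 zb61) (kb xb4 yb20 zb39) (kb xb4 yb20 zb40) (kb xb1 yb14 zb7) (kb xb2 yb36 zb48) (kb xb4 yb10 zb9) (kb xb4 yb20 zb49) (kb xb2 yb4 zb54) (kb xb1 yb1 zb6) (kb xb1 yb1 zb7) (kb xb2 yb37 zb13) (kb xb4 yb7 zb49) (kb xb4 yb20 zb58) (kb xb4 yb20 zb54)) (@D3.rec (fun _ => Pt) (kb xb1 yb57 zb19) (kb xb1 yb57 zb20) (kb xb1 yb15 zb35) (kb xb1 yb1 zb15) (kb xb2 yb4 zb16) (kb xb2 yb23 zb22) (kb xb2 yb23 zb23) (kb xb3 yb56 zb52) (kb xb4 yb21 zb14) (kb xb1 yb1 zb25) (kb xb4 yb8 zb53) (kb xb4 yb8 zb54) (kb xb4 yb9 zb29) (kb xb4 yb21 zb25) (kb xb4 yb16 zb41) (kb xb4 yb8 zb57) (kb xb4 yb21 zb32)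 (kb xb2 yb5 zb13) (kb xb4 yb21 zb8) (kb xb2 yb5 zb16) (kb xb1 yb1 zb20) (kb xb1 yb1 zb21) (kb xb4 yb21 zb41) (kb xb4 yb21 zb40) (kb xb4 yb21 zb47) (kb xb2 yb5 zb27) (kb xb1 yb1 zb23) (kb xb4 yb21 zb56) (kb xb4 yb21 zb55) (kb xb4 yb22 zb0) (kb xb4 yb22 zb3) (kb xb1 yb1 zb24) (kb xb4 yb22 zb9) (kb xb4 yb22 zb10) (kb xb4 yb21 zb17) (kb xb1 yb1 zb27) (kb xb1 yb1 zb28) (kb xb4 yb22 zb22) (kb xb4 yb22 zb19) (kb xb4 yb22 zb21) (kb xb4 yb22 zb26) (kb xb1 yb27 zb59) (kb xb1 yb1 zb30) (kb xb4 yb22 zb32) (kb xb4 yb22 zb33) (kb xb1 yb3 zb19) (kb xb1 yb1 zb35) (kb xb1 yb1 zb36) (kb xb4 yb22 zb42) (kb xb4 yb22 zb41) (kb xb1 yb1 zb37) (kb xb4 yb22 zb49) (kb xb1 yb1 zb38) (kb xb4 yb22 zb54) (kb xb4 yb22 zb55) (kb xb1 yb10 zb27) (kb xb1 yb3 zb32) (kb xb1 yb28 zb30) (kb xb1 yb1 zb40)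 (kb xb4 yb23 zb4) (kb xb1 yb45 zb10) (kb xb1 yb3 zb37)) (@D3.rec (fun _ => Pt) (kb xb4 yb0 zb24) (kb xb2 yb46 zb53) (kb xb2 yb46 zb54) (kb xb1 yb1 zb43) (kb xb4 yb23 zb14) (kb xb1 yb45 zb22) (kb xb4 yb23 zb18) (kb xb4 yb23 zb23) (kb xb3 yb57 zb29) (kb xb1 yb1 zb45) (kb xb1 yb1 zb46) (kb xb4 yb23 zb34) (kb xb4 yb23 zb36) (kb xb4 yb23 zb38) (kb xb4 yb23 zb31) (kb xb4 yb23 zb32) (kb xb4 yb23 zb33) (kb xb1 yb1 zb48) (kb xb4 yb23 zb48) (kb xb4 yb23 zb49) (kb xb1 yb1 zb49) (kb xb4 yb23 zb52) (kb xb4 yb23 zb54) (kb xb4 yb23 zb56) (kb xb3 yb36 zb7) (kb xb1 yb1 zb51) (kb xb1 yb1 zb52) (kb xb4 yb24 zb0) (kb xb4 yb24 zb8) (kb xb1 yb28 zb16) (kb xb3 yb36 zb4) (kb xb4 yb24 zb3) (kb xb1 yb4 zb5) (kb xb1 yb4 zb6) (kb xb1 yb28 zb36) (kb xb4 yb24 zb14) (kb xb1 yb31 zb6) (kb xb1 yb1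 zb56) (kb xb1 yb1 zb57) (kb xb4 yb24 zb22) (kb xb4 yb23 zb47) (kb xb4 yb24 zb23) (kb xb3 yb35 zb47) (kb xb1 yb31 zb15) (kb xb4 yb24 zb33) (kb xb3 yb59 zb20) (kb xb3 yb57 zb43) (kb xb1 yb1 zb61) (kb xb4 yb24 zb37) (kb xb1 yb22 zb42) (kb xb4 yb24 zb42) (kb xb1 yb23 zb7) (kb xb1 yb2 zb1) (kb xb1 yb2 zb2) (kb xb4 yb24 zb49) (kb xb1 yb27 zb48) (kb xb4 yb24 zb59) (kb xb4 yb24 zb52) (kb xb4 yb24 zb53) (kb xb4 yb25 zb3) (kb xb4 yb25 zb5) (kb xb2 yb53 zb32)) (@D3.rec (fun _ => Pt) (kb xb2 yb53 zb35) (kb xb2 yb53 zb36) (kb xb4 yb25 zb13) (kb xb4 yb25 zb16) (kb xb2 yb15 zb11) (kb xb1 yb2 zb9) (kb xb1 yb2 zb10) (kb xb4 yb25 zb25) (kb xb4 yb25 zb28) (kb xb4 yb25 zb29) (kb xb3 yb3 zb16) (kb xb4 yb25 zb40) (kb xb1 yb2 zb11) (kb xb4 yb25 zb47) (kb xb4 yb25 zb44) (kb xb4 yb25 zb45)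 (kb xb4 yb0 zb45) (kb xb1 yb2 zb12) (kb xb1 yb10 zb52) (kb xb4 yb25 zb59) (kb xb4 yb25 zb60) (kb xb3 yb57 zb57) (kb xb4 yb26 zb10) (kb xb4 yb26 zb13) (kb xb4 yb26 zb18) (kb xb1 yb2 zb18) (kb xb1 yb2 zb19) (kb xb1 yb2 zb20) (kb xb1 yb2 zb16) (kb xb4 yb26 zb30) (kb xb1 yb2 zb17) (kb xb4 yb26 zb38) (kb xb4 yb26 zb43) (kb xb4 yb26 zb47) (kb xb4 yb26 zb24) (kb xb4 yb26 zb25) (kb xb2 yb57 zb50) (kb xb4 yb26 zb56) (kb xb4 yb26 zb27) (kb xb4 yb27 zb0) (kb xb1 yb27 zb42) (kb xb4 yb27 zb4) (kb xb3 yb3 zb55) (kb xb2 yb51 zb6) (kb xb1 yb14 zb11) (kb xb1 yb58 zb16) (kb xb1 yb2 zb25) (kb xb1 yb2 zb26) (kb xb1 yb15 zb10) (kb xb1 yb15 zb11) (kb xb1 yb15 zb12) (kb xb4 yb27 zb18) (kb xb4 yb27 zb11) (kb xb1 yb15 zb17) (kb xb1 yb15 zb18) (kb xb1 yb15 zb19) (kb xb4 yb27 zb28) (kb xb1 yb58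 zb15) (kb xb4 yb3 zb36) (kb xb4 yb3 zb37) (kb xb4 yb3 zb61) (kb xb4 yb27 zb38)) (@D3.rec (fun _ => Pt) (kb xb1 yb15 zb34) (kb xb1 yb2 zb34) (kb xb1 yb2 zb35) (kb xb1 yb15 zb57) (kb xb1 yb2 zb44) (kb xb4 yb27 zb52) (kb xb4 yb27 zb43) (kb xb1 yb2 zb47) (kb xb4 yb7 zb50) (kb xb4 yb27 zb45) (kb xb4 yb27 zb60) (kb xb2 yb7 zb0) (kb xb2 yb7 zb3) (kb xb1 yb2 zb38) (kb xb4 yb28 zb8) (kb xb4 yb28 zb5) (kb xb4 yb28 zb15) (kb xb4 yb1 zb8) (kb xb4 yb28 zb22) (kb xb4 yb28 zb26) (kb xb1 yb2 zb40) (kb xb4 yb28 zb33) (kb xb4 yb28 zb34) (kb xb1 yb3 zb3) (kb xb2 yb6 zb60) (kb xb2 yb37 zb50) (kb xb4 yb28 zb49) (kb xb1 yb2 zb46) (kb xb1 yb57 zb36) (kb xb2 yb37 zb53) (kb xb1 yb2 zb48) (kb xb4 yb28 zb55) (kb xb4 yb27 zb49) (kb xb1 yb2 zb45) (kb xb4 yb28 zb60) (kb xb4 yb28 zb61) (kb xb4 yb27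 zb56) (kb xb4 yb28 zb54) (kb xb2 yb6 zb35) (kb xb4 yb3 zb35) (kb xb4 yb29 zb4) (kb xb4 yb29 zb9) (kb xb1 yb2 zb53) (kb xb1 yb2 zb52) (kb xb4 yb29 zb18) (kb xb4 yb29 zb19) (kb xb4 yb28 zb1) (kb xb4 yb29 zb14) (kb xb4 yb29 zb26) (kb xb1 yb2 zb56) (kb xb1 yb2 zb55) (kb xb4 yb29 zb36) (kb xb4 yb29 zb37) (kb xb4 yb29 zb43) (kb xb4 yb28 zb12) (kb xb4 yb29 zb31) (kb xb4 yb29 zb32) (kb xb1 yb17 zb45) (kb xb4 yb29 zb50) (kb xb1 yb2 zb59) (kb xb1 yb2 zb58) (kb xb4 yb29 zb59)) (@D3.rec (fun _ => Pt) (kb xb4 yb29 zb60) (kb xb4 yb28 zb18) (kb xb4 yb30 zb2) (kb xb4 yb29 zb55) (kb xb1 yb2 zb60) (kb xb4 yb30 zb7) (kb xb4 yb30 zb8) (kb xb1 yb2 zb61) (kb xb4 yb30 zb16) (kb xb4 yb30 zb17) (kb xb4 yb30 zb21) (kb xb4 yb30 zb26) (kb xb1 yb18 zb0) (kb xb1 yb3 zb1) (kb xb1 yb3 zb2) (kb xb4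 yb30 zb36) (kb xb4 yb30 zb37) (kb xb4 yb30 zb34) (kb xb4 yb30 zb35) (kb xb4 yb30 zb45) (kb xb4 yb30 zb49) (kb xb1 yb3 zb8) (kb xb4 yb30 zb54) (kb xb1 yb3 zb9) (kb xb4 yb30 zb58) (kb xb4 yb30 zb59) (kb xb4 yb30 zb60) (kb xb4 yb4 zb30) (kb xb1 yb3 zb12) (kb xb1 yb3 zb13) (kb xb1 yb3 zb14) (kb xb1 yb3 zb16) (kb xb4 yb31 zb9) (kb xb4 yb31 zb13) (kb xb2 yb58 zb14) (kb xb4 yb31 zb14) (kb xb4 yb31 zb15) (kb xb4 yb19 zb21) (kb xb4 yb8 zb33) (kb xb4 yb31 zb20) (kb xb4 yb31 zb25) (kb xb1 yb3 zb24) (kb xb4 yb9 zb4) (kb xb4 yb19 zb43) (kb xb1 yb3 zb23) (kb xb4 yb31 zb34) (kb xb4 yb31 zb37) (kb xb4 yb31 zb39) (kb xb4 yb31 zb30) (kb xb4 yb31 zb40) (kb xb4 yb31 zb41) (kb xb1 yb19 zb21) (kb xb1 yb3 zb26) (kb xb4 yb25 zb52) (kb xb4 yb31 zb47) (kb xb4 yb31 zb48) (kb xb1 yb3 zb30) (kb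 xb4 yb31 zb50) (kb xb2 yb47 zb40) (kb xb1 yb19 zb59) (kb xb4 yb31 zb56) (kb xb4 yb31 zb57)) (@D3.rec (fun _ => Pt) (kb xb1 yb19 zb35) (kb xb1 yb3 zb35) (kb xb1 yb3 zb36) (kb xb4 yb32 zb0) (kb xb4 yb32 zb2) (kb xb4 yb31 zb60) (kb xb4 yb32 zb7) (kb xb1 yb19 zb38) (kb xb2 yb47 zb41) (kb xb1 yb19 zb50) (kb xb1 yb3 zb40) (kb xb1 yb3 zb41) (kb xb4 yb32 zb15) (kb xb4 yb32 zb16) (kb xb1 yb3 zb46) (kb xb2 yb46 zb8) (kb xb4 yb32 zb24) (kb xb1 yb19 zb61) (kb xb1 yb55 zb30) (kb xb1 yb3 zb43) (kb xb1 yb3 zb44) (kb xb4 yb32 zb38) (kb xb4 yb32 zb41) (kb xb4 yb32 zb42) (kb xb1 yb20 zb6) (kb xb1 yb3 zb45) (kb xb4 yb32 zb55) (kb xb4 yb32 zb51) (kb xb4 yb32 zb52) (kb xb4 yb22 zb61) (kb xb2 yb49 zb14) (kb xb1 yb20 zb5) (kb xb1 yb20 zb16) (kb xb4 yb33 zb10) (kb xb3 yb0 zb56) (kb xb4 yb33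 zb17) (kb xb1 yb3 zb53) (kb xb1 yb3 zb54) (kb xb1 yb3 zb55) (kb xb1 yb3 zb50) (kb xb4 yb33 zb28) (kb xb1 yb3 zb51) (kb xb4 yb33 zb34) (kb xb1 yb3 zb52) (kb xb4 yb33 zb39) (kb xb4 yb33 zb44) (kb xb4 yb33 zb48) (kb xb4 yb33 zb23) (kb xb4 yb33 zb24) (kb xb4 yb33 zb25) (kb xb3 yb3 zb48) (kb xb1 yb21 zb6) (kb xb4 yb33 zb58) (kb xb4 yb33 zb59) (kb xb1 yb8 zb11) (kb xb1 yb4 zb0) (kb xb1 yb4 zb1) (kb xb4 yb34 zb3) (kb xb4 yb34 zb4) (kb xb4 yb34 zb8) (kb xb4 yb34 zb10) (kb xb4 yb34 zb13)) (@D3.rec (fun _ => Pt) (kb xb1 yb4 zb2) (kb xb4 yb34 zb14) (kb xb1 yb23 zb31) (kb xb1 yb4 zb4) (kb xb4 yb34 zb16) (kb xb4 yb34 zb17) (kb xb1 yb4 zb32) (kb xb1 yb4 zb7) (kb xb2 yb18 zb59) (kb xb4 yb34 zb20) (kb xb1 yb4 zb8) (kb xb1 yb4 zb12) (kb xb4 yb34 zb27) (kb xb4 yb34 zb29) (kb xb1 yb8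 zb4) (kb xb1 yb4 zb11) (kb xb4 yb34 zb26) (kb xb4 yb34 zb35) (kb xb4 yb34 zb40) (kb xb1 yb31 zb16) (kb xb1 yb4 zb14) (kb xb2 yb55 zb8) (kb xb1 yb4 zb15) (kb xb1 yb4 zb16) (kb xb1 yb21 zb58) (kb xb1 yb4 zb19) (kb xb4 yb34 zb46) (kb xb1 yb4 zb20) (kb xb1 yb4 zb21) (kb xb4 yb34 zb47) (kb xb1 yb22 zb15) (kb xb1 yb5 zb17) (kb xb1 yb7 zb19) (kb xb1 yb4 zb25) (kb xb4 yb34 zb58) (kb xb1 yb4 zb28) (kb xb1 yb4 zb29) (kb xb4 yb34 zb56) (kb xb4 yb34 zb57) (kb xb1 yb4 zb26) (kb xb4 yb35 zb6) (kb xb1 yb4 zb27) (kb xb4 yb35 zb7) (kb xb4 yb35 zb9) (kb xb4 yb35 zb1) (kb xb1 yb4 zb30) (kb xb4 yb35 zb12) (kb xb1 yb4 zb31) (kb xb4 yb35 zb13) (kb xb4 yb24 zb10) (kb xb1 yb31 zb22) (kb xb2 yb15 zb14) (kb xb2 yb55 zb16) (kb xb1 yb22 zb45) (kb xb1 yb22 zb46) (kb xb1 yb7 zb8) (kb xb1 yb4 zb37)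 (kb xb1 yb13 zb46) (kb xb2 yb55 zb23) (kb xb1 yb4 zb38) (kb xb1 yb4 zb39) (kb xb3 yb23 zb14)) (@D3.rec (fun _ => Pt) (kb xb4 yb35 zb42) (kb xb4 yb35 zb31) (kb xb4 yb35 zb32) (kb xb4 yb35 zb46) (kb xb4 yb35 zb40) (kb xb2 yb51 zb46) (kb xb2 yb51 zb47) (kb xb1 yb4 zb41) (kb xb3 yb57 zb41) (kb xb4 yb35 zb52) (kb xb4 yb35 zb53) (kb xb2 yb10 zb4) (kb xb1 yb23 zb8) (kb xb1 yb23 zb9) (kb xb2 yb14 zb51) (kb xb4 yb36 zb6) (kb xb1 yb26 zb18) (kb xb1 yb26 zb19) (kb xb1 yb6 zb60) (kb xb1 yb4 zb46) (kb xb2 yb51 zb44) (kb xb4 yb32 zb27) (kb xb1 yb4 zb47) (kb xb1 yb4 zb48) (kb xb4 yb36 zb29) (kb xb4 yb36 zb31) (kb xb4 yb36 zb20) (kb xb4 yb36 zb17) (kb xb4 yb36 zb35) (kb xb4 yb36 zb28) (kb xb1 yb23 zb27) (kb xb1 yb56 zb49) (kb xb2 yb51 zb33) (kb xb1 yb23 zb48) (kb xb2 yb0 zb56) (kb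 xb4 yb36 zb43) (kb xb1 yb4 zb53) (kb xb1 yb4 zb54) (kb xb1 yb4 zb55) (kb xb1 yb22 zb38) (kb xb3 yb57 zb42) (kb xb1 yb4 zb52) (kb xb4 yb36 zb55) (kb xb4 yb36 zb56) (kb xb4 yb36 zb57) (kb xb1 yb23 zb40) (kb xb4 yb37 zb10) (kb xb4 yb36 zb48) (kb xb4 yb36 zb49) (kb xb1 yb23 zb44) (kb xb4 yb36 zb50) (kb xb4 yb5 zb40) (kb xb4 yb35 zb58) (kb xb4 yb35 zb51) (kb xb1 yb4 zb58) (kb xb1 yb4 zb57) (kb xb4 yb37 zb25) (kb xb2 yb27 zb61) (kb xb4 yb37 zb30) (kb xb4 yb37 zb24) (kb xb1 yb23 zb56) (kb xb1 yb24 zb39)) (@D3.rec (fun _ => Pt) (kb xb1 yb5 zb11) (kb xb4 yb37 zb40) (kb xb1 yb23 zb60) (kb xb1 yb4 zb61) (kb xb3 yb12 zb28) (kb xb4 yb37 zb47) (kb xb4 yb37 zb55) (kb xb1 yb24 zb27) (kb xb4 yb37 zb61) (kb xb4 yb38 zb3) (kb xb1 yb35 zb33) (kb xb1 yb35 zb38) (kb xb4 yb38 zb15) (kb xb4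 yb38 zb19) (kb xb1 yb5 zb10) (kb xb4 yb36 zb4) (kb xb1 yb5 zb13) (kb xb1 yb24 zb15) (kb xb1 yb6 zb46) (kb xb1 yb5 zb5) (kb xb4 yb38 zb38) (kb xb4 yb37 zb52) (kb xb4 yb38 zb36) (kb xb4 yb38 zb37) (kb xb1 yb24 zb22) (kb xb1 yb6 zb5) (kb xb1 yb5 zb7) (kb xb4 yb37 zb58) (kb xb4 yb38 zb54) (kb xb4 yb38 zb51) (kb xb4 yb38 zb52) (kb xb1 yb5 zb8) (kb xb4 yb39 zb2) (kb xb4 yb39 zb3) (kb xb1 yb5 zb9) (kb xb4 yb39 zb10) (kb xb4 yb37 zb39) (kb xb1 yb5 zb12) (kb xb4 yb39 zb17) (kb xb4 yb39 zb20) (kb xb4 yb39 zb23) (kb xb4 yb39 zb28) (kb xb1 yb5 zb16) (kb xb1 yb22 zb31) (kb xb1 yb25 zb44) (kb xb4 yb34 zb51) (kb xb2 yb44 zb59) (kb xb4 yb39 zb34) (kb xb3 yb10 zb11) (kb xb2 yb49 zb37) (kb xb1 yb5 zb21) (kb xb4 yb39 zb37) (kb xb1 yb5 zb22) (kb xb4 yb39 zb42) (kb xb1 yb12 zb7) (kb xb1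 yb25 zb52) (kb xb1 yb5 zb24) (kb xb1 yb5 zb25) (kb xb4 yb39 zb51) (kb xb4 yb39 zb50) (kb xb4 yb35 zb37) (kb xb1 yb5 zb26)) (@D3.rec (fun _ => Pt) (kb xb3 yb32 zb39) (kb xb3 yb5 zb15) (kb xb1 yb27 zb6) (kb xb1 yb5 zb29) (kb xb4 yb40 zb3) (kb xb4 yb40 zb6) (kb xb4 yb40 zb2) (kb xb1 yb29 zb40) (kb xb1 yb48 zb0) (kb xb3 yb25 zb14) (kb xb3 yb31 zb51) (kb xb1 yb5 zb34) (kb xb1 yb29 zb13) (kb xb1 yb29 zb14) (kb xb3 yb9 zb38) (kb xb4 yb40 zb17) (kb xb1 yb26 zb57) (kb xb4 yb40 zb24) (kb xb4 yb40 zb26) (kb xb1 yb7 zb23) (kb xb4 yb40 zb30) (kb xb4 yb40 zb32) (kb xb1 yb5 zb38) (kb xb4 yb40 zb37) (kb xb4 yb40 zb38) (kb xb4 yb40 zb45) (kb xb1 yb27 zb25) (kb xb1 yb5 zb44) (kb xb1 yb27 zb13) (kb xb1 yb5 zb41) (kb xb4 yb40 zb55) (kb xb4 yb40 zb57) (kb xb4 yb40 zb53) (kb xb4 yb40 zb54)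 (kb xb1 yb5 zb42) (kb xb4 yb41 zb4) (kb xb4 yb40 zb20) (kb xb4 yb41 zb3) (kb xb1 yb5 zb43) (kb xb4 yb41 zb13) (kb xb4 yb7 zb18) (kb xb4 yb41 zb12) (kb xb1 yb5 zb45) (kb xb1 yb21 zb51) (kb xb1 yb5 zb48) (kb xb2 yb18 zb43) (kb xb2 yb30 zb33) (kb xb1 yb28 zb39) (kb xb3 yb0 zb33) (kb xb1 yb5 zb51) (kb xb1 yb5 zb52) (kb xb4 yb41 zb32) (kb xb4 yb41 zb28) (kb xb4 yb41 zb35) (kb xb4 yb41 zb31) (kb xb2 yb50 zb41) (kb xb1 yb5 zb56) (kb xb1 yb5 zb57) (kb xb4 yb27 zb2) (kb xb3 yb5 zb51) (kb xb4 yb41 zb40) (kb xb1 yb29 zb54)) (@D3.rec (fun _ => Pt) (kb xb1 yb39 zb5) (kb xb1 yb29 zb57) (kb xb1 yb29 zb58) (kb xb4 yb41 zb45) (kb xb4 yb41 zb46) (kb xb1 yb49 zb43) (kb xb4 yb41 zb47) (kb xb3 yb44 zb58) (kb xb4 yb38 zb47) (kb xb4 yb38 zb48) (kb xb4 yb41 zb50) (kb xb3 yb28 zb40) (kb xb1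 yb6 zb13) (kb xb1 yb6 zb14) (kb xb3 yb24 zb20) (kb xb3 yb35 zb9) (kb xb3 yb1 zb3) (kb xb3 yb28 zb45) (kb xb4 yb41 zb60) (kb xb1 yb6 zb19) (kb xb1 yb6 zb11) (kb xb4 yb42 zb1) (kb xb1 yb6 zb12) (kb xb4 yb42 zb8) (kb xb4 yb42 zb10) (kb xb3 yb45 zb27) (kb xb4 yb42 zb13) (kb xb3 yb11 zb47) (kb xb4 yb42 zb16) (kb xb3 yb39 zb61) (kb xb1 yb30 zb43) (kb xb1 yb6 zb17) (kb xb4 yb42 zb20) (kb xb4 yb42 zb19) (kb xb1 yb6 zb18) (kb xb4 yb12 zb28) (kb xb4 yb18 zb21) (kb xb3 yb13 zb29) (kb xb1 yb30 zb61) (kb xb1 yb6 zb21) (kb xb4 yb42 zb30) (kb xb4 yb42 zb29) (kb xb1 yb20 zb38) (kb xb2 yb17 zb45) (kb xb1 yb31 zb28) (kb xb4 yb0 zb36) (kb xb1 yb6 zb24) (kb xb1 yb6 zb25) (kb xb4 yb42 zb38) (kb xb4 yb26 zb35) (kb xb2 yb49 zb39) (kb xb1 yb19 zb40) (kb xb2 yb18 zb52) (kb xb2 yb49 zb59) (kb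 xb2 yb50 zb1) (kb xb1 yb6 zb30) (kb xb3 yb57 zb37) (kb xb2 yb26 zb9) (kb xb1 yb20 zb40) (kb xb2 yb14 zb8) (kb xb1 yb6 zb33) (kb xb1 yb6 zb34)) (@D3.rec (fun _ => Pt) (kb xb1 yb23 zb2) (kb xb2 yb55 zb14) (kb xb4 yb42 zb60) (kb xb4 yb37 zb46) (kb xb1 yb6 zb41) (kb xb1 yb26 zb36) (kb xb4 yb43 zb0) (kb xb4 yb43 zb2) (kb xb1 yb24 zb34) (kb xb1 yb31 zb42) (kb xb1 yb6 zb44) (kb xb3 yb2 zb1) (kb xb4 yb43 zb5) (kb xb1 yb6 zb45) (kb xb4 yb43 zb8) (kb xb4 yb43 zb7) (kb xb4 yb43 zb10) (kb xb4 yb37 zb11) (kb xb4 yb38 zb32) (kb xb4 yb38 zb33) (kb xb4 yb43 zb18) (kb xb1 yb6 zb53) (kb xb1 yb6 zb54) (kb xb1 yb6 zb48) (kb xb1 yb7 zb13) (kb xb4 yb43 zb22) (kb xb4 yb43 zb24) (kb xb1 yb6 zb51) (kb xb4 yb43 zb26) (kb xb1 yb6 zb52) (kb xb4 yb43 zb31) (kb xb3 yb40 zb28) (kb xb4 yb43 zb33)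 (kb xb4 yb43 zb34) (kb xb4 yb43 zb37) (kb xb2 yb7 zb18) (kb xb1 yb6 zb55) (kb xb1 yb39 zb22) (kb xb1 yb39 zb23) (kb xb1 yb48 zb17) (kb xb4 yb36 zb16) (kb xb1 yb7 zb0) (kb xb4 yb43 zb47) (kb xb4 yb43 zb48) (kb xb1 yb7 zb1) (kb xb4 yb43 zb51) (kb xb1 yb34 zb16) (kb xb1 yb7 zb12) (kb xb4 yb35 zb28) (kb xb4 yb43 zb54) (kb xb3 yb20 zb20) (kb xb4 yb35 zb27) (kb xb1 yb7 zb10) (kb xb2 yb20 zb23) (kb xb2 yb20 zb24) (kb xb1 yb40 zb15) (kb xb1 yb8 zb13) (kb xb4 yb43 zb21) (kb xb1 yb7 zb15) (kb xb4 yb44 zb3) (kb xb3 yb18 zb26) (kb xb4 yb44 zb5)) (@D3.rec (fun _ => Pt) (kb xb1 yb33 zb29) (kb xb1 yb51 zb7) (kb xb1 yb34 zb12) (kb xb1 yb7 zb18) (kb xb4 yb44 zb10) (kb xb4 yb44 zb9) (kb xb3 yb49 zb20) (kb xb3 yb25 zb39) (kb xb4 yb34 zb53) (kb xb1 yb7 zb22) (kb xb1 yb34 zb34) (kb xb1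 yb7 zb21) (kb xb4 yb44 zb25) (kb xb4 yb44 zb21) (kb xb1 yb33 zb60) (kb xb1 yb7 zb25) (kb xb4 yb44 zb27) (kb xb4 yb44 zb28) (kb xb1 yb34 zb14) (kb xb1 yb34 zb15) (kb xb1 yb29 zb20) (kb xb4 yb44 zb32) (kb xb1 yb7 zb36) (kb xb2 yb19 zb53) (kb xb2 yb19 zb54) (kb xb3 yb1 zb12) (kb xb4 yb44 zb38) (kb xb3 yb13 zb7) (kb xb1 yb37 zb55) (kb xb1 yb37 zb56) (kb xb4 yb44 zb40) (kb xb4 yb44 zb43) (kb xb1 yb7 zb35) (kb xb4 yb44 zb49) (kb xb4 yb44 zb50) (kb xb4 yb44 zb55) (kb xb1 yb34 zb5) (kb xb1 yb7 zb40) (kb xb4 yb44 zb59) (kb xb1 yb7 zb42) (kb xb4 yb45 zb0) (kb xb4 yb44 zb61) (kb xb4 yb45 zb6) (kb xb3 yb24 zb24) (kb xb4 yb45 zb10) (kb xb4 yb45 zb13) (kb xb1 yb7 zb44) (kb xb4 yb45 zb19) (kb xb4 yb45 zb20) (kb xb3 yb21 zb15) (kb xb1 yb34 zb57) (kb xb4 yb45 zb28) (kb xb1 yb7 zb48)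 (kb xb4 yb45 zb34) (kb xb4 yb45 zb36) (kb xb1 yb7 zb47) (kb xb4 yb45 zb41) (kb xb4 yb45 zb42) (kb xb1 yb35 zb4) (kb xb1 yb8 zb7) (kb xb4 yb45 zb32) (kb xb4 yb45 zb33)) (@D3.rec (fun _ => Pt) (kb xb1 yb42 zb31) (kb xb4 yb45 zb59) (kb xb1 yb7 zb50) (kb xb4 yb46 zb2) (kb xb4 yb46 zb3) (kb xb1 yb35 zb15) (kb xb1 yb37 zb19) (kb xb1 yb8 zb32) (kb xb1 yb7 zb52) (kb xb4 yb46 zb19) (kb xb4 yb46 zb20) (kb xb1 yb7 zb53) (kb xb4 yb46 zb28) (kb xb4 yb46 zb29) (kb xb4 yb46 zb33) (kb xb4 yb46 zb37) (kb xb4 yb45 zb18) (kb xb1 yb7 zb55) (kb xb1 yb7 zb56) (kb xb4 yb46 zb50) (kb xb4 yb46 zb52) (kb xb4 yb46 zb54) (kb xb4 yb46 zb45) (kb xb1 yb24 zb7) (kb xb4 yb46 zb61) (kb xb4 yb47 zb3) (kb xb4 yb46 zb48) (kb xb4 yb46 zb49) (kb xb1 yb24 zb8) (kb xb1 yb7 zb58) (kb xb4 yb47 zb17) (kb xb1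 yb36 zb53) (kb xb4 yb47 zb20) (kb xb1 yb37 zb14) (kb xb1 yb8 zb31) (kb xb4 yb47 zb24) (kb xb1 yb8 zb34) (kb xb1 yb46 zb59) (kb xb3 yb24 zb25) (kb xb1 yb8 zb1) (kb xb1 yb29 zb23) (kb xb3 yb35 zb24) (kb xb4 yb47 zb36) (kb xb4 yb47 zb41) (kb xb4 yb47 zb43) (kb xb1 yb35 zb59) (kb xb4 yb47 zb47) (kb xb1 yb41 zb27) (kb xb3 yb26 zb27) (kb xb4 yb34 zb32) (kb xb3 yb14 zb28) (kb xb4 yb47 zb56) (kb xb1 yb8 zb8) (kb xb1 yb8 zb9) (kb xb1 yb8 zb6) (kb xb4 yb48 zb2) (kb xb4 yb45 zb54) (kb xb4 yb45 zb55) (kb xb4 yb48 zb8) (kb xb3 yb14 zb55) (kb xb4 yb48 zb9) (kb xb4 yb48 zb0)) (@D3.rec (fun _ => Pt) (kb xb4 yb48 zb12) (kb xb1 yb36 zb16) (kb xb1 yb21 zb25) (kb xb4 yb34 zb0) (kb xb4 yb43 zb43) (kb xb3 yb43 zb7) (kb xb1 yb8 zb15) (kb xb1 yb8 zb16) (kb xb4 yb44 zb0) (kb xb1 yb8 zb14) (kb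 xb4 yb48 zb33) (kb xb4 yb46 zb11) (kb xb4 yb48 zb36) (kb xb4 yb48 zb38) (kb xb4 yb48 zb28) (kb xb1 yb8 zb17) (kb xb4 yb48 zb45) (kb xb4 yb48 zb42) (kb xb1 yb8 zb18) (kb xb4 yb48 zb53) (kb xb4 yb48 zb52) (kb xb1 yb36 zb37) (kb xb4 yb49 zb1) (kb xb4 yb49 zb5) (kb xb1 yb8 zb23) (kb xb1 yb8 zb24) (kb xb1 yb8 zb21) (kb xb4 yb49 zb16) (kb xb4 yb49 zb15) (kb xb1 yb8 zb22) (kb xb4 yb49 zb24) (kb xb4 yb49 zb25) (kb xb4 yb49 zb29) (kb xb4 yb49 zb33) (kb xb4 yb49 zb38) (kb xb4 yb49 zb12) (kb xb1 yb36 zb27) (kb xb4 yb49 zb44) (kb xb4 yb49 zb46) (kb xb1 yb8 zb26) (kb xb4 yb49 zb50) (kb xb4 yb49 zb55) (kb xb3 yb21 zb19) (kb xb1 yb37 zb5) (kb xb2 yb45 zb19) (kb xb1 yb8 zb30) (kb xb1 yb8 zb29) (kb xb2 yb39 zb23) (kb xb4 yb50 zb0) (kb xb4 yb47 zb23) (kb xb4 yb46 zb14) (kb xb4 yb45 zb5)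 (kb xb1 yb8 zb33) (kb xb4 yb50 zb8) (kb xb4 yb50 zb10) (kb xb4 yb50 zb13) (kb xb4 yb50 zb17) (kb xb4 yb50 zb19) (kb xb3 yb56 zb46) (kb xb1 yb8 zb36) (kb xb4 yb50 zb23) (kb xb2 yb24 zb0)) (@D3.rec (fun _ => Pt) (kb xb1 yb8 zb37) (kb xb1 yb14 zb43) (kb xb2 yb28 zb12) (kb xb2 yb0 zb26) (kb xb1 yb8 zb41) (kb xb1 yb8 zb42) (kb xb2 yb7 zb39) (kb xb2 yb7 zb40) (kb xb2 yb4 zb38) (kb xb4 yb50 zb43) (kb xb4 yb50 zb37) (kb xb1 yb8 zb43) (kb xb4 yb50 zb47) (kb xb4 yb50 zb48) (kb xb4 yb14 zb4) (kb xb4 yb14 zb5) (kb xb4 yb50 zb53) (kb xb4 yb16 zb26) (kb xb4 yb50 zb58) (kb xb1 yb56 zb57) (kb xb1 yb8 zb49) (kb xb1 yb8 zb50) (kb xb2 yb8 zb5) (kb xb2 yb8 zb6) (kb xb1 yb59 zb23) (kb xb4 yb51 zb12) (kb xb4 yb51 zb2) (kb xb4 yb7 zb34) (kb xb4 yb51 zb3) (kb xb2 yb25 zb25) (kb xb1 yb8 zb53)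 (kb xb1 yb8 zb54) (kb xb2 yb1 zb30) (kb xb2 yb1 zb31) (kb xb4 yb51 zb26) (kb xb4 yb51 zb22) (kb xb4 yb19 zb51) (kb xb1 yb8 zb55) (kb xb4 yb51 zb33) (kb xb4 yb51 zb31) (kb xb1 yb8 zb56) (kb xb4 yb51 zb42) (kb xb4 yb51 zb41) (kb xb4 yb51 zb49) (kb xb4 yb51 zb52) (kb xb1 yb8 zb57) (kb xb4 yb51 zb58) (kb xb4 yb51 zb59) (kb xb1 yb9 zb4) (kb xb2 yb24 zb27) (kb xb4 yb18 zb18) (kb xb1 yb8 zb60) (kb xb4 yb52 zb15) (kb xb4 yb51 zb37) (kb xb4 yb52 zb14) (kb xb2 yb24 zb33) (kb xb4 yb18 zb22) (kb xb1 yb9 zb0) (kb xb4 yb51 zb45) (kb xb4 yb52 zb28) (kb xb4 yb52 zb26) (kb xb4 yb52 zb31)) (@D3.rec (fun _ => Pt) (kb xb2 yb22 zb61) (kb xb2 yb24 zb40) (kb xb1 yb9 zb2) (kb xb1 yb9 zb3) (kb xb4 yb52 zb41) (kb xb4 yb52 zb42) (kb xb4 yb52 zb43) (kb xb4 yb52 zb46) (kb xb4 yb10 zb7) (kb xb2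 yb37 zb43) (kb xb4 yb10 zb10) (kb xb1 yb9 zb7) (kb xb4 yb52 zb52) (kb xb2 yb24 zb43) (kb xb1 yb9 zb12) (kb xb1 yb27 zb45) (kb xb2 yb24 zb16) (kb xb1 yb9 zb18) (kb xb4 yb52 zb54) (kb xb1 yb9 zb19) (kb xb4 yb52 zb61) (kb xb4 yb53 zb3) (kb xb4 yb53 zb6) (kb xb1 yb9 zb20) (kb xb4 yb53 zb12) (kb xb4 yb52 zb40) (kb xb1 yb9 zb27) (kb xb2 yb23 zb49) (kb xb4 yb11 zb45) (kb xb1 yb9 zb23) (kb xb4 yb53 zb25) (kb xb4 yb52 zb56) (kb xb4 yb53 zb24) (kb xb2 yb23 zb55) (kb xb3 yb9 zb28) (kb xb1 yb9 zb25) (kb xb4 yb53 zb0) (kb xb4 yb53 zb36) (kb xb4 yb53 zb37) (kb xb4 yb53 zb41) (kb xb2 yb24 zb1) (kb xb4 yb53 zb44) (kb xb2 yb38 zb23) (kb xb2 yb24 zb13) (kb xb1 yb57 zb46) (kb xb4 yb2 zb18) (kb xb1 yb12 zb46) (kb xb1 yb9 zb36) (kb xb1 yb9 zb37) (kb xb1 yb9 zb38) (kb xb1 yb9 zb39) (kb xb1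 yb11 zb16) (kb xb2 yb1 zb18) (kb xb1 yb9 zb43) (kb xb1 yb9 zb44) (kb xb2 yb4 zb9) (kb xb2 yb1 zb19) (kb xb2 yb1 zb20) (kb xb2 yb31 zb52) (kb xb2 yb32 zb18) (kb xb4 yb54 zb11) (kb xb4 yb53 zb61)) (@D3.rec (fun _ => Pt) (kb xb2 yb4 zb13) (kb xb1 yb55 zb48) (kb xb1 yb12 zb58) (kb xb2 yb28 zb58) (kb xb2 yb28 zb59) (kb xb2 yb29 zb20) (kb xb4 yb54 zb26) (kb xb4 yb13 zb41) (kb xb2 yb4 zb22) (kb xb2 yb4 zb23) (kb xb4 yb8 zb55) (kb xb2 yb4 zb28) (kb xb4 yb28 zb27) (kb xb4 yb54 zb39) (kb xb3 yb58 zb11) (kb xb1 yb9 zb55) (kb xb1 yb9 zb56) (kb xb2 yb4 zb18) (kb xb4 yb8 zb10) (kb xb4 yb8 zb11) (kb xb3 yb58 zb16) (kb xb4 yb54 zb58) (kb xb4 yb54 zb45) (kb xb4 yb50 zb35) (kb xb4 yb54 zb47) (kb xb2 yb23 zb29) (kb xb1 yb9 zb59) (kb xb1 yb9 zb60) (kb xb3 yb58 zb7) (kb xb2 yb7 zb22) (kb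 xb4 yb55 zb11) (kb xb4 yb55 zb7) (kb xb1 yb9 zb61) (kb xb4 yb55 zb18) (kb xb4 yb55 zb16) (kb xb1 yb10 zb0) (kb xb4 yb55 zb27) (kb xb4 yb55 zb26) (kb xb4 yb55 zb34) (kb xb4 yb55 zb37) (kb xb1 yb10 zb1) (kb xb4 yb55 zb43) (kb xb4 yb55 zb44) (kb xb1 yb10 zb10) (kb xb1 yb10 zb4) (kb xb4 yb55 zb57) (kb xb4 yb55 zb22) (kb xb4 yb55 zb55) (kb xb4 yb55 zb56) (kb xb1 yb59 zb26) (kb xb4 yb30 zb15) (kb xb1 yb10 zb6) (kb xb4 yb55 zb30) (kb xb4 yb56 zb9) (kb xb4 yb56 zb7) (kb xb4 yb56 zb12) (kb xb4 yb56 zb17) (kb xb3 yb58 zb46) (kb xb1 yb10 zb8) (kb xb1 yb10 zb9) (kb xb4 yb56 zb22) (kb xb4 yb56 zb23)) (@D3.rec (fun _ => Pt) (kb xb4 yb56 zb28) (kb xb4 yb56 zb31) (kb xb3 yb3 zb52) (kb xb4 yb56 zb33) (kb xb1 yb10 zb13) (kb xb4 yb56 zb36) (kb xb2 yb26 zb6) (kb xb4 yb19 zb5) (kb xb4 yb31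 zb42) (kb xb2 yb18 zb57) (kb xb2 yb49 zb8) (kb xb1 yb10 zb19) (kb xb4 yb56 zb44) (kb xb4 yb18 zb59) (kb xb4 yb56 zb46) (kb xb2 yb41 zb6) (kb xb2 yb44 zb48) (kb xb1 yb10 zb24) (kb xb4 yb56 zb54) (kb xb4 yb56 zb57) (kb xb3 yb58 zb55) (kb xb1 yb18 zb61) (kb xb2 yb26 zb22) (kb xb1 yb10 zb29) (kb xb2 yb47 zb21) (kb xb2 yb47 zb22) (kb xb1 yb10 zb32) (kb xb3 yb58 zb56) (kb xb3 yb58 zb61) (kb xb1 yb10 zb33) (kb xb4 yb57 zb6) (kb xb4 yb57 zb5) (kb xb4 yb23 zb24) (kb xb1 yb10 zb34) (kb xb3 yb59 zb0) (kb xb4 yb57 zb18) (kb xb4 yb57 zb19) (kb xb3 yb59 zb5) (kb xb4 yb57 zb30) (kb xb4 yb57 zb33) (kb xb4 yb57 zb35) (kb xb1 yb10 zb39) (kb xb1 yb10 zb40) (kb xb1 yb10 zb41) (kb xb1 yb10 zb38) (kb xb4 yb57 zb49) (kb xb4 yb57 zb52) (kb xb4 yb57 zb55) (kb xb4 yb57 zb41) (kb xb4 yb57 zb42)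 (kb xb4 yb57 zb45) (kb xb2 yb54 zb29) (kb xb4 yb58 zb4) (kb xb3 yb3 zb40) (kb xb2 yb54 zb32) (kb xb2 yb54 zb33) (kb xb2 yb52 zb46) (kb xb1 yb26 zb22) (kb xb1 yb38 zb19) (kb xb3 yb3 zb27) (kb xb1 yb10 zb47) (kb xb4 yb58 zb16)) (@D3.rec (fun _ => Pt) (kb xb4 yb58 zb17) (kb xb2 yb54 zb21) (kb xb1 yb10 zb50) (kb xb1 yb10 zb51) (kb xb2 yb53 zb24) (kb xb1 yb10 zb49) (kb xb4 yb58 zb29) (kb xb4 yb58 zb30) (kb xb3 yb59 zb27) (kb xb2 yb49 zb38) (kb xb4 yb58 zb39) (kb xb4 yb58 zb23) (kb xb4 yb25 zb61) (kb xb2 yb33 zb53) (kb xb4 yb58 zb26) (kb xb4 yb58 zb27) (kb xb4 yb26 zb0) (kb xb2 yb55 zb15) (kb xb4 yb25 zb50) (kb xb3 yb3 zb23) (kb xb1 yb10 zb55) (kb xb1 yb10 zb56) (kb xb2 yb49 zb42) (kb xb3 yb3 zb24) (kb xb4 yb59 zb0) (kb xb4 yb58 zb58) (kb xb3 yb59 zb36) (kb xb4 yb58 zb59)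 (kb xb3 yb3 zb28) (kb xb4 yb59 zb10) (kb xb4 yb38 zb4) (kb xb4 yb59 zb16) (kb xb3 yb59 zb40) (kb xb1 yb10 zb58) (kb xb4 yb59 zb24) (kb xb4 yb59 zb21) (kb xb1 yb10 zb59) (kb xb4 yb59 zb33) (kb xb4 yb59 zb32) (kb xb4 yb59 zb39) (kb xb4 yb59 zb42) (kb xb3 yb8 zb15) (kb xb3 yb8 zb16) (kb xb1 yb37 zb36) (kb xb4 yb59 zb54) (kb xb4 yb59 zb58) (kb xb1 yb11 zb4) (kb xb1 yb11 zb5) (kb xb5 yb0 zb3) (kb xb1 yb11 zb6) (kb xb1 yb11 zb2) (kb xb5 yb0 zb11) (kb xb5 yb0 zb12) (kb xb1 yb11 zb3) (kb xb5 yb0 zb19) (kb xb5 yb0 zb2) (kb xb2 yb59 zb56) (kb xb5 yb0 zb25) (kb xb5 yb0 zb27) (kb xb1 yb11 zb8) (kb xb5 yb0 zb31) (kb xb2 yb15 zb57)) (@D3.rec (fun _ => Pt) (kb xb1 yb11 zb10) (kb xb1 yb11 zb11) (kb xb5 yb0 zb34) (kb xb1 yb11 zb13) (kb xb5 yb0 zb39) (kb xb1 yb11 zb15) (kb xb5 yb0 zb43)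 (kb xb4 yb53 zb56) (kb xb4 yb7 zb32) (kb xb4 yb53 zb58) (kb xb5 yb0 zb53) (kb xb1 yb57 zb54) (kb xb2 yb23 zb2) (kb xb1 yb11 zb22) (kb xb1 yb11 zb23) (kb xb2 yb37 zb14) (kb xb2 yb37 zb15) (kb xb2 yb31 zb29) (kb xb1 yb11 zb34) (kb xb5 yb1 zb9) (kb xb5 yb0 zb61) (kb xb1 yb11 zb26) (kb xb1 yb11 zb27) (kb xb2 yb34 zb23) (kb xb1 yb16 zb55) (kb xb5 yb1 zb24) (kb xb5 yb1 zb18) (kb xb5 yb1 zb20) (kb xb1 yb11 zb28) (kb xb5 yb1 zb34) (kb xb5 yb1 zb32) (kb xb1 yb11 zb29) (kb xb5 yb1 zb41) (kb xb5 yb1 zb40) (kb xb5 yb1 zb47) (kb xb5 yb1 zb50) (kb xb1 yb11 zb30) (kb xb5 yb1 zb56) (kb xb5 yb1 zb57) (kb xb1 yb11 zb55) (kb xb5 yb1 zb16) (kb xb5 yb2 zb6) (kb xb5 yb2 zb11) (kb xb1 yb11 zb36) (kb xb1 yb11 zb33) (kb xb5 yb2 zb19) (kb xb5 yb2 zb18) (kb xb5 yb2 zb25) (kb xb5 yb1 zb6) (kb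 xb5 yb2 zb28) (kb xb5 yb2 zb31) (kb xb1 yb11 zb35) (kb xb5 yb2 zb36) (kb xb5 yb2 zb37) (kb xb5 yb2 zb42) (kb xb5 yb1 zb13) (kb xb5 yb2 zb16) (kb xb4 yb7 zb36) (kb xb2 yb25 zb3) (kb xb2 yb25 zb4) (kb xb5 yb2 zb50) (kb xb5 yb0 zb58)) (@D3.rec (fun _ => Pt) (kb xb5 yb2 zb57) (kb xb1 yb11 zb42) (kb xb5 yb3 zb1) (kb xb2 yb1 zb40) (kb xb1 yb11 zb43) (kb xb1 yb11 zb41) (kb xb5 yb3 zb7) (kb xb5 yb3 zb8) (kb xb5 yb1 zb27) (kb xb5 yb2 zb61) (kb xb5 yb3 zb0) (kb xb1 yb36 zb59) (kb xb5 yb3 zb18) (kb xb1 yb11 zb46) (kb xb1 yb11 zb45) (kb xb5 yb3 zb27) (kb xb5 yb3 zb28) (kb xb5 yb3 zb36) (kb xb5 yb1 zb38) (kb xb5 yb3 zb23) (kb xb2 yb25 zb5) (kb xb5 yb3 zb45) (kb xb1 yb11 zb49) (kb xb1 yb11 zb48) (kb xb5 yb3 zb54) (kb xb5 yb3 zb55) (kb xb5 yb1 zb44) (kb xb5 yb4 zb0) (kb xb5 yb3 zb50)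 (kb xb1 yb11 zb50) (kb xb5 yb4 zb5) (kb xb5 yb4 zb6) (kb xb1 yb11 zb51) (kb xb5 yb4 zb16) (kb xb5 yb4 zb17) (kb xb5 yb4 zb23) (kb xb5 yb4 zb28) (kb xb2 yb32 zb43) (kb xb1 yb11 zb53) (kb xb1 yb11 zb54) (kb xb3 yb2 zb11) (kb xb5 yb4 zb39) (kb xb5 yb4 zb36) (kb xb5 yb4 zb37) (kb xb5 yb4 zb46) (kb xb1 yb11 zb57) (kb xb2 yb39 zb18) (kb xb5 yb4 zb55) (kb xb5 yb4 zb60) (kb xb5 yb4 zb52) (kb xb4 yb39 zb46) (kb xb1 yb11 zb59) (kb xb5 yb5 zb5) (kb xb5 yb5 zb7) (kb xb5 yb5 zb9) (kb xb1 yb11 zb60) (kb xb5 yb5 zb14) (kb xb5 yb5 zb17) (kb xb4 yb1 zb11) (kb xb5 yb5 zb24) (kb xb1 yb12 zb3) (kb xb1 yb12 zb0)) (@D3.rec (fun _ => Pt) (kb xb5 yb5 zb32) (kb xb5 yb5 zb31) (kb xb1 yb12 zb1) (kb xb5 yb5 zb39) (kb xb1 yb12 zb2) (kb xb5 yb5 zb43) (kb xb5 yb5 zb46) (kb xb5 yb5 zb48) (kb xb5 yb5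 zb29) (kb xb1 yb25 zb43) (kb xb1 yb12 zb6) (kb xb5 yb5 zb52) (kb xb4 yb39 zb47) (kb xb4 yb39 zb48) (kb xb1 yb12 zb8) (kb xb5 yb5 zb55) (kb xb3 yb5 zb9) (kb xb2 yb33 zb6) (kb xb1 yb12 zb10) (kb xb5 yb5 zb61) (kb xb5 yb6 zb3) (kb xb5 yb6 zb5) (kb xb5 yb6 zb10) (kb xb1 yb12 zb14) (kb xb1 yb12 zb15) (kb xb1 yb12 zb13) (kb xb5 yb6 zb20) (kb xb5 yb6 zb22) (kb xb5 yb6 zb14) (kb xb5 yb6 zb15) (kb xb5 yb6 zb27) (kb xb1 yb25 zb50) (kb xb5 yb6 zb30) (kb xb2 yb17 zb46) (kb xb1 yb12 zb17) (kb xb5 yb6 zb35) (kb xb1 yb12 zb18) (kb xb5 yb6 zb39) (kb xb1 yb12 zb19) (kb xb5 yb6 zb42) (kb xb5 yb6 zb43) (kb xb1 yb12 zb22) (kb xb1 yb12 zb23) (kb xb5 yb6 zb51) (kb xb5 yb6 zb53) (kb xb5 yb6 zb50) (kb xb5 yb6 zb57) (kb xb2 yb33 zb46) (kb xb1 yb12 zb25) (kb xb1 yb12 zb26) (kb xb3 yb23 zb48)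 (kb xb5 yb6 zb59) (kb xb1 yb12 zb28) (kb xb1 yb12 zb29) (kb xb1 yb19 zb24) (kb xb5 yb7 zb8) (kb xb5 yb7 zb6) (kb xb5 yb7 zb12) (kb xb2 yb33 zb59) (kb xb2 yb3 zb17) (kb xb1 yb12 zb31) (kb xb1 yb12 zb32)) (@D3.rec (fun _ => Pt) (kb xb5 yb7 zb23) (kb xb5 yb7 zb25) (kb xb4 yb58 zb24) (kb xb1 yb12 zb33) (kb xb4 yb7 zb4) (kb xb5 yb7 zb33) (kb xb5 yb7 zb34) (kb xb5 yb7 zb35) (kb xb1 yb12 zb34) (kb xb2 yb53 zb21) (kb xb5 yb7 zb45) (kb xb1 yb25 zb34) (kb xb5 yb7 zb52) (kb xb5 yb7 zb55) (kb xb5 yb7 zb60) (kb xb1 yb12 zb41) (kb xb1 yb12 zb42) (kb xb1 yb12 zb38) (kb xb5 yb8 zb7) (kb xb1 yb12 zb39) (kb xb5 yb8 zb13) (kb xb1 yb12 zb40) (kb xb5 yb8 zb20) (kb xb5 yb8 zb21) (kb xb5 yb8 zb23) (kb xb5 yb8 zb4) (kb xb5 yb8 zb5) (kb xb1 yb12 zb49) (kb xb1 yb12 zb50) (kb xb2 yb28 zb17) (kb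 xb1 yb13 zb1) (kb xb5 yb8 zb37) (kb xb5 yb8 zb31) (kb xb1 yb12 zb52) (kb xb1 yb12 zb53) (kb xb5 yb8 zb48) (kb xb5 yb8 zb46) (kb xb5 yb8 zb47) (kb xb1 yb12 zb54) (kb xb5 yb8 zb58) (kb xb5 yb8 zb57) (kb xb1 yb12 zb55) (kb xb5 yb9 zb3) (kb xb5 yb9 zb2) (kb xb5 yb9 zb9) (kb xb5 yb9 zb12) (kb xb1 yb12 zb56) (kb xb5 yb9 zb18) (kb xb5 yb9 zb19) (kb xb1 yb13 zb20) (kb xb2 yb34 zb29) (kb xb4 yb54 zb19) (kb xb2 yb24 zb58) (kb xb2 yb7 zb30) (kb xb5 yb8 zb44) (kb xb5 yb9 zb35) (kb xb5 yb9 zb40) (kb xb1 yb13 zb3) (kb xb1 yb13 zb0) (kb xb5 yb9 zb48) (kb xb5 yb9 zb47) (kb xb5 yb9 zb53)) (@D3.rec (fun _ => Pt) (kb xb1 yb13 zb2) (kb xb5 yb9 zb57) (kb xb5 yb9 zb58) (kb xb5 yb9 zb61) (kb xb5 yb8 zb41) (kb xb5 yb9 zb45) (kb xb5 yb10 zb3) (kb xb5 yb8 zb28) (kb xb5 yb10 zb9) (kb xb1 yb13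 zb7) (kb xb1 yb13 zb8) (kb xb1 yb13 zb6) (kb xb5 yb10 zb19) (kb xb5 yb10 zb20) (kb xb5 yb8 zb51) (kb xb5 yb10 zb13) (kb xb5 yb10 zb14) (kb xb5 yb10 zb27) (kb xb2 yb24 zb59) (kb xb5 yb10 zb31) (kb xb1 yb13 zb11) (kb xb1 yb13 zb10) (kb xb5 yb10 zb40) (kb xb5 yb10 zb41) (kb xb5 yb10 zb47) (kb xb5 yb9 zb0) (kb xb5 yb10 zb36) (kb xb5 yb10 zb53) (kb xb1 yb13 zb14) (kb xb1 yb13 zb13) (kb xb5 yb11 zb0) (kb xb5 yb11 zb1) (kb xb5 yb9 zb6) (kb xb5 yb11 zb8) (kb xb5 yb10 zb58) (kb xb1 yb13 zb15) (kb xb5 yb11 zb14) (kb xb5 yb11 zb15) (kb xb1 yb13 zb16) (kb xb5 yb11 zb23) (kb xb5 yb11 zb24) (kb xb5 yb11 zb30) (kb xb5 yb11 zb35) (kb xb2 yb29 zb37) (kb xb1 yb13 zb18) (kb xb1 yb13 zb19) (kb xb5 yb11 zb45) (kb xb5 yb11 zb47) (kb xb5 yb11 zb43) (kb xb5 yb11 zb44) (kb xb5 yb11 zb54) (kb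 xb5 yb11 zb58) (kb xb5 yb1 zb0) (kb xb5 yb12 zb3) (kb xb1 yb13 zb25) (kb xb1 yb13 zb22) (kb xb5 yb12 zb10) (kb xb1 yb13 zb23) (kb xb1 yb13 zb24) (kb xb5 yb12 zb19) (kb xb5 yb12 zb22) (kb xb5 yb12 zb23)) (@D3.rec (fun _ => Pt) (kb xb5 yb12 zb8) (kb xb1 yb13 zb26) (kb xb1 yb13 zb28) (kb xb1 yb13 zb29) (kb xb3 yb0 zb9) (kb xb5 yb12 zb29) (kb xb2 yb30 zb17) (kb xb1 yb13 zb31) (kb xb5 yb12 zb30) (kb xb1 yb13 zb33) (kb xb1 yb13 zb34) (kb xb2 yb58 zb61) (kb xb5 yb12 zb40) (kb xb5 yb12 zb44) (kb xb5 yb12 zb37) (kb xb5 yb12 zb38) (kb xb5 yb12 zb27) (kb xb5 yb12 zb53) (kb xb3 yb3 zb41) (kb xb4 yb4 zb52) (kb xb5 yb12 zb56) (kb xb1 yb13 zb37) (kb xb5 yb12 zb60) (kb xb4 yb35 zb33) (kb xb5 yb13 zb3) (kb xb4 yb1 zb58) (kb xb5 yb13 zb9) (kb xb1 yb13 zb42) (kb xb1 yb13 zb43) (kb xb1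 yb13 zb41) (kb xb5 yb13 zb19) (kb xb5 yb13 zb22) (kb xb5 yb13 zb13) (kb xb5 yb13 zb14) (kb xb5 yb13 zb26) (kb xb2 yb59 zb58) (kb xb1 yb13 zb45) (kb xb5 yb13 zb29) (kb xb4 yb35 zb34) (kb xb1 yb13 zb48) (kb xb1 yb13 zb49) (kb xb5 yb13 zb34) (kb xb5 yb13 zb37) (kb xb1 yb13 zb50) (kb xb5 yb13 zb40) (kb xb5 yb13 zb41) (kb xb2 yb30 zb47) (kb xb1 yb13 zb53) (kb xb1 yb13 zb54) (kb xb5 yb13 zb47) (kb xb5 yb13 zb48) (kb xb5 yb13 zb52) (kb xb5 yb13 zb55) (kb xb2 yb27 zb13) (kb xb2 yb7 zb32) (kb xb1 yb13 zb56) (kb xb1 yb13 zb57) (kb xb5 yb14 zb4) (kb xb5 yb14 zb10) (kb xb2 yb30 zb58) (kb xb1 yb13 zb59) (kb xb1 yb13 zb60)) (@D3.rec (fun _ => Pt) (kb xb5 yb14 zb17) (kb xb1 yb36 zb54) (kb xb1 yb13 zb61) (kb xb5 yb14 zb25) (kb xb5 yb14 zb27) (kb xb1 yb14 zb4) (kb xb1 yb14 zb1) (kb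 xb5 yb14 zb33) (kb xb1 yb14 zb2) (kb xb5 yb14 zb39) (kb xb1 yb14 zb3) (kb xb5 yb14 zb46) (kb xb4 yb36 zb47) (kb xb5 yb14 zb49) (kb xb5 yb14 zb30) (kb xb2 yb59 zb52) (kb xb1 yb59 zb39) (kb xb5 yb14 zb55) (kb xb1 yb14 zb10) (kb xb4 yb6 zb9) (kb xb5 yb14 zb60) (kb xb2 yb0 zb30) (kb xb4 yb27 zb7) (kb xb2 yb28 zb23) (kb xb4 yb27 zb9) (kb xb5 yb15 zb7) (kb xb2 yb35 zb19) (kb xb1 yb14 zb17) (kb xb1 yb14 zb18) (kb xb2 yb31 zb50) (kb xb4 yb5 zb2) (kb xb2 yb7 zb14) (kb xb2 yb35 zb31) (kb xb5 yb15 zb25) (kb xb5 yb15 zb13) (kb xb1 yb14 zb21) (kb xb1 yb14 zb22) (kb xb1 yb14 zb20) (kb xb5 yb15 zb33) (kb xb4 yb18 zb56) (kb xb5 yb15 zb37) (kb xb5 yb15 zb32) (kb xb5 yb12 zb35) (kb xb1 yb14 zb23) (kb xb5 yb15 zb46) (kb xb5 yb15 zb44) (kb xb1 yb14 zb24) (kb xb5 yb15 zb54) (kb xb5 yb15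 zb53) (kb xb5 yb15 zb60) (kb xb5 yb16 zb1) (kb xb1 yb14 zb25) (kb xb5 yb16 zb7) (kb xb5 yb16 zb8) (kb xb1 yb14 zb34) (kb xb5 yb4 zb4) (kb xb1 yb14 zb28) (kb xb5 yb16 zb23) (kb xb5 yb15 zb50) (kb xb5 yb16 zb22) (kb xb5 yb4 zb15) (kb xb1 yb14 zb30)) (@D3.rec (fun _ => Pt) (kb xb5 yb15 zb57) (kb xb5 yb16 zb33) (kb xb5 yb16 zb31) (kb xb5 yb16 zb36) (kb xb5 yb16 zb41) (kb xb2 yb36 zb0) (kb xb1 yb14 zb32) (kb xb1 yb14 zb33) (kb xb5 yb16 zb49) (kb xb5 yb16 zb50) (kb xb5 yb16 zb53) (kb xb1 yb14 zb36) (kb xb5 yb16 zb58) (kb xb4 yb15 zb3) (kb xb4 yb6 zb19) (kb xb2 yb36 zb6) (kb xb1 yb57 zb35) (kb xb2 yb36 zb10) (kb xb5 yb17 zb7) (kb xb2 yb34 zb26) (kb xb2 yb0 zb24) (kb xb4 yb50 zb30) (kb xb4 yb6 zb12) (kb xb2 yb3 zb53) (kb xb1 yb14 zb45) (kb xb5 yb17 zb17) (kb xb5 yb17 zb18)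 (kb xb4 yb6 zb14) (kb xb5 yb17 zb23) (kb xb5 yb17 zb25) (kb xb2 yb7 zb29) (kb xb2 yb34 zb32) (kb xb5 yb17 zb33) (kb xb4 yb1 zb61) (kb xb1 yb14 zb51) (kb xb1 yb14 zb52) (kb xb5 yb17 zb42) (kb xb5 yb17 zb40) (kb xb5 yb17 zb41) (kb xb5 yb17 zb50) (kb xb4 yb2 zb37) (kb xb1 yb14 zb54) (kb xb5 yb17 zb57) (kb xb5 yb17 zb56) (kb xb5 yb18 zb1) (kb xb5 yb18 zb4) (kb xb1 yb14 zb55) (kb xb5 yb18 zb10) (kb xb5 yb18 zb11) (kb xb1 yb15 zb2) (kb xb5 yb11 zb13) (kb xb1 yb14 zb58) (kb xb5 yb18 zb26) (kb xb5 yb17 zb54) (kb xb5 yb18 zb25) (kb xb5 yb11 zb22) (kb xb1 yb14 zb60) (kb xb5 yb17 zb60) (kb xb5 yb18 zb37) (kb xb5 yb18 zb35) (kb xb5 yb18 zb40) (kb xb5 yb18 zb45)) (@D3.rec (fun _ => Pt) (kb xb2 yb35 zb5) (kb xb1 yb15 zb0) (kb xb1 yb15 zb1) (kb xb5 yb18 zb53) (kb xb5 yb18 zb54) (kb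 xb5 yb18 zb58) (kb xb2 yb35 zb15) (kb xb1 yb17 zb22) (kb xb1 yb57 zb61) (kb xb1 yb58 zb0) (kb xb2 yb35 zb17) (kb xb1 yb58 zb20) (kb xb5 yb19 zb6) (kb xb1 yb15 zb14) (kb xb1 yb57 zb29) (kb xb1 yb57 zb30) (kb xb1 yb58 zb12) (kb xb5 yb19 zb12) (kb xb4 yb2 zb36) (kb xb5 yb19 zb15) (kb xb4 yb27 zb13) (kb xb5 yb19 zb21) (kb xb4 yb10 zb3) (kb xb4 yb27 zb15) (kb xb5 yb19 zb28) (kb xb5 yb19 zb31) (kb xb1 yb15 zb13) (kb xb2 yb36 zb28) (kb xb2 yb36 zb27) (kb xb5 yb19 zb7) (kb xb2 yb37 zb16) (kb xb2 yb1 zb46) (kb xb5 yb19 zb45) (kb xb1 yb15 zb21) (kb xb5 yb19 zb48) (kb xb4 yb27 zb23) (kb xb4 yb3 zb9) (kb xb2 yb37 zb21) (kb xb4 yb3 zb22) (kb xb5 yb19 zb56) (kb xb4 yb27 zb25) (kb xb5 yb20 zb0) (kb xb5 yb20 zb3) (kb xb1 yb15 zb20) (kb xb5 yb20 zb9) (kb xb5 yb20 zb10) (kb xb5 yb19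 zb47) (kb xb4 yb7 zb47) (kb xb2 yb7 zb52) (kb xb5 yb20 zb21) (kb xb2 yb58 zb27) (kb xb1 yb15 zb26) (kb xb1 yb15 zb27) (kb xb4 yb3 zb19) (kb xb5 yb20 zb30) (kb xb5 yb20 zb26) (kb xb2 yb38 zb10) (kb xb2 yb38 zb11) (kb xb5 yb20 zb37) (kb xb2 yb38 zb20) (kb xb1 yb15 zb31) (kb xb5 yb20 zb44)) (@D3.rec (fun _ => Pt) (kb xb4 yb3 zb0) (kb xb5 yb20 zb42) (kb xb1 yb15 zb32) (kb xb5 yb20 zb50) (kb xb5 yb20 zb49) (kb xb5 yb20 zb55) (kb xb5 yb20 zb58) (kb xb1 yb15 zb33) (kb xb5 yb21 zb3) (kb xb5 yb21 zb4) (kb xb4 yb27 zb41) (kb xb5 yb21 zb13) (kb xb5 yb21 zb16) (kb xb2 yb7 zb58) (kb xb2 yb28 zb15) (kb xb2 yb28 zb16) (kb xb2 yb36 zb30) (kb xb5 yb21 zb23) (kb xb1 yb58 zb22) (kb xb1 yb15 zb42) (kb xb1 yb15 zb43) (kb xb2 yb36 zb37) (kb xb1 yb16 zb28) (kb xb5 yb21 zb33) (kb xb5 yb21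 zb27) (kb xb5 yb21 zb39) (kb xb4 yb20 zb31) (kb xb1 yb15 zb46) (kb xb5 yb21 zb48) (kb xb5 yb21 zb45) (kb xb5 yb21 zb54) (kb xb4 yb3 zb32) (kb xb5 yb21 zb60) (kb xb5 yb22 zb1) (kb xb1 yb15 zb48) (kb xb5 yb22 zb7) (kb xb5 yb22 zb8) (kb xb1 yb16 zb46) (kb xb1 yb17 zb10) (kb xb1 yb17 zb18) (kb xb2 yb6 zb59) (kb xb5 yb22 zb19) (kb xb1 yb15 zb60) (kb xb2 yb24 zb9) (kb xb1 yb16 zb0) (kb xb1 yb16 zb1) (kb xb1 yb57 zb24) (kb xb1 yb15 zb55) (kb xb1 yb15 zb56) (kb xb1 yb58 zb40) (kb xb2 yb11 zb25) (kb xb5 yb22 zb36) (kb xb5 yb22 zb29) (kb xb2 yb11 zb29) (kb xb1 yb58 zb35) (kb xb5 yb22 zb31) (kb xb5 yb22 zb45) (kb xb4 yb27 zb47) (kb xb5 yb22 zb51) (kb xb1 yb17 zb0) (kb xb5 yb22 zb54) (kb xb5 yb22 zb57)) (@D3.rec (fun _ => Pt) (kb xb1 yb15 zb59) (kb xb5 yb23 zb2) (kb xb5 yb23 zb3)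 (kb xb4 yb27 zb55) (kb xb1 yb17 zb7) (kb xb5 yb22 zb24) (kb xb5 yb22 zb25) (kb xb1 yb17 zb9) (kb xb5 yb23 zb21) (kb xb1 yb16 zb48) (kb xb2 yb36 zb56) (kb xb2 yb36 zb57) (kb xb4 yb3 zb38) (kb xb1 yb16 zb51) (kb xb5 yb23 zb27) (kb xb1 yb16 zb9) (kb xb4 yb3 zb42) (kb xb1 yb16 zb10) (kb xb1 yb16 zb11) (kb xb5 yb23 zb33) (kb xb2 yb36 zb59) (kb xb2 yb40 zb61) (kb xb2 yb5 zb41) (kb xb2 yb24 zb42) (kb xb1 yb16 zb8) (kb xb5 yb23 zb43) (kb xb5 yb23 zb44) (kb xb1 yb17 zb28) (kb xb4 yb28 zb2) (kb xb5 yb23 zb31) (kb xb5 yb23 zb32) (kb xb5 yb23 zb59) (kb xb4 yb20 zb55) (kb xb5 yb24 zb0) (kb xb1 yb16 zb14) (kb xb1 yb16 zb15) (kb xb5 yb24 zb7) (kb xb5 yb24 zb9) (kb xb1 yb16 zb13) (kb xb5 yb24 zb13) (kb xb5 yb24 zb14) (kb xb4 yb17 zb16) (kb xb4 yb21 zb20) (kb xb4 yb16 zb60) (kb xb4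 yb28 zb11) (kb xb1 yb17 zb42) (kb xb5 yb24 zb5) (kb xb5 yb24 zb6) (kb xb4 yb0 zb59) (kb xb5 yb24 zb30) (kb xb1 yb16 zb19) (kb xb1 yb16 zb17) (kb xb5 yb24 zb39) (kb xb1 yb52 zb45) (kb xb1 yb24 zb61) (kb xb1 yb17 zb51) (kb xb4 yb28 zb19) (kb xb4 yb2 zb60) (kb xb5 yb24 zb35) (kb xb1 yb16 zb20) (kb xb5 yb24 zb57) (kb xb5 yb24 zb55)) (@D3.rec (fun _ => Pt) (kb xb5 yb24 zb56) (kb xb1 yb16 zb21) (kb xb3 yb58 zb9) (kb xb5 yb25 zb5) (kb xb5 yb25 zb6) (kb xb5 yb25 zb13) (kb xb5 yb25 zb18) (kb xb5 yb21 zb2) (kb xb1 yb16 zb23) (kb xb1 yb16 zb24) (kb xb5 yb25 zb29) (kb xb5 yb25 zb31) (kb xb5 yb25 zb33) (kb xb5 yb25 zb26) (kb xb5 yb25 zb27) (kb xb5 yb25 zb28) (kb xb5 yb25 zb42) (kb xb5 yb25 zb46) (kb xb2 yb29 zb46) (kb xb5 yb22 zb43) (kb xb5 yb25 zb55) (kb xb1 yb16 zb30) (kb xb5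 yb25 zb61) (kb xb2 yb22 zb47) (kb xb1 yb16 zb29) (kb xb5 yb26 zb3) (kb xb5 yb26 zb4) (kb xb5 yb24 zb47) (kb xb5 yb21 zb37) (kb xb5 yb25 zb60) (kb xb4 yb2 zb58) (kb xb5 yb26 zb9) (kb xb1 yb16 zb34) (kb xb1 yb16 zb33) (kb xb5 yb26 zb17) (kb xb5 yb26 zb18) (kb xb5 yb21 zb42) (kb xb5 yb26 zb13) (kb xb5 yb26 zb24) (kb xb1 yb16 zb37) (kb xb1 yb16 zb36) (kb xb5 yb26 zb33) (kb xb5 yb26 zb34) (kb xb5 yb26 zb38) (kb xb5 yb21 zb52) (kb xb5 yb26 zb29) (kb xb5 yb26 zb43) (kb xb1 yb16 zb40) (kb xb1 yb16 zb39) (kb xb5 yb26 zb52) (kb xb5 yb21 zb57) (kb xb5 yb23 zb16) (kb xb5 yb26 zb48) (kb xb1 yb16 zb41) (kb xb3 yb20 zb42) (kb xb5 yb26 zb57) (kb xb1 yb16 zb42) (kb xb5 yb27 zb2) (kb xb5 yb27 zb5) (kb xb5 yb27 zb10) (kb xb2 yb59 zb29) (kb xb1 yb16 zb44)) (@D3.rec (fun _ => Pt) (kb xb1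 yb16 zb45) (kb xb5 yb27 zb20) (kb xb5 yb27 zb18) (kb xb5 yb27 zb19) (kb xb2 yb7 zb6) (kb xb5 yb27 zb26) (kb xb5 yb23 zb23) (kb xb5 yb27 zb30) (kb xb4 yb2 zb46) (kb xb2 yb43 zb58) (kb xb4 yb2 zb47) (kb xb5 yb27 zb37) (kb xb5 yb23 zb26) (kb xb1 yb16 zb52) (kb xb5 yb27 zb45) (kb xb5 yb27 zb44) (kb xb5 yb27 zb50) (kb xb5 yb27 zb53) (kb xb1 yb16 zb53) (kb xb5 yb27 zb59) (kb xb5 yb27 zb60) (kb xb5 yb28 zb4) (kb xb5 yb28 zb7) (kb xb1 yb17 zb8) (kb xb1 yb59 zb50) (kb xb5 yb1 zb23) (kb xb1 yb16 zb56) (kb xb5 yb28 zb16) (kb xb5 yb4 zb50) (kb xb5 yb28 zb15) (kb xb5 yb28 zb20) (kb xb1 yb16 zb60) (kb xb1 yb16 zb59) (kb xb5 yb28 zb29) (kb xb5 yb28 zb30) (kb xb5 yb28 zb36) (kb xb5 yb27 zb41) (kb xb5 yb28 zb25) (kb xb1 yb16 zb61) (kb xb5 yb28 zb42) (kb xb5 yb28 zb43) (kb xb1 yb17 zb1)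 (kb xb5 yb28 zb51) (kb xb5 yb28 zb52) (kb xb1 yb17 zb2) (kb xb5 yb28 zb60) (kb xb5 yb28 zb61) (kb xb5 yb29 zb2) (kb xb5 yb29 zb6) (kb xb4 yb28 zb59) (kb xb1 yb17 zb4) (kb xb1 yb17 zb5) (kb xb1 yb17 zb6) (kb xb5 yb23 zb14) (kb xb3 yb20 zb39) (kb xb5 yb29 zb18) (kb xb5 yb22 zb15) (kb xb4 yb15 zb51) (kb xb4 yb15 zb52) (kb xb5 yb29 zb25) (kb xb4 yb15 zb58) (kb xb2 yb38 zb21)) (@D3.rec (fun _ => Pt) (kb xb4 yb9 zb23) (kb xb1 yb17 zb14) (kb xb5 yb29 zb30) (kb xb2 yb6 zb40) (kb xb5 yb29 zb35) (kb xb5 yb29 zb38) (kb xb2 yb26 zb15) (kb xb4 yb12 zb60) (kb xb4 yb50 zb32) (kb xb1 yb59 zb6) (kb xb1 yb59 zb14) (kb xb5 yb29 zb45) (kb xb2 yb6 zb54) (kb xb4 yb3 zb27) (kb xb5 yb29 zb48) (kb xb5 yb22 zb16) (kb xb5 yb29 zb53) (kb xb5 yb29 zb57) (kb xb1 yb17 zb19) (kb xb5 yb30 zb1) (kb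 xb5 yb30 zb2) (kb xb4 yb3 zb48) (kb xb5 yb30 zb12) (kb xb1 yb17 zb30) (kb xb1 yb17 zb31) (kb xb1 yb58 zb44) (kb xb5 yb30 zb19) (kb xb5 yb30 zb21) (kb xb5 yb30 zb25) (kb xb4 yb29 zb17) (kb xb1 yb17 zb26) (kb xb1 yb17 zb27) (kb xb5 yb30 zb34) (kb xb5 yb30 zb40) (kb xb5 yb30 zb43) (kb xb5 yb30 zb37) (kb xb5 yb30 zb38) (kb xb5 yb30 zb47) (kb xb5 yb23 zb51) (kb xb1 yb17 zb29) (kb xb5 yb30 zb51) (kb xb5 yb23 zb53) (kb xb5 yb30 zb54) (kb xb5 yb30 zb58) (kb xb5 yb30 zb17) (kb xb1 yb17 zb32) (kb xb5 yb30 zb60) (kb xb4 yb2 zb49) (kb xb4 yb2 zb50) (kb xb5 yb31 zb4) (kb xb1 yb17 zb34) (kb xb5 yb31 zb9) (kb xb5 yb31 zb10) (kb xb4 yb2 zb61) (kb xb5 yb31 zb18) (kb xb5 yb31 zb22) (kb xb1 yb17 zb43) (kb xb1 yb17 zb44) (kb xb1 yb17 zb37) (kb xb5 yb31 zb31) (kb xb5 yb31 zb33) (kb xb5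 yb31 zb36)) (@D3.rec (fun _ => Pt) (kb xb4 yb29 zb35) (kb xb1 yb17 zb39) (kb xb1 yb17 zb40) (kb xb5 yb31 zb48) (kb xb5 yb31 zb50) (kb xb5 yb31 zb43) (kb xb5 yb31 zb55) (kb xb5 yb31 zb56) (kb xb5 yb31 zb46) (kb xb5 yb31 zb47) (kb xb1 yb17 zb41) (kb xb5 yb32 zb1) (kb xb5 yb32 zb0) (kb xb5 yb32 zb3) (kb xb5 yb24 zb26) (kb xb5 yb24 zb27) (kb xb5 yb32 zb6) (kb xb5 yb32 zb8) (kb xb4 yb29 zb49) (kb xb5 yb32 zb14) (kb xb5 yb32 zb15) (kb xb1 yb17 zb46) (kb xb5 yb32 zb20) (kb xb5 yb32 zb21) (kb xb4 yb4 zb4) (kb xb5 yb32 zb31) (kb xb1 yb17 zb53) (kb xb5 yb32 zb34) (kb xb5 yb32 zb36) (kb xb4 yb29 zb58) (kb xb1 yb17 zb49) (kb xb1 yb17 zb50) (kb xb5 yb32 zb44) (kb xb5 yb32 zb48) (kb xb5 yb32 zb50) (kb xb5 yb32 zb47) (kb xb5 yb32 zb51) (kb xb5 yb24 zb45) (kb xb1 yb17 zb52) (kb xb5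 yb32 zb54) (kb xb5 yb32 zb55) (kb xb3 yb21 zb3) (kb xb4 yb30 zb6) (kb xb3 yb58 zb36) (kb xb1 yb17 zb55) (kb xb1 yb17 zb56) (kb xb5 yb33 zb14) (kb xb5 yb33 zb16) (kb xb5 yb33 zb9) (kb xb5 yb33 zb12) (kb xb5 yb33 zb13) (kb xb5 yb33 zb25) (kb xb5 yb33 zb28) (kb xb4 yb30 zb14) (kb xb2 yb4 zb43) (kb xb1 yb17 zb58) (kb xb1 yb17 zb59) (kb xb5 yb33 zb41) (kb xb5 yb33 zb44) (kb xb4 yb30 zb19) (kb xb5 yb33 zb46) (kb xb1 yb17 zb60)) (@D3.rec (fun _ => Pt) (kb xb5 yb33 zb58) (kb xb5 yb33 zb53) (kb xb5 yb33 zb54) (kb xb5 yb33 zb55) (kb xb1 yb17 zb61) (kb xb5 yb34 zb13) (kb xb5 yb34 zb11) (kb xb5 yb34 zb12) (kb xb4 yb30 zb30) (kb xb5 yb34 zb23) (kb xb5 yb34 zb25) (kb xb4 yb33 zb20) (kb xb1 yb18 zb5) (kb xb1 yb18 zb6) (kb xb1 yb18 zb3) (kb xb1 yb18 zb4) (kb xb5 yb34 zb41) (kb xb5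 yb34 zb45) (kb xb5 yb34 zb48) (kb xb5 yb34 zb33) (kb xb5 yb34 zb51) (kb xb5 yb34 zb54) (kb xb5 yb34 zb36) (kb xb1 yb18 zb7) (kb xb5 yb35 zb1) (kb xb5 yb34 zb61) (kb xb5 yb35 zb0) (kb xb1 yb18 zb8) (kb xb5 yb35 zb8) (kb xb5 yb35 zb6) (kb xb5 yb35 zb7) (kb xb1 yb18 zb11) (kb xb4 yb10 zb4) (kb xb5 yb35 zb14) (kb xb5 yb35 zb11) (kb xb5 yb35 zb18) (kb xb2 yb4 zb37) (kb xb4 yb8 zb36) (kb xb2 yb4 zb39) (kb xb1 yb18 zb14) (kb xb5 yb35 zb25) (kb xb5 yb35 zb24) (kb xb1 yb18 zb15) (kb xb5 yb35 zb33) (kb xb5 yb35 zb32) (kb xb5 yb35 zb38) (kb xb5 yb35 zb41) (kb xb1 yb18 zb16) (kb xb5 yb35 zb47) (kb xb5 yb35 zb48) (kb xb5 yb35 zb57) (kb xb5 yb35 zb60) (kb xb1 yb18 zb32) (kb xb1 yb18 zb33) (kb xb1 yb18 zb18) (kb xb4 yb10 zb8) (kb xb5 yb36 zb5) (kb xb1 yb18 zb19) (kb xb2 yb40 zb9)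 (kb xb5 yb36 zb8) (kb xb5 yb36 zb9) (kb xb5 yb27 zb1)) (@D3.rec (fun _ => Pt) (kb xb5 yb36 zb12) (kb xb1 yb18 zb24) (kb xb1 yb18 zb23) (kb xb5 yb36 zb21) (kb xb5 yb36 zb26) (kb xb5 yb35 zb29) (kb xb5 yb36 zb17) (kb xb4 yb30 zb52) (kb xb5 yb36 zb31) (kb xb1 yb18 zb27) (kb xb1 yb18 zb26) (kb xb5 yb36 zb40) (kb xb5 yb36 zb44) (kb xb5 yb36 zb36) (kb xb5 yb36 zb45) (kb xb5 yb36 zb49) (kb xb4 yb30 zb57) (kb xb1 yb18 zb29) (kb xb1 yb18 zb30) (kb xb5 yb36 zb54) (kb xb1 yb18 zb31) (kb xb5 yb36 zb58) (kb xb5 yb36 zb61) (kb xb5 yb37 zb1) (kb xb5 yb36 zb4) (kb xb4 yb8 zb37) (kb xb4 yb19 zb8) (kb xb1 yb18 zb35) (kb xb1 yb18 zb36) (kb xb5 yb37 zb8) (kb xb4 yb42 zb54) (kb xb1 yb20 zb44) (kb xb4 yb31 zb1) (kb xb1 yb18 zb38) (kb xb5 yb37 zb15) (kb xb3 yb0 zb43) (kb xb5 yb37 zb20) (kb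 xb1 yb31 zb20) (kb xb1 yb18 zb40) (kb xb5 yb37 zb22) (kb xb5 yb37 zb26) (kb xb3 yb4 zb47) (kb xb4 yb19 zb53) (kb xb1 yb18 zb42) (kb xb5 yb37 zb32) (kb xb5 yb37 zb28) (kb xb5 yb37 zb38) (kb xb4 yb31 zb5) (kb xb2 yb26 zb16) (kb xb1 yb18 zb44) (kb xb5 yb37 zb46) (kb xb1 yb18 zb45) (kb xb3 yb5 zb1) (kb xb5 yb37 zb52) (kb xb5 yb37 zb53) (kb xb1 yb18 zb46) (kb xb3 yb58 zb53) (kb xb5 yb38 zb0) (kb xb3 yb0 zb58) (kb xb2 yb16 zb46) (kb xb5 yb38 zb8) (kb xb5 yb38 zb11)) (@D3.rec (fun _ => Pt) (kb xb5 yb34 zb40) (kb xb1 yb18 zb50) (kb xb5 yb38 zb21) (kb xb5 yb38 zb24) (kb xb1 yb18 zb53) (kb xb1 yb18 zb54) (kb xb5 yb38 zb29) (kb xb3 yb59 zb8) (kb xb5 yb38 zb20) (kb xb1 yb18 zb51) (kb xb1 yb18 zb52) (kb xb5 yb38 zb38) (kb xb5 yb38 zb39) (kb xb5 yb38 zb28) (kb xb5 yb38 zb41) (kb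 xb1 yb18 zb56) (kb xb1 yb18 zb57) (kb xb5 yb38 zb45) (kb xb1 yb18 zb60) (kb xb2 yb22 zb44) (kb xb5 yb38 zb47) (kb xb1 yb19 zb4) (kb xb5 yb38 zb51) (kb xb1 yb19 zb5) (kb xb5 yb38 zb54) (kb xb5 yb38 zb53) (kb xb1 yb19 zb6) (kb xb5 yb38 zb58) (kb xb5 yb38 zb57) (kb xb5 yb39 zb0) (kb xb5 yb39 zb2) (kb xb1 yb19 zb7) (kb xb5 yb39 zb7) (kb xb5 yb39 zb12) (kb xb5 yb39 zb15) (kb xb1 yb19 zb17) (kb xb1 yb19 zb18) (kb xb1 yb19 zb9) (kb xb1 yb19 zb10) (kb xb5 yb39 zb21) (kb xb5 yb39 zb23) (kb xb5 yb39 zb27) (kb xb4 yb31 zb33) (kb xb1 yb19 zb14) (kb xb5 yb39 zb34) (kb xb5 yb39 zb35) (kb xb1 yb19 zb15) (kb xb5 yb39 zb43) (kb xb5 yb39 zb42) (kb xb1 yb19 zb16) (kb xb4 yb50 zb2) (kb xb5 yb39 zb48) (kb xb5 yb39 zb51) (kb xb5 yb39 zb53) (kb xb5 yb39 zb20) (kb xb1 yb19 zb19) (kb xb1 yb19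 zb20) (kb xb5 yb39 zb58) (kb xb4 yb31 zb43) (kb xb5 yb40 zb1) (kb xb5 yb40 zb4) (kb xb5 yb34 zb38)) (@D3.rec (fun _ => Pt) (kb xb1 yb19 zb23) (kb xb5 yb40 zb14) (kb xb1 yb48 zb47) (kb xb5 yb7 zb7) (kb xb5 yb40 zb13) (kb xb1 yb19 zb25) (kb xb2 yb46 zb59) (kb xb1 yb19 zb26) (kb xb2 yb13 zb15) (kb xb1 yb19 zb34) (kb xb5 yb40 zb23) (kb xb5 yb40 zb26) (kb xb5 yb33 zb40) (kb xb1 yb19 zb31) (kb xb1 yb19 zb29) (kb xb5 yb40 zb37) (kb xb1 yb19 zb30) (kb xb5 yb40 zb43) (kb xb4 yb48 zb16) (kb xb5 yb40 zb47) (kb xb5 yb40 zb22) (kb xb5 yb40 zb35) (kb xb1 yb19 zb32) (kb xb1 yb19 zb33) (kb xb5 yb40 zb54) (kb xb5 yb40 zb58) (kb xb4 yb31 zb59) (kb xb5 yb15 zb20) (kb xb1 yb57 zb25) (kb xb4 yb32 zb8) (kb xb4 yb32 zb9) (kb xb1 yb19 zb39) (kb xb5 yb41 zb0) (kb xb5 yb33 zb8) (kb xb1 yb19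 zb43) (kb xb1 yb19 zb45) (kb xb5 yb41 zb7) (kb xb5 yb41 zb9) (kb xb5 yb41 zb5) (kb xb5 yb41 zb6) (kb xb1 yb19 zb44) (kb xb1 yb19 zb47) (kb xb1 yb19 zb48) (kb xb4 yb32 zb53) (kb xb5 yb41 zb18) (kb xb5 yb41 zb19) (kb xb1 yb19 zb49) (kb xb4 yb23 zb2) (kb xb5 yb41 zb27) (kb xb5 yb41 zb31) (kb xb4 yb32 zb12) (kb xb2 yb47 zb14) (kb xb5 yb41 zb38) (kb xb2 yb9 zb1) (kb xb2 yb9 zb2) (kb xb5 yb38 zb1) (kb xb5 yb41 zb49) (kb xb5 yb32 zb43) (kb xb1 yb19 zb56) (kb xb2 yb46 zb6) (kb xb1 yb19 zb57) (kb xb1 yb19 zb58)) (@D3.rec (fun _ => Pt) (kb xb1 yb19 zb54) (kb xb5 yb42 zb3) (kb xb1 yb19 zb55) (kb xb5 yb42 zb9) (kb xb5 yb42 zb12) (kb xb5 yb42 zb14) (kb xb5 yb41 zb58) (kb xb5 yb41 zb59) (kb xb5 yb42 zb21) (kb xb5 yb42 zb23) (kb xb5 yb42 zb1) (kb xb4 yb23 zb1) (kb xb4 yb31 zb55) (kb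 xb1 yb19 zb60) (kb xb2 yb46 zb51) (kb xb5 yb42 zb30) (kb xb3 yb33 zb23) (kb xb4 yb32 zb29) (kb xb4 yb32 zb30) (kb xb5 yb42 zb38) (kb xb5 yb41 zb60) (kb xb2 yb26 zb24) (kb xb2 yb26 zb25) (kb xb2 yb49 zb16) (kb xb5 yb42 zb50) (kb xb5 yb31 zb42) (kb xb1 yb20 zb3) (kb xb5 yb41 zb17) (kb xb1 yb20 zb4) (kb xb5 yb43 zb2) (kb xb5 yb43 zb3) (kb xb5 yb42 zb59) (kb xb5 yb42 zb60) (kb xb5 yb43 zb7) (kb xb4 yb33 zb5) (kb xb4 yb32 zb48) (kb xb1 yb23 zb18) (kb xb1 yb20 zb7) (kb xb5 yb43 zb13) (kb xb1 yb20 zb10) (kb xb2 yb12 zb58) (kb xb2 yb13 zb8) (kb xb1 yb20 zb9) (kb xb5 yb43 zb21) (kb xb2 yb47 zb51) (kb xb3 yb10 zb19) (kb xb5 yb43 zb30) (kb xb5 yb43 zb17) (kb xb2 yb47 zb54) (kb xb2 yb47 zb55) (kb xb4 yb32 zb49) (kb xb2 yb47 zb44) (kb xb1 yb20 zb14) (kb xb1 yb20 zb15) (kb xb2 yb47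 zb48) (kb xb2 yb47 zb49) (kb xb5 yb43 zb48) (kb xb5 yb43 zb42) (kb xb4 yb33 zb4) (kb xb5 yb43 zb44) (kb xb5 yb43 zb40) (kb xb5 yb43 zb58)) (@D3.rec (fun _ => Pt) (kb xb5 yb43 zb61) (kb xb5 yb44 zb4) (kb xb4 yb33 zb9) (kb xb1 yb20 zb17) (kb xb5 yb44 zb15) (kb xb5 yb44 zb12) (kb xb1 yb20 zb18) (kb xb5 yb44 zb23) (kb xb4 yb36 zb60) (kb xb5 yb44 zb29) (kb xb5 yb44 zb33) (kb xb1 yb20 zb19) (kb xb5 yb44 zb40) (kb xb5 yb44 zb41) (kb xb4 yb30 zb33) (kb xb5 yb44 zb52) (kb xb5 yb44 zb56) (kb xb1 yb20 zb31) (kb xb1 yb20 zb32) (kb xb5 yb45 zb2) (kb xb1 yb20 zb33) (kb xb4 yb33 zb26) (kb xb5 yb30 zb33) (kb xb1 yb20 zb24) (kb xb5 yb45 zb17) (kb xb5 yb44 zb19) (kb xb5 yb45 zb15) (kb xb5 yb45 zb16) (kb xb4 yb33 zb32) (kb xb5 yb29 zb14) (kb xb1 yb20 zb26) (kb xb5 yb45 zb32) (kb xb5 yb45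 zb30) (kb xb5 yb45 zb31) (kb xb4 yb30 zb38) (kb xb5 yb45 zb36) (kb xb4 yb33 zb38) (kb xb1 yb20 zb28) (kb xb5 yb45 zb43) (kb xb5 yb45 zb46) (kb xb5 yb45 zb41) (kb xb5 yb45 zb42) (kb xb1 yb20 zb29) (kb xb5 yb45 zb55) (kb xb5 yb45 zb52) (kb xb5 yb45 zb53) (kb xb1 yb20 zb30) (kb xb5 yb46 zb6) (kb xb5 yb46 zb4) (kb xb5 yb46 zb5) (kb xb5 yb44 zb60) (kb xb5 yb46 zb10) (kb xb5 yb46 zb14) (kb xb5 yb45 zb1) (kb xb5 yb46 zb21) (kb xb5 yb46 zb22) (kb xb4 yb41 zb19) (kb xb3 yb4 zb1) (kb xb1 yb20 zb35) (kb xb1 yb20 zb36) (kb xb5 yb46 zb27) (kb xb5 yb37 zb41)) (@D3.rec (fun _ => Pt) (kb xb5 yb46 zb38) (kb xb5 yb46 zb30) (kb xb5 yb46 zb31) (kb xb5 yb37 zb12) (kb xb5 yb46 zb45) (kb xb4 yb24 zb18) (kb xb1 yb31 zb12) (kb xb3 yb0 zb29) (kb xb2 yb26 zb10) (kb xb1 yb20 zb46) (kb xb1 yb20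 zb47) (kb xb4 yb33 zb6) (kb xb1 yb20 zb45) (kb xb5 yb46 zb53) (kb xb2 yb13 zb30) (kb xb5 yb46 zb58) (kb xb2 yb47 zb23) (kb xb1 yb20 zb48) (kb xb4 yb34 zb19) (kb xb1 yb20 zb49) (kb xb1 yb20 zb55) (kb xb3 yb5 zb38) (kb xb2 yb52 zb5) (kb xb3 yb4 zb46) (kb xb1 yb32 zb46) (kb xb1 yb20 zb53) (kb xb5 yb37 zb50) (kb xb4 yb5 zb52) (kb xb1 yb20 zb54) (kb xb5 yb47 zb7) (kb xb5 yb47 zb8) (kb xb5 yb47 zb14) (kb xb4 yb42 zb46) (kb xb3 yb5 zb42) (kb xb1 yb20 zb56) (kb xb4 yb23 zb45) (kb xb4 yb34 zb23) (kb xb2 yb16 zb49) (kb xb2 yb27 zb9) (kb xb2 yb18 zb50) (kb xb5 yb47 zb22) (kb xb1 yb31 zb3) (kb xb2 yb27 zb22) (kb xb5 yb47 zb28) (kb xb1 yb32 zb52) (kb xb1 yb20 zb60) (kb xb5 yb47 zb37) (kb xb5 yb47 zb39) (kb xb5 yb47 zb36) (kb xb2 yb58 zb16) (kb xb4 yb34 zb24) (kb xb1 yb21 zb1) (kb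 xb1 yb26 zb7) (kb xb1 yb26 zb0) (kb xb1 yb21 zb0) (kb xb4 yb36 zb46) (kb xb5 yb47 zb46) (kb xb3 yb10 zb29) (kb xb3 yb9 zb51) (kb xb2 yb18 zb53) (kb xb1 yb21 zb4) (kb xb1 yb21 zb5)) (@D3.rec (fun _ => Pt) (kb xb1 yb22 zb51) (kb xb2 yb18 zb54) (kb xb3 yb50 zb0) (kb xb5 yb47 zb56) (kb xb5 yb47 zb59) (kb xb5 yb48 zb6) (kb xb4 yb33 zb57) (kb xb5 yb48 zb12) (kb xb1 yb21 zb26) (kb xb1 yb21 zb8) (kb xb5 yb48 zb15) (kb xb1 yb21 zb9) (kb xb3 yb51 zb14) (kb xb5 yb48 zb16) (kb xb5 yb48 zb18) (kb xb3 yb24 zb35) (kb xb1 yb36 zb19) (kb xb1 yb36 zb20) (kb xb5 yb48 zb26) (kb xb5 yb48 zb30) (kb xb1 yb21 zb16) (kb xb1 yb21 zb17) (kb xb1 yb21 zb12) (kb xb3 yb5 zb13) (kb xb5 yb48 zb40) (kb xb5 yb48 zb45) (kb xb1 yb53 zb35) (kb xb1 yb21 zb14) (kb xb5 yb48 zb50) (kb xb1 yb21 zb15) (kb xb5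 yb48 zb56) (kb xb5 yb48 zb57) (kb xb5 yb48 zb60) (kb xb5 yb49 zb0) (kb xb5 yb48 zb37) (kb xb5 yb47 zb43) (kb xb3 yb5 zb39) (kb xb1 yb21 zb19) (kb xb5 yb48 zb42) (kb xb5 yb47 zb51) (kb xb3 yb5 zb43) (kb xb2 yb17 zb55) (kb xb1 yb21 zb21) (kb xb1 yb21 zb22) (kb xb5 yb49 zb16) (kb xb5 yb49 zb19) (kb xb1 yb21 zb23) (kb xb5 yb49 zb24) (kb xb5 yb49 zb23) (kb xb1 yb21 zb24) (kb xb5 yb49 zb30) (kb xb5 yb49 zb29) (kb xb5 yb49 zb33) (kb xb5 yb49 zb34) (kb xb1 yb36 zb0) (kb xb5 yb48 zb10) (kb xb1 yb21 zb27) (kb xb5 yb49 zb39) (kb xb1 yb23 zb1) (kb xb1 yb21 zb30) (kb xb5 yb49 zb44) (kb xb5 yb49 zb46)) (@D3.rec (fun _ => Pt) (kb xb4 yb34 zb15) (kb xb1 yb21 zb33) (kb xb1 yb21 zb34) (kb xb5 yb49 zb54) (kb xb5 yb49 zb51) (kb xb5 yb49 zb53) (kb xb2 yb10 zb43) (kb xb3 yb10 zb24) (kb xb1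 yb21 zb39) (kb xb5 yb50 zb1) (kb xb5 yb49 zb61) (kb xb3 yb4 zb7) (kb xb1 yb21 zb41) (kb xb5 yb50 zb6) (kb xb5 yb50 zb5) (kb xb1 yb21 zb42) (kb xb5 yb50 zb11) (kb xb5 yb50 zb10) (kb xb1 yb21 zb43) (kb xb5 yb50 zb13) (kb xb5 yb50 zb15) (kb xb1 yb36 zb1) (kb xb5 yb50 zb20) (kb xb5 yb50 zb24) (kb xb1 yb21 zb48) (kb xb1 yb21 zb46) (kb xb5 yb50 zb30) (kb xb5 yb50 zb31) (kb xb1 yb21 zb47) (kb xb5 yb50 zb35) (kb xb5 yb50 zb36) (kb xb1 yb21 zb50) (kb xb5 yb50 zb42) (kb xb2 yb15 zb32) (kb xb5 yb50 zb45) (kb xb5 yb50 zb41) (kb xb3 yb37 zb3) (kb xb4 yb41 zb20) (kb xb5 yb50 zb53) (kb xb2 yb54 zb35) (kb xb4 yb25 zb46) (kb xb1 yb21 zb55) (kb xb1 yb21 zb54) (kb xb3 yb20 zb15) (kb xb2 yb15 zb20) (kb xb5 yb50 zb59) (kb xb2 yb15 zb5) (kb xb2 yb15 zb6) (kb xb5 yb51 zb3) (kb xb4 yb34 zb43)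 (kb xb1 yb21 zb59) (kb xb1 yb50 zb46) (kb xb5 yb51 zb8) (kb xb1 yb21 zb60) (kb xb5 yb51 zb16) (kb xb5 yb51 zb15) (kb xb5 yb51 zb20) (kb xb1 yb39 zb57) (kb xb1 yb34 zb4) (kb xb5 yb51 zb25) (kb xb5 yb51 zb29) (kb xb1 yb22 zb7)) (@D3.rec (fun _ => Pt) (kb xb1 yb29 zb21) (kb xb1 yb22 zb2) (kb xb4 yb7 zb24) (kb xb5 yb51 zb12) (kb xb5 yb51 zb38) (kb xb2 yb49 zb22) (kb xb1 yb29 zb35) (kb xb1 yb22 zb4) (kb xb5 yb51 zb47) (kb xb5 yb51 zb48) (kb xb1 yb22 zb5) (kb xb5 yb51 zb51) (kb xb5 yb51 zb52) (kb xb1 yb22 zb6) (kb xb3 yb23 zb35) (kb xb5 yb51 zb60) (kb xb5 yb0 zb29) (kb xb1 yb22 zb10) (kb xb5 yb52 zb1) (kb xb4 yb34 zb50) (kb xb1 yb22 zb16) (kb xb5 yb52 zb7) (kb xb5 yb52 zb6) (kb xb1 yb22 zb17) (kb xb5 yb52 zb12) (kb xb5 yb52 zb11) (kb xb5 yb52 zb15) (kb xb5 yb52 zb17) (kb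 xb1 yb33 zb38) (kb xb1 yb33 zb39) (kb xb5 yb52 zb23) (kb xb5 yb52 zb27) (kb xb1 yb22 zb23) (kb xb1 yb22 zb24) (kb xb5 yb52 zb35) (kb xb5 yb52 zb38) (kb xb5 yb36 zb53) (kb xb1 yb22 zb21) (kb xb5 yb52 zb45) (kb xb1 yb22 zb22) (kb xb5 yb52 zb49) (kb xb5 yb52 zb52) (kb xb5 yb52 zb53) (kb xb5 yb52 zb34) (kb xb4 yb57 zb44) (kb xb4 yb35 zb5) (kb xb2 yb26 zb56) (kb xb1 yb22 zb26) (kb xb1 yb22 zb28) (kb xb5 yb53 zb3) (kb xb1 yb22 zb29) (kb xb5 yb53 zb6) (kb xb1 yb22 zb30) (kb xb4 yb39 zb31) (kb xb1 yb24 zb12) (kb xb1 yb23 zb6) (kb xb1 yb22 zb33) (kb xb5 yb53 zb13) (kb xb4 yb38 zb26) (kb xb1 yb22 zb34) (kb xb5 yb53 zb15) (kb xb1 yb22 zb36)) (@D3.rec (fun _ => Pt) (kb xb5 yb53 zb22) (kb xb5 yb53 zb21) (kb xb1 yb22 zb39) (kb xb1 yb22 zb40) (kb xb4 yb0 zb40) (kb xb4 yb36 zb51) (kb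 xb4 yb36 zb52) (kb xb3 yb23 zb40) (kb xb5 yb53 zb25) (kb xb4 yb35 zb11) (kb xb5 yb53 zb26) (kb xb4 yb24 zb41) (kb xb1 yb22 zb43) (kb xb4 yb24 zb19) (kb xb5 yb53 zb46) (kb xb5 yb53 zb43) (kb xb1 yb22 zb44) (kb xb5 yb53 zb49) (kb xb5 yb53 zb50) (kb xb4 yb35 zb22) (kb xb4 yb5 zb39) (kb xb2 yb31 zb9) (kb xb4 yb35 zb24) (kb xb4 yb35 zb25) (kb xb2 yb27 zb4) (kb xb2 yb54 zb10) (kb xb2 yb54 zb11) (kb xb1 yb22 zb48) (kb xb4 yb42 zb43) (kb xb4 yb41 zb21) (kb xb3 yb10 zb27) (kb xb4 yb24 zb48) (kb xb2 yb9 zb61) (kb xb5 yb54 zb20) (kb xb4 yb1 zb16) (kb xb2 yb10 zb0) (kb xb2 yb10 zb1) (kb xb3 yb55 zb41) (kb xb5 yb47 zb60) (kb xb1 yb22 zb52) (kb xb5 yb54 zb34) (kb xb5 yb54 zb33) (kb xb5 yb54 zb40) (kb xb5 yb54 zb43) (kb xb1 yb22 zb60) (kb xb1 yb22 zb54) (kb xb4 yb37 zb1) (kb xb5 yb54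 zb49) (kb xb5 yb43 zb43) (kb xb1 yb22 zb55) (kb xb5 yb54 zb59) (kb xb5 yb54 zb58) (kb xb5 yb55 zb1) (kb xb3 yb5 zb10) (kb xb5 yb55 zb7) (kb xb1 yb23 zb0) (kb xb1 yb22 zb58) (kb xb5 yb55 zb12) (kb xb5 yb55 zb13) (kb xb1 yb22 zb59) (kb xb3 yb23 zb3) (kb xb5 yb55 zb17)) (@D3.rec (fun _ => Pt) (kb xb5 yb55 zb20) (kb xb1 yb37 zb50) (kb xb5 yb55 zb23) (kb xb1 yb22 zb61) (kb xb5 yb55 zb10) (kb xb4 yb0 zb41) (kb xb5 yb49 zb41) (kb xb3 yb17 zb51) (kb xb4 yb42 zb59) (kb xb1 yb23 zb5) (kb xb2 yb53 zb25) (kb xb2 yb53 zb26) (kb xb5 yb55 zb42) (kb xb5 yb55 zb38) (kb xb5 yb53 zb9) (kb xb4 yb24 zb44) (kb xb4 yb24 zb45) (kb xb5 yb55 zb51) (kb xb4 yb36 zb1) (kb xb4 yb36 zb3) (kb xb1 yb23 zb10) (kb xb2 yb27 zb1) (kb xb5 yb55 zb61) (kb xb1 yb23 zb11) (kb xb5 yb56 zb3) (kb xb4 yb36 zb21)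 (kb xb5 yb56 zb7) (kb xb5 yb56 zb9) (kb xb5 yb56 zb14) (kb xb2 yb26 zb51) (kb xb4 yb24 zb43) (kb xb5 yb41 zb22) (kb xb2 yb26 zb54) (kb xb2 yb26 zb55) (kb xb4 yb38 zb5) (kb xb2 yb51 zb39) (kb xb1 yb23 zb15) (kb xb5 yb56 zb35) (kb xb5 yb56 zb34) (kb xb5 yb56 zb41) (kb xb3 yb16 zb5) (kb xb1 yb32 zb42) (kb xb1 yb32 zb43) (kb xb5 yb56 zb49) (kb xb5 yb56 zb53) (kb xb1 yb23 zb23) (kb xb1 yb23 zb24) (kb xb5 yb56 zb61) (kb xb5 yb43 zb12) (kb xb4 yb39 zb13) (kb xb5 yb57 zb6) (kb xb5 yb29 zb17) (kb xb1 yb23 zb26) (kb xb1 yb23 zb21) (kb xb5 yb57 zb17) (kb xb1 yb23 zb22) (kb xb5 yb57 zb21) (kb xb5 yb57 zb22) (kb xb5 yb57 zb23) (kb xb5 yb57 zb24) (kb xb5 yb56 zb60) (kb xb1 yb23 zb25)) (@D3.rec (fun _ => Pt) (kb xb5 yb57 zb13) (kb xb4 yb36 zb37) (kb xb1 yb23 zb29) (kb xb1 yb23 zb30)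 (kb xb5 yb57 zb34) (kb xb5 yb57 zb31) (kb xb5 yb57 zb32) (kb xb1 yb31 zb21) (kb xb2 yb14 zb21) (kb xb5 yb57 zb38) (kb xb1 yb23 zb42) (kb xb4 yb35 zb23) (kb xb1 yb23 zb45) (kb xb1 yb23 zb46) (kb xb2 yb19 zb1) (kb xb2 yb27 zb17) (kb xb2 yb14 zb52) (kb xb1 yb23 zb37) (kb xb1 yb23 zb38) (kb xb1 yb31 zb19) (kb xb5 yb57 zb57) (kb xb5 yb57 zb53) (kb xb2 yb55 zb44) (kb xb2 yb14 zb58) (kb xb5 yb57 zb54) (kb xb5 yb7 zb36) (kb xb5 yb58 zb4) (kb xb4 yb37 zb7) (kb xb5 yb58 zb11) (kb xb4 yb44 zb57) (kb xb1 yb23 zb41) (kb xb5 yb58 zb19) (kb xb5 yb58 zb20) (kb xb5 yb58 zb21) (kb xb4 yb37 zb14) (kb xb5 yb57 zb43) (kb xb5 yb57 zb44) (kb xb2 yb55 zb52) (kb xb4 yb37 zb18) (kb xb4 yb37 zb19) (kb xb1 yb48 zb43) (kb xb5 yb57 zb48) (kb xb2 yb55 zb53) (kb xb4 yb36 zb41) (kb xb2 yb55 zb22) (kb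 xb1 yb24 zb13) (kb xb5 yb58 zb39) (kb xb1 yb23 zb55) (kb xb4 yb36 zb2) (kb xb1 yb23 zb57) (kb xb1 yb23 zb58) (kb xb5 yb58 zb51) (kb xb2 yb55 zb37) (kb xb2 yb55 zb42) (kb xb1 yb23 zb54) (kb xb5 yb58 zb60) (kb xb5 yb58 zb61) (kb xb4 yb37 zb33) (kb xb5 yb58 zb44) (kb xb5 yb58 zb45) (kb xb4 yb37 zb36) (kb xb4 yb37 zb37)) (@D3.rec (fun _ => Pt) (kb xb5 yb59 zb17) (kb xb5 yb58 zb50) (kb xb1 yb23 zb59) (kb xb5 yb59 zb21) (kb xb5 yb59 zb22) (kb xb5 yb59 zb27) (kb xb5 yb59 zb31) (kb xb4 yb37 zb45) (kb xb4 yb48 zb50) (kb xb5 yb59 zb36) (kb xb1 yb24 zb1) (kb xb5 yb59 zb43) (kb xb4 yb46 zb0) (kb xb1 yb24 zb0) (kb xb5 yb59 zb49) (kb xb5 yb59 zb50) (kb xb4 yb37 zb51) (kb xb1 yb24 zb19) (kb xb5 yb59 zb41) (kb xb5 yb59 zb42) (kb xb3 yb0 zb35) (kb xb6 yb0 zb3) (kb xb1 yb24 zb4) (kb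 xb1 yb24 zb3) (kb xb6 yb0 zb10) (kb xb6 yb0 zb11) (kb xb1 yb24 zb25) (kb xb4 yb37 zb59) (kb xb6 yb0 zb2) (kb xb6 yb0 zb7) (kb xb1 yb24 zb5) (kb xb5 yb47 zb42) (kb xb6 yb0 zb31) (kb xb3 yb51 zb18) (kb xb1 yb24 zb6) (kb xb1 yb38 zb17) (kb xb6 yb0 zb41) (kb xb6 yb0 zb42) (kb xb3 yb30 zb16) (kb xb5 yb54 zb4) (kb xb6 yb0 zb47) (kb xb4 yb46 zb60) (kb xb3 yb51 zb47) (kb xb6 yb0 zb55) (kb xb4 yb47 zb14) (kb xb4 yb47 zb11) (kb xb1 yb24 zb9) (kb xb6 yb1 zb6) (kb xb6 yb1 zb3) (kb xb6 yb1 zb4) (kb xb1 yb24 zb10) (kb xb6 yb1 zb21) (kb xb6 yb1 zb19) (kb xb6 yb1 zb20) (kb xb5 yb53 zb8) (kb xb5 yb58 zb38) (kb xb5 yb53 zb10) (kb xb6 yb1 zb33) (kb xb6 yb1 zb38) (kb xb6 yb1 zb40) (kb xb4 yb38 zb29) (kb xb6 yb1 zb46)) (@D3.rec (fun _ => Pt) (kb xb6 yb1 zb48) (kb xb1 yb31 zb50) (kb xb6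 yb1 zb52) (kb xb6 yb1 zb55) (kb xb1 yb24 zb20) (kb xb1 yb24 zb21) (kb xb1 yb24 zb18) (kb xb6 yb2 zb1) (kb xb5 yb59 zb59) (kb xb5 yb59 zb60) (kb xb6 yb2 zb8) (kb xb6 yb1 zb61) (kb xb6 yb2 zb11) (kb xb4 yb38 zb44) (kb xb6 yb2 zb17) (kb xb1 yb34 zb32) (kb xb1 yb30 zb5) (kb xb1 yb30 zb6) (kb xb4 yb38 zb57) (kb xb6 yb0 zb24) (kb xb1 yb24 zb28) (kb xb6 yb0 zb18) (kb xb6 yb0 zb19) (kb xb1 yb24 zb26) (kb xb6 yb2 zb36) (kb xb6 yb2 zb37) (kb xb6 yb0 zb23) (kb xb6 yb2 zb15) (kb xb6 yb2 zb46) (kb xb4 yb37 zb60) (kb xb6 yb1 zb16) (kb xb4 yb39 zb0) (kb xb1 yb24 zb31) (kb xb1 yb24 zb32) (kb xb1 yb32 zb9) (kb xb6 yb3 zb0) (kb xb6 yb1 zb10) (kb xb6 yb3 zb6) (kb xb6 yb2 zb56) (kb xb6 yb1 zb13) (kb xb6 yb2 zb59) (kb xb6 yb1 zb0) (kb xb4 yb39 zb9) (kb xb4 yb43 zb3) (kb xb1 yb24 zb35) (kb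 xb1 yb24 zb36) (kb xb4 yb13 zb19) (kb xb6 yb3 zb21) (kb xb6 yb3 zb16) (kb xb6 yb3 zb19) (kb xb2 yb10 zb36) (kb xb1 yb24 zb38) (kb xb5 yb55 zb59) (kb xb6 yb1 zb26) (kb xb6 yb3 zb31) (kb xb6 yb3 zb28) (kb xb6 yb3 zb36) (kb xb4 yb37 zb34) (kb xb1 yb24 zb40) (kb xb6 yb3 zb43) (kb xb6 yb3 zb42) (kb xb1 yb24 zb41)) (@D3.rec (fun _ => Pt) (kb xb6 yb3 zb50) (kb xb6 yb3 zb49) (kb xb6 yb3 zb55) (kb xb6 yb3 zb57) (kb xb1 yb24 zb42) (kb xb6 yb4 zb0) (kb xb1 yb24 zb44) (kb xb6 yb4 zb4) (kb xb6 yb4 zb3) (kb xb1 yb24 zb45) (kb xb5 yb57 zb4) (kb xb6 yb4 zb10) (kb xb1 yb24 zb46) (kb xb6 yb4 zb11) (kb xb2 yb12 zb34) (kb xb1 yb24 zb48) (kb xb2 yb49 zb49) (kb xb6 yb4 zb14) (kb xb1 yb24 zb49) (kb xb1 yb28 zb24) (kb xb1 yb24 zb52) (kb xb6 yb4 zb18) (kb xb6 yb4 zb21) (kb xb1 yb58 zb29) (kb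 xb2 yb58 zb35) (kb xb1 yb58 zb34) (kb xb6 yb4 zb30) (kb xb2 yb36 zb50) (kb xb1 yb24 zb60) (kb xb4 yb0 zb61) (kb xb4 yb1 zb0) (kb xb6 yb4 zb40) (kb xb6 yb4 zb35) (kb xb1 yb25 zb2) (kb xb1 yb25 zb3) (kb xb2 yb58 zb24) (kb xb2 yb5 zb45) (kb xb6 yb4 zb50) (kb xb6 yb4 zb47) (kb xb1 yb25 zb4) (kb xb5 yb23 zb22) (kb xb6 yb4 zb57) (kb xb1 yb25 zb5) (kb xb6 yb5 zb3) (kb xb6 yb5 zb2) (kb xb6 yb5 zb9) (kb xb6 yb5 zb12) (kb xb1 yb25 zb6) (kb xb6 yb5 zb18) (kb xb6 yb5 zb19) (kb xb1 yb25 zb28) (kb xb6 yb5 zb30) (kb xb1 yb25 zb11) (kb xb6 yb5 zb36) (kb xb1 yb25 zb10) (kb xb6 yb5 zb40) (kb xb6 yb5 zb41) (kb xb6 yb4 zb43) (kb xb6 yb5 zb35) (kb xb1 yb57 zb49) (kb xb1 yb57 zb50) (kb xb2 yb33 zb11)) (@D3.rec (fun _ => Pt) (kb xb6 yb5 zb48) (kb xb1 yb25 zb16) (kb xb1 yb25 zb15) (kb xb5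 yb54 zb36) (kb xb6 yb5 zb56) (kb xb6 yb4 zb53) (kb xb6 yb5 zb52) (kb xb6 yb5 zb60) (kb xb1 yb25 zb19) (kb xb1 yb25 zb18) (kb xb6 yb6 zb7) (kb xb6 yb6 zb8) (kb xb6 yb6 zb13) (kb xb6 yb5 zb0) (kb xb6 yb6 zb3) (kb xb6 yb6 zb18) (kb xb1 yb25 zb22) (kb xb1 yb25 zb21) (kb xb6 yb6 zb27) (kb xb6 yb5 zb6) (kb xb6 yb6 zb29) (kb xb6 yb6 zb23) (kb xb1 yb25 zb23) (kb xb6 yb6 zb34) (kb xb6 yb6 zb35) (kb xb1 yb25 zb24) (kb xb4 yb35 zb17) (kb xb1 yb36 zb51) (kb xb4 yb48 zb61) (kb xb2 yb39 zb60) (kb xb1 yb25 zb26) (kb xb1 yb25 zb27) (kb xb5 yb4 zb35) (kb xb6 yb6 zb51) (kb xb6 yb6 zb49) (kb xb6 yb6 zb50) (kb xb6 yb6 zb59) (kb xb1 yb25 zb32) (kb xb1 yb25 zb31) (kb xb6 yb7 zb6) (kb xb6 yb7 zb7) (kb xb6 yb7 zb8) (kb xb6 yb7 zb2) (kb xb1 yb25 zb33) (kb xb5 yb7 zb51) (kb xb5 yb17 zb14) (kb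 xb6 yb7 zb12) (kb xb1 yb25 zb38) (kb xb1 yb25 zb37) (kb xb6 yb7 zb19) (kb xb6 yb7 zb22) (kb xb6 yb7 zb16) (kb xb2 yb34 zb15) (kb xb6 yb7 zb26) (kb xb1 yb25 zb41) (kb xb5 yb5 zb51) (kb xb2 yb27 zb56) (kb xb5 yb37 zb57) (kb xb2 yb33 zb35) (kb xb1 yb58 zb3) (kb xb1 yb25 zb46) (kb xb6 yb7 zb39))
def f_b_3 : D2 → D3 → Pt := @D2.rec (fun _ => D3 → Pt) (@D3.rec (fun _ => Pt) (kb xb1 yb58 zb7) (kb xb1 yb25 zb48) (kb xb1 yb25 zb49) (kb xb6 yb7 zb44) (kb xb6 yb7 zb45) (kb xb4 yb39 zb41) (kb xb5 yb47 zb61) (kb xb3 yb13 zb47) (kb xb5 yb6 zb29) (kb xb2 yb33 zb4) (kb xb1 yb25 zb51) (kb xb6 yb7 zb54) (kb xb6 yb7 zb55) (kb xb4 yb35 zb38) (kb xb6 yb7 zb61) (kb xb6 yb8 zb3) (kb xb1 yb25 zb58) (kb xb1 yb25 zb59) (kb xb1 yb25 zb60) (kb xb1 yb25 zb55) (kb xb5 yb54 zb32) (kb xb1 yb25 zb56)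 (kb xb6 yb8 zb16) (kb xb1 yb25 zb57) (kb xb6 yb8 zb22) (kb xb6 yb8 zb26) (kb xb6 yb8 zb28) (kb xb6 yb8 zb9) (kb xb6 yb8 zb10) (kb xb2 yb49 zb7) (kb xb5 yb47 zb47) (kb xb1 yb26 zb3) (kb xb1 yb26 zb2) (kb xb2 yb17 zb48) (kb xb6 yb8 zb33) (kb xb2 yb56 zb20) (kb xb3 yb30 zb17) (kb xb6 yb8 zb36) (kb xb3 yb5 zb56) (kb xb3 yb5 zb57) (kb xb6 yb8 zb43) (kb xb6 yb8 zb47) (kb xb1 yb26 zb13) (kb xb2 yb44 zb35) (kb xb5 yb37 zb54) (kb xb1 yb26 zb16) (kb xb1 yb26 zb11) (kb xb6 yb8 zb55) (kb xb6 yb8 zb56) (kb xb1 yb26 zb12) (kb xb6 yb8 zb59) (kb xb6 yb8 zb60) (kb xb1 yb26 zb14) (kb xb6 yb9 zb1) (kb xb6 yb9 zb2) (kb xb1 yb26 zb15) (kb xb2 yb13 zb34) (kb xb6 yb9 zb8) (kb xb2 yb44 zb58) (kb xb4 yb36 zb9) (kb xb4 yb36 zb12) (kb xb4 yb36 zb13)) (@D3.rec (fun _ => Pt) (kb xb3 yb1 zb0) (kb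 xb3 yb1 zb1) (kb xb3 yb10 zb37) (kb xb2 yb18 zb16) (kb xb3 yb22 zb46) (kb xb3 yb9 zb31) (kb xb1 yb26 zb27) (kb xb4 yb10 zb31) (kb xb1 yb26 zb28) (kb xb6 yb9 zb22) (kb xb6 yb9 zb26) (kb xb1 yb26 zb31) (kb xb2 yb20 zb25) (kb xb1 yb26 zb34) (kb xb6 yb9 zb32) (kb xb3 yb13 zb41) (kb xb4 yb40 zb9) (kb xb4 yb43 zb1) (kb xb3 yb8 zb7) (kb xb6 yb9 zb39) (kb xb6 yb9 zb43) (kb xb1 yb26 zb38) (kb xb6 yb9 zb48) (kb xb3 yb5 zb54) (kb xb3 yb5 zb55) (kb xb1 yb26 zb42) (kb xb4 yb18 zb12) (kb xb3 yb10 zb32) (kb xb1 yb34 zb9) (kb xb3 yb7 zb26) (kb xb1 yb26 zb49) (kb xb1 yb26 zb50) (kb xb1 yb43 zb53) (kb xb3 yb32 zb0) (kb xb3 yb32 zb1) (kb xb3 yb9 zb33) (kb xb6 yb10 zb1) (kb xb6 yb9 zb60) (kb xb3 yb6 zb15) (kb xb1 yb40 zb30) (kb xb1 yb26 zb55) (kb xb6 yb10 zb6) (kb xb1 yb26 zb56) (kb xb6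 yb10 zb11) (kb xb6 yb10 zb12) (kb xb6 yb10 zb16) (kb xb6 yb10 zb20) (kb xb4 yb40 zb22) (kb xb6 yb10 zb23) (kb xb1 yb26 zb59) (kb xb4 yb38 zb31) (kb xb1 yb34 zb17) (kb xb6 yb10 zb27) (kb xb1 yb27 zb0) (kb xb1 yb26 zb61) (kb xb6 yb10 zb32) (kb xb6 yb10 zb33) (kb xb4 yb40 zb29) (kb xb6 yb10 zb26) (kb xb1 yb27 zb1) (kb xb6 yb10 zb43) (kb xb6 yb10 zb44)) (@D3.rec (fun _ => Pt) (kb xb1 yb27 zb2) (kb xb2 yb19 zb11) (kb xb6 yb10 zb47) (kb xb6 yb10 zb51) (kb xb6 yb10 zb53) (kb xb6 yb10 zb10) (kb xb1 yb27 zb4) (kb xb1 yb27 zb5) (kb xb6 yb10 zb58) (kb xb4 yb39 zb60) (kb xb6 yb11 zb6) (kb xb2 yb29 zb40) (kb xb6 yb10 zb61) (kb xb6 yb11 zb0) (kb xb4 yb39 zb61) (kb xb1 yb27 zb7) (kb xb5 yb16 zb47) (kb xb6 yb11 zb18) (kb xb1 yb27 zb8) (kb xb6 yb11 zb29) (kb xb6 yb11 zb26) (kb xb6 yb11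 zb28) (kb xb1 yb27 zb27) (kb xb6 yb10 zb22) (kb xb6 yb11 zb39) (kb xb1 yb27 zb30) (kb xb1 yb27 zb11) (kb xb6 yb11 zb44) (kb xb6 yb11 zb48) (kb xb4 yb40 zb50) (kb xb5 yb14 zb32) (kb xb6 yb11 zb55) (kb xb1 yb27 zb17) (kb xb1 yb27 zb18) (kb xb1 yb27 zb15) (kb xb6 yb12 zb2) (kb xb1 yb27 zb16) (kb xb6 yb12 zb5) (kb xb6 yb8 zb54) (kb xb6 yb12 zb8) (kb xb6 yb12 zb11) (kb xb6 yb12 zb16) (kb xb6 yb12 zb0) (kb xb6 yb11 zb25) (kb xb4 yb40 zb47) (kb xb6 yb12 zb21) (kb xb1 yb27 zb21) (kb xb1 yb27 zb22) (kb xb1 yb27 zb20) (kb xb6 yb12 zb28) (kb xb6 yb12 zb29) (kb xb4 yb41 zb1) (kb xb1 yb59 zb59) (kb xb6 yb12 zb24) (kb xb6 yb11 zb22) (kb xb6 yb12 zb27) (kb xb6 yb11 zb16) (kb xb3 yb43 zb19) (kb xb6 yb12 zb36) (kb xb1 yb27 zb26) (kb xb1 yb27 zb24) (kb xb6 yb12 zb40)) (@D3.rec (fun _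 => Pt) (kb xb6 yb12 zb41) (kb xb6 yb12 zb44) (kb xb6 yb11 zb33) (kb xb6 yb12 zb39) (kb xb3 yb5 zb59) (kb xb6 yb11 zb36) (kb xb1 yb27 zb28) (kb xb6 yb12 zb47) (kb xb1 yb27 zb29) (kb xb6 yb12 zb50) (kb xb6 yb12 zb51) (kb xb6 yb12 zb53) (kb xb6 yb12 zb56) (kb xb6 yb12 zb61) (kb xb1 yb27 zb31) (kb xb4 yb52 zb53) (kb xb2 yb10 zb10) (kb xb1 yb27 zb33) (kb xb6 yb13 zb5) (kb xb4 yb39 zb16) (kb xb6 yb13 zb4) (kb xb4 yb36 zb11) (kb xb6 yb13 zb12) (kb xb2 yb27 zb19) (kb xb2 yb27 zb23) (kb xb1 yb27 zb37) (kb xb1 yb57 zb8) (kb xb2 yb26 zb59) (kb xb2 yb27 zb28) (kb xb6 yb13 zb22) (kb xb1 yb27 zb40) (kb xb1 yb27 zb41) (kb xb6 yb13 zb29) (kb xb6 yb13 zb28) (kb xb1 yb27 zb44) (kb xb4 yb36 zb54) (kb xb4 yb0 zb39) (kb xb1 yb27 zb47) (kb xb6 yb13 zb33) (kb xb4 yb24 zb58) (kb xb2 yb26 zb53)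 (kb xb2 yb33 zb18) (kb xb6 yb13 zb42) (kb xb6 yb13 zb45) (kb xb1 yb28 zb8) (kb xb1 yb27 zb52) (kb xb3 yb39 zb29) (kb xb1 yb45 zb25) (kb xb2 yb13 zb50) (kb xb1 yb27 zb58) (kb xb6 yb13 zb56) (kb xb4 yb22 zb28) (kb xb2 yb26 zb2) (kb xb6 yb14 zb3) (kb xb3 yb4 zb40) (kb xb2 yb10 zb42) (kb xb5 yb46 zb52) (kb xb3 yb4 zb44) (kb xb4 yb42 zb47) (kb xb1 yb31 zb10) (kb xb1 yb28 zb2) (kb xb6 yb14 zb11)) (@D3.rec (fun _ => Pt) (kb xb3 yb33 zb42) (kb xb2 yb48 zb57) (kb xb1 yb28 zb4) (kb xb1 yb28 zb5) (kb xb6 yb14 zb18) (kb xb6 yb14 zb20) (kb xb6 yb14 zb21) (kb xb2 yb51 zb11) (kb xb3 yb10 zb15) (kb xb3 yb10 zb16) (kb xb3 yb10 zb8) (kb xb2 yb7 zb45) (kb xb6 yb13 zb48) (kb xb1 yb45 zb24) (kb xb4 yb24 zb21) (kb xb1 yb28 zb11) (kb xb6 yb14 zb46) (kb xb1 yb28 zb12) (kb xb1 yb28 zb14) (kb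 xb1 yb28 zb15) (kb xb6 yb14 zb49) (kb xb6 yb14 zb52) (kb xb6 yb14 zb44) (kb xb6 yb14 zb45) (kb xb3 yb33 zb26) (kb xb6 yb14 zb48) (kb xb1 yb28 zb13) (kb xb6 yb14 zb61) (kb xb6 yb15 zb0) (kb xb3 yb39 zb20) (kb xb6 yb15 zb4) (kb xb3 yb43 zb47) (kb xb3 yb39 zb22) (kb xb3 yb36 zb35) (kb xb4 yb24 zb9) (kb xb1 yb28 zb18) (kb xb6 yb15 zb9) (kb xb6 yb15 zb10) (kb xb3 yb4 zb38) (kb xb6 yb15 zb14) (kb xb3 yb3 zb54) (kb xb6 yb9 zb5) (kb xb3 yb4 zb54) (kb xb1 yb28 zb25) (kb xb3 yb3 zb57) (kb xb6 yb15 zb18) (kb xb2 yb49 zb23) (kb xb2 yb44 zb41) (kb xb6 yb15 zb29) (kb xb1 yb28 zb28) (kb xb1 yb28 zb29) (kb xb6 yb15 zb34) (kb xb1 yb28 zb33) (kb xb1 yb28 zb34) (kb xb3 yb4 zb42) (kb xb4 yb23 zb46) (kb xb1 yb28 zb32) (kb xb6 yb15 zb38) (kb xb4 yb22 zb30) (kb xb3 yb23 zb32) (kb xb6 yb15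 zb35) (kb xb4 yb31 zb2)) (@D3.rec (fun _ => Pt) (kb xb6 yb15 zb37) (kb xb2 yb44 zb52) (kb xb4 yb24 zb11) (kb xb1 yb28 zb37) (kb xb1 yb28 zb38) (kb xb4 yb24 zb12) (kb xb4 yb24 zb13) (kb xb4 yb34 zb44) (kb xb6 yb15 zb58) (kb xb2 yb30 zb16) (kb xb2 yb53 zb53) (kb xb5 yb12 zb25) (kb xb1 yb28 zb41) (kb xb2 yb50 zb23) (kb xb4 yb41 zb24) (kb xb2 yb17 zb1) (kb xb1 yb28 zb40) (kb xb4 yb24 zb2) (kb xb6 yb16 zb21) (kb xb6 yb16 zb22) (kb xb3 yb35 zb45) (kb xb6 yb16 zb13) (kb xb6 yb16 zb14) (kb xb6 yb16 zb33) (kb xb6 yb16 zb18) (kb xb6 yb16 zb40) (kb xb1 yb28 zb47) (kb xb1 yb28 zb44) (kb xb6 yb16 zb45) (kb xb1 yb28 zb45) (kb xb6 yb16 zb49) (kb xb6 yb16 zb50) (kb xb1 yb28 zb46) (kb xb6 yb16 zb54) (kb xb6 yb16 zb55) (kb xb6 yb16 zb43) (kb xb1 yb44 zb44) (kb xb1 yb28 zb54) (kb xb2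 yb49 zb21) (kb xb2 yb50 zb36) (kb xb1 yb28 zb52) (kb xb1 yb28 zb53) (kb xb2 yb49 zb33) (kb xb2 yb50 zb40) (kb xb1 yb28 zb56) (kb xb1 yb28 zb57) (kb xb6 yb17 zb14) (kb xb6 yb17 zb11) (kb xb1 yb46 zb56) (kb xb1 yb29 zb0) (kb xb1 yb37 zb34) (kb xb2 yb17 zb59) (kb xb6 yb17 zb16) (kb xb6 yb17 zb20) (kb xb3 yb1 zb23) (kb xb3 yb1 zb24) (kb xb3 yb0 zb38) (kb xb3 yb0 zb39) (kb xb6 yb17 zb30) (kb xb3 yb3 zb4) (kb xb1 yb29 zb9) (kb xb1 yb29 zb10)) (@D3.rec (fun _ => Pt) (kb xb1 yb48 zb16) (kb xb3 yb27 zb52) (kb xb3 yb35 zb10) (kb xb6 yb17 zb44) (kb xb1 yb29 zb7) (kb xb6 yb17 zb47) (kb xb1 yb29 zb8) (kb xb6 yb17 zb50) (kb xb6 yb17 zb51) (kb xb4 yb45 zb4) (kb xb6 yb17 zb54) (kb xb6 yb17 zb58) (kb xb4 yb47 zb59) (kb xb1 yb29 zb11) (kb xb1 yb35 zb8) (kb xb3 yb1 zb38) (kb xb4 yb46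 zb27) (kb xb4 yb40 zb14) (kb xb4 yb40 zb15) (kb xb1 yb29 zb17) (kb xb6 yb18 zb8) (kb xb3 yb39 zb57) (kb xb3 yb42 zb33) (kb xb6 yb18 zb13) (kb xb3 yb12 zb47) (kb xb3 yb11 zb39) (kb xb6 yb18 zb21) (kb xb6 yb18 zb23) (kb xb5 yb51 zb34) (kb xb5 yb51 zb35) (kb xb6 yb18 zb31) (kb xb6 yb18 zb34) (kb xb1 yb29 zb28) (kb xb1 yb29 zb29) (kb xb3 yb10 zb55) (kb xb4 yb47 zb33) (kb xb3 yb42 zb31) (kb xb4 yb18 zb30) (kb xb6 yb18 zb47) (kb xb1 yb29 zb26) (kb xb3 yb8 zb32) (kb xb1 yb29 zb38) (kb xb1 yb29 zb27) (kb xb5 yb30 zb56) (kb xb6 yb18 zb51) (kb xb2 yb3 zb4) (kb xb6 yb18 zb53) (kb xb6 yb18 zb40) (kb xb1 yb29 zb30) (kb xb3 yb28 zb22) (kb xb1 yb29 zb33) (kb xb6 yb18 zb60) (kb xb6 yb19 zb0) (kb xb3 yb12 zb36) (kb xb3 yb59 zb25) (kb xb3 yb59 zb26) (kb xb3 yb45 zb20) (kb xb6 yb19 zb4)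 (kb xb1 yb29 zb39) (kb xb1 yb29 zb37) (kb xb3 yb12 zb11) (kb xb6 yb19 zb8)) (@D3.rec (fun _ => Pt) (kb xb1 yb29 zb46) (kb xb1 yb38 zb16) (kb xb1 yb29 zb48) (kb xb1 yb29 zb44) (kb xb1 yb42 zb36) (kb xb6 yb19 zb16) (kb xb6 yb19 zb18) (kb xb3 yb17 zb38) (kb xb3 yb12 zb45) (kb xb6 yb19 zb11) (kb xb6 yb19 zb12) (kb xb1 yb29 zb52) (kb xb1 yb29 zb51) (kb xb3 yb17 zb29) (kb xb6 yb19 zb28) (kb xb3 yb12 zb44) (kb xb6 yb19 zb26) (kb xb1 yb29 zb53) (kb xb6 yb19 zb36) (kb xb6 yb19 zb37) (kb xb6 yb19 zb43) (kb xb6 yb19 zb46) (kb xb3 yb11 zb46) (kb xb3 yb24 zb16) (kb xb1 yb29 zb55) (kb xb1 yb29 zb56) (kb xb3 yb1 zb29) (kb xb1 yb29 zb61) (kb xb6 yb19 zb50) (kb xb3 yb17 zb60) (kb xb6 yb19 zb49) (kb xb1 yb33 zb49) (kb xb6 yb19 zb57) (kb xb1 yb30 zb2) (kb xb1 yb30 zb1) (kb xb3 yb45 zb31)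 (kb xb6 yb20 zb0) (kb xb1 yb38 zb23) (kb xb6 yb19 zb60) (kb xb1 yb30 zb3) (kb xb6 yb20 zb11) (kb xb6 yb20 zb12) (kb xb1 yb30 zb4) (kb xb4 yb37 zb13) (kb xb6 yb20 zb17) (kb xb6 yb20 zb21) (kb xb1 yb36 zb33) (kb xb6 yb2 zb22) (kb xb6 yb20 zb28) (kb xb6 yb20 zb31) (kb xb6 yb2 zb25) (kb xb6 yb2 zb26) (kb xb1 yb30 zb7) (kb xb3 yb51 zb31) (kb xb6 yb20 zb39) (kb xb6 yb20 zb40) (kb xb1 yb30 zb8) (kb xb6 yb20 zb48) (kb xb6 yb20 zb47) (kb xb6 yb20 zb50) (kb xb1 yb30 zb42) (kb xb4 yb40 zb11)) (@D3.rec (fun _ => Pt) (kb xb1 yb30 zb13) (kb xb1 yb44 zb19) (kb xb1 yb30 zb12) (kb xb1 yb30 zb37) (kb xb3 yb28 zb36) (kb xb1 yb30 zb16) (kb xb1 yb30 zb15) (kb xb3 yb1 zb18) (kb xb6 yb20 zb56) (kb xb1 yb30 zb17) (kb xb6 yb20 zb60) (kb xb1 yb30 zb18) (kb xb6 yb21 zb4) (kb xb3 yb22 zb53) (kb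 xb6 yb21 zb7) (kb xb2 yb27 zb41) (kb xb2 yb27 zb42) (kb xb6 yb21 zb11) (kb xb1 yb30 zb23) (kb xb1 yb30 zb24) (kb xb4 yb43 zb27) (kb xb6 yb19 zb55) (kb xb6 yb21 zb19) (kb xb6 yb21 zb17) (kb xb6 yb20 zb44) (kb xb3 yb23 zb16) (kb xb6 yb21 zb27) (kb xb1 yb30 zb27) (kb xb1 yb30 zb28) (kb xb1 yb30 zb26) (kb xb6 yb21 zb38) (kb xb6 yb21 zb39) (kb xb3 yb6 zb40) (kb xb5 yb39 zb49) (kb xb6 yb21 zb46) (kb xb6 yb21 zb33) (kb xb6 yb20 zb6) (kb xb6 yb20 zb36) (kb xb4 yb42 zb6) (kb xb6 yb21 zb55) (kb xb1 yb30 zb31) (kb xb1 yb30 zb32) (kb xb1 yb30 zb30) (kb xb6 yb16 zb4) (kb xb6 yb22 zb3) (kb xb6 yb22 zb7) (kb xb6 yb21 zb60) (kb xb6 yb22 zb0) (kb xb1 yb30 zb33) (kb xb6 yb22 zb13) (kb xb3 yb45 zb28) (kb xb1 yb30 zb34) (kb xb6 yb22 zb17) (kb xb6 yb22 zb19) (kb xb6 yb22 zb21) (kb xb1 yb30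 zb35) (kb xb6 yb22 zb26) (kb xb4 yb52 zb11) (kb xb4 yb11 zb38) (kb xb3 yb35 zb7) (kb xb3 yb39 zb60) (kb xb6 yb22 zb37)) (@D3.rec (fun _ => Pt) (kb xb1 yb30 zb41) (kb xb1 yb30 zb40) (kb xb6 yb22 zb42) (kb xb2 yb6 zb49) (kb xb6 yb19 zb14) (kb xb4 yb42 zb17) (kb xb1 yb53 zb26) (kb xb6 yb22 zb53) (kb xb1 yb30 zb46) (kb xb1 yb30 zb45) (kb xb6 yb23 zb0) (kb xb6 yb20 zb58) (kb xb4 yb42 zb22) (kb xb6 yb22 zb58) (kb xb3 yb11 zb49) (kb xb6 yb23 zb12) (kb xb1 yb30 zb49) (kb xb1 yb30 zb48) (kb xb6 yb23 zb21) (kb xb6 yb20 zb61) (kb xb3 yb11 zb13) (kb xb6 yb23 zb17) (kb xb6 yb23 zb27) (kb xb6 yb23 zb32) (kb xb4 yb42 zb26) (kb xb1 yb30 zb51) (kb xb1 yb30 zb52) (kb xb6 yb23 zb40) (kb xb2 yb24 zb34) (kb xb6 yb23 zb47) (kb xb6 yb23 zb49) (kb xb3 yb1 zb5) (kb xb3 yb25 zb5) (kb xb3 yb1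 zb35) (kb xb6 yb23 zb56) (kb xb1 yb30 zb59) (kb xb1 yb30 zb58) (kb xb6 yb24 zb0) (kb xb2 yb17 zb14) (kb xb3 yb31 zb54) (kb xb1 yb30 zb60) (kb xb4 yb42 zb27) (kb xb6 yb24 zb6) (kb xb1 yb31 zb2) (kb xb1 yb31 zb1) (kb xb6 yb24 zb15) (kb xb6 yb24 zb17) (kb xb6 yb24 zb19) (kb xb6 yb24 zb11) (kb xb5 yb47 zb25) (kb xb1 yb31 zb4) (kb xb2 yb49 zb58) (kb xb6 yb24 zb24) (kb xb6 yb24 zb25) (kb xb1 yb31 zb5) (kb xb6 yb24 zb31) (kb xb6 yb24 zb32) (kb xb4 yb24 zb17) (kb xb6 yb13 zb51) (kb xb1 yb31 zb9) (kb xb3 yb57 zb38) (kb xb1 yb31 zb11)) (@D3.rec (fun _ => Pt) (kb xb6 yb24 zb47) (kb xb6 yb24 zb50) (kb xb6 yb24 zb43) (kb xb6 yb24 zb44) (kb xb5 yb43 zb56) (kb xb4 yb0 zb48) (kb xb1 yb49 zb4) (kb xb5 yb46 zb48) (kb xb3 yb4 zb10) (kb xb5 yb41 zb16) (kb xb6 yb14 zb8) (kb xb2 yb16 zb48)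 (kb xb4 yb24 zb32) (kb xb3 yb17 zb46) (kb xb4 yb34 zb41) (kb xb3 yb4 zb8) (kb xb3 yb4 zb9) (kb xb6 yb25 zb15) (kb xb5 yb57 zb56) (kb xb2 yb47 zb45) (kb xb5 yb57 zb36) (kb xb6 yb25 zb23) (kb xb1 yb31 zb23) (kb xb1 yb36 zb36) (kb xb2 yb51 zb7) (kb xb1 yb31 zb26) (kb xb1 yb31 zb27) (kb xb2 yb53 zb30) (kb xb5 yb14 zb0) (kb xb2 yb49 zb57) (kb xb1 yb31 zb36) (kb xb1 yb34 zb58) (kb xb3 yb1 zb27) (kb xb3 yb25 zb32) (kb xb6 yb25 zb37) (kb xb1 yb31 zb41) (kb xb1 yb48 zb40) (kb xb3 yb1 zb2) (kb xb3 yb12 zb21) (kb xb6 yb25 zb46) (kb xb6 yb25 zb47) (kb xb6 yb25 zb48) (kb xb6 yb25 zb49) (kb xb1 yb31 zb44) (kb xb6 yb25 zb52) (kb xb1 yb31 zb47) (kb xb1 yb31 zb48) (kb xb6 yb25 zb60) (kb xb1 yb31 zb49) (kb xb6 yb25 zb61) (kb xb1 yb38 zb0) (kb xb6 yb1 zb51) (kb xb6 yb26 zb5) (kb xb6 yb26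 zb9) (kb xb1 yb31 zb54) (kb xb3 yb6 zb34) (kb xb1 yb31 zb53) (kb xb6 yb26 zb11) (kb xb2 yb6 zb29) (kb xb6 yb26 zb14) (kb xb1 yb31 zb57) (kb xb1 yb33 zb24)) (@D3.rec (fun _ => Pt) (kb xb6 yb26 zb17) (kb xb1 yb31 zb58) (kb xb6 yb26 zb20) (kb xb6 yb26 zb21) (kb xb1 yb31 zb59) (kb xb6 yb23 zb39) (kb xb1 yb32 zb20) (kb xb3 yb28 zb57) (kb xb6 yb26 zb28) (kb xb1 yb32 zb1) (kb xb1 yb32 zb0) (kb xb6 yb26 zb35) (kb xb6 yb19 zb54) (kb xb3 yb9 zb20) (kb xb6 yb26 zb41) (kb xb3 yb23 zb56) (kb xb3 yb23 zb25) (kb xb6 yb26 zb48) (kb xb1 yb32 zb4) (kb xb1 yb32 zb5) (kb xb1 yb32 zb3) (kb xb6 yb26 zb57) (kb xb6 yb26 zb58) (kb xb6 yb27 zb0) (kb xb6 yb26 zb54) (kb xb1 yb32 zb6) (kb xb6 yb27 zb7) (kb xb6 yb27 zb5) (kb xb6 yb27 zb6) (kb xb1 yb32 zb7) (kb xb6 yb27 zb12) (kb xb6 yb27 zb11) (kb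 xb6 yb27 zb15) (kb xb6 yb27 zb17) (kb xb1 yb32 zb8) (kb xb6 yb27 zb23) (kb xb6 yb27 zb24) (kb xb4 yb13 zb18) (kb xb1 yb42 zb48) (kb xb3 yb6 zb25) (kb xb3 yb35 zb26) (kb xb6 yb27 zb33) (kb xb6 yb27 zb38) (kb xb1 yb32 zb14) (kb xb1 yb32 zb13) (kb xb6 yb27 zb47) (kb xb3 yb7 zb22) (kb xb2 yb18 zb27) (kb xb6 yb27 zb43) (kb xb3 yb9 zb14) (kb xb6 yb17 zb18) (kb xb3 yb40 zb1) (kb xb6 yb27 zb57) (kb xb1 yb32 zb18) (kb xb6 yb28 zb0) (kb xb6 yb28 zb3) (kb xb4 yb43 zb42) (kb xb6 yb28 zb5) (kb xb6 yb28 zb7) (kb xb3 yb22 zb57) (kb xb1 yb42 zb5) (kb xb1 yb32 zb29)) (@D3.rec (fun _ => Pt) (kb xb1 yb32 zb27) (kb xb1 yb32 zb28) (kb xb6 yb9 zb58) (kb xb1 yb32 zb32) (kb xb5 yb56 zb48) (kb xb6 yb28 zb14) (kb xb1 yb32 zb36) (kb xb6 yb28 zb20) (kb xb1 yb32 zb35) (kb xb1 yb34 zb50) (kb xb6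 yb28 zb21) (kb xb3 yb6 zb60) (kb xb1 yb32 zb49) (kb xb6 yb28 zb19) (kb xb1 yb49 zb44) (kb xb6 yb28 zb32) (kb xb1 yb32 zb39) (kb xb1 yb32 zb38) (kb xb6 yb28 zb40) (kb xb6 yb28 zb41) (kb xb1 yb32 zb54) (kb xb3 yb10 zb38) (kb xb6 yb28 zb36) (kb xb6 yb28 zb37) (kb xb1 yb32 zb40) (kb xb6 yb28 zb54) (kb xb6 yb28 zb55) (kb xb1 yb32 zb41) (kb xb2 yb16 zb4) (kb xb6 yb28 zb61) (kb xb6 yb29 zb3) (kb xb1 yb32 zb44) (kb xb6 yb29 zb10) (kb xb6 yb29 zb8) (kb xb6 yb29 zb9) (kb xb6 yb29 zb16) (kb xb3 yb6 zb53) (kb xb5 yb47 zb3) (kb xb5 yb47 zb4) (kb xb6 yb29 zb28) (kb xb6 yb29 zb31) (kb xb1 yb32 zb50) (kb xb1 yb32 zb48) (kb xb4 yb43 zb50) (kb xb3 yb7 zb15) (kb xb3 yb7 zb8) (kb xb6 yb29 zb34) (kb xb3 yb6 zb24) (kb xb5 yb47 zb32) (kb xb5 yb47 zb33) (kb xb6 yb29 zb33) (kb xb6 yb29 zb46)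 (kb xb1 yb32 zb56) (kb xb5 yb39 zb52) (kb xb1 yb32 zb55) (kb xb4 yb42 zb3) (kb xb4 yb43 zb52) (kb xb3 yb22 zb56) (kb xb6 yb29 zb54) (kb xb1 yb32 zb59) (kb xb1 yb32 zb60) (kb xb1 yb32 zb58)) (@D3.rec (fun _ => Pt) (kb xb6 yb30 zb4) (kb xb1 yb38 zb27) (kb xb6 yb29 zb13) (kb xb6 yb30 zb6) (kb xb6 yb29 zb60) (kb xb6 yb28 zb29) (kb xb6 yb30 zb1) (kb xb2 yb20 zb27) (kb xb1 yb49 zb55) (kb xb6 yb30 zb10) (kb xb1 yb33 zb1) (kb xb1 yb33 zb2) (kb xb1 yb33 zb0) (kb xb6 yb30 zb22) (kb xb6 yb30 zb23) (kb xb6 yb28 zb49) (kb xb6 yb30 zb18) (kb xb6 yb30 zb19) (kb xb3 yb21 zb18) (kb xb1 yb33 zb22) (kb xb1 yb33 zb8) (kb xb1 yb33 zb7) (kb xb3 yb20 zb16) (kb xb6 yb30 zb33) (kb xb6 yb30 zb31) (kb xb1 yb33 zb11) (kb xb1 yb33 zb10) (kb xb6 yb30 zb39) (kb xb6 yb30 zb40) (kb xb2 yb18 zb37) (kb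 xb1 yb38 zb34) (kb xb3 yb15 zb19) (kb xb3 yb15 zb20) (kb xb6 yb30 zb45) (kb xb4 yb46 zb18) (kb xb1 yb33 zb21) (kb xb4 yb37 zb26) (kb xb6 yb30 zb51) (kb xb4 yb43 zb61) (kb xb6 yb26 zb16) (kb xb6 yb30 zb28) (kb xb3 yb1 zb15) (kb xb6 yb31 zb3) (kb xb6 yb31 zb5) (kb xb1 yb33 zb27) (kb xb1 yb33 zb26) (kb xb5 yb44 zb1) (kb xb3 yb0 zb7) (kb xb1 yb33 zb28) (kb xb6 yb31 zb12) (kb xb1 yb33 zb41) (kb xb6 yb10 zb28) (kb xb1 yb33 zb32) (kb xb6 yb31 zb19) (kb xb6 yb31 zb20) (kb xb1 yb33 zb31) (kb xb6 yb31 zb23) (kb xb6 yb31 zb24) (kb xb6 yb31 zb30) (kb xb1 yb33 zb35) (kb xb1 yb33 zb34) (kb xb6 yb1 zb12)) (@D3.rec (fun _ => Pt) (kb xb6 yb1 zb14) (kb xb4 yb44 zb12) (kb xb3 yb19 zb20) (kb xb6 yb31 zb33) (kb xb1 yb33 zb36) (kb xb6 yb31 zb48) (kb xb6 yb31 zb49) (kb xb1 yb33 zb37) (kb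 xb6 yb31 zb55) (kb xb6 yb31 zb56) (kb xb6 yb31 zb60) (kb xb6 yb32 zb0) (kb xb5 yb52 zb18) (kb xb6 yb32 zb5) (kb xb5 yb52 zb44) (kb xb5 yb52 zb21) (kb xb5 yb52 zb22) (kb xb1 yb33 zb40) (kb xb6 yb32 zb16) (kb xb6 yb32 zb14) (kb xb6 yb32 zb15) (kb xb6 yb32 zb24) (kb xb6 yb31 zb16) (kb xb6 yb31 zb17) (kb xb5 yb57 zb16) (kb xb1 yb33 zb44) (kb xb1 yb33 zb45) (kb xb6 yb32 zb35) (kb xb2 yb21 zb50) (kb xb6 yb32 zb34) (kb xb5 yb57 zb20) (kb xb1 yb33 zb47) (kb xb1 yb33 zb48) (kb xb6 yb32 zb40) (kb xb6 yb32 zb39) (kb xb6 yb19 zb56) (kb xb6 yb32 zb44) (kb xb3 yb49 zb56) (kb xb3 yb44 zb59) (kb xb6 yb32 zb48) (kb xb1 yb33 zb55) (kb xb1 yb33 zb57) (kb xb1 yb33 zb54) (kb xb6 yb32 zb55) (kb xb6 yb32 zb56) (kb xb6 yb32 zb51) (kb xb3 yb42 zb47) (kb xb3 yb43 zb8) (kb xb6 yb33 zb5) (kb xb1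 yb33 zb58) (kb xb6 yb33 zb9) (kb xb6 yb33 zb11) (kb xb6 yb10 zb42) (kb xb3 yb27 zb13) (kb xb3 yb43 zb13) (kb xb2 yb21 zb59) (kb xb3 yb19 zb35) (kb xb6 yb33 zb19) (kb xb1 yb34 zb1) (kb xb1 yb34 zb0) (kb xb3 yb27 zb1) (kb xb6 yb33 zb24)) (@D3.rec (fun _ => Pt) (kb xb1 yb34 zb2) (kb xb6 yb33 zb29) (kb xb3 yb47 zb11) (kb xb1 yb50 zb26) (kb xb5 yb51 zb24) (kb xb5 yb55 zb11) (kb xb1 yb34 zb11) (kb xb1 yb34 zb13) (kb xb6 yb33 zb41) (kb xb4 yb17 zb34) (kb xb1 yb34 zb49) (kb xb4 yb44 zb30) (kb xb1 yb36 zb21) (kb xb6 yb33 zb51) (kb xb6 yb25 zb59) (kb xb1 yb37 zb3) (kb xb1 yb34 zb18) (kb xb5 yb56 zb1) (kb xb6 yb33 zb58) (kb xb3 yb13 zb31) (kb xb3 yb13 zb32) (kb xb1 yb34 zb26) (kb xb3 yb35 zb31) (kb xb1 yb34 zb25) (kb xb6 yb34 zb8) (kb xb3 yb38 zb49) (kb xb6 yb34 zb2) (kb xb1 yb34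 zb29) (kb xb6 yb34 zb14) (kb xb6 yb34 zb15) (kb xb1 yb34 zb30) (kb xb6 yb28 zb50) (kb xb6 yb34 zb19) (kb xb6 yb34 zb23) (kb xb6 yb10 zb31) (kb xb1 yb34 zb33) (kb xb6 yb34 zb29) (kb xb6 yb20 zb7) (kb xb6 yb2 zb19) (kb xb5 yb52 zb48) (kb xb6 yb34 zb38) (kb xb6 yb34 zb28) (kb xb6 yb34 zb44) (kb xb3 yb21 zb47) (kb xb4 yb44 zb23) (kb xb3 yb43 zb29) (kb xb1 yb34 zb37) (kb xb6 yb34 zb53) (kb xb1 yb34 zb38) (kb xb6 yb27 zb28) (kb xb3 yb50 zb5) (kb xb4 yb37 zb9) (kb xb5 yb56 zb44) (kb xb1 yb34 zb42) (kb xb1 yb34 zb43) (kb xb6 yb35 zb3) (kb xb6 yb35 zb6) (kb xb6 yb35 zb11) (kb xb1 yb34 zb46) (kb xb1 yb34 zb45) (kb xb6 yb35 zb15) (kb xb6 yb35 zb16)) (@D3.rec (fun _ => Pt) (kb xb4 yb45 zb3) (kb xb4 yb11 zb19) (kb xb4 yb11 zb18) (kb xb6 yb35 zb26) (kb xb1 yb34 zb48) (kb xb2 yb54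 zb40) (kb xb6 yb35 zb27) (kb xb6 yb33 zb47) (kb xb1 yb35 zb47) (kb xb6 yb28 zb24) (kb xb1 yb34 zb51) (kb xb6 yb28 zb39) (kb xb6 yb35 zb39) (kb xb6 yb35 zb42) (kb xb6 yb35 zb46) (kb xb1 yb35 zb26) (kb xb1 yb34 zb53) (kb xb1 yb34 zb54) (kb xb6 yb35 zb54) (kb xb5 yb4 zb9) (kb xb6 yb36 zb2) (kb xb6 yb35 zb57) (kb xb6 yb35 zb58) (kb xb1 yb34 zb55) (kb xb6 yb36 zb10) (kb xb3 yb18 zb31) (kb xb6 yb36 zb13) (kb xb3 yb18 zb29) (kb xb6 yb36 zb16) (kb xb6 yb25 zb38) (kb xb6 yb36 zb20) (kb xb1 yb34 zb59) (kb xb6 yb24 zb27) (kb xb6 yb36 zb25) (kb xb4 yb47 zb45) (kb xb1 yb36 zb10) (kb xb1 yb35 zb6) (kb xb1 yb35 zb7) (kb xb1 yb34 zb61) (kb xb5 yb48 zb49) (kb xb1 yb35 zb0) (kb xb6 yb36 zb42) (kb xb6 yb36 zb44) (kb xb6 yb35 zb14) (kb xb1 yb35 zb2) (kb xb1 yb35 zb3) (kb xb6 yb36 zb52)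 (kb xb6 yb36 zb54) (kb xb6 yb36 zb47) (kb xb6 yb36 zb60) (kb xb6 yb37 zb0) (kb xb6 yb36 zb50) (kb xb6 yb36 zb51) (kb xb6 yb37 zb7) (kb xb4 yb45 zb51) (kb xb4 yb45 zb52) (kb xb6 yb2 zb35) (kb xb1 yb36 zb9) (kb xb4 yb45 zb56) (kb xb1 yb36 zb12) (kb xb6 yb37 zb20) (kb xb6 yb36 zb36)) (@D3.rec (fun _ => Pt) (kb xb6 yb37 zb23) (kb xb1 yb35 zb48) (kb xb1 yb35 zb9) (kb xb6 yb37 zb28) (kb xb6 yb37 zb29) (kb xb4 yb48 zb14) (kb xb1 yb35 zb16) (kb xb1 yb35 zb17) (kb xb6 yb37 zb35) (kb xb4 yb37 zb49) (kb xb6 yb2 zb20) (kb xb1 yb35 zb12) (kb xb1 yb35 zb13) (kb xb6 yb37 zb42) (kb xb6 yb37 zb51) (kb xb4 yb59 zb52) (kb xb6 yb37 zb45) (kb xb6 yb37 zb46) (kb xb6 yb2 zb0) (kb xb1 yb36 zb24) (kb xb6 yb38 zb1) (kb xb4 yb46 zb10) (kb xb1 yb37 zb4) (kb xb1 yb36 zb28) (kb xb4 yb46 zb12) (kb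 xb6 yb38 zb10) (kb xb2 yb2 zb43) (kb xb6 yb38 zb13) (kb xb6 yb38 zb17) (kb xb3 yb7 zb13) (kb xb3 yb28 zb34) (kb xb1 yb35 zb19) (kb xb1 yb35 zb20) (kb xb6 yb38 zb24) (kb xb6 yb38 zb27) (kb xb6 yb38 zb28) (kb xb6 yb38 zb37) (kb xb1 yb35 zb23) (kb xb3 yb7 zb7) (kb xb6 yb38 zb41) (kb xb6 yb38 zb42) (kb xb1 yb35 zb24) (kb xb4 yb59 zb30) (kb xb6 yb38 zb53) (kb xb6 yb38 zb54) (kb xb1 yb35 zb25) (kb xb3 yb10 zb13) (kb xb6 yb39 zb1) (kb xb6 yb35 zb50) (kb xb6 yb35 zb51) (kb xb6 yb39 zb11) (kb xb2 yb54 zb7) (kb xb6 yb39 zb16) (kb xb1 yb35 zb32) (kb xb6 yb39 zb22) (kb xb6 yb39 zb26) (kb xb1 yb35 zb36) (kb xb1 yb35 zb37) (kb xb1 yb35 zb29) (kb xb6 yb39 zb35) (kb xb3 yb7 zb29) (kb xb1 yb35 zb31)) (@D3.rec (fun _ => Pt) (kb xb6 yb39 zb46) (kb xb6 yb10 zb45) (kb xb6 yb37 zb31) (kb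 xb6 yb39 zb20) (kb xb6 yb39 zb21) (kb xb4 yb38 zb10) (kb xb1 yb35 zb34) (kb xb6 yb32 zb42) (kb xb6 yb40 zb5) (kb xb6 yb40 zb6) (kb xb1 yb35 zb35) (kb xb3 yb23 zb9) (kb xb6 yb40 zb15) (kb xb6 yb40 zb16) (kb xb6 yb40 zb23) (kb xb6 yb40 zb26) (kb xb6 yb40 zb31) (kb xb6 yb39 zb33) (kb xb4 yb38 zb14) (kb xb6 yb40 zb36) (kb xb6 yb40 zb38) (kb xb4 yb38 zb13) (kb xb6 yb40 zb43) (kb xb6 yb40 zb45) (kb xb1 yb35 zb40) (kb xb6 yb40 zb49) (kb xb2 yb19 zb60) (kb xb1 yb37 zb0) (kb xb5 yb16 zb43) (kb xb3 yb16 zb27) (kb xb1 yb36 zb52) (kb xb3 yb16 zb25) (kb xb6 yb40 zb61) (kb xb1 yb35 zb44) (kb xb1 yb35 zb45) (kb xb1 yb35 zb43) (kb xb6 yb41 zb4) (kb xb6 yb41 zb5) (kb xb6 yb41 zb11) (kb xb1 yb37 zb13) (kb xb6 yb40 zb59) (kb xb1 yb37 zb15) (kb xb6 yb41 zb14) (kb xb6 yb35 zb34) (kb xb6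 yb41 zb18) (kb xb4 yb17 zb35) (kb xb6 yb37 zb60) (kb xb6 yb41 zb23) (kb xb6 yb41 zb27) (kb xb1 yb35 zb52) (kb xb6 yb41 zb33) (kb xb4 yb16 zb55) (kb xb4 yb18 zb4) (kb xb6 yb41 zb37) (kb xb6 yb41 zb40) (kb xb1 yb35 zb57) (kb xb6 yb41 zb46) (kb xb1 yb35 zb58) (kb xb6 yb41 zb53) (kb xb4 yb45 zb30) (kb xb5 yb39 zb54) (kb xb4 yb47 zb46)) (@D3.rec (fun _ => Pt) (kb xb4 yb47 zb27) (kb xb1 yb35 zb60) (kb xb6 yb42 zb5) (kb xb1 yb35 zb61) (kb xb5 yb14 zb1) (kb xb6 yb42 zb11) (kb xb6 yb42 zb12) (kb xb5 yb49 zb35) (kb xb6 yb42 zb18) (kb xb6 yb42 zb22) (kb xb5 yb50 zb18) (kb xb5 yb50 zb19) (kb xb1 yb36 zb2) (kb xb6 yb42 zb28) (kb xb5 yb39 zb55) (kb xb6 yb41 zb1) (kb xb1 yb36 zb3) (kb xb6 yb42 zb36) (kb xb6 yb42 zb35) (kb xb4 yb11 zb17) (kb xb3 yb14 zb2) (kb xb6 yb42 zb45) (kb xb1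 yb36 zb14) (kb xb6 yb0 zb17) (kb xb1 yb36 zb7) (kb xb1 yb36 zb8) (kb xb6 yb42 zb31) (kb xb6 yb42 zb53) (kb xb6 yb42 zb51) (kb xb6 yb42 zb54) (kb xb4 yb17 zb7) (kb xb3 yb24 zb19) (kb xb6 yb36 zb33) (kb xb6 yb36 zb18) (kb xb1 yb36 zb11) (kb xb3 yb14 zb56) (kb xb6 yb42 zb58) (kb xb6 yb42 zb60) (kb xb1 yb36 zb13) (kb xb6 yb43 zb3) (kb xb6 yb43 zb4) (kb xb4 yb52 zb30) (kb xb1 yb36 zb15) (kb xb6 yb43 zb12) (kb xb6 yb43 zb13) (kb xb4 yb48 zb15) (kb xb1 yb36 zb17) (kb xb6 yb43 zb21) (kb xb1 yb50 zb6) (kb xb1 yb51 zb43) (kb xb5 yb48 zb21) (kb xb6 yb43 zb29) (kb xb6 yb39 zb53) (kb xb5 yb48 zb24) (kb xb5 yb48 zb25) (kb xb6 yb43 zb37) (kb xb6 yb33 zb50) (kb xb4 yb50 zb4) (kb xb6 yb37 zb12) (kb xb6 yb43 zb48) (kb xb1 yb36 zb31) (kb xb6 yb43 zb52)) (@D3.rec (fun _ => Pt) (kb xb4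 yb47 zb29) (kb xb6 yb43 zb55) (kb xb5 yb59 zb58) (kb xb1 yb36 zb26) (kb xb6 yb43 zb57) (kb xb6 yb38 zb6) (kb xb4 yb17 zb30) (kb xb1 yb36 zb29) (kb xb4 yb47 zb55) (kb xb6 yb43 zb59) (kb xb6 yb44 zb0) (kb xb1 yb36 zb30) (kb xb6 yb44 zb6) (kb xb6 yb44 zb7) (kb xb6 yb43 zb51) (kb xb2 yb51 zb43) (kb xb3 yb13 zb22) (kb xb1 yb36 zb34) (kb xb6 yb44 zb19) (kb xb6 yb35 zb13) (kb xb2 yb19 zb50) (kb xb6 yb20 zb23) (kb xb4 yb48 zb48) (kb xb6 yb44 zb18) (kb xb1 yb36 zb35) (kb xb6 yb44 zb32) (kb xb6 yb44 zb33) (kb xb4 yb48 zb56) (kb xb4 yb41 zb38) (kb xb6 yb2 zb49) (kb xb5 yb6 zb28) (kb xb6 yb44 zb47) (kb xb4 yb49 zb0) (kb xb1 yb36 zb38) (kb xb5 yb3 zb31) (kb xb6 yb44 zb53) (kb xb5 yb7 zb22) (kb xb1 yb36 zb39) (kb xb6 yb45 zb1) (kb xb2 yb40 zb54) (kb xb6 yb45 zb0) (kb xb6 yb45 zb10)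 (kb xb2 yb39 zb54) (kb xb4 yb49 zb14) (kb xb3 yb24 zb12) (kb xb1 yb36 zb43) (kb xb1 yb36 zb44) (kb xb6 yb45 zb25) (kb xb6 yb44 zb57) (kb xb6 yb45 zb32) (kb xb6 yb45 zb20) (kb xb6 yb45 zb23) (kb xb6 yb45 zb24) (kb xb6 yb44 zb51) (kb xb4 yb49 zb22) (kb xb3 yb24 zb13) (kb xb1 yb36 zb46) (kb xb1 yb36 zb47) (kb xb6 yb45 zb52) (kb xb6 yb45 zb49) (kb xb6 yb45 zb5) (kb xb6 yb45 zb45)) (@D3.rec (fun _ => Pt) (kb xb1 yb36 zb48) (kb xb6 yb45 zb57) (kb xb6 yb45 zb55) (kb xb2 yb42 zb41) (kb xb1 yb36 zb49) (kb xb6 yb46 zb3) (kb xb6 yb46 zb2) (kb xb1 yb59 zb53) (kb xb6 yb46 zb7) (kb xb1 yb36 zb50) (kb xb6 yb46 zb11) (kb xb6 yb46 zb12) (kb xb6 yb6 zb43) (kb xb6 yb46 zb15) (kb xb6 yb46 zb16) (kb xb2 yb20 zb49) (kb xb6 yb46 zb17) (kb xb5 yb14 zb20) (kb xb3 yb13 zb18) (kb xb2 yb22 zb42)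 (kb xb6 yb46 zb21) (kb xb1 yb37 zb2) (kb xb6 yb30 zb27) (kb xb1 yb36 zb57) (kb xb6 yb46 zb29) (kb xb4 yb49 zb49) (kb xb1 yb36 zb60) (kb xb6 yb46 zb35) (kb xb6 yb46 zb38) (kb xb5 yb3 zb3) (kb xb5 yb3 zb16) (kb xb6 yb46 zb45) (kb xb5 yb37 zb48) (kb xb6 yb46 zb47) (kb xb6 yb46 zb49) (kb xb6 yb40 zb55) (kb xb1 yb37 zb1) (kb xb5 yb40 zb38) (kb xb6 yb46 zb54) (kb xb6 yb46 zb56) (kb xb6 yb46 zb58) (kb xb4 yb49 zb59) (kb xb6 yb46 zb61) (kb xb1 yb37 zb6) (kb xb6 yb47 zb4) (kb xb6 yb47 zb5) (kb xb6 yb47 zb14) (kb xb3 yb15 zb43) (kb xb6 yb47 zb17) (kb xb4 yb49 zb61) (kb xb1 yb37 zb10) (kb xb1 yb37 zb11) (kb xb6 yb47 zb28) (kb xb6 yb47 zb23) (kb xb6 yb47 zb26) (kb xb6 yb47 zb27) (kb xb1 yb37 zb12) (kb xb6 yb47 zb35) (kb xb6 yb47 zb37) (kb xb5 yb0 zb10) (kb xb1 yb37 zb17) (kb xb1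 yb37 zb18)) (@D3.rec (fun _ => Pt) (kb xb6 yb41 zb16) (kb xb6 yb40 zb21) (kb xb6 yb47 zb42) (kb xb6 yb47 zb45) (kb xb1 yb37 zb20) (kb xb6 yb10 zb49) (kb xb6 yb47 zb47) (kb xb1 yb37 zb21) (kb xb6 yb47 zb52) (kb xb6 yb47 zb54) (kb xb6 yb47 zb57) (kb xb1 yb37 zb22) (kb xb6 yb48 zb0) (kb xb4 yb12 zb51) (kb xb6 yb48 zb4) (kb xb6 yb48 zb8) (kb xb1 yb37 zb24) (kb xb6 yb41 zb29) (kb xb6 yb48 zb17) (kb xb1 yb37 zb27) (kb xb1 yb37 zb26) (kb xb6 yb48 zb25) (kb xb6 yb43 zb43) (kb xb6 yb48 zb29) (kb xb1 yb37 zb30) (kb xb1 yb37 zb29) (kb xb6 yb48 zb38) (kb xb4 yb18 zb8) (kb xb6 yb48 zb44) (kb xb6 yb48 zb34) (kb xb1 yb37 zb31) (kb xb6 yb48 zb49) (kb xb6 yb48 zb52) (kb xb6 yb48 zb56) (kb xb4 yb50 zb29) (kb xb1 yb37 zb60) (kb xb6 yb48 zb61) (kb xb6 yb17 zb17) (kb xb6 yb49 zb2) (kb xb3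 yb42 zb4) (kb xb4 yb59 zb48) (kb xb4 yb59 zb53) (kb xb6 yb49 zb6) (kb xb3 yb23 zb49) (kb xb1 yb37 zb40) (kb xb1 yb37 zb39) (kb xb3 yb1 zb4) (kb xb1 yb37 zb43) (kb xb6 yb49 zb10) (kb xb1 yb37 zb45) (kb xb1 yb37 zb47) (kb xb6 yb42 zb43) (kb xb6 yb49 zb16) (kb xb3 yb8 zb13) (kb xb6 yb49 zb19) (kb xb5 yb55 zb22) (kb xb3 yb12 zb57) (kb xb3 yb11 zb59) (kb xb6 yb49 zb25) (kb xb1 yb37 zb54) (kb xb6 yb25 zb58) (kb xb6 yb49 zb28)) (@D3.rec (fun _ => Pt) (kb xb1 yb37 zb57) (kb xb6 yb49 zb32) (kb xb6 yb49 zb31) (kb xb2 yb53 zb60) (kb xb1 yb41 zb12) (kb xb6 yb49 zb36) (kb xb1 yb37 zb59) (kb xb6 yb49 zb40) (kb xb6 yb49 zb41) (kb xb3 yb18 zb11) (kb xb6 yb48 zb60) (kb xb1 yb38 zb1) (kb xb6 yb49 zb46) (kb xb6 yb49 zb48) (kb xb2 yb14 zb61) (kb xb6 yb26 zb1) (kb xb3 yb8 zb25) (kb xb6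 yb49 zb44) (kb xb6 yb49 zb45) (kb xb1 yb41 zb3) (kb xb6 yb49 zb60) (kb xb1 yb38 zb4) (kb xb1 yb38 zb3) (kb xb6 yb50 zb4) (kb xb6 yb50 zb5) (kb xb3 yb11 zb16) (kb xb6 yb50 zb0) (kb xb6 yb50 zb1) (kb xb1 yb38 zb5) (kb xb5 yb50 zb38) (kb xb5 yb50 zb39) (kb xb1 yb38 zb6) (kb xb3 yb4 zb59) (kb xb6 yb50 zb20) (kb xb6 yb50 zb23) (kb xb2 yb52 zb14) (kb xb6 yb49 zb39) (kb xb1 yb38 zb8) (kb xb1 yb38 zb9) (kb xb6 yb50 zb34) (kb xb2 yb53 zb7) (kb xb6 yb50 zb30) (kb xb3 yb59 zb48) (kb xb6 yb50 zb41) (kb xb6 yb50 zb33) (kb xb6 yb46 zb28) (kb xb3 yb59 zb49) (kb xb1 yb38 zb11) (kb xb2 yb30 zb50) (kb xb3 yb22 zb43) (kb xb6 yb40 zb17) (kb xb1 yb38 zb12) (kb xb6 yb50 zb50) (kb xb4 yb47 zb0) (kb xb6 yb50 zb49) (kb xb1 yb38 zb28) (kb xb3 yb11 zb15) (kb xb6 yb17 zb15) (kb xb1 yb41 zb13)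 (kb xb6 yb19 zb13) (kb xb6 yb0 zb40) (kb xb4 yb59 zb37)) (@D3.rec (fun _ => Pt) (kb xb1 yb38 zb18) (kb xb6 yb51 zb1) (kb xb6 yb51 zb0) (kb xb4 yb58 zb14) (kb xb6 yb51 zb6) (kb xb6 yb51 zb10) (kb xb1 yb38 zb21) (kb xb4 yb6 zb61) (kb xb1 yb59 zb60) (kb xb6 yb51 zb17) (kb xb6 yb47 zb0) (kb xb1 yb38 zb24) (kb xb3 yb20 zb44) (kb xb3 yb20 zb55) (kb xb1 yb38 zb29) (kb xb2 yb3 zb56) (kb xb3 yb7 zb23) (kb xb1 yb38 zb35) (kb xb1 yb38 zb33) (kb xb3 yb19 zb31) (kb xb2 yb18 zb14) (kb xb6 yb12 zb55) (kb xb6 yb51 zb25) (kb xb1 yb38 zb39) (kb xb2 yb20 zb43) (kb xb2 yb21 zb38) (kb xb6 yb51 zb30) (kb xb1 yb38 zb40) (kb xb6 yb51 zb32) (kb xb6 yb51 zb33) (kb xb3 yb35 zb32) (kb xb3 yb30 zb24) (kb xb3 yb24 zb32) (kb xb3 yb29 zb38) (kb xb1 yb38 zb42) (kb xb2 yb50 zb15) (kb xb6 yb51 zb42)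 (kb xb1 yb38 zb46) (kb xb1 yb38 zb45) (kb xb6 yb51 zb46) (kb xb6 yb51 zb47) (kb xb1 yb38 zb47) (kb xb6 yb51 zb53) (kb xb6 yb51 zb55) (kb xb3 yb30 zb18) (kb xb6 yb51 zb58) (kb xb6 yb51 zb61) (kb xb3 yb30 zb34) (kb xb3 yb30 zb31) (kb xb1 yb38 zb50) (kb xb6 yb52 zb9) (kb xb6 yb52 zb6) (kb xb6 yb52 zb7) (kb xb1 yb38 zb51) (kb xb6 yb52 zb16) (kb xb6 yb52 zb14) (kb xb6 yb52 zb15) (kb xb3 yb31 zb20) (kb xb1 yb38 zb54) (kb xb1 yb38 zb55) (kb xb3 yb31 zb21) (kb xb1 yb38 zb57)) (@D3.rec (fun _ => Pt) (kb xb3 yb28 zb32) (kb xb3 yb28 zb33) (kb xb6 yb52 zb27) (kb xb1 yb43 zb60) (kb xb6 yb52 zb29) (kb xb3 yb9 zb32) (kb xb3 yb28 zb44) (kb xb4 yb41 zb42) (kb xb1 yb39 zb6) (kb xb6 yb52 zb33) (kb xb6 yb52 zb35) (kb xb6 yb52 zb37) (kb xb1 yb39 zb7) (kb xb6 yb52 zb40) (kb xb2 yb17 zb9)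 (kb xb1 yb49 zb50) (kb xb1 yb39 zb14) (kb xb6 yb52 zb47) (kb xb6 yb52 zb49) (kb xb6 yb52 zb51) (kb xb6 yb52 zb53) (kb xb6 yb52 zb55) (kb xb3 yb41 zb60) (kb xb6 yb52 zb59) (kb xb3 yb25 zb54) (kb xb3 yb25 zb56) (kb xb1 yb46 zb8) (kb xb6 yb34 zb1) (kb xb1 yb39 zb32) (kb xb6 yb20 zb10) (kb xb4 yb18 zb11) (kb xb6 yb28 zb53) (kb xb3 yb10 zb33) (kb xb1 yb39 zb25) (kb xb1 yb39 zb26) (kb xb6 yb53 zb7) (kb xb6 yb53 zb8) (kb xb3 yb46 zb35) (kb xb3 yb46 zb36) (kb xb2 yb20 zb7) (kb xb6 yb53 zb14) (kb xb3 yb45 zb45) (kb xb1 yb39 zb29) (kb xb1 yb39 zb30) (kb xb6 yb53 zb22) (kb xb3 yb46 zb39) (kb xb6 yb53 zb17) (kb xb6 yb53 zb28) (kb xb3 yb46 zb43) (kb xb6 yb53 zb20) (kb xb6 yb53 zb21) (kb xb6 yb53 zb37) (kb xb3 yb25 zb52) (kb xb3 yb25 zb53) (kb xb3 yb25 zb24) (kb xb1 yb43 zb57) (kb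 xb3 yb25 zb25) (kb xb1 yb39 zb37) (kb xb6 yb53 zb47) (kb xb6 yb53 zb48) (kb xb3 yb28 zb52) (kb xb1 yb42 zb6)) (@D3.rec (fun _ => Pt) (kb xb1 yb39 zb40) (kb xb1 yb43 zb54) (kb xb3 yb45 zb40) (kb xb6 yb51 zb41) (kb xb1 yb39 zb44) (kb xb1 yb39 zb45) (kb xb6 yb54 zb1) (kb xb6 yb54 zb7) (kb xb6 yb54 zb10) (kb xb6 yb54 zb3) (kb xb6 yb54 zb16) (kb xb3 yb26 zb11) (kb xb1 yb39 zb48) (kb xb1 yb39 zb49) (kb xb6 yb54 zb24) (kb xb6 yb54 zb22) (kb xb6 yb54 zb23) (kb xb1 yb39 zb50) (kb xb6 yb54 zb32) (kb xb6 yb54 zb30) (kb xb3 yb52 zb6) (kb xb1 yb43 zb7) (kb xb6 yb54 zb37) (kb xb1 yb39 zb60) (kb xb1 yb39 zb54) (kb xb6 yb54 zb42) (kb xb3 yb49 zb19) (kb xb2 yb21 zb48) (kb xb6 yb54 zb46) (kb xb3 yb48 zb26) (kb xb1 yb39 zb58) (kb xb3 yb49 zb23) (kb xb5 yb51 zb22) (kb xb6 yb54 zb57) (kb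 xb3 yb49 zb27) (kb xb6 yb54 zb51) (kb xb6 yb54 zb52) (kb xb6 yb55 zb4) (kb xb3 yb26 zb38) (kb xb3 yb35 zb55) (kb xb1 yb40 zb0) (kb xb6 yb55 zb13) (kb xb6 yb55 zb14) (kb xb3 yb49 zb35) (kb xb1 yb45 zb2) (kb xb1 yb40 zb6) (kb xb1 yb40 zb7) (kb xb3 yb48 zb22) (kb xb3 yb50 zb27) (kb xb1 yb40 zb3) (kb xb1 yb40 zb4) (kb xb6 yb55 zb25) (kb xb6 yb55 zb33) (kb xb6 yb55 zb35) (kb xb6 yb55 zb27) (kb xb6 yb55 zb28) (kb xb6 yb55 zb42) (kb xb3 yb26 zb57) (kb xb3 yb26 zb58) (kb xb6 yb55 zb49) (kb xb6 yb55 zb21) (kb xb3 yb47 zb16)) (@D3.rec (fun _ => Pt) (kb xb6 yb55 zb54) (kb xb3 yb14 zb60) (kb xb1 yb43 zb16) (kb xb1 yb40 zb9) (kb xb1 yb40 zb10) (kb xb6 yb56 zb5) (kb xb6 yb56 zb0) (kb xb6 yb56 zb3) (kb xb6 yb56 zb4) (kb xb6 yb56 zb13) (kb xb3 yb47 zb22) (kb xb3 yb50 zb48) (kb xb1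 yb40 zb13) (kb xb3 yb14 zb53) (kb xb6 yb56 zb19) (kb xb6 yb56 zb20) (kb xb1 yb40 zb14) (kb xb6 yb56 zb30) (kb xb4 yb43 zb60) (kb xb1 yb40 zb16) (kb xb6 yb56 zb39) (kb xb3 yb51 zb50) (kb xb1 yb40 zb18) (kb xb6 yb56 zb49) (kb xb6 yb56 zb50) (kb xb1 yb40 zb19) (kb xb6 yb56 zb59) (kb xb6 yb56 zb60) (kb xb6 yb57 zb2) (kb xb6 yb57 zb6) (kb xb6 yb57 zb12) (kb xb3 yb52 zb25) (kb xb1 yb40 zb40) (kb xb1 yb40 zb24) (kb xb1 yb40 zb25) (kb xb6 yb57 zb20) (kb xb1 yb40 zb23) (kb xb6 yb57 zb24) (kb xb6 yb57 zb25) (kb xb3 yb27 zb39) (kb xb6 yb57 zb34) (kb xb6 yb57 zb18) (kb xb1 yb40 zb35) (kb xb3 yb47 zb55) (kb xb6 yb57 zb39) (kb xb1 yb40 zb28) (kb xb1 yb40 zb29) (kb xb1 yb40 zb27) (kb xb6 yb57 zb48) (kb xb6 yb57 zb49) (kb xb6 yb57 zb54) (kb xb3 yb35 zb23) (kb xb3 yb6 zb1) (kb xb1 yb40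 zb33) (kb xb6 yb57 zb59) (kb xb6 yb57 zb61) (kb xb6 yb58 zb1) (kb xb1 yb40 zb34) (kb xb6 yb58 zb5) (kb xb6 yb58 zb8) (kb xb6 yb58 zb10) (kb xb3 yb27 zb61)) (@D3.rec (fun _ => Pt) (kb xb3 yb28 zb0) (kb xb6 yb58 zb14) (kb xb3 yb56 zb4) (kb xb3 yb53 zb24) (kb xb6 yb57 zb43) (kb xb1 yb53 zb23) (kb xb6 yb55 zb17) (kb xb6 yb58 zb26) (kb xb6 yb58 zb28) (kb xb3 yb28 zb9) (kb xb6 yb58 zb31) (kb xb3 yb56 zb5) (kb xb1 yb42 zb7) (kb xb3 yb44 zb61) (kb xb3 yb28 zb14) (kb xb1 yb40 zb45) (kb xb6 yb58 zb43) (kb xb3 yb35 zb61) (kb xb3 yb40 zb60) (kb xb3 yb28 zb19) (kb xb6 yb58 zb50) (kb xb1 yb40 zb50) (kb xb3 yb6 zb49) (kb xb6 yb58 zb52) (kb xb1 yb44 zb41) (kb xb3 yb35 zb36) (kb xb1 yb43 zb55) (kb xb1 yb40 zb54) (kb xb3 yb28 zb53) (kb xb1 yb46 zb1) (kb xb6 yb58 zb57) (kb xb1 yb41 zb9)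 (kb xb3 yb25 zb0) (kb xb3 yb25 zb1) (kb xb3 yb17 zb30) (kb xb1 yb41 zb2) (kb xb3 yb8 zb4) (kb xb1 yb41 zb6) (kb xb1 yb41 zb7) (kb xb6 yb42 zb19) (kb xb2 yb18 zb11) (kb xb6 yb59 zb2) (kb xb6 yb59 zb3) (kb xb6 yb49 zb59) (kb xb3 yb25 zb6) (kb xb2 yb18 zb17) (kb xb4 yb11 zb56) (kb xb6 yb59 zb10) (kb xb6 yb59 zb12) (kb xb1 yb41 zb8) (kb xb6 yb59 zb18) (kb xb6 yb59 zb19) (kb xb3 yb25 zb60) (kb xb3 yb28 zb28) (kb xb6 yb59 zb23) (kb xb6 yb49 zb18) (kb xb6 yb49 zb35) (kb xb3 yb11 zb7) (kb xb6 yb59 zb30) (kb xb6 yb59 zb32) (kb xb1 yb41 zb14) (kb xb6 yb59 zb37)) (@D3.rec (fun _ => Pt) (kb xb6 yb59 zb42) (kb xb6 yb59 zb45) (kb xb1 yb41 zb44) (kb xb1 yb41 zb16) (kb xb1 yb41 zb17) (kb xb6 yb59 zb50) (kb xb6 yb59 zb59) (kb xb7 yb0 zb0) (kb xb6 yb59 zb53) (kb xb6 yb59 zb54) (kb xb1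 yb41 zb18) (kb xb7 yb0 zb8) (kb xb7 yb0 zb5) (kb xb7 yb0 zb6) (kb xb1 yb41 zb19) (kb xb6 yb33 zb35) (kb xb7 yb0 zb12) (kb xb1 yb50 zb14) (kb xb1 yb41 zb22) (kb xb3 yb34 zb25) (kb xb1 yb41 zb24) (kb xb7 yb0 zb19) (kb xb1 yb41 zb25) (kb xb7 yb0 zb22) (kb xb1 yb41 zb28) (kb xb7 yb0 zb27) (kb xb7 yb0 zb29) (kb xb4 yb47 zb48) (kb xb7 yb0 zb34) (kb xb7 yb0 zb26) (kb xb1 yb49 zb28) (kb xb1 yb41 zb30) (kb xb7 yb0 zb43) (kb xb7 yb0 zb44) (kb xb3 yb44 zb46) (kb xb1 yb47 zb19) (kb xb1 yb41 zb36) (kb xb7 yb0 zb49) (kb xb3 yb24 zb33) (kb xb1 yb50 zb2) (kb xb1 yb41 zb33) (kb xb1 yb41 zb34) (kb xb7 yb0 zb53) (kb xb7 yb1 zb0) (kb xb7 yb1 zb3) (kb xb7 yb0 zb56) (kb xb7 yb0 zb57) (kb xb7 yb1 zb10) (kb xb3 yb29 zb48) (kb xb3 yb45 zb14) (kb xb7 yb1 zb15) (kb xb6 yb34 zb55) (kb xb1 yb48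 zb51) (kb xb1 yb41 zb38) (kb xb1 yb41 zb39) (kb xb7 yb1 zb23) (kb xb7 yb1 zb26) (kb xb7 yb1 zb31) (kb xb7 yb1 zb33) (kb xb6 yb34 zb7) (kb xb1 yb41 zb41) (kb xb1 yb41 zb42)) (@D3.rec (fun _ => Pt) (kb xb7 yb1 zb36) (kb xb7 yb1 zb39) (kb xb7 yb1 zb40) (kb xb1 yb41 zb43) (kb xb7 yb1 zb51) (kb xb6 yb59 zb48) (kb xb7 yb1 zb57) (kb xb1 yb41 zb48) (kb xb7 yb1 zb58) (kb xb7 yb1 zb61) (kb xb1 yb41 zb52) (kb xb1 yb41 zb53) (kb xb1 yb41 zb47) (kb xb6 yb25 zb8) (kb xb7 yb2 zb9) (kb xb7 yb2 zb13) (kb xb2 yb56 zb38) (kb xb3 yb0 zb36) (kb xb3 yb24 zb44) (kb xb1 yb41 zb50) (kb xb7 yb2 zb30) (kb xb7 yb2 zb28) (kb xb7 yb2 zb29) (kb xb1 yb41 zb51) (kb xb3 yb24 zb31) (kb xb7 yb2 zb43) (kb xb7 yb2 zb44) (kb xb7 yb2 zb49) (kb xb7 yb2 zb52) (kb xb7 yb2 zb57) (kb xb7 yb2 zb5) (kb xb3 yb24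 zb48) (kb xb7 yb3 zb0) (kb xb7 yb3 zb3) (kb xb3 yb24 zb47) (kb xb1 yb42 zb24) (kb xb3 yb35 zb37) (kb xb7 yb3 zb11) (kb xb1 yb41 zb57) (kb xb1 yb41 zb58) (kb xb7 yb3 zb20) (kb xb1 yb41 zb56) (kb xb7 yb3 zb22) (kb xb7 yb3 zb23) (kb xb3 yb30 zb44) (kb xb7 yb3 zb33) (kb xb7 yb3 zb16) (kb xb1 yb42 zb13) (kb xb7 yb3 zb18) (kb xb7 yb3 zb19) (kb xb1 yb42 zb15) (kb xb6 yb58 zb54) (kb xb7 yb3 zb39) (kb xb1 yb41 zb61) (kb xb1 yb42 zb0) (kb xb1 yb41 zb60) (kb xb7 yb3 zb49) (kb xb7 yb3 zb50) (kb xb7 yb3 zb55) (kb xb7 yb3 zb46) (kb xb1 yb42 zb2) (kb xb7 yb3 zb59)) (@D3.rec (fun _ => Pt) (kb xb7 yb3 zb58) (kb xb1 yb42 zb3) (kb xb7 yb4 zb0) (kb xb6 yb54 zb36) (kb xb6 yb20 zb53) (kb xb7 yb4 zb4) (kb xb6 yb53 zb53) (kb xb7 yb4 zb7) (kb xb7 yb4 zb8) (kb xb6 yb58 zb39) (kb xb3 yb32 zb3)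 (kb xb3 yb35 zb58) (kb xb3 yb31 zb12) (kb xb1 yb42 zb9) (kb xb7 yb4 zb16) (kb xb7 yb4 zb14) (kb xb7 yb2 zb45) (kb xb1 yb42 zb10) (kb xb7 yb4 zb20) (kb xb3 yb48 zb16) (kb xb3 yb24 zb57) (kb xb3 yb24 zb60) (kb xb7 yb4 zb25) (kb xb7 yb4 zb27) (kb xb3 yb31 zb24) (kb xb3 yb31 zb25) (kb xb7 yb4 zb31) (kb xb1 yb42 zb17) (kb xb7 yb4 zb34) (kb xb3 yb31 zb47) (kb xb7 yb3 zb43) (kb xb7 yb4 zb42) (kb xb7 yb0 zb48) (kb xb7 yb4 zb47) (kb xb1 yb42 zb23) (kb xb1 yb42 zb21) (kb xb1 yb42 zb22) (kb xb7 yb4 zb51) (kb xb7 yb4 zb53) (kb xb3 yb31 zb39) (kb xb3 yb31 zb40) (kb xb7 yb4 zb57) (kb xb1 yb42 zb26) (kb xb7 yb4 zb59) (kb xb3 yb34 zb56) (kb xb3 yb46 zb27) (kb xb7 yb3 zb14) (kb xb3 yb31 zb29) (kb xb7 yb5 zb10) (kb xb1 yb42 zb30) (kb xb1 yb42 zb34) (kb xb2 yb17 zb10) (kb xb7 yb5 zb14)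 (kb xb7 yb5 zb16) (kb xb3 yb9 zb39) (kb xb7 yb5 zb18) (kb xb1 yb42 zb38) (kb xb7 yb5 zb20) (kb xb7 yb5 zb22) (kb xb3 yb56 zb43) (kb xb1 yb52 zb1) (kb xb1 yb43 zb59)) (@D3.rec (fun _ => Pt) (kb xb3 yb1 zb33) (kb xb3 yb1 zb34) (kb xb3 yb35 zb56) (kb xb3 yb31 zb10) (kb xb6 yb52 zb61) (kb xb1 yb42 zb55) (kb xb1 yb42 zb56) (kb xb1 yb50 zb18) (kb xb7 yb5 zb30) (kb xb1 yb42 zb49) (kb xb3 yb40 zb59) (kb xb3 yb33 zb0) (kb xb3 yb44 zb53) (kb xb6 yb52 zb46) (kb xb1 yb42 zb50) (kb xb5 yb42 zb46) (kb xb7 yb5 zb33) (kb xb3 yb35 zb41) (kb xb7 yb5 zb37) (kb xb1 yb42 zb53) (kb xb4 yb24 zb1) (kb xb7 yb5 zb43) (kb xb7 yb5 zb45) (kb xb3 yb57 zb40) (kb xb7 yb5 zb41) (kb xb7 yb5 zb52) (kb xb3 yb32 zb26) (kb xb3 yb32 zb27) (kb xb6 yb43 zb26) (kb xb7 yb5 zb58) (kb xb7 yb5 zb59) (kb xb7 yb5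 zb60) (kb xb1 yb42 zb58) (kb xb7 yb6 zb2) (kb xb1 yb43 zb3) (kb xb7 yb0 zb42) (kb xb3 yb35 zb43) (kb xb1 yb43 zb0) (kb xb1 yb43 zb1) (kb xb2 yb17 zb0) (kb xb7 yb6 zb10) (kb xb7 yb6 zb7) (kb xb7 yb6 zb8) (kb xb7 yb6 zb17) (kb xb3 yb32 zb44) (kb xb7 yb6 zb20) (kb xb1 yb43 zb5) (kb xb1 yb43 zb6) (kb xb7 yb6 zb25) (kb xb7 yb6 zb34) (kb xb7 yb6 zb36) (kb xb7 yb6 zb28) (kb xb7 yb6 zb29) (kb xb7 yb6 zb44) (kb xb1 yb43 zb8) (kb xb7 yb6 zb46) (kb xb7 yb6 zb48) (kb xb7 yb6 zb50) (kb xb7 yb6 zb52) (kb xb1 yb43 zb14) (kb xb7 yb6 zb58) (kb xb1 yb54 zb33)) (@D3.rec (fun _ => Pt) (kb xb3 yb32 zb11) (kb xb1 yb43 zb21) (kb xb1 yb43 zb22) (kb xb6 yb55 zb58) (kb xb3 yb36 zb45) (kb xb1 yb43 zb18) (kb xb1 yb43 zb19) (kb xb7 yb7 zb6) (kb xb3 yb59 zb61) (kb xb7 yb7 zb12) (kb xb7 yb7 zb15)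 (kb xb7 yb7 zb4) (kb xb7 yb7 zb5) (kb xb7 yb7 zb21) (kb xb3 yb33 zb14) (kb xb3 yb33 zb15) (kb xb7 yb7 zb26) (kb xb1 yb43 zb23) (kb xb7 yb7 zb31) (kb xb3 yb49 zb6) (kb xb3 yb36 zb37) (kb xb1 yb43 zb26) (kb xb1 yb43 zb27) (kb xb2 yb47 zb16) (kb xb6 yb56 zb48) (kb xb7 yb7 zb37) (kb xb3 yb4 zb24) (kb xb7 yb7 zb49) (kb xb3 yb36 zb61) (kb xb1 yb54 zb26) (kb xb1 yb43 zb29) (kb xb1 yb43 zb30) (kb xb4 yb32 zb28) (kb xb7 yb7 zb55) (kb xb7 yb7 zb56) (kb xb3 yb36 zb54) (kb xb3 yb36 zb56) (kb xb1 yb43 zb32) (kb xb1 yb43 zb33) (kb xb6 yb14 zb6) (kb xb7 yb8 zb6) (kb xb1 yb43 zb34) (kb xb3 yb4 zb0) (kb xb1 yb43 zb36) (kb xb7 yb8 zb16) (kb xb7 yb8 zb21) (kb xb3 yb59 zb60) (kb xb3 yb37 zb6) (kb xb3 yb37 zb7) (kb xb1 yb43 zb38) (kb xb3 yb48 zb9) (kb xb7 yb8 zb34) (kb xb7 yb8 zb35) (kb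 xb1 yb43 zb39) (kb xb1 yb53 zb38) (kb xb7 yb8 zb47) (kb xb7 yb8 zb48) (kb xb7 yb8 zb55) (kb xb7 yb8 zb59) (kb xb7 yb9 zb3) (kb xb3 yb37 zb16) (kb xb1 yb44 zb14)) (@D3.rec (fun _ => Pt) (kb xb3 yb50 zb11) (kb xb7 yb9 zb9) (kb xb1 yb43 zb44) (kb xb1 yb43 zb45) (kb xb7 yb9 zb14) (kb xb1 yb43 zb43) (kb xb7 yb9 zb18) (kb xb7 yb9 zb19) (kb xb3 yb34 zb8) (kb xb7 yb9 zb28) (kb xb7 yb9 zb30) (kb xb1 yb43 zb48) (kb xb1 yb43 zb49) (kb xb1 yb43 zb47) (kb xb7 yb9 zb38) (kb xb7 yb9 zb39) (kb xb7 yb9 zb44) (kb xb7 yb9 zb35) (kb xb1 yb43 zb50) (kb xb7 yb9 zb48) (kb xb7 yb9 zb47) (kb xb7 yb9 zb51) (kb xb3 yb34 zb53) (kb xb3 yb37 zb43) (kb xb6 yb26 zb18) (kb xb3 yb29 zb19) (kb xb7 yb9 zb59) (kb xb7 yb9 zb61) (kb xb1 yb44 zb1) (kb xb7 yb10 zb3) (kb xb7 yb10 zb5) (kb xb1 yb44 zb4) (kb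 xb1 yb44 zb3) (kb xb7 yb10 zb12) (kb xb7 yb10 zb13) (kb xb3 yb34 zb35) (kb xb7 yb10 zb8) (kb xb1 yb44 zb5) (kb xb7 yb10 zb23) (kb xb7 yb10 zb24) (kb xb1 yb44 zb6) (kb xb7 yb10 zb30) (kb xb7 yb10 zb31) (kb xb7 yb10 zb35) (kb xb7 yb10 zb39) (kb xb7 yb6 zb57) (kb xb1 yb44 zb8) (kb xb1 yb44 zb9) (kb xb7 yb10 zb46) (kb xb7 yb10 zb48) (kb xb7 yb10 zb44) (kb xb7 yb10 zb45) (kb xb3 yb56 zb44) (kb xb3 yb34 zb22) (kb xb7 yb9 zb33) (kb xb3 yb45 zb0) (kb xb3 yb31 zb44) (kb xb1 yb44 zb13) (kb xb7 yb11 zb2) (kb xb7 yb11 zb4) (kb xb3 yb34 zb60) (kb xb3 yb34 zb61)) (@D3.rec (fun _ => Pt) (kb xb7 yb11 zb8) (kb xb3 yb55 zb37) (kb xb3 yb52 zb58) (kb xb7 yb9 zb11) (kb xb3 yb38 zb3) (kb xb7 yb6 zb60) (kb xb6 yb19 zb17) (kb xb3 yb8 zb59) (kb xb7 yb11 zb22) (kb xb2 yb18 zb15) (kb xb3 yb6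 zb2) (kb xb7 yb11 zb24) (kb xb7 yb11 zb26) (kb xb7 yb11 zb27) (kb xb3 yb41 zb44) (kb xb1 yb44 zb26) (kb xb7 yb11 zb33) (kb xb1 yb44 zb27) (kb xb7 yb11 zb36) (kb xb7 yb11 zb38) (kb xb1 yb44 zb32) (kb xb1 yb44 zb31) (kb xb7 yb11 zb44) (kb xb3 yb27 zb51) (kb xb2 yb21 zb41) (kb xb6 yb9 zb57) (kb xb3 yb11 zb40) (kb xb7 yb11 zb47) (kb xb7 yb11 zb49) (kb xb7 yb11 zb51) (kb xb3 yb38 zb47) (kb xb3 yb15 zb22) (kb xb3 yb24 zb30) (kb xb6 yb34 zb3) (kb xb1 yb44 zb47) (kb xb1 yb51 zb5) (kb xb3 yb28 zb25) (kb xb3 yb30 zb36) (kb xb6 yb58 zb55) (kb xb1 yb44 zb42) (kb xb6 yb59 zb35) (kb xb3 yb32 zb17) (kb xb7 yb12 zb0) (kb xb3 yb32 zb36) (kb xb1 yb44 zb45) (kb xb3 yb5 zb20) (kb xb7 yb12 zb8) (kb xb2 yb9 zb42) (kb xb7 yb12 zb12) (kb xb7 yb12 zb15) (kb xb7 yb12 zb5) (kb xb7 yb12 zb6) (kb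 xb7 yb12 zb21) (kb xb3 yb35 zb53) (kb xb3 yb35 zb54) (kb xb3 yb26 zb39) (kb xb3 yb32 zb2) (kb xb6 yb53 zb41) (kb xb3 yb31 zb11) (kb xb1 yb44 zb59) (kb xb3 yb38 zb4) (kb xb3 yb28 zb17)) (@D3.rec (fun _ => Pt) (kb xb3 yb44 zb52) (kb xb1 yb48 zb56) (kb xb1 yb48 zb57) (kb xb3 yb46 zb21) (kb xb2 yb9 zb30) (kb xb1 yb44 zb56) (kb xb1 yb44 zb57) (kb xb2 yb9 zb24) (kb xb7 yb12 zb36) (kb xb7 yb12 zb39) (kb xb7 yb12 zb33) (kb xb7 yb12 zb34) (kb xb7 yb12 zb46) (kb xb7 yb12 zb48) (kb xb7 yb12 zb49) (kb xb1 yb44 zb60) (kb xb7 yb12 zb53) (kb xb6 yb55 zb55) (kb xb1 yb45 zb0) (kb xb7 yb13 zb0) (kb xb7 yb13 zb2) (kb xb7 yb12 zb60) (kb xb7 yb12 zb61) (kb xb1 yb45 zb1) (kb xb7 yb13 zb9) (kb xb7 yb13 zb11) (kb xb6 yb55 zb19) (kb xb7 yb13 zb15) (kb xb3 yb36 zb28) (kb xb1 yb45 zb5) (kb xb7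 yb13 zb20) (kb xb1 yb45 zb7) (kb xb7 yb13 zb25) (kb xb1 yb45 zb8) (kb xb7 yb13 zb27) (kb xb3 yb4 zb33) (kb xb7 yb13 zb30) (kb xb3 yb33 zb20) (kb xb1 yb45 zb11) (kb xb7 yb13 zb35) (kb xb7 yb13 zb37) (kb xb4 yb23 zb5) (kb xb6 yb30 zb42) (kb xb1 yb45 zb17) (kb xb7 yb13 zb24) (kb xb3 yb33 zb4) (kb xb1 yb45 zb14) (kb xb1 yb45 zb15) (kb xb4 yb32 zb57) (kb xb7 yb13 zb51) (kb xb7 yb13 zb54) (kb xb7 yb13 zb47) (kb xb7 yb13 zb48) (kb xb7 yb13 zb60) (kb xb3 yb33 zb35) (kb xb7 yb14 zb2) (kb xb3 yb33 zb36) (kb xb1 yb45 zb19) (kb xb1 yb45 zb20) (kb xb3 yb57 zb28) (kb xb7 yb14 zb11) (kb xb3 yb33 zb28)) (@D3.rec (fun _ => Pt) (kb xb1 yb45 zb23) (kb xb4 yb23 zb15) (kb xb7 yb14 zb22) (kb xb2 yb51 zb36) (kb xb7 yb14 zb29) (kb xb6 yb14 zb5) (kb xb3 yb33 zb47) (kb xb3 yb33 zb48) (kb xb1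 yb45 zb27) (kb xb7 yb14 zb41) (kb xb1 yb45 zb28) (kb xb7 yb14 zb49) (kb xb7 yb14 zb50) (kb xb7 yb14 zb54) (kb xb7 yb14 zb58) (kb xb7 yb15 zb2) (kb xb3 yb33 zb60) (kb xb7 yb15 zb6) (kb xb7 yb15 zb8) (kb xb1 yb45 zb32) (kb xb7 yb15 zb12) (kb xb1 yb45 zb50) (kb xb6 yb55 zb7) (kb xb1 yb45 zb35) (kb xb1 yb45 zb36) (kb xb1 yb45 zb34) (kb xb7 yb15 zb20) (kb xb7 yb15 zb21) (kb xb7 yb15 zb26) (kb xb7 yb15 zb17) (kb xb1 yb45 zb37) (kb xb7 yb15 zb31) (kb xb7 yb15 zb29) (kb xb1 yb45 zb38) (kb xb7 yb15 zb36) (kb xb6 yb53 zb1) (kb xb7 yb15 zb35) (kb xb7 yb15 zb40) (kb xb7 yb15 zb42) (kb xb1 yb45 zb39) (kb xb7 yb15 zb47) (kb xb7 yb5 zb12) (kb xb1 yb47 zb5) (kb xb3 yb34 zb23) (kb xb7 yb15 zb52) (kb xb1 yb45 zb43) (kb xb7 yb15 zb56) (kb xb1 yb45 zb44) (kb xb7 yb16 zb0) (kb xb7 yb16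 zb1) (kb xb1 yb45 zb45) (kb xb7 yb16 zb7) (kb xb7 yb16 zb8) (kb xb1 yb45 zb47) (kb xb7 yb16 zb12) (kb xb7 yb16 zb11) (kb xb3 yb39 zb8) (kb xb3 yb39 zb9) (kb xb7 yb16 zb19) (kb xb7 yb16 zb21) (kb xb7 yb16 zb23) (kb xb3 yb54 zb45)) (@D3.rec (fun _ => Pt) (kb xb3 yb48 zb60) (kb xb3 yb48 zb61) (kb xb1 yb45 zb55) (kb xb3 yb35 zb4) (kb xb3 yb35 zb60) (kb xb1 yb46 zb0) (kb xb3 yb42 zb26) (kb xb6 yb58 zb56) (kb xb7 yb5 zb29) (kb xb1 yb46 zb2) (kb xb7 yb16 zb42) (kb xb1 yb48 zb3) (kb xb7 yb16 zb44) (kb xb1 yb46 zb6) (kb xb1 yb46 zb7) (kb xb7 yb16 zb47) (kb xb7 yb16 zb54) (kb xb7 yb16 zb56) (kb xb7 yb16 zb50) (kb xb7 yb16 zb51) (kb xb7 yb17 zb0) (kb xb1 yb46 zb9) (kb xb7 yb17 zb3) (kb xb7 yb17 zb2) (kb xb3 yb39 zb27) (kb xb7 yb17 zb8) (kb xb1 yb46 zb12) (kb xb6 yb14 zb38) (kb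 xb7 yb17 zb13) (kb xb1 yb46 zb14) (kb xb7 yb17 zb19) (kb xb7 yb17 zb20) (kb xb1 yb46 zb15) (kb xb7 yb17 zb24) (kb xb5 yb53 zb55) (kb xb1 yb55 zb41) (kb xb3 yb39 zb33) (kb xb3 yb39 zb34) (kb xb1 yb46 zb17) (kb xb7 yb17 zb38) (kb xb7 yb17 zb39) (kb xb1 yb46 zb18) (kb xb7 yb17 zb46) (kb xb7 yb17 zb47) (kb xb7 yb17 zb53) (kb xb7 yb17 zb56) (kb xb7 yb17 zb61) (kb xb3 yb35 zb30) (kb xb1 yb46 zb29) (kb xb3 yb15 zb25) (kb xb7 yb18 zb4) (kb xb1 yb46 zb23) (kb xb1 yb46 zb24) (kb xb7 yb18 zb6) (kb xb1 yb46 zb22) (kb xb7 yb18 zb10) (kb xb7 yb18 zb11) (kb xb7 yb18 zb19) (kb xb1 yb46 zb27) (kb xb1 yb46 zb28) (kb xb1 yb46 zb26) (kb xb7 yb18 zb23)) (@D3.rec (fun _ => Pt) (kb xb7 yb18 zb24) (kb xb7 yb18 zb30) (kb xb1 yb46 zb33) (kb xb7 yb12 zb28) (kb xb7 yb18 zb32) (kb xb7 yb18 zb34)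 (kb xb3 yb39 zb6) (kb xb7 yb18 zb37) (kb xb3 yb37 zb56) (kb xb3 yb37 zb57) (kb xb7 yb18 zb43) (kb xb7 yb11 zb55) (kb xb1 yb52 zb56) (kb xb3 yb44 zb45) (kb xb1 yb49 zb22) (kb xb6 yb53 zb42) (kb xb1 yb47 zb6) (kb xb7 yb18 zb47) (kb xb1 yb46 zb37) (kb xb7 yb18 zb52) (kb xb3 yb4 zb29) (kb xb7 yb18 zb55) (kb xb3 yb4 zb32) (kb xb1 yb46 zb39) (kb xb7 yb18 zb60) (kb xb7 yb18 zb61) (kb xb7 yb19 zb4) (kb xb3 yb38 zb24) (kb xb1 yb46 zb41) (kb xb3 yb3 zb46) (kb xb7 yb19 zb9) (kb xb5 yb7 zb18) (kb xb1 yb57 zb33) (kb xb3 yb38 zb36) (kb xb3 yb38 zb37) (kb xb1 yb46 zb43) (kb xb7 yb19 zb24) (kb xb7 yb19 zb25) (kb xb1 yb46 zb44) (kb xb7 yb19 zb29) (kb xb7 yb19 zb30) (kb xb7 yb19 zb33) (kb xb7 yb19 zb36) (kb xb7 yb19 zb41) (kb xb1 yb46 zb48) (kb xb1 yb46 zb47) (kb xb7 yb19 zb45) (kb xb7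 yb19 zb46) (kb xb1 yb46 zb51) (kb xb1 yb46 zb50) (kb xb7 yb19 zb52) (kb xb7 yb19 zb53) (kb xb3 yb42 zb1) (kb xb3 yb42 zb2) (kb xb7 yb19 zb61) (kb xb7 yb20 zb0) (kb xb7 yb20 zb1) (kb xb3 yb6 zb21) (kb xb3 yb45 zb7) (kb xb4 yb47 zb31) (kb xb3 yb8 zb60) (kb xb2 yb18 zb29)) (@D3.rec (fun _ => Pt) (kb xb4 yb40 zb12) (kb xb3 yb11 zb51) (kb xb7 yb20 zb13) (kb xb3 yb50 zb2) (kb xb3 yb50 zb3) (kb xb3 yb42 zb13) (kb xb7 yb20 zb19) (kb xb3 yb42 zb37) (kb xb1 yb47 zb2) (kb xb1 yb47 zb3) (kb xb7 yb20 zb29) (kb xb7 yb20 zb24) (kb xb7 yb20 zb35) (kb xb7 yb20 zb38) (kb xb7 yb20 zb27) (kb xb7 yb20 zb28) (kb xb7 yb20 zb44) (kb xb3 yb40 zb17) (kb xb3 yb40 zb18) (kb xb7 yb20 zb49) (kb xb7 yb20 zb51) (kb xb7 yb20 zb52) (kb xb1 yb47 zb7) (kb xb7 yb20 zb56) (kb xb1 yb47 zb9) (kb xb7 yb21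 zb2) (kb xb7 yb21 zb3) (kb xb7 yb21 zb5) (kb xb2 yb19 zb31) (kb xb6 yb55 zb12) (kb xb3 yb42 zb15) (kb xb1 yb47 zb13) (kb xb1 yb47 zb14) (kb xb7 yb21 zb11) (kb xb3 yb51 zb53) (kb xb7 yb21 zb13) (kb xb7 yb1 zb16) (kb xb1 yb47 zb16) (kb xb1 yb47 zb17) (kb xb7 yb21 zb27) (kb xb7 yb21 zb36) (kb xb7 yb21 zb30) (kb xb7 yb21 zb31) (kb xb7 yb21 zb43) (kb xb7 yb17 zb45) (kb xb1 yb47 zb21) (kb xb7 yb21 zb46) (kb xb3 yb43 zb33) (kb xb7 yb21 zb49) (kb xb1 yb47 zb23) (kb xb1 yb47 zb24) (kb xb7 yb21 zb55) (kb xb7 yb21 zb57) (kb xb7 yb21 zb51) (kb xb7 yb22 zb1) (kb xb7 yb22 zb4) (kb xb7 yb21 zb54) (kb xb1 yb47 zb25) (kb xb7 yb22 zb11) (kb xb3 yb32 zb10) (kb xb3 yb28 zb18) (kb xb1 yb47 zb31)) (@D3.rec (fun _ => Pt) (kb xb6 yb53 zb46) (kb xb3 yb43 zb35) (kb xb1 yb47 zb28) (kb xb1 yb47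 zb29) (kb xb7 yb22 zb19) (kb xb7 yb22 zb27) (kb xb7 yb22 zb30) (kb xb7 yb22 zb21) (kb xb7 yb22 zb22) (kb xb7 yb22 zb37) (kb xb3 yb44 zb1) (kb xb7 yb22 zb42) (kb xb3 yb44 zb2) (kb xb1 yb47 zb33) (kb xb1 yb47 zb34) (kb xb7 yb22 zb51) (kb xb7 yb22 zb54) (kb xb7 yb22 zb61) (kb xb3 yb43 zb54) (kb xb3 yb43 zb56) (kb xb1 yb47 zb36) (kb xb1 yb47 zb37) (kb xb7 yb23 zb7) (kb xb7 yb23 zb10) (kb xb7 yb23 zb11) (kb xb1 yb47 zb38) (kb xb7 yb23 zb21) (kb xb1 yb47 zb39) (kb xb7 yb23 zb25) (kb xb1 yb47 zb40) (kb xb7 yb23 zb33) (kb xb7 yb23 zb37) (kb xb7 yb23 zb41) (kb xb3 yb44 zb14) (kb xb3 yb44 zb15) (kb xb1 yb47 zb42) (kb xb7 yb23 zb51) (kb xb7 yb23 zb52) (kb xb1 yb47 zb43) (kb xb7 yb23 zb59) (kb xb7 yb23 zb60) (kb xb7 yb24 zb2) (kb xb7 yb24 zb5) (kb xb7 yb24 zb10) (kb xb3 yb35 zb14)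 (kb xb1 yb47 zb48) (kb xb1 yb47 zb49) (kb xb7 yb24 zb14) (kb xb1 yb47 zb47) (kb xb7 yb24 zb18) (kb xb7 yb24 zb19) (kb xb7 yb24 zb27) (kb xb3 yb49 zb14) (kb xb7 yb24 zb30) (kb xb1 yb47 zb52) (kb xb1 yb47 zb53) (kb xb1 yb47 zb51) (kb xb7 yb24 zb35) (kb xb7 yb24 zb36) (kb xb7 yb24 zb41) (kb xb3 yb25 zb22) (kb xb1 yb54 zb22)) (@D3.rec (fun _ => Pt) (kb xb1 yb55 zb6) (kb xb3 yb39 zb52) (kb xb3 yb39 zb53) (kb xb4 yb40 zb10) (kb xb3 yb22 zb39) (kb xb1 yb48 zb2) (kb xb7 yb24 zb59) (kb xb7 yb24 zb60) (kb xb6 yb26 zb47) (kb xb1 yb48 zb4) (kb xb7 yb25 zb2) (kb xb1 yb48 zb5) (kb xb7 yb25 zb4) (kb xb3 yb40 zb5) (kb xb7 yb25 zb8) (kb xb3 yb40 zb30) (kb xb1 yb48 zb7) (kb xb1 yb48 zb8) (kb xb7 yb25 zb18) (kb xb7 yb1 zb20) (kb xb7 yb25 zb21) (kb xb7 yb25 zb14) (kb xb7 yb25 zb27) (kb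 xb7 yb25 zb29) (kb xb7 yb25 zb17) (kb xb1 yb51 zb33) (kb xb3 yb38 zb6) (kb xb1 yb48 zb22) (kb xb1 yb48 zb23) (kb xb7 yb25 zb37) (kb xb1 yb48 zb14) (kb xb3 yb6 zb36) (kb xb6 yb17 zb37) (kb xb3 yb6 zb22) (kb xb6 yb23 zb52) (kb xb7 yb25 zb47) (kb xb7 yb25 zb1) (kb xb3 yb40 zb7) (kb xb1 yb48 zb19) (kb xb1 yb48 zb20) (kb xb7 yb25 zb54) (kb xb7 yb25 zb61) (kb xb7 yb26 zb2) (kb xb7 yb25 zb56) (kb xb7 yb25 zb57) (kb xb7 yb26 zb7) (kb xb7 yb26 zb11) (kb xb3 yb14 zb46) (kb xb7 yb26 zb15) (kb xb7 yb26 zb17) (kb xb7 yb26 zb19) (kb xb1 yb48 zb26) (kb xb7 yb26 zb24) (kb xb1 yb48 zb27) (kb xb7 yb26 zb30) (kb xb1 yb48 zb29) (kb xb1 yb48 zb30) (kb xb7 yb26 zb34) (kb xb7 yb26 zb37) (kb xb1 yb48 zb33) (kb xb1 yb48 zb32) (kb xb7 yb26 zb44)) (@D3.rec (fun _ => Pt) (kb xb7 yb26 zb45) (kb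 xb1 yb48 zb37) (kb xb1 yb48 zb38) (kb xb1 yb48 zb36) (kb xb7 yb26 zb50) (kb xb7 yb26 zb51) (kb xb7 yb26 zb46) (kb xb2 yb22 zb5) (kb xb3 yb14 zb47) (kb xb7 yb26 zb57) (kb xb1 yb48 zb39) (kb xb4 yb26 zb17) (kb xb7 yb26 zb61) (kb xb3 yb14 zb54) (kb xb4 yb11 zb16) (kb xb6 yb25 zb43) (kb xb1 yb48 zb42) (kb xb7 yb27 zb11) (kb xb5 yb57 zb47) (kb xb3 yb2 zb57) (kb xb5 yb58 zb33) (kb xb1 yb48 zb44) (kb xb7 yb27 zb21) (kb xb1 yb48 zb45) (kb xb7 yb27 zb26) (kb xb7 yb26 zb29) (kb xb1 yb48 zb48) (kb xb5 yb40 zb16) (kb xb7 yb27 zb29) (kb xb3 yb15 zb45) (kb xb1 yb48 zb50) (kb xb7 yb27 zb38) (kb xb7 yb1 zb21) (kb xb3 yb40 zb47) (kb xb7 yb27 zb42) (kb xb3 yb41 zb1) (kb xb1 yb48 zb53) (kb xb1 yb48 zb54) (kb xb7 yb27 zb46) (kb xb7 yb27 zb55) (kb xb7 yb27 zb58) (kb xb7 yb27 zb49) (kb xb7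 yb27 zb50) (kb xb7 yb28 zb3) (kb xb3 yb43 zb44) (kb xb7 yb28 zb7) (kb xb7 yb27 zb37) (kb xb3 yb4 zb31) (kb xb1 yb48 zb60) (kb xb1 yb48 zb61) (kb xb7 yb28 zb12) (kb xb7 yb2 zb27) (kb xb7 yb28 zb21) (kb xb7 yb28 zb14) (kb xb3 yb41 zb18) (kb xb7 yb28 zb30) (kb xb3 yb41 zb19) (kb xb1 yb49 zb1) (kb xb1 yb49 zb2) (kb xb7 yb28 zb38) (kb xb7 yb28 zb41) (kb xb7 yb28 zb42)) (@D3.rec (fun _ => Pt) (kb xb7 yb28 zb51) (kb xb3 yb41 zb10) (kb xb3 yb41 zb12) (kb xb1 yb49 zb5) (kb xb6 yb24 zb54) (kb xb7 yb28 zb57) (kb xb1 yb49 zb6) (kb xb7 yb29 zb4) (kb xb1 yb49 zb7) (kb xb7 yb29 zb10) (kb xb1 yb49 zb8) (kb xb7 yb29 zb14) (kb xb7 yb29 zb19) (kb xb7 yb29 zb23) (kb xb3 yb41 zb33) (kb xb3 yb41 zb34) (kb xb1 yb49 zb10) (kb xb7 yb29 zb33) (kb xb7 yb29 zb34) (kb xb1 yb49 zb11) (kb xb7 yb29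 zb40) (kb xb7 yb29 zb41) (kb xb7 yb29 zb44) (kb xb7 yb29 zb47) (kb xb7 yb29 zb52) (kb xb1 yb49 zb15) (kb xb7 yb29 zb53) (kb xb1 yb49 zb14) (kb xb7 yb29 zb57) (kb xb7 yb29 zb58) (kb xb1 yb49 zb18) (kb xb1 yb49 zb17) (kb xb7 yb30 zb5) (kb xb7 yb30 zb6) (kb xb7 yb30 zb11) (kb xb7 yb14 zb3) (kb xb1 yb49 zb21) (kb xb7 yb30 zb22) (kb xb7 yb30 zb20) (kb xb7 yb30 zb21) (kb xb7 yb30 zb27) (kb xb7 yb30 zb29) (kb xb1 yb49 zb25) (kb xb7 yb30 zb33) (kb xb1 yb53 zb7) (kb xb3 yb39 zb13) (kb xb3 yb29 zb34) (kb xb7 yb0 zb39) (kb xb1 yb49 zb31) (kb xb1 yb49 zb30) (kb xb7 yb30 zb39) (kb xb7 yb30 zb40) (kb xb3 yb36 zb0) (kb xb3 yb32 zb12) (kb xb7 yb30 zb43) (kb xb6 yb34 zb5) (kb xb7 yb1 zb50) (kb xb1 yb49 zb35) (kb xb2 yb18 zb7) (kb xb3 yb14 zb38) (kb xb7 yb30 zb49) (kb xb3 yb28 zb13))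 (@D3.rec (fun _ => Pt) (kb xb3 yb34 zb55) (kb xb1 yb49 zb37) (kb xb7 yb8 zb38) (kb xb7 yb30 zb56) (kb xb1 yb49 zb39) (kb xb7 yb30 zb58) (kb xb7 yb30 zb59) (kb xb3 yb39 zb58) (kb xb7 yb31 zb1) (kb xb1 yb49 zb42) (kb xb7 yb31 zb6) (kb xb7 yb31 zb7) (kb xb6 yb28 zb31) (kb xb1 yb49 zb45) (kb xb3 yb29 zb49) (kb xb7 yb31 zb14) (kb xb6 yb29 zb6) (kb xb1 yb49 zb56) (kb xb1 yb49 zb49) (kb xb7 yb31 zb23) (kb xb3 yb6 zb56) (kb xb6 yb28 zb18) (kb xb6 yb52 zb45) (kb xb1 yb49 zb51) (kb xb7 yb31 zb28) (kb xb7 yb31 zb10) (kb xb6 yb29 zb37) (kb xb2 yb18 zb25) (kb xb3 yb8 zb50) (kb xb7 yb31 zb36) (kb xb7 yb31 zb39) (kb xb3 yb7 zb35) (kb xb1 yb49 zb54) (kb xb7 yb31 zb44) (kb xb7 yb31 zb45) (kb xb7 yb31 zb50) (kb xb6 yb30 zb8) (kb xb6 yb30 zb9) (kb xb7 yb31 zb54) (kb xb7 yb22 zb10) (kb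 xb3 yb26 zb2) (kb xb1 yb49 zb58) (kb xb1 yb49 zb59) (kb xb7 yb32 zb2) (kb xb7 yb32 zb5) (kb xb3 yb25 zb41) (kb xb7 yb0 zb18) (kb xb1 yb49 zb61) (kb xb1 yb50 zb0) (kb xb7 yb32 zb14) (kb xb7 yb32 zb17) (kb xb7 yb32 zb18) (kb xb1 yb50 zb1) (kb xb7 yb32 zb28) (kb xb7 yb0 zb52) (kb xb7 yb32 zb36) (kb xb7 yb32 zb39) (kb xb1 yb50 zb9) (kb xb1 yb50 zb10) (kb xb1 yb50 zb4) (kb xb7 yb32 zb47) (kb xb1 yb50 zb5)) (@D3.rec (fun _ => Pt) (kb xb7 yb32 zb52) (kb xb7 yb32 zb57) (kb xb7 yb32 zb61) (kb xb6 yb43 zb23) (kb xb4 yb46 zb6) (kb xb1 yb50 zb7) (kb xb7 yb33 zb9) (kb xb7 yb33 zb10) (kb xb1 yb50 zb8) (kb xb7 yb33 zb16) (kb xb7 yb33 zb17) (kb xb7 yb33 zb21) (kb xb7 yb33 zb25) (kb xb7 yb33 zb31) (kb xb5 yb18 zb6) (kb xb1 yb50 zb11) (kb xb7 yb33 zb35) (kb xb7 yb33 zb36) (kb xb7 yb33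 zb40) (kb xb7 yb16 zb45) (kb xb7 yb0 zb41) (kb xb3 yb36 zb3) (kb xb1 yb50 zb16) (kb xb1 yb50 zb17) (kb xb5 yb53 zb57) (kb xb7 yb33 zb50) (kb xb6 yb55 zb8) (kb xb3 yb31 zb45) (kb xb1 yb50 zb20) (kb xb6 yb10 zb41) (kb xb1 yb50 zb22) (kb xb7 yb33 zb56) (kb xb1 yb50 zb24) (kb xb7 yb33 zb57) (kb xb7 yb33 zb58) (kb xb3 yb25 zb37) (kb xb3 yb25 zb38) (kb xb6 yb33 zb33) (kb xb7 yb34 zb4) (kb xb3 yb25 zb45) (kb xb6 yb39 zb34) (kb xb1 yb50 zb29) (kb xb7 yb34 zb13) (kb xb3 yb25 zb48) (kb xb1 yb50 zb32) (kb xb7 yb34 zb21) (kb xb7 yb34 zb25) (kb xb7 yb34 zb11) (kb xb7 yb34 zb12) (kb xb1 yb50 zb30) (kb xb7 yb34 zb33) (kb xb7 yb34 zb34) (kb xb1 yb50 zb31) (kb xb7 yb34 zb38) (kb xb7 yb34 zb39) (kb xb7 yb34 zb41) (kb xb7 yb34 zb43) (kb xb1 yb50 zb33) (kb xb7 yb34 zb46) (kb xb1 yb50 zb36)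 (kb xb7 yb34 zb48) (kb xb7 yb21 zb1)) (@D3.rec (fun _ => Pt) (kb xb1 yb51 zb17) (kb xb1 yb50 zb38) (kb xb1 yb50 zb39) (kb xb7 yb34 zb53) (kb xb7 yb34 zb61) (kb xb7 yb34 zb56) (kb xb7 yb35 zb4) (kb xb3 yb47 zb7) (kb xb1 yb54 zb1) (kb xb3 yb49 zb1) (kb xb1 yb50 zb44) (kb xb3 yb15 zb2) (kb xb7 yb35 zb14) (kb xb7 yb35 zb16) (kb xb7 yb35 zb9) (kb xb7 yb35 zb21) (kb xb3 yb26 zb61) (kb xb1 yb51 zb59) (kb xb1 yb50 zb47) (kb xb5 yb51 zb10) (kb xb7 yb35 zb27) (kb xb7 yb35 zb28) (kb xb3 yb27 zb10) (kb xb7 yb35 zb36) (kb xb1 yb52 zb8) (kb xb1 yb50 zb49) (kb xb1 yb50 zb50) (kb xb7 yb35 zb41) (kb xb7 yb35 zb44) (kb xb1 yb50 zb51) (kb xb6 yb54 zb40) (kb xb7 yb35 zb53) (kb xb7 yb35 zb54) (kb xb1 yb50 zb52) (kb xb3 yb48 zb20) (kb xb7 yb35 zb60) (kb xb7 yb35 zb61) (kb xb1 yb52 zb19)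 (kb xb1 yb52 zb20) (kb xb7 yb36 zb10) (kb xb7 yb36 zb13) (kb xb4 yb38 zb9) (kb xb1 yb50 zb56) (kb xb7 yb36 zb24) (kb xb7 yb36 zb28) (kb xb1 yb50 zb59) (kb xb1 yb50 zb60) (kb xb7 yb36 zb35) (kb xb7 yb36 zb39) (kb xb7 yb36 zb22) (kb xb7 yb36 zb23) (kb xb1 yb50 zb57) (kb xb5 yb24 zb43) (kb xb7 yb36 zb49) (kb xb1 yb50 zb58) (kb xb3 yb27 zb43) (kb xb7 yb36 zb55) (kb xb7 yb36 zb56) (kb xb7 yb36 zb58) (kb xb7 yb36 zb61) (kb xb7 yb37 zb4) (kb xb7 yb36 zb34)) (@D3.rec (fun _ => Pt) (kb xb1 yb51 zb1) (kb xb7 yb37 zb7) (kb xb1 yb51 zb0) (kb xb7 yb37 zb11) (kb xb7 yb37 zb16) (kb xb1 yb51 zb4) (kb xb1 yb51 zb3) (kb xb7 yb37 zb19) (kb xb7 yb37 zb20) (kb xb3 yb33 zb50) (kb xb7 yb8 zb36) (kb xb7 yb35 zb51) (kb xb1 yb51 zb57) (kb xb1 yb51 zb8) (kb xb4 yb44 zb7) (kb xb7 yb37 zb28) (kb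 xb3 yb31 zb19) (kb xb1 yb51 zb10) (kb xb7 yb37 zb37) (kb xb7 yb37 zb38) (kb xb3 yb47 zb34) (kb xb7 yb21 zb0) (kb xb3 yb26 zb47) (kb xb1 yb51 zb13) (kb xb7 yb37 zb49) (kb xb7 yb37 zb50) (kb xb3 yb26 zb29) (kb xb7 yb7 zb30) (kb xb1 yb51 zb15) (kb xb7 yb37 zb59) (kb xb1 yb51 zb16) (kb xb7 yb38 zb0) (kb xb7 yb34 zb51) (kb xb1 yb51 zb22) (kb xb7 yb38 zb7) (kb xb7 yb38 zb11) (kb xb1 yb51 zb25) (kb xb1 yb51 zb26) (kb xb1 yb51 zb20) (kb xb7 yb38 zb17) (kb xb1 yb51 zb21) (kb xb7 yb38 zb23) (kb xb7 yb38 zb26) (kb xb7 yb38 zb30) (kb xb7 yb38 zb5) (kb xb7 yb38 zb6) (kb xb1 yb51 zb23) (kb xb7 yb38 zb40) (kb xb7 yb38 zb41) (kb xb1 yb51 zb24) (kb xb7 yb38 zb48) (kb xb7 yb38 zb49) (kb xb7 yb38 zb53) (kb xb7 yb38 zb56) (kb xb7 yb38 zb59) (kb xb5 yb27 zb32) (kb xb1 yb51 zb27) (kb xb7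 yb38 zb61) (kb xb7 yb39 zb0) (kb xb7 yb39 zb5) (kb xb3 yb38 zb0) (kb xb3 yb38 zb1)) (@D3.rec (fun _ => Pt) (kb xb3 yb55 zb38) (kb xb3 yb47 zb9) (kb xb6 yb53 zb52) (kb xb7 yb9 zb46) (kb xb7 yb6 zb21) (kb xb7 yb13 zb23) (kb xb3 yb33 zb19) (kb xb1 yb51 zb35) (kb xb1 yb51 zb36) (kb xb7 yb39 zb14) (kb xb7 yb39 zb17) (kb xb1 yb51 zb37) (kb xb1 yb54 zb57) (kb xb7 yb11 zb57) (kb xb3 yb41 zb52) (kb xb7 yb39 zb23) (kb xb1 yb51 zb56) (kb xb1 yb51 zb41) (kb xb7 yb39 zb24) (kb xb3 yb26 zb26) (kb xb2 yb20 zb6) (kb xb6 yb43 zb24) (kb xb7 yb39 zb34) (kb xb3 yb26 zb31) (kb xb6 yb38 zb23) (kb xb1 yb51 zb46) (kb xb7 yb39 zb45) (kb xb3 yb26 zb34) (kb xb1 yb51 zb49) (kb xb1 yb51 zb50) (kb xb7 yb39 zb53) (kb xb7 yb39 zb57) (kb xb7 yb39 zb43) (kb xb7 yb39 zb44) (kb xb1 yb51 zb47) (kb xb3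 yb26 zb43) (kb xb7 yb40 zb4) (kb xb1 yb51 zb48) (kb xb7 yb40 zb9) (kb xb7 yb40 zb10) (kb xb7 yb40 zb13) (kb xb7 yb40 zb17) (kb xb7 yb40 zb22) (kb xb7 yb39 zb52) (kb xb1 yb51 zb51) (kb xb7 yb40 zb25) (kb xb7 yb40 zb26) (kb xb3 yb54 zb46) (kb xb7 yb40 zb29) (kb xb3 yb49 zb49) (kb xb7 yb40 zb32) (kb xb7 yb40 zb34) (kb xb1 yb51 zb55) (kb xb7 yb40 zb40) (kb xb7 yb40 zb41) (kb xb7 yb35 zb34) (kb xb3 yb14 zb37) (kb xb7 yb37 zb25) (kb xb1 yb51 zb58) (kb xb3 yb54 zb47) (kb xb7 yb40 zb52) (kb xb7 yb40 zb53)) (@D3.rec (fun _ => Pt) (kb xb2 yb50 zb2) (kb xb7 yb35 zb24) (kb xb3 yb40 zb3) (kb xb3 yb40 zb4) (kb xb7 yb41 zb8) (kb xb3 yb15 zb50) (kb xb1 yb52 zb3) (kb xb7 yb41 zb16) (kb xb7 yb41 zb20) (kb xb1 yb52 zb4) (kb xb1 yb52 zb5) (kb xb3 yb34 zb0) (kb xb7 yb5 zb27) (kb xb1 yb52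 zb2) (kb xb7 yb41 zb29) (kb xb7 yb41 zb34) (kb xb7 yb41 zb37) (kb xb7 yb41 zb14) (kb xb7 yb41 zb15) (kb xb7 yb41 zb44) (kb xb7 yb41 zb48) (kb xb7 yb41 zb27) (kb xb1 yb52 zb6) (kb xb7 yb41 zb51) (kb xb1 yb52 zb7) (kb xb7 yb41 zb54) (kb xb7 yb41 zb55) (kb xb3 yb26 zb48) (kb xb7 yb35 zb39) (kb xb7 yb37 zb61) (kb xb1 yb54 zb27) (kb xb1 yb54 zb28) (kb xb7 yb42 zb7) (kb xb6 yb33 zb23) (kb xb1 yb52 zb13) (kb xb7 yb42 zb14) (kb xb7 yb42 zb16) (kb xb1 yb52 zb14) (kb xb1 yb52 zb15) (kb xb7 yb37 zb29) (kb xb7 yb42 zb25) (kb xb7 yb42 zb12) (kb xb7 yb42 zb13) (kb xb7 yb37 zb33) (kb xb7 yb42 zb33) (kb xb7 yb42 zb37) (kb xb7 yb42 zb22) (kb xb7 yb35 zb59) (kb xb3 yb27 zb11) (kb xb1 yb52 zb17) (kb xb1 yb52 zb18) (kb xb7 yb42 zb44) (kb xb7 yb42 zb47) (kb xb7 yb36 zb5) (kb xb7 yb42 zb57)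 (kb xb7 yb42 zb59) (kb xb7 yb36 zb8) (kb xb7 yb36 zb9) (kb xb1 yb52 zb21) (kb xb7 yb43 zb4) (kb xb4 yb35 zb49) (kb xb1 yb52 zb22)) (@D3.rec (fun _ => Pt) (kb xb7 yb43 zb12) (kb xb7 yb43 zb17) (kb xb7 yb43 zb21) (kb xb1 yb52 zb36) (kb xb1 yb52 zb37) (kb xb1 yb52 zb24) (kb xb7 yb43 zb30) (kb xb7 yb43 zb31) (kb xb1 yb52 zb25) (kb xb7 yb43 zb39) (kb xb7 yb43 zb42) (kb xb7 yb43 zb45) (kb xb7 yb43 zb50) (kb xb1 yb52 zb50) (kb xb2 yb50 zb12) (kb xb6 yb35 zb2) (kb xb1 yb52 zb29) (kb xb7 yb44 zb1) (kb xb2 yb56 zb33) (kb xb7 yb43 zb61) (kb xb7 yb44 zb0) (kb xb7 yb1 zb18) (kb xb1 yb52 zb31) (kb xb7 yb30 zb50) (kb xb5 yb54 zb54) (kb xb7 yb44 zb12) (kb xb7 yb44 zb13) (kb xb7 yb44 zb21) (kb xb6 yb37 zb25) (kb xb4 yb37 zb41) (kb xb1 yb52 zb33) (kb xb3 yb7 zb53) (kb xb7 yb44 zb33)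 (kb xb7 yb44 zb29) (kb xb7 yb44 zb30) (kb xb1 yb52 zb34) (kb xb7 yb44 zb45) (kb xb7 yb44 zb42) (kb xb7 yb44 zb43) (kb xb1 yb52 zb35) (kb xb6 yb2 zb24) (kb xb5 yb25 zb47) (kb xb7 yb44 zb58) (kb xb7 yb45 zb4) (kb xb7 yb45 zb8) (kb xb7 yb45 zb14) (kb xb7 yb43 zb27) (kb xb2 yb56 zb42) (kb xb7 yb45 zb19) (kb xb7 yb45 zb23) (kb xb3 yb27 zb21) (kb xb7 yb43 zb37) (kb xb7 yb36 zb48) (kb xb3 yb40 zb34) (kb xb1 yb52 zb41) (kb xb1 yb52 zb42) (kb xb3 yb56 zb14) (kb xb1 yb52 zb40) (kb xb7 yb45 zb44) (kb xb6 yb57 zb37) (kb xb7 yb45 zb46) (kb xb7 yb43 zb33)) (@D3.rec (fun _ => Pt) (kb xb7 yb45 zb53) (kb xb7 yb45 zb39) (kb xb7 yb45 zb42) (kb xb7 yb45 zb43) (kb xb7 yb43 zb28) (kb xb7 yb36 zb54) (kb xb3 yb26 zb20) (kb xb1 yb52 zb46) (kb xb5 yb24 zb32) (kb xb5 yb24 zb40) (kb xb7 yb46 zb5)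 (kb xb1 yb52 zb47) (kb xb7 yb46 zb12) (kb xb7 yb46 zb8) (kb xb7 yb46 zb9) (kb xb1 yb52 zb48) (kb xb7 yb46 zb22) (kb xb7 yb46 zb20) (kb xb7 yb46 zb21) (kb xb7 yb46 zb28) (kb xb7 yb46 zb30) (kb xb1 yb52 zb49) (kb xb7 yb46 zb35) (kb xb7 yb46 zb36) (kb xb7 yb43 zb53) (kb xb3 yb27 zb31) (kb xb1 yb52 zb52) (kb xb7 yb46 zb43) (kb xb7 yb46 zb44) (kb xb1 yb52 zb53) (kb xb7 yb46 zb50) (kb xb7 yb46 zb53) (kb xb7 yb46 zb56) (kb xb7 yb46 zb61) (kb xb7 yb18 zb46) (kb xb3 yb53 zb2) (kb xb1 yb52 zb57) (kb xb7 yb47 zb3) (kb xb7 yb47 zb4) (kb xb1 yb54 zb58) (kb xb3 yb53 zb7) (kb xb7 yb47 zb7) (kb xb1 yb53 zb5) (kb xb1 yb54 zb19) (kb xb7 yb12 zb27) (kb xb1 yb52 zb60) (kb xb7 yb47 zb12) (kb xb7 yb47 zb15) (kb xb7 yb37 zb10) (kb xb1 yb53 zb0) (kb xb1 yb53 zb1) (kb xb7 yb47 zb27) (kb xb7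 yb47 zb30) (kb xb7 yb47 zb34) (kb xb7 yb47 zb23) (kb xb7 yb47 zb40) (kb xb7 yb47 zb26) (kb xb7 yb47 zb43) (kb xb3 yb35 zb2) (kb xb7 yb47 zb46) (kb xb7 yb47 zb48) (kb xb1 yb53 zb4)) (@D3.rec (fun _ => Pt) (kb xb7 yb47 zb53) (kb xb7 yb47 zb54) (kb xb3 yb52 zb35) (kb xb7 yb10 zb36) (kb xb1 yb53 zb8) (kb xb7 yb47 zb59) (kb xb7 yb47 zb60) (kb xb3 yb52 zb40) (kb xb1 yb54 zb55) (kb xb7 yb48 zb4) (kb xb7 yb30 zb35) (kb xb1 yb53 zb53) (kb xb1 yb53 zb15) (kb xb7 yb28 zb6) (kb xb7 yb37 zb18) (kb xb1 yb53 zb12) (kb xb1 yb53 zb13) (kb xb7 yb48 zb15) (kb xb7 yb48 zb11) (kb xb7 yb26 zb22) (kb xb7 yb48 zb13) (kb xb7 yb48 zb14) (kb xb1 yb53 zb14) (kb xb7 yb48 zb26) (kb xb3 yb28 zb3) (kb xb1 yb53 zb19) (kb xb1 yb53 zb18) (kb xb7 yb48 zb28) (kb xb7 yb48 zb29) (kb xb1 yb53 zb21) (kb xb7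 yb48 zb35) (kb xb1 yb53 zb22) (kb xb7 yb48 zb39) (kb xb7 yb48 zb41) (kb xb6 yb58 zb24) (kb xb1 yb53 zb25) (kb xb7 yb48 zb47) (kb xb7 yb48 zb46) (kb xb7 yb48 zb50) (kb xb6 yb22 zb50) (kb xb1 yb53 zb29) (kb xb1 yb53 zb28) (kb xb7 yb48 zb58) (kb xb7 yb48 zb59) (kb xb1 yb53 zb30) (kb xb7 yb49 zb3) (kb xb1 yb53 zb31) (kb xb7 yb49 zb8) (kb xb7 yb49 zb9) (kb xb7 yb49 zb12) (kb xb7 yb30 zb32) (kb xb1 yb53 zb33) (kb xb7 yb49 zb16) (kb xb7 yb49 zb15) (kb xb7 yb35 zb37) (kb xb1 yb53 zb36) (kb xb5 yb48 zb36) (kb xb7 yb38 zb47) (kb xb7 yb49 zb25) (kb xb7 yb49 zb26) (kb xb7 yb49 zb36) (kb xb7 yb8 zb46)) (@D3.rec (fun _ => Pt) (kb xb7 yb8 zb49) (kb xb7 yb8 zb50) (kb xb3 yb55 zb2) (kb xb7 yb40 zb45) (kb xb3 yb55 zb3) (kb xb1 yb53 zb41) (kb xb7 yb49 zb47) (kb xb7 yb49 zb48) (kb xb7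 yb40 zb44) (kb xb3 yb54 zb58) (kb xb3 yb54 zb60) (kb xb1 yb53 zb43) (kb xb7 yb49 zb57) (kb xb1 yb53 zb44) (kb xb7 yb50 zb0) (kb xb7 yb50 zb4) (kb xb7 yb50 zb8) (kb xb3 yb55 zb11) (kb xb3 yb55 zb12) (kb xb1 yb53 zb46) (kb xb7 yb50 zb16) (kb xb7 yb50 zb17) (kb xb1 yb53 zb47) (kb xb7 yb50 zb23) (kb xb7 yb50 zb24) (kb xb7 yb50 zb28) (kb xb7 yb50 zb31) (kb xb7 yb50 zb36) (kb xb3 yb55 zb21) (kb xb1 yb53 zb52) (kb xb7 yb50 zb40) (kb xb1 yb53 zb51) (kb xb7 yb50 zb44) (kb xb7 yb50 zb45) (kb xb3 yb54 zb34) (kb xb7 yb50 zb55) (kb xb7 yb50 zb57) (kb xb1 yb53 zb56) (kb xb1 yb53 zb57) (kb xb1 yb53 zb55) (kb xb7 yb51 zb0) (kb xb7 yb51 zb1) (kb xb7 yb51 zb7) (kb xb7 yb11 zb54) (kb xb7 yb6 zb61) (kb xb3 yb37 zb61) (kb xb3 yb49 zb47) (kb xb3 yb49 zb59) (kb xb1 yb53 zb61) (kb xb1 yb54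 zb0) (kb xb7 yb51 zb15) (kb xb7 yb51 zb24) (kb xb7 yb51 zb18) (kb xb7 yb51 zb19) (kb xb7 yb41 zb4) (kb xb7 yb14 zb48) (kb xb7 yb51 zb32) (kb xb3 yb54 zb57) (kb xb3 yb54 zb9) (kb xb7 yb51 zb35) (kb xb3 yb54 zb10) (kb xb1 yb54 zb6)) (@D3.rec (fun _ => Pt) (kb xb7 yb51 zb40) (kb xb7 yb51 zb43) (kb xb3 yb54 zb2) (kb xb3 yb54 zb4) (kb xb1 yb54 zb8) (kb xb7 yb51 zb49) (kb xb7 yb51 zb50) (kb xb1 yb54 zb9) (kb xb7 yb51 zb58) (kb xb7 yb52 zb1) (kb xb7 yb52 zb5) (kb xb3 yb54 zb17) (kb xb3 yb54 zb18) (kb xb1 yb54 zb11) (kb xb5 yb55 zb46) (kb xb1 yb54 zb12) (kb xb7 yb52 zb20) (kb xb7 yb52 zb21) (kb xb7 yb52 zb24) (kb xb5 yb35 zb20) (kb xb7 yb52 zb30) (kb xb3 yb54 zb28) (kb xb7 yb52 zb34) (kb xb1 yb54 zb16) (kb xb7 yb52 zb38) (kb xb1 yb54 zb18) (kb xb7 yb52 zb43) (kb xb7 yb52 zb44)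 (kb xb1 yb54 zb20) (kb xb7 yb52 zb50) (kb xb1 yb54 zb21) (kb xb7 yb52 zb53) (kb xb7 yb52 zb52) (kb xb7 yb52 zb56) (kb xb7 yb52 zb57) (kb xb7 yb24 zb49) (kb xb7 yb11 zb1) (kb xb3 yb35 zb1) (kb xb3 yb49 zb0) (kb xb6 yb43 zb19) (kb xb7 yb7 zb52) (kb xb2 yb53 zb37) (kb xb7 yb42 zb4) (kb xb7 yb53 zb11) (kb xb7 yb34 zb55) (kb xb7 yb42 zb6) (kb xb1 yb54 zb31) (kb xb1 yb54 zb32) (kb xb4 yb34 zb45) (kb xb7 yb53 zb17) (kb xb7 yb8 zb33) (kb xb7 yb53 zb18) (kb xb7 yb37 zb57) (kb xb7 yb53 zb28) (kb xb1 yb54 zb38) (kb xb7 yb53 zb29) (kb xb1 yb54 zb37) (kb xb7 yb53 zb32) (kb xb7 yb53 zb33) (kb xb1 yb54 zb40) (kb xb7 yb53 zb39) (kb xb1 yb54 zb41)) (@D3.rec (fun _ => Pt) (kb xb7 yb53 zb42) (kb xb7 yb53 zb44) (kb xb3 yb56 zb26) (kb xb1 yb54 zb54) (kb xb3 yb28 zb2) (kb xb3 yb28 zb11)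 (kb xb3 yb56 zb49) (kb xb1 yb54 zb47) (kb xb7 yb53 zb59) (kb xb1 yb54 zb48) (kb xb7 yb54 zb1) (kb xb7 yb54 zb2) (kb xb7 yb54 zb3) (kb xb1 yb54 zb51) (kb xb3 yb51 zb56) (kb xb7 yb54 zb7) (kb xb1 yb54 zb53) (kb xb7 yb54 zb14) (kb xb7 yb54 zb17) (kb xb7 yb54 zb22) (kb xb7 yb54 zb13) (kb xb7 yb54 zb28) (kb xb7 yb54 zb29) (kb xb7 yb28 zb48) (kb xb7 yb54 zb30) (kb xb7 yb54 zb32) (kb xb3 yb56 zb2) (kb xb7 yb54 zb37) (kb xb7 yb54 zb39) (kb xb1 yb54 zb59) (kb xb7 yb54 zb43) (kb xb1 yb54 zb60) (kb xb7 yb54 zb47) (kb xb7 yb54 zb48) (kb xb1 yb55 zb0) (kb xb7 yb54 zb53) (kb xb1 yb55 zb2) (kb xb7 yb54 zb59) (kb xb7 yb55 zb0) (kb xb7 yb55 zb3) (kb xb7 yb54 zb58) (kb xb7 yb55 zb10) (kb xb7 yb55 zb11) (kb xb3 yb31 zb59) (kb xb3 yb34 zb52) (kb xb7 yb55 zb14) (kb xb2 yb22 zb58) (kb xb7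 yb55 zb19) (kb xb7 yb1 zb45) (kb xb3 yb56 zb6) (kb xb1 yb55 zb8) (kb xb7 yb55 zb23) (kb xb2 yb8 zb7) (kb xb2 yb1 zb33) (kb xb7 yb55 zb27) (kb xb2 yb2 zb34) (kb xb1 yb55 zb13) (kb xb1 yb55 zb14) (kb xb2 yb2 zb19) (kb xb7 yb55 zb33) (kb xb7 yb55 zb31) (kb xb5 yb19 zb10)) (@D3.rec (fun _ => Pt) (kb xb7 yb55 zb38) (kb xb4 yb15 zb25) (kb xb1 yb55 zb17) (kb xb7 yb55 zb44) (kb xb4 yb15 zb30) (kb xb7 yb55 zb51) (kb xb7 yb55 zb53) (kb xb1 yb55 zb19) (kb xb7 yb55 zb59) (kb xb7 yb55 zb60) (kb xb4 yb17 zb13) (kb xb1 yb58 zb23) (kb xb1 yb55 zb22) (kb xb1 yb55 zb23) (kb xb7 yb56 zb8) (kb xb7 yb56 zb6) (kb xb7 yb56 zb7) (kb xb1 yb55 zb24) (kb xb7 yb56 zb15) (kb xb7 yb8 zb25) (kb xb1 yb55 zb27) (kb xb7 yb56 zb18) (kb xb7 yb7 zb11) (kb xb1 yb55 zb29) (kb xb7 yb56 zb20) (kb xb7 yb8 zb10)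 (kb xb4 yb32 zb33) (kb xb4 yb32 zb34) (kb xb3 yb36 zb59) (kb xb2 yb9 zb8) (kb xb1 yb55 zb32) (kb xb1 yb55 zb33) (kb xb7 yb56 zb30) (kb xb7 yb56 zb32) (kb xb7 yb56 zb34) (kb xb7 yb56 zb28) (kb xb7 yb56 zb29) (kb xb2 yb18 zb56) (kb xb3 yb9 zb60) (kb xb1 yb55 zb35) (kb xb3 yb32 zb23) (kb xb2 yb15 zb8) (kb xb2 yb15 zb40) (kb xb2 yb9 zb46) (kb xb1 yb55 zb38) (kb xb7 yb56 zb52) (kb xb4 yb25 zb17) (kb xb7 yb56 zb58) (kb xb1 yb55 zb40) (kb xb7 yb56 zb61) (kb xb7 yb17 zb31) (kb xb1 yb55 zb42) (kb xb5 yb50 zb49) (kb xb1 yb57 zb59) (kb xb1 yb55 zb43) (kb xb7 yb57 zb8) (kb xb7 yb57 zb9) (kb xb2 yb10 zb21) (kb xb4 yb42 zb45) (kb xb7 yb57 zb16) (kb xb4 yb26 zb21) (kb xb1 yb55 zb46)) (@D3.rec (fun _ => Pt) (kb xb7 yb57 zb25) (kb xb7 yb57 zb28) (kb xb7 yb57 zb24) (kb xb4 yb13 zb36)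 (kb xb7 yb57 zb33) (kb xb7 yb57 zb35) (kb xb2 yb1 zb39) (kb xb2 yb25 zb28) (kb xb5 yb0 zb35) (kb xb2 yb39 zb2) (kb xb7 yb57 zb45) (kb xb2 yb25 zb14) (kb xb1 yb55 zb56) (kb xb1 yb55 zb57) (kb xb4 yb13 zb58) (kb xb4 yb13 zb59) (kb xb2 yb25 zb20) (kb xb7 yb57 zb58) (kb xb7 yb57 zb50) (kb xb4 yb20 zb20) (kb xb1 yb55 zb59) (kb xb1 yb55 zb60) (kb xb7 yb58 zb5) (kb xb7 yb58 zb4) (kb xb1 yb55 zb61) (kb xb7 yb58 zb12) (kb xb7 yb58 zb10) (kb xb1 yb56 zb0) (kb xb7 yb58 zb19) (kb xb7 yb58 zb18) (kb xb7 yb58 zb26) (kb xb7 yb58 zb29) (kb xb1 yb56 zb1) (kb xb7 yb58 zb35) (kb xb5 yb31 zb30) (kb xb1 yb56 zb8) (kb xb2 yb42 zb43) (kb xb1 yb56 zb4) (kb xb7 yb58 zb49) (kb xb7 yb58 zb16) (kb xb7 yb58 zb48) (kb xb7 yb58 zb22) (kb xb7 yb58 zb53) (kb xb4 yb14 zb45) (kb xb7 yb58 zb54) (kb xb7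 yb58 zb58) (kb xb2 yb25 zb57) (kb xb1 yb56 zb7) (kb xb7 yb59 zb3) (kb xb7 yb59 zb5) (kb xb4 yb14 zb54) (kb xb1 yb56 zb10) (kb xb1 yb56 zb11) (kb xb2 yb44 zb56) (kb xb4 yb42 zb56) (kb xb2 yb26 zb20) (kb xb2 yb26 zb27) (kb xb7 yb59 zb9) (kb xb1 yb56 zb14) (kb xb7 yb59 zb14) (kb xb5 yb47 zb11) (kb xb2 yb26 zb28)) (@D3.rec (fun _ => Pt) (kb xb2 yb26 zb34) (kb xb1 yb56 zb15) (kb xb7 yb59 zb24) (kb xb7 yb59 zb22) (kb xb7 yb59 zb23) (kb xb2 yb26 zb37) (kb xb7 yb59 zb33) (kb xb7 yb59 zb36) (kb xb2 yb45 zb7) (kb xb1 yb56 zb20) (kb xb1 yb56 zb21) (kb xb1 yb56 zb19) (kb xb7 yb59 zb46) (kb xb7 yb59 zb47) (kb xb7 yb59 zb49) (kb xb7 yb59 zb44) (kb xb7 yb59 zb45) (kb xb1 yb56 zb24) (kb xb1 yb56 zb25) (kb xb7 yb56 zb48) (kb xb2 yb9 zb45) (kb xb1 yb56 zb23) (kb xb6 yb15 zb39) (kb xb7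 yb59 zb56) (kb xb8 yb0 zb1) (kb xb3 yb6 zb54) (kb xb3 yb6 zb55) (kb xb2 yb27 zb8) (kb xb8 yb0 zb5) (kb xb1 yb56 zb28) (kb xb1 yb56 zb29) (kb xb1 yb56 zb27) (kb xb5 yb49 zb6) (kb xb8 yb0 zb10) (kb xb8 yb0 zb14) (kb xb8 yb0 zb7) (kb xb2 yb27 zb26) (kb xb8 yb0 zb8) (kb xb8 yb0 zb9) (kb xb8 yb0 zb20) (kb xb2 yb27 zb32) (kb xb1 yb56 zb31) (kb xb5 yb54 zb44) (kb xb8 yb0 zb25) (kb xb1 yb56 zb32) (kb xb8 yb0 zb33) (kb xb8 yb0 zb32) (kb xb8 yb0 zb37) (kb xb3 yb23 zb42) (kb xb3 yb23 zb46) (kb xb8 yb0 zb44) (kb xb8 yb0 zb48) (kb xb1 yb56 zb37) (kb xb1 yb56 zb35) (kb xb8 yb0 zb54) (kb xb8 yb0 zb55) (kb xb1 yb56 zb36) (kb xb8 yb0 zb58) (kb xb8 yb0 zb60) (kb xb1 yb56 zb41) (kb xb3 yb33 zb46) (kb xb3 yb33 zb8))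
def f_b_4 : D2 → D3 → Pt := @D2.rec (fun _ => D3 → Pt) (@D3.rec (fun _ => Pt) (kb xb4 yb0 zb27) (kb xb1 yb56 zb47) (kb xb1 yb56 zb48) (kb xb8 yb1 zb8) (kb xb8 yb1 zb6) (kb xb8 yb1 zb7) (kb xb4 yb36 zb38) (kb xb1 yb56 zb50) (kb xb8 yb1 zb15) (kb xb6 yb13 zb32) (kb xb1 yb56 zb53) (kb xb8 yb1 zb21) (kb xb8 yb1 zb24) (kb xb8 yb1 zb20) (kb xb1 yb56 zb54) (kb xb8 yb1 zb28) (kb xb1 yb56 zb55) (kb xb8 yb1 zb31) (kb xb1 yb56 zb56) (kb xb8 yb1 zb37) (kb xb8 yb1 zb38) (kb xb4 yb50 zb61) (kb xb1 yb56 zb58) (kb xb4 yb0 zb23) (kb xb2 yb9 zb0) (kb xb7 yb59 zb10) (kb xb8 yb1 zb48) (kb xb4 yb0 zb0) (kb xb1 yb56 zb61) (kb xb1 yb57 zb0) (kb xb8 yb1 zb59) (kb xb8 yb1 zb56) (kb xb8 yb1 zb57) (kb xb8 yb1 zb58) (kb xb6 yb13 zb46) (kb xb8 yb2 zb5) (kb xb2 yb18 zb45) (kb xb1 yb57 zb3) (kb xb8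 yb2 zb7) (kb xb3 yb3 zb36) (kb xb2 yb53 zb4) (kb xb2 yb54 zb5) (kb xb6 yb13 zb16) (kb xb5 yb13 zb56) (kb xb1 yb57 zb9) (kb xb2 yb10 zb16) (kb xb6 yb15 zb40) (kb xb6 yb13 zb23) (kb xb3 yb10 zb5) (kb xb6 yb15 zb19) (kb xb8 yb2 zb25) (kb xb1 yb57 zb14) (kb xb1 yb57 zb13) (kb xb1 yb57 zb15) (kb xb8 yb2 zb30) (kb xb8 yb2 zb34) (kb xb8 yb2 zb37) (kb xb8 yb2 zb29) (kb xb8 yb2 zb31) (kb xb2 yb38 zb48) (kb xb8 yb2 zb44) (kb xb2 yb58 zb29)) (@D3.rec (fun _ => Pt) (kb xb2 yb58 zb30) (kb xb4 yb15 zb4) (kb xb8 yb2 zb49) (kb xb4 yb21 zb1) (kb xb1 yb57 zb21) (kb xb8 yb2 zb54) (kb xb8 yb2 zb53) (kb xb8 yb2 zb60) (kb xb2 yb11 zb17) (kb xb1 yb57 zb23) (kb xb5 yb22 zb27) (kb xb2 yb29 zb58) (kb xb8 yb3 zb9) (kb xb5 yb19 zb9) (kb xb8 yb2 zb15) (kb xb1 yb59 zb17) (kb xb2 yb53 zb34) (kb xb7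 yb19 zb16) (kb xb7 yb19 zb17) (kb xb8 yb3 zb18) (kb xb5 yb17 zb3) (kb xb1 yb57 zb37) (kb xb8 yb3 zb23) (kb xb1 yb57 zb39) (kb xb8 yb3 zb27) (kb xb1 yb57 zb40) (kb xb8 yb3 zb30) (kb xb8 yb3 zb31) (kb xb1 yb57 zb42) (kb xb8 yb3 zb34) (kb xb1 yb57 zb43) (kb xb8 yb3 zb40) (kb xb8 yb3 zb41) (kb xb1 yb57 zb45) (kb xb8 yb3 zb46) (kb xb8 yb3 zb48) (kb xb8 yb3 zb50) (kb xb8 yb3 zb45) (kb xb4 yb20 zb41) (kb xb1 yb57 zb48) (kb xb5 yb0 zb45) (kb xb8 yb3 zb60) (kb xb8 yb3 zb58) (kb xb8 yb4 zb3) (kb xb6 yb5 zb43) (kb xb6 yb5 zb44) (kb xb1 yb57 zb51) (kb xb8 yb4 zb10) (kb xb8 yb4 zb9) (kb xb1 yb57 zb52) (kb xb8 yb4 zb16) (kb xb8 yb4 zb15) (kb xb8 yb4 zb21) (kb xb8 yb4 zb24) (kb xb1 yb57 zb53) (kb xb8 yb4 zb30) (kb xb8 yb4 zb31) (kb xb5 yb0 zb56) (kb xb2 yb33 zb25) (kb xb5 yb15 zb30)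 (kb xb8 yb4 zb37) (kb xb2 yb35 zb33)) (@D3.rec (fun _ => Pt) (kb xb2 yb7 zb46) (kb xb8 yb4 zb42) (kb xb5 yb14 zb24) (kb xb7 yb57 zb6) (kb xb8 yb4 zb44) (kb xb5 yb19 zb2) (kb xb1 yb58 zb1) (kb xb8 yb4 zb49) (kb xb6 yb7 zb35) (kb xb1 yb58 zb4) (kb xb7 yb19 zb19) (kb xb7 yb6 zb30) (kb xb1 yb58 zb6) (kb xb8 yb4 zb56) (kb xb6 yb7 zb41) (kb xb6 yb7 zb42) (kb xb8 yb4 zb61) (kb xb8 yb5 zb4) (kb xb2 yb24 zb45) (kb xb1 yb58 zb9) (kb xb1 yb58 zb10) (kb xb8 yb5 zb15) (kb xb8 yb5 zb17) (kb xb8 yb5 zb19) (kb xb8 yb5 zb12) (kb xb8 yb5 zb13) (kb xb8 yb5 zb14) (kb xb5 yb19 zb11) (kb xb4 yb15 zb48) (kb xb1 yb58 zb14) (kb xb8 yb5 zb35) (kb xb8 yb5 zb36) (kb xb4 yb27 zb31) (kb xb4 yb27 zb8) (kb xb4 yb21 zb9) (kb xb8 yb5 zb44) (kb xb2 yb36 zb18) (kb xb2 yb35 zb40) (kb xb5 yb19 zb5) (kb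 xb1 yb58 zb21) (kb xb8 yb5 zb57) (kb xb8 yb5 zb58) (kb xb5 yb21 zb25) (kb xb7 yb56 zb3) (kb xb7 yb56 zb4) (kb xb8 yb6 zb4) (kb xb2 yb40 zb8) (kb xb2 yb40 zb10) (kb xb8 yb6 zb8) (kb xb2 yb41 zb47) (kb xb2 yb41 zb48) (kb xb8 yb6 zb14) (kb xb8 yb6 zb17) (kb xb1 yb58 zb27) (kb xb8 yb6 zb23) (kb xb8 yb6 zb24) (kb xb1 yb59 zb5) (kb xb5 yb4 zb49) (kb xb2 yb39 zb30) (kb xb8 yb6 zb34) (kb xb2 yb38 zb57) (kb xb2 yb41 zb53)) (@D3.rec (fun _ => Pt) (kb xb2 yb37 zb0) (kb xb1 yb58 zb32) (kb xb1 yb58 zb33) (kb xb8 yb6 zb42) (kb xb8 yb6 zb41) (kb xb2 yb1 zb47) (kb xb5 yb18 zb60) (kb xb5 yb24 zb22) (kb xb8 yb6 zb49) (kb xb2 yb36 zb36) (kb xb6 yb4 zb27) (kb xb8 yb6 zb55) (kb xb5 yb22 zb40) (kb xb6 yb6 zb33) (kb xb8 yb7 zb1) (kb xb1 yb58 zb36) (kb xb8 yb7 zb7) (kb xb8 yb7 zb8) (kb xb4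 yb7 zb46) (kb xb2 yb36 zb53) (kb xb8 yb7 zb16) (kb xb1 yb58 zb43) (kb xb2 yb36 zb38) (kb xb1 yb58 zb46) (kb xb8 yb7 zb21) (kb xb5 yb22 zb33) (kb xb8 yb7 zb26) (kb xb2 yb41 zb13) (kb xb1 yb58 zb42) (kb xb8 yb7 zb31) (kb xb5 yb22 zb38) (kb xb5 yb28 zb6) (kb xb2 yb37 zb31) (kb xb8 yb7 zb19) (kb xb8 yb7 zb44) (kb xb2 yb11 zb39) (kb xb2 yb10 zb58) (kb xb2 yb10 zb59) (kb xb2 yb38 zb12) (kb xb2 yb1 zb58) (kb xb8 yb7 zb49) (kb xb1 yb58 zb52) (kb xb2 yb38 zb16) (kb xb2 yb2 zb4) (kb xb1 yb58 zb54) (kb xb1 yb58 zb55) (kb xb1 yb58 zb51) (kb xb8 yb7 zb59) (kb xb2 yb41 zb21) (kb xb5 yb23 zb36) (kb xb8 yb7 zb54) (kb xb8 yb7 zb55) (kb xb8 yb8 zb8) (kb xb8 yb8 zb11) (kb xb1 yb58 zb58) (kb xb1 yb58 zb57) (kb xb8 yb8 zb19) (kb xb8 yb8 zb24) (kb xb8 yb6 zb12) (kb xb5 yb5 zb21) (kb xb8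 yb8 zb15) (kb xb2 yb10 zb60)) (@D3.rec (fun _ => Pt) (kb xb8 yb8 zb34) (kb xb1 yb58 zb61) (kb xb1 yb58 zb60) (kb xb8 yb8 zb43) (kb xb2 yb42 zb24) (kb xb8 yb8 zb51) (kb xb8 yb8 zb39) (kb xb1 yb59 zb0) (kb xb8 yb8 zb57) (kb xb1 yb59 zb1) (kb xb8 yb9 zb2) (kb xb8 yb9 zb7) (kb xb8 yb9 zb12) (kb xb8 yb3 zb5) (kb xb1 yb59 zb3) (kb xb1 yb59 zb4) (kb xb8 yb9 zb20) (kb xb8 yb9 zb21) (kb xb6 yb5 zb27) (kb xb8 yb9 zb31) (kb xb8 yb9 zb35) (kb xb5 yb29 zb42) (kb xb1 yb59 zb7) (kb xb8 yb9 zb41) (kb xb8 yb9 zb40) (kb xb1 yb59 zb8) (kb xb8 yb9 zb48) (kb xb8 yb9 zb51) (kb xb8 yb9 zb53) (kb xb1 yb59 zb57) (kb xb2 yb12 zb27) (kb xb1 yb59 zb10) (kb xb8 yb9 zb59) (kb xb6 yb6 zb39) (kb xb1 yb59 zb13) (kb xb8 yb3 zb15) (kb xb8 yb10 zb1) (kb xb1 yb59 zb21) (kb xb1 yb59 zb24) (kb xb1 yb59 zb20)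 (kb xb8 yb10 zb8) (kb xb8 yb10 zb11) (kb xb8 yb10 zb15) (kb xb4 yb51 zb9) (kb xb8 yb10 zb4) (kb xb1 yb59 zb22) (kb xb8 yb10 zb21) (kb xb4 yb56 zb1) (kb xb1 yb59 zb27) (kb xb8 yb10 zb27) (kb xb1 yb59 zb29) (kb xb1 yb59 zb31) (kb xb2 yb33 zb19) (kb xb7 yb14 zb32) (kb xb4 yb13 zb30) (kb xb1 yb59 zb34) (kb xb1 yb59 zb35) (kb xb8 yb10 zb40) (kb xb8 yb10 zb38) (kb xb8 yb10 zb39) (kb xb1 yb59 zb38) (kb xb4 yb7 zb29)) (@D3.rec (fun _ => Pt) (kb xb8 yb10 zb48) (kb xb8 yb10 zb50) (kb xb2 yb34 zb30) (kb xb4 yb6 zb28) (kb xb4 yb13 zb54) (kb xb8 yb10 zb58) (kb xb4 yb6 zb16) (kb xb1 yb59 zb46) (kb xb1 yb59 zb47) (kb xb4 yb7 zb30) (kb xb4 yb7 zb31) (kb xb4 yb6 zb22) (kb xb8 yb11 zb11) (kb xb8 yb11 zb2) (kb xb1 yb59 zb49) (kb xb8 yb11 zb19) (kb xb8 yb11 zb18) (kb xb1 yb59 zb51) (kb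 xb8 yb11 zb26) (kb xb8 yb11 zb24) (kb xb1 yb59 zb52) (kb xb8 yb11 zb33) (kb xb8 yb11 zb32) (kb xb8 yb11 zb39) (kb xb8 yb11 zb42) (kb xb6 yb12 zb42) (kb xb4 yb49 zb37) (kb xb1 yb59 zb61) (kb xb1 yb59 zb56) (kb xb8 yb11 zb56) (kb xb8 yb11 zb30) (kb xb8 yb11 zb55) (kb xb8 yb11 zb36) (kb xb5 yb52 zb46) (kb xb6 yb51 zb16) (kb xb2 yb0 zb1) (kb xb2 yb0 zb4) (kb xb7 yb30 zb36) (kb xb5 yb7 zb39) (kb xb2 yb53 zb20) (kb xb2 yb15 zb51) (kb xb2 yb0 zb7) (kb xb8 yb12 zb7) (kb xb2 yb0 zb9) (kb xb2 yb0 zb11) (kb xb2 yb0 zb12) (kb xb8 yb12 zb13) (kb xb4 yb7 zb6) (kb xb8 yb12 zb16) (kb xb2 yb0 zb13) (kb xb8 yb12 zb20) (kb xb5 yb14 zb15) (kb xb2 yb49 zb27) (kb xb4 yb7 zb12) (kb xb2 yb0 zb14) (kb xb8 yb5 zb3) (kb xb8 yb12 zb27) (kb xb8 yb12 zb28) (kb xb4 yb7 zb15) (kb xb4 yb58 zb20) (kb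 xb8 yb12 zb39) (kb xb8 yb12 zb43)) (@D3.rec (fun _ => Pt) (kb xb2 yb0 zb19) (kb xb2 yb0 zb20) (kb xb2 yb0 zb18) (kb xb5 yb51 zb11) (kb xb8 yb12 zb53) (kb xb5 yb8 zb15) (kb xb8 yb12 zb49) (kb xb8 yb12 zb50) (kb xb2 yb0 zb23) (kb xb2 yb34 zb19) (kb xb8 yb12 zb59) (kb xb8 yb12 zb61) (kb xb2 yb35 zb22) (kb xb4 yb50 zb33) (kb xb2 yb35 zb27) (kb xb8 yb13 zb6) (kb xb4 yb5 zb6) (kb xb2 yb0 zb31) (kb xb2 yb0 zb32) (kb xb2 yb35 zb14) (kb xb5 yb15 zb0) (kb xb4 yb9 zb35) (kb xb4 yb5 zb11) (kb xb2 yb0 zb42) (kb xb8 yb13 zb22) (kb xb8 yb13 zb12) (kb xb2 yb0 zb35) (kb xb2 yb0 zb36) (kb xb4 yb5 zb3) (kb xb2 yb3 zb27) (kb xb8 yb13 zb33) (kb xb8 yb13 zb30) (kb xb2 yb0 zb37) (kb xb8 yb13 zb38) (kb xb8 yb13 zb36) (kb xb2 yb0 zb38) (kb xb8 yb13 zb45) (kb xb8 yb13 zb44) (kb xb8 yb13 zb50)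 (kb xb8 yb13 zb53) (kb xb2 yb0 zb39) (kb xb8 yb13 zb58) (kb xb8 yb13 zb59) (kb xb2 yb0 zb54) (kb xb8 yb14 zb6) (kb xb2 yb0 zb44) (kb xb2 yb0 zb43) (kb xb8 yb13 zb26) (kb xb8 yb14 zb10) (kb xb5 yb15 zb17) (kb xb8 yb14 zb13) (kb xb2 yb0 zb48) (kb xb2 yb0 zb47) (kb xb8 yb14 zb19) (kb xb5 yb26 zb56) (kb xb2 yb0 zb50) (kb xb8 yb14 zb25) (kb xb8 yb13 zb42) (kb xb8 yb14 zb24) (kb xb8 yb14 zb29) (kb xb8 yb14 zb33) (kb xb3 yb24 zb7)) (@D3.rec (fun _ => Pt) (kb xb2 yb0 zb52) (kb xb2 yb0 zb53) (kb xb8 yb14 zb39) (kb xb8 yb14 zb40) (kb xb2 yb31 zb4) (kb xb4 yb36 zb42) (kb xb4 yb5 zb47) (kb xb4 yb53 zb53) (kb xb2 yb0 zb58) (kb xb8 yb14 zb48) (kb xb5 yb47 zb58) (kb xb2 yb0 zb59) (kb xb4 yb5 zb53) (kb xb5 yb7 zb20) (kb xb5 yb49 zb17) (kb xb4 yb5 zb58) (kb xb8 yb14 zb51) (kb xb5 yb13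 zb54) (kb xb2 yb17 zb40) (kb xb2 yb1 zb3) (kb xb2 yb1 zb4) (kb xb2 yb1 zb1) (kb xb8 yb14 zb54) (kb xb2 yb1 zb2) (kb xb2 yb52 zb2) (kb xb5 yb14 zb40) (kb xb8 yb14 zb59) (kb xb6 yb17 zb49) (kb xb8 yb14 zb52) (kb xb4 yb4 zb61) (kb xb4 yb5 zb9) (kb xb4 yb5 zb10) (kb xb2 yb28 zb8) (kb xb8 yb15 zb5) (kb xb2 yb23 zb27) (kb xb8 yb15 zb8) (kb xb2 yb28 zb57) (kb xb8 yb15 zb11) (kb xb4 yb14 zb56) (kb xb8 yb15 zb17) (kb xb4 yb14 zb58) (kb xb8 yb15 zb22) (kb xb8 yb15 zb25) (kb xb2 yb1 zb13) (kb xb8 yb15 zb31) (kb xb8 yb15 zb32) (kb xb4 yb3 zb18) (kb xb2 yb36 zb47) (kb xb2 yb2 zb22) (kb xb2 yb7 zb59) (kb xb2 yb11 zb8) (kb xb8 yb15 zb44) (kb xb2 yb1 zb25) (kb xb4 yb53 zb57) (kb xb4 yb12 zb32) (kb xb4 yb53 zb59) (kb xb8 yb15 zb52) (kb xb4 yb54 zb4) (kb xb8 yb15 zb56) (kb xb4 yb15 zb8)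 (kb xb8 yb15 zb41) (kb xb4 yb15 zb10)) (@D3.rec (fun _ => Pt) (kb xb8 yb15 zb61) (kb xb4 yb15 zb12) (kb xb8 yb16 zb5) (kb xb8 yb16 zb8) (kb xb2 yb1 zb24) (kb xb8 yb16 zb14) (kb xb8 yb16 zb15) (kb xb8 yb15 zb46) (kb xb2 yb1 zb28) (kb xb2 yb1 zb29) (kb xb2 yb25 zb18) (kb xb2 yb25 zb19) (kb xb4 yb15 zb21) (kb xb8 yb16 zb27) (kb xb8 yb16 zb23) (kb xb8 yb16 zb32) (kb xb4 yb51 zb25) (kb xb2 yb1 zb32) (kb xb8 yb16 zb38) (kb xb8 yb16 zb37) (kb xb8 yb16 zb43) (kb xb7 yb55 zb26) (kb xb8 yb16 zb48) (kb xb8 yb16 zb51) (kb xb2 yb1 zb34) (kb xb8 yb16 zb57) (kb xb8 yb16 zb58) (kb xb4 yb15 zb36) (kb xb4 yb15 zb53) (kb xb8 yb17 zb2) (kb xb2 yb1 zb44) (kb xb4 yb12 zb11) (kb xb8 yb17 zb9) (kb xb2 yb12 zb38) (kb xb8 yb17 zb12) (kb xb7 yb57 zb38) (kb xb2 yb43 zb37) (kb xb2 yb44 zb25) (kb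 xb8 yb17 zb17) (kb xb4 yb15 zb38) (kb xb8 yb17 zb23) (kb xb2 yb2 zb26) (kb xb8 yb17 zb26) (kb xb8 yb17 zb29) (kb xb2 yb1 zb43) (kb xb8 yb17 zb35) (kb xb8 yb17 zb36) (kb xb4 yb15 zb46) (kb xb2 yb2 zb31) (kb xb5 yb19 zb44) (kb xb8 yb17 zb7) (kb xb8 yb17 zb52) (kb xb2 yb2 zb12) (kb xb2 yb8 zb10) (kb xb2 yb8 zb11) (kb xb2 yb25 zb10) (kb xb2 yb3 zb59) (kb xb2 yb8 zb15) (kb xb2 yb2 zb18) (kb xb8 yb17 zb61) (kb xb2 yb1 zb57) (kb xb2 yb1 zb59)) (@D3.rec (fun _ => Pt) (kb xb2 yb1 zb54) (kb xb2 yb1 zb55) (kb xb8 yb18 zb7) (kb xb8 yb18 zb6) (kb xb2 yb12 zb42) (kb xb7 yb56 zb5) (kb xb4 yb19 zb7) (kb xb2 yb1 zb56) (kb xb8 yb18 zb17) (kb xb8 yb18 zb18) (kb xb2 yb2 zb44) (kb xb4 yb16 zb1) (kb xb8 yb7 zb48) (kb xb8 yb18 zb4) (kb xb8 yb18 zb30) (kb xb8 yb18 zb32) (kb xb2 yb2 zb0) (kb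 xb2 yb2 zb1) (kb xb8 yb18 zb37) (kb xb8 yb18 zb39) (kb xb2 yb1 zb61) (kb xb8 yb18 zb43) (kb xb8 yb18 zb44) (kb xb2 yb41 zb0) (kb xb4 yb12 zb34) (kb xb4 yb16 zb8) (kb xb2 yb2 zb54) (kb xb4 yb19 zb14) (kb xb8 yb8 zb1) (kb xb2 yb8 zb12) (kb xb8 yb18 zb59) (kb xb2 yb2 zb5) (kb xb2 yb2 zb3) (kb xb8 yb19 zb7) (kb xb8 yb19 zb8) (kb xb4 yb6 zb21) (kb xb2 yb3 zb0) (kb xb4 yb16 zb18) (kb xb8 yb19 zb2) (kb xb8 yb19 zb3) (kb xb2 yb2 zb6) (kb xb8 yb1 zb27) (kb xb8 yb19 zb24) (kb xb8 yb19 zb25) (kb xb2 yb2 zb7) (kb xb8 yb19 zb35) (kb xb8 yb19 zb36) (kb xb8 yb19 zb42) (kb xb8 yb19 zb45) (kb xb8 yb16 zb56) (kb xb2 yb2 zb9) (kb xb2 yb2 zb10) (kb xb8 yb19 zb54) (kb xb8 yb19 zb56) (kb xb8 yb19 zb58) (kb xb8 yb19 zb51) (kb xb8 yb19 zb52) (kb xb8 yb19 zb53) (kb xb7 yb56 zb2) (kb xb8 yb20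 zb8) (kb xb8 yb20 zb12) (kb xb8 yb17 zb54)) (@D3.rec (fun _ => Pt) (kb xb8 yb20 zb15) (kb xb4 yb16 zb45) (kb xb8 yb7 zb20) (kb xb2 yb36 zb22) (kb xb2 yb43 zb32) (kb xb4 yb21 zb21) (kb xb8 yb20 zb25) (kb xb2 yb24 zb8) (kb xb2 yb43 zb55) (kb xb2 yb7 zb53) (kb xb2 yb24 zb10) (kb xb8 yb20 zb30) (kb xb8 yb17 zb60) (kb xb8 yb20 zb35) (kb xb7 yb55 zb32) (kb xb8 yb20 zb40) (kb xb8 yb20 zb43) (kb xb2 yb2 zb20) (kb xb8 yb20 zb49) (kb xb8 yb20 zb50) (kb xb8 yb20 zb58) (kb xb7 yb55 zb36) (kb xb2 yb2 zb32) (kb xb2 yb2 zb25) (kb xb8 yb21 zb3) (kb xb2 yb2 zb27) (kb xb4 yb48 zb25) (kb xb6 yb42 zb55) (kb xb6 yb48 zb21) (kb xb4 yb17 zb9) (kb xb2 yb2 zb29) (kb xb3 yb1 zb7) (kb xb6 yb52 zb32) (kb xb6 yb18 zb2) (kb xb2 yb2 zb30) (kb xb8 yb17 zb47) (kb xb2 yb5 zb38) (kb xb8 yb21 zb12) (kb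 xb7 yb55 zb29) (kb xb8 yb21 zb15) (kb xb4 yb17 zb15) (kb xb2 yb2 zb37) (kb xb7 yb23 zb23) (kb xb8 yb18 zb3) (kb xb8 yb21 zb18) (kb xb8 yb21 zb21) (kb xb2 yb2 zb38) (kb xb8 yb21 zb27) (kb xb6 yb38 zb12) (kb xb8 yb21 zb34) (kb xb2 yb2 zb45) (kb xb2 yb2 zb46) (kb xb8 yb21 zb40) (kb xb4 yb50 zb21) (kb xb8 yb21 zb42) (kb xb4 yb17 zb32) (kb xb6 yb42 zb33) (kb xb8 yb21 zb45) (kb xb8 yb18 zb26) (kb xb8 yb21 zb46) (kb xb8 yb21 zb49) (kb xb8 yb21 zb39)) (@D3.rec (fun _ => Pt) (kb xb2 yb2 zb47) (kb xb8 yb21 zb55) (kb xb4 yb17 zb38) (kb xb8 yb21 zb61) (kb xb8 yb22 zb1) (kb xb2 yb2 zb49) (kb xb8 yb22 zb5) (kb xb8 yb22 zb6) (kb xb8 yb22 zb14) (kb xb7 yb55 zb46) (kb xb2 yb2 zb55) (kb xb2 yb2 zb56) (kb xb4 yb50 zb26) (kb xb8 yb22 zb23) (kb xb4 yb17 zb49) (kb xb2 yb2 zb52) (kb xb3 yb43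 zb14) (kb xb3 yb19 zb19) (kb xb3 yb16 zb2) (kb xb3 yb16 zb1) (kb xb2 yb2 zb53) (kb xb8 yb22 zb27) (kb xb8 yb18 zb56) (kb xb8 yb22 zb29) (kb xb8 yb22 zb31) (kb xb4 yb17 zb61) (kb xb8 yb22 zb36) (kb xb8 yb22 zb37) (kb xb2 yb2 zb58) (kb xb8 yb22 zb42) (kb xb6 yb18 zb46) (kb xb6 yb23 zb33) (kb xb8 yb22 zb53) (kb xb2 yb3 zb2) (kb xb6 yb48 zb43) (kb xb6 yb48 zb33) (kb xb4 yb18 zb10) (kb xb2 yb2 zb61) (kb xb3 yb8 zb58) (kb xb6 yb9 zb56) (kb xb8 yb19 zb15) (kb xb2 yb3 zb1) (kb xb8 yb22 zb59) (kb xb8 yb23 zb0) (kb xb4 yb18 zb17) (kb xb2 yb24 zb28) (kb xb4 yb11 zb57) (kb xb8 yb23 zb7) (kb xb2 yb3 zb5) (kb xb8 yb23 zb17) (kb xb8 yb23 zb14) (kb xb6 yb21 zb50) (kb xb6 yb22 zb46) (kb xb2 yb3 zb6) (kb xb8 yb23 zb29) (kb xb7 yb4 zb3) (kb xb3 yb28 zb46) (kb xb4 yb11 zb46) (kb xb7 yb25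 zb45) (kb xb8 yb23 zb36) (kb xb2 yb5 zb35) (kb xb2 yb3 zb10)) (@D3.rec (fun _ => Pt) (kb xb2 yb3 zb11) (kb xb6 yb23 zb6) (kb xb6 yb23 zb24) (kb xb2 yb3 zb12) (kb xb8 yb23 zb51) (kb xb8 yb23 zb49) (kb xb8 yb23 zb50) (kb xb2 yb3 zb13) (kb xb2 yb3 zb16) (kb xb5 yb7 zb19) (kb xb2 yb3 zb20) (kb xb4 yb8 zb31) (kb xb8 yb23 zb61) (kb xb8 yb23 zb59) (kb xb8 yb24 zb3) (kb xb4 yb18 zb40) (kb xb4 yb18 zb58) (kb xb4 yb18 zb41) (kb xb2 yb3 zb23) (kb xb8 yb24 zb10) (kb xb8 yb24 zb9) (kb xb2 yb3 zb24) (kb xb8 yb24 zb18) (kb xb8 yb24 zb17) (kb xb8 yb24 zb23) (kb xb8 yb24 zb26) (kb xb2 yb3 zb25) (kb xb8 yb24 zb31) (kb xb2 yb18 zb35) (kb xb8 yb24 zb38) (kb xb8 yb24 zb41) (kb xb2 yb3 zb40) (kb xb4 yb7 zb54) (kb xb2 yb3 zb28) (kb xb4 yb9 zb24) (kb xb8 yb24 zb46) (kb xb2 yb3 zb32) (kb xb2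 yb3 zb31) (kb xb8 yb24 zb53) (kb xb8 yb24 zb57) (kb xb8 yb24 zb14) (kb xb8 yb24 zb51) (kb xb8 yb24 zb58) (kb xb2 yb3 zb35) (kb xb2 yb3 zb34) (kb xb8 yb24 zb60) (kb xb8 yb25 zb0) (kb xb8 yb25 zb1) (kb xb2 yb3 zb38) (kb xb6 yb9 zb21) (kb xb2 yb3 zb39) (kb xb3 yb22 zb13) (kb xb8 yb25 zb4) (kb xb2 yb3 zb42) (kb xb8 yb18 zb52) (kb xb2 yb3 zb45) (kb xb8 yb25 zb7) (kb xb8 yb25 zb6) (kb xb8 yb25 zb10) (kb xb4 yb19 zb25) (kb xb2 yb41 zb7) (kb xb4 yb19 zb26)) (@D3.rec (fun _ => Pt) (kb xb2 yb3 zb48) (kb xb8 yb25 zb15) (kb xb8 yb25 zb13) (kb xb2 yb3 zb49) (kb xb8 yb25 zb19) (kb xb8 yb25 zb18) (kb xb8 yb25 zb24) (kb xb8 yb25 zb27) (kb xb2 yb3 zb50) (kb xb8 yb25 zb33) (kb xb6 yb51 zb22) (kb xb8 yb25 zb40) (kb xb2 yb3 zb58) (kb xb2 yb3 zb52) (kb xb5 yb28 zb17) (kb xb5 yb28 zb14)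 (kb xb8 yb25 zb42) (kb xb8 yb25 zb43) (kb xb3 yb11 zb37) (kb xb2 yb57 zb46) (kb xb2 yb3 zb57) (kb xb6 yb32 zb22) (kb xb2 yb3 zb60) (kb xb4 yb14 zb1) (kb xb2 yb4 zb17) (kb xb8 yb25 zb46) (kb xb2 yb4 zb2) (kb xb2 yb4 zb3) (kb xb8 yb25 zb53) (kb xb5 yb12 zb59) (kb xb4 yb4 zb54) (kb xb2 yb4 zb6) (kb xb2 yb4 zb7) (kb xb8 yb26 zb2) (kb xb8 yb26 zb0) (kb xb8 yb26 zb1) (kb xb3 yb58 zb3) (kb xb4 yb54 zb0) (kb xb4 yb54 zb1) (kb xb4 yb54 zb2) (kb xb8 yb26 zb12) (kb xb2 yb25 zb7) (kb xb2 yb4 zb14) (kb xb2 yb4 zb15) (kb xb4 yb54 zb15) (kb xb4 yb54 zb16) (kb xb4 yb54 zb17) (kb xb8 yb26 zb19) (kb xb8 yb26 zb15) (kb xb4 yb21 zb4) (kb xb4 yb21 zb5) (kb xb4 yb28 zb23) (kb xb8 yb26 zb24) (kb xb4 yb54 zb48) (kb xb4 yb5 zb4) (kb xb4 yb54 zb52) (kb xb8 yb26 zb29) (kb xb2 yb4 zb35) (kb xb3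 yb58 zb14) (kb xb3 yb58 zb15) (kb xb4 yb54 zb49) (kb xb8 yb26 zb35)) (@D3.rec (fun _ => Pt) (kb xb4 yb54 zb31) (kb xb4 yb13 zb23) (kb xb2 yb4 zb26) (kb xb2 yb4 zb27) (kb xb2 yb23 zb14) (kb xb2 yb23 zb15) (kb xb8 yb26 zb44) (kb xb8 yb26 zb41) (kb xb8 yb11 zb6) (kb xb8 yb26 zb49) (kb xb4 yb54 zb35) (kb xb2 yb4 zb29) (kb xb8 yb26 zb57) (kb xb8 yb26 zb56) (kb xb8 yb27 zb2) (kb xb2 yb4 zb30) (kb xb8 yb27 zb8) (kb xb8 yb27 zb9) (kb xb2 yb4 zb48) (kb xb8 yb27 zb17) (kb xb4 yb19 zb55) (kb xb8 yb27 zb23) (kb xb4 yb19 zb57) (kb xb2 yb4 zb34) (kb xb8 yb27 zb32) (kb xb8 yb27 zb33) (kb xb8 yb26 zb31) (kb xb2 yb4 zb36) (kb xb7 yb52 zb27) (kb xb8 yb27 zb43) (kb xb8 yb26 zb39) (kb xb4 yb50 zb40) (kb xb5 yb35 zb23) (kb xb8 yb27 zb49) (kb xb8 yb27 zb51) (kb xb2 yb4 zb42) (kb xb2 yb4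 zb41) (kb xb8 yb27 zb60) (kb xb8 yb28 zb3) (kb xb8 yb26 zb53) (kb xb5 yb8 zb52) (kb xb8 yb27 zb56) (kb xb5 yb33 zb37) (kb xb8 yb26 zb60) (kb xb8 yb28 zb15) (kb xb3 yb58 zb43) (kb xb8 yb28 zb18) (kb xb8 yb28 zb23) (kb xb8 yb25 zb50) (kb xb2 yb4 zb46) (kb xb2 yb4 zb47) (kb xb8 yb28 zb30) (kb xb8 yb28 zb31) (kb xb5 yb35 zb17) (kb xb3 yb58 zb50) (kb xb8 yb28 zb40) (kb xb4 yb7 zb38) (kb xb8 yb28 zb46) (kb xb4 yb7 zb40) (kb xb8 yb28 zb52) (kb xb8 yb28 zb55) (kb xb2 yb4 zb53)) (@D3.rec (fun _ => Pt) (kb xb8 yb28 zb61) (kb xb8 yb29 zb0) (kb xb4 yb20 zb52) (kb xb2 yb35 zb13) (kb xb4 yb1 zb1) (kb xb8 yb29 zb8) (kb xb2 yb5 zb0) (kb xb8 yb29 zb11) (kb xb4 yb7 zb59) (kb xb5 yb19 zb3) (kb xb4 yb7 zb61) (kb xb8 yb29 zb14) (kb xb4 yb8 zb1) (kb xb8 yb29 zb19) (kb xb8 yb29 zb22) (kb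 xb2 yb4 zb61) (kb xb8 yb29 zb28) (kb xb8 yb29 zb29) (kb xb8 yb29 zb10) (kb xb2 yb5 zb2) (kb xb2 yb5 zb3) (kb xb4 yb8 zb12) (kb xb8 yb29 zb36) (kb xb8 yb29 zb34) (kb xb8 yb29 zb41) (kb xb3 yb57 zb1) (kb xb2 yb5 zb6) (kb xb8 yb29 zb48) (kb xb8 yb29 zb46) (kb xb8 yb29 zb53) (kb xb3 yb57 zb4) (kb xb8 yb29 zb58) (kb xb8 yb29 zb61) (kb xb2 yb5 zb8) (kb xb8 yb30 zb5) (kb xb8 yb30 zb6) (kb xb4 yb8 zb27) (kb xb8 yb30 zb11) (kb xb4 yb8 zb39) (kb xb8 yb30 zb17) (kb xb2 yb5 zb52) (kb xb8 yb30 zb20) (kb xb8 yb30 zb23) (kb xb2 yb5 zb12) (kb xb8 yb30 zb29) (kb xb8 yb30 zb30) (kb xb4 yb8 zb47) (kb xb2 yb5 zb56) (kb xb4 yb2 zb28) (kb xb4 yb21 zb37) (kb xb8 yb30 zb44) (kb xb2 yb40 zb57) (kb xb2 yb40 zb58) (kb xb4 yb8 zb28) (kb xb8 yb30 zb48) (kb xb2 yb5 zb23) (kb xb2 yb5 zb25) (kb xb8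 yb30 zb54) (kb xb2 yb40 zb60) (kb xb2 yb5 zb22) (kb xb8 yb30 zb61) (kb xb8 yb31 zb0)) (@D3.rec (fun _ => Pt) (kb xb2 yb6 zb8) (kb xb4 yb9 zb11) (kb xb8 yb30 zb53) (kb xb8 yb31 zb9) (kb xb8 yb31 zb11) (kb xb2 yb5 zb26) (kb xb8 yb31 zb15) (kb xb8 yb31 zb16) (kb xb4 yb9 zb25) (kb xb2 yb6 zb16) (kb xb4 yb21 zb52) (kb xb4 yb21 zb53) (kb xb8 yb31 zb30) (kb xb2 yb5 zb30) (kb xb2 yb5 zb29) (kb xb8 yb31 zb39) (kb xb8 yb31 zb40) (kb xb2 yb6 zb23) (kb xb4 yb9 zb37) (kb xb5 yb19 zb0) (kb xb8 yb31 zb35) (kb xb2 yb5 zb31) (kb xb8 yb31 zb57) (kb xb8 yb31 zb55) (kb xb8 yb31 zb56) (kb xb2 yb5 zb32) (kb xb2 yb23 zb17) (kb xb8 yb32 zb5) (kb xb8 yb32 zb6) (kb xb8 yb32 zb11) (kb xb8 yb32 zb13) (kb xb8 yb30 zb4) (kb xb2 yb5 zb34) (kb xb8 yb32 zb20) (kb xb8 yb32 zb22) (kb xb8 yb32 zb24) (kb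 xb8 yb32 zb19) (kb xb8 yb23 zb41) (kb xb8 yb23 zb42) (kb xb4 yb22 zb15) (kb xb8 yb32 zb36) (kb xb2 yb8 zb14) (kb xb8 yb32 zb41) (kb xb8 yb21 zb11) (kb xb8 yb32 zb45) (kb xb4 yb10 zb1) (kb xb8 yb32 zb51) (kb xb5 yb23 zb37) (kb xb2 yb5 zb42) (kb xb8 yb32 zb58) (kb xb4 yb21 zb45) (kb xb8 yb33 zb1) (kb xb8 yb33 zb3) (kb xb2 yb5 zb43) (kb xb8 yb33 zb8) (kb xb3 yb18 zb51) (kb xb8 yb33 zb15) (kb xb8 yb33 zb18) (kb xb2 yb5 zb57) (kb xb2 yb5 zb46) (kb xb2 yb38 zb43) (kb xb8 yb33 zb22)) (@D3.rec (fun _ => Pt) (kb xb2 yb5 zb50) (kb xb2 yb5 zb49) (kb xb8 yb33 zb27) (kb xb8 yb32 zb55) (kb xb8 yb31 zb7) (kb xb2 yb5 zb51) (kb xb8 yb33 zb28) (kb xb3 yb19 zb30) (kb xb8 yb33 zb31) (kb xb4 yb10 zb29) (kb xb2 yb5 zb55) (kb xb8 yb30 zb40) (kb xb8 yb33 zb35) (kb xb3 yb57 zb10) (kb xb8 yb33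 zb38) (kb xb4 yb10 zb40) (kb xb2 yb38 zb41) (kb xb2 yb5 zb61) (kb xb8 yb33 zb43) (kb xb8 yb30 zb52) (kb xb8 yb33 zb46) (kb xb4 yb19 zb15) (kb xb8 yb33 zb51) (kb xb8 yb33 zb53) (kb xb2 yb6 zb1) (kb xb8 yb33 zb58) (kb xb8 yb33 zb59) (kb xb8 yb34 zb5) (kb xb2 yb6 zb9) (kb xb2 yb6 zb3) (kb xb3 yb20 zb6) (kb xb8 yb34 zb8) (kb xb4 yb10 zb55) (kb xb2 yb6 zb7) (kb xb3 yb15 zb9) (kb xb3 yb18 zb45) (kb xb8 yb34 zb11) (kb xb8 yb34 zb12) (kb xb4 yb11 zb2) (kb xb8 yb34 zb18) (kb xb8 yb34 zb20) (kb xb2 yb6 zb11) (kb xb8 yb34 zb24) (kb xb8 yb34 zb25) (kb xb8 yb34 zb32) (kb xb8 yb34 zb36) (kb xb2 yb6 zb17) (kb xb6 yb48 zb42) (kb xb8 yb34 zb42) (kb xb4 yb11 zb14) (kb xb2 yb6 zb14) (kb xb6 yb42 zb0) (kb xb7 yb27 zb7) (kb xb6 yb33 zb45) (kb xb6 yb36 zb19) (kb xb2 yb6 zb15) (kb xb8 yb34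 zb47) (kb xb8 yb34 zb49) (kb xb8 yb31 zb27) (kb xb8 yb31 zb28) (kb xb8 yb34 zb51) (kb xb4 yb11 zb25)) (@D3.rec (fun _ => Pt) (kb xb8 yb34 zb56) (kb xb8 yb34 zb57) (kb xb2 yb6 zb19) (kb xb8 yb35 zb0) (kb xb3 yb18 zb52) (kb xb8 yb35 zb7) (kb xb4 yb21 zb60) (kb xb2 yb6 zb25) (kb xb3 yb22 zb27) (kb xb8 yb35 zb12) (kb xb4 yb11 zb36) (kb xb3 yb25 zb30) (kb xb3 yb1 zb26) (kb xb8 yb31 zb47) (kb xb2 yb6 zb24) (kb xb8 yb35 zb17) (kb xb8 yb35 zb20) (kb xb4 yb11 zb44) (kb xb2 yb23 zb50) (kb xb8 yb35 zb23) (kb xb8 yb35 zb25) (kb xb2 yb18 zb36) (kb xb2 yb23 zb56) (kb xb2 yb6 zb30) (kb xb8 yb35 zb38) (kb xb8 yb35 zb35) (kb xb6 yb27 zb42) (kb xb2 yb6 zb31) (kb xb8 yb35 zb45) (kb xb6 yb18 zb42) (kb xb3 yb6 zb37) (kb xb2 yb6 zb33) (kb xb8 yb35 zb52) (kb xb8 yb35 zb50) (kb xb8 yb35 zb51)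 (kb xb2 yb6 zb36) (kb xb4 yb29 zb1) (kb xb8 yb35 zb56) (kb xb8 yb35 zb54) (kb xb8 yb35 zb60) (kb xb4 yb12 zb15) (kb xb4 yb12 zb17) (kb xb2 yb6 zb39) (kb xb8 yb36 zb4) (kb xb8 yb36 zb3) (kb xb8 yb36 zb9) (kb xb5 yb29 zb34) (kb xb8 yb36 zb14) (kb xb5 yb44 zb16) (kb xb2 yb6 zb41) (kb xb8 yb36 zb19) (kb xb6 yb22 zb44) (kb xb8 yb36 zb26) (kb xb8 yb36 zb29) (kb xb2 yb6 zb52) (kb xb2 yb6 zb43) (kb xb2 yb34 zb39) (kb xb2 yb6 zb44) (kb xb4 yb12 zb16) (kb xb2 yb26 zb13) (kb xb8 yb21 zb5) (kb xb2 yb6 zb47)) (@D3.rec (fun _ => Pt) (kb xb7 yb48 zb52) (kb xb2 yb6 zb50) (kb xb2 yb6 zb51) (kb xb8 yb36 zb41) (kb xb5 yb37 zb2) (kb xb2 yb26 zb7) (kb xb2 yb6 zb56) (kb xb4 yb9 zb6) (kb xb2 yb44 zb26) (kb xb5 yb22 zb17) (kb xb4 yb28 zb44) (kb xb2 yb6 zb61) (kb xb8 yb36 zb50) (kb xb8 yb36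 zb53) (kb xb4 yb9 zb27) (kb xb4 yb17 zb21) (kb xb4 yb28 zb3) (kb xb2 yb7 zb1) (kb xb8 yb36 zb60) (kb xb2 yb7 zb4) (kb xb8 yb37 zb0) (kb xb2 yb12 zb37) (kb xb8 yb37 zb4) (kb xb5 yb27 zb25) (kb xb8 yb37 zb7) (kb xb4 yb12 zb59) (kb xb4 yb12 zb61) (kb xb2 yb7 zb9) (kb xb8 yb37 zb11) (kb xb8 yb37 zb10) (kb xb2 yb7 zb10) (kb xb8 yb37 zb15) (kb xb8 yb37 zb14) (kb xb8 yb37 zb20) (kb xb8 yb37 zb23) (kb xb2 yb7 zb11) (kb xb8 yb37 zb26) (kb xb4 yb43 zb39) (kb xb8 yb37 zb30) (kb xb2 yb7 zb20) (kb xb2 yb7 zb21) (kb xb2 yb7 zb13) (kb xb5 yb29 zb44) (kb xb2 yb12 zb43) (kb xb5 yb28 zb50) (kb xb2 yb7 zb19) (kb xb8 yb37 zb40) (kb xb8 yb9 zb38) (kb xb8 yb37 zb35) (kb xb4 yb55 zb4) (kb xb2 yb7 zb23) (kb xb2 yb23 zb36) (kb xb8 yb37 zb41) (kb xb2 yb44 zb42) (kb xb8 yb37 zb43) (kb xb4 yb14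 zb20) (kb xb8 yb37 zb48) (kb xb4 yb14 zb22) (kb xb8 yb37 zb53) (kb xb7 yb50 zb49) (kb xb2 yb7 zb28) (kb xb8 yb37 zb59)) (@D3.rec (fun _ => Pt) (kb xb8 yb37 zb60) (kb xb5 yb17 zb28) (kb xb8 yb38 zb2) (kb xb4 yb28 zb20) (kb xb2 yb7 zb31) (kb xb8 yb38 zb7) (kb xb5 yb13 zb61) (kb xb2 yb7 zb33) (kb xb8 yb38 zb10) (kb xb8 yb38 zb11) (kb xb7 yb7 zb7) (kb xb7 yb59 zb60) (kb xb4 yb20 zb38) (kb xb2 yb7 zb35) (kb xb2 yb7 zb36) (kb xb8 yb38 zb23) (kb xb8 yb38 zb25) (kb xb8 yb38 zb21) (kb xb8 yb38 zb22) (kb xb8 yb26 zb8) (kb xb3 yb58 zb19) (kb xb8 yb38 zb33) (kb xb2 yb7 zb42) (kb xb8 yb38 zb36) (kb xb4 yb50 zb39) (kb xb8 yb38 zb39) (kb xb2 yb7 zb41) (kb xb8 yb38 zb44) (kb xb8 yb38 zb45) (kb xb8 yb38 zb35) (kb xb8 yb38 zb48) (kb xb2 yb37 zb26) (kb xb6 yb14 zb36) (kb xb8 yb3 zb36)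 (kb xb4 yb23 zb6) (kb xb2 yb7 zb47) (kb xb8 yb38 zb56) (kb xb4 yb37 zb2) (kb xb4 yb20 zb12) (kb xb2 yb7 zb49) (kb xb2 yb7 zb50) (kb xb4 yb1 zb38) (kb xb8 yb5 zb8) (kb xb8 yb39 zb5) (kb xb8 yb39 zb1) (kb xb8 yb39 zb2) (kb xb8 yb39 zb11) (kb xb5 yb20 zb18) (kb xb8 yb20 zb28) (kb xb2 yb7 zb54) (kb xb8 yb39 zb21) (kb xb8 yb39 zb22) (kb xb4 yb15 zb2) (kb xb8 yb39 zb26) (kb xb2 yb7 zb61) (kb xb2 yb38 zb32) (kb xb8 yb39 zb31) (kb xb8 yb15 zb42) (kb xb2 yb7 zb60) (kb xb8 yb39 zb39) (kb xb8 yb39 zb40) (kb xb8 yb39 zb29)) (@D3.rec (fun _ => Pt) (kb xb8 yb39 zb45) (kb xb4 yb1 zb3) (kb xb8 yb39 zb49) (kb xb8 yb39 zb50) (kb xb4 yb13 zb49) (kb xb4 yb13 zb50) (kb xb8 yb39 zb53) (kb xb4 yb51 zb6) (kb xb2 yb8 zb18) (kb xb4 yb2 zb34) (kb xb4 yb51 zb7) (kb xb8 yb39 zb59) (kb xb7 yb55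 zb25) (kb xb8 yb40 zb2) (kb xb2 yb8 zb8) (kb xb8 yb40 zb8) (kb xb8 yb40 zb9) (kb xb2 yb8 zb34) (kb xb8 yb40 zb14) (kb xb8 yb17 zb56) (kb xb2 yb38 zb42) (kb xb4 yb10 zb5) (kb xb4 yb52 zb51) (kb xb8 yb40 zb20) (kb xb8 yb18 zb58) (kb xb2 yb8 zb13) (kb xb8 yb40 zb28) (kb xb8 yb40 zb29) (kb xb8 yb32 zb40) (kb xb8 yb40 zb33) (kb xb8 yb17 zb59) (kb xb8 yb40 zb35) (kb xb2 yb8 zb16) (kb xb8 yb40 zb41) (kb xb8 yb40 zb42) (kb xb8 yb20 zb18) (kb xb8 yb39 zb56) (kb xb4 yb15 zb49) (kb xb4 yb51 zb4) (kb xb8 yb40 zb53) (kb xb2 yb8 zb23) (kb xb2 yb8 zb22) (kb xb8 yb40 zb60) (kb xb8 yb40 zb61) (kb xb8 yb18 zb2) (kb xb4 yb16 zb50) (kb xb8 yb40 zb56) (kb xb2 yb8 zb24) (kb xb8 yb41 zb11) (kb xb8 yb41 zb12) (kb xb8 yb21 zb58) (kb xb8 yb40 zb0) (kb xb4 yb16 zb10) (kb xb4 yb16 zb11) (kb xb8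 yb41 zb26) (kb xb2 yb8 zb28) (kb xb2 yb8 zb27) (kb xb8 yb41 zb33) (kb xb8 yb41 zb34) (kb xb8 yb19 zb0) (kb xb4 yb18 zb6) (kb xb8 yb41 zb29)) (@D3.rec (fun _ => Pt) (kb xb2 yb8 zb29) (kb xb8 yb41 zb48) (kb xb8 yb41 zb49) (kb xb2 yb8 zb30) (kb xb8 yb41 zb57) (kb xb8 yb41 zb58) (kb xb8 yb42 zb2) (kb xb8 yb42 zb7) (kb xb7 yb55 zb58) (kb xb2 yb8 zb32) (kb xb2 yb8 zb33) (kb xb8 yb42 zb17) (kb xb8 yb42 zb19) (kb xb8 yb42 zb15) (kb xb8 yb42 zb16) (kb xb4 yb16 zb39) (kb xb8 yb40 zb13) (kb xb4 yb51 zb20) (kb xb8 yb42 zb34) (kb xb2 yb8 zb38) (kb xb7 yb57 zb53) (kb xb2 yb8 zb39) (kb xb2 yb8 zb37) (kb xb8 yb42 zb42) (kb xb4 yb51 zb15) (kb xb8 yb42 zb38) (kb xb2 yb8 zb40) (kb xb8 yb42 zb49) (kb xb3 yb3 zb51) (kb xb8 yb42 zb52) (kb xb3 yb4 zb58) (kb xb7 yb56 zb14) (kb xb2 yb8 zb43)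 (kb xb2 yb8 zb44) (kb xb8 yb42 zb59) (kb xb8 yb43 zb5) (kb xb8 yb43 zb6) (kb xb8 yb43 zb0) (kb xb8 yb43 zb8) (kb xb4 yb51 zb0) (kb xb8 yb43 zb10) (kb xb2 yb8 zb49) (kb xb2 yb8 zb48) (kb xb8 yb43 zb18) (kb xb4 yb51 zb29) (kb xb8 yb43 zb14) (kb xb4 yb56 zb41) (kb xb8 yb43 zb23) (kb xb4 yb56 zb53) (kb xb2 yb8 zb51) (kb xb8 yb43 zb30) (kb xb7 yb7 zb9) (kb xb7 yb59 zb13) (kb xb7 yb7 zb41) (kb xb2 yb8 zb53) (kb xb2 yb8 zb54) (kb xb8 yb43 zb42) (kb xb6 yb14 zb2) (kb xb8 yb43 zb39) (kb xb8 yb1 zb44) (kb xb8 yb43 zb41) (kb xb2 yb13 zb29)) (@D3.rec (fun _ => Pt) (kb xb4 yb32 zb32) (kb xb2 yb47 zb11) (kb xb2 yb46 zb47) (kb xb8 yb43 zb40) (kb xb2 yb8 zb59) (kb xb3 yb36 zb41) (kb xb4 yb20 zb34) (kb xb8 yb43 zb60) (kb xb5 yb37 zb43) (kb xb5 yb41 zb43) (kb xb5 yb41 zb45) (kb xb5 yb41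 zb46) (kb xb7 yb8 zb7) (kb xb8 yb44 zb6) (kb xb2 yb9 zb4) (kb xb3 yb37 zb1) (kb xb5 yb41 zb44) (kb xb8 yb44 zb16) (kb xb2 yb9 zb6) (kb xb7 yb59 zb11) (kb xb8 yb44 zb18) (kb xb8 yb1 zb46) (kb xb8 yb1 zb49) (kb xb2 yb9 zb7) (kb xb2 yb26 zb32) (kb xb8 yb44 zb25) (kb xb8 yb44 zb26) (kb xb7 yb56 zb24) (kb xb8 yb44 zb35) (kb xb8 yb44 zb38) (kb xb8 yb44 zb43) (kb xb2 yb9 zb14) (kb xb2 yb9 zb15) (kb xb2 yb9 zb16) (kb xb2 yb9 zb11) (kb xb8 yb44 zb54) (kb xb2 yb9 zb12) (kb xb8 yb44 zb61) (kb xb2 yb9 zb13) (kb xb8 yb45 zb6) (kb xb8 yb45 zb11) (kb xb8 yb45 zb15) (kb xb8 yb44 zb48) (kb xb8 yb44 zb49) (kb xb8 yb44 zb51) (kb xb2 yb49 zb35) (kb xb3 yb4 zb55) (kb xb2 yb9 zb40) (kb xb2 yb9 zb18) (kb xb2 yb9 zb19) (kb xb8 yb45 zb27) (kb xb8 yb45 zb28) (kb xb2 yb9 zb21) (kb xb8 yb45 zb34)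 (kb xb2 yb9 zb22) (kb xb7 yb56 zb13) (kb xb2 yb9 zb23) (kb xb8 yb12 zb19) (kb xb7 yb12 zb35) (kb xb8 yb45 zb41) (kb xb7 yb59 zb55) (kb xb4 yb26 zb29)) (@D3.rec (fun _ => Pt) (kb xb2 yb9 zb27) (kb xb3 yb32 zb20) (kb xb3 yb5 zb17) (kb xb2 yb9 zb31) (kb xb8 yb45 zb54) (kb xb8 yb45 zb57) (kb xb7 yb12 zb31) (kb xb8 yb45 zb52) (kb xb2 yb9 zb28) (kb xb3 yb4 zb34) (kb xb2 yb14 zb49) (kb xb3 yb5 zb2) (kb xb3 yb5 zb5) (kb xb3 yb5 zb6) (kb xb2 yb9 zb35) (kb xb4 yb36 zb59) (kb xb4 yb56 zb51) (kb xb3 yb9 zb57) (kb xb2 yb49 zb5) (kb xb2 yb53 zb13) (kb xb8 yb46 zb16) (kb xb3 yb4 zb14) (kb xb2 yb9 zb39) (kb xb2 yb9 zb41) (kb xb8 yb46 zb27) (kb xb8 yb46 zb30) (kb xb8 yb46 zb23) (kb xb8 yb46 zb24) (kb xb8 yb45 zb26) (kb xb8 yb2 zb9) (kb xb7 yb22 zb46) (kb xb7 yb12 zb11) (kb xb3 yb10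 zb12) (kb xb2 yb9 zb44) (kb xb8 yb46 zb39) (kb xb7 yb56 zb50) (kb xb4 yb25 zb24) (kb xb2 yb9 zb48) (kb xb8 yb46 zb49) (kb xb8 yb46 zb52) (kb xb8 yb46 zb48) (kb xb2 yb53 zb11) (kb xb2 yb9 zb50) (kb xb2 yb54 zb30) (kb xb2 yb54 zb15) (kb xb2 yb54 zb16) (kb xb4 yb42 zb52) (kb xb6 yb24 zb45) (kb xb2 yb53 zb31) (kb xb2 yb9 zb54) (kb xb7 yb59 zb54) (kb xb8 yb43 zb34) (kb xb2 yb9 zb57) (kb xb2 yb9 zb58) (kb xb8 yb47 zb16) (kb xb8 yb47 zb19) (kb xb8 yb47 zb8) (kb xb8 yb47 zb9) (kb xb3 yb3 zb39) (kb xb2 yb9 zb56) (kb xb8 yb47 zb28) (kb xb8 yb47 zb31)) (@D3.rec (fun _ => Pt) (kb xb8 yb47 zb34) (kb xb8 yb47 zb39) (kb xb8 yb47 zb15) (kb xb2 yb9 zb59) (kb xb8 yb47 zb44) (kb xb2 yb9 zb60) (kb xb8 yb47 zb47) (kb xb8 yb47 zb50) (kb xb8 yb47 zb53) (kb xb5 yb54 zb18) (kb xb5 yb54 zb19)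 (kb xb8 yb47 zb60) (kb xb5 yb54 zb26) (kb xb2 yb10 zb2) (kb xb4 yb25 zb43) (kb xb8 yb48 zb0) (kb xb2 yb10 zb3) (kb xb3 yb57 zb46) (kb xb8 yb48 zb4) (kb xb8 yb48 zb5) (kb xb4 yb35 zb60) (kb xb4 yb35 zb61) (kb xb8 yb48 zb14) (kb xb8 yb48 zb16) (kb xb4 yb24 zb36) (kb xb2 yb10 zb7) (kb xb7 yb56 zb57) (kb xb8 yb48 zb27) (kb xb2 yb10 zb8) (kb xb2 yb10 zb9) (kb xb8 yb48 zb31) (kb xb5 yb41 zb23) (kb xb8 yb48 zb24) (kb xb8 yb48 zb25) (kb xb8 yb48 zb40) (kb xb8 yb48 zb42) (kb xb8 yb48 zb46) (kb xb7 yb8 zb28) (kb xb4 yb26 zb37) (kb xb4 yb36 zb10) (kb xb2 yb10 zb11) (kb xb6 yb25 zb4) (kb xb8 yb48 zb53) (kb xb4 yb25 zb14) (kb xb2 yb10 zb14) (kb xb2 yb10 zb15) (kb xb2 yb51 zb40) (kb xb2 yb10 zb13) (kb xb5 yb49 zb60) (kb xb5 yb14 zb22) (kb xb2 yb27 zb18) (kb xb5 yb47 zb19) (kb xb2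 yb12 zb53) (kb xb8 yb48 zb59) (kb xb5 yb49 zb50) (kb xb5 yb13 zb58) (kb xb8 yb48 zb61) (kb xb8 yb49 zb0) (kb xb8 yb2 zb18) (kb xb2 yb10 zb19) (kb xb2 yb10 zb20) (kb xb2 yb27 zb12)) (@D3.rec (fun _ => Pt) (kb xb2 yb27 zb16) (kb xb8 yb49 zb24) (kb xb8 yb49 zb18) (kb xb5 yb41 zb37) (kb xb8 yb49 zb19) (kb xb8 yb44 zb50) (kb xb8 yb49 zb34) (kb xb6 yb16 zb48) (kb xb8 yb49 zb39) (kb xb7 yb57 zb14) (kb xb2 yb10 zb22) (kb xb4 yb34 zb11) (kb xb8 yb49 zb44) (kb xb2 yb10 zb23) (kb xb8 yb49 zb54) (kb xb8 yb49 zb53) (kb xb8 yb49 zb60) (kb xb3 yb43 zb11) (kb xb2 yb10 zb24) (kb xb8 yb50 zb3) (kb xb5 yb41 zb56) (kb xb3 yb57 zb60) (kb xb8 yb50 zb10) (kb xb8 yb50 zb13) (kb xb2 yb10 zb34) (kb xb2 yb10 zb35) (kb xb8 yb50 zb19) (kb xb2 yb10 zb38) (kb xb4 yb42 zb36) (kb xb4 yb23 zb61) (kb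 xb2 yb10 zb29) (kb xb8 yb49 zb57) (kb xb8 yb50 zb37) (kb xb8 yb50 zb33) (kb xb8 yb50 zb34) (kb xb2 yb18 zb49) (kb xb7 yb8 zb14) (kb xb4 yb25 zb38) (kb xb2 yb10 zb31) (kb xb8 yb50 zb51) (kb xb8 yb50 zb54) (kb xb8 yb50 zb49) (kb xb8 yb50 zb50) (kb xb2 yb10 zb32) (kb xb8 yb51 zb4) (kb xb8 yb51 zb2) (kb xb8 yb51 zb3) (kb xb2 yb10 zb33) (kb xb8 yb51 zb18) (kb xb8 yb51 zb16) (kb xb8 yb51 zb17) (kb xb8 yb50 zb15) (kb xb8 yb51 zb27) (kb xb8 yb51 zb30) (kb xb8 yb50 zb18) (kb xb6 yb3 zb24) (kb xb2 yb10 zb37) (kb xb8 yb51 zb40) (kb xb7 yb57 zb7) (kb xb8 yb51 zb43) (kb xb7 yb14 zb34) (kb xb8 yb51 zb50)) (@D3.rec (fun _ => Pt) (kb xb2 yb10 zb39) (kb xb8 yb51 zb52) (kb xb2 yb17 zb58) (kb xb8 yb51 zb56) (kb xb2 yb10 zb41) (kb xb8 yb51 zb57) (kb xb7 yb14 zb33) (kb xb2 yb34 zb22) (kb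 xb4 yb2 zb33) (kb xb2 yb34 zb24) (kb xb8 yb52 zb2) (kb xb2 yb10 zb52) (kb xb8 yb52 zb5) (kb xb2 yb36 zb20) (kb xb8 yb52 zb9) (kb xb2 yb36 zb23) (kb xb8 yb52 zb15) (kb xb8 yb52 zb18) (kb xb2 yb10 zb51) (kb xb8 yb52 zb24) (kb xb8 yb52 zb25) (kb xb8 yb52 zb4) (kb xb8 yb52 zb29) (kb xb2 yb36 zb35) (kb xb8 yb52 zb32) (kb xb2 yb36 zb40) (kb xb8 yb52 zb38) (kb xb8 yb52 zb41) (kb xb2 yb10 zb56) (kb xb8 yb52 zb47) (kb xb8 yb52 zb48) (kb xb4 yb2 zb32) (kb xb8 yb52 zb54) (kb xb8 yb7 zb46) (kb xb8 yb52 zb58) (kb xb8 yb8 zb33) (kb xb8 yb53 zb1) (kb xb8 yb53 zb4) (kb xb2 yb10 zb61) (kb xb8 yb53 zb10) (kb xb8 yb53 zb11) (kb xb2 yb37 zb10) (kb xb8 yb53 zb16) (kb xb2 yb11 zb6) (kb xb5 yb22 zb30) (kb xb2 yb11 zb9) (kb xb8 yb53 zb21) (kb xb2 yb37 zb57) (kb xb8 yb53 zb27) (kb xb2 yb11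 zb32) (kb xb8 yb53 zb30) (kb xb8 yb53 zb33) (kb xb2 yb11 zb5) (kb xb8 yb53 zb39) (kb xb8 yb53 zb40) (kb xb2 yb38 zb3) (kb xb2 yb11 zb36) (kb xb8 yb15 zb43) (kb xb8 yb53 zb20) (kb xb8 yb53 zb55) (kb xb2 yb11 zb10) (kb xb8 yb53 zb60)) (@D3.rec (fun _ => Pt) (kb xb8 yb53 zb61) (kb xb2 yb11 zb46) (kb xb2 yb38 zb28) (kb xb4 yb19 zb16) (kb xb8 yb54 zb8) (kb xb2 yb11 zb15) (kb xb8 yb54 zb14) (kb xb8 yb54 zb16) (kb xb2 yb11 zb14) (kb xb8 yb54 zb20) (kb xb8 yb54 zb21) (kb xb2 yb38 zb44) (kb xb2 yb11 zb54) (kb xb8 yb54 zb12) (kb xb8 yb54 zb13) (kb xb2 yb11 zb16) (kb xb8 yb54 zb38) (kb xb8 yb54 zb39) (kb xb2 yb12 zb1) (kb xb2 yb38 zb56) (kb xb4 yb20 zb3) (kb xb8 yb3 zb2) (kb xb2 yb11 zb18) (kb xb4 yb13 zb51) (kb xb8 yb53 zb3) (kb xb8 yb54 zb53) (kb xb2 yb11 zb19) (kb xb2 yb25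 zb12) (kb xb8 yb54 zb61) (kb xb8 yb55 zb0) (kb xb8 yb55 zb7) (kb xb8 yb55 zb12) (kb xb8 yb53 zb9) (kb xb2 yb11 zb21) (kb xb2 yb11 zb22) (kb xb8 yb55 zb23) (kb xb8 yb55 zb25) (kb xb8 yb55 zb27) (kb xb8 yb55 zb20) (kb xb8 yb55 zb21) (kb xb8 yb55 zb22) (kb xb8 yb55 zb36) (kb xb8 yb3 zb7) (kb xb8 yb55 zb42) (kb xb4 yb19 zb10) (kb xb8 yb55 zb47) (kb xb5 yb22 zb35) (kb xb8 yb55 zb50) (kb xb8 yb55 zb52) (kb xb2 yb11 zb26) (kb xb8 yb55 zb57) (kb xb5 yb53 zb7) (kb xb4 yb52 zb48) (kb xb5 yb22 zb39) (kb xb2 yb11 zb37) (kb xb2 yb11 zb31) (kb xb8 yb56 zb9) (kb xb8 yb56 zb11) (kb xb8 yb56 zb14) (kb xb2 yb40 zb49) (kb xb2 yb11 zb34) (kb xb2 yb11 zb35)) (@D3.rec (fun _ => Pt) (kb xb8 yb53 zb50) (kb xb4 yb18 zb36) (kb xb8 yb56 zb23) (kb xb8 yb7 zb45) (kb xb2 yb11 zb40) (kb xb8 yb56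 zb26) (kb xb8 yb38 zb51) (kb xb8 yb56 zb29) (kb xb8 yb56 zb31) (kb xb2 yb11 zb41) (kb xb8 yb56 zb36) (kb xb8 yb56 zb37) (kb xb8 yb41 zb25) (kb xb8 yb7 zb53) (kb xb2 yb11 zb47) (kb xb8 yb56 zb43) (kb xb8 yb56 zb46) (kb xb2 yb41 zb29) (kb xb2 yb11 zb44) (kb xb2 yb11 zb45) (kb xb8 yb56 zb54) (kb xb8 yb56 zb57) (kb xb8 yb56 zb58) (kb xb8 yb54 zb6) (kb xb8 yb56 zb61) (kb xb8 yb57 zb1) (kb xb2 yb11 zb48) (kb xb8 yb57 zb5) (kb xb8 yb57 zb6) (kb xb8 yb2 zb56) (kb xb8 yb57 zb14) (kb xb2 yb11 zb55) (kb xb2 yb11 zb56) (kb xb8 yb57 zb19) (kb xb8 yb57 zb22) (kb xb2 yb42 zb0) (kb xb2 yb11 zb51) (kb xb2 yb11 zb52) (kb xb8 yb57 zb27) (kb xb6 yb4 zb13) (kb xb8 yb57 zb32) (kb xb8 yb57 zb30) (kb xb8 yb57 zb31) (kb xb2 yb11 zb53) (kb xb8 yb57 zb39) (kb xb8 yb57 zb41) (kb xb8 yb54 zb32)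 (kb xb8 yb54 zb33) (kb xb8 yb57 zb44) (kb xb2 yb42 zb18) (kb xb2 yb11 zb58) (kb xb8 yb57 zb51) (kb xb8 yb57 zb52) (kb xb8 yb8 zb49) (kb xb8 yb8 zb38) (kb xb2 yb12 zb3) (kb xb8 yb57 zb61) (kb xb8 yb58 zb1) (kb xb2 yb42 zb29) (kb xb2 yb11 zb61) (kb xb2 yb12 zb0) (kb xb8 yb58 zb9)) (@D3.rec (fun _ => Pt) (kb xb8 yb58 zb10) (kb xb8 yb54 zb46) (kb xb2 yb12 zb2) (kb xb8 yb58 zb13) (kb xb8 yb58 zb14) (kb xb8 yb58 zb18) (kb xb2 yb42 zb42) (kb xb2 yb12 zb5) (kb xb2 yb12 zb6) (kb xb8 yb58 zb24) (kb xb8 yb58 zb26) (kb xb8 yb58 zb27) (kb xb8 yb58 zb35) (kb xb6 yb45 zb61) (kb xb2 yb42 zb53) (kb xb2 yb25 zb50) (kb xb2 yb12 zb8) (kb xb2 yb12 zb9) (kb xb8 yb58 zb49) (kb xb2 yb42 zb59) (kb xb8 yb58 zb53) (kb xb2 yb12 zb10) (kb xb8 yb54 zb24) (kb xb8 yb58 zb58) (kb xb6 yb3 zb53) (kb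 xb6 yb45 zb60) (kb xb2 yb12 zb11) (kb xb8 yb59 zb13) (kb xb8 yb59 zb11) (kb xb8 yb59 zb12) (kb xb2 yb43 zb8) (kb xb4 yb34 zb18) (kb xb8 yb59 zb22) (kb xb2 yb48 zb14) (kb xb2 yb12 zb17) (kb xb2 yb12 zb18) (kb xb2 yb12 zb15) (kb xb2 yb12 zb16) (kb xb2 yb48 zb34) (kb xb8 yb59 zb36) (kb xb8 yb59 zb38) (kb xb8 yb59 zb29) (kb xb8 yb59 zb40) (kb xb8 yb59 zb42) (kb xb8 yb59 zb32) (kb xb2 yb12 zb19) (kb xb8 yb59 zb50) (kb xb8 yb59 zb48) (kb xb8 yb59 zb49) (kb xb2 yb12 zb20) (kb xb8 yb59 zb55) (kb xb8 yb59 zb54) (kb xb2 yb44 zb7) (kb xb5 yb28 zb59) (kb xb2 yb12 zb22) (kb xb8 yb59 zb58) (kb xb8 yb59 zb61) (kb xb2 yb44 zb16) (kb xb2 yb12 zb24) (kb xb2 yb12 zb25) (kb xb2 yb12 zb26) (kb xb9 yb0 zb6)) (@D3.rec (fun _ => Pt) (kb xb5 yb37 zb55) (kb xb2 yb44 zb32) (kb xb3 yb4 zb61) (kb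 xb9 yb0 zb8) (kb xb6 yb15 zb23) (kb xb2 yb44 zb47) (kb xb9 yb0 zb10) (kb xb9 yb0 zb13) (kb xb8 yb59 zb34) (kb xb2 yb12 zb32) (kb xb7 yb59 zb41) (kb xb9 yb0 zb24) (kb xb9 yb0 zb21) (kb xb2 yb12 zb33) (kb xb2 yb12 zb35) (kb xb2 yb12 zb36) (kb xb9 yb0 zb29) (kb xb8 yb37 zb3) (kb xb9 yb0 zb32) (kb xb8 yb17 zb11) (kb xb2 yb12 zb39) (kb xb9 yb0 zb36) (kb xb9 yb0 zb35) (kb xb9 yb0 zb41) (kb xb9 yb0 zb44) (kb xb2 yb12 zb40) (kb xb9 yb0 zb50) (kb xb9 yb0 zb51) (kb xb8 yb18 zb9) (kb xb9 yb0 zb59) (kb xb2 yb12 zb48) (kb xb9 yb0 zb61) (kb xb9 yb1 zb2) (kb xb2 yb45 zb42) (kb xb2 yb12 zb45) (kb xb9 yb1 zb8) (kb xb9 yb1 zb9) (kb xb2 yb12 zb46) (kb xb9 yb1 zb16) (kb xb2 yb12 zb47) (kb xb2 yb12 zb49) (kb xb2 yb12 zb50) (kb xb2 yb26 zb8) (kb xb2 yb45 zb58) (kb xb9 yb1 zb22) (kb xb9 yb1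 zb25) (kb xb7 yb23 zb32) (kb xb2 yb12 zb54) (kb xb2 yb12 zb55) (kb xb8 yb58 zb48) (kb xb2 yb12 zb57) (kb xb9 yb1 zb33) (kb xb9 yb1 zb35) (kb xb9 yb1 zb32) (kb xb5 yb43 zb18) (kb xb2 yb47 zb12) (kb xb2 yb12 zb60) (kb xb2 yb12 zb61) (kb xb5 yb56 zb23) (kb xb2 yb46 zb26) (kb xb2 yb13 zb5) (kb xb8 yb58 zb23)) (@D3.rec (fun _ => Pt) (kb xb2 yb13 zb3) (kb xb9 yb1 zb51) (kb xb2 yb13 zb4) (kb xb9 yb1 zb52) (kb xb9 yb1 zb53) (kb xb9 yb1 zb49) (kb xb9 yb1 zb50) (kb xb2 yb13 zb6) (kb xb2 yb46 zb29) (kb xb2 yb46 zb30) (kb xb4 yb32 zb31) (kb xb5 yb43 zb20) (kb xb2 yb46 zb50) (kb xb5 yb43 zb22) (kb xb8 yb58 zb6) (kb xb2 yb13 zb12) (kb xb2 yb13 zb13) (kb xb9 yb2 zb14) (kb xb9 yb2 zb16) (kb xb9 yb2 zb11) (kb xb9 yb2 zb12) (kb xb9 yb2 zb22) (kb xb5 yb40 zb19) (kb xb5 yb40 zb20) (kb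 xb2 yb13 zb16) (kb xb7 yb7 zb39) (kb xb9 yb2 zb26) (kb xb2 yb15 zb21) (kb xb3 yb33 zb32) (kb xb2 yb47 zb17) (kb xb2 yb47 zb18) (kb xb4 yb32 zb10) (kb xb4 yb23 zb0) (kb xb3 yb57 zb26) (kb xb3 yb57 zb27) (kb xb9 yb1 zb21) (kb xb4 yb42 zb55) (kb xb8 yb57 zb26) (kb xb2 yb13 zb21) (kb xb5 yb7 zb38) (kb xb8 yb12 zb5) (kb xb2 yb13 zb22) (kb xb2 yb13 zb23) (kb xb9 yb2 zb52) (kb xb9 yb2 zb53) (kb xb9 yb2 zb48) (kb xb9 yb2 zb49) (kb xb9 yb2 zb57) (kb xb2 yb47 zb35) (kb xb2 yb47 zb50) (kb xb7 yb14 zb15) (kb xb2 yb13 zb27) (kb xb2 yb13 zb28) (kb xb2 yb46 zb43) (kb xb7 yb7 zb38) (kb xb2 yb13 zb26) (kb xb9 yb3 zb4) (kb xb3 yb36 zb48) (kb xb9 yb3 zb10) (kb xb9 yb3 zb1) (kb xb6 yb15 zb52) (kb xb7 yb14 zb8)) (@D3.rec (fun _ => Pt) (kb xb6 yb13 zb61) (kb xb4 yb57 zb0) (kb xb9 yb3 zb19)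 (kb xb5 yb46 zb57) (kb xb2 yb47 zb58) (kb xb2 yb47 zb34) (kb xb2 yb49 zb11) (kb xb9 yb3 zb28) (kb xb9 yb3 zb33) (kb xb2 yb48 zb2) (kb xb2 yb13 zb33) (kb xb9 yb3 zb42) (kb xb9 yb3 zb39) (kb xb9 yb3 zb48) (kb xb6 yb9 zb7) (kb xb9 yb3 zb53) (kb xb9 yb3 zb57) (kb xb2 yb13 zb35) (kb xb9 yb4 zb2) (kb xb9 yb4 zb3) (kb xb2 yb43 zb11) (kb xb9 yb4 zb11) (kb xb9 yb4 zb15) (kb xb2 yb13 zb47) (kb xb2 yb13 zb48) (kb xb2 yb13 zb49) (kb xb2 yb48 zb21) (kb xb8 yb56 zb53) (kb xb2 yb13 zb40) (kb xb9 yb4 zb34) (kb xb9 yb3 zb46) (kb xb9 yb4 zb33) (kb xb2 yb48 zb28) (kb xb8 yb56 zb20) (kb xb2 yb13 zb42) (kb xb9 yb4 zb45) (kb xb9 yb4 zb47) (kb xb6 yb16 zb30) (kb xb2 yb48 zb36) (kb xb2 yb13 zb44) (kb xb9 yb4 zb56) (kb xb6 yb49 zb21) (kb xb9 yb4 zb54) (kb xb9 yb4 zb55) (kb xb2 yb13 zb45) (kb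 xb9 yb5 zb2) (kb xb9 yb5 zb1) (kb xb6 yb11 zb57) (kb xb2 yb13 zb46) (kb xb9 yb5 zb12) (kb xb9 yb5 zb10) (kb xb9 yb5 zb11) (kb xb9 yb4 zb19) (kb xb9 yb5 zb15) (kb xb9 yb5 zb18) (kb xb9 yb4 zb22) (kb xb9 yb5 zb23) (kb xb2 yb50 zb6) (kb xb2 yb13 zb52) (kb xb2 yb13 zb53) (kb xb9 yb5 zb28) (kb xb6 yb39 zb14)) (@D3.rec (fun _ => Pt) (kb xb2 yb22 zb3) (kb xb5 yb53 zb48) (kb xb9 yb5 zb34) (kb xb2 yb13 zb57) (kb xb2 yb13 zb58) (kb xb7 yb51 zb57) (kb xb9 yb5 zb40) (kb xb9 yb5 zb39) (kb xb2 yb13 zb59) (kb xb9 yb5 zb42) (kb xb2 yb13 zb60) (kb xb4 yb26 zb11) (kb xb9 yb5 zb45) (kb xb2 yb13 zb61) (kb xb2 yb14 zb1) (kb xb2 yb51 zb0) (kb xb2 yb14 zb4) (kb xb2 yb14 zb5) (kb xb4 yb30 zb31) (kb xb2 yb49 zb18) (kb xb2 yb14 zb9) (kb xb4 yb42 zb57) (kb xb4 yb42 zb58) (kb xb2 yb49 zb36) (kb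 xb2 yb49 zb50) (kb xb9 yb5 zb49) (kb xb2 yb14 zb16) (kb xb2 yb14 zb12) (kb xb9 yb5 zb53) (kb xb2 yb14 zb13) (kb xb9 yb5 zb54) (kb xb6 yb53 zb59) (kb xb2 yb21 zb49) (kb xb9 yb5 zb60) (kb xb9 yb6 zb1) (kb xb2 yb14 zb17) (kb xb9 yb6 zb3) (kb xb9 yb6 zb5) (kb xb9 yb6 zb8) (kb xb9 yb5 zb52) (kb xb2 yb14 zb18) (kb xb3 yb10 zb14) (kb xb5 yb57 zb37) (kb xb2 yb51 zb49) (kb xb3 yb5 zb7) (kb xb3 yb55 zb48) (kb xb2 yb14 zb26) (kb xb2 yb14 zb29) (kb xb9 yb6 zb13) (kb xb9 yb6 zb15) (kb xb2 yb52 zb19) (kb xb2 yb16 zb45) (kb xb7 yb37 zb54) (kb xb2 yb20 zb8) (kb xb9 yb6 zb27) (kb xb9 yb6 zb31) (kb xb2 yb14 zb37) (kb xb2 yb14 zb38) (kb xb2 yb14 zb34) (kb xb9 yb6 zb39) (kb xb9 yb6 zb42) (kb xb9 yb6 zb45)) (@D3.rec (fun _ => Pt) (kb xb9 yb0 zb2) (kb xb2 yb14 zb44) (kb xb9 yb6 zb52) (kb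 xb9 yb6 zb38) (kb xb8 yb49 zb23) (kb xb2 yb52 zb45) (kb xb2 yb14 zb40) (kb xb2 yb14 zb42) (kb xb9 yb6 zb61) (kb xb2 yb14 zb43) (kb xb9 yb6 zb51) (kb xb2 yb53 zb9) (kb xb2 yb14 zb46) (kb xb2 yb14 zb48) (kb xb9 yb7 zb7) (kb xb4 yb42 zb44) (kb xb4 yb38 zb8) (kb xb2 yb59 zb26) (kb xb4 yb36 zb5) (kb xb9 yb7 zb12) (kb xb5 yb57 zb52) (kb xb9 yb7 zb15) (kb xb2 yb53 zb19) (kb xb2 yb55 zb11) (kb xb2 yb53 zb22) (kb xb2 yb53 zb23) (kb xb6 yb37 zb38) (kb xb2 yb19 zb51) (kb xb2 yb19 zb48) (kb xb6 yb2 zb39) (kb xb5 yb57 zb60) (kb xb2 yb15 zb1) (kb xb2 yb15 zb2) (kb xb2 yb33 zb23) (kb xb2 yb33 zb38) (kb xb5 yb53 zb53) (kb xb5 yb58 zb2) (kb xb2 yb16 zb60) (kb xb3 yb0 zb13) (kb xb9 yb7 zb48) (kb xb2 yb15 zb4) (kb xb6 yb49 zb49) (kb xb2 yb15 zb0) (kb xb9 yb7 zb54) (kb xb7 yb30 zb38) (kb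 xb9 yb7 zb36) (kb xb2 yb15 zb3) (kb xb9 yb7 zb51) (kb xb5 yb51 zb1) (kb xb3 yb50 zb60) (kb xb5 yb51 zb2) (kb xb2 yb15 zb53) (kb xb2 yb15 zb9) (kb xb2 yb15 zb10) (kb xb7 yb56 zb42) (kb xb7 yb56 zb49) (kb xb9 yb8 zb5) (kb xb5 yb27 zb12) (kb xb2 yb15 zb52) (kb xb5 yb27 zb13) (kb xb4 yb25 zb20) (kb xb4 yb25 zb21)) (@D3.rec (fun _ => Pt) (kb xb9 yb7 zb19) (kb xb2 yb54 zb18) (kb xb2 yb55 zb48) (kb xb2 yb54 zb19) (kb xb2 yb16 zb15) (kb xb4 yb35 zb18) (kb xb2 yb15 zb15) (kb xb8 yb2 zb8) (kb xb7 yb56 zb51) (kb xb3 yb0 zb59) (kb xb4 yb25 zb39) (kb xb3 yb3 zb21) (kb xb3 yb0 zb60) (kb xb3 yb0 zb61) (kb xb9 yb8 zb38) (kb xb6 yb50 zb60) (kb xb2 yb19 zb40) (kb xb2 yb15 zb27) (kb xb9 yb8 zb44) (kb xb9 yb8 zb47) (kb xb2 yb15 zb26) (kb xb2 yb54 zb25) (kb xb5 yb50 zb61) (kb xb8 yb46 zb59)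 (kb xb9 yb2 zb30) (kb xb9 yb8 zb58) (kb xb6 yb16 zb31) (kb xb8 yb56 zb21) (kb xb2 yb15 zb29) (kb xb2 yb15 zb24) (kb xb9 yb9 zb8) (kb xb2 yb15 zb25) (kb xb9 yb9 zb11) (kb xb9 yb9 zb12) (kb xb9 yb8 zb43) (kb xb2 yb15 zb28) (kb xb9 yb9 zb4) (kb xb2 yb55 zb1) (kb xb4 yb0 zb6) (kb xb7 yb31 zb20) (kb xb5 yb50 zb44) (kb xb2 yb55 zb43) (kb xb4 yb7 zb5) (kb xb2 yb15 zb35) (kb xb9 yb9 zb25) (kb xb7 yb17 zb25) (kb xb2 yb49 zb55) (kb xb2 yb34 zb12) (kb xb2 yb15 zb47) (kb xb2 yb15 zb48) (kb xb2 yb15 zb50) (kb xb2 yb53 zb5) (kb xb2 yb53 zb6) (kb xb7 yb56 zb43) (kb xb3 yb3 zb35) (kb xb2 yb15 zb42) (kb xb2 yb15 zb43) (kb xb2 yb15 zb44) (kb xb4 yb42 zb48) (kb xb4 yb24 zb15) (kb xb2 yb48 zb8) (kb xb9 yb9 zb40)) (@D3.rec (fun _ => Pt) (kb xb9 yb9 zb41) (kb xb2 yb53 zb46) (kb xb4 yb20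 zb37) (kb xb9 yb9 zb42) (kb xb7 yb19 zb13) (kb xb8 yb46 zb55) (kb xb9 yb9 zb57) (kb xb2 yb55 zb27) (kb xb7 yb40 zb58) (kb xb3 yb15 zb51) (kb xb2 yb15 zb46) (kb xb2 yb19 zb17) (kb xb9 yb10 zb2) (kb xb3 yb7 zb43) (kb xb2 yb55 zb34) (kb xb8 yb0 zb0) (kb xb9 yb9 zb30) (kb xb9 yb9 zb31) (kb xb2 yb55 zb38) (kb xb2 yb55 zb39) (kb xb9 yb6 zb22) (kb xb6 yb16 zb10) (kb xb9 yb8 zb7) (kb xb9 yb10 zb22) (kb xb2 yb15 zb59) (kb xb2 yb15 zb56) (kb xb3 yb13 zb36) (kb xb9 yb10 zb27) (kb xb9 yb8 zb18) (kb xb5 yb0 zb32) (kb xb2 yb15 zb58) (kb xb9 yb10 zb37) (kb xb9 yb10 zb38) (kb xb2 yb55 zb57) (kb xb2 yb57 zb57) (kb xb9 yb10 zb26) (kb xb2 yb55 zb60) (kb xb2 yb55 zb61) (kb xb7 yb25 zb3) (kb xb2 yb16 zb36) (kb xb2 yb16 zb1) (kb xb3 yb51 zb29) (kb xb9 yb10 zb57) (kb xb9 yb11 zb1) (kb xb9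 yb11 zb5) (kb xb2 yb56 zb7) (kb xb2 yb19 zb3) (kb xb2 yb16 zb5) (kb xb9 yb11 zb14) (kb xb3 yb17 zb9) (kb xb6 yb29 zb0) (kb xb2 yb56 zb16) (kb xb2 yb16 zb21) (kb xb9 yb11 zb12) (kb xb9 yb11 zb13) (kb xb2 yb16 zb6) (kb xb6 yb28 zb52) (kb xb9 yb11 zb28) (kb xb2 yb16 zb27) (kb xb2 yb56 zb27) (kb xb2 yb57 zb29) (kb xb2 yb16 zb8)) (@D3.rec (fun _ => Pt) (kb xb6 yb25 zb36) (kb xb9 yb11 zb42) (kb xb4 yb59 zb59) (kb xb2 yb16 zb9) (kb xb2 yb27 zb30) (kb xb2 yb54 zb34) (kb xb9 yb11 zb50) (kb xb9 yb11 zb55) (kb xb4 yb35 zb16) (kb xb3 yb47 zb41) (kb xb3 yb18 zb5) (kb xb9 yb12 zb0) (kb xb9 yb12 zb4) (kb xb3 yb18 zb21) (kb xb3 yb18 zb18) (kb xb2 yb16 zb12) (kb xb9 yb12 zb18) (kb xb9 yb12 zb15) (kb xb9 yb12 zb16) (kb xb2 yb16 zb13) (kb xb9 yb12 zb31) (kb xb9 yb12 zb29) (kb xb9 yb12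 zb30) (kb xb8 yb46 zb61) (kb xb9 yb8 zb22) (kb xb9 yb8 zb53) (kb xb2 yb52 zb58) (kb xb9 yb12 zb45) (kb xb9 yb12 zb47) (kb xb2 yb56 zb60) (kb xb9 yb12 zb53) (kb xb3 yb1 zb50) (kb xb2 yb19 zb18) (kb xb2 yb19 zb19) (kb xb5 yb34 zb46) (kb xb9 yb13 zb0) (kb xb2 yb16 zb22) (kb xb2 yb16 zb23) (kb xb2 yb16 zb20) (kb xb9 yb13 zb7) (kb xb9 yb11 zb24) (kb xb9 yb13 zb12) (kb xb9 yb13 zb6) (kb xb9 yb13 zb14) (kb xb2 yb57 zb13) (kb xb9 yb13 zb20) (kb xb8 yb0 zb2) (kb xb2 yb18 zb8) (kb xb2 yb18 zb9) (kb xb9 yb13 zb25) (kb xb9 yb13 zb29) (kb xb2 yb16 zb29) (kb xb2 yb16 zb30) (kb xb9 yb11 zb35) (kb xb2 yb16 zb28) (kb xb9 yb13 zb36) (kb xb7 yb43 zb22) (kb xb2 yb57 zb18) (kb xb9 yb13 zb40) (kb xb9 yb13 zb42) (kb xb9 yb13 zb33) (kb xb5 yb26 zb58)) (@D3.rec (fun _ => Pt) (kb xb2 yb57 zb31)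 (kb xb6 yb51 zb21) (kb xb2 yb16 zb32) (kb xb2 yb16 zb33) (kb xb9 yb13 zb58) (kb xb9 yb12 zb22) (kb xb9 yb12 zb25) (kb xb9 yb13 zb57) (kb xb9 yb12 zb12) (kb xb2 yb57 zb42) (kb xb2 yb16 zb35) (kb xb9 yb14 zb6) (kb xb9 yb14 zb5) (kb xb2 yb54 zb49) (kb xb9 yb14 zb8) (kb xb9 yb10 zb56) (kb xb3 yb3 zb19) (kb xb2 yb16 zb38) (kb xb9 yb14 zb14) (kb xb9 yb14 zb13) (kb xb2 yb16 zb39) (kb xb9 yb14 zb21) (kb xb9 yb14 zb20) (kb xb2 yb16 zb40) (kb xb9 yb14 zb28) (kb xb9 yb14 zb27) (kb xb9 yb14 zb33) (kb xb9 yb14 zb35) (kb xb2 yb16 zb41) (kb xb9 yb14 zb40) (kb xb9 yb0 zb5) (kb xb2 yb52 zb53) (kb xb9 yb14 zb42) (kb xb9 yb6 zb19) (kb xb2 yb16 zb47) (kb xb7 yb6 zb24) (kb xb6 yb14 zb17) (kb xb2 yb16 zb51) (kb xb9 yb14 zb52) (kb xb9 yb14 zb55) (kb xb9 yb14 zb51) (kb xb3 yb0 zb5) (kb xb2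 yb16 zb53) (kb xb9 yb14 zb59) (kb xb5 yb54 zb53) (kb xb5 yb12 zb26) (kb xb2 yb29 zb50) (kb xb2 yb30 zb12) (kb xb2 yb30 zb13) (kb xb9 yb15 zb8) (kb xb2 yb16 zb59) (kb xb2 yb16 zb58) (kb xb9 yb9 zb59) (kb xb9 yb15 zb17) (kb xb9 yb15 zb13) (kb xb9 yb7 zb43) (kb xb7 yb6 zb9) (kb xb6 yb16 zb20) (kb xb9 yb15 zb23) (kb xb5 yb55 zb36) (kb xb3 yb2 zb9) (kb xb3 yb2 zb14)) (@D3.rec (fun _ => Pt) (kb xb9 yb15 zb31) (kb xb5 yb50 zb46) (kb xb2 yb17 zb6) (kb xb2 yb17 zb4) (kb xb9 yb15 zb38) (kb xb9 yb15 zb39) (kb xb2 yb17 zb5) (kb xb9 yb15 zb41) (kb xb9 yb15 zb42) (kb xb3 yb1 zb16) (kb xb3 yb42 zb3) (kb xb3 yb7 zb61) (kb xb3 yb40 zb0) (kb xb9 yb15 zb49) (kb xb3 yb6 zb17) (kb xb3 yb6 zb18) (kb xb9 yb15 zb57) (kb xb2 yb17 zb15) (kb xb9 yb16 zb0) (kb xb9 yb16 zb1) (kb xb2 yb17 zb36)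 (kb xb5 yb58 zb32) (kb xb3 yb1 zb47) (kb xb7 yb39 zb29) (kb xb2 yb17 zb17) (kb xb5 yb53 zb44) (kb xb2 yb17 zb18) (kb xb9 yb16 zb17) (kb xb9 yb6 zb26) (kb xb3 yb1 zb57) (kb xb2 yb17 zb20) (kb xb9 yb16 zb24) (kb xb2 yb17 zb21) (kb xb8 yb46 zb14) (kb xb9 yb16 zb28) (kb xb9 yb16 zb31) (kb xb9 yb15 zb61) (kb xb2 yb17 zb23) (kb xb2 yb17 zb24) (kb xb9 yb16 zb40) (kb xb9 yb16 zb35) (kb xb9 yb16 zb46) (kb xb9 yb16 zb49) (kb xb9 yb16 zb38) (kb xb9 yb16 zb39) (kb xb2 yb17 zb25) (kb xb5 yb55 zb6) (kb xb3 yb2 zb44) (kb xb9 yb16 zb56) (kb xb9 yb17 zb2) (kb xb3 yb2 zb29) (kb xb9 yb17 zb8) (kb xb9 yb17 zb11) (kb xb2 yb17 zb32) (kb xb2 yb17 zb33) (kb xb2 yb17 zb30) (kb xb9 yb17 zb19) (kb xb2 yb17 zb31) (kb xb9 yb17 zb22) (kb xb9 yb17 zb23) (kb xb6 yb45 zb44) (kb xb9 yb17 zb29)) (@D3.rec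 (fun _ => Pt) (kb xb9 yb17 zb17) (kb xb3 yb2 zb51) (kb xb9 yb17 zb33) (kb xb2 yb17 zb37) (kb xb2 yb17 zb35) (kb xb9 yb17 zb37) (kb xb9 yb17 zb38) (kb xb8 yb14 zb35) (kb xb9 yb16 zb8) (kb xb6 yb43 zb42) (kb xb6 yb17 zb35) (kb xb9 yb17 zb41) (kb xb2 yb17 zb41) (kb xb2 yb17 zb39) (kb xb4 yb57 zb54) (kb xb5 yb50 zb33) (kb xb9 yb17 zb43) (kb xb7 yb27 zb34) (kb xb8 yb45 zb24) (kb xb2 yb48 zb56) (kb xb2 yb51 zb37) (kb xb2 yb53 zb29) (kb xb4 yb42 zb35) (kb xb5 yb6 zb32) (kb xb3 yb5 zb14) (kb xb6 yb14 zb39) (kb xb5 yb43 zb55) (kb xb5 yb59 zb14) (kb xb2 yb17 zb52) (kb xb6 yb8 zb34) (kb xb9 yb17 zb57) (kb xb2 yb17 zb54) (kb xb2 yb17 zb51) (kb xb9 yb17 zb59) (kb xb9 yb17 zb52) (kb xb2 yb17 zb53) (kb xb6 yb31 zb9) (kb xb9 yb18 zb2) (kb xb3 yb20 zb28) (kb xb5 yb49 zb12) (kb xb2 yb17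 zb60) (kb xb9 yb18 zb7) (kb xb3 yb25 zb7) (kb xb9 yb18 zb9) (kb xb6 yb50 zb17) (kb xb2 yb18 zb3) (kb xb2 yb18 zb4) (kb xb2 yb18 zb6) (kb xb9 yb18 zb13) (kb xb9 yb13 zb22) (kb xb2 yb18 zb10) (kb xb9 yb18 zb16) (kb xb9 yb18 zb15) (kb xb6 yb59 zb6) (kb xb9 yb18 zb19) (kb xb9 yb18 zb20) (kb xb9 yb18 zb21) (kb xb6 yb59 zb9) (kb xb9 yb18 zb23) (kb xb9 yb18 zb24) (kb xb2 yb18 zb18) (kb xb6 yb48 zb48)) (@D3.rec (fun _ => Pt) (kb xb5 yb50 zb29) (kb xb2 yb18 zb21) (kb xb5 yb30 zb57) (kb xb3 yb12 zb55) (kb xb9 yb18 zb33) (kb xb6 yb50 zb54) (kb xb3 yb8 zb38) (kb xb5 yb50 zb34) (kb xb2 yb18 zb23) (kb xb9 yb18 zb40) (kb xb2 yb18 zb24) (kb xb9 yb18 zb42) (kb xb9 yb18 zb44) (kb xb2 yb18 zb26) (kb xb8 yb24 zb35) (kb xb9 yb18 zb49) (kb xb2 yb18 zb28) (kb xb3 yb9 zb5) (kb xb9 yb18 zb57)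 (kb xb2 yb18 zb33) (kb xb2 yb18 zb32) (kb xb9 yb19 zb3) (kb xb3 yb9 zb12) (kb xb8 yb23 zb47) (kb xb9 yb19 zb6) (kb xb9 yb19 zb9) (kb xb3 yb9 zb24) (kb xb3 yb9 zb41) (kb xb9 yb19 zb15) (kb xb2 yb18 zb41) (kb xb2 yb18 zb40) (kb xb9 yb19 zb21) (kb xb9 yb19 zb19) (kb xb9 yb19 zb24) (kb xb6 yb9 zb38) (kb xb4 yb41 zb22) (kb xb4 yb26 zb28) (kb xb7 yb56 zb44) (kb xb2 yb18 zb48) (kb xb9 yb19 zb32) (kb xb9 yb19 zb35) (kb xb8 yb50 zb44) (kb xb9 yb19 zb31) (kb xb2 yb53 zb28) (kb xb4 yb35 zb15) (kb xb3 yb57 zb58) (kb xb2 yb49 zb32) (kb xb3 yb3 zb58) (kb xb4 yb36 zb58) (kb xb5 yb47 zb54) (kb xb5 yb48 zb0) (kb xb7 yb12 zb10) (kb xb4 yb24 zb46) (kb xb7 yb56 zb40) (kb xb2 yb44 zb30) (kb xb4 yb32 zb36) (kb xb3 yb58 zb54) (kb xb4 yb34 zb21) (kb xb4 yb34 zb22) (kb xb2 yb54 zb8) (kb xb2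 yb19 zb2) (kb xb9 yb11 zb9)) (@D3.rec (fun _ => Pt) (kb xb2 yb19 zb6) (kb xb3 yb1 zb17) (kb xb2 yb19 zb7) (kb xb2 yb57 zb43) (kb xb6 yb43 zb31) (kb xb2 yb19 zb12) (kb xb6 yb10 zb48) (kb xb2 yb19 zb15) (kb xb2 yb19 zb14) (kb xb6 yb35 zb59) (kb xb2 yb19 zb16) (kb xb7 yb31 zb21) (kb xb9 yb19 zb59) (kb xb9 yb10 zb5) (kb xb9 yb12 zb57) (kb xb9 yb20 zb2) (kb xb9 yb12 zb60) (kb xb9 yb12 zb61) (kb xb2 yb19 zb20) (kb xb6 yb39 zb43) (kb xb9 yb20 zb7) (kb xb2 yb19 zb57) (kb xb2 yb19 zb25) (kb xb9 yb20 zb9) (kb xb2 yb19 zb26) (kb xb9 yb15 zb53) (kb xb2 yb19 zb28) (kb xb3 yb8 zb20) (kb xb6 yb21 zb0) (kb xb9 yb20 zb16) (kb xb5 yb48 zb55) (kb xb2 yb19 zb30) (kb xb9 yb20 zb19) (kb xb2 yb19 zb32) (kb xb2 yb19 zb33) (kb xb9 yb20 zb22) (kb xb9 yb20 zb23) (kb xb2 yb19 zb34) (kb xb9 yb20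 zb28) (kb xb4 yb19 zb37) (kb xb9 yb20 zb32) (kb xb9 yb20 zb34) (kb xb3 yb11 zb56) (kb xb2 yb22 zb4) (kb xb9 yb20 zb36) (kb xb9 yb7 zb29) (kb xb9 yb8 zb42) (kb xb2 yb19 zb42) (kb xb2 yb19 zb43) (kb xb9 yb20 zb40) (kb xb3 yb12 zb43) (kb xb2 yb19 zb45) (kb xb3 yb12 zb56) (kb xb9 yb20 zb43) (kb xb2 yb19 zb49) (kb xb9 yb20 zb45) (kb xb6 yb44 zb25) (kb xb9 yb7 zb26) (kb xb4 yb44 zb35) (kb xb4 yb44 zb36) (kb xb3 yb27 zb18) (kb xb3 yb13 zb38)) (@D3.rec (fun _ => Pt) (kb xb2 yb22 zb8) (kb xb9 yb20 zb56) (kb xb9 yb20 zb58) (kb xb2 yb19 zb59) (kb xb9 yb20 zb60) (kb xb2 yb19 zb61) (kb xb9 yb21 zb3) (kb xb3 yb48 zb14) (kb xb9 yb21 zb8) (kb xb2 yb20 zb5) (kb xb2 yb20 zb4) (kb xb9 yb21 zb12) (kb xb3 yb14 zb1) (kb xb6 yb35 zb24) (kb xb6 yb37 zb16) (kb xb7 yb39 zb30) (kb xb6 yb53 zb13)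 (kb xb9 yb21 zb23) (kb xb7 yb38 zb19) (kb xb9 yb6 zb25) (kb xb9 yb9 zb10) (kb xb2 yb20 zb13) (kb xb9 yb21 zb33) (kb xb3 yb15 zb44) (kb xb9 yb9 zb7) (kb xb2 yb20 zb12) (kb xb9 yb7 zb53) (kb xb2 yb20 zb16) (kb xb2 yb20 zb17) (kb xb9 yb21 zb44) (kb xb3 yb15 zb11) (kb xb9 yb21 zb49) (kb xb2 yb20 zb21) (kb xb9 yb21 zb53) (kb xb9 yb21 zb55) (kb xb4 yb43 zb58) (kb xb4 yb43 zb59) (kb xb6 yb9 zb31) (kb xb2 yb20 zb26) (kb xb9 yb22 zb1) (kb xb2 yb20 zb30) (kb xb9 yb22 zb3) (kb xb9 yb22 zb4) (kb xb2 yb20 zb31) (kb xb9 yb22 zb6) (kb xb9 yb22 zb7) (kb xb9 yb22 zb11) (kb xb9 yb22 zb12) (kb xb9 yb16 zb16) (kb xb2 yb20 zb33) (kb xb2 yb20 zb34) (kb xb9 yb22 zb19) (kb xb9 yb22 zb21) (kb xb9 yb22 zb15) (kb xb9 yb22 zb18) (kb xb2 yb20 zb35) (kb xb9 yb22 zb30) (kb xb2 yb55 zb29) (kb xb9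 yb16 zb11) (kb xb2 yb20 zb38) (kb xb9 yb22 zb40) (kb xb2 yb20 zb41)) (@D3.rec (fun _ => Pt) (kb xb2 yb20 zb40) (kb xb9 yb22 zb46) (kb xb9 yb22 zb47) (kb xb3 yb16 zb0) (kb xb3 yb6 zb9) (kb xb2 yb22 zb51) (kb xb2 yb20 zb42) (kb xb6 yb15 zb59) (kb xb9 yb22 zb55) (kb xb6 yb51 zb28) (kb xb2 yb20 zb44) (kb xb8 yb46 zb4) (kb xb9 yb23 zb2) (kb xb2 yb20 zb45) (kb xb9 yb23 zb8) (kb xb9 yb23 zb9) (kb xb7 yb34 zb5) (kb xb9 yb23 zb15) (kb xb2 yb21 zb16) (kb xb2 yb20 zb47) (kb xb2 yb20 zb48) (kb xb9 yb23 zb23) (kb xb9 yb23 zb31) (kb xb9 yb10 zb13) (kb xb9 yb23 zb26) (kb xb9 yb23 zb27) (kb xb9 yb23 zb39) (kb xb6 yb32 zb19) (kb xb2 yb20 zb51) (kb xb9 yb23 zb44) (kb xb3 yb18 zb59) (kb xb8 yb22 zb25) (kb xb2 yb20 zb60) (kb xb2 yb20 zb61) (kb xb2 yb20 zb53) (kb xb9 yb23 zb51) (kb xb2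 yb20 zb54) (kb xb9 yb23 zb54) (kb xb9 yb23 zb56) (kb xb9 yb23 zb58) (kb xb9 yb22 zb45) (kb xb2 yb20 zb56) (kb xb2 yb20 zb57) (kb xb9 yb24 zb4) (kb xb6 yb16 zb29) (kb xb9 yb23 zb61) (kb xb9 yb24 zb8) (kb xb9 yb24 zb11) (kb xb9 yb24 zb2) (kb xb9 yb24 zb3) (kb xb9 yb24 zb14) (kb xb3 yb16 zb54) (kb xb3 yb16 zb55) (kb xb7 yb43 zb24) (kb xb2 yb21 zb56) (kb xb2 yb21 zb57) (kb xb3 yb16 zb58) (kb xb9 yb24 zb25) (kb xb4 yb53 zb40) (kb xb2 yb21 zb1) (kb xb9 yb24 zb31) (kb xb9 yb24 zb33)) (@D3.rec (fun _ => Pt) (kb xb2 yb56 zb12) (kb xb9 yb22 zb54) (kb xb2 yb21 zb3) (kb xb2 yb21 zb4) (kb xb9 yb24 zb41) (kb xb9 yb24 zb45) (kb xb3 yb46 zb4) (kb xb9 yb24 zb43) (kb xb8 yb0 zb53) (kb xb9 yb24 zb51) (kb xb3 yb17 zb21) (kb xb2 yb22 zb11) (kb xb3 yb17 zb24) (kb xb9 yb24 zb60) (kb xb2 yb22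 zb50) (kb xb9 yb25 zb2) (kb xb9 yb25 zb6) (kb xb9 yb23 zb1) (kb xb3 yb13 zb34) (kb xb2 yb21 zb9) (kb xb2 yb21 zb10) (kb xb9 yb25 zb18) (kb xb9 yb25 zb21) (kb xb9 yb25 zb22) (kb xb9 yb25 zb25) (kb xb7 yb45 zb22) (kb xb9 yb23 zb7) (kb xb3 yb6 zb16) (kb xb2 yb21 zb12) (kb xb2 yb21 zb13) (kb xb9 yb25 zb37) (kb xb9 yb25 zb38) (kb xb7 yb43 zb59) (kb xb2 yb21 zb14) (kb xb8 yb0 zb30) (kb xb9 yb25 zb47) (kb xb7 yb45 zb1) (kb xb2 yb21 zb15) (kb xb5 yb54 zb9) (kb xb9 yb25 zb56) (kb xb9 yb23 zb19) (kb xb9 yb23 zb20) (kb xb7 yb2 zb20) (kb xb9 yb8 zb23) (kb xb9 yb26 zb7) (kb xb2 yb21 zb22) (kb xb7 yb44 zb15) (kb xb9 yb26 zb15) (kb xb2 yb21 zb26) (kb xb2 yb21 zb27) (kb xb2 yb21 zb19) (kb xb9 yb26 zb25) (kb xb2 yb21 zb20) (kb xb9 yb26 zb30) (kb xb2 yb21 zb21) (kb xb9 yb26 zb36) (kb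 xb9 yb26 zb41) (kb xb9 yb26 zb45) (kb xb9 yb26 zb11) (kb xb9 yb26 zb12) (kb xb2 yb56 zb41) (kb xb2 yb21 zb24)) (@D3.rec (fun _ => Pt) (kb xb3 yb23 zb53) (kb xb9 yb26 zb57) (kb xb9 yb26 zb58) (kb xb2 yb21 zb25) (kb xb6 yb40 zb7) (kb xb9 yb27 zb5) (kb xb9 yb27 zb6) (kb xb9 yb27 zb12) (kb xb9 yb27 zb15) (kb xb9 yb27 zb20) (kb xb9 yb26 zb22) (kb xb2 yb56 zb45) (kb xb9 yb27 zb25) (kb xb7 yb40 zb48) (kb xb2 yb56 zb44) (kb xb9 yb27 zb32) (kb xb9 yb27 zb34) (kb xb2 yb21 zb30) (kb xb9 yb27 zb38) (kb xb9 yb27 zb39) (kb xb2 yb21 zb32) (kb xb9 yb27 zb43) (kb xb9 yb27 zb44) (kb xb2 yb22 zb49) (kb xb2 yb21 zb35) (kb xb9 yb27 zb52) (kb xb9 yb27 zb51) (kb xb3 yb19 zb0) (kb xb9 yb27 zb58) (kb xb3 yb20 zb0) (kb xb9 yb28 zb2) (kb xb3 yb39 zb59) (kb xb9 yb28 zb6) (kb xb3 yb6 zb35) (kb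 xb9 yb28 zb8) (kb xb7 yb11 zb45) (kb xb2 yb21 zb42) (kb xb9 yb28 zb12) (kb xb9 yb28 zb11) (kb xb9 yb28 zb15) (kb xb9 yb28 zb18) (kb xb2 yb21 zb43) (kb xb9 yb28 zb23) (kb xb2 yb21 zb44) (kb xb9 yb28 zb30) (kb xb3 yb16 zb34) (kb xb3 yb18 zb61) (kb xb2 yb21 zb46) (kb xb3 yb29 zb27) (kb xb6 yb54 zb45) (kb xb9 yb28 zb36) (kb xb9 yb28 zb38) (kb xb9 yb5 zb58) (kb xb9 yb5 zb59) (kb xb7 yb42 zb53) (kb xb3 yb20 zb8) (kb xb2 yb21 zb51) (kb xb9 yb28 zb47) (kb xb8 yb34 zb10) (kb xb3 yb6 zb12) (kb xb6 yb9 zb52) (kb xb9 yb28 zb54)) (@D3.rec (fun _ => Pt) (kb xb2 yb21 zb61) (kb xb9 yb11 zb34) (kb xb2 yb21 zb55) (kb xb6 yb17 zb34) (kb xb9 yb28 zb60) (kb xb9 yb28 zb61) (kb xb9 yb24 zb20) (kb xb9 yb24 zb21) (kb xb2 yb21 zb58) (kb xb2 yb21 zb60) (kb xb9 yb29 zb6) (kb xb9 yb29 zb7) (kb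 xb2 yb22 zb0) (kb xb9 yb29 zb10) (kb xb3 yb17 zb5) (kb xb3 yb19 zb45) (kb xb2 yb46 zb18) (kb xb9 yb29 zb19) (kb xb8 yb0 zb43) (kb xb9 yb5 zb31) (kb xb9 yb5 zb32) (kb xb9 yb29 zb26) (kb xb8 yb35 zb15) (kb xb9 yb29 zb29) (kb xb7 yb26 zb56) (kb xb4 yb10 zb26) (kb xb6 yb32 zb28) (kb xb9 yb29 zb36) (kb xb2 yb22 zb14) (kb xb9 yb21 zb47) (kb xb9 yb29 zb27) (kb xb9 yb29 zb39) (kb xb9 yb11 zb23) (kb xb2 yb22 zb10) (kb xb9 yb29 zb44) (kb xb9 yb24 zb55) (kb xb2 yb22 zb12) (kb xb9 yb29 zb46) (kb xb2 yb22 zb13) (kb xb9 yb29 zb50) (kb xb9 yb29 zb51) (kb xb7 yb55 zb18) (kb xb2 yb22 zb17) (kb xb9 yb29 zb56) (kb xb9 yb22 zb44) (kb xb2 yb22 zb16) (kb xb8 yb47 zb4) (kb xb9 yb30 zb1) (kb xb3 yb20 zb22) (kb xb9 yb29 zb55) (kb xb2 yb56 zb8) (kb xb9 yb30 zb10) (kb xb2 yb22 zb20) (kb xb2 yb22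 zb19) (kb xb9 yb30 zb16) (kb xb9 yb30 zb17) (kb xb3 yb20 zb27) (kb xb9 yb30 zb14) (kb xb9 yb30 zb15) (kb xb9 yb30 zb25) (kb xb9 yb30 zb29) (kb xb2 yb59 zb28)) (@D3.rec (fun _ => Pt) (kb xb3 yb20 zb32) (kb xb2 yb22 zb22) (kb xb9 yb30 zb42) (kb xb6 yb7 zb3) (kb xb9 yb30 zb40) (kb xb2 yb22 zb23) (kb xb9 yb30 zb55) (kb xb9 yb30 zb53) (kb xb9 yb30 zb54) (kb xb5 yb26 zb60) (kb xb9 yb31 zb2) (kb xb8 yb16 zb12) (kb xb2 yb22 zb35) (kb xb9 yb30 zb50) (kb xb3 yb20 zb43) (kb xb2 yb22 zb28) (kb xb2 yb22 zb27) (kb xb9 yb31 zb20) (kb xb9 yb30 zb45) (kb xb9 yb31 zb24) (kb xb9 yb31 zb19) (kb xb9 yb30 zb37) (kb xb3 yb20 zb54) (kb xb6 yb49 zb7) (kb xb2 yb22 zb30) (kb xb2 yb22 zb31) (kb xb9 yb31 zb39) (kb xb9 yb1 zb7) (kb xb9 yb31 zb38) (kb xb2 yb22 zb32) (kb xb9 yb31 zb43) (kb xb9 yb17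 zb18) (kb xb5 yb34 zb8) (kb xb2 yb22 zb33) (kb xb9 yb31 zb49) (kb xb9 yb31 zb48) (kb xb9 yb31 zb53) (kb xb4 yb5 zb26) (kb xb2 yb22 zb34) (kb xb9 yb31 zb57) (kb xb9 yb31 zb58) (kb xb9 yb31 zb10) (kb xb7 yb30 zb53) (kb xb9 yb32 zb0) (kb xb2 yb22 zb37) (kb xb9 yb32 zb4) (kb xb2 yb22 zb38) (kb xb9 yb32 zb11) (kb xb9 yb32 zb13) (kb xb3 yb21 zb25) (kb xb2 yb22 zb40) (kb xb9 yb32 zb18) (kb xb9 yb32 zb20) (kb xb9 yb32 zb21) (kb xb9 yb32 zb17) (kb xb2 yb22 zb41) (kb xb9 yb32 zb28) (kb xb6 yb7 zb52) (kb xb9 yb32 zb30) (kb xb3 yb21 zb41) (kb xb5 yb38 zb48) (kb xb3 yb21 zb49)) (@D3.rec (fun _ => Pt) (kb xb2 yb22 zb48) (kb xb5 yb37 zb4) (kb xb2 yb45 zb50) (kb xb9 yb32 zb36) (kb xb3 yb19 zb57) (kb xb9 yb32 zb38) (kb xb9 yb25 zb1) (kb xb5 yb26 zb20) (kb xb2 yb22 zb53) (kb xb9 yb32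 zb42) (kb xb2 yb22 zb54) (kb xb9 yb32 zb45) (kb xb9 yb32 zb44) (kb xb2 yb22 zb55) (kb xb9 yb32 zb49) (kb xb9 yb32 zb51) (kb xb9 yb32 zb52) (kb xb2 yb22 zb56) (kb xb9 yb32 zb57) (kb xb2 yb22 zb57) (kb xb9 yb33 zb0) (kb xb4 yb10 zb53) (kb xb9 yb33 zb1) (kb xb2 yb22 zb60) (kb xb9 yb33 zb6) (kb xb9 yb28 zb14) (kb xb4 yb11 zb12) (kb xb9 yb33 zb8) (kb xb9 yb33 zb11) (kb xb3 yb22 zb34) (kb xb2 yb35 zb21) (kb xb5 yb0 zb57) (kb xb2 yb41 zb8) (kb xb4 yb6 zb13) (kb xb5 yb16 zb60) (kb xb2 yb25 zb23) (kb xb9 yb33 zb20) (kb xb2 yb23 zb10) (kb xb9 yb33 zb23) (kb xb4 yb20 zb24) (kb xb4 yb14 zb31) (kb xb9 yb33 zb28) (kb xb9 yb33 zb31) (kb xb2 yb23 zb9) (kb xb9 yb33 zb37) (kb xb9 yb33 zb38) (kb xb9 yb33 zb22) (kb xb2 yb23 zb12) (kb xb2 yb23 zb13) (kb xb9 yb33 zb45) (kb xb9 yb33 zb43)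 (kb xb9 yb33 zb48) (kb xb8 yb26 zb43) (kb xb2 yb23 zb16) (kb xb9 yb33 zb52) (kb xb9 yb33 zb51) (kb xb8 yb32 zb4) (kb xb8 yb32 zb7) (kb xb2 yb23 zb18) (kb xb9 yb34 zb1) (kb xb9 yb34 zb2) (kb xb4 yb0 zb21)) (@D3.rec (fun _ => Pt) (kb xb4 yb22 zb39) (kb xb9 yb34 zb5) (kb xb2 yb23 zb26) (kb xb2 yb23 zb28) (kb xb4 yb21 zb38) (kb xb9 yb34 zb11) (kb xb4 yb21 zb7) (kb xb4 yb21 zb10) (kb xb9 yb34 zb15) (kb xb4 yb4 zb43) (kb xb9 yb34 zb21) (kb xb9 yb34 zb24) (kb xb2 yb23 zb25) (kb xb9 yb34 zb30) (kb xb9 yb34 zb31) (kb xb4 yb22 zb24) (kb xb8 yb15 zb7) (kb xb9 yb34 zb9) (kb xb9 yb34 zb42) (kb xb4 yb55 zb3) (kb xb4 yb22 zb17) (kb xb9 yb34 zb46) (kb xb2 yb23 zb35) (kb xb5 yb29 zb23) (kb xb9 yb34 zb51) (kb xb4 yb8 zb16) (kb xb2 yb23 zb34) (kb xb9 yb34 zb58) (kb xb9 yb34 zb59) (kb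 xb4 yb22 zb44) (kb xb9 yb34 zb50) (kb xb2 yb23 zb39) (kb xb9 yb35 zb6) (kb xb2 yb23 zb38) (kb xb9 yb35 zb11) (kb xb9 yb35 zb12) (kb xb4 yb52 zb55) (kb xb2 yb23 zb53) (kb xb9 yb35 zb5) (kb xb5 yb14 zb58) (kb xb9 yb35 zb25) (kb xb2 yb23 zb42) (kb xb2 yb23 zb41) (kb xb9 yb35 zb35) (kb xb9 yb35 zb36) (kb xb2 yb23 zb58) (kb xb4 yb53 zb1) (kb xb9 yb35 zb30) (kb xb9 yb35 zb31) (kb xb2 yb23 zb43) (kb xb9 yb35 zb49) (kb xb9 yb35 zb50) (kb xb2 yb23 zb44) (kb xb9 yb35 zb58) (kb xb9 yb35 zb59) (kb xb9 yb36 zb2) (kb xb9 yb36 zb6) (kb xb9 yb34 zb0) (kb xb2 yb23 zb46) (kb xb2 yb23 zb47) (kb xb9 yb36 zb15) (kb xb9 yb36 zb17)) (@D3.rec (fun _ => Pt) (kb xb9 yb36 zb19) (kb xb9 yb36 zb12) (kb xb9 yb36 zb13) (kb xb9 yb36 zb14) (kb xb9 yb36 zb26) (kb xb9 yb36 zb30) (kb xb9 yb36 zb34) (kb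 xb4 yb53 zb19) (kb xb9 yb36 zb39) (kb xb9 yb36 zb41) (kb xb8 yb35 zb22) (kb xb3 yb8 zb57) (kb xb9 yb36 zb46) (kb xb9 yb36 zb50) (kb xb2 yb23 zb54) (kb xb2 yb23 zb52) (kb xb9 yb36 zb54) (kb xb8 yb28 zb39) (kb xb9 yb35 zb23) (kb xb9 yb36 zb56) (kb xb4 yb53 zb30) (kb xb9 yb36 zb61) (kb xb8 yb35 zb31) (kb xb6 yb26 zb12) (kb xb9 yb37 zb5) (kb xb9 yb37 zb8) (kb xb2 yb23 zb60) (kb xb9 yb35 zb42) (kb xb2 yb23 zb59) (kb xb4 yb52 zb37) (kb xb3 yb19 zb41) (kb xb2 yb23 zb61) (kb xb9 yb37 zb14) (kb xb9 yb27 zb56) (kb xb9 yb27 zb57) (kb xb6 yb33 zb2) (kb xb9 yb37 zb19) (kb xb4 yb52 zb29) (kb xb6 yb17 zb41) (kb xb6 yb17 zb56) (kb xb2 yb24 zb25) (kb xb2 yb24 zb4) (kb xb2 yb24 zb5) (kb xb2 yb24 zb6) (kb xb9 yb37 zb30) (kb xb9 yb37 zb31) (kb xb2 yb24 zb7) (kb xb9 yb37 zb35) (kb xb4 yb28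 zb52) (kb xb5 yb22 zb23) (kb xb8 yb20 zb29) (kb xb4 yb21 zb22) (kb xb2 yb24 zb12) (kb xb3 yb3 zb15) (kb xb2 yb24 zb18) (kb xb4 yb51 zb36) (kb xb2 yb24 zb31) (kb xb9 yb37 zb44) (kb xb9 yb37 zb45) (kb xb5 yb17 zb12) (kb xb8 yb41 zb56) (kb xb2 yb24 zb20)) (@D3.rec (fun _ => Pt) (kb xb2 yb24 zb36) (kb xb4 yb51 zb46) (kb xb9 yb37 zb57) (kb xb2 yb24 zb21) (kb xb9 yb38 zb3) (kb xb9 yb38 zb4) (kb xb2 yb24 zb22) (kb xb9 yb38 zb11) (kb xb9 yb38 zb12) (kb xb9 yb38 zb16) (kb xb9 yb38 zb19) (kb xb8 yb1 zb36) (kb xb2 yb24 zb24) (kb xb9 yb38 zb26) (kb xb9 yb38 zb28) (kb xb9 yb38 zb25) (kb xb9 yb37 zb25) (kb xb9 yb38 zb36) (kb xb9 yb38 zb39) (kb xb4 yb52 zb7) (kb xb8 yb23 zb5) (kb xb6 yb17 zb57) (kb xb9 yb38 zb49) (kb xb9 yb38 zb52) (kb xb2 yb24 zb32) (kb xb2 yb24 zb30) (kb xb9 yb38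 zb57) (kb xb9 yb37 zb49) (kb xb9 yb37 zb50) (kb xb9 yb38 zb59) (kb xb4 yb52 zb20) (kb xb5 yb43 zb31) (kb xb6 yb23 zb46) (kb xb9 yb38 zb61) (kb xb9 yb39 zb2) (kb xb9 yb37 zb59) (kb xb2 yb24 zb37) (kb xb2 yb24 zb38) (kb xb9 yb39 zb8) (kb xb9 yb39 zb5) (kb xb4 yb45 zb58) (kb xb2 yb24 zb39) (kb xb8 yb42 zb6) (kb xb6 yb24 zb2) (kb xb2 yb24 zb41) (kb xb9 yb39 zb16) (kb xb9 yb39 zb17) (kb xb5 yb15 zb14) (kb xb5 yb47 zb57) (kb xb4 yb53 zb52) (kb xb4 yb53 zb55) (kb xb8 yb12 zb26) (kb xb4 yb53 zb49) (kb xb4 yb7 zb7) (kb xb9 yb39 zb18) (kb xb4 yb53 zb50) (kb xb2 yb28 zb7) (kb xb4 yb7 zb53) (kb xb2 yb28 zb9) (kb xb4 yb7 zb55) (kb xb9 yb39 zb26) (kb xb2 yb24 zb61)) (@D3.rec (fun _ => Pt) (kb xb4 yb13 zb37) (kb xb4 yb13 zb38) (kb xb4 yb13 zb39) (kb xb9 yb39 zb32) (kb xb4 yb7 zb57)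 (kb xb9 yb39 zb35) (kb xb5 yb9 zb30) (kb xb9 yb39 zb39) (kb xb5 yb10 zb29) (kb xb9 yb39 zb45) (kb xb9 yb39 zb48) (kb xb2 yb24 zb60) (kb xb9 yb39 zb54) (kb xb9 yb39 zb55) (kb xb9 yb39 zb28) (kb xb4 yb13 zb44) (kb xb4 yb13 zb45) (kb xb4 yb13 zb46) (kb xb9 yb40 zb4) (kb xb2 yb31 zb51) (kb xb9 yb40 zb7) (kb xb5 yb2 zb49) (kb xb9 yb40 zb12) (kb xb5 yb3 zb43) (kb xb9 yb40 zb18) (kb xb9 yb40 zb21) (kb xb2 yb25 zb6) (kb xb9 yb40 zb27) (kb xb9 yb40 zb28) (kb xb8 yb26 zb14) (kb xb9 yb40 zb36) (kb xb4 yb14 zb0) (kb xb9 yb40 zb39) (kb xb8 yb17 zb58) (kb xb9 yb40 zb42) (kb xb4 yb14 zb10) (kb xb8 yb54 zb60) (kb xb8 yb55 zb1) (kb xb9 yb40 zb51) (kb xb2 yb25 zb13) (kb xb9 yb40 zb57) (kb xb9 yb40 zb58) (kb xb7 yb57 zb48) (kb xb5 yb29 zb54) (kb xb9 yb41 zb1) (kb xb2 yb25 zb22) (kb xb8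 yb15 zb50) (kb xb2 yb25 zb24) (kb xb4 yb13 zb53) (kb xb4 yb13 zb60) (kb xb9 yb41 zb8) (kb xb8 yb16 zb25) (kb xb4 yb13 zb55) (kb xb8 yb15 zb49) (kb xb9 yb41 zb13) (kb xb7 yb57 zb55) (kb xb9 yb41 zb19) (kb xb9 yb41 zb22) (kb xb2 yb25 zb21) (kb xb9 yb41 zb28) (kb xb9 yb41 zb29) (kb xb7 yb57 zb61)) (@D3.rec (fun _ => Pt) (kb xb9 yb33 zb19) (kb xb9 yb41 zb5) (kb xb9 yb41 zb40) (kb xb4 yb51 zb19) (kb xb4 yb19 zb49) (kb xb5 yb22 zb58) (kb xb9 yb41 zb44) (kb xb2 yb25 zb31) (kb xb5 yb23 zb39) (kb xb9 yb41 zb49) (kb xb7 yb57 zb40) (kb xb2 yb25 zb30) (kb xb9 yb41 zb56) (kb xb9 yb41 zb57) (kb xb7 yb58 zb8) (kb xb9 yb41 zb48) (kb xb2 yb25 zb34) (kb xb9 yb42 zb6) (kb xb2 yb25 zb33) (kb xb9 yb42 zb11) (kb xb8 yb18 zb60) (kb xb7 yb58 zb15) (kb xb2 yb25 zb46) (kb xb9 yb42 zb4) (kb xb9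 yb42 zb5) (kb xb9 yb42 zb24) (kb xb2 yb25 zb37) (kb xb2 yb25 zb36) (kb xb9 yb42 zb33) (kb xb9 yb42 zb34) (kb xb2 yb25 zb52) (kb xb7 yb58 zb23) (kb xb5 yb17 zb16) (kb xb9 yb42 zb29) (kb xb2 yb25 zb38) (kb xb9 yb42 zb50) (kb xb9 yb42 zb51) (kb xb2 yb25 zb39) (kb xb9 yb42 zb59) (kb xb9 yb42 zb60) (kb xb9 yb43 zb3) (kb xb9 yb43 zb5) (kb xb9 yb40 zb56) (kb xb2 yb25 zb41) (kb xb2 yb25 zb42) (kb xb9 yb43 zb11) (kb xb9 yb43 zb13) (kb xb9 yb43 zb15) (kb xb5 yb3 zb33) (kb xb9 yb43 zb10) (kb xb6 yb22 zb22) (kb xb9 yb43 zb22) (kb xb9 yb43 zb26) (kb xb9 yb43 zb29) (kb xb8 yb44 zb44) (kb xb2 yb25 zb47) (kb xb2 yb25 zb48) (kb xb2 yb25 zb45) (kb xb9 yb43 zb36) (kb xb9 yb42 zb21) (kb xb9 yb42 zb22) (kb xb9 yb43 zb39)) (@D3.rec (fun _ => Pt) (kb xb8 yb9 zb1) (kb xb4 yb4 zb47) (kb xb9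 yb43 zb46) (kb xb8 yb58 zb46) (kb xb8 yb58 zb47) (kb xb9 yb43 zb53) (kb xb9 yb43 zb56) (kb xb2 yb25 zb54) (kb xb9 yb42 zb41) (kb xb2 yb25 zb53) (kb xb5 yb31 zb29) (kb xb9 yb43 zb60) (kb xb2 yb25 zb55) (kb xb9 yb44 zb6) (kb xb9 yb44 zb3) (kb xb9 yb44 zb4) (kb xb5 yb25 zb19) (kb xb2 yb25 zb56) (kb xb9 yb44 zb18) (kb xb9 yb44 zb16) (kb xb9 yb44 zb17) (kb xb7 yb59 zb0) (kb xb2 yb25 zb60) (kb xb2 yb25 zb61) (kb xb9 yb44 zb23) (kb xb9 yb44 zb25) (kb xb5 yb48 zb51) (kb xb5 yb50 zb16) (kb xb2 yb26 zb0) (kb xb9 yb44 zb29) (kb xb9 yb44 zb30) (kb xb2 yb26 zb1) (kb xb9 yb44 zb32) (kb xb2 yb26 zb3) (kb xb4 yb56 zb58) (kb xb8 yb1 zb1) (kb xb2 yb26 zb5) (kb xb9 yb44 zb37) (kb xb9 yb44 zb39) (kb xb6 yb24 zb36) (kb xb6 yb7 zb27) (kb xb4 yb22 zb46) (kb xb5 yb46 zb49) (kb xb6 yb16 zb32)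 (kb xb2 yb26 zb12) (kb xb9 yb44 zb48) (kb xb2 yb26 zb14) (kb xb9 yb44 zb52) (kb xb9 yb44 zb53) (kb xb8 yb37 zb38) (kb xb5 yb29 zb43) (kb xb4 yb24 zb16) (kb xb6 yb15 zb44) (kb xb4 yb22 zb48) (kb xb2 yb26 zb18) (kb xb9 yb44 zb61) (kb xb9 yb44 zb60) (kb xb2 yb26 zb19) (kb xb4 yb56 zb34) (kb xb9 yb45 zb5) (kb xb5 yb42 zb45) (kb xb9 yb45 zb10)) (@D3.rec (fun _ => Pt) (kb xb4 yb33 zb1) (kb xb7 yb59 zb8) (kb xb6 yb13 zb19) (kb xb7 yb59 zb19) (kb xb5 yb42 zb39) (kb xb2 yb26 zb31) (kb xb2 yb26 zb30) (kb xb5 yb41 zb35) (kb xb9 yb45 zb18) (kb xb7 yb59 zb20) (kb xb5 yb37 zb40) (kb xb9 yb45 zb26) (kb xb9 yb45 zb17) (kb xb8 yb44 zb27) (kb xb8 yb44 zb28) (kb xb5 yb43 zb19) (kb xb8 yb44 zb21) (kb xb7 yb59 zb16) (kb xb2 yb26 zb35) (kb xb2 yb26 zb36) (kb xb5 yb37 zb44) (kb xb5 yb14 zb5)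 (kb xb9 yb45 zb40) (kb xb9 yb45 zb37) (kb xb5 yb13 zb60) (kb xb5 yb49 zb13) (kb xb6 yb15 zb27) (kb xb9 yb3 zb58) (kb xb7 yb23 zb26) (kb xb7 yb59 zb32) (kb xb2 yb26 zb38) (kb xb9 yb45 zb53) (kb xb9 yb45 zb52) (kb xb2 yb26 zb39) (kb xb9 yb45 zb57) (kb xb2 yb26 zb40) (kb xb9 yb46 zb0) (kb xb9 yb46 zb1) (kb xb7 yb59 zb2) (kb xb9 yb46 zb10) (kb xb9 yb46 zb13) (kb xb2 yb26 zb48) (kb xb2 yb26 zb49) (kb xb8 yb0 zb4) (kb xb2 yb52 zb44) (kb xb2 yb26 zb50) (kb xb9 yb46 zb26) (kb xb9 yb46 zb28) (kb xb5 yb30 zb39) (kb xb2 yb26 zb45) (kb xb9 yb46 zb33) (kb xb9 yb46 zb34) (kb xb2 yb26 zb46) (kb xb9 yb46 zb38) (kb xb4 yb41 zb14) (kb xb2 yb26 zb47) (kb xb9 yb46 zb43) (kb xb9 yb46 zb17) (kb xb9 yb46 zb45) (kb xb9 yb46 zb48) (kb xb9 yb46 zb20) (kb xb9 yb46 zb54)) (@D3.rec (fun _ => Pt)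 (kb xb9 yb46 zb55) (kb xb9 yb46 zb58) (kb xb5 yb56 zb19) (kb xb5 yb56 zb20) (kb xb2 yb26 zb52) (kb xb9 yb47 zb4) (kb xb6 yb13 zb41) (kb xb9 yb47 zb9) (kb xb8 yb46 zb1) (kb xb9 yb47 zb14) (kb xb5 yb56 zb28) (kb xb5 yb52 zb58) (kb xb5 yb38 zb37) (kb xb9 yb47 zb18) (kb xb3 yb24 zb3) (kb xb6 yb13 zb18) (kb xb2 yb26 zb61) (kb xb2 yb27 zb0) (kb xb6 yb10 zb52) (kb xb5 yb54 zb27) (kb xb4 yb5 zb59) (kb xb5 yb56 zb0) (kb xb5 yb47 zb44) (kb xb2 yb27 zb11) (kb xb2 yb31 zb2) (kb xb9 yb47 zb31) (kb xb2 yb27 zb14) (kb xb2 yb27 zb15) (kb xb5 yb54 zb3) (kb xb2 yb27 zb6) (kb xb2 yb27 zb7) (kb xb5 yb49 zb59) (kb xb5 yb47 zb45) (kb xb5 yb14 zb23) (kb xb9 yb47 zb38) (kb xb9 yb47 zb41) (kb xb5 yb47 zb21) (kb xb9 yb47 zb45) (kb xb7 yb33 zb55) (kb xb2 yb27 zb10) (kb xb5 yb55 zb39) (kb xb9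 yb7 zb13) (kb xb9 yb47 zb51) (kb xb6 yb30 zb32) (kb xb9 yb47 zb28) (kb xb9 yb47 zb29) (kb xb8 yb49 zb20) (kb xb5 yb13 zb59) (kb xb5 yb14 zb31) (kb xb9 yb48 zb5) (kb xb9 yb47 zb36) (kb xb8 yb49 zb22) (kb xb5 yb57 zb50) (kb xb5 yb47 zb55) (kb xb6 yb13 zb14) (kb xb6 yb13 zb15) (kb xb5 yb50 zb3) (kb xb9 yb48 zb13) (kb xb2 yb27 zb25) (kb xb2 yb27 zb27) (kb xb5 yb47 zb27) (kb xb5 yb29 zb15)) (@D3.rec (fun _ => Pt) (kb xb2 yb27 zb24) (kb xb9 yb48 zb28) (kb xb9 yb48 zb29) (kb xb6 yb30 zb21) (kb xb9 yb48 zb17) (kb xb9 yb48 zb18) (kb xb8 yb0 zb18) (kb xb5 yb29 zb11) (kb xb9 yb48 zb45) (kb xb6 yb13 zb21) (kb xb2 yb27 zb29) (kb xb9 yb48 zb50) (kb xb9 yb48 zb49) (kb xb9 yb11 zb49) (kb xb9 yb11 zb51) (kb xb9 yb48 zb54) (kb xb2 yb27 zb31) (kb xb9 yb48 zb57) (kb xb9 yb48 zb61) (kb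 xb9 yb12 zb5) (kb xb8 yb0 zb24) (kb xb2 yb27 zb35) (kb xb9 yb49 zb7) (kb xb9 yb49 zb9) (kb xb2 yb27 zb34) (kb xb6 yb25 zb12) (kb xb9 yb49 zb12) (kb xb6 yb26 zb34) (kb xb9 yb49 zb5) (kb xb9 yb49 zb6) (kb xb3 yb17 zb42) (kb xb9 yb49 zb25) (kb xb2 yb27 zb38) (kb xb2 yb27 zb37) (kb xb9 yb49 zb31) (kb xb9 yb49 zb32) (kb xb6 yb22 zb2) (kb xb3 yb23 zb61) (kb xb9 yb49 zb28) (kb xb2 yb27 zb39) (kb xb9 yb49 zb44) (kb xb9 yb49 zb45) (kb xb2 yb27 zb40) (kb xb8 yb48 zb15) (kb xb9 yb49 zb52) (kb xb9 yb49 zb56) (kb xb9 yb49 zb58) (kb xb6 yb21 zb9) (kb xb3 yb22 zb40) (kb xb9 yb50 zb3) (kb xb9 yb50 zb6) (kb xb6 yb21 zb10) (kb xb3 yb17 zb15) (kb xb3 yb22 zb41) (kb xb2 yb27 zb44) (kb xb9 yb50 zb19) (kb xb9 yb50 zb16) (kb xb9 yb50 zb17) (kb xb2 yb27 zb45) (kb xb4 yb38 zb2) (kb xb9 yb50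 zb28) (kb xb5 yb53 zb34))
def f_b_5 : D2 → D3 → Pt := @D2.rec (fun _ => D3 → Pt) (@D3.rec (fun _ => Pt) (kb xb9 yb50 zb32) (kb xb9 yb50 zb35) (kb xb2 yb27 zb55) (kb xb2 yb27 zb48) (kb xb9 yb50 zb41) (kb xb9 yb50 zb43) (kb xb9 yb6 zb59) (kb xb9 yb50 zb50) (kb xb6 yb1 zb56) (kb xb8 yb0 zb52) (kb xb3 yb21 zb59) (kb xb2 yb27 zb51) (kb xb2 yb27 zb52) (kb xb9 yb50 zb59) (kb xb9 yb50 zb23) (kb xb9 yb50 zb24) (kb xb9 yb50 zb58) (kb xb9 yb50 zb15) (kb xb8 yb0 zb57) (kb xb2 yb27 zb54) (kb xb9 yb51 zb4) (kb xb9 yb51 zb3) (kb xb8 yb14 zb27) (kb xb9 yb51 zb6) (kb xb6 yb7 zb29) (kb xb2 yb27 zb57) (kb xb9 yb51 zb12) (kb xb2 yb27 zb58) (kb xb9 yb51 zb18) (kb xb2 yb52 zb16) (kb xb9 yb51 zb20) (kb xb2 yb27 zb60) (kb xb4 yb37 zb29) (kb xb9 yb51 zb26) (kb xb2 yb28 zb2) (kb xb3 yb58 zb8)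 (kb xb5 yb20 zb59) (kb xb9 yb51 zb29) (kb xb9 yb51 zb32) (kb xb2 yb28 zb4) (kb xb9 yb51 zb38) (kb xb9 yb51 zb42) (kb xb9 yb42 zb49) (kb xb2 yb28 zb6) (kb xb9 yb51 zb49) (kb xb4 yb1 zb40) (kb xb9 yb51 zb54) (kb xb9 yb51 zb56) (kb xb8 yb15 zb4) (kb xb9 yb51 zb59) (kb xb9 yb39 zb24) (kb xb9 yb52 zb2) (kb xb9 yb52 zb5) (kb xb2 yb28 zb10) (kb xb9 yb52 zb11) (kb xb9 yb52 zb12) (kb xb4 yb1 zb57) (kb xb4 yb50 zb31) (kb xb2 yb28 zb61) (kb xb5 yb8 zb43) (kb xb9 yb52 zb21) (kb xb2 yb28 zb20)) (@D3.rec (fun _ => Pt) (kb xb2 yb32 zb52) (kb xb9 yb52 zb27) (kb xb5 yb21 zb20) (kb xb9 yb52 zb30) (kb xb5 yb8 zb33) (kb xb9 yb52 zb36) (kb xb2 yb28 zb48) (kb xb9 yb52 zb39) (kb xb9 yb52 zb42) (kb xb2 yb28 zb19) (kb xb9 yb52 zb48) (kb xb9 yb52 zb49) (kb xb5 yb8 zb40) (kb xb2 yb28 zb55) (kb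 xb9 yb52 zb26) (kb xb5 yb8 zb29) (kb xb2 yb28 zb40) (kb xb8 yb42 zb50) (kb xb2 yb28 zb26) (kb xb8 yb23 zb55) (kb xb2 yb28 zb27) (kb xb9 yb53 zb1) (kb xb5 yb15 zb3) (kb xb2 yb40 zb25) (kb xb2 yb28 zb25) (kb xb9 yb53 zb7) (kb xb8 yb36 zb61) (kb xb2 yb29 zb8) (kb xb9 yb52 zb61) (kb xb9 yb53 zb0) (kb xb9 yb53 zb16) (kb xb9 yb53 zb18) (kb xb2 yb28 zb30) (kb xb9 yb53 zb23) (kb xb2 yb28 zb29) (kb xb9 yb53 zb28) (kb xb9 yb53 zb29) (kb xb5 yb8 zb61) (kb xb2 yb29 zb18) (kb xb9 yb53 zb22) (kb xb2 yb28 zb33) (kb xb2 yb28 zb32) (kb xb9 yb53 zb48) (kb xb9 yb53 zb49) (kb xb2 yb29 zb26) (kb xb5 yb9 zb7) (kb xb9 yb53 zb44) (kb xb2 yb28 zb34) (kb xb9 yb54 zb0) (kb xb9 yb54 zb1) (kb xb2 yb28 zb35) (kb xb9 yb54 zb10) (kb xb9 yb54 zb11) (kb xb9 yb54 zb17) (kb xb9 yb54 zb22) (kb xb9 yb52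 zb10) (kb xb2 yb28 zb37) (kb xb2 yb28 zb38) (kb xb9 yb54 zb33) (kb xb9 yb54 zb35) (kb xb9 yb54 zb37) (kb xb9 yb54 zb30)) (@D3.rec (fun _ => Pt) (kb xb9 yb54 zb31) (kb xb9 yb54 zb32) (kb xb9 yb54 zb46) (kb xb8 yb44 zb45) (kb xb9 yb54 zb51) (kb xb9 yb52 zb58) (kb xb2 yb28 zb41) (kb xb9 yb54 zb58) (kb xb8 yb26 zb54) (kb xb9 yb55 zb1) (kb xb9 yb55 zb4) (kb xb2 yb28 zb42) (kb xb9 yb55 zb10) (kb xb9 yb55 zb11) (kb xb9 yb55 zb17) (kb xb9 yb55 zb19) (kb xb2 yb28 zb56) (kb xb9 yb55 zb22) (kb xb2 yb28 zb46) (kb xb2 yb28 zb45) (kb xb9 yb55 zb30) (kb xb9 yb55 zb31) (kb xb9 yb55 zb37) (kb xb9 yb54 zb55) (kb xb9 yb53 zb12) (kb xb2 yb28 zb47) (kb xb9 yb55 zb43) (kb xb9 yb55 zb44) (kb xb2 yb28 zb49) (kb xb9 yb55 zb50) (kb xb9 yb55 zb51) (kb xb2 yb28 zb50) (kb xb9 yb55 zb59) (kb xb9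 yb55 zb61) (kb xb9 yb56 zb3) (kb xb5 yb9 zb56) (kb xb2 yb28 zb52) (kb xb2 yb28 zb53) (kb xb9 yb56 zb10) (kb xb9 yb56 zb16) (kb xb9 yb56 zb17) (kb xb9 yb37 zb4) (kb xb2 yb28 zb54) (kb xb9 yb56 zb20) (kb xb9 yb56 zb21) (kb xb9 yb52 zb56) (kb xb9 yb56 zb23) (kb xb8 yb15 zb10) (kb xb9 yb56 zb26) (kb xb4 yb54 zb21) (kb xb2 yb28 zb60) (kb xb9 yb56 zb29) (kb xb9 yb52 zb60) (kb xb9 yb56 zb32) (kb xb9 yb52 zb18) (kb xb9 yb56 zb37) (kb xb9 yb56 zb40) (kb xb2 yb29 zb0) (kb xb9 yb56 zb46) (kb xb9 yb56 zb47) (kb xb9 yb56 zb52) (kb xb2 yb29 zb9)) (@D3.rec (fun _ => Pt) (kb xb2 yb29 zb10) (kb xb2 yb29 zb2) (kb xb5 yb28 zb11) (kb xb3 yb21 zb29) (kb xb9 yb56 zb58) (kb xb9 yb57 zb0) (kb xb5 yb10 zb18) (kb xb2 yb29 zb6) (kb xb2 yb29 zb7) (kb xb9 yb57 zb9) (kb xb9 yb57 zb17) (kb xb9 yb57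 zb11) (kb xb9 yb57 zb12) (kb xb9 yb57 zb19) (kb xb9 yb53 zb13) (kb xb9 yb57 zb21) (kb xb3 yb21 zb30) (kb xb9 yb57 zb22) (kb xb2 yb29 zb12) (kb xb9 yb57 zb27) (kb xb9 yb57 zb28) (kb xb9 yb57 zb35) (kb xb9 yb57 zb39) (kb xb2 yb29 zb19) (kb xb9 yb57 zb43) (kb xb9 yb57 zb46) (kb xb5 yb10 zb39) (kb xb2 yb29 zb15) (kb xb2 yb29 zb16) (kb xb9 yb57 zb56) (kb xb9 yb57 zb58) (kb xb3 yb20 zb34) (kb xb9 yb57 zb61) (kb xb4 yb55 zb48) (kb xb9 yb57 zb54) (kb xb9 yb57 zb55) (kb xb2 yb29 zb17) (kb xb9 yb58 zb7) (kb xb9 yb58 zb6) (kb xb9 yb58 zb10) (kb xb9 yb53 zb40) (kb xb9 yb53 zb41) (kb xb9 yb58 zb13) (kb xb4 yb54 zb23) (kb xb9 yb58 zb18) (kb xb2 yb29 zb21) (kb xb9 yb58 zb23) (kb xb9 yb58 zb24) (kb xb9 yb58 zb32) (kb xb9 yb58 zb35) (kb xb2 yb29 zb28) (kb xb9 yb58 zb37) (kb xb9 yb58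 zb39) (kb xb5 yb10 zb61) (kb xb2 yb29 zb24) (kb xb2 yb29 zb25) (kb xb9 yb58 zb47) (kb xb9 yb58 zb50) (kb xb9 yb58 zb52) (kb xb8 yb36 zb25) (kb xb9 yb58 zb53) (kb xb9 yb53 zb56)) (@D3.rec (fun _ => Pt) (kb xb2 yb29 zb27) (kb xb9 yb58 zb56) (kb xb9 yb58 zb57) (kb xb5 yb11 zb12) (kb xb2 yb34 zb55) (kb xb2 yb29 zb30) (kb xb2 yb29 zb31) (kb xb9 yb59 zb4) (kb xb9 yb59 zb6) (kb xb3 yb16 zb19) (kb xb9 yb59 zb2) (kb xb9 yb59 zb3) (kb xb9 yb59 zb15) (kb xb9 yb59 zb18) (kb xb5 yb11 zb21) (kb xb2 yb34 zb60) (kb xb2 yb29 zb33) (kb xb2 yb29 zb34) (kb xb9 yb59 zb29) (kb xb9 yb59 zb32) (kb xb9 yb59 zb33) (kb xb5 yb11 zb28) (kb xb9 yb59 zb35) (kb xb2 yb29 zb35) (kb xb9 yb59 zb47) (kb xb9 yb59 zb42) (kb xb9 yb59 zb43) (kb xb9 yb59 zb44) (kb xb2 yb29 zb36) (kb xb10 yb0 zb1) (kb xb9 yb59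 zb61) (kb xb10 yb0 zb0) (kb xb5 yb11 zb39) (kb xb10 yb0 zb10) (kb xb6 yb10 zb59) (kb xb2 yb59 zb32) (kb xb2 yb29 zb42) (kb xb2 yb29 zb43) (kb xb6 yb11 zb10) (kb xb2 yb29 zb41) (kb xb10 yb0 zb27) (kb xb6 yb11 zb14) (kb xb10 yb0 zb33) (kb xb10 yb0 zb19) (kb xb10 yb0 zb36) (kb xb10 yb0 zb22) (kb xb2 yb29 zb44) (kb xb10 yb0 zb39) (kb xb10 yb0 zb38) (kb xb4 yb2 zb57) (kb xb2 yb40 zb28) (kb xb10 yb0 zb44) (kb xb2 yb29 zb49) (kb xb10 yb0 zb49) (kb xb5 yb25 zb51) (kb xb2 yb29 zb47) (kb xb10 yb0 zb56) (kb xb10 yb0 zb55) (kb xb10 yb0 zb59) (kb xb10 yb1 zb0) (kb xb2 yb29 zb48) (kb xb10 yb1 zb5)) (@D3.rec (fun _ => Pt) (kb xb10 yb1 zb6) (kb xb5 yb25 zb58) (kb xb10 yb1 zb13) (kb xb10 yb0 zb48) (kb xb9 yb15 zb3) (kb xb2 yb29 zb52) (kb xb10 yb1 zb18) (kb xb2 yb29 zb53) (kb xb10 yb1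 zb20) (kb xb2 yb29 zb54) (kb xb10 yb1 zb25) (kb xb10 yb1 zb27) (kb xb8 yb14 zb47) (kb xb6 yb7 zb34) (kb xb2 yb29 zb56) (kb xb10 yb1 zb33) (kb xb10 yb1 zb32) (kb xb2 yb29 zb57) (kb xb10 yb1 zb39) (kb xb10 yb1 zb38) (kb xb10 yb1 zb45) (kb xb4 yb3 zb59) (kb xb10 yb1 zb48) (kb xb10 yb1 zb51) (kb xb2 yb29 zb59) (kb xb6 yb40 zb24) (kb xb10 yb1 zb57) (kb xb10 yb2 zb2) (kb xb8 yb3 zb12) (kb xb2 yb30 zb8) (kb xb10 yb2 zb6) (kb xb2 yb30 zb1) (kb xb2 yb30 zb0) (kb xb10 yb2 zb15) (kb xb10 yb2 zb19) (kb xb10 yb1 zb43) (kb xb10 yb2 zb11) (kb xb5 yb12 zb14) (kb xb10 yb2 zb21) (kb xb2 yb30 zb3) (kb xb10 yb2 zb24) (kb xb10 yb2 zb27) (kb xb5 yb12 zb18) (kb xb2 yb30 zb5) (kb xb10 yb2 zb33) (kb xb10 yb2 zb34) (kb xb2 yb30 zb6) (kb xb10 yb2 zb36) (kb xb2 yb30 zb7) (kb xb10 yb2 zb39) (kb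 xb10 yb2 zb38) (kb xb2 yb59 zb55) (kb xb2 yb30 zb11) (kb xb6 yb39 zb12) (kb xb9 yb15 zb5) (kb xb2 yb30 zb15) (kb xb7 yb36 zb17) (kb xb8 yb3 zb39) (kb xb6 yb16 zb8) (kb xb6 yb16 zb9) (kb xb10 yb0 zb26) (kb xb2 yb30 zb19)) (@D3.rec (fun _ => Pt) (kb xb10 yb2 zb61) (kb xb10 yb3 zb3) (kb xb10 yb2 zb60) (kb xb2 yb30 zb20) (kb xb10 yb3 zb6) (kb xb2 yb30 zb21) (kb xb10 yb3 zb8) (kb xb10 yb3 zb7) (kb xb10 yb3 zb13) (kb xb10 yb3 zb15) (kb xb2 yb30 zb22) (kb xb10 yb3 zb21) (kb xb10 yb3 zb22) (kb xb10 yb3 zb27) (kb xb2 yb30 zb28) (kb xb2 yb30 zb29) (kb xb10 yb3 zb33) (kb xb10 yb3 zb35) (kb xb10 yb3 zb39) (kb xb5 yb13 zb18) (kb xb2 yb30 zb26) (kb xb10 yb3 zb45) (kb xb2 yb30 zb27) (kb xb5 yb36 zb13) (kb xb10 yb3 zb49) (kb xb10 yb3 zb50) (kb xb10 yb3 zb51) (kb xb2 yb30 zb30) (kb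 xb3 yb20 zb30) (kb xb3 yb0 zb8) (kb xb2 yb30 zb32) (kb xb10 yb3 zb54) (kb xb4 yb41 zb23) (kb xb10 yb3 zb55) (kb xb6 yb11 zb9) (kb xb2 yb30 zb35) (kb xb10 yb3 zb57) (kb xb9 yb15 zb12) (kb xb6 yb31 zb38) (kb xb2 yb30 zb37) (kb xb10 yb4 zb3) (kb xb10 yb4 zb2) (kb xb2 yb30 zb39) (kb xb2 yb30 zb40) (kb xb8 yb10 zb33) (kb xb7 yb17 zb33) (kb xb10 yb4 zb17) (kb xb10 yb4 zb10) (kb xb6 yb7 zb33) (kb xb9 yb27 zb3) (kb xb2 yb30 zb45) (kb xb2 yb30 zb43) (kb xb6 yb25 zb25) (kb xb2 yb30 zb44) (kb xb10 yb4 zb32) (kb xb10 yb4 zb35) (kb xb10 yb4 zb26) (kb xb2 yb30 zb46) (kb xb5 yb13 zb45) (kb xb2 yb30 zb51) (kb xb10 yb4 zb37) (kb xb10 yb4 zb39)) (@D3.rec (fun _ => Pt) (kb xb6 yb50 zb45) (kb xb6 yb49 zb43) (kb xb6 yb44 zb52) (kb xb10 yb4 zb44) (kb xb8 yb12 zb25) (kb xb9 yb58 zb46) (kb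 xb2 yb30 zb56) (kb xb2 yb46 zb3) (kb xb2 yb30 zb55) (kb xb10 yb4 zb56) (kb xb10 yb4 zb59) (kb xb10 yb4 zb52) (kb xb2 yb30 zb57) (kb xb8 yb2 zb17) (kb xb10 yb4 zb61) (kb xb5 yb13 zb39) (kb xb5 yb14 zb12) (kb xb5 yb14 zb13) (kb xb3 yb39 zb31) (kb xb4 yb12 zb9) (kb xb4 yb7 zb13) (kb xb10 yb5 zb9) (kb xb3 yb20 zb36) (kb xb2 yb31 zb0) (kb xb8 yb49 zb4) (kb xb2 yb31 zb1) (kb xb10 yb5 zb16) (kb xb10 yb5 zb18) (kb xb10 yb5 zb13) (kb xb6 yb50 zb32) (kb xb9 yb47 zb30) (kb xb8 yb49 zb2) (kb xb8 yb14 zb45) (kb xb2 yb31 zb5) (kb xb2 yb31 zb6) (kb xb2 yb31 zb7) (kb xb2 yb55 zb25) (kb xb8 yb12 zb11) (kb xb4 yb32 zb39) (kb xb4 yb5 zb38) (kb xb10 yb5 zb35) (kb xb10 yb5 zb27) (kb xb10 yb5 zb28) (kb xb10 yb5 zb29) (kb xb5 yb53 zb59) (kb xb2 yb31 zb10) (kb xb5 yb53 zb60) (kb xb10 yb5 zb49)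 (kb xb10 yb5 zb46) (kb xb9 yb47 zb33) (kb xb10 yb5 zb57) (kb xb2 yb59 zb44) (kb xb2 yb31 zb12) (kb xb10 yb6 zb6) (kb xb10 yb6 zb3) (kb xb2 yb31 zb13) (kb xb6 yb36 zb57) (kb xb10 yb6 zb13) (kb xb10 yb6 zb18) (kb xb10 yb6 zb22) (kb xb2 yb31 zb14) (kb xb10 yb6 zb28)) (@D3.rec (fun _ => Pt) (kb xb6 yb34 zb51) (kb xb5 yb11 zb42) (kb xb10 yb6 zb39) (kb xb7 yb32 zb13) (kb xb2 yb31 zb25) (kb xb2 yb31 zb26) (kb xb9 yb57 zb8) (kb xb2 yb31 zb18) (kb xb8 yb14 zb61) (kb xb10 yb6 zb10) (kb xb10 yb6 zb48) (kb xb5 yb14 zb37) (kb xb6 yb11 zb51) (kb xb2 yb31 zb20) (kb xb10 yb6 zb16) (kb xb4 yb6 zb5) (kb xb10 yb6 zb60) (kb xb10 yb7 zb1) (kb xb10 yb7 zb4) (kb xb5 yb14 zb45) (kb xb2 yb31 zb22) (kb xb2 yb31 zb23) (kb xb10 yb7 zb10) (kb xb2 yb31 zb24) (kb xb10 yb7 zb13) (kb xb10 yb6 zb42)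 (kb xb10 yb7 zb15) (kb xb10 yb7 zb17) (kb xb2 yb32 zb7) (kb xb5 yb1 zb15) (kb xb10 yb7 zb21) (kb xb2 yb31 zb32) (kb xb10 yb7 zb27) (kb xb5 yb1 zb4) (kb xb10 yb7 zb33) (kb xb10 yb7 zb35) (kb xb10 yb7 zb38) (kb xb2 yb31 zb31) (kb xb10 yb7 zb44) (kb xb10 yb7 zb45) (kb xb5 yb1 zb12) (kb xb2 yb32 zb4) (kb xb10 yb7 zb26) (kb xb5 yb0 zb59) (kb xb2 yb31 zb54) (kb xb8 yb44 zb1) (kb xb2 yb31 zb36) (kb xb2 yb31 zb37) (kb xb2 yb31 zb35) (kb xb10 yb7 zb61) (kb xb10 yb8 zb0) (kb xb2 yb32 zb14) (kb xb4 yb14 zb40) (kb xb10 yb7 zb57) (kb xb10 yb7 zb58) (kb xb10 yb8 zb13) (kb xb10 yb8 zb14) (kb xb2 yb31 zb40) (kb xb2 yb31 zb39) (kb xb10 yb8 zb23) (kb xb10 yb8 zb24) (kb xb5 yb1 zb37)) (@D3.rec (fun _ => Pt) (kb xb2 yb32 zb25) (kb xb10 yb8 zb19) (kb xb2 yb31 zb43) (kb xb2 yb31 zb42) (kb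 xb10 yb8 zb42) (kb xb10 yb8 zb43) (kb xb2 yb32 zb32) (kb xb5 yb1 zb45) (kb xb10 yb8 zb38) (kb xb2 yb31 zb44) (kb xb8 yb10 zb41) (kb xb10 yb8 zb53) (kb xb2 yb31 zb45) (kb xb10 yb8 zb60) (kb xb10 yb8 zb61) (kb xb10 yb9 zb4) (kb xb10 yb9 zb9) (kb xb8 yb4 zb29) (kb xb2 yb31 zb47) (kb xb2 yb31 zb48) (kb xb10 yb9 zb19) (kb xb10 yb9 zb21) (kb xb10 yb9 zb17) (kb xb10 yb9 zb18) (kb xb10 yb9 zb29) (kb xb10 yb9 zb32) (kb xb5 yb15 zb15) (kb xb10 yb9 zb37) (kb xb9 yb40 zb6) (kb xb10 yb9 zb40) (kb xb4 yb54 zb6) (kb xb5 yb19 zb55) (kb xb7 yb36 zb60) (kb xb10 yb9 zb48) (kb xb10 yb7 zb54) (kb xb2 yb31 zb55) (kb xb10 yb9 zb56) (kb xb10 yb9 zb55) (kb xb10 yb9 zb59) (kb xb10 yb9 zb61) (kb xb2 yb31 zb56) (kb xb10 yb10 zb4) (kb xb10 yb10 zb5) (kb xb10 yb10 zb13) (kb xb10 yb10 zb15) (kb xb2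 yb32 zb5) (kb xb10 yb10 zb18) (kb xb2 yb31 zb60) (kb xb2 yb31 zb59) (kb xb10 yb10 zb25) (kb xb10 yb10 zb29) (kb xb10 yb9 zb52) (kb xb10 yb8 zb7) (kb xb2 yb31 zb61) (kb xb10 yb10 zb33) (kb xb10 yb10 zb36) (kb xb5 yb2 zb35) (kb xb2 yb32 zb1) (kb xb2 yb32 zb2) (kb xb10 yb10 zb43) (kb xb10 yb10 zb46) (kb xb2 yb32 zb3)) (@D3.rec (fun _ => Pt) (kb xb10 yb10 zb49) (kb xb10 yb10 zb50) (kb xb10 yb7 zb53) (kb xb2 yb32 zb6) (kb xb10 yb10 zb52) (kb xb10 yb10 zb54) (kb xb10 yb7 zb19) (kb xb10 yb10 zb59) (kb xb9 yb55 zb5) (kb xb2 yb32 zb8) (kb xb10 yb11 zb3) (kb xb10 yb11 zb4) (kb xb9 yb3 zb17) (kb xb2 yb32 zb15) (kb xb2 yb32 zb16) (kb xb10 yb11 zb13) (kb xb10 yb11 zb15) (kb xb10 yb11 zb18) (kb xb5 yb3 zb6) (kb xb2 yb32 zb12) (kb xb2 yb32 zb13) (kb xb10 yb11 zb24) (kb xb10 yb11 zb26)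 (kb xb10 yb11 zb28) (kb xb10 yb8 zb9) (kb xb10 yb11 zb30) (kb xb10 yb11 zb31) (kb xb2 yb32 zb17) (kb xb10 yb11 zb32) (kb xb4 yb54 zb8) (kb xb10 yb11 zb38) (kb xb2 yb32 zb19) (kb xb10 yb11 zb43) (kb xb10 yb11 zb44) (kb xb10 yb11 zb50) (kb xb10 yb11 zb53) (kb xb2 yb32 zb26) (kb xb7 yb31 zb24) (kb xb10 yb11 zb59) (kb xb5 yb3 zb26) (kb xb2 yb32 zb22) (kb xb2 yb32 zb23) (kb xb9 yb7 zb40) (kb xb9 yb43 zb18) (kb xb10 yb12 zb8) (kb xb10 yb12 zb3) (kb xb10 yb12 zb4) (kb xb2 yb32 zb24) (kb xb10 yb12 zb14) (kb xb10 yb12 zb13) (kb xb10 yb12 zb17) (kb xb10 yb8 zb35) (kb xb5 yb19 zb39) (kb xb2 yb32 zb27) (kb xb10 yb12 zb24) (kb xb10 yb12 zb25) (kb xb10 yb12 zb31) (kb xb10 yb12 zb34) (kb xb2 yb32 zb34) (kb xb10 yb12 zb36) (kb xb10 yb12 zb37) (kb xb5 yb3 zb53)) (@D3.rec (fun _ => Pt)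 (kb xb2 yb32 zb30) (kb xb2 yb32 zb31) (kb xb10 yb12 zb42) (kb xb9 yb43 zb19) (kb xb10 yb12 zb46) (kb xb10 yb12 zb45) (kb xb10 yb12 zb47) (kb xb10 yb8 zb48) (kb xb2 yb32 zb33) (kb xb10 yb12 zb50) (kb xb10 yb12 zb51) (kb xb10 yb12 zb55) (kb xb5 yb4 zb3) (kb xb2 yb35 zb50) (kb xb2 yb32 zb36) (kb xb2 yb32 zb37) (kb xb6 yb40 zb3) (kb xb10 yb13 zb5) (kb xb10 yb13 zb6) (kb xb10 yb13 zb10) (kb xb10 yb13 zb12) (kb xb5 yb4 zb14) (kb xb2 yb35 zb55) (kb xb2 yb32 zb39) (kb xb2 yb32 zb40) (kb xb6 yb40 zb22) (kb xb10 yb13 zb23) (kb xb10 yb13 zb24) (kb xb5 yb4 zb21) (kb xb10 yb13 zb27) (kb xb2 yb32 zb41) (kb xb10 yb13 zb39) (kb xb10 yb13 zb34) (kb xb10 yb13 zb35) (kb xb10 yb13 zb36) (kb xb2 yb32 zb42) (kb xb10 yb13 zb56) (kb xb10 yb13 zb54) (kb xb10 yb13 zb55) (kb xb5 yb4 zb32) (kb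 xb10 yb14 zb4) (kb xb10 yb14 zb7) (kb xb5 yb8 zb1) (kb xb2 yb32 zb48) (kb xb2 yb32 zb49) (kb xb2 yb32 zb46) (kb xb10 yb14 zb21) (kb xb2 yb32 zb47) (kb xb10 yb14 zb25) (kb xb10 yb14 zb30) (kb xb10 yb14 zb33) (kb xb10 yb14 zb15) (kb xb10 yb14 zb36) (kb xb10 yb14 zb18) (kb xb2 yb32 zb50) (kb xb10 yb14 zb40) (kb xb10 yb14 zb38) (kb xb10 yb14 zb39) (kb xb2 yb32 zb51) (kb xb10 yb14 zb43) (kb xb10 yb14 zb42) (kb xb10 yb14 zb48)) (@D3.rec (fun _ => Pt) (kb xb8 yb4 zb47) (kb xb10 yb14 zb50) (kb xb8 yb43 zb47) (kb xb2 yb32 zb53) (kb xb10 yb14 zb56) (kb xb10 yb14 zb57) (kb xb10 yb15 zb1) (kb xb8 yb40 zb48) (kb xb2 yb33 zb0) (kb xb9 yb55 zb49) (kb xb2 yb32 zb56) (kb xb10 yb15 zb8) (kb xb10 yb14 zb46) (kb xb10 yb15 zb7) (kb xb5 yb5 zb37) (kb xb9 yb55 zb58) (kb xb10 yb15 zb10) (kb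 xb10 yb15 zb13) (kb xb5 yb5 zb42) (kb xb2 yb32 zb59) (kb xb10 yb15 zb19) (kb xb10 yb15 zb20) (kb xb2 yb32 zb60) (kb xb2 yb32 zb61) (kb xb10 yb15 zb22) (kb xb3 yb5 zb11) (kb xb4 yb39 zb45) (kb xb2 yb33 zb16) (kb xb6 yb7 zb53) (kb xb2 yb33 zb5) (kb xb2 yb33 zb8) (kb xb10 yb15 zb28) (kb xb10 yb15 zb31) (kb xb10 yb15 zb27) (kb xb6 yb4 zb45) (kb xb2 yb34 zb42) (kb xb10 yb15 zb35) (kb xb2 yb33 zb14) (kb xb2 yb33 zb15) (kb xb10 yb15 zb41) (kb xb2 yb33 zb12) (kb xb10 yb15 zb44) (kb xb10 yb15 zb43) (kb xb10 yb15 zb49) (kb xb2 yb33 zb13) (kb xb10 yb15 zb53) (kb xb10 yb15 zb54) (kb xb6 yb5 zb51) (kb xb8 yb7 zb47) (kb xb10 yb15 zb39) (kb xb10 yb15 zb40) (kb xb10 yb16 zb4) (kb xb10 yb15 zb23) (kb xb2 yb33 zb17) (kb xb10 yb16 zb7) (kb xb10 yb16 zb8) (kb xb2 yb33 zb20) (kb xb7 yb8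 zb17) (kb xb8 yb5 zb0) (kb xb4 yb13 zb29) (kb xb2 yb33 zb22) (kb xb10 yb16 zb17)) (@D3.rec (fun _ => Pt) (kb xb10 yb16 zb19) (kb xb10 yb16 zb16) (kb xb9 yb7 zb37) (kb xb2 yb33 zb24) (kb xb10 yb16 zb25) (kb xb10 yb16 zb27) (kb xb8 yb4 zb36) (kb xb10 yb16 zb32) (kb xb10 yb16 zb35) (kb xb2 yb33 zb26) (kb xb10 yb16 zb41) (kb xb8 yb43 zb55) (kb xb10 yb16 zb45) (kb xb2 yb33 zb32) (kb xb2 yb33 zb33) (kb xb10 yb16 zb50) (kb xb10 yb16 zb52) (kb xb10 yb16 zb55) (kb xb5 yb6 zb19) (kb xb2 yb33 zb30) (kb xb10 yb16 zb60) (kb xb10 yb16 zb61) (kb xb2 yb33 zb31) (kb xb10 yb17 zb4) (kb xb10 yb17 zb5) (kb xb10 yb17 zb6) (kb xb2 yb33 zb34) (kb xb8 yb4 zb55) (kb xb10 yb14 zb20) (kb xb2 yb33 zb37) (kb xb10 yb17 zb16) (kb xb10 yb17 zb19) (kb xb10 yb17 zb15) (kb xb9 yb7 zb38) (kb xb2 yb33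 zb41) (kb xb10 yb17 zb26) (kb xb10 yb17 zb25) (kb xb2 yb33 zb42) (kb xb10 yb17 zb28) (kb xb5 yb7 zb15) (kb xb2 yb33 zb44) (kb xb2 yb33 zb45) (kb xb10 yb17 zb33) (kb xb10 yb17 zb31) (kb xb10 yb17 zb32) (kb xb5 yb6 zb58) (kb xb10 yb13 zb2) (kb xb2 yb33 zb49) (kb xb2 yb33 zb50) (kb xb10 yb17 zb49) (kb xb10 yb17 zb46) (kb xb10 yb17 zb47) (kb xb2 yb33 zb51) (kb xb5 yb54 zb50) (kb xb4 yb7 zb17) (kb xb2 yb33 zb52) (kb xb4 yb0 zb43) (kb xb10 yb17 zb56) (kb xb4 yb25 zb55) (kb xb4 yb58 zb47) (kb xb4 yb57 zb24) (kb xb4 yb20 zb6)) (@D3.rec (fun _ => Pt) (kb xb3 yb10 zb28) (kb xb3 yb19 zb4) (kb xb10 yb18 zb2) (kb xb6 yb44 zb61) (kb xb2 yb33 zb57) (kb xb4 yb57 zb21) (kb xb10 yb18 zb11) (kb xb10 yb18 zb12) (kb xb10 yb18 zb14) (kb xb10 yb18 zb10) (kb xb2 yb33 zb58) (kb xb8 yb12 zb35)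 (kb xb5 yb7 zb16) (kb xb5 yb7 zb17) (kb xb10 yb18 zb16) (kb xb4 yb5 zb51) (kb xb9 yb7 zb41) (kb xb2 yb34 zb0) (kb xb10 yb18 zb20) (kb xb10 yb18 zb22) (kb xb3 yb21 zb17) (kb xb6 yb46 zb22) (kb xb4 yb25 zb49) (kb xb4 yb58 zb33) (kb xb4 yb2 zb2) (kb xb2 yb34 zb3) (kb xb10 yb18 zb26) (kb xb2 yb34 zb4) (kb xb5 yb57 zb42) (kb xb6 yb53 zb56) (kb xb2 yb34 zb14) (kb xb4 yb58 zb48) (kb xb3 yb2 zb30) (kb xb2 yb34 zb7) (kb xb10 yb18 zb41) (kb xb8 yb12 zb57) (kb xb10 yb18 zb40) (kb xb5 yb8 zb11) (kb xb10 yb10 zb42) (kb xb2 yb34 zb9) (kb xb4 yb7 zb25) (kb xb10 yb18 zb52) (kb xb10 yb18 zb50) (kb xb10 yb18 zb54) (kb xb10 yb18 zb57) (kb xb5 yb8 zb19) (kb xb2 yb34 zb11) (kb xb10 yb18 zb61) (kb xb6 yb31 zb53) (kb xb2 yb34 zb13) (kb xb10 yb19 zb4) (kb xb6 yb7 zb25) (kb xb10 yb19 zb6) (kb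 xb10 yb19 zb8) (kb xb10 yb19 zb10) (kb xb2 yb34 zb17) (kb xb10 yb19 zb15) (kb xb10 yb19 zb17) (kb xb4 yb51 zb39) (kb xb8 yb54 zb52) (kb xb2 yb34 zb20) (kb xb10 yb19 zb25)) (@D3.rec (fun _ => Pt) (kb xb4 yb6 zb20) (kb xb10 yb19 zb30) (kb xb10 yb19 zb32) (kb xb5 yb1 zb22) (kb xb10 yb19 zb35) (kb xb8 yb52 zb1) (kb xb10 yb19 zb40) (kb xb2 yb34 zb25) (kb xb10 yb19 zb46) (kb xb10 yb19 zb47) (kb xb5 yb17 zb10) (kb xb5 yb17 zb38) (kb xb10 yb19 zb51) (kb xb2 yb34 zb34) (kb xb4 yb53 zb47) (kb xb5 yb9 zb26) (kb xb8 yb24 zb45) (kb xb4 yb6 zb49) (kb xb10 yb19 zb58) (kb xb7 yb58 zb24) (kb xb2 yb46 zb27) (kb xb10 yb20 zb1) (kb xb5 yb17 zb30) (kb xb10 yb20 zb5) (kb xb10 yb20 zb6) (kb xb2 yb34 zb33) (kb xb10 yb20 zb11) (kb xb6 yb52 zb38) (kb xb5 yb17 zb36) (kb xb10 yb19 zb55) (kb xb4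 yb1 zb59) (kb xb10 yb20 zb18) (kb xb2 yb34 zb41) (kb xb2 yb34 zb38) (kb xb10 yb20 zb24) (kb xb10 yb20 zb23) (kb xb8 yb3 zb56) (kb xb2 yb34 zb40) (kb xb10 yb20 zb33) (kb xb10 yb20 zb34) (kb xb5 yb17 zb45) (kb xb10 yb15 zb33) (kb xb10 yb20 zb22) (kb xb10 yb20 zb44) (kb xb2 yb34 zb45) (kb xb10 yb20 zb48) (kb xb2 yb34 zb44) (kb xb10 yb20 zb53) (kb xb10 yb20 zb54) (kb xb5 yb17 zb53) (kb xb2 yb34 zb58) (kb xb10 yb15 zb60) (kb xb10 yb21 zb3) (kb xb2 yb34 zb48) (kb xb2 yb34 zb47) (kb xb10 yb21 zb12) (kb xb10 yb21 zb13) (kb xb2 yb35 zb0) (kb xb5 yb17 zb61) (kb xb10 yb21 zb8) (kb xb2 yb34 zb49) (kb xb10 yb21 zb25)) (@D3.rec (fun _ => Pt) (kb xb10 yb21 zb26) (kb xb2 yb34 zb50) (kb xb10 yb21 zb34) (kb xb10 yb21 zb35) (kb xb10 yb21 zb40) (kb xb10 yb21 zb44) (kb xb10 yb19 zb45) (kb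 xb2 yb34 zb52) (kb xb2 yb34 zb53) (kb xb10 yb21 zb53) (kb xb10 yb21 zb54) (kb xb10 yb21 zb56) (kb xb10 yb21 zb50) (kb xb10 yb21 zb51) (kb xb10 yb21 zb52) (kb xb8 yb5 zb40) (kb xb10 yb22 zb6) (kb xb10 yb22 zb9) (kb xb6 yb40 zb10) (kb xb7 yb7 zb42) (kb xb10 yb22 zb15) (kb xb8 yb5 zb27) (kb xb2 yb34 zb59) (kb xb2 yb34 zb57) (kb xb10 yb22 zb22) (kb xb10 yb21 zb2) (kb xb10 yb22 zb24) (kb xb9 yb59 zb25) (kb xb9 yb59 zb26) (kb xb10 yb22 zb31) (kb xb8 yb41 zb44) (kb xb2 yb35 zb2) (kb xb10 yb21 zb20) (kb xb2 yb35 zb1) (kb xb5 yb18 zb38) (kb xb6 yb40 zb44) (kb xb2 yb35 zb3) (kb xb10 yb22 zb43) (kb xb10 yb22 zb39) (kb xb10 yb22 zb40) (kb xb10 yb9 zb10) (kb xb2 yb35 zb4) (kb xb10 yb22 zb57) (kb xb3 yb18 zb28) (kb xb10 yb22 zb56) (kb xb5 yb18 zb49) (kb xb10 yb23 zb4) (kb xb3 yb2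 zb16) (kb xb9 yb7 zb50) (kb xb2 yb35 zb8) (kb xb2 yb35 zb9) (kb xb10 yb23 zb15) (kb xb9 yb15 zb32) (kb xb2 yb35 zb10) (kb xb10 yb23 zb21) (kb xb10 yb23 zb22) (kb xb5 yb24 zb54) (kb xb10 yb23 zb26) (kb xb2 yb35 zb12) (kb xb10 yb23 zb32) (kb xb4 yb50 zb34) (kb xb10 yb23 zb37)) (@D3.rec (fun _ => Pt) (kb xb8 yb13 zb13) (kb xb10 yb23 zb40) (kb xb10 yb23 zb42) (kb xb4 yb1 zb20) (kb xb10 yb23 zb45) (kb xb5 yb19 zb4) (kb xb10 yb23 zb49) (kb xb2 yb35 zb18) (kb xb10 yb23 zb55) (kb xb10 yb23 zb56) (kb xb5 yb15 zb10) (kb xb10 yb24 zb0) (kb xb4 yb52 zb59) (kb xb8 yb13 zb14) (kb xb2 yb59 zb45) (kb xb10 yb24 zb4) (kb xb4 yb55 zb32) (kb xb2 yb35 zb25) (kb xb2 yb35 zb26) (kb xb10 yb24 zb10) (kb xb10 yb24 zb9) (kb xb9 yb39 zb20) (kb xb8 yb13 zb5) (kb xb2 yb35 zb28) (kb xb10 yb24 zb18)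 (kb xb2 yb35 zb29) (kb xb10 yb24 zb25) (kb xb10 yb24 zb26) (kb xb4 yb20 zb1) (kb xb10 yb24 zb31) (kb xb5 yb15 zb22) (kb xb10 yb24 zb37) (kb xb10 yb24 zb40) (kb xb2 yb35 zb32) (kb xb10 yb24 zb46) (kb xb10 yb24 zb47) (kb xb5 yb15 zb28) (kb xb8 yb4 zb41) (kb xb5 yb15 zb11) (kb xb10 yb24 zb55) (kb xb2 yb35 zb37) (kb xb2 yb35 zb38) (kb xb2 yb35 zb36) (kb xb10 yb25 zb1) (kb xb10 yb25 zb2) (kb xb5 yb15 zb40) (kb xb10 yb24 zb58) (kb xb10 yb24 zb59) (kb xb10 yb25 zb12) (kb xb10 yb25 zb13) (kb xb2 yb35 zb39) (kb xb10 yb25 zb18) (kb xb10 yb25 zb19) (kb xb5 yb15 zb49) (kb xb2 yb35 zb53) (kb xb8 yb5 zb50) (kb xb2 yb35 zb43) (kb xb2 yb35 zb42) (kb xb10 yb25 zb34) (kb xb10 yb25 zb35) (kb xb2 yb35 zb57) (kb xb5 yb15 zb58)) (@D3.rec (fun _ => Pt) (kb xb10 yb25 zb30) (kb xb2 yb35 zb44)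 (kb xb10 yb25 zb47) (kb xb10 yb25 zb48) (kb xb2 yb35 zb45) (kb xb7 yb15 zb57) (kb xb3 yb46 zb14) (kb xb10 yb25 zb54) (kb xb10 yb25 zb58) (kb xb10 yb23 zb54) (kb xb2 yb35 zb47) (kb xb2 yb35 zb48) (kb xb10 yb26 zb6) (kb xb10 yb26 zb8) (kb xb10 yb26 zb10) (kb xb10 yb26 zb3) (kb xb10 yb26 zb4) (kb xb10 yb26 zb5) (kb xb8 yb5 zb61) (kb xb10 yb26 zb22) (kb xb10 yb26 zb25) (kb xb10 yb13 zb0) (kb xb10 yb13 zb1) (kb xb10 yb26 zb32) (kb xb10 yb26 zb35) (kb xb2 yb35 zb54) (kb xb2 yb35 zb52) (kb xb10 yb26 zb38) (kb xb10 yb25 zb27) (kb xb10 yb26 zb40) (kb xb10 yb26 zb41) (kb xb10 yb13 zb19) (kb xb10 yb13 zb20) (kb xb10 yb26 zb49) (kb xb8 yb5 zb52) (kb xb2 yb35 zb59) (kb xb10 yb25 zb42) (kb xb2 yb35 zb58) (kb xb5 yb16 zb34) (kb xb10 yb26 zb53) (kb xb2 yb35 zb60) (kb xb10 yb26 zb61)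 (kb xb9 yb50 zb12) (kb xb10 yb26 zb58) (kb xb9 yb54 zb23) (kb xb2 yb35 zb61) (kb xb10 yb27 zb16) (kb xb10 yb27 zb14) (kb xb10 yb27 zb15) (kb xb5 yb16 zb45) (kb xb10 yb27 zb26) (kb xb10 yb27 zb29) (kb xb5 yb55 zb9) (kb xb2 yb36 zb3) (kb xb2 yb36 zb4) (kb xb10 yb27 zb41) (kb xb10 yb27 zb44) (kb xb10 yb27 zb38) (kb xb2 yb36 zb5) (kb xb10 yb27 zb48) (kb xb4 yb3 zb6) (kb xb10 yb27 zb51)) (@D3.rec (fun _ => Pt) (kb xb4 yb16 zb19) (kb xb10 yb27 zb56) (kb xb4 yb2 zb5) (kb xb4 yb15 zb9) (kb xb5 yb17 zb5) (kb xb4 yb2 zb38) (kb xb2 yb36 zb12) (kb xb2 yb36 zb29) (kb xb10 yb28 zb3) (kb xb4 yb1 zb13) (kb xb3 yb56 zb61) (kb xb4 yb2 zb27) (kb xb2 yb36 zb17) (kb xb10 yb28 zb11) (kb xb8 yb5 zb47) (kb xb2 yb36 zb19) (kb xb10 yb28 zb17) (kb xb10 yb28 zb18) (kb xb10 yb19 zb53) (kb xb10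 yb27 zb54) (kb xb8 yb52 zb8) (kb xb2 yb36 zb21) (kb xb10 yb28 zb30) (kb xb10 yb28 zb31) (kb xb10 yb20 zb46) (kb xb10 yb27 zb60) (kb xb6 yb4 zb54) (kb xb8 yb52 zb14) (kb xb2 yb36 zb24) (kb xb10 yb28 zb47) (kb xb10 yb28 zb48) (kb xb2 yb36 zb25) (kb xb10 yb28 zb55) (kb xb10 yb28 zb56) (kb xb10 yb28 zb60) (kb xb10 yb29 zb0) (kb xb5 yb20 zb8) (kb xb10 yb29 zb2) (kb xb10 yb29 zb4) (kb xb5 yb10 zb52) (kb xb5 yb19 zb41) (kb xb5 yb19 zb40) (kb xb5 yb20 zb14) (kb xb5 yb21 zb22) (kb xb4 yb8 zb49) (kb xb2 yb36 zb32) (kb xb10 yb29 zb23) (kb xb2 yb36 zb46) (kb xb2 yb36 zb34) (kb xb10 yb29 zb28) (kb xb10 yb29 zb29) (kb xb8 yb8 zb32) (kb xb5 yb21 zb29) (kb xb8 yb52 zb31) (kb xb10 yb29 zb39) (kb xb5 yb9 zb31) (kb xb2 yb36 zb39) (kb xb10 yb29 zb45) (kb xb10 yb29 zb46) (kb xb10 yb29 zb17)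 (kb xb10 yb25 zb29) (kb xb8 yb52 zb37)) (@D3.rec (fun _ => Pt) (kb xb2 yb36 zb41) (kb xb10 yb29 zb58) (kb xb10 yb29 zb59) (kb xb2 yb36 zb42) (kb xb10 yb30 zb3) (kb xb10 yb30 zb4) (kb xb10 yb30 zb9) (kb xb10 yb30 zb14) (kb xb5 yb19 zb36) (kb xb2 yb36 zb44) (kb xb2 yb36 zb45) (kb xb10 yb30 zb21) (kb xb10 yb30 zb19) (kb xb10 yb30 zb20) (kb xb5 yb19 zb42) (kb xb10 yb30 zb30) (kb xb8 yb15 zb40) (kb xb10 yb30 zb32) (kb xb4 yb20 zb47) (kb xb10 yb30 zb37) (kb xb10 yb30 zb40) (kb xb2 yb36 zb49) (kb xb10 yb30 zb46) (kb xb10 yb30 zb47) (kb xb6 yb4 zb33) (kb xb10 yb30 zb53) (kb xb2 yb36 zb55) (kb xb10 yb30 zb56) (kb xb10 yb30 zb57) (kb xb10 yb30 zb59) (kb xb2 yb36 zb54) (kb xb10 yb31 zb2) (kb xb7 yb46 zb40) (kb xb5 yb23 zb12) (kb xb10 yb30 zb55) (kb xb10 yb31 zb11) (kb xb5 yb23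 zb25) (kb xb2 yb36 zb58) (kb xb10 yb31 zb17) (kb xb10 yb31 zb18) (kb xb8 yb52 zb56) (kb xb5 yb23 zb38) (kb xb2 yb37 zb1) (kb xb10 yb31 zb29) (kb xb2 yb36 zb61) (kb xb10 yb31 zb34) (kb xb10 yb31 zb35) (kb xb8 yb8 zb14) (kb xb10 yb31 zb28) (kb xb2 yb37 zb4) (kb xb2 yb37 zb3) (kb xb10 yb31 zb47) (kb xb10 yb31 zb48) (kb xb8 yb52 zb61) (kb xb10 yb31 zb43) (kb xb2 yb37 zb5) (kb xb10 yb31 zb58) (kb xb10 yb31 zb59) (kb xb2 yb37 zb6) (kb xb5 yb0 zb36) (kb xb10 yb32 zb1) (kb xb7 yb28 zb8)) (@D3.rec (fun _ => Pt) (kb xb10 yb32 zb6) (kb xb7 yb37 zb22) (kb xb2 yb39 zb7) (kb xb2 yb37 zb8) (kb xb2 yb37 zb9) (kb xb10 yb32 zb17) (kb xb10 yb32 zb19) (kb xb10 yb21 zb19) (kb xb10 yb32 zb16) (kb xb8 yb39 zb44) (kb xb10 yb32 zb28) (kb xb10 yb32 zb32) (kb xb10 yb32 zb35) (kb xb2 yb37 zb11)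 (kb xb10 yb32 zb41) (kb xb8 yb31 zb54) (kb xb2 yb37 zb12) (kb xb10 yb32 zb50) (kb xb10 yb32 zb54) (kb xb10 yb32 zb56) (kb xb5 yb1 zb2) (kb xb9 yb53 zb61) (kb xb5 yb19 zb43) (kb xb2 yb37 zb17) (kb xb10 yb33 zb6) (kb xb4 yb2 zb42) (kb xb10 yb33 zb8) (kb xb2 yb37 zb24) (kb xb10 yb33 zb13) (kb xb5 yb19 zb52) (kb xb10 yb33 zb18) (kb xb10 yb33 zb20) (kb xb10 yb33 zb23) (kb xb2 yb37 zb23) (kb xb10 yb33 zb27) (kb xb7 yb46 zb7) (kb xb6 yb4 zb42) (kb xb2 yb39 zb28) (kb xb10 yb33 zb12) (kb xb2 yb37 zb25) (kb xb10 yb33 zb35) (kb xb7 yb46 zb27) (kb xb2 yb39 zb36) (kb xb8 yb38 zb52) (kb xb10 yb33 zb40) (kb xb2 yb37 zb29) (kb xb10 yb33 zb45) (kb xb10 yb33 zb47) (kb xb2 yb37 zb28) (kb xb10 yb33 zb51) (kb xb10 yb33 zb52) (kb xb6 yb4 zb61) (kb xb2 yb39 zb44) (kb xb10 yb33 zb44) (kb xb2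 yb37 zb30) (kb xb10 yb34 zb5) (kb xb10 yb34 zb6) (kb xb2 yb39 zb50) (kb xb6 yb5 zb7) (kb xb8 yb7 zb43) (kb xb2 yb37 zb32) (kb xb10 yb34 zb18)) (@D3.rec (fun _ => Pt) (kb xb10 yb34 zb19) (kb xb2 yb37 zb33) (kb xb10 yb34 zb27) (kb xb10 yb34 zb28) (kb xb10 yb34 zb34) (kb xb10 yb34 zb39) (kb xb10 yb30 zb45) (kb xb2 yb37 zb35) (kb xb2 yb37 zb36) (kb xb10 yb34 zb48) (kb xb10 yb34 zb50) (kb xb10 yb34 zb52) (kb xb10 yb34 zb45) (kb xb10 yb34 zb46) (kb xb10 yb34 zb47) (kb xb2 yb40 zb56) (kb xb2 yb41 zb15) (kb xb4 yb19 zb9) (kb xb10 yb35 zb1) (kb xb2 yb37 zb41) (kb xb10 yb35 zb6) (kb xb10 yb35 zb7) (kb xb5 yb28 zb9) (kb xb4 yb52 zb49) (kb xb2 yb38 zb5) (kb xb2 yb38 zb6) (kb xb8 yb9 zb19) (kb xb4 yb1 zb10) (kb xb10 yb35 zb19) (kb xb2 yb37 zb52) (kb xb4 yb27 zb44) (kb xb2 yb37 zb55)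 (kb xb10 yb35 zb22) (kb xb4 yb3 zb25) (kb xb10 yb35 zb27) (kb xb4 yb28 zb46) (kb xb2 yb37 zb51) (kb xb10 yb35 zb34) (kb xb4 yb3 zb30) (kb xb4 yb28 zb53) (kb xb4 yb3 zb12) (kb xb10 yb35 zb21) (kb xb8 yb23 zb56) (kb xb2 yb39 zb19) (kb xb10 yb35 zb45) (kb xb2 yb37 zb56) (kb xb8 yb57 zb18) (kb xb10 yb35 zb50) (kb xb10 yb35 zb55) (kb xb10 yb34 zb61) (kb xb8 yb53 zb26) (kb xb2 yb37 zb58) (kb xb10 yb35 zb61) (kb xb10 yb36 zb0) (kb xb2 yb37 zb60) (kb xb10 yb36 zb8) (kb xb10 yb36 zb9) (kb xb2 yb37 zb61) (kb xb4 yb55 zb5) (kb xb10 yb36 zb16) (kb xb10 yb36 zb17) (kb xb10 yb36 zb21)) (@D3.rec (fun _ => Pt) (kb xb10 yb36 zb25) (kb xb10 yb31 zb1) (kb xb2 yb38 zb1) (kb xb2 yb38 zb2) (kb xb10 yb36 zb38) (kb xb10 yb36 zb40) (kb xb10 yb36 zb33) (kb xb10 yb36 zb46) (kb xb10 yb36 zb48)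 (kb xb10 yb36 zb36) (kb xb10 yb36 zb37) (kb xb10 yb36 zb57) (kb xb5 yb20 zb33) (kb xb9 yb9 zb3) (kb xb2 yb40 zb53) (kb xb8 yb53 zb51) (kb xb2 yb39 zb51) (kb xb10 yb37 zb6) (kb xb10 yb35 zb15) (kb xb6 yb45 zb4) (kb xb10 yb37 zb10) (kb xb2 yb38 zb8) (kb xb2 yb58 zb40) (kb xb2 yb40 zb6) (kb xb10 yb37 zb20) (kb xb5 yb20 zb36) (kb xb2 yb40 zb12) (kb xb2 yb38 zb14) (kb xb10 yb37 zb26) (kb xb10 yb37 zb27) (kb xb8 yb7 zb52) (kb xb2 yb38 zb29) (kb xb2 yb38 zb30) (kb xb2 yb38 zb19) (kb xb10 yb37 zb38) (kb xb5 yb29 zb28) (kb xb4 yb3 zb49) (kb xb4 yb16 zb47) (kb xb5 yb20 zb41) (kb xb4 yb55 zb8) (kb xb10 yb37 zb48) (kb xb10 yb37 zb51) (kb xb10 yb31 zb16) (kb xb2 yb38 zb25) (kb xb2 yb38 zb26) (kb xb10 yb37 zb60) (kb xb10 yb38 zb7) (kb xb10 yb38 zb11) (kb xb10 yb38 zb1) (kb xb10 yb38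 zb2) (kb xb10 yb38 zb18) (kb xb2 yb41 zb38) (kb xb10 yb38 zb21) (kb xb2 yb41 zb41) (kb xb8 yb33 zb49) (kb xb10 yb38 zb27) (kb xb10 yb37 zb34) (kb xb10 yb38 zb30) (kb xb10 yb38 zb33) (kb xb2 yb38 zb31) (kb xb10 yb38 zb39) (kb xb8 yb39 zb30)) (@D3.rec (fun _ => Pt) (kb xb2 yb38 zb33) (kb xb10 yb38 zb46) (kb xb10 yb38 zb47) (kb xb8 yb6 zb11) (kb xb8 yb2 zb57) (kb xb2 yb38 zb46) (kb xb2 yb38 zb47) (kb xb2 yb38 zb36) (kb xb10 yb38 zb61) (kb xb2 yb38 zb37) (kb xb10 yb39 zb4) (kb xb10 yb39 zb7) (kb xb10 yb31 zb33) (kb xb2 yb38 zb39) (kb xb2 yb38 zb40) (kb xb10 yb39 zb19) (kb xb10 yb39 zb21) (kb xb10 yb39 zb14) (kb xb10 yb39 zb27) (kb xb5 yb34 zb29) (kb xb10 yb39 zb17) (kb xb10 yb39 zb18) (kb xb4 yb3 zb7) (kb xb10 yb39 zb33) (kb xb8 yb54 zb30) (kb xb10 yb39 zb35) (kb xb2 yb42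 zb14) (kb xb2 yb42 zb15) (kb xb10 yb39 zb38) (kb xb8 yb2 zb43) (kb xb2 yb38 zb49) (kb xb10 yb39 zb43) (kb xb3 yb52 zb8) (kb xb8 yb8 zb37) (kb xb8 yb57 zb46) (kb xb2 yb38 zb58) (kb xb10 yb39 zb50) (kb xb10 yb39 zb52) (kb xb10 yb31 zb46) (kb xb2 yb38 zb52) (kb xb3 yb52 zb9) (kb xb10 yb40 zb0) (kb xb10 yb40 zb4) (kb xb3 yb47 zb52) (kb xb10 yb40 zb6) (kb xb2 yb42 zb37) (kb xb7 yb47 zb20) (kb xb2 yb39 zb27) (kb xb8 yb54 zb48) (kb xb10 yb40 zb16) (kb xb8 yb6 zb39) (kb xb10 yb40 zb19) (kb xb10 yb40 zb23) (kb xb10 yb31 zb57) (kb xb5 yb16 zb56) (kb xb2 yb38 zb61) (kb xb2 yb39 zb0) (kb xb2 yb38 zb60) (kb xb10 yb40 zb39) (kb xb10 yb3 zb48) (kb xb10 yb40 zb42) (kb xb10 yb40 zb36)) (@D3.rec (fun _ => Pt) (kb xb7 yb53 zb37) (kb xb7 yb48 zb17) (kb xb10 yb40 zb48) (kb xb7 yb53 zb41)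 (kb xb7 yb57 zb43) (kb xb2 yb39 zb3) (kb xb2 yb39 zb4) (kb xb7 yb57 zb44) (kb xb10 yb40 zb61) (kb xb7 yb37 zb58) (kb xb10 yb41 zb1) (kb xb10 yb32 zb4) (kb xb10 yb41 zb11) (kb xb2 yb39 zb5) (kb xb10 yb41 zb20) (kb xb10 yb41 zb16) (kb xb10 yb41 zb17) (kb xb10 yb41 zb18) (kb xb2 yb39 zb6) (kb xb4 yb56 zb16) (kb xb10 yb41 zb34) (kb xb10 yb41 zb35) (kb xb10 yb32 zb13) (kb xb10 yb41 zb47) (kb xb10 yb41 zb50) (kb xb10 yb41 zb54) (kb xb2 yb39 zb13) (kb xb2 yb39 zb14) (kb xb2 yb39 zb15) (kb xb2 yb39 zb10) (kb xb10 yb42 zb5) (kb xb2 yb39 zb11) (kb xb10 yb42 zb11) (kb xb2 yb39 zb12) (kb xb10 yb42 zb17) (kb xb10 yb42 zb19) (kb xb10 yb42 zb23) (kb xb10 yb41 zb60) (kb xb10 yb41 zb61) (kb xb10 yb42 zb30) (kb xb10 yb42 zb34) (kb xb10 yb42 zb2) (kb xb2 yb39 zb16) (kb xb10 yb42 zb44)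 (kb xb10 yb42 zb42) (kb xb10 yb42 zb43) (kb xb2 yb39 zb17) (kb xb3 yb51 zb41) (kb xb10 yb42 zb50) (kb xb10 yb42 zb51) (kb xb10 yb42 zb54) (kb xb5 yb4 zb54) (kb xb10 yb42 zb58) (kb xb10 yb42 zb59) (kb xb10 yb42 zb61) (kb xb2 yb39 zb20) (kb xb10 yb43 zb2) (kb xb10 yb43 zb3) (kb xb5 yb5 zb1) (kb xb10 yb43 zb10) (kb xb2 yb39 zb29) (kb xb2 yb39 zb22)) (@D3.rec (fun _ => Pt) (kb xb10 yb43 zb16) (kb xb10 yb43 zb20) (kb xb6 yb5 zb39) (kb xb2 yb39 zb25) (kb xb2 yb39 zb26) (kb xb10 yb33 zb34) (kb xb10 yb43 zb29) (kb xb10 yb43 zb31) (kb xb10 yb43 zb34) (kb xb2 yb39 zb31) (kb xb10 yb43 zb38) (kb xb10 yb43 zb39) (kb xb8 yb6 zb45) (kb xb2 yb39 zb37) (kb xb10 yb43 zb44) (kb xb6 yb51 zb8) (kb xb6 yb5 zb55) (kb xb2 yb39 zb34) (kb xb2 yb39 zb35) (kb xb10 yb43 zb53) (kb xb4 yb50 zb7)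 (kb xb6 yb47 zb38) (kb xb10 yb43 zb55) (kb xb10 yb43 zb57) (kb xb2 yb39 zb38) (kb xb10 yb43 zb61) (kb xb10 yb44 zb0) (kb xb8 yb39 zb33) (kb xb10 yb44 zb9) (kb xb2 yb39 zb45) (kb xb9 yb50 zb39) (kb xb10 yb44 zb14) (kb xb6 yb6 zb6) (kb xb2 yb39 zb41) (kb xb2 yb39 zb42) (kb xb10 yb44 zb22) (kb xb9 yb46 zb51) (kb xb10 yb44 zb21) (kb xb2 yb39 zb43) (kb xb10 yb44 zb28) (kb xb10 yb44 zb27) (kb xb10 yb44 zb29) (kb xb10 yb34 zb1) (kb xb2 yb39 zb46) (kb xb10 yb44 zb35) (kb xb9 yb6 zb58) (kb xb8 yb6 zb58) (kb xb10 yb38 zb54) (kb xb2 yb39 zb52) (kb xb10 yb44 zb46) (kb xb10 yb44 zb47) (kb xb6 yb6 zb26) (kb xb2 yb39 zb49) (kb xb10 yb34 zb13) (kb xb6 yb46 zb0) (kb xb6 yb6 zb32) (kb xb4 yb6 zb54) (kb xb2 yb39 zb55) (kb xb4 yb38 zb61) (kb xb10 yb44 zb60) (kb xb4 yb49 zb9) (kb xb10 yb45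 zb2)) (@D3.rec (fun _ => Pt) (kb xb5 yb55 zb45) (kb xb2 yb43 zb61) (kb xb2 yb39 zb57) (kb xb6 yb6 zb40) (kb xb6 yb45 zb40) (kb xb2 yb39 zb58) (kb xb10 yb45 zb21) (kb xb10 yb45 zb16) (kb xb10 yb45 zb17) (kb xb10 yb45 zb18) (kb xb2 yb39 zb59) (kb xb10 yb45 zb31) (kb xb4 yb35 zb57) (kb xb4 yb35 zb59) (kb xb6 yb6 zb45) (kb xb10 yb45 zb37) (kb xb5 yb54 zb45) (kb xb6 yb8 zb6) (kb xb2 yb40 zb2) (kb xb2 yb40 zb3) (kb xb2 yb40 zb1) (kb xb5 yb56 zb52) (kb xb10 yb45 zb51) (kb xb10 yb45 zb45) (kb xb10 yb45 zb48) (kb xb4 yb19 zb23) (kb xb2 yb40 zb5) (kb xb10 yb45 zb58) (kb xb10 yb45 zb59) (kb xb8 yb6 zb31) (kb xb2 yb40 zb7) (kb xb10 yb46 zb8) (kb xb3 yb48 zb55) (kb xb8 yb53 zb18) (kb xb9 yb37 zb38) (kb xb8 yb6 zb7) (kb xb10 yb46 zb15) (kb xb2 yb40 zb11) (kb xb10 yb46 zb20) (kb xb10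 yb46 zb21) (kb xb8 yb55 zb45) (kb xb2 yb40 zb36) (kb xb10 yb15 zb61) (kb xb10 yb46 zb31) (kb xb2 yb40 zb15) (kb xb2 yb40 zb14) (kb xb10 yb46 zb39) (kb xb10 yb46 zb40) (kb xb8 yb15 zb60) (kb xb10 yb46 zb35) (kb xb2 yb40 zb16) (kb xb10 yb46 zb49) (kb xb10 yb46 zb50) (kb xb2 yb40 zb17) (kb xb10 yb46 zb57) (kb xb10 yb46 zb58) (kb xb10 yb47 zb0) (kb xb10 yb47 zb4) (kb xb10 yb46 zb7) (kb xb2 yb40 zb19) (kb xb2 yb40 zb20) (kb xb10 yb47 zb12)) (@D3.rec (fun _ => Pt) (kb xb10 yb47 zb19) (kb xb10 yb47 zb21) (kb xb10 yb47 zb14) (kb xb5 yb53 zb5) (kb xb2 yb40 zb21) (kb xb10 yb47 zb26) (kb xb4 yb3 zb31) (kb xb2 yb40 zb22) (kb xb10 yb47 zb32) (kb xb5 yb22 zb22) (kb xb10 yb47 zb31) (kb xb5 yb3 zb2) (kb xb10 yb47 zb36) (kb xb9 yb53 zb3) (kb xb4 yb13 zb15) (kb xb2 yb40 zb29) (kb xb2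 yb40 zb27) (kb xb4 yb13 zb14) (kb xb10 yb47 zb40) (kb xb10 yb47 zb42) (kb xb2 yb40 zb30) (kb xb10 yb47 zb47) (kb xb10 yb47 zb48) (kb xb10 yb47 zb54) (kb xb8 yb7 zb24) (kb xb2 yb40 zb37) (kb xb8 yb59 zb35) (kb xb10 yb47 zb61) (kb xb8 yb21 zb54) (kb xb2 yb40 zb33) (kb xb2 yb40 zb34) (kb xb10 yb48 zb4) (kb xb10 yb48 zb12) (kb xb10 yb48 zb14) (kb xb9 yb4 zb21) (kb xb10 yb48 zb7) (kb xb2 yb40 zb35) (kb xb10 yb48 zb18) (kb xb10 yb48 zb20) (kb xb10 yb48 zb22) (kb xb10 yb48 zb24) (kb xb8 yb56 zb8) (kb xb2 yb40 zb39) (kb xb2 yb40 zb40) (kb xb10 yb48 zb29) (kb xb10 yb48 zb34) (kb xb10 yb48 zb32) (kb xb10 yb48 zb38) (kb xb10 yb48 zb41) (kb xb5 yb36 zb20) (kb xb4 yb19 zb44) (kb xb2 yb40 zb42) (kb xb2 yb40 zb43) (kb xb10 yb48 zb51) (kb xb10 yb48 zb54) (kb xb10 yb48 zb55) (kb xb10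 yb48 zb60) (kb xb10 yb49 zb0) (kb xb5 yb36 zb39) (kb xb4 yb30 zb53) (kb xb2 yb40 zb45) (kb xb2 yb40 zb46)) (@D3.rec (fun _ => Pt) (kb xb6 yb3 zb4) (kb xb10 yb49 zb7) (kb xb2 yb40 zb47) (kb xb10 yb49 zb18) (kb xb10 yb49 zb14) (kb xb10 yb49 zb15) (kb xb2 yb40 zb48) (kb xb10 yb49 zb31) (kb xb10 yb49 zb29) (kb xb10 yb49 zb30) (kb xb8 yb56 zb17) (kb xb4 yb59 zb7) (kb xb10 yb49 zb40) (kb xb10 yb49 zb43) (kb xb2 yb48 zb29) (kb xb4 yb58 zb61) (kb xb10 yb49 zb50) (kb xb2 yb54 zb51) (kb xb2 yb40 zb55) (kb xb10 yb49 zb58) (kb xb8 yb29 zb6) (kb xb10 yb50 zb3) (kb xb8 yb30 zb46) (kb xb4 yb51 zb23) (kb xb8 yb11 zb3) (kb xb2 yb40 zb59) (kb xb10 yb50 zb10) (kb xb10 yb50 zb11) (kb xb5 yb23 zb35) (kb xb8 yb30 zb57) (kb xb2 yb41 zb2) (kb xb10 yb50 zb18) (kb xb10 yb50 zb17) (kb xb10 yb50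 zb21) (kb xb4 yb18 zb46) (kb xb2 yb41 zb4) (kb xb10 yb50 zb25) (kb xb10 yb50 zb24) (kb xb2 yb41 zb5) (kb xb10 yb50 zb33) (kb xb8 yb24 zb22) (kb xb8 yb43 zb9) (kb xb4 yb4 zb21) (kb xb4 yb56 zb50) (kb xb4 yb19 zb42) (kb xb2 yb41 zb11) (kb xb10 yb50 zb46) (kb xb10 yb50 zb47) (kb xb2 yb41 zb14) (kb xb10 yb50 zb53) (kb xb10 yb50 zb54) (kb xb8 yb18 zb27) (kb xb10 yb35 zb0) (kb xb2 yb41 zb16) (kb xb4 yb54 zb43) (kb xb10 yb51 zb1) (kb xb10 yb51 zb2) (kb xb2 yb41 zb17) (kb xb10 yb51 zb8) (kb xb10 yb51 zb9) (kb xb10 yb51 zb11) (kb xb10 yb51 zb15)) (@D3.rec (fun _ => Pt) (kb xb10 yb50 zb9) (kb xb2 yb41 zb19) (kb xb2 yb41 zb20) (kb xb10 yb51 zb28) (kb xb10 yb51 zb30) (kb xb10 yb51 zb23) (kb xb10 yb51 zb36) (kb xb10 yb51 zb40) (kb xb10 yb51 zb26) (kb xb10 yb51 zb27) (kb xb10 yb51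 zb47) (kb xb8 yb8 zb2) (kb xb2 yb41 zb22) (kb xb10 yb51 zb50) (kb xb8 yb8 zb4) (kb xb10 yb51 zb54) (kb xb10 yb51 zb59) (kb xb2 yb41 zb44) (kb xb10 yb52 zb0) (kb xb2 yb41 zb26) (kb xb10 yb52 zb5) (kb xb2 yb41 zb27) (kb xb10 yb52 zb13) (kb xb10 yb52 zb9) (kb xb10 yb52 zb10) (kb xb2 yb41 zb28) (kb xb10 yb52 zb24) (kb xb10 yb52 zb22) (kb xb10 yb52 zb23) (kb xb8 yb56 zb49) (kb xb8 yb56 zb50) (kb xb10 yb52 zb37) (kb xb10 yb52 zb40) (kb xb2 yb48 zb22) (kb xb2 yb41 zb32) (kb xb10 yb52 zb47) (kb xb10 yb52 zb51) (kb xb2 yb41 zb35) (kb xb2 yb41 zb36) (kb xb4 yb57 zb48) (kb xb2 yb41 zb33) (kb xb10 yb44 zb24) (kb xb6 yb46 zb44) (kb xb2 yb41 zb34) (kb xb10 yb53 zb2) (kb xb10 yb53 zb5) (kb xb10 yb52 zb57) (kb xb2 yb41 zb37) (kb xb10 yb53 zb7) (kb xb10 yb53 zb8) (kb xb10 yb53 zb13)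 (kb xb2 yb41 zb40) (kb xb10 yb53 zb17) (kb xb9 yb28 zb58) (kb xb2 yb41 zb42) (kb xb10 yb53 zb21) (kb xb3 yb6 zb43) (kb xb4 yb42 zb2) (kb xb2 yb41 zb43) (kb xb8 yb33 zb26) (kb xb2 yb41 zb46) (kb xb10 yb53 zb28)) (@D3.rec (fun _ => Pt) (kb xb10 yb53 zb29) (kb xb8 yb54 zb10) (kb xb10 yb31 zb27) (kb xb8 yb6 zb13) (kb xb2 yb41 zb49) (kb xb10 yb53 zb42) (kb xb10 yb53 zb44) (kb xb10 yb53 zb47) (kb xb10 yb53 zb27) (kb xb2 yb41 zb51) (kb xb2 yb41 zb52) (kb xb10 yb53 zb58) (kb xb10 yb53 zb60) (kb xb10 yb53 zb53) (kb xb10 yb54 zb4) (kb xb10 yb54 zb7) (kb xb10 yb53 zb56) (kb xb10 yb53 zb57) (kb xb2 yb41 zb54) (kb xb10 yb54 zb15) (kb xb10 yb54 zb13) (kb xb8 yb7 zb41) (kb xb2 yb41 zb55) (kb xb10 yb54 zb23) (kb xb10 yb54 zb21) (kb xb10 yb54 zb22) (kb xb10 yb54 zb28) (kb xb8 yb55 zb13)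 (kb xb10 yb54 zb32) (kb xb4 yb56 zb10) (kb xb3 yb58 zb34) (kb xb2 yb41 zb59) (kb xb10 yb54 zb43) (kb xb2 yb41 zb60) (kb xb10 yb54 zb50) (kb xb10 yb54 zb48) (kb xb2 yb41 zb61) (kb xb10 yb54 zb57) (kb xb8 yb57 zb24) (kb xb8 yb57 zb25) (kb xb10 yb55 zb3) (kb xb10 yb55 zb6) (kb xb2 yb47 zb25) (kb xb2 yb42 zb5) (kb xb9 yb50 zb47) (kb xb10 yb55 zb17) (kb xb2 yb42 zb8) (kb xb2 yb42 zb9) (kb xb2 yb42 zb3) (kb xb10 yb55 zb23) (kb xb2 yb42 zb4) (kb xb5 yb41 zb8) (kb xb10 yb55 zb28) (kb xb10 yb55 zb27) (kb xb10 yb55 zb15) (kb xb2 yb42 zb6) (kb xb2 yb42 zb7) (kb xb9 yb51 zb10) (kb xb10 yb55 zb33) (kb xb10 yb55 zb35) (kb xb5 yb40 zb42) (kb xb10 yb55 zb38)) (@D3.rec (fun _ => Pt) (kb xb2 yb42 zb12) (kb xb2 yb42 zb11) (kb xb10 yb55 zb41) (kb xb2 yb42 zb13) (kb xb10 yb55 zb45) (kb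 xb10 yb55 zb46) (kb xb2 yb42 zb16) (kb xb10 yb55 zb51) (kb xb2 yb42 zb17) (kb xb10 yb55 zb58) (kb xb10 yb55 zb59) (kb xb10 yb31 zb42) (kb xb8 yb3 zb1) (kb xb8 yb57 zb47) (kb xb2 yb42 zb19) (kb xb2 yb42 zb20) (kb xb10 yb56 zb11) (kb xb10 yb56 zb13) (kb xb10 yb56 zb14) (kb xb10 yb55 zb57) (kb xb2 yb42 zb22) (kb xb2 yb42 zb23) (kb xb10 yb56 zb26) (kb xb10 yb56 zb27) (kb xb10 yb56 zb21) (kb xb10 yb56 zb33) (kb xb10 yb56 zb37) (kb xb10 yb56 zb24) (kb xb10 yb56 zb25) (kb xb10 yb56 zb46) (kb xb8 yb8 zb50) (kb xb2 yb42 zb25) (kb xb10 yb56 zb49) (kb xb10 yb33 zb42) (kb xb2 yb42 zb27) (kb xb10 yb56 zb57) (kb xb2 yb42 zb28) (kb xb10 yb40 zb29) (kb xb10 yb56 zb59) (kb xb8 yb58 zb4) (kb xb8 yb58 zb5) (kb xb10 yb57 zb6) (kb xb10 yb57 zb9) (kb xb2 yb46 zb57) (kb xb2 yb42 zb32) (kb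 xb10 yb57 zb16) (kb xb10 yb57 zb20) (kb xb2 yb42 zb35) (kb xb2 yb42 zb33) (kb xb5 yb39 zb47) (kb xb2 yb42 zb34) (kb xb2 yb42 zb36) (kb xb10 yb57 zb29) (kb xb10 yb57 zb30) (kb xb2 yb42 zb39) (kb xb2 yb42 zb40) (kb xb10 yb57 zb37) (kb xb10 yb57 zb33) (kb xb10 yb57 zb34) (kb xb10 yb57 zb44) (kb xb5 yb49 zb56) (kb xb10 yb57 zb48)) (@D3.rec (fun _ => Pt) (kb xb8 yb58 zb21) (kb xb8 yb58 zb22) (kb xb10 yb39 zb53) (kb xb10 yb57 zb59) (kb xb7 yb58 zb44) (kb xb7 yb58 zb45) (kb xb10 yb58 zb7) (kb xb8 yb58 zb33) (kb xb2 yb46 zb33) (kb xb2 yb42 zb48) (kb xb10 yb58 zb19) (kb xb6 yb3 zb54) (kb xb2 yb42 zb49) (kb xb2 yb42 zb50) (kb xb2 yb42 zb46) (kb xb10 yb58 zb29) (kb xb2 yb42 zb47) (kb xb10 yb58 zb32) (kb xb10 yb58 zb11) (kb xb10 yb58 zb37) (kb xb10 yb58 zb18) (kb xb10 yb58 zb39)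 (kb xb10 yb58 zb40) (kb xb10 yb58 zb43) (kb xb10 yb58 zb27) (kb xb2 yb42 zb51) (kb xb10 yb58 zb49) (kb xb10 yb58 zb46) (kb xb2 yb42 zb52) (kb xb10 yb58 zb58) (kb xb10 yb58 zb56) (kb xb10 yb58 zb57) (kb xb8 yb9 zb0) (kb xb8 yb58 zb42) (kb xb8 yb58 zb43) (kb xb10 yb59 zb5) (kb xb10 yb59 zb6) (kb xb4 yb14 zb42) (kb xb10 yb59 zb12) (kb xb10 yb59 zb15) (kb xb2 yb46 zb12) (kb xb2 yb42 zb57) (kb xb10 yb59 zb22) (kb xb10 yb59 zb25) (kb xb2 yb42 zb58) (kb xb8 yb58 zb52) (kb xb2 yb42 zb60) (kb xb10 yb39 zb1) (kb xb10 yb59 zb30) (kb xb10 yb59 zb31) (kb xb8 yb59 zb8) (kb xb10 yb57 zb32) (kb xb10 yb59 zb42) (kb xb2 yb43 zb1) (kb xb2 yb43 zb2) (kb xb2 yb43 zb3) (kb xb10 yb59 zb54) (kb xb10 yb31 zb32) (kb xb2 yb43 zb0) (kb xb10 yb59 zb60) (kb xb10 yb59 zb61) (kb xb11 yb0 zb0)) (@D3.rec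 (fun _ => Pt) (kb xb8 yb59 zb1) (kb xb11 yb0 zb15) (kb xb10 yb59 zb47) (kb xb10 yb59 zb48) (kb xb8 yb59 zb5) (kb xb10 yb59 zb51) (kb xb10 yb59 zb52) (kb xb10 yb59 zb53) (kb xb4 yb49 zb32) (kb xb10 yb58 zb53) (kb xb11 yb0 zb29) (kb xb2 yb43 zb6) (kb xb2 yb43 zb7) (kb xb2 yb43 zb5) (kb xb11 yb0 zb38) (kb xb11 yb0 zb39) (kb xb11 yb0 zb45) (kb xb11 yb0 zb33) (kb xb8 yb59 zb18) (kb xb11 yb0 zb36) (kb xb11 yb0 zb37) (kb xb11 yb0 zb52) (kb xb8 yb59 zb20) (kb xb2 yb43 zb9) (kb xb11 yb0 zb61) (kb xb2 yb43 zb10) (kb xb11 yb1 zb2) (kb xb11 yb1 zb4) (kb xb9 yb4 zb30) (kb xb5 yb24 zb19) (kb xb9 yb4 zb10) (kb xb11 yb1 zb17) (kb xb6 yb1 zb57) (kb xb2 yb43 zb19) (kb xb11 yb1 zb23) (kb xb11 yb1 zb27) (kb xb2 yb43 zb22) (kb xb8 yb59 zb33) (kb xb2 yb45 zb61) (kb xb8 yb59 zb24) (kb xb2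 yb45 zb0) (kb xb2 yb43 zb16) (kb xb11 yb0 zb25) (kb xb8 yb58 zb39) (kb xb11 yb1 zb44) (kb xb2 yb43 zb17) (kb xb4 yb38 zb34) (kb xb11 yb1 zb50) (kb xb2 yb43 zb18) (kb xb5 yb59 zb40) (kb xb11 yb1 zb59) (kb xb2 yb43 zb20) (kb xb11 yb2 zb2) (kb xb11 yb2 zb3) (kb xb2 yb43 zb21) (kb xb11 yb2 zb7) (kb xb11 yb2 zb8) (kb xb11 yb2 zb11) (kb xb7 yb20 zb2) (kb xb11 yb2 zb12) (kb xb11 yb2 zb14) (kb xb2 yb43 zb25)) (@D3.rec (fun _ => Pt) (kb xb2 yb43 zb26) (kb xb2 yb43 zb24) (kb xb11 yb2 zb19) (kb xb11 yb2 zb21) (kb xb11 yb2 zb22) (kb xb11 yb2 zb23) (kb xb2 yb43 zb29) (kb xb2 yb43 zb30) (kb xb2 yb43 zb28) (kb xb11 yb2 zb28) (kb xb11 yb2 zb30) (kb xb2 yb43 zb34) (kb xb11 yb2 zb33) (kb xb8 yb20 zb22) (kb xb2 yb43 zb33) (kb xb8 yb39 zb6) (kb xb11 yb2 zb38) (kb xb4 yb14 zb53) (kb xb2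 yb43 zb35) (kb xb11 yb2 zb48) (kb xb3 yb55 zb19) (kb xb9 yb41 zb3) (kb xb8 yb17 zb15) (kb xb4 yb14 zb32) (kb xb2 yb43 zb41) (kb xb2 yb43 zb40) (kb xb11 yb3 zb0) (kb xb11 yb3 zb1) (kb xb8 yb9 zb37) (kb xb2 yb44 zb5) (kb xb11 yb2 zb58) (kb xb11 yb3 zb11) (kb xb2 yb43 zb44) (kb xb2 yb43 zb43) (kb xb11 yb3 zb18) (kb xb11 yb3 zb19) (kb xb8 yb9 zb43) (kb xb11 yb3 zb14) (kb xb2 yb43 zb45) (kb xb11 yb3 zb29) (kb xb11 yb3 zb30) (kb xb2 yb43 zb46) (kb xb11 yb3 zb37) (kb xb11 yb3 zb38) (kb xb10 yb37 zb52) (kb xb11 yb3 zb44) (kb xb11 yb2 zb47) (kb xb2 yb43 zb48) (kb xb2 yb43 zb49) (kb xb11 yb3 zb53) (kb xb11 yb3 zb55) (kb xb11 yb3 zb57) (kb xb11 yb3 zb49) (kb xb11 yb4 zb1) (kb xb11 yb4 zb3) (kb xb11 yb3 zb52) (kb xb9 yb9 zb15) (kb xb2 yb43 zb50) (kb xb11 yb4 zb13) (kb xb11 yb4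 zb11) (kb xb2 yb43 zb51) (kb xb11 yb4 zb16)) (@D3.rec (fun _ => Pt) (kb xb11 yb4 zb15) (kb xb11 yb4 zb21) (kb xb11 yb4 zb24) (kb xb5 yb53 zb12) (kb xb2 yb44 zb24) (kb xb2 yb43 zb56) (kb xb11 yb4 zb31) (kb xb11 yb4 zb30) (kb xb2 yb43 zb59) (kb xb2 yb43 zb60) (kb xb11 yb4 zb35) (kb xb10 yb45 zb8) (kb xb2 yb44 zb0) (kb xb5 yb6 zb23) (kb xb11 yb4 zb40) (kb xb11 yb4 zb46) (kb xb11 yb4 zb50) (kb xb2 yb44 zb6) (kb xb11 yb4 zb53) (kb xb11 yb4 zb54) (kb xb5 yb28 zb49) (kb xb2 yb44 zb3) (kb xb11 yb4 zb57) (kb xb11 yb4 zb59) (kb xb7 yb59 zb52) (kb xb9 yb46 zb46) (kb xb2 yb44 zb4) (kb xb8 yb28 zb38) (kb xb11 yb5 zb0) (kb xb8 yb11 zb22) (kb xb11 yb5 zb5) (kb xb2 yb44 zb8) (kb xb11 yb5 zb10) (kb xb11 yb5 zb11) (kb xb9 yb33 zb17) (kb xb11 yb5 zb18) (kb xb2 yb44 zb13) (kb xb11 yb5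 zb20) (kb xb11 yb5 zb22) (kb xb5 yb28 zb58) (kb xb2 yb44 zb11) (kb xb11 yb5 zb30) (kb xb11 yb5 zb28) (kb xb11 yb5 zb29) (kb xb2 yb44 zb12) (kb xb2 yb44 zb14) (kb xb11 yb5 zb40) (kb xb11 yb5 zb36) (kb xb11 yb5 zb37) (kb xb2 yb44 zb15) (kb xb11 yb5 zb50) (kb xb11 yb5 zb48) (kb xb11 yb5 zb49) (kb xb2 yb52 zb36) (kb xb2 yb44 zb19) (kb xb8 yb17 zb16) (kb xb9 yb0 zb4) (kb xb9 yb6 zb50) (kb xb2 yb44 zb21) (kb xb11 yb4 zb19) (kb xb11 yb6 zb5) (kb xb2 yb44 zb22)) (@D3.rec (fun _ => Pt) (kb xb11 yb6 zb7) (kb xb2 yb44 zb23) (kb xb4 yb19 zb4) (kb xb8 yb13 zb1) (kb xb4 yb50 zb1) (kb xb11 yb6 zb9) (kb xb11 yb6 zb10) (kb xb6 yb14 zb32) (kb xb2 yb44 zb29) (kb xb9 yb53 zb10) (kb xb11 yb6 zb12) (kb xb8 yb46 zb9) (kb xb2 yb49 zb3) (kb xb5 yb42 zb7) (kb xb10 yb48 zb28) (kb xb2 yb44 zb34)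 (kb xb11 yb6 zb25) (kb xb11 yb6 zb24) (kb xb6 yb15 zb36) (kb xb6 yb8 zb51) (kb xb2 yb44 zb36) (kb xb10 yb48 zb3) (kb xb2 yb44 zb39) (kb xb11 yb6 zb33) (kb xb6 yb11 zb60) (kb xb11 yb6 zb32) (kb xb2 yb44 zb40) (kb xb9 yb1 zb18) (kb xb2 yb44 zb45) (kb xb6 yb15 zb28) (kb xb5 yb40 zb41) (kb xb10 yb55 zb22) (kb xb2 yb44 zb44) (kb xb11 yb6 zb42) (kb xb8 yb49 zb47) (kb xb11 yb6 zb41) (kb xb6 yb15 zb26) (kb xb6 yb17 zb13) (kb xb2 yb44 zb46) (kb xb8 yb5 zb2) (kb xb4 yb57 zb10) (kb xb2 yb48 zb61) (kb xb11 yb6 zb49) (kb xb4 yb23 zb8) (kb xb4 yb57 zb20) (kb xb11 yb6 zb55) (kb xb2 yb44 zb50) (kb xb11 yb6 zb61) (kb xb3 yb21 zb32) (kb xb11 yb6 zb60) (kb xb2 yb49 zb26) (kb xb9 yb1 zb20) (kb xb2 yb44 zb53) (kb xb2 yb44 zb54) (kb xb3 yb0 zb44) (kb xb4 yb31 zb0) (kb xb6 yb15 zb54) (kb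 xb2 yb59 zb57) (kb xb11 yb7 zb11) (kb xb11 yb7 zb6) (kb xb6 yb15 zb22) (kb xb9 yb1 zb19)) (@D3.rec (fun _ => Pt) (kb xb2 yb44 zb57) (kb xb2 yb46 zb55) (kb xb11 yb7 zb20) (kb xb11 yb7 zb18) (kb xb11 yb7 zb24) (kb xb6 yb9 zb10) (kb xb11 yb7 zb28) (kb xb11 yb7 zb29) (kb xb2 yb44 zb60) (kb xb11 yb7 zb34) (kb xb11 yb7 zb32) (kb xb2 yb44 zb61) (kb xb11 yb7 zb41) (kb xb11 yb7 zb40) (kb xb11 yb7 zb44) (kb xb7 yb57 zb0) (kb xb11 yb1 zb41) (kb xb11 yb1 zb42) (kb xb11 yb7 zb54) (kb xb11 yb7 zb58) (kb xb2 yb45 zb8) (kb xb2 yb45 zb2) (kb xb6 yb16 zb17) (kb xb11 yb8 zb2) (kb xb2 yb45 zb3) (kb xb6 yb16 zb27) (kb xb11 yb8 zb8) (kb xb11 yb8 zb12) (kb xb2 yb45 zb13) (kb xb2 yb45 zb6) (kb xb11 yb8 zb16) (kb xb11 yb8 zb17) (kb xb7 yb59 zb39) (kb xb7 yb59 zb40) (kb xb11 yb8 zb5) (kb xb6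 yb17 zb1) (kb xb9 yb0 zb27) (kb xb4 yb58 zb12) (kb xb2 yb45 zb11) (kb xb2 yb45 zb12) (kb xb11 yb8 zb15) (kb xb2 yb45 zb14) (kb xb11 yb8 zb24) (kb xb9 yb51 zb22) (kb xb9 yb0 zb28) (kb xb2 yb45 zb17) (kb xb6 yb45 zb12) (kb xb2 yb45 zb20) (kb xb4 yb49 zb60) (kb xb11 yb8 zb36) (kb xb11 yb8 zb33) (kb xb2 yb45 zb22) (kb xb8 yb38 zb1) (kb xb2 yb45 zb25) (kb xb2 yb45 zb24) (kb xb11 yb8 zb42) (kb xb10 yb20 zb26) (kb xb2 yb45 zb28) (kb xb2 yb45 zb27) (kb xb11 yb8 zb51) (kb xb9 yb0 zb39) (kb xb11 yb8 zb49)) (@D3.rec (fun _ => Pt) (kb xb2 yb45 zb29) (kb xb11 yb8 zb61) (kb xb2 yb45 zb30) (kb xb11 yb9 zb5) (kb xb11 yb9 zb8) (kb xb11 yb9 zb11) (kb xb8 yb10 zb7) (kb xb2 yb45 zb32) (kb xb11 yb9 zb17) (kb xb11 yb9 zb20) (kb xb10 yb52 zb48) (kb xb11 yb9 zb16) (kb xb2 yb45 zb33) (kb xb11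 yb9 zb28) (kb xb11 yb9 zb27) (kb xb2 yb45 zb34) (kb xb11 yb9 zb31) (kb xb10 yb50 zb27) (kb xb11 yb9 zb35) (kb xb11 yb9 zb40) (kb xb2 yb45 zb54) (kb xb2 yb45 zb39) (kb xb11 yb9 zb46) (kb xb2 yb45 zb40) (kb xb11 yb9 zb52) (kb xb11 yb9 zb48) (kb xb11 yb9 zb49) (kb xb2 yb45 zb41) (kb xb9 yb37 zb32) (kb xb11 yb10 zb1) (kb xb11 yb10 zb2) (kb xb9 yb1 zb5) (kb xb11 yb10 zb14) (kb xb11 yb10 zb18) (kb xb2 yb45 zb44) (kb xb2 yb45 zb45) (kb xb11 yb10 zb23) (kb xb11 yb10 zb25) (kb xb11 yb10 zb22) (kb xb9 yb41 zb52) (kb xb9 yb1 zb14) (kb xb11 yb10 zb31) (kb xb2 yb45 zb48) (kb xb2 yb45 zb47) (kb xb11 yb10 zb37) (kb xb11 yb10 zb38) (kb xb9 yb32 zb35) (kb xb5 yb32 zb49) (kb xb2 yb45 zb51) (kb xb3 yb8 zb33) (kb xb11 yb10 zb44) (kb xb2 yb45 zb52) (kb xb3 yb12 zb53) (kb xb2 yb45 zb53)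 (kb xb3 yb18 zb60) (kb xb3 yb19 zb14) (kb xb8 yb24 zb52) (kb xb6 yb15 zb25) (kb xb2 yb45 zb57) (kb xb11 yb10 zb51) (kb xb11 yb10 zb50) (kb xb10 yb58 zb14)) (@D3.rec (fun _ => Pt) (kb xb8 yb48 zb54) (kb xb2 yb45 zb59) (kb xb11 yb10 zb58) (kb xb11 yb10 zb57) (kb xb2 yb45 zb60) (kb xb11 yb10 zb61) (kb xb11 yb10 zb60) (kb xb11 yb11 zb1) (kb xb11 yb11 zb3) (kb xb11 yb1 zb37) (kb xb5 yb49 zb43) (kb xb11 yb11 zb10) (kb xb11 yb11 zb13) (kb xb2 yb46 zb4) (kb xb2 yb46 zb1) (kb xb11 yb11 zb15) (kb xb3 yb43 zb27) (kb xb8 yb44 zb19) (kb xb5 yb41 zb61) (kb xb4 yb32 zb22) (kb xb4 yb32 zb23) (kb xb11 yb11 zb20) (kb xb2 yb46 zb20) (kb xb2 yb46 zb10) (kb xb11 yb11 zb28) (kb xb11 yb11 zb26) (kb xb2 yb46 zb11) (kb xb11 yb11 zb35) (kb xb11 yb11 zb34) (kb xb11 yb11 zb40) (kb xb11 yb11 zb43)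 (kb xb10 yb59 zb20) (kb xb10 yb59 zb21) (kb xb11 yb11 zb49) (kb xb11 yb11 zb51) (kb xb2 yb46 zb21) (kb xb10 yb48 zb50) (kb xb2 yb46 zb15) (kb xb3 yb21 zb37) (kb xb11 yb11 zb31) (kb xb11 yb11 zb59) (kb xb5 yb37 zb30) (kb xb5 yb31 zb60) (kb xb2 yb46 zb17) (kb xb11 yb12 zb4) (kb xb11 yb12 zb3) (kb xb9 yb29 zb18) (kb xb2 yb46 zb19) (kb xb11 yb12 zb9) (kb xb11 yb12 zb8) (kb xb11 yb12 zb12) (kb xb11 yb12 zb15) (kb xb11 yb12 zb19) (kb xb11 yb11 zb24) (kb xb2 yb46 zb24) (kb xb11 yb12 zb22) (kb xb11 yb12 zb21) (kb xb11 yb12 zb26) (kb xb2 yb46 zb25) (kb xb9 yb1 zb42) (kb xb9 yb1 zb57) (kb xb9 yb1 zb59)) (@D3.rec (fun _ => Pt) (kb xb2 yb46 zb32) (kb xb11 yb12 zb35) (kb xb10 yb58 zb15) (kb xb11 yb12 zb40) (kb xb11 yb12 zb41) (kb xb2 yb46 zb38) (kb xb2 yb46 zb39) (kb xb2 yb46 zb36)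 (kb xb5 yb31 zb51) (kb xb2 yb46 zb37) (kb xb11 yb12 zb48) (kb xb11 yb12 zb47) (kb xb11 yb12 zb50) (kb xb6 yb32 zb3) (kb xb11 yb12 zb42) (kb xb6 yb25 zb31) (kb xb3 yb10 zb9) (kb xb2 yb47 zb27) (kb xb2 yb46 zb44) (kb xb2 yb46 zb45) (kb xb8 yb1 zb45) (kb xb9 yb3 zb2) (kb xb2 yb54 zb31) (kb xb4 yb25 zb31) (kb xb11 yb12 zb52) (kb xb11 yb12 zb53) (kb xb7 yb7 zb8) (kb xb2 yb46 zb48) (kb xb8 yb43 zb27) (kb xb11 yb13 zb9) (kb xb11 yb13 zb6) (kb xb2 yb46 zb49) (kb xb11 yb13 zb12) (kb xb11 yb13 zb15) (kb xb9 yb2 zb2) (kb xb4 yb57 zb7) (kb xb5 yb42 zb31) (kb xb4 yb26 zb3) (kb xb2 yb46 zb52) (kb xb11 yb13 zb26) (kb xb11 yb13 zb29) (kb xb6 yb14 zb28) (kb xb11 yb13 zb35) (kb xb4 yb23 zb9) (kb xb4 yb23 zb16) (kb xb4 yb23 zb10) (kb xb4 yb23 zb11) (kb xb11 yb13 zb44) (kb xb11 yb7 zb19)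 (kb xb2 yb46 zb56) (kb xb11 yb13 zb51) (kb xb11 yb13 zb50) (kb xb11 yb13 zb57) (kb xb11 yb13 zb60) (kb xb10 yb57 zb13) (kb xb10 yb57 zb14) (kb xb4 yb26 zb20) (kb xb11 yb14 zb10) (kb xb2 yb47 zb6) (kb xb2 yb47 zb7) (kb xb2 yb47 zb20) (kb xb5 yb40 zb18)) (@D3.rec (fun _ => Pt) (kb xb11 yb14 zb20) (kb xb2 yb47 zb10) (kb xb10 yb58 zb31) (kb xb2 yb47 zb1) (kb xb11 yb14 zb26) (kb xb11 yb13 zb47) (kb xb11 yb14 zb25) (kb xb5 yb37 zb13) (kb xb10 yb58 zb28) (kb xb2 yb47 zb3) (kb xb11 yb14 zb36) (kb xb11 yb14 zb35) (kb xb2 yb47 zb4) (kb xb11 yb14 zb38) (kb xb2 yb47 zb5) (kb xb11 yb14 zb44) (kb xb11 yb14 zb45) (kb xb9 yb2 zb9) (kb xb11 yb14 zb49) (kb xb11 yb14 zb53) (kb xb11 yb14 zb16) (kb xb2 yb47 zb8) (kb xb11 yb14 zb55) (kb xb2 yb47 zb9) (kb xb11 yb14 zb61) (kb xb11 yb15 zb0)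 (kb xb11 yb14 zb22) (kb xb8 yb43 zb52) (kb xb11 yb15 zb9) (kb xb9 yb1 zb39) (kb xb2 yb47 zb15) (kb xb5 yb41 zb36) (kb xb11 yb15 zb15) (kb xb11 yb15 zb12) (kb xb7 yb7 zb40) (kb xb11 yb15 zb20) (kb xb9 yb2 zb33) (kb xb6 yb16 zb24) (kb xb2 yb47 zb19) (kb xb4 yb57 zb4) (kb xb11 yb15 zb28) (kb xb11 yb14 zb17) (kb xb11 yb15 zb34) (kb xb6 yb15 zb43) (kb xb11 yb15 zb41) (kb xb4 yb56 zb60) (kb xb3 yb32 zb15) (kb xb9 yb2 zb50) (kb xb11 yb15 zb50) (kb xb5 yb46 zb60) (kb xb2 yb47 zb24) (kb xb11 yb15 zb55) (kb xb9 yb17 zb6) (kb xb11 yb15 zb59) (kb xb11 yb16 zb0) (kb xb10 yb55 zb11) (kb xb10 yb55 zb12) (kb xb11 yb15 zb3) (kb xb11 yb16 zb11) (kb xb2 yb47 zb31) (kb xb2 yb47 zb32) (kb xb5 yb54 zb22)) (@D3.rec (fun _ => Pt) (kb xb5 yb49 zb48) (kb xb11 yb16 zb21) (kb xb2 yb47 zb29) (kb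 xb2 yb47 zb30) (kb xb11 yb16 zb26) (kb xb11 yb16 zb28) (kb xb11 yb16 zb17) (kb xb2 yb47 zb33) (kb xb7 yb27 zb9) (kb xb9 yb3 zb22) (kb xb11 yb16 zb32) (kb xb9 yb2 zb59) (kb xb2 yb54 zb48) (kb xb2 yb47 zb38) (kb xb11 yb16 zb41) (kb xb11 yb16 zb39) (kb xb6 yb4 zb19) (kb xb2 yb47 zb47) (kb xb4 yb31 zb54) (kb xb4 yb57 zb15) (kb xb4 yb32 zb11) (kb xb2 yb47 zb43) (kb xb4 yb32 zb13) (kb xb11 yb16 zb50) (kb xb8 yb50 zb6) (kb xb5 yb43 zb39) (kb xb11 yb16 zb55) (kb xb6 yb25 zb19) (kb xb11 yb16 zb61) (kb xb11 yb17 zb2) (kb xb2 yb47 zb46) (kb xb4 yb53 zb31) (kb xb11 yb17 zb5) (kb xb8 yb36 zb21) (kb xb9 yb3 zb14) (kb xb7 yb50 zb5) (kb xb5 yb43 zb46) (kb xb5 yb43 zb47) (kb xb9 yb2 zb60) (kb xb5 yb43 zb25) (kb xb2 yb47 zb60) (kb xb11 yb17 zb20) (kb xb2 yb47 zb57) (kb xb2 yb53 zb48)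 (kb xb2 yb47 zb59) (kb xb8 yb32 zb42) (kb xb5 yb43 zb36) (kb xb5 yb43 zb37) (kb xb2 yb47 zb56) (kb xb11 yb17 zb37) (kb xb11 yb17 zb38) (kb xb9 yb3 zb21) (kb xb11 yb17 zb25) (kb xb11 yb17 zb26) (kb xb9 yb3 zb24) (kb xb4 yb41 zb26) (kb xb3 yb10 zb4) (kb xb11 yb17 zb19) (kb xb2 yb47 zb61) (kb xb11 yb17 zb56) (kb xb11 yb17 zb53) (kb xb2 yb48 zb0)) (@D3.rec (fun _ => Pt) (kb xb8 yb25 zb28) (kb xb3 yb13 zb46) (kb xb11 yb18 zb1) (kb xb11 yb18 zb4) (kb xb2 yb48 zb1) (kb xb11 yb18 zb10) (kb xb11 yb18 zb11) (kb xb11 yb18 zb19) (kb xb11 yb18 zb23) (kb xb9 yb3 zb37) (kb xb11 yb12 zb51) (kb xb8 yb32 zb52) (kb xb2 yb48 zb5) (kb xb11 yb18 zb30) (kb xb11 yb18 zb32) (kb xb2 yb48 zb4) (kb xb4 yb18 zb48) (kb xb11 yb18 zb34) (kb xb9 yb3 zb45) (kb xb2 yb48 zb25) (kb xb11 yb18 zb29) (kb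 xb7 yb26 zb52) (kb xb6 yb8 zb52) (kb xb2 yb48 zb7) (kb xb11 yb18 zb53) (kb xb9 yb9 zb39) (kb xb9 yb3 zb51) (kb xb7 yb26 zb43) (kb xb9 yb9 zb47) (kb xb2 yb48 zb9) (kb xb11 yb7 zb1) (kb xb11 yb19 zb3) (kb xb11 yb19 zb4) (kb xb2 yb48 zb10) (kb xb7 yb59 zb30) (kb xb8 yb36 zb36) (kb xb11 yb19 zb12) (kb xb11 yb19 zb17) (kb xb8 yb36 zb5) (kb xb11 yb18 zb9) (kb xb2 yb48 zb12) (kb xb2 yb48 zb13) (kb xb11 yb19 zb31) (kb xb6 yb23 zb48) (kb xb11 yb19 zb34) (kb xb11 yb19 zb26) (kb xb8 yb59 zb27) (kb xb11 yb19 zb39) (kb xb11 yb19 zb43) (kb xb11 yb19 zb29) (kb xb11 yb19 zb30) (kb xb8 yb59 zb28) (kb xb2 yb48 zb15) (kb xb11 yb19 zb61) (kb xb11 yb19 zb58) (kb xb11 yb19 zb59) (kb xb2 yb48 zb16) (kb xb11 yb20 zb13) (kb xb11 yb20 zb11) (kb xb11 yb20 zb12) (kb xb2 yb48 zb50) (kb xb11 yb20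 zb20)) (@D3.rec (fun _ => Pt) (kb xb11 yb20 zb24) (kb xb2 yb48 zb53) (kb xb2 yb48 zb19) (kb xb11 yb20 zb31) (kb xb9 yb7 zb5) (kb xb11 yb20 zb35) (kb xb11 yb20 zb40) (kb xb11 yb20 zb42) (kb xb9 yb4 zb26) (kb xb5 yb56 zb18) (kb xb11 yb20 zb49) (kb xb10 yb52 zb44) (kb xb10 yb52 zb45) (kb xb11 yb20 zb59) (kb xb11 yb21 zb1) (kb xb2 yb48 zb26) (kb xb2 yb48 zb27) (kb xb2 yb48 zb24) (kb xb11 yb21 zb7) (kb xb11 yb21 zb8) (kb xb11 yb18 zb45) (kb xb11 yb18 zb46) (kb xb11 yb21 zb11) (kb xb9 yb4 zb40) (kb xb9 yb16 zb42) (kb xb11 yb21 zb18) (kb xb10 yb49 zb48) (kb xb6 yb17 zb4) (kb xb11 yb21 zb26) (kb xb6 yb49 zb30) (kb xb2 yb48 zb32) (kb xb2 yb48 zb33) (kb xb2 yb48 zb31) (kb xb11 yb21 zb33) (kb xb11 yb21 zb34) (kb xb9 yb0 zb18) (kb xb2 yb48 zb35) (kb xb11 yb21 zb40) (kb xb9 yb4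 zb51) (kb xb11 yb1 zb55) (kb xb11 yb21 zb47) (kb xb2 yb48 zb40) (kb xb2 yb48 zb41) (kb xb2 yb48 zb38) (kb xb6 yb49 zb22) (kb xb11 yb21 zb55) (kb xb2 yb48 zb39) (kb xb11 yb21 zb61) (kb xb11 yb22 zb0) (kb xb11 yb20 zb8) (kb xb9 yb4 zb61) (kb xb11 yb22 zb5) (kb xb2 yb48 zb44) (kb xb2 yb48 zb45) (kb xb11 yb22 zb12) (kb xb2 yb48 zb43) (kb xb11 yb22 zb15) (kb xb11 yb22 zb16) (kb xb11 yb22 zb19) (kb xb9 yb15 zb40) (kb xb11 yb20 zb5) (kb xb10 yb6 zb53)) (@D3.rec (fun _ => Pt) (kb xb11 yb22 zb11) (kb xb11 yb19 zb55) (kb xb9 yb5 zb8) (kb xb11 yb22 zb26) (kb xb2 yb48 zb48) (kb xb2 yb48 zb49) (kb xb2 yb48 zb47) (kb xb11 yb20 zb17) (kb xb11 yb22 zb33) (kb xb11 yb22 zb34) (kb xb2 yb48 zb51) (kb xb11 yb22 zb41) (kb xb11 yb22 zb39) (kb xb11 yb22 zb40) (kb xb2 yb48 zb52) (kb xb11 yb22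 zb49) (kb xb9 yb1 zb4) (kb xb11 yb22 zb48) (kb xb11 yb22 zb51) (kb xb11 yb22 zb53) (kb xb11 yb22 zb58) (kb xb2 yb48 zb54) (kb xb2 yb48 zb55) (kb xb6 yb14 zb60) (kb xb6 yb14 zb15) (kb xb6 yb14 zb16) (kb xb5 yb47 zb24) (kb xb2 yb48 zb60) (kb xb11 yb23 zb9) (kb xb8 yb42 zb48) (kb xb2 yb49 zb1) (kb xb2 yb49 zb2) (kb xb11 yb23 zb14) (kb xb11 yb23 zb17) (kb xb11 yb23 zb7) (kb xb11 yb23 zb8) (kb xb7 yb56 zb25) (kb xb11 yb6 zb48) (kb xb2 yb49 zb0) (kb xb11 yb23 zb27) (kb xb11 yb6 zb50) (kb xb11 yb23 zb32) (kb xb11 yb23 zb37) (kb xb11 yb23 zb13) (kb xb11 yb6 zb18) (kb xb2 yb49 zb4) (kb xb11 yb23 zb43) (kb xb8 yb46 zb13) (kb xb3 yb10 zb7) (kb xb4 yb56 zb42) (kb xb11 yb23 zb50) (kb xb9 yb3 zb27) (kb xb3 yb3 zb56) (kb xb2 yb49 zb13) (kb xb11 yb23 zb57) (kb xb11 yb23 zb56) (kb xb11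 yb23 zb61) (kb xb4 yb33 zb3) (kb xb2 yb49 zb15) (kb xb11 yb24 zb7) (kb xb5 yb42 zb49) (kb xb6 yb16 zb61)) (@D3.rec (fun _ => Pt) (kb xb11 yb24 zb12) (kb xb5 yb51 zb43) (kb xb6 yb15 zb24) (kb xb3 yb12 zb37) (kb xb3 yb12 zb38) (kb xb11 yb24 zb23) (kb xb11 yb24 zb27) (kb xb2 yb49 zb29) (kb xb2 yb49 zb30) (kb xb11 yb7 zb2) (kb xb11 yb7 zb5) (kb xb3 yb58 zb60) (kb xb11 yb24 zb36) (kb xb11 yb24 zb33) (kb xb2 yb49 zb31) (kb xb9 yb7 zb59) (kb xb6 yb16 zb60) (kb xb6 yb17 zb7) (kb xb5 yb49 zb22) (kb xb4 yb25 zb51) (kb xb11 yb24 zb44) (kb xb4 yb58 zb36) (kb xb2 yb49 zb40) (kb xb6 yb25 zb33) (kb xb5 yb46 zb26) (kb xb3 yb9 zb49) (kb xb5 yb54 zb47) (kb xb4 yb58 zb60) (kb xb2 yb49 zb43) (kb xb11 yb24 zb55) (kb xb11 yb24 zb54) (kb xb10 yb19 zb3) (kb xb3 yb12 zb48) (kb xb3 yb12 zb49)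 (kb xb11 yb24 zb61) (kb xb11 yb25 zb3) (kb xb2 yb49 zb48) (kb xb2 yb49 zb46) (kb xb11 yb25 zb8) (kb xb2 yb49 zb47) (kb xb10 yb4 zb60) (kb xb8 yb11 zb61) (kb xb2 yb56 zb31) (kb xb2 yb50 zb35) (kb xb4 yb58 zb22) (kb xb4 yb58 zb32) (kb xb2 yb49 zb56) (kb xb3 yb0 zb30) (kb xb9 yb9 zb29) (kb xb5 yb52 zb9) (kb xb11 yb25 zb17) (kb xb2 yb50 zb39) (kb xb5 yb51 zb7) (kb xb6 yb24 zb26) (kb xb4 yb42 zb49) (kb xb4 yb58 zb53) (kb xb2 yb50 zb3) (kb xb4 yb53 zb48) (kb xb4 yb7 zb10) (kb xb2 yb50 zb4) (kb xb2 yb53 zb38) (kb xb3 yb0 zb6)) (@D3.rec (fun _ => Pt) (kb xb4 yb42 zb50) (kb xb7 yb40 zb59) (kb xb5 yb52 zb13) (kb xb11 yb25 zb30) (kb xb11 yb25 zb31) (kb xb11 yb25 zb47) (kb xb2 yb50 zb5) (kb xb11 yb25 zb49) (kb xb9 yb49 zb3) (kb xb11 yb25 zb55) (kb xb2 yb50 zb55) (kb xb9 yb5 zb27)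 (kb xb2 yb50 zb7) (kb xb11 yb25 zb60) (kb xb6 yb44 zb21) (kb xb2 yb50 zb10) (kb xb2 yb50 zb13) (kb xb7 yb43 zb54) (kb xb2 yb50 zb14) (kb xb11 yb26 zb6) (kb xb6 yb51 zb43) (kb xb3 yb19 zb50) (kb xb11 yb26 zb10) (kb xb11 yb26 zb12) (kb xb3 yb19 zb53) (kb xb3 yb19 zb54) (kb xb2 yb50 zb18) (kb xb6 yb39 zb47) (kb xb11 yb26 zb21) (kb xb7 yb43 zb9) (kb xb2 yb50 zb19) (kb xb11 yb26 zb31) (kb xb11 yb26 zb29) (kb xb11 yb26 zb30) (kb xb11 yb26 zb37) (kb xb11 yb26 zb41) (kb xb3 yb53 zb56) (kb xb2 yb50 zb34) (kb xb11 yb25 zb11) (kb xb6 yb16 zb15) (kb xb2 yb50 zb24) (kb xb6 yb16 zb16) (kb xb2 yb50 zb38) (kb xb11 yb26 zb52) (kb xb11 yb19 zb21) (kb xb2 yb50 zb25) (kb xb11 yb26 zb58) (kb xb11 yb26 zb56) (kb xb11 yb27 zb1) (kb xb3 yb16 zb39) (kb xb2 yb50 zb28) (kb xb4 yb56 zb26) (kb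 xb11 yb26 zb26) (kb xb11 yb26 zb18) (kb xb6 yb26 zb56) (kb xb4 yb43 zb30) (kb xb2 yb50 zb30) (kb xb2 yb50 zb31) (kb xb11 yb27 zb15) (kb xb11 yb27 zb18) (kb xb2 yb50 zb32) (kb xb11 yb27 zb22)) (@D3.rec (fun _ => Pt) (kb xb2 yb50 zb33) (kb xb11 yb25 zb59) (kb xb11 yb25 zb12) (kb xb6 yb17 zb0) (kb xb11 yb26 zb50) (kb xb6 yb17 zb2) (kb xb3 yb59 zb32) (kb xb11 yb26 zb51) (kb xb8 yb45 zb25) (kb xb11 yb25 zb24) (kb xb6 yb17 zb8) (kb xb6 yb17 zb9) (kb xb4 yb41 zb39) (kb xb4 yb57 zb25) (kb xb11 yb26 zb49) (kb xb11 yb21 zb25) (kb xb2 yb50 zb44) (kb xb4 yb7 zb14) (kb xb11 yb7 zb16) (kb xb2 yb50 zb45) (kb xb11 yb27 zb43) (kb xb9 yb5 zb41) (kb xb5 yb47 zb18) (kb xb2 yb50 zb48) (kb xb2 yb50 zb47) (kb xb11 yb26 zb61) (kb xb11 yb27 zb46) (kb xb9 yb5 zb44) (kb xb9 yb25 zb8) (kb xb2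 yb50 zb51) (kb xb2 yb50 zb50) (kb xb11 yb26 zb60) (kb xb9 yb5 zb43) (kb xb2 yb50 zb52) (kb xb2 yb50 zb53) (kb xb3 yb19 zb7) (kb xb11 yb27 zb58) (kb xb11 yb27 zb59) (kb xb7 yb8 zb15) (kb xb2 yb50 zb57) (kb xb11 yb27 zb61) (kb xb2 yb54 zb6) (kb xb11 yb28 zb3) (kb xb5 yb40 zb10) (kb xb2 yb50 zb60) (kb xb11 yb28 zb10) (kb xb2 yb50 zb61) (kb xb11 yb28 zb12) (kb xb5 yb43 zb0) (kb xb5 yb57 zb8) (kb xb4 yb25 zb54) (kb xb2 yb51 zb4) (kb xb11 yb28 zb19) (kb xb2 yb51 zb5) (kb xb2 yb51 zb3) (kb xb11 yb28 zb21) (kb xb5 yb32 zb60) (kb xb11 yb28 zb18) (kb xb11 yb28 zb23) (kb xb4 yb58 zb31) (kb xb4 yb25 zb48) (kb xb2 yb51 zb10)) (@D3.rec (fun _ => Pt) (kb xb6 yb31 zb35) (kb xb2 yb51 zb9) (kb xb11 yb28 zb27) (kb xb4 yb58 zb56) (kb xb11 yb28 zb31) (kb xb2 yb51 zb14) (kb xb2 yb51 zb13)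 (kb xb11 yb28 zb38) (kb xb5 yb51 zb18) (kb xb11 yb28 zb35) (kb xb2 yb51 zb17) (kb xb2 yb51 zb16) (kb xb11 yb28 zb43) (kb xb2 yb51 zb19) (kb xb10 yb2 zb42) (kb xb2 yb51 zb20) (kb xb4 yb56 zb27) (kb xb11 yb28 zb46) (kb xb3 yb19 zb10) (kb xb3 yb19 zb11) (kb xb2 yb51 zb22) (kb xb11 yb28 zb49) (kb xb11 yb28 zb47) (kb xb11 yb28 zb48) (kb xb2 yb51 zb23) (kb xb11 yb28 zb50) (kb xb7 yb43 zb14) (kb xb9 yb49 zb40) (kb xb6 yb21 zb37) (kb xb4 yb42 zb0) (kb xb2 yb51 zb26) (kb xb2 yb51 zb27) (kb xb10 yb42 zb40) (kb xb4 yb41 zb15) (kb xb4 yb42 zb7) (kb xb2 yb51 zb29) (kb xb2 yb51 zb30) (kb xb11 yb29 zb4) (kb xb3 yb23 zb29) (kb xb3 yb23 zb30) (kb xb11 yb29 zb5) (kb xb2 yb51 zb35) (kb xb2 yb51 zb32) (kb xb11 yb29 zb9) (kb xb4 yb36 zb40) (kb xb2 yb51 zb34) (kb xb4 yb40 zb1) (kb xb11 yb29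 zb8) (kb xb7 yb14 zb28) (kb xb3 yb57 zb52) (kb xb11 yb29 zb13) (kb xb7 yb22 zb40) (kb xb8 yb52 zb50) (kb xb2 yb51 zb38) (kb xb11 yb29 zb21) (kb xb6 yb11 zb50) (kb xb5 yb56 zb33) (kb xb5 yb56 zb21) (kb xb6 yb13 zb17) (kb xb2 yb51 zb45) (kb xb6 yb44 zb14) (kb xb4 yb36 zb22)) (@D3.rec (fun _ => Pt) (kb xb11 yb29 zb34) (kb xb4 yb35 zb48) (kb xb4 yb35 zb50) (kb xb2 yb51 zb48) (kb xb9 yb47 zb26) (kb xb11 yb29 zb40) (kb xb9 yb6 zb12) (kb xb5 yb47 zb52) (kb xb2 yb51 zb52) (kb xb6 yb55 zb59) (kb xb3 yb47 zb19) (kb xb4 yb6 zb3) (kb xb2 yb52 zb3) (kb xb11 yb29 zb45) (kb xb11 yb29 zb56) (kb xb2 yb51 zb55) (kb xb2 yb51 zb54) (kb xb11 yb29 zb60) (kb xb5 yb50 zb8) (kb xb11 yb29 zb59) (kb xb2 yb51 zb56) (kb xb11 yb30 zb6) (kb xb3 yb26 zb32) (kb xb7 yb32 zb27) (kb xb3 yb15 zb4) (kb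 xb2 yb51 zb59) (kb xb6 yb59 zb55) (kb xb6 yb49 zb37) (kb xb11 yb30 zb17) (kb xb2 yb51 zb60) (kb xb9 yb16 zb26) (kb xb11 yb30 zb26) (kb xb11 yb30 zb27) (kb xb11 yb30 zb30) (kb xb3 yb6 zb28) (kb xb3 yb6 zb29) (kb xb11 yb30 zb37) (kb xb11 yb28 zb56) (kb xb2 yb52 zb4) (kb xb8 yb14 zb57) (kb xb11 yb29 zb54) (kb xb11 yb29 zb55) (kb xb11 yb30 zb41) (kb xb5 yb47 zb1) (kb xb9 yb47 zb59) (kb xb11 yb30 zb44) (kb xb11 yb30 zb47) (kb xb2 yb52 zb8) (kb xb2 yb52 zb9) (kb xb11 yb30 zb54) (kb xb11 yb30 zb53) (kb xb2 yb52 zb11) (kb xb2 yb52 zb12) (kb xb6 yb50 zb14) (kb xb11 yb30 zb21) (kb xb11 yb30 zb57) (kb xb11 yb30 zb23) (kb xb11 yb30 zb60) (kb xb11 yb30 zb15) (kb xb6 yb30 zb38) (kb xb2 yb52 zb15) (kb xb6 yb50 zb25)) (@D3.rec (fun _ => Pt) (kb xb11 yb31 zb3) (kb xb2 yb52 zb18) (kb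 xb11 yb31 zb4) (kb xb9 yb48 zb21) (kb xb9 yb48 zb16) (kb xb9 yb6 zb20) (kb xb2 yb52 zb22) (kb xb2 yb52 zb21) (kb xb10 yb45 zb39) (kb xb5 yb47 zb49) (kb xb11 yb31 zb10) (kb xb2 yb52 zb25) (kb xb2 yb52 zb24) (kb xb5 yb48 zb2) (kb xb11 yb31 zb17) (kb xb2 yb52 zb26) (kb xb11 yb31 zb19) (kb xb2 yb52 zb27) (kb xb3 yb14 zb12) (kb xb10 yb6 zb50) (kb xb11 yb31 zb22) (kb xb3 yb14 zb15) (kb xb3 yb14 zb16) (kb xb2 yb52 zb30) (kb xb11 yb31 zb24) (kb xb10 yb41 zb37) (kb xb11 yb31 zb23) (kb xb2 yb52 zb31) (kb xb11 yb31 zb27) (kb xb11 yb31 zb25) (kb xb11 yb31 zb26) (kb xb11 yb31 zb31) (kb xb11 yb31 zb34) (kb xb11 yb5 zb58) (kb xb2 yb52 zb43) (kb xb2 yb52 zb34) (kb xb11 yb31 zb41) (kb xb11 yb31 zb40) (kb xb2 yb52 zb35) (kb xb11 yb31 zb43) (kb xb11 yb31 zb44) (kb xb11 yb31 zb45) (kb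 xb6 yb29 zb39) (kb xb6 yb30 zb3) (kb xb3 yb14 zb14) (kb xb2 yb52 zb38) (kb xb4 yb5 zb33) (kb xb11 yb31 zb54) (kb xb3 yb15 zb39) (kb xb2 yb52 zb40) (kb xb11 yb31 zb58) (kb xb11 yb31 zb59) (kb xb2 yb52 zb41) (kb xb2 yb52 zb42) (kb xb9 yb14 zb41) (kb xb6 yb13 zb20) (kb xb9 yb46 zb22) (kb xb9 yb6 zb55) (kb xb4 yb58 zb11) (kb xb9 yb46 zb24) (kb xb11 yb32 zb10) (kb xb6 yb6 zb20)) (@D3.rec (fun _ => Pt) (kb xb11 yb29 zb27) (kb xb6 yb13 zb25) (kb xb10 yb44 zb42) (kb xb2 yb52 zb49) (kb xb9 yb7 zb0) (kb xb5 yb28 zb3) (kb xb2 yb52 zb51) (kb xb4 yb28 zb51) (kb xb2 yb56 zb54) (kb xb2 yb54 zb14) (kb xb2 yb56 zb56) (kb xb11 yb32 zb28) (kb xb5 yb36 zb3) (kb xb2 yb52 zb57) (kb xb11 yb32 zb32) (kb xb2 yb52 zb60) (kb xb11 yb32 zb36) (kb xb7 yb40 zb5) (kb xb11 yb32 zb35) (kb xb9 yb8 zb8)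 (kb xb11 yb32 zb47) (kb xb2 yb53 zb1) (kb xb2 yb53 zb0) (kb xb11 yb32 zb51) (kb xb11 yb32 zb54) (kb xb2 yb53 zb8) (kb xb2 yb53 zb10) (kb xb6 yb14 zb10) (kb xb8 yb2 zb10) (kb xb6 yb15 zb17) (kb xb8 yb2 zb22) (kb xb11 yb33 zb1) (kb xb9 yb9 zb33) (kb xb9 yb9 zb34) (kb xb4 yb59 zb61) (kb xb6 yb50 zb36) (kb xb11 yb32 zb55) (kb xb7 yb19 zb15) (kb xb9 yb7 zb2) (kb xb9 yb7 zb3) (kb xb11 yb33 zb17) (kb xb8 yb46 zb25) (kb xb11 yb33 zb21) (kb xb2 yb53 zb15) (kb xb4 yb40 zb25) (kb xb8 yb46 zb15) (kb xb2 yb53 zb14) (kb xb6 yb7 zb10) (kb xb4 yb34 zb1) (kb xb2 yb53 zb17) (kb xb2 yb53 zb18) (kb xb11 yb33 zb34) (kb xb11 yb33 zb32) (kb xb4 yb35 zb35) (kb xb11 yb33 zb33) (kb xb3 yb38 zb34) (kb xb9 yb7 zb18) (kb xb3 yb46 zb24) (kb xb6 yb7 zb37) (kb xb5 yb7 zb44) (kb xb5 yb7 zb46) (kb xb6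 yb16 zb12)) (@D3.rec (fun _ => Pt) (kb xb9 yb5 zb48) (kb xb11 yb33 zb51) (kb xb9 yb7 zb23) (kb xb4 yb58 zb28) (kb xb2 yb56 zb39) (kb xb5 yb55 zb40) (kb xb5 yb55 zb41) (kb xb6 yb59 zb57) (kb xb9 yb19 zb41) (kb xb4 yb46 zb38) (kb xb9 yb17 zb45) (kb xb11 yb34 zb11) (kb xb6 yb25 zb35) (kb xb9 yb24 zb37) (kb xb5 yb58 zb16) (kb xb8 yb47 zb5) (kb xb11 yb34 zb21) (kb xb11 yb34 zb25) (kb xb4 yb25 zb9) (kb xb4 yb25 zb10) (kb xb2 yb53 zb33) (kb xb11 yb34 zb33) (kb xb5 yb42 zb61) (kb xb8 yb3 zb16) (kb xb11 yb34 zb39) (kb xb11 yb34 zb44) (kb xb4 yb25 zb12) (kb xb4 yb58 zb19) (kb xb7 yb53 zb6) (kb xb6 yb25 zb10) (kb xb11 yb25 zb35) (kb xb11 yb25 zb36) (kb xb3 yb0 zb20) (kb xb2 yb53 zb41) (kb xb2 yb53 zb40) (kb xb11 yb34 zb53) (kb xb2 yb59 zb3) (kb xb6 yb25 zb18) (kb xb9 yb2 zb42)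 (kb xb8 yb12 zb6) (kb xb2 yb53 zb42) (kb xb11 yb35 zb0) (kb xb11 yb35 zb1) (kb xb2 yb53 zb43) (kb xb3 yb59 zb42) (kb xb5 yb27 zb16) (kb xb11 yb35 zb6) (kb xb5 yb47 zb26) (kb xb11 yb35 zb8) (kb xb2 yb53 zb47) (kb xb5 yb13 zb53) (kb xb9 yb9 zb51) (kb xb7 yb7 zb35) (kb xb4 yb39 zb44) (kb xb3 yb51 zb24) (kb xb11 yb35 zb9) (kb xb11 yb17 zb27) (kb xb8 yb25 zb51) (kb xb2 yb53 zb51) (kb xb2 yb53 zb50) (kb xb11 yb35 zb22) (kb xb6 yb56 zb31)) (@D3.rec (fun _ => Pt) (kb xb6 yb51 zb7) (kb xb2 yb53 zb52) (kb xb11 yb35 zb32) (kb xb11 yb35 zb29) (kb xb9 yb16 zb37) (kb xb6 yb16 zb6) (kb xb4 yb40 zb46) (kb xb2 yb53 zb54) (kb xb11 yb35 zb46) (kb xb5 yb18 zb52) (kb xb2 yb54 zb4) (kb xb3 yb15 zb5) (kb xb2 yb53 zb57) (kb xb2 yb53 zb58) (kb xb11 yb35 zb57) (kb xb6 yb2 zb28) (kb xb11 yb34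 zb61) (kb xb2 yb53 zb61) (kb xb6 yb49 zb34) (kb xb11 yb35 zb61) (kb xb2 yb54 zb0) (kb xb11 yb28 zb36) (kb xb3 yb22 zb55) (kb xb2 yb54 zb2) (kb xb11 yb36 zb7) (kb xb11 yb36 zb10) (kb xb9 yb7 zb58) (kb xb11 yb36 zb13) (kb xb6 yb29 zb44) (kb xb8 yb2 zb12) (kb xb8 yb2 zb13) (kb xb8 yb49 zb43) (kb xb11 yb36 zb20) (kb xb11 yb28 zb2) (kb xb11 yb36 zb25) (kb xb6 yb38 zb15) (kb xb4 yb39 zb59) (kb xb6 yb39 zb15) (kb xb2 yb54 zb13) (kb xb4 yb58 zb40) (kb xb5 yb54 zb5) (kb xb5 yb54 zb6) (kb xb2 yb54 zb12) (kb xb9 yb47 zb56) (kb xb11 yb36 zb38) (kb xb5 yb27 zb0) (kb xb3 yb55 zb14) (kb xb11 yb36 zb44) (kb xb8 yb46 zb58) (kb xb8 yb43 zb53) (kb xb8 yb46 zb60) (kb xb2 yb54 zb17) (kb xb11 yb36 zb6) (kb xb11 yb36 zb55) (kb xb5 yb58 zb53) (kb xb9 yb10 zb25) (kb xb9 yb8 zb17) (kb xb9 yb8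 zb15) (kb xb5 yb58 zb57) (kb xb2 yb57 zb52) (kb xb11 yb37 zb8) (kb xb2 yb54 zb22)) (@D3.rec (fun _ => Pt) (kb xb4 yb58 zb21) (kb xb3 yb15 zb17) (kb xb11 yb37 zb11) (kb xb2 yb54 zb24) (kb xb11 yb37 zb19) (kb xb11 yb14 zb5) (kb xb9 yb8 zb52) (kb xb2 yb54 zb26) (kb xb6 yb29 zb22) (kb xb2 yb54 zb27) (kb xb11 yb37 zb34) (kb xb11 yb37 zb33) (kb xb11 yb37 zb40) (kb xb9 yb25 zb57) (kb xb2 yb54 zb28) (kb xb11 yb37 zb43) (kb xb11 yb37 zb44) (kb xb11 yb37 zb50) (kb xb5 yb45 zb9) (kb xb4 yb58 zb2) (kb xb4 yb58 zb3) (kb xb5 yb50 zb57) (kb xb8 yb46 zb56) (kb xb4 yb31 zb58) (kb xb11 yb12 zb58) (kb xb11 yb38 zb6) (kb xb11 yb38 zb10) (kb xb11 yb38 zb15) (kb xb4 yb58 zb10) (kb xb10 yb6 zb34) (kb xb6 yb19 zb27) (kb xb9 yb11 zb52) (kb xb6 yb15 zb48) (kb xb5 yb50 zb56) (kb xb2 yb54 zb38)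 (kb xb2 yb54 zb37) (kb xb9 yb11 zb41) (kb xb11 yb38 zb29) (kb xb6 yb16 zb5) (kb xb6 yb31 zb37) (kb xb11 yb38 zb27) (kb xb2 yb54 zb39) (kb xb11 yb38 zb41) (kb xb6 yb35 zb28) (kb xb3 yb15 zb52) (kb xb9 yb7 zb35) (kb xb11 yb38 zb46) (kb xb11 yb38 zb50) (kb xb3 yb12 zb4) (kb xb2 yb54 zb43) (kb xb11 yb38 zb56) (kb xb11 yb38 zb54) (kb xb5 yb27 zb21) (kb xb2 yb54 zb44) (kb xb11 yb39 zb4) (kb xb11 yb39 zb2) (kb xb11 yb39 zb3) (kb xb9 yb14 zb16) (kb xb11 yb39 zb11) (kb xb10 yb40 zb11) (kb xb2 yb54 zb60) (kb xb2 yb54 zb47)) (@D3.rec (fun _ => Pt) (kb xb11 yb39 zb18) (kb xb11 yb39 zb21) (kb xb11 yb16 zb36) (kb xb11 yb39 zb28) (kb xb2 yb58 zb10) (kb xb9 yb1 zb12) (kb xb2 yb54 zb50) (kb xb11 yb39 zb32) (kb xb5 yb49 zb49) (kb xb11 yb39 zb35) (kb xb11 yb39 zb39) (kb xb10 yb49 zb54)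 (kb xb8 yb53 zb49) (kb xb2 yb55 zb0) (kb xb5 yb58 zb56) (kb xb9 yb9 zb6) (kb xb3 yb14 zb24) (kb xb2 yb54 zb54) (kb xb11 yb38 zb61) (kb xb11 yb39 zb56) (kb xb3 yb14 zb30) (kb xb2 yb54 zb56) (kb xb2 yb54 zb57) (kb xb2 yb54 zb58) (kb xb2 yb54 zb59) (kb xb11 yb39 zb17) (kb xb9 yb9 zb14) (kb xb8 yb9 zb50) (kb xb11 yb40 zb5) (kb xb11 yb40 zb6) (kb xb11 yb40 zb7) (kb xb2 yb55 zb5) (kb xb2 yb55 zb6) (kb xb9 yb16 zb15) (kb xb2 yb55 zb4) (kb xb11 yb27 zb31) (kb xb3 yb10 zb20) (kb xb4 yb34 zb42) (kb xb2 yb55 zb9) (kb xb8 yb48 zb2) (kb xb11 yb40 zb17) (kb xb9 yb7 zb16) (kb xb5 yb14 zb28) (kb xb2 yb55 zb35) (kb xb2 yb55 zb36) (kb xb9 yb7 zb20) (kb xb9 yb7 zb21) (kb xb3 yb43 zb18) (kb xb2 yb55 zb41) (kb xb9 yb59 zb7) (kb xb4 yb58 zb52) (kb xb11 yb40 zb28) (kb xb4 yb35 zb20) (kb xb2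 yb55 zb21) (kb xb2 yb55 zb24) (kb xb11 yb40 zb34) (kb xb3 yb10 zb18) (kb xb2 yb55 zb20) (kb xb11 yb36 zb4) (kb xb9 yb13 zb37) (kb xb4 yb35 zb30) (kb xb11 yb40 zb32)) (@D3.rec (fun _ => Pt) (kb xb11 yb40 zb33) (kb xb5 yb58 zb37) (kb xb4 yb35 zb36) (kb xb11 yb40 zb48) (kb xb2 yb55 zb26) (kb xb11 yb40 zb49) (kb xb11 yb40 zb50) (kb xb11 yb25 zb33) (kb xb11 yb38 zb26) (kb xb9 yb7 zb45) (kb xb9 yb9 zb61) (kb xb2 yb55 zb28) (kb xb11 yb41 zb1) (kb xb11 yb41 zb2) (kb xb9 yb22 zb34) (kb xb9 yb22 zb35) (kb xb5 yb54 zb14) (kb xb11 yb41 zb13) (kb xb7 yb39 zb36) (kb xb2 yb55 zb31) (kb xb2 yb55 zb32) (kb xb2 yb55 zb33) (kb xb11 yb41 zb21) (kb xb9 yb22 zb38) (kb xb11 yb41 zb18) (kb xb11 yb41 zb19) (kb xb11 yb41 zb20) (kb xb6 yb2 zb31) (kb xb5 yb58 zb55) (kb xb9 yb10 zb14) (kb xb6 yb28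 zb17) (kb xb9 yb10 zb16) (kb xb4 yb40 zb21) (kb xb3 yb43 zb20) (kb xb11 yb40 zb26) (kb xb11 yb41 zb35) (kb xb9 yb9 zb23) (kb xb5 yb58 zb1) (kb xb2 yb56 zb55) (kb xb2 yb55 zb46) (kb xb11 yb41 zb45) (kb xb11 yb41 zb46) (kb xb11 yb41 zb52) (kb xb9 yb8 zb16) (kb xb2 yb55 zb58) (kb xb2 yb55 zb59) (kb xb9 yb8 zb19) (kb xb9 yb14 zb11) (kb xb6 yb16 zb26) (kb xb11 yb42 zb1) (kb xb2 yb56 zb1) (kb xb2 yb55 zb51) (kb xb11 yb42 zb8) (kb xb5 yb55 zb54) (kb xb11 yb29 zb10) (kb xb5 yb58 zb28) (kb xb5 yb57 zb14) (kb xb5 yb55 zb58) (kb xb11 yb42 zb21) (kb xb11 yb41 zb9) (kb xb2 yb55 zb55) (kb xb2 yb55 zb56)) (@D3.rec (fun _ => Pt) (kb xb11 yb42 zb24) (kb xb9 yb6 zb24) (kb xb11 yb42 zb34) (kb xb11 yb42 zb26) (kb xb7 yb39 zb38) (kb xb11 yb42 zb41) (kb xb9 yb10 zb45) (kb xb9 yb10 zb46)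 (kb xb9 yb10 zb47) (kb xb11 yb42 zb48) (kb xb11 yb41 zb60) (kb xb11 yb42 zb52) (kb xb9 yb10 zb51) (kb xb11 yb42 zb58) (kb xb4 yb41 zb27) (kb xb11 yb42 zb60) (kb xb11 yb43 zb2) (kb xb2 yb56 zb0) (kb xb11 yb43 zb6) (kb xb11 yb43 zb7) (kb xb11 yb42 zb4) (kb xb2 yb56 zb3) (kb xb2 yb56 zb4) (kb xb11 yb43 zb16) (kb xb11 yb43 zb25) (kb xb11 yb43 zb19) (kb xb11 yb43 zb20) (kb xb2 yb56 zb5) (kb xb11 yb43 zb34) (kb xb11 yb43 zb32) (kb xb11 yb43 zb33) (kb xb2 yb56 zb6) (kb xb11 yb43 zb41) (kb xb11 yb43 zb39) (kb xb11 yb43 zb40) (kb xb9 yb30 zb9) (kb xb2 yb56 zb9) (kb xb11 yb43 zb47) (kb xb11 yb43 zb48) (kb xb9 yb12 zb49) (kb xb5 yb34 zb49) (kb xb2 yb56 zb18) (kb xb2 yb56 zb19) (kb xb2 yb56 zb11) (kb xb8 yb12 zb10) (kb xb9 yb24 zb36) (kb xb6 yb14 zb40) (kb xb11 yb44 zb3) (kb xb9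 yb23 zb53) (kb xb2 yb56 zb14) (kb xb2 yb56 zb15) (kb xb11 yb44 zb11) (kb xb9 yb3 zb50) (kb xb11 yb44 zb6) (kb xb9 yb24 zb42) (kb xb11 yb44 zb9) (kb xb11 yb44 zb10) (kb xb9 yb11 zb22) (kb xb3 yb20 zb2) (kb xb2 yb57 zb8) (kb xb2 yb57 zb9) (kb xb9 yb11 zb25))
def f_b_6 : D2 → D3 → Pt := @D2.rec (fun _ => D3 → Pt) (@D3.rec (fun _ => Pt) (kb xb11 yb43 zb58) (kb xb6 yb32 zb54) (kb xb2 yb56 zb28) (kb xb2 yb56 zb21) (kb xb11 yb44 zb37) (kb xb9 yb13 zb32) (kb xb9 yb13 zb18) (kb xb2 yb56 zb29) (kb xb9 yb23 zb50) (kb xb9 yb30 zb0) (kb xb2 yb56 zb24) (kb xb2 yb56 zb25) (kb xb11 yb44 zb47) (kb xb11 yb44 zb55) (kb xb11 yb44 zb59) (kb xb11 yb44 zb49) (kb xb11 yb44 zb50) (kb xb3 yb19 zb23) (kb xb2 yb57 zb21) (kb xb2 yb57 zb22) (kb xb11 yb45 zb7) (kb xb9 yb11 zb37) (kb xb9 yb11 zb38)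 (kb xb2 yb57 zb26) (kb xb2 yb57 zb19) (kb xb11 yb45 zb15) (kb xb11 yb44 zb33) (kb xb9 yb23 zb0) (kb xb11 yb26 zb24) (kb xb9 yb25 zb55) (kb xb9 yb7 zb9) (kb xb2 yb56 zb32) (kb xb11 yb25 zb10) (kb xb11 yb45 zb26) (kb xb11 yb45 zb24) (kb xb7 yb44 zb4) (kb xb7 yb1 zb41) (kb xb11 yb45 zb35) (kb xb9 yb23 zb5) (kb xb9 yb25 zb46) (kb xb3 yb23 zb60) (kb xb2 yb56 zb36) (kb xb2 yb56 zb37) (kb xb11 yb45 zb40) (kb xb11 yb45 zb43) (kb xb11 yb45 zb44) (kb xb11 yb33 zb57) (kb xb2 yb56 zb40) (kb xb11 yb45 zb59) (kb xb11 yb46 zb2) (kb xb11 yb46 zb6) (kb xb9 yb26 zb55) (kb xb9 yb26 zb52) (kb xb11 yb46 zb14) (kb xb7 yb45 zb18) (kb xb2 yb56 zb43) (kb xb8 yb0 zb23) (kb xb11 yb46 zb22) (kb xb11 yb46 zb25) (kb xb11 yb46 zb29) (kb xb11 yb46 zb35) (kb xb9 yb27 zb24)) (@D3.rec (fun _ => Pt) (kb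 xb2 yb57 zb41) (kb xb11 yb41 zb37) (kb xb11 yb46 zb39) (kb xb2 yb56 zb48) (kb xb2 yb56 zb49) (kb xb11 yb46 zb46) (kb xb2 yb56 zb47) (kb xb11 yb46 zb50) (kb xb11 yb46 zb51) (kb xb9 yb12 zb21) (kb xb2 yb57 zb36) (kb xb11 yb47 zb2) (kb xb3 yb13 zb61) (kb xb2 yb57 zb39) (kb xb3 yb14 zb0) (kb xb11 yb46 zb45) (kb xb2 yb57 zb30) (kb xb11 yb40 zb10) (kb xb11 yb47 zb11) (kb xb2 yb56 zb52) (kb xb2 yb56 zb53) (kb xb2 yb56 zb51) (kb xb11 yb47 zb21) (kb xb11 yb47 zb23) (kb xb11 yb47 zb17) (kb xb11 yb47 zb18) (kb xb2 yb57 zb53) (kb xb11 yb47 zb27) (kb xb11 yb32 zb24) (kb xb11 yb47 zb33) (kb xb11 yb41 zb40) (kb xb11 yb47 zb39) (kb xb11 yb32 zb27) (kb xb2 yb56 zb57) (kb xb11 yb47 zb46) (kb xb11 yb47 zb45) (kb xb11 yb47 zb52) (kb xb11 yb47 zb55) (kb xb2 yb56 zb58) (kb xb11 yb47 zb61)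 (kb xb2 yb56 zb59) (kb xb11 yb48 zb3) (kb xb9 yb11 zb10) (kb xb9 yb30 zb13) (kb xb9 yb12 zb51) (kb xb9 yb12 zb52) (kb xb2 yb56 zb61) (kb xb11 yb48 zb9) (kb xb2 yb57 zb0) (kb xb11 yb48 zb12) (kb xb11 yb48 zb14) (kb xb3 yb10 zb51) (kb xb2 yb57 zb2) (kb xb6 yb56 zb40) (kb xb11 yb48 zb18) (kb xb2 yb57 zb3) (kb xb5 yb0 zb8) (kb xb5 yb34 zb32) (kb xb8 yb12 zb12) (kb xb11 yb48 zb29) (kb xb11 yb14 zb37) (kb xb2 yb57 zb11)) (@D3.rec (fun _ => Pt) (kb xb3 yb17 zb18) (kb xb2 yb57 zb7) (kb xb11 yb48 zb40) (kb xb11 yb48 zb22) (kb xb11 yb48 zb42) (kb xb11 yb48 zb43) (kb xb11 yb44 zb27) (kb xb11 yb44 zb28) (kb xb2 yb57 zb10) (kb xb11 yb48 zb47) (kb xb11 yb48 zb36) (kb xb2 yb57 zb12) (kb xb11 yb48 zb48) (kb xb11 yb48 zb49) (kb xb9 yb29 zb54) (kb xb2 yb57 zb27) (kb xb9 yb13 zb19) (kb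 xb2 yb57 zb14) (kb xb11 yb48 zb58) (kb xb3 yb15 zb38) (kb xb3 yb17 zb10) (kb xb11 yb49 zb1) (kb xb3 yb7 zb47) (kb xb11 yb49 zb6) (kb xb3 yb51 zb40) (kb xb3 yb7 zb50) (kb xb3 yb7 zb51) (kb xb11 yb49 zb15) (kb xb5 yb55 zb15) (kb xb9 yb13 zb39) (kb xb11 yb49 zb19) (kb xb5 yb58 zb27) (kb xb11 yb45 zb13) (kb xb11 yb49 zb22) (kb xb6 yb11 zb58) (kb xb3 yb16 zb56) (kb xb2 yb57 zb24) (kb xb2 yb57 zb25) (kb xb11 yb49 zb29) (kb xb4 yb35 zb29) (kb xb11 yb49 zb28) (kb xb11 yb45 zb11) (kb xb11 yb45 zb12) (kb xb9 yb13 zb55) (kb xb11 yb49 zb33) (kb xb11 yb49 zb34) (kb xb2 yb57 zb28) (kb xb11 yb49 zb38) (kb xb11 yb49 zb39) (kb xb3 yb20 zb29) (kb xb11 yb44 zb17) (kb xb9 yb13 zb47) (kb xb9 yb13 zb48) (kb xb11 yb47 zb15) (kb xb11 yb49 zb45) (kb xb8 yb2 zb24) (kb xb2 yb57 zb38) (kb xb11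 yb44 zb43) (kb xb11 yb49 zb52) (kb xb2 yb57 zb40) (kb xb6 yb59 zb26) (kb xb11 yb49 zb55)) (@D3.rec (fun _ => Pt) (kb xb2 yb57 zb35) (kb xb11 yb49 zb57) (kb xb11 yb49 zb58) (kb xb11 yb46 zb61) (kb xb5 yb29 zb0) (kb xb11 yb49 zb59) (kb xb2 yb57 zb37) (kb xb11 yb47 zb5) (kb xb11 yb50 zb1) (kb xb9 yb12 zb48) (kb xb9 yb14 zb1) (kb xb11 yb50 zb5) (kb xb9 yb19 zb56) (kb xb9 yb58 zb3) (kb xb11 yb46 zb42) (kb xb11 yb50 zb18) (kb xb2 yb57 zb48) (kb xb11 yb50 zb22) (kb xb11 yb43 zb54) (kb xb2 yb57 zb49) (kb xb8 yb25 zb39) (kb xb2 yb57 zb47) (kb xb11 yb50 zb29) (kb xb11 yb50 zb21) (kb xb4 yb26 zb55) (kb xb11 yb8 zb3) (kb xb9 yb8 zb20) (kb xb6 yb55 zb38) (kb xb2 yb57 zb55) (kb xb8 yb56 zb6) (kb xb11 yb50 zb42) (kb xb2 yb57 zb54) (kb xb11 yb50 zb45) (kb xb11 yb39 zb47) (kb xb11 yb47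 zb31) (kb xb11 yb50 zb41) (kb xb2 yb57 zb56) (kb xb11 yb50 zb47) (kb xb11 yb47 zb36) (kb xb11 yb37 zb1) (kb xb9 yb10 zb49) (kb xb7 yb53 zb13) (kb xb2 yb57 zb60) (kb xb2 yb57 zb59) (kb xb11 yb50 zb60) (kb xb11 yb51 zb2) (kb xb11 yb47 zb43) (kb xb11 yb50 zb56) (kb xb11 yb51 zb8) (kb xb2 yb58 zb1) (kb xb2 yb58 zb0) (kb xb11 yb51 zb12) (kb xb11 yb47 zb49) (kb xb4 yb30 zb24) (kb xb5 yb33 zb11) (kb xb2 yb58 zb2) (kb xb11 yb51 zb23) (kb xb2 yb58 zb3) (kb xb10 yb38 zb49) (kb xb11 yb51 zb29) (kb xb7 yb16 zb27) (kb xb9 yb14 zb39)) (@D3.rec (fun _ => Pt) (kb xb2 yb58 zb5) (kb xb11 yb51 zb40) (kb xb11 yb51 zb43) (kb xb2 yb58 zb8) (kb xb2 yb58 zb7) (kb xb11 yb51 zb51) (kb xb6 yb42 zb26) (kb xb11 yb51 zb52) (kb xb11 yb51 zb48) (kb xb11 yb39 zb31) (kb xb2 yb58 zb11) (kb xb2 yb58 zb13)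 (kb xb11 yb51 zb55) (kb xb4 yb29 zb39) (kb xb2 yb58 zb17) (kb xb11 yb51 zb59) (kb xb11 yb51 zb60) (kb xb11 yb52 zb1) (kb xb2 yb58 zb21) (kb xb5 yb43 zb16) (kb xb8 yb19 zb23) (kb xb2 yb58 zb22) (kb xb11 yb52 zb9) (kb xb11 yb52 zb14) (kb xb11 yb52 zb16) (kb xb6 yb4 zb49) (kb xb11 yb52 zb20) (kb xb4 yb3 zb10) (kb xb11 yb52 zb24) (kb xb11 yb52 zb27) (kb xb2 yb58 zb26) (kb xb11 yb52 zb33) (kb xb11 yb52 zb34) (kb xb5 yb20 zb24) (kb xb8 yb13 zb61) (kb xb2 yb58 zb32) (kb xb11 yb52 zb44) (kb xb8 yb2 zb47) (kb xb11 yb52 zb48) (kb xb11 yb52 zb50) (kb xb2 yb58 zb31) (kb xb11 yb52 zb54) (kb xb5 yb21 zb36) (kb xb2 yb58 zb57) (kb xb11 yb52 zb43) (kb xb5 yb12 zb34) (kb xb11 yb52 zb61) (kb xb2 yb58 zb38) (kb xb11 yb52 zb40) (kb xb6 yb4 zb25) (kb xb2 yb58 zb37) (kb xb11 yb53 zb3) (kb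 xb11 yb53 zb4) (kb xb2 yb59 zb5) (kb xb5 yb19 zb26) (kb xb8 yb36 zb42) (kb xb10 yb37 zb18) (kb xb2 yb58 zb41) (kb xb11 yb53 zb15) (kb xb11 yb53 zb17) (kb xb10 yb37 zb19) (kb xb5 yb21 zb51)) (@D3.rec (fun _ => Pt) (kb xb2 yb59 zb13) (kb xb11 yb53 zb14) (kb xb2 yb58 zb44) (kb xb2 yb58 zb43) (kb xb11 yb53 zb32) (kb xb11 yb53 zb33) (kb xb2 yb59 zb19) (kb xb5 yb21 zb58) (kb xb11 yb53 zb28) (kb xb2 yb58 zb45) (kb xb6 yb5 zb16) (kb xb11 yb53 zb45) (kb xb2 yb58 zb46) (kb xb11 yb53 zb54) (kb xb11 yb53 zb55) (kb xb11 yb53 zb61) (kb xb6 yb5 zb10) (kb xb11 yb52 zb32) (kb xb2 yb58 zb48) (kb xb2 yb58 zb49) (kb xb11 yb54 zb13) (kb xb11 yb54 zb15) (kb xb11 yb54 zb17) (kb xb11 yb54 zb10) (kb xb11 yb54 zb11) (kb xb11 yb54 zb12) (kb xb11 yb54 zb26) (kb xb4 yb4 zb18) (kb xb11 yb54 zb31)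 (kb xb11 yb54 zb33) (kb xb2 yb58 zb51) (kb xb11 yb54 zb37) (kb xb11 yb32 zb0) (kb xb9 yb37 zb39) (kb xb10 yb0 zb47) (kb xb2 yb58 zb58) (kb xb2 yb58 zb53) (kb xb11 yb54 zb46) (kb xb11 yb54 zb49) (kb xb5 yb26 zb2) (kb xb2 yb58 zb55) (kb xb2 yb58 zb56) (kb xb11 yb54 zb55) (kb xb4 yb1 zb44) (kb xb4 yb1 zb45) (kb xb11 yb54 zb60) (kb xb11 yb54 zb61) (kb xb11 yb55 zb0) (kb xb2 yb59 zb0) (kb xb11 yb55 zb3) (kb xb11 yb55 zb4) (kb xb5 yb12 zb47) (kb xb2 yb59 zb6) (kb xb9 yb50 zb36) (kb xb11 yb55 zb13) (kb xb5 yb26 zb16) (kb xb2 yb59 zb4) (kb xb11 yb34 zb54) (kb xb11 yb55 zb18) (kb xb11 yb55 zb20) (kb xb2 yb59 zb7) (kb xb11 yb55 zb23)) (@D3.rec (fun _ => Pt) (kb xb11 yb55 zb24) (kb xb11 yb55 zb30) (kb xb11 yb55 zb33) (kb xb2 yb59 zb14) (kb xb11 yb55 zb36) (kb xb6 yb51 zb14) (kb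 xb5 yb26 zb32) (kb xb2 yb59 zb10) (kb xb2 yb59 zb11) (kb xb6 yb56 zb41) (kb xb11 yb55 zb46) (kb xb11 yb55 zb47) (kb xb11 yb55 zb44) (kb xb2 yb59 zb12) (kb xb11 yb55 zb51) (kb xb11 yb53 zb25) (kb xb11 yb55 zb53) (kb xb11 yb55 zb54) (kb xb2 yb59 zb15) (kb xb11 yb55 zb58) (kb xb5 yb52 zb61) (kb xb8 yb39 zb15) (kb xb10 yb35 zb41) (kb xb2 yb59 zb21) (kb xb11 yb56 zb3) (kb xb11 yb56 zb5) (kb xb5 yb26 zb51) (kb xb2 yb59 zb18) (kb xb11 yb53 zb40) (kb xb2 yb59 zb20) (kb xb9 yb30 zb34) (kb xb11 yb56 zb10) (kb xb5 yb26 zb55) (kb xb4 yb3 zb13) (kb xb2 yb59 zb23) (kb xb2 yb59 zb24) (kb xb11 yb40 zb11) (kb xb11 yb56 zb17) (kb xb9 yb31 zb41) (kb xb4 yb4 zb33) (kb xb5 yb27 zb3) (kb xb9 yb30 zb36) (kb xb11 yb56 zb28) (kb xb3 yb21 zb12) (kb xb11 yb56 zb31) (kb xb5 yb27 zb14) (kb xb6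 yb45 zb29) (kb xb6 yb50 zb6) (kb xb9 yb7 zb42) (kb xb2 yb59 zb34) (kb xb2 yb59 zb35) (kb xb2 yb59 zb33) (kb xb9 yb7 zb17) (kb xb11 yb56 zb46) (kb xb11 yb39 zb1) (kb xb9 yb15 zb36) (kb xb11 yb49 zb36) (kb xb11 yb56 zb48) (kb xb11 yb56 zb50) (kb xb2 yb59 zb36) (kb xb11 yb56 zb54) (kb xb11 yb56 zb55)) (@D3.rec (fun _ => Pt) (kb xb11 yb56 zb61) (kb xb11 yb57 zb1) (kb xb2 yb59 zb42) (kb xb4 yb49 zb3) (kb xb11 yb57 zb6) (kb xb6 yb45 zb18) (kb xb2 yb59 zb39) (kb xb2 yb59 zb40) (kb xb2 yb59 zb41) (kb xb11 yb57 zb12) (kb xb5 yb53 zb47) (kb xb10 yb6 zb0) (kb xb2 yb59 zb46) (kb xb11 yb57 zb16) (kb xb11 yb57 zb17) (kb xb10 yb24 zb12) (kb xb2 yb59 zb51) (kb xb6 yb45 zb42) (kb xb8 yb14 zb18) (kb xb2 yb59 zb49) (kb xb11 yb57 zb26) (kb xb11 yb57 zb27) (kb xb2 yb59 zb50) (kb xb11 yb57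 zb31) (kb xb6 yb29 zb40) (kb xb5 yb14 zb51) (kb xb2 yb59 zb53) (kb xb4 yb56 zb40) (kb xb9 yb7 zb10) (kb xb5 yb0 zb24) (kb xb9 yb14 zb58) (kb xb10 yb6 zb19) (kb xb8 yb3 zb26) (kb xb5 yb6 zb48) (kb xb5 yb5 zb13) (kb xb4 yb2 zb8) (kb xb10 yb5 zb33) (kb xb5 yb53 zb58) (kb xb9 yb13 zb21) (kb xb2 yb59 zb61) (kb xb9 yb44 zb43) (kb xb4 yb2 zb14) (kb xb4 yb2 zb15) (kb xb9 yb30 zb41) (kb xb3 yb0 zb3) (kb xb3 yb0 zb4) (kb xb11 yb57 zb56) (kb xb11 yb57 zb57) (kb xb11 yb57 zb53) (kb xb11 yb57 zb54) (kb xb10 yb5 zb30) (kb xb6 yb31 zb7) (kb xb4 yb49 zb57) (kb xb5 yb12 zb28) (kb xb3 yb0 zb11) (kb xb3 yb0 zb12) (kb xb11 yb57 zb60) (kb xb11 yb57 zb59) (kb xb11 yb29 zb30) (kb xb11 yb7 zb7) (kb xb10 yb19 zb9) (kb xb3 yb0 zb14)) (@D3.rec (fun _ => Pt) (kb xb11 yb58 zb4) (kb xb11 yb58 zb3)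 (kb xb11 yb58 zb7) (kb xb3 yb0 zb15) (kb xb11 yb58 zb11) (kb xb11 yb24 zb59) (kb xb5 yb27 zb17) (kb xb6 yb31 zb39) (kb xb11 yb58 zb17) (kb xb3 yb0 zb27) (kb xb3 yb0 zb28) (kb xb9 yb7 zb33) (kb xb11 yb40 zb23) (kb xb9 yb9 zb24) (kb xb6 yb15 zb57) (kb xb7 yb53 zb22) (kb xb3 yb0 zb22) (kb xb11 yb58 zb5) (kb xb11 yb58 zb27) (kb xb11 yb58 zb28) (kb xb11 yb35 zb5) (kb xb9 yb15 zb15) (kb xb3 yb0 zb24) (kb xb6 yb25 zb11) (kb xb11 yb58 zb33) (kb xb11 yb58 zb34) (kb xb3 yb0 zb25) (kb xb11 yb58 zb30) (kb xb3 yb0 zb26) (kb xb11 yb58 zb18) (kb xb11 yb58 zb37) (kb xb10 yb2 zb59) (kb xb11 yb25 zb18) (kb xb3 yb0 zb34) (kb xb4 yb41 zb29) (kb xb7 yb2 zb21) (kb xb3 yb0 zb37) (kb xb11 yb58 zb44) (kb xb6 yb17 zb25) (kb xb11 yb58 zb50) (kb xb11 yb58 zb52) (kb xb6 yb17 zb28) (kb xb6 yb17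 zb29) (kb xb3 yb0 zb40) (kb xb11 yb58 zb59) (kb xb6 yb42 zb34) (kb xb10 yb0 zb15) (kb xb3 yb0 zb41) (kb xb11 yb59 zb1) (kb xb11 yb58 zb61) (kb xb11 yb59 zb0) (kb xb5 yb37 zb19) (kb xb5 yb44 zb22) (kb xb11 yb59 zb6) (kb xb3 yb2 zb38) (kb xb3 yb0 zb47) (kb xb3 yb0 zb48) (kb xb9 yb13 zb30) (kb xb6 yb18 zb50) (kb xb3 yb0 zb50) (kb xb3 yb0 zb51) (kb xb6 yb50 zb37)) (@D3.rec (fun _ => Pt) (kb xb11 yb59 zb12) (kb xb3 yb0 zb53) (kb xb3 yb0 zb54) (kb xb11 yb18 zb3) (kb xb7 yb59 zb34) (kb xb3 yb4 zb41) (kb xb11 yb59 zb17) (kb xb4 yb33 zb14) (kb xb3 yb0 zb57) (kb xb11 yb59 zb24) (kb xb5 yb38 zb5) (kb xb9 yb2 zb24) (kb xb11 yb59 zb31) (kb xb9 yb8 zb30) (kb xb9 yb8 zb31) (kb xb11 yb8 zb22) (kb xb11 yb59 zb39) (kb xb9 yb8 zb37) (kb xb9 yb39 zb4) (kb xb11 yb59 zb42) (kb xb8 yb36 zb37)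 (kb xb4 yb12 zb49) (kb xb3 yb1 zb9) (kb xb11 yb59 zb46) (kb xb11 yb59 zb45) (kb xb11 yb59 zb50) (kb xb3 yb1 zb10) (kb xb11 yb59 zb55) (kb xb11 yb59 zb59) (kb xb12 yb0 zb0) (kb xb6 yb49 zb14) (kb xb4 yb44 zb37) (kb xb3 yb1 zb14) (kb xb12 yb0 zb6) (kb xb12 yb0 zb8) (kb xb8 yb35 zb48) (kb xb12 yb0 zb10) (kb xb12 yb0 zb13) (kb xb4 yb42 zb34) (kb xb3 yb1 zb19) (kb xb12 yb0 zb18) (kb xb12 yb0 zb20) (kb xb8 yb21 zb10) (kb xb3 yb1 zb20) (kb xb12 yb0 zb27) (kb xb8 yb24 zb42) (kb xb12 yb0 zb33) (kb xb6 yb48 zb12) (kb xb3 yb1 zb22) (kb xb12 yb0 zb38) (kb xb6 yb25 zb41) (kb xb9 yb21 zb11) (kb xb4 yb47 zb60) (kb xb6 yb17 zb23) (kb xb12 yb0 zb44) (kb xb8 yb35 zb6) (kb xb4 yb11 zb39) (kb xb3 yb35 zb25) (kb xb3 yb12 zb2) (kb xb12 yb0 zb47) (kb xb3 yb1 zb37) (kb xb12 yb0 zb49)) (@D3.rec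 (fun _ => Pt) (kb xb12 yb0 zb50) (kb xb3 yb1 zb36) (kb xb12 yb0 zb55) (kb xb12 yb0 zb56) (kb xb12 yb0 zb60) (kb xb12 yb1 zb0) (kb xb3 yb1 zb41) (kb xb12 yb1 zb4) (kb xb12 yb1 zb8) (kb xb12 yb1 zb11) (kb xb3 yb2 zb5) (kb xb3 yb1 zb43) (kb xb3 yb1 zb44) (kb xb12 yb1 zb16) (kb xb10 yb14 zb19) (kb xb12 yb1 zb18) (kb xb3 yb1 zb45) (kb xb12 yb1 zb22) (kb xb6 yb25 zb39) (kb xb12 yb1 zb21) (kb xb3 yb1 zb46) (kb xb9 yb7 zb57) (kb xb3 yb2 zb23) (kb xb3 yb1 zb48) (kb xb8 yb45 zb42) (kb xb9 yb12 zb55) (kb xb3 yb1 zb58) (kb xb3 yb1 zb52) (kb xb3 yb13 zb51) (kb xb7 yb35 zb40) (kb xb9 yb9 zb20) (kb xb3 yb15 zb34) (kb xb3 yb1 zb55) (kb xb3 yb1 zb56) (kb xb12 yb1 zb38) (kb xb12 yb1 zb41) (kb xb12 yb1 zb42) (kb xb12 yb1 zb49) (kb xb6 yb43 zb45) (kb xb12 yb1 zb52) (kb xb12 yb1 zb54) (kb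 xb3 yb46 zb29) (kb xb3 yb14 zb52) (kb xb3 yb1 zb60) (kb xb3 yb1 zb61) (kb xb3 yb18 zb1) (kb xb11 yb37 zb10) (kb xb3 yb2 zb2) (kb xb4 yb43 zb6) (kb xb3 yb22 zb5) (kb xb9 yb32 zb50) (kb xb3 yb2 zb3) (kb xb4 yb58 zb18) (kb xb3 yb2 zb4) (kb xb12 yb2 zb11) (kb xb12 yb1 zb14) (kb xb12 yb1 zb15) (kb xb7 yb41 zb28) (kb xb3 yb2 zb8) (kb xb5 yb4 zb34) (kb xb12 yb2 zb24) (kb xb3 yb2 zb12)) (@D3.rec (fun _ => Pt) (kb xb3 yb2 zb13) (kb xb12 yb1 zb19) (kb xb6 yb28 zb15) (kb xb12 yb2 zb20) (kb xb12 yb2 zb21) (kb xb9 yb15 zb26) (kb xb3 yb2 zb10) (kb xb12 yb0 zb3) (kb xb12 yb2 zb35) (kb xb5 yb6 zb34) (kb xb5 yb4 zb38) (kb xb11 yb23 zb18) (kb xb9 yb15 zb30) (kb xb12 yb2 zb44) (kb xb5 yb4 zb41) (kb xb9 yb15 zb29) (kb xb3 yb2 zb56) (kb xb10 yb23 zb7) (kb xb3 yb2 zb17) (kb xb12 yb2 zb53)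 (kb xb9 yb42 zb61) (kb xb9 yb43 zb0) (kb xb3 yb2 zb54) (kb xb9 yb29 zb41) (kb xb9 yb21 zb38) (kb xb3 yb2 zb43) (kb xb3 yb2 zb20) (kb xb10 yb14 zb10) (kb xb3 yb2 zb21) (kb xb3 yb2 zb19) (kb xb12 yb2 zb60) (kb xb12 yb2 zb61) (kb xb12 yb3 zb5) (kb xb3 yb3 zb2) (kb xb8 yb24 zb55) (kb xb6 yb25 zb42) (kb xb3 yb3 zb5) (kb xb10 yb23 zb13) (kb xb9 yb28 zb57) (kb xb3 yb2 zb24) (kb xb12 yb3 zb12) (kb xb8 yb24 zb54) (kb xb12 yb3 zb11) (kb xb12 yb3 zb19) (kb xb3 yb2 zb27) (kb xb12 yb3 zb21) (kb xb12 yb3 zb23) (kb xb12 yb3 zb24) (kb xb3 yb2 zb28) (kb xb12 yb3 zb29) (kb xb5 yb50 zb55) (kb xb5 yb8 zb12) (kb xb9 yb17 zb7) (kb xb10 yb18 zb36) (kb xb10 yb18 zb37) (kb xb3 yb2 zb31) (kb xb10 yb10 zb39) (kb xb4 yb33 zb47) (kb xb6 yb2 zb34) (kb xb10 yb18 zb6) (kb xb5 yb37 zb24) (kb xb12 yb3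 zb44)) (@D3.rec (fun _ => Pt) (kb xb3 yb2 zb42) (kb xb6 yb19 zb7) (kb xb3 yb2 zb35) (kb xb12 yb3 zb34) (kb xb12 yb3 zb54) (kb xb3 yb2 zb37) (kb xb12 yb3 zb57) (kb xb12 yb3 zb56) (kb xb3 yb2 zb39) (kb xb12 yb3 zb61) (kb xb12 yb3 zb60) (kb xb3 yb2 zb40) (kb xb12 yb4 zb2) (kb xb11 yb6 zb53) (kb xb12 yb4 zb7) (kb xb9 yb56 zb57) (kb xb3 yb2 zb41) (kb xb11 yb15 zb54) (kb xb12 yb4 zb13) (kb xb9 yb16 zb61) (kb xb12 yb4 zb16) (kb xb3 yb2 zb45) (kb xb10 yb49 zb10) (kb xb6 yb25 zb40) (kb xb3 yb2 zb53) (kb xb8 yb21 zb44) (kb xb12 yb4 zb20) (kb xb3 yb2 zb55) (kb xb3 yb2 zb49) (kb xb3 yb2 zb50) (kb xb12 yb4 zb24) (kb xb12 yb4 zb26) (kb xb9 yb13 zb10) (kb xb12 yb4 zb27) (kb xb12 yb4 zb29) (kb xb7 yb35 zb13) (kb xb3 yb2 zb58) (kb xb12 yb4 zb32) (kb xb12 yb4 zb33) (kb xb3 yb3 zb3) (kb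 xb3 yb2 zb61) (kb xb3 yb3 zb0) (kb xb4 yb5 zb25) (kb xb12 yb4 zb38) (kb xb3 yb3 zb1) (kb xb12 yb4 zb40) (kb xb12 yb4 zb42) (kb xb3 yb3 zb7) (kb xb12 yb4 zb44) (kb xb11 yb29 zb53) (kb xb3 yb3 zb9) (kb xb3 yb3 zb10) (kb xb6 yb35 zb35) (kb xb3 yb3 zb11) (kb xb12 yb4 zb50) (kb xb3 yb24 zb21) (kb xb3 yb3 zb12) (kb xb12 yb4 zb51) (kb xb8 yb32 zb12) (kb xb9 yb38 zb48) (kb xb12 yb4 zb53) (kb xb3 yb3 zb13)) (@D3.rec (fun _ => Pt) (kb xb12 yb4 zb57) (kb xb12 yb4 zb59) (kb xb12 yb5 zb0) (kb xb6 yb18 zb1) (kb xb3 yb3 zb20) (kb xb3 yb3 zb18) (kb xb7 yb14 zb36) (kb xb9 yb14 zb10) (kb xb12 yb5 zb11) (kb xb11 yb34 zb0) (kb xb12 yb5 zb18) (kb xb9 yb8 zb33) (kb xb3 yb3 zb22) (kb xb12 yb5 zb22) (kb xb4 yb58 zb54) (kb xb4 yb58 zb55) (kb xb4 yb0 zb42) (kb xb5 yb50 zb58) (kb xb4 yb58 zb15)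 (kb xb4 yb57 zb2) (kb xb5 yb52 zb55) (kb xb4 yb59 zb9) (kb xb3 yb3 zb29) (kb xb4 yb0 zb47) (kb xb12 yb5 zb34) (kb xb5 yb53 zb1) (kb xb12 yb5 zb39) (kb xb12 yb5 zb43) (kb xb3 yb3 zb33) (kb xb3 yb3 zb32) (kb xb12 yb5 zb46) (kb xb9 yb9 zb37) (kb xb4 yb0 zb9) (kb xb3 yb3 zb38) (kb xb11 yb37 zb22) (kb xb12 yb5 zb57) (kb xb8 yb47 zb27) (kb xb12 yb5 zb54) (kb xb11 yb37 zb26) (kb xb12 yb6 zb3) (kb xb12 yb6 zb5) (kb xb4 yb58 zb6) (kb xb3 yb3 zb42) (kb xb11 yb23 zb0) (kb xb8 yb1 zb41) (kb xb3 yb3 zb43) (kb xb4 yb0 zb34) (kb xb12 yb6 zb13) (kb xb3 yb4 zb12) (kb xb8 yb48 zb6) (kb xb11 yb27 zb25) (kb xb3 yb9 zb58) (kb xb11 yb11 zb45) (kb xb12 yb6 zb22) (kb xb7 yb19 zb12) (kb xb7 yb25 zb12) (kb xb3 yb3 zb50) (kb xb9 yb39 zb27) (kb xb12 yb6 zb30) (kb xb8 yb42 zb51) (kb xb12 yb6 zb28)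 (kb xb4 yb33 zb0)) (@D3.rec (fun _ => Pt) (kb xb12 yb6 zb37) (kb xb12 yb6 zb40) (kb xb4 yb22 zb57) (kb xb3 yb3 zb53) (kb xb12 yb6 zb44) (kb xb3 yb37 zb5) (kb xb3 yb33 zb39) (kb xb11 yb23 zb54) (kb xb3 yb10 zb10) (kb xb6 yb15 zb20) (kb xb5 yb53 zb27) (kb xb3 yb3 zb61) (kb xb12 yb6 zb53) (kb xb12 yb6 zb56) (kb xb12 yb6 zb52) (kb xb5 yb46 zb24) (kb xb5 yb46 zb25) (kb xb4 yb39 zb36) (kb xb3 yb4 zb4) (kb xb8 yb1 zb43) (kb xb3 yb4 zb5) (kb xb3 yb4 zb6) (kb xb6 yb36 zb7) (kb xb12 yb7 zb6) (kb xb12 yb7 zb2) (kb xb12 yb7 zb3) (kb xb7 yb8 zb9) (kb xb12 yb7 zb14) (kb xb5 yb41 zb41) (kb xb6 yb25 zb13) (kb xb12 yb6 zb10) (kb xb6 yb25 zb14) (kb xb5 yb37 zb7) (kb xb11 yb45 zb21) (kb xb6 yb25 zb2) (kb xb7 yb8 zb24) (kb xb4 yb20 zb32) (kb xb12 yb7 zb27) (kb xb3 yb38 zb27) (kb xb4 yb41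 zb25) (kb xb5 yb59 zb46) (kb xb8 yb46 zb20) (kb xb12 yb7 zb38) (kb xb12 yb7 zb42) (kb xb3 yb4 zb22) (kb xb3 yb4 zb23) (kb xb3 yb4 zb16) (kb xb11 yb39 zb34) (kb xb3 yb4 zb25) (kb xb3 yb4 zb20) (kb xb12 yb7 zb53) (kb xb12 yb7 zb54) (kb xb3 yb4 zb21) (kb xb12 yb8 zb2) (kb xb12 yb8 zb3) (kb xb7 yb18 zb58) (kb xb12 yb8 zb11) (kb xb7 yb28 zb11) (kb xb12 yb7 zb48) (kb xb7 yb7 zb48) (kb xb5 yb46 zb23) (kb xb3 yb4 zb27)) (@D3.rec (fun _ => Pt) (kb xb3 yb4 zb28) (kb xb12 yb8 zb20) (kb xb12 yb8 zb22) (kb xb7 yb18 zb54) (kb xb3 yb4 zb30) (kb xb12 yb8 zb28) (kb xb7 yb28 zb10) (kb xb7 yb18 zb57) (kb xb7 yb13 zb29) (kb xb3 yb4 zb36) (kb xb3 yb4 zb37) (kb xb12 yb8 zb34) (kb xb12 yb8 zb36) (kb xb12 yb8 zb37) (kb xb3 yb4 zb39) (kb xb12 yb8 zb44) (kb xb11 yb59 zb16) (kb xb5 yb53 zb29)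 (kb xb3 yb4 zb45) (kb xb4 yb0 zb49) (kb xb6 yb14 zb9) (kb xb12 yb8 zb50) (kb xb5 yb37 zb60) (kb xb4 yb31 zb4) (kb xb5 yb47 zb2) (kb xb5 yb39 zb57) (kb xb5 yb37 zb36) (kb xb4 yb57 zb26) (kb xb5 yb37 zb29) (kb xb3 yb4 zb48) (kb xb9 yb44 zb34) (kb xb12 yb8 zb56) (kb xb8 yb44 zb20) (kb xb12 yb8 zb59) (kb xb3 yb4 zb51) (kb xb3 yb4 zb60) (kb xb5 yb37 zb18) (kb xb3 yb5 zb0) (kb xb3 yb4 zb57) (kb xb3 yb59 zb22) (kb xb4 yb0 zb46) (kb xb12 yb9 zb8) (kb xb12 yb9 zb5) (kb xb5 yb42 zb43) (kb xb4 yb56 zb52) (kb xb8 yb49 zb1) (kb xb6 yb30 zb37) (kb xb6 yb50 zb21) (kb xb5 yb56 zb32) (kb xb12 yb9 zb3) (kb xb12 yb9 zb4) (kb xb9 yb0 zb7) (kb xb4 yb32 zb60) (kb xb10 yb59 zb37) (kb xb5 yb37 zb56) (kb xb8 yb46 zb2) (kb xb8 yb46 zb3) (kb xb6 yb8 zb14) (kb xb3 yb5 zb8) (kb xb4 yb45 zb7) (kb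 xb8 yb46 zb5) (kb xb8 yb4 zb60)) (@D3.rec (fun _ => Pt) (kb xb8 yb12 zb23) (kb xb8 yb46 zb6) (kb xb8 yb4 zb54) (kb xb6 yb50 zb16) (kb xb3 yb8 zb43) (kb xb5 yb56 zb38) (kb xb5 yb55 zb5) (kb xb12 yb9 zb33) (kb xb5 yb5 zb58) (kb xb5 yb5 zb59) (kb xb4 yb37 zb21) (kb xb11 yb28 zb34) (kb xb5 yb53 zb61) (kb xb3 yb5 zb21) (kb xb3 yb5 zb22) (kb xb5 yb48 zb39) (kb xb5 yb48 zb41) (kb xb5 yb38 zb22) (kb xb3 yb5 zb24) (kb xb9 yb26 zb34) (kb xb4 yb39 zb57) (kb xb3 yb5 zb18) (kb xb3 yb5 zb19) (kb xb8 yb45 zb53) (kb xb5 yb42 zb37) (kb xb12 yb10 zb1) (kb xb5 yb58 zb48) (kb xb5 yb38 zb25) (kb xb7 yb12 zb7) (kb xb4 yb45 zb44) (kb xb4 yb33 zb37) (kb xb4 yb36 zb26) (kb xb4 yb56 zb43) (kb xb3 yb5 zb23) (kb xb12 yb10 zb10) (kb xb12 yb10 zb9) (kb xb9 yb16 zb12) (kb xb12 yb9 zb56) (kb xb11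 yb32 zb61) (kb xb12 yb10 zb20) (kb xb3 yb5 zb25) (kb xb7 yb42 zb8) (kb xb12 yb10 zb26) (kb xb3 yb5 zb35) (kb xb11 yb27 zb56) (kb xb3 yb5 zb28) (kb xb12 yb10 zb12) (kb xb12 yb10 zb33) (kb xb4 yb26 zb7) (kb xb3 yb5 zb30) (kb xb3 yb5 zb31) (kb xb12 yb10 zb40) (kb xb12 yb10 zb43) (kb xb9 yb18 zb1) (kb xb3 yb5 zb33) (kb xb3 yb5 zb34) (kb xb12 yb10 zb47) (kb xb12 yb10 zb48) (kb xb9 yb13 zb4) (kb xb11 yb43 zb57) (kb xb5 yb47 zb16) (kb xb5 yb46 zb61)) (@D3.rec (fun _ => Pt) (kb xb5 yb49 zb3) (kb xb5 yb38 zb35) (kb xb5 yb49 zb5) (kb xb12 yb10 zb55) (kb xb5 yb45 zb27) (kb xb8 yb14 zb49) (kb xb12 yb10 zb58) (kb xb5 yb47 zb17) (kb xb5 yb49 zb10) (kb xb5 yb49 zb11) (kb xb12 yb11 zb0) (kb xb3 yb5 zb47) (kb xb12 yb11 zb4) (kb xb5 yb37 zb37) (kb xb3 yb5 zb46) (kb xb3 yb23 zb57) (kb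 xb3 yb5 zb52) (kb xb3 yb22 zb37) (kb xb3 yb11 zb50) (kb xb12 yb11 zb7) (kb xb3 yb5 zb53) (kb xb12 yb11 zb11) (kb xb6 yb31 zb32) (kb xb6 yb9 zb53) (kb xb12 yb11 zb18) (kb xb6 yb8 zb38) (kb xb11 yb38 zb39) (kb xb12 yb11 zb24) (kb xb6 yb8 zb41) (kb xb6 yb8 zb42) (kb xb3 yb5 zb58) (kb xb12 yb11 zb33) (kb xb6 yb42 zb30) (kb xb10 yb32 zb25) (kb xb4 yb48 zb3) (kb xb4 yb41 zb10) (kb xb12 yb11 zb40) (kb xb3 yb42 zb32) (kb xb12 yb11 zb42) (kb xb6 yb57 zb58) (kb xb12 yb11 zb45) (kb xb4 yb52 zb38) (kb xb12 yb11 zb47) (kb xb12 yb11 zb49) (kb xb3 yb6 zb3) (kb xb12 yb11 zb54) (kb xb11 yb25 zb7) (kb xb3 yb6 zb5) (kb xb12 yb11 zb60) (kb xb4 yb7 zb27) (kb xb3 yb6 zb7) (kb xb3 yb6 zb8) (kb xb12 yb12 zb3) (kb xb12 yb2 zb41) (kb xb3 yb6 zb10) (kb xb12 yb12 zb5) (kb xb4 yb52 zb39) (kb xb4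 yb53 zb21) (kb xb3 yb6 zb11) (kb xb6 yb36 zb48) (kb xb12 yb12 zb10) (kb xb12 yb12 zb13)) (@D3.rec (fun _ => Pt) (kb xb12 yb12 zb16) (kb xb6 yb13 zb3) (kb xb4 yb10 zb33) (kb xb9 yb18 zb12) (kb xb8 yb48 zb19) (kb xb9 yb25 zb34) (kb xb9 yb15 zb52) (kb xb12 yb12 zb23) (kb xb3 yb6 zb20) (kb xb12 yb12 zb27) (kb xb10 yb0 zb34) (kb xb6 yb27 zb41) (kb xb12 yb12 zb32) (kb xb3 yb6 zb23) (kb xb12 yb12 zb36) (kb xb12 yb12 zb37) (kb xb6 yb30 zb29) (kb xb6 yb28 zb35) (kb xb6 yb27 zb30) (kb xb6 yb29 zb38) (kb xb12 yb12 zb42) (kb xb3 yb6 zb26) (kb xb8 yb50 zb28) (kb xb3 yb6 zb27) (kb xb12 yb12 zb49) (kb xb12 yb12 zb51) (kb xb12 yb12 zb53) (kb xb11 yb30 zb32) (kb xb12 yb12 zb59) (kb xb11 yb30 zb35) (kb xb11 yb30 zb36) (kb xb3 yb6 zb30) (kb xb12 yb13 zb1) (kb xb10 yb53 zb23) (kb xb3 yb6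 zb31) (kb xb10 yb0 zb25) (kb xb6 yb21 zb57) (kb xb6 yb30 zb16) (kb xb6 yb49 zb58) (kb xb12 yb13 zb10) (kb xb3 yb6 zb47) (kb xb12 yb13 zb12) (kb xb4 yb18 zb29) (kb xb12 yb13 zb17) (kb xb7 yb24 zb55) (kb xb12 yb13 zb20) (kb xb4 yb11 zb30) (kb xb3 yb6 zb38) (kb xb12 yb13 zb26) (kb xb12 yb13 zb31) (kb xb6 yb8 zb58) (kb xb3 yb6 zb44) (kb xb6 yb44 zb28) (kb xb3 yb6 zb46) (kb xb12 yb13 zb36) (kb xb12 yb13 zb37) (kb xb12 yb13 zb39) (kb xb12 yb13 zb41) (kb xb6 yb27 zb46) (kb xb12 yb13 zb45) (kb xb3 yb6 zb51) (kb xb12 yb13 zb50)) (@D3.rec (fun _ => Pt) (kb xb3 yb6 zb52) (kb xb6 yb29 zb20) (kb xb6 yb29 zb18) (kb xb6 yb30 zb0) (kb xb3 yb6 zb57) (kb xb9 yb21 zb58) (kb xb6 yb28 zb34) (kb xb6 yb12 zb1) (kb xb3 yb6 zb61) (kb xb6 yb29 zb36) (kb xb6 yb58 zb58) (kb xb3 yb7 zb9) (kb xb3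 yb7 zb10) (kb xb3 yb23 zb59) (kb xb3 yb9 zb4) (kb xb8 yb35 zb16) (kb xb3 yb7 zb5) (kb xb3 yb35 zb6) (kb xb3 yb7 zb6) (kb xb12 yb14 zb1) (kb xb12 yb14 zb2) (kb xb6 yb38 zb45) (kb xb6 yb38 zb46) (kb xb12 yb14 zb7) (kb xb6 yb52 zb44) (kb xb6 yb29 zb19) (kb xb3 yb7 zb16) (kb xb5 yb56 zb30) (kb xb3 yb7 zb14) (kb xb6 yb38 zb21) (kb xb12 yb14 zb13) (kb xb12 yb14 zb11) (kb xb12 yb14 zb12) (kb xb12 yb14 zb16) (kb xb11 yb40 zb40) (kb xb12 yb14 zb18) (kb xb3 yb7 zb18) (kb xb3 yb7 zb19) (kb xb12 yb14 zb20) (kb xb12 yb14 zb26) (kb xb12 yb14 zb27) (kb xb12 yb14 zb22) (kb xb9 yb13 zb51) (kb xb3 yb7 zb20) (kb xb12 yb14 zb30) (kb xb12 yb14 zb29) (kb xb3 yb7 zb21) (kb xb6 yb40 zb0) (kb xb6 yb49 zb17) (kb xb3 yb7 zb30) (kb xb3 yb7 zb28) (kb xb12 yb14 zb33) (kb xb12 yb14 zb34) (kb xb6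 yb39 zb42) (kb xb3 yb11 zb12) (kb xb3 yb8 zb21) (kb xb3 yb14 zb35) (kb xb3 yb7 zb32) (kb xb12 yb14 zb39) (kb xb12 yb14 zb40) (kb xb3 yb7 zb38) (kb xb12 yb14 zb43)) (@D3.rec (fun _ => Pt) (kb xb3 yb7 zb36) (kb xb7 yb31 zb41) (kb xb12 yb14 zb50) (kb xb12 yb14 zb47) (kb xb6 yb39 zb55) (kb xb12 yb14 zb54) (kb xb3 yb8 zb36) (kb xb3 yb15 zb37) (kb xb12 yb14 zb57) (kb xb9 yb9 zb21) (kb xb3 yb25 zb29) (kb xb3 yb7 zb40) (kb xb3 yb7 zb41) (kb xb12 yb12 zb35) (kb xb12 yb15 zb2) (kb xb12 yb15 zb8) (kb xb11 yb48 zb56) (kb xb3 yb7 zb44) (kb xb9 yb10 zb10) (kb xb12 yb15 zb10) (kb xb12 yb15 zb11) (kb xb3 yb7 zb45) (kb xb12 yb15 zb17) (kb xb3 yb20 zb21) (kb xb12 yb15 zb21) (kb xb9 yb11 zb6) (kb xb9 yb42 zb40) (kb xb11 yb49 zb5) (kb xb3 yb7 zb48) (kb xb6 yb32 zb21) (kb xb12 yb15 zb30)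 (kb xb3 yb7 zb49) (kb xb12 yb15 zb34) (kb xb12 yb15 zb35) (kb xb12 yb15 zb37) (kb xb11 yb49 zb13) (kb xb3 yb8 zb37) (kb xb9 yb15 zb45) (kb xb7 yb32 zb53) (kb xb3 yb7 zb54) (kb xb3 yb7 zb55) (kb xb12 yb15 zb43) (kb xb7 yb44 zb31) (kb xb7 yb44 zb32) (kb xb3 yb8 zb24) (kb xb6 yb59 zb1) (kb xb12 yb15 zb46) (kb xb3 yb7 zb58) (kb xb3 yb7 zb57) (kb xb12 yb15 zb52) (kb xb3 yb7 zb59) (kb xb12 yb15 zb55) (kb xb9 yb15 zb46) (kb xb3 yb31 zb4) (kb xb6 yb59 zb4) (kb xb8 yb17 zb46) (kb xb3 yb8 zb8) (kb xb12 yb16 zb0) (kb xb3 yb9 zb11) (kb xb8 yb31 zb46) (kb xb3 yb8 zb10) (kb xb3 yb9 zb19)) (@D3.rec (fun _ => Pt) (kb xb4 yb43 zb28) (kb xb9 yb35 zb29) (kb xb12 yb16 zb6) (kb xb9 yb36 zb60) (kb xb3 yb8 zb12) (kb xb11 yb43 zb15) (kb xb6 yb23 zb9) (kb xb3 yb8 zb14) (kb xb11 yb45 zb58) (kb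 xb4 yb59 zb47) (kb xb4 yb59 zb51) (kb xb3 yb8 zb17) (kb xb12 yb16 zb26) (kb xb12 yb16 zb25) (kb xb12 yb16 zb30) (kb xb7 yb20 zb4) (kb xb12 yb16 zb36) (kb xb3 yb8 zb23) (kb xb9 yb19 zb4) (kb xb3 yb8 zb22) (kb xb12 yb16 zb41) (kb xb12 yb16 zb42) (kb xb12 yb16 zb43) (kb xb8 yb23 zb38) (kb xb12 yb16 zb46) (kb xb6 yb49 zb55) (kb xb12 yb16 zb49) (kb xb3 yb8 zb26) (kb xb12 yb16 zb51) (kb xb12 yb16 zb52) (kb xb12 yb15 zb49) (kb xb12 yb16 zb57) (kb xb12 yb16 zb61) (kb xb3 yb8 zb35) (kb xb9 yb27 zb7) (kb xb6 yb30 zb13) (kb xb12 yb17 zb2) (kb xb5 yb50 zb28) (kb xb3 yb8 zb30) (kb xb3 yb8 zb31) (kb xb6 yb30 zb36) (kb xb11 yb30 zb5) (kb xb12 yb17 zb9) (kb xb11 yb10 zb43) (kb xb12 yb17 zb11) (kb xb12 yb17 zb13) (kb xb3 yb8 zb34) (kb xb12 yb17 zb18) (kb xb12 yb17 zb19) (kb xb12 yb17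 zb21) (kb xb4 yb11 zb51) (kb xb12 yb17 zb24) (kb xb9 yb18 zb35) (kb xb6 yb37 zb1) (kb xb12 yb17 zb28) (kb xb3 yb8 zb39) (kb xb11 yb28 zb25) (kb xb6 yb18 zb36) (kb xb12 yb15 zb40) (kb xb12 yb17 zb37) (kb xb3 yb8 zb46) (kb xb8 yb35 zb41)) (@D3.rec (fun _ => Pt) (kb xb3 yb8 zb47) (kb xb12 yb17 zb43) (kb xb4 yb59 zb36) (kb xb3 yb8 zb44) (kb xb12 yb9 zb31) (kb xb12 yb17 zb48) (kb xb12 yb9 zb43) (kb xb3 yb8 zb45) (kb xb12 yb17 zb52) (kb xb12 yb17 zb53) (kb xb12 yb17 zb54) (kb xb6 yb49 zb56) (kb xb12 yb17 zb56) (kb xb3 yb8 zb49) (kb xb12 yb17 zb59) (kb xb6 yb58 zb59) (kb xb12 yb17 zb61) (kb xb3 yb8 zb52) (kb xb12 yb18 zb4) (kb xb3 yb8 zb53) (kb xb12 yb18 zb8) (kb xb3 yb8 zb54) (kb xb4 yb55 zb50) (kb xb12 yb18 zb14) (kb xb12 yb18 zb18) (kb xb9 yb18 zb48) (kb xb3 yb8 zb56) (kb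 xb12 yb18 zb25) (kb xb12 yb18 zb27) (kb xb12 yb18 zb28) (kb xb12 yb18 zb24) (kb xb9 yb36 zb45) (kb xb12 yb18 zb32) (kb xb12 yb18 zb34) (kb xb7 yb20 zb8) (kb xb8 yb20 zb57) (kb xb12 yb18 zb40) (kb xb3 yb8 zb61) (kb xb12 yb18 zb45) (kb xb12 yb18 zb48) (kb xb12 yb18 zb51) (kb xb9 yb18 zb54) (kb xb3 yb9 zb2) (kb xb12 yb18 zb57) (kb xb4 yb18 zb51) (kb xb12 yb18 zb59) (kb xb4 yb11 zb52) (kb xb12 yb19 zb0) (kb xb9 yb18 zb56) (kb xb12 yb19 zb4) (kb xb3 yb53 zb39) (kb xb12 yb19 zb7) (kb xb12 yb19 zb9) (kb xb3 yb9 zb7) (kb xb12 yb19 zb15) (kb xb12 yb19 zb16) (kb xb9 yb18 zb61) (kb xb12 yb15 zb60) (kb xb3 yb9 zb13) (kb xb12 yb19 zb28) (kb xb12 yb19 zb31) (kb xb9 yb19 zb2)) (@D3.rec (fun _ => Pt) (kb xb3 yb9 zb10) (kb xb12 yb19 zb39) (kb xb12 yb19 zb40) (kb xb12 yb19 zb37) (kb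 xb12 yb19 zb38) (kb xb12 yb19 zb41) (kb xb4 yb12 zb1) (kb xb12 yb19 zb43) (kb xb12 yb19 zb44) (kb xb6 yb21 zb6) (kb xb12 yb19 zb48) (kb xb12 yb19 zb49) (kb xb3 yb9 zb15) (kb xb12 yb19 zb53) (kb xb12 yb19 zb54) (kb xb6 yb26 zb51) (kb xb12 yb20 zb0) (kb xb3 yb9 zb21) (kb xb12 yb20 zb2) (kb xb8 yb41 zb28) (kb xb6 yb27 zb61) (kb xb3 yb9 zb18) (kb xb12 yb20 zb7) (kb xb12 yb20 zb8) (kb xb4 yb12 zb2) (kb xb6 yb48 zb47) (kb xb12 yb20 zb9) (kb xb3 yb9 zb22) (kb xb12 yb20 zb17) (kb xb12 yb20 zb14) (kb xb12 yb20 zb15) (kb xb12 yb20 zb16) (kb xb3 yb9 zb23) (kb xb4 yb11 zb31) (kb xb12 yb20 zb28) (kb xb12 yb20 zb29) (kb xb8 yb24 zb5) (kb xb12 yb20 zb37) (kb xb12 yb20 zb40) (kb xb3 yb11 zb5) (kb xb3 yb9 zb27) (kb xb12 yb20 zb48) (kb xb12 yb20 zb49) (kb xb12 yb20 zb47) (kb xb12 yb20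 zb50) (kb xb12 yb20 zb51) (kb xb4 yb53 zb32) (kb xb3 yb9 zb29) (kb xb5 yb44 zb43) (kb xb3 yb9 zb30) (kb xb12 yb20 zb55) (kb xb12 yb20 zb54) (kb xb3 yb42 zb34) (kb xb12 yb20 zb57) (kb xb12 yb20 zb59) (kb xb12 yb20 zb61) (kb xb3 yb9 zb34) (kb xb12 yb21 zb3) (kb xb12 yb21 zb4) (kb xb12 yb21 zb8) (kb xb12 yb21 zb11) (kb xb7 yb11 zb43)) (@D3.rec (fun _ => Pt) (kb xb3 yb9 zb37) (kb xb12 yb21 zb17) (kb xb4 yb53 zb43) (kb xb12 yb21 zb19) (kb xb9 yb19 zb13) (kb xb12 yb21 zb23) (kb xb3 yb9 zb42) (kb xb12 yb21 zb28) (kb xb12 yb21 zb29) (kb xb12 yb21 zb21) (kb xb8 yb23 zb54) (kb xb3 yb9 zb48) (kb xb12 yb21 zb38) (kb xb12 yb21 zb41) (kb xb9 yb19 zb20) (kb xb3 yb9 zb45) (kb xb9 yb31 zb33) (kb xb3 yb9 zb46) (kb xb9 yb37 zb27) (kb xb3 yb9 zb47) (kb xb12 yb21 zb52) (kb xb12 yb21 zb53)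 (kb xb11 yb34 zb8) (kb xb11 yb24 zb52) (kb xb3 yb9 zb52) (kb xb3 yb9 zb53) (kb xb5 yb47 zb53) (kb xb3 yb16 zb32) (kb xb12 yb21 zb58) (kb xb8 yb38 zb61) (kb xb8 yb43 zb25) (kb xb3 yb9 zb55) (kb xb3 yb9 zb56) (kb xb11 yb18 zb55) (kb xb12 yb22 zb3) (kb xb12 yb22 zb4) (kb xb4 yb56 zb39) (kb xb12 yb22 zb6) (kb xb8 yb46 zb12) (kb xb9 yb25 zb32) (kb xb7 yb19 zb11) (kb xb12 yb22 zb16) (kb xb12 yb22 zb20) (kb xb3 yb10 zb2) (kb xb3 yb10 zb3) (kb xb4 yb24 zb47) (kb xb7 yb56 zb41) (kb xb3 yb10 zb0) (kb xb12 yb22 zb29) (kb xb10 yb57 zb12) (kb xb3 yb10 zb1) (kb xb12 yb22 zb37) (kb xb12 yb22 zb38) (kb xb12 yb22 zb28) (kb xb3 yb44 zb4) (kb xb12 yb22 zb24) (kb xb11 yb17 zb28) (kb xb11 yb17 zb48) (kb xb12 yb22 zb56) (kb xb8 yb2 zb23) (kb xb12 yb23 zb0) (kb xb7 yb22 zb48)) (@D3.rec (fun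 _ => Pt) (kb xb11 yb23 zb47) (kb xb12 yb23 zb4) (kb xb6 yb14 zb34) (kb xb11 yb28 zb14) (kb xb4 yb25 zb41) (kb xb12 yb23 zb11) (kb xb8 yb46 zb38) (kb xb12 yb23 zb16) (kb xb3 yb30 zb13) (kb xb6 yb39 zb2) (kb xb5 yb54 zb29) (kb xb6 yb8 zb23) (kb xb4 yb59 zb25) (kb xb6 yb14 zb29) (kb xb6 yb14 zb31) (kb xb3 yb10 zb17) (kb xb6 yb38 zb52) (kb xb12 yb23 zb25) (kb xb5 yb54 zb37) (kb xb5 yb43 zb27) (kb xb11 yb40 zb37) (kb xb12 yb23 zb35) (kb xb9 yb12 zb13) (kb xb3 yb10 zb21) (kb xb7 yb36 zb16) (kb xb5 yb6 zb52) (kb xb6 yb31 zb8) (kb xb11 yb43 zb44) (kb xb9 yb12 zb50) (kb xb7 yb14 zb5) (kb xb12 yb23 zb45) (kb xb5 yb41 zb15) (kb xb12 yb23 zb46) (kb xb5 yb47 zb23) (kb xb12 yb23 zb49) (kb xb5 yb54 zb12) (kb xb4 yb38 zb0) (kb xb3 yb10 zb34) (kb xb3 yb16 zb29) (kb xb6 yb10 zb18) (kb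 xb6 yb12 zb23) (kb xb6 yb9 zb50) (kb xb6 yb11 zb35) (kb xb3 yb43 zb15) (kb xb11 yb49 zb26) (kb xb12 yb23 zb56) (kb xb3 yb10 zb39) (kb xb3 yb10 zb40) (kb xb3 yb10 zb41) (kb xb3 yb10 zb42) (kb xb6 yb56 zb38) (kb xb9 yb18 zb11) (kb xb3 yb10 zb44) (kb xb12 yb24 zb3) (kb xb12 yb24 zb4) (kb xb9 yb8 zb1) (kb xb6 yb50 zb28) (kb xb11 yb48 zb11) (kb xb3 yb22 zb60) (kb xb3 yb15 zb14) (kb xb3 yb10 zb47) (kb xb3 yb10 zb49)) (@D3.rec (fun _ => Pt) (kb xb11 yb57 zb51) (kb xb3 yb23 zb15) (kb xb12 yb24 zb13) (kb xb6 yb30 zb47) (kb xb11 yb48 zb17) (kb xb3 yb10 zb52) (kb xb12 yb24 zb17) (kb xb12 yb24 zb18) (kb xb12 yb24 zb19) (kb xb3 yb10 zb53) (kb xb12 yb24 zb23) (kb xb3 yb10 zb57) (kb xb4 yb52 zb23) (kb xb12 yb24 zb25) (kb xb3 yb10 zb59) (kb xb12 yb24 zb30) (kb xb3 yb13 zb39) (kb xb3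 yb11 zb0) (kb xb3 yb34 zb24) (kb xb12 yb24 zb34) (kb xb3 yb11 zb2) (kb xb3 yb11 zb3) (kb xb12 yb24 zb40) (kb xb12 yb24 zb44) (kb xb12 yb23 zb61) (kb xb12 yb20 zb44) (kb xb10 yb4 zb33) (kb xb6 yb59 zb29) (kb xb3 yb11 zb8) (kb xb12 yb24 zb52) (kb xb12 yb16 zb11) (kb xb12 yb24 zb57) (kb xb12 yb24 zb60) (kb xb12 yb25 zb0) (kb xb4 yb59 zb27) (kb xb3 yb11 zb11) (kb xb12 yb25 zb7) (kb xb12 yb25 zb9) (kb xb12 yb25 zb11) (kb xb12 yb25 zb13) (kb xb12 yb25 zb14) (kb xb3 yb11 zb14) (kb xb12 yb25 zb18) (kb xb12 yb25 zb19) (kb xb6 yb50 zb53) (kb xb12 yb25 zb22) (kb xb6 yb50 zb10) (kb xb3 yb42 zb8) (kb xb3 yb11 zb17) (kb xb12 yb25 zb25) (kb xb12 yb14 zb32) (kb xb6 yb23 zb15) (kb xb12 yb25 zb33) (kb xb6 yb50 zb47) (kb xb3 yb11 zb24) (kb xb11 yb33 zb30) (kb xb5 yb48 zb54) (kb xb3 yb11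 zb21) (kb xb3 yb11 zb22) (kb xb12 yb25 zb44) (kb xb12 yb25 zb40) (kb xb12 yb25 zb43)) (@D3.rec (fun _ => Pt) (kb xb3 yb11 zb23) (kb xb12 yb25 zb48) (kb xb12 yb25 zb49) (kb xb9 yb20 zb20) (kb xb12 yb25 zb53) (kb xb3 yb11 zb27) (kb xb3 yb11 zb28) (kb xb3 yb11 zb26) (kb xb12 yb25 zb58) (kb xb6 yb50 zb11) (kb xb7 yb26 zb6) (kb xb3 yb11 zb31) (kb xb3 yb11 zb30) (kb xb12 yb26 zb1) (kb xb12 yb26 zb2) (kb xb3 yb11 zb32) (kb xb11 yb21 zb38) (kb xb3 yb11 zb33) (kb xb11 yb48 zb46) (kb xb12 yb26 zb10) (kb xb12 yb26 zb13) (kb xb12 yb26 zb18) (kb xb9 yb20 zb27) (kb xb3 yb11 zb35) (kb xb3 yb11 zb36) (kb xb12 yb26 zb26) (kb xb12 yb26 zb27) (kb xb12 yb26 zb25) (kb xb3 yb15 zb49) (kb xb12 yb26 zb30) (kb xb6 yb18 zb18) (kb xb12 yb26 zb34) (kb xb7 yb11 zb46) (kb xb3 yb11 zb41) (kb xb12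 yb26 zb35) (kb xb8 yb23 zb26) (kb xb12 yb26 zb37) (kb xb12 yb26 zb38) (kb xb3 yb11 zb42) (kb xb12 yb26 zb42) (kb xb12 yb26 zb43) (kb xb6 yb18 zb11) (kb xb4 yb18 zb26) (kb xb3 yb11 zb48) (kb xb12 yb26 zb49) (kb xb12 yb26 zb52) (kb xb6 yb18 zb58) (kb xb3 yb11 zb45) (kb xb12 yb26 zb58) (kb xb12 yb26 zb59) (kb xb12 yb26 zb61) (kb xb12 yb27 zb0) (kb xb12 yb11 zb5) (kb xb12 yb27 zb2) (kb xb7 yb20 zb12) (kb xb8 yb22 zb50) (kb xb12 yb27 zb9) (kb xb3 yb11 zb52) (kb xb12 yb27 zb14) (kb xb12 yb27 zb16) (kb xb12 yb27 zb18) (kb xb6 yb23 zb20)) (@D3.rec (fun _ => Pt) (kb xb3 yb11 zb54) (kb xb12 yb27 zb25) (kb xb12 yb27 zb22) (kb xb3 yb11 zb55) (kb xb12 yb27 zb31) (kb xb3 yb11 zb57) (kb xb12 yb27 zb33) (kb xb3 yb11 zb58) (kb xb12 yb27 zb36) (kb xb8 yb19 zb14) (kb xb12 yb27 zb38) (kb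 xb12 yb27 zb39) (kb xb12 yb27 zb43) (kb xb12 yb27 zb46) (kb xb3 yb12 zb5) (kb xb6 yb11 zb2) (kb xb12 yb27 zb48) (kb xb5 yb58 zb30) (kb xb3 yb45 zb21) (kb xb3 yb12 zb13) (kb xb3 yb12 zb7) (kb xb3 yb12 zb10) (kb xb12 yb27 zb54) (kb xb9 yb11 zb39) (kb xb3 yb16 zb9) (kb xb10 yb6 zb25) (kb xb12 yb27 zb57) (kb xb12 yb27 zb53) (kb xb12 yb27 zb58) (kb xb3 yb13 zb5) (kb xb9 yb17 zb21) (kb xb3 yb45 zb12) (kb xb3 yb12 zb15) (kb xb12 yb28 zb0) (kb xb6 yb19 zb6) (kb xb6 yb18 zb17) (kb xb3 yb12 zb22) (kb xb3 yb12 zb23) (kb xb10 yb6 zb35) (kb xb3 yb16 zb11) (kb xb3 yb12 zb18) (kb xb3 yb12 zb19) (kb xb12 yb28 zb3) (kb xb12 yb28 zb11) (kb xb12 yb28 zb12) (kb xb12 yb28 zb6) (kb xb12 yb28 zb7) (kb xb9 yb15 zb37) (kb xb11 yb10 zb42) (kb xb3 yb13 zb15) (kb xb3 yb15 zb31) (kb xb12 yb28 zb16)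 (kb xb4 yb37 zb56) (kb xb3 yb25 zb31) (kb xb3 yb12 zb25) (kb xb3 yb12 zb26) (kb xb12 yb28 zb19) (kb xb12 yb28 zb20) (kb xb10 yb6 zb4) (kb xb12 yb28 zb21) (kb xb6 yb37 zb41) (kb xb3 yb12 zb29)) (@D3.rec (fun _ => Pt) (kb xb4 yb37 zb50) (kb xb12 yb28 zb24) (kb xb12 yb28 zb25) (kb xb3 yb12 zb30) (kb xb12 yb28 zb30) (kb xb12 yb28 zb31) (kb xb3 yb45 zb16) (kb xb7 yb32 zb19) (kb xb3 yb12 zb33) (kb xb3 yb12 zb34) (kb xb3 yb12 zb32) (kb xb12 yb28 zb42) (kb xb12 yb28 zb43) (kb xb3 yb13 zb2) (kb xb12 yb28 zb47) (kb xb12 yb28 zb41) (kb xb3 yb12 zb35) (kb xb12 yb28 zb50) (kb xb6 yb19 zb2) (kb xb6 yb19 zb25) (kb xb6 yb19 zb1) (kb xb11 yb18 zb56) (kb xb5 yb56 zb8) (kb xb11 yb24 zb18) (kb xb12 yb28 zb60) (kb xb12 yb29 zb1) (kb xb11 yb24 zb21) (kb xb11 yb24 zb22) (kb xb3 yb12 zb39)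 (kb xb12 yb29 zb5) (kb xb12 yb28 zb40) (kb xb3 yb12 zb40) (kb xb10 yb14 zb35) (kb xb3 yb12 zb50) (kb xb3 yb12 zb46) (kb xb12 yb29 zb9) (kb xb6 yb19 zb9) (kb xb3 yb45 zb26) (kb xb6 yb18 zb19) (kb xb5 yb52 zb42) (kb xb6 yb7 zb24) (kb xb12 yb29 zb16) (kb xb11 yb24 zb60) (kb xb10 yb17 zb55) (kb xb5 yb55 zb28) (kb xb9 yb18 zb38) (kb xb3 yb12 zb51) (kb xb12 yb29 zb23) (kb xb12 yb15 zb48) (kb xb12 yb28 zb39) (kb xb11 yb10 zb46) (kb xb12 yb29 zb26) (kb xb6 yb49 zb23) (kb xb6 yb49 zb24) (kb xb3 yb12 zb58) (kb xb12 yb29 zb31) (kb xb12 yb29 zb32) (kb xb12 yb28 zb38) (kb xb6 yb50 zb46) (kb xb12 yb29 zb40) (kb xb3 yb13 zb4) (kb xb12 yb28 zb1)) (@D3.rec (fun _ => Pt) (kb xb6 yb19 zb3) (kb xb3 yb13 zb6) (kb xb12 yb29 zb41) (kb xb5 yb52 zb43) (kb xb3 yb13 zb0) (kb xb12 yb29 zb47) (kb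 xb3 yb13 zb3) (kb xb12 yb29 zb50) (kb xb3 yb45 zb36) (kb xb3 yb45 zb37) (kb xb3 yb13 zb9) (kb xb11 yb50 zb26) (kb xb10 yb18 zb38) (kb xb6 yb21 zb35) (kb xb12 yb28 zb37) (kb xb10 yb18 zb8) (kb xb6 yb18 zb37) (kb xb12 yb27 zb50) (kb xb3 yb13 zb16) (kb xb3 yb13 zb17) (kb xb12 yb30 zb1) (kb xb4 yb59 zb3) (kb xb3 yb13 zb13) (kb xb3 yb13 zb14) (kb xb12 yb30 zb11) (kb xb12 yb30 zb10) (kb xb12 yb30 zb12) (kb xb3 yb21 zb22) (kb xb3 yb13 zb40) (kb xb6 yb18 zb16) (kb xb12 yb27 zb60) (kb xb3 yb13 zb24) (kb xb4 yb58 zb43) (kb xb3 yb13 zb23) (kb xb12 yb30 zb15) (kb xb6 yb44 zb15) (kb xb6 yb21 zb40) (kb xb6 yb15 zb46) (kb xb5 yb51 zb59) (kb xb3 yb13 zb27) (kb xb3 yb13 zb28) (kb xb12 yb30 zb19) (kb xb3 yb36 zb42) (kb xb6 yb33 zb61) (kb xb6 yb34 zb0) (kb xb3 yb13 zb33) (kb xb12 yb30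 zb21) (kb xb6 yb26 zb3) (kb xb9 yb25 zb14) (kb xb9 yb25 zb15) (kb xb7 yb26 zb49) (kb xb3 yb13 zb37) (kb xb11 yb23 zb59) (kb xb11 yb21 zb14) (kb xb9 yb10 zb28) (kb xb12 yb30 zb27) (kb xb12 yb30 zb28) (kb xb12 yb30 zb32) (kb xb9 yb20 zb52) (kb xb9 yb20 zb53) (kb xb12 yb30 zb36) (kb xb8 yb34 zb44)) (@D3.rec (fun _ => Pt) (kb xb12 yb30 zb39) (kb xb12 yb30 zb40) (kb xb12 yb30 zb42) (kb xb3 yb13 zb42) (kb xb12 yb30 zb46) (kb xb3 yb13 zb43) (kb xb12 yb30 zb50) (kb xb6 yb7 zb51) (kb xb6 yb25 zb26) (kb xb4 yb41 zb36) (kb xb12 yb30 zb54) (kb xb12 yb30 zb56) (kb xb3 yb13 zb49) (kb xb12 yb30 zb61) (kb xb12 yb30 zb60) (kb xb12 yb31 zb2) (kb xb3 yb14 zb22) (kb xb3 yb14 zb23) (kb xb12 yb28 zb29) (kb xb3 yb13 zb53) (kb xb3 yb13 zb54) (kb xb11 yb24 zb49) (kb xb7 yb27 zb10) (kb xb3 yb13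 zb56) (kb xb3 yb13 zb57) (kb xb12 yb31 zb9) (kb xb12 yb10 zb36) (kb xb12 yb31 zb6) (kb xb12 yb31 zb13) (kb xb12 yb31 zb15) (kb xb3 yb13 zb58) (kb xb11 yb47 zb6) (kb xb6 yb17 zb22) (kb xb3 yb14 zb3) (kb xb12 yb31 zb17) (kb xb5 yb50 zb0) (kb xb6 yb44 zb34) (kb xb5 yb56 zb39) (kb xb5 yb6 zb38) (kb xb6 yb8 zb7) (kb xb12 yb31 zb19) (kb xb9 yb21 zb16) (kb xb9 yb17 zb1) (kb xb12 yb31 zb22) (kb xb6 yb41 zb61) (kb xb10 yb6 zb40) (kb xb12 yb31 zb27) (kb xb7 yb27 zb25) (kb xb3 yb14 zb5) (kb xb3 yb14 zb6) (kb xb12 yb31 zb34) (kb xb12 yb31 zb37) (kb xb12 yb31 zb39) (kb xb5 yb14 zb48) (kb xb7 yb27 zb20) (kb xb3 yb14 zb8) (kb xb3 yb14 zb9) (kb xb12 yb31 zb40) (kb xb12 yb31 zb41) (kb xb10 yb6 zb58) (kb xb3 yb14 zb10) (kb xb12 yb31 zb46)) (@D3.rec (fun _ => Pt) (kb xb3 yb14 zb11) (kb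 xb12 yb31 zb49) (kb xb12 yb31 zb53) (kb xb5 yb41 zb13) (kb xb11 yb31 zb21) (kb xb3 yb14 zb13) (kb xb12 yb32 zb0) (kb xb12 yb32 zb1) (kb xb11 yb27 zb50) (kb xb11 yb31 zb51) (kb xb12 yb32 zb7) (kb xb10 yb49 zb42) (kb xb12 yb32 zb11) (kb xb11 yb22 zb42) (kb xb3 yb14 zb19) (kb xb3 yb14 zb20) (kb xb3 yb14 zb18) (kb xb12 yb32 zb16) (kb xb12 yb32 zb17) (kb xb4 yb45 zb27) (kb xb12 yb32 zb22) (kb xb6 yb20 zb29) (kb xb4 yb13 zb21) (kb xb8 yb21 zb6) (kb xb3 yb14 zb21) (kb xb11 yb9 zb56) (kb xb11 yb9 zb58) (kb xb12 yb32 zb28) (kb xb4 yb48 zb26) (kb xb12 yb32 zb31) (kb xb11 yb39 zb52) (kb xb11 yb39 zb53) (kb xb12 yb32 zb42) (kb xb12 yb4 zb15) (kb xb3 yb14 zb29) (kb xb3 yb14 zb27) (kb xb11 yb39 zb58) (kb xb11 yb39 zb59) (kb xb12 yb32 zb51) (kb xb3 yb14 zb34) (kb xb3 yb14 zb33) (kb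 xb12 yb32 zb53) (kb xb3 yb18 zb7) (kb xb9 yb26 zb59) (kb xb3 yb14 zb36) (kb xb12 yb32 zb56) (kb xb12 yb32 zb57) (kb xb7 yb30 zb52) (kb xb3 yb14 zb39) (kb xb12 yb33 zb0) (kb xb12 yb33 zb1) (kb xb3 yb14 zb45) (kb xb12 yb33 zb5) (kb xb12 yb33 zb7) (kb xb6 yb0 zb1) (kb xb3 yb14 zb43) (kb xb3 yb14 zb44) (kb xb12 yb33 zb9) (kb xb12 yb33 zb11) (kb xb7 yb26 zb54) (kb xb12 yb33 zb17) (kb xb12 yb33 zb18)) (@D3.rec (fun _ => Pt) (kb xb7 yb26 zb14) (kb xb12 yb33 zb19) (kb xb4 yb52 zb35) (kb xb12 yb33 zb22) (kb xb12 yb33 zb25) (kb xb3 yb14 zb48) (kb xb12 yb33 zb30) (kb xb7 yb31 zb40) (kb xb7 yb37 zb42) (kb xb3 yb14 zb50) (kb xb12 yb33 zb37) (kb xb3 yb14 zb51) (kb xb12 yb33 zb43) (kb xb12 yb33 zb45) (kb xb6 yb56 zb23) (kb xb6 yb56 zb24) (kb xb12 yb33 zb48) (kb xb7 yb27 zb5) (kb xb12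 yb33 zb52) (kb xb3 yb14 zb57) (kb xb11 yb16 zb19) (kb xb12 yb33 zb53) (kb xb12 yb33 zb55) (kb xb3 yb50 zb33) (kb xb3 yb14 zb61) (kb xb6 yb55 zb57) (kb xb12 yb2 zb34) (kb xb9 yb17 zb47) (kb xb12 yb33 zb59) (kb xb3 yb15 zb1) (kb xb11 yb32 zb19) (kb xb12 yb34 zb4) (kb xb7 yb35 zb12) (kb xb3 yb46 zb37) (kb xb12 yb34 zb7) (kb xb3 yb29 zb15) (kb xb11 yb30 zb14) (kb xb11 yb35 zb55) (kb xb11 yb35 zb56) (kb xb12 yb34 zb13) (kb xb12 yb34 zb16) (kb xb3 yb15 zb8) (kb xb12 yb34 zb21) (kb xb12 yb34 zb22) (kb xb12 yb34 zb25) (kb xb4 yb17 zb53) (kb xb11 yb49 zb4) (kb xb3 yb16 zb7) (kb xb8 yb35 zb53) (kb xb12 yb34 zb30) (kb xb3 yb19 zb56) (kb xb3 yb15 zb13) (kb xb12 yb34 zb36) (kb xb12 yb24 zb9) (kb xb12 yb24 zb10) (kb xb12 yb15 zb4) (kb xb11 yb40 zb38) (kb xb12 yb12 zb48) (kb xb3 yb15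 zb18) (kb xb11 yb37 zb15) (kb xb6 yb47 zb60) (kb xb6 yb30 zb43)) (@D3.rec (fun _ => Pt) (kb xb6 yb30 zb44) (kb xb3 yb25 zb27) (kb xb3 yb15 zb26) (kb xb3 yb35 zb33) (kb xb7 yb4 zb32) (kb xb3 yb44 zb55) (kb xb12 yb34 zb51) (kb xb3 yb29 zb59) (kb xb3 yb15 zb24) (kb xb12 yb34 zb56) (kb xb6 yb57 zb45) (kb xb7 yb18 zb3) (kb xb7 yb41 zb10) (kb xb7 yb31 zb22) (kb xb3 yb15 zb28) (kb xb3 yb15 zb29) (kb xb12 yb35 zb1) (kb xb12 yb35 zb3) (kb xb7 yb31 zb27) (kb xb3 yb15 zb32) (kb xb6 yb44 zb23) (kb xb9 yb10 zb0) (kb xb12 yb35 zb8) (kb xb3 yb15 zb33) (kb xb12 yb35 zb12) (kb xb12 yb1 zb37) (kb xb12 yb15 zb12) (kb xb12 yb35 zb15) (kb xb3 yb15 zb41) (kb xb3 yb15 zb36) (kb xb12 yb35 zb21) (kb xb12 yb14 zb56) (kb xb10 yb13 zb44) (kb xb12 yb35 zb30) (kb xb11 yb48 zb59) (kb xb9 yb31 zb32)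 (kb xb11 yb31 zb56) (kb xb11 yb31 zb57) (kb xb3 yb15 zb40) (kb xb8 yb25 zb37) (kb xb12 yb35 zb43) (kb xb12 yb35 zb47) (kb xb12 yb20 zb24) (kb xb12 yb35 zb53) (kb xb3 yb15 zb42) (kb xb12 yb35 zb57) (kb xb12 yb35 zb58) (kb xb12 yb36 zb0) (kb xb9 yb17 zb36) (kb xb6 yb42 zb40) (kb xb6 yb35 zb48) (kb xb5 yb8 zb0) (kb xb12 yb14 zb0) (kb xb3 yb15 zb47) (kb xb6 yb51 zb51) (kb xb3 yb29 zb51) (kb xb12 yb26 zb29) (kb xb6 yb36 zb53) (kb xb7 yb31 zb31) (kb xb6 yb44 zb24) (kb xb9 yb10 zb1) (kb xb11 yb37 zb20)) (@D3.rec (fun _ => Pt) (kb xb12 yb36 zb9) (kb xb9 yb10 zb4) (kb xb3 yb51 zb15) (kb xb3 yb15 zb55) (kb xb11 yb42 zb6) (kb xb9 yb10 zb7) (kb xb3 yb15 zb56) (kb xb12 yb15 zb0) (kb xb12 yb36 zb10) (kb xb11 yb17 zb9) (kb xb12 yb36 zb15) (kb xb3 yb15 zb57) (kb xb12 yb36 zb30) (kb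 xb3 yb20 zb19) (kb xb3 yb16 zb43) (kb xb3 yb15 zb60) (kb xb3 yb15 zb61) (kb xb12 yb36 zb33) (kb xb12 yb36 zb40) (kb xb11 yb29 zb1) (kb xb12 yb36 zb36) (kb xb12 yb36 zb37) (kb xb12 yb36 zb46) (kb xb9 yb22 zb52) (kb xb4 yb44 zb13) (kb xb8 yb22 zb13) (kb xb3 yb16 zb3) (kb xb3 yb16 zb6) (kb xb5 yb56 zb43) (kb xb12 yb36 zb60) (kb xb12 yb36 zb56) (kb xb12 yb36 zb57) (kb xb9 yb22 zb59) (kb xb12 yb37 zb7) (kb xb3 yb18 zb43) (kb xb6 yb12 zb52) (kb xb12 yb11 zb61) (kb xb9 yb11 zb48) (kb xb12 yb23 zb40) (kb xb3 yb16 zb12) (kb xb12 yb28 zb2) (kb xb12 yb37 zb19) (kb xb3 yb16 zb13) (kb xb11 yb43 zb59) (kb xb10 yb5 zb59) (kb xb12 yb37 zb27) (kb xb3 yb16 zb14) (kb xb9 yb23 zb48) (kb xb6 yb34 zb50) (kb xb12 yb37 zb35) (kb xb3 yb17 zb48) (kb xb3 yb17 zb49) (kb xb12 yb37 zb47) (kb xb12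 yb36 zb27) (kb xb3 yb16 zb18) (kb xb12 yb37 zb52) (kb xb12 yb37 zb56) (kb xb3 yb16 zb21) (kb xb3 yb16 zb22) (kb xb4 yb43 zb9) (kb xb12 yb1 zb61) (kb xb12 yb37 zb50)) (@D3.rec (fun _ => Pt) (kb xb12 yb37 zb51) (kb xb9 yb59 zb10) (kb xb3 yb16 zb20) (kb xb12 yb38 zb13) (kb xb12 yb38 zb14) (kb xb12 yb38 zb17) (kb xb12 yb38 zb20) (kb xb6 yb14 zb22) (kb xb12 yb37 zb61) (kb xb12 yb38 zb24) (kb xb3 yb16 zb24) (kb xb12 yb38 zb28) (kb xb12 yb38 zb31) (kb xb3 yb16 zb26) (kb xb12 yb38 zb34) (kb xb12 yb38 zb35) (kb xb3 yb16 zb28) (kb xb12 yb38 zb40) (kb xb3 yb19 zb33) (kb xb4 yb17 zb54) (kb xb3 yb16 zb30) (kb xb9 yb58 zb44) (kb xb12 yb38 zb42) (kb xb9 yb49 zb41) (kb xb12 yb38 zb39) (kb xb3 yb16 zb33) (kb xb12 yb21 zb59) (kb xb12 yb38 zb52) (kb xb10 yb27 zb37) (kb xb12 yb38 zb47)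 (kb xb12 yb38 zb57) (kb xb9 yb24 zb57) (kb xb11 yb49 zb24) (kb xb3 yb19 zb32) (kb xb6 yb43 zb40) (kb xb12 yb39 zb2) (kb xb3 yb16 zb61) (kb xb9 yb23 zb16) (kb xb12 yb39 zb7) (kb xb7 yb30 zb57) (kb xb11 yb27 zb3) (kb xb7 yb31 zb5) (kb xb3 yb16 zb41) (kb xb12 yb39 zb13) (kb xb3 yb16 zb42) (kb xb12 yb39 zb16) (kb xb12 yb36 zb32) (kb xb3 yb16 zb48) (kb xb6 yb17 zb59) (kb xb12 yb39 zb25) (kb xb3 yb16 zb51) (kb xb3 yb16 zb52) (kb xb3 yb16 zb46) (kb xb6 yb34 zb57) (kb xb3 yb16 zb47) (kb xb12 yb39 zb34) (kb xb12 yb39 zb39) (kb xb5 yb7 zb56) (kb xb12 yb39 zb22) (kb xb12 yb39 zb23) (kb xb3 yb16 zb49) (kb xb12 yb39 zb48)) (@D3.rec (fun _ => Pt) (kb xb3 yb16 zb50) (kb xb6 yb21 zb53) (kb xb12 yb39 zb54) (kb xb12 yb39 zb57) (kb xb12 yb39 zb60) (kb xb12 yb40 zb3) (kb xb12 yb39 zb30)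 (kb xb3 yb16 zb53) (kb xb12 yb40 zb7) (kb xb12 yb40 zb8) (kb xb12 yb0 zb42) (kb xb12 yb40 zb14) (kb xb3 yb19 zb58) (kb xb9 yb38 zb53) (kb xb12 yb40 zb18) (kb xb12 yb40 zb20) (kb xb4 yb44 zb14) (kb xb12 yb18 zb13) (kb xb12 yb40 zb23) (kb xb12 yb40 zb25) (kb xb3 yb16 zb60) (kb xb12 yb40 zb30) (kb xb12 yb40 zb31) (kb xb3 yb17 zb0) (kb xb12 yb40 zb38) (kb xb3 yb51 zb28) (kb xb12 yb40 zb41) (kb xb12 yb40 zb37) (kb xb3 yb17 zb3) (kb xb3 yb17 zb4) (kb xb12 yb40 zb44) (kb xb3 yb18 zb2) (kb xb12 yb40 zb47) (kb xb12 yb40 zb48) (kb xb6 yb42 zb41) (kb xb3 yb17 zb8) (kb xb12 yb40 zb53) (kb xb9 yb11 zb16) (kb xb4 yb35 zb26) (kb xb11 yb48 zb61) (kb xb12 yb39 zb33) (kb xb6 yb28 zb60) (kb xb3 yb17 zb13) (kb xb12 yb41 zb6) (kb xb9 yb11 zb18) (kb xb3 yb17 zb16) (kb xb3 yb17 zb17) (kb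 xb12 yb41 zb16) (kb xb12 yb41 zb19) (kb xb12 yb41 zb4) (kb xb12 yb41 zb5) (kb xb3 yb17 zb14) (kb xb12 yb41 zb27) (kb xb9 yb50 zb11) (kb xb9 yb32 zb10) (kb xb12 yb41 zb34) (kb xb12 yb41 zb38) (kb xb12 yb41 zb43) (kb xb12 yb41 zb15) (kb xb11 yb48 zb37) (kb xb3 yb18 zb46) (kb xb11 yb55 zb52)) (@D3.rec (fun _ => Pt) (kb xb12 yb41 zb53) (kb xb3 yb17 zb20) (kb xb9 yb41 zb24) (kb xb12 yb41 zb55) (kb xb12 yb41 zb56) (kb xb12 yb26 zb6) (kb xb3 yb20 zb5) (kb xb12 yb41 zb60) (kb xb12 yb42 zb0) (kb xb12 yb42 zb2) (kb xb3 yb17 zb25) (kb xb12 yb42 zb6) (kb xb4 yb10 zb48) (kb xb3 yb17 zb27) (kb xb7 yb31 zb57) (kb xb5 yb55 zb35) (kb xb12 yb42 zb12) (kb xb3 yb17 zb28) (kb xb6 yb43 zb10) (kb xb12 yb42 zb18) (kb xb9 yb15 zb0) (kb xb6 yb19 zb29) (kb xb6 yb59 zb0) (kb xb3 yb49 zb24) (kb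 xb3 yb17 zb33) (kb xb12 yb42 zb30) (kb xb12 yb42 zb34) (kb xb3 yb17 zb34) (kb xb3 yb17 zb35) (kb xb12 yb42 zb42) (kb xb12 yb42 zb45) (kb xb12 yb42 zb28) (kb xb12 yb42 zb29) (kb xb12 yb42 zb50) (kb xb8 yb25 zb21) (kb xb12 yb42 zb52) (kb xb12 yb42 zb41) (kb xb3 yb17 zb36) (kb xb12 yb42 zb57) (kb xb12 yb42 zb61) (kb xb12 yb43 zb1) (kb xb3 yb17 zb39) (kb xb3 yb17 zb40) (kb xb10 yb6 zb24) (kb xb12 yb43 zb6) (kb xb6 yb19 zb21) (kb xb6 yb19 zb22) (kb xb12 yb43 zb13) (kb xb12 yb43 zb14) (kb xb12 yb43 zb18) (kb xb12 yb43 zb4) (kb xb12 yb37 zb33) (kb xb6 yb25 zb16) (kb xb3 yb17 zb43) (kb xb3 yb17 zb44) (kb xb8 yb0 zb36) (kb xb7 yb2 zb8) (kb xb10 yb7 zb11) (kb xb12 yb43 zb26) (kb xb12 yb37 zb30) (kb xb12 yb43 zb28) (kb xb12 yb31 zb43)) (@D3.rec (fun _ => Pt) (kb xb12 yb23 zb43)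 (kb xb3 yb17 zb47) (kb xb6 yb25 zb9) (kb xb12 yb37 zb39) (kb xb12 yb43 zb41) (kb xb12 yb43 zb42) (kb xb12 yb37 zb42) (kb xb12 yb43 zb55) (kb xb12 yb43 zb58) (kb xb12 yb37 zb45) (kb xb12 yb37 zb46) (kb xb3 yb17 zb50) (kb xb5 yb5 zb53) (kb xb12 yb44 zb5) (kb xb4 yb33 zb61) (kb xb5 yb55 zb37) (kb xb3 yb17 zb52) (kb xb12 yb44 zb13) (kb xb12 yb40 zb42) (kb xb12 yb44 zb19) (kb xb3 yb18 zb3) (kb xb3 yb18 zb4) (kb xb3 yb17 zb54) (kb xb10 yb44 zb18) (kb xb12 yb44 zb28) (kb xb9 yb59 zb37) (kb xb3 yb17 zb55) (kb xb9 yb32 zb7) (kb xb12 yb44 zb38) (kb xb12 yb44 zb39) (kb xb12 yb44 zb47) (kb xb12 yb44 zb51) (kb xb12 yb44 zb57) (kb xb3 yb18 zb17) (kb xb3 yb46 zb40) (kb xb3 yb17 zb59) (kb xb12 yb45 zb3) (kb xb11 yb8 zb27) (kb xb12 yb45 zb2) (kb xb12 yb38 zb3) (kb xb12 yb44 zb9) (kb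 xb12 yb45 zb13) (kb xb6 yb19 zb53) (kb xb4 yb43 zb19) (kb xb12 yb45 zb18) (kb xb11 yb44 zb34) (kb xb3 yb18 zb0) (kb xb5 yb48 zb27) (kb xb12 yb45 zb25) (kb xb12 yb45 zb22) (kb xb12 yb45 zb23) (kb xb11 yb44 zb44) (kb xb12 yb1 zb60) (kb xb3 yb19 zb52) (kb xb12 yb40 zb50) (kb xb6 yb20 zb4) (kb xb12 yb45 zb40) (kb xb10 yb44 zb25) (kb xb12 yb45 zb48) (kb xb12 yb44 zb26) (kb xb9 yb11 zb61) (kb xb12 yb45 zb53)) (@D3.rec (fun _ => Pt) (kb xb6 yb19 zb47) (kb xb9 yb11 zb60) (kb xb12 yb44 zb35) (kb xb5 yb11 zb16) (kb xb9 yb20 zb61) (kb xb3 yb18 zb8) (kb xb3 yb18 zb9) (kb xb4 yb47 zb4) (kb xb12 yb46 zb8) (kb xb12 yb44 zb32) (kb xb5 yb16 zb18) (kb xb12 yb46 zb7) (kb xb9 yb27 zb4) (kb xb12 yb44 zb27) (kb xb12 yb38 zb12) (kb xb3 yb18 zb12) (kb xb3 yb18 zb13) (kb xb3 yb23 zb50) (kb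 xb12 yb46 zb21) (kb xb12 yb46 zb20) (kb xb12 yb44 zb44) (kb xb3 yb22 zb1) (kb xb5 yb11 zb25) (kb xb3 yb18 zb14) (kb xb5 yb5 zb25) (kb xb12 yb46 zb30) (kb xb3 yb18 zb15) (kb xb12 yb46 zb39) (kb xb11 yb11 zb11) (kb xb12 yb46 zb41) (kb xb12 yb46 zb43) (kb xb3 yb18 zb16) (kb xb12 yb46 zb44) (kb xb11 yb34 zb13) (kb xb12 yb44 zb60) (kb xb9 yb12 zb11) (kb xb3 yb18 zb19) (kb xb12 yb46 zb49) (kb xb3 yb18 zb20) (kb xb11 yb50 zb49) (kb xb12 yb46 zb56) (kb xb10 yb14 zb28) (kb xb12 yb46 zb59) (kb xb3 yb18 zb22) (kb xb5 yb16 zb35) (kb xb3 yb18 zb23) (kb xb12 yb47 zb2) (kb xb9 yb20 zb1) (kb xb12 yb38 zb27) (kb xb3 yb18 zb25) (kb xb12 yb47 zb11) (kb xb12 yb47 zb14) (kb xb12 yb47 zb10) (kb xb12 yb47 zb17) (kb xb12 yb47 zb18) (kb xb3 yb21 zb35) (kb xb9 yb56 zb60) (kb xb10 yb22 zb60)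 (kb xb12 yb47 zb19) (kb xb3 yb18 zb40) (kb xb12 yb2 zb6) (kb xb3 yb18 zb32)) (@D3.rec (fun _ => Pt) (kb xb12 yb47 zb22) (kb xb3 yb19 zb15) (kb xb12 yb47 zb23) (kb xb12 yb38 zb33) (kb xb3 yb18 zb36) (kb xb3 yb18 zb37) (kb xb12 yb47 zb36) (kb xb12 yb47 zb31) (kb xb12 yb47 zb39) (kb xb12 yb47 zb34) (kb xb12 yb47 zb35) (kb xb3 yb18 zb38) (kb xb10 yb9 zb5) (kb xb12 yb47 zb44) (kb xb3 yb18 zb42) (kb xb12 yb47 zb46) (kb xb3 yb22 zb0) (kb xb7 yb21 zb20) (kb xb3 yb18 zb44) (kb xb12 yb47 zb53) (kb xb8 yb34 zb4) (kb xb7 yb25 zb30) (kb xb12 yb21 zb36) (kb xb3 yb18 zb47) (kb xb12 yb47 zb57) (kb xb12 yb47 zb58) (kb xb12 yb47 zb61) (kb xb3 yb18 zb48) (kb xb12 yb48 zb3) (kb xb3 yb22 zb17) (kb xb12 yb48 zb8) (kb xb12 yb48 zb9) (kb xb12 yb48 zb11) (kb xb3 yb18 zb50) (kb xb12 yb48 zb16)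 (kb xb8 yb33 zb14) (kb xb8 yb35 zb5) (kb xb3 yb18 zb53) (kb xb12 yb48 zb23) (kb xb12 yb48 zb24) (kb xb3 yb18 zb54) (kb xb12 yb48 zb31) (kb xb10 yb32 zb48) (kb xb12 yb48 zb35) (kb xb12 yb48 zb39) (kb xb12 yb34 zb35) (kb xb3 yb18 zb56) (kb xb12 yb48 zb47) (kb xb12 yb48 zb49) (kb xb12 yb48 zb51) (kb xb12 yb48 zb46) (kb xb12 yb48 zb56) (kb xb10 yb18 zb19) (kb xb3 yb18 zb58) (kb xb10 yb54 zb54) (kb xb12 yb39 zb53) (kb xb12 yb48 zb60) (kb xb12 yb48 zb61) (kb xb12 yb49 zb2) (kb xb9 yb23 zb46) (kb xb12 yb15 zb33) (kb xb6 yb31 zb44)) (@D3.rec (fun _ => Pt) (kb xb4 yb17 zb51) (kb xb12 yb49 zb6) (kb xb11 yb28 zb45) (kb xb12 yb49 zb11) (kb xb7 yb25 zb41) (kb xb3 yb19 zb2) (kb xb12 yb49 zb17) (kb xb12 yb49 zb18) (kb xb12 yb49 zb22) (kb xb10 yb2 zb44) (kb xb7 yb24 zb58) (kb xb3 yb19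 zb5) (kb xb3 yb19 zb6) (kb xb12 yb49 zb29) (kb xb12 yb49 zb32) (kb xb12 yb49 zb35) (kb xb11 yb27 zb57) (kb xb9 yb1 zb37) (kb xb3 yb19 zb8) (kb xb3 yb28 zb39) (kb xb12 yb49 zb44) (kb xb12 yb49 zb45) (kb xb3 yb19 zb9) (kb xb10 yb44 zb13) (kb xb12 yb49 zb53) (kb xb12 yb49 zb56) (kb xb6 yb4 zb6) (kb xb8 yb59 zb44) (kb xb3 yb19 zb13) (kb xb12 yb50 zb0) (kb xb6 yb17 zb32) (kb xb3 yb19 zb26) (kb xb11 yb9 zb42) (kb xb4 yb10 zb56) (kb xb6 yb8 zb45) (kb xb3 yb19 zb18) (kb xb3 yb19 zb17) (kb xb12 yb50 zb8) (kb xb12 yb50 zb10) (kb xb9 yb35 zb22) (kb xb6 yb34 zb49) (kb xb6 yb37 zb34) (kb xb12 yb50 zb16) (kb xb3 yb22 zb51) (kb xb12 yb50 zb18) (kb xb3 yb19 zb21) (kb xb12 yb50 zb24) (kb xb12 yb50 zb25) (kb xb11 yb45 zb3) (kb xb11 yb45 zb4) (kb xb12 yb50 zb36) (kb xb3 yb19 zb28) (kb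 xb12 yb50 zb38) (kb xb3 yb19 zb27) (kb xb3 yb19 zb29) (kb xb4 yb10 zb27) (kb xb12 yb50 zb45) (kb xb12 yb18 zb7) (kb xb3 yb19 zb36) (kb xb12 yb50 zb50) (kb xb3 yb19 zb37) (kb xb12 yb50 zb52)) (@D3.rec (fun _ => Pt) (kb xb12 yb50 zb55) (kb xb12 yb50 zb60) (kb xb9 yb29 zb5) (kb xb3 yb19 zb39) (kb xb3 yb19 zb40) (kb xb12 yb51 zb9) (kb xb12 yb51 zb10) (kb xb12 yb51 zb6) (kb xb12 yb51 zb7) (kb xb12 yb51 zb8) (kb xb6 yb38 zb18) (kb xb12 yb51 zb14) (kb xb3 yb19 zb43) (kb xb3 yb19 zb44) (kb xb12 yb51 zb16) (kb xb11 yb47 zb19) (kb xb12 yb51 zb18) (kb xb8 yb33 zb33) (kb xb12 yb51 zb29) (kb xb3 yb55 zb39) (kb xb12 yb51 zb33) (kb xb3 yb19 zb47) (kb xb12 yb51 zb37) (kb xb3 yb46 zb3) (kb xb3 yb49 zb21) (kb xb12 yb51 zb39) (kb xb3 yb32 zb28) (kb xb11 yb26 zb9) (kb xb6 yb57 zb22) (kb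 xb3 yb19 zb51) (kb xb12 yb51 zb48) (kb xb4 yb43 zb4) (kb xb12 yb45 zb36) (kb xb12 yb51 zb55) (kb xb12 yb51 zb59) (kb xb12 yb52 zb2) (kb xb11 yb26 zb17) (kb xb3 yb19 zb55) (kb xb12 yb52 zb6) (kb xb12 yb52 zb9) (kb xb6 yb36 zb34) (kb xb12 yb52 zb14) (kb xb4 yb41 zb9) (kb xb3 yb22 zb22) (kb xb12 yb52 zb18) (kb xb6 yb10 zb38) (kb xb12 yb52 zb21) (kb xb8 yb31 zb6) (kb xb3 yb19 zb59) (kb xb12 yb52 zb30) (kb xb12 yb52 zb31) (kb xb3 yb20 zb14) (kb xb3 yb19 zb61) (kb xb12 yb52 zb37) (kb xb12 yb52 zb38) (kb xb3 yb20 zb1) (kb xb12 yb52 zb42) (kb xb3 yb20 zb4) (kb xb12 yb26 zb9) (kb xb3 yb20 zb9) (kb xb12 yb52 zb51) (kb xb11 yb18 zb2)) (@D3.rec (fun _ => Pt) (kb xb3 yb20 zb10) (kb xb12 yb52 zb55) (kb xb12 yb52 zb56) (kb xb8 yb36 zb11) (kb xb12 yb53 zb1) (kb xb9 yb29 zb49) (kb xb3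 yb20 zb12) (kb xb3 yb20 zb13) (kb xb12 yb53 zb11) (kb xb11 yb19 zb53) (kb xb12 yb53 zb8) (kb xb12 yb53 zb9) (kb xb12 yb53 zb10) (kb xb11 yb26 zb5) (kb xb5 yb50 zb60) (kb xb6 yb30 zb35) (kb xb9 yb13 zb17) (kb xb11 yb44 zb32) (kb xb3 yb20 zb23) (kb xb3 yb20 zb18) (kb xb12 yb53 zb17) (kb xb5 yb48 zb14) (kb xb12 yb36 zb31) (kb xb6 yb34 zb20) (kb xb6 yb34 zb59) (kb xb4 yb43 zb56) (kb xb12 yb53 zb25) (kb xb12 yb36 zb35) (kb xb6 yb18 zb52) (kb xb12 yb4 zb58) (kb xb9 yb30 zb7) (kb xb9 yb30 zb8) (kb xb3 yb20 zb25) (kb xb3 yb20 zb26) (kb xb6 yb31 zb36) (kb xb12 yb53 zb35) (kb xb12 yb40 zb59) (kb xb12 yb53 zb43) (kb xb12 yb53 zb36) (kb xb12 yb41 zb26) (kb xb9 yb30 zb21) (kb xb9 yb30 zb22) (kb xb9 yb30 zb23) (kb xb12 yb53 zb55) (kb xb9 yb13 zb13) (kb xb10 yb17 zb48) (kb xb10 yb3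 zb53) (kb xb3 yb20 zb31) (kb xb9 yb19 zb61) (kb xb10 yb43 zb15) (kb xb12 yb53 zb59) (kb xb3 yb20 zb53) (kb xb5 yb7 zb2) (kb xb3 yb20 zb35) (kb xb12 yb54 zb4) (kb xb9 yb57 zb60) (kb xb9 yb30 zb44) (kb xb3 yb20 zb48) (kb xb12 yb54 zb14) (kb xb12 yb54 zb3) (kb xb10 yb5 zb12) (kb xb5 yb14 zb3)) (@D3.rec (fun _ => Pt) (kb xb3 yb20 zb40) (kb xb3 yb20 zb38) (kb xb12 yb54 zb22) (kb xb12 yb54 zb23) (kb xb5 yb23 zb19) (kb xb3 yb20 zb60) (kb xb10 yb53 zb19) (kb xb11 yb49 zb31) (kb xb12 yb54 zb31) (kb xb11 yb53 zb30) (kb xb3 yb20 zb41) (kb xb12 yb54 zb39) (kb xb5 yb38 zb46) (kb xb12 yb54 zb45) (kb xb9 yb31 zb14) (kb xb9 yb31 zb13) (kb xb12 yb47 zb24) (kb xb6 yb51 zb19) (kb xb6 yb7 zb5) (kb xb10 yb1 zb2) (kb xb3 yb20 zb50) (kb xb12 yb23 zb44) (kb xb12 yb55 zb0) (kb xb3 yb20 zb51)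 (kb xb3 yb20 zb52) (kb xb3 yb20 zb47) (kb xb12 yb55 zb4) (kb xb12 yb55 zb3) (kb xb12 yb55 zb7) (kb xb6 yb6 zb46) (kb xb12 yb55 zb9) (kb xb12 yb46 zb55) (kb xb3 yb20 zb49) (kb xb12 yb55 zb14) (kb xb12 yb55 zb15) (kb xb12 yb54 zb18) (kb xb12 yb54 zb59) (kb xb12 yb54 zb60) (kb xb12 yb55 zb18) (kb xb6 yb46 zb33) (kb xb5 yb27 zb4) (kb xb12 yb54 zb48) (kb xb6 yb7 zb17) (kb xb9 yb31 zb31) (kb xb4 yb40 zb60) (kb xb3 yb20 zb61) (kb xb12 yb55 zb24) (kb xb10 yb43 zb14) (kb xb11 yb44 zb53) (kb xb3 yb20 zb59) (kb xb12 yb55 zb31) (kb xb12 yb53 zb15) (kb xb3 yb20 zb58) (kb xb11 yb45 zb1) (kb xb12 yb55 zb39) (kb xb3 yb21 zb2) (kb xb12 yb55 zb41) (kb xb3 yb21 zb1) (kb xb12 yb55 zb46) (kb xb12 yb55 zb47) (kb xb4 yb30 zb25) (kb xb4 yb30 zb13)) (@D3.rec (fun _ => Pt) (kb xb5 yb26 zb54)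 (kb xb12 yb55 zb49) (kb xb3 yb21 zb6) (kb xb3 yb21 zb5) (kb xb11 yb56 zb42) (kb xb12 yb55 zb58) (kb xb12 yb55 zb54) (kb xb3 yb21 zb8) (kb xb12 yb56 zb3) (kb xb12 yb56 zb7) (kb xb9 yb31 zb56) (kb xb3 yb21 zb10) (kb xb3 yb21 zb11) (kb xb12 yb56 zb14) (kb xb12 yb56 zb15) (kb xb3 yb21 zb13) (kb xb3 yb21 zb14) (kb xb3 yb21 zb16) (kb xb12 yb56 zb19) (kb xb12 yb56 zb20) (kb xb7 yb27 zb15) (kb xb3 yb21 zb20) (kb xb5 yb14 zb21) (kb xb11 yb8 zb35) (kb xb12 yb56 zb21) (kb xb9 yb26 zb16) (kb xb11 yb26 zb1) (kb xb9 yb32 zb9) (kb xb3 yb23 zb45) (kb xb3 yb21 zb24) (kb xb12 yb56 zb28) (kb xb12 yb56 zb27) (kb xb6 yb47 zb34) (kb xb6 yb45 zb39) (kb xb7 yb27 zb32) (kb xb3 yb21 zb27) (kb xb12 yb56 zb33) (kb xb12 yb56 zb32) (kb xb3 yb21 zb28) (kb xb12 yb56 zb38) (kb xb9 yb56 zb56) (kb xb12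 yb56 zb40) (kb xb12 yb56 zb41) (kb xb8 yb57 zb34) (kb xb5 yb30 zb42) (kb xb3 yb21 zb31) (kb xb12 yb56 zb48) (kb xb3 yb21 zb33) (kb xb12 yb30 zb29) (kb xb3 yb21 zb34) (kb xb12 yb56 zb50) (kb xb9 yb8 zb6) (kb xb12 yb56 zb52) (kb xb9 yb32 zb27) (kb xb3 yb21 zb38) (kb xb11 yb11 zb60) (kb xb3 yb21 zb39) (kb xb12 yb56 zb55) (kb xb3 yb21 zb40) (kb xb11 yb35 zb47) (kb xb12 yb56 zb56) (kb xb3 yb21 zb42)) (@D3.rec (fun _ => Pt) (kb xb3 yb24 zb10) (kb xb12 yb56 zb60) (kb xb6 yb53 zb27) (kb xb10 yb18 zb25) (kb xb3 yb21 zb44) (kb xb3 yb21 zb45) (kb xb12 yb57 zb10) (kb xb12 yb57 zb14) (kb xb8 yb20 zb0) (kb xb12 yb57 zb6) (kb xb12 yb57 zb24) (kb xb12 yb57 zb25) (kb xb12 yb57 zb9) (kb xb12 yb57 zb28) (kb xb3 yb21 zb46) (kb xb12 yb57 zb33) (kb xb12 yb57 zb36) (kb xb3 yb21 zb48) (kb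 xb12 yb46 zb2) (kb xb9 yb32 zb33) (kb xb12 yb57 zb42) (kb xb12 yb57 zb44) (kb xb12 yb57 zb48) (kb xb3 yb21 zb53) (kb xb12 yb57 zb52) (kb xb12 yb57 zb55) (kb xb3 yb21 zb54) (kb xb3 yb21 zb55) (kb xb3 yb21 zb52) (kb xb11 yb59 zb8) (kb xb12 yb57 zb51) (kb xb11 yb10 zb36) (kb xb12 yb58 zb0) (kb xb12 yb58 zb3) (kb xb6 yb46 zb32) (kb xb3 yb21 zb57) (kb xb12 yb58 zb7) (kb xb3 yb21 zb58) (kb xb5 yb26 zb21) (kb xb9 yb50 zb54) (kb xb9 yb29 zb14) (kb xb12 yb46 zb27) (kb xb3 yb22 zb2) (kb xb12 yb58 zb18) (kb xb12 yb46 zb25) (kb xb3 yb22 zb3) (kb xb12 yb2 zb8) (kb xb3 yb22 zb6) (kb xb12 yb2 zb5) (kb xb12 yb58 zb25) (kb xb8 yb34 zb41) (kb xb12 yb58 zb28) (kb xb3 yb22 zb8) (kb xb12 yb58 zb33) (kb xb3 yb22 zb9) (kb xb12 yb58 zb36) (kb xb9 yb39 zb15) (kb xb3 yb22 zb10) (kb xb12 yb58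 zb40) (kb xb12 yb58 zb42) (kb xb6 yb33 zb60) (kb xb9 yb32 zb56)) (@D3.rec (fun _ => Pt) (kb xb3 yb22 zb12) (kb xb8 yb25 zb38) (kb xb8 yb25 zb3) (kb xb8 yb25 zb5) (kb xb3 yb22 zb14) (kb xb12 yb58 zb51) (kb xb12 yb58 zb53) (kb xb12 yb58 zb55) (kb xb3 yb22 zb15) (kb xb12 yb58 zb60) (kb xb12 yb59 zb0) (kb xb12 yb59 zb3) (kb xb6 yb9 zb47) (kb xb12 yb59 zb6) (kb xb12 yb21 zb22) (kb xb12 yb59 zb9) (kb xb8 yb30 zb39) (kb xb3 yb22 zb18) (kb xb12 yb59 zb15) (kb xb12 yb59 zb16) (kb xb9 yb29 zb0) (kb xb4 yb10 zb28) (kb xb12 yb59 zb20) (kb xb12 yb59 zb23) (kb xb9 yb32 zb61) (kb xb3 yb22 zb21) (kb xb12 yb59 zb28) (kb xb12 yb59 zb29) (kb xb12 yb59 zb31) (kb xb3 yb22 zb23) (kb xb12 yb59 zb35) (kb xb12 yb59 zb36) (kb xb6 yb48 zb46) (kb xb4 yb11 zb35) (kb xb3 yb22 zb29) (kb xb12 yb16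 zb7) (kb xb12 yb59 zb42) (kb xb9 yb33 zb5) (kb xb3 yb22 zb26) (kb xb12 yb59 zb46) (kb xb12 yb59 zb47) (kb xb12 yb59 zb49) (kb xb4 yb17 zb47) (kb xb4 yb11 zb34) (kb xb3 yb22 zb28) (kb xb12 yb59 zb51) (kb xb6 yb48 zb32) (kb xb6 yb23 zb25) (kb xb4 yb41 zb61) (kb xb3 yb22 zb31) (kb xb12 yb59 zb59) (kb xb12 yb59 zb60) (kb xb3 yb22 zb32) (kb xb13 yb0 zb7) (kb xb13 yb0 zb3) (kb xb13 yb0 zb4) (kb xb3 yb22 zb33) (kb xb13 yb0 zb20) (kb xb13 yb0 zb18) (kb xb13 yb0 zb19) (kb xb3 yb23 zb10) (kb xb3 yb22 zb36)) (@D3.rec (fun _ => Pt) (kb xb11 yb37 zb29) (kb xb12 yb2 zb45) (kb xb3 yb22 zb38) (kb xb11 yb11 zb14) (kb xb9 yb50 zb2) (kb xb9 yb50 zb14) (kb xb3 yb22 zb42) (kb xb4 yb49 zb23) (kb xb13 yb0 zb34) (kb xb13 yb0 zb35) (kb xb3 yb22 zb48) (kb xb13 yb0 zb39) (kb xb9 yb39 zb3) (kb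 xb13 yb0 zb42) (kb xb6 yb9 zb30) (kb xb13 yb0 zb45) (kb xb3 yb22 zb52) (kb xb6 yb19 zb48) (kb xb3 yb28 zb55) (kb xb3 yb22 zb54) (kb xb13 yb0 zb50) (kb xb4 yb33 zb41) (kb xb5 yb45 zb44) (kb xb6 yb29 zb52) (kb xb6 yb29 zb53) (kb xb3 yb22 zb58) (kb xb13 yb0 zb53) (kb xb8 yb12 zb4) (kb xb3 yb22 zb61) (kb xb12 yb24 zb8) (kb xb5 yb45 zb29) (kb xb3 yb23 zb2) (kb xb3 yb23 zb1) (kb xb11 yb49 zb21) (kb xb5 yb55 zb18) (kb xb3 yb28 zb56) (kb xb3 yb23 zb5) (kb xb5 yb51 zb27) (kb xb13 yb0 zb60) (kb xb3 yb23 zb36) (kb xb3 yb23 zb7) (kb xb3 yb23 zb8) (kb xb10 yb17 zb39) (kb xb5 yb7 zb1) (kb xb3 yb23 zb17) (kb xb3 yb23 zb18) (kb xb3 yb23 zb12) (kb xb13 yb1 zb4) (kb xb3 yb23 zb13) (kb xb4 yb35 zb41) (kb xb11 yb40 zb59) (kb xb13 yb1 zb8) (kb xb9 yb13 zb41) (kb xb11 yb58 zb35) (kb xb13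 yb1 zb10) (kb xb6 yb21 zb25) (kb xb6 yb22 zb11) (kb xb13 yb1 zb13) (kb xb6 yb18 zb38) (kb xb3 yb28 zb43) (kb xb3 yb23 zb20) (kb xb13 yb1 zb16)) (@D3.rec (fun _ => Pt) (kb xb3 yb23 zb26) (kb xb3 yb23 zb27) (kb xb13 yb1 zb19) (kb xb8 yb0 zb27) (kb xb3 yb23 zb23) (kb xb3 yb23 zb24) (kb xb6 yb6 zb47) (kb xb11 yb57 zb58) (kb xb12 yb54 zb10) (kb xb11 yb57 zb52) (kb xb6 yb26 zb46) (kb xb6 yb27 zb9) (kb xb13 yb1 zb27) (kb xb8 yb23 zb23) (kb xb5 yb51 zb53) (kb xb13 yb1 zb30) (kb xb6 yb16 zb3) (kb xb4 yb41 zb44) (kb xb13 yb1 zb32) (kb xb9 yb50 zb31) (kb xb3 yb23 zb33) (kb xb6 yb15 zb47) (kb xb11 yb55 zb16) (kb xb3 yb23 zb34) (kb xb13 yb1 zb37) (kb xb5 yb51 zb61) (kb xb7 yb43 zb11) (kb xb13 yb1 zb0) (kb xb6 yb25 zb56) (kb xb7 yb36 zb4) (kb xb3 yb23 zb41) (kb xb9 yb27 zb33) (kb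 xb5 yb7 zb29) (kb xb3 yb23 zb44) (kb xb3 yb23 zb39) (kb xb9 yb5 zb25) (kb xb5 yb53 zb35) (kb xb6 yb8 zb61) (kb xb13 yb1 zb38) (kb xb8 yb12 zb47) (kb xb8 yb0 zb47) (kb xb3 yb23 zb43) (kb xb12 yb56 zb25) (kb xb13 yb1 zb55) (kb xb8 yb0 zb42) (kb xb5 yb7 zb0) (kb xb6 yb29 zb58) (kb xb6 yb26 zb53) (kb xb13 yb1 zb60) (kb xb3 yb23 zb54) (kb xb3 yb23 zb52) (kb xb13 yb1 zb61) (kb xb11 yb21 zb9) (kb xb6 yb26 zb44) (kb xb4 yb42 zb5) (kb xb13 yb2 zb2) (kb xb9 yb28 zb4) (kb xb13 yb2 zb5) (kb xb13 yb2 zb6) (kb xb8 yb23 zb24) (kb xb4 yb36 zb15) (kb xb11 yb45 zb39)) (@D3.rec (fun _ => Pt) (kb xb3 yb24 zb2) (kb xb3 yb24 zb1) (kb xb11 yb40 zb31) (kb xb13 yb2 zb10) (kb xb13 yb2 zb9) (kb xb9 yb47 zb20) (kb xb3 yb24 zb4) (kb xb5 yb55 zb0) (kb xb5 yb26 zb15) (kb xb13 yb1 zb47) (kb xb3 yb24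 zb5) (kb xb13 yb2 zb17) (kb xb13 yb2 zb15) (kb xb13 yb2 zb16) (kb xb6 yb6 zb5) (kb xb13 yb2 zb23) (kb xb4 yb5 zb34) (kb xb3 yb24 zb9) (kb xb13 yb2 zb29) (kb xb6 yb45 zb17) (kb xb13 yb2 zb31) (kb xb4 yb39 zb1) (kb xb4 yb13 zb10) (kb xb13 yb2 zb33) (kb xb13 yb2 zb34) (kb xb3 yb24 zb22) (kb xb13 yb2 zb38) (kb xb13 yb2 zb41) (kb xb4 yb45 zb9) (kb xb7 yb15 zb61) (kb xb3 yb24 zb26) (kb xb13 yb2 zb44) (kb xb3 yb24 zb28) (kb xb3 yb24 zb29) (kb xb13 yb2 zb48) (kb xb13 yb2 zb54) (kb xb13 yb2 zb51) (kb xb13 yb2 zb52) (kb xb7 yb32 zb15) (kb xb7 yb2 zb42) (kb xb7 yb0 zb51) (kb xb3 yb26 zb3) (kb xb3 yb24 zb36) (kb xb5 yb48 zb20) (kb xb7 yb0 zb55) (kb xb13 yb3 zb2) (kb xb3 yb24 zb39) (kb xb3 yb24 zb40) (kb xb13 yb3 zb5) (kb xb7 yb10 zb1) (kb xb13 yb3 zb6) (kb xb6 yb34 zb54) (kb xb7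 yb33 zb42) (kb xb3 yb24 zb42) (kb xb13 yb3 zb19) (kb xb3 yb24 zb43) (kb xb13 yb3 zb20) (kb xb7 yb2 zb24) (kb xb3 yb24 zb45) (kb xb13 yb3 zb27) (kb xb13 yb3 zb28) (kb xb3 yb24 zb46)) (@D3.rec (fun _ => Pt) (kb xb13 yb3 zb34) (kb xb13 yb3 zb35) (kb xb13 yb3 zb38) (kb xb13 yb3 zb41) (kb xb13 yb3 zb45) (kb xb7 yb2 zb61) (kb xb3 yb24 zb51) (kb xb3 yb24 zb52) (kb xb13 yb3 zb49) (kb xb3 yb24 zb50) (kb xb13 yb3 zb53) (kb xb13 yb3 zb54) (kb xb6 yb52 zb12) (kb xb13 yb4 zb1) (kb xb3 yb24 zb55) (kb xb3 yb24 zb56) (kb xb3 yb24 zb54) (kb xb13 yb4 zb5) (kb xb13 yb4 zb6) (kb xb13 yb4 zb11) (kb xb7 yb4 zb23) (kb xb6 yb52 zb25) (kb xb13 yb4 zb3) (kb xb7 yb17 zb50) (kb xb7 yb4 zb24) (kb xb6 yb52 zb21) (kb xb6 yb58 zb60) (kb xb3 yb25 zb2) (kb xb10 yb32 zb3) (kb xb3 yb25 zb4) (kb xb13 yb4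 zb22) (kb xb13 yb4 zb24) (kb xb4 yb10 zb32) (kb xb3 yb25 zb9) (kb xb13 yb4 zb25) (kb xb3 yb25 zb10) (kb xb13 yb4 zb31) (kb xb3 yb25 zb11) (kb xb5 yb15 zb27) (kb xb13 yb4 zb36) (kb xb3 yb25 zb13) (kb xb8 yb30 zb42) (kb xb13 yb4 zb39) (kb xb13 yb4 zb38) (kb xb6 yb19 zb24) (kb xb3 yb45 zb22) (kb xb3 yb32 zb13) (kb xb3 yb25 zb17) (kb xb13 yb4 zb47) (kb xb3 yb25 zb18) (kb xb13 yb4 zb51) (kb xb3 yb25 zb19) (kb xb10 yb25 zb60) (kb xb3 yb25 zb20) (kb xb13 yb4 zb59) (kb xb3 yb25 zb21) (kb xb13 yb5 zb1) (kb xb13 yb5 zb2) (kb xb7 yb24 zb46) (kb xb3 yb25 zb23) (kb xb13 yb5 zb9) (kb xb3 yb32 zb4)) (@D3.rec (fun _ => Pt) (kb xb6 yb53 zb43) (kb xb3 yb37 zb35) (kb xb7 yb9 zb8) (kb xb7 yb30 zb42) (kb xb9 yb37 zb58) (kb xb7 yb32 zb26) (kb xb7 yb0 zb17) (kb xb3 yb25 zb35) (kb xb3 yb25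 zb36) (kb xb13 yb5 zb14) (kb xb13 yb5 zb17) (kb xb7 yb34 zb2) (kb xb7 yb3 zb47) (kb xb4 yb44 zb16) (kb xb3 yb25 zb40) (kb xb13 yb5 zb25) (kb xb7 yb32 zb11) (kb xb3 yb25 zb46) (kb xb7 yb0 zb24) (kb xb13 yb5 zb36) (kb xb3 yb25 zb49) (kb xb3 yb25 zb50) (kb xb3 yb25 zb44) (kb xb13 yb5 zb43) (kb xb13 yb5 zb45) (kb xb7 yb34 zb10) (kb xb13 yb5 zb33) (kb xb6 yb47 zb2) (kb xb3 yb25 zb47) (kb xb13 yb5 zb54) (kb xb13 yb5 zb55) (kb xb7 yb34 zb16) (kb xb7 yb34 zb17) (kb xb13 yb6 zb0) (kb xb7 yb34 zb19) (kb xb13 yb6 zb6) (kb xb13 yb5 zb42) (kb xb3 yb25 zb51) (kb xb13 yb6 zb10) (kb xb13 yb6 zb11) (kb xb13 yb6 zb15) (kb xb3 yb35 zb57) (kb xb3 yb39 zb15) (kb xb6 yb53 zb0) (kb xb7 yb21 zb23) (kb xb7 yb27 zb36) (kb xb3 yb41 zb0) (kb xb3 yb25 zb58) (kb xb3 yb25 zb59) (kb xb11 yb59 zb19)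 (kb xb13 yb6 zb25) (kb xb13 yb6 zb28) (kb xb3 yb49 zb2) (kb xb3 yb31 zb6) (kb xb13 yb6 zb33) (kb xb9 yb47 zb22) (kb xb5 yb14 zb29) (kb xb7 yb31 zb59) (kb xb7 yb31 zb60) (kb xb4 yb34 zb31) (kb xb13 yb3 zb0) (kb xb7 yb32 zb45)) (@D3.rec (fun _ => Pt) (kb xb13 yb1 zb46) (kb xb3 yb26 zb6) (kb xb7 yb33 zb8) (kb xb3 yb26 zb9) (kb xb13 yb6 zb51) (kb xb13 yb6 zb45) (kb xb13 yb6 zb46) (kb xb3 yb26 zb7) (kb xb13 yb6 zb57) (kb xb13 yb6 zb58) (kb xb3 yb26 zb8) (kb xb13 yb7 zb0) (kb xb13 yb7 zb1) (kb xb13 yb7 zb3) (kb xb13 yb7 zb6) (kb xb13 yb7 zb9) (kb xb3 yb26 zb10) (kb xb13 yb7 zb10) (kb xb13 yb7 zb11) (kb xb8 yb0 zb39) (kb xb13 yb7 zb14) (kb xb13 yb7 zb18) (kb xb3 yb26 zb15) (kb xb3 yb26 zb16) (kb xb3 yb26 zb14) (kb xb13 yb7 zb27) (kb xb13 yb7 zb30) (kb xb13 yb7 zb33) (kb xb13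 yb7 zb38) (kb xb13 yb7 zb24) (kb xb3 yb26 zb19) (kb xb7 yb39 zb28) (kb xb3 yb26 zb18) (kb xb13 yb7 zb43) (kb xb13 yb7 zb47) (kb xb7 yb46 zb2) (kb xb3 yb31 zb3) (kb xb3 yb26 zb22) (kb xb13 yb7 zb50) (kb xb13 yb7 zb51) (kb xb3 yb47 zb30) (kb xb7 yb7 zb29) (kb xb3 yb26 zb25) (kb xb13 yb7 zb56) (kb xb7 yb39 zb27) (kb xb4 yb47 zb49) (kb xb3 yb26 zb28) (kb xb13 yb7 zb61) (kb xb7 yb37 zb55) (kb xb7 yb35 zb7) (kb xb13 yb8 zb8) (kb xb3 yb26 zb35) (kb xb3 yb26 zb36) (kb xb13 yb8 zb16) (kb xb7 yb39 zb42) (kb xb11 yb30 zb9) (kb xb11 yb30 zb10) (kb xb3 yb26 zb33) (kb xb13 yb8 zb25) (kb xb13 yb8 zb26) (kb xb7 yb39 zb47) (kb xb7 yb39 zb48)) (@D3.rec (fun _ => Pt) (kb xb13 yb8 zb33) (kb xb7 yb39 zb50) (kb xb13 yb8 zb38) (kb xb13 yb8 zb15) (kb xb3 yb26 zb37) (kb xb13 yb8 zb41) (kb xb13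 yb8 zb44) (kb xb3 yb37 zb22) (kb xb3 yb46 zb26) (kb xb7 yb9 zb52) (kb xb7 yb49 zb21) (kb xb7 yb25 zb0) (kb xb3 yb40 zb29) (kb xb3 yb26 zb41) (kb xb3 yb26 zb42) (kb xb13 yb8 zb52) (kb xb13 yb8 zb55) (kb xb3 yb28 zb6) (kb xb7 yb3 zb38) (kb xb3 yb36 zb26) (kb xb13 yb8 zb60) (kb xb3 yb26 zb60) (kb xb7 yb37 zb46) (kb xb7 yb41 zb60) (kb xb7 yb38 zb15) (kb xb3 yb26 zb51) (kb xb7 yb38 zb39) (kb xb3 yb26 zb54) (kb xb3 yb26 zb55) (kb xb12 yb34 zb2) (kb xb13 yb9 zb10) (kb xb13 yb9 zb4) (kb xb11 yb58 zb24) (kb xb3 yb26 zb52) (kb xb9 yb14 zb26) (kb xb3 yb26 zb53) (kb xb13 yb9 zb18) (kb xb13 yb9 zb19) (kb xb6 yb3 zb27) (kb xb13 yb9 zb23) (kb xb13 yb9 zb28) (kb xb13 yb9 zb8) (kb xb3 yb26 zb56) (kb xb13 yb9 zb31) (kb xb13 yb9 zb32) (kb xb13 yb9 zb34) (kb xb6 yb55 zb46) (kb xb13 yb9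 zb37) (kb xb11 yb51 zb9) (kb xb3 yb26 zb59) (kb xb13 yb9 zb43) (kb xb13 yb9 zb44) (kb xb7 yb41 zb53) (kb xb7 yb35 zb23) (kb xb3 yb27 zb0) (kb xb3 yb36 zb17) (kb xb13 yb9 zb49) (kb xb6 yb33 zb25) (kb xb3 yb33 zb3) (kb xb5 yb51 zb9) (kb xb11 yb41 zb44) (kb xb9 yb48 zb26)) (@D3.rec (fun _ => Pt) (kb xb3 yb27 zb6) (kb xb7 yb41 zb61) (kb xb13 yb10 zb6) (kb xb3 yb27 zb7) (kb xb3 yb27 zb8) (kb xb3 yb27 zb5) (kb xb13 yb10 zb15) (kb xb7 yb35 zb46) (kb xb13 yb10 zb1) (kb xb13 yb10 zb2) (kb xb13 yb10 zb21) (kb xb13 yb10 zb25) (kb xb13 yb10 zb13) (kb xb3 yb27 zb9) (kb xb13 yb10 zb28) (kb xb7 yb35 zb35) (kb xb7 yb42 zb42) (kb xb13 yb10 zb34) (kb xb7 yb40 zb61) (kb xb3 yb27 zb14) (kb xb3 yb27 zb15) (kb xb7 yb35 zb29) (kb xb13 yb10 zb38) (kb xb6 yb33 zb14) (kb xb6 yb33 zb15) (kb xb7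 yb15 zb51) (kb xb13 yb10 zb43) (kb xb13 yb10 zb45) (kb xb8 yb26 zb37) (kb xb12 yb24 zb7) (kb xb3 yb27 zb17) (kb xb5 yb54 zb61) (kb xb7 yb1 zb28) (kb xb13 yb10 zb47) (kb xb12 yb56 zb54) (kb xb9 yb20 zb50) (kb xb9 yb24 zb28) (kb xb13 yb10 zb59) (kb xb6 yb25 zb50) (kb xb3 yb27 zb20) (kb xb6 yb1 zb53) (kb xb6 yb6 zb9) (kb xb13 yb10 zb61) (kb xb13 yb11 zb5) (kb xb13 yb11 zb9) (kb xb13 yb11 zb13) (kb xb7 yb41 zb59) (kb xb7 yb47 zb2) (kb xb3 yb33 zb24) (kb xb3 yb27 zb23) (kb xb3 yb27 zb24) (kb xb13 yb11 zb28) (kb xb7 yb46 zb46) (kb xb13 yb11 zb35) (kb xb13 yb11 zb23) (kb xb13 yb11 zb26) (kb xb13 yb11 zb27) (kb xb7 yb40 zb51) (kb xb13 yb7 zb26) (kb xb3 yb27 zb26) (kb xb3 yb27 zb27) (kb xb13 yb11 zb49)) (@D3.rec (fun _ => Pt) (kb xb13 yb11 zb45) (kb xb13 yb11 zb48) (kb xb3 yb27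 zb28) (kb xb13 yb11 zb61) (kb xb13 yb11 zb57) (kb xb13 yb11 zb58) (kb xb3 yb27 zb29) (kb xb13 yb12 zb8) (kb xb13 yb12 zb6) (kb xb13 yb12 zb7) (kb xb13 yb12 zb12) (kb xb13 yb12 zb14) (kb xb3 yb27 zb30) (kb xb13 yb12 zb19) (kb xb13 yb12 zb20) (kb xb7 yb46 zb41) (kb xb6 yb57 zb42) (kb xb13 yb12 zb25) (kb xb3 yb27 zb41) (kb xb7 yb54 zb33) (kb xb3 yb27 zb35) (kb xb13 yb12 zb29) (kb xb6 yb43 zb28) (kb xb13 yb7 zb42) (kb xb3 yb27 zb37) (kb xb3 yb27 zb38) (kb xb13 yb12 zb42) (kb xb13 yb12 zb44) (kb xb13 yb12 zb38) (kb xb13 yb12 zb47) (kb xb13 yb12 zb41) (kb xb13 yb12 zb50) (kb xb13 yb12 zb52) (kb xb13 yb12 zb54) (kb xb3 yb27 zb40) (kb xb13 yb12 zb59) (kb xb13 yb12 zb60) (kb xb3 yb51 zb59) (kb xb7 yb11 zb30) (kb xb3 yb27 zb44) (kb xb13 yb13 zb2) (kb xb13 yb13 zb3) (kb xb6 yb57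 zb16) (kb xb3 yb28 zb4) (kb xb13 yb13 zb9) (kb xb6 yb34 zb10) (kb xb7 yb5 zb56) (kb xb7 yb45 zb61) (kb xb3 yb27 zb48) (kb xb3 yb27 zb49) (kb xb13 yb13 zb19) (kb xb13 yb13 zb16) (kb xb7 yb10 zb10) (kb xb13 yb13 zb18) (kb xb3 yb27 zb50) (kb xb13 yb13 zb28) (kb xb13 yb13 zb29) (kb xb13 yb13 zb30) (kb xb6 yb17 zb39) (kb xb3 yb27 zb54) (kb xb13 yb13 zb35) (kb xb3 yb27 zb55)) (@D3.rec (fun _ => Pt) (kb xb13 yb13 zb40) (kb xb3 yb27 zb56) (kb xb13 yb13 zb45) (kb xb13 yb13 zb47) (kb xb13 yb5 zb8) (kb xb3 yb27 zb58) (kb xb13 yb13 zb51) (kb xb13 yb13 zb50) (kb xb3 yb27 zb59) (kb xb8 yb43 zb59) (kb xb3 yb27 zb60) (kb xb13 yb13 zb61) (kb xb13 yb14 zb0) (kb xb13 yb14 zb1) (kb xb3 yb28 zb1) (kb xb13 yb14 zb5) (kb xb13 yb14 zb6) (kb xb13 yb14 zb9) (kb xb10 yb22 zb37) (kb xb7 yb53 zb51)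 (kb xb13 yb14 zb14) (kb xb7 yb19 zb1) (kb xb13 yb14 zb15) (kb xb13 yb14 zb17) (kb xb3 yb53 zb34) (kb xb13 yb14 zb20) (kb xb3 yb28 zb7) (kb xb13 yb14 zb24) (kb xb3 yb28 zb8) (kb xb13 yb14 zb27) (kb xb13 yb14 zb28) (kb xb3 yb28 zb10) (kb xb13 yb14 zb34) (kb xb13 yb14 zb35) (kb xb13 yb14 zb37) (kb xb13 yb14 zb41) (kb xb7 yb53 zb54) (kb xb13 yb14 zb47) (kb xb13 yb14 zb48) (kb xb3 yb31 zb9) (kb xb13 yb14 zb50) (kb xb7 yb22 zb43) (kb xb7 yb17 zb9) (kb xb3 yb28 zb16) (kb xb13 yb14 zb56) (kb xb13 yb14 zb58) (kb xb13 yb14 zb54) (kb xb13 yb14 zb55) (kb xb13 yb15 zb0) (kb xb9 yb21 zb20) (kb xb3 yb28 zb20) (kb xb13 yb4 zb30) (kb xb3 yb28 zb23) (kb xb13 yb15 zb8) (kb xb3 yb30 zb51) (kb xb3 yb35 zb38) (kb xb3 yb38 zb7) (kb xb3 yb28 zb30) (kb xb6 yb19 zb10) (kb xb6 yb22 zb15) (kb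 xb6 yb52 zb26) (kb xb13 yb15 zb13)) (@D3.rec (fun _ => Pt) (kb xb6 yb38 zb22) (kb xb6 yb20 zb45) (kb xb3 yb28 zb41) (kb xb3 yb28 zb42) (kb xb6 yb20 zb54) (kb xb12 yb49 zb46) (kb xb4 yb41 zb53) (kb xb12 yb26 zb33) (kb xb8 yb23 zb10) (kb xb4 yb41 zb57) (kb xb3 yb28 zb47) (kb xb13 yb15 zb23) (kb xb3 yb28 zb48) (kb xb13 yb15 zb27) (kb xb13 yb15 zb28) (kb xb13 yb15 zb32) (kb xb13 yb15 zb37) (kb xb13 yb15 zb7) (kb xb3 yb28 zb50) (kb xb3 yb28 zb51) (kb xb13 yb15 zb45) (kb xb13 yb15 zb43) (kb xb13 yb15 zb44) (kb xb3 yb28 zb54) (kb xb13 yb15 zb54) (kb xb12 yb19 zb47) (kb xb6 yb2 zb60) (kb xb12 yb29 zb52) (kb xb13 yb15 zb57) (kb xb6 yb26 zb27) (kb xb3 yb28 zb58) (kb xb13 yb16 zb1) (kb xb3 yb28 zb59) (kb xb7 yb19 zb50) (kb xb13 yb16 zb6) (kb xb3 yb35 zb40) (kb xb7 yb19 zb44) (kb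 xb3 yb28 zb61) (kb xb13 yb16 zb15) (kb xb13 yb16 zb17) (kb xb13 yb16 zb19) (kb xb13 yb16 zb14) (kb xb3 yb29 zb0) (kb xb7 yb22 zb9) (kb xb13 yb16 zb24) (kb xb3 yb29 zb1) (kb xb7 yb0 zb16) (kb xb13 yb16 zb28) (kb xb3 yb30 zb5) (kb xb7 yb26 zb60) (kb xb3 yb29 zb5) (kb xb13 yb16 zb39) (kb xb13 yb16 zb43) (kb xb3 yb29 zb8) (kb xb3 yb29 zb9) (kb xb5 yb51 zb26) (kb xb9 yb22 zb29) (kb xb5 yb54 zb7) (kb xb13 yb16 zb38) (kb xb3 yb29 zb6) (kb xb13 yb16 zb55) (kb xb13 yb16 zb56))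
def f_b_7 : D2 → D3 → Pt := @D2.rec (fun _ => D3 → Pt) (@D3.rec (fun _ => Pt) (kb xb3 yb29 zb7) (kb xb13 yb16 zb61) (kb xb13 yb17 zb2) (kb xb12 yb23 zb1) (kb xb13 yb16 zb49) (kb xb3 yb29 zb12) (kb xb3 yb29 zb13) (kb xb13 yb17 zb8) (kb xb3 yb29 zb11) (kb xb11 yb48 zb23) (kb xb13 yb17 zb10) (kb xb13 yb17 zb15) (kb xb3 yb29 zb16) (kb xb12 yb34 zb11) (kb xb13 yb17 zb19) (kb xb7 yb3 zb42) (kb xb6 yb59 zb46) (kb xb6 yb53 zb6) (kb xb3 yb45 zb46) (kb xb3 yb29 zb21) (kb xb13 yb17 zb26) (kb xb13 yb17 zb27) (kb xb3 yb29 zb23) (kb xb13 yb17 zb32) (kb xb6 yb53 zb18) (kb xb13 yb17 zb36) (kb xb3 yb29 zb29) (kb xb3 yb29 zb25) (kb xb13 yb17 zb43) (kb xb3 yb29 zb26) (kb xb13 yb17 zb46) (kb xb13 yb17 zb48) (kb xb13 yb17 zb51) (kb xb9 yb28 zb34) (kb xb3 yb29 zb28) (kb xb13 yb17 zb58) (kb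 xb13 yb17 zb59) (kb xb13 yb17 zb61) (kb xb13 yb18 zb1) (kb xb3 yb44 zb47) (kb xb7 yb18 zb48) (kb xb3 yb46 zb20) (kb xb3 yb32 zb35) (kb xb3 yb29 zb32) (kb xb3 yb29 zb33) (kb xb7 yb59 zb59) (kb xb13 yb18 zb7) (kb xb7 yb9 zb12) (kb xb3 yb31 zb32) (kb xb3 yb29 zb37) (kb xb13 yb18 zb10) (kb xb6 yb51 zb40) (kb xb3 yb45 zb54) (kb xb3 yb29 zb42) (kb xb13 yb18 zb21) (kb xb6 yb51 zb44) (kb xb3 yb29 zb45) (kb xb3 yb29 zb46) (kb xb13 yb18 zb30) (kb xb12 yb37 zb37) (kb xb13 yb18 zb19) (kb xb13 yb18 zb20)) (@D3.rec (fun _ => Pt) (kb xb3 yb29 zb43) (kb xb13 yb18 zb38) (kb xb13 yb18 zb39) (kb xb3 yb29 zb44) (kb xb13 yb18 zb44) (kb xb13 yb18 zb45) (kb xb13 yb18 zb48) (kb xb13 yb18 zb51) (kb xb13 yb18 zb56) (kb xb13 yb18 zb29) (kb xb3 yb29 zb47) (kb xb13 yb18 zb57) (kb xb13 yb18 zb58)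 (kb xb12 yb34 zb49) (kb xb7 yb31 zb15) (kb xb3 yb29 zb50) (kb xb3 yb40 zb36) (kb xb13 yb19 zb4) (kb xb3 yb51 zb21) (kb xb7 yb16 zb6) (kb xb3 yb42 zb19) (kb xb3 yb43 zb32) (kb xb12 yb24 zb12) (kb xb3 yb29 zb55) (kb xb13 yb19 zb17) (kb xb13 yb19 zb21) (kb xb3 yb29 zb56) (kb xb11 yb33 zb46) (kb xb6 yb56 zb32) (kb xb13 yb19 zb15) (kb xb13 yb19 zb16) (kb xb3 yb29 zb57) (kb xb11 yb48 zb34) (kb xb3 yb29 zb58) (kb xb13 yb19 zb33) (kb xb12 yb34 zb53) (kb xb3 yb30 zb0) (kb xb13 yb19 zb42) (kb xb13 yb4 zb56) (kb xb3 yb30 zb1) (kb xb3 yb30 zb2) (kb xb6 yb0 zb36) (kb xb13 yb19 zb53) (kb xb13 yb19 zb41) (kb xb11 yb47 zb10) (kb xb3 yb56 zb48) (kb xb13 yb19 zb60) (kb xb13 yb20 zb0) (kb xb13 yb19 zb50) (kb xb13 yb16 zb27) (kb xb3 yb44 zb56) (kb xb3 yb30 zb4) (kb xb13 yb20 zb8) (kb xb13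 yb20 zb10) (kb xb13 yb20 zb12) (kb xb13 yb16 zb33) (kb xb13 yb16 zb34) (kb xb3 yb30 zb6) (kb xb3 yb30 zb8) (kb xb13 yb20 zb18) (kb xb13 yb20 zb19) (kb xb3 yb30 zb9)) (@D3.rec (fun _ => Pt) (kb xb13 yb20 zb25) (kb xb13 yb20 zb26) (kb xb13 yb20 zb28) (kb xb13 yb20 zb31) (kb xb13 yb20 zb35) (kb xb3 yb30 zb30) (kb xb13 yb20 zb39) (kb xb12 yb1 zb32) (kb xb6 yb38 zb56) (kb xb3 yb30 zb14) (kb xb12 yb34 zb61) (kb xb9 yb25 zb36) (kb xb13 yb20 zb41) (kb xb3 yb30 zb15) (kb xb9 yb7 zb28) (kb xb12 yb31 zb45) (kb xb13 yb20 zb46) (kb xb13 yb20 zb52) (kb xb12 yb10 zb24) (kb xb7 yb22 zb49) (kb xb4 yb46 zb42) (kb xb6 yb8 zb35) (kb xb13 yb20 zb59) (kb xb11 yb41 zb49) (kb xb6 yb51 zb57) (kb xb13 yb20 zb23) (kb xb13 yb16 zb54) (kb xb3 yb43 zb51) (kb xb3 yb30 zb21) (kb xb3 yb30 zb22) (kb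 xb3 yb30 zb20) (kb xb7 yb37 zb39) (kb xb7 yb37 zb40) (kb xb13 yb21 zb19) (kb xb7 yb55 zb13) (kb xb13 yb21 zb26) (kb xb13 yb21 zb14) (kb xb7 yb16 zb34) (kb xb13 yb21 zb17) (kb xb13 yb21 zb18) (kb xb13 yb20 zb16) (kb xb13 yb16 zb60) (kb xb6 yb51 zb39) (kb xb3 yb30 zb25) (kb xb3 yb30 zb26) (kb xb3 yb31 zb16) (kb xb13 yb21 zb46) (kb xb13 yb21 zb42) (kb xb13 yb21 zb45) (kb xb3 yb30 zb27) (kb xb10 yb39 zb47) (kb xb13 yb21 zb55) (kb xb3 yb30 zb28) (kb xb9 yb45 zb28) (kb xb9 yb45 zb16) (kb xb13 yb22 zb4) (kb xb11 yb26 zb45) (kb xb3 yb30 zb29) (kb xb13 yb22 zb9) (kb xb13 yb22 zb10) (kb xb13 yb20 zb38) (kb xb6 yb52 zb5)) (@D3.rec (fun _ => Pt) (kb xb3 yb30 zb32) (kb xb13 yb22 zb17) (kb xb13 yb22 zb18) (kb xb3 yb30 zb33) (kb xb13 yb22 zb22) (kb xb13 yb22 zb23) (kb xb13 yb22 zb26)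 (kb xb13 yb22 zb29) (kb xb13 yb22 zb34) (kb xb7 yb11 zb58) (kb xb7 yb11 zb59) (kb xb3 yb30 zb37) (kb xb13 yb22 zb37) (kb xb13 yb22 zb38) (kb xb3 yb31 zb46) (kb xb13 yb22 zb41) (kb xb3 yb30 zb46) (kb xb7 yb12 zb25) (kb xb3 yb30 zb48) (kb xb3 yb30 zb49) (kb xb3 yb30 zb40) (kb xb13 yb22 zb46) (kb xb3 yb30 zb42) (kb xb3 yb30 zb43) (kb xb13 yb22 zb56) (kb xb11 yb15 zb17) (kb xb13 yb22 zb60) (kb xb13 yb22 zb52) (kb xb13 yb23 zb4) (kb xb12 yb51 zb45) (kb xb13 yb22 zb55) (kb xb13 yb23 zb8) (kb xb13 yb23 zb9) (kb xb3 yb30 zb45) (kb xb13 yb23 zb12) (kb xb13 yb23 zb13) (kb xb13 yb23 zb16) (kb xb7 yb22 zb13) (kb xb6 yb55 zb18) (kb xb3 yb30 zb52) (kb xb11 yb20 zb50) (kb xb13 yb23 zb20) (kb xb7 yb0 zb15) (kb xb3 yb31 zb30) (kb xb13 yb23 zb22) (kb xb13 yb8 zb46) (kb xb3 yb30 zb59)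 (kb xb6 yb53 zb12) (kb xb12 yb33 zb38) (kb xb3 yb30 zb56) (kb xb3 yb30 zb57) (kb xb13 yb23 zb29) (kb xb13 yb23 zb26) (kb xb13 yb23 zb35) (kb xb11 yb32 zb4) (kb xb3 yb30 zb58) (kb xb13 yb23 zb40) (kb xb13 yb23 zb42) (kb xb3 yb31 zb0) (kb xb3 yb30 zb61) (kb xb13 yb23 zb44) (kb xb13 yb23 zb49)) (@D3.rec (fun _ => Pt) (kb xb3 yb31 zb2) (kb xb13 yb23 zb51) (kb xb13 yb23 zb52) (kb xb4 yb11 zb55) (kb xb3 yb31 zb5) (kb xb13 yb23 zb59) (kb xb13 yb23 zb60) (kb xb3 yb31 zb7) (kb xb3 yb31 zb8) (kb xb13 yb24 zb6) (kb xb13 yb24 zb8) (kb xb13 yb14 zb45) (kb xb13 yb17 zb30) (kb xb11 yb30 zb13) (kb xb3 yb31 zb15) (kb xb13 yb24 zb16) (kb xb3 yb31 zb14) (kb xb13 yb24 zb17) (kb xb13 yb24 zb18) (kb xb13 yb24 zb23) (kb xb3 yb31 zb18) (kb xb13 yb24 zb25) (kb xb13 yb24 zb26) (kb xb6 yb52 zb20)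 (kb xb6 yb52 zb24) (kb xb3 yb31 zb22) (kb xb13 yb24 zb36) (kb xb3 yb31 zb23) (kb xb13 yb24 zb40) (kb xb13 yb24 zb41) (kb xb13 yb24 zb45) (kb xb3 yb31 zb26) (kb xb6 yb34 zb4) (kb xb13 yb24 zb49) (kb xb3 yb31 zb28) (kb xb13 yb24 zb56) (kb xb13 yb24 zb59) (kb xb13 yb25 zb2) (kb xb13 yb24 zb55) (kb xb13 yb25 zb8) (kb xb13 yb25 zb9) (kb xb7 yb5 zb9) (kb xb3 yb31 zb31) (kb xb13 yb25 zb10) (kb xb13 yb25 zb12) (kb xb7 yb51 zb51) (kb xb13 yb25 zb15) (kb xb3 yb31 zb33) (kb xb12 yb25 zb34) (kb xb7 yb4 zb50) (kb xb7 yb4 zb49) (kb xb3 yb31 zb37) (kb xb13 yb25 zb20) (kb xb3 yb31 zb38) (kb xb13 yb25 zb24) (kb xb13 yb25 zb25) (kb xb13 yb25 zb28) (kb xb3 yb31 zb41) (kb xb13 yb25 zb32) (kb xb3 yb31 zb43) (kb xb13 yb25 zb37) (kb xb13 yb25 zb40)) (@D3.rec (fun _ => Pt) (kb xb13 yb25 zb45)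 (kb xb13 yb25 zb36) (kb xb13 yb25 zb52) (kb xb13 yb25 zb53) (kb xb7 yb11 zb0) (kb xb13 yb25 zb56) (kb xb13 yb25 zb57) (kb xb13 yb25 zb58) (kb xb13 yb25 zb59) (kb xb7 yb4 zb41) (kb xb3 yb31 zb48) (kb xb13 yb26 zb0) (kb xb3 yb37 zb41) (kb xb7 yb10 zb22) (kb xb3 yb31 zb52) (kb xb13 yb26 zb5) (kb xb3 yb31 zb53) (kb xb13 yb26 zb9) (kb xb3 yb31 zb55) (kb xb13 yb26 zb13) (kb xb3 yb31 zb57) (kb xb13 yb26 zb18) (kb xb3 yb31 zb58) (kb xb13 yb26 zb23) (kb xb13 yb26 zb25) (kb xb13 yb26 zb27) (kb xb7 yb55 zb8) (kb xb3 yb50 zb12) (kb xb7 yb8 zb37) (kb xb3 yb38 zb8) (kb xb3 yb32 zb8) (kb xb10 yb20 zb15) (kb xb7 yb22 zb12) (kb xb3 yb32 zb16) (kb xb8 yb12 zb1) (kb xb13 yb26 zb36) (kb xb7 yb11 zb61) (kb xb3 yb32 zb18) (kb xb13 yb26 zb39) (kb xb7 yb12 zb3) (kb xb13 yb26 zb42) (kb xb3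 yb32 zb24) (kb xb8 yb42 zb60) (kb xb3 yb32 zb21) (kb xb13 yb26 zb49) (kb xb3 yb32 zb22) (kb xb13 yb26 zb54) (kb xb13 yb26 zb55) (kb xb13 yb26 zb59) (kb xb13 yb27 zb0) (kb xb9 yb19 zb28) (kb xb7 yb56 zb47) (kb xb3 yb32 zb25) (kb xb13 yb27 zb8) (kb xb13 yb27 zb9) (kb xb13 yb27 zb12) (kb xb6 yb57 zb46) (kb xb12 yb51 zb43) (kb xb3 yb32 zb29) (kb xb3 yb32 zb30) (kb xb3 yb32 zb31) (kb xb13 yb27 zb24)) (@D3.rec (fun _ => Pt) (kb xb13 yb27 zb26) (kb xb7 yb12 zb52) (kb xb3 yb32 zb33) (kb xb13 yb27 zb30) (kb xb13 yb18 zb4) (kb xb7 yb12 zb2) (kb xb13 yb26 zb48) (kb xb3 yb32 zb41) (kb xb3 yb32 zb42) (kb xb4 yb39 zb56) (kb xb3 yb32 zb40) (kb xb13 yb27 zb39) (kb xb13 yb27 zb40) (kb xb8 yb45 zb50) (kb xb11 yb49 zb49) (kb xb13 yb27 zb44) (kb xb13 yb27 zb37) (kb xb3 yb32 zb43) (kb xb13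 yb27 zb47) (kb xb13 yb27 zb48) (kb xb3 yb32 zb45) (kb xb3 yb49 zb4) (kb xb13 yb27 zb51) (kb xb13 yb27 zb52) (kb xb4 yb39 zb35) (kb xb3 yb32 zb48) (kb xb13 yb27 zb61) (kb xb13 yb28 zb2) (kb xb3 yb32 zb51) (kb xb3 yb32 zb52) (kb xb4 yb2 zb11) (kb xb9 yb44 zb35) (kb xb13 yb27 zb59) (kb xb13 yb27 zb60) (kb xb3 yb32 zb49) (kb xb13 yb28 zb15) (kb xb3 yb32 zb50) (kb xb13 yb28 zb20) (kb xb13 yb28 zb21) (kb xb13 yb28 zb24) (kb xb13 yb28 zb27) (kb xb13 yb28 zb32) (kb xb13 yb28 zb9) (kb xb7 yb15 zb18) (kb xb3 yb32 zb53) (kb xb13 yb28 zb38) (kb xb3 yb32 zb55) (kb xb13 yb28 zb41) (kb xb3 yb32 zb56) (kb xb13 yb28 zb45) (kb xb3 yb32 zb57) (kb xb13 yb28 zb51) (kb xb3 yb32 zb58) (kb xb13 yb28 zb56) (kb xb13 yb28 zb57) (kb xb13 yb28 zb59) (kb xb13 yb29 zb0) (kb xb3 yb34 zb45) (kb xb3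 yb32 zb60) (kb xb13 yb29 zb7) (kb xb3 yb35 zb5) (kb xb3 yb54 zb44)) (@D3.rec (fun _ => Pt) (kb xb13 yb9 zb55) (kb xb7 yb13 zb45) (kb xb7 yb13 zb33) (kb xb13 yb29 zb16) (kb xb3 yb33 zb11) (kb xb3 yb33 zb12) (kb xb3 yb33 zb7) (kb xb4 yb20 zb10) (kb xb5 yb41 zb26) (kb xb4 yb22 zb51) (kb xb8 yb1 zb3) (kb xb3 yb57 zb22) (kb xb3 yb33 zb9) (kb xb13 yb29 zb28) (kb xb13 yb29 zb29) (kb xb3 yb33 zb10) (kb xb13 yb29 zb32) (kb xb13 yb29 zb35) (kb xb13 yb29 zb38) (kb xb13 yb29 zb43) (kb xb13 yb29 zb21) (kb xb3 yb33 zb13) (kb xb13 yb29 zb46) (kb xb13 yb29 zb47) (kb xb13 yb29 zb49) (kb xb13 yb29 zb51) (kb xb3 yb33 zb16) (kb xb13 yb29 zb55) (kb xb7 yb30 zb15) (kb xb6 yb54 zb41) (kb xb3 yb48 zb27) (kb xb3 yb33 zb18) (kb xb13 yb30 zb0) (kb xb7 yb39 zb13) (kb xb7 yb13 zb32) (kb xb5 yb54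 zb52) (kb xb13 yb29 zb27) (kb xb3 yb33 zb25) (kb xb4 yb32 zb54) (kb xb4 yb32 zb25) (kb xb5 yb42 zb34) (kb xb4 yb22 zb53) (kb xb5 yb16 zb19) (kb xb13 yb11 zb19) (kb xb13 yb30 zb10) (kb xb13 yb30 zb13) (kb xb13 yb30 zb18) (kb xb7 yb35 zb52) (kb xb6 yb14 zb59) (kb xb3 yb33 zb27) (kb xb13 yb30 zb21) (kb xb7 yb14 zb19) (kb xb3 yb55 zb40) (kb xb13 yb14 zb32) (kb xb13 yb30 zb30) (kb xb3 yb33 zb33) (kb xb3 yb33 zb34) (kb xb13 yb30 zb36) (kb xb7 yb14 zb13) (kb xb9 yb2 zb31) (kb xb13 yb30 zb41) (kb xb7 yb14 zb17)) (@D3.rec (fun _ => Pt) (kb xb13 yb30 zb46) (kb xb13 yb30 zb35) (kb xb7 yb14 zb1) (kb xb7 yb14 zb6) (kb xb13 yb30 zb50) (kb xb13 yb30 zb24) (kb xb3 yb33 zb40) (kb xb4 yb23 zb12) (kb xb13 yb30 zb58) (kb xb6 yb14 zb26) (kb xb3 yb57 zb25) (kb xb7 yb14 zb23) (kb xb13 yb31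 zb1) (kb xb13 yb31 zb5) (kb xb4 yb26 zb36) (kb xb5 yb49 zb38) (kb xb3 yb33 zb44) (kb xb5 yb12 zb57) (kb xb12 yb7 zb19) (kb xb13 yb31 zb10) (kb xb13 yb31 zb11) (kb xb3 yb33 zb45) (kb xb10 yb2 zb52) (kb xb13 yb31 zb16) (kb xb6 yb14 zb35) (kb xb3 yb57 zb19) (kb xb8 yb1 zb2) (kb xb9 yb8 zb12) (kb xb4 yb25 zb37) (kb xb11 yb41 zb36) (kb xb7 yb14 zb38) (kb xb7 yb14 zb46) (kb xb11 yb28 zb0) (kb xb3 yb55 zb50) (kb xb3 yb33 zb51) (kb xb3 yb33 zb52) (kb xb3 yb48 zb10) (kb xb7 yb5 zb28) (kb xb3 yb45 zb2) (kb xb13 yb31 zb45) (kb xb7 yb14 zb43) (kb xb13 yb31 zb52) (kb xb13 yb31 zb41) (kb xb13 yb31 zb44) (kb xb7 yb14 zb39) (kb xb13 yb28 zb19) (kb xb3 yb53 zb61) (kb xb3 yb33 zb55) (kb xb3 yb33 zb56) (kb xb3 yb54 zb0) (kb xb3 yb54 zb1) (kb xb13 yb32 zb11) (kb xb13 yb32 zb6) (kb xb13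 yb32 zb9) (kb xb13 yb32 zb10) (kb xb3 yb33 zb57) (kb xb13 yb32 zb23) (kb xb13 yb32 zb19) (kb xb13 yb32 zb20) (kb xb3 yb33 zb58) (kb xb13 yb32 zb32) (kb xb13 yb32 zb30)) (@D3.rec (fun _ => Pt) (kb xb13 yb32 zb31) (kb xb13 yb32 zb38) (kb xb13 yb32 zb40) (kb xb3 yb33 zb59) (kb xb13 yb32 zb45) (kb xb13 yb32 zb46) (kb xb7 yb15 zb5) (kb xb7 yb12 zb29) (kb xb6 yb53 zb2) (kb xb3 yb34 zb1) (kb xb13 yb32 zb55) (kb xb3 yb35 zb3) (kb xb7 yb0 zb47) (kb xb7 yb45 zb45) (kb xb3 yb34 zb4) (kb xb13 yb32 zb61) (kb xb7 yb15 zb10) (kb xb13 yb28 zb37) (kb xb3 yb34 zb6) (kb xb3 yb34 zb7) (kb xb13 yb33 zb12) (kb xb13 yb33 zb15) (kb xb13 yb33 zb18) (kb xb13 yb33 zb9) (kb xb13 yb15 zb6) (kb xb13 yb33 zb11) (kb xb13 yb33 zb25) (kb xb13 yb33 zb26) (kb xb3 yb34 zb9) (kb xb13 yb33 zb30) (kb xb3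 yb34 zb10) (kb xb13 yb33 zb34) (kb xb13 yb33 zb35) (kb xb3 yb34 zb54) (kb xb13 yb33 zb38) (kb xb3 yb34 zb17) (kb xb7 yb13 zb8) (kb xb12 yb8 zb38) (kb xb3 yb34 zb14) (kb xb3 yb34 zb15) (kb xb13 yb33 zb50) (kb xb13 yb33 zb46) (kb xb13 yb33 zb48) (kb xb13 yb33 zb49) (kb xb3 yb34 zb16) (kb xb13 yb33 zb60) (kb xb3 yb49 zb3) (kb xb3 yb34 zb20) (kb xb3 yb34 zb19) (kb xb10 yb46 zb9) (kb xb13 yb34 zb0) (kb xb3 yb34 zb21) (kb xb6 yb55 zb9) (kb xb13 yb34 zb4) (kb xb13 yb34 zb6) (kb xb13 yb34 zb8) (kb xb13 yb34 zb10) (kb xb7 yb10 zb57) (kb xb12 yb19 zb3) (kb xb3 yb34 zb26) (kb xb13 yb34 zb18) (kb xb3 yb34 zb27)) (@D3.rec (fun _ => Pt) (kb xb13 yb34 zb23) (kb xb6 yb51 zb49) (kb xb7 yb15 zb55) (kb xb3 yb34 zb29) (kb xb13 yb34 zb31) (kb xb3 yb34 zb30) (kb xb13 yb34 zb38) (kb xb7 yb37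 zb41) (kb xb3 yb34 zb36) (kb xb13 yb34 zb39) (kb xb6 yb57 zb52) (kb xb7 yb16 zb41) (kb xb3 yb34 zb33) (kb xb3 yb34 zb34) (kb xb13 yb34 zb43) (kb xb13 yb13 zb26) (kb xb13 yb34 zb45) (kb xb13 yb34 zb46) (kb xb13 yb34 zb52) (kb xb13 yb34 zb53) (kb xb13 yb34 zb56) (kb xb13 yb28 zb50) (kb xb7 yb5 zb13) (kb xb3 yb34 zb38) (kb xb3 yb34 zb39) (kb xb13 yb35 zb4) (kb xb13 yb35 zb6) (kb xb13 yb35 zb12) (kb xb13 yb35 zb15) (kb xb13 yb28 zb55) (kb xb3 yb34 zb41) (kb xb3 yb34 zb42) (kb xb13 yb35 zb24) (kb xb13 yb35 zb27) (kb xb13 yb35 zb28) (kb xb3 yb34 zb43) (kb xb3 yb53 zb3) (kb xb13 yb35 zb36) (kb xb13 yb35 zb37) (kb xb3 yb34 zb44) (kb xb13 yb35 zb42) (kb xb13 yb29 zb4) (kb xb13 yb35 zb47) (kb xb13 yb35 zb50) (kb xb3 yb34 zb50) (kb xb3 yb34 zb51) (kb xb3 yb34 zb48) (kb xb13 yb35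 zb59) (kb xb3 yb34 zb49) (kb xb13 yb36 zb4) (kb xb13 yb36 zb9) (kb xb13 yb36 zb13) (kb xb13 yb35 zb55) (kb xb13 yb35 zb56) (kb xb13 yb36 zb20) (kb xb13 yb36 zb23) (kb xb8 yb57 zb7) (kb xb7 yb9 zb57) (kb xb13 yb36 zb31) (kb xb13 yb36 zb33) (kb xb13 yb36 zb35) (kb xb11 yb2 zb51)) (@D3.rec (fun _ => Pt) (kb xb7 yb5 zb4) (kb xb3 yb55 zb36) (kb xb3 yb34 zb58) (kb xb13 yb36 zb40) (kb xb3 yb34 zb59) (kb xb13 yb36 zb43) (kb xb13 yb36 zb44) (kb xb13 yb36 zb47) (kb xb3 yb35 zb0) (kb xb13 yb36 zb49) (kb xb13 yb36 zb52) (kb xb13 yb36 zb55) (kb xb13 yb36 zb60) (kb xb7 yb53 zb2) (kb xb13 yb37 zb4) (kb xb13 yb37 zb5) (kb xb7 yb47 zb45) (kb xb13 yb37 zb7) (kb xb13 yb37 zb8) (kb xb7 yb16 zb36) (kb xb13 yb37 zb11) (kb xb13 yb37 zb12) (kb xb3 yb35 zb8) (kb xb13 yb37 zb16) (kb xb3 yb35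 zb11) (kb xb13 yb37 zb18) (kb xb3 yb35 zb12) (kb xb3 yb35 zb13) (kb xb13 yb37 zb24) (kb xb7 yb24 zb13) (kb xb6 yb57 zb38) (kb xb13 yb37 zb29) (kb xb7 yb12 zb51) (kb xb3 yb35 zb16) (kb xb13 yb37 zb32) (kb xb13 yb37 zb35) (kb xb3 yb35 zb18) (kb xb13 yb37 zb37) (kb xb3 yb35 zb19) (kb xb13 yb37 zb43) (kb xb13 yb37 zb44) (kb xb13 yb37 zb47) (kb xb13 yb37 zb50) (kb xb6 yb23 zb61) (kb xb3 yb35 zb22) (kb xb4 yb47 zb35) (kb xb6 yb27 zb32) (kb xb3 yb35 zb27) (kb xb13 yb37 zb57) (kb xb3 yb35 zb28) (kb xb13 yb37 zb61) (kb xb3 yb35 zb29) (kb xb13 yb38 zb2) (kb xb7 yb18 zb2) (kb xb3 yb54 zb43) (kb xb3 yb39 zb11) (kb xb7 yb12 zb26) (kb xb3 yb49 zb13) (kb xb7 yb3 zb9) (kb xb7 yb3 zb10) (kb xb13 yb16 zb9) (kb xb7 yb5 zb36)) (@D3.rec (fun _ => Pt) (kb xb3 yb35 zb42) (kb xb13 yb38 zb8)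 (kb xb7 yb6 zb5) (kb xb7 yb5 zb39) (kb xb13 yb38 zb18) (kb xb3 yb35 zb50) (kb xb3 yb35 zb51) (kb xb6 yb16 zb28) (kb xb3 yb35 zb46) (kb xb13 yb38 zb28) (kb xb4 yb42 zb51) (kb xb4 yb24 zb31) (kb xb3 yb35 zb48) (kb xb13 yb38 zb33) (kb xb13 yb38 zb34) (kb xb3 yb35 zb49) (kb xb11 yb37 zb53) (kb xb13 yb38 zb38) (kb xb10 yb22 zb11) (kb xb13 yb38 zb41) (kb xb13 yb38 zb25) (kb xb3 yb35 zb52) (kb xb13 yb38 zb44) (kb xb13 yb38 zb45) (kb xb13 yb38 zb49) (kb xb7 yb3 zb17) (kb xb7 yb11 zb56) (kb xb3 yb52 zb44) (kb xb3 yb39 zb3) (kb xb7 yb9 zb7) (kb xb7 yb33 zb45) (kb xb4 yb24 zb6) (kb xb13 yb38 zb32) (kb xb3 yb36 zb10) (kb xb3 yb36 zb11) (kb xb4 yb23 zb58) (kb xb3 yb36 zb8) (kb xb13 yb38 zb56) (kb xb13 yb38 zb57) (kb xb3 yb36 zb9) (kb xb13 yb39 zb0) (kb xb13 yb39 zb1) (kb xb11 yb7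 zb13) (kb xb13 yb39 zb4) (kb xb13 yb39 zb7) (kb xb13 yb38 zb55) (kb xb3 yb36 zb12) (kb xb13 yb39 zb10) (kb xb3 yb36 zb13) (kb xb3 yb36 zb14) (kb xb13 yb39 zb16) (kb xb7 yb11 zb32) (kb xb7 yb6 zb1) (kb xb3 yb36 zb16) (kb xb13 yb39 zb21) (kb xb7 yb13 zb22) (kb xb8 yb44 zb24) (kb xb13 yb9 zb50) (kb xb13 yb39 zb27) (kb xb13 yb10 zb7) (kb xb3 yb36 zb21) (kb xb3 yb36 zb22)) (@D3.rec (fun _ => Pt) (kb xb3 yb36 zb19) (kb xb13 yb39 zb37) (kb xb3 yb36 zb20) (kb xb13 yb39 zb43) (kb xb13 yb39 zb46) (kb xb13 yb39 zb49) (kb xb13 yb39 zb54) (kb xb13 yb39 zb36) (kb xb7 yb9 zb36) (kb xb3 yb36 zb24) (kb xb13 yb39 zb61) (kb xb3 yb36 zb25) (kb xb13 yb40 zb4) (kb xb13 yb40 zb7) (kb xb13 yb40 zb8) (kb xb3 yb36 zb27) (kb xb13 yb40 zb11) (kb xb13 yb40 zb12) (kb xb13 yb40 zb15) (kb xb13 yb40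 zb17) (kb xb3 yb36 zb30) (kb xb13 yb40 zb20) (kb xb7 yb12 zb55) (kb xb3 yb49 zb5) (kb xb3 yb36 zb44) (kb xb3 yb36 zb32) (kb xb13 yb40 zb29) (kb xb3 yb36 zb34) (kb xb13 yb40 zb30) (kb xb6 yb15 zb8) (kb xb3 yb36 zb36) (kb xb13 yb40 zb35) (kb xb7 yb7 zb34) (kb xb7 yb7 zb2) (kb xb13 yb40 zb39) (kb xb3 yb36 zb39) (kb xb13 yb40 zb45) (kb xb3 yb36 zb40) (kb xb10 yb22 zb14) (kb xb7 yb48 zb56) (kb xb13 yb40 zb51) (kb xb13 yb40 zb53) (kb xb13 yb40 zb57) (kb xb12 yb30 zb20) (kb xb13 yb40 zb26) (kb xb7 yb7 zb1) (kb xb13 yb40 zb44) (kb xb3 yb36 zb51) (kb xb3 yb36 zb52) (kb xb7 yb59 zb12) (kb xb9 yb3 zb7) (kb xb3 yb36 zb49) (kb xb13 yb41 zb1) (kb xb13 yb41 zb2) (kb xb3 yb36 zb50) (kb xb13 yb41 zb9) (kb xb11 yb15 zb44) (kb xb13 yb41 zb13) (kb xb13 yb41 zb17) (kb xb10 yb14 zb52) (kb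 xb3 yb36 zb53) (kb xb13 yb41 zb20)) (@D3.rec (fun _ => Pt) (kb xb7 yb49 zb41) (kb xb7 yb8 zb2) (kb xb3 yb36 zb55) (kb xb3 yb44 zb35) (kb xb13 yb41 zb26) (kb xb6 yb25 zb29) (kb xb7 yb8 zb3) (kb xb8 yb44 zb30) (kb xb4 yb32 zb61) (kb xb13 yb41 zb31) (kb xb13 yb41 zb34) (kb xb3 yb36 zb60) (kb xb8 yb44 zb17) (kb xb7 yb7 zb58) (kb xb7 yb56 zb23) (kb xb4 yb32 zb50) (kb xb13 yb41 zb46) (kb xb7 yb7 zb61) (kb xb13 yb41 zb49) (kb xb7 yb7 zb51) (kb xb13 yb41 zb53) (kb xb13 yb14 zb2) (kb xb3 yb37 zb2) (kb xb7 yb8 zb11) (kb xb13 yb41 zb58) (kb xb13 yb41 zb60) (kb xb8 yb44 zb14) (kb xb9 yb14 zb47) (kb xb5 yb50 zb48) (kb xb3 yb37 zb4) (kb xb11 yb8 zb26) (kb xb11 yb33 zb61) (kb xb4 yb4 zb53) (kb xb4 yb27 zb6) (kb xb4 yb26 zb60) (kb xb7 yb57 zb12) (kb xb6 yb13 zb6) (kb xb11 yb47 zb28)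 (kb xb7 yb8 zb30) (kb xb7 yb8 zb44) (kb xb12 yb8 zb23) (kb xb3 yb37 zb9) (kb xb13 yb42 zb23) (kb xb7 yb8 zb40) (kb xb13 yb42 zb6) (kb xb13 yb42 zb22) (kb xb7 yb8 zb31) (kb xb13 yb39 zb42) (kb xb3 yb54 zb55) (kb xb3 yb37 zb11) (kb xb3 yb37 zb12) (kb xb13 yb42 zb43) (kb xb8 yb50 zb57) (kb xb13 yb42 zb42) (kb xb3 yb37 zb13) (kb xb13 yb42 zb11) (kb xb13 yb42 zb51) (kb xb13 yb42 zb52) (kb xb3 yb37 zb14) (kb xb13 yb43 zb2) (kb xb13 yb43 zb0) (kb xb13 yb43 zb1)) (@D3.rec (fun _ => Pt) (kb xb13 yb43 zb9) (kb xb13 yb43 zb12) (kb xb3 yb37 zb15) (kb xb13 yb43 zb18) (kb xb13 yb43 zb19) (kb xb7 yb9 zb6) (kb xb3 yb37 zb17) (kb xb8 yb27 zb47) (kb xb3 yb37 zb18) (kb xb13 yb43 zb30) (kb xb7 yb9 zb16) (kb xb13 yb39 zb60) (kb xb3 yb37 zb20) (kb xb13 yb43 zb39) (kb xb13 yb43 zb42) (kb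 xb13 yb43 zb45) (kb xb13 yb43 zb38) (kb xb3 yb37 zb29) (kb xb7 yb6 zb43) (kb xb13 yb40 zb3) (kb xb3 yb37 zb26) (kb xb3 yb37 zb27) (kb xb13 yb43 zb59) (kb xb13 yb43 zb56) (kb xb13 yb44 zb3) (kb xb13 yb43 zb58) (kb xb3 yb37 zb28) (kb xb10 yb47 zb8) (kb xb13 yb44 zb6) (kb xb3 yb37 zb32) (kb xb13 yb44 zb7) (kb xb3 yb37 zb31) (kb xb8 yb29 zb16) (kb xb13 yb44 zb8) (kb xb13 yb8 zb45) (kb xb3 yb37 zb36) (kb xb3 yb37 zb34) (kb xb11 yb50 zb52) (kb xb13 yb44 zb10) (kb xb13 yb44 zb12) (kb xb3 yb37 zb37) (kb xb13 yb44 zb16) (kb xb3 yb37 zb38) (kb xb13 yb44 zb22) (kb xb13 yb44 zb23) (kb xb13 yb44 zb25) (kb xb13 yb44 zb26) (kb xb3 yb37 zb40) (kb xb13 yb44 zb29) (kb xb13 yb44 zb31) (kb xb13 yb44 zb28) (kb xb6 yb56 zb25) (kb xb3 yb37 zb44) (kb xb13 yb5 zb30) (kb xb13 yb44 zb38) (kb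 xb7 yb10 zb2) (kb xb3 yb37 zb46) (kb xb5 yb18 zb5) (kb xb7 yb30 zb48) (kb xb13 yb44 zb48) (kb xb13 yb34 zb22) (kb xb6 yb51 zb29)) (@D3.rec (fun _ => Pt) (kb xb3 yb37 zb48) (kb xb3 yb37 zb49) (kb xb13 yb44 zb58) (kb xb13 yb44 zb61) (kb xb13 yb45 zb4) (kb xb13 yb45 zb5) (kb xb7 yb1 zb19) (kb xb3 yb37 zb51) (kb xb3 yb37 zb52) (kb xb13 yb45 zb11) (kb xb13 yb45 zb14) (kb xb3 yb37 zb55) (kb xb3 yb37 zb54) (kb xb13 yb45 zb22) (kb xb13 yb45 zb26) (kb xb13 yb45 zb30) (kb xb13 yb45 zb18) (kb xb7 yb18 zb40) (kb xb7 yb18 zb42) (kb xb3 yb37 zb58) (kb xb13 yb45 zb40) (kb xb3 yb37 zb59) (kb xb13 yb45 zb44) (kb xb3 yb37 zb60) (kb xb13 yb45 zb50) (kb xb13 yb45 zb53) (kb xb13 yb45 zb55) (kb xb6 yb3 zb60) (kb xb7 yb51 zb11) (kb xb13 yb46 zb2) (kb xb8 yb29 zb24) (kb xb11 yb22 zb60) (kb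 xb7 yb39 zb7) (kb xb7 yb39 zb8) (kb xb7 yb2 zb37) (kb xb13 yb46 zb13) (kb xb7 yb11 zb19) (kb xb7 yb25 zb34) (kb xb7 yb25 zb35) (kb xb13 yb8 zb7) (kb xb13 yb46 zb17) (kb xb7 yb10 zb11) (kb xb3 yb38 zb10) (kb xb12 yb57 zb21) (kb xb3 yb38 zb12) (kb xb3 yb46 zb19) (kb xb13 yb46 zb24) (kb xb3 yb38 zb15) (kb xb13 yb46 zb30) (kb xb13 yb46 zb34) (kb xb3 yb38 zb18) (kb xb3 yb38 zb19) (kb xb13 yb46 zb28) (kb xb13 yb46 zb29) (kb xb3 yb38 zb16) (kb xb13 yb46 zb44) (kb xb3 yb38 zb17) (kb xb13 yb46 zb47) (kb xb13 yb46 zb48) (kb xb13 yb46 zb51) (kb xb13 yb46 zb55) (kb xb13 yb46 zb41)) (@D3.rec (fun _ => Pt) (kb xb3 yb38 zb20) (kb xb13 yb46 zb57) (kb xb3 yb38 zb23) (kb xb3 yb38 zb22) (kb xb13 yb46 zb61) (kb xb13 yb47 zb0) (kb xb7 yb28 zb27) (kb xb7 yb19 zb6) (kb xb3 yb38 zb25) (kb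 xb6 yb58 zb42) (kb xb13 yb47 zb5) (kb xb12 yb8 zb32) (kb xb13 yb47 zb9) (kb xb3 yb38 zb28) (kb xb13 yb47 zb13) (kb xb13 yb47 zb15) (kb xb12 yb7 zb31) (kb xb13 yb47 zb17) (kb xb12 yb7 zb47) (kb xb3 yb38 zb30) (kb xb3 yb38 zb31) (kb xb13 yb47 zb24) (kb xb13 yb47 zb26) (kb xb13 yb47 zb23) (kb xb3 yb38 zb33) (kb xb4 yb36 zb45) (kb xb13 yb47 zb29) (kb xb8 yb48 zb60) (kb xb8 yb38 zb13) (kb xb8 yb10 zb36) (kb xb9 yb8 zb13) (kb xb3 yb57 zb50) (kb xb11 yb34 zb34) (kb xb5 yb6 zb45) (kb xb13 yb47 zb45) (kb xb7 yb19 zb21) (kb xb7 yb19 zb27) (kb xb12 yb8 zb29) (kb xb3 yb38 zb39) (kb xb3 yb38 zb40) (kb xb13 yb47 zb59) (kb xb13 yb48 zb2) (kb xb13 yb47 zb56) (kb xb7 yb19 zb22) (kb xb13 yb34 zb24) (kb xb3 yb40 zb44) (kb xb3 yb38 zb42) (kb xb3 yb38 zb43) (kb xb13 yb48 zb20) (kb xb13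 yb48 zb16) (kb xb6 yb52 zb23) (kb xb13 yb48 zb18) (kb xb13 yb48 zb19) (kb xb3 yb38 zb44) (kb xb13 yb48 zb31) (kb xb13 yb48 zb29) (kb xb3 yb38 zb45) (kb xb13 yb48 zb40) (kb xb13 yb48 zb39) (kb xb13 yb48 zb45) (kb xb13 yb48 zb47) (kb xb3 yb38 zb46)) (@D3.rec (fun _ => Pt) (kb xb13 yb48 zb52) (kb xb13 yb48 zb53) (kb xb7 yb11 zb53) (kb xb6 yb34 zb11) (kb xb3 yb38 zb50) (kb xb11 yb2 zb49) (kb xb3 yb38 zb53) (kb xb13 yb49 zb0) (kb xb7 yb19 zb43) (kb xb13 yb16 zb3) (kb xb3 yb38 zb55) (kb xb3 yb38 zb56) (kb xb13 yb49 zb12) (kb xb13 yb16 zb12) (kb xb13 yb49 zb17) (kb xb13 yb49 zb8) (kb xb7 yb40 zb38) (kb xb13 yb49 zb11) (kb xb13 yb49 zb23) (kb xb3 yb38 zb57) (kb xb13 yb49 zb26) (kb xb13 yb23 zb43) (kb xb13 yb38 zb9) (kb xb3 yb38 zb61) (kb xb3 yb39 zb0) (kb xb13 yb49 zb35) (kb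 xb13 yb49 zb32) (kb xb13 yb49 zb41) (kb xb10 yb22 zb12) (kb xb13 yb49 zb34) (kb xb3 yb39 zb1) (kb xb13 yb49 zb45) (kb xb3 yb39 zb4) (kb xb13 yb49 zb47) (kb xb3 yb39 zb5) (kb xb13 yb45 zb21) (kb xb13 yb49 zb49) (kb xb3 yb39 zb7) (kb xb13 yb49 zb54) (kb xb13 yb40 zb19) (kb xb7 yb16 zb17) (kb xb13 yb50 zb1) (kb xb7 yb16 zb18) (kb xb3 yb39 zb10) (kb xb13 yb50 zb3) (kb xb13 yb50 zb5) (kb xb3 yb52 zb34) (kb xb3 yb39 zb17) (kb xb7 yb0 zb40) (kb xb8 yb49 zb49) (kb xb13 yb50 zb8) (kb xb13 yb50 zb12) (kb xb3 yb39 zb19) (kb xb7 yb22 zb39) (kb xb6 yb15 zb3) (kb xb3 yb39 zb21) (kb xb13 yb50 zb21) (kb xb6 yb15 zb7) (kb xb6 yb14 zb55) (kb xb13 yb50 zb28) (kb xb3 yb39 zb24) (kb xb3 yb39 zb25)) (@D3.rec (fun _ => Pt) (kb xb13 yb50 zb32) (kb xb6 yb58 zb21) (kb xb13 yb50 zb35) (kb xb13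 yb50 zb31) (kb xb3 yb39 zb26) (kb xb13 yb50 zb39) (kb xb7 yb17 zb7) (kb xb13 yb50 zb40) (kb xb13 yb50 zb24) (kb xb3 yb39 zb30) (kb xb13 yb50 zb44) (kb xb6 yb24 zb40) (kb xb6 yb13 zb54) (kb xb4 yb37 zb4) (kb xb10 yb5 zb5) (kb xb5 yb53 zb37) (kb xb4 yb1 zb17) (kb xb4 yb1 zb18) (kb xb10 yb5 zb6) (kb xb4 yb2 zb10) (kb xb13 yb50 zb57) (kb xb7 yb17 zb35) (kb xb7 yb17 zb43) (kb xb13 yb38 zb1) (kb xb3 yb39 zb36) (kb xb3 yb39 zb37) (kb xb13 yb51 zb5) (kb xb7 yb17 zb36) (kb xb13 yb37 zb60) (kb xb3 yb39 zb39) (kb xb3 yb39 zb40) (kb xb13 yb51 zb17) (kb xb13 yb51 zb20) (kb xb3 yb39 zb41) (kb xb13 yb51 zb27) (kb xb13 yb51 zb26) (kb xb3 yb39 zb42) (kb xb13 yb51 zb36) (kb xb13 yb51 zb35) (kb xb13 yb51 zb41) (kb xb13 yb51 zb43) (kb xb3 yb39 zb43) (kb xb7 yb39 zb9) (kb xb7 yb18 zb8)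 (kb xb6 yb59 zb36) (kb xb3 yb39 zb46) (kb xb3 yb39 zb47) (kb xb13 yb51 zb52) (kb xb13 yb51 zb60) (kb xb13 yb51 zb55) (kb xb6 yb59 zb33) (kb xb13 yb23 zb58) (kb xb3 yb39 zb50) (kb xb3 yb39 zb51) (kb xb13 yb52 zb5) (kb xb13 yb52 zb12) (kb xb13 yb52 zb7) (kb xb13 yb52 zb13) (kb xb13 yb52 zb14) (kb xb7 yb24 zb53) (kb xb7 yb24 zb54) (kb xb3 yb39 zb54)) (@D3.rec (fun _ => Pt) (kb xb3 yb39 zb55) (kb xb3 yb39 zb56) (kb xb5 yb34 zb58) (kb xb12 yb16 zb3) (kb xb6 yb21 zb15) (kb xb13 yb52 zb25) (kb xb13 yb52 zb27) (kb xb13 yb52 zb29) (kb xb6 yb22 zb34) (kb xb13 yb52 zb33) (kb xb8 yb35 zb42) (kb xb13 yb52 zb34) (kb xb6 yb27 zb54) (kb xb3 yb40 zb2) (kb xb13 yb52 zb38) (kb xb7 yb41 zb3) (kb xb7 yb41 zb6) (kb xb7 yb41 zb7) (kb xb7 yb25 zb7) (kb xb3 yb40 zb6) (kb xb11 yb26 zb57) (kb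 xb13 yb52 zb44) (kb xb7 yb25 zb50) (kb xb7 yb25 zb51) (kb xb3 yb40 zb11) (kb xb7 yb25 zb15) (kb xb13 yb52 zb55) (kb xb3 yb40 zb14) (kb xb3 yb40 zb15) (kb xb3 yb40 zb10) (kb xb13 yb53 zb0) (kb xb13 yb53 zb5) (kb xb13 yb53 zb8) (kb xb13 yb52 zb51) (kb xb13 yb52 zb52) (kb xb3 yb40 zb12) (kb xb13 yb53 zb15) (kb xb13 yb53 zb16) (kb xb3 yb40 zb13) (kb xb13 yb53 zb19) (kb xb13 yb53 zb22) (kb xb13 yb53 zb25) (kb xb12 yb25 zb57) (kb xb13 yb52 zb60) (kb xb3 yb40 zb16) (kb xb13 yb53 zb28) (kb xb13 yb53 zb29) (kb xb13 yb53 zb31) (kb xb13 yb53 zb33) (kb xb3 yb40 zb19) (kb xb13 yb53 zb37) (kb xb3 yb40 zb20) (kb xb3 yb40 zb21) (kb xb7 yb38 zb10) (kb xb13 yb53 zb43) (kb xb7 yb26 zb23) (kb xb3 yb40 zb23) (kb xb13 yb53 zb46) (kb xb13 yb18 zb24) (kb xb13 yb53 zb49) (kb xb10 yb40 zb45)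 (kb xb7 yb30 zb12)) (@D3.rec (fun _ => Pt) (kb xb3 yb48 zb21) (kb xb3 yb46 zb61) (kb xb3 yb40 zb25) (kb xb3 yb40 zb26) (kb xb13 yb53 zb57) (kb xb3 yb40 zb27) (kb xb13 yb8 zb49) (kb xb13 yb8 zb50) (kb xb7 yb25 zb10) (kb xb7 yb25 zb11) (kb xb13 yb6 zb21) (kb xb3 yb40 zb33) (kb xb13 yb53 zb14) (kb xb3 yb40 zb35) (kb xb13 yb54 zb11) (kb xb8 yb34 zb13) (kb xb13 yb54 zb5) (kb xb13 yb54 zb6) (kb xb7 yb45 zb34) (kb xb7 yb45 zb35) (kb xb6 yb41 zb17) (kb xb13 yb54 zb23) (kb xb13 yb54 zb26) (kb xb6 yb53 zb44) (kb xb13 yb19 zb5) (kb xb13 yb19 zb6) (kb xb13 yb54 zb30) (kb xb3 yb40 zb39) (kb xb13 yb54 zb36) (kb xb12 yb48 zb7) (kb xb3 yb40 zb41) (kb xb3 yb40 zb42) (kb xb13 yb54 zb45) (kb xb13 yb54 zb49) (kb xb13 yb54 zb34) (kb xb13 yb54 zb35) (kb xb3 yb40 zb40) (kb xb13 yb54 zb57)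 (kb xb13 yb54 zb60) (kb xb13 yb55 zb1) (kb xb13 yb55 zb6) (kb xb13 yb54 zb44) (kb xb7 yb30 zb3) (kb xb3 yb40 zb43) (kb xb13 yb55 zb9) (kb xb13 yb48 zb12) (kb xb3 yb40 zb46) (kb xb13 yb55 zb15) (kb xb7 yb27 zb41) (kb xb3 yb40 zb48) (kb xb13 yb55 zb18) (kb xb3 yb40 zb53) (kb xb7 yb27 zb47) (kb xb13 yb55 zb26) (kb xb3 yb40 zb56) (kb xb3 yb40 zb51) (kb xb13 yb55 zb34) (kb xb3 yb40 zb52) (kb xb13 yb17 zb33) (kb xb13 yb55 zb43) (kb xb13 yb55 zb47) (kb xb13 yb55 zb22)) (@D3.rec (fun _ => Pt) (kb xb13 yb55 zb23) (kb xb3 yb40 zb54) (kb xb13 yb55 zb57) (kb xb13 yb55 zb58) (kb xb3 yb40 zb55) (kb xb13 yb56 zb1) (kb xb13 yb56 zb4) (kb xb13 yb56 zb7) (kb xb13 yb56 zb10) (kb xb6 yb59 zb43) (kb xb3 yb45 zb39) (kb xb3 yb40 zb58) (kb xb7 yb5 zb32) (kb xb7 yb3 zb37) (kb xb13 yb6 zb22)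 (kb xb7 yb27 zb44) (kb xb7 yb27 zb45) (kb xb13 yb55 zb32) (kb xb12 yb31 zb33) (kb xb3 yb41 zb4) (kb xb13 yb55 zb56) (kb xb3 yb41 zb7) (kb xb3 yb41 zb8) (kb xb13 yb56 zb29) (kb xb13 yb56 zb31) (kb xb13 yb56 zb22) (kb xb13 yb56 zb23) (kb xb3 yb41 zb5) (kb xb13 yb56 zb39) (kb xb13 yb56 zb40) (kb xb3 yb41 zb6) (kb xb13 yb56 zb47) (kb xb13 yb56 zb48) (kb xb13 yb56 zb51) (kb xb13 yb56 zb54) (kb xb13 yb56 zb57) (kb xb13 yb56 zb28) (kb xb3 yb41 zb9) (kb xb13 yb56 zb60) (kb xb7 yb18 zb53) (kb xb5 yb50 zb51) (kb xb7 yb28 zb53) (kb xb3 yb41 zb11) (kb xb6 yb58 zb41) (kb xb11 yb45 zb23) (kb xb13 yb57 zb4) (kb xb4 yb24 zb30) (kb xb7 yb28 zb54) (kb xb6 yb24 zb61) (kb xb7 yb2 zb19) (kb xb11 yb47 zb4) (kb xb3 yb41 zb15) (kb xb12 yb8 zb8) (kb xb13 yb57 zb21) (kb xb3 yb41 zb16) (kb xb13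 yb57 zb28) (kb xb7 yb28 zb44) (kb xb13 yb57 zb16) (kb xb13 yb57 zb17) (kb xb13 yb57 zb37) (kb xb13 yb57 zb40) (kb xb3 yb41 zb17)) (@D3.rec (fun _ => Pt) (kb xb13 yb57 zb41) (kb xb7 yb28 zb28) (kb xb7 yb28 zb29) (kb xb7 yb28 zb33) (kb xb7 yb28 zb34) (kb xb13 yb57 zb47) (kb xb7 yb28 zb35) (kb xb3 yb41 zb22) (kb xb13 yb57 zb54) (kb xb13 yb24 zb46) (kb xb3 yb41 zb23) (kb xb3 yb41 zb24) (kb xb7 yb28 zb58) (kb xb13 yb58 zb1) (kb xb13 yb57 zb52) (kb xb13 yb57 zb53) (kb xb13 yb58 zb8) (kb xb13 yb58 zb12) (kb xb13 yb57 zb61) (kb xb7 yb29 zb9) (kb xb11 yb18 zb0) (kb xb3 yb41 zb26) (kb xb7 yb29 zb6) (kb xb4 yb10 zb42) (kb xb7 yb29 zb2) (kb xb3 yb41 zb28) (kb xb4 yb57 zb28) (kb xb13 yb58 zb28) (kb xb13 yb58 zb24) (kb xb13 yb58 zb25) (kb xb13 yb58 zb35) (kb xb13 yb58 zb37) (kb xb4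 yb31 zb46) (kb xb3 yb41 zb30) (kb xb11 yb30 zb45) (kb xb13 yb58 zb43) (kb xb13 yb58 zb41) (kb xb3 yb41 zb31) (kb xb11 yb20 zb7) (kb xb13 yb58 zb48) (kb xb13 yb58 zb49) (kb xb3 yb41 zb32) (kb xb13 yb59 zb2) (kb xb13 yb59 zb0) (kb xb13 yb59 zb1) (kb xb13 yb59 zb8) (kb xb13 yb59 zb12) (kb xb13 yb59 zb18) (kb xb7 yb29 zb30) (kb xb7 yb29 zb38) (kb xb11 yb3 zb61) (kb xb3 yb41 zb36) (kb xb3 yb41 zb37) (kb xb13 yb59 zb29) (kb xb13 yb59 zb34) (kb xb11 yb3 zb47) (kb xb9 yb10 zb52) (kb xb7 yb29 zb31) (kb xb13 yb54 zb56) (kb xb3 yb41 zb39) (kb xb3 yb41 zb40) (kb xb13 yb59 zb46)) (@D3.rec (fun _ => Pt) (kb xb13 yb59 zb42) (kb xb13 yb59 zb45) (kb xb3 yb41 zb41) (kb xb13 yb59 zb58) (kb xb13 yb59 zb55) (kb xb3 yb41 zb42) (kb xb14 yb0 zb5) (kb xb14 yb0 zb4) (kb xb14 yb0 zb10) (kb xb14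 yb0 zb12) (kb xb3 yb41 zb43) (kb xb14 yb0 zb17) (kb xb14 yb0 zb18) (kb xb7 yb11 zb29) (kb xb3 yb41 zb47) (kb xb14 yb0 zb26) (kb xb7 yb29 zb55) (kb xb13 yb44 zb53) (kb xb3 yb41 zb49) (kb xb3 yb41 zb50) (kb xb14 yb0 zb37) (kb xb14 yb0 zb40) (kb xb14 yb0 zb43) (kb xb14 yb0 zb33) (kb xb13 yb9 zb41) (kb xb14 yb0 zb36) (kb xb13 yb13 zb33) (kb xb3 yb41 zb51) (kb xb14 yb0 zb52) (kb xb13 yb44 zb21) (kb xb3 yb41 zb53) (kb xb14 yb0 zb55) (kb xb14 yb0 zb56) (kb xb13 yb24 zb15) (kb xb13 yb48 zb8) (kb xb3 yb41 zb57) (kb xb3 yb41 zb58) (kb xb14 yb1 zb1) (kb xb12 yb1 zb6) (kb xb14 yb1 zb6) (kb xb9 yb20 zb13) (kb xb3 yb41 zb59) (kb xb14 yb1 zb7) (kb xb14 yb1 zb9) (kb xb10 yb39 zb61) (kb xb14 yb1 zb15) (kb xb6 yb52 zb58) (kb xb14 yb1 zb21) (kb xb14 yb1 zb22) (kb xb3 yb55 zb35) (kb xb14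 yb1 zb24) (kb xb14 yb1 zb25) (kb xb14 yb1 zb27) (kb xb7 yb19 zb59) (kb xb7 yb19 zb60) (kb xb6 yb18 zb44) (kb xb12 yb44 zb6) (kb xb14 yb1 zb36) (kb xb6 yb42 zb10) (kb xb3 yb42 zb6) (kb xb3 yb42 zb7) (kb xb7 yb51 zb13)) (@D3.rec (fun _ => Pt) (kb xb6 yb55 zb11) (kb xb3 yb42 zb36) (kb xb3 yb42 zb10) (kb xb4 yb37 zb38) (kb xb3 yb42 zb12) (kb xb14 yb1 zb48) (kb xb7 yb50 zb60) (kb xb7 yb20 zb18) (kb xb3 yb42 zb14) (kb xb14 yb1 zb50) (kb xb7 yb21 zb8) (kb xb7 yb21 zb9) (kb xb6 yb13 zb55) (kb xb14 yb1 zb55) (kb xb3 yb42 zb21) (kb xb7 yb20 zb25) (kb xb14 yb2 zb1) (kb xb3 yb42 zb24) (kb xb3 yb42 zb18) (kb xb14 yb2 zb7) (kb xb13 yb19 zb11) (kb xb3 yb42 zb20) (kb xb14 yb2 zb16) (kb xb8 yb22 zb32) (kb xb14 yb2 zb18) (kb xb14 yb1 zb59) (kb xb14 yb1 zb60) (kb xb3 yb42 zb22) (kb xb14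 yb2 zb26) (kb xb3 yb42 zb23) (kb xb6 yb41 zb21) (kb xb8 yb33 zb40) (kb xb12 yb34 zb28) (kb xb14 yb2 zb33) (kb xb7 yb16 zb37) (kb xb7 yb16 zb38) (kb xb14 yb2 zb34) (kb xb3 yb42 zb29) (kb xb14 yb2 zb38) (kb xb14 yb2 zb41) (kb xb10 yb4 zb53) (kb xb6 yb42 zb4) (kb xb14 yb2 zb44) (kb xb14 yb2 zb45) (kb xb8 yb21 zb0) (kb xb4 yb11 zb58) (kb xb14 yb2 zb47) (kb xb3 yb42 zb35) (kb xb14 yb2 zb51) (kb xb14 yb1 zb45) (kb xb7 yb20 zb22) (kb xb7 yb20 zb23) (kb xb14 yb2 zb6) (kb xb9 yb3 zb60) (kb xb3 yb42 zb40) (kb xb14 yb2 zb25) (kb xb3 yb42 zb43) (kb xb3 yb42 zb44) (kb xb14 yb2 zb60) (kb xb14 yb3 zb1) (kb xb8 yb33 zb6) (kb xb3 yb42 zb41)) (@D3.rec (fun _ => Pt) (kb xb14 yb3 zb6) (kb xb14 yb3 zb7) (kb xb3 yb42 zb42) (kb xb14 yb3 zb12) (kb xb14 yb3 zb15) (kb xb14 yb3 zb18) (kb xb6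 yb27 zb10) (kb xb3 yb42 zb45) (kb xb12 yb48 zb1) (kb xb7 yb48 zb24) (kb xb14 yb3 zb23) (kb xb3 yb42 zb46) (kb xb14 yb3 zb26) (kb xb14 yb3 zb29) (kb xb6 yb33 zb0) (kb xb3 yb42 zb48) (kb xb14 yb3 zb33) (kb xb3 yb42 zb49) (kb xb13 yb18 zb27) (kb xb3 yb42 zb50) (kb xb14 yb3 zb41) (kb xb14 yb3 zb43) (kb xb3 yb53 zb19) (kb xb7 yb20 zb55) (kb xb3 yb42 zb52) (kb xb14 yb3 zb49) (kb xb14 yb3 zb48) (kb xb14 yb3 zb54) (kb xb9 yb47 zb60) (kb xb3 yb43 zb25) (kb xb3 yb42 zb54) (kb xb7 yb27 zb35) (kb xb14 yb3 zb55) (kb xb7 yb40 zb54) (kb xb3 yb42 zb57) (kb xb13 yb44 zb49) (kb xb14 yb4 zb3) (kb xb3 yb42 zb58) (kb xb14 yb4 zb10) (kb xb14 yb4 zb14) (kb xb14 yb3 zb60) (kb xb14 yb3 zb61) (kb xb7 yb57 zb20) (kb xb5 yb44 zb27) (kb xb3 yb42 zb61) (kb xb3 yb43 zb0) (kb xb3 yb43 zb6) (kb xb14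 yb4 zb23) (kb xb12 yb10 zb45) (kb xb6 yb30 zb50) (kb xb3 yb43 zb4) (kb xb3 yb43 zb5) (kb xb5 yb44 zb21) (kb xb14 yb4 zb26) (kb xb6 yb32 zb59) (kb xb14 yb4 zb31) (kb xb4 yb48 zb24) (kb xb3 yb43 zb9) (kb xb14 yb4 zb37) (kb xb11 yb28 zb28) (kb xb6 yb59 zb49) (kb xb3 yb43 zb12)) (@D3.rec (fun _ => Pt) (kb xb8 yb50 zb0) (kb xb11 yb38 zb40) (kb xb14 yb4 zb41) (kb xb14 yb4 zb42) (kb xb8 yb12 zb37) (kb xb6 yb33 zb17) (kb xb8 yb41 zb14) (kb xb4 yb17 zb52) (kb xb12 yb14 zb61) (kb xb5 yb43 zb8) (kb xb6 yb31 zb22) (kb xb3 yb43 zb17) (kb xb9 yb29 zb30) (kb xb14 yb4 zb50) (kb xb11 yb36 zb15) (kb xb6 yb46 zb20) (kb xb10 yb18 zb47) (kb xb10 yb45 zb41) (kb xb11 yb29 zb20) (kb xb14 yb4 zb54) (kb xb6 yb31 zb54) (kb xb3 yb43 zb22) (kb xb14 yb4 zb57) (kb xb14 yb4 zb58) (kb xb10 yb19 zb1)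 (kb xb6 yb31 zb47) (kb xb3 yb43 zb24) (kb xb13 yb1 zb54) (kb xb11 yb58 zb9) (kb xb3 yb43 zb28) (kb xb14 yb4 zb59) (kb xb12 yb9 zb52) (kb xb6 yb46 zb34) (kb xb9 yb46 zb39) (kb xb4 yb41 zb17) (kb xb7 yb26 zb31) (kb xb6 yb53 zb45) (kb xb3 yb43 zb46) (kb xb3 yb43 zb31) (kb xb14 yb5 zb6) (kb xb13 yb19 zb12) (kb xb7 yb21 zb48) (kb xb3 yb43 zb34) (kb xb14 yb5 zb9) (kb xb7 yb22 zb15) (kb xb7 yb22 zb16) (kb xb3 yb43 zb38) (kb xb7 yb21 zb52) (kb xb14 yb5 zb19) (kb xb3 yb43 zb41) (kb xb3 yb43 zb42) (kb xb14 yb5 zb26) (kb xb14 yb5 zb28) (kb xb14 yb5 zb15) (kb xb14 yb5 zb16) (kb xb3 yb43 zb39) (kb xb14 yb5 zb37) (kb xb14 yb5 zb38) (kb xb3 yb43 zb40) (kb xb14 yb5 zb41) (kb xb14 yb5 zb42) (kb xb14 yb5 zb46)) (@D3.rec (fun _ => Pt) (kb xb14 yb5 zb48) (kb xb14 yb5 zb52) (kb xb14 yb5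 zb25) (kb xb3 yb43 zb43) (kb xb14 yb5 zb56) (kb xb14 yb5 zb59) (kb xb3 yb53 zb13) (kb xb3 yb43 zb45) (kb xb5 yb20 zb61) (kb xb14 yb5 zb3) (kb xb6 yb15 zb6) (kb xb6 yb14 zb57) (kb xb3 yb43 zb50) (kb xb14 yb5 zb36) (kb xb3 yb43 zb53) (kb xb14 yb6 zb11) (kb xb14 yb6 zb14) (kb xb14 yb6 zb6) (kb xb14 yb6 zb7) (kb xb13 yb21 zb9) (kb xb13 yb21 zb10) (kb xb3 yb43 zb52) (kb xb14 yb6 zb25) (kb xb14 yb6 zb26) (kb xb14 yb6 zb29) (kb xb14 yb6 zb31) (kb xb14 yb6 zb32) (kb xb7 yb17 zb6) (kb xb7 yb23 zb1) (kb xb7 yb23 zb2) (kb xb3 yb43 zb55) (kb xb14 yb6 zb36) (kb xb14 yb6 zb37) (kb xb7 yb23 zb3) (kb xb7 yb23 zb4) (kb xb7 yb23 zb6) (kb xb13 yb20 zb56) (kb xb14 yb4 zb48) (kb xb3 yb43 zb59) (kb xb13 yb25 zb30) (kb xb14 yb6 zb58) (kb xb3 yb43 zb60) (kb xb3 yb43 zb61) (kb xb14 yb7 zb4)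 (kb xb7 yb22 zb56) (kb xb14 yb6 zb53) (kb xb14 yb6 zb54) (kb xb14 yb7 zb12) (kb xb3 yb56 zb23) (kb xb14 yb7 zb15) (kb xb14 yb7 zb3) (kb xb3 yb44 zb0) (kb xb14 yb7 zb19) (kb xb7 yb22 zb41) (kb xb7 yb22 zb47) (kb xb14 yb7 zb23) (kb xb14 yb6 zb44) (kb xb3 yb44 zb5) (kb xb7 yb23 zb12) (kb xb14 yb7 zb32) (kb xb12 yb22 zb49) (kb xb12 yb22 zb50)) (@D3.rec (fun _ => Pt) (kb xb14 yb7 zb37) (kb xb14 yb7 zb38) (kb xb7 yb23 zb24) (kb xb12 yb36 zb17) (kb xb3 yb44 zb7) (kb xb9 yb45 zb61) (kb xb7 yb23 zb22) (kb xb14 yb7 zb45) (kb xb14 yb7 zb46) (kb xb7 yb23 zb19) (kb xb3 yb44 zb9) (kb xb14 yb7 zb57) (kb xb14 yb7 zb59) (kb xb11 yb19 zb13) (kb xb3 yb44 zb11) (kb xb14 yb8 zb3) (kb xb14 yb8 zb5) (kb xb14 yb8 zb1) (kb xb14 yb8 zb2) (kb xb3 yb44 zb12) (kb xb14 yb8 zb16) (kb xb14 yb8 zb13)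 (kb xb14 yb8 zb14) (kb xb3 yb44 zb13) (kb xb14 yb8 zb29) (kb xb14 yb8 zb27) (kb xb14 yb8 zb28) (kb xb14 yb8 zb37) (kb xb14 yb8 zb40) (kb xb14 yb8 zb46) (kb xb7 yb23 zb48) (kb xb7 yb23 zb57) (kb xb13 yb37 zb23) (kb xb3 yb44 zb17) (kb xb3 yb44 zb18) (kb xb14 yb8 zb60) (kb xb14 yb8 zb56) (kb xb14 yb8 zb59) (kb xb7 yb23 zb49) (kb xb13 yb37 zb21) (kb xb3 yb44 zb20) (kb xb3 yb44 zb21) (kb xb14 yb9 zb12) (kb xb14 yb9 zb9) (kb xb3 yb44 zb22) (kb xb12 yb26 zb44) (kb xb14 yb9 zb19) (kb xb3 yb44 zb23) (kb xb14 yb9 zb25) (kb xb8 yb27 zb50) (kb xb14 yb9 zb30) (kb xb14 yb9 zb32) (kb xb3 yb44 zb24) (kb xb3 yb44 zb26) (kb xb14 yb9 zb40) (kb xb7 yb24 zb16) (kb xb13 yb2 zb43) (kb xb3 yb44 zb28) (kb xb3 yb44 zb29) (kb xb14 yb9 zb51) (kb xb14 yb9 zb53) (kb xb14 yb9 zb56)) (@D3.rec (fun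 _ => Pt) (kb xb9 yb51 zb50) (kb xb14 yb9 zb61) (kb xb10 yb35 zb20) (kb xb7 yb21 zb42) (kb xb13 yb26 zb12) (kb xb3 yb44 zb32) (kb xb3 yb44 zb33) (kb xb14 yb10 zb9) (kb xb14 yb10 zb6) (kb xb12 yb47 zb52) (kb xb14 yb10 zb8) (kb xb3 yb44 zb34) (kb xb7 yb20 zb61) (kb xb12 yb33 zb40) (kb xb14 yb10 zb13) (kb xb7 yb7 zb28) (kb xb13 yb41 zb27) (kb xb13 yb41 zb28) (kb xb14 yb10 zb20) (kb xb13 yb41 zb35) (kb xb3 yb44 zb38) (kb xb3 yb44 zb39) (kb xb3 yb44 zb37) (kb xb14 yb10 zb32) (kb xb14 yb10 zb34) (kb xb14 yb10 zb38) (kb xb14 yb10 zb29) (kb xb3 yb44 zb40) (kb xb14 yb10 zb42) (kb xb3 yb44 zb41) (kb xb14 yb10 zb45) (kb xb14 yb10 zb47) (kb xb3 yb53 zb50) (kb xb3 yb44 zb43) (kb xb14 yb10 zb51) (kb xb3 yb53 zb10) (kb xb4 yb5 zb37) (kb xb9 yb19 zb51) (kb xb4 yb35 zb44) (kb xb3 yb44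 zb50) (kb xb3 yb44 zb51) (kb xb11 yb21 zb59) (kb xb6 yb53 zb3) (kb xb3 yb44 zb54) (kb xb14 yb10 zb57) (kb xb12 yb34 zb50) (kb xb13 yb20 zb5) (kb xb14 yb10 zb60) (kb xb7 yb15 zb58) (kb xb3 yb44 zb60) (kb xb3 yb51 zb23) (kb xb11 yb33 zb43) (kb xb6 yb32 zb47) (kb xb4 yb49 zb42) (kb xb14 yb11 zb13) (kb xb7 yb47 zb56) (kb xb3 yb45 zb3) (kb xb6 yb36 zb39) (kb xb3 yb45 zb5) (kb xb3 yb45 zb6) (kb xb14 yb11 zb15) (kb xb14 yb11 zb18)) (@D3.rec (fun _ => Pt) (kb xb14 yb11 zb21) (kb xb3 yb45 zb8) (kb xb14 yb11 zb25) (kb xb12 yb27 zb41) (kb xb7 yb43 zb55) (kb xb6 yb36 zb41) (kb xb3 yb45 zb10) (kb xb3 yb45 zb11) (kb xb14 yb11 zb32) (kb xb14 yb11 zb35) (kb xb3 yb45 zb25) (kb xb8 yb23 zb25) (kb xb12 yb27 zb61) (kb xb12 yb33 zb42) (kb xb3 yb45 zb15) (kb xb7 yb1 zb14) (kb xb14 yb11 zb42)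 (kb xb14 yb11 zb45) (kb xb12 yb28 zb33) (kb xb12 yb28 zb34) (kb xb4 yb36 zb39) (kb xb4 yb43 zb11) (kb xb6 yb34 zb13) (kb xb3 yb45 zb19) (kb xb5 yb10 zb37) (kb xb9 yb57 zb6) (kb xb14 yb11 zb49) (kb xb6 yb34 zb18) (kb xb3 yb45 zb24) (kb xb9 yb49 zb54) (kb xb14 yb11 zb54) (kb xb6 yb34 zb58) (kb xb14 yb11 zb53) (kb xb9 yb20 zb38) (kb xb12 yb26 zb32) (kb xb12 yb50 zb51) (kb xb3 yb45 zb29) (kb xb7 yb32 zb0) (kb xb14 yb11 zb57) (kb xb3 yb45 zb30) (kb xb6 yb33 zb7) (kb xb6 yb20 zb1) (kb xb12 yb35 zb16) (kb xb14 yb12 zb4) (kb xb3 yb45 zb33) (kb xb3 yb45 zb34) (kb xb14 yb12 zb9) (kb xb14 yb12 zb11) (kb xb14 yb12 zb14) (kb xb12 yb58 zb32) (kb xb3 yb45 zb35) (kb xb8 yb37 zb22) (kb xb14 yb12 zb20) (kb xb12 yb29 zb53) (kb xb3 yb45 zb38) (kb xb9 yb28 zb29) (kb xb13 yb40 zb18) (kb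 xb6 yb38 zb14) (kb xb13 yb56 zb12) (kb xb6 yb53 zb57) (kb xb6 yb53 zb58) (kb xb9 yb21 zb2)) (@D3.rec (fun _ => Pt) (kb xb7 yb31 zb37) (kb xb12 yb39 zb32) (kb xb3 yb45 zb43) (kb xb14 yb12 zb34) (kb xb13 yb56 zb14) (kb xb3 yb45 zb44) (kb xb7 yb34 zb52) (kb xb14 yb12 zb33) (kb xb12 yb1 zb12) (kb xb11 yb48 zb30) (kb xb14 yb12 zb45) (kb xb6 yb53 zb16) (kb xb13 yb17 zb23) (kb xb5 yb8 zb3) (kb xb3 yb45 zb49) (kb xb6 yb51 zb38) (kb xb13 yb21 zb34) (kb xb3 yb45 zb50) (kb xb3 yb45 zb51) (kb xb6 yb29 zb7) (kb xb11 yb42 zb25) (kb xb14 yb12 zb55) (kb xb14 yb12 zb56) (kb xb14 yb13 zb10) (kb xb14 yb13 zb12) (kb xb14 yb13 zb1) (kb xb6 yb53 zb5) (kb xb5 yb51 zb23) (kb xb3 yb45 zb53) (kb xb13 yb18 zb12) (kb xb14 yb13 zb19) (kb xb14 yb13 zb20) (kb xb14 yb13 zb25) (kb xb13 yb4 zb53) (kb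 xb13 yb18 zb16) (kb xb13 yb18 zb17) (kb xb3 yb45 zb55) (kb xb10 yb41 zb6) (kb xb14 yb13 zb27) (kb xb3 yb45 zb56) (kb xb14 yb13 zb32) (kb xb14 yb13 zb33) (kb xb14 yb13 zb36) (kb xb14 yb13 zb37) (kb xb9 yb34 zb41) (kb xb6 yb53 zb61) (kb xb14 yb11 zb31) (kb xb3 yb45 zb60) (kb xb14 yb13 zb42) (kb xb14 yb13 zb43) (kb xb13 yb17 zb42) (kb xb11 yb29 zb38) (kb xb3 yb46 zb0) (kb xb6 yb20 zb38) (kb xb14 yb13 zb56) (kb xb14 yb13 zb53) (kb xb14 yb13 zb54) (kb xb3 yb46 zb1) (kb xb14 yb14 zb5) (kb xb14 yb14 zb3) (kb xb14 yb14 zb4) (kb xb3 yb46 zb2)) (@D3.rec (fun _ => Pt) (kb xb14 yb14 zb18) (kb xb14 yb14 zb17) (kb xb11 yb43 zb60) (kb xb14 yb14 zb23) (kb xb14 yb14 zb27) (kb xb9 yb53 zb36) (kb xb9 yb24 zb47) (kb xb14 yb13 zb30) (kb xb6 yb54 zb2) (kb xb3 yb46 zb6) (kb xb3 yb46 zb7)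 (kb xb10 yb7 zb23) (kb xb14 yb14 zb43) (kb xb14 yb14 zb40) (kb xb13 yb4 zb55) (kb xb13 yb18 zb43) (kb xb3 yb46 zb9) (kb xb3 yb46 zb10) (kb xb14 yb14 zb55) (kb xb14 yb14 zb52) (kb xb13 yb13 zb14) (kb xb3 yb46 zb11) (kb xb14 yb15 zb4) (kb xb14 yb15 zb2) (kb xb14 yb15 zb3) (kb xb3 yb46 zb12) (kb xb14 yb15 zb12) (kb xb13 yb4 zb45) (kb xb14 yb15 zb11) (kb xb14 yb15 zb17) (kb xb14 yb15 zb19) (kb xb3 yb46 zb13) (kb xb14 yb15 zb20) (kb xb9 yb34 zb40) (kb xb14 yb15 zb22) (kb xb3 yb46 zb16) (kb xb3 yb46 zb17) (kb xb14 yb15 zb31) (kb xb14 yb15 zb28) (kb xb14 yb15 zb36) (kb xb3 yb46 zb18) (kb xb14 yb15 zb37) (kb xb6 yb51 zb52) (kb xb13 yb46 zb25) (kb xb13 yb18 zb3) (kb xb7 yb12 zb30) (kb xb8 yb1 zb51) (kb xb9 yb45 zb34) (kb xb13 yb46 zb31) (kb xb13 yb18 zb6) (kb xb3 yb46 zb25)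 (kb xb11 yb33 zb42) (kb xb14 yb15 zb51) (kb xb12 yb1 zb56) (kb xb11 yb19 zb15) (kb xb4 yb58 zb38) (kb xb3 yb46 zb31) (kb xb3 yb46 zb33) (kb xb3 yb46 zb34) (kb xb12 yb11 zb9) (kb xb14 yb15 zb58) (kb xb9 yb21 zb19)) (@D3.rec (fun _ => Pt) (kb xb14 yb15 zb61) (kb xb14 yb16 zb0) (kb xb6 yb53 zb11) (kb xb12 yb34 zb6) (kb xb3 yb46 zb38) (kb xb4 yb45 zb16) (kb xb14 yb16 zb8) (kb xb11 yb47 zb13) (kb xb12 yb44 zb61) (kb xb14 yb16 zb15) (kb xb6 yb53 zb25) (kb xb3 yb46 zb47) (kb xb3 yb46 zb48) (kb xb3 yb46 zb42) (kb xb14 yb16 zb25) (kb xb14 yb16 zb26) (kb xb6 yb53 zb31) (kb xb6 yb53 zb32) (kb xb14 yb16 zb31) (kb xb6 yb53 zb34) (kb xb13 yb44 zb57) (kb xb3 yb46 zb45) (kb xb10 yb5 zb50) (kb xb14 yb16 zb41) (kb xb10 yb5 zb45) (kb xb3 yb46 zb46) (kb xb14 yb16 zb53) (kb xb14 yb16 zb51)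 (kb xb14 yb16 zb52) (kb xb14 yb16 zb60) (kb xb14 yb17 zb1) (kb xb14 yb16 zb24) (kb xb13 yb15 zb53) (kb xb3 yb46 zb50) (kb xb3 yb46 zb51) (kb xb14 yb17 zb7) (kb xb14 yb0 zb54) (kb xb13 yb17 zb57) (kb xb3 yb46 zb53) (kb xb3 yb46 zb54) (kb xb14 yb17 zb19) (kb xb3 yb46 zb55) (kb xb11 yb15 zb16) (kb xb3 yb46 zb56) (kb xb14 yb17 zb30) (kb xb14 yb17 zb35) (kb xb3 yb46 zb58) (kb xb14 yb17 zb39) (kb xb3 yb46 zb60) (kb xb14 yb17 zb40) (kb xb13 yb53 zb54) (kb xb3 yb48 zb32) (kb xb7 yb32 zb6) (kb xb3 yb47 zb3) (kb xb14 yb17 zb48) (kb xb3 yb55 zb44) (kb xb3 yb47 zb5) (kb xb14 yb17 zb49) (kb xb14 yb17 zb52) (kb xb14 yb17 zb46) (kb xb14 yb17 zb47) (kb xb3 yb47 zb4)) (@D3.rec (fun _ => Pt) (kb xb14 yb17 zb58) (kb xb14 yb17 zb60) (kb xb14 yb18 zb0) (kb xb11 yb47 zb26) (kb xb3 yb47 zb6)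 (kb xb14 yb18 zb2) (kb xb14 yb18 zb5) (kb xb6 yb54 zb49) (kb xb14 yb18 zb7) (kb xb3 yb47 zb14) (kb xb14 yb18 zb10) (kb xb10 yb6 zb12) (kb xb6 yb33 zb32) (kb xb6 yb12 zb35) (kb xb3 yb47 zb12) (kb xb14 yb18 zb20) (kb xb3 yb47 zb13) (kb xb14 yb18 zb22) (kb xb14 yb18 zb25) (kb xb14 yb18 zb27) (kb xb14 yb18 zb30) (kb xb3 yb47 zb15) (kb xb14 yb18 zb31) (kb xb6 yb55 zb53) (kb xb3 yb50 zb1) (kb xb14 yb18 zb38) (kb xb13 yb45 zb47) (kb xb3 yb47 zb20) (kb xb3 yb47 zb21) (kb xb6 yb56 zb21) (kb xb14 yb18 zb46) (kb xb11 yb29 zb49) (kb xb11 yb29 zb50) (kb xb14 yb18 zb53) (kb xb3 yb49 zb55) (kb xb6 yb56 zb15) (kb xb3 yb47 zb23) (kb xb3 yb53 zb54) (kb xb14 yb18 zb57) (kb xb3 yb50 zb28) (kb xb6 yb10 zb29) (kb xb3 yb47 zb27) (kb xb12 yb33 zb60) (kb xb14 yb19 zb4) (kb xb3 yb47 zb28) (kb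 xb14 yb19 zb11) (kb xb6 yb56 zb7) (kb xb14 yb19 zb0) (kb xb14 yb19 zb1) (kb xb14 yb19 zb18) (kb xb8 yb15 zb36) (kb xb3 yb48 zb11) (kb xb7 yb7 zb47) (kb xb3 yb47 zb31) (kb xb3 yb47 zb32) (kb xb13 yb7 zb52) (kb xb14 yb19 zb22) (kb xb14 yb19 zb25) (kb xb14 yb19 zb26) (kb xb3 yb50 zb47) (kb xb3 yb47 zb35) (kb xb3 yb47 zb36)) (@D3.rec (fun _ => Pt) (kb xb7 yb37 zb43) (kb xb14 yb19 zb36) (kb xb14 yb19 zb39) (kb xb14 yb19 zb40) (kb xb6 yb50 zb29) (kb xb3 yb50 zb53) (kb xb14 yb19 zb55) (kb xb14 yb19 zb58) (kb xb3 yb50 zb56) (kb xb3 yb50 zb57) (kb xb3 yb47 zb39) (kb xb14 yb20 zb3) (kb xb14 yb20 zb2) (kb xb3 yb47 zb40) (kb xb9 yb25 zb7) (kb xb14 yb20 zb8) (kb xb6 yb25 zb24) (kb xb5 yb5 zb56) (kb xb8 yb48 zb50) (kb xb9 yb11 zb57) (kb xb14 yb20 zb15) (kb xb14 yb20 zb18) (kb xb3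 yb47 zb49) (kb xb3 yb47 zb50) (kb xb3 yb47 zb43) (kb xb13 yb7 zb54) (kb xb14 yb20 zb27) (kb xb14 yb20 zb28) (kb xb3 yb47 zb44) (kb xb7 yb47 zb9) (kb xb14 yb20 zb35) (kb xb14 yb20 zb37) (kb xb14 yb20 zb40) (kb xb14 yb20 zb45) (kb xb3 yb47 zb61) (kb xb3 yb47 zb47) (kb xb10 yb37 zb39) (kb xb10 yb32 zb26) (kb xb14 yb20 zb46) (kb xb3 yb47 zb48) (kb xb14 yb20 zb56) (kb xb14 yb20 zb55) (kb xb12 yb16 zb54) (kb xb10 yb42 zb53) (kb xb14 yb21 zb5) (kb xb14 yb21 zb10) (kb xb14 yb20 zb24) (kb xb14 yb20 zb33) (kb xb3 yb51 zb52) (kb xb3 yb47 zb53) (kb xb11 yb0 zb42) (kb xb10 yb39 zb48) (kb xb10 yb31 zb39) (kb xb14 yb20 zb25) (kb xb3 yb52 zb5) (kb xb3 yb47 zb56) (kb xb3 yb47 zb57) (kb xb14 yb21 zb28) (kb xb3 yb47 zb58) (kb xb8 yb38 zb3) (kb xb5 yb9 zb32) (kb xb3 yb47 zb59)) (@D3.rec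 (fun _ => Pt) (kb xb14 yb21 zb32) (kb xb14 yb21 zb31) (kb xb14 yb21 zb37) (kb xb14 yb21 zb39) (kb xb3 yb47 zb60) (kb xb12 yb5 zb36) (kb xb14 yb21 zb46) (kb xb3 yb48 zb1) (kb xb14 yb21 zb49) (kb xb14 yb21 zb51) (kb xb3 yb52 zb48) (kb xb3 yb48 zb3) (kb xb14 yb21 zb58) (kb xb14 yb21 zb60) (kb xb14 yb22 zb0) (kb xb14 yb21 zb57) (kb xb3 yb48 zb4) (kb xb14 yb22 zb6) (kb xb3 yb53 zb14) (kb xb3 yb48 zb7) (kb xb3 yb48 zb8) (kb xb14 yb22 zb14) (kb xb5 yb21 zb1) (kb xb14 yb22 zb13) (kb xb14 yb19 zb20) (kb xb3 yb49 zb57) (kb xb14 yb22 zb23) (kb xb13 yb34 zb1) (kb xb3 yb48 zb15) (kb xb3 yb50 zb39) (kb xb14 yb19 zb44) (kb xb9 yb21 zb7) (kb xb9 yb17 zb31) (kb xb3 yb50 zb43) (kb xb14 yb19 zb47) (kb xb11 yb42 zb53) (kb xb12 yb34 zb58) (kb xb3 yb48 zb18) (kb xb3 yb48 zb19) (kb xb7 yb2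 zb31) (kb xb7 yb2 zb32) (kb xb7 yb10 zb7) (kb xb6 yb33 zb8) (kb xb7 yb36 zb0) (kb xb12 yb1 zb53) (kb xb13 yb53 zb53) (kb xb6 yb55 zb22) (kb xb13 yb7 zb15) (kb xb13 yb53 zb56) (kb xb3 yb48 zb24) (kb xb3 yb48 zb25) (kb xb14 yb22 zb55) (kb xb14 yb22 zb57) (kb xb14 yb22 zb54) (kb xb4 yb34 zb52) (kb xb6 yb54 zb48) (kb xb13 yb29 zb59) (kb xb3 yb55 zb52) (kb xb5 yb25 zb9) (kb xb3 yb48 zb29) (kb xb14 yb23 zb4) (kb xb3 yb50 zb29)) (@D3.rec (fun _ => Pt) (kb xb3 yb48 zb31) (kb xb14 yb23 zb6) (kb xb14 yb23 zb9) (kb xb13 yb8 zb9) (kb xb14 yb23 zb12) (kb xb3 yb48 zb44) (kb xb3 yb48 zb45) (kb xb3 yb48 zb34) (kb xb14 yb19 zb41) (kb xb14 yb23 zb15) (kb xb7 yb20 zb53) (kb xb3 yb48 zb35) (kb xb13 yb8 zb2) (kb xb14 yb23 zb21) (kb xb14 yb23 zb22) (kb xb6 yb55 zb24) (kb xb12 yb35 zb0) (kb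 xb3 yb48 zb39) (kb xb14 yb23 zb34) (kb xb4 yb44 zb18) (kb xb14 yb23 zb32) (kb xb14 yb23 zb33) (kb xb10 yb5 zb60) (kb xb3 yb48 zb41) (kb xb14 yb23 zb46) (kb xb14 yb23 zb47) (kb xb3 yb48 zb42) (kb xb14 yb23 zb53) (kb xb14 yb23 zb52) (kb xb11 yb35 zb44) (kb xb3 yb48 zb43) (kb xb14 yb24 zb5) (kb xb14 yb24 zb3) (kb xb14 yb24 zb4) (kb xb14 yb24 zb13) (kb xb14 yb24 zb16) (kb xb10 yb50 zb15) (kb xb8 yb30 zb55) (kb xb14 yb23 zb19) (kb xb6 yb55 zb26) (kb xb3 yb48 zb47) (kb xb3 yb48 zb48) (kb xb14 yb23 zb17) (kb xb14 yb24 zb33) (kb xb14 yb24 zb28) (kb xb13 yb45 zb39) (kb xb13 yb33 zb33) (kb xb3 yb53 zb57) (kb xb3 yb48 zb50) (kb xb3 yb48 zb51) (kb xb14 yb24 zb49) (kb xb14 yb24 zb47) (kb xb14 yb24 zb48) (kb xb3 yb48 zb52) (kb xb14 yb24 zb59) (kb xb14 yb24 zb58) (kb xb3 yb48 zb53)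 (kb xb14 yb25 zb5) (kb xb14 yb25 zb4) (kb xb3 yb48 zb54) (kb xb8 yb6 zb6) (kb xb3 yb48 zb57)) (@D3.rec (fun _ => Pt) (kb xb3 yb48 zb58) (kb xb14 yb25 zb14) (kb xb14 yb25 zb17) (kb xb14 yb25 zb13) (kb xb14 yb25 zb22) (kb xb3 yb48 zb59) (kb xb14 yb25 zb24) (kb xb7 yb16 zb32) (kb xb7 yb16 zb33) (kb xb7 yb19 zb42) (kb xb13 yb4 zb4) (kb xb13 yb27 zb53) (kb xb13 yb40 zb25) (kb xb7 yb7 zb33) (kb xb3 yb49 zb9) (kb xb13 yb28 zb0) (kb xb13 yb40 zb28) (kb xb3 yb49 zb10) (kb xb14 yb25 zb35) (kb xb9 yb44 zb46) (kb xb14 yb25 zb43) (kb xb14 yb25 zb45) (kb xb13 yb22 zb42) (kb xb3 yb49 zb15) (kb xb3 yb49 zb18) (kb xb14 yb25 zb51) (kb xb12 yb51 zb19) (kb xb6 yb54 zb44) (kb xb6 yb54 zb31) (kb xb4 yb40 zb23) (kb xb4 yb44 zb15) (kb xb14 yb26 zb1) (kb xb10 yb47 zb18) (kb xb10 yb47 zb17)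 (kb xb3 yb49 zb22) (kb xb9 yb15 zb59) (kb xb5 yb58 zb18) (kb xb11 yb30 zb18) (kb xb5 yb59 zb4) (kb xb12 yb42 zb25) (kb xb12 yb42 zb26) (kb xb14 yb26 zb14) (kb xb6 yb54 zb54) (kb xb3 yb49 zb32) (kb xb3 yb49 zb33) (kb xb3 yb49 zb26) (kb xb14 yb26 zb25) (kb xb6 yb54 zb60) (kb xb6 yb54 zb61) (kb xb14 yb26 zb31) (kb xb6 yb55 zb1) (kb xb14 yb26 zb39) (kb xb3 yb49 zb43) (kb xb3 yb49 zb30) (kb xb10 yb5 zb53) (kb xb14 yb26 zb43) (kb xb14 yb26 zb44) (kb xb3 yb49 zb31) (kb xb14 yb26 zb58) (kb xb14 yb26 zb56) (kb xb14 yb26 zb57) (kb xb14 yb27 zb4)) (@D3.rec (fun _ => Pt) (kb xb14 yb27 zb7) (kb xb14 yb27 zb12) (kb xb14 yb26 zb23) (kb xb14 yb18 zb19) (kb xb3 yb49 zb36) (kb xb5 yb53 zb17) (kb xb14 yb27 zb19) (kb xb14 yb26 zb24) (kb xb13 yb36 zb38) (kb xb3 yb49 zb38) (kb xb3 yb49 zb39)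 (kb xb13 yb33 zb16) (kb xb14 yb27 zb32) (kb xb3 yb49 zb40) (kb xb9 yb47 zb13) (kb xb14 yb27 zb40) (kb xb14 yb27 zb41) (kb xb3 yb49 zb41) (kb xb13 yb32 zb21) (kb xb14 yb27 zb48) (kb xb14 yb27 zb53) (kb xb14 yb27 zb56) (kb xb3 yb49 zb42) (kb xb14 yb28 zb0) (kb xb10 yb47 zb7) (kb xb3 yb49 zb45) (kb xb3 yb49 zb46) (kb xb14 yb28 zb7) (kb xb7 yb51 zb12) (kb xb3 yb49 zb48) (kb xb14 yb28 zb12) (kb xb14 yb28 zb13) (kb xb3 yb49 zb50) (kb xb13 yb43 zb54) (kb xb3 yb49 zb51) (kb xb11 yb32 zb6) (kb xb14 yb28 zb20) (kb xb14 yb28 zb23) (kb xb7 yb18 zb16) (kb xb13 yb51 zb50) (kb xb3 yb49 zb53) (kb xb3 yb49 zb54) (kb xb14 yb28 zb30) (kb xb14 yb28 zb31) (kb xb3 yb54 zb8) (kb xb3 yb54 zb3) (kb xb14 yb18 zb54) (kb xb14 yb18 zb55) (kb xb4 yb47 zb13) (kb xb14 yb10 zb31) (kb xb14 yb22 zb22)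 (kb xb6 yb56 zb57) (kb xb3 yb49 zb60) (kb xb3 yb49 zb61) (kb xb7 yb26 zb33) (kb xb7 yb51 zb14) (kb xb14 yb28 zb51) (kb xb14 yb28 zb52) (kb xb4 yb37 zb8) (kb xb5 yb48 zb1) (kb xb14 yb19 zb23) (kb xb6 yb56 zb18)) (@D3.rec (fun _ => Pt) (kb xb14 yb18 zb36) (kb xb14 yb18 zb37) (kb xb14 yb29 zb6) (kb xb7 yb20 zb15) (kb xb3 yb54 zb54) (kb xb13 yb42 zb36) (kb xb7 yb20 zb16) (kb xb7 yb20 zb17) (kb xb3 yb50 zb4) (kb xb9 yb16 zb23) (kb xb6 yb34 zb12) (kb xb14 yb29 zb18) (kb xb9 yb16 zb51) (kb xb14 yb29 zb20) (kb xb3 yb50 zb17) (kb xb3 yb50 zb18) (kb xb3 yb50 zb7) (kb xb14 yb19 zb2) (kb xb10 yb54 zb17) (kb xb13 yb26 zb33) (kb xb3 yb50 zb8) (kb xb7 yb51 zb17) (kb xb14 yb29 zb34) (kb xb14 yb29 zb35) (kb xb10 yb46 zb13) (kb xb14 yb29 zb43) (kb xb14 yb29 zb46) (kb xb3 yb50 zb21) (kb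 xb6 yb10 zb57) (kb xb3 yb50 zb14) (kb xb9 yb6 zb28) (kb xb14 yb11 zb41) (kb xb14 yb29 zb54) (kb xb14 yb29 zb55) (kb xb3 yb50 zb15) (kb xb14 yb30 zb1) (kb xb11 yb33 zb49) (kb xb3 yb50 zb16) (kb xb14 yb30 zb6) (kb xb11 yb46 zb27) (kb xb14 yb30 zb11) (kb xb14 yb30 zb13) (kb xb14 yb30 zb17) (kb xb14 yb29 zb26) (kb xb3 yb50 zb19) (kb xb14 yb30 zb22) (kb xb14 yb30 zb25) (kb xb14 yb30 zb27) (kb xb3 yb50 zb20) (kb xb14 yb30 zb32) (kb xb10 yb46 zb18) (kb xb3 yb50 zb23) (kb xb14 yb30 zb36) (kb xb6 yb55 zb52) (kb xb3 yb50 zb25) (kb xb3 yb50 zb26) (kb xb14 yb30 zb39) (kb xb13 yb34 zb60) (kb xb14 yb30 zb40) (kb xb6 yb56 zb46) (kb xb6 yb55 zb23) (kb xb6 yb56 zb1)) (@D3.rec (fun _ => Pt) (kb xb14 yb19 zb38) (kb xb14 yb18 zb60) (kb xb13 yb34 zb3) (kb xb14 yb23 zb5) (kb xb3 yb55 zb42)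 (kb xb14 yb23 zb20) (kb xb3 yb55 zb45) (kb xb3 yb50 zb32) (kb xb6 yb16 zb41) (kb xb12 yb33 zb56) (kb xb14 yb30 zb61) (kb xb12 yb33 zb58) (kb xb3 yb50 zb41) (kb xb3 yb50 zb42) (kb xb3 yb50 zb35) (kb xb14 yb31 zb8) (kb xb3 yb50 zb36) (kb xb14 yb31 zb13) (kb xb14 yb31 zb14) (kb xb14 yb31 zb17) (kb xb14 yb31 zb21) (kb xb14 yb31 zb27) (kb xb3 yb50 zb46) (kb xb9 yb26 zb19) (kb xb14 yb22 zb29) (kb xb3 yb50 zb40) (kb xb14 yb31 zb38) (kb xb14 yb31 zb39) (kb xb14 yb22 zb30) (kb xb14 yb31 zb45) (kb xb14 yb31 zb49) (kb xb14 yb31 zb7) (kb xb14 yb22 zb35) (kb xb3 yb50 zb44) (kb xb14 yb31 zb57) (kb xb13 yb29 zb12) (kb xb8 yb47 zb37) (kb xb3 yb50 zb45) (kb xb14 yb32 zb4) (kb xb14 yb31 zb30) (kb xb11 yb44 zb36) (kb xb14 yb19 zb35) (kb xb6 yb56 zb16) (kb xb9 yb10 zb11) (kb xb3 yb50 zb51)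 (kb xb14 yb18 zb34) (kb xb14 yb32 zb22) (kb xb3 yb50 zb52) (kb xb11 yb35 zb38) (kb xb14 yb32 zb17) (kb xb14 yb32 zb18) (kb xb14 yb19 zb32) (kb xb14 yb32 zb33) (kb xb4 yb47 zb54) (kb xb14 yb32 zb36) (kb xb14 yb19 zb53) (kb xb14 yb19 zb54) (kb xb3 yb50 zb54) (kb xb14 yb32 zb39) (kb xb3 yb50 zb55) (kb xb14 yb32 zb41) (kb xb14 yb32 zb44)) (@D3.rec (fun _ => Pt) (kb xb14 yb32 zb47) (kb xb14 yb32 zb52) (kb xb14 yb20 zb0) (kb xb9 yb49 zb29) (kb xb3 yb50 zb59) (kb xb14 yb20 zb5) (kb xb14 yb32 zb59) (kb xb14 yb32 zb60) (kb xb9 yb8 zb2) (kb xb5 yb48 zb29) (kb xb14 yb33 zb5) (kb xb6 yb50 zb26) (kb xb3 yb51 zb0) (kb xb9 yb13 zb26) (kb xb5 yb50 zb26) (kb xb14 yb33 zb10) (kb xb14 yb33 zb11) (kb xb3 yb51 zb1) (kb xb14 yb33 zb21) (kb xb14 yb33 zb19) (kb xb14 yb33 zb20) (kb xb3 yb51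 zb2) (kb xb4 yb38 zb56) (kb xb14 yb33 zb30) (kb xb4 yb45 zb53) (kb xb14 yb33 zb35) (kb xb14 yb33 zb40) (kb xb3 yb51 zb46) (kb xb3 yb52 zb4) (kb xb12 yb51 zb40) (kb xb3 yb51 zb6) (kb xb3 yb51 zb7) (kb xb11 yb0 zb43) (kb xb3 yb51 zb61) (kb xb14 yb33 zb59) (kb xb14 yb33 zb50) (kb xb14 yb33 zb52) (kb xb3 yb51 zb51) (kb xb14 yb32 zb10) (kb xb3 yb51 zb9) (kb xb14 yb34 zb10) (kb xb14 yb34 zb9) (kb xb3 yb51 zb10) (kb xb14 yb34 zb17) (kb xb14 yb34 zb15) (kb xb3 yb51 zb11) (kb xb14 yb34 zb26) (kb xb14 yb34 zb25) (kb xb14 yb34 zb32) (kb xb14 yb34 zb35) (kb xb3 yb51 zb12) (kb xb14 yb34 zb41) (kb xb14 yb34 zb42) (kb xb3 yb52 zb24) (kb xb5 yb48 zb17) (kb xb7 yb31 zb4) (kb xb9 yb23 zb12) (kb xb11 yb48 zb57) (kb xb12 yb36 zb12) (kb xb4 yb46 zb32) (kb xb14 yb34 zb59) (kb xb3 yb51 zb19))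 (@D3.rec (fun _ => Pt) (kb xb3 yb51 zb20) (kb xb3 yb51 zb17) (kb xb14 yb35 zb5) (kb xb14 yb35 zb6) (kb xb6 yb0 zb35) (kb xb14 yb35 zb13) (kb xb14 yb33 zb1) (kb xb14 yb35 zb18) (kb xb14 yb35 zb3) (kb xb13 yb19 zb8) (kb xb14 yb35 zb24) (kb xb14 yb35 zb27) (kb xb3 yb51 zb25) (kb xb3 yb51 zb26) (kb xb14 yb11 zb6) (kb xb4 yb46 zb46) (kb xb11 yb35 zb15) (kb xb11 yb35 zb16) (kb xb14 yb11 zb9) (kb xb14 yb35 zb43) (kb xb14 yb35 zb33) (kb xb3 yb51 zb27) (kb xb11 yb1 zb52) (kb xb12 yb43 zb51) (kb xb12 yb43 zb22) (kb xb12 yb40 zb40) (kb xb9 yb10 zb58) (kb xb14 yb35 zb57) (kb xb14 yb35 zb61) (kb xb3 yb51 zb33) (kb xb3 yb51 zb34) (kb xb6 yb20 zb42) (kb xb6 yb20 zb43) (kb xb3 yb51 zb32) (kb xb14 yb36 zb9) (kb xb12 yb28 zb14) (kb xb12 yb37 zb22) (kb xb14 yb36 zb17) (kb xb14 yb36 zb3)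 (kb xb13 yb15 zb15) (kb xb10 yb42 zb45) (kb xb12 yb36 zb34) (kb xb3 yb51 zb37) (kb xb3 yb51 zb38) (kb xb12 yb15 zb27) (kb xb3 yb51 zb36) (kb xb14 yb36 zb35) (kb xb14 yb36 zb36) (kb xb14 yb36 zb43) (kb xb14 yb33 zb24) (kb xb14 yb36 zb48) (kb xb14 yb36 zb28) (kb xb14 yb33 zb27) (kb xb14 yb36 zb31) (kb xb14 yb36 zb32) (kb xb14 yb33 zb16) (kb xb14 yb20 zb54) (kb xb11 yb49 zb9) (kb xb3 yb51 zb42) (kb xb10 yb37 zb40) (kb xb11 yb49 zb10) (kb xb10 yb42 zb49)) (@D3.rec (fun _ => Pt) (kb xb10 yb42 zb52) (kb xb4 yb46 zb36) (kb xb14 yb37 zb0) (kb xb14 yb37 zb1) (kb xb3 yb51 zb43) (kb xb14 yb37 zb19) (kb xb14 yb37 zb15) (kb xb14 yb37 zb16) (kb xb3 yb51 zb44) (kb xb14 yb37 zb26) (kb xb11 yb30 zb19) (kb xb9 yb3 zb59) (kb xb14 yb37 zb33) (kb xb14 yb37 zb36) (kb xb3 yb51 zb45) (kb xb14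 yb37 zb42) (kb xb14 yb37 zb43) (kb xb14 yb33 zb43) (kb xb6 yb0 zb54) (kb xb3 yb51 zb48) (kb xb12 yb41 zb7) (kb xb14 yb37 zb51) (kb xb4 yb46 zb25) (kb xb3 yb51 zb49) (kb xb9 yb12 zb59) (kb xb14 yb37 zb57) (kb xb12 yb58 zb1) (kb xb14 yb38 zb1) (kb xb14 yb38 zb4) (kb xb14 yb38 zb9) (kb xb14 yb28 zb42) (kb xb14 yb34 zb4) (kb xb10 yb31 zb52) (kb xb14 yb21 zb15) (kb xb7 yb21 zb18) (kb xb7 yb21 zb19) (kb xb14 yb34 zb7) (kb xb14 yb38 zb17) (kb xb14 yb38 zb19) (kb xb3 yb52 zb1) (kb xb14 yb22 zb26) (kb xb14 yb38 zb23) (kb xb3 yb52 zb2) (kb xb3 yb52 zb3) (kb xb3 yb51 zb58) (kb xb7 yb9 zb13) (kb xb3 yb51 zb60) (kb xb14 yb38 zb29) (kb xb14 yb38 zb28) (kb xb14 yb38 zb35) (kb xb14 yb33 zb56) (kb xb14 yb38 zb38) (kb xb14 yb38 zb40) (kb xb3 yb52 zb0) (kb xb14 yb38 zb45) (kb xb11 yb0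 zb7) (kb xb14 yb34 zb0) (kb xb14 yb38 zb21) (kb xb10 yb39 zb10) (kb xb14 yb38 zb57) (kb xb14 yb33 zb45) (kb xb6 yb57 zb47)) (@D3.rec (fun _ => Pt) (kb xb14 yb21 zb24) (kb xb14 yb38 zb61) (kb xb6 yb54 zb35) (kb xb14 yb39 zb5) (kb xb14 yb32 zb21) (kb xb3 yb52 zb10) (kb xb14 yb39 zb6) (kb xb5 yb21 zb35) (kb xb3 yb52 zb13) (kb xb3 yb52 zb14) (kb xb14 yb39 zb12) (kb xb14 yb39 zb13) (kb xb3 yb52 zb12) (kb xb10 yb1 zb4) (kb xb14 yb39 zb19) (kb xb14 yb34 zb21) (kb xb14 yb39 zb10) (kb xb14 yb39 zb11) (kb xb12 yb47 zb48) (kb xb8 yb38 zb6) (kb xb3 yb52 zb17) (kb xb3 yb52 zb18) (kb xb3 yb52 zb16) (kb xb11 yb3 zb21) (kb xb14 yb34 zb29) (kb xb14 yb39 zb40) (kb xb14 yb39 zb33) (kb xb5 yb21 zb41) (kb xb3 yb52 zb19) (kb xb14 yb39 zb50) (kb xb3 yb52 zb20) (kb xb14 yb39 zb56) (kb xb14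 yb39 zb61) (kb xb14 yb40 zb4) (kb xb14 yb21 zb43) (kb xb3 yb52 zb22) (kb xb3 yb52 zb23) (kb xb14 yb40 zb12) (kb xb14 yb40 zb13) (kb xb14 yb40 zb18) (kb xb5 yb20 zb32) (kb xb6 yb57 zb15) (kb xb14 yb40 zb27) (kb xb3 yb52 zb27) (kb xb3 yb52 zb28) (kb xb14 yb40 zb33) (kb xb6 yb56 zb52) (kb xb14 yb37 zb56) (kb xb14 yb40 zb31) (kb xb14 yb40 zb32) (kb xb3 yb52 zb30) (kb xb14 yb40 zb46) (kb xb14 yb40 zb45) (kb xb3 yb52 zb31) (kb xb13 yb21 zb30) (kb xb14 yb40 zb52) (kb xb3 yb52 zb32) (kb xb14 yb40 zb57) (kb xb14 yb40 zb56) (kb xb14 yb41 zb1) (kb xb14 yb41 zb3) (kb xb3 yb52 zb33)) (@D3.rec (fun _ => Pt) (kb xb14 yb41 zb9) (kb xb14 yb41 zb11) (kb xb6 yb56 zb47) (kb xb3 yb52 zb37) (kb xb3 yb52 zb38) (kb xb14 yb41 zb20) (kb xb7 yb48 zb3) (kb xb3 yb52 zb41) (kb xb14 yb41 zb25) (kb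 xb7 yb36 zb29) (kb xb14 yb25 zb49) (kb xb14 yb21 zb48) (kb xb3 yb52 zb46) (kb xb13 yb55 zb41) (kb xb14 yb41 zb34) (kb xb3 yb52 zb47) (kb xb14 yb41 zb38) (kb xb10 yb33 zb32) (kb xb14 yb21 zb53) (kb xb7 yb48 zb25) (kb xb5 yb24 zb46) (kb xb14 yb41 zb46) (kb xb14 yb41 zb52) (kb xb3 yb52 zb54) (kb xb14 yb41 zb59) (kb xb14 yb41 zb60) (kb xb3 yb52 zb56) (kb xb3 yb52 zb51) (kb xb14 yb42 zb4) (kb xb14 yb42 zb3) (kb xb3 yb52 zb52) (kb xb14 yb42 zb13) (kb xb14 yb42 zb11) (kb xb14 yb42 zb12) (kb xb3 yb52 zb53) (kb xb14 yb42 zb21) (kb xb14 yb42 zb23) (kb xb14 yb42 zb27) (kb xb14 yb41 zb57) (kb xb14 yb41 zb58) (kb xb3 yb52 zb55) (kb xb14 yb42 zb34) (kb xb14 yb42 zb36) (kb xb3 yb52 zb57) (kb xb14 yb42 zb38) (kb xb7 yb11 zb16) (kb xb3 yb52 zb59) (kb xb14 yb42 zb43) (kb xb3 yb52 zb60)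 (kb xb14 yb42 zb47) (kb xb13 yb53 zb35) (kb xb14 yb42 zb50) (kb xb14 yb22 zb5) (kb xb3 yb53 zb0) (kb xb3 yb53 zb1) (kb xb10 yb7 zb22) (kb xb7 yb30 zb55) (kb xb13 yb41 zb7) (kb xb13 yb40 zb48) (kb xb3 yb53 zb5) (kb xb3 yb53 zb6) (kb xb14 yb43 zb2)) (@D3.rec (fun _ => Pt) (kb xb14 yb43 zb4) (kb xb14 yb43 zb6) (kb xb14 yb42 zb61) (kb xb7 yb47 zb6) (kb xb3 yb53 zb9) (kb xb14 yb5 zb61) (kb xb14 yb22 zb8) (kb xb14 yb22 zb9) (kb xb12 yb39 zb10) (kb xb13 yb5 zb61) (kb xb14 yb43 zb25) (kb xb3 yb53 zb18) (kb xb14 yb3 zb40) (kb xb3 yb53 zb20) (kb xb3 yb53 zb21) (kb xb3 yb53 zb17) (kb xb14 yb43 zb37) (kb xb5 yb25 zb1) (kb xb14 yb43 zb43) (kb xb14 yb43 zb29) (kb xb14 yb43 zb30) (kb xb14 yb43 zb50) (kb xb14 yb43 zb33) (kb xb14 yb43 zb52) (kb xb7 yb26 zb9) (kb xb7 yb47 zb19) (kb xb3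 yb53 zb23) (kb xb11 yb0 zb18) (kb xb3 yb53 zb27) (kb xb3 yb53 zb28) (kb xb14 yb44 zb1) (kb xb14 yb44 zb4) (kb xb14 yb44 zb6) (kb xb14 yb43 zb61) (kb xb14 yb44 zb0) (kb xb3 yb53 zb30) (kb xb14 yb44 zb16) (kb xb14 yb44 zb15) (kb xb14 yb44 zb21) (kb xb3 yb53 zb32) (kb xb14 yb44 zb23) (kb xb3 yb53 zb33) (kb xb14 yb44 zb27) (kb xb14 yb44 zb28) (kb xb13 yb14 zb19) (kb xb14 yb44 zb33) (kb xb3 yb53 zb37) (kb xb3 yb53 zb36) (kb xb14 yb44 zb38) (kb xb12 yb24 zb15) (kb xb3 yb53 zb38) (kb xb10 yb38 zb37) (kb xb4 yb19 zb0) (kb xb12 yb25 zb52) (kb xb12 yb17 zb40) (kb xb14 yb44 zb45) (kb xb7 yb13 zb39) (kb xb13 yb15 zb30) (kb xb3 yb53 zb42) (kb xb3 yb53 zb43) (kb xb14 yb44 zb50) (kb xb14 yb44 zb51)) (@D3.rec (fun _ => Pt) (kb xb13 yb30 zb53) (kb xb14 yb44 zb58) (kb xb13 yb24 zb5)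 (kb xb3 yb53 zb45) (kb xb14 yb45 zb1) (kb xb14 yb45 zb5) (kb xb13 yb31 zb42) (kb xb13 yb24 zb2) (kb xb3 yb53 zb47) (kb xb3 yb53 zb48) (kb xb9 yb14 zb56) (kb xb9 yb14 zb57) (kb xb3 yb53 zb49) (kb xb14 yb10 zb49) (kb xb14 yb45 zb20) (kb xb3 yb53 zb53) (kb xb3 yb53 zb52) (kb xb14 yb45 zb28) (kb xb14 yb45 zb31) (kb xb14 yb45 zb34) (kb xb14 yb45 zb24) (kb xb6 yb55 zb10) (kb xb14 yb18 zb58) (kb xb14 yb28 zb60) (kb xb14 yb19 zb5) (kb xb3 yb53 zb58) (kb xb3 yb53 zb59) (kb xb14 yb40 zb10) (kb xb11 yb52 zb4) (kb xb11 yb26 zb46) (kb xb11 yb26 zb47) (kb xb14 yb24 zb42) (kb xb14 yb24 zb43) (kb xb14 yb45 zb55) (kb xb14 yb45 zb58) (kb xb14 yb45 zb48) (kb xb3 yb53 zb60) (kb xb14 yb45 zb60) (kb xb13 yb32 zb2) (kb xb13 yb32 zb3) (kb xb14 yb46 zb3) (kb xb7 yb14 zb0) (kb xb7 yb51 zb45)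 (kb xb14 yb28 zb37) (kb xb7 yb51 zb46) (kb xb7 yb54 zb51) (kb xb14 yb28 zb40) (kb xb3 yb54 zb6) (kb xb3 yb54 zb7) (kb xb14 yb46 zb16) (kb xb8 yb36 zb17) (kb xb8 yb34 zb6) (kb xb14 yb28 zb36) (kb xb7 yb51 zb34) (kb xb7 yb51 zb37) (kb xb14 yb28 zb39) (kb xb14 yb46 zb9) (kb xb3 yb54 zb12) (kb xb14 yb46 zb27) (kb xb14 yb46 zb29) (kb xb14 yb46 zb30) (kb xb14 yb46 zb31)) (@D3.rec (fun _ => Pt) (kb xb3 yb54 zb14) (kb xb14 yb46 zb33) (kb xb14 yb46 zb32) (kb xb11 yb12 zb7) (kb xb3 yb54 zb15) (kb xb5 yb43 zb35) (kb xb14 yb46 zb42) (kb xb14 yb46 zb43) (kb xb3 yb54 zb16) (kb xb14 yb46 zb49) (kb xb14 yb46 zb52) (kb xb14 yb39 zb60) (kb xb14 yb46 zb58) (kb xb7 yb52 zb12) (kb xb7 yb52 zb18) (kb xb13 yb32 zb54) (kb xb3 yb54 zb20) (kb xb3 yb54 zb21) (kb xb14 yb47 zb8) (kb xb14 yb47 zb12)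 (kb xb8 yb39 zb37) (kb xb7 yb52 zb13) (kb xb14 yb24 zb39) (kb xb3 yb54 zb23) (kb xb3 yb54 zb24) (kb xb14 yb47 zb27) (kb xb14 yb47 zb23) (kb xb14 yb47 zb26) (kb xb3 yb54 zb25) (kb xb14 yb47 zb37) (kb xb14 yb47 zb35) (kb xb3 yb54 zb26) (kb xb14 yb47 zb45) (kb xb14 yb47 zb44) (kb xb10 yb35 zb36) (kb xb14 yb47 zb51) (kb xb3 yb54 zb27) (kb xb14 yb47 zb55) (kb xb14 yb47 zb56) (kb xb7 yb52 zb33) (kb xb3 yb54 zb30) (kb xb9 yb10 zb55) (kb xb7 yb52 zb36) (kb xb13 yb53 zb59) (kb xb3 yb54 zb32) (kb xb3 yb54 zb33) (kb xb9 yb14 zb19) (kb xb14 yb48 zb9) (kb xb11 yb51 zb26) (kb xb4 yb19 zb59) (kb xb13 yb26 zb3) (kb xb14 yb48 zb7) (kb xb14 yb48 zb14) (kb xb14 yb48 zb15) (kb xb13 yb23 zb28) (kb xb3 yb54 zb35) (kb xb14 yb48 zb19) (kb xb3 yb54 zb36) (kb xb14 yb48 zb21) (kb xb14 yb48 zb24)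 (kb xb7 yb25 zb6) (kb xb13 yb31 zb61)) (@D3.rec (fun _ => Pt) (kb xb3 yb54 zb40) (kb xb3 yb54 zb41) (kb xb14 yb48 zb36) (kb xb14 yb48 zb32) (kb xb14 yb48 zb42) (kb xb14 yb48 zb34) (kb xb14 yb48 zb35) (kb xb3 yb54 zb42) (kb xb14 yb24 zb44) (kb xb14 yb14 zb53) (kb xb11 yb51 zb33) (kb xb7 yb16 zb28) (kb xb7 yb40 zb28) (kb xb7 yb24 zb61) (kb xb7 yb40 zb55) (kb xb3 yb54 zb50) (kb xb14 yb48 zb57) (kb xb7 yb41 zb21) (kb xb3 yb54 zb52) (kb xb3 yb54 zb53) (kb xb14 yb49 zb5) (kb xb14 yb49 zb8) (kb xb14 yb48 zb55) (kb xb14 yb48 zb56) (kb xb3 yb54 zb51) (kb xb9 yb10 zb50) (kb xb11 yb2 zb52) (kb xb14 yb49 zb20) (kb xb14 yb49 zb4) (kb xb14 yb29 zb12) (kb xb13 yb42 zb38) (kb xb14 yb49 zb27) (kb xb3 yb54 zb56) (kb xb14 yb49 zb30) (kb xb7 yb49 zb53) (kb xb3 yb54 zb59) (kb xb14 yb49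 zb31) (kb xb7 yb49 zb54) (kb xb14 yb49 zb33) (kb xb12 yb47 zb59) (kb xb3 yb55 zb0) (kb xb14 yb49 zb40) (kb xb14 yb49 zb42) (kb xb3 yb55 zb1) (kb xb14 yb49 zb43) (kb xb7 yb49 zb42) (kb xb7 yb49 zb44) (kb xb12 yb48 zb0) (kb xb7 yb54 zb4) (kb xb3 yb55 zb5) (kb xb3 yb55 zb6) (kb xb7 yb4 zb45) (kb xb14 yb49 zb54) (kb xb14 yb49 zb56) (kb xb14 yb49 zb52) (kb xb14 yb49 zb59) (kb xb14 yb49 zb61) (kb xb4 yb34 zb5) (kb xb3 yb55 zb8) (kb xb14 yb50 zb6) (kb xb14 yb50 zb9) (kb xb14 yb50 zb4)) (@D3.rec (fun _ => Pt) (kb xb14 yb50 zb5) (kb xb3 yb55 zb9) (kb xb14 yb50 zb21) (kb xb14 yb50 zb18) (kb xb14 yb50 zb19) (kb xb3 yb55 zb10) (kb xb14 yb50 zb32) (kb xb14 yb50 zb30) (kb xb14 yb50 zb31) (kb xb14 yb50 zb39) (kb xb8 yb37 zb44) (kb xb14 yb50 zb45) (kb xb7 yb50 zb13) (kb xb7 yb50 zb21)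 (kb xb13 yb43 zb25) (kb xb14 yb50 zb50) (kb xb11 yb32 zb25) (kb xb11 yb36 zb43) (kb xb7 yb50 zb14) (kb xb11 yb32 zb48) (kb xb3 yb55 zb16) (kb xb3 yb55 zb17) (kb xb14 yb51 zb2) (kb xb14 yb50 zb61) (kb xb3 yb55 zb18) (kb xb11 yb40 zb3) (kb xb14 yb51 zb7) (kb xb4 yb14 zb28) (kb xb14 yb51 zb14) (kb xb14 yb51 zb16) (kb xb3 yb55 zb20) (kb xb14 yb51 zb20) (kb xb14 yb51 zb21) (kb xb7 yb50 zb39) (kb xb3 yb55 zb22) (kb xb14 yb51 zb27) (kb xb7 yb50 zb42) (kb xb14 yb2 zb53) (kb xb3 yb55 zb24) (kb xb14 yb51 zb35) (kb xb14 yb51 zb38) (kb xb14 yb51 zb41) (kb xb8 yb37 zb57) (kb xb3 yb55 zb26) (kb xb3 yb55 zb27) (kb xb14 yb51 zb52) (kb xb14 yb51 zb49) (kb xb14 yb38 zb15) (kb xb14 yb51 zb51) (kb xb14 yb51 zb58) (kb xb3 yb55 zb29) (kb xb14 yb52 zb0) (kb xb3 yb55 zb32) (kb xb3 yb55 zb31)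 (kb xb14 yb52 zb3) (kb xb14 yb52 zb4) (kb xb3 yb55 zb33) (kb xb3 yb55 zb34) (kb xb14 yb52 zb12) (kb xb14 yb52 zb13) (kb xb14 yb1 zb19) (kb xb14 yb52 zb18)) (@D3.rec (fun _ => Pt) (kb xb14 yb52 zb19) (kb xb14 yb52 zb23) (kb xb7 yb11 zb13) (kb xb14 yb52 zb28) (kb xb12 yb51 zb32) (kb xb13 yb30 zb26) (kb xb5 yb54 zb28) (kb xb14 yb52 zb31) (kb xb14 yb17 zb45) (kb xb14 yb30 zb54) (kb xb14 yb30 zb55) (kb xb3 yb55 zb43) (kb xb14 yb52 zb38) (kb xb6 yb3 zb41) (kb xb14 yb52 zb42) (kb xb9 yb14 zb12) (kb xb14 yb47 zb52) (kb xb3 yb55 zb49) (kb xb3 yb55 zb51) (kb xb14 yb25 zb59) (kb xb14 yb52 zb49) (kb xb14 yb52 zb45) (kb xb6 yb8 zb15) (kb xb13 yb31 zb37) (kb xb14 yb26 zb3) (kb xb14 yb52 zb56) (kb xb13 yb31 zb30) (kb xb14 yb23 zb0) (kb xb3 yb55 zb53) (kb xb3 yb55 zb55) (kb xb14 yb52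 zb60) (kb xb14 yb21 zb47) (kb xb3 yb55 zb57) (kb xb3 yb55 zb58) (kb xb14 yb53 zb5) (kb xb14 yb21 zb55) (kb xb14 yb53 zb10) (kb xb5 yb25 zb0) (kb xb14 yb53 zb4) (kb xb3 yb55 zb60) (kb xb14 yb53 zb16) (kb xb5 yb25 zb3) (kb xb3 yb56 zb0) (kb xb14 yb53 zb20) (kb xb3 yb56 zb1) (kb xb14 yb53 zb24) (kb xb14 yb53 zb25) (kb xb7 yb54 zb35) (kb xb14 yb53 zb30) (kb xb14 yb53 zb33) (kb xb14 yb53 zb38) (kb xb6 yb58 zb19) (kb xb14 yb53 zb43) (kb xb14 yb53 zb46) (kb xb6 yb58 zb36) (kb xb7 yb55 zb22) (kb xb13 yb40 zb40) (kb xb14 yb53 zb54) (kb xb7 yb54 zb42) (kb xb3 yb56 zb8) (kb xb14 yb54 zb0) (kb xb14 yb53 zb61)) (@D3.rec (fun _ => Pt) (kb xb14 yb21 zb22) (kb xb3 yb56 zb10) (kb xb3 yb56 zb11) (kb xb3 yb56 zb12) (kb xb7 yb51 zb48) (kb xb14 yb28 zb54) (kb xb7 yb54 zb52) (kb xb3 yb56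 zb15) (kb xb14 yb54 zb19) (kb xb14 yb54 zb18) (kb xb14 yb54 zb24) (kb xb14 yb54 zb27) (kb xb14 yb54 zb31) (kb xb3 yb56 zb20) (kb xb3 yb56 zb17) (kb xb14 yb54 zb39) (kb xb14 yb54 zb38) (kb xb3 yb56 zb18) (kb xb14 yb54 zb47) (kb xb14 yb54 zb46) (kb xb14 yb54 zb51) (kb xb14 yb54 zb53) (kb xb3 yb56 zb19) (kb xb14 yb54 zb57) (kb xb14 yb54 zb58) (kb xb14 yb54 zb60) (kb xb14 yb7 zb14) (kb xb14 yb54 zb35) (kb xb3 yb56 zb21) (kb xb3 yb56 zb22) (kb xb3 yb56 zb24) (kb xb14 yb55 zb6) (kb xb3 yb56 zb25) (kb xb6 yb57 zb19) (kb xb14 yb55 zb10) (kb xb7 yb53 zb47) (kb xb14 yb55 zb14) (kb xb3 yb56 zb27) (kb xb14 yb55 zb17) (kb xb3 yb56 zb28) (kb xb14 yb55 zb20) (kb xb14 yb3 zb11) (kb xb7 yb53 zb58) (kb xb3 yb56 zb30) (kb xb14 yb55 zb26) (kb xb12 yb40 zb32) (kb xb14 yb55 zb31) (kb xb3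 yb56 zb32) (kb xb3 yb56 zb33) (kb xb14 yb55 zb35) (kb xb14 yb55 zb38) (kb xb7 yb49 zb45) (kb xb7 yb54 zb6) (kb xb3 yb56 zb35) (kb xb14 yb55 zb47) (kb xb14 yb55 zb46) (kb xb14 yb55 zb52) (kb xb14 yb55 zb54) (kb xb3 yb56 zb40) (kb xb3 yb56 zb37) (kb xb14 yb56 zb1) (kb xb14 yb56 zb0)) (@D3.rec (fun _ => Pt) (kb xb3 yb56 zb38) (kb xb14 yb56 zb9) (kb xb14 yb56 zb8) (kb xb3 yb56 zb39) (kb xb14 yb56 zb16) (kb xb14 yb56 zb17) (kb xb14 yb56 zb20) (kb xb14 yb56 zb24) (kb xb7 yb5 zb26) (kb xb14 yb55 zb59) (kb xb3 yb56 zb41) (kb xb3 yb56 zb42) (kb xb14 yb56 zb36) (kb xb7 yb2 zb34) (kb xb3 yb56 zb45) (kb xb14 yb15 zb32) (kb xb14 yb56 zb42) (kb xb8 yb21 zb4) (kb xb4 yb48 zb41) (kb xb3 yb56 zb47) (kb xb14 yb56 zb49) (kb xb13 yb19 zb59) (kb xb7 yb53 zb55) (kb xb3 yb56 zb51) (kb xb14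 yb56 zb55) (kb xb4 yb21 zb12) (kb xb4 yb8 zb21) (kb xb3 yb56 zb54) (kb xb14 yb57 zb1) (kb xb4 yb10 zb38) (kb xb14 yb57 zb3) (kb xb3 yb56 zb60) (kb xb4 yb10 zb14) (kb xb3 yb56 zb59) (kb xb14 yb57 zb11) (kb xb14 yb57 zb13) (kb xb4 yb10 zb21) (kb xb14 yb57 zb7) (kb xb3 yb57 zb0) (kb xb14 yb57 zb20) (kb xb8 yb33 zb0) (kb xb8 yb30 zb47) (kb xb8 yb29 zb45) (kb xb9 yb38 zb2) (kb xb3 yb57 zb3) (kb xb12 yb20 zb19) (kb xb4 yb11 zb9) (kb xb14 yb57 zb25) (kb xb8 yb34 zb54) (kb xb14 yb57 zb32) (kb xb8 yb29 zb57) (kb xb3 yb57 zb5) (kb xb14 yb57 zb37) (kb xb3 yb57 zb6) (kb xb14 yb57 zb43) (kb xb14 yb57 zb44) (kb xb14 yb57 zb50) (kb xb14 yb57 zb54) (kb xb4 yb22 zb8) (kb xb3 yb57 zb8) (kb xb3 yb57 zb9) (kb xb14 yb57 zb60)) (@D3.rec (fun _ => Pt) (kb xb14 yb57 zb61) (kb xb14 yb58 zb4)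 (kb xb4 yb9 zb58) (kb xb4 yb2 zb43) (kb xb4 yb2 zb44) (kb xb4 yb9 zb5) (kb xb3 yb57 zb15) (kb xb3 yb57 zb16) (kb xb3 yb57 zb14) (kb xb14 yb58 zb17) (kb xb8 yb36 zb39) (kb xb14 yb58 zb13) (kb xb7 yb59 zb7) (kb xb4 yb23 zb55) (kb xb4 yb22 zb31) (kb xb3 yb57 zb18) (kb xb14 yb58 zb23) (kb xb13 yb31 zb22) (kb xb3 yb57 zb21) (kb xb10 yb3 zb18) (kb xb3 yb57 zb24) (kb xb14 yb58 zb34) (kb xb9 yb2 zb38) (kb xb7 yb14 zb14) (kb xb4 yb23 zb27) (kb xb5 yb46 zb36) (kb xb14 yb58 zb46) (kb xb14 yb58 zb51) (kb xb3 yb57 zb35) (kb xb3 yb57 zb36) (kb xb3 yb57 zb32) (kb xb14 yb58 zb61) (kb xb3 yb57 zb33) (kb xb14 yb59 zb4) (kb xb3 yb57 zb34) (kb xb14 yb59 zb11) (kb xb14 yb59 zb16) (kb xb14 yb59 zb20) (kb xb14 yb58 zb57) (kb xb14 yb58 zb58) (kb xb4 yb42 zb53) (kb xb6 yb24 zb46) (kb xb4 yb35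 zb54) (kb xb4 yb36 zb53) (kb xb4 yb42 zb37) (kb xb13 yb38 zb22) (kb xb14 yb59 zb31) (kb xb7 yb5 zb51) (kb xb3 yb59 zb19) (kb xb4 yb35 zb55) (kb xb4 yb24 zb35) (kb xb4 yb36 zb8) (kb xb3 yb57 zb45) (kb xb12 yb22 zb40) (kb xb10 yb58 zb51) (kb xb14 yb59 zb39) (kb xb8 yb2 zb11) (kb xb4 yb25 zb26) (kb xb3 yb57 zb47) (kb xb12 yb6 zb14) (kb xb11 yb27 zb27) (kb xb3 yb57 zb49)) (@D3.rec (fun _ => Pt) (kb xb5 yb38 zb15) (kb xb11 yb20 zb60) (kb xb13 yb47 zb38) (kb xb14 yb59 zb47) (kb xb14 yb59 zb55) (kb xb11 yb29 zb12) (kb xb4 yb2 zb3) (kb xb4 yb26 zb58) (kb xb3 yb57 zb55) (kb xb3 yb57 zb56) (kb xb14 yb1 zb38) (kb xb14 yb59 zb60) (kb xb7 yb14 zb35) (kb xb14 yb19 zb50) (kb xb4 yb26 zb9) (kb xb9 yb19 zb43) (kb xb3 yb57 zb59) (kb xb12 yb31 zb30) (kb xb15 yb0 zb4) (kb xb11 yb27 zb53)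 (kb xb7 yb26 zb42) (kb xb8 yb50 zb9) (kb xb15 yb0 zb13) (kb xb15 yb0 zb16) (kb xb3 yb58 zb2) (kb xb3 yb58 zb0) (kb xb15 yb0 zb22) (kb xb15 yb0 zb23) (kb xb3 yb58 zb1) (kb xb15 yb0 zb31) (kb xb15 yb0 zb32) (kb xb15 yb0 zb35) (kb xb15 yb0 zb38) (kb xb3 yb58 zb4) (kb xb15 yb0 zb44) (kb xb3 yb58 zb5) (kb xb15 yb0 zb51) (kb xb15 yb0 zb54) (kb xb4 yb8 zb35) (kb xb15 yb0 zb57) (kb xb4 yb55 zb10) (kb xb15 yb0 zb60) (kb xb9 yb51 zb27) (kb xb5 yb25 zb4) (kb xb5 yb25 zb7) (kb xb3 yb58 zb10) (kb xb15 yb1 zb10) (kb xb15 yb1 zb11) (kb xb4 yb54 zb42) (kb xb15 yb1 zb14) (kb xb3 yb58 zb18) (kb xb15 yb1 zb17) (kb xb8 yb26 zb33) (kb xb4 yb22 zb20) (kb xb15 yb1 zb21) (kb xb4 yb54 zb55) (kb xb15 yb1 zb27) (kb xb15 yb1 zb30) (kb xb3 yb58 zb17) (kb xb15 yb1 zb36) (kb xb15 yb1 zb37) (kb xb4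 yb54 zb61)) (@D3.rec (fun _ => Pt) (kb xb8 yb38 zb32) (kb xb15 yb1 zb16) (kb xb11 yb53 zb53) (kb xb15 yb1 zb49) (kb xb3 yb58 zb23) (kb xb3 yb58 zb22) (kb xb15 yb1 zb55) (kb xb15 yb1 zb56) (kb xb4 yb55 zb14) (kb xb15 yb1 zb51) (kb xb3 yb58 zb26) (kb xb15 yb2 zb2) (kb xb3 yb58 zb25) (kb xb15 yb2 zb7) (kb xb15 yb2 zb8) (kb xb4 yb55 zb21) (kb xb3 yb58 zb39) (kb xb15 yb2 zb1) (kb xb3 yb58 zb29) (kb xb3 yb58 zb28) (kb xb15 yb2 zb22) (kb xb15 yb2 zb23) (kb xb3 yb58 zb41) (kb xb4 yb55 zb31) (kb xb5 yb15 zb19) (kb xb15 yb2 zb18) (kb xb3 yb58 zb30) (kb xb15 yb2 zb36) (kb xb15 yb2 zb37) (kb xb3 yb58 zb31) (kb xb15 yb2 zb44) (kb xb15 yb2 zb45) (kb xb15 yb2 zb49) (kb xb15 yb2 zb52) (kb xb15 yb1 zb9) (kb xb3 yb58 zb33) (kb xb15 yb2 zb59) (kb xb15 yb2 zb61) (kb xb15 yb3 zb1) (kb xb15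 yb1 zb7) (kb xb10 yb54 zb39) (kb xb10 yb54 zb40) (kb xb15 yb3 zb10) (kb xb10 yb24 zb29) (kb xb5 yb33 zb4) (kb xb5 yb33 zb5) (kb xb15 yb3 zb19) (kb xb15 yb3 zb22) (kb xb3 yb58 zb40) (kb xb3 yb58 zb38) (kb xb15 yb3 zb25) (kb xb15 yb2 zb17) (kb xb15 yb2 zb30) (kb xb3 yb58 zb42) (kb xb3 yb58 zb44) (kb xb15 yb3 zb29) (kb xb15 yb3 zb27) (kb xb15 yb3 zb28) (kb xb3 yb58 zb45) (kb xb15 yb3 zb37) (kb xb15 yb3 zb35) (kb xb15 yb3 zb36)) (@D3.rec (fun _ => Pt) (kb xb4 yb56 zb21) (kb xb15 yb3 zb41) (kb xb4 yb57 zb38) (kb xb3 yb58 zb48) (kb xb11 yb26 zb25) (kb xb3 yb58 zb49) (kb xb10 yb15 zb24) (kb xb7 yb56 zb12) (kb xb4 yb57 zb1) (kb xb3 yb58 zb57) (kb xb4 yb0 zb25) (kb xb4 yb23 zb19) (kb xb7 yb13 zb49) (kb xb4 yb22 zb52) (kb xb3 yb58 zb59) (kb xb15 yb3 zb53) (kb xb4 yb57 zb17) (kb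 xb12 yb4 zb6) (kb xb11 yb24 zb35) (kb xb4 yb57 zb3) (kb xb4 yb57 zb9) (kb xb13 yb27 zb55) (kb xb3 yb59 zb3) (kb xb3 yb59 zb4) (kb xb3 yb59 zb2) (kb xb15 yb4 zb0) (kb xb13 yb27 zb54) (kb xb10 yb58 zb24) (kb xb15 yb3 zb61) (kb xb15 yb4 zb6) (kb xb5 yb44 zb34) (kb xb12 yb31 zb47) (kb xb4 yb57 zb29) (kb xb3 yb59 zb6) (kb xb6 yb9 zb4) (kb xb15 yb4 zb13) (kb xb3 yb59 zb7) (kb xb9 yb3 zb47) (kb xb15 yb4 zb18) (kb xb5 yb38 zb32) (kb xb5 yb38 zb33) (kb xb4 yb31 zb10) (kb xb15 yb4 zb25) (kb xb15 yb4 zb27) (kb xb3 yb59 zb15) (kb xb3 yb59 zb16) (kb xb3 yb59 zb12) (kb xb3 yb59 zb13) (kb xb11 yb30 zb4) (kb xb3 yb59 zb14) (kb xb15 yb4 zb30) (kb xb15 yb4 zb35) (kb xb5 yb36 zb24) (kb xb13 yb38 zb29) (kb xb4 yb24 zb50) (kb xb4 yb23 zb60) (kb xb3 yb59 zb23) (kb xb11 yb21 zb16) (kb xb12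 yb9 zb6) (kb xb7 yb0 zb45) (kb xb4 yb20 zb11) (kb xb15 yb4 zb40))
def f_b_8 : D2 → D3 → Pt := @D2.rec (fun _ => D3 → Pt) (@D3.rec (fun _ => Pt) (kb xb4 yb37 zb15) (kb xb3 yb59 zb24) (kb xb4 yb38 zb46) (kb xb13 yb10 zb14) (kb xb4 yb57 zb43) (kb xb3 yb59 zb28) (kb xb15 yb4 zb46) (kb xb3 yb59 zb35) (kb xb3 yb59 zb37) (kb xb3 yb59 zb38) (kb xb3 yb59 zb33) (kb xb12 yb5 zb20) (kb xb15 yb4 zb50) (kb xb9 yb47 zb3) (kb xb3 yb59 zb34) (kb xb15 yb4 zb55) (kb xb12 yb32 zb14) (kb xb15 yb4 zb48) (kb xb4 yb59 zb6) (kb xb14 yb32 zb26) (kb xb3 yb59 zb39) (kb xb15 yb4 zb61) (kb xb15 yb5 zb2) (kb xb6 yb0 zb56) (kb xb4 yb59 zb20) (kb xb3 yb59 zb43) (kb xb15 yb5 zb6) (kb xb6 yb50 zb3) (kb xb11 yb35 zb4) (kb xb12 yb10 zb60) (kb xb4 yb46 zb34) (kb xb14 yb35 zb45) (kb xb3 yb59 zb46) (kb xb3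 yb59 zb45) (kb xb9 yb22 zb31) (kb xb15 yb5 zb13) (kb xb6 yb38 zb55) (kb xb3 yb59 zb47) (kb xb15 yb5 zb16) (kb xb6 yb54 zb19) (kb xb15 yb5 zb18) (kb xb12 yb15 zb23) (kb xb6 yb50 zb44) (kb xb4 yb48 zb18) (kb xb3 yb59 zb50) (kb xb15 yb5 zb24) (kb xb15 yb5 zb22) (kb xb6 yb50 zb40) (kb xb3 yb59 zb51) (kb xb8 yb50 zb4) (kb xb15 yb5 zb30) (kb xb11 yb50 zb6) (kb xb5 yb0 zb9) (kb xb4 yb46 zb8) (kb xb3 yb59 zb54) (kb xb3 yb59 zb55) (kb xb15 yb5 zb28) (kb xb5 yb0 zb18) (kb xb3 yb59 zb57) (kb xb15 yb5 zb42) (kb xb3 yb59 zb58) (kb xb12 yb6 zb12)) (@D3.rec (fun _ => Pt) (kb xb15 yb5 zb43) (kb xb4 yb56 zb35) (kb xb7 yb8 zb26) (kb xb7 yb7 zb10) (kb xb8 yb1 zb52) (kb xb15 yb5 zb46) (kb xb4 yb0 zb4) (kb xb4 yb0 zb5) (kb xb4 yb0 zb3) (kb xb15 yb5 zb56) (kb xb15 yb5 zb59) (kb xb15 yb6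 zb0) (kb xb15 yb5 zb51) (kb xb15 yb5 zb52) (kb xb9 yb9 zb19) (kb xb4 yb0 zb8) (kb xb15 yb6 zb9) (kb xb12 yb5 zb51) (kb xb15 yb6 zb16) (kb xb15 yb6 zb19) (kb xb4 yb0 zb13) (kb xb4 yb0 zb11) (kb xb15 yb6 zb23) (kb xb15 yb6 zb24) (kb xb4 yb0 zb12) (kb xb15 yb6 zb32) (kb xb15 yb6 zb33) (kb xb4 yb9 zb41) (kb xb4 yb0 zb15) (kb xb9 yb33 zb55) (kb xb15 yb6 zb42) (kb xb4 yb0 zb17) (kb xb9 yb33 zb58) (kb xb15 yb6 zb45) (kb xb15 yb6 zb48) (kb xb15 yb6 zb53) (kb xb4 yb53 zb11) (kb xb4 yb0 zb19) (kb xb4 yb0 zb20) (kb xb15 yb6 zb61) (kb xb9 yb53 zb31) (kb xb6 yb13 zb44) (kb xb15 yb7 zb4) (kb xb6 yb14 zb19) (kb xb4 yb22 zb59) (kb xb5 yb41 zb20) (kb xb4 yb23 zb21) (kb xb12 yb9 zb15) (kb xb4 yb0 zb26) (kb xb4 yb23 zb22) (kb xb15 yb7 zb10) (kb xb7 yb33 zb46) (kb xb8 yb1 zb4) (kb xb15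 yb7 zb18) (kb xb12 yb8 zb57) (kb xb15 yb7 zb25) (kb xb4 yb0 zb31) (kb xb4 yb0 zb32) (kb xb4 yb0 zb33) (kb xb4 yb0 zb30) (kb xb15 yb7 zb37) (kb xb15 yb7 zb40)) (@D3.rec (fun _ => Pt) (kb xb15 yb7 zb43) (kb xb15 yb7 zb31) (kb xb15 yb7 zb32) (kb xb15 yb7 zb33) (kb xb10 yb16 zb10) (kb xb4 yb0 zb35) (kb xb15 yb7 zb50) (kb xb4 yb0 zb38) (kb xb4 yb36 zb7) (kb xb4 yb24 zb29) (kb xb5 yb53 zb28) (kb xb7 yb56 zb56) (kb xb5 yb55 zb29) (kb xb5 yb55 zb30) (kb xb11 yb20 zb58) (kb xb4 yb1 zb14) (kb xb10 yb17 zb57) (kb xb5 yb7 zb13) (kb xb4 yb25 zb58) (kb xb12 yb9 zb7) (kb xb12 yb5 zb35) (kb xb12 yb5 zb26) (kb xb5 yb53 zb30) (kb xb6 yb24 zb59) (kb xb6 yb2 zb55) (kb xb4 yb0 zb50) (kb xb15 yb8 zb9) (kb xb15 yb8 zb11) (kb xb15 yb8 zb14) (kb xb4 yb0 zb57) (kb xb4 yb0 zb54) (kb xb4 yb0 zb58)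 (kb xb15 yb8 zb20) (kb xb15 yb8 zb18) (kb xb4 yb0 zb55) (kb xb15 yb8 zb31) (kb xb15 yb8 zb32) (kb xb4 yb0 zb56) (kb xb15 yb8 zb42) (kb xb15 yb8 zb43) (kb xb15 yb8 zb49) (kb xb15 yb8 zb51) (kb xb15 yb8 zb53) (kb xb5 yb24 zb29) (kb xb4 yb0 zb60) (kb xb15 yb8 zb59) (kb xb15 yb8 zb61) (kb xb6 yb4 zb37) (kb xb8 yb29 zb7) (kb xb4 yb1 zb2) (kb xb15 yb9 zb7) (kb xb15 yb9 zb8) (kb xb8 yb39 zb48) (kb xb4 yb1 zb6) (kb xb4 yb1 zb5) (kb xb15 yb9 zb13) (kb xb4 yb29 zb29) (kb xb5 yb24 zb4) (kb xb10 yb20 zb17) (kb xb15 yb9 zb10) (kb xb4 yb1 zb7) (kb xb15 yb9 zb24)) (@D3.rec (fun _ => Pt) (kb xb15 yb8 zb54) (kb xb5 yb32 zb12) (kb xb4 yb28 zb21) (kb xb15 yb9 zb30) (kb xb15 yb9 zb33) (kb xb4 yb4 zb13) (kb xb15 yb9 zb36) (kb xb4 yb28 zb42) (kb xb15 yb9 zb41) (kb xb4 yb1 zb12) (kb xb15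 yb9 zb45) (kb xb15 yb9 zb48) (kb xb5 yb5 zb28) (kb xb10 yb28 zb6) (kb xb15 yb7 zb57) (kb xb4 yb4 zb35) (kb xb5 yb54 zb23) (kb xb13 yb50 zb50) (kb xb4 yb1 zb19) (kb xb15 yb9 zb59) (kb xb8 yb52 zb30) (kb xb10 yb24 zb54) (kb xb10 yb17 zb1) (kb xb4 yb1 zb22) (kb xb15 yb10 zb3) (kb xb10 yb1 zb22) (kb xb6 yb7 zb32) (kb xb4 yb1 zb24) (kb xb10 yb18 zb24) (kb xb15 yb10 zb8) (kb xb4 yb1 zb26) (kb xb4 yb1 zb27) (kb xb8 yb10 zb37) (kb xb12 yb5 zb3) (kb xb4 yb1 zb29) (kb xb14 yb56 zb30) (kb xb4 yb20 zb33) (kb xb15 yb10 zb18) (kb xb8 yb42 zb53) (kb xb5 yb5 zb57) (kb xb4 yb1 zb31) (kb xb4 yb1 zb32) (kb xb15 yb10 zb26) (kb xb15 yb10 zb27) (kb xb15 yb10 zb32) (kb xb4 yb1 zb37) (kb xb4 yb1 zb34) (kb xb15 yb10 zb38) (kb xb4 yb1 zb35) (kb xb15 yb10 zb43) (kb xb4 yb1 zb36) (kb xb15 yb10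 zb49) (kb xb15 yb10 zb54) (kb xb15 yb10 zb56) (kb xb15 yb10 zb36) (kb xb8 yb39 zb3) (kb xb5 yb15 zb36) (kb xb14 yb58 zb35) (kb xb4 yb1 zb42) (kb xb15 yb11 zb5) (kb xb4 yb1 zb41) (kb xb15 yb11 zb8)) (@D3.rec (fun _ => Pt) (kb xb15 yb11 zb9) (kb xb8 yb42 zb46) (kb xb15 yb11 zb4) (kb xb4 yb1 zb43) (kb xb15 yb11 zb16) (kb xb15 yb11 zb17) (kb xb8 yb28 zb9) (kb xb11 yb54 zb58) (kb xb11 yb54 zb59) (kb xb4 yb1 zb48) (kb xb4 yb1 zb47) (kb xb15 yb11 zb29) (kb xb15 yb11 zb30) (kb xb9 yb52 zb0) (kb xb15 yb11 zb25) (kb xb4 yb1 zb51) (kb xb4 yb1 zb50) (kb xb15 yb11 zb44) (kb xb15 yb11 zb45) (kb xb9 yb34 zb39) (kb xb15 yb11 zb40) (kb xb4 yb1 zb52) (kb xb15 yb11 zb54) (kb xb15 yb11 zb55) (kb xb4 yb1 zb53) (kb xb15 yb12 zb0) (kb xb15 yb12 zb1) (kb xb15 yb12 zb6) (kb xb15 yb12 zb11)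 (kb xb5 yb9 zb17) (kb xb4 yb1 zb55) (kb xb4 yb1 zb56) (kb xb15 yb12 zb21) (kb xb15 yb12 zb23) (kb xb15 yb12 zb19) (kb xb15 yb12 zb20) (kb xb5 yb13 zb6) (kb xb4 yb1 zb60) (kb xb15 yb12 zb35) (kb xb8 yb33 zb20) (kb xb10 yb32 zb59) (kb xb5 yb17 zb37) (kb xb4 yb2 zb1) (kb xb14 yb59 zb56) (kb xb4 yb2 zb4) (kb xb15 yb12 zb45) (kb xb10 yb20 zb21) (kb xb5 yb12 zb0) (kb xb10 yb27 zb58) (kb xb4 yb2 zb7) (kb xb15 yb12 zb52) (kb xb11 yb57 zb41) (kb xb15 yb12 zb59) (kb xb13 yb50 zb54) (kb xb6 yb16 zb2) (kb xb5 yb13 zb27) (kb xb4 yb2 zb13) (kb xb15 yb13 zb4) (kb xb11 yb57 zb47) (kb xb11 yb57 zb48) (kb xb6 yb15 zb61) (kb xb4 yb2 zb16)) (@D3.rec (fun _ => Pt) (kb xb5 yb12 zb58) (kb xb15 yb13 zb14) (kb xb5 yb37 zb39) (kb xb4 yb5 zb55) (kb xb4 yb2 zb17) (kb xb8 yb25 zb55) (kb xb15 yb13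 zb22) (kb xb14 yb25 zb34) (kb xb4 yb20 zb42) (kb xb11 yb32 zb58) (kb xb10 yb5 zb0) (kb xb15 yb13 zb34) (kb xb4 yb2 zb24) (kb xb4 yb2 zb25) (kb xb4 yb2 zb26) (kb xb4 yb2 zb21) (kb xb15 yb13 zb44) (kb xb4 yb2 zb22) (kb xb15 yb13 zb48) (kb xb4 yb2 zb23) (kb xb15 yb13 zb55) (kb xb15 yb13 zb60) (kb xb15 yb14 zb1) (kb xb15 yb13 zb40) (kb xb15 yb13 zb41) (kb xb15 yb13 zb42) (kb xb15 yb14 zb8) (kb xb5 yb16 zb21) (kb xb10 yb28 zb8) (kb xb8 yb52 zb35) (kb xb12 yb20 zb18) (kb xb8 yb30 zb43) (kb xb15 yb14 zb14) (kb xb15 yb14 zb18) (kb xb8 yb5 zb56) (kb xb4 yb2 zb30) (kb xb4 yb2 zb31) (kb xb13 yb6 zb32) (kb xb15 yb14 zb22) (kb xb10 yb28 zb13) (kb xb5 yb16 zb15) (kb xb15 yb14 zb30) (kb xb8 yb52 zb0) (kb xb8 yb39 zb57) (kb xb4 yb2 zb35) (kb xb15 yb14 zb36) (kb xb15 yb14 zb37) (kb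 xb5 yb19 zb14) (kb xb8 yb52 zb12) (kb xb10 yb33 zb1) (kb xb5 yb17 zb55) (kb xb10 yb21 zb6) (kb xb5 yb18 zb34) (kb xb10 yb28 zb1) (kb xb10 yb13 zb28) (kb xb15 yb14 zb49) (kb xb8 yb5 zb34) (kb xb4 yb2 zb40) (kb xb4 yb2 zb41) (kb xb15 yb14 zb56) (kb xb10 yb8 zb55) (kb xb5 yb18 zb18)) (@D3.rec (fun _ => Pt) (kb xb10 yb28 zb2) (kb xb15 yb15 zb1) (kb xb14 yb58 zb9) (kb xb8 yb36 zb33) (kb xb4 yb2 zb45) (kb xb15 yb15 zb8) (kb xb7 yb38 zb60) (kb xb5 yb27 zb35) (kb xb4 yb2 zb48) (kb xb15 yb15 zb14) (kb xb15 yb15 zb15) (kb xb5 yb24 zb3) (kb xb4 yb3 zb58) (kb xb5 yb31 zb3) (kb xb4 yb2 zb51) (kb xb15 yb15 zb28) (kb xb15 yb15 zb29) (kb xb4 yb2 zb52) (kb xb15 yb15 zb35) (kb xb14 yb6 zb1) (kb xb15 yb15 zb40) (kb xb15 yb15 zb45) (kb xb10 yb23 zb31) (kb xb4 yb2 zb54) (kb xb4 yb2 zb55)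 (kb xb15 yb15 zb53) (kb xb15 yb15 zb55) (kb xb15 yb15 zb57) (kb xb13 yb28 zb25) (kb xb15 yb15 zb51) (kb xb15 yb15 zb52) (kb xb5 yb27 zb29) (kb xb10 yb0 zb42) (kb xb15 yb16 zb8) (kb xb4 yb2 zb59) (kb xb15 yb16 zb13) (kb xb15 yb16 zb14) (kb xb10 yb0 zb46) (kb xb8 yb15 zb15) (kb xb5 yb24 zb50) (kb xb15 yb16 zb21) (kb xb4 yb3 zb4) (kb xb4 yb3 zb3) (kb xb15 yb16 zb28) (kb xb15 yb16 zb29) (kb xb5 yb26 zb12) (kb xb10 yb27 zb50) (kb xb15 yb16 zb24) (kb xb15 yb7 zb3) (kb xb4 yb3 zb8) (kb xb8 yb30 zb10) (kb xb15 yb16 zb38) (kb xb15 yb16 zb43) (kb xb8 yb15 zb20) (kb xb11 yb52 zb23) (kb xb4 yb3 zb11) (kb xb15 yb16 zb51) (kb xb15 yb16 zb52) (kb xb5 yb26 zb46) (kb xb15 yb16 zb58) (kb xb10 yb35 zb43) (kb xb11 yb56 zb15)) (@D3.rec (fun _ => Pt) (kb xb11 yb56 zb16) (kb xb4 yb3 zb14)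 (kb xb15 yb17 zb5) (kb xb13 yb43 zb26) (kb xb15 yb17 zb10) (kb xb15 yb17 zb15) (kb xb15 yb9 zb6) (kb xb4 yb3 zb16) (kb xb4 yb3 zb17) (kb xb15 yb17 zb24) (kb xb15 yb17 zb26) (kb xb15 yb17 zb22) (kb xb12 yb39 zb45) (kb xb15 yb17 zb23) (kb xb15 yb17 zb32) (kb xb15 yb17 zb33) (kb xb4 yb3 zb20) (kb xb15 yb17 zb38) (kb xb15 yb17 zb39) (kb xb4 yb3 zb33) (kb xb4 yb10 zb2) (kb xb4 yb3 zb24) (kb xb15 yb17 zb46) (kb xb15 yb17 zb51) (kb xb5 yb28 zb24) (kb xb10 yb35 zb26) (kb xb4 yb3 zb26) (kb xb15 yb17 zb56) (kb xb11 yb10 zb3) (kb xb15 yb17 zb61) (kb xb9 yb37 zb34) (kb xb4 yb3 zb29) (kb xb15 yb18 zb6) (kb xb15 yb18 zb8) (kb xb15 yb18 zb4) (kb xb15 yb18 zb5) (kb xb15 yb18 zb14) (kb xb8 yb53 zb19) (kb xb15 yb18 zb17) (kb xb10 yb47 zb29) (kb xb10 yb35 zb40) (kb xb5 yb31 zb21) (kb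 xb15 yb18 zb23) (kb xb5 yb21 zb59) (kb xb4 yb3 zb34) (kb xb4 yb29 zb3) (kb xb4 yb27 zb33) (kb xb5 yb12 zb48) (kb xb4 yb9 zb12) (kb xb4 yb3 zb40) (kb xb15 yb18 zb35) (kb xb15 yb18 zb36) (kb xb5 yb23 zb30) (kb xb4 yb29 zb13) (kb xb4 yb3 zb50) (kb xb4 yb3 zb51) (kb xb9 yb0 zb0) (kb xb15 yb18 zb45) (kb xb8 yb36 zb49) (kb xb4 yb3 zb47) (kb xb10 yb50 zb13) (kb xb10 yb51 zb41)) (@D3.rec (fun _ => Pt) (kb xb15 yb18 zb53) (kb xb4 yb9 zb28) (kb xb5 yb30 zb11) (kb xb15 yb18 zb57) (kb xb5 yb30 zb14) (kb xb10 yb37 zb46) (kb xb15 yb19 zb0) (kb xb15 yb18 zb42) (kb xb4 yb3 zb52) (kb xb15 yb19 zb6) (kb xb15 yb19 zb7) (kb xb4 yb3 zb53) (kb xb15 yb19 zb12) (kb xb15 yb19 zb13) (kb xb5 yb20 zb47) (kb xb4 yb3 zb60) (kb xb15 yb19 zb21) (kb xb15 yb19 zb24) (kb xb15 yb9 zb12) (kb xb4 yb3 zb56)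 (kb xb15 yb19 zb30) (kb xb15 yb19 zb32) (kb xb15 yb19 zb28) (kb xb15 yb19 zb29) (kb xb4 yb3 zb57) (kb xb15 yb19 zb41) (kb xb15 yb19 zb40) (kb xb15 yb19 zb46) (kb xb10 yb26 zb21) (kb xb15 yb15 zb24) (kb xb10 yb3 zb46) (kb xb15 yb19 zb52) (kb xb5 yb19 zb51) (kb xb4 yb27 zb35) (kb xb4 yb4 zb0) (kb xb15 yb19 zb60) (kb xb15 yb19 zb61) (kb xb5 yb24 zb33) (kb xb4 yb29 zb54) (kb xb4 yb4 zb6) (kb xb8 yb58 zb19) (kb xb15 yb20 zb6) (kb xb15 yb9 zb23) (kb xb4 yb4 zb3) (kb xb15 yb20 zb13) (kb xb15 yb20 zb16) (kb xb15 yb20 zb11) (kb xb15 yb20 zb12) (kb xb15 yb20 zb21) (kb xb4 yb29 zb53) (kb xb5 yb32 zb30) (kb xb4 yb4 zb5) (kb xb15 yb20 zb28) (kb xb15 yb19 zb55) (kb xb15 yb20 zb31) (kb xb15 yb20 zb32) (kb xb8 yb27 zb59) (kb xb4 yb4 zb8) (kb xb15 yb20 zb36) (kb xb15 yb20 zb37) (kb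 xb15 yb20 zb42) (kb xb15 yb20 zb44)) (@D3.rec (fun _ => Pt) (kb xb5 yb33 zb32) (kb xb4 yb56 zb0) (kb xb4 yb4 zb10) (kb xb15 yb20 zb51) (kb xb14 yb50 zb34) (kb xb8 yb9 zb16) (kb xb15 yb20 zb57) (kb xb4 yb4 zb11) (kb xb15 yb21 zb5) (kb xb15 yb21 zb0) (kb xb15 yb21 zb1) (kb xb15 yb21 zb2) (kb xb4 yb4 zb12) (kb xb15 yb21 zb20) (kb xb15 yb21 zb18) (kb xb15 yb21 zb19) (kb xb8 yb9 zb5) (kb xb15 yb21 zb30) (kb xb15 yb21 zb33) (kb xb5 yb22 zb26) (kb xb4 yb4 zb16) (kb xb4 yb4 zb17) (kb xb15 yb21 zb45) (kb xb11 yb2 zb6) (kb xb15 yb21 zb41) (kb xb15 yb21 zb50) (kb xb15 yb21 zb53) (kb xb15 yb21 zb44) (kb xb15 yb21 zb59) (kb xb11 yb54 zb30) (kb xb10 yb22 zb19) (kb xb4 yb4 zb19) (kb xb15 yb22 zb6) (kb xb15 yb22 zb4) (kb xb15 yb22 zb5) (kb xb4 yb4 zb20) (kb xb15 yb22 zb13) (kb xb5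 yb35 zb28) (kb xb4 yb19 zb47) (kb xb10 yb50 zb42) (kb xb4 yb4 zb24) (kb xb4 yb4 zb23) (kb xb15 yb22 zb24) (kb xb5 yb35 zb36) (kb xb15 yb22 zb20) (kb xb15 yb22 zb28) (kb xb15 yb22 zb30) (kb xb8 yb27 zb38) (kb xb4 yb4 zb26) (kb xb15 yb22 zb34) (kb xb5 yb57 zb27) (kb xb4 yb4 zb27) (kb xb15 yb22 zb37) (kb xb4 yb4 zb28) (kb xb15 yb22 zb40) (kb xb15 yb22 zb39) (kb xb10 yb24 zb19) (kb xb15 yb22 zb44) (kb xb9 yb7 zb4) (kb xb4 yb4 zb32) (kb xb11 yb56 zb23) (kb xb14 yb9 zb29)) (@D3.rec (fun _ => Pt) (kb xb15 yb9 zb52) (kb xb4 yb4 zb36) (kb xb15 yb22 zb52) (kb xb15 yb22 zb56) (kb xb4 yb4 zb44) (kb xb15 yb22 zb57) (kb xb15 yb22 zb60) (kb xb5 yb39 zb6) (kb xb4 yb4 zb40) (kb xb15 yb23 zb4) (kb xb15 yb23 zb5) (kb xb4 yb4 zb41) (kb xb15 yb23 zb12) (kb xb15 yb23 zb10) (kb xb15 yb23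 zb11) (kb xb4 yb4 zb42) (kb xb15 yb23 zb16) (kb xb15 yb23 zb18) (kb xb15 yb23 zb21) (kb xb15 yb23 zb23) (kb xb9 yb34 zb20) (kb xb4 yb4 zb46) (kb xb15 yb23 zb29) (kb xb10 yb41 zb2) (kb xb9 yb42 zb28) (kb xb9 yb43 zb45) (kb xb9 yb44 zb41) (kb xb4 yb4 zb49) (kb xb15 yb23 zb34) (kb xb15 yb23 zb33) (kb xb8 yb38 zb15) (kb xb8 yb25 zb52) (kb xb10 yb1 zb24) (kb xb5 yb6 zb44) (kb xb13 yb42 zb8) (kb xb8 yb25 zb58) (kb xb7 yb17 zb29) (kb xb8 yb3 zb32) (kb xb4 yb4 zb58) (kb xb4 yb4 zb59) (kb xb4 yb4 zb57) (kb xb5 yb9 zb10) (kb xb15 yb23 zb55) (kb xb15 yb23 zb57) (kb xb11 yb57 zb40) (kb xb15 yb23 zb52) (kb xb15 yb23 zb61) (kb xb15 yb24 zb2) (kb xb4 yb5 zb0) (kb xb15 yb24 zb8) (kb xb4 yb5 zb1) (kb xb15 yb24 zb15) (kb xb12 yb55 zb34) (kb xb15 yb24 zb17) (kb xb8 yb13 zb32) (kb xb15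 yb24 zb20) (kb xb8 yb26 zb27) (kb xb14 yb48 zb11) (kb xb4 yb5 zb5) (kb xb15 yb24 zb26) (kb xb12 yb55 zb61) (kb xb8 yb13 zb9)) (@D3.rec (fun _ => Pt) (kb xb8 yb13 zb28) (kb xb15 yb24 zb30) (kb xb4 yb5 zb13) (kb xb5 yb29 zb24) (kb xb15 yb24 zb35) (kb xb8 yb15 zb2) (kb xb4 yb14 zb8) (kb xb15 yb24 zb39) (kb xb8 yb13 zb18) (kb xb15 yb24 zb45) (kb xb15 yb24 zb48) (kb xb4 yb5 zb12) (kb xb15 yb24 zb52) (kb xb9 yb12 zb6) (kb xb8 yb13 zb25) (kb xb15 yb24 zb34) (kb xb8 yb13 zb10) (kb xb15 yb24 zb58) (kb xb4 yb5 zb16) (kb xb4 yb5 zb15) (kb xb15 yb25 zb0) (kb xb15 yb25 zb1) (kb xb5 yb36 zb29) (kb xb15 yb24 zb61) (kb xb4 yb5 zb19) (kb xb15 yb25 zb9) (kb xb4 yb5 zb18) (kb xb15 yb25 zb14) (kb xb15 yb25 zb15) (kb xb8 yb13 zb41) (kb xb4 yb5 zb30) (kb xb15 yb25 zb8) (kb xb4 yb5 zb22)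 (kb xb4 yb5 zb21) (kb xb15 yb25 zb30) (kb xb13 yb46 zb4) (kb xb4 yb5 zb32) (kb xb8 yb13 zb48) (kb xb15 yb25 zb27) (kb xb4 yb5 zb23) (kb xb11 yb17 zb40) (kb xb15 yb25 zb39) (kb xb4 yb5 zb24) (kb xb12 yb46 zb6) (kb xb15 yb25 zb46) (kb xb15 yb25 zb49) (kb xb12 yb46 zb29) (kb xb11 yb23 zb6) (kb xb9 yb58 zb1) (kb xb9 yb17 zb39) (kb xb9 yb18 zb43) (kb xb15 yb25 zb57) (kb xb8 yb27 zb15) (kb xb15 yb26 zb0) (kb xb15 yb26 zb3) (kb xb4 yb5 zb31) (kb xb4 yb5 zb29) (kb xb15 yb26 zb6) (kb xb15 yb25 zb26) (kb xb15 yb25 zb36) (kb xb15 yb26 zb7) (kb xb5 yb47 zb41)) (@D3.rec (fun _ => Pt) (kb xb9 yb6 zb7) (kb xb7 yb5 zb34) (kb xb11 yb40 zb43) (kb xb14 yb35 zb46) (kb xb6 yb49 zb27) (kb xb4 yb32 zb40) (kb xb5 yb54 zb39) (kb xb4 yb5 zb42) (kb xb15 yb26 zb11) (kb xb15 yb26 zb12) (kb xb5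 yb59 zb44) (kb xb5 yb7 zb37) (kb xb6 yb1 zb58) (kb xb4 yb5 zb46) (kb xb15 yb26 zb16) (kb xb8 yb14 zb46) (kb xb4 yb5 zb48) (kb xb15 yb26 zb18) (kb xb10 yb1 zb17) (kb xb4 yb23 zb57) (kb xb4 yb5 zb50) (kb xb15 yb26 zb21) (kb xb9 yb44 zb40) (kb xb6 yb16 zb0) (kb xb15 yb26 zb26) (kb xb5 yb7 zb4) (kb xb4 yb53 zb51) (kb xb4 yb5 zb56) (kb xb4 yb5 zb57) (kb xb15 yb13 zb20) (kb xb15 yb13 zb21) (kb xb15 yb26 zb37) (kb xb15 yb26 zb30) (kb xb15 yb26 zb32) (kb xb8 yb49 zb3) (kb xb5 yb14 zb11) (kb xb9 yb16 zb9) (kb xb7 yb27 zb4) (kb xb15 yb26 zb45) (kb xb4 yb5 zb60) (kb xb15 yb26 zb48) (kb xb15 yb26 zb47) (kb xb15 yb26 zb53) (kb xb4 yb5 zb61) (kb xb15 yb26 zb57) (kb xb11 yb29 zb51) (kb xb8 yb14 zb38) (kb xb6 yb50 zb39) (kb xb15 yb27 zb5) (kb xb4 yb6 zb6) (kb xb4 yb6 zb7) (kb xb15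 yb27 zb9) (kb xb11 yb29 zb52) (kb xb4 yb6 zb4) (kb xb15 yb27 zb11) (kb xb15 yb27 zb6) (kb xb10 yb6 zb9) (kb xb5 yb14 zb35) (kb xb15 yb27 zb14) (kb xb4 yb6 zb10) (kb xb15 yb27 zb19) (kb xb4 yb6 zb11)) (@D3.rec (fun _ => Pt) (kb xb15 yb27 zb24) (kb xb5 yb37 zb3) (kb xb15 yb27 zb26) (kb xb15 yb27 zb28) (kb xb15 yb27 zb30) (kb xb5 yb17 zb22) (kb xb4 yb6 zb15) (kb xb15 yb27 zb38) (kb xb15 yb27 zb39) (kb xb8 yb10 zb61) (kb xb8 yb11 zb16) (kb xb15 yb27 zb42) (kb xb4 yb6 zb25) (kb xb5 yb17 zb0) (kb xb5 yb17 zb13) (kb xb15 yb27 zb47) (kb xb10 yb19 zb29) (kb xb15 yb27 zb52) (kb xb8 yb11 zb8) (kb xb11 yb54 zb45) (kb xb15 yb27 zb56) (kb xb15 yb27 zb59) (kb xb4 yb6 zb24) (kb xb15 yb28 zb3) (kb xb15 yb28 zb4) (kb xb8 yb11 zb14) (kb xb4 yb6 zb47) (kb xb15 yb27 zb44) (kb xb8 yb11 zb0)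 (kb xb15 yb28 zb13) (kb xb4 yb6 zb31) (kb xb15 yb28 zb15) (kb xb8 yb10 zb54) (kb xb4 yb6 zb30) (kb xb15 yb28 zb20) (kb xb15 yb28 zb21) (kb xb4 yb6 zb34) (kb xb15 yb28 zb28) (kb xb4 yb6 zb33) (kb xb15 yb28 zb33) (kb xb15 yb28 zb34) (kb xb8 yb11 zb29) (kb xb4 yb6 zb57) (kb xb15 yb28 zb27) (kb xb4 yb6 zb37) (kb xb4 yb6 zb36) (kb xb15 yb28 zb51) (kb xb15 yb28 zb52) (kb xb8 yb11 zb37) (kb xb15 yb28 zb47) (kb xb4 yb6 zb38) (kb xb15 yb28 zb61) (kb xb15 yb29 zb0) (kb xb4 yb6 zb39) (kb xb15 yb29 zb5) (kb xb15 yb29 zb9) (kb xb15 yb29 zb13) (kb xb15 yb27 zb37) (kb xb4 yb6 zb41) (kb xb4 yb6 zb42) (kb xb15 yb29 zb22) (kb xb6 yb4 zb34)) (@D3.rec (fun _ => Pt) (kb xb15 yb29 zb25) (kb xb15 yb29 zb19) (kb xb15 yb29 zb20) (kb xb15 yb29 zb21) (kb xb10 yb42 zb35) (kb xb11 yb2 zb31) (kb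 xb4 yb6 zb44) (kb xb15 yb29 zb40) (kb xb11 yb40 zb2) (kb xb15 yb27 zb50) (kb xb4 yb6 zb48) (kb xb15 yb29 zb45) (kb xb15 yb29 zb46) (kb xb4 yb6 zb50) (kb xb15 yb29 zb51) (kb xb15 yb29 zb52) (kb xb9 yb30 zb31) (kb xb15 yb29 zb56) (kb xb6 yb7 zb18) (kb xb4 yb6 zb53) (kb xb10 yb44 zb56) (kb xb10 yb44 zb57) (kb xb15 yb30 zb2) (kb xb15 yb30 zb5) (kb xb4 yb6 zb58) (kb xb4 yb6 zb56) (kb xb15 yb30 zb9) (kb xb5 yb0 zb22) (kb xb15 yb30 zb11) (kb xb4 yb6 zb59) (kb xb15 yb27 zb31) (kb xb15 yb30 zb15) (kb xb11 yb54 zb4) (kb xb4 yb6 zb60) (kb xb15 yb30 zb24) (kb xb4 yb41 zb7) (kb xb15 yb30 zb26) (kb xb15 yb30 zb28) (kb xb8 yb12 zb46) (kb xb4 yb7 zb2) (kb xb4 yb7 zb3) (kb xb15 yb30 zb36) (kb xb15 yb30 zb37) (kb xb11 yb25 zb43) (kb xb15 yb30 zb35) (kb xb5 yb7 zb32) (kb xb8 yb12 zb15)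 (kb xb5 yb5 zb12) (kb xb4 yb7 zb9) (kb xb6 yb17 zb5) (kb xb11 yb25 zb32) (kb xb4 yb7 zb16) (kb xb4 yb7 zb28) (kb xb10 yb45 zb50) (kb xb4 yb7 zb22) (kb xb12 yb29 zb10) (kb xb15 yb30 zb45) (kb xb5 yb51 zb39) (kb xb10 yb18 zb51) (kb xb4 yb7 zb26) (kb xb12 yb12 zb0) (kb xb5 yb8 zb8)) (@D3.rec (fun _ => Pt) (kb xb15 yb30 zb47) (kb xb15 yb30 zb49) (kb xb8 yb11 zb5) (kb xb15 yb30 zb53) (kb xb5 yb0 zb48) (kb xb4 yb7 zb33) (kb xb15 yb30 zb57) (kb xb4 yb51 zb16) (kb xb4 yb7 zb35) (kb xb15 yb31 zb3) (kb xb5 yb2 zb47) (kb xb4 yb7 zb37) (kb xb15 yb31 zb9) (kb xb15 yb31 zb10) (kb xb10 yb33 zb10) (kb xb8 yb6 zb38) (kb xb8 yb28 zb45) (kb xb4 yb7 zb39) (kb xb15 yb31 zb22) (kb xb15 yb31 zb23) (kb xb8 yb6 zb53) (kb xb8 yb28 zb51) (kb xb4 yb7 zb41) (kb xb14 yb35 zb32) (kb xb15 yb31 zb32)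 (kb xb4 yb7 zb42) (kb xb15 yb31 zb36) (kb xb15 yb31 zb37) (kb xb15 yb31 zb42) (kb xb15 yb31 zb46) (kb xb8 yb16 zb13) (kb xb4 yb7 zb44) (kb xb4 yb7 zb45) (kb xb15 yb31 zb51) (kb xb15 yb31 zb53) (kb xb15 yb31 zb55) (kb xb7 yb35 zb50) (kb xb15 yb31 zb49) (kb xb15 yb31 zb50) (kb xb15 yb32 zb0) (kb xb5 yb20 zb16) (kb xb4 yb7 zb60) (kb xb4 yb20 zb57) (kb xb4 yb27 zb57) (kb xb4 yb7 zb51) (kb xb15 yb32 zb8) (kb xb4 yb8 zb7) (kb xb15 yb32 zb10) (kb xb9 yb39 zb23) (kb xb4 yb54 zb53) (kb xb4 yb54 zb46) (kb xb9 yb39 zb25) (kb xb4 yb7 zb56) (kb xb15 yb32 zb15) (kb xb15 yb32 zb16) (kb xb9 yb39 zb34) (kb xb4 yb7 zb58) (kb xb15 yb32 zb23) (kb xb15 yb32 zb24) (kb xb10 yb35 zb30) (kb xb5 yb27 zb48) (kb xb4 yb8 zb0)) (@D3.rec (fun _ => Pt) (kb xb15 yb32 zb30) (kb xb13 yb43 zb13) (kb xb15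 yb32 zb3) (kb xb11 yb53 zb27) (kb xb8 yb29 zb18) (kb xb4 yb8 zb2) (kb xb15 yb32 zb41) (kb xb15 yb32 zb42) (kb xb4 yb8 zb3) (kb xb15 yb32 zb49) (kb xb15 yb32 zb50) (kb xb15 yb32 zb55) (kb xb4 yb49 zb11) (kb xb8 yb15 zb30) (kb xb4 yb8 zb5) (kb xb4 yb8 zb6) (kb xb15 yb33 zb4) (kb xb15 yb33 zb6) (kb xb15 yb33 zb8) (kb xb14 yb32 zb3) (kb xb15 yb33 zb2) (kb xb15 yb33 zb3) (kb xb15 yb33 zb15) (kb xb4 yb8 zb14) (kb xb15 yb33 zb19) (kb xb4 yb54 zb51) (kb xb15 yb33 zb23) (kb xb4 yb8 zb13) (kb xb15 yb33 zb27) (kb xb15 yb33 zb28) (kb xb8 yb29 zb39) (kb xb15 yb33 zb18) (kb xb4 yb8 zb15) (kb xb15 yb33 zb39) (kb xb15 yb33 zb40) (kb xb8 yb29 zb44) (kb xb9 yb34 zb54) (kb xb4 yb8 zb19) (kb xb4 yb8 zb18) (kb xb15 yb33 zb49) (kb xb15 yb33 zb50) (kb xb8 yb29 zb51) (kb xb10 yb37 zb42) (kb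 xb4 yb8 zb20) (kb xb15 yb33 zb61) (kb xb15 yb34 zb0) (kb xb8 yb29 zb56) (kb xb14 yb56 zb59) (kb xb4 yb8 zb22) (kb xb15 yb34 zb11) (kb xb15 yb34 zb12) (kb xb4 yb8 zb23) (kb xb13 yb34 zb11) (kb xb15 yb34 zb19) (kb xb15 yb34 zb23) (kb xb15 yb34 zb28) (kb xb4 yb9 zb49) (kb xb4 yb8 zb25) (kb xb4 yb8 zb26) (kb xb15 yb34 zb37) (kb xb15 yb34 zb39) (kb xb15 yb34 zb36)) (@D3.rec (fun _ => Pt) (kb xb9 yb33 zb32) (kb xb15 yb34 zb43) (kb xb4 yb8 zb29) (kb xb15 yb34 zb47) (kb xb15 yb34 zb48) (kb xb8 yb32 zb47) (kb xb14 yb57 zb6) (kb xb4 yb8 zb50) (kb xb8 yb23 zb60) (kb xb4 yb8 zb32) (kb xb15 yb34 zb54) (kb xb4 yb31 zb19) (kb xb4 yb8 zb34) (kb xb15 yb34 zb61) (kb xb15 yb35 zb2) (kb xb5 yb35 zb22) (kb xb5 yb36 zb55) (kb xb4 yb8 zb38) (kb xb15 yb35 zb8) (kb xb15 yb35 zb9) (kb xb15 yb35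 zb13) (kb xb10 yb37 zb33) (kb xb8 yb30 zb16) (kb xb4 yb8 zb40) (kb xb15 yb35 zb17) (kb xb12 yb51 zb27) (kb xb4 yb8 zb42) (kb xb15 yb35 zb21) (kb xb12 yb40 zb2) (kb xb4 yb8 zb43) (kb xb15 yb35 zb26) (kb xb15 yb35 zb27) (kb xb15 yb35 zb28) (kb xb15 yb35 zb32) (kb xb15 yb33 zb26) (kb xb4 yb8 zb45) (kb xb4 yb8 zb46) (kb xb15 yb35 zb46) (kb xb15 yb35 zb48) (kb xb15 yb35 zb41) (kb xb15 yb35 zb54) (kb xb15 yb35 zb56) (kb xb15 yb35 zb44) (kb xb15 yb35 zb45) (kb xb15 yb36 zb2) (kb xb8 yb19 zb17) (kb xb6 yb20 zb55) (kb xb4 yb10 zb35) (kb xb8 yb30 zb41) (kb xb15 yb36 zb12) (kb xb10 yb29 zb19) (kb xb15 yb36 zb15) (kb xb4 yb8 zb51) (kb xb11 yb45 zb29) (kb xb4 yb9 zb61) (kb xb15 yb36 zb22) (kb xb4 yb21 zb19) (kb xb15 yb36 zb25) (kb xb4 yb54 zb33) (kb xb4 yb21 zb30) (kb xb4 yb10 zb12)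 (kb xb4 yb8 zb59)) (@D3.rec (fun _ => Pt) (kb xb15 yb36 zb33) (kb xb15 yb36 zb34) (kb xb4 yb21 zb44) (kb xb4 yb10 zb43) (kb xb4 yb9 zb13) (kb xb15 yb36 zb41) (kb xb4 yb9 zb3) (kb xb4 yb9 zb2) (kb xb15 yb36 zb46) (kb xb4 yb31 zb28) (kb xb15 yb24 zb29) (kb xb14 yb58 zb10) (kb xb15 yb23 zb9) (kb xb15 yb36 zb54) (kb xb15 yb36 zb55) (kb xb15 yb36 zb59) (kb xb15 yb33 zb38) (kb xb4 yb9 zb8) (kb xb4 yb9 zb9) (kb xb15 yb37 zb6) (kb xb15 yb37 zb14) (kb xb15 yb37 zb17) (kb xb15 yb37 zb9) (kb xb15 yb37 zb10) (kb xb9 yb24 zb59) (kb xb15 yb37 zb25) (kb xb4 yb10 zb58) (kb xb5 yb29 zb51) (kb xb15 yb37 zb31) (kb xb15 yb18 zb31) (kb xb4 yb9 zb14) (kb xb15 yb37 zb37) (kb xb4 yb9 zb15) (kb xb15 yb37 zb42) (kb xb15 yb37 zb43) (kb xb8 yb34 zb15) (kb xb12 yb18 zb15) (kb xb4 yb9 zb18) (kb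 xb15 yb17 zb17) (kb xb4 yb9 zb19) (kb xb15 yb37 zb54) (kb xb15 yb37 zb57) (kb xb15 yb33 zb48) (kb xb4 yb9 zb21) (kb xb4 yb9 zb22) (kb xb15 yb38 zb7) (kb xb15 yb38 zb8) (kb xb15 yb38 zb2) (kb xb15 yb38 zb13) (kb xb15 yb38 zb15) (kb xb15 yb38 zb5) (kb xb15 yb38 zb6) (kb xb4 yb12 zb54) (kb xb15 yb38 zb22) (kb xb8 yb31 zb25) (kb xb12 yb15 zb54) (kb xb4 yb11 zb22) (kb xb15 yb38 zb27) (kb xb4 yb21 zb24) (kb xb4 yb9 zb30) (kb xb4 yb55 zb20) (kb xb15 yb38 zb33)) (@D3.rec (fun _ => Pt) (kb xb4 yb21 zb59) (kb xb8 yb34 zb35) (kb xb4 yb9 zb38) (kb xb4 yb9 zb39) (kb xb15 yb38 zb42) (kb xb15 yb38 zb44) (kb xb15 yb33 zb60) (kb xb4 yb9 zb33) (kb xb4 yb9 zb34) (kb xb15 yb38 zb52) (kb xb15 yb38 zb58) (kb xb13 yb0 zb41) (kb xb13 yb35 zb23) (kb xb15 yb38 zb54) (kb xb6 yb28 zb9) (kb xb4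 yb11 zb40) (kb xb15 yb39 zb6) (kb xb8 yb17 zb45) (kb xb15 yb39 zb11) (kb xb15 yb38 zb41) (kb xb15 yb39 zb13) (kb xb15 yb39 zb17) (kb xb15 yb34 zb10) (kb xb6 yb4 zb20) (kb xb4 yb9 zb42) (kb xb4 yb9 zb43) (kb xb15 yb6 zb39) (kb xb15 yb39 zb36) (kb xb15 yb39 zb37) (kb xb15 yb39 zb29) (kb xb15 yb39 zb32) (kb xb15 yb39 zb33) (kb xb15 yb39 zb46) (kb xb15 yb39 zb49) (kb xb15 yb34 zb18) (kb xb4 yb9 zb45) (kb xb4 yb9 zb46) (kb xb15 yb39 zb58) (kb xb15 yb39 zb61) (kb xb15 yb40 zb0) (kb xb15 yb16 zb53) (kb xb15 yb40 zb10) (kb xb4 yb9 zb47) (kb xb15 yb40 zb15) (kb xb15 yb40 zb16) (kb xb4 yb9 zb48) (kb xb15 yb40 zb25) (kb xb15 yb34 zb32) (kb xb15 yb40 zb31) (kb xb15 yb40 zb34) (kb xb15 yb40 zb38) (kb xb4 yb9 zb55) (kb xb4 yb9 zb56) (kb xb4 yb9 zb57) (kb xb4 yb9 zb52) (kb xb15 yb40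 zb45) (kb xb4 yb9 zb53) (kb xb15 yb40 zb52) (kb xb4 yb9 zb54) (kb xb15 yb40 zb59) (kb xb15 yb40 zb61) (kb xb15 yb41 zb1)) (@D3.rec (fun _ => Pt) (kb xb6 yb47 zb8) (kb xb15 yb40 zb40) (kb xb15 yb41 zb7) (kb xb15 yb41 zb11) (kb xb15 yb16 zb50) (kb xb15 yb41 zb14) (kb xb14 yb58 zb7) (kb xb14 yb58 zb8) (kb xb4 yb9 zb59) (kb xb15 yb41 zb22) (kb xb15 yb41 zb20) (kb xb15 yb41 zb21) (kb xb4 yb9 zb60) (kb xb14 yb55 zb57) (kb xb8 yb32 zb44) (kb xb4 yb10 zb0) (kb xb15 yb41 zb37) (kb xb15 yb41 zb38) (kb xb4 yb21 zb35) (kb xb15 yb33 zb17) (kb xb8 yb32 zb49) (kb xb15 yb41 zb47) (kb xb5 yb35 zb13) (kb xb11 yb3 zb28) (kb xb8 yb40 zb18) (kb xb4 yb10 zb6) (kb xb15 yb41 zb56) (kb xb9 yb37 zb40) (kb xb4 yb20 zb48) (kb xb4 yb52 zb50) (kb xb4 yb10 zb11) (kb xb15 yb42 zb2) (kb xb15 yb42 zb3)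 (kb xb8 yb32 zb54) (kb xb15 yb36 zb29) (kb xb4 yb10 zb13) (kb xb15 yb42 zb15) (kb xb15 yb42 zb16) (kb xb8 yb32 zb61) (kb xb9 yb34 zb53) (kb xb4 yb10 zb15) (kb xb15 yb42 zb24) (kb xb15 yb42 zb25) (kb xb4 yb10 zb16) (kb xb15 yb42 zb32) (kb xb15 yb42 zb33) (kb xb15 yb42 zb36) (kb xb15 yb42 zb38) (kb xb15 yb41 zb36) (kb xb4 yb10 zb18) (kb xb4 yb10 zb19) (kb xb15 yb42 zb42) (kb xb15 yb42 zb44) (kb xb15 yb42 zb41) (kb xb15 yb42 zb50) (kb xb15 yb42 zb53) (kb xb12 yb13 zb27) (kb xb6 yb22 zb35) (kb xb4 yb10 zb20) (kb xb15 yb43 zb0) (kb xb15 yb43 zb2) (kb xb14 yb57 zb16)) (@D3.rec (fun _ => Pt) (kb xb7 yb25 zb44) (kb xb12 yb13 zb16) (kb xb8 yb23 zb21) (kb xb4 yb10 zb24) (kb xb7 yb55 zb17) (kb xb4 yb18 zb60) (kb xb6 yb32 zb23) (kb xb15 yb43 zb13) (kb xb15 yb43 zb15) (kb xb12 yb21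 zb47) (kb xb6 yb9 zb42) (kb xb4 yb16 zb43) (kb xb4 yb10 zb37) (kb xb15 yb43 zb22) (kb xb15 yb43 zb23) (kb xb4 yb10 zb39) (kb xb13 yb55 zb46) (kb xb14 yb2 zb32) (kb xb4 yb10 zb44) (kb xb15 yb43 zb30) (kb xb15 yb43 zb31) (kb xb4 yb10 zb45) (kb xb9 yb46 zb27) (kb xb15 yb43 zb35) (kb xb15 yb43 zb39) (kb xb9 yb45 zb54) (kb xb14 yb2 zb21) (kb xb4 yb10 zb47) (kb xb15 yb43 zb42) (kb xb15 yb3 zb32) (kb xb15 yb43 zb45) (kb xb13 yb56 zb21) (kb xb15 yb43 zb51) (kb xb12 yb42 zb11) (kb xb4 yb10 zb49) (kb xb15 yb43 zb57) (kb xb10 yb35 zb24) (kb xb15 yb43 zb61) (kb xb15 yb44 zb4) (kb xb4 yb10 zb61) (kb xb4 yb10 zb52) (kb xb15 yb44 zb10) (kb xb4 yb10 zb54) (kb xb15 yb44 zb12) (kb xb6 yb12 zb25) (kb xb4 yb10 zb57) (kb xb4 yb10 zb59) (kb xb15 yb44 zb15) (kb xb15 yb44 zb16) (kb xb4 yb10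 zb60) (kb xb15 yb44 zb20) (kb xb15 yb44 zb21) (kb xb15 yb44 zb22) (kb xb12 yb10 zb7) (kb xb5 yb28 zb28) (kb xb4 yb11 zb1) (kb xb15 yb44 zb29) (kb xb15 yb44 zb30) (kb xb4 yb21 zb50) (kb xb15 yb33 zb45) (kb xb8 yb34 zb17) (kb xb4 yb11 zb3)) (@D3.rec (fun _ => Pt) (kb xb15 yb44 zb41) (kb xb4 yb11 zb4) (kb xb15 yb44 zb45) (kb xb15 yb44 zb47) (kb xb15 yb44 zb28) (kb xb4 yb11 zb6) (kb xb4 yb11 zb7) (kb xb15 yb44 zb54) (kb xb15 yb44 zb56) (kb xb15 yb44 zb52) (kb xb15 yb45 zb0) (kb xb15 yb45 zb4) (kb xb15 yb44 zb53) (kb xb6 yb35 zb25) (kb xb4 yb11 zb8) (kb xb15 yb45 zb14) (kb xb15 yb45 zb12) (kb xb8 yb31 zb34) (kb xb15 yb45 zb18) (kb xb14 yb57 zb29) (kb xb15 yb45 zb22) (kb xb15 yb45 zb24) (kb xb9 yb32 zb46) (kb xb4 yb11 zb13) (kb xb15 yb45 zb27) (kb xb4 yb45 zb31) (kb xb12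 yb13 zb60) (kb xb4 yb11 zb21) (kb xb15 yb45 zb29) (kb xb4 yb11 zb23) (kb xb15 yb45 zb32) (kb xb4 yb11 zb24) (kb xb7 yb25 zb23) (kb xb15 yb45 zb36) (kb xb14 yb56 zb58) (kb xb8 yb34 zb55) (kb xb4 yb11 zb26) (kb xb4 yb11 zb27) (kb xb15 yb45 zb48) (kb xb15 yb45 zb50) (kb xb15 yb45 zb51) (kb xb13 yb54 zb13) (kb xb4 yb11 zb29) (kb xb15 yb45 zb56) (kb xb11 yb26 zb53) (kb xb15 yb45 zb57) (kb xb15 yb45 zb55) (kb xb15 yb46 zb1) (kb xb15 yb46 zb3) (kb xb12 yb13 zb22) (kb xb6 yb27 zb55) (kb xb12 yb20 zb27) (kb xb12 yb20 zb30) (kb xb4 yb11 zb32) (kb xb15 yb46 zb11) (kb xb15 yb46 zb14) (kb xb15 yb39 zb23) (kb xb12 yb59 zb40) (kb xb9 yb15 zb47) (kb xb4 yb11 zb42) (kb xb15 yb46 zb19) (kb xb15 yb46 zb18)) (@D3.rec (fun _ => Pt) (kb xb4 yb11 zb43) (kb xb15 yb46 zb21) (kb xb15 yb46 zb22)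 (kb xb15 yb38 zb45) (kb xb15 yb46 zb23) (kb xb4 yb53 zb20) (kb xb8 yb23 zb34) (kb xb4 yb11 zb47) (kb xb15 yb37 zb51) (kb xb12 yb16 zb29) (kb xb6 yb59 zb8) (kb xb8 yb35 zb43) (kb xb12 yb13 zb9) (kb xb15 yb46 zb29) (kb xb4 yb11 zb50) (kb xb15 yb46 zb31) (kb xb15 yb33 zb47) (kb xb4 yb11 zb49) (kb xb15 yb46 zb37) (kb xb15 yb46 zb38) (kb xb15 yb46 zb39) (kb xb8 yb21 zb2) (kb xb15 yb46 zb48) (kb xb6 yb50 zb13) (kb xb6 yb50 zb59) (kb xb7 yb31 zb11) (kb xb6 yb27 zb35) (kb xb8 yb35 zb32) (kb xb15 yb46 zb51) (kb xb4 yb11 zb54) (kb xb15 yb46 zb53) (kb xb15 yb46 zb54) (kb xb15 yb46 zb58) (kb xb15 yb46 zb60) (kb xb8 yb23 zb6) (kb xb15 yb47 zb1) (kb xb4 yb11 zb59) (kb xb15 yb47 zb3) (kb xb6 yb21 zb23) (kb xb15 yb47 zb5) (kb xb15 yb47 zb7) (kb xb4 yb16 zb37) (kb xb4 yb16 zb38) (kb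 xb12 yb19 zb27) (kb xb12 yb16 zb32) (kb xb13 yb52 zb23) (kb xb15 yb47 zb20) (kb xb4 yb42 zb23) (kb xb15 yb47 zb24) (kb xb4 yb12 zb5) (kb xb4 yb12 zb6) (kb xb4 yb12 zb4) (kb xb12 yb3 zb16) (kb xb9 yb29 zb42) (kb xb6 yb24 zb10) (kb xb5 yb1 zb19) (kb xb5 yb22 zb42) (kb xb15 yb47 zb29) (kb xb10 yb5 zb8) (kb xb4 yb12 zb13) (kb xb8 yb17 zb8) (kb xb4 yb12 zb12)) (@D3.rec (fun _ => Pt) (kb xb15 yb47 zb39) (kb xb15 yb47 zb40) (kb xb8 yb35 zb59) (kb xb4 yb12 zb14) (kb xb15 yb47 zb50) (kb xb6 yb23 zb36) (kb xb9 yb34 zb7) (kb xb14 yb58 zb12) (kb xb8 yb36 zb2) (kb xb4 yb12 zb20) (kb xb4 yb12 zb19) (kb xb15 yb47 zb59) (kb xb15 yb47 zb60) (kb xb8 yb36 zb7) (kb xb4 yb12 zb40) (kb xb15 yb47 zb55) (kb xb15 yb48 zb8) (kb xb4 yb12 zb23) (kb xb4 yb12 zb22) (kb xb15 yb48 zb9) (kb xb12 yb58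 zb19) (kb xb8 yb36 zb12) (kb xb5 yb29 zb40) (kb xb4 yb12 zb24) (kb xb15 yb48 zb18) (kb xb15 yb48 zb19) (kb xb4 yb12 zb25) (kb xb15 yb48 zb25) (kb xb15 yb48 zb26) (kb xb15 yb36 zb60) (kb xb15 yb48 zb28) (kb xb4 yb12 zb27) (kb xb15 yb48 zb30) (kb xb15 yb48 zb32) (kb xb15 yb48 zb34) (kb xb4 yb42 zb14) (kb xb15 yb48 zb39) (kb xb15 yb48 zb40) (kb xb4 yb12 zb29) (kb xb15 yb48 zb44) (kb xb15 yb48 zb42) (kb xb4 yb12 zb30) (kb xb6 yb9 zb45) (kb xb10 yb7 zb24) (kb xb15 yb48 zb49) (kb xb5 yb15 zb16) (kb xb4 yb12 zb35) (kb xb15 yb48 zb55) (kb xb15 yb48 zb56) (kb xb15 yb36 zb50) (kb xb15 yb49 zb2) (kb xb4 yb12 zb41) (kb xb5 yb39 zb56) (kb xb4 yb12 zb38) (kb xb6 yb11 zb41) (kb xb6 yb11 zb34) (kb xb12 yb12 zb1) (kb xb4 yb12 zb39) (kb xb4 yb12 zb42) (kb xb13 yb1 zb26) (kb xb4 yb12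 zb45) (kb xb12 yb4 zb14)) (@D3.rec (fun _ => Pt) (kb xb4 yb12 zb46) (kb xb4 yb12 zb47) (kb xb11 yb59 zb43) (kb xb6 yb48 zb2) (kb xb4 yb12 zb52) (kb xb6 yb48 zb3) (kb xb4 yb12 zb57) (kb xb4 yb12 zb56) (kb xb15 yb49 zb11) (kb xb15 yb49 zb12) (kb xb4 yb12 zb58) (kb xb12 yb54 zb25) (kb xb12 yb54 zb27) (kb xb4 yb13 zb2) (kb xb15 yb49 zb19) (kb xb4 yb13 zb1) (kb xb8 yb59 zb26) (kb xb15 yb49 zb23) (kb xb4 yb13 zb5) (kb xb4 yb13 zb4) (kb xb12 yb34 zb12) (kb xb6 yb38 zb34) (kb xb8 yb37 zb18) (kb xb15 yb49 zb28) (kb xb4 yb13 zb6) (kb xb15 yb49 zb38) (kb xb15 yb49 zb39) (kb xb4 yb13 zb7) (kb xb5 yb44 zb0) (kb xb15 yb49 zb42) (kb xb15 yb49 zb45) (kb xb15 yb49 zb46) (kb xb15 yb49 zb17) (kb xb4 yb13 zb9) (kb xb11 yb17 zb36) (kb xb15 yb49 zb48) (kb xb11 yb12 zb37) (kb xb6 yb34 zb39)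 (kb xb6 yb48 zb1) (kb xb6 yb3 zb20) (kb xb4 yb13 zb11) (kb xb15 yb49 zb54) (kb xb4 yb13 zb16) (kb xb4 yb13 zb17) (kb xb15 yb49 zb57) (kb xb12 yb32 zb25) (kb xb4 yb13 zb25) (kb xb15 yb50 zb0) (kb xb15 yb50 zb2) (kb xb10 yb58 zb48) (kb xb4 yb14 zb48) (kb xb5 yb54 zb57) (kb xb8 yb10 zb31) (kb xb4 yb13 zb28) (kb xb15 yb50 zb6) (kb xb8 yb5 zb5) (kb xb10 yb4 zb8) (kb xb10 yb16 zb13) (kb xb8 yb10 zb35) (kb xb15 yb7 zb55) (kb xb10 yb16 zb14) (kb xb15 yb50 zb20)) (@D3.rec (fun _ => Pt) (kb xb4 yb13 zb34) (kb xb4 yb13 zb35) (kb xb4 yb13 zb33) (kb xb15 yb50 zb31) (kb xb15 yb50 zb33) (kb xb15 yb50 zb35) (kb xb15 yb50 zb26) (kb xb15 yb50 zb27) (kb xb4 yb20 zb19) (kb xb15 yb50 zb40) (kb xb9 yb39 zb30) (kb xb9 yb39 zb31) (kb xb4 yb13 zb40) (kb xb15 yb50 zb49) (kb xb4 yb54 zb29) (kb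 xb4 yb13 zb48) (kb xb15 yb50 zb52) (kb xb9 yb40 zb2) (kb xb9 yb40 zb3) (kb xb4 yb13 zb47) (kb xb15 yb50 zb59) (kb xb15 yb50 zb51) (kb xb8 yb39 zb52) (kb xb8 yb54 zb54) (kb xb4 yb13 zb52) (kb xb15 yb51 zb5) (kb xb9 yb41 zb6) (kb xb8 yb10 zb56) (kb xb9 yb41 zb11) (kb xb4 yb13 zb56) (kb xb15 yb51 zb15) (kb xb4 yb14 zb26) (kb xb15 yb51 zb17) (kb xb7 yb57 zb52) (kb xb9 yb41 zb7) (kb xb4 yb13 zb61) (kb xb13 yb36 zb51) (kb xb6 yb56 zb28) (kb xb9 yb41 zb10) (kb xb4 yb14 zb30) (kb xb9 yb0 zb3) (kb xb4 yb14 zb7) (kb xb15 yb51 zb28) (kb xb4 yb50 zb52) (kb xb4 yb14 zb6) (kb xb15 yb51 zb32) (kb xb15 yb51 zb33) (kb xb9 yb41 zb51) (kb xb15 yb51 zb27) (kb xb4 yb14 zb9) (kb xb15 yb51 zb37) (kb xb13 yb46 zb0) (kb xb9 yb4 zb4) (kb xb4 yb14 zb39) (kb xb5 yb2 zb8) (kb xb9 yb40 zb46) (kb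 xb4 yb14 zb13) (kb xb4 yb14 zb12) (kb xb15 yb51 zb47) (kb xb15 yb51 zb48) (kb xb4 yb14 zb43) (kb xb10 yb41 zb3)) (@D3.rec (fun _ => Pt) (kb xb9 yb33 zb15) (kb xb15 yb51 zb44) (kb xb4 yb14 zb14) (kb xb15 yb51 zb61) (kb xb15 yb52 zb0) (kb xb15 yb52 zb6) (kb xb15 yb52 zb11) (kb xb15 yb51 zb4) (kb xb4 yb14 zb16) (kb xb4 yb14 zb17) (kb xb15 yb52 zb20) (kb xb15 yb52 zb21) (kb xb15 yb52 zb18) (kb xb15 yb52 zb19) (kb xb10 yb38 zb22) (kb xb8 yb11 zb52) (kb xb15 yb47 zb35) (kb xb4 yb14 zb19) (kb xb15 yb52 zb35) (kb xb14 yb50 zb42) (kb xb14 yb38 zb58) (kb xb10 yb19 zb61) (kb xb8 yb37 zb47) (kb xb4 yb14 zb21) (kb xb15 yb52 zb45) (kb xb15 yb52 zb46) (kb xb15 yb28 zb25) (kb xb15 yb51 zb9) (kb xb8 yb37 zb52) (kb xb15 yb52 zb55) (kb xb15 yb52 zb60) (kb xb9 yb33 zb36) (kb xb4 yb14 zb24)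 (kb xb4 yb14 zb25) (kb xb12 yb39 zb29) (kb xb15 yb53 zb5) (kb xb15 yb53 zb10) (kb xb15 yb53 zb13) (kb xb8 yb9 zb47) (kb xb15 yb53 zb16) (kb xb15 yb53 zb18) (kb xb13 yb36 zb21) (kb xb14 yb49 zb17) (kb xb4 yb14 zb29) (kb xb15 yb51 zb25) (kb xb15 yb53 zb25) (kb xb15 yb28 zb46) (kb xb7 yb15 zb7) (kb xb9 yb33 zb27) (kb xb4 yb14 zb33) (kb xb7 yb29 zb49) (kb xb4 yb14 zb34) (kb xb15 yb53 zb33) (kb xb15 yb53 zb34) (kb xb9 yb42 zb2) (kb xb15 yb53 zb41) (kb xb4 yb14 zb41) (kb xb15 yb53 zb44) (kb xb15 yb53 zb47) (kb xb8 yb8 zb56) (kb xb4 yb14 zb37) (kb xb15 yb53 zb54)) (@D3.rec (fun _ => Pt) (kb xb15 yb53 zb56) (kb xb15 yb53 zb52) (kb xb15 yb53 zb53) (kb xb4 yb14 zb38) (kb xb8 yb44 zb46) (kb xb15 yb51 zb41) (kb xb15 yb51 zb42) (kb xb15 yb30 zb56) (kb xb15 yb54 zb2) (kb xb8 yb4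 zb6) (kb xb15 yb54 zb5) (kb xb15 yb54 zb8) (kb xb10 yb59 zb10) (kb xb10 yb59 zb11) (kb xb15 yb51 zb53) (kb xb4 yb14 zb44) (kb xb8 yb28 zb27) (kb xb15 yb54 zb15) (kb xb4 yb14 zb46) (kb xb15 yb54 zb21) (kb xb15 yb54 zb18) (kb xb15 yb54 zb19) (kb xb15 yb15 zb46) (kb xb4 yb14 zb47) (kb xb10 yb45 zb55) (kb xb15 yb54 zb34) (kb xb15 yb54 zb35) (kb xb8 yb28 zb16) (kb xb15 yb54 zb44) (kb xb15 yb54 zb47) (kb xb4 yb14 zb51) (kb xb4 yb14 zb52) (kb xb15 yb38 zb23) (kb xb15 yb54 zb56) (kb xb15 yb54 zb51) (kb xb15 yb54 zb54) (kb xb11 yb2 zb43) (kb xb11 yb2 zb44) (kb xb5 yb36 zb27) (kb xb4 yb52 zb17) (kb xb4 yb14 zb55) (kb xb15 yb55 zb5) (kb xb15 yb55 zb6) (kb xb11 yb52 zb42) (kb xb8 yb38 zb5) (kb xb8 yb15 zb16) (kb xb4 yb14 zb57) (kb xb15 yb55 zb17) (kb xb15 yb55 zb18) (kb xb11 yb53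 zb12) (kb xb8 yb39 zb13) (kb xb8 yb15 zb21) (kb xb4 yb14 zb59) (kb xb15 yb55 zb30) (kb xb15 yb55 zb31) (kb xb4 yb14 zb60) (kb xb15 yb55 zb38) (kb xb15 yb55 zb39) (kb xb15 yb55 zb45) (kb xb13 yb44 zb17) (kb xb8 yb29 zb27) (kb xb4 yb15 zb0)) (@D3.rec (fun _ => Pt) (kb xb4 yb15 zb1) (kb xb15 yb55 zb58) (kb xb15 yb55 zb60) (kb xb15 yb55 zb61) (kb xb15 yb55 zb56) (kb xb15 yb55 zb57) (kb xb5 yb29 zb20) (kb xb8 yb2 zb48) (kb xb4 yb15 zb5) (kb xb15 yb56 zb9) (kb xb4 yb15 zb18) (kb xb4 yb15 zb7) (kb xb15 yb56 zb13) (kb xb15 yb56 zb14) (kb xb4 yb15 zb11) (kb xb13 yb17 zb18) (kb xb7 yb15 zb32) (kb xb10 yb35 zb13) (kb xb8 yb16 zb4) (kb xb4 yb15 zb13) (kb xb15 yb56 zb22) (kb xb15 yb56 zb23) (kb xb4 yb15 zb14) (kb xb11 yb45 zb45) (kb xb7 yb16 zb30) (kb xb15 yb56 zb31) (kb xb11 yb33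 zb12) (kb xb8 yb28 zb60) (kb xb4 yb15 zb16) (kb xb4 yb15 zb17) (kb xb15 yb56 zb40) (kb xb15 yb56 zb42) (kb xb11 yb50 zb16) (kb xb15 yb56 zb39) (kb xb4 yb15 zb23) (kb xb15 yb56 zb48) (kb xb4 yb15 zb22) (kb xb15 yb56 zb52) (kb xb15 yb56 zb53) (kb xb8 yb16 zb30) (kb xb15 yb56 zb47) (kb xb4 yb15 zb24) (kb xb15 yb56 zb61) (kb xb15 yb57 zb0) (kb xb8 yb16 zb35) (kb xb7 yb55 zb42) (kb xb4 yb15 zb28) (kb xb15 yb57 zb7) (kb xb4 yb15 zb27) (kb xb15 yb57 zb12) (kb xb15 yb57 zb13) (kb xb8 yb16 zb41) (kb xb15 yb57 zb6) (kb xb4 yb15 zb29) (kb xb15 yb57 zb21) (kb xb15 yb57 zb22) (kb xb8 yb16 zb46) (kb xb7 yb55 zb50) (kb xb4 yb15 zb31) (kb xb15 yb57 zb32) (kb xb15 yb57 zb33) (kb xb4 yb15 zb32)) (@D3.rec (fun _ => Pt) (kb xb15 yb57 zb37) (kb xb15 yb57 zb38) (kb xb15 yb57 zb43) (kb xb15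 yb57 zb48) (kb xb4 yb16 zb31) (kb xb4 yb15 zb34) (kb xb4 yb15 zb35) (kb xb15 yb57 zb57) (kb xb15 yb57 zb59) (kb xb15 yb57 zb56) (kb xb8 yb6 zb50) (kb xb4 yb15 zb37) (kb xb15 yb58 zb5) (kb xb15 yb54 zb60) (kb xb10 yb37 zb45) (kb xb8 yb36 zb57) (kb xb8 yb17 zb22) (kb xb4 yb15 zb39) (kb xb15 yb58 zb13) (kb xb15 yb58 zb14) (kb xb4 yb15 zb41) (kb xb15 yb58 zb20) (kb xb15 yb58 zb21) (kb xb4 yb15 zb42) (kb xb15 yb58 zb26) (kb xb15 yb58 zb27) (kb xb15 yb58 zb30) (kb xb15 yb58 zb34) (kb xb15 yb56 zb51) (kb xb4 yb15 zb44) (kb xb4 yb15 zb45) (kb xb15 yb58 zb48) (kb xb15 yb58 zb50) (kb xb15 yb58 zb43) (kb xb12 yb59 zb21) (kb xb15 yb58 zb52) (kb xb15 yb58 zb46) (kb xb15 yb58 zb47) (kb xb15 yb58 zb57) (kb xb6 yb48 zb16) (kb xb4 yb17 zb11) (kb xb8 yb17 zb48) (kb xb6 yb52 zb41) (kb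 xb8 yb5 zb31) (kb xb4 yb15 zb50) (kb xb13 yb35 zb49) (kb xb5 yb29 zb22) (kb xb7 yb55 zb41) (kb xb4 yb15 zb54) (kb xb15 yb59 zb3) (kb xb15 yb59 zb4) (kb xb8 yb40 zb17) (kb xb4 yb17 zb19) (kb xb4 yb16 zb2) (kb xb4 yb15 zb57) (kb xb7 yb38 zb37) (kb xb15 yb18 zb28) (kb xb5 yb29 zb29) (kb xb15 yb59 zb10) (kb xb12 yb59 zb18) (kb xb15 yb56 zb60) (kb xb4 yb15 zb60)) (@D3.rec (fun _ => Pt) (kb xb4 yb15 zb61) (kb xb15 yb59 zb22) (kb xb15 yb59 zb28) (kb xb12 yb52 zb60) (kb xb15 yb59 zb24) (kb xb15 yb59 zb25) (kb xb6 yb43 zb47) (kb xb4 yb17 zb4) (kb xb15 yb59 zb32) (kb xb4 yb16 zb3) (kb xb15 yb59 zb36) (kb xb4 yb16 zb4) (kb xb15 yb59 zb40) (kb xb15 yb59 zb43) (kb xb15 yb57 zb11) (kb xb4 yb16 zb6) (kb xb4 yb16 zb7) (kb xb15 yb59 zb55) (kb xb15 yb59 zb57) (kb xb15 yb59 zb50) (kb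 xb15 yb59 zb61) (kb xb16 yb0 zb1) (kb xb15 yb59 zb53) (kb xb15 yb59 zb54) (kb xb16 yb0 zb3) (kb xb8 yb18 zb54) (kb xb9 yb24 zb23) (kb xb4 yb17 zb58) (kb xb4 yb17 zb59) (kb xb14 yb29 zb23) (kb xb4 yb16 zb12) (kb xb16 yb0 zb10) (kb xb16 yb0 zb11) (kb xb8 yb40 zb23) (kb xb8 yb22 zb17) (kb xb4 yb16 zb20) (kb xb16 yb0 zb16) (kb xb12 yb59 zb50) (kb xb15 yb57 zb20) (kb xb4 yb16 zb15) (kb xb4 yb16 zb16) (kb xb16 yb0 zb23) (kb xb16 yb0 zb29) (kb xb16 yb0 zb33) (kb xb16 yb0 zb24) (kb xb9 yb28 zb20) (kb xb6 yb20 zb59) (kb xb4 yb18 zb13) (kb xb16 yb0 zb39) (kb xb16 yb0 zb43) (kb xb10 yb27 zb55) (kb xb16 yb0 zb46) (kb xb16 yb0 zb50) (kb xb15 yb57 zb31) (kb xb5 yb21 zb15) (kb xb4 yb16 zb23) (kb xb4 yb16 zb24) (kb xb4 yb16 zb22) (kb xb16 yb1 zb6) (kb xb16 yb1 zb9) (kb xb16 yb1 zb1)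 (kb xb16 yb1 zb4)) (@D3.rec (fun _ => Pt) (kb xb16 yb1 zb5) (kb xb16 yb1 zb12) (kb xb16 yb1 zb15) (kb xb15 yb57 zb36) (kb xb4 yb50 zb56) (kb xb4 yb16 zb27) (kb xb4 yb16 zb28) (kb xb4 yb50 zb57) (kb xb16 yb1 zb28) (kb xb16 yb1 zb31) (kb xb16 yb1 zb32) (kb xb4 yb16 zb29) (kb xb6 yb12 zb58) (kb xb4 yb16 zb30) (kb xb16 yb1 zb46) (kb xb15 yb57 zb52) (kb xb16 yb1 zb48) (kb xb16 yb1 zb50) (kb xb16 yb1 zb55) (kb xb4 yb16 zb36) (kb xb4 yb16 zb33) (kb xb16 yb1 zb58) (kb xb4 yb16 zb34) (kb xb11 yb32 zb14) (kb xb4 yb16 zb35) (kb xb16 yb2 zb3) (kb xb16 yb2 zb8) (kb xb16 yb2 zb12) (kb xb12 yb57 zb18) (kb xb15 yb47 zb12) (kb xb16 yb2 zb19) (kb xb16 yb2 zb21) (kb xb15 yb47 zb15) (kb xb16 yb2 zb25) (kb xb8 yb42 zb28) (kb xb8 yb42 zb29) (kb xb4 yb16 zb40) (kb xb16 yb2 zb31) (kb xb16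 yb2 zb29) (kb xb16 yb2 zb30) (kb xb4 yb21 zb28) (kb xb4 yb16 zb42) (kb xb5 yb43 zb45) (kb xb16 yb2 zb36) (kb xb8 yb20 zb14) (kb xb4 yb16 zb44) (kb xb16 yb2 zb43) (kb xb8 yb17 zb5) (kb xb15 yb56 zb46) (kb xb8 yb20 zb20) (kb xb16 yb2 zb47) (kb xb4 yb16 zb46) (kb xb5 yb44 zb11) (kb xb16 yb2 zb49) (kb xb8 yb20 zb33) (kb xb4 yb17 zb3) (kb xb10 yb37 zb47) (kb xb16 yb2 zb57) (kb xb4 yb16 zb49) (kb xb14 yb7 zb54) (kb xb14 yb49 zb46) (kb xb8 yb20 zb38)) (@D3.rec (fun _ => Pt) (kb xb7 yb55 zb40) (kb xb4 yb16 zb51) (kb xb15 yb45 zb8) (kb xb4 yb16 zb52) (kb xb16 yb3 zb8) (kb xb16 yb3 zb9) (kb xb7 yb25 zb60) (kb xb13 yb54 zb17) (kb xb4 yb16 zb54) (kb xb16 yb3 zb14) (kb xb16 yb3 zb16) (kb xb16 yb3 zb13) (kb xb16 yb3 zb22) (kb xb16 yb3 zb24) (kb xb6 yb41 zb35) (kb xb4 yb16 zb56) (kb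 xb16 yb3 zb31) (kb xb15 yb38 zb39) (kb xb4 yb16 zb57) (kb xb13 yb15 zb60) (kb xb8 yb4 zb39) (kb xb16 yb3 zb36) (kb xb4 yb16 zb61) (kb xb12 yb15 zb50) (kb xb16 yb3 zb44) (kb xb15 yb18 zb41) (kb xb5 yb30 zb59) (kb xb4 yb17 zb2) (kb xb4 yb17 zb6) (kb xb16 yb3 zb48) (kb xb16 yb3 zb51) (kb xb4 yb17 zb8) (kb xb16 yb3 zb54) (kb xb6 yb43 zb17) (kb xb9 yb15 zb56) (kb xb4 yb17 zb12) (kb xb16 yb4 zb0) (kb xb16 yb4 zb1) (kb xb4 yb17 zb14) (kb xb16 yb4 zb5) (kb xb7 yb25 zb31) (kb xb16 yb4 zb8) (kb xb16 yb4 zb10) (kb xb4 yb17 zb18) (kb xb16 yb4 zb13) (kb xb16 yb4 zb14) (kb xb4 yb17 zb20) (kb xb16 yb4 zb21) (kb xb16 yb4 zb22) (kb xb5 yb23 zb54) (kb xb8 yb36 zb59) (kb xb4 yb17 zb22) (kb xb16 yb4 zb33) (kb xb4 yb17 zb23) (kb xb16 yb4 zb38) (kb xb16 yb4 zb41) (kb xb16 yb4 zb42) (kb xb13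 yb54 zb22) (kb xb4 yb17 zb25) (kb xb4 yb17 zb26) (kb xb16 yb4 zb43) (kb xb16 yb4 zb45)) (@D3.rec (fun _ => Pt) (kb xb16 yb4 zb47) (kb xb14 yb48 zb29) (kb xb16 yb4 zb53) (kb xb14 yb1 zb0) (kb xb6 yb41 zb20) (kb xb4 yb17 zb27) (kb xb7 yb49 zb51) (kb xb16 yb4 zb59) (kb xb4 yb17 zb31) (kb xb16 yb5 zb0) (kb xb4 yb47 zb58) (kb xb4 yb17 zb36) (kb xb4 yb17 zb37) (kb xb7 yb21 zb15) (kb xb16 yb5 zb4) (kb xb8 yb18 zb35) (kb xb15 yb57 zb5) (kb xb8 yb21 zb60) (kb xb4 yb17 zb39) (kb xb16 yb5 zb15) (kb xb4 yb17 zb40) (kb xb16 yb5 zb20) (kb xb9 yb45 zb27) (kb xb14 yb2 zb19) (kb xb4 yb17 zb42) (kb xb4 yb17 zb43) (kb xb16 yb5 zb24) (kb xb16 yb5 zb22) (kb xb16 yb5 zb29) (kb xb16 yb5 zb32) (kb xb16 yb5 zb23) (kb xb12 yb27 zb8) (kb xb4 yb17 zb44) (kb xb16 yb5 zb40) (kb xb16 yb5 zb38) (kb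 xb8 yb19 zb1) (kb xb4 yb17 zb45) (kb xb16 yb5 zb46) (kb xb15 yb9 zb40) (kb xb16 yb5 zb45) (kb xb16 yb5 zb51) (kb xb6 yb47 zb50) (kb xb4 yb17 zb48) (kb xb16 yb5 zb54) (kb xb6 yb30 zb61) (kb xb16 yb5 zb55) (kb xb9 yb28 zb53) (kb xb4 yb17 zb56) (kb xb16 yb5 zb58) (kb xb4 yb17 zb57) (kb xb16 yb5 zb59) (kb xb4 yb17 zb60) (kb xb16 yb6 zb1) (kb xb16 yb6 zb2) (kb xb7 yb55 zb48) (kb xb8 yb22 zb35) (kb xb4 yb18 zb0) (kb xb4 yb18 zb1) (kb xb16 yb6 zb14) (kb xb16 yb6 zb16) (kb xb16 yb6 zb17) (kb xb16 yb6 zb0)) (@D3.rec (fun _ => Pt) (kb xb4 yb18 zb3) (kb xb16 yb6 zb21) (kb xb14 yb39 zb15) (kb xb16 yb6 zb27) (kb xb16 yb6 zb29) (kb xb6 yb41 zb36) (kb xb6 yb9 zb55) (kb xb4 yb18 zb5) (kb xb14 yb54 zb26) (kb xb16 yb6 zb34) (kb xb16 yb6 zb37) (kb xb16 yb6 zb39) (kb xb4 yb18 zb9) (kb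 xb16 yb0 zb56) (kb xb16 yb6 zb40) (kb xb4 yb48 zb22) (kb xb6 yb19 zb15) (kb xb4 yb18 zb15) (kb xb11 yb18 zb12) (kb xb16 yb6 zb44) (kb xb4 yb18 zb16) (kb xb16 yb6 zb47) (kb xb4 yb52 zb10) (kb xb4 yb18 zb19) (kb xb11 yb19 zb33) (kb xb4 yb18 zb20) (kb xb16 yb6 zb50) (kb xb16 yb6 zb49) (kb xb12 yb59 zb56) (kb xb16 yb6 zb52) (kb xb16 yb6 zb53) (kb xb4 yb52 zb22) (kb xb8 yb23 zb27) (kb xb12 yb27 zb6) (kb xb16 yb6 zb54) (kb xb4 yb18 zb25) (kb xb16 yb6 zb56) (kb xb15 yb57 zb10) (kb xb4 yb18 zb24) (kb xb16 yb7 zb0) (kb xb12 yb30 zb0) (kb xb6 yb21 zb61) (kb xb7 yb20 zb10) (kb xb8 yb23 zb11) (kb xb16 yb7 zb2) (kb xb4 yb18 zb28) (kb xb16 yb7 zb4) (kb xb15 yb35 zb23) (kb xb6 yb9 zb35) (kb xb16 yb7 zb7) (kb xb4 yb18 zb33) (kb xb4 yb18 zb34) (kb xb4 yb18 zb32) (kb xb6 yb33 zb48) (kb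 xb4 yb18 zb38) (kb xb8 yb56 zb22) (kb xb4 yb18 zb37) (kb xb16 yb7 zb12) (kb xb16 yb7 zb13) (kb xb8 yb24 zb2) (kb xb4 yb18 zb39) (kb xb12 yb20 zb36)) (@D3.rec (fun _ => Pt) (kb xb8 yb42 zb36) (kb xb15 yb42 zb54) (kb xb8 yb24 zb8) (kb xb4 yb18 zb44) (kb xb4 yb18 zb43) (kb xb5 yb44 zb38) (kb xb16 yb7 zb29) (kb xb8 yb24 zb13) (kb xb16 yb7 zb25) (kb xb4 yb18 zb45) (kb xb16 yb7 zb35) (kb xb6 yb44 zb3) (kb xb8 yb24 zb21) (kb xb10 yb50 zb23) (kb xb4 yb18 zb47) (kb xb11 yb18 zb52) (kb xb16 yb7 zb41) (kb xb7 yb49 zb50) (kb xb15 yb59 zb14) (kb xb4 yb18 zb50) (kb xb16 yb7 zb44) (kb xb5 yb43 zb33) (kb xb10 yb12 zb11) (kb xb16 yb7 zb48) (kb xb16 yb7 zb49) (kb xb5 yb3 zb59) (kb xb4 yb18 zb52) (kb xb16 yb7 zb56) (kb xb15 yb11 zb3) (kb xb4 yb18 zb53) (kb xb16 yb7 zb61) (kb xb9 yb52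 zb24) (kb xb16 yb7 zb60) (kb xb8 yb6 zb3) (kb xb15 yb43 zb10) (kb xb9 yb29 zb32) (kb xb5 yb44 zb35) (kb xb6 yb9 zb20) (kb xb16 yb7 zb54) (kb xb7 yb56 zb10) (kb xb12 yb13 zb48) (kb xb4 yb19 zb3) (kb xb6 yb4 zb55) (kb xb10 yb15 zb38) (kb xb8 yb53 zb24) (kb xb15 yb41 zb51) (kb xb8 yb55 zb46) (kb xb16 yb8 zb10) (kb xb16 yb8 zb13) (kb xb8 yb7 zb58) (kb xb4 yb19 zb12) (kb xb16 yb8 zb19) (kb xb16 yb8 zb20) (kb xb4 yb19 zb13) (kb xb8 yb40 zb1) (kb xb16 yb8 zb25) (kb xb12 yb43 zb37) (kb xb8 yb30 zb15) (kb xb16 yb8 zb27) (kb xb8 yb33 zb50) (kb xb4 yb19 zb18) (kb xb5 yb1 zb26)) (@D3.rec (fun _ => Pt) (kb xb4 yb19 zb20) (kb xb16 yb8 zb35) (kb xb16 yb8 zb34) (kb xb4 yb31 zb17) (kb xb4 yb19 zb22) (kb xb16 yb8 zb42) (kb xb12 yb42 zb46) (kb xb4 yb19 zb24) (kb xb16 yb8 zb44) (kb xb12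 yb26 zb11) (kb xb4 yb19 zb29) (kb xb4 yb19 zb28) (kb xb16 yb8 zb51) (kb xb16 yb8 zb52) (kb xb4 yb19 zb32) (kb xb4 yb19 zb31) (kb xb16 yb8 zb60) (kb xb16 yb8 zb61) (kb xb8 yb25 zb22) (kb xb10 yb50 zb38) (kb xb4 yb19 zb33) (kb xb16 yb9 zb9) (kb xb7 yb31 zb51) (kb xb4 yb19 zb34) (kb xb16 yb9 zb14) (kb xb16 yb9 zb15) (kb xb4 yb19 zb36) (kb xb16 yb9 zb17) (kb xb16 yb9 zb22) (kb xb9 yb20 zb31) (kb xb4 yb19 zb38) (kb xb16 yb9 zb27) (kb xb16 yb9 zb29) (kb xb15 yb34 zb56) (kb xb10 yb48 zb49) (kb xb4 yb19 zb48) (kb xb10 yb48 zb48) (kb xb10 yb50 zb22) (kb xb4 yb56 zb49) (kb xb12 yb50 zb4) (kb xb4 yb19 zb46) (kb xb4 yb19 zb52) (kb xb9 yb44 zb33) (kb xb4 yb19 zb54) (kb xb7 yb52 zb10) (kb xb15 yb24 zb32) (kb xb10 yb24 zb7) (kb xb8 yb27 zb22) (kb xb4 yb19 zb56) (kb xb14 yb51 zb6)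 (kb xb15 yb25 zb6) (kb xb10 yb24 zb16) (kb xb8 yb27 zb28) (kb xb4 yb19 zb58) (kb xb16 yb9 zb61) (kb xb14 yb48 zb13) (kb xb16 yb10 zb4) (kb xb7 yb52 zb42) (kb xb8 yb38 zb43) (kb xb4 yb19 zb61) (kb xb4 yb20 zb0) (kb xb16 yb10 zb15)) (@D3.rec (fun _ => Pt) (kb xb11 yb2 zb41) (kb xb5 yb38 zb52) (kb xb4 yb20 zb2) (kb xb7 yb36 zb59) (kb xb11 yb52 zb46) (kb xb8 yb28 zb44) (kb xb7 yb46 zb19) (kb xb4 yb20 zb5) (kb xb16 yb10 zb26) (kb xb10 yb18 zb1) (kb xb4 yb20 zb8) (kb xb4 yb20 zb9) (kb xb16 yb10 zb29) (kb xb7 yb17 zb28) (kb xb13 yb29 zb22) (kb xb8 yb10 zb30) (kb xb15 yb4 zb43) (kb xb8 yb38 zb59) (kb xb15 yb10 zb22) (kb xb9 yb19 zb45) (kb xb16 yb10 zb41) (kb xb4 yb20 zb17) (kb xb4 yb20 zb18) (kb xb4 yb20 zb15) (kb xb16 yb10 zb48) (kb xb4 yb20 zb16) (kb xb16 yb10 zb55) (kb xb16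 yb10 zb59) (kb xb15 yb10 zb40) (kb xb16 yb10 zb45) (kb xb16 yb10 zb46) (kb xb10 yb50 zb39) (kb xb7 yb58 zb0) (kb xb4 yb20 zb21) (kb xb16 yb11 zb12) (kb xb4 yb20 zb29) (kb xb4 yb20 zb23) (kb xb15 yb12 zb18) (kb xb16 yb11 zb17) (kb xb4 yb20 zb25) (kb xb16 yb11 zb23) (kb xb16 yb11 zb28) (kb xb16 yb11 zb32) (kb xb8 yb37 zb58) (kb xb4 yb20 zb27) (kb xb4 yb20 zb28) (kb xb16 yb11 zb40) (kb xb16 yb11 zb41) (kb xb4 yb20 zb30) (kb xb14 yb39 zb37) (kb xb15 yb16 zb23) (kb xb4 yb29 zb6) (kb xb5 yb21 zb43) (kb xb12 yb7 zb24) (kb xb13 yb26 zb38) (kb xb10 yb5 zb14) (kb xb4 yb20 zb36) (kb xb13 yb59 zb30) (kb xb9 yb9 zb52) (kb xb8 yb38 zb17) (kb xb15 yb26 zb19) (kb xb6 yb24 zb29)) (@D3.rec (fun _ => Pt) (kb xb11 yb3 zb56) (kb xb4 yb20 zb44) (kb xb4 yb20 zb45) (kb xb8 yb3 zb55) (kb xb15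 yb13 zb29) (kb xb4 yb20 zb43) (kb xb5 yb35 zb15) (kb xb15 yb13 zb45) (kb xb16 yb12 zb21) (kb xb16 yb12 zb7) (kb xb16 yb12 zb8) (kb xb4 yb20 zb46) (kb xb15 yb56 zb5) (kb xb8 yb28 zb50) (kb xb10 yb30 zb36) (kb xb6 yb6 zb21) (kb xb10 yb35 zb14) (kb xb15 yb41 zb61) (kb xb16 yb12 zb33) (kb xb16 yb12 zb38) (kb xb8 yb39 zb38) (kb xb4 yb20 zb50) (kb xb4 yb20 zb51) (kb xb16 yb12 zb4) (kb xb16 yb12 zb45) (kb xb10 yb34 zb59) (kb xb4 yb20 zb53) (kb xb15 yb28 zb0) (kb xb16 yb12 zb55) (kb xb4 yb20 zb61) (kb xb5 yb23 zb61) (kb xb4 yb20 zb56) (kb xb16 yb13 zb0) (kb xb5 yb26 zb27) (kb xb11 yb53 zb13) (kb xb15 yb32 zb2) (kb xb16 yb13 zb6) (kb xb7 yb50 zb20) (kb xb8 yb39 zb20) (kb xb4 yb20 zb59) (kb xb4 yb20 zb60) (kb xb16 yb13 zb17) (kb xb16 yb13 zb18) (kb xb10 yb35 zb18) (kb xb5 yb21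 zb9) (kb xb4 yb21 zb0) (kb xb12 yb46 zb34) (kb xb16 yb13 zb28) (kb xb8 yb2 zb52) (kb xb4 yb21 zb2) (kb xb4 yb21 zb3) (kb xb16 yb13 zb36) (kb xb8 yb26 zb22) (kb xb4 yb21 zb6) (kb xb16 yb13 zb40) (kb xb9 yb18 zb53) (kb xb4 yb21 zb36) (kb xb8 yb5 zb43) (kb xb9 yb34 zb14) (kb xb4 yb21 zb11) (kb xb16 yb13 zb46) (kb xb12 yb26 zb57)) (@D3.rec (fun _ => Pt) (kb xb4 yb21 zb51) (kb xb8 yb36 zb54) (kb xb4 yb21 zb13) (kb xb16 yb13 zb53) (kb xb16 yb13 zb54) (kb xb16 yb13 zb59) (kb xb16 yb14 zb2) (kb xb11 yb17 zb39) (kb xb4 yb21 zb15) (kb xb4 yb21 zb16) (kb xb16 yb14 zb11) (kb xb16 yb14 zb10) (kb xb12 yb35 zb34) (kb xb4 yb22 zb16) (kb xb4 yb21 zb18) (kb xb16 yb14 zb21) (kb xb16 yb14 zb22) (kb xb8 yb30 zb51) (kb xb8 yb20 zb24) (kb xb15 yb36 zb24) (kb xb4 yb21 zb23) (kb xb16 yb14 zb29)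 (kb xb16 yb14 zb30) (kb xb8 yb31 zb33) (kb xb15 yb38 zb29) (kb xb9 yb37 zb11) (kb xb16 yb14 zb36) (kb xb14 yb57 zb0) (kb xb4 yb21 zb26) (kb xb4 yb21 zb27) (kb xb16 yb14 zb45) (kb xb16 yb14 zb44) (kb xb16 yb14 zb46) (kb xb4 yb21 zb29) (kb xb14 yb12 zb21) (kb xb4 yb21 zb31) (kb xb16 yb14 zb58) (kb xb16 yb14 zb59) (kb xb16 yb15 zb0) (kb xb16 yb15 zb4) (kb xb14 yb57 zb10) (kb xb4 yb21 zb33) (kb xb4 yb21 zb34) (kb xb16 yb15 zb11) (kb xb16 yb15 zb18) (kb xb16 yb15 zb14) (kb xb16 yb15 zb15) (kb xb16 yb15 zb21) (kb xb5 yb12 zb7) (kb xb14 yb56 zb40) (kb xb10 yb27 zb53) (kb xb16 yb13 zb42) (kb xb9 yb34 zb10) (kb xb4 yb21 zb39) (kb xb16 yb15 zb27) (kb xb16 yb15 zb28) (kb xb4 yb21 zb46) (kb xb16 yb15 zb31) (kb xb16 yb15 zb35) (kb xb14 yb57 zb19) (kb xb4 yb21 zb42) (kb xb4 yb21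 zb43)) (@D3.rec (fun _ => Pt) (kb xb16 yb15 zb44) (kb xb16 yb15 zb53) (kb xb16 yb15 zb47) (kb xb16 yb15 zb48) (kb xb16 yb15 zb60) (kb xb15 yb36 zb39) (kb xb15 yb36 zb40) (kb xb16 yb16 zb2) (kb xb16 yb16 zb4) (kb xb16 yb16 zb7) (kb xb9 yb38 zb1) (kb xb4 yb21 zb48) (kb xb4 yb21 zb49) (kb xb16 yb16 zb12) (kb xb7 yb27 zb6) (kb xb16 yb16 zb22) (kb xb16 yb16 zb15) (kb xb16 yb16 zb16) (kb xb16 yb16 zb28) (kb xb10 yb40 zb9) (kb xb16 yb16 zb32) (kb xb16 yb13 zb49) (kb xb16 yb13 zb50) (kb xb10 yb31 zb13) (kb xb16 yb16 zb37) (kb xb4 yb29 zb12) (kb xb4 yb21 zb54) (kb xb11 yb18 zb61) (kb xb6 yb23 zb19) (kb xb4 yb21 zb61) (kb xb16 yb16 zb41) (kb xb16 yb16 zb43) (kb xb9 yb38 zb10) (kb xb4 yb21 zb57) (kb xb4 yb21 zb58) (kb xb16 yb16 zb49) (kb xb16 yb16 zb57) (kb xb12 yb24 zb24) (kb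 xb16 yb16 zb52) (kb xb12 yb26 zb53) (kb xb16 yb17 zb0) (kb xb10 yb25 zb28) (kb xb15 yb38 zb38) (kb xb16 yb17 zb3) (kb xb5 yb16 zb30) (kb xb16 yb17 zb5) (kb xb16 yb17 zb9) (kb xb14 yb57 zb36) (kb xb4 yb22 zb1) (kb xb4 yb22 zb2) (kb xb16 yb17 zb16) (kb xb12 yb49 zb4) (kb xb12 yb50 zb17) (kb xb16 yb17 zb26) (kb xb16 yb17 zb29) (kb xb14 yb57 zb42) (kb xb4 yb52 zb60) (kb xb4 yb22 zb4) (kb xb4 yb22 zb5) (kb xb16 yb17 zb42) (kb xb16 yb17 zb44) (kb xb16 yb17 zb45)) (@D3.rec (fun _ => Pt) (kb xb14 yb57 zb48) (kb xb16 yb17 zb50) (kb xb4 yb22 zb6) (kb xb12 yb12 zb6) (kb xb16 yb17 zb54) (kb xb12 yb12 zb4) (kb xb4 yb53 zb42) (kb xb4 yb22 zb7) (kb xb16 yb8 zb40) (kb xb16 yb18 zb4) (kb xb16 yb18 zb5) (kb xb14 yb57 zb57) (kb xb14 yb56 zb44) (kb xb16 yb18 zb14) (kb xb14 yb58 zb54) (kb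 xb4 yb22 zb13) (kb xb4 yb22 zb14) (kb xb4 yb22 zb11) (kb xb16 yb18 zb28) (kb xb4 yb22 zb12) (kb xb16 yb18 zb32) (kb xb16 yb18 zb37) (kb xb16 yb18 zb40) (kb xb16 yb18 zb22) (kb xb16 yb18 zb43) (kb xb16 yb18 zb46) (kb xb16 yb18 zb25) (kb xb16 yb18 zb52) (kb xb8 yb32 zb34) (kb xb8 yb32 zb35) (kb xb16 yb18 zb55) (kb xb16 yb14 zb16) (kb xb16 yb14 zb17) (kb xb9 yb34 zb45) (kb xb4 yb22 zb18) (kb xb16 yb19 zb0) (kb xb8 yb36 zb0) (kb xb15 yb1 zb19) (kb xb4 yb22 zb25) (kb xb16 yb19 zb3) (kb xb16 yb19 zb7) (kb xb14 yb58 zb16) (kb xb4 yb22 zb23) (kb xb16 yb19 zb14) (kb xb16 yb19 zb15) (kb xb16 yb19 zb17) (kb xb8 yb4 zb1) (kb xb15 yb23 zb31) (kb xb5 yb46 zb29) (kb xb4 yb22 zb27) (kb xb5 yb1 zb17) (kb xb6 yb13 zb59) (kb xb4 yb22 zb29) (kb xb8 yb3 zb38) (kb xb14 yb58 zb21) (kb xb13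 yb28 zb10) (kb xb13 yb29 zb24) (kb xb15 yb3 zb52) (kb xb16 yb18 zb31) (kb xb4 yb22 zb34) (kb xb7 yb5 zb42) (kb xb15 yb26 zb35)) (@D3.rec (fun _ => Pt) (kb xb4 yb22 zb37) (kb xb16 yb19 zb41) (kb xb16 yb19 zb45) (kb xb16 yb19 zb38) (kb xb16 yb19 zb39) (kb xb4 yb22 zb35) (kb xb4 yb22 zb36) (kb xb16 yb19 zb53) (kb xb4 yb22 zb38) (kb xb5 yb29 zb41) (kb xb4 yb22 zb40) (kb xb16 yb19 zb57) (kb xb16 yb19 zb58) (kb xb15 yb59 zb29) (kb xb4 yb22 zb45) (kb xb16 yb20 zb0) (kb xb14 yb56 zb43) (kb xb9 yb44 zb51) (kb xb4 yb22 zb43) (kb xb16 yb20 zb7) (kb xb16 yb20 zb8) (kb xb16 yb20 zb13) (kb xb9 yb44 zb44) (kb xb4 yb22 zb47) (kb xb9 yb3 zb5) (kb xb6 yb24 zb30) (kb xb9 yb44 zb58) (kb xb5 yb41 zb28) (kb xb16 yb20 zb20) (kb xb16 yb18 zb27) (kb xb4 yb22 zb50) (kb xb16 yb20 zb26) (kb xb16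 yb20 zb30) (kb xb16 yb20 zb25) (kb xb4 yb24 zb51) (kb xb13 yb30 zb9) (kb xb8 yb46 zb10) (kb xb12 yb9 zb17) (kb xb16 yb17 zb41) (kb xb4 yb22 zb58) (kb xb4 yb23 zb3) (kb xb4 yb22 zb60) (kb xb4 yb22 zb56) (kb xb16 yb20 zb43) (kb xb12 yb6 zb43) (kb xb16 yb20 zb49) (kb xb16 yb20 zb53) (kb xb5 yb12 zb2) (kb xb10 yb3 zb16) (kb xb15 yb7 zb5) (kb xb9 yb56 zb31) (kb xb9 yb2 zb35) (kb xb5 yb42 zb27) (kb xb5 yb55 zb49) (kb xb15 yb3 zb48) (kb xb5 yb13 zb11) (kb xb16 yb17 zb15) (kb xb13 yb29 zb18) (kb xb16 yb21 zb9) (kb xb6 yb58 zb9) (kb xb4 yb23 zb7) (kb xb11 yb6 zb52)) (@D3.rec (fun _ => Pt) (kb xb16 yb21 zb15) (kb xb5 yb8 zb45) (kb xb11 yb13 zb39) (kb xb11 yb13 zb40) (kb xb16 yb21 zb22) (kb xb13 yb30 zb57) (kb xb4 yb23 zb13) (kb xb16 yb21 zb24) (kb xb15 yb7 zb59) (kb xb13 yb30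 zb60) (kb xb16 yb21 zb28) (kb xb10 yb40 zb33) (kb xb16 yb21 zb32) (kb xb16 yb21 zb34) (kb xb7 yb14 zb26) (kb xb11 yb13 zb41) (kb xb4 yb23 zb17) (kb xb7 yb14 zb12) (kb xb4 yb23 zb20) (kb xb5 yb40 zb17) (kb xb6 yb15 zb32) (kb xb4 yb57 zb16) (kb xb15 yb7 zb11) (kb xb15 yb7 zb7) (kb xb7 yb12 zb56) (kb xb4 yb23 zb25) (kb xb4 yb23 zb26) (kb xb4 yb57 zb13) (kb xb4 yb57 zb14) (kb xb16 yb21 zb45) (kb xb7 yb14 zb7) (kb xb16 yb21 zb48) (kb xb16 yb21 zb49) (kb xb16 yb21 zb53) (kb xb14 yb58 zb43) (kb xb4 yb23 zb28) (kb xb16 yb21 zb58) (kb xb16 yb21 zb57) (kb xb4 yb23 zb29) (kb xb16 yb22 zb1) (kb xb16 yb22 zb0) (kb xb16 yb22 zb5) (kb xb10 yb12 zb33) (kb xb4 yb23 zb30) (kb xb4 yb55 zb54) (kb xb5 yb2 zb3) (kb xb8 yb28 zb4) (kb xb16 yb22 zb14) (kb xb4 yb23 zb42) (kb xb4 yb23 zb43) (kb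 xb4 yb26 zb5) (kb xb4 yb23 zb44) (kb xb14 yb58 zb59) (kb xb16 yb15 zb43) (kb xb4 yb23 zb35) (kb xb16 yb22 zb31) (kb xb10 yb28 zb51) (kb xb16 yb22 zb29) (kb xb16 yb22 zb30) (kb xb11 yb13 zb22) (kb xb16 yb15 zb10) (kb xb4 yb23 zb37)) (@D3.rec (fun _ => Pt) (kb xb16 yb22 zb2) (kb xb16 yb22 zb49) (kb xb16 yb22 zb46) (kb xb16 yb22 zb52) (kb xb16 yb22 zb53) (kb xb14 yb59 zb10) (kb xb4 yb23 zb39) (kb xb16 yb22 zb57) (kb xb16 yb22 zb60) (kb xb16 yb22 zb56) (kb xb10 yb9 zb33) (kb xb4 yb23 zb40) (kb xb16 yb23 zb9) (kb xb16 yb23 zb7) (kb xb16 yb23 zb8) (kb xb4 yb23 zb41) (kb xb16 yb23 zb19) (kb xb12 yb38 zb6) (kb xb16 yb23 zb18) (kb xb16 yb22 zb16) (kb xb16 yb23 zb24) (kb xb14 yb53 zb35) (kb xb16 yb22 zb19) (kb xb16 yb23 zb31) (kb xb4 yb41 zb18) (kb xb5 yb49 zb8) (kb xb4 yb24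 zb28) (kb xb4 yb23 zb50) (kb xb4 yb23 zb51) (kb xb16 yb23 zb37) (kb xb10 yb16 zb43) (kb xb16 yb23 zb34) (kb xb16 yb23 zb35) (kb xb16 yb23 zb43) (kb xb4 yb23 zb53) (kb xb11 yb37 zb36) (kb xb14 yb44 zb24) (kb xb16 yb23 zb46) (kb xb12 yb8 zb43) (kb xb15 yb26 zb20) (kb xb16 yb23 zb51) (kb xb4 yb23 zb59) (kb xb6 yb10 zb24) (kb xb16 yb23 zb52) (kb xb16 yb23 zb57) (kb xb15 yb4 zb39) (kb xb13 yb57 zb11) (kb xb9 yb26 zb5) (kb xb8 yb50 zb29) (kb xb8 yb50 zb30) (kb xb7 yb6 zb13) (kb xb16 yb24 zb4) (kb xb4 yb24 zb7) (kb xb6 yb16 zb23) (kb xb4 yb24 zb4) (kb xb16 yb24 zb6) (kb xb11 yb9 zb55) (kb xb4 yb24 zb5) (kb xb13 yb40 zb38) (kb xb16 yb24 zb9) (kb xb16 yb24 zb13) (kb xb13 yb38 zb13)) (@D3.rec (fun _ => Pt) (kb xb13 yb38 zb35) (kb xb4 yb58 zb8) (kb xb6 yb15 zb55) (kb xb6 yb15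 zb56) (kb xb4 yb45 zb11) (kb xb6 yb15 zb60) (kb xb6 yb16 zb1) (kb xb11 yb21 zb24) (kb xb9 yb9 zb46) (kb xb5 yb37 zb11) (kb xb8 yb43 zb36) (kb xb16 yb24 zb28) (kb xb6 yb24 zb38) (kb xb5 yb46 zb47) (kb xb4 yb40 zb33) (kb xb5 yb53 zb45) (kb xb4 yb24 zb20) (kb xb16 yb24 zb36) (kb xb16 yb24 zb35) (kb xb11 yb24 zb41) (kb xb6 yb14 zb41) (kb xb16 yb24 zb45) (kb xb16 yb24 zb49) (kb xb4 yb24 zb26) (kb xb4 yb24 zb27) (kb xb5 yb53 zb41) (kb xb13 yb57 zb8) (kb xb4 yb24 zb24) (kb xb16 yb24 zb57) (kb xb16 yb24 zb58) (kb xb4 yb24 zb25) (kb xb16 yb25 zb3) (kb xb16 yb25 zb4) (kb xb12 yb32 zb19) (kb xb13 yb57 zb9) (kb xb13 yb38 zb42) (kb xb16 yb23 zb32) (kb xb15 yb7 zb52) (kb xb6 yb25 zb6) (kb xb4 yb24 zb34) (kb xb12 yb5 zb21) (kb xb16 yb25 zb19) (kb xb16 yb25 zb22) (kb xb14 yb59 zb35)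 (kb xb8 yb48 zb20) (kb xb8 yb48 zb21) (kb xb16 yb25 zb32) (kb xb11 yb20 zb55) (kb xb4 yb24 zb40) (kb xb4 yb24 zb38) (kb xb16 yb25 zb39) (kb xb12 yb32 zb10) (kb xb4 yb24 zb39) (kb xb16 yb25 zb47) (kb xb16 yb25 zb48) (kb xb4 yb37 zb5) (kb xb5 yb56 zb22) (kb xb16 yb25 zb57) (kb xb5 yb55 zb48) (kb xb4 yb36 zb23) (kb xb5 yb55 zb50) (kb xb4 yb38 zb23)) (@D3.rec (fun _ => Pt) (kb xb9 yb19 zb47) (kb xb9 yb25 zb11) (kb xb12 yb22 zb25) (kb xb11 yb27 zb34) (kb xb4 yb48 zb46) (kb xb5 yb54 zb15) (kb xb16 yb26 zb17) (kb xb11 yb7 zb55) (kb xb4 yb24 zb56) (kb xb4 yb24 zb57) (kb xb15 yb4 zb38) (kb xb16 yb20 zb34) (kb xb16 yb26 zb29) (kb xb16 yb26 zb32) (kb xb16 yb26 zb35) (kb xb4 yb25 zb2) (kb xb4 yb24 zb54) (kb xb16 yb26 zb41) (kb xb16 yb26 zb42) (kb xb4 yb24 zb55) (kb xb16 yb26 zb47)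 (kb xb16 yb26 zb48) (kb xb16 yb26 zb51) (kb xb16 yb26 zb54) (kb xb16 yb26 zb59) (kb xb16 yb26 zb25) (kb xb16 yb27 zb1) (kb xb6 yb13 zb36) (kb xb4 yb24 zb60) (kb xb16 yb27 zb6) (kb xb16 yb27 zb5) (kb xb4 yb24 zb61) (kb xb16 yb27 zb13) (kb xb16 yb27 zb12) (kb xb4 yb25 zb0) (kb xb16 yb27 zb20) (kb xb16 yb27 zb19) (kb xb7 yb42 zb36) (kb xb13 yb32 zb22) (kb xb4 yb25 zb1) (kb xb16 yb27 zb28) (kb xb16 yb27 zb29) (kb xb16 yb26 zb38) (kb xb15 yb7 zb61) (kb xb4 yb25 zb4) (kb xb14 yb18 zb23) (kb xb16 yb27 zb37) (kb xb4 yb25 zb6) (kb xb13 yb33 zb13) (kb xb16 yb27 zb41) (kb xb4 yb25 zb7) (kb xb16 yb27 zb46) (kb xb16 yb27 zb47) (kb xb4 yb25 zb8) (kb xb16 yb27 zb52) (kb xb16 yb27 zb53) (kb xb16 yb27 zb59) (kb xb11 yb11 zb44) (kb xb16 yb27 zb61) (kb xb11 yb34 zb32) (kb xb4 yb25 zb11)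 (kb xb11 yb34 zb47)) (@D3.rec (fun _ => Pt) (kb xb4 yb25 zb15) (kb xb8 yb48 zb57) (kb xb5 yb57 zb39) (kb xb16 yb28 zb8) (kb xb4 yb25 zb18) (kb xb4 yb25 zb19) (kb xb6 yb13 zb49) (kb xb12 yb10 zb31) (kb xb9 yb49 zb23) (kb xb16 yb28 zb10) (kb xb16 yb28 zb16) (kb xb9 yb8 zb11) (kb xb15 yb7 zb53) (kb xb8 yb48 zb28) (kb xb4 yb25 zb22) (kb xb4 yb59 zb43) (kb xb4 yb25 zb23) (kb xb11 yb28 zb7) (kb xb16 yb28 zb24) (kb xb6 yb18 zb4) (kb xb8 yb46 zb44) (kb xb8 yb46 zb45) (kb xb13 yb24 zb35) (kb xb10 yb52 zb38) (kb xb4 yb25 zb32) (kb xb4 yb25 zb33) (kb xb13 yb42 zb5) (kb xb4 yb25 zb27) (kb xb8 yb48 zb13) (kb xb16 yb28 zb38) (kb xb15 yb35 zb47) (kb xb4 yb25 zb30) (kb xb16 yb28 zb45) (kb xb16 yb28 zb46) (kb xb11 yb12 zb60) (kb xb11 yb12 zb61) (kb xb16 yb28 zb52) (kb xb16 yb28 zb55)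 (kb xb8 yb55 zb59) (kb xb16 yb28 zb35) (kb xb4 yb25 zb34) (kb xb16 yb28 zb61) (kb xb4 yb25 zb35) (kb xb13 yb30 zb20) (kb xb14 yb27 zb60) (kb xb16 yb29 zb5) (kb xb4 yb25 zb36) (kb xb10 yb24 zb27) (kb xb16 yb29 zb7) (kb xb13 yb31 zb28) (kb xb7 yb36 zb18) (kb xb8 yb50 zb46) (kb xb9 yb8 zb32) (kb xb4 yb25 zb42) (kb xb5 yb40 zb0) (kb xb12 yb23 zb10) (kb xb15 yb50 zb11) (kb xb8 yb48 zb1) (kb xb12 yb6 zb9) (kb xb4 yb25 zb53) (kb xb7 yb17 zb27) (kb xb4 yb25 zb56)) (@D3.rec (fun _ => Pt) (kb xb4 yb25 zb57) (kb xb6 yb15 zb45) (kb xb5 yb7 zb31) (kb xb8 yb12 zb34) (kb xb5 yb7 zb24) (kb xb14 yb29 zb50) (kb xb11 yb24 zb43) (kb xb16 yb29 zb32) (kb xb12 yb31 zb26) (kb xb11 yb21 zb2) (kb xb16 yb29 zb21) (kb xb11 yb28 zb15) (kb xb10 yb17 zb58) (kb xb11 yb57 zb39) (kb xb16 yb29 zb42)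 (kb xb16 yb29 zb25) (kb xb15 yb7 zb60) (kb xb16 yb29 zb47) (kb xb4 yb26 zb2) (kb xb4 yb26 zb4) (kb xb4 yb58 zb46) (kb xb11 yb36 zb50) (kb xb4 yb58 zb51) (kb xb4 yb35 zb4) (kb xb4 yb26 zb1) (kb xb10 yb2 zb45) (kb xb11 yb59 zb28) (kb xb9 yb2 zb28) (kb xb16 yb29 zb51) (kb xb16 yb29 zb52) (kb xb11 yb13 zb25) (kb xb11 yb50 zb31) (kb xb16 yb30 zb12) (kb xb16 yb22 zb20) (kb xb4 yb26 zb6) (kb xb11 yb27 zb55) (kb xb16 yb30 zb16) (kb xb12 yb10 zb34) (kb xb9 yb18 zb0) (kb xb4 yb26 zb8) (kb xb11 yb14 zb14) (kb xb16 yb30 zb23) (kb xb15 yb0 zb3) (kb xb5 yb55 zb31) (kb xb4 yb26 zb12) (kb xb16 yb30 zb27) (kb xb12 yb49 zb9) (kb xb5 yb37 zb34) (kb xb12 yb7 zb52) (kb xb7 yb18 zb49) (kb xb16 yb30 zb26) (kb xb11 yb17 zb50) (kb xb16 yb30 zb32) (kb xb4 yb26 zb15) (kb xb4 yb26 zb14) (kb xb10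 yb18 zb53) (kb xb9 yb50 zb52) (kb xb4 yb26 zb31) (kb xb15 yb0 zb6) (kb xb16 yb30 zb36) (kb xb4 yb26 zb16) (kb xb11 yb14 zb34)) (@D3.rec (fun _ => Pt) (kb xb7 yb27 zb0) (kb xb12 yb10 zb37) (kb xb13 yb7 zb13) (kb xb4 yb26 zb19) (kb xb8 yb0 zb49) (kb xb11 yb14 zb41) (kb xb5 yb43 zb24) (kb xb11 yb14 zb9) (kb xb11 yb13 zb19) (kb xb7 yb57 zb21) (kb xb4 yb26 zb22) (kb xb16 yb30 zb54) (kb xb16 yb30 zb55) (kb xb4 yb26 zb23) (kb xb16 yb31 zb0) (kb xb4 yb26 zb51) (kb xb16 yb31 zb2) (kb xb16 yb31 zb6) (kb xb4 yb26 zb54) (kb xb4 yb26 zb26) (kb xb16 yb31 zb13) (kb xb13 yb46 zb27) (kb xb16 yb31 zb16) (kb xb16 yb27 zb36) (kb xb16 yb31 zb22) (kb xb16 yb31 zb24) (kb xb9 yb19 zb27) (kb xb14 yb15 zb52) (kb xb6 yb18 zb22) (kb xb8 yb45 zb48) (kb xb8 yb45 zb49) (kb xb16 yb31 zb33) (kb xb12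 yb32 zb2) (kb xb4 yb26 zb33) (kb xb4 yb26 zb34) (kb xb16 yb30 zb37) (kb xb16 yb30 zb38) (kb xb4 yb26 zb32) (kb xb16 yb31 zb48) (kb xb16 yb31 zb49) (kb xb16 yb30 zb34) (kb xb9 yb19 zb30) (kb xb13 yb56 zb16) (kb xb13 yb47 zb28) (kb xb4 yb42 zb41) (kb xb12 yb49 zb28) (kb xb8 yb48 zb51) (kb xb16 yb32 zb0) (kb xb16 yb32 zb3) (kb xb4 yb26 zb41) (kb xb4 yb26 zb42) (kb xb4 yb26 zb39) (kb xb16 yb32 zb11) (kb xb16 yb32 zb12) (kb xb4 yb26 zb40) (kb xb16 yb32 zb21) (kb xb16 yb32 zb22) (kb xb7 yb14 zb52) (kb xb16 yb32 zb28) (kb xb16 yb32 zb33) (kb xb16 yb32 zb8) (kb xb16 yb30 zb60)) (@D3.rec (fun _ => Pt) (kb xb15 yb0 zb21) (kb xb16 yb32 zb42) (kb xb4 yb26 zb45) (kb xb4 yb26 zb46) (kb xb4 yb26 zb44) (kb xb16 yb32 zb54) (kb xb16 yb32 zb55) (kb xb16 yb32 zb61) (kb xb16 yb30 zb57)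 (kb xb16 yb33 zb6) (kb xb16 yb32 zb48) (kb xb16 yb30 zb58) (kb xb16 yb32 zb51) (kb xb16 yb30 zb53) (kb xb11 yb34 zb2) (kb xb16 yb33 zb14) (kb xb4 yb26 zb49) (kb xb4 yb26 zb50) (kb xb4 yb26 zb48) (kb xb16 yb33 zb21) (kb xb16 yb33 zb22) (kb xb16 yb33 zb25) (kb xb16 yb33 zb18) (kb xb9 yb1 zb44) (kb xb16 yb33 zb19) (kb xb16 yb33 zb20) (kb xb16 yb31 zb1) (kb xb4 yb26 zb52) (kb xb16 yb33 zb33) (kb xb16 yb33 zb34) (kb xb4 yb26 zb53) (kb xb16 yb33 zb40) (kb xb16 yb33 zb41) (kb xb16 yb33 zb45) (kb xb13 yb42 zb48) (kb xb16 yb33 zb51) (kb xb9 yb8 zb35) (kb xb16 yb29 zb53) (kb xb16 yb33 zb56) (kb xb11 yb50 zb33) (kb xb4 yb26 zb57) (kb xb16 yb34 zb1) (kb xb16 yb34 zb0) (kb xb4 yb26 zb59) (kb xb16 yb34 zb7) (kb xb16 yb34 zb6) (kb xb16 yb34 zb12) (kb xb13 yb42 zb10) (kb xb16 yb34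 zb17) (kb xb16 yb34 zb19) (kb xb4 yb26 zb61) (kb xb16 yb34 zb24) (kb xb4 yb27 zb1) (kb xb16 yb34 zb28) (kb xb16 yb34 zb27) (kb xb9 yb44 zb36) (kb xb4 yb27 zb3) (kb xb4 yb27 zb5) (kb xb16 yb34 zb36) (kb xb16 yb34 zb35) (kb xb16 yb34 zb40) (kb xb16 yb34 zb41)) (@D3.rec (fun _ => Pt) (kb xb8 yb5 zb42) (kb xb5 yb15 zb5) (kb xb4 yb27 zb10) (kb xb16 yb34 zb47) (kb xb4 yb27 zb21) (kb xb4 yb27 zb12) (kb xb16 yb34 zb50) (kb xb16 yb34 zb51) (kb xb5 yb19 zb20) (kb xb4 yb27 zb14) (kb xb16 yb34 zb59) (kb xb16 yb34 zb60) (kb xb8 yb5 zb48) (kb xb16 yb34 zb43) (kb xb5 yb19 zb27) (kb xb4 yb27 zb16) (kb xb16 yb35 zb8) (kb xb13 yb41 zb54) (kb xb4 yb27 zb17) (kb xb16 yb35 zb13) (kb xb16 yb35 zb14) (kb xb12 yb8 zb6) (kb xb16 yb35 zb23) (kb xb8 yb52 zb46) (kb xb4 yb27 zb19) (kb xb4 yb27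 zb20) (kb xb11 yb29 zb18) (kb xb10 yb29 zb11) (kb xb10 yb29 zb9) (kb xb4 yb27 zb22) (kb xb8 yb3 zb20) (kb xb5 yb19 zb53) (kb xb4 yb27 zb24) (kb xb16 yb35 zb36) (kb xb16 yb35 zb37) (kb xb8 yb5 zb29) (kb xb10 yb21 zb7) (kb xb5 yb19 zb61) (kb xb4 yb27 zb26) (kb xb16 yb35 zb46) (kb xb16 yb35 zb47) (kb xb4 yb27 zb27) (kb xb16 yb35 zb50) (kb xb14 yb59 zb6) (kb xb13 yb29 zb48) (kb xb16 yb35 zb58) (kb xb8 yb52 zb23) (kb xb4 yb27 zb29) (kb xb4 yb27 zb30) (kb xb12 yb7 zb17) (kb xb5 yb50 zb52) (kb xb16 yb36 zb7) (kb xb16 yb36 zb4) (kb xb16 yb36 zb5) (kb xb4 yb27 zb32) (kb xb16 yb36 zb16) (kb xb5 yb20 zb40) (kb xb15 yb18 zb29) (kb xb4 yb27 zb34) (kb xb16 yb36 zb24) (kb xb16 yb36 zb25) (kb xb5 yb20 zb53)) (@D3.rec (fun _ => Pt) (kb xb15 yb19 zb56) (kb xb4 yb27 zb36) (kb xb16 yb36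 zb35) (kb xb4 yb28 zb24) (kb xb4 yb27 zb37) (kb xb16 yb36 zb36) (kb xb16 yb36 zb40) (kb xb16 yb36 zb46) (kb xb16 yb36 zb51) (kb xb4 yb28 zb32) (kb xb4 yb27 zb39) (kb xb4 yb27 zb40) (kb xb16 yb36 zb61) (kb xb16 yb37 zb1) (kb xb16 yb36 zb59) (kb xb16 yb36 zb60) (kb xb4 yb27 zb42) (kb xb16 yb37 zb10) (kb xb5 yb27 zb33) (kb xb8 yb7 zb37) (kb xb4 yb27 zb58) (kb xb4 yb27 zb46) (kb xb16 yb37 zb16) (kb xb16 yb37 zb17) (kb xb8 yb36 zb44) (kb xb15 yb18 zb30) (kb xb5 yb22 zb50) (kb xb4 yb27 zb48) (kb xb16 yb37 zb28) (kb xb16 yb37 zb29) (kb xb4 yb27 zb50) (kb xb16 yb37 zb37) (kb xb16 yb37 zb38) (kb xb4 yb27 zb51) (kb xb16 yb37 zb45) (kb xb16 yb37 zb46) (kb xb16 yb37 zb49) (kb xb16 yb37 zb53) (kb xb15 yb17 zb37) (kb xb4 yb27 zb53) (kb xb4 yb27 zb54) (kb xb16 yb38 zb4) (kb xb16 yb38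 zb6) (kb xb16 yb37 zb61) (kb xb16 yb38 zb12) (kb xb16 yb38 zb14) (kb xb16 yb38 zb2) (kb xb16 yb38 zb3) (kb xb16 yb38 zb22) (kb xb5 yb57 zb12) (kb xb4 yb29 zb0) (kb xb5 yb23 zb15) (kb xb16 yb38 zb29) (kb xb15 yb32 zb4) (kb xb16 yb38 zb32) (kb xb4 yb27 zb59) (kb xb16 yb38 zb37) (kb xb16 yb38 zb39) (kb xb16 yb38 zb43) (kb xb16 yb36 zb15) (kb xb4 yb27 zb61) (kb xb4 yb28 zb0)) (@D3.rec (fun _ => Pt) (kb xb16 yb38 zb51) (kb xb16 yb38 zb60) (kb xb16 yb39 zb1) (kb xb16 yb38 zb54) (kb xb16 yb38 zb55) (kb xb10 yb53 zb14) (kb xb4 yb29 zb23) (kb xb16 yb39 zb9) (kb xb4 yb28 zb4) (kb xb16 yb39 zb14) (kb xb5 yb31 zb1) (kb xb16 yb12 zb59) (kb xb4 yb28 zb13) (kb xb4 yb28 zb14) (kb xb4 yb28 zb6) (kb xb16 yb39 zb23) (kb xb4 yb28 zb7) (kb xb16 yb39 zb28) (kb xb16 yb39 zb31) (kb xb15 yb19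 zb11) (kb xb4 yb28 zb9) (kb xb4 yb28 zb10) (kb xb16 yb39 zb37) (kb xb16 yb39 zb41) (kb xb4 yb30 zb22) (kb xb16 yb39 zb46) (kb xb16 yb39 zb48) (kb xb16 yb39 zb21) (kb xb16 yb39 zb39) (kb xb16 yb39 zb55) (kb xb5 yb24 zb24) (kb xb16 yb39 zb58) (kb xb4 yb29 zb46) (kb xb4 yb29 zb47) (kb xb16 yb40 zb1) (kb xb16 yb39 zb52) (kb xb16 yb40 zb3) (kb xb16 yb36 zb23) (kb xb4 yb28 zb16) (kb xb4 yb28 zb17) (kb xb16 yb40 zb9) (kb xb16 yb40 zb18) (kb xb16 yb40 zb21) (kb xb16 yb40 zb12) (kb xb16 yb40 zb13) (kb xb16 yb40 zb26) (kb xb4 yb30 zb1) (kb xb14 yb41 zb44) (kb xb5 yb24 zb48) (kb xb16 yb40 zb30) (kb xb16 yb40 zb33) (kb xb16 yb36 zb34) (kb xb5 yb14 zb59) (kb xb4 yb28 zb25) (kb xb8 yb26 zb23) (kb xb16 yb40 zb46) (kb xb16 yb40 zb43) (kb xb15 yb19 zb25) (kb xb16 yb40 zb49) (kb xb16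 yb36 zb39) (kb xb4 yb54 zb36) (kb xb4 yb28 zb28)) (@D3.rec (fun _ => Pt) (kb xb4 yb28 zb29) (kb xb4 yb54 zb37) (kb xb16 yb40 zb59) (kb xb16 yb41 zb0) (kb xb16 yb36 zb41) (kb xb16 yb36 zb44) (kb xb16 yb41 zb10) (kb xb4 yb28 zb30) (kb xb16 yb41 zb19) (kb xb16 yb41 zb16) (kb xb16 yb41 zb11) (kb xb16 yb41 zb17) (kb xb4 yb28 zb31) (kb xb5 yb31 zb27) (kb xb16 yb41 zb26) (kb xb16 yb41 zb31) (kb xb16 yb36 zb55) (kb xb16 yb41 zb43) (kb xb16 yb41 zb45) (kb xb16 yb41 zb50) (kb xb4 yb28 zb38) (kb xb4 yb28 zb39) (kb xb4 yb28 zb40) (kb xb4 yb28 zb35) (kb xb10 yb47 zb51) (kb xb4 yb28 zb36) (kb xb16 yb42 zb7) (kb xb4 yb28 zb37) (kb xb16 yb42 zb14) (kb xb10 yb53 zb12) (kb xb16 yb42 zb21) (kb xb16 yb41 zb56) (kb xb16 yb41 zb57) (kb xb16 yb42 zb28) (kb xb16 yb42 zb31) (kb xb16 yb41 zb60)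 (kb xb4 yb28 zb41) (kb xb16 yb42 zb38) (kb xb16 yb42 zb36) (kb xb16 yb42 zb37) (kb xb16 yb42 zb42) (kb xb15 yb9 zb39) (kb xb4 yb28 zb43) (kb xb16 yb42 zb48) (kb xb16 yb42 zb49) (kb xb5 yb27 zb40) (kb xb8 yb36 zb46) (kb xb4 yb28 zb45) (kb xb16 yb42 zb57) (kb xb16 yb42 zb58) (kb xb4 yb28 zb47) (kb xb16 yb43 zb1) (kb xb4 yb28 zb48) (kb xb16 yb43 zb5) (kb xb16 yb43 zb6) (kb xb16 yb43 zb9) (kb xb15 yb15 zb7) (kb xb4 yb28 zb50) (kb xb10 yb26 zb11) (kb xb8 yb48 zb38) (kb xb16 yb43 zb15) (kb xb16 yb43 zb17)) (@D3.rec (fun _ => Pt) (kb xb16 yb43 zb18) (kb xb11 yb32 zb22) (kb xb9 yb7 zb1) (kb xb16 yb43 zb23) (kb xb16 yb43 zb25) (kb xb10 yb35 zb39) (kb xb6 yb3 zb29) (kb xb16 yb43 zb29) (kb xb5 yb28 zb41) (kb xb4 yb28 zb56) (kb xb16 yb43 zb35) (kb xb4 yb28 zb57) (kb xb16 yb43 zb40)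 (kb xb16 yb43 zb37) (kb xb4 yb28 zb58) (kb xb15 yb36 zb43) (kb xb16 yb43 zb49) (kb xb5 yb29 zb10) (kb xb16 yb43 zb52) (kb xb16 yb43 zb55) (kb xb4 yb33 zb33) (kb xb4 yb36 zb27) (kb xb8 yb35 zb55) (kb xb4 yb29 zb2) (kb xb16 yb44 zb3) (kb xb16 yb44 zb4) (kb xb4 yb29 zb5) (kb xb16 yb44 zb10) (kb xb16 yb44 zb11) (kb xb4 yb29 zb7) (kb xb16 yb44 zb18) (kb xb4 yb29 zb8) (kb xb16 yb44 zb23) (kb xb16 yb44 zb26) (kb xb16 yb44 zb29) (kb xb15 yb59 zb9) (kb xb4 yb29 zb10) (kb xb4 yb29 zb11) (kb xb16 yb44 zb36) (kb xb16 yb44 zb39) (kb xb16 yb44 zb41) (kb xb16 yb44 zb42) (kb xb10 yb0 zb54) (kb xb4 yb29 zb15) (kb xb16 yb44 zb48) (kb xb16 yb44 zb45) (kb xb4 yb29 zb16) (kb xb16 yb44 zb56) (kb xb16 yb44 zb55) (kb xb5 yb30 zb29) (kb xb5 yb30 zb30) (kb xb12 yb11 zb3) (kb xb16 yb45 zb5) (kb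 xb4 yb33 zb27) (kb xb4 yb29 zb20) (kb xb16 yb45 zb12) (kb xb16 yb45 zb15) (kb xb4 yb29 zb21) (kb xb4 yb29 zb22) (kb xb16 yb45 zb21) (kb xb16 yb45 zb22) (kb xb4 yb29 zb24)) (@D3.rec (fun _ => Pt) (kb xb16 yb45 zb25) (kb xb4 yb29 zb25) (kb xb16 yb45 zb30) (kb xb15 yb21 zb4) (kb xb15 yb15 zb13) (kb xb4 yb29 zb27) (kb xb4 yb29 zb28) (kb xb7 yb10 zb56) (kb xb16 yb45 zb41) (kb xb16 yb45 zb44) (kb xb16 yb45 zb36) (kb xb16 yb45 zb37) (kb xb16 yb45 zb50) (kb xb15 yb9 zb16) (kb xb4 yb29 zb30) (kb xb16 yb45 zb56) (kb xb16 yb45 zb54) (kb xb16 yb45 zb55) (kb xb5 yb22 zb46) (kb xb4 yb29 zb33) (kb xb16 yb45 zb61) (kb xb16 yb45 zb59) (kb xb4 yb29 zb34) (kb xb15 yb15 zb33) (kb xb5 yb31 zb38) (kb xb5 yb31 zb39) (kb xb4 yb32 zb37) (kb xb4 yb29 zb38) (kb xb16 yb46 zb13) (kb xb16 yb46 zb15)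 (kb xb4 yb29 zb41) (kb xb4 yb29 zb42) (kb xb4 yb29 zb40) (kb xb16 yb46 zb22) (kb xb6 yb46 zb43) (kb xb16 yb46 zb23) (kb xb10 yb48 zb44) (kb xb16 yb46 zb19) (kb xb11 yb21 zb5) (kb xb4 yb29 zb44) (kb xb16 yb20 zb21) (kb xb4 yb29 zb45) (kb xb16 yb46 zb25) (kb xb16 yb46 zb26) (kb xb4 yb29 zb48) (kb xb15 yb19 zb54) (kb xb5 yb24 zb34) (kb xb5 yb32 zb13) (kb xb16 yb46 zb29) (kb xb16 yb46 zb30) (kb xb15 yb51 zb60) (kb xb4 yb29 zb51) (kb xb4 yb29 zb52) (kb xb16 yb46 zb35) (kb xb16 yb46 zb41) (kb xb16 yb46 zb43) (kb xb16 yb46 zb38) (kb xb12 yb30 zb7) (kb xb16 yb46 zb50) (kb xb15 yb20 zb25) (kb xb16 yb46 zb53) (kb xb4 yb29 zb56)) (@D3.rec (fun _ => Pt) (kb xb16 yb46 zb55) (kb xb4 yb29 zb57) (kb xb16 yb40 zb37) (kb xb16 yb46 zb57) (kb xb5 yb32 zb39) (kb xb5 yb32 zb40) (kb xb4 yb32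 zb14) (kb xb16 yb47 zb4) (kb xb16 yb47 zb7) (kb xb4 yb29 zb61) (kb xb4 yb30 zb0) (kb xb16 yb47 zb10) (kb xb16 yb47 zb11) (kb xb4 yb30 zb3) (kb xb4 yb30 zb4) (kb xb16 yb47 zb13) (kb xb11 yb28 zb16) (kb xb16 yb47 zb12) (kb xb4 yb30 zb5) (kb xb8 yb8 zb40) (kb xb16 yb47 zb17) (kb xb5 yb33 zb0) (kb xb5 yb33 zb1) (kb xb4 yb31 zb61) (kb xb4 yb30 zb9) (kb xb16 yb47 zb28) (kb xb4 yb30 zb10) (kb xb4 yb30 zb11) (kb xb16 yb47 zb34) (kb xb16 yb47 zb35) (kb xb16 yb47 zb27) (kb xb16 yb47 zb36) (kb xb16 yb47 zb37) (kb xb5 yb33 zb7) (kb xb16 yb47 zb33) (kb xb4 yb30 zb12) (kb xb16 yb47 zb40) (kb xb12 yb10 zb6) (kb xb16 yb47 zb44) (kb xb5 yb34 zb43) (kb xb9 yb31 zb52) (kb xb14 yb50 zb25) (kb xb5 yb33 zb33) (kb xb5 yb33 zb34) (kb xb16 yb47 zb52) (kb xb16 yb28 zb0) (kb xb4 yb56 zb3) (kb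 xb4 yb56 zb4) (kb xb4 yb31 zb49) (kb xb4 yb30 zb18) (kb xb16 yb47 zb60) (kb xb11 yb22 zb55) (kb xb5 yb33 zb45) (kb xb4 yb30 zb20) (kb xb16 yb39 zb25) (kb xb16 yb48 zb0) (kb xb11 yb47 zb50) (kb xb9 yb37 zb1) (kb xb4 yb30 zb23) (kb xb16 yb39 zb51) (kb xb15 yb19 zb10) (kb xb16 yb39 zb44)) (@D3.rec (fun _ => Pt) (kb xb16 yb39 zb45) (kb xb5 yb34 zb0) (kb xb12 yb56 zb45) (kb xb10 yb48 zb9) (kb xb10 yb55 zb36) (kb xb5 yb34 zb4) (kb xb11 yb51 zb18) (kb xb9 yb14 zb30) (kb xb5 yb33 zb50) (kb xb9 yb31 zb45) (kb xb16 yb48 zb21) (kb xb4 yb30 zb28) (kb xb4 yb30 zb29) (kb xb4 yb30 zb27) (kb xb14 yb41 zb54) (kb xb16 yb48 zb29) (kb xb16 yb48 zb33) (kb xb16 yb48 zb26) (kb xb5 yb34 zb18) (kb xb16 yb48 zb38) (kb xb5 yb34 zb22) (kb xb12 yb59 zb61) (kb xb4 yb30 zb32) (kb xb16 yb48 zb42)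 (kb xb5 yb34 zb39) (kb xb16 yb48 zb45) (kb xb8 yb25 zb16) (kb xb5 yb44 zb46) (kb xb5 yb44 zb51) (kb xb4 yb30 zb41) (kb xb9 yb31 zb51) (kb xb16 yb48 zb54) (kb xb4 yb30 zb44) (kb xb5 yb34 zb37) (kb xb4 yb31 zb8) (kb xb5 yb28 zb26) (kb xb4 yb30 zb39) (kb xb16 yb48 zb61) (kb xb4 yb30 zb40) (kb xb16 yb49 zb1) (kb xb4 yb30 zb42) (kb xb16 yb49 zb3) (kb xb4 yb30 zb43) (kb xb16 yb49 zb5) (kb xb6 yb42 zb27) (kb xb16 yb49 zb6) (kb xb12 yb38 zb45) (kb xb16 yb49 zb7) (kb xb4 yb30 zb47) (kb xb4 yb30 zb48) (kb xb4 yb30 zb46) (kb xb12 yb4 zb18) (kb xb16 yb49 zb11) (kb xb16 yb49 zb12) (kb xb4 yb30 zb51) (kb xb4 yb30 zb50) (kb xb16 yb49 zb15) (kb xb10 yb49 zb5) (kb xb4 yb30 zb55) (kb xb16 yb49 zb20) (kb xb16 yb49 zb18) (kb xb4 yb30 zb56))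
def f_b_9 : D2 → D3 → Pt := @D2.rec (fun _ => D3 → Pt) (@D3.rec (fun _ => Pt) (kb xb8 yb7 zb56) (kb xb16 yb49 zb28) (kb xb4 yb35 zb0) (kb xb8 yb26 zb40) (kb xb5 yb36 zb56) (kb xb4 yb39 zb30) (kb xb4 yb30 zb61) (kb xb6 yb15 zb51) (kb xb4 yb31 zb3) (kb xb16 yb49 zb35) (kb xb4 yb31 zb6) (kb xb16 yb49 zb37) (kb xb16 yb49 zb36) (kb xb4 yb31 zb7) (kb xb16 yb49 zb40) (kb xb16 yb49 zb39) (kb xb16 yb49 zb42) (kb xb16 yb49 zb43) (kb xb5 yb45 zb35) (kb xb16 yb49 zb45) (kb xb16 yb49 zb46) (kb xb4 yb31 zb12) (kb xb15 yb4 zb20) (kb xb15 yb4 zb24) (kb xb4 yb31 zb11) (kb xb16 yb49 zb48) (kb xb16 yb49 zb49) (kb xb5 yb38 zb36) (kb xb5 yb38 zb44) (kb xb4 yb31 zb16) (kb xb16 yb49 zb53) (kb xb16 yb49 zb54) (kb xb4 yb31 zb18) (kb xb16 yb49 zb59) (kb xb16 yb49 zb60) (kb xb4 yb31 zb22) (kb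 xb4 yb31 zb21) (kb xb16 yb50 zb7) (kb xb16 yb50 zb8) (kb xb5 yb38 zb60) (kb xb16 yb50 zb3) (kb xb4 yb31 zb23) (kb xb16 yb50 zb19) (kb xb16 yb50 zb20) (kb xb4 yb31 zb24) (kb xb16 yb50 zb26) (kb xb16 yb50 zb27) (kb xb16 yb50 zb31) (kb xb16 yb50 zb33) (kb xb15 yb22 zb51) (kb xb4 yb31 zb26) (kb xb4 yb31 zb27) (kb xb16 yb50 zb39) (kb xb16 yb6 zb38) (kb xb16 yb50 zb42) (kb xb16 yb5 zb9) (kb xb16 yb5 zb47) (kb xb15 yb18 zb52) (kb xb15 yb36 zb49) (kb xb4 yb31 zb29) (kb xb16 yb50 zb50) (kb xb4 yb31 zb31)) (@D3.rec (fun _ => Pt) (kb xb16 yb50 zb56) (kb xb16 yb50 zb53) (kb xb4 yb31 zb32) (kb xb16 yb50 zb60) (kb xb5 yb46 zb16) (kb xb5 yb39 zb31) (kb xb16 yb51 zb5) (kb xb4 yb49 zb27) (kb xb4 yb31 zb35) (kb xb4 yb31 zb36) (kb xb16 yb51 zb3) (kb xb16 yb51 zb11) (kb xb5 yb57 zb5) (kb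 xb15 yb36 zb27) (kb xb5 yb39 zb40) (kb xb10 yb52 zb59) (kb xb4 yb31 zb38) (kb xb10 yb53 zb1) (kb xb5 yb37 zb27) (kb xb5 yb37 zb61) (kb xb5 yb37 zb51) (kb xb4 yb32 zb35) (kb xb4 yb31 zb44) (kb xb16 yb51 zb20) (kb xb16 yb51 zb19) (kb xb4 yb31 zb45) (kb xb16 yb51 zb24) (kb xb16 yb51 zb23) (kb xb13 yb58 zb38) (kb xb16 yb47 zb59) (kb xb16 yb51 zb27) (kb xb16 yb51 zb29) (kb xb4 yb31 zb53) (kb xb4 yb31 zb51) (kb xb16 yb51 zb30) (kb xb4 yb31 zb52) (kb xb16 yb51 zb32) (kb xb6 yb42 zb17) (kb xb11 yb16 zb45) (kb xb5 yb42 zb29) (kb xb11 yb38 zb3) (kb xb16 yb51 zb34) (kb xb5 yb40 zb59) (kb xb16 yb51 zb39) (kb xb8 yb51 zb23) (kb xb13 yb59 zb35) (kb xb16 yb47 zb25) (kb xb16 yb51 zb43) (kb xb16 yb51 zb45) (kb xb4 yb32 zb5) (kb xb4 yb32 zb6) (kb xb4 yb32 zb1) (kb xb4 yb32 zb3) (kb xb4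 yb32 zb4) (kb xb12 yb31 zb59) (kb xb16 yb51 zb53) (kb xb16 yb51 zb49) (kb xb5 yb40 zb60) (kb xb16 yb51 zb56) (kb xb5 yb40 zb61) (kb xb9 yb2 zb34) (kb xb16 yb51 zb60)) (@D3.rec (fun _ => Pt) (kb xb11 yb16 zb47) (kb xb16 yb52 zb1) (kb xb5 yb41 zb34) (kb xb16 yb52 zb7) (kb xb11 yb16 zb49) (kb xb15 yb50 zb50) (kb xb16 yb52 zb13) (kb xb16 yb47 zb3) (kb xb11 yb27 zb24) (kb xb5 yb42 zb17) (kb xb11 yb16 zb52) (kb xb4 yb32 zb19) (kb xb4 yb32 zb20) (kb xb14 yb53 zb14) (kb xb4 yb32 zb17) (kb xb16 yb52 zb31) (kb xb4 yb32 zb18) (kb xb16 yb52 zb34) (kb xb16 yb52 zb35) (kb xb11 yb16 zb51) (kb xb16 yb52 zb5) (kb xb16 yb52 zb28) (kb xb4 yb32 zb21) (kb xb11 yb11 zb18) (kb xb6 yb9 zb11) (kb xb11 yb11 zb19) (kb xb4 yb32 zb26) (kb xb13 yb30 zb7) (kb xb8 yb49 zb27) (kb xb16 yb52 zb42) (kb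 xb4 yb36 zb24) (kb xb7 yb7 zb59) (kb xb16 yb52 zb51) (kb xb5 yb42 zb36) (kb xb9 yb1 zb60) (kb xb8 yb43 zb51) (kb xb9 yb45 zb4) (kb xb16 yb53 zb1) (kb xb7 yb56 zb22) (kb xb9 yb19 zb34) (kb xb16 yb51 zb18) (kb xb16 yb53 zb9) (kb xb5 yb54 zb38) (kb xb16 yb53 zb12) (kb xb16 yb46 zb11) (kb xb16 yb46 zb12) (kb xb16 yb53 zb19) (kb xb16 yb53 zb21) (kb xb4 yb32 zb45) (kb xb4 yb32 zb46) (kb xb5 yb42 zb47) (kb xb16 yb53 zb28) (kb xb4 yb32 zb43) (kb xb4 yb32 zb44) (kb xb16 yb53 zb33) (kb xb16 yb53 zb34) (kb xb16 yb53 zb27) (kb xb4 yb32 zb47) (kb xb16 yb53 zb36) (kb xb5 yb43 zb11) (kb xb5 yb43 zb38) (kb xb13 yb41 zb45)) (@D3.rec (fun _ => Pt) (kb xb16 yb53 zb44) (kb xb4 yb32 zb59) (kb xb5 yb41 zb21) (kb xb13 yb30 zb6) (kb xb4 yb32 zb56) (kb xb8 yb43 zb24) (kb xb9 yb52 zb19) (kb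 xb7 yb13 zb50) (kb xb16 yb53 zb50) (kb xb16 yb53 zb52) (kb xb4 yb32 zb58) (kb xb16 yb53 zb57) (kb xb16 yb53 zb58) (kb xb16 yb53 zb59) (kb xb5 yb43 zb34) (kb xb16 yb53 zb49) (kb xb12 yb9 zb24) (kb xb5 yb10 zb12) (kb xb12 yb6 zb36) (kb xb4 yb33 zb2) (kb xb16 yb54 zb8) (kb xb5 yb43 zb51) (kb xb5 yb43 zb9) (kb xb11 yb24 zb3) (kb xb5 yb43 zb54) (kb xb16 yb54 zb19) (kb xb16 yb54 zb21) (kb xb5 yb46 zb51) (kb xb4 yb33 zb7) (kb xb16 yb54 zb25) (kb xb14 yb7 zb60) (kb xb16 yb54 zb27) (kb xb16 yb54 zb30) (kb xb4 yb33 zb8) (kb xb16 yb54 zb36) (kb xb9 yb17 zb25) (kb xb16 yb54 zb43) (kb xb5 yb44 zb9) (kb xb16 yb54 zb46) (kb xb4 yb33 zb12) (kb xb16 yb54 zb47) (kb xb16 yb54 zb49) (kb xb4 yb33 zb11) (kb xb16 yb54 zb54) (kb xb11 yb15 zb7) (kb xb5 yb44 zb18) (kb xb4 yb33 zb30) (kb xb7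 yb59 zb37) (kb xb4 yb33 zb13) (kb xb16 yb55 zb3) (kb xb5 yb59 zb52) (kb xb5 yb44 zb26) (kb xb11 yb59 zb20) (kb xb4 yb33 zb15) (kb xb12 yb8 zb51) (kb xb16 yb55 zb8) (kb xb16 yb55 zb9) (kb xb4 yb33 zb16) (kb xb4 yb57 zb27) (kb xb7 yb45 zb11) (kb xb7 yb25 zb53) (kb xb16 yb55 zb13)) (@D3.rec (fun _ => Pt) (kb xb16 yb55 zb15) (kb xb16 yb54 zb35) (kb xb4 yb33 zb18) (kb xb4 yb33 zb19) (kb xb8 yb26 zb52) (kb xb16 yb55 zb21) (kb xb14 yb40 zb58) (kb xb13 yb16 zb58) (kb xb16 yb55 zb24) (kb xb16 yb55 zb25) (kb xb5 yb34 zb30) (kb xb4 yb33 zb21) (kb xb16 yb55 zb42) (kb xb16 yb55 zb40) (kb xb11 yb34 zb57) (kb xb4 yb33 zb22) (kb xb13 yb24 zb21) (kb xb11 yb29 zb23) (kb xb11 yb22 zb37) (kb xb4 yb33 zb52) (kb xb16 yb55 zb49) (kb xb5 yb28 zb34) (kb xb4 yb33 zb55) (kb xb9 yb44 zb45) (kb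 xb11 yb51 zb39) (kb xb16 yb55 zb61) (kb xb5 yb45 zb8) (kb xb16 yb56 zb5) (kb xb16 yb56 zb7) (kb xb16 yb45 zb10) (kb xb5 yb34 zb28) (kb xb11 yb59 zb14) (kb xb13 yb54 zb12) (kb xb4 yb33 zb31) (kb xb4 yb33 zb29) (kb xb16 yb56 zb18) (kb xb16 yb56 zb19) (kb xb12 yb54 zb57) (kb xb16 yb55 zb0) (kb xb9 yb48 zb10) (kb xb5 yb45 zb23) (kb xb11 yb36 zb46) (kb xb16 yb56 zb23) (kb xb16 yb43 zb59) (kb xb16 yb56 zb26) (kb xb4 yb33 zb35) (kb xb16 yb56 zb27) (kb xb4 yb33 zb36) (kb xb16 yb56 zb33) (kb xb16 yb56 zb30) (kb xb9 yb22 zb8) (kb xb5 yb45 zb38) (kb xb16 yb56 zb40) (kb xb16 yb56 zb43) (kb xb4 yb33 zb42) (kb xb4 yb33 zb43) (kb xb4 yb33 zb40) (kb xb16 yb56 zb50) (kb xb16 yb56 zb51) (kb xb16 yb56 zb53) (kb xb10 yb44 zb61) (kb xb5 yb45 zb50)) (@D3.rec (fun _ => Pt) (kb xb16 yb56 zb58)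 (kb xb4 yb33 zb46) (kb xb4 yb33 zb45) (kb xb12 yb29 zb54) (kb xb16 yb57 zb1) (kb xb12 yb3 zb48) (kb xb12 yb3 zb31) (kb xb16 yb55 zb38) (kb xb5 yb46 zb2) (kb xb16 yb57 zb5) (kb xb4 yb33 zb50) (kb xb4 yb33 zb51) (kb xb4 yb33 zb49) (kb xb16 yb52 zb23) (kb xb16 yb57 zb10) (kb xb4 yb33 zb53) (kb xb16 yb51 zb2) (kb xb16 yb57 zb14) (kb xb4 yb33 zb54) (kb xb16 yb57 zb18) (kb xb16 yb57 zb19) (kb xb10 yb44 zb59) (kb xb16 yb57 zb22) (kb xb4 yb33 zb56) (kb xb16 yb57 zb25) (kb xb6 yb50 zb35) (kb xb9 yb14 zb0) (kb xb5 yb48 zb11) (kb xb4 yb33 zb60) (kb xb11 yb6 zb43) (kb xb12 yb44 zb20) (kb xb4 yb48 zb19) (kb xb4 yb48 zb20) (kb xb11 yb33 zb23) (kb xb4 yb34 zb2) (kb xb16 yb57 zb28) (kb xb16 yb57 zb29) (kb xb16 yb57 zb30) (kb xb14 yb50 zb2) (kb xb4 yb34 zb7) (kb xb4 yb34 zb6) (kb xb5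 yb49 zb21) (kb xb4 yb34 zb9) (kb xb5 yb49 zb32) (kb xb5 yb49 zb27) (kb xb4 yb34 zb12) (kb xb11 yb11 zb9) (kb xb9 yb19 zb52) (kb xb5 yb54 zb0) (kb xb4 yb34 zb25) (kb xb16 yb57 zb39) (kb xb12 yb53 zb26) (kb xb4 yb34 zb39) (kb xb4 yb34 zb28) (kb xb4 yb34 zb30) (kb xb13 yb6 zb40) (kb xb16 yb57 zb42) (kb xb13 yb1 zb53) (kb xb4 yb47 zb52) (kb xb4 yb47 zb53) (kb xb4 yb34 zb33) (kb xb16 yb57 zb47)) (@D3.rec (fun _ => Pt) (kb xb16 yb57 zb48) (kb xb4 yb34 zb34) (kb xb16 yb57 zb51) (kb xb4 yb34 zb36) (kb xb16 yb57 zb52) (kb xb4 yb34 zb37) (kb xb16 yb57 zb53) (kb xb8 yb12 zb0) (kb xb4 yb34 zb38) (kb xb16 yb57 zb54) (kb xb10 yb18 zb34) (kb xb11 yb40 zb13) (kb xb5 yb51 zb6) (kb xb4 yb34 zb48) (kb xb15 yb28 zb53) (kb xb4 yb34 zb49) (kb xb16 yb57 zb59) (kb xb16 yb29 zb56) (kb xb11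 yb38 zb51) (kb xb4 yb39 zb33) (kb xb5 yb52 zb5) (kb xb16 yb58 zb8) (kb xb4 yb37 zb20) (kb xb16 yb58 zb12) (kb xb5 yb59 zb1) (kb xb4 yb44 zb19) (kb xb4 yb40 zb28) (kb xb4 yb34 zb54) (kb xb7 yb41 zb30) (kb xb16 yb41 zb33) (kb xb16 yb58 zb21) (kb xb4 yb34 zb55) (kb xb16 yb58 zb27) (kb xb16 yb58 zb25) (kb xb16 yb58 zb26) (kb xb16 yb58 zb32) (kb xb16 yb58 zb35) (kb xb11 yb57 zb8) (kb xb4 yb35 zb3) (kb xb4 yb34 zb59) (kb xb16 yb58 zb44) (kb xb16 yb58 zb43) (kb xb4 yb34 zb60) (kb xb16 yb58 zb48) (kb xb16 yb58 zb47) (kb xb4 yb34 zb61) (kb xb16 yb58 zb51) (kb xb16 yb58 zb53) (kb xb16 yb58 zb56) (kb xb16 yb49 zb33) (kb xb5 yb36 zb57) (kb xb4 yb35 zb10) (kb xb4 yb35 zb2) (kb xb16 yb58 zb41) (kb xb16 yb29 zb61) (kb xb5 yb52 zb57) (kb xb16 yb58 zb42) (kb xb12 yb5 zb28) (kb xb5 yb26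 zb45) (kb xb5 yb0 zb6) (kb xb11 yb55 zb61) (kb xb4 yb35 zb8)) (@D3.rec (fun _ => Pt) (kb xb5 yb53 zb4) (kb xb8 yb56 zb2) (kb xb5 yb53 zb38) (kb xb5 yb53 zb39) (kb xb8 yb9 zb58) (kb xb5 yb45 zb4) (kb xb11 yb4 zb29) (kb xb4 yb35 zb14) (kb xb9 yb19 zb42) (kb xb6 yb0 zb30) (kb xb6 yb7 zb28) (kb xb9 yb8 zb24) (kb xb4 yb35 zb19) (kb xb4 yb58 zb41) (kb xb12 yb40 zb45) (kb xb4 yb35 zb21) (kb xb5 yb57 zb41) (kb xb6 yb6 zb52) (kb xb5 yb53 zb56) (kb xb4 yb36 zb0) (kb xb5 yb57 zb45) (kb xb5 yb57 zb46) (kb xb16 yb59 zb32) (kb xb5 yb54 zb2) (kb xb12 yb40 zb58) (kb xb16 yb59 zb38) (kb xb4 yb43 zb57) (kb xb12 yb39 zb6) (kb xb7 yb2 zb14) (kb xb4 yb43 zb45) (kb xb11 yb49 zb30) (kb xb11 yb40 zb42) (kb xb10 yb18 zb31) (kb xb6 yb8 zb11) (kb xb11 yb40 zb44) (kb xb5 yb56 zb45) (kb xb4 yb35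 zb45) (kb xb5 yb13 zb2) (kb xb5 yb13 zb33) (kb xb11 yb33 zb40) (kb xb5 yb10 zb42) (kb xb5 yb14 zb16) (kb xb6 yb6 zb48) (kb xb4 yb39 zb55) (kb xb10 yb27 zb46) (kb xb5 yb58 zb9) (kb xb16 yb59 zb59) (kb xb17 yb0 zb0) (kb xb4 yb35 zb39) (kb xb17 yb0 zb5) (kb xb5 yb16 zb48) (kb xb4 yb35 zb47) (kb xb10 yb18 zb32) (kb xb4 yb44 zb26) (kb xb4 yb35 zb43) (kb xb16 yb59 zb46) (kb xb17 yb0 zb14) (kb xb6 yb10 zb21) (kb xb5 yb55 zb26) (kb xb5 yb47 zb15) (kb xb9 yb22 zb36) (kb xb11 yb29 zb36)) (@D3.rec (fun _ => Pt) (kb xb17 yb0 zb22) (kb xb6 yb25 zb55) (kb xb7 yb43 zb8) (kb xb14 yb59 zb26) (kb xb14 yb59 zb34) (kb xb4 yb35 zb56) (kb xb6 yb46 zb51) (kb xb4 yb37 zb22) (kb xb5 yb53 zb19) (kb xb17 yb0 zb34) (kb xb17 yb0 zb36) (kb xb8 yb48 zb11) (kb xb7 yb8 zb27) (kb xb7 yb17 zb30) (kb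 xb16 yb59 zb29) (kb xb5 yb55 zb57) (kb xb5 yb58 zb43) (kb xb5 yb55 zb56) (kb xb4 yb37 zb28) (kb xb5 yb58 zb46) (kb xb6 yb3 zb26) (kb xb17 yb0 zb52) (kb xb4 yb38 zb24) (kb xb4 yb46 zb43) (kb xb9 yb7 zb11) (kb xb13 yb16 zb52) (kb xb15 yb7 zb51) (kb xb14 yb59 zb37) (kb xb17 yb0 zb61) (kb xb17 yb1 zb2) (kb xb6 yb9 zb13) (kb xb6 yb9 zb14) (kb xb8 yb48 zb52) (kb xb6 yb13 zb11) (kb xb17 yb1 zb13) (kb xb8 yb51 zb36) (kb xb17 yb1 zb19) (kb xb6 yb9 zb17) (kb xb4 yb36 zb14) (kb xb17 yb1 zb23) (kb xb9 yb13 zb31) (kb xb12 yb28 zb18) (kb xb4 yb43 zb46) (kb xb4 yb36 zb34) (kb xb4 yb36 zb18) (kb xb9 yb48 zb22) (kb xb17 yb1 zb27) (kb xb4 yb36 zb19) (kb xb17 yb1 zb32) (kb xb17 yb1 zb33) (kb xb17 yb1 zb35) (kb xb11 yb54 zb54) (kb xb5 yb56 zb6) (kb xb4 yb38 zb25) (kb xb17 yb1 zb44) (kb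 xb16 yb26 zb0) (kb xb17 yb1 zb48) (kb xb16 yb52 zb47) (kb xb4 yb36 zb25) (kb xb17 yb1 zb52) (kb xb17 yb1 zb51) (kb xb17 yb1 zb56)) (@D3.rec (fun _ => Pt) (kb xb17 yb1 zb58) (kb xb17 yb1 zb61) (kb xb16 yb43 zb61) (kb xb5 yb23 zb13) (kb xb4 yb36 zb36) (kb xb17 yb1 zb30) (kb xb5 yb57 zb15) (kb xb4 yb44 zb24) (kb xb4 yb36 zb30) (kb xb16 yb57 zb7) (kb xb4 yb44 zb20) (kb xb4 yb36 zb32) (kb xb4 yb36 zb33) (kb xb17 yb1 zb25) (kb xb5 yb57 zb26) (kb xb5 yb35 zb56) (kb xb17 yb2 zb18) (kb xb13 yb52 zb21) (kb xb17 yb2 zb19) (kb xb8 yb1 zb14) (kb xb6 yb10 zb30) (kb xb6 yb20 zb9) (kb xb12 yb28 zb48) (kb xb5 yb58 zb36) (kb xb6 yb8 zb13) (kb xb4 yb36 zb44) (kb xb12 yb31 zb44) (kb xb14 yb45 zb33) (kb xb13 yb47 zb30) (kb xb5 yb47 zb48) (kb xb4 yb37 zb16) (kb xb4 yb37 zb17) (kb xb12 yb31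 zb32) (kb xb5 yb53 zb32) (kb xb5 yb53 zb33) (kb xb17 yb2 zb33) (kb xb14 yb59 zb28) (kb xb6 yb13 zb31) (kb xb9 yb19 zb46) (kb xb5 yb44 zb25) (kb xb4 yb36 zb61) (kb xb4 yb37 zb0) (kb xb4 yb37 zb3) (kb xb14 yb1 zb39) (kb xb9 yb19 zb44) (kb xb17 yb2 zb45) (kb xb8 yb46 zb8) (kb xb5 yb44 zb28) (kb xb17 yb2 zb37) (kb xb17 yb2 zb38) (kb xb17 yb2 zb39) (kb xb5 yb54 zb51) (kb xb8 yb38 zb58) (kb xb17 yb2 zb56) (kb xb17 yb2 zb59) (kb xb13 yb50 zb45) (kb xb16 yb25 zb54) (kb xb4 yb37 zb6) (kb xb17 yb3 zb0) (kb xb4 yb39 zb52) (kb xb12 yb9 zb32) (kb xb5 yb58 zb10)) (@D3.rec (fun _ => Pt) (kb xb6 yb34 zb21) (kb xb6 yb34 zb60) (kb xb4 yb37 zb12) (kb xb14 yb14 zb20) (kb xb6 yb35 zb1) (kb xb4 yb43 zb13) (kb xb11 yb40 zb14) (kb xb6 yb35 zb5) (kb xb17 yb3 zb10) (kb xb12 yb58 zb41) (kb xb6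 yb20 zb18) (kb xb7 yb42 zb43) (kb xb17 yb0 zb33) (kb xb4 yb45 zb23) (kb xb5 yb58 zb29) (kb xb9 yb21 zb5) (kb xb5 yb58 zb31) (kb xb14 yb26 zb54) (kb xb16 yb58 zb10) (kb xb16 yb58 zb11) (kb xb12 yb9 zb51) (kb xb14 yb2 zb54) (kb xb4 yb37 zb23) (kb xb11 yb21 zb46) (kb xb11 yb40 zb47) (kb xb5 yb55 zb55) (kb xb4 yb37 zb35) (kb xb4 yb37 zb27) (kb xb6 yb30 zb54) (kb xb13 yb26 zb57) (kb xb17 yb3 zb37) (kb xb9 yb51 zb25) (kb xb16 yb26 zb39) (kb xb17 yb0 zb48) (kb xb16 yb26 zb1) (kb xb12 yb9 zb59) (kb xb17 yb3 zb49) (kb xb4 yb37 zb31) (kb xb4 yb37 zb32) (kb xb17 yb3 zb50) (kb xb17 yb3 zb52) (kb xb17 yb3 zb56) (kb xb12 yb58 zb35) (kb xb14 yb12 zb18) (kb xb17 yb3 zb60) (kb xb5 yb59 zb6) (kb xb5 yb59 zb7) (kb xb5 yb59 zb8) (kb xb13 yb55 zb37) (kb xb6 yb3 zb40) (kb xb7 yb51 zb25)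 (kb xb5 yb59 zb12) (kb xb7 yb23 zb56) (kb xb17 yb4 zb7) (kb xb17 yb4 zb10) (kb xb7 yb50 zb41) (kb xb4 yb39 zb15) (kb xb4 yb37 zb42) (kb xb7 yb44 zb26) (kb xb17 yb4 zb21) (kb xb9 yb48 zb51) (kb xb17 yb4 zb16)) (@D3.rec (fun _ => Pt) (kb xb17 yb4 zb17) (kb xb4 yb37 zb43) (kb xb14 yb11 zb16) (kb xb17 yb4 zb29) (kb xb10 yb4 zb0) (kb xb4 yb37 zb44) (kb xb6 yb20 zb25) (kb xb17 yb4 zb35) (kb xb12 yb49 zb26) (kb xb4 yb42 zb61) (kb xb6 yb1 zb42) (kb xb17 yb4 zb40) (kb xb4 yb37 zb53) (kb xb4 yb37 zb54) (kb xb4 yb37 zb48) (kb xb17 yb4 zb45) (kb xb6 yb37 zb37) (kb xb17 yb4 zb48) (kb xb6 yb37 zb44) (kb xb11 yb51 zb5) (kb xb12 yb28 zb27) (kb xb14 yb32 zb56) (kb xb5 yb59 zb57) (kb xb4 yb48 zb32) (kb xb4 yb38 zb40) (kb xb5 yb59 zb61) (kb xb17 yb4 zb61) (kb xb17 yb4 zb44) (kb xb4 yb37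 zb57) (kb xb10 yb6 zb5) (kb xb17 yb5 zb8) (kb xb17 yb5 zb10) (kb xb17 yb5 zb3) (kb xb17 yb5 zb4) (kb xb4 yb48 zb1) (kb xb4 yb38 zb53) (kb xb17 yb5 zb15) (kb xb6 yb0 zb21) (kb xb6 yb0 zb22) (kb xb6 yb28 zb23) (kb xb17 yb5 zb21) (kb xb5 yb56 zb36) (kb xb4 yb38 zb1) (kb xb9 yb50 zb27) (kb xb17 yb5 zb22) (kb xb9 yb50 zb29) (kb xb9 yb49 zb0) (kb xb17 yb5 zb33) (kb xb6 yb35 zb37) (kb xb4 yb59 zb13) (kb xb4 yb38 zb6) (kb xb4 yb59 zb14) (kb xb5 yb56 zb31) (kb xb17 yb5 zb39) (kb xb17 yb5 zb40) (kb xb4 yb38 zb7) (kb xb17 yb5 zb44) (kb xb7 yb36 zb19) (kb xb17 yb5 zb52) (kb xb11 yb48 zb55) (kb xb6 yb40 zb1) (kb xb6 yb39 zb60)) (@D3.rec (fun _ => Pt) (kb xb4 yb38 zb11) (kb xb11 yb48 zb19) (kb xb17 yb5 zb59) (kb xb9 yb49 zb37) (kb xb4 yb38 zb12) (kb xb4 yb59 zb19) (kb xb8 yb11 zb13)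 (kb xb9 yb49 zb11) (kb xb17 yb6 zb10) (kb xb9 yb40 zb48) (kb xb14 yb41 zb51) (kb xb6 yb40 zb35) (kb xb4 yb39 zb8) (kb xb6 yb25 zb22) (kb xb11 yb8 zb18) (kb xb4 yb38 zb17) (kb xb4 yb38 zb18) (kb xb17 yb6 zb22) (kb xb4 yb38 zb16) (kb xb17 yb6 zb24) (kb xb10 yb23 zb16) (kb xb6 yb1 zb9) (kb xb4 yb39 zb5) (kb xb17 yb6 zb36) (kb xb14 yb20 zb11) (kb xb4 yb39 zb6) (kb xb11 yb35 zb39) (kb xb17 yb6 zb21) (kb xb17 yb2 zb23) (kb xb4 yb38 zb21) (kb xb4 yb38 zb22) (kb xb4 yb38 zb20) (kb xb17 yb6 zb44) (kb xb12 yb16 zb8) (kb xb17 yb6 zb48) (kb xb11 yb24 zb9) (kb xb17 yb6 zb43) (kb xb16 yb26 zb3) (kb xb17 yb6 zb53) (kb xb17 yb0 zb55) (kb xb17 yb6 zb60) (kb xb17 yb1 zb43) (kb xb10 yb37 zb3) (kb xb17 yb7 zb5) (kb xb17 yb7 zb8) (kb xb4 yb38 zb27) (kb xb17 yb7 zb12) (kb xb4 yb38 zb28)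 (kb xb6 yb3 zb9) (kb xb5 yb59 zb39) (kb xb6 yb25 zb28) (kb xb6 yb1 zb44) (kb xb6 yb1 zb45) (kb xb4 yb38 zb30) (kb xb17 yb7 zb20) (kb xb6 yb10 zb25) (kb xb17 yb7 zb21) (kb xb4 yb43 zb14) (kb xb17 yb7 zb24) (kb xb7 yb45 zb24) (kb xb4 yb43 zb16) (kb xb4 yb43 zb17)) (@D3.rec (fun _ => Pt) (kb xb4 yb38 zb35) (kb xb17 yb7 zb32) (kb xb11 yb1 zb57) (kb xb17 yb7 zb31) (kb xb6 yb16 zb58) (kb xb16 yb52 zb30) (kb xb4 yb38 zb42) (kb xb4 yb38 zb39) (kb xb17 yb7 zb42) (kb xb10 yb57 zb47) (kb xb6 yb12 zb32) (kb xb11 yb16 zb14) (kb xb4 yb38 zb41) (kb xb6 yb44 zb44) (kb xb4 yb38 zb43) (kb xb17 yb7 zb43) (kb xb17 yb7 zb44) (kb xb6 yb44 zb16) (kb xb6 yb0 zb6) (kb xb6 yb2 zb16) (kb xb4 yb38 zb45) (kb xb6 yb7 zb38) (kb xb4 yb41 zb49) (kb xb17 yb7 zb48) (kb xb17 yb6 zb19) (kb xb4 yb38 zb49)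 (kb xb7 yb43 zb13) (kb xb17 yb7 zb49) (kb xb17 yb7 zb50) (kb xb4 yb38 zb50) (kb xb6 yb8 zb57) (kb xb9 yb8 zb40) (kb xb6 yb0 zb5) (kb xb4 yb38 zb60) (kb xb11 yb35 zb59) (kb xb17 yb7 zb54) (kb xb4 yb38 zb55) (kb xb5 yb57 zb59) (kb xb14 yb33 zb31) (kb xb6 yb2 zb29) (kb xb4 yb38 zb58) (kb xb6 yb49 zb52) (kb xb4 yb38 zb59) (kb xb12 yb50 zb6) (kb xb17 yb4 zb39) (kb xb11 yb8 zb30) (kb xb17 yb7 zb19) (kb xb6 yb2 zb51) (kb xb6 yb2 zb52) (kb xb17 yb8 zb6) (kb xb13 yb2 zb32) (kb xb6 yb19 zb42) (kb xb17 yb6 zb42) (kb xb13 yb55 zb48) (kb xb11 yb27 zb49) (kb xb6 yb2 zb43) (kb xb12 yb17 zb22) (kb xb4 yb39 zb7) (kb xb4 yb39 zb4) (kb xb11 yb5 zb54) (kb xb17 yb8 zb21) (kb xb17 yb6 zb39)) (@D3.rec (fun _ => Pt) (kb xb9 yb5 zb26) (kb xb6 yb3 zb10) (kb xb17 yb8 zb23) (kb xb17 yb6 zb17)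 (kb xb15 yb8 zb8) (kb xb4 yb39 zb12) (kb xb4 yb39 zb11) (kb xb17 yb8 zb29) (kb xb4 yb39 zb14) (kb xb17 yb4 zb5) (kb xb6 yb13 zb7) (kb xb5 yb58 zb47) (kb xb7 yb53 zb15) (kb xb4 yb39 zb19) (kb xb4 yb39 zb18) (kb xb17 yb8 zb35) (kb xb5 yb56 zb57) (kb xb11 yb42 zb16) (kb xb17 yb8 zb34) (kb xb7 yb50 zb46) (kb xb4 yb39 zb22) (kb xb4 yb39 zb21) (kb xb17 yb8 zb41) (kb xb14 yb4 zb29) (kb xb17 yb7 zb2) (kb xb10 yb58 zb23) (kb xb6 yb55 zb34) (kb xb4 yb39 zb25) (kb xb4 yb39 zb24) (kb xb17 yb8 zb47) (kb xb8 yb59 zb7) (kb xb17 yb8 zb50) (kb xb17 yb8 zb46) (kb xb4 yb39 zb26) (kb xb17 yb8 zb53) (kb xb4 yb39 zb27) (kb xb17 yb8 zb59) (kb xb12 yb41 zb37) (kb xb17 yb9 zb0) (kb xb6 yb3 zb61) (kb xb4 yb39 zb29) (kb xb5 yb52 zb54) (kb xb4 yb39 zb32) (kb xb17 yb9 zb3) (kb xb17 yb9 zb4) (kb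 xb14 yb20 zb43) (kb xb16 yb58 zb5) (kb xb7 yb14 zb27) (kb xb12 yb6 zb61) (kb xb17 yb9 zb8) (kb xb12 yb23 zb14) (kb xb4 yb39 zb40) (kb xb4 yb39 zb38) (kb xb17 yb9 zb16) (kb xb17 yb9 zb17) (kb xb4 yb39 zb39) (kb xb7 yb49 zb10) (kb xb7 yb49 zb11) (kb xb6 yb7 zb30) (kb xb4 yb39 zb43) (kb xb14 yb15 zb49) (kb xb10 yb16 zb6)) (@D3.rec (fun _ => Pt) (kb xb6 yb38 zb20) (kb xb11 yb35 zb14) (kb xb10 yb4 zb30) (kb xb5 yb5 zb4) (kb xb17 yb9 zb31) (kb xb5 yb5 zb54) (kb xb11 yb24 zb13) (kb xb12 yb28 zb52) (kb xb4 yb39 zb49) (kb xb17 yb9 zb39) (kb xb17 yb3 zb5) (kb xb17 yb9 zb45) (kb xb5 yb6 zb37) (kb xb4 yb39 zb54) (kb xb13 yb1 zb22) (kb xb6 yb8 zb21) (kb xb17 yb3 zb6) (kb xb4 yb39 zb53) (kb xb17 yb9 zb50) (kb xb16 yb59 zb56) (kb xb17 yb3 zb24) (kb xb17 yb9 zb52) (kb xb17 yb9 zb54)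 (kb xb4 yb39 zb58) (kb xb9 yb48 zb33) (kb xb9 yb47 zb50) (kb xb6 yb11 zb5) (kb xb10 yb0 zb18) (kb xb17 yb9 zb58) (kb xb6 yb11 zb15) (kb xb6 yb11 zb12) (kb xb4 yb40 zb0) (kb xb5 yb16 zb52) (kb xb17 yb10 zb0) (kb xb17 yb9 zb44) (kb xb10 yb4 zb36) (kb xb6 yb6 zb55) (kb xb6 yb28 zb47) (kb xb4 yb40 zb4) (kb xb4 yb40 zb5) (kb xb5 yb45 zb59) (kb xb4 yb40 zb7) (kb xb4 yb40 zb8) (kb xb17 yb7 zb45) (kb xb17 yb10 zb9) (kb xb6 yb20 zb37) (kb xb6 yb20 zb52) (kb xb8 yb22 zb58) (kb xb17 yb10 zb12) (kb xb4 yb40 zb13) (kb xb17 yb10 zb18) (kb xb9 yb21 zb57) (kb xb6 yb18 zb6) (kb xb4 yb43 zb25) (kb xb17 yb10 zb23) (kb xb15 yb16 zb30) (kb xb8 yb33 zb34) (kb xb4 yb40 zb16) (kb xb17 yb10 zb27) (kb xb7 yb39 zb35) (kb xb13 yb20 zb45) (kb xb4 yb40 zb36)) (@D3.rec (fun _ => Pt) (kb xb4 yb40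 zb18) (kb xb4 yb40 zb19) (kb xb17 yb10 zb32) (kb xb17 yb10 zb38) (kb xb17 yb10 zb41) (kb xb17 yb10 zb33) (kb xb17 yb10 zb34) (kb xb15 yb30 zb25) (kb xb4 yb41 zb8) (kb xb8 yb12 zb36) (kb xb14 yb25 zb58) (kb xb4 yb44 zb58) (kb xb6 yb16 zb36) (kb xb11 yb33 zb24) (kb xb14 yb23 zb45) (kb xb5 yb57 zb33) (kb xb4 yb44 zb48) (kb xb4 yb40 zb27) (kb xb17 yb10 zb49) (kb xb16 yb58 zb20) (kb xb17 yb10 zb55) (kb xb13 yb16 zb36) (kb xb12 yb10 zb28) (kb xb7 yb41 zb9) (kb xb4 yb40 zb31) (kb xb17 yb11 zb0) (kb xb5 yb51 zb30) (kb xb9 yb22 zb0) (kb xb4 yb40 zb34) (kb xb16 yb24 zb34) (kb xb17 yb11 zb5) (kb xb4 yb40 zb35) (kb xb17 yb11 zb11) (kb xb17 yb10 zb31) (kb xb17 yb11 zb16) (kb xb4 yb40 zb40) (kb xb13 yb20 zb49) (kb xb5 yb55 zb4) (kb xb4 yb40 zb43) (kb xb4 yb40 zb44) (kb xb4 yb40 zb39)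 (kb xb17 yb11 zb27) (kb xb5 yb45 zb24) (kb xb17 yb11 zb34) (kb xb17 yb11 zb20) (kb xb17 yb11 zb21) (kb xb4 yb40 zb41) (kb xb17 yb11 zb43) (kb xb17 yb11 zb44) (kb xb4 yb40 zb42) (kb xb17 yb11 zb52) (kb xb7 yb41 zb12) (kb xb17 yb11 zb54) (kb xb12 yb46 zb3) (kb xb17 yb11 zb59) (kb xb17 yb11 zb24) (kb xb4 yb40 zb48) (kb xb14 yb23 zb60) (kb xb11 yb35 zb41) (kb xb11 yb35 zb42) (kb xb17 yb12 zb3) (kb xb6 yb12 zb19)) (@D3.rec (fun _ => Pt) (kb xb12 yb50 zb15) (kb xb6 yb31 zb42) (kb xb4 yb40 zb49) (kb xb17 yb12 zb7) (kb xb12 yb9 zb1) (kb xb11 yb20 zb6) (kb xb5 yb42 zb52) (kb xb6 yb11 zb52) (kb xb4 yb40 zb51) (kb xb17 yb12 zb17) (kb xb17 yb12 zb15) (kb xb4 yb40 zb52) (kb xb14 yb26 zb11) (kb xb17 yb12 zb19) (kb xb11 yb6 zb30) (kb xb17 yb12 zb20) (kb xb17 yb12 zb25) (kb xb4 yb41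 zb0) (kb xb4 yb49 zb31) (kb xb4 yb40 zb56) (kb xb17 yb12 zb29) (kb xb6 yb28 zb30) (kb xb4 yb40 zb58) (kb xb4 yb40 zb59) (kb xb17 yb12 zb32) (kb xb9 yb3 zb35) (kb xb17 yb12 zb33) (kb xb12 yb55 zb23) (kb xb11 yb6 zb8) (kb xb4 yb40 zb61) (kb xb13 yb56 zb32) (kb xb7 yb37 zb32) (kb xb14 yb26 zb0) (kb xb4 yb41 zb2) (kb xb17 yb12 zb37) (kb xb17 yb12 zb38) (kb xb6 yb34 zb48) (kb xb4 yb41 zb5) (kb xb4 yb41 zb6) (kb xb8 yb11 zb49) (kb xb17 yb12 zb43) (kb xb4 yb41 zb11) (kb xb17 yb12 zb44) (kb xb4 yb41 zb16) (kb xb17 yb12 zb47) (kb xb5 yb54 zb10) (kb xb9 yb19 zb25) (kb xb6 yb33 zb27) (kb xb17 yb12 zb53) (kb xb12 yb7 zb32) (kb xb11 yb36 zb16) (kb xb16 yb57 zb34) (kb xb4 yb41 zb34) (kb xb11 yb36 zb18) (kb xb11 yb58 zb40) (kb xb9 yb20 zb59) (kb xb17 yb13 zb0) (kb xb4 yb41 zb30) (kb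 xb17 yb13 zb5) (kb xb4 yb41 zb33) (kb xb17 yb12 zb57) (kb xb17 yb13 zb7)) (@D3.rec (fun _ => Pt) (kb xb8 yb49 zb38) (kb xb6 yb16 zb53) (kb xb4 yb41 zb37) (kb xb12 yb30 zb53) (kb xb17 yb13 zb9) (kb xb17 yb13 zb10) (kb xb11 yb39 zb0) (kb xb4 yb41 zb41) (kb xb17 yb13 zb11) (kb xb4 yb41 zb43) (kb xb17 yb13 zb14) (kb xb6 yb25 zb51) (kb xb6 yb18 zb3) (kb xb4 yb41 zb48) (kb xb17 yb13 zb16) (kb xb4 yb41 zb52) (kb xb4 yb41 zb51) (kb xb17 yb13 zb19) (kb xb11 yb19 zb14) (kb xb4 yb41 zb54) (kb xb4 yb41 zb55) (kb xb4 yb41 zb56) (kb xb17 yb13 zb26) (kb xb4 yb41 zb58) (kb xb4 yb41 zb59) (kb xb17 yb13 zb33) (kb xb17 yb13 zb36) (kb xb17 yb13 zb13) (kb xb12 yb12 zb39) (kb xb10 yb53 zb22) (kb xb17 yb13 zb41) (kb xb15 yb48 zb7) (kb xb17 yb13 zb43) (kb xb4 yb42 zb4) (kb xb10 yb14 zb31)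 (kb xb6 yb21 zb52) (kb xb11 yb29 zb0) (kb xb12 yb13 zb58) (kb xb6 yb29 zb45) (kb xb17 yb13 zb51) (kb xb4 yb42 zb9) (kb xb12 yb50 zb49) (kb xb4 yb42 zb11) (kb xb8 yb11 zb50) (kb xb4 yb42 zb12) (kb xb17 yb13 zb60) (kb xb17 yb14 zb1) (kb xb17 yb14 zb5) (kb xb6 yb22 zb25) (kb xb4 yb42 zb15) (kb xb17 yb14 zb8) (kb xb15 yb48 zb38) (kb xb17 yb14 zb10) (kb xb8 yb39 zb55) (kb xb6 yb22 zb41) (kb xb17 yb14 zb13) (kb xb6 yb22 zb48) (kb xb4 yb42 zb18) (kb xb17 yb14 zb17) (kb xb17 yb14 zb18) (kb xb15 yb47 zb22) (kb xb6 yb22 zb56)) (@D3.rec (fun _ => Pt) (kb xb17 yb14 zb24) (kb xb16 yb16 zb40) (kb xb6 yb22 zb61) (kb xb4 yb42 zb21) (kb xb6 yb21 zb18) (kb xb17 yb14 zb29) (kb xb4 yb42 zb24) (kb xb17 yb14 zb33) (kb xb12 yb36 zb41) (kb xb4 yb42 zb25) (kb xb17 yb14 zb38) (kb xb17 yb14 zb37)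 (kb xb17 yb14 zb41) (kb xb6 yb24 zb4) (kb xb17 yb14 zb43) (kb xb4 yb42 zb28) (kb xb17 yb14 zb46) (kb xb17 yb14 zb47) (kb xb11 yb59 zb49) (kb xb4 yb42 zb32) (kb xb6 yb24 zb14) (kb xb4 yb42 zb31) (kb xb17 yb14 zb58) (kb xb17 yb14 zb55) (kb xb4 yb42 zb33) (kb xb9 yb17 zb46) (kb xb17 yb14 zb60) (kb xb8 yb50 zb26) (kb xb7 yb5 zb50) (kb xb17 yb15 zb7) (kb xb8 yb50 zb41) (kb xb4 yb42 zb42) (kb xb4 yb42 zb39) (kb xb17 yb15 zb13) (kb xb9 yb2 zb39) (kb xb4 yb42 zb40) (kb xb17 yb15 zb18) (kb xb16 yb51 zb42) (kb xb17 yb15 zb0) (kb xb17 yb15 zb23) (kb xb16 yb31 zb58) (kb xb5 yb54 zb8) (kb xb9 yb7 zb8) (kb xb7 yb57 zb15) (kb xb9 yb9 zb44) (kb xb8 yb38 zb19) (kb xb9 yb9 zb38) (kb xb8 yb47 zb0) (kb xb13 yb41 zb0) (kb xb12 yb8 zb42) (kb xb17 yb15 zb44) (kb xb7 yb30 zb37) (kb xb9 yb5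 zb47) (kb xb14 yb11 zb30) (kb xb11 yb45 zb20) (kb xb17 yb3 zb15) (kb xb6 yb3 zb12) (kb xb12 yb38 zb0) (kb xb14 yb11 zb28) (kb xb4 yb43 zb12) (kb xb17 yb3 zb14) (kb xb6 yb44 zb48)) (@D3.rec (fun _ => Pt) (kb xb17 yb7 zb23) (kb xb6 yb40 zb47) (kb xb4 yb43 zb15) (kb xb17 yb15 zb58) (kb xb17 yb15 zb59) (kb xb17 yb15 zb60) (kb xb11 yb1 zb49) (kb xb4 yb43 zb20) (kb xb12 yb45 zb17) (kb xb4 yb43 zb23) (kb xb15 yb43 zb7) (kb xb15 yb47 zb23) (kb xb12 yb13 zb54) (kb xb7 yb24 zb40) (kb xb17 yb16 zb2) (kb xb17 yb16 zb3) (kb xb4 yb43 zb29) (kb xb11 yb27 zb12) (kb xb17 yb16 zb5) (kb xb4 yb43 zb32) (kb xb6 yb27 zb3) (kb xb12 yb52 zb54) (kb xb4 yb43 zb35) (kb xb4 yb43 zb36) (kb xb17 yb16 zb16) (kb xb17 yb16 zb17) (kb xb14 yb46 zb18) (kb xb6 yb27 zb22) (kb xb4 yb43 zb38) (kb xb11 yb48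 zb39) (kb xb15 yb25 zb55) (kb xb8 yb37 zb29) (kb xb4 yb43 zb40) (kb xb14 yb16 zb42) (kb xb4 yb43 zb41) (kb xb17 yb16 zb30) (kb xb4 yb43 zb44) (kb xb17 yb16 zb35) (kb xb7 yb31 zb33) (kb xb12 yb14 zb8) (kb xb4 yb43 zb49) (kb xb12 yb13 zb59) (kb xb12 yb13 zb53) (kb xb4 yb43 zb53) (kb xb12 yb39 zb31) (kb xb4 yb43 zb55) (kb xb17 yb16 zb42) (kb xb12 yb53 zb24) (kb xb9 yb21 zb56) (kb xb17 yb16 zb43) (kb xb6 yb56 zb35) (kb xb17 yb16 zb47) (kb xb6 yb30 zb58) (kb xb6 yb30 zb59) (kb xb17 yb16 zb52) (kb xb17 yb16 zb53) (kb xb4 yb44 zb1) (kb xb17 yb16 zb55) (kb xb4 yb44 zb2) (kb xb9 yb17 zb55) (kb xb4 yb44 zb4) (kb xb6 yb40 zb4)) (@D3.rec (fun _ => Pt) (kb xb17 yb16 zb60) (kb xb12 yb1 zb55) (kb xb7 yb31 zb61) (kb xb4 yb44 zb6) (kb xb17 yb17 zb4) (kb xb9 yb10 zb15) (kb xb17 yb17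 zb7) (kb xb7 yb37 zb31) (kb xb4 yb44 zb8) (kb xb16 yb48 zb47) (kb xb17 yb17 zb9) (kb xb6 yb9 zb51) (kb xb4 yb44 zb11) (kb xb17 yb17 zb14) (kb xb17 yb17 zb12) (kb xb17 yb17 zb13) (kb xb6 yb31 zb41) (kb xb17 yb17 zb17) (kb xb14 yb25 zb61) (kb xb7 yb33 zb61) (kb xb6 yb58 zb49) (kb xb13 yb5 zb24) (kb xb13 yb3 zb51) (kb xb4 yb44 zb17) (kb xb17 yb17 zb26) (kb xb17 yb17 zb27) (kb xb14 yb23 zb37) (kb xb14 yb23 zb38) (kb xb17 yb17 zb32) (kb xb14 yb23 zb40) (kb xb17 yb17 zb39) (kb xb17 yb2 zb14) (kb xb13 yb11 zb10) (kb xb4 yb44 zb22) (kb xb17 yb17 zb44) (kb xb17 yb17 zb45) (kb xb17 yb2 zb11) (kb xb17 yb2 zb12) (kb xb6 yb11 zb24) (kb xb12 yb23 zb54) (kb xb17 yb0 zb12) (kb xb17 yb0 zb13) (kb xb12 yb51 zb34) (kb xb17 yb17 zb51) (kb xb4 yb44 zb29) (kb xb14 yb28 zb45) (kb xb17 yb17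 zb54) (kb xb4 yb48 zb29) (kb xb17 yb17 zb61) (kb xb4 yb44 zb31) (kb xb17 yb18 zb4) (kb xb14 yb12 zb50) (kb xb10 yb19 zb2) (kb xb4 yb44 zb33) (kb xb17 yb18 zb9) (kb xb4 yb44 zb34) (kb xb9 yb20 zb48) (kb xb9 yb15 zb51) (kb xb6 yb19 zb5) (kb xb12 yb0 zb4) (kb xb11 yb58 zb43) (kb xb11 yb27 zb38)) (@D3.rec (fun _ => Pt) (kb xb9 yb16 zb27) (kb xb4 yb44 zb39) (kb xb17 yb18 zb16) (kb xb4 yb44 zb41) (kb xb4 yb44 zb42) (kb xb17 yb18 zb18) (kb xb4 yb44 zb44) (kb xb4 yb44 zb45) (kb xb9 yb4 zb50) (kb xb17 yb18 zb23) (kb xb17 yb18 zb24) (kb xb4 yb44 zb46) (kb xb4 yb44 zb47) (kb xb17 yb18 zb30) (kb xb16 yb58 zb1) (kb xb4 yb44 zb53) (kb xb14 yb12 zb5) (kb xb14 yb23 zb30) (kb xb4 yb44 zb54) (kb xb4 yb44 zb51) (kb xb17 yb18 zb45) (kb xb4 yb44 zb52) (kb xb17 yb18 zb48) (kb xb17 yb18 zb52)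 (kb xb17 yb18 zb54) (kb xb17 yb18 zb34) (kb xb17 yb18 zb35) (kb xb17 yb18 zb61) (kb xb11 yb29 zb37) (kb xb6 yb59 zb56) (kb xb4 yb44 zb56) (kb xb8 yb0 zb34) (kb xb17 yb19 zb2) (kb xb17 yb19 zb3) (kb xb5 yb58 zb14) (kb xb5 yb58 zb15) (kb xb9 yb7 zb60) (kb xb17 yb19 zb6) (kb xb5 yb58 zb23) (kb xb9 yb26 zb24) (kb xb4 yb44 zb60) (kb xb17 yb19 zb9) (kb xb16 yb53 zb60) (kb xb17 yb19 zb10) (kb xb4 yb48 zb44) (kb xb4 yb45 zb40) (kb xb4 yb45 zb1) (kb xb4 yb45 zb2) (kb xb17 yb19 zb12) (kb xb17 yb19 zb14) (kb xb15 yb5 zb37) (kb xb17 yb19 zb15) (kb xb6 yb35 zb23) (kb xb17 yb19 zb18) (kb xb4 yb46 zb1) (kb xb4 yb45 zb8) (kb xb12 yb9 zb34) (kb xb17 yb19 zb23) (kb xb17 yb19 zb22) (kb xb6 yb35 zb32) (kb xb17 yb19 zb28) (kb xb17 yb19 zb29)) (@D3.rec (fun _ => Pt) (kb xb6 yb0 zb27) (kb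 xb4 yb46 zb17) (kb xb4 yb45 zb12) (kb xb16 yb24 zb18) (kb xb14 yb34 zb58) (kb xb6 yb0 zb38) (kb xb12 yb10 zb21) (kb xb4 yb46 zb26) (kb xb4 yb45 zb14) (kb xb4 yb45 zb15) (kb xb17 yb19 zb36) (kb xb17 yb19 zb38) (kb xb7 yb43 zb56) (kb xb11 yb27 zb37) (kb xb14 yb16 zb9) (kb xb4 yb45 zb17) (kb xb6 yb36 zb37) (kb xb17 yb19 zb45) (kb xb11 yb47 zb7) (kb xb4 yb46 zb40) (kb xb4 yb46 zb41) (kb xb12 yb9 zb58) (kb xb12 yb10 zb25) (kb xb4 yb45 zb21) (kb xb14 yb16 zb16) (kb xb17 yb20 zb2) (kb xb4 yb45 zb24) (kb xb4 yb45 zb25) (kb xb16 yb24 zb46) (kb xb17 yb19 zb60) (kb xb17 yb19 zb61) (kb xb4 yb45 zb22) (kb xb17 yb20 zb18) (kb xb17 yb3 zb20) (kb xb17 yb3 zb21) (kb xb17 yb20 zb23) (kb xb17 yb12 zb52) (kb xb17 yb20 zb29) (kb xb17 yb20 zb9) (kb xb4 yb45 zb26) (kb xb17 yb20 zb33) (kb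 xb17 yb20 zb34) (kb xb14 yb13 zb49) (kb xb11 yb30 zb56) (kb xb4 yb45 zb29) (kb xb12 yb17 zb46) (kb xb6 yb41 zb59) (kb xb17 yb20 zb41) (kb xb6 yb35 zb47) (kb xb17 yb20 zb43) (kb xb6 yb0 zb8) (kb xb4 yb45 zb35) (kb xb17 yb20 zb45) (kb xb5 yb59 zb48) (kb xb4 yb45 zb37) (kb xb17 yb20 zb51) (kb xb4 yb45 zb38) (kb xb17 yb20 zb53) (kb xb4 yb45 zb39) (kb xb17 yb20 zb57) (kb xb17 yb19 zb11) (kb xb4 yb45 zb45)) (@D3.rec (fun _ => Pt) (kb xb17 yb21 zb4) (kb xb17 yb21 zb8) (kb xb4 yb45 zb48) (kb xb4 yb45 zb49) (kb xb4 yb45 zb43) (kb xb17 yb21 zb14) (kb xb12 yb10 zb5) (kb xb17 yb21 zb3) (kb xb4 yb45 zb46) (kb xb14 yb23 zb57) (kb xb17 yb21 zb22) (kb xb4 yb45 zb47) (kb xb17 yb21 zb27) (kb xb17 yb21 zb26) (kb xb4 yb45 zb50) (kb xb17 yb21 zb29) (kb xb17 yb21 zb30) (kb xb17 yb21 zb35)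 (kb xb14 yb33 zb34) (kb xb15 yb37 zb0) (kb xb4 yb48 zb6) (kb xb4 yb48 zb7) (kb xb17 yb21 zb38) (kb xb8 yb31 zb26) (kb xb17 yb21 zb39) (kb xb4 yb45 zb57) (kb xb17 yb21 zb43) (kb xb17 yb21 zb44) (kb xb6 yb56 zb36) (kb xb14 yb12 zb52) (kb xb11 yb33 zb28) (kb xb4 yb45 zb60) (kb xb12 yb44 zb17) (kb xb4 yb45 zb61) (kb xb11 yb24 zb56) (kb xb10 yb4 zb21) (kb xb5 yb59 zb45) (kb xb5 yb54 zb13) (kb xb17 yb19 zb19) (kb xb17 yb21 zb51) (kb xb9 yb25 zb17) (kb xb4 yb46 zb4) (kb xb5 yb59 zb54) (kb xb4 yb46 zb7) (kb xb17 yb21 zb53) (kb xb4 yb46 zb5) (kb xb17 yb21 zb56) (kb xb7 yb33 zb6) (kb xb17 yb21 zb58) (kb xb17 yb22 zb0) (kb xb15 yb5 zb36) (kb xb4 yb46 zb9) (kb xb17 yb22 zb3) (kb xb17 yb22 zb4) (kb xb15 yb37 zb8) (kb xb4 yb48 zb35) (kb xb17 yb22 zb7) (kb xb6 yb36 zb31) (kb xb17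 yb22 zb10) (kb xb8 yb18 zb24) (kb xb4 yb46 zb13) (kb xb17 yb22 zb16)) (@D3.rec (fun _ => Pt) (kb xb17 yb22 zb17) (kb xb4 yb50 zb6) (kb xb4 yb46 zb15) (kb xb17 yb22 zb19) (kb xb11 yb32 zb59) (kb xb12 yb45 zb20) (kb xb4 yb46 zb16) (kb xb7 yb36 zb14) (kb xb5 yb49 zb28) (kb xb17 yb22 zb26) (kb xb10 yb2 zb49) (kb xb8 yb47 zb1) (kb xb17 yb19 zb31) (kb xb11 yb57 zb38) (kb xb6 yb30 zb48) (kb xb6 yb30 zb49) (kb xb11 yb34 zb5) (kb xb9 yb24 zb40) (kb xb4 yb46 zb21) (kb xb17 yb22 zb41) (kb xb17 yb22 zb45) (kb xb4 yb46 zb22) (kb xb4 yb46 zb23) (kb xb17 yb22 zb40) (kb xb17 yb22 zb52) (kb xb4 yb46 zb24) (kb xb17 yb22 zb54) (kb xb12 yb10 zb23) (kb xb12 yb58 zb4) (kb xb12 yb38 zb37) (kb xb13 yb16 zb51) (kb xb13 yb0 zb28) (kb xb6 yb24 zb39) (kb xb17 yb22 zb58) (kb xb6 yb18 zb5) (kb xb11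 yb30 zb28) (kb xb7 yb2 zb11) (kb xb4 yb46 zb30) (kb xb4 yb46 zb31) (kb xb17 yb23 zb4) (kb xb17 yb23 zb5) (kb xb17 yb23 zb9) (kb xb17 yb23 zb11) (kb xb17 yb23 zb15) (kb xb14 yb34 zb57) (kb xb17 yb19 zb44) (kb xb6 yb0 zb39) (kb xb4 yb46 zb35) (kb xb15 yb5 zb11) (kb xb14 yb6 zb38) (kb xb17 yb23 zb17) (kb xb17 yb19 zb41) (kb xb14 yb18 zb49) (kb xb13 yb19 zb52) (kb xb12 yb10 zb18) (kb xb6 yb0 zb29) (kb xb4 yb46 zb39) (kb xb5 yb56 zb13) (kb xb11 yb34 zb6) (kb xb17 yb23 zb25) (kb xb17 yb19 zb50) (kb xb11 yb35 zb26)) (@D3.rec (fun _ => Pt) (kb xb14 yb31 zb43) (kb xb17 yb19 zb53) (kb xb17 yb19 zb54) (kb xb12 yb2 zb9) (kb xb13 yb20 zb57) (kb xb8 yb45 zb47) (kb xb17 yb12 zb54) (kb xb4 yb46 zb44) (kb xb17 yb23 zb44) (kb xb17 yb23 zb49) (kb xb17 yb23 zb53) (kb xb4 yb46 zb58) (kb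 xb4 yb46 zb59) (kb xb17 yb23 zb60) (kb xb14 yb19 zb16) (kb xb4 yb46 zb47) (kb xb6 yb46 zb25) (kb xb17 yb24 zb1) (kb xb17 yb24 zb2) (kb xb7 yb42 zb23) (kb xb17 yb24 zb9) (kb xb17 yb24 zb14) (kb xb4 yb47 zb10) (kb xb14 yb59 zb27) (kb xb9 yb22 zb39) (kb xb4 yb46 zb51) (kb xb17 yb24 zb24) (kb xb17 yb23 zb40) (kb xb17 yb24 zb22) (kb xb17 yb24 zb23) (kb xb4 yb46 zb53) (kb xb13 yb4 zb37) (kb xb17 yb24 zb32) (kb xb13 yb21 zb6) (kb xb6 yb16 zb19) (kb xb17 yb24 zb36) (kb xb4 yb46 zb55) (kb xb13 yb26 zb60) (kb xb17 yb24 zb45) (kb xb17 yb24 zb41) (kb xb17 yb24 zb42) (kb xb4 yb46 zb56) (kb xb17 yb24 zb55) (kb xb17 yb24 zb52) (kb xb17 yb24 zb53) (kb xb4 yb46 zb57) (kb xb17 yb15 zb4) (kb xb17 yb25 zb2) (kb xb17 yb25 zb5) (kb xb17 yb25 zb9) (kb xb17 yb25 zb15) (kb xb17 yb23 zb59) (kb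 xb6 yb0 zb52) (kb xb11 yb15 zb61) (kb xb13 yb39 zb5) (kb xb6 yb0 zb51) (kb xb17 yb23 zb61) (kb xb4 yb47 zb1) (kb xb4 yb47 zb2) (kb xb6 yb32 zb43) (kb xb14 yb22 zb33) (kb xb17 yb25 zb35)) (@D3.rec (fun _ => Pt) (kb xb17 yb25 zb31) (kb xb17 yb25 zb34) (kb xb12 yb45 zb27) (kb xb5 yb6 zb49) (kb xb6 yb40 zb12) (kb xb4 yb47 zb5) (kb xb4 yb47 zb6) (kb xb6 yb21 zb34) (kb xb17 yb25 zb48) (kb xb17 yb25 zb46) (kb xb17 yb25 zb47) (kb xb14 yb36 zb29) (kb xb4 yb47 zb7) (kb xb17 yb25 zb59) (kb xb17 yb25 zb56) (kb xb4 yb47 zb8) (kb xb17 yb26 zb3) (kb xb17 yb26 zb2) (kb xb17 yb26 zb9) (kb xb17 yb26 zb10) (kb xb4 yb47 zb9) (kb xb17 yb26 zb15) (kb xb17 yb26 zb16) (kb xb17 yb24 zb17) (kb xb6 yb0 zb61) (kb xb4 yb47 zb12) (kb xb17 yb26 zb22) (kb xb17 yb26 zb23) (kb xb14 yb28 zb44) (kb xb17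 yb26 zb30) (kb xb17 yb26 zb33) (kb xb17 yb26 zb38) (kb xb4 yb47 zb15) (kb xb6 yb50 zb31) (kb xb4 yb47 zb16) (kb xb14 yb26 zb47) (kb xb17 yb26 zb45) (kb xb12 yb57 zb32) (kb xb4 yb47 zb18) (kb xb4 yb47 zb19) (kb xb17 yb26 zb52) (kb xb17 yb26 zb53) (kb xb17 yb20 zb32) (kb xb4 yb47 zb21) (kb xb4 yb47 zb22) (kb xb17 yb27 zb1) (kb xb17 yb26 zb60) (kb xb17 yb27 zb7) (kb xb17 yb27 zb0) (kb xb17 yb27 zb9) (kb xb17 yb27 zb11) (kb xb4 yb47 zb26) (kb xb4 yb47 zb25) (kb xb17 yb27 zb14) (kb xb17 yb27 zb15) (kb xb17 yb27 zb19) (kb xb4 yb52 zb33) (kb xb4 yb52 zb34) (kb xb4 yb47 zb28) (kb xb17 yb27 zb23) (kb xb9 yb37 zb28) (kb xb17 yb27 zb26)) (@D3.rec (fun _ => Pt) (kb xb17 yb27 zb28) (kb xb17 yb27 zb30) (kb xb4 yb47 zb30) (kb xb17 yb27 zb35) (kb xb6 yb50 zb56) (kb xb17 yb27 zb40)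 (kb xb4 yb47 zb32) (kb xb17 yb27 zb45) (kb xb4 yb47 zb34) (kb xb17 yb27 zb50) (kb xb17 yb27 zb51) (kb xb4 yb47 zb38) (kb xb4 yb47 zb37) (kb xb17 yb27 zb56) (kb xb4 yb50 zb25) (kb xb4 yb47 zb39) (kb xb17 yb27 zb61) (kb xb17 yb28 zb0) (kb xb4 yb47 zb40) (kb xb17 yb28 zb5) (kb xb8 yb31 zb45) (kb xb17 yb28 zb10) (kb xb17 yb18 zb3) (kb xb4 yb47 zb42) (kb xb17 yb28 zb17) (kb xb17 yb28 zb19) (kb xb17 yb28 zb21) (kb xb17 yb28 zb16) (kb xb12 yb37 zb15) (kb xb7 yb31 zb55) (kb xb4 yb47 zb44) (kb xb17 yb28 zb27) (kb xb14 yb33 zb17) (kb xb17 yb28 zb31) (kb xb7 yb0 zb33) (kb xb13 yb7 zb60) (kb xb4 yb47 zb50) (kb xb17 yb28 zb39) (kb xb4 yb47 zb51) (kb xb17 yb28 zb42) (kb xb17 yb28 zb45) (kb xb17 yb28 zb48) (kb xb17 yb28 zb52) (kb xb16 yb57 zb46) (kb xb14 yb32 zb35) (kb xb17 yb28 zb60)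 (kb xb17 yb29 zb0) (kb xb4 yb47 zb57) (kb xb17 yb29 zb2) (kb xb17 yb29 zb5) (kb xb17 yb29 zb7) (kb xb17 yb29 zb9) (kb xb15 yb54 zb57) (kb xb8 yb34 zb46) (kb xb4 yb47 zb61) (kb xb17 yb29 zb16) (kb xb17 yb5 zb12) (kb xb6 yb11 zb38) (kb xb5 yb30 zb53) (kb xb17 yb29 zb22) (kb xb4 yb48 zb4) (kb xb4 yb48 zb5)) (@D3.rec (fun _ => Pt) (kb xb6 yb48 zb20) (kb xb17 yb29 zb30) (kb xb17 yb13 zb57) (kb xb9 yb36 zb51) (kb xb17 yb29 zb38) (kb xb6 yb43 zb2) (kb xb4 yb48 zb10) (kb xb4 yb48 zb11) (kb xb17 yb29 zb45) (kb xb17 yb29 zb46) (kb xb4 yb48 zb13) (kb xb17 yb29 zb50) (kb xb17 yb29 zb49) (kb xb16 yb30 zb41) (kb xb6 yb47 zb40) (kb xb17 yb29 zb56) (kb xb17 yb29 zb58) (kb xb15 yb3 zb58) (kb xb5 yb40 zb46) (kb xb4 yb48 zb17) (kb xb17 yb30 zb2) (kb xb14 yb50 zb1) (kb xb17 yb30 zb6) (kb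 xb15 yb4 zb21) (kb xb17 yb30 zb13) (kb xb16 yb49 zb47) (kb xb4 yb48 zb21) (kb xb4 yb48 zb30) (kb xb17 yb30 zb17) (kb xb4 yb48 zb23) (kb xb7 yb27 zb12) (kb xb16 yb17 zb21) (kb xb8 yb36 zb35) (kb xb17 yb30 zb22) (kb xb16 yb20 zb6) (kb xb17 yb30 zb26) (kb xb4 yb48 zb27) (kb xb17 yb30 zb30) (kb xb17 yb30 zb31) (kb xb4 yb48 zb31) (kb xb17 yb4 zb57) (kb xb6 yb11 zb23) (kb xb8 yb23 zb53) (kb xb14 yb56 zb13) (kb xb4 yb48 zb34) (kb xb17 yb16 zb15) (kb xb4 yb48 zb37) (kb xb17 yb30 zb54) (kb xb17 yb30 zb59) (kb xb6 yb44 zb5) (kb xb4 yb48 zb39) (kb xb4 yb48 zb40) (kb xb17 yb31 zb4) (kb xb17 yb31 zb5) (kb xb6 yb2 zb14) (kb xb4 yb48 zb49) (kb xb4 yb48 zb43) (kb xb17 yb31 zb8) (kb xb17 yb31 zb9) (kb xb17 yb10 zb48) (kb xb12 yb57 zb31) (kb xb12 yb39 zb15)) (@D3.rec (fun _ => Pt) (kb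 xb6 yb0 zb9) (kb xb4 yb48 zb47) (kb xb16 yb26 zb12) (kb xb17 yb31 zb22) (kb xb16 yb57 zb44) (kb xb17 yb31 zb17) (kb xb17 yb31 zb18) (kb xb6 yb44 zb30) (kb xb6 yb44 zb31) (kb xb5 yb59 zb35) (kb xb4 yb48 zb51) (kb xb17 yb31 zb29) (kb xb11 yb1 zb19) (kb xb6 yb1 zb43) (kb xb4 yb48 zb57) (kb xb4 yb48 zb58) (kb xb4 yb48 zb54) (kb xb4 yb48 zb55) (kb xb11 yb28 zb6) (kb xb17 yb31 zb36) (kb xb17 yb31 zb37) (kb xb6 yb44 zb40) (kb xb6 yb44 zb41) (kb xb6 yb44 zb42) (kb xb17 yb31 zb35) (kb xb4 yb48 zb59) (kb xb17 yb20 zb49) (kb xb17 yb31 zb47) (kb xb17 yb31 zb48) (kb xb4 yb48 zb60) (kb xb17 yb31 zb52) (kb xb8 yb14 zb16) (kb xb17 yb31 zb51) (kb xb10 yb45 zb13) (kb xb6 yb6 zb30) (kb xb17 yb31 zb55) (kb xb6 yb6 zb41) (kb xb4 yb49 zb21) (kb xb11 yb29 zb29) (kb xb17 yb31 zb60) (kb xb4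 yb49 zb4) (kb xb6 yb7 zb43) (kb xb4 yb49 zb2) (kb xb17 yb32 zb3) (kb xb6 yb44 zb56) (kb xb4 yb49 zb18) (kb xb17 yb32 zb8) (kb xb11 yb57 zb5) (kb xb11 yb16 zb59) (kb xb17 yb32 zb0) (kb xb4 yb49 zb13) (kb xb10 yb45 zb9) (kb xb17 yb32 zb16) (kb xb4 yb49 zb7) (kb xb4 yb49 zb8) (kb xb4 yb49 zb6) (kb xb17 yb32 zb26) (kb xb17 yb32 zb27) (kb xb17 yb32 zb32) (kb xb17 yb32 zb22) (kb xb17 yb32 zb24) (kb xb17 yb32 zb25)) (@D3.rec (fun _ => Pt) (kb xb17 yb32 zb38) (kb xb10 yb18 zb29) (kb xb4 yb49 zb10) (kb xb17 yb32 zb44) (kb xb17 yb32 zb42) (kb xb17 yb32 zb43) (kb xb17 yb32 zb50) (kb xb15 yb32 zb38) (kb xb15 yb32 zb60) (kb xb15 yb32 zb54) (kb xb4 yb49 zb41) (kb xb13 yb1 zb49) (kb xb10 yb45 zb14) (kb xb6 yb45 zb15) (kb xb6 yb45 zb14) (kb xb17 yb26 zb54) (kb xb17 yb32 zb20) (kb xb10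 yb17 zb8) (kb xb17 yb33 zb5) (kb xb4 yb49 zb20) (kb xb4 yb49 zb17) (kb xb17 yb33 zb11) (kb xb16 yb43 zb33) (kb xb17 yb33 zb14) (kb xb4 yb49 zb19) (kb xb17 yb33 zb17) (kb xb17 yb33 zb18) (kb xb17 yb32 zb12) (kb xb15 yb3 zb56) (kb xb17 yb33 zb19) (kb xb17 yb33 zb21) (kb xb6 yb45 zb43) (kb xb6 yb34 zb35) (kb xb6 yb24 zb16) (kb xb12 yb28 zb45) (kb xb10 yb15 zb50) (kb xb17 yb7 zb61) (kb xb17 yb31 zb7) (kb xb4 yb49 zb28) (kb xb4 yb49 zb26) (kb xb17 yb33 zb39) (kb xb6 yb6 zb38) (kb xb17 yb33 zb40) (kb xb4 yb49 zb30) (kb xb17 yb33 zb42) (kb xb8 yb59 zb9) (kb xb10 yb53 zb45) (kb xb16 yb11 zb20) (kb xb4 yb49 zb35) (kb xb4 yb49 zb34) (kb xb17 yb32 zb47) (kb xb8 yb59 zb30) (kb xb8 yb58 zb40) (kb xb4 yb49 zb36) (kb xb17 yb33 zb51) (kb xb17 yb33 zb56) (kb xb6 yb46 zb10) (kb xb4 yb49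 zb39) (kb xb4 yb49 zb40) (kb xb17 yb34 zb2) (kb xb17 yb34 zb3) (kb xb14 yb11 zb12)) (@D3.rec (fun _ => Pt) (kb xb4 yb49 zb43) (kb xb17 yb34 zb6) (kb xb17 yb34 zb7) (kb xb10 yb5 zb15) (kb xb4 yb49 zb45) (kb xb17 yb34 zb12) (kb xb17 yb34 zb14) (kb xb6 yb39 zb27) (kb xb10 yb43 zb18) (kb xb6 yb46 zb27) (kb xb6 yb37 zb54) (kb xb4 yb49 zb47) (kb xb17 yb34 zb24) (kb xb4 yb49 zb48) (kb xb17 yb34 zb25) (kb xb17 yb34 zb28) (kb xb17 yb34 zb31) (kb xb4 yb49 zb54) (kb xb4 yb49 zb51) (kb xb17 yb34 zb37) (kb xb4 yb49 zb52) (kb xb4 yb49 zb53) (kb xb17 yb34 zb42) (kb xb12 yb49 zb59) (kb xb17 yb34 zb43) (kb xb17 yb34 zb34) (kb xb13 yb10 zb58) (kb xb6 yb46 zb53) (kb xb4 yb49 zb56) (kb xb17 yb34 zb46) (kb xb4 yb49 zb58) (kb xb17 yb34 zb47) (kb xb17 yb34 zb48) (kb xb6 yb47 zb19) (kb xb12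 yb55 zb33) (kb xb5 yb39 zb46) (kb xb4 yb50 zb3) (kb xb17 yb34 zb52) (kb xb4 yb50 zb5) (kb xb17 yb34 zb54) (kb xb16 yb7 zb33) (kb xb17 yb34 zb56) (kb xb4 yb50 zb9) (kb xb17 yb34 zb59) (kb xb4 yb50 zb12) (kb xb4 yb50 zb11) (kb xb8 yb22 zb22) (kb xb17 yb27 zb25) (kb xb14 yb12 zb15) (kb xb4 yb50 zb14) (kb xb6 yb10 zb50) (kb xb4 yb50 zb15) (kb xb4 yb50 zb16) (kb xb12 yb35 zb41) (kb xb17 yb35 zb0) (kb xb17 yb35 zb4) (kb xb6 yb47 zb61) (kb xb4 yb50 zb18) (kb xb12 yb53 zb61) (kb xb12 yb24 zb45) (kb xb17 yb35 zb11) (kb xb6 yb48 zb24)) (@D3.rec (fun _ => Pt) (kb xb4 yb50 zb20) (kb xb4 yb50 zb22) (kb xb17 yb35 zb16) (kb xb17 yb13 zb37) (kb xb17 yb35 zb19) (kb xb6 yb48 zb37) (kb xb4 yb50 zb24) (kb xb12 yb33 zb21) (kb xb4 yb50 zb27) (kb xb17 yb35 zb26) (kb xb17 yb35 zb23) (kb xb4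 yb50 zb28) (kb xb15 yb57 zb51) (kb xb17 yb35 zb33) (kb xb17 yb35 zb38) (kb xb8 yb27 zb0) (kb xb17 yb35 zb42) (kb xb5 yb36 zb34) (kb xb10 yb23 zb36) (kb xb4 yb55 zb0) (kb xb4 yb50 zb36) (kb xb17 yb35 zb50) (kb xb4 yb50 zb46) (kb xb4 yb50 zb38) (kb xb17 yb35 zb56) (kb xb17 yb35 zb45) (kb xb14 yb23 zb18) (kb xb8 yb27 zb48) (kb xb4 yb50 zb41) (kb xb15 yb47 zb0) (kb xb17 yb36 zb1) (kb xb4 yb50 zb42) (kb xb8 yb17 zb0) (kb xb17 yb36 zb3) (kb xb17 yb36 zb8) (kb xb17 yb36 zb13) (kb xb8 yb27 zb31) (kb xb4 yb50 zb44) (kb xb4 yb50 zb45) (kb xb12 yb0 zb22) (kb xb17 yb36 zb22) (kb xb17 yb36 zb24) (kb xb17 yb36 zb21) (kb xb4 yb50 zb50) (kb xb16 yb7 zb40) (kb xb4 yb50 zb49) (kb xb17 yb36 zb29) (kb xb17 yb36 zb30) (kb xb4 yb50 zb51) (kb xb17 yb36 zb37) (kb xb17 yb36 zb38) (kb xb4 yb50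 zb55) (kb xb4 yb50 zb54) (kb xb17 yb36 zb45) (kb xb17 yb36 zb46) (kb xb8 yb1 zb29) (kb xb16 yb1 zb24) (kb xb16 yb1 zb25) (kb xb8 yb1 zb32) (kb xb16 yb1 zb35) (kb xb17 yb36 zb55) (kb xb17 yb36 zb60)) (@D3.rec (fun _ => Pt) (kb xb4 yb51 zb57) (kb xb4 yb50 zb59) (kb xb4 yb50 zb60) (kb xb17 yb37 zb6) (kb xb9 yb52 zb43) (kb xb4 yb51 zb1) (kb xb17 yb37 zb13) (kb xb8 yb24 zb6) (kb xb17 yb37 zb15) (kb xb4 yb51 zb17) (kb xb8 yb40 zb52) (kb xb4 yb51 zb5) (kb xb17 yb14 zb12) (kb xb15 yb56 zb45) (kb xb8 yb39 zb58) (kb xb4 yb51 zb8) (kb xb17 yb37 zb24) (kb xb17 yb37 zb25) (kb xb16 yb7 zb23) (kb xb16 yb8 zb57) (kb xb8 yb10 zb20) (kb xb4 yb51 zb10) (kb xb17 yb37 zb35) (kb xb17 yb37 zb36) (kb xb4 yb51 zb11) (kb xb17 yb37 zb42) (kb xb17 yb37 zb43) (kb xb17 yb37 zb46) (kb xb17 yb37 zb50)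 (kb xb17 yb36 zb28) (kb xb4 yb51 zb13) (kb xb4 yb51 zb14) (kb xb17 yb38 zb2) (kb xb17 yb37 zb59) (kb xb17 yb38 zb8) (kb xb17 yb38 zb9) (kb xb17 yb38 zb0) (kb xb17 yb38 zb1) (kb xb17 yb38 zb15) (kb xb8 yb4 zb19) (kb xb7 yb33 zb33) (kb xb7 yb32 zb44) (kb xb4 yb51 zb18) (kb xb17 yb38 zb20) (kb xb9 yb41 zb42) (kb xb8 yb42 zb33) (kb xb4 yb51 zb21) (kb xb15 yb3 zb15) (kb xb14 yb55 zb44) (kb xb10 yb50 zb5) (kb xb4 yb51 zb30) (kb xb4 yb51 zb24) (kb xb17 yb38 zb31) (kb xb8 yb20 zb39) (kb xb8 yb16 zb36) (kb xb17 yb38 zb33) (kb xb17 yb38 zb37) (kb xb17 yb36 zb36) (kb xb4 yb51 zb27) (kb xb4 yb51 zb28) (kb xb17 yb38 zb43) (kb xb12 yb35 zb44)) (@D3.rec (fun _ => Pt) (kb xb17 yb38 zb51) (kb xb17 yb38 zb46) (kb xb17 yb38 zb47) (kb xb9 yb38 zb42) (kb xb17 yb38 zb56) (kb xb4 yb51 zb38)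 (kb xb4 yb51 zb32) (kb xb17 yb38 zb61) (kb xb17 yb39 zb1) (kb xb17 yb39 zb4) (kb xb17 yb36 zb44) (kb xb4 yb51 zb34) (kb xb4 yb51 zb35) (kb xb17 yb39 zb15) (kb xb17 yb39 zb17) (kb xb17 yb39 zb11) (kb xb16 yb50 zb47) (kb xb17 yb39 zb23) (kb xb17 yb39 zb13) (kb xb17 yb39 zb14) (kb xb17 yb39 zb29) (kb xb9 yb37 zb47) (kb xb6 yb42 zb39) (kb xb4 yb52 zb18) (kb xb10 yb19 zb19) (kb xb4 yb51 zb40) (kb xb10 yb15 zb45) (kb xb17 yb39 zb38) (kb xb15 yb38 zb59) (kb xb6 yb21 zb1) (kb xb4 yb51 zb47) (kb xb4 yb51 zb48) (kb xb17 yb39 zb44) (kb xb17 yb39 zb46) (kb xb16 yb1 zb19) (kb xb4 yb51 zb43) (kb xb4 yb51 zb44) (kb xb17 yb39 zb51) (kb xb11 yb59 zb53) (kb xb17 yb39 zb57) (kb xb17 yb39 zb52) (kb xb13 yb52 zb35) (kb xb4 yb52 zb27) (kb xb17 yb39 zb58) (kb xb17 yb39 zb59) (kb xb17 yb39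 zb43) (kb xb16 yb1 zb16) (kb xb17 yb40 zb1) (kb xb15 yb37 zb41) (kb xb4 yb51 zb50) (kb xb4 yb51 zb51) (kb xb17 yb40 zb11) (kb xb17 yb40 zb8) (kb xb12 yb17 zb25) (kb xb17 yb40 zb10) (kb xb17 yb40 zb16) (kb xb17 yb40 zb18) (kb xb16 yb14 zb28) (kb xb4 yb51 zb53) (kb xb4 yb51 zb54) (kb xb17 yb40 zb24) (kb xb17 yb40 zb27)) (@D3.rec (fun _ => Pt) (kb xb17 yb40 zb28) (kb xb17 yb36 zb53) (kb xb4 yb51 zb55) (kb xb17 yb40 zb36) (kb xb17 yb40 zb37) (kb xb17 yb40 zb38) (kb xb4 yb51 zb56) (kb xb17 yb40 zb44) (kb xb17 yb37 zb2) (kb xb17 yb40 zb51) (kb xb17 yb40 zb54) (kb xb17 yb40 zb59) (kb xb4 yb52 zb1) (kb xb4 yb52 zb2) (kb xb4 yb52 zb3) (kb xb4 yb51 zb60) (kb xb17 yb41 zb10) (kb xb4 yb51 zb61) (kb xb17 yb40 zb48) (kb xb4 yb52 zb0) (kb xb17 yb41 zb21) (kb xb17 yb41 zb26) (kb xb17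 yb41 zb28) (kb xb17 yb41 zb3) (kb xb17 yb41 zb4) (kb xb17 yb41 zb7) (kb xb4 yb52 zb4) (kb xb17 yb41 zb41) (kb xb17 yb41 zb39) (kb xb17 yb41 zb40) (kb xb4 yb52 zb5) (kb xb17 yb41 zb47) (kb xb17 yb41 zb45) (kb xb17 yb41 zb46) (kb xb4 yb52 zb6) (kb xb17 yb13 zb61) (kb xb9 yb37 zb42) (kb xb15 yb45 zb5) (kb xb9 yb38 zb44) (kb xb4 yb52 zb8) (kb xb17 yb41 zb57) (kb xb4 yb52 zb9) (kb xb16 yb6 zb48) (kb xb17 yb42 zb2) (kb xb17 yb42 zb4) (kb xb6 yb22 zb31) (kb xb4 yb52 zb12) (kb xb17 yb42 zb10) (kb xb17 yb42 zb8) (kb xb9 yb37 zb56) (kb xb4 yb52 zb13) (kb xb9 yb29 zb3) (kb xb17 yb42 zb13) (kb xb17 yb42 zb14) (kb xb4 yb52 zb16) (kb xb17 yb42 zb19) (kb xb4 yb52 zb19) (kb xb17 yb42 zb22) (kb xb12 yb59 zb53) (kb xb16 yb1 zb33) (kb xb6 yb21 zb3) (kb xb4 yb52 zb21)) (@D3.rec (fun _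 => Pt) (kb xb17 yb42 zb28) (kb xb8 yb58 zb57) (kb xb17 yb42 zb31) (kb xb17 yb42 zb33) (kb xb5 yb2 zb41) (kb xb4 yb52 zb24) (kb xb17 yb42 zb37) (kb xb17 yb42 zb36) (kb xb4 yb52 zb25) (kb xb17 yb42 zb40) (kb xb9 yb37 zb22) (kb xb8 yb40 zb25) (kb xb17 yb42 zb43) (kb xb17 yb36 zb43) (kb xb4 yb52 zb32) (kb xb17 yb42 zb48) (kb xb17 yb42 zb49) (kb xb15 yb40 zb24) (kb xb17 yb42 zb55) (kb xb4 yb52 zb36) (kb xb17 yb42 zb57) (kb xb15 yb6 zb46) (kb xb9 yb37 zb10) (kb xb16 yb1 zb45) (kb xb15 yb54 zb3) (kb xb4 yb53 zb16) (kb xb17 yb14 zb53) (kb xb6 yb24 zb18) (kb xb9 yb27 zb60) (kb xb12 yb19 zb42) (kb xb4 yb52 zb44) (kb xb4 yb52 zb45) (kb xb5 yb39 zb28) (kb xb17 yb43 zb8) (kb xb8 yb7 zb30) (kb xb4 yb52 zb47) (kb xb17 yb43 zb13) (kb xb17 yb43 zb14) (kb xb5 yb27 zb34) (kb xb6 yb5 zb33)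 (kb xb8 yb20 zb27) (kb xb10 yb35 zb12) (kb xb9 yb36 zb36) (kb xb17 yb43 zb20) (kb xb4 yb52 zb57) (kb xb4 yb52 zb58) (kb xb17 yb43 zb23) (kb xb9 yb35 zb21) (kb xb14 yb4 zb46) (kb xb4 yb53 zb27) (kb xb4 yb53 zb28) (kb xb17 yb43 zb28) (kb xb10 yb24 zb2) (kb xb16 yb17 zb37) (kb xb16 yb17 zb38) (kb xb16 yb0 zb30) (kb xb9 yb36 zb49) (kb xb4 yb53 zb2) (kb xb6 yb53 zb4) (kb xb4 yb53 zb35) (kb xb17 yb43 zb36) (kb xb15 yb39 zb50)) (@D3.rec (fun _ => Pt) (kb xb17 yb43 zb41) (kb xb8 yb41 zb10) (kb xb7 yb55 zb43) (kb xb4 yb53 zb4) (kb xb4 yb53 zb5) (kb xb17 yb43 zb49) (kb xb17 yb43 zb52) (kb xb17 yb43 zb53) (kb xb17 yb43 zb59) (kb xb17 yb43 zb61) (kb xb8 yb41 zb32) (kb xb4 yb53 zb7) (kb xb4 yb53 zb8) (kb xb15 yb9 zb56) (kb xb17 yb44 zb7) (kb xb17 yb44 zb8) (kb xb4 yb53 zb9) (kb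 xb15 yb54 zb4) (kb xb17 yb44 zb14) (kb xb4 yb53 zb10) (kb xb17 yb44 zb20) (kb xb15 yb6 zb57) (kb xb17 yb44 zb24) (kb xb17 yb44 zb27) (kb xb15 yb7 zb28) (kb xb4 yb53 zb15) (kb xb4 yb53 zb13) (kb xb17 yb44 zb36) (kb xb4 yb53 zb14) (kb xb17 yb44 zb39) (kb xb15 yb7 zb21) (kb xb17 yb44 zb44) (kb xb17 yb44 zb33) (kb xb17 yb44 zb47) (kb xb10 yb0 zb2) (kb xb17 yb43 zb2) (kb xb4 yb53 zb17) (kb xb17 yb44 zb54) (kb xb17 yb44 zb55) (kb xb4 yb53 zb18) (kb xb17 yb44 zb57) (kb xb17 yb44 zb58) (kb xb9 yb35 zb3) (kb xb15 yb6 zb41) (kb xb9 yb36 zb38) (kb xb15 yb46 zb24) (kb xb17 yb45 zb0) (kb xb9 yb56 zb15) (kb xb6 yb12 zb59) (kb xb4 yb53 zb22) (kb xb17 yb45 zb4) (kb xb17 yb45 zb2) (kb xb4 yb53 zb23) (kb xb6 yb37 zb13) (kb xb17 yb21 zb36) (kb xb17 yb45 zb6) (kb xb12 yb49 zb5) (kb xb4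 yb53 zb26) (kb xb17 yb45 zb11) (kb xb4 yb53 zb29) (kb xb11 yb17 zb8) (kb xb4 yb53 zb33)) (@D3.rec (fun _ => Pt) (kb xb17 yb45 zb15) (kb xb17 yb45 zb14) (kb xb4 yb53 zb34) (kb xb6 yb49 zb12) (kb xb6 yb9 zb18) (kb xb4 yb53 zb39) (kb xb17 yb45 zb17) (kb xb14 yb57 zb35) (kb xb4 yb53 zb38) (kb xb17 yb45 zb21) (kb xb17 yb45 zb22) (kb xb17 yb45 zb28) (kb xb16 yb17 zb58) (kb xb16 yb18 zb0) (kb xb17 yb37 zb39) (kb xb6 yb47 zb56) (kb xb4 yb53 zb45) (kb xb4 yb53 zb46) (kb xb4 yb53 zb54) (kb xb17 yb45 zb33) (kb xb5 yb17 zb21) (kb xb16 yb19 zb22) (kb xb12 yb7 zb16) (kb xb8 yb15 zb48) (kb xb5 yb0 zb50) (kb xb8 yb15 zb51) (kb xb4 yb53 zb60) (kb xb6 yb13 zb57) (kb xb4 yb54 zb14) (kb xb17 yb45 zb43) (kb xb8 yb26 zb10) (kb xb8 yb26 zb11) (kb xb4 yb54 zb3) (kb xb9 yb59 zb24) (kb xb8 yb15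 zb55) (kb xb4 yb54 zb5) (kb xb17 yb45 zb54) (kb xb17 yb45 zb55) (kb xb10 yb9 zb43) (kb xb4 yb54 zb7) (kb xb17 yb46 zb2) (kb xb17 yb46 zb3) (kb xb10 yb8 zb17) (kb xb17 yb45 zb36) (kb xb10 yb11 zb37) (kb xb4 yb54 zb9) (kb xb17 yb46 zb16) (kb xb17 yb46 zb17) (kb xb4 yb54 zb10) (kb xb12 yb7 zb11) (kb xb17 yb46 zb24) (kb xb9 yb40 zb29) (kb xb17 yb46 zb32) (kb xb9 yb40 zb26) (kb xb4 yb54 zb12) (kb xb4 yb54 zb13) (kb xb17 yb46 zb39) (kb xb17 yb46 zb31) (kb xb17 yb46 zb42) (kb xb17 yb46 zb37) (kb xb17 yb46 zb22) (kb xb17 yb46 zb38)) (@D3.rec (fun _ => Pt) (kb xb9 yb40 zb35) (kb xb17 yb46 zb52) (kb xb8 yb26 zb17) (kb xb8 yb26 zb18) (kb xb4 yb54 zb18) (kb xb15 yb7 zb44) (kb xb5 yb9 zb28) (kb xb4 yb54 zb20) (kb xb17 yb47 zb2) (kb xb17 yb47 zb3) (kb xb11 yb54 zb57) (kb xb9 yb54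 zb61) (kb xb4 yb54 zb22) (kb xb17 yb47 zb12) (kb xb17 yb47 zb13) (kb xb15 yb11 zb38) (kb xb9 yb53 zb43) (kb xb9 yb58 zb17) (kb xb4 yb54 zb24) (kb xb17 yb47 zb24) (kb xb17 yb47 zb25) (kb xb4 yb54 zb25) (kb xb17 yb47 zb32) (kb xb17 yb47 zb33) (kb xb17 yb47 zb39) (kb xb17 yb47 zb44) (kb xb9 yb39 zb53) (kb xb4 yb54 zb27) (kb xb4 yb54 zb28) (kb xb9 yb39 zb51) (kb xb17 yb47 zb51) (kb xb10 yb12 zb61) (kb xb9 yb58 zb38) (kb xb9 yb57 zb44) (kb xb17 yb47 zb49) (kb xb9 yb40 zb0) (kb xb4 yb54 zb30) (kb xb17 yb48 zb5) (kb xb11 yb50 zb43) (kb xb4 yb54 zb32) (kb xb17 yb48 zb11) (kb xb17 yb48 zb12) (kb xb4 yb54 zb34) (kb xb17 yb48 zb16) (kb xb17 yb48 zb17) (kb xb15 yb1 zb1) (kb xb8 yb26 zb55) (kb xb16 yb40 zb57) (kb xb9 yb12 zb9) (kb xb15 yb1 zb5) (kb xb16 yb41 zb3) (kb xb4 yb54 zb38)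 (kb xb17 yb48 zb29) (kb xb17 yb48 zb30) (kb xb15 yb21 zb34) (kb xb17 yb48 zb37) (kb xb4 yb55 zb42) (kb xb4 yb54 zb40) (kb xb4 yb54 zb41) (kb xb17 yb48 zb45) (kb xb17 yb48 zb43) (kb xb17 yb48 zb44)) (@D3.rec (fun _ => Pt) (kb xb10 yb24 zb13) (kb xb4 yb54 zb44) (kb xb17 yb48 zb51) (kb xb5 yb35 zb21) (kb xb15 yb33 zb21) (kb xb4 yb55 zb1) (kb xb8 yb26 zb26) (kb xb8 yb26 zb34) (kb xb4 yb54 zb50) (kb xb17 yb48 zb59) (kb xb8 yb26 zb38) (kb xb8 yb26 zb28) (kb xb15 yb33 zb22) (kb xb4 yb54 zb54) (kb xb17 yb49 zb4) (kb xb17 yb49 zb5) (kb xb10 yb50 zb40) (kb xb16 yb50 zb2) (kb xb15 yb1 zb26) (kb xb4 yb54 zb56) (kb xb17 yb49 zb15) (kb xb17 yb49 zb16) (kb xb4 yb54 zb57) (kb xb10 yb2 zb29) (kb xb6 yb38 zb2) (kb xb17 yb49 zb22) (kb xb17 yb49 zb26) (kb xb17 yb48 zb4) (kb xb4 yb54 zb59)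 (kb xb4 yb54 zb60) (kb xb17 yb49 zb40) (kb xb17 yb49 zb35) (kb xb17 yb49 zb46) (kb xb17 yb49 zb48) (kb xb17 yb49 zb38) (kb xb17 yb49 zb39) (kb xb17 yb9 zb2) (kb xb15 yb1 zb45) (kb xb17 yb49 zb59) (kb xb17 yb35 zb46) (kb xb4 yb55 zb2) (kb xb16 yb12 zb53) (kb xb9 yb34 zb44) (kb xb10 yb36 zb18) (kb xb4 yb55 zb6) (kb xb17 yb50 zb7) (kb xb11 yb45 zb49) (kb xb10 yb38 zb8) (kb xb4 yb55 zb15) (kb xb4 yb55 zb9) (kb xb17 yb50 zb12) (kb xb8 yb26 zb47) (kb xb5 yb39 zb39) (kb xb17 yb50 zb14) (kb xb9 yb57 zb20) (kb xb17 yb48 zb10) (kb xb4 yb55 zb12) (kb xb4 yb55 zb13) (kb xb10 yb14 zb16) (kb xb17 yb50 zb27) (kb xb17 yb50 zb30) (kb xb17 yb50 zb23)) (@D3.rec (fun _ => Pt) (kb xb13 yb10 zb41) (kb xb17 yb50 zb33) (kb xb8 yb27 zb54) (kb xb17 yb50 zb35) (kb xb4 yb55 zb23) (kb xb4 yb55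 zb24) (kb xb4 yb55 zb17) (kb xb17 yb42 zb11) (kb xb17 yb50 zb41) (kb xb17 yb50 zb44) (kb xb17 yb48 zb15) (kb xb4 yb55 zb19) (kb xb17 yb50 zb50) (kb xb17 yb50 zb52) (kb xb15 yb38 zb36) (kb xb17 yb50 zb57) (kb xb12 yb43 zb15) (kb xb15 yb24 zb0) (kb xb17 yb50 zb60) (kb xb15 yb2 zb15) (kb xb10 yb55 zb32) (kb xb4 yb55 zb59) (kb xb4 yb55 zb60) (kb xb17 yb51 zb5) (kb xb4 yb55 zb25) (kb xb17 yb51 zb10) (kb xb17 yb51 zb11) (kb xb10 yb40 zb1) (kb xb8 yb10 zb24) (kb xb4 yb55 zb33) (kb xb17 yb51 zb15) (kb xb10 yb17 zb0) (kb xb16 yb40 zb53) (kb xb4 yb55 zb28) (kb xb4 yb55 zb29) (kb xb10 yb10 zb22) (kb xb12 yb42 zb16) (kb xb17 yb51 zb26) (kb xb10 yb18 zb56) (kb xb17 yb51 zb22) (kb xb6 yb20 zb26) (kb xb4 yb56 zb8) (kb xb17 yb51 zb32) (kb xb11 yb57 zb10) (kb xb17 yb51 zb38) (kb xb10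 yb24 zb8) (kb xb16 yb40 zb50) (kb xb17 yb51 zb44) (kb xb10 yb38 zb45) (kb xb5 yb0 zb42) (kb xb4 yb55 zb35) (kb xb4 yb55 zb36) (kb xb10 yb55 zb50) (kb xb17 yb51 zb56) (kb xb16 yb13 zb33) (kb xb17 yb51 zb58) (kb xb17 yb52 zb2) (kb xb17 yb52 zb3) (kb xb17 yb48 zb28) (kb xb4 yb55 zb38) (kb xb4 yb55 zb39) (kb xb6 yb11 zb20)) (@D3.rec (fun _ => Pt) (kb xb6 yb11 zb21) (kb xb12 yb25 zb27) (kb xb17 yb48 zb32) (kb xb4 yb55 zb40) (kb xb17 yb52 zb13) (kb xb4 yb55 zb41) (kb xb17 yb44 zb61) (kb xb17 yb48 zb40) (kb xb17 yb52 zb16) (kb xb17 yb52 zb17) (kb xb4 yb55 zb49) (kb xb4 yb55 zb45) (kb xb17 yb52 zb20) (kb xb4 yb55 zb46) (kb xb17 yb52 zb21) (kb xb4 yb55 zb47) (kb xb10 yb25 zb26) (kb xb17 yb52 zb27) (kb xb5 yb10 zb43) (kb xb5 yb11 zb3) (kb xb17 yb52 zb29) (kb xb17 yb52 zb31) (kb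 xb4 yb55 zb51) (kb xb17 yb52 zb35) (kb xb17 yb52 zb33) (kb xb17 yb52 zb34) (kb xb4 yb55 zb52) (kb xb17 yb52 zb41) (kb xb17 yb52 zb40) (kb xb4 yb55 zb53) (kb xb17 yb52 zb45) (kb xb17 yb52 zb44) (kb xb17 yb52 zb47) (kb xb16 yb22 zb11) (kb xb17 yb52 zb50) (kb xb10 yb55 zb31) (kb xb4 yb55 zb58) (kb xb17 yb52 zb54) (kb xb17 yb52 zb55) (kb xb4 yb55 zb61) (kb xb17 yb48 zb3) (kb xb13 yb59 zb15) (kb xb14 yb49 zb7) (kb xb16 yb41 zb1) (kb xb10 yb56 zb38) (kb xb8 yb10 zb25) (kb xb4 yb56 zb2) (kb xb17 yb52 zb61) (kb xb15 yb50 zb15) (kb xb17 yb53 zb5) (kb xb17 yb53 zb8) (kb xb14 yb50 zb17) (kb xb11 yb39 zb61) (kb xb4 yb56 zb5) (kb xb17 yb53 zb11) (kb xb17 yb53 zb10) (kb xb4 yb56 zb6) (kb xb17 yb53 zb14) (kb xb10 yb57 zb26) (kb xb10 yb54 zb37) (kb xb4 yb56 zb11) (kb xb15 yb8 zb56))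 (@D3.rec (fun _ => Pt) (kb xb17 yb53 zb17) (kb xb17 yb53 zb18) (kb xb10 yb56 zb54) (kb xb4 yb56 zb14) (kb xb4 yb56 zb15) (kb xb17 yb53 zb26) (kb xb4 yb56 zb13) (kb xb17 yb53 zb29) (kb xb10 yb55 zb21) (kb xb17 yb53 zb21) (kb xb10 yb41 zb36) (kb xb17 yb53 zb24) (kb xb17 yb53 zb25) (kb xb10 yb54 zb55) (kb xb10 yb41 zb23) (kb xb17 yb53 zb32) (kb xb4 yb56 zb19) (kb xb4 yb56 zb20) (kb xb4 yb56 zb18) (kb xb17 yb53 zb39) (kb xb10 yb57 zb25) (kb xb17 yb53 zb41) (kb xb12 yb49 zb48) (kb xb4 yb56 zb24) (kb xb17 yb53 zb44) (kb xb4 yb56 zb25) (kb xb12 yb49 zb50) (kb xb17 yb53 zb48) (kb xb9 yb49 zb34) (kb xb4 yb56 zb29) (kb xb4 yb56 zb30) (kb xb16 yb49 zb4) (kb xb4 yb56 zb32) (kb xb8 yb37 zb42) (kb xb6 yb15 zb30) (kb xb7 yb6 zb31) (kb xb8 yb51 zb55) (kb xb4 yb56 zb37) (kb xb17 yb53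 zb53) (kb xb4 yb56 zb38) (kb xb8 yb12 zb22) (kb xb8 yb10 zb26) (kb xb12 yb22 zb5) (kb xb6 yb7 zb40) (kb xb8 yb43 zb22) (kb xb9 yb4 zb23) (kb xb7 yb39 zb19) (kb xb11 yb56 zb8) (kb xb4 yb56 zb45) (kb xb15 yb58 zb35) (kb xb17 yb53 zb61) (kb xb8 yb43 zb17) (kb xb4 yb56 zb47) (kb xb4 yb56 zb48) (kb xb17 yb54 zb6) (kb xb17 yb54 zb13) (kb xb17 yb54 zb8) (kb xb17 yb54 zb9) (kb xb8 yb43 zb26) (kb xb17 yb54 zb21) (kb xb4 yb56 zb56) (kb xb4 yb56 zb55)) (@D3.rec (fun _ => Pt) (kb xb17 yb54 zb30) (kb xb17 yb54 zb32) (kb xb17 yb54 zb34) (kb xb17 yb54 zb26) (kb xb9 yb2 zb36) (kb xb4 yb56 zb59) (kb xb16 yb15 zb56) (kb xb17 yb54 zb43) (kb xb17 yb54 zb46) (kb xb11 yb15 zb46) (kb xb4 yb56 zb61) (kb xb15 yb3 zb50) (kb xb12 yb5 zb30) (kb xb17 yb54 zb51) (kb xb11 yb15 zb29) (kb xb11 yb7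 zb3) (kb xb7 yb2 zb54) (kb xb4 yb57 zb12) (kb xb4 yb57 zb8) (kb xb11 yb13 zb21) (kb xb17 yb54 zb59) (kb xb17 yb54 zb57) (kb xb14 yb50 zb36) (kb xb11 yb6 zb47) (kb xb17 yb55 zb2) (kb xb17 yb55 zb3) (kb xb4 yb57 zb11) (kb xb8 yb34 zb22) (kb xb7 yb2 zb53) (kb xb15 yb43 zb41) (kb xb16 yb21 zb46) (kb xb11 yb16 zb46) (kb xb10 yb39 zb31) (kb xb12 yb9 zb14) (kb xb7 yb33 zb47) (kb xb11 yb10 zb48) (kb xb17 yb55 zb9) (kb xb4 yb57 zb23) (kb xb12 yb4 zb3) (kb xb11 yb6 zb54) (kb xb4 yb57 zb22) (kb xb17 yb55 zb21) (kb xb17 yb55 zb22) (kb xb15 yb4 zb4) (kb xb11 yb27 zb35) (kb xb17 yb55 zb14) (kb xb12 yb8 zb55) (kb xb13 yb58 zb26) (kb xb13 yb58 zb27) (kb xb17 yb55 zb28) (kb xb16 yb55 zb29) (kb xb15 yb4 zb12) (kb xb4 yb57 zb32) (kb xb4 yb57 zb31) (kb xb8 yb21 zb25) (kb xb15 yb3 zb49)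 (kb xb12 yb23 zb48) (kb xb4 yb57 zb34) (kb xb10 yb38 zb38) (kb xb17 yb55 zb41) (kb xb14 yb28 zb53) (kb xb7 yb29 zb5)) (@D3.rec (fun _ => Pt) (kb xb4 yb57 zb36) (kb xb4 yb57 zb37) (kb xb11 yb52 zb8) (kb xb17 yb55 zb51) (kb xb17 yb55 zb46) (kb xb15 yb3 zb44) (kb xb17 yb55 zb56) (kb xb17 yb55 zb49) (kb xb17 yb55 zb50) (kb xb15 yb3 zb45) (kb xb4 yb57 zb39) (kb xb17 yb56 zb2) (kb xb17 yb56 zb0) (kb xb4 yb57 zb40) (kb xb17 yb56 zb11) (kb xb17 yb56 zb9) (kb xb17 yb56 zb10) (kb xb4 yb57 zb57) (kb xb17 yb56 zb16) (kb xb10 yb49 zb24) (kb xb4 yb57 zb60) (kb xb15 yb4 zb45) (kb xb5 yb52 zb56) (kb xb16 yb57 zb56) (kb xb5 yb52 zb59) (kb xb17 yb56 zb24) (kb xb4 yb57 zb46) (kb xb8 yb21 zb22) (kb xb4 yb57 zb47) (kb xb17 yb56 zb31) (kb xb10 yb52 zb58) (kb xb17 yb56 zb35) (kb xb17 yb56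 zb38) (kb xb4 yb57 zb50) (kb xb4 yb57 zb51) (kb xb17 yb56 zb41) (kb xb11 yb48 zb25) (kb xb16 yb56 zb49) (kb xb4 yb57 zb53) (kb xb7 yb27 zb33) (kb xb17 yb55 zb61) (kb xb12 yb4 zb39) (kb xb13 yb0 zb51) (kb xb4 yb57 zb56) (kb xb17 yb56 zb15) (kb xb4 yb57 zb58) (kb xb5 yb36 zb25) (kb xb15 yb27 zb13) (kb xb4 yb57 zb59) (kb xb10 yb48 zb45) (kb xb17 yb9 zb9) (kb xb5 yb26 zb36) (kb xb15 yb30 zb19) (kb xb17 yb56 zb52) (kb xb4 yb57 zb61) (kb xb4 yb58 zb0) (kb xb17 yb56 zb56) (kb xb17 yb56 zb57) (kb xb4 yb58 zb1) (kb xb17 yb57 zb2) (kb xb17 yb57 zb3) (kb xb17 yb57 zb7)) (@D3.rec (fun _ => Pt) (kb xb17 yb57 zb9) (kb xb10 yb56 zb58) (kb xb11 yb37 zb60) (kb xb8 yb0 zb13) (kb xb4 yb58 zb5) (kb xb17 yb57 zb20) (kb xb17 yb57 zb19) (kb xb17 yb57 zb24) (kb xb12 yb6 zb8) (kb xb4 yb58 zb7)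 (kb xb13 yb49 zb57) (kb xb13 yb40 zb34) (kb xb13 yb33 zb0) (kb xb7 yb40 zb14) (kb xb4 yb58 zb9) (kb xb11 yb38 zb18) (kb xb13 yb31 zb51) (kb xb11 yb32 zb7) (kb xb4 yb58 zb13) (kb xb9 yb57 zb2) (kb xb6 yb51 zb5) (kb xb17 yb36 zb16) (kb xb6 yb53 zb55) (kb xb17 yb57 zb44) (kb xb11 yb37 zb12) (kb xb11 yb25 zb13) (kb xb5 yb51 zb4) (kb xb12 yb27 zb40) (kb xb4 yb58 zb44) (kb xb4 yb58 zb45) (kb xb5 yb7 zb30) (kb xb4 yb58 zb25) (kb xb12 yb56 zb18) (kb xb5 yb7 zb49) (kb xb11 yb25 zb26) (kb xb14 yb10 zb15) (kb xb4 yb58 zb50) (kb xb11 yb33 zb54) (kb xb4 yb58 zb34) (kb xb11 yb28 zb24) (kb xb11 yb25 zb14) (kb xb4 yb58 zb35) (kb xb17 yb57 zb57) (kb xb11 yb25 zb29) (kb xb11 yb24 zb48) (kb xb4 yb58 zb37) (kb xb11 yb18 zb6) (kb xb17 yb58 zb1) (kb xb11 yb59 zb18) (kb xb14 yb15 zb53) (kb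 xb9 yb15 zb25) (kb xb4 yb58 zb42) (kb xb17 yb13 zb2) (kb xb14 yb15 zb55) (kb xb11 yb36 zb31) (kb xb12 yb36 zb1) (kb xb5 yb55 zb43) (kb xb17 yb58 zb6) (kb xb12 yb30 zb13) (kb xb5 yb51 zb44) (kb xb7 yb26 zb28) (kb xb14 yb12 zb51)) (@D3.rec (fun _ => Pt) (kb xb16 yb29 zb58) (kb xb10 yb4 zb43) (kb xb10 yb17 zb60) (kb xb11 yb28 zb39) (kb xb10 yb18 zb35) (kb xb4 yb58 zb49) (kb xb17 yb57 zb54) (kb xb17 yb58 zb22) (kb xb11 yb25 zb27) (kb xb11 yb21 zb13) (kb xb9 yb4 zb39) (kb xb12 yb5 zb25) (kb xb11 yb28 zb30) (kb xb4 yb58 zb57) (kb xb17 yb58 zb28) (kb xb11 yb42 zb31) (kb xb5 yb52 zb4) (kb xb4 yb59 zb4) (kb xb4 yb59 zb5) (kb xb11 yb42 zb61) (kb xb14 yb32 zb54) (kb xb5 yb52 zb3) (kb xb9 yb8 zb45) (kb xb10 yb43 zb27) (kb xb11 yb27 zb33) (kb xb17 yb58 zb39) (kb xb6 yb55 zb61) (kb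 xb11 yb36 zb21) (kb xb4 yb59 zb1) (kb xb4 yb59 zb2) (kb xb12 yb2 zb2) (kb xb17 yb58 zb44) (kb xb17 yb58 zb42) (kb xb9 yb15 zb24) (kb xb14 yb12 zb19) (kb xb12 yb30 zb3) (kb xb12 yb30 zb4) (kb xb10 yb43 zb24) (kb xb14 yb32 zb53) (kb xb14 yb19 zb61) (kb xb13 yb43 zb10) (kb xb15 yb4 zb58) (kb xb13 yb43 zb20) (kb xb17 yb58 zb56) (kb xb17 yb58 zb59) (kb xb4 yb59 zb8) (kb xb17 yb59 zb1) (kb xb17 yb59 zb2) (kb xb12 yb5 zb33) (kb xb4 yb59 zb12) (kb xb4 yb59 zb11) (kb xb9 yb10 zb60) (kb xb12 yb10 zb52) (kb xb17 yb5 zb36) (kb xb4 yb59 zb15) (kb xb17 yb59 zb12) (kb xb17 yb6 zb47) (kb xb4 yb59 zb17) (kb xb17 yb19 zb46) (kb xb17 yb59 zb17) (kb xb17 yb59 zb18) (kb xb4 yb59 zb18)) (@D3.rec (fun _ => Pt) (kb xb9 yb11 zb46) (kb xb11 yb38 zb30) (kb xb17 yb6 zb8) (kb xb5 yb48 zb8) (kb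 xb17 yb59 zb27) (kb xb4 yb59 zb28) (kb xb4 yb59 zb29) (kb xb4 yb59 zb22) (kb xb17 yb59 zb35) (kb xb4 yb59 zb23) (kb xb12 yb28 zb8) (kb xb9 yb12 zb7) (kb xb4 yb59 zb26) (kb xb17 yb59 zb38) (kb xb17 yb59 zb40) (kb xb12 yb23 zb24) (kb xb17 yb59 zb43) (kb xb12 yb42 zb60) (kb xb15 yb2 zb32) (kb xb17 yb59 zb37) (kb xb14 yb11 zb14) (kb xb12 yb25 zb3) (kb xb15 yb5 zb9) (kb xb8 yb48 zb8) (kb xb17 yb59 zb33) (kb xb4 yb59 zb31) (kb xb17 yb59 zb57) (kb xb11 yb44 zb56) (kb xb4 yb59 zb38) (kb xb7 yb43 zb3) (kb xb11 yb49 zb0) (kb xb4 yb59 zb34) (kb xb4 yb59 zb35) (kb xb17 yb0 zb1) (kb xb9 yb44 zb28) (kb xb18 yb0 zb5) (kb xb17 yb0 zb2) (kb xb9 yb12 zb3) (kb xb18 yb0 zb10) (kb xb11 yb49 zb51) (kb xb5 yb50 zb27) (kb xb6 yb36 zb23) (kb xb18 yb0 zb13) (kb xb11 yb43 zb46) (kb xb4 yb59 zb40)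 (kb xb4 yb59 zb41) (kb xb18 yb0 zb16) (kb xb18 yb0 zb19) (kb xb18 yb0 zb20) (kb xb17 yb4 zb50) (kb xb12 yb16 zb14) (kb xb14 yb32 zb8) (kb xb4 yb59 zb44) (kb xb12 yb3 zb6) (kb xb7 yb31 zb29) (kb xb12 yb3 zb13) (kb xb4 yb59 zb45) (kb xb17 yb7 zb25) (kb xb4 yb59 zb46) (kb xb18 yb0 zb34) (kb xb15 yb25 zb41) (kb xb18 yb0 zb38)) (@D3.rec (fun _ => Pt) (kb xb12 yb16 zb20) (kb xb12 yb16 zb21) (kb xb6 yb49 zb4) (kb xb4 yb59 zb49) (kb xb17 yb52 zb30) (kb xb18 yb0 zb51) (kb xb4 yb59 zb50) (kb xb18 yb0 zb58) (kb xb18 yb0 zb61) (kb xb18 yb1 zb2) (kb xb18 yb1 zb7) (kb xb6 yb37 zb53) (kb xb5 yb18 zb42) (kb xb18 yb1 zb10) (kb xb6 yb49 zb5) (kb xb5 yb0 zb17) (kb xb4 yb59 zb56) (kb xb4 yb59 zb57) (kb xb18 yb1 zb21) (kb xb4 yb59 zb55) (kb xb18 yb1 zb23) (kb xb18 yb1 zb24) (kb xb15 yb5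 zb27) (kb xb5 yb0 zb14) (kb xb5 yb0 zb15) (kb xb18 yb1 zb20) (kb xb17 yb4 zb24) (kb xb9 yb11 zb43) (kb xb4 yb59 zb60) (kb xb9 yb11 zb45) (kb xb18 yb1 zb33) (kb xb6 yb50 zb19) (kb xb5 yb0 zb0) (kb xb18 yb1 zb37) (kb xb18 yb1 zb38) (kb xb5 yb0 zb1) (kb xb6 yb5 zb53) (kb xb18 yb1 zb41) (kb xb15 yb30 zb14) (kb xb5 yb26 zb30) (kb xb18 yb1 zb42) (kb xb5 yb0 zb4) (kb xb18 yb1 zb45) (kb xb5 yb0 zb5) (kb xb18 yb1 zb47) (kb xb18 yb1 zb46) (kb xb18 yb1 zb53) (kb xb5 yb31 zb44) (kb xb18 yb1 zb59) (kb xb18 yb2 zb0) (kb xb5 yb0 zb7) (kb xb18 yb2 zb5) (kb xb8 yb49 zb56) (kb xb15 yb5 zb34) (kb xb6 yb47 zb39) (kb xb18 yb1 zb32) (kb xb18 yb2 zb7) (kb xb17 yb12 zb56) (kb xb5 yb0 zb16) (kb xb5 yb0 zb13) (kb xb14 yb34 zb49) (kb xb15 yb5 zb41)) (@D3.rec (fun _ => Pt) (kb xb18 yb2 zb9) (kb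 xb18 yb1 zb16) (kb xb18 yb2 zb13) (kb xb5 yb0 zb21) (kb xb5 yb0 zb20) (kb xb15 yb30 zb10) (kb xb5 yb0 zb23) (kb xb18 yb2 zb15) (kb xb18 yb2 zb17) (kb xb18 yb1 zb51) (kb xb5 yb31 zb57) (kb xb17 yb8 zb58) (kb xb5 yb0 zb26) (kb xb18 yb1 zb56) (kb xb16 yb30 zb1) (kb xb18 yb2 zb22) (kb xb18 yb2 zb25) (kb xb12 yb5 zb49) (kb xb5 yb0 zb28) (kb xb18 yb2 zb33) (kb xb5 yb0 zb30) (kb xb11 yb7 zb30) (kb xb5 yb38 zb43) (kb xb17 yb57 zb28) (kb xb18 yb2 zb35) (kb xb9 yb10 zb31) (kb xb5 yb0 zb33) (kb xb7 yb57 zb42) (kb xb10 yb32 zb2) (kb xb5 yb0 zb37) (kb xb18 yb2 zb42) (kb xb15 yb42 zb40) (kb xb5 yb0 zb38) (kb xb18 yb2 zb47) (kb xb18 yb2 zb48) (kb xb18 yb2 zb52) (kb xb18 yb2 zb55) (kb xb9 yb51 zb48) (kb xb5 yb0 zb40) (kb xb18 yb2 zb58) (kb xb14 yb9 zb60) (kb xb16 yb10 zb18) (kb xb5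 yb0 zb41) (kb xb18 yb3 zb2) (kb xb17 yb51 zb51) (kb xb17 yb51 zb52) (kb xb16 yb4 zb46) (kb xb16 yb47 zb39) (kb xb9 yb51 zb37) (kb xb5 yb0 zb44) (kb xb7 yb30 zb0) (kb xb18 yb3 zb14) (kb xb18 yb3 zb18) (kb xb18 yb3 zb19) (kb xb5 yb0 zb46) (kb xb18 yb3 zb23) (kb xb5 yb0 zb47) (kb xb18 yb3 zb27) (kb xb18 yb3 zb28) (kb xb5 yb0 zb49) (kb xb18 yb3 zb32) (kb xb18 yb3 zb33)) (@D3.rec (fun _ => Pt) (kb xb8 yb4 zb13) (kb xb17 yb45 zb37) (kb xb5 yb0 zb51) (kb xb18 yb3 zb44) (kb xb18 yb3 zb45) (kb xb5 yb0 zb52) (kb xb18 yb3 zb52) (kb xb18 yb3 zb53) (kb xb16 yb18 zb44) (kb xb18 yb3 zb61) (kb xb5 yb1 zb55) (kb xb5 yb0 zb54) (kb xb5 yb0 zb55) (kb xb18 yb4 zb8) (kb xb18 yb4 zb9) (kb xb17 yb37 zb61) (kb xb18 yb4 zb7) (kb xb14 yb34 zb34) (kb xb5 yb2 zb54) (kb xb9 yb3 zb6) (kb xb18 yb4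 zb18) (kb xb5 yb0 zb60) (kb xb18 yb4 zb22) (kb xb14 yb14 zb46) (kb xb8 yb36 zb31) (kb xb17 yb45 zb45) (kb xb5 yb1 zb14) (kb xb5 yb1 zb1) (kb xb18 yb4 zb29) (kb xb10 yb32 zb60) (kb xb5 yb1 zb3) (kb xb18 yb4 zb34) (kb xb18 yb4 zb35) (kb xb18 yb4 zb41) (kb xb18 yb4 zb16) (kb xb10 yb7 zb32) (kb xb5 yb1 zb5) (kb xb18 yb4 zb47) (kb xb18 yb4 zb48) (kb xb5 yb1 zb7) (kb xb17 yb42 zb60) (kb xb18 yb4 zb53) (kb xb5 yb1 zb8) (kb xb9 yb34 zb4) (kb xb17 yb41 zb24) (kb xb18 yb4 zb56) (kb xb18 yb4 zb60) (kb xb18 yb3 zb22) (kb xb5 yb1 zb10) (kb xb5 yb1 zb11) (kb xb11 yb59 zb48) (kb xb18 yb5 zb7) (kb xb18 yb5 zb11) (kb xb12 yb20 zb13) (kb xb18 yb5 zb9) (kb xb18 yb5 zb13) (kb xb5 yb2 zb45) (kb xb10 yb7 zb20) (kb xb5 yb2 zb5) (kb xb15 yb50 zb53) (kb xb5 yb2 zb52) (kb xb5 yb1 zb28)) (@D3.rec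 (fun _ => Pt) (kb xb5 yb1 zb29) (kb xb5 yb1 zb21) (kb xb16 yb16 zb11) (kb xb5 yb28 zb13) (kb xb18 yb5 zb21) (kb xb18 yb1 zb15) (kb xb18 yb3 zb26) (kb xb5 yb1 zb25) (kb xb16 yb8 zb28) (kb xb18 yb5 zb33) (kb xb5 yb37 zb9) (kb xb18 yb5 zb35) (kb xb5 yb2 zb24) (kb xb5 yb3 zb14) (kb xb10 yb8 zb10) (kb xb18 yb5 zb41) (kb xb5 yb1 zb30) (kb xb18 yb5 zb45) (kb xb5 yb1 zb31) (kb xb13 yb44 zb45) (kb xb10 yb11 zb35) (kb xb16 yb22 zb8) (kb xb5 yb1 zb39) (kb xb5 yb1 zb33) (kb xb18 yb5 zb54) (kb xb18 yb5 zb56) (kb xb18 yb5 zb59) (kb xb18 yb3 zb31) (kb xb5 yb1 zb35) (kb xb5 yb1 zb36) (kb xb17 yb40 zb33) (kb xb8 yb1 zb40) (kb xb12 yb1 zb47) (kb xb18 yb6 zb9) (kb xb18 yb6 zb11) (kb xb18 yb6 zb4) (kb xb7 yb33 zb5) (kb xb18 yb6 zb18) (kb xb10 yb8 zb33) (kb xb17 yb30 zb24) (kb xb5 yb3 zb40)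 (kb xb5 yb3 zb41) (kb xb15 yb50 zb55) (kb xb9 yb40 zb16) (kb xb5 yb1 zb46) (kb xb18 yb6 zb22) (kb xb18 yb6 zb24) (kb xb14 yb15 zb21) (kb xb5 yb1 zb42) (kb xb5 yb1 zb43) (kb xb18 yb6 zb29) (kb xb18 yb6 zb33) (kb xb18 yb6 zb35) (kb xb9 yb53 zb54) (kb xb9 yb53 zb53) (kb xb18 yb6 zb37) (kb xb5 yb3 zb61) (kb xb18 yb6 zb40) (kb xb18 yb6 zb42) (kb xb18 yb6 zb46) (kb xb18 yb3 zb43) (kb xb5 yb21 zb21)) (@D3.rec (fun _ => Pt) (kb xb5 yb1 zb48) (kb xb5 yb1 zb49) (kb xb18 yb6 zb60) (kb xb18 yb7 zb0) (kb xb18 yb6 zb57) (kb xb18 yb6 zb58) (kb xb18 yb6 zb59) (kb xb18 yb7 zb10) (kb xb18 yb7 zb13) (kb xb18 yb3 zb51) (kb xb5 yb1 zb51) (kb xb5 yb1 zb52) (kb xb18 yb7 zb22) (kb xb18 yb7 zb24) (kb xb18 yb7 zb25) (kb xb18 yb3 zb56) (kb xb18 yb7 zb31) (kb xb5 yb1 zb53) (kb xb18 yb7 zb36) (kb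 xb17 yb43 zb3) (kb xb18 yb7 zb35) (kb xb10 yb30 zb15) (kb xb5 yb1 zb54) (kb xb5 yb18 zb44) (kb xb16 yb18 zb24) (kb xb13 yb20 zb2) (kb xb18 yb4 zb3) (kb xb18 yb7 zb54) (kb xb18 yb7 zb57) (kb xb18 yb8 zb0) (kb xb5 yb1 zb61) (kb xb5 yb2 zb0) (kb xb5 yb2 zb1) (kb xb5 yb1 zb58) (kb xb18 yb8 zb11) (kb xb5 yb1 zb59) (kb xb18 yb8 zb16) (kb xb5 yb1 zb60) (kb xb16 yb19 zb13) (kb xb18 yb8 zb28) (kb xb13 yb37 zb13) (kb xb18 yb8 zb4) (kb xb18 yb8 zb5) (kb xb18 yb8 zb39) (kb xb18 yb8 zb42) (kb xb18 yb8 zb8) (kb xb5 yb2 zb2) (kb xb18 yb8 zb48) (kb xb18 yb8 zb46) (kb xb18 yb8 zb47) (kb xb16 yb22 zb12) (kb xb5 yb2 zb4) (kb xb18 yb8 zb55) (kb xb18 yb8 zb56) (kb xb10 yb9 zb51) (kb xb5 yb2 zb23) (kb xb18 yb5 zb16) (kb xb18 yb9 zb2) (kb xb5 yb2 zb7) (kb xb9 yb56 zb0) (kb xb18 yb9 zb6) (kb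 xb9 yb40 zb11)) (@D3.rec (fun _ => Pt) (kb xb15 yb30 zb55) (kb xb5 yb2 zb9) (kb xb17 yb41 zb38) (kb xb18 yb9 zb14) (kb xb5 yb2 zb10) (kb xb5 yb10 zb8) (kb xb18 yb9 zb17) (kb xb18 yb9 zb21) (kb xb18 yb9 zb25) (kb xb17 yb45 zb53) (kb xb5 yb2 zb12) (kb xb5 yb2 zb13) (kb xb18 yb9 zb33) (kb xb18 yb9 zb41) (kb xb18 yb9 zb43) (kb xb18 yb9 zb36) (kb xb17 yb42 zb35) (kb xb5 yb2 zb14) (kb xb18 yb9 zb51) (kb xb5 yb2 zb15) (kb xb18 yb9 zb54) (kb xb18 yb9 zb53) (kb xb5 yb2 zb17) (kb xb13 yb26 zb28) (kb xb17 yb30 zb32) (kb xb17 yb23 zb13) (kb xb18 yb10 zb1) (kb xb18 yb10 zb3) (kb xb18 yb10 zb6) (kb xb10 yb10 zb24) (kb xb5 yb2 zb20) (kb xb5 yb2 zb21) (kb xb12 yb44 zb4) (kb xb13 yb31 zb4) (kb xb18 yb10 zb13) (kb xb17 yb30 zb5) (kb xb18 yb10 zb12) (kb xb5 yb2 zb22) (kb xb18 yb10 zb15)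 (kb xb18 yb10 zb16) (kb xb17 yb51 zb24) (kb xb12 yb2 zb22) (kb xb10 yb10 zb32) (kb xb5 yb2 zb26) (kb xb5 yb2 zb27) (kb xb18 yb10 zb22) (kb xb18 yb10 zb23) (kb xb12 yb1 zb27) (kb xb10 yb2 zb14) (kb xb5 yb12 zb9) (kb xb5 yb2 zb29) (kb xb5 yb2 zb30) (kb xb12 yb36 zb52) (kb xb16 yb30 zb33) (kb xb18 yb10 zb28) (kb xb18 yb10 zb30) (kb xb18 yb10 zb33) (kb xb10 yb2 zb23) (kb xb5 yb12 zb15) (kb xb5 yb2 zb32) (kb xb16 yb49 zb17) (kb xb5 yb2 zb33)) (@D3.rec (fun _ => Pt) (kb xb9 yb54 zb59) (kb xb17 yb22 zb55) (kb xb13 yb14 zb25) (kb xb5 yb2 zb34) (kb xb18 yb10 zb49) (kb xb12 yb41 zb11) (kb xb18 yb10 zb48) (kb xb10 yb10 zb40) (kb xb18 yb10 zb55) (kb xb12 yb2 zb59) (kb xb5 yb2 zb38) (kb xb18 yb10 zb58) (kb xb18 yb10 zb60) (kb xb18 yb11 zb1) (kb xb18 yb11 zb3) (kb xb9 yb38 zb47)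 (kb xb5 yb2 zb39) (kb xb5 yb2 zb40) (kb xb17 yb33 zb30) (kb xb18 yb11 zb8) (kb xb5 yb2 zb43) (kb xb5 yb2 zb44) (kb xb18 yb11 zb13) (kb xb5 yb2 zb46) (kb xb18 yb11 zb17) (kb xb18 yb11 zb18) (kb xb5 yb2 zb48) (kb xb18 yb11 zb24) (kb xb18 yb11 zb25) (kb xb5 yb2 zb51) (kb xb18 yb11 zb31) (kb xb8 yb43 zb50) (kb xb5 yb2 zb53) (kb xb18 yb11 zb38) (kb xb18 yb11 zb39) (kb xb10 yb10 zb57) (kb xb18 yb4 zb17) (kb xb5 yb2 zb55) (kb xb18 yb11 zb50) (kb xb18 yb11 zb51) (kb xb5 yb2 zb56) (kb xb18 yb11 zb57) (kb xb18 yb11 zb58) (kb xb18 yb12 zb0) (kb xb18 yb12 zb4) (kb xb18 yb11 zb23) (kb xb5 yb2 zb58) (kb xb5 yb2 zb59) (kb xb18 yb12 zb12) (kb xb18 yb12 zb20) (kb xb18 yb12 zb14) (kb xb18 yb12 zb15) (kb xb5 yb2 zb60) (kb xb18 yb12 zb26) (kb xb18 yb12 zb28) (kb xb18 yb12 zb30) (kb xb6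 yb46 zb40) (kb xb6 yb12 zb15) (kb xb5 yb3 zb4) (kb xb18 yb12 zb38) (kb xb6 yb40 zb56) (kb xb18 yb12 zb35)) (@D3.rec (fun _ => Pt) (kb xb5 yb3 zb5) (kb xb18 yb12 zb44) (kb xb9 yb47 zb19) (kb xb11 yb46 zb0) (kb xb10 yb11 zb21) (kb xb10 yb11 zb22) (kb xb7 yb31 zb25) (kb xb12 yb34 zb60) (kb xb5 yb8 zb6) (kb xb5 yb3 zb9) (kb xb13 yb30 zb8) (kb xb5 yb3 zb11) (kb xb5 yb3 zb12) (kb xb18 yb12 zb61) (kb xb18 yb13 zb0) (kb xb18 yb12 zb56) (kb xb18 yb12 zb57) (kb xb5 yb3 zb10) (kb xb17 yb49 zb3) (kb xb5 yb3 zb13) (kb xb9 yb41 zb54) (kb xb5 yb3 zb15) (kb xb5 yb3 zb17) (kb xb18 yb13 zb6) (kb xb18 yb13 zb8) (kb xb18 yb13 zb10) (kb xb17 yb46 zb1) (kb xb5 yb3 zb19) (kb xb5 yb3 zb20) (kb xb17 yb44 zb53) (kb xb18 yb13 zb16) (kb xb18 yb13 zb25) (kb xb18 yb9 zb38) (kb xb18 yb13 zb19) (kb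 xb18 yb13 zb20) (kb xb5 yb3 zb21) (kb xb18 yb13 zb35) (kb xb18 yb13 zb34) (kb xb10 yb8 zb37) (kb xb5 yb3 zb22) (kb xb18 yb13 zb41) (kb xb15 yb52 zb29) (kb xb18 yb13 zb40) (kb xb5 yb3 zb24) (kb xb9 yb40 zb33) (kb xb18 yb13 zb46) (kb xb5 yb3 zb25) (kb xb17 yb46 zb21) (kb xb10 yb11 zb61) (kb xb10 yb12 zb0) (kb xb18 yb13 zb55) (kb xb12 yb47 zb42) (kb xb18 yb13 zb57) (kb xb18 yb13 zb60) (kb xb5 yb3 zb34) (kb xb5 yb3 zb35) (kb xb5 yb3 zb29) (kb xb18 yb14 zb6) (kb xb5 yb3 zb30) (kb xb14 yb12 zb22) (kb xb6 yb44 zb55) (kb xb5 yb3 zb32)) (@D3.rec (fun _ => Pt) (kb xb11 yb21 zb60) (kb xb8 yb11 zb48) (kb xb18 yb14 zb9) (kb xb6 yb3 zb13) (kb xb18 yb14 zb5) (kb xb18 yb14 zb10) (kb xb5 yb3 zb38) (kb xb5 yb3 zb37) (kb xb18 yb14 zb13) (kb xb18 yb14 zb14) (kb xb5 yb3 zb39) (kb xb17 yb30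 zb9) (kb xb18 yb14 zb17) (kb xb5 yb3 zb42) (kb xb18 yb14 zb21) (kb xb18 yb14 zb22) (kb xb15 yb30 zb60) (kb xb9 yb40 zb17) (kb xb5 yb3 zb44) (kb xb18 yb14 zb31) (kb xb18 yb14 zb33) (kb xb18 yb14 zb34) (kb xb18 yb14 zb20) (kb xb5 yb3 zb46) (kb xb5 yb3 zb47) (kb xb18 yb14 zb45) (kb xb18 yb14 zb47) (kb xb18 yb14 zb41) (kb xb18 yb14 zb53) (kb xb18 yb14 zb55) (kb xb18 yb14 zb44) (kb xb16 yb7 zb53) (kb xb5 yb3 zb48) (kb xb18 yb15 zb0) (kb xb18 yb14 zb60) (kb xb5 yb3 zb49) (kb xb18 yb15 zb3) (kb xb5 yb3 zb51) (kb xb9 yb40 zb32) (kb xb5 yb3 zb52) (kb xb18 yb6 zb52) (kb xb18 yb15 zb8) (kb xb10 yb12 zb40) (kb xb10 yb12 zb41) (kb xb6 yb36 zb21) (kb xb17 yb34 zb18) (kb xb5 yb7 zb5) (kb xb5 yb3 zb56) (kb xb18 yb15 zb17) (kb xb18 yb15 zb20) (kb xb5 yb3 zb57) (kb xb10 yb42 zb16) (kb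 xb5 yb3 zb58) (kb xb5 yb3 zb60) (kb xb17 yb50 zb21) (kb xb18 yb15 zb24) (kb xb5 yb4 zb1) (kb xb5 yb4 zb2) (kb xb16 yb34 zb58) (kb xb10 yb12 zb59) (kb xb15 yb7 zb42) (kb xb17 yb47 zb53)) (@D3.rec (fun _ => Pt) (kb xb18 yb15 zb26) (kb xb15 yb8 zb60) (kb xb5 yb4 zb10) (kb xb5 yb4 zb11) (kb xb5 yb4 zb7) (kb xb18 yb15 zb30) (kb xb5 yb4 zb8) (kb xb5 yb57 zb49) (kb xb18 yb15 zb32) (kb xb17 yb5 zb20) (kb xb6 yb36 zb1) (kb xb18 yb15 zb36) (kb xb13 yb1 zb59) (kb xb18 yb15 zb38) (kb xb13 yb38 zb39) (kb xb5 yb4 zb12) (kb xb16 yb23 zb22) (kb xb18 yb15 zb40) (kb xb5 yb4 zb13) (kb xb10 yb29 zb55) (kb xb17 yb50 zb24) (kb xb10 yb29 zb44) (kb xb10 yb13 zb16) (kb xb18 yb15 zb52) (kb xb9 yb39 zb33) (kb xb5 yb16 zb27) (kb xb5 yb16 zb28) (kb xb18 yb15 zb60) (kb xb18 yb15 zb61) (kb xb5 yb4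 zb18) (kb xb17 yb42 zb41) (kb xb18 yb16 zb6) (kb xb5 yb4 zb19) (kb xb5 yb4 zb20) (kb xb10 yb13 zb26) (kb xb5 yb4 zb22) (kb xb15 yb14 zb33) (kb xb6 yb39 zb25) (kb xb18 yb16 zb9) (kb xb10 yb13 zb51) (kb xb12 yb2 zb27) (kb xb18 yb16 zb16) (kb xb5 yb4 zb25) (kb xb5 yb4 zb26) (kb xb5 yb4 zb27) (kb xb18 yb16 zb25) (kb xb18 yb3 zb30) (kb xb5 yb4 zb24) (kb xb18 yb16 zb31) (kb xb18 yb16 zb32) (kb xb18 yb16 zb33) (kb xb10 yb13 zb43) (kb xb18 yb16 zb19) (kb xb12 yb44 zb37) (kb xb10 yb13 zb47) (kb xb18 yb16 zb22) (kb xb18 yb16 zb23) (kb xb18 yb16 zb24) (kb xb10 yb13 zb31) (kb xb18 yb15 zb43) (kb xb18 yb16 zb48) (kb xb5 yb4 zb30))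
def f_b_10 : D2 → D3 → Pt := @D2.rec (fun _ => D3 → Pt) (@D3.rec (fun _ => Pt) (kb xb5 yb4 zb31) (kb xb5 yb4 zb29) (kb xb9 yb38 zb34) (kb xb18 yb16 zb55) (kb xb18 yb16 zb53) (kb xb10 yb13 zb61) (kb xb12 yb27 zb24) (kb xb18 yb16 zb54) (kb xb10 yb45 zb49) (kb xb10 yb14 zb3) (kb xb5 yb4 zb33) (kb xb18 yb17 zb5) (kb xb18 yb17 zb4) (kb xb11 yb34 zb55) (kb xb12 yb2 zb23) (kb xb6 yb8 zb46) (kb xb18 yb17 zb8) (kb xb18 yb17 zb10) (kb xb9 yb15 zb27) (kb xb5 yb4 zb43) (kb xb17 yb50 zb26) (kb xb18 yb17 zb16) (kb xb5 yb4 zb45) (kb xb18 yb17 zb21) (kb xb11 yb29 zb6) (kb xb6 yb18 zb35) (kb xb5 yb5 zb60) (kb xb5 yb4 zb40) (kb xb17 yb58 zb43) (kb xb18 yb17 zb27) (kb xb18 yb17 zb26) (kb xb12 yb2 zb47) (kb xb12 yb2 zb48) (kb xb5 yb4 zb42) (kb xb6 yb18 zb10) (kb xb18 yb17 zb31) (kb xb5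 yb4 zb44) (kb xb18 yb17 zb34) (kb xb5 yb4 zb48) (kb xb5 yb4 zb47) (kb xb18 yb17 zb37) (kb xb18 yb17 zb38) (kb xb8 yb6 zb32) (kb xb18 yb17 zb42) (kb xb5 yb4 zb51) (kb xb18 yb17 zb46) (kb xb8 yb6 zb37) (kb xb6 yb5 zb34) (kb xb5 yb5 zb3) (kb xb5 yb4 zb53) (kb xb18 yb17 zb55) (kb xb18 yb17 zb56) (kb xb10 yb33 zb16) (kb xb18 yb17 zb41) (kb xb8 yb56 zb42) (kb xb5 yb4 zb57) (kb xb5 yb4 zb56) (kb xb18 yb18 zb4) (kb xb18 yb18 zb5) (kb xb5 yb4 zb58) (kb xb18 yb18 zb11) (kb xb18 yb18 zb12)) (@D3.rec (fun _ => Pt) (kb xb5 yb4 zb59) (kb xb18 yb18 zb19) (kb xb6 yb45 zb19) (kb xb18 yb18 zb23) (kb xb7 yb46 zb13) (kb xb5 yb4 zb61) (kb xb5 yb5 zb0) (kb xb18 yb18 zb30) (kb xb15 yb6 zb14) (kb xb18 yb18 zb38) (kb xb18 yb18 zb32) (kb xb18 yb18 zb33) (kb xb18 yb18 zb43) (kb xb5 yb5 zb2) (kb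 xb18 yb18 zb45) (kb xb18 yb18 zb44) (kb xb17 yb9 zb30) (kb xb8 yb12 zb18) (kb xb5 yb5 zb6) (kb xb18 yb18 zb50) (kb xb5 yb5 zb8) (kb xb18 yb18 zb55) (kb xb8 yb3 zb25) (kb xb15 yb50 zb5) (kb xb8 yb10 zb32) (kb xb5 yb5 zb10) (kb xb18 yb18 zb60) (kb xb5 yb5 zb11) (kb xb18 yb19 zb2) (kb xb13 yb27 zb57) (kb xb15 yb30 zb41) (kb xb18 yb19 zb7) (kb xb5 yb5 zb16) (kb xb5 yb5 zb15) (kb xb18 yb19 zb16) (kb xb18 yb19 zb21) (kb xb13 yb48 zb25) (kb xb18 yb19 zb12) (kb xb5 yb5 zb19) (kb xb5 yb5 zb18) (kb xb17 yb34 zb45) (kb xb18 yb19 zb32) (kb xb10 yb14 zb45) (kb xb5 yb5 zb35) (kb xb18 yb19 zb29) (kb xb5 yb5 zb20) (kb xb18 yb19 zb42) (kb xb18 yb19 zb43) (kb xb5 yb5 zb22) (kb xb18 yb19 zb49) (kb xb17 yb23 zb8) (kb xb5 yb5 zb23) (kb xb16 yb24 zb10) (kb xb18 yb19 zb52) (kb xb16 yb19 zb24)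 (kb xb18 yb19 zb56) (kb xb16 yb34 zb49) (kb xb5 yb5 zb26) (kb xb16 yb24 zb24) (kb xb12 yb46 zb33) (kb xb18 yb20 zb1) (kb xb18 yb20 zb3)) (@D3.rec (fun _ => Pt) (kb xb13 yb52 zb8) (kb xb16 yb20 zb15) (kb xb5 yb5 zb27) (kb xb18 yb20 zb11) (kb xb18 yb20 zb13) (kb xb15 yb9 zb51) (kb xb5 yb5 zb30) (kb xb18 yb20 zb17) (kb xb18 yb20 zb18) (kb xb10 yb16 zb0) (kb xb18 yb20 zb24) (kb xb5 yb5 zb36) (kb xb18 yb1 zb13) (kb xb18 yb20 zb26) (kb xb9 yb55 zb48) (kb xb5 yb5 zb33) (kb xb18 yb20 zb32) (kb xb18 yb20 zb33) (kb xb11 yb4 zb41) (kb xb5 yb5 zb34) (kb xb18 yb20 zb34) (kb xb5 yb5 zb38) (kb xb18 yb20 zb37) (kb xb9 yb55 zb57) (kb xb5 yb5 zb40) (kb xb11 yb23 zb21) (kb xb18 yb20 zb39) (kb xb5 yb5 zb41) (kb xb18 yb20 zb44) (kb xb9 yb41 zb23) (kb xb10 yb15 zb16) (kb xb18 yb20 zb52)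 (kb xb18 yb20 zb54) (kb xb5 yb5 zb44) (kb xb5 yb5 zb45) (kb xb18 yb20 zb58) (kb xb5 yb5 zb47) (kb xb18 yb21 zb0) (kb xb5 yb5 zb50) (kb xb5 yb5 zb49) (kb xb18 yb21 zb2) (kb xb18 yb21 zb3) (kb xb5 yb50 zb14) (kb xb18 yb21 zb4) (kb xb6 yb42 zb9) (kb xb8 yb49 zb25) (kb xb18 yb21 zb5) (kb xb17 yb9 zb35) (kb xb14 yb12 zb23) (kb xb9 yb25 zb10) (kb xb12 yb44 zb12) (kb xb15 yb10 zb23) (kb xb7 yb8 zb22) (kb xb12 yb57 zb30) (kb xb12 yb9 zb50) (kb xb18 yb21 zb12) (kb xb18 yb17 zb23) (kb xb18 yb17 zb24) (kb xb18 yb21 zb22) (kb xb6 yb8 zb31) (kb xb5 yb6 zb2) (kb xb5 yb6 zb0)) (@D3.rec (fun _ => Pt) (kb xb17 yb52 zb7) (kb xb18 yb21 zb29) (kb xb18 yb21 zb30) (kb xb5 yb6 zb1) (kb xb18 yb21 zb35) (kb xb18 yb21 zb34) (kb xb5 yb6 zb4) (kb xb5 yb6 zb7) (kb xb5 yb6 zb6) (kb xb18 yb21 zb41)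 (kb xb18 yb21 zb42) (kb xb10 yb16 zb30) (kb xb15 yb10 zb1) (kb xb5 yb6 zb8) (kb xb10 yb14 zb54) (kb xb5 yb6 zb9) (kb xb8 yb43 zb48) (kb xb18 yb21 zb50) (kb xb7 yb56 zb19) (kb xb10 yb14 zb51) (kb xb10 yb29 zb27) (kb xb5 yb6 zb11) (kb xb5 yb6 zb12) (kb xb18 yb21 zb55) (kb xb18 yb22 zb0) (kb xb18 yb21 zb57) (kb xb18 yb21 zb58) (kb xb5 yb6 zb13) (kb xb18 yb22 zb6) (kb xb18 yb22 zb8) (kb xb15 yb16 zb7) (kb xb18 yb22 zb12) (kb xb11 yb54 zb8) (kb xb5 yb6 zb16) (kb xb11 yb53 zb42) (kb xb5 yb6 zb17) (kb xb11 yb23 zb34) (kb xb18 yb22 zb16) (kb xb17 yb50 zb47) (kb xb5 yb6 zb18) (kb xb18 yb22 zb19) (kb xb12 yb22 zb11) (kb xb12 yb22 zb14) (kb xb10 yb16 zb58) (kb xb18 yb22 zb20) (kb xb5 yb6 zb21) (kb xb8 yb8 zb30) (kb xb10 yb17 zb2) (kb xb5 yb24 zb59) (kb xb5 yb6 zb24) (kb xb5 yb6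 zb25) (kb xb5 yb6 zb26) (kb xb17 yb31 zb49) (kb xb6 yb44 zb46) (kb xb5 yb6 zb31) (kb xb5 yb6 zb33) (kb xb18 yb22 zb30) (kb xb5 yb6 zb36) (kb xb18 yb22 zb34) (kb xb18 yb22 zb32) (kb xb18 yb22 zb33) (kb xb18 yb22 zb38)) (@D3.rec (fun _ => Pt) (kb xb9 yb11 zb4) (kb xb12 yb10 zb44) (kb xb5 yb6 zb41) (kb xb5 yb6 zb40) (kb xb18 yb22 zb41) (kb xb10 yb4 zb25) (kb xb17 yb58 zb14) (kb xb15 yb13 zb16) (kb xb8 yb25 zb56) (kb xb13 yb15 zb48) (kb xb5 yb6 zb47) (kb xb18 yb22 zb51) (kb xb15 yb23 zb39) (kb xb18 yb22 zb56) (kb xb13 yb47 zb42) (kb xb18 yb22 zb60) (kb xb18 yb23 zb0) (kb xb5 yb6 zb46) (kb xb18 yb23 zb4) (kb xb13 yb48 zb27) (kb xb18 yb22 zb50) (kb xb9 yb24 zb35) (kb xb17 yb25 zb42) (kb xb14 yb36 zb30) (kb xb18 yb23 zb13) (kb xb10 yb4 zb5) (kb xb5 yb6 zb56) (kb xb12 yb43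 zb39) (kb xb12 yb23 zb38) (kb xb12 yb10 zb46) (kb xb9 yb15 zb2) (kb xb18 yb10 zb39) (kb xb5 yb6 zb54) (kb xb6 yb26 zb26) (kb xb18 yb23 zb20) (kb xb5 yb6 zb55) (kb xb9 yb15 zb35) (kb xb5 yb6 zb60) (kb xb18 yb23 zb22) (kb xb5 yb6 zb61) (kb xb12 yb54 zb1) (kb xb10 yb17 zb45) (kb xb10 yb5 zb4) (kb xb9 yb48 zb1) (kb xb5 yb7 zb3) (kb xb17 yb20 zb38) (kb xb17 yb19 zb33) (kb xb13 yb1 zb35) (kb xb18 yb23 zb29) (kb xb11 yb21 zb50) (kb xb18 yb23 zb31) (kb xb18 yb23 zb33) (kb xb5 yb7 zb11) (kb xb7 yb25 zb40) (kb xb18 yb23 zb25) (kb xb18 yb15 zb29) (kb xb5 yb7 zb9) (kb xb11 yb27 zb11) (kb xb16 yb30 zb0) (kb xb5 yb7 zb10) (kb xb5 yb47 zb40) (kb xb5 yb7 zb14)) (@D3.rec (fun _ => Pt) (kb xb8 yb5 zb10) (kb xb11 yb24 zb17) (kb xb18 yb23 zb38) (kb xb10 yb17 zb29) (kb xb10 yb4 zb42) (kb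 xb7 yb19 zb14) (kb xb7 yb19 zb18) (kb xb18 yb23 zb50) (kb xb8 yb23 zb58) (kb xb5 yb7 zb21) (kb xb12 yb56 zb47) (kb xb17 yb21 zb46) (kb xb6 yb44 zb60) (kb xb5 yb7 zb28) (kb xb8 yb38 zb55) (kb xb9 yb32 zb3) (kb xb5 yb7 zb26) (kb xb16 yb30 zb29) (kb xb5 yb7 zb27) (kb xb18 yb23 zb60) (kb xb13 yb1 zb43) (kb xb18 yb24 zb1) (kb xb17 yb57 zb50) (kb xb15 yb26 zb29) (kb xb11 yb15 zb47) (kb xb15 yb30 zb40) (kb xb18 yb24 zb6) (kb xb5 yb7 zb41) (kb xb5 yb7 zb42) (kb xb5 yb7 zb43) (kb xb6 yb7 zb50) (kb xb14 yb35 zb50) (kb xb12 yb10 zb13) (kb xb6 yb7 zb36) (kb xb18 yb24 zb14) (kb xb5 yb7 zb40) (kb xb18 yb24 zb18) (kb xb18 yb24 zb19) (kb xb18 yb24 zb20) (kb xb10 yb18 zb27) (kb xb18 yb24 zb8) (kb xb18 yb24 zb9) (kb xb13 yb1 zb1) (kb xb13 yb6 zb17) (kb xb11 yb33 zb45) (kb xb7 yb34 zb24)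 (kb xb5 yb7 zb48) (kb xb12 yb2 zb3) (kb xb11 yb33 zb47) (kb xb5 yb7 zb47) (kb xb7 yb34 zb22) (kb xb10 yb18 zb23) (kb xb18 yb24 zb33) (kb xb7 yb39 zb54) (kb xb17 yb57 zb52) (kb xb12 yb14 zb9) (kb xb12 yb23 zb28) (kb xb5 yb7 zb50) (kb xb18 yb24 zb47) (kb xb6 yb35 zb44) (kb xb7 yb38 zb22) (kb xb12 yb29 zb7)) (@D3.rec (fun _ => Pt) (kb xb6 yb7 zb11) (kb xb16 yb29 zb27) (kb xb18 yb24 zb53) (kb xb5 yb7 zb54) (kb xb6 yb28 zb58) (kb xb9 yb11 zb29) (kb xb5 yb7 zb53) (kb xb18 yb24 zb61) (kb xb18 yb25 zb0) (kb xb8 yb12 zb56) (kb xb5 yb8 zb9) (kb xb18 yb24 zb58) (kb xb7 yb35 zb11) (kb xb5 yb7 zb57) (kb xb12 yb39 zb42) (kb xb12 yb39 zb43) (kb xb5 yb8 zb14) (kb xb18 yb25 zb16) (kb xb5 yb7 zb58) (kb xb6 yb7 zb31) (kb xb18 yb25 zb19) (kb xb18 yb25 zb20) (kb xb5 yb7 zb59) (kb xb12 yb45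 zb8) (kb xb6 yb38 zb43) (kb xb6 yb28 zb25) (kb xb18 yb25 zb29) (kb xb13 yb20 zb40) (kb xb5 yb7 zb61) (kb xb18 yb25 zb34) (kb xb12 yb59 zb2) (kb xb18 yb25 zb35) (kb xb18 yb25 zb33) (kb xb10 yb14 zb12) (kb xb5 yb56 zb29) (kb xb6 yb28 zb38) (kb xb12 yb36 zb3) (kb xb12 yb1 zb33) (kb xb10 yb14 zb13) (kb xb5 yb8 zb2) (kb xb6 yb31 zb45) (kb xb14 yb12 zb53) (kb xb5 yb8 zb25) (kb xb18 yb25 zb48) (kb xb18 yb25 zb50) (kb xb18 yb12 zb54) (kb xb18 yb25 zb55) (kb xb18 yb25 zb58) (kb xb5 yb8 zb10) (kb xb15 yb30 zb46) (kb xb5 yb52 zb19) (kb xb18 yb25 zb10) (kb xb18 yb25 zb11) (kb xb5 yb45 zb61) (kb xb10 yb18 zb46) (kb xb11 yb25 zb20) (kb xb12 yb3 zb32) (kb xb11 yb35 zb58) (kb xb6 yb31 zb59) (kb xb14 yb4 zb55) (kb xb5 yb8 zb16) (kb xb18 yb25 zb18)) (@D3.rec (fun _ => Pt) (kb xb18 yb24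 zb38) (kb xb5 yb8 zb17) (kb xb18 yb26 zb8) (kb xb18 yb26 zb6) (kb xb5 yb8 zb18) (kb xb12 yb53 zb23) (kb xb18 yb26 zb16) (kb xb10 yb18 zb60) (kb xb12 yb0 zb37) (kb xb14 yb4 zb52) (kb xb5 yb8 zb22) (kb xb6 yb38 zb57) (kb xb18 yb26 zb22) (kb xb5 yb8 zb24) (kb xb18 yb25 zb46) (kb xb5 yb8 zb26) (kb xb18 yb26 zb23) (kb xb5 yb8 zb27) (kb xb11 yb58 zb10) (kb xb5 yb10 zb6) (kb xb9 yb52 zb57) (kb xb5 yb8 zb30) (kb xb7 yb47 zb55) (kb xb7 yb33 zb11) (kb xb8 yb24 zb43) (kb xb15 yb24 zb37) (kb xb5 yb8 zb42) (kb xb5 yb8 zb32) (kb xb18 yb26 zb31) (kb xb18 yb26 zb32) (kb xb18 yb26 zb37) (kb xb17 yb22 zb1) (kb xb9 yb52 zb35) (kb xb5 yb8 zb34) (kb xb18 yb26 zb43) (kb xb5 yb8 zb35) (kb xb18 yb26 zb48) (kb xb18 yb26 zb49) (kb xb5 yb8 zb36) (kb xb18 yb26 zb55) (kb xb18 yb26 zb56) (kb xb18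 yb26 zb58) (kb xb17 yb45 zb31) (kb xb15 yb11 zb7) (kb xb5 yb8 zb38) (kb xb5 yb8 zb39) (kb xb18 yb27 zb2) (kb xb18 yb27 zb9) (kb xb18 yb27 zb10) (kb xb14 yb1 zb14) (kb xb14 yb1 zb13) (kb xb18 yb27 zb14) (kb xb18 yb27 zb15) (kb xb5 yb10 zb2) (kb xb5 yb9 zb34) (kb xb16 yb21 zb18) (kb xb15 yb32 zb11) (kb xb5 yb8 zb53) (kb xb5 yb8 zb54) (kb xb18 yb27 zb22) (kb xb15 yb11 zb15) (kb xb5 yb8 zb49)) (@D3.rec (fun _ => Pt) (kb xb5 yb8 zb50) (kb xb18 yb27 zb25) (kb xb18 yb27 zb33) (kb xb16 yb21 zb39) (kb xb18 yb27 zb28) (kb xb18 yb27 zb29) (kb xb18 yb27 zb37) (kb xb5 yb9 zb52) (kb xb18 yb27 zb40) (kb xb5 yb10 zb24) (kb xb9 yb53 zb14) (kb xb18 yb27 zb44) (kb xb18 yb27 zb21) (kb xb5 yb8 zb55) (kb xb5 yb8 zb56) (kb xb18 yb27 zb53) (kb xb14 yb15 zb7) (kb xb9 yb39 zb42) (kb xb18 yb27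 zb59) (kb xb5 yb9 zb1) (kb xb18 yb28 zb0) (kb xb18 yb28 zb3) (kb xb15 yb11 zb28) (kb xb5 yb8 zb59) (kb xb5 yb8 zb60) (kb xb18 yb28 zb14) (kb xb18 yb28 zb16) (kb xb18 yb28 zb10) (kb xb18 yb28 zb22) (kb xb18 yb28 zb24) (kb xb18 yb28 zb12) (kb xb18 yb28 zb13) (kb xb18 yb28 zb29) (kb xb9 yb53 zb38) (kb xb18 yb28 zb32) (kb xb5 yb10 zb51) (kb xb14 yb13 zb38) (kb xb9 yb57 zb38) (kb xb5 yb9 zb8) (kb xb17 yb46 zb36) (kb xb18 yb28 zb36) (kb xb15 yb11 zb43) (kb xb5 yb9 zb4) (kb xb5 yb9 zb5) (kb xb18 yb28 zb42) (kb xb18 yb28 zb48) (kb xb18 yb28 zb45) (kb xb18 yb28 zb49) (kb xb5 yb11 zb7) (kb xb18 yb28 zb51) (kb xb18 yb28 zb52) (kb xb18 yb28 zb56) (kb xb15 yb11 zb53) (kb xb5 yb9 zb11) (kb xb14 yb9 zb26) (kb xb8 yb5 zb60) (kb xb18 yb28 zb61) (kb xb18 yb29 zb3) (kb xb18 yb29 zb6)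 (kb xb15 yb11 zb61) (kb xb5 yb9 zb13) (kb xb5 yb9 zb14)) (@D3.rec (fun _ => Pt) (kb xb14 yb9 zb20) (kb xb12 yb58 zb49) (kb xb15 yb12 zb4) (kb xb18 yb29 zb15) (kb xb5 yb9 zb15) (kb xb6 yb41 zb12) (kb xb18 yb29 zb18) (kb xb18 yb29 zb19) (kb xb16 yb35 zb59) (kb xb5 yb9 zb16) (kb xb5 yb16 zb40) (kb xb18 yb29 zb34) (kb xb18 yb29 zb35) (kb xb15 yb12 zb15) (kb xb14 yb8 zb44) (kb xb18 yb29 zb46) (kb xb15 yb13 zb37) (kb xb5 yb9 zb22) (kb xb5 yb9 zb23) (kb xb5 yb9 zb20) (kb xb18 yb28 zb19) (kb xb5 yb9 zb21) (kb xb18 yb30 zb1) (kb xb18 yb30 zb5) (kb xb18 yb30 zb8) (kb xb18 yb29 zb53) (kb xb18 yb30 zb11) (kb xb18 yb30 zb14) (kb xb18 yb29 zb56) (kb xb5 yb9 zb24) (kb xb18 yb30 zb21) (kb xb18 yb30 zb20) (kb xb5 yb9 zb25) (kb xb8 yb45 zb10) (kb xb18 yb30 zb24) (kb xb18 yb30 zb25) (kb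 xb10 yb19 zb56) (kb xb5 yb9 zb27) (kb xb18 yb30 zb32) (kb xb18 yb30 zb33) (kb xb5 yb9 zb29) (kb xb18 yb30 zb39) (kb xb18 yb30 zb40) (kb xb9 yb39 zb38) (kb xb18 yb30 zb45) (kb xb18 yb30 zb46) (kb xb18 yb30 zb47) (kb xb13 yb34 zb9) (kb xb5 yb9 zb33) (kb xb18 yb30 zb51) (kb xb18 yb30 zb52) (kb xb9 yb54 zb54) (kb xb5 yb9 zb51) (kb xb16 yb54 zb3) (kb xb18 yb30 zb60) (kb xb5 yb9 zb37) (kb xb5 yb9 zb36) (kb xb18 yb31 zb2) (kb xb18 yb31 zb3) (kb xb5 yb9 zb38) (kb xb18 yb31 zb10) (kb xb5 yb9 zb39)) (@D3.rec (fun _ => Pt) (kb xb18 yb31 zb15) (kb xb18 yb31 zb17) (kb xb18 yb31 zb20) (kb xb18 yb30 zb38) (kb xb5 yb9 zb41) (kb xb5 yb9 zb42) (kb xb18 yb31 zb27) (kb xb18 yb31 zb29) (kb xb18 yb31 zb26) (kb xb18 yb31 zb35) (kb xb18 yb31 zb37) (kb xb18 yb14 zb26) (kb xb18 yb14 zb25) (kb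 xb5 yb9 zb43) (kb xb18 yb31 zb44) (kb xb5 yb9 zb44) (kb xb18 yb31 zb47) (kb xb18 yb31 zb46) (kb xb5 yb9 zb46) (kb xb18 yb31 zb53) (kb xb18 yb31 zb57) (kb xb18 yb31 zb59) (kb xb9 yb42 zb35) (kb xb18 yb32 zb0) (kb xb9 yb55 zb29) (kb xb5 yb9 zb49) (kb xb18 yb32 zb7) (kb xb13 yb30 zb11) (kb xb18 yb32 zb6) (kb xb5 yb9 zb50) (kb xb18 yb32 zb10) (kb xb18 yb32 zb13) (kb xb9 yb55 zb42) (kb xb5 yb9 zb54) (kb xb18 yb32 zb19) (kb xb18 yb32 zb16) (kb xb5 yb9 zb55) (kb xb18 yb32 zb25) (kb xb17 yb51 zb53) (kb xb6 yb11 zb56) (kb xb9 yb56 zb7) (kb xb18 yb32 zb33) (kb xb5 yb14 zb38) (kb xb5 yb9 zb59) (kb xb18 yb32 zb37) (kb xb18 yb32 zb39) (kb xb5 yb9 zb60) (kb xb18 yb32 zb36) (kb xb18 yb32 zb41) (kb xb5 yb10 zb0) (kb xb5 yb10 zb1) (kb xb18 yb32 zb46) (kb xb5 yb10 zb4) (kb xb18 yb32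 zb48) (kb xb5 yb10 zb5) (kb xb10 yb11 zb16) (kb xb18 yb32 zb51) (kb xb9 yb56 zb35) (kb xb18 yb26 zb24) (kb xb5 yb10 zb7) (kb xb18 yb32 zb59) (kb xb18 yb9 zb18)) (@D3.rec (fun _ => Pt) (kb xb18 yb33 zb1) (kb xb18 yb33 zb4) (kb xb17 yb47 zb1) (kb xb5 yb10 zb10) (kb xb5 yb10 zb11) (kb xb18 yb33 zb10) (kb xb18 yb33 zb18) (kb xb18 yb33 zb12) (kb xb18 yb33 zb13) (kb xb11 yb23 zb35) (kb xb18 yb33 zb25) (kb xb18 yb33 zb28) (kb xb18 yb33 zb32) (kb xb5 yb10 zb15) (kb xb18 yb33 zb34) (kb xb5 yb10 zb16) (kb xb10 yb10 zb55) (kb xb17 yb52 zb6) (kb xb5 yb10 zb17) (kb xb18 yb33 zb42) (kb xb18 yb33 zb41) (kb xb9 yb57 zb4) (kb xb9 yb57 zb5) (kb xb18 yb33 zb46) (kb xb5 yb10 zb21) (kb xb18 yb33 zb48) (kb xb5 yb10 zb22) (kb xb16 yb55 zb46) (kb xb5 yb10 zb23) (kb xb18 yb33 zb53) (kb xb5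 yb10 zb25) (kb xb5 yb10 zb26) (kb xb5 yb10 zb28) (kb xb18 yb33 zb60) (kb xb18 yb33 zb61) (kb xb9 yb53 zb20) (kb xb15 yb11 zb24) (kb xb9 yb39 zb44) (kb xb5 yb10 zb30) (kb xb18 yb29 zb1) (kb xb18 yb34 zb12) (kb xb18 yb34 zb15) (kb xb18 yb33 zb59) (kb xb5 yb10 zb32) (kb xb5 yb10 zb33) (kb xb18 yb34 zb19) (kb xb18 yb34 zb28) (kb xb18 yb34 zb30) (kb xb18 yb34 zb22) (kb xb18 yb34 zb23) (kb xb5 yb10 zb34) (kb xb18 yb34 zb38) (kb xb18 yb34 zb36) (kb xb5 yb10 zb35) (kb xb18 yb34 zb43) (kb xb18 yb34 zb41) (kb xb18 yb34 zb42) (kb xb17 yb47 zb56) (kb xb12 yb39 zb37) (kb xb5 yb10 zb38) (kb xb18 yb34 zb51) (kb xb9 yb57 zb48)) (@D3.rec (fun _ => Pt) (kb xb9 yb57 zb49) (kb xb13 yb14 zb40) (kb xb18 yb34 zb60) (kb xb5 yb10 zb45) (kb xb5 yb10 zb46) (kb xb15 yb49 zb51) (kb xb12 yb39 zb12)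 (kb xb15 yb25 zb54) (kb xb5 yb10 zb44) (kb xb18 yb35 zb4) (kb xb11 yb46 zb43) (kb xb8 yb36 zb22) (kb xb18 yb35 zb6) (kb xb5 yb10 zb49) (kb xb5 yb10 zb48) (kb xb18 yb35 zb9) (kb xb18 yb35 zb10) (kb xb5 yb10 zb50) (kb xb18 yb35 zb13) (kb xb18 yb35 zb14) (kb xb10 yb29 zb6) (kb xb18 yb35 zb16) (kb xb18 yb35 zb17) (kb xb17 yb47 zb11) (kb xb5 yb10 zb54) (kb xb5 yb10 zb55) (kb xb18 yb35 zb21) (kb xb18 yb35 zb25) (kb xb18 yb33 zb15) (kb xb17 yb45 zb60) (kb xb17 yb45 zb59) (kb xb5 yb10 zb56) (kb xb18 yb35 zb30) (kb xb8 yb44 zb42) (kb xb5 yb10 zb57) (kb xb18 yb35 zb33) (kb xb5 yb10 zb59) (kb xb5 yb10 zb60) (kb xb17 yb47 zb22) (kb xb18 yb35 zb35) (kb xb9 yb58 zb42) (kb xb9 yb58 zb43) (kb xb5 yb11 zb2) (kb xb18 yb35 zb38) (kb xb18 yb35 zb40) (kb xb5 yb11 zb5) (kb xb5 yb11 zb4)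 (kb xb5 yb11 zb6) (kb xb18 yb35 zb43) (kb xb18 yb35 zb44) (kb xb5 yb11 zb9) (kb xb5 yb11 zb10) (kb xb18 yb35 zb49) (kb xb18 yb35 zb46) (kb xb18 yb35 zb47) (kb xb5 yb11 zb11) (kb xb10 yb28 zb52) (kb xb18 yb35 zb55) (kb xb10 yb28 zb29) (kb xb9 yb58 zb59) (kb xb15 yb6 zb2) (kb xb9 yb40 zb31)) (@D3.rec (fun _ => Pt) (kb xb5 yb18 zb21) (kb xb5 yb18 zb22) (kb xb5 yb13 zb46) (kb xb18 yb36 zb7) (kb xb18 yb36 zb11) (kb xb5 yb11 zb17) (kb xb5 yb11 zb18) (kb xb12 yb46 zb1) (kb xb18 yb36 zb18) (kb xb18 yb36 zb17) (kb xb5 yb11 zb19) (kb xb12 yb7 zb5) (kb xb5 yb11 zb20) (kb xb16 yb35 zb43) (kb xb18 yb36 zb23) (kb xb16 yb35 zb35) (kb xb9 yb59 zb22) (kb xb18 yb36 zb27) (kb xb18 yb36 zb28) (kb xb5 yb18 zb31) (kb xb5 yb18 zb32) (kb xb18 yb36 zb32) (kb xb18 yb36 zb35) (kb xb5 yb11 zb26)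 (kb xb5 yb11 zb27) (kb xb18 yb0 zb4) (kb xb9 yb59 zb34) (kb xb5 yb11 zb29) (kb xb8 yb5 zb54) (kb xb18 yb36 zb39) (kb xb18 yb36 zb40) (kb xb9 yb59 zb58) (kb xb18 yb35 zb45) (kb xb18 yb36 zb48) (kb xb5 yb11 zb32) (kb xb5 yb11 zb33) (kb xb5 yb11 zb34) (kb xb18 yb36 zb54) (kb xb15 yb11 zb27) (kb xb5 yb11 zb31) (kb xb18 yb36 zb60) (kb xb18 yb36 zb61) (kb xb18 yb37 zb0) (kb xb9 yb59 zb51) (kb xb6 yb34 zb32) (kb xb12 yb37 zb43) (kb xb14 yb16 zb50) (kb xb9 yb59 zb54) (kb xb12 yb22 zb13) (kb xb18 yb36 zb52) (kb xb18 yb36 zb53) (kb xb9 yb59 zb39) (kb xb18 yb36 zb21) (kb xb18 yb37 zb19) (kb xb5 yb11 zb37) (kb xb5 yb11 zb38) (kb xb5 yb11 zb36) (kb xb18 yb37 zb28) (kb xb18 yb37 zb29) (kb xb17 yb15 zb50) (kb xb18 yb37 zb23) (kb xb10 yb0 zb5)) (@D3.rec (fun _ => Pt) (kb xb18 yb37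 zb26) (kb xb18 yb37 zb27) (kb xb18 yb37 zb41) (kb xb10 yb0 zb9) (kb xb5 yb11 zb40) (kb xb14 yb23 zb55) (kb xb14 yb23 zb51) (kb xb5 yb11 zb41) (kb xb17 yb5 zb5) (kb xb18 yb37 zb51) (kb xb6 yb11 zb27) (kb xb18 yb37 zb57) (kb xb10 yb6 zb33) (kb xb10 yb6 zb38) (kb xb18 yb38 zb2) (kb xb5 yb11 zb51) (kb xb9 yb41 zb58) (kb xb18 yb38 zb7) (kb xb5 yb11 zb53) (kb xb6 yb10 zb14) (kb xb5 yb13 zb28) (kb xb5 yb11 zb46) (kb xb18 yb38 zb17) (kb xb18 yb37 zb48) (kb xb18 yb38 zb16) (kb xb5 yb11 zb48) (kb xb18 yb37 zb52) (kb xb18 yb38 zb20) (kb xb6 yb40 zb41) (kb xb12 yb13 zb5) (kb xb5 yb11 zb49) (kb xb9 yb18 zb34) (kb xb18 yb38 zb24) (kb xb5 yb11 zb50) (kb xb18 yb38 zb28) (kb xb6 yb29 zb32) (kb xb5 yb11 zb52) (kb xb18 yb38 zb32) (kb xb5 yb11 zb56) (kb xb5 yb11 zb57) (kb xb5 yb11 zb55)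 (kb xb18 yb38 zb36) (kb xb5 yb11 zb60) (kb xb5 yb11 zb59) (kb xb18 yb38 zb40) (kb xb10 yb1 zb42) (kb xb5 yb12 zb12) (kb xb18 yb38 zb39) (kb xb5 yb11 zb61) (kb xb18 yb38 zb43) (kb xb5 yb12 zb1) (kb xb10 yb3 zb19) (kb xb7 yb13 zb59) (kb xb14 yb58 zb32) (kb xb10 yb3 zb14) (kb xb10 yb28 zb16) (kb xb5 yb12 zb4) (kb xb5 yb12 zb5) (kb xb18 yb38 zb47) (kb xb18 yb38 zb56) (kb xb18 yb38 zb58) (kb xb18 yb38 zb50)) (@D3.rec (fun _ => Pt) (kb xb18 yb38 zb51) (kb xb5 yb12 zb6) (kb xb18 yb39 zb3) (kb xb18 yb39 zb5) (kb xb16 yb15 zb23) (kb xb15 yb16 zb33) (kb xb18 yb39 zb7) (kb xb5 yb12 zb13) (kb xb5 yb12 zb11) (kb xb18 yb10 zb38) (kb xb5 yb12 zb16) (kb xb18 yb39 zb14) (kb xb18 yb39 zb11) (kb xb5 yb12 zb17) (kb xb16 yb53 zb43) (kb xb18 yb39 zb18) (kb xb10 yb2 zb30) (kb xb12 yb27 zb32)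 (kb xb18 yb39 zb26) (kb xb5 yb12 zb20) (kb xb5 yb12 zb21) (kb xb18 yb11 zb7) (kb xb5 yb12 zb24) (kb xb5 yb12 zb52) (kb xb7 yb59 zb6) (kb xb11 yb58 zb19) (kb xb18 yb39 zb35) (kb xb5 yb12 zb33) (kb xb5 yb12 zb31) (kb xb18 yb39 zb38) (kb xb17 yb18 zb39) (kb xb5 yb12 zb32) (kb xb18 yb39 zb42) (kb xb5 yb15 zb41) (kb xb12 yb57 zb61) (kb xb5 yb12 zb36) (kb xb18 yb39 zb47) (kb xb17 yb59 zb21) (kb xb8 yb36 zb43) (kb xb5 yb12 zb49) (kb xb5 yb12 zb50) (kb xb5 yb12 zb39) (kb xb15 yb2 zb10) (kb xb5 yb12 zb42) (kb xb5 yb12 zb41) (kb xb9 yb35 zb26) (kb xb18 yb39 zb44) (kb xb10 yb16 zb47) (kb xb15 yb18 zb39) (kb xb5 yb12 zb43) (kb xb9 yb31 zb35) (kb xb18 yb40 zb5) (kb xb14 yb39 zb18) (kb xb5 yb12 zb45) (kb xb5 yb12 zb46) (kb xb18 yb40 zb12) (kb xb18 yb40 zb20) (kb xb18 yb40 zb15) (kb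 xb18 yb1 zb0) (kb xb18 yb40 zb26) (kb xb5 yb15 zb51) (kb xb5 yb27 zb42)) (@D3.rec (fun _ => Pt) (kb xb10 yb2 zb9) (kb xb18 yb38 zb38) (kb xb18 yb40 zb29) (kb xb18 yb39 zb52) (kb xb5 yb12 zb51) (kb xb18 yb39 zb33) (kb xb9 yb14 zb61) (kb xb5 yb12 zb54) (kb xb5 yb12 zb55) (kb xb18 yb40 zb39) (kb xb8 yb2 zb4) (kb xb15 yb13 zb15) (kb xb15 yb13 zb17) (kb xb8 yb25 zb57) (kb xb8 yb25 zb60) (kb xb18 yb40 zb44) (kb xb5 yb13 zb1) (kb xb5 yb12 zb61) (kb xb18 yb40 zb50) (kb xb5 yb13 zb0) (kb xb18 yb40 zb56) (kb xb15 yb23 zb50) (kb xb18 yb41 zb2) (kb xb18 yb40 zb48) (kb xb16 yb59 zb48) (kb xb5 yb13 zb4) (kb xb12 yb58 zb6) (kb xb5 yb13 zb5) (kb xb18 yb41 zb13) (kb xb18 yb41 zb14) (kb xb10 yb3 zb11) (kb xb15 yb12 zb31) (kb xb5 yb13 zb7) (kb xb18 yb41 zb22) (kb xb18 yb41 zb23) (kb xb5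 yb13 zb8) (kb xb12 yb5 zb56) (kb xb18 yb41 zb26) (kb xb16 yb20 zb44) (kb xb18 yb41 zb30) (kb xb16 yb35 zb32) (kb xb5 yb13 zb10) (kb xb16 yb26 zb4) (kb xb8 yb45 zb30) (kb xb12 yb28 zb55) (kb xb5 yb13 zb12) (kb xb18 yb17 zb40) (kb xb10 yb15 zb47) (kb xb18 yb41 zb34) (kb xb18 yb41 zb35) (kb xb5 yb13 zb15) (kb xb18 yb41 zb37) (kb xb5 yb13 zb16) (kb xb12 yb7 zb9) (kb xb18 yb41 zb40) (kb xb5 yb13 zb17) (kb xb18 yb41 zb48) (kb xb18 yb41 zb47) (kb xb10 yb3 zb43) (kb xb17 yb49 zb24) (kb xb5 yb13 zb20) (kb xb5 yb13 zb21)) (@D3.rec (fun _ => Pt) (kb xb9 yb42 zb31) (kb xb8 yb3 zb22) (kb xb10 yb3 zb47) (kb xb18 yb13 zb2) (kb xb5 yb13 zb23) (kb xb5 yb13 zb24) (kb xb5 yb13 zb25) (kb xb18 yb41 zb59) (kb xb9 yb31 zb17) (kb xb15 yb13 zb2) (kb xb18 yb42 zb1) (kb xb13 yb1 zb45) (kb xb17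 yb26 zb0) (kb xb18 yb38 zb13) (kb xb11 yb34 zb51) (kb xb5 yb13 zb32) (kb xb5 yb13 zb30) (kb xb17 yb4 zb34) (kb xb18 yb12 zb52) (kb xb5 yb13 zb31) (kb xb17 yb6 zb16) (kb xb14 yb29 zb49) (kb xb18 yb42 zb16) (kb xb16 yb59 zb50) (kb xb18 yb22 zb39) (kb xb5 yb13 zb36) (kb xb5 yb13 zb35) (kb xb18 yb42 zb18) (kb xb5 yb13 zb38) (kb xb10 yb5 zb3) (kb xb18 yb42 zb21) (kb xb5 yb13 zb43) (kb xb5 yb13 zb44) (kb xb5 yb13 zb42) (kb xb18 yb42 zb31) (kb xb18 yb42 zb36) (kb xb18 yb42 zb40) (kb xb18 yb42 zb26) (kb xb18 yb42 zb27) (kb xb6 yb49 zb42) (kb xb18 yb42 zb47) (kb xb11 yb45 zb37) (kb xb18 yb36 zb6) (kb xb12 yb46 zb0) (kb xb10 yb45 zb25) (kb xb10 yb4 zb41) (kb xb5 yb13 zb50) (kb xb5 yb13 zb51) (kb xb6 yb44 zb45) (kb xb5 yb13 zb49) (kb xb18 yb42 zb57) (kb xb18 yb42 zb45) (kb xb10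 yb45 zb34) (kb xb18 yb15 zb11) (kb xb11 yb35 zb10) (kb xb6 yb29 zb43) (kb xb5 yb13 zb57) (kb xb8 yb2 zb16) (kb xb8 yb49 zb12) (kb xb11 yb6 zb34) (kb xb9 yb48 zb2) (kb xb13 yb31 zb21)) (@D3.rec (fun _ => Pt) (kb xb15 yb13 zb38) (kb xb8 yb38 zb9) (kb xb5 yb14 zb2) (kb xb12 yb25 zb36) (kb xb18 yb43 zb9) (kb xb18 yb43 zb12) (kb xb6 yb11 zb59) (kb xb12 yb53 zb32) (kb xb6 yb30 zb15) (kb xb18 yb43 zb15) (kb xb5 yb14 zb9) (kb xb5 yb14 zb6) (kb xb5 yb14 zb7) (kb xb11 yb25 zb42) (kb xb5 yb14 zb8) (kb xb15 yb26 zb42) (kb xb5 yb14 zb14) (kb xb18 yb43 zb18) (kb xb18 yb24 zb32) (kb xb6 yb41 zb52) (kb xb5 yb14 zb18) (kb xb11 yb1 zb60) (kb xb5 yb14 zb19) (kb xb10 yb5 zb51) (kb xb8 yb3 zb28) (kb xb6 yb47 zb3) (kb xb5 yb14 zb26) (kb xb10 yb5 zb39) (kb xb18 yb43 zb26) (kb xb9 yb31 zb1)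 (kb xb18 yb43 zb29) (kb xb9 yb7 zb32) (kb xb9 yb7 zb52) (kb xb11 yb40 zb21) (kb xb9 yb6 zb10) (kb xb9 yb48 zb4) (kb xb6 yb11 zb53) (kb xb6 yb11 zb54) (kb xb6 yb30 zb12) (kb xb18 yb43 zb37) (kb xb5 yb14 zb36) (kb xb5 yb14 zb34) (kb xb18 yb43 zb41) (kb xb18 yb43 zb42) (kb xb10 yb43 zb54) (kb xb11 yb22 zb20) (kb xb10 yb6 zb54) (kb xb7 yb27 zb16) (kb xb17 yb0 zb10) (kb xb12 yb30 zb57) (kb xb5 yb14 zb42) (kb xb8 yb14 zb58) (kb xb5 yb14 zb41) (kb xb8 yb49 zb55) (kb xb5 yb14 zb43) (kb xb18 yb43 zb47) (kb xb9 yb42 zb38) (kb xb5 yb14 zb44) (kb xb10 yb43 zb25) (kb xb18 yb43 zb51) (kb xb10 yb7 zb7) (kb xb5 yb14 zb47)) (@D3.rec (fun _ => Pt) (kb xb12 yb9 zb27) (kb xb7 yb27 zb24) (kb xb9 yb21 zb52) (kb xb5 yb47 zb31) (kb xb5 yb14 zb50) (kb xb10 yb49 zb8) (kb xb5 yb14 zb52) (kb xb18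 yb43 zb57) (kb xb5 yb14 zb53) (kb xb6 yb7 zb60) (kb xb5 yb14 zb54) (kb xb18 yb43 zb61) (kb xb15 yb54 zb16) (kb xb18 yb44 zb4) (kb xb10 yb19 zb24) (kb xb5 yb14 zb56) (kb xb18 yb44 zb12) (kb xb5 yb14 zb57) (kb xb18 yb44 zb16) (kb xb9 yb35 zb24) (kb xb16 yb40 zb39) (kb xb16 yb40 zb40) (kb xb18 yb44 zb20) (kb xb11 yb0 zb26) (kb xb10 yb19 zb14) (kb xb5 yb14 zb61) (kb xb18 yb44 zb31) (kb xb18 yb44 zb30) (kb xb18 yb44 zb35) (kb xb8 yb13 zb16) (kb xb5 yb15 zb1) (kb xb18 yb44 zb42) (kb xb5 yb15 zb2) (kb xb18 yb44 zb45) (kb xb18 yb44 zb46) (kb xb5 yb15 zb4) (kb xb18 yb44 zb51) (kb xb18 yb44 zb52) (kb xb10 yb23 zb47) (kb xb16 yb34 zb44) (kb xb5 yb15 zb6) (kb xb18 yb44 zb61) (kb xb18 yb45 zb0) (kb xb18 yb45 zb6) (kb xb18 yb45 zb10) (kb xb5 yb16 zb6) (kb xb5 yb15 zb8) (kb xb5 yb15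 zb9) (kb xb18 yb45 zb19) (kb xb18 yb45 zb17) (kb xb18 yb45 zb18) (kb xb5 yb15 zb12) (kb xb11 yb59 zb41) (kb xb5 yb19 zb18) (kb xb10 yb28 zb5) (kb xb5 yb15 zb29) (kb xb10 yb9 zb36) (kb xb15 yb48 zb52) (kb xb5 yb15 zb18) (kb xb17 yb59 zb46) (kb xb17 yb35 zb40) (kb xb8 yb27 zb21)) (@D3.rec (fun _ => Pt) (kb xb11 yb57 zb9) (kb xb5 yb15 zb21) (kb xb18 yb19 zb27) (kb xb18 yb21 zb38) (kb xb10 yb24 zb36) (kb xb5 yb15 zb23) (kb xb5 yb15 zb24) (kb xb18 yb45 zb41) (kb xb14 yb35 zb12) (kb xb18 yb45 zb43) (kb xb18 yb44 zb41) (kb xb5 yb15 zb26) (kb xb18 yb45 zb49) (kb xb18 yb45 zb50) (kb xb18 yb45 zb51) (kb xb7 yb5 zb31) (kb xb18 yb45 zb53) (kb xb8 yb2 zb58) (kb xb5 yb15 zb31) (kb xb18 yb45 zb57) (kb xb18 yb45 zb58) (kb xb8 yb4 zb46) (kb xb5 yb15 zb42) (kb xb5 yb15 zb35) (kb xb5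 yb15 zb34) (kb xb18 yb46 zb3) (kb xb5 yb38 zb56) (kb xb15 yb11 zb0) (kb xb17 yb48 zb46) (kb xb18 yb38 zb44) (kb xb18 yb46 zb8) (kb xb18 yb46 zb12) (kb xb18 yb44 zb44) (kb xb5 yb15 zb38) (kb xb5 yb15 zb39) (kb xb18 yb46 zb17) (kb xb10 yb36 zb27) (kb xb18 yb46 zb21) (kb xb15 yb49 zb59) (kb xb18 yb46 zb19) (kb xb18 yb46 zb25) (kb xb10 yb25 zb9) (kb xb18 yb46 zb29) (kb xb10 yb37 zb43) (kb xb5 yb15 zb43) (kb xb18 yb46 zb35) (kb xb5 yb19 zb24) (kb xb10 yb28 zb7) (kb xb5 yb15 zb45) (kb xb18 yb46 zb39) (kb xb18 yb46 zb41) (kb xb18 yb46 zb44) (kb xb18 yb44 zb50) (kb xb5 yb15 zb47) (kb xb5 yb15 zb48) (kb xb18 yb46 zb52) (kb xb18 yb46 zb48) (kb xb18 yb46 zb56) (kb xb14 yb53 zb37) (kb xb18 yb46 zb50) (kb xb18 yb46 zb51) (kb xb18 yb47 zb2)) (@D3.rec (fun _ => Pt) (kb xb10 yb25 zb25)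 (kb xb18 yb35 zb3) (kb xb5 yb16 zb25) (kb xb5 yb15 zb52) (kb xb18 yb47 zb8) (kb xb18 yb47 zb9) (kb xb8 yb5 zb51) (kb xb8 yb52 zb36) (kb xb5 yb15 zb59) (kb xb18 yb47 zb13) (kb xb18 yb47 zb15) (kb xb15 yb36 zb20) (kb xb5 yb15 zb55) (kb xb5 yb15 zb56) (kb xb18 yb47 zb22) (kb xb18 yb47 zb29) (kb xb18 yb47 zb32) (kb xb18 yb47 zb25) (kb xb18 yb47 zb26) (kb xb5 yb21 zb7) (kb xb5 yb16 zb32) (kb xb18 yb47 zb37) (kb xb18 yb7 zb14) (kb xb18 yb47 zb41) (kb xb18 yb27 zb52) (kb xb5 yb15 zb61) (kb xb5 yb16 zb0) (kb xb18 yb47 zb52) (kb xb11 yb1 zb21) (kb xb18 yb47 zb50) (kb xb18 yb47 zb51) (kb xb18 yb47 zb60) (kb xb18 yb48 zb0) (kb xb18 yb44 zb60) (kb xb5 yb16 zb2) (kb xb5 yb16 zb3) (kb xb18 yb48 zb8) (kb xb18 yb48 zb10) (kb xb18 yb48 zb11) (kb xb18 yb45 zb4) (kb xb5 yb16 zb4) (kb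 xb18 yb48 zb19) (kb xb18 yb48 zb20) (kb xb17 yb47 zb45) (kb xb5 yb16 zb5) (kb xb11 yb44 zb14) (kb xb18 yb48 zb29) (kb xb18 yb45 zb14) (kb xb12 yb3 zb42) (kb xb18 yb48 zb37) (kb xb5 yb16 zb12) (kb xb5 yb16 zb13) (kb xb5 yb16 zb14) (kb xb5 yb16 zb9) (kb xb5 yb16 zb10) (kb xb14 yb42 zb33) (kb xb5 yb16 zb11) (kb xb18 yb48 zb52) (kb xb18 yb48 zb55) (kb xb18 yb48 zb57) (kb xb18 yb48 zb43) (kb xb17 yb6 zb35)) (@D3.rec (fun _ => Pt) (kb xb18 yb48 zb60) (kb xb18 yb49 zb1) (kb xb18 yb48 zb45) (kb xb18 yb49 zb6) (kb xb15 yb14 zb28) (kb xb15 yb14 zb29) (kb xb5 yb16 zb16) (kb xb18 yb49 zb11) (kb xb18 yb49 zb10) (kb xb5 yb16 zb17) (kb xb18 yb49 zb16) (kb xb7 yb12 zb18) (kb xb7 yb18 zb28) (kb xb18 yb49 zb18) (kb xb7 yb13 zb38) (kb xb5 yb16 zb20) (kb xb18 yb49 zb22) (kb xb18 yb49 zb21)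 (kb xb18 yb49 zb25) (kb xb8 yb9 zb30) (kb xb15 yb14 zb10) (kb xb17 yb52 zb26) (kb xb5 yb16 zb24) (kb xb12 yb24 zb53) (kb xb5 yb16 zb26) (kb xb18 yb49 zb31) (kb xb18 yb15 zb56) (kb xb18 yb49 zb37) (kb xb18 yb49 zb39) (kb xb18 yb15 zb58) (kb xb18 yb15 zb59) (kb xb5 yb16 zb29) (kb xb18 yb49 zb43) (kb xb18 yb49 zb42) (kb xb18 yb49 zb45) (kb xb10 yb26 zb52) (kb xb14 yb53 zb39) (kb xb6 yb58 zb18) (kb xb10 yb27 zb11) (kb xb5 yb16 zb38) (kb xb5 yb16 zb39) (kb xb18 yb49 zb53) (kb xb18 yb44 zb49) (kb xb5 yb16 zb37) (kb xb18 yb49 zb58) (kb xb18 yb49 zb59) (kb xb18 yb29 zb33) (kb xb10 yb27 zb3) (kb xb18 yb29 zb36) (kb xb10 yb27 zb7) (kb xb11 yb45 zb61) (kb xb18 yb49 zb52) (kb xb18 yb29 zb37) (kb xb10 yb26 zb57) (kb xb18 yb29 zb22) (kb xb14 yb53 zb42) (kb xb5 yb16 zb44) (kb xb5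 yb16 zb42) (kb xb18 yb50 zb14) (kb xb18 yb50 zb15) (kb xb6 yb40 zb57) (kb xb10 yb27 zb21)) (@D3.rec (fun _ => Pt) (kb xb18 yb50 zb13) (kb xb13 yb14 zb42) (kb xb18 yb50 zb25) (kb xb10 yb27 zb25) (kb xb5 yb16 zb46) (kb xb18 yb50 zb31) (kb xb18 yb50 zb28) (kb xb6 yb11 zb17) (kb xb18 yb50 zb36) (kb xb18 yb50 zb38) (kb xb17 yb0 zb8) (kb xb17 yb0 zb9) (kb xb18 yb50 zb45) (kb xb6 yb11 zb37) (kb xb18 yb50 zb49) (kb xb5 yb16 zb51) (kb xb9 yb12 zb20) (kb xb18 yb50 zb51) (kb xb17 yb10 zb1) (kb xb17 yb9 zb38) (kb xb18 yb17 zb33) (kb xb5 yb16 zb54) (kb xb5 yb16 zb55) (kb xb18 yb50 zb60) (kb xb10 yb40 zb31) (kb xb10 yb40 zb32) (kb xb5 yb16 zb57) (kb xb18 yb51 zb5) (kb xb18 yb51 zb6) (kb xb18 yb51 zb9) (kb xb10 yb56 zb56) (kb xb8 yb6 zb22) (kb xb5 yb16 zb59) (kb xb18 yb51 zb19) (kb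 xb18 yb51 zb21) (kb xb18 yb51 zb18) (kb xb9 yb33 zb18) (kb xb5 yb16 zb61) (kb xb15 yb40 zb53) (kb xb15 yb27 zb45) (kb xb5 yb17 zb1) (kb xb18 yb51 zb34) (kb xb5 yb17 zb2) (kb xb18 yb51 zb38) (kb xb18 yb51 zb39) (kb xb5 yb17 zb4) (kb xb18 yb51 zb45) (kb xb10 yb19 zb38) (kb xb10 yb27 zb61) (kb xb5 yb17 zb6) (kb xb18 yb51 zb50) (kb xb18 yb51 zb51) (kb xb18 yb51 zb54) (kb xb18 yb51 zb59) (kb xb5 yb18 zb9) (kb xb5 yb17 zb8) (kb xb5 yb17 zb9) (kb xb18 yb52 zb8) (kb xb18 yb52 zb9) (kb xb18 yb52 zb5) (kb xb18 yb52 zb6) (kb xb18 yb52 zb7)) (@D3.rec (fun _ => Pt) (kb xb5 yb17 zb11) (kb xb18 yb52 zb18) (kb xb9 yb37 zb52) (kb xb15 yb27 zb46) (kb xb5 yb17 zb15) (kb xb18 yb52 zb26) (kb xb15 yb27 zb49) (kb xb8 yb37 zb46) (kb xb9 yb42 zb45) (kb xb5 yb17 zb20) (kb xb5 yb17 zb19) (kb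 xb18 yb52 zb35) (kb xb6 yb7 zb15) (kb xb9 yb41 zb0) (kb xb18 yb52 zb31) (kb xb16 yb11 zb5) (kb xb8 yb37 zb51) (kb xb15 yb27 zb34) (kb xb5 yb17 zb24) (kb xb8 yb9 zb56) (kb xb16 yb11 zb7) (kb xb18 yb52 zb39) (kb xb18 yb52 zb43) (kb xb18 yb52 zb48) (kb xb18 yb51 zb29) (kb xb5 yb17 zb26) (kb xb5 yb17 zb27) (kb xb8 yb48 zb47) (kb xb18 yb52 zb54) (kb xb7 yb58 zb43) (kb xb10 yb42 zb31) (kb xb5 yb17 zb29) (kb xb18 yb53 zb1) (kb xb18 yb53 zb2) (kb xb18 yb38 zb37) (kb xb15 yb12 zb30) (kb xb10 yb20 zb4) (kb xb5 yb17 zb31) (kb xb18 yb53 zb12) (kb xb18 yb53 zb13) (kb xb5 yb17 zb32) (kb xb18 yb53 zb19) (kb xb10 yb39 zb12) (kb xb18 yb53 zb22) (kb xb18 yb53 zb26) (kb xb18 yb51 zb33) (kb xb5 yb17 zb34) (kb xb5 yb17 zb35) (kb xb18 yb53 zb35) (kb xb18 yb53 zb40) (kb xb18 yb53 zb41) (kb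 xb18 yb53 zb37) (kb xb18 yb53 zb38) (kb xb18 yb53 zb43) (kb xb8 yb3 zb21) (kb xb5 yb17 zb39) (kb xb18 yb53 zb47) (kb xb15 yb9 zb20) (kb xb5 yb17 zb46) (kb xb5 yb17 zb47) (kb xb18 yb53 zb51) (kb xb18 yb53 zb55)) (@D3.rec (fun _ => Pt) (kb xb18 yb51 zb37) (kb xb5 yb17 zb43) (kb xb5 yb17 zb44) (kb xb18 yb54 zb1) (kb xb18 yb54 zb8) (kb xb18 yb54 zb9) (kb xb18 yb54 zb4) (kb xb18 yb54 zb5) (kb xb18 yb54 zb10) (kb xb10 yb20 zb41) (kb xb18 yb54 zb14) (kb xb18 yb53 zb50) (kb xb5 yb17 zb48) (kb xb5 yb17 zb49) (kb xb18 yb54 zb20) (kb xb18 yb54 zb22) (kb xb18 yb54 zb25) (kb xb18 yb51 zb44) (kb xb5 yb17 zb51) (kb xb5 yb17 zb52) (kb xb18 yb54 zb31) (kb xb18 yb54 zb33) (kb xb18 yb54 zb35) (kb xb14 yb35 zb0) (kb xb18 yb54 zb37) (kb xb10 yb21 zb0) (kb xb9 yb43 zb16) (kb xb5 yb18 zb28)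 (kb xb8 yb41 zb41) (kb xb5 yb19 zb60) (kb xb5 yb18 zb0) (kb xb18 yb54 zb39) (kb xb18 yb54 zb41) (kb xb13 yb4 zb60) (kb xb5 yb17 zb58) (kb xb5 yb17 zb59) (kb xb18 yb54 zb47) (kb xb14 yb29 zb32) (kb xb18 yb54 zb51) (kb xb13 yb4 zb58) (kb xb18 yb54 zb50) (kb xb13 yb53 zb42) (kb xb5 yb18 zb36) (kb xb18 yb54 zb53) (kb xb18 yb29 zb7) (kb xb18 yb54 zb57) (kb xb18 yb5 zb49) (kb xb5 yb18 zb2) (kb xb5 yb18 zb3) (kb xb18 yb55 zb5) (kb xb18 yb55 zb7) (kb xb18 yb55 zb9) (kb xb18 yb51 zb49) (kb xb18 yb51 zb52) (kb xb5 yb18 zb7) (kb xb18 yb55 zb15) (kb xb18 yb55 zb16) (kb xb18 yb55 zb17) (kb xb5 yb18 zb8) (kb xb13 yb6 zb9) (kb xb6 yb52 zb52) (kb xb18 yb52 zb1)) (@D3.rec (fun _ => Pt) (kb xb18 yb55 zb27) (kb xb18 yb55 zb30) (kb xb15 yb35 zb49) (kb xb5 yb18 zb15) (kb xb5 yb18 zb16)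 (kb xb5 yb18 zb17) (kb xb5 yb18 zb12) (kb xb18 yb55 zb43) (kb xb5 yb18 zb13) (kb xb18 yb55 zb45) (kb xb5 yb18 zb14) (kb xb8 yb55 zb58) (kb xb18 yb55 zb48) (kb xb18 yb55 zb51) (kb xb18 yb55 zb38) (kb xb18 yb55 zb39) (kb xb18 yb55 zb56) (kb xb18 yb55 zb58) (kb xb18 yb55 zb40) (kb xb18 yb56 zb1) (kb xb15 yb14 zb60) (kb xb8 yb8 zb28) (kb xb5 yb18 zb19) (kb xb18 yb56 zb5) (kb xb18 yb56 zb4) (kb xb5 yb18 zb20) (kb xb18 yb56 zb8) (kb xb18 yb36 zb1) (kb xb18 yb56 zb14) (kb xb11 yb23 zb42) (kb xb18 yb36 zb4) (kb xb18 yb36 zb5) (kb xb5 yb18 zb23) (kb xb18 yb56 zb21) (kb xb18 yb56 zb20) (kb xb5 yb18 zb24) (kb xb16 yb13 zb25) (kb xb18 yb14 zb8) (kb xb5 yb18 zb27) (kb xb18 yb56 zb27) (kb xb5 yb18 zb29) (kb xb5 yb18 zb30) (kb xb15 yb5 zb49) (kb xb18 yb56 zb32) (kb xb18 yb36 zb30)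 (kb xb18 yb56 zb35) (kb xb18 yb56 zb36) (kb xb18 yb36 zb31) (kb xb13 yb40 zb49) (kb xb5 yb18 zb33) (kb xb18 yb56 zb41) (kb xb10 yb32 zb22) (kb xb10 yb22 zb35) (kb xb5 yb18 zb39) (kb xb15 yb32 zb12) (kb xb18 yb56 zb43) (kb xb18 yb56 zb44) (kb xb10 yb22 zb53) (kb xb5 yb18 zb43) (kb xb18 yb56 zb51) (kb xb18 yb51 zb43) (kb xb5 yb18 zb41)) (@D3.rec (fun _ => Pt) (kb xb13 yb36 zb0) (kb xb13 yb19 zb58) (kb xb13 yb20 zb3) (kb xb10 yb22 zb47) (kb xb14 yb35 zb22) (kb xb14 yb11 zb33) (kb xb17 yb34 zb20) (kb xb10 yb22 zb49) (kb xb18 yb56 zb49) (kb xb18 yb56 zb50) (kb xb18 yb7 zb46) (kb xb10 yb22 zb38) (kb xb18 yb1 zb11) (kb xb18 yb57 zb6) (kb xb5 yb18 zb47) (kb xb5 yb18 zb48) (kb xb5 yb18 zb46) (kb xb18 yb57 zb15) (kb xb18 yb57 zb16) (kb xb18 yb57 zb18) (kb xb18 yb57 zb10) (kb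 xb10 yb22 zb61) (kb xb18 yb57 zb13) (kb xb18 yb57 zb14) (kb xb18 yb57 zb25) (kb xb10 yb23 zb3) (kb xb5 yb18 zb50) (kb xb18 yb57 zb31) (kb xb11 yb30 zb33) (kb xb5 yb18 zb51) (kb xb14 yb26 zb15) (kb xb18 yb57 zb36) (kb xb18 yb57 zb42) (kb xb14 yb23 zb61) (kb xb11 yb35 zb51) (kb xb11 yb35 zb52) (kb xb18 yb57 zb51) (kb xb6 yb36 zb28) (kb xb5 yb18 zb57) (kb xb18 yb57 zb57) (kb xb18 yb57 zb58) (kb xb5 yb18 zb55) (kb xb18 yb57 zb60) (kb xb18 yb57 zb61) (kb xb5 yb18 zb56) (kb xb17 yb6 zb30) (kb xb9 yb7 zb44) (kb xb18 yb38 zb31) (kb xb5 yb18 zb59) (kb xb12 yb2 zb30) (kb xb8 yb6 zb46) (kb xb5 yb18 zb61) (kb xb18 yb58 zb11) (kb xb8 yb40 zb50) (kb xb5 yb19 zb19) (kb xb8 yb31 zb50) (kb xb5 yb19 zb1) (kb xb18 yb58 zb14) (kb xb8 yb4 zb48) (kb xb10 yb29 zb15) (kb xb5 yb19 zb25) (kb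 xb10 yb23 zb48)) (@D3.rec (fun _ => Pt) (kb xb10 yb29 zb18) (kb xb8 yb5 zb53) (kb xb8 yb6 zb0) (kb xb5 yb19 zb8) (kb xb18 yb58 zb20) (kb xb10 yb19 zb54) (kb xb8 yb3 zb13) (kb xb10 yb20 zb47) (kb xb8 yb5 zb28) (kb xb18 yb58 zb26) (kb xb18 yb58 zb28) (kb xb5 yb19 zb13) (kb xb10 yb33 zb5) (kb xb8 yb5 zb39) (kb xb18 yb58 zb31) (kb xb18 yb58 zb33) (kb xb10 yb14 zb55) (kb xb5 yb19 zb16) (kb xb5 yb19 zb17) (kb xb18 yb58 zb39) (kb xb18 yb58 zb48) (kb xb18 yb58 zb49) (kb xb18 yb58 zb42) (kb xb18 yb58 zb43) (kb xb18 yb58 zb55) (kb xb18 yb58 zb57) (kb xb18 yb58 zb13) (kb xb18 yb58 zb59) (kb xb18 yb59 zb0) (kb xb10 yb12 zb58) (kb xb5 yb19 zb22) (kb xb5 yb19 zb23) (kb xb18 yb59 zb6) (kb xb18 yb59 zb15) (kb xb18 yb59 zb17) (kb xb18 yb59 zb9) (kb xb18 yb59 zb10) (kb xb18 yb59 zb22)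 (kb xb16 yb16 zb31) (kb xb18 yb59 zb25) (kb xb18 yb58 zb17) (kb xb10 yb35 zb29) (kb xb18 yb59 zb28) (kb xb11 yb52 zb18) (kb xb18 yb59 zb31) (kb xb18 yb35 zb50) (kb xb10 yb29 zb57) (kb xb5 yb19 zb29) (kb xb5 yb19 zb30) (kb xb18 yb59 zb35) (kb xb18 yb59 zb36) (kb xb8 yb44 zb56) (kb xb10 yb12 zb56) (kb xb18 yb59 zb45) (kb xb10 yb30 zb2) (kb xb5 yb19 zb32) (kb xb5 yb19 zb33) (kb xb18 yb59 zb53) (kb xb18 yb59 zb56) (kb xb18 yb59 zb57) (kb xb5 yb19 zb34) (kb xb19 yb0 zb4)) (@D3.rec (fun _ => Pt) (kb xb5 yb19 zb35) (kb xb19 yb0 zb11) (kb xb5 yb19 zb37) (kb xb19 yb0 zb15) (kb xb5 yb19 zb38) (kb xb16 yb22 zb27) (kb xb10 yb12 zb20) (kb xb16 yb21 zb1) (kb xb16 yb23 zb4) (kb xb8 yb52 zb28) (kb xb19 yb0 zb31) (kb xb8 yb52 zb27) (kb xb16 yb52 zb39) (kb xb10 yb30 zb28) (kb xb10 yb30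 zb29) (kb xb10 yb27 zb59) (kb xb10 yb33 zb2) (kb xb5 yb19 zb59) (kb xb10 yb28 zb0) (kb xb8 yb17 zb50) (kb xb19 yb0 zb36) (kb xb19 yb0 zb39) (kb xb15 yb14 zb35) (kb xb5 yb19 zb46) (kb xb11 yb59 zb44) (kb xb15 yb3 zb55) (kb xb19 yb0 zb49) (kb xb10 yb3 zb20) (kb xb5 yb19 zb49) (kb xb5 yb19 zb50) (kb xb19 yb0 zb55) (kb xb19 yb0 zb58) (kb xb19 yb0 zb56) (kb xb16 yb52 zb61) (kb xb19 yb1 zb2) (kb xb15 yb22 zb2) (kb xb18 yb53 zb49) (kb xb19 yb1 zb6) (kb xb10 yb31 zb25) (kb xb5 yb19 zb54) (kb xb19 yb1 zb9) (kb xb19 yb1 zb10) (kb xb18 yb47 zb42) (kb xb19 yb1 zb13) (kb xb9 yb59 zb21) (kb xb5 yb19 zb57) (kb xb5 yb19 zb58) (kb xb19 yb1 zb17) (kb xb19 yb1 zb26) (kb xb13 yb49 zb39) (kb xb19 yb1 zb20) (kb xb19 yb1 zb21) (kb xb19 yb1 zb31) (kb xb16 yb22 zb54) (kb xb19 yb0 zb17) (kb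 xb9 yb59 zb19) (kb xb18 yb59 zb33) (kb xb10 yb28 zb46) (kb xb5 yb20 zb1) (kb xb5 yb20 zb2) (kb xb12 yb7 zb4) (kb xb19 yb1 zb35)) (@D3.rec (fun _ => Pt) (kb xb19 yb1 zb36) (kb xb18 yb59 zb47) (kb xb10 yb28 zb54) (kb xb5 yb20 zb4) (kb xb5 yb20 zb5) (kb xb19 yb1 zb45) (kb xb19 yb1 zb47) (kb xb16 yb22 zb34) (kb xb18 yb35 zb48) (kb xb5 yb20 zb6) (kb xb19 yb1 zb59) (kb xb18 yb22 zb18) (kb xb19 yb1 zb56) (kb xb19 yb1 zb57) (kb xb5 yb20 zb7) (kb xb9 yb54 zb21) (kb xb19 yb2 zb6) (kb xb19 yb2 zb7) (kb xb19 yb2 zb14) (kb xb5 yb20 zb12) (kb xb5 yb20 zb13) (kb xb5 yb20 zb11) (kb xb19 yb2 zb21) (kb xb16 yb52 zb58) (kb xb19 yb2 zb27) (kb xb19 yb2 zb18) (kb xb11 yb44 zb26) (kb xb19 yb2 zb31) (kb xb10 yb29 zb13) (kb xb10 yb29 zb14) (kb xb5 yb20 zb15) (kb xb19 yb2 zb34) (kb xb5 yb20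 zb17) (kb xb19 yb2 zb39) (kb xb19 yb2 zb40) (kb xb11 yb52 zb22) (kb xb8 yb39 zb14) (kb xb5 yb20 zb19) (kb xb19 yb2 zb50) (kb xb19 yb2 zb51) (kb xb5 yb20 zb20) (kb xb19 yb2 zb58) (kb xb19 yb2 zb59) (kb xb19 yb3 zb3) (kb xb19 yb3 zb7) (kb xb5 yb22 zb6) (kb xb5 yb20 zb22) (kb xb5 yb20 zb23) (kb xb19 yb3 zb14) (kb xb19 yb3 zb16) (kb xb10 yb54 zb1) (kb xb12 yb4 zb34) (kb xb12 yb4 zb35) (kb xb5 yb20 zb25) (kb xb14 yb40 zb22) (kb xb5 yb20 zb34) (kb xb5 yb20 zb27) (kb xb5 yb20 zb28) (kb xb19 yb3 zb30) (kb xb5 yb20 zb29) (kb xb19 yb3 zb36) (kb xb19 yb3 zb38)) (@D3.rec (fun _ => Pt) (kb xb19 yb3 zb40) (kb xb5 yb23 zb1) (kb xb5 yb20 zb31) (kb xb19 yb3 zb46) (kb xb19 yb3 zb45) (kb xb19 yb3 zb50) (kb xb19 yb3 zb52) (kb xb14 yb40 zb23) (kb xb14 yb21 zb44) (kb xb17 yb28 zb55) (kb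 xb10 yb36 zb60) (kb xb5 yb20 zb35) (kb xb19 yb4 zb0) (kb xb8 yb41 zb23) (kb xb19 yb4 zb1) (kb xb18 yb53 zb21) (kb xb5 yb23 zb42) (kb xb5 yb20 zb38) (kb xb5 yb20 zb39) (kb xb19 yb4 zb6) (kb xb19 yb4 zb14) (kb xb17 yb21 zb13) (kb xb19 yb4 zb9) (kb xb14 yb37 zb2) (kb xb19 yb4 zb21) (kb xb10 yb29 zb38) (kb xb15 yb9 zb9) (kb xb5 yb31 zb2) (kb xb5 yb20 zb48) (kb xb5 yb20 zb43) (kb xb19 yb4 zb25) (kb xb19 yb4 zb27) (kb xb5 yb33 zb57) (kb xb5 yb24 zb12) (kb xb5 yb20 zb45) (kb xb5 yb20 zb46) (kb xb19 yb4 zb31) (kb xb19 yb4 zb33) (kb xb13 yb22 zb3) (kb xb7 yb36 zb52) (kb xb14 yb41 zb55) (kb xb15 yb19 zb20) (kb xb5 yb32 zb11) (kb xb5 yb20 zb54) (kb xb19 yb4 zb37) (kb xb18 yb46 zb23) (kb xb5 yb24 zb38) (kb xb5 yb20 zb51) (kb xb5 yb20 zb52) (kb xb19 yb4 zb40) (kb xb19 yb4 zb42)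 (kb xb19 yb4 zb44) (kb xb7 yb45 zb32) (kb xb14 yb22 zb10) (kb xb16 yb4 zb29) (kb xb14 yb22 zb17) (kb xb19 yb4 zb50) (kb xb5 yb24 zb53) (kb xb5 yb20 zb56) (kb xb5 yb20 zb57) (kb xb19 yb4 zb57) (kb xb16 yb22 zb43)) (@D3.rec (fun _ => Pt) (kb xb14 yb43 zb28) (kb xb5 yb20 zb60) (kb xb9 yb51 zb28) (kb xb6 yb52 zb28) (kb xb5 yb25 zb11) (kb xb14 yb22 zb19) (kb xb5 yb21 zb0) (kb xb15 yb19 zb17) (kb xb19 yb5 zb4) (kb xb19 yb5 zb5) (kb xb14 yb43 zb16) (kb xb16 yb39 zb20) (kb xb14 yb22 zb18) (kb xb5 yb25 zb22) (kb xb19 yb5 zb10) (kb xb19 yb5 zb12) (kb xb5 yb21 zb8) (kb xb5 yb21 zb5) (kb xb19 yb5 zb17) (kb xb5 yb21 zb6) (kb xb19 yb5 zb21) (kb xb19 yb5 zb25) (kb xb10 yb26 zb51) (kb xb19 yb5 zb28) (kb xb19 yb5 zb30) (kb xb6 yb17 zb33) (kb xb7 yb36 zb37) (kb xb16 yb13 zb24) (kb xb5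 yb21 zb10) (kb xb19 yb5 zb35) (kb xb19 yb5 zb33) (kb xb19 yb5 zb34) (kb xb5 yb21 zb11) (kb xb16 yb50 zb44) (kb xb19 yb5 zb40) (kb xb5 yb21 zb12) (kb xb19 yb5 zb44) (kb xb12 yb34 zb34) (kb xb16 yb41 zb51) (kb xb19 yb5 zb49) (kb xb10 yb32 zb49) (kb xb5 yb21 zb14) (kb xb15 yb53 zb36) (kb xb19 yb5 zb56) (kb xb14 yb45 zb50) (kb xb16 yb0 zb58) (kb xb16 yb0 zb59) (kb xb19 yb6 zb0) (kb xb6 yb41 zb42) (kb xb10 yb32 zb40) (kb xb5 yb21 zb17) (kb xb19 yb6 zb7) (kb xb19 yb6 zb9) (kb xb19 yb6 zb6) (kb xb5 yb21 zb18) (kb xb19 yb6 zb15) (kb xb5 yb21 zb19) (kb xb19 yb6 zb19) (kb xb19 yb6 zb20) (kb xb8 yb4 zb40) (kb xb9 yb52 zb29) (kb xb18 yb6 zb53)) (@D3.rec (fun _ => Pt) (kb xb18 yb6 zb54) (kb xb8 yb5 zb49) (kb xb10 yb29 zb16) (kb xb19 yb6 zb30) (kb xb19 yb6 zb34) (kb xb10 yb28 zb12)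 (kb xb5 yb21 zb24) (kb xb19 yb6 zb38) (kb xb5 yb21 zb26) (kb xb12 yb34 zb27) (kb xb8 yb15 zb14) (kb xb15 yb9 zb1) (kb xb5 yb21 zb38) (kb xb5 yb21 zb28) (kb xb19 yb6 zb52) (kb xb19 yb6 zb53) (kb xb10 yb0 zb52) (kb xb18 yb39 zb45) (kb xb5 yb21 zb30) (kb xb19 yb6 zb57) (kb xb5 yb21 zb31) (kb xb19 yb6 zb61) (kb xb19 yb7 zb0) (kb xb5 yb21 zb32) (kb xb19 yb7 zb5) (kb xb19 yb7 zb7) (kb xb19 yb7 zb11) (kb xb5 yb21 zb34) (kb xb19 yb7 zb18) (kb xb19 yb7 zb19) (kb xb19 yb7 zb17) (kb xb14 yb39 zb7) (kb xb7 yb47 zb17) (kb xb17 yb1 zb26) (kb xb5 yb26 zb5) (kb xb5 yb21 zb40) (kb xb19 yb7 zb25) (kb xb19 yb7 zb30) (kb xb14 yb39 zb46) (kb xb19 yb7 zb35) (kb xb5 yb21 zb44) (kb xb19 yb7 zb39) (kb xb5 yb32 zb33) (kb xb15 yb9 zb3) (kb xb5 yb21 zb53) (kb xb5 yb21 zb46) (kb xb19 yb7 zb48)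 (kb xb5 yb21 zb47) (kb xb19 yb7 zb52) (kb xb19 yb7 zb54) (kb xb19 yb2 zb38) (kb xb5 yb21 zb49) (kb xb5 yb21 zb50) (kb xb19 yb8 zb3) (kb xb19 yb8 zb5) (kb xb19 yb7 zb60) (kb xb19 yb8 zb11) (kb xb19 yb8 zb13) (kb xb19 yb8 zb1) (kb xb19 yb8 zb2) (kb xb14 yb41 zb45) (kb xb11 yb53 zb23)) (@D3.rec (fun _ => Pt) (kb xb19 yb8 zb21) (kb xb5 yb26 zb42) (kb xb19 yb8 zb24) (kb xb13 yb2 zb24) (kb xb16 yb38 zb36) (kb xb5 yb21 zb55) (kb xb5 yb21 zb56) (kb xb14 yb31 zb53) (kb xb19 yb8 zb39) (kb xb19 yb8 zb41) (kb xb19 yb8 zb34) (kb xb19 yb8 zb35) (kb xb11 yb32 zb31) (kb xb5 yb26 zb53) (kb xb19 yb8 zb46) (kb xb19 yb8 zb48) (kb xb19 yb8 zb51) (kb xb19 yb2 zb49) (kb xb5 yb21 zb61) (kb xb5 yb22 zb0) (kb xb15 yb52 zb26) (kb xb19 yb8 zb59) (kb xb19 yb8 zb61) (kb xb19 yb9 zb0) (kb xb14 yb43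 zb42) (kb xb19 yb9 zb10) (kb xb19 yb2 zb57) (kb xb5 yb22 zb2) (kb xb5 yb22 zb3) (kb xb19 yb9 zb19) (kb xb19 yb9 zb22) (kb xb19 yb9 zb23) (kb xb19 yb3 zb1) (kb xb19 yb9 zb32) (kb xb5 yb22 zb4) (kb xb17 yb34 zb19) (kb xb19 yb9 zb36) (kb xb19 yb9 zb37) (kb xb17 yb36 zb14) (kb xb5 yb22 zb5) (kb xb19 yb9 zb47) (kb xb19 yb3 zb10) (kb xb19 yb9 zb52) (kb xb19 yb9 zb55) (kb xb19 yb9 zb60) (kb xb5 yb22 zb12) (kb xb5 yb22 zb13) (kb xb5 yb22 zb14) (kb xb5 yb22 zb9) (kb xb13 yb8 zb27) (kb xb5 yb22 zb10) (kb xb19 yb10 zb10) (kb xb5 yb22 zb11) (kb xb19 yb10 zb15) (kb xb19 yb10 zb19) (kb xb19 yb10 zb23) (kb xb19 yb10 zb0) (kb xb19 yb10 zb1) (kb xb19 yb10 zb6) (kb xb8 yb39 zb25) (kb xb16 yb14 zb25) (kb xb5 yb22 zb49)) (@D3.rec (fun _ => Pt) (kb xb5 yb29 zb52) (kb xb5 yb22 zb18) (kb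 xb19 yb10 zb33) (kb xb19 yb10 zb34) (kb xb18 yb33 zb37) (kb xb10 yb35 zb33) (kb xb5 yb22 zb20) (kb xb5 yb22 zb21) (kb xb19 yb10 zb40) (kb xb11 yb51 zb50) (kb xb14 yb47 zb53) (kb xb14 yb37 zb3) (kb xb9 yb37 zb41) (kb xb8 yb29 zb17) (kb xb8 yb39 zb16) (kb xb5 yb23 zb18) (kb xb15 yb21 zb37) (kb xb15 yb21 zb38) (kb xb8 yb39 zb43) (kb xb5 yb22 zb28) (kb xb7 yb30 zb2) (kb xb5 yb22 zb41) (kb xb5 yb22 zb32) (kb xb19 yb10 zb51) (kb xb8 yb21 zb36) (kb xb10 yb37 zb22) (kb xb8 yb7 zb25) (kb xb5 yb22 zb34) (kb xb12 yb43 zb46) (kb xb10 yb28 zb41) (kb xb8 yb15 zb59) (kb xb19 yb10 zb60) (kb xb12 yb41 zb33) (kb xb10 yb35 zb5) (kb xb5 yb22 zb37) (kb xb13 yb9 zb29) (kb xb7 yb50 zb34) (kb xb19 yb11 zb5) (kb xb19 yb11 zb7) (kb xb8 yb56 zb5) (kb xb8 yb7 zb40) (kb xb6 yb6 zb22) (kb xb19 yb11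 zb11) (kb xb8 yb6 zb60) (kb xb19 yb11 zb14) (kb xb5 yb22 zb44) (kb xb19 yb11 zb17) (kb xb19 yb11 zb19) (kb xb19 yb11 zb22) (kb xb15 yb44 zb9) (kb xb5 yb22 zb47) (kb xb19 yb11 zb28) (kb xb19 yb11 zb30) (kb xb18 yb39 zb9) (kb xb19 yb11 zb27) (kb xb5 yb22 zb48) (kb xb14 yb21 zb4) (kb xb19 yb11 zb36) (kb xb15 yb54 zb38) (kb xb19 yb11 zb38) (kb xb19 yb3 zb26) (kb xb5 yb22 zb52)) (@D3.rec (fun _ => Pt) (kb xb5 yb22 zb53) (kb xb19 yb11 zb41) (kb xb19 yb11 zb49) (kb xb19 yb11 zb51) (kb xb19 yb11 zb44) (kb xb19 yb11 zb56) (kb xb19 yb11 zb60) (kb xb19 yb3 zb29) (kb xb5 yb22 zb55) (kb xb5 yb22 zb56) (kb xb18 yb51 zb32) (kb xb19 yb12 zb7) (kb xb19 yb12 zb8) (kb xb15 yb44 zb25) (kb xb19 yb12 zb15) (kb xb19 yb3 zb35) (kb xb5 yb22 zb59) (kb xb5 yb22 zb60) (kb xb9 yb41 zb43) (kb xb19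 yb12 zb23) (kb xb19 yb12 zb26) (kb xb5 yb22 zb61) (kb xb19 yb12 zb40) (kb xb19 yb12 zb37) (kb xb19 yb12 zb38) (kb xb5 yb23 zb0) (kb xb17 yb48 zb8) (kb xb10 yb20 zb36) (kb xb19 yb12 zb47) (kb xb19 yb3 zb41) (kb xb14 yb21 zb45) (kb xb19 yb12 zb54) (kb xb18 yb47 zb31) (kb xb5 yb23 zb6) (kb xb19 yb12 zb59) (kb xb19 yb13 zb0) (kb xb5 yb23 zb9) (kb xb5 yb23 zb10) (kb xb5 yb23 zb4) (kb xb19 yb13 zb8) (kb xb5 yb23 zb5) (kb xb19 yb13 zb13) (kb xb18 yb47 zb16) (kb xb19 yb13 zb16) (kb xb14 yb37 zb60) (kb xb19 yb12 zb58) (kb xb5 yb23 zb7) (kb xb19 yb13 zb24) (kb xb5 yb23 zb8) (kb xb15 yb35 zb3) (kb xb19 yb13 zb29) (kb xb19 yb13 zb30) (kb xb19 yb13 zb34) (kb xb19 yb13 zb37) (kb xb19 yb13 zb41) (kb xb19 yb13 zb5) (kb xb19 yb13 zb45) (kb xb5 yb23 zb11) (kb xb19 yb13 zb48) (kb xb19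 yb13 zb51) (kb xb10 yb31 zb10) (kb xb17 yb2 zb5)) (@D3.rec (fun _ => Pt) (kb xb17 yb2 zb6) (kb xb19 yb13 zb56) (kb xb16 yb38 zb27) (kb xb9 yb12 zb42) (kb xb19 yb13 zb60) (kb xb19 yb14 zb0) (kb xb5 yb23 zb17) (kb xb19 yb14 zb4) (kb xb19 yb14 zb5) (kb xb12 yb54 zb29) (kb xb5 yb23 zb20) (kb xb19 yb14 zb14) (kb xb19 yb14 zb15) (kb xb12 yb54 zb36) (kb xb19 yb14 zb18) (kb xb11 yb53 zb31) (kb xb19 yb14 zb20) (kb xb19 yb14 zb22) (kb xb6 yb4 zb56) (kb xb6 yb4 zb60) (kb xb5 yb23 zb24) (kb xb19 yb14 zb29) (kb xb10 yb35 zb25) (kb xb15 yb53 zb14) (kb xb19 yb14 zb33) (kb xb19 yb14 zb28) (kb xb5 yb23 zb28) (kb xb5 yb23 zb29) (kb xb19 yb14 zb42) (kb xb19 yb14 zb51) (kb xb19 yb14 zb45) (kb xb19 yb14 zb46) (kb xb15 yb18 zb40) (kb xb8 yb17 zb21) (kb xb5 yb23 zb56) (kb xb19 yb14 zb57)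 (kb xb18 yb12 zb59) (kb xb19 yb3 zb61) (kb xb5 yb23 zb34) (kb xb7 yb36 zb36) (kb xb7 yb44 zb59) (kb xb19 yb15 zb2) (kb xb8 yb16 zb42) (kb xb10 yb20 zb43) (kb xb12 yb43 zb7) (kb xb8 yb30 zb14) (kb xb8 yb8 zb5) (kb xb8 yb32 zb56) (kb xb5 yb23 zb40) (kb xb19 yb15 zb13) (kb xb19 yb15 zb10) (kb xb5 yb23 zb41) (kb xb5 yb35 zb44) (kb xb11 yb0 zb2) (kb xb19 yb15 zb17) (kb xb16 yb21 zb25) (kb xb14 yb36 zb39) (kb xb19 yb15 zb27) (kb xb19 yb15 zb29) (kb xb17 yb52 zb19) (kb xb5 yb23 zb45) (kb xb19 yb15 zb36)) (@D3.rec (fun _ => Pt) (kb xb19 yb15 zb39) (kb xb5 yb23 zb48) (kb xb5 yb23 zb49) (kb xb14 yb58 zb47) (kb xb19 yb15 zb48) (kb xb19 yb15 zb34) (kb xb19 yb15 zb35) (kb xb5 yb23 zb46) (kb xb9 yb41 zb47) (kb xb19 yb15 zb57) (kb xb19 yb15 zb58) (kb xb5 yb23 zb47) (kb xb19 yb16 zb5)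 (kb xb19 yb16 zb8) (kb xb19 yb16 zb11) (kb xb19 yb16 zb16) (kb xb19 yb15 zb44) (kb xb19 yb16 zb20) (kb xb5 yb23 zb50) (kb xb19 yb16 zb23) (kb xb19 yb16 zb24) (kb xb5 yb23 zb52) (kb xb8 yb27 zb14) (kb xb17 yb29 zb21) (kb xb14 yb54 zb2) (kb xb12 yb48 zb26) (kb xb19 yb16 zb34) (kb xb5 yb23 zb55) (kb xb19 yb16 zb39) (kb xb19 yb16 zb40) (kb xb5 yb23 zb57) (kb xb19 yb16 zb47) (kb xb19 yb16 zb48) (kb xb5 yb23 zb58) (kb xb19 yb16 zb54) (kb xb19 yb16 zb55) (kb xb19 yb16 zb58) (kb xb7 yb48 zb51) (kb xb9 yb45 zb58) (kb xb5 yb23 zb60) (kb xb15 yb39 zb25) (kb xb19 yb17 zb2) (kb xb15 yb12 zb48) (kb xb19 yb17 zb4) (kb xb17 yb33 zb54) (kb xb9 yb42 zb48) (kb xb5 yb24 zb1) (kb xb5 yb24 zb2) (kb xb19 yb17 zb8) (kb xb6 yb3 zb58) (kb xb19 yb17 zb13) (kb xb19 yb17 zb11) (kb xb19 yb17 zb12)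 (kb xb15 yb15 zb22) (kb xb5 yb26 zb47) (kb xb15 yb9 zb17) (kb xb15 yb9 zb18) (kb xb15 yb9 zb19) (kb xb16 yb36 zb52) (kb xb19 yb17 zb22) (kb xb19 yb4 zb24) (kb xb5 yb24 zb8)) (@D3.rec (fun _ => Pt) (kb xb18 yb57 zb52) (kb xb5 yb33 zb47) (kb xb19 yb17 zb30) (kb xb15 yb49 zb61) (kb xb5 yb24 zb10) (kb xb19 yb17 zb36) (kb xb19 yb17 zb35) (kb xb5 yb24 zb11) (kb xb16 yb40 zb55) (kb xb19 yb4 zb29) (kb xb7 yb45 zb58) (kb xb19 yb17 zb44) (kb xb10 yb24 zb42) (kb xb12 yb6 zb11) (kb xb5 yb24 zb17) (kb xb19 yb17 zb47) (kb xb19 yb17 zb51) (kb xb5 yb24 zb20) (kb xb5 yb24 zb21) (kb xb5 yb24 zb15) (kb xb19 yb17 zb59) (kb xb5 yb24 zb16) (kb xb19 yb18 zb4) (kb xb18 yb44 zb40) (kb xb19 yb18 zb7) (kb xb19 yb17 zb46) (kb xb18 yb45 zb38) (kb xb5 yb24 zb18) (kb xb15 yb51 zb0) (kb xb11 yb1 zb12)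 (kb xb19 yb18 zb13) (kb xb9 yb45 zb32) (kb xb19 yb17 zb57) (kb xb5 yb24 zb23) (kb xb15 yb14 zb11) (kb xb5 yb24 zb25) (kb xb19 yb18 zb17) (kb xb12 yb7 zb21) (kb xb5 yb24 zb28) (kb xb15 yb8 zb55) (kb xb15 yb53 zb48) (kb xb19 yb18 zb21) (kb xb18 yb2 zb46) (kb xb5 yb24 zb31) (kb xb19 yb18 zb27) (kb xb19 yb18 zb32) (kb xb19 yb18 zb35) (kb xb7 yb2 zb50) (kb xb7 yb36 zb51) (kb xb15 yb20 zb4) (kb xb5 yb24 zb36) (kb xb19 yb18 zb40) (kb xb5 yb24 zb37) (kb xb5 yb33 zb2) (kb xb19 yb18 zb42) (kb xb19 yb4 zb39) (kb xb19 yb18 zb46) (kb xb19 yb18 zb47) (kb xb17 yb51 zb55) (kb xb19 yb18 zb53) (kb xb19 yb18 zb55) (kb xb7 yb24 zb44)) (@D3.rec (fun _ => Pt) (kb xb5 yb24 zb41) (kb xb9 yb42 zb27) (kb xb19 yb18 zb60) (kb xb19 yb18 zb61) (kb xb5 yb24 zb42) (kb xb19 yb19 zb4) (kb xb5 yb24 zb44)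 (kb xb19 yb19 zb6) (kb xb19 yb19 zb7) (kb xb8 yb41 zb19) (kb xb13 yb44 zb37) (kb xb5 yb56 zb59) (kb xb17 yb28 zb36) (kb xb10 yb42 zb47) (kb xb19 yb19 zb17) (kb xb19 yb19 zb19) (kb xb5 yb24 zb49) (kb xb19 yb19 zb25) (kb xb19 yb19 zb26) (kb xb5 yb24 zb51) (kb xb19 yb19 zb33) (kb xb14 yb58 zb60) (kb xb19 yb19 zb30) (kb xb5 yb24 zb52) (kb xb10 yb55 zb55) (kb xb19 yb19 zb39) (kb xb15 yb15 zb27) (kb xb19 yb4 zb52) (kb xb19 yb4 zb53) (kb xb5 yb32 zb37) (kb xb16 yb26 zb60) (kb xb10 yb23 zb24) (kb xb10 yb23 zb25) (kb xb8 yb44 zb11) (kb xb19 yb19 zb53) (kb xb16 yb19 zb5) (kb xb5 yb24 zb61) (kb xb19 yb19 zb59) (kb xb19 yb20 zb0) (kb xb5 yb24 zb58) (kb xb19 yb20 zb3) (kb xb18 yb20 zb22) (kb xb5 yb24 zb60) (kb xb19 yb20 zb8) (kb xb18 yb45 zb35) (kb xb7 yb20 zb60) (kb xb15 yb3 zb4)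 (kb xb14 yb43 zb41) (kb xb5 yb25 zb2) (kb xb15 yb2 zb33) (kb xb19 yb20 zb11) (kb xb19 yb20 zb12) (kb xb15 yb2 zb21) (kb xb13 yb4 zb48) (kb xb16 yb39 zb32) (kb xb19 yb20 zb18) (kb xb15 yb1 zb3) (kb xb15 yb1 zb4) (kb xb14 yb43 zb46) (kb xb19 yb20 zb29) (kb xb17 yb50 zb49) (kb xb5 yb25 zb8)) (@D3.rec (fun _ => Pt) (kb xb14 yb42 zb1) (kb xb5 yb25 zb10) (kb xb8 yb10 zb23) (kb xb8 yb26 zb61) (kb xb15 yb1 zb6) (kb xb19 yb20 zb38) (kb xb7 yb32 zb37) (kb xb13 yb4 zb46) (kb xb14 yb3 zb46) (kb xb17 yb52 zb24) (kb xb19 yb5 zb2) (kb xb5 yb25 zb12) (kb xb19 yb20 zb43) (kb xb19 yb20 zb44) (kb xb14 yb22 zb16) (kb xb19 yb19 zb29) (kb xb5 yb25 zb15) (kb xb5 yb25 zb16) (kb xb5 yb25 zb17) (kb xb10 yb57 zb56) (kb xb5 yb25 zb14) (kb xb19 yb20 zb58) (kb xb18 yb1 zb57) (kb xb9 yb44 zb14) (kb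 xb18 yb22 zb24) (kb xb19 yb21 zb7) (kb xb19 yb20 zb52) (kb xb19 yb20 zb53) (kb xb14 yb41 zb56) (kb xb19 yb20 zb55) (kb xb19 yb20 zb56) (kb xb14 yb41 zb28) (kb xb14 yb43 zb27) (kb xb15 yb54 zb45) (kb xb5 yb25 zb20) (kb xb5 yb25 zb21) (kb xb9 yb44 zb10) (kb xb5 yb52 zb25) (kb xb19 yb21 zb23) (kb xb19 yb21 zb19) (kb xb14 yb22 zb11) (kb xb14 yb25 zb50) (kb xb19 yb21 zb20) (kb xb16 yb22 zb41) (kb xb19 yb21 zb31) (kb xb10 yb54 zb5) (kb xb15 yb36 zb8) (kb xb5 yb25 zb23) (kb xb19 yb21 zb41) (kb xb19 yb21 zb38) (kb xb5 yb25 zb24) (kb xb19 yb21 zb48) (kb xb19 yb21 zb47) (kb xb19 yb21 zb52) (kb xb5 yb25 zb25) (kb xb19 yb21 zb55) (kb xb19 yb21 zb56) (kb xb17 yb48 zb42) (kb xb19 yb22 zb4) (kb xb19 yb22 zb8) (kb xb5 yb25 zb37) (kb xb5 yb25 zb38)) (@D3.rec (fun _ => Pt) (kb xb19 yb22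 zb15) (kb xb19 yb22 zb18) (kb xb5 yb25 zb41) (kb xb19 yb5 zb15) (kb xb16 yb17 zb7) (kb xb5 yb25 zb30) (kb xb19 yb21 zb44) (kb xb19 yb22 zb28) (kb xb19 yb22 zb29) (kb xb19 yb5 zb19) (kb xb17 yb49 zb34) (kb xb5 yb25 zb32) (kb xb10 yb54 zb8) (kb xb19 yb22 zb41) (kb xb19 yb22 zb42) (kb xb19 yb22 zb47) (kb xb9 yb58 zb51) (kb xb5 yb25 zb34) (kb xb19 yb22 zb48) (kb xb5 yb25 zb35) (kb xb18 yb15 zb22) (kb xb19 yb22 zb55) (kb xb19 yb22 zb56) (kb xb5 yb25 zb36) (kb xb18 yb16 zb47) (kb xb19 yb23 zb3) (kb xb19 yb22 zb11) (kb xb11 yb44 zb18) (kb xb19 yb23 zb8) (kb xb19 yb22 zb14) (kb xb5 yb25 zb39) (kb xb10 yb24 zb30) (kb xb11 yb46 zb56) (kb xb19 yb23 zb15) (kb xb5 yb25 zb40) (kb xb8 yb14 zb4) (kb xb14 yb13 zb52) (kb xb19 yb23 zb20) (kb xb11 yb40 zb9) (kb xb18 yb42 zb10) (kb xb5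 yb50 zb32) (kb xb19 yb23 zb25) (kb xb5 yb25 zb44) (kb xb5 yb25 zb45) (kb xb5 yb25 zb43) (kb xb7 yb44 zb40) (kb xb19 yb23 zb28) (kb xb10 yb40 zb13) (kb xb19 yb23 zb31) (kb xb7 yb44 zb61) (kb xb5 yb25 zb48) (kb xb5 yb25 zb49) (kb xb7 yb45 zb0) (kb xb7 yb36 zb43) (kb xb5 yb25 zb50) (kb xb19 yb23 zb41) (kb xb19 yb23 zb42) (kb xb10 yb47 zb39) (kb xb5 yb25 zb52) (kb xb5 yb25 zb53) (kb xb19 yb23 zb52) (kb xb5 yb25 zb54)) (@D3.rec (fun _ => Pt) (kb xb19 yb23 zb56) (kb xb15 yb55 zb4) (kb xb5 yb25 zb56) (kb xb5 yb25 zb57) (kb xb19 yb24 zb2) (kb xb19 yb24 zb3) (kb xb19 yb24 zb5) (kb xb19 yb24 zb1) (kb xb11 yb31 zb61) (kb xb19 yb24 zb10) (kb xb5 yb25 zb59) (kb xb19 yb24 zb12) (kb xb19 yb24 zb11) (kb xb17 yb32 zb19) (kb xb6 yb45 zb47) (kb xb6 yb44 zb49) (kb xb5 yb26 zb0) (kb xb19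 yb24 zb16) (kb xb9 yb32 zb8) (kb xb19 yb24 zb15) (kb xb5 yb26 zb1) (kb xb18 yb46 zb0) (kb xb12 yb43 zb59) (kb xb11 yb54 zb51) (kb xb9 yb48 zb37) (kb xb10 yb18 zb58) (kb xb19 yb24 zb23) (kb xb9 yb48 zb23) (kb xb19 yb24 zb26) (kb xb5 yb26 zb6) (kb xb19 yb24 zb32) (kb xb5 yb26 zb7) (kb xb19 yb24 zb36) (kb xb19 yb24 zb37) (kb xb5 yb26 zb8) (kb xb19 yb24 zb43) (kb xb15 yb19 zb38) (kb xb15 yb32 zb22) (kb xb5 yb26 zb10) (kb xb5 yb26 zb11) (kb xb19 yb24 zb51) (kb xb19 yb24 zb50) (kb xb12 yb58 zb13) (kb xb19 yb24 zb52) (kb xb5 yb26 zb14) (kb xb19 yb24 zb56) (kb xb11 yb26 zb2) (kb xb19 yb24 zb54) (kb xb19 yb24 zb61) (kb xb13 yb2 zb13) (kb xb19 yb25 zb4) (kb xb11 yb25 zb2) (kb xb19 yb25 zb6) (kb xb5 yb26 zb19) (kb xb10 yb18 zb44) (kb xb5 yb26 zb22) (kb xb19 yb25 zb11) (kb xb5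 yb26 zb23) (kb xb19 yb25 zb15) (kb xb19 yb25 zb17) (kb xb15 yb55 zb16) (kb xb5 yb26 zb25)) (@D3.rec (fun _ => Pt) (kb xb5 yb26 zb26) (kb xb19 yb25 zb26) (kb xb19 yb25 zb22) (kb xb19 yb25 zb31) (kb xb19 yb25 zb33) (kb xb19 yb25 zb25) (kb xb16 yb59 zb9) (kb xb19 yb25 zb38) (kb xb16 yb13 zb2) (kb xb5 yb26 zb28) (kb xb19 yb25 zb43) (kb xb19 yb25 zb42) (kb xb19 yb16 zb2) (kb xb6 yb42 zb23) (kb xb5 yb26 zb31) (kb xb15 yb55 zb35) (kb xb11 yb55 zb40) (kb xb11 yb55 zb41) (kb xb6 yb39 zb23) (kb xb14 yb50 zb7) (kb xb19 yb25 zb48) (kb xb5 yb26 zb37) (kb xb5 yb26 zb35) (kb xb10 yb55 zb37) (kb xb5 yb30 zb41) (kb xb6 yb39 zb57) (kb xb19 yb25 zb54) (kb xb5 yb26 zb40) (kb xb5 yb26 zb39) (kb xb5 yb26 zb41) (kb xb15 yb3 zb57) (kb xb19 yb25 zb56) (kb xb19 yb25 zb57) (kb xb19 yb25 zb58)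 (kb xb15 yb32 zb29) (kb xb5 yb26 zb44) (kb xb19 yb26 zb3) (kb xb19 yb26 zb5) (kb xb19 yb26 zb2) (kb xb19 yb26 zb7) (kb xb19 yb26 zb9) (kb xb16 yb59 zb7) (kb xb5 yb53 zb2) (kb xb19 yb26 zb12) (kb xb15 yb16 zb57) (kb xb19 yb26 zb15) (kb xb5 yb26 zb49) (kb xb5 yb26 zb50) (kb xb19 yb26 zb17) (kb xb19 yb26 zb19) (kb xb11 yb34 zb50) (kb xb12 yb55 zb48) (kb xb14 yb50 zb57) (kb xb11 yb42 zb57) (kb xb19 yb8 zb26) (kb xb19 yb26 zb27) (kb xb8 yb14 zb20) (kb xb8 yb14 zb21) (kb xb19 yb26 zb36) (kb xb9 yb5 zb21) (kb xb5 yb26 zb59) (kb xb9 yb4 zb60)) (@D3.rec (fun _ => Pt) (kb xb19 yb26 zb41) (kb xb19 yb26 zb42) (kb xb5 yb26 zb61) (kb xb17 yb35 zb61) (kb xb19 yb26 zb44) (kb xb14 yb50 zb54) (kb xb19 yb26 zb47) (kb xb19 yb26 zb49) (kb xb5 yb36 zb11) (kb xb9 yb30 zb51) (kb xb11 yb56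 zb24) (kb xb19 yb7 zb49) (kb xb12 yb55 zb21) (kb xb9 yb30 zb33) (kb xb9 yb31 zb12) (kb xb19 yb26 zb58) (kb xb5 yb27 zb7) (kb xb5 yb27 zb8) (kb xb5 yb27 zb9) (kb xb19 yb27 zb2) (kb xb19 yb2 zb37) (kb xb5 yb27 zb6) (kb xb19 yb27 zb8) (kb xb19 yb27 zb9) (kb xb19 yb27 zb10) (kb xb10 yb17 zb44) (kb xb11 yb41 zb38) (kb xb11 yb39 zb24) (kb xb19 yb27 zb1) (kb xb11 yb41 zb61) (kb xb19 yb27 zb25) (kb xb5 yb27 zb11) (kb xb19 yb27 zb27) (kb xb19 yb27 zb28) (kb xb10 yb17 zb52) (kb xb18 yb26 zb5) (kb xb11 yb56 zb34) (kb xb5 yb27 zb15) (kb xb18 yb42 zb11) (kb xb5 yb52 zb8) (kb xb18 yb32 zb34) (kb xb7 yb27 zb17) (kb xb11 yb58 zb16) (kb xb11 yb41 zb54) (kb xb19 yb27 zb46) (kb xb5 yb27 zb23) (kb xb19 yb27 zb48) (kb xb12 yb55 zb53) (kb xb5 yb27 zb24) (kb xb10 yb0 zb8) (kb xb8 yb14 zb53)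 (kb xb5 yb27 zb22) (kb xb19 yb27 zb57) (kb xb19 yb27 zb58) (kb xb15 yb47 zb34) (kb xb8 yb28 zb24) (kb xb19 yb28 zb2) (kb xb16 yb44 zb2) (kb xb5 yb27 zb27) (kb xb5 yb27 zb28) (kb xb19 yb7 zb13) (kb xb19 yb28 zb15)) (@D3.rec (fun _ => Pt) (kb xb19 yb28 zb18) (kb xb19 yb4 zb8) (kb xb19 yb28 zb22) (kb xb15 yb16 zb4) (kb xb15 yb16 zb5) (kb xb19 yb28 zb26) (kb xb19 yb28 zb30) (kb xb5 yb27 zb58) (kb xb5 yb27 zb31) (kb xb7 yb9 zb49) (kb xb19 yb28 zb38) (kb xb19 yb13 zb28) (kb xb19 yb28 zb41) (kb xb7 yb41 zb24) (kb xb17 yb43 zb18) (kb xb5 yb27 zb36) (kb xb19 yb28 zb46) (kb xb19 yb28 zb47) (kb xb7 yb41 zb50) (kb xb15 yb37 zb36) (kb xb5 yb27 zb38) (kb xb5 yb27 zb39) (kb xb19 yb28 zb54) (kb xb11 yb19 zb49) (kb xb19 yb29 zb0) (kb xb19 yb28 zb57) (kb xb19 yb28 zb58) (kb xb19 yb29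 zb5) (kb xb15 yb33 zb57) (kb xb10 yb50 zb1) (kb xb19 yb29 zb9) (kb xb5 yb27 zb43) (kb xb19 yb29 zb14) (kb xb19 yb29 zb15) (kb xb11 yb52 zb19) (kb xb5 yb27 zb49) (kb xb19 yb29 zb20) (kb xb16 yb44 zb47) (kb xb16 yb44 zb9) (kb xb5 yb27 zb46) (kb xb5 yb27 zb47) (kb xb19 yb29 zb30) (kb xb19 yb29 zb39) (kb xb19 yb29 zb33) (kb xb19 yb29 zb34) (kb xb19 yb29 zb45) (kb xb19 yb29 zb47) (kb xb19 yb29 zb49) (kb xb16 yb44 zb22) (kb xb5 yb27 zb51) (kb xb5 yb27 zb52) (kb xb19 yb29 zb57) (kb xb19 yb29 zb60) (kb xb19 yb29 zb61) (kb xb19 yb30 zb7) (kb xb19 yb30 zb10) (kb xb16 yb44 zb17) (kb xb5 yb27 zb54) (kb xb5 yb27 zb55) (kb xb19 yb10 zb12) (kb xb19 yb30 zb18) (kb xb19 yb30 zb19)) (@D3.rec (fun _ => Pt) (kb xb5 yb27 zb56) (kb xb10 yb58 zb44) (kb xb19 yb30 zb28) (kb xb19 yb30 zb29)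 (kb xb5 yb27 zb57) (kb xb19 yb30 zb37) (kb xb19 yb30 zb38) (kb xb7 yb40 zb24) (kb xb7 yb15 zb27) (kb xb19 yb30 zb45) (kb xb19 yb30 zb46) (kb xb15 yb59 zb21) (kb xb5 yb27 zb61) (kb xb19 yb30 zb53) (kb xb5 yb28 zb2) (kb xb19 yb30 zb55) (kb xb13 yb8 zb12) (kb xb7 yb39 zb33) (kb xb7 yb39 zb32) (kb xb5 yb28 zb0) (kb xb19 yb30 zb58) (kb xb5 yb28 zb1) (kb xb14 yb48 zb16) (kb xb19 yb30 zb61) (kb xb13 yb9 zb54) (kb xb19 yb31 zb2) (kb xb5 yb28 zb5) (kb xb13 yb19 zb20) (kb xb19 yb31 zb6) (kb xb8 yb7 zb39) (kb xb19 yb31 zb8) (kb xb5 yb28 zb10) (kb xb5 yb28 zb8) (kb xb19 yb31 zb15) (kb xb19 yb31 zb16) (kb xb19 yb31 zb21) (kb xb5 yb28 zb12) (kb xb19 yb31 zb25) (kb xb19 yb31 zb26) (kb xb10 yb42 zb57) (kb xb5 yb28 zb18) (kb xb19 yb31 zb35) (kb xb5 yb28 zb19) (kb xb19 yb31 zb39) (kb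 xb19 yb31 zb41) (kb xb19 yb31 zb43) (kb xb16 yb37 zb15) (kb xb5 yb28 zb21) (kb xb5 yb28 zb22) (kb xb19 yb31 zb47) (kb xb19 yb31 zb56) (kb xb8 yb55 zb24) (kb xb19 yb31 zb50) (kb xb19 yb31 zb51) (kb xb5 yb28 zb23) (kb xb19 yb32 zb4) (kb xb19 yb32 zb3) (kb xb19 yb31 zb12) (kb xb19 yb32 zb7) (kb xb14 yb57 zb31) (kb xb19 yb32 zb10) (kb xb5 yb28 zb27)) (@D3.rec (fun _ => Pt) (kb xb16 yb37 zb42) (kb xb10 yb58 zb30) (kb xb15 yb44 zb19) (kb xb5 yb37 zb21) (kb xb5 yb28 zb31) (kb xb11 yb49 zb40) (kb xb19 yb32 zb19) (kb xb5 yb28 zb35) (kb xb19 yb32 zb22) (kb xb8 yb59 zb3) (kb xb16 yb55 zb54) (kb xb10 yb58 zb17) (kb xb5 yb28 zb32) (kb xb12 yb31 zb10) (kb xb5 yb28 zb33) (kb xb19 yb32 zb26) (kb xb16 yb53 zb38) (kb xb19 yb32 zb27) (kb xb5 yb28 zb37) (kb xb19 yb32 zb29) (kb xb5 yb28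 zb38) (kb xb19 yb32 zb30) (kb xb5 yb28 zb39) (kb xb19 yb12 zb34) (kb xb5 yb28 zb40) (kb xb19 yb3 zb27) (kb xb19 yb32 zb31) (kb xb16 yb43 zb32) (kb xb5 yb37 zb14) (kb xb5 yb28 zb44) (kb xb19 yb32 zb37) (kb xb19 yb32 zb39) (kb xb5 yb28 zb46) (kb xb19 yb32 zb36) (kb xb5 yb28 zb45) (kb xb19 yb32 zb43) (kb xb17 yb58 zb17) (kb xb17 yb58 zb32) (kb xb5 yb28 zb47) (kb xb19 yb32 zb46) (kb xb19 yb32 zb44) (kb xb5 yb28 zb48) (kb xb19 yb32 zb49) (kb xb19 yb32 zb51) (kb xb8 yb57 zb36) (kb xb9 yb46 zb49) (kb xb19 yb29 zb23) (kb xb19 yb32 zb60) (kb xb8 yb37 zb36) (kb xb8 yb37 zb34) (kb xb5 yb40 zb36) (kb xb5 yb28 zb53) (kb xb19 yb33 zb12) (kb xb19 yb33 zb14) (kb xb5 yb28 zb54) (kb xb5 yb28 zb55) (kb xb19 yb33 zb18) (kb xb19 yb33 zb10) (kb xb19 yb33 zb11) (kb xb11 yb7 zb37) (kb xb5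 yb28 zb56) (kb xb19 yb33 zb20)) (@D3.rec (fun _ => Pt) (kb xb5 yb28 zb57) (kb xb19 yb10 zb49) (kb xb11 yb5 zb25) (kb xb19 yb33 zb21) (kb xb19 yb33 zb22) (kb xb8 yb59 zb57) (kb xb19 yb33 zb23) (kb xb5 yb29 zb1) (kb xb10 yb19 zb5) (kb xb19 yb33 zb24) (kb xb6 yb12 zb22) (kb xb11 yb42 zb14) (kb xb16 yb43 zb46) (kb xb16 yb44 zb53) (kb xb5 yb29 zb4) (kb xb5 yb29 zb5) (kb xb19 yb33 zb25) (kb xb15 yb37 zb35) (kb xb5 yb29 zb3) (kb xb19 yb33 zb31) (kb xb19 yb33 zb32) (kb xb19 yb33 zb42) (kb xb14 yb8 zb4) (kb xb16 yb43 zb43) (kb xb9 yb46 zb19) (kb xb14 yb50 zb12) (kb xb16 yb43 zb36) (kb xb11 yb9 zb9) (kb xb16 yb39 zb47) (kb xb5 yb29 zb8) (kb xb5 yb29 zb9) (kb xb5 yb29 zb7) (kb xb19 yb34 zb0) (kb xb19 yb34 zb1) (kb xb19 yb34 zb8) (kb xb19 yb33 zb57) (kb xb12 yb30 zb33) (kb xb19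 yb33 zb60) (kb xb19 yb33 zb61) (kb xb19 yb34 zb14) (kb xb5 yb29 zb12) (kb xb19 yb34 zb16) (kb xb6 yb32 zb11) (kb xb5 yb29 zb13) (kb xb19 yb34 zb21) (kb xb19 yb34 zb20) (kb xb16 yb54 zb61) (kb xb19 yb34 zb26) (kb xb5 yb45 zb26) (kb xb19 yb34 zb33) (kb xb5 yb29 zb16) (kb xb19 yb34 zb36) (kb xb19 yb34 zb35) (kb xb19 yb34 zb39) (kb xb5 yb57 zb11) (kb xb19 yb34 zb45) (kb xb16 yb45 zb60) (kb xb15 yb15 zb38) (kb xb5 yb29 zb19) (kb xb19 yb23 zb14) (kb xb19 yb34 zb56) (kb xb19 yb34 zb53)) (@D3.rec (fun _ => Pt) (kb xb19 yb35 zb0) (kb xb10 yb46 zb29) (kb xb15 yb56 zb4) (kb xb5 yb29 zb21) (kb xb19 yb35 zb7) (kb xb9 yb34 zb49) (kb xb15 yb49 zb18) (kb xb19 yb35 zb10) (kb xb19 yb35 zb14) (kb xb5 yb30 zb0) (kb xb5 yb29 zb26) (kb xb5 yb29 zb27) (kb xb19 yb35 zb22) (kb xb8 yb7 zb60)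 (kb xb19 yb35 zb25) (kb xb7 yb38 zb36) (kb xb19 yb35 zb34) (kb xb5 yb29 zb32) (kb xb5 yb29 zb31) (kb xb19 yb35 zb38) (kb xb19 yb35 zb39) (kb xb5 yb29 zb33) (kb xb8 yb37 zb37) (kb xb8 yb36 zb13) (kb xb5 yb29 zb37) (kb xb5 yb29 zb36) (kb xb19 yb35 zb49) (kb xb5 yb39 zb17) (kb xb15 yb47 zb54) (kb xb16 yb19 zb61) (kb xb19 yb35 zb51) (kb xb19 yb35 zb55) (kb xb19 yb35 zb6) (kb xb5 yb29 zb39) (kb xb19 yb36 zb0) (kb xb19 yb36 zb1) (kb xb19 yb36 zb5) (kb xb15 yb24 zb24) (kb xb8 yb37 zb19) (kb xb8 yb38 zb31) (kb xb9 yb41 zb16) (kb xb19 yb36 zb8) (kb xb8 yb9 zb39) (kb xb19 yb36 zb11) (kb xb19 yb36 zb14) (kb xb16 yb42 zb56) (kb xb5 yb29 zb46) (kb xb5 yb29 zb47) (kb xb19 yb36 zb24) (kb xb19 yb36 zb25) (kb xb19 yb36 zb27) (kb xb16 yb43 zb39) (kb xb16 yb42 zb47) (kb xb5 yb29 zb49)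 (kb xb5 yb29 zb50) (kb xb19 yb36 zb37) (kb xb19 yb36 zb40) (kb xb19 yb36 zb36) (kb xb19 yb36 zb41) (kb xb15 yb34 zb7) (kb xb19 yb36 zb43) (kb xb19 yb36 zb46)) (@D3.rec (fun _ => Pt) (kb xb16 yb43 zb4) (kb xb5 yb29 zb55) (kb xb5 yb29 zb56) (kb xb15 yb39 zb3) (kb xb15 yb39 zb4) (kb xb19 yb36 zb54) (kb xb19 yb36 zb56) (kb xb16 yb43 zb0) (kb xb5 yb29 zb58) (kb xb5 yb29 zb59) (kb xb19 yb37 zb1) (kb xb5 yb29 zb60) (kb xb16 yb49 zb26) (kb xb19 yb37 zb5) (kb xb19 yb37 zb6) (kb xb5 yb29 zb61) (kb xb19 yb37 zb14) (kb xb19 yb37 zb15) (kb xb19 yb35 zb18) (kb xb19 yb35 zb19) (kb xb19 yb37 zb25) (kb xb19 yb37 zb28) (kb xb15 yb40 zb44) (kb xb5 yb30 zb5) (kb xb19 yb37 zb38) (kb xb19 yb37 zb41) (kb xb5 yb30 zb8) (kb xb5 yb30 zb9) (kb xb5 yb30 zb3) (kb xb19 yb37 zb47) (kb xb5 yb30 zb4)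 (kb xb19 yb37 zb51) (kb xb19 yb37 zb54) (kb xb19 yb37 zb58) (kb xb17 yb32 zb37) (kb xb19 yb37 zb37) (kb xb5 yb30 zb6) (kb xb15 yb51 zb26) (kb xb16 yb8 zb16) (kb xb19 yb38 zb3) (kb xb5 yb30 zb7) (kb xb8 yb7 zb61) (kb xb19 yb38 zb8) (kb xb19 yb38 zb11) (kb xb19 yb38 zb17) (kb xb19 yb37 zb45) (kb xb19 yb38 zb21) (kb xb5 yb30 zb10) (kb xb19 yb38 zb25) (kb xb19 yb38 zb26) (kb xb5 yb30 zb13) (kb xb19 yb38 zb34) (kb xb19 yb38 zb37) (kb xb15 yb16 zb47) (kb xb5 yb30 zb15) (kb xb19 yb38 zb40) (kb xb19 yb4 zb36) (kb xb19 yb38 zb43) (kb xb19 yb38 zb45) (kb xb5 yb30 zb16) (kb xb17 yb29 zb18) (kb xb12 yb15 zb42)) (@D3.rec (fun _ => Pt) (kb xb5 yb30 zb18) (kb xb19 yb38 zb53) (kb xb19 yb38 zb54) (kb xb19 yb38 zb55) (kb xb15 yb58 zb4) (kb xb5 yb30 zb20) (kb xb19 yb38 zb58) (kb xb16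 yb44 zb52) (kb xb16 yb43 zb47) (kb xb5 yb30 zb23) (kb xb5 yb30 zb24) (kb xb19 yb39 zb9) (kb xb16 yb42 zb55) (kb xb5 yb30 zb22) (kb xb19 yb39 zb14) (kb xb19 yb39 zb15) (kb xb19 yb39 zb21) (kb xb19 yb39 zb5) (kb xb19 yb39 zb8) (kb xb16 yb44 zb44) (kb xb11 yb3 zb41) (kb xb19 yb39 zb25) (kb xb5 yb30 zb27) (kb xb5 yb30 zb28) (kb xb5 yb30 zb26) (kb xb19 yb39 zb32) (kb xb19 yb39 zb33) (kb xb19 yb39 zb39) (kb xb10 yb55 zb13) (kb xb16 yb44 zb59) (kb xb19 yb39 zb30) (kb xb19 yb39 zb31) (kb xb19 yb39 zb47) (kb xb16 yb45 zb1) (kb xb16 yb45 zb18) (kb xb16 yb45 zb2) (kb xb11 yb32 zb17) (kb xb5 yb30 zb31) (kb xb8 yb48 zb23) (kb xb19 yb39 zb55) (kb xb5 yb30 zb32) (kb xb13 yb39 zb12) (kb xb19 yb39 zb59) (kb xb15 yb6 zb10) (kb xb5 yb45 zb11) (kb xb5 yb45 zb12) (kb xb19 yb34 zb19) (kb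 xb5 yb30 zb35) (kb xb5 yb39 zb10) (kb xb19 yb40 zb8) (kb xb19 yb40 zb9) (kb xb5 yb30 zb36) (kb xb19 yb40 zb15) (kb xb16 yb47 zb6) (kb xb19 yb40 zb18) (kb xb11 yb32 zb20) (kb xb19 yb40 zb24) (kb xb5 yb30 zb46) (kb xb9 yb46 zb30) (kb xb9 yb1 zb15) (kb xb19 yb40 zb25) (kb xb19 yb40 zb12)) (@D3.rec (fun _ => Pt) (kb xb19 yb40 zb5) (kb xb9 yb1 zb17) (kb xb5 yb30 zb44) (kb xb12 yb57 zb40) (kb xb19 yb40 zb31) (kb xb5 yb30 zb45) (kb xb16 yb45 zb20) (kb xb5 yb30 zb48) (kb xb5 yb30 zb49) (kb xb19 yb40 zb38) (kb xb19 yb40 zb39) (kb xb19 yb40 zb40) (kb xb8 yb55 zb29) (kb xb5 yb30 zb50) (kb xb8 yb54 zb5) (kb xb11 yb42 zb20) (kb xb15 yb45 zb31) (kb xb5 yb30 zb52) (kb xb19 yb40 zb48) (kb xb6 yb45 zb6) (kb xb12 yb16 zb59) (kb xb5 yb30 zb55) (kb xb9 yb18 zb29) (kb xb6 yb18 zb33) (kb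 xb12 yb15 zb45) (kb xb19 yb40 zb51) (kb xb19 yb40 zb54) (kb xb5 yb31 zb8) (kb xb5 yb30 zb61) (kb xb5 yb31 zb0) (kb xb19 yb40 zb60) (kb xb19 yb41 zb3) (kb xb11 yb1 zb11) (kb xb19 yb41 zb0) (kb xb19 yb41 zb1) (kb xb19 yb41 zb6) (kb xb16 yb39 zb17) (kb xb19 yb41 zb9) (kb xb18 yb40 zb28) (kb xb19 yb41 zb11) (kb xb19 yb41 zb13) (kb xb15 yb52 zb4) (kb xb5 yb31 zb5) (kb xb19 yb41 zb19) (kb xb5 yb31 zb6) (kb xb9 yb31 zb46) (kb xb19 yb41 zb25) (kb xb5 yb31 zb7) (kb xb19 yb40 zb56) (kb xb19 yb40 zb57) (kb xb19 yb41 zb34) (kb xb19 yb41 zb37) (kb xb16 yb0 zb22) (kb xb5 yb31 zb13) (kb xb13 yb9 zb15) (kb xb19 yb41 zb45) (kb xb5 yb31 zb16) (kb xb5 yb31 zb17) (kb xb5 yb31 zb11) (kb xb19 yb41 zb51) (kb xb5 yb31 zb12) (kb xb19 yb41 zb58)) (@D3.rec (fun _ => Pt) (kb xb19 yb42 zb0) (kb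 xb10 yb30 zb50) (kb xb19 yb41 zb44) (kb xb14 yb16 zb36) (kb xb5 yb31 zb14) (kb xb10 yb41 zb45) (kb xb19 yb42 zb2) (kb xb5 yb31 zb15) (kb xb10 yb42 zb12) (kb xb19 yb42 zb6) (kb xb17 yb45 zb34) (kb xb12 yb7 zb20) (kb xb19 yb42 zb9) (kb xb5 yb31 zb20) (kb xb19 yb42 zb11) (kb xb5 yb31 zb19) (kb xb19 yb42 zb14) (kb xb7 yb41 zb18) (kb xb15 yb36 zb9) (kb xb13 yb4 zb42) (kb xb19 yb42 zb16) (kb xb5 yb31 zb24) (kb xb5 yb31 zb25) (kb xb5 yb31 zb23) (kb xb19 yb42 zb23) (kb xb19 yb42 zb24) (kb xb19 yb42 zb27) (kb xb19 yb10 zb45) (kb xb5 yb31 zb26) (kb xb19 yb22 zb44) (kb xb16 yb41 zb30) (kb xb16 yb41 zb32) (kb xb5 yb31 zb28) (kb xb18 yb44 zb17) (kb xb19 yb42 zb33) (kb xb19 yb42 zb34) (kb xb19 yb42 zb39) (kb xb9 yb43 zb59) (kb xb18 yb44 zb24) (kb xb7 yb58 zb40) (kb xb7 yb58 zb41)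 (kb xb19 yb42 zb49) (kb xb19 yb42 zb52) (kb xb5 yb31 zb32) (kb xb19 yb42 zb56) (kb xb14 yb2 zb43) (kb xb19 yb42 zb57) (kb xb16 yb41 zb18) (kb xb5 yb31 zb35) (kb xb16 yb44 zb1) (kb xb5 yb31 zb34) (kb xb19 yb7 zb6) (kb xb19 yb4 zb16) (kb xb11 yb58 zb14) (kb xb6 yb41 zb54) (kb xb9 yb44 zb13) (kb xb19 yb43 zb1) (kb xb5 yb31 zb37) (kb xb19 yb43 zb3) (kb xb19 yb43 zb5) (kb xb16 yb46 zb5) (kb xb19 yb43 zb11)) (@D3.rec (fun _ => Pt) (kb xb18 yb1 zb58) (kb xb16 yb46 zb7) (kb xb16 yb46 zb8) (kb xb5 yb31 zb40) (kb xb19 yb43 zb17) (kb xb17 yb8 zb27) (kb xb5 yb31 zb41) (kb xb19 yb43 zb25) (kb xb19 yb43 zb24) (kb xb19 yb43 zb31) (kb xb19 yb43 zb35) (kb xb5 yb42 zb55) (kb xb5 yb42 zb56) (kb xb10 yb52 zb28) (kb xb19 yb43 zb42) (kb xb5 yb31 zb54) (kb xb19 yb15 zb46) (kb xb5 yb31 zb45)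 (kb xb19 yb43 zb48) (kb xb19 yb43 zb47) (kb xb19 yb43 zb50) (kb xb9 yb44 zb8) (kb xb5 yb37 zb31) (kb xb5 yb31 zb49) (kb xb19 yb43 zb28) (kb xb19 yb43 zb55) (kb xb11 yb12 zb45) (kb xb5 yb31 zb53) (kb xb5 yb31 zb52) (kb xb19 yb43 zb56) (kb xb19 yb43 zb45) (kb xb9 yb43 zb35) (kb xb9 yb42 zb20) (kb xb5 yb31 zb58) (kb xb19 yb44 zb0) (kb xb5 yb31 zb59) (kb xb8 yb59 zb4) (kb xb10 yb44 zb23) (kb xb5 yb31 zb61) (kb xb19 yb44 zb1) (kb xb16 yb20 zb22) (kb xb5 yb32 zb2) (kb xb17 yb49 zb20) (kb xb19 yb44 zb7) (kb xb16 yb46 zb24) (kb xb5 yb32 zb4) (kb xb5 yb32 zb5) (kb xb14 yb36 zb7) (kb xb19 yb44 zb11) (kb xb19 yb44 zb13) (kb xb9 yb42 zb52) (kb xb5 yb32 zb7) (kb xb19 yb44 zb17) (kb xb19 yb44 zb18) (kb xb19 yb44 zb16) (kb xb10 yb40 zb24) (kb xb19 yb44 zb21) (kb xb5 yb32 zb19) (kb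 xb5 yb32 zb9) (kb xb5 yb32 zb10) (kb xb19 yb44 zb29) (kb xb19 yb44 zb38)) (@D3.rec (fun _ => Pt) (kb xb19 yb44 zb40) (kb xb19 yb44 zb32) (kb xb19 yb44 zb33) (kb xb19 yb44 zb46) (kb xb19 yb44 zb48) (kb xb15 yb20 zb58) (kb xb14 yb34 zb11) (kb xb16 yb45 zb29) (kb xb19 yb44 zb55) (kb xb19 yb44 zb58) (kb xb16 yb45 zb24) (kb xb5 yb32 zb16) (kb xb19 yb45 zb1) (kb xb5 yb32 zb17) (kb xb5 yb32 zb18) (kb xb19 yb45 zb8) (kb xb19 yb44 zb24) (kb xb19 yb44 zb25) (kb xb19 yb45 zb16) (kb xb19 yb45 zb18) (kb xb13 yb34 zb14) (kb xb5 yb32 zb24) (kb xb19 yb45 zb26) (kb xb19 yb45 zb29) (kb xb5 yb32 zb27) (kb xb5 yb32 zb28) (kb xb5 yb32 zb22) (kb xb5 yb32 zb23) (kb xb19 yb45 zb39) (kb xb19 yb45 zb40) (kb xb19 yb45 zb44) (kb xb19 yb45 zb25) (kb xb13 yb37 zb0) (kb xb5 yb32 zb25) (kb xb15 yb51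 zb43) (kb xb19 yb45 zb54) (kb xb19 yb45 zb55) (kb xb5 yb32 zb26) (kb xb9 yb43 zb44) (kb xb19 yb45 zb61) (kb xb19 yb46 zb0) (kb xb19 yb46 zb3) (kb xb19 yb46 zb5) (kb xb19 yb46 zb10) (kb xb19 yb45 zb35) (kb xb19 yb46 zb14) (kb xb5 yb32 zb29) (kb xb19 yb46 zb18) (kb xb19 yb46 zb19) (kb xb5 yb32 zb32) (kb xb19 yb46 zb28) (kb xb19 yb46 zb29) (kb xb19 yb7 zb43) (kb xb16 yb41 zb22) (kb xb9 yb44 zb2) (kb xb19 yb46 zb34) (kb xb10 yb23 zb30) (kb xb5 yb32 zb35) (kb xb9 yb47 zb1) (kb xb5 yb32 zb38) (kb xb19 yb19 zb45) (kb xb19 yb19 zb46)) (@D3.rec (fun _ => Pt) (kb xb16 yb46 zb60) (kb xb14 yb20 zb16) (kb xb19 yb46 zb46) (kb xb11 yb27 zb23) (kb xb19 yb21 zb22) (kb xb19 yb46 zb48) (kb xb5 yb32 zb41) (kb xb19 yb46 zb54) (kb xb19 yb46 zb51) (kb xb5 yb32 zb42) (kb xb19 yb46 zb59) (kb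 xb19 yb46 zb61) (kb xb6 yb24 zb49) (kb xb5 yb41 zb54) (kb xb5 yb41 zb55) (kb xb19 yb47 zb2) (kb xb5 yb32 zb45) (kb xb19 yb47 zb9) (kb xb12 yb44 zb41) (kb xb19 yb47 zb7) (kb xb5 yb32 zb46) (kb xb14 yb33 zb53) (kb xb19 yb47 zb12) (kb xb19 yb47 zb13) (kb xb17 yb58 zb31) (kb xb9 yb44 zb20) (kb xb9 yb43 zb58) (kb xb11 yb41 zb55) (kb xb11 yb38 zb59) (kb xb5 yb32 zb52) (kb xb5 yb32 zb53) (kb xb19 yb47 zb22) (kb xb5 yb33 zb51) (kb xb5 yb32 zb57) (kb xb5 yb32 zb58) (kb xb19 yb47 zb28) (kb xb16 yb41 zb15) (kb xb5 yb32 zb56) (kb xb19 yb47 zb33) (kb xb19 yb47 zb34) (kb xb19 yb47 zb43) (kb xb19 yb47 zb26) (kb xb16 yb47 zb15) (kb xb19 yb47 zb27) (kb xb5 yb32 zb59) (kb xb19 yb47 zb48) (kb xb16 yb56 zb17) (kb xb9 yb13 zb9) (kb xb5 yb32 zb61) (kb xb19 yb47 zb52) (kb xb19 yb47 zb53)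 (kb xb19 yb47 zb60) (kb xb16 yb47 zb21) (kb xb15 yb4 zb17) (kb xb16 yb47 zb22) (kb xb11 yb18 zb47) (kb xb10 yb41 zb19) (kb xb19 yb18 zb43) (kb xb19 yb18 zb44) (kb xb5 yb33 zb3) (kb xb16 yb28 zb1) (kb xb19 yb48 zb13)) (@D3.rec (fun _ => Pt) (kb xb19 yb48 zb16) (kb xb19 yb48 zb21) (kb xb15 yb3 zb14) (kb xb19 yb48 zb28) (kb xb19 yb6 zb4) (kb xb15 yb3 zb17) (kb xb15 yb3 zb18) (kb xb5 yb33 zb6) (kb xb19 yb48 zb38) (kb xb19 yb48 zb36) (kb xb11 yb14 zb58) (kb xb5 yb33 zb18) (kb xb18 yb0 zb37) (kb xb19 yb48 zb42) (kb xb5 yb39 zb61) (kb xb5 yb41 zb2) (kb xb19 yb48 zb48) (kb xb10 yb48 zb11) (kb xb5 yb33 zb20) (kb xb5 yb33 zb10) (kb xb19 yb48 zb49) (kb xb19 yb48 zb50) (kb xb11 yb23 zb53) (kb xb9 yb14 zb25) (kb xb7 yb59 zb27) (kb xb12 yb55 zb17) (kb xb16 yb47 zb1) (kb xb5 yb33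 zb24) (kb xb5 yb42 zb8) (kb xb5 yb33 zb15) (kb xb10 yb48 zb1) (kb xb5 yb42 zb2) (kb xb5 yb33 zb17) (kb xb16 yb48 zb16) (kb xb19 yb49 zb0) (kb xb19 yb48 zb60) (kb xb19 yb48 zb61) (kb xb5 yb33 zb19) (kb xb19 yb49 zb4) (kb xb5 yb33 zb21) (kb xb5 yb33 zb22) (kb xb15 yb0 zb10) (kb xb16 yb48 zb19) (kb xb5 yb33 zb23) (kb xb10 yb47 zb1) (kb xb19 yb43 zb32) (kb xb5 yb33 zb27) (kb xb19 yb49 zb8) (kb xb8 yb25 zb49) (kb xb5 yb33 zb26) (kb xb19 yb49 zb14) (kb xb7 yb56 zb54) (kb xb11 yb44 zb24) (kb xb5 yb34 zb9) (kb xb16 yb45 zb31) (kb xb19 yb49 zb20) (kb xb5 yb33 zb30) (kb xb5 yb33 zb31) (kb xb5 yb33 zb29) (kb xb15 yb9 zb21) (kb xb19 yb49 zb26) (kb xb15 yb6 zb6)) (@D3.rec (fun _ => Pt) (kb xb19 yb49 zb24) (kb xb16 yb47 zb49) (kb xb14 yb50 zb24) (kb xb19 yb49 zb37) (kb xb16 yb48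 zb28) (kb xb5 yb33 zb35) (kb xb5 yb33 zb36) (kb xb19 yb49 zb42) (kb xb19 yb49 zb44) (kb xb19 yb49 zb47) (kb xb8 yb28 zb12) (kb xb8 yb28 zb13) (kb xb5 yb33 zb38) (kb xb15 yb8 zb46) (kb xb16 yb47 zb26) (kb xb5 yb33 zb39) (kb xb19 yb49 zb60) (kb xb19 yb49 zb59) (kb xb19 yb50 zb0) (kb xb13 yb50 zb33) (kb xb5 yb40 zb31) (kb xb5 yb40 zb32) (kb xb5 yb33 zb42) (kb xb19 yb50 zb10) (kb xb19 yb50 zb8) (kb xb5 yb33 zb43) (kb xb19 yb38 zb1) (kb xb19 yb26 zb61) (kb xb11 yb49 zb35) (kb xb19 yb17 zb28) (kb xb5 yb33 zb48) (kb xb5 yb33 zb49) (kb xb19 yb18 zb38) (kb xb19 yb17 zb29) (kb xb11 yb1 zb9) (kb xb18 yb45 zb20) (kb xb19 yb23 zb61) (kb xb6 yb15 zb53) (kb xb19 yb45 zb7) (kb xb11 yb28 zb17) (kb xb19 yb47 zb25) (kb xb17 yb15 zb45) (kb xb5 yb33 zb52) (kb xb15 yb27 zb54) (kb xb19 yb50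 zb28) (kb xb16 yb48 zb24) (kb xb16 yb5 zb52) (kb xb5 yb34 zb2) (kb xb5 yb34 zb3) (kb xb11 yb17 zb60) (kb xb11 yb47 zb51) (kb xb5 yb34 zb5) (kb xb5 yb34 zb6) (kb xb5 yb34 zb7) (kb xb5 yb33 zb56) (kb xb19 yb50 zb44) (kb xb11 yb58 zb53) (kb xb19 yb3 zb43) (kb xb18 yb46 zb24) (kb xb19 yb4 zb23) (kb xb5 yb33 zb59) (kb xb5 yb33 zb60))
def f_b_11 : D2 → D3 → Pt := @D2.rec (fun _ => D3 → Pt) (@D3.rec (fun _ => Pt) (kb xb5 yb33 zb61) (kb xb19 yb50 zb56) (kb xb10 yb37 zb53) (kb xb19 yb50 zb61) (kb xb18 yb45 zb36) (kb xb18 yb33 zb22) (kb xb19 yb51 zb5) (kb xb7 yb45 zb55) (kb xb19 yb50 zb53) (kb xb19 yb50 zb54) (kb xb19 yb50 zb55) (kb xb19 yb51 zb12) (kb xb16 yb48 zb12) (kb xb19 yb51 zb17) (kb xb16 yb54 zb6) (kb xb5 yb34 zb1) (kb xb14 yb22 zb4) (kb xb18 yb48 zb47) (kb xb7 yb48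 zb27) (kb xb11 yb5 zb44) (kb xb19 yb50 zb37) (kb xb17 yb31 zb33) (kb xb12 yb54 zb19) (kb xb12 yb7 zb60) (kb xb19 yb50 zb43) (kb xb5 yb34 zb42) (kb xb10 yb19 zb23) (kb xb19 yb49 zb18) (kb xb11 yb41 zb53) (kb xb5 yb34 zb10) (kb xb19 yb51 zb30) (kb xb19 yb51 zb31) (kb xb17 yb18 zb56) (kb xb5 yb34 zb17) (kb xb15 yb45 zb33) (kb xb11 yb39 zb60) (kb xb5 yb34 zb19) (kb xb5 yb34 zb20) (kb xb5 yb34 zb14) (kb xb5 yb34 zb15) (kb xb19 yb51 zb42) (kb xb19 yb51 zb41) (kb xb7 yb36 zb50) (kb xb7 yb43 zb32) (kb xb19 yb18 zb58) (kb xb5 yb34 zb16) (kb xb14 yb41 zb42) (kb xb14 yb41 zb43) (kb xb16 yb48 zb35) (kb xb19 yb27 zb34) (kb xb17 yb4 zb41) (kb xb16 yb48 zb37) (kb xb5 yb34 zb21) (kb xb19 yb51 zb49) (kb xb19 yb51 zb50) (kb xb11 yb48 zb5) (kb xb19 yb51 zb56) (kb xb11 yb48 zb38) (kb xb12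 yb9 zb55) (kb xb16 yb26 zb13) (kb xb16 yb55 zb2) (kb xb5 yb34 zb24)) (@D3.rec (fun _ => Pt) (kb xb19 yb51 zb60) (kb xb17 yb21 zb20) (kb xb5 yb34 zb26) (kb xb19 yb52 zb2) (kb xb5 yb34 zb27) (kb xb12 yb10 zb61) (kb xb19 yb52 zb7) (kb xb11 yb32 zb56) (kb xb16 yb56 zb13) (kb xb10 yb59 zb34) (kb xb19 yb52 zb11) (kb xb10 yb53 zb32) (kb xb10 yb39 zb29) (kb xb19 yb52 zb18) (kb xb19 yb52 zb21) (kb xb16 yb55 zb37) (kb xb16 yb55 zb34) (kb xb5 yb34 zb31) (kb xb19 yb52 zb32) (kb xb9 yb30 zb12) (kb xb19 yb52 zb30) (kb xb10 yb21 zb28) (kb xb11 yb48 zb27) (kb xb5 yb34 zb34) (kb xb19 yb52 zb42) (kb xb19 yb52 zb40) (kb xb19 yb52 zb41) (kb xb5 yb34 zb35) (kb xb19 yb52 zb47) (kb xb19 yb52 zb46) (kb xb19 yb40 zb36) (kb xb17 yb5 zb51) (kb xb13 yb1 zb41) (kb xb19 yb52 zb51) (kb xb19 yb47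 zb61) (kb xb19 yb52 zb52) (kb xb16 yb28 zb31) (kb xb5 yb40 zb9) (kb xb19 yb48 zb22) (kb xb14 yb59 zb46) (kb xb19 yb52 zb58) (kb xb5 yb38 zb16) (kb xb5 yb38 zb17) (kb xb16 yb56 zb29) (kb xb5 yb34 zb44) (kb xb16 yb47 zb48) (kb xb16 yb44 zb27) (kb xb11 yb48 zb21) (kb xb11 yb43 zb53) (kb xb9 yb20 zb6) (kb xb5 yb34 zb47) (kb xb19 yb53 zb8) (kb xb7 yb44 zb22) (kb xb19 yb52 zb35) (kb xb19 yb53 zb7) (kb xb5 yb45 zb39) (kb xb19 yb52 zb28) (kb xb9 yb13 zb2) (kb xb17 yb9 zb11) (kb xb5 yb34 zb50) (kb xb10 yb18 zb21) (kb xb11 yb43 zb55)) (@D3.rec (fun _ => Pt) (kb xb19 yb53 zb15) (kb xb15 yb3 zb46) (kb xb5 yb34 zb52) (kb xb5 yb34 zb53) (kb xb19 yb53 zb19) (kb xb19 yb53 zb20) (kb xb8 yb9 zb23) (kb xb5 yb34 zb55) (kb xb5 yb34 zb56) (kb xb17 yb16 zb36) (kb xb19 yb53 zb23) (kb xb5 yb34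 zb57) (kb xb5 yb34 zb59) (kb xb19 yb53 zb25) (kb xb5 yb34 zb60) (kb xb19 yb53 zb26) (kb xb19 yb53 zb27) (kb xb16 yb10 zb24) (kb xb19 yb53 zb34) (kb xb5 yb35 zb2) (kb xb19 yb53 zb35) (kb xb5 yb35 zb3) (kb xb5 yb35 zb4) (kb xb5 yb35 zb5) (kb xb11 yb58 zb56) (kb xb19 yb53 zb38) (kb xb18 yb17 zb51) (kb xb19 yb53 zb46) (kb xb5 yb35 zb9) (kb xb19 yb53 zb48) (kb xb5 yb35 zb10) (kb xb8 yb14 zb5) (kb xb17 yb35 zb52) (kb xb5 yb35 zb12) (kb xb19 yb53 zb53) (kb xb18 yb44 zb5) (kb xb19 yb53 zb57) (kb xb16 yb49 zb52) (kb xb5 yb35 zb16) (kb xb14 yb20 zb49) (kb xb19 yb54 zb2) (kb xb8 yb38 zb0) (kb xb19 yb54 zb6) (kb xb8 yb28 zb36) (kb xb8 yb28 zb37) (kb xb14 yb47 zb47) (kb xb19 yb54 zb12) (kb xb5 yb35 zb46) (kb xb5 yb35 zb19) (kb xb7 yb18 zb5) (kb xb14 yb47 zb1) (kb xb7 yb10 zb61)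 (kb xb7 yb51 zb26) (kb xb19 yb54 zb23) (kb xb14 yb51 zb30) (kb xb15 yb35 zb4) (kb xb15 yb1 zb24) (kb xb17 yb48 zb54) (kb xb5 yb35 zb30) (kb xb19 yb54 zb27) (kb xb14 yb0 zb47) (kb xb16 yb50 zb6)) (@D3.rec (fun _ => Pt) (kb xb5 yb35 zb26) (kb xb5 yb35 zb27) (kb xb19 yb54 zb31) (kb xb19 yb54 zb40) (kb xb19 yb54 zb42) (kb xb19 yb54 zb34) (kb xb19 yb54 zb35) (kb xb19 yb54 zb47) (kb xb15 yb22 zb18) (kb xb11 yb8 zb37) (kb xb19 yb32 zb25) (kb xb5 yb35 zb31) (kb xb19 yb54 zb54) (kb xb11 yb57 zb28) (kb xb5 yb35 zb37) (kb xb19 yb54 zb58) (kb xb16 yb50 zb55) (kb xb16 yb49 zb58) (kb xb5 yb35 zb34) (kb xb5 yb35 zb35) (kb xb19 yb55 zb5) (kb xb7 yb46 zb23) (kb xb19 yb55 zb8) (kb xb19 yb55 zb9) (kb xb19 yb55 zb19) (kb xb19 yb55 zb21) (kb xb14 yb9 zb2) (kb xb16 yb50 zb25) (kb xb8 yb20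 zb23) (kb xb5 yb35 zb39) (kb xb5 yb35 zb40) (kb xb19 yb55 zb36) (kb xb19 yb55 zb38) (kb xb19 yb55 zb39) (kb xb19 yb55 zb47) (kb xb19 yb15 zb12) (kb xb16 yb50 zb18) (kb xb5 yb35 zb42) (kb xb5 yb35 zb43) (kb xb19 yb55 zb56) (kb xb19 yb55 zb58) (kb xb10 yb52 zb20) (kb xb19 yb15 zb18) (kb xb19 yb15 zb19) (kb xb5 yb35 zb45) (kb xb19 yb56 zb8) (kb xb19 yb56 zb9) (kb xb7 yb23 zb55) (kb xb19 yb49 zb38) (kb xb5 yb35 zb52) (kb xb13 yb22 zb11) (kb xb14 yb47 zb17) (kb xb5 yb35 zb55) (kb xb5 yb35 zb49) (kb xb19 yb56 zb22) (kb xb5 yb35 zb50) (kb xb8 yb39 zb0) (kb xb5 yb35 zb51) (kb xb13 yb59 zb51) (kb xb14 yb8 zb53) (kb xb19 yb56 zb32) (kb xb7 yb23 zb50)) (@D3.rec (fun _ => Pt) (kb xb19 yb56 zb18) (kb xb5 yb35 zb53) (kb xb19 yb56 zb35) (kb xb5 yb35 zb54) (kb xb14 yb29 zb27) (kb xb14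 yb37 zb47) (kb xb14 yb8 zb57) (kb xb19 yb56 zb39) (kb xb14 yb28 zb15) (kb xb17 yb2 zb17) (kb xb19 yb56 zb44) (kb xb5 yb35 zb59) (kb xb19 yb56 zb45) (kb xb5 yb35 zb58) (kb xb19 yb56 zb47) (kb xb5 yb36 zb0) (kb xb5 yb35 zb61) (kb xb19 yb56 zb53) (kb xb19 yb56 zb54) (kb xb5 yb36 zb59) (kb xb19 yb56 zb51) (kb xb5 yb36 zb1) (kb xb19 yb56 zb58) (kb xb19 yb56 zb57) (kb xb5 yb36 zb2) (kb xb19 yb56 zb60) (kb xb19 yb56 zb61) (kb xb19 yb57 zb1) (kb xb11 yb32 zb30) (kb xb9 yb7 zb6) (kb xb5 yb36 zb7) (kb xb5 yb36 zb6) (kb xb19 yb57 zb8) (kb xb19 yb57 zb9) (kb xb15 yb11 zb22) (kb xb5 yb36 zb10) (kb xb19 yb57 zb18) (kb xb19 yb57 zb20) (kb xb19 yb57 zb22) (kb xb15 yb33 zb59) (kb xb5 yb36 zb14) (kb xb10 yb2 zb18) (kb xb19 yb57 zb28) (kb xb19 yb57 zb31) (kb xb12 yb56 zb17) (kb xb17 yb56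 zb50) (kb xb5 yb36 zb15) (kb xb19 yb57 zb35) (kb xb19 yb57 zb34) (kb xb19 yb56 zb50) (kb xb5 yb36 zb16) (kb xb11 yb19 zb50) (kb xb19 yb57 zb38) (kb xb5 yb36 zb18) (kb xb5 yb36 zb19) (kb xb19 yb57 zb40) (kb xb12 yb49 zb41) (kb xb5 yb36 zb22) (kb xb19 yb57 zb43) (kb xb5 yb36 zb23) (kb xb19 yb57 zb45) (kb xb19 yb32 zb24)) (@D3.rec (fun _ => Pt) (kb xb5 yb36 zb28) (kb xb19 yb57 zb49) (kb xb19 yb57 zb50) (kb xb15 yb22 zb19) (kb xb11 yb57 zb29) (kb xb5 yb36 zb30) (kb xb19 yb57 zb58) (kb xb19 yb57 zb60) (kb xb19 yb57 zb61) (kb xb19 yb44 zb15) (kb xb5 yb36 zb32) (kb xb5 yb36 zb33) (kb xb19 yb58 zb4) (kb xb19 yb58 zb13) (kb xb19 yb58 zb15) (kb xb19 yb58 zb7) (kb xb19 yb58 zb8) (kb xb19 yb58 zb22) (kb xb5 yb36 zb35) (kb xb19 yb58 zb24) (kb xb5 yb36 zb37) (kb xb19 yb58 zb27) (kb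 xb5 yb36 zb38) (kb xb19 yb55 zb29) (kb xb19 yb58 zb29) (kb xb10 yb49 zb2) (kb xb19 yb58 zb34) (kb xb19 yb58 zb36) (kb xb5 yb36 zb42) (kb xb5 yb36 zb43) (kb xb5 yb36 zb41) (kb xb12 yb4 zb19) (kb xb11 yb22 zb29) (kb xb19 yb58 zb41) (kb xb19 yb32 zb42) (kb xb16 yb49 zb25) (kb xb5 yb36 zb47) (kb xb5 yb36 zb48) (kb xb19 yb58 zb47) (kb xb16 yb50 zb5) (kb xb5 yb36 zb46) (kb xb19 yb58 zb50) (kb xb19 yb58 zb51) (kb xb19 yb59 zb0) (kb xb11 yb0 zb19) (kb xb16 yb49 zb23) (kb xb16 yb52 zb46) (kb xb19 yb58 zb46) (kb xb5 yb36 zb51) (kb xb5 yb36 zb52) (kb xb5 yb36 zb50) (kb xb19 yb59 zb6) (kb xb19 yb59 zb7) (kb xb19 yb59 zb14) (kb xb9 yb13 zb59) (kb xb16 yb49 zb30) (kb xb18 yb39 zb43) (kb xb16 yb57 zb16) (kb xb5 yb52 zb33) (kb xb19 yb59 zb19) (kb xb19 yb59 zb21) (kb xb16 yb49 zb34))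 (@D3.rec (fun _ => Pt) (kb xb19 yb59 zb24) (kb xb16 yb58 zb61) (kb xb16 yb59 zb0) (kb xb19 yb59 zb31) (kb xb18 yb52 zb58) (kb xb5 yb36 zb60) (kb xb11 yb8 zb14) (kb xb5 yb37 zb0) (kb xb9 yb17 zb28) (kb xb5 yb37 zb5) (kb xb5 yb37 zb6) (kb xb12 yb8 zb21) (kb xb5 yb37 zb10) (kb xb16 yb19 zb16) (kb xb19 yb59 zb41) (kb xb19 yb59 zb44) (kb xb17 yb39 zb42) (kb xb16 yb24 zb27) (kb xb5 yb46 zb44) (kb xb11 yb14 zb30) (kb xb19 yb32 zb34) (kb xb19 yb32 zb35) (kb xb15 yb5 zb32) (kb xb11 yb14 zb57) (kb xb5 yb37 zb17) (kb xb5 yb37 zb16) (kb xb19 yb59 zb54) (kb xb16 yb6 zb45) (kb xb16 yb7 zb26) (kb xb19 yb32 zb17) (kb xb9 yb17 zb14) (kb xb19 yb59 zb60) (kb xb5 yb37 zb25) (kb xb5 yb37 zb23) (kb xb10 yb17 zb59) (kb xb20 yb0 zb0) (kb xb15 yb4 zb15) (kb xb14 yb7 zb31) (kb xb11 yb12 zb0)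 (kb xb19 yb43 zb54) (kb xb20 yb0 zb2) (kb xb5 yb37 zb35) (kb xb5 yb37 zb33) (kb xb9 yb5 zb29) (kb xb12 yb8 zb52) (kb xb12 yb8 zb53) (kb xb15 yb7 zb15) (kb xb9 yb45 zb23) (kb xb5 yb46 zb37) (kb xb5 yb37 zb42) (kb xb5 yb46 zb40) (kb xb20 yb0 zb9) (kb xb8 yb43 zb61) (kb xb6 yb12 zb13) (kb xb9 yb45 zb39) (kb xb5 yb37 zb45) (kb xb19 yb48 zb4) (kb xb20 yb0 zb13) (kb xb20 yb0 zb16) (kb xb20 yb0 zb19) (kb xb5 yb37 zb49) (kb xb5 yb37 zb47)) (@D3.rec (fun _ => Pt) (kb xb16 yb31 zb3) (kb xb5 yb44 zb30) (kb xb5 yb47 zb9) (kb xb9 yb45 zb15) (kb xb11 yb57 zb34) (kb xb5 yb47 zb10) (kb xb5 yb37 zb59) (kb xb6 yb7 zb59) (kb xb12 yb9 zb26) (kb xb20 yb0 zb28) (kb xb20 yb0 zb31) (kb xb5 yb37 zb58) (kb xb13 yb15 zb29) (kb xb7 yb12 zb42) (kb xb11 yb12 zb24) (kb xb20 yb0 zb25) (kb xb5 yb49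 zb18) (kb xb11 yb11 zb25) (kb xb5 yb38 zb3) (kb xb5 yb41 zb48) (kb xb5 yb38 zb2) (kb xb20 yb0 zb45) (kb xb20 yb0 zb46) (kb xb20 yb0 zb40) (kb xb5 yb38 zb4) (kb xb19 yb47 zb54) (kb xb17 yb55 zb33) (kb xb20 yb0 zb53) (kb xb5 yb38 zb6) (kb xb5 yb38 zb7) (kb xb9 yb51 zb21) (kb xb16 yb21 zb40) (kb xb5 yb38 zb10) (kb xb15 yb6 zb7) (kb xb5 yb38 zb9) (kb xb20 yb0 zb61) (kb xb20 yb1 zb0) (kb xb10 yb48 zb59) (kb xb20 yb0 zb58) (kb xb11 yb34 zb17) (kb xb5 yb38 zb13) (kb xb5 yb38 zb12) (kb xb20 yb1 zb12) (kb xb20 yb1 zb13) (kb xb5 yb38 zb14) (kb xb20 yb1 zb16) (kb xb20 yb1 zb17) (kb xb14 yb59 zb48) (kb xb14 yb59 zb49) (kb xb20 yb1 zb22) (kb xb14 yb59 zb52) (kb xb20 yb1 zb25) (kb xb19 yb53 zb0) (kb xb19 yb53 zb1) (kb xb5 yb38 zb18) (kb xb8 yb47 zb7) (kb xb20 yb1 zb29) (kb xb20 yb1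 zb30) (kb xb5 yb38 zb19) (kb xb20 yb1 zb36) (kb xb20 yb1 zb34) (kb xb20 yb1 zb35)) (@D3.rec (fun _ => Pt) (kb xb20 yb0 zb36) (kb xb12 yb9 zb54) (kb xb5 yb38 zb23) (kb xb6 yb3 zb25) (kb xb20 yb1 zb42) (kb xb5 yb38 zb34) (kb xb15 yb26 zb31) (kb xb12 yb9 zb60) (kb xb5 yb38 zb26) (kb xb20 yb1 zb44) (kb xb20 yb1 zb46) (kb xb20 yb1 zb47) (kb xb5 yb38 zb27) (kb xb20 yb1 zb49) (kb xb11 yb6 zb6) (kb xb5 yb38 zb40) (kb xb5 yb38 zb30) (kb xb5 yb38 zb31) (kb xb9 yb12 zb14) (kb xb15 yb4 zb23) (kb xb16 yb19 zb54) (kb xb11 yb51 zb53) (kb xb6 yb9 zb15) (kb xb13 yb31 zb8) (kb xb5 yb38 zb42) (kb xb20 yb1 zb59) (kb xb7 yb14 zb30) (kb xb6 yb39 zb37) (kb xb20 yb2 zb1) (kb xb12 yb54 zb44) (kb xb9 yb13 zb45) (kb xb20 yb2 zb5) (kb xb12 yb49 zb15) (kb xb5 yb38 zb50) (kb xb17 yb56 zb33) (kb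 xb6 yb46 zb23) (kb xb5 yb38 zb49) (kb xb11 yb3 zb9) (kb xb15 yb6 zb43) (kb xb20 yb2 zb10) (kb xb20 yb2 zb12) (kb xb15 yb22 zb23) (kb xb5 yb38 zb55) (kb xb20 yb2 zb19) (kb xb20 yb2 zb21) (kb xb20 yb2 zb17) (kb xb20 yb2 zb18) (kb xb15 yb34 zb55) (kb xb15 yb1 zb25) (kb xb5 yb38 zb61) (kb xb15 yb22 zb12) (kb xb5 yb38 zb59) (kb xb20 yb2 zb35) (kb xb20 yb2 zb37) (kb xb20 yb2 zb33) (kb xb20 yb2 zb34) (kb xb20 yb2 zb42) (kb xb16 yb50 zb15) (kb xb20 yb2 zb44) (kb xb19 yb38 zb30) (kb xb15 yb17 zb55) (kb xb5 yb39 zb1)) (@D3.rec (fun _ => Pt) (kb xb20 yb2 zb50) (kb xb20 yb2 zb51) (kb xb20 yb2 zb56) (kb xb20 yb2 zb58) (kb xb15 yb17 zb45) (kb xb5 yb39 zb3) (kb xb20 yb3 zb1) (kb xb20 yb3 zb2) (kb xb5 yb39 zb4) (kb xb10 yb49 zb27) (kb xb20 yb3 zb7) (kb xb5 yb39 zb5) (kb xb20 yb3 zb14)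 (kb xb15 yb23 zb1) (kb xb20 yb3 zb20) (kb xb20 yb3 zb23) (kb xb5 yb39 zb11) (kb xb5 yb39 zb8) (kb xb20 yb3 zb27) (kb xb20 yb3 zb28) (kb xb5 yb39 zb9) (kb xb20 yb3 zb35) (kb xb19 yb38 zb23) (kb xb14 yb30 zb19) (kb xb19 yb40 zb7) (kb xb19 yb24 zb58) (kb xb20 yb3 zb44) (kb xb5 yb39 zb14) (kb xb5 yb39 zb13) (kb xb20 yb3 zb47) (kb xb20 yb3 zb48) (kb xb5 yb39 zb16) (kb xb20 yb3 zb55) (kb xb20 yb3 zb58) (kb xb19 yb35 zb50) (kb xb5 yb39 zb18) (kb xb20 yb3 zb61) (kb xb19 yb20 zb37) (kb xb20 yb4 zb2) (kb xb20 yb4 zb4) (kb xb5 yb39 zb19) (kb xb20 yb4 zb8) (kb xb6 yb42 zb32) (kb xb20 yb4 zb11) (kb xb20 yb4 zb12) (kb xb15 yb23 zb28) (kb xb5 yb39 zb22) (kb xb20 yb4 zb15) (kb xb5 yb39 zb25) (kb xb5 yb39 zb26) (kb xb20 yb4 zb20) (kb xb15 yb22 zb22) (kb xb5 yb39 zb24) (kb xb20 yb4 zb22)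 (kb xb20 yb4 zb23) (kb xb8 yb45 zb56) (kb xb6 yb32 zb25) (kb xb11 yb57 zb24) (kb xb6 yb32 zb26) (kb xb20 yb4 zb19) (kb xb16 yb50 zb52) (kb xb16 yb43 zb7)) (@D3.rec (fun _ => Pt) (kb xb17 yb43 zb6) (kb xb5 yb39 zb29) (kb xb5 yb39 zb30) (kb xb8 yb7 zb28) (kb xb17 yb43 zb7) (kb xb20 yb4 zb45) (kb xb20 yb4 zb37) (kb xb16 yb51 zb1) (kb xb20 yb4 zb39) (kb xb20 yb4 zb40) (kb xb20 yb4 zb51) (kb xb17 yb31 zb54) (kb xb16 yb43 zb31) (kb xb16 yb51 zb4) (kb xb5 yb39 zb32) (kb xb20 yb4 zb55) (kb xb19 yb50 zb11) (kb xb17 yb32 zb14) (kb xb5 yb39 zb33) (kb xb19 yb38 zb5) (kb xb20 yb5 zb0) (kb xb20 yb5 zb2) (kb xb5 yb39 zb38) (kb xb5 yb39 zb36) (kb xb17 yb10 zb7) (kb xb5 yb39 zb37) (kb xb20 yb5 zb5) (kb xb20 yb5 zb6) (kb xb20 yb5 zb8) (kb xb15 yb24 zb44) (kb xb19 yb38 zb7) (kb xb5 yb39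 zb41) (kb xb15 yb29 zb36) (kb xb20 yb5 zb13) (kb xb16 yb22 zb9) (kb xb20 yb5 zb21) (kb xb6 yb47 zb31) (kb xb5 yb39 zb44) (kb xb5 yb39 zb45) (kb xb20 yb5 zb27) (kb xb17 yb8 zb14) (kb xb20 yb5 zb26) (kb xb6 yb28 zb48) (kb xb6 yb21 zb43) (kb xb5 yb39 zb50) (kb xb20 yb5 zb22) (kb xb6 yb29 zb50) (kb xb12 yb11 zb17) (kb xb9 yb45 zb35) (kb xb20 yb5 zb32) (kb xb5 yb39 zb60) (kb xb5 yb39 zb59) (kb xb20 yb5 zb36) (kb xb11 yb11 zb38) (kb xb13 yb1 zb57) (kb xb11 yb37 zb30) (kb xb20 yb5 zb40) (kb xb5 yb40 zb3) (kb xb5 yb40 zb2) (kb xb13 yb23 zb21) (kb xb5 yb40 zb6) (kb xb5 yb40 zb5)) (@D3.rec (fun _ => Pt) (kb xb20 yb5 zb45) (kb xb5 yb40 zb7) (kb xb20 yb5 zb47) (kb xb5 yb40 zb8) (kb xb20 yb5 zb51) (kb xb19 yb52 zb56) (kb xb13 yb6 zb24) (kb xb17 yb59 zb13) (kb xb11 yb28 zb8) (kb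 xb9 yb5 zb46) (kb xb5 yb40 zb11) (kb xb6 yb40 zb28) (kb xb20 yb5 zb52) (kb xb5 yb40 zb12) (kb xb6 yb49 zb3) (kb xb5 yb40 zb15) (kb xb20 yb5 zb54) (kb xb11 yb14 zb19) (kb xb9 yb2 zb23) (kb xb9 yb2 zb25) (kb xb5 yb40 zb21) (kb xb19 yb56 zb14) (kb xb17 yb54 zb55) (kb xb20 yb5 zb57) (kb xb5 yb40 zb53) (kb xb11 yb7 zb17) (kb xb5 yb40 zb25) (kb xb20 yb5 zb61) (kb xb5 yb40 zb24) (kb xb20 yb6 zb3) (kb xb20 yb6 zb4) (kb xb5 yb40 zb39) (kb xb20 yb5 zb60) (kb xb20 yb6 zb11) (kb xb5 yb40 zb28) (kb xb5 yb40 zb27) (kb xb20 yb6 zb18) (kb xb20 yb6 zb19) (kb xb11 yb10 zb53) (kb xb20 yb6 zb14) (kb xb5 yb40 zb29) (kb xb20 yb6 zb24) (kb xb20 yb6 zb25) (kb xb5 yb40 zb30) (kb xb8 yb47 zb57) (kb xb6 yb13 zb52) (kb xb20 yb6 zb30) (kb xb19 yb50 zb4) (kb xb19 yb50 zb7) (kb xb5 yb40 zb33) (kb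 xb20 yb6 zb34) (kb xb5 yb40 zb34) (kb xb17 yb0 zb21) (kb xb20 yb6 zb37) (kb xb20 yb6 zb39) (kb xb19 yb33 zb8) (kb xb19 yb33 zb9) (kb xb20 yb6 zb43) (kb xb13 yb2 zb14) (kb xb5 yb40 zb40) (kb xb6 yb46 zb55) (kb xb18 yb1 zb29)) (@D3.rec (fun _ => Pt) (kb xb11 yb6 zb38) (kb xb20 yb6 zb44) (kb xb20 yb6 zb45) (kb xb5 yb40 zb45) (kb xb5 yb40 zb44) (kb xb17 yb56 zb46) (kb xb20 yb6 zb33) (kb xb7 yb50 zb3) (kb xb5 yb40 zb49) (kb xb5 yb40 zb48) (kb xb20 yb6 zb38) (kb xb19 yb39 zb29) (kb xb5 yb40 zb50) (kb xb12 yb27 zb37) (kb xb12 yb36 zb20) (kb xb5 yb40 zb51) (kb xb12 yb45 zb38) (kb xb20 yb6 zb52) (kb xb20 yb6 zb54) (kb xb5 yb40 zb52) (kb xb16 yb51 zb38) (kb xb5 yb40 zb56) (kb xb5 yb40 zb55) (kb xb16 yb31 zb29) (kb xb11 yb7 zb14) (kb xb20 yb6 zb57) (kb xb5 yb40 zb57) (kb xb20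 yb7 zb2) (kb xb20 yb7 zb3) (kb xb20 yb7 zb4) (kb xb16 yb47 zb51) (kb xb17 yb55 zb15) (kb xb17 yb55 zb13) (kb xb20 yb7 zb5) (kb xb16 yb51 zb54) (kb xb5 yb41 zb1) (kb xb20 yb7 zb11) (kb xb8 yb25 zb36) (kb xb12 yb34 zb39) (kb xb19 yb48 zb47) (kb xb5 yb41 zb3) (kb xb5 yb41 zb4) (kb xb5 yb41 zb14) (kb xb17 yb55 zb17) (kb xb16 yb51 zb51) (kb xb10 yb55 zb26) (kb xb20 yb7 zb13) (kb xb5 yb41 zb11) (kb xb5 yb41 zb10) (kb xb20 yb7 zb15) (kb xb5 yb41 zb12) (kb xb5 yb44 zb10) (kb xb5 yb41 zb24) (kb xb5 yb41 zb25) (kb xb15 yb7 zb6) (kb xb15 yb26 zb25) (kb xb15 yb7 zb14) (kb xb16 yb39 zb57) (kb xb5 yb56 zb24) (kb xb16 yb55 zb7) (kb xb8 yb48 zb34) (kb xb8 yb48 zb35)) (@D3.rec (fun _ => Pt) (kb xb16 yb51 zb59) (kb xb20 yb7 zb19) (kb xb20 yb7 zb20) (kb xb20 yb7 zb39) (kb xb13 yb29 zb23)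 (kb xb20 yb7 zb43) (kb xb5 yb41 zb30) (kb xb20 yb7 zb45) (kb xb16 yb20 zb19) (kb xb5 yb41 zb29) (kb xb20 yb7 zb48) (kb xb20 yb7 zb49) (kb xb5 yb41 zb32) (kb xb20 yb7 zb50) (kb xb18 yb39 zb19) (kb xb5 yb41 zb33) (kb xb20 yb7 zb53) (kb xb17 yb0 zb26) (kb xb16 yb53 zb47) (kb xb8 yb50 zb8) (kb xb16 yb52 zb6) (kb xb9 yb45 zb19) (kb xb8 yb44 zb59) (kb xb16 yb20 zb61) (kb xb11 yb15 zb14) (kb xb8 yb49 zb30) (kb xb5 yb41 zb39) (kb xb19 yb0 zb30) (kb xb17 yb15 zb28) (kb xb5 yb41 zb40) (kb xb20 yb8 zb7) (kb xb18 yb41 zb7) (kb xb19 yb1 zb39) (kb xb12 yb7 zb15) (kb xb20 yb8 zb14) (kb xb5 yb41 zb42) (kb xb20 yb8 zb20) (kb xb20 yb8 zb21) (kb xb18 yb59 zb34) (kb xb8 yb44 zb2) (kb xb8 yb44 zb3) (kb xb8 yb44 zb15) (kb xb18 yb46 zb11) (kb xb20 yb8 zb27) (kb xb5 yb41 zb47) (kb xb11 yb59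 zb34) (kb xb15 yb0 zb28) (kb xb5 yb42 zb5) (kb xb20 yb0 zb42) (kb xb20 yb8 zb31) (kb xb5 yb41 zb51) (kb xb5 yb41 zb50) (kb xb16 yb30 zb5) (kb xb16 yb30 zb18) (kb xb16 yb52 zb10) (kb xb12 yb9 zb53) (kb xb20 yb8 zb35) (kb xb5 yb41 zb52) (kb xb20 yb8 zb43) (kb xb20 yb8 zb44) (kb xb5 yb41 zb53) (kb xb20 yb8 zb50)) (@D3.rec (fun _ => Pt) (kb xb16 yb24 zb53) (kb xb11 yb37 zb55) (kb xb13 yb33 zb14) (kb xb20 yb8 zb55) (kb xb13 yb35 zb45) (kb xb5 yb56 zb5) (kb xb20 yb8 zb61) (kb xb13 yb45 zb15) (kb xb11 yb27 zb21) (kb xb8 yb50 zb7) (kb xb5 yb41 zb57) (kb xb16 yb29 zb15) (kb xb16 yb57 zb9) (kb xb20 yb9 zb8) (kb xb8 yb49 zb40) (kb xb20 yb9 zb12) (kb xb5 yb42 zb20) (kb xb5 yb42 zb41) (kb xb11 yb20 zb45) (kb xb11 yb11 zb17) (kb xb5 yb42 zb0) (kb xb20 yb9 zb19) (kb xb5 yb42 zb26)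 (kb xb19 yb25 zb44) (kb xb12 yb9 zb21) (kb xb5 yb42 zb6) (kb xb5 yb42 zb4) (kb xb12 yb24 zb11) (kb xb20 yb9 zb28) (kb xb20 yb9 zb29) (kb xb11 yb6 zb19) (kb xb15 yb49 zb21) (kb xb19 yb48 zb57) (kb xb14 yb4 zb49) (kb xb8 yb49 zb61) (kb xb5 yb42 zb11) (kb xb5 yb42 zb10) (kb xb6 yb1 zb60) (kb xb5 yb42 zb13) (kb xb20 yb9 zb6) (kb xb20 yb9 zb36) (kb xb8 yb50 zb5) (kb xb16 yb52 zb27) (kb xb17 yb7 zb33) (kb xb5 yb42 zb15) (kb xb5 yb42 zb16) (kb xb13 yb54 zb15) (kb xb20 yb9 zb47) (kb xb11 yb27 zb52) (kb xb5 yb42 zb18) (kb xb20 yb9 zb50) (kb xb20 yb9 zb51) (kb xb20 yb9 zb53) (kb xb5 yb42 zb19) (kb xb20 yb0 zb17) (kb xb5 yb42 zb22) (kb xb20 yb8 zb33) (kb xb11 yb6 zb23) (kb xb10 yb58 zb10) (kb xb20 yb9 zb59) (kb xb11 yb19 zb7) (kb xb5 yb42 zb24)) (@D3.rec (fun _ => Pt) (kb xb5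 yb42 zb25) (kb xb11 yb19 zb1) (kb xb17 yb58 zb4) (kb xb5 yb42 zb57) (kb xb11 yb17 zb31) (kb xb16 yb21 zb55) (kb xb20 yb10 zb2) (kb xb9 yb3 zb44) (kb xb11 yb44 zb12) (kb xb5 yb42 zb28) (kb xb20 yb10 zb9) (kb xb20 yb10 zb10) (kb xb5 yb42 zb33) (kb xb20 yb10 zb18) (kb xb11 yb13 zb24) (kb xb5 yb42 zb32) (kb xb7 yb34 zb42) (kb xb7 yb3 zb25) (kb xb20 yb4 zb49) (kb xb18 yb12 zb58) (kb xb5 yb42 zb35) (kb xb20 yb10 zb27) (kb xb20 yb10 zb28) (kb xb11 yb17 zb30) (kb xb11 yb24 zb2) (kb xb12 yb10 zb0) (kb xb16 yb52 zb56) (kb xb20 yb10 zb34) (kb xb5 yb42 zb40) (kb xb9 yb45 zb14) (kb xb20 yb10 zb40) (kb xb20 yb10 zb36) (kb xb20 yb10 zb44) (kb xb20 yb9 zb15) (kb xb5 yb42 zb42) (kb xb20 yb10 zb52) (kb xb20 yb10 zb50) (kb xb20 yb10 zb58) (kb xb12 yb9 zb12) (kb xb20 yb11 zb0) (kb xb20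 yb11 zb3) (kb xb5 yb42 zb44) (kb xb20 yb11 zb9) (kb xb20 yb11 zb10) (kb xb7 yb13 zb56) (kb xb20 yb11 zb17) (kb xb9 yb45 zb9) (kb xb10 yb5 zb24) (kb xb20 yb11 zb20) (kb xb20 yb11 zb22) (kb xb5 yb42 zb48) (kb xb20 yb11 zb27) (kb xb20 yb11 zb28) (kb xb16 yb53 zb8) (kb xb6 yb12 zb17) (kb xb5 yb42 zb51) (kb xb20 yb11 zb41) (kb xb14 yb42 zb54) (kb xb17 yb12 zb13) (kb xb5 yb42 zb53) (kb xb20 yb11 zb48) (kb xb9 yb26 zb53)) (@D3.rec (fun _ => Pt) (kb xb5 yb42 zb54) (kb xb20 yb11 zb54) (kb xb20 yb11 zb55) (kb xb17 yb11 zb32) (kb xb20 yb11 zb59) (kb xb20 yb11 zb61) (kb xb19 yb43 zb39) (kb xb15 yb55 zb52) (kb xb12 yb55 zb25) (kb xb19 yb43 zb40) (kb xb20 yb12 zb7) (kb xb5 yb42 zb58) (kb xb20 yb12 zb9) (kb xb19 yb49 zb55) (kb xb9 yb13 zb11) (kb xb20 yb12 zb13) (kb xb20 yb12 zb17)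 (kb xb5 yb43 zb6) (kb xb11 yb37 zb31) (kb xb6 yb33 zb20) (kb xb16 yb7 zb30) (kb xb5 yb43 zb1) (kb xb11 yb17 zb33) (kb xb16 yb53 zb30) (kb xb19 yb48 zb41) (kb xb19 yb49 zb3) (kb xb5 yb43 zb4) (kb xb20 yb12 zb26) (kb xb5 yb43 zb5) (kb xb16 yb54 zb16) (kb xb16 yb53 zb35) (kb xb14 yb4 zb47) (kb xb5 yb43 zb10) (kb xb20 yb12 zb31) (kb xb20 yb7 zb18) (kb xb14 yb8 zb17) (kb xb5 yb57 zb2) (kb xb16 yb53 zb40) (kb xb20 yb12 zb38) (kb xb5 yb43 zb15) (kb xb20 yb8 zb42) (kb xb5 yb43 zb14) (kb xb17 yb41 zb56) (kb xb20 yb12 zb41) (kb xb16 yb52 zb4) (kb xb9 yb1 zb38) (kb xb9 yb45 zb31) (kb xb9 yb2 zb0) (kb xb20 yb12 zb45) (kb xb9 yb2 zb4) (kb xb5 yb43 zb23) (kb xb9 yb2 zb19) (kb xb9 yb2 zb10) (kb xb16 yb30 zb20) (kb xb11 yb17 zb18) (kb xb5 yb43 zb26) (kb xb20 yb12 zb50) (kb xb12 yb43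 zb60) (kb xb20 yb0 zb41) (kb xb9 yb30 zb48) (kb xb12 yb23 zb34) (kb xb5 yb43 zb28)) (@D3.rec (fun _ => Pt) (kb xb20 yb12 zb60) (kb xb20 yb12 zb61) (kb xb5 yb43 zb29) (kb xb20 yb13 zb3) (kb xb18 yb57 zb3) (kb xb5 yb43 zb32) (kb xb20 yb13 zb7) (kb xb20 yb13 zb9) (kb xb9 yb38 zb60) (kb xb6 yb35 zb9) (kb xb17 yb8 zb7) (kb xb20 yb13 zb6) (kb xb14 yb46 zb41) (kb xb16 yb7 zb46) (kb xb12 yb44 zb18) (kb xb16 yb54 zb2) (kb xb11 yb17 zb32) (kb xb16 yb53 zb41) (kb xb11 yb16 zb54) (kb xb5 yb43 zb57) (kb xb5 yb43 zb41) (kb xb20 yb13 zb28) (kb xb20 yb13 zb29) (kb xb11 yb34 zb59) (kb xb16 yb52 zb55) (kb xb5 yb43 zb52) (kb xb5 yb43 zb53) (kb xb5 yb54 zb56) (kb xb6 yb24 zb56) (kb xb16 yb2 zb37) (kb xb11 yb15 zb23) (kb xb11 yb15 zb4) (kb xb11 yb17 zb16) (kb xb11 yb16 zb22) (kb xb20 yb13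 zb42) (kb xb16 yb48 zb14) (kb xb8 yb25 zb34) (kb xb5 yb43 zb49) (kb xb5 yb43 zb50) (kb xb8 yb40 zb7) (kb xb8 yb11 zb40) (kb xb20 yb13 zb50) (kb xb20 yb13 zb46) (kb xb20 yb13 zb47) (kb xb20 yb13 zb54) (kb xb16 yb54 zb12) (kb xb16 yb54 zb13) (kb xb16 yb54 zb14) (kb xb6 yb24 zb57) (kb xb20 yb13 zb37) (kb xb8 yb49 zb51) (kb xb16 yb54 zb18) (kb xb20 yb13 zb25) (kb xb5 yb43 zb60) (kb xb11 yb37 zb54) (kb xb12 yb12 zb55) (kb xb5 yb43 zb59) (kb xb15 yb49 zb37) (kb xb20 yb14 zb6) (kb xb16 yb54 zb24) (kb xb10 yb59 zb49) (kb xb17 yb2 zb49)) (@D3.rec (fun _ => Pt) (kb xb7 yb23 zb20) (kb xb5 yb44 zb2) (kb xb6 yb43 zb61) (kb xb6 yb9 zb3) (kb xb5 yb44 zb3) (kb xb16 yb15 zb25) (kb xb9 yb47 zb46) (kb xb20 yb14 zb17) (kb xb20 yb14 zb21) (kb xb5 yb44 zb39) (kb xb5 yb44 zb5) (kb xb5 yb44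 zb6) (kb xb8 yb35 zb18) (kb xb17 yb43 zb47) (kb xb20 yb14 zb29) (kb xb20 yb14 zb36) (kb xb20 yb14 zb39) (kb xb20 yb14 zb32) (kb xb20 yb14 zb33) (kb xb5 yb44 zb7) (kb xb12 yb47 zb4) (kb xb20 yb14 zb48) (kb xb20 yb14 zb49) (kb xb5 yb44 zb8) (kb xb17 yb41 zb61) (kb xb20 yb9 zb44) (kb xb17 yb3 zb35) (kb xb16 yb56 zb2) (kb xb11 yb59 zb15) (kb xb5 yb44 zb20) (kb xb5 yb44 zb13) (kb xb20 yb14 zb61) (kb xb5 yb44 zb14) (kb xb20 yb15 zb2) (kb xb5 yb44 zb17) (kb xb20 yb15 zb4) (kb xb20 yb15 zb6) (kb xb20 yb15 zb8) (kb xb19 yb48 zb44) (kb xb11 yb24 zb5) (kb xb14 yb7 zb42) (kb xb20 yb15 zb16) (kb xb12 yb54 zb58) (kb xb16 yb52 zb25) (kb xb16 yb47 zb47) (kb xb5 yb45 zb20) (kb xb5 yb45 zb21) (kb xb10 yb57 zb55) (kb xb20 yb15 zb26) (kb xb14 yb4 zb27) (kb xb20 yb15 zb29) (kb xb13 yb0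 zb26) (kb xb8 yb36 zb15) (kb xb5 yb44 zb24) (kb xb20 yb15 zb33) (kb xb6 yb24 zb33) (kb xb6 yb29 zb21) (kb xb16 yb28 zb23) (kb xb20 yb15 zb39) (kb xb12 yb3 zb49) (kb xb13 yb1 zb5) (kb xb8 yb41 zb27)) (@D3.rec (fun _ => Pt) (kb xb20 yb15 zb41) (kb xb11 yb15 zb1) (kb xb16 yb51 zb55) (kb xb5 yb44 zb31) (kb xb5 yb44 zb32) (kb xb20 yb0 zb20) (kb xb20 yb15 zb50) (kb xb11 yb14 zb60) (kb xb17 yb59 zb39) (kb xb20 yb15 zb53) (kb xb17 yb59 zb41) (kb xb15 yb4 zb7) (kb xb5 yb44 zb36) (kb xb7 yb29 zb13) (kb xb9 yb18 zb18) (kb xb7 yb33 zb54) (kb xb11 yb23 zb58) (kb xb5 yb44 zb37) (kb xb19 yb39 zb0) (kb xb16 yb7 zb34) (kb xb20 yb5 zb43) (kb xb5 yb48 zb44) (kb xb20 yb14 zb25) (kb xb20 yb14 zb26) (kb xb12 yb59 zb45) (kb xb20 yb16 zb5) (kb xb5 yb44 zb45) (kb xb20 yb16 zb9) (kb xb20 yb16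 zb13) (kb xb5 yb44 zb49) (kb xb5 yb44 zb50) (kb xb5 yb44 zb42) (kb xb20 yb16 zb18) (kb xb8 yb35 zb24) (kb xb5 yb44 zb44) (kb xb14 yb54 zb48) (kb xb12 yb18 zb3) (kb xb17 yb52 zb43) (kb xb20 yb16 zb8) (kb xb5 yb44 zb47) (kb xb20 yb16 zb36) (kb xb20 yb16 zb34) (kb xb18 yb0 zb1) (kb xb5 yb44 zb48) (kb xb15 yb4 zb11) (kb xb11 yb22 zb52) (kb xb12 yb14 zb35) (kb xb20 yb16 zb50) (kb xb16 yb57 zb20) (kb xb10 yb46 zb23) (kb xb11 yb4 zb51) (kb xb16 yb48 zb52) (kb xb20 yb16 zb60) (kb xb6 yb44 zb9) (kb xb16 yb48 zb51) (kb xb5 yb46 zb1) (kb xb20 yb13 zb22) (kb xb20 yb17 zb1) (kb xb5 yb44 zb54) (kb xb5 yb44 zb55) (kb xb20 yb17 zb5) (kb xb5 yb44 zb53)) (@D3.rec (fun _ => Pt) (kb xb20 yb17 zb7) (kb xb20 yb17 zb8) (kb xb16 yb55 zb45) (kb xb20 yb17 zb17) (kb xb11 yb45 zb5) (kb xb5 yb45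 zb60) (kb xb9 yb17 zb5) (kb xb7 yb23 zb38) (kb xb5 yb45 zb49) (kb xb20 yb7 zb10) (kb xb20 yb17 zb22) (kb xb5 yb44 zb58) (kb xb5 yb44 zb59) (kb xb5 yb44 zb57) (kb xb20 yb17 zb29) (kb xb20 yb17 zb30) (kb xb20 yb17 zb34) (kb xb5 yb46 zb7) (kb xb16 yb30 zb47) (kb xb20 yb17 zb26) (kb xb5 yb44 zb61) (kb xb20 yb17 zb38) (kb xb16 yb49 zb24) (kb xb20 yb17 zb37) (kb xb5 yb45 zb0) (kb xb20 yb17 zb43) (kb xb20 yb4 zb33) (kb xb17 yb9 zb5) (kb xb16 yb59 zb22) (kb xb20 yb17 zb48) (kb xb20 yb17 zb52) (kb xb5 yb45 zb3) (kb xb20 yb17 zb55) (kb xb20 yb17 zb54) (kb xb20 yb17 zb59) (kb xb5 yb45 zb5) (kb xb20 yb18 zb0) (kb xb20 yb17 zb61) (kb xb20 yb18 zb3) (kb xb20 yb18 zb5) (kb xb5 yb45 zb6) (kb xb20 yb18 zb9) (kb xb5 yb45 zb7) (kb xb20 yb18 zb12) (kb xb20 yb1 zb10) (kb xb11 yb14 zb18)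 (kb xb16 yb28 zb44) (kb xb16 yb56 zb4) (kb xb11 yb37 zb56) (kb xb5 yb45 zb10) (kb xb7 yb3 zb40) (kb xb11 yb37 zb58) (kb xb20 yb18 zb24) (kb xb20 yb18 zb29) (kb xb19 yb40 zb3) (kb xb8 yb46 zb47) (kb xb20 yb18 zb37) (kb xb19 yb40 zb4) (kb xb8 yb2 zb14) (kb xb5 yb45 zb13) (kb xb7 yb57 zb1) (kb xb20 yb18 zb44)) (@D3.rec (fun _ => Pt) (kb xb20 yb17 zb25) (kb xb5 yb45 zb14) (kb xb8 yb49 zb9) (kb xb20 yb18 zb49) (kb xb15 yb5 zb25) (kb xb8 yb57 zb38) (kb xb16 yb45 zb8) (kb xb5 yb45 zb18) (kb xb5 yb45 zb19) (kb xb6 yb50 zb52) (kb xb12 yb30 zb22) (kb xb5 yb45 zb22) (kb xb20 yb18 zb56) (kb xb9 yb48 zb9) (kb xb6 yb30 zb53) (kb xb11 yb36 zb1) (kb xb7 yb59 zb57) (kb xb17 yb11 zb33) (kb xb5 yb45 zb25) (kb xb13 yb21 zb12) (kb xb15 yb31 zb4) (kb xb20 yb19 zb2) (kb xb20 yb19 zb7) (kb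 xb19 yb34 zb32) (kb xb8 yb46 zb7) (kb xb5 yb49 zb15) (kb xb5 yb45 zb28) (kb xb12 yb37 zb28) (kb xb11 yb36 zb2) (kb xb16 yb56 zb52) (kb xb13 yb52 zb61) (kb xb13 yb0 zb55) (kb xb11 yb28 zb9) (kb xb5 yb45 zb33) (kb xb5 yb45 zb34) (kb xb11 yb50 zb23) (kb xb20 yb19 zb15) (kb xb20 yb14 zb5) (kb xb6 yb27 zb16) (kb xb12 yb23 zb9) (kb xb5 yb45 zb37) (kb xb20 yb19 zb21) (kb xb20 yb13 zb58) (kb xb16 yb56 zb38) (kb xb16 yb56 zb39) (kb xb20 yb19 zb28) (kb xb9 yb10 zb23) (kb xb5 yb45 zb40) (kb xb20 yb19 zb33) (kb xb20 yb19 zb32) (kb xb10 yb4 zb49) (kb xb20 yb19 zb34) (kb xb20 yb19 zb30) (kb xb16 yb56 zb48) (kb xb15 yb4 zb34) (kb xb5 yb45 zb45) (kb xb19 yb59 zb17) (kb xb13 yb6 zb29) (kb xb11 yb48 zb41) (kb xb7 yb30 zb41) (kb xb9 yb58 zb0) (kb xb5 yb45 zb47)) (@D3.rec (fun _ => Pt)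 (kb xb5 yb45 zb48) (kb xb12 yb8 zb9) (kb xb20 yb19 zb43) (kb xb16 yb56 zb56) (kb xb13 yb38 zb51) (kb xb5 yb45 zb51) (kb xb20 yb19 zb47) (kb xb20 yb13 zb60) (kb xb20 yb17 zb24) (kb xb11 yb23 zb4) (kb xb11 yb48 zb28) (kb xb5 yb46 zb0) (kb xb5 yb45 zb54) (kb xb20 yb19 zb53) (kb xb16 yb57 zb0) (kb xb5 yb45 zb56) (kb xb5 yb45 zb57) (kb xb20 yb19 zb59) (kb xb20 yb19 zb58) (kb xb5 yb45 zb58) (kb xb10 yb18 zb45) (kb xb14 yb42 zb48) (kb xb20 yb20 zb0) (kb xb12 yb9 zb20) (kb xb16 yb57 zb4) (kb xb20 yb20 zb5) (kb xb5 yb46 zb3) (kb xb20 yb20 zb9) (kb xb12 yb25 zb6) (kb xb11 yb5 zb32) (kb xb20 yb17 zb3) (kb xb12 yb13 zb56) (kb xb20 yb9 zb40) (kb xb5 yb46 zb8) (kb xb5 yb46 zb9) (kb xb20 yb20 zb25) (kb xb16 yb57 zb12) (kb xb9 yb4 zb18) (kb xb20 yb20 zb27) (kb xb5 yb46 zb12) (kb xb5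 yb46 zb13) (kb xb5 yb46 zb11) (kb xb6 yb32 zb13) (kb xb19 yb32 zb15) (kb xb20 yb17 zb41) (kb xb20 yb14 zb43) (kb xb20 yb20 zb30) (kb xb20 yb20 zb31) (kb xb5 yb46 zb17) (kb xb5 yb46 zb15) (kb xb20 yb20 zb33) (kb xb5 yb46 zb18) (kb xb11 yb19 zb45) (kb xb5 yb46 zb19) (kb xb20 yb20 zb36) (kb xb8 yb58 zb51) (kb xb20 yb20 zb38) (kb xb15 yb30 zb8) (kb xb5 yb46 zb20) (kb xb20 yb20 zb42) (kb xb7 yb16 zb31) (kb xb11 yb51 zb36)) (@D3.rec (fun _ => Pt) (kb xb6 yb13 zb43) (kb xb12 yb8 zb19) (kb xb13 yb16 zb35) (kb xb12 yb6 zb60) (kb xb11 yb22 zb9) (kb xb16 yb36 zb0) (kb xb8 yb11 zb47) (kb xb5 yb46 zb34) (kb xb5 yb46 zb35) (kb xb5 yb46 zb28) (kb xb13 yb31 zb9) (kb xb20 yb20 zb53) (kb xb20 yb20 zb55) (kb xb5 yb46 zb43) (kb xb5 yb46 zb32) (kb xb16 yb35 zb44) (kb xb20 yb20 zb57) (kb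 xb5 yb46 zb33) (kb xb6 yb11 zb11) (kb xb20 yb20 zb59) (kb xb20 yb0 zb11) (kb xb10 yb2 zb25) (kb xb20 yb21 zb3) (kb xb18 yb41 zb6) (kb xb20 yb21 zb5) (kb xb14 yb58 zb45) (kb xb19 yb59 zb37) (kb xb5 yb46 zb39) (kb xb20 yb21 zb10) (kb xb13 yb14 zb44) (kb xb20 yb21 zb15) (kb xb13 yb41 zb30) (kb xb5 yb46 zb41) (kb xb18 yb31 zb21) (kb xb10 yb3 zb36) (kb xb10 yb11 zb9) (kb xb20 yb21 zb21) (kb xb5 yb46 zb42) (kb xb20 yb21 zb25) (kb xb20 yb21 zb26) (kb xb20 yb20 zb56) (kb xb20 yb21 zb31) (kb xb10 yb26 zb29) (kb xb5 yb46 zb46) (kb xb18 yb33 zb24) (kb xb20 yb21 zb34) (kb xb16 yb24 zb32) (kb xb6 yb25 zb0) (kb xb18 yb48 zb41) (kb xb20 yb21 zb40) (kb xb5 yb46 zb50) (kb xb20 yb21 zb46) (kb xb16 yb56 zb3) (kb xb10 yb58 zb22) (kb xb6 yb14 zb7) (kb xb20 yb21 zb50) (kb xb5 yb46 zb55)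 (kb xb5 yb46 zb54) (kb xb11 yb19 zb16) (kb xb6 yb30 zb52) (kb xb14 yb7 zb61) (kb xb5 yb46 zb56)) (@D3.rec (fun _ => Pt) (kb xb20 yb21 zb51) (kb xb20 yb12 zb47) (kb xb11 yb15 zb24) (kb xb9 yb3 zb23) (kb xb20 yb21 zb54) (kb xb11 yb18 zb39) (kb xb11 yb59 zb23) (kb xb5 yb46 zb59) (kb xb20 yb21 zb59) (kb xb9 yb12 zb35) (kb xb15 yb5 zb29) (kb xb13 yb31 zb6) (kb xb5 yb47 zb0) (kb xb9 yb15 zb6) (kb xb11 yb31 zb8) (kb xb11 yb29 zb58) (kb xb11 yb30 zb43) (kb xb10 yb5 zb1) (kb xb6 yb29 zb23) (kb xb20 yb22 zb6) (kb xb20 yb22 zb8) (kb xb6 yb29 zb26) (kb xb6 yb29 zb27) (kb xb5 yb47 zb5) (kb xb17 yb0 zb3) (kb xb20 yb22 zb10) (kb xb20 yb22 zb11) (kb xb5 yb47 zb6) (kb xb17 yb9 zb57) (kb xb13 yb58 zb40) (kb xb12 yb9 zb44) (kb xb20 yb22 zb15) (kb xb19 yb43 zb51) (kb xb5 yb47 zb13) (kb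 xb20 yb0 zb22) (kb xb7 yb59 zb18) (kb xb5 yb47 zb12) (kb xb20 yb22 zb21) (kb xb19 yb58 zb61) (kb xb12 yb9 zb0) (kb xb17 yb0 zb18) (kb xb8 yb46 zb19) (kb xb11 yb27 zb45) (kb xb8 yb49 zb6) (kb xb5 yb47 zb20) (kb xb20 yb22 zb27) (kb xb11 yb29 zb43) (kb xb11 yb31 zb16) (kb xb9 yb47 zb44) (kb xb6 yb31 zb21) (kb xb16 yb25 zb16) (kb xb13 yb48 zb35) (kb xb6 yb24 zb23) (kb xb11 yb35 zb7) (kb xb5 yb47 zb30) (kb xb5 yb47 zb29) (kb xb9 yb24 zb34) (kb xb18 yb43 zb54) (kb xb13 yb2 zb47) (kb xb6 yb8 zb5) (kb xb6 yb29 zb42) (kb xb5 yb47 zb34)) (@D3.rec (fun _ => Pt) (kb xb11 yb35 zb54) (kb xb20 yb22 zb33) (kb xb10 yb43 zb51) (kb xb5 yb47 zb35) (kb xb20 yb22 zb36) (kb xb20 yb22 zb34) (kb xb20 yb22 zb35) (kb xb6 yb17 zb46) (kb xb5 yb47 zb38) (kb xb11 yb46 zb44) (kb xb6 yb0 zb32) (kb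 xb5 yb48 zb38) (kb xb5 yb49 zb2) (kb xb9 yb47 zb25) (kb xb9 yb47 zb40) (kb xb11 yb30 zb42) (kb xb13 yb58 zb44) (kb xb5 yb47 zb50) (kb xb6 yb8 zb32) (kb xb11 yb40 zb36) (kb xb10 yb6 zb55) (kb xb19 yb9 zb61) (kb xb11 yb31 zb13) (kb xb11 yb31 zb14) (kb xb5 yb49 zb9) (kb xb11 yb29 zb42) (kb xb9 yb47 zb34) (kb xb9 yb48 zb8) (kb xb20 yb22 zb53) (kb xb9 yb47 zb43) (kb xb5 yb48 zb3) (kb xb5 yb48 zb4) (kb xb8 yb14 zb50) (kb xb5 yb58 zb7) (kb xb11 yb29 zb7) (kb xb5 yb54 zb30) (kb xb5 yb54 zb31) (kb xb14 yb32 zb15) (kb xb20 yb23 zb3) (kb xb14 yb28 zb58) (kb xb14 yb28 zb59) (kb xb15 yb27 zb3) (kb xb10 yb18 zb13) (kb xb8 yb14 zb43) (kb xb18 yb0 zb8) (kb xb20 yb22 zb58) (kb xb17 yb5 zb7) (kb xb5 yb48 zb5) (kb xb20 yb23 zb19) (kb xb5 yb48 zb7) (kb xb18 yb21 zb10) (kb xb20 yb23 zb20)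 (kb xb17 yb20 zb54) (kb xb14 yb28 zb43) (kb xb17 yb59 zb26) (kb xb5 yb48 zb9) (kb xb20 yb23 zb27) (kb xb17 yb59 zb30) (kb xb20 yb23 zb31) (kb xb5 yb49 zb1) (kb xb5 yb48 zb13) (kb xb14 yb1 zb41)) (@D3.rec (fun _ => Pt) (kb xb12 yb53 zb19) (kb xb6 yb46 zb26) (kb xb10 yb43 zb46) (kb xb14 yb32 zb57) (kb xb14 yb34 zb48) (kb xb6 yb44 zb13) (kb xb5 yb48 zb19) (kb xb20 yb23 zb38) (kb xb13 yb3 zb3) (kb xb6 yb43 zb27) (kb xb5 yb48 zb22) (kb xb20 yb23 zb43) (kb xb5 yb48 zb23) (kb xb20 yb23 zb47) (kb xb20 yb23 zb50) (kb xb13 yb12 zb13) (kb xb20 yb23 zb58) (kb xb6 yb43 zb36) (kb xb5 yb48 zb53) (kb xb12 yb53 zb40) (kb xb12 yb35 zb24) (kb xb5 yb48 zb28) (kb xb20 yb24 zb3) (kb xb12 yb45 zb24) (kb xb6 yb0 zb28) (kb xb7 yb59 zb4) (kb xb5 yb48 zb52) (kb xb20 yb24 zb12) (kb xb20 yb16 zb14)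 (kb xb5 yb48 zb32) (kb xb5 yb48 zb33) (kb xb5 yb48 zb31) (kb xb20 yb24 zb18) (kb xb17 yb20 zb17) (kb xb16 yb5 zb26) (kb xb20 yb24 zb16) (kb xb20 yb24 zb17) (kb xb5 yb48 zb34) (kb xb20 yb24 zb32) (kb xb20 yb24 zb28) (kb xb20 yb24 zb29) (kb xb5 yb48 zb35) (kb xb20 yb24 zb37) (kb xb20 yb24 zb36) (kb xb20 yb24 zb40) (kb xb7 yb2 zb56) (kb xb7 yb49 zb29) (kb xb7 yb49 zb30) (kb xb20 yb12 zb20) (kb xb5 yb49 zb14) (kb xb5 yb49 zb4) (kb xb5 yb49 zb7) (kb xb5 yb48 zb43) (kb xb8 yb22 zb44) (kb xb18 yb24 zb4) (kb xb20 yb24 zb49) (kb xb5 yb48 zb47) (kb xb7 yb20 zb20) (kb xb5 yb48 zb46) (kb xb15 yb43 zb48) (kb xb5 yb49 zb31) (kb xb5 yb49 zb25)) (@D3.rec (fun _ => Pt) (kb xb20 yb24 zb52) (kb xb5 yb48 zb48) (kb xb20 yb24 zb57) (kb xb6 yb36 zb40) (kb xb20 yb24 zb15) (kb xb16 yb45 zb4)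 (kb xb16 yb57 zb6) (kb xb20 yb25 zb5) (kb xb12 yb30 zb25) (kb xb20 yb23 zb61) (kb xb12 yb25 zb35) (kb xb10 yb4 zb57) (kb xb9 yb20 zb17) (kb xb16 yb43 zb57) (kb xb20 yb24 zb2) (kb xb5 yb48 zb58) (kb xb14 yb5 zb0) (kb xb20 yb23 zb34) (kb xb5 yb48 zb59) (kb xb20 yb25 zb17) (kb xb12 yb38 zb19) (kb xb11 yb14 zb8) (kb xb5 yb48 zb61) (kb xb10 yb57 zb3) (kb xb9 yb2 zb8) (kb xb6 yb13 zb50) (kb xb20 yb22 zb40) (kb xb7 yb56 zb60) (kb xb20 yb24 zb47) (kb xb13 yb42 zb2) (kb xb12 yb10 zb54) (kb xb5 yb57 zb35) (kb xb17 yb5 zb23) (kb xb9 yb48 zb24) (kb xb8 yb47 zb3) (kb xb9 yb45 zb44) (kb xb20 yb24 zb46) (kb xb9 yb23 zb13) (kb xb9 yb21 zb61) (kb xb19 yb39 zb54) (kb xb12 yb10 zb57) (kb xb15 yb13 zb26) (kb xb11 yb29 zb25) (kb xb5 yb49 zb20) (kb xb16 yb57 zb32) (kb xb11 yb24 zb42) (kb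 xb5 yb49 zb26) (kb xb18 yb25 zb8) (kb xb11 yb50 zb0) (kb xb9 yb13 zb54) (kb xb6 yb32 zb8) (kb xb20 yb25 zb34) (kb xb11 yb14 zb48) (kb xb7 yb57 zb19) (kb xb11 yb33 zb19) (kb xb8 yb49 zb35) (kb xb6 yb16 zb44) (kb xb6 yb42 zb16) (kb xb5 yb49 zb36) (kb xb5 yb49 zb37) (kb xb19 yb26 zb39) (kb xb5 yb49 zb40)) (@D3.rec (fun _ => Pt) (kb xb7 yb8 zb32) (kb xb20 yb25 zb39) (kb xb5 yb55 zb33) (kb xb5 yb49 zb42) (kb xb12 yb44 zb54) (kb xb20 yb25 zb44) (kb xb9 yb30 zb18) (kb xb8 yb48 zb17) (kb xb11 yb11 zb8) (kb xb11 yb21 zb32) (kb xb5 yb49 zb45) (kb xb20 yb25 zb50) (kb xb5 yb49 zb47) (kb xb17 yb31 zb27) (kb xb6 yb25 zb3) (kb xb8 yb49 zb11) (kb xb8 yb58 zb16) (kb xb10 yb59 zb39) (kb xb5 yb49 zb57) (kb xb5 yb49 zb52) (kb xb19 yb36 zb30) (kb xb5 yb49 zb55) (kb xb20 yb25 zb54) (kb xb5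 yb49 zb58) (kb xb9 yb47 zb39) (kb xb6 yb21 zb56) (kb xb20 yb22 zb49) (kb xb5 yb50 zb2) (kb xb7 yb26 zb59) (kb xb11 yb31 zb18) (kb xb9 yb48 zb12) (kb xb5 yb50 zb4) (kb xb20 yb25 zb59) (kb xb20 yb22 zb42) (kb xb6 yb16 zb11) (kb xb5 yb50 zb9) (kb xb5 yb55 zb21) (kb xb11 yb31 zb11) (kb xb5 yb50 zb7) (kb xb9 yb48 zb3) (kb xb18 yb32 zb31) (kb xb17 yb58 zb21) (kb xb12 yb23 zb39) (kb xb5 yb50 zb12) (kb xb20 yb26 zb2) (kb xb6 yb42 zb2) (kb xb5 yb50 zb17) (kb xb5 yb50 zb22) (kb xb5 yb50 zb23) (kb xb5 yb50 zb21) (kb xb5 yb50 zb25) (kb xb20 yb26 zb7) (kb xb20 yb26 zb8) (kb xb12 yb17 zb5) (kb xb12 yb17 zb6) (kb xb14 yb33 zb12) (kb xb5 yb51 zb37) (kb xb11 yb30 zb59) (kb xb20 yb26 zb11) (kb xb17 yb24 zb3) (kb xb20 yb26 zb13) (kb xb19 yb23 zb13)) (@D3.rec (fun _ => Pt) (kb xb9 yb18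 zb36) (kb xb6 yb35 zb19) (kb xb20 yb22 zb48) (kb xb20 yb26 zb4) (kb xb5 yb50 zb37) (kb xb5 yb50 zb40) (kb xb10 yb0 zb24) (kb xb11 yb25 zb34) (kb xb5 yb50 zb47) (kb xb5 yb50 zb43) (kb xb5 yb58 zb54) (kb xb19 yb51 zb39) (kb xb7 yb57 zb5) (kb xb5 yb50 zb50) (kb xb20 yb26 zb20) (kb xb13 yb57 zb2) (kb xb12 yb7 zb0) (kb xb20 yb26 zb25) (kb xb8 yb52 zb26) (kb xb14 yb23 zb44) (kb xb7 yb27 zb18) (kb xb5 yb50 zb54) (kb xb18 yb12 zb49) (kb xb9 yb4 zb17) (kb xb11 yb37 zb61) (kb xb11 yb27 zb42) (kb xb12 yb5 zb27) (kb xb5 yb53 zb0) (kb xb16 yb4 zb49) (kb xb9 yb30 zb38) (kb xb6 yb7 zb58) (kb xb20 yb26 zb33) (kb xb20 yb26 zb35) (kb xb20 yb26 zb38) (kb xb5 yb51 zb0) (kb xb20 yb26 zb42) (kb xb9 yb7 zb61) (kb xb9 yb22 zb28) (kb xb7 yb32 zb51) (kb xb17 yb57 zb48) (kb xb5 yb51 zb5) (kb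 xb13 yb0 zb47) (kb xb11 yb25 zb25) (kb xb11 yb24 zb46) (kb xb17 yb57 zb55) (kb xb5 yb51 zb13) (kb xb12 yb11 zb10) (kb xb20 yb26 zb52) (kb xb17 yb17 zb11) (kb xb7 yb35 zb31) (kb xb7 yb35 zb32) (kb xb8 yb12 zb45) (kb xb8 yb12 zb52) (kb xb6 yb12 zb49) (kb xb5 yb51 zb40) (kb xb5 yb51 zb41) (kb xb5 yb51 zb14) (kb xb17 yb58 zb26) (kb xb11 yb24 zb15) (kb xb5 yb51 zb19) (kb xb5 yb51 zb17) (kb xb13 yb9 zb61)) (@D3.rec (fun _ => Pt) (kb xb20 yb27 zb10) (kb xb20 yb27 zb7) (kb xb18 yb38 zb12) (kb xb20 yb27 zb17) (kb xb7 yb59 zb48) (kb xb6 yb21 zb41) (kb xb5 yb51 zb21) (kb xb20 yb27 zb18) (kb xb14 yb24 zb0) (kb xb6 yb54 zb55) (kb xb6 yb54 zb56) (kb xb14 yb13 zb16) (kb xb13 yb6 zb37) (kb xb7 yb4 zb13) (kb xb6 yb33 zb36) (kb xb5 yb51 zb58) (kb xb16 yb29 zb26) (kb xb5 yb51 zb28) (kb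 xb7 yb39 zb37) (kb xb7 yb45 zb10) (kb xb13 yb0 zb57) (kb xb5 yb51 zb54) (kb xb13 yb0 zb59) (kb xb5 yb51 zb56) (kb xb20 yb27 zb31) (kb xb11 yb42 zb5) (kb xb5 yb51 zb31) (kb xb5 yb51 zb32) (kb xb9 yb25 zb35) (kb xb17 yb11 zb3) (kb xb5 yb51 zb33) (kb xb20 yb27 zb35) (kb xb6 yb18 zb27) (kb xb10 yb27 zb28) (kb xb20 yb27 zb42) (kb xb6 yb18 zb29) (kb xb6 yb18 zb30) (kb xb5 yb51 zb36) (kb xb16 yb13 zb47) (kb xb20 yb26 zb9) (kb xb14 yb35 zb58) (kb xb5 yb51 zb42) (kb xb11 yb25 zb15) (kb xb11 yb24 zb16) (kb xb5 yb51 zb45) (kb xb7 yb23 zb34) (kb xb20 yb16 zb46) (kb xb5 yb51 zb46) (kb xb20 yb27 zb50) (kb xb20 yb27 zb29) (kb xb14 yb50 zb8) (kb xb20 yb27 zb52) (kb xb20 yb27 zb54) (kb xb5 yb51 zb50) (kb xb5 yb51 zb49) (kb xb14 yb20 zb1) (kb xb9 yb23 zb43) (kb xb5 yb51 zb55) (kb xb20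 yb27 zb6) (kb xb11 yb28 zb57) (kb xb5 yb51 zb57) (kb xb13 yb1 zb51)) (@D3.rec (fun _ => Pt) (kb xb12 yb30 zb17) (kb xb11 yb54 zb53) (kb xb20 yb26 zb49) (kb xb5 yb52 zb0) (kb xb5 yb52 zb2) (kb xb20 yb28 zb0) (kb xb11 yb33 zb29) (kb xb20 yb19 zb41) (kb xb11 yb24 zb14) (kb xb17 yb57 zb45) (kb xb5 yb52 zb10) (kb xb11 yb28 zb37) (kb xb13 yb1 zb44) (kb xb11 yb25 zb22) (kb xb11 yb25 zb23) (kb xb20 yb26 zb46) (kb xb11 yb24 zb47) (kb xb5 yb52 zb14) (kb xb11 yb28 zb29) (kb xb5 yb52 zb16) (kb xb20 yb28 zb6) (kb xb6 yb32 zb4) (kb xb5 yb52 zb20) (kb xb5 yb52 zb26) (kb xb5 yb52 zb24) (kb xb5 yb52 zb29) (kb xb5 yb52 zb30) (kb xb5 yb52 zb28) (kb xb20 yb28 zb9) (kb xb13 yb11 zb3) (kb xb20 yb28 zb8) (kb xb5 yb52 zb31) (kb xb12 yb25 zb20) (kb xb20 yb25 zb9) (kb xb5 yb52 zb32) (kb xb20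 yb28 zb11) (kb xb20 yb28 zb12) (kb xb17 yb4 zb36) (kb xb11 yb57 zb11) (kb xb20 yb28 zb13) (kb xb5 yb52 zb37) (kb xb5 yb52 zb36) (kb xb12 yb45 zb57) (kb xb5 yb52 zb39) (kb xb5 yb52 zb40) (kb xb5 yb52 zb41) (kb xb20 yb28 zb24) (kb xb12 yb29 zb14) (kb xb20 yb28 zb27) (kb xb12 yb29 zb44) (kb xb20 yb19 zb54) (kb xb6 yb32 zb9) (kb xb20 yb28 zb5) (kb xb20 yb28 zb30) (kb xb5 yb52 zb47) (kb xb14 yb29 zb17) (kb xb6 yb34 zb36) (kb xb6 yb34 zb37) (kb xb5 yb52 zb50) (kb xb5 yb52 zb51) (kb xb16 yb59 zb3) (kb xb10 yb43 zb8)) (@D3.rec (fun _ => Pt) (kb xb6 yb5 zb32) (kb xb12 yb5 zb31) (kb xb14 yb18 zb41) (kb xb12 yb29 zb21) (kb xb7 yb3 zb54) (kb xb13 yb31 zb12) (kb xb7 yb40 zb35) (kb xb9 yb47 zb17) (kb xb20 yb28 zb51) (kb xb17 yb56 zb23) (kb xb5 yb52 zb60) (kb xb20 yb28 zb54) (kb xb20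 yb28 zb56) (kb xb11 yb55 zb60) (kb xb8 yb32 zb23) (kb xb11 yb55 zb29) (kb xb20 yb28 zb61) (kb xb10 yb52 zb36) (kb xb20 yb29 zb1) (kb xb6 yb33 zb30) (kb xb10 yb52 zb55) (kb xb20 yb29 zb5) (kb xb8 yb56 zb1) (kb xb20 yb29 zb10) (kb xb6 yb1 zb28) (kb xb7 yb52 zb16) (kb xb20 yb29 zb14) (kb xb6 yb1 zb32) (kb xb5 yb53 zb11) (kb xb20 yb29 zb17) (kb xb11 yb4 zb28) (kb xb10 yb34 zb12) (kb xb5 yb53 zb14) (kb xb20 yb29 zb24) (kb xb16 yb22 zb22) (kb xb5 yb53 zb18) (kb xb5 yb53 zb16) (kb xb15 yb40 zb2) (kb xb20 yb29 zb32) (kb xb20 yb29 zb37) (kb xb14 yb27 zb22) (kb xb20 yb29 zb42) (kb xb20 yb29 zb46) (kb xb20 yb29 zb30) (kb xb14 yb51 zb46) (kb xb20 yb29 zb49) (kb xb14 yb47 zb21) (kb xb5 yb53 zb20) (kb xb7 yb52 zb19) (kb xb15 yb30 zb1) (kb xb20 yb7 zb37) (kb xb5 yb53 zb23) (kb xb19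 yb48 zb52) (kb xb20 yb29 zb58) (kb xb5 yb53 zb24) (kb xb5 yb53 zb36) (kb xb11 yb1 zb7) (kb xb12 yb6 zb49) (kb xb8 yb5 zb9) (kb xb9 yb25 zb4) (kb xb12 yb8 zb49) (kb xb6 yb16 zb38)) (@D3.rec (fun _ => Pt) (kb xb15 yb8 zb3) (kb xb5 yb53 zb31) (kb xb20 yb30 zb7) (kb xb20 yb7 zb57) (kb xb15 yb8 zb19) (kb xb17 yb2 zb30) (kb xb17 yb2 zb31) (kb xb17 yb1 zb38) (kb xb15 yb8 zb22) (kb xb20 yb30 zb23) (kb xb12 yb44 zb30) (kb xb12 yb56 zb46) (kb xb8 yb29 zb26) (kb xb13 yb31 zb13) (kb xb16 yb59 zb13) (kb xb20 yb30 zb28) (kb xb16 yb59 zb15) (kb xb5 yb53 zb40) (kb xb20 yb30 zb36) (kb xb11 yb27 zb54) (kb xb16 yb24 zb56) (kb xb5 yb53 zb42) (kb xb17 yb6 zb41) (kb xb9 yb5 zb33) (kb xb9 yb16 zb13) (kb xb15 yb8 zb4) (kb xb20 yb30 zb38) (kb xb15 yb8 zb28) (kb xb9 yb24 zb30) (kb xb11 yb31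 zb6) (kb xb6 yb26 zb55) (kb xb20 yb14 zb24) (kb xb5 yb53 zb52) (kb xb5 yb53 zb54) (kb xb5 yb53 zb51) (kb xb20 yb14 zb22) (kb xb16 yb31 zb51) (kb xb20 yb30 zb54) (kb xb14 yb45 zb22) (kb xb20 yb30 zb47) (kb xb9 yb7 zb39) (kb xb20 yb31 zb1) (kb xb7 yb33 zb51) (kb xb7 yb30 zb51) (kb xb11 yb57 zb43) (kb xb10 yb5 zb44) (kb xb7 yb1 zb27) (kb xb10 yb5 zb48) (kb xb17 yb11 zb13) (kb xb7 yb41 zb36) (kb xb16 yb57 zb37) (kb xb5 yb54 zb1) (kb xb20 yb31 zb13) (kb xb16 yb59 zb35) (kb xb9 yb47 zb37) (kb xb12 yb9 zb57) (kb xb17 yb10 zb60) (kb xb6 yb0 zb46) (kb xb16 yb32 zb10) (kb xb11 yb36 zb34) (kb xb11 yb36 zb35) (kb xb7 yb14 zb31)) (@D3.rec (fun _ => Pt) (kb xb6 yb13 zb9) (kb xb13 yb43 zb53) (kb xb8 yb51 zb14) (kb xb14 yb40 zb11) (kb xb12 yb10 zb53) (kb xb9 yb25 zb16) (kb xb9 yb25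 zb58) (kb xb20 yb31 zb36) (kb xb6 yb24 zb22) (kb xb17 yb12 zb50) (kb xb16 yb36 zb6) (kb xb5 yb54 zb11) (kb xb13 yb21 zb49) (kb xb6 yb40 zb33) (kb xb12 yb23 zb53) (kb xb17 yb21 zb49) (kb xb11 yb41 zb12) (kb xb11 yb7 zb39) (kb xb17 yb11 zb35) (kb xb16 yb26 zb15) (kb xb16 yb26 zb16) (kb xb5 yb54 zb16) (kb xb20 yb31 zb60) (kb xb20 yb31 zb59) (kb xb16 yb30 zb39) (kb xb5 yb54 zb17) (kb xb14 yb38 zb49) (kb xb20 yb32 zb3) (kb xb20 yb32 zb4) (kb xb19 yb58 zb54) (kb xb15 yb9 zb55) (kb xb16 yb25 zb37) (kb xb8 yb47 zb59) (kb xb5 yb54 zb21) (kb xb7 yb17 zb32) (kb xb13 yb51 zb10) (kb xb20 yb32 zb22) (kb xb20 yb32 zb31) (kb xb15 yb9 zb53) (kb xb5 yb54 zb24) (kb xb20 yb32 zb37) (kb xb20 yb32 zb36) (kb xb20 yb32 zb42) (kb xb15 yb13 zb25) (kb xb5 yb54 zb25) (kb xb20 yb32 zb49) (kb xb16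 yb13 zb16) (kb xb8 yb47 zb61) (kb xb11 yb49 zb25) (kb xb12 yb23 zb23) (kb xb10 yb44 zb50) (kb xb10 yb17 zb14) (kb xb20 yb23 zb1) (kb xb5 yb54 zb35) (kb xb6 yb5 zb57) (kb xb10 yb0 zb13) (kb xb20 yb22 zb55) (kb xb9 yb4 zb14) (kb xb12 yb23 zb32) (kb xb11 yb17 zb23) (kb xb15 yb26 zb10) (kb xb5 yb55 zb16)) (@D3.rec (fun _ => Pt) (kb xb5 yb54 zb41) (kb xb5 yb54 zb42) (kb xb20 yb33 zb0) (kb xb11 yb44 zb40) (kb xb8 yb0 zb28) (kb xb6 yb8 zb20) (kb xb5 yb54 zb46) (kb xb11 yb24 zb53) (kb xb5 yb54 zb48) (kb xb5 yb54 zb55) (kb xb10 yb17 zb54) (kb xb20 yb33 zb8) (kb xb13 yb38 zb50) (kb xb12 yb42 zb19) (kb xb9 yb15 zb1) (kb xb7 yb44 zb16) (kb xb7 yb44 zb17) (kb xb16 yb59 zb49) (kb xb20 yb13 zb38) (kb xb20 yb33 zb5) (kb xb14 yb23 zb48) (kb xb15 yb13 zb3) (kb xb5 yb54 zb60) (kb xb20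 yb33 zb26) (kb xb20 yb33 zb25) (kb xb13 yb10 zb48) (kb xb9 yb25 zb61) (kb xb16 yb59 zb51) (kb xb12 yb56 zb22) (kb xb5 yb55 zb3) (kb xb17 yb11 zb41) (kb xb20 yb33 zb37) (kb xb5 yb55 zb2) (kb xb13 yb19 zb30) (kb xb20 yb33 zb38) (kb xb16 yb59 zb55) (kb xb20 yb33 zb35) (kb xb14 yb11 zb10) (kb xb7 yb42 zb48) (kb xb9 yb12 zb26) (kb xb11 yb49 zb54) (kb xb9 yb16 zb58) (kb xb9 yb16 zb59) (kb xb20 yb33 zb53) (kb xb7 yb38 zb29) (kb xb11 yb41 zb15) (kb xb5 yb55 zb8) (kb xb6 yb46 zb59) (kb xb17 yb34 zb9) (kb xb20 yb34 zb1) (kb xb20 yb33 zb60) (kb xb10 yb27 zb34) (kb xb10 yb27 zb35) (kb xb20 yb34 zb7) (kb xb11 yb25 zb0) (kb xb6 yb33 zb37) (kb xb6 yb33 zb38) (kb xb5 yb55 zb14) (kb xb10 yb6 zb57) (kb xb9 yb13 zb34) (kb xb11 yb59 zb10) (kb xb5 yb55 zb19)) (@D3.rec (fun _ => Pt) (kb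 xb12 yb33 zb35) (kb xb11 yb21 zb15) (kb xb11 yb21 zb28) (kb xb20 yb33 zb2) (kb xb5 yb57 zb58) (kb xb14 yb15 zb57) (kb xb5 yb55 zb52) (kb xb5 yb55 zb24) (kb xb20 yb27 zb33) (kb xb20 yb34 zb14) (kb xb5 yb55 zb25) (kb xb20 yb34 zb22) (kb xb20 yb34 zb21) (kb xb5 yb55 zb27) (kb xb20 yb34 zb27) (kb xb7 yb27 zb14) (kb xb9 yb17 zb50) (kb xb15 yb7 zb54) (kb xb9 yb17 zb53) (kb xb13 yb46 zb26) (kb xb5 yb55 zb32) (kb xb9 yb48 zb27) (kb xb20 yb34 zb30) (kb xb11 yb44 zb29) (kb xb20 yb25 zb43) (kb xb5 yb55 zb34) (kb xb12 yb44 zb10) (kb xb12 yb42 zb14) (kb xb14 yb11 zb59) (kb xb12 yb43 zb54) (kb xb12 yb44 zb11) (kb xb9 yb47 zb54) (kb xb16 yb29 zb12) (kb xb20 yb34 zb45) (kb xb11 yb33 zb59) (kb xb11 yb33 zb60) (kb xb14 yb27 zb28) (kb xb12 yb36 zb29) (kb xb5 yb55 zb44) (kb xb12 yb29 zb42)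 (kb xb12 yb45 zb0) (kb xb20 yb34 zb55) (kb xb20 yb16 zb20) (kb xb7 yb52 zb17) (kb xb5 yb55 zb47) (kb xb20 yb12 zb29) (kb xb9 yb4 zb41) (kb xb20 yb35 zb0) (kb xb16 yb25 zb60) (kb xb16 yb25 zb61) (kb xb8 yb49 zb21) (kb xb16 yb21 zb2) (kb xb15 yb4 zb52) (kb xb13 yb26 zb45) (kb xb20 yb35 zb13) (kb xb5 yb55 zb53) (kb xb12 yb39 zb35) (kb xb20 yb35 zb17) (kb xb18 yb17 zb19) (kb xb11 yb42 zb11) (kb xb12 yb2 zb19) (kb xb17 yb3 zb34)) (@D3.rec (fun _ => Pt) (kb xb11 yb42 zb15) (kb xb6 yb3 zb39) (kb xb20 yb35 zb28) (kb xb17 yb0 zb46) (kb xb20 yb35 zb31) (kb xb20 yb28 zb23) (kb xb20 yb35 zb34) (kb xb20 yb35 zb36) (kb xb5 yb55 zb60) (kb xb20 yb35 zb40) (kb xb6 yb10 zb46) (kb xb5 yb56 zb2) (kb xb9 yb47 zb24) (kb xb20 yb25 zb37) (kb xb16 yb54 zb17) (kb xb6 yb33 zb59) (kb xb15 yb8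 zb29) (kb xb20 yb35 zb47) (kb xb20 yb35 zb51) (kb xb5 yb56 zb4) (kb xb6 yb34 zb61) (kb xb20 yb12 zb42) (kb xb6 yb13 zb34) (kb xb16 yb24 zb37) (kb xb17 yb1 zb41) (kb xb20 yb7 zb55) (kb xb6 yb13 zb38) (kb xb16 yb25 zb55) (kb xb14 yb19 zb6) (kb xb6 yb49 zb0) (kb xb11 yb10 zb55) (kb xb11 yb16 zb18) (kb xb20 yb5 zb53) (kb xb5 yb56 zb11) (kb xb5 yb56 zb10) (kb xb20 yb36 zb0) (kb xb8 yb45 zb35) (kb xb16 yb26 zb8) (kb xb18 yb23 zb48) (kb xb20 yb35 zb61) (kb xb5 yb56 zb12) (kb xb17 yb23 zb26) (kb xb18 yb43 zb53) (kb xb5 yb56 zb15) (kb xb5 yb56 zb16) (kb xb18 yb38 zb15) (kb xb15 yb27 zb15) (kb xb20 yb14 zb15) (kb xb20 yb36 zb14) (kb xb20 yb36 zb15) (kb xb5 yb56 zb17) (kb xb20 yb36 zb24) (kb xb14 yb28 zb17) (kb xb7 yb12 zb16) (kb xb11 yb17 zb54) (kb xb11 yb14 zb1) (kb xb11 yb20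 zb48) (kb xb20 yb36 zb36) (kb xb11 yb20 zb51) (kb xb19 yb37 zb31) (kb xb9 yb47 zb2) (kb xb11 yb29 zb24)) (@D3.rec (fun _ => Pt) (kb xb13 yb31 zb18) (kb xb20 yb36 zb50) (kb xb16 yb24 zb38) (kb xb9 yb1 zb40) (kb xb20 yb36 zb56) (kb xb20 yb7 zb26) (kb xb5 yb56 zb25) (kb xb20 yb37 zb2) (kb xb13 yb26 zb46) (kb xb20 yb36 zb61) (kb xb5 yb56 zb26) (kb xb20 yb37 zb9) (kb xb20 yb37 zb8) (kb xb19 yb8 zb36) (kb xb20 yb37 zb17) (kb xb5 yb56 zb27) (kb xb20 yb37 zb22) (kb xb20 yb37 zb23) (kb xb9 yb47 zb15) (kb xb12 yb1 zb20) (kb xb12 yb14 zb10) (kb xb17 yb5 zb41) (kb xb17 yb5 zb42) (kb xb20 yb37 zb32) (kb xb12 yb9 zb19) (kb xb16 yb57 zb36) (kb xb5 yb58 zb8) (kb xb5 yb56 zb40) (kb xb12 yb1 zb34) (kb xb5 yb56 zb37) (kb xb9 yb49 zb1) (kb xb20 yb37 zb40) (kb xb18 yb25 zb43) (kb xb20 yb37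 zb36) (kb xb20 yb37 zb37) (kb xb17 yb50 zb34) (kb xb12 yb9 zb47) (kb xb12 yb9 zb48) (kb xb11 yb49 zb43) (kb xb6 yb17 zb26) (kb xb7 yb27 zb1) (kb xb5 yb56 zb42) (kb xb20 yb37 zb51) (kb xb18 yb26 zb7) (kb xb12 yb36 zb58) (kb xb12 yb36 zb59) (kb xb5 yb56 zb46) (kb xb17 yb3 zb53) (kb xb20 yb37 zb59) (kb xb20 yb37 zb60) (kb xb5 yb56 zb47) (kb xb9 yb6 zb18) (kb xb20 yb38 zb5) (kb xb20 yb38 zb6) (kb xb5 yb56 zb51) (kb xb12 yb2 zb13) (kb xb5 yb56 zb50) (kb xb20 yb38 zb11) (kb xb18 yb25 zb6) (kb xb10 yb57 zb28) (kb xb20 yb38 zb22) (kb xb5 yb57 zb18)) (@D3.rec (fun _ => Pt) (kb xb9 yb18 zb6) (kb xb6 yb6 zb54) (kb xb5 yb56 zb55) (kb xb5 yb56 zb56) (kb xb5 yb56 zb54) (kb xb20 yb38 zb25) (kb xb20 yb38 zb26) (kb xb20 yb38 zb31) (kb xb20 yb14 zb59) (kb xb17 yb6 zb27) (kb xb17 yb8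 zb36) (kb xb5 yb56 zb58) (kb xb20 yb38 zb37) (kb xb20 yb38 zb39) (kb xb11 yb54 zb14) (kb xb19 yb19 zb15) (kb xb11 yb52 zb60) (kb xb5 yb57 zb25) (kb xb5 yb57 zb0) (kb xb20 yb38 zb51) (kb xb20 yb38 zb50) (kb xb5 yb57 zb1) (kb xb20 yb38 zb57) (kb xb20 yb38 zb58) (kb xb10 yb45 zb27) (kb xb17 yb31 zb58) (kb xb20 yb39 zb3) (kb xb20 yb39 zb5) (kb xb5 yb57 zb3) (kb xb20 yb39 zb9) (kb xb20 yb39 zb10) (kb xb6 yb4 zb9) (kb xb5 yb57 zb7) (kb xb20 yb39 zb18) (kb xb6 yb14 zb47) (kb xb5 yb57 zb9) (kb xb17 yb4 zb8) (kb xb20 yb39 zb22) (kb xb20 yb39 zb23) (kb xb5 yb57 zb10) (kb xb20 yb39 zb32) (kb xb20 yb39 zb34) (kb xb20 yb39 zb36) (kb xb20 yb39 zb38) (kb xb19 yb34 zb44) (kb xb16 yb38 zb24) (kb xb16 yb38 zb25) (kb xb6 yb3 zb33) (kb xb20 yb17 zb57) (kb xb11 yb42 zb18) (kb xb17 yb17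 zb43) (kb xb12 yb53 zb52) (kb xb6 yb32 zb30) (kb xb6 yb32 zb31) (kb xb20 yb37 zb35) (kb xb20 yb39 zb59) (kb xb5 yb57 zb19) (kb xb20 yb34 zb31) (kb xb6 yb32 zb36) (kb xb6 yb32 zb37) (kb xb11 yb0 zb35) (kb xb9 yb43 zb52)) (@D3.rec (fun _ => Pt) (kb xb17 yb2 zb15) (kb xb11 yb56 zb60) (kb xb8 yb14 zb8) (kb xb7 yb52 zb25) (kb xb13 yb43 zb37) (kb xb5 yb57 zb28) (kb xb5 yb57 zb29) (kb xb5 yb57 zb30) (kb xb20 yb40 zb13) (kb xb10 yb42 zb38) (kb xb6 yb1 zb17) (kb xb6 yb6 zb36) (kb xb12 yb9 zb2) (kb xb9 yb6 zb11) (kb xb9 yb10 zb6) (kb xb12 yb12 zb46) (kb xb11 yb40 zb39) (kb xb5 yb57 zb40) (kb xb14 yb37 zb52) (kb xb14 yb34 zb51) (kb xb11 yb50 zb25) (kb xb10 yb18 zb33) (kb xb14 yb35 zb49) (kb xb6 yb8 zb12) (kb xb15 yb49 zb52) (kb xb16 yb52 zb11) (kb xb5 yb58 zb34) (kb xb18 yb15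 zb31) (kb xb5 yb57 zb51) (kb xb20 yb40 zb26) (kb xb20 yb40 zb27) (kb xb6 yb51 zb2) (kb xb5 yb57 zb61) (kb xb5 yb58 zb0) (kb xb5 yb57 zb55) (kb xb20 yb40 zb30) (kb xb11 yb25 zb19) (kb xb6 yb25 zb20) (kb xb6 yb33 zb56) (kb xb11 yb40 zb16) (kb xb6 yb19 zb34) (kb xb17 yb7 zb59) (kb xb9 yb7 zb31) (kb xb8 yb12 zb2) (kb xb9 yb7 zb34) (kb xb12 yb53 zb34) (kb xb11 yb41 zb41) (kb xb9 yb10 zb24) (kb xb5 yb58 zb3) (kb xb5 yb58 zb5) (kb xb5 yb58 zb6) (kb xb16 yb54 zb34) (kb xb20 yb34 zb10) (kb xb13 yb20 zb44) (kb xb20 yb40 zb36) (kb xb20 yb40 zb37) (kb xb14 yb26 zb19) (kb xb20 yb22 zb60) (kb xb20 yb40 zb43) (kb xb6 yb49 zb50) (kb xb20 yb23 zb0) (kb xb16 yb59 zb58)) (@D3.rec (fun _ => Pt) (kb xb17 yb18 zb29) (kb xb5 yb58 zb12) (kb xb5 yb58 zb13) (kb xb20 yb40 zb45) (kb xb20 yb40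 zb47) (kb xb17 yb9 zb49) (kb xb17 yb19 zb5) (kb xb12 yb57 zb4) (kb xb15 yb30 zb29) (kb xb5 yb58 zb59) (kb xb12 yb35 zb11) (kb xb20 yb40 zb59) (kb xb11 yb34 zb16) (kb xb5 yb58 zb17) (kb xb20 yb41 zb1) (kb xb11 yb35 zb45) (kb xb12 yb10 zb51) (kb xb20 yb41 zb6) (kb xb5 yb58 zb24) (kb xb5 yb58 zb25) (kb xb5 yb58 zb26) (kb xb5 yb58 zb22) (kb xb20 yb41 zb12) (kb xb17 yb4 zb33) (kb xb20 yb41 zb8) (kb xb20 yb41 zb9) (kb xb20 yb41 zb21) (kb xb16 yb57 zb60) (kb xb20 yb41 zb10) (kb xb11 yb48 zb54) (kb xb20 yb41 zb30) (kb xb20 yb40 zb23) (kb xb17 yb3 zb26) (kb xb20 yb41 zb32) (kb xb15 yb54 zb39) (kb xb5 yb58 zb35) (kb xb7 yb8 zb29) (kb xb6 yb1 zb1) (kb xb10 yb45 zb26) (kb xb17 yb1 zb31) (kb xb6 yb1 zb30) (kb xb11 yb40 zb46) (kb xb20 yb41 zb42) (kb xb12 yb33 zb41) (kb xb6 yb55 zb60)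 (kb xb5 yb58 zb40) (kb xb5 yb58 zb41) (kb xb20 yb41 zb46) (kb xb14 yb11 zb40) (kb xb7 yb2 zb23) (kb xb20 yb41 zb49) (kb xb14 yb26 zb7) (kb xb5 yb58 zb42) (kb xb11 yb0 zb28) (kb xb10 yb45 zb43) (kb xb10 yb57 zb27) (kb xb11 yb49 zb44) (kb xb17 yb8 zb33) (kb xb14 yb20 zb38) (kb xb20 yb42 zb3) (kb xb5 yb59 zb10) (kb xb10 yb45 zb29)) (@D3.rec (fun _ => Pt) (kb xb17 yb1 zb55) (kb xb5 yb58 zb49) (kb xb20 yb42 zb11) (kb xb20 yb42 zb12) (kb xb5 yb59 zb20) (kb xb11 yb30 zb25) (kb xb6 yb35 zb4) (kb xb13 yb9 zb56) (kb xb5 yb58 zb52) (kb xb20 yb42 zb22) (kb xb20 yb42 zb25) (kb xb11 yb36 zb59) (kb xb12 yb14 zb48) (kb xb11 yb51 zb17) (kb xb10 yb49 zb11) (kb xb11 yb37 zb0) (kb xb9 yb14 zb17) (kb xb20 yb42 zb32) (kb xb11 yb39 zb49) (kb xb20 yb42 zb33) (kb xb10 yb53 zb15) (kb xb5 yb58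 zb58) (kb xb13 yb42 zb16) (kb xb20 yb40 zb57) (kb xb5 yb59 zb0) (kb xb7 yb32 zb20) (kb xb5 yb59 zb3) (kb xb20 yb42 zb46) (kb xb20 yb21 zb42) (kb xb20 yb42 zb41) (kb xb20 yb25 zb6) (kb xb9 yb48 zb15) (kb xb16 yb58 zb15) (kb xb16 yb58 zb16) (kb xb5 yb59 zb2) (kb xb20 yb43 zb0) (kb xb20 yb43 zb1) (kb xb16 yb58 zb18) (kb xb20 yb43 zb6) (kb xb20 yb43 zb11) (kb xb14 yb26 zb8) (kb xb5 yb59 zb5) (kb xb20 yb43 zb14) (kb xb20 yb43 zb15) (kb xb20 yb43 zb18) (kb xb20 yb43 zb20) (kb xb20 yb43 zb22) (kb xb20 yb43 zb24) (kb xb5 yb59 zb9) (kb xb20 yb43 zb26) (kb xb20 yb43 zb27) (kb xb20 yb42 zb6) (kb xb5 yb59 zb11) (kb xb7 yb37 zb35) (kb xb20 yb43 zb34) (kb xb20 yb42 zb7) (kb xb17 yb32 zb60) (kb xb10 yb44 zb53) (kb xb5 yb59 zb13) (kb xb13 yb36 zb56) (kb xb5 yb59 zb15) (kb xb9 yb48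 zb19)) (@D3.rec (fun _ => Pt) (kb xb20 yb43 zb46) (kb xb20 yb3 zb53) (kb xb5 yb59 zb16) (kb xb20 yb43 zb49) (kb xb20 yb43 zb51) (kb xb20 yb41 zb37) (kb xb5 yb59 zb18) (kb xb5 yb59 zb19) (kb xb20 yb43 zb58) (kb xb20 yb43 zb60) (kb xb20 yb44 zb0) (kb xb18 yb52 zb55) (kb xb20 yb43 zb56) (kb xb20 yb43 zb57) (kb xb17 yb4 zb13) (kb xb6 yb21 zb5) (kb xb5 yb59 zb23) (kb xb14 yb30 zb42) (kb xb20 yb44 zb13) (kb xb5 yb59 zb25) (kb xb5 yb59 zb26) (kb xb17 yb15 zb8) (kb xb20 yb44 zb21) (kb xb20 yb44 zb10) (kb xb20 yb44 zb11) (kb xb5 yb59 zb24) (kb xb20 yb44 zb27) (kb xb20 yb44 zb30) (kb xb14 yb37 zb54) (kb xb20 yb44 zb35) (kb xb20 yb44 zb18) (kb xb20 yb44 zb37) (kb xb5 yb59 zb29) (kb xb5 yb59 zb30) (kb xb5 yb59 zb28) (kb xb20 yb44 zb45) (kb xb17 yb28 zb37) (kb xb20 yb44 zb50) (kb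 xb20 yb44 zb42) (kb xb5 yb59 zb33) (kb xb5 yb59 zb34) (kb xb5 yb59 zb32) (kb xb20 yb44 zb54) (kb xb20 yb44 zb55) (kb xb6 yb25 zb27) (kb xb17 yb31 zb28) (kb xb9 yb49 zb43) (kb xb5 yb59 zb37) (kb xb5 yb59 zb38) (kb xb20 yb44 zb57) (kb xb20 yb45 zb1) (kb xb20 yb44 zb58) (kb xb14 yb34 zb53) (kb xb11 yb1 zb48) (kb xb6 yb3 zb18) (kb xb11 yb1 zb61) (kb xb16 yb48 zb36) (kb xb6 yb16 zb59) (kb xb6 yb0 zb0) (kb xb6 yb35 zb43) (kb xb7 yb33 zb2) (kb xb15 yb26 zb15)) (@D3.rec (fun _ => Pt) (kb xb17 yb21 zb48) (kb xb20 yb45 zb10) (kb xb12 yb7 zb33) (kb xb5 yb59 zb47) (kb xb20 yb45 zb12) (kb xb17 yb20 zb48) (kb xb5 yb59 zb53) (kb xb17 yb19 zb20) (kb xb20 yb45 zb21) (kb xb5 yb59 zb55) (kb xb5 yb59 zb56) (kb xb5 yb59 zb51) (kb xb11 yb15 zb8) (kb xb20 yb45 zb31) (kb xb10 yb21 zb45) (kb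 xb20 yb45 zb18) (kb xb20 yb45 zb19) (kb xb6 yb2 zb50) (kb xb10 yb42 zb27) (kb xb20 yb45 zb37) (kb xb17 yb21 zb55) (kb xb20 yb45 zb45) (kb xb20 yb45 zb26) (kb xb20 yb45 zb49) (kb xb10 yb58 zb52) (kb xb16 yb36 zb11) (kb xb10 yb30 zb26) (kb xb6 yb2 zb6) (kb xb6 yb2 zb7) (kb xb11 yb36 zb23) (kb xb11 yb56 zb41) (kb xb12 yb33 zb8) (kb xb6 yb44 zb17) (kb xb6 yb0 zb26) (kb xb6 yb39 zb45) (kb xb12 yb32 zb55) (kb xb7 yb42 zb40) (kb xb6 yb0 zb4) (kb xb20 yb45 zb61) (kb xb20 yb46 zb0) (kb xb11 yb35 zb3) (kb xb17 yb7 zb55) (kb xb15 yb5 zb14) (kb xb6 yb2 zb57) (kb xb6 yb39 zb51) (kb xb14 yb59 zb36) (kb xb17 yb31 zb15) (kb xb6 yb0 zb12) (kb xb17 yb21 zb21) (kb xb6 yb0 zb15) (kb xb6 yb0 zb16) (kb xb12 yb3 zb50) (kb xb20 yb46 zb7) (kb xb6 yb45 zb48) (kb xb17 yb33 zb6) (kb xb6 yb0 zb13)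 (kb xb9 yb49 zb27) (kb xb20 yb46 zb13) (kb xb17 yb26 zb61) (kb xb6 yb0 zb14) (kb xb20 yb46 zb17) (kb xb17 yb10 zb8)) (@D3.rec (fun _ => Pt) (kb xb19 yb30 zb11) (kb xb6 yb45 zb53) (kb xb16 yb44 zb37) (kb xb6 yb42 zb48) (kb xb6 yb42 zb49) (kb xb11 yb20 zb4) (kb xb20 yb46 zb3) (kb xb6 yb0 zb20) (kb xb20 yb46 zb25) (kb xb18 yb0 zb7) (kb xb17 yb5 zb18) (kb xb6 yb2 zb41) (kb xb6 yb2 zb42) (kb xb6 yb2 zb32) (kb xb20 yb46 zb29) (kb xb6 yb0 zb25) (kb xb16 yb59 zb40) (kb xb18 yb50 zb46) (kb xb12 yb34 zb59) (kb xb17 yb19 zb30) (kb xb9 yb19 zb54) (kb xb6 yb14 zb33) (kb xb16 yb24 zb17) (kb xb7 yb22 zb44) (kb xb6 yb0 zb34) (kb xb20 yb22 zb41) (kb xb6 yb0 zb33) (kb xb20 yb46 zb40) (kb xb20 yb46 zb43) (kb xb8 yb17 zb53) (kb xb20 yb46 zb39) (kb xb20 yb46 zb46) (kb xb12 yb32 zb39) (kb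 xb20 yb46 zb51) (kb xb13 yb19 zb51) (kb xb6 yb0 zb37) (kb xb20 yb46 zb55) (kb xb10 yb17 zb41) (kb xb14 yb20 zb61) (kb xb6 yb50 zb61) (kb xb6 yb0 zb43) (kb xb20 yb47 zb0) (kb xb17 yb22 zb30) (kb xb6 yb0 zb44) (kb xb6 yb0 zb45) (kb xb8 yb29 zb23) (kb xb20 yb47 zb7) (kb xb20 yb46 zb60) (kb xb20 yb46 zb61) (kb xb9 yb41 zb46) (kb xb14 yb36 zb38) (kb xb20 yb47 zb6) (kb xb15 yb56 zb43) (kb xb20 yb47 zb16) (kb xb20 yb31 zb19) (kb xb20 yb31 zb20) (kb xb20 yb6 zb53) (kb xb14 yb6 zb48) (kb xb6 yb21 zb8) (kb xb6 yb0 zb48) (kb xb13 yb14 zb18) (kb xb10 yb22 zb50)) (@D3.rec (fun _ => Pt) (kb xb9 yb57 zb3) (kb xb18 yb14 zb3) (kb xb6 yb0 zb49) (kb xb20 yb47 zb34) (kb xb14 yb40 zb60) (kb xb20 yb47 zb33) (kb xb6 yb0 zb50) (kb xb20 yb47 zb43) (kb xb20 yb47 zb44) (kb xb20 yb47 zb47) (kb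 xb20 yb47 zb50) (kb xb20 yb47 zb55) (kb xb17 yb25 zb19) (kb xb11 yb48 zb6) (kb xb6 yb0 zb53) (kb xb20 yb47 zb59) (kb xb20 yb48 zb0) (kb xb17 yb26 zb25) (kb xb19 yb30 zb33) (kb xb14 yb37 zb49) (kb xb17 yb22 zb25) (kb xb15 yb5 zb4) (kb xb6 yb0 zb57) (kb xb15 yb5 zb5) (kb xb20 yb48 zb12) (kb xb6 yb0 zb58) (kb xb20 yb48 zb17) (kb xb7 yb41 zb39) (kb xb20 yb48 zb14) (kb xb6 yb0 zb59) (kb xb20 yb48 zb22) (kb xb20 yb8 zb39) (kb xb20 yb48 zb21) (kb xb20 yb48 zb26) (kb xb20 yb48 zb27) (kb xb6 yb0 zb60) (kb xb20 yb48 zb31) (kb xb20 yb48 zb32) (kb xb17 yb26 zb20) (kb xb6 yb1 zb2) (kb xb20 yb48 zb37) (kb xb14 yb36 zb23) (kb xb6 yb3 zb14) (kb xb10 yb12 zb10) (kb xb11 yb25 zb9) (kb xb6 yb1 zb15) (kb xb6 yb1 zb5) (kb xb20 yb48 zb42) (kb xb17 yb20 zb56) (kb xb20 yb44 zb44) (kb xb6 yb1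 zb7) (kb xb6 yb1 zb8) (kb xb20 yb48 zb53) (kb xb20 yb23 zb22) (kb xb20 yb48 zb56) (kb xb20 yb48 zb51) (kb xb10 yb42 zb32) (kb xb20 yb48 zb52) (kb xb20 yb49 zb1) (kb xb17 yb6 zb32) (kb xb20 yb49 zb3) (kb xb6 yb3 zb3)) (@D3.rec (fun _ => Pt) (kb xb12 yb16 zb18) (kb xb16 yb24 zb5) (kb xb6 yb1 zb11) (kb xb20 yb49 zb10) (kb xb7 yb22 zb50) (kb xb6 yb3 zb7) (kb xb6 yb31 zb31) (kb xb9 yb23 zb18) (kb xb14 yb4 zb43) (kb xb12 yb39 zb5) (kb xb7 yb1 zb44) (kb xb6 yb1 zb18) (kb xb20 yb49 zb16) (kb xb7 yb34 zb7) (kb xb17 yb6 zb18) (kb xb6 yb2 zb53) (kb xb13 yb27 zb46) (kb xb6 yb1 zb24) (kb xb6 yb1 zb25) (kb xb6 yb43 zb15) (kb xb20 yb44 zb53) (kb xb6 yb1 zb22) (kb xb20 yb49 zb23) (kb xb6 yb1 zb23) (kb xb19 yb10 zb36) (kb xb13 yb27 zb45) (kb xb7 yb35 zb3) (kb xb6 yb1 zb27) (kb xb7 yb14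 zb37) (kb xb20 yb49 zb30) (kb xb17 yb6 zb56) (kb xb6 yb3 zb34) (kb xb12 yb31 zb16) (kb xb6 yb1 zb29) (kb xb20 yb49 zb42) (kb xb20 yb49 zb43) (kb xb6 yb3 zb38) (kb xb20 yb41 zb41) (kb xb13 yb23 zb36) (kb xb6 yb1 zb31) (kb xb20 yb49 zb50) (kb xb20 yb49 zb51) (kb xb17 yb7 zb1) (kb xb6 yb3 zb46) (kb xb20 yb49 zb58) (kb xb6 yb1 zb35) (kb xb6 yb1 zb34) (kb xb20 yb50 zb2) (kb xb20 yb50 zb3) (kb xb6 yb3 zb52) (kb xb8 yb58 zb56) (kb xb10 yb59 zb50) (kb xb6 yb1 zb36) (kb xb20 yb50 zb13) (kb xb20 yb50 zb14) (kb xb6 yb1 zb37) (kb xb20 yb50 zb19) (kb xb19 yb19 zb50) (kb xb15 yb32 zb35) (kb xb20 yb50 zb25) (kb xb20 yb40 zb12) (kb xb6 yb1 zb39)) (@D3.rec (fun _ => Pt) (kb xb20 yb50 zb34) (kb xb20 yb50 zb36) (kb xb20 yb50 zb33) (kb xb6 yb1 zb41) (kb xb20 yb11 zb37) (kb xb11 yb0 zb55)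 (kb xb11 yb46 zb13) (kb xb17 yb31 zb31) (kb xb17 yb24 zb35) (kb xb6 yb1 zb47) (kb xb20 yb20 zb46) (kb xb6 yb25 zb57) (kb xb6 yb1 zb49) (kb xb12 yb30 zb26) (kb xb6 yb1 zb50) (kb xb14 yb13 zb40) (kb xb12 yb44 zb16) (kb xb6 yb26 zb4) (kb xb6 yb1 zb54) (kb xb9 yb12 zb1) (kb xb13 yb11 zb0) (kb xb11 yb1 zb47) (kb xb6 yb2 zb3) (kb xb7 yb0 zb9) (kb xb20 yb50 zb51) (kb xb9 yb46 zb36) (kb xb11 yb55 zb59) (kb xb11 yb1 zb22) (kb xb11 yb22 zb10) (kb xb6 yb1 zb59) (kb xb7 yb32 zb9) (kb xb20 yb50 zb58) (kb xb20 yb30 zb41) (kb xb20 yb51 zb1) (kb xb7 yb1 zb32) (kb xb16 yb52 zb33) (kb xb6 yb2 zb10) (kb xb6 yb37 zb59) (kb xb11 yb0 zb57) (kb xb9 yb20 zb29) (kb xb6 yb2 zb2) (kb xb11 yb21 zb58) (kb xb6 yb2 zb4) (kb xb6 yb2 zb5) (kb xb20 yb45 zb53) (kb xb20 yb51 zb14) (kb xb6 yb27 zb18) (kb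 xb6 yb2 zb9) (kb xb6 yb2 zb12) (kb xb6 yb2 zb13) (kb xb18 yb0 zb17) (kb xb20 yb51 zb18) (kb xb20 yb51 zb17) (kb xb17 yb8 zb4) (kb xb11 yb41 zb29) (kb xb9 yb11 zb59) (kb xb6 yb20 zb16) (kb xb7 yb43 zb57) (kb xb6 yb2 zb18) (kb xb6 yb34 zb34) (kb xb12 yb16 zb16) (kb xb6 yb37 zb39)) (@D3.rec (fun _ => Pt) (kb xb9 yb49 zb30) (kb xb6 yb2 zb21) (kb xb20 yb51 zb33) (kb xb20 yb51 zb35) (kb xb6 yb33 zb46) (kb xb6 yb20 zb27) (kb xb6 yb2 zb23) (kb xb12 yb43 zb29) (kb xb20 yb51 zb37) (kb xb7 yb44 zb57) (kb xb7 yb44 zb60) (kb xb20 yb51 zb43) (kb xb20 yb51 zb45) (kb xb6 yb20 zb35) (kb xb20 yb51 zb47) (kb xb6 yb2 zb27) (kb xb20 yb51 zb49) (kb xb17 yb7 zb53) (kb xb12 yb2 zb40) (kb xb6 yb2 zb30) (kb xb14 yb32 zb14) (kb xb6 yb49 zb33) (kb xb6 yb2 zb33) (kb xb20 yb51 zb52) (kb xb6 yb36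 zb32) (kb xb11 yb34 zb48) (kb xb6 yb25 zb44) (kb xb20 yb51 zb55) (kb xb6 yb2 zb40) (kb xb6 yb2 zb38) (kb xb9 yb7 zb30) (kb xb6 yb45 zb7) (kb xb20 yb46 zb28) (kb xb6 yb2 zb44) (kb xb6 yb2 zb45) (kb xb10 yb59 zb28) (kb xb6 yb6 zb56) (kb xb12 yb30 zb52) (kb xb6 yb2 zb47) (kb xb6 yb2 zb48) (kb xb10 yb48 zb5) (kb xb20 yb51 zb60) (kb xb17 yb53 zb46) (kb xb11 yb38 zb38) (kb xb11 yb41 zb56) (kb xb6 yb2 zb54) (kb xb12 yb8 zb0) (kb xb19 yb27 zb47) (kb xb13 yb38 zb53) (kb xb7 yb6 zb14) (kb xb13 yb50 zb7) (kb xb9 yb49 zb39) (kb xb6 yb2 zb58) (kb xb20 yb52 zb5) (kb xb11 yb35 zb40) (kb xb6 yb2 zb61) (kb xb19 yb43 zb34) (kb xb6 yb3 zb1) (kb xb6 yb3 zb2) (kb xb6 yb3 zb5) (kb xb20 yb52 zb9) (kb xb19 yb43 zb21)) (@D3.rec (fun _ => Pt) (kb xb11 yb27 zb48) (kb xb6 yb3 zb8) (kb xb17 yb58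 zb11) (kb xb17 yb7 zb18) (kb xb20 yb52 zb12) (kb xb6 yb3 zb11) (kb xb8 yb0 zb51) (kb xb20 yb52 zb14) (kb xb20 yb52 zb15) (kb xb20 yb52 zb17) (kb xb19 yb33 zb17) (kb xb17 yb13 zb17) (kb xb18 yb14 zb4) (kb xb11 yb56 zb47) (kb xb20 yb52 zb27) (kb xb20 yb48 zb41) (kb xb8 yb29 zb32) (kb xb20 yb52 zb31) (kb xb6 yb3 zb15) (kb xb20 yb52 zb37) (kb xb20 yb52 zb38) (kb xb6 yb3 zb23) (kb xb6 yb3 zb17) (kb xb11 yb21 zb35) (kb xb11 yb56 zb45) (kb xb11 yb40 zb20) (kb xb6 yb30 zb11) (kb xb20 yb52 zb44) (kb xb17 yb8 zb28) (kb xb6 yb3 zb22) (kb xb20 yb52 zb46) (kb xb8 yb49 zb31) (kb xb13 yb42 zb60) (kb xb8 yb51 zb39) (kb xb20 yb52 zb51) (kb xb14 yb10 zb19) (kb xb15 yb45 zb30) (kb xb13 yb9 zb21) (kb xb13 yb9 zb22) (kb xb20 yb42 zb17) (kb xb17 yb2 zb8) (kb xb6 yb3 zb35) (kb xb6 yb3 zb30)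 (kb xb9 yb40 zb38) (kb xb14 yb47 zb36) (kb xb6 yb3 zb32) (kb xb13 yb9 zb24) (kb xb6 yb3 zb37) (kb xb20 yb53 zb1) (kb xb6 yb40 zb39) (kb xb20 yb53 zb0) (kb xb12 yb24 zb48) (kb xb7 yb15 zb37) (kb xb14 yb52 zb41) (kb xb20 yb53 zb7) (kb xb20 yb29 zb23) (kb xb6 yb3 zb47) (kb xb15 yb25 zb35) (kb xb20 yb53 zb12) (kb xb14 yb47 zb11) (kb xb6 yb3 zb44) (kb xb20 yb53 zb18)) (@D3.rec (fun _ => Pt) (kb xb20 yb53 zb16) (kb xb20 yb53 zb17) (kb xb6 yb3 zb45) (kb xb20 yb53 zb21) (kb xb20 yb53 zb20) (kb xb9 yb11 zb19) (kb xb16 yb11 zb35) (kb xb20 yb53 zb22) (kb xb6 yb3 zb48) (kb xb6 yb55 zb48) (kb xb20 yb53 zb24) (kb xb14 yb52 zb39) (kb xb6 yb3 zb51) (kb xb16 yb17 zb57) (kb xb20 yb53 zb31) (kb xb20 yb53 zb32) (kb xb20 yb50 zb9) (kb xb11 yb42 zb13) (kb xb8 yb59 zb6) (kb xb13 yb45 zb58)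 (kb xb20 yb53 zb35) (kb xb17 yb8 zb52) (kb xb11 yb51 zb54) (kb xb6 yb3 zb56) (kb xb20 yb53 zb44) (kb xb20 yb53 zb45) (kb xb7 yb50 zb48) (kb xb20 yb53 zb46) (kb xb17 yb8 zb57) (kb xb6 yb3 zb59) (kb xb20 yb53 zb52) (kb xb14 yb47 zb54) (kb xb20 yb53 zb49) (kb xb7 yb51 zb10) (kb xb13 yb45 zb59) (kb xb13 yb45 zb60) (kb xb11 yb22 zb61) (kb xb20 yb54 zb3) (kb xb14 yb47 zb9) (kb xb9 yb4 zb24) (kb xb6 yb4 zb1) (kb xb15 yb25 zb25) (kb xb20 yb54 zb11) (kb xb6 yb4 zb2) (kb xb20 yb54 zb14) (kb xb20 yb54 zb15) (kb xb20 yb54 zb21) (kb xb20 yb54 zb24) (kb xb6 yb4 zb8) (kb xb20 yb54 zb27) (kb xb10 yb35 zb9) (kb xb6 yb4 zb5) (kb xb6 yb4 zb7) (kb xb11 yb8 zb21) (kb xb11 yb51 zb22) (kb xb6 yb4 zb12) (kb xb20 yb54 zb36) (kb xb20 yb25 zb10) (kb xb20 yb54 zb35) (kb xb6 yb4 zb15) (kb xb6 yb4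 zb16) (kb xb13 yb58 zb23)) (@D3.rec (fun _ => Pt) (kb xb20 yb54 zb40) (kb xb6 yb4 zb17) (kb xb20 yb54 zb45) (kb xb20 yb54 zb46) (kb xb7 yb49 zb28) (kb xb15 yb39 zb26) (kb xb20 yb54 zb53) (kb xb12 yb27 zb4) (kb xb9 yb46 zb2) (kb xb6 yb4 zb22) (kb xb20 yb54 zb57) (kb xb14 yb40 zb9) (kb xb20 yb54 zb59) (kb xb18 yb18 zb18) (kb xb6 yb4 zb23) (kb xb20 yb55 zb1) (kb xb6 yb4 zb24) (kb xb20 yb55 zb3) (kb xb10 yb28 zb43) (kb xb10 yb46 zb34) (kb xb6 yb4 zb26) (kb xb20 yb55 zb8) (kb xb10 yb30 zb35) (kb xb8 yb6 zb54) (kb xb6 yb4 zb28) (kb xb20 yb55 zb17) (kb xb20 yb55 zb18) (kb xb6 yb4 zb29) (kb xb11 yb53 zb60) (kb xb20 yb55 zb21) (kb xb20 yb55 zb26) (kb xb20 yb55 zb31) (kb xb6 yb5 zb17) (kb xb6 yb4 zb31) (kb xb6 yb4 zb32) (kb xb20 yb55 zb41) (kb xb12 yb54 zb12) (kb xb20 yb55 zb39)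 (kb xb20 yb55 zb40) (kb xb20 yb55 zb48) (kb xb6 yb4 zb48) (kb xb15 yb29 zb24) (kb xb8 yb28 zb43) (kb xb6 yb4 zb44) (kb xb6 yb4 zb36) (kb xb20 yb55 zb54) (kb xb8 yb38 zb4) (kb xb15 yb9 zb2) (kb xb6 yb4 zb38) (kb xb16 yb48 zb5) (kb xb6 yb4 zb39) (kb xb20 yb56 zb2) (kb xb16 yb38 zb5) (kb xb20 yb56 zb3) (kb xb6 yb4 zb41) (kb xb20 yb56 zb9) (kb xb20 yb56 zb10) (kb xb20 yb56 zb7) (kb xb20 yb56 zb8) (kb xb14 yb41 zb40) (kb xb11 yb39 zb16) (kb xb6 yb4 zb46)) (@D3.rec (fun _ => Pt) (kb xb20 yb55 zb49) (kb xb20 yb56 zb17) (kb xb20 yb56 zb19) (kb xb6 yb4 zb51) (kb xb6 yb4 zb52) (kb xb20 yb56 zb21) (kb xb20 yb56 zb30) (kb xb20 yb56 zb24) (kb xb20 yb56 zb25) (kb xb20 yb56 zb37) (kb xb20 yb56 zb39) (kb xb19 yb14 zb23) (kb xb8 yb28 zb49) (kb xb8 yb39 zb34) (kb xb6 yb5 zb1) (kb xb6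 yb4 zb58) (kb xb16 yb39 zb24) (kb xb6 yb4 zb59) (kb xb20 yb56 zb52) (kb xb20 yb56 zb54) (kb xb19 yb14 zb9) (kb xb19 yb14 zb26) (kb xb20 yb56 zb60) (kb xb10 yb33 zb61) (kb xb20 yb29 zb57) (kb xb6 yb6 zb15) (kb xb15 yb41 zb60) (kb xb8 yb16 zb3) (kb xb6 yb5 zb8) (kb xb12 yb54 zb41) (kb xb6 yb45 zb9) (kb xb10 yb37 zb15) (kb xb6 yb5 zb4) (kb xb6 yb5 zb5) (kb xb20 yb57 zb7) (kb xb20 yb38 zb55) (kb xb20 yb57 zb17) (kb xb20 yb57 zb9) (kb xb20 yb57 zb10) (kb xb11 yb57 zb55) (kb xb6 yb6 zb28) (kb xb20 yb57 zb23) (kb xb10 yb3 zb34) (kb xb20 yb57 zb27) (kb xb20 yb55 zb16) (kb xb6 yb5 zb11) (kb xb20 yb57 zb34) (kb xb11 yb54 zb5) (kb xb20 yb57 zb32) (kb xb20 yb57 zb33) (kb xb20 yb57 zb40) (kb xb16 yb42 zb27) (kb xb11 yb54 zb1) (kb xb7 yb58 zb2) (kb xb6 yb5 zb13) (kb xb6 yb5 zb14)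 (kb xb20 yb57 zb50) (kb xb20 yb57 zb51) (kb xb20 yb57 zb52) (kb xb20 yb55 zb24) (kb xb11 yb52 zb28) (kb xb6 yb5 zb15)) (@D3.rec (fun _ => Pt) (kb xb20 yb58 zb1) (kb xb11 yb53 zb52) (kb xb20 yb58 zb0) (kb xb16 yb11 zb33) (kb xb8 yb14 zb32) (kb xb11 yb53 zb47) (kb xb20 yb55 zb35) (kb xb16 yb42 zb26) (kb xb10 yb3 zb32) (kb xb20 yb58 zb14) (kb xb6 yb5 zb23) (kb xb6 yb5 zb24) (kb xb6 yb5 zb25) (kb xb6 yb5 zb20) (kb xb11 yb39 zb14) (kb xb6 yb5 zb21) (kb xb20 yb58 zb27) (kb xb6 yb5 zb22) (kb xb20 yb58 zb35) (kb xb19 yb40 zb44) (kb xb16 yb41 zb54) (kb xb20 yb58 zb19) (kb xb16 yb40 zb51) (kb xb20 yb58 zb45) (kb xb20 yb58 zb48) (kb xb16 yb40 zb52) (kb xb6 yb5 zb26) (kb xb20 yb58 zb55) (kb xb20 yb58 zb54) (kb xb20 yb58 zb58) (kb xb8 yb9 zb29) (kb xb6 yb5 zb28) (kb xb20 yb59 zb2)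 (kb xb6 yb5 zb29) (kb xb20 yb59 zb6) (kb xb20 yb59 zb8) (kb xb15 yb31 zb8) (kb xb6 yb5 zb31) (kb xb20 yb59 zb11) (kb xb20 yb59 zb16) (kb xb20 yb59 zb17) (kb xb20 yb28 zb40) (kb xb16 yb59 zb4) (kb xb20 yb59 zb19) (kb xb20 yb59 zb21) (kb xb8 yb13 zb19) (kb xb6 yb5 zb37) (kb xb20 yb59 zb26) (kb xb20 yb59 zb25) (kb xb6 yb5 zb38) (kb xb18 yb52 zb32) (kb xb10 yb43 zb23) (kb xb20 yb59 zb30) (kb xb11 yb31 zb1) (kb xb9 yb8 zb51) (kb xb6 yb5 zb42) (kb xb20 yb59 zb35) (kb xb9 yb40 zb10) (kb xb8 yb4 zb7) (kb xb8 yb4 zb8) (kb xb6 yb5 zb45) (kb xb6 yb5 zb46)) (@D3.rec (fun _ => Pt) (kb xb6 yb5 zb47) (kb xb20 yb59 zb45) (kb xb15 yb56 zb12) (kb xb6 yb5 zb49) (kb xb6 yb5 zb50) (kb xb20 yb59 zb53) (kb xb20 yb59 zb54) (kb xb20 yb59 zb50) (kb xb20 yb59 zb57) (kb xb20 yb59 zb52) (kb xb19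 yb58 zb42) (kb xb21 yb0 zb1) (kb xb21 yb0 zb3) (kb xb6 yb5 zb54) (kb xb21 yb0 zb7) (kb xb21 yb0 zb6) (kb xb6 yb50 zb22) (kb xb21 yb0 zb9) (kb xb6 yb5 zb58) (kb xb18 yb21 zb27) (kb xb6 yb5 zb59) (kb xb16 yb45 zb26) (kb xb15 yb31 zb21) (kb xb6 yb5 zb61) (kb xb6 yb6 zb0) (kb xb21 yb0 zb18) (kb xb21 yb0 zb21) (kb xb21 yb0 zb22) (kb xb21 yb0 zb19) (kb xb11 yb32 zb15) (kb xb6 yb6 zb1) (kb xb21 yb0 zb26) (kb xb21 yb0 zb25) (kb xb6 yb6 zb2) (kb xb21 yb0 zb28) (kb xb19 yb15 zb5) (kb xb6 yb6 zb4) (kb xb21 yb0 zb31) (kb xb21 yb0 zb30) (kb xb15 yb31 zb33) (kb xb10 yb44 zb16) (kb xb10 yb44 zb17) (kb xb21 yb0 zb36) (kb xb20 yb9 zb13) (kb xb6 yb6 zb12) (kb xb13 yb11 zb1) (kb xb6 yb6 zb10) (kb xb6 yb6 zb11) (kb xb16 yb31 zb7) (kb xb21 yb0 zb41) (kb xb20 yb29 zb59) (kb xb6 yb6 zb14)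 (kb xb6 yb37 zb61) (kb xb6 yb6 zb16) (kb xb6 yb6 zb17) (kb xb19 yb4 zb22) (kb xb21 yb0 zb49) (kb xb13 yb23 zb33) (kb xb6 yb6 zb19) (kb xb11 yb48 zb26) (kb xb11 yb32 zb13) (kb xb9 yb6 zb60)) (@D3.rec (fun _ => Pt) (kb xb14 yb29 zb1) (kb xb16 yb12 zb30) (kb xb21 yb0 zb53) (kb xb6 yb6 zb24) (kb xb21 yb0 zb54) (kb xb6 yb6 zb25) (kb xb15 yb56 zb19) (kb xb21 yb0 zb56) (kb xb9 yb44 zb47) (kb xb21 yb0 zb61) (kb xb6 yb6 zb31) (kb xb15 yb16 zb48) (kb xb15 yb52 zb44) (kb xb20 yb57 zb4) (kb xb21 yb1 zb2) (kb xb8 yb6 zb61) (kb xb8 yb7 zb0) (kb xb6 yb6 zb37) (kb xb21 yb1 zb7) (kb xb21 yb1 zb8) (kb xb12 yb9 zb18) (kb xb21 yb1 zb10) (kb xb19 yb56 zb25) (kb xb8 yb9 zb60) (kb xb10 yb45 zb10) (kb xb20 yb56 zb49) (kb xb12 yb54 zb40) (kb xb20 yb55 zb7) (kb xb6 yb6 zb42) (kb xb16 yb11 zb10)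 (kb xb21 yb1 zb22) (kb xb6 yb6 zb44) (kb xb19 yb3 zb4) (kb xb18 yb50 zb55) (kb xb10 yb45 zb36) (kb xb12 yb46 zb12) (kb xb13 yb9 zb60) (kb xb21 yb1 zb31) (kb xb20 yb42 zb18) (kb xb16 yb59 zb53) (kb xb16 yb59 zb54) (kb xb11 yb44 zb30) (kb xb6 yb46 zb4) (kb xb17 yb32 zb48) (kb xb12 yb9 zb30) (kb xb11 yb50 zb24) (kb xb6 yb6 zb53) (kb xb11 yb50 zb13) (kb xb6 yb6 zb57) (kb xb21 yb1 zb44) (kb xb6 yb6 zb58) (kb xb15 yb41 zb15) (kb xb21 yb1 zb49) (kb xb15 yb52 zb34) (kb xb6 yb6 zb60) (kb xb6 yb6 zb61) (kb xb15 yb58 zb45) (kb xb21 yb1 zb57) (kb xb21 yb1 zb58) (kb xb21 yb1 zb52) (kb xb11 yb40 zb1) (kb xb6 yb7 zb0)) (@D3.rec (fun _ => Pt) (kb xb21 yb2 zb0) (kb xb6 yb7 zb1) (kb xb21 yb2 zb2) (kb xb21 yb2 zb1) (kb xb21 yb2 zb6) (kb xb9 yb30 zb47) (kb xb6 yb7 zb4) (kb xb15 yb16 zb25)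 (kb xb9 yb6 zb37) (kb xb10 yb20 zb0) (kb xb9 yb42 zb43) (kb xb11 yb31 zb38) (kb xb6 yb7 zb9) (kb xb21 yb2 zb11) (kb xb21 yb2 zb13) (kb xb16 yb11 zb16) (kb xb6 yb7 zb13) (kb xb6 yb7 zb14) (kb xb21 yb2 zb18) (kb xb21 yb2 zb24) (kb xb21 yb2 zb20) (kb xb21 yb2 zb21) (kb xb21 yb2 zb30) (kb xb12 yb55 zb22) (kb xb11 yb9 zb57) (kb xb21 yb2 zb33) (kb xb6 yb7 zb20) (kb xb6 yb7 zb21) (kb xb11 yb3 zb13) (kb xb11 yb5 zb4) (kb xb19 yb25 zb9) (kb xb6 yb7 zb23) (kb xb19 yb22 zb19) (kb xb12 yb29 zb15) (kb xb11 yb7 zb4) (kb xb16 yb59 zb27) (kb xb16 yb10 zb35) (kb xb18 yb25 zb21) (kb xb9 yb25 zb13) (kb xb8 yb49 zb13) (kb xb8 yb10 zb44) (kb xb8 yb4 zb51) (kb xb18 yb24 zb13) (kb xb11 yb33 zb44) (kb xb17 yb7 zb47) (kb xb13 yb26 zb37) (kb xb21 yb2 zb48) (kb xb8 yb4 zb58) (kb xb8 yb4 zb59)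 (kb xb21 yb2 zb54) (kb xb17 yb32 zb1) (kb xb6 yb26 zb0) (kb xb6 yb50 zb9) (kb xb6 yb7 zb48) (kb xb6 yb7 zb49) (kb xb11 yb53 zb39) (kb xb6 yb7 zb46) (kb xb6 yb7 zb47) (kb xb6 yb50 zb7) (kb xb6 yb7 zb57) (kb xb6 yb7 zb56) (kb xb12 yb44 zb14)) (@D3.rec (fun _ => Pt) (kb xb17 yb9 zb34) (kb xb20 yb26 zb32) (kb xb12 yb30 zb24) (kb xb6 yb8 zb1) (kb xb6 yb8 zb0) (kb xb6 yb8 zb17) (kb xb21 yb3 zb7) (kb xb6 yb8 zb2) (kb xb12 yb31 zb31) (kb xb7 yb27 zb28) (kb xb10 yb7 zb18) (kb xb6 yb8 zb4) (kb xb19 yb34 zb11) (kb xb21 yb3 zb12) (kb xb10 yb54 zb53) (kb xb18 yb42 zb60) (kb xb10 yb45 zb42) (kb xb6 yb8 zb8) (kb xb6 yb8 zb29) (kb xb10 yb15 zb25) (kb xb20 yb33 zb34) (kb xb12 yb42 zb56) (kb xb12 yb32 zb26) (kb xb14 yb52 zb52) (kb xb6 yb55 zb32) (kb xb12 yb29 zb13) (kb xb21 yb3 zb8)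 (kb xb6 yb8 zb18) (kb xb6 yb8 zb19) (kb xb20 yb26 zb0) (kb xb6 yb8 zb27) (kb xb12 yb53 zb14) (kb xb16 yb57 zb38) (kb xb6 yb8 zb24) (kb xb6 yb8 zb25) (kb xb6 yb49 zb53) (kb xb21 yb3 zb21) (kb xb6 yb8 zb30) (kb xb15 yb4 zb26) (kb xb18 yb21 zb26) (kb xb9 yb17 zb54) (kb xb13 yb20 zb58) (kb xb12 yb10 zb27) (kb xb9 yb21 zb60) (kb xb6 yb8 zb37) (kb xb21 yb3 zb27) (kb xb14 yb38 zb51) (kb xb19 yb52 zb5) (kb xb12 yb11 zb21) (kb xb12 yb11 zb22) (kb xb6 yb8 zb39) (kb xb14 yb20 zb48) (kb xb6 yb8 zb40) (kb xb10 yb59 zb56) (kb xb21 yb3 zb40) (kb xb21 yb3 zb41) (kb xb11 yb2 zb24) (kb xb12 yb11 zb30) (kb xb21 yb3 zb47) (kb xb6 yb8 zb44) (kb xb21 yb3 zb49) (kb xb6 yb8 zb49)) (@D3.rec (fun _ => Pt) (kb xb6 yb8 zb50) (kb xb6 yb8 zb48) (kb xb21 yb3 zb52) (kb xb21 yb3 zb53) (kb xb12 yb49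 zb61) (kb xb18 yb24 zb11) (kb xb6 yb8 zb53) (kb xb15 yb43 zb27) (kb xb6 yb47 zb29) (kb xb12 yb13 zb32) (kb xb11 yb35 zb60) (kb xb13 yb1 zb50) (kb xb6 yb9 zb0) (kb xb13 yb1 zb52) (kb xb9 yb4 zb31) (kb xb11 yb18 zb28) (kb xb6 yb15 zb16) (kb xb6 yb9 zb6) (kb xb9 yb47 zb48) (kb xb6 yb53 zb49) (kb xb9 yb3 zb52) (kb xb21 yb4 zb2) (kb xb21 yb4 zb5) (kb xb11 yb24 zb6) (kb xb6 yb9 zb9) (kb xb20 yb36 zb23) (kb xb20 yb15 zb9) (kb xb20 yb18 zb38) (kb xb8 yb49 zb26) (kb xb16 yb52 zb40) (kb xb16 yb52 zb41) (kb xb6 yb9 zb12) (kb xb21 yb4 zb13) (kb xb19 yb0 zb33) (kb xb11 yb13 zb45) (kb xb21 yb4 zb17) (kb xb19 yb37 zb46) (kb xb17 yb1 zb9) (kb xb20 yb1 zb58) (kb xb6 yb9 zb16) (kb xb17 yb1 zb22) (kb xb10 yb19 zb52) (kb xb6 yb9 zb19) (kb xb8 yb25 zb2) (kb xb10 yb29 zb24) (kb xb6 yb9 zb24)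 (kb xb6 yb9 zb23) (kb xb21 yb4 zb29) (kb xb9 yb52 zb50) (kb xb9 yb19 zb18) (kb xb6 yb9 zb25) (kb xb20 yb4 zb3) (kb xb21 yb4 zb32) (kb xb9 yb35 zb38) (kb xb21 yb4 zb28) (kb xb6 yb9 zb27) (kb xb15 yb14 zb52) (kb xb21 yb4 zb37) (kb xb18 yb6 zb2) (kb xb6 yb9 zb28) (kb xb21 yb4 zb43) (kb xb17 yb14 zb6))
def f_b_12 : D2 → D3 → Pt := @D2.rec (fun _ => D3 → Pt) (@D3.rec (fun _ => Pt) (kb xb6 yb9 zb29) (kb xb21 yb4 zb50) (kb xb21 yb4 zb49) (kb xb6 yb11 zb7) (kb xb9 yb21 zb59) (kb xb21 yb4 zb54) (kb xb6 yb9 zb33) (kb xb21 yb4 zb59) (kb xb6 yb9 zb34) (kb xb21 yb5 zb1) (kb xb6 yb9 zb36) (kb xb21 yb5 zb5) (kb xb21 yb5 zb6) (kb xb6 yb9 zb37) (kb xb21 yb5 zb9) (kb xb21 yb5 zb10) (kb xb12 yb21 zb48) (kb xb21 yb5 zb16) (kb xb6 yb9 zb40) (kb xb21 yb5 zb21) (kb xb6 yb9 zb41) (kb xb21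 yb5 zb24) (kb xb9 yb33 zb39) (kb xb15 yb43 zb18) (kb xb21 yb5 zb25) (kb xb21 yb5 zb28) (kb xb21 yb5 zb0) (kb xb6 yb9 zb44) (kb xb21 yb5 zb33) (kb xb21 yb5 zb34) (kb xb14 yb31 zb33) (kb xb15 yb48 zb48) (kb xb15 yb48 zb50) (kb xb6 yb9 zb46) (kb xb21 yb5 zb45) (kb xb21 yb5 zb44) (kb xb12 yb31 zb28) (kb xb10 yb7 zb8) (kb xb6 yb9 zb49) (kb xb12 yb16 zb44) (kb xb21 yb5 zb51) (kb xb21 yb5 zb52) (kb xb6 yb37 zb10) (kb xb21 yb5 zb54) (kb xb6 yb9 zb54) (kb xb12 yb24 zb39) (kb xb21 yb5 zb59) (kb xb6 yb9 zb59) (kb xb21 yb6 zb1) (kb xb6 yb9 zb61) (kb xb6 yb10 zb0) (kb xb14 yb1 zb5) (kb xb21 yb6 zb11) (kb xb21 yb6 zb16) (kb xb16 yb6 zb6) (kb xb6 yb10 zb2) (kb xb6 yb10 zb3) (kb xb21 yb6 zb22) (kb xb21 yb6 zb24) (kb xb21 yb6 zb21) (kb xb6 yb10 zb4) (kb xb21 yb6 zb32)) (@D3.rec (fun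 _ => Pt) (kb xb6 yb10 zb5) (kb xb21 yb6 zb36) (kb xb21 yb6 zb38) (kb xb12 yb48 zb15) (kb xb6 yb10 zb7) (kb xb21 yb6 zb44) (kb xb7 yb24 zb38) (kb xb21 yb6 zb43) (kb xb6 yb10 zb8) (kb xb13 yb6 zb36) (kb xb16 yb59 zb44) (kb xb6 yb10 zb9) (kb xb7 yb32 zb8) (kb xb21 yb6 zb51) (kb xb6 yb10 zb55) (kb xb6 yb10 zb56) (kb xb6 yb10 zb13) (kb xb18 yb37 zb50) (kb xb6 yb10 zb15) (kb xb6 yb11 zb1) (kb xb11 yb38 zb19) (kb xb6 yb10 zb19) (kb xb6 yb10 zb17) (kb xb18 yb33 zb38) (kb xb21 yb6 zb57) (kb xb12 yb51 zb26) (kb xb12 yb23 zb55) (kb xb9 yb55 zb47) (kb xb17 yb0 zb17) (kb xb17 yb3 zb9) (kb xb14 yb12 zb31) (kb xb16 yb23 zb53) (kb xb7 yb2 zb7) (kb xb10 yb6 zb37) (kb xb11 yb38 zb28) (kb xb14 yb18 zb61) (kb xb17 yb2 zb21) (kb xb6 yb34 zb25) (kb xb6 yb10 zb34) (kb xb20 yb42 zb21) (kb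 xb17 yb3 zb18) (kb xb6 yb10 zb35) (kb xb6 yb10 zb36) (kb xb18 yb7 zb21) (kb xb21 yb7 zb2) (kb xb12 yb58 zb34) (kb xb20 yb42 zb23) (kb xb9 yb53 zb32) (kb xb21 yb7 zb8) (kb xb6 yb10 zb37) (kb xb21 yb7 zb14) (kb xb21 yb7 zb15) (kb xb6 yb10 zb39) (kb xb7 yb37 zb44) (kb xb6 yb10 zb40) (kb xb9 yb21 zb1) (kb xb7 yb33 zb53) (kb xb16 yb59 zb28) (kb xb21 yb7 zb18) (kb xb17 yb5 zb46) (kb xb6 yb39 zb52) (kb xb6 yb35 zb60)) (@D3.rec (fun _ => Pt) (kb xb17 yb13 zb15) (kb xb21 yb7 zb25) (kb xb9 yb48 zb30) (kb xb10 yb5 zb47) (kb xb21 yb7 zb26) (kb xb6 yb47 zb48) (kb xb6 yb40 zb60) (kb xb21 yb7 zb32) (kb xb6 yb47 zb46) (kb xb9 yb26 zb3) (kb xb21 yb6 zb49) (kb xb6 yb10 zb54) (kb xb21 yb7 zb35) (kb xb11 yb38 zb55) (kb xb18 yb43 zb45) (kb xb18 yb36 zb22) (kb xb18 yb36 zb46) (kb xb14 yb29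 zb51) (kb xb18 yb38 zb11) (kb xb11 yb36 zb60) (kb xb6 yb11 zb3) (kb xb6 yb11 zb4) (kb xb9 yb55 zb41) (kb xb10 yb0 zb14) (kb xb6 yb10 zb60) (kb xb18 yb39 zb15) (kb xb18 yb50 zb43) (kb xb9 yb59 zb40) (kb xb21 yb6 zb55) (kb xb21 yb6 zb56) (kb xb10 yb27 zb49) (kb xb12 yb27 zb49) (kb xb18 yb35 zb53) (kb xb20 yb20 zb60) (kb xb6 yb33 zb26) (kb xb6 yb11 zb8) (kb xb21 yb4 zb53) (kb xb20 yb19 zb60) (kb xb21 yb8 zb1) (kb xb21 yb8 zb2) (kb xb11 yb49 zb18) (kb xb6 yb17 zb53) (kb xb16 yb35 zb54) (kb xb17 yb9 zb46) (kb xb6 yb11 zb13) (kb xb6 yb49 zb1) (kb xb17 yb11 zb51) (kb xb10 yb0 zb31) (kb xb10 yb0 zb32) (kb xb12 yb33 zb34) (kb xb21 yb8 zb6) (kb xb18 yb50 zb35) (kb xb17 yb52 zb9) (kb xb6 yb11 zb19) (kb xb17 yb34 zb21) (kb xb19 yb17 zb45) (kb xb21 yb8 zb9) (kb xb17 yb52 zb10) (kb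 xb18 yb37 zb56) (kb xb9 yb56 zb9) (kb xb6 yb11 zb30) (kb xb6 yb11 zb31)) (@D3.rec (fun _ => Pt) (kb xb18 yb41 zb11) (kb xb21 yb8 zb10) (kb xb17 yb9 zb36) (kb xb21 yb8 zb13) (kb xb21 yb8 zb14) (kb xb6 yb11 zb32) (kb xb9 yb49 zb53) (kb xb16 yb2 zb56) (kb xb21 yb8 zb23) (kb xb18 yb50 zb48) (kb xb21 yb8 zb25) (kb xb6 yb11 zb42) (kb xb6 yb11 zb40) (kb xb9 yb49 zb55) (kb xb21 yb8 zb27) (kb xb16 yb3 zb47) (kb xb8 yb23 zb52) (kb xb21 yb8 zb30) (kb xb16 yb50 zb46) (kb xb6 yb11 zb43) (kb xb21 yb8 zb36) (kb xb6 yb11 zb45) (kb xb21 yb8 zb41) (kb xb6 yb11 zb46) (kb xb6 yb11 zb47) (kb xb21 yb8 zb47) (kb xb21 yb8 zb49) (kb xb14 yb54 zb41) (kb xb21 yb5 zb57) (kb xb6 yb11 zb49) (kb xb21 yb8 zb59) (kb xb9 yb5 zb6) (kb xb10 yb6 zb56) (kb xb13 yb58 zb50) (kb xb6 yb12 zb3) (kb xb21 yb9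 zb4) (kb xb18 yb43 zb35) (kb xb18 yb32 zb32) (kb xb21 yb9 zb6) (kb xb21 yb9 zb7) (kb xb15 yb0 zb9) (kb xb21 yb9 zb11) (kb xb10 yb21 zb48) (kb xb21 yb9 zb14) (kb xb6 yb11 zb61) (kb xb21 yb9 zb20) (kb xb17 yb34 zb1) (kb xb12 yb13 zb55) (kb xb9 yb5 zb5) (kb xb11 yb18 zb59) (kb xb11 yb44 zb51) (kb xb21 yb9 zb29) (kb xb21 yb9 zb30) (kb xb20 yb36 zb12) (kb xb6 yb12 zb4) (kb xb17 yb30 zb10) (kb xb6 yb12 zb7) (kb xb6 yb12 zb6) (kb xb21 yb9 zb32) (kb xb20 yb42 zb49) (kb xb6 yb12 zb10) (kb xb6 yb12 zb9)) (@D3.rec (fun _ => Pt) (kb xb20 yb42 zb47) (kb xb21 yb9 zb10) (kb xb6 yb12 zb12) (kb xb9 yb45 zb38) (kb xb16 yb48 zb18) (kb xb21 yb9 zb38) (kb xb7 yb59 zb17) (kb xb6 yb12 zb14) (kb xb17 yb7 zb36) (kb xb18 yb12 zb34) (kb xb21 yb9 zb40) (kb xb21 yb9 zb44) (kb xb17 yb12 zb36) (kb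 xb6 yb12 zb18) (kb xb8 yb24 zb61) (kb xb6 yb32 zb33) (kb xb6 yb12 zb20) (kb xb19 yb27 zb42) (kb xb8 yb59 zb51) (kb xb11 yb5 zb31) (kb xb6 yb12 zb26) (kb xb21 yb9 zb48) (kb xb18 yb25 zb52) (kb xb12 yb55 zb19) (kb xb6 yb12 zb30) (kb xb13 yb0 zb29) (kb xb6 yb12 zb31) (kb xb6 yb12 zb33) (kb xb21 yb9 zb51) (kb xb6 yb12 zb34) (kb xb21 yb9 zb53) (kb xb14 yb18 zb17) (kb xb6 yb12 zb37) (kb xb6 yb12 zb38) (kb xb10 yb30 zb51) (kb xb10 yb30 zb52) (kb xb21 yb9 zb57) (kb xb21 yb9 zb59) (kb xb6 yb12 zb43) (kb xb9 yb46 zb41) (kb xb6 yb12 zb45) (kb xb12 yb43 zb21) (kb xb6 yb12 zb46) (kb xb21 yb10 zb1) (kb xb6 yb12 zb48) (kb xb12 yb42 zb23) (kb xb20 yb27 zb1) (kb xb20 yb27 zb2) (kb xb12 yb37 zb12) (kb xb16 yb18 zb2) (kb xb6 yb12 zb54) (kb xb6 yb12 zb57) (kb xb16 yb1 zb42) (kb xb6 yb12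 zb60) (kb xb20 yb27 zb41) (kb xb16 yb14 zb0) (kb xb12 yb12 zb9) (kb xb6 yb13 zb0) (kb xb6 yb44 zb29) (kb xb6 yb13 zb1) (kb xb21 yb10 zb14) (kb xb21 yb10 zb12)) (@D3.rec (fun _ => Pt) (kb xb6 yb13 zb2) (kb xb14 yb11 zb22) (kb xb21 yb10 zb19) (kb xb8 yb3 zb33) (kb xb13 yb28 zb11) (kb xb21 yb10 zb26) (kb xb17 yb0 zb42) (kb xb21 yb10 zb28) (kb xb13 yb42 zb14) (kb xb21 yb10 zb33) (kb xb17 yb8 zb31) (kb xb6 yb13 zb8) (kb xb21 yb10 zb40) (kb xb21 yb10 zb39) (kb xb21 yb10 zb45) (kb xb20 yb31 zb27) (kb xb21 yb10 zb50) (kb xb21 yb10 zb52) (kb xb6 yb13 zb10) (kb xb17 yb1 zb12) (kb xb8 yb0 zb11) (kb xb8 yb46 zb40) (kb xb6 yb13 zb13) (kb xb21 yb11 zb1) (kb xb21 yb11 zb0) (kb xb9 yb48 zb11) (kb xb8 yb2 zb21) (kb xb11 yb29 zb26) (kb xb9 yb6 zb57) (kb xb21 yb11 zb9) (kb xb9 yb45 zb12)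 (kb xb11 yb32 zb1) (kb xb21 yb3 zb43) (kb xb9 yb48 zb48) (kb xb6 yb13 zb24) (kb xb8 yb2 zb20) (kb xb7 yb37 zb5) (kb xb20 yb22 zb52) (kb xb21 yb11 zb21) (kb xb6 yb13 zb26) (kb xb19 yb8 zb33) (kb xb19 yb48 zb29) (kb xb21 yb11 zb25) (kb xb6 yb13 zb27) (kb xb21 yb11 zb30) (kb xb18 yb2 zb32) (kb xb6 yb13 zb30) (kb xb21 yb11 zb35) (kb xb17 yb49 zb49) (kb xb9 yb51 zb17) (kb xb17 yb2 zb35) (kb xb8 yb1 zb17) (kb xb17 yb2 zb28) (kb xb21 yb11 zb42) (kb xb6 yb13 zb37) (kb xb20 yb35 zb53) (kb xb10 yb16 zb36) (kb xb6 yb13 zb35) (kb xb21 yb11 zb50) (kb xb21 yb11 zb51) (kb xb20 yb35 zb55) (kb xb21 yb11 zb55)) (@D3.rec (fun _ => Pt) (kb xb21 yb11 zb57) (kb xb16 yb27 zb3) (kb xb20 yb35 zb58) (kb xb6 yb13 zb39) (kb xb21 yb12 zb3) (kb xb6 yb13 zb40) (kb xb21 yb12 zb10) (kb xb21 yb12 zb11)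 (kb xb9 yb47 zb8) (kb xb8 yb48 zb58) (kb xb6 yb14 zb30) (kb xb10 yb39 zb13) (kb xb8 yb0 zb61) (kb xb6 yb13 zb47) (kb xb7 yb56 zb59) (kb xb16 yb29 zb24) (kb xb21 yb12 zb20) (kb xb16 yb28 zb11) (kb xb17 yb12 zb55) (kb xb19 yb50 zb5) (kb xb20 yb9 zb52) (kb xb20 yb6 zb29) (kb xb6 yb13 zb53) (kb xb13 yb30 zb29) (kb xb21 yb12 zb24) (kb xb14 yb1 zb54) (kb xb21 yb12 zb29) (kb xb12 yb46 zb31) (kb xb6 yb13 zb60) (kb xb17 yb45 zb42) (kb xb6 yb13 zb58) (kb xb18 yb49 zb15) (kb xb21 yb12 zb32) (kb xb18 yb19 zb48) (kb xb18 yb9 zb12) (kb xb16 yb19 zb25) (kb xb9 yb3 zb18) (kb xb6 yb14 zb0) (kb xb18 yb21 zb46) (kb xb21 yb12 zb40) (kb xb6 yb14 zb1) (kb xb21 yb12 zb43) (kb xb21 yb12 zb44) (kb xb8 yb43 zb44) (kb xb6 yb14 zb4) (kb xb21 yb12 zb49) (kb xb21 yb12 zb48) (kb xb21 yb12 zb53) (kb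 xb20 yb21 zb49) (kb xb11 yb32 zb57) (kb xb20 yb19 zb50) (kb xb17 yb15 zb34) (kb xb6 yb14 zb14) (kb xb6 yb14 zb12) (kb xb21 yb12 zb60) (kb xb21 yb12 zb61) (kb xb6 yb14 zb13) (kb xb21 yb13 zb3) (kb xb21 yb13 zb4) (kb xb21 yb13 zb6) (kb xb11 yb23 zb3) (kb xb9 yb14 zb48)) (@D3.rec (fun _ => Pt) (kb xb11 yb29 zb16) (kb xb21 yb13 zb13) (kb xb6 yb14 zb24) (kb xb6 yb14 zb25) (kb xb10 yb29 zb60) (kb xb10 yb13 zb11) (kb xb6 yb14 zb23) (kb xb16 yb35 zb11) (kb xb21 yb13 zb18) (kb xb10 yb16 zb53) (kb xb21 yb13 zb21) (kb xb9 yb39 zb49) (kb xb18 yb59 zb52) (kb xb19 yb20 zb32) (kb xb6 yb14 zb27) (kb xb11 yb13 zb33) (kb xb9 yb39 zb22) (kb xb8 yb52 zb49) (kb xb21 yb12 zb17) (kb xb7 yb8 zb18) (kb xb10 yb54 zb11) (kb xb10 yb39 zb37) (kb xb20 yb46 zb34) (kb xb13 yb51 zb31) (kb xb8 yb38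 zb53) (kb xb12 yb23 zb8) (kb xb18 yb18 zb29) (kb xb6 yb14 zb37) (kb xb21 yb13 zb37) (kb xb17 yb15 zb31) (kb xb16 yb35 zb48) (kb xb7 yb17 zb16) (kb xb9 yb17 zb49) (kb xb11 yb44 zb2) (kb xb20 yb6 zb12) (kb xb17 yb25 zb22) (kb xb16 yb24 zb43) (kb xb16 yb24 zb44) (kb xb6 yb14 zb42) (kb xb17 yb23 zb32) (kb xb21 yb13 zb54) (kb xb20 yb5 zb56) (kb xb6 yb14 zb43) (kb xb21 yb14 zb0) (kb xb13 yb32 zb8) (kb xb21 yb13 zb61) (kb xb21 yb14 zb6) (kb xb7 yb17 zb18) (kb xb6 yb14 zb58) (kb xb16 yb29 zb54) (kb xb15 yb3 zb47) (kb xb17 yb15 zb25) (kb xb8 yb49 zb48) (kb xb6 yb14 zb50) (kb xb6 yb14 zb51) (kb xb21 yb13 zb57) (kb xb14 yb55 zb0) (kb xb13 yb24 zb0) (kb xb21 yb13 zb59) (kb xb21 yb14 zb14) (kb xb11 yb0 zb23) (kb xb21 yb13 zb51)) (@D3.rec (fun _ => Pt) (kb xb11 yb49 zb46) (kb xb16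 yb31 zb47) (kb xb6 yb14 zb53) (kb xb6 yb14 zb54) (kb xb21 yb14 zb20) (kb xb21 yb14 zb4) (kb xb8 yb52 zb21) (kb xb16 yb51 zb40) (kb xb7 yb22 zb52) (kb xb11 yb22 zb1) (kb xb13 yb50 zb27) (kb xb6 yb14 zb56) (kb xb21 yb14 zb26) (kb xb21 yb14 zb25) (kb xb21 yb14 zb29) (kb xb13 yb38 zb19) (kb xb14 yb6 zb4) (kb xb13 yb25 zb19) (kb xb13 yb50 zb25) (kb xb11 yb23 zb1) (kb xb6 yb15 zb1) (kb xb11 yb6 zb11) (kb xb6 yb15 zb2) (kb xb7 yb14 zb40) (kb xb21 yb14 zb39) (kb xb14 yb27 zb26) (kb xb21 yb14 zb44) (kb xb13 yb50 zb20) (kb xb6 yb15 zb5) (kb xb7 yb17 zb37) (kb xb21 yb14 zb46) (kb xb14 yb6 zb3) (kb xb7 yb17 zb11) (kb xb21 yb14 zb52) (kb xb6 yb15 zb11) (kb xb12 yb10 zb59) (kb xb6 yb15 zb12) (kb xb6 yb15 zb13) (kb xb7 yb9 zb37) (kb xb21 yb14 zb55) (kb xb21 yb14 zb56) (kb xb21 yb15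 zb0) (kb xb9 yb19 zb49) (kb xb8 yb45 zb38) (kb xb6 yb15 zb15) (kb xb18 yb11 zb34) (kb xb21 yb15 zb2) (kb xb18 yb35 zb32) (kb xb16 yb35 zb39) (kb xb11 yb32 zb60) (kb xb6 yb15 zb21) (kb xb9 yb3 zb54) (kb xb11 yb6 zb44) (kb xb11 yb6 zb45) (kb xb21 yb15 zb11) (kb xb9 yb45 zb46) (kb xb6 yb15 zb31) (kb xb8 yb1 zb54) (kb xb16 yb21 zb41) (kb xb6 yb15 zb33) (kb xb21 yb15 zb16) (kb xb20 yb15 zb60)) (@D3.rec (fun _ => Pt) (kb xb11 yb24 zb39) (kb xb9 yb17 zb4) (kb xb11 yb40 zb12) (kb xb6 yb15 zb49) (kb xb6 yb15 zb50) (kb xb6 yb15 zb42) (kb xb7 yb59 zb58) (kb xb8 yb2 zb19) (kb xb6 yb15 zb41) (kb xb21 yb9 zb28) (kb xb21 yb15 zb25) (kb xb14 yb8 zb9) (kb xb11 yb15 zb38) (kb xb21 yb15 zb22) (kb xb9 yb45 zb33) (kb xb8 yb1 zb47) (kb xb21 yb15 zb32) (kb xb8 yb43 zb37) (kb xb11 yb56 zb20)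 (kb xb11 yb38 zb24) (kb xb11 yb22 zb23) (kb xb11 yb14 zb24) (kb xb16 yb52 zb54) (kb xb21 yb15 zb20) (kb xb9 yb3 zb16) (kb xb17 yb8 zb24) (kb xb11 yb7 zb8) (kb xb10 yb19 zb0) (kb xb16 yb24 zb16) (kb xb16 yb11 zb58) (kb xb11 yb56 zb44) (kb xb6 yb22 zb4) (kb xb9 yb9 zb60) (kb xb6 yb16 zb7) (kb xb9 yb22 zb56) (kb xb20 yb13 zb59) (kb xb18 yb26 zb4) (kb xb16 yb24 zb20) (kb xb16 yb24 zb21) (kb xb15 yb13 zb13) (kb xb15 yb26 zb24) (kb xb13 yb48 zb36) (kb xb15 yb13 zb1) (kb xb6 yb22 zb6) (kb xb11 yb24 zb30) (kb xb21 yb15 zb44) (kb xb17 yb5 zb13) (kb xb11 yb38 zb36) (kb xb11 yb38 zb37) (kb xb12 yb17 zb8) (kb xb10 yb2 zb54) (kb xb9 yb10 zb20) (kb xb7 yb27 zb31) (kb xb11 yb13 zb55) (kb xb11 yb8 zb1) (kb xb11 yb0 zb58) (kb xb6 yb16 zb37) (kb xb11 yb33 zb55) (kb xb9 yb23 zb21) (kb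 xb9 yb10 zb35) (kb xb11 yb8 zb7) (kb xb17 yb11 zb25)) (@D3.rec (fun _ => Pt) (kb xb11 yb15 zb25) (kb xb6 yb16 zb25) (kb xb21 yb15 zb51) (kb xb13 yb38 zb26) (kb xb13 yb38 zb27) (kb xb9 yb24 zb6) (kb xb8 yb58 zb37) (kb xb8 yb21 zb53) (kb xb21 yb15 zb54) (kb xb6 yb16 zb35) (kb xb6 yb16 zb34) (kb xb21 yb15 zb57) (kb xb6 yb16 zb46) (kb xb10 yb5 zb32) (kb xb21 yb15 zb56) (kb xb17 yb10 zb47) (kb xb17 yb12 zb59) (kb xb19 yb51 zb15) (kb xb9 yb25 zb54) (kb xb20 yb30 zb5) (kb xb6 yb16 zb39) (kb xb9 yb23 zb6) (kb xb20 yb9 zb33) (kb xb9 yb25 zb27) (kb xb7 yb2 zb18) (kb xb9 yb23 zb22) (kb xb6 yb16 zb42) (kb xb11 yb58 zb42) (kb xb9 yb16 zb22) (kb xb21 yb16 zb7) (kb xb17 yb31 zb32) (kb xb8 yb48 zb7) (kb xb17 yb34 zb4) (kb xb6 yb16 zb47) (kb xb8 yb49 zb37) (kb xb18 yb21 zb6) (kb xb6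 yb31 zb26) (kb xb8 yb50 zb1) (kb xb12 yb30 zb51) (kb xb20 yb9 zb49) (kb xb6 yb16 zb51) (kb xb14 yb29 zb48) (kb xb20 yb8 zb34) (kb xb6 yb16 zb52) (kb xb10 yb4 zb1) (kb xb7 yb26 zb48) (kb xb10 yb4 zb29) (kb xb6 yb16 zb56) (kb xb6 yb16 zb57) (kb xb13 yb6 zb43) (kb xb15 yb5 zb23) (kb xb11 yb41 zb16) (kb xb9 yb48 zb52) (kb xb11 yb34 zb4) (kb xb11 yb27 zb30) (kb xb6 yb17 zb3) (kb xb21 yb16 zb14) (kb xb11 yb27 zb40) (kb xb6 yb17 zb6) (kb xb12 yb8 zb35) (kb xb8 yb0 zb29) (kb xb11 yb1 zb5)) (@D3.rec (fun _ => Pt) (kb xb6 yb17 zb10) (kb xb21 yb16 zb17) (kb xb17 yb56 zb25) (kb xb8 yb56 zb51) (kb xb6 yb17 zb12) (kb xb6 yb27 zb52) (kb xb21 yb16 zb20) (kb xb6 yb17 zb19) (kb xb21 yb16 zb24) (kb xb7 yb33 zb59) (kb xb11 yb29 zb46) (kb xb6 yb17 zb21) (kb xb21 yb16 zb29) (kb xb20 yb37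 zb50) (kb xb21 yb16 zb27) (kb xb21 yb16 zb28) (kb xb19 yb20 zb42) (kb xb11 yb10 zb47) (kb xb6 yb17 zb24) (kb xb21 yb16 zb37) (kb xb19 yb17 zb52) (kb xb11 yb58 zb48) (kb xb11 yb58 zb49) (kb xb20 yb37 zb49) (kb xb6 yb17 zb27) (kb xb19 yb4 zb38) (kb xb21 yb16 zb47) (kb xb21 yb16 zb49) (kb xb14 yb36 zb21) (kb xb19 yb53 zb41) (kb xb11 yb58 zb57) (kb xb15 yb26 zb51) (kb xb21 yb16 zb54) (kb xb6 yb17 zb31) (kb xb19 yb9 zb31) (kb xb21 yb16 zb57) (kb xb17 yb52 zb25) (kb xb21 yb16 zb59) (kb xb21 yb16 zb61) (kb xb21 yb17 zb1) (kb xb6 yb17 zb36) (kb xb21 yb17 zb6) (kb xb6 yb17 zb38) (kb xb21 yb17 zb14) (kb xb21 yb17 zb15) (kb xb6 yb17 zb40) (kb xb21 yb17 zb20) (kb xb6 yb17 zb42) (kb xb21 yb17 zb25) (kb xb6 yb17 zb43) (kb xb21 yb17 zb29) (kb xb21 yb17 zb30) (kb xb21 yb17 zb31) (kb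 xb21 yb16 zb36) (kb xb6 yb17 zb45) (kb xb21 yb17 zb39) (kb xb21 yb17 zb41) (kb xb21 yb17 zb38) (kb xb20 yb22 zb38) (kb xb21 yb17 zb45) (kb xb6 yb17 zb48) (kb xb6 yb35 zb36)) (@D3.rec (fun _ => Pt) (kb xb8 yb14 zb60) (kb xb8 yb24 zb56) (kb xb21 yb17 zb47) (kb xb6 yb17 zb52) (kb xb8 yb42 zb5) (kb xb6 yb17 zb55) (kb xb8 yb42 zb3) (kb xb21 yb17 zb52) (kb xb12 yb12 zb60) (kb xb12 yb4 zb56) (kb xb6 yb17 zb60) (kb xb12 yb39 zb51) (kb xb12 yb39 zb19) (kb xb6 yb17 zb61) (kb xb21 yb17 zb58) (kb xb17 yb41 zb59) (kb xb6 yb18 zb0) (kb xb21 yb18 zb1) (kb xb21 yb18 zb0) (kb xb12 yb46 zb37) (kb xb17 yb22 zb61) (kb xb14 yb49 zb38) (kb xb21 yb18 zb11) (kb xb6 yb18 zb7) (kb xb21 yb18 zb17) (kb xb17 yb5 zb43) (kb xb12 yb46 zb40) (kb xb6 yb18 zb9) (kb xb12 yb46 zb38) (kb xb17 yb6 zb5) (kb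 xb21 yb18 zb20) (kb xb17 yb13 zb29) (kb xb6 yb18 zb12) (kb xb21 yb18 zb25) (kb xb17 yb0 zb11) (kb xb6 yb20 zb13) (kb xb6 yb18 zb14) (kb xb6 yb18 zb15) (kb xb21 yb18 zb27) (kb xb9 yb18 zb28) (kb xb21 yb16 zb46) (kb xb12 yb15 zb41) (kb xb6 yb18 zb20) (kb xb21 yb18 zb32) (kb xb12 yb27 zb35) (kb xb16 yb31 zb28) (kb xb11 yb40 zb15) (kb xb13 yb58 zb18) (kb xb6 yb33 zb57) (kb xb6 yb18 zb24) (kb xb21 yb18 zb36) (kb xb6 yb18 zb25) (kb xb21 yb18 zb40) (kb xb6 yb18 zb26) (kb xb20 yb5 zb48) (kb xb11 yb17 zb55) (kb xb17 yb35 zb36) (kb xb20 yb27 zb39) (kb xb20 yb27 zb40) (kb xb6 yb18 zb28) (kb xb12 yb12 zb8) (kb xb19 yb35 zb58)) (@D3.rec (fun _ => Pt) (kb xb21 yb18 zb53) (kb xb6 yb18 zb32) (kb xb21 yb4 zb46) (kb xb12 yb17 zb27) (kb xb19 yb5 zb60) (kb xb10 yb14 zb29) (kb xb21 yb18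 zb56) (kb xb12 yb17 zb33) (kb xb21 yb18 zb58) (kb xb8 yb23 zb12) (kb xb6 yb18 zb39) (kb xb14 yb56 zb2) (kb xb6 yb18 zb41) (kb xb21 yb19 zb5) (kb xb21 yb19 zb6) (kb xb12 yb17 zb26) (kb xb8 yb21 zb1) (kb xb6 yb18 zb43) (kb xb21 yb19 zb10) (kb xb21 yb19 zb11) (kb xb6 yb18 zb45) (kb xb21 yb19 zb16) (kb xb8 yb22 zb49) (kb xb21 yb19 zb19) (kb xb21 yb19 zb21) (kb xb21 yb18 zb31) (kb xb6 yb18 zb48) (kb xb8 yb20 zb56) (kb xb13 yb56 zb44) (kb xb21 yb19 zb27) (kb xb13 yb24 zb60) (kb xb6 yb18 zb49) (kb xb11 yb59 zb9) (kb xb21 yb19 zb34) (kb xb21 yb19 zb37) (kb xb12 yb26 zb55) (kb xb6 yb18 zb54) (kb xb6 yb18 zb55) (kb xb21 yb19 zb42) (kb xb6 yb18 zb56) (kb xb21 yb19 zb45) (kb xb6 yb18 zb57) (kb xb21 yb19 zb49) (kb xb21 yb19 zb48) (kb xb21 yb19 zb53) (kb xb6 yb18 zb59) (kb xb21 yb19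 zb57) (kb xb21 yb19 zb59) (kb xb8 yb36 zb40) (kb xb19 yb0 zb47) (kb xb6 yb18 zb61) (kb xb21 yb20 zb1) (kb xb13 yb9 zb1) (kb xb9 yb20 zb42) (kb xb9 yb20 zb12) (kb xb12 yb3 zb47) (kb xb11 yb22 zb31) (kb xb12 yb17 zb35) (kb xb9 yb18 zb37) (kb xb9 yb20 zb41) (kb xb8 yb22 zb26) (kb xb16 yb6 zb43)) (@D3.rec (fun _ => Pt) (kb xb6 yb34 zb52) (kb xb6 yb19 zb19) (kb xb6 yb19 zb20) (kb xb21 yb20 zb8) (kb xb21 yb20 zb9) (kb xb21 yb20 zb10) (kb xb12 yb43 zb12) (kb xb6 yb19 zb23) (kb xb9 yb20 zb39) (kb xb10 yb5 zb55) (kb xb11 yb38 zb20) (kb xb6 yb19 zb31) (kb xb6 yb19 zb32) (kb xb6 yb19 zb30) (kb xb21 yb20 zb13) (kb xb21 yb20 zb14) (kb xb6 yb19 zb33) (kb xb21 yb20 zb16) (kb xb6 yb19 zb35) (kb xb21 yb20 zb17) (kb xb6 yb19 zb38) (kb xb21 yb20 zb19) (kb xb6 yb19 zb41) (kb xb14 yb11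 zb17) (kb xb21 yb20 zb18) (kb xb18 yb0 zb18) (kb xb6 yb19 zb39) (kb xb6 yb19 zb40) (kb xb21 yb20 zb27) (kb xb6 yb19 zb45) (kb xb6 yb19 zb44) (kb xb12 yb19 zb46) (kb xb6 yb26 zb50) (kb xb6 yb19 zb51) (kb xb6 yb19 zb52) (kb xb11 yb19 zb46) (kb xb20 yb9 zb42) (kb xb17 yb58 zb10) (kb xb12 yb34 zb17) (kb xb6 yb19 zb58) (kb xb6 yb19 zb59) (kb xb21 yb20 zb30) (kb xb21 yb20 zb31) (kb xb6 yb19 zb61) (kb xb21 yb20 zb34) (kb xb18 yb24 zb34) (kb xb16 yb59 zb26) (kb xb6 yb20 zb3) (kb xb11 yb42 zb12) (kb xb21 yb20 zb37) (kb xb6 yb20 zb2) (kb xb18 yb25 zb27) (kb xb21 yb20 zb38) (kb xb12 yb45 zb39) (kb xb6 yb20 zb5) (kb xb17 yb33 zb31) (kb xb6 yb34 zb31) (kb xb6 yb20 zb8) (kb xb21 yb20 zb40) (kb xb13 yb1 zb3) (kb xb17 yb2 zb22) (kb xb7 yb27 zb8)) (@D3.rec (fun _ => Pt) (kb xb6 yb35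 zb7) (kb xb20 yb51 zb23) (kb xb6 yb20 zb14) (kb xb14 yb12 zb29) (kb xb6 yb33 zb55) (kb xb17 yb23 zb42) (kb xb12 yb28 zb49) (kb xb20 yb20 zb21) (kb xb6 yb20 zb15) (kb xb21 yb20 zb44) (kb xb6 yb20 zb19) (kb xb6 yb20 zb20) (kb xb6 yb34 zb26) (kb xb21 yb20 zb46) (kb xb20 yb51 zb26) (kb xb17 yb12 zb30) (kb xb18 yb25 zb1) (kb xb6 yb20 zb22) (kb xb18 yb0 zb14) (kb xb21 yb20 zb47) (kb xb17 yb59 zb16) (kb xb6 yb20 zb24) (kb xb21 yb3 zb4) (kb xb8 yb0 zb41) (kb xb17 yb4 zb37) (kb xb21 yb20 zb48) (kb xb15 yb3 zb26) (kb xb7 yb44 zb44) (kb xb21 yb20 zb24) (kb xb12 yb32 zb24) (kb xb6 yb20 zb30) (kb xb20 yb51 zb36) (kb xb21 yb20 zb26) (kb xb6 yb41 zb60) (kb xb6 yb20 zb32) (kb xb6 yb20 zb33) (kb xb20 yb5 zb29) (kb xb6 yb20 zb34) (kb xb17 yb10 zb10) (kb xb14 yb13 zb55) (kb xb6 yb21 zb58)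 (kb xb12 yb12 zb41) (kb xb10 yb51 zb61) (kb xb6 yb20 zb41) (kb xb21 yb21 zb2) (kb xb10 yb53 zb24) (kb xb6 yb20 zb46) (kb xb21 yb21 zb3) (kb xb6 yb29 zb48) (kb xb6 yb21 zb30) (kb xb8 yb33 zb23) (kb xb17 yb50 zb32) (kb xb6 yb20 zb49) (kb xb14 yb11 zb38) (kb xb8 yb18 zb55) (kb xb6 yb20 zb51) (kb xb21 yb21 zb7) (kb xb13 yb15 zb16) (kb xb15 yb36 zb6) (kb xb15 yb36 zb7) (kb xb6 yb22 zb57) (kb xb13 yb15 zb19)) (@D3.rec (fun _ => Pt) (kb xb6 yb20 zb57) (kb xb16 yb0 zb37) (kb xb16 yb0 zb38) (kb xb7 yb20 zb3) (kb xb12 yb16 zb12) (kb xb21 yb19 zb43) (kb xb6 yb21 zb2) (kb xb6 yb48 zb35) (kb xb9 yb12 zb33) (kb xb18 yb10 zb29) (kb xb20 yb44 zb7) (kb xb6 yb26 zb30) (kb xb12 yb16 zb4) (kb xb21 yb21 zb15) (kb xb9 yb49 zb50) (kb xb12 yb53 zb42) (kb xb11 yb48 zb60) (kb xb18 yb14 zb2)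 (kb xb11 yb47 zb0) (kb xb15 yb25 zb47) (kb xb9 yb50 zb0) (kb xb9 yb50 zb1) (kb xb21 yb21 zb26) (kb xb21 yb21 zb29) (kb xb21 yb21 zb34) (kb xb6 yb21 zb13) (kb xb6 yb21 zb12) (kb xb21 yb21 zb38) (kb xb21 yb21 zb41) (kb xb8 yb23 zb9) (kb xb6 yb21 zb14) (kb xb21 yb21 zb43) (kb xb8 yb23 zb44) (kb xb21 yb21 zb47) (kb xb15 yb47 zb26) (kb xb13 yb54 zb20) (kb xb6 yb21 zb16) (kb xb21 yb21 zb53) (kb xb21 yb21 zb54) (kb xb14 yb55 zb34) (kb xb12 yb20 zb4) (kb xb6 yb21 zb20) (kb xb6 yb21 zb21) (kb xb6 yb21 zb22) (kb xb12 yb0 zb39) (kb xb21 yb21 zb60) (kb xb6 yb21 zb24) (kb xb17 yb5 zb11) (kb xb21 yb22 zb1) (kb xb6 yb21 zb26) (kb xb14 yb11 zb52) (kb xb6 yb21 zb28) (kb xb6 yb21 zb29) (kb xb21 yb22 zb9) (kb xb7 yb36 zb42) (kb xb21 yb22 zb6) (kb xb21 yb22 zb15) (kb xb6 yb21 zb31) (kb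 xb16 yb16 zb38) (kb xb10 yb53 zb20) (kb xb21 yb22 zb17) (kb xb6 yb21 zb32)) (@D3.rec (fun _ => Pt) (kb xb21 yb22 zb22) (kb xb17 yb25 zb43) (kb xb6 yb21 zb36) (kb xb21 yb22 zb25) (kb xb20 yb51 zb38) (kb xb11 yb28 zb53) (kb xb11 yb28 zb54) (kb xb20 yb27 zb30) (kb xb12 yb9 zb49) (kb xb6 yb21 zb42) (kb xb21 yb22 zb29) (kb xb6 yb21 zb44) (kb xb21 yb22 zb33) (kb xb6 yb21 zb45) (kb xb21 yb22 zb37) (kb xb21 yb22 zb38) (kb xb18 yb25 zb41) (kb xb17 yb13 zb46) (kb xb6 yb21 zb47) (kb xb6 yb21 zb48) (kb xb17 yb59 zb45) (kb xb6 yb21 zb49) (kb xb9 yb13 zb56) (kb xb21 yb22 zb48) (kb xb6 yb21 zb51) (kb xb9 yb35 zb53) (kb xb12 yb13 zb15) (kb xb12 yb13 zb3) (kb xb6 yb21 zb54) (kb xb13 yb1 zb42) (kb xb12 yb30 zb16) (kb xb20 yb22 zb54) (kb xb21 yb22 zb52) (kb xb12 yb13 zb7) (kb xb21 yb22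 zb54) (kb xb12 yb13 zb57) (kb xb21 yb22 zb56) (kb xb6 yb21 zb59) (kb xb21 yb22 zb60) (kb xb21 yb22 zb61) (kb xb7 yb48 zb54) (kb xb17 yb22 zb35) (kb xb21 yb23 zb2) (kb xb6 yb22 zb1) (kb xb21 yb20 zb51) (kb xb12 yb43 zb30) (kb xb9 yb23 zb45) (kb xb21 yb23 zb3) (kb xb6 yb22 zb5) (kb xb21 yb23 zb4) (kb xb15 yb48 zb1) (kb xb17 yb13 zb55) (kb xb6 yb22 zb8) (kb xb6 yb22 zb9) (kb xb6 yb22 zb10) (kb xb21 yb23 zb17) (kb xb6 yb22 zb12) (kb xb21 yb23 zb20) (kb xb12 yb50 zb48) (kb xb6 yb22 zb14) (kb xb14 yb36 zb13) (kb xb6 yb22 zb16)) (@D3.rec (fun _ => Pt) (kb xb21 yb23 zb27) (kb xb21 yb23 zb29) (kb xb14 yb57 zb24) (kb xb11 yb19 zb36) (kb xb6 yb22 zb18) (kb xb20 yb13 zb10) (kb xb13 yb0 zb12) (kb xb6 yb42 zb57) (kb xb6 yb22 zb20) (kb xb21 yb23 zb42) (kb xb21 yb23 zb43) (kb xb21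 yb23 zb44) (kb xb17 yb13 zb59) (kb xb6 yb37 zb17) (kb xb6 yb22 zb23) (kb xb8 yb18 zb36) (kb xb21 yb23 zb51) (kb xb21 yb23 zb52) (kb xb6 yb22 zb24) (kb xb21 yb23 zb59) (kb xb15 yb47 zb51) (kb xb21 yb24 zb0) (kb xb21 yb24 zb3) (kb xb21 yb24 zb7) (kb xb6 yb22 zb30) (kb xb6 yb22 zb27) (kb xb21 yb24 zb15) (kb xb6 yb22 zb28) (kb xb6 yb22 zb29) (kb xb21 yb24 zb16) (kb xb21 yb24 zb12) (kb xb17 yb42 zb0) (kb xb6 yb22 zb32) (kb xb21 yb24 zb21) (kb xb6 yb22 zb33) (kb xb21 yb24 zb26) (kb xb16 yb4 zb19) (kb xb13 yb2 zb8) (kb xb13 yb2 zb1) (kb xb15 yb42 zb60) (kb xb6 yb22 zb36) (kb xb21 yb24 zb31) (kb xb21 yb24 zb33) (kb xb21 yb24 zb34) (kb xb21 yb24 zb20) (kb xb6 yb22 zb38) (kb xb21 yb24 zb40) (kb xb21 yb24 zb39) (kb xb6 yb22 zb39) (kb xb13 yb25 zb61) (kb xb21 yb24 zb45) (kb xb6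 yb22 zb40) (kb xb21 yb24 zb51) (kb xb21 yb24 zb50) (kb xb17 yb13 zb23) (kb xb21 yb24 zb56) (kb xb21 yb24 zb58) (kb xb6 yb22 zb43) (kb xb15 yb49 zb30) (kb xb6 yb22 zb45) (kb xb21 yb25 zb0) (kb xb12 yb27 zb5)) (@D3.rec (fun _ => Pt) (kb xb6 yb22 zb47) (kb xb21 yb25 zb5) (kb xb15 yb47 zb19) (kb xb7 yb9 zb58) (kb xb6 yb22 zb49) (kb xb21 yb25 zb9) (kb xb19 yb17 zb0) (kb xb6 yb22 zb51) (kb xb21 yb25 zb13) (kb xb6 yb22 zb52) (kb xb21 yb25 zb15) (kb xb21 yb25 zb16) (kb xb18 yb4 zb11) (kb xb21 yb25 zb20) (kb xb21 yb25 zb4) (kb xb6 yb22 zb54) (kb xb6 yb22 zb55) (kb xb21 yb25 zb28) (kb xb21 yb25 zb30) (kb xb21 yb25 zb27) (kb xb21 yb25 zb36) (kb xb18 yb7 zb52) (kb xb18 yb3 zb42) (kb xb18 yb7 zb15) (kb xb21 yb25 zb38) (kb xb17 yb14 zb23) (kb xb21 yb25 zb40) (kb xb8 yb23 zb43) (kb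 xb6 yb22 zb59) (kb xb21 yb25 zb45) (kb xb21 yb25 zb43) (kb xb6 yb22 zb60) (kb xb15 yb49 zb9) (kb xb15 yb49 zb25) (kb xb17 yb14 zb27) (kb xb12 yb23 zb29) (kb xb21 yb25 zb53) (kb xb6 yb23 zb3) (kb xb6 yb23 zb4) (kb xb6 yb23 zb1) (kb xb6 yb23 zb2) (kb xb6 yb23 zb5) (kb xb9 yb37 zb29) (kb xb6 yb23 zb7) (kb xb6 yb23 zb8) (kb xb18 yb9 zb61) (kb xb12 yb14 zb31) (kb xb6 yb59 zb25) (kb xb6 yb23 zb10) (kb xb6 yb23 zb11) (kb xb21 yb26 zb1) (kb xb14 yb57 zb56) (kb xb16 yb17 zb43) (kb xb6 yb23 zb13) (kb xb6 yb23 zb14) (kb xb21 yb26 zb6) (kb xb21 yb26 zb10) (kb xb21 yb26 zb12) (kb xb21 yb26 zb8) (kb xb21 yb26 zb9) (kb xb21 yb26 zb13) (kb xb12 yb25 zb32)) (@D3.rec (fun _ => Pt) (kb xb6 yb23 zb16) (kb xb21 yb26 zb15) (kb xb6 yb23 zb18) (kb xb21 yb26 zb16) (kb xb12 yb16 zb40) (kb xb21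 yb6 zb53) (kb xb21 yb26 zb24) (kb xb6 yb23 zb22) (kb xb6 yb23 zb23) (kb xb6 yb23 zb26) (kb xb21 yb26 zb28) (kb xb13 yb0 zb2) (kb xb21 yb17 zb56) (kb xb9 yb52 zb53) (kb xb6 yb23 zb29) (kb xb6 yb23 zb30) (kb xb6 yb23 zb31) (kb xb6 yb23 zb28) (kb xb8 yb5 zb30) (kb xb7 yb55 zb45) (kb xb21 yb26 zb36) (kb xb21 yb26 zb31) (kb xb17 yb13 zb20) (kb xb21 yb7 zb11) (kb xb6 yb34 zb42) (kb xb17 yb14 zb30) (kb xb13 yb0 zb15) (kb xb8 yb22 zb51) (kb xb6 yb23 zb34) (kb xb6 yb23 zb35) (kb xb8 yb22 zb52) (kb xb18 yb36 zb33) (kb xb21 yb26 zb40) (kb xb12 yb58 zb39) (kb xb21 yb26 zb41) (kb xb20 yb42 zb24) (kb xb8 yb35 zb61) (kb xb6 yb23 zb37) (kb xb21 yb26 zb47) (kb xb21 yb26 zb45) (kb xb6 yb23 zb38) (kb xb18 yb36 zb37) (kb xb21 yb26 zb51) (kb xb21 yb26 zb53) (kb xb6 yb26 zb25) (kb xb21 yb26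 zb55) (kb xb21 yb26 zb57) (kb xb6 yb23 zb43) (kb xb6 yb23 zb41) (kb xb6 yb23 zb42) (kb xb6 yb23 zb44) (kb xb6 yb23 zb45) (kb xb16 yb48 zb15) (kb xb16 yb29 zb48) (kb xb6 yb23 zb51) (kb xb6 yb23 zb50) (kb xb21 yb27 zb0) (kb xb6 yb23 zb53) (kb xb21 yb27 zb4) (kb xb6 yb23 zb54) (kb xb21 yb27 zb9) (kb xb6 yb23 zb55)) (@D3.rec (fun _ => Pt) (kb xb15 yb33 zb33) (kb xb15 yb35 zb37) (kb xb21 yb27 zb3) (kb xb6 yb23 zb57) (kb xb6 yb23 zb58) (kb xb21 yb27 zb20) (kb xb21 yb27 zb16) (kb xb21 yb27 zb19) (kb xb6 yb23 zb59) (kb xb21 yb27 zb27) (kb xb14 yb3 zb19) (kb xb6 yb23 zb60) (kb xb21 yb27 zb31) (kb xb21 yb27 zb30) (kb xb13 yb37 zb53) (kb xb21 yb27 zb35) (kb xb21 yb27 zb38) (kb xb6 yb24 zb1) (kb xb21 yb27 zb42) (kb xb6 yb24 zb3) (kb xb21 yb27 zb46) (kb xb6 yb24 zb9) (kb xb6 yb48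 zb14) (kb xb6 yb24 zb5) (kb xb21 yb27 zb52) (kb xb20 yb6 zb41) (kb xb21 yb27 zb55) (kb xb21 yb27 zb45) (kb xb6 yb24 zb7) (kb xb6 yb24 zb8) (kb xb21 yb27 zb60) (kb xb21 yb28 zb5) (kb xb21 yb28 zb7) (kb xb21 yb28 zb1) (kb xb17 yb33 zb27) (kb xb21 yb28 zb13) (kb xb6 yb41 zb22) (kb xb15 yb47 zb28) (kb xb6 yb24 zb12) (kb xb21 yb28 zb18) (kb xb21 yb28 zb17) (kb xb6 yb24 zb13) (kb xb21 yb28 zb23) (kb xb21 yb28 zb22) (kb xb17 yb14 zb56) (kb xb21 yb28 zb27) (kb xb21 yb28 zb30) (kb xb8 yb21 zb9) (kb xb12 yb0 zb16) (kb xb21 yb20 zb11) (kb xb21 yb7 zb31) (kb xb21 yb28 zb33) (kb xb6 yb24 zb20) (kb xb6 yb24 zb21) (kb xb14 yb45 zb14) (kb xb21 yb28 zb36) (kb xb20 yb31 zb41) (kb xb20 yb31 zb42) (kb xb6 yb24 zb28) (kb xb6 yb36 zb26) (kb xb16 yb24 zb19) (kb xb16 yb12 zb1)) (@D3.rec (fun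 _ => Pt) (kb xb18 yb40 zb51) (kb xb16 yb11 zb57) (kb xb20 yb15 zb37) (kb xb6 yb24 zb34) (kb xb6 yb24 zb35) (kb xb9 yb44 zb42) (kb xb6 yb24 zb37) (kb xb21 yb28 zb50) (kb xb16 yb53 zb13) (kb xb16 yb24 zb54) (kb xb13 yb39 zb9) (kb xb10 yb3 zb41) (kb xb21 yb28 zb56) (kb xb10 yb13 zb48) (kb xb10 yb3 zb42) (kb xb13 yb41 zb50) (kb xb6 yb24 zb41) (kb xb21 yb21 zb16) (kb xb21 yb29 zb0) (kb xb20 yb8 zb49) (kb xb6 yb24 zb42) (kb xb20 yb8 zb46) (kb xb16 yb24 zb30) (kb xb20 yb30 zb3) (kb xb6 yb24 zb55) (kb xb8 yb47 zb2) (kb xb14 yb59 zb25) (kb xb17 yb8 zb25) (kb xb6 yb24 zb53) (kb xb6 yb24 zb48) (kb xb21 yb29 zb11) (kb xb20 yb1 zb15) (kb xb21 yb29 zb16) (kb xb19 yb53 zb9) (kb xb18 yb19 zb53) (kb xb16 yb46 zb10) (kb xb16 yb24 zb8) (kb xb6 yb24 zb51) (kb xb6 yb24 zb52) (kb xb21 yb29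 zb27) (kb xb7 yb56 zb53) (kb xb21 yb29 zb2) (kb xb21 yb29 zb25) (kb xb21 yb29 zb26) (kb xb21 yb29 zb32) (kb xb20 yb19 zb35) (kb xb16 yb46 zb9) (kb xb21 yb29 zb36) (kb xb21 yb29 zb39) (kb xb7 yb28 zb60) (kb xb7 yb28 zb61) (kb xb20 yb6 zb20) (kb xb20 yb13 zb36) (kb xb21 yb28 zb41) (kb xb21 yb29 zb7) (kb xb20 yb13 zb61) (kb xb6 yb24 zb58) (kb xb17 yb31 zb34) (kb xb20 yb35 zb45) (kb xb16 yb30 zb46) (kb xb15 yb7 zb17) (kb xb15 yb8 zb6)) (@D3.rec (fun _ => Pt) (kb xb6 yb24 zb60) (kb xb7 yb0 zb3) (kb xb13 yb57 zb12) (kb xb15 yb8 zb7) (kb xb6 yb25 zb1) (kb xb21 yb29 zb61) (kb xb21 yb30 zb2) (kb xb20 yb22 zb26) (kb xb12 yb7 zb25) (kb xb11 yb21 zb39) (kb xb8 yb48 zb55) (kb xb6 yb25 zb5) (kb xb21 yb30 zb10) (kb xb21 yb30 zb12) (kb xb9 yb14 zb50) (kb xb16 yb25 zb18) (kb xb6 yb25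 zb7) (kb xb21 yb7 zb40) (kb xb21 yb30 zb16) (kb xb12 yb28 zb5) (kb xb12 yb43 zb44) (kb xb12 yb43 zb45) (kb xb20 yb51 zb54) (kb xb11 yb34 zb49) (kb xb9 yb49 zb15) (kb xb6 yb25 zb17) (kb xb12 yb43 zb24) (kb xb12 yb42 zb27) (kb xb10 yb5 zb56) (kb xb12 yb19 zb35) (kb xb21 yb20 zb12) (kb xb19 yb26 zb22) (kb xb11 yb34 zb58) (kb xb21 yb30 zb35) (kb xb11 yb16 zb60) (kb xb6 yb25 zb21) (kb xb21 yb30 zb40) (kb xb17 yb6 zb15) (kb xb10 yb4 zb28) (kb xb11 yb28 zb42) (kb xb6 yb35 zb38) (kb xb13 yb58 zb36) (kb xb14 yb20 zb10) (kb xb6 yb39 zb0) (kb xb6 yb45 zb21) (kb xb6 yb25 zb30) (kb xb6 yb25 zb32) (kb xb21 yb30 zb42) (kb xb9 yb45 zb56) (kb xb6 yb25 zb34) (kb xb21 yb30 zb46) (kb xb21 yb30 zb50) (kb xb21 yb13 zb9) (kb xb11 yb34 zb14) (kb xb9 yb21 zb39) (kb xb12 yb1 zb26) (kb xb6 yb25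 zb45) (kb xb21 yb30 zb52) (kb xb17 yb14 zb32) (kb xb12 yb24 zb29) (kb xb21 yb30 zb53) (kb xb6 yb26 zb24)) (@D3.rec (fun _ => Pt) (kb xb14 yb23 zb43) (kb xb13 yb1 zb31) (kb xb21 yb30 zb54) (kb xb6 yb25 zb53) (kb xb6 yb25 zb54) (kb xb15 yb5 zb15) (kb xb18 yb14 zb7) (kb xb6 yb56 zb29) (kb xb6 yb49 zb29) (kb xb6 yb33 zb53) (kb xb6 yb33 zb54) (kb xb11 yb14 zb27) (kb xb7 yb1 zb22) (kb xb6 yb26 zb2) (kb xb12 yb42 zb15) (kb xb7 yb48 zb49) (kb xb21 yb30 zb58) (kb xb6 yb26 zb6) (kb xb6 yb26 zb7) (kb xb6 yb26 zb8) (kb xb21 yb31 zb5) (kb xb21 yb7 zb5) (kb xb15 yb48 zb14) (kb xb6 yb26 zb10) (kb xb8 yb41 zb37) (kb xb6 yb26 zb13) (kb xb15 yb24 zb13) (kb xb21 yb31 zb13) (kb xb21 yb31 zb16) (kb xb12 yb23 zb59) (kb xb6 yb26 zb15) (kb xb21 yb31 zb21) (kb xb21 yb26 zb35) (kb xb17 yb16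 zb34) (kb xb6 yb26 zb19) (kb xb21 yb31 zb26) (kb xb17 yb13 zb25) (kb xb21 yb31 zb29) (kb xb21 yb21 zb10) (kb xb12 yb0 zb45) (kb xb6 yb26 zb22) (kb xb21 yb25 zb41) (kb xb21 yb31 zb36) (kb xb21 yb31 zb37) (kb xb6 yb26 zb23) (kb xb9 yb32 zb59) (kb xb21 yb31 zb41) (kb xb21 yb26 zb54) (kb xb11 yb50 zb51) (kb xb17 yb38 zb32) (kb xb18 yb23 zb27) (kb xb12 yb49 zb14) (kb xb6 yb26 zb29) (kb xb10 yb22 zb23) (kb xb19 yb43 zb0) (kb xb21 yb31 zb48) (kb xb21 yb31 zb50) (kb xb6 yb26 zb31) (kb xb21 yb31 zb52) (kb xb21 yb31 zb53) (kb xb6 yb26 zb32) (kb xb17 yb53 zb60)) (@D3.rec (fun _ => Pt) (kb xb6 yb26 zb33) (kb xb18 yb23 zb19) (kb xb19 yb47 zb4) (kb xb9 yb49 zb21) (kb xb17 yb53 zb45) (kb xb21 yb31 zb59) (kb xb11 yb22 zb28) (kb xb6 yb26 zb36) (kb xb17 yb56 zb34) (kb xb6 yb26 zb37)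 (kb xb21 yb32 zb2) (kb xb6 yb26 zb38) (kb xb21 yb32 zb6) (kb xb6 yb26 zb39) (kb xb6 yb26 zb40) (kb xb21 yb32 zb14) (kb xb21 yb32 zb17) (kb xb14 yb54 zb30) (kb xb6 yb26 zb42) (kb xb6 yb26 zb43) (kb xb11 yb31 zb32) (kb xb14 yb49 zb49) (kb xb6 yb26 zb45) (kb xb21 yb32 zb23) (kb xb21 yb32 zb25) (kb xb6 yb26 zb49) (kb xb21 yb32 zb30) (kb xb9 yb43 zb1) (kb xb14 yb21 zb54) (kb xb20 yb14 zb51) (kb xb14 yb54 zb12) (kb xb21 yb32 zb34) (kb xb12 yb19 zb61) (kb xb6 yb26 zb52) (kb xb7 yb4 zb48) (kb xb11 yb27 zb10) (kb xb10 yb18 zb3) (kb xb21 yb32 zb38) (kb xb17 yb53 zb42) (kb xb21 yb32 zb41) (kb xb6 yb26 zb60) (kb xb21 yb32 zb44) (kb xb17 yb0 zb31) (kb xb6 yb26 zb61) (kb xb6 yb26 zb59) (kb xb21 yb32 zb43) (kb xb21 yb7 zb37) (kb xb17 yb16 zb9) (kb xb6 yb27 zb1) (kb xb6 yb27 zb2) (kb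 xb17 yb38 zb45) (kb xb12 yb29 zb28) (kb xb7 yb48 zb53) (kb xb6 yb27 zb4) (kb xb21 yb32 zb51) (kb xb21 yb32 zb52) (kb xb21 yb32 zb54) (kb xb7 yb20 zb42) (kb xb6 yb27 zb8) (kb xb21 yb32 zb56) (kb xb14 yb3 zb21) (kb xb21 yb32 zb57)) (@D3.rec (fun _ => Pt) (kb xb12 yb52 zb53) (kb xb6 yb27 zb13) (kb xb6 yb27 zb14) (kb xb21 yb32 zb59) (kb xb21 yb32 zb60) (kb xb17 yb16 zb12) (kb xb6 yb38 zb5) (kb xb21 yb33 zb4) (kb xb17 yb16 zb14) (kb xb6 yb43 zb58) (kb xb6 yb27 zb19) (kb xb8 yb37 zb9) (kb xb21 yb33 zb11) (kb xb6 yb27 zb20) (kb xb21 yb33 zb18) (kb xb21 yb33 zb15) (kb xb21 yb33 zb16) (kb xb21 yb33 zb17) (kb xb6 yb27 zb21) (kb xb21 yb33 zb26) (kb xb21 yb33 zb27) (kb xb17 yb16 zb20) (kb xb21 yb33 zb32) (kb xb20 yb12 zb36) (kb xb13 yb54 zb16) (kb xb6 yb27 zb27) (kb xb6 yb27 zb25)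 (kb xb6 yb27 zb26) (kb xb17 yb42 zb1) (kb xb6 yb34 zb56) (kb xb6 yb27 zb29) (kb xb21 yb33 zb40) (kb xb7 yb31 zb34) (kb xb6 yb59 zb7) (kb xb6 yb27 zb31) (kb xb6 yb27 zb34) (kb xb12 yb26 zb45) (kb xb6 yb27 zb36) (kb xb6 yb27 zb37) (kb xb18 yb30 zb9) (kb xb21 yb33 zb54) (kb xb21 yb33 zb39) (kb xb6 yb27 zb39) (kb xb6 yb27 zb40) (kb xb7 yb29 zb45) (kb xb12 yb26 zb36) (kb xb21 yb22 zb49) (kb xb21 yb34 zb1) (kb xb21 yb34 zb3) (kb xb6 yb27 zb44) (kb xb17 yb44 zb3) (kb xb16 yb0 zb9) (kb xb6 yb27 zb45) (kb xb8 yb41 zb39) (kb xb21 yb34 zb7) (kb xb12 yb13 zb35) (kb xb21 yb34 zb11) (kb xb8 yb39 zb61) (kb xb6 yb27 zb48) (kb xb6 yb27 zb49) (kb xb13 yb1 zb9) (kb xb6 yb27 zb50)) (@D3.rec (fun _ => Pt) (kb xb6 yb27 zb51) (kb xb21 yb34 zb18) (kb xb6 yb27 zb53) (kb xb21 yb34 zb23) (kb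 xb11 yb52 zb7) (kb xb12 yb18 zb61) (kb xb8 yb35 zb33) (kb xb15 yb46 zb7) (kb xb8 yb34 zb31) (kb xb6 yb27 zb56) (kb xb21 yb34 zb29) (kb xb21 yb34 zb31) (kb xb21 yb34 zb34) (kb xb21 yb34 zb14) (kb xb6 yb27 zb58) (kb xb21 yb34 zb38) (kb xb6 yb27 zb59) (kb xb21 yb34 zb42) (kb xb6 yb27 zb60) (kb xb17 yb16 zb28) (kb xb21 yb26 zb49) (kb xb21 yb34 zb46) (kb xb6 yb28 zb2) (kb xb21 yb34 zb50) (kb xb10 yb0 zb6) (kb xb6 yb28 zb1) (kb xb17 yb50 zb54) (kb xb17 yb5 zb6) (kb xb17 yb16 zb25) (kb xb21 yb26 zb44) (kb xb21 yb34 zb59) (kb xb6 yb28 zb4) (kb xb10 yb15 zb17) (kb xb6 yb28 zb6) (kb xb12 yb43 zb25) (kb xb12 yb12 zb44) (kb xb6 yb28 zb8) (kb xb11 yb12 zb13) (kb xb6 yb28 zb10) (kb xb6 yb28 zb11) (kb xb9 yb47 zb27) (kb xb7 yb31 zb3) (kb xb18 yb24 zb60) (kb xb6 yb28 zb12) (kb xb12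 yb40 zb52) (kb xb14 yb37 zb29) (kb xb6 yb28 zb13) (kb xb18 yb25 zb2) (kb xb6 yb28 zb16) (kb xb12 yb2 zb31) (kb xb6 yb30 zb17) (kb xb15 yb49 zb14) (kb xb18 yb24 zb46) (kb xb6 yb28 zb27) (kb xb6 yb28 zb22) (kb xb21 yb35 zb5) (kb xb18 yb25 zb28) (kb xb6 yb28 zb26) (kb xb6 yb28 zb28) (kb xb20 yb38 zb3) (kb xb6 yb30 zb30) (kb xb7 yb31 zb12)) (@D3.rec (fun _ => Pt) (kb xb6 yb28 zb33) (kb xb6 yb29 zb61) (kb xb6 yb35 zb40) (kb xb6 yb28 zb42) (kb xb18 yb25 zb44) (kb xb12 yb23 zb19) (kb xb6 yb28 zb45) (kb xb6 yb28 zb46) (kb xb9 yb49 zb10) (kb xb21 yb35 zb9) (kb xb21 yb21 zb37) (kb xb6 yb28 zb43) (kb xb6 yb28 zb44) (kb xb21 yb35 zb14) (kb xb7 yb44 zb35) (kb xb16 yb56 zb60) (kb xb6 yb28 zb51) (kb xb20 yb37 zb57) (kb xb9 yb8 zb41) (kb xb6 yb28 zb56) (kb xb6 yb28 zb57) (kb xb6 yb28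 zb59) (kb xb12 yb39 zb38) (kb xb12 yb41 zb3) (kb xb6 yb29 zb1) (kb xb6 yb29 zb2) (kb xb12 yb36 zb54) (kb xb9 yb11 zb20) (kb xb21 yb35 zb3) (kb xb6 yb31 zb18) (kb xb6 yb29 zb4) (kb xb6 yb29 zb5) (kb xb21 yb35 zb24) (kb xb7 yb31 zb18) (kb xb7 yb31 zb19) (kb xb14 yb13 zb2) (kb xb14 yb13 zb3) (kb xb6 yb30 zb14) (kb xb6 yb29 zb57) (kb xb6 yb29 zb49) (kb xb6 yb29 zb30) (kb xb6 yb29 zb15) (kb xb6 yb29 zb11) (kb xb6 yb29 zb12) (kb xb21 yb35 zb31) (kb xb9 yb31 zb34) (kb xb21 yb35 zb32) (kb xb6 yb29 zb14) (kb xb9 yb9 zb22) (kb xb12 yb15 zb6) (kb xb6 yb29 zb17) (kb xb21 yb4 zb4) (kb xb9 yb15 zb7) (kb xb18 yb38 zb30) (kb xb20 yb15 zb38) (kb xb10 yb16 zb44) (kb xb20 yb14 zb8) (kb xb19 yb48 zb45) (kb xb20 yb22 zb4) (kb xb20 yb22 zb5) (kb xb6 yb29 zb24) (kb xb18 yb0 zb30)) (@D3.rec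 (fun _ => Pt) (kb xb21 yb35 zb47) (kb xb6 yb29 zb25) (kb xb21 yb35 zb50) (kb xb20 yb0 zb49) (kb xb20 yb12 zb54) (kb xb6 yb29 zb29) (kb xb21 yb35 zb53) (kb xb10 yb5 zb61) (kb xb13 yb6 zb35) (kb xb6 yb29 zb35) (kb xb8 yb14 zb55) (kb xb21 yb35 zb56) (kb xb20 yb22 zb59) (kb xb11 yb58 zb25) (kb xb11 yb31 zb47) (kb xb11 yb57 zb33) (kb xb6 yb29 zb41) (kb xb21 yb35 zb59) (kb xb21 yb35 zb60) (kb xb21 yb11 zb15) (kb xb19 yb16 zb9) (kb xb11 yb32 zb3) (kb xb21 yb36 zb6) (kb xb6 yb29 zb47) (kb xb21 yb36 zb7) (kb xb21 yb36 zb8) (kb xb6 yb29 zb51) (kb xb18 yb15 zb15) (kb xb12 yb25 zb51) (kb xb17 yb35 zb2) (kb xb12 yb35 zb42) (kb xb6 yb29 zb55) (kb xb6 yb29 zb56) (kb xb21 yb36 zb16) (kb xb21 yb36 zb19) (kb xb17 yb38 zb53) (kb xb21 yb36 zb13) (kb xb21 yb36 zb27) (kb xb18 yb0 zb26) (kb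 xb20 yb25 zb21) (kb xb6 yb29 zb59) (kb xb6 yb30 zb2) (kb xb11 yb36 zb39) (kb xb21 yb36 zb30) (kb xb11 yb31 zb49) (kb xb20 yb22 zb56) (kb xb20 yb32 zb58) (kb xb6 yb30 zb5) (kb xb21 yb36 zb33) (kb xb17 yb16 zb38) (kb xb6 yb30 zb7) (kb xb21 yb20 zb28) (kb xb6 yb59 zb27) (kb xb7 yb31 zb53) (kb xb9 yb5 zb3) (kb xb12 yb31 zb61) (kb xb19 yb43 zb20) (kb xb16 yb31 zb40) (kb xb19 yb43 zb9) (kb xb15 yb26 zb17) (kb xb18 yb43 zb32) (kb xb16 yb56 zb61)) (@D3.rec (fun _ => Pt) (kb xb8 yb35 zb40) (kb xb6 yb30 zb20) (kb xb14 yb4 zb39) (kb xb9 yb48 zb35) (kb xb9 yb48 zb36) (kb xb17 yb53 zb38) (kb xb21 yb36 zb41) (kb xb8 yb57 zb57) (kb xb20 yb26 zb17) (kb xb20 yb22 zb47) (kb xb6 yb30 zb25) (kb xb6 yb30 zb24) (kb xb6 yb30 zb26) (kb xb9 yb47 zb58) (kb xb21 yb36 zb48) (kb xb6 yb30 zb34)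 (kb xb12 yb17 zb30) (kb xb11 yb31 zb0) (kb xb14 yb13 zb50) (kb xb6 yb30 zb41) (kb xb7 yb13 zb43) (kb xb6 yb30 zb46) (kb xb11 yb21 zb10) (kb xb17 yb22 zb33) (kb xb11 yb58 zb2) (kb xb11 yb27 zb8) (kb xb11 yb48 zb13) (kb xb6 yb30 zb55) (kb xb6 yb30 zb56) (kb xb6 yb46 zb48) (kb xb20 yb12 zb14) (kb xb21 yb36 zb56) (kb xb6 yb30 zb57) (kb xb10 yb49 zb36) (kb xb21 yb36 zb59) (kb xb18 yb7 zb40) (kb xb6 yb30 zb60) (kb xb21 yb37 zb0) (kb xb17 yb43 zb26) (kb xb6 yb31 zb0) (kb xb6 yb31 zb1) (kb xb21 yb37 zb8) (kb xb6 yb31 zb2) (kb xb21 yb37 zb12) (kb xb21 yb31 zb17) (kb xb14 yb4 zb36) (kb xb6 yb31 zb4) (kb xb16 yb33 zb27) (kb xb21 yb37 zb14) (kb xb15 yb19 zb50) (kb xb6 yb31 zb6) (kb xb12 yb10 zb38) (kb xb11 yb49 zb37) (kb xb9 yb18 zb3) (kb xb6 yb31 zb10) (kb xb21 yb37 zb19) (kb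 xb6 yb31 zb11) (kb xb10 yb18 zb49) (kb xb21 yb37 zb20) (kb xb20 yb19 zb56) (kb xb6 yb31 zb14) (kb xb6 yb31 zb13)) (@D3.rec (fun _ => Pt) (kb xb21 yb37 zb24) (kb xb21 yb15 zb27) (kb xb6 yb31 zb15) (kb xb20 yb4 zb30) (kb xb21 yb35 zb20) (kb xb20 yb19 zb14) (kb xb6 yb31 zb27) (kb xb19 yb27 zb39) (kb xb14 yb31 zb37) (kb xb6 yb31 zb25) (kb xb10 yb48 zb13) (kb xb16 yb52 zb12) (kb xb20 yb0 zb26) (kb xb6 yb31 zb28) (kb xb17 yb8 zb44) (kb xb6 yb31 zb29) (kb xb11 yb47 zb32) (kb xb6 yb31 zb34) (kb xb20 yb19 zb25) (kb xb6 yb31 zb40) (kb xb21 yb37 zb28) (kb xb21 yb37 zb29) (kb xb6 yb31 zb43) (kb xb21 yb37 zb31) (kb xb16 yb17 zb25) (kb xb12 yb36 zb4) (kb xb8 yb49 zb8) (kb xb6 yb31 zb46) (kb xb12 yb0 zb36) (kb xb21 yb37 zb34) (kb xb7 yb57 zb17) (kb xb11 yb58 zb8) (kb xb9 yb9 zb32)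 (kb xb7 yb22 zb18) (kb xb6 yb31 zb50) (kb xb21 yb37 zb40) (kb xb21 yb37 zb42) (kb xb6 yb31 zb51) (kb xb21 yb37 zb39) (kb xb6 yb31 zb52) (kb xb6 yb31 zb57) (kb xb6 yb31 zb58) (kb xb21 yb37 zb44) (kb xb6 yb38 zb61) (kb xb9 yb9 zb26) (kb xb7 yb2 zb15) (kb xb6 yb31 zb61) (kb xb7 yb59 zb31) (kb xb19 yb48 zb31) (kb xb6 yb32 zb1) (kb xb21 yb37 zb54) (kb xb21 yb37 zb52) (kb xb21 yb37 zb53) (kb xb6 yb32 zb2) (kb xb21 yb12 zb26) (kb xb19 yb33 zb45) (kb xb21 yb37 zb57) (kb xb20 yb25 zb16) (kb xb21 yb28 zb49) (kb xb9 yb1 zb54) (kb xb18 yb24 zb51) (kb xb12 yb29 zb55)) (@D3.rec (fun _ => Pt) (kb xb6 yb32 zb6) (kb xb6 yb32 zb7) (kb xb8 yb50 zb32) (kb xb21 yb38 zb2) (kb xb21 yb38 zb3) (kb xb18 yb24 zb57) (kb xb21 yb38 zb7) (kb xb6 yb32 zb10) (kb xb21 yb38 zb8) (kb xb16 yb31 zb38) (kb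 xb8 yb46 zb51) (kb xb6 yb32 zb12) (kb xb21 yb38 zb11) (kb xb20 yb20 zb29) (kb xb8 yb0 zb16) (kb xb21 yb37 zb25) (kb xb6 yb32 zb17) (kb xb6 yb32 zb18) (kb xb21 yb38 zb19) (kb xb8 yb46 zb33) (kb xb21 yb38 zb16) (kb xb21 yb38 zb18) (kb xb6 yb32 zb20) (kb xb21 yb38 zb22) (kb xb12 yb15 zb29) (kb xb8 yb25 zb45) (kb xb11 yb58 zb22) (kb xb21 yb7 zb41) (kb xb6 yb32 zb27) (kb xb20 yb25 zb52) (kb xb21 yb38 zb23) (kb xb6 yb32 zb29) (kb xb21 yb38 zb27) (kb xb21 yb38 zb29) (kb xb21 yb38 zb32) (kb xb21 yb38 zb36) (kb xb20 yb39 zb55) (kb xb21 yb38 zb42) (kb xb21 yb7 zb60) (kb xb11 yb45 zb32) (kb xb20 yb39 zb57) (kb xb21 yb38 zb43) (kb xb6 yb32 zb32) (kb xb13 yb3 zb23) (kb xb21 yb38 zb46) (kb xb21 yb38 zb47) (kb xb12 yb53 zb33) (kb xb12 yb58 zb21) (kb xb21 yb33 zb25) (kb xb20 yb40 zb0)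 (kb xb20 yb40 zb1) (kb xb6 yb32 zb38) (kb xb14 yb54 zb6) (kb xb6 yb32 zb41) (kb xb12 yb34 zb42) (kb xb11 yb44 zb35) (kb xb6 yb32 zb45) (kb xb6 yb32 zb46) (kb xb21 yb38 zb52) (kb xb21 yb38 zb55) (kb xb13 yb0 zb61) (kb xb12 yb35 zb20)) (@D3.rec (fun _ => Pt) (kb xb6 yb32 zb49) (kb xb6 yb32 zb50) (kb xb21 yb38 zb57) (kb xb15 yb25 zb3) (kb xb21 yb39 zb0) (kb xb6 yb32 zb52) (kb xb21 yb39 zb4) (kb xb6 yb32 zb53) (kb xb11 yb44 zb31) (kb xb6 yb32 zb57) (kb xb21 yb39 zb7) (kb xb6 yb32 zb58) (kb xb12 yb34 zb54) (kb xb21 yb39 zb11) (kb xb21 yb39 zb13) (kb xb21 yb39 zb14) (kb xb21 yb39 zb16) (kb xb6 yb32 zb60) (kb xb6 yb32 zb61) (kb xb6 yb33 zb1) (kb xb21 yb39 zb26) (kb xb9 yb33 zb7) (kb xb6 yb33 zb3) (kb xb21 yb39 zb29) (kb xb21 yb39 zb30) (kb xb6 yb33 zb4) (kb xb21 yb39 zb36)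 (kb xb21 yb39 zb37) (kb xb21 yb39 zb41) (kb xb15 yb38 zb53) (kb xb6 yb33 zb6) (kb xb21 yb39 zb48) (kb xb21 yb39 zb50) (kb xb14 yb11 zb60) (kb xb12 yb2 zb49) (kb xb11 yb36 zb0) (kb xb14 yb22 zb38) (kb xb6 yb33 zb10) (kb xb7 yb3 zb48) (kb xb21 yb39 zb56) (kb xb7 yb30 zb13) (kb xb11 yb41 zb43) (kb xb7 yb31 zb13) (kb xb6 yb33 zb12) (kb xb21 yb39 zb58) (kb xb6 yb33 zb13) (kb xb21 yb39 zb59) (kb xb21 yb39 zb60) (kb xb6 yb33 zb16) (kb xb21 yb39 zb61) (kb xb21 yb40 zb0) (kb xb21 yb40 zb1) (kb xb6 yb33 zb18) (kb xb6 yb33 zb21) (kb xb19 yb47 zb42) (kb xb6 yb33 zb22) (kb xb7 yb42 zb9) (kb xb21 yb40 zb5) (kb xb7 yb42 zb11) (kb xb6 yb33 zb28) (kb xb7 yb35 zb42) (kb xb21 yb40 zb12)) (@D3.rec (fun _ => Pt) (kb xb13 yb9 zb53) (kb xb13 yb43 zb14) (kb xb6 yb55 zb29) (kb xb21 yb40 zb18)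 (kb xb6 yb33 zb31) (kb xb21 yb40 zb22) (kb xb7 yb34 zb3) (kb xb6 yb33 zb34) (kb xb13 yb3 zb26) (kb xb20 yb50 zb42) (kb xb21 yb40 zb23) (kb xb7 yb0 zb13) (kb xb8 yb25 zb20) (kb xb6 yb33 zb39) (kb xb17 yb21 zb45) (kb xb21 yb40 zb29) (kb xb6 yb33 zb40) (kb xb12 yb14 zb38) (kb xb21 yb40 zb31) (kb xb21 yb40 zb35) (kb xb21 yb40 zb39) (kb xb6 yb33 zb42) (kb xb6 yb33 zb43) (kb xb18 yb38 zb23) (kb xb21 yb40 zb44) (kb xb6 yb33 zb44) (kb xb21 yb40 zb48) (kb xb10 yb33 zb9) (kb xb7 yb25 zb32) (kb xb16 yb7 zb9) (kb xb6 yb33 zb49) (kb xb21 yb40 zb53) (kb xb21 yb40 zb54) (kb xb21 yb40 zb56) (kb xb10 yb32 zb37) (kb xb6 yb41 zb45) (kb xb6 yb33 zb52) (kb xb21 yb41 zb0) (kb xb21 yb30 zb55) (kb xb11 yb12 zb38) (kb xb20 yb34 zb24) (kb xb21 yb7 zb1) (kb xb12 yb32 zb54) (kb xb21 yb41 zb5)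 (kb xb13 yb20 zb29) (kb xb15 yb49 zb41) (kb xb12 yb52 zb40) (kb xb20 yb6 zb55) (kb xb18 yb6 zb7) (kb xb7 yb1 zb13) (kb xb7 yb30 zb45) (kb xb6 yb34 zb6) (kb xb21 yb41 zb13) (kb xb7 yb1 zb35) (kb xb12 yb33 zb12) (kb xb21 yb41 zb21) (kb xb6 yb34 zb9) (kb xb18 yb7 zb50) (kb xb7 yb37 zb36) (kb xb11 yb45 zb18) (kb xb9 yb57 zb7) (kb xb7 yb2 zb10)) (@D3.rec (fun _ => Pt) (kb xb7 yb38 zb16) (kb xb6 yb34 zb16) (kb xb20 yb34 zb19) (kb xb6 yb34 zb17) (kb xb20 yb37 zb58) (kb xb21 yb41 zb29) (kb xb12 yb41 zb1) (kb xb14 yb11 zb50) (kb xb6 yb34 zb22) (kb xb12 yb39 zb8) (kb xb17 yb3 zb8) (kb xb11 yb41 zb10) (kb xb6 yb34 zb24) (kb xb15 yb49 zb55) (kb xb18 yb50 zb52) (kb xb6 yb34 zb27) (kb xb7 yb31 zb42) (kb xb21 yb31 zb3) (kb xb20 yb34 zb17) (kb xb13 yb52 zb56) (kb xb12 yb32 zb61) (kb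 xb6 yb34 zb30) (kb xb20 yb25 zb1) (kb xb21 yb41 zb43) (kb xb11 yb26 zb20) (kb xb21 yb41 zb47) (kb xb21 yb20 zb39) (kb xb17 yb3 zb12) (kb xb18 yb37 zb9) (kb xb18 yb37 zb10) (kb xb6 yb34 zb33) (kb xb17 yb16 zb27) (kb xb21 yb20 zb52) (kb xb18 yb26 zb9) (kb xb8 yb40 zb12) (kb xb21 yb42 zb0) (kb xb17 yb33 zb24) (kb xb18 yb50 zb22) (kb xb21 yb42 zb3) (kb xb15 yb48 zb24) (kb xb20 yb28 zb34) (kb xb9 yb32 zb53) (kb xb12 yb29 zb30) (kb xb6 yb34 zb40) (kb xb9 yb34 zb61) (kb xb15 yb48 zb21) (kb xb21 yb24 zb2) (kb xb6 yb34 zb41) (kb xb17 yb38 zb50) (kb xb21 yb42 zb9) (kb xb17 yb39 zb56) (kb xb21 yb42 zb11) (kb xb21 yb42 zb13) (kb xb6 yb34 zb43) (kb xb18 yb6 zb8) (kb xb21 yb42 zb17) (kb xb17 yb2 zb10) (kb xb6 yb34 zb45) (kb xb6 yb34 zb46) (kb xb21 yb42 zb24) (kb xb17 yb50 zb59) (kb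 xb21 yb42 zb23)) (@D3.rec (fun _ => Pt) (kb xb6 yb34 zb47) (kb xb9 yb47 zb55) (kb xb12 yb37 zb38) (kb xb10 yb6 zb36) (kb xb12 yb31 zb25) (kb xb13 yb3 zb15) (kb xb13 yb13 zb8) (kb xb12 yb38 zb54) (kb xb12 yb53 zb21) (kb xb6 yb35 zb0) (kb xb6 yb35 zb8) (kb xb17 yb3 zb11) (kb xb7 yb43 zb58) (kb xb14 yb11 zb37) (kb xb17 yb3 zb13) (kb xb6 yb35 zb10) (kb xb20 yb42 zb19) (kb xb7 yb29 zb3) (kb xb17 yb3 zb16) (kb xb13 yb27 zb38) (kb xb11 yb12 zb14) (kb xb21 yb20 zb42) (kb xb21 yb20 zb23) (kb xb21 yb42 zb30) (kb xb21 yb9 zb43) (kb xb18 yb0 zb32) (kb xb20 yb12 zb43) (kb xb6 yb35 zb53) (kb xb20 yb27 zb32) (kb xb11 yb36 zb37) (kb xb6 yb35 zb12) (kb xb6 yb44 zb22) (kb xb6 yb36 zb46) (kb xb6 yb35 zb17) (kb xb7 yb44 zb41) (kb xb6 yb44 zb27) (kb xb6 yb35 zb20) (kb xb6 yb35 zb21) (kb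 xb21 yb42 zb48) (kb xb18 yb37 zb45) (kb xb6 yb35 zb18) (kb xb9 yb19 zb8) (kb xb20 yb26 zb16) (kb xb21 yb33 zb23) (kb xb12 yb40 zb34) (kb xb20 yb15 zb35) (kb xb6 yb35 zb22) (kb xb21 yb42 zb60) (kb xb21 yb43 zb0) (kb xb12 yb40 zb21) (kb xb21 yb43 zb1) (kb xb15 yb45 zb11) (kb xb9 yb55 zb52) (kb xb14 yb12 zb25) (kb xb12 yb28 zb26) (kb xb18 yb0 zb49) (kb xb6 yb35 zb30) (kb xb6 yb35 zb31) (kb xb11 yb38 zb44) (kb xb11 yb38 zb45) (kb xb6 yb35 zb29) (kb xb21 yb43 zb14)) (@D3.rec (fun _ => Pt) (kb xb18 yb0 zb53) (kb xb16 yb9 zb10) (kb xb21 yb43 zb20) (kb xb21 yb43 zb10) (kb xb21 yb43 zb24) (kb xb21 yb43 zb26) (kb xb21 yb43 zb28) (kb xb6 yb35 zb33) (kb xb13 yb55 zb59) (kb xb13 yb54 zb21) (kb xb15 yb49 zb33) (kb xb21 yb43 zb34) (kb xb12 yb4 zb48) (kb xb13 yb17 zb22) (kb xb17 yb5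 zb35) (kb xb9 yb28 zb28) (kb xb21 yb30 zb41) (kb xb16 yb23 zb60) (kb xb21 yb43 zb40) (kb xb6 yb35 zb41) (kb xb17 yb50 zb28) (kb xb17 yb5 zb26) (kb xb7 yb44 zb36) (kb xb21 yb35 zb8) (kb xb21 yb43 zb48) (kb xb17 yb5 zb30) (kb xb21 yb43 zb50) (kb xb6 yb35 zb45) (kb xb11 yb21 zb27) (kb xb20 yb45 zb7) (kb xb6 yb38 zb59) (kb xb18 yb24 zb50) (kb xb21 yb43 zb52) (kb xb6 yb38 zb51) (kb xb12 yb49 zb8) (kb xb6 yb35 zb49) (kb xb14 yb2 zb57) (kb xb7 yb0 zb59) (kb xb12 yb36 zb2) (kb xb6 yb39 zb3) (kb xb21 yb43 zb61) (kb xb21 yb44 zb0) (kb xb6 yb39 zb6) (kb xb10 yb13 zb45) (kb xb17 yb9 zb25) (kb xb6 yb39 zb9) (kb xb6 yb39 zb10) (kb xb6 yb35 zb52) (kb xb18 yb24 zb37) (kb xb21 yb42 zb43) (kb xb6 yb35 zb61) (kb xb6 yb36 zb0) (kb xb6 yb35 zb55) (kb xb15 yb26 zb13) (kb xb21 yb44 zb14)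 (kb xb21 yb44 zb15) (kb xb6 yb35 zb56) (kb xb17 yb26 zb41) (kb xb21 yb44 zb23) (kb xb21 yb26 zb27) (kb xb16 yb59 zb60) (kb xb6 yb36 zb8)) (@D3.rec (fun _ => Pt) (kb xb9 yb19 zb57) (kb xb20 yb44 zb43) (kb xb21 yb7 zb23) (kb xb6 yb39 zb39) (kb xb16 yb49 zb38) (kb xb21 yb44 zb36) (kb xb8 yb45 zb17) (kb xb21 yb44 zb13) (kb xb21 yb44 zb40) (kb xb21 yb44 zb20) (kb xb16 yb53 zb17) (kb xb17 yb9 zb27) (kb xb6 yb40 zb14) (kb xb6 yb36 zb3) (kb xb6 yb36 zb4) (kb xb21 yb44 zb45) (kb xb17 yb34 zb53) (kb xb6 yb36 zb5) (kb xb21 yb44 zb50) (kb xb11 yb27 zb20) (kb xb6 yb36 zb6) (kb xb21 yb44 zb53) (kb xb16 yb36 zb2) (kb xb21 yb44 zb30) (kb xb6 yb36 zb9) (kb xb17 yb9 zb40) (kb xb21 yb44 zb57) (kb xb6 yb40 zb48) (kb xb6 yb36 zb11) (kb xb13 yb50 zb34) (kb xb18 yb0 zb47) (kb xb6 yb36 zb12)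 (kb xb18 yb56 zb60) (kb xb6 yb41 zb3) (kb xb6 yb36 zb14) (kb xb6 yb36 zb15) (kb xb16 yb35 zb60) (kb xb9 yb25 zb29) (kb xb14 yb6 zb49) (kb xb6 yb36 zb24) (kb xb6 yb36 zb17) (kb xb20 yb22 zb9) (kb xb6 yb36 zb22) (kb xb18 yb0 zb12) (kb xb21 yb22 zb4) (kb xb8 yb59 zb46) (kb xb21 yb45 zb1) (kb xb6 yb36 zb29) (kb xb12 yb40 zb54) (kb xb12 yb54 zb5) (kb xb18 yb57 zb56) (kb xb15 yb25 zb50) (kb xb6 yb36 zb27) (kb xb21 yb45 zb5) (kb xb12 yb36 zb7) (kb xb14 yb17 zb44) (kb xb18 yb57 zb28) (kb xb6 yb36 zb30) (kb xb12 yb39 zb26) (kb xb21 yb45 zb10) (kb xb20 yb51 zb53) (kb xb21 yb45 zb13)) (@D3.rec (fun _ => Pt) (kb xb21 yb45 zb15) (kb xb21 yb45 zb17) (kb xb6 yb36 zb35) (kb xb21 yb45 zb22) (kb xb21 yb45 zb23) (kb xb11 yb47 zb9) (kb xb9 yb7 zb27) (kb xb6 yb36 zb38) (kb xb12 yb35 zb9)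 (kb xb21 yb22 zb13) (kb xb7 yb48 zb8) (kb xb14 yb11 zb29) (kb xb10 yb12 zb6) (kb xb6 yb36 zb43) (kb xb16 yb25 zb12) (kb xb9 yb29 zb61) (kb xb6 yb36 zb45) (kb xb20 yb36 zb1) (kb xb21 yb10 zb8) (kb xb12 yb12 zb12) (kb xb20 yb15 zb34) (kb xb21 yb42 zb47) (kb xb6 yb36 zb58) (kb xb6 yb36 zb59) (kb xb17 yb10 zb6) (kb xb6 yb36 zb49) (kb xb12 yb38 zb58) (kb xb21 yb10 zb0) (kb xb20 yb19 zb23) (kb xb8 yb27 zb34) (kb xb6 yb37 zb6) (kb xb9 yb20 zb44) (kb xb7 yb32 zb1) (kb xb6 yb37 zb40) (kb xb6 yb36 zb55) (kb xb11 yb36 zb56) (kb xb21 yb45 zb44) (kb xb10 yb11 zb58) (kb xb12 yb28 zb22) (kb xb6 yb36 zb56) (kb xb21 yb45 zb48) (kb xb21 yb45 zb49) (kb xb10 yb6 zb14) (kb xb10 yb6 zb15) (kb xb21 yb45 zb60) (kb xb8 yb7 zb12) (kb xb17 yb14 zb57) (kb xb17 yb5 zb2) (kb xb6 yb36 zb61) (kb xb21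 yb46 zb2) (kb xb21 yb10 zb10) (kb xb12 yb12 zb11) (kb xb17 yb20 zb39) (kb xb6 yb41 zb55) (kb xb6 yb37 zb2) (kb xb21 yb46 zb8) (kb xb17 yb34 zb61) (kb xb6 yb37 zb3) (kb xb21 yb46 zb12) (kb xb21 yb33 zb24) (kb xb6 yb37 zb4) (kb xb21 yb46 zb16)) (@D3.rec (fun _ => Pt) (kb xb15 yb49 zb16) (kb xb21 yb46 zb20) (kb xb8 yb17 zb28) (kb xb6 yb37 zb5) (kb xb21 yb46 zb24) (kb xb21 yb46 zb25) (kb xb17 yb29 zb28) (kb xb6 yb37 zb8) (kb xb6 yb37 zb9) (kb xb21 yb17 zb50) (kb xb21 yb46 zb35) (kb xb14 yb54 zb3) (kb xb19 yb16 zb37) (kb xb19 yb16 zb41) (kb xb6 yb37 zb11) (kb xb21 yb46 zb38) (kb xb15 yb57 zb15) (kb xb17 yb45 zb7) (kb xb6 yb37 zb14) (kb xb21 yb46 zb42) (kb xb6 yb37 zb15) (kb xb12 yb36 zb49) (kb xb21 yb23 zb48) (kb xb6 yb37 zb18) (kb xb12 yb40 zb28) (kb xb6 yb37 zb19) (kb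 xb21 yb46 zb53) (kb xb21 yb46 zb55) (kb xb12 yb40 zb24) (kb xb15 yb44 zb35) (kb xb6 yb37 zb21) (kb xb6 yb37 zb22) (kb xb7 yb54 zb45) (kb xb21 yb46 zb60) (kb xb12 yb36 zb44) (kb xb21 yb46 zb58) (kb xb21 yb46 zb59) (kb xb6 yb37 zb27) (kb xb6 yb37 zb24) (kb xb20 yb16 zb49) (kb xb7 yb44 zb25) (kb xb6 yb37 zb26) (kb xb6 yb39 zb18) (kb xb21 yb47 zb5) (kb xb6 yb37 zb30) (kb xb9 yb7 zb14) (kb xb17 yb5 zb48) (kb xb6 yb37 zb32) (kb xb6 yb37 zb33) (kb xb18 yb0 zb0) (kb xb6 yb39 zb54) (kb xb21 yb47 zb13) (kb xb12 yb27 zb44) (kb xb6 yb37 zb36) (kb xb12 yb38 zb48) (kb xb18 yb17 zb47) (kb xb17 yb4 zb47) (kb xb17 yb4 zb30) (kb xb9 yb7 zb24) (kb xb6 yb44 zb36) (kb xb18 yb0 zb56) (kb xb20 yb51 zb30)) (@D3.rec (fun _ => Pt) (kb xb20 yb51 zb31) (kb xb12 yb35 zb6) (kb xb14 yb26 zb60) (kb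 xb12 yb28 zb23) (kb xb6 yb37 zb49) (kb xb6 yb37 zb50) (kb xb6 yb37 zb43) (kb xb7 yb45 zb20) (kb xb21 yb47 zb28) (kb xb17 yb7 zb17) (kb xb17 yb4 zb51) (kb xb9 yb56 zb5) (kb xb21 yb47 zb34) (kb xb17 yb4 zb52) (kb xb21 yb47 zb39) (kb xb6 yb37 zb58) (kb xb6 yb37 zb47) (kb xb15 yb48 zb31) (kb xb16 yb14 zb15) (kb xb6 yb37 zb48) (kb xb21 yb47 zb49) (kb xb21 yb47 zb50) (kb xb21 yb20 zb45) (kb xb21 yb47 zb58) (kb xb21 yb48 zb1) (kb xb21 yb47 zb27) (kb xb6 yb44 zb39) (kb xb6 yb37 zb52) (kb xb21 yb48 zb10) (kb xb21 yb47 zb30) (kb xb21 yb48 zb15) (kb xb21 yb48 zb9) (kb xb20 yb4 zb24) (kb xb10 yb35 zb32) (kb xb6 yb37 zb55) (kb xb21 yb48 zb25) (kb xb21 yb48 zb24) (kb xb9 yb14 zb37) (kb xb6 yb37 zb56) (kb xb21 yb48 zb32) (kb xb17 yb51 zb57) (kb xb21 yb48 zb36) (kb xb15 yb53 zb58)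 (kb xb6 yb37 zb57) (kb xb21 yb48 zb42) (kb xb21 yb48 zb43) (kb xb21 yb47 zb42) (kb xb12 yb46 zb53) (kb xb12 yb55 zb10) (kb xb21 yb48 zb48) (kb xb20 yb51 zb9) (kb xb14 yb2 zb30) (kb xb21 yb0 zb43) (kb xb6 yb38 zb0) (kb xb21 yb48 zb55) (kb xb6 yb38 zb3) (kb xb6 yb38 zb4) (kb xb21 yb48 zb59) (kb xb21 yb33 zb3) (kb xb20 yb51 zb16) (kb xb6 yb38 zb7) (kb xb21 yb49 zb4)) (@D3.rec (fun _ => Pt) (kb xb6 yb38 zb8) (kb xb21 yb49 zb9) (kb xb6 yb38 zb9) (kb xb21 yb49 zb14) (kb xb21 yb49 zb16) (kb xb13 yb54 zb24) (kb xb6 yb38 zb11) (kb xb21 yb49 zb23) (kb xb21 yb49 zb25) (kb xb21 yb49 zb27) (kb xb21 yb49 zb22) (kb xb8 yb21 zb33) (kb xb6 yb38 zb16) (kb xb14 yb12 zb26) (kb xb11 yb36 zb27) (kb xb12 yb24 zb14) (kb xb9 yb42 zb36) (kb xb17 yb6 zb7) (kb xb6 yb38 zb19) (kb xb11 yb35 zb13)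 (kb xb17 yb9 zb26) (kb xb20 yb51 zb57) (kb xb17 yb5 zb38) (kb xb12 yb4 zb45) (kb xb13 yb15 zb14) (kb xb7 yb39 zb39) (kb xb7 yb39 zb40) (kb xb12 yb23 zb27) (kb xb6 yb38 zb31) (kb xb6 yb38 zb32) (kb xb6 yb38 zb25) (kb xb21 yb49 zb45) (kb xb21 yb49 zb43) (kb xb21 yb49 zb44) (kb xb6 yb38 zb26) (kb xb19 yb22 zb20) (kb xb21 yb49 zb49) (kb xb17 yb10 zb2) (kb xb21 yb49 zb52) (kb xb18 yb25 zb38) (kb xb18 yb7 zb59) (kb xb6 yb38 zb36) (kb xb6 yb38 zb29) (kb xb20 yb16 zb3) (kb xb20 yb38 zb16) (kb xb6 yb38 zb30) (kb xb8 yb37 zb6) (kb xb21 yb49 zb61) (kb xb18 yb7 zb58) (kb xb21 yb25 zb59) (kb xb6 yb38 zb33) (kb xb21 yb50 zb3) (kb xb6 yb38 zb35) (kb xb21 yb50 zb7) (kb xb21 yb50 zb8) (kb xb21 yb22 zb31) (kb xb11 yb58 zb21) (kb xb6 yb38 zb38) (kb xb14 yb34 zb60) (kb xb21 yb50 zb14)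 (kb xb9 yb49 zb17) (kb xb6 yb38 zb39)) (@D3.rec (fun _ => Pt) (kb xb21 yb50 zb15) (kb xb6 yb38 zb40) (kb xb21 yb50 zb16) (kb xb21 yb50 zb17) (kb xb6 yb38 zb50) (kb xb18 yb25 zb26) (kb xb6 yb38 zb44) (kb xb10 yb37 zb44) (kb xb20 yb38 zb29) (kb xb21 yb50 zb19) (kb xb21 yb50 zb20) (kb xb19 yb37 zb44) (kb xb12 yb14 zb6) (kb xb6 yb38 zb47) (kb xb6 yb38 zb48) (kb xb9 yb42 zb16) (kb xb21 yb50 zb29) (kb xb21 yb50 zb31) (kb xb6 yb38 zb49) (kb xb21 yb50 zb36) (kb xb21 yb50 zb37) (kb xb12 yb4 zb41) (kb xb7 yb44 zb24) (kb xb21 yb43 zb59) (kb xb12 yb23 zb26) (kb xb12 yb27 zb34) (kb xb6 yb38 zb58) (kb xb21 yb50 zb42) (kb xb6 yb38 zb60) (kb xb11 yb49 zb7) (kb xb12 yb17 zb45) (kb xb18 yb24 zb0) (kb xb18 yb24 zb45) (kb xb21 yb25 zb50) (kb xb21 yb25 zb55) (kb xb21 yb43 zb55) (kb xb21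 yb43 zb56) (kb xb8 yb36 zb56) (kb xb21 yb23 zb10) (kb xb10 yb4 zb27) (kb xb18 yb16 zb1) (kb xb6 yb39 zb4) (kb xb6 yb39 zb5) (kb xb17 yb50 zb31) (kb xb12 yb23 zb20) (kb xb12 yb23 zb21) (kb xb10 yb35 zb28) (kb xb21 yb44 zb5) (kb xb21 yb44 zb6) (kb xb21 yb50 zb60) (kb xb21 yb50 zb53) (kb xb7 yb44 zb23) (kb xb21 yb47 zb6) (kb xb21 yb44 zb7) (kb xb11 yb36 zb29) (kb xb6 yb39 zb7) (kb xb21 yb51 zb7) (kb xb18 yb16 zb14) (kb xb6 yb39 zb8) (kb xb10 yb43 zb22) (kb xb11 yb16 zb57) (kb xb18 yb17 zb0)) (@D3.rec (fun _ => Pt) (kb xb18 yb50 zb39) (kb xb20 yb15 zb40) (kb xb21 yb51 zb16) (kb xb20 yb36 zb6) (kb xb9 yb55 zb32) (kb xb6 yb39 zb13) (kb xb7 yb24 zb56) (kb xb17 yb22 zb18) (kb xb21 yb51 zb20) (kb xb6 yb39 zb40) (kb xb11 yb36 zb26) (kb xb11 yb36 zb30) (kb xb10 yb2 zb50) (kb xb6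 yb39 zb17) (kb xb11 yb57 zb61) (kb xb21 yb51 zb26) (kb xb11 yb48 zb16) (kb xb9 yb24 zb32) (kb xb11 yb17 zb14) (kb xb6 yb39 zb19) (kb xb9 yb5 zb30) (kb xb21 yb51 zb34) (kb xb12 yb54 zb61) (kb xb20 yb15 zb18) (kb xb19 yb53 zb3) (kb xb21 yb51 zb42) (kb xb6 yb39 zb59) (kb xb6 yb40 zb13) (kb xb6 yb39 zb24) (kb xb12 yb54 zb49) (kb xb11 yb33 zb10) (kb xb21 yb44 zb19) (kb xb6 yb40 zb9) (kb xb21 yb30 zb37) (kb xb18 yb16 zb12) (kb xb6 yb40 zb2) (kb xb18 yb16 zb43) (kb xb9 yb59 zb53) (kb xb6 yb39 zb28) (kb xb6 yb39 zb29) (kb xb17 yb34 zb17) (kb xb10 yb57 zb18) (kb xb21 yb0 zb57) (kb xb19 yb32 zb13) (kb xb6 yb40 zb20) (kb xb21 yb51 zb54) (kb xb21 yb51 zb55) (kb xb6 yb39 zb30) (kb xb21 yb52 zb3) (kb xb20 yb22 zb1) (kb xb21 yb9 zb33) (kb xb6 yb39 zb31) (kb xb19 yb24 zb21) (kb xb17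 yb0 zb4) (kb xb11 yb28 zb4) (kb xb21 yb52 zb9) (kb xb13 yb23 zb32) (kb xb6 yb39 zb32) (kb xb21 yb0 zb45) (kb xb17 yb21 zb2) (kb xb6 yb40 zb34) (kb xb7 yb34 zb8)) (@D3.rec (fun _ => Pt) (kb xb11 yb36 zb40) (kb xb21 yb51 zb37) (kb xb6 yb39 zb38) (kb xb6 yb39 zb36) (kb xb20 yb37 zb29) (kb xb18 yb24 zb48) (kb xb20 yb2 zb0) (kb xb21 yb30 zb24) (kb xb10 yb6 zb23) (kb xb18 yb7 zb32) (kb xb21 yb44 zb34) (kb xb21 yb51 zb22) (kb xb21 yb51 zb23) (kb xb6 yb39 zb41) (kb xb21 yb52 zb21) (kb xb21 yb51 zb25) (kb xb21 yb52 zb22) (kb xb9 yb20 zb8) (kb xb6 yb39 zb44) (kb xb20 yb45 zb56) (kb xb9 yb25 zb5) (kb xb21 yb52 zb25) (kb xb6 yb39 zb49) (kb xb6 yb39 zb50) (kb xb11 yb26 zb23) (kb xb6 yb39 zb48) (kb xb21 yb52 zb35) (kb xb9 yb27 zb2) (kb xb21 yb52 zb38) (kb xb21 yb52 zb42) (kb xb20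 yb47 zb45) (kb xb21 yb52 zb30) (kb xb20 yb23 zb42) (kb xb20 yb46 zb4) (kb xb20 yb34 zb42) (kb xb21 yb51 zb33) (kb xb6 yb43 zb32) (kb xb20 yb9 zb1) (kb xb11 yb12 zb16) (kb xb12 yb14 zb53) (kb xb6 yb39 zb56) (kb xb20 yb35 zb2) (kb xb21 yb49 zb60) (kb xb20 yb5 zb44) (kb xb19 yb25 zb52) (kb xb17 yb56 zb42) (kb xb19 yb39 zb57) (kb xb13 yb24 zb33) (kb xb6 yb39 zb58) (kb xb20 yb8 zb3) (kb xb21 yb53 zb2) (kb xb20 yb14 zb31) (kb xb17 yb5 zb58) (kb xb6 yb39 zb61) (kb xb17 yb28 zb38) (kb xb19 yb40 zb32) (kb xb21 yb7 zb55) (kb xb11 yb31 zb42) (kb xb21 yb43 zb47) (kb xb21 yb53 zb20) (kb xb14 yb16 zb48) (kb xb20 yb16 zb12)) (@D3.rec (fun _ => Pt) (kb xb10 yb17 zb43) (kb xb10 yb13 zb7) (kb xb6 yb47 zb18) (kb xb9 yb16 zb53) (kb xb21 yb51 zb53) (kb xb21 yb53 zb27) (kb xb8 yb11 zb43)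 (kb xb6 yb40 zb11) (kb xb6 yb40 zb8) (kb xb16 yb32 zb17) (kb xb21 yb53 zb30) (kb xb20 yb31 zb22) (kb xb11 yb56 zb35) (kb xb21 yb51 zb46) (kb xb21 yb53 zb32) (kb xb20 yb6 zb6) (kb xb21 yb51 zb48) (kb xb21 yb41 zb3) (kb xb20 yb14 zb38) (kb xb21 yb44 zb43) (kb xb6 yb40 zb19) (kb xb6 yb40 zb18) (kb xb21 yb53 zb35) (kb xb21 yb51 zb59) (kb xb21 yb53 zb40) (kb xb6 yb47 zb44) (kb xb18 yb15 zb39) (kb xb6 yb47 zb41) (kb xb21 yb9 zb31) (kb xb8 yb11 zb46) (kb xb6 yb40 zb25) (kb xb12 yb6 zb27) (kb xb17 yb2 zb46) (kb xb10 yb1 zb59) (kb xb8 yb39 zb46) (kb xb21 yb52 zb5) (kb xb21 yb53 zb42) (kb xb12 yb12 zb19) (kb xb12 yb12 zb28) (kb xb6 yb40 zb27) (kb xb12 yb12 zb26) (kb xb6 yb40 zb29) (kb xb21 yb53 zb54) (kb xb6 yb40 zb30) (kb xb6 yb40 zb32) (kb xb20 yb31 zb50) (kb xb21 yb53 zb60)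 (kb xb20 yb15 zb54) (kb xb17 yb6 zb14) (kb xb6 yb40 zb37) (kb xb21 yb54 zb9) (kb xb17 yb6 zb2) (kb xb21 yb54 zb12) (kb xb12 yb41 zb47) (kb xb17 yb1 zb37) (kb xb6 yb45 zb31) (kb xb6 yb40 zb40) (kb xb14 yb41 zb29) (kb xb21 yb50 zb28) (kb xb6 yb40 zb42) (kb xb21 yb54 zb26) (kb xb17 yb20 zb3)) (@D3.rec (fun _ => Pt) (kb xb21 yb47 zb14) (kb xb18 yb42 zb54) (kb xb6 yb40 zb46) (kb xb21 yb15 zb21) (kb xb11 yb18 zb20) (kb xb18 yb42 zb56) (kb xb17 yb15 zb55) (kb xb20 yb47 zb25) (kb xb21 yb54 zb32) (kb xb14 yb8 zb6) (kb xb6 yb40 zb52) (kb xb6 yb40 zb50) (kb xb21 yb54 zb38) (kb xb21 yb33 zb21) (kb xb6 yb40 zb51) (kb xb16 yb7 zb47) (kb xb21 yb54 zb36) (kb xb6 yb40 zb53) (kb xb6 yb40 zb54) (kb xb6 yb40 zb58) (kb xb18 yb23 zb61) (kb xb21 yb51 zb19) (kb xb6 yb41 zb0) (kb xb6 yb41 zb2)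 (kb xb6 yb45 zb16) (kb xb21 yb1 zb33) (kb xb19 yb48 zb46) (kb xb12 yb58 zb47) (kb xb21 yb41 zb8) (kb xb21 yb54 zb51) (kb xb21 yb54 zb52) (kb xb6 yb41 zb7) (kb xb17 yb13 zb48) (kb xb17 yb5 zb9) (kb xb6 yb41 zb9) (kb xb6 yb41 zb10) (kb xb6 yb41 zb6) (kb xb14 yb44 zb32) (kb xb21 yb54 zb56) (kb xb6 yb41 zb8) (kb xb21 yb55 zb3) (kb xb17 yb25 zb40) (kb xb9 yb57 zb51) (kb xb18 yb29 zb21) (kb xb6 yb41 zb13) (kb xb21 yb55 zb6) (kb xb6 yb41 zb15) (kb xb21 yb55 zb8) (kb xb7 yb46 zb18) (kb xb16 yb49 zb16) (kb xb14 yb48 zb52) (kb xb13 yb52 zb47) (kb xb7 yb30 zb9) (kb xb6 yb41 zb19) (kb xb18 yb17 zb45) (kb xb16 yb4 zb57) (kb xb14 yb2 zb31) (kb xb6 yb41 zb24) (kb xb6 yb41 zb25) (kb xb7 yb51 zb39) (kb xb21 yb55 zb17) (kb xb6 yb41 zb26)) (@D3.rec (fun _ => Pt) (kb xb7 yb51 zb47) (kb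 xb7 yb26 zb8) (kb xb21 yb40 zb52) (kb xb6 yb41 zb28) (kb xb21 yb55 zb26) (kb xb14 yb7 zb25) (kb xb21 yb55 zb28) (kb xb7 yb21 zb29) (kb xb6 yb41 zb30) (kb xb6 yb41 zb31) (kb xb21 yb55 zb35) (kb xb6 yb41 zb32) (kb xb21 yb55 zb39) (kb xb21 yb55 zb41) (kb xb21 yb55 zb45) (kb xb12 yb1 zb3) (kb xb6 yb41 zb34) (kb xb21 yb55 zb50) (kb xb16 yb3 zb20) (kb xb16 yb6 zb25) (kb xb14 yb54 zb43) (kb xb21 yb55 zb59) (kb xb21 yb8 zb46) (kb xb6 yb41 zb38) (kb xb6 yb41 zb39) (kb xb21 yb56 zb5) (kb xb10 yb38 zb25) (kb xb21 yb56 zb6) (kb xb16 yb6 zb7) (kb xb21 yb56 zb14) (kb xb21 yb8 zb44) (kb xb6 yb41 zb41) (kb xb21 yb56 zb18) (kb xb19 yb6 zb2) (kb xb16 yb3 zb60) (kb xb6 yb41 zb43) (kb xb21 yb4 zb41) (kb xb21 yb56 zb25) (kb xb21 yb56 zb26) (kb xb6 yb41 zb44) (kb xb21 yb56 zb31) (kb xb21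 yb56 zb32) (kb xb21 yb40 zb58) (kb xb21 yb56 zb38) (kb xb14 yb9 zb15) (kb xb21 yb56 zb45) (kb xb6 yb41 zb50) (kb xb6 yb41 zb47) (kb xb21 yb56 zb51) (kb xb6 yb41 zb48) (kb xb21 yb56 zb56) (kb xb6 yb41 zb49) (kb xb21 yb56 zb61) (kb xb14 yb8 zb54) (kb xb19 yb54 zb18) (kb xb14 yb4 zb1) (kb xb6 yb41 zb51) (kb xb21 yb57 zb9) (kb xb21 yb57 zb10) (kb xb19 yb26 zb18) (kb xb6 yb41 zb56) (kb xb6 yb41 zb57)) (@D3.rec (fun _ => Pt) (kb xb21 yb46 zb6) (kb xb21 yb57 zb11) (kb xb6 yb41 zb58) (kb xb18 yb5 zb10) (kb xb8 yb41 zb51) (kb xb9 yb38 zb56) (kb xb6 yb42 zb1) (kb xb21 yb57 zb18) (kb xb12 yb37 zb34) (kb xb8 yb49 zb46) (kb xb20 yb26 zb3) (kb xb6 yb42 zb3) (kb xb17 yb10 zb61) (kb xb21 yb57 zb24) (kb xb12 yb24 zb51) (kb xb11 yb8 zb32) (kb xb21 yb57 zb32) (kb xb6 yb42 zb6) (kb xb6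 yb42 zb7) (kb xb21 yb57 zb38) (kb xb21 yb57 zb42) (kb xb21 yb57 zb37) (kb xb6 yb42 zb8) (kb xb18 yb22 zb36) (kb xb21 yb57 zb44) (kb xb19 yb46 zb45) (kb xb9 yb11 zb8) (kb xb16 yb51 zb28) (kb xb8 yb50 zb45) (kb xb6 yb42 zb13) (kb xb15 yb5 zb20) (kb xb17 yb29 zb48) (kb xb6 yb42 zb14) (kb xb14 yb29 zb8) (kb xb21 yb57 zb48) (kb xb6 yb42 zb15) (kb xb15 yb6 zb13) (kb xb16 yb59 zb10) (kb xb21 yb57 zb50) (kb xb21 yb57 zb53) (kb xb21 yb57 zb56) (kb xb11 yb4 zb56) (kb xb19 yb42 zb54) (kb xb16 yb46 zb61) (kb xb6 yb42 zb20) (kb xb6 yb42 zb21) (kb xb6 yb59 zb5) (kb xb19 yb22 zb16) (kb xb9 yb44 zb22) (kb xb21 yb58 zb3) (kb xb9 yb44 zb26) (kb xb21 yb46 zb4) (kb xb19 yb16 zb1) (kb xb6 yb42 zb24) (kb xb21 yb17 zb0) (kb xb21 yb58 zb7) (kb xb6 yb42 zb25) (kb xb21 yb58 zb12) (kb xb17 yb29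 zb44) (kb xb9 yb32 zb23) (kb xb20 yb26 zb6) (kb xb11 yb59 zb4)) (@D3.rec (fun _ => Pt) (kb xb6 yb42 zb29) (kb xb21 yb58 zb16) (kb xb21 yb58 zb18) (kb xb17 yb40 zb13) (kb xb8 yb37 zb39) (kb xb18 yb5 zb31) (kb xb9 yb13 zb43) (kb xb17 yb5 zb49) (kb xb6 yb42 zb37) (kb xb21 yb58 zb23) (kb xb6 yb42 zb38) (kb xb15 yb49 zb0) (kb xb21 yb58 zb24) (kb xb17 yb39 zb32) (kb xb17 yb39 zb33) (kb xb9 yb17 zb0) (kb xb6 yb42 zb42) (kb xb8 yb41 zb52) (kb xb6 yb42 zb44) (kb xb21 yb58 zb32) (kb xb18 yb7 zb7) (kb xb21 yb58 zb36) (kb xb17 yb36 zb48) (kb xb21 yb57 zb17) (kb xb6 yb42 zb46) (kb xb6 yb42 zb47) (kb xb21 yb58 zb45) (kb xb17 yb13 zb40) (kb xb21 yb58 zb47) (kb xb17 yb30 zb60) (kb xb21 yb58 zb44) (kb xb17 yb44 zb60) (kb xb13 yb46 zb9) (kb xb20 yb46 zb24) (kb xb21 yb58 zb53) (kb xb21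 yb58 zb54) (kb xb6 yb42 zb50) (kb xb21 yb31 zb4) (kb xb6 yb42 zb52) (kb xb21 yb58 zb61) (kb xb21 yb46 zb1) (kb xb17 yb29 zb26) (kb xb21 yb59 zb4) (kb xb21 yb42 zb7) (kb xb17 yb29 zb29) (kb xb6 yb42 zb56) (kb xb21 yb23 zb38) (kb xb21 yb59 zb8) (kb xb12 yb17 zb58) (kb xb9 yb18 zb41) (kb xb6 yb42 zb59) (kb xb7 yb31 zb35) (kb xb6 yb42 zb61) (kb xb17 yb29 zb32) (kb xb21 yb59 zb19) (kb xb6 yb43 zb0) (kb xb17 yb40 zb9) (kb xb21 yb59 zb23) (kb xb21 yb59 zb24) (kb xb21 yb26 zb43) (kb xb6 yb43 zb1) (kb xb21 yb59 zb37)) (@D3.rec (fun _ => Pt) (kb xb21 yb59 zb35) (kb xb21 yb59 zb36) (kb xb17 yb29 zb41) (kb xb21 yb59 zb43) (kb xb21 yb59 zb44) (kb xb20 yb31 zb52) (kb xb6 yb43 zb7) (kb xb6 yb43 zb8) (kb xb6 yb43 zb9) (kb xb6 yb43 zb5) (kb xb6 yb43 zb6) (kb xb21 yb59 zb54) (kb xb21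 yb59 zb49) (kb xb21 yb54 zb3) (kb xb6 yb43 zb11) (kb xb21 yb44 zb2) (kb xb6 yb43 zb14) (kb xb21 yb59 zb57) (kb xb6 yb43 zb16) (kb xb7 yb39 zb26) (kb xb21 yb59 zb56) (kb xb20 yb49 zb20) (kb xb22 yb0 zb5) (kb xb20 yb49 zb22) (kb xb22 yb0 zb11) (kb xb22 yb0 zb13) (kb xb12 yb1 zb25) (kb xb8 yb17 zb25) (kb xb22 yb0 zb16) (kb xb6 yb43 zb18) (kb xb22 yb0 zb21) (kb xb20 yb19 zb12) (kb xb7 yb53 zb4) (kb xb6 yb43 zb20) (kb xb9 yb21 zb42) (kb xb13 yb3 zb7) (kb xb22 yb0 zb28) (kb xb6 yb43 zb22) (kb xb22 yb0 zb37) (kb xb6 yb43 zb25) (kb xb7 yb43 zb29) (kb xb22 yb0 zb38) (kb xb22 yb0 zb39) (kb xb7 yb5 zb57) (kb xb22 yb0 zb46) (kb xb7 yb3 zb29) (kb xb22 yb0 zb52) (kb xb13 yb12 zb33) (kb xb6 yb43 zb30) (kb xb22 yb0 zb58) (kb xb20 yb23 zb45) (kb xb20 yb56 zb55) (kb xb21 yb15 zb60) (kb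 xb22 yb1 zb5) (kb xb21 yb52 zb56) (kb xb6 yb43 zb33) (kb xb20 yb56 zb57) (kb xb22 yb1 zb12) (kb xb22 yb1 zb13) (kb xb6 yb43 zb34) (kb xb22 yb1 zb20) (kb xb22 yb1 zb19)) (@D3.rec (fun _ => Pt) (kb xb22 yb1 zb26) (kb xb22 yb1 zb29) (kb xb6 yb43 zb35) (kb xb22 yb1 zb35) (kb xb22 yb1 zb36) (kb xb19 yb3 zb58) (kb xb6 yb43 zb38) (kb xb22 yb1 zb43) (kb xb22 yb1 zb42) (kb xb6 yb43 zb39) (kb xb22 yb1 zb51) (kb xb22 yb1 zb52) (kb xb22 yb1 zb55) (kb xb22 yb1 zb56) (kb xb6 yb43 zb41) (kb xb22 yb1 zb58) (kb xb15 yb33 zb25) (kb xb20 yb48 zb1) (kb xb6 yb43 zb44) (kb xb22 yb2 zb4) (kb xb22 yb2 zb6) (kb xb6 yb43 zb46) (kb xb15 yb46 zb47) (kb xb19 yb36 zb60) (kb xb22 yb2 zb9) (kb xb15 yb59 zb30) (kb xb15 yb59 zb31) (kb xb19 yb37 zb18) (kb xb22 yb2 zb14) (kb xb22 yb0 zb20) (kb xb6 yb43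 zb49) (kb xb6 yb43 zb50) (kb xb22 yb2 zb22) (kb xb15 yb31 zb25) (kb xb22 yb2 zb25) (kb xb22 yb2 zb20) (kb xb22 yb2 zb21) (kb xb6 yb43 zb53) (kb xb6 yb43 zb54) (kb xb22 yb2 zb31) (kb xb12 yb34 zb46) (kb xb17 yb30 zb39) (kb xb6 yb43 zb56) (kb xb22 yb2 zb38) (kb xb13 yb53 zb17) (kb xb22 yb2 zb41) (kb xb17 yb30 zb49) (kb xb22 yb2 zb45) (kb xb21 yb33 zb8) (kb xb22 yb2 zb48) (kb xb22 yb2 zb51) (kb xb6 yb43 zb60) (kb xb15 yb36 zb23) (kb xb12 yb26 zb0) (kb xb9 yb20 zb21) (kb xb6 yb44 zb1) (kb xb6 yb44 zb2) (kb xb20 yb12 zb52) (kb xb17 yb30 zb52) (kb xb20 yb15 zb59) (kb xb8 yb31 zb3) (kb xb16 yb7 zb37)) (@D3.rec (fun _ => Pt) (kb xb15 yb36 zb36) (kb xb6 yb44 zb4) (kb xb22 yb3 zb2) (kb xb15 yb6 zb22) (kb xb17 yb31 zb0) (kb xb22 yb3 zb6) (kb xb22 yb3 zb8) (kb xb20 yb6 zb49) (kb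 xb6 yb44 zb10) (kb xb6 yb44 zb11) (kb xb6 yb44 zb12) (kb xb6 yb44 zb8) (kb xb21 yb44 zb54) (kb xb18 yb42 zb46) (kb xb11 yb58 zb31) (kb xb6 yb45 zb51) (kb xb20 yb44 zb41) (kb xb6 yb44 zb20) (kb xb21 yb47 zb57) (kb xb11 yb26 zb0) (kb xb18 yb46 zb47) (kb xb12 yb36 zb8) (kb xb21 yb47 zb46) (kb xb10 yb7 zb5) (kb xb9 yb20 zb47) (kb xb6 yb44 zb26) (kb xb9 yb5 zb51) (kb xb22 yb3 zb14) (kb xb20 yb51 zb19) (kb xb20 yb46 zb30) (kb xb22 yb3 zb17) (kb xb18 yb37 zb43) (kb xb10 yb18 zb7) (kb xb12 yb32 zb46) (kb xb11 yb40 zb45) (kb xb6 yb44 zb35) (kb xb6 yb44 zb38) (kb xb21 yb45 zb59) (kb xb21 yb20 zb58) (kb xb20 yb23 zb16) (kb xb11 yb26 zb19) (kb xb20 yb49 zb11) (kb xb12 yb16 zb15) (kb xb6 yb44 zb37) (kb xb19 yb10 zb37) (kb xb13 yb46 zb7) (kb xb22 yb3 zb28) (kb xb22 yb3 zb32) (kb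 xb21 yb48 zb5) (kb xb16 yb36 zb8) (kb xb16 yb36 zb3) (kb xb20 yb6 zb56) (kb xb11 yb39 zb51) (kb xb17 yb30 zb61) (kb xb22 yb3 zb37) (kb xb6 yb44 zb43) (kb xb17 yb16 zb7) (kb xb20 yb9 zb43) (kb xb18 yb42 zb55) (kb xb6 yb44 zb50) (kb xb17 yb15 zb52) (kb xb9 yb32 zb58)) (@D3.rec (fun _ => Pt) (kb xb22 yb3 zb46) (kb xb10 yb4 zb40) (kb xb19 yb6 zb51) (kb xb6 yb44 zb59) (kb xb6 yb44 zb54) (kb xb12 yb38 zb49) (kb xb22 yb3 zb49) (kb xb18 yb45 zb48) (kb xb20 yb10 zb31) (kb xb22 yb3 zb51) (kb xb6 yb50 zb8) (kb xb22 yb3 zb54) (kb xb11 yb52 zb36) (kb xb22 yb3 zb57) (kb xb6 yb44 zb58) (kb xb22 yb3 zb60) (kb xb22 yb3 zb61) (kb xb17 yb32 zb11) (kb xb6 yb45 zb35) (kb xb11 yb0 zb22) (kb xb19 yb40 zb34) (kb xb19 yb51 zb3) (kb xb6 yb45 zb2) (kb xb6 yb45 zb3) (kb xb22 yb4 zb7) (kb xb8 yb25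 zb11) (kb xb21 yb54 zb48) (kb xb8 yb25 zb12) (kb xb18 yb15 zb12) (kb xb10 yb37 zb9) (kb xb14 yb38 zb43) (kb xb6 yb45 zb8) (kb xb19 yb24 zb20) (kb xb17 yb34 zb22) (kb xb20 yb54 zb61) (kb xb20 yb57 zb5) (kb xb10 yb37 zb13) (kb xb22 yb4 zb17) (kb xb20 yb56 zb50) (kb xb6 yb45 zb11) (kb xb11 yb56 zb26) (kb xb11 yb53 zb29) (kb xb16 yb12 zb34) (kb xb22 yb4 zb19) (kb xb11 yb8 zb29) (kb xb6 yb45 zb13) (kb xb22 yb4 zb27) (kb xb15 yb4 zb3) (kb xb6 yb45 zb41) (kb xb12 yb44 zb29) (kb xb21 yb54 zb44) (kb xb18 yb37 zb7) (kb xb16 yb9 zb46) (kb xb18 yb18 zb16) (kb xb22 yb4 zb35) (kb xb18 yb18 zb21) (kb xb18 yb18 zb22) (kb xb9 yb4 zb37) (kb xb11 yb18 zb42) (kb xb6 yb45 zb36) (kb xb6 yb45 zb37) (kb xb12 yb44 zb22)) (@D3.rec (fun _ => Pt) (kb xb6 yb45 zb22) (kb xb22 yb4 zb48) (kb xb19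 yb31 zb33) (kb xb6 yb45 zb27) (kb xb6 yb45 zb26) (kb xb22 yb4 zb52) (kb xb22 yb4 zb53) (kb xb6 yb45 zb28) (kb xb22 yb4 zb56) (kb xb6 yb45 zb30) (kb xb12 yb41 zb48) (kb xb22 yb4 zb59) (kb xb22 yb5 zb1) (kb xb17 yb33 zb16) (kb xb6 yb45 zb33) (kb xb6 yb45 zb34) (kb xb22 yb5 zb7) (kb xb10 yb58 zb25) (kb xb6 yb45 zb38) (kb xb12 yb4 zb23) (kb xb22 yb5 zb11) (kb xb10 yb45 zb12) (kb xb11 yb57 zb23) (kb xb9 yb17 zb27) (kb xb6 yb45 zb46) (kb xb11 yb16 zb8) (kb xb19 yb27 zb37) (kb xb20 yb41 zb39) (kb xb22 yb5 zb15) (kb xb15 yb5 zb8) (kb xb20 yb4 zb32) (kb xb6 yb45 zb50) (kb xb20 yb46 zb14) (kb xb9 yb32 zb34) (kb xb8 yb10 zb52) (kb xb22 yb5 zb19) (kb xb17 yb33 zb38) (kb xb16 yb11 zb27) (kb xb22 yb5 zb23) (kb xb6 yb45 zb54) (kb xb18 yb40 zb9) (kb xb6 yb45 zb56) (kb xb22 yb5 zb30)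 (kb xb22 yb5 zb31) (kb xb15 yb32 zb6) (kb xb15 yb25 zb28) (kb xb6 yb45 zb58) (kb xb6 yb45 zb59) (kb xb10 yb44 zb51) (kb xb6 yb46 zb1) (kb xb22 yb5 zb36) (kb xb21 yb23 zb23) (kb xb22 yb5 zb39) (kb xb10 yb45 zb47) (kb xb6 yb46 zb6) (kb xb15 yb25 zb13) (kb xb17 yb33 zb47) (kb xb21 yb1 zb39) (kb xb6 yb46 zb5) (kb xb22 yb5 zb41) (kb xb22 yb5 zb43) (kb xb8 yb10 zb60)) (@D3.rec (fun _ => Pt) (kb xb15 yb29 zb8) (kb xb15 yb32 zb56) (kb xb22 yb5 zb47) (kb xb6 yb46 zb8) (kb xb22 yb5 zb52) (kb xb22 yb5 zb53) (kb xb22 yb5 zb54) (kb xb6 yb46 zb9) (kb xb22 yb6 zb0) (kb xb22 yb6 zb1) (kb xb17 yb33 zb60) (kb xb20 yb13 zb43) (kb xb20 yb12 zb22) (kb xb13 yb56 zb34) (kb xb6 yb46 zb13) (kb xb6 yb46 zb14) (kb xb20 yb35 zb48) (kb xb11 yb4 zb44) (kb xb9 yb47 zb32) (kb xb6 yb46 zb18) (kb xb6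 yb46 zb19) (kb xb6 yb46 zb24) (kb xb11 yb35 zb28) (kb xb20 yb23 zb33) (kb xb18 yb15 zb13) (kb xb6 yb50 zb42) (kb xb15 yb30 zb22) (kb xb6 yb46 zb31) (kb xb6 yb46 zb30) (kb xb21 yb54 zb5) (kb xb17 yb34 zb35) (kb xb22 yb6 zb13) (kb xb6 yb46 zb37) (kb xb6 yb46 zb36) (kb xb22 yb6 zb17) (kb xb19 yb58 zb33) (kb xb17 yb34 zb38) (kb xb22 yb6 zb18) (kb xb6 yb46 zb39) (kb xb16 yb51 zb15) (kb xb6 yb46 zb41) (kb xb6 yb46 zb42) (kb xb22 yb6 zb24) (kb xb22 yb6 zb25) (kb xb20 yb9 zb16) (kb xb8 yb59 zb2) (kb xb11 yb33 zb11) (kb xb10 yb5 zb10) (kb xb6 yb46 zb46) (kb xb22 yb6 zb29) (kb xb6 yb46 zb50) (kb xb20 yb12 zb12) (kb xb6 yb46 zb52) (kb xb12 yb57 zb41) (kb xb6 yb56 zb34) (kb xb6 yb46 zb57) (kb xb6 yb46 zb60) (kb xb22 yb6 zb34) (kb xb20 yb33 zb61) (kb xb22 yb6 zb33) (kb xb6 yb47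 zb1) (kb xb18 yb56 zb57)) (@D3.rec (fun _ => Pt) (kb xb13 yb5 zb52) (kb xb18 yb43 zb22) (kb xb18 yb43 zb23) (kb xb22 yb6 zb44) (kb xb11 yb41 zb7) (kb xb15 yb37 zb11) (kb xb6 yb47 zb9) (kb xb22 yb6 zb53) (kb xb17 yb32 zb30) (kb xb6 yb47 zb12) (kb xb6 yb47 zb6) (kb xb17 yb32 zb28) (kb xb22 yb6 zb58) (kb xb22 yb6 zb59) (kb xb6 yb47 zb7) (kb xb18 yb55 zb33) (kb xb22 yb7 zb2) (kb xb22 yb7 zb4) (kb xb8 yb32 zb28) (kb xb15 yb41 zb4) (kb xb22 yb7 zb7) (kb xb7 yb16 zb43) (kb xb22 yb6 zb51) (kb xb22 yb6 zb52) (kb xb6 yb47 zb10) (kb xb6 yb47 zb11) (kb xb22 yb7 zb17) (kb xb22 yb7 zb21) (kb xb6 yb47 zb13) (kb xb22 yb7 zb22) (kb xb10 yb2 zb53) (kb xb9 yb29 zb60) (kb xb9 yb27 zb37) (kb xb6 yb47 zb15) (kb xb22 yb7 zb25) (kb xb22 yb7 zb24) (kb xb6 yb47 zb16) (kb xb22 yb7 zb29) (kb xb21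 yb53 zb23) (kb xb21 yb51 zb58) (kb xb10 yb53 zb3) (kb xb12 yb56 zb53) (kb xb6 yb47 zb20) (kb xb22 yb7 zb35) (kb xb6 yb47 zb21) (kb xb15 yb27 zb27) (kb xb22 yb7 zb36) (kb xb20 yb58 zb33) (kb xb6 yb47 zb22) (kb xb22 yb7 zb41) (kb xb21 yb3 zb59) (kb xb6 yb47 zb30) (kb xb6 yb47 zb24) (kb xb14 yb20 zb52) (kb xb14 yb33 zb8) (kb xb6 yb47 zb25) (kb xb14 yb36 zb22) (kb xb20 yb38 zb7) (kb xb15 yb2 zb29) (kb xb18 yb0 zb23) (kb xb21 yb21 zb31) (kb xb10 yb15 zb34)) (@D3.rec (fun _ => Pt) (kb xb6 yb47 zb32) (kb xb7 yb45 zb26) (kb xb22 yb7 zb54) (kb xb6 yb47 zb33) (kb xb9 yb25 zb28) (kb xb22 yb7 zb59) (kb xb10 yb16 zb26) (kb xb6 yb47 zb36) (kb xb22 yb8 zb1) (kb xb22 yb8 zb0) (kb xb22 yb8 zb2) (kb xb17 yb34 zb51) (kb xb22 yb6 zb15) (kb xb10 yb43 zb42) (kb xb22 yb8 zb6) (kb xb22 yb8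 zb8) (kb xb21 yb42 zb2) (kb xb21 yb53 zb41) (kb xb6 yb47 zb43) (kb xb8 yb24 zb20) (kb xb22 yb8 zb14) (kb xb12 yb32 zb47) (kb xb22 yb8 zb16) (kb xb14 yb12 zb16) (kb xb16 yb18 zb23) (kb xb6 yb47 zb49) (kb xb22 yb8 zb21) (kb xb16 yb0 zb6) (kb xb6 yb47 zb51) (kb xb22 yb8 zb24) (kb xb19 yb57 zb39) (kb xb22 yb8 zb26) (kb xb7 yb31 zb49) (kb xb6 yb47 zb53) (kb xb12 yb1 zb45) (kb xb9 yb10 zb42) (kb xb6 yb47 zb55) (kb xb22 yb8 zb28) (kb xb22 yb8 zb29) (kb xb12 yb20 zb33) (kb xb6 yb47 zb58) (kb xb9 yb10 zb9) (kb xb6 yb47 zb59) (kb xb14 yb2 zb2) (kb xb22 yb8 zb32) (kb xb22 yb8 zb37) (kb xb17 yb35 zb7) (kb xb12 yb47 zb27) (kb xb18 yb23 zb21) (kb xb10 yb9 zb1) (kb xb15 yb49 zb10) (kb xb6 yb48 zb5) (kb xb22 yb8 zb43) (kb xb6 yb48 zb6) (kb xb22 yb8 zb46) (kb xb6 yb48 zb7) (kb xb18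 yb37 zb6) (kb xb22 yb8 zb49) (kb xb14 yb57 zb14) (kb xb21 yb37 zb4) (kb xb6 yb48 zb9) (kb xb22 yb8 zb52)) (@D3.rec (fun _ => Pt) (kb xb6 yb48 zb10) (kb xb22 yb8 zb58) (kb xb10 yb6 zb30) (kb xb6 yb48 zb11) (kb xb22 yb9 zb1) (kb xb22 yb9 zb0) (kb xb6 yb48 zb13) (kb xb22 yb9 zb7) (kb xb22 yb9 zb8) (kb xb6 yb48 zb15) (kb xb22 yb9 zb13) (kb xb15 yb40 zb5) (kb xb15 yb58 zb58) (kb xb22 yb9 zb16) (kb xb21 yb39 zb22) (kb xb6 yb48 zb18) (kb xb6 yb48 zb19) (kb xb22 yb9 zb23) (kb xb8 yb30 zb59) (kb xb22 yb9 zb27) (kb xb6 yb48 zb22) (kb xb8 yb30 zb34) (kb xb16 yb7 zb20) (kb xb6 yb48 zb23) (kb xb22 yb9 zb33) (kb xb20 yb34 zb54) (kb xb17 yb35 zb13) (kb xb16 yb8 zb50) (kb xb6 yb48 zb26) (kb xb6 yb48 zb27) (kb xb22 yb9 zb38) (kb xb6 yb48 zb28) (kb xb22 yb9 zb42) (kb xb22 yb9 zb43) (kb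 xb21 yb39 zb25) (kb xb6 yb48 zb30) (kb xb6 yb48 zb31) (kb xb14 yb52 zb14) (kb xb14 yb1 zb23) (kb xb22 yb9 zb47) (kb xb8 yb22 zb57) (kb xb15 yb34 zb2) (kb xb6 yb48 zb36) (kb xb21 yb39 zb27) (kb xb16 yb14 zb37) (kb xb11 yb19 zb24) (kb xb6 yb48 zb39) (kb xb6 yb48 zb40) (kb xb21 yb35 zb39) (kb xb6 yb48 zb41) (kb xb8 yb31 zb37) (kb xb6 yb48 zb45) (kb xb22 yb9 zb55) (kb xb9 yb36 zb58) (kb xb22 yb9 zb56) (kb xb22 yb9 zb57) (kb xb8 yb35 zb28) (kb xb22 yb9 zb58) (kb xb16 yb16 zb44) (kb xb6 yb48 zb50) (kb xb6 yb48 zb51) (kb xb8 yb59 zb21))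
def f_b_13 : D2 → D3 → Pt := @D2.rec (fun _ => D3 → Pt) (@D3.rec (fun _ => Pt) (kb xb22 yb10 zb2) (kb xb17 yb35 zb30) (kb xb12 yb20 zb11) (kb xb6 yb48 zb54) (kb xb6 yb48 zb55) (kb xb22 yb10 zb11) (kb xb16 yb6 zb4) (kb xb6 yb48 zb53) (kb xb22 yb10 zb16) (kb xb22 yb10 zb17) (kb xb22 yb10 zb27) (kb xb16 yb9 zb12) (kb xb12 yb18 zb6) (kb xb22 yb10 zb9) (kb xb22 yb10 zb10) (kb xb12 yb20 zb26) (kb xb21 yb10 zb11) (kb xb22 yb10 zb33) (kb xb6 yb48 zb58) (kb xb6 yb48 zb59) (kb xb6 yb48 zb57) (kb xb18 yb22 zb61) (kb xb18 yb27 zb45) (kb xb22 yb10 zb38) (kb xb22 yb10 zb36) (kb xb17 yb35 zb35) (kb xb11 yb18 zb51) (kb xb16 yb13 zb34) (kb xb9 yb25 zb31) (kb xb12 yb4 zb25) (kb xb20 yb5 zb33) (kb xb18 yb56 zb46) (kb xb18 yb0 zb48) (kb xb18 yb0 zb45) (kb xb6 yb49 zb8) (kb xb6 yb49 zb9)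 (kb xb15 yb39 zb60) (kb xb22 yb10 zb50) (kb xb22 yb10 zb48) (kb xb6 yb49 zb11) (kb xb22 yb10 zb54) (kb xb8 yb19 zb11) (kb xb6 yb49 zb13) (kb xb22 yb10 zb60) (kb xb22 yb10 zb59) (kb xb6 yb49 zb15) (kb xb22 yb11 zb2) (kb xb11 yb29 zb41) (kb xb14 yb13 zb47) (kb xb21 yb30 zb56) (kb xb6 yb49 zb20) (kb xb9 yb46 zb42) (kb xb13 yb41 zb23) (kb xb6 yb49 zb26) (kb xb22 yb11 zb5) (kb xb11 yb21 zb31) (kb xb22 yb11 zb7) (kb xb11 yb30 zb20) (kb xb17 yb59 zb34) (kb xb11 yb30 zb22) (kb xb6 yb49 zb38) (kb xb12 yb32 zb60)) (@D3.rec (fun _ => Pt) (kb xb6 yb50 zb27) (kb xb10 yb5 zb42) (kb xb22 yb11 zb9) (kb xb12 yb14 zb59) (kb xb6 yb49 zb47) (kb xb11 yb18 zb60) (kb xb17 yb7 zb57) (kb xb20 yb46 zb2) (kb xb6 yb49 zb51) (kb xb12 yb26 zb60) (kb xb6 yb49 zb54) (kb xb17 yb40 zb15) (kb xb22 yb11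 zb10) (kb xb6 yb49 zb57) (kb xb22 yb11 zb15) (kb xb13 yb47 zb3) (kb xb6 yb49 zb61) (kb xb22 yb11 zb19) (kb xb22 yb11 zb21) (kb xb6 yb50 zb2) (kb xb15 yb5 zb7) (kb xb19 yb26 zb56) (kb xb9 yb15 zb14) (kb xb22 yb11 zb23) (kb xb15 yb33 zb42) (kb xb16 yb43 zb34) (kb xb8 yb24 zb59) (kb xb6 yb50 zb12) (kb xb20 yb16 zb61) (kb xb22 yb11 zb28) (kb xb6 yb50 zb15) (kb xb12 yb24 zb1) (kb xb6 yb50 zb18) (kb xb22 yb11 zb33) (kb xb18 yb1 zb36) (kb xb10 yb4 zb47) (kb xb22 yb11 zb34) (kb xb6 yb50 zb24) (kb xb6 yb50 zb38) (kb xb14 yb33 zb7) (kb xb21 yb3 zb11) (kb xb11 yb1 zb32) (kb xb12 yb17 zb29) (kb xb10 yb5 zb20) (kb xb11 yb31 zb12) (kb xb10 yb17 zb11) (kb xb6 yb54 zb0) (kb xb6 yb51 zb9) (kb xb22 yb11 zb35) (kb xb9 yb31 zb11) (kb xb11 yb59 zb11) (kb xb11 yb30 zb61) (kb xb11 yb59 zb13)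 (kb xb9 yb5 zb57) (kb xb7 yb27 zb27) (kb xb6 yb50 zb43) (kb xb18 yb43 zb4) (kb xb11 yb10 zb54) (kb xb17 yb55 zb8) (kb xb9 yb59 zb12) (kb xb6 yb50 zb48) (kb xb6 yb50 zb51)) (@D3.rec (fun _ => Pt) (kb xb22 yb11 zb39) (kb xb12 yb18 zb38) (kb xb6 yb50 zb55) (kb xb22 yb11 zb41) (kb xb22 yb11 zb43) (kb xb6 yb50 zb57) (kb xb6 yb50 zb58) (kb xb22 yb11 zb51) (kb xb12 yb18 zb37) (kb xb6 yb51 zb4) (kb xb6 yb51 zb3) (kb xb18 yb21 zb11) (kb xb14 yb34 zb20) (kb xb10 yb43 zb49) (kb xb11 yb11 zb58) (kb xb6 yb51 zb12) (kb xb6 yb51 zb13) (kb xb6 yb51 zb11) (kb xb18 yb24 zb35) (kb xb18 yb24 zb12) (kb xb14 yb21 zb30) (kb xb22 yb11 zb56) (kb xb22 yb11 zb58) (kb xb6 yb51 zb15) (kb xb10 yb34 zb3) (kb xb22 yb11 zb60) (kb xb20 yb57 zb44) (kb xb22 yb12 zb0) (kb xb16 yb13 zb26) (kb xb6 yb51 zb18)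 (kb xb22 yb12 zb5) (kb xb6 yb51 zb20) (kb xb9 yb13 zb50) (kb xb6 yb51 zb23) (kb xb6 yb51 zb24) (kb xb14 yb48 zb5) (kb xb22 yb12 zb11) (kb xb13 yb26 zb4) (kb xb6 yb51 zb26) (kb xb13 yb44 zb54) (kb xb16 yb10 zb10) (kb xb6 yb51 zb27) (kb xb14 yb0 zb25) (kb xb7 yb29 zb56) (kb xb6 yb51 zb31) (kb xb13 yb35 zb0) (kb xb22 yb12 zb23) (kb xb11 yb24 zb58) (kb xb6 yb51 zb34) (kb xb21 yb14 zb7) (kb xb14 yb6 zb59) (kb xb6 yb51 zb36) (kb xb6 yb51 zb37) (kb xb22 yb12 zb27) (kb xb6 yb51 zb35) (kb xb22 yb12 zb38) (kb xb22 yb12 zb40) (kb xb22 yb12 zb34) (kb xb13 yb18 zb14) (kb xb14 yb12 zb57) (kb xb13 yb21 zb38) (kb xb13 yb18 zb13)) (@D3.rec (fun _ => Pt) (kb xb6 yb53 zb60) (kb xb14 yb13 zb31) (kb xb6 yb51 zb45) (kb xb11 yb26 zb8) (kb xb13 yb18 zb25) (kb xb6 yb51 zb48) (kb xb6 yb51 zb50)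 (kb xb12 yb51 zb35) (kb xb21 yb49 zb35) (kb xb22 yb12 zb46) (kb xb14 yb16 zb39) (kb xb13 yb34 zb26) (kb xb13 yb34 zb29) (kb xb22 yb12 zb56) (kb xb22 yb12 zb59) (kb xb12 yb36 zb5) (kb xb14 yb15 zb39) (kb xb13 yb19 zb37) (kb xb22 yb13 zb1) (kb xb6 yb51 zb54) (kb xb6 yb51 zb56) (kb xb22 yb13 zb5) (kb xb22 yb13 zb6) (kb xb12 yb32 zb43) (kb xb22 yb13 zb11) (kb xb13 yb19 zb36) (kb xb12 yb34 zb8) (kb xb6 yb51 zb59) (kb xb6 yb51 zb60) (kb xb22 yb13 zb22) (kb xb22 yb13 zb27) (kb xb22 yb13 zb20) (kb xb13 yb19 zb3) (kb xb22 yb12 zb37) (kb xb6 yb52 zb0) (kb xb6 yb52 zb1) (kb xb17 yb17 zb42) (kb xb22 yb13 zb37) (kb xb6 yb52 zb2) (kb xb22 yb13 zb44) (kb xb22 yb13 zb42) (kb xb6 yb52 zb3) (kb xb22 yb13 zb50) (kb xb22 yb13 zb51) (kb xb22 yb13 zb53) (kb xb6 yb52 zb4) (kb xb22 yb13 zb57)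 (kb xb22 yb13 zb58) (kb xb13 yb22 zb15) (kb xb6 yb52 zb8) (kb xb22 yb13 zb61) (kb xb9 yb21 zb22) (kb xb14 yb12 zb47) (kb xb6 yb52 zb10) (kb xb6 yb52 zb11) (kb xb22 yb14 zb9) (kb xb22 yb14 zb12) (kb xb22 yb14 zb15) (kb xb22 yb14 zb8) (kb xb13 yb23 zb38) (kb xb20 yb59 zb32) (kb xb22 yb14 zb21)) (@D3.rec (fun _ => Pt) (kb xb22 yb14 zb22) (kb xb6 yb52 zb13) (kb xb22 yb14 zb23) (kb xb6 yb52 zb22) (kb xb7 yb39 zb10) (kb xb6 yb52 zb17) (kb xb6 yb52 zb18) (kb xb22 yb14 zb28) (kb xb22 yb14 zb26) (kb xb13 yb33 zb58) (kb xb14 yb27 zb17) (kb xb6 yb52 zb19) (kb xb19 yb32 zb0) (kb xb22 yb14 zb33) (kb xb22 yb14 zb35) (kb xb22 yb14 zb36) (kb xb22 yb14 zb37) (kb xb21 yb13 zb33) (kb xb22 yb14 zb40) (kb xb13 yb46 zb18) (kb xb19 yb22 zb1) (kb xb22 yb14 zb42) (kb xb6 yb52 zb30) (kb xb19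 yb50 zb47) (kb xb6 yb52 zb31) (kb xb6 yb52 zb34) (kb xb22 yb14 zb52) (kb xb13 yb35 zb16) (kb xb22 yb14 zb58) (kb xb13 yb26 zb34) (kb xb6 yb58 zb51) (kb xb6 yb52 zb36) (kb xb19 yb12 zb3) (kb xb22 yb15 zb2) (kb xb14 yb21 zb26) (kb xb14 yb56 zb48) (kb xb6 yb52 zb39) (kb xb9 yb26 zb31) (kb xb6 yb52 zb43) (kb xb6 yb52 zb42) (kb xb22 yb15 zb11) (kb xb22 yb15 zb16) (kb xb10 yb54 zb19) (kb xb22 yb15 zb7) (kb xb22 yb15 zb21) (kb xb7 yb33 zb27) (kb xb10 yb41 zb7) (kb xb6 yb52 zb48) (kb xb10 yb40 zb53) (kb xb22 yb15 zb24) (kb xb13 yb57 zb5) (kb xb6 yb52 zb50) (kb xb14 yb15 zb27) (kb xb7 yb32 zb33) (kb xb22 yb15 zb26) (kb xb7 yb33 zb14) (kb xb7 yb1 zb38) (kb xb22 yb15 zb28) (kb xb10 yb25 zb39) (kb xb6 yb52 zb54) (kb xb10 yb25 zb33) (kb xb22 yb15 zb32)) (@D3.rec (fun _ => Pt) (kb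 xb13 yb44 zb59) (kb xb6 yb52 zb56) (kb xb6 yb52 zb57) (kb xb22 yb15 zb37) (kb xb22 yb15 zb42) (kb xb14 yb1 zb20) (kb xb13 yb34 zb57) (kb xb22 yb15 zb47) (kb xb6 yb58 zb4) (kb xb6 yb52 zb60) (kb xb14 yb9 zb18) (kb xb17 yb43 zb35) (kb xb14 yb13 zb15) (kb xb13 yb15 zb52) (kb xb6 yb53 zb9) (kb xb14 yb13 zb17) (kb xb13 yb17 zb25) (kb xb6 yb53 zb10) (kb xb22 yb15 zb56) (kb xb14 yb12 zb60) (kb xb22 yb16 zb6) (kb xb22 yb16 zb7) (kb xb22 yb2 zb40) (kb xb13 yb23 zb23) (kb xb9 yb21 zb21) (kb xb6 yb53 zb15) (kb xb13 yb17 zb31) (kb xb17 yb0 zb19) (kb xb22 yb16 zb12) (kb xb22 yb16 zb14) (kb xb7 yb15 zb53) (kb xb14 yb12 zb46) (kb xb13 yb17 zb56) (kb xb6 yb53 zb26) (kb xb13 yb17 zb34) (kb xb13 yb17 zb35) (kb xb6 yb53 zb19) (kb xb22 yb16 zb26) (kb xb22 yb16 zb27) (kb xb13 yb17 zb39)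 (kb xb22 yb16 zb30) (kb xb22 yb16 zb35) (kb xb6 yb53 zb36) (kb xb6 yb53 zb23) (kb xb22 yb16 zb37) (kb xb6 yb53 zb24) (kb xb22 yb16 zb38) (kb xb14 yb16 zb19) (kb xb14 yb16 zb20) (kb xb22 yb16 zb43) (kb xb14 yb16 zb22) (kb xb22 yb16 zb50) (kb xb12 yb57 zb0) (kb xb13 yb40 zb16) (kb xb6 yb53 zb29) (kb xb6 yb53 zb30) (kb xb22 yb16 zb24) (kb xb22 yb17 zb0) (kb xb22 yb16 zb59) (kb xb22 yb17 zb5) (kb xb14 yb16 zb30) (kb xb7 yb48 zb9)) (@D3.rec (fun _ => Pt) (kb xb6 yb53 zb33) (kb xb22 yb17 zb13) (kb xb22 yb17 zb12) (kb xb22 yb17 zb18) (kb xb14 yb16 zb35) (kb xb20 yb8 zb59) (kb xb6 yb53 zb35) (kb xb22 yb17 zb27) (kb xb22 yb17 zb28) (kb xb10 yb25 zb59) (kb xb6 yb53 zb38) (kb xb6 yb53 zb39) (kb xb22 yb17 zb36) (kb xb22 yb17 zb34) (kb xb14 yb28 zb27) (kb xb6 yb53 zb40) (kb xb13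 yb36 zb3) (kb xb10 yb5 zb43) (kb xb13 yb54 zb27) (kb xb13 yb8 zb51) (kb xb14 yb5 zb2) (kb xb7 yb21 zb10) (kb xb7 yb22 zb14) (kb xb14 yb1 zb43) (kb xb11 yb11 zb6) (kb xb6 yb53 zb50) (kb xb13 yb54 zb37) (kb xb14 yb5 zb5) (kb xb6 yb53 zb51) (kb xb11 yb21 zb57) (kb xb15 yb50 zb23) (kb xb15 yb50 zb21) (kb xb8 yb5 zb37) (kb xb6 yb53 zb54) (kb xb22 yb17 zb57) (kb xb12 yb29 zb8) (kb xb12 yb1 zb9) (kb xb11 yb30 zb12) (kb xb14 yb12 zb28) (kb xb13 yb22 zb45) (kb xb9 yb5 zb55) (kb xb19 yb23 zb10) (kb xb14 yb13 zb39) (kb xb12 yb10 zb49) (kb xb14 yb14 zb2) (kb xb6 yb54 zb5) (kb xb6 yb54 zb6) (kb xb14 yb14 zb35) (kb xb14 yb14 zb36) (kb xb14 yb15 zb0) (kb xb22 yb18 zb13) (kb xb6 yb54 zb4) (kb xb22 yb18 zb15) (kb xb22 yb18 zb18) (kb xb22 yb18 zb20) (kb xb16 yb23 zb10) (kb xb22 yb18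 zb5) (kb xb6 yb54 zb8) (kb xb6 yb54 zb9) (kb xb22 yb18 zb27) (kb xb13 yb18 zb42) (kb xb13 yb18 zb15)) (@D3.rec (fun _ => Pt) (kb xb6 yb54 zb11) (kb xb6 yb54 zb12) (kb xb16 yb33 zb17) (kb xb6 yb54 zb13) (kb xb22 yb18 zb43) (kb xb18 yb47 zb48) (kb xb6 yb54 zb14) (kb xb22 yb18 zb50) (kb xb22 yb18 zb49) (kb xb6 yb54 zb15) (kb xb6 yb54 zb17) (kb xb6 yb54 zb18) (kb xb22 yb18 zb58) (kb xb8 yb50 zb2) (kb xb6 yb54 zb20) (kb xb7 yb37 zb47) (kb xb22 yb19 zb1) (kb xb22 yb19 zb2) (kb xb6 yb54 zb21) (kb xb13 yb12 zb26) (kb xb22 yb19 zb9) (kb xb22 yb19 zb12) (kb xb22 yb19 zb15) (kb xb22 yb19 zb20) (kb xb6 yb54 zb29) (kb xb22 yb19 zb0) (kb xb6 yb56 zb58) (kb xb6 yb54 zb25) (kb xb22 yb19 zb28) (kb xb22 yb19 zb27) (kb xb6 yb54 zb26) (kb xb22 yb19 zb30) (kb xb19 yb29 zb2) (kb xb6 yb54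 zb27) (kb xb22 yb19 zb34) (kb xb22 yb19 zb33) (kb xb22 yb19 zb36) (kb xb22 yb19 zb37) (kb xb6 yb54 zb28) (kb xb17 yb58 zb34) (kb xb14 yb25 zb57) (kb xb14 yb22 zb45) (kb xb6 yb57 zb23) (kb xb6 yb54 zb33) (kb xb14 yb44 zb13) (kb xb22 yb19 zb46) (kb xb22 yb19 zb45) (kb xb6 yb54 zb34) (kb xb22 yb19 zb49) (kb xb14 yb39 zb4) (kb xb6 yb54 zb38) (kb xb6 yb54 zb39) (kb xb7 yb35 zb55) (kb xb13 yb29 zb58) (kb xb7 yb36 zb25) (kb xb13 yb29 zb61) (kb xb6 yb54 zb43) (kb xb14 yb23 zb1) (kb xb22 yb19 zb56) (kb xb22 yb19 zb57) (kb xb9 yb28 zb35) (kb xb6 yb54 zb47)) (@D3.rec (fun _ => Pt) (kb xb22 yb19 zb58) (kb xb22 yb19 zb59) (kb xb7 yb38 zb12) (kb xb14 yb22 zb60) (kb xb13 yb36 zb39) (kb xb14 yb19 zb27) (kb xb14 yb18 zb6) (kb xb7 yb16 zb39) (kb xb6 yb54 zb50) (kb xb7 yb38 zb3) (kb xb22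 yb20 zb6) (kb xb22 yb20 zb7) (kb xb10 yb47 zb16) (kb xb22 yb20 zb13) (kb xb22 yb20 zb16) (kb xb6 yb55 zb3) (kb xb6 yb54 zb53) (kb xb22 yb20 zb20) (kb xb22 yb20 zb21) (kb xb14 yb26 zb18) (kb xb22 yb20 zb24) (kb xb14 yb26 zb21) (kb xb22 yb20 zb29) (kb xb20 yb27 zb23) (kb xb22 yb20 zb5) (kb xb6 yb54 zb58) (kb xb6 yb54 zb59) (kb xb10 yb34 zb49) (kb xb22 yb20 zb40) (kb xb22 yb20 zb37) (kb xb22 yb20 zb42) (kb xb14 yb26 zb30) (kb xb13 yb23 zb25) (kb xb6 yb55 zb0) (kb xb22 yb20 zb50) (kb xb22 yb20 zb49) (kb xb22 yb20 zb54) (kb xb14 yb26 zb36) (kb xb6 yb55 zb2) (kb xb22 yb21 zb0) (kb xb22 yb20 zb19) (kb xb6 yb55 zb5) (kb xb22 yb21 zb6) (kb xb22 yb21 zb5) (kb xb6 yb55 zb6) (kb xb7 yb15 zb34) (kb xb7 yb3 zb45) (kb xb14 yb45 zb38) (kb xb14 yb1 zb44) (kb xb7 yb21 zb6) (kb xb7 yb21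 zb7) (kb xb13 yb6 zb19) (kb xb6 yb55 zb15) (kb xb14 yb45 zb40) (kb xb14 yb1 zb47) (kb xb6 yb55 zb16) (kb xb22 yb21 zb10) (kb xb22 yb21 zb11) (kb xb14 yb29 zb4) (kb xb22 yb21 zb20) (kb xb6 yb55 zb20) (kb xb14 yb22 zb44)) (@D3.rec (fun _ => Pt) (kb xb14 yb30 zb47) (kb xb12 yb13 zb52) (kb xb14 yb23 zb28) (kb xb14 yb23 zb50) (kb xb6 yb55 zb31) (kb xb14 yb24 zb24) (kb xb14 yb24 zb56) (kb xb22 yb21 zb39) (kb xb6 yb55 zb41) (kb xb21 yb40 zb17) (kb xb6 yb55 zb30) (kb xb21 yb45 zb25) (kb xb22 yb21 zb46) (kb xb22 yb21 zb48) (kb xb21 yb3 zb20) (kb xb10 yb53 zb54) (kb xb13 yb33 zb32) (kb xb13 yb44 zb5) (kb xb6 yb55 zb36) (kb xb6 yb55 zb37) (kb xb22 yb21 zb58) (kb xb11 yb50 zb37) (kb xb11 yb50 zb38) (kb xb6 yb55 zb39) (kb xb11 yb50 zb46) (kb xb22 yb22 zb3) (kb xb17 yb9 zb1) (kb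 xb19 yb10 zb41) (kb xb6 yb55 zb40) (kb xb10 yb35 zb35) (kb xb22 yb21 zb42) (kb xb6 yb55 zb43) (kb xb6 yb55 zb44) (kb xb22 yb22 zb8) (kb xb6 yb55 zb45) (kb xb22 yb22 zb12) (kb xb21 yb55 zb24) (kb xb6 yb55 zb47) (kb xb14 yb51 zb47) (kb xb20 yb53 zb27) (kb xb22 yb22 zb18) (kb xb7 yb24 zb24) (kb xb14 yb9 zb45) (kb xb6 yb55 zb50) (kb xb6 yb55 zb51) (kb xb19 yb3 zb23) (kb xb14 yb40 zb19) (kb xb14 yb30 zb38) (kb xb14 yb18 zb33) (kb xb6 yb55 zb56) (kb xb7 yb12 zb57) (kb xb22 yb22 zb23) (kb xb14 yb19 zb37) (kb xb12 yb34 zb0) (kb xb10 yb47 zb24) (kb xb7 yb7 zb0) (kb xb11 yb42 zb7) (kb xb20 yb41 zb45) (kb xb21 yb20 zb3) (kb xb17 yb58 zb41) (kb xb11 yb56 zb36) (kb xb11 yb29 zb61)) (@D3.rec (fun _ => Pt) (kb xb22 yb22 zb31) (kb xb6 yb56 zb8) (kb xb6 yb56 zb9) (kb xb14 yb32 zb19)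 (kb xb14 yb30 zb48) (kb xb13 yb28 zb49) (kb xb6 yb56 zb2) (kb xb7 yb12 zb59) (kb xb22 yb22 zb40) (kb xb22 yb22 zb41) (kb xb14 yb30 zb50) (kb xb22 yb22 zb45) (kb xb16 yb27 zb22) (kb xb6 yb56 zb12) (kb xb8 yb0 zb3) (kb xb6 yb56 zb6) (kb xb22 yb22 zb50) (kb xb22 yb22 zb51) (kb xb14 yb19 zb14) (kb xb22 yb22 zb56) (kb xb22 yb22 zb34) (kb xb6 yb56 zb10) (kb xb22 yb22 zb61) (kb xb22 yb7 zb8) (kb xb22 yb23 zb1) (kb xb6 yb56 zb11) (kb xb15 yb17 zb7) (kb xb22 yb22 zb48) (kb xb6 yb56 zb14) (kb xb22 yb23 zb6) (kb xb14 yb18 zb56) (kb xb14 yb19 zb24) (kb xb14 yb32 zb13) (kb xb13 yb45 zb49) (kb xb6 yb56 zb17) (kb xb14 yb29 zb2) (kb xb14 yb18 zb44) (kb xb14 yb18 zb45) (kb xb6 yb56 zb22) (kb xb22 yb23 zb11) (kb xb22 yb23 zb12) (kb xb9 yb42 zb0) (kb xb13 yb44 zb36) (kb xb6 yb56 zb26)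 (kb xb22 yb23 zb16) (kb xb6 yb56 zb27) (kb xb18 yb16 zb51) (kb xb6 yb56 zb33) (kb xb11 yb35 zb25) (kb xb13 yb19 zb28) (kb xb13 yb19 zb29) (kb xb20 yb31 zb10) (kb xb13 yb19 zb31) (kb xb22 yb23 zb28) (kb xb22 yb6 zb31) (kb xb13 yb19 zb55) (kb xb22 yb23 zb32) (kb xb15 yb11 zb58) (kb xb9 yb32 zb26) (kb xb6 yb56 zb37) (kb xb17 yb5 zb60) (kb xb6 yb56 zb42)) (@D3.rec (fun _ => Pt) (kb xb11 yb48 zb20) (kb xb11 yb55 zb45) (kb xb18 yb1 zb31) (kb xb11 yb31 zb29) (kb xb22 yb23 zb37) (kb xb6 yb56 zb43) (kb xb15 yb55 zb33) (kb xb22 yb23 zb40) (kb xb22 yb23 zb41) (kb xb6 yb56 zb44) (kb xb9 yb21 zb32) (kb xb22 yb23 zb43) (kb xb22 yb23 zb46) (kb xb6 yb56 zb45) (kb xb19 yb30 zb34) (kb xb14 yb33 zb44) (kb xb14 yb30 zb46) (kb xb14 yb41 zb13) (kb xb14 yb41 zb14) (kb xb7 yb7 zb43) (kb xb14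 yb40 zb43) (kb xb22 yb23 zb59) (kb xb22 yb24 zb0) (kb xb6 yb56 zb54) (kb xb13 yb35 zb26) (kb xb22 yb24 zb6) (kb xb6 yb56 zb55) (kb xb6 yb56 zb56) (kb xb6 yb56 zb51) (kb xb22 yb24 zb13) (kb xb22 yb24 zb12) (kb xb22 yb24 zb17) (kb xb14 yb31 zb54) (kb xb22 yb24 zb20) (kb xb22 yb24 zb21) (kb xb6 yb56 zb53) (kb xb22 yb24 zb26) (kb xb14 yb40 zb39) (kb xb22 yb24 zb4) (kb xb14 yb28 zb50) (kb xb22 yb19 zb24) (kb xb13 yb35 zb35) (kb xb22 yb24 zb32) (kb xb14 yb40 zb28) (kb xb22 yb24 zb39) (kb xb6 yb57 zb0) (kb xb22 yb24 zb45) (kb xb13 yb28 zb53) (kb xb6 yb57 zb1) (kb xb6 yb56 zb61) (kb xb22 yb24 zb51) (kb xb14 yb40 zb48) (kb xb22 yb24 zb43) (kb xb22 yb24 zb44) (kb xb13 yb28 zb34) (kb xb22 yb19 zb29) (kb xb22 yb24 zb60) (kb xb6 yb57 zb4) (kb xb6 yb57 zb5) (kb xb22 yb25 zb6) (kb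 xb22 yb25 zb8) (kb xb6 yb57 zb3)) (@D3.rec (fun _ => Pt) (kb xb22 yb25 zb12) (kb xb14 yb40 zb55) (kb xb22 yb25 zb4) (kb xb22 yb25 zb5) (kb xb22 yb19 zb31) (kb xb22 yb25 zb19) (kb xb6 yb57 zb8) (kb xb6 yb57 zb9) (kb xb6 yb57 zb7) (kb xb22 yb25 zb28) (kb xb22 yb25 zb23) (kb xb22 yb25 zb24) (kb xb6 yb57 zb10) (kb xb11 yb26 zb15) (kb xb6 yb57 zb11) (kb xb22 yb25 zb41) (kb xb22 yb25 zb45) (kb xb22 yb25 zb50) (kb xb22 yb19 zb41) (kb xb6 yb57 zb13) (kb xb6 yb57 zb14) (kb xb22 yb25 zb57) (kb xb22 yb25 zb58) (kb xb22 yb26 zb1) (kb xb22 yb26 zb5) (kb xb6 yb57 zb17) (kb xb13 yb7 zb19) (kb xb14 yb22 zb42) (kb xb14 yb10 zb41) (kb xb6 yb57 zb21) (kb xb22 yb26 zb17) (kb xb22 yb26 zb16) (kb xb14 yb20 zb29) (kb xb12 yb51 zb47) (kb xb22 yb19 zb43) (kb xb13 yb13 zb27) (kb xb14 yb43 zb58)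 (kb xb22 yb26 zb25) (kb xb6 yb57 zb28) (kb xb14 yb23 zb11) (kb xb22 yb26 zb30) (kb xb6 yb57 zb30) (kb xb6 yb57 zb26) (kb xb22 yb26 zb35) (kb xb6 yb57 zb27) (kb xb22 yb26 zb38) (kb xb22 yb26 zb39) (kb xb6 yb57 zb29) (kb xb22 yb26 zb43) (kb xb22 yb26 zb44) (kb xb6 yb57 zb31) (kb xb22 yb26 zb46) (kb xb6 yb57 zb32) (kb xb22 yb26 zb51) (kb xb6 yb57 zb33) (kb xb22 yb26 zb54) (kb xb13 yb29 zb53) (kb xb22 yb26 zb57) (kb xb22 yb19 zb48) (kb xb6 yb57 zb35) (kb xb6 yb57 zb36) (kb xb22 yb26 zb61)) (@D3.rec (fun _ => Pt) (kb xb14 yb3 zb10) (kb xb14 yb2 zb29) (kb xb6 yb57 zb40) (kb xb6 yb57 zb41) (kb xb22 yb27 zb6) (kb xb22 yb27 zb8) (kb xb22 yb27 zb9) (kb xb16 yb2 zb41) (kb xb12 yb36 zb6) (kb xb6 yb57 zb44) (kb xb13 yb23 zb5) (kb xb14 yb38 zb59) (kb xb13 yb37 zb31) (kb xb22 yb27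 zb19) (kb xb7 yb33 zb20) (kb xb22 yb27 zb27) (kb xb6 yb57 zb51) (kb xb13 yb27 zb21) (kb xb6 yb57 zb53) (kb xb6 yb57 zb50) (kb xb22 yb27 zb32) (kb xb22 yb27 zb39) (kb xb22 yb27 zb41) (kb xb22 yb27 zb31) (kb xb22 yb27 zb46) (kb xb22 yb27 zb47) (kb xb7 yb10 zb15) (kb xb13 yb12 zb35) (kb xb6 yb57 zb55) (kb xb6 yb57 zb56) (kb xb6 yb57 zb57) (kb xb22 yb27 zb56) (kb xb22 yb27 zb58) (kb xb7 yb24 zb26) (kb xb13 yb26 zb17) (kb xb6 yb57 zb60) (kb xb22 yb28 zb0) (kb xb14 yb45 zb7) (kb xb21 yb57 zb4) (kb xb13 yb15 zb12) (kb xb6 yb58 zb0) (kb xb20 yb34 zb58) (kb xb22 yb28 zb11) (kb xb14 yb47 zb6) (kb xb13 yb26 zb22) (kb xb6 yb58 zb2) (kb xb22 yb28 zb13) (kb xb6 yb58 zb3) (kb xb21 yb56 zb48) (kb xb22 yb28 zb20) (kb xb6 yb58 zb7) (kb xb6 yb58 zb6) (kb xb22 yb28 zb28) (kb xb21 yb56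 zb33) (kb xb16 yb11 zb18) (kb xb22 yb28 zb24) (kb xb13 yb15 zb35) (kb xb22 yb28 zb35) (kb xb13 yb14 zb23) (kb xb22 yb28 zb38) (kb xb18 yb21 zb44) (kb xb6 yb58 zb11)) (@D3.rec (fun _ => Pt) (kb xb6 yb58 zb12) (kb xb6 yb58 zb13) (kb xb7 yb14 zb21) (kb xb14 yb22 zb46) (kb xb13 yb14 zb33) (kb xb6 yb58 zb15) (kb xb6 yb58 zb16) (kb xb18 yb36 zb50) (kb xb22 yb28 zb49) (kb xb6 yb58 zb17) (kb xb22 yb28 zb54) (kb xb20 yb7 zb8) (kb xb22 yb28 zb59) (kb xb18 yb34 zb54) (kb xb6 yb58 zb20) (kb xb6 yb58 zb22) (kb xb22 yb29 zb1) (kb xb6 yb58 zb23) (kb xb11 yb45 zb60) (kb xb7 yb48 zb44) (kb xb6 yb58 zb25) (kb xb22 yb29 zb5) (kb xb13 yb41 zb8) (kb xb13 yb13 zb58) (kb xb6 yb58 zb27) (kb xb9 yb56 zb2) (kb xb22 yb29 zb8) (kb xb6 yb58 zb29) (kb xb6 yb58 zb30) (kb xb20 yb47 zb24) (kb xb22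 yb29 zb13) (kb xb22 yb29 zb18) (kb xb7 yb7 zb53) (kb xb13 yb14 zb4) (kb xb6 yb58 zb32) (kb xb6 yb58 zb33) (kb xb22 yb29 zb25) (kb xb6 yb58 zb34) (kb xb22 yb29 zb31) (kb xb18 yb56 zb48) (kb xb10 yb12 zb1) (kb xb6 yb58 zb35) (kb xb10 yb23 zb1) (kb xb22 yb29 zb36) (kb xb11 yb23 zb29) (kb xb7 yb4 zb11) (kb xb14 yb53 zb50) (kb xb6 yb58 zb37) (kb xb6 yb58 zb38) (kb xb21 yb40 zb61) (kb xb6 yb58 zb40) (kb xb22 yb29 zb44) (kb xb22 yb29 zb46) (kb xb13 yb47 zb10) (kb xb6 yb58 zb46) (kb xb6 yb58 zb47) (kb xb6 yb58 zb44) (kb xb22 yb29 zb53) (kb xb6 yb58 zb45) (kb xb22 yb29 zb55) (kb xb22 yb29 zb58) (kb xb22 yb29 zb52)) (@D3.rec (fun _ => Pt) (kb xb6 yb58 zb48) (kb xb22 yb29 zb60) (kb xb17 yb17 zb22) (kb xb22 yb30 zb3) (kb xb22 yb30 zb5) (kb xb14 yb42 zb57) (kb xb7 yb9 zb24) (kb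 xb6 yb59 zb17) (kb xb6 yb58 zb53) (kb xb22 yb30 zb9) (kb xb22 yb30 zb12) (kb xb14 yb56 zb32) (kb xb13 yb13 zb39) (kb xb6 yb58 zb61) (kb xb12 yb42 zb24) (kb xb7 yb44 zb39) (kb xb12 yb15 zb57) (kb xb22 yb30 zb18) (kb xb17 yb55 zb35) (kb xb12 yb15 zb61) (kb xb14 yb10 zb48) (kb xb14 yb43 zb1) (kb xb13 yb49 zb43) (kb xb6 yb59 zb11) (kb xb22 yb30 zb24) (kb xb13 yb49 zb25) (kb xb13 yb34 zb37) (kb xb6 yb59 zb13) (kb xb6 yb59 zb14) (kb xb11 yb7 zb12) (kb xb7 yb48 zb57) (kb xb22 yb30 zb28) (kb xb6 yb59 zb15) (kb xb22 yb30 zb30) (kb xb13 yb49 zb5) (kb xb13 yb13 zb56) (kb xb13 yb49 zb24) (kb xb6 yb59 zb16) (kb xb13 yb26 zb15) (kb xb22 yb30 zb36) (kb xb22 yb30 zb7) (kb xb22 yb30 zb41) (kb xb14 yb9 zb43) (kb xb6 yb59 zb21) (kb xb6 yb59 zb22) (kb xb6 yb59 zb20) (kb xb19 yb1 zb51)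 (kb xb22 yb30 zb51) (kb xb10 yb4 zb9) (kb xb22 yb30 zb45) (kb xb22 yb30 zb46) (kb xb14 yb17 zb36) (kb xb13 yb5 zb13) (kb xb7 yb34 zb32) (kb xb6 yb59 zb24) (kb xb22 yb31 zb4) (kb xb22 yb31 zb7) (kb xb6 yb59 zb28) (kb xb19 yb55 zb45) (kb xb22 yb31 zb10) (kb xb8 yb33 zb19) (kb xb22 yb31 zb16)) (@D3.rec (fun _ => Pt) (kb xb14 yb44 zb37) (kb xb6 yb59 zb31) (kb xb22 yb31 zb19) (kb xb7 yb18 zb9) (kb xb13 yb34 zb17) (kb xb13 yb51 zb61) (kb xb6 yb59 zb34) (kb xb13 yb49 zb53) (kb xb22 yb31 zb24) (kb xb7 yb11 zb60) (kb xb13 yb51 zb49) (kb xb22 yb31 zb30) (kb xb7 yb18 zb13) (kb xb22 yb31 zb34) (kb xb6 yb59 zb41) (kb xb6 yb59 zb38) (kb xb22 yb31 zb42) (kb xb6 yb59 zb39) (kb xb22 yb31 zb48) (kb xb6 yb59 zb40) (kb xb22 yb31 zb52) (kb xb18 yb40 zb45) (kb xb22 yb31 zb58) (kb xb22 yb31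 zb39) (kb xb6 yb59 zb44) (kb xb13 yb56 zb11) (kb xb22 yb32 zb0) (kb xb7 yb1 zb49) (kb xb6 yb59 zb47) (kb xb13 yb17 zb21) (kb xb22 yb32 zb4) (kb xb20 yb51 zb3) (kb xb13 yb57 zb22) (kb xb7 yb1 zb55) (kb xb7 yb1 zb56) (kb xb11 yb23 zb2) (kb xb9 yb16 zb21) (kb xb14 yb26 zb6) (kb xb6 yb59 zb58) (kb xb6 yb59 zb51) (kb xb13 yb56 zb13) (kb xb22 yb32 zb10) (kb xb22 yb32 zb11) (kb xb6 yb59 zb52) (kb xb13 yb22 zb43) (kb xb20 yb51 zb61) (kb xb17 yb0 zb35) (kb xb21 yb9 zb9) (kb xb20 yb50 zb44) (kb xb7 yb0 zb4) (kb xb17 yb19 zb1) (kb xb9 yb25 zb30) (kb xb9 yb8 zb25) (kb xb20 yb51 zb4) (kb xb7 yb2 zb26) (kb xb6 yb59 zb60) (kb xb6 yb59 zb61) (kb xb22 yb32 zb30) (kb xb9 yb4 zb7) (kb xb22 yb32 zb9) (kb xb7 yb2 zb41) (kb xb7 yb0 zb1)) (@D3.rec (fun _ => Pt) (kb xb16 yb10 zb23) (kb xb15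 yb55 zb51) (kb xb7 yb0 zb2) (kb xb13 yb55 zb35) (kb xb20 yb12 zb25) (kb xb14 yb48 zb53) (kb xb22 yb32 zb21) (kb xb22 yb32 zb50) (kb xb7 yb0 zb7) (kb xb22 yb32 zb51) (kb xb7 yb0 zb10) (kb xb20 yb50 zb50) (kb xb20 yb50 zb55) (kb xb22 yb32 zb59) (kb xb22 yb32 zb53) (kb xb7 yb0 zb11) (kb xb22 yb32 zb61) (kb xb22 yb33 zb1) (kb xb8 yb29 zb15) (kb xb7 yb0 zb14) (kb xb17 yb28 zb35) (kb xb13 yb16 zb29) (kb xb12 yb37 zb13) (kb xb7 yb32 zb12) (kb xb22 yb12 zb28) (kb xb13 yb5 zb16) (kb xb7 yb0 zb20) (kb xb7 yb0 zb21) (kb xb22 yb33 zb20) (kb xb22 yb33 zb19) (kb xb7 yb4 zb12) (kb xb13 yb5 zb26) (kb xb7 yb0 zb23) (kb xb7 yb21 zb58) (kb xb13 yb5 zb34) (kb xb13 yb5 zb35) (kb xb7 yb0 zb25) (kb xb22 yb33 zb24) (kb xb19 yb21 zb28) (kb xb13 yb5 zb39) (kb xb22 yb33 zb26) (kb xb13 yb35 zb58)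 (kb xb7 yb32 zb50) (kb xb7 yb0 zb28) (kb xb22 yb33 zb30) (kb xb22 yb33 zb31) (kb xb7 yb0 zb30) (kb xb22 yb33 zb34) (kb xb7 yb0 zb31) (kb xb20 yb33 zb58) (kb xb21 yb44 zb8) (kb xb7 yb0 zb32) (kb xb22 yb33 zb37) (kb xb22 yb33 zb38) (kb xb18 yb57 zb44) (kb xb22 yb33 zb41) (kb xb13 yb5 zb32) (kb xb7 yb34 zb37) (kb xb7 yb0 zb35) (kb xb7 yb0 zb36) (kb xb22 yb33 zb45) (kb xb7 yb0 zb37)) (@D3.rec (fun _ => Pt) (kb xb22 yb33 zb52) (kb xb7 yb0 zb38) (kb xb22 yb33 zb56) (kb xb7 yb33 zb44) (kb xb7 yb6 zb4) (kb xb13 yb50 zb9) (kb xb7 yb33 zb49) (kb xb7 yb0 zb46) (kb xb15 yb4 zb42) (kb xb22 yb34 zb6) (kb xb7 yb0 zb50) (kb xb20 yb41 zb5) (kb xb7 yb32 zb29) (kb xb13 yb2 zb61) (kb xb13 yb2 zb58) (kb xb13 yb6 zb61) (kb xb7 yb32 zb34) (kb xb7 yb32 zb35) (kb xb20 yb45 zb15) (kb xb7 yb0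 zb60) (kb xb7 yb0 zb61) (kb xb7 yb0 zb54) (kb xb22 yb34 zb17) (kb xb22 yb21 zb23) (kb xb7 yb20 zb58) (kb xb13 yb3 zb4) (kb xb22 yb34 zb22) (kb xb7 yb26 zb18) (kb xb14 yb59 zb5) (kb xb7 yb1 zb9) (kb xb7 yb0 zb58) (kb xb22 yb34 zb28) (kb xb20 yb46 zb15) (kb xb21 yb44 zb3) (kb xb22 yb34 zb33) (kb xb22 yb34 zb35) (kb xb22 yb34 zb37) (kb xb18 yb54 zb61) (kb xb7 yb1 zb1) (kb xb7 yb1 zb2) (kb xb22 yb34 zb41) (kb xb22 yb34 zb40) (kb xb13 yb6 zb60) (kb xb7 yb33 zb15) (kb xb7 yb1 zb4) (kb xb7 yb1 zb5) (kb xb22 yb34 zb55) (kb xb22 yb34 zb52) (kb xb7 yb1 zb6) (kb xb22 yb35 zb0) (kb xb22 yb34 zb61) (kb xb7 yb1 zb7) (kb xb22 yb35 zb9) (kb xb22 yb35 zb8) (kb xb22 yb35 zb11) (kb xb22 yb35 zb13) (kb xb7 yb1 zb8) (kb xb7 yb1 zb11) (kb xb7 yb1 zb12) (kb xb22 yb35 zb16) (kb xb22 yb35 zb15)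 (kb xb13 yb20 zb55)) (@D3.rec (fun _ => Pt) (kb xb21 yb41 zb12) (kb xb20 yb27 zb25) (kb xb14 yb11 zb43) (kb xb13 yb3 zb32) (kb xb7 yb1 zb17) (kb xb7 yb21 zb24) (kb xb7 yb21 zb25) (kb xb22 yb35 zb28) (kb xb7 yb44 zb9) (kb xb13 yb45 zb6) (kb xb20 yb18 zb58) (kb xb7 yb25 zb20) (kb xb7 yb27 zb40) (kb xb21 yb2 zb59) (kb xb18 yb42 zb52) (kb xb7 yb1 zb29) (kb xb7 yb1 zb30) (kb xb7 yb1 zb24) (kb xb21 yb41 zb18) (kb xb22 yb24 zb47) (kb xb10 yb47 zb27) (kb xb7 yb1 zb25) (kb xb22 yb35 zb48) (kb xb22 yb35 zb51) (kb xb22 yb35 zb54) (kb xb13 yb34 zb30) (kb xb20 yb31 zb8) (kb xb20 yb31 zb9) (kb xb13 yb10 zb49) (kb xb13 yb10 zb50) (kb xb11 yb35 zb33) (kb xb13 yb10 zb52) (kb xb22 yb35 zb44) (kb xb7 yb1 zb34) (kb xb21 yb41 zb14) (kb xb22 yb24 zb8) (kb xb13 yb3 zb25) (kb xb13 yb3 zb17)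 (kb xb22 yb32 zb3) (kb xb21 yb41 zb17) (kb xb13 yb44 zb52) (kb xb7 yb1 zb43) (kb xb7 yb1 zb37) (kb xb22 yb36 zb10) (kb xb22 yb36 zb11) (kb xb22 yb14 zb60) (kb xb22 yb15 zb27) (kb xb22 yb36 zb14) (kb xb22 yb15 zb29) (kb xb22 yb36 zb16) (kb xb7 yb1 zb48) (kb xb11 yb45 zb34) (kb xb9 yb25 zb53) (kb xb7 yb1 zb42) (kb xb22 yb36 zb19) (kb xb13 yb10 zb55) (kb xb22 yb36 zb20) (kb xb21 yb26 zb11) (kb xb10 yb27 zb1) (kb xb7 yb55 zb21) (kb xb7 yb1 zb46) (kb xb19 yb21 zb40)) (@D3.rec (fun _ => Pt) (kb xb7 yb1 zb47) (kb xb22 yb36 zb27) (kb xb9 yb54 zb25) (kb xb10 yb27 zb2) (kb xb20 yb50 zb45) (kb xb7 yb30 zb46) (kb xb13 yb34 zb21) (kb xb22 yb36 zb34) (kb xb7 yb1 zb52) (kb xb22 yb36 zb40) (kb xb7 yb1 zb53) (kb xb22 yb36 zb41) (kb xb7 yb1 zb54) (kb xb22 yb36 zb43) (kb xb16 yb23 zb59)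 (kb xb16 yb32 zb37) (kb xb7 yb2 zb40) (kb xb17 yb17 zb19) (kb xb7 yb1 zb59) (kb xb7 yb1 zb60) (kb xb22 yb32 zb14) (kb xb21 yb42 zb37) (kb xb22 yb36 zb50) (kb xb7 yb2 zb25) (kb xb22 yb36 zb28) (kb xb7 yb2 zb0) (kb xb7 yb2 zb1) (kb xb17 yb16 zb22) (kb xb7 yb2 zb2) (kb xb12 yb34 zb44) (kb xb21 yb9 zb41) (kb xb7 yb2 zb3) (kb xb16 yb7 zb43) (kb xb18 yb48 zb53) (kb xb20 yb9 zb55) (kb xb7 yb2 zb4) (kb xb22 yb37 zb2) (kb xb22 yb37 zb3) (kb xb7 yb2 zb60) (kb xb7 yb2 zb6) (kb xb10 yb6 zb27) (kb xb7 yb2 zb12) (kb xb21 yb41 zb27) (kb xb17 yb23 zb1) (kb xb11 yb40 zb53) (kb xb9 yb15 zb60) (kb xb7 yb2 zb16) (kb xb16 yb59 zb42) (kb xb21 yb37 zb46) (kb xb9 yb16 zb36) (kb xb22 yb37 zb11) (kb xb15 yb27 zb10) (kb xb7 yb2 zb17) (kb xb16 yb31 zb41) (kb xb18 yb1 zb18) (kb xb13 yb18 zb61)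 (kb xb7 yb28 zb36) (kb xb9 yb26 zb4) (kb xb11 yb58 zb41) (kb xb7 yb2 zb22) (kb xb22 yb37 zb26) (kb xb22 yb37 zb27)) (@D3.rec (fun _ => Pt) (kb xb20 yb41 zb53) (kb xb20 yb41 zb54) (kb xb22 yb37 zb32) (kb xb20 yb41 zb56) (kb xb22 yb37 zb39) (kb xb22 yb35 zb23) (kb xb9 yb26 zb33) (kb xb22 yb32 zb23) (kb xb22 yb32 zb24) (kb xb7 yb28 zb19) (kb xb7 yb28 zb20) (kb xb22 yb36 zb55) (kb xb11 yb21 zb19) (kb xb22 yb37 zb56) (kb xb7 yb2 zb36) (kb xb22 yb15 zb33) (kb xb22 yb37 zb58) (kb xb7 yb2 zb38) (kb xb7 yb2 zb39) (kb xb7 yb2 zb33) (kb xb22 yb38 zb2) (kb xb22 yb38 zb1) (kb xb19 yb17 zb3) (kb xb14 yb56 zb38) (kb xb22 yb38 zb7) (kb xb22 yb38 zb9) (kb xb7 yb2 zb35) (kb xb22 yb38 zb11) (kb xb22 yb38 zb16) (kb xb20 yb47 zb49) (kb xb7 yb46 zb54) (kb xb22 yb37 zb57) (kb xb22 yb38 zb24)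 (kb xb22 yb36 zb45) (kb xb7 yb32 zb16) (kb xb22 yb32 zb36) (kb xb13 yb44 zb15) (kb xb22 yb38 zb30) (kb xb13 yb2 zb60) (kb xb20 yb50 zb54) (kb xb22 yb36 zb48) (kb xb14 yb4 zb60) (kb xb7 yb2 zb47) (kb xb20 yb28 zb43) (kb xb22 yb36 zb33) (kb xb7 yb2 zb48) (kb xb7 yb2 zb46) (kb xb14 yb2 zb8) (kb xb17 yb23 zb21) (kb xb11 yb34 zb12) (kb xb22 yb38 zb37) (kb xb22 yb38 zb38) (kb xb15 yb31 zb48) (kb xb20 yb9 zb34) (kb xb19 yb18 zb37) (kb xb7 yb2 zb51) (kb xb13 yb55 zb42) (kb xb19 yb18 zb30) (kb xb22 yb39 zb0) (kb xb22 yb36 zb57) (kb xb22 yb38 zb57) (kb xb22 yb38 zb58)) (@D3.rec (fun _ => Pt) (kb xb14 yb38 zb12) (kb xb22 yb36 zb59) (kb xb22 yb39 zb7) (kb xb10 yb31 zb38) (kb xb7 yb2 zb55) (kb xb22 yb39 zb9) (kb xb19 yb33 zb7) (kb xb14 yb50 zb28) (kb xb13 yb57 zb49) (kb xb7 yb2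 zb58) (kb xb7 yb2 zb59) (kb xb11 yb3 zb50) (kb xb20 yb54 zb50) (kb xb22 yb39 zb17) (kb xb21 yb57 zb47) (kb xb13 yb3 zb48) (kb xb22 yb39 zb24) (kb xb7 yb3 zb1) (kb xb7 yb3 zb2) (kb xb22 yb39 zb28) (kb xb22 yb26 zb52) (kb xb22 yb39 zb27) (kb xb7 yb3 zb4) (kb xb7 yb3 zb5) (kb xb22 yb39 zb39) (kb xb22 yb39 zb38) (kb xb7 yb3 zb6) (kb xb22 yb39 zb46) (kb xb22 yb39 zb45) (kb xb7 yb3 zb7) (kb xb22 yb39 zb53) (kb xb22 yb39 zb52) (kb xb22 yb39 zb57) (kb xb22 yb39 zb59) (kb xb7 yb3 zb8) (kb xb22 yb40 zb2) (kb xb22 yb40 zb4) (kb xb7 yb3 zb12) (kb xb7 yb3 zb13) (kb xb22 yb40 zb11) (kb xb22 yb40 zb9) (kb xb7 yb3 zb15) (kb xb7 yb39 zb22) (kb xb13 yb16 zb44) (kb xb22 yb34 zb7) (kb xb13 yb6 zb39) (kb xb7 yb3 zb21) (kb xb22 yb40 zb23) (kb xb22 yb40 zb22) (kb xb22 yb40 zb27) (kb xb22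 yb40 zb29) (kb xb22 yb40 zb30) (kb xb7 yb3 zb27) (kb xb22 yb15 zb25) (kb xb22 yb40 zb31) (kb xb7 yb3 zb30) (kb xb7 yb3 zb24) (kb xb22 yb40 zb35) (kb xb22 yb40 zb34) (kb xb13 yb53 zb10) (kb xb7 yb3 zb26) (kb xb22 yb40 zb42)) (@D3.rec (fun _ => Pt) (kb xb22 yb40 zb45) (kb xb22 yb40 zb47) (kb xb22 yb0 zb49) (kb xb15 yb55 zb19) (kb xb7 yb3 zb28) (kb xb13 yb13 zb10) (kb xb22 yb40 zb57) (kb xb22 yb0 zb1) (kb xb7 yb3 zb31) (kb xb7 yb3 zb32) (kb xb19 yb4 zb45) (kb xb22 yb32 zb60) (kb xb7 yb3 zb34) (kb xb7 yb3 zb35) (kb xb19 yb6 zb50) (kb xb22 yb41 zb3) (kb xb7 yb3 zb36) (kb xb16 yb26 zb46) (kb xb13 yb38 zb60) (kb xb13 yb38 zb36) (kb xb7 yb3 zb41) (kb xb11 yb10 zb59) (kb xb7 yb3 zb44) (kb xb13 yb5 zb23) (kb xb22 yb41 zb15) (kb xb13 yb8 zb32) (kb xb7 yb3 zb52) (kb xb22 yb41 zb16)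 (kb xb7 yb50 zb54) (kb xb7 yb3 zb51) (kb xb14 yb3 zb58) (kb xb22 yb41 zb20) (kb xb12 yb44 zb56) (kb xb11 yb55 zb57) (kb xb19 yb25 zb18) (kb xb7 yb3 zb53) (kb xb11 yb47 zb38) (kb xb21 yb32 zb31) (kb xb13 yb3 zb59) (kb xb17 yb17 zb21) (kb xb7 yb3 zb56) (kb xb22 yb41 zb25) (kb xb7 yb3 zb57) (kb xb7 yb18 zb21) (kb xb7 yb3 zb60) (kb xb22 yb41 zb35) (kb xb22 yb27 zb50) (kb xb21 yb38 zb40) (kb xb22 yb41 zb34) (kb xb7 yb3 zb61) (kb xb22 yb41 zb45) (kb xb7 yb4 zb1) (kb xb7 yb4 zb2) (kb xb22 yb41 zb51) (kb xb22 yb41 zb49) (kb xb22 yb41 zb50) (kb xb13 yb52 zb32) (kb xb22 yb41 zb57) (kb xb7 yb19 zb51) (kb xb7 yb4 zb5) (kb xb7 yb4 zb6) (kb xb16 yb10 zb49)) (@D3.rec (fun _ => Pt) (kb xb12 yb7 zb57) (kb xb22 yb42 zb2) (kb xb7 yb49 zb7) (kb xb22 yb42 zb4) (kb xb22 yb29 zb43) (kb xb7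 yb49 zb2) (kb xb7 yb4 zb9) (kb xb22 yb42 zb10) (kb xb7 yb4 zb10) (kb xb22 yb42 zb16) (kb xb22 yb42 zb20) (kb xb15 yb50 zb36) (kb xb22 yb29 zb42) (kb xb20 yb10 zb23) (kb xb20 yb20 zb24) (kb xb7 yb24 zb33) (kb xb7 yb4 zb15) (kb xb7 yb4 zb17) (kb xb7 yb4 zb18) (kb xb22 yb42 zb26) (kb xb14 yb43 zb55) (kb xb9 yb4 zb16) (kb xb20 yb23 zb41) (kb xb7 yb4 zb19) (kb xb22 yb42 zb36) (kb xb7 yb4 zb21) (kb xb7 yb4 zb22) (kb xb20 yb12 zb32) (kb xb22 yb42 zb37) (kb xb22 yb42 zb38) (kb xb22 yb42 zb40) (kb xb22 yb42 zb41) (kb xb22 yb42 zb43) (kb xb12 yb45 zb47) (kb xb22 yb42 zb30) (kb xb8 yb48 zb22) (kb xb7 yb4 zb26) (kb xb22 yb42 zb51) (kb xb22 yb42 zb50) (kb xb22 yb32 zb35) (kb xb7 yb4 zb28) (kb xb7 yb4 zb29) (kb xb22 yb43 zb0) (kb xb22 yb42 zb61) (kb xb22 yb40 zb55) (kb xb7 yb4 zb30)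 (kb xb7 yb23 zb9) (kb xb22 yb35 zb30) (kb xb13 yb25 zb31) (kb xb7 yb4 zb33) (kb xb22 yb43 zb11) (kb xb22 yb43 zb10) (kb xb22 yb43 zb16) (kb xb22 yb43 zb19) (kb xb19 yb47 zb14) (kb xb7 yb4 zb38) (kb xb7 yb4 zb35) (kb xb22 yb43 zb30) (kb xb22 yb43 zb29) (kb xb7 yb4 zb36) (kb xb12 yb13 zb30) (kb xb22 yb43 zb37)) (@D3.rec (fun _ => Pt) (kb xb22 yb43 zb39) (kb xb22 yb43 zb41) (kb xb7 yb4 zb37) (kb xb22 yb43 zb45) (kb xb22 yb43 zb46) (kb xb22 yb43 zb49) (kb xb22 yb43 zb50) (kb xb22 yb43 zb27) (kb xb7 yb4 zb39) (kb xb7 yb4 zb40) (kb xb7 yb4 zb43) (kb xb22 yb43 zb57) (kb xb7 yb4 zb44) (kb xb22 yb43 zb59) (kb xb14 yb49 zb53) (kb xb7 yb4 zb46) (kb xb22 yb44 zb2) (kb xb21 yb32 zb36) (kb xb13 yb56 zb46) (kb xb12 yb8 zb17) (kb xb7 yb4 zb52) (kb xb22 yb44 zb8) (kb xb22 yb44 zb7)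 (kb xb22 yb44 zb13) (kb xb7 yb4 zb54) (kb xb7 yb4 zb55) (kb xb22 yb44 zb21) (kb xb22 yb44 zb19) (kb xb7 yb4 zb56) (kb xb22 yb15 zb60) (kb xb7 yb28 zb39) (kb xb13 yb24 zb48) (kb xb7 yb4 zb58) (kb xb22 yb44 zb34) (kb xb22 yb44 zb33) (kb xb22 yb44 zb39) (kb xb7 yb5 zb1) (kb xb7 yb4 zb60) (kb xb22 yb44 zb47) (kb xb22 yb44 zb46) (kb xb7 yb4 zb61) (kb xb21 yb19 zb31) (kb xb19 yb55 zb44) (kb xb22 yb44 zb56) (kb xb22 yb44 zb57) (kb xb7 yb5 zb0) (kb xb22 yb45 zb0) (kb xb13 yb58 zb0) (kb xb22 yb45 zb2) (kb xb22 yb45 zb6) (kb xb13 yb36 zb37) (kb xb22 yb44 zb44) (kb xb7 yb5 zb2) (kb xb7 yb5 zb3) (kb xb21 yb43 zb17) (kb xb16 yb4 zb7) (kb xb7 yb5 zb5) (kb xb7 yb5 zb6) (kb xb7 yb5 zb7) (kb xb7 yb5 zb8) (kb xb21 yb27 zb56) (kb xb12 yb18 zb49)) (@D3.rec (fun _ => Pt) (kb xb7 yb5 zb11)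 (kb xb19 yb10 zb48) (kb xb22 yb27 zb3) (kb xb7 yb50 zb50) (kb xb13 yb2 zb37) (kb xb7 yb5 zb15) (kb xb22 yb45 zb28) (kb xb22 yb45 zb32) (kb xb22 yb45 zb34) (kb xb7 yb5 zb17) (kb xb22 yb45 zb37) (kb xb22 yb45 zb41) (kb xb7 yb30 zb4) (kb xb7 yb5 zb19) (kb xb22 yb45 zb44) (kb xb13 yb15 zb38) (kb xb22 yb45 zb46) (kb xb13 yb13 zb34) (kb xb7 yb5 zb21) (kb xb22 yb45 zb49) (kb xb14 yb56 zb34) (kb xb22 yb45 zb56) (kb xb13 yb13 zb44) (kb xb7 yb5 zb23) (kb xb22 yb31 zb49) (kb xb7 yb5 zb24) (kb xb16 yb11 zb0) (kb xb7 yb5 zb25) (kb xb9 yb55 zb23) (kb xb22 yb46 zb6) (kb xb22 yb46 zb9) (kb xb14 yb56 zb31) (kb xb22 yb46 zb12) (kb xb7 yb41 zb19) (kb xb13 yb4 zb29) (kb xb18 yb22 zb23) (kb xb7 yb5 zb35) (kb xb11 yb57 zb45) (kb xb8 yb38 zb54) (kb xb7 yb5 zb38) (kb xb13 yb38 zb16) (kb xb13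 yb38 zb17) (kb xb7 yb5 zb40) (kb xb22 yb46 zb16) (kb xb16 yb23 zb49) (kb xb11 yb36 zb53) (kb xb11 yb38 zb8) (kb xb22 yb46 zb15) (kb xb7 yb6 zb6) (kb xb7 yb5 zb44) (kb xb22 yb46 zb22) (kb xb22 yb46 zb21) (kb xb13 yb38 zb14) (kb xb13 yb38 zb61) (kb xb7 yb5 zb46) (kb xb7 yb5 zb47) (kb xb22 yb46 zb28) (kb xb9 yb10 zb29) (kb xb13 yb33 zb44) (kb xb7 yb5 zb48) (kb xb9 yb26 zb37) (kb xb20 yb6 zb17)) (@D3.rec (fun _ => Pt) (kb xb7 yb5 zb49) (kb xb22 yb46 zb31) (kb xb20 yb6 zb9) (kb xb19 yb43 zb19) (kb xb22 yb46 zb34) (kb xb17 yb15 zb5) (kb xb17 yb15 zb6) (kb xb16 yb30 zb31) (kb xb7 yb5 zb53) (kb xb7 yb5 zb54) (kb xb22 yb46 zb41) (kb xb20 yb45 zb52) (kb xb7 yb5 zb55) (kb xb22 yb46 zb46) (kb xb22 yb46 zb48) (kb xb22 yb46 zb50) (kb xb22 yb0 zb45) (kb xb22 yb28 zb5) (kb xb22 yb46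 zb56) (kb xb13 yb29 zb1) (kb xb22 yb46 zb60) (kb xb13 yb13 zb17) (kb xb22 yb26 zb59) (kb xb13 yb39 zb15) (kb xb7 yb5 zb61) (kb xb22 yb46 zb61) (kb xb7 yb6 zb0) (kb xb13 yb39 zb19) (kb xb22 yb16 zb16) (kb xb22 yb47 zb3) (kb xb7 yb6 zb3) (kb xb22 yb47 zb5) (kb xb22 yb47 zb7) (kb xb22 yb47 zb4) (kb xb22 yb33 zb60) (kb xb22 yb46 zb18) (kb xb22 yb41 zb14) (kb xb7 yb6 zb16) (kb xb12 yb36 zb19) (kb xb7 yb6 zb11) (kb xb7 yb6 zb12) (kb xb22 yb47 zb14) (kb xb22 yb47 zb12) (kb xb16 yb24 zb3) (kb xb7 yb6 zb15) (kb xb11 yb47 zb25) (kb xb11 yb47 zb16) (kb xb7 yb6 zb18) (kb xb7 yb6 zb19) (kb xb22 yb47 zb17) (kb xb16 yb43 zb53) (kb xb7 yb6 zb22) (kb xb7 yb6 zb23) (kb xb7 yb39 zb11) (kb xb7 yb59 zb26) (kb xb7 yb59 zb21) (kb xb20 yb20 zb54) (kb xb10 yb1 zb29) (kb xb16 yb19 zb19) (kb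 xb7 yb6 zb32) (kb xb7 yb6 zb33) (kb xb7 yb6 zb26)) (@D3.rec (fun _ => Pt) (kb xb7 yb39 zb15) (kb xb22 yb47 zb26) (kb xb7 yb6 zb27) (kb xb13 yb32 zb58) (kb xb22 yb47 zb29) (kb xb22 yb47 zb30) (kb xb22 yb47 zb34) (kb xb22 yb47 zb36) (kb xb22 yb47 zb40) (kb xb7 yb6 zb42) (kb xb8 yb42 zb55) (kb xb12 yb5 zb4) (kb xb17 yb0 zb44) (kb xb20 yb43 zb53) (kb xb22 yb47 zb24) (kb xb7 yb6 zb35) (kb xb15 yb38 zb56) (kb xb22 yb47 zb50) (kb xb22 yb47 zb25) (kb xb7 yb8 zb45) (kb xb7 yb6 zb37) (kb xb7 yb6 zb38) (kb xb22 yb47 zb61) (kb xb22 yb47 zb60) (kb xb7 yb6 zb39) (kb xb8 yb6 zb28) (kb xb22 yb48 zb3) (kb xb7 yb6 zb40) (kb xb22 yb48 zb10) (kb xb22 yb48 zb9) (kb xb22 yb48 zb15) (kb xb22 yb48 zb17) (kb xb7 yb6 zb41) (kb xb18 yb52 zb56) (kb xb13 yb11 zb54) (kb xb13 yb43 zb50) (kb xb13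 yb43 zb29) (kb xb7 yb9 zb17) (kb xb7 yb6 zb45) (kb xb22 yb48 zb25) (kb xb21 yb2 zb57) (kb xb7 yb6 zb47) (kb xb22 yb48 zb33) (kb xb15 yb8 zb24) (kb xb16 yb30 zb13) (kb xb7 yb6 zb49) (kb xb22 yb48 zb40) (kb xb22 yb48 zb39) (kb xb22 yb48 zb45) (kb xb13 yb10 zb5) (kb xb7 yb10 zb21) (kb xb7 yb6 zb51) (kb xb22 yb48 zb50) (kb xb13 yb11 zb47) (kb xb22 yb48 zb55) (kb xb7 yb10 zb29) (kb xb7 yb6 zb53) (kb xb7 yb6 zb54) (kb xb22 yb48 zb59) (kb xb7 yb6 zb55) (kb xb22 yb20 zb38) (kb xb22 yb49 zb2)) (@D3.rec (fun _ => Pt) (kb xb7 yb6 zb56) (kb xb13 yb27 zb19) (kb xb22 yb49 zb9) (kb xb21 yb13 zb58) (kb xb7 yb10 zb41) (kb xb22 yb49 zb16) (kb xb13 yb35 zb52) (kb xb7 yb6 zb59) (kb xb22 yb49 zb26) (kb xb22 yb49 zb29) (kb xb22 yb49 zb25) (kb xb21 yb14 zb58) (kb xb7 yb42 zb35) (kb xb22 yb49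 zb33) (kb xb13 yb40 zb47) (kb xb13 yb40 zb37) (kb xb7 yb7 zb3) (kb xb22 yb49 zb37) (kb xb8 yb43 zb57) (kb xb22 yb49 zb42) (kb xb22 yb49 zb48) (kb xb7 yb7 zb20) (kb xb8 yb38 zb14) (kb xb11 yb13 zb4) (kb xb8 yb42 zb56) (kb xb17 yb15 zb43) (kb xb22 yb28 zb39) (kb xb7 yb7 zb36) (kb xb7 yb7 zb13) (kb xb7 yb7 zb14) (kb xb18 yb45 zb8) (kb xb22 yb49 zb61) (kb xb7 yb7 zb16) (kb xb22 yb50 zb4) (kb xb17 yb54 zb24) (kb xb7 yb7 zb17) (kb xb22 yb50 zb11) (kb xb22 yb50 zb10) (kb xb7 yb7 zb18) (kb xb22 yb50 zb17) (kb xb22 yb50 zb16) (kb xb22 yb50 zb21) (kb xb19 yb17 zb61) (kb xb7 yb7 zb19) (kb xb22 yb50 zb27) (kb xb18 yb21 zb49) (kb xb7 yb7 zb22) (kb xb7 yb7 zb23) (kb xb8 yb52 zb44) (kb xb7 yb7 zb24) (kb xb22 yb50 zb33) (kb xb7 yb7 zb25) (kb xb22 yb50 zb37) (kb xb13 yb12 zb56) (kb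 xb13 yb34 zb41) (kb xb7 yb7 zb27) (kb xb22 yb7 zb11) (kb xb14 yb10 zb17) (kb xb13 yb7 zb53) (kb xb7 yb37 zb56) (kb xb14 yb19 zb56) (kb xb13 yb7 zb55)) (@D3.rec (fun _ => Pt) (kb xb7 yb7 zb32) (kb xb14 yb25 zb33) (kb xb22 yb49 zb56) (kb xb22 yb49 zb57) (kb xb22 yb50 zb8) (kb xb22 yb50 zb59) (kb xb9 yb3 zb3) (kb xb9 yb2 zb27) (kb xb9 yb57 zb10) (kb xb8 yb43 zb35) (kb xb7 yb7 zb44) (kb xb10 yb10 zb27) (kb xb18 yb19 zb38) (kb xb7 yb7 zb45) (kb xb18 yb20 zb41) (kb xb22 yb51 zb5) (kb xb18 yb20 zb31) (kb xb20 yb47 zb26) (kb xb7 yb7 zb46) (kb xb14 yb19 zb21) (kb xb8 yb48 zb43) (kb xb7 yb7 zb50) (kb xb22 yb51 zb8) (kb xb22 yb47 zb19) (kb xb7 yb8 zb5) (kb xb13 yb41 zb52) (kb xb7 yb53 zb5) (kb xb14 yb20 zb26) (kb xb22 yb29 zb21) (kb xb12 yb6 zb23) (kb xb7 yb7 zb54) (kb xb22 yb51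 zb14) (kb xb20 yb21 zb17) (kb xb22 yb51 zb19) (kb xb22 yb51 zb24) (kb xb7 yb8 zb1) (kb xb7 yb7 zb57) (kb xb22 yb51 zb27) (kb xb13 yb41 zb42) (kb xb22 yb51 zb29) (kb xb22 yb51 zb31) (kb xb7 yb7 zb60) (kb xb22 yb51 zb33) (kb xb13 yb41 zb48) (kb xb22 yb51 zb38) (kb xb22 yb51 zb39) (kb xb7 yb8 zb0) (kb xb22 yb51 zb44) (kb xb18 yb59 zb51) (kb xb13 yb41 zb25) (kb xb7 yb8 zb4) (kb xb16 yb35 zb21) (kb xb22 yb51 zb11) (kb xb7 yb49 zb0) (kb xb22 yb51 zb50) (kb xb16 yb53 zb5) (kb xb22 yb51 zb55) (kb xb8 yb44 zb5) (kb xb7 yb8 zb8) (kb xb22 yb51 zb58) (kb xb8 yb44 zb9) (kb xb22 yb51 zb60)) (@D3.rec (fun _ => Pt) (kb xb13 yb41 zb57) (kb xb7 yb8 zb12) (kb xb22 yb52 zb2) (kb xb18 yb41 zb50) (kb xb9 yb55 zb33) (kb xb7 yb8 zb13) (kb xb11 yb24 zb11) (kb xb21 yb16 zb6) (kb xb11 yb8 zb23)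 (kb xb11 yb23 zb10) (kb xb7 yb8 zb19) (kb xb7 yb8 zb20) (kb xb11 yb32 zb5) (kb xb11 yb33 zb13) (kb xb22 yb52 zb17) (kb xb22 yb52 zb12) (kb xb7 yb8 zb23) (kb xb16 yb34 zb33) (kb xb11 yb38 zb0) (kb xb22 yb52 zb25) (kb xb22 yb52 zb20) (kb xb10 yb17 zb61) (kb xb7 yb56 zb17) (kb xb22 yb52 zb35) (kb xb14 yb59 zb1) (kb xb22 yb52 zb40) (kb xb17 yb0 zb40) (kb xb22 yb52 zb46) (kb xb8 yb48 zb49) (kb xb22 yb52 zb52) (kb xb7 yb53 zb26) (kb xb20 yb29 zb11) (kb xb13 yb42 zb17) (kb xb14 yb50 zb49) (kb xb13 yb42 zb35) (kb xb20 yb25 zb40) (kb xb20 yb25 zb41) (kb xb7 yb53 zb23) (kb xb13 yb42 zb40) (kb xb22 yb22 zb43) (kb xb22 yb53 zb10) (kb xb7 yb8 zb42) (kb xb7 yb49 zb6) (kb xb22 yb46 zb58) (kb xb7 yb8 zb43) (kb xb7 yb8 zb39) (kb xb22 yb9 zb48) (kb xb22 yb53 zb20) (kb xb22 yb53 zb23)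 (kb xb13 yb42 zb27) (kb xb14 yb18 zb21) (kb xb9 yb47 zb16) (kb xb7 yb8 zb41) (kb xb22 yb53 zb30) (kb xb22 yb53 zb31) (kb xb22 yb53 zb37) (kb xb13 yb42 zb33) (kb xb22 yb53 zb15) (kb xb22 yb53 zb16) (kb xb22 yb53 zb47) (kb xb13 yb42 zb19) (kb xb7 yb50 zb61)) (@D3.rec (fun _ => Pt) (kb xb22 yb47 zb56) (kb xb14 yb43 zb53) (kb xb7 yb49 zb38) (kb xb7 yb49 zb39) (kb xb22 yb53 zb53) (kb xb13 yb42 zb21) (kb xb7 yb8 zb52) (kb xb22 yb53 zb54) (kb xb12 yb7 zb44) (kb xb7 yb8 zb53) (kb xb7 yb8 zb54) (kb xb7 yb8 zb51) (kb xb22 yb53 zb55) (kb xb22 yb53 zb56) (kb xb13 yb42 zb45) (kb xb22 yb54 zb2) (kb xb16 yb27 zb39) (kb xb20 yb1 zb60) (kb xb22 yb54 zb9) (kb xb7 yb8 zb57) (kb xb7 yb8 zb58) (kb xb7 yb40 zb18) (kb xb8 yb47 zb38) (kb xb7 yb8 zb56) (kb xb18 yb51 zb14) (kb xb22 yb54 zb21)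 (kb xb13 yb42 zb57) (kb xb22 yb54 zb15) (kb xb22 yb48 zb7) (kb xb22 yb10 zb55) (kb xb7 yb8 zb61) (kb xb7 yb9 zb0) (kb xb7 yb8 zb60) (kb xb15 yb31 zb59) (kb xb22 yb54 zb34) (kb xb13 yb43 zb5) (kb xb18 yb53 zb34) (kb xb22 yb54 zb33) (kb xb7 yb9 zb1) (kb xb22 yb54 zb47) (kb xb7 yb9 zb2) (kb xb13 yb32 zb43) (kb xb22 yb54 zb53) (kb xb13 yb32 zb41) (kb xb14 yb27 zb61) (kb xb7 yb9 zb4) (kb xb7 yb9 zb5) (kb xb22 yb54 zb60) (kb xb22 yb55 zb0) (kb xb20 yb41 zb31) (kb xb22 yb54 zb59) (kb xb22 yb55 zb8) (kb xb21 yb4 zb20) (kb xb22 yb55 zb14) (kb xb7 yb50 zb15) (kb xb7 yb9 zb10) (kb xb22 yb55 zb21) (kb xb22 yb55 zb20) (kb xb13 yb28 zb3) (kb xb13 yb43 zb28) (kb xb13 yb39 zb59) (kb xb7 yb9 zb15)) (@D3.rec (fun _ => Pt) (kb xb9 yb47 zb12) (kb xb22 yb55 zb25) (kb xb22 yb55 zb30) (kb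 xb13 yb43 zb33) (kb xb22 yb48 zb24) (kb xb13 yb49 zb44) (kb xb13 yb43 zb35) (kb xb22 yb55 zb38) (kb xb22 yb55 zb42) (kb xb7 yb9 zb23) (kb xb22 yb30 zb35) (kb xb7 yb9 zb25) (kb xb7 yb9 zb20) (kb xb8 yb47 zb48) (kb xb11 yb14 zb2) (kb xb7 yb9 zb21) (kb xb7 yb40 zb11) (kb xb22 yb55 zb54) (kb xb7 yb9 zb22) (kb xb22 yb55 zb60) (kb xb22 yb56 zb1) (kb xb22 yb56 zb4) (kb xb22 yb55 zb47) (kb xb21 yb11 zb56) (kb xb22 yb56 zb12) (kb xb7 yb9 zb26) (kb xb7 yb9 zb27) (kb xb14 yb51 zb59) (kb xb22 yb56 zb15) (kb xb22 yb34 zb10) (kb xb7 yb9 zb29) (kb xb19 yb30 zb21) (kb xb13 yb9 zb16) (kb xb7 yb38 zb46) (kb xb7 yb9 zb31) (kb xb7 yb9 zb32) (kb xb20 yb40 zb10) (kb xb22 yb56 zb26) (kb xb7 yb9 zb34) (kb xb22 yb56 zb34) (kb xb13 yb39 zb58) (kb xb21 yb11 zb54) (kb xb16 yb24 zb7) (kb xb22 yb56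 zb39) (kb xb13 yb26 zb58) (kb xb22 yb56 zb45) (kb xb7 yb9 zb41) (kb xb20 yb52 zb3) (kb xb7 yb9 zb42) (kb xb7 yb9 zb43) (kb xb7 yb9 zb40) (kb xb19 yb45 zb24) (kb xb20 yb36 zb54) (kb xb17 yb0 zb27) (kb xb22 yb56 zb48) (kb xb20 yb35 zb56) (kb xb22 yb56 zb59) (kb xb20 yb36 zb8) (kb xb13 yb4 zb9) (kb xb22 yb41 zb1) (kb xb7 yb9 zb45) (kb xb22 yb56 zb61)) (@D3.rec (fun _ => Pt) (kb xb7 yb9 zb50) (kb xb7 yb37 zb27) (kb xb22 yb57 zb7) (kb xb7 yb42 zb2) (kb xb7 yb9 zb53) (kb xb19 yb28 zb8) (kb xb7 yb9 zb54) (kb xb22 yb57 zb17) (kb xb7 yb9 zb55) (kb xb10 yb9 zb47) (kb xb7 yb9 zb56) (kb xb8 yb16 zb52) (kb xb22 yb57 zb26) (kb xb22 yb57 zb30) (kb xb10 yb56 zb20) (kb xb13 yb50 zb13) (kb xb13 yb48 zb61) (kb xb13 yb16 zb4) (kb xb7 yb9 zb60) (kb xb20 yb33 zb30) (kb xb14 yb15 zb43) (kb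 xb13 yb20 zb6) (kb xb7 yb15 zb60) (kb xb7 yb10 zb0) (kb xb7 yb17 zb44) (kb xb22 yb57 zb37) (kb xb13 yb3 zb11) (kb xb13 yb44 zb39) (kb xb22 yb57 zb44) (kb xb13 yb3 zb12) (kb xb13 yb19 zb25) (kb xb7 yb10 zb4) (kb xb22 yb57 zb51) (kb xb22 yb57 zb54) (kb xb18 yb54 zb60) (kb xb22 yb30 zb6) (kb xb22 yb57 zb57) (kb xb13 yb15 zb26) (kb xb7 yb10 zb6) (kb xb7 yb10 zb9) (kb xb13 yb46 zb19) (kb xb13 yb29 zb54) (kb xb13 yb35 zb3) (kb xb7 yb10 zb14) (kb xb22 yb26 zb50) (kb xb7 yb10 zb16) (kb xb7 yb10 zb17) (kb xb22 yb58 zb6) (kb xb22 yb58 zb8) (kb xb22 yb58 zb4) (kb xb14 yb26 zb32) (kb xb22 yb58 zb15) (kb xb7 yb10 zb18) (kb xb7 yb10 zb19) (kb xb22 yb58 zb18) (kb xb22 yb58 zb16) (kb xb7 yb10 zb20) (kb xb13 yb5 zb6) (kb xb22 yb12 zb8) (kb xb22 yb48 zb46) (kb xb7 yb41 zb57) (kb xb14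 yb48 zb2)) (@D3.rec (fun _ => Pt) (kb xb13 yb2 zb45) (kb xb14 yb11 zb1) (kb xb22 yb58 zb31) (kb xb13 yb34 zb42) (kb xb7 yb10 zb25) (kb xb22 yb58 zb41) (kb xb7 yb10 zb26) (kb xb22 yb58 zb45) (kb xb22 yb47 zb38) (kb xb22 yb58 zb39) (kb xb22 yb58 zb40) (kb xb22 yb58 zb53) (kb xb7 yb10 zb27) (kb xb22 yb58 zb55) (kb xb22 yb58 zb54) (kb xb7 yb10 zb28) (kb xb13 yb4 zb27) (kb xb22 yb36 zb37) (kb xb22 yb58 zb60) (kb xb22 yb48 zb56) (kb xb22 yb48 zb57) (kb xb22 yb59 zb7) (kb xb22 yb59 zb10) (kb xb8 yb19 zb12) (kb xb7 yb10 zb32) (kb xb22 yb59 zb17) (kb xb13 yb11 zb24) (kb xb7 yb10 zb33) (kb xb7 yb10 zb34) (kb xb22 yb23 zb23) (kb xb22 yb59 zb21) (kb xb22 yb59 zb15) (kb xb22 yb59 zb16) (kb xb22 yb59 zb28) (kb xb22 yb49 zb7) (kb xb13 yb11 zb41) (kb xb7 yb10 zb37) (kb xb7 yb10 zb38)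 (kb xb13 yb39 zb57) (kb xb22 yb59 zb32) (kb xb22 yb49 zb1) (kb xb14 yb44 zb46) (kb xb7 yb10 zb40) (kb xb22 yb47 zb48) (kb xb22 yb59 zb36) (kb xb11 yb14 zb4) (kb xb22 yb49 zb15) (kb xb7 yb10 zb42) (kb xb22 yb59 zb41) (kb xb8 yb30 zb45) (kb xb7 yb10 zb43) (kb xb22 yb59 zb46) (kb xb13 yb29 zb6) (kb xb22 yb59 zb50) (kb xb22 yb9 zb50) (kb xb7 yb10 zb52) (kb xb7 yb10 zb53) (kb xb13 yb44 zb51) (kb xb13 yb17 zb41) (kb xb7 yb10 zb47) (kb xb18 yb53 zb24) (kb xb23 yb0 zb0)) (@D3.rec (fun _ => Pt) (kb xb10 yb27 zb0) (kb xb23 yb0 zb1) (kb xb23 yb0 zb4) (kb xb13 yb6 zb16) (kb xb7 yb10 zb49) (kb xb23 yb0 zb9) (kb xb23 yb0 zb12) (kb xb17 yb1 zb3) (kb xb23 yb0 zb8) (kb xb7 yb10 zb50) (kb xb23 yb0 zb22) (kb xb23 yb0 zb20) (kb xb23 yb0 zb21) (kb xb7 yb10 zb51) (kb xb18 yb48 zb58) (kb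 xb23 yb0 zb33) (kb xb23 yb0 zb34) (kb xb22 yb59 zb55) (kb xb23 yb0 zb41) (kb xb23 yb0 zb44) (kb xb7 yb10 zb54) (kb xb8 yb27 zb41) (kb xb23 yb0 zb47) (kb xb7 yb10 zb55) (kb xb20 yb29 zb8) (kb xb23 yb0 zb50) (kb xb23 yb0 zb54) (kb xb23 yb0 zb55) (kb xb16 yb45 zb40) (kb xb23 yb0 zb57) (kb xb17 yb51 zb12) (kb xb7 yb10 zb58) (kb xb23 yb1 zb1) (kb xb7 yb10 zb59) (kb xb23 yb1 zb3) (kb xb7 yb10 zb60) (kb xb18 yb2 zb2) (kb xb13 yb25 zb50) (kb xb7 yb40 zb8) (kb xb13 yb8 zb4) (kb xb7 yb11 zb3) (kb xb22 yb47 zb46) (kb xb23 yb1 zb8) (kb xb7 yb11 zb5) (kb xb7 yb11 zb6) (kb xb23 yb1 zb13) (kb xb23 yb1 zb12) (kb xb7 yb11 zb7) (kb xb23 yb1 zb15) (kb xb7 yb11 zb9) (kb xb20 yb28 zb58) (kb xb8 yb26 zb36) (kb xb7 yb11 zb10) (kb xb15 yb53 zb24) (kb xb23 yb1 zb21) (kb xb7 yb11 zb11) (kb xb11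 yb42 zb59) (kb xb19 yb29 zb36) (kb xb23 yb1 zb29) (kb xb23 yb1 zb30) (kb xb7 yb11 zb12) (kb xb23 yb1 zb34)) (@D3.rec (fun _ => Pt) (kb xb10 yb56 zb32) (kb xb23 yb1 zb39) (kb xb14 yb42 zb39) (kb xb14 yb52 zb27) (kb xb7 yb11 zb14) (kb xb7 yb11 zb15) (kb xb23 yb1 zb45) (kb xb7 yb11 zb17) (kb xb7 yb11 zb18) (kb xb23 yb1 zb47) (kb xb13 yb46 zb15) (kb xb7 yb11 zb20) (kb xb7 yb11 zb21) (kb xb9 yb54 zb40) (kb xb23 yb1 zb54) (kb xb23 yb1 zb53) (kb xb7 yb11 zb23) (kb xb18 yb37 zb3) (kb xb7 yb11 zb25) (kb xb23 yb1 zb60) (kb xb22 yb16 zb54) (kb xb7 yb29 zb39) (kb xb22 yb18 zb31) (kb xb7 yb29 zb32) (kb xb7 yb11 zb28) (kb xb15 yb14 zb51) (kb xb23 yb2 zb7) (kb xb23 yb2 zb11) (kb xb13 yb59 zb21) (kb xb7 yb11 zb31) (kb xb22 yb47 zb0) (kb xb13 yb13 zb12) (kb xb7 yb11 zb34) (kb xb17 yb57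 zb33) (kb xb23 yb2 zb16) (kb xb7 yb11 zb35) (kb xb23 yb2 zb22) (kb xb7 yb11 zb37) (kb xb17 yb57 zb32) (kb xb23 yb2 zb25) (kb xb18 yb17 zb1) (kb xb23 yb2 zb28) (kb xb21 yb6 zb5) (kb xb7 yb11 zb39) (kb xb7 yb11 zb40) (kb xb23 yb2 zb32) (kb xb23 yb2 zb35) (kb xb7 yb11 zb41) (kb xb23 yb2 zb41) (kb xb23 yb2 zb40) (kb xb7 yb11 zb42) (kb xb21 yb6 zb29) (kb xb16 yb9 zb7) (kb xb12 yb21 zb14) (kb xb23 yb2 zb50) (kb xb22 yb29 zb35) (kb xb14 yb2 zb46) (kb xb7 yb11 zb48) (kb xb13 yb59 zb33) (kb xb14 yb14 zb33) (kb xb7 yb19 zb28) (kb xb7 yb11 zb50)) (@D3.rec (fun _ => Pt) (kb xb14 yb17 zb12) (kb xb7 yb19 zb23) (kb xb7 yb11 zb52) (kb xb23 yb3 zb2) (kb xb18 yb23 zb54) (kb xb23 yb3 zb10) (kb xb13 yb47 zb48) (kb xb23 yb3 zb14) (kb xb7 yb12 zb1) (kb xb7 yb18 zb22) (kb xb23 yb3 zb15) (kb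 xb23 yb3 zb16) (kb xb23 yb3 zb19) (kb xb8 yb45 zb61) (kb xb13 yb26 zb52) (kb xb23 yb3 zb21) (kb xb13 yb26 zb40) (kb xb13 yb26 zb41) (kb xb7 yb12 zb4) (kb xb12 yb8 zb15) (kb xb23 yb3 zb26) (kb xb23 yb3 zb27) (kb xb7 yb56 zb45) (kb xb23 yb3 zb31) (kb xb14 yb6 zb42) (kb xb7 yb12 zb20) (kb xb12 yb10 zb3) (kb xb12 yb10 zb4) (kb xb7 yb12 zb9) (kb xb7 yb59 zb53) (kb xb14 yb6 zb41) (kb xb22 yb46 zb37) (kb xb7 yb12 zb32) (kb xb7 yb12 zb13) (kb xb7 yb12 zb14) (kb xb8 yb46 zb0) (kb xb13 yb23 zb19) (kb xb23 yb3 zb41) (kb xb7 yb12 zb17) (kb xb9 yb59 zb14) (kb xb23 yb3 zb42) (kb xb7 yb12 zb19) (kb xb8 yb46 zb35) (kb xb23 yb3 zb45) (kb xb7 yb12 zb22) (kb xb7 yb12 zb23) (kb xb20 yb19 zb39) (kb xb23 yb3 zb48) (kb xb22 yb41 zb22) (kb xb7 yb12 zb24) (kb xb11 yb35 zb12) (kb xb11 yb22 zb4)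 (kb xb23 yb3 zb38) (kb xb11 yb49 zb48) (kb xb23 yb3 zb56) (kb xb7 yb12 zb45) (kb xb7 yb12 zb37) (kb xb7 yb12 zb38) (kb xb23 yb4 zb0) (kb xb23 yb3 zb61) (kb xb13 yb23 zb18) (kb xb13 yb26 zb53)) (@D3.rec (fun _ => Pt) (kb xb7 yb12 zb40) (kb xb7 yb12 zb41) (kb xb23 yb4 zb12) (kb xb16 yb52 zb14) (kb xb7 yb12 zb43) (kb xb9 yb26 zb54) (kb xb23 yb4 zb14) (kb xb7 yb12 zb44) (kb xb23 yb4 zb19) (kb xb12 yb22 zb10) (kb xb7 yb12 zb47) (kb xb19 yb51 zb58) (kb xb10 yb52 zb41) (kb xb22 yb46 zb57) (kb xb22 yb20 zb39) (kb xb13 yb27 zb23) (kb xb7 yb12 zb50) (kb xb14 yb45 zb17) (kb xb23 yb4 zb24) (kb xb13 yb27 zb27) (kb xb22 yb48 zb58) (kb xb7 yb12 zb54) (kb xb23 yb4 zb34) (kb xb23 yb4 zb36) (kb xb23 yb4 zb33) (kb xb13 yb40 zb24) (kb xb16 yb21 zb42) (kb xb7 yb12 zb58) (kb xb13 yb40 zb27)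 (kb xb23 yb4 zb41) (kb xb13 yb43 zb27) (kb xb22 yb22 zb42) (kb xb21 yb14 zb18) (kb xb23 yb4 zb49) (kb xb23 yb4 zb51) (kb xb23 yb4 zb53) (kb xb7 yb13 zb7) (kb xb7 yb13 zb1) (kb xb23 yb4 zb43) (kb xb23 yb4 zb59) (kb xb23 yb4 zb57) (kb xb14 yb24 zb22) (kb xb7 yb14 zb47) (kb xb7 yb13 zb3) (kb xb22 yb52 zb13) (kb xb20 yb31 zb23) (kb xb7 yb13 zb4) (kb xb23 yb5 zb6) (kb xb16 yb23 zb27) (kb xb7 yb13 zb5) (kb xb22 yb52 zb15) (kb xb23 yb5 zb11) (kb xb15 yb57 zb60) (kb xb20 yb49 zb31) (kb xb7 yb13 zb6) (kb xb23 yb5 zb20) (kb xb23 yb5 zb21) (kb xb13 yb35 zb38) (kb xb13 yb33 zb40) (kb xb13 yb32 zb60) (kb xb7 yb15 zb11) (kb xb7 yb13 zb10)) (@D3.rec (fun _ => Pt) (kb xb15 yb15 zb10) (kb xb23 yb5 zb28) (kb xb22 yb47 zb27) (kb xb7 yb15 zb19) (kb xb7 yb13 zb12) (kb xb20 yb49 zb26) (kb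 xb15 yb20 zb54) (kb xb7 yb13 zb13) (kb xb7 yb13 zb14) (kb xb23 yb5 zb40) (kb xb23 yb5 zb42) (kb xb7 yb13 zb16) (kb xb7 yb13 zb17) (kb xb23 yb5 zb44) (kb xb14 yb43 zb13) (kb xb7 yb13 zb18) (kb xb13 yb5 zb53) (kb xb7 yb13 zb19) (kb xb7 yb31 zb56) (kb xb7 yb18 zb39) (kb xb7 yb13 zb21) (kb xb23 yb5 zb57) (kb xb23 yb5 zb59) (kb xb23 yb5 zb56) (kb xb13 yb39 zb25) (kb xb7 yb39 zb12) (kb xb7 yb13 zb44) (kb xb13 yb39 zb28) (kb xb7 yb39 zb16) (kb xb7 yb13 zb26) (kb xb7 yb13 zb28) (kb xb16 yb27 zb21) (kb xb20 yb37 zb13) (kb xb23 yb6 zb5) (kb xb9 yb47 zb11) (kb xb7 yb13 zb31) (kb xb22 yb8 zb38) (kb xb13 yb29 zb15) (kb xb8 yb45 zb58) (kb xb7 yb13 zb34) (kb xb7 yb53 zb56) (kb xb23 yb6 zb12) (kb xb23 yb6 zb13) (kb xb22 yb29 zb9) (kb xb7 yb13 zb46) (kb xb7 yb13 zb36) (kb xb23 yb6 zb9)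 (kb xb13 yb29 zb14) (kb xb7 yb47 zb58) (kb xb10 yb26 zb48) (kb xb13 yb52 zb3) (kb xb7 yb13 zb40) (kb xb22 yb51 zb22) (kb xb7 yb13 zb41) (kb xb18 yb50 zb56) (kb xb23 yb6 zb25) (kb xb19 yb57 zb27) (kb xb7 yb13 zb42) (kb xb14 yb43 zb12) (kb xb23 yb6 zb21) (kb xb18 yb46 zb7) (kb xb15 yb3 zb51)) (@D3.rec (fun _ => Pt) (kb xb9 yb19 zb48) (kb xb7 yb13 zb52) (kb xb7 yb13 zb53) (kb xb23 yb6 zb32) (kb xb16 yb35 zb0) (kb xb23 yb6 zb35) (kb xb23 yb6 zb31) (kb xb7 yb47 zb57) (kb xb13 yb14 zb22) (kb xb7 yb13 zb55) (kb xb23 yb6 zb44) (kb xb23 yb6 zb43) (kb xb20 yb11 zb16) (kb xb7 yb13 zb57) (kb xb23 yb6 zb52) (kb xb19 yb12 zb27) (kb xb23 yb6 zb57) (kb xb7 yb13 zb58) (kb xb18 yb46 zb61) (kb xb18 yb46 zb6) (kb xb7 yb13 zb61) (kb xb22 yb36 zb22) (kb xb23 yb6 zb60) (kb xb13 yb0 zb52)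 (kb xb14 yb46 zb5) (kb xb13 yb30 zb49) (kb xb7 yb14 zb4) (kb xb7 yb30 zb16) (kb xb7 yb30 zb17) (kb xb16 yb30 zb9) (kb xb11 yb23 zb31) (kb xb7 yb14 zb9) (kb xb14 yb46 zb11) (kb xb23 yb7 zb4) (kb xb7 yb14 zb10) (kb xb7 yb30 zb19) (kb xb16 yb35 zb49) (kb xb23 yb4 zb23) (kb xb14 yb58 zb38) (kb xb16 yb21 zb47) (kb xb20 yb44 zb38) (kb xb16 yb21 zb37) (kb xb13 yb30 zb38) (kb xb16 yb21 zb38) (kb xb23 yb7 zb12) (kb xb9 yb2 zb61) (kb xb7 yb14 zb16) (kb xb23 yb7 zb14) (kb xb13 yb30 zb43) (kb xb7 yb14 zb18) (kb xb12 yb22 zb15) (kb xb14 yb22 zb49) (kb xb13 yb30 zb25) (kb xb7 yb14 zb20) (kb xb8 yb52 zb17) (kb xb23 yb7 zb22) (kb xb22 yb28 zb44) (kb xb13 yb31 zb0) (kb xb7 yb14 zb24) (kb xb23 yb7 zb28) (kb xb7 yb14 zb25) (kb xb23 yb7 zb32)) (@D3.rec (fun _ => Pt) (kb xb23 yb7 zb33)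 (kb xb14 yb58 zb37) (kb xb11 yb27 zb29) (kb xb16 yb25 zb20) (kb xb23 yb7 zb39) (kb xb8 yb48 zb26) (kb xb7 yb14 zb44) (kb xb20 yb31 zb26) (kb xb8 yb10 zb34) (kb xb23 yb7 zb50) (kb xb8 yb51 zb47) (kb xb7 yb14 zb55) (kb xb14 yb59 zb61) (kb xb23 yb7 zb61) (kb xb12 yb5 zb8) (kb xb16 yb2 zb11) (kb xb11 yb42 zb22) (kb xb13 yb31 zb32) (kb xb14 yb47 zb0) (kb xb13 yb31 zb60) (kb xb21 yb14 zb40) (kb xb13 yb32 zb5) (kb xb7 yb14 zb45) (kb xb7 yb14 zb42) (kb xb23 yb8 zb12) (kb xb19 yb39 zb60) (kb xb23 yb8 zb17) (kb xb13 yb31 zb49) (kb xb15 yb59 zb56) (kb xb23 yb8 zb19) (kb xb23 yb7 zb43) (kb xb23 yb7 zb44) (kb xb22 yb23 zb30) (kb xb13 yb31 zb56) (kb xb23 yb8 zb10) (kb xb13 yb31 zb34) (kb xb7 yb41 zb5) (kb xb20 yb30 zb22) (kb xb7 yb51 zb30) (kb xb23 yb8 zb37) (kb xb13 yb31 zb38) (kb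 xb23 yb8 zb42) (kb xb7 yb14 zb53) (kb xb7 yb14 zb51) (kb xb23 yb8 zb46) (kb xb13 yb32 zb14) (kb xb17 yb59 zb54) (kb xb16 yb32 zb27) (kb xb8 yb51 zb34) (kb xb23 yb8 zb56) (kb xb21 yb14 zb41) (kb xb7 yb14 zb56) (kb xb7 yb14 zb57) (kb xb23 yb8 zb60) (kb xb23 yb7 zb56) (kb xb23 yb7 zb57) (kb xb23 yb9 zb5) (kb xb13 yb32 zb26) (kb xb20 yb7 zb60) (kb xb23 yb8 zb59) (kb xb11 yb50 zb32) (kb xb23 yb8 zb43)) (@D3.rec (fun _ => Pt) (kb xb7 yb14 zb60) (kb xb7 yb14 zb61) (kb xb7 yb14 zb59) (kb xb20 yb50 zb11) (kb xb23 yb9 zb20) (kb xb13 yb32 zb35) (kb xb23 yb9 zb28) (kb xb23 yb9 zb17) (kb xb23 yb9 zb18) (kb xb7 yb15 zb0) (kb xb9 yb48 zb40) (kb xb16 yb1 zb59) (kb xb7 yb15 zb1) (kb xb8 yb16 zb1) (kb xb12 yb34 zb1) (kb xb16 yb1 zb52) (kb xb16 yb26 zb37) (kb xb23 yb5 zb19) (kb xb7 yb15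 zb3) (kb xb7 yb15 zb4) (kb xb9 yb48 zb42) (kb xb20 yb49 zb34) (kb xb23 yb9 zb45) (kb xb23 yb9 zb52) (kb xb16 yb33 zb43) (kb xb7 yb52 zb14) (kb xb8 yb7 zb3) (kb xb13 yb39 zb30) (kb xb13 yb32 zb59) (kb xb13 yb28 zb36) (kb xb7 yb15 zb9) (kb xb23 yb10 zb1) (kb xb23 yb5 zb52) (kb xb13 yb33 zb3) (kb xb23 yb1 zb20) (kb xb13 yb33 zb6) (kb xb23 yb10 zb6) (kb xb11 yb40 zb4) (kb xb7 yb15 zb16) (kb xb7 yb15 zb13) (kb xb23 yb10 zb13) (kb xb23 yb10 zb12) (kb xb7 yb15 zb14) (kb xb23 yb10 zb20) (kb xb23 yb10 zb19) (kb xb7 yb15 zb15) (kb xb23 yb10 zb24) (kb xb23 yb10 zb27) (kb xb17 yb25 zb55) (kb xb23 yb10 zb10) (kb xb13 yb28 zb35) (kb xb15 yb53 zb23) (kb xb22 yb29 zb4) (kb xb11 yb34 zb1) (kb xb7 yb40 zb33) (kb xb23 yb1 zb25) (kb xb7 yb15 zb23) (kb xb22 yb57 zb58) (kb xb7 yb15 zb25)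 (kb xb7 yb15 zb22) (kb xb23 yb10 zb37) (kb xb23 yb10 zb40)) (@D3.rec (fun _ => Pt) (kb xb23 yb10 zb44) (kb xb20 yb1 zb3) (kb xb23 yb10 zb36) (kb xb7 yb15 zb24) (kb xb17 yb30 zb11) (kb xb13 yb9 zb17) (kb xb7 yb15 zb28) (kb xb7 yb15 zb30) (kb xb7 yb15 zb33) (kb xb19 yb30 zb59) (kb xb7 yb15 zb38) (kb xb20 yb53 zb2) (kb xb7 yb15 zb39) (kb xb19 yb28 zb42) (kb xb23 yb10 zb56) (kb xb13 yb21 zb36) (kb xb7 yb15 zb41) (kb xb8 yb28 zb59) (kb xb19 yb34 zb34) (kb xb23 yb11 zb0) (kb xb23 yb5 zb39) (kb xb7 yb24 zb29) (kb xb7 yb15 zb43) (kb xb7 yb15 zb44) (kb xb23 yb11 zb7) (kb xb7 yb15 zb45) (kb xb7 yb15 zb46) (kb xb20 yb28 zb20) (kb xb7 yb15 zb50) (kb xb7 yb15 zb48) (kb xb19 yb33 zb29) (kb xb7 yb15 zb49) (kb xb23 yb11 zb18) (kb xb23 yb11 zb23) (kb xb23 yb11 zb27) (kb xb23 yb11 zb12)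 (kb xb13 yb10 zb42) (kb xb10 yb40 zb10) (kb xb7 yb15 zb54) (kb xb13 yb34 zb27) (kb xb22 yb16 zb18) (kb xb23 yb11 zb31) (kb xb13 yb45 zb9) (kb xb23 yb11 zb33) (kb xb23 yb11 zb35) (kb xb9 yb53 zb19) (kb xb23 yb11 zb37) (kb xb14 yb11 zb2) (kb xb7 yb15 zb59) (kb xb7 yb26 zb35) (kb xb14 yb9 zb39) (kb xb13 yb35 zb57) (kb xb13 yb19 zb40) (kb xb7 yb24 zb17) (kb xb13 yb2 zb39) (kb xb14 yb11 zb4) (kb xb20 yb11 zb60) (kb xb7 yb34 zb20) (kb xb7 yb16 zb2) (kb xb13 yb5 zb0) (kb xb22 yb17 zb49) (kb xb7 yb16 zb3)) (@D3.rec (fun _ => Pt) (kb xb23 yb11 zb54) (kb xb18 yb54 zb28) (kb xb15 yb32 zb13) (kb xb23 yb11 zb49) (kb xb7 yb16 zb4) (kb xb7 yb16 zb5) (kb xb13 yb19 zb9) (kb xb23 yb11 zb59) (kb xb22 yb22 zb39) (kb xb13 yb44 zb42) (kb xb14 yb15 zb40) (kb xb7 yb16 zb9) (kb xb23 yb12 zb2)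 (kb xb18 yb54 zb43) (kb xb7 yb16 zb10) (kb xb11 yb14 zb7) (kb xb23 yb12 zb9) (kb xb18 yb51 zb40) (kb xb7 yb16 zb16) (kb xb23 yb12 zb15) (kb xb23 yb12 zb16) (kb xb7 yb18 zb35) (kb xb7 yb16 zb13) (kb xb23 yb12 zb21) (kb xb23 yb12 zb24) (kb xb23 yb12 zb20) (kb xb7 yb16 zb14) (kb xb23 yb12 zb29) (kb xb18 yb44 zb7) (kb xb23 yb12 zb28) (kb xb7 yb16 zb15) (kb xb17 yb34 zb16) (kb xb23 yb12 zb37) (kb xb23 yb12 zb38) (kb xb13 yb50 zb0) (kb xb23 yb12 zb43) (kb xb19 yb11 zb35) (kb xb13 yb49 zb61) (kb xb23 yb12 zb47) (kb xb7 yb38 zb45) (kb xb7 yb16 zb20) (kb xb23 yb12 zb49) (kb xb16 yb44 zb21) (kb xb21 yb15 zb55) (kb xb7 yb16 zb22) (kb xb23 yb12 zb54) (kb xb23 yb12 zb53) (kb xb7 yb35 zb26) (kb xb20 yb28 zb55) (kb xb13 yb10 zb33) (kb xb7 yb16 zb24) (kb xb17 yb49 zb31) (kb xb19 yb28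 zb45) (kb xb7 yb16 zb25) (kb xb15 yb55 zb37) (kb xb7 yb16 zb26) (kb xb15 yb55 zb34) (kb xb21 yb48 zb29) (kb xb11 yb51 zb19) (kb xb11 yb51 zb34) (kb xb11 yb51 zb35) (kb xb16 yb40 zb58)) (@D3.rec (fun _ => Pt) (kb xb8 yb26 zb51) (kb xb14 yb48 zb48) (kb xb7 yb16 zb29) (kb xb23 yb13 zb10) (kb xb8 yb11 zb35) (kb xb23 yb13 zb11) (kb xb17 yb8 zb56) (kb xb12 yb53 zb45) (kb xb23 yb13 zb13) (kb xb12 yb50 zb32) (kb xb14 yb25 zb28) (kb xb14 yb25 zb29) (kb xb23 yb13 zb22) (kb xb7 yb16 zb35) (kb xb23 yb13 zb25) (kb xb13 yb37 zb10) (kb xb23 yb13 zb29) (kb xb7 yb16 zb40) (kb xb13 yb4 zb19) (kb xb13 yb34 zb40) (kb xb22 yb48 zb49) (kb xb23 yb13 zb33) (kb xb23 yb13 zb35) (kb xb22 yb6 zb35) (kb xb7 yb16 zb46) (kb xb7 yb33 zb43) (kb xb11 yb36 zb19) (kb xb8 yb50 zb21) (kb xb7 yb16 zb52)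 (kb xb7 yb16 zb53) (kb xb7 yb16 zb48) (kb xb7 yb33 zb48) (kb xb23 yb13 zb41) (kb xb23 yb13 zb42) (kb xb7 yb16 zb49) (kb xb13 yb48 zb60) (kb xb23 yb13 zb47) (kb xb23 yb13 zb48) (kb xb23 yb13 zb53) (kb xb23 yb13 zb55) (kb xb23 yb13 zb58) (kb xb7 yb16 zb61) (kb xb23 yb13 zb61) (kb xb23 yb13 zb40) (kb xb7 yb16 zb55) (kb xb23 yb14 zb4) (kb xb22 yb30 zb59) (kb xb7 yb16 zb57) (kb xb7 yb16 zb58) (kb xb23 yb14 zb6) (kb xb20 yb32 zb39) (kb xb7 yb16 zb59) (kb xb23 yb14 zb12) (kb xb23 yb14 zb11) (kb xb23 yb14 zb17) (kb xb7 yb16 zb60) (kb xb14 yb0 zb41) (kb xb7 yb17 zb1) (kb xb23 yb14 zb25) (kb xb23 yb14 zb26) (kb xb23 yb14 zb24) (kb xb7 yb17 zb4)) (@D3.rec (fun _ => Pt) (kb xb7 yb17 zb5) (kb xb23 yb14 zb33) (kb xb15 yb14 zb5) (kb xb13 yb1 zb15) (kb xb14 yb6 zb33) (kb xb7 yb17 zb10)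 (kb xb14 yb6 zb55) (kb xb21 yb14 zb51) (kb xb13 yb51 zb19) (kb xb7 yb17 zb12) (kb xb13 yb14 zb53) (kb xb23 yb14 zb43) (kb xb23 yb14 zb44) (kb xb7 yb17 zb14) (kb xb16 yb47 zb23) (kb xb7 yb17 zb15) (kb xb17 yb15 zb2) (kb xb7 yb17 zb17) (kb xb23 yb14 zb48) (kb xb23 yb14 zb49) (kb xb21 yb14 zb11) (kb xb13 yb51 zb6) (kb xb21 yb13 zb52) (kb xb7 yb17 zb23) (kb xb7 yb17 zb21) (kb xb16 yb35 zb56) (kb xb7 yb17 zb22) (kb xb20 yb47 zb30) (kb xb8 yb50 zb43) (kb xb7 yb17 zb26) (kb xb9 yb9 zb28) (kb xb16 yb29 zb22) (kb xb16 yb10 zb30) (kb xb23 yb14 zb59) (kb xb13 yb50 zb46) (kb xb23 yb15 zb3) (kb xb15 yb23 zb45) (kb xb23 yb15 zb9) (kb xb7 yb57 zb2) (kb xb23 yb15 zb13) (kb xb20 yb32 zb24) (kb xb23 yb15 zb18) (kb xb10 yb4 zb14) (kb xb23 yb15 zb22) (kb xb23 yb15 zb25) (kb xb7 yb17 zb34)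 (kb xb23 yb15 zb0) (kb xb23 yb15 zb31) (kb xb13 yb38 zb6) (kb xb14 yb8 zb49) (kb xb13 yb51 zb11) (kb xb21 yb14 zb47) (kb xb21 yb14 zb48) (kb xb13 yb51 zb15) (kb xb23 yb15 zb43) (kb xb23 yb15 zb46) (kb xb7 yb17 zb42) (kb xb13 yb50 zb43) (kb xb23 yb15 zb52) (kb xb7 yb17 zb40) (kb xb23 yb15 zb56) (kb xb23 yb15 zb55)) (@D3.rec (fun _ => Pt) (kb xb23 yb15 zb61) (kb xb23 yb16 zb1) (kb xb7 yb17 zb41) (kb xb23 yb16 zb6) (kb xb23 yb16 zb10) (kb xb13 yb51 zb9) (kb xb23 yb15 zb51) (kb xb13 yb50 zb61) (kb xb7 yb24 zb34) (kb xb22 yb57 zb38) (kb xb22 yb41 zb21) (kb xb23 yb16 zb17) (kb xb7 yb21 zb45) (kb xb20 yb6 zb28) (kb xb13 yb51 zb2) (kb xb23 yb16 zb20) (kb xb7 yb17 zb49) (kb xb23 yb16 zb22) (kb xb7 yb17 zb51) (kb xb7 yb17 zb52) (kb xb7 yb17 zb48) (kb xb23 yb16 zb26) (kb xb13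 yb51 zb21) (kb xb23 yb16 zb33) (kb xb19 yb1 zb46) (kb xb10 yb1 zb36) (kb xb14 yb3 zb42) (kb xb10 yb4 zb19) (kb xb13 yb49 zb38) (kb xb7 yb17 zb55) (kb xb23 yb16 zb37) (kb xb7 yb17 zb54) (kb xb23 yb15 zb2) (kb xb23 yb16 zb43) (kb xb13 yb51 zb30) (kb xb11 yb24 zb51) (kb xb12 yb9 zb41) (kb xb20 yb32 zb29) (kb xb23 yb16 zb52) (kb xb7 yb17 zb58) (kb xb7 yb17 zb57) (kb xb23 yb16 zb59) (kb xb13 yb51 zb38) (kb xb23 yb17 zb3) (kb xb23 yb16 zb56) (kb xb7 yb17 zb59) (kb xb23 yb17 zb9) (kb xb7 yb17 zb60) (kb xb23 yb13 zb60) (kb xb23 yb17 zb17) (kb xb23 yb17 zb22) (kb xb23 yb14 zb21) (kb xb7 yb18 zb0) (kb xb7 yb18 zb1) (kb xb23 yb17 zb30) (kb xb23 yb17 zb19) (kb xb20 yb32 zb33) (kb xb15 yb47 zb31) (kb xb21 yb55 zb29) (kb xb23 yb17 zb42) (kb xb13 yb46 zb35) (kb xb13 yb34 zb16)) (@D3.rec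 (fun _ => Pt) (kb xb7 yb18 zb7) (kb xb23 yb17 zb49) (kb xb23 yb17 zb48) (kb xb13 yb51 zb48) (kb xb22 yb31 zb23) (kb xb13 yb15 zb34) (kb xb23 yb17 zb57) (kb xb23 yb17 zb61) (kb xb7 yb18 zb15) (kb xb13 yb51 zb53) (kb xb23 yb18 zb6) (kb xb7 yb18 zb17) (kb xb7 yb18 zb12) (kb xb23 yb18 zb9) (kb xb23 yb18 zb8) (kb xb23 yb18 zb14) (kb xb19 yb48 zb14) (kb xb7 yb18 zb14) (kb xb23 yb18 zb21) (kb xb15 yb23 zb40) (kb xb22 yb31 zb38) (kb xb23 yb18 zb4) (kb xb23 yb18 zb5) (kb xb7 yb18 zb18) (kb xb13 yb15 zb36) (kb xb13 yb15 zb25) (kb xb7 yb18 zb20) (kb xb16 yb23 zb48) (kb xb23 yb3 zb17) (kb xb23 yb3 zb18) (kb xb22 yb31 zb46) (kb xb23 yb18 zb11) (kb xb7 yb18 zb26) (kb xb23 yb18 zb37) (kb xb7 yb18 zb29) (kb xb7 yb18 zb25) (kb xb23 yb18 zb40) (kb xb23 yb18 zb43) (kb xb13 yb48 zb28)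 (kb xb10 yb29 zb49) (kb xb18 yb20 zb6) (kb xb7 yb18 zb27) (kb xb18 yb44 zb54) (kb xb13 yb15 zb22) (kb xb13 yb33 zb5) (kb xb7 yb18 zb31) (kb xb18 yb22 zb46) (kb xb7 yb18 zb33) (kb xb23 yb18 zb52) (kb xb7 yb18 zb36) (kb xb22 yb49 zb21) (kb xb23 yb12 zb17) (kb xb22 yb31 zb61) (kb xb13 yb16 zb7) (kb xb7 yb18 zb38) (kb xb22 yb52 zb18) (kb xb23 yb19 zb0) (kb xb9 yb47 zb10) (kb xb23 yb5 zb53) (kb xb23 yb19 zb6) (kb xb17 yb11 zb61) (kb xb13 yb45 zb37)) (@D3.rec (fun _ => Pt) (kb xb13 yb45 zb34) (kb xb7 yb18 zb41) (kb xb23 yb19 zb17) (kb xb7 yb18 zb44) (kb xb17 yb35 zb39) (kb xb7 yb18 zb45) (kb xb23 yb19 zb18) (kb xb11 yb49 zb50) (kb xb7 yb18 zb50) (kb xb13 yb18 zb5) (kb xb23 yb19 zb20) (kb xb23 yb19 zb21) (kb xb7 yb18 zb51) (kb xb13 yb34 zb15) (kb xb23 yb19 zb26) (kb xb23 yb19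 zb27) (kb xb18 yb22 zb48) (kb xb23 yb19 zb34) (kb xb21 yb27 zb59) (kb xb13 yb57 zb1) (kb xb12 yb8 zb27) (kb xb7 yb18 zb56) (kb xb16 yb29 zb38) (kb xb14 yb12 zb35) (kb xb7 yb19 zb8) (kb xb12 yb8 zb18) (kb xb13 yb57 zb18) (kb xb12 yb8 zb10) (kb xb7 yb18 zb59) (kb xb23 yb19 zb42) (kb xb17 yb5 zb61) (kb xb7 yb19 zb3) (kb xb7 yb19 zb0) (kb xb10 yb59 zb19) (kb xb12 yb38 zb29) (kb xb7 yb19 zb2) (kb xb16 yb55 zb30) (kb xb20 yb52 zb7) (kb xb15 yb0 zb7) (kb xb7 yb19 zb5) (kb xb7 yb19 zb7) (kb xb21 yb51 zb29) (kb xb23 yb19 zb49) (kb xb13 yb47 zb57) (kb xb7 yb19 zb10) (kb xb9 yb9 zb55) (kb xb13 yb47 zb34) (kb xb23 yb19 zb53) (kb xb18 yb23 zb45) (kb xb18 yb30 zb0) (kb xb8 yb3 zb17) (kb xb23 yb19 zb60) (kb xb18 yb23 zb47) (kb xb23 yb20 zb3) (kb xb8 yb4 zb53) (kb xb23 yb20 zb7) (kb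 xb23 yb20 zb10) (kb xb7 yb19 zb20) (kb xb16 yb12 zb3) (kb xb23 yb20 zb14) (kb xb13 yb59 zb22) (kb xb13 yb48 zb7)) (@D3.rec (fun _ => Pt) (kb xb22 yb42 zb14) (kb xb22 yb54 zb28) (kb xb13 yb48 zb14) (kb xb20 yb1 zb23) (kb xb16 yb3 zb29) (kb xb7 yb19 zb26) (kb xb13 yb47 zb21) (kb xb23 yb20 zb21) (kb xb23 yb20 zb24) (kb xb13 yb48 zb5) (kb xb11 yb34 zb35) (kb xb13 yb47 zb50) (kb xb22 yb42 zb8) (kb xb23 yb2 zb58) (kb xb23 yb20 zb31) (kb xb13 yb47 zb53) (kb xb21 yb55 zb49) (kb xb7 yb19 zb31) (kb xb23 yb20 zb35) (kb xb13 yb47 zb8) (kb xb7 yb19 zb32) (kb xb13 yb48 zb22) (kb xb23 yb20 zb38) (kb xb15 yb50 zb39) (kb xb14 yb45 zb8) (kb xb23 yb20 zb41) (kb xb7 yb19 zb35) (kb xb7 yb19 zb34) (kb xb23 yb20 zb47) (kb xb23 yb20 zb51) (kb xb13 yb48 zb34) (kb xb12 yb7 zb23) (kb xb20 yb31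 zb38) (kb xb14 yb44 zb60) (kb xb23 yb20 zb59) (kb xb7 yb19 zb38) (kb xb7 yb19 zb37) (kb xb22 yb45 zb29) (kb xb13 yb48 zb42) (kb xb23 yb21 zb4) (kb xb21 yb28 zb38) (kb xb7 yb19 zb39) (kb xb23 yb21 zb9) (kb xb7 yb19 zb40) (kb xb21 yb1 zb13) (kb xb23 yb21 zb17) (kb xb19 yb5 zb45) (kb xb21 yb27 zb57) (kb xb13 yb49 zb3) (kb xb13 yb16 zb10) (kb xb7 yb40 zb39) (kb xb14 yb9 zb46) (kb xb7 yb19 zb47) (kb xb13 yb49 zb9) (kb xb23 yb21 zb27) (kb xb7 yb19 zb49) (kb xb23 yb21 zb29) (kb xb23 yb21 zb32) (kb xb23 yb21 zb25) (kb xb23 yb21 zb26) (kb xb7 yb19 zb48) (kb xb13 yb16 zb5)) (@D3.rec (fun _ => Pt) (kb xb22 yb30 zb32) (kb xb22 yb41 zb58) (kb xb23 yb21 zb43) (kb xb13 yb40 zb50) (kb xb21 yb56 zb50) (kb xb7 yb19 zb54) (kb xb23 yb21 zb50) (kb xb7 yb19 zb56) (kb xb10 yb2 zb0) (kb xb23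 yb21 zb52) (kb xb18 yb58 zb45) (kb xb23 yb21 zb49) (kb xb7 yb19 zb55) (kb xb7 yb19 zb57) (kb xb7 yb19 zb58) (kb xb23 yb21 zb59) (kb xb23 yb22 zb2) (kb xb17 yb23 zb10) (kb xb14 yb1 zb31) (kb xb14 yb1 zb32) (kb xb23 yb22 zb7) (kb xb9 yb9 zb17) (kb xb23 yb22 zb8) (kb xb8 yb23 zb45) (kb xb23 yb22 zb10) (kb xb7 yb20 zb5) (kb xb23 yb22 zb15) (kb xb7 yb20 zb6) (kb xb23 yb22 zb21) (kb xb7 yb20 zb7) (kb xb19 yb59 zb45) (kb xb23 yb22 zb26) (kb xb13 yb23 zb56) (kb xb7 yb20 zb9) (kb xb7 yb20 zb11) (kb xb9 yb35 zb41) (kb xb23 yb22 zb36) (kb xb14 yb2 zb50) (kb xb7 yb20 zb14) (kb xb23 yb22 zb41) (kb xb18 yb2 zb50) (kb xb14 yb29 zb10) (kb xb14 yb29 zb11) (kb xb14 yb29 zb16) (kb xb7 yb20 zb21) (kb xb20 yb24 zb31) (kb xb14 yb2 zb56) (kb xb12 yb47 zb51) (kb xb14 yb2 zb28) (kb xb14 yb1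 zb57) (kb xb19 yb50 zb24) (kb xb7 yb20 zb33) (kb xb7 yb20 zb34) (kb xb14 yb1 zb61) (kb xb14 yb2 zb0) (kb xb7 yb20 zb26) (kb xb12 yb35 zb19) (kb xb14 yb2 zb3) (kb xb23 yb22 zb59) (kb xb21 yb32 zb50) (kb xb7 yb20 zb43) (kb xb11 yb21 zb30)) (@D3.rec (fun _ => Pt) (kb xb7 yb20 zb30) (kb xb18 yb18 zb36) (kb xb22 yb38 zb44) (kb xb23 yb23 zb3) (kb xb23 yb23 zb4) (kb xb7 yb20 zb31) (kb xb16 yb5 zb12) (kb xb23 yb23 zb11) (kb xb7 yb20 zb32) (kb xb23 yb23 zb14) (kb xb13 yb22 zb59) (kb xb23 yb23 zb16) (kb xb23 yb22 zb52) (kb xb14 yb54 zb5) (kb xb7 yb21 zb12) (kb xb7 yb20 zb36) (kb xb7 yb20 zb37) (kb xb12 yb52 zb44) (kb xb23 yb23 zb25) (kb xb7 yb20 zb39) (kb xb23 yb23 zb32) (kb xb23 yb23 zb31) (kb xb7 yb20 zb40) (kb xb17 yb16 zb11) (kb xb15 yb42 zb21) (kb xb7 yb20 zb41) (kb xb21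 yb33 zb12) (kb xb23 yb23 zb0) (kb xb7 yb20 zb45) (kb xb7 yb20 zb46) (kb xb14 yb54 zb56) (kb xb7 yb20 zb47) (kb xb23 yb23 zb45) (kb xb7 yb20 zb48) (kb xb23 yb23 zb47) (kb xb7 yb47 zb50) (kb xb14 yb3 zb25) (kb xb7 yb20 zb50) (kb xb16 yb54 zb10) (kb xb19 yb21 zb26) (kb xb14 yb24 zb30) (kb xb14 yb3 zb36) (kb xb10 yb25 zb41) (kb xb7 yb20 zb54) (kb xb19 yb22 zb2) (kb xb18 yb10 zb18) (kb xb7 yb20 zb57) (kb xb23 yb23 zb52) (kb xb22 yb34 zb21) (kb xb7 yb20 zb59) (kb xb18 yb10 zb17) (kb xb23 yb24 zb0) (kb xb14 yb10 zb14) (kb xb7 yb37 zb45) (kb xb7 yb34 zb50) (kb xb14 yb10 zb21) (kb xb7 yb37 zb48) (kb xb7 yb21 zb4) (kb xb23 yb24 zb9) (kb xb7 yb50 zb43) (kb xb22 yb21 zb8) (kb xb14 yb24 zb37)) (@D3.rec (fun _ => Pt) (kb xb14 yb1 zb52) (kb xb14 yb1 zb53) (kb xb20 yb30 zb50) (kb xb17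 yb9 zb41) (kb xb23 yb23 zb10) (kb xb7 yb21 zb16) (kb xb7 yb21 zb17) (kb xb23 yb23 zb20) (kb xb23 yb23 zb21) (kb xb23 yb23 zb36) (kb xb23 yb24 zb24) (kb xb7 yb21 zb14) (kb xb9 yb4 zb32) (kb xb8 yb22 zb41) (kb xb22 yb38 zb12) (kb xb11 yb14 zb46) (kb xb12 yb26 zb24) (kb xb8 yb33 zb7) (kb xb23 yb24 zb30) (kb xb23 yb24 zb19) (kb xb12 yb16 zb35) (kb xb12 yb37 zb9) (kb xb8 yb33 zb57) (kb xb7 yb21 zb21) (kb xb12 yb42 zb5) (kb xb15 yb41 zb43) (kb xb7 yb21 zb22) (kb xb13 yb6 zb18) (kb xb22 yb35 zb29) (kb xb22 yb35 zb31) (kb xb7 yb21 zb26) (kb xb23 yb24 zb39) (kb xb23 yb24 zb41) (kb xb22 yb41 zb19) (kb xb7 yb21 zb34) (kb xb7 yb21 zb35) (kb xb7 yb21 zb28) (kb xb13 yb6 zb26) (kb xb23 yb24 zb52) (kb xb23 yb24 zb53) (kb xb14 yb0 zb23) (kb xb23 yb24 zb59) (kb xb22 yb58 zb22) (kb xb23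 yb25 zb3) (kb xb7 yb21 zb41) (kb xb7 yb21 zb32) (kb xb21 yb15 zb18) (kb xb23 yb25 zb7) (kb xb23 yb25 zb8) (kb xb7 yb21 zb33) (kb xb23 yb25 zb16) (kb xb23 yb25 zb17) (kb xb23 yb25 zb19) (kb xb16 yb12 zb25) (kb xb23 yb24 zb50) (kb xb23 yb24 zb51) (kb xb7 yb23 zb58) (kb xb7 yb21 zb37) (kb xb18 yb42 zb24) (kb xb16 yb6 zb36) (kb xb7 yb21 zb38) (kb xb23 yb25 zb28)) (@D3.rec (fun _ => Pt) (kb xb19 yb55 zb60) (kb xb7 yb21 zb39) (kb xb23 yb25 zb35) (kb xb16 yb13 zb12) (kb xb23 yb25 zb39) (kb xb18 yb43 zb8) (kb xb7 yb21 zb40) (kb xb23 yb25 zb6) (kb xb14 yb10 zb0) (kb xb7 yb21 zb44) (kb xb14 yb10 zb4) (kb xb23 yb25 zb49) (kb xb23 yb25 zb47) (kb xb20 yb33 zb28) (kb xb23 yb16 zb18) (kb xb7 yb21 zb47) (kb xb23 yb25 zb59) (kb xb14 yb5 zb8) (kb xb7 yb21 zb50) (kb xb23 yb25 zb60) (kb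 xb14 yb5 zb13) (kb xb23 yb26 zb1) (kb xb7 yb21 zb61) (kb xb7 yb22 zb0) (kb xb14 yb5 zb17) (kb xb14 yb5 zb18) (kb xb7 yb21 zb53) (kb xb23 yb26 zb10) (kb xb23 yb26 zb11) (kb xb14 yb5 zb22) (kb xb23 yb26 zb13) (kb xb23 yb26 zb15) (kb xb7 yb22 zb17) (kb xb21 yb32 zb7) (kb xb7 yb21 zb56) (kb xb13 yb17 zb3) (kb xb21 yb11 zb38) (kb xb9 yb10 zb48) (kb xb23 yb26 zb19) (kb xb21 yb29 zb51) (kb xb23 yb26 zb23) (kb xb7 yb47 zb13) (kb xb13 yb21 zb56) (kb xb7 yb21 zb59) (kb xb18 yb35 zb5) (kb xb23 yb26 zb30) (kb xb8 yb21 zb16) (kb xb7 yb21 zb60) (kb xb9 yb13 zb53) (kb xb23 yb26 zb35) (kb xb23 yb26 zb36) (kb xb23 yb26 zb40) (kb xb23 yb26 zb43) (kb xb23 yb26 zb47) (kb xb23 yb26 zb7) (kb xb22 yb44 zb14) (kb xb7 yb22 zb20) (kb xb7 yb22 zb2) (kb xb7 yb22 zb3) (kb xb12 yb37 zb8) (kb xb23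 yb26 zb57) (kb xb14 yb5 zb12)) (@D3.rec (fun _ => Pt) (kb xb14 yb6 zb24) (kb xb7 yb22 zb5) (kb xb15 yb43 zb26) (kb xb23 yb27 zb4) (kb xb7 yb22 zb6) (kb xb21 yb48 zb53) (kb xb23 yb27 zb9) (kb xb7 yb22 zb7) (kb xb23 yb27 zb13) (kb xb21 yb21 zb50) (kb xb7 yb22 zb8) (kb xb13 yb16 zb25) (kb xb7 yb31 zb58) (kb xb13 yb16 zb40) (kb xb7 yb32 zb4) (kb xb22 yb17 zb46) (kb xb8 yb50 zb42) (kb xb14 yb5 zb11) (kb xb21 yb6 zb52) (kb xb23 yb26 zb16) (kb xb19 yb59 zb50) (kb xb8 yb21 zb31) (kb xb7 yb22 zb25) (kb xb7 yb22 zb26) (kb xb23 yb26 zb52) (kb xb23 yb26 zb53) (kb xb23 yb27 zb7) (kb xb23 yb27 zb38) (kb xb7 yb22 zb36) (kb xb7 yb22 zb23) (kb xb23 yb27 zb43) (kb xb7 yb22 zb24) (kb xb9 yb17 zb30) (kb xb23 yb27 zb50) (kb xb12 yb56 zb13) (kb xb23 yb27 zb55) (kb xb23 yb27 zb58) (kb xb23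 yb28 zb1) (kb xb23 yb27 zb31) (kb xb7 yb22 zb28) (kb xb7 yb22 zb29) (kb xb22 yb53 zb52) (kb xb23 yb27 zb1) (kb xb23 yb28 zb8) (kb xb12 yb13 zb28) (kb xb14 yb6 zb23) (kb xb13 yb25 zb18) (kb xb7 yb22 zb31) (kb xb7 yb22 zb32) (kb xb23 yb28 zb21) (kb xb23 yb28 zb18) (kb xb7 yb22 zb33) (kb xb23 yb28 zb27) (kb xb21 yb24 zb43) (kb xb7 yb22 zb34) (kb xb23 yb28 zb35) (kb xb23 yb28 zb34) (kb xb7 yb22 zb35) (kb xb15 yb15 zb37) (kb xb23 yb27 zb41) (kb xb7 yb22 zb38) (kb xb23 yb28 zb44)) (@D3.rec (fun _ => Pt) (kb xb23 yb28 zb43) (kb xb13 yb50 zb19) (kb xb11 yb29 zb15) (kb xb14 yb7 zb21) (kb xb7 yb22 zb45) (kb xb13 yb4 zb50) (kb xb20 yb46 zb36) (kb xb23 yb28 zb52) (kb xb8 yb46 zb26) (kb xb8 yb46 zb34) (kb xb14 yb7 zb22) (kb xb8 yb45 zb46) (kb xb12 yb23 zb2) (kb xb17 yb23 zb43) (kb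 xb23 yb3 zb33) (kb xb23 yb29 zb0) (kb xb7 yb22 zb57) (kb xb7 yb22 zb58) (kb xb13 yb50 zb26) (kb xb21 yb14 zb22) (kb xb14 yb9 zb11) (kb xb7 yb22 zb53) (kb xb13 yb16 zb32) (kb xb23 yb29 zb10) (kb xb23 yb29 zb11) (kb xb21 yb14 zb15) (kb xb23 yb29 zb17) (kb xb19 yb54 zb50) (kb xb7 yb22 zb55) (kb xb23 yb29 zb21) (kb xb19 yb43 zb52) (kb xb14 yb7 zb6) (kb xb14 yb7 zb7) (kb xb23 yb29 zb24) (kb xb14 yb7 zb9) (kb xb19 yb55 zb15) (kb xb23 yb29 zb7) (kb xb7 yb22 zb59) (kb xb23 yb29 zb31) (kb xb23 yb29 zb34) (kb xb7 yb22 zb60) (kb xb7 yb23 zb0) (kb xb23 yb29 zb37) (kb xb14 yb6 zb34) (kb xb14 yb6 zb35) (kb xb14 yb6 zb45) (kb xb14 yb6 zb46) (kb xb7 yb23 zb5) (kb xb14 yb40 zb15) (kb xb13 yb22 zb8) (kb xb23 yb29 zb42) (kb xb23 yb28 zb55) (kb xb7 yb23 zb14) (kb xb7 yb23 zb15) (kb xb7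 yb23 zb8) (kb xb23 yb29 zb50) (kb xb23 yb29 zb51) (kb xb22 yb43 zb3) (kb xb23 yb29 zb55) (kb xb22 yb43 zb7) (kb xb23 yb29 zb60) (kb xb7 yb23 zb18)) (@D3.rec (fun _ => Pt) (kb xb13 yb25 zb47) (kb xb7 yb23 zb13) (kb xb23 yb30 zb3) (kb xb23 yb30 zb4) (kb xb14 yb7 zb34) (kb xb23 yb30 zb8) (kb xb23 yb30 zb12) (kb xb23 yb29 zb49) (kb xb7 yb23 zb16) (kb xb23 yb30 zb16) (kb xb23 yb30 zb19) (kb xb23 yb30 zb21) (kb xb7 yb23 zb17) (kb xb23 yb30 zb25) (kb xb23 yb29 zb61) (kb xb16 yb28 zb22) (kb xb20 yb5 zb39) (kb xb17 yb59 zb14) (kb xb12 yb12 zb47) (kb xb14 yb7 zb49) (kb xb14 yb7 zb51) (kb xb14 yb7 zb40) (kb xb23 yb30 zb31) (kb xb11 yb51 zb61) (kb xb7 yb23 zb28) (kb xb7 yb23 zb29) (kb xb9 yb45 zb47) (kb xb9 yb45 zb48) (kb xb7 yb23 zb27) (kb xb23 yb30 zb35) (kb xb20 yb24 zb9) (kb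 xb14 yb7 zb58) (kb xb23 yb30 zb38) (kb xb23 yb30 zb39) (kb xb19 yb16 zb51) (kb xb7 yb23 zb30) (kb xb12 yb23 zb41) (kb xb7 yb23 zb31) (kb xb9 yb1 zb28) (kb xb20 yb27 zb3) (kb xb11 yb24 zb29) (kb xb7 yb23 zb36) (kb xb20 yb27 zb49) (kb xb7 yb23 zb35) (kb xb11 yb25 zb16) (kb xb14 yb8 zb25) (kb xb21 yb30 zb47) (kb xb20 yb17 zb14) (kb xb7 yb23 zb39) (kb xb7 yb23 zb40) (kb xb12 yb3 zb33) (kb xb20 yb14 zb56) (kb xb23 yb30 zb56) (kb xb14 yb8 zb19) (kb xb18 yb22 zb44) (kb xb16 yb28 zb4) (kb xb14 yb8 zb22) (kb xb23 yb30 zb54) (kb xb23 yb30 zb55) (kb xb14 yb8 zb11) (kb xb23 yb25 zb15) (kb xb17 yb2 zb47)) (@D3.rec (fun _ => Pt) (kb xb7 yb23 zb43) (kb xb7 yb23 zb44) (kb xb7 yb23 zb42) (kb xb23 yb31 zb14) (kb xb23 yb31 zb10) (kb xb14 yb8 zb34) (kb xb23 yb31 zb11) (kb xb23 yb31 zb12)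 (kb xb7 yb23 zb45) (kb xb16 yb29 zb45) (kb xb23 yb31 zb18) (kb xb23 yb31 zb19) (kb xb7 yb23 zb46) (kb xb19 yb48 zb23) (kb xb23 yb31 zb22) (kb xb9 yb43 zb41) (kb xb23 yb31 zb23) (kb xb20 yb18 zb33) (kb xb7 yb23 zb47) (kb xb23 yb31 zb24) (kb xb15 yb13 zb49) (kb xb13 yb37 zb28) (kb xb13 yb50 zb60) (kb xb14 yb9 zb5) (kb xb14 yb9 zb8) (kb xb23 yb31 zb31) (kb xb18 yb59 zb61) (kb xb14 yb7 zb27) (kb xb21 yb55 zb27) (kb xb7 yb23 zb53) (kb xb8 yb38 zb57) (kb xb19 yb26 zb31) (kb xb23 yb14 zb2) (kb xb13 yb37 zb58) (kb xb7 yb23 zb54) (kb xb9 yb1 zb45) (kb xb23 yb31 zb40) (kb xb14 yb9 zb1) (kb xb16 yb50 zb35) (kb xb14 yb8 zb50) (kb xb22 yb43 zb53) (kb xb23 yb31 zb45) (kb xb7 yb24 zb0) (kb xb21 yb32 zb22) (kb xb14 yb6 zb57) (kb xb7 yb24 zb1) (kb xb7 yb23 zb61) (kb xb23 yb31 zb48)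 (kb xb14 yb9 zb14) (kb xb21 yb8 zb56) (kb xb21 yb8 zb45) (kb xb11 yb3 zb58) (kb xb21 yb41 zb10) (kb xb23 yb25 zb27) (kb xb19 yb1 zb33) (kb xb7 yb24 zb4) (kb xb23 yb32 zb0) (kb xb23 yb32 zb2) (kb xb7 yb24 zb3) (kb xb23 yb32 zb6) (kb xb23 yb32 zb10) (kb xb14 yb9 zb22))
def f_b_14 : D2 → D3 → Pt := @D2.rec (fun _ => D3 → Pt) (@D3.rec (fun _ => Pt) (kb xb23 yb31 zb60) (kb xb23 yb31 zb61) (kb xb23 yb25 zb33) (kb xb16 yb3 zb37) (kb xb7 yb24 zb7) (kb xb7 yb24 zb6) (kb xb15 yb50 zb24) (kb xb14 yb9 zb27) (kb xb23 yb32 zb28) (kb xb23 yb32 zb21) (kb xb7 yb24 zb8) (kb xb23 yb32 zb33) (kb xb7 yb24 zb9) (kb xb21 yb15 zb39) (kb xb23 yb32 zb43) (kb xb23 yb32 zb46) (kb xb23 yb25 zb43) (kb xb7 yb24 zb11) (kb xb7 yb24 zb12) (kb xb23 yb21 zb24) (kb xb23 yb18 zb3) (kb xb23 yb32 zb57) (kb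 xb23 yb32 zb59) (kb xb13 yb54 zb40) (kb xb14 yb9 zb38) (kb xb13 yb2 zb42) (kb xb7 yb24 zb15) (kb xb23 yb33 zb8) (kb xb23 yb33 zb7) (kb xb22 yb58 zb27) (kb xb22 yb22 zb14) (kb xb23 yb33 zb14) (kb xb22 yb42 zb1) (kb xb7 yb24 zb23) (kb xb14 yb9 zb49) (kb xb23 yb33 zb15) (kb xb7 yb24 zb25) (kb xb7 yb24 zb20) (kb xb23 yb2 zb57) (kb xb23 yb33 zb19) (kb xb7 yb24 zb21) (kb xb13 yb46 zb56) (kb xb23 yb17 zb29) (kb xb7 yb24 zb22) (kb xb23 yb33 zb20) (kb xb23 yb33 zb22) (kb xb19 yb14 zb39) (kb xb11 yb2 zb60) (kb xb16 yb10 zb56) (kb xb14 yb48 zb26) (kb xb20 yb41 zb36) (kb xb22 yb12 zb9) (kb xb7 yb24 zb28) (kb xb23 yb33 zb26) (kb xb7 yb34 zb36) (kb xb7 yb24 zb31) (kb xb7 yb24 zb32) (kb xb23 yb33 zb34) (kb xb23 yb33 zb33) (kb xb23 yb16 zb16) (kb xb22 yb44 zb1) (kb xb23 yb33 zb39))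 (@D3.rec (fun _ => Pt) (kb xb8 yb34 zb3) (kb xb7 yb24 zb37) (kb xb22 yb30 zb23) (kb xb23 yb33 zb45) (kb xb23 yb33 zb48) (kb xb12 yb0 zb51) (kb xb7 yb24 zb39) (kb xb7 yb24 zb42) (kb xb18 yb23 zb3) (kb xb7 yb24 zb43) (kb xb23 yb33 zb52) (kb xb23 yb33 zb53) (kb xb18 yb20 zb38) (kb xb10 yb7 zb50) (kb xb10 yb7 zb49) (kb xb7 yb24 zb45) (kb xb22 yb15 zb36) (kb xb23 yb33 zb59) (kb xb23 yb34 zb0) (kb xb7 yb52 zb60) (kb xb13 yb5 zb5) (kb xb7 yb24 zb47) (kb xb7 yb24 zb48) (kb xb12 yb59 zb38) (kb xb7 yb24 zb50) (kb xb7 yb24 zb51) (kb xb23 yb34 zb9) (kb xb7 yb24 zb52) (kb xb23 yb34 zb13) (kb xb23 yb6 zb58) (kb xb23 yb34 zb20) (kb xb13 yb52 zb18) (kb xb13 yb52 zb19) (kb xb23 yb34 zb26) (kb xb23 yb34 zb27) (kb xb20 yb54 zb26) (kb xb7 yb24 zb57) (kb xb23 yb34 zb29) (kb xb7 yb57 zb10)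 (kb xb9 yb9 zb43) (kb xb17 yb19 zb35) (kb xb11 yb25 zb61) (kb xb14 yb48 zb51) (kb xb13 yb6 zb23) (kb xb13 yb8 zb48) (kb xb7 yb25 zb49) (kb xb14 yb48 zb58) (kb xb13 yb8 zb54) (kb xb7 yb25 zb5) (kb xb23 yb34 zb37) (kb xb7 yb25 zb9) (kb xb23 yb34 zb38) (kb xb13 yb54 zb0) (kb xb13 yb54 zb1) (kb xb12 yb6 zb25) (kb xb7 yb25 zb13) (kb xb23 yb34 zb46) (kb xb13 yb52 zb49) (kb xb17 yb56 zb26) (kb xb7 yb25 zb25) (kb xb7 yb25 zb26) (kb xb13 yb52 zb53)) (@D3.rec (fun _ => Pt) (kb xb13 yb52 zb54) (kb xb7 yb25 zb16) (kb xb12 yb58 zb43) (kb xb13 yb52 zb57) (kb xb23 yb34 zb61) (kb xb18 yb6 zb12) (kb xb7 yb25 zb52) (kb xb7 yb25 zb19) (kb xb13 yb21 zb47) (kb xb21 yb30 zb5) (kb xb23 yb35 zb6) (kb xb23 yb35 zb7) (kb xb20 yb26 zb23) (kb xb23 yb35 zb14) (kb xb22 yb35 zb35) (kb xb22 yb35 zb36)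 (kb xb7 yb25 zb22) (kb xb15 yb45 zb37) (kb xb7 yb25 zb24) (kb xb8 yb34 zb23) (kb xb23 yb35 zb23) (kb xb8 yb21 zb26) (kb xb17 yb38 zb22) (kb xb23 yb34 zb53) (kb xb14 yb55 zb32) (kb xb7 yb25 zb55) (kb xb7 yb25 zb28) (kb xb19 yb8 zb20) (kb xb13 yb52 zb48) (kb xb13 yb13 zb1) (kb xb12 yb41 zb51) (kb xb12 yb47 zb56) (kb xb8 yb21 zb17) (kb xb7 yb25 zb33) (kb xb7 yb25 zb36) (kb xb22 yb45 zb35) (kb xb23 yb2 zb21) (kb xb22 yb12 zb10) (kb xb7 yb25 zb38) (kb xb23 yb35 zb38) (kb xb23 yb35 zb37) (kb xb7 yb25 zb39) (kb xb21 yb3 zb1) (kb xb10 yb54 zb45) (kb xb7 yb25 zb42) (kb xb7 yb25 zb43) (kb xb13 yb37 zb56) (kb xb7 yb25 zb46) (kb xb23 yb35 zb51) (kb xb23 yb35 zb53) (kb xb13 yb52 zb37) (kb xb7 yb25 zb48) (kb xb16 yb17 zb13) (kb xb7 yb52 zb37) (kb xb9 yb10 zb21) (kb xb14 yb48 zb0)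 (kb xb13 yb52 zb46) (kb xb12 yb37 zb36) (kb xb23 yb35 zb3) (kb xb22 yb27 zb15) (kb xb7 yb25 zb58) (kb xb23 yb36 zb1)) (@D3.rec (fun _ => Pt) (kb xb23 yb36 zb2) (kb xb7 yb25 zb59) (kb xb15 yb45 zb42) (kb xb23 yb36 zb4) (kb xb23 yb36 zb6) (kb xb16 yb3 zb1) (kb xb7 yb26 zb0) (kb xb7 yb26 zb1) (kb xb23 yb36 zb10) (kb xb23 yb36 zb9) (kb xb13 yb13 zb0) (kb xb7 yb54 zb41) (kb xb7 yb26 zb3) (kb xb17 yb30 zb37) (kb xb23 yb36 zb16) (kb xb7 yb26 zb4) (kb xb23 yb36 zb21) (kb xb23 yb36 zb20) (kb xb7 yb26 zb5) (kb xb12 yb21 zb10) (kb xb23 yb36 zb26) (kb xb12 yb25 zb60) (kb xb21 yb55 zb23) (kb xb7 yb26 zb10) (kb xb14 yb42 zb42) (kb xb13 yb53 zb36) (kb xb7 yb26 zb12) (kb xb22 yb2 zb53) (kb xb20 yb11 zb43) (kb xb7 yb26 zb13) (kb xb23 yb36 zb36) (kb xb14 yb44 zb59) (kb xb23 yb36 zb38)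 (kb xb7 yb26 zb16) (kb xb23 yb36 zb40) (kb xb14 yb42 zb52) (kb xb13 yb53 zb41) (kb xb14 yb58 zb50) (kb xb22 yb14 zb43) (kb xb22 yb50 zb48) (kb xb7 yb48 zb12) (kb xb7 yb26 zb20) (kb xb13 yb48 zb26) (kb xb7 yb26 zb21) (kb xb14 yb56 zb35) (kb xb22 yb35 zb6) (kb xb10 yb41 zb8) (kb xb23 yb36 zb54) (kb xb7 yb26 zb26) (kb xb7 yb26 zb25) (kb xb17 yb41 zb36) (kb xb23 yb37 zb1) (kb xb23 yb37 zb2) (kb xb21 yb9 zb15) (kb xb7 yb26 zb27) (kb xb7 yb26 zb32) (kb xb14 yb5 zb1) (kb xb23 yb37 zb4) (kb xb13 yb23 zb30) (kb xb23 yb37 zb8) (kb xb7 yb26 zb40) (kb xb7 yb26 zb41)) (@D3.rec (fun _ => Pt) (kb xb14 yb5 zb4) (kb xb12 yb48 zb55) (kb xb23 yb10 zb57) (kb xb7 yb26 zb36) (kb xb14 yb9 zb37) (kb xb23 yb37 zb18) (kb xb23 yb37 zb19) (kb xb23 yb37 zb23) (kb xb23 yb37 zb26) (kb xb21 yb25 zb26)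 (kb xb7 yb26 zb38) (kb xb23 yb37 zb32) (kb xb15 yb10 zb33) (kb xb16 yb9 zb47) (kb xb7 yb26 zb39) (kb xb23 yb37 zb37) (kb xb23 yb37 zb35) (kb xb23 yb37 zb36) (kb xb23 yb37 zb41) (kb xb23 yb37 zb43) (kb xb23 yb37 zb13) (kb xb15 yb0 zb8) (kb xb18 yb6 zb30) (kb xb7 yb26 zb47) (kb xb23 yb37 zb49) (kb xb20 yb52 zb42) (kb xb7 yb26 zb53) (kb xb11 yb18 zb49) (kb xb21 yb2 zb60) (kb xb9 yb14 zb23) (kb xb23 yb37 zb50) (kb xb7 yb26 zb55) (kb xb23 yb37 zb52) (kb xb18 yb6 zb5) (kb xb23 yb37 zb54) (kb xb22 yb10 zb32) (kb xb12 yb30 zb45) (kb xb7 yb26 zb58) (kb xb23 yb37 zb61) (kb xb12 yb30 zb2) (kb xb18 yb22 zb31) (kb xb7 yb27 zb2) (kb xb7 yb27 zb3) (kb xb11 yb47 zb8) (kb xb23 yb38 zb2) (kb xb16 yb16 zb21) (kb xb9 yb37 zb48) (kb xb11 yb16 zb31) (kb xb7 yb28 zb37) (kb xb11 yb14 zb33)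 (kb xb7 yb27 zb13) (kb xb23 yb38 zb6) (kb xb10 yb7 zb9) (kb xb17 yb56 zb37) (kb xb7 yb27 zb19) (kb xb10 yb6 zb59) (kb xb23 yb38 zb8) (kb xb7 yb27 zb22) (kb xb7 yb27 zb23) (kb xb7 yb27 zb30) (kb xb13 yb21 zb41) (kb xb21 yb52 zb16)) (@D3.rec (fun _ => Pt) (kb xb11 yb27 zb16) (kb xb14 yb3 zb56) (kb xb13 yb6 zb20) (kb xb7 yb28 zb9) (kb xb14 yb4 zb0) (kb xb13 yb6 zb27) (kb xb7 yb27 zb39) (kb xb16 yb8 zb7) (kb xb13 yb55 zb17) (kb xb7 yb27 zb43) (kb xb23 yb38 zb21) (kb xb13 yb56 zb17) (kb xb13 yb55 zb61) (kb xb13 yb55 zb20) (kb xb20 yb24 zb54) (kb xb7 yb27 zb53) (kb xb7 yb27 zb54) (kb xb13 yb55 zb24) (kb xb13 yb55 zb25) (kb xb7 yb27 zb48) (kb xb23 yb38 zb30) (kb xb23 yb38 zb31) (kb xb13 yb55 zb29) (kb xb23 yb38 zb36) (kb xb23 yb38 zb41) (kb xb7 yb28 zb2) (kb xb7 yb27 zb51)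 (kb xb23 yb38 zb47) (kb xb7 yb27 zb52) (kb xb23 yb38 zb54) (kb xb22 yb38 zb59) (kb xb23 yb38 zb58) (kb xb21 yb34 zb30) (kb xb23 yb39 zb0) (kb xb23 yb29 zb40) (kb xb22 yb42 zb56) (kb xb7 yb28 zb13) (kb xb7 yb27 zb56) (kb xb7 yb27 zb57) (kb xb23 yb39 zb9) (kb xb23 yb39 zb8) (kb xb7 yb27 zb59) (kb xb7 yb27 zb60) (kb xb23 yb39 zb17) (kb xb23 yb39 zb16) (kb xb14 yb48 zb30) (kb xb7 yb27 zb61) (kb xb23 yb39 zb24) (kb xb7 yb28 zb0) (kb xb23 yb39 zb29) (kb xb23 yb39 zb33) (kb xb23 yb39 zb35) (kb xb7 yb28 zb1) (kb xb23 yb39 zb39) (kb xb23 yb39 zb40) (kb xb23 yb38 zb44) (kb xb7 yb28 zb4) (kb xb23 yb39 zb47) (kb xb23 yb39 zb46) (kb xb7 yb28 zb5) (kb xb19 yb51 zb11) (kb xb7 yb48 zb5)) (@D3.rec (fun _ => Pt) (kb xb14 yb11 zb20) (kb xb8 yb6 zb19) (kb xb23 yb38 zb13) (kb xb12 yb8 zb31)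 (kb xb12 yb8 zb16) (kb xb23 yb38 zb46) (kb xb7 yb28 zb17) (kb xb7 yb28 zb18) (kb xb23 yb39 zb5) (kb xb23 yb39 zb23) (kb xb19 yb55 zb16) (kb xb7 yb28 zb15) (kb xb23 yb40 zb7) (kb xb15 yb43 zb40) (kb xb7 yb28 zb16) (kb xb23 yb40 zb9) (kb xb23 yb40 zb10) (kb xb23 yb40 zb13) (kb xb23 yb40 zb15) (kb xb23 yb40 zb16) (kb xb23 yb40 zb1) (kb xb21 yb49 zb18) (kb xb22 yb37 zb50) (kb xb13 yb56 zb45) (kb xb13 yb56 zb0) (kb xb7 yb28 zb22) (kb xb7 yb28 zb23) (kb xb21 yb43 zb33) (kb xb23 yb40 zb24) (kb xb7 yb28 zb24) (kb xb23 yb40 zb27) (kb xb7 yb28 zb25) (kb xb7 yb28 zb26) (kb xb13 yb47 zb4) (kb xb13 yb57 zb43) (kb xb13 yb57 zb44) (kb xb7 yb28 zb31) (kb xb7 yb28 zb32) (kb xb9 yb25 zb49) (kb xb23 yb40 zb38) (kb xb23 yb40 zb39) (kb xb13 yb38 zb30) (kb xb13 yb38 zb24) (kb xb22 yb15 zb57)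 (kb xb7 yb28 zb56) (kb xb13 yb57 zb45) (kb xb13 yb57 zb46) (kb xb22 yb37 zb23) (kb xb11 yb45 zb57) (kb xb12 yb38 zb38) (kb xb17 yb30 zb20) (kb xb16 yb25 zb8) (kb xb23 yb40 zb55) (kb xb7 yb28 zb45) (kb xb7 yb28 zb46) (kb xb13 yb47 zb6) (kb xb22 yb44 zb28) (kb xb13 yb59 zb44) (kb xb7 yb28 zb40) (kb xb13 yb2 zb50) (kb xb23 yb41 zb6) (kb xb23 yb41 zb7)) (@D3.rec (fun _ => Pt) (kb xb22 yb44 zb31) (kb xb23 yb41 zb14) (kb xb23 yb41 zb19) (kb xb7 yb28 zb50) (kb xb7 yb28 zb43) (kb xb23 yb41 zb23) (kb xb13 yb57 zb31) (kb xb13 yb57 zb32) (kb xb23 yb41 zb28) (kb xb13 yb57 zb34) (kb xb23 yb41 zb31) (kb xb23 yb41 zb0) (kb xb7 yb28 zb47) (kb xb23 yb41 zb36) (kb xb7 yb54 zb26) (kb xb7 yb28 zb49) (kb xb23 yb41 zb45) (kb xb23 yb41 zb46) (kb xb23 yb41 zb22) (kb xb7 yb28 zb52) (kb xb23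 yb41 zb51) (kb xb13 yb57 zb3) (kb xb13 yb57 zb10) (kb xb7 yb28 zb55) (kb xb21 yb19 zb12) (kb xb12 yb48 zb5) (kb xb23 yb40 zb47) (kb xb13 yb59 zb27) (kb xb23 yb41 zb55) (kb xb23 yb40 zb49) (kb xb23 yb41 zb59) (kb xb11 yb6 zb37) (kb xb7 yb28 zb59) (kb xb23 yb41 zb61) (kb xb13 yb58 zb4) (kb xb23 yb42 zb1) (kb xb21 yb14 zb35) (kb xb7 yb29 zb0) (kb xb7 yb29 zb1) (kb xb15 yb6 zb8) (kb xb13 yb58 zb21) (kb xb21 yb3 zb26) (kb xb11 yb18 zb40) (kb xb17 yb55 zb39) (kb xb23 yb42 zb13) (kb xb7 yb29 zb7) (kb xb7 yb29 zb8) (kb xb17 yb55 zb43) (kb xb17 yb55 zb44) (kb xb13 yb58 zb19) (kb xb23 yb2 zb29) (kb xb13 yb58 zb20) (kb xb23 yb42 zb23) (kb xb23 yb42 zb20) (kb xb8 yb32 zb59) (kb xb21 yb34 zb25) (kb xb23 yb42 zb7) (kb xb7 yb29 zb11) (kb xb13 yb58 zb31) (kb xb7 yb29 zb12) (kb xb9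 yb3 zb30) (kb xb11 yb23 zb60)) (@D3.rec (fun _ => Pt) (kb xb23 yb42 zb27) (kb xb7 yb29 zb17) (kb xb7 yb29 zb18) (kb xb7 yb29 zb15) (kb xb10 yb49 zb22) (kb xb7 yb29 zb16) (kb xb12 yb47 zb9) (kb xb23 yb42 zb31) (kb xb23 yb42 zb33) (kb xb12 yb9 zb11) (kb xb20 yb7 zb16) (kb xb13 yb58 zb59) (kb xb21 yb29 zb47) (kb xb7 yb29 zb21) (kb xb7 yb29 zb22) (kb xb21 yb9 zb1) (kb xb7 yb29 zb20) (kb xb11 yb16 zb35) (kb xb23 yb42 zb45) (kb xb13 yb58 zb53) (kb xb23 yb42 zb50) (kb xb22 yb4 zb33) (kb xb13 yb58 zb56) (kb xb14 yb21 zb41) (kb xb23 yb42 zb43) (kb xb13 yb58 zb45) (kb xb22 yb5 zb56) (kb xb7 yb29 zb25) (kb xb7 yb29 zb26) (kb xb7 yb29 zb24) (kb xb19 yb50 zb36) (kb xb21 yb51 zb28) (kb xb15 yb10 zb53) (kb xb23 yb42 zb57) (kb xb13 yb59 zb5) (kb xb23 yb42 zb60) (kb xb23 yb42 zb61)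 (kb xb7 yb29 zb27) (kb xb23 yb43 zb8) (kb xb16 yb2 zb40) (kb xb7 yb29 zb28) (kb xb21 yb29 zb30) (kb xb23 yb43 zb14) (kb xb23 yb43 zb15) (kb xb10 yb9 zb14) (kb xb23 yb43 zb23) (kb xb7 yb29 zb29) (kb xb19 yb1 zb43) (kb xb23 yb43 zb28) (kb xb13 yb47 zb49) (kb xb13 yb59 zb39) (kb xb22 yb30 zb38) (kb xb22 yb45 zb12) (kb xb11 yb3 zb59) (kb xb12 yb48 zb53) (kb xb23 yb43 zb43) (kb xb7 yb29 zb36) (kb xb11 yb4 zb6) (kb xb23 yb43 zb48) (kb xb7 yb29 zb37) (kb xb7 yb29 zb35) (kb xb23 yb43 zb56)) (@D3.rec (fun _ => Pt) (kb xb23 yb43 zb61) (kb xb13 yb59 zb37) (kb xb11 yb3 zb26) (kb xb23 yb43 zb47) (kb xb17 yb48 zb7) (kb xb13 yb59 zb23) (kb xb22 yb45 zb58) (kb xb22 yb45 zb18) (kb xb13 yb59 zb24) (kb xb7 yb29 zb43) (kb xb23 yb44 zb11) (kb xb13 yb57 zb20) (kb xb7 yb29 zb42) (kb xb23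 yb44 zb14) (kb xb13 yb59 zb48) (kb xb12 yb48 zb44) (kb xb23 yb44 zb10) (kb xb22 yb28 zb12) (kb xb13 yb5 zb10) (kb xb7 yb29 zb46) (kb xb10 yb9 zb0) (kb xb23 yb44 zb26) (kb xb13 yb59 zb61) (kb xb22 yb45 zb36) (kb xb21 yb1 zb16) (kb xb7 yb29 zb48) (kb xb10 yb8 zb54) (kb xb14 yb0 zb7) (kb xb23 yb42 zb41) (kb xb8 yb9 zb61) (kb xb7 yb29 zb50) (kb xb23 yb43 zb54) (kb xb7 yb29 zb51) (kb xb18 yb27 zb1) (kb xb16 yb17 zb48) (kb xb23 yb44 zb40) (kb xb21 yb25 zb23) (kb xb14 yb4 zb4) (kb xb14 yb0 zb24) (kb xb13 yb44 zb50) (kb xb7 yb29 zb54) (kb xb15 yb14 zb25) (kb xb23 yb44 zb44) (kb xb13 yb15 zb42) (kb xb22 yb12 zb20) (kb xb13 yb9 zb42) (kb xb13 yb51 zb51) (kb xb23 yb44 zb50) (kb xb21 yb6 zb13) (kb xb14 yb0 zb34) (kb xb23 yb44 zb54) (kb xb7 yb29 zb59) (kb xb23 yb44 zb56) (kb xb7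 yb29 zb60) (kb xb16 yb16 zb60) (kb xb23 yb44 zb60) (kb xb7 yb29 zb61) (kb xb23 yb45 zb4) (kb xb16 yb47 zb45) (kb xb23 yb19 zb59) (kb xb9 yb51 zb40) (kb xb7 yb30 zb1)) (@D3.rec (fun _ => Pt) (kb xb13 yb55 zb8) (kb xb22 yb45 zb42) (kb xb22 yb45 zb15) (kb xb23 yb45 zb11) (kb xb13 yb55 zb10) (kb xb23 yb45 zb15) (kb xb7 yb30 zb8) (kb xb23 yb45 zb20) (kb xb7 yb30 zb10) (kb xb7 yb30 zb7) (kb xb23 yb45 zb24) (kb xb16 yb2 zb44) (kb xb23 yb45 zb19) (kb xb7 yb30 zb14) (kb xb13 yb53 zb52) (kb xb9 yb47 zb35) (kb xb16 yb30 zb14) (kb xb13 yb29 zb57) (kb xb23 yb7 zb2) (kb xb11 yb50 zb35) (kb xb7 yb30 zb18) (kb xb13 yb53 zb55) (kb xb23 yb45 zb33) (kb xb23 yb45 zb34) (kb xb14 yb22 zb43) (kb xb23 yb7 zb5) (kb xb23 yb45 zb42) (kb xb23 yb45 zb45) (kb xb20 yb47 zb46) (kb xb7 yb30 zb26) (kb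 xb23 yb6 zb37) (kb xb7 yb40 zb49) (kb xb7 yb30 zb23) (kb xb23 yb45 zb57) (kb xb7 yb30 zb24) (kb xb23 yb46 zb0) (kb xb23 yb45 zb61) (kb xb23 yb46 zb2) (kb xb7 yb30 zb25) (kb xb23 yb46 zb4) (kb xb21 yb11 zb19) (kb xb13 yb12 zb28) (kb xb7 yb30 zb28) (kb xb23 yb46 zb10) (kb xb23 yb46 zb14) (kb xb7 yb30 zb30) (kb xb23 yb6 zb0) (kb xb7 yb30 zb31) (kb xb13 yb15 zb20) (kb xb7 yb49 zb13) (kb xb21 yb8 zb58) (kb xb7 yb30 zb34) (kb xb23 yb46 zb24) (kb xb19 yb52 zb60) (kb xb17 yb15 zb46) (kb xb20 yb22 zb32) (kb xb23 yb46 zb28) (kb xb7 yb30 zb44) (kb xb23 yb46 zb29) (kb xb22 yb36 zb30) (kb xb7 yb30 zb47) (kb xb23 yb46 zb32)) (@D3.rec (fun _ => Pt) (kb xb23 yb46 zb33) (kb xb13 yb35 zb1) (kb xb13 yb44 zb47) (kb xb23 yb46 zb36) (kb xb13 yb44 zb55) (kb xb23 yb46 zb39) (kb xb7 yb44 zb14)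 (kb xb20 yb31 zb4) (kb xb20 yb31 zb5) (kb xb7 yb44 zb18) (kb xb11 yb35 zb37) (kb xb22 yb47 zb53) (kb xb9 yb31 zb61) (kb xb7 yb30 zb54) (kb xb9 yb49 zb20) (kb xb7 yb30 zb60) (kb xb9 yb11 zb2) (kb xb12 yb14 zb23) (kb xb7 yb30 zb61) (kb xb21 yb35 zb15) (kb xb14 yb6 zb0) (kb xb7 yb31 zb0) (kb xb12 yb5 zb1) (kb xb23 yb46 zb57) (kb xb21 yb31 zb20) (kb xb7 yb31 zb2) (kb xb17 yb7 zb46) (kb xb21 yb35 zb0) (kb xb9 yb19 zb58) (kb xb12 yb39 zb11) (kb xb9 yb19 zb53) (kb xb7 yb32 zb46) (kb xb7 yb31 zb8) (kb xb10 yb27 zb5) (kb xb23 yb47 zb1) (kb xb7 yb31 zb9) (kb xb20 yb17 zb33) (kb xb12 yb36 zb13) (kb xb12 yb15 zb53) (kb xb20 yb19 zb42) (kb xb11 yb41 zb48) (kb xb7 yb41 zb31) (kb xb7 yb31 zb16) (kb xb13 yb19 zb2) (kb xb23 yb47 zb15) (kb xb7 yb31 zb17) (kb xb23 yb47 zb16) (kb xb14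 yb44 zb34) (kb xb21 yb35 zb25) (kb xb7 yb31 zb26) (kb xb12 yb35 zb7) (kb xb18 yb57 zb29) (kb xb12 yb16 zb50) (kb xb7 yb31 zb32) (kb xb7 yb31 zb30) (kb xb23 yb47 zb18) (kb xb21 yb59 zb16) (kb xb7 yb31 zb38) (kb xb14 yb12 zb32) (kb xb11 yb36 zb28) (kb xb12 yb33 zb33) (kb xb15 yb48 zb12)) (@D3.rec (fun _ => Pt) (kb xb21 yb7 zb34) (kb xb21 yb41 zb37) (kb xb21 yb41 zb38) (kb xb21 yb41 zb39) (kb xb7 yb31 zb43) (kb xb9 yb22 zb16) (kb xb15 yb48 zb13) (kb xb23 yb47 zb26) (kb xb23 yb47 zb30) (kb xb7 yb31 zb46) (kb xb23 yb47 zb34) (kb xb7 yb31 zb47) (kb xb16 yb16 zb34) (kb xb16 yb14 zb54) (kb xb7 yb31 zb48) (kb xb9 yb32 zb48) (kb xb12 yb58 zb23) (kb xb22 yb2 zb30) (kb xb9 yb10 zb43) (kb xb9 yb48 zb34) (kb xb7 yb31 zb52) (kb xb8 yb40 zb34) (kb xb9 yb57 zb59) (kb xb10 yb2 zb48)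 (kb xb23 yb5 zb50) (kb xb12 yb36 zb53) (kb xb12 yb42 zb13) (kb xb23 yb27 zb18) (kb xb13 yb6 zb38) (kb xb12 yb15 zb3) (kb xb17 yb17 zb1) (kb xb12 yb1 zb30) (kb xb14 yb11 zb58) (kb xb7 yb32 zb7) (kb xb7 yb32 zb3) (kb xb13 yb50 zb23) (kb xb23 yb47 zb45) (kb xb23 yb47 zb46) (kb xb23 yb27 zb21) (kb xb23 yb27 zb22) (kb xb16 yb32 zb38) (kb xb20 yb41 zb7) (kb xb23 yb40 zb53) (kb xb14 yb17 zb43) (kb xb18 yb48 zb46) (kb xb7 yb32 zb10) (kb xb13 yb5 zb31) (kb xb13 yb3 zb52) (kb xb22 yb33 zb10) (kb xb22 yb33 zb11) (kb xb9 yb21 zb51) (kb xb9 yb47 zb61) (kb xb9 yb24 zb29) (kb xb10 yb6 zb41) (kb xb16 yb57 zb61) (kb xb7 yb32 zb21) (kb xb7 yb32 zb22) (kb xb13 yb2 zb59) (kb xb22 yb38 zb26) (kb xb14 yb51 zb61) (kb xb13 yb5 zb19) (kb xb22 yb26 zb22)) (@D3.rec (fun _ => Pt) (kb xb23 yb48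 zb18) (kb xb7 yb32 zb25) (kb xb12 yb28 zb35) (kb xb12 yb28 zb36) (kb xb20 yb42 zb42) (kb xb20 yb42 zb43) (kb xb17 yb10 zb53) (kb xb20 yb42 zb44) (kb xb23 yb48 zb30) (kb xb23 yb48 zb6) (kb xb7 yb32 zb23) (kb xb22 yb25 zb54) (kb xb7 yb32 zb24) (kb xb23 yb48 zb41) (kb xb23 yb48 zb21) (kb xb13 yb5 zb12) (kb xb11 yb30 zb11) (kb xb13 yb5 zb15) (kb xb22 yb33 zb9) (kb xb7 yb32 zb30) (kb xb7 yb32 zb31) (kb xb22 yb34 zb9) (kb xb22 yb34 zb11) (kb xb17 yb17 zb28) (kb xb23 yb48 zb53) (kb xb7 yb32 zb32) (kb xb17 yb45 zb39) (kb xb7 yb32 zb38) (kb xb14 yb43 zb17) (kb xb22 yb20 zb1) (kb xb7 yb33 zb7) (kb xb13 yb3 zb1) (kb xb7 yb32 zb40) (kb xb7 yb32 zb41) (kb xb23 yb49 zb1) (kb xb23 yb49 zb3) (kb xb7 yb32 zb42) (kb xb7 yb32 zb43) (kb xb10 yb8 zb36) (kb xb13 yb6 zb42) (kb xb11 yb48 zb15)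 (kb xb20 yb44 zb52) (kb xb7 yb32 zb48) (kb xb7 yb32 zb49) (kb xb20 yb49 zb21) (kb xb23 yb49 zb16) (kb xb23 yb49 zb14) (kb xb13 yb0 zb48) (kb xb22 yb33 zb28) (kb xb9 yb23 zb42) (kb xb12 yb30 zb18) (kb xb20 yb22 zb39) (kb xb10 yb42 zb36) (kb xb7 yb32 zb55) (kb xb7 yb32 zb56) (kb xb12 yb15 zb39) (kb xb7 yb32 zb54) (kb xb23 yb49 zb31) (kb xb17 yb21 zb25) (kb xb17 yb28 zb28) (kb xb19 yb52 zb1) (kb xb23 yb49 zb34)) (@D3.rec (fun _ => Pt) (kb xb23 yb49 zb27) (kb xb17 yb19 zb21) (kb xb13 yb6 zb44) (kb xb7 yb32 zb59) (kb xb7 yb32 zb60) (kb xb7 yb32 zb58) (kb xb23 yb49 zb44) (kb xb14 yb36 zb34) (kb xb23 yb7 zb7) (kb xb17 yb19 zb24) (kb xb23 yb49 zb54) (kb xb23 yb49 zb41) (kb xb23 yb49 zb42) (kb xb21 yb40 zb32) (kb xb15 yb5 zb35) (kb xb21 yb40 zb30) (kb xb21 yb51 zb21) (kb xb7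 yb33 zb1) (kb xb7 yb33 zb0) (kb xb23 yb50 zb3) (kb xb9 yb10 zb3) (kb xb17 yb54 zb16) (kb xb23 yb50 zb2) (kb xb7 yb33 zb3) (kb xb23 yb50 zb10) (kb xb23 yb50 zb8) (kb xb23 yb50 zb9) (kb xb7 yb33 zb4) (kb xb16 yb15 zb61) (kb xb23 yb50 zb16) (kb xb21 yb4 zb40) (kb xb23 yb50 zb21) (kb xb18 yb6 zb17) (kb xb13 yb37 zb59) (kb xb18 yb52 zb0) (kb xb13 yb6 zb47) (kb xb13 yb6 zb48) (kb xb19 yb21 zb11) (kb xb23 yb23 zb49) (kb xb23 yb50 zb33) (kb xb7 yb33 zb13) (kb xb23 yb48 zb50) (kb xb22 yb21 zb22) (kb xb7 yb33 zb12) (kb xb23 yb50 zb45) (kb xb23 yb50 zb47) (kb xb9 yb52 zb23) (kb xb23 yb50 zb38) (kb xb18 yb55 zb21) (kb xb22 yb34 zb47) (kb xb22 yb34 zb48) (kb xb23 yb50 zb54) (kb xb7 yb33 zb19) (kb xb7 yb51 zb9) (kb xb20 yb27 zb27) (kb xb7 yb33 zb18) (kb xb23 yb51 zb2) (kb xb23 yb49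 zb4) (kb xb23 yb51 zb9) (kb xb22 yb27 zb24) (kb xb23 yb50 zb59) (kb xb17 yb24 zb47)) (@D3.rec (fun _ => Pt) (kb xb13 yb6 zb49) (kb xb23 yb51 zb16) (kb xb7 yb33 zb23) (kb xb7 yb33 zb24) (kb xb7 yb33 zb22) (kb xb23 yb51 zb24) (kb xb23 yb51 zb29) (kb xb10 yb8 zb16) (kb xb23 yb51 zb19) (kb xb23 yb51 zb20) (kb xb23 yb51 zb38) (kb xb7 yb33 zb28) (kb xb7 yb33 zb26) (kb xb23 yb51 zb46) (kb xb18 yb55 zb60) (kb xb23 yb51 zb42) (kb xb23 yb51 zb43) (kb xb7 yb33 zb29) (kb xb22 yb18 zb23) (kb xb7 yb33 zb30) (kb xb7 yb33 zb32) (kb xb9 yb53 zb47) (kb xb7 yb33 zb34) (kb xb22 yb12 zb18) (kb xb23 yb51 zb57) (kb xb23 yb51 zb58) (kb xb23 yb51 zb60) (kb xb13 yb4 zb52) (kb xb7 yb33 zb38) (kb xb23 yb41 zb9) (kb xb23 yb20 zb22) (kb xb7 yb33 zb37) (kb xb7 yb55 zb15) (kb xb23 yb52 zb9) (kb xb23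 yb52 zb13) (kb xb22 yb18 zb57) (kb xb7 yb33 zb39) (kb xb7 yb33 zb41) (kb xb23 yb52 zb18) (kb xb13 yb3 zb16) (kb xb13 yb45 zb10) (kb xb23 yb13 zb43) (kb xb23 yb13 zb44) (kb xb13 yb34 zb20) (kb xb22 yb34 zb0) (kb xb22 yb34 zb1) (kb xb23 yb46 zb18) (kb xb22 yb34 zb3) (kb xb23 yb52 zb30) (kb xb9 yb14 zb60) (kb xb23 yb52 zb33) (kb xb7 yb33 zb52) (kb xb8 yb50 zb27) (kb xb9 yb47 zb49) (kb xb21 yb51 zb18) (kb xb9 yb47 zb53) (kb xb21 yb18 zb35) (kb xb11 yb36 zb5) (kb xb7 yb33 zb60) (kb xb22 yb33 zb8) (kb xb22 yb12 zb29) (kb xb7 yb34 zb0)) (@D3.rec (fun _ => Pt) (kb xb7 yb34 zb1) (kb xb21 yb16 zb26) (kb xb23 yb52 zb39) (kb xb17 yb17 zb20) (kb xb17 yb17 zb23) (kb xb23 yb52 zb53) (kb xb23 yb52 zb45) (kb xb23 yb52 zb57) (kb xb7 yb34 zb6) (kb xb9 yb23 zb14) (kb xb21 yb59 zb46) (kb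 xb20 yb48 zb47) (kb xb17 yb32 zb2) (kb xb14 yb26 zb48) (kb xb17 yb26 zb42) (kb xb7 yb34 zb9) (kb xb9 yb23 zb24) (kb xb23 yb53 zb7) (kb xb22 yb7 zb55) (kb xb13 yb5 zb47) (kb xb13 yb5 zb48) (kb xb23 yb53 zb16) (kb xb13 yb5 zb50) (kb xb23 yb11 zb47) (kb xb7 yb34 zb31) (kb xb7 yb34 zb14) (kb xb7 yb34 zb15) (kb xb23 yb53 zb26) (kb xb23 yb53 zb22) (kb xb23 yb53 zb31) (kb xb13 yb5 zb60) (kb xb7 yb34 zb18) (kb xb23 yb53 zb38) (kb xb23 yb53 zb35) (kb xb23 yb53 zb43) (kb xb13 yb6 zb4) (kb xb10 yb54 zb3) (kb xb23 yb50 zb49) (kb xb23 yb11 zb46) (kb xb13 yb3 zb10) (kb xb21 yb44 zb18) (kb xb7 yb34 zb23) (kb xb9 yb20 zb33) (kb xb22 yb6 zb57) (kb xb20 yb11 zb42) (kb xb23 yb53 zb56) (kb xb18 yb24 zb30) (kb xb15 yb26 zb14) (kb xb12 yb45 zb60) (kb xb20 yb23 zb37) (kb xb10 yb13 zb46) (kb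 xb7 yb34 zb27) (kb xb7 yb34 zb28) (kb xb7 yb34 zb26) (kb xb23 yb54 zb4) (kb xb23 yb54 zb5) (kb xb23 yb54 zb9) (kb xb20 yb46 zb6) (kb xb23 yb54 zb3) (kb xb21 yb44 zb25) (kb xb7 yb34 zb29) (kb xb23 yb54 zb14)) (@D3.rec (fun _ => Pt) (kb xb23 yb54 zb15) (kb xb7 yb34 zb30) (kb xb23 yb54 zb20) (kb xb22 yb31 zb0) (kb xb14 yb25 zb48) (kb xb23 yb54 zb26) (kb xb22 yb33 zb44) (kb xb7 yb34 zb35) (kb xb23 yb54 zb36) (kb xb15 yb52 zb2) (kb xb23 yb53 zb29) (kb xb23 yb54 zb35) (kb xb13 yb38 zb0) (kb xb23 yb33 zb30) (kb xb22 yb27 zb33) (kb xb19 yb20 zb35) (kb xb22 yb49 zb10) (kb xb23 yb33 zb32) (kb xb22 yb31 zb3) (kb xb7 yb34 zb40) (kb xb23 yb54 zb54) (kb xb21 yb54 zb13) (kb xb23 yb54 zb53) (kb xb22 yb33 zb50) (kb xb22 yb33 zb55) (kb xb23 yb54 zb60) (kb xb23 yb53 zb42) (kb xb16 yb51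 zb61) (kb xb22 yb33 zb54) (kb xb22 yb33 zb51) (kb xb7 yb34 zb44) (kb xb19 yb30 zb39) (kb xb15 yb46 zb55) (kb xb20 yb36 zb28) (kb xb23 yb55 zb7) (kb xb7 yb34 zb45) (kb xb13 yb15 zb51) (kb xb23 yb55 zb16) (kb xb23 yb55 zb18) (kb xb7 yb34 zb47) (kb xb7 yb34 zb49) (kb xb17 yb25 zb23) (kb xb23 yb24 zb4) (kb xb14 yb12 zb43) (kb xb12 yb38 zb55) (kb xb7 yb53 zb8) (kb xb7 yb34 zb59) (kb xb7 yb34 zb60) (kb xb7 yb34 zb54) (kb xb7 yb34 zb57) (kb xb23 yb55 zb28) (kb xb23 yb55 zb29) (kb xb7 yb34 zb58) (kb xb23 yb55 zb36) (kb xb23 yb55 zb37) (kb xb23 yb55 zb42) (kb xb19 yb37 zb24) (kb xb16 yb44 zb32) (kb xb7 yb35 zb0) (kb xb23 yb55 zb45) (kb xb7 yb35 zb1) (kb xb23 yb55 zb47)) (@D3.rec (fun _ => Pt) (kb xb7 yb35 zb2) (kb xb23 yb55 zb53) (kb xb7 yb35 zb5) (kb xb23 yb55 zb58) (kb xb23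 yb55 zb57) (kb xb7 yb35 zb6) (kb xb13 yb8 zb6) (kb xb7 yb35 zb8) (kb xb23 yb56 zb3) (kb xb23 yb56 zb6) (kb xb7 yb35 zb10) (kb xb23 yb56 zb9) (kb xb23 yb56 zb10) (kb xb18 yb25 zb12) (kb xb18 yb25 zb13) (kb xb21 yb44 zb24) (kb xb17 yb32 zb39) (kb xb12 yb4 zb31) (kb xb14 yb19 zb43) (kb xb7 yb40 zb3) (kb xb7 yb35 zb15) (kb xb13 yb31 zb50) (kb xb7 yb35 zb17) (kb xb8 yb47 zb45) (kb xb20 yb19 zb61) (kb xb7 yb35 zb18) (kb xb20 yb35 zb10) (kb xb7 yb35 zb19) (kb xb23 yb56 zb28) (kb xb14 yb51 zb22) (kb xb7 yb35 zb20) (kb xb7 yb35 zb22) (kb xb23 yb56 zb31) (kb xb13 yb9 zb48) (kb xb7 yb42 zb45) (kb xb20 yb28 zb52) (kb xb7 yb41 zb0) (kb xb7 yb41 zb1) (kb xb7 yb35 zb25) (kb xb16 yb59 zb8) (kb xb23 yb12 zb58) (kb xb11 yb32 zb2) (kb xb23 yb12 zb59) (kb xb20 yb41 zb35) (kb xb13 yb10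 zb36) (kb xb13 yb10 zb37) (kb xb7 yb35 zb30) (kb xb23 yb56 zb42) (kb xb20 yb33 zb44) (kb xb9 yb25 zb52) (kb xb23 yb56 zb46) (kb xb23 yb56 zb48) (kb xb20 yb26 zb59) (kb xb7 yb35 zb33) (kb xb7 yb40 zb46) (kb xb7 yb40 zb47) (kb xb13 yb10 zb30) (kb xb7 yb35 zb38) (kb xb7 yb49 zb22) (kb xb23 yb56 zb52) (kb xb7 yb42 zb1) (kb xb12 yb1 zb35)) (@D3.rec (fun _ => Pt) (kb xb7 yb35 zb47) (kb xb7 yb35 zb48) (kb xb7 yb41 zb17) (kb xb21 yb40 zb11) (kb xb7 yb35 zb43) (kb xb7 yb49 zb24) (kb xb11 yb37 zb28) (kb xb23 yb56 zb60) (kb xb21 yb40 zb14) (kb xb16 yb30 zb10) (kb xb15 yb31 zb56) (kb xb7 yb35 zb45) (kb xb23 yb57 zb9) (kb xb23 yb57 zb10) (kb xb13 yb10 zb18) (kb xb23 yb57 zb15) (kb xb9 yb26 zb14) (kb xb23 yb56 zb56) (kb xb7 yb35 zb49) (kb xb22 yb22 zb60) (kb xb7 yb37 zb24) (kb xb13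 yb30 zb19) (kb xb7 yb35 zb56) (kb xb7 yb40 zb60) (kb xb13 yb10 zb31) (kb xb7 yb35 zb57) (kb xb7 yb35 zb58) (kb xb13 yb8 zb5) (kb xb22 yb19 zb52) (kb xb14 yb52 zb37) (kb xb23 yb57 zb20) (kb xb18 yb42 zb4) (kb xb7 yb42 zb51) (kb xb23 yb57 zb31) (kb xb19 yb29 zb22) (kb xb7 yb42 zb41) (kb xb7 yb36 zb1) (kb xb13 yb9 zb52) (kb xb7 yb42 zb0) (kb xb7 yb36 zb2) (kb xb7 yb36 zb3) (kb xb7 yb38 zb8) (kb xb14 yb22 zb39) (kb xb14 yb18 zb18) (kb xb7 yb37 zb30) (kb xb23 yb57 zb35) (kb xb23 yb57 zb36) (kb xb7 yb37 zb34) (kb xb23 yb57 zb51) (kb xb23 yb57 zb42) (kb xb7 yb57 zb13) (kb xb20 yb45 zb59) (kb xb23 yb57 zb54) (kb xb7 yb42 zb55) (kb xb7 yb42 zb56) (kb xb7 yb36 zb6) (kb xb13 yb29 zb60) (kb xb23 yb57 zb57) (kb xb7 yb36 zb7) (kb xb23 yb57 zb59) (kb xb23 yb57 zb60) (kb xb9 yb48 zb39))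 (@D3.rec (fun _ => Pt) (kb xb7 yb43 zb2) (kb xb11 yb30 zb55) (kb xb7 yb36 zb12) (kb xb7 yb36 zb11) (kb xb18 yb23 zb28) (kb xb7 yb43 zb5) (kb xb23 yb58 zb1) (kb xb23 yb58 zb2) (kb xb7 yb36 zb15) (kb xb23 yb58 zb5) (kb xb12 yb23 zb42) (kb xb9 yb12 zb24) (kb xb20 yb21 zb60) (kb xb16 yb29 zb11) (kb xb17 yb5 zb50) (kb xb7 yb36 zb20) (kb xb10 yb57 zb1) (kb xb23 yb58 zb8) (kb xb7 yb36 zb21) (kb xb17 yb22 zb46) (kb xb23 yb52 zb60) (kb xb23 yb58 zb11) (kb xb19 yb52 zb9) (kb xb23 yb58 zb13) (kb xb7 yb36 zb46) (kb xb7 yb36 zb53) (kb xb13 yb30 zb27) (kb xb7 yb36 zb26) (kb xb7 yb36 zb27) (kb xb13 yb12 zb32) (kb xb22 yb19 zb54) (kb xb23 yb58 zb21) (kb xb23 yb58 zb22) (kb xb7 yb36 zb47) (kb xb14 yb54 zb10) (kb xb7 yb36 zb30) (kb xb14 yb24 zb29) (kb xb7 yb36 zb31) (kb xb11 yb41 zb58)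 (kb xb23 yb58 zb27) (kb xb7 yb36 zb32) (kb xb23 yb58 zb32) (kb xb23 yb58 zb31) (kb xb9 yb14 zb45) (kb xb20 yb43 zb23) (kb xb7 yb36 zb33) (kb xb7 yb36 zb38) (kb xb17 yb33 zb29) (kb xb11 yb58 zb51) (kb xb11 yb2 zb39) (kb xb18 yb56 zb24) (kb xb20 yb33 zb20) (kb xb12 yb57 zb53) (kb xb21 yb3 zb60) (kb xb7 yb44 zb56) (kb xb7 yb36 zb41) (kb xb7 yb36 zb40) (kb xb23 yb58 zb48) (kb xb21 yb22 zb5) (kb xb23 yb58 zb52) (kb xb14 yb36 zb15) (kb xb11 yb45 zb38)) (@D3.rec (fun _ => Pt) (kb xb21 yb22 zb12) (kb xb17 yb13 zb47) (kb xb19 yb23 zb35) (kb xb19 yb23 zb37) (kb xb10 yb35 zb56) (kb xb7 yb36 zb44) (kb xb23 yb59 zb2) (kb xb23 yb59 zb1) (kb xb23 yb59 zb6) (kb xb23 yb59 zb9) (kb xb7 yb36 zb45) (kb xb23 yb59 zb14) (kb xb23 yb59 zb15) (kb xb20 yb25 zb30) (kb xb23 yb58 zb23) (kb xb7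 yb45 zb33) (kb xb23 yb57 zb39) (kb xb16 yb47 zb55) (kb xb19 yb51 zb45) (kb xb18 yb2 zb44) (kb xb23 yb59 zb20) (kb xb19 yb50 zb19) (kb xb7 yb54 zb0) (kb xb23 yb58 zb14) (kb xb7 yb46 zb0) (kb xb23 yb58 zb17) (kb xb13 yb4 zb34) (kb xb23 yb35 zb34) (kb xb7 yb36 zb57) (kb xb23 yb59 zb22) (kb xb13 yb2 zb20) (kb xb7 yb37 zb1) (kb xb7 yb37 zb0) (kb xb23 yb59 zb25) (kb xb23 yb58 zb33) (kb xb23 yb59 zb32) (kb xb23 yb59 zb24) (kb xb7 yb37 zb2) (kb xb18 yb17 zb53) (kb xb7 yb37 zb3) (kb xb23 yb59 zb39) (kb xb14 yb8 zb23) (kb xb15 yb29 zb44) (kb xb7 yb46 zb34) (kb xb10 yb31 zb8) (kb xb10 yb36 zb30) (kb xb7 yb37 zb6) (kb xb7 yb53 zb31) (kb xb7 yb47 zb11) (kb xb7 yb37 zb8) (kb xb23 yb59 zb47) (kb xb7 yb37 zb9) (kb xb21 yb54 zb11) (kb xb7 yb47 zb18) (kb xb12 yb25 zb28) (kb xb7 yb53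 zb35) (kb xb23 yb59 zb55) (kb xb7 yb37 zb15) (kb xb7 yb37 zb12) (kb xb23 yb59 zb60) (kb xb7 yb37 zb13) (kb xb24 yb0 zb4)) (@D3.rec (fun _ => Pt) (kb xb7 yb37 zb14) (kb xb24 yb0 zb9) (kb xb24 yb0 zb10) (kb xb24 yb0 zb12) (kb xb11 yb0 zb16) (kb xb7 yb47 zb52) (kb xb7 yb37 zb17) (kb xb17 yb0 zb47) (kb xb7 yb48 zb6) (kb xb7 yb48 zb7) (kb xb10 yb31 zb53) (kb xb10 yb41 zb40) (kb xb24 yb0 zb20) (kb xb7 yb37 zb23) (kb xb7 yb37 zb21) (kb xb24 yb0 zb24) (kb xb10 yb41 zb14) (kb xb10 yb31 zb55) (kb xb10 yb32 zb12) (kb xb10 yb32 zb5) (kb xb23 yb57 zb19) (kb xb23 yb36 zb11) (kb xb7 yb40 zb50) (kb xb7 yb37 zb26) (kb xb24 yb0 zb33) (kb xb22 yb57 zb6) (kb xb7 yb45 zb40) (kb xb16 yb30 zb11) (kb xb22 yb57 zb10) (kb xb7 yb42 zb24) (kb xb7 yb42 zb28) (kb xb20 yb33 zb33) (kb xb20 yb43 zb35)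 (kb xb9 yb26 zb60) (kb xb15 yb41 zb5) (kb xb7 yb42 zb32) (kb xb24 yb0 zb44) (kb xb23 yb52 zb2) (kb xb12 yb33 zb36) (kb xb14 yb19 zb42) (kb xb21 yb5 zb53) (kb xb23 yb24 zb3) (kb xb13 yb12 zb27) (kb xb14 yb10 zb24) (kb xb13 yb8 zb61) (kb xb13 yb7 zb41) (kb xb13 yb14 zb3) (kb xb22 yb19 zb3) (kb xb22 yb19 zb4) (kb xb13 yb41 zb51) (kb xb23 yb24 zb7) (kb xb24 yb1 zb1) (kb xb14 yb41 zb2) (kb xb24 yb1 zb5) (kb xb7 yb37 zb53) (kb xb7 yb37 zb51) (kb xb24 yb1 zb8) (kb xb7 yb37 zb52) (kb xb24 yb1 zb14) (kb xb24 yb1 zb6) (kb xb13 yb8 zb3) (kb xb22 yb50 zb45)) (@D3.rec (fun _ => Pt) (kb xb7 yb53 zb27) (kb xb13 yb7 zb57) (kb xb19 yb7 zb23) (kb xb24 yb1 zb26) (kb xb7 yb37 zb60) (kb xb7 yb42 zb3) (kb xb7 yb38 zb1) (kb xb22 yb41 zb23) (kb xb20 yb35 zb30) (kb xb7 yb38 zb2) (kb xb22 yb20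 zb8) (kb xb13 yb12 zb39) (kb xb7 yb38 zb4) (kb xb24 yb1 zb35) (kb xb20 yb33 zb52) (kb xb7 yb38 zb9) (kb xb23 yb57 zb43) (kb xb7 yb38 zb42) (kb xb9 yb33 zb26) (kb xb7 yb38 zb38) (kb xb7 yb42 zb5) (kb xb7 yb38 zb13) (kb xb7 yb38 zb14) (kb xb22 yb19 zb61) (kb xb18 yb52 zb38) (kb xb24 yb1 zb44) (kb xb24 yb1 zb46) (kb xb24 yb1 zb47) (kb xb13 yb9 zb2) (kb xb21 yb41 zb28) (kb xb9 yb22 zb17) (kb xb22 yb15 zb55) (kb xb7 yb38 zb20) (kb xb7 yb38 zb21) (kb xb7 yb38 zb18) (kb xb24 yb2 zb1) (kb xb24 yb2 zb2) (kb xb9 yb21 zb26) (kb xb9 yb21 zb27) (kb xb24 yb2 zb7) (kb xb9 yb21 zb29) (kb xb24 yb2 zb12) (kb xb24 yb2 zb0) (kb xb12 yb24 zb0) (kb xb11 yb29 zb19) (kb xb9 yb16 zb14) (kb xb7 yb38 zb24) (kb xb7 yb38 zb25) (kb xb11 yb35 zb20) (kb xb15 yb27 zb1) (kb xb13 yb9 zb3) (kb xb10 yb14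 zb6) (kb xb7 yb38 zb28) (kb xb7 yb38 zb27) (kb xb24 yb2 zb27) (kb xb10 yb14 zb5) (kb xb24 yb2 zb31) (kb xb9 yb24 zb9) (kb xb24 yb2 zb36) (kb xb24 yb2 zb25) (kb xb9 yb16 zb57) (kb xb10 yb27 zb33)) (@D3.rec (fun _ => Pt) (kb xb11 yb30 zb8) (kb xb23 yb55 zb34) (kb xb15 yb30 zb43) (kb xb7 yb38 zb32) (kb xb7 yb38 zb33) (kb xb7 yb38 zb31) (kb xb21 yb20 zb55) (kb xb21 yb35 zb23) (kb xb24 yb2 zb58) (kb xb24 yb2 zb48) (kb xb21 yb35 zb28) (kb xb24 yb2 zb51) (kb xb24 yb2 zb52) (kb xb7 yb38 zb34) (kb xb24 yb3 zb3) (kb xb20 yb58 zb7) (kb xb7 yb38 zb35) (kb xb24 yb3 zb8) (kb xb24 yb3 zb7) (kb xb24 yb3 zb11) (kb xb24 yb3 zb13) (kb xb19 yb35 zb33) (kb xb13 yb39 zb41) (kb xb19 yb29 zb51) (kb xb13 yb9 zb5) (kb xb24 yb1 zb43) (kb xb24 yb3 zb24) (kb xb24 yb3 zb27) (kb xb7 yb38 zb44) (kb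 xb14 yb20 zb36) (kb xb13 yb53 zb40) (kb xb15 yb32 zb34) (kb xb15 yb55 zb23) (kb xb7 yb38 zb43) (kb xb24 yb3 zb34) (kb xb19 yb41 zb33) (kb xb24 yb3 zb32) (kb xb13 yb53 zb61) (kb xb19 yb30 zb9) (kb xb7 yb50 zb22) (kb xb22 yb56 zb22) (kb xb24 yb3 zb45) (kb xb7 yb49 zb31) (kb xb7 yb49 zb32) (kb xb7 yb51 zb8) (kb xb24 yb1 zb37) (kb xb24 yb3 zb54) (kb xb7 yb38 zb51) (kb xb7 yb38 zb52) (kb xb7 yb38 zb50) (kb xb24 yb4 zb2) (kb xb19 yb28 zb24) (kb xb24 yb4 zb6) (kb xb24 yb3 zb59) (kb xb24 yb3 zb60) (kb xb24 yb4 zb10) (kb xb13 yb9 zb6) (kb xb24 yb4 zb14) (kb xb7 yb38 zb55) (kb xb7 yb38 zb54) (kb xb24 yb4 zb22) (kb xb20 yb52 zb53)) (@D3.rec (fun _ => Pt) (kb xb19 yb29 zb7) (kb xb24 yb4 zb19) (kb xb23 yb55 zb51) (kb xb24 yb4 zb32) (kb xb7 yb38 zb58) (kb xb7 yb38 zb57) (kb xb24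 yb4 zb40) (kb xb15 yb55 zb11) (kb xb19 yb23 zb59) (kb xb24 yb4 zb37) (kb xb20 yb30 zb35) (kb xb16 yb52 zb49) (kb xb24 yb4 zb51) (kb xb7 yb39 zb3) (kb xb7 yb39 zb1) (kb xb24 yb4 zb55) (kb xb24 yb4 zb54) (kb xb7 yb39 zb2) (kb xb24 yb5 zb0) (kb xb24 yb5 zb3) (kb xb19 yb28 zb4) (kb xb24 yb4 zb53) (kb xb7 yb39 zb4) (kb xb24 yb5 zb8) (kb xb7 yb39 zb6) (kb xb22 yb3 zb26) (kb xb24 yb5 zb14) (kb xb24 yb5 zb18) (kb xb13 yb46 zb10) (kb xb13 yb46 zb11) (kb xb24 yb5 zb24) (kb xb15 yb7 zb13) (kb xb17 yb55 zb7) (kb xb13 yb30 zb1) (kb xb8 yb5 zb7) (kb xb7 yb39 zb18) (kb xb22 yb47 zb28) (kb xb20 yb28 zb47) (kb xb22 yb57 zb60) (kb xb24 yb5 zb31) (kb xb23 yb6 zb1) (kb xb24 yb5 zb35) (kb xb24 yb5 zb37) (kb xb7 yb39 zb20) (kb xb18 yb22 zb2) (kb xb7 yb39 zb21) (kb xb22 yb32 zb18) (kb xb22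 yb16 zb61) (kb xb14 yb17 zb4) (kb xb7 yb47 zb10) (kb xb10 yb41 zb41) (kb xb7 yb39 zb25) (kb xb17 yb28 zb34) (kb xb22 yb23 zb19) (kb xb22 yb0 zb0) (kb xb21 yb40 zb27) (kb xb24 yb5 zb54) (kb xb13 yb7 zb40) (kb xb9 yb16 zb10) (kb xb7 yb53 zb19) (kb xb20 yb34 zb20) (kb xb9 yb21 zb18)) (@D3.rec (fun _ => Pt) (kb xb9 yb17 zb32) (kb xb7 yb39 zb31) (kb xb24 yb5 zb61) (kb xb7 yb53 zb24) (kb xb22 yb58 zb37) (kb xb24 yb6 zb5) (kb xb13 yb16 zb37) (kb xb11 yb41 zb51) (kb xb11 yb42 zb40) (kb xb21 yb49 zb40) (kb xb20 yb31 zb11) (kb xb9 yb17 zb12) (kb xb21 yb49 zb41) (kb xb21 yb49 zb42) (kb xb7 yb39 zb41) (kb xb10 yb27 zb30) (kb xb24 yb6 zb13) (kb xb20 yb26 zb54) (kb xb13 yb8 zb19) (kb xb11 yb40 zb56) (kb xb24 yb6 zb20) (kb xb13 yb8 zb21) (kb xb17 yb32 zb17) (kb xb7 yb40 zb2) (kb xb7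 yb40 zb7) (kb xb7 yb39 zb46) (kb xb22 yb56 zb16) (kb xb23 yb54 zb61) (kb xb24 yb6 zb29) (kb xb24 yb6 zb37) (kb xb13 yb8 zb31) (kb xb7 yb39 zb49) (kb xb13 yb34 zb50) (kb xb24 yb6 zb42) (kb xb24 yb6 zb43) (kb xb22 yb6 zb36) (kb xb13 yb8 zb37) (kb xb22 yb51 zb9) (kb xb24 yb6 zb51) (kb xb7 yb39 zb51) (kb xb24 yb6 zb56) (kb xb24 yb6 zb57) (kb xb23 yb56 zb8) (kb xb7 yb39 zb55) (kb xb7 yb39 zb56) (kb xb18 yb24 zb39) (kb xb18 yb24 zb40) (kb xb9 yb27 zb35) (kb xb14 yb16 zb13) (kb xb24 yb7 zb16) (kb xb24 yb7 zb3) (kb xb24 yb6 zb17) (kb xb24 yb7 zb6) (kb xb18 yb35 zb57) (kb xb9 yb10 zb17) (kb xb24 yb7 zb23) (kb xb7 yb39 zb59) (kb xb7 yb39 zb60) (kb xb7 yb39 zb58) (kb xb24 yb7 zb31) (kb xb12 yb41 zb2) (kb xb24 yb7 zb34)) (@D3.rec (fun _ => Pt) (kb xb24 yb7 zb28) (kb xb23 yb55 zb22)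 (kb xb24 yb7 zb29) (kb xb24 yb7 zb30) (kb xb7 yb39 zb61) (kb xb24 yb7 zb39) (kb xb24 yb7 zb38) (kb xb7 yb40 zb0) (kb xb22 yb54 zb37) (kb xb20 yb36 zb37) (kb xb15 yb41 zb2) (kb xb24 yb7 zb49) (kb xb7 yb40 zb1) (kb xb24 yb7 zb53) (kb xb24 yb7 zb54) (kb xb16 yb44 zb31) (kb xb23 yb56 zb21) (kb xb13 yb4 zb10) (kb xb19 yb3 zb15) (kb xb7 yb40 zb6) (kb xb24 yb8 zb1) (kb xb24 yb8 zb3) (kb xb11 yb32 zb40) (kb xb24 yb8 zb8) (kb xb24 yb6 zb35) (kb xb24 yb8 zb0) (kb xb12 yb8 zb25) (kb xb24 yb6 zb25) (kb xb11 yb36 zb36) (kb xb14 yb42 zb46) (kb xb19 yb9 zb54) (kb xb24 yb6 zb26) (kb xb7 yb40 zb12) (kb xb24 yb8 zb19) (kb xb23 yb36 zb30) (kb xb22 yb55 zb55) (kb xb24 yb6 zb39) (kb xb21 yb20 zb32) (kb xb24 yb8 zb18) (kb xb20 yb37 zb11) (kb xb7 yb40 zb15) (kb xb7 yb40 zb16) (kb xb15 yb18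 zb15) (kb xb24 yb8 zb31) (kb xb24 yb6 zb47) (kb xb24 yb8 zb26) (kb xb24 yb8 zb27) (kb xb22 yb18 zb8) (kb xb7 yb40 zb19) (kb xb21 yb39 zb42) (kb xb23 yb4 zb28) (kb xb18 yb48 zb17) (kb xb20 yb37 zb4) (kb xb7 yb40 zb20) (kb xb24 yb8 zb43) (kb xb22 yb10 zb56) (kb xb7 yb40 zb21) (kb xb24 yb8 zb46) (kb xb24 yb8 zb47) (kb xb24 yb8 zb50) (kb xb8 yb48 zb44) (kb xb13 yb32 zb44)) (@D3.rec (fun _ => Pt) (kb xb7 yb40 zb23) (kb xb24 yb8 zb55) (kb xb24 yb8 zb56) (kb xb18 yb22 zb4) (kb xb20 yb29 zb26) (kb xb24 yb9 zb0) (kb xb22 yb54 zb58) (kb xb7 yb40 zb27) (kb xb24 yb9 zb10) (kb xb24 yb9 zb13) (kb xb24 yb9 zb9) (kb xb14 yb48 zb50) (kb xb7 yb40 zb30) (kb xb7 yb40 zb31) (kb xb24 yb9 zb19) (kb xb11 yb4 zb8) (kb xb20 yb28 zb57) (kb xb11 yb37 zb52) (kb xb22 yb56 zb32) (kb xb22 yb41 zb29)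 (kb xb7 yb40 zb36) (kb xb20 yb28 zb48) (kb xb22 yb57 zb4) (kb xb7 yb40 zb37) (kb xb15 yb55 zb41) (kb xb23 yb10 zb11) (kb xb22 yb56 zb33) (kb xb13 yb6 zb14) (kb xb21 yb14 zb59) (kb xb22 yb54 zb52) (kb xb7 yb40 zb42) (kb xb7 yb40 zb43) (kb xb24 yb9 zb36) (kb xb20 yb18 zb26) (kb xb24 yb9 zb34) (kb xb24 yb9 zb35) (kb xb7 yb49 zb52) (kb xb7 yb49 zb43) (kb xb16 yb3 zb55) (kb xb7 yb49 zb55) (kb xb7 yb49 zb46) (kb xb16 yb3 zb56) (kb xb7 yb45 zb30) (kb xb11 yb25 zb53) (kb xb9 yb27 zb28) (kb xb9 yb21 zb45) (kb xb23 yb45 zb53) (kb xb22 yb59 zb6) (kb xb23 yb45 zb60) (kb xb24 yb9 zb59) (kb xb13 yb11 zb39) (kb xb7 yb40 zb56) (kb xb7 yb40 zb57) (kb xb9 yb45 zb60) (kb xb7 yb54 zb5) (kb xb14 yb49 zb45) (kb xb24 yb10 zb1) (kb xb19 yb53 zb18) (kb xb11 yb25 zb39) (kb xb11 yb25 zb40) (kb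 xb7 yb49 zb23) (kb xb20 yb30 zb34)) (@D3.rec (fun _ => Pt) (kb xb22 yb57 zb5) (kb xb11 yb56 zb0) (kb xb13 yb10 zb35) (kb xb19 yb31 zb14) (kb xb13 yb8 zb58) (kb xb23 yb11 zb13) (kb xb7 yb41 zb2) (kb xb24 yb10 zb13) (kb xb12 yb49 zb33) (kb xb21 yb29 zb52) (kb xb13 yb52 zb41) (kb xb13 yb52 zb42) (kb xb7 yb51 zb29) (kb xb23 yb8 zb33) (kb xb14 yb55 zb16) (kb xb23 yb33 zb13) (kb xb13 yb52 zb43) (kb xb11 yb31 zb55) (kb xb7 yb41 zb11) (kb xb16 yb46 zb52) (kb xb7 yb41 zb13) (kb xb24 yb10 zb27) (kb xb24 yb10 zb28) (kb xb8 yb31 zb29) (kb xb24 yb10 zb33) (kb xb24 yb10 zb35) (kb xb7 yb41 zb43) (kb xb11 yb4 zb4) (kb xb23 yb56 zb57) (kb xb22 yb48 zb54) (kb xb22 yb38 zb29) (kb xb14 yb50 zb59) (kb xb10 yb25 zb37) (kb xb14 yb48 zb60) (kb xb7 yb41 zb22) (kb xb7 yb41 zb23) (kb xb14 yb48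 zb61) (kb xb14 yb49 zb0) (kb xb23 yb29 zb14) (kb xb24 yb10 zb39) (kb xb24 yb10 zb41) (kb xb24 yb10 zb42) (kb xb19 yb28 zb43) (kb xb7 yb41 zb25) (kb xb14 yb46 zb7) (kb xb24 yb10 zb54) (kb xb7 yb41 zb26) (kb xb23 yb1 zb0) (kb xb12 yb10 zb41) (kb xb10 yb17 zb21) (kb xb8 yb49 zb5) (kb xb12 yb2 zb17) (kb xb21 yb38 zb25) (kb xb24 yb6 zb7) (kb xb7 yb41 zb32) (kb xb7 yb41 zb33) (kb xb16 yb58 zb22) (kb xb16 yb58 zb23) (kb xb23 yb47 zb8) (kb xb23 yb47 zb9) (kb xb22 yb7 zb46) (kb xb24 yb11 zb4)) (@D3.rec (fun _ => Pt) (kb xb24 yb11 zb0) (kb xb7 yb41 zb35) (kb xb24 yb10 zb26) (kb xb24 yb11 zb8) (kb xb23 yb59 zb53) (kb xb17 yb11 zb49) (kb xb7 yb41 zb38) (kb xb24 yb11 zb10) (kb xb20 yb48 zb19) (kb xb24 yb10 zb30) (kb xb17 yb11 zb22) (kb xb7 yb41 zb40) (kb xb20 yb31 zb48) (kb xb7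 yb41 zb41) (kb xb24 yb11 zb15) (kb xb24 yb11 zb18) (kb xb24 yb11 zb21) (kb xb7 yb41 zb42) (kb xb24 yb11 zb24) (kb xb11 yb9 zb23) (kb xb16 yb44 zb8) (kb xb23 yb9 zb44) (kb xb7 yb41 zb45) (kb xb24 yb10 zb52) (kb xb24 yb11 zb36) (kb xb7 yb41 zb46) (kb xb24 yb11 zb43) (kb xb7 yb41 zb47) (kb xb24 yb11 zb49) (kb xb16 yb59 zb5) (kb xb14 yb34 zb44) (kb xb23 yb7 zb51) (kb xb7 yb41 zb49) (kb xb24 yb11 zb54) (kb xb24 yb11 zb57) (kb xb17 yb50 zb4) (kb xb7 yb41 zb52) (kb xb18 yb44 zb37) (kb xb13 yb9 zb47) (kb xb7 yb41 zb56) (kb xb7 yb41 zb58) (kb xb24 yb12 zb0) (kb xb11 yb43 zb17) (kb xb22 yb58 zb26) (kb xb22 yb37 zb46) (kb xb24 yb12 zb7) (kb xb13 yb11 zb16) (kb xb13 yb9 zb0) (kb xb13 yb10 zb4) (kb xb23 yb57 zb38) (kb xb13 yb10 zb10) (kb xb23 yb57 zb41) (kb xb24 yb12 zb17) (kb xb22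 yb57 zb9) (kb xb7 yb53 zb9) (kb xb7 yb53 zb10) (kb xb24 yb1 zb41) (kb xb19 yb30 zb57) (kb xb24 yb12 zb27) (kb xb21 yb40 zb4) (kb xb17 yb10 zb30) (kb xb7 yb42 zb10)) (@D3.rec (fun _ => Pt) (kb xb24 yb12 zb31) (kb xb24 yb12 zb32) (kb xb17 yb20 zb7) (kb xb20 yb40 zb34) (kb xb23 yb53 zb11) (kb xb21 yb40 zb9) (kb xb24 yb12 zb42) (kb xb7 yb42 zb31) (kb xb7 yb42 zb15) (kb xb22 yb57 zb15) (kb xb24 yb12 zb49) (kb xb24 yb12 zb47) (kb xb20 yb25 zb38) (kb xb7 yb42 zb17) (kb xb7 yb42 zb18) (kb xb23 yb8 zb38) (kb xb24 yb12 zb56) (kb xb7 yb42 zb19) (kb xb24 yb13 zb1) (kb xb24 yb12 zb61) (kb xb24 yb13 zb0) (kb xb7 yb42 zb20) (kb xb24 yb13 zb8) (kb xb22 yb13 zb0) (kb xb24 yb13 zb7) (kb xb24 yb13 zb14) (kb xb24 yb13 zb16) (kb xb7 yb42 zb21) (kb xb24 yb13 zb22) (kb xb24 yb13 zb23) (kb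 xb7 yb42 zb39) (kb xb17 yb25 zb41) (kb xb24 yb12 zb33) (kb xb12 yb0 zb30) (kb xb17 yb24 zb8) (kb xb24 yb12 zb36) (kb xb20 yb39 zb56) (kb xb12 yb31 zb8) (kb xb7 yb42 zb26) (kb xb7 yb42 zb27) (kb xb24 yb13 zb34) (kb xb22 yb11 zb61) (kb xb20 yb34 zb8) (kb xb9 yb26 zb0) (kb xb24 yb0 zb37) (kb xb7 yb42 zb29) (kb xb24 yb13 zb40) (kb xb24 yb9 zb37) (kb xb24 yb13 zb42) (kb xb7 yb42 zb30) (kb xb24 yb13 zb45) (kb xb24 yb12 zb44) (kb xb24 yb13 zb47) (kb xb10 yb34 zb7) (kb xb13 yb11 zb32) (kb xb24 yb0 zb43) (kb xb20 yb37 zb20) (kb xb7 yb42 zb34) (kb xb24 yb13 zb11) (kb xb22 yb35 zb46) (kb xb24 yb13 zb60) (kb xb16 yb28 zb43)) (@D3.rec (fun _ => Pt) (kb xb16 yb27 zb24) (kb xb16 yb27 zb26) (kb xb15 yb15 zb59) (kb xb8 yb16 zb19) (kb xb7 yb42 zb38) (kb xb24 yb14 zb14) (kb xb15 yb40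 zb51) (kb xb24 yb14 zb17) (kb xb9 yb49 zb51) (kb xb20 yb45 zb58) (kb xb7 yb43 zb38) (kb xb23 yb57 zb34) (kb xb23 yb6 zb16) (kb xb13 yb10 zb32) (kb xb11 yb49 zb20) (kb xb11 yb25 zb37) (kb xb24 yb14 zb27) (kb xb7 yb42 zb49) (kb xb7 yb42 zb50) (kb xb13 yb10 zb3) (kb xb22 yb38 zb39) (kb xb7 yb46 zb4) (kb xb7 yb42 zb46) (kb xb15 yb26 zb41) (kb xb24 yb14 zb37) (kb xb19 yb16 zb13) (kb xb8 yb0 zb19) (kb xb24 yb14 zb44) (kb xb20 yb33 zb49) (kb xb24 yb14 zb46) (kb xb24 yb14 zb33) (kb xb24 yb14 zb47) (kb xb23 yb57 zb29) (kb xb7 yb42 zb52) (kb xb24 yb14 zb52) (kb xb9 yb28 zb44) (kb xb7 yb42 zb54) (kb xb19 yb17 zb26) (kb xb24 yb14 zb60) (kb xb7 yb42 zb58) (kb xb24 yb15 zb1) (kb xb7 yb42 zb60) (kb xb24 yb15 zb4) (kb xb15 yb49 zb60) (kb xb7 yb42 zb61) (kb xb24 yb15 zb7) (kb xb24 yb15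 zb6) (kb xb7 yb43 zb0) (kb xb24 yb15 zb13) (kb xb24 yb15 zb12) (kb xb24 yb15 zb17) (kb xb19 yb36 zb26) (kb xb7 yb43 zb1) (kb xb9 yb48 zb38) (kb xb9 yb48 zb20) (kb xb21 yb52 zb8) (kb xb9 yb11 zb21) (kb xb11 yb26 zb3) (kb xb20 yb49 zb15) (kb xb7 yb43 zb6) (kb xb7 yb43 zb7) (kb xb23 yb58 zb3)) (@D3.rec (fun _ => Pt) (kb xb19 yb50 zb46) (kb xb7 yb44 zb6) (kb xb18 yb5 zb55) (kb xb24 yb15 zb26) (kb xb17 yb0 zb24) (kb xb7 yb43 zb10) (kb xb18 yb13 zb56) (kb xb13 yb1 zb39) (kb xb12 yb57 zb54) (kb xb22 yb3 zb16) (kb xb7 yb43 zb15) (kb xb7 yb43 zb16) (kb xb11 yb28 zb55) (kb xb17 yb7 zb52) (kb xb18 yb26 zb2) (kb xb18 yb25 zb15) (kb xb7 yb44 zb55) (kb xb9 yb28 zb32) (kb xb17 yb59 zb61) (kb xb7 yb43 zb19) (kb xb7 yb43 zb20) (kb xb7 yb43 zb18) (kb xb24 yb15 zb41) (kb xb19 yb27 zb4)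 (kb xb7 yb44 zb49) (kb xb24 yb15 zb43) (kb xb24 yb15 zb36) (kb xb7 yb44 zb52) (kb xb24 yb15 zb39) (kb xb24 yb15 zb40) (kb xb7 yb43 zb23) (kb xb9 yb13 zb38) (kb xb19 yb45 zb2) (kb xb24 yb15 zb51) (kb xb9 yb24 zb18) (kb xb7 yb43 zb25) (kb xb24 yb15 zb60) (kb xb24 yb15 zb59) (kb xb19 yb36 zb39) (kb xb24 yb16 zb3) (kb xb7 yb43 zb26) (kb xb24 yb16 zb8) (kb xb24 yb16 zb9) (kb xb7 yb45 zb17) (kb xb13 yb11 zb15) (kb xb7 yb45 zb60) (kb xb22 yb0 zb40) (kb xb17 yb24 zb33) (kb xb19 yb18 zb59) (kb xb24 yb16 zb18) (kb xb7 yb43 zb35) (kb xb20 yb19 zb48) (kb xb7 yb43 zb36) (kb xb10 yb57 zb21) (kb xb19 yb27 zb15) (kb xb24 yb16 zb25) (kb xb7 yb45 zb50) (kb xb24 yb16 zb27) (kb xb23 yb46 zb52) (kb xb7 yb43 zb34) (kb xb24 yb16 zb33) (kb xb19 yb50 zb20)) (@D3.rec (fun _ => Pt) (kb xb7 yb45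 zb56) (kb xb21 yb30 zb38) (kb xb19 yb17 zb23) (kb xb21 yb18 zb38) (kb xb7 yb45 zb31) (kb xb19 yb17 zb21) (kb xb23 yb58 zb18) (kb xb7 yb45 zb36) (kb xb24 yb16 zb42) (kb xb7 yb43 zb41) (kb xb7 yb43 zb40) (kb xb10 yb56 zb6) (kb xb16 yb36 zb47) (kb xb24 yb0 zb29) (kb xb24 yb16 zb49) (kb xb7 yb43 zb44) (kb xb23 yb5 zb45) (kb xb7 yb43 zb43) (kb xb24 yb16 zb57) (kb xb24 yb16 zb58) (kb xb13 yb2 zb12) (kb xb7 yb46 zb15) (kb xb24 yb16 zb53) (kb xb24 yb14 zb21) (kb xb24 yb17 zb8) (kb xb7 yb43 zb47) (kb xb7 yb43 zb46) (kb xb24 yb17 zb17) (kb xb19 yb36 zb4) (kb xb7 yb46 zb24) (kb xb23 yb58 zb34) (kb xb24 yb17 zb13) (kb xb7 yb43 zb48) (kb xb19 yb46 zb21) (kb xb9 yb52 zb17) (kb xb7 yb43 zb49) (kb xb24 yb17 zb28) (kb xb24 yb17 zb29) (kb xb24 yb4 zb42) (kb xb24 yb17 zb39) (kb xb21 yb36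 zb31) (kb xb7 yb43 zb51) (kb xb7 yb43 zb52) (kb xb24 yb17 zb43) (kb xb14 yb30 zb30) (kb xb24 yb17 zb53) (kb xb24 yb17 zb55) (kb xb21 yb30 zb57) (kb xb11 yb26 zb4) (kb xb9 yb50 zb60) (kb xb17 yb19 zb40) (kb xb11 yb40 zb19) (kb xb20 yb51 zb24) (kb xb11 yb43 zb52) (kb xb18 yb0 zb15) (kb xb21 yb42 zb32) (kb xb21 yb40 zb47) (kb xb9 yb25 zb44) (kb xb9 yb23 zb4) (kb xb7 yb43 zb60) (kb xb12 yb42 zb58) (kb xb24 yb18 zb7)) (@D3.rec (fun _ => Pt) (kb xb10 yb25 zb23) (kb xb18 yb21 zb20) (kb xb19 yb2 zb4) (kb xb7 yb44 zb8) (kb xb21 yb36 zb50) (kb xb7 yb44 zb2) (kb xb7 yb44 zb3) (kb xb20 yb49 zb18) (kb xb24 yb18 zb6) (kb xb24 yb18 zb18) (kb xb19 yb50 zb57) (kb xb24 yb18 zb20) (kb xb10 yb20 zb8) (kb xb7 yb44 zb5) (kb xb24 yb18 zb22) (kb xb24 yb15 zb31) (kb xb17 yb37 zb45) (kb xb24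 yb18 zb25) (kb xb7 yb44 zb7) (kb xb18 yb7 zb48) (kb xb19 yb1 zb60) (kb xb19 yb1 zb55) (kb xb10 yb27 zb4) (kb xb22 yb35 zb32) (kb xb7 yb44 zb10) (kb xb24 yb6 zb24) (kb xb22 yb0 zb26) (kb xb7 yb44 zb11) (kb xb24 yb18 zb39) (kb xb24 yb15 zb37) (kb xb24 yb18 zb41) (kb xb18 yb57 zb32) (kb xb8 yb15 zb23) (kb xb7 yb44 zb20) (kb xb24 yb18 zb48) (kb xb24 yb18 zb37) (kb xb24 yb18 zb51) (kb xb23 yb46 zb41) (kb xb17 yb34 zb44) (kb xb18 yb53 zb32) (kb xb20 yb33 zb16) (kb xb20 yb33 zb19) (kb xb23 yb46 zb44) (kb xb7 yb44 zb19) (kb xb24 yb18 zb58) (kb xb8 yb0 zb31) (kb xb8 yb12 zb3) (kb xb17 yb5 zb45) (kb xb21 yb51 zb2) (kb xb11 yb40 zb22) (kb xb10 yb5 zb31) (kb xb21 yb26 zb23) (kb xb21 yb25 zb56) (kb xb21 yb42 zb45) (kb xb17 yb5 zb54) (kb xb17 yb4 zb19) (kb xb17 yb4 zb20) (kb xb7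 yb44 zb27) (kb xb11 yb30 zb40) (kb xb24 yb19 zb7) (kb xb18 yb24 zb25) (kb xb7 yb44 zb28)) (@D3.rec (fun _ => Pt) (kb xb14 yb47 zb38) (kb xb21 yb50 zb56) (kb xb24 yb19 zb17) (kb xb7 yb44 zb38) (kb xb16 yb8 zb43) (kb xb21 yb30 zb18) (kb xb16 yb45 zb19) (kb xb10 yb55 zb47) (kb xb24 yb19 zb10) (kb xb7 yb44 zb34) (kb xb24 yb19 zb27) (kb xb20 yb52 zb60) (kb xb19 yb22 zb21) (kb xb12 yb17 zb60) (kb xb24 yb19 zb32) (kb xb14 yb20 zb60) (kb xb15 yb45 zb17) (kb xb7 yb44 zb37) (kb xb24 yb19 zb38) (kb xb24 yb19 zb39) (kb xb24 yb19 zb20) (kb xb12 yb11 zb28) (kb xb12 yb57 zb56) (kb xb11 yb46 zb41) (kb xb21 yb42 zb49) (kb xb21 yb42 zb50) (kb xb21 yb16 zb30) (kb xb20 yb48 zb40) (kb xb7 yb44 zb51) (kb xb9 yb27 zb11) (kb xb10 yb4 zb23) (kb xb7 yb44 zb53) (kb xb7 yb44 zb54) (kb xb21 yb20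 zb49) (kb xb14 yb14 zb7) (kb xb7 yb44 zb46) (kb xb7 yb44 zb47) (kb xb18 yb25 zb17) (kb xb11 yb45 zb50) (kb xb10 yb37 zb56) (kb xb24 yb19 zb59) (kb xb24 yb19 zb60) (kb xb21 yb54 zb57) (kb xb7 yb44 zb48) (kb xb19 yb26 zb26) (kb xb16 yb12 zb49) (kb xb19 yb47 zb41) (kb xb24 yb20 zb4) (kb xb7 yb44 zb50) (kb xb24 yb20 zb8) (kb xb20 yb48 zb39) (kb xb19 yb51 zb6) (kb xb24 yb15 zb46) (kb xb24 yb19 zb50) (kb xb24 yb19 zb51) (kb xb20 yb39 zb52) (kb xb22 yb14 zb1) (kb xb24 yb15 zb33) (kb xb21 yb22 zb0) (kb xb20 yb51 zb41) (kb xb22 yb0 zb24) (kb xb24 yb15 zb23)) (@D3.rec (fun _ => Pt) (kb xb7 yb45 zb2) (kb xb7 yb45 zb3) (kb xb10 yb31 zb23) (kb xb10 yb35 zb11) (kb xb20 yb51 zb42) (kb xb17 yb8 zb13) (kb xb19 yb23 zb33) (kb xb19 yb23 zb34) (kb xb24 yb15 zb53) (kb xb19 yb23 zb36) (kb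 xb19 yb19 zb2) (kb xb24 yb20 zb33) (kb xb24 yb20 zb22) (kb xb19 yb5 zb37) (kb xb24 yb20 zb39) (kb xb7 yb45 zb6) (kb xb7 yb45 zb7) (kb xb24 yb20 zb45) (kb xb24 yb20 zb46) (kb xb7 yb45 zb5) (kb xb24 yb20 zb48) (kb xb24 yb20 zb49) (kb xb21 yb47 zb47) (kb xb24 yb20 zb57) (kb xb24 yb16 zb1) (kb xb24 yb20 zb44) (kb xb7 yb45 zb9) (kb xb19 yb54 zb4) (kb xb18 yb17 zb61) (kb xb12 yb27 zb45) (kb xb21 yb3 zb34) (kb xb24 yb20 zb61) (kb xb16 yb54 zb28) (kb xb7 yb45 zb12) (kb xb24 yb21 zb3) (kb xb24 yb21 zb4) (kb xb7 yb45 zb13) (kb xb23 yb49 zb32) (kb xb24 yb21 zb9) (kb xb19 yb53 zb16) (kb xb24 yb21 zb14) (kb xb23 yb59 zb13) (kb xb7 yb45 zb15) (kb xb7 yb45 zb16) (kb xb24 yb21 zb2) (kb xb19 yb53 zb32) (kb xb15 yb29 zb42) (kb xb11 yb4 zb5) (kb xb22 yb55 zb15) (kb xb11 yb46 zb19) (kb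 xb24 yb21 zb20) (kb xb7 yb45 zb21) (kb xb11 yb40 zb18) (kb xb24 yb21 zb23) (kb xb11 yb43 zb28) (kb xb24 yb21 zb26) (kb xb7 yb46 zb47) (kb xb7 yb45 zb25) (kb xb17 yb7 zb26) (kb xb17 yb7 zb27) (kb xb10 yb36 zb44) (kb xb24 yb21 zb34)) (@D3.rec (fun _ => Pt) (kb xb22 yb7 zb57) (kb xb7 yb45 zb27) (kb xb23 yb34 zb19) (kb xb21 yb52 zb43) (kb xb7 yb45 zb28) (kb xb24 yb21 zb41) (kb xb24 yb21 zb40) (kb xb24 yb21 zb45) (kb xb23 yb45 zb46) (kb xb7 yb45 zb29) (kb xb24 yb21 zb50) (kb xb24 yb16 zb40) (kb xb13 yb22 zb0) (kb xb22 yb26 zb9) (kb xb14 yb53 zb19) (kb xb7 yb52 zb47) (kb xb24 yb16 zb41) (kb xb7 yb45 zb37) (kb xb24 yb21 zb55) (kb xb7 yb45 zb38) (kb xb24 yb21 zb58) (kb xb7 yb45 zb57) (kb xb24 yb10 zb10) (kb xb7 yb45 zb41) (kb xb14 yb54 zb9) (kb xb24 yb22 zb2) (kb xb17 yb15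 zb29) (kb xb24 yb22 zb5) (kb xb7 yb45 zb48) (kb xb7 yb45 zb47) (kb xb23 yb42 zb42) (kb xb19 yb26 zb33) (kb xb19 yb2 zb45) (kb xb19 yb7 zb56) (kb xb19 yb27 zb16) (kb xb7 yb45 zb49) (kb xb24 yb22 zb16) (kb xb24 yb22 zb17) (kb xb7 yb45 zb51) (kb xb24 yb22 zb24) (kb xb7 yb45 zb52) (kb xb24 yb22 zb28) (kb xb24 yb22 zb30) (kb xb12 yb54 zb30) (kb xb18 yb2 zb51) (kb xb7 yb45 zb54) (kb xb14 yb51 zb40) (kb xb24 yb22 zb37) (kb xb19 yb47 zb57) (kb xb11 yb34 zb26) (kb xb19 yb6 zb5) (kb xb11 yb58 zb46) (kb xb24 yb16 zb36) (kb xb19 yb51 zb8) (kb xb17 yb23 zb52) (kb xb24 yb22 zb43) (kb xb19 yb17 zb43) (kb xb7 yb45 zb59) (kb xb8 yb27 zb20) (kb xb13 yb13 zb11) (kb xb22 yb27 zb59) (kb xb7 yb46 zb1)) (@D3.rec (fun _ => Pt) (kb xb17 yb2 zb4) (kb xb22 yb0 zb41) (kb xb24 yb22 zb46) (kb xb24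 yb22 zb47) (kb xb13 yb7 zb49) (kb xb7 yb46 zb3) (kb xb7 yb46 zb6) (kb xb10 yb33 zb31) (kb xb24 yb22 zb54) (kb xb24 yb22 zb56) (kb xb7 yb46 zb16) (kb xb7 yb46 zb17) (kb xb7 yb46 zb10) (kb xb7 yb46 zb11) (kb xb17 yb4 zb4) (kb xb8 yb35 zb2) (kb xb24 yb23 zb2) (kb xb18 yb18 zb26) (kb xb10 yb15 zb52) (kb xb7 yb46 zb14) (kb xb15 yb29 zb38) (kb xb19 yb27 zb12) (kb xb24 yb23 zb7) (kb xb24 yb17 zb4) (kb xb24 yb17 zb5) (kb xb23 yb1 zb23) (kb xb22 yb0 zb35) (kb xb24 yb22 zb58) (kb xb21 yb54 zb27) (kb xb21 yb55 zb9) (kb xb23 yb52 zb26) (kb xb23 yb19 zb15) (kb xb24 yb23 zb13) (kb xb7 yb46 zb26) (kb xb24 yb23 zb18) (kb xb24 yb23 zb20) (kb xb19 yb55 zb14) (kb xb8 yb38 zb49) (kb xb24 yb23 zb23) (kb xb24 yb17 zb21) (kb xb7 yb46 zb25) (kb xb21 yb2 zb19) (kb xb24 yb23 zb25) (kb xb22 yb40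 zb13) (kb xb24 yb23 zb27) (kb xb22 yb41 zb47) (kb xb10 yb33 zb38) (kb xb14 yb49 zb14) (kb xb23 yb59 zb34) (kb xb22 yb41 zb2) (kb xb7 yb46 zb29) (kb xb24 yb23 zb37) (kb xb24 yb23 zb38) (kb xb23 yb40 zb52) (kb xb20 yb24 zb43) (kb xb22 yb41 zb24) (kb xb7 yb46 zb31) (kb xb24 yb23 zb48) (kb xb24 yb23 zb49) (kb xb22 yb39 zb12) (kb xb7 yb50 zb11) (kb xb7 yb46 zb32)) (@D3.rec (fun _ => Pt) (kb xb24 yb23 zb59) (kb xb23 yb30 zb48) (kb xb18 yb18 zb1) (kb xb24 yb23 zb56) (kb xb7 yb46 zb33) (kb xb24 yb24 zb5) (kb xb23 yb25 zb13) (kb xb22 yb45 zb8) (kb xb14 yb50 zb16) (kb xb11 yb52 zb11) (kb xb7 yb49 zb27) (kb xb11 yb34 zb3) (kb xb7 yb46 zb37) (kb xb7 yb46 zb38) (kb xb14 yb48 zb54) (kb xb13 yb57 zb48) (kb xb14 yb49 zb1) (kb xb24 yb24 zb17) (kb xb7 yb46 zb39) (kb xb13 yb9 zb46) (kb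 xb24 yb24 zb20) (kb xb23 yb58 zb49) (kb xb10 yb30 zb54) (kb xb10 yb31 zb7) (kb xb24 yb24 zb26) (kb xb19 yb8 zb43) (kb xb24 yb24 zb33) (kb xb7 yb46 zb42) (kb xb13 yb11 zb43) (kb xb24 yb24 zb38) (kb xb24 yb21 zb28) (kb xb7 yb46 zb48) (kb xb7 yb46 zb49) (kb xb7 yb46 zb45) (kb xb22 yb24 zb14) (kb xb22 yb24 zb11) (kb xb24 yb24 zb47) (kb xb24 yb24 zb48) (kb xb24 yb24 zb50) (kb xb13 yb11 zb37) (kb xb24 yb24 zb43) (kb xb24 yb24 zb44) (kb xb24 yb24 zb57) (kb xb13 yb11 zb20) (kb xb24 yb24 zb59) (kb xb7 yb46 zb52) (kb xb7 yb46 zb51) (kb xb24 yb25 zb2) (kb xb13 yb11 zb51) (kb xb24 yb25 zb7) (kb xb24 yb25 zb1) (kb xb22 yb38 zb23) (kb xb7 yb46 zb55) (kb xb17 yb24 zb43) (kb xb24 yb25 zb12) (kb xb13 yb12 zb1) (kb xb7 yb46 zb58) (kb xb7 yb46 zb57) (kb xb9 yb4 zb6) (kb xb24 yb25 zb18)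 (kb xb11 yb46 zb4) (kb xb20 yb48 zb11)) (@D3.rec (fun _ => Pt) (kb xb24 yb25 zb17) (kb xb7 yb46 zb59) (kb xb14 yb22 zb52) (kb xb7 yb46 zb60) (kb xb24 yb25 zb27) (kb xb24 yb25 zb28) (kb xb24 yb25 zb32) (kb xb24 yb25 zb34) (kb xb23 yb46 zb3) (kb xb7 yb47 zb0) (kb xb24 yb25 zb38) (kb xb7 yb47 zb1) (kb xb24 yb25 zb42) (kb xb13 yb11 zb17) (kb xb13 yb11 zb18) (kb xb24 yb25 zb46) (kb xb22 yb58 zb42) (kb xb22 yb24 zb1) (kb xb23 yb57 zb21) (kb xb22 yb48 zb60) (kb xb7 yb47 zb5) (kb xb24 yb25 zb55) (kb xb24 yb25 zb54) (kb xb24 yb25 zb59) (kb xb22 yb23 zb55) (kb xb7 yb47 zb8) (kb xb24 yb26 zb0) (kb xb24 yb25 zb61) (kb xb10 yb41 zb31) (kb xb12 yb46 zb57) (kb xb23 yb59 zb44) (kb xb17 yb1 zb36) (kb xb21 yb18 zb9) (kb xb23 yb26 zb28) (kb xb7 yb47 zb14) (kb xb23 yb57 zb24) (kb xb19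 yb11 zb24) (kb xb24 yb26 zb14) (kb xb7 yb47 zb16) (kb xb24 yb26 zb18) (kb xb11 yb52 zb59) (kb xb24 yb26 zb22) (kb xb11 yb0 zb46) (kb xb11 yb0 zb47) (kb xb8 yb54 zb47) (kb xb10 yb33 zb60) (kb xb7 yb47 zb21) (kb xb20 yb38 zb18) (kb xb24 yb26 zb31) (kb xb24 yb26 zb32) (kb xb24 yb26 zb36) (kb xb9 yb12 zb10) (kb xb7 yb47 zb22) (kb xb20 yb23 zb51) (kb xb8 yb59 zb14) (kb xb10 yb31 zb40) (kb xb10 yb41 zb28) (kb xb7 yb47 zb38) (kb xb7 yb47 zb39) (kb xb7 yb47 zb24) (kb xb7 yb47 zb25) (kb xb20 yb30 zb40)) (@D3.rec (fun _ => Pt) (kb xb24 yb26 zb55) (kb xb10 yb41 zb0) (kb xb15 yb20 zb50) (kb xb7 yb47 zb29) (kb xb7 yb47 zb28) (kb xb24 yb27 zb4) (kb xb24 yb27 zb7) (kb xb24 yb26 zb29) (kb xb24 yb27 zb2) (kb xb24 yb0 zb2) (kb xb24 yb27 zb17) (kb xb7 yb47 zb32) (kb xb7 yb47 zb33) (kb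 xb7 yb47 zb31) (kb xb24 yb27 zb26) (kb xb17 yb28 zb44) (kb xb24 yb27 zb31) (kb xb24 yb27 zb23) (kb xb24 yb27 zb34) (kb xb14 yb50 zb22) (kb xb24 yb0 zb8) (kb xb7 yb47 zb35) (kb xb24 yb27 zb41) (kb xb7 yb47 zb36) (kb xb24 yb27 zb46) (kb xb24 yb27 zb44) (kb xb24 yb27 zb45) (kb xb7 yb47 zb37) (kb xb16 yb56 zb15) (kb xb24 yb27 zb53) (kb xb22 yb4 zb8) (kb xb20 yb52 zb29) (kb xb24 yb27 zb58) (kb xb10 yb21 zb55) (kb xb7 yb47 zb41) (kb xb16 yb52 zb24) (kb xb7 yb47 zb42) (kb xb20 yb50 zb61) (kb xb7 yb47 zb44) (kb xb13 yb37 zb2) (kb xb23 yb57 zb58) (kb xb23 yb23 zb46) (kb xb14 yb3 zb24) (kb xb7 yb47 zb47) (kb xb24 yb28 zb2) (kb xb14 yb53 zb1) (kb xb14 yb27 zb29) (kb xb7 yb47 zb49) (kb xb11 yb22 zb21) (kb xb23 yb23 zb48) (kb xb7 yb47 zb51) (kb xb24 yb28 zb7) (kb xb14 yb3 zb35)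 (kb xb24 yb28 zb9) (kb xb11 yb15 zb57) (kb xb23 yb6 zb38) (kb xb16 yb35 zb1) (kb xb13 yb15 zb5) (kb xb24 yb28 zb15) (kb xb23 yb6 zb41) (kb xb24 yb28 zb19) (kb xb7 yb48 zb2)) (@D3.rec (fun _ => Pt) (kb xb22 yb30 zb4) (kb xb13 yb15 zb21) (kb xb7 yb47 zb61) (kb xb20 yb10 zb48) (kb xb7 yb48 zb0) (kb xb24 yb28 zb27) (kb xb7 yb48 zb1) (kb xb18 yb15 zb51) (kb xb24 yb28 zb28) (kb xb24 yb28 zb23) (kb xb23 yb4 zb46) (kb xb22 yb50 zb1) (kb xb13 yb40 zb58) (kb xb13 yb40 zb14) (kb xb23 yb39 zb53) (kb xb24 yb28 zb33) (kb xb10 yb32 zb10) (kb xb14 yb13 zb28) (kb xb20 yb25 zb0) (kb xb21 yb45 zb30) (kb xb21 yb41 zb45) (kb xb24 yb11 zb9) (kb xb22 yb17 zb9) (kb xb24 yb28 zb47) (kb xb15 yb51 zb54) (kb xb7 yb48 zb10) (kb xb24 yb28 zb52) (kb xb10 yb41 zb32) (kb xb10 yb32 zb0) (kb xb7 yb48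 zb19) (kb xb7 yb48 zb20) (kb xb22 yb18 zb33) (kb xb24 yb29 zb7) (kb xb7 yb48 zb22) (kb xb15 yb20 zb24) (kb xb19 yb6 zb11) (kb xb20 yb24 zb41) (kb xb7 yb48 zb16) (kb xb24 yb29 zb15) (kb xb17 yb52 zb59) (kb xb24 yb29 zb19) (kb xb10 yb40 zb47) (kb xb10 yb34 zb24) (kb xb7 yb48 zb18) (kb xb15 yb20 zb45) (kb xb24 yb29 zb25) (kb xb10 yb40 zb58) (kb xb24 yb29 zb28) (kb xb24 yb29 zb31) (kb xb24 yb29 zb2) (kb xb7 yb48 zb21) (kb xb24 yb29 zb10) (kb xb7 yb48 zb23) (kb xb13 yb32 zb1) (kb xb24 yb29 zb35) (kb xb13 yb24 zb20) (kb xb16 yb53 zb54) (kb xb24 yb29 zb38) (kb xb13 yb12 zb36) (kb xb24 yb29 zb41) (kb xb24 yb29 zb42) (kb xb7 yb48 zb33)) (@D3.rec (fun _ => Pt) (kb xb7 yb48 zb34) (kb xb7 yb48 zb30) (kb xb24 yb29 zb51) (kb xb24 yb29 zb50) (kb xb7 yb48 zb31) (kb xb17 yb25 zb25)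 (kb xb7 yb48 zb32) (kb xb24 yb29 zb59) (kb xb24 yb29 zb61) (kb xb24 yb30 zb2) (kb xb24 yb29 zb47) (kb xb24 yb29 zb48) (kb xb24 yb30 zb8) (kb xb13 yb7 zb44) (kb xb21 yb52 zb27) (kb xb7 yb48 zb37) (kb xb7 yb48 zb36) (kb xb24 yb30 zb21) (kb xb24 yb30 zb24) (kb xb24 yb30 zb27) (kb xb24 yb30 zb17) (kb xb7 yb48 zb38) (kb xb22 yb23 zb56) (kb xb7 yb48 zb40) (kb xb8 yb45 zb36) (kb xb16 yb30 zb30) (kb xb22 yb53 zb50) (kb xb7 yb48 zb42) (kb xb7 yb48 zb43) (kb xb24 yb30 zb33) (kb xb15 yb0 zb19) (kb xb24 yb30 zb39) (kb xb12 yb47 zb37) (kb xb7 yb48 zb45) (kb xb14 yb11 zb47) (kb xb24 yb30 zb44) (kb xb24 yb30 zb47) (kb xb13 yb16 zb0) (kb xb7 yb48 zb48) (kb xb24 yb30 zb51) (kb xb16 yb2 zb45) (kb xb24 yb30 zb52) (kb xb21 yb27 zb51) (kb xb19 yb17 zb1) (kb xb16 yb2 zb59) (kb xb7 yb48 zb55)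 (kb xb13 yb35 zb41) (kb xb16 yb11 zb51) (kb xb22 yb29 zb0) (kb xb21 yb56 zb4) (kb xb7 yb48 zb60) (kb xb7 yb48 zb61) (kb xb24 yb31 zb1) (kb xb18 yb42 zb61) (kb xb17 yb2 zb43) (kb xb24 yb31 zb0) (kb xb21 yb38 zb21) (kb xb24 yb31 zb7) (kb xb7 yb49 zb1) (kb xb14 yb3 zb31) (kb xb13 yb51 zb33) (kb xb23 yb50 zb25)) (@D3.rec (fun _ => Pt) (kb xb16 yb6 zb32) (kb xb7 yb49 zb4) (kb xb23 yb30 zb60) (kb xb22 yb53 zb44) (kb xb24 yb31 zb16) (kb xb7 yb49 zb5) (kb xb22 yb58 zb17) (kb xb13 yb13 zb37) (kb xb13 yb51 zb24) (kb xb22 yb29 zb2) (kb xb23 yb54 zb39) (kb xb21 yb6 zb20) (kb xb23 yb14 zb14) (kb xb24 yb31 zb25) (kb xb12 yb21 zb54) (kb xb16 yb13 zb29) (kb xb23 yb46 zb15) (kb xb13 yb39 zb17) (kb xb24 yb31 zb27) (kb xb19 yb52 zb59) (kb xb7 yb49 zb14) (kb xb24 yb31 zb34) (kb xb11 yb33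 zb38) (kb xb14 yb59 zb54) (kb xb7 yb49 zb20) (kb xb24 yb31 zb42) (kb xb24 yb31 zb45) (kb xb21 yb8 zb55) (kb xb7 yb49 zb17) (kb xb19 yb56 zb21) (kb xb24 yb31 zb49) (kb xb7 yb49 zb18) (kb xb16 yb47 zb41) (kb xb9 yb9 zb27) (kb xb7 yb49 zb19) (kb xb22 yb12 zb25) (kb xb21 yb30 zb43) (kb xb15 yb12 zb55) (kb xb13 yb8 zb47) (kb xb23 yb56 zb53) (kb xb13 yb8 zb53) (kb xb24 yb10 zb7) (kb xb14 yb47 zb60) (kb xb23 yb56 zb61) (kb xb23 yb57 zb0) (kb xb24 yb31 zb60) (kb xb22 yb39 zb14) (kb xb24 yb32 zb3) (kb xb7 yb49 zb35) (kb xb24 yb22 zb14) (kb xb10 yb32 zb44) (kb xb17 yb6 zb26) (kb xb20 yb24 zb45) (kb xb15 yb25 zb34) (kb xb24 yb3 zb47) (kb xb7 yb49 zb33) (kb xb20 yb3 zb40) (kb xb23 yb58 zb50) (kb xb7 yb49 zb34) (kb xb24 yb21 zb0) (kb xb7 yb49 zb37) (kb xb20 yb53 zb47)) (@D3.rec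 (fun _ => Pt) (kb xb15 yb18 zb27) (kb xb17 yb8 zb51) (kb xb16 yb11 zb25) (kb xb7 yb49 zb40) (kb xb24 yb1 zb38) (kb xb13 yb41 zb24) (kb xb14 yb49 zb44) (kb xb14 yb29 zb44) (kb xb23 yb24 zb5) (kb xb7 yb49 zb56) (kb xb14 yb49 zb47) (kb xb13 yb41 zb32) (kb xb14 yb55 zb41) (kb xb14 yb51 zb1) (kb xb24 yb9 zb48) (kb xb24 yb9 zb50) (kb xb7 yb49 zb49) (kb xb24 yb32 zb30) (kb xb9 yb20 zb26) (kb xb16 yb2 zb53) (kb xb14 yb49 zb32) (kb xb24 yb9 zb46) (kb xb24 yb9 zb47) (kb xb24 yb32 zb23) (kb xb24 yb9 zb49) (kb xb16 yb2 zb61) (kb xb24 yb32 zb39) (kb xb7 yb49 zb58) (kb xb21 yb31 zb32) (kb xb7 yb49 zb59) (kb xb7 yb49 zb60) (kb xb7 yb49 zb61) (kb xb7 yb50 zb2) (kb xb7 yb50 zb1) (kb xb15 yb3 zb59) (kb xb24 yb32 zb45) (kb xb22 yb38 zb36) (kb xb17 yb8 zb8) (kb xb20 yb6 zb47) (kb xb14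 yb50 zb27) (kb xb21 yb29 zb55) (kb xb11 yb17 zb12) (kb xb7 yb50 zb6) (kb xb7 yb50 zb7) (kb xb24 yb0 zb22) (kb xb14 yb50 zb23) (kb xb21 yb40 zb42) (kb xb16 yb12 zb60) (kb xb14 yb50 zb26) (kb xb7 yb50 zb9) (kb xb24 yb33 zb0) (kb xb19 yb6 zb3) (kb xb7 yb50 zb10) (kb xb24 yb33 zb5) (kb xb24 yb33 zb3) (kb xb24 yb33 zb8) (kb xb24 yb23 zb54) (kb xb18 yb17 zb48) (kb xb7 yb50 zb12) (kb xb24 yb33 zb11) (kb xb24 yb33 zb12) (kb xb14 yb50 zb48)) (@D3.rec (fun _ => Pt) (kb xb13 yb42 zb18) (kb xb11 yb2 zb50) (kb xb22 yb55 zb16) (kb xb14 yb50 zb60) (kb xb24 yb10 zb8) (kb xb20 yb53 zb40) (kb xb13 yb13 zb43) (kb xb23 yb36 zb44) (kb xb7 yb50 zb18) (kb xb11 yb51 zb38) (kb xb24 yb33 zb26) (kb xb11 yb50 zb59) (kb xb7 yb50 zb19) (kb xb24 yb33 zb31) (kb xb24 yb33 zb32) (kb xb14 yb50 zb56)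 (kb xb16 yb13 zb5) (kb xb11 yb3 zb51) (kb xb24 yb3 zb42) (kb xb22 yb27 zb48) (kb xb24 yb22 zb39) (kb xb11 yb32 zb46) (kb xb20 yb53 zb50) (kb xb7 yb50 zb26) (kb xb24 yb21 zb61) (kb xb14 yb49 zb35) (kb xb7 yb50 zb27) (kb xb7 yb50 zb25) (kb xb24 yb33 zb51) (kb xb14 yb51 zb4) (kb xb24 yb27 zb36) (kb xb24 yb33 zb46) (kb xb24 yb33 zb47) (kb xb24 yb24 zb13) (kb xb20 yb54 zb13) (kb xb7 yb50 zb30) (kb xb11 yb50 zb44) (kb xb7 yb50 zb29) (kb xb14 yb36 zb0) (kb xb24 yb34 zb9) (kb xb14 yb51 zb11) (kb xb24 yb34 zb6) (kb xb23 yb43 zb37) (kb xb23 yb11 zb16) (kb xb7 yb50 zb33) (kb xb7 yb50 zb32) (kb xb17 yb49 zb13) (kb xb11 yb2 zb45) (kb xb24 yb34 zb19) (kb xb19 yb36 zb55) (kb xb16 yb51 zb14) (kb xb7 yb50 zb35) (kb xb7 yb53 zb16) (kb xb10 yb35 zb10) (kb xb11 yb51 zb31) (kb xb7 yb50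 zb37) (kb xb7 yb50 zb38) (kb xb24 yb34 zb21) (kb xb15 yb42 zb4) (kb xb19 yb54 zb7) (kb xb14 yb45 zb42) (kb xb14 yb51 zb26)) (@D3.rec (fun _ => Pt) (kb xb14 yb2 zb55) (kb xb17 yb4 zb12) (kb xb13 yb34 zb61) (kb xb14 yb51 zb32) (kb xb24 yb34 zb26) (kb xb13 yb2 zb35) (kb xb24 yb34 zb27) (kb xb7 yb50 zb51) (kb xb17 yb8 zb39) (kb xb7 yb50 zb47) (kb xb24 yb34 zb29) (kb xb8 yb10 zb57) (kb xb24 yb34 zb30) (kb xb8 yb37 zb55) (kb xb7 yb50 zb52) (kb xb7 yb50 zb53) (kb xb10 yb47 zb22) (kb xb24 yb34 zb31) (kb xb22 yb33 zb23) (kb xb7 yb50 zb56) (kb xb15 yb51 zb13) (kb xb7 yb50 zb58) (kb xb24 yb34 zb37) (kb xb24 yb34 zb36) (kb xb7 yb50 zb59) (kb xb16 yb4 zb6) (kb xb14 yb0 zb49) (kb xb15 yb18 zb24) (kb xb22 yb53 zb48) (kb xb8 yb34 zb1) (kb xb14 yb5 zb45) (kb xb24 yb34 zb44) (kb xb7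 yb51 zb3) (kb xb24 yb34 zb46) (kb xb7 yb51 zb5) (kb xb7 yb51 zb6) (kb xb7 yb51 zb2) (kb xb21 yb32 zb33) (kb xb21 yb45 zb26) (kb xb20 yb20 zb35) (kb xb24 yb34 zb45) (kb xb24 yb22 zb13) (kb xb7 yb51 zb4) (kb xb24 yb3 zb49) (kb xb20 yb53 zb59) (kb xb20 yb53 zb60) (kb xb24 yb34 zb60) (kb xb15 yb54 zb23) (kb xb13 yb46 zb1) (kb xb24 yb34 zb61) (kb xb14 yb28 zb11) (kb xb14 yb1 zb42) (kb xb12 yb47 zb50) (kb xb13 yb17 zb5) (kb xb14 yb40 zb14) (kb xb7 yb51 zb22) (kb xb7 yb51 zb23) (kb xb7 yb51 zb16) (kb xb14 yb1 zb46) (kb xb24 yb35 zb7) (kb xb14 yb29 zb33) (kb xb14 yb29 zb36)) (@D3.rec (fun _ => Pt) (kb xb14 yb29 zb37) (kb xb14 yb40 zb16) (kb xb19 yb55 zb49) (kb xb24 yb35 zb18) (kb xb7 yb51 zb28) (kb xb7 yb51 zb20) (kb xb24 yb35 zb22) (kb xb9 yb43 zb42) (kb xb7 yb51 zb21) (kb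 xb20 yb9 zb45) (kb xb17 yb4 zb1) (kb xb21 yb4 zb6) (kb xb16 yb9 zb48) (kb xb24 yb35 zb28) (kb xb14 yb39 zb47) (kb xb22 yb20 zb32) (kb xb17 yb4 zb6) (kb xb8 yb27 zb42) (kb xb15 yb22 zb55) (kb xb23 yb56 zb32) (kb xb7 yb51 zb27) (kb xb24 yb35 zb39) (kb xb24 yb35 zb21) (kb xb15 yb53 zb1) (kb xb24 yb10 zb22) (kb xb22 yb52 zb55) (kb xb23 yb8 zb36) (kb xb7 yb51 zb31) (kb xb23 yb14 zb46) (kb xb23 yb31 zb35) (kb xb7 yb51 zb33) (kb xb7 yb51 zb36) (kb xb14 yb46 zb20) (kb xb7 yb51 zb38) (kb xb21 yb55 zb21) (kb xb14 yb47 zb25) (kb xb21 yb55 zb18) (kb xb24 yb35 zb55) (kb xb12 yb12 zb21) (kb xb24 yb35 zb60) (kb xb7 yb51 zb41) (kb xb24 yb36 zb1) (kb xb7 yb51 zb42) (kb xb7 yb51 zb44) (kb xb14 yb46 zb6) (kb xb14 yb28 zb55) (kb xb8 yb32 zb60) (kb xb14 yb46 zb10) (kb xb14 yb54 zb11) (kb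 xb12 yb25 zb21) (kb xb14 yb54 zb15) (kb xb17 yb30 zb28) (kb xb7 yb51 zb54) (kb xb13 yb25 zb14) (kb xb7 yb51 zb52) (kb xb23 yb2 zb33) (kb xb7 yb51 zb53) (kb xb21 yb41 zb7) (kb xb24 yb36 zb11) (kb xb7 yb51 zb55) (kb xb24 yb36 zb17) (kb xb7 yb51 zb56)) (@D3.rec (fun _ => Pt) (kb xb18 yb42 zb15) (kb xb9 yb29 zb21) (kb xb9 yb5 zb38) (kb xb24 yb36 zb18) (kb xb7 yb51 zb61) (kb xb7 yb52 zb0) (kb xb7 yb51 zb59) (kb xb10 yb44 zb19) (kb xb11 yb30 zb50) (kb xb7 yb51 zb60) (kb xb24 yb36 zb28) (kb xb24 yb36 zb29) (kb xb10 yb49 zb25) (kb xb24 yb36 zb31) (kb xb24 yb36 zb33) (kb xb24 yb36 zb21) (kb xb14 yb40 zb8) (kb xb9 yb43 zb51) (kb xb7 yb52 zb3) (kb xb7 yb52 zb4) (kb xb16 yb52 zb26) (kb xb7 yb52 zb2) (kb xb14 yb42 zb19) (kb xb14 yb46 zb45) (kb xb10 yb59 zb2) (kb xb8 yb58 zb41) (kb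 xb14 yb46 zb48) (kb xb14 yb46 zb39) (kb xb13 yb22 zb7) (kb xb24 yb36 zb43) (kb xb7 yb52 zb7) (kb xb7 yb52 zb8) (kb xb7 yb52 zb6) (kb xb19 yb50 zb41) (kb xb8 yb9 zb4) (kb xb15 yb53 zb38) (kb xb9 yb45 zb22) (kb xb16 yb17 zb35) (kb xb24 yb36 zb46) (kb xb7 yb52 zb9) (kb xb20 yb40 zb3) (kb xb19 yb56 zb11) (kb xb8 yb27 zb19) (kb xb24 yb36 zb56) (kb xb24 yb36 zb59) (kb xb7 yb52 zb11) (kb xb22 yb53 zb24) (kb xb24 yb37 zb1) (kb xb14 yb46 zb61) (kb xb13 yb31 zb33) (kb xb7 yb52 zb15) (kb xb24 yb37 zb7) (kb xb24 yb37 zb11) (kb xb24 yb37 zb13) (kb xb10 yb45 zb5) (kb xb24 yb37 zb15) (kb xb14 yb47 zb15) (kb xb10 yb44 zb52) (kb xb14 yb55 zb1) (kb xb14 yb29 zb31) (kb xb14 yb47 zb3) (kb xb7 yb52 zb23)) (@D3.rec (fun _ => Pt) (kb xb24 yb37 zb21) (kb xb14 yb46 zb13) (kb xb7 yb52 zb22)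 (kb xb15 yb52 zb51) (kb xb14 yb47 zb29) (kb xb24 yb37 zb28) (kb xb8 yb37 zb49) (kb xb7 yb52 zb26) (kb xb24 yb37 zb30) (kb xb19 yb40 zb16) (kb xb24 yb37 zb32) (kb xb14 yb47 zb40) (kb xb16 yb5 zb11) (kb xb16 yb5 zb41) (kb xb7 yb52 zb28) (kb xb24 yb3 zb12) (kb xb7 yb52 zb29) (kb xb15 yb22 zb11) (kb xb20 yb43 zb45) (kb xb24 yb35 zb38) (kb xb7 yb52 zb31) (kb xb7 yb52 zb32) (kb xb14 yb18 zb29) (kb xb21 yb58 zb9) (kb xb24 yb37 zb42) (kb xb19 yb54 zb49) (kb xb14 yb47 zb61) (kb xb7 yb52 zb35) (kb xb24 yb37 zb51) (kb xb24 yb37 zb50) (kb xb11 yb2 zb54) (kb xb23 yb10 zb58) (kb xb14 yb48 zb3) (kb xb24 yb37 zb58) (kb xb23 yb8 zb0) (kb xb7 yb52 zb39) (kb xb24 yb37 zb61) (kb xb24 yb37 zb60) (kb xb7 yb52 zb40) (kb xb24 yb38 zb4) (kb xb14 yb38 zb46) (kb xb7 yb52 zb41) (kb xb24 yb38 zb9)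 (kb xb24 yb38 zb11) (kb xb16 yb9 zb58) (kb xb16 yb10 zb3) (kb xb11 yb32 zb44) (kb xb13 yb9 zb38) (kb xb23 yb11 zb3) (kb xb7 yb52 zb46) (kb xb23 yb35 zb33) (kb xb7 yb52 zb48) (kb xb7 yb52 zb45) (kb xb24 yb38 zb21) (kb xb24 yb27 zb6) (kb xb24 yb38 zb27) (kb xb24 yb38 zb19) (kb xb24 yb38 zb20) (kb xb7 yb52 zb49) (kb xb13 yb33 zb27) (kb xb24 yb38 zb33) (kb xb14 yb12 zb59)) (@D3.rec (fun _ => Pt) (kb xb7 yb52 zb51) (kb xb24 yb38 zb35) (kb xb23 yb11 zb2) (kb xb7 yb52 zb54) (kb xb7 yb52 zb55) (kb xb24 yb38 zb39) (kb xb23 yb11 zb1) (kb xb24 yb38 zb43) (kb xb21 yb0 zb51) (kb xb24 yb38 zb44) (kb xb23 yb34 zb5) (kb xb24 yb35 zb50) (kb xb7 yb52 zb58) (kb xb7 yb52 zb59) (kb xb12 yb59 zb37) (kb xb24 yb38 zb48) (kb xb24 yb38 zb52) (kb xb22 yb10 zb53) (kb xb7 yb52 zb61) (kb xb7 yb53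 zb0) (kb xb19 yb7 zb29) (kb xb24 yb38 zb60) (kb xb24 yb39 zb0) (kb xb7 yb53 zb1) (kb xb15 yb39 zb41) (kb xb24 yb39 zb5) (kb xb24 yb39 zb7) (kb xb13 yb37 zb3) (kb xb7 yb53 zb3) (kb xb22 yb0 zb25) (kb xb24 yb39 zb9) (kb xb7 yb53 zb7) (kb xb24 yb39 zb10) (kb xb20 yb31 zb12) (kb xb19 yb40 zb37) (kb xb23 yb55 zb27) (kb xb23 yb58 zb51) (kb xb14 yb19 zb29) (kb xb7 yb53 zb12) (kb xb11 yb51 zb11) (kb xb24 yb39 zb14) (kb xb11 yb50 zb53) (kb xb7 yb53 zb14) (kb xb24 yb39 zb19) (kb xb17 yb8 zb32) (kb xb7 yb53 zb21) (kb xb21 yb10 zb60) (kb xb22 yb0 zb34) (kb xb24 yb5 zb59) (kb xb7 yb53 zb20) (kb xb24 yb39 zb27) (kb xb22 yb52 zb56) (kb xb11 yb58 zb23) (kb xb24 yb39 zb31) (kb xb22 yb53 zb3) (kb xb24 yb6 zb2) (kb xb7 yb53 zb25) (kb xb22 yb58 zb24) (kb xb24 yb1 zb20) (kb xb24 yb10 zb46)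 (kb xb7 yb53 zb30) (kb xb24 yb39 zb39)) (@D3.rec (fun _ => Pt) (kb xb24 yb39 zb38) (kb xb14 yb42 zb45) (kb xb18 yb2 zb40) (kb xb24 yb26 zb54) (kb xb7 yb53 zb38) (kb xb7 yb53 zb34) (kb xb24 yb39 zb43) (kb xb24 yb39 zb42) (kb xb19 yb44 zb30) (kb xb20 yb52 zb55) (kb xb7 yb53 zb36) (kb xb18 yb51 zb1) (kb xb24 yb39 zb51) (kb xb23 yb59 zb58) (kb xb9 yb2 zb13) (kb xb24 yb39 zb57) (kb xb7 yb53 zb40) (kb xb18 yb51 zb4) (kb xb24 yb40 zb0) (kb xb14 yb38 zb14) (kb xb7 yb53 zb43) (kb xb24 yb40 zb3) (kb xb24 yb10 zb44) (kb xb24 yb30 zb29) (kb xb7 yb53 zb45) (kb xb7 yb53 zb46) (kb xb24 yb40 zb9) (kb xb24 yb40 zb13) (kb xb24 yb40 zb17) (kb xb14 yb55 zb11) (kb xb7 yb53 zb48) (kb xb22 yb34 zb24) (kb xb24 yb40 zb21) (kb xb7 yb53 zb49) (kb xb23 yb36 zb48) (kb xb8 yb45 zb21) (kb xb24 yb40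 zb28) (kb xb10 yb20 zb58) (kb xb7 yb53 zb50) (kb xb10 yb22 zb36) (kb xb18 yb58 zb60) (kb xb16 yb35 zb6) (kb xb10 yb22 zb55) (kb xb7 yb53 zb52) (kb xb18 yb47 zb49) (kb xb24 yb40 zb35) (kb xb7 yb53 zb53) (kb xb24 yb40 zb37) (kb xb18 yb50 zb20) (kb xb24 yb40 zb39) (kb xb13 yb14 zb46) (kb xb24 yb40 zb40) (kb xb14 yb56 zb52) (kb xb23 yb6 zb14) (kb xb7 yb53 zb57) (kb xb22 yb8 zb3) (kb xb24 yb40 zb47) (kb xb14 yb55 zb23) (kb xb23 yb22 zb46) (kb xb24 yb40 zb53) (kb xb24 yb40 zb56) (kb xb7 yb53 zb61)) (@D3.rec (fun _ => Pt) (kb xb7 yb53 zb60) (kb xb24 yb41 zb2) (kb xb10 yb38 zb24) (kb xb12 yb40 zb11) (kb xb24 yb40 zb61) (kb xb13 yb53 zb13) (kb xb12 yb32 zb52) (kb xb24 yb41 zb8) (kb xb14 yb54 zb32) (kb xb14 yb38 zb24) (kb xb14 yb20 zb34) (kb xb14 yb49 zb48) (kb xb12 yb25 zb30)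 (kb xb24 yb10 zb4) (kb xb14 yb55 zb42) (kb xb14 yb49 zb50) (kb xb17 yb16 zb1) (kb xb24 yb41 zb19) (kb xb7 yb54 zb9) (kb xb7 yb54 zb8) (kb xb24 yb41 zb24) (kb xb21 yb46 zb41) (kb xb24 yb32 zb33) (kb xb16 yb2 zb52) (kb xb7 yb54 zb10) (kb xb21 yb32 zb0) (kb xb8 yb35 zb8) (kb xb7 yb54 zb11) (kb xb24 yb41 zb35) (kb xb24 yb41 zb34) (kb xb12 yb25 zb17) (kb xb7 yb54 zb12) (kb xb14 yb54 zb8) (kb xb15 yb46 zb10) (kb xb24 yb41 zb40) (kb xb7 yb54 zb27) (kb xb14 yb56 zb6) (kb xb24 yb41 zb44) (kb xb7 yb54 zb16) (kb xb7 yb54 zb15) (kb xb24 yb41 zb49) (kb xb12 yb3 zb27) (kb xb19 yb5 zb52) (kb xb12 yb48 zb20) (kb xb14 yb55 zb60) (kb xb24 yb41 zb53) (kb xb7 yb54 zb19) (kb xb7 yb54 zb18) (kb xb11 yb19 zb35) (kb xb24 yb42 zb0) (kb xb24 yb41 zb57) (kb xb7 yb54 zb20) (kb xb24 yb42 zb6) (kb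 xb7 yb54 zb21) (kb xb15 yb45 zb15) (kb xb21 yb46 zb43) (kb xb13 yb53 zb30) (kb xb7 yb54 zb23) (kb xb7 yb54 zb24) (kb xb21 yb19 zb13) (kb xb7 yb54 zb25) (kb xb24 yb42 zb20)) (@D3.rec (fun _ => Pt) (kb xb12 yb7 zb56) (kb xb14 yb50 zb58) (kb xb22 yb45 zb55) (kb xb14 yb55 zb9) (kb xb24 yb42 zb25) (kb xb14 yb55 zb19) (kb xb7 yb54 zb31) (kb xb24 yb42 zb28) (kb xb24 yb42 zb30) (kb xb14 yb55 zb3) (kb xb7 yb54 zb34) (kb xb14 yb53 zb29) (kb xb24 yb42 zb31) (kb xb24 yb42 zb33) (kb xb7 yb54 zb36) (kb xb22 yb45 zb45) (kb xb14 yb29 zb14) (kb xb7 yb54 zb38) (kb xb24 yb42 zb36) (kb xb14 yb55 zb5) (kb xb7 yb54 zb40) (kb xb24 yb42 zb40) (kb xb23 yb36 zb12) (kb xb14 yb53 zb57) (kb xb23 yb36 zb24) (kb xb24 yb42 zb47) (kb xb7 yb54 zb44) (kb xb24 yb42 zb49) (kb xb17 yb29 zb20) (kb xb16 yb2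 zb54) (kb xb21 yb43 zb4) (kb xb7 yb54 zb46) (kb xb14 yb2 zb24) (kb xb24 yb42 zb54) (kb xb12 yb16 zb39) (kb xb7 yb54 zb49) (kb xb24 yb42 zb60) (kb xb24 yb43 zb1) (kb xb7 yb54 zb50) (kb xb21 yb40 zb50) (kb xb21 yb57 zb7) (kb xb14 yb46 zb12) (kb xb14 yb54 zb14) (kb xb24 yb43 zb6) (kb xb9 yb34 zb48) (kb xb24 yb43 zb9) (kb xb7 yb54 zb55) (kb xb7 yb54 zb54) (kb xb24 yb43 zb18) (kb xb24 yb36 zb15) (kb xb21 yb56 zb29) (kb xb24 yb43 zb14) (kb xb7 yb54 zb56) (kb xb17 yb42 zb5) (kb xb7 yb54 zb57) (kb xb20 yb52 zb10) (kb xb17 yb33 zb20) (kb xb8 yb20 zb13) (kb xb24 yb43 zb25) (kb xb7 yb55 zb9) (kb xb14 yb54 zb44) (kb xb24 yb43 zb29)) (@D3.rec (fun _ => Pt) (kb xb7 yb54 zb61) (kb xb7 yb54 zb60) (kb xb12 yb13 zb11) (kb xb21 yb8 zb34) (kb xb20 yb16 zb25) (kb xb21 yb55 zb58) (kb xb14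 yb54 zb36) (kb xb16 yb14 zb61) (kb xb7 yb55 zb2) (kb xb7 yb55 zb1) (kb xb24 yb43 zb39) (kb xb21 yb31 zb22) (kb xb24 yb43 zb36) (kb xb9 yb29 zb43) (kb xb24 yb43 zb41) (kb xb23 yb23 zb44) (kb xb7 yb55 zb4) (kb xb7 yb55 zb5) (kb xb24 yb43 zb47) (kb xb21 yb1 zb15) (kb xb7 yb55 zb6) (kb xb24 yb43 zb53) (kb xb19 yb47 zb55) (kb xb19 yb47 zb58) (kb xb7 yb55 zb7) (kb xb24 yb43 zb58) (kb xb24 yb43 zb57) (kb xb20 yb54 zb37) (kb xb24 yb43 zb59) (kb xb24 yb44 zb0) (kb xb8 yb3 zb35) (kb xb13 yb26 zb31) (kb xb13 yb15 zb11) (kb xb22 yb28 zb17) (kb xb13 yb26 zb20) (kb xb14 yb3 zb44) (kb xb7 yb55 zb12) (kb xb16 yb16 zb39) (kb xb13 yb21 zb23) (kb xb24 yb44 zb6) (kb xb8 yb40 zb49) (kb xb23 yb36 zb35) (kb xb7 yb55 zb16) (kb xb8 yb43 zb16) (kb xb8 yb42 zb12) (kb xb15 yb19 zb3) (kb xb16 yb14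 zb57) (kb xb23 yb58 zb24) (kb xb13 yb4 zb35) (kb xb7 yb55 zb20) (kb xb24 yb44 zb12) (kb xb24 yb44 zb16) (kb xb14 yb53 zb52) (kb xb22 yb36 zb23) (kb xb24 yb44 zb22) (kb xb7 yb55 zb24) (kb xb20 yb36 zb7) (kb xb15 yb57 zb4) (kb xb8 yb22 zb34) (kb xb8 yb16 zb47) (kb xb24 yb44 zb28) (kb xb23 yb35 zb55)) (@D3.rec (fun _ => Pt) (kb xb8 yb40 zb27) (kb xb7 yb55 zb28) (kb xb24 yb44 zb34) (kb xb7 yb55 zb30) (kb xb20 yb47 zb35) (kb xb17 yb13 zb22) (kb xb8 yb17 zb6) (kb xb7 yb55 zb37) (kb xb19 yb35 zb56) (kb xb24 yb44 zb39) (kb xb8 yb40 zb40) (kb xb7 yb55 zb34) (kb xb18 yb37 zb40) (kb xb7 yb55 zb35) (kb xb12 yb58 zb58) (kb xb24 yb44 zb43) (kb xb8 yb20 zb61) (kb xb24 yb44 zb45) (kb xb18 yb5 zb20) (kb xb8 yb40 zb59) (kb xb7 yb55 zb39) (kb xb24 yb44 zb52) (kb xb24 yb44 zb53) (kb xb17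 yb43 zb48) (kb xb12 yb18 zb2) (kb xb7 yb55 zb47) (kb xb21 yb26 zb30) (kb xb21 yb26 zb34) (kb xb24 yb44 zb61) (kb xb8 yb22 zb19) (kb xb21 yb56 zb13) (kb xb10 yb47 zb59) (kb xb7 yb55 zb49) (kb xb21 yb33 zb49) (kb xb20 yb16 zb17) (kb xb9 yb39 zb7) (kb xb8 yb41 zb47) (kb xb7 yb55 zb52) (kb xb15 yb37 zb45) (kb xb17 yb39 zb30) (kb xb15 yb59 zb44) (kb xb18 yb4 zb36) (kb xb8 yb41 zb55) (kb xb7 yb55 zb54) (kb xb7 yb55 zb55) (kb xb24 yb45 zb8) (kb xb24 yb45 zb11) (kb xb21 yb58 zb29) (kb xb8 yb42 zb0) (kb xb24 yb45 zb13) (kb xb7 yb55 zb56) (kb xb24 yb45 zb20) (kb xb24 yb45 zb17) (kb xb17 yb36 zb61) (kb xb7 yb55 zb57) (kb xb16 yb6 zb11) (kb xb12 yb19 zb51) (kb xb8 yb42 zb11) (kb xb24 yb45 zb30) (kb xb24 yb45 zb31) (kb xb7 yb55 zb61) (kb xb7 yb56 zb0)) (@D3.rec (fun _ => Pt) (kb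 xb24 yb45 zb35) (kb xb24 yb45 zb37) (kb xb18 yb30 zb27) (kb xb24 yb45 zb34) (kb xb7 yb56 zb1) (kb xb24 yb45 zb43) (kb xb20 yb56 zb45) (kb xb8 yb20 zb6) (kb xb8 yb20 zb7) (kb xb8 yb6 zb2) (kb xb8 yb18 zb11) (kb xb15 yb51 zb19) (kb xb8 yb24 zb7) (kb xb7 yb56 zb11) (kb xb24 yb45 zb48) (kb xb21 yb32 zb48) (kb xb8 yb42 zb41) (kb xb7 yb56 zb9) (kb xb23 yb36 zb58) (kb xb22 yb14 zb48) (kb xb16 yb8 zb6) (kb xb8 yb42 zb54) (kb xb17 yb54 zb5) (kb xb7 yb56 zb16) (kb xb21 yb15 zb4) (kb xb24 yb45 zb53) (kb xb22 yb52 zb34) (kb xb18 yb36 zb2) (kb xb24 yb45 zb58) (kb xb24 yb45 zb7) (kb xb18 yb21 zb48) (kb xb24 yb45 zb60) (kb xb10 yb14 zb53) (kb xb17 yb44 zb4) (kb xb7 yb56 zb21) (kb xb8 yb3 zb57) (kb xb20 yb8 zb22) (kb xb13 yb42 zb1) (kb xb13 yb41 zb38) (kb xb18 yb38 zb41) (kb xb16 yb53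 zb6) (kb xb24 yb46 zb4) (kb xb18 yb49 zb0) (kb xb8 yb44 zb34) (kb xb24 yb46 zb9) (kb xb11 yb23 zb25) (kb xb7 yb56 zb26) (kb xb10 yb38 zb3) (kb xb22 yb29 zb16) (kb xb23 yb9 zb10) (kb xb14 yb3 zb37) (kb xb7 yb56 zb27) (kb xb24 yb46 zb14) (kb xb24 yb46 zb15) (kb xb8 yb42 zb14) (kb xb21 yb13 zb20) (kb xb18 yb15 zb46) (kb xb7 yb56 zb38) (kb xb7 yb56 zb39) (kb xb8 yb44 zb52) (kb xb10 yb40 zb21) (kb xb7 yb56 zb31)) (@D3.rec (fun _ => Pt) (kb xb24 yb46 zb11) (kb xb13 yb31 zb24) (kb xb24 yb46 zb31) (kb xb17 yb44 zb35) (kb xb7 yb56 zb33) (kb xb13 yb18 zb28) (kb xb8 yb52 zb43) (kb xb24 yb46 zb38) (kb xb24 yb44 zb8) (kb xb24 yb46 zb39) (kb xb8 yb45 zb5) (kb xb7 yb56 zb35) (kb xb24 yb46 zb43) (kb xb24 yb46 zb45) (kb xb24 yb46 zb41) (kb xb24 yb46 zb42) (kb xb7 yb56 zb36) (kb xb24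 yb46 zb51) (kb xb21 yb44 zb38) (kb xb22 yb50 zb30) (kb xb7 yb56 zb37) (kb xb24 yb46 zb54) (kb xb24 yb46 zb25) (kb xb24 yb40 zb27) (kb xb20 yb7 zb24) (kb xb12 yb22 zb26) (kb xb9 yb8 zb3) (kb xb9 yb26 zb23) (kb xb9 yb9 zb36) (kb xb22 yb29 zb3) (kb xb23 yb3 zb30) (kb xb7 yb56 zb46) (kb xb24 yb46 zb60) (kb xb24 yb46 zb61) (kb xb9 yb8 zb4) (kb xb8 yb46 zb43) (kb xb11 yb44 zb45) (kb xb9 yb8 zb27) (kb xb20 yb1 zb11) (kb xb7 yb56 zb55) (kb xb21 yb29 zb29) (kb xb19 yb49 zb16) (kb xb19 yb49 zb17) (kb xb21 yb12 zb18) (kb xb16 yb57 zb35) (kb xb24 yb47 zb9) (kb xb11 yb1 zb39) (kb xb7 yb57 zb3) (kb xb11 yb7 zb47) (kb xb11 yb7 zb48) (kb xb20 yb18 zb45) (kb xb20 yb18 zb46) (kb xb11 yb7 zb50) (kb xb24 yb47 zb13) (kb xb14 yb45 zb23) (kb xb7 yb57 zb4) (kb xb8 yb4 zb43) (kb xb20 yb26 zb19)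 (kb xb16 yb31 zb52) (kb xb16 yb54 zb32) (kb xb7 yb57 zb11) (kb xb13 yb42 zb12))
def f_b_15 : D2 → D3 → Pt := @D2.rec (fun _ => D3 → Pt) (@D3.rec (fun _ => Pt) (kb xb20 yb9 zb11) (kb xb24 yb47 zb20) (kb xb17 yb15 zb27) (kb xb8 yb49 zb42) (kb xb7 yb57 zb18) (kb xb21 yb37 zb36) (kb xb8 yb49 zb58) (kb xb13 yb50 zb38) (kb xb14 yb4 zb21) (kb xb12 yb3 zb40) (kb xb10 yb58 zb41) (kb xb16 yb30 zb52) (kb xb16 yb30 zb50) (kb xb7 yb57 zb22) (kb xb24 yb47 zb29) (kb xb24 yb47 zb30) (kb xb7 yb57 zb23) (kb xb24 yb36 zb26) (kb xb22 yb52 zb4) (kb xb14 yb44 zb30) (kb xb24 yb47 zb34) (kb xb8 yb51 zb0) (kb xb7 yb57 zb26) (kb xb7 yb57 zb27) (kb xb20 yb6 zb32) (kb xb24 yb47 zb32) (kb xb24 yb47 zb49) (kb xb22 yb42 zb23) (kb xb11 yb13 zb46) (kb xb24 yb47 zb43) (kb xb21 yb11 zb49) (kb xb7 yb57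 zb29) (kb xb7 yb57 zb30) (kb xb24 yb47 zb54) (kb xb24 yb47 zb53) (kb xb7 yb57 zb31) (kb xb24 yb47 zb59) (kb xb24 yb47 zb60) (kb xb7 yb57 zb32) (kb xb24 yb48 zb3) (kb xb24 yb48 zb4) (kb xb17 yb47 zb54) (kb xb24 yb48 zb9) (kb xb15 yb0 zb50) (kb xb7 yb57 zb34) (kb xb24 yb48 zb16) (kb xb16 yb34 zb18) (kb xb24 yb48 zb15) (kb xb24 yb48 zb21) (kb xb18 yb15 zb6) (kb xb15 yb0 zb43) (kb xb7 yb57 zb36) (kb xb24 yb48 zb29) (kb xb18 yb15 zb7) (kb xb7 yb57 zb37) (kb xb24 yb48 zb34) (kb xb24 yb48 zb35) (kb xb7 yb57 zb39) (kb xb15 yb2 zb12) (kb xb24 yb48 zb38) (kb xb7 yb57 zb41) (kb xb24 yb48 zb44)) (@D3.rec (fun _ => Pt) (kb xb24 yb48 zb45) (kb xb9 yb40 zb45) (kb xb18 yb2 zb39) (kb xb10 yb40 zb56) (kb xb10 yb40 zb57) (kb xb9 yb40 zb49) (kb xb10 yb41 zb4) (kb xb7 yb58 zb39) (kb xb24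 yb48 zb55) (kb xb7 yb58 zb34) (kb xb7 yb57 zb46) (kb xb7 yb57 zb47) (kb xb24 yb49 zb1) (kb xb24 yb49 zb2) (kb xb7 yb57 zb49) (kb xb24 yb49 zb8) (kb xb7 yb58 zb1) (kb xb7 yb57 zb51) (kb xb24 yb49 zb12) (kb xb8 yb42 zb37) (kb xb15 yb51 zb20) (kb xb7 yb57 zb54) (kb xb24 yb49 zb17) (kb xb24 yb49 zb18) (kb xb11 yb2 zb56) (kb xb11 yb8 zb48) (kb xb9 yb41 zb18) (kb xb7 yb57 zb56) (kb xb24 yb49 zb28) (kb xb24 yb49 zb29) (kb xb7 yb57 zb57) (kb xb24 yb49 zb35) (kb xb24 yb49 zb36) (kb xb24 yb49 zb39) (kb xb24 yb49 zb41) (kb xb24 yb48 zb33) (kb xb7 yb57 zb59) (kb xb7 yb57 zb60) (kb xb24 yb49 zb47) (kb xb17 yb49 zb58) (kb xb22 yb21 zb38) (kb xb24 yb33 zb17) (kb xb24 yb49 zb45) (kb xb24 yb49 zb46) (kb xb24 yb49 zb58) (kb xb9 yb41 zb37) (kb xb20 yb57 zb47) (kb xb16 yb11 zb8) (kb xb20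 yb57 zb46) (kb xb7 yb58 zb3) (kb xb24 yb50 zb4) (kb xb7 yb58 zb9) (kb xb17 yb43 zb9) (kb xb19 yb32 zb45) (kb xb19 yb42 zb17) (kb xb7 yb58 zb6) (kb xb7 yb58 zb7) (kb xb24 yb50 zb13) (kb xb24 yb48 zb47) (kb xb17 yb22 zb51) (kb xb24 yb50 zb16) (kb xb24 yb50 zb17)) (@D3.rec (fun _ => Pt) (kb xb24 yb50 zb28) (kb xb7 yb58 zb17) (kb xb7 yb58 zb11) (kb xb24 yb50 zb33) (kb xb24 yb50 zb35) (kb xb24 yb50 zb37) (kb xb24 yb48 zb43) (kb xb7 yb58 zb13) (kb xb7 yb58 zb14) (kb xb19 yb55 zb31) (kb xb10 yb15 zb42) (kb xb24 yb50 zb45) (kb xb15 yb0 zb58) (kb xb24 yb50 zb41) (kb xb19 yb32 zb61) (kb xb9 yb42 zb19) (kb xb16 yb46 zb21) (kb xb7 yb58 zb51) (kb xb7 yb58 zb25) (kb xb24 yb50 zb50) (kb xb19 yb42 zb31) (kb xb10 yb40 zb52) (kb xb7 yb58 zb20) (kb xb7 yb58 zb21) (kb xb24 yb50 zb55) (kb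 xb24 yb51 zb2) (kb xb24 yb51 zb5) (kb xb24 yb50 zb58) (kb xb24 yb50 zb59) (kb xb12 yb57 zb58) (kb xb7 yb58 zb52) (kb xb24 yb51 zb12) (kb xb9 yb49 zb18) (kb xb10 yb40 zb49) (kb xb24 yb49 zb4) (kb xb16 yb39 zb13) (kb xb7 yb58 zb27) (kb xb7 yb58 zb28) (kb xb24 yb51 zb22) (kb xb15 yb19 zb57) (kb xb24 yb51 zb15) (kb xb24 yb51 zb28) (kb xb24 yb51 zb30) (kb xb15 yb19 zb59) (kb xb7 yb58 zb30) (kb xb7 yb58 zb31) (kb xb24 yb51 zb38) (kb xb24 yb51 zb41) (kb xb24 yb51 zb42) (kb xb7 yb58 zb32) (kb xb17 yb34 zb33) (kb xb24 yb51 zb50) (kb xb7 yb58 zb33) (kb xb20 yb5 zb10) (kb xb24 yb27 zb16) (kb xb24 yb48 zb59) (kb xb18 yb2 zb21) (kb xb16 yb39 zb15) (kb xb24 yb51 zb56) (kb xb7 yb58 zb36) (kb xb24 yb51 zb58) (kb xb7 yb58 zb37)) (@D3.rec (fun _ => Pt) (kb xb24 yb51 zb61) (kb xb7 yb58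 zb38) (kb xb24 yb32 zb60) (kb xb15 yb19 zb58) (kb xb10 yb40 zb46) (kb xb24 yb48 zb54) (kb xb19 yb42 zb45) (kb xb24 yb52 zb11) (kb xb24 yb52 zb14) (kb xb19 yb42 zb48) (kb xb7 yb58 zb42) (kb xb24 yb52 zb19) (kb xb24 yb52 zb18) (kb xb16 yb51 zb17) (kb xb10 yb58 zb2) (kb xb9 yb34 zb47) (kb xb24 yb52 zb25) (kb xb10 yb58 zb5) (kb xb10 yb58 zb6) (kb xb7 yb58 zb46) (kb xb24 yb52 zb29) (kb xb19 yb5 zb13) (kb xb7 yb58 zb47) (kb xb24 yb52 zb31) (kb xb24 yb52 zb30) (kb xb7 yb58 zb50) (kb xb12 yb15 zb26) (kb xb7 yb58 zb56) (kb xb7 yb58 zb57) (kb xb7 yb58 zb55) (kb xb24 yb52 zb39) (kb xb24 yb52 zb40) (kb xb8 yb21 zb29) (kb xb24 yb52 zb35) (kb xb24 yb52 zb36) (kb xb7 yb58 zb60) (kb xb7 yb58 zb61) (kb xb7 yb58 zb59) (kb xb24 yb52 zb47) (kb xb24 yb52 zb48) (kb xb24 yb52 zb52) (kb xb7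 yb59 zb1) (kb xb15 yb43 zb36) (kb xb16 yb3 zb52) (kb xb9 yb46 zb5) (kb xb9 yb46 zb9) (kb xb11 yb2 zb1) (kb xb12 yb7 zb50) (kb xb8 yb43 zb54) (kb xb9 yb45 zb55) (kb xb9 yb45 zb11) (kb xb13 yb40 zb61) (kb xb8 yb42 zb57) (kb xb7 yb59 zb15) (kb xb24 yb53 zb0) (kb xb10 yb29 zb25) (kb xb9 yb31 zb28) (kb xb10 yb44 zb30) (kb xb9 yb29 zb17) (kb xb14 yb46 zb34) (kb xb24 yb53 zb3) (kb xb7 yb59 zb28)) (@D3.rec (fun _ => Pt) (kb xb7 yb59 zb25) (kb xb22 yb18 zb17) (kb xb23 yb4 zb39) (kb xb12 yb54 zb47) (kb xb9 yb45 zb43) (kb xb24 yb53 zb5) (kb xb7 yb59 zb29) (kb xb11 yb19 zb11) (kb xb20 yb59 zb28) (kb xb21 yb37 zb48) (kb xb24 yb53 zb8) (kb xb11 yb19 zb44) (kb xb9 yb45 zb51) (kb xb7 yb59 zb35) (kb xb16 yb30 zb2) (kb xb11 yb6 zb36) (kb xb16 yb54 zb59) (kb xb10 yb57 zb53) (kb xb7 yb59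 zb38) (kb xb18 yb41 zb55) (kb xb9 yb0 zb22) (kb xb9 yb29 zb23) (kb xb24 yb53 zb14) (kb xb11 yb8 zb19) (kb xb9 yb0 zb23) (kb xb7 yb59 zb42) (kb xb11 yb58 zb38) (kb xb7 yb59 zb43) (kb xb16 yb55 zb52) (kb xb24 yb53 zb17) (kb xb7 yb59 zb50) (kb xb19 yb39 zb46) (kb xb24 yb53 zb18) (kb xb20 yb20 zb6) (kb xb11 yb21 zb54) (kb xb7 yb59 zb51) (kb xb19 yb32 zb57) (kb xb23 yb3 zb36) (kb xb8 yb47 zb10) (kb xb8 yb45 zb45) (kb xb7 yb59 zb61) (kb xb21 yb15 zb23) (kb xb13 yb18 zb8) (kb xb8 yb38 zb16) (kb xb20 yb1 zb14) (kb xb9 yb46 zb21) (kb xb8 yb0 zb6) (kb xb22 yb47 zb21) (kb xb8 yb0 zb17) (kb xb24 yb14 zb41) (kb xb8 yb0 zb12) (kb xb21 yb10 zb59) (kb xb11 yb36 zb52) (kb xb23 yb10 zb0) (kb xb17 yb57 zb15) (kb xb8 yb0 zb15) (kb xb20 yb19 zb40) (kb xb24 yb14 zb42) (kb xb9 yb48 zb41)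 (kb xb19 yb31 zb13) (kb xb23 yb11 zb10) (kb xb8 yb0 zb21)) (@D3.rec (fun _ => Pt) (kb xb20 yb0 zb23) (kb xb23 yb34 zb30) (kb xb8 yb0 zb22) (kb xb16 yb30 zb44) (kb xb11 yb46 zb21) (kb xb11 yb46 zb23) (kb xb8 yb0 zb26) (kb xb13 yb1 zb20) (kb xb12 yb55 zb29) (kb xb9 yb49 zb22) (kb xb16 yb24 zb40) (kb xb9 yb25 zb48) (kb xb24 yb18 zb61) (kb xb8 yb0 zb35) (kb xb11 yb44 zb42) (kb xb12 yb24 zb5) (kb xb8 yb0 zb38) (kb xb24 yb53 zb36) (kb xb8 yb0 zb40) (kb xb20 yb49 zb12) (kb xb12 yb49 zb30) (kb xb17 yb6 zb40) (kb xb8 yb0 zb46) (kb xb12 yb10 zb50) (kb xb8 yb0 zb45) (kb xb11 yb21 zb4) (kb xb19 yb27 zb53) (kb xb9 yb50 zb22) (kb xb8 yb0 zb56) (kb xb11 yb24 zb10) (kb xb8 yb0 zb50) (kb xb16 yb30 zb43) (kb xb11 yb6 zb22) (kb xb20 yb2 zb8) (kb xb9 yb50 zb53) (kb xb14 yb14 zb14) (kb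 xb9 yb24 zb50) (kb xb9 yb22 zb50) (kb xb20 yb52 zb32) (kb xb24 yb53 zb43) (kb xb24 yb53 zb44) (kb xb9 yb50 zb61) (kb xb8 yb0 zb59) (kb xb8 yb1 zb0) (kb xb19 yb45 zb47) (kb xb24 yb53 zb45) (kb xb8 yb1 zb5) (kb xb24 yb53 zb49) (kb xb15 yb6 zb60) (kb xb10 yb26 zb42) (kb xb24 yb53 zb55) (kb xb8 yb1 zb12) (kb xb8 yb1 zb13) (kb xb24 yb53 zb60) (kb xb24 yb54 zb1) (kb xb15 yb7 zb36) (kb xb8 yb1 zb9) (kb xb15 yb16 zb35) (kb xb18 yb28 zb26) (kb xb8 yb1 zb10) (kb xb20 yb36 zb33) (kb xb24 yb54 zb6)) (@D3.rec (fun _ => Pt) (kb xb8 yb1 zb11) (kb xb23 yb4 zb2) (kb xb10 yb12 zb60) (kb xb24 yb53 zb57) (kb xb20 yb10 zb47) (kb xb23 yb6 zb19) (kb xb10 yb58 zb61) (kb xb11 yb7 zb33) (kb xb14 yb7 zb39) (kb xb8 yb1 zb16) (kb xb10 yb52 zb43) (kb xb20 yb36 zb22) (kb xb23 yb27 zb25) (kb xb12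 yb49 zb36) (kb xb10 yb1 zb8) (kb xb21 yb11 zb39) (kb xb8 yb1 zb18) (kb xb18 yb38 zb60) (kb xb24 yb54 zb21) (kb xb8 yb1 zb19) (kb xb23 yb6 zb54) (kb xb21 yb53 zb36) (kb xb12 yb53 zb3) (kb xb8 yb1 zb22) (kb xb8 yb1 zb23) (kb xb24 yb54 zb33) (kb xb24 yb54 zb23) (kb xb24 yb54 zb35) (kb xb18 yb49 zb34) (kb xb17 yb2 zb34) (kb xb15 yb8 zb40) (kb xb16 yb32 zb20) (kb xb8 yb1 zb25) (kb xb8 yb1 zb26) (kb xb24 yb54 zb41) (kb xb24 yb54 zb40) (kb xb24 yb54 zb28) (kb xb19 yb55 zb55) (kb xb20 yb6 zb0) (kb xb8 yb19 zb26) (kb xb16 yb1 zb7) (kb xb9 yb38 zb43) (kb xb8 yb1 zb30) (kb xb11 yb8 zb38) (kb xb17 yb39 zb34) (kb xb8 yb1 zb33) (kb xb9 yb37 zb21) (kb xb24 yb54 zb48) (kb xb8 yb1 zb34) (kb xb24 yb54 zb52) (kb xb23 yb49 zb55) (kb xb21 yb58 zb37) (kb xb16 yb14 zb3) (kb xb8 yb1 zb35)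 (kb xb17 yb38 zb58) (kb xb24 yb54 zb60) (kb xb24 yb54 zb61) (kb xb9 yb38 zb21) (kb xb22 yb35 zb10) (kb xb24 yb55 zb7) (kb xb15 yb5 zb48) (kb xb8 yb1 zb39)) (@D3.rec (fun _ => Pt) (kb xb22 yb18 zb51) (kb xb24 yb55 zb18) (kb xb24 yb55 zb16) (kb xb8 yb6 zb48) (kb xb8 yb1 zb42) (kb xb8 yb43 zb49) (kb xb11 yb12 zb54) (kb xb8 yb44 zb23) (kb xb24 yb55 zb27) (kb xb18 yb58 zb35) (kb xb8 yb1 zb50) (kb xb8 yb44 zb22) (kb xb17 yb41 zb27) (kb xb14 yb25 zb31) (kb xb11 yb12 zb56) (kb xb11 yb6 zb46) (kb xb24 yb55 zb39) (kb xb12 yb22 zb60) (kb xb8 yb1 zb53) (kb xb24 yb55 zb48) (kb xb24 yb55 zb45) (kb xb9 yb38 zb30) (kb xb21 yb15 zb12) (kb xb24 yb55 zb59) (kb xb24 yb56 zb0) (kb xb8 yb1 zb55) (kb xb24 yb56 zb5) (kb xb24 yb56 zb6) (kb xb9 yb38 zb24) (kb xb20 yb20 zb28) (kb xb16 yb23 zb6)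 (kb xb8 yb2 zb1) (kb xb8 yb2 zb2) (kb xb8 yb2 zb3) (kb xb24 yb56 zb20) (kb xb24 yb56 zb23) (kb xb15 yb5 zb55) (kb xb8 yb1 zb60) (kb xb24 yb56 zb28) (kb xb24 yb56 zb29) (kb xb8 yb1 zb61) (kb xb22 yb46 zb25) (kb xb9 yb58 zb60) (kb xb8 yb2 zb0) (kb xb9 yb40 zb5) (kb xb24 yb56 zb16) (kb xb24 yb56 zb36) (kb xb24 yb56 zb39) (kb xb24 yb56 zb18) (kb xb18 yb40 zb42) (kb xb8 yb2 zb6) (kb xb9 yb8 zb26) (kb xb8 yb46 zb37) (kb xb8 yb48 zb12) (kb xb11 yb36 zb17) (kb xb8 yb25 zb59) (kb xb18 yb43 zb0) (kb xb8 yb3 zb14) (kb xb23 yb20 zb49) (kb xb8 yb44 zb8) (kb xb8 yb49 zb16) (kb xb8 yb47 zb43)) (@D3.rec (fun _ => Pt) (kb xb21 yb11 zb18) (kb xb22 yb48 zb61) (kb xb21 yb11 zb8) (kb xb11 yb33 zb0) (kb xb11 yb33 zb25) (kb xb24 yb47 zb27) (kb xb12 yb22 zb61) (kb xb12 yb23 zb3) (kb xb9 yb14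 zb4) (kb xb8 yb2 zb26) (kb xb24 yb56 zb59) (kb xb8 yb2 zb27) (kb xb24 yb56 zb60) (kb xb18 yb23 zb51) (kb xb8 yb2 zb28) (kb xb20 yb25 zb27) (kb xb16 yb32 zb47) (kb xb20 yb0 zb43) (kb xb8 yb2 zb33) (kb xb11 yb33 zb4) (kb xb8 yb2 zb32) (kb xb24 yb5 zb26) (kb xb11 yb33 zb8) (kb xb24 yb57 zb14) (kb xb13 yb28 zb43) (kb xb24 yb57 zb16) (kb xb24 yb57 zb18) (kb xb24 yb57 zb6) (kb xb11 yb33 zb27) (kb xb11 yb37 zb16) (kb xb16 yb33 zb32) (kb xb8 yb2 zb35) (kb xb8 yb2 zb36) (kb xb24 yb57 zb29) (kb xb24 yb57 zb0) (kb xb24 yb57 zb31) (kb xb24 yb57 zb26) (kb xb24 yb57 zb3) (kb xb24 yb57 zb28) (kb xb24 yb53 zb22) (kb xb15 yb6 zb30) (kb xb16 yb33 zb39) (kb xb8 yb2 zb38) (kb xb8 yb2 zb39) (kb xb24 yb57 zb41) (kb xb24 yb57 zb38) (kb xb10 yb59 zb13) (kb xb24 yb57 zb39) (kb xb24 yb57 zb40)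 (kb xb8 yb2 zb40) (kb xb24 yb57 zb44) (kb xb8 yb2 zb41) (kb xb18 yb56 zb16) (kb xb8 yb2 zb42) (kb xb8 yb3 zb0) (kb xb10 yb39 zb39) (kb xb9 yb43 zb61) (kb xb18 yb41 zb52) (kb xb18 yb50 zb59) (kb xb8 yb2 zb45) (kb xb9 yb59 zb1) (kb xb8 yb2 zb46)) (@D3.rec (fun _ => Pt) (kb xb19 yb37 zb60) (kb xb10 yb33 zb11) (kb xb11 yb52 zb47) (kb xb10 yb33 zb43) (kb xb24 yb57 zb57) (kb xb24 yb58 zb0) (kb xb8 yb7 zb6) (kb xb8 yb2 zb50) (kb xb8 yb2 zb51) (kb xb10 yb31 zb26) (kb xb8 yb2 zb59) (kb xb19 yb49 zb13) (kb xb8 yb8 zb18) (kb xb8 yb2 zb55) (kb xb24 yb58 zb12) (kb xb24 yb58 zb13) (kb xb8 yb57 zb13) (kb xb10 yb38 zb55) (kb xb10 yb38 zb56) (kb xb10 yb38 zb57) (kb xb10 yb24 zb57) (kb xb10 yb58 zb59) (kb xb24 yb58 zb19) (kb xb8 yb8 zb42) (kb xb8 yb2 zb61) (kb xb24 yb58 zb26) (kb xb24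 yb58 zb28) (kb xb24 yb58 zb24) (kb xb24 yb58 zb25) (kb xb19 yb15 zb6) (kb xb8 yb3 zb3) (kb xb24 yb58 zb34) (kb xb24 yb58 zb32) (kb xb8 yb3 zb4) (kb xb17 yb48 zb36) (kb xb24 yb58 zb41) (kb xb8 yb3 zb6) (kb xb19 yb31 zb11) (kb xb19 yb6 zb28) (kb xb8 yb55 zb41) (kb xb8 yb34 zb38) (kb xb8 yb3 zb8) (kb xb23 yb50 zb6) (kb xb24 yb55 zb3) (kb xb15 yb12 zb34) (kb xb8 yb3 zb10) (kb xb23 yb50 zb43) (kb xb23 yb51 zb0) (kb xb8 yb3 zb11) (kb xb24 yb58 zb52) (kb xb24 yb58 zb53) (kb xb10 yb2 zb5) (kb xb8 yb10 zb0) (kb xb11 yb34 zb38) (kb xb19 yb48 zb20) (kb xb11 yb34 zb30) (kb xb9 yb38 zb13) (kb xb24 yb59 zb0) (kb xb15 yb12 zb44) (kb xb8 yb3 zb19) (kb xb24 yb59 zb5) (kb xb24 yb59 zb6)) (@D3.rec (fun _ => Pt) (kb xb24 yb55 zb32) (kb xb10 yb3 zb12) (kb xb18 yb29 zb58) (kb xb8 yb3 zb24)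 (kb xb24 yb59 zb13) (kb xb24 yb59 zb17) (kb xb24 yb59 zb12) (kb xb18 yb29 zb13) (kb xb8 yb3 zb29) (kb xb24 yb59 zb21) (kb xb24 yb59 zb23) (kb xb22 yb35 zb37) (kb xb20 yb32 zb7) (kb xb24 yb59 zb27) (kb xb15 yb23 zb48) (kb xb15 yb23 zb49) (kb xb24 yb59 zb33) (kb xb18 yb28 zb41) (kb xb8 yb3 zb37) (kb xb24 yb59 zb36) (kb xb18 yb40 zb35) (kb xb24 yb59 zb35) (kb xb8 yb38 zb18) (kb xb10 yb2 zb51) (kb xb16 yb10 zb32) (kb xb18 yb28 zb9) (kb xb8 yb3 zb42) (kb xb8 yb3 zb43) (kb xb16 yb25 zb50) (kb xb24 yb59 zb48) (kb xb24 yb59 zb44) (kb xb24 yb59 zb45) (kb xb8 yb3 zb44) (kb xb14 yb4 zb12) (kb xb24 yb59 zb54) (kb xb24 yb59 zb55) (kb xb8 yb3 zb54) (kb xb15 yb13 zb51) (kb xb8 yb3 zb47) (kb xb20 yb4 zb46) (kb xb8 yb38 zb28) (kb xb20 yb0 zb35) (kb xb18 yb27 zb5) (kb xb8 yb3 zb49) (kb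 xb16 yb12 zb24) (kb xb24 yb59 zb60) (kb xb18 yb28 zb18) (kb xb15 yb12 zb22) (kb xb15 yb13 zb54) (kb xb8 yb3 zb51) (kb xb18 yb37 zb1) (kb xb18 yb28 zb39) (kb xb15 yb14 zb13) (kb xb14 yb8 zb32) (kb xb8 yb3 zb52) (kb xb25 yb0 zb6) (kb xb8 yb3 zb53) (kb xb25 yb0 zb9) (kb xb23 yb18 zb12) (kb xb16 yb12 zb11) (kb xb18 yb20 zb7) (kb xb23 yb14 zb37)) (@D3.rec (fun _ => Pt) (kb xb10 yb20 zb27) (kb xb24 yb46 zb1) (kb xb15 yb30 zb51) (kb xb8 yb36 zb28) (kb xb8 yb4 zb2) (kb xb8 yb3 zb59) (kb xb25 yb0 zb3) (kb xb10 yb7 zb43) (kb xb8 yb3 zb61) (kb xb8 yb4 zb0) (kb xb24 yb29 zb34) (kb xb25 yb0 zb16) (kb xb16 yb19 zb18) (kb xb18 yb53 zb27) (kb xb25 yb0 zb18) (kb xb10 yb7 zb60) (kb xb8 yb4 zb4) (kb xb8 yb4 zb5) (kb xb25 yb0 zb23) (kb xb25 yb0 zb24) (kb xb23 yb33 zb56) (kb xb17 yb44 zb16)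 (kb xb11 yb4 zb34) (kb xb15 yb30 zb58) (kb xb10 yb11 zb36) (kb xb8 yb4 zb14) (kb xb25 yb0 zb32) (kb xb10 yb13 zb38) (kb xb10 yb8 zb22) (kb xb8 yb4 zb11) (kb xb8 yb4 zb12) (kb xb25 yb0 zb34) (kb xb25 yb0 zb38) (kb xb25 yb0 zb40) (kb xb25 yb0 zb35) (kb xb16 yb18 zb34) (kb xb24 yb56 zb22) (kb xb18 yb3 zb40) (kb xb9 yb40 zb15) (kb xb17 yb45 zb38) (kb xb8 yb4 zb20) (kb xb18 yb54 zb26) (kb xb25 yb0 zb47) (kb xb10 yb8 zb41) (kb xb8 yb4 zb17) (kb xb8 yb4 zb18) (kb xb23 yb44 zb37) (kb xb24 yb56 zb2) (kb xb22 yb18 zb54) (kb xb21 yb4 zb35) (kb xb16 yb22 zb10) (kb xb16 yb23 zb20) (kb xb21 yb25 zb34) (kb xb10 yb8 zb52) (kb xb8 yb4 zb22) (kb xb8 yb4 zb23) (kb xb15 yb50 zb30) (kb xb24 yb56 zb11) (kb xb13 yb10 zb57) (kb xb25 yb0 zb54) (kb xb25 yb0 zb36) (kb xb10 yb8 zb59)) (@D3.rec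 (fun _ => Pt) (kb xb8 yb4 zb25) (kb xb8 yb4 zb26) (kb xb15 yb14 zb59) (kb xb25 yb0 zb58) (kb xb10 yb9 zb2) (kb xb25 yb0 zb59) (kb xb8 yb4 zb27) (kb xb25 yb1 zb2) (kb xb25 yb1 zb0) (kb xb16 yb22 zb61) (kb xb19 yb6 zb35) (kb xb8 yb4 zb28) (kb xb18 yb5 zb52) (kb xb23 yb20 zb60) (kb xb25 yb1 zb11) (kb xb10 yb9 zb13) (kb xb24 yb59 zb28) (kb xb23 yb43 zb26) (kb xb8 yb38 zb37) (kb xb8 yb4 zb34) (kb xb8 yb4 zb35) (kb xb8 yb4 zb32) (kb xb15 yb10 zb47) (kb xb8 yb4 zb33) (kb xb25 yb1 zb21) (kb xb21 yb25 zb24) (kb xb18 yb26 zb57) (kb xb23 yb43 zb3) (kb xb25 yb1 zb18) (kb xb18 yb58 zb7) (kb xb10 yb24 zb35) (kb xb10 yb16 zb31) (kb xb17 yb44 zb10) (kb xb25 yb1 zb31) (kb xb15 yb9 zb44) (kb xb8 yb4 zb38) (kb xb25 yb1 zb34) (kb xb25 yb1 zb35) (kb xb19 yb6 zb24) (kb xb20 yb30 zb57) (kb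 xb19 yb59 zb8) (kb xb20 yb32 zb6) (kb xb25 yb1 zb38) (kb xb25 yb1 zb41) (kb xb15 yb9 zb58) (kb xb8 yb4 zb45) (kb xb25 yb1 zb46) (kb xb25 yb1 zb47) (kb xb10 yb38 zb42) (kb xb18 yb45 zb61) (kb xb24 yb56 zb47) (kb xb25 yb1 zb19) (kb xb8 yb4 zb50) (kb xb25 yb1 zb52) (kb xb20 yb32 zb55) (kb xb14 yb45 zb37) (kb xb24 yb29 zb8) (kb xb25 yb0 zb12) (kb xb21 yb2 zb45) (kb xb8 yb4 zb52) (kb xb25 yb1 zb58) (kb xb24 yb59 zb9)) (@D3.rec (fun _ => Pt) (kb xb23 yb20 zb6) (kb xb12 yb9 zb42) (kb xb10 yb17 zb9) (kb xb11 yb35 zb21) (kb xb8 yb4 zb57) (kb xb18 yb18 zb51) (kb xb25 yb2 zb2) (kb xb25 yb2 zb0) (kb xb25 yb2 zb4) (kb xb18 yb18 zb48) (kb xb21 yb2 zb51) (kb xb21 yb2 zb52) (kb xb25 yb2 zb11) (kb xb12 yb9 zb39) (kb xb8 yb5 zb1) (kb xb10 yb16 zb11) (kb xb10 yb4 zb7) (kb xb10 yb16 zb12)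 (kb xb25 yb2 zb16) (kb xb25 yb2 zb13) (kb xb8 yb12 zb29) (kb xb8 yb12 zb30) (kb xb8 yb5 zb6) (kb xb15 yb50 zb9) (kb xb25 yb2 zb24) (kb xb11 yb34 zb43) (kb xb11 yb27 zb41) (kb xb18 yb23 zb58) (kb xb25 yb2 zb30) (kb xb8 yb39 zb4) (kb xb25 yb2 zb35) (kb xb20 yb29 zb61) (kb xb21 yb6 zb26) (kb xb18 yb23 zb40) (kb xb8 yb5 zb11) (kb xb25 yb2 zb38) (kb xb22 yb28 zb9) (kb xb10 yb9 zb16) (kb xb10 yb18 zb0) (kb xb25 yb2 zb43) (kb xb8 yb5 zb23) (kb xb8 yb5 zb24) (kb xb8 yb5 zb25) (kb xb25 yb0 zb22) (kb xb8 yb5 zb16) (kb xb8 yb39 zb7) (kb xb19 yb49 zb61) (kb xb25 yb2 zb52) (kb xb8 yb5 zb18) (kb xb13 yb59 zb20) (kb xb16 yb11 zb4) (kb xb15 yb10 zb37) (kb xb21 yb25 zb33) (kb xb25 yb2 zb56) (kb xb15 yb10 zb48) (kb xb8 yb5 zb20) (kb xb16 yb17 zb46) (kb xb22 yb15 zb51) (kb xb18 yb3 zb58)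 (kb xb23 yb44 zb32) (kb xb8 yb5 zb21) (kb xb25 yb3 zb4)) (@D3.rec (fun _ => Pt) (kb xb25 yb3 zb3) (kb xb8 yb5 zb22) (kb xb25 yb3 zb8) (kb xb25 yb3 zb7) (kb xb25 yb2 zb45) (kb xb13 yb47 zb2) (kb xb19 yb1 zb27) (kb xb25 yb2 zb47) (kb xb8 yb5 zb26) (kb xb19 yb42 zb20) (kb xb10 yb22 zb20) (kb xb10 yb39 zb34) (kb xb15 yb14 zb44) (kb xb15 yb10 zb52) (kb xb8 yb5 zb32) (kb xb24 yb56 zb32) (kb xb25 yb3 zb17) (kb xb18 yb4 zb0) (kb xb8 yb5 zb33) (kb xb18 yb56 zb30) (kb xb25 yb3 zb24) (kb xb15 yb14 zb53) (kb xb8 yb5 zb38) (kb xb25 yb3 zb28) (kb xb25 yb3 zb30) (kb xb14 yb9 zb41) (kb xb24 yb15 zb32) (kb xb18 yb58 zb30) (kb xb10 yb22 zb4) (kb xb10 yb22 zb5) (kb xb8 yb5 zb41) (kb xb25 yb3 zb39) (kb xb16 yb13 zb43) (kb xb9 yb59 zb36) (kb xb25 yb3 zb43) (kb xb10 yb29 zb22) (kb xb8 yb5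 zb45) (kb xb8 yb5 zb46) (kb xb16 yb15 zb19) (kb xb15 yb34 zb50) (kb xb18 yb29 zb2) (kb xb16 yb35 zb3) (kb xb19 yb6 zb29) (kb xb18 yb47 zb12) (kb xb15 yb14 zb12) (kb xb18 yb36 zb59) (kb xb18 yb15 zb5) (kb xb18 yb36 zb41) (kb xb18 yb36 zb42) (kb xb8 yb5 zb55) (kb xb18 yb11 zb14) (kb xb13 yb37 zb25) (kb xb11 yb59 zb56) (kb xb15 yb14 zb21) (kb xb25 yb3 zb58) (kb xb25 yb3 zb60) (kb xb8 yb5 zb59) (kb xb25 yb4 zb0) (kb xb23 yb32 zb47) (kb xb15 yb12 zb2) (kb xb10 yb26 zb20) (kb xb18 yb58 zb18)) (@D3.rec (fun _ => Pt) (kb xb16 yb39 zb18) (kb xb8 yb6 zb1) (kb xb25 yb4 zb6) (kb xb15 yb42 zb51) (kb xb24 yb45 zb46) (kb xb25 yb4 zb8) (kb xb25 yb4 zb10) (kb xb8 yb55 zb56) (kb xb8 yb6 zb5) (kb xb25 yb4 zb14) (kb xb13 yb40 zb0) (kb xb19 yb4 zb60) (kb xb25 yb4 zb17) (kb xb8 yb57 zb4)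 (kb xb8 yb6 zb9) (kb xb8 yb6 zb10) (kb xb25 yb4 zb21) (kb xb25 yb4 zb24) (kb xb25 yb4 zb26) (kb xb25 yb4 zb22) (kb xb24 yb34 zb56) (kb xb25 yb4 zb28) (kb xb10 yb38 zb53) (kb xb25 yb4 zb31) (kb xb8 yb8 zb29) (kb xb25 yb4 zb33) (kb xb25 yb4 zb37) (kb xb10 yb40 zb26) (kb xb8 yb6 zb15) (kb xb8 yb6 zb16) (kb xb25 yb4 zb44) (kb xb25 yb4 zb47) (kb xb25 yb4 zb48) (kb xb8 yb57 zb23) (kb xb25 yb4 zb56) (kb xb8 yb6 zb18) (kb xb25 yb4 zb59) (kb xb13 yb56 zb58) (kb xb10 yb49 zb57) (kb xb25 yb5 zb6) (kb xb8 yb6 zb20) (kb xb25 yb5 zb8) (kb xb21 yb4 zb11) (kb xb15 yb53 zb55) (kb xb18 yb2 zb56) (kb xb8 yb6 zb21) (kb xb8 yb28 zb22) (kb xb25 yb5 zb19) (kb xb25 yb5 zb20) (kb xb17 yb57 zb11) (kb xb24 yb8 zb59) (kb xb8 yb6 zb29) (kb xb8 yb6 zb30) (kb xb8 yb6 zb25) (kb xb25 yb5 zb34) (kb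 xb8 yb6 zb26) (kb xb25 yb5 zb39) (kb xb8 yb6 zb27) (kb xb17 yb36 zb4) (kb xb14 yb32 zb2) (kb xb25 yb5 zb46) (kb xb22 yb54 zb39)) (@D3.rec (fun _ => Pt) (kb xb20 yb5 zb16) (kb xb25 yb5 zb52) (kb xb25 yb5 zb31) (kb xb25 yb5 zb58) (kb xb10 yb46 zb3) (kb xb10 yb46 zb4) (kb xb18 yb53 zb48) (kb xb10 yb3 zb30) (kb xb8 yb6 zb33) (kb xb25 yb6 zb2) (kb xb25 yb6 zb4) (kb xb25 yb6 zb7) (kb xb22 yb9 zb15) (kb xb8 yb6 zb35) (kb xb8 yb6 zb36) (kb xb15 yb56 zb57) (kb xb24 yb16 zb13) (kb xb25 yb6 zb15) (kb xb25 yb6 zb12) (kb xb25 yb6 zb13) (kb xb15 yb31 zb18) (kb xb8 yb6 zb40) (kb xb20 yb55 zb53) (kb xb8 yb38 zb50) (kb xb8 yb6 zb47) (kb xb11 yb57 zb7) (kb xb25 yb6 zb22) (kb xb20 yb56 zb15) (kb xb8 yb6 zb43) (kb xb8 yb6 zb44) (kb xb9 yb15 zb55) (kb xb25 yb6 zb27) (kb xb25 yb6 zb33) (kb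 xb10 yb15 zb5) (kb xb18 yb19 zb28) (kb xb15 yb5 zb57) (kb xb25 yb6 zb35) (kb xb22 yb5 zb51) (kb xb8 yb6 zb51) (kb xb25 yb6 zb39) (kb xb25 yb6 zb41) (kb xb15 yb52 zb22) (kb xb25 yb6 zb38) (kb xb8 yb6 zb52) (kb xb25 yb6 zb46) (kb xb21 yb26 zb42) (kb xb23 yb8 zb49) (kb xb10 yb51 zb53) (kb xb11 yb56 zb11) (kb xb25 yb6 zb50) (kb xb8 yb20 zb4) (kb xb8 yb6 zb56) (kb xb8 yb6 zb57) (kb xb8 yb19 zb40) (kb xb25 yb6 zb55) (kb xb25 yb6 zb56) (kb xb25 yb6 zb57) (kb xb10 yb44 zb44) (kb xb8 yb6 zb59) (kb xb18 yb2 zb26) (kb xb25 yb6 zb59) (kb xb25 yb6 zb61)) (@D3.rec (fun _ => Pt) (kb xb15 yb57 zb19) (kb xb21 yb1 zb5) (kb xb16 yb59 zb21) (kb xb25 yb7 zb5) (kb xb25 yb7 zb7) (kb xb8 yb7 zb2) (kb xb16 yb17 zb6) (kb xb13 yb10 zb26) (kb xb24 yb57 zb55) (kb xb15 yb59 zb37) (kb xb8 yb7 zb4)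 (kb xb25 yb7 zb20) (kb xb25 yb7 zb17) (kb xb25 yb7 zb18) (kb xb25 yb7 zb19) (kb xb8 yb7 zb5) (kb xb21 yb0 zb13) (kb xb8 yb18 zb38) (kb xb25 yb7 zb26) (kb xb24 yb58 zb4) (kb xb25 yb7 zb29) (kb xb25 yb7 zb30) (kb xb8 yb7 zb11) (kb xb8 yb7 zb13) (kb xb8 yb7 zb9) (kb xb25 yb7 zb35) (kb xb8 yb7 zb10) (kb xb21 yb59 zb2) (kb xb25 yb7 zb47) (kb xb25 yb7 zb50) (kb xb21 yb46 zb28) (kb xb21 yb46 zb27) (kb xb8 yb7 zb14) (kb xb8 yb7 zb15) (kb xb25 yb7 zb59) (kb xb16 yb39 zb49) (kb xb19 yb33 zb52) (kb xb8 yb53 zb38) (kb xb8 yb7 zb17) (kb xb8 yb7 zb18) (kb xb25 yb8 zb11) (kb xb25 yb8 zb6) (kb xb25 yb8 zb17) (kb xb25 yb8 zb9) (kb xb25 yb8 zb10) (kb xb11 yb9 zb4) (kb xb8 yb7 zb22) (kb xb25 yb8 zb25) (kb xb25 yb8 zb27) (kb xb25 yb8 zb23) (kb xb25 yb8 zb24) (kb xb8 yb7 zb23) (kb xb21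 yb23 zb53) (kb xb19 yb11 zb61) (kb xb25 yb8 zb34) (kb xb11 yb8 zb60) (kb xb8 yb7 zb27) (kb xb25 yb8 zb40) (kb xb25 yb8 zb39) (kb xb25 yb8 zb47) (kb xb20 yb4 zb41) (kb xb8 yb7 zb29)) (@D3.rec (fun _ => Pt) (kb xb25 yb8 zb53) (kb xb21 yb43 zb15) (kb xb17 yb43 zb11) (kb xb20 yb43 zb47) (kb xb8 yb7 zb34) (kb xb8 yb7 zb35) (kb xb8 yb7 zb32) (kb xb25 yb8 zb59) (kb xb8 yb7 zb33) (kb xb25 yb8 zb60) (kb xb19 yb16 zb15) (kb xb25 yb9 zb1) (kb xb25 yb9 zb3) (kb xb16 yb45 zb39) (kb xb8 yb7 zb36) (kb xb14 yb27 zb42) (kb xb16 yb37 zb12) (kb xb8 yb7 zb38) (kb xb16 yb28 zb42) (kb xb25 yb9 zb7) (kb xb19 yb11 zb10) (kb xb25 yb9 zb10) (kb xb23 yb8 zb34) (kb xb8 yb7 zb42) (kb xb14 yb48 zb27) (kb xb24 yb35 zb43) (kb xb25 yb9 zb12) (kb xb14 yb46 zb0) (kb xb8 yb30 zb56) (kb xb8 yb52 zb57)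 (kb xb8 yb53 zb25) (kb xb8 yb18 zb29) (kb xb25 yb9 zb13) (kb xb25 yb9 zb16) (kb xb19 yb57 zb57) (kb xb8 yb7 zb50) (kb xb8 yb7 zb51) (kb xb25 yb9 zb21) (kb xb15 yb39 zb44) (kb xb10 yb15 zb48) (kb xb10 yb37 zb32) (kb xb8 yb33 zb25) (kb xb8 yb8 zb7) (kb xb16 yb49 zb27) (kb xb16 yb49 zb29) (kb xb8 yb7 zb57) (kb xb24 yb48 zb32) (kb xb25 yb9 zb36) (kb xb19 yb40 zb22) (kb xb25 yb9 zb44) (kb xb25 yb9 zb46) (kb xb25 yb9 zb47) (kb xb9 yb0 zb57) (kb xb8 yb8 zb0) (kb xb23 yb58 zb58) (kb xb25 yb9 zb50) (kb xb25 yb9 zb55) (kb xb8 yb8 zb3) (kb xb25 yb9 zb58) (kb xb25 yb9 zb61) (kb xb22 yb11 zb11) (kb xb15 yb36 zb28)) (@D3.rec (fun _ => Pt) (kb xb8 yb8 zb6) (kb xb21 yb58 zb43) (kb xb21 yb42 zb6) (kb xb14 yb56 zb45) (kb xb25 yb10 zb3) (kb xb16 yb8 zb32) (kb xb8 yb8 zb9) (kb xb8 yb8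 zb10) (kb xb25 yb10 zb6) (kb xb25 yb10 zb8) (kb xb8 yb58 zb60) (kb xb8 yb54 zb19) (kb xb8 yb8 zb12) (kb xb8 yb8 zb13) (kb xb25 yb10 zb4) (kb xb16 yb38 zb41) (kb xb25 yb10 zb18) (kb xb10 yb32 zb7) (kb xb25 yb10 zb15) (kb xb24 yb26 zb50) (kb xb10 yb31 zb41) (kb xb8 yb8 zb16) (kb xb25 yb10 zb24) (kb xb25 yb10 zb22) (kb xb8 yb8 zb17) (kb xb8 yb54 zb57) (kb xb24 yb58 zb9) (kb xb21 yb50 zb33) (kb xb8 yb8 zb22) (kb xb8 yb8 zb23) (kb xb8 yb8 zb20) (kb xb25 yb10 zb31) (kb xb8 yb8 zb21) (kb xb25 yb10 zb36) (kb xb25 yb10 zb37) (kb xb25 yb10 zb38) (kb xb25 yb10 zb41) (kb xb16 yb50 zb49) (kb xb10 yb43 zb36) (kb xb18 yb2 zb28) (kb xb8 yb8 zb26) (kb xb8 yb8 zb25) (kb xb24 yb5 zb6) (kb xb18 yb54 zb38) (kb xb25 yb10 zb48) (kb xb24 yb58 zb8) (kb xb8 yb8 zb27) (kb xb25 yb5 zb14) (kb xb25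 yb10 zb52) (kb xb17 yb44 zb0) (kb xb12 yb30 zb49) (kb xb16 yb17 zb59) (kb xb8 yb8 zb31) (kb xb25 yb10 zb59) (kb xb8 yb57 zb45) (kb xb8 yb8 zb53) (kb xb8 yb53 zb0) (kb xb15 yb2 zb39) (kb xb15 yb3 zb3) (kb xb15 yb2 zb43) (kb xb8 yb8 zb35) (kb xb8 yb8 zb36)) (@D3.rec (fun _ => Pt) (kb xb25 yb11 zb4) (kb xb25 yb11 zb13) (kb xb25 yb11 zb7) (kb xb25 yb11 zb8) (kb xb10 yb39 zb49) (kb xb16 yb47 zb16) (kb xb8 yb8 zb41) (kb xb24 yb48 zb42) (kb xb25 yb11 zb21) (kb xb24 yb58 zb21) (kb xb25 yb11 zb24) (kb xb8 yb8 zb46) (kb xb8 yb8 zb47) (kb xb8 yb8 zb44) (kb xb25 yb11 zb30) (kb xb25 yb11 zb31) (kb xb8 yb8 zb45) (kb xb25 yb11 zb34) (kb xb25 yb11 zb37) (kb xb25 yb11 zb38) (kb xb15 yb39 zb38) (kb xb8 yb8 zb48) (kb xb25 yb11 zb41) (kb xb24 yb11 zb28) (kb xb14 yb43 zb34) (kb xb8 yb57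 zb59) (kb xb25 yb11 zb17) (kb xb21 yb49 zb34) (kb xb8 yb8 zb52) (kb xb25 yb11 zb44) (kb xb19 yb5 zb57) (kb xb8 yb8 zb54) (kb xb8 yb8 zb55) (kb xb15 yb53 zb49) (kb xb18 yb51 zb0) (kb xb25 yb11 zb50) (kb xb8 yb8 zb58) (kb xb8 yb8 zb59) (kb xb25 yb11 zb53) (kb xb25 yb11 zb55) (kb xb21 yb56 zb24) (kb xb25 yb11 zb52) (kb xb8 yb8 zb60) (kb xb25 yb11 zb58) (kb xb8 yb8 zb61) (kb xb14 yb43 zb44) (kb xb25 yb11 zb59) (kb xb17 yb51 zb45) (kb xb25 yb12 zb0) (kb xb25 yb5 zb41) (kb xb14 yb42 zb2) (kb xb8 yb9 zb3) (kb xb25 yb12 zb6) (kb xb22 yb53 zb26) (kb xb13 yb40 zb6) (kb xb24 yb36 zb50) (kb xb15 yb21 zb29) (kb xb8 yb9 zb6) (kb xb10 yb56 zb5) (kb xb19 yb38 zb31) (kb xb24 yb58 zb38) (kb xb25 yb11 zb48)) (@D3.rec (fun _ => Pt) (kb xb8 yb9 zb9) (kb xb8 yb9 zb10) (kb xb8 yb9 zb11) (kb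 xb25 yb12 zb18) (kb xb8 yb57 zb3) (kb xb8 yb9 zb8) (kb xb25 yb12 zb20) (kb xb20 yb15 zb27) (kb xb19 yb19 zb31) (kb xb25 yb12 zb27) (kb xb25 yb12 zb14) (kb xb24 yb58 zb36) (kb xb25 yb12 zb17) (kb xb24 yb16 zb20) (kb xb24 yb15 zb3) (kb xb24 yb58 zb31) (kb xb19 yb17 zb20) (kb xb25 yb12 zb34) (kb xb8 yb9 zb14) (kb xb8 yb9 zb15) (kb xb8 yb9 zb13) (kb xb19 yb36 zb51) (kb xb24 yb16 zb44) (kb xb19 yb10 zb31) (kb xb25 yb12 zb38) (kb xb24 yb58 zb43) (kb xb25 yb12 zb41) (kb xb25 yb12 zb42) (kb xb17 yb50 zb40) (kb xb15 yb20 zb56) (kb xb8 yb9 zb17) (kb xb25 yb12 zb54) (kb xb25 yb12 zb52) (kb xb8 yb9 zb18) (kb xb9 yb40 zb54) (kb xb25 yb12 zb61) (kb xb17 yb53 zb28) (kb xb10 yb35 zb16) (kb xb10 yb35 zb17) (kb xb25 yb13 zb5) (kb xb25 yb13 zb6) (kb xb8 yb9 zb24) (kb xb24 yb15 zb35) (kb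 xb22 yb1 zb54) (kb xb8 yb9 zb27) (kb xb8 yb9 zb22) (kb xb25 yb13 zb16) (kb xb25 yb13 zb17) (kb xb19 yb53 zb21) (kb xb19 yb53 zb22) (kb xb8 yb9 zb25) (kb xb25 yb13 zb23) (kb xb25 yb13 zb24) (kb xb8 yb9 zb26) (kb xb15 yb38 zb4) (kb xb25 yb13 zb30) (kb xb25 yb13 zb33) (kb xb25 yb13 zb35) (kb xb25 yb13 zb38) (kb xb8 yb9 zb28) (kb xb15 yb40 zb20) (kb xb25 yb13 zb39)) (@D3.rec (fun _ => Pt) (kb xb19 yb6 zb48) (kb xb17 yb29 zb17) (kb xb10 yb29 zb35) (kb xb25 yb13 zb43) (kb xb8 yb9 zb33) (kb xb8 yb9 zb34) (kb xb8 yb9 zb32) (kb xb15 yb33 zb56) (kb xb19 yb35 zb30) (kb xb15 yb39 zb42) (kb xb19 yb36 zb15) (kb xb14 yb51 zb17) (kb xb11 yb8 zb50) (kb xb8 yb9 zb36) (kb xb25 yb13 zb57) (kb xb25 yb13 zb59) (kb xb25 yb13 zb55) (kb xb25 yb13 zb56) (kb xb11 yb3 zb8) (kb xb11 yb5 zb3) (kb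 xb8 yb9 zb44) (kb xb25 yb5 zb21) (kb xb11 yb9 zb51) (kb xb11 yb8 zb41) (kb xb8 yb9 zb42) (kb xb25 yb14 zb10) (kb xb25 yb14 zb8) (kb xb25 yb14 zb9) (kb xb8 yb9 zb45) (kb xb25 yb14 zb16) (kb xb8 yb9 zb46) (kb xb25 yb14 zb20) (kb xb25 yb14 zb24) (kb xb23 yb56 zb35) (kb xb8 yb9 zb49) (kb xb25 yb14 zb27) (kb xb25 yb5 zb12) (kb xb8 yb9 zb52) (kb xb22 yb20 zb59) (kb xb8 yb9 zb55) (kb xb8 yb9 zb54) (kb xb25 yb14 zb30) (kb xb25 yb14 zb31) (kb xb18 yb52 zb40) (kb xb8 yb9 zb57) (kb xb22 yb28 zb16) (kb xb25 yb14 zb36) (kb xb22 yb30 zb48) (kb xb23 yb17 zb54) (kb xb19 yb11 zb2) (kb xb25 yb14 zb40) (kb xb9 yb0 zb49) (kb xb8 yb10 zb2) (kb xb25 yb14 zb43) (kb xb24 yb41 zb37) (kb xb14 yb49 zb18) (kb xb8 yb10 zb3) (kb xb8 yb10 zb5) (kb xb25 yb14 zb48) (kb xb25 yb14 zb47) (kb xb8 yb10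 zb6) (kb xb19 yb3 zb21)) (@D3.rec (fun _ => Pt) (kb xb25 yb14 zb56) (kb xb11 yb9 zb13) (kb xb25 yb15 zb3) (kb xb25 yb15 zb7) (kb xb8 yb10 zb9) (kb xb8 yb10 zb10) (kb xb25 yb15 zb13) (kb xb19 yb15 zb37) (kb xb25 yb15 zb12) (kb xb8 yb18 zb12) (kb xb8 yb10 zb13) (kb xb8 yb10 zb14) (kb xb8 yb10 zb12) (kb xb25 yb15 zb23) (kb xb25 yb15 zb24) (kb xb23 yb22 zb35) (kb xb8 yb10 zb16) (kb xb25 yb15 zb29) (kb xb8 yb10 zb17) (kb xb25 yb15 zb33) (kb xb25 yb15 zb32) (kb xb8 yb10 zb18) (kb xb25 yb15 zb36) (kb xb8 yb10 zb19) (kb xb17 yb37 zb30) (kb xb25 yb15 zb38) (kb xb25 yb15 zb42) (kb xb25 yb15 zb45) (kb xb11 yb9 zb45) (kb xb8 yb10 zb22) (kb xb24 yb45 zb40) (kb xb8 yb42 zb47) (kb xb25 yb15 zb50) (kb xb8 yb10 zb29) (kb xb8 yb10 zb28) (kb xb25 yb15 zb56) (kb xb20 yb10 zb56) (kb xb25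 yb15 zb55) (kb xb25 yb15 zb59) (kb xb10 yb4 zb12) (kb xb13 yb49 zb19) (kb xb23 yb7 zb47) (kb xb22 yb52 zb30) (kb xb15 yb50 zb14) (kb xb25 yb16 zb6) (kb xb13 yb47 zb36) (kb xb20 yb1 zb18) (kb xb18 yb22 zb58) (kb xb15 yb10 zb14) (kb xb15 yb10 zb15) (kb xb10 yb16 zb21) (kb xb25 yb16 zb15) (kb xb8 yb10 zb45) (kb xb25 yb16 zb18) (kb xb25 yb16 zb20) (kb xb8 yb10 zb42) (kb xb25 yb16 zb24) (kb xb8 yb10 zb43) (kb xb25 yb16 zb28) (kb xb21 yb2 zb42) (kb xb23 yb19 zb39) (kb xb8 yb10 zb46)) (@D3.rec (fun _ => Pt) (kb xb9 yb42 zb17) (kb xb25 yb16 zb35) (kb xb8 yb10 zb47) (kb xb25 yb16 zb37) (kb xb17 yb16 zb33) (kb xb20 yb16 zb21) (kb xb25 yb16 zb39) (kb xb15 yb24 zb14) (kb xb8 yb10 zb49) (kb xb18 yb12 zb29) (kb xb25 yb16 zb44) (kb xb25 yb16 zb42) (kb xb16 yb17 zb51) (kb xb12 yb24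 zb26) (kb xb15 yb24 zb7) (kb xb8 yb10 zb51) (kb xb21 yb54 zb20) (kb xb8 yb10 zb53) (kb xb23 yb42 zb37) (kb xb25 yb16 zb47) (kb xb8 yb10 zb55) (kb xb22 yb5 zb8) (kb xb20 yb16 zb40) (kb xb15 yb27 zb33) (kb xb10 yb50 zb37) (kb xb20 yb13 zb19) (kb xb8 yb10 zb59) (kb xb25 yb16 zb50) (kb xb21 yb23 zb37) (kb xb8 yb18 zb10) (kb xb8 yb11 zb1) (kb xb17 yb6 zb9) (kb xb8 yb37 zb45) (kb xb15 yb51 zb56) (kb xb8 yb11 zb15) (kb xb8 yb11 zb4) (kb xb25 yb16 zb53) (kb xb10 yb7 zb25) (kb xb15 yb30 zb52) (kb xb8 yb11 zb7) (kb xb22 yb6 zb28) (kb xb19 yb50 zb29) (kb xb19 yb57 zb4) (kb xb16 yb42 zb0) (kb xb11 yb10 zb29) (kb xb8 yb11 zb9) (kb xb25 yb17 zb0) (kb xb25 yb17 zb1) (kb xb8 yb11 zb10) (kb xb21 yb52 zb54) (kb xb25 yb17 zb3) (kb xb17 yb33 zb15) (kb xb8 yb11 zb12) (kb xb25 yb17 zb8)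 (kb xb25 yb17 zb10) (kb xb21 yb54 zb6) (kb xb17 yb4 zb22) (kb xb25 yb17 zb12) (kb xb8 yb11 zb17) (kb xb25 yb17 zb13) (kb xb18 yb52 zb30) (kb xb8 yb11 zb23)) (@D3.rec (fun _ => Pt) (kb xb8 yb11 zb20) (kb xb8 yb11 zb21) (kb xb25 yb17 zb15) (kb xb12 yb33 zb3) (kb xb25 yb17 zb17) (kb xb25 yb17 zb18) (kb xb8 yb37 zb50) (kb xb18 yb51 zb26) (kb xb8 yb11 zb31) (kb xb8 yb11 zb25) (kb xb25 yb17 zb25) (kb xb21 yb59 zb29) (kb xb25 yb17 zb26) (kb xb12 yb55 zb55) (kb xb8 yb11 zb27) (kb xb8 yb11 zb28) (kb xb25 yb17 zb35) (kb xb20 yb27 zb57) (kb xb25 yb17 zb31) (kb xb25 yb17 zb38) (kb xb21 yb50 zb21) (kb xb25 yb17 zb33) (kb xb25 yb17 zb34) (kb xb25 yb17 zb40) (kb xb15 yb28 zb43) (kb xb11 yb51 zb41) (kb xb8 yb11 zb58) (kb xb8 yb11 zb38) (kb xb12 yb55 zb45) (kb xb20 yb57 zb42) (kb xb8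 yb11 zb34) (kb xb17 yb23 zb54) (kb xb17 yb56 zb54) (kb xb24 yb33 zb49) (kb xb14 yb45 zb53) (kb xb11 yb50 zb57) (kb xb8 yb11 zb59) (kb xb22 yb5 zb50) (kb xb19 yb7 zb38) (kb xb8 yb11 zb41) (kb xb20 yb12 zb11) (kb xb9 yb49 zb60) (kb xb24 yb32 zb17) (kb xb25 yb17 zb46) (kb xb17 yb33 zb55) (kb xb20 yb13 zb51) (kb xb8 yb11 zb44) (kb xb12 yb16 zb19) (kb xb21 yb48 zb28) (kb xb8 yb11 zb45) (kb xb12 yb38 zb51) (kb xb20 yb20 zb51) (kb xb17 yb29 zb53) (kb xb25 yb17 zb53) (kb xb10 yb12 zb7) (kb xb9 yb20 zb30) (kb xb25 yb17 zb55) (kb xb8 yb11 zb51) (kb xb25 yb17 zb56) (kb xb24 yb54 zb46) (kb xb21 yb22 zb40) (kb xb15 yb52 zb28)) (@D3.rec (fun _ => Pt) (kb xb8 yb11 zb53) (kb xb25 yb17 zb61) (kb xb25 yb17 zb60) (kb xb8 yb11 zb54) (kb xb25 yb18 zb2) (kb xb19 yb25 zb53) (kb xb8 yb11 zb57)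 (kb xb8 yb11 zb60) (kb xb17 yb8 zb0) (kb xb17 yb5 zb19) (kb xb11 yb34 zb60) (kb xb8 yb12 zb8) (kb xb8 yb12 zb9) (kb xb12 yb37 zb53) (kb xb14 yb16 zb47) (kb xb11 yb43 zb61) (kb xb8 yb12 zb14) (kb xb12 yb29 zb59) (kb xb8 yb12 zb17) (kb xb8 yb38 zb60) (kb xb8 yb45 zb39) (kb xb8 yb12 zb21) (kb xb25 yb18 zb12) (kb xb25 yb18 zb11) (kb xb12 yb9 zb40) (kb xb11 yb12 zb55) (kb xb8 yb12 zb24) (kb xb25 yb18 zb17) (kb xb17 yb25 zb32) (kb xb10 yb5 zb23) (kb xb8 yb12 zb32) (kb xb11 yb8 zb6) (kb xb8 yb12 zb33) (kb xb25 yb18 zb21) (kb xb25 yb2 zb22) (kb xb8 yb42 zb61) (kb xb17 yb57 zb16) (kb xb8 yb12 zb31) (kb xb25 yb18 zb28) (kb xb25 yb18 zb29) (kb xb25 yb18 zb20) (kb xb14 yb32 zb23) (kb xb10 yb18 zb15) (kb xb17 yb10 zb46) (kb xb18 yb25 zb14) (kb xb8 yb12 zb38) (kb xb20 yb18 zb57)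 (kb xb8 yb12 zb41) (kb xb8 yb12 zb40) (kb xb24 yb6 zb23) (kb xb25 yb18 zb34) (kb xb12 yb11 zb31) (kb xb20 yb26 zb29) (kb xb8 yb12 zb42) (kb xb25 yb18 zb35) (kb xb20 yb41 zb0) (kb xb25 yb18 zb37) (kb xb8 yb12 zb44) (kb xb23 yb47 zb39) (kb xb25 yb18 zb40) (kb xb22 yb52 zb31) (kb xb25 yb18 zb39)) (@D3.rec (fun _ => Pt) (kb xb15 yb30 zb31) (kb xb14 yb23 zb49) (kb xb20 yb26 zb60) (kb xb11 yb25 zb41) (kb xb15 yb30 zb32) (kb xb8 yb12 zb48) (kb xb8 yb12 zb55) (kb xb17 yb58 zb18) (kb xb25 yb18 zb51) (kb xb8 yb12 zb51) (kb xb13 yb20 zb51) (kb xb8 yb12 zb54) (kb xb18 yb25 zb7) (kb xb9 yb46 zb47) (kb xb8 yb12 zb58) (kb xb11 yb37 zb46) (kb xb25 yb18 zb57) (kb xb25 yb18 zb60) (kb xb15 yb27 zb23) (kb xb8 yb12 zb60) (kb xb21 yb28 zb57) (kb xb25 yb18 zb61) (kb xb21 yb59 zb18) (kb xb15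 yb27 zb18) (kb xb8 yb13 zb0) (kb xb22 yb12 zb2) (kb xb8 yb13 zb2) (kb xb12 yb57 zb45) (kb xb8 yb13 zb3) (kb xb24 yb50 zb44) (kb xb8 yb13 zb4) (kb xb8 yb14 zb30) (kb xb25 yb19 zb15) (kb xb15 yb24 zb23) (kb xb10 yb24 zb17) (kb xb25 yb19 zb21) (kb xb25 yb19 zb24) (kb xb8 yb13 zb57) (kb xb8 yb13 zb7) (kb xb8 yb13 zb8) (kb xb25 yb19 zb30) (kb xb25 yb19 zb31) (kb xb8 yb13 zb11) (kb xb23 yb59 zb45) (kb xb8 yb13 zb27) (kb xb10 yb23 zb39) (kb xb10 yb24 zb3) (kb xb8 yb13 zb15) (kb xb25 yb19 zb40) (kb xb10 yb24 zb6) (kb xb8 yb14 zb9) (kb xb18 yb44 zb38) (kb xb8 yb13 zb17) (kb xb25 yb19 zb41) (kb xb10 yb59 zb43) (kb xb20 yb59 zb23) (kb xb8 yb13 zb20) (kb xb25 yb19 zb46) (kb xb25 yb19 zb47) (kb xb8 yb13 zb21) (kb xb15 yb28 zb30) (kb xb25 yb19 zb49)) (@D3.rec (fun _ => Pt) (kb xb8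 yb39 zb27) (kb xb25 yb19 zb54) (kb xb25 yb19 zb6) (kb xb8 yb13 zb23) (kb xb8 yb13 zb24) (kb xb25 yb19 zb61) (kb xb25 yb19 zb58) (kb xb25 yb20 zb5) (kb xb25 yb20 zb6) (kb xb25 yb19 zb60) (kb xb24 yb1 zb23) (kb xb25 yb20 zb11) (kb xb16 yb58 zb40) (kb xb8 yb13 zb29) (kb xb17 yb48 zb47) (kb xb8 yb13 zb31) (kb xb25 yb20 zb16) (kb xb25 yb20 zb17) (kb xb22 yb7 zb34) (kb xb25 yb19 zb10) (kb xb8 yb13 zb34) (kb xb8 yb13 zb35) (kb xb20 yb42 zb2) (kb xb25 yb20 zb29) (kb xb25 yb20 zb24) (kb xb8 yb27 zb26) (kb xb19 yb36 zb7) (kb xb8 yb13 zb43) (kb xb8 yb13 zb37) (kb xb25 yb20 zb41) (kb xb15 yb27 zb60) (kb xb25 yb20 zb45) (kb xb25 yb19 zb14) (kb xb8 yb13 zb39) (kb xb8 yb13 zb40) (kb xb25 yb20 zb53) (kb xb17 yb50 zb0) (kb xb25 yb20 zb48) (kb xb25 yb20 zb59) (kb xb25 yb20 zb61) (kb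 xb25 yb20 zb51) (kb xb25 yb20 zb52) (kb xb25 yb21 zb5) (kb xb15 yb25 zb24) (kb xb21 yb0 zb40) (kb xb17 yb48 zb61) (kb xb8 yb27 zb46) (kb xb8 yb13 zb49) (kb xb25 yb21 zb9) (kb xb17 yb32 zb41) (kb xb17 yb50 zb2) (kb xb8 yb13 zb46) (kb xb8 yb13 zb47) (kb xb9 yb6 zb14) (kb xb24 yb33 zb20) (kb xb25 yb21 zb21) (kb xb25 yb21 zb13) (kb xb25 yb21 zb14) (kb xb25 yb21 zb25) (kb xb19 yb9 zb11) (kb xb25 yb21 zb29) (kb xb8 yb13 zb51)) (@D3.rec (fun _ => Pt) (kb xb8 yb13 zb52) (kb xb25 yb21 zb35) (kb xb25 yb21 zb30) (kb xb25 yb21 zb33) (kb xb25 yb21 zb34) (kb xb8 yb13 zb54) (kb xb25 yb21 zb46) (kb xb25 yb21 zb47) (kb xb12 yb56 zb0) (kb xb8 yb13 zb55) (kb xb25 yb19 zb20) (kb xb25 yb21 zb53) (kb xb15 yb56 zb36) (kb xb8 yb13 zb56) (kb xb25 yb21 zb60) (kb xb25 yb19 zb27) (kb xb25 yb22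 zb1) (kb xb25 yb22 zb4) (kb xb25 yb22 zb7) (kb xb8 yb14 zb1) (kb xb8 yb14 zb2) (kb xb8 yb14 zb3) (kb xb8 yb13 zb60) (kb xb25 yb22 zb14) (kb xb11 yb52 zb41) (kb xb8 yb14 zb0) (kb xb25 yb10 zb25) (kb xb25 yb11 zb2) (kb xb18 yb33 zb31) (kb xb25 yb22 zb10) (kb xb25 yb22 zb11) (kb xb25 yb22 zb39) (kb xb25 yb22 zb13) (kb xb19 yb23 zb19) (kb xb19 yb23 zb21) (kb xb19 yb23 zb22) (kb xb11 yb10 zb32) (kb xb19 yb53 zb49) (kb xb14 yb39 zb20) (kb xb25 yb22 zb48) (kb xb8 yb14 zb7) (kb xb23 yb42 zb39) (kb xb14 yb37 zb46) (kb xb20 yb40 zb6) (kb xb14 yb21 zb42) (kb xb8 yb14 zb11) (kb xb8 yb14 zb12) (kb xb25 yb22 zb56) (kb xb16 yb2 zb26) (kb xb25 yb22 zb57) (kb xb17 yb35 zb55) (kb xb8 yb14 zb14) (kb xb8 yb14 zb15) (kb xb15 yb35 zb43) (kb xb23 yb28 zb0) (kb xb25 yb23 zb5) (kb xb8 yb14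 zb17) (kb xb24 yb57 zb53) (kb xb25 yb23 zb7) (kb xb19 yb26 zb32) (kb xb25 yb23 zb12) (kb xb25 yb23 zb14)) (@D3.rec (fun _ => Pt) (kb xb19 yb26 zb35) (kb xb11 yb32 zb49) (kb xb8 yb14 zb22) (kb xb25 yb23 zb20) (kb xb25 yb23 zb19) (kb xb8 yb14 zb23) (kb xb25 yb23 zb24) (kb xb25 yb23 zb23) (kb xb11 yb22 zb57) (kb xb8 yb14 zb26) (kb xb9 yb51 zb5) (kb xb8 yb14 zb28) (kb xb16 yb12 zb52) (kb xb25 yb23 zb27) (kb xb9 yb50 zb38) (kb xb8 yb14 zb31) (kb xb25 yb23 zb31) (kb xb25 yb19 zb13) (kb xb25 yb19 zb16) (kb xb9 yb46 zb52) (kb xb25 yb23 zb30) (kb xb20 yb36 zb55) (kb xb12 yb56 zb26) (kb xb20 yb36 zb46) (kb xb8 yb14 zb34) (kb xb9 yb16 zb7) (kb xb8 yb14 zb36) (kb xb25 yb23 zb39) (kb xb8 yb14 zb37) (kb xb11 yb41 zb8) (kb xb24 yb2 zb16) (kb xb15 yb27 zb0) (kb xb15 yb27 zb4) (kb xb25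 yb23 zb43) (kb xb25 yb23 zb44) (kb xb8 yb14 zb44) (kb xb8 yb14 zb41) (kb xb8 yb14 zb42) (kb xb25 yb23 zb47) (kb xb18 yb0 zb3) (kb xb10 yb5 zb25) (kb xb10 yb1 zb30) (kb xb17 yb5 zb14) (kb xb14 yb24 zb2) (kb xb21 yb35 zb54) (kb xb8 yb14 zb56) (kb xb10 yb6 zb49) (kb xb8 yb15 zb0) (kb xb20 yb1 zb8) (kb xb8 yb15 zb1) (kb xb23 yb53 zb47) (kb xb15 yb11 zb2) (kb xb15 yb24 zb38) (kb xb8 yb15 zb3) (kb xb23 yb49 zb57) (kb xb9 yb55 zb0) (kb xb8 yb28 zb7) (kb xb8 yb15 zb6) (kb xb15 yb11 zb23) (kb xb25 yb23 zb55) (kb xb9 yb58 zb16) (kb xb17 yb46 zb55)) (@D3.rec (fun _ => Pt) (kb xb25 yb23 zb58) (kb xb25 yb24 zb0) (kb xb15 yb32 zb14) (kb xb8 yb15 zb9) (kb xb11 yb21 zb20) (kb xb17 yb46 zb60) (kb xb24 yb16 zb60) (kb xb25 yb24 zb10) (kb xb11 yb54 zb36) (kb xb8 yb15 zb12) (kb xb8 yb15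 zb13) (kb xb25 yb24 zb12) (kb xb24 yb23 zb57) (kb xb24 yb17 zb14) (kb xb25 yb24 zb13) (kb xb23 yb11 zb19) (kb xb25 yb24 zb19) (kb xb25 yb24 zb20) (kb xb15 yb16 zb20) (kb xb25 yb24 zb22) (kb xb25 yb24 zb24) (kb xb11 yb55 zb22) (kb xb8 yb15 zb18) (kb xb8 yb15 zb19) (kb xb25 yb24 zb29) (kb xb12 yb52 zb33) (kb xb24 yb42 zb45) (kb xb24 yb3 zb33) (kb xb25 yb24 zb31) (kb xb25 yb24 zb33) (kb xb25 yb24 zb36) (kb xb15 yb32 zb40) (kb xb8 yb15 zb24) (kb xb11 yb55 zb39) (kb xb25 yb24 zb41) (kb xb15 yb32 zb48) (kb xb8 yb15 zb26) (kb xb8 yb15 zb27) (kb xb17 yb24 zb13) (kb xb20 yb50 zb16) (kb xb15 yb32 zb53) (kb xb25 yb24 zb46) (kb xb8 yb15 zb28) (kb xb24 yb38 zb10) (kb xb25 yb24 zb48) (kb xb16 yb10 zb9) (kb xb8 yb15 zb29) (kb xb15 yb52 zb59) (kb xb13 yb21 zb52) (kb xb8 yb15 zb37)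 (kb xb8 yb15 zb38) (kb xb8 yb15 zb33) (kb xb25 yb24 zb58) (kb xb8 yb15 zb34) (kb xb25 yb25 zb2) (kb xb8 yb15 zb35) (kb xb14 yb19 zb10) (kb xb22 yb54 zb17) (kb xb17 yb57 zb36) (kb xb13 yb32 zb33) (kb xb25 yb24 zb53) (kb xb25 yb24 zb56)) (@D3.rec (fun _ => Pt) (kb xb8 yb15 zb39) (kb xb21 yb55 zb11) (kb xb8 yb39 zb35) (kb xb8 yb16 zb2) (kb xb8 yb53 zb53) (kb xb25 yb25 zb20) (kb xb12 yb55 zb44) (kb xb16 yb13 zb27) (kb xb8 yb15 zb45) (kb xb25 yb25 zb28) (kb xb8 yb15 zb47) (kb xb10 yb7 zb56) (kb xb10 yb26 zb54) (kb xb13 yb45 zb2) (kb xb15 yb31 zb2) (kb xb8 yb15 zb53) (kb xb8 yb15 zb54) (kb xb25 yb25 zb39) (kb xb19 yb12 zb57) (kb xb16 yb21 zb54) (kb xb25 yb25 zb42) (kb xb25 yb25 zb43) (kb xb10 yb43 zb37) (kb xb8 yb15 zb57) (kb xb8 yb15 zb58) (kb xb25 yb25 zb47) (kb xb25 yb25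 zb49) (kb xb19 yb8 zb52) (kb xb17 yb33 zb57) (kb xb10 yb44 zb34) (kb xb8 yb16 zb0) (kb xb22 yb53 zb38) (kb xb24 yb33 zb41) (kb xb25 yb25 zb54) (kb xb14 yb24 zb31) (kb xb11 yb47 zb58) (kb xb25 yb25 zb19) (kb xb25 yb25 zb56) (kb xb9 yb31 zb7) (kb xb25 yb25 zb58) (kb xb15 yb31 zb31) (kb xb8 yb16 zb6) (kb xb8 yb16 zb7) (kb xb25 yb26 zb1) (kb xb25 yb26 zb3) (kb xb25 yb26 zb4) (kb xb25 yb26 zb5) (kb xb15 yb40 zb60) (kb xb15 yb31 zb35) (kb xb8 yb16 zb9) (kb xb8 yb16 zb10) (kb xb24 yb5 zb42) (kb xb25 yb26 zb9) (kb xb15 yb31 zb40) (kb xb9 yb31 zb9) (kb xb8 yb16 zb11) (kb xb12 yb56 zb1) (kb xb21 yb39 zb49) (kb xb17 yb27 zb37) (kb xb25 yb26 zb15) (kb xb9 yb31 zb8) (kb xb15 yb37 zb13)) (@D3.rec (fun _ => Pt) (kb xb22 yb4 zb49) (kb xb25 yb26 zb29) (kb xb8 yb16 zb20) (kb xb8 yb16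 zb21) (kb xb8 yb16 zb16) (kb xb25 yb26 zb37) (kb xb8 yb16 zb17) (kb xb25 yb26 zb40) (kb xb8 yb16 zb18) (kb xb25 yb26 zb44) (kb xb22 yb23 zb0) (kb xb22 yb59 zb13) (kb xb24 yb14 zb5) (kb xb25 yb26 zb32) (kb xb25 yb26 zb35) (kb xb8 yb16 zb22) (kb xb21 yb25 zb42) (kb xb8 yb20 zb19) (kb xb8 yb16 zb31) (kb xb8 yb16 zb24) (kb xb17 yb59 zb0) (kb xb9 yb41 zb4) (kb xb9 yb41 zb12) (kb xb8 yb16 zb26) (kb xb25 yb26 zb58) (kb xb12 yb52 zb16) (kb xb8 yb17 zb34) (kb xb8 yb16 zb28) (kb xb8 yb16 zb29) (kb xb25 yb27 zb1) (kb xb25 yb27 zb4) (kb xb25 yb7 zb31) (kb xb21 yb17 zb35) (kb xb12 yb21 zb0) (kb xb17 yb36 zb23) (kb xb15 yb41 zb17) (kb xb16 yb19 zb8) (kb xb25 yb27 zb12) (kb xb8 yb18 zb16) (kb xb8 yb16 zb33) (kb xb8 yb16 zb34) (kb xb25 yb27 zb18) (kb xb13 yb1 zb24) (kb xb25 yb27 zb19)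 (kb xb25 yb27 zb24) (kb xb8 yb21 zb59) (kb xb25 yb27 zb26) (kb xb8 yb23 zb16) (kb xb8 yb18 zb42) (kb xb8 yb16 zb39) (kb xb8 yb16 zb40) (kb xb25 yb27 zb29) (kb xb25 yb27 zb33) (kb xb17 yb29 zb34) (kb xb25 yb27 zb30) (kb xb21 yb17 zb3) (kb xb15 yb22 zb7) (kb xb10 yb46 zb28) (kb xb16 yb17 zb10) (kb xb11 yb4 zb39) (kb xb8 yb19 zb6) (kb xb8 yb16 zb44)) (@D3.rec (fun _ => Pt) (kb xb8 yb16 zb45) (kb xb25 yb27 zb42) (kb xb12 yb59 zb41) (kb xb25 yb27 zb49) (kb xb25 yb27 zb45) (kb xb25 yb27 zb46) (kb xb22 yb9 zb41) (kb xb10 yb50 zb59) (kb xb25 yb27 zb51) (kb xb22 yb9 zb45) (kb xb8 yb19 zb22) (kb xb8 yb16 zb49) (kb xb8 yb16 zb50) (kb xb20 yb43 zb32) (kb xb20 yb43 zb33) (kb xb20 yb44 zb5) (kb xb25 yb28 zb0) (kb xb25 yb28 zb3) (kb xb8 yb19 zb34) (kb xb8 yb16 zb53) (kb xb22 yb48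 zb19) (kb xb25 yb28 zb9) (kb xb25 yb28 zb10) (kb xb8 yb16 zb54) (kb xb25 yb28 zb18) (kb xb25 yb28 zb15) (kb xb25 yb28 zb16) (kb xb25 yb28 zb17) (kb xb8 yb16 zb55) (kb xb15 yb59 zb33) (kb xb25 yb28 zb23) (kb xb25 yb28 zb24) (kb xb8 yb19 zb47) (kb xb25 yb28 zb29) (kb xb25 yb28 zb32) (kb xb22 yb48 zb6) (kb xb8 yb16 zb61) (kb xb8 yb16 zb59) (kb xb25 yb28 zb40) (kb xb8 yb16 zb60) (kb xb23 yb56 zb18) (kb xb25 yb28 zb43) (kb xb22 yb54 zb30) (kb xb8 yb17 zb1) (kb xb17 yb39 zb20) (kb xb25 yb28 zb49) (kb xb17 yb37 zb19) (kb xb8 yb17 zb3) (kb xb8 yb17 zb4) (kb xb25 yb28 zb55) (kb xb15 yb14 zb39) (kb xb23 yb44 zb18) (kb xb23 yb44 zb17) (kb xb24 yb44 zb38) (kb xb8 yb17 zb10) (kb xb11 yb8 zb47) (kb xb8 yb37 zb33) (kb xb25 yb28 zb61) (kb xb24 yb11 zb55) (kb xb25 yb29 zb4) (kb xb25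 yb26 zb53) (kb xb8 yb17 zb13)) (@D3.rec (fun _ => Pt) (kb xb25 yb29 zb8) (kb xb24 yb11 zb40) (kb xb8 yb17 zb14) (kb xb10 yb36 zb49) (kb xb11 yb2 zb55) (kb xb25 yb29 zb11) (kb xb21 yb27 zb33) (kb xb16 yb3 zb41) (kb xb8 yb17 zb18) (kb xb8 yb17 zb19) (kb xb25 yb29 zb15) (kb xb21 yb43 zb35) (kb xb25 yb7 zb43) (kb xb8 yb17 zb20) (kb xb25 yb29 zb16) (kb xb25 yb29 zb17) (kb xb25 yb29 zb18) (kb xb8 yb17 zb24) (kb xb25 yb29 zb20) (kb xb25 yb29 zb23) (kb xb19 yb35 zb48) (kb xb8 yb17 zb27) (kb xb21 yb42 zb55) (kb xb8 yb35 zb47) (kb xb25 yb29 zb29) (kb xb19 yb35 zb44) (kb xb8 yb17 zb30) (kb xb8 yb17 zb31) (kb xb8 yb17 zb32) (kb xb25 yb29 zb41) (kb xb25 yb29 zb38) (kb xb25 yb29 zb39) (kb xb8 yb17 zb33) (kb xb17 yb36 zb34) (kb xb20 yb29 zb40) (kb xb25 yb29 zb51) (kb xb25 yb26 zb60)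 (kb xb12 yb21 zb1) (kb xb23 yb1 zb17) (kb xb25 yb30 zb1) (kb xb15 yb58 zb40) (kb xb8 yb17 zb39) (kb xb25 yb30 zb10) (kb xb15 yb29 zb53) (kb xb8 yb17 zb42) (kb xb8 yb17 zb43) (kb xb8 yb17 zb37) (kb xb8 yb48 zb30) (kb xb8 yb17 zb38) (kb xb10 yb26 zb2) (kb xb25 yb30 zb16) (kb xb25 yb30 zb18) (kb xb25 yb30 zb8) (kb xb25 yb30 zb9) (kb xb8 yb17 zb40) (kb xb25 yb30 zb24) (kb xb8 yb17 zb41) (kb xb25 yb30 zb29) (kb xb25 yb30 zb30) (kb xb25 yb30 zb34) (kb xb25 yb30 zb36) (kb xb25 yb30 zb41)) (@D3.rec (fun _ => Pt) (kb xb25 yb30 zb14) (kb xb25 yb30 zb45) (kb xb8 yb17 zb44) (kb xb25 yb30 zb47) (kb xb23 yb49 zb0) (kb xb15 yb39 zb8) (kb xb12 yb15 zb58) (kb xb12 yb15 zb59) (kb xb10 yb41 zb46) (kb xb10 yb54 zb18) (kb xb25 yb30 zb51) (kb xb25 yb30 zb53) (kb xb8 yb17 zb49) (kb xb24 yb0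 zb46) (kb xb24 yb38 zb54) (kb xb8 yb17 zb51) (kb xb22 yb38 zb56) (kb xb25 yb30 zb57) (kb xb18 yb28 zb4) (kb xb25 yb30 zb59) (kb xb10 yb21 zb11) (kb xb20 yb46 zb45) (kb xb8 yb17 zb55) (kb xb12 yb52 zb52) (kb xb8 yb40 zb19) (kb xb8 yb17 zb57) (kb xb16 yb37 zb4) (kb xb9 yb1 zb13) (kb xb15 yb18 zb61) (kb xb8 yb20 zb34) (kb xb21 yb33 zb19) (kb xb21 yb42 zb27) (kb xb21 yb23 zb15) (kb xb8 yb18 zb0) (kb xb8 yb18 zb1) (kb xb17 yb49 zb11) (kb xb12 yb53 zb0) (kb xb20 yb51 zb10) (kb xb25 yb31 zb8) (kb xb8 yb41 zb5) (kb xb8 yb41 zb6) (kb xb8 yb18 zb5) (kb xb25 yb31 zb16) (kb xb8 yb56 zb15) (kb xb25 yb31 zb19) (kb xb24 yb50 zb3) (kb xb8 yb18 zb8) (kb xb25 yb12 zb2) (kb xb25 yb15 zb10) (kb xb9 yb0 zb58) (kb xb8 yb24 zb49) (kb xb16 yb7 zb24) (kb xb25 yb31 zb24) (kb xb17 yb38 zb27)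 (kb xb8 yb18 zb13) (kb xb8 yb18 zb14) (kb xb23 yb2 zb47) (kb xb22 yb57 zb31) (kb xb25 yb31 zb31) (kb xb8 yb18 zb15) (kb xb8 yb24 zb29) (kb xb15 yb46 zb41)) (@D3.rec (fun _ => Pt) (kb xb9 yb24 zb19) (kb xb25 yb27 zb14) (kb xb25 yb27 zb15) (kb xb25 yb31 zb41) (kb xb25 yb25 zb4) (kb xb25 yb5 zb33) (kb xb8 yb18 zb19) (kb xb25 yb31 zb46) (kb xb9 yb24 zb54) (kb xb8 yb18 zb22) (kb xb8 yb18 zb23) (kb xb12 yb57 zb5) (kb xb18 yb46 zb32) (kb xb15 yb32 zb61) (kb xb8 yb18 zb20) (kb xb25 yb31 zb53) (kb xb25 yb31 zb54) (kb xb8 yb18 zb21) (kb xb22 yb56 zb28) (kb xb25 yb31 zb61) (kb xb25 yb32 zb1) (kb xb25 yb32 zb5) (kb xb25 yb31 zb49) (kb xb25 yb32 zb9) (kb xb17 yb22 zb12) (kb xb8 yb18 zb25) (kb xb25 yb32 zb15) (kb xb19 yb57 zb42) (kb xb25 yb32 zb19) (kb xb25 yb32 zb21) (kb xb20 yb16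 zb58) (kb xb8 yb18 zb28) (kb xb25 yb32 zb27) (kb xb25 yb32 zb28) (kb xb19 yb12 zb16) (kb xb10 yb49 zb17) (kb xb10 yb46 zb19) (kb xb8 yb18 zb31) (kb xb22 yb56 zb42) (kb xb24 yb52 zb28) (kb xb25 yb32 zb41) (kb xb9 yb35 zb48) (kb xb8 yb18 zb33) (kb xb8 yb18 zb34) (kb xb25 yb32 zb45) (kb xb14 yb57 zb38) (kb xb21 yb22 zb59) (kb xb16 yb5 zb10) (kb xb15 yb57 zb49) (kb xb25 yb32 zb50) (kb xb19 yb35 zb37) (kb xb8 yb23 zb8) (kb xb25 yb32 zb55) (kb xb18 yb52 zb17) (kb xb8 yb18 zb40) (kb xb18 yb4 zb49) (kb xb24 yb37 zb14) (kb xb8 yb18 zb41) (kb xb16 yb1 zb22) (kb xb25 yb27 zb28) (kb xb21 yb17 zb4) (kb xb19 yb39 zb34)) (@D3.rec (fun _ => Pt) (kb xb25 yb33 zb5) (kb xb15 yb58 zb32) (kb xb8 yb18 zb47) (kb xb25 yb33 zb13) (kb xb15 yb21 zb54) (kb xb8 yb18 zb50) (kb xb8 yb18 zb51) (kb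 xb8 yb18 zb45) (kb xb8 yb18 zb46) (kb xb25 yb33 zb20) (kb xb25 yb33 zb23) (kb xb25 yb33 zb11) (kb xb25 yb33 zb12) (kb xb8 yb18 zb48) (kb xb25 yb12 zb49) (kb xb8 yb18 zb49) (kb xb25 yb33 zb34) (kb xb25 yb33 zb35) (kb xb25 yb33 zb38) (kb xb25 yb33 zb41) (kb xb19 yb58 zb9) (kb xb24 yb37 zb52) (kb xb8 yb18 zb53) (kb xb8 yb28 zb32) (kb xb24 yb2 zb34) (kb xb21 yb21 zb6) (kb xb17 yb27 zb22) (kb xb8 yb18 zb57) (kb xb24 yb20 zb23) (kb xb8 yb40 zb24) (kb xb22 yb9 zb59) (kb xb25 yb33 zb55) (kb xb21 yb31 zb15) (kb xb8 yb18 zb61) (kb xb21 yb31 zb11) (kb xb25 yb33 zb58) (kb xb9 yb42 zb14) (kb xb25 yb33 zb56) (kb xb8 yb41 zb42) (kb xb8 yb33 zb17) (kb xb25 yb33 zb61) (kb xb8 yb19 zb19) (kb xb8 yb19 zb4) (kb xb25 yb34 zb2) (kb xb8 yb19 zb5) (kb xb8 yb23 zb3) (kb xb25 yb34 zb3) (kb xb25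 yb27 zb39) (kb xb25 yb27 zb40) (kb xb24 yb8 zb4) (kb xb22 yb2 zb0) (kb xb25 yb4 zb43) (kb xb8 yb19 zb9) (kb xb12 yb33 zb29) (kb xb8 yb19 zb13) (kb xb25 yb34 zb16) (kb xb13 yb28 zb16) (kb xb25 yb34 zb14) (kb xb8 yb19 zb10) (kb xb9 yb35 zb28) (kb xb25 yb34 zb19) (kb xb25 yb34 zb20)) (@D3.rec (fun _ => Pt) (kb xb22 yb10 zb58) (kb xb25 yb34 zb24) (kb xb22 yb9 zb30) (kb xb10 yb51 zb3) (kb xb10 yb51 zb4) (kb xb20 yb56 zb44) (kb xb8 yb19 zb16) (kb xb25 yb34 zb27) (kb xb15 yb36 zb5) (kb xb21 yb41 zb19) (kb xb25 yb34 zb28) (kb xb8 yb19 zb18) (kb xb22 yb14 zb59) (kb xb8 yb19 zb20) (kb xb25 yb34 zb32) (kb xb18 yb2 zb6) (kb xb18 yb1 zb43) (kb xb8 yb19 zb21) (kb xb15 yb45 zb34) (kb xb25 yb34 zb37) (kb xb20 yb54 zb39) (kb xb25 yb27 zb55) (kb xb21 yb58 zb8) (kb xb8 yb22 zb56) (kb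 xb17 yb55 zb45) (kb xb10 yb38 zb40) (kb xb11 yb52 zb5) (kb xb25 yb34 zb47) (kb xb25 yb34 zb48) (kb xb8 yb19 zb29) (kb xb25 yb34 zb50) (kb xb25 yb34 zb53) (kb xb8 yb19 zb30) (kb xb8 yb19 zb31) (kb xb15 yb45 zb1) (kb xb24 yb54 zb44) (kb xb8 yb19 zb27) (kb xb8 yb19 zb28) (kb xb15 yb20 zb20) (kb xb25 yb35 zb0) (kb xb25 yb34 zb49) (kb xb14 yb52 zb24) (kb xb15 yb22 zb9) (kb xb21 yb21 zb0) (kb xb15 yb18 zb38) (kb xb25 yb34 zb59) (kb xb8 yb19 zb32) (kb xb24 yb54 zb51) (kb xb25 yb35 zb6) (kb xb8 yb19 zb33) (kb xb9 yb37 zb61) (kb xb25 yb35 zb8) (kb xb21 yb45 zb52) (kb xb22 yb48 zb41) (kb xb22 yb55 zb7) (kb xb25 yb35 zb15) (kb xb25 yb35 zb18) (kb xb25 yb4 zb20) (kb xb8 yb19 zb37) (kb xb25 yb35 zb22) (kb xb13 yb0 zb36) (kb xb8 yb19 zb38)) (@D3.rec (fun _ => Pt) (kb xb8 yb19 zb39)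 (kb xb25 yb35 zb29) (kb xb11 yb32 zb37) (kb xb20 yb44 zb2) (kb xb20 yb43 zb31) (kb xb12 yb59 zb11) (kb xb25 yb35 zb31) (kb xb22 yb59 zb29) (kb xb20 yb44 zb3) (kb xb25 yb5 zb45) (kb xb8 yb19 zb41) (kb xb25 yb35 zb33) (kb xb25 yb35 zb34) (kb xb25 yb28 zb22) (kb xb25 yb34 zb30) (kb xb8 yb19 zb43) (kb xb8 yb19 zb44) (kb xb25 yb28 zb21) (kb xb22 yb59 zb38) (kb xb25 yb35 zb42) (kb xb15 yb21 zb60) (kb xb21 yb58 zb10) (kb xb25 yb28 zb13) (kb xb22 yb9 zb44) (kb xb9 yb37 zb17) (kb xb8 yb19 zb46) (kb xb25 yb35 zb58) (kb xb25 yb35 zb57) (kb xb25 yb36 zb0) (kb xb25 yb36 zb3) (kb xb25 yb28 zb28) (kb xb8 yb19 zb48) (kb xb23 yb0 zb60) (kb xb25 yb36 zb5) (kb xb8 yb19 zb49) (kb xb25 yb36 zb8) (kb xb25 yb36 zb10) (kb xb24 yb8 zb9) (kb xb8 yb19 zb50) (kb xb18 yb51 zb17) (kb xb8 yb20 zb1)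 (kb xb21 yb52 zb58) (kb xb18 yb7 zb39) (kb xb25 yb28 zb39) (kb xb10 yb51 zb22) (kb xb8 yb19 zb55) (kb xb25 yb36 zb19) (kb xb20 yb59 zb12) (kb xb25 yb36 zb18) (kb xb24 yb7 zb48) (kb xb24 yb7 zb51) (kb xb14 yb32 zb6) (kb xb8 yb19 zb57) (kb xb10 yb23 zb38) (kb xb25 yb36 zb25) (kb xb25 yb36 zb26) (kb xb25 yb25 zb14) (kb xb25 yb36 zb29) (kb xb22 yb54 zb20) (kb xb8 yb19 zb59) (kb xb15 yb32 zb47) (kb xb8 yb19 zb60)) (@D3.rec (fun _ => Pt) (kb xb23 yb5 zb29) (kb xb8 yb19 zb61) (kb xb14 yb27 zb10) (kb xb25 yb36 zb33) (kb xb12 yb57 zb19) (kb xb14 yb22 zb34) (kb xb25 yb6 zb53) (kb xb8 yb20 zb2) (kb xb16 yb7 zb11) (kb xb25 yb36 zb38) (kb xb25 yb36 zb39) (kb xb8 yb20 zb3) (kb xb25 yb36 zb44) (kb xb25 yb36 zb45) (kb xb8 yb20 zb5) (kb xb11 yb56 zb51) (kb xb25 yb36 zb49) (kb xb15 yb33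 zb35) (kb xb19 yb26 zb48) (kb xb22 yb4 zb46) (kb xb8 yb20 zb10) (kb xb8 yb20 zb11) (kb xb8 yb20 zb9) (kb xb25 yb36 zb57) (kb xb22 yb3 zb33) (kb xb25 yb36 zb59) (kb xb21 yb8 zb52) (kb xb23 yb30 zb36) (kb xb16 yb3 zb61) (kb xb24 yb43 zb55) (kb xb25 yb36 zb37) (kb xb23 yb43 zb12) (kb xb22 yb27 zb10) (kb xb15 yb42 zb11) (kb xb16 yb2 zb42) (kb xb25 yb37 zb8) (kb xb8 yb20 zb48) (kb xb8 yb20 zb16) (kb xb8 yb20 zb17) (kb xb24 yb38 zb3) (kb xb25 yb37 zb14) (kb xb25 yb30 zb28) (kb xb23 yb39 zb13) (kb xb13 yb54 zb25) (kb xb21 yb24 zb23) (kb xb21 yb24 zb46) (kb xb25 yb26 zb52) (kb xb8 yb20 zb21) (kb xb25 yb37 zb23) (kb xb25 yb37 zb24) (kb xb19 yb55 zb32) (kb xb8 yb36 zb45) (kb xb16 yb11 zb47) (kb xb25 yb37 zb28) (kb xb25 yb22 zb30) (kb xb16 yb37 zb9) (kb xb8 yb20 zb26) (kb xb25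 yb37 zb34) (kb xb25 yb37 zb35) (kb xb19 yb56 zb34) (kb xb11 yb53 zb26) (kb xb8 yb39 zb17)) (@D3.rec (fun _ => Pt) (kb xb22 yb43 zb61) (kb xb16 yb4 zb20) (kb xb8 yb20 zb31) (kb xb8 yb20 zb32) (kb xb14 yb47 zb58) (kb xb25 yb15 zb39) (kb xb25 yb37 zb49) (kb xb25 yb37 zb42) (kb xb25 yb37 zb43) (kb xb24 yb41 zb25) (kb xb16 yb2 zb55) (kb xb15 yb41 zb33) (kb xb19 yb48 zb32) (kb xb16 yb4 zb58) (kb xb16 yb4 zb12) (kb xb8 yb20 zb36) (kb xb8 yb20 zb37) (kb xb25 yb37 zb58) (kb xb23 yb35 zb30) (kb xb25 yb37 zb59) (kb xb25 yb37 zb60) (kb xb13 yb53 zb24) (kb xb25 yb38 zb5) (kb xb16 yb4 zb37) (kb xb8 yb20 zb41) (kb xb8 yb20 zb42) (kb xb25 yb38 zb9) (kb xb25 yb38 zb11) (kb xb25 yb38 zb12) (kb xb25 yb38 zb19) (kb xb25 yb38 zb21) (kb xb16 yb4 zb32) (kb xb8 yb20 zb44) (kb xb8 yb20 zb45)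 (kb xb25 yb38 zb28) (kb xb25 yb38 zb29) (kb xb8 yb20 zb46) (kb xb17 yb40 zb14) (kb xb8 yb20 zb47) (kb xb25 yb38 zb38) (kb xb9 yb51 zb31) (kb xb8 yb20 zb53) (kb xb8 yb20 zb51) (kb xb16 yb47 zb38) (kb xb8 yb20 zb52) (kb xb25 yb38 zb42) (kb xb25 yb38 zb43) (kb xb25 yb38 zb47) (kb xb21 yb19 zb26) (kb xb25 yb38 zb40) (kb xb8 yb20 zb54) (kb xb15 yb15 zb3) (kb xb25 yb38 zb56) (kb xb8 yb20 zb55) (kb xb8 yb36 zb1) (kb xb25 yb38 zb60) (kb xb25 yb38 zb61) (kb xb25 yb39 zb4) (kb xb25 yb39 zb7) (kb xb25 yb39 zb12) (kb xb12 yb18 zb39) (kb xb24 yb32 zb36)) (@D3.rec (fun _ => Pt) (kb xb8 yb20 zb59) (kb xb24 yb42 zb32) (kb xb8 yb20 zb60) (kb xb25 yb39 zb17) (kb xb25 yb39 zb18) (kb xb25 yb29 zb37) (kb xb19 yb35 zb46) (kb xb9 yb20 zb10) (kb xb25 yb28 zb47) (kb xb25 yb39 zb22) (kb xb8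 yb36 zb34) (kb xb25 yb39 zb25) (kb xb19 yb48 zb30) (kb xb8 yb21 zb7) (kb xb16 yb41 zb49) (kb xb8 yb21 zb8) (kb xb25 yb39 zb29) (kb xb25 yb39 zb32) (kb xb12 yb0 zb23) (kb xb23 yb42 zb11) (kb xb16 yb5 zb50) (kb xb16 yb2 zb35) (kb xb8 yb21 zb13) (kb xb8 yb21 zb14) (kb xb25 yb39 zb34) (kb xb25 yb39 zb36) (kb xb13 yb56 zb2) (kb xb11 yb59 zb7) (kb xb25 yb39 zb41) (kb xb16 yb3 zb7) (kb xb8 yb21 zb19) (kb xb8 yb21 zb20) (kb xb23 yb34 zb51) (kb xb25 yb39 zb46) (kb xb16 yb3 zb3) (kb xb8 yb21 zb23) (kb xb15 yb3 zb42) (kb xb25 yb39 zb47) (kb xb25 yb39 zb48) (kb xb8 yb21 zb24) (kb xb14 yb6 zb13) (kb xb9 yb45 zb29) (kb xb8 yb21 zb28) (kb xb23 yb26 zb18) (kb xb24 yb52 zb45) (kb xb8 yb21 zb30) (kb xb25 yb39 zb56) (kb xb23 yb27 zb48) (kb xb11 yb26 zb59) (kb xb21 yb49 zb32) (kb xb23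 yb26 zb33) (kb xb8 yb21 zb32) (kb xb25 yb40 zb5) (kb xb25 yb40 zb8) (kb xb25 yb40 zb12) (kb xb25 yb30 zb20) (kb xb21 yb36 zb9) (kb xb8 yb21 zb35) (kb xb23 yb41 zb40) (kb xb24 yb20 zb37) (kb xb19 yb10 zb54) (kb xb8 yb21 zb37)) (@D3.rec (fun _ => Pt) (kb xb23 yb12 zb22) (kb xb24 yb44 zb27) (kb xb25 yb40 zb25) (kb xb25 yb40 zb28) (kb xb8 yb21 zb38) (kb xb25 yb40 zb32) (kb xb25 yb40 zb33) (kb xb25 yb14 zb3) (kb xb25 yb40 zb36) (kb xb10 yb35 zb49) (kb xb8 yb21 zb41) (kb xb25 yb40 zb37) (kb xb8 yb21 zb43) (kb xb24 yb9 zb45) (kb xb19 yb57 zb44) (kb xb8 yb21 zb47) (kb xb8 yb21 zb48) (kb xb25 yb40 zb41) (kb xb20 yb9 zb10) (kb xb10 yb48 zb2) (kb xb8 yb21 zb50) (kb xb8 yb21 zb51) (kb xb8 yb21 zb52) (kb xb25 yb40 zb44) (kb xb25 yb40 zb43) (kb xb10 yb36 zb13) (kb xb25 yb40 zb48)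 (kb xb24 yb45 zb19) (kb xb8 yb22 zb4) (kb xb8 yb21 zb56) (kb xb8 yb21 zb57) (kb xb25 yb15 zb4) (kb xb22 yb10 zb23) (kb xb15 yb45 zb2) (kb xb23 yb23 zb40) (kb xb12 yb40 zb29) (kb xb25 yb40 zb59) (kb xb25 yb40 zb61) (kb xb25 yb41 zb1) (kb xb25 yb41 zb4) (kb xb16 yb6 zb13) (kb xb8 yb22 zb0) (kb xb25 yb41 zb10) (kb xb24 yb45 zb14) (kb xb16 yb6 zb10) (kb xb8 yb22 zb2) (kb xb25 yb41 zb15) (kb xb8 yb22 zb3) (kb xb25 yb40 zb49) (kb xb18 yb27 zb43) (kb xb25 yb41 zb20) (kb xb24 yb51 zb37) (kb xb8 yb22 zb9) (kb xb8 yb22 zb12) (kb xb8 yb22 zb7) (kb xb25 yb41 zb26) (kb xb8 yb22 zb8) (kb xb25 yb41 zb31) (kb xb25 yb41 zb33) (kb xb25 yb41 zb36) (kb xb25 yb41 zb23) (kb xb19 yb14 zb44)) (@D3.rec (fun _ => Pt) (kb xb8 yb22 zb10) (kb xb15 yb39 zb34) (kb xb15 yb44 zb33) (kb xb25 yb41 zb44)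 (kb xb8 yb22 zb11) (kb xb9 yb36 zb37) (kb xb25 yb41 zb47) (kb xb25 yb41 zb48) (kb xb8 yb33 zb2) (kb xb25 yb41 zb52) (kb xb15 yb53 zb9) (kb xb12 yb36 zb51) (kb xb8 yb22 zb16) (kb xb25 yb41 zb56) (kb xb8 yb22 zb15) (kb xb14 yb54 zb54) (kb xb17 yb55 zb53) (kb xb14 yb36 zb16) (kb xb8 yb22 zb18) (kb xb25 yb41 zb60) (kb xb25 yb41 zb61) (kb xb25 yb42 zb3) (kb xb8 yb22 zb20) (kb xb19 yb41 zb16) (kb xb8 yb22 zb21) (kb xb24 yb42 zb58) (kb xb25 yb42 zb7) (kb xb8 yb22 zb24) (kb xb25 yb42 zb8) (kb xb8 yb22 zb28) (kb xb11 yb50 zb36) (kb xb10 yb53 zb16) (kb xb8 yb22 zb30) (kb xb11 yb0 zb34) (kb xb15 yb39 zb18) (kb xb25 yb42 zb12) (kb xb8 yb22 zb33) (kb xb14 yb2 zb17) (kb xb25 yb42 zb16) (kb xb23 yb27 zb60) (kb xb21 yb6 zb0) (kb xb21 yb34 zb20) (kb xb14 yb3 zb2) (kb xb23 yb24 zb15)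 (kb xb16 yb5 zb19) (kb xb24 yb44 zb32) (kb xb23 yb22 zb48) (kb xb16 yb5 zb14) (kb xb8 yb22 zb38) (kb xb25 yb42 zb28) (kb xb8 yb22 zb39) (kb xb8 yb22 zb40) (kb xb23 yb23 zb34) (kb xb23 yb22 zb44) (kb xb25 yb42 zb31) (kb xb8 yb22 zb46) (kb xb8 yb22 zb43) (kb xb8 yb22 zb45) (kb xb25 yb42 zb32) (kb xb25 yb42 zb36) (kb xb20 yb24 zb14) (kb xb21 yb19 zb18)) (@D3.rec (fun _ => Pt) (kb xb22 yb38 zb13) (kb xb8 yb22 zb47) (kb xb25 yb42 zb44) (kb xb8 yb22 zb48) (kb xb25 yb42 zb47) (kb xb25 yb42 zb50) (kb xb25 yb42 zb53) (kb xb12 yb27 zb7) (kb xb25 yb42 zb55) (kb xb21 yb26 zb39) (kb xb14 yb54 zb33) (kb xb8 yb22 zb54) (kb xb25 yb42 zb59) (kb xb23 yb42 zb15) (kb xb8 yb22 zb55) (kb xb25 yb34 zb43) (kb xb25 yb34 zb44) (kb xb17 yb10 zb11) (kb xb8 yb22 zb61) (kb xb8 yb22 zb60) (kb xb25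 yb43 zb2) (kb xb8 yb23 zb1) (kb xb8 yb23 zb2) (kb xb8 yb23 zb4) (kb xb9 yb38 zb45) (kb xb25 yb32 zb53) (kb xb25 yb34 zb1) (kb xb25 yb32 zb54) (kb xb25 yb31 zb25) (kb xb8 yb23 zb13) (kb xb25 yb43 zb9) (kb xb8 yb23 zb15) (kb xb25 yb43 zb12) (kb xb24 yb58 zb2) (kb xb25 yb26 zb61) (kb xb25 yb7 zb13) (kb xb19 yb35 zb36) (kb xb8 yb23 zb18) (kb xb8 yb23 zb19) (kb xb8 yb23 zb20) (kb xb24 yb8 zb5) (kb xb15 yb36 zb61) (kb xb19 yb41 zb35) (kb xb19 yb49 zb50) (kb xb25 yb43 zb17) (kb xb21 yb35 zb57) (kb xb25 yb43 zb28) (kb xb12 yb52 zb22) (kb xb8 yb23 zb22) (kb xb25 yb43 zb30) (kb xb25 yb43 zb31) (kb xb8 yb23 zb28) (kb xb25 yb22 zb47) (kb xb8 yb23 zb30) (kb xb8 yb23 zb31) (kb xb14 yb17 zb32) (kb xb24 yb14 zb12) (kb xb24 yb14 zb13) (kb xb8 yb23 zb32) (kb xb25 yb43 zb36) (kb xb8 yb23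 zb33) (kb xb25 yb43 zb38)) (@D3.rec (fun _ => Pt) (kb xb9 yb33 zb29) (kb xb8 yb23 zb35) (kb xb25 yb33 zb8) (kb xb8 yb23 zb37) (kb xb25 yb43 zb46) (kb xb8 yb23 zb39) (kb xb25 yb43 zb50) (kb xb8 yb23 zb40) (kb xb25 yb43 zb53) (kb xb25 yb43 zb54) (kb xb25 yb43 zb56) (kb xb25 yb43 zb57) (kb xb8 yb32 zb29) (kb xb21 yb20 zb36) (kb xb25 yb23 zb8) (kb xb8 yb32 zb32) (kb xb25 yb43 zb61) (kb xb25 yb44 zb1) (kb xb25 yb7 zb10) (kb xb12 yb19 zb2) (kb xb8 yb23 zb46) (kb xb25 yb44 zb4) (kb xb9 yb18 zb60) (kb xb9 yb20 zb11) (kb xb8 yb23 zb48) (kb xb25 yb44 zb6) (kb xb12 yb16 zb34) (kb xb25 yb36 zb55) (kb xb12 yb21 zb37) (kb xb8 yb23 zb57) (kb xb23 yb33 zb29) (kb xb13 yb48 zb57) (kb xb23 yb20 zb19) (kb xb18 yb23 zb55) (kb xb10 yb45 zb54) (kb xb8 yb27 zb16) (kb xb19 yb5 zb50) (kb xb20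 yb14 zb28) (kb xb16 yb8 zb41) (kb xb8 yb24 zb0) (kb xb8 yb24 zb1) (kb xb21 yb30 zb17) (kb xb21 yb44 zb11) (kb xb21 yb54 zb42) (kb xb19 yb27 zb54) (kb xb17 yb3 zb51) (kb xb15 yb48 zb6) (kb xb16 yb7 zb17) (kb xb23 yb13 zb4) (kb xb25 yb44 zb28) (kb xb8 yb24 zb4) (kb xb12 yb18 zb20) (kb xb22 yb9 zb31) (kb xb24 yb45 zb47) (kb xb10 yb50 zb28) (kb xb8 yb24 zb15) (kb xb22 yb2 zb50) (kb xb25 yb44 zb36) (kb xb16 yb8 zb59) (kb xb8 yb24 zb11) (kb xb8 yb24 zb12) (kb xb19 yb11 zb8)) (@D3.rec (fun _ => Pt) (kb xb25 yb44 zb40) (kb xb12 yb17 zb50) (kb xb19 yb11 zb9) (kb xb25 yb44 zb38) (kb xb25 yb44 zb46) (kb xb16 yb7 zb31) (kb xb15 yb47 zb46) (kb xb9 yb18 zb31) (kb xb8 yb24 zb16) (kb xb8 yb24 zb19) (kb xb21 yb43 zb42) (kb xb25 yb44 zb55) (kb xb14 yb11 zb61) (kb xb14 yb12 zb6) (kb xb12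 yb24 zb22) (kb xb23 yb2 zb49) (kb xb25 yb44 zb60) (kb xb16 yb9 zb13) (kb xb8 yb24 zb24) (kb xb8 yb24 zb25) (kb xb24 yb20 zb38) (kb xb12 yb35 zb45) (kb xb25 yb45 zb2) (kb xb22 yb10 zb30) (kb xb12 yb35 zb39) (kb xb8 yb24 zb27) (kb xb8 yb24 zb28) (kb xb18 yb0 zb52) (kb xb8 yb24 zb30) (kb xb25 yb45 zb5) (kb xb8 yb24 zb32) (kb xb12 yb41 zb17) (kb xb8 yb24 zb33) (kb xb18 yb17 zb43) (kb xb8 yb24 zb34) (kb xb20 yb39 zb47) (kb xb25 yb45 zb12) (kb xb23 yb13 zb1) (kb xb9 yb18 zb51) (kb xb8 yb24 zb36) (kb xb8 yb24 zb37) (kb xb25 yb45 zb15) (kb xb8 yb24 zb40) (kb xb21 yb27 zb12) (kb xb8 yb24 zb39) (kb xb22 yb8 zb60) (kb xb25 yb45 zb17) (kb xb25 yb45 zb16) (kb xb12 yb0 zb31) (kb xb8 yb24 zb44) (kb xb12 yb0 zb32) (kb xb25 yb45 zb19) (kb xb10 yb19 zb57) (kb xb17 yb41 zb17) (kb xb17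 yb37 zb23) (kb xb8 yb24 zb47) (kb xb8 yb24 zb48) (kb xb25 yb45 zb22) (kb xb25 yb45 zb26) (kb xb25 yb45 zb27) (kb xb22 yb11 zb17) (kb xb21 yb17 zb46)) (@D3.rec (fun _ => Pt) (kb xb12 yb50 zb11) (kb xb18 yb52 zb37) (kb xb8 yb24 zb50) (kb xb25 yb15 zb41) (kb xb25 yb45 zb29) (kb xb25 yb45 zb30) (kb xb22 yb11 zb8) (kb xb22 yb11 zb25) (kb xb22 yb9 zb37) (kb xb12 yb19 zb32) (kb xb12 yb58 zb50) (kb xb8 yb25 zb8) (kb xb8 yb25 zb9) (kb xb21 yb7 zb22) (kb xb12 yb27 zb51) (kb xb24 yb44 zb40) (kb xb12 yb40 zb0) (kb xb8 yb25 zb32) (kb xb10 yb50 zb6) (kb xb8 yb25 zb14) (kb xb25 yb45 zb37) (kb xb11 yb14 zb31) (kb xb21 yb51 zb61) (kb xb8 yb25 zb17) (kb xb16 yb48 zb48) (kb xb12 yb19 zb33) (kb xb24 yb57 zb34) (kb xb19 yb16 zb32) (kb xb8 yb25 zb23) (kb xb21 yb44 zb48) (kb xb12 yb18 zb58)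 (kb xb16 yb7 zb28) (kb xb25 yb45 zb46) (kb xb12 yb37 zb10) (kb xb21 yb19 zb32) (kb xb16 yb9 zb6) (kb xb23 yb2 zb53) (kb xb11 yb17 zb57) (kb xb8 yb25 zb25) (kb xb8 yb25 zb26) (kb xb25 yb45 zb49) (kb xb12 yb34 zb45) (kb xb8 yb25 zb29) (kb xb21 yb8 zb12) (kb xb24 yb32 zb31) (kb xb8 yb25 zb30) (kb xb8 yb25 zb31) (kb xb22 yb3 zb45) (kb xb8 yb25 zb35) (kb xb17 yb55 zb24) (kb xb20 yb12 zb56) (kb xb10 yb12 zb5) (kb xb11 yb40 zb24) (kb xb24 yb42 zb55) (kb xb8 yb25 zb41) (kb xb12 yb35 zb13) (kb xb25 yb45 zb58) (kb xb8 yb25 zb44) (kb xb18 yb16 zb37) (kb xb10 yb20 zb38) (kb xb14 yb32 zb43) (kb xb10 yb39 zb3)) (@D3.rec (fun _ => Pt) (kb xb8 yb25 zb47) (kb xb25 yb46 zb7) (kb xb8 yb25 zb48) (kb xb25 yb46 zb10) (kb xb19 yb49 zb11) (kb xb10 yb1 zb23) (kb xb8 yb25 zb54) (kb xb23 yb31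 zb6) (kb xb25 yb46 zb13) (kb xb15 yb13 zb23) (kb xb18 yb22 zb45) (kb xb8 yb48 zb56) (kb xb23 yb13 zb38) (kb xb25 yb46 zb21) (kb xb15 yb23 zb43) (kb xb9 yb43 zb48) (kb xb24 yb56 zb46) (kb xb16 yb29 zb44) (kb xb25 yb46 zb28) (kb xb16 yb11 zb39) (kb xb8 yb25 zb61) (kb xb13 yb6 zb31) (kb xb23 yb44 zb47) (kb xb13 yb6 zb30) (kb xb14 yb0 zb6) (kb xb18 yb40 zb47) (kb xb8 yb26 zb6) (kb xb8 yb26 zb7) (kb xb25 yb46 zb36) (kb xb25 yb3 zb59) (kb xb15 yb11 zb56) (kb xb8 yb26 zb3) (kb xb18 yb29 zb10) (kb xb8 yb26 zb4) (kb xb25 yb46 zb39) (kb xb8 yb26 zb5) (kb xb13 yb24 zb11) (kb xb23 yb31 zb58) (kb xb23 yb15 zb39) (kb xb13 yb51 zb23) (kb xb8 yb26 zb9) (kb xb22 yb18 zb25) (kb xb17 yb39 zb41) (kb xb17 yb45 zb46) (kb xb17 yb45 zb35) (kb xb17 yb45 zb47) (kb xb25 yb46 zb47) (kb xb18 yb58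 zb38) (kb xb15 yb50 zb58) (kb xb8 yb26 zb13) (kb xb9 yb2 zb5) (kb xb8 yb26 zb21) (kb xb8 yb26 zb16) (kb xb9 yb52 zb59) (kb xb17 yb46 zb54) (kb xb9 yb53 zb42) (kb xb17 yb46 zb56) (kb xb25 yb46 zb52) (kb xb15 yb50 zb48) (kb xb8 yb26 zb20) (kb xb20 yb11 zb53) (kb xb16 yb13 zb38)) (@D3.rec (fun _ => Pt) (kb xb10 yb39 zb28) (kb xb16 yb40 zb45) (kb xb25 yb46 zb55) (kb xb25 yb46 zb56) (kb xb8 yb27 zb7) (kb xb8 yb26 zb25) (kb xb21 yb13 zb46) (kb xb16 yb8 zb39) (kb xb17 yb35 zb44) (kb xb8 yb27 zb27) (kb xb16 yb55 zb26) (kb xb17 yb49 zb0) (kb xb25 yb47 zb3) (kb xb14 yb48 zb20) (kb xb21 yb0 zb46) (kb xb8 yb26 zb30) (kb xb25 yb47 zb8) (kb xb8 yb26 zb32) (kb xb25 yb47 zb12) (kb xb14 yb58 zb11) (kb xb15 yb1 zb20) (kb xb16 yb50 zb1) (kb xb17 yb48 zb55) (kb xb19 yb35 zb15) (kb xb25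 yb47 zb14) (kb xb8 yb27 zb44) (kb xb10 yb51 zb37) (kb xb8 yb26 zb48) (kb xb8 yb26 zb42) (kb xb20 yb28 zb60) (kb xb19 yb33 zb30) (kb xb17 yb50 zb6) (kb xb8 yb26 zb45) (kb xb8 yb26 zb46) (kb xb19 yb44 zb22) (kb xb24 yb28 zb56) (kb xb16 yb40 zb36) (kb xb8 yb26 zb50) (kb xb25 yb47 zb25) (kb xb23 yb13 zb7) (kb xb16 yb21 zb35) (kb xb8 yb28 zb5) (kb xb8 yb28 zb6) (kb xb10 yb56 zb34) (kb xb8 yb27 zb1) (kb xb19 yb16 zb7) (kb xb17 yb51 zb9) (kb xb8 yb26 zb58) (kb xb8 yb26 zb59) (kb xb25 yb47 zb31) (kb xb25 yb47 zb34) (kb xb25 yb47 zb35) (kb xb25 yb11 zb29) (kb xb8 yb28 zb14) (kb xb14 yb43 zb24) (kb xb16 yb41 zb2) (kb xb15 yb24 zb33) (kb xb17 yb35 zb41) (kb xb16 yb40 zb34) (kb xb25 yb47 zb41) (kb xb8 yb57 zb50) (kb xb8 yb27 zb3)) (@D3.rec (fun _ => Pt) (kb xb8 yb27 zb4) (kb xb23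 yb55 zb12) (kb xb14 yb17 zb9) (kb xb25 yb47 zb45) (kb xb10 yb53 zb41) (kb xb25 yb47 zb46) (kb xb8 yb27 zb5) (kb xb25 yb12 zb60) (kb xb25 yb47 zb50) (kb xb25 yb47 zb51) (kb xb25 yb47 zb52) (kb xb8 yb27 zb6) (kb xb25 yb47 zb59) (kb xb25 yb47 zb60) (kb xb25 yb46 zb57) (kb xb17 yb3 zb42) (kb xb22 yb20 zb31) (kb xb25 yb48 zb10) (kb xb8 yb27 zb12) (kb xb8 yb27 zb13) (kb xb8 yb27 zb10) (kb xb8 yb27 zb11) (kb xb15 yb16 zb41) (kb xb25 yb48 zb19) (kb xb25 yb48 zb23) (kb xb19 yb6 zb54) (kb xb10 yb34 zb20) (kb xb24 yb27 zb30) (kb xb15 yb25 zb61) (kb xb9 yb57 zb41) (kb xb25 yb44 zb18) (kb xb25 yb44 zb19) (kb xb25 yb44 zb3) (kb xb25 yb48 zb31) (kb xb11 yb56 zb53) (kb xb8 yb27 zb18) (kb xb25 yb48 zb34) (kb xb25 yb48 zb39) (kb xb25 yb48 zb40) (kb xb24 yb36 zb55) (kb xb24 yb35 zb25)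 (kb xb18 yb45 zb32) (kb xb25 yb48 zb42) (kb xb25 yb48 zb43) (kb xb11 yb56 zb12) (kb xb8 yb27 zb24) (kb xb8 yb27 zb25) (kb xb17 yb39 zb2) (kb xb25 yb48 zb49) (kb xb25 yb48 zb51) (kb xb25 yb48 zb47) (kb xb14 yb51 zb3) (kb xb25 yb20 zb35) (kb xb17 yb36 zb6) (kb xb25 yb48 zb54) (kb xb8 yb27 zb29) (kb xb22 yb38 zb49) (kb xb21 yb45 zb56) (kb xb25 yb48 zb57) (kb xb15 yb31 zb47) (kb xb8 yb27 zb30) (kb xb15 yb55 zb49)) (@D3.rec (fun _ => Pt) (kb xb25 yb27 zb53) (kb xb14 yb49 zb23) (kb xb17 yb36 zb17) (kb xb21 yb34 zb48) (kb xb25 yb49 zb6) (kb xb8 yb27 zb35) (kb xb15 yb58 zb9) (kb xb19 yb38 zb47) (kb xb21 yb45 zb41) (kb xb15 yb45 zb10) (kb xb8 yb27 zb36) (kb xb25 yb49 zb11) (kb xb25 yb49 zb9) (kb xb8 yb27 zb37) (kb xb10 yb37 zb23) (kb xb25 yb49 zb19) (kb xb8 yb27 zb39) (kb xb22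 yb52 zb39) (kb xb8 yb27 zb40) (kb xb24 yb8 zb30) (kb xb25 yb49 zb24) (kb xb22 yb52 zb24) (kb xb25 yb49 zb27) (kb xb13 yb43 zb51) (kb xb13 yb36 zb53) (kb xb8 yb27 zb45) (kb xb25 yb49 zb29) (kb xb24 yb10 zb11) (kb xb17 yb38 zb25) (kb xb22 yb55 zb22) (kb xb25 yb49 zb31) (kb xb24 yb32 zb59) (kb xb25 yb49 zb34) (kb xb8 yb27 zb52) (kb xb8 yb27 zb53) (kb xb24 yb42 zb61) (kb xb10 yb32 zb42) (kb xb24 yb43 zb0) (kb xb14 yb50 zb35) (kb xb25 yb38 zb22) (kb xb16 yb22 zb13) (kb xb8 yb27 zb55) (kb xb25 yb49 zb40) (kb xb25 yb49 zb39) (kb xb8 yb27 zb57) (kb xb24 yb52 zb5) (kb xb19 yb38 zb38) (kb xb8 yb27 zb58) (kb xb10 yb39 zb40) (kb xb15 yb20 zb33) (kb xb24 yb51 zb57) (kb xb24 yb27 zb43) (kb xb8 yb28 zb1) (kb xb8 yb28 zb2) (kb xb8 yb27 zb61) (kb xb15 yb15 zb43) (kb xb8 yb28 zb0) (kb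 xb24 yb3 zb35) (kb xb12 yb41 zb42) (kb xb25 yb49 zb51) (kb xb25 yb49 zb54) (kb xb25 yb49 zb57)) (@D3.rec (fun _ => Pt) (kb xb20 yb59 zb27) (kb xb25 yb49 zb58) (kb xb8 yb28 zb8) (kb xb9 yb37 zb24) (kb xb9 yb38 zb17) (kb xb8 yb28 zb10) (kb xb25 yb49 zb61) (kb xb25 yb50 zb0) (kb xb8 yb28 zb11) (kb xb25 yb50 zb1) (kb xb25 yb50 zb4) (kb xb23 yb56 zb22) (kb xb23 yb10 zb32) (kb xb19 yb49 zb52) (kb xb15 yb54 zb43) (kb xb8 yb28 zb17) (kb xb10 yb19 zb12) (kb xb25 yb50 zb8) (kb xb8 yb28 zb20) (kb xb8 yb28 zb21) (kb xb16 yb40 zb38) (kb xb8 yb28 zb19) (kb xb25 yb50 zb18) (kb xb14 yb48 zb47) (kb xb25 yb5 zb18) (kb xb25 yb50 zb27) (kb xb25 yb50 zb13) (kb xb25 yb10 zb30) (kb xb25 yb50 zb16) (kb xb25 yb50 zb17) (kb xb25 yb5 zb22) (kb xb25 yb10 zb27) (kb xb19 yb49 zb12) (kb xb19 yb27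 zb61) (kb xb8 yb28 zb25) (kb xb8 yb28 zb26) (kb xb19 yb28 zb0) (kb xb19 yb28 zb1) (kb xb10 yb35 zb58) (kb xb11 yb41 zb34) (kb xb25 yb11 zb33) (kb xb25 yb50 zb40) (kb xb25 yb50 zb41) (kb xb15 yb54 zb14) (kb xb8 yb28 zb28) (kb xb10 yb41 zb33) (kb xb25 yb50 zb57) (kb xb8 yb28 zb29) (kb xb20 yb15 zb25) (kb xb25 yb51 zb1) (kb xb21 yb35 zb61) (kb xb8 yb28 zb34) (kb xb25 yb51 zb8) (kb xb25 yb51 zb11) (kb xb8 yb28 zb35) (kb xb25 yb33 zb48) (kb xb8 yb28 zb33) (kb xb9 yb28 zb52) (kb xb25 yb51 zb15) (kb xb21 yb16 zb56) (kb xb8 yb30 zb13) (kb xb21 yb43 zb5)) (@D3.rec (fun _ => Pt) (kb xb25 yb33 zb17) (kb xb21 yb36 zb2) (kb xb25 yb51 zb19) (kb xb25 yb51 zb22) (kb xb10 yb43 zb1) (kb xb8 yb28 zb41) (kb xb8 yb28 zb42) (kb xb20 yb11 zb38) (kb xb25 yb51 zb25) (kb xb24 yb11 zb61) (kb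 xb23 yb54 zb22) (kb xb14 yb25 zb7) (kb xb25 yb51 zb29) (kb xb24 yb21 zb18) (kb xb21 yb52 zb12) (kb xb20 yb12 zb10) (kb xb10 yb43 zb60) (kb xb8 yb28 zb47) (kb xb8 yb28 zb48) (kb xb13 yb23 zb3) (kb xb25 yb51 zb36) (kb xb25 yb51 zb38) (kb xb24 yb9 zb58) (kb xb14 yb24 zb32) (kb xb25 yb51 zb40) (kb xb25 yb51 zb42) (kb xb16 yb12 zb29) (kb xb23 yb10 zb60) (kb xb25 yb51 zb46) (kb xb15 yb56 zb21) (kb xb8 yb28 zb53) (kb xb8 yb28 zb54) (kb xb22 yb25 zb33) (kb xb13 yb11 zb6) (kb xb13 yb45 zb56) (kb xb10 yb44 zb15) (kb xb21 yb30 zb36) (kb xb13 yb45 zb54) (kb xb8 yb28 zb56) (kb xb8 yb28 zb57) (kb xb25 yb51 zb50) (kb xb14 yb28 zb24) (kb xb23 yb13 zb8) (kb xb15 yb56 zb29) (kb xb23 yb10 zb61) (kb xb8 yb28 zb58) (kb xb24 yb35 zb45) (kb xb16 yb55 zb28) (kb xb25 yb51 zb57) (kb xb15 yb52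 zb61) (kb xb16 yb10 zb8) (kb xb13 yb17 zb1) (kb xb11 yb16 zb7) (kb xb21 yb30 zb34) (kb xb25 yb52 zb5) (kb xb25 yb52 zb9) (kb xb8 yb29 zb4) (kb xb8 yb29 zb5) (kb xb8 yb29 zb1) (kb xb20 yb47 zb39) (kb xb8 yb29 zb2) (kb xb8 yb29 zb3)) (@D3.rec (fun _ => Pt) (kb xb19 yb17 zb55) (kb xb24 yb15 zb54) (kb xb25 yb52 zb19) (kb xb24 yb19 zb21) (kb xb10 yb50 zb2) (kb xb8 yb39 zb12) (kb xb25 yb52 zb26) (kb xb25 yb52 zb29) (kb xb16 yb12 zb54) (kb xb8 yb29 zb9) (kb xb19 yb42 zb35) (kb xb25 yb52 zb34) (kb xb11 yb55 zb2) (kb xb8 yb29 zb12) (kb xb8 yb29 zb13) (kb xb24 yb4 zb7) (kb xb20 yb57 zb28) (kb xb25 yb52 zb41) (kb xb20 yb30 zb33) (kb xb11 yb56 zb6) (kb xb25 yb48 zb58) (kb xb15 yb55 zb29) (kb xb8 yb29 zb20) (kb xb8 yb29 zb21) (kb xb25 yb52 zb45) (kb xb25 yb52 zb48) (kb xb25 yb52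 zb49) (kb xb22 yb38 zb47) (kb xb25 yb52 zb55) (kb xb15 yb55 zb43) (kb xb17 yb33 zb0) (kb xb8 yb29 zb25) (kb xb25 yb53 zb2) (kb xb20 yb46 zb59) (kb xb25 yb53 zb1) (kb xb24 yb4 zb47) (kb xb15 yb29 zb12) (kb xb20 yb7 zb17) (kb xb18 yb48 zb40) (kb xb8 yb29 zb33) (kb xb8 yb29 zb30) (kb xb25 yb53 zb14) (kb xb8 yb29 zb31) (kb xb11 yb45 zb52) (kb xb25 yb53 zb13) (kb xb9 yb34 zb13) (kb xb8 yb32 zb48) (kb xb8 yb29 zb40) (kb xb8 yb29 zb35) (kb xb25 yb53 zb22) (kb xb17 yb22 zb6) (kb xb8 yb30 zb28) (kb xb8 yb29 zb37) (kb xb8 yb29 zb38) (kb xb25 yb53 zb27) (kb xb24 yb30 zb42) (kb xb21 yb27 zb17) (kb xb15 yb16 zb15) (kb xb17 yb37 zb51) (kb xb25 yb13 zb36) (kb xb8 yb30 zb60) (kb xb8 yb29 zb42)) (@D3.rec (fun _ => Pt) (kb xb8 yb29 zb43) (kb xb22 yb54 zb55) (kb xb22 yb2 zb61) (kb xb25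 yb53 zb33) (kb xb14 yb56 zb57) (kb xb8 yb34 zb16) (kb xb8 yb29 zb52) (kb xb8 yb29 zb47) (kb xb25 yb53 zb34) (kb xb25 yb53 zb36) (kb xb8 yb35 zb37) (kb xb8 yb31 zb14) (kb xb8 yb29 zb49) (kb xb8 yb29 zb50) (kb xb25 yb31 zb37) (kb xb12 yb40 zb16) (kb xb17 yb28 zb9) (kb xb25 yb13 zb46) (kb xb17 yb39 zb5) (kb xb15 yb17 zb0) (kb xb8 yb31 zb38) (kb xb8 yb29 zb54) (kb xb8 yb29 zb55) (kb xb25 yb53 zb43) (kb xb25 yb53 zb50) (kb xb17 yb28 zb3) (kb xb25 yb53 zb46) (kb xb25 yb53 zb47) (kb xb25 yb53 zb52) (kb xb25 yb53 zb53) (kb xb25 yb43 zb47) (kb xb8 yb31 zb53) (kb xb8 yb29 zb59) (kb xb8 yb29 zb60) (kb xb16 yb16 zb8) (kb xb25 yb54 zb3) (kb xb8 yb32 zb3) (kb xb8 yb30 zb0) (kb xb8 yb30 zb1) (kb xb25 yb54 zb11) (kb xb25 yb54 zb14) (kb xb25 yb54 zb15) (kb xb25 yb54 zb18) (kb xb8 yb30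 zb2) (kb xb25 yb54 zb24) (kb xb25 yb54 zb22) (kb xb25 yb54 zb23) (kb xb25 yb42 zb22) (kb xb8 yb30 zb3) (kb xb15 yb37 zb48) (kb xb25 yb54 zb31) (kb xb9 yb33 zb12) (kb xb8 yb32 zb15) (kb xb25 yb54 zb37) (kb xb25 yb54 zb40) (kb xb18 yb14 zb46) (kb xb8 yb30 zb9) (kb xb8 yb30 zb7) (kb xb25 yb54 zb48) (kb xb8 yb30 zb8) (kb xb13 yb39 zb52) (kb xb25 yb54 zb49)) (@D3.rec (fun _ => Pt) (kb xb25 yb54 zb52) (kb xb25 yb54 zb47) (kb xb25 yb39 zb42) (kb xb25 yb54 zb55) (kb xb10 yb52 zb4) (kb xb8 yb30 zb12) (kb xb20 yb2 zb36) (kb xb19 yb49 zb30) (kb xb25 yb54 zb61) (kb xb15 yb53 zb6) (kb xb25 yb55 zb0) (kb xb25 yb55 zb2) (kb xb25 yb55 zb4) (kb xb8 yb30 zb18) (kb xb8 yb30 zb19) (kb xb16 yb43 zb20) (kb xb19 yb26 zb8) (kb xb25 yb55 zb9) (kb xb25 yb55 zb12) (kb xb25 yb31 zb27) (kb xb8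 yb30 zb21) (kb xb8 yb30 zb22) (kb xb25 yb55 zb18) (kb xb25 yb55 zb20) (kb xb25 yb43 zb29) (kb xb22 yb9 zb35) (kb xb8 yb30 zb24) (kb xb8 yb30 zb25) (kb xb25 yb55 zb30) (kb xb25 yb55 zb31) (kb xb8 yb30 zb26) (kb xb25 yb55 zb39) (kb xb15 yb38 zb1) (kb xb25 yb55 zb38) (kb xb8 yb30 zb27) (kb xb9 yb44 zb49) (kb xb25 yb55 zb44) (kb xb25 yb55 zb45) (kb xb25 yb53 zb23) (kb xb21 yb27 zb18) (kb xb15 yb35 zb40) (kb xb25 yb55 zb52) (kb xb25 yb4 zb13) (kb xb8 yb30 zb33) (kb xb25 yb55 zb58) (kb xb11 yb56 zb56) (kb xb8 yb30 zb36) (kb xb8 yb30 zb37) (kb xb8 yb30 zb31) (kb xb25 yb56 zb2) (kb xb8 yb30 zb32) (kb xb18 yb55 zb35) (kb xb8 yb30 zb35) (kb xb25 yb56 zb8) (kb xb22 yb9 zb51) (kb xb25 yb31 zb35) (kb xb25 yb56 zb10) (kb xb8 yb30 zb38) (kb xb12 yb59 zb12) (kb xb25 yb56 zb12) (kb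 xb21 yb41 zb24) (kb xb18 yb5 zb60)) (@D3.rec (fun _ => Pt) (kb xb25 yb56 zb14) (kb xb20 yb14 zb19) (kb xb16 yb15 zb26) (kb xb8 yb30 zb49) (kb xb8 yb30 zb50) (kb xb21 yb44 zb9) (kb xb21 yb44 zb10) (kb xb25 yb56 zb21) (kb xb25 yb56 zb23) (kb xb8 yb56 zb35) (kb xb8 yb30 zb58) (kb xb16 yb48 zb43) (kb xb25 yb56 zb26) (kb xb25 yb56 zb27) (kb xb8 yb36 zb18) (kb xb15 yb59 zb60) (kb xb17 yb21 zb37) (kb xb25 yb53 zb28) (kb xb25 yb53 zb29) (kb xb25 yb56 zb36) (kb xb22 yb9 zb54) (kb xb10 yb47 zb11) (kb xb8 yb31 zb1) (kb xb22 yb2 zb3) (kb xb8 yb31 zb4) (kb xb8 yb31 zb5) (kb xb25 yb56 zb47) (kb xb16 yb26 zb33) (kb xb8 yb31 zb2) (kb xb8 yb43 zb13) (kb xb12 yb52 zb25) (kb xb12 yb52 zb26) (kb xb8 yb31 zb8) (kb xb15 yb34 zb29) (kb xb25 yb56 zb52) (kb xb25 yb43 zb44) (kb xb8 yb31 zb10)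 (kb xb15 yb17 zb9) (kb xb25 yb43 zb40) (kb xb18 yb43 zb60) (kb xb8 yb31 zb12) (kb xb18 yb7 zb1) (kb xb25 yb48 zb44) (kb xb8 yb31 zb13) (kb xb14 yb57 zb40) (kb xb25 yb53 zb38) (kb xb21 yb40 zb2) (kb xb25 yb27 zb41) (kb xb25 yb57 zb1) (kb xb19 yb44 zb26) (kb xb8 yb31 zb19) (kb xb25 yb29 zb46) (kb xb25 yb13 zb21) (kb xb8 yb31 zb22) (kb xb8 yb31 zb23) (kb xb8 yb31 zb17) (kb xb13 yb42 zb28) (kb xb8 yb31 zb18) (kb xb25 yb57 zb15) (kb xb25 yb57 zb20) (kb xb15 yb59 zb15) (kb xb8 yb31 zb20))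
def f_b_16 : D2 → D3 → Pt := @D2.rec (fun _ => D3 → Pt) (@D3.rec (fun _ => Pt) (kb xb25 yb57 zb22) (kb xb8 yb31 zb21) (kb xb25 yb57 zb25) (kb xb8 yb31 zb24) (kb xb25 yb7 zb44) (kb xb25 yb9 zb30) (kb xb12 yb58 zb27) (kb xb25 yb57 zb27) (kb xb17 yb35 zb22) (kb xb12 yb26 zb51) (kb xb8 yb31 zb31) (kb xb8 yb31 zb32) (kb xb25 yb57 zb28) (kb xb21 yb5 zb42) (kb xb17 yb28 zb7) (kb xb16 yb14 zb32) (kb xb8 yb31 zb36) (kb xb21 yb10 zb16) (kb xb22 yb8 zb20) (kb xb25 yb53 zb41) (kb xb25 yb57 zb36) (kb xb25 yb43 zb42) (kb xb10 yb53 zb52) (kb xb8 yb31 zb41) (kb xb8 yb31 zb44) (kb xb23 yb54 zb40) (kb xb25 yb57 zb43) (kb xb25 yb57 zb39) (kb xb25 yb57 zb40) (kb xb8 yb31 zb42) (kb xb9 yb37 zb55) (kb xb25 yb57 zb47) (kb xb25 yb57 zb48) (kb xb8 yb31 zb43) (kb xb21 yb49 zb28) (kb xb25 yb57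 zb53) (kb xb17 yb28 zb8) (kb xb12 yb16 zb1) (kb xb12 yb16 zb2) (kb xb8 yb31 zb48) (kb xb25 yb57 zb56) (kb xb25 yb57 zb59) (kb xb25 yb57 zb60) (kb xb8 yb31 zb49) (kb xb25 yb58 zb3) (kb xb25 yb58 zb4) (kb xb8 yb31 zb51) (kb xb24 yb45 zb18) (kb xb25 yb58 zb5) (kb xb25 yb58 zb6) (kb xb8 yb31 zb52) (kb xb16 yb5 zb60) (kb xb25 yb58 zb13) (kb xb19 yb5 zb39) (kb xb25 yb29 zb54) (kb xb25 yb53 zb59) (kb xb8 yb35 zb13) (kb xb20 yb16 zb4) (kb xb10 yb32 zb45) (kb xb10 yb32 zb46) (kb xb20 yb49 zb52) (kb xb25 yb58 zb25)) (@D3.rec (fun _ => Pt) (kb xb18 yb41 zb25) (kb xb8 yb31 zb60) (kb xb17 yb21 zb41) (kb xb24 yb43 zb31) (kb xb8 yb31 zb61) (kb xb8 yb32 zb0) (kb xb8 yb31 zb58) (kb xb15 yb6 zb40) (kb xb19 yb15 zb59) (kb xb8 yb31 zb59) (kb xb25 yb58 zb33) (kb xb25 yb54 zb25) (kb xb8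 yb32 zb1) (kb xb25 yb58 zb39) (kb xb25 yb58 zb37) (kb xb8 yb32 zb2) (kb xb9 yb35 zb46) (kb xb25 yb58 zb41) (kb xb24 yb7 zb32) (kb xb9 yb35 zb34) (kb xb25 yb54 zb6) (kb xb25 yb54 zb7) (kb xb15 yb37 zb58) (kb xb18 yb6 zb61) (kb xb9 yb33 zb56) (kb xb9 yb33 zb57) (kb xb25 yb58 zb57) (kb xb24 yb35 zb0) (kb xb8 yb32 zb8) (kb xb21 yb4 zb48) (kb xb21 yb16 zb21) (kb xb8 yb32 zb9) (kb xb8 yb32 zb10) (kb xb9 yb36 zb59) (kb xb17 yb43 zb30) (kb xb9 yb33 zb59) (kb xb25 yb54 zb17) (kb xb25 yb59 zb7) (kb xb25 yb58 zb60) (kb xb25 yb59 zb6) (kb xb25 yb54 zb30) (kb xb25 yb43 zb52) (kb xb12 yb4 zb52) (kb xb25 yb54 zb21) (kb xb25 yb43 zb49) (kb xb9 yb37 zb23) (kb xb8 yb32 zb14) (kb xb19 yb45 zb22) (kb xb8 yb32 zb16) (kb xb25 yb59 zb16) (kb xb8 yb32 zb17) (kb xb22 yb59 zb54) (kb xb13 yb43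 zb15) (kb xb25 yb59 zb22) (kb xb25 yb59 zb23) (kb xb8 yb32 zb18) (kb xb25 yb30 zb2) (kb xb19 yb0 zb61) (kb xb8 yb32 zb21) (kb xb13 yb43 zb11) (kb xb25 yb59 zb19) (kb xb25 yb59 zb37)) (@D3.rec (fun _ => Pt) (kb xb25 yb59 zb38) (kb xb25 yb59 zb41) (kb xb19 yb6 zb58) (kb xb8 yb32 zb25) (kb xb25 yb59 zb43) (kb xb25 yb59 zb45) (kb xb19 yb6 zb56) (kb xb22 yb3 zb47) (kb xb8 yb32 zb26) (kb xb25 yb59 zb50) (kb xb25 yb59 zb49) (kb xb13 yb42 zb15) (kb xb8 yb32 zb27) (kb xb25 yb59 zb57) (kb xb17 yb24 zb7) (kb xb22 yb7 zb5) (kb xb25 yb59 zb59) (kb xb25 yb59 zb60) (kb xb25 yb43 zb60) (kb xb8 yb32 zb30) (kb xb26 yb0 zb2) (kb xb8 yb32 zb31) (kb xb26 yb0 zb3) (kb xb26 yb0 zb4) (kb xb19 yb49 zb27) (kb xb8 yb32 zb33) (kb xb15 yb29 zb48) (kb xb26 yb0 zb7) (kb xb18 yb7 zb61) (kb xb8 yb32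 zb38) (kb xb8 yb32 zb39) (kb xb8 yb32 zb37) (kb xb26 yb0 zb10) (kb xb17 yb27 zb32) (kb xb20 yb37 zb30) (kb xb15 yb43 zb21) (kb xb8 yb32 zb43) (kb xb11 yb17 zb29) (kb xb24 yb32 zb35) (kb xb26 yb0 zb1) (kb xb14 yb8 zb39) (kb xb13 yb13 zb7) (kb xb15 yb41 zb34) (kb xb8 yb32 zb46) (kb xb14 yb10 zb11) (kb xb14 yb44 zb40) (kb xb26 yb0 zb18) (kb xb8 yb32 zb50) (kb xb21 yb6 zb4) (kb xb8 yb32 zb53) (kb xb24 yb43 zb13) (kb xb21 yb56 zb12) (kb xb14 yb54 zb23) (kb xb14 yb46 zb19) (kb xb14 yb55 zb29) (kb xb15 yb42 zb10) (kb xb12 yb3 zb7) (kb xb8 yb32 zb57) (kb xb23 yb42 zb17) (kb xb14 yb44 zb44) (kb xb26 yb0 zb27) (kb xb14 yb46 zb25)) (@D3.rec (fun _ => Pt) (kb xb24 yb36 zb5) (kb xb14 yb3 zb5) (kb xb23 yb24 zb17) (kb xb15 yb43 zb34) (kb xb25 yb40 zb56) (kb xb26 yb0 zb32) (kb xb23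 yb22 zb51) (kb xb15 yb43 zb29) (kb xb8 yb33 zb4) (kb xb8 yb33 zb5) (kb xb26 yb0 zb35) (kb xb23 yb24 zb28) (kb xb17 yb55 zb20) (kb xb8 yb33 zb11) (kb xb8 yb33 zb9) (kb xb25 yb45 zb57) (kb xb8 yb33 zb10) (kb xb20 yb23 zb32) (kb xb22 yb6 zb4) (kb xb26 yb0 zb41) (kb xb12 yb48 zb18) (kb xb26 yb0 zb39) (kb xb8 yb33 zb12) (kb xb26 yb0 zb44) (kb xb8 yb33 zb13) (kb xb22 yb10 zb19) (kb xb26 yb0 zb47) (kb xb26 yb0 zb49) (kb xb26 yb0 zb50) (kb xb13 yb51 zb4) (kb xb26 yb0 zb53) (kb xb8 yb33 zb16) (kb xb26 yb0 zb55) (kb xb23 yb31 zb33) (kb xb25 yb33 zb60) (kb xb22 yb31 zb14) (kb xb8 yb33 zb21) (kb xb14 yb0 zb3) (kb xb22 yb31 zb15) (kb xb26 yb1 zb0) (kb xb26 yb1 zb1) (kb xb15 yb35 zb7) (kb xb21 yb56 zb11) (kb xb26 yb1 zb2) (kb xb8 yb33 zb24) (kb xb26 yb1 zb3) (kb xb21 yb58 zb55) (kb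 xb12 yb3 zb15) (kb xb8 yb33 zb29) (kb xb21 yb7 zb53) (kb xb23 yb42 zb18) (kb xb8 yb33 zb30) (kb xb15 yb3 zb43) (kb xb25 yb31 zb29) (kb xb8 yb33 zb32) (kb xb14 yb28 zb38) (kb xb14 yb28 zb41) (kb xb26 yb1 zb4) (kb xb17 yb10 zb19) (kb xb25 yb32 zb56) (kb xb12 yb48 zb34) (kb xb15 yb41 zb28)) (@D3.rec (fun _ => Pt) (kb xb8 yb33 zb36) (kb xb8 yb33 zb37) (kb xb19 yb44 zb59) (kb xb26 yb1 zb12) (kb xb26 yb1 zb14) (kb xb8 yb33 zb39) (kb xb14 yb48 zb25) (kb xb13 yb25 zb55) (kb xb8 yb33 zb41) (kb xb26 yb1 zb20) (kb xb8 yb33 zb42) (kb xb26 yb1 zb24) (kb xb15 yb42 zb14) (kb xb8 yb33 zb44) (kb xb8 yb33 zb45) (kb xb26 yb1 zb27) (kb xb26 yb1 zb31) (kb xb19 yb45 zb34) (kb xb24 yb35 zb57) (kb xb12 yb18 zb36) (kb xb15 yb42 zb1) (kb xb8 yb33 zb47) (kb xb8 yb33 zb48) (kb xb17 yb53 zb50)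 (kb xb26 yb1 zb38) (kb xb20 yb3 zb42) (kb xb17 yb43 zb27) (kb xb26 yb1 zb37) (kb xb24 yb41 zb5) (kb xb10 yb31 zb54) (kb xb21 yb24 zb36) (kb xb23 yb24 zb22) (kb xb15 yb42 zb31) (kb xb8 yb33 zb52) (kb xb26 yb1 zb46) (kb xb24 yb40 zb54) (kb xb24 yb52 zb32) (kb xb15 yb42 zb23) (kb xb8 yb33 zb54) (kb xb26 yb1 zb52) (kb xb26 yb1 zb53) (kb xb8 yb33 zb55) (kb xb8 yb33 zb56) (kb xb8 yb33 zb60) (kb xb26 yb1 zb56) (kb xb8 yb33 zb61) (kb xb9 yb51 zb46) (kb xb8 yb34 zb0) (kb xb26 yb1 zb61) (kb xb11 yb29 zb28) (kb xb24 yb35 zb10) (kb xb22 yb22 zb21) (kb xb22 yb22 zb20) (kb xb8 yb34 zb2) (kb xb23 yb26 zb59) (kb xb23 yb37 zb21) (kb xb19 yb7 zb22) (kb xb12 yb47 zb55) (kb xb15 yb42 zb13) (kb xb8 yb34 zb7) (kb xb26 yb2 zb7) (kb xb26 yb2 zb8)) (@D3.rec (fun _ => Pt) (kb xb8 yb34 zb9) (kb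 xb26 yb2 zb9) (kb xb25 yb28 zb4) (kb xb26 yb2 zb10) (kb xb8 yb34 zb14) (kb xb26 yb2 zb11) (kb xb25 yb41 zb35) (kb xb24 yb22 zb34) (kb xb21 yb45 zb21) (kb xb9 yb0 zb55) (kb xb15 yb37 zb47) (kb xb14 yb51 zb12) (kb xb13 yb53 zb6) (kb xb25 yb34 zb31) (kb xb15 yb45 zb47) (kb xb8 yb34 zb19) (kb xb25 yb46 zb29) (kb xb23 yb34 zb49) (kb xb26 yb2 zb20) (kb xb15 yb45 zb44) (kb xb8 yb34 zb21) (kb xb26 yb2 zb23) (kb xb8 yb34 zb27) (kb xb8 yb34 zb30) (kb xb8 yb34 zb26) (kb xb26 yb2 zb30) (kb xb11 yb26 zb34) (kb xb26 yb2 zb27) (kb xb26 yb2 zb28) (kb xb8 yb34 zb28) (kb xb25 yb40 zb52) (kb xb26 yb2 zb36) (kb xb8 yb34 zb29) (kb xb26 yb2 zb40) (kb xb21 yb41 zb40) (kb xb26 yb2 zb42) (kb xb25 yb42 zb11) (kb xb21 yb34 zb27) (kb xb8 yb34 zb34) (kb xb24 yb41 zb56) (kb xb8 yb34 zb33) (kb xb14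 yb51 zb13) (kb xb24 yb41 zb31) (kb xb26 yb2 zb48) (kb xb26 yb2 zb49) (kb xb8 yb34 zb39) (kb xb8 yb34 zb37) (kb xb9 yb0 zb56) (kb xb24 yb41 zb32) (kb xb26 yb2 zb53) (kb xb15 yb43 zb20) (kb xb8 yb34 zb40) (kb xb10 yb59 zb46) (kb xb24 yb43 zb48) (kb xb8 yb34 zb43) (kb xb8 yb34 zb45) (kb xb17 yb29 zb12) (kb xb20 yb5 zb1) (kb xb8 yb34 zb48) (kb xb8 yb34 zb50) (kb xb16 yb0 zb51) (kb xb26 yb3 zb1)) (@D3.rec (fun _ => Pt) (kb xb8 yb34 zb61) (kb xb8 yb34 zb52) (kb xb8 yb34 zb53) (kb xb25 yb48 zb29) (kb xb13 yb0 zb6) (kb xb23 yb21 zb1) (kb xb12 yb0 zb54) (kb xb12 yb48 zb28) (kb xb26 yb3 zb5) (kb xb26 yb3 zb6) (kb xb15 yb44 zb44) (kb xb14 yb57 zb55) (kb xb26 yb3 zb8) (kb xb15 yb44 zb40) (kb xb8 yb34 zb58) (kb xb26 yb3 zb10) (kb xb8 yb34 zb59) (kb xb8 yb34 zb60) (kb xb23 yb36 zb18)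 (kb xb26 yb3 zb2) (kb xb26 yb3 zb14) (kb xb8 yb35 zb1) (kb xb26 yb3 zb18) (kb xb17 yb33 zb33) (kb xb18 yb18 zb15) (kb xb12 yb48 zb19) (kb xb16 yb10 zb22) (kb xb8 yb35 zb3) (kb xb23 yb36 zb14) (kb xb8 yb35 zb4) (kb xb26 yb3 zb30) (kb xb26 yb3 zb33) (kb xb14 yb45 zb0) (kb xb24 yb41 zb30) (kb xb8 yb35 zb9) (kb xb23 yb22 zb34) (kb xb13 yb54 zb59) (kb xb8 yb35 zb10) (kb xb9 yb0 zb53) (kb xb8 yb35 zb11) (kb xb8 yb35 zb14) (kb xb25 yb58 zb20) (kb xb25 yb58 zb21) (kb xb12 yb13 zb61) (kb xb8 yb35 zb19) (kb xb11 yb6 zb27) (kb xb24 yb45 zb27) (kb xb8 yb35 zb21) (kb xb9 yb36 zb42) (kb xb8 yb35 zb27) (kb xb8 yb35 zb26) (kb xb26 yb3 zb39) (kb xb8 yb35 zb29) (kb xb8 yb35 zb30) (kb xb8 yb35 zb34) (kb xb26 yb3 zb41) (kb xb8 yb35 zb36) (kb xb26 yb3 zb42) (kb xb26 yb3 zb43) (kb xb25 yb53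 zb25) (kb xb25 yb32 zb60) (kb xb25 yb43 zb45)) (@D3.rec (fun _ => Pt) (kb xb8 yb35 zb39) (kb xb26 yb3 zb47) (kb xb8 yb35 zb44) (kb xb23 yb42 zb6) (kb xb8 yb35 zb46) (kb xb23 yb53 zb48) (kb xb25 yb29 zb28) (kb xb8 yb35 zb49) (kb xb26 yb3 zb51) (kb xb12 yb34 zb29) (kb xb21 yb8 zb29) (kb xb15 yb41 zb8) (kb xb8 yb35 zb57) (kb xb8 yb35 zb58) (kb xb17 yb7 zb38) (kb xb26 yb3 zb57) (kb xb18 yb24 zb15) (kb xb15 yb47 zb47) (kb xb16 yb15 zb36) (kb xb18 yb9 zb48) (kb xb12 yb59 zb22) (kb xb25 yb38 zb59) (kb xb25 yb39 zb0) (kb xb9 yb34 zb18) (kb xb15 yb36 zb51) (kb xb8 yb36 zb8) (kb xb11 yb6 zb28) (kb xb21 yb34 zb52) (kb xb15 yb49 zb31) (kb xb8 yb36 zb6) (kb xb11 yb16 zb20) (kb xb15 yb48 zb5) (kb xb26 yb4 zb0) (kb xb9 yb32 zb40) (kb xb11 yb19 zb19) (kb xb8 yb36 zb10) (kb xb26 yb4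 zb2) (kb xb12 yb52 zb61) (kb xb20 yb19 zb19) (kb xb26 yb4 zb7) (kb xb9 yb33 zb44) (kb xb8 yb36 zb16) (kb xb20 yb40 zb17) (kb xb13 yb20 zb32) (kb xb8 yb36 zb20) (kb xb24 yb54 zb25) (kb xb11 yb17 zb13) (kb xb12 yb47 zb15) (kb xb8 yb36 zb23) (kb xb8 yb36 zb24) (kb xb18 yb37 zb35) (kb xb18 yb50 zb12) (kb xb26 yb4 zb18) (kb xb9 yb58 zb31) (kb xb8 yb36 zb38) (kb xb21 yb34 zb53) (kb xb8 yb36 zb27) (kb xb26 yb4 zb24) (kb xb26 yb4 zb26) (kb xb25 yb0 zb13) (kb xb8 yb36 zb32) (kb xb8 yb36 zb30)) (@D3.rec (fun _ => Pt) (kb xb18 yb20 zb49) (kb xb21 yb5 zb41) (kb xb26 yb4 zb30) (kb xb25 yb39 zb24) (kb xb17 yb30 zb21) (kb xb23 yb1 zb51) (kb xb14 yb58 zb20) (kb xb14 yb5 zb7) (kb xb19 yb0 zb42) (kb xb18 yb39 zb56) (kb xb8 yb36 zb47) (kb xb26 yb4 zb43) (kb xb26 yb4 zb40) (kb xb8 yb36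 zb48) (kb xb17 yb48 zb48) (kb xb26 yb4 zb50) (kb xb10 yb51 zb38) (kb xb26 yb4 zb57) (kb xb24 yb2 zb53) (kb xb8 yb36 zb51) (kb xb8 yb36 zb52) (kb xb26 yb5 zb5) (kb xb26 yb5 zb7) (kb xb26 yb5 zb8) (kb xb26 yb5 zb4) (kb xb8 yb36 zb55) (kb xb19 yb7 zb44) (kb xb8 yb36 zb58) (kb xb9 yb53 zb8) (kb xb26 yb5 zb13) (kb xb26 yb5 zb16) (kb xb26 yb5 zb17) (kb xb15 yb19 zb5) (kb xb23 yb49 zb56) (kb xb8 yb37 zb2) (kb xb8 yb37 zb1) (kb xb23 yb50 zb48) (kb xb26 yb5 zb24) (kb xb26 yb5 zb21) (kb xb15 yb51 zb7) (kb xb8 yb42 zb8) (kb xb15 yb47 zb38) (kb xb8 yb37 zb5) (kb xb14 yb36 zb4) (kb xb8 yb37 zb8) (kb xb26 yb5 zb32) (kb xb21 yb33 zb10) (kb xb16 yb18 zb58) (kb xb17 yb14 zb26) (kb xb26 yb5 zb37) (kb xb12 yb59 zb27) (kb xb8 yb37 zb12) (kb xb8 yb37 zb13) (kb xb26 yb5 zb40) (kb xb18 yb37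 zb38) (kb xb21 yb7 zb33) (kb xb19 yb35 zb45) (kb xb9 yb34 zb19) (kb xb21 yb42 zb26) (kb xb15 yb47 zb58) (kb xb8 yb37 zb16) (kb xb8 yb37 zb17)) (@D3.rec (fun _ => Pt) (kb xb18 yb2 zb30) (kb xb17 yb13 zb45) (kb xb26 yb5 zb49) (kb xb26 yb5 zb46) (kb xb21 yb22 zb34) (kb xb21 yb22 zb28) (kb xb15 yb49 zb35) (kb xb13 yb37 zb52) (kb xb26 yb5 zb52) (kb xb8 yb37 zb21) (kb xb12 yb37 zb1) (kb xb26 yb5 zb54) (kb xb13 yb0 zb11) (kb xb15 yb48 zb17) (kb xb8 yb37 zb24) (kb xb8 yb37 zb25) (kb xb26 yb5 zb57) (kb xb8 yb37 zb27) (kb xb21 yb48 zb20) (kb xb17 yb23 zb47) (kb xb17 yb16 zb24) (kb xb17 yb14 zb9) (kb xb8 yb37 zb28) (kb xb21 yb18 zb37) (kb xb21 yb42 zb41) (kb xb22 yb36 zb42) (kb xb20 yb9 zb35) (kb xb8 yb37 zb31) (kb xb20 yb34 zb32) (kb xb8 yb37 zb32) (kb xb26 yb6 zb10) (kb xb25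 yb41 zb49) (kb xb26 yb6 zb13) (kb xb25 yb29 zb0) (kb xb26 yb6 zb15) (kb xb25 yb22 zb34) (kb xb19 yb33 zb4) (kb xb19 yb33 zb5) (kb xb19 yb33 zb1) (kb xb26 yb6 zb23) (kb xb24 yb41 zb54) (kb xb21 yb25 zb49) (kb xb21 yb58 zb22) (kb xb25 yb40 zb38) (kb xb20 yb13 zb53) (kb xb24 yb23 zb36) (kb xb12 yb54 zb52) (kb xb14 yb4 zb13) (kb xb14 yb49 zb12) (kb xb26 yb6 zb32) (kb xb24 yb54 zb20) (kb xb18 yb52 zb29) (kb xb26 yb6 zb34) (kb xb26 yb6 zb36) (kb xb22 yb44 zb55) (kb xb26 yb6 zb40) (kb xb24 yb32 zb26) (kb xb26 yb6 zb43) (kb xb14 yb51 zb44) (kb xb26 yb6 zb45) (kb xb16 yb11 zb22) (kb xb8 yb37 zb54)) (@D3.rec (fun _ => Pt) (kb xb26 yb6 zb46) (kb xb24 yb22 zb11) (kb xb16 yb11 zb26) (kb xb14 yb51 zb45) (kb xb8 yb37 zb56) (kb xb26 yb6 zb52) (kb xb26 yb6 zb50) (kb xb26 yb6 zb51) (kb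 xb15 yb55 zb50) (kb xb15 yb31 zb45) (kb xb13 yb2 zb40) (kb xb16 yb11 zb36) (kb xb26 yb7 zb4) (kb xb26 yb7 zb6) (kb xb16 yb12 zb5) (kb xb8 yb37 zb61) (kb xb16 yb12 zb0) (kb xb26 yb7 zb13) (kb xb9 yb51 zb41) (kb xb24 yb20 zb7) (kb xb25 yb13 zb29) (kb xb26 yb7 zb18) (kb xb16 yb6 zb26) (kb xb13 yb17 zb0) (kb xb11 yb2 zb17) (kb xb18 yb40 zb11) (kb xb8 yb38 zb8) (kb xb20 yb32 zb40) (kb xb26 yb7 zb19) (kb xb8 yb38 zb12) (kb xb13 yb47 zb32) (kb xb26 yb7 zb25) (kb xb15 yb10 zb24) (kb xb24 yb59 zb53) (kb xb24 yb53 zb23) (kb xb11 yb57 zb36) (kb xb16 yb11 zb60) (kb xb26 yb7 zb28) (kb xb23 yb14 zb36) (kb xb23 yb42 zb54) (kb xb17 yb15 zb35) (kb xb8 yb38 zb20) (kb xb26 yb7 zb35) (kb xb23 yb18 zb17) (kb xb20 yb18 zb41) (kb xb8 yb38 zb29) (kb xb8 yb38 zb30) (kb xb21 yb2 zb17) (kb xb8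 yb38 zb24) (kb xb13 yb23 zb61) (kb xb26 yb7 zb29) (kb xb26 yb7 zb41) (kb xb26 yb7 zb43) (kb xb22 yb5 zb24) (kb xb16 yb12 zb17) (kb xb8 yb38 zb26) (kb xb14 yb0 zb48) (kb xb24 yb31 zb50) (kb xb18 yb3 zb10) (kb xb8 yb38 zb27) (kb xb19 yb55 zb23) (kb xb23 yb32 zb11)) (@D3.rec (fun _ => Pt) (kb xb13 yb26 zb26) (kb xb23 yb14 zb31) (kb xb26 yb7 zb36) (kb xb22 yb16 zb51) (kb xb15 yb13 zb50) (kb xb10 yb24 zb15) (kb xb19 yb35 zb9) (kb xb10 yb24 zb20) (kb xb15 yb1 zb47) (kb xb26 yb7 zb51) (kb xb11 yb56 zb29) (kb xb20 yb56 zb51) (kb xb8 yb38 zb34) (kb xb26 yb7 zb57) (kb xb25 yb2 zb41) (kb xb26 yb8 zb0) (kb xb11 yb57 zb15) (kb xb8 yb38 zb38) (kb xb13 yb13 zb54) (kb xb23 yb28 zb46) (kb xb9 yb31 zb47) (kb xb25 yb51 zb58) (kb xb16 yb9 zb60) (kb xb8 yb38 zb40) (kb xb26 yb8 zb5) (kb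 xb14 yb46 zb2) (kb xb16 yb10 zb2) (kb xb12 yb55 zb37) (kb xb8 yb38 zb41) (kb xb22 yb31 zb36) (kb xb26 yb8 zb13) (kb xb26 yb8 zb14) (kb xb8 yb38 zb42) (kb xb11 yb54 zb3) (kb xb26 yb8 zb20) (kb xb11 yb51 zb6) (kb xb16 yb10 zb11) (kb xb26 yb3 zb23) (kb xb22 yb4 zb34) (kb xb15 yb50 zb19) (kb xb8 yb38 zb46) (kb xb8 yb38 zb47) (kb xb26 yb8 zb32) (kb xb25 yb1 zb50) (kb xb25 yb41 zb13) (kb xb26 yb8 zb31) (kb xb24 yb23 zb22) (kb xb15 yb41 zb52) (kb xb26 yb8 zb37) (kb xb21 yb2 zb40) (kb xb21 yb13 zb36) (kb xb14 yb44 zb47) (kb xb22 yb57 zb36) (kb xb26 yb8 zb42) (kb xb22 yb28 zb18) (kb xb26 yb8 zb43) (kb xb17 yb2 zb55) (kb xb12 yb22 zb1) (kb xb12 yb9 zb29) (kb xb26 yb8 zb47) (kb xb16 yb10 zb36) (kb xb26 yb8 zb48)) (@D3.rec (fun _ => Pt) (kb xb16 yb10 zb16) (kb xb12 yb21 zb61) (kb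 xb26 yb8 zb54) (kb xb13 yb50 zb58) (kb xb8 yb39 zb23) (kb xb16 yb10 zb14) (kb xb26 yb8 zb57) (kb xb8 yb39 zb9) (kb xb8 yb39 zb10) (kb xb23 yb21 zb42) (kb xb22 yb41 zb61) (kb xb15 yb10 zb59) (kb xb26 yb8 zb52) (kb xb26 yb8 zb61) (kb xb25 yb2 zb32) (kb xb26 yb9 zb1) (kb xb26 yb9 zb3) (kb xb16 yb10 zb54) (kb xb21 yb6 zb45) (kb xb22 yb46 zb3) (kb xb17 yb54 zb35) (kb xb8 yb39 zb8) (kb xb23 yb43 zb36) (kb xb26 yb8 zb58) (kb xb15 yb10 zb44) (kb xb13 yb54 zb53) (kb xb26 yb9 zb8) (kb xb16 yb12 zb61) (kb xb25 yb52 zb25) (kb xb15 yb55 zb26) (kb xb11 yb56 zb1) (kb xb16 yb13 zb4) (kb xb26 yb9 zb12) (kb xb8 yb39 zb18) (kb xb12 yb54 zb42) (kb xb26 yb9 zb16) (kb xb26 yb9 zb17) (kb xb24 yb31 zb55) (kb xb8 yb39 zb19) (kb xb19 yb25 zb12) (kb xb21 yb56 zb20) (kb xb16 yb13 zb13) (kb xb26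 yb9 zb30) (kb xb26 yb9 zb33) (kb xb18 yb40 zb49) (kb xb8 yb39 zb24) (kb xb26 yb9 zb38) (kb xb26 yb9 zb40) (kb xb23 yb20 zb15) (kb xb14 yb36 zb45) (kb xb19 yb10 zb29) (kb xb18 yb58 zb24) (kb xb15 yb30 zb12) (kb xb9 yb41 zb41) (kb xb15 yb56 zb8) (kb xb8 yb39 zb28) (kb xb25 yb19 zb53) (kb xb25 yb19 zb8) (kb xb26 yb9 zb47) (kb xb8 yb54 zb11) (kb xb14 yb46 zb47) (kb xb16 yb12 zb27)) (@D3.rec (fun _ => Pt) (kb xb8 yb39 zb32) (kb xb26 yb9 zb52) (kb xb10 yb44 zb8) (kb xb20 yb56 zb46) (kb xb16 yb12 zb31) (kb xb14 yb47 zb16) (kb xb8 yb39 zb36) (kb xb19 yb26 zb59) (kb xb26 yb9 zb56) (kb xb26 yb9 zb57) (kb xb18 yb52 zb49) (kb xb25 yb19 zb23) (kb xb13 yb55 zb3) (kb xb16 yb12 zb41) (kb xb19 yb56 zb24) (kb xb23 yb31 zb3) (kb xb11 yb34 zb46) (kb xb8 yb39 zb41) (kb xb8 yb39 zb42) (kb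 xb23 yb32 zb61) (kb xb23 yb24 zb49) (kb xb19 yb48 zb12) (kb xb16 yb47 zb54) (kb xb19 yb10 zb30) (kb xb10 yb32 zb27) (kb xb10 yb26 zb36) (kb xb13 yb2 zb28) (kb xb15 yb32 zb7) (kb xb8 yb39 zb47) (kb xb14 yb45 zb15) (kb xb21 yb28 zb35) (kb xb25 yb13 zb4) (kb xb24 yb21 zb59) (kb xb9 yb42 zb54) (kb xb13 yb0 zb27) (kb xb26 yb10 zb29) (kb xb8 yb39 zb51) (kb xb24 yb4 zb13) (kb xb15 yb50 zb61) (kb xb21 yb24 zb53) (kb xb8 yb39 zb54) (kb xb21 yb19 zb52) (kb xb8 yb40 zb51) (kb xb15 yb14 zb32) (kb xb20 yb14 zb34) (kb xb25 yb16 zb34) (kb xb8 yb39 zb60) (kb xb11 yb30 zb38) (kb xb18 yb43 zb52) (kb xb8 yb41 zb21) (kb xb8 yb41 zb22) (kb xb26 yb10 zb39) (kb xb25 yb59 zb8) (kb xb8 yb40 zb3) (kb xb8 yb40 zb4) (kb xb23 yb46 zb51) (kb xb25 yb18 zb7) (kb xb17 yb42 zb27) (kb xb26 yb10 zb45)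 (kb xb8 yb40 zb5) (kb xb26 yb10 zb48) (kb xb26 yb10 zb46)) (@D3.rec (fun _ => Pt) (kb xb12 yb4 zb55) (kb xb25 yb43 zb5) (kb xb8 yb40 zb6) (kb xb15 yb6 zb52) (kb xb26 yb10 zb58) (kb xb26 yb10 zb59) (kb xb20 yb13 zb48) (kb xb23 yb2 zb48) (kb xb26 yb11 zb6) (kb xb25 yb36 zb43) (kb xb8 yb40 zb11) (kb xb8 yb40 zb10) (kb xb25 yb36 zb42) (kb xb22 yb4 zb51) (kb xb24 yb2 zb54) (kb xb12 yb41 zb18) (kb xb8 yb42 zb31) (kb xb8 yb42 zb32) (kb xb26 yb11 zb17) (kb xb26 yb11 zb20) (kb xb17 yb38 zb30) (kb xb8 yb40 zb15) (kb xb8 yb40 zb16) (kb xb26 yb11 zb26) (kb xb26 yb11 zb28) (kb xb10 yb34 zb60) (kb xb25 yb53 zb57) (kb xb26 yb11 zb32) (kb xb9 yb35 zb57) (kb xb8 yb40 zb21) (kb xb8 yb40 zb22) (kb xb26 yb11 zb37) (kb xb16 yb0 zb15) (kb xb17 yb38 zb60) (kb xb17 yb42 zb47) (kb xb17 yb42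 zb42) (kb xb8 yb40 zb26) (kb xb12 yb59 zb44) (kb xb26 yb11 zb44) (kb xb23 yb35 zb50) (kb xb17 yb38 zb48) (kb xb17 yb45 zb32) (kb xb26 yb11 zb54) (kb xb26 yb11 zb58) (kb xb8 yb40 zb31) (kb xb8 yb40 zb30) (kb xb8 yb40 zb32) (kb xb26 yb12 zb2) (kb xb26 yb12 zb9) (kb xb26 yb12 zb12) (kb xb26 yb12 zb1) (kb xb26 yb12 zb4) (kb xb26 yb12 zb15) (kb xb17 yb53 zb58) (kb xb14 yb12 zb13) (kb xb25 yb44 zb61) (kb xb26 yb12 zb21) (kb xb14 yb56 zb46) (kb xb8 yb40 zb36) (kb xb8 yb40 zb37) (kb xb26 yb12 zb24) (kb xb14 yb56 zb7)) (@D3.rec (fun _ => Pt) (kb xb8 yb40 zb38) (kb xb26 yb12 zb32) (kb xb26 yb12 zb29) (kb xb26 yb12 zb30) (kb xb8 yb40 zb39) (kb xb19 yb38 zb50) (kb xb17 yb44 zb34) (kb xb21 yb31 zb27) (kb xb26 yb12 zb41) (kb xb24 yb58 zb17) (kb xb8 yb44 zb60) (kb xb8 yb40 zb43) (kb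 xb26 yb12 zb47) (kb xb23 yb35 zb44) (kb xb8 yb40 zb45) (kb xb8 yb40 zb46) (kb xb26 yb12 zb51) (kb xb26 yb12 zb46) (kb xb8 yb40 zb44) (kb xb15 yb14 zb38) (kb xb26 yb12 zb50) (kb xb8 yb40 zb47) (kb xb26 yb12 zb55) (kb xb10 yb15 zb4) (kb xb23 yb53 zb57) (kb xb11 yb18 zb5) (kb xb15 yb59 zb2) (kb xb8 yb40 zb54) (kb xb8 yb40 zb55) (kb xb26 yb12 zb59) (kb xb18 yb37 zb39) (kb xb8 yb40 zb57) (kb xb21 yb18 zb50) (kb xb26 yb12 zb61) (kb xb26 yb13 zb0) (kb xb8 yb40 zb58) (kb xb16 yb7 zb18) (kb xb26 yb13 zb7) (kb xb26 yb13 zb8) (kb xb17 yb44 zb38) (kb xb24 yb44 zb49) (kb xb26 yb13 zb15) (kb xb26 yb13 zb18) (kb xb8 yb44 zb53) (kb xb8 yb41 zb0) (kb xb21 yb57 zb21) (kb xb17 yb30 zb55) (kb xb8 yb41 zb2) (kb xb8 yb41 zb3) (kb xb24 yb46 zb46) (kb xb26 yb13 zb29) (kb xb26 yb13 zb23) (kb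 xb26 yb13 zb24) (kb xb8 yb41 zb1) (kb xb26 yb13 zb36) (kb xb18 yb5 zb30) (kb xb9 yb45 zb6) (kb xb17 yb30 zb18) (kb xb26 yb13 zb42) (kb xb26 yb13 zb27) (kb xb8 yb41 zb4) (kb xb14 yb14 zb28)) (@D3.rec (fun _ => Pt) (kb xb21 yb49 zb55) (kb xb26 yb13 zb49) (kb xb8 yb41 zb7) (kb xb26 yb13 zb50) (kb xb8 yb41 zb8) (kb xb26 yb13 zb54) (kb xb18 yb5 zb24) (kb xb8 yb41 zb9) (kb xb15 yb57 zb34) (kb xb17 yb43 zb45) (kb xb17 yb43 zb46) (kb xb9 yb53 zb2) (kb xb8 yb41 zb13) (kb xb20 yb3 zb59) (kb xb22 yb11 zb12) (kb xb8 yb41 zb16) (kb xb8 yb41 zb17) (kb xb26 yb14 zb11) (kb xb26 yb14 zb14) (kb xb26 yb14 zb4) (kb xb25 yb1 zb30) (kb xb14 yb4 zb45) (kb xb8 yb41 zb15) (kb xb26 yb14 zb19) (kb xb24 yb43 zb10) (kb xb26 yb14 zb21) (kb xb26 yb14 zb24) (kb xb26 yb14 zb10) (kb xb8 yb41 zb18) (kb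 xb26 yb14 zb28) (kb xb24 yb20 zb27) (kb xb10 yb28 zb38) (kb xb8 yb41 zb20) (kb xb26 yb14 zb31) (kb xb14 yb12 zb12) (kb xb26 yb14 zb33) (kb xb22 yb45 zb25) (kb xb8 yb41 zb24) (kb xb12 yb16 zb58) (kb xb14 yb56 zb37) (kb xb9 yb19 zb1) (kb xb8 yb41 zb30) (kb xb26 yb14 zb42) (kb xb8 yb41 zb31) (kb xb12 yb59 zb58) (kb xb18 yb4 zb58) (kb xb17 yb44 zb2) (kb xb26 yb14 zb44) (kb xb26 yb14 zb45) (kb xb8 yb41 zb35) (kb xb21 yb33 zb46) (kb xb26 yb14 zb51) (kb xb8 yb41 zb38) (kb xb26 yb14 zb54) (kb xb25 yb0 zb15) (kb xb26 yb14 zb48) (kb xb26 yb14 zb49) (kb xb8 yb41 zb36) (kb xb26 yb14 zb59) (kb xb26 yb14 zb60) (kb xb14 yb9 zb54) (kb xb21 yb34 zb8)) (@D3.rec (fun _ => Pt) (kb xb8 yb41 zb40) (kb xb23 yb45 zb23) (kb xb23 yb50 zb5) (kb xb8 yb41 zb43) (kb xb25 yb3 zb29) (kb xb8 yb41 zb45)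 (kb xb15 yb17 zb6) (kb xb10 yb42 zb4) (kb xb21 yb1 zb4) (kb xb8 yb41 zb46) (kb xb15 yb33 zb58) (kb xb26 yb15 zb2) (kb xb17 yb54 zb38) (kb xb14 yb2 zb52) (kb xb26 yb15 zb7) (kb xb8 yb43 zb56) (kb xb8 yb41 zb50) (kb xb26 yb15 zb10) (kb xb17 yb43 zb57) (kb xb18 yb10 zb2) (kb xb26 yb15 zb16) (kb xb9 yb29 zb31) (kb xb23 yb37 zb46) (kb xb26 yb15 zb17) (kb xb21 yb59 zb26) (kb xb12 yb31 zb24) (kb xb8 yb41 zb53) (kb xb17 yb54 zb52) (kb xb26 yb15 zb18) (kb xb8 yb41 zb54) (kb xb24 yb44 zb7) (kb xb26 yb15 zb21) (kb xb20 yb54 zb44) (kb xb24 yb45 zb5) (kb xb24 yb45 zb6) (kb xb14 yb50 zb37) (kb xb26 yb3 zb48) (kb xb9 yb37 zb53) (kb xb9 yb37 zb54) (kb xb26 yb15 zb30) (kb xb26 yb15 zb33) (kb xb8 yb43 zb38) (kb xb8 yb41 zb59) (kb xb12 yb19 zb52) (kb xb8 yb41 zb60) (kb xb8 yb41 zb61)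 (kb xb15 yb13 zb56) (kb xb26 yb15 zb41) (kb xb14 yb9 zb34) (kb xb24 yb45 zb12) (kb xb8 yb42 zb1) (kb xb15 yb24 zb12) (kb xb19 yb19 zb56) (kb xb26 yb15 zb44) (kb xb8 yb42 zb4) (kb xb18 yb25 zb25) (kb xb25 yb16 zb33) (kb xb11 yb51 zb13) (kb xb9 yb39 zb12) (kb xb15 yb19 zb51) (kb xb20 yb46 zb54) (kb xb26 yb15 zb47)) (@D3.rec (fun _ => Pt) (kb xb9 yb39 zb13) (kb xb24 yb45 zb23) (kb xb12 yb4 zb49) (kb xb24 yb45 zb16) (kb xb8 yb42 zb9) (kb xb8 yb42 zb10) (kb xb21 yb54 zb25) (kb xb21 yb31 zb12) (kb xb19 yb21 zb6) (kb xb21 yb56 zb15) (kb xb18 yb29 zb52) (kb xb21 yb33 zb52) (kb xb19 yb5 zb14) (kb xb24 yb45 zb29) (kb xb8 yb42 zb13) (kb xb19 yb50 zb45) (kb xb24 yb15 zb29) (kb xb26 yb16 zb1) (kb xb24 yb46 zb18) (kb xb24 yb46 zb22) (kb xb17 yb44 zb30) (kb xb26 yb16 zb5) (kb xb8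 yb42 zb23) (kb xb12 yb58 zb24) (kb xb9 yb54 zb24) (kb xb8 yb42 zb26) (kb xb17 yb54 zb29) (kb xb8 yb43 zb29) (kb xb8 yb42 zb18) (kb xb26 yb16 zb15) (kb xb17 yb54 zb1) (kb xb8 yb42 zb58) (kb xb8 yb42 zb20) (kb xb18 yb28 zb6) (kb xb15 yb11 zb35) (kb xb25 yb4 zb3) (kb xb18 yb30 zb17) (kb xb8 yb42 zb21) (kb xb26 yb16 zb28) (kb xb18 yb37 zb31) (kb xb8 yb42 zb22) (kb xb17 yb40 zb12) (kb xb16 yb20 zb14) (kb xb8 yb42 zb24) (kb xb9 yb52 zb8) (kb xb26 yb16 zb35) (kb xb8 yb42 zb25) (kb xb26 yb12 zb52) (kb xb18 yb7 zb9) (kb xb18 yb4 zb31) (kb xb25 yb15 zb49) (kb xb18 yb53 zb45) (kb xb8 yb42 zb27) (kb xb23 yb22 zb11) (kb xb26 yb16 zb44) (kb xb8 yb42 zb30) (kb xb26 yb16 zb45) (kb xb23 yb36 zb61) (kb xb16 yb8 zb47) (kb xb25 yb31 zb4) (kb xb22 yb2 zb13) (kb xb25 yb4 zb5)) (@D3.rec (fun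 _ => Pt) (kb xb8 yb42 zb35) (kb xb26 yb16 zb51) (kb xb24 yb49 zb14) (kb xb8 yb42 zb39) (kb xb26 yb16 zb55) (kb xb10 yb40 zb35) (kb xb26 yb16 zb53) (kb xb8 yb42 zb40) (kb xb15 yb33 zb36) (kb xb26 yb17 zb1) (kb xb26 yb17 zb2) (kb xb22 yb14 zb49) (kb xb23 yb36 zb34) (kb xb9 yb54 zb38) (kb xb8 yb42 zb43) (kb xb8 yb42 zb44) (kb xb11 yb6 zb13) (kb xb8 yb42 zb45) (kb xb15 yb11 zb12) (kb xb13 yb27 zb58) (kb xb18 yb58 zb34) (kb xb26 yb17 zb12) (kb xb9 yb39 zb21) (kb xb20 yb10 zb60) (kb xb10 yb1 zb54) (kb xb12 yb6 zb35) (kb xb26 yb17 zb18) (kb xb18 yb36 zb3) (kb xb22 yb47 zb41) (kb xb26 yb17 zb22) (kb xb22 yb49 zb53) (kb xb26 yb17 zb28) (kb xb24 yb52 zb61) (kb xb26 yb17 zb30) (kb xb26 yb17 zb33) (kb xb26 yb16 zb19) (kb xb26 yb16 zb20) (kb xb26 yb17 zb37) (kb xb8 yb43 zb3) (kb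 xb8 yb43 zb4) (kb xb23 yb1 zb41) (kb xb8 yb43 zb1) (kb xb25 yb0 zb60) (kb xb23 yb19 zb2) (kb xb19 yb0 zb37) (kb xb8 yb43 zb2) (kb xb16 yb22 zb58) (kb xb26 yb17 zb46) (kb xb26 yb17 zb47) (kb xb26 yb17 zb52) (kb xb24 yb57 zb49) (kb xb23 yb1 zb40) (kb xb26 yb17 zb40) (kb xb8 yb43 zb7) (kb xb11 yb8 zb20) (kb xb19 yb16 zb43) (kb xb19 yb16 zb46) (kb xb8 yb43 zb11) (kb xb8 yb43 zb12) (kb xb26 yb17 zb61) (kb xb18 yb51 zb27) (kb xb10 yb50 zb29)) (@D3.rec (fun _ => Pt) (kb xb8 yb43 zb15) (kb xb25 yb10 zb57) (kb xb17 yb45 zb24) (kb xb21 yb22 zb51) (kb xb17 yb54 zb2) (kb xb26 yb18 zb10) (kb xb9 yb29 zb34) (kb xb8 yb43 zb19) (kb xb8 yb43 zb20) (kb xb22 yb34 zb30) (kb xb26 yb18 zb13) (kb xb18 yb32 zb52) (kb xb18 yb26 zb35) (kb xb8 yb43 zb21) (kb xb16 yb18 zb42) (kb xb10 yb2 zb1)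 (kb xb18 yb15 zb19) (kb xb17 yb54 zb20) (kb xb21 yb7 zb56) (kb xb11 yb13 zb8) (kb xb8 yb43 zb28) (kb xb8 yb57 zb40) (kb xb10 yb55 zb40) (kb xb26 yb18 zb24) (kb xb26 yb16 zb13) (kb xb8 yb43 zb33) (kb xb8 yb43 zb31) (kb xb23 yb51 zb22) (kb xb22 yb30 zb33) (kb xb22 yb30 zb34) (kb xb8 yb43 zb32) (kb xb18 yb4 zb2) (kb xb26 yb18 zb27) (kb xb25 yb3 zb19) (kb xb8 yb47 zb11) (kb xb18 yb33 zb36) (kb xb26 yb18 zb29) (kb xb16 yb24 zb25) (kb xb26 yb18 zb32) (kb xb21 yb15 zb35) (kb xb26 yb18 zb36) (kb xb26 yb15 zb38) (kb xb20 yb4 zb14) (kb xb8 yb43 zb43) (kb xb10 yb16 zb38) (kb xb26 yb18 zb30) (kb xb26 yb18 zb42) (kb xb18 yb19 zb59) (kb xb21 yb12 zb38) (kb xb8 yb43 zb45) (kb xb18 yb26 zb29) (kb xb19 yb0 zb40) (kb xb26 yb18 zb46) (kb xb8 yb43 zb46) (kb xb26 yb18 zb51) (kb xb24 yb45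 zb52) (kb xb26 yb18 zb50) (kb xb24 yb55 zb30) (kb xb24 yb55 zb12) (kb xb24 yb55 zb22) (kb xb20 yb10 zb19) (kb xb11 yb13 zb23)) (@D3.rec (fun _ => Pt) (kb xb26 yb19 zb2) (kb xb10 yb29 zb7) (kb xb11 yb36 zb51) (kb xb18 yb20 zb47) (kb xb24 yb52 zb55) (kb xb17 yb51 zb48) (kb xb26 yb19 zb5) (kb xb22 yb49 zb40) (kb xb22 yb49 zb41) (kb xb8 yb43 zb58) (kb xb26 yb19 zb12) (kb xb26 yb19 zb11) (kb xb26 yb19 zb14) (kb xb19 yb0 zb50) (kb xb20 yb0 zb12) (kb xb8 yb44 zb0) (kb xb19 yb0 zb9) (kb xb24 yb29 zb9) (kb xb10 yb7 zb55) (kb xb18 yb59 zb49) (kb xb18 yb46 zb9) (kb xb20 yb8 zb23) (kb xb8 yb44 zb4) (kb xb22 yb51 zb57) (kb xb8 yb44 zb7) (kb xb10 yb37 zb55) (kb xb26 yb19 zb31) (kb xb22 yb51 zb59) (kb xb8 yb44 zb10) (kb xb18 yb41 zb10) (kb xb19 yb20 zb48) (kb xb19 yb19 zb52) (kb xb8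 yb44 zb12) (kb xb18 yb41 zb16) (kb xb8 yb44 zb13) (kb xb15 yb51 zb40) (kb xb20 yb8 zb25) (kb xb13 yb41 zb41) (kb xb13 yb41 zb43) (kb xb10 yb8 zb3) (kb xb11 yb7 zb31) (kb xb12 yb8 zb58) (kb xb13 yb39 zb26) (kb xb26 yb19 zb45) (kb xb18 yb9 zb20) (kb xb8 yb44 zb29) (kb xb9 yb45 zb30) (kb xb13 yb41 zb39) (kb xb8 yb44 zb31) (kb xb8 yb44 zb32) (kb xb26 yb19 zb49) (kb xb18 yb33 zb27) (kb xb25 yb46 zb51) (kb xb8 yb44 zb33) (kb xb15 yb32 zb19) (kb xb11 yb15 zb5) (kb xb24 yb45 zb32) (kb xb8 yb44 zb37) (kb xb8 yb44 zb36) (kb xb26 yb19 zb55) (kb xb25 yb2 zb15) (kb xb26 yb19 zb60)) (@D3.rec (fun _ => Pt) (kb xb8 yb44 zb40) (kb xb8 yb44 zb39) (kb xb8 yb45 zb0) (kb xb18 yb19 zb6) (kb xb26 yb20 zb2) (kb xb8 yb44 zb41) (kb xb21 yb15 zb1) (kb xb18 yb52 zb21) (kb xb9 yb53 zb21) (kb xb11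 yb10 zb34) (kb xb15 yb11 zb50) (kb xb9 yb43 zb33) (kb xb9 yb54 zb50) (kb xb15 yb53 zb40) (kb xb8 yb44 zb47) (kb xb17 yb7 zb41) (kb xb8 yb45 zb19) (kb xb26 yb20 zb10) (kb xb26 yb20 zb12) (kb xb8 yb45 zb22) (kb xb8 yb49 zb33) (kb xb22 yb52 zb10) (kb xb11 yb32 zb34) (kb xb26 yb20 zb16) (kb xb26 yb20 zb18) (kb xb24 yb46 zb28) (kb xb26 yb13 zb22) (kb xb10 yb29 zb5) (kb xb21 yb12 zb51) (kb xb8 yb44 zb57) (kb xb8 yb44 zb58) (kb xb8 yb44 zb55) (kb xb26 yb20 zb27) (kb xb18 yb59 zb42) (kb xb10 yb30 zb7) (kb xb20 yb7 zb31) (kb xb26 yb19 zb57) (kb xb26 yb20 zb35) (kb xb26 yb20 zb26) (kb xb24 yb28 zb57) (kb xb20 yb7 zb59) (kb xb10 yb41 zb43) (kb xb25 yb50 zb28) (kb xb10 yb31 zb61) (kb xb26 yb12 zb44) (kb xb26 yb20 zb42) (kb xb8 yb45 zb2) (kb xb26 yb20 zb3) (kb xb16 yb35 zb10) (kb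 xb8 yb45 zb1) (kb xb26 yb20 zb43) (kb xb16 yb35 zb12) (kb xb8 yb45 zb3) (kb xb8 yb45 zb4) (kb xb10 yb29 zb53) (kb xb26 yb20 zb49) (kb xb8 yb45 zb9) (kb xb8 yb45 zb7) (kb xb16 yb19 zb46) (kb xb26 yb20 zb55) (kb xb8 yb45 zb8) (kb xb15 yb12 zb9)) (@D3.rec (fun _ => Pt) (kb xb26 yb20 zb61) (kb xb26 yb21 zb1) (kb xb26 yb21 zb6) (kb xb18 yb30 zb26) (kb xb10 yb29 zb8) (kb xb21 yb53 zb5) (kb xb15 yb7 zb30) (kb xb8 yb45 zb13) (kb xb8 yb45 zb14) (kb xb8 yb45 zb12) (kb xb13 yb6 zb55) (kb xb19 yb1 zb58) (kb xb20 yb7 zb34) (kb xb22 yb41 zb9) (kb xb20 yb32 zb2) (kb xb18 yb59 zb1) (kb xb19 yb2 zb17) (kb xb26 yb21 zb13) (kb xb8 yb45 zb18) (kb xb8 yb45 zb16) (kb xb15 yb11 zb51) (kb xb20 yb36 zb5) (kb xb9 yb59 zb16) (kb xb26 yb20 zb9) (kb xb8 yb45 zb20) (kb xb26 yb21 zb16) (kb xb26 yb21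 zb17) (kb xb13 yb39 zb48) (kb xb26 yb21 zb23) (kb xb26 yb21 zb26) (kb xb26 yb21 zb31) (kb xb8 yb45 zb23) (kb xb8 yb46 zb36) (kb xb21 yb53 zb52) (kb xb8 yb45 zb31) (kb xb8 yb45 zb32) (kb xb26 yb21 zb38) (kb xb8 yb45 zb29) (kb xb18 yb56 zb29) (kb xb18 yb41 zb33) (kb xb18 yb41 zb21) (kb xb26 yb21 zb41) (kb xb26 yb21 zb37) (kb xb8 yb45 zb33) (kb xb17 yb2 zb42) (kb xb21 yb53 zb44) (kb xb8 yb45 zb37) (kb xb20 yb36 zb4) (kb xb13 yb49 zb27) (kb xb13 yb26 zb44) (kb xb24 yb59 zb10) (kb xb8 yb45 zb40) (kb xb8 yb45 zb43) (kb xb12 yb1 zb31) (kb xb16 yb32 zb53) (kb xb23 yb5 zb36) (kb xb23 yb10 zb42) (kb xb8 yb45 zb44) (kb xb26 yb21 zb50) (kb xb13 yb20 zb14) (kb xb12 yb37 zb17) (kb xb23 yb28 zb59)) (@D3.rec (fun _ => Pt) (kb xb16 yb31 zb31) (kb xb16 yb31 zb32) (kb xb21 yb21 zb13)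 (kb xb13 yb27 zb43) (kb xb8 yb45 zb51) (kb xb11 yb47 zb1) (kb xb8 yb45 zb55) (kb xb13 yb33 zb42) (kb xb12 yb22 zb36) (kb xb8 yb45 zb59) (kb xb10 yb1 zb52) (kb xb23 yb6 zb11) (kb xb26 yb21 zb60) (kb xb8 yb45 zb60) (kb xb26 yb21 zb61) (kb xb24 yb13 zb19) (kb xb12 yb9 zb28) (kb xb11 yb45 zb22) (kb xb9 yb23 zb3) (kb xb12 yb21 zb60) (kb xb12 yb9 zb37) (kb xb12 yb9 zb38) (kb xb23 yb16 zb42) (kb xb20 yb19 zb9) (kb xb10 yb1 zb58) (kb xb16 yb20 zb37) (kb xb17 yb2 zb48) (kb xb11 yb6 zb17) (kb xb8 yb46 zb11) (kb xb26 yb22 zb5) (kb xb12 yb22 zb22) (kb xb24 yb56 zb58) (kb xb11 yb23 zb46) (kb xb17 yb13 zb8) (kb xb9 yb16 zb29) (kb xb8 yb46 zb18) (kb xb8 yb46 zb17) (kb xb11 yb37 zb23) (kb xb11 yb38 zb2) (kb xb26 yb22 zb12) (kb xb15 yb5 zb10) (kb xb19 yb51 zb19) (kb xb18 yb0 zb39) (kb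 xb12 yb7 zb36) (kb xb12 yb7 zb37) (kb xb8 yb46 zb21) (kb xb9 yb23 zb28) (kb xb26 yb22 zb23) (kb xb26 yb22 zb24) (kb xb8 yb46 zb22) (kb xb17 yb8 zb17) (kb xb16 yb25 zb35) (kb xb20 yb13 zb32) (kb xb11 yb14 zb0) (kb xb12 yb22 zb9) (kb xb20 yb49 zb9) (kb xb11 yb33 zb20) (kb xb8 yb46 zb28) (kb xb8 yb46 zb29) (kb xb20 yb17 zb19) (kb xb21 yb53 zb43) (kb xb23 yb3 zb24)) (@D3.rec (fun _ => Pt) (kb xb16 yb25 zb53) (kb xb26 yb22 zb27) (kb xb26 yb22 zb37) (kb xb8 yb46 zb31) (kb xb8 yb46 zb32) (kb xb26 yb22 zb41) (kb xb26 yb22 zb40) (kb xb21 yb38 zb20) (kb xb14 yb6 zb51) (kb xb26 yb22 zb45) (kb xb23 yb28 zb56) (kb xb23 yb28 zb57) (kb xb12 yb39 zb14) (kb xb23 yb42 zb34) (kb xb21 yb54 zb39) (kb xb20 yb25 zb19) (kb xb11 yb24 zb50) (kb xb22 yb42 zb42) (kb xb12 yb23 zb15) (kb xb8 yb46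 zb41) (kb xb13 yb42 zb3) (kb xb17 yb25 zb8) (kb xb8 yb46 zb42) (kb xb26 yb22 zb54) (kb xb20 yb18 zb16) (kb xb26 yb22 zb57) (kb xb20 yb0 zb59) (kb xb16 yb28 zb27) (kb xb23 yb42 zb10) (kb xb20 yb9 zb61) (kb xb16 yb28 zb28) (kb xb16 yb28 zb29) (kb xb8 yb46 zb46) (kb xb21 yb18 zb44) (kb xb26 yb22 zb61) (kb xb16 yb24 zb51) (kb xb20 yb14 zb7) (kb xb11 yb34 zb31) (kb xb20 yb18 zb36) (kb xb8 yb46 zb50) (kb xb26 yb23 zb1) (kb xb26 yb23 zb10) (kb xb26 yb23 zb7) (kb xb26 yb23 zb2) (kb xb25 yb45 zb48) (kb xb16 yb47 zb18) (kb xb17 yb57 zb1) (kb xb8 yb46 zb53) (kb xb8 yb46 zb54) (kb xb23 yb43 zb21) (kb xb15 yb10 zb28) (kb xb26 yb23 zb3) (kb xb25 yb11 zb35) (kb xb16 yb25 zb0) (kb xb9 yb9 zb56) (kb xb11 yb37 zb27) (kb xb26 yb23 zb17) (kb xb8 yb46 zb57) (kb xb26 yb23 zb19) (kb xb20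 yb18 zb11) (kb xb11 yb36 zb48) (kb xb11 yb36 zb49)) (@D3.rec (fun _ => Pt) (kb xb9 yb8 zb55) (kb xb9 yb10 zb34) (kb xb25 yb43 zb55) (kb xb9 yb12 zb37) (kb xb10 yb16 zb42) (kb xb17 yb15 zb40) (kb xb17 yb15 zb41) (kb xb17 yb22 zb28) (kb xb11 yb37 zb37) (kb xb21 yb29 zb8) (kb xb21 yb29 zb9) (kb xb18 yb47 zb47) (kb xb9 yb30 zb2) (kb xb11 yb0 zb59) (kb xb20 yb40 zb49) (kb xb11 yb34 zb19) (kb xb11 yb34 zb20) (kb xb8 yb47 zb6) (kb xb17 yb11 zb28) (kb xb20 yb1 zb28) (kb xb19 yb29 zb29) (kb xb20 yb1 zb31) (kb xb20 yb34 zb2) (kb xb18 yb44 zb29) (kb xb25 yb59 zb17) (kb xb8 yb47 zb25) (kb xb20 yb50 zb27) (kb xb19 yb26 zb13) (kb xb26 yb17 zb26) (kb xb8 yb47 zb12) (kb xb20 yb50 zb31) (kb xb23 yb12 zb5) (kb xb8 yb47 zb13) (kb xb15 yb59 zb27) (kb xb26 yb23 zb51) (kb xb8 yb47 zb14)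 (kb xb24 yb4 zb60) (kb xb13 yb43 zb16) (kb xb8 yb47 zb42) (kb xb9 yb10 zb32) (kb xb16 yb43 zb58) (kb xb8 yb47 zb17) (kb xb8 yb47 zb18) (kb xb26 yb23 zb61) (kb xb23 yb10 zb16) (kb xb26 yb24 zb1) (kb xb13 yb23 zb17) (kb xb8 yb47 zb20) (kb xb8 yb47 zb21) (kb xb26 yb24 zb3) (kb xb26 yb24 zb2) (kb xb8 yb47 zb22) (kb xb26 yb24 zb6) (kb xb26 yb24 zb5) (kb xb8 yb47 zb23) (kb xb26 yb24 zb11) (kb xb23 yb12 zb7) (kb xb24 yb8 zb57) (kb xb22 yb54 zb19) (kb xb8 yb47 zb24) (kb xb10 yb40 zb30) (kb xb25 yb4 zb57)) (@D3.rec (fun _ => Pt) (kb xb26 yb23 zb45) (kb xb8 yb47 zb26) (kb xb23 yb5 zb37) (kb xb12 yb6 zb1) (kb xb26 yb24 zb16) (kb xb8 yb47 zb30) (kb xb8 yb47 zb29) (kb xb26 yb24 zb22) (kb xb26 yb23 zb46) (kb xb18 yb19 zb54) (kb xb26 yb24 zb19) (kb xb26 yb24 zb25) (kb xb8 yb47 zb33)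 (kb xb8 yb47 zb32) (kb xb26 yb24 zb28) (kb xb26 yb24 zb29) (kb xb26 yb23 zb50) (kb xb22 yb55 zb33) (kb xb26 yb24 zb34) (kb xb8 yb47 zb36) (kb xb8 yb47 zb35) (kb xb13 yb40 zb31) (kb xb13 yb10 zb12) (kb xb23 yb2 zb17) (kb xb14 yb32 zb0) (kb xb18 yb51 zb23) (kb xb14 yb32 zb1) (kb xb17 yb57 zb38) (kb xb8 yb47 zb40) (kb xb8 yb47 zb41) (kb xb25 yb25 zb59) (kb xb17 yb32 zb51) (kb xb21 yb11 zb3) (kb xb20 yb40 zb55) (kb xb22 yb47 zb22) (kb xb22 yb52 zb9) (kb xb8 yb50 zb23) (kb xb8 yb47 zb46) (kb xb16 yb32 zb5) (kb xb13 yb32 zb16) (kb xb26 yb24 zb50) (kb xb8 yb47 zb49) (kb xb22 yb55 zb50) (kb xb19 yb36 zb21) (kb xb26 yb24 zb57) (kb xb26 yb24 zb54) (kb xb8 yb47 zb51) (kb xb8 yb47 zb52) (kb xb20 yb32 zb1) (kb xb26 yb25 zb1) (kb xb26 yb24 zb59) (kb xb26 yb25 zb0) (kb xb8 yb47 zb54)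 (kb xb8 yb47 zb55) (kb xb26 yb25 zb7) (kb xb26 yb25 zb4) (kb xb20 yb32 zb8) (kb xb26 yb25 zb5) (kb xb26 yb25 zb6) (kb xb8 yb47 zb56) (kb xb26 yb25 zb11) (kb xb8 yb47 zb58)) (@D3.rec (fun _ => Pt) (kb xb8 yb58 zb45) (kb xb10 yb57 zb60) (kb xb20 yb32 zb20) (kb xb26 yb25 zb13) (kb xb13 yb58 zb55) (kb xb24 yb47 zb18) (kb xb25 yb18 zb22) (kb xb16 yb29 zb41) (kb xb8 yb48 zb3) (kb xb16 yb29 zb17) (kb xb8 yb48 zb9) (kb xb12 yb6 zb17) (kb xb17 yb59 zb32) (kb xb16 yb32 zb19) (kb xb17 yb59 zb55) (kb xb26 yb25 zb25) (kb xb8 yb48 zb10) (kb xb26 yb25 zb26) (kb xb22 yb42 zb49) (kb xb17 yb0 zb41) (kb xb24 yb56 zb45) (kb xb16 yb28 zb39) (kb xb13 yb58 zb15) (kb xb11 yb18 zb57) (kb xb8 yb48 zb18) (kb xb20 yb25 zb46) (kb xb26 yb25 zb31) (kb xb16 yb25 zb27) (kb xb16 yb25 zb30) (kb xb16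 yb25 zb31) (kb xb21 yb3 zb28) (kb xb11 yb1 zb36) (kb xb19 yb39 zb56) (kb xb26 yb25 zb35) (kb xb19 yb39 zb22) (kb xb8 yb48 zb39) (kb xb20 yb29 zb15) (kb xb21 yb12 zb21) (kb xb8 yb48 zb29) (kb xb16 yb28 zb21) (kb xb26 yb25 zb42) (kb xb26 yb25 zb41) (kb xb15 yb18 zb18) (kb xb14 yb31 zb61) (kb xb11 yb20 zb46) (kb xb8 yb48 zb32) (kb xb8 yb48 zb33) (kb xb26 yb25 zb51) (kb xb24 yb9 zb16) (kb xb26 yb25 zb53) (kb xb26 yb25 zb48) (kb xb19 yb36 zb19) (kb xb8 yb48 zb36) (kb xb19 yb50 zb42) (kb xb26 yb25 zb55) (kb xb8 yb48 zb37) (kb xb26 yb25 zb56) (kb xb26 yb25 zb58) (kb xb26 yb25 zb59) (kb xb22 yb52 zb51) (kb xb17 yb8 zb30) (kb xb8 yb48 zb41)) (@D3.rec (fun _ => Pt) (kb xb26 yb26 zb3) (kb xb22 yb48 zb20) (kb xb26 yb26 zb1) (kb xb26 yb26 zb2) (kb xb24 yb8 zb54) (kb xb8 yb48 zb45)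 (kb xb24 yb8 zb45) (kb xb8 yb48 zb48) (kb xb19 yb37 zb53) (kb xb24 yb7 zb37) (kb xb20 yb52 zb49) (kb xb14 yb20 zb13) (kb xb11 yb36 zb32) (kb xb17 yb59 zb53) (kb xb16 yb31 zb61) (kb xb11 yb14 zb11) (kb xb26 yb26 zb19) (kb xb16 yb28 zb9) (kb xb21 yb12 zb16) (kb xb20 yb30 zb45) (kb xb26 yb26 zb21) (kb xb8 yb49 zb10) (kb xb13 yb47 zb31) (kb xb18 yb40 zb43) (kb xb12 yb6 zb15) (kb xb8 yb49 zb15) (kb xb11 yb30 zb16) (kb xb10 yb6 zb1) (kb xb24 yb10 zb57) (kb xb17 yb12 zb48) (kb xb26 yb25 zb30) (kb xb20 yb19 zb52) (kb xb8 yb49 zb7) (kb xb26 yb26 zb25) (kb xb20 yb18 zb50) (kb xb20 yb18 zb51) (kb xb20 yb25 zb51) (kb xb26 yb26 zb27) (kb xb13 yb50 zb22) (kb xb26 yb26 zb30) (kb xb21 yb2 zb39) (kb xb16 yb28 zb7) (kb xb8 yb49 zb14) (kb xb26 yb26 zb34) (kb xb15 yb50 zb17) (kb xb13 yb59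 zb9) (kb xb22 yb52 zb58) (kb xb8 yb49 zb17) (kb xb12 yb20 zb53) (kb xb20 yb26 zb21) (kb xb17 yb0 zb39) (kb xb8 yb49 zb28) (kb xb8 yb49 zb29) (kb xb8 yb51 zb37) (kb xb12 yb7 zb49) (kb xb26 yb26 zb44) (kb xb9 yb6 zb17) (kb xb20 yb22 zb44) (kb xb9 yb48 zb0) (kb xb20 yb35 zb6) (kb xb19 yb33 zb51) (kb xb9 yb6 zb54)) (@D3.rec (fun _ => Pt) (kb xb10 yb4 zb58) (kb xb9 yb51 zb14) (kb xb15 yb4 zb14) (kb xb16 yb52 zb44) (kb xb16 yb52 zb45) (kb xb11 yb13 zb52) (kb xb26 yb26 zb55) (kb xb26 yb26 zb43) (kb xb20 yb7 zb61) (kb xb13 yb41 zb29) (kb xb14 yb19 zb9) (kb xb14 yb22 zb27) (kb xb8 yb49 zb32) (kb xb13 yb28 zb44) (kb xb14 yb10 zb16) (kb xb25 yb46 zb27) (kb xb8 yb49 zb36) (kb xb21 yb14 zb38) (kb xb11 yb13 zb53) (kb xb20 yb14 zb1) (kb xb11 yb16 zb53) (kb xb16 yb57 zb8) (kb xb16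 yb53 zb48) (kb xb8 yb49 zb41) (kb xb26 yb27 zb3) (kb xb26 yb27 zb4) (kb xb8 yb49 zb50) (kb xb8 yb49 zb45) (kb xb26 yb27 zb5) (kb xb10 yb5 zb17) (kb xb14 yb44 zb25) (kb xb13 yb27 zb7) (kb xb8 yb49 zb52) (kb xb9 yb55 zb53) (kb xb8 yb50 zb40) (kb xb17 yb15 zb1) (kb xb8 yb49 zb59) (kb xb8 yb50 zb35) (kb xb8 yb50 zb36) (kb xb11 yb34 zb24) (kb xb24 yb47 zb25) (kb xb9 yb29 zb13) (kb xb21 yb3 zb3) (kb xb15 yb5 zb31) (kb xb15 yb5 zb3) (kb xb26 yb22 zb35) (kb xb12 yb22 zb59) (kb xb11 yb20 zb18) (kb xb26 yb27 zb12) (kb xb20 yb7 zb58) (kb xb15 yb0 zb12) (kb xb20 yb9 zb46) (kb xb15 yb0 zb11) (kb xb8 yb51 zb13) (kb xb8 yb50 zb11) (kb xb8 yb50 zb12) (kb xb24 yb47 zb31) (kb xb8 yb51 zb8) (kb xb8 yb51 zb11) (kb xb23 yb32 zb26) (kb xb8 yb50 zb61) (kb xb17 yb31 zb45)) (@D3.rec (fun _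 => Pt) (kb xb8 yb50 zb14) (kb xb8 yb51 zb26) (kb xb8 yb50 zb16) (kb xb11 yb7 zb0) (kb xb26 yb27 zb24) (kb xb21 yb54 zb41) (kb xb8 yb50 zb17) (kb xb11 yb55 zb48) (kb xb26 yb27 zb28) (kb xb26 yb27 zb29) (kb xb23 yb4 zb48) (kb xb20 yb52 zb22) (kb xb26 yb27 zb36) (kb xb8 yb50 zb20) (kb xb26 yb27 zb40) (kb xb26 yb27 zb39) (kb xb8 yb50 zb22) (kb xb26 yb27 zb48) (kb xb26 yb27 zb47) (kb xb26 yb27 zb53) (kb xb18 yb59 zb26) (kb xb17 yb20 zb30) (kb xb8 yb50 zb24) (kb xb26 yb27 zb61) (kb xb8 yb50 zb25) (kb xb26 yb28 zb1) (kb xb19 yb39 zb23) (kb xb23 yb14 zb54) (kb xb12 yb12 zb45) (kb xb11 yb12 zb23) (kb xb21 yb38 zb59) (kb xb16 yb24 zb0) (kb xb16 yb24 zb1) (kb xb8 yb50 zb31) (kb xb17 yb23 zb45) (kb xb26 yb28 zb8) (kb xb26 yb28 zb9) (kb xb21 yb16 zb12) (kb xb12 yb32 zb9) (kb xb21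 yb38 zb4) (kb xb12 yb29 zb57) (kb xb13 yb20 zb53) (kb xb26 yb28 zb17) (kb xb26 yb28 zb11) (kb xb26 yb28 zb19) (kb xb26 yb27 zb8) (kb xb21 yb53 zb31) (kb xb12 yb8 zb1) (kb xb8 yb50 zb38) (kb xb8 yb50 zb39) (kb xb22 yb38 zb17) (kb xb11 yb33 zb36) (kb xb14 yb59 zb58) (kb xb17 yb56 zb47) (kb xb26 yb27 zb6) (kb xb17 yb15 zb12) (kb xb23 yb27 zb23) (kb xb23 yb26 zb32) (kb xb9 yb19 zb40) (kb xb22 yb38 zb50) (kb xb24 yb56 zb44) (kb xb16 yb29 zb14)) (@D3.rec (fun _ => Pt) (kb xb8 yb50 zb47) (kb xb26 yb28 zb31) (kb xb26 yb19 zb17) (kb xb8 yb50 zb48) (kb xb26 yb28 zb36) (kb xb16 yb27 zb38) (kb xb22 yb48 zb2) (kb xb26 yb28 zb44) (kb xb8 yb50 zb60) (kb xb22 yb38 zb52) (kb xb11 yb33 zb58) (kb xb8 yb50 zb52) (kb xb8 yb50 zb53) (kb xb26 yb28 zb33) (kb xb20 yb3 zb4) (kb xb26 yb28 zb49)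 (kb xb16 yb53 zb20) (kb xb12 yb46 zb9) (kb xb24 yb24 zb12) (kb xb16 yb28 zb13) (kb xb15 yb6 zb31) (kb xb8 yb50 zb55) (kb xb8 yb50 zb56) (kb xb26 yb29 zb4) (kb xb26 yb29 zb0) (kb xb26 yb29 zb3) (kb xb26 yb29 zb7) (kb xb13 yb42 zb47) (kb xb8 yb50 zb58) (kb xb26 yb29 zb10) (kb xb26 yb29 zb9) (kb xb26 yb29 zb13) (kb xb26 yb29 zb14) (kb xb8 yb50 zb59) (kb xb26 yb29 zb18) (kb xb26 yb29 zb19) (kb xb26 yb28 zb45) (kb xb13 yb20 zb15) (kb xb14 yb12 zb40) (kb xb22 yb51 zb36) (kb xb24 yb47 zb41) (kb xb20 yb6 zb36) (kb xb8 yb51 zb1) (kb xb23 yb36 zb29) (kb xb24 yb25 zb40) (kb xb26 yb27 zb21) (kb xb22 yb51 zb52) (kb xb15 yb8 zb16) (kb xb8 yb51 zb10) (kb xb26 yb27 zb7) (kb xb26 yb28 zb25) (kb xb8 yb51 zb12) (kb xb17 yb0 zb28) (kb xb16 yb23 zb54) (kb xb8 yb51 zb5) (kb xb8 yb51 zb6)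 (kb xb26 yb29 zb41) (kb xb26 yb29 zb43) (kb xb26 yb29 zb40) (kb xb19 yb49 zb54) (kb xb22 yb46 zb33) (kb xb8 yb51 zb7)) (@D3.rec (fun _ => Pt) (kb xb23 yb51 zb27) (kb xb26 yb29 zb48) (kb xb18 yb30 zb28) (kb xb19 yb2 zb30) (kb xb25 yb0 zb39) (kb xb26 yb29 zb50) (kb xb8 yb51 zb9) (kb xb20 yb45 zb38) (kb xb26 yb29 zb55) (kb xb18 yb39 zb2) (kb xb26 yb29 zb33) (kb xb26 yb27 zb17) (kb xb20 yb31 zb30) (kb xb20 yb31 zb31) (kb xb8 yb51 zb15) (kb xb21 yb30 zb25) (kb xb26 yb27 zb15) (kb xb13 yb7 zb2) (kb xb8 yb51 zb22) (kb xb8 yb51 zb24) (kb xb8 yb51 zb25) (kb xb8 yb51 zb19) (kb xb8 yb51 zb20) (kb xb26 yb30 zb6) (kb xb26 yb30 zb5) (kb xb8 yb51 zb21) (kb xb26 yb30 zb9) (kb xb12 yb30 zb47) (kb xb26 yb29 zb60) (kb xb24 yb29 zb16) (kb xb26 yb30 zb2) (kb xb26 yb30 zb13) (kb xb15 yb8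 zb30) (kb xb8 yb51 zb28) (kb xb8 yb51 zb29) (kb xb26 yb30 zb18) (kb xb26 yb27 zb25) (kb xb26 yb30 zb22) (kb xb26 yb30 zb17) (kb xb15 yb8 zb41) (kb xb8 yb51 zb31) (kb xb8 yb51 zb32) (kb xb26 yb13 zb43) (kb xb13 yb43 zb24) (kb xb22 yb53 zb21) (kb xb8 yb51 zb33) (kb xb21 yb10 zb46) (kb xb26 yb30 zb32) (kb xb23 yb5 zb0) (kb xb26 yb30 zb35) (kb xb26 yb30 zb38) (kb xb8 yb51 zb35) (kb xb26 yb30 zb43) (kb xb26 yb30 zb47) (kb xb26 yb30 zb48) (kb xb26 yb30 zb49) (kb xb8 yb51 zb38) (kb xb26 yb30 zb52) (kb xb26 yb30 zb56) (kb xb26 yb27 zb44) (kb xb20 yb52 zb50) (kb xb26 yb30 zb59)) (@D3.rec (fun _ => Pt) (kb xb8 yb51 zb42) (kb xb8 yb51 zb41) (kb xb25 yb54 zb44) (kb xb26 yb26 zb40) (kb xb17 yb1 zb7) (kb xb26 yb31 zb0) (kb xb8 yb51 zb45) (kb xb8 yb51 zb44) (kb xb26 yb31 zb12) (kb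 xb26 yb31 zb17) (kb xb26 yb27 zb51) (kb xb26 yb31 zb11) (kb xb8 yb51 zb46) (kb xb26 yb31 zb25) (kb xb26 yb27 zb55) (kb xb26 yb20 zb25) (kb xb23 yb7 zb54) (kb xb8 yb51 zb48) (kb xb15 yb0 zb46) (kb xb8 yb51 zb49) (kb xb26 yb31 zb38) (kb xb26 yb31 zb40) (kb xb26 yb30 zb37) (kb xb21 yb10 zb56) (kb xb8 yb51 zb51) (kb xb26 yb31 zb49) (kb xb21 yb11 zb11) (kb xb8 yb51 zb54) (kb xb8 yb51 zb53) (kb xb26 yb31 zb53) (kb xb26 yb31 zb55) (kb xb17 yb57 zb40) (kb xb24 yb59 zb57) (kb xb13 yb31 zb17) (kb xb21 yb11 zb6) (kb xb8 yb51 zb59) (kb xb8 yb51 zb58) (kb xb26 yb32 zb2) (kb xb19 yb40 zb1) (kb xb26 yb32 zb0) (kb xb8 yb51 zb60) (kb xb8 yb51 zb61) (kb xb26 yb15 zb36) (kb xb8 yb52 zb13) (kb xb10 yb19 zb39) (kb xb26 yb32 zb11) (kb xb26 yb32 zb12) (kb xb8 yb52 zb3) (kb xb26 yb32 zb16)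 (kb xb10 yb1 zb56) (kb xb8 yb52 zb6) (kb xb8 yb52 zb7) (kb xb25 yb3 zb13) (kb xb26 yb32 zb21) (kb xb26 yb32 zb20) (kb xb17 yb53 zb54) (kb xb26 yb32 zb23) (kb xb23 yb43 zb30) (kb xb9 yb58 zb58) (kb xb8 yb52 zb10) (kb xb8 yb52 zb11) (kb xb22 yb49 zb35)) (@D3.rec (fun _ => Pt) (kb xb13 yb41 zb4) (kb xb14 yb42 zb56) (kb xb22 yb28 zb40) (kb xb15 yb14 zb41) (kb xb26 yb32 zb28) (kb xb26 yb32 zb10) (kb xb14 yb53 zb41) (kb xb16 yb35 zb45) (kb xb8 yb52 zb16) (kb xb17 yb15 zb32) (kb xb16 yb22 zb48) (kb xb12 yb7 zb7) (kb xb16 yb22 zb51) (kb xb8 yb52 zb19) (kb xb8 yb52 zb20) (kb xb20 yb32 zb12) (kb xb20 yb32 zb13) (kb xb22 yb34 zb14) (kb xb16 yb35 zb53) (kb xb26 yb32 zb33) (kb xb26 yb32 zb35) (kb xb13 yb30 zb51) (kb xb17 yb46 zb33) (kb xb8 yb52 zb22) (kb xb18 yb30 zb29) (kb xb26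 yb32 zb40) (kb xb26 yb32 zb45) (kb xb21 yb53 zb1) (kb xb16 yb35 zb29) (kb xb16 yb35 zb28) (kb xb21 yb15 zb28) (kb xb26 yb18 zb41) (kb xb10 yb16 zb40) (kb xb18 yb54 zb58) (kb xb21 yb37 zb61) (kb xb10 yb13 zb15) (kb xb8 yb52 zb33) (kb xb8 yb52 zb34) (kb xb26 yb32 zb51) (kb xb12 yb8 zb48) (kb xb23 yb6 zb46) (kb xb26 yb32 zb52) (kb xb24 yb28 zb14) (kb xb10 yb13 zb13) (kb xb11 yb23 zb15) (kb xb16 yb35 zb7) (kb xb8 yb52 zb39) (kb xb8 yb52 zb40) (kb xb12 yb7 zb30) (kb xb13 yb41 zb36) (kb xb8 yb52 zb42) (kb xb24 yb58 zb58) (kb xb17 yb38 zb13) (kb xb16 yb35 zb18) (kb xb12 yb2 zb42) (kb xb26 yb32 zb59) (kb xb13 yb47 zb25) (kb xb22 yb50 zb32) (kb xb8 yb52 zb45) (kb xb10 yb9 zb8) (kb xb12 yb38 zb36) (kb xb22 yb29 zb17)) (@D3.rec (fun _ => Pt) (kb xb11 yb23 zb5) (kb xb26 yb33 zb3)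 (kb xb12 yb38 zb22) (kb xb12 yb53 zb50) (kb xb8 yb52 zb52) (kb xb8 yb52 zb53) (kb xb11 yb34 zb10) (kb xb8 yb52 zb51) (kb xb12 yb53 zb49) (kb xb26 yb29 zb27) (kb xb23 yb14 zb51) (kb xb11 yb44 zb25) (kb xb20 yb19 zb36) (kb xb17 yb49 zb27) (kb xb26 yb33 zb9) (kb xb8 yb53 zb59) (kb xb8 yb52 zb55) (kb xb26 yb33 zb12) (kb xb26 yb33 zb11) (kb xb26 yb7 zb59) (kb xb26 yb33 zb16) (kb xb17 yb50 zb45) (kb xb26 yb33 zb17) (kb xb8 yb54 zb37) (kb xb8 yb52 zb59) (kb xb8 yb52 zb60) (kb xb20 yb35 zb23) (kb xb24 yb26 zb42) (kb xb26 yb33 zb25) (kb xb26 yb33 zb21) (kb xb26 yb33 zb22) (kb xb24 yb0 zb15) (kb xb24 yb58 zb20) (kb xb26 yb33 zb28) (kb xb8 yb54 zb51) (kb xb8 yb53 zb2) (kb xb8 yb53 zb5) (kb xb19 yb14 zb11) (kb xb26 yb33 zb33) (kb xb8 yb54 zb59) (kb xb8 yb53 zb6) (kb xb8 yb55 zb4)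 (kb xb26 yb33 zb38) (kb xb26 yb33 zb39) (kb xb8 yb55 zb5) (kb xb25 yb10 zb23) (kb xb8 yb53 zb7) (kb xb14 yb34 zb12) (kb xb26 yb33 zb46) (kb xb26 yb33 zb48) (kb xb19 yb44 zb53) (kb xb8 yb53 zb8) (kb xb10 yb38 zb58) (kb xb26 yb33 zb54) (kb xb26 yb33 zb55) (kb xb8 yb55 zb16) (kb xb26 yb33 zb58) (kb xb26 yb33 zb60) (kb xb25 yb45 zb6) (kb xb8 yb53 zb14) (kb xb8 yb53 zb15) (kb xb8 yb53 zb12)) (@D3.rec (fun _ => Pt) (kb xb26 yb34 zb5) (kb xb8 yb53 zb13) (kb xb26 yb34 zb10) (kb xb24 yb14 zb32) (kb xb15 yb36 zb26) (kb xb26 yb4 zb61) (kb xb26 yb34 zb2) (kb xb26 yb34 zb15) (kb xb26 yb34 zb18) (kb xb15 yb41 zb55) (kb xb8 yb53 zb17) (kb xb26 yb34 zb23) (kb xb15 yb18 zb16) (kb xb19 yb36 zb47) (kb xb25 yb8 zb46) (kb xb10 yb47 zb46) (kb xb8 yb53 zb22) (kb xb8 yb53 zb23) (kb xb26 yb34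 zb31) (kb xb16 yb42 zb4) (kb xb26 yb34 zb39) (kb xb22 yb1 zb33) (kb xb26 yb34 zb34) (kb xb26 yb34 zb42) (kb xb26 yb34 zb43) (kb xb26 yb34 zb44) (kb xb20 yb58 zb40) (kb xb25 yb7 zb55) (kb xb8 yb53 zb28) (kb xb8 yb53 zb29) (kb xb26 yb34 zb47) (kb xb20 yb58 zb11) (kb xb26 yb34 zb53) (kb xb26 yb34 zb50) (kb xb26 yb34 zb54) (kb xb26 yb34 zb57) (kb xb25 yb7 zb58) (kb xb8 yb53 zb31) (kb xb8 yb53 zb32) (kb xb26 yb34 zb60) (kb xb26 yb35 zb1) (kb xb26 yb35 zb2) (kb xb10 yb48 zb0) (kb xb26 yb35 zb8) (kb xb19 yb54 zb53) (kb xb8 yb53 zb34) (kb xb8 yb53 zb35) (kb xb26 yb35 zb13) (kb xb26 yb35 zb14) (kb xb8 yb53 zb36) (kb xb26 yb35 zb19) (kb xb26 yb35 zb17) (kb xb16 yb38 zb8) (kb xb8 yb53 zb37) (kb xb24 yb48 zb37) (kb xb26 yb35 zb27) (kb xb26 yb35 zb28) (kb xb25 yb8 zb1) (kb xb25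 yb8 zb2) (kb xb26 yb35 zb36) (kb xb26 yb35 zb37) (kb xb8 yb53 zb43)) (@D3.rec (fun _ => Pt) (kb xb26 yb35 zb42) (kb xb26 yb35 zb45) (kb xb8 yb53 zb46) (kb xb8 yb53 zb47) (kb xb8 yb53 zb41) (kb xb11 yb52 zb52) (kb xb8 yb53 zb42) (kb xb25 yb52 zb24) (kb xb16 yb37 zb52) (kb xb26 yb35 zb58) (kb xb26 yb35 zb41) (kb xb19 yb32 zb18) (kb xb8 yb53 zb44) (kb xb26 yb36 zb5) (kb xb8 yb53 zb45) (kb xb26 yb36 zb9) (kb xb26 yb36 zb10) (kb xb26 yb36 zb14) (kb xb26 yb36 zb17) (kb xb26 yb36 zb22) (kb xb26 yb35 zb52) (kb xb16 yb42 zb20) (kb xb8 yb53 zb48) (kb xb26 yb36 zb28) (kb xb11 yb39 zb45) (kb xb11 yb39 zb46) (kb xb26 yb36 zb34) (kb xb10 yb37 zb2) (kb xb26 yb36 zb37) (kb xb8 yb53 zb52) (kb xb26 yb36 zb42) (kb xb26 yb36 zb43) (kb xb8 yb53 zb54) (kb xb26 yb36 zb47) (kb xb25 yb20 zb46)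 (kb xb17 yb26 zb7) (kb xb10 yb34 zb4) (kb xb8 yb53 zb56) (kb xb26 yb36 zb49) (kb xb8 yb53 zb57) (kb xb25 yb14 zb19) (kb xb15 yb19 zb15) (kb xb26 yb36 zb51) (kb xb8 yb53 zb58) (kb xb16 yb48 zb8) (kb xb26 yb36 zb54) (kb xb22 yb4 zb5) (kb xb26 yb7 zb58) (kb xb16 yb39 zb0) (kb xb26 yb37 zb3) (kb xb25 yb44 zb31) (kb xb8 yb54 zb0) (kb xb26 yb37 zb13) (kb xb16 yb38 zb61) (kb xb8 yb54 zb3) (kb xb8 yb54 zb4) (kb xb22 yb30 zb17) (kb xb26 yb37 zb23) (kb xb26 yb37 zb11) (kb xb26 yb37 zb12) (kb xb8 yb54 zb1) (kb xb16 yb38 zb53)) (@D3.rec (fun _ => Pt) (kb xb16 yb38 zb48) (kb xb8 yb54 zb2) (kb xb26 yb37 zb28) (kb xb26 yb37 zb29) (kb xb26 yb37 zb30) (kb xb26 yb37 zb32) (kb xb26 yb37 zb20) (kb xb20 yb58 zb18) (kb xb19 yb40 zb45) (kb xb8 yb54 zb7) (kb xb26 yb37 zb37) (kb xb26 yb37 zb38)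 (kb xb19 yb50 zb31) (kb xb15 yb2 zb35) (kb xb8 yb54 zb9) (kb xb15 yb2 zb57) (kb xb26 yb37 zb43) (kb xb10 yb53 zb36) (kb xb15 yb15 zb0) (kb xb25 yb1 zb28) (kb xb10 yb32 zb11) (kb xb8 yb54 zb27) (kb xb25 yb10 zb5) (kb xb8 yb54 zb15) (kb xb11 yb53 zb16) (kb xb8 yb58 zb54) (kb xb25 yb10 zb17) (kb xb18 yb3 zb1) (kb xb8 yb54 zb17) (kb xb26 yb37 zb53) (kb xb26 yb37 zb52) (kb xb8 yb54 zb18) (kb xb10 yb40 zb54) (kb xb25 yb10 zb11) (kb xb25 yb10 zb12) (kb xb26 yb37 zb58) (kb xb25 yb10 zb14) (kb xb8 yb54 zb22) (kb xb24 yb26 zb48) (kb xb8 yb54 zb28) (kb xb26 yb37 zb61) (kb xb8 yb54 zb23) (kb xb26 yb38 zb3) (kb xb19 yb17 zb39) (kb xb8 yb58 zb61) (kb xb8 yb59 zb0) (kb xb8 yb54 zb25) (kb xb10 yb49 zb28) (kb xb8 yb54 zb26) (kb xb15 yb17 zb35) (kb xb25 yb32 zb13) (kb xb8 yb58 zb59)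 (kb xb8 yb54 zb35) (kb xb19 yb41 zb28) (kb xb18 yb3 zb0) (kb xb8 yb54 zb29) (kb xb26 yb38 zb20) (kb xb11 yb12 zb57) (kb xb8 yb54 zb31) (kb xb26 yb38 zb24) (kb xb26 yb38 zb25) (kb xb26 yb18 zb23)) (@D3.rec (fun _ => Pt) (kb xb26 yb38 zb30) (kb xb8 yb54 zb34) (kb xb20 yb29 zb29) (kb xb8 yb54 zb36) (kb xb21 yb57 zb61) (kb xb20 yb38 zb33) (kb xb26 yb33 zb19) (kb xb26 yb38 zb11) (kb xb26 yb10 zb41) (kb xb8 yb54 zb40) (kb xb26 yb38 zb46) (kb xb20 yb38 zb21) (kb xb8 yb54 zb43) (kb xb8 yb54 zb44) (kb xb24 yb0 zb19) (kb xb26 yb33 zb20) (kb xb26 yb38 zb45) (kb xb26 yb37 zb51) (kb xb8 yb54 zb41) (kb xb26 yb39 zb0) (kb xb26 yb37 zb18) (kb xb8 yb54 zb42) (kb xb26 yb39 zb2) (kb xb26 yb39 zb4) (kb xb23 yb50 zb60) (kb xb26 yb38 zb53) (kb xb8 yb54 zb45) (kb xb26 yb39 zb8) (kb xb26 yb39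 zb9) (kb xb24 yb26 zb27) (kb xb8 yb54 zb49) (kb xb26 yb39 zb14) (kb xb26 yb39 zb13) (kb xb8 yb54 zb50) (kb xb15 yb51 zb58) (kb xb26 yb39 zb19) (kb xb15 yb51 zb36) (kb xb8 yb58 zb2) (kb xb15 yb54 zb20) (kb xb10 yb19 zb20) (kb xb10 yb19 zb21) (kb xb26 yb39 zb27) (kb xb26 yb4 zb51) (kb xb8 yb54 zb56) (kb xb16 yb45 zb42) (kb xb15 yb51 zb1) (kb xb8 yb54 zb55) (kb xb26 yb39 zb29) (kb xb25 yb10 zb28) (kb xb8 yb54 zb58) (kb xb9 yb42 zb46) (kb xb11 yb54 zb22) (kb xb11 yb54 zb25) (kb xb9 yb42 zb32) (kb xb26 yb33 zb35) (kb xb10 yb39 zb8) (kb xb26 yb39 zb40) (kb xb9 yb40 zb47) (kb xb13 yb45 zb61) (kb xb8 yb55 zb2) (kb xb26 yb39 zb46) (kb xb24 yb27 zb35)) (@D3.rec (fun _ => Pt) (kb xb8 yb55 zb3) (kb xb9 yb43 zb43) (kb xb15 yb51 zb55) (kb xb9 yb40 zb50) (kb xb26 yb39 zb45) (kb xb20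 yb38 zb47) (kb xb24 yb26 zb21) (kb xb26 yb33 zb42) (kb xb26 yb11 zb13) (kb xb26 yb33 zb44) (kb xb8 yb55 zb6) (kb xb8 yb55 zb10) (kb xb26 yb39 zb55) (kb xb24 yb58 zb18) (kb xb26 yb39 zb12) (kb xb10 yb57 zb36) (kb xb8 yb55 zb9) (kb xb8 yb55 zb11) (kb xb10 yb54 zb47) (kb xb8 yb55 zb8) (kb xb19 yb39 zb4) (kb xb26 yb39 zb59) (kb xb10 yb56 zb53) (kb xb16 yb45 zb48) (kb xb26 yb39 zb57) (kb xb24 yb26 zb52) (kb xb8 yb55 zb14) (kb xb26 yb39 zb58) (kb xb26 yb33 zb47) (kb xb26 yb39 zb33) (kb xb10 yb54 zb30) (kb xb8 yb55 zb15) (kb xb10 yb54 zb31) (kb xb9 yb6 zb29) (kb xb20 yb53 zb28) (kb xb26 yb39 zb7) (kb xb24 yb0 zb16) (kb xb26 yb40 zb10) (kb xb26 yb40 zb11) (kb xb22 yb4 zb2) (kb xb25 yb22 zb26) (kb xb26 yb40 zb17) (kb xb26 yb4 zb58) (kb xb8 yb55 zb17) (kb xb26 yb40 zb21) (kb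 xb8 yb55 zb18) (kb xb22 yb4 zb41) (kb xb20 yb39 zb44) (kb xb26 yb40 zb30) (kb xb15 yb43 zb14) (kb xb8 yb55 zb19) (kb xb10 yb32 zb38) (kb xb24 yb32 zb14) (kb xb25 yb36 zb61) (kb xb11 yb54 zb20) (kb xb19 yb31 zb42) (kb xb8 yb55 zb31) (kb xb8 yb55 zb32) (kb xb16 yb42 zb34) (kb xb26 yb40 zb42) (kb xb8 yb55 zb35) (kb xb26 yb34 zb3)) (@D3.rec (fun _ => Pt) (kb xb15 yb24 zb43) (kb xb26 yb4 zb52) (kb xb26 yb40 zb23) (kb xb19 yb31 zb59) (kb xb16 yb37 zb19) (kb xb18 yb22 zb11) (kb xb26 yb10 zb34) (kb xb8 yb55 zb26) (kb xb26 yb40 zb28) (kb xb17 yb29 zb19) (kb xb26 yb40 zb59) (kb xb26 yb41 zb0) (kb xb18 yb12 zb32) (kb xb24 yb2 zb30) (kb xb8 yb55 zb28) (kb xb20 yb5 zb4) (kb xb18 yb26 zb17) (kb xb24 yb19 zb57) (kb xb16 yb51 zb12) (kb xb19 yb40 zb41) (kb xb16 yb38 zb21) (kb xb8 yb55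 zb30) (kb xb17 yb50 zb19) (kb xb26 yb41 zb8) (kb xb19 yb31 zb38) (kb xb26 yb40 zb39) (kb xb11 yb54 zb7) (kb xb11 yb53 zb51) (kb xb8 yb55 zb33) (kb xb26 yb41 zb13) (kb xb26 yb41 zb14) (kb xb8 yb55 zb34) (kb xb20 yb58 zb39) (kb xb26 yb41 zb10) (kb xb16 yb41 zb58) (kb xb26 yb41 zb20) (kb xb8 yb55 zb38) (kb xb8 yb55 zb39) (kb xb8 yb55 zb37) (kb xb26 yb41 zb23) (kb xb26 yb41 zb24) (kb xb26 yb41 zb29) (kb xb8 yb55 zb40) (kb xb17 yb28 zb49) (kb xb26 yb41 zb30) (kb xb25 yb15 zb14) (kb xb23 yb8 zb21) (kb xb10 yb50 zb52) (kb xb8 yb55 zb43) (kb xb8 yb55 zb44) (kb xb26 yb41 zb36) (kb xb26 yb41 zb38) (kb xb26 yb41 zb35) (kb xb26 yb41 zb39) (kb xb26 yb41 zb40) (kb xb10 yb52 zb12) (kb xb10 yb50 zb45) (kb xb8 yb55 zb48) (kb xb8 yb55 zb49) (kb xb26 yb41 zb47) (kb xb25 yb8 zb35) (kb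 xb26 yb41 zb49)) (@D3.rec (fun _ => Pt) (kb xb10 yb51 zb7) (kb xb8 yb55 zb51) (kb xb26 yb41 zb52) (kb xb26 yb41 zb53) (kb xb10 yb51 zb0) (kb xb8 yb55 zb53) (kb xb8 yb55 zb54) (kb xb11 yb9 zb61) (kb xb26 yb41 zb59) (kb xb8 yb55 zb55) (kb xb26 yb42 zb1) (kb xb25 yb4 zb12) (kb xb26 yb42 zb3) (kb xb22 yb48 zb16) (kb xb23 yb0 zb26) (kb xb8 yb55 zb60) (kb xb20 yb29 zb9) (kb xb8 yb55 zb61) (kb xb8 yb56 zb0) (kb xb26 yb42 zb9) (kb xb15 yb58 zb15) (kb xb26 yb42 zb10) (kb xb16 yb59 zb11) (kb xb8 yb56 zb3) (kb xb23 yb7 zb55) (kb xb8 yb56 zb4) (kb xb20 yb50 zb30) (kb xb25 yb44 zb44) (kb xb26 yb35 zb16) (kb xb8 yb56 zb7) (kb xb25 yb7 zb56) (kb xb11 yb10 zb12) (kb xb10 yb48 zb27) (kb xb9 yb31 zb22) (kb xb13 yb1 zb25) (kb xb8 yb56 zb10) (kb xb10 yb49 zb26) (kb xb8 yb56 zb13) (kb xb26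 yb42 zb23) (kb xb10 yb50 zb51) (kb xb8 yb56 zb12) (kb xb26 yb42 zb25) (kb xb26 yb42 zb26) (kb xb10 yb49 zb23) (kb xb20 yb0 zb57) (kb xb26 yb42 zb22) (kb xb10 yb49 zb12) (kb xb10 yb52 zb8) (kb xb19 yb15 zb8) (kb xb8 yb56 zb16) (kb xb19 yb19 zb47) (kb xb25 yb31 zb18) (kb xb8 yb56 zb18) (kb xb13 yb27 zb50) (kb xb26 yb42 zb35) (kb xb8 yb56 zb19) (kb xb23 yb4 zb22) (kb xb11 yb27 zb13) (kb xb16 yb26 zb40) (kb xb9 yb4 zb43) (kb xb26 yb42 zb37) (kb xb9 yb9 zb2)) (@D3.rec (fun _ => Pt) (kb xb19 yb17 zb31) (kb xb10 yb54 zb49) (kb xb10 yb45 zb57) (kb xb8 yb56 zb24) (kb xb8 yb56 zb25) (kb xb26 yb42 zb44) (kb xb26 yb42 zb47) (kb xb25 yb13 zb51) (kb xb14 yb30 zb20) (kb xb10 yb46 zb38) (kb xb8 yb56 zb27) (kb xb8 yb56 zb28) (kb xb26 yb42 zb53) (kb xb26 yb42 zb61) (kb xb26 yb42 zb56)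 (kb xb26 yb43 zb3) (kb xb26 yb43 zb5) (kb xb10 yb46 zb56) (kb xb8 yb56 zb30) (kb xb26 yb43 zb9) (kb xb26 yb43 zb12) (kb xb13 yb45 zb42) (kb xb10 yb46 zb48) (kb xb8 yb56 zb32) (kb xb26 yb43 zb16) (kb xb26 yb43 zb17) (kb xb8 yb56 zb33) (kb xb11 yb1 zb46) (kb xb26 yb43 zb19) (kb xb8 yb56 zb34) (kb xb26 yb43 zb24) (kb xb14 yb27 zb15) (kb xb14 yb17 zb57) (kb xb22 yb21 zb3) (kb xb26 yb43 zb29) (kb xb25 yb53 zb26) (kb xb8 yb56 zb38) (kb xb11 yb45 zb2) (kb xb26 yb43 zb36) (kb xb8 yb56 zb39) (kb xb26 yb43 zb38) (kb xb8 yb56 zb40) (kb xb8 yb56 zb41) (kb xb26 yb43 zb39) (kb xb10 yb52 zb19) (kb xb8 yb56 zb45) (kb xb19 yb12 zb13) (kb xb10 yb46 zb37) (kb xb8 yb56 zb44) (kb xb25 yb50 zb19) (kb xb26 yb43 zb44) (kb xb18 yb25 zb56) (kb xb10 yb52 zb7) (kb xb10 yb49 zb13) (kb xb25 yb10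 zb19) (kb xb8 yb56 zb48) (kb xb8 yb56 zb47) (kb xb20 yb38 zb52) (kb xb26 yb43 zb54) (kb xb10 yb52 zb29) (kb xb26 yb43 zb52) (kb xb26 yb43 zb53)) (@D3.rec (fun _ => Pt) (kb xb26 yb43 zb58) (kb xb10 yb52 zb33) (kb xb10 yb52 zb35) (kb xb26 yb43 zb60) (kb xb11 yb27 zb5) (kb xb8 yb56 zb52) (kb xb20 yb45 zb28) (kb xb26 yb43 zb61) (kb xb11 yb21 zb6) (kb xb26 yb44 zb3) (kb xb9 yb4 zb29) (kb xb17 yb56 zb28) (kb xb8 yb56 zb55) (kb xb20 yb23 zb7) (kb xb21 yb0 zb39) (kb xb8 yb56 zb56) (kb xb17 yb19 zb42) (kb xb26 yb44 zb12) (kb xb10 yb52 zb34) (kb xb14 yb36 zb6) (kb xb10 yb53 zb6) (kb xb8 yb56 zb59) (kb xb8 yb56 zb60) (kb xb19 yb19 zb32) (kb xb10 yb56 zb10) (kb xb8 yb57 zb0) (kb xb11 yb55 zb21) (kb xb26 yb44 zb17) (kb xb26 yb44 zb18) (kb xb10 yb56 zb7) (kb xb8 yb57 zb2) (kb xb10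 yb58 zb54) (kb xb26 yb44 zb21) (kb xb25 yb4 zb19) (kb xb24 yb34 zb57) (kb xb25 yb12 zb26) (kb xb8 yb57 zb10) (kb xb8 yb57 zb11) (kb xb26 yb44 zb26) (kb xb15 yb18 zb13) (kb xb13 yb36 zb28) (kb xb8 yb57 zb8) (kb xb16 yb40 zb44) (kb xb26 yb44 zb30) (kb xb8 yb57 zb9) (kb xb19 yb57 zb11) (kb xb26 yb44 zb33) (kb xb26 yb44 zb35) (kb xb16 yb41 zb23) (kb xb26 yb44 zb25) (kb xb8 yb57 zb12) (kb xb26 yb44 zb38) (kb xb22 yb15 zb20) (kb xb21 yb50 zb58) (kb xb8 yb57 zb16) (kb xb8 yb57 zb17) (kb xb8 yb57 zb15) (kb xb26 yb44 zb44) (kb xb25 yb46 zb4) (kb xb8 yb57 zb21) (kb xb10 yb49 zb56) (kb xb8 yb57 zb20)) (@D3.rec (fun _ => Pt) (kb xb17 yb57 zb13) (kb xb26 yb10 zb19) (kb xb17 yb22 zb42) (kb xb25 yb4 zb55) (kb xb26 yb44 zb47) (kb xb10 yb54 zb60) (kb xb17 yb53 zb22) (kb xb10 yb55 zb1)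 (kb xb10 yb55 zb2) (kb xb12 yb22 zb46) (kb xb12 yb22 zb35) (kb xb9 yb2 zb44) (kb xb9 yb2 zb45) (kb xb8 yb57 zb28) (kb xb25 yb10 zb46) (kb xb8 yb57 zb29) (kb xb24 yb16 zb34) (kb xb26 yb44 zb52) (kb xb19 yb32 zb54) (kb xb8 yb57 zb37) (kb xb26 yb1 zb55) (kb xb15 yb2 zb16) (kb xb8 yb57 zb33) (kb xb8 yb57 zb35) (kb xb10 yb55 zb44) (kb xb8 yb57 zb42) (kb xb8 yb57 zb43) (kb xb26 yb44 zb54) (kb xb26 yb44 zb56) (kb xb8 yb57 zb48) (kb xb8 yb57 zb49) (kb xb26 yb44 zb60) (kb xb24 yb8 zb11) (kb xb25 yb47 zb43) (kb xb25 yb53 zb39) (kb xb8 yb57 zb53) (kb xb22 yb21 zb43) (kb xb26 yb45 zb2) (kb xb8 yb57 zb56) (kb xb19 yb29 zb56) (kb xb26 yb45 zb6) (kb xb8 yb57 zb54) (kb xb25 yb18 zb33) (kb xb8 yb57 zb55) (kb xb26 yb45 zb9) (kb xb26 yb45 zb12) (kb xb22 yb16 zb25) (kb xb26 yb45 zb14)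 (kb xb21 yb36 zb45) (kb xb23 yb12 zb14) (kb xb8 yb57 zb58) (kb xb26 yb45 zb17) (kb xb14 yb29 zb19) (kb xb8 yb57 zb60) (kb xb18 yb34 zb34) (kb xb8 yb58 zb0) (kb xb26 yb45 zb25) (kb xb8 yb58 zb3) (kb xb26 yb39 zb21) (kb xb26 yb39 zb22) (kb xb10 yb57 zb0) (kb xb12 yb49 zb43)) (@D3.rec (fun _ => Pt) (kb xb26 yb45 zb30) (kb xb10 yb58 zb26) (kb xb26 yb45 zb33) (kb xb9 yb2 zb7) (kb xb8 yb58 zb7) (kb xb26 yb45 zb35) (kb xb10 yb52 zb53) (kb xb8 yb58 zb8) (kb xb26 yb45 zb38) (kb xb25 yb23 zb29) (kb xb8 yb58 zb11) (kb xb8 yb58 zb12) (kb xb8 yb58 zb17) (kb xb8 yb58 zb15) (kb xb26 yb45 zb41) (kb xb10 yb57 zb42) (kb xb15 yb20 zb5) (kb xb8 yb58 zb20) (kb xb16 yb25 zb45) (kb xb20 yb50 zb49) (kb xb26 yb32 zb56) (kb xb10 yb57 zb52) (kb xb10 yb57 zb54) (kb xb13 yb47 zb14) (kb xb23 yb19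 zb45) (kb xb9 yb1 zb46) (kb xb10 yb59 zb14) (kb xb8 yb58 zb30) (kb xb8 yb58 zb25) (kb xb26 yb45 zb46) (kb xb21 yb36 zb51) (kb xb17 yb32 zb13) (kb xb26 yb45 zb47) (kb xb8 yb58 zb34) (kb xb8 yb58 zb28) (kb xb8 yb58 zb29) (kb xb8 yb58 zb31) (kb xb8 yb58 zb32) (kb xb15 yb42 zb43) (kb xb9 yb51 zb47) (kb xb8 yb58 zb36) (kb xb14 yb45 zb32) (kb xb26 yb45 zb56) (kb xb20 yb50 zb41) (kb xb8 yb58 zb38) (kb xb14 yb9 zb58) (kb xb21 yb23 zb33) (kb xb11 yb18 zb44) (kb xb11 yb1 zb45) (kb xb10 yb59 zb1) (kb xb19 yb52 zb61) (kb xb11 yb12 zb30) (kb xb8 yb58 zb44) (kb xb26 yb46 zb1) (kb xb16 yb13 zb22) (kb xb14 yb21 zb17) (kb xb26 yb46 zb3) (kb xb26 yb46 zb5) (kb xb26 yb46 zb6) (kb xb9 yb1 zb29) (kb xb8 yb58 zb50) (kb xb23 yb59 zb21)) (@D3.rec (fun _ => Pt) (kb xb8 yb58 zb55) (kb xb24 yb26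 zb49) (kb xb25 yb16 zb56) (kb xb20 yb4 zb48) (kb xb20 yb13 zb40) (kb xb11 yb52 zb49) (kb xb26 yb38 zb16) (kb xb25 yb8 zb4) (kb xb16 yb38 zb44) (kb xb26 yb9 zb10) (kb xb26 yb38 zb10) (kb xb21 yb52 zb0) (kb xb11 yb0 zb12) (kb xb26 yb46 zb12) (kb xb11 yb17 zb35) (kb xb12 yb20 zb52) (kb xb10 yb58 zb33) (kb xb26 yb46 zb13) (kb xb12 yb4 zb4) (kb xb10 yb58 zb42) (kb xb17 yb3 zb33) (kb xb8 yb59 zb10) (kb xb26 yb46 zb15) (kb xb26 yb46 zb16) (kb xb10 yb59 zb45) (kb xb20 yb34 zb48) (kb xb8 yb59 zb17) (kb xb20 yb41 zb59) (kb xb10 yb59 zb4) (kb xb8 yb59 zb15) (kb xb26 yb38 zb37) (kb xb26 yb46 zb21) (kb xb24 yb26 zb47) (kb xb8 yb59 zb16) (kb xb20 yb34 zb46) (kb xb11 yb0 zb48) (kb xb11 yb43 zb56) (kb xb11 yb0 zb51) (kb xb8 yb59 zb19) (kb xb25 yb31 zb14) (kb xb20 yb27 zb37) (kb xb21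 yb30 zb9) (kb xb8 yb59 zb23) (kb xb15 yb59 zb11) (kb xb21 yb4 zb8) (kb xb8 yb59 zb25) (kb xb17 yb56 zb29) (kb xb9 yb21 zb9) (kb xb15 yb49 zb24) (kb xb26 yb46 zb34) (kb xb25 yb57 zb30) (kb xb11 yb19 zb54) (kb xb11 yb19 zb51) (kb xb26 yb46 zb37) (kb xb8 yb59 zb31) (kb xb18 yb43 zb43) (kb xb17 yb5 zb37) (kb xb21 yb3 zb29) (kb xb22 yb47 zb18) (kb xb17 yb7 zb39) (kb xb24 yb53 zb20) (kb xb8 yb59 zb37)) (@D3.rec (fun _ => Pt) (kb xb23 yb38 zb5) (kb xb8 yb59 zb39) (kb xb21 yb9 zb26) (kb xb8 yb59 zb41) (kb xb9 yb44 zb31) (kb xb8 yb59 zb43) (kb xb8 yb59 zb45) (kb xb8 yb59 zb47) (kb xb21 yb3 zb45) (kb xb20 yb49 zb53) (kb xb20 yb49 zb32) (kb xb8 yb59 zb52) (kb xb8 yb59 zb53) (kb xb24 yb28 zb41) (kb xb20 yb52 zb54) (kb xb8 yb59 zb56) (kb xb12 yb47 zb49) (kb xb9 yb55 zb60) (kb xb8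 yb59 zb60) (kb xb25 yb5 zb9) (kb xb8 yb59 zb59) (kb xb25 yb50 zb12) (kb xb26 yb46 zb47) (kb xb11 yb5 zb45) (kb xb11 yb20 zb22) (kb xb11 yb5 zb35) (kb xb10 yb51 zb12) (kb xb15 yb18 zb43) (kb xb9 yb0 zb1) (kb xb15 yb18 zb44) (kb xb11 yb5 zb55) (kb xb26 yb46 zb52) (kb xb26 yb46 zb53) (kb xb9 yb6 zb49) (kb xb11 yb5 zb61) (kb xb9 yb0 zb9) (kb xb9 yb0 zb12) (kb xb9 yb0 zb11) (kb xb12 yb38 zb4) (kb xb9 yb0 zb15) (kb xb9 yb0 zb14) (kb xb26 yb46 zb61) (kb xb9 yb0 zb16) (kb xb9 yb0 zb17) (kb xb26 yb47 zb2) (kb xb9 yb0 zb19) (kb xb9 yb0 zb20) (kb xb9 yb29 zb25) (kb xb9 yb0 zb25) (kb xb9 yb0 zb26) (kb xb21 yb37 zb60) (kb xb26 yb1 zb58) (kb xb11 yb2 zb37) (kb xb9 yb0 zb30) (kb xb9 yb0 zb31) (kb xb26 yb8 zb9) (kb xb19 yb28 zb50) (kb xb23 yb33 zb24) (kb xb11 yb3 zb17) (kb xb9 yb0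 zb33) (kb xb9 yb0 zb34) (kb xb18 yb42 zb33)) (@D3.rec (fun _ => Pt) (kb xb26 yb47 zb11) (kb xb15 yb51 zb21) (kb xb9 yb41 zb17) (kb xb9 yb0 zb40) (kb xb25 yb41 zb39) (kb xb11 yb5 zb39) (kb xb11 yb2 zb61) (kb xb9 yb0 zb37) (kb xb9 yb0 zb38) (kb xb26 yb47 zb23) (kb xb26 yb47 zb32) (kb xb25 yb41 zb19) (kb xb26 yb47 zb26) (kb xb26 yb47 zb27) (kb xb26 yb47 zb36) (kb xb11 yb8 zb57) (kb xb19 yb36 zb57) (kb xb23 yb44 zb4) (kb xb11 yb3 zb36) (kb xb9 yb0 zb42) (kb xb9 yb0 zb43) (kb xb23 yb44 zb24) (kb xb26 yb47 zb43) (kb xb26 yb47 zb50) (kb xb24 yb24 zb19) (kb xb11 yb3 zb27) (kb xb9 yb0 zb45) (kb xb9 yb0 zb46) (kb xb23 yb3 zb3) (kb xb26 yb47 zb55) (kb xb26 yb47 zb56) (kb xb9 yb0 zb47) (kb xb23 yb59 zb30) (kb xb9 yb0 zb48) (kb xb26 yb48 zb2) (kb xb13 yb59 zb38) (kb xb19 yb54 zb17)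 (kb xb26 yb48 zb6) (kb xb20 yb3 zb43) (kb xb9 yb0 zb52) (kb xb26 yb48 zb8) (kb xb22 yb31 zb51) (kb xb9 yb0 zb54) (kb xb26 yb48 zb12) (kb xb10 yb32 zb33) (kb xb26 yb48 zb14) (kb xb12 yb3 zb18) (kb xb9 yb35 zb16) (kb xb25 yb9 zb49) (kb xb15 yb19 zb37) (kb xb9 yb0 zb60) (kb xb26 yb1 zb50) (kb xb11 yb9 zb60) (kb xb9 yb1 zb1) (kb xb26 yb48 zb21) (kb xb11 yb3 zb16) (kb xb9 yb1 zb0) (kb xb26 yb48 zb23) (kb xb26 yb48 zb24) (kb xb26 yb48 zb20) (kb xb9 yb1 zb3) (kb xb26 yb48 zb28)) (@D3.rec (fun _ => Pt) (kb xb26 yb48 zb29) (kb xb11 yb10 zb7) (kb xb9 yb5 zb16) (kb xb9 yb1 zb10) (kb xb11 yb10 zb13) (kb xb9 yb1 zb6) (kb xb21 yb22 zb16) (kb xb26 yb48 zb33) (kb xb20 yb0 zb14) (kb xb18 yb40 zb4) (kb xb26 yb48 zb35) (kb xb9 yb1 zb11) (kb xb16 yb42 zb18) (kb xb21 yb30 zb21) (kb xb14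 yb47 zb50) (kb xb12 yb56 zb39) (kb xb25 yb22 zb37) (kb xb15 yb3 zb13) (kb xb9 yb2 zb40) (kb xb9 yb1 zb24) (kb xb9 yb1 zb23) (kb xb26 yb48 zb39) (kb xb26 yb22 zb32) (kb xb9 yb1 zb27) (kb xb9 yb1 zb26) (kb xb26 yb48 zb42) (kb xb26 yb48 zb43) (kb xb9 yb1 zb30) (kb xb12 yb49 zb27) (kb xb9 yb1 zb31) (kb xb9 yb1 zb34) (kb xb26 yb48 zb49) (kb xb9 yb1 zb36) (kb xb25 yb21 zb18) (kb xb9 yb1 zb41) (kb xb26 yb48 zb50) (kb xb18 yb48 zb33) (kb xb20 yb12 zb4) (kb xb11 yb12 zb20) (kb xb9 yb1 zb43) (kb xb12 yb8 zb7) (kb xb16 yb53 zb11) (kb xb9 yb19 zb37) (kb xb9 yb1 zb47) (kb xb24 yb57 zb27) (kb xb9 yb1 zb48) (kb xb26 yb48 zb54) (kb xb18 yb50 zb41) (kb xb26 yb48 zb57) (kb xb9 yb1 zb56) (kb xb18 yb48 zb35) (kb xb11 yb12 zb44) (kb xb19 yb43 zb57) (kb xb9 yb1 zb55) (kb xb11 yb12 zb34)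 (kb xb11 yb19 zb2) (kb xb9 yb1 zb58) (kb xb26 yb49 zb1) (kb xb21 yb51 zb41) (kb xb11 yb13 zb0) (kb xb9 yb1 zb61) (kb xb14 yb17 zb27)) (@D3.rec (fun _ => Pt) (kb xb24 yb28 zb6) (kb xb9 yb2 zb1) (kb xb26 yb49 zb8) (kb xb20 yb31 zb18) (kb xb11 yb16 zb44) (kb xb9 yb2 zb20) (kb xb11 yb13 zb20) (kb xb9 yb2 zb3) (kb xb22 yb47 zb9) (kb xb23 yb27 zb42) (kb xb11 yb13 zb54) (kb xb11 yb40 zb25) (kb xb12 yb31 zb11) (kb xb9 yb2 zb6) (kb xb13 yb39 zb3) (kb xb23 yb46 zb37) (kb xb26 yb49 zb17) (kb xb24 yb12 zb51) (kb xb24 yb12 zb46) (kb xb24 yb22 zb3) (kb xb20 yb25 zb24) (kb xb16 yb57 zb31) (kb xb26 yb49 zb28) (kb xb9 yb5 zb13) (kb xb14 yb42 zb35) (kb xb11 yb18 zb43) (kb xb14 yb50 zb20) (kb xb11 yb14 zb42) (kb xb9 yb2 zb21) (kb xb20 yb59 zb55) (kb xb9 yb13 zb5) (kb xb9 yb2 zb15) (kb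 xb21 yb37 zb18) (kb xb11 yb48 zb35) (kb xb9 yb2 zb17) (kb xb9 yb2 zb18) (kb xb19 yb59 zb15) (kb xb26 yb49 zb35) (kb xb19 yb2 zb32) (kb xb10 yb29 zb12) (kb xb11 yb59 zb29) (kb xb11 yb59 zb30) (kb xb9 yb2 zb29) (kb xb22 yb51 zb0) (kb xb16 yb30 zb3) (kb xb16 yb30 zb4) (kb xb11 yb5 zb46) (kb xb9 yb8 zb57) (kb xb19 yb26 zb55) (kb xb14 yb25 zb11) (kb xb26 yb49 zb42) (kb xb9 yb2 zb32) (kb xb26 yb49 zb44) (kb xb26 yb49 zb45) (kb xb12 yb9 zb22) (kb xb11 yb17 zb24) (kb xb11 yb15 zb26) (kb xb26 yb19 zb1) (kb xb10 yb30 zb23) (kb xb26 yb49 zb46) (kb xb17 yb54 zb37) (kb xb10 yb29 zb33)) (@D3.rec (fun _ => Pt) (kb xb18 yb21 zb53) (kb xb9 yb2 zb37) (kb xb22 yb17 zb23) (kb xb23 yb19 zb4) (kb xb26 yb49 zb53) (kb xb13 yb30 zb55) (kb xb14 yb58 zb40) (kb xb19 yb17 zb56) (kb xb11 yb15 zb53)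 (kb xb9 yb2 zb41) (kb xb26 yb25 zb54) (kb xb16 yb51 zb41) (kb xb9 yb2 zb43) (kb xb12 yb22 zb8) (kb xb20 yb34 zb60) (kb xb22 yb55 zb53) (kb xb26 yb49 zb58) (kb xb12 yb38 zb10) (kb xb20 yb7 zb14) (kb xb9 yb2 zb46) (kb xb16 yb32 zb16) (kb xb9 yb2 zb47) (kb xb20 yb6 zb27) (kb xb20 yb59 zb49) (kb xb23 yb24 zb42) (kb xb19 yb25 zb21) (kb xb19 yb18 zb8) (kb xb9 yb2 zb56) (kb xb9 yb2 zb51) (kb xb20 yb32 zb59) (kb xb11 yb16 zb23) (kb xb26 yb45 zb32) (kb xb26 yb45 zb50) (kb xb9 yb2 zb54) (kb xb9 yb2 zb55) (kb xb11 yb16 zb30) (kb xb9 yb2 zb58) (kb xb26 yb50 zb1) (kb xb10 yb48 zb16) (kb xb19 yb27 zb23) (kb xb11 yb16 zb37) (kb xb11 yb17 zb17) (kb xb26 yb50 zb7) (kb xb10 yb15 zb14) (kb xb9 yb3 zb0) (kb xb26 yb50 zb11) (kb xb26 yb50 zb12) (kb xb11 yb13 zb18) (kb xb16 yb30 zb22) (kb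 xb9 yb3 zb15) (kb xb9 yb3 zb8) (kb xb26 yb50 zb15) (kb xb9 yb3 zb9) (kb xb17 yb25 zb20) (kb xb14 yb43 zb56) (kb xb26 yb50 zb16) (kb xb20 yb15 zb51) (kb xb9 yb3 zb11) (kb xb9 yb3 zb12) (kb xb9 yb3 zb13) (kb xb9 yb22 zb42) (kb xb21 yb9 zb13)) (@D3.rec (fun _ => Pt) (kb xb20 yb11 zb44) (kb xb17 yb19 zb57) (kb xb11 yb17 zb15) (kb xb10 yb9 zb53) (kb xb22 yb51 zb3) (kb xb26 yb50 zb21) (kb xb11 yb0 zb14) (kb xb21 yb9 zb16) (kb xb9 yb3 zb20) (kb xb25 yb52 zb17) (kb xb13 yb53 zb38) (kb xb18 yb46 zb16) (kb xb11 yb17 zb45) (kb xb11 yb17 zb46) (kb xb11 yb17 zb47) (kb xb26 yb50 zb30) (kb xb11 yb16 zb29) (kb xb11 yb37 zb14) (kb xb11 yb17 zb51) (kb xb9 yb3 zb25) (kb xb17 yb18 zb26) (kb xb9 yb3 zb26) (kb xb26 yb50 zb33) (kb xb20 yb15 zb44) (kb xb11 yb17 zb59) (kb xb9 yb3 zb29) (kb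 xb26 yb50 zb38) (kb xb9 yb3 zb31) (kb xb14 yb37 zb32) (kb xb22 yb37 zb16) (kb xb9 yb3 zb32) (kb xb26 yb50 zb40) (kb xb14 yb59 zb59) (kb xb17 yb11 zb31) (kb xb11 yb40 zb51) (kb xb9 yb4 zb1) (kb xb9 yb3 zb34) (kb xb22 yb32 zb34) (kb xb22 yb37 zb44) (kb xb26 yb50 zb45) (kb xb26 yb50 zb46) (kb xb22 yb42 zb33) (kb xb17 yb7 zb56) (kb xb9 yb3 zb36) (kb xb26 yb50 zb52) (kb xb26 yb50 zb51) (kb xb9 yb3 zb38) (kb xb9 yb3 zb40) (kb xb26 yb50 zb53) (kb xb9 yb3 zb41) (kb xb19 yb25 zb28) (kb xb23 yb35 zb22) (kb xb26 yb50 zb57) (kb xb20 yb15 zb47) (kb xb9 yb3 zb43) (kb xb26 yb50 zb61) (kb xb26 yb51 zb0) (kb xb17 yb18 zb19) (kb xb20 yb10 zb4) (kb xb15 yb4 zb16) (kb xb26 yb51 zb6) (kb xb10 yb49 zb46)) (@D3.rec (fun _ => Pt) (kb xb9 yb4 zb38) (kb xb22 yb42 zb48) (kb xb11 yb0 zb60) (kb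 xb9 yb3 zb49) (kb xb20 yb40 zb15) (kb xb17 yb11 zb26) (kb xb22 yb37 zb9) (kb xb11 yb12 zb59) (kb xb9 yb3 zb55) (kb xb9 yb3 zb56) (kb xb21 yb11 zb24) (kb xb26 yb51 zb15) (kb xb17 yb23 zb0) (kb xb9 yb3 zb61) (kb xb26 yb51 zb20) (kb xb9 yb4 zb0) (kb xb26 yb51 zb23) (kb xb19 yb18 zb11) (kb xb26 yb50 zb44) (kb xb19 yb44 zb8) (kb xb19 yb50 zb51) (kb xb9 yb4 zb5) (kb xb26 yb51 zb34) (kb xb26 yb51 zb36) (kb xb9 yb4 zb8) (kb xb9 yb4 zb9) (kb xb15 yb51 zb10) (kb xb20 yb27 zb51) (kb xb15 yb55 zb47) (kb xb9 yb45 zb50) (kb xb13 yb50 zb36) (kb xb26 yb51 zb45) (kb xb26 yb51 zb51) (kb xb26 yb51 zb41) (kb xb11 yb1 zb16) (kb xb26 yb51 zb54) (kb xb26 yb51 zb57) (kb xb11 yb1 zb15) (kb xb9 yb5 zb7) (kb xb26 yb52 zb0) (kb xb9 yb4 zb13) (kb xb26 yb52 zb2) (kb xb9 yb4 zb12) (kb xb26 yb52 zb5)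 (kb xb26 yb52 zb6) (kb xb11 yb20 zb2) (kb xb10 yb11 zb27) (kb xb22 yb42 zb32) (kb xb18 yb12 zb50) (kb xb9 yb4 zb20) (kb xb26 yb52 zb13) (kb xb25 yb40 zb39) (kb xb15 yb4 zb28) (kb xb21 yb47 zb12) (kb xb10 yb48 zb10) (kb xb19 yb25 zb55) (kb xb20 yb54 zb8) (kb xb26 yb52 zb22) (kb xb26 yb52 zb23) (kb xb26 yb52 zb24) (kb xb20 yb54 zb7) (kb xb9 yb4 zb25)) (@D3.rec (fun _ => Pt) (kb xb26 yb52 zb30) (kb xb26 yb51 zb19) (kb xb11 yb18 zb27) (kb xb11 yb23 zb52) (kb xb11 yb20 zb47) (kb xb9 yb4 zb27) (kb xb22 yb36 zb54) (kb xb9 yb4 zb28) (kb xb26 yb52 zb35) (kb xb26 yb52 zb37) (kb xb26 yb44 zb7) (kb xb17 yb11 zb29) (kb xb19 yb17 zb49) (kb xb11 yb1 zb8) (kb xb22 yb10 zb1) (kb xb14 yb42 zb28) (kb xb23 yb24 zb25) (kb xb10 yb57 zb46) (kb xb9 yb4 zb35) (kb xb9 yb4 zb36) (kb xb26 yb49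 zb30) (kb xb17 yb58 zb24) (kb xb20 yb34 zb61) (kb xb9 yb4 zb42) (kb xb21 yb44 zb35) (kb xb26 yb52 zb51) (kb xb9 yb4 zb44) (kb xb9 yb4 zb46) (kb xb17 yb31 zb61) (kb xb11 yb1 zb43) (kb xb9 yb4 zb49) (kb xb26 yb23 zb20) (kb xb20 yb40 zb48) (kb xb9 yb4 zb48) (kb xb25 yb39 zb30) (kb xb20 yb10 zb22) (kb xb17 yb18 zb27) (kb xb20 yb28 zb25) (kb xb11 yb21 zb43) (kb xb11 yb21 zb44) (kb xb9 yb4 zb52) (kb xb22 yb32 zb58) (kb xb23 yb24 zb44) (kb xb9 yb4 zb53) (kb xb19 yb25 zb30) (kb xb20 yb26 zb12) (kb xb26 yb52 zb61) (kb xb20 yb50 zb53) (kb xb11 yb21 zb53) (kb xb9 yb46 zb37) (kb xb9 yb4 zb57) (kb xb9 yb4 zb58) (kb xb11 yb21 zb29) (kb xb9 yb4 zb59) (kb xb26 yb53 zb3) (kb xb26 yb53 zb4) (kb xb11 yb22 zb3) (kb xb17 yb25 zb7) (kb xb9 yb5 zb0) (kb xb26 yb53 zb9) (kb xb12 yb28 zb15)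 (kb xb12 yb29 zb61)) (@D3.rec (fun _ => Pt) (kb xb11 yb22 zb14) (kb xb9 yb5 zb4) (kb xb23 yb47 zb47) (kb xb23 yb4 zb8) (kb xb11 yb22 zb24) (kb xb9 yb5 zb9) (kb xb11 yb27 zb6) (kb xb9 yb9 zb9) (kb xb16 yb30 zb21) (kb xb11 yb14 zb12) (kb xb9 yb5 zb14) (kb xb21 yb31 zb58) (kb xb11 yb22 zb36) (kb xb17 yb53 zb43) (kb xb9 yb5 zb17) (kb xb26 yb53 zb15) (kb xb11 yb5 zb57) (kb xb17 yb53 zb47) (kb xb9 yb5 zb19) (kb xb9 yb5 zb20) (kb xb11 yb19 zb48) (kb xb24 yb33 zb52) (kb xb9 yb5 zb22) (kb xb20 yb14 zb37) (kb xb19 yb51 zb27) (kb xb9 yb5 zb24) (kb xb26 yb53 zb17) (kb xb26 yb53 zb18) (kb xb9 yb5 zb35) (kb xb9 yb5 zb36) (kb xb9 yb5 zb37) (kb xb16 yb52 zb21) (kb xb11 yb27 zb44) (kb xb18 yb50 zb9) (kb xb9 yb17 zb51) (kb xb14 yb59 zb44) (kb xb11 yb38 zb25) (kb xb11 yb33 zb50) (kb xb11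 yb58 zb32) (kb xb9 yb5 zb50) (kb xb26 yb53 zb19) (kb xb26 yb53 zb20) (kb xb9 yb5 zb56) (kb xb18 yb23 zb14) (kb xb9 yb30 zb4) (kb xb26 yb53 zb23) (kb xb9 yb28 zb43) (kb xb9 yb5 zb61) (kb xb9 yb6 zb0) (kb xb24 yb20 zb36) (kb xb20 yb38 zb42) (kb xb9 yb6 zb2) (kb xb9 yb6 zb4) (kb xb9 yb6 zb6) (kb xb9 yb6 zb9) (kb xb18 yb43 zb30) (kb xb9 yb46 zb23) (kb xb26 yb53 zb25) (kb xb25 yb21 zb17) (kb xb9 yb6 zb16) (kb xb11 yb41 zb27) (kb xb14 yb12 zb54)) (@D3.rec (fun _ => Pt) (kb xb26 yb53 zb28) (kb xb9 yb22 zb14) (kb xb20 yb38 zb8) (kb xb23 yb58 zb38) (kb xb26 yb53 zb34) (kb xb9 yb14 zb46) (kb xb26 yb53 zb37) (kb xb26 yb53 zb38) (kb xb9 yb6 zb21) (kb xb26 yb53 zb41) (kb xb9 yb10 zb18) (kb xb9 yb10 zb19) (kb xb9 yb6 zb23) (kb xb26 yb53 zb43) (kb xb24 yb2 zb50) (kb xb11 yb42 zb32)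 (kb xb11 yb42 zb33) (kb xb26 yb53 zb48) (kb xb11 yb42 zb37) (kb xb26 yb53 zb52) (kb xb9 yb16 zb19) (kb xb9 yb6 zb30) (kb xb14 yb29 zb56) (kb xb14 yb29 zb57) (kb xb26 yb40 zb7) (kb xb9 yb6 zb33) (kb xb9 yb6 zb34) (kb xb9 yb6 zb32) (kb xb26 yb54 zb4) (kb xb26 yb54 zb5) (kb xb24 yb49 zb48) (kb xb26 yb54 zb3) (kb xb9 yb6 zb35) (kb xb25 yb20 zb28) (kb xb19 yb33 zb59) (kb xb9 yb6 zb36) (kb xb26 yb54 zb13) (kb xb19 yb58 zb23) (kb xb23 yb58 zb26) (kb xb21 yb2 zb9) (kb xb15 yb28 zb12) (kb xb9 yb6 zb53) (kb xb9 yb6 zb56) (kb xb9 yb6 zb41) (kb xb9 yb6 zb40) (kb xb26 yb54 zb24) (kb xb26 yb54 zb25) (kb xb9 yb6 zb44) (kb xb9 yb6 zb43) (kb xb26 yb54 zb29) (kb xb26 yb54 zb30) (kb xb9 yb6 zb46) (kb xb26 yb54 zb32) (kb xb9 yb6 zb47) (kb xb26 yb54 zb34) (kb xb26 yb54 zb35) (kb xb9 yb6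 zb48) (kb xb26 yb54 zb39) (kb xb26 yb54 zb40) (kb xb26 yb54 zb42) (kb xb26 yb46 zb59) (kb xb11 yb6 zb1)) (@D3.rec (fun _ => Pt) (kb xb11 yb6 zb2) (kb xb21 yb57 zb59) (kb xb26 yb54 zb50) (kb xb11 yb31 zb60) (kb xb11 yb54 zb42) (kb xb14 yb30 zb29) (kb xb26 yb26 zb49) (kb xb10 yb44 zb41) (kb xb14 yb18 zb39) (kb xb10 yb44 zb6) (kb xb12 yb49 zb37) (kb xb16 yb43 zb22) (kb xb23 yb35 zb59) (kb xb11 yb33 zb14) (kb xb24 yb10 zb21) (kb xb11 yb33 zb16) (kb xb26 yb54 zb59) (kb xb22 yb55 zb18) (kb xb26 yb54 zb61) (kb xb26 yb55 zb0) (kb xb19 yb57 zb3) (kb xb15 yb17 zb2) (kb xb11 yb20 zb28) (kb xb17 yb59 zb52) (kb xb17 yb15 zb30) (kb xb20 yb2 zb2) (kb xb12 yb14 zb46) (kb xb11 yb57 zb35) (kb xb12 yb1 zb57) (kb xb9 yb8 zb14) (kb xb18 yb58 zb5) (kb xb21 yb30 zb11) (kb xb9 yb7 zb22) (kb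 xb20 yb22 zb22) (kb xb21 yb53 zb28) (kb xb11 yb33 zb53) (kb xb21 yb47 zb18) (kb xb21 yb47 zb19) (kb xb9 yb7 zb25) (kb xb26 yb55 zb8) (kb xb11 yb45 zb16) (kb xb21 yb45 zb28) (kb xb13 yb20 zb47) (kb xb20 yb4 zb31) (kb xb12 yb1 zb10) (kb xb17 yb58 zb0) (kb xb9 yb7 zb55) (kb xb23 yb40 zb12) (kb xb10 yb16 zb24) (kb xb11 yb35 zb17) (kb xb10 yb17 zb23) (kb xb11 yb35 zb27) (kb xb20 yb22 zb0) (kb xb11 yb56 zb39) (kb xb11 yb56 zb40) (kb xb11 yb35 zb35) (kb xb9 yb15 zb19) (kb xb18 yb58 zb4) (kb xb11 yb40 zb61) (kb xb9 yb7 zb46) (kb xb12 yb37 zb60) (kb xb25 yb16 zb48))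
def f_b_17 : D2 → D3 → Pt := @D2.rec (fun _ => D3 → Pt) (@D3.rec (fun _ => Pt) (kb xb9 yb7 zb47) (kb xb9 yb49 zb33) (kb xb9 yb49 zb36) (kb xb11 yb24 zb24) (kb xb12 yb44 zb53) (kb xb9 yb7 zb49) (kb xb26 yb55 zb18) (kb xb19 yb58 zb60) (kb xb10 yb23 zb10) (kb xb10 yb23 zb11) (kb xb10 yb18 zb48) (kb xb12 yb12 zb34) (kb xb9 yb21 zb40) (kb xb9 yb21 zb41) (kb xb9 yb7 zb56) (kb xb21 yb35 zb46) (kb xb24 yb33 zb13) (kb xb12 yb1 zb28) (kb xb11 yb24 zb40) (kb xb13 yb5 zb27) (kb xb24 yb47 zb26) (kb xb11 yb11 zb52) (kb xb9 yb8 zb0) (kb xb17 yb5 zb24) (kb xb14 yb33 zb4) (kb xb17 yb59 zb50) (kb xb11 yb13 zb17) (kb xb13 yb33 zb53) (kb xb16 yb32 zb52) (kb xb21 yb15 zb10) (kb xb22 yb47 zb49) (kb xb12 yb25 zb42) (kb xb18 yb16 zb52) (kb xb9 yb10 zb12) (kb xb9 yb8 zb9) (kb xb13 yb16 zb46)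 (kb xb9 yb8 zb10) (kb xb20 yb10 zb7) (kb xb21 yb30 zb44) (kb xb16 yb29 zb50) (kb xb13 yb31 zb26) (kb xb16 yb28 zb19) (kb xb12 yb5 zb6) (kb xb26 yb55 zb43) (kb xb13 yb28 zb12) (kb xb25 yb18 zb6) (kb xb11 yb37 zb3) (kb xb14 yb22 zb7) (kb xb9 yb10 zb33) (kb xb26 yb55 zb50) (kb xb23 yb45 zb32) (kb xb25 yb50 zb48) (kb xb9 yb8 zb21) (kb xb24 yb26 zb20) (kb xb26 yb55 zb56) (kb xb9 yb12 zb39) (kb xb22 yb32 zb22) (kb xb20 yb1 zb33) (kb xb17 yb18 zb20) (kb xb24 yb47 zb2) (kb xb24 yb47 zb3) (kb xb9 yb8 zb28)) (@D3.rec (fun _ => Pt) (kb xb20 yb15 zb42) (kb xb26 yb56 zb6) (kb xb9 yb8 zb29) (kb xb13 yb36 zb7) (kb xb26 yb56 zb10) (kb xb26 yb56 zb11) (kb xb26 yb56 zb13) (kb xb16 yb34 zb4) (kb xb18 yb52 zb12) (kb xb11 yb59 zb37) (kb xb26 yb56 zb18) (kb xb26 yb31 zb48) (kb xb12 yb5 zb19)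 (kb xb9 yb8 zb34) (kb xb26 yb56 zb24) (kb xb26 yb56 zb23) (kb xb26 yb56 zb27) (kb xb23 yb57 zb5) (kb xb26 yb56 zb30) (kb xb9 yb8 zb36) (kb xb26 yb56 zb32) (kb xb18 yb52 zb13) (kb xb11 yb59 zb40) (kb xb9 yb8 zb39) (kb xb21 yb7 zb42) (kb xb9 yb9 zb13) (kb xb10 yb33 zb33) (kb xb9 yb8 zb46) (kb xb17 yb58 zb35) (kb xb17 yb58 zb36) (kb xb9 yb9 zb5) (kb xb11 yb41 zb39) (kb xb9 yb8 zb48) (kb xb9 yb8 zb49) (kb xb21 yb36 zb52) (kb xb9 yb8 zb50) (kb xb14 yb41 zb31) (kb xb12 yb46 zb54) (kb xb11 yb33 zb7) (kb xb17 yb57 zb17) (kb xb23 yb57 zb1) (kb xb11 yb37 zb24) (kb xb26 yb56 zb44) (kb xb9 yb12 zb41) (kb xb9 yb8 zb54) (kb xb26 yb56 zb50) (kb xb26 yb56 zb52) (kb xb26 yb23 zb25) (kb xb9 yb8 zb56) (kb xb26 yb56 zb55) (kb xb26 yb56 zb56) (kb xb9 yb8 zb60) (kb xb9 yb8 zb59) (kb xb26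 yb56 zb60) (kb xb26 yb56 zb61) (kb xb11 yb42 zb0) (kb xb9 yb8 zb61) (kb xb26 yb57 zb5) (kb xb9 yb9 zb0) (kb xb26 yb57 zb9) (kb xb26 yb57 zb10) (kb xb9 yb9 zb1)) (@D3.rec (fun _ => Pt) (kb xb26 yb57 zb16) (kb xb26 yb57 zb17) (kb xb26 yb57 zb19) (kb xb26 yb57 zb20) (kb xb14 yb39 zb0) (kb xb10 yb36 zb61) (kb xb10 yb37 zb0) (kb xb26 yb57 zb25) (kb xb11 yb50 zb40) (kb xb26 yb55 zb37) (kb xb12 yb35 zb56) (kb xb9 yb21 zb36) (kb xb9 yb21 zb37) (kb xb19 yb27 zb36) (kb xb9 yb21 zb31) (kb xb11 yb40 zb0) (kb xb22 yb39 zb15) (kb xb11 yb4 zb9) (kb xb9 yb9 zb16) (kb xb9 yb9 zb18) (kb xb26 yb57 zb31) (kb xb12 yb1 zb36) (kb xb12 yb14 zb60) (kb xb9 yb12 zb28) (kb xb21 yb37 zb45) (kb xb23 yb46 zb25) (kb xb26 yb27 zb9) (kb xb21 yb37 zb37) (kb xb12 yb5 zb52) (kb xb26 yb21 zb48) (kb xb11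 yb33 zb5) (kb xb11 yb33 zb6) (kb xb22 yb56 zb43) (kb xb9 yb9 zb35) (kb xb15 yb6 zb29) (kb xb12 yb5 zb50) (kb xb20 yb18 zb15) (kb xb9 yb9 zb48) (kb xb9 yb9 zb49) (kb xb9 yb9 zb50) (kb xb26 yb57 zb40) (kb xb23 yb34 zb33) (kb xb16 yb23 zb44) (kb xb14 yb44 zb54) (kb xb17 yb15 zb36) (kb xb9 yb9 zb45) (kb xb12 yb46 zb32) (kb xb13 yb58 zb61) (kb xb16 yb24 zb26) (kb xb11 yb17 zb61) (kb xb23 yb18 zb16) (kb xb20 yb18 zb21) (kb xb26 yb23 zb16) (kb xb24 yb31 zb15) (kb xb23 yb16 zb54) (kb xb16 yb11 zb56) (kb xb9 yb9 zb53) (kb xb26 yb57 zb47) (kb xb26 yb57 zb46) (kb xb9 yb9 zb54) (kb xb26 yb57 zb49) (kb xb23 yb19 zb51)) (@D3.rec (fun _ => Pt) (kb xb9 yb9 zb58) (kb xb26 yb55 zb17) (kb xb18 yb17 zb2) (kb xb20 yb34 zb39) (kb xb26 yb57 zb51) (kb xb9 yb15 zb10) (kb xb9 yb15 zb16) (kb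 xb17 yb21 zb5) (kb xb12 yb35 zb10) (kb xb12 yb1 zb29) (kb xb9 yb10 zb8) (kb xb12 yb36 zb11) (kb xb12 yb35 zb27) (kb xb12 yb36 zb14) (kb xb9 yb19 zb60) (kb xb9 yb19 zb55) (kb xb12 yb36 zb18) (kb xb23 yb47 zb4) (kb xb12 yb1 zb40) (kb xb23 yb27 zb26) (kb xb9 yb23 zb33) (kb xb9 yb23 zb34) (kb xb21 yb2 zb46) (kb xb17 yb17 zb6) (kb xb9 yb15 zb20) (kb xb21 yb15 zb46) (kb xb11 yb41 zb32) (kb xb24 yb7 zb21) (kb xb24 yb7 zb22) (kb xb21 yb44 zb17) (kb xb17 yb26 zb58) (kb xb24 yb37 zb49) (kb xb26 yb47 zb19) (kb xb16 yb48 zb20) (kb xb11 yb36 zb61) (kb xb11 yb18 zb26) (kb xb22 yb46 zb29) (kb xb9 yb10 zb30) (kb xb26 yb58 zb5) (kb xb26 yb58 zb6) (kb xb26 yb23 zb23) (kb xb26 yb58 zb8) (kb xb15 yb52 zb15) (kb xb18 yb2 zb38) (kb xb22 yb57 zb8) (kb xb26 yb55 zb49) (kb xb21 yb40 zb15) (kb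 xb26 yb23 zb26) (kb xb22 yb57 zb11) (kb xb9 yb10 zb36) (kb xb9 yb10 zb39) (kb xb15 yb47 zb45) (kb xb9 yb10 zb40) (kb xb11 yb38 zb47) (kb xb21 yb54 zb59) (kb xb21 yb47 zb36) (kb xb9 yb10 zb41) (kb xb26 yb58 zb20) (kb xb26 yb58 zb21) (kb xb21 yb32 zb1) (kb xb9 yb10 zb44) (kb xb25 yb56 zb19)) (@D3.rec (fun _ => Pt) (kb xb26 yb58 zb24) (kb xb14 yb49 zb10) (kb xb26 yb58 zb27) (kb xb24 yb1 zb28) (kb xb14 yb39 zb14) (kb xb9 yb14 zb9) (kb xb14 yb49 zb16) (kb xb9 yb10 zb53) (kb xb11 yb39 zb36) (kb xb26 yb58 zb31) (kb xb9 yb10 zb54) (kb xb23 yb28 zb20) (kb xb14 yb48 zb1) (kb xb11 yb43 zb14) (kb xb21 yb42 zb33) (kb xb21 yb57 zb33) (kb xb9 yb10 zb61) (kb xb9 yb11 zb0) (kb xb20 yb51 zb51) (kb xb14 yb35 zb55) (kb xb14 yb35 zb56) (kb xb9 yb10 zb59) (kb xb15 yb24 zb56) (kb xb26 yb58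 zb41) (kb xb9 yb50 zb26) (kb xb17 yb59 zb9) (kb xb17 yb48 zb24) (kb xb17 yb51 zb18) (kb xb26 yb58 zb38) (kb xb9 yb11 zb3) (kb xb12 yb40 zb57) (kb xb23 yb46 zb49) (kb xb17 yb10 zb4) (kb xb11 yb41 zb23) (kb xb10 yb17 zb17) (kb xb9 yb11 zb7) (kb xb11 yb31 zb37) (kb xb12 yb15 zb24) (kb xb20 yb11 zb32) (kb xb9 yb13 zb44) (kb xb9 yb11 zb11) (kb xb11 yb0 zb50) (kb xb20 yb41 zb60) (kb xb17 yb19 zb55) (kb xb9 yb11 zb27) (kb xb9 yb11 zb15) (kb xb21 yb35 zb34) (kb xb12 yb40 zb56) (kb xb9 yb11 zb17) (kb xb21 yb55 zb10) (kb xb9 yb49 zb49) (kb xb12 yb41 zb10) (kb xb12 yb41 zb13) (kb xb20 yb49 zb57) (kb xb17 yb8 zb43) (kb xb19 yb10 zb59) (kb xb21 yb33 zb37) (kb xb9 yb29 zb40) (kb xb20 yb34 zb35) (kb xb22 yb37 zb0) (kb xb20 yb22 zb24) (kb xb9 yb11 zb26)) (@D3.rec (fun _ => Pt) (kb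 xb26 yb59 zb0) (kb xb21 yb51 zb36) (kb xb12 yb39 zb47) (kb xb9 yb11 zb32) (kb xb9 yb11 zb33) (kb xb10 yb14 zb8) (kb xb12 yb27 zb27) (kb xb11 yb25 zb46) (kb xb9 yb11 zb30) (kb xb12 yb47 zb33) (kb xb9 yb11 zb31) (kb xb12 yb16 zb47) (kb xb9 yb28 zb56) (kb xb12 yb9 zb46) (kb xb15 yb30 zb42) (kb xb9 yb11 zb36) (kb xb26 yb2 zb39) (kb xb21 yb45 zb35) (kb xb11 yb45 zb10) (kb xb15 yb26 zb9) (kb xb9 yb59 zb9) (kb xb9 yb11 zb40) (kb xb9 yb11 zb44) (kb xb11 yb27 zb32) (kb xb17 yb0 zb23) (kb xb19 yb15 zb3) (kb xb12 yb37 zb21) (kb xb18 yb1 zb35) (kb xb21 yb20 zb6) (kb xb26 yb59 zb11) (kb xb12 yb37 zb25) (kb xb25 yb15 zb31) (kb xb17 yb59 zb24) (kb xb9 yb11 zb47) (kb xb26 yb59 zb14) (kb xb12 yb37 zb14) (kb xb9 yb48 zb53) (kb xb16 yb48 zb56) (kb xb12 yb42 zb22) (kb xb9 yb11 zb53) (kb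 xb9 yb11 zb54) (kb xb11 yb38 zb21) (kb xb11 yb38 zb22) (kb xb12 yb12 zb25) (kb xb9 yb11 zb56) (kb xb14 yb35 zb47) (kb xb12 yb1 zb59) (kb xb17 yb23 zb38) (kb xb12 yb40 zb46) (kb xb12 yb50 zb7) (kb xb14 yb20 zb14) (kb xb11 yb1 zb31) (kb xb9 yb11 zb58) (kb xb18 yb17 zb18) (kb xb14 yb35 zb54) (kb xb18 yb38 zb0) (kb xb17 yb45 zb5) (kb xb24 yb26 zb40) (kb xb12 yb45 zb52) (kb xb9 yb12 zb2) (kb xb13 yb10 zb60) (kb xb13 yb50 zb30)) (@D3.rec (fun _ => Pt) (kb xb17 yb7 zb51) (kb xb26 yb59 zb30) (kb xb12 yb46 zb51) (kb xb26 yb59 zb34) (kb xb26 yb59 zb28) (kb xb12 yb12 zb29) (kb xb18 yb0 zb9) (kb xb12 yb42 zb17) (kb xb9 yb49 zb2) (kb xb15 yb24 zb31) (kb xb9 yb12 zb8) (kb xb18 yb17 zb7) (kb xb17 yb48 zb23) (kb xb24 yb26 zb39) (kb xb12 yb46 zb48) (kb xb12 yb23 zb37) (kb xb10 yb17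 zb20) (kb xb9 yb14 zb3) (kb xb11 yb47 zb14) (kb xb9 yb13 zb24) (kb xb23 yb38 zb1) (kb xb9 yb12 zb27) (kb xb9 yb12 zb17) (kb xb26 yb59 zb41) (kb xb9 yb12 zb19) (kb xb26 yb59 zb42) (kb xb14 yb45 zb51) (kb xb11 yb39 zb9) (kb xb18 yb50 zb53) (kb xb18 yb0 zb11) (kb xb10 yb27 zb45) (kb xb20 yb44 zb8) (kb xb11 yb46 zb59) (kb xb26 yb59 zb48) (kb xb17 yb15 zb3) (kb xb10 yb21 zb61) (kb xb9 yb12 zb23) (kb xb26 yb59 zb53) (kb xb24 yb2 zb17) (kb xb9 yb13 zb61) (kb xb15 yb5 zb21) (kb xb11 yb33 zb22) (kb xb9 yb13 zb52) (kb xb9 yb12 zb36) (kb xb9 yb12 zb32) (kb xb26 yb59 zb57) (kb xb26 yb59 zb56) (kb xb9 yb48 zb56) (kb xb9 yb12 zb34) (kb xb26 yb59 zb58) (kb xb26 yb59 zb59) (kb xb25 yb59 zb51) (kb xb25 yb59 zb48) (kb xb9 yb12 zb38) (kb xb27 yb0 zb3) (kb xb27 yb0 zb4) (kb xb11 yb47 zb30)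 (kb xb26 yb55 zb46) (kb xb20 yb57 zb38) (kb xb26 yb8 zb21) (kb xb9 yb12 zb40) (kb xb27 yb0 zb13)) (@D3.rec (fun _ => Pt) (kb xb27 yb0 zb14) (kb xb11 yb47 zb42) (kb xb9 yb14 zb24) (kb xb19 yb44 zb9) (kb xb19 yb13 zb59) (kb xb9 yb12 zb43) (kb xb27 yb0 zb24) (kb xb27 yb0 zb25) (kb xb9 yb12 zb44) (kb xb27 yb0 zb30) (kb xb19 yb14 zb1) (kb xb26 yb57 zb30) (kb xb9 yb12 zb46) (kb xb27 yb0 zb37) (kb xb27 yb0 zb38) (kb xb27 yb0 zb40) (kb xb27 yb0 zb36) (kb xb12 yb41 zb9) (kb xb11 yb50 zb3) (kb xb9 yb13 zb46) (kb xb9 yb12 zb54) (kb xb9 yb12 zb56) (kb xb18 yb23 zb24) (kb xb9 yb20 zb0) (kb xb9 yb12 zb58) (kb xb9 yb49 zb57) (kb xb14 yb37 zb58) (kb xb14 yb37 zb59) (kb xb27 yb0 zb45) (kb xb23 yb3 zb50) (kb xb27 yb0 zb47) (kb xb9 yb13 zb3) (kb xb9 yb13 zb1) (kb xb11 yb14 zb43) (kb xb19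 yb53 zb11) (kb xb20 yb14 zb52) (kb xb12 yb4 zb8) (kb xb21 yb7 zb21) (kb xb16 yb7 zb14) (kb xb16 yb48 zb59) (kb xb19 yb50 zb25) (kb xb16 yb22 zb15) (kb xb9 yb13 zb8) (kb xb9 yb13 zb15) (kb xb9 yb13 zb16) (kb xb9 yb15 zb43) (kb xb14 yb11 zb26) (kb xb11 yb57 zb44) (kb xb9 yb13 zb23) (kb xb9 yb13 zb27) (kb xb9 yb13 zb28) (kb xb17 yb6 zb0) (kb xb14 yb33 zb13) (kb xb11 yb49 zb17) (kb xb9 yb13 zb35) (kb xb11 yb44 zb41) (kb xb16 yb54 zb42) (kb xb13 yb1 zb6) (kb xb19 yb17 zb27) (kb xb11 yb40 zb41) (kb xb18 yb43 zb2) (kb xb9 yb31 zb36)) (@D3.rec (fun _ => Pt) (kb xb15 yb26 zb8) (kb xb17 yb30 zb19) (kb xb20 yb2 zb4) (kb xb19 yb53 zb4) (kb xb11 yb48 zb53) (kb xb20 yb31 zb16) (kb xb9 yb13 zb49) (kb xb11 yb17 zb10) (kb xb14 yb46 zb37) (kb xb21 yb35 zb42) (kb xb20 yb1 zb7) (kb xb20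 yb20 zb39) (kb xb22 yb21 zb49) (kb xb14 yb37 zb5) (kb xb11 yb10 zb40) (kb xb27 yb0 zb60) (kb xb23 yb26 zb34) (kb xb16 yb24 zb50) (kb xb20 yb25 zb33) (kb xb20 yb42 zb30) (kb xb19 yb59 zb16) (kb xb9 yb13 zb60) (kb xb23 yb4 zb5) (kb xb9 yb14 zb2) (kb xb12 yb9 zb25) (kb xb12 yb22 zb27) (kb xb20 yb24 zb51) (kb xb10 yb55 zb5) (kb xb11 yb50 zb28) (kb xb9 yb14 zb7) (kb xb16 yb28 zb60) (kb xb12 yb5 zb10) (kb xb14 yb52 zb44) (kb xb11 yb41 zb57) (kb xb9 yb14 zb18) (kb xb9 yb14 zb15) (kb xb11 yb39 zb10) (kb xb23 yb46 zb50) (kb xb24 yb31 zb56) (kb xb14 yb48 zb8) (kb xb21 yb3 zb5) (kb xb9 yb14 zb22) (kb xb27 yb1 zb4) (kb xb17 yb4 zb54) (kb xb12 yb31 zb14) (kb xb19 yb50 zb27) (kb xb9 yb14 zb32) (kb xb9 yb14 zb29) (kb xb21 yb40 zb45) (kb xb21 yb50 zb27) (kb xb9 yb14 zb31) (kb xb14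 yb46 zb1) (kb xb11 yb51 zb21) (kb xb9 yb14 zb34) (kb xb27 yb1 zb6) (kb xb17 yb51 zb2) (kb xb13 yb46 zb6) (kb xb11 yb51 zb28) (kb xb9 yb51 zb11) (kb xb9 yb14 zb36) (kb xb27 yb1 zb10) (kb xb21 yb48 zb30)) (@D3.rec (fun _ => Pt) (kb xb9 yb14 zb38) (kb xb13 yb9 zb26) (kb xb9 yb41 zb36) (kb xb9 yb14 zb43) (kb xb9 yb14 zb44) (kb xb11 yb20 zb27) (kb xb21 yb13 zb11) (kb xb21 yb13 zb12) (kb xb9 yb14 zb49) (kb xb9 yb46 zb50) (kb xb27 yb1 zb15) (kb xb11 yb1 zb58) (kb xb19 yb33 zb19) (kb xb21 yb30 zb14) (kb xb21 yb30 zb15) (kb xb20 yb45 zb16) (kb xb9 yb14 zb53) (kb xb9 yb14 zb54) (kb xb24 yb59 zb14) (kb xb27 yb1 zb19) (kb xb27 yb1 zb21) (kb xb27 yb1 zb22) (kb xb23 yb52 zb32) (kb xb18 yb40 zb37) (kb xb18 yb36 zb44) (kb xb12 yb37 zb44) (kb xb12 yb42 zb20) (kb xb12 yb38 zb11) (kb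 xb18 yb23 zb17) (kb xb27 yb1 zb26) (kb xb10 yb1 zb16) (kb xb9 yb15 zb4) (kb xb26 yb50 zb29) (kb xb17 yb51 zb27) (kb xb11 yb58 zb0) (kb xb10 yb2 zb47) (kb xb12 yb3 zb2) (kb xb21 yb45 zb3) (kb xb10 yb23 zb19) (kb xb9 yb15 zb9) (kb xb12 yb38 zb25) (kb xb13 yb54 zb3) (kb xb23 yb47 zb17) (kb xb17 yb59 zb15) (kb xb9 yb15 zb34) (kb xb9 yb15 zb11) (kb xb12 yb2 zb43) (kb xb22 yb3 zb12) (kb xb22 yb22 zb28) (kb xb11 yb41 zb5) (kb xb9 yb15 zb18) (kb xb26 yb57 zb61) (kb xb9 yb15 zb21) (kb xb24 yb53 zb10) (kb xb9 yb15 zb22) (kb xb17 yb58 zb48) (kb xb18 yb17 zb12) (kb xb11 yb24 zb28) (kb xb9 yb15 zb28) (kb xb21 yb40 zb38) (kb xb27 yb1 zb32) (kb xb26 yb57 zb50)) (@D3.rec (fun _ => Pt) (kb xb9 yb15 zb33) (kb xb10 yb23 zb18) (kb xb12 yb42 zb37) (kb xb19 yb26 zb52) (kb xb17 yb4 zb32)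 (kb xb23 yb47 zb37) (kb xb12 yb39 zb24) (kb xb11 yb10 zb24) (kb xb11 yb44 zb61) (kb xb9 yb15 zb44) (kb xb12 yb15 zb38) (kb xb15 yb46 zb17) (kb xb9 yb15 zb48) (kb xb27 yb1 zb35) (kb xb27 yb1 zb36) (kb xb27 yb1 zb38) (kb xb25 yb54 zb12) (kb xb21 yb16 zb23) (kb xb9 yb15 zb50) (kb xb16 yb3 zb58) (kb xb25 yb6 zb29) (kb xb17 yb18 zb10) (kb xb24 yb35 zb58) (kb xb9 yb15 zb54) (kb xb26 yb16 zb50) (kb xb21 yb27 zb26) (kb xb17 yb27 zb44) (kb xb9 yb15 zb58) (kb xb27 yb1 zb54) (kb xb27 yb1 zb53) (kb xb14 yb30 zb60) (kb xb9 yb16 zb33) (kb xb9 yb16 zb2) (kb xb9 yb16 zb5) (kb xb9 yb16 zb6) (kb xb24 yb47 zb4) (kb xb27 yb1 zb58) (kb xb26 yb50 zb42) (kb xb9 yb16 zb3) (kb xb22 yb35 zb41) (kb xb27 yb2 zb1) (kb xb9 yb16 zb4) (kb xb27 yb2 zb5) (kb xb27 yb1 zb60) (kb xb22 yb16 zb21) (kb xb21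 yb36 zb32) (kb xb15 yb26 zb43) (kb xb12 yb10 zb15) (kb xb9 yb29 zb59) (kb xb9 yb16 zb18) (kb xb26 yb53 zb55) (kb xb26 yb50 zb18) (kb xb24 yb6 zb10) (kb xb14 yb13 zb6) (kb xb27 yb2 zb15) (kb xb9 yb16 zb20) (kb xb27 yb2 zb16) (kb xb18 yb26 zb21) (kb xb22 yb32 zb8) (kb xb21 yb16 zb9) (kb xb11 yb33 zb56) (kb xb12 yb49 zb12)) (@D3.rec (fun _ => Pt) (kb xb9 yb16 zb25) (kb xb22 yb36 zb56) (kb xb27 yb2 zb20) (kb xb11 yb30 zb29) (kb xb17 yb18 zb13) (kb xb9 yb16 zb30) (kb xb26 yb4 zb13) (kb xb22 yb37 zb37) (kb xb22 yb37 zb42) (kb xb27 yb2 zb26) (kb xb27 yb2 zb27) (kb xb9 yb16 zb32) (kb xb27 yb2 zb28) (kb xb11 yb33 zb48) (kb xb27 yb1 zb57) (kb xb18 yb57 zb30) (kb xb9 yb16 zb34) (kb xb26 yb2 zb29) (kb xb22 yb37 zb14) (kb xb26 yb52 zb28) (kb xb9 yb16 zb44) (kb xb9 yb16 zb45) (kb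 xb14 yb30 zb10) (kb xb22 yb52 zb50) (kb xb9 yb16 zb55) (kb xb12 yb9 zb61) (kb xb16 yb55 zb5) (kb xb9 yb16 zb41) (kb xb16 yb26 zb18) (kb xb16 yb56 zb11) (kb xb27 yb2 zb37) (kb xb16 yb54 zb33) (kb xb11 yb16 zb3) (kb xb11 yb21 zb17) (kb xb9 yb16 zb43) (kb xb11 yb34 zb18) (kb xb22 yb35 zb53) (kb xb22 yb32 zb37) (kb xb27 yb2 zb43) (kb xb22 yb54 zb22) (kb xb27 yb2 zb34) (kb xb11 yb35 zb30) (kb xb27 yb2 zb0) (kb xb9 yb16 zb47) (kb xb9 yb16 zb48) (kb xb27 yb2 zb54) (kb xb27 yb2 zb49) (kb xb27 yb2 zb52) (kb xb27 yb2 zb53) (kb xb14 yb30 zb5) (kb xb27 yb2 zb4) (kb xb12 yb2 zb46) (kb xb9 yb16 zb50) (kb xb24 yb23 zb11) (kb xb9 yb16 zb52) (kb xb27 yb2 zb60) (kb xb27 yb2 zb59) (kb xb27 yb3 zb2) (kb xb21 yb53 zb26) (kb xb9 yb16 zb54) (kb xb27 yb3 zb5) (kb xb13 yb49 zb60)) (@D3.rec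 (fun _ => Pt) (kb xb24 yb59 zb31) (kb xb20 yb33 zb50) (kb xb20 yb33 zb51) (kb xb9 yb16 zb60) (kb xb19 yb9 zb50) (kb xb27 yb3 zb13) (kb xb27 yb3 zb14) (kb xb9 yb17 zb3) (kb xb19 yb45 zb43) (kb xb27 yb3 zb15) (kb xb24 yb5 zb57) (kb xb21 yb15 zb19) (kb xb24 yb28 zb12) (kb xb11 yb15 zb58) (kb xb27 yb3 zb17) (kb xb9 yb17 zb10) (kb xb27 yb1 zb29) (kb xb9 yb17 zb9) (kb xb27 yb3 zb19) (kb xb9 yb17 zb13) (kb xb9 yb17 zb15) (kb xb27 yb3 zb21) (kb xb27 yb3 zb20) (kb xb24 yb10 zb15) (kb xb27 yb3 zb22) (kb xb9 yb17 zb16) (kb xb27 yb3 zb23) (kb xb23 yb31 zb13) (kb xb19 yb39 zb43) (kb xb9 yb17 zb20) (kb xb12 yb15 zb15) (kb xb17 yb31 zb19) (kb xb9 yb17 zb24) (kb xb9 yb17 zb26) (kb xb19 yb59 zb36) (kb xb27 yb3 zb26) (kb xb12 yb4 zb12) (kb xb9 yb17 zb34) (kb xb9 yb17 zb35) (kb xb27 yb3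 zb27) (kb xb19 yb3 zb20) (kb xb23 yb49 zb51) (kb xb27 yb3 zb28) (kb xb9 yb17 zb40) (kb xb9 yb17 zb42) (kb xb18 yb26 zb0) (kb xb21 yb22 zb32) (kb xb9 yb17 zb44) (kb xb16 yb29 zb29) (kb xb20 yb13 zb57) (kb xb11 yb34 zb9) (kb xb27 yb3 zb36) (kb xb9 yb23 zb36) (kb xb9 yb17 zb48) (kb xb9 yb26 zb6) (kb xb12 yb6 zb18) (kb xb9 yb50 zb57) (kb xb9 yb17 zb60) (kb xb20 yb34 zb28) (kb xb12 yb10 zb16) (kb xb18 yb23 zb30) (kb xb17 yb16 zb58)) (@D3.rec (fun _ => Pt) (kb xb9 yb17 zb56) (kb xb27 yb3 zb39) (kb xb9 yb47 zb52) (kb xb21 yb18 zb19) (kb xb17 yb19 zb56) (kb xb9 yb17 zb58) (kb xb21 yb38 zb13) (kb xb9 yb17 zb61) (kb xb16 yb24 zb33) (kb xb9 yb18 zb4) (kb xb9 yb18 zb5) (kb xb9 yb18 zb8) (kb xb27 yb3 zb41) (kb xb9 yb18 zb27) (kb xb9 yb18 zb10) (kb xb12 yb2 zb0) (kb xb9 yb18 zb14)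 (kb xb11 yb50 zb11) (kb xb21 yb22 zb55) (kb xb9 yb18 zb17) (kb xb12 yb20 zb22) (kb xb27 yb3 zb44) (kb xb14 yb57 zb5) (kb xb12 yb18 zb54) (kb xb19 yb22 zb57) (kb xb12 yb24 zb36) (kb xb9 yb18 zb22) (kb xb23 yb35 zb54) (kb xb27 yb3 zb46) (kb xb12 yb12 zb31) (kb xb27 yb3 zb49) (kb xb27 yb3 zb51) (kb xb18 yb50 zb23) (kb xb9 yb18 zb25) (kb xb21 yb34 zb4) (kb xb27 yb3 zb53) (kb xb9 yb18 zb26) (kb xb9 yb33 zb3) (kb xb20 yb17 zb39) (kb xb27 yb3 zb57) (kb xb12 yb50 zb27) (kb xb9 yb18 zb30) (kb xb27 yb3 zb60) (kb xb9 yb18 zb32) (kb xb27 yb4 zb0) (kb xb16 yb9 zb1) (kb xb12 yb17 zb17) (kb xb14 yb21 zb1) (kb xb12 yb47 zb32) (kb xb27 yb4 zb4) (kb xb25 yb14 zb44) (kb xb9 yb18 zb39) (kb xb27 yb4 zb8) (kb xb17 yb52 zb42) (kb xb27 yb4 zb10) (kb xb12 yb17 zb51) (kb xb21 yb59 zb13) (kb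 xb9 yb29 zb2) (kb xb27 yb4 zb12) (kb xb12 yb18 zb12) (kb xb9 yb18 zb45) (kb xb9 yb36 zb35)) (@D3.rec (fun _ => Pt) (kb xb22 yb10 zb7) (kb xb9 yb18 zb46) (kb xb27 yb4 zb20) (kb xb21 yb48 zb46) (kb xb27 yb4 zb17) (kb xb9 yb18 zb47) (kb xb11 yb59 zb61) (kb xb17 yb51 zb43) (kb xb9 yb18 zb50) (kb xb16 yb9 zb21) (kb xb9 yb18 zb52) (kb xb22 yb11 zb31) (kb xb9 yb34 zb12) (kb xb9 yb18 zb55) (kb xb27 yb4 zb28) (kb xb27 yb4 zb30) (kb xb27 yb4 zb27) (kb xb9 yb18 zb58) (kb xb9 yb18 zb59) (kb xb27 yb4 zb34) (kb xb18 yb29 zb38) (kb xb27 yb4 zb42) (kb xb26 yb14 zb38) (kb xb12 yb19 zb25) (kb xb9 yb19 zb0) (kb xb22 yb45 zb23) (kb xb16 yb8 zb48) (kb xb12 yb19 zb34) (kb xb22 yb37 zb4) (kb xb9 yb19 zb5) (kb xb12 yb20 zb25) (kb xb25 yb16 zb40) (kb xb12 yb23 zb58) (kb xb9 yb19 zb7) (kb xb22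 yb36 zb15) (kb xb21 yb59 zb33) (kb xb27 yb4 zb47) (kb xb9 yb19 zb11) (kb xb9 yb19 zb10) (kb xb18 yb36 zb10) (kb xb21 yb32 zb11) (kb xb9 yb19 zb12) (kb xb24 yb58 zb6) (kb xb9 yb19 zb14) (kb xb25 yb30 zb0) (kb xb27 yb4 zb53) (kb xb9 yb19 zb16) (kb xb9 yb19 zb17) (kb xb27 yb4 zb58) (kb xb25 yb7 zb6) (kb xb27 yb5 zb2) (kb xb27 yb4 zb60) (kb xb18 yb7 zb55) (kb xb9 yb37 zb26) (kb xb21 yb25 zb58) (kb xb9 yb19 zb23) (kb xb12 yb21 zb44) (kb xb12 yb39 zb46) (kb xb9 yb19 zb22) (kb xb27 yb5 zb4) (kb xb9 yb19 zb26) (kb xb23 yb4 zb18)) (@D3.rec (fun _ => Pt) (kb xb9 yb19 zb38) (kb xb16 yb30 zb35) (kb xb13 yb47 zb16) (kb xb17 yb6 zb34) (kb xb9 yb26 zb46) (kb xb13 yb27 zb5) (kb xb13 yb27 zb6) (kb xb9 yb19 zb29) (kb xb11 yb43 zb21) (kb xb24 yb53 zb19) (kb xb27 yb5 zb13) (kb xb22 yb37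 zb20) (kb xb16 yb31 zb55) (kb xb9 yb19 zb33) (kb xb27 yb5 zb18) (kb xb26 yb24 zb60) (kb xb27 yb5 zb20) (kb xb20 yb32 zb10) (kb xb9 yb19 zb36) (kb xb23 yb42 zb12) (kb xb20 yb31 zb57) (kb xb26 yb48 zb52) (kb xb26 yb29 zb2) (kb xb9 yb19 zb39) (kb xb21 yb44 zb21) (kb xb12 yb7 zb51) (kb xb26 yb25 zb19) (kb xb15 yb0 zb2) (kb xb11 yb13 zb28) (kb xb14 yb38 zb26) (kb xb16 yb59 zb24) (kb xb12 yb7 zb29) (kb xb16 yb35 zb9) (kb xb18 yb43 zb34) (kb xb12 yb6 zb51) (kb xb16 yb10 zb40) (kb xb17 yb2 zb44) (kb xb26 yb22 zb51) (kb xb23 yb42 zb36) (kb xb21 yb53 zb53) (kb xb16 yb26 zb5) (kb xb16 yb26 zb6) (kb xb19 yb20 zb45) (kb xb13 yb29 zb25) (kb xb9 yb19 zb50) (kb xb10 yb59 zb41) (kb xb14 yb10 zb54) (kb xb21 yb55 zb5) (kb xb24 yb32 zb49) (kb xb19 yb59 zb56) (kb xb10 yb13 zb59) (kb xb20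 yb38 zb24) (kb xb12 yb53 zb60) (kb xb23 yb30 zb49) (kb xb26 yb58 zb53) (kb xb12 yb47 zb6) (kb xb23 yb49 zb43) (kb xb18 yb24 zb16) (kb xb9 yb20 zb3) (kb xb9 yb20 zb4) (kb xb9 yb20 zb5) (kb xb27 yb5 zb43)) (@D3.rec (fun _ => Pt) (kb xb19 yb53 zb6) (kb xb14 yb54 zb16) (kb xb9 yb20 zb14) (kb xb9 yb20 zb15) (kb xb27 yb5 zb44) (kb xb9 yb20 zb18) (kb xb27 yb5 zb48) (kb xb12 yb53 zb56) (kb xb25 yb44 zb26) (kb xb12 yb25 zb47) (kb xb22 yb2 zb57) (kb xb13 yb53 zb23) (kb xb12 yb26 zb5) (kb xb25 yb44 zb59) (kb xb12 yb26 zb8) (kb xb9 yb29 zb45) (kb xb9 yb20 zb24) (kb xb9 yb20 zb25) (kb xb27 yb5 zb56) (kb xb22 yb15 zb5) (kb xb12 yb26 zb21) (kb xb23 yb49 zb46) (kb xb13 yb20 zb27) (kb xb26 yb49 zb33) (kb xb16 yb9 zb20) (kb xb12 yb27 zb28) (kb xb22 yb10 zb6) (kb xb12 yb35 zb31) (kb xb12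 yb27 zb19) (kb xb23 yb2 zb44) (kb xb9 yb20 zb35) (kb xb27 yb6 zb5) (kb xb23 yb23 zb51) (kb xb15 yb24 zb4) (kb xb12 yb24 zb33) (kb xb9 yb20 zb37) (kb xb11 yb2 zb9) (kb xb23 yb38 zb10) (kb xb12 yb29 zb49) (kb xb21 yb21 zb59) (kb xb18 yb17 zb30) (kb xb21 yb47 zb48) (kb xb9 yb20 zb46) (kb xb9 yb20 zb49) (kb xb27 yb6 zb7) (kb xb27 yb6 zb8) (kb xb24 yb17 zb59) (kb xb9 yb20 zb51) (kb xb27 yb6 zb11) (kb xb27 yb6 zb12) (kb xb27 yb6 zb13) (kb xb24 yb41 zb14) (kb xb9 yb20 zb54) (kb xb9 yb20 zb55) (kb xb27 yb6 zb17) (kb xb9 yb20 zb57) (kb xb27 yb6 zb19) (kb xb27 yb6 zb21) (kb xb17 yb12 zb61) (kb xb23 yb53 zb2) (kb xb9 yb21 zb0) (kb xb27 yb6 zb25)) (@D3.rec (fun _ => Pt) (kb xb18 yb35 zb52) (kb xb14 yb12 zb30) (kb xb22 yb15 zb54) (kb xb24 yb1 zb52) (kb xb9 yb21 zb4) (kb xb27 yb6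 zb31) (kb xb17 yb3 zb23) (kb xb9 yb21 zb6) (kb xb26 yb54 zb53) (kb xb9 yb21 zb10) (kb xb27 yb6 zb32) (kb xb11 yb29 zb48) (kb xb9 yb21 zb14) (kb xb9 yb21 zb15) (kb xb9 yb21 zb13) (kb xb27 yb6 zb37) (kb xb21 yb50 zb6) (kb xb9 yb21 zb17) (kb xb27 yb6 zb41) (kb xb13 yb20 zb17) (kb xb14 yb16 zb3) (kb xb13 yb23 zb39) (kb xb13 yb15 zb2) (kb xb14 yb16 zb4) (kb xb27 yb6 zb49) (kb xb22 yb14 zb2) (kb xb9 yb21 zb24) (kb xb9 yb21 zb25) (kb xb14 yb13 zb23) (kb xb27 yb6 zb30) (kb xb27 yb6 zb56) (kb xb24 yb2 zb6) (kb xb9 yb21 zb28) (kb xb27 yb6 zb61) (kb xb27 yb6 zb60) (kb xb23 yb48 zb59) (kb xb24 yb2 zb11) (kb xb27 yb7 zb5) (kb xb27 yb7 zb7) (kb xb9 yb21 zb30) (kb xb27 yb7 zb12) (kb xb27 yb7 zb14) (kb xb13 yb3 zb36) (kb xb11 yb39 zb50) (kb xb9 yb21 zb34) (kb xb9 yb21 zb35) (kb xb27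 yb7 zb25) (kb xb27 yb7 zb23) (kb xb24 yb44 zb41) (kb xb25 yb45 zb35) (kb xb25 yb39 zb45) (kb xb9 yb21 zb43) (kb xb24 yb20 zb18) (kb xb22 yb34 zb15) (kb xb9 yb21 zb46) (kb xb24 yb9 zb53) (kb xb24 yb21 zb21) (kb xb27 yb7 zb35) (kb xb21 yb32 zb10) (kb xb27 yb7 zb37) (kb xb27 yb7 zb38) (kb xb9 yb21 zb48)) (@D3.rec (fun _ => Pt) (kb xb27 yb7 zb40) (kb xb27 yb7 zb44) (kb xb27 yb7 zb47) (kb xb9 yb28 zb22) (kb xb9 yb21 zb50) (kb xb27 yb7 zb55) (kb xb18 yb43 zb17) (kb xb23 yb48 zb0) (kb xb18 yb43 zb56) (kb xb9 yb21 zb54) (kb xb17 yb10 zb21) (kb xb17 yb57 zb43) (kb xb20 yb25 zb29) (kb xb17 yb11 zb4) (kb xb21 yb37 zb23) (kb xb24 yb6 zb8) (kb xb9 yb22 zb2) (kb xb27 yb8 zb4) (kb xb9 yb22 zb5) (kb xb16 yb54 zb57) (kb xb17 yb0 zb58) (kb xb24 yb28 zb3) (kb xb27 yb8 zb6) (kb xb9 yb22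 zb9) (kb xb9 yb22 zb10) (kb xb19 yb21 zb12) (kb xb16 yb54 zb20) (kb xb16 yb56 zb36) (kb xb27 yb8 zb12) (kb xb11 yb41 zb0) (kb xb9 yb22 zb13) (kb xb27 yb8 zb13) (kb xb26 yb53 zb31) (kb xb26 yb4 zb5) (kb xb9 yb22 zb25) (kb xb9 yb22 zb26) (kb xb19 yb48 zb39) (kb xb23 yb47 zb27) (kb xb23 yb47 zb28) (kb xb10 yb15 zb30) (kb xb24 yb1 zb55) (kb xb24 yb1 zb56) (kb xb27 yb8 zb27) (kb xb24 yb1 zb59) (kb xb27 yb6 zb55) (kb xb9 yb22 zb20) (kb xb27 yb8 zb34) (kb xb27 yb8 zb35) (kb xb9 yb22 zb22) (kb xb21 yb13 zb38) (kb xb24 yb6 zb40) (kb xb27 yb8 zb40) (kb xb9 yb22 zb23) (kb xb27 yb8 zb43) (kb xb9 yb22 zb24) (kb xb27 yb8 zb47) (kb xb11 yb0 zb32) (kb xb27 yb8 zb50) (kb xb19 yb52 zb37) (kb xb27 yb8 zb56) (kb xb27 yb8 zb20) (kb xb9 yb22 zb27)) (@D3.rec (fun _ => Pt) (kb xb19 yb23 zb32)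 (kb xb13 yb16 zb50) (kb xb9 yb22 zb32) (kb xb9 yb22 zb33) (kb xb23 yb49 zb25) (kb xb11 yb41 zb6) (kb xb9 yb22 zb37) (kb xb20 yb52 zb23) (kb xb17 yb24 zb20) (kb xb9 yb22 zb41) (kb xb9 yb22 zb43) (kb xb9 yb23 zb60) (kb xb9 yb22 zb48) (kb xb19 yb47 zb47) (kb xb9 yb22 zb49) (kb xb9 yb22 zb51) (kb xb27 yb9 zb3) (kb xb25 yb51 zb16) (kb xb9 yb22 zb53) (kb xb9 yb24 zb38) (kb xb11 yb44 zb7) (kb xb14 yb14 zb1) (kb xb9 yb22 zb58) (kb xb9 yb22 zb57) (kb xb14 yb14 zb9) (kb xb27 yb9 zb8) (kb xb27 yb9 zb9) (kb xb25 yb51 zb18) (kb xb9 yb22 zb60) (kb xb9 yb22 zb61) (kb xb11 yb45 zb19) (kb xb9 yb25 zb12) (kb xb24 yb20 zb20) (kb xb10 yb4 zb46) (kb xb21 yb16 zb3) (kb xb14 yb1 zb40) (kb xb9 yb23 zb10) (kb xb20 yb49 zb14) (kb xb9 yb23 zb11) (kb xb27 yb9 zb18) (kb xb14 yb34 zb50) (kb xb9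 yb25 zb51) (kb xb16 yb45 zb16) (kb xb23 yb52 zb61) (kb xb9 yb25 zb45) (kb xb9 yb23 zb17) (kb xb9 yb48 zb58) (kb xb20 yb12 zb21) (kb xb18 yb49 zb61) (kb xb20 yb49 zb13) (kb xb9 yb25 zb60) (kb xb22 yb7 zb56) (kb xb22 yb0 zb29) (kb xb9 yb26 zb1) (kb xb9 yb26 zb2) (kb xb17 yb4 zb43) (kb xb17 yb13 zb4) (kb xb16 yb54 zb1) (kb xb19 yb51 zb14) (kb xb27 yb9 zb33) (kb xb9 yb23 zb29) (kb xb9 yb23 zb30)) (@D3.rec (fun _ => Pt) (kb xb23 yb53 zb6) (kb xb23 yb53 zb8) (kb xb9 yb23 zb25) (kb xb12 yb46 zb61) (kb xb20 yb27 zb13) (kb xb23 yb58 zb39) (kb xb27 yb9 zb45) (kb xb14 yb31 zb2) (kb xb27 yb9 zb50) (kb xb9 yb23 zb38) (kb xb26 yb22 zb22) (kb xb26 yb22 zb25) (kb xb26 yb22 zb26) (kb xb27 yb9 zb54) (kb xb20 yb18 zb60) (kb xb27 yb9 zb57) (kb xb27 yb9 zb37) (kb xb11 yb26 zb33) (kb xb9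 yb23 zb32) (kb xb27 yb10 zb0) (kb xb27 yb9 zb61) (kb xb27 yb10 zb1) (kb xb26 yb57 zb57) (kb xb9 yb23 zb35) (kb xb27 yb10 zb8) (kb xb27 yb10 zb7) (kb xb23 yb8 zb22) (kb xb27 yb3 zb37) (kb xb26 yb42 zb5) (kb xb9 yb23 zb37) (kb xb16 yb31 zb21) (kb xb27 yb10 zb14) (kb xb9 yb27 zb42) (kb xb9 yb23 zb40) (kb xb9 yb23 zb41) (kb xb27 yb10 zb16) (kb xb27 yb10 zb17) (kb xb23 yb49 zb21) (kb xb10 yb4 zb45) (kb xb12 yb39 zb52) (kb xb27 yb10 zb21) (kb xb9 yb23 zb47) (kb xb27 yb10 zb23) (kb xb9 yb23 zb49) (kb xb27 yb10 zb24) (kb xb9 yb23 zb52) (kb xb27 yb10 zb26) (kb xb27 yb10 zb27) (kb xb11 yb44 zb5) (kb xb9 yb30 zb26) (kb xb18 yb57 zb9) (kb xb9 yb23 zb55) (kb xb27 yb10 zb32) (kb xb9 yb23 zb57) (kb xb11 yb25 zb52) (kb xb22 yb46 zb36) (kb xb11 yb46 zb48) (kb xb9 yb23 zb59) (kb xb24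 yb7 zb25) (kb xb21 yb10 zb9) (kb xb21 yb49 zb50) (kb xb20 yb27 zb19)) (@D3.rec (fun _ => Pt) (kb xb24 yb53 zb40) (kb xb21 yb12 zb59) (kb xb12 yb44 zb59) (kb xb9 yb24 zb7) (kb xb9 yb24 zb0) (kb xb17 yb3 zb7) (kb xb27 yb10 zb42) (kb xb27 yb10 zb43) (kb xb9 yb24 zb1) (kb xb24 yb2 zb22) (kb xb27 yb10 zb45) (kb xb27 yb10 zb46) (kb xb23 yb47 zb42) (kb xb10 yb31 zb21) (kb xb9 yb24 zb5) (kb xb25 yb39 zb28) (kb xb24 yb27 zb48) (kb xb26 yb23 zb41) (kb xb26 yb50 zb34) (kb xb21 yb15 zb53) (kb xb11 yb1 zb1) (kb xb11 yb44 zb48) (kb xb9 yb24 zb10) (kb xb22 yb56 zb30) (kb xb21 yb22 zb10) (kb xb14 yb13 zb58) (kb xb9 yb24 zb13) (kb xb9 yb24 zb12) (kb xb27 yb10 zb55) (kb xb9 yb24 zb15) (kb xb9 yb24 zb16) (kb xb24 yb54 zb45) (kb xb27 yb10 zb58) (kb xb27 yb10 zb59) (kb xb27 yb10 zb60) (kb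 xb9 yb24 zb17) (kb xb9 yb38 zb54) (kb xb15 yb59 zb16) (kb xb9 yb24 zb22) (kb xb9 yb24 zb24) (kb xb27 yb11 zb5) (kb xb16 yb1 zb2) (kb xb21 yb18 zb55) (kb xb9 yb24 zb26) (kb xb9 yb24 zb27) (kb xb12 yb34 zb14) (kb xb10 yb5 zb11) (kb xb18 yb23 zb7) (kb xb11 yb44 zb0) (kb xb11 yb34 zb15) (kb xb27 yb9 zb4) (kb xb9 yb24 zb39) (kb xb17 yb22 zb37) (kb xb9 yb24 zb44) (kb xb27 yb11 zb12) (kb xb11 yb44 zb20) (kb xb9 yb24 zb46) (kb xb19 yb20 zb41) (kb xb9 yb24 zb48) (kb xb25 yb0 zb11) (kb xb27 yb11 zb15) (kb xb27 yb11 zb16)) (@D3.rec (fun _ => Pt) (kb xb9 yb24 zb49) (kb xb10 yb7 zb31) (kb xb27 yb11 zb19) (kb xb9 yb24 zb52) (kb xb9 yb24 zb53) (kb xb20 yb50 zb24) (kb xb15 yb56 zb50) (kb xb9 yb24 zb56) (kb xb27 yb11 zb25) (kb xb27 yb11 zb26) (kb xb9 yb24 zb58) (kb xb27 yb11 zb30) (kb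 xb15 yb37 zb24) (kb xb19 yb35 zb61) (kb xb27 yb11 zb35) (kb xb27 yb9 zb10) (kb xb9 yb24 zb61) (kb xb9 yb25 zb0) (kb xb12 yb44 zb7) (kb xb9 yb25 zb3) (kb xb23 yb30 zb41) (kb xb18 yb43 zb19) (kb xb20 yb30 zb2) (kb xb21 yb52 zb34) (kb xb21 yb52 zb24) (kb xb11 yb46 zb20) (kb xb9 yb25 zb9) (kb xb23 yb53 zb19) (kb xb16 yb26 zb7) (kb xb23 yb52 zb59) (kb xb11 yb45 zb42) (kb xb24 yb10 zb6) (kb xb21 yb8 zb4) (kb xb12 yb30 zb23) (kb xb20 yb32 zb56) (kb xb12 yb17 zb41) (kb xb19 yb52 zb6) (kb xb17 yb21 zb52) (kb xb20 yb31 zb46) (kb xb26 yb48 zb59) (kb xb9 yb25 zb23) (kb xb9 yb25 zb19) (kb xb16 yb46 zb2) (kb xb27 yb11 zb57) (kb xb20 yb33 zb17) (kb xb9 yb25 zb20) (kb xb14 yb20 zb19) (kb xb27 yb12 zb2) (kb xb20 yb45 zb60) (kb xb23 yb57 zb27) (kb xb24 yb53 zb31) (kb xb15 yb1 zb59) (kb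 xb9 yb25 zb24) (kb xb27 yb12 zb10) (kb xb9 yb25 zb26) (kb xb9 yb56 zb1) (kb xb21 yb16 zb5) (kb xb22 yb7 zb60) (kb xb9 yb25 zb33) (kb xb27 yb12 zb12) (kb xb27 yb1 zb25) (kb xb12 yb12 zb20)) (@D3.rec (fun _ => Pt) (kb xb16 yb55 zb12) (kb xb13 yb20 zb43) (kb xb18 yb49 zb46) (kb xb27 yb12 zb17) (kb xb9 yb25 zb39) (kb xb9 yb25 zb40) (kb xb20 yb49 zb17) (kb xb22 yb36 zb17) (kb xb10 yb1 zb50) (kb xb9 yb25 zb41) (kb xb13 yb52 zb17) (kb xb9 yb25 zb42) (kb xb27 yb12 zb24) (kb xb9 yb55 zb25) (kb xb18 yb27 zb17) (kb xb9 yb25 zb43) (kb xb18 yb27 zb19) (kb xb9 yb25 zb50) (kb xb23 yb40 zb40) (kb xb21 yb52 zb2) (kb xb23 yb56 zb45) (kb xb13 yb21 zb48) (kb xb27 yb9 zb20) (kb xb20 yb5 zb3) (kb xb21 yb16 zb1) (kb xb9 yb25 zb59) (kb xb11 yb37 zb41) (kb xb18 yb47 zb17) (kb xb20 yb31 zb34)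 (kb xb20 yb31 zb35) (kb xb27 yb9 zb22) (kb xb18 yb4 zb59) (kb xb12 yb7 zb39) (kb xb22 yb37 zb18) (kb xb27 yb9 zb25) (kb xb27 yb9 zb26) (kb xb27 yb12 zb36) (kb xb27 yb9 zb28) (kb xb17 yb5 zb47) (kb xb26 yb6 zb1) (kb xb9 yb26 zb27) (kb xb22 yb37 zb24) (kb xb12 yb15 zb5) (kb xb13 yb57 zb13) (kb xb9 yb26 zb8) (kb xb16 yb31 zb34) (kb xb19 yb57 zb33) (kb xb16 yb9 zb19) (kb xb27 yb12 zb47) (kb xb9 yb26 zb9) (kb xb27 yb12 zb54) (kb xb27 yb12 zb52) (kb xb14 yb38 zb54) (kb xb9 yb26 zb10) (kb xb15 yb25 zb31) (kb xb27 yb12 zb59) (kb xb26 yb32 zb54) (kb xb27 yb12 zb61) (kb xb27 yb13 zb1) (kb xb9 yb26 zb51) (kb xb9 yb26 zb13) (kb xb9 yb26 zb56)) (@D3.rec (fun _ => Pt) (kb xb21 yb52 zb14) (kb xb9 yb26 zb17) (kb xb9 yb26 zb18) (kb xb11 yb28 zb59) (kb xb24 yb23 zb5) (kb xb27 yb13 zb5)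 (kb xb27 yb13 zb6) (kb xb16 yb2 zb14) (kb xb14 yb31 zb34) (kb xb9 yb26 zb20) (kb xb24 yb13 zb35) (kb xb19 yb27 zb3) (kb xb18 yb57 zb17) (kb xb15 yb31 zb38) (kb xb9 yb26 zb21) (kb xb27 yb13 zb17) (kb xb27 yb13 zb18) (kb xb9 yb27 zb23) (kb xb24 yb46 zb58) (kb xb21 yb42 zb36) (kb xb17 yb19 zb8) (kb xb20 yb30 zb11) (kb xb9 yb26 zb28) (kb xb9 yb26 zb29) (kb xb9 yb26 zb26) (kb xb25 yb21 zb42) (kb xb27 yb12 zb41) (kb xb27 yb12 zb42) (kb xb27 yb13 zb37) (kb xb27 yb12 zb44) (kb xb27 yb13 zb42) (kb xb27 yb13 zb30) (kb xb9 yb26 zb32) (kb xb14 yb33 zb47) (kb xb27 yb13 zb43) (kb xb11 yb48 zb8) (kb xb9 yb26 zb35) (kb xb21 yb37 zb16) (kb xb27 yb13 zb45) (kb xb26 yb45 zb34) (kb xb26 yb50 zb27) (kb xb9 yb26 zb39) (kb xb9 yb26 zb40) (kb xb14 yb40 zb53) (kb xb22 yb46 zb30) (kb xb9 yb26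 zb38) (kb xb24 yb1 zb13) (kb xb14 yb14 zb61) (kb xb27 yb13 zb60) (kb xb26 yb40 zb47) (kb xb27 yb13 zb53) (kb xb26 yb59 zb29) (kb xb9 yb26 zb43) (kb xb9 yb26 zb44) (kb xb21 yb15 zb61) (kb xb9 yb26 zb42) (kb xb26 yb52 zb8) (kb xb27 yb14 zb12) (kb xb27 yb12 zb55) (kb xb27 yb14 zb15) (kb xb27 yb14 zb8) (kb xb22 yb36 zb61)) (@D3.rec (fun _ => Pt) (kb xb26 yb52 zb44) (kb xb22 yb37 zb19) (kb xb9 yb26 zb47) (kb xb21 yb59 zb61) (kb xb27 yb14 zb23) (kb xb9 yb26 zb48) (kb xb23 yb8 zb48) (kb xb16 yb56 zb57) (kb xb16 yb25 zb21) (kb xb9 yb26 zb49) (kb xb25 yb56 zb31) (kb xb27 yb14 zb29) (kb xb27 yb14 zb30) (kb xb19 yb38 zb61) (kb xb25 yb13 zb58) (kb xb9 yb26 zb50) (kb xb24 yb37 zb29) (kb xb27 yb14 zb34) (kb xb27 yb13 zb4) (kb xb11 yb46 zb12) (kb xb16 yb53 zb53) (kb xb20 yb11 zb50)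 (kb xb12 yb7 zb35) (kb xb14 yb17 zb41) (kb xb27 yb14 zb42) (kb xb14 yb44 zb5) (kb xb27 yb14 zb48) (kb xb19 yb9 zb53) (kb xb23 yb45 zb28) (kb xb27 yb14 zb52) (kb xb22 yb30 zb54) (kb xb9 yb27 zb0) (kb xb15 yb26 zb28) (kb xb20 yb45 zb57) (kb xb9 yb27 zb1) (kb xb9 yb26 zb61) (kb xb23 yb9 zb1) (kb xb27 yb14 zb56) (kb xb27 yb14 zb57) (kb xb27 yb14 zb60) (kb xb12 yb47 zb41) (kb xb14 yb31 zb31) (kb xb10 yb4 zb22) (kb xb12 yb17 zb1) (kb xb20 yb27 zb16) (kb xb27 yb15 zb4) (kb xb9 yb27 zb9) (kb xb9 yb27 zb10) (kb xb9 yb27 zb8) (kb xb27 yb15 zb12) (kb xb24 yb38 zb55) (kb xb27 yb15 zb18) (kb xb27 yb15 zb8) (kb xb27 yb15 zb9) (kb xb25 yb52 zb40) (kb xb13 yb43 zb48) (kb xb9 yb27 zb14) (kb xb27 yb15 zb25) (kb xb27 yb13 zb20) (kb xb9 yb27 zb13) (kb xb27 yb15 zb26) (kb xb27 yb15 zb24))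 (@D3.rec (fun _ => Pt) (kb xb10 yb17 zb12) (kb xb27 yb15 zb30) (kb xb9 yb27 zb17) (kb xb9 yb27 zb16) (kb xb27 yb15 zb34) (kb xb23 yb0 zb53) (kb xb27 yb15 zb39) (kb xb16 yb38 zb35) (kb xb19 yb7 zb15) (kb xb9 yb27 zb18) (kb xb9 yb27 zb19) (kb xb19 yb6 zb41) (kb xb27 yb6 zb24) (kb xb27 yb15 zb49) (kb xb27 yb10 zb13) (kb xb9 yb27 zb21) (kb xb9 yb27 zb22) (kb xb27 yb15 zb56) (kb xb27 yb15 zb57) (kb xb27 yb15 zb60) (kb xb11 yb46 zb38) (kb xb27 yb16 zb2) (kb xb9 yb27 zb26) (kb xb9 yb27 zb27) (kb xb27 yb16 zb8) (kb xb11 yb46 zb17) (kb xb27 yb16 zb9) (kb xb27 yb16 zb6) (kb xb27 yb16 zb7) (kb xb20 yb39 zb0) (kb xb9 yb27 zb29) (kb xb27 yb16 zb17) (kb xb27 yb16 zb16) (kb xb9 yb27 zb30) (kb xb27 yb16 zb21) (kb xb27 yb16 zb20) (kb xb27 yb14 zb46) (kb xb27 yb16 zb28) (kb xb9 yb27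 zb31) (kb xb20 yb57 zb31) (kb xb18 yb24 zb31) (kb xb12 yb37 zb57) (kb xb14 yb16 zb14) (kb xb27 yb16 zb35) (kb xb24 yb7 zb13) (kb xb9 yb27 zb36) (kb xb18 yb15 zb14) (kb xb27 yb16 zb36) (kb xb20 yb27 zb21) (kb xb27 yb16 zb39) (kb xb27 yb16 zb40) (kb xb21 yb44 zb41) (kb xb9 yb27 zb40) (kb xb9 yb27 zb41) (kb xb9 yb31 zb15) (kb xb24 yb39 zb26) (kb xb27 yb10 zb15) (kb xb26 yb52 zb60) (kb xb17 yb3 zb30) (kb xb27 yb16 zb44) (kb xb9 yb27 zb46) (kb xb11 yb44 zb58)) (@D3.rec (fun _ => Pt) (kb xb9 yb27 zb48) (kb xb9 yb27 zb45) (kb xb20 yb2 zb39) (kb xb27 yb16 zb51) (kb xb27 yb16 zb55) (kb xb27 yb16 zb48) (kb xb27 yb16 zb49) (kb xb9 yb27 zb47) (kb xb27 yb16 zb61) (kb xb9 yb27 zb49) (kb xb25 yb24 zb39) (kb xb9 yb27 zb50) (kb xb27 yb17 zb4) (kb xb27 yb17 zb5) (kb xb9 yb27 zb53) (kb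 xb9 yb27 zb54) (kb xb27 yb17 zb9) (kb xb26 yb55 zb59) (kb xb26 yb55 zb60) (kb xb9 yb27 zb55) (kb xb27 yb17 zb16) (kb xb27 yb17 zb17) (kb xb15 yb38 zb26) (kb xb9 yb27 zb59) (kb xb27 yb17 zb20) (kb xb9 yb32 zb47) (kb xb9 yb27 zb61) (kb xb27 yb17 zb25) (kb xb9 yb28 zb0) (kb xb19 yb39 zb36) (kb xb9 yb28 zb1) (kb xb19 yb36 zb34) (kb xb16 yb2 zb33) (kb xb27 yb17 zb33) (kb xb27 yb7 zb39) (kb xb9 yb28 zb3) (kb xb20 yb12 zb37) (kb xb15 yb32 zb58) (kb xb27 yb17 zb37) (kb xb27 yb17 zb36) (kb xb9 yb28 zb5) (kb xb27 yb17 zb41) (kb xb27 yb17 zb43) (kb xb27 yb17 zb47) (kb xb17 yb10 zb26) (kb xb9 yb28 zb7) (kb xb26 yb54 zb52) (kb xb27 yb17 zb51) (kb xb22 yb10 zb26) (kb xb21 yb17 zb13) (kb xb9 yb28 zb9) (kb xb9 yb28 zb10) (kb xb27 yb17 zb59) (kb xb25 yb58 zb49) (kb xb21 yb17 zb57) (kb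 xb21 yb17 zb19) (kb xb9 yb28 zb13) (kb xb27 yb18 zb2) (kb xb25 yb33 zb14) (kb xb27 yb18 zb4) (kb xb21 yb17 zb28) (kb xb9 yb28 zb16)) (@D3.rec (fun _ => Pt) (kb xb9 yb28 zb17) (kb xb27 yb18 zb11) (kb xb27 yb18 zb13) (kb xb15 yb57 zb25) (kb xb21 yb17 zb24) (kb xb9 yb28 zb19) (kb xb27 yb18 zb19) (kb xb16 yb0 zb14) (kb xb16 yb0 zb36) (kb xb15 yb57 zb16) (kb xb9 yb28 zb21) (kb xb27 yb18 zb21) (kb xb27 yb7 zb51) (kb xb25 yb27 zb8) (kb xb25 yb29 zb61) (kb xb27 yb18 zb31) (kb xb9 yb28 zb27) (kb xb9 yb28 zb24) (kb xb22 yb43 zb23) (kb xb9 yb28 zb25) (kb xb25 yb40 zb16) (kb xb9 yb28 zb26) (kb xb27 yb18 zb42) (kb xb27 yb18 zb47) (kb xb27 yb18 zb26) (kb xb27 yb18 zb34) (kb xb21 yb49 zb38) (kb xb9 yb28 zb31) (kb xb14 yb13 zb59) (kb xb27 yb0 zb8) (kb xb19 yb17 zb25) (kb xb9 yb28 zb33)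 (kb xb24 yb35 zb40) (kb xb22 yb59 zb59) (kb xb14 yb25 zb52) (kb xb13 yb17 zb20) (kb xb10 yb40 zb12) (kb xb11 yb43 zb36) (kb xb12 yb45 zb54) (kb xb9 yb28 zb37) (kb xb27 yb19 zb4) (kb xb27 yb19 zb2) (kb xb9 yb28 zb39) (kb xb26 yb37 zb49) (kb xb14 yb42 zb15) (kb xb9 yb28 zb40) (kb xb27 yb19 zb14) (kb xb27 yb19 zb13) (kb xb9 yb28 zb41) (kb xb16 yb42 zb43) (kb xb26 yb46 zb42) (kb xb27 yb19 zb20) (kb xb9 yb28 zb42) (kb xb27 yb19 zb22) (kb xb19 yb13 zb53) (kb xb10 yb31 zb9) (kb xb27 yb19 zb25) (kb xb24 yb14 zb55) (kb xb27 yb19 zb30) (kb xb27 yb19 zb31) (kb xb9 yb28 zb45) (kb xb27 yb19 zb33)) (@D3.rec (fun _ => Pt) (kb xb9 yb28 zb46) (kb xb21 yb45 zb32) (kb xb9 yb28 zb48) (kb xb27 yb19 zb21) (kb xb27 yb19 zb35) (kb xb9 yb28 zb49) (kb xb27 yb19 zb40) (kb xb9 yb28 zb50) (kb xb27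 yb19 zb34) (kb xb9 yb28 zb51) (kb xb25 yb7 zb34) (kb xb25 yb51 zb17) (kb xb16 yb5 zb56) (kb xb25 yb27 zb58) (kb xb25 yb51 zb3) (kb xb24 yb37 zb41) (kb xb9 yb28 zb55) (kb xb15 yb22 zb1) (kb xb10 yb51 zb60) (kb xb16 yb42 zb9) (kb xb14 yb55 zb28) (kb xb10 yb38 zb23) (kb xb9 yb28 zb59) (kb xb24 yb42 zb56) (kb xb27 yb19 zb51) (kb xb21 yb36 zb24) (kb xb12 yb50 zb41) (kb xb27 yb19 zb53) (kb xb12 yb40 zb6) (kb xb12 yb50 zb44) (kb xb9 yb29 zb1) (kb xb21 yb23 zb47) (kb xb12 yb50 zb53) (kb xb26 yb10 zb25) (kb xb15 yb33 zb53) (kb xb17 yb42 zb15) (kb xb17 yb42 zb16) (kb xb17 yb41 zb52) (kb xb9 yb29 zb4) (kb xb25 yb41 zb50) (kb xb27 yb20 zb0) (kb xb12 yb51 zb2) (kb xb26 yb5 zb51) (kb xb17 yb49 zb50) (kb xb12 yb49 zb58) (kb xb9 yb29 zb8) (kb xb9 yb29 zb9) (kb xb21 yb48 zb51) (kb xb12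 yb49 zb31) (kb xb9 yb29 zb12) (kb xb9 yb29 zb11) (kb xb20 yb0 zb24) (kb xb24 yb53 zb7) (kb xb15 yb25 zb52) (kb xb26 yb18 zb19) (kb xb18 yb35 zb7) (kb xb9 yb29 zb15) (kb xb27 yb20 zb10) (kb xb9 yb29 zb16) (kb xb27 yb13 zb26) (kb xb27 yb20 zb12) (kb xb24 yb53 zb11)) (@D3.rec (fun _ => Pt) (kb xb23 yb49 zb45) (kb xb21 yb51 zb31) (kb xb9 yb29 zb20) (kb xb21 yb29 zb1) (kb xb27 yb20 zb16) (kb xb9 yb55 zb35) (kb xb9 yb29 zb22) (kb xb18 yb37 zb14) (kb xb27 yb20 zb19) (kb xb9 yb58 zb11) (kb xb12 yb3 zb55) (kb xb13 yb44 zb4) (kb xb18 yb35 zb0) (kb xb9 yb29 zb24) (kb xb22 yb10 zb43) (kb xb21 yb35 zb40) (kb xb21 yb32 zb13) (kb xb9 yb29 zb28) (kb xb16 yb15 zb57) (kb xb17 yb8 zb1) (kb xb14 yb6 zb50) (kb xb16 yb8 zb4) (kb xb9 yb29 zb33) (kb xb24 yb28 zb26) (kb xb9 yb53 zb39) (kb xb17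 yb36 zb27) (kb xb9 yb29 zb35) (kb xb27 yb20 zb34) (kb xb14 yb49 zb51) (kb xb27 yb20 zb9) (kb xb9 yb29 zb37) (kb xb9 yb29 zb38) (kb xb9 yb55 zb24) (kb xb25 yb43 zb11) (kb xb27 yb20 zb36) (kb xb27 yb20 zb35) (kb xb23 yb49 zb53) (kb xb14 yb3 zb13) (kb xb26 yb25 zb22) (kb xb12 yb52 zb41) (kb xb21 yb54 zb17) (kb xb18 yb17 zb29) (kb xb25 yb8 zb36) (kb xb19 yb10 zb57) (kb xb24 yb41 zb15) (kb xb27 yb20 zb42) (kb xb24 yb43 zb40) (kb xb27 yb20 zb45) (kb xb21 yb41 zb11) (kb xb12 yb52 zb46) (kb xb24 yb42 zb11) (kb xb27 yb5 zb55) (kb xb12 yb52 zb58) (kb xb25 yb31 zb7) (kb xb9 yb29 zb47) (kb xb16 yb15 zb46) (kb xb22 yb37 zb1) (kb xb21 yb26 zb58) (kb xb21 yb31 zb7) (kb xb9 yb29 zb48) (kb xb12 yb50 zb29) (kb xb12 yb53 zb53)) (@D3.rec (fun _ => Pt) (kb xb12 yb53 zb4) (kb xb25 yb57 zb29)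 (kb xb26 yb46 zb31) (kb xb20 yb15 zb11) (kb xb9 yb29 zb52) (kb xb9 yb29 zb53) (kb xb18 yb0 zb6) (kb xb9 yb31 zb37) (kb xb9 yb29 zb57) (kb xb9 yb29 zb58) (kb xb20 yb11 zb33) (kb xb27 yb20 zb58) (kb xb19 yb59 zb53) (kb xb19 yb10 zb27) (kb xb21 yb45 zb31) (kb xb11 yb44 zb46) (kb xb21 yb45 zb36) (kb xb9 yb30 zb5) (kb xb9 yb30 zb6) (kb xb17 yb12 zb31) (kb xb26 yb23 zb34) (kb xb26 yb23 zb35) (kb xb9 yb30 zb3) (kb xb24 yb2 zb45) (kb xb18 yb23 zb15) (kb xb26 yb53 zb22) (kb xb24 yb34 zb7) (kb xb11 yb28 zb13) (kb xb11 yb43 zb45) (kb xb9 yb30 zb11) (kb xb27 yb21 zb8) (kb xb11 yb48 zb7) (kb xb12 yb10 zb30) (kb xb11 yb0 zb21) (kb xb12 yb22 zb57) (kb xb9 yb30 zb24) (kb xb9 yb30 zb19) (kb xb9 yb30 zb20) (kb xb18 yb50 zb32) (kb xb18 yb16 zb17) (kb xb27 yb21 zb13) (kb xb18 yb47 zb46)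 (kb xb24 yb53 zb42) (kb xb27 yb21 zb14) (kb xb27 yb21 zb15) (kb xb16 yb30 zb61) (kb xb27 yb21 zb6) (kb xb9 yb30 zb27) (kb xb9 yb30 zb28) (kb xb10 yb3 zb52) (kb xb27 yb21 zb17) (kb xb9 yb30 zb32) (kb xb9 yb30 zb30) (kb xb27 yb21 zb18) (kb xb11 yb10 zb11) (kb xb9 yb30 zb35) (kb xb27 yb21 zb19) (kb xb25 yb26 zb14) (kb xb11 yb39 zb25) (kb xb20 yb26 zb31) (kb xb9 yb30 zb39) (kb xb16 yb56 zb28)) (@D3.rec (fun _ => Pt) (kb xb9 yb30 zb49) (kb xb11 yb57 zb50) (kb xb14 yb16 zb12) (kb xb9 yb30 zb43) (kb xb25 yb36 zb31) (kb xb27 yb21 zb25) (kb xb25 yb27 zb20) (kb xb18 yb46 zb33) (kb xb9 yb30 zb46) (kb xb27 yb21 zb29) (kb xb27 yb21 zb30) (kb xb12 yb54 zb17) (kb xb9 yb31 zb27) (kb xb16 yb47 zb31) (kb xb11 yb10 zb17) (kb xb19 yb26 zb51) (kb xb9 yb30 zb52) (kb xb14 yb26 zb22) (kb xb27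 yb21 zb37) (kb xb10 yb43 zb13) (kb xb9 yb31 zb16) (kb xb25 yb19 zb5) (kb xb9 yb30 zb59) (kb xb18 yb43 zb14) (kb xb9 yb30 zb60) (kb xb9 yb30 zb61) (kb xb9 yb30 zb56) (kb xb9 yb30 zb57) (kb xb12 yb57 zb11) (kb xb27 yb21 zb39) (kb xb12 yb57 zb8) (kb xb27 yb21 zb40) (kb xb9 yb30 zb58) (kb xb27 yb21 zb45) (kb xb27 yb21 zb46) (kb xb27 yb21 zb38) (kb xb26 yb56 zb57) (kb xb10 yb51 zb34) (kb xb9 yb31 zb0) (kb xb14 yb18 zb16) (kb xb18 yb43 zb28) (kb xb15 yb28 zb49) (kb xb9 yb31 zb4) (kb xb9 yb31 zb5) (kb xb9 yb31 zb3) (kb xb27 yb21 zb51) (kb xb27 yb21 zb52) (kb xb9 yb31 zb50) (kb xb11 yb56 zb43) (kb xb19 yb49 zb19) (kb xb9 yb31 zb6) (kb xb16 yb27 zb31) (kb xb19 yb46 zb40) (kb xb19 yb46 zb43) (kb xb25 yb12 zb8) (kb xb23 yb0 zb51) (kb xb27 yb21 zb54) (kb xb25 yb26 zb23) (kb xb25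 yb26 zb11) (kb xb25 yb26 zb12) (kb xb11 yb42 zb56) (kb xb19 yb27 zb0)) (@D3.rec (fun _ => Pt) (kb xb15 yb56 zb30) (kb xb19 yb26 zb57) (kb xb19 yb23 zb47) (kb xb21 yb36 zb53) (kb xb27 yb21 zb59) (kb xb9 yb31 zb18) (kb xb11 yb44 zb54) (kb xb27 yb21 zb60) (kb xb27 yb21 zb61) (kb xb18 yb41 zb58) (kb xb26 yb7 zb56) (kb xb9 yb31 zb21) (kb xb21 yb48 zb7) (kb xb26 yb43 zb20) (kb xb9 yb31 zb23) (kb xb15 yb24 zb51) (kb xb12 yb55 zb13) (kb xb9 yb31 zb25) (kb xb9 yb31 zb26) (kb xb9 yb31 zb29) (kb xb14 yb55 zb56) (kb xb9 yb31 zb30) (kb xb20 yb37 zb52) (kb xb26 yb46 zb29) (kb xb12 yb35 zb36) (kb xb27 yb22 zb5) (kb xb22 yb37 zb12) (kb xb12 yb21 zb34) (kb xb27 yb22 zb11) (kb xb14 yb20 zb47) (kb xb9 yb56 zb18) (kb xb12 yb14 zb55) (kb xb18 yb27 zb48) (kb xb16 yb6 zb23) (kb xb18 yb40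 zb3) (kb xb18 yb38 zb6) (kb xb20 yb12 zb18) (kb xb21 yb52 zb6) (kb xb12 yb55 zb36) (kb xb9 yb31 zb40) (kb xb9 yb31 zb42) (kb xb27 yb22 zb16) (kb xb9 yb31 zb44) (kb xb26 yb8 zb12) (kb xb18 yb18 zb27) (kb xb21 yb59 zb14) (kb xb25 yb17 zb23) (kb xb12 yb55 zb56) (kb xb27 yb22 zb20) (kb xb24 yb58 zb1) (kb xb25 yb52 zb53) (kb xb9 yb31 zb54) (kb xb27 yb22 zb23) (kb xb21 yb35 zb38) (kb xb10 yb38 zb44) (kb xb15 yb25 zb44) (kb xb9 yb31 zb55) (kb xb15 yb32 zb28) (kb xb18 yb0 zb21) (kb xb27 yb22 zb30) (kb xb12 yb56 zb10) (kb xb27 yb22 zb33)) (@D3.rec (fun _ => Pt) (kb xb25 yb53 zb17) (kb xb12 yb3 zb46) (kb xb9 yb31 zb59) (kb xb9 yb31 zb60) (kb xb12 yb10 zb32) (kb xb26 yb21 zb57) (kb xb9 yb32 zb1) (kb xb9 yb32 zb2) (kb xb27 yb22 zb38) (kb xb11 yb35 zb48) (kb xb27 yb22 zb40) (kb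 xb20 yb40 zb56) (kb xb9 yb32 zb5) (kb xb22 yb20 zb27) (kb xb9 yb32 zb6) (kb xb27 yb22 zb43) (kb xb13 yb45 zb31) (kb xb12 yb44 zb40) (kb xb9 yb58 zb45) (kb xb10 yb34 zb35) (kb xb10 yb27 zb6) (kb xb12 yb2 zb54) (kb xb12 yb54 zb33) (kb xb22 yb5 zb29) (kb xb9 yb32 zb12) (kb xb9 yb32 zb14) (kb xb24 yb50 zb43) (kb xb19 yb39 zb6) (kb xb9 yb32 zb15) (kb xb27 yb22 zb49) (kb xb20 yb12 zb5) (kb xb9 yb32 zb16) (kb xb25 yb21 zb52) (kb xb15 yb2 zb50) (kb xb9 yb32 zb25) (kb xb12 yb56 zb30) (kb xb22 yb4 zb58) (kb xb9 yb32 zb19) (kb xb12 yb56 zb36) (kb xb21 yb54 zb19) (kb xb27 yb22 zb57) (kb xb26 yb25 zb33) (kb xb9 yb32 zb22) (kb xb9 yb32 zb24) (kb xb14 yb35 zb38) (kb xb10 yb1 zb40) (kb xb9 yb32 zb29) (kb xb9 yb32 zb31) (kb xb9 yb32 zb32) (kb xb20 yb27 zb36) (kb xb27 yb23 zb1) (kb xb12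 yb58 zb11) (kb xb9 yb32 zb37) (kb xb12 yb38 zb16) (kb xb9 yb32 zb39) (kb xb25 yb19 zb3) (kb xb9 yb32 zb41) (kb xb21 yb36 zb21) (kb xb27 yb23 zb4) (kb xb9 yb32 zb43) (kb xb27 yb23 zb6) (kb xb12 yb39 zb56)) (@D3.rec (fun _ => Pt) (kb xb9 yb32 zb54) (kb xb27 yb23 zb9) (kb xb12 yb29 zb29) (kb xb20 yb13 zb12) (kb xb9 yb32 zb55) (kb xb27 yb23 zb13) (kb xb20 yb42 zb20) (kb xb12 yb58 zb46) (kb xb21 yb36 zb29) (kb xb18 yb42 zb17) (kb xb18 yb29 zb41) (kb xb9 yb32 zb60) (kb xb23 yb22 zb18) (kb xb12 yb59 zb26) (kb xb26 yb3 zb59) (kb xb26 yb5 zb22) (kb xb9 yb33 zb2) (kb xb26 yb15 zb59) (kb xb27 yb3 zb56) (kb xb9 yb33 zb4) (kb xb23 yb22 zb28) (kb xb20 yb14 zb27) (kb xb16 yb0 zb8) (kb xb9 yb33 zb10) (kb xb25 yb58 zb50) (kb xb21 yb16 zb22) (kb xb9 yb33 zb9) (kb xb27 yb23 zb30) (kb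 xb27 yb23 zb31) (kb xb27 yb23 zb24) (kb xb13 yb0 zb1) (kb xb20 yb13 zb8) (kb xb25 yb54 zb32) (kb xb9 yb33 zb13) (kb xb25 yb54 zb35) (kb xb13 yb0 zb25) (kb xb12 yb12 zb56) (kb xb27 yb23 zb38) (kb xb9 yb33 zb14) (kb xb13 yb50 zb4) (kb xb10 yb19 zb60) (kb xb15 yb51 zb57) (kb xb9 yb33 zb16) (kb xb27 yb23 zb46) (kb xb15 yb51 zb8) (kb xb9 yb33 zb25) (kb xb9 yb41 zb39) (kb xb27 yb15 zb42) (kb xb27 yb23 zb51) (kb xb19 yb7 zb51) (kb xb9 yb33 zb21) (kb xb27 yb23 zb56) (kb xb11 yb2 zb32) (kb xb25 yb44 zb0) (kb xb27 yb23 zb61) (kb xb15 yb29 zb50) (kb xb9 yb33 zb24) (kb xb27 yb24 zb1) (kb xb27 yb24 zb4) (kb xb26 yb20 zb7) (kb xb24 yb1 zb39) (kb xb10 yb45 zb3)) (@D3.rec (fun _ => Pt) (kb xb24 yb7 zb56) (kb xb9 yb33 zb30) (kb xb25 yb43 zb39) (kb xb9 yb33 zb33) (kb xb15 yb15 zb58)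 (kb xb26 yb44 zb27) (kb xb15 yb52 zb53) (kb xb21 yb0 zb60) (kb xb9 yb33 zb34) (kb xb27 yb24 zb15) (kb xb25 yb54 zb5) (kb xb27 yb24 zb12) (kb xb26 yb10 zb21) (kb xb9 yb33 zb35) (kb xb10 yb34 zb38) (kb xb27 yb24 zb23) (kb xb9 yb47 zb21) (kb xb15 yb53 zb2) (kb xb27 yb24 zb30) (kb xb27 yb17 zb46) (kb xb21 yb43 zb6) (kb xb9 yb33 zb42) (kb xb9 yb33 zb40) (kb xb15 yb33 zb34) (kb xb9 yb33 zb41) (kb xb26 yb4 zb11) (kb xb27 yb24 zb37) (kb xb17 yb30 zb25) (kb xb9 yb34 zb29) (kb xb9 yb33 zb46) (kb xb9 yb33 zb47) (kb xb17 yb41 zb11) (kb xb22 yb8 zb51) (kb xb22 yb28 zb25) (kb xb15 yb35 zb33) (kb xb27 yb24 zb46) (kb xb9 yb34 zb57) (kb xb9 yb33 zb49) (kb xb9 yb33 zb50) (kb xb27 yb24 zb49) (kb xb27 yb24 zb52) (kb xb22 yb2 zb56) (kb xb27 yb24 zb54) (kb xb9 yb37 zb13) (kb xb9 yb35 zb10)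 (kb xb9 yb33 zb53) (kb xb9 yb33 zb54) (kb xb27 yb24 zb57) (kb xb12 yb50 zb22) (kb xb27 yb24 zb58) (kb xb24 yb56 zb1) (kb xb19 yb59 zb40) (kb xb25 yb58 zb56) (kb xb9 yb36 zb1) (kb xb27 yb25 zb3) (kb xb9 yb33 zb60) (kb xb27 yb25 zb6) (kb xb27 yb25 zb4) (kb xb27 yb25 zb5) (kb xb26 yb10 zb30) (kb xb9 yb33 zb61) (kb xb14 yb57 zb53)) (@D3.rec (fun _ => Pt) (kb xb27 yb24 zb59) (kb xb23 yb46 zb58) (kb xb9 yb36 zb8) (kb xb27 yb25 zb17) (kb xb27 yb25 zb19) (kb xb17 yb41 zb0) (kb xb9 yb34 zb3) (kb xb27 yb25 zb22) (kb xb27 yb25 zb24) (kb xb26 yb12 zb6) (kb xb20 yb36 zb20) (kb xb27 yb11 zb33) (kb xb25 yb47 zb11) (kb xb9 yb34 zb6) (kb xb27 yb25 zb28) (kb xb9 yb34 zb8) (kb xb27 yb25 zb29) (kb xb27 yb25 zb30) (kb xb27 yb20 zb55) (kb xb15 yb34 zb46) (kb xb27 yb4 zb24) (kb xb21 yb55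 zb2) (kb xb27 yb25 zb34) (kb xb15 yb48 zb54) (kb xb9 yb34 zb16) (kb xb9 yb34 zb17) (kb xb24 yb44 zb30) (kb xb27 yb25 zb40) (kb xb21 yb23 zb8) (kb xb24 yb44 zb31) (kb xb15 yb23 zb24) (kb xb21 yb57 zb13) (kb xb26 yb12 zb22) (kb xb23 yb1 zb55) (kb xb20 yb15 zb32) (kb xb9 yb34 zb22) (kb xb9 yb34 zb23) (kb xb17 yb39 zb18) (kb xb27 yb25 zb46) (kb xb9 yb39 zb14) (kb xb22 yb8 zb12) (kb xb23 yb42 zb25) (kb xb9 yb34 zb25) (kb xb9 yb34 zb26) (kb xb27 yb25 zb48) (kb xb14 yb35 zb16) (kb xb9 yb34 zb27) (kb xb25 yb7 zb52) (kb xb17 yb39 zb10) (kb xb27 yb25 zb53) (kb xb9 yb34 zb28) (kb xb15 yb56 zb58) (kb xb27 yb25 zb38) (kb xb27 yb25 zb55) (kb xb27 yb24 zb38) (kb xb23 yb1 zb52) (kb xb17 yb37 zb58) (kb xb27 yb26 zb4) (kb xb17 yb37 zb56) (kb xb9 yb34 zb33) (kb xb22 yb27 zb54) (kb xb9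 yb52 zb15)) (@D3.rec (fun _ => Pt) (kb xb9 yb34 zb36) (kb xb9 yb34 zb37) (kb xb9 yb34 zb32) (kb xb27 yb26 zb17) (kb xb27 yb24 zb42) (kb xb27 yb26 zb22) (kb xb27 yb26 zb9) (kb xb27 yb26 zb10) (kb xb9 yb34 zb34) (kb xb9 yb34 zb35) (kb xb21 yb41 zb57) (kb xb23 yb17 zb55) (kb xb27 yb26 zb25) (kb xb16 yb35 zb52) (kb xb27 yb26 zb16) (kb xb9 yb34 zb38) (kb xb17 yb44 zb26) (kb xb27 yb26 zb26) (kb xb18 yb46 zb45) (kb xb27 yb26 zb27) (kb xb9 yb34 zb43) (kb xb22 yb34 zb38) (kb xb14 yb2 zb22) (kb xb27 yb26 zb30) (kb xb26 yb1 zb23) (kb xb15 yb53 zb28) (kb xb22 yb45 zb19) (kb xb15 yb36 zb53) (kb xb27 yb26 zb32) (kb xb27 yb26 zb35) (kb xb16 yb14 zb20) (kb xb9 yb34 zb52) (kb xb12 yb24 zb49) (kb xb9 yb34 zb55) (kb xb23 yb36 zb22) (kb xb27 yb26 zb40) (kb xb27 yb26 zb41) (kb xb9 yb34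 zb56) (kb xb27 yb24 zb47) (kb xb27 yb24 zb48) (kb xb27 yb26 zb45) (kb xb27 yb26 zb47) (kb xb17 yb41 zb9) (kb xb9 yb34 zb60) (kb xb22 yb2 zb52) (kb xb12 yb25 zb50) (kb xb9 yb35 zb1) (kb xb9 yb35 zb2) (kb xb16 yb14 zb40) (kb xb27 yb26 zb49) (kb xb12 yb35 zb48) (kb xb9 yb35 zb0) (kb xb27 yb25 zb2) (kb xb12 yb29 zb35) (kb xb27 yb26 zb57) (kb xb27 yb26 zb52) (kb xb9 yb35 zb4) (kb xb26 yb47 zb17) (kb xb15 yb6 zb54) (kb xb27 yb26 zb61) (kb xb16 yb14 zb33) (kb xb9 yb35 zb7)) (@D3.rec (fun _ => Pt) (kb xb18 yb4 zb27) (kb xb9 yb35 zb8) (kb xb15 yb52 zb47) (kb xb18 yb7 zb38) (kb xb9 yb35 zb9) (kb xb15 yb57 zb18) (kb xb25 yb1 zb48) (kb xb27 yb24 zb56) (kb xb25 yb29 zb52) (kb xb25 yb45 zb24) (kb xb17 yb37 zb48) (kb xb9 yb35 zb15) (kb xb27 yb27 zb4) (kb xb9 yb35 zb18) (kb xb9 yb35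 zb19) (kb xb9 yb35 zb13) (kb xb27 yb27 zb9) (kb xb9 yb35 zb14) (kb xb17 yb37 zb37) (kb xb27 yb27 zb14) (kb xb15 yb34 zb44) (kb xb25 yb32 zb43) (kb xb21 yb37 zb30) (kb xb9 yb35 zb17) (kb xb26 yb10 zb50) (kb xb24 yb18 zb31) (kb xb27 yb27 zb21) (kb xb27 yb27 zb23) (kb xb27 yb27 zb6) (kb xb9 yb35 zb20) (kb xb14 yb57 zb39) (kb xb27 yb27 zb25) (kb xb12 yb50 zb13) (kb xb12 yb50 zb14) (kb xb15 yb6 zb44) (kb xb18 yb44 zb18) (kb xb24 yb36 zb51) (kb xb19 yb5 zb43) (kb xb9 yb35 zb27) (kb xb18 yb22 zb52) (kb xb19 yb36 zb9) (kb xb15 yb50 zb42) (kb xb11 yb6 zb16) (kb xb9 yb35 zb45) (kb xb9 yb35 zb32) (kb xb25 yb41 zb18) (kb xb9 yb35 zb33) (kb xb22 yb8 zb19) (kb xb25 yb58 zb47) (kb xb27 yb20 zb31) (kb xb17 yb40 zb7) (kb xb9 yb35 zb37) (kb xb9 yb35 zb40) (kb xb27 yb27 zb33) (kb xb27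 yb27 zb31) (kb xb27 yb27 zb32) (kb xb12 yb35 zb50) (kb xb9 yb35 zb39) (kb xb9 yb35 zb43) (kb xb9 yb35 zb44) (kb xb24 yb7 zb33) (kb xb25 yb58 zb42)) (@D3.rec (fun _ => Pt) (kb xb25 yb58 zb43) (kb xb9 yb35 zb47) (kb xb17 yb42 zb20) (kb xb27 yb27 zb37) (kb xb25 yb32 zb42) (kb xb27 yb27 zb42) (kb xb27 yb27 zb44) (kb xb17 yb39 zb50) (kb xb9 yb35 zb52) (kb xb12 yb50 zb56) (kb xb9 yb35 zb54) (kb xb9 yb35 zb51) (kb xb16 yb18 zb41) (kb xb12 yb50 zb3) (kb xb15 yb42 zb37) (kb xb13 yb1 zb11) (kb xb9 yb35 zb55) (kb xb27 yb27 zb51) (kb xb9 yb35 zb56) (kb xb26 yb11 zb30) (kb xb27 yb27 zb54) (kb xb26 yb11 zb34) (kb xb21 yb31 zb14) (kb xb27 yb27 zb60) (kb xb9 yb35 zb60) (kb xb27 yb28 zb1) (kb xb21 yb37 zb5) (kb xb9 yb35 zb61) (kb xb9 yb36 zb0) (kb xb27 yb27 zb10) (kb xb17 yb44 zb25)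 (kb xb17 yb40 zb45) (kb xb17 yb41 zb20) (kb xb9 yb53 zb30) (kb xb27 yb25 zb12) (kb xb25 yb58 zb38) (kb xb9 yb36 zb3) (kb xb9 yb36 zb4) (kb xb9 yb36 zb5) (kb xb27 yb25 zb10) (kb xb27 yb28 zb14) (kb xb27 yb28 zb8) (kb xb18 yb8 zb18) (kb xb25 yb39 zb33) (kb xb9 yb36 zb7) (kb xb17 yb40 zb31) (kb xb27 yb28 zb17) (kb xb27 yb28 zb18) (kb xb9 yb36 zb18) (kb xb24 yb56 zb10) (kb xb26 yb12 zb5) (kb xb9 yb36 zb9) (kb xb27 yb28 zb22) (kb xb25 yb28 zb60) (kb xb9 yb36 zb10) (kb xb18 yb27 zb41) (kb xb26 yb11 zb22) (kb xb27 yb28 zb25) (kb xb27 yb28 zb27) (kb xb9 yb36 zb11) (kb xb27 yb28 zb32) (kb xb27 yb24 zb39)) (@D3.rec (fun _ => Pt) (kb xb17 yb37 zb5) (kb xb25 yb0 zb30) (kb xb27 yb26 zb7) (kb xb9 yb36 zb23) (kb xb9 yb36 zb24) (kb xb27 yb28 zb35) (kb xb27 yb28 zb36) (kb xb9 yb36 zb25)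 (kb xb25 yb28 zb51) (kb xb17 yb38 zb42) (kb xb9 yb36 zb16) (kb xb17 yb36 zb31) (kb xb27 yb28 zb24) (kb xb27 yb28 zb42) (kb xb27 yb28 zb43) (kb xb25 yb28 zb53) (kb xb26 yb12 zb13) (kb xb15 yb48 zb53) (kb xb27 yb28 zb48) (kb xb27 yb26 zb21) (kb xb17 yb40 zb32) (kb xb9 yb36 zb20) (kb xb27 yb26 zb5) (kb xb27 yb28 zb53) (kb xb9 yb52 zb44) (kb xb18 yb27 zb34) (kb xb9 yb36 zb21) (kb xb15 yb7 zb12) (kb xb9 yb36 zb22) (kb xb27 yb28 zb21) (kb xb27 yb29 zb1) (kb xb27 yb29 zb2) (kb xb27 yb28 zb34) (kb xb27 yb29 zb5) (kb xb27 yb28 zb33) (kb xb24 yb55 zb24) (kb xb14 yb3 zb50) (kb xb18 yb10 zb19) (kb xb9 yb55 zb2) (kb xb9 yb36 zb28) (kb xb9 yb36 zb29) (kb xb9 yb36 zb27) (kb xb18 yb3 zb60) (kb xb27 yb29 zb11) (kb xb18 yb4 zb4) (kb xb9 yb36 zb32) (kb xb9 yb36 zb33) (kb xb9 yb36 zb31)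 (kb xb27 yb29 zb12) (kb xb23 yb22 zb12) (kb xb25 yb15 zb40) (kb xb25 yb44 zb34) (kb xb17 yb29 zb37) (kb xb17 yb43 zb19) (kb xb20 yb16 zb7) (kb xb27 yb29 zb17) (kb xb11 yb16 zb42) (kb xb9 yb36 zb40) (kb xb21 yb18 zb46) (kb xb12 yb12 zb15) (kb xb21 yb44 zb56) (kb xb11 yb18 zb24)) (@D3.rec (fun _ => Pt) (kb xb12 yb18 zb31) (kb xb12 yb26 zb28) (kb xb9 yb36 zb43) (kb xb17 yb52 zb4) (kb xb9 yb36 zb44) (kb xb14 yb55 zb53) (kb xb27 yb29 zb26) (kb xb20 yb49 zb38) (kb xb9 yb36 zb48) (kb xb21 yb59 zb32) (kb xb9 yb36 zb47) (kb xb9 yb42 zb7) (kb xb27 yb29 zb32) (kb xb9 yb36 zb52) (kb xb9 yb36 zb53) (kb xb17 yb29 zb35) (kb xb17 yb29 zb36) (kb xb26 yb48 zb38) (kb xb26 yb1 zb40) (kb xb9 yb36 zb55) (kb xb17 yb40 zb2) (kb xb21 yb45 zb57) (kb xb9 yb36 zb57) (kb xb17 yb52 zb12) (kb xb18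 yb14 zb58) (kb xb27 yb29 zb36) (kb xb17 yb52 zb1) (kb xb16 yb13 zb57) (kb xb9 yb37 zb0) (kb xb24 yb58 zb33) (kb xb17 yb48 zb26) (kb xb9 yb37 zb2) (kb xb27 yb29 zb41) (kb xb9 yb37 zb3) (kb xb27 yb29 zb43) (kb xb9 yb55 zb16) (kb xb9 yb37 zb7) (kb xb9 yb37 zb6) (kb xb27 yb29 zb49) (kb xb24 yb43 zb24) (kb xb9 yb37 zb9) (kb xb9 yb59 zb30) (kb xb16 yb14 zb35) (kb xb9 yb37 zb12) (kb xb27 yb29 zb0) (kb xb18 yb7 zb20) (kb xb26 yb15 zb1) (kb xb16 yb14 zb34) (kb xb9 yb37 zb15) (kb xb9 yb37 zb16) (kb xb27 yb29 zb55) (kb xb22 yb15 zb14) (kb xb26 yb11 zb35) (kb xb25 yb35 zb54) (kb xb27 yb25 zb32) (kb xb9 yb37 zb18) (kb xb26 yb16 zb0) (kb xb9 yb37 zb20) (kb xb27 yb29 zb60) (kb xb27 yb29 zb59) (kb xb9 yb52 zb40) (kb xb19 yb19 zb57)) (@D3.rec (fun _ => Pt) (kb xb27 yb30 zb2) (kb xb25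 yb1 zb12) (kb xb9 yb38 zb35) (kb xb9 yb54 zb19) (kb xb26 yb12 zb3) (kb xb18 yb7 zb41) (kb xb11 yb10 zb0) (kb xb11 yb10 zb4) (kb xb9 yb37 zb33) (kb xb15 yb1 zb52) (kb xb27 yb30 zb10) (kb xb15 yb18 zb2) (kb xb27 yb30 zb16) (kb xb9 yb37 zb36) (kb xb9 yb37 zb37) (kb xb27 yb30 zb20) (kb xb27 yb30 zb21) (kb xb19 yb26 zb6) (kb xb10 yb46 zb14) (kb xb17 yb41 zb53) (kb xb9 yb37 zb43) (kb xb27 yb23 zb59) (kb xb20 yb2 zb28) (kb xb9 yb37 zb46) (kb xb27 yb30 zb23) (kb xb23 yb38 zb4) (kb xb12 yb30 zb38) (kb xb16 yb4 zb26) (kb xb9 yb37 zb51) (kb xb26 yb5 zb14) (kb xb16 yb1 zb34) (kb xb18 yb52 zb20) (kb xb23 yb42 zb59) (kb xb26 yb15 zb29) (kb xb19 yb54 zb25) (kb xb13 yb5 zb11) (kb xb9 yb37 zb60) (kb xb26 yb15 zb42) (kb xb21 yb45 zb53) (kb xb25 yb35 zb9) (kb xb25 yb35 zb10) (kb xb9 yb38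 zb0) (kb xb17 yb45 zb12) (kb xb23 yb51 zb48) (kb xb25 yb18 zb56) (kb xb16 yb16 zb9) (kb xb16 yb16 zb10) (kb xb11 yb18 zb13) (kb xb14 yb57 zb23) (kb xb9 yb38 zb5) (kb xb21 yb34 zb0) (kb xb21 yb49 zb51) (kb xb9 yb38 zb6) (kb xb9 yb38 zb7) (kb xb27 yb30 zb35) (kb xb27 yb30 zb36) (kb xb21 yb33 zb57) (kb xb16 yb17 zb18) (kb xb21 yb57 zb16) (kb xb9 yb38 zb8) (kb xb27 yb30 zb45) (kb xb9 yb38 zb9)) (@D3.rec (fun _ => Pt) (kb xb15 yb19 zb49) (kb xb27 yb30 zb48) (kb xb16 yb16 zb46) (kb xb12 yb26 zb50) (kb xb14 yb58 zb33) (kb xb27 yb30 zb51) (kb xb21 yb19 zb54) (kb xb9 yb38 zb14) (kb xb9 yb38 zb15) (kb xb23 yb2 zb12) (kb xb15 yb12 zb32) (kb xb27 yb30 zb55) (kb xb24 yb54 zb58) (kb xb21 yb58 zb33) (kb xb9 yb38 zb18) (kb xb24 yb54 zb54) (kb xb15 yb11 zb21) (kb xb18 yb26 zb36) (kb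 xb21 yb58 zb31) (kb xb17 yb52 zb51) (kb xb9 yb38 zb20) (kb xb27 yb31 zb5) (kb xb18 yb26 zb42) (kb xb24 yb55 zb5) (kb xb9 yb38 zb22) (kb xb17 yb40 zb30) (kb xb17 yb38 zb16) (kb xb9 yb38 zb23) (kb xb27 yb31 zb10) (kb xb27 yb31 zb9) (kb xb16 yb18 zb20) (kb xb22 yb15 zb15) (kb xb24 yb56 zb13) (kb xb9 yb38 zb32) (kb xb16 yb15 zb6) (kb xb14 yb59 zb3) (kb xb9 yb38 zb27) (kb xb27 yb31 zb18) (kb xb16 yb15 zb39) (kb xb9 yb38 zb29) (kb xb27 yb31 zb19) (kb xb22 yb18 zb21) (kb xb24 yb55 zb54) (kb xb24 yb55 zb55) (kb xb9 yb38 zb31) (kb xb27 yb25 zb57) (kb xb27 yb25 zb59) (kb xb9 yb38 zb33) (kb xb18 yb16 zb30) (kb xb27 yb5 zb51) (kb xb18 yb16 zb56) (kb xb23 yb37 zb0) (kb xb18 yb32 zb1) (kb xb9 yb57 zb29) (kb xb9 yb38 zb37) (kb xb9 yb38 zb38) (kb xb18 yb8 zb21) (kb xb9 yb38 zb40) (kb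 xb9 yb38 zb41) (kb xb27 yb31 zb33) (kb xb12 yb50 zb31) (kb xb9 yb43 zb6)) (@D3.rec (fun _ => Pt) (kb xb9 yb38 zb46) (kb xb27 yb31 zb34) (kb xb9 yb38 zb51) (kb xb27 yb31 zb35) (kb xb9 yb38 zb50) (kb xb17 yb5 zb56) (kb xb9 yb38 zb55) (kb xb12 yb40 zb17) (kb xb24 yb15 zb56) (kb xb21 yb57 zb14) (kb xb27 yb31 zb37) (kb xb9 yb38 zb58) (kb xb17 yb43 zb42) (kb xb24 yb7 zb10) (kb xb9 yb39 zb1) (kb xb9 yb39 zb0) (kb xb24 yb42 zb57) (kb xb9 yb39 zb6) (kb xb26 yb20 zb47) (kb xb27 yb31 zb40) (kb xb17 yb54 zb28) (kb xb9 yb39 zb9) (kb xb9 yb39 zb10) (kb xb27 yb31 zb45) (kb xb16 yb20 zb2) (kb xb19 yb15 zb15) (kb xb27 yb31 zb43) (kb xb27 yb31 zb44) (kb xb9 yb39 zb11) (kb xb27 yb31 zb53) (kb xb27 yb31 zb54) (kb xb10 yb7 zb42) (kb xb16 yb14 zb41) (kb xb9 yb39 zb19) (kb xb10 yb54 zb10)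 (kb xb15 yb50 zb44) (kb xb9 yb39 zb43) (kb xb9 yb52 zb1) (kb xb15 yb11 zb39) (kb xb14 yb13 zb26) (kb xb25 yb3 zb15) (kb xb17 yb54 zb36) (kb xb12 yb6 zb29) (kb xb9 yb39 zb29) (kb xb27 yb32 zb0) (kb xb9 yb52 zb25) (kb xb15 yb50 zb43) (kb xb15 yb50 zb45) (kb xb18 yb58 zb36) (kb xb17 yb46 zb59) (kb xb18 yb15 zb54) (kb xb25 yb1 zb42) (kb xb18 yb9 zb23) (kb xb9 yb55 zb9) (kb xb9 yb39 zb36) (kb xb9 yb39 zb37) (kb xb18 yb13 zb33) (kb xb27 yb32 zb14) (kb xb27 yb32 zb15) (kb xb10 yb12 zb30) (kb xb10 yb12 zb29) (kb xb25 yb0 zb57)) (@D3.rec (fun _ => Pt) (kb xb18 yb33 zb8) (kb xb9 yb57 zb26) (kb xb9 yb39 zb40) (kb xb9 yb39 zb41) (kb xb27 yb32 zb26) (kb xb27 yb32 zb12) (kb xb27 yb32 zb35) (kb xb27 yb32 zb29) (kb xb27 yb32 zb30) (kb xb27 yb32 zb41) (kb xb18 yb27 zb58) (kb xb27 yb32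 zb43) (kb xb26 yb20 zb8) (kb xb27 yb32 zb46) (kb xb27 yb32 zb49) (kb xb17 yb47 zb23) (kb xb9 yb39 zb46) (kb xb9 yb39 zb47) (kb xb27 yb32 zb56) (kb xb17 yb46 zb20) (kb xb17 yb46 zb19) (kb xb9 yb57 zb47) (kb xb9 yb39 zb60) (kb xb17 yb47 zb31) (kb xb9 yb39 zb50) (kb xb20 yb21 zb28) (kb xb27 yb33 zb5) (kb xb17 yb47 zb37) (kb xb27 yb33 zb9) (kb xb19 yb0 zb21) (kb xb17 yb47 zb50) (kb xb9 yb39 zb57) (kb xb9 yb39 zb52) (kb xb16 yb35 zb22) (kb xb18 yb53 zb46) (kb xb27 yb33 zb14) (kb xb10 yb8 zb39) (kb xb9 yb39 zb59) (kb xb9 yb39 zb61) (kb xb9 yb39 zb56) (kb xb27 yb33 zb22) (kb xb27 yb33 zb12) (kb xb9 yb39 zb58) (kb xb18 yb6 zb23) (kb xb24 yb48 zb1) (kb xb27 yb33 zb1) (kb xb27 yb33 zb29) (kb xb27 yb33 zb31) (kb xb27 yb33 zb20) (kb xb27 yb33 zb36) (kb xb17 yb48 zb0) (kb xb17 yb48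 zb1) (kb xb9 yb40 zb1) (kb xb27 yb33 zb40) (kb xb15 yb50 zb54) (kb xb15 yb30 zb61) (kb xb15 yb50 zb56) (kb xb27 yb33 zb42) (kb xb24 yb54 zb7) (kb xb17 yb45 zb49) (kb xb15 yb31 zb5) (kb xb24 yb58 zb49)) (@D3.rec (fun _ => Pt) (kb xb18 yb13 zb13) (kb xb10 yb11 zb2) (kb xb9 yb40 zb8) (kb xb9 yb40 zb9) (kb xb27 yb33 zb53) (kb xb27 yb33 zb59) (kb xb18 yb35 zb24) (kb xb18 yb35 zb23) (kb xb27 yb34 zb2) (kb xb18 yb28 zb57) (kb xb18 yb9 zb30) (kb xb10 yb12 zb23) (kb xb9 yb40 zb13) (kb xb9 yb40 zb14) (kb xb27 yb34 zb8) (kb xb27 yb33 zb56) (kb xb27 yb34 zb16) (kb xb27 yb29 zb35) (kb xb18 yb31 zb42) (kb xb27 yb34 zb18) (kb xb25 yb0 zb46) (kb xb27 yb34 zb21) (kb xb10 yb12 zb38) (kb xb17 yb46 zb15) (kb xb9 yb40 zb19) (kb xb9 yb40 zb20) (kb xb27 yb34 zb24) (kb xb27 yb34 zb26) (kb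 xb27 yb34 zb27) (kb xb27 yb34 zb30) (kb xb27 yb34 zb32) (kb xb17 yb46 zb23) (kb xb9 yb40 zb22) (kb xb9 yb40 zb23) (kb xb20 yb21 zb24) (kb xb27 yb32 zb61) (kb xb27 yb32 zb60) (kb xb17 yb46 zb27) (kb xb18 yb13 zb47) (kb xb9 yb40 zb24) (kb xb20 yb45 zb33) (kb xb27 yb31 zb32) (kb xb27 yb34 zb48) (kb xb25 yb3 zb44) (kb xb9 yb40 zb25) (kb xb10 yb21 zb43) (kb xb18 yb9 zb4) (kb xb27 yb34 zb55) (kb xb25 yb3 zb41) (kb xb9 yb40 zb34) (kb xb17 yb46 zb30) (kb xb9 yb40 zb30) (kb xb27 yb35 zb3) (kb xb9 yb58 zb61) (kb xb15 yb0 zb41) (kb xb27 yb33 zb13) (kb xb10 yb11 zb57) (kb xb18 yb13 zb48) (kb xb27 yb35 zb12) (kb xb27 yb35 zb14) (kb xb27 yb35 zb1) (kb xb27 yb35 zb19)) (@D3.rec (fun _ => Pt) (kb xb17 yb46 zb50) (kb xb17 yb46 zb51) (kb xb27 yb35 zb23) (kb xb9 yb43 zb40) (kb xb9 yb41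 zb27) (kb xb9 yb40 zb37) (kb xb27 yb35 zb25) (kb xb14 yb9 zb4) (kb xb10 yb36 zb26) (kb xb27 yb35 zb30) (kb xb9 yb41 zb55) (kb xb9 yb40 zb40) (kb xb9 yb40 zb41) (kb xb21 yb7 zb45) (kb xb27 yb35 zb33) (kb xb9 yb42 zb10) (kb xb9 yb40 zb43) (kb xb9 yb40 zb44) (kb xb18 yb32 zb42) (kb xb26 yb10 zb38) (kb xb18 yb9 zb0) (kb xb18 yb41 zb39) (kb xb27 yb35 zb34) (kb xb17 yb6 zb12) (kb xb17 yb4 zb26) (kb xb27 yb35 zb37) (kb xb17 yb42 zb30) (kb xb25 yb12 zb53) (kb xb9 yb42 zb58) (kb xb9 yb40 zb52) (kb xb9 yb40 zb53) (kb xb24 yb21 zb57) (kb xb9 yb43 zb2) (kb xb27 yb35 zb42) (kb xb25 yb11 zb18) (kb xb25 yb13 zb0) (kb xb15 yb9 zb34) (kb xb9 yb40 zb55) (kb xb24 yb50 zb30) (kb xb21 yb32 zb27) (kb xb9 yb43 zb7) (kb xb26 yb16 zb11) (kb xb10 yb41 zb57) (kb xb9 yb40 zb60) (kb xb9 yb40 zb61)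 (kb xb9 yb40 zb59) (kb xb10 yb20 zb28) (kb xb15 yb28 zb14) (kb xb16 yb8 zb14) (kb xb27 yb35 zb54) (kb xb19 yb44 zb2) (kb xb9 yb41 zb2) (kb xb27 yb35 zb57) (kb xb25 yb26 zb55) (kb xb11 yb2 zb57) (kb xb15 yb51 zb22) (kb xb19 yb14 zb60) (kb xb27 yb35 zb61) (kb xb24 yb49 zb7) (kb xb9 yb41 zb9) (kb xb27 yb36 zb2) (kb xb15 yb28 zb45)) (@D3.rec (fun _ => Pt) (kb xb15 yb51 zb11) (kb xb20 yb2 zb47) (kb xb22 yb22 zb6) (kb xb9 yb57 zb18) (kb xb9 yb41 zb14) (kb xb9 yb41 zb15) (kb xb27 yb36 zb9) (kb xb27 yb36 zb13) (kb xb18 yb0 zb41) (kb xb25 yb17 zb47) (kb xb27 yb36 zb12) (kb xb15 yb36 zb35) (kb xb24 yb19 zb9) (kb xb14 yb47 zb46) (kb xb18 yb22 zb22) (kb xb9 yb41 zb20) (kb xb9 yb41 zb21) (kb xb27 yb36 zb20) (kb xb27 yb36 zb23) (kb xb26 yb58 zb61) (kb xb10 yb55 zb42) (kb xb21 yb53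 zb14) (kb xb9 yb41 zb25) (kb xb27 yb36 zb30) (kb xb10 yb16 zb59) (kb xb27 yb36 zb28) (kb xb9 yb41 zb26) (kb xb16 yb36 zb13) (kb xb27 yb36 zb34) (kb xb27 yb36 zb35) (kb xb26 yb15 zb4) (kb xb13 yb45 zb51) (kb xb18 yb36 zb34) (kb xb19 yb15 zb49) (kb xb10 yb42 zb10) (kb xb9 yb41 zb31) (kb xb18 yb2 zb24) (kb xb25 yb17 zb43) (kb xb9 yb41 zb34) (kb xb9 yb41 zb35) (kb xb9 yb41 zb30) (kb xb18 yb37 zb24) (kb xb26 yb39 zb41) (kb xb18 yb36 zb14) (kb xb19 yb10 zb55) (kb xb27 yb36 zb15) (kb xb9 yb41 zb32) (kb xb25 yb44 zb39) (kb xb9 yb41 zb33) (kb xb12 yb5 zb48) (kb xb17 yb29 zb43) (kb xb27 yb36 zb40) (kb xb18 yb2 zb27) (kb xb27 yb36 zb58) (kb xb27 yb36 zb50) (kb xb20 yb53 zb37) (kb xb18 yb11 zb46) (kb xb27 yb36 zb61) (kb xb15 yb1 zb39) (kb xb9 yb41 zb38) (kb xb27 yb37 zb4) (kb xb27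 yb37 zb5)) (@D3.rec (fun _ => Pt) (kb xb15 yb28 zb36) (kb xb27 yb37 zb9) (kb xb15 yb28 zb50) (kb xb20 yb26 zb41) (kb xb14 yb30 zb35) (kb xb27 yb37 zb14) (kb xb15 yb51 zb31) (kb xb9 yb41 zb45) (kb xb19 yb15 zb60) (kb xb27 yb37 zb15) (kb xb25 yb50 zb26) (kb xb25 yb31 zb15) (kb xb9 yb41 zb50) (kb xb27 yb37 zb22) (kb xb9 yb41 zb53) (kb xb19 yb30 zb36) (kb xb18 yb10 zb20) (kb xb18 yb1 zb22) (kb xb27 yb35 zb31) (kb xb16 yb42 zb22) (kb xb27 yb37 zb27) (kb xb9 yb58 zb54) (kb xb27 yb37 zb29) (kb xb9 yb41 zb61) (kb xb9 yb59 zb20) (kb xb21 yb7 zb39) (kb xb10 yb0 zb20) (kb xb9 yb41 zb59) (kb xb12 yb37 zb20) (kb xb27 yb37 zb31) (kb xb9 yb41 zb60) (kb xb12 yb43 zb43) (kb xb12 yb15 zb51) (kb xb9 yb42 zb1) (kb xb11 yb38 zb35) (kb xb9 yb42 zb3) (kb xb19 yb5 zb11) (kb xb27 yb11 zb17)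 (kb xb24 yb48 zb56) (kb xb27 yb37 zb37) (kb xb15 yb21 zb28) (kb xb9 yb42 zb8) (kb xb19 yb5 zb6) (kb xb21 yb59 zb30) (kb xb9 yb42 zb9) (kb xb16 yb36 zb21) (kb xb17 yb52 zb56) (kb xb10 yb3 zb38) (kb xb27 yb37 zb44) (kb xb10 yb40 zb60) (kb xb9 yb42 zb12) (kb xb18 yb33 zb2) (kb xb9 yb42 zb13) (kb xb18 yb41 zb51) (kb xb12 yb27 zb26) (kb xb18 yb39 zb21) (kb xb21 yb7 zb47) (kb xb9 yb42 zb15) (kb xb25 yb45 zb36) (kb xb12 yb35 zb60) (kb xb9 yb42 zb18) (kb xb21 yb26 zb60)) (@D3.rec (fun _ => Pt) (kb xb25 yb23 zb57) (kb xb27 yb37 zb56) (kb xb17 yb8 zb55) (kb xb27 yb37 zb58) (kb xb20 yb11 zb6) (kb xb9 yb42 zb23) (kb xb27 yb37 zb61) (kb xb25 yb4 zb18) (kb xb19 yb51 zb29) (kb xb15 yb51 zb46) (kb xb9 yb42 zb25) (kb xb9 yb42 zb26) (kb xb13 yb36 zb30) (kb xb22 yb17 zb38) (kb xb19 yb19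 zb0) (kb xb9 yb42 zb30) (kb xb19 yb41 zb29) (kb xb21 yb7 zb46) (kb xb17 yb4 zb27) (kb xb18 yb33 zb52) (kb xb24 yb32 zb55) (kb xb18 yb38 zb22) (kb xb9 yb42 zb39) (kb xb18 yb31 zb18) (kb xb9 yb55 zb40) (kb xb21 yb43 zb44) (kb xb9 yb42 zb37) (kb xb17 yb9 zb33) (kb xb21 yb7 zb61) (kb xb27 yb38 zb5) (kb xb26 yb57 zb28) (kb xb18 yb43 zb50) (kb xb9 yb42 zb42) (kb xb23 yb49 zb10) (kb xb27 yb38 zb10) (kb xb17 yb52 zb38) (kb xb27 yb38 zb12) (kb xb27 yb38 zb13) (kb xb9 yb42 zb44) (kb xb27 yb38 zb17) (kb xb27 yb38 zb18) (kb xb26 yb39 zb34) (kb xb26 yb39 zb35) (kb xb17 yb14 zb7) (kb xb9 yb42 zb47) (kb xb15 yb20 zb47) (kb xb22 yb29 zb33) (kb xb18 yb2 zb41) (kb xb16 yb21 zb5) (kb xb19 yb17 zb7) (kb xb26 yb45 zb53) (kb xb9 yb51 zb44) (kb xb9 yb51 zb45) (kb xb10 yb10 zb38) (kb xb27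 yb38 zb29) (kb xb10 yb39 zb58) (kb xb9 yb42 zb53) (kb xb12 yb41 zb40) (kb xb9 yb42 zb55) (kb xb18 yb11 zb6) (kb xb26 yb10 zb27) (kb xb27 yb38 zb35)) (@D3.rec (fun _ => Pt) (kb xb25 yb41 zb2) (kb xb17 yb42 zb26) (kb xb9 yb42 zb56) (kb xb9 yb42 zb57) (kb xb17 yb42 zb3) (kb xb27 yb35 zb40) (kb xb10 yb11 zb17) (kb xb10 yb3 zb0) (kb xb18 yb57 zb39) (kb xb12 yb2 zb52) (kb xb12 yb2 zb57) (kb xb27 yb35 zb47) (kb xb17 yb42 zb23) (kb xb9 yb43 zb4) (kb xb18 yb12 zb51) (kb xb27 yb35 zb50) (kb xb9 yb43 zb8) (kb xb9 yb43 zb9) (kb xb19 yb10 zb38) (kb xb10 yb37 zb59) (kb xb9 yb43 zb12) (kb xb9 yb43 zb14) (kb xb27 yb38 zb49) (kb xb23 yb50 zb12) (kb xb10 yb41 zb9) (kb xb12 yb11 zb36) (kb xb10 yb22 zb21) (kb xb9 yb43 zb17) (kb xb27 yb38 zb51) (kb xb9 yb43 zb20) (kb xb9 yb50 zb4) (kb xb9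 yb43 zb21) (kb xb23 yb46 zb53) (kb xb9 yb43 zb24) (kb xb9 yb43 zb25) (kb xb9 yb43 zb23) (kb xb27 yb38 zb52) (kb xb25 yb44 zb52) (kb xb17 yb51 zb35) (kb xb25 yb16 zb43) (kb xb9 yb43 zb28) (kb xb9 yb43 zb27) (kb xb17 yb13 zb53) (kb xb11 yb19 zb37) (kb xb9 yb43 zb31) (kb xb9 yb43 zb30) (kb xb24 yb49 zb0) (kb xb9 yb43 zb32) (kb xb27 yb38 zb56) (kb xb27 yb38 zb57) (kb xb9 yb43 zb34) (kb xb17 yb44 zb19) (kb xb19 yb29 zb21) (kb xb27 yb38 zb61) (kb xb9 yb43 zb37) (kb xb9 yb43 zb38) (kb xb17 yb50 zb46) (kb xb25 yb17 zb16) (kb xb27 yb39 zb3) (kb xb14 yb43 zb39) (kb xb19 yb53 zb52) (kb xb9 yb43 zb47)) (@D3.rec (fun _ => Pt) (kb xb23 yb58 zb40) (kb xb23 yb28 zb50) (kb xb27 yb39 zb6) (kb xb21 yb54 zb37) (kb xb23 yb31 zb17) (kb xb9 yb43 zb49) (kb xb23 yb30 zb52) (kb xb27 yb39 zb11)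 (kb xb9 yb43 zb50) (kb xb22 yb40 zb39) (kb xb9 yb43 zb55) (kb xb9 yb43 zb54) (kb xb27 yb39 zb14) (kb xb27 yb39 zb15) (kb xb9 yb43 zb57) (kb xb27 yb39 zb17) (kb xb19 yb47 zb19) (kb xb9 yb44 zb0) (kb xb9 yb44 zb1) (kb xb19 yb46 zb50) (kb xb19 yb49 zb5) (kb xb9 yb44 zb9) (kb xb16 yb46 zb6) (kb xb27 yb39 zb19) (kb xb9 yb44 zb11) (kb xb9 yb44 zb12) (kb xb9 yb44 zb5) (kb xb27 yb36 zb52) (kb xb15 yb21 zb36) (kb xb9 yb44 zb7) (kb xb19 yb21 zb0) (kb xb17 yb58 zb29) (kb xb9 yb44 zb15) (kb xb19 yb36 zb12) (kb xb27 yb39 zb20) (kb xb19 yb43 zb22) (kb xb19 yb49 zb7) (kb xb26 yb46 zb20) (kb xb12 yb30 zb5) (kb xb9 yb44 zb19) (kb xb24 yb32 zb56) (kb xb9 yb44 zb21) (kb xb12 yb25 zb38) (kb xb16 yb57 zb13) (kb xb9 yb44 zb24) (kb xb12 yb25 zb4) (kb xb11 yb49 zb42) (kb xb16 yb57 zb17) (kb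 xb9 yb44 zb27) (kb xb20 yb40 zb8) (kb xb16 yb4 zb23) (kb xb20 yb40 zb9) (kb xb27 yb3 zb10) (kb xb9 yb44 zb38) (kb xb16 yb34 zb55) (kb xb21 yb0 zb59) (kb xb27 yb25 zb35) (kb xb27 yb39 zb27) (kb xb16 yb14 zb53) (kb xb25 yb29 zb49) (kb xb12 yb24 zb61) (kb xb9 yb44 zb50)) (@D3.rec (fun _ => Pt) (kb xb26 yb14 zb18) (kb xb16 yb18 zb30) (kb xb16 yb20 zb4) (kb xb19 yb5 zb20) (kb xb27 yb39 zb32) (kb xb14 yb58 zb22) (kb xb9 yb44 zb54) (kb xb27 yb39 zb36) (kb xb9 yb44 zb56) (kb xb9 yb44 zb57) (kb xb23 yb51 zb30) (kb xb23 yb22 zb3) (kb xb27 yb39 zb35) (kb xb9 yb44 zb55) (kb xb27 yb39 zb43) (kb xb27 yb39 zb45) (kb xb14 yb14 zb21) (kb xb27 yb39 zb49) (kb xb26 yb14 zb2) (kb xb27 yb39 zb52) (kb xb16 yb20 zb17) (kb xb9 yb44 zb59) (kb xb26 yb31 zb8) (kb xb27 yb39 zb59) (kb xb13 yb29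 zb34) (kb xb27 yb40 zb2) (kb xb9 yb45 zb3) (kb xb27 yb40 zb4) (kb xb17 yb45 zb20) (kb xb16 yb18 zb26) (kb xb9 yb45 zb0) (kb xb27 yb40 zb11) (kb xb9 yb45 zb1) (kb xb23 yb32 zb13) (kb xb9 yb45 zb2) (kb xb16 yb12 zb20) (kb xb17 yb45 zb41) (kb xb16 yb52 zb60) (kb xb16 yb17 zb12) (kb xb23 yb49 zb48) (kb xb18 yb26 zb38) (kb xb25 yb14 zb0) (kb xb24 yb44 zb55) (kb xb9 yb45 zb7) (kb xb27 yb40 zb22) (kb xb27 yb40 zb23) (kb xb9 yb45 zb8) (kb xb19 yb33 zb50) (kb xb21 yb11 zb10) (kb xb24 yb52 zb58) (kb xb27 yb24 zb26) (kb xb9 yb45 zb13) (kb xb16 yb17 zb27) (kb xb20 yb10 zb37) (kb xb20 yb0 zb21) (kb xb11 yb11 zb22) (kb xb27 yb13 zb27) (kb xb9 yb45 zb21) (kb xb19 yb33 zb48) (kb xb9 yb45 zb20) (kb xb20 yb42 zb50) (kb xb20 yb8 zb60)) (@D3.rec (fun _ => Pt) (kb xb20 yb0 zb39) (kb xb20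 yb0 zb7) (kb xb9 yb45 zb24) (kb xb9 yb45 zb25) (kb xb25 yb39 zb51) (kb xb18 yb48 zb36) (kb xb27 yb40 zb33) (kb xb14 yb25 zb32) (kb xb13 yb1 zb58) (kb xb9 yb45 zb36) (kb xb27 yb40 zb36) (kb xb26 yb17 zb10) (kb xb20 yb13 zb49) (kb xb11 yb12 zb32) (kb xb9 yb45 zb45) (kb xb11 yb12 zb31) (kb xb26 yb32 zb25) (kb xb11 yb12 zb43) (kb xb23 yb26 zb0) (kb xb19 yb50 zb33) (kb xb16 yb3 zb12) (kb xb9 yb45 zb41) (kb xb9 yb45 zb42) (kb xb27 yb40 zb40) (kb xb15 yb49 zb49) (kb xb27 yb40 zb42) (kb xb27 yb40 zb43) (kb xb19 yb43 zb10) (kb xb9 yb45 zb49) (kb xb27 yb40 zb45) (kb xb20 yb26 zb10) (kb xb22 yb32 zb31) (kb xb22 yb32 zb27) (kb xb11 yb7 zb26) (kb xb24 yb53 zb12) (kb xb13 yb15 zb18) (kb xb20 yb9 zb20) (kb xb24 yb52 zb56) (kb xb24 yb10 zb3) (kb xb14 yb7 zb43) (kb xb19 yb16 zb38) (kb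 xb9 yb45 zb59) (kb xb19 yb16 zb45) (kb xb14 yb7 zb47) (kb xb14 yb7 zb48) (kb xb15 yb39 zb24) (kb xb9 yb46 zb4) (kb xb27 yb40 zb53) (kb xb22 yb32 zb54) (kb xb9 yb46 zb7) (kb xb9 yb46 zb8) (kb xb9 yb46 zb3) (kb xb21 yb18 zb23) (kb xb15 yb45 zb16) (kb xb27 yb40 zb52) (kb xb24 yb52 zb54) (kb xb9 yb46 zb6) (kb xb27 yb40 zb61) (kb xb27 yb41 zb0) (kb xb20 yb24 zb8) (kb xb26 yb6 zb31) (kb xb9 yb46 zb40)) (@D3.rec (fun _ => Pt) (kb xb9 yb46 zb12) (kb xb22 yb38 zb8) (kb xb9 yb46 zb11) (kb xb27 yb41 zb2) (kb xb18 yb43 zb38) (kb xb27 yb41 zb6) (kb xb27 yb41 zb1) (kb xb26 yb50 zb47) (kb xb22 yb53 zb49) (kb xb9 yb46 zb15) (kb xb9 yb46 zb16) (kb xb9 yb46 zb14) (kb xb27 yb41 zb9) (kb xb18 yb18 zb42) (kb xb21 yb52 zb4) (kb xb9 yb46 zb44) (kb xb9 yb46 zb18) (kb xb27 yb41 zb11) (kb xb27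 yb41 zb10) (kb xb27 yb41 zb12) (kb xb27 yb41 zb13) (kb xb20 yb22 zb45) (kb xb26 yb35 zb30) (kb xb11 yb32 zb9) (kb xb9 yb46 zb25) (kb xb12 yb11 zb2) (kb xb14 yb1 zb58) (kb xb23 yb22 zb43) (kb xb16 yb45 zb11) (kb xb16 yb48 zb46) (kb xb25 yb45 zb42) (kb xb9 yb46 zb29) (kb xb27 yb41 zb22) (kb xb11 yb8 zb34) (kb xb12 yb25 zb8) (kb xb9 yb46 zb31) (kb xb25 yb42 zb13) (kb xb14 yb4 zb53) (kb xb9 yb46 zb32) (kb xb27 yb41 zb27) (kb xb27 yb41 zb29) (kb xb9 yb46 zb35) (kb xb12 yb45 zb45) (kb xb27 yb41 zb30) (kb xb26 yb49 zb56) (kb xb25 yb17 zb51) (kb xb11 yb12 zb5) (kb xb16 yb31 zb53) (kb xb27 yb40 zb27) (kb xb22 yb38 zb34) (kb xb11 yb4 zb45) (kb xb27 yb36 zb7) (kb xb9 yb46 zb53) (kb xb20 yb50 zb26) (kb xb15 yb25 zb32) (kb xb18 yb2 zb29) (kb xb9 yb46 zb56) (kb xb9 yb46 zb57) (kb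 xb27 yb41 zb37) (kb xb20 yb36 zb27) (kb xb27 yb41 zb40) (kb xb27 yb41 zb36)) (@D3.rec (fun _ => Pt) (kb xb20 yb36 zb29) (kb xb16 yb25 zb46) (kb xb9 yb46 zb59) (kb xb9 yb46 zb60) (kb xb27 yb41 zb44) (kb xb21 yb12 zb4) (kb xb23 yb3 zb25) (kb xb9 yb46 zb61) (kb xb27 yb41 zb46) (kb xb9 yb47 zb0) (kb xb21 yb11 zb46) (kb xb15 yb15 zb49) (kb xb24 yb14 zb16) (kb xb16 yb46 zb0) (kb xb20 yb36 zb45) (kb xb15 yb4 zb54) (kb xb15 yb26 zb36) (kb xb17 yb1 zb39) (kb xb27 yb41 zb54) (kb xb9 yb47 zb6) (kb xb9 yb47 zb5) (kb xb27 yb41 zb61) (kb xb20 yb36 zb53) (kb xb27 yb41 zb58) (kb xb9 yb47 zb7) (kb xb19 yb0 zb59) (kb xb25 yb58 zb17) (kb xb21 yb11 zb60) (kb xb9 yb51 zb23) (kb xb22 yb6 zb50) (kb xb23 yb10 zb4) (kb xb20 yb37 zb6) (kb xb13 yb37 zb38) (kb xb13 yb37 zb33) (kb xb20 yb37 zb12)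 (kb xb22 yb55 zb26) (kb xb15 yb31 zb58) (kb xb27 yb42 zb7) (kb xb16 yb27 zb27) (kb xb27 yb42 zb9) (kb xb16 yb34 zb31) (kb xb26 yb28 zb29) (kb xb20 yb28 zb50) (kb xb17 yb18 zb11) (kb xb9 yb47 zb23) (kb xb11 yb31 zb9) (kb xb20 yb0 zb37) (kb xb20 yb22 zb43) (kb xb11 yb29 zb39) (kb xb21 yb34 zb61) (kb xb10 yb5 zb22) (kb xb22 yb6 zb8) (kb xb10 yb5 zb54) (kb xb20 yb22 zb50) (kb xb9 yb48 zb6) (kb xb11 yb29 zb44) (kb xb20 yb25 zb56) (kb xb9 yb47 zb42) (kb xb18 yb57 zb34) (kb xb21 yb33 zb30) (kb xb21 yb33 zb29) (kb xb18 yb50 zb42)) (@D3.rec (fun _ => Pt) (kb xb16 yb59 zb45) (kb xb9 yb47 zb47) (kb xb20 yb14 zb16) (kb xb18 yb37 zb47) (kb xb11 yb15 zb2) (kb xb18 yb38 zb18) (kb xb9 yb47 zb57) (kb xb18 yb16 zb45) (kb xb20 yb5 zb37) (kb xb26 yb49 zb31) (kb xb12 yb14 zb37) (kb xb11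 yb50 zb2) (kb xb17 yb59 zb59) (kb xb24 yb17 zb33) (kb xb10 yb4 zb6) (kb xb18 yb43 zb24) (kb xb27 yb11 zb59) (kb xb10 yb48 zb36) (kb xb15 yb27 zb7) (kb xb27 yb42 zb18) (kb xb18 yb43 zb33) (kb xb11 yb28 zb41) (kb xb9 yb48 zb7) (kb xb27 yb42 zb22) (kb xb16 yb56 zb21) (kb xb22 yb24 zb54) (kb xb11 yb29 zb57) (kb xb20 yb25 zb58) (kb xb9 yb48 zb14) (kb xb17 yb53 zb31) (kb xb20 yb42 zb56) (kb xb10 yb57 zb24) (kb xb10 yb48 zb37) (kb xb19 yb39 zb53) (kb xb13 yb7 zb39) (kb xb17 yb1 zb28) (kb xb17 yb1 zb29) (kb xb21 yb11 zb20) (kb xb27 yb42 zb27) (kb xb9 yb48 zb25) (kb xb24 yb14 zb9) (kb xb13 yb9 zb59) (kb xb9 yb48 zb32) (kb xb10 yb0 zb28) (kb xb9 yb48 zb31) (kb xb21 yb30 zb61) (kb xb27 yb42 zb28) (kb xb21 yb26 zb21) (kb xb17 yb9 zb55) (kb xb23 yb47 zb36) (kb xb27 yb42 zb30) (kb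 xb23 yb11 zb20) (kb xb27 yb42 zb33) (kb xb27 yb18 zb48) (kb xb21 yb11 zb16) (kb xb23 yb9 zb35) (kb xb9 yb48 zb43) (kb xb27 yb42 zb38) (kb xb19 yb38 zb32) (kb xb9 yb48 zb44) (kb xb25 yb57 zb12) (kb xb24 yb4 zb38)) (@D3.rec (fun _ => Pt) (kb xb15 yb33 zb20) (kb xb9 yb48 zb46) (kb xb9 yb48 zb47) (kb xb25 yb43 zb32) (kb xb27 yb6 zb18) (kb xb24 yb40 zb12) (kb xb27 yb42 zb44) (kb xb21 yb3 zb42) (kb xb19 yb33 zb47) (kb xb17 yb4 zb25) (kb xb22 yb38 zb53) (kb xb24 yb7 zb24) (kb xb9 yb48 zb55) (kb xb11 yb11 zb7) (kb xb13 yb58 zb17) (kb xb17 yb9 zb43) (kb xb12 yb15 zb20) (kb xb9 yb48 zb59) (kb xb9 yb48 zb60) (kb xb27 yb9 zb21) (kb xb21 yb40 zb49) (kb xb10 yb15 zb37) (kb xb27 yb42 zb50) (kb xb27 yb42 zb48) (kb xb17 yb5 zb32) (kb xb20 yb37 zb39) (kb xb11 yb25 zb54) (kb xb9 yb49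 zb4) (kb xb27 yb42 zb52) (kb xb22 yb4 zb32) (kb xb11 yb25 zb57) (kb xb27 yb42 zb56) (kb xb16 yb28 zb12) (kb xb9 yb49 zb24) (kb xb13 yb0 zb58) (kb xb9 yb49 zb8) (kb xb21 yb35 zb12) (kb xb9 yb49 zb19) (kb xb9 yb49 zb13) (kb xb11 yb19 zb8) (kb xb9 yb49 zb14) (kb xb11 yb19 zb10) (kb xb27 yb3 zb24) (kb xb9 yb49 zb16) (kb xb20 yb52 zb61) (kb xb12 yb17 zb20) (kb xb10 yb19 zb59) (kb xb21 yb2 zb10) (kb xb23 yb46 zb48) (kb xb27 yb42 zb59) (kb xb17 yb0 zb25) (kb xb20 yb28 zb28) (kb xb16 yb59 zb23) (kb xb16 yb29 zb13) (kb xb13 yb42 zb46) (kb xb16 yb28 zb14) (kb xb27 yb0 zb44) (kb xb9 yb49 zb26) (kb xb20 yb22 zb57) (kb xb17 yb58 zb12) (kb xb20 yb51 zb32) (kb xb14 yb33 zb18))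
def f_b_18 : D2 → D3 → Pt := @D2.rec (fun _ => D3 → Pt) (@D3.rec (fun _ => Pt) (kb xb12 yb40 zb49) (kb xb11 yb19 zb42) (kb xb18 yb24 zb54) (kb xb15 yb30 zb39) (kb xb10 yb13 zb25) (kb xb9 yb49 zb35) (kb xb17 yb31 zb6) (kb xb11 yb45 zb9) (kb xb11 yb25 zb44) (kb xb17 yb6 zb6) (kb xb9 yb49 zb38) (kb xb17 yb6 zb29) (kb xb12 yb38 zb43) (kb xb9 yb49 zb42) (kb xb12 yb15 zb18) (kb xb14 yb34 zb54) (kb xb9 yb49 zb46) (kb xb11 yb48 zb50) (kb xb12 yb14 zb25) (kb xb9 yb49 zb47) (kb xb9 yb49 zb48) (kb xb17 yb33 zb58) (kb xb21 yb18 zb42) (kb xb12 yb57 zb59) (kb xb21 yb9 zb50) (kb xb26 yb59 zb54) (kb xb12 yb29 zb38) (kb xb27 yb43 zb9) (kb xb27 yb1 zb12) (kb xb18 yb49 zb48) (kb xb12 yb28 zb61) (kb xb23 yb47 zb54) (kb xb12 yb36 zb25) (kb xb26 yb46 zb26) (kb xb9 yb49 zb59) (kb xb26 yb28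 zb46) (kb xb20 yb52 zb45) (kb xb10 yb58 zb12) (kb xb9 yb49 zb61) (kb xb16 yb24 zb42) (kb xb27 yb43 zb14) (kb xb17 yb49 zb8) (kb xb24 yb20 zb41) (kb xb27 yb43 zb21) (kb xb21 yb21 zb25) (kb xb13 yb0 zb33) (kb xb18 yb50 zb10) (kb xb12 yb38 zb30) (kb xb13 yb0 zb32) (kb xb12 yb36 zb55) (kb xb20 yb48 zb36) (kb xb9 yb50 zb5) (kb xb15 yb48 zb27) (kb xb12 yb37 zb0) (kb xb26 yb7 zb17) (kb xb27 yb5 zb57) (kb xb12 yb40 zb60) (kb xb21 yb35 zb2) (kb xb9 yb50 zb7) (kb xb24 yb20 zb13) (kb xb22 yb37 zb6) (kb xb9 yb50 zb8)) (@D3.rec (fun _ => Pt) (kb xb10 yb15 zb58) (kb xb18 yb57 zb54) (kb xb9 yb50 zb9) (kb xb23 yb59 zb29) (kb xb27 yb43 zb30) (kb xb21 yb55 zb15) (kb xb24 yb24 zb10) (kb xb9 yb50 zb10) (kb xb27 yb43 zb33) (kb xb25 yb14 zb39) (kb xb9 yb50 zb13) (kb xb10 yb27 zb12) (kb xb27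 yb4 zb2) (kb xb10 yb2 zb12) (kb xb18 yb10 zb40) (kb xb9 yb53 zb5) (kb xb9 yb51 zb1) (kb xb20 yb52 zb30) (kb xb13 yb20 zb54) (kb xb21 yb20 zb20) (kb xb9 yb50 zb25) (kb xb9 yb50 zb18) (kb xb17 yb50 zb17) (kb xb9 yb50 zb20) (kb xb9 yb50 zb21) (kb xb27 yb43 zb40) (kb xb27 yb43 zb43) (kb xb27 yb43 zb38) (kb xb27 yb43 zb39) (kb xb11 yb11 zb61) (kb xb26 yb58 zb45) (kb xb13 yb11 zb2) (kb xb9 yb50 zb55) (kb xb9 yb50 zb30) (kb xb27 yb43 zb45) (kb xb17 yb5 zb27) (kb xb13 yb1 zb34) (kb xb9 yb50 zb33) (kb xb9 yb50 zb34) (kb xb27 yb43 zb48) (kb xb20 yb5 zb59) (kb xb9 yb50 zb37) (kb xb9 yb50 zb40) (kb xb15 yb39 zb16) (kb xb25 yb8 zb8) (kb xb9 yb50 zb42) (kb xb9 yb50 zb45) (kb xb9 yb50 zb44) (kb xb27 yb43 zb58) (kb xb27 yb43 zb59) (kb xb19 yb27 zb43) (kb xb9 yb51 zb9) (kb xb27 yb11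 zb39) (kb xb9 yb50 zb46) (kb xb27 yb44 zb5) (kb xb27 yb44 zb6) (kb xb9 yb51 zb13) (kb xb10 yb41 zb22) (kb xb10 yb55 zb0) (kb xb9 yb50 zb48) (kb xb27 yb30 zb18) (kb xb27 yb44 zb9)) (@D3.rec (fun _ => Pt) (kb xb9 yb50 zb49) (kb xb25 yb12 zb23) (kb xb13 yb36 zb36) (kb xb25 yb4 zb23) (kb xb27 yb24 zb22) (kb xb9 yb50 zb51) (kb xb15 yb39 zb15) (kb xb9 yb50 zb56) (kb xb24 yb17 zb61) (kb xb9 yb51 zb0) (kb xb27 yb44 zb12) (kb xb24 yb56 zb57) (kb xb27 yb43 zb36) (kb xb9 yb51 zb2) (kb xb21 yb36 zb34) (kb xb9 yb51 zb7) (kb xb26 yb28 zb2) (kb xb9 yb51 zb8) (kb xb19 yb27 zb33) (kb xb24 yb3 zb52) (kb xb27 yb1 zb8) (kb xb15 yb2 zb56) (kb xb9 yb51 zb15) (kb xb26 yb23 zb18) (kb xb17 yb49 zb36) (kb xb9 yb51 zb16) (kb xb15 yb16 zb59) (kb xb17 yb49 zb52) (kb xb15 yb19 zb39) (kb xb17 yb56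 zb55) (kb xb16 yb9 zb0) (kb xb19 yb11 zb6) (kb xb12 yb5 zb45) (kb xb9 yb51 zb19) (kb xb27 yb44 zb22) (kb xb9 yb51 zb24) (kb xb25 yb48 zb7) (kb xb19 yb47 zb0) (kb xb17 yb3 zb43) (kb xb15 yb1 zb2) (kb xb14 yb53 zb2) (kb xb17 yb51 zb47) (kb xb9 yb51 zb30) (kb xb25 yb41 zb16) (kb xb14 yb21 zb19) (kb xb19 yb47 zb32) (kb xb10 yb39 zb42) (kb xb9 yb51 zb33) (kb xb9 yb51 zb34) (kb xb22 yb17 zb56) (kb xb13 yb52 zb40) (kb xb14 yb38 zb44) (kb xb9 yb51 zb35) (kb xb27 yb44 zb35) (kb xb25 yb58 zb8) (kb xb9 yb51 zb36) (kb xb15 yb15 zb44) (kb xb23 yb26 zb21) (kb xb9 yb51 zb39) (kb xb26 yb8 zb44) (kb xb27 yb44 zb40) (kb xb19 yb5 zb3)) (@D3.rec (fun _ => Pt) (kb xb16 yb39 zb54) (kb xb16 yb39 zb27) (kb xb9 yb51 zb43) (kb xb26 yb7 zb60) (kb xb25 yb2 zb54) (kb xb26 yb3 zb12) (kb xb24 yb22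 zb35) (kb xb18 yb3 zb13) (kb xb19 yb58 zb53) (kb xb26 yb2 zb34) (kb xb16 yb10 zb58) (kb xb26 yb47 zb22) (kb xb26 yb0 zb52) (kb xb18 yb3 zb7) (kb xb9 yb51 zb51) (kb xb27 yb44 zb55) (kb xb27 yb44 zb58) (kb xb25 yb42 zb29) (kb xb9 yb51 zb52) (kb xb9 yb51 zb53) (kb xb27 yb45 zb0) (kb xb27 yb22 zb46) (kb xb9 yb52 zb47) (kb xb9 yb51 zb55) (kb xb18 yb45 zb44) (kb xb27 yb45 zb5) (kb xb9 yb53 zb6) (kb xb9 yb51 zb57) (kb xb9 yb51 zb58) (kb xb27 yb45 zb8) (kb xb9 yb59 zb46) (kb xb9 yb53 zb27) (kb xb9 yb51 zb60) (kb xb9 yb51 zb61) (kb xb21 yb42 zb15) (kb xb24 yb40 zb57) (kb xb26 yb19 zb53) (kb xb18 yb6 zb32) (kb xb18 yb6 zb31) (kb xb27 yb45 zb13) (kb xb15 yb11 zb37) (kb xb24 yb46 zb53) (kb xb12 yb19 zb22) (kb xb9 yb53 zb60) (kb xb9 yb52 zb3) (kb xb9 yb52 zb4) (kb xb21 yb31 zb54)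 (kb xb27 yb45 zb22) (kb xb27 yb45 zb23) (kb xb27 yb45 zb27) (kb xb26 yb16 zb36) (kb xb9 yb54 zb9) (kb xb9 yb52 zb6) (kb xb9 yb52 zb7) (kb xb24 yb40 zb45) (kb xb27 yb45 zb34) (kb xb9 yb54 zb15) (kb xb26 yb21 zb11) (kb xb15 yb13 zb58) (kb xb26 yb16 zb38) (kb xb17 yb41 zb42) (kb xb9 yb52 zb9)) (@D3.rec (fun _ => Pt) (kb xb15 yb14 zb17) (kb xb26 yb15 zb24) (kb xb16 yb20 zb31) (kb xb9 yb54 zb26) (kb xb17 yb41 zb44) (kb xb20 yb4 zb10) (kb xb18 yb8 zb2) (kb xb9 yb52 zb16) (kb xb9 yb52 zb13) (kb xb9 yb52 zb14) (kb xb27 yb25 zb44) (kb xb12 yb19 zb12) (kb xb27 yb26 zb24) (kb xb27 yb26 zb0) (kb xb27 yb45 zb47) (kb xb27 yb12 zb25) (kb xb9 yb52 zb34) (kb xb9 yb56 zb36) (kb xb9 yb52 zb20) (kb xb27 yb45 zb58) (kb xb19 yb20 zb28) (kb xb25 yb23 zb53) (kb xb9 yb52 zb22) (kb xb23 yb50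 zb50) (kb xb22 yb34 zb43) (kb xb27 yb32 zb1) (kb xb26 yb15 zb43) (kb xb17 yb39 zb0) (kb xb18 yb45 zb25) (kb xb9 yb52 zb28) (kb xb23 yb37 zb57) (kb xb16 yb18 zb49) (kb xb20 yb4 zb18) (kb xb18 yb31 zb52) (kb xb9 yb52 zb31) (kb xb9 yb52 zb32) (kb xb14 yb57 zb41) (kb xb27 yb12 zb21) (kb xb26 yb18 zb18) (kb xb18 yb17 zb17) (kb xb27 yb31 zb1) (kb xb9 yb52 zb33) (kb xb27 yb46 zb8) (kb xb27 yb46 zb10) (kb xb27 yb46 zb12) (kb xb27 yb46 zb14) (kb xb27 yb27 zb1) (kb xb9 yb52 zb37) (kb xb9 yb52 zb38) (kb xb15 yb37 zb55) (kb xb27 yb46 zb16) (kb xb27 yb46 zb19) (kb xb27 yb46 zb20) (kb xb9 yb52 zb41) (kb xb24 yb56 zb26) (kb xb23 yb4 zb40) (kb xb9 yb52 zb45) (kb xb27 yb46 zb23) (kb xb16 yb16 zb45) (kb xb17 yb23 zb31) (kb xb9 yb52 zb46) (kb xb18 yb51 zb35)) (@D3.rec (fun _ => Pt) (kb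 xb27 yb46 zb28) (kb xb27 yb28 zb28) (kb xb27 yb45 zb2) (kb xb26 yb5 zb23) (kb xb27 yb46 zb29) (kb xb27 yb46 zb30) (kb xb18 yb8 zb15) (kb xb9 yb52 zb51) (kb xb23 yb21 zb58) (kb xb9 yb52 zb54) (kb xb12 yb49 zb3) (kb xb9 yb52 zb52) (kb xb27 yb46 zb6) (kb xb9 yb52 zb55) (kb xb27 yb46 zb34) (kb xb18 yb46 zb5) (kb xb9 yb54 zb56) (kb xb25 yb15 zb47) (kb xb27 yb31 zb42) (kb xb25 yb3 zb38) (kb xb14 yb57 zb18) (kb xb9 yb53 zb4) (kb xb27 yb46 zb38) (kb xb27 yb46 zb39) (kb xb16 yb16 zb6) (kb xb27 yb43 zb23) (kb xb27 yb45 zb7) (kb xb27 yb46 zb43) (kb xb27 yb46 zb46) (kb xb18 yb8 zb10) (kb xb16 yb15 zb55) (kb xb12 yb50 zb5) (kb xb26 yb5 zb15) (kb xb9 yb53 zb9) (kb xb27 yb46 zb50) (kb xb9 yb53 zb11) (kb xb21 yb58 zb34) (kb xb20 yb15 zb22) (kb xb26 yb44 zb50) (kb xb27 yb46 zb51) (kb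 xb25 yb4 zb25) (kb xb9 yb53 zb15) (kb xb21 yb53 zb50) (kb xb21 yb2 zb5) (kb xb19 yb57 zb7) (kb xb9 yb53 zb17) (kb xb27 yb46 zb59) (kb xb27 yb34 zb33) (kb xb27 yb47 zb2) (kb xb10 yb25 zb46) (kb xb18 yb34 zb6) (kb xb19 yb23 zb17) (kb xb15 yb12 zb12) (kb xb27 yb47 zb5) (kb xb9 yb53 zb24) (kb xb14 yb33 zb2) (kb xb9 yb53 zb25) (kb xb27 yb47 zb8) (kb xb27 yb47 zb7) (kb xb9 yb53 zb26) (kb xb15 yb58 zb61) (kb xb26 yb16 zb34)) (@D3.rec (fun _ => Pt) (kb xb26 yb11 zb33) (kb xb27 yb47 zb12) (kb xb11 yb59 zb58) (kb xb26 yb13 zb25) (kb xb9 yb53 zb35) (kb xb14 yb4 zb33) (kb xb21 yb36 zb61) (kb xb12 yb34 zb48) (kb xb12 yb35 zb54) (kb xb9 yb53 zb33) (kb xb24 yb44 zb50) (kb xb9 yb53 zb34) (kb xb14 yb2 zb5) (kb xb27 yb47 zb20) (kb xb27 yb30 zb52) (kb xb27 yb47 zb21) (kb xb22 yb2 zb34)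 (kb xb14 yb14 zb32) (kb xb9 yb53 zb37) (kb xb23 yb1 zb6) (kb xb27 yb20 zb30) (kb xb19 yb53 zb17) (kb xb9 yb53 zb45) (kb xb17 yb46 zb43) (kb xb9 yb53 zb46) (kb xb21 yb42 zb1) (kb xb27 yb47 zb27) (kb xb25 yb32 zb40) (kb xb18 yb6 zb56) (kb xb9 yb53 zb50) (kb xb14 yb4 zb22) (kb xb18 yb3 zb38) (kb xb18 yb3 zb37) (kb xb9 yb53 zb51) (kb xb27 yb47 zb32) (kb xb9 yb53 zb52) (kb xb27 yb47 zb34) (kb xb9 yb53 zb55) (kb xb27 yb47 zb35) (kb xb27 yb37 zb28) (kb xb9 yb53 zb57) (kb xb27 yb47 zb36) (kb xb9 yb53 zb58) (kb xb27 yb47 zb40) (kb xb21 yb41 zb55) (kb xb27 yb47 zb37) (kb xb9 yb53 zb59) (kb xb18 yb14 zb18) (kb xb26 yb0 zb59) (kb xb24 yb47 zb58) (kb xb27 yb45 zb17) (kb xb27 yb45 zb18) (kb xb9 yb58 zb40) (kb xb10 yb32 zb61) (kb xb10 yb33 zb0) (kb xb21 yb41 zb61) (kb xb18 yb6 zb28)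 (kb xb9 yb54 zb4) (kb xb9 yb54 zb5) (kb xb9 yb54 zb6) (kb xb9 yb54 zb2) (kb xb16 yb1 zb23)) (@D3.rec (fun _ => Pt) (kb xb9 yb54 zb3) (kb xb15 yb59 zb41) (kb xb26 yb15 zb13) (kb xb21 yb32 zb47) (kb xb26 yb6 zb42) (kb xb26 yb12 zb18) (kb xb21 yb26 zb3) (kb xb12 yb50 zb20) (kb xb24 yb32 zb27) (kb xb16 yb18 zb48) (kb xb9 yb54 zb7) (kb xb24 yb40 zb33) (kb xb27 yb47 zb59) (kb xb9 yb54 zb8) (kb xb10 yb21 zb22) (kb xb12 yb19 zb23) (kb xb26 yb21 zb9) (kb xb24 yb45 zb33) (kb xb27 yb45 zb32) (kb xb24 yb45 zb3) (kb xb17 yb42 zb45) (kb xb12 yb1 zb43) (kb xb9 yb54 zb12) (kb xb27 yb48 zb2) (kb xb9 yb54 zb13) (kb xb9 yb54 zb14) (kb xb27 yb48 zb5) (kb xb27 yb48 zb0) (kb xb27 yb48 zb1) (kb xb18 yb8 zb23) (kb xb27 yb45 zb35) (kb xb9 yb54 zb16) (kb xb12 yb45 zb9) (kb xb22 yb36 zb21) (kb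 xb26 yb21 zb12) (kb xb9 yb54 zb20) (kb xb9 yb54 zb18) (kb xb27 yb48 zb8) (kb xb17 yb39 zb3) (kb xb15 yb40 zb42) (kb xb12 yb30 zb35) (kb xb17 yb43 zb5) (kb xb24 yb18 zb30) (kb xb19 yb2 zb8) (kb xb26 yb16 zb37) (kb xb19 yb1 zb61) (kb xb10 yb27 zb10) (kb xb27 yb48 zb11) (kb xb14 yb35 zb19) (kb xb27 yb45 zb43) (kb xb12 yb34 zb57) (kb xb27 yb48 zb15) (kb xb12 yb19 zb21) (kb xb27 yb26 zb1) (kb xb9 yb54 zb27) (kb xb17 yb14 zb52) (kb xb20 yb5 zb31) (kb xb9 yb54 zb28) (kb xb12 yb42 zb48) (kb xb12 yb42 zb40) (kb xb21 yb30 zb29) (kb xb16 yb2 zb28)) (@D3.rec (fun _ => Pt) (kb xb9 yb54 zb29) (kb xb21 yb27 zb6) (kb xb18 yb4 zb6) (kb xb22 yb27 zb53) (kb xb9 yb54 zb41) (kb xb9 yb54 zb42) (kb xb26 yb21 zb8) (kb xb27 yb48 zb26) (kb xb9 yb54 zb45) (kb xb21 yb37 zb32) (kb xb18 yb5 zb29)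 (kb xb9 yb54 zb34) (kb xb27 yb39 zb28) (kb xb25 yb55 zb40) (kb xb27 yb45 zb49) (kb xb18 yb5 zb6) (kb xb9 yb54 zb36) (kb xb27 yb48 zb19) (kb xb17 yb40 zb42) (kb xb24 yb44 zb48) (kb xb27 yb3 zb58) (kb xb17 yb44 zb56) (kb xb27 yb48 zb38) (kb xb18 yb7 zb29) (kb xb21 yb31 zb23) (kb xb26 yb12 zb54) (kb xb25 yb3 zb27) (kb xb25 yb3 zb26) (kb xb9 yb54 zb39) (kb xb27 yb48 zb45) (kb xb23 yb17 zb60) (kb xb26 yb0 zb24) (kb xb22 yb8 zb57) (kb xb21 yb26 zb4) (kb xb22 yb2 zb55) (kb xb21 yb37 zb3) (kb xb27 yb39 zb26) (kb xb22 yb8 zb47) (kb xb24 yb44 zb10) (kb xb9 yb54 zb43) (kb xb27 yb48 zb57) (kb xb27 yb48 zb58) (kb xb9 yb54 zb44) (kb xb20 yb47 zb28) (kb xb18 yb37 zb4) (kb xb27 yb49 zb6) (kb xb9 yb54 zb48) (kb xb9 yb54 zb49) (kb xb9 yb54 zb47) (kb xb27 yb49 zb7) (kb xb26 yb15 zb61)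 (kb xb27 yb49 zb10) (kb xb24 yb47 zb44) (kb xb27 yb32 zb51) (kb xb18 yb10 zb50) (kb xb9 yb54 zb52) (kb xb9 yb54 zb53) (kb xb27 yb49 zb17) (kb xb26 yb18 zb17) (kb xb27 yb49 zb15) (kb xb27 yb49 zb16) (kb xb27 yb49 zb22)) (@D3.rec (fun _ => Pt) (kb xb17 yb48 zb20) (kb xb27 yb49 zb24) (kb xb9 yb54 zb57) (kb xb26 yb16 zb42) (kb xb17 yb47 zb46) (kb xb18 yb32 zb47) (kb xb9 yb54 zb60) (kb xb18 yb10 zb44) (kb xb27 yb49 zb33) (kb xb27 yb49 zb30) (kb xb27 yb49 zb31) (kb xb27 yb49 zb37) (kb xb12 yb6 zb34) (kb xb27 yb49 zb39) (kb xb9 yb55 zb3) (kb xb24 yb57 zb20) (kb xb24 yb57 zb19) (kb xb9 yb55 zb6) (kb xb10 yb10 zb61) (kb xb27 yb49 zb42) (kb xb16 yb21 zb44) (kb xb9 yb55 zb7) (kb xb18 yb41 zb45) (kb xb17 yb45 zb52) (kb xb27 yb49 zb46) (kb xb9 yb55 zb8) (kb xb24 yb58 zb48) (kb xb27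 yb49 zb53) (kb xb27 yb32 zb8) (kb xb27 yb32 zb9) (kb xb17 yb47 zb10) (kb xb25 yb0 zb55) (kb xb19 yb0 zb54) (kb xb9 yb55 zb12) (kb xb27 yb50 zb2) (kb xb27 yb50 zb4) (kb xb9 yb55 zb15) (kb xb22 yb51 zb56) (kb xb9 yb57 zb32) (kb xb27 yb50 zb0) (kb xb27 yb50 zb1) (kb xb9 yb55 zb13) (kb xb27 yb50 zb10) (kb xb9 yb55 zb14) (kb xb27 yb50 zb11) (kb xb27 yb50 zb12) (kb xb27 yb50 zb15) (kb xb27 yb50 zb17) (kb xb16 yb7 zb19) (kb xb27 yb29 zb47) (kb xb27 yb34 zb58) (kb xb9 yb55 zb18) (kb xb27 yb50 zb20) (kb xb9 yb55 zb21) (kb xb9 yb55 zb20) (kb xb27 yb50 zb23) (kb xb27 yb50 zb24) (kb xb27 yb50 zb28) (kb xb23 yb33 zb54) (kb xb18 yb26 zb30) (kb xb27 yb50 zb29) (kb xb12 yb19 zb45)) (@D3.rec (fun _ => Pt) (kb xb23 yb49 zb50) (kb xb9 yb55 zb26) (kb xb16 yb17 zb19) (kb xb9 yb55 zb27)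 (kb xb27 yb50 zb31) (kb xb27 yb50 zb30) (kb xb9 yb55 zb28) (kb xb18 yb26 zb52) (kb xb27 yb4 zb46) (kb xb18 yb32 zb3) (kb xb27 yb37 zb48) (kb xb22 yb52 zb6) (kb xb9 yb55 zb36) (kb xb9 yb55 zb34) (kb xb27 yb50 zb39) (kb xb9 yb55 zb38) (kb xb9 yb55 zb39) (kb xb13 yb53 zb50) (kb xb13 yb53 zb45) (kb xb17 yb41 zb37) (kb xb17 yb50 zb16) (kb xb27 yb37 zb38) (kb xb9 yb55 zb45) (kb xb9 yb55 zb46) (kb xb21 yb6 zb58) (kb xb18 yb20 zb29) (kb xb27 yb20 zb7) (kb xb22 yb10 zb44) (kb xb9 yb55 zb54) (kb xb12 yb16 zb9) (kb xb9 yb55 zb55) (kb xb23 yb34 zb2) (kb xb27 yb50 zb43) (kb xb9 yb55 zb56) (kb xb27 yb50 zb45) (kb xb24 yb58 zb42) (kb xb27 yb50 zb48) (kb xb27 yb50 zb49) (kb xb10 yb15 zb9) (kb xb10 yb4 zb31) (kb xb18 yb1 zb14) (kb xb18 yb33 zb39) (kb xb26 yb16 zb41) (kb xb18 yb32 zb50)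 (kb xb18 yb9 zb7) (kb xb18 yb32 zb22) (kb xb18 yb21 zb51) (kb xb25 yb0 zb2) (kb xb9 yb56 zb6) (kb xb9 yb56 zb4) (kb xb18 yb8 zb54) (kb xb26 yb15 zb26) (kb xb18 yb32 zb28) (kb xb21 yb47 zb33) (kb xb26 yb15 zb6) (kb xb9 yb56 zb8) (kb xb20 yb46 zb32) (kb xb27 yb51 zb4) (kb xb9 yb56 zb11) (kb xb27 yb32 zb58) (kb xb9 yb56 zb12) (kb xb27 yb51 zb13)) (@D3.rec (fun _ => Pt) (kb xb27 yb51 zb12) (kb xb9 yb56 zb13) (kb xb18 yb50 zb30) (kb xb9 yb56 zb14) (kb xb18 yb20 zb61) (kb xb27 yb51 zb5) (kb xb17 yb51 zb59) (kb xb10 yb15 zb21) (kb xb9 yb56 zb19) (kb xb27 yb51 zb20) (kb xb18 yb32 zb43) (kb xb25 yb16 zb38) (kb xb18 yb32 zb45) (kb xb9 yb56 zb22) (kb xb15 yb14 zb50) (kb xb18 yb34 zb47) (kb xb18 yb30 zb31) (kb xb9 yb56 zb24) (kb xb9 yb56 zb25) (kb xb23 yb54 zb57) (kb xb27 yb51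 zb33) (kb xb27 yb46 zb0) (kb xb27 yb51 zb41) (kb xb9 yb56 zb45) (kb xb9 yb56 zb27) (kb xb9 yb56 zb28) (kb xb27 yb51 zb49) (kb xb27 yb51 zb51) (kb xb27 yb51 zb57) (kb xb27 yb34 zb38) (kb xb18 yb31 zb1) (kb xb9 yb56 zb30) (kb xb27 yb51 zb60) (kb xb27 yb52 zb3) (kb xb12 yb8 zb45) (kb xb27 yb52 zb6) (kb xb18 yb32 zb18) (kb xb18 yb30 zb50) (kb xb9 yb56 zb33) (kb xb9 yb56 zb34) (kb xb27 yb52 zb11) (kb xb27 yb52 zb20) (kb xb27 yb12 zb23) (kb xb27 yb52 zb14) (kb xb27 yb52 zb15) (kb xb27 yb52 zb22) (kb xb17 yb49 zb56) (kb xb26 yb19 zb24) (kb xb27 yb52 zb25) (kb xb18 yb31 zb14) (kb xb9 yb56 zb38) (kb xb9 yb56 zb39) (kb xb27 yb52 zb31) (kb xb27 yb52 zb33) (kb xb27 yb52 zb39) (kb xb27 yb52 zb40) (kb xb18 yb31 zb9) (kb xb9 yb56 zb41) (kb xb9 yb56 zb42) (kb xb18 yb14 zb50) (kb xb27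 yb52 zb45) (kb xb27 yb52 zb46)) (@D3.rec (fun _ => Pt) (kb xb9 yb56 zb43) (kb xb18 yb39 zb16) (kb xb25 yb26 zb27) (kb xb26 yb19 zb30) (kb xb9 yb56 zb44) (kb xb26 yb30 zb53) (kb xb22 yb29 zb22) (kb xb27 yb51 zb44) (kb xb27 yb51 zb45) (kb xb27 yb52 zb53) (kb xb27 yb52 zb55) (kb xb19 yb7 zb16) (kb xb9 yb56 zb48) (kb xb19 yb17 zb58) (kb xb9 yb56 zb50) (kb xb9 yb56 zb51) (kb xb27 yb53 zb1) (kb xb27 yb53 zb4) (kb xb27 yb52 zb60) (kb xb27 yb52 zb61) (kb xb9 yb56 zb49) (kb xb21 yb12 zb13) (kb xb27 yb53 zb11) (kb xb26 yb19 zb61) (kb xb23 yb0 zb36) (kb xb18 yb14 zb23) (kb xb9 yb56 zb53) (kb xb27 yb53 zb15) (kb xb9 yb56 zb54) (kb xb15 yb24 zb9) (kb xb9 yb56 zb55) (kb xb20 yb16 zb59) (kb xb16 yb42 zb12) (kb xb26 yb51 zb14) (kb xb12 yb4 zb9) (kb xb9 yb56 zb61) (kb xb27 yb53 zb17)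 (kb xb18 yb31 zb0) (kb xb9 yb56 zb59) (kb xb24 yb12 zb38) (kb xb21 yb13 zb25) (kb xb21 yb43 zb16) (kb xb18 yb33 zb35) (kb xb27 yb49 zb2) (kb xb9 yb57 zb1) (kb xb27 yb53 zb24) (kb xb27 yb49 zb1) (kb xb18 yb33 zb44) (kb xb20 yb47 zb29) (kb xb11 yb29 zb22) (kb xb16 yb55 zb48) (kb xb17 yb52 zb14) (kb xb10 yb17 zb18) (kb xb19 yb27 zb19) (kb xb10 yb6 zb45) (kb xb27 yb42 zb61) (kb xb9 yb57 zb15) (kb xb9 yb57 zb16) (kb xb11 yb15 zb19) (kb xb10 yb37 zb36) (kb xb25 yb47 zb23) (kb xb9 yb57 zb13)) (@D3.rec (fun _ => Pt) (kb xb9 yb57 zb14) (kb xb26 yb15 zb8) (kb xb10 yb17 zb3) (kb xb20 yb18 zb55) (kb xb27 yb31 zb61) (kb xb25 yb2 zb60) (kb xb9 yb57 zb23) (kb xb25 yb8 zb44) (kb xb9 yb57 zb24) (kb xb27 yb53 zb42) (kb xb9 yb57 zb25) (kb xb27 yb32 zb22) (kb xb27 yb32 zb23) (kb xb17 yb47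 zb0) (kb xb25 yb1 zb39) (kb xb19 yb1 zb16) (kb xb9 yb57 zb30) (kb xb18 yb13 zb31) (kb xb22 yb28 zb53) (kb xb9 yb57 zb33) (kb xb9 yb57 zb34) (kb xb24 yb56 zb30) (kb xb27 yb50 zb9) (kb xb27 yb33 zb58) (kb xb27 yb33 zb57) (kb xb9 yb57 zb31) (kb xb20 yb21 zb16) (kb xb27 yb53 zb57) (kb xb18 yb31 zb19) (kb xb20 yb10 zb38) (kb xb27 yb53 zb58) (kb xb18 yb13 zb17) (kb xb21 yb49 zb33) (kb xb17 yb45 zb56) (kb xb9 yb57 zb37) (kb xb9 yb57 zb36) (kb xb27 yb54 zb2) (kb xb27 yb54 zb3) (kb xb26 yb5 zb41) (kb xb27 yb54 zb6) (kb xb9 yb57 zb42) (kb xb9 yb57 zb40) (kb xb27 yb54 zb9) (kb xb27 yb54 zb10) (kb xb20 yb53 zb14) (kb xb18 yb29 zb20) (kb xb9 yb57 zb45) (kb xb17 yb47 zb38) (kb xb17 yb47 zb57) (kb xb18 yb34 zb50) (kb xb25 yb2 zb59) (kb xb18 yb49 zb50) (kb xb27 yb54 zb17) (kb xb18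 yb34 zb55) (kb xb18 yb34 zb56) (kb xb9 yb57 zb50) (kb xb14 yb33 zb6) (kb xb9 yb57 zb52) (kb xb27 yb33 zb23) (kb xb27 yb20 zb23) (kb xb9 yb57 zb53) (kb xb27 yb54 zb25)) (@D3.rec (fun _ => Pt) (kb xb27 yb54 zb24) (kb xb27 yb39 zb29) (kb xb12 yb16 zb17) (kb xb11 yb46 zb1) (kb xb11 yb50 zb12) (kb xb9 yb58 zb4) (kb xb9 yb57 zb57) (kb xb12 yb24 zb6) (kb xb10 yb26 zb37) (kb xb9 yb58 zb2) (kb xb9 yb58 zb5) (kb xb23 yb21 zb61) (kb xb27 yb44 zb0) (kb xb9 yb58 zb8) (kb xb9 yb58 zb9) (kb xb27 yb54 zb33) (kb xb18 yb35 zb12) (kb xb9 yb58 zb12) (kb xb18 yb6 zb47) (kb xb27 yb54 zb34) (kb xb9 yb58 zb22) (kb xb9 yb58 zb14) (kb xb9 yb58 zb15) (kb xb18 yb12 zb25) (kb xb26 yb20 zb0) (kb xb10 yb10 zb12) (kb xb10 yb10 zb11) (kb xb22 yb18 zb12) (kb xb25 yb24 zb1) (kb xb27 yb54 zb44) (kb xb18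 yb34 zb10) (kb xb9 yb58 zb19) (kb xb27 yb54 zb45) (kb xb9 yb58 zb20) (kb xb9 yb58 zb21) (kb xb27 yb54 zb49) (kb xb27 yb54 zb36) (kb xb27 yb54 zb37) (kb xb27 yb54 zb52) (kb xb26 yb31 zb56) (kb xb19 yb7 zb59) (kb xb9 yb58 zb27) (kb xb27 yb54 zb61) (kb xb27 yb55 zb0) (kb xb9 yb58 zb30) (kb xb9 yb58 zb25) (kb xb15 yb57 zb55) (kb xb9 yb58 zb26) (kb xb27 yb55 zb6) (kb xb27 yb55 zb11) (kb xb18 yb11 zb59) (kb xb27 yb54 zb59) (kb xb27 yb54 zb60) (kb xb9 yb58 zb28) (kb xb27 yb55 zb17) (kb xb9 yb58 zb29) (kb xb27 yb55 zb18) (kb xb27 yb55 zb20) (kb xb17 yb42 zb24) (kb xb26 yb4 zb23) (kb xb9 yb58 zb34) (kb xb27 yb55 zb21)) (@D3.rec (fun _ => Pt) (kb xb9 yb58 zb33) (kb xb27 yb55 zb25) (kb xb27 yb55 zb26) (kb xb9 yb58 zb36) (kb xb27 yb35 zb4) (kb xb15 yb14 zb46) (kb xb15 yb0 zb49)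 (kb xb15 yb0 zb53) (kb xb9 yb58 zb41) (kb xb27 yb47 zb47) (kb xb27 yb47 zb48) (kb xb10 yb17 zb53) (kb xb12 yb54 zb28) (kb xb12 yb56 zb24) (kb xb17 yb26 zb46) (kb xb12 yb29 zb27) (kb xb20 yb46 zb31) (kb xb9 yb58 zb48) (kb xb27 yb39 zb53) (kb xb16 yb20 zb16) (kb xb9 yb58 zb49) (kb xb27 yb55 zb35) (kb xb10 yb42 zb20) (kb xb18 yb35 zb42) (kb xb9 yb58 zb55) (kb xb21 yb53 zb57) (kb xb9 yb59 zb0) (kb xb27 yb55 zb38) (kb xb18 yb37 zb25) (kb xb10 yb4 zb55) (kb xb9 yb59 zb5) (kb xb11 yb40 zb27) (kb xb9 yb59 zb8) (kb xb20 yb45 zb35) (kb xb27 yb55 zb40) (kb xb26 yb59 zb4) (kb xb9 yb59 zb11) (kb xb20 yb16 zb54) (kb xb9 yb59 zb13) (kb xb12 yb46 zb26) (kb xb9 yb59 zb17) (kb xb19 yb1 zb54) (kb xb27 yb3 zb12) (kb xb9 yb59 zb59) (kb xb18 yb34 zb13) (kb xb19 yb0 zb8) (kb xb14 yb58 zb56)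 (kb xb19 yb1 zb14) (kb xb19 yb1 zb15) (kb xb19 yb10 zb46) (kb xb18 yb36 zb26) (kb xb14 yb43 zb7) (kb xb9 yb59 zb23) (kb xb18 yb49 zb30) (kb xb17 yb45 zb50) (kb xb27 yb32 zb25) (kb xb10 yb22 zb26) (kb xb24 yb56 zb38) (kb xb10 yb22 zb29) (kb xb10 yb22 zb30) (kb xb9 yb59 zb27) (kb xb9 yb59 zb28)) (@D3.rec (fun _ => Pt) (kb xb21 yb44 zb16) (kb xb12 yb43 zb40) (kb xb20 yb19 zb26) (kb xb22 yb8 zb39) (kb xb25 yb46 zb44) (kb xb27 yb29 zb51) (kb xb9 yb59 zb31) (kb xb27 yb29 zb48) (kb xb18 yb36 zb38) (kb xb9 yb59 zb38) (kb xb27 yb47 zb25) (kb xb25 yb3 zb42) (kb xb12 yb44 zb34) (kb xb18 yb37 zb16) (kb xb12 yb43 zb57) (kb xb21 yb7 zb48) (kb xb9 yb59 zb41) (kb xb17 yb31 zb39) (kb xb23 yb36 zb47) (kb xb9 yb59 zb52) (kb xb18 yb35 zb60) (kb xb27 yb36 zb43) (kb xb9 yb59 zb55) (kb xb9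 yb59 zb56) (kb xb9 yb59 zb57) (kb xb9 yb59 zb45) (kb xb27 yb56 zb2) (kb xb26 yb13 zb30) (kb xb27 yb45 zb3) (kb xb27 yb47 zb11) (kb xb17 yb44 zb48) (kb xb9 yb59 zb48) (kb xb9 yb59 zb49) (kb xb9 yb59 zb50) (kb xb25 yb34 zb4) (kb xb21 yb32 zb15) (kb xb26 yb14 zb43) (kb xb15 yb49 zb58) (kb xb24 yb45 zb39) (kb xb24 yb44 zb13) (kb xb27 yb56 zb4) (kb xb18 yb37 zb11) (kb xb18 yb50 zb40) (kb xb12 yb44 zb36) (kb xb21 yb51 zb52) (kb xb17 yb58 zb7) (kb xb21 yb51 zb50) (kb xb10 yb42 zb24) (kb xb9 yb59 zb60) (kb xb27 yb31 zb30) (kb xb27 yb56 zb8) (kb xb13 yb10 zb46) (kb xb17 yb0 zb32) (kb xb10 yb0 zb4) (kb xb10 yb0 zb7) (kb xb10 yb0 zb3) (kb xb17 yb44 zb50) (kb xb27 yb49 zb3) (kb xb27 yb40 zb9) (kb xb27 yb47 zb30) (kb xb18 yb37 zb37) (kb xb20 yb39 zb61)) (@D3.rec (fun _ => Pt) (kb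 xb12 yb43 zb61) (kb xb13 yb37 zb40) (kb xb17 yb3 zb2) (kb xb18 yb50 zb37) (kb xb10 yb0 zb12) (kb xb10 yb0 zb11) (kb xb18 yb37 zb53) (kb xb17 yb6 zb11) (kb xb10 yb0 zb16) (kb xb26 yb56 zb37) (kb xb10 yb0 zb17) (kb xb24 yb15 zb34) (kb xb17 yb9 zb56) (kb xb27 yb56 zb17) (kb xb24 yb19 zb4) (kb xb27 yb35 zb27) (kb xb10 yb0 zb21) (kb xb18 yb4 zb39) (kb xb17 yb5 zb53) (kb xb11 yb36 zb58) (kb xb21 yb7 zb38) (kb xb10 yb0 zb23) (kb xb27 yb56 zb22) (kb xb10 yb2 zb56) (kb xb10 yb2 zb57) (kb xb27 yb35 zb35) (kb xb10 yb0 zb30) (kb xb10 yb0 zb29) (kb xb20 yb42 zb27) (kb xb17 yb30 zb41) (kb xb17 yb16 zb40) (kb xb10 yb0 zb35) (kb xb21 yb35 zb52) (kb xb10 yb23 zb20) (kb xb10 yb0 zb37) (kb xb27 yb56 zb28) (kb xb27 yb56 zb34) (kb xb10 yb0 zb40) (kb xb10 yb0 zb41) (kb xb26 yb15 zb48) (kb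 xb10 yb16 zb46) (kb xb10 yb0 zb53) (kb xb10 yb0 zb43) (kb xb15 yb48 zb33) (kb xb21 yb47 zb52) (kb xb12 yb47 zb54) (kb xb10 yb0 zb45) (kb xb12 yb40 zb55) (kb xb14 yb46 zb57) (kb xb27 yb12 zb14) (kb xb27 yb56 zb40) (kb xb11 yb2 zb26) (kb xb27 yb56 zb41) (kb xb14 yb21 zb38) (kb xb18 yb39 zb59) (kb xb10 yb0 zb50) (kb xb10 yb0 zb51) (kb xb23 yb2 zb61) (kb xb22 yb4 zb43) (kb xb23 yb35 zb25) (kb xb25 yb58 zb16) (kb xb14 yb37 zb28)) (@D3.rec (fun _ => Pt) (kb xb27 yb56 zb47) (kb xb14 yb40 zb2) (kb xb22 yb4 zb60) (kb xb18 yb39 zb55) (kb xb10 yb0 zb57) (kb xb10 yb0 zb58) (kb xb19 yb48 zb25) (kb xb27 yb56 zb50) (kb xb27 yb56 zb53) (kb xb27 yb56 zb55) (kb xb18 yb27 zb49) (kb xb10 yb0 zb60) (kb xb10 yb0 zb61) (kb xb27 yb56 zb58) (kb xb24 yb45 zb22) (kb xb16 yb6 zb24) (kb xb12 yb54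 zb53) (kb xb18 yb40 zb2) (kb xb11 yb52 zb13) (kb xb10 yb1 zb1) (kb xb27 yb57 zb3) (kb xb12 yb54 zb55) (kb xb12 yb54 zb56) (kb xb10 yb1 zb3) (kb xb27 yb57 zb8) (kb xb21 yb22 zb18) (kb xb14 yb39 zb17) (kb xb17 yb33 zb44) (kb xb27 yb57 zb11) (kb xb12 yb7 zb26) (kb xb10 yb1 zb7) (kb xb24 yb10 zb20) (kb xb10 yb1 zb10) (kb xb10 yb1 zb11) (kb xb27 yb57 zb16) (kb xb27 yb57 zb18) (kb xb13 yb53 zb1) (kb xb23 yb35 zb9) (kb xb10 yb1 zb9) (kb xb27 yb57 zb21) (kb xb27 yb57 zb22) (kb xb20 yb22 zb31) (kb xb17 yb56 zb13) (kb xb10 yb1 zb12) (kb xb10 yb1 zb15) (kb xb10 yb1 zb14) (kb xb25 yb37 zb44) (kb xb27 yb57 zb25) (kb xb15 yb13 zb9) (kb xb20 yb32 zb46) (kb xb10 yb1 zb19) (kb xb15 yb13 zb5) (kb xb27 yb57 zb32) (kb xb27 yb57 zb29) (kb xb22 yb31 zb37) (kb xb10 yb1 zb21) (kb xb20 yb30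 zb1) (kb xb27 yb57 zb39) (kb xb27 yb57 zb38) (kb xb27 yb56 zb44) (kb xb10 yb1 zb26) (kb xb22 yb46 zb14)) (@D3.rec (fun _ => Pt) (kb xb21 yb2 zb44) (kb xb27 yb57 zb45) (kb xb10 yb1 zb28) (kb xb27 yb57 zb49) (kb xb27 yb57 zb48) (kb xb23 yb13 zb56) (kb xb16 yb22 zb3) (kb xb10 yb1 zb31) (kb xb23 yb5 zb30) (kb xb27 yb57 zb55) (kb xb23 yb13 zb52) (kb xb23 yb25 zb34) (kb xb10 yb1 zb37) (kb xb25 yb0 zb0) (kb xb19 yb47 zb38) (kb xb18 yb40 zb8) (kb xb10 yb1 zb34) (kb xb27 yb58 zb2) (kb xb27 yb58 zb4) (kb xb27 yb58 zb0) (kb xb27 yb58 zb1) (kb xb10 yb1 zb35) (kb xb18 yb58 zb52) (kb xb27 yb58 zb10) (kb xb27 yb58 zb12) (kb xb22 yb18 zb48) (kb xb23 yb9 zb34) (kb xb10 yb20 zb2) (kb xb15 yb16 zb34) (kb xb10 yb1 zb44) (kb xb20 yb8 zb9) (kb xb18 yb41 zb12) (kb xb10 yb1 zb41) (kb xb24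 yb47 zb45) (kb xb27 yb58 zb22) (kb xb27 yb58 zb19) (kb xb27 yb58 zb20) (kb xb22 yb51 zb23) (kb xb13 yb30 zb12) (kb xb26 yb19 zb35) (kb xb18 yb41 zb42) (kb xb18 yb41 zb8) (kb xb10 yb1 zb46) (kb xb10 yb1 zb47) (kb xb19 yb46 zb52) (kb xb26 yb19 zb22) (kb xb27 yb58 zb28) (kb xb27 yb5 zb40) (kb xb12 yb6 zb33) (kb xb10 yb1 zb49) (kb xb27 yb12 zb20) (kb xb23 yb6 zb49) (kb xb10 yb1 zb53) (kb xb12 yb22 zb34) (kb xb16 yb27 zb9) (kb xb26 yb17 zb17) (kb xb10 yb1 zb55) (kb xb18 yb59 zb12) (kb xb26 yb32 zb18) (kb xb16 yb20 zb47) (kb xb20 yb10 zb55) (kb xb26 yb22 zb4)) (@D3.rec (fun _ => Pt) (kb xb21 yb53 zb46) (kb xb10 yb1 zb60) (kb xb27 yb58 zb47) (kb xb10 yb1 zb61) (kb xb27 yb58 zb48) (kb xb21 yb29 zb57) (kb xb13 yb49 zb40) (kb xb15 yb10 zb60) (kb xb27 yb58 zb52) (kb xb22 yb41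 zb60) (kb xb27 yb58 zb54) (kb xb10 yb2 zb3) (kb xb23 yb25 zb23) (kb xb10 yb2 zb4) (kb xb27 yb58 zb57) (kb xb27 yb58 zb58) (kb xb18 yb53 zb0) (kb xb10 yb2 zb7) (kb xb10 yb2 zb8) (kb xb27 yb59 zb0) (kb xb27 yb59 zb6) (kb xb27 yb59 zb1) (kb xb10 yb40 zb41) (kb xb27 yb59 zb9) (kb xb10 yb2 zb10) (kb xb23 yb12 zb41) (kb xb10 yb2 zb13) (kb xb18 yb53 zb16) (kb xb27 yb59 zb10) (kb xb18 yb10 zb25) (kb xb27 yb43 zb22) (kb xb13 yb30 zb16) (kb xb10 yb2 zb16) (kb xb10 yb2 zb17) (kb xb10 yb2 zb20) (kb xb21 yb9 zb12) (kb xb27 yb59 zb15) (kb xb10 yb2 zb22) (kb xb14 yb1 zb12) (kb xb10 yb2 zb26) (kb xb20 yb21 zb2) (kb xb13 yb30 zb14) (kb xb27 yb59 zb18) (kb xb18 yb39 zb10) (kb xb10 yb2 zb28) (kb xb26 yb32 zb53) (kb xb19 yb18 zb3) (kb xb16 yb21 zb3) (kb xb27 yb37 zb50) (kb xb16 yb8 zb0)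 (kb xb18 yb39 zb23) (kb xb18 yb39 zb24) (kb xb10 yb2 zb31) (kb xb20 yb21 zb30) (kb xb10 yb2 zb32) (kb xb24 yb47 zb39) (kb xb27 yb59 zb26) (kb xb27 yb59 zb27) (kb xb10 yb2 zb35) (kb xb19 yb22 zb58) (kb xb27 yb59 zb33) (kb xb18 yb11 zb4)) (@D3.rec (fun _ => Pt) (kb xb10 yb2 zb37) (kb xb27 yb59 zb34) (kb xb10 yb2 zb40) (kb xb10 yb2 zb41) (kb xb10 yb2 zb43) (kb xb10 yb2 zb46) (kb xb12 yb10 zb35) (kb xb23 yb18 zb50) (kb xb24 yb59 zb40) (kb xb19 yb10 zb28) (kb xb11 yb25 zb50) (kb xb13 yb2 zb11) (kb xb10 yb2 zb55) (kb xb27 yb59 zb38) (kb xb27 yb59 zb39) (kb xb20 yb46 zb57) (kb xb27 yb59 zb41) (kb xb27 yb56 zb24) (kb xb27 yb59 zb47) (kb xb27 yb59 zb48) (kb xb14 yb35 zb1) (kb xb27 yb56 zb25) (kb xb10 yb2 zb58) (kb xb19 yb23 zb12) (kb xb24 yb53 zb9) (kb xb20 yb45 zb39) (kb xb11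 yb58 zb39) (kb xb11 yb55 zb19) (kb xb27 yb38 zb7) (kb xb10 yb3 zb1) (kb xb10 yb3 zb2) (kb xb20 yb52 zb6) (kb xb18 yb39 zb40) (kb xb27 yb59 zb57) (kb xb10 yb3 zb5) (kb xb10 yb3 zb4) (kb xb27 yb59 zb59) (kb xb18 yb39 zb51) (kb xb10 yb20 zb3) (kb xb22 yb51 zb46) (kb xb18 yb39 zb13) (kb xb10 yb3 zb9) (kb xb10 yb3 zb10) (kb xb22 yb29 zb10) (kb xb13 yb13 zb60) (kb xb18 yb59 zb2) (kb xb12 yb6 zb38) (kb xb28 yb0 zb1) (kb xb14 yb58 zb30) (kb xb13 yb29 zb45) (kb xb10 yb3 zb17) (kb xb18 yb10 zb46) (kb xb19 yb0 zb52) (kb xb16 yb53 zb0) (kb xb27 yb32 zb11) (kb xb10 yb3 zb23) (kb xb28 yb0 zb6) (kb xb10 yb3 zb25) (kb xb10 yb3 zb26) (kb xb24 yb28 zb30) (kb xb28 yb0 zb4) (kb xb28 yb0 zb5)) (@D3.rec (fun _ => Pt) (kb xb10 yb3 zb24) (kb xb25 yb54 zb10) (kb xb14 yb25 zb44) (kb xb28 yb0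 zb15) (kb xb14 yb28 zb3) (kb xb24 yb9 zb43) (kb xb10 yb3 zb28) (kb xb26 yb26 zb56) (kb xb10 yb3 zb29) (kb xb27 yb44 zb47) (kb xb28 yb0 zb21) (kb xb16 yb42 zb5) (kb xb10 yb3 zb31) (kb xb20 yb58 zb26) (kb xb20 yb57 zb26) (kb xb18 yb41 zb44) (kb xb10 yb3 zb37) (kb xb18 yb57 zb7) (kb xb10 yb30 zb11) (kb xb10 yb3 zb40) (kb xb10 yb3 zb44) (kb xb26 yb24 zb55) (kb xb17 yb49 zb14) (kb xb13 yb26 zb35) (kb xb10 yb41 zb24) (kb xb24 yb28 zb36) (kb xb26 yb47 zb3) (kb xb24 yb46 zb7) (kb xb20 yb14 zb57) (kb xb20 yb55 zb61) (kb xb10 yb3 zb56) (kb xb14 yb4 zb40) (kb xb10 yb3 zb59) (kb xb10 yb3 zb60) (kb xb10 yb3 zb58) (kb xb28 yb0 zb25) (kb xb12 yb49 zb23) (kb xb21 yb39 zb54) (kb xb10 yb3 zb61) (kb xb10 yb17 zb24) (kb xb20 yb33 zb4) (kb xb10 yb4 zb4) (kb xb28 yb0 zb26) (kb xb25 yb2 zb14)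 (kb xb13 yb58 zb54) (kb xb15 yb50 zb10) (kb xb13 yb49 zb46) (kb xb22 yb30 zb55) (kb xb13 yb50 zb16) (kb xb26 yb55 zb11) (kb xb10 yb4 zb20) (kb xb10 yb4 zb11) (kb xb17 yb39 zb39) (kb xb28 yb0 zb32) (kb xb19 yb1 zb49) (kb xb25 yb16 zb1) (kb xb10 yb4 zb13) (kb xb27 yb4 zb44) (kb xb15 yb23 zb47) (kb xb23 yb15 zb21) (kb xb10 yb4 zb15) (kb xb13 yb0 zb21)) (@D3.rec (fun _ => Pt) (kb xb10 yb4 zb16) (kb xb27 yb39 zb7) (kb xb26 yb3 zb27) (kb xb14 yb1 zb8) (kb xb10 yb4 zb18) (kb xb23 yb11 zb40) (kb xb21 yb2 zb36) (kb xb17 yb21 zb47) (kb xb28 yb0 zb41) (kb xb27 yb15 zb1) (kb xb28 yb0 zb43) (kb xb24 yb19 zb52) (kb xb22 yb35 zb40) (kb xb10 yb4 zb24) (kb xb16 yb57 zb43) (kb xb17 yb31 zb24) (kb xb21 yb50 zb48) (kb xb17 yb9 zb28) (kb xb27 yb50 zb52) (kb xb12 yb25 zb1) (kb xb10 yb4 zb34)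 (kb xb12 yb58 zb48) (kb xb10 yb4 zb38) (kb xb20 yb36 zb2) (kb xb17 yb7 zb22) (kb xb10 yb4 zb54) (kb xb20 yb45 zb27) (kb xb12 yb24 zb50) (kb xb14 yb20 zb4) (kb xb10 yb4 zb48) (kb xb17 yb12 zb60) (kb xb10 yb4 zb50) (kb xb20 yb26 zb50) (kb xb10 yb4 zb51) (kb xb21 yb57 zb45) (kb xb20 yb16 zb19) (kb xb21 yb57 zb28) (kb xb25 yb18 zb19) (kb xb10 yb5 zb2) (kb xb22 yb30 zb57) (kb xb15 yb13 zb33) (kb xb20 yb22 zb3) (kb xb21 yb15 zb40) (kb xb18 yb42 zb20) (kb xb26 yb48 zb51) (kb xb13 yb50 zb48) (kb xb25 yb46 zb25) (kb xb13 yb50 zb52) (kb xb11 yb37 zb38) (kb xb28 yb0 zb54) (kb xb10 yb5 zb7) (kb xb15 yb8 zb13) (kb xb23 yb32 zb35) (kb xb18 yb42 zb42) (kb xb13 yb38 zb4) (kb xb15 yb47 zb33) (kb xb21 yb9 zb49) (kb xb28 yb0 zb58) (kb xb15 yb13 zb27) (kb xb18 yb37 zb22) (kb xb10 yb5 zb19)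 (kb xb12 yb47 zb20)) (@D3.rec (fun _ => Pt) (kb xb12 yb43 zb31) (kb xb10 yb5 zb21) (kb xb21 yb41 zb60) (kb xb25 yb18 zb18) (kb xb11 yb26 zb54) (kb xb18 yb40 zb61) (kb xb10 yb5 zb26) (kb xb18 yb43 zb3) (kb xb10 yb5 zb40) (kb xb10 yb5 zb41) (kb xb24 yb19 zb0) (kb xb11 yb59 zb5) (kb xb13 yb2 zb19) (kb xb11 yb57 zb42) (kb xb10 yb5 zb34) (kb xb16 yb7 zb16) (kb xb17 yb15 zb57) (kb xb21 yb41 zb56) (kb xb10 yb5 zb36) (kb xb10 yb5 zb37) (kb xb10 yb5 zb38) (kb xb21 yb20 zb50) (kb xb28 yb1 zb0) (kb xb18 yb37 zb36) (kb xb18 yb36 zb43) (kb xb14 yb35 zb60) (kb xb22 yb17 zb42) (kb xb27 yb36 zb27) (kb xb28 yb1 zb5) (kb xb20 yb31 zb7) (kb xb14 yb16 zb46) (kb xb17 yb26 zb40) (kb xb10 yb18 zb18) (kb xb10 yb5 zb52) (kb xb12 yb14 zb45) (kb xb13 yb2 zb18) (kb xb18 yb37 zb8) (kb xb12 yb37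 zb48) (kb xb10 yb7 zb0) (kb xb14 yb26 zb45) (kb xb14 yb26 zb46) (kb xb27 yb42 zb19) (kb xb21 yb7 zb29) (kb xb21 yb7 zb50) (kb xb21 yb30 zb26) (kb xb12 yb43 zb32) (kb xb12 yb27 zb52) (kb xb10 yb5 zb58) (kb xb12 yb45 zb5) (kb xb21 yb30 zb28) (kb xb12 yb37 zb31) (kb xb12 yb31 zb60) (kb xb26 yb26 zb22) (kb xb10 yb6 zb2) (kb xb18 yb0 zb2) (kb xb28 yb1 zb12) (kb xb18 yb43 zb31) (kb xb12 yb32 zb5) (kb xb10 yb6 zb11) (kb xb21 yb47 zb45) (kb xb12 yb27 zb42) (kb xb10 yb6 zb7)) (@D3.rec (fun _ => Pt) (kb xb10 yb6 zb8) (kb xb12 yb15 zb16) (kb xb12 yb27 zb47) (kb xb28 yb1 zb18) (kb xb20 yb40 zb20) (kb xb21 yb47 zb25) (kb xb11 yb38 zb58) (kb xb15 yb27 zb12) (kb xb11 yb27 zb47) (kb xb27 yb56 zb27) (kb xb10 yb6 zb51) (kb xb10 yb6 zb52) (kb xb14 yb18 zb13) (kb xb14 yb18 zb14) (kb xb15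 yb26 zb44) (kb xb14 yb33 zb15) (kb xb10 yb6 zb17) (kb xb14 yb36 zb37) (kb xb10 yb6 zb61) (kb xb10 yb6 zb20) (kb xb10 yb6 zb21) (kb xb11 yb57 zb37) (kb xb25 yb18 zb54) (kb xb20 yb34 zb43) (kb xb27 yb37 zb33) (kb xb16 yb17 zb55) (kb xb12 yb43 zb5) (kb xb12 yb14 zb51) (kb xb12 yb27 zb56) (kb xb10 yb6 zb26) (kb xb28 yb1 zb28) (kb xb18 yb37 zb61) (kb xb27 yb22 zb8) (kb xb10 yb6 zb32) (kb xb10 yb6 zb29) (kb xb10 yb6 zb31) (kb xb25 yb17 zb57) (kb xb18 yb50 zb44) (kb xb12 yb42 zb39) (kb xb21 yb19 zb40) (kb xb20 yb15 zb56) (kb xb12 yb17 zb16) (kb xb18 yb38 zb1) (kb xb11 yb38 zb32) (kb xb12 yb28 zb4) (kb xb20 yb15 zb57) (kb xb10 yb7 zb14) (kb xb23 yb48 zb2) (kb xb10 yb6 zb43) (kb xb28 yb1 zb35) (kb xb10 yb6 zb44) (kb xb21 yb3 zb9) (kb xb12 yb4 zb22) (kb xb19 yb47 zb46) (kb xb26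 yb46 zb38) (kb xb10 yb6 zb46) (kb xb16 yb44 zb51) (kb xb23 yb48 zb1) (kb xb10 yb6 zb47) (kb xb28 yb1 zb38) (kb xb28 yb1 zb37) (kb xb21 yb0 zb11)) (@D3.rec (fun _ => Pt) (kb xb17 yb12 zb45) (kb xb19 yb58 zb32) (kb xb14 yb33 zb14) (kb xb20 yb20 zb50) (kb xb12 yb9 zb36) (kb xb10 yb45 zb35) (kb xb10 yb7 zb3) (kb xb11 yb38 zb43) (kb xb10 yb7 zb2) (kb xb12 yb35 zb33) (kb xb21 yb47 zb55) (kb xb18 yb43 zb49) (kb xb28 yb1 zb40) (kb xb18 yb43 zb44) (kb xb18 yb37 zb44) (kb xb20 yb26 zb28) (kb xb10 yb7 zb6) (kb xb16 yb42 zb16) (kb xb27 yb4 zb19) (kb xb28 yb1 zb34) (kb xb23 yb38 zb7) (kb xb17 yb10 zb57) (kb xb10 yb7 zb12) (kb xb10 yb7 zb16) (kb xb10 yb10 zb58) (kb xb28 yb1 zb43) (kb xb23 yb36 zb57) (kb xb25 yb16 zb55) (kb xb27 yb52 zb26) (kb xb16 yb20 zb50) (kb xb18 yb9 zb59) (kb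 xb10 yb7 zb28) (kb xb10 yb7 zb29) (kb xb21 yb26 zb2) (kb xb26 yb14 zb3) (kb xb16 yb20 zb12) (kb xb17 yb44 zb17) (kb xb10 yb7 zb30) (kb xb17 yb54 zb40) (kb xb26 yb15 zb51) (kb xb23 yb43 zb22) (kb xb28 yb1 zb51) (kb xb17 yb44 zb22) (kb xb10 yb7 zb34) (kb xb22 yb28 zb31) (kb xb27 yb31 zb57) (kb xb26 yb15 zb39) (kb xb18 yb40 zb33) (kb xb10 yb7 zb36) (kb xb10 yb7 zb37) (kb xb23 yb45 zb25) (kb xb28 yb1 zb56) (kb xb18 yb10 zb7) (kb xb28 yb1 zb61) (kb xb24 yb58 zb47) (kb xb10 yb7 zb39) (kb xb10 yb7 zb40) (kb xb15 yb12 zb26) (kb xb10 yb7 zb41) (kb xb19 yb51 zb2) (kb xb23 yb1 zb57) (kb xb28 yb2 zb2)) (@D3.rec (fun _ => Pt) (kb xb18 yb44 zb43) (kb xb14 yb9 zb33) (kb xb10 yb7 zb46) (kb xb28 yb2 zb7) (kb xb28 yb2 zb10) (kb xb15 yb10 zb42) (kb xb25 yb1 zb6) (kb xb21 yb28 zb40) (kb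 xb25 yb0 zb19) (kb xb10 yb7 zb47) (kb xb10 yb7 zb48) (kb xb28 yb2 zb20) (kb xb28 yb2 zb21) (kb xb28 yb2 zb22) (kb xb10 yb7 zb51) (kb xb10 yb7 zb52) (kb xb28 yb2 zb26) (kb xb17 yb23 zb14) (kb xb26 yb19 zb21) (kb xb17 yb23 zb16) (kb xb18 yb45 zb27) (kb xb10 yb8 zb12) (kb xb10 yb7 zb59) (kb xb18 yb37 zb2) (kb xb24 yb29 zb33) (kb xb10 yb8 zb1) (kb xb27 yb49 zb0) (kb xb28 yb2 zb31) (kb xb10 yb8 zb4) (kb xb10 yb8 zb5) (kb xb27 yb28 zb44) (kb xb28 yb2 zb32) (kb xb27 yb27 zb8) (kb xb10 yb8 zb2) (kb xb17 yb41 zb25) (kb xb24 yb54 zb4) (kb xb26 yb19 zb42) (kb xb10 yb8 zb6) (kb xb28 yb2 zb35) (kb xb28 yb2 zb36) (kb xb10 yb8 zb8) (kb xb17 yb40 zb55) (kb xb26 yb41 zb2) (kb xb15 yb44 zb49) (kb xb10 yb8 zb11) (kb xb13 yb0 zb22) (kb xb25 yb38 zb27) (kb xb25 yb19 zb57) (kb xb17 yb33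 zb32) (kb xb18 yb18 zb10) (kb xb28 yb2 zb37) (kb xb20 yb11 zb45) (kb xb10 yb21 zb24) (kb xb10 yb8 zb15) (kb xb28 yb2 zb43) (kb xb28 yb2 zb45) (kb xb23 yb51 zb32) (kb xb22 yb35 zb2) (kb xb17 yb46 zb10) (kb xb10 yb8 zb18) (kb xb26 yb5 zb26) (kb xb28 yb2 zb29)) (@D3.rec (fun _ => Pt) (kb xb10 yb8 zb20) (kb xb28 yb2 zb51) (kb xb28 yb2 zb50) (kb xb10 yb8 zb21) (kb xb15 yb36 zb18) (kb xb25 yb0 zb33) (kb xb16 yb18 zb33) (kb xb23 yb2 zb5) (kb xb23 yb44 zb39) (kb xb15 yb10 zb25) (kb xb10 yb8 zb27) (kb xb28 yb3 zb1) (kb xb10 yb8 zb30) (kb xb10 yb8 zb31) (kb xb10 yb8 zb25) (kb xb21 yb25 zb25) (kb xb10 yb8 zb26) (kb xb23 yb44 zb12) (kb xb15 yb10 zb46) (kb xb10 yb9 zb20) (kb xb28 yb2 zb38) (kb xb28 yb3 zb0) (kb xb10 yb8 zb28) (kb xb28 yb3 zb12) (kb xb10 yb8 zb29) (kb xb24 yb47 zb48)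 (kb xb15 yb5 zb58) (kb xb28 yb3 zb19) (kb xb28 yb3 zb3) (kb xb10 yb8 zb32) (kb xb28 yb3 zb22) (kb xb28 yb3 zb25) (kb xb10 yb8 zb34) (kb xb22 yb8 zb53) (kb xb27 yb31 zb8) (kb xb19 yb42 zb15) (kb xb10 yb8 zb40) (kb xb25 yb0 zb49) (kb xb21 yb4 zb34) (kb xb15 yb10 zb51) (kb xb28 yb3 zb30) (kb xb15 yb10 zb17) (kb xb10 yb8 zb44) (kb xb27 yb48 zb42) (kb xb27 yb20 zb29) (kb xb10 yb8 zb46) (kb xb23 yb35 zb39) (kb xb28 yb3 zb4) (kb xb10 yb8 zb45) (kb xb10 yb8 zb47) (kb xb27 yb38 zb47) (kb xb10 yb8 zb49) (kb xb10 yb8 zb50) (kb xb18 yb33 zb9) (kb xb28 yb2 zb54) (kb xb28 yb2 zb55) (kb xb10 yb8 zb51) (kb xb17 yb47 zb9) (kb xb25 yb0 zb37) (kb xb22 yb35 zb1) (kb xb24 yb55 zb9) (kb xb10 yb8 zb56)) (@D3.rec (fun _ => Pt) (kb xb28 yb3 zb37) (kb xb10 yb11 zb39) (kb xb15 yb14 zb40) (kb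 xb10 yb8 zb57) (kb xb28 yb3 zb40) (kb xb23 yb43 zb27) (kb xb10 yb8 zb58) (kb xb10 yb25 zb44) (kb xb21 yb25 zb35) (kb xb24 yb56 zb14) (kb xb15 yb50 zb32) (kb xb27 yb30 zb56) (kb xb23 yb42 zb46) (kb xb15 yb10 zb7) (kb xb24 yb56 zb27) (kb xb10 yb9 zb3) (kb xb28 yb2 zb9) (kb xb23 yb51 zb26) (kb xb10 yb9 zb6) (kb xb10 yb9 zb7) (kb xb18 yb13 zb45) (kb xb12 yb47 zb43) (kb xb10 yb22 zb54) (kb xb21 yb25 zb1) (kb xb27 yb44 zb42) (kb xb28 yb3 zb47) (kb xb26 yb33 zb0) (kb xb25 yb1 zb7) (kb xb28 yb3 zb49) (kb xb22 yb29 zb12) (kb xb26 yb33 zb1) (kb xb25 yb0 zb61) (kb xb23 yb43 zb29) (kb xb10 yb22 zb46) (kb xb10 yb9 zb11) (kb xb10 yb9 zb12) (kb xb10 yb22 zb48) (kb xb10 yb22 zb52) (kb xb17 yb14 zb20) (kb xb28 yb3 zb60) (kb xb25 yb1 zb13) (kb xb17 yb35 zb10) (kb xb22 yb8 zb59) (kb xb28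 yb4 zb2) (kb xb25 yb1 zb16) (kb xb27 yb44 zb52) (kb xb10 yb9 zb15) (kb xb26 yb3 zb13) (kb xb28 yb4 zb5) (kb xb26 yb23 zb13) (kb xb24 yb41 zb29) (kb xb25 yb2 zb42) (kb xb16 yb18 zb10) (kb xb10 yb9 zb25) (kb xb20 yb46 zb52) (kb xb28 yb3 zb2) (kb xb10 yb9 zb28) (kb xb25 yb1 zb17) (kb xb15 yb10 zb2) (kb xb25 yb0 zb50) (kb xb24 yb59 zb25) (kb xb25 yb1 zb20)) (@D3.rec (fun _ => Pt) (kb xb13 yb50 zb49) (kb xb10 yb9 zb22) (kb xb21 yb25 zb10) (kb xb28 yb4 zb12) (kb xb23 yb43 zb57) (kb xb10 yb9 zb23) (kb xb28 yb4 zb16) (kb xb28 yb3 zb9) (kb xb10 yb9 zb24) (kb xb12 yb26 zb39) (kb xb23 yb42 zb49) (kb xb10 yb9 zb26) (kb xb27 yb45 zb1) (kb xb28 yb4 zb19) (kb xb10 yb9 zb27) (kb xb28 yb4 zb22) (kb xb27 yb28 zb39) (kb xb16 yb18 zb36) (kb xb27 yb39 zb30) (kb xb27 yb53 zb37) (kb xb10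 yb9 zb31) (kb xb10 yb9 zb30) (kb xb28 yb4 zb26) (kb xb23 yb34 zb14) (kb xb10 yb9 zb34) (kb xb10 yb9 zb35) (kb xb16 yb23 zb3) (kb xb14 yb58 zb2) (kb xb16 yb33 zb2) (kb xb16 yb35 zb24) (kb xb27 yb33 zb21) (kb xb18 yb11 zb16) (kb xb10 yb9 zb38) (kb xb10 yb9 zb39) (kb xb28 yb4 zb35) (kb xb28 yb4 zb37) (kb xb28 yb4 zb41) (kb xb28 yb4 zb43) (kb xb10 yb10 zb3) (kb xb10 yb9 zb41) (kb xb10 yb9 zb42) (kb xb28 yb4 zb48) (kb xb28 yb2 zb19) (kb xb26 yb3 zb60) (kb xb18 yb35 zb29) (kb xb10 yb9 zb44) (kb xb10 yb9 zb45) (kb xb10 yb9 zb46) (kb xb20 yb11 zb5) (kb xb27 yb32 zb55) (kb xb18 yb11 zb37) (kb xb10 yb9 zb49) (kb xb10 yb9 zb50) (kb xb28 yb4 zb59) (kb xb28 yb5 zb1) (kb xb28 yb5 zb3) (kb xb28 yb4 zb60) (kb xb20 yb21 zb20) (kb xb28 yb5 zb5) (kb xb27 yb59 zb14) (kb xb10 yb9 zb54)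 (kb xb28 yb5 zb11)) (@D3.rec (fun _ => Pt) (kb xb18 yb12 zb37) (kb xb18 yb11 zb30) (kb xb10 yb9 zb57) (kb xb10 yb9 zb58) (kb xb18 yb34 zb44) (kb xb28 yb5 zb18) (kb xb18 yb34 zb45) (kb xb26 yb18 zb49) (kb xb28 yb5 zb22) (kb xb18 yb11 zb56) (kb xb10 yb9 zb60) (kb xb28 yb5 zb29) (kb xb28 yb5 zb30) (kb xb28 yb5 zb32) (kb xb18 yb11 zb49) (kb xb10 yb10 zb0) (kb xb28 yb5 zb33) (kb xb10 yb10 zb1) (kb xb17 yb51 zb23) (kb xb18 yb13 zb28) (kb xb10 yb10 zb2) (kb xb11 yb23 zb33) (kb xb28 yb4 zb44) (kb xb28 yb5 zb41) (kb xb28 yb5 zb42) (kb xb22 yb35 zb42) (kb xb10 yb10 zb8) (kb xb10 yb10 zb6) (kb xb28 yb5 zb47) (kb xb10 yb10 zb7) (kb xb28 yb5 zb52) (kb xb28 yb5 zb55) (kb xb28 yb5 zb59) (kb xb18 yb34 zb4) (kb xb18 yb34 zb3) (kb xb10 yb10 zb9) (kb xb28 yb6 zb4) (kb xb10 yb10 zb10)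 (kb xb23 yb50 zb52) (kb xb26 yb27 zb22) (kb xb28 yb6 zb8) (kb xb23 yb36 zb50) (kb xb17 yb47 zb18) (kb xb23 yb50 zb32) (kb xb10 yb10 zb14) (kb xb28 yb6 zb17) (kb xb10 yb10 zb17) (kb xb10 yb10 zb16) (kb xb28 yb6 zb20) (kb xb28 yb6 zb21) (kb xb19 yb2 zb0) (kb xb26 yb16 zb8) (kb xb18 yb4 zb33) (kb xb10 yb10 zb19) (kb xb26 yb20 zb50) (kb xb20 yb45 zb44) (kb xb28 yb6 zb28) (kb xb10 yb10 zb20) (kb xb28 yb6 zb30) (kb xb10 yb10 zb21) (kb xb26 yb15 zb15) (kb xb19 yb19 zb58)) (@D3.rec (fun _ => Pt) (kb xb10 yb10 zb23) (kb xb17 yb44 zb52) (kb xb26 yb4 zb25) (kb xb18 yb10 zb9) (kb xb20 yb38 zb28) (kb xb28 yb6 zb38) (kb xb10 yb10 zb28) (kb xb10 yb10 zb26) (kb xb28 yb6 zb40) (kb xb27 yb59 zb13) (kb xb10 yb10 zb30) (kb xb28 yb2 zb1) (kb xb28 yb6 zb42) (kb xb10 yb10 zb31) (kb xb18 yb40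 zb31) (kb xb27 yb36 zb19) (kb xb10 yb10 zb35) (kb xb28 yb6 zb47) (kb xb18 yb11 zb36) (kb xb10 yb10 zb34) (kb xb28 yb6 zb53) (kb xb28 yb6 zb54) (kb xb18 yb10 zb45) (kb xb28 yb6 zb46) (kb xb27 yb46 zb37) (kb xb10 yb10 zb37) (kb xb27 yb47 zb49) (kb xb28 yb6 zb59) (kb xb18 yb10 zb52) (kb xb19 yb3 zb59) (kb xb19 yb11 zb0) (kb xb11 yb28 zb40) (kb xb12 yb3 zb37) (kb xb10 yb10 zb41) (kb xb10 yb45 zb40) (kb xb18 yb42 zb14) (kb xb10 yb10 zb47) (kb xb10 yb10 zb44) (kb xb28 yb7 zb0) (kb xb10 yb10 zb45) (kb xb28 yb7 zb2) (kb xb10 yb10 zb48) (kb xb17 yb48 zb18) (kb xb18 yb11 zb10) (kb xb21 yb34 zb56) (kb xb18 yb11 zb12) (kb xb10 yb10 zb51) (kb xb18 yb9 zb5) (kb xb10 yb10 zb53) (kb xb26 yb18 zb15) (kb xb18 yb10 zb43) (kb xb10 yb10 zb56) (kb xb16 yb20 zb11) (kb xb28 yb7 zb13) (kb xb28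 yb7 zb10) (kb xb28 yb7 zb11) (kb xb28 yb7 zb17) (kb xb21 yb12 zb37) (kb xb28 yb7 zb20) (kb xb10 yb10 zb60) (kb xb28 yb7 zb22) (kb xb27 yb49 zb43)) (@D3.rec (fun _ => Pt) (kb xb26 yb19 zb48) (kb xb10 yb11 zb0) (kb xb17 yb50 zb51) (kb xb19 yb12 zb4) (kb xb10 yb11 zb1) (kb xb28 yb7 zb26) (kb xb27 yb33 zb50) (kb xb27 yb33 zb51) (kb xb17 yb46 zb0) (kb xb18 yb28 zb53) (kb xb10 yb11 zb5) (kb xb28 yb7 zb37) (kb xb10 yb11 zb7) (kb xb10 yb11 zb8) (kb xb28 yb7 zb40) (kb xb10 yb12 zb28) (kb xb28 yb7 zb35) (kb xb28 yb7 zb36) (kb xb10 yb11 zb6) (kb xb28 yb7 zb43) (kb xb26 yb21 zb44) (kb xb28 yb7 zb47) (kb xb11 yb0 zb5) (kb xb26 yb19 zb28) (kb xb11 yb23 zb44) (kb xb10 yb11 zb10) (kb xb26 yb35 zb29) (kb xb16 yb21 zb51) (kb xb10 yb11 zb11) (kb xb28 yb7 zb52) (kb xb24 yb51 zb19) (kb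 xb15 yb29 zb28) (kb xb10 yb11 zb12) (kb xb18 yb44 zb21) (kb xb10 yb11 zb14) (kb xb18 yb12 zb42) (kb xb16 yb20 zb35) (kb xb10 yb35 zb4) (kb xb12 yb1 zb23) (kb xb18 yb10 zb41) (kb xb25 yb2 zb58) (kb xb10 yb11 zb20) (kb xb10 yb11 zb19) (kb xb26 yb13 zb39) (kb xb18 yb12 zb47) (kb xb23 yb6 zb27) (kb xb10 yb11 zb23) (kb xb24 yb32 zb6) (kb xb10 yb11 zb25) (kb xb27 yb34 zb40) (kb xb26 yb4 zb49) (kb xb28 yb8 zb2) (kb xb17 yb51 zb19) (kb xb10 yb11 zb29) (kb xb26 yb52 zb49) (kb xb28 yb8 zb4) (kb xb25 yb41 zb25) (kb xb27 yb45 zb30) (kb xb28 yb7 zb31) (kb xb10 yb11 zb42) (kb xb10 yb11 zb33) (kb xb10 yb11 zb34)) (@D3.rec (fun _ => Pt) (kb xb27 yb53 zb8) (kb xb28 yb7 zb42) (kb xb28 yb3 zb16) (kb xb18 yb31 zb34) (kb xb18 yb31 zb33) (kb xb28 yb8 zb15) (kb xb18 yb5 zb50) (kb xb20 yb21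 zb32) (kb xb27 yb33 zb43) (kb xb27 yb47 zb39) (kb xb18 yb14 zb30) (kb xb28 yb3 zb39) (kb xb10 yb11 zb40) (kb xb18 yb15 zb44) (kb xb28 yb8 zb24) (kb xb10 yb11 zb41) (kb xb28 yb8 zb7) (kb xb28 yb8 zb8) (kb xb22 yb35 zb39) (kb xb10 yb11 zb45) (kb xb28 yb8 zb37) (kb xb21 yb12 zb50) (kb xb10 yb11 zb48) (kb xb10 yb11 zb49) (kb xb26 yb31 zb1) (kb xb22 yb20 zb14) (kb xb28 yb8 zb35) (kb xb28 yb8 zb36) (kb xb10 yb11 zb46) (kb xb26 yb29 zb42) (kb xb10 yb11 zb47) (kb xb28 yb8 zb52) (kb xb28 yb8 zb53) (kb xb28 yb8 zb55) (kb xb16 yb46 zb54) (kb xb28 yb8 zb43) (kb xb10 yb11 zb52) (kb xb28 yb8 zb58) (kb xb10 yb11 zb51) (kb xb28 yb8 zb61) (kb xb28 yb9 zb2) (kb xb10 yb11 zb55) (kb xb10 yb11 zb56) (kb xb10 yb11 zb54) (kb xb18 yb31 zb4) (kb xb18 yb31 zb6) (kb xb20 yb5 zb17) (kb xb18 yb11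 zb15) (kb xb24 yb12 zb34) (kb xb27 yb35 zb10) (kb xb18 yb13 zb49) (kb xb10 yb11 zb60) (kb xb26 yb31 zb18) (kb xb18 yb56 zb47) (kb xb13 yb14 zb13) (kb xb18 yb13 zb53) (kb xb18 yb13 zb54) (kb xb23 yb21 zb51) (kb xb22 yb14 zb34) (kb xb18 yb57 zb12) (kb xb10 yb12 zb2) (kb xb26 yb4 zb38)) (@D3.rec (fun _ => Pt) (kb xb17 yb30 zb12) (kb xb27 yb35 zb38) (kb xb20 yb9 zb32) (kb xb10 yb21 zb1) (kb xb10 yb12 zb9) (kb xb13 yb55 zb44) (kb xb10 yb12 zb12) (kb xb17 yb29 zb55) (kb xb28 yb9 zb19) (kb xb10 yb12 zb15) (kb xb10 yb12 zb16) (kb xb28 yb9 zb20) (kb xb18 yb14 zb16) (kb xb10 yb12 zb18) (kb xb10 yb12 zb19) (kb xb19 yb0 zb27) (kb xb10 yb12 zb21) (kb xb10 yb12 zb22) (kb xb24 yb53 zb50) (kb xb27 yb34 zb6) (kb xb18 yb59 zb5) (kb xb10 yb12 zb26) (kb xb21 yb12 zb41) (kb xb17 yb47 zb7)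 (kb xb17 yb47 zb6) (kb xb10 yb12 zb27) (kb xb24 yb53 zb47) (kb xb28 yb9 zb28) (kb xb22 yb18 zb6) (kb xb18 yb30 zb44) (kb xb10 yb12 zb32) (kb xb28 yb9 zb31) (kb xb12 yb8 zb47) (kb xb10 yb12 zb35) (kb xb28 yb9 zb33) (kb xb10 yb12 zb39) (kb xb27 yb34 zb23) (kb xb27 yb38 zb23) (kb xb10 yb12 zb43) (kb xb28 yb9 zb36) (kb xb10 yb12 zb44) (kb xb22 yb12 zb44) (kb xb18 yb15 zb23) (kb xb10 yb12 zb48) (kb xb10 yb12 zb49) (kb xb10 yb13 zb32) (kb xb10 yb12 zb53) (kb xb10 yb12 zb54) (kb xb10 yb30 zb8) (kb xb10 yb12 zb52) (kb xb10 yb28 zb45) (kb xb26 yb19 zb4) (kb xb17 yb17 zb0) (kb xb12 yb2 zb32) (kb xb18 yb59 zb43) (kb xb10 yb12 zb57) (kb xb18 yb59 zb44) (kb xb14 yb26 zb53) (kb xb27 yb1 zb31) (kb xb18 yb59 zb3) (kb xb18 yb16 zb20) (kb xb28 yb8 zb39)) (@D3.rec (fun _ => Pt) (kb xb27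 yb34 zb7) (kb xb10 yb26 zb27) (kb xb14 yb58 zb27) (kb xb16 yb19 zb27) (kb xb10 yb26 zb30) (kb xb10 yb26 zb31) (kb xb10 yb17 zb42) (kb xb10 yb13 zb3) (kb xb21 yb12 zb52) (kb xb28 yb9 zb53) (kb xb17 yb14 zb39) (kb xb10 yb13 zb4) (kb xb21 yb13 zb29) (kb xb28 yb9 zb54) (kb xb17 yb49 zb43) (kb xb27 yb3 zb38) (kb xb20 yb13 zb52) (kb xb10 yb13 zb9) (kb xb10 yb13 zb8) (kb xb27 yb12 zb53) (kb xb25 yb45 zb33) (kb xb10 yb13 zb52) (kb xb12 yb2 zb15) (kb xb10 yb13 zb14) (kb xb24 yb46 zb8) (kb xb28 yb9 zb57) (kb xb18 yb15 zb50) (kb xb10 yb13 zb17) (kb xb10 yb13 zb18) (kb xb20 yb10 zb42) (kb xb10 yb26 zb44) (kb xb10 yb26 zb47) (kb xb10 yb13 zb21) (kb xb12 yb20 zb31) (kb xb17 yb49 zb32) (kb xb10 yb13 zb22) (kb xb28 yb9 zb60) (kb xb12 yb20 zb41) (kb xb18 yb16 zb8) (kb xb10 yb13 zb29)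 (kb xb10 yb13 zb30) (kb xb15 yb14 zb47) (kb xb15 yb14 zb48) (kb xb18 yb24 zb24) (kb xb17 yb9 zb24) (kb xb23 yb40 zb56) (kb xb12 yb2 zb16) (kb xb28 yb9 zb38) (kb xb10 yb13 zb33) (kb xb22 yb16 zb53) (kb xb13 yb14 zb7) (kb xb28 yb10 zb3) (kb xb10 yb13 zb49) (kb xb10 yb13 zb50) (kb xb10 yb13 zb37) (kb xb21 yb28 zb37) (kb xb26 yb17 zb42) (kb xb24 yb59 zb18) (kb xb25 yb3 zb16) (kb xb15 yb14 zb45) (kb xb10 yb13 zb40) (kb xb10 yb13 zb41)) (@D3.rec (fun _ => Pt) (kb xb10 yb13 zb42) (kb xb15 yb10 zb50) (kb xb18 yb27 zb23) (kb xb13 yb37 zb17) (kb xb18 yb8 zb44) (kb xb21 yb4 zb38) (kb xb12 yb58 zb56) (kb xb12 yb54 zb51) (kb xb18 yb24 zb36) (kb xb12 yb35 zb28) (kb xb12 yb35 zb29) (kb xb18 yb16 zb41) (kb xb21 yb28 zb58) (kb xb21 yb44 zb29) (kb xb17 yb30 zb7) (kb xb21 yb28 zb51) (kb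 xb18 yb16 zb13) (kb xb21 yb44 zb22) (kb xb28 yb9 zb56) (kb xb10 yb13 zb53) (kb xb28 yb10 zb10) (kb xb28 yb10 zb11) (kb xb18 yb23 zb59) (kb xb10 yb13 zb60) (kb xb17 yb49 zb41) (kb xb18 yb15 zb28) (kb xb10 yb14 zb0) (kb xb10 yb14 zb1) (kb xb10 yb13 zb57) (kb xb10 yb13 zb58) (kb xb23 yb2 zb3) (kb xb16 yb18 zb39) (kb xb25 yb46 zb1) (kb xb22 yb14 zb50) (kb xb22 yb18 zb56) (kb xb16 yb7 zb50) (kb xb18 yb24 zb23) (kb xb18 yb16 zb60) (kb xb16 yb8 zb54) (kb xb16 yb15 zb30) (kb xb14 yb57 zb12) (kb xb10 yb14 zb2) (kb xb27 yb38 zb55) (kb xb12 yb53 zb31) (kb xb18 yb26 zb14) (kb xb12 yb36 zb39) (kb xb21 yb7 zb9) (kb xb17 yb58 zb3) (kb xb10 yb14 zb23) (kb xb23 yb55 zb35) (kb xb12 yb1 zb17) (kb xb10 yb14 zb9) (kb xb10 yb14 zb26) (kb xb18 yb17 zb6) (kb xb28 yb10 zb18) (kb xb28 yb10 zb19)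 (kb xb12 yb2 zb58) (kb xb10 yb14 zb11) (kb xb28 yb10 zb23) (kb xb21 yb25 zb52) (kb xb21 yb27 zb61) (kb xb18 yb25 zb31)) (@D3.rec (fun _ => Pt) (kb xb17 yb5 zb55) (kb xb18 yb25 zb42) (kb xb10 yb14 zb14) (kb xb22 yb37 zb5) (kb xb25 yb17 zb20) (kb xb19 yb22 zb25) (kb xb17 yb33 zb35) (kb xb10 yb14 zb17) (kb xb25 yb0 zb51) (kb xb18 yb43 zb16) (kb xb28 yb10 zb28) (kb xb12 yb2 zb18) (kb xb11 yb30 zb2) (kb xb10 yb17 zb13) (kb xb26 yb55 zb7) (kb xb11 yb37 zb45) (kb xb10 yb14 zb24) (kb xb10 yb14 zb22) (kb xb17 yb58 zb5) (kb xb28 yb10 zb30) (kb xb10 yb14 zb27) (kb xb24 yb22 zb33) (kb xb17 yb51 zb21) (kb xb12 yb34 zb23) (kb xb10 yb14 zb32) (kb xb28 yb10 zb26) (kb xb21 yb32 zb21) (kb xb28 yb10 zb32) (kb xb10 yb14 zb34) (kb xb21 yb50 zb41) (kb xb12 yb28 zb53) (kb xb10 yb27 zb47)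 (kb xb10 yb14 zb37) (kb xb28 yb10 zb33) (kb xb27 yb38 zb45) (kb xb21 yb35 zb22) (kb xb10 yb14 zb41) (kb xb10 yb24 zb34) (kb xb10 yb16 zb1) (kb xb10 yb14 zb47) (kb xb10 yb14 zb44) (kb xb14 yb58 zb39) (kb xb22 yb28 zb46) (kb xb10 yb14 zb49) (kb xb10 yb20 zb29) (kb xb18 yb58 zb37) (kb xb27 yb33 zb52) (kb xb10 yb14 zb58) (kb xb24 yb57 zb33) (kb xb19 yb1 zb23) (kb xb10 yb14 zb61) (kb xb10 yb15 zb0) (kb xb23 yb21 zb54) (kb xb26 yb8 zb59) (kb xb28 yb10 zb43) (kb xb28 yb10 zb44) (kb xb10 yb14 zb59) (kb xb21 yb57 zb3) (kb xb10 yb14 zb60) (kb xb26 yb9 zb0) (kb xb15 yb6 zb17) (kb xb18 yb40 zb36)) (@D3.rec (fun _ => Pt) (kb xb28 yb10 zb55) (kb xb28 yb10 zb48) (kb xb16 yb33 zb9) (kb xb10 yb15 zb2) (kb xb28 yb10 zb59) (kb xb10 yb15 zb3) (kb xb28 yb11 zb0) (kb xb10 yb15 zb6) (kb xb22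 yb51 zb2) (kb xb10 yb35 zb53) (kb xb18 yb20 zb43) (kb xb10 yb15 zb12) (kb xb23 yb7 zb36) (kb xb18 yb21 zb40) (kb xb10 yb15 zb11) (kb xb12 yb2 zb25) (kb xb18 yb12 zb1) (kb xb26 yb50 zb8) (kb xb10 yb15 zb15) (kb xb11 yb13 zb14) (kb xb27 yb36 zb32) (kb xb17 yb50 zb55) (kb xb21 yb26 zb52) (kb xb18 yb20 zb50) (kb xb18 yb20 zb51) (kb xb28 yb11 zb13) (kb xb10 yb15 zb18) (kb xb28 yb11 zb14) (kb xb21 yb34 zb54) (kb xb20 yb38 zb13) (kb xb27 yb51 zb19) (kb xb27 yb22 zb12) (kb xb28 yb0 zb38) (kb xb10 yb16 zb5) (kb xb21 yb3 zb16) (kb xb10 yb15 zb26) (kb xb21 yb51 zb27) (kb xb28 yb11 zb19) (kb xb10 yb15 zb29) (kb xb20 yb40 zb24) (kb xb18 yb21 zb32) (kb xb27 yb38 zb6) (kb xb10 yb15 zb32) (kb xb11 yb5 zb56) (kb xb10 yb15 zb46) (kb xb10 yb33 zb17) (kb xb22 yb4 zb55) (kb xb10 yb15 zb36)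 (kb xb20 yb17 zb13) (kb xb28 yb11 zb20) (kb xb20 yb22 zb7) (kb xb18 yb21 zb37) (kb xb10 yb16 zb3) (kb xb24 yb23 zb32) (kb xb23 yb59 zb37) (kb xb18 yb18 zb3) (kb xb16 yb8 zb9) (kb xb24 yb24 zb2) (kb xb23 yb31 zb2) (kb xb18 yb17 zb54) (kb xb28 yb11 zb24) (kb xb18 yb58 zb25)) (@D3.rec (fun _ => Pt) (kb xb28 yb11 zb25) (kb xb28 yb11 zb26) (kb xb18 yb18 zb17) (kb xb17 yb33 zb34) (kb xb16 yb51 zb9) (kb xb10 yb15 zb51) (kb xb28 yb11 zb32) (kb xb28 yb11 zb33) (kb xb18 yb19 zb15) (kb xb12 yb55 zb40) (kb xb28 yb11 zb38) (kb xb16 yb10 zb25) (kb xb10 yb15 zb55) (kb xb19 yb59 zb13) (kb xb28 yb11 zb43) (kb xb10 yb15 zb57) (kb xb28 yb11 zb44) (kb xb28 yb11 zb45) (kb xb28 yb11 zb41) (kb xb23 yb19 zb36) (kb xb10 yb15 zb56) (kb xb28 yb11 zb53) (kb xb28 yb11 zb55) (kb xb28 yb11 zb58)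 (kb xb25 yb42 zb60) (kb xb23 yb40 zb25) (kb xb10 yb15 zb59) (kb xb28 yb12 zb1) (kb xb10 yb53 zb38) (kb xb10 yb16 zb2) (kb xb28 yb12 zb5) (kb xb18 yb32 zb14) (kb xb28 yb12 zb6) (kb xb18 yb26 zb47) (kb xb25 yb2 zb20) (kb xb15 yb10 zb20) (kb xb18 yb38 zb61) (kb xb17 yb9 zb23) (kb xb27 yb39 zb8) (kb xb10 yb16 zb9) (kb xb25 yb2 zb27) (kb xb28 yb12 zb13) (kb xb15 yb7 zb49) (kb xb16 yb29 zb23) (kb xb10 yb16 zb15) (kb xb13 yb16 zb21) (kb xb23 yb25 zb36) (kb xb15 yb50 zb25) (kb xb10 yb16 zb23) (kb xb16 yb12 zb44) (kb xb10 yb16 zb18) (kb xb12 yb22 zb0) (kb xb24 yb59 zb11) (kb xb24 yb31 zb41) (kb xb24 yb38 zb13) (kb xb28 yb12 zb24) (kb xb10 yb16 zb20) (kb xb28 yb12 zb26) (kb xb28 yb12 zb28) (kb xb22 yb32 zb40) (kb xb23 yb21 zb33) (kb xb18 yb24 zb5)) (@D3.rec (fun _ => Pt) (kb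 xb22 yb11 zb55) (kb xb23 yb20 zb40) (kb xb10 yb16 zb22) (kb xb24 yb31 zb44) (kb xb25 yb52 zb6) (kb xb22 yb29 zb40) (kb xb11 yb23 zb23) (kb xb11 yb13 zb31) (kb xb18 yb19 zb41) (kb xb22 yb7 zb61) (kb xb16 yb21 zb29) (kb xb12 yb3 zb0) (kb xb18 yb19 zb31) (kb xb10 yb16 zb28) (kb xb10 yb16 zb29) (kb xb28 yb12 zb45) (kb xb16 yb21 zb33) (kb xb28 yb12 zb43) (kb xb28 yb12 zb44) (kb xb26 yb49 zb52) (kb xb26 yb18 zb31) (kb xb16 yb23 zb40) (kb xb10 yb16 zb33) (kb xb10 yb16 zb34) (kb xb28 yb12 zb48) (kb xb16 yb1 zb0) (kb xb10 yb16 zb37) (kb xb21 yb11 zb48) (kb xb28 yb12 zb52) (kb xb26 yb18 zb43) (kb xb10 yb16 zb39) (kb xb28 yb12 zb55) (kb xb22 yb46 zb24) (kb xb16 yb23 zb39) (kb xb10 yb16 zb48) (kb xb10 yb16 zb49) (kb xb28 yb12 zb61) (kb xb10 yb16 zb51) (kb xb21 yb13 zb45) (kb xb17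 yb48 zb21) (kb xb10 yb16 zb54) (kb xb28 yb13 zb0) (kb xb18 yb19 zb40) (kb xb20 yb29 zb47) (kb xb18 yb22 zb15) (kb xb18 yb9 zb22) (kb xb28 yb13 zb1) (kb xb10 yb16 zb57) (kb xb10 yb16 zb56) (kb xb28 yb13 zb2) (kb xb13 yb31 zb3) (kb xb17 yb50 zb53) (kb xb15 yb8 zb57) (kb xb19 yb21 zb3) (kb xb27 yb53 zb35) (kb xb15 yb4 zb19) (kb xb20 yb1 zb57) (kb xb26 yb25 zb44) (kb xb17 yb33 zb9) (kb xb10 yb17 zb7) (kb xb28 yb13 zb5) (kb xb19 yb7 zb2)) (@D3.rec (fun _ => Pt) (kb xb23 yb17 zb14) (kb xb10 yb17 zb10) (kb xb23 yb53 zb13) (kb xb19 yb9 zb39) (kb xb14 yb19 zb31) (kb xb28 yb13 zb6) (kb xb19 yb7 zb14) (kb xb28 yb13 zb11) (kb xb19 yb7 zb53) (kb xb19 yb17 zb38) (kb xb10 yb42 zb39) (kb xb10 yb45 zb38) (kb xb27 yb51 zb16) (kb xb20 yb26 zb1) (kb xb18 yb32 zb35) (kb xb14 yb50 zb0) (kb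 xb10 yb17 zb22) (kb xb17 yb35 zb9) (kb xb10 yb17 zb27) (kb xb28 yb13 zb13) (kb xb18 yb23 zb43) (kb xb10 yb17 zb30) (kb xb28 yb13 zb14) (kb xb27 yb55 zb54) (kb xb13 yb54 zb58) (kb xb28 yb13 zb15) (kb xb10 yb17 zb37) (kb xb10 yb17 zb38) (kb xb23 yb45 zb26) (kb xb22 yb12 zb16) (kb xb23 yb33 zb51) (kb xb10 yb17 zb34) (kb xb28 yb13 zb21) (kb xb16 yb49 zb61) (kb xb28 yb13 zb20) (kb xb27 yb55 zb53) (kb xb10 yb17 zb35) (kb xb22 yb31 zb31) (kb xb28 yb13 zb29) (kb xb28 yb13 zb30) (kb xb10 yb17 zb36) (kb xb28 yb13 zb34) (kb xb18 yb23 zb53) (kb xb23 yb2 zb55) (kb xb28 yb13 zb16) (kb xb10 yb17 zb51) (kb xb12 yb53 zb13) (kb xb10 yb17 zb40) (kb xb27 yb21 zb7) (kb xb28 yb13 zb40) (kb xb28 yb9 zb52) (kb xb25 yb18 zb27) (kb xb13 yb19 zb14) (kb xb19 yb27 zb20) (kb xb12 yb47 zb1) (kb xb12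 yb53 zb58) (kb xb12 yb47 zb5) (kb xb10 yb17 zb50) (kb xb28 yb13 zb45) (kb xb20 yb33 zb7) (kb xb11 yb58 zb15) (kb xb14 yb44 zb53)) (@D3.rec (fun _ => Pt) (kb xb15 yb7 zb56) (kb xb27 yb5 zb33) (kb xb17 yb7 zb60) (kb xb18 yb24 zb7) (kb xb13 yb1 zb56) (kb xb20 yb36 zb11) (kb xb26 yb8 zb46) (kb xb24 yb57 zb4) (kb xb13 yb55 zb5) (kb xb10 yb18 zb4) (kb xb20 yb22 zb14) (kb xb20 yb26 zb30) (kb xb10 yb18 zb5) (kb xb26 yb55 zb27) (kb xb17 yb32 zb23) (kb xb10 yb18 zb9) (kb xb18 yb38 zb9) (kb xb17 yb18 zb6) (kb xb10 yb18 zb17) (kb xb17 yb22 zb21) (kb xb21 yb25 zb57) (kb xb25 yb16 zb31) (kb xb12 yb57 zb1) (kb xb12 yb57 zb2) (kb xb17 yb58 zb15) (kb xb28 yb13 zb57) (kb xb10 yb18 zb28) (kb xb18 yb57 zb35) (kb xb17 yb32 zb40) (kb xb10 yb18 zb30) (kb xb16 yb57 zb55) (kb xb18 yb24 zb56)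 (kb xb12 yb29 zb60) (kb xb17 yb58 zb20) (kb xb17 yb15 zb33) (kb xb12 yb3 zb36) (kb xb20 yb49 zb19) (kb xb10 yb18 zb39) (kb xb17 yb56 zb4) (kb xb27 yb53 zb30) (kb xb28 yb10 zb20) (kb xb10 yb18 zb42) (kb xb10 yb18 zb43) (kb xb16 yb48 zb55) (kb xb18 yb26 zb13) (kb xb12 yb2 zb14) (kb xb19 yb27 zb40) (kb xb10 yb18 zb55) (kb xb28 yb13 zb59) (kb xb18 yb26 zb11) (kb xb17 yb51 zb31) (kb xb10 yb18 zb59) (kb xb16 yb13 zb48) (kb xb11 yb37 zb42) (kb xb11 yb24 zb57) (kb xb28 yb13 zb60) (kb xb17 yb18 zb8) (kb xb10 yb19 zb7) (kb xb25 yb7 zb2) (kb xb27 yb7 zb50) (kb xb15 yb59 zb39) (kb xb10 yb19 zb11)) (@D3.rec (fun _ => Pt) (kb xb23 yb9 zb23) (kb xb25 yb11 zb57) (kb xb25 yb50 zb9) (kb xb25 yb50 zb10) (kb xb10 yb19 zb13) (kb xb11 yb2 zb35) (kb xb28 yb14 zb5) (kb xb13 yb45 zb28) (kb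 xb18 yb44 zb27) (kb xb24 yb12 zb20) (kb xb22 yb57 zb14) (kb xb28 yb14 zb13) (kb xb10 yb19 zb16) (kb xb27 yb35 zb43) (kb xb25 yb11 zb19) (kb xb19 yb6 zb14) (kb xb10 yb19 zb18) (kb xb10 yb54 zb33) (kb xb17 yb39 zb35) (kb xb26 yb39 zb24) (kb xb10 yb19 zb22) (kb xb18 yb33 zb33) (kb xb28 yb14 zb22) (kb xb26 yb51 zb32) (kb xb10 yb54 zb38) (kb xb19 yb33 zb34) (kb xb19 yb51 zb26) (kb xb18 yb44 zb8) (kb xb26 yb43 zb42) (kb xb16 yb26 zb23) (kb xb10 yb19 zb27) (kb xb10 yb19 zb26) (kb xb22 yb22 zb25) (kb xb28 yb14 zb32) (kb xb28 yb14 zb33) (kb xb10 yb19 zb28) (kb xb28 yb14 zb35) (kb xb14 yb30 zb37) (kb xb15 yb27 zb51) (kb xb28 yb14 zb36) (kb xb10 yb39 zb23) (kb xb10 yb20 zb10) (kb xb10 yb19 zb31) (kb xb18 yb27 zb0) (kb xb10 yb20 zb32) (kb xb10 yb19 zb33) (kb xb10 yb19 zb34) (kb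 xb28 yb7 zb49) (kb xb18 yb59 zb46) (kb xb10 yb22 zb42) (kb xb10 yb20 zb52) (kb xb10 yb19 zb36) (kb xb10 yb19 zb37) (kb xb27 yb5 zb61) (kb xb13 yb49 zb42) (kb xb28 yb14 zb44) (kb xb28 yb14 zb45) (kb xb18 yb51 zb46) (kb xb27 yb45 zb16) (kb xb24 yb21 zb53) (kb xb10 yb21 zb33) (kb xb10 yb19 zb41)) (@D3.rec (fun _ => Pt) (kb xb10 yb19 zb42) (kb xb28 yb14 zb52) (kb xb22 yb58 zb0) (kb xb28 yb14 zb54) (kb xb10 yb21 zb39) (kb xb28 yb14 zb57) (kb xb10 yb19 zb43) (kb xb28 yb14 zb60) (kb xb13 yb29 zb30) (kb xb28 yb14 zb59) (kb xb10 yb19 zb44) (kb xb18 yb54 zb17) (kb xb28 yb15 zb2) (kb xb28 yb15 zb3) (kb xb10 yb21 zb47) (kb xb21 yb9 zb18) (kb xb25 yb52 zb10) (kb xb10 yb19 zb49) (kb xb10 yb19 zb50) (kb xb10 yb19 zb48) (kb xb10 yb59 zb35) (kb xb26 yb56 zb16) (kb xb28 yb15 zb10) (kb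 xb20 yb4 zb17) (kb xb24 yb55 zb29) (kb xb18 yb4 zb28) (kb xb18 yb58 zb23) (kb xb18 yb27 zb20) (kb xb22 yb38 zb46) (kb xb20 yb58 zb9) (kb xb27 yb42 zb58) (kb xb22 yb23 zb17) (kb xb15 yb52 zb41) (kb xb26 yb23 zb29) (kb xb28 yb15 zb15) (kb xb10 yb40 zb44) (kb xb11 yb0 zb4) (kb xb24 yb18 zb8) (kb xb10 yb39 zb26) (kb xb22 yb39 zb5) (kb xb27 yb49 zb26) (kb xb10 yb20 zb7) (kb xb28 yb15 zb21) (kb xb10 yb20 zb9) (kb xb18 yb3 zb24) (kb xb19 yb50 zb59) (kb xb22 yb32 zb44) (kb xb28 yb15 zb25) (kb xb12 yb54 zb7) (kb xb10 yb20 zb12) (kb xb10 yb20 zb13) (kb xb10 yb20 zb14) (kb xb28 yb15 zb28) (kb xb10 yb20 zb16) (kb xb27 yb32 zb6) (kb xb28 yb15 zb32) (kb xb26 yb32 zb9) (kb xb10 yb20 zb19) (kb xb10 yb20 zb20) (kb xb28 yb15 zb38) (kb xb27 yb52 zb17) (kb xb15 yb12 zb49)) (@D3.rec (fun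 _ => Pt) (kb xb10 yb43 zb21) (kb xb28 yb15 zb42) (kb xb20 yb47 zb9) (kb xb10 yb20 zb25) (kb xb28 yb15 zb47) (kb xb18 yb5 zb15) (kb xb13 yb41 zb19) (kb xb13 yb40 zb60) (kb xb10 yb20 zb30) (kb xb16 yb21 zb20) (kb xb28 yb15 zb52) (kb xb11 yb13 zb42) (kb xb10 yb20 zb31) (kb xb22 yb36 zb58) (kb xb22 yb15 zb1) (kb xb19 yb43 zb37) (kb xb16 yb54 zb11) (kb xb10 yb20 zb35) (kb xb19 yb12 zb19) (kb xb10 yb20 zb39) (kb xb25 yb46 zb2) (kb xb10 yb20 zb37) (kb xb19 yb12 zb35) (kb xb10 yb31 zb45) (kb xb10 yb59 zb58) (kb xb10 yb20 zb40) (kb xb26 yb11 zb9) (kb xb26 yb51 zb12) (kb xb28 yb15 zb59) (kb xb10 yb20 zb42) (kb xb28 yb16 zb0) (kb xb28 yb16 zb1) (kb xb15 yb37 zb12) (kb xb17 yb32 zb7) (kb xb19 yb31 zb24) (kb xb10 yb20 zb45) (kb xb28 yb16 zb7) (kb xb18 yb51 zb60) (kb xb24 yb40 zb32)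 (kb xb10 yb20 zb49) (kb xb28 yb16 zb12) (kb xb10 yb20 zb50) (kb xb25 yb1 zb1) (kb xb28 yb16 zb15) (kb xb10 yb20 zb51) (kb xb17 yb38 zb18) (kb xb28 yb14 zb41) (kb xb12 yb53 zb20) (kb xb10 yb20 zb56) (kb xb24 yb18 zb21) (kb xb10 yb20 zb59) (kb xb10 yb20 zb60) (kb xb10 yb20 zb55) (kb xb26 yb52 zb43) (kb xb22 yb46 zb23) (kb xb28 yb16 zb24) (kb xb10 yb20 zb57) (kb xb28 yb16 zb33) (kb xb22 yb30 zb1) (kb xb24 yb40 zb29) (kb xb28 yb16 zb36) (kb xb13 yb41 zb18)) (@D3.rec (fun _ => Pt) (kb xb28 yb16 zb43) (kb xb28 yb16 zb29) (kb xb10 yb20 zb61) (kb xb28 yb16 zb46) (kb xb28 yb9 zb18) (kb xb27 yb32 zb21) (kb xb28 yb3 zb11) (kb xb24 yb48 zb2) (kb xb10 yb21 zb4) (kb xb10 yb21 zb5) (kb xb28 yb16 zb53) (kb xb28 yb6 zb18) (kb xb15 yb14 zb43) (kb xb10 yb21 zb9) (kb xb28 yb8 zb28) (kb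 xb10 yb21 zb10) (kb xb10 yb36 zb42) (kb xb17 yb23 zb27) (kb xb24 yb38 zb50) (kb xb21 yb15 zb49) (kb xb19 yb18 zb5) (kb xb20 yb44 zb60) (kb xb10 yb21 zb14) (kb xb28 yb17 zb5) (kb xb25 yb46 zb9) (kb xb10 yb21 zb17) (kb xb10 yb21 zb18) (kb xb22 yb37 zb53) (kb xb28 yb17 zb4) (kb xb10 yb21 zb15) (kb xb28 yb17 zb13) (kb xb10 yb36 zb32) (kb xb10 yb21 zb16) (kb xb28 yb17 zb15) (kb xb26 yb58 zb15) (kb xb28 yb17 zb18) (kb xb28 yb17 zb11) (kb xb10 yb21 zb21) (kb xb27 yb47 zb60) (kb xb23 yb36 zb33) (kb xb27 yb47 zb61) (kb xb10 yb21 zb23) (kb xb10 yb29 zb42) (kb xb24 yb25 zb41) (kb xb28 yb2 zb40) (kb xb22 yb35 zb3) (kb xb17 yb31 zb41) (kb xb16 yb26 zb11) (kb xb13 yb7 zb5) (kb xb14 yb53 zb44) (kb xb10 yb21 zb29) (kb xb10 yb21 zb30) (kb xb10 yb21 zb27) (kb xb20 yb31 zb54) (kb xb28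 yb17 zb27) (kb xb19 yb51 zb55) (kb xb28 yb17 zb29) (kb xb19 yb20 zb6) (kb xb28 yb17 zb33) (kb xb28 yb17 zb25) (kb xb10 yb21 zb31) (kb xb21 yb9 zb19)) (@D3.rec (fun _ => Pt) (kb xb10 yb21 zb32) (kb xb20 yb11 zb46) (kb xb28 yb17 zb36) (kb xb28 yb14 zb49) (kb xb28 yb14 zb50) (kb xb21 yb44 zb1) (kb xb21 yb9 zb0) (kb xb25 yb51 zb32) (kb xb10 yb21 zb36) (kb xb28 yb17 zb42) (kb xb10 yb21 zb37) (kb xb10 yb21 zb38) (kb xb28 yb17 zb44) (kb xb23 yb4 zb9) (kb xb24 yb28 zb4) (kb xb28 yb17 zb46) (kb xb27 yb42 zb46) (kb xb14 yb27 zb51) (kb xb28 yb14 zb56) (kb xb10 yb21 zb41) (kb xb10 yb21 zb42) (kb xb20 yb31 zb51) (kb xb23 yb30 zb42) (kb xb28 yb17 zb51) (kb xb27 yb34 zb56) (kb xb28 yb15 zb0) (kb xb28 yb17 zb53) (kb xb28 yb17 zb54) (kb xb21 yb9 zb21) (kb xb10 yb21 zb46) (kb xb19 yb32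 zb23) (kb xb20 yb45 zb36) (kb xb22 yb20 zb56) (kb xb16 yb51 zb36) (kb xb28 yb15 zb7) (kb xb16 yb51 zb50) (kb xb17 yb55 zb5) (kb xb10 yb21 zb49) (kb xb26 yb39 zb60) (kb xb26 yb39 zb61) (kb xb15 yb56 zb38) (kb xb11 yb23 zb48) (kb xb28 yb18 zb6) (kb xb10 yb21 zb60) (kb xb28 yb18 zb8) (kb xb10 yb22 zb2) (kb xb14 yb12 zb44) (kb xb11 yb0 zb17) (kb xb25 yb51 zb24) (kb xb26 yb50 zb14) (kb xb28 yb18 zb16) (kb xb25 yb51 zb53) (kb xb10 yb21 zb57) (kb xb13 yb20 zb33) (kb xb28 yb18 zb18) (kb xb10 yb21 zb58) (kb xb23 yb53 zb41) (kb xb10 yb21 zb59) (kb xb13 yb36 zb14) (kb xb26 yb59 zb52) (kb xb10 yb22 zb0) (kb xb28 yb18 zb22)) (@D3.rec (fun _ => Pt) (kb xb14 yb58 zb42) (kb xb10 yb22 zb1) (kb xb23 yb51 zb10) (kb xb22 yb25 zb52) (kb xb28 yb18 zb27) (kb xb28 yb18 zb31) (kb xb10 yb22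 zb3) (kb xb20 yb44 zb25) (kb xb22 yb14 zb45) (kb xb22 yb18 zb60) (kb xb10 yb22 zb8) (kb xb10 yb22 zb7) (kb xb28 yb18 zb36) (kb xb28 yb18 zb39) (kb xb20 yb6 zb8) (kb xb12 yb6 zb31) (kb xb10 yb22 zb10) (kb xb22 yb47 zb15) (kb xb10 yb22 zb13) (kb xb22 yb41 zb44) (kb xb26 yb18 zb60) (kb xb10 yb22 zb17) (kb xb10 yb22 zb16) (kb xb28 yb18 zb46) (kb xb28 yb18 zb47) (kb xb10 yb22 zb18) (kb xb23 yb3 zb49) (kb xb28 yb18 zb48) (kb xb28 yb18 zb50) (kb xb21 yb31 zb46) (kb xb18 yb15 zb53) (kb xb10 yb22 zb25) (kb xb21 yb12 zb30) (kb xb27 yb51 zb7) (kb xb15 yb6 zb28) (kb xb27 yb55 zb49) (kb xb27 yb55 zb50) (kb xb10 yb22 zb27) (kb xb25 yb59 zb32) (kb xb10 yb22 zb28) (kb xb28 yb18 zb51) (kb xb28 yb18 zb52) (kb xb10 yb22 zb33) (kb xb10 yb22 zb32) (kb xb20 yb10 zb20) (kb xb10 yb22 zb34)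 (kb xb17 yb23 zb2) (kb xb18 yb57 zb4) (kb xb18 yb0 zb29) (kb xb21 yb25 zb51) (kb xb18 yb13 zb51) (kb xb24 yb45 zb50) (kb xb10 yb22 zb51) (kb xb10 yb22 zb41) (kb xb24 yb46 zb24) (kb xb28 yb14 zb38) (kb xb28 yb16 zb17) (kb xb22 yb40 zb3) (kb xb10 yb22 zb44) (kb xb10 yb22 zb45) (kb xb26 yb49 zb60) (kb xb17 yb19 zb48)) (@D3.rec (fun _ => Pt) (kb xb20 yb46 zb38) (kb xb28 yb18 zb55) (kb xb28 yb14 zb43) (kb xb22 yb40 zb1) (kb xb23 yb52 zb19) (kb xb24 yb13 zb61) (kb xb21 yb54 zb50) (kb xb18 yb57 zb1) (kb xb18 yb57 zb2) (kb xb16 yb57 zb33) (kb xb18 yb0 zb46) (kb xb28 yb3 zb51) (kb xb16 yb7 zb51) (kb xb10 yb23 zb0) (kb xb10 yb22 zb58) (kb xb10 yb22 zb59) (kb xb21 yb13 zb14) (kb xb28 yb19 zb0) (kb xb28 yb19 zb3) (kb xb22 yb35 zb49) (kb xb14 yb53 zb48) (kb xb18 yb57 zb21) (kb xb12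 yb35 zb37) (kb xb17 yb13 zb32) (kb xb21 yb24 zb18) (kb xb10 yb23 zb2) (kb xb21 yb44 zb44) (kb xb21 yb18 zb54) (kb xb10 yb23 zb6) (kb xb23 yb47 zb43) (kb xb18 yb11 zb2) (kb xb10 yb23 zb5) (kb xb17 yb31 zb38) (kb xb18 yb57 zb33) (kb xb28 yb19 zb7) (kb xb12 yb2 zb51) (kb xb10 yb23 zb8) (kb xb18 yb17 zb3) (kb xb10 yb23 zb9) (kb xb12 yb44 zb0) (kb xb18 yb16 zb42) (kb xb16 yb51 zb47) (kb xb17 yb57 zb61) (kb xb12 yb2 zb26) (kb xb18 yb25 zb37) (kb xb10 yb23 zb12) (kb xb11 yb45 zb17) (kb xb28 yb19 zb10) (kb xb12 yb3 zb9) (kb xb10 yb23 zb14) (kb xb28 yb19 zb12) (kb xb10 yb23 zb17) (kb xb12 yb35 zb14) (kb xb17 yb6 zb28) (kb xb23 yb47 zb38) (kb xb11 yb56 zb33) (kb xb13 yb40 zb54) (kb xb28 yb19 zb14) (kb xb22 yb5 zb34) (kb xb15 yb8 zb58) (kb xb10 yb23 zb23) (kb xb19 yb19 zb49))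 (@D3.rec (fun _ => Pt) (kb xb15 yb20 zb34) (kb xb14 yb53 zb11) (kb xb19 yb40 zb55) (kb xb25 yb26 zb50) (kb xb14 yb53 zb17) (kb xb10 yb23 zb27) (kb xb10 yb23 zb28) (kb xb28 yb19 zb20) (kb xb28 yb19 zb22) (kb xb10 yb23 zb29) (kb xb28 yb18 zb19) (kb xb25 yb10 zb13) (kb xb19 yb46 zb37) (kb xb19 yb46 zb38) (kb xb13 yb32 zb24) (kb xb18 yb55 zb52) (kb xb19 yb39 zb11) (kb xb15 yb40 zb39) (kb xb10 yb23 zb35) (kb xb10 yb23 zb33) (kb xb28 yb19 zb34) (kb xb10 yb23 zb34) (kb xb28 yb19 zb40) (kb xb16 yb27 zb25) (kb xb24 yb14 zb6) (kb xb22 yb6 zb48) (kb xb15 yb25 zb7) (kb xb16 yb19 zb60) (kb xb28 yb19 zb45) (kb xb10 yb24 zb24) (kb xb19 yb37 zb49) (kb xb28 yb19 zb47) (kb xb10 yb36 zb10) (kb xb10 yb24 zb45) (kb xb10 yb23 zb41) (kb xb18 yb4 zb61) (kb xb28 yb19 zb54) (kb xb10 yb25 zb0)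 (kb xb10 yb23 zb43) (kb xb10 yb23 zb44) (kb xb13 yb45 zb17) (kb xb28 yb19 zb58) (kb xb26 yb32 zb30) (kb xb10 yb26 zb60) (kb xb10 yb25 zb17) (kb xb10 yb23 zb46) (kb xb18 yb44 zb57) (kb xb22 yb14 zb53) (kb xb28 yb9 zb41) (kb xb10 yb25 zb52) (kb xb10 yb23 zb50) (kb xb10 yb23 zb51) (kb xb10 yb25 zb53) (kb xb28 yb20 zb6) (kb xb10 yb23 zb52) (kb xb28 yb20 zb8) (kb xb27 yb15 zb27) (kb xb28 yb20 zb7) (kb xb27 yb32 zb2) (kb xb10 yb23 zb53) (kb xb18 yb46 zb37) (kb xb28 yb20 zb13)) (@D3.rec (fun _ => Pt) (kb xb14 yb14 zb34) (kb xb10 yb25 zb61) (kb xb28 yb9 zb51) (kb xb28 yb20 zb20) (kb xb21 yb4 zb19) (kb xb10 yb23 zb59) (kb xb10 yb23 zb60) (kb xb10 yb23 zb61) (kb xb10 yb23 zb57) (kb xb10 yb23 zb58) (kb xb19 yb37 zb50) (kb xb28 yb20 zb27) (kb xb17 yb1 zb8) (kb xb17 yb1 zb21) (kb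 xb28 yb20 zb24) (kb xb19 yb57 zb25) (kb xb21 yb39 zb43) (kb xb15 yb37 zb53) (kb xb10 yb24 zb1) (kb xb28 yb20 zb32) (kb xb17 yb43 zb31) (kb xb16 yb22 zb7) (kb xb25 yb19 zb39) (kb xb25 yb52 zb35) (kb xb20 yb55 zb38) (kb xb24 yb15 zb18) (kb xb10 yb24 zb5) (kb xb27 yb18 zb33) (kb xb24 yb17 zb26) (kb xb16 yb9 zb51) (kb xb15 yb24 zb60) (kb xb10 yb24 zb14) (kb xb11 yb54 zb50) (kb xb25 yb11 zb56) (kb xb25 yb20 zb13) (kb xb10 yb24 zb11) (kb xb26 yb7 zb50) (kb xb15 yb49 zb1) (kb xb14 yb23 zb24) (kb xb10 yb24 zb21) (kb xb15 yb22 zb43) (kb xb19 yb37 zb52) (kb xb28 yb20 zb35) (kb xb10 yb24 zb22) (kb xb22 yb55 zb23) (kb xb28 yb20 zb38) (kb xb28 yb20 zb39) (kb xb25 yb25 zb24) (kb xb10 yb24 zb23) (kb xb16 yb13 zb10) (kb xb22 yb6 zb40) (kb xb20 yb49 zb61) (kb xb28 yb20 zb45) (kb xb22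 yb6 zb46) (kb xb10 yb24 zb28) (kb xb11 yb43 zb11) (kb xb13 yb28 zb33) (kb xb19 yb44 zb60) (kb xb11 yb6 zb4) (kb xb19 yb23 zb16) (kb xb27 yb59 zb61) (kb xb28 yb20 zb48)) (@D3.rec (fun _ => Pt) (kb xb18 yb20 zb16) (kb xb10 yb24 zb32) (kb xb10 yb24 zb33) (kb xb22 yb52 zb61) (kb xb23 yb51 zb8) (kb xb22 yb51 zb41) (kb xb19 yb21 zb4) (kb xb28 yb20 zb52) (kb xb20 yb46 zb48) (kb xb19 yb21 zb9) (kb xb28 yb20 zb54) (kb xb22 yb50 zb28) (kb xb10 yb24 zb38) (kb xb10 yb24 zb39) (kb xb28 yb20 zb58) (kb xb22 yb50 zb26) (kb xb18 yb20 zb27) (kb xb28 yb21 zb1) (kb xb28 yb5 zb10) (kb xb10 yb24 zb41) (kb xb28 yb21 zb3) (kb xb10 yb31 zb15) (kb xb10 yb24 zb43) (kb xb28 yb21 zb9) (kb xb13 yb35 zb60) (kb xb28 yb21 zb8) (kb xb10 yb24 zb44) (kb xb15 yb11 zb13) (kb xb28 yb21 zb13) (kb xb19 yb39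 zb26) (kb xb28 yb19 zb49) (kb xb25 yb58 zb2) (kb xb14 yb35 zb39) (kb xb28 yb21 zb17) (kb xb13 yb32 zb36) (kb xb10 yb24 zb48) (kb xb22 yb35 zb14) (kb xb10 yb24 zb51) (kb xb10 yb24 zb52) (kb xb28 yb21 zb22) (kb xb10 yb24 zb49) (kb xb10 yb24 zb50) (kb xb28 yb21 zb27) (kb xb10 yb24 zb53) (kb xb27 yb34 zb36) (kb xb16 yb18 zb51) (kb xb17 yb46 zb34) (kb xb10 yb24 zb56) (kb xb15 yb16 zb6) (kb xb10 yb29 zb36) (kb xb10 yb25 zb11) (kb xb10 yb24 zb60) (kb xb20 yb21 zb0) (kb xb28 yb21 zb35) (kb xb19 yb18 zb2) (kb xb10 yb24 zb61) (kb xb18 yb56 zb56) (kb xb19 yb18 zb1) (kb xb28 yb19 zb56) (kb xb23 yb13 zb5) (kb xb28 yb21 zb45) (kb xb28 yb21 zb47)) (@D3.rec (fun _ => Pt) (kb xb20 yb59 zb10) (kb xb10 yb25 zb3) (kb xb20 yb0 zb8) (kb xb19 yb18 zb6) (kb xb10 yb25 zb6) (kb xb10 yb25 zb7)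 (kb xb22 yb35 zb47) (kb xb28 yb21 zb54) (kb xb10 yb25 zb4) (kb xb10 yb25 zb5) (kb xb10 yb25 zb8) (kb xb23 yb51 zb51) (kb xb26 yb40 zb51) (kb xb28 yb21 zb59) (kb xb10 yb25 zb10) (kb xb28 yb22 zb1) (kb xb19 yb23 zb40) (kb xb18 yb45 zb11) (kb xb28 yb22 zb4) (kb xb25 yb25 zb34) (kb xb10 yb25 zb14) (kb xb28 yb22 zb8) (kb xb10 yb25 zb15) (kb xb27 yb45 zb37) (kb xb28 yb22 zb10) (kb xb10 yb25 zb16) (kb xb15 yb11 zb41) (kb xb28 yb19 zb60) (kb xb13 yb45 zb1) (kb xb28 yb22 zb16) (kb xb22 yb52 zb28) (kb xb10 yb25 zb20) (kb xb28 yb22 zb21) (kb xb10 yb25 zb21) (kb xb28 yb22 zb25) (kb xb10 yb25 zb22) (kb xb19 yb4 zb5) (kb xb10 yb25 zb24) (kb xb15 yb19 zb43) (kb xb10 yb25 zb31) (kb xb20 yb20 zb58) (kb xb10 yb25 zb32) (kb xb19 yb3 zb48) (kb xb13 yb45 zb13) (kb xb28 yb22 zb34) (kb xb19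 yb12 zb9) (kb xb21 yb0 zb17) (kb xb10 yb25 zb36) (kb xb28 yb22 zb42) (kb xb22 yb36 zb9) (kb xb10 yb25 zb40) (kb xb10 yb25 zb38) (kb xb19 yb5 zb22) (kb xb10 yb25 zb43) (kb xb23 yb42 zb35) (kb xb28 yb3 zb42) (kb xb19 yb22 zb27) (kb xb10 yb25 zb45) (kb xb16 yb35 zb33) (kb xb28 yb22 zb52) (kb xb13 yb34 zb34) (kb xb13 yb18 zb37)) (@D3.rec (fun _ => Pt) (kb xb22 yb17 zb32) (kb xb27 yb15 zb29) (kb xb22 yb20 zb23) (kb xb22 yb12 zb45) (kb xb28 yb23 zb0) (kb xb10 yb25 zb49) (kb xb28 yb23 zb3) (kb xb10 yb25 zb50) (kb xb28 yb23 zb6) (kb xb10 yb25 zb51) (kb xb28 yb23 zb9) (kb xb28 yb23 zb10) (kb xb28 yb20 zb5) (kb xb27 yb34 zb31) (kb xb22 yb14 zb55) (kb xb10 yb25 zb55) (kb xb10 yb25 zb56) (kb xb10 yb25 zb57) (kb xb28 yb20 zb11) (kb xb28 yb23 zb20) (kb xb28 yb23 zb16) (kb xb14 yb14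 zb48) (kb xb28 yb23 zb22) (kb xb28 yb23 zb24) (kb xb28 yb23 zb26) (kb xb28 yb23 zb29) (kb xb26 yb56 zb3) (kb xb10 yb26 zb0) (kb xb28 yb23 zb35) (kb xb28 yb23 zb32) (kb xb10 yb26 zb1) (kb xb28 yb23 zb40) (kb xb22 yb17 zb3) (kb xb12 yb57 zb15) (kb xb22 yb20 zb25) (kb xb15 yb58 zb51) (kb xb25 yb5 zb35) (kb xb20 yb40 zb52) (kb xb10 yb26 zb14) (kb xb10 yb26 zb15) (kb xb10 yb26 zb18) (kb xb24 yb18 zb49) (kb xb25 yb25 zb1) (kb xb10 yb26 zb7) (kb xb28 yb20 zb25) (kb xb10 yb26 zb9) (kb xb28 yb23 zb58) (kb xb28 yb23 zb60) (kb xb10 yb26 zb12) (kb xb26 yb42 zb24) (kb xb28 yb24 zb0) (kb xb10 yb26 zb13) (kb xb18 yb51 zb15) (kb xb28 yb23 zb50) (kb xb28 yb24 zb3) (kb xb28 yb23 zb52) (kb xb10 yb26 zb16) (kb xb28 yb24 zb8) (kb xb10 yb26 zb17) (kb xb24 yb29 zb54) (kb xb14 yb15 zb14) (kb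 xb23 yb51 zb7)) (@D3.rec (fun _ => Pt) (kb xb28 yb24 zb15) (kb xb10 yb26 zb19) (kb xb22 yb24 zb15) (kb xb27 yb30 zb49) (kb xb10 yb26 zb24) (kb xb10 yb26 zb23) (kb xb28 yb24 zb19) (kb xb28 yb24 zb21) (kb xb10 yb26 zb26) (kb xb21 yb52 zb60) (kb xb27 yb58 zb40) (kb xb26 yb17 zb16) (kb xb25 yb59 zb30) (kb xb28 yb0 zb12) (kb xb10 yb26 zb28) (kb xb22 yb55 zb56) (kb xb15 yb8 zb52) (kb xb28 yb24 zb29) (kb xb27 yb10 zb5) (kb xb28 yb9 zb50) (kb xb10 yb26 zb34) (kb xb10 yb26 zb33) (kb xb26 yb27 zb57) (kb xb24 yb19 zb34) (kb xb14 yb20 zb50) (kb xb27 yb8 zb3) (kb xb20 yb53 zb4) (kb xb10 yb26 zb39) (kb xb28 yb24 zb34) (kb xb16 yb23 zb38) (kb xb15 yb14 zb19) (kb xb24 yb24 zb8) (kb xb10 yb26 zb43) (kb xb28 yb24 zb37) (kb xb20 yb0 zb34) (kb xb10 yb26 zb45) (kb xb10 yb26 zb46) (kb xb22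 yb31 zb44) (kb xb26 yb7 zb47) (kb xb28 yb24 zb43) (kb xb23 yb6 zb20) (kb xb10 yb26 zb50) (kb xb28 yb24 zb46) (kb xb10 yb26 zb55) (kb xb10 yb26 zb56) (kb xb25 yb25 zb35) (kb xb13 yb0 zb31) (kb xb18 yb34 zb53) (kb xb13 yb14 zb39) (kb xb10 yb27 zb8) (kb xb10 yb27 zb9) (kb xb10 yb26 zb59) (kb xb28 yb24 zb48) (kb xb28 yb19 zb51) (kb xb28 yb16 zb18) (kb xb28 yb24 zb53) (kb xb18 yb53 zb56) (kb xb12 yb56 zb61) (kb xb22 yb28 zb48) (kb xb24 yb18 zb33) (kb xb12 yb38 zb32) (kb xb23 yb47 zb0)) (@D3.rec (fun _ => Pt) (kb xb21 yb22 zb7) (kb xb18 yb50 zb7) (kb xb18 yb50 zb8) (kb xb11 yb17 zb4) (kb xb18 yb49 zb47) (kb xb27 yb43 zb34) (kb xb10 yb27 zb13) (kb xb18 yb22 zb17) (kb xb23 yb16 zb35) (kb xb17 yb20 zb50) (kb xb10 yb27 zb20) (kb xb28 yb10 zb14) (kb xb18 yb34 zb59) (kb xb10 yb27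 zb22) (kb xb10 yb27 zb23) (kb xb10 yb27 zb17) (kb xb10 yb27 zb18) (kb xb17 yb24 zb12) (kb xb10 yb27 zb19) (kb xb24 yb5 zb60) (kb xb28 yb25 zb4) (kb xb18 yb50 zb21) (kb xb28 yb25 zb2) (kb xb27 yb4 zb3) (kb xb22 yb9 zb11) (kb xb10 yb27 zb24) (kb xb28 yb25 zb8) (kb xb28 yb25 zb9) (kb xb12 yb38 zb56) (kb xb14 yb11 zb51) (kb xb17 yb11 zb15) (kb xb10 yb27 zb27) (kb xb14 yb35 zb31) (kb xb18 yb50 zb33) (kb xb17 yb57 zb58) (kb xb18 yb43 zb27) (kb xb10 yb27 zb31) (kb xb24 yb6 zb15) (kb xb24 yb6 zb16) (kb xb17 yb52 zb8) (kb xb24 yb18 zb3) (kb xb28 yb25 zb15) (kb xb10 yb27 zb32) (kb xb28 yb25 zb22) (kb xb13 yb17 zb54) (kb xb23 yb55 zb41) (kb xb23 yb53 zb53) (kb xb23 yb9 zb22) (kb xb20 yb34 zb5) (kb xb19 yb20 zb16) (kb xb20 yb34 zb6) (kb xb10 yb27 zb36) (kb xb10 yb39 zb0) (kb xb20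 yb26 zb14) (kb xb18 yb1 zb1) (kb xb23 yb55 zb23) (kb xb12 yb38 zb50) (kb xb10 yb27 zb39) (kb xb10 yb27 zb40) (kb xb21 yb41 zb58) (kb xb10 yb27 zb42) (kb xb10 yb27 zb43)) (@D3.rec (fun _ => Pt) (kb xb27 yb37 zb57) (kb xb22 yb3 zb23) (kb xb21 yb1 zb30) (kb xb20 yb25 zb47) (kb xb16 yb59 zb57) (kb xb16 yb59 zb30) (kb xb21 yb7 zb51) (kb xb15 yb12 zb29) (kb xb27 yb32 zb53) (kb xb26 yb12 zb14) (kb xb18 yb58 zb19) (kb xb10 yb27 zb52) (kb xb27 yb34 zb59) (kb xb10 yb28 zb26) (kb xb10 yb27 zb57) (kb xb28 yb25 zb42) (kb xb19 yb0 zb35) (kb xb10 yb28 zb40) (kb xb15 yb14 zb61) (kb xb18 yb58 zb10) (kb xb10 yb28 zb4) (kb xb28 yb25 zb46) (kb xb28 yb25 zb47) (kb xb18 yb45 zb26) (kb xb16 yb12 zb51) (kb xb18 yb39 zb61) (kb xb10 yb28 zb9) (kb xb22 yb49 zb36) (kb xb10 yb28 zb10) (kb xb28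 yb25 zb49) (kb xb15 yb14 zb27) (kb xb10 yb28 zb14) (kb xb26 yb19 zb34) (kb xb10 yb28 zb15) (kb xb16 yb19 zb20) (kb xb15 yb7 zb9) (kb xb17 yb45 zb48) (kb xb18 yb38 zb45) (kb xb15 yb50 zb47) (kb xb10 yb28 zb19) (kb xb22 yb34 zb18) (kb xb28 yb26 zb2) (kb xb10 yb28 zb22) (kb xb10 yb28 zb23) (kb xb24 yb54 zb9) (kb xb13 yb52 zb10) (kb xb28 yb25 zb61) (kb xb28 yb26 zb0) (kb xb10 yb28 zb20) (kb xb10 yb28 zb21) (kb xb23 yb6 zb53) (kb xb28 yb26 zb11) (kb xb18 yb19 zb22) (kb xb28 yb26 zb5) (kb xb24 yb28 zb37) (kb xb10 yb28 zb24) (kb xb23 yb25 zb29) (kb xb10 yb28 zb25) (kb xb28 yb12 zb18) (kb xb10 yb28 zb27) (kb xb14 yb53 zb40) (kb xb28 yb26 zb15)) (@D3.rec (fun _ => Pt) (kb xb10 yb28 zb28) (kb xb16 yb23 zb15) (kb xb18 yb21 zb45) (kb xb18 yb35 zb59) (kb xb24 yb55 zb31) (kb xb18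 yb35 zb20) (kb xb10 yb28 zb32) (kb xb28 yb26 zb22) (kb xb24 yb55 zb35) (kb xb10 yb28 zb35) (kb xb10 yb28 zb36) (kb xb26 yb18 zb53) (kb xb18 yb19 zb57) (kb xb28 yb26 zb20) (kb xb28 yb26 zb21) (kb xb10 yb28 zb33) (kb xb24 yb57 zb50) (kb xb10 yb28 zb34) (kb xb24 yb9 zb26) (kb xb28 yb26 zb31) (kb xb28 yb26 zb35) (kb xb28 yb26 zb26) (kb xb10 yb28 zb37) (kb xb28 yb26 zb37) (kb xb23 yb58 zb45) (kb xb10 yb28 zb39) (kb xb16 yb31 zb20) (kb xb22 yb14 zb19) (kb xb10 yb28 zb42) (kb xb27 yb7 zb2) (kb xb28 yb26 zb44) (kb xb10 yb28 zb44) (kb xb23 yb43 zb31) (kb xb10 yb29 zb56) (kb xb11 yb13 zb38) (kb xb10 yb28 zb49) (kb xb10 yb28 zb50) (kb xb28 yb26 zb51) (kb xb25 yb28 zb35) (kb xb28 yb26 zb48) (kb xb28 yb26 zb57) (kb xb24 yb7 zb44) (kb xb16 yb22 zb33) (kb xb18 yb35 zb54) (kb xb18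 yb35 zb56) (kb xb10 yb28 zb53) (kb xb18 yb44 zb48) (kb xb10 yb30 zb1) (kb xb27 yb5 zb28) (kb xb16 yb21 zb19) (kb xb19 yb1 zb44) (kb xb13 yb30 zb48) (kb xb12 yb7 zb12) (kb xb10 yb28 zb57) (kb xb22 yb28 zb51) (kb xb25 yb46 zb43) (kb xb10 yb28 zb58) (kb xb10 yb28 zb59) (kb xb28 yb10 zb61) (kb xb28 yb0 zb53) (kb xb20 yb8 zb11) (kb xb13 yb59 zb26))
def f_b_19 : D2 → D3 → Pt := @D2.rec (fun _ => D3 → Pt) (@D3.rec (fun _ => Pt) (kb xb23 yb25 zb24) (kb xb28 yb27 zb7) (kb xb28 yb27 zb5) (kb xb19 yb0 zb20) (kb xb10 yb28 zb61) (kb xb19 yb2 zb2) (kb xb26 yb30 zb25) (kb xb20 yb21 zb8) (kb xb18 yb15 zb45) (kb xb16 yb21 zb16) (kb xb21 yb13 zb16) (kb xb10 yb29 zb1) (kb xb19 yb2 zb11) (kb xb28 yb27 zb12) (kb xb28 yb27 zb13) (kb xb10 yb29 zb3) (kb xb28 yb27 zb16) (kb xb10 yb29 zb54)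 (kb xb25 yb1 zb57) (kb xb28 yb27 zb15) (kb xb19 yb0 zb3) (kb xb17 yb46 zb29) (kb xb26 yb19 zb51) (kb xb26 yb20 zb21) (kb xb26 yb20 zb20) (kb xb28 yb27 zb21) (kb xb28 yb27 zb23) (kb xb18 yb35 zb15) (kb xb28 yb27 zb28) (kb xb27 yb5 zb29) (kb xb11 yb13 zb27) (kb xb10 yb29 zb10) (kb xb28 yb27 zb31) (kb xb11 yb59 zb33) (kb xb28 yb27 zb32) (kb xb18 yb58 zb16) (kb xb10 yb29 zb20) (kb xb16 yb19 zb44) (kb xb28 yb27 zb34) (kb xb10 yb29 zb21) (kb xb16 yb20 zb51) (kb xb28 yb27 zb36) (kb xb16 yb8 zb8) (kb xb28 yb27 zb38) (kb xb28 yb27 zb39) (kb xb28 yb27 zb40) (kb xb28 yb27 zb42) (kb xb12 yb13 zb49) (kb xb28 yb27 zb45) (kb xb10 yb29 zb26) (kb xb16 yb21 zb13) (kb xb24 yb55 zb34) (kb xb18 yb21 zb52) (kb xb21 yb25 zb37) (kb xb18 yb9 zb32) (kb xb10 yb29 zb30) (kb xb10 yb29 zb32) (kb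 xb28 yb27 zb50) (kb xb10 yb29 zb31) (kb xb17 yb57 zb25) (kb xb27 yb42 zb5) (kb xb16 yb1 zb57)) (@D3.rec (fun _ => Pt) (kb xb26 yb26 zb52) (kb xb20 yb18 zb28) (kb xb10 yb29 zb34) (kb xb22 yb17 zb14) (kb xb26 yb44 zb34) (kb xb25 yb22 zb32) (kb xb10 yb29 zb37) (kb xb25 yb22 zb23) (kb xb28 yb27 zb58) (kb xb10 yb29 zb40) (kb xb10 yb29 zb41) (kb xb19 yb34 zb61) (kb xb22 yb50 zb31) (kb xb10 yb29 zb43) (kb xb18 yb15 zb47) (kb xb18 yb15 zb48) (kb xb18 yb13 zb15) (kb xb10 yb29 zb47) (kb xb28 yb25 zb59) (kb xb28 yb28 zb6) (kb xb10 yb29 zb50) (kb xb10 yb29 zb51) (kb xb24 yb54 zb37) (kb xb18 yb38 zb49) (kb xb25 yb18 zb13) (kb xb28 yb28 zb4) (kb xb10 yb29 zb48) (kb xb15 yb14 zb6) (kb xb24 yb53 zb58) (kb xb24 yb31 zb11) (kb xb28 yb28 zb10) (kb xb10 yb29 zb52) (kb xb28 yb28 zb12) (kb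 xb13 yb59 zb54) (kb xb22 yb29 zb38) (kb xb10 yb29 zb61) (kb xb10 yb30 zb0) (kb xb27 yb58 zb27) (kb xb20 yb18 zb22) (kb xb11 yb13 zb32) (kb xb22 yb17 zb6) (kb xb28 yb28 zb23) (kb xb28 yb28 zb18) (kb xb14 yb8 zb47) (kb xb18 yb59 zb50) (kb xb10 yb30 zb5) (kb xb13 yb48 zb24) (kb xb10 yb30 zb6) (kb xb23 yb32 zb8) (kb xb18 yb22 zb54) (kb xb27 yb57 zb46) (kb xb13 yb15 zb46) (kb xb26 yb20 zb33) (kb xb28 yb9 zb39) (kb xb18 yb15 zb41) (kb xb14 yb35 zb21) (kb xb10 yb30 zb12) (kb xb10 yb30 zb13) (kb xb16 yb23 zb11) (kb xb10 yb30 zb10) (kb xb14 yb35 zb20) (kb xb18 yb7 zb45)) (@D3.rec (fun _ => Pt) (kb xb18 yb31 zb50) (kb xb27 yb59 zb20) (kb xb19 yb0 zb5) (kb xb28 yb28 zb28) (kb xb14 yb35 zb2) (kb xb23 yb11 zb53) (kb xb10 yb30 zb16) (kb xb10 yb30 zb17) (kb xb18 yb7 zb43) (kb xb28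 yb28 zb35) (kb xb28 yb28 zb33) (kb xb19 yb0 zb12) (kb xb28 yb28 zb34) (kb xb22 yb29 zb32) (kb xb10 yb30 zb18) (kb xb25 yb0 zb53) (kb xb21 yb7 zb58) (kb xb16 yb23 zb16) (kb xb10 yb30 zb25) (kb xb21 yb12 zb23) (kb xb28 yb9 zb40) (kb xb10 yb30 zb22) (kb xb28 yb28 zb39) (kb xb28 yb28 zb41) (kb xb20 yb2 zb54) (kb xb25 yb0 zb52) (kb xb27 yb33 zb19) (kb xb10 yb30 zb24) (kb xb28 yb28 zb48) (kb xb20 yb7 zb9) (kb xb16 yb33 zb3) (kb xb10 yb30 zb27) (kb xb16 yb52 zb38) (kb xb26 yb29 zb29) (kb xb10 yb30 zb31) (kb xb28 yb28 zb50) (kb xb21 yb3 zb39) (kb xb10 yb45 zb20) (kb xb10 yb33 zb50) (kb xb10 yb30 zb33) (kb xb10 yb30 zb34) (kb xb22 yb49 zb27) (kb xb28 yb28 zb55) (kb xb28 yb28 zb57) (kb xb22 yb49 zb28) (kb xb14 yb38 zb32) (kb xb24 yb26 zb30) (kb xb24 yb29 zb24) (kb xb27 yb24 zb14)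 (kb xb10 yb34 zb17) (kb xb10 yb30 zb38) (kb xb10 yb30 zb39) (kb xb28 yb29 zb7) (kb xb28 yb29 zb9) (kb xb28 yb29 zb10) (kb xb26 yb20 zb39) (kb xb28 yb22 zb61) (kb xb10 yb34 zb26) (kb xb10 yb30 zb41) (kb xb10 yb30 zb42) (kb xb22 yb20 zb52) (kb xb20 yb48 zb59)) (@D3.rec (fun _ => Pt) (kb xb28 yb29 zb19) (kb xb10 yb34 zb32) (kb xb24 yb27 zb11) (kb xb10 yb30 zb43) (kb xb11 yb56 zb32) (kb xb24 yb28 zb45) (kb xb28 yb29 zb24) (kb xb10 yb30 zb44) (kb xb20 yb56 zb47) (kb xb24 yb27 zb54) (kb xb10 yb34 zb41) (kb xb28 yb22 zb60) (kb xb28 yb29 zb30) (kb xb28 yb5 zb46) (kb xb10 yb30 zb48) (kb xb14 yb27 zb18) (kb xb10 yb30 zb49) (kb xb24 yb38 zb38) (kb xb28 yb29 zb33) (kb xb28 yb29 zb34) (kb xb17 yb12 zb40) (kb xb15 yb22 zb61) (kb xb28 yb29 zb37) (kb xb13 yb9 zb45) (kb xb19 yb29 zb50)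 (kb xb28 yb29 zb38) (kb xb10 yb35 zb60) (kb xb10 yb48 zb25) (kb xb27 yb38 zb60) (kb xb10 yb36 zb7) (kb xb10 yb30 zb58) (kb xb28 yb29 zb43) (kb xb28 yb29 zb44) (kb xb26 yb34 zb27) (kb xb28 yb29 zb47) (kb xb10 yb36 zb15) (kb xb10 yb30 zb60) (kb xb28 yb29 zb51) (kb xb10 yb30 zb61) (kb xb24 yb34 zb14) (kb xb10 yb31 zb0) (kb xb10 yb36 zb29) (kb xb22 yb23 zb31) (kb xb10 yb59 zb57) (kb xb27 yb35 zb53) (kb xb10 yb31 zb4) (kb xb10 yb31 zb3) (kb xb22 yb29 zb24) (kb xb18 yb54 zb42) (kb xb24 yb24 zb25) (kb xb10 yb31 zb5) (kb xb28 yb29 zb60) (kb xb10 yb31 zb6) (kb xb28 yb30 zb0) (kb xb28 yb30 zb2) (kb xb28 yb30 zb5) (kb xb28 yb30 zb9) (kb xb23 yb59 zb42) (kb xb12 yb52 zb5) (kb xb18 yb32 zb29) (kb xb21 yb48 zb22) (kb xb10 yb37 zb37)) (@D3.rec (fun _ => Pt) (kb xb10 yb31 zb12) (kb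 xb10 yb31 zb14) (kb xb28 yb30 zb15) (kb xb28 yb21 zb6) (kb xb28 yb7 zb50) (kb xb18 yb54 zb36) (kb xb10 yb31 zb19) (kb xb28 yb30 zb19) (kb xb10 yb46 zb1) (kb xb10 yb31 zb22) (kb xb28 yb30 zb21) (kb xb21 yb13 zb28) (kb xb28 yb30 zb17) (kb xb28 yb30 zb18) (kb xb10 yb31 zb20) (kb xb25 yb51 zb49) (kb xb10 yb54 zb52) (kb xb28 yb30 zb31) (kb xb20 yb28 zb44) (kb xb28 yb30 zb37) (kb xb24 yb19 zb41) (kb xb10 yb31 zb24) (kb xb11 yb55 zb55) (kb xb10 yb59 zb59) (kb xb10 yb38 zb60) (kb xb10 yb31 zb30) (kb xb23 yb55 zb26) (kb xb10 yb31 zb31) (kb xb24 yb47 zb14) (kb xb10 yb39 zb9) (kb xb27 yb35 zb41) (kb xb10 yb31 zb36) (kb xb22 yb32 zb46) (kb xb10 yb31 zb37) (kb xb28 yb30 zb45) (kb xb24 yb26 zb51) (kb xb10 yb51 zb56) (kb xb10 yb31 zb44) (kb xb12 yb11 zb25) (kb xb10 yb39 zb55) (kb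 xb10 yb31 zb49) (kb xb23 yb34 zb7) (kb xb10 yb31 zb50) (kb xb28 yb30 zb47) (kb xb10 yb31 zb51) (kb xb13 yb23 zb10) (kb xb19 yb31 zb1) (kb xb24 yb49 zb3) (kb xb22 yb34 zb34) (kb xb23 yb49 zb28) (kb xb10 yb31 zb56) (kb xb28 yb30 zb51) (kb xb10 yb40 zb27) (kb xb10 yb40 zb28) (kb xb24 yb0 zb28) (kb xb28 yb30 zb54) (kb xb26 yb39 zb43) (kb xb10 yb31 zb60) (kb xb24 yb27 zb42) (kb xb27 yb22 zb25) (kb xb15 yb15 zb11) (kb xb24 yb28 zb60)) (@D3.rec (fun _ => Pt) (kb xb24 yb29 zb0) (kb xb28 yb15 zb29) (kb xb10 yb41 zb10) (kb xb18 yb2 zb61) (kb xb10 yb32 zb8) (kb xb10 yb32 zb9) (kb xb17 yb50 zb42) (kb xb25 yb10 zb16) (kb xb25 yb10 zb21) (kb xb26 yb37 zb46) (kb xb10 yb32 zb14) (kb xb17 yb50 zb36) (kb xb10 yb32 zb15) (kb xb15 yb3 zb21) (kb xb16 yb18 zb12) (kb xb10 yb42 zb3) (kb xb27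 yb35 zb32) (kb xb10 yb32 zb18) (kb xb28 yb31 zb0) (kb xb10 yb42 zb9) (kb xb17 yb54 zb3) (kb xb10 yb32 zb20) (kb xb18 yb54 zb52) (kb xb28 yb31 zb3) (kb xb23 yb36 zb41) (kb xb10 yb32 zb21) (kb xb21 yb34 zb51) (kb xb28 yb31 zb8) (kb xb10 yb32 zb23) (kb xb28 yb31 zb10) (kb xb10 yb32 zb24) (kb xb24 yb39 zb47) (kb xb20 yb40 zb16) (kb xb10 yb32 zb30) (kb xb10 yb32 zb31) (kb xb10 yb32 zb29) (kb xb21 yb53 zb18) (kb xb14 yb37 zb13) (kb xb19 yb48 zb35) (kb xb16 yb0 zb53) (kb xb10 yb32 zb34) (kb xb26 yb48 zb13) (kb xb21 yb56 zb35) (kb xb17 yb39 zb37) (kb xb10 yb32 zb36) (kb xb13 yb51 zb46) (kb xb21 yb5 zb56) (kb xb28 yb31 zb17) (kb xb21 yb56 zb30) (kb xb10 yb32 zb39) (kb xb15 yb47 zb36) (kb xb26 yb6 zb29) (kb xb14 yb54 zb42) (kb xb19 yb31 zb46) (kb xb19 yb42 zb44) (kb xb25 yb49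 zb37) (kb xb10 yb32 zb43) (kb xb15 yb20 zb30) (kb xb24 yb0 zb7) (kb xb21 yb8 zb37) (kb xb12 yb13 zb4) (kb xb21 yb46 zb37)) (@D3.rec (fun _ => Pt) (kb xb10 yb32 zb47) (kb xb19 yb16 zb35) (kb xb12 yb48 zb33) (kb xb14 yb46 zb51) (kb xb10 yb58 zb4) (kb xb14 yb38 zb50) (kb xb10 yb32 zb53) (kb xb10 yb32 zb51) (kb xb28 yb31 zb30) (kb xb10 yb32 zb52) (kb xb28 yb31 zb38) (kb xb14 yb43 zb35) (kb xb28 yb31 zb28) (kb xb26 yb40 zb4) (kb xb18 yb44 zb15) (kb xb10 yb32 zb55) (kb xb24 yb52 zb38) (kb xb27 yb53 zb19) (kb xb26 yb32 zb7) (kb xb10 yb32 zb57) (kb xb10 yb32 zb58) (kb xb28 yb31 zb47) (kb xb28 yb31 zb49) (kb xb28 yb31 zb50) (kb xb15 yb12 zb38) (kb xb27 yb47 zb52) (kb xb27 yb47 zb53) (kb xb27 yb47 zb54) (kb xb15 yb9 zb38) (kb xb15 yb14 zb42) (kb xb10 yb33 zb3) (kb xb26 yb13 zb28)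 (kb xb21 yb10 zb29) (kb xb28 yb31 zb59) (kb xb10 yb33 zb4) (kb xb15 yb12 zb10) (kb xb28 yb32 zb0) (kb xb28 yb32 zb1) (kb xb10 yb33 zb7) (kb xb26 yb30 zb34) (kb xb21 yb10 zb41) (kb xb17 yb26 zb11) (kb xb28 yb32 zb12) (kb xb28 yb32 zb14) (kb xb28 yb5 zb45) (kb xb28 yb32 zb16) (kb xb21 yb9 zb42) (kb xb28 yb32 zb20) (kb xb15 yb22 zb0) (kb xb28 yb32 zb21) (kb xb13 yb23 zb14) (kb xb12 yb54 zb2) (kb xb10 yb33 zb14) (kb xb10 yb33 zb15) (kb xb15 yb52 zb25) (kb xb27 yb46 zb56) (kb xb16 yb2 zb6) (kb xb10 yb33 zb19) (kb xb16 yb2 zb2) (kb xb28 yb32 zb25) (kb xb28 yb4 zb56) (kb xb10 yb33 zb21)) (@D3.rec (fun _ => Pt) (kb xb10 yb33 zb22) (kb xb28 yb32 zb31) (kb xb18 yb41 zb61) (kb xb28 yb32 zb36) (kb xb24 yb16 zb52) (kb xb10 yb33 zb24) (kb xb10 yb54 zb51) (kb xb10 yb33 zb25) (kb xb28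 yb32 zb43) (kb xb28 yb32 zb41) (kb xb28 yb32 zb42) (kb xb10 yb33 zb26) (kb xb25 yb16 zb46) (kb xb10 yb45 zb60) (kb xb18 yb42 zb6) (kb xb17 yb26 zb8) (kb xb18 yb12 zb11) (kb xb10 yb33 zb30) (kb xb10 yb33 zb28) (kb xb10 yb33 zb29) (kb xb28 yb32 zb52) (kb xb23 yb52 zb16) (kb xb16 yb4 zb56) (kb xb14 yb23 zb2) (kb xb28 yb4 zb47) (kb xb10 yb33 zb36) (kb xb28 yb32 zb56) (kb xb26 yb27 zb23) (kb xb22 yb39 zb43) (kb xb14 yb52 zb20) (kb xb10 yb33 zb37) (kb xb28 yb33 zb2) (kb xb19 yb52 zb16) (kb xb28 yb33 zb5) (kb xb28 yb33 zb10) (kb xb10 yb33 zb39) (kb xb28 yb33 zb12) (kb xb25 yb52 zb56) (kb xb15 yb25 zb38) (kb xb10 yb33 zb41) (kb xb28 yb33 zb16) (kb xb20 yb49 zb24) (kb xb26 yb28 zb13) (kb xb10 yb56 zb52) (kb xb16 yb8 zb26) (kb xb20 yb55 zb32) (kb xb28 yb33 zb20) (kb xb26 yb36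 zb46) (kb xb10 yb33 zb46) (kb xb10 yb45 zb11) (kb xb28 yb33 zb24) (kb xb17 yb35 zb49) (kb xb10 yb33 zb48) (kb xb18 yb42 zb8) (kb xb10 yb33 zb49) (kb xb23 yb0 zb28) (kb xb14 yb38 zb33) (kb xb28 yb33 zb27) (kb xb19 yb28 zb14) (kb xb18 yb14 zb40) (kb xb10 yb33 zb55) (kb xb28 yb33 zb32)) (@D3.rec (fun _ => Pt) (kb xb28 yb33 zb33) (kb xb10 yb33 zb58) (kb xb10 yb33 zb59) (kb xb10 yb33 zb53) (kb xb25 yb47 zb22) (kb xb10 yb33 zb54) (kb xb28 yb33 zb40) (kb xb28 yb33 zb43) (kb xb19 yb34 zb31) (kb xb23 yb0 zb18) (kb xb28 yb33 zb31) (kb xb10 yb33 zb56) (kb xb28 yb33 zb49) (kb xb10 yb33 zb57) (kb xb28 yb33 zb53) (kb xb28 yb33 zb54) (kb xb28 yb33 zb57) (kb xb28 yb33 zb61) (kb xb28 yb33 zb36) (kb xb22 yb47 zb2) (kb xb14 yb2 zb27) (kb xb10 yb34 zb0) (kb xb28 yb34 zb4) (kb xb28 yb34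 zb5) (kb xb10 yb34 zb2) (kb xb26 yb9 zb55) (kb xb10 yb44 zb54) (kb xb26 yb36 zb48) (kb xb26 yb36 zb41) (kb xb27 yb12 zb57) (kb xb22 yb11 zb57) (kb xb28 yb8 zb9) (kb xb28 yb34 zb14) (kb xb12 yb5 zb40) (kb xb10 yb34 zb10) (kb xb10 yb34 zb11) (kb xb11 yb38 zb13) (kb xb24 yb13 zb51) (kb xb23 yb0 zb37) (kb xb10 yb34 zb8) (kb xb19 yb52 zb17) (kb xb10 yb34 zb9) (kb xb28 yb34 zb24) (kb xb14 yb40 zb25) (kb xb20 yb29 zb21) (kb xb20 yb29 zb22) (kb xb10 yb34 zb14) (kb xb28 yb34 zb27) (kb xb10 yb34 zb15) (kb xb27 yb22 zb26) (kb xb28 yb34 zb28) (kb xb10 yb34 zb16) (kb xb15 yb32 zb27) (kb xb28 yb20 zb4) (kb xb28 yb29 zb2) (kb xb28 yb29 zb3) (kb xb28 yb34 zb33) (kb xb28 yb20 zb26) (kb xb28 yb16 zb52) (kb xb10 yb34 zb21) (kb xb24 yb28 zb46) (kb xb10 yb34 zb22)) (@D3.rec (fun _ => Pt)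 (kb xb10 yb34 zb23) (kb xb22 yb7 zb28) (kb xb25 yb59 zb27) (kb xb22 yb17 zb20) (kb xb19 yb37 zb26) (kb xb28 yb34 zb39) (kb xb26 yb17 zb53) (kb xb28 yb34 zb37) (kb xb24 yb52 zb8) (kb xb24 yb29 zb23) (kb xb10 yb34 zb25) (kb xb15 yb28 zb59) (kb xb28 yb34 zb48) (kb xb28 yb34 zb49) (kb xb28 yb29 zb15) (kb xb28 yb29 zb16) (kb xb28 yb34 zb55) (kb xb28 yb34 zb57) (kb xb27 yb47 zb51) (kb xb10 yb34 zb29) (kb xb24 yb27 zb56) (kb xb28 yb35 zb5) (kb xb10 yb34 zb30) (kb xb10 yb34 zb31) (kb xb23 yb57 zb49) (kb xb28 yb11 zb16) (kb xb28 yb35 zb0) (kb xb28 yb35 zb1) (kb xb28 yb35 zb17) (kb xb28 yb35 zb11) (kb xb21 yb9 zb54) (kb xb12 yb11 zb34) (kb xb10 yb34 zb33) (kb xb28 yb35 zb21) (kb xb28 yb35 zb22) (kb xb24 yb0 zb26) (kb xb10 yb34 zb36) (kb xb10 yb34 zb37) (kb xb24 yb36 zb24) (kb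 xb18 yb42 zb3) (kb xb28 yb35 zb26) (kb xb27 yb24 zb24) (kb xb24 yb0 zb17) (kb xb28 yb35 zb27) (kb xb24 yb27 zb0) (kb xb24 yb28 zb58) (kb xb27 yb24 zb17) (kb xb10 yb34 zb40) (kb xb28 yb35 zb35) (kb xb28 yb35 zb37) (kb xb17 yb12 zb4) (kb xb19 yb41 zb2) (kb xb10 yb34 zb42) (kb xb17 yb25 zb27) (kb xb14 yb27 zb30) (kb xb10 yb34 zb43) (kb xb28 yb35 zb48) (kb xb28 yb35 zb47) (kb xb28 yb35 zb52) (kb xb20 yb45 zb11) (kb xb10 yb34 zb44) (kb xb11 yb25 zb21)) (@D3.rec (fun _ => Pt) (kb xb10 yb34 zb56) (kb xb10 yb34 zb57) (kb xb28 yb35 zb55) (kb xb22 yb35 zb57) (kb xb25 yb51 zb5) (kb xb28 yb35 zb60) (kb xb10 yb34 zb58) (kb xb28 yb15 zb37) (kb xb24 yb38 zb41) (kb xb21 yb12 zb1) (kb xb10 yb34 zb51) (kb xb28 yb35 zb49) (kb xb10 yb46 zb59) (kb xb28 yb36 zb3) (kb xb28 yb24 zb28) (kb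 xb10 yb34 zb53) (kb xb28 yb36 zb12) (kb xb28 yb36 zb15) (kb xb28 yb36 zb11) (kb xb10 yb34 zb54) (kb xb28 yb36 zb22) (kb xb22 yb18 zb28) (kb xb25 yb35 zb16) (kb xb10 yb34 zb55) (kb xb28 yb36 zb30) (kb xb28 yb36 zb28) (kb xb28 yb36 zb29) (kb xb17 yb31 zb13) (kb xb18 yb21 zb9) (kb xb16 yb12 zb50) (kb xb16 yb13 zb23) (kb xb15 yb21 zb23) (kb xb28 yb36 zb38) (kb xb10 yb35 zb2) (kb xb10 yb35 zb3) (kb xb28 yb36 zb40) (kb xb11 yb47 zb24) (kb xb12 yb53 zb44) (kb xb17 yb52 zb18) (kb xb27 yb22 zb29) (kb xb10 yb35 zb8) (kb xb13 yb9 zb27) (kb xb20 yb28 zb19) (kb xb20 yb54 zb29) (kb xb28 yb36 zb44) (kb xb10 yb54 zb27) (kb xb18 yb15 zb49) (kb xb26 yb48 zb22) (kb xb13 yb26 zb1) (kb xb10 yb49 zb1) (kb xb19 yb12 zb39) (kb xb10 yb35 zb23) (kb xb21 yb38 zb61) (kb xb21 yb38 zb60) (kb xb15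 yb43 zb60) (kb xb17 yb49 zb44) (kb xb24 yb34 zb17) (kb xb17 yb30 zb43) (kb xb26 yb58 zb44) (kb xb17 yb4 zb55) (kb xb10 yb35 zb31) (kb xb28 yb36 zb48)) (@D3.rec (fun _ => Pt) (kb xb18 yb32 zb30) (kb xb26 yb5 zb33) (kb xb15 yb22 zb49) (kb xb21 yb8 zb8) (kb xb22 yb21 zb41) (kb xb10 yb35 zb37) (kb xb18 yb2 zb31) (kb xb10 yb35 zb38) (kb xb15 yb47 zb61) (kb xb15 yb48 zb2) (kb xb15 yb18 zb20) (kb xb10 yb35 zb42) (kb xb28 yb36 zb61) (kb xb28 yb37 zb0) (kb xb10 yb35 zb44) (kb xb24 yb51 zb26) (kb xb28 yb37 zb7) (kb xb10 yb35 zb46) (kb xb28 yb36 zb60) (kb xb10 yb35 zb47) (kb xb26 yb36 zb50) (kb xb28 yb37 zb12) (kb xb10 yb35 zb48) (kb xb19 yb54 zb51) (kb xb14 yb41 zb36) (kb xb25 yb40 zb31) (kb xb28 yb37 zb16) (kb xb10 yb35 zb54) (kb xb10 yb35 zb51) (kb xb28 yb37 zb20) (kb xb10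 yb35 zb52) (kb xb22 yb17 zb7) (kb xb28 yb37 zb25) (kb xb28 yb19 zb23) (kb xb28 yb11 zb5) (kb xb13 yb45 zb36) (kb xb10 yb35 zb57) (kb xb28 yb37 zb30) (kb xb10 yb35 zb59) (kb xb28 yb26 zb43) (kb xb27 yb36 zb8) (kb xb10 yb36 zb1) (kb xb28 yb37 zb36) (kb xb28 yb37 zb38) (kb xb10 yb36 zb4) (kb xb20 yb45 zb42) (kb xb28 yb37 zb42) (kb xb28 yb37 zb35) (kb xb28 yb20 zb50) (kb xb10 yb36 zb2) (kb xb22 yb14 zb20) (kb xb10 yb36 zb3) (kb xb28 yb37 zb50) (kb xb28 yb37 zb52) (kb xb26 yb53 zb46) (kb xb28 yb37 zb56) (kb xb10 yb36 zb5) (kb xb20 yb3 zb6) (kb xb25 yb4 zb30) (kb xb25 yb52 zb23) (kb xb10 yb36 zb6) (kb xb15 yb17 zb53)) (@D3.rec (fun _ => Pt) (kb xb26 yb12 zb42) (kb xb24 yb15 zb20) (kb xb28 yb29 zb41) (kb xb13 yb4 zb32) (kb xb18 yb33 zb3) (kb xb28 yb38 zb7) (kb xb23 yb19 zb8)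 (kb xb10 yb36 zb11) (kb xb10 yb36 zb12) (kb xb18 yb54 zb45) (kb xb24 yb22 zb12) (kb xb28 yb38 zb16) (kb xb28 yb38 zb14) (kb xb16 yb44 zb46) (kb xb25 yb40 zb47) (kb xb10 yb36 zb14) (kb xb15 yb37 zb34) (kb xb28 yb38 zb21) (kb xb28 yb38 zb22) (kb xb18 yb46 zb18) (kb xb28 yb29 zb49) (kb xb19 yb50 zb50) (kb xb27 yb37 zb46) (kb xb10 yb36 zb19) (kb xb23 yb58 zb36) (kb xb28 yb38 zb34) (kb xb10 yb36 zb20) (kb xb13 yb41 zb15) (kb xb28 yb38 zb40) (kb xb28 yb38 zb30) (kb xb28 yb38 zb31) (kb xb28 yb38 zb43) (kb xb22 yb37 zb36) (kb xb24 yb7 zb43) (kb xb10 yb48 zb23) (kb xb18 yb46 zb22) (kb xb28 yb38 zb47) (kb xb10 yb36 zb23) (kb xb10 yb36 zb24) (kb xb19 yb10 zb50) (kb xb10 yb36 zb22) (kb xb26 yb21 zb56) (kb xb28 yb38 zb51) (kb xb28 yb38 zb52) (kb xb24 yb17 zb57) (kb xb28 yb30 zb14)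 (kb xb27 yb35 zb28) (kb xb10 yb36 zb28) (kb xb27 yb35 zb29) (kb xb28 yb16 zb40) (kb xb24 yb17 zb12) (kb xb28 yb29 zb54) (kb xb26 yb56 zb58) (kb xb23 yb59 zb43) (kb xb10 yb36 zb31) (kb xb27 yb59 zb52) (kb xb28 yb16 zb9) (kb xb15 yb32 zb18) (kb xb10 yb36 zb45) (kb xb10 yb36 zb34) (kb xb25 yb17 zb42) (kb xb28 yb39 zb0)) (@D3.rec (fun _ => Pt) (kb xb10 yb36 zb35) (kb xb27 yb36 zb41) (kb xb27 yb7 zb33) (kb xb28 yb39 zb6) (kb xb27 yb14 zb45) (kb xb10 yb36 zb55) (kb xb28 yb29 zb56) (kb xb27 yb55 zb14) (kb xb10 yb36 zb39) (kb xb28 yb25 zb32) (kb xb21 yb39 zb10) (kb xb25 yb46 zb3) (kb xb22 yb29 zb28) (kb xb10 yb36 zb41) (kb xb28 yb8 zb25) (kb xb28 yb16 zb60) (kb xb10 yb36 zb43) (kb xb28 yb39 zb13) (kb xb28 yb39 zb15) (kb xb28 yb39 zb18) (kb xb24 yb21 zb33) (kb xb21 yb52 zb32)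 (kb xb28 yb39 zb3) (kb xb23 yb57 zb30) (kb xb10 yb36 zb47) (kb xb28 yb39 zb1) (kb xb28 yb39 zb29) (kb xb28 yb29 zb61) (kb xb10 yb46 zb11) (kb xb10 yb36 zb50) (kb xb10 yb36 zb51) (kb xb25 yb29 zb10) (kb xb26 yb39 zb5) (kb xb28 yb39 zb36) (kb xb10 yb36 zb52) (kb xb28 yb39 zb43) (kb xb22 yb24 zb48) (kb xb10 yb36 zb53) (kb xb28 yb30 zb3) (kb xb28 yb39 zb48) (kb xb28 yb39 zb50) (kb xb10 yb36 zb54) (kb xb28 yb39 zb53) (kb xb28 yb39 zb54) (kb xb28 yb39 zb8) (kb xb10 yb36 zb56) (kb xb28 yb40 zb1) (kb xb24 yb11 zb31) (kb xb10 yb36 zb58) (kb xb22 yb26 zb20) (kb xb28 yb40 zb9) (kb xb10 yb36 zb59) (kb xb28 yb40 zb10) (kb xb17 yb28 zb54) (kb xb28 yb40 zb12) (kb xb26 yb57 zb24) (kb xb10 yb37 zb1) (kb xb28 yb40 zb15) (kb xb28 yb40 zb16) (kb xb17 yb7 zb4) (kb xb10 yb37 zb4) (kb xb28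 yb40 zb20)) (@D3.rec (fun _ => Pt) (kb xb10 yb37 zb5) (kb xb17 yb7 zb10) (kb xb28 yb40 zb24) (kb xb20 yb57 zb6) (kb xb10 yb37 zb7) (kb xb10 yb37 zb8) (kb xb28 yb40 zb29) (kb xb28 yb40 zb30) (kb xb28 yb40 zb31) (kb xb11 yb53 zb20) (kb xb28 yb40 zb28) (kb xb16 yb36 zb37) (kb xb21 yb1 zb21) (kb xb20 yb56 zb48) (kb xb10 yb37 zb11) (kb xb10 yb37 zb12) (kb xb27 yb14 zb19) (kb xb28 yb20 zb47) (kb xb10 yb37 zb14) (kb xb21 yb16 zb44) (kb xb10 yb37 zb16) (kb xb26 yb46 zb8) (kb xb10 yb37 zb17) (kb xb11 yb53 zb11) (kb xb28 yb40 zb44) (kb xb28 yb40 zb47) (kb xb11 yb53 zb21) (kb xb19 yb58 zb49) (kb xb10 yb37 zb25) (kb xb10 yb37 zb21) (kb xb21 yb6 zb14) (kb xb25 yb49 zb18) (kb xb25 yb49 zb20) (kb xb10 yb37 zb24) (kb xb19 yb20 zb27) (kb xb28 yb40 zb56) (kb xb25 yb38 zb30) (kb xb22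 yb12 zb26) (kb xb24 yb19 zb58) (kb xb14 yb0 zb46) (kb xb28 yb41 zb2) (kb xb27 yb44 zb38) (kb xb10 yb37 zb28) (kb xb28 yb41 zb10) (kb xb15 yb44 zb61) (kb xb10 yb37 zb30) (kb xb10 yb37 zb31) (kb xb21 yb28 zb19) (kb xb28 yb41 zb16) (kb xb28 yb41 zb9) (kb xb23 yb45 zb10) (kb xb10 yb37 zb29) (kb xb28 yb41 zb19) (kb xb21 yb10 zb6) (kb xb28 yb41 zb23) (kb xb27 yb30 zb53) (kb xb28 yb41 zb14) (kb xb10 yb37 zb35) (kb xb28 yb41 zb25) (kb xb21 yb47 zb20) (kb xb17 yb48 zb56) (kb xb27 yb53 zb34)) (@D3.rec (fun _ => Pt) (kb xb20 yb47 zb13) (kb xb22 yb3 zb19) (kb xb10 yb37 zb41) (kb xb17 yb5 zb25) (kb xb28 yb41 zb30) (kb xb11 yb55 zb35) (kb xb15 yb9 zb29) (kb xb26 yb34 zb25) (kb xb16 yb43 zb48) (kb xb19 yb39 zb13) (kb xb10 yb37 zb50) (kb xb24 yb32 zb2) (kb xb11 yb3 zb35) (kb xb10 yb37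 zb49) (kb xb26 yb23 zb9) (kb xb17 yb45 zb25) (kb xb28 yb21 zb11) (kb xb10 yb37 zb54) (kb xb11 yb3 zb42) (kb xb11 yb3 zb43) (kb xb28 yb15 zb23) (kb xb19 yb50 zb60) (kb xb26 yb28 zb43) (kb xb24 yb55 zb46) (kb xb26 yb19 zb32) (kb xb26 yb57 zb3) (kb xb24 yb19 zb40) (kb xb10 yb37 zb57) (kb xb25 yb30 zb54) (kb xb10 yb37 zb58) (kb xb24 yb55 zb14) (kb xb27 yb25 zb50) (kb xb27 yb38 zb48) (kb xb25 yb35 zb7) (kb xb10 yb38 zb5) (kb xb10 yb38 zb6) (kb xb10 yb37 zb61) (kb xb15 yb23 zb7) (kb xb25 yb51 zb45) (kb xb10 yb38 zb0) (kb xb21 yb2 zb12) (kb xb28 yb41 zb50) (kb xb22 yb23 zb14) (kb xb28 yb41 zb52) (kb xb10 yb38 zb16) (kb xb19 yb17 zb37) (kb xb10 yb55 zb16) (kb xb24 yb46 zb13) (kb xb10 yb38 zb4) (kb xb17 yb49 zb33) (kb xb26 yb39 zb26) (kb xb20 yb9 zb21) (kb xb28 yb15 zb43) (kb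 xb28 yb41 zb60) (kb xb28 yb41 zb47) (kb xb25 yb42 zb10) (kb xb28 yb30 zb29) (kb xb10 yb38 zb9) (kb xb10 yb38 zb10) (kb xb16 yb1 zb8) (kb xb17 yb50 zb8) (kb xb25 yb52 zb11)) (@D3.rec (fun _ => Pt) (kb xb24 yb20 zb32) (kb xb12 yb49 zb52) (kb xb10 yb44 zb12) (kb xb24 yb17 zb54) (kb xb26 yb45 zb29) (kb xb10 yb38 zb12) (kb xb21 yb17 zb8) (kb xb15 yb51 zb45) (kb xb10 yb38 zb13) (kb xb12 yb29 zb20) (kb xb20 yb28 zb26) (kb xb10 yb38 zb14) (kb xb21 yb39 zb32) (kb xb14 yb32 zb25) (kb xb28 yb42 zb17) (kb xb15 yb18 zb10) (kb xb10 yb38 zb15) (kb xb28 yb42 zb23) (kb xb28 yb42 zb24) (kb xb28 yb41 zb53) (kb xb10 yb38 zb17) (kb xb24 yb39 zb21) (kb xb19 yb25 zb16) (kb xb10 yb38 zb19) (kb xb10 yb38 zb20) (kb xb27 yb21 zb5) (kb xb28 yb42 zb36) (kb xb25 yb50 zb56) (kb xb19 yb25 zb14) (kb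 xb24 yb4 zb28) (kb xb21 yb46 zb47) (kb xb21 yb18 zb61) (kb xb15 yb49 zb27) (kb xb21 yb56 zb9) (kb xb10 yb38 zb26) (kb xb19 yb6 zb1) (kb xb25 yb41 zb57) (kb xb12 yb40 zb12) (kb xb17 yb55 zb40) (kb xb10 yb38 zb28) (kb xb10 yb38 zb29) (kb xb12 yb40 zb13) (kb xb26 yb12 zb33) (kb xb16 yb19 zb55) (kb xb24 yb43 zb5) (kb xb17 yb55 zb42) (kb xb16 yb19 zb56) (kb xb10 yb38 zb31) (kb xb10 yb38 zb32) (kb xb20 yb47 zb32) (kb xb28 yb42 zb46) (kb xb13 yb58 zb34) (kb xb23 yb42 zb8) (kb xb26 yb0 zb20) (kb xb10 yb38 zb34) (kb xb10 yb38 zb35) (kb xb28 yb42 zb52) (kb xb23 yb44 zb9) (kb xb10 yb38 zb36) (kb xb28 yb42 zb55) (kb xb23 yb28 zb61) (kb xb23 yb24 zb33)) (@D3.rec (fun _ => Pt) (kb xb12 yb19 zb6) (kb xb14 yb44 zb43) (kb xb10 yb38 zb41) (kb xb13 yb21 zb22) (kb xb10 yb38 zb43) (kb xb24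 yb28 zb35) (kb xb28 yb42 zb57) (kb xb17 yb51 zb49) (kb xb10 yb38 zb48) (kb xb23 yb12 zb55) (kb xb22 yb3 zb31) (kb xb10 yb38 zb51) (kb xb10 yb38 zb52) (kb xb10 yb38 zb50) (kb xb21 yb43 zb8) (kb xb26 yb3 zb40) (kb xb21 yb18 zb52) (kb xb28 yb37 zb58) (kb xb27 yb39 zb56) (kb xb20 yb57 zb2) (kb xb15 yb21 zb16) (kb xb14 yb34 zb5) (kb xb10 yb38 zb59) (kb xb14 yb34 zb2) (kb xb28 yb30 zb40) (kb xb17 yb28 zb30) (kb xb14 yb32 zb37) (kb xb17 yb7 zb58) (kb xb10 yb59 zb29) (kb xb10 yb59 zb33) (kb xb10 yb39 zb2) (kb xb16 yb44 zb0) (kb xb27 yb34 zb1) (kb xb24 yb41 zb11) (kb xb26 yb33 zb49) (kb xb10 yb39 zb6) (kb xb10 yb39 zb5) (kb xb19 yb15 zb45) (kb xb18 yb42 zb9) (kb xb16 yb39 zb43) (kb xb26 yb39 zb39) (kb xb26 yb35 zb12) (kb xb28 yb43 zb9) (kb xb14 yb38 zb56) (kb xb10 yb39 zb11)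 (kb xb12 yb2 zb55) (kb xb10 yb39 zb25) (kb xb10 yb39 zb15) (kb xb24 yb51 zb55) (kb xb16 yb56 zb12) (kb xb28 yb43 zb15) (kb xb10 yb39 zb16) (kb xb12 yb11 zb20) (kb xb28 yb43 zb16) (kb xb20 yb52 zb34) (kb xb15 yb56 zb0) (kb xb16 yb53 zb7) (kb xb10 yb39 zb32) (kb xb18 yb12 zb13) (kb xb10 yb39 zb20) (kb xb24 yb18 zb16) (kb xb13 yb29 zb42)) (@D3.rec (fun _ => Pt) (kb xb28 yb43 zb24) (kb xb18 yb53 zb57) (kb xb18 yb53 zb54) (kb xb18 yb20 zb46) (kb xb10 yb39 zb22) (kb xb18 yb47 zb20) (kb xb18 yb54 zb3) (kb xb10 yb39 zb24) (kb xb16 yb53 zb26) (kb xb22 yb38 zb51) (kb xb27 yb13 zb44) (kb xb16 yb55 zb17) (kb xb25 yb46 zb54) (kb xb10 yb39 zb30) (kb xb27 yb9 zb23) (kb xb28 yb43 zb35) (kb xb24 yb26 zb25) (kb xb10 yb39 zb36) (kb xb28 yb43 zb39) (kb xb28 yb43 zb38) (kb xb21 yb13 zb30)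 (kb xb10 yb39 zb41) (kb xb28 yb43 zb40) (kb xb27 yb44 zb31) (kb xb25 yb14 zb57) (kb xb27 yb44 zb53) (kb xb27 yb44 zb28) (kb xb10 yb39 zb44) (kb xb28 yb43 zb53) (kb xb28 yb43 zb54) (kb xb13 yb21 zb57) (kb xb28 yb43 zb52) (kb xb10 yb39 zb45) (kb xb20 yb24 zb11) (kb xb28 yb43 zb57) (kb xb10 yb39 zb46) (kb xb28 yb43 zb58) (kb xb13 yb21 zb54) (kb xb10 yb59 zb32) (kb xb27 yb44 zb43) (kb xb10 yb39 zb51) (kb xb24 yb47 zb15) (kb xb10 yb39 zb54) (kb xb10 yb57 zb57) (kb xb10 yb57 zb58) (kb xb28 yb43 zb61) (kb xb10 yb39 zb56) (kb xb10 yb39 zb57) (kb xb28 yb44 zb2) (kb xb28 yb44 zb1) (kb xb26 yb12 zb7) (kb xb25 yb1 zb44) (kb xb27 yb38 zb33) (kb xb10 yb39 zb59) (kb xb28 yb44 zb8) (kb xb10 yb39 zb60) (kb xb21 yb26 zb48) (kb xb28 yb44 zb10) (kb xb11 yb0 zb44) (kb xb14 yb33 zb48) (kb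 xb10 yb40 zb2) (kb xb10 yb40 zb3)) (@D3.rec (fun _ => Pt) (kb xb17 yb51 zb14) (kb xb28 yb44 zb16) (kb xb14 yb37 zb10) (kb xb28 yb30 zb48) (kb xb10 yb40 zb5) (kb xb22 yb50 zb46) (kb xb10 yb40 zb7) (kb xb10 yb40 zb8) (kb xb24 yb27 zb20) (kb xb21 yb40 zb26) (kb xb28 yb44 zb17) (kb xb24 yb27 zb22) (kb xb28 yb44 zb19) (kb xb23 yb48 zb61) (kb xb28 yb44 zb20) (kb xb11 yb39 zb15) (kb xb27 yb18 zb61) (kb xb10 yb40 zb14) (kb xb28 yb44 zb23) (kb xb10 yb40 zb15) (kb xb27 yb21 zb10) (kb xb28 yb44 zb26) (kb xb28 yb44 zb29) (kb xb28 yb44 zb33) (kb xb20 yb55 zb2) (kb xb10 yb40 zb17) (kb xb10 yb40 zb18) (kb xb28 yb44 zb35) (kb xb28 yb44 zb37) (kb xb10 yb41 zb15) (kb xb10 yb40 zb22) (kb xb15 yb21 zb8) (kb xb16 yb45 zb23) (kb xb10 yb40 zb20) (kb xb28 yb44 zb43) (kb xb27 yb29 zb25) (kb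 xb24 yb46 zb29) (kb xb21 yb4 zb0) (kb xb19 yb44 zb20) (kb xb10 yb40 zb25) (kb xb19 yb28 zb36) (kb xb28 yb14 zb53) (kb xb25 yb4 zb39) (kb xb25 yb4 zb40) (kb xb27 yb31 zb31) (kb xb10 yb56 zb60) (kb xb10 yb56 zb61) (kb xb16 yb43 zb50) (kb xb26 yb24 zb0) (kb xb18 yb50 zb61) (kb xb11 yb47 zb57) (kb xb25 yb10 zb47) (kb xb16 yb21 zb31) (kb xb10 yb40 zb34) (kb xb28 yb44 zb53) (kb xb25 yb25 zb32) (kb xb16 yb17 zb52) (kb xb17 yb42 zb61) (kb xb18 yb31 zb61) (kb xb10 yb40 zb37) (kb xb28 yb44 zb57) (kb xb21 yb11 zb28)) (@D3.rec (fun _ => Pt) (kb xb10 yb40 zb38) (kb xb24 yb5 zb2) (kb xb28 yb44 zb60) (kb xb10 yb40 zb40) (kb xb28 yb45 zb1) (kb xb23 yb7 zb30) (kb xb18 yb47 zb57) (kb xb19 yb42 zb30) (kb xb10 yb40 zb43) (kb xb23 yb50 zb19) (kb xb24 yb51 zb14) (kb xb10 yb40 zb50) (kb xb10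 yb40 zb51) (kb xb24 yb51 zb16) (kb xb23 yb50 zb7) (kb xb20 yb46 zb20) (kb xb18 yb57 zb49) (kb xb24 yb50 zb51) (kb xb10 yb40 zb55) (kb xb28 yb45 zb11) (kb xb28 yb45 zb12) (kb xb26 yb50 zb60) (kb xb28 yb45 zb13) (kb xb28 yb45 zb14) (kb xb28 yb45 zb17) (kb xb24 yb48 zb50) (kb xb24 yb48 zb51) (kb xb19 yb14 zb34) (kb xb18 yb4 zb20) (kb xb10 yb40 zb59) (kb xb28 yb45 zb26) (kb xb28 yb45 zb27) (kb xb12 yb7 zb13) (kb xb25 yb33 zb59) (kb xb28 yb45 zb32) (kb xb14 yb17 zb15) (kb xb24 yb26 zb58) (kb xb11 yb9 zb37) (kb xb10 yb41 zb5) (kb xb28 yb45 zb36) (kb xb19 yb41 zb4) (kb xb17 yb21 zb57) (kb xb12 yb11 zb16) (kb xb10 yb41 zb12) (kb xb10 yb41 zb13) (kb xb17 yb15 zb42) (kb xb28 yb45 zb38) (kb xb23 yb50 zb13) (kb xb16 yb21 zb30) (kb xb28 yb44 zb40) (kb xb24 yb0 zb27) (kb xb28 yb45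 zb42) (kb xb10 yb41 zb26) (kb xb10 yb41 zb27) (kb xb24 yb27 zb52) (kb xb10 yb41 zb29) (kb xb10 yb41 zb30) (kb xb19 yb48 zb6) (kb xb10 yb41 zb21) (kb xb19 yb39 zb2) (kb xb19 yb50 zb21) (kb xb19 yb39 zb42)) (@D3.rec (fun _ => Pt) (kb xb17 yb53 zb30) (kb xb27 yb44 zb7) (kb xb27 yb41 zb15) (kb xb18 yb41 zb53) (kb xb18 yb53 zb6) (kb xb24 yb15 zb28) (kb xb16 yb18 zb8) (kb xb10 yb41 zb25) (kb xb28 yb14 zb27) (kb xb18 yb53 zb9) (kb xb28 yb14 zb26) (kb xb14 yb14 zb37) (kb xb17 yb18 zb25) (kb xb24 yb26 zb53) (kb xb21 yb53 zb38) (kb xb28 yb45 zb43) (kb xb25 yb50 zb58) (kb xb22 yb50 zb47) (kb xb24 yb28 zb61) (kb xb10 yb41 zb39) (kb xb10 yb41 zb42) (kb xb26 yb45 zb52) (kb xb10 yb57 zb4) (kb xb10 yb41 zb38) (kb xb19 yb50 zb15) (kb xb28 yb45 zb55) (kb xb13 yb53 zb39) (kb xb22 yb18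 zb35) (kb xb13 yb17 zb38) (kb xb20 yb7 zb41) (kb xb24 yb21 zb52) (kb xb10 yb41 zb44) (kb xb28 yb45 zb59) (kb xb28 yb45 zb58) (kb xb28 yb45 zb60) (kb xb23 yb6 zb45) (kb xb20 yb10 zb35) (kb xb28 yb46 zb1) (kb xb10 yb41 zb49) (kb xb22 yb14 zb47) (kb xb13 yb19 zb61) (kb xb10 yb41 zb48) (kb xb28 yb46 zb10) (kb xb28 yb16 zb10) (kb xb10 yb42 zb6) (kb xb28 yb46 zb5) (kb xb28 yb46 zb6) (kb xb10 yb41 zb52) (kb xb10 yb41 zb51) (kb xb28 yb46 zb21) (kb xb28 yb29 zb39) (kb xb28 yb46 zb20) (kb xb10 yb41 zb53) (kb xb28 yb38 zb45) (kb xb28 yb46 zb26) (kb xb10 yb41 zb55) (kb xb10 yb41 zb56) (kb xb24 yb3 zb30) (kb xb28 yb46 zb27) (kb xb22 yb20 zb2) (kb xb19 yb42 zb5) (kb xb22 yb33 zb6)) (@D3.rec (fun _ => Pt) (kb xb23 yb36 zb45) (kb xb13 yb4 zb20) (kb xb13 yb53 zb44) (kb xb27 yb35 zb52)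 (kb xb10 yb41 zb58) (kb xb23 yb28 zb53) (kb xb28 yb46 zb35) (kb xb23 yb51 zb18) (kb xb10 yb41 zb59) (kb xb28 yb46 zb40) (kb xb28 yb46 zb39) (kb xb10 yb42 zb26) (kb xb23 yb49 zb37) (kb xb20 yb45 zb20) (kb xb10 yb42 zb29) (kb xb10 yb42 zb0) (kb xb12 yb49 zb47) (kb xb28 yb46 zb44) (kb xb10 yb42 zb1) (kb xb11 yb57 zb32) (kb xb12 yb42 zb35) (kb xb14 yb36 zb12) (kb xb26 yb20 zb45) (kb xb28 yb30 zb60) (kb xb23 yb36 zb37) (kb xb18 yb38 zb5) (kb xb21 yb52 zb47) (kb xb18 yb54 zb56) (kb xb10 yb42 zb7) (kb xb10 yb42 zb8) (kb xb26 yb57 zb21) (kb xb28 yb11 zb17) (kb xb28 yb46 zb18) (kb xb26 yb51 zb50) (kb xb22 yb26 zb37) (kb xb28 yb46 zb51) (kb xb23 yb36 zb42) (kb xb27 yb34 zb20) (kb xb27 yb36 zb46) (kb xb27 yb36 zb47) (kb xb28 yb46 zb23) (kb xb10 yb42 zb13) (kb xb10 yb42 zb14) (kb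 xb28 yb37 zb33) (kb xb10 yb54 zb29) (kb xb25 yb33 zb43) (kb xb28 yb46 zb61) (kb xb10 yb42 zb15) (kb xb10 yb42 zb18) (kb xb26 yb10 zb54) (kb xb28 yb47 zb4) (kb xb27 yb19 zb56) (kb xb26 yb20 zb41) (kb xb28 yb31 zb7) (kb xb26 yb16 zb14) (kb xb10 yb42 zb21) (kb xb10 yb42 zb22) (kb xb17 yb13 zb24) (kb xb18 yb20 zb59) (kb xb28 yb46 zb36) (kb xb28 yb47 zb12) (kb xb27 yb21 zb42)) (@D3.rec (fun _ => Pt) (kb xb28 yb47 zb9) (kb xb28 yb46 zb32) (kb xb28 yb17 zb59) (kb xb10 yb42 zb25) (kb xb21 yb26 zb46) (kb xb26 yb30 zb7) (kb xb26 yb30 zb4) (kb xb28 yb35 zb54) (kb xb10 yb42 zb28) (kb xb28 yb47 zb21) (kb xb13 yb6 zb41) (kb xb20 yb42 zb61) (kb xb18 yb21 zb23) (kb xb11 yb28 zb61) (kb xb10 yb49 zb59) (kb xb10 yb42 zb33) (kb xb18 yb52 zb59) (kb xb18 yb5 zb51) (kb xb20 yb43 zb5) (kb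 xb15 yb29 zb33) (kb xb10 yb42 zb37) (kb xb15 yb29 zb34) (kb xb15 yb29 zb35) (kb xb20 yb46 zb16) (kb xb28 yb47 zb26) (kb xb10 yb42 zb41) (kb xb28 yb47 zb28) (kb xb28 yb47 zb29) (kb xb10 yb42 zb46) (kb xb28 yb47 zb30) (kb xb21 yb39 zb6) (kb xb10 yb42 zb48) (kb xb17 yb19 zb0) (kb xb14 yb37 zb6) (kb xb14 yb37 zb7) (kb xb14 yb21 zb2) (kb xb14 yb37 zb9) (kb xb14 yb21 zb3) (kb xb28 yb47 zb32) (kb xb28 yb47 zb33) (kb xb18 yb54 zb16) (kb xb10 yb42 zb55) (kb xb10 yb42 zb56) (kb xb22 yb15 zb19) (kb xb28 yb47 zb36) (kb xb26 yb15 zb58) (kb xb28 yb47 zb37) (kb xb17 yb33 zb2) (kb xb20 yb59 zb38) (kb xb28 yb11 zb23) (kb xb28 yb47 zb41) (kb xb20 yb59 zb44) (kb xb10 yb42 zb60) (kb xb28 yb47 zb43) (kb xb27 yb21 zb3) (kb xb20 yb59 zb41) (kb xb10 yb43 zb0) (kb xb24 yb47 zb0) (kb xb25 yb51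 zb23) (kb xb14 yb25 zb8) (kb xb28 yb47 zb49) (kb xb10 yb59 zb36)) (@D3.rec (fun _ => Pt) (kb xb24 yb23 zb44) (kb xb10 yb43 zb7) (kb xb10 yb43 zb4) (kb xb10 yb43 zb5) (kb xb24 yb28 zb54) (kb xb10 yb43 zb6) (kb xb28 yb47 zb56) (kb xb28 yb47 zb57) (kb xb26 yb46 zb17) (kb xb20 yb28 zb38) (kb xb10 yb43 zb9) (kb xb10 yb43 zb12) (kb xb10 yb43 zb11) (kb xb28 yb48 zb1) (kb xb28 yb4 zb54) (kb xb10 yb43 zb19) (kb xb10 yb43 zb17) (kb xb21 yb9 zb25) (kb xb28 yb30 zb25) (kb xb20 yb59 zb24) (kb xb12 yb54 zb32) (kb xb12 yb44 zb52) (kb xb21 yb51 zb11) (kb xb10 yb43 zb26) (kb xb28 yb48 zb6) (kb xb28 yb42 zb13) (kb xb10 yb43 zb28) (kb xb28 yb48 zb10) (kb xb28 yb48 zb9) (kb xb27 yb56 zb56) (kb xb28 yb48 zb14) (kb xb19 yb31 zb34) (kb xb10 yb43 zb30) (kb xb28 yb48 zb17) (kb xb24 yb7 zb47)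 (kb xb20 yb59 zb5) (kb xb10 yb43 zb32) (kb xb10 yb43 zb33) (kb xb23 yb1 zb32) (kb xb26 yb4 zb56) (kb xb28 yb48 zb22) (kb xb25 yb22 zb5) (kb xb20 yb59 zb1) (kb xb10 yb43 zb35) (kb xb24 yb58 zb30) (kb xb25 yb25 zb45) (kb xb24 yb7 zb52) (kb xb23 yb56 zb19) (kb xb28 yb19 zb52) (kb xb28 yb48 zb27) (kb xb10 yb43 zb41) (kb xb10 yb43 zb40) (kb xb10 yb43 zb43) (kb xb21 yb0 zb4) (kb xb10 yb43 zb47) (kb xb28 yb48 zb32) (kb xb10 yb43 zb45) (kb xb23 yb10 zb8) (kb xb11 yb9 zb25) (kb xb20 yb23 zb35) (kb xb28 yb48 zb31) (kb xb10 yb43 zb48)) (@D3.rec (fun _ => Pt) (kb xb25 yb24 zb44) (kb xb28 yb48 zb33) (kb xb22 yb11 zb54) (kb xb22 yb6 zb20) (kb xb10 yb43 zb50) (kb xb26 yb53 zb56) (kb xb10 yb43 zb52) (kb xb28 yb48 zb35) (kb xb28 yb1 zb15) (kb xb11 yb57 zb30) (kb xb21 yb0 zb12) (kb xb10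 yb43 zb56) (kb xb16 yb12 zb39) (kb xb21 yb1 zb27) (kb xb19 yb16 zb28) (kb xb10 yb43 zb58) (kb xb19 yb16 zb22) (kb xb10 yb43 zb59) (kb xb13 yb23 zb34) (kb xb23 yb10 zb54) (kb xb28 yb48 zb41) (kb xb16 yb53 zb25) (kb xb10 yb44 zb2) (kb xb28 yb48 zb44) (kb xb28 yb48 zb46) (kb xb10 yb44 zb5) (kb xb10 yb44 zb1) (kb xb28 yb48 zb49) (kb xb16 yb54 zb50) (kb xb24 yb24 zb35) (kb xb16 yb56 zb44) (kb xb10 yb44 zb3) (kb xb28 yb48 zb52) (kb xb10 yb44 zb4) (kb xb28 yb48 zb57) (kb xb28 yb48 zb59) (kb xb28 yb49 zb1) (kb xb22 yb23 zb48) (kb xb10 yb44 zb7) (kb xb28 yb49 zb3) (kb xb28 yb49 zb5) (kb xb28 yb49 zb6) (kb xb10 yb44 zb11) (kb xb10 yb44 zb10) (kb xb11 yb14 zb23) (kb xb21 yb51 zb9) (kb xb19 yb39 zb45) (kb xb28 yb49 zb11) (kb xb10 yb44 zb20) (kb xb28 yb49 zb14) (kb xb28 yb49 zb13)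 (kb xb26 yb48 zb41) (kb xb12 yb45 zb44) (kb xb15 yb26 zb5) (kb xb10 yb44 zb26) (kb xb16 yb55 zb55) (kb xb10 yb44 zb31) (kb xb10 yb44 zb32) (kb xb10 yb44 zb33) (kb xb28 yb49 zb19) (kb xb25 yb25 zb51) (kb xb24 yb18 zb44)) (@D3.rec (fun _ => Pt) (kb xb24 yb7 zb12) (kb xb28 yb19 zb61) (kb xb10 yb44 zb38) (kb xb10 yb44 zb36) (kb xb25 yb27 zb59) (kb xb10 yb44 zb37) (kb xb17 yb43 zb17) (kb xb10 yb44 zb39) (kb xb15 yb58 zb16) (kb xb10 yb44 zb40) (kb xb28 yb49 zb25) (kb xb28 yb49 zb26) (kb xb10 yb44 zb43) (kb xb16 yb26 zb27) (kb xb28 yb49 zb28) (kb xb10 yb44 zb45) (kb xb28 yb49 zb29) (kb xb10 yb44 zb48) (kb xb12 yb48 zb59) (kb xb10 yb44 zb49) (kb xb28 yb41 zb4) (kb xb24 yb20 zb50) (kb xb12 yb23 zb31) (kb xb22 yb28 zb10) (kb xb24 yb35 zb34) (kb xb24 yb23 zb39) (kb xb14 yb36 zb44)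 (kb xb10 yb44 zb55) (kb xb19 yb56 zb26) (kb xb23 yb21 zb16) (kb xb28 yb49 zb36) (kb xb13 yb59 zb31) (kb xb15 yb29 zb59) (kb xb14 yb38 zb31) (kb xb28 yb49 zb40) (kb xb15 yb30 zb0) (kb xb10 yb44 zb58) (kb xb28 yb49 zb43) (kb xb24 yb32 zb18) (kb xb11 yb27 zb60) (kb xb22 yb40 zb32) (kb xb10 yb45 zb0) (kb xb10 yb45 zb1) (kb xb21 yb50 zb1) (kb xb10 yb45 zb4) (kb xb21 yb5 zb15) (kb xb19 yb38 zb46) (kb xb10 yb45 zb6) (kb xb15 yb41 zb18) (kb xb10 yb45 zb7) (kb xb27 yb4 zb59) (kb xb17 yb32 zb15) (kb xb17 yb10 zb3) (kb xb28 yb22 zb53) (kb xb28 yb33 zb23) (kb xb16 yb52 zb48) (kb xb13 yb1 zb21) (kb xb17 yb33 zb1) (kb xb10 yb45 zb15) (kb xb16 yb13 zb7) (kb xb28 yb49 zb50) (kb xb10 yb59 zb27)) (@D3.rec (fun _ => Pt) (kb xb17 yb32 zb61) (kb xb10 yb45 zb28) (kb xb10 yb45 zb19) (kb xb17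 yb24 zb11) (kb xb14 yb33 zb23) (kb xb22 yb57 zb22) (kb xb28 yb15 zb58) (kb xb25 yb53 zb0) (kb xb10 yb45 zb22) (kb xb10 yb45 zb23) (kb xb10 yb45 zb24) (kb xb28 yb50 zb2) (kb xb14 yb39 zb21) (kb xb27 yb14 zb54) (kb xb28 yb49 zb60) (kb xb14 yb33 zb54) (kb xb14 yb38 zb34) (kb xb28 yb50 zb0) (kb xb28 yb50 zb1) (kb xb18 yb12 zb53) (kb xb18 yb42 zb53) (kb xb20 yb13 zb23) (kb xb20 yb9 zb26) (kb xb16 yb53 zb39) (kb xb21 yb32 zb46) (kb xb10 yb45 zb30) (kb xb20 yb46 zb58) (kb xb10 yb45 zb32) (kb xb10 yb45 zb33) (kb xb28 yb50 zb9) (kb xb28 yb34 zb10) (kb xb20 yb50 zb18) (kb xb28 yb50 zb10) (kb xb18 yb2 zb18) (kb xb11 yb0 zb49) (kb xb20 yb41 zb61) (kb xb17 yb2 zb13) (kb xb12 yb55 zb26) (kb xb20 yb34 zb11) (kb xb12 yb31 zb7) (kb xb18 yb43 zb46) (kb xb28 yb50 zb15) (kb xb12 yb4 zb17)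 (kb xb18 yb1 zb50) (kb xb21 yb3 zb15) (kb xb26 yb42 zb17) (kb xb10 yb45 zb44) (kb xb11 yb49 zb47) (kb xb10 yb45 zb46) (kb xb28 yb43 zb8) (kb xb28 yb50 zb16) (kb xb28 yb30 zb41) (kb xb20 yb30 zb30) (kb xb15 yb5 zb26) (kb xb15 yb47 zb44) (kb xb20 yb22 zb61) (kb xb20 yb20 zb18) (kb xb10 yb45 zb52) (kb xb10 yb45 zb53) (kb xb25 yb44 zb17) (kb xb25 yb20 zb36) (kb xb15 yb54 zb33)) (@D3.rec (fun _ => Pt) (kb xb15 yb54 zb36) (kb xb15 yb54 zb37) (kb xb10 yb45 zb56) (kb xb28 yb50 zb21) (kb xb14 yb25 zb20) (kb xb26 yb26 zb54) (kb xb26 yb42 zb43) (kb xb28 yb32 zb40) (kb xb13 yb34 zb5) (kb xb25 yb56 zb5) (kb xb25 yb41 zb58) (kb xb23 yb58 zb56) (kb xb28 yb50 zb25) (kb xb27 yb23 zb49) (kb xb19 yb7 zb58) (kb xb10 yb45 zb61) (kb xb24 yb15 zb55) (kb xb22 yb22 zb9) (kb xb10 yb46 zb0) (kb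 xb28 yb41 zb31) (kb xb28 yb30 zb28) (kb xb26 yb35 zb55) (kb xb10 yb46 zb2) (kb xb24 yb0 zb5) (kb xb14 yb24 zb51) (kb xb23 yb55 zb48) (kb xb10 yb46 zb5) (kb xb28 yb50 zb35) (kb xb28 yb50 zb33) (kb xb28 yb50 zb34) (kb xb10 yb46 zb6) (kb xb24 yb50 zb1) (kb xb28 yb50 zb44) (kb xb28 yb50 zb45) (kb xb28 yb0 zb18) (kb xb28 yb50 zb54) (kb xb19 yb19 zb40) (kb xb23 yb57 zb44) (kb xb10 yb46 zb10) (kb xb28 yb39 zb33) (kb xb28 yb39 zb34) (kb xb10 yb46 zb12) (kb xb13 yb44 zb13) (kb xb14 yb29 zb42) (kb xb26 yb43 zb43) (kb xb13 yb45 zb52) (kb xb10 yb46 zb16) (kb xb10 yb46 zb17) (kb xb25 yb49 zb10) (kb xb20 yb23 zb9) (kb xb16 yb49 zb56) (kb xb25 yb32 zb36) (kb xb25 yb32 zb26) (kb xb25 yb55 zb29) (kb xb10 yb46 zb22) (kb xb28 yb30 zb39) (kb xb24 yb24 zb41) (kb xb10 yb46 zb25) (kb xb10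 yb46 zb26) (kb xb28 yb51 zb3) (kb xb20 yb16 zb57) (kb xb20 yb16 zb29)) (@D3.rec (fun _ => Pt) (kb xb10 yb46 zb24) (kb xb20 yb48 zb30) (kb xb13 yb7 zb32) (kb xb28 yb51 zb14) (kb xb24 yb25 zb9) (kb xb10 yb46 zb27) (kb xb28 yb51 zb15) (kb xb14 yb25 zb0) (kb xb28 yb51 zb17) (kb xb10 yb46 zb30) (kb xb28 yb51 zb18) (kb xb27 yb36 zb6) (kb xb25 yb9 zb32) (kb xb24 yb49 zb34) (kb xb10 yb46 zb32) (kb xb10 yb46 zb33) (kb xb20 yb54 zb22) (kb xb28 yb37 zb49) (kb xb28 yb51 zb26) (kb xb28 yb51 zb27) (kb xb10 yb46 zb36) (kb xb17 yb52 zb52) (kb xb14 yb19 zb34) (kb xb10 yb48 zb46) (kb xb22 yb5 zb18) (kb xb26 yb42 zb50) (kb xb26 yb42 zb51) (kb xb28 yb43 zb5) (kb xb19 yb42 zb58) (kb xb16 yb26 zb20) (kb xb10 yb46 zb41) (kb xb28 yb51 zb47) (kb xb26 yb43 zb46) (kb xb10 yb46 zb43) (kb xb10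 yb46 zb44) (kb xb28 yb51 zb56) (kb xb13 yb36 zb57) (kb xb28 yb33 zb9) (kb xb28 yb51 zb46) (kb xb10 yb46 zb42) (kb xb23 yb13 zb19) (kb xb28 yb52 zb2) (kb xb28 yb52 zb4) (kb xb28 yb52 zb7) (kb xb28 yb51 zb55) (kb xb10 yb46 zb45) (kb xb28 yb52 zb9) (kb xb10 yb46 zb46) (kb xb26 yb16 zb3) (kb xb10 yb46 zb47) (kb xb19 yb3 zb24) (kb xb14 yb24 zb23) (kb xb19 yb41 zb56) (kb xb26 yb43 zb13) (kb xb28 yb52 zb17) (kb xb26 yb38 zb32) (kb xb16 yb46 zb39) (kb xb10 yb46 zb51) (kb xb28 yb52 zb24) (kb xb28 yb52 zb28) (kb xb10 yb46 zb52) (kb xb10 yb46 zb53)) (@D3.rec (fun _ => Pt) (kb xb28 yb52 zb34) (kb xb28 yb52 zb36) (kb xb28 yb52 zb22) (kb xb28 yb52 zb23) (kb xb22 yb40 zb59) (kb xb28 yb52 zb42) (kb xb28 yb52 zb33) (kb xb10 yb46 zb54) (kb xb25 yb12 zb32) (kb xb14 yb24 zb38) (kb xb10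 yb46 zb55) (kb xb11 yb45 zb0) (kb xb19 yb41 zb49) (kb xb26 yb43 zb6) (kb xb28 yb52 zb49) (kb xb25 yb54 zb58) (kb xb28 yb52 zb52) (kb xb28 yb52 zb54) (kb xb10 yb46 zb60) (kb xb10 yb46 zb61) (kb xb28 yb52 zb59) (kb xb13 yb33 zb31) (kb xb28 yb36 zb6) (kb xb28 yb5 zb56) (kb xb23 yb47 zb11) (kb xb28 yb53 zb2) (kb xb28 yb52 zb58) (kb xb26 yb43 zb23) (kb xb10 yb47 zb2) (kb xb10 yb47 zb3) (kb xb25 yb43 zb22) (kb xb28 yb53 zb6) (kb xb28 yb50 zb40) (kb xb11 yb46 zb18) (kb xb13 yb11 zb14) (kb xb28 yb50 zb32) (kb xb17 yb50 zb15) (kb xb10 yb47 zb5) (kb xb10 yb47 zb6) (kb xb14 yb17 zb31) (kb xb28 yb53 zb19) (kb xb28 yb50 zb50) (kb xb28 yb53 zb21) (kb xb28 yb53 zb22) (kb xb28 yb53 zb32) (kb xb10 yb47 zb9) (kb xb10 yb47 zb10) (kb xb24 yb8 zb10) (kb xb28 yb53 zb35) (kb xb28 yb53 zb38)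 (kb xb28 yb53 zb40) (kb xb20 yb36 zb42) (kb xb25 yb56 zb43) (kb xb10 yb47 zb13) (kb xb28 yb53 zb45) (kb xb10 yb47 zb15) (kb xb22 yb20 zb12) (kb xb14 yb30 zb57) (kb xb10 yb47 zb20) (kb xb13 yb44 zb9) (kb xb23 yb57 zb23) (kb xb10 yb47 zb23)) (@D3.rec (fun _ => Pt) (kb xb28 yb53 zb47) (kb xb19 yb4 zb46) (kb xb10 yb47 zb25) (kb xb24 yb9 zb30) (kb xb21 yb41 zb20) (kb xb24 yb17 zb50) (kb xb10 yb47 zb28) (kb xb24 yb4 zb25) (kb xb10 yb47 zb30) (kb xb28 yb53 zb50) (kb xb28 yb53 zb51) (kb xb15 yb9 zb37) (kb xb10 yb47 zb57) (kb xb15 yb4 zb59) (kb xb14 yb29 zb3) (kb xb10 yb47 zb33) (kb xb10 yb47 zb34) (kb xb26 yb27 zb0) (kb xb28 yb53 zb54) (kb xb28 yb37 zb60) (kb xb24 yb19 zb37) (kb xb10 yb47 zb35) (kb xb28 yb11 zb27) (kb xb28 yb53 zb59) (kb xb18 yb46 zb34) (kb xb10 yb47 zb37)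 (kb xb10 yb47 zb38) (kb xb24 yb9 zb14) (kb xb28 yb54 zb1) (kb xb25 yb11 zb51) (kb xb25 yb10 zb50) (kb xb28 yb54 zb3) (kb xb25 yb31 zb51) (kb xb12 yb55 zb2) (kb xb19 yb24 zb31) (kb xb10 yb47 zb41) (kb xb28 yb54 zb5) (kb xb28 yb54 zb8) (kb xb16 yb42 zb24) (kb xb10 yb47 zb43) (kb xb28 yb54 zb10) (kb xb10 yb47 zb44) (kb xb16 yb41 zb55) (kb xb10 yb47 zb45) (kb xb26 yb34 zb29) (kb xb26 yb34 zb30) (kb xb19 yb5 zb53) (kb xb10 yb47 zb49) (kb xb28 yb54 zb22) (kb xb28 yb54 zb24) (kb xb10 yb47 zb52) (kb xb10 yb47 zb53) (kb xb27 yb54 zb1) (kb xb28 yb54 zb30) (kb xb28 yb54 zb20) (kb xb28 yb54 zb21) (kb xb10 yb47 zb50) (kb xb27 yb16 zb31) (kb xb28 yb54 zb38) (kb xb16 yb42 zb3) (kb xb28 yb54 zb42) (kb xb28 yb54 zb44)) (@D3.rec (fun _ => Pt) (kb xb13 yb4 zb12) (kb xb28 yb54 zb28) (kb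 xb28 yb54 zb47) (kb xb10 yb47 zb56) (kb xb10 yb47 zb55) (kb xb28 yb54 zb49) (kb xb28 yb54 zb50) (kb xb10 yb47 zb58) (kb xb27 yb14 zb44) (kb xb21 yb55 zb20) (kb xb10 yb47 zb60) (kb xb28 yb54 zb53) (kb xb26 yb35 zb7) (kb xb12 yb44 zb43) (kb xb26 yb46 zb46) (kb xb11 yb22 zb43) (kb xb25 yb19 zb1) (kb xb11 yb6 zb29) (kb xb16 yb38 zb11) (kb xb10 yb48 zb6) (kb xb27 yb16 zb22) (kb xb20 yb9 zb41) (kb xb10 yb48 zb8) (kb xb18 yb48 zb30) (kb xb11 yb4 zb61) (kb xb11 yb3 zb10) (kb xb10 yb48 zb15) (kb xb10 yb48 zb17) (kb xb28 yb54 zb60) (kb xb10 yb48 zb19) (kb xb10 yb48 zb21) (kb xb10 yb48 zb26) (kb xb27 yb10 zb49) (kb xb22 yb32 zb20) (kb xb11 yb6 zb20) (kb xb11 yb6 zb21) (kb xb10 yb48 zb33) (kb xb10 yb48 zb30) (kb xb28 yb54 zb61) (kb xb10 yb48 zb31) (kb xb28 yb55 zb1) (kb xb28 yb55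 zb2) (kb xb11 yb5 zb34) (kb xb10 yb48 zb35) (kb xb10 yb48 zb40) (kb xb15 yb1 zb53) (kb xb10 yb48 zb39) (kb xb24 yb50 zb40) (kb xb20 yb58 zb38) (kb xb10 yb48 zb42) (kb xb26 yb37 zb60) (kb xb10 yb48 zb43) (kb xb28 yb55 zb6) (kb xb28 yb55 zb7) (kb xb16 yb46 zb18) (kb xb26 yb42 zb20) (kb xb26 yb43 zb51) (kb xb15 yb4 zb36) (kb xb19 yb50 zb30) (kb xb28 yb51 zb38) (kb xb10 yb48 zb47) (kb xb15 yb2 zb14)) (@D3.rec (fun _ => Pt) (kb xb26 yb1 zb26) (kb xb16 yb9 zb38) (kb xb28 yb55 zb19) (kb xb28 yb55 zb21) (kb xb16 yb9 zb36) (kb xb16 yb9 zb37) (kb xb28 yb42 zb44) (kb xb13 yb22 zb6) (kb xb11 yb11 zb55) (kb xb11 yb11 zb56) (kb xb10 yb48 zb57) (kb xb10 yb48 zb58) (kb xb10 yb48 zb52) (kb xb28 yb55 zb29) (kb xb10 yb48 zb53) (kb xb24 yb49 zb30) (kb xb28 yb55 zb31) (kb xb11 yb50 zb10)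 (kb xb10 yb48 zb56) (kb xb17 yb9 zb12) (kb xb10 yb48 zb61) (kb xb10 yb49 zb3) (kb xb10 yb49 zb4) (kb xb10 yb49 zb6) (kb xb10 yb49 zb9) (kb xb10 yb49 zb16) (kb xb28 yb55 zb33) (kb xb20 yb47 zb4) (kb xb25 yb32 zb35) (kb xb13 yb44 zb30) (kb xb15 yb51 zb30) (kb xb10 yb49 zb19) (kb xb10 yb49 zb20) (kb xb28 yb43 zb4) (kb xb18 yb44 zb25) (kb xb28 yb55 zb40) (kb xb28 yb55 zb37) (kb xb28 yb55 zb46) (kb xb25 yb32 zb25) (kb xb28 yb55 zb38) (kb xb28 yb42 zb25) (kb xb20 yb11 zb39) (kb xb10 yb49 zb21) (kb xb28 yb14 zb12) (kb xb19 yb46 zb57) (kb xb12 yb31 zb55) (kb xb26 yb42 zb32) (kb xb17 yb59 zb8) (kb xb17 yb54 zb58) (kb xb20 yb26 zb24) (kb xb17 yb54 zb47) (kb xb16 yb29 zb60) (kb xb15 yb17 zb36) (kb xb19 yb43 zb15) (kb xb20 yb3 zb8) (kb xb26 yb38 zb14) (kb xb19 yb46 zb32) (kb xb10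 yb49 zb35) (kb xb21 yb57 zb34) (kb xb16 yb58 zb34) (kb xb10 yb49 zb37) (kb xb10 yb49 zb38)) (@D3.rec (fun _ => Pt) (kb xb10 yb49 zb32) (kb xb10 yb49 zb33) (kb xb28 yb56 zb2) (kb xb28 yb56 zb0) (kb xb28 yb47 zb39) (kb xb28 yb56 zb9) (kb xb28 yb56 zb1) (kb xb28 yb15 zb45) (kb xb10 yb49 zb34) (kb xb28 yb56 zb15) (kb xb24 yb30 zb32) (kb xb11 yb58 zb12) (kb xb28 yb56 zb16) (kb xb28 yb55 zb61) (kb xb10 yb49 zb39) (kb xb26 yb56 zb14) (kb xb10 yb49 zb41) (kb xb28 yb51 zb0) (kb xb26 yb28 zb14) (kb xb10 yb52 zb46) (kb xb10 yb49 zb45) (kb xb10 yb49 zb44) (kb xb22 yb12 zb55) (kb xb27 yb42 zb51) (kb xb26 yb51 zb7) (kb xb26 yb51 zb8) (kb xb10 yb49 zb47) (kb xb26 yb3 zb50) (kb xb22 yb36 zb49) (kb xb19 yb48 zb55) (kb xb28 yb56 zb24) (kb xb19 yb8 zb8) (kb xb11 yb21 zb23) (kb xb10 yb49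 zb49) (kb xb13 yb44 zb18) (kb xb10 yb49 zb52) (kb xb10 yb49 zb51) (kb xb24 yb9 zb29) (kb xb28 yb42 zb14) (kb xb10 yb49 zb53) (kb xb28 yb56 zb29) (kb xb28 yb56 zb31) (kb xb28 yb56 zb34) (kb xb28 yb56 zb37) (kb xb11 yb39 zb44) (kb xb10 yb49 zb55) (kb xb28 yb56 zb38) (kb xb28 yb56 zb39) (kb xb19 yb39 zb16) (kb xb26 yb44 zb46) (kb xb25 yb5 zb5) (kb xb19 yb34 zb60) (kb xb24 yb16 zb4) (kb xb10 yb49 zb61) (kb xb24 yb16 zb10) (kb xb28 yb47 zb24) (kb xb10 yb49 zb60) (kb xb21 yb23 zb61) (kb xb28 yb56 zb46) (kb xb19 yb46 zb42) (kb xb19 yb34 zb51) (kb xb19 yb1 zb11)) (@D3.rec (fun _ => Pt) (kb xb10 yb50 zb0) (kb xb28 yb56 zb50) (kb xb28 yb56 zb51) (kb xb23 yb9 zb47) (kb xb25 yb28 zb50) (kb xb28 yb56 zb54) (kb xb10 yb50 zb32) (kb xb10 yb50 zb4) (kb xb28 yb56 zb57) (kb xb16 yb11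 zb6) (kb xb10 yb50 zb7) (kb xb28 yb51 zb36) (kb xb25 yb53 zb42) (kb xb28 yb56 zb60) (kb xb10 yb50 zb8) (kb xb15 yb51 zb23) (kb xb28 yb57 zb1) (kb xb28 yb57 zb2) (kb xb10 yb51 zb18) (kb xb10 yb51 zb19) (kb xb28 yb57 zb6) (kb xb22 yb23 zb5) (kb xb10 yb50 zb12) (kb xb28 yb57 zb12) (kb xb28 yb57 zb15) (kb xb10 yb50 zb14) (kb xb28 yb57 zb20) (kb xb25 yb35 zb30) (kb xb28 yb57 zb10) (kb xb28 yb57 zb11) (kb xb15 yb22 zb8) (kb xb28 yb57 zb25) (kb xb28 yb57 zb30) (kb xb14 yb24 zb21) (kb xb10 yb50 zb16) (kb xb28 yb57 zb33) (kb xb15 yb46 zb36) (kb xb15 yb37 zb50) (kb xb10 yb50 zb19) (kb xb10 yb50 zb20) (kb xb28 yb57 zb36) (kb xb28 yb33 zb18) (kb xb25 yb54 zb56) (kb xb28 yb57 zb40) (kb xb15 yb35 zb25) (kb xb16 yb8 zb56) (kb xb15 yb43 zb6) (kb xb26 yb16 zb54) (kb xb15 yb35 zb20)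 (kb xb10 yb50 zb26) (kb xb11 yb9 zb34) (kb xb10 yb50 zb30) (kb xb21 yb42 zb25) (kb xb28 yb57 zb45) (kb xb21 yb42 zb21) (kb xb10 yb50 zb31) (kb xb14 yb57 zb8) (kb xb28 yb57 zb48) (kb xb12 yb12 zb61) (kb xb28 yb56 zb55) (kb xb27 yb20 zb57) (kb xb17 yb22 zb13)) (@D3.rec (fun _ => Pt) (kb xb10 yb50 zb34) (kb xb10 yb50 zb35) (kb xb26 yb41 zb54) (kb xb28 yb27 zb57) (kb xb14 yb34 zb28) (kb xb10 yb50 zb36) (kb xb28 yb58 zb1) (kb xb15 yb28 zb26) (kb xb10 yb50 zb41) (kb xb17 yb39 zb40) (kb xb25 yb19 zb38) (kb xb10 yb50 zb43) (kb xb17 yb53 zb33) (kb xb23 yb33 zb16) (kb xb10 yb50 zb44) (kb xb15 yb22 zb10) (kb xb23 yb56 zb50) (kb xb26 yb41 zb43) (kb xb26 yb41 zb44) (kb xb16 yb28 zb51) (kb xb28 yb50 zb38) (kb xb16 yb27 zb43) (kb xb28 yb58 zb6) (kb xb28 yb58 zb9) (kb xb10 yb50 zb48)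 (kb xb10 yb50 zb49) (kb xb14 yb32 zb51) (kb xb10 yb50 zb50) (kb xb26 yb41 zb3) (kb xb28 yb58 zb16) (kb xb11 yb28 zb20) (kb xb26 yb41 zb31) (kb xb26 yb41 zb32) (kb xb25 yb29 zb19) (kb xb17 yb27 zb31) (kb xb26 yb42 zb29) (kb xb10 yb50 zb57) (kb xb10 yb50 zb55) (kb xb28 yb58 zb26) (kb xb14 yb33 zb38) (kb xb10 yb50 zb56) (kb xb10 yb50 zb58) (kb xb27 yb46 zb60) (kb xb10 yb50 zb60) (kb xb26 yb4 zb41) (kb xb20 yb42 zb36) (kb xb10 yb50 zb61) (kb xb16 yb37 zb13) (kb xb25 yb55 zb55) (kb xb28 yb58 zb32) (kb xb19 yb45 zb38) (kb xb15 yb21 zb21) (kb xb25 yb57 zb3) (kb xb22 yb16 zb29) (kb xb10 yb51 zb5) (kb xb14 yb47 zb49) (kb xb10 yb51 zb6) (kb xb16 yb50 zb16) (kb xb28 yb58 zb36) (kb xb19 yb45 zb36) (kb xb12 yb52 zb23) (kb xb28 yb58 zb40)) (@D3.rec (fun _ => Pt) (kb xb28 yb58 zb43)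 (kb xb10 yb51 zb10) (kb xb27 yb36 zb14) (kb xb26 yb42 zb0) (kb xb19 yb58 zb26) (kb xb10 yb51 zb13) (kb xb10 yb51 zb14) (kb xb19 yb49 zb57) (kb xb26 yb46 zb50) (kb xb28 yb29 zb35) (kb xb28 yb58 zb50) (kb xb24 yb41 zb42) (kb xb28 yb56 zb59) (kb xb26 yb41 zb58) (kb xb10 yb51 zb16) (kb xb10 yb51 zb17) (kb xb28 yb58 zb60) (kb xb28 yb57 zb3) (kb xb12 yb52 zb27) (kb xb28 yb58 zb59) (kb xb28 yb50 zb5) (kb xb28 yb57 zb4) (kb xb28 yb59 zb5) (kb xb28 yb57 zb5) (kb xb14 yb17 zb56) (kb xb10 yb51 zb20) (kb xb19 yb9 zb4) (kb xb22 yb54 zb45) (kb xb10 yb51 zb21) (kb xb28 yb59 zb11) (kb xb22 yb54 zb54) (kb xb11 yb37 zb59) (kb xb25 yb35 zb47) (kb xb24 yb18 zb54) (kb xb24 yb13 zb39) (kb xb28 yb59 zb13) (kb xb28 yb59 zb16) (kb xb10 yb51 zb35) (kb xb10 yb51 zb24) (kb xb25 yb14 zb4) (kb xb25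 yb50 zb11) (kb xb10 yb51 zb25) (kb xb21 yb21 zb5) (kb xb25 yb51 zb7) (kb xb12 yb43 zb11) (kb xb10 yb51 zb45) (kb xb11 yb59 zb36) (kb xb10 yb51 zb29) (kb xb22 yb54 zb50) (kb xb18 yb51 zb30) (kb xb18 yb52 zb10) (kb xb10 yb51 zb31) (kb xb18 yb52 zb41) (kb xb16 yb29 zb8) (kb xb10 yb51 zb32) (kb xb28 yb59 zb25) (kb xb28 yb59 zb24) (kb xb25 yb24 zb15) (kb xb10 yb51 zb33) (kb xb28 yb59 zb28) (kb xb15 yb9 zb0) (kb xb26 yb44 zb36)) (@D3.rec (fun _ => Pt) (kb xb26 yb54 zb0) (kb xb10 yb59 zb26) (kb xb28 yb59 zb19) (kb xb10 yb51 zb39) (kb xb28 yb59 zb36) (kb xb11 yb10 zb19) (kb xb25 yb22 zb36) (kb xb11 yb10 zb30) (kb xb10 yb51 zb42) (kb xb28 yb59 zb44) (kb xb22 yb2 zb24) (kb xb10 yb51 zb43) (kb xb28 yb59 zb46) (kb xb20 yb3 zb50) (kb xb25 yb3 zb14) (kb xb24 yb19 zb15) (kb xb28 yb59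 zb51) (kb xb10 yb51 zb44) (kb xb19 yb59 zb28) (kb xb25 yb22 zb42) (kb xb20 yb43 zb40) (kb xb10 yb51 zb46) (kb xb28 yb59 zb56) (kb xb11 yb9 zb22) (kb xb28 yb1 zb27) (kb xb10 yb51 zb48) (kb xb10 yb51 zb49) (kb xb28 yb59 zb60) (kb xb25 yb15 zb1) (kb xb28 yb59 zb61) (kb xb11 yb8 zb59) (kb xb15 yb20 zb59) (kb xb17 yb58 zb58) (kb xb25 yb33 zb51) (kb xb10 yb51 zb51) (kb xb27 yb12 zb7) (kb xb24 yb12 zb8) (kb xb10 yb51 zb52) (kb xb15 yb53 zb46) (kb xb24 yb11 zb27) (kb xb10 yb51 zb55) (kb xb29 yb0 zb6) (kb xb29 yb0 zb7) (kb xb10 yb51 zb57) (kb xb29 yb0 zb11) (kb xb10 yb51 zb58) (kb xb19 yb26 zb46) (kb xb15 yb53 zb7) (kb xb29 yb0 zb12) (kb xb25 yb8 zb50) (kb xb16 yb15 zb5) (kb xb29 yb0 zb16) (kb xb25 yb47 zb18) (kb xb10 yb52 zb1) (kb xb10 yb52 zb2) (kb xb10 yb52 zb3) (kb xb25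 yb54 zb57) (kb xb19 yb41 zb50) (kb xb10 yb52 zb6) (kb xb23 yb10 zb39) (kb xb26 yb54 zb55) (kb xb17 yb25 zb13)) (@D3.rec (fun _ => Pt) (kb xb11 yb19 zb18) (kb xb26 yb43 zb49) (kb xb19 yb20 zb59) (kb xb22 yb6 zb16) (kb xb16 yb41 zb20) (kb xb10 yb52 zb17) (kb xb17 yb34 zb27) (kb xb28 yb55 zb53) (kb xb10 yb52 zb18) (kb xb10 yb52 zb11) (kb xb25 yb25 zb15) (kb xb18 yb51 zb16) (kb xb24 yb11 zb29) (kb xb19 yb15 zb9) (kb xb10 yb52 zb14) (kb xb10 yb52 zb15) (kb xb19 yb34 zb48) (kb xb29 yb0 zb22) (kb xb26 yb41 zb46) (kb xb29 yb0 zb24) (kb xb19 yb43 zb61) (kb xb10 yb52 zb16) (kb xb16 yb28 zb34) (kb xb16 yb31 zb26) (kb xb19 yb56 zb4) (kb xb10 yb52 zb21) (kb xb18 yb53 zb29) (kb xb29 yb0 zb29) (kb xb29 yb0 zb33) (kb xb11 yb12 zb11) (kb xb10 yb52 zb30) (kb xb10 yb52 zb31) (kb xb10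 yb52 zb25) (kb xb10 yb52 zb26) (kb xb15 yb37 zb61) (kb xb27 yb29 zb22) (kb xb17 yb27 zb29) (kb xb25 yb27 zb11) (kb xb28 yb58 zb24) (kb xb10 yb52 zb27) (kb xb23 yb7 zb58) (kb xb23 yb16 zb45) (kb xb19 yb20 zb61) (kb xb17 yb12 zb28) (kb xb24 yb36 zb22) (kb xb19 yb25 zb46) (kb xb15 yb4 zb31) (kb xb10 yb52 zb32) (kb xb29 yb0 zb38) (kb xb20 yb30 zb0) (kb xb25 yb15 zb2) (kb xb26 yb2 zb61) (kb xb21 yb51 zb57) (kb xb17 yb58 zb33) (kb xb11 yb27 zb39) (kb xb10 yb52 zb39) (kb xb16 yb28 zb32) (kb xb12 yb45 zb46) (kb xb27 yb0 zb46) (kb xb10 yb52 zb42) (kb xb13 yb42 zb25) (kb xb24 yb54 zb13)) (@D3.rec (fun _ => Pt) (kb xb24 yb54 zb14) (kb xb16 yb34 zb38) (kb xb20 yb33 zb31) (kb xb11 yb20 zb54) (kb xb11 yb20 zb57) (kb xb10 yb53 zb0) (kb xb20 yb28 zb16) (kb xb11 yb9 zb24) (kb xb10 yb52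 zb49) (kb xb10 yb52 zb50) (kb xb29 yb0 zb45) (kb xb26 yb44 zb10) (kb xb10 yb52 zb61) (kb xb29 yb0 zb47) (kb xb29 yb0 zb48) (kb xb10 yb52 zb52) (kb xb14 yb51 zb9) (kb xb29 yb0 zb50) (kb xb10 yb52 zb54) (kb xb29 yb0 zb51) (kb xb26 yb35 zb38) (kb xb20 yb29 zb4) (kb xb15 yb18 zb48) (kb xb28 yb59 zb21) (kb xb10 yb52 zb56) (kb xb10 yb52 zb60) (kb xb25 yb41 zb34) (kb xb29 yb0 zb56) (kb xb25 yb38 zb17) (kb xb29 yb0 zb44) (kb xb21 yb20 zb22) (kb xb10 yb53 zb4) (kb xb12 yb45 zb55) (kb xb20 yb29 zb56) (kb xb12 yb54 zb20) (kb xb29 yb0 zb57) (kb xb11 yb1 zb30) (kb xb14 yb52 zb34) (kb xb10 yb53 zb9) (kb xb10 yb53 zb10) (kb xb10 yb53 zb11) (kb xb16 yb42 zb19) (kb xb20 yb55 zb45) (kb xb19 yb41 zb22) (kb xb11 yb54 zb19) (kb xb16 yb39 zb8) (kb xb26 yb37 zb25) (kb xb27 yb21 zb47) (kb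 xb10 yb53 zb18) (kb xb21 yb58 zb4) (kb xb28 yb31 zb23) (kb xb10 yb53 zb25) (kb xb25 yb25 zb16) (kb xb29 yb1 zb2) (kb xb10 yb53 zb26) (kb xb18 yb51 zb2) (kb xb10 yb53 zb48) (kb xb10 yb53 zb49) (kb xb29 yb1 zb4) (kb xb26 yb25 zb47) (kb xb10 yb53 zb30) (kb xb29 yb1 zb6)) (@D3.rec (fun _ => Pt) (kb xb10 yb53 zb33) (kb xb10 yb53 zb34) (kb xb19 yb9 zb51) (kb xb10 yb53 zb31) (kb xb19 yb20 zb40) (kb xb19 yb52 zb13) (kb xb10 yb53 zb35) (kb xb28 yb46 zb8) (kb xb28 yb37 zb59) (kb xb10 yb53 zb37) (kb xb29 yb1 zb8) (kb xb10 yb53 zb39) (kb xb29 yb1 zb9) (kb xb10 yb53 zb40) (kb xb28 yb0 zb19) (kb xb29 yb1 zb12) (kb xb15 yb45 zb23) (kb xb29 yb1 zb14) (kb xb29 yb1 zb16) (kb xb10 yb53 zb43) (kb xb29 yb1 zb17) (kb xb27 yb10 zb48) (kb xb19 yb40 zb43) (kb xb25 yb47 zb49) (kb xb26 yb44 zb59)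 (kb xb10 yb53 zb46) (kb xb24 yb27 zb32) (kb xb29 yb1 zb22) (kb xb16 yb39 zb53) (kb xb17 yb51 zb16) (kb xb22 yb58 zb57) (kb xb29 yb1 zb25) (kb xb22 yb21 zb53) (kb xb14 yb24 zb35) (kb xb10 yb53 zb50) (kb xb15 yb46 zb42) (kb xb29 yb1 zb26) (kb xb10 yb53 zb51) (kb xb22 yb33 zb58) (kb xb29 yb1 zb33) (kb xb29 yb1 zb40) (kb xb22 yb49 zb24) (kb xb25 yb57 zb38) (kb xb22 yb36 zb38) (kb xb10 yb54 zb2) (kb xb10 yb53 zb55) (kb xb29 yb1 zb49) (kb xb23 yb24 zb1) (kb xb29 yb1 zb51) (kb xb19 yb30 zb12) (kb xb19 yb38 zb57) (kb xb10 yb53 zb59) (kb xb22 yb56 zb20) (kb xb24 yb6 zb31) (kb xb23 yb52 zb47) (kb xb29 yb1 zb58) (kb xb19 yb29 zb52) (kb xb25 yb58 zb32) (kb xb10 yb53 zb61) (kb xb29 yb1 zb36) (kb xb29 yb2 zb3) (kb xb29 yb2 zb4)) (@D3.rec (fun _ => Pt) (kb xb10 yb54 zb0) (kb xb29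 yb1 zb46) (kb xb10 yb54 zb6) (kb xb20 yb8 zb24) (kb xb22 yb21 zb51) (kb xb19 yb21 zb60) (kb xb10 yb54 zb9) (kb xb29 yb2 zb15) (kb xb29 yb2 zb16) (kb xb10 yb54 zb12) (kb xb22 yb15 zb18) (kb xb10 yb54 zb14) (kb xb28 yb41 zb54) (kb xb28 yb14 zb25) (kb xb10 yb54 zb16) (kb xb18 yb28 zb35) (kb xb10 yb54 zb20) (kb xb15 yb1 zb54) (kb xb29 yb2 zb19) (kb xb29 yb2 zb22) (kb xb15 yb14 zb9) (kb xb21 yb15 zb33) (kb xb28 yb31 zb29) (kb xb10 yb54 zb24) (kb xb10 yb54 zb25) (kb xb29 yb2 zb27) (kb xb29 yb2 zb28) (kb xb10 yb54 zb26) (kb xb29 yb2 zb30) (kb xb29 yb2 zb31) (kb xb19 yb20 zb7) (kb xb15 yb2 zb20) (kb xb26 yb40 zb6) (kb xb10 yb54 zb34) (kb xb10 yb54 zb35) (kb xb15 yb56 zb10) (kb xb21 yb3 zb55) (kb xb21 yb54 zb33) (kb xb28 yb18 zb1) (kb xb10 yb54 zb36) (kb xb28 yb31 zb37) (kb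 xb27 yb4 zb14) (kb xb27 yb22 zb55) (kb xb28 yb14 zb28) (kb xb19 yb5 zb54) (kb xb15 yb3 zb6) (kb xb29 yb2 zb41) (kb xb29 yb2 zb44) (kb xb15 yb3 zb9) (kb xb10 yb54 zb41) (kb xb29 yb2 zb47) (kb xb27 yb43 zb53) (kb xb10 yb54 zb42) (kb xb29 yb2 zb50) (kb xb12 yb49 zb42) (kb xb29 yb2 zb51) (kb xb10 yb54 zb44) (kb xb10 yb54 zb46) (kb xb19 yb29 zb28) (kb xb26 yb42 zb42) (kb xb29 yb2 zb52) (kb xb26 yb42 zb46)) (@D3.rec (fun _ => Pt) (kb xb12 yb24 zb54) (kb xb10 yb54 zb56) (kb xb20 yb55 zb60) (kb xb10 yb54 zb58) (kb xb28 yb27 zb19) (kb xb10 yb54 zb59) (kb xb29 yb2 zb57) (kb xb29 yb2 zb58) (kb xb29 yb2 zb60) (kb xb12 yb29 zb58) (kb xb17 yb55 zb27) (kb xb10 yb54 zb61) (kb xb26 yb39 zb25) (kb xb28 yb30 zb23) (kb xb27 yb41 zb18) (kb xb19 yb33 zb53) (kb xb23 yb0 zb23) (kb xb10 yb55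 zb4) (kb xb28 yb50 zb23) (kb xb13 yb27 zb3) (kb xb12 yb29 zb56) (kb xb11 yb49 zb61) (kb xb17 yb53 zb35) (kb xb21 yb54 zb47) (kb xb10 yb55 zb8) (kb xb10 yb55 zb7) (kb xb29 yb3 zb4) (kb xb21 yb54 zb46) (kb xb10 yb55 zb24) (kb xb21 yb37 zb51) (kb xb21 yb54 zb31) (kb xb10 yb55 zb9) (kb xb10 yb58 zb45) (kb xb29 yb3 zb7) (kb xb11 yb49 zb56) (kb xb10 yb55 zb10) (kb xb28 yb21 zb46) (kb xb18 yb46 zb15) (kb xb24 yb12 zb53) (kb xb11 yb16 zb6) (kb xb11 yb16 zb9) (kb xb29 yb3 zb12) (kb xb10 yb55 zb14) (kb xb27 yb11 zb53) (kb xb26 yb51 zb31) (kb xb10 yb55 zb30) (kb xb27 yb41 zb16) (kb xb10 yb55 zb19) (kb xb10 yb55 zb18) (kb xb29 yb3 zb13) (kb xb10 yb55 zb20) (kb xb11 yb24 zb32) (kb xb13 yb57 zb30) (kb xb24 yb24 zb14) (kb xb11 yb6 zb39) (kb xb10 yb55 zb25) (kb xb10 yb55 zb29) (kb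 xb16 yb51 zb52) (kb xb29 yb3 zb16) (kb xb26 yb50 zb9) (kb xb29 yb2 zb24) (kb xb19 yb39 zb20)) (@D3.rec (fun _ => Pt) (kb xb10 yb55 zb34) (kb xb10 yb55 zb39) (kb xb17 yb48 zb50) (kb xb28 yb50 zb42) (kb xb29 yb3 zb18) (kb xb26 yb18 zb22) (kb xb22 yb50 zb61) (kb xb10 yb55 zb43) (kb xb16 yb55 zb19) (kb xb17 yb7 zb3) (kb xb21 yb36 zb54) (kb xb10 yb55 zb48) (kb xb24 yb5 zb5) (kb xb10 yb55 zb49) (kb xb28 yb14 zb4) (kb xb11 yb5 zb9) (kb xb10 yb55 zb54) (kb xb10 yb55 zb52) (kb xb10 yb55 zb53) (kb xb21 yb43 zb7) (kb xb19 yb19 zb38) (kb xb10 yb55 zb56) (kb xb15 yb51 zb34) (kb xb21 yb23 zb60) (kb xb10 yb56 zb16) (kb xb10 yb56 zb17) (kb xb15 yb59 zb49) (kb xb29 yb3 zb29) (kb xb25 yb27 zb56) (kb xb10 yb55 zb60) (kb xb14 yb53 zb8) (kb xb29 yb3 zb33) (kb xb10 yb56 zb1) (kb xb10 yb56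 zb2) (kb xb29 yb3 zb37) (kb xb26 yb45 zb10) (kb xb29 yb3 zb31) (kb xb29 yb3 zb32) (kb xb10 yb55 zb61) (kb xb29 yb3 zb41) (kb xb10 yb56 zb0) (kb xb21 yb21 zb11) (kb xb29 yb3 zb44) (kb xb23 yb41 zb42) (kb xb29 yb3 zb48) (kb xb29 yb3 zb36) (kb xb10 yb56 zb3) (kb xb29 yb3 zb50) (kb xb10 yb56 zb4) (kb xb29 yb3 zb52) (kb xb25 yb12 zb10) (kb xb25 yb12 zb11) (kb xb25 yb12 zb12) (kb xb16 yb36 zb50) (kb xb24 yb16 zb45) (kb xb10 yb56 zb8) (kb xb23 yb43 zb20) (kb xb29 yb3 zb58) (kb xb10 yb56 zb9) (kb xb16 yb4 zb2) (kb xb18 yb52 zb57) (kb xb29 yb3 zb60)) (@D3.rec (fun _ => Pt) (kb xb29 yb4 zb0) (kb xb10 yb56 zb12) (kb xb14 yb33 zb32) (kb xb29 yb4 zb1) (kb xb25 yb10 zb7) (kb xb27 yb37 zb34) (kb xb22 yb54 zb48) (kb xb10 yb59 zb38) (kb xb10 yb56 zb15) (kb xb28 yb56 zb49) (kb xb25 yb24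 zb23) (kb xb29 yb4 zb6) (kb xb29 yb3 zb26) (kb xb24 yb16 zb31) (kb xb29 yb4 zb9) (kb xb29 yb3 zb28) (kb xb10 yb56 zb18) (kb xb25 yb48 zb0) (kb xb10 yb56 zb19) (kb xb24 yb7 zb60) (kb xb29 yb4 zb13) (kb xb29 yb4 zb17) (kb xb16 yb1 zb47) (kb xb29 yb4 zb18) (kb xb13 yb33 zb51) (kb xb10 yb56 zb31) (kb xb10 yb56 zb22) (kb xb29 yb4 zb27) (kb xb29 yb4 zb28) (kb xb10 yb56 zb23) (kb xb29 yb4 zb31) (kb xb22 yb2 zb17) (kb xb29 yb4 zb35) (kb xb29 yb4 zb36) (kb xb16 yb4 zb17) (kb xb10 yb56 zb44) (kb xb19 yb36 zb59) (kb xb25 yb29 zb34) (kb xb19 yb36 zb50) (kb xb10 yb56 zb28) (kb xb10 yb56 zb29) (kb xb29 yb4 zb42) (kb xb29 yb3 zb43) (kb xb17 yb12 zb8) (kb xb10 yb56 zb30) (kb xb22 yb52 zb36) (kb xb29 yb4 zb45) (kb xb15 yb5 zb44) (kb xb26 yb1 zb6) (kb xb29 yb4 zb46) (kb xb29 yb4 zb49)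 (kb xb23 yb1 zb38) (kb xb24 yb16 zb32) (kb xb29 yb3 zb40) (kb xb10 yb56 zb35) (kb xb10 yb56 zb36) (kb xb25 yb47 zb27) (kb xb25 yb36 zb21) (kb xb29 yb4 zb58) (kb xb29 yb4 zb24) (kb xb22 yb2 zb23) (kb xb10 yb56 zb39)) (@D3.rec (fun _ => Pt) (kb xb10 yb56 zb40) (kb xb29 yb5 zb5) (kb xb29 yb5 zb4) (kb xb10 yb56 zb41) (kb xb28 yb59 zb27) (kb xb10 yb56 zb42) (kb xb29 yb5 zb10) (kb xb29 yb5 zb9) (kb xb29 yb5 zb12) (kb xb29 yb5 zb14) (kb xb10 yb56 zb43) (kb xb28 yb37 zb28) (kb xb25 yb40 zb20) (kb xb29 yb4 zb38) (kb xb10 yb56 zb45) (kb xb23 yb39 zb38) (kb xb25 yb10 zb54) (kb xb28 yb56 zb40) (kb xb10 yb56 zb47) (kb xb10 yb56 zb48) (kb xb29 yb5 zb25) (kb xb14 yb34 zb33) (kb xb25 yb40 zb1) (kb xb21 yb43 zb21) (kb xb29 yb5 zb28) (kb xb21 yb43 zb12) (kb xb20 yb42 zb28) (kb xb25 yb5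 zb23) (kb xb10 yb56 zb50) (kb xb10 yb56 zb51) (kb xb29 yb5 zb34) (kb xb27 yb17 zb0) (kb xb19 yb33 zb56) (kb xb20 yb37 zb61) (kb xb10 yb56 zb55) (kb xb29 yb5 zb35) (kb xb29 yb5 zb36) (kb xb18 yb51 zb12) (kb xb18 yb51 zb13) (kb xb25 yb5 zb17) (kb xb17 yb32 zb52) (kb xb25 yb26 zb34) (kb xb19 yb34 zb59) (kb xb17 yb32 zb53) (kb xb26 yb3 zb0) (kb xb12 yb49 zb25) (kb xb10 yb57 zb2) (kb xb22 yb44 zb40) (kb xb10 yb57 zb5) (kb xb29 yb5 zb39) (kb xb17 yb53 zb19) (kb xb10 yb57 zb8) (kb xb18 yb19 zb44) (kb xb26 yb26 zb14) (kb xb10 yb57 zb7) (kb xb22 yb52 zb43) (kb xb23 yb20 zb53) (kb xb19 yb33 zb44) (kb xb27 yb11 zb52) (kb xb10 yb57 zb10) (kb xb26 yb30 zb61) (kb xb10 yb57 zb11)) (@D3.rec (fun _ => Pt) (kb xb18 yb2 zb37) (kb xb26 yb22 zb43) (kb xb10 yb57 zb15) (kb xb24 yb22 zb4)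 (kb xb12 yb25 zb2) (kb xb19 yb51 zb44) (kb xb24 yb22 zb15) (kb xb10 yb57 zb19) (kb xb29 yb5 zb43) (kb xb10 yb57 zb17) (kb xb29 yb5 zb44) (kb xb20 yb3 zb30) (kb xb10 yb57 zb22) (kb xb10 yb57 zb23) (kb xb13 yb24 zb54) (kb xb24 yb16 zb21) (kb xb20 yb0 zb18) (kb xb29 yb2 zb38) (kb xb23 yb58 zb19) (kb xb17 yb53 zb16) (kb xb20 yb38 zb19) (kb xb19 yb52 zb50) (kb xb10 yb57 zb31) (kb xb29 yb5 zb54) (kb xb28 yb39 zb51) (kb xb10 yb59 zb40) (kb xb10 yb57 zb41) (kb xb10 yb57 zb43) (kb xb10 yb57 zb35) (kb xb24 yb22 zb21) (kb xb19 yb55 zb3) (kb xb26 yb1 zb57) (kb xb18 yb2 zb45) (kb xb10 yb57 zb38) (kb xb10 yb57 zb39) (kb xb29 yb5 zb56) (kb xb26 yb47 zb4) (kb xb20 yb30 zb55) (kb xb18 yb19 zb14) (kb xb29 yb5 zb58) (kb xb26 yb47 zb7) (kb xb14 yb36 zb46) (kb xb12 yb33 zb54) (kb xb10 yb57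 zb40) (kb xb29 yb6 zb2) (kb xb29 yb6 zb3) (kb xb18 yb25 zb53) (kb xb17 yb19 zb13) (kb xb10 yb57 zb45) (kb xb27 yb5 zb21) (kb xb28 yb4 zb10) (kb xb26 yb52 zb48) (kb xb10 yb57 zb49) (kb xb10 yb57 zb50) (kb xb11 yb7 zb25) (kb xb14 yb56 zb22) (kb xb26 yb1 zb8) (kb xb14 yb38 zb48) (kb xb14 yb56 zb23) (kb xb23 yb1 zb49) (kb xb10 yb57 zb51) (kb xb11 yb1 zb34)) (@D3.rec (fun _ => Pt) (kb xb28 yb24 zb59) (kb xb28 yb47 zb50) (kb xb29 yb1 zb48) (kb xb20 yb30 zb32) (kb xb11 yb6 zb56) (kb xb29 yb3 zb10) (kb xb19 yb20 zb57) (kb xb29 yb6 zb15) (kb xb24 yb21 zb5) (kb xb29 yb6 zb19) (kb xb19 yb53 zb51) (kb xb20 yb32 zb19) (kb xb16 yb13 zb21) (kb xb10 yb57 zb61) (kb xb13 yb49 zb16) (kb xb29 yb6 zb22) (kb xb10 yb58 zb0) (kb xb28 yb13 zb50) (kb xb29 yb6 zb24) (kb xb20 yb30 zb58) (kb xb15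 yb9 zb54) (kb xb10 yb58 zb1) (kb xb11 yb1 zb38) (kb xb13 yb59 zb13) (kb xb27 yb4 zb43) (kb xb18 yb18 zb6) (kb xb24 yb52 zb23) (kb xb24 yb52 zb24) (kb xb10 yb58 zb3) (kb xb12 yb5 zb41) (kb xb15 yb43 zb12) (kb xb12 yb31 zb48) (kb xb15 yb42 zb12) (kb xb28 yb31 zb27) (kb xb25 yb32 zb39) (kb xb19 yb5 zb38) (kb xb10 yb58 zb9) (kb xb26 yb55 zb21) (kb xb10 yb58 zb8) (kb xb17 yb18 zb36) (kb xb20 yb9 zb58) (kb xb11 yb16 zb24) (kb xb10 yb58 zb13) (kb xb29 yb6 zb36) (kb xb11 yb18 zb38) (kb xb12 yb28 zb57) (kb xb12 yb47 zb26) (kb xb11 yb12 zb39) (kb xb10 yb58 zb16) (kb xb10 yb58 zb20) (kb xb10 yb58 zb21) (kb xb24 yb34 zb28) (kb xb11 yb32 zb52) (kb xb25 yb52 zb4) (kb xb23 yb0 zb45) (kb xb19 yb34 zb29) (kb xb20 yb22 zb23) (kb xb11 yb14 zb32) (kb xb21 yb30 zb39) (kb xb27 yb21 zb11)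 (kb xb10 yb58 zb35) (kb xb10 yb58 zb36)) (@D3.rec (fun _ => Pt) (kb xb10 yb58 zb34) (kb xb23 yb30 zb44) (kb xb19 yb59 zb4) (kb xb11 yb16 zb25) (kb xb10 yb58 zb38) (kb xb17 yb53 zb20) (kb xb22 yb4 zb6) (kb xb17 yb53 zb36) (kb xb10 yb58 zb47) (kb xb20 yb4 zb21) (kb xb29 yb6 zb44) (kb xb15 yb50 zb4) (kb xb15 yb54 zb32) (kb xb15 yb9 zb11) (kb xb10 yb58 zb50) (kb xb29 yb6 zb47) (kb xb14 yb59 zb41) (kb xb14 yb59 zb42) (kb xb11 yb0 zb27) (kb xb17 yb32 zb49) (kb xb10 yb58 zb55) (kb xb29 yb6 zb51) (kb xb29 yb6 zb52) (kb xb23 yb34 zb40) (kb xb10 yb59 zb0) (kb xb20 yb53 zb10) (kb xb10 yb58 zb60) (kb xb16 yb2 zb24) (kb xb25 yb50 zb54) (kb xb27 yb19 zb47) (kb xb15 yb58 zb7) (kb xb24 yb54 zb11) (kb xb25 yb11 zb60) (kb xb25 yb37 zb51) (kb xb29 yb6 zb56) (kb xb25 yb12 zb40) (kb xb20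 yb43 zb43) (kb xb10 yb59 zb3) (kb xb11 yb3 zb48) (kb xb29 yb4 zb30) (kb xb24 yb58 zb39) (kb xb25 yb10 zb9) (kb xb10 yb59 zb7) (kb xb29 yb6 zb60) (kb xb10 yb59 zb8) (kb xb28 yb24 zb1) (kb xb29 yb6 zb61) (kb xb10 yb59 zb9) (kb xb28 yb23 zb45) (kb xb29 yb7 zb3) (kb xb15 yb46 zb43) (kb xb29 yb7 zb5) (kb xb15 yb54 zb13) (kb xb26 yb45 zb51) (kb xb16 yb32 zb59) (kb xb11 yb16 zb13) (kb xb21 yb37 zb26) (kb xb19 yb37 zb7) (kb xb29 yb7 zb6) (kb xb10 yb59 zb17) (kb xb10 yb59 zb16) (kb xb15 yb13 zb46)) (@D3.rec (fun _ => Pt) (kb xb10 yb59 zb18) (kb xb24 yb31 zb30) (kb xb24 yb47 zb10) (kb xb24 yb31 zb26) (kb xb11 yb11 zb47) (kb xb12 yb6 zb19) (kb xb26 yb25 zb20) (kb xb11 yb11 zb48) (kb xb10 yb59 zb24) (kb xb29 yb7 zb10) (kb xb10 yb59 zb23) (kb xb11 yb10 zb16) (kb xb20 yb17 zb50)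 (kb xb28 yb59 zb32) (kb xb27 yb24 zb5) (kb xb19 yb21 zb24) (kb xb28 yb41 zb40) (kb xb29 yb7 zb14) (kb xb28 yb15 zb51) (kb xb14 yb21 zb21) (kb xb14 yb33 zb61) (kb xb19 yb20 zb60) (kb xb24 yb39 zb55) (kb xb28 yb14 zb19) (kb xb13 yb52 zb50) (kb xb17 yb7 zb40) (kb xb20 yb32 zb60) (kb xb17 yb8 zb45) (kb xb10 yb59 zb44) (kb xb15 yb24 zb41) (kb xb19 yb32 zb58) (kb xb16 yb39 zb12) (kb xb24 yb51 zb31) (kb xb17 yb55 zb19) (kb xb20 yb17 zb46) (kb xb26 yb2 zb55) (kb xb14 yb8 zb30) (kb xb11 yb0 zb20) (kb xb29 yb7 zb22) (kb xb29 yb7 zb23) (kb xb19 yb59 zb61) (kb xb14 yb50 zb33) (kb xb16 yb28 zb53) (kb xb11 yb0 zb24) (kb xb10 yb59 zb55) (kb xb16 yb18 zb15) (kb xb14 yb33 zb0) (kb xb13 yb4 zb23) (kb xb27 yb23 zb20) (kb xb25 yb30 zb52) (kb xb19 yb12 zb21) (kb xb16 yb55 zb20) (kb xb27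 yb2 zb38) (kb xb11 yb0 zb8) (kb xb11 yb0 zb9) (kb xb11 yb0 zb10) (kb xb11 yb0 zb1) (kb xb14 yb35 zb10) (kb xb29 yb7 zb30) (kb xb18 yb45 zb45) (kb xb19 yb15 zb21) (kb xb11 yb0 zb3)) (@D3.rec (fun _ => Pt) (kb xb29 yb7 zb38) (kb xb28 yb7 zb39) (kb xb18 yb26 zb59) (kb xb12 yb54 zb21) (kb xb21 yb9 zb8) (kb xb11 yb0 zb6) (kb xb14 yb36 zb51) (kb xb22 yb36 zb60) (kb xb14 yb38 zb53) (kb xb19 yb51 zb24) (kb xb27 yb14 zb9) (kb xb14 yb5 zb60) (kb xb11 yb0 zb11) (kb xb28 yb32 zb29) (kb xb17 yb19 zb58) (kb xb12 yb10 zb17) (kb xb23 yb46 zb27) (kb xb11 yb0 zb13) (kb xb29 yb7 zb45) (kb xb16 yb24 zb41) (kb xb26 yb50 zb25) (kb xb26 yb23 zb36) (kb xb20 yb59 zb34) (kb xb19 yb59 zb3) (kb xb19 yb51 zb9) (kb xb28 yb12 zb31) (kb xb18 yb44 zb26) (kb xb16 yb57 zb24) (kb xb20 yb41 zb38) (kb xb17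 yb51 zb8) (kb xb11 yb0 zb30) (kb xb11 yb0 zb31) (kb xb29 yb7 zb53) (kb xb29 yb1 zb10) (kb xb25 yb47 zb32) (kb xb25 yb50 zb45) (kb xb29 yb7 zb52) (kb xb24 yb28 zb38) (kb xb27 yb8 zb49) (kb xb11 yb29 zb11) (kb xb28 yb12 zb49) (kb xb11 yb0 zb41) (kb xb11 yb0 zb40) (kb xb29 yb8 zb0) (kb xb19 yb47 zb5) (kb xb14 yb21 zb18) (kb xb26 yb29 zb24) (kb xb21 yb51 zb35) (kb xb20 yb35 zb21) (kb xb11 yb0 zb53) (kb xb11 yb0 zb54) (kb xb29 yb8 zb1) (kb xb29 yb8 zb7) (kb xb29 yb8 zb2) (kb xb25 yb31 zb13) (kb xb18 yb47 zb55) (kb xb11 yb0 zb56) (kb xb29 yb8 zb12) (kb xb13 yb39 zb11) (kb xb26 yb51 zb9) (kb xb11 yb1 zb0) (kb xb26 yb23 zb38)) (@D3.rec (fun _ => Pt) (kb xb26 yb51 zb11) (kb xb14 yb13 zb60) (kb xb11 yb1 zb3) (kb xb27 yb19 zb18) (kb xb22 yb37 zb7) (kb xb11 yb58 zb47) (kb xb17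 yb22 zb36) (kb xb11 yb1 zb6) (kb xb29 yb8 zb21) (kb xb14 yb20 zb22) (kb xb26 yb52 zb41) (kb xb11 yb1 zb10) (kb xb23 yb58 zb15) (kb xb19 yb41 zb5) (kb xb29 yb8 zb28) (kb xb29 yb8 zb30) (kb xb19 yb7 zb32) (kb xb19 yb8 zb40) (kb xb11 yb1 zb13) (kb xb29 yb8 zb39) (kb xb29 yb8 zb40) (kb xb11 yb1 zb14) (kb xb27 yb13 zb29) (kb xb21 yb8 zb60) (kb xb29 yb8 zb47) (kb xb26 yb49 zb26) (kb xb29 yb8 zb50) (kb xb26 yb51 zb53) (kb xb11 yb1 zb56) (kb xb22 yb40 zb41) (kb xb11 yb1 zb20) (kb xb22 yb46 zb42) (kb xb11 yb1 zb18) (kb xb23 yb48 zb44) (kb xb22 yb40 zb37) (kb xb11 yb1 zb53) (kb xb23 yb38 zb0) (kb xb17 yb18 zb58) (kb xb20 yb50 zb56) (kb xb28 yb45 zb7) (kb xb11 yb1 zb25) (kb xb11 yb1 zb26) (kb xb11 yb1 zb24) (kb xb29 yb8 zb60) (kb xb21 yb37 zb27) (kb xb29 yb9 zb0) (kb xb11 yb1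 zb29) (kb xb11 yb1 zb28) (kb xb28 yb44 zb14) (kb xb20 yb28 zb29) (kb xb19 yb47 zb21) (kb xb11 yb1 zb33) (kb xb11 yb1 zb35) (kb xb29 yb9 zb3) (kb xb21 yb41 zb50) (kb xb29 yb9 zb5) (kb xb11 yb11 zb5) (kb xb23 yb8 zb55) (kb xb11 yb1 zb40) (kb xb14 yb45 zb19) (kb xb14 yb10 zb53) (kb xb16 yb47 zb50)) (@D3.rec (fun _ => Pt) (kb xb11 yb7 zb52) (kb xb11 yb7 zb53) (kb xb26 yb52 zb52) (kb xb12 yb44 zb24) (kb xb17 yb8 zb3) (kb xb29 yb9 zb9) (kb xb17 yb16 zb0) (kb xb11 yb1 zb54) (kb xb11 yb1 zb51) (kb xb12 yb22 zb33) (kb xb20 yb52 zb11) (kb xb17 yb7 zb34) (kb xb29 yb9 zb11) (kb xb26 yb26 zb16) (kb xb20 yb13 zb41) (kb xb11 yb2 zb0) (kb xb14 yb37 zb39) (kb xb18 yb6 zb21) (kb xb14 yb28 zb57) (kb xb11 yb2 zb4) (kb xb11 yb2 zb5) (kb xb15 yb21 zb48) (kb xb15 yb21 zb49) (kb xb11 yb2 zb10)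 (kb xb21 yb45 zb0) (kb xb11 yb2 zb13) (kb xb11 yb2 zb15) (kb xb11 yb2 zb16) (kb xb26 yb0 zb23) (kb xb29 yb9 zb21) (kb xb29 yb9 zb17) (kb xb29 yb9 zb18) (kb xb14 yb37 zb45) (kb xb29 yb9 zb26) (kb xb11 yb2 zb18) (kb xb11 yb2 zb20) (kb xb20 yb38 zb48) (kb xb26 yb46 zb43) (kb xb11 yb2 zb25) (kb xb25 yb24 zb17) (kb xb29 yb9 zb27) (kb xb12 yb11 zb29) (kb xb21 yb3 zb36) (kb xb21 yb24 zb5) (kb xb26 yb46 zb40) (kb xb29 yb9 zb33) (kb xb11 yb2 zb27) (kb xb24 yb14 zb54) (kb xb11 yb2 zb29) (kb xb15 yb29 zb37) (kb xb20 yb2 zb29) (kb xb19 yb48 zb10) (kb xb17 yb52 zb60) (kb xb11 yb2 zb34) (kb xb21 yb1 zb12) (kb xb28 yb14 zb6) (kb xb28 yb14 zb7) (kb xb11 yb2 zb36) (kb xb25 yb2 zb36) (kb xb26 yb1 zb16) (kb xb23 yb58 zb60) (kb xb29 yb9 zb39)) (@D3.rec (fun _ => Pt) (kb xb23 yb58 zb42)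 (kb xb23 yb40 zb6) (kb xb11 yb2 zb40) (kb xb29 yb9 zb41) (kb xb14 yb37 zb27) (kb xb29 yb9 zb42) (kb xb11 yb2 zb42) (kb xb14 yb47 zb59) (kb xb24 yb37 zb8) (kb xb24 yb35 zb41) (kb xb23 yb43 zb18) (kb xb24 yb34 zb18) (kb xb11 yb2 zb46) (kb xb29 yb9 zb47) (kb xb29 yb9 zb48) (kb xb22 yb46 zb1) (kb xb29 yb9 zb50) (kb xb16 yb50 zb36) (kb xb12 yb48 zb54) (kb xb22 yb45 zb54) (kb xb24 yb33 zb18) (kb xb29 yb9 zb54) (kb xb22 yb45 zb9) (kb xb11 yb2 zb53) (kb xb24 yb37 zb56) (kb xb17 yb43 zb34) (kb xb25 yb15 zb20) (kb xb11 yb2 zb59) (kb xb21 yb45 zb18) (kb xb26 yb47 zb20) (kb xb26 yb47 zb21) (kb xb11 yb3 zb2) (kb xb29 yb10 zb1) (kb xb29 yb10 zb4) (kb xb11 yb3 zb5) (kb xb11 yb3 zb6) (kb xb29 yb10 zb9) (kb xb29 yb10 zb11) (kb xb28 yb11 zb48) (kb xb29 yb10 zb0) (kb xb11 yb3 zb3) (kb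 xb29 yb10 zb18) (kb xb11 yb3 zb4) (kb xb29 yb10 zb23) (kb xb29 yb10 zb26) (kb xb28 yb11 zb56) (kb xb29 yb10 zb8) (kb xb11 yb3 zb7) (kb xb29 yb10 zb30) (kb xb14 yb51 zb25) (kb xb13 yb57 zb27) (kb xb19 yb11 zb23) (kb xb26 yb38 zb13) (kb xb16 yb37 zb44) (kb xb11 yb3 zb12) (kb xb29 yb10 zb40) (kb xb29 yb10 zb38) (kb xb29 yb10 zb39) (kb xb11 yb3 zb15) (kb xb28 yb54 zb12) (kb xb24 yb37 zb48) (kb xb26 yb2 zb12)) (@D3.rec (fun _ => Pt) (kb xb26 yb23 zb8) (kb xb26 yb47 zb8) (kb xb26 yb47 zb5) (kb xb19 yb47 zb30) (kb xb19 yb55 zb35) (kb xb11 yb3 zb20) (kb xb29 yb10 zb53) (kb xb26 yb48 zb26) (kb xb11 yb3 zb22) (kb xb11 yb3 zb23) (kb xb22 yb45 zb52) (kb xb29 yb11 zb0) (kb xb29 yb10 zb51) (kb xb29 yb10 zb52) (kb xb14 yb39 zb36) (kb xb13 yb57 zb35) (kb xb14 yb6 zb10) (kb xb29 yb11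 zb8) (kb xb29 yb10 zb60) (kb xb11 yb3 zb24) (kb xb22 yb44 zb43) (kb xb11 yb3 zb25) (kb xb29 yb11 zb11) (kb xb16 yb10 zb60) (kb xb20 yb3 zb41) (kb xb19 yb57 zb47) (kb xb24 yb49 zb27) (kb xb26 yb47 zb51) (kb xb26 yb47 zb52) (kb xb11 yb5 zb23) (kb xb26 yb35 zb18) (kb xb15 yb2 zb9) (kb xb15 yb41 zb50) (kb xb24 yb47 zb7) (kb xb23 yb37 zb44) (kb xb19 yb55 zb4) (kb xb11 yb3 zb31) (kb xb24 yb21 zb13) (kb xb11 yb3 zb32) (kb xb11 yb3 zb33) (kb xb23 yb13 zb45) (kb xb28 yb24 zb42) (kb xb29 yb11 zb23) (kb xb29 yb11 zb24) (kb xb13 yb25 zb42) (kb xb13 yb15 zb58) (kb xb29 yb11 zb30) (kb xb11 yb3 zb34) (kb xb23 yb37 zb17) (kb xb14 yb49 zb2) (kb xb28 yb41 zb33) (kb xb26 yb47 zb40) (kb xb26 yb47 zb41) (kb xb29 yb11 zb42) (kb xb24 yb29 zb18) (kb xb15 yb6 zb37) (kb xb11 yb3 zb39) (kb xb29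 yb11 zb50) (kb xb11 yb3 zb40) (kb xb26 yb10 zb0) (kb xb13 yb55 zb0) (kb xb29 yb11 zb48)) (@D3.rec (fun _ => Pt) (kb xb29 yb11 zb49) (kb xb29 yb11 zb60) (kb xb29 yb11 zb61) (kb xb25 yb38 zb1) (kb xb19 yb39 zb24) (kb xb29 yb9 zb46) (kb xb28 yb41 zb37) (kb xb24 yb20 zb58) (kb xb11 yb3 zb45) (kb xb11 yb3 zb46) (kb xb25 yb14 zb34) (kb xb14 yb50 zb41) (kb xb29 yb12 zb4) (kb xb24 yb24 zb9) (kb xb11 yb11 zb21) (kb xb23 yb31 zb51) (kb xb29 yb12 zb11) (kb xb22 yb30 zb14) (kb xb11 yb4 zb0) (kb xb24 yb21 zb11) (kb xb22 yb45 zb11) (kb xb14 yb45 zb29) (kb xb11 yb3 zb54) (kb xb29 yb12 zb14) (kb xb16 yb13 zb14) (kb xb11 yb56 zb22) (kb xb19 yb26 zb28) (kb xb23 yb43 zb46) (kb xb29 yb6 zb20) (kb xb23 yb2 zb13) (kb xb21 yb56 zb49) (kb xb23 yb43 zb39) (kb xb11 yb3 zb60) (kb xb29 yb12 zb22)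 (kb xb15 yb41 zb59) (kb xb11 yb4 zb2) (kb xb22 yb39 zb13) (kb xb23 yb43 zb51) (kb xb23 yb59 zb12) (kb xb11 yb4 zb7) (kb xb24 yb5 zb44) (kb xb22 yb57 zb3) (kb xb22 yb41 zb30) (kb xb26 yb2 zb52) (kb xb11 yb4 zb10) (kb xb11 yb4 zb12) (kb xb22 yb22 zb17) (kb xb11 yb4 zb14) (kb xb26 yb41 zb25) (kb xb25 yb47 zb1) (kb xb11 yb4 zb49) (kb xb11 yb4 zb20) (kb xb22 yb55 zb31) (kb xb11 yb4 zb17) (kb xb11 yb4 zb18) (kb xb29 yb12 zb29) (kb xb29 yb12 zb27) (kb xb11 yb4 zb23) (kb xb11 yb4 zb22) (kb xb29 yb12 zb30) (kb xb11 yb4 zb25) (kb xb11 yb4 zb26)) (@D3.rec (fun _ => Pt) (kb xb21 yb43 zb18) (kb xb11 yb4 zb27) (kb xb20 yb29 zb19) (kb xb16 yb59 zb20) (kb xb15 yb24 zb42) (kb xb28 yb48 zb15) (kb xb24 yb36 zb61) (kb xb18 yb5 zb44) (kb xb11 yb4 zb32) (kb xb11 yb4 zb33) (kb xb27 yb23 zb2)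 (kb xb16 yb45 zb45) (kb xb29 yb12 zb41) (kb xb29 yb12 zb40) (kb xb29 yb12 zb42) (kb xb29 yb12 zb43) (kb xb25 yb23 zb4) (kb xb25 yb6 zb1) (kb xb11 yb4 zb36) (kb xb24 yb43 zb28) (kb xb11 yb4 zb37) (kb xb24 yb42 zb41) (kb xb11 yb4 zb38) (kb xb29 yb12 zb50) (kb xb24 yb8 zb6) (kb xb18 yb52 zb15) (kb xb20 yb47 zb27) (kb xb13 yb40 zb56) (kb xb11 yb4 zb42) (kb xb29 yb12 zb54) (kb xb29 yb12 zb55) (kb xb11 yb4 zb43) (kb xb20 yb17 zb27) (kb xb17 yb23 zb46) (kb xb11 yb4 zb48) (kb xb11 yb4 zb47) (kb xb29 yb12 zb56) (kb xb22 yb8 zb40) (kb xb11 yb4 zb52) (kb xb12 yb58 zb30) (kb xb11 yb4 zb55) (kb xb29 yb12 zb58) (kb xb15 yb37 zb27) (kb xb11 yb4 zb58) (kb xb15 yb44 zb14) (kb xb11 yb4 zb60) (kb xb28 yb54 zb59) (kb xb19 yb55 zb25) (kb xb28 yb58 zb44) (kb xb11 yb5 zb1) (kb xb11 yb5 zb2)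 (kb xb24 yb50 zb25) (kb xb29 yb13 zb4) (kb xb24 yb48 zb48) (kb xb24 yb51 zb6) (kb xb25 yb29 zb5) (kb xb29 yb13 zb7) (kb xb15 yb18 zb34) (kb xb11 yb5 zb6) (kb xb29 yb13 zb9) (kb xb11 yb5 zb7) (kb xb11 yb5 zb8)) (@D3.rec (fun _ => Pt) (kb xb29 yb13 zb13) (kb xb25 yb22 zb9) (kb xb24 yb51 zb3) (kb xb22 yb5 zb4) (kb xb11 yb5 zb12) (kb xb29 yb13 zb20) (kb xb26 yb54 zb14) (kb xb11 yb5 zb15) (kb xb11 yb5 zb16) (kb xb15 yb38 zb20) (kb xb29 yb13 zb23) (kb xb29 yb13 zb18) (kb xb29 yb13 zb19) (kb xb11 yb5 zb13) (kb xb29 yb13 zb29) (kb xb11 yb5 zb14) (kb xb27 yb43 zb5) (kb xb25 yb22 zb22) (kb xb29 yb13 zb32) (kb xb27 yb35 zb49) (kb xb26 yb45 zb16) (kb xb28 yb31 zb42) (kb xb11 yb5 zb17) (kb xb16 yb58 zb37) (kb xb11 yb5 zb19) (kb xb24 yb1 zb24) (kb xb19 yb37 zb4) (kb xb11 yb5 zb21)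 (kb xb28 yb43 zb14) (kb xb11 yb5 zb24) (kb xb26 yb34 zb59) (kb xb24 yb50 zb61) (kb xb18 yb26 zb1) (kb xb12 yb56 zb35) (kb xb11 yb5 zb26) (kb xb25 yb19 zb7) (kb xb11 yb5 zb27) (kb xb29 yb13 zb41) (kb xb24 yb2 zb44) (kb xb21 yb37 zb41) (kb xb20 yb20 zb16) (kb xb11 yb5 zb33) (kb xb11 yb55 zb10) (kb xb23 yb38 zb60) (kb xb25 yb40 zb40) (kb xb26 yb27 zb13) (kb xb11 yb5 zb47) (kb xb11 yb5 zb38) (kb xb23 yb1 zb4) (kb xb19 yb14 zb27) (kb xb11 yb5 zb41) (kb xb11 yb5 zb42) (kb xb25 yb38 zb41) (kb xb18 yb3 zb8) (kb xb11 yb34 zb29) (kb xb23 yb3 zb7) (kb xb25 yb41 zb30) (kb xb26 yb47 zb25) (kb xb29 yb13 zb51) (kb xb29 yb13 zb52) (kb xb17 yb0 zb7) (kb xb11 yb24 zb38)) (@D3.rec (fun _ => Pt) (kb xb11 yb5 zb43) (kb xb26 yb55 zb19) (kb xb25 yb25 zb22) (kb xb19 yb51 zb23) (kb xb19 yb49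 zb2) (kb xb22 yb32 zb7) (kb xb11 yb5 zb51) (kb xb11 yb5 zb52) (kb xb15 yb12 zb40) (kb xb22 yb45 zb50) (kb xb27 yb57 zb0) (kb xb29 yb14 zb3) (kb xb23 yb26 zb44) (kb xb18 yb40 zb13) (kb xb11 yb5 zb53) (kb xb16 yb52 zb36) (kb xb17 yb8 zb20) (kb xb11 yb21 zb56) (kb xb21 yb41 zb36) (kb xb11 yb5 zb59) (kb xb29 yb14 zb12) (kb xb11 yb5 zb60) (kb xb29 yb14 zb15) (kb xb29 yb13 zb17) (kb xb11 yb6 zb0) (kb xb29 yb14 zb19) (kb xb29 yb14 zb22) (kb xb25 yb21 zb26) (kb xb19 yb38 zb18) (kb xb29 yb14 zb25) (kb xb26 yb54 zb22) (kb xb11 yb6 zb3) (kb xb29 yb14 zb26) (kb xb29 yb13 zb10) (kb xb20 yb1 zb54) (kb xb20 yb1 zb55) (kb xb17 yb12 zb34) (kb xb11 yb23 zb26) (kb xb27 yb48 zb41) (kb xb23 yb35 zb58) (kb xb17 yb36 zb51) (kb xb11 yb6 zb14) (kb xb29 yb14 zb31) (kb xb29 yb14 zb30) (kb xb11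 yb6 zb15) (kb xb13 yb52 zb30) (kb xb23 yb17 zb40) (kb xb29 yb14 zb34) (kb xb20 yb9 zb31) (kb xb23 yb19 zb48) (kb xb13 yb56 zb20) (kb xb20 yb52 zb35) (kb xb24 yb53 zb38) (kb xb17 yb31 zb12) (kb xb11 yb6 zb26) (kb xb22 yb5 zb10) (kb xb17 yb15 zb49) (kb xb24 yb36 zb0) (kb xb23 yb36 zb32) (kb xb21 yb33 zb28) (kb xb11 yb6 zb31) (kb xb19 yb50 zb40))
def f_b_20 : D2 → D3 → Pt := @D2.rec (fun _ => D3 → Pt) (@D3.rec (fun _ => Pt) (kb xb11 yb6 zb35) (kb xb21 yb33 zb2) (kb xb11 yb6 zb40) (kb xb23 yb58 zb0) (kb xb21 yb15 zb9) (kb xb24 yb55 zb37) (kb xb20 yb5 zb58) (kb xb17 yb55 zb1) (kb xb18 yb54 zb2) (kb xb11 yb6 zb51) (kb xb25 yb23 zb54) (kb xb11 yb23 zb20) (kb xb16 yb21 zb14) (kb xb11 yb6 zb57) (kb xb16 yb51 zb8) (kb xb26 yb49 zb34) (kb xb11 yb6 zb58) (kb xb11 yb14 zb54) (kb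 xb19 yb47 zb16) (kb xb11 yb6 zb59) (kb xb11 yb19 zb5) (kb xb17 yb54 zb54) (kb xb11 yb24 zb34) (kb xb15 yb5 zb0) (kb xb17 yb29 zb51) (kb xb11 yb7 zb15) (kb xb12 yb31 zb12) (kb xb20 yb52 zb0) (kb xb11 yb7 zb9) (kb xb29 yb14 zb41) (kb xb20 yb35 zb46) (kb xb11 yb7 zb10) (kb xb26 yb23 zb12) (kb xb21 yb29 zb23) (kb xb18 yb56 zb34) (kb xb15 yb10 zb41) (kb xb11 yb8 zb0) (kb xb17 yb57 zb46) (kb xb20 yb27 zb48) (kb xb17 yb55 zb0) (kb xb11 yb7 zb23) (kb xb11 yb16 zb58) (kb xb11 yb13 zb48) (kb xb15 yb8 zb17) (kb xb20 yb6 zb2) (kb xb11 yb7 zb21) (kb xb11 yb7 zb22) (kb xb29 yb14 zb44) (kb xb21 yb11 zb41) (kb xb12 yb29 zb3) (kb xb28 yb22 zb48) (kb xb29 yb14 zb46) (kb xb20 yb26 zb18) (kb xb11 yb7 zb27) (kb xb27 yb20 zb15) (kb xb26 yb19 zb43) (kb xb24 yb52 zb57) (kb xb16 yb43 zb44)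 (kb xb11 yb7 zb38) (kb xb16 yb25 zb26) (kb xb20 yb29 zb60) (kb xb11 yb7 zb35)) (@D3.rec (fun _ => Pt) (kb xb11 yb7 zb36) (kb xb29 yb14 zb49) (kb xb24 yb9 zb38) (kb xb13 yb44 zb1) (kb xb26 yb6 zb30) (kb xb24 yb9 zb39) (kb xb22 yb56 zb55) (kb xb17 yb8 zb10) (kb xb15 yb30 zb48) (kb xb20 yb31 zb53) (kb xb11 yb20 zb44) (kb xb14 yb59 zb38) (kb xb11 yb7 zb42) (kb xb11 yb7 zb43) (kb xb15 yb4 zb44) (kb xb12 yb22 zb31) (kb xb11 yb7 zb45) (kb xb11 yb7 zb46) (kb xb15 yb23 zb46) (kb xb26 yb28 zb32) (kb xb27 yb5 zb16) (kb xb24 yb47 zb11) (kb xb11 yb7 zb49) (kb xb13 yb51 zb3) (kb xb24 yb47 zb12) (kb xb11 yb7 zb51) (kb xb27 yb2 zb35) (kb xb21 yb37 zb47) (kb xb16 yb26 zb19) (kb xb11 yb7 zb56) (kb xb11 yb7 zb57) (kb xb16 yb26 zb21) (kb xb26 yb9 zb48) (kb xb17 yb0 zb57) (kb xb11 yb7 zb60)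 (kb xb11 yb7 zb61) (kb xb11 yb7 zb59) (kb xb29 yb15 zb2) (kb xb23 yb4 zb6) (kb xb22 yb34 zb27) (kb xb23 yb49 zb61) (kb xb29 yb15 zb3) (kb xb11 yb8 zb4) (kb xb29 yb15 zb8) (kb xb11 yb8 zb9) (kb xb29 yb15 zb11) (kb xb11 yb8 zb10) (kb xb11 yb8 zb11) (kb xb29 yb15 zb14) (kb xb11 yb8 zb13) (kb xb27 yb44 zb15) (kb xb29 yb15 zb18) (kb xb20 yb53 zb41) (kb xb29 yb15 zb17) (kb xb19 yb59 zb34) (kb xb19 yb59 zb35) (kb xb21 yb57 zb35) (kb xb18 yb41 zb56) (kb xb11 yb59 zb38) (kb xb11 yb8 zb25) (kb xb13 yb32 zb17) (kb xb29 yb15 zb26)) (@D3.rec (fun _ => Pt) (kb xb12 yb45 zb6) (kb xb11 yb8 zb28) (kb xb16 yb59 zb25) (kb xb22 yb4 zb26) (kb xb17 yb8 zb2) (kb xb11 yb8 zb31) (kb xb20 yb51 zb25) (kb xb21 yb57 zb31) (kb xb15 yb5 zb33) (kb xb24 yb37 zb46) (kb xb11 yb8 zb39) (kb xb29 yb15 zb29)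 (kb xb11 yb8 zb40) (kb xb29 yb15 zb30) (kb xb25 yb14 zb5) (kb xb29 yb15 zb35) (kb xb29 yb15 zb37) (kb xb11 yb8 zb45) (kb xb11 yb8 zb46) (kb xb11 yb8 zb43) (kb xb29 yb5 zb17) (kb xb11 yb8 zb44) (kb xb29 yb4 zb47) (kb xb28 yb57 zb21) (kb xb29 yb15 zb45) (kb xb25 yb57 zb58) (kb xb29 yb15 zb51) (kb xb29 yb15 zb42) (kb xb17 yb43 zb22) (kb xb19 yb53 zb50) (kb xb25 yb13 zb52) (kb xb29 yb15 zb58) (kb xb24 yb36 zb35) (kb xb11 yb8 zb54) (kb xb11 yb8 zb55) (kb xb11 yb8 zb52) (kb xb15 yb58 zb6) (kb xb11 yb8 zb53) (kb xb26 yb42 zb11) (kb xb17 yb27 zb2) (kb xb29 yb16 zb10) (kb xb29 yb16 zb5) (kb xb11 yb8 zb56) (kb xb29 yb16 zb12) (kb xb11 yb8 zb58) (kb xb23 yb12 zb50) (kb xb23 yb12 zb48) (kb xb17 yb49 zb1) (kb xb29 yb16 zb15) (kb xb29 yb16 zb17) (kb xb11 yb9 zb0) (kb xb11 yb9 zb1)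 (kb xb23 yb28 zb45) (kb xb23 yb30 zb5) (kb xb19 yb2 zb24) (kb xb27 yb20 zb43) (kb xb11 yb9 zb2) (kb xb29 yb16 zb25) (kb xb11 yb9 zb3) (kb xb27 yb43 zb50) (kb xb25 yb8 zb20) (kb xb29 yb16 zb30)) (@D3.rec (fun _ => Pt) (kb xb26 yb44 zb40) (kb xb11 yb9 zb6) (kb xb11 yb9 zb7) (kb xb26 yb55 zb3) (kb xb16 yb32 zb14) (kb xb26 yb30 zb29) (kb xb19 yb11 zb57) (kb xb11 yb9 zb10) (kb xb19 yb33 zb54) (kb xb25 yb14 zb51) (kb xb21 yb17 zb42) (kb xb29 yb16 zb38) (kb xb25 yb14 zb46) (kb xb25 yb7 zb61) (kb xb11 yb9 zb12) (kb xb25 yb14 zb59) (kb xb29 yb16 zb43) (kb xb29 yb16 zb44) (kb xb29 yb0 zb2) (kb xb26 yb0 zb9) (kb xb11 yb9 zb14) (kb xb26 yb37 zb19) (kb xb26 yb44 zb39) (kb xb11 yb9 zb15) (kb xb21 yb35 zb17) (kb xb24 yb12 zb22) (kb xb24 yb20 zb34) (kb xb11 yb9 zb18) (kb xb11 yb9 zb19)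 (kb xb29 yb16 zb54) (kb xb19 yb47 zb11) (kb xb29 yb16 zb60) (kb xb25 yb24 zb54) (kb xb29 yb16 zb50) (kb xb25 yb9 zb57) (kb xb11 yb9 zb21) (kb xb21 yb22 zb2) (kb xb24 yb4 zb4) (kb xb23 yb1 zb2) (kb xb21 yb48 zb0) (kb xb14 yb45 zb56) (kb xb19 yb55 zb24) (kb xb16 yb4 zb25) (kb xb16 yb50 zb38) (kb xb11 yb9 zb26) (kb xb28 yb57 zb16) (kb xb25 yb15 zb22) (kb xb11 yb9 zb29) (kb xb11 yb9 zb30) (kb xb29 yb17 zb7) (kb xb19 yb38 zb13) (kb xb29 yb17 zb10) (kb xb29 yb17 zb6) (kb xb11 yb43 zb1) (kb xb25 yb15 zb28) (kb xb11 yb9 zb32) (kb xb29 yb17 zb16) (kb xb29 yb17 zb15) (kb xb11 yb9 zb33) (kb xb16 yb16 zb13) (kb xb29 yb17 zb21) (kb xb11 yb9 zb36)) (@D3.rec (fun _ => Pt) (kb xb27 yb30 zb59) (kb xb29 yb17 zb22) (kb xb11 yb9 zb38) (kb xb11 yb59 zb51) (kb xb11 yb9 zb39) (kb xb21 yb59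 zb10) (kb xb26 yb14 zb37) (kb xb29 yb17 zb25) (kb xb11 yb9 zb41) (kb xb29 yb17 zb26) (kb xb18 yb4 zb5) (kb xb11 yb9 zb43) (kb xb11 yb9 zb44) (kb xb25 yb15 zb46) (kb xb16 yb20 zb42) (kb xb11 yb9 zb47) (kb xb28 yb25 zb53) (kb xb18 yb45 zb23) (kb xb18 yb4 zb32) (kb xb11 yb9 zb59) (kb xb11 yb9 zb50) (kb xb19 yb49 zb9) (kb xb11 yb9 zb53) (kb xb11 yb9 zb54) (kb xb12 yb41 zb32) (kb xb21 yb21 zb33) (kb xb25 yb14 zb7) (kb xb29 yb17 zb31) (kb xb29 yb17 zb32) (kb xb20 yb6 zb16) (kb xb12 yb31 zb3) (kb xb16 yb59 zb43) (kb xb12 yb55 zb30) (kb xb11 yb20 zb26) (kb xb27 yb30 zb6) (kb xb27 yb30 zb7) (kb xb29 yb17 zb37) (kb xb11 yb10 zb6) (kb xb20 yb18 zb48) (kb xb11 yb10 zb8) (kb xb11 yb10 zb9) (kb xb15 yb17 zb60) (kb xb29 yb17 zb43) (kb xb27 yb30 zb8) (kb xb27 yb30 zb9) (kb xb11 yb10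 zb5) (kb xb15 yb10 zb39) (kb xb26 yb18 zb28) (kb xb16 yb48 zb3) (kb xb11 yb15 zb18) (kb xb20 yb5 zb55) (kb xb11 yb10 zb10) (kb xb28 yb49 zb54) (kb xb29 yb17 zb47) (kb xb29 yb17 zb48) (kb xb11 yb10 zb15) (kb xb24 yb2 zb32) (kb xb29 yb17 zb49) (kb xb26 yb37 zb33) (kb xb29 yb17 zb52) (kb xb24 yb35 zb24) (kb xb28 yb59 zb39)) (@D3.rec (fun _ => Pt) (kb xb11 yb10 zb20) (kb xb16 yb5 zb57) (kb xb11 yb10 zb21) (kb xb17 yb23 zb23) (kb xb16 yb42 zb15) (kb xb11 yb10 zb26) (kb xb11 yb10 zb27) (kb xb29 yb17 zb56) (kb xb11 yb10 zb28) (kb xb29 yb17 zb57) (kb xb15 yb2 zb53) (kb xb25 yb35 zb5) (kb xb27 yb1 zb33) (kb xb11 yb10 zb33) (kb xb29 yb17 zb60) (kb xb29 yb2 zb32) (kb xb15 yb16 zb0) (kb xb18 yb34 zb46) (kb xb25 yb11 zb1) (kb xb25 yb19 zb32) (kb xb26 yb42 zb40) (kb xb11 yb10 zb35)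 (kb xb11 yb10 zb45) (kb xb29 yb18 zb5) (kb xb29 yb18 zb6) (kb xb27 yb0 zb59) (kb xb11 yb10 zb41) (kb xb11 yb10 zb39) (kb xb21 yb45 zb58) (kb xb12 yb15 zb36) (kb xb29 yb14 zb27) (kb xb18 yb7 zb56) (kb xb11 yb10 zb49) (kb xb13 yb0 zb30) (kb xb25 yb39 zb52) (kb xb20 yb6 zb59) (kb xb11 yb10 zb52) (kb xb17 yb58 zb8) (kb xb21 yb3 zb25) (kb xb13 yb58 zb16) (kb xb11 yb10 zb56) (kb xb29 yb6 zb0) (kb xb26 yb46 zb60) (kb xb11 yb19 zb20) (kb xb12 yb45 zb43) (kb xb11 yb11 zb0) (kb xb26 yb47 zb1) (kb xb11 yb11 zb2) (kb xb12 yb12 zb54) (kb xb21 yb3 zb31) (kb xb23 yb42 zb9) (kb xb11 yb11 zb4) (kb xb11 yb11 zb12) (kb xb11 yb37 zb32) (kb xb11 yb11 zb16) (kb xb20 yb4 zb50) (kb xb12 yb7 zb41) (kb xb11 yb11 zb23) (kb xb20 yb0 zb6) (kb xb18 yb1 zb40) (kb xb11 yb11 zb32) (kb xb11 yb11 zb27))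 (@D3.rec (fun _ => Pt) (kb xb15 yb6 zb38) (kb xb24 yb57 zb36) (kb xb20 yb0 zb44) (kb xb11 yb11 zb29) (kb xb11 yb11 zb30) (kb xb22 yb31 zb45) (kb xb12 yb46 zb15) (kb xb26 yb17 zb15) (kb xb18 yb49 zb14) (kb xb13 yb27 zb2) (kb xb26 yb32 zb61) (kb xb11 yb11 zb33) (kb xb12 yb7 zb34) (kb xb24 yb47 zb24) (kb xb11 yb11 zb39) (kb xb29 yb6 zb43) (kb xb20 yb4 zb29) (kb xb13 yb26 zb61) (kb xb11 yb11 zb36) (kb xb11 yb11 zb37) (kb xb12 yb22 zb51) (kb xb23 yb4 zb13) (kb xb23 yb19 zb44) (kb xb27 yb5 zb27) (kb xb11 yb11 zb41) (kb xb11 yb11 zb42) (kb xb29 yb18 zb17) (kb xb16 yb53 zb22) (kb xb13 yb48 zb13) (kb xb12 yb6 zb21) (kb xb11 yb11 zb46) (kb xb23 yb7 zb9) (kb xb15 yb0 zb24) (kb xb11 yb12 zb6) (kb xb11 yb11 zb50) (kb xb29 yb18 zb20) (kb xb16 yb32 zb41) (kb xb11 yb11 zb53) (kb xb11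 yb12 zb10) (kb xb11 yb11 zb54) (kb xb29 yb18 zb22) (kb xb12 yb21 zb25) (kb xb28 yb55 zb27) (kb xb11 yb11 zb57) (kb xb11 yb12 zb1) (kb xb11 yb12 zb2) (kb xb26 yb19 zb44) (kb xb14 yb46 zb38) (kb xb22 yb38 zb27) (kb xb12 yb53 zb7) (kb xb26 yb28 zb6) (kb xb20 yb13 zb13) (kb xb11 yb12 zb17) (kb xb11 yb45 zb56) (kb xb11 yb12 zb18) (kb xb12 yb34 zb47) (kb xb12 yb53 zb51) (kb xb11 yb12 zb25) (kb xb26 yb4 zb3) (kb xb20 yb5 zb35) (kb xb24 yb53 zb37) (kb xb29 yb6 zb34)) (@D3.rec (fun _ => Pt) (kb xb21 yb3 zb30) (kb xb20 yb21 zb52) (kb xb11 yb12 zb27) (kb xb11 yb12 zb28) (kb xb11 yb12 zb29) (kb xb11 yb12 zb33) (kb xb29 yb18 zb31) (kb xb24 yb46 zb26) (kb xb13 yb14 zb11) (kb xb19 yb2 zb29) (kb xb11 yb20 zb9) (kb xb11 yb12 zb36) (kb xb20 yb19 zb57) (kb xb11 yb12 zb46) (kb xb16 yb53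 zb18) (kb xb11 yb12 zb49) (kb xb14 yb8 zb10) (kb xb15 yb56 zb37) (kb xb11 yb16 zb34) (kb xb11 yb13 zb1) (kb xb11 yb13 zb2) (kb xb26 yb17 zb11) (kb xb23 yb9 zb11) (kb xb25 yb18 zb14) (kb xb14 yb59 zb24) (kb xb29 yb18 zb37) (kb xb11 yb38 zb5) (kb xb29 yb18 zb38) (kb xb23 yb7 zb60) (kb xb24 yb35 zb1) (kb xb28 yb58 zb5) (kb xb16 yb22 zb35) (kb xb26 yb28 zb18) (kb xb22 yb42 zb45) (kb xb16 yb23 zb12) (kb xb22 yb32 zb15) (kb xb26 yb49 zb2) (kb xb11 yb32 zb50) (kb xb28 yb49 zb9) (kb xb11 yb13 zb3) (kb xb29 yb18 zb45) (kb xb19 yb21 zb29) (kb xb22 yb49 zb52) (kb xb11 yb13 zb5) (kb xb26 yb27 zb11) (kb xb11 yb13 zb7) (kb xb21 yb7 zb54) (kb xb24 yb55 zb42) (kb xb11 yb13 zb10) (kb xb11 yb13 zb11) (kb xb11 yb13 zb13) (kb xb26 yb22 zb29) (kb xb26 yb58 zb9) (kb xb11 yb13 zb16) (kb xb22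 yb59 zb45) (kb xb11 yb37 zb25) (kb xb26 yb55 zb31) (kb xb11 yb33 zb3) (kb xb16 yb30 zb49) (kb xb16 yb22 zb40) (kb xb13 yb42 zb58) (kb xb16 yb30 zb8)) (@D3.rec (fun _ => Pt) (kb xb23 yb5 zb27) (kb xb28 yb27 zb30) (kb xb26 yb26 zb58) (kb xb12 yb45 zb49) (kb xb24 yb24 zb11) (kb xb26 yb19 zb20) (kb xb29 yb18 zb57) (kb xb11 yb13 zb30) (kb xb26 yb20 zb31) (kb xb18 yb19 zb30) (kb xb28 yb28 zb22) (kb xb18 yb59 zb60) (kb xb29 yb14 zb33) (kb xb21 yb13 zb23) (kb xb11 yb13 zb34) (kb xb25 yb5 zb26) (kb xb28 yb10 zb41) (kb xb24 yb45 zb61) (kb xb28 yb27 zb53) (kb xb28 yb26 zb19) (kb xb11 yb13 zb36) (kb xb11 yb13 zb37) (kb xb14 yb58 zb36) (kb xb16 yb21 zb21) (kb xb19 yb42 zb3) (kb xb16 yb21 zb36) (kb xb26 yb40 zb54) (kb xb11 yb13 zb43) (kb xb21 yb10 zb37) (kb xb21 yb4 zb16) (kb xb25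 yb52 zb3) (kb xb11 yb13 zb49) (kb xb20 yb44 zb40) (kb xb11 yb14 zb56) (kb xb12 yb10 zb42) (kb xb11 yb13 zb56) (kb xb26 yb26 zb53) (kb xb26 yb27 zb2) (kb xb26 yb49 zb15) (kb xb11 yb46 zb31) (kb xb26 yb22 zb14) (kb xb21 yb15 zb15) (kb xb11 yb16 zb40) (kb xb11 yb13 zb58) (kb xb11 yb13 zb59) (kb xb29 yb19 zb13) (kb xb12 yb22 zb21) (kb xb26 yb57 zb35) (kb xb26 yb22 zb36) (kb xb12 yb22 zb19) (kb xb11 yb13 zb61) (kb xb29 yb19 zb17) (kb xb26 yb22 zb31) (kb xb23 yb3 zb44) (kb xb20 yb36 zb32) (kb xb11 yb14 zb3) (kb xb22 yb49 zb14) (kb xb29 yb19 zb22) (kb xb29 yb19 zb25) (kb xb13 yb6 zb5) (kb xb17 yb54 zb61) (kb xb11 yb14 zb6)) (@D3.rec (fun _ => Pt) (kb xb23 yb5 zb35) (kb xb12 yb45 zb37) (kb xb26 yb58 zb10) (kb xb22 yb3 zb10) (kb xb20 yb25 zb20) (kb xb20 yb20 zb4) (kb xb11 yb14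 zb39) (kb xb24 yb36 zb47) (kb xb11 yb14 zb13) (kb xb26 yb26 zb18) (kb xb15 yb44 zb18) (kb xb15 yb0 zb0) (kb xb11 yb14 zb15) (kb xb11 yb55 zb43) (kb xb29 yb19 zb32) (kb xb11 yb15 zb33) (kb xb12 yb56 zb44) (kb xb28 yb45 zb45) (kb xb26 yb50 zb10) (kb xb11 yb14 zb21) (kb xb17 yb55 zb36) (kb xb19 yb15 zb51) (kb xb25 yb52 zb2) (kb xb29 yb19 zb36) (kb xb21 yb0 zb55) (kb xb20 yb12 zb6) (kb xb19 yb27 zb22) (kb xb28 yb28 zb2) (kb xb11 yb14 zb28) (kb xb11 yb14 zb29) (kb xb21 yb51 zb49) (kb xb19 yb59 zb48) (kb xb18 yb35 zb2) (kb xb12 yb10 zb22) (kb xb13 yb21 zb53) (kb xb16 yb9 zb26) (kb xb11 yb14 zb40) (kb xb26 yb52 zb33) (kb xb21 yb47 zb54) (kb xb21 yb51 zb3) (kb xb11 yb22 zb32) (kb xb19 yb32 zb21) (kb xb12 yb14 zb36) (kb xb12 yb53 zb57) (kb xb11 yb18 zb25) (kb xb14 yb49 zb9)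 (kb xb16 yb30 zb51) (kb xb11 yb14 zb47) (kb xb27 yb29 zb23) (kb xb12 yb10 zb39) (kb xb11 yb14 zb50) (kb xb11 yb14 zb51) (kb xb12 yb6 zb20) (kb xb11 yb14 zb52) (kb xb25 yb45 zb43) (kb xb13 yb20 zb34) (kb xb20 yb15 zb52) (kb xb29 yb13 zb60) (kb xb19 yb48 zb40) (kb xb11 yb14 zb59) (kb xb26 yb55 zb20) (kb xb16 yb25 zb29)) (@D3.rec (fun _ => Pt) (kb xb25 yb45 zb40) (kb xb29 yb19 zb45) (kb xb11 yb15 zb6) (kb xb29 yb19 zb49) (kb xb16 yb54 zb58) (kb xb20 yb45 zb30) (kb xb28 yb14 zb14) (kb xb17 yb0 zb37) (kb xb23 yb24 zb14) (kb xb11 yb15 zb10) (kb xb11 yb15 zb11) (kb xb29 yb19 zb58) (kb xb22 yb17 zb15) (kb xb25 yb54 zb26) (kb xb29 yb19 zb54) (kb xb27 yb59 zb53) (kb xb29 yb20 zb3) (kb xb29 yb19 zb57) (kb xb11 yb15 zb13) (kb xb16 yb20 zb60) (kb xb18 yb49 zb44) (kb xb29 yb20 zb10)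 (kb xb16 yb56 zb35) (kb xb13 yb24 zb13) (kb xb22 yb16 zb13) (kb xb20 yb44 zb20) (kb xb29 yb20 zb14) (kb xb11 yb15 zb21) (kb xb11 yb15 zb22) (kb xb29 yb20 zb16) (kb xb24 yb29 zb37) (kb xb12 yb54 zb8) (kb xb25 yb25 zb26) (kb xb21 yb15 zb50) (kb xb11 yb15 zb27) (kb xb19 yb21 zb36) (kb xb11 yb15 zb31) (kb xb17 yb54 zb53) (kb xb18 yb13 zb29) (kb xb29 yb20 zb23) (kb xb11 yb15 zb30) (kb xb28 yb36 zb14) (kb xb18 yb36 zb29) (kb xb28 yb18 zb43) (kb xb11 yb15 zb32) (kb xb29 yb20 zb30) (kb xb27 yb52 zb37) (kb xb15 yb6 zb4) (kb xb14 yb43 zb3) (kb xb29 yb19 zb34) (kb xb11 yb15 zb36) (kb xb27 yb53 zb10) (kb xb11 yb15 zb35) (kb xb25 yb48 zb9) (kb xb29 yb20 zb34) (kb xb18 yb19 zb60) (kb xb15 yb23 zb36) (kb xb23 yb18 zb45) (kb xb11 yb15 zb37) (kb xb29 yb20 zb39) (kb xb16 yb19 zb23) (kb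 xb21 yb15 zb31)) (@D3.rec (fun _ => Pt) (kb xb11 yb15 zb39) (kb xb29 yb20 zb44) (kb xb27 yb33 zb6) (kb xb11 yb15 zb40) (kb xb29 yb20 zb46) (kb xb18 yb30 zb48) (kb xb17 yb51 zb4) (kb xb28 yb15 zb34) (kb xb27 yb51 zb2) (kb xb11 yb15 zb42) (kb xb11 yb15 zb43) (kb xb23 yb8 zb40) (kb xb29 yb20 zb56) (kb xb27 yb49 zb13) (kb xb29 yb20 zb51) (kb xb29 yb21 zb1) (kb xb13 yb41 zb12) (kb xb11 yb15 zb45) (kb xb29 yb21 zb5) (kb xb29 yb21 zb4) (kb xb11 yb15 zb48) (kb xb29 yb21 zb8) (kb xb11 yb15 zb49) (kb xb29 yb21 zb9) (kb xb28 yb51 zb1) (kb xb29 yb21 zb11) (kb xb26 yb49 zb11) (kb xb11 yb15 zb51) (kb xb11 yb15 zb52) (kb xb26 yb51 zb5) (kb xb20 yb15 zb46) (kb xb29 yb21 zb16) (kb xb17 yb4 zb38) (kb xb17 yb31 zb10) (kb xb29 yb21 zb17) (kb xb23 yb4 zb17) (kb xb20 yb47 zb42) (kb xb11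 yb48 zb4) (kb xb15 yb55 zb7) (kb xb19 yb33 zb41) (kb xb20 yb21 zb45) (kb xb11 yb15 zb56) (kb xb14 yb16 zb44) (kb xb14 yb3 zb28) (kb xb16 yb54 zb0) (kb xb18 yb27 zb51) (kb xb18 yb48 zb1) (kb xb20 yb21 zb58) (kb xb11 yb15 zb60) (kb xb25 yb26 zb47) (kb xb17 yb25 zb21) (kb xb23 yb0 zb42) (kb xb29 yb3 zb5) (kb xb15 yb50 zb60) (kb xb11 yb16 zb1) (kb xb11 yb16 zb2) (kb xb25 yb25 zb36) (kb xb22 yb46 zb32) (kb xb25 yb35 zb46) (kb xb11 yb16 zb4) (kb xb13 yb44 zb56) (kb xb11 yb16 zb5)) (@D3.rec (fun _ => Pt) (kb xb26 yb44 zb55) (kb xb29 yb21 zb38) (kb xb22 yb5 zb14) (kb xb29 yb3 zb11) (kb xb16 yb51 zb37) (kb xb17 yb34 zb30) (kb xb20 yb9 zb25) (kb xb11 yb16 zb10) (kb xb20 yb57 zb25) (kb xb11 yb16 zb12) (kb xb15 yb55 zb15) (kb xb15 yb25 zb40) (kb xb12 yb56 zb51) (kb xb11 yb16 zb15)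 (kb xb12 yb30 zb30) (kb xb21 yb18 zb5) (kb xb25 yb17 zb7) (kb xb11 yb16 zb16) (kb xb17 yb33 zb36) (kb xb22 yb4 zb61) (kb xb11 yb26 zb48) (kb xb17 yb19 zb47) (kb xb12 yb56 zb12) (kb xb29 yb21 zb45) (kb xb21 yb9 zb37) (kb xb13 yb17 zb4) (kb xb11 yb16 zb27) (kb xb23 yb43 zb1) (kb xb26 yb49 zb61) (kb xb11 yb36 zb45) (kb xb27 yb20 zb56) (kb xb11 yb16 zb33) (kb xb13 yb24 zb27) (kb xb25 yb31 zb0) (kb xb23 yb10 zb47) (kb xb26 yb27 zb14) (kb xb12 yb26 zb23) (kb xb17 yb27 zb36) (kb xb11 yb16 zb38) (kb xb27 yb9 zb41) (kb xb26 yb46 zb7) (kb xb11 yb16 zb43) (kb xb11 yb37 zb21) (kb xb12 yb36 zb26) (kb xb20 yb20 zb23) (kb xb11 yb16 zb48) (kb xb20 yb13 zb26) (kb xb11 yb24 zb1) (kb xb25 yb17 zb2) (kb xb21 yb44 zb47) (kb xb11 yb16 zb56) (kb xb21 yb51 zb12) (kb xb12 yb52 zb57) (kb xb28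 yb10 zb9) (kb xb12 yb29 zb4) (kb xb20 yb50 zb46) (kb xb15 yb49 zb50) (kb xb22 yb9 zb60) (kb xb27 yb30 zb28) (kb xb26 yb46 zb25) (kb xb11 yb17 zb0) (kb xb11 yb17 zb1)) (@D3.rec (fun _ => Pt) (kb xb29 yb21 zb53) (kb xb22 yb12 zb4) (kb xb29 yb18 zb10) (kb xb11 yb17 zb3) (kb xb21 yb21 zb9) (kb xb22 yb40 zb21) (kb xb11 yb17 zb11) (kb xb11 yb17 zb6) (kb xb17 yb35 zb31) (kb xb11 yb17 zb7) (kb xb12 yb18 zb5) (kb xb21 yb45 zb50) (kb xb17 yb35 zb3) (kb xb20 yb6 zb51) (kb xb22 yb2 zb33) (kb xb21 yb45 zb46) (kb xb20 yb52 zb16) (kb xb24 yb32 zb50) (kb xb28 yb24 zb36) (kb xb15 yb24 zb25) (kb xb29 yb21 zb59) (kb xb26 yb50 zb20) (kb xb11 yb19 zb56) (kb xb19 yb27 zb21) (kb xb20 yb32 zb61) (kb xb11 yb17 zb52) (kb xb20 yb12 zb46) (kb xb24 yb54 zb30) (kb xb11 yb17 zb21) (kb xb11 yb17 zb22)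 (kb xb23 yb17 zb51) (kb xb28 yb15 zb6) (kb xb16 yb24 zb52) (kb xb29 yb22 zb1) (kb xb29 yb22 zb2) (kb xb20 yb25 zb49) (kb xb12 yb22 zb52) (kb xb11 yb17 zb49) (kb xb11 yb35 zb18) (kb xb26 yb0 zb36) (kb xb16 yb48 zb4) (kb xb19 yb53 zb14) (kb xb11 yb17 zb34) (kb xb12 yb56 zb11) (kb xb27 yb43 zb18) (kb xb22 yb6 zb27) (kb xb11 yb17 zb42) (kb xb11 yb17 zb43) (kb xb16 yb14 zb6) (kb xb17 yb55 zb12) (kb xb11 yb17 zb41) (kb xb15 yb25 zb45) (kb xb18 yb36 zb16) (kb xb16 yb9 zb44) (kb xb11 yb17 zb44) (kb xb27 yb13 zb49) (kb xb20 yb34 zb37) (kb xb17 yb12 zb49) (kb xb11 yb21 zb42) (kb xb12 yb9 zb35) (kb xb11 yb22 zb7) (kb xb12 yb22 zb55)) (@D3.rec (fun _ => Pt) (kb xb27 yb1 zb14) (kb xb16 yb30 zb19) (kb xb20 yb36 zb30) (kb xb21 yb18 zb47) (kb xb20 yb27 zb38) (kb xb11 yb21 zb37) (kb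 xb11 yb17 zb58) (kb xb16 yb25 zb36) (kb xb12 yb28 zb56) (kb xb29 yb18 zb27) (kb xb26 yb25 zb29) (kb xb29 yb6 zb1) (kb xb22 yb4 zb30) (kb xb26 yb50 zb37) (kb xb24 yb58 zb10) (kb xb11 yb37 zb47) (kb xb17 yb58 zb2) (kb xb11 yb18 zb7) (kb xb26 yb23 zb22) (kb xb15 yb59 zb1) (kb xb26 yb22 zb56) (kb xb11 yb18 zb8) (kb xb11 yb33 zb35) (kb xb21 yb49 zb54) (kb xb11 yb33 zb31) (kb xb11 yb19 zb22) (kb xb11 yb19 zb23) (kb xb17 yb35 zb21) (kb xb15 yb47 zb37) (kb xb11 yb18 zb14) (kb xb29 yb22 zb20) (kb xb12 yb45 zb51) (kb xb11 yb18 zb17) (kb xb11 yb18 zb18) (kb xb16 yb13 zb44) (kb xb26 yb10 zb37) (kb xb11 yb18 zb15) (kb xb16 yb57 zb23) (kb xb12 yb46 zb18) (kb xb11 yb18 zb16) (kb xb24 yb53 zb15) (kb xb24 yb34 zb49) (kb xb29 yb22 zb24) (kb xb11 yb22 zb45) (kb xb29 yb22 zb25) (kb xb29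 yb22 zb26) (kb xb25 yb16 zb45) (kb xb21 yb54 zb28) (kb xb11 yb18 zb21) (kb xb11 yb18 zb22) (kb xb23 yb3 zb52) (kb xb12 yb25 zb29) (kb xb17 yb7 zb35) (kb xb20 yb20 zb49) (kb xb27 yb22 zb37) (kb xb27 yb29 zb20) (kb xb13 yb58 zb51) (kb xb18 yb22 zb28) (kb xb21 yb3 zb22) (kb xb11 yb39 zb8) (kb xb29 yb22 zb28) (kb xb11 yb18 zb31)) (@D3.rec (fun _ => Pt) (kb xb25 yb45 zb50) (kb xb29 yb22 zb30) (kb xb11 yb18 zb33) (kb xb29 yb22 zb33) (kb xb11 yb18 zb35) (kb xb29 yb22 zb34) (kb xb11 yb18 zb36) (kb xb27 yb23 zb3) (kb xb11 yb18 zb37) (kb xb11 yb59 zb26) (kb xb26 yb25 zb27) (kb xb17 yb31 zb3) (kb xb23 yb35 zb19) (kb xb25 yb16 zb51) (kb xb29 yb6 zb35) (kb xb20 yb21 zb53) (kb xb11 yb18 zb41) (kb xb23 yb42 zb14) (kb xb12 yb44 zb23) (kb xb20 yb50 zb21) (kb xb20 yb31 zb58) (kb xb26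 yb46 zb0) (kb xb18 yb5 zb37) (kb xb25 yb49 zb44) (kb xb26 yb15 zb49) (kb xb15 yb54 zb48) (kb xb11 yb18 zb48) (kb xb15 yb21 zb7) (kb xb25 yb50 zb15) (kb xb11 yb18 zb50) (kb xb27 yb43 zb20) (kb xb20 yb51 zb12) (kb xb17 yb37 zb34) (kb xb11 yb18 zb54) (kb xb12 yb39 zb20) (kb xb12 yb36 zb45) (kb xb29 yb22 zb45) (kb xb12 yb22 zb2) (kb xb12 yb28 zb54) (kb xb11 yb18 zb58) (kb xb12 yb44 zb1) (kb xb11 yb19 zb0) (kb xb17 yb1 zb0) (kb xb29 yb22 zb47) (kb xb16 yb54 zb23) (kb xb28 yb56 zb20) (kb xb20 yb11 zb30) (kb xb16 yb54 zb53) (kb xb20 yb18 zb35) (kb xb24 yb53 zb13) (kb xb11 yb19 zb6) (kb xb16 yb53 zb56) (kb xb20 yb9 zb56) (kb xb11 yb19 zb9) (kb xb12 yb46 zb47) (kb xb21 yb40 zb33) (kb xb18 yb25 zb40) (kb xb18 yb25 zb45) (kb xb26 yb22 zb60) (kb xb12 yb52 zb59) (kb xb12 yb8 zb61)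 (kb xb29 yb22 zb18)) (@D3.rec (fun _ => Pt) (kb xb27 yb1 zb28) (kb xb29 yb22 zb55) (kb xb25 yb31 zb10) (kb xb12 yb42 zb43) (kb xb16 yb0 zb57) (kb xb11 yb19 zb25) (kb xb24 yb41 zb60) (kb xb17 yb41 zb54) (kb xb11 yb19 zb38) (kb xb11 yb19 zb27) (kb xb29 yb22 zb58) (kb xb27 yb41 zb32) (kb xb12 yb45 zb61) (kb xb11 yb19 zb28) (kb xb11 yb26 zb28) (kb xb29 yb22 zb61) (kb xb26 yb59 zb16) (kb xb14 yb57 zb34) (kb xb11 yb19 zb32) (kb xb18 yb23 zb35) (kb xb11 yb36 zb42) (kb xb15 yb24 zb5) (kb xb28 yb1 zb25) (kb xb29 yb23 zb0) (kb xb24 yb41 zb61) (kb xb14 yb56 zb4) (kb xb29 yb23 zb2) (kb xb21 yb23 zb31) (kb xb21 yb23 zb11) (kb xb19 yb28 zb61) (kb xb25 yb17 zb59) (kb xb29 yb22 zb59) (kb xb20 yb20 zb37) (kb xb26 yb49 zb4) (kb xb11 yb19 zb41) (kb xb20 yb19 zb44) (kb xb11 yb19 zb40)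 (kb xb29 yb23 zb7) (kb xb20 yb27 zb5) (kb xb26 yb59 zb40) (kb xb15 yb24 zb22) (kb xb29 yb23 zb8) (kb xb24 yb22 zb31) (kb xb26 yb50 zb31) (kb xb20 yb45 zb32) (kb xb29 yb22 zb23) (kb xb11 yb30 zb46) (kb xb20 yb20 zb34) (kb xb20 yb51 zb13) (kb xb12 yb40 zb39) (kb xb11 yb19 zb47) (kb xb29 yb23 zb10) (kb xb20 yb40 zb28) (kb xb20 yb40 zb29) (kb xb18 yb15 zb37) (kb xb29 yb23 zb12) (kb xb29 yb23 zb14) (kb xb19 yb28 zb60) (kb xb15 yb37 zb30) (kb xb18 yb12 zb31) (kb xb11 yb19 zb52) (kb xb13 yb1 zb28)) (@D3.rec (fun _ => Pt) (kb xb28 yb39 zb9) (kb xb11 yb19 zb57) (kb xb29 yb23 zb16) (kb xb11 yb22 zb30) (kb xb21 yb22 zb3) (kb xb11 yb19 zb60) (kb xb21 yb21 zb22) (kb xb11 yb20 zb0) (kb xb11 yb20 zb1) (kb xb28 yb9 zb55) (kb xb27 yb22 zb21) (kb xb24 yb4 zb57) (kb xb27 yb53 zb32) (kb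 xb18 yb39 zb48) (kb xb13 yb58 zb47) (kb xb24 yb2 zb49) (kb xb20 yb23 zb55) (kb xb11 yb20 zb3) (kb xb24 yb24 zb51) (kb xb16 yb24 zb59) (kb xb20 yb40 zb31) (kb xb20 yb17 zb36) (kb xb11 yb20 zb10) (kb xb26 yb52 zb1) (kb xb11 yb22 zb8) (kb xb11 yb21 zb0) (kb xb11 yb20 zb19) (kb xb19 yb57 zb32) (kb xb25 yb42 zb33) (kb xb11 yb20 zb14) (kb xb11 yb20 zb15) (kb xb29 yb23 zb25) (kb xb21 yb41 zb46) (kb xb14 yb11 zb36) (kb xb11 yb20 zb16) (kb xb24 yb30 zb9) (kb xb20 yb17 zb21) (kb xb11 yb20 zb23) (kb xb11 yb20 zb21) (kb xb17 yb13 zb38) (kb xb28 yb9 zb12) (kb xb11 yb22 zb44) (kb xb23 yb10 zb48) (kb xb11 yb20 zb25) (kb xb29 yb23 zb27) (kb xb26 yb25 zb32) (kb xb19 yb50 zb34) (kb xb29 yb23 zb30) (kb xb11 yb20 zb29) (kb xb29 yb23 zb33) (kb xb19 yb50 zb12) (kb xb29 yb23 zb34) (kb xb11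 yb20 zb30) (kb xb25 yb55 zb25) (kb xb11 yb20 zb33) (kb xb11 yb20 zb32) (kb xb29 yb23 zb38) (kb xb11 yb39 zb48) (kb xb26 yb59 zb18) (kb xb11 yb20 zb34) (kb xb23 yb7 zb42) (kb xb11 yb20 zb37)) (@D3.rec (fun _ => Pt) (kb xb11 yb20 zb36) (kb xb29 yb23 zb46) (kb xb29 yb23 zb47) (kb xb11 yb20 zb38) (kb xb23 yb8 zb44) (kb xb11 yb20 zb39) (kb xb29 yb23 zb51) (kb xb28 yb49 zb27) (kb xb29 yb21 zb49) (kb xb11 yb20 zb41) (kb xb25 yb55 zb24) (kb xb16 yb25 zb59) (kb xb11 yb20 zb43) (kb xb27 yb31 zb15) (kb xb29 yb23 zb58) (kb xb17 yb2 zb36) (kb xb16 yb25 zb24) (kb xb29 yb14 zb43) (kb xb21 yb51 zb30) (kb xb20 yb36 zb34) (kb xb20 yb36 zb35) (kb xb17 yb2 zb51) (kb xb19 yb1 zb38) (kb xb20 yb36 zb40) (kb xb11 yb20 zb52) (kb xb25 yb28 zb36) (kb xb14 yb28 zb33) (kb xb24 yb9 zb44) (kb xb19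 yb1 zb1) (kb xb11 yb20 zb53) (kb xb20 yb32 zb50) (kb xb20 yb37 zb27) (kb xb29 yb24 zb11) (kb xb13 yb59 zb17) (kb xb23 yb46 zb42) (kb xb20 yb15 zb48) (kb xb16 yb25 zb38) (kb xb11 yb20 zb56) (kb xb11 yb59 zb27) (kb xb29 yb24 zb14) (kb xb21 yb54 zb2) (kb xb16 yb10 zb44) (kb xb21 yb53 zb37) (kb xb29 yb11 zb45) (kb xb11 yb20 zb61) (kb xb14 yb59 zb50) (kb xb14 yb59 zb51) (kb xb26 yb52 zb32) (kb xb20 yb4 zb38) (kb xb11 yb21 zb3) (kb xb16 yb29 zb34) (kb xb16 yb29 zb35) (kb xb20 yb30 zb25) (kb xb24 yb53 zb32) (kb xb26 yb44 zb2) (kb xb18 yb13 zb3) (kb xb11 yb21 zb12) (kb xb15 yb26 zb46) (kb xb13 yb19 zb10) (kb xb20 yb30 zb49) (kb xb17 yb20 zb14) (kb xb20 yb46 zb35)) (@D3.rec (fun _ => Pt) (kb xb22 yb32 zb38) (kb xb29 yb24 zb21) (kb xb11 yb21 zb21) (kb xb27 yb55 zb5) (kb xb22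 yb58 zb38) (kb xb25 yb54 zb38) (kb xb29 yb24 zb26) (kb xb11 yb21 zb22) (kb xb28 yb56 zb27) (kb xb16 yb24 zb23) (kb xb20 yb58 zb15) (kb xb23 yb23 zb1) (kb xb12 yb51 zb31) (kb xb20 yb25 zb48) (kb xb12 yb31 zb5) (kb xb11 yb21 zb36) (kb xb22 yb42 zb29) (kb xb21 yb54 zb30) (kb xb26 yb13 zb1) (kb xb16 yb7 zb38) (kb xb21 yb30 zb8) (kb xb11 yb21 zb41) (kb xb26 yb1 zb22) (kb xb12 yb39 zb28) (kb xb29 yb22 zb32) (kb xb12 yb31 zb18) (kb xb18 yb16 zb2) (kb xb27 yb43 zb19) (kb xb11 yb21 zb45) (kb xb20 yb33 zb3) (kb xb11 yb21 zb52) (kb xb29 yb24 zb29) (kb xb11 yb21 zb49) (kb xb11 yb21 zb48) (kb xb11 yb21 zb51) (kb xb12 yb22 zb45) (kb xb16 yb36 zb12) (kb xb20 yb20 zb47) (kb xb21 yb36 zb49) (kb xb13 yb38 zb46) (kb xb15 yb4 zb56) (kb xb11 yb31 zb7) (kb xb14 yb11 zb39) (kb xb11 yb22 zb2)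 (kb xb20 yb16 zb35) (kb xb23 yb3 zb20) (kb xb23 yb4 zb7) (kb xb11 yb22 zb6) (kb xb14 yb33 zb51) (kb xb21 yb44 zb51) (kb xb12 yb6 zb50) (kb xb25 yb18 zb5) (kb xb16 yb29 zb31) (kb xb11 yb22 zb13) (kb xb11 yb31 zb50) (kb xb21 yb16 zb15) (kb xb12 yb30 zb59) (kb xb20 yb7 zb12) (kb xb11 yb22 zb18) (kb xb11 yb22 zb17) (kb xb12 yb2 zb37) (kb xb14 yb18 zb24)) (@D3.rec (fun _ => Pt) (kb xb11 yb22 zb22) (kb xb29 yb24 zb34) (kb xb29 yb8 zb38) (kb xb26 yb46 zb27) (kb xb20 yb9 zb5) (kb xb11 yb22 zb25) (kb xb15 yb4 zb33) (kb xb23 yb57 zb2) (kb xb28 yb17 zb2) (kb xb11 yb22 zb27) (kb xb26 yb22 zb30) (kb xb27 yb43 zb0) (kb xb29 yb24 zb37) (kb xb22 yb40 zb28) (kb xb26 yb23 zb42) (kb xb21 yb31 zb60) (kb xb19 yb58 zb40) (kb xb29 yb24 zb44) (kb xb19 yb27 zb56) (kb xb24 yb32 zb46) (kb xb21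 yb45 zb54) (kb xb12 yb15 zb7) (kb xb29 yb24 zb45) (kb xb20 yb12 zb44) (kb xb13 yb24 zb14) (kb xb11 yb22 zb35) (kb xb22 yb20 zb45) (kb xb11 yb22 zb38) (kb xb15 yb7 zb29) (kb xb12 yb32 zb13) (kb xb11 yb22 zb46) (kb xb11 yb22 zb47) (kb xb20 yb30 zb37) (kb xb11 yb22 zb50) (kb xb20 yb16 zb47) (kb xb14 yb48 zb39) (kb xb11 yb22 zb54) (kb xb20 yb16 zb32) (kb xb11 yb22 zb56) (kb xb17 yb8 zb11) (kb xb24 yb19 zb56) (kb xb20 yb54 zb2) (kb xb11 yb22 zb59) (kb xb24 yb4 zb61) (kb xb24 yb34 zb20) (kb xb28 yb42 zb59) (kb xb11 yb48 zb10) (kb xb20 yb19 zb37) (kb xb21 yb13 zb10) (kb xb20 yb14 zb53) (kb xb18 yb26 zb3) (kb xb15 yb25 zb51) (kb xb29 yb24 zb51) (kb xb11 yb23 zb11) (kb xb13 yb27 zb56) (kb xb11 yb23 zb12) (kb xb11 yb23 zb40) (kb xb11 yb23 zb16) (kb xb18 yb54 zb40) (kb xb11 yb23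 zb19) (kb xb12 yb2 zb33) (kb xb29 yb24 zb55)) (@D3.rec (fun _ => Pt) (kb xb18 yb53 zb52) (kb xb28 yb43 zb30) (kb xb18 yb20 zb40) (kb xb11 yb23 zb22) (kb xb28 yb12 zb38) (kb xb11 yb23 zb24) (kb xb29 yb24 zb60) (kb xb26 yb20 zb19) (kb xb19 yb0 zb7) (kb xb24 yb46 zb12) (kb xb11 yb23 zb28) (kb xb27 yb32 zb18) (kb xb26 yb20 zb1) (kb xb24 yb46 zb37) (kb xb22 yb29 zb15) (kb xb11 yb23 zb30) (kb xb18 yb13 zb26) (kb xb13 yb30 zb32) (kb xb28 yb10 zb37) (kb xb22 yb28 zb45) (kb xb18 yb30 zb57) (kb xb11 yb23 zb36) (kb xb29 yb25 zb11) (kb xb28 yb15 zb31) (kb xb17 yb47 zb34) (kb xb11 yb23 zb38) (kb xb11 yb23 zb39) (kb xb27 yb34 zb29) (kb xb17 yb46 zb25) (kb xb26 yb5 zb19) (kb xb18 yb20 zb53) (kb xb11 yb23 zb41) (kb xb18 yb34 zb7) (kb xb24 yb55 zb51) (kb xb11 yb23 zb45) (kb xb28 yb7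 zb51) (kb xb24 yb55 zb56) (kb xb22 yb50 zb6) (kb xb28 yb18 zb5) (kb xb21 yb30 zb32) (kb xb11 yb23 zb49) (kb xb29 yb25 zb20) (kb xb11 yb42 zb28) (kb xb24 yb30 zb35) (kb xb27 yb8 zb16) (kb xb20 yb11 zb40) (kb xb11 yb23 zb51) (kb xb29 yb25 zb26) (kb xb28 yb22 zb44) (kb xb12 yb6 zb48) (kb xb11 yb23 zb55) (kb xb11 yb24 zb0) (kb xb20 yb7 zb1) (kb xb20 yb15 zb15) (kb xb11 yb24 zb4) (kb xb29 yb25 zb31) (kb xb24 yb54 zb12) (kb xb21 yb41 zb9) (kb xb20 yb11 zb47) (kb xb11 yb24 zb8) (kb xb14 yb20 zb12) (kb xb20 yb36 zb3)) (@D3.rec (fun _ => Pt) (kb xb16 yb59 zb52) (kb xb12 yb44 zb49) (kb xb20 yb28 zb1) (kb xb18 yb23 zb41) (kb xb12 yb28 zb58) (kb xb12 yb28 zb59) (kb xb11 yb24 zb19) (kb xb18 yb39 zb50) (kb xb11 yb24 zb20) (kb xb12 yb38 zb41) (kb xb11 yb24 zb25) (kb xb11 yb24 zb26)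 (kb xb26 yb55 zb15) (kb xb26 yb55 zb16) (kb xb18 yb43 zb10) (kb xb11 yb24 zb31) (kb xb23 yb36 zb31) (kb xb28 yb18 zb2) (kb xb25 yb17 zb29) (kb xb28 yb54 zb56) (kb xb20 yb27 zb58) (kb xb11 yb24 zb37) (kb xb16 yb59 zb33) (kb xb19 yb48 zb56) (kb xb17 yb4 zb60) (kb xb23 yb16 zb50) (kb xb12 yb23 zb7) (kb xb11 yb24 zb45) (kb xb21 yb3 zb6) (kb xb20 yb26 zb48) (kb xb20 yb28 zb4) (kb xb18 yb18 zb41) (kb xb14 yb10 zb55) (kb xb11 yb25 zb1) (kb xb11 yb25 zb5) (kb xb11 yb25 zb6) (kb xb11 yb25 zb4) (kb xb27 yb42 zb16) (kb xb12 yb11 zb58) (kb xb14 yb13 zb51) (kb xb11 yb27 zb26) (kb xb11 yb45 zb25) (kb xb11 yb28 zb33) (kb xb17 yb57 zb47) (kb xb16 yb29 zb57) (kb xb17 yb56 zb21) (kb xb20 yb25 zb18) (kb xb12 yb30 zb9) (kb xb11 yb29 zb2) (kb xb11 yb28 zb26) (kb xb17 yb57 zb53) (kb xb20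 yb26 zb47) (kb xb12 yb5 zb37) (kb xb11 yb25 zb28) (kb xb12 yb17 zb31) (kb xb11 yb34 zb56) (kb xb12 yb29 zb45) (kb xb17 yb59 zb58) (kb xb11 yb25 zb45) (kb xb12 yb29 zb12) (kb xb11 yb40 zb57) (kb xb19 yb27 zb55)) (@D3.rec (fun _ => Pt) (kb xb11 yb40 zb60) (kb xb11 yb34 zb52) (kb xb24 yb14 zb26) (kb xb11 yb25 zb38) (kb xb29 yb25 zb42) (kb xb29 yb25 zb43) (kb xb24 yb14 zb30) (kb xb16 yb45 zb13) (kb xb24 yb35 zb37) (kb xb19 yb28 zb49) (kb xb25 yb18 zb47) (kb xb25 yb18 zb48) (kb xb21 yb19 zb41) (kb xb27 yb42 zb55) (kb xb24 yb11 zb14) (kb xb25 yb44 zb47) (kb xb12 yb53 zb39) (kb xb21 yb41 zb34) (kb xb21 yb35 zb1) (kb xb11 yb25 zb48) (kb xb11 yb25 zb51) (kb xb27 yb59 zb37) (kb xb11 yb46 zb53) (kb xb29 yb25 zb54) (kb xb29 yb25 zb57) (kb xb23 yb19 zb47) (kb xb21 yb33 zb34) (kb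 xb11 yb25 zb56) (kb xb29 yb25 zb61) (kb xb29 yb25 zb60) (kb xb23 yb26 zb17) (kb xb11 yb25 zb58) (kb xb16 yb3 zb17) (kb xb12 yb56 zb23) (kb xb11 yb27 zb17) (kb xb19 yb24 zb59) (kb xb24 yb15 zb22) (kb xb14 yb16 zb49) (kb xb11 yb26 zb7) (kb xb29 yb26 zb4) (kb xb22 yb21 zb24) (kb xb13 yb24 zb22) (kb xb12 yb45 zb32) (kb xb11 yb26 zb11) (kb xb27 yb10 zb33) (kb xb12 yb51 zb50) (kb xb29 yb26 zb14) (kb xb11 yb26 zb13) (kb xb29 yb26 zb15) (kb xb22 yb26 zb40) (kb xb11 yb26 zb14) (kb xb14 yb41 zb53) (kb xb29 yb26 zb19) (kb xb29 yb26 zb20) (kb xb29 yb26 zb22) (kb xb20 yb17 zb16) (kb xb29 yb26 zb23) (kb xb29 yb26 zb24) (kb xb11 yb26 zb16) (kb xb27 yb19 zb24) (kb xb29 yb26 zb30) (kb xb11 yb27 zb9)) (@D3.rec (fun _ => Pt) (kb xb22 yb3 zb22) (kb xb21 yb12 zb22) (kb xb11 yb27 zb14) (kb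 xb11 yb26 zb22) (kb xb24 yb30 zb13) (kb xb27 yb7 zb31) (kb xb28 yb39 zb20) (kb xb21 yb52 zb33) (kb xb17 yb55 zb59) (kb xb13 yb58 zb30) (kb xb29 yb26 zb36) (kb xb19 yb18 zb33) (kb xb11 yb26 zb27) (kb xb24 yb1 zb29) (kb xb15 yb45 zb60) (kb xb11 yb27 zb4) (kb xb11 yb26 zb35) (kb xb11 yb26 zb36) (kb xb11 yb26 zb32) (kb xb29 yb26 zb41) (kb xb24 yb25 zb5) (kb xb27 yb9 zb59) (kb xb26 yb2 zb33) (kb xb23 yb35 zb4) (kb xb29 yb26 zb40) (kb xb29 yb21 zb44) (kb xb22 yb3 zb36) (kb xb26 yb3 zb56) (kb xb11 yb26 zb39) (kb xb11 yb26 zb40) (kb xb21 yb29 zb54) (kb xb13 yb52 zb45) (kb xb11 yb26 zb38) (kb xb24 yb27 zb24) (kb xb25 yb39 zb55) (kb xb21 yb52 zb40) (kb xb11 yb26 zb43) (kb xb11 yb26 zb42) (kb xb22 yb4 zb11) (kb xb23 yb47 zb6) (kb xb11 yb26 zb44) (kb xb14 yb43 zb36) (kb xb29 yb26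 zb44) (kb xb14 yb39 zb54) (kb xb26 yb59 zb44) (kb xb14 yb45 zb52) (kb xb11 yb27 zb36) (kb xb11 yb27 zb28) (kb xb28 yb0 zb59) (kb xb11 yb26 zb55) (kb xb25 yb39 zb59) (kb xb17 yb8 zb26) (kb xb11 yb27 zb0) (kb xb21 yb14 zb49) (kb xb14 yb5 zb14) (kb xb25 yb39 zb60) (kb xb23 yb26 zb29) (kb xb11 yb27 zb2) (kb xb29 yb26 zb53) (kb xb29 yb26 zb54) (kb xb27 yb35 zb51) (kb xb25 yb12 zb56)) (@D3.rec (fun _ => Pt) (kb xb14 yb43 zb18) (kb xb12 yb35 zb22) (kb xb29 yb26 zb58) (kb xb22 yb37 zb55) (kb xb26 yb53 zb13) (kb xb11 yb27 zb7) (kb xb11 yb42 zb30) (kb xb26 yb59 zb5) (kb xb21 yb16 zb18) (kb xb11 yb31 zb33) (kb xb11 yb51 zb57) (kb xb29 yb26 zb61) (kb xb29 yb27 zb0) (kb xb20 yb59 zb31) (kb xb29 yb27 zb2) (kb xb29 yb24 zb33) (kb xb12 yb31 zb57) (kb xb11 yb27 zb19) (kb xb20 yb22 zb46)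 (kb xb16 yb25 zb15) (kb xb20 yb9 zb4) (kb xb12 yb29 zb39) (kb xb20 yb30 zb14) (kb xb27 yb9 zb30) (kb xb16 yb52 zb20) (kb xb20 yb50 zb60) (kb xb23 yb7 zb37) (kb xb15 yb8 zb15) (kb xb29 yb26 zb39) (kb xb17 yb18 zb12) (kb xb14 yb21 zb13) (kb xb20 yb28 zb18) (kb xb27 yb9 zb24) (kb xb17 yb8 zb18) (kb xb11 yb27 zb51) (kb xb27 yb12 zb48) (kb xb20 yb47 zb23) (kb xb11 yb37 zb13) (kb xb14 yb31 zb12) (kb xb11 yb28 zb1) (kb xb13 yb31 zb35) (kb xb13 yb31 zb36) (kb xb24 yb47 zb35) (kb xb11 yb36 zb24) (kb xb11 yb28 zb5) (kb xb28 yb48 zb42) (kb xb16 yb28 zb25) (kb xb18 yb58 zb3) (kb xb20 yb19 zb13) (kb xb20 yb13 zb35) (kb xb11 yb28 zb11) (kb xb16 yb29 zb36) (kb xb12 yb32 zb29) (kb xb28 yb58 zb18) (kb xb11 yb28 zb22) (kb xb20 yb28 zb22) (kb xb17 yb57 zb56) (kb xb29 yb25 zb40) (kb xb17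 yb58 zb27) (kb xb11 yb28 zb32) (kb xb23 yb53 zb54) (kb xb29 yb25 zb37)) (@D3.rec (fun _ => Pt) (kb xb11 yb58 zb29) (kb xb18 yb42 zb13) (kb xb11 yb28 zb44) (kb xb12 yb49 zb10) (kb xb11 yb29 zb3) (kb xb27 yb56 zb9) (kb xb12 yb49 zb60) (kb xb11 yb28 zb51) (kb xb11 yb28 zb52) (kb xb11 yb30 zb39) (kb xb17 yb55 zb30) (kb xb11 yb28 zb58) (kb xb16 yb56 zb45) (kb xb11 yb28 zb60) (kb xb18 yb57 zb53) (kb xb21 yb42 zb39) (kb xb12 yb36 zb42) (kb xb12 yb30 zb8) (kb xb20 yb0 zb52) (kb xb14 yb59 zb57) (kb xb11 yb29 zb14) (kb xb16 yb29 zb49) (kb xb23 yb4 zb21) (kb xb14 yb2 zb12) (kb xb19 yb33 zb49) (kb xb11 yb29 zb17) (kb xb23 yb23 zb2) (kb xb27 yb42 zb13) (kb xb18 yb26 zb15) (kb xb15 yb26 zb52) (kb xb18 yb43 zb11) (kb xb17 yb31 zb59) (kb xb11 yb58 zb1) (kb xb11 yb29 zb31) (kb xb29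 yb27 zb16) (kb xb11 yb29 zb32) (kb xb29 yb27 zb18) (kb xb29 yb18 zb2) (kb xb11 yb29 zb33) (kb xb29 yb27 zb23) (kb xb24 yb10 zb38) (kb xb17 yb50 zb3) (kb xb11 yb29 zb35) (kb xb29 yb14 zb21) (kb xb29 yb27 zb30) (kb xb29 yb27 zb29) (kb xb11 yb31 zb15) (kb xb20 yb22 zb51) (kb xb20 yb22 zb29) (kb xb11 yb31 zb2) (kb xb18 yb23 zb32) (kb xb25 yb23 zb46) (kb xb11 yb29 zb47) (kb xb26 yb45 zb37) (kb xb14 yb26 zb17) (kb xb27 yb6 zb34) (kb xb27 yb6 zb35) (kb xb20 yb29 zb3) (kb xb27 yb6 zb36) (kb xb14 yb18 zb52) (kb xb15 yb27 zb2) (kb xb23 yb49 zb23)) (@D3.rec (fun _ => Pt) (kb xb21 yb42 zb46) (kb xb12 yb4 zb46) (kb xb12 yb4 zb47) (kb xb13 yb58 zb39) (kb xb27 yb41 zb7) (kb xb20 yb16 zb38) (kb xb11 yb30 zb58) (kb xb11 yb30 zb1) (kb xb22 yb22 zb29) (kb xb22 yb22 zb30) (kb xb11 yb30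 zb0) (kb xb29 yb27 zb39) (kb xb21 yb40 zb16) (kb xb17 yb20 zb4) (kb xb28 yb56 zb26) (kb xb29 yb27 zb42) (kb xb17 yb25 zb44) (kb xb11 yb30 zb3) (kb xb11 yb30 zb7) (kb xb17 yb20 zb61) (kb xb24 yb2 zb40) (kb xb17 yb26 zb48) (kb xb29 yb27 zb43) (kb xb13 yb8 zb23) (kb xb23 yb48 zb46) (kb xb13 yb19 zb1) (kb xb22 yb17 zb58) (kb xb14 yb14 zb54) (kb xb25 yb45 zb53) (kb xb11 yb30 zb49) (kb xb12 yb17 zb7) (kb xb11 yb30 zb24) (kb xb12 yb36 zb28) (kb xb11 yb36 zb8) (kb xb21 yb53 zb24) (kb xb11 yb30 zb31) (kb xb17 yb34 zb49) (kb xb16 yb48 zb40) (kb xb20 yb14 zb4) (kb xb12 yb12 zb57) (kb xb12 yb12 zb58) (kb xb12 yb4 zb54) (kb xb11 yb30 zb34) (kb xb21 yb26 zb33) (kb xb29 yb27 zb45) (kb xb21 yb28 zb29) (kb xb24 yb19 zb45) (kb xb28 yb57 zb49) (kb xb20 yb0 zb38) (kb xb13 yb58 zb42) (kb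 xb11 yb30 zb48) (kb xb16 yb55 zb27) (kb xb11 yb30 zb51) (kb xb29 yb6 zb39) (kb xb11 yb30 zb52) (kb xb24 yb31 zb4) (kb xb29 yb22 zb9) (kb xb15 yb25 zb17) (kb xb20 yb22 zb20) (kb xb25 yb23 zb38) (kb xb22 yb22 zb49) (kb xb20 yb40 zb33)) (@D3.rec (fun _ => Pt) (kb xb11 yb31 zb5) (kb xb20 yb22 zb2) (kb xb27 yb42 zb14) (kb xb23 yb49 zb22) (kb xb20 yb22 zb30) (kb xb11 yb31 zb52) (kb xb11 yb31 zb20) (kb xb26 yb40 zb12) (kb xb11 yb31 zb30) (kb xb11 yb31 zb28) (kb xb21 yb32 zb20) (kb xb11 yb31 zb35) (kb xb11 yb31 zb36) (kb xb11 yb31 zb39) (kb xb29 yb27 zb49) (kb xb21 yb53 zb15) (kb xb19 yb40 zb6) (kb xb27 yb36 zb48) (kb xb20 yb25 zb31) (kb xb19 yb10 zb42) (kb xb13 yb44 zb27) (kb xb20 yb53 zb55) (kb xb20 yb25 zb55) (kb xb11 yb37 zb5) (kb xb11 yb31 zb46) (kb xb16 yb56 zb37) (kb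 xb19 yb16 zb10) (kb xb11 yb31 zb48) (kb xb17 yb59 zb51) (kb xb19 yb52 zb49) (kb xb11 yb31 zb53) (kb xb21 yb46 zb11) (kb xb29 yb27 zb56) (kb xb25 yb37 zb56) (kb xb12 yb35 zb40) (kb xb23 yb55 zb54) (kb xb24 yb39 zb24) (kb xb29 yb27 zb58) (kb xb19 yb24 zb9) (kb xb24 yb16 zb55) (kb xb11 yb54 zb41) (kb xb29 yb28 zb0) (kb xb21 yb11 zb13) (kb xb13 yb21 zb43) (kb xb19 yb4 zb18) (kb xb22 yb52 zb14) (kb xb23 yb4 zb42) (kb xb14 yb25 zb37) (kb xb14 yb28 zb21) (kb xb23 yb5 zb4) (kb xb17 yb57 zb42) (kb xb11 yb32 zb8) (kb xb14 yb18 zb35) (kb xb29 yb28 zb4) (kb xb11 yb32 zb11) (kb xb13 yb45 zb48) (kb xb11 yb32 zb12) (kb xb14 yb28 zb16) (kb xb13 yb36 zb50) (kb xb29 yb28 zb7) (kb xb15 yb51 zb29) (kb xb11 yb32 zb16)) (@D3.rec (fun _ => Pt) (kb xb29 yb28 zb9) (kb xb11 yb32 zb18) (kb xb29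 yb28 zb10) (kb xb20 yb26 zb57) (kb xb19 yb40 zb21) (kb xb11 yb32 zb21) (kb xb24 yb14 zb31) (kb xb29 yb28 zb11) (kb xb13 yb36 zb24) (kb xb16 yb43 zb16) (kb xb11 yb32 zb23) (kb xb13 yb31 zb31) (kb xb28 yb42 zb21) (kb xb26 yb54 zb57) (kb xb11 yb32 zb26) (kb xb16 yb28 zb36) (kb xb29 yb28 zb17) (kb xb11 yb32 zb29) (kb xb28 yb49 zb23) (kb xb19 yb57 zb2) (kb xb29 yb28 zb19) (kb xb19 yb8 zb44) (kb xb19 yb8 zb45) (kb xb11 yb50 zb55) (kb xb11 yb32 zb33) (kb xb29 yb28 zb22) (kb xb14 yb28 zb4) (kb xb26 yb20 zb15) (kb xb29 yb28 zb25) (kb xb16 yb40 zb2) (kb xb11 yb32 zb43) (kb xb25 yb4 zb50) (kb xb11 yb32 zb38) (kb xb22 yb9 zb26) (kb xb29 yb28 zb23) (kb xb26 yb31 zb10) (kb xb29 yb28 zb29) (kb xb11 yb32 zb39) (kb xb29 yb28 zb38) (kb xb25 yb43 zb16) (kb xb15 yb35 zb34) (kb xb24 yb8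 zb7) (kb xb11 yb32 zb41) (kb xb22 yb9 zb49) (kb xb28 yb38 zb23) (kb xb29 yb28 zb42) (kb xb11 yb32 zb42) (kb xb18 yb41 zb43) (kb xb23 yb1 zb46) (kb xb11 yb32 zb45) (kb xb24 yb33 zb39) (kb xb24 yb22 zb10) (kb xb24 yb33 zb45) (kb xb25 yb23 zb18) (kb xb24 yb38 zb17) (kb xb24 yb47 zb19) (kb xb19 yb40 zb33) (kb xb11 yb53 zb24) (kb xb11 yb32 zb53) (kb xb11 yb55 zb50) (kb xb20 yb0 zb60) (kb xb15 yb13 zb31)) (@D3.rec (fun _ => Pt) (kb xb19 yb39 zb49) (kb xb18 yb18 zb56) (kb xb17 yb22 zb22) (kb xb12 yb22 zb23) (kb xb21 yb15 zb8) (kb xb12 yb10 zb19) (kb xb24 yb46 zb59) (kb xb11 yb33 zb2) (kb xb29 yb28 zb53) (kb xb29 yb28 zb52) (kb xb29 yb18 zb21) (kb xb17 yb24 zb21) (kb xb29 yb18 zb55) (kb xb26 yb32 zb17) (kb xb20 yb25 zb22) (kb xb22 yb17 zb37) (kb xb24 yb5 zb30) (kb xb24 yb57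 zb7) (kb xb27 yb58 zb23) (kb xb23 yb10 zb35) (kb xb26 yb56 zb39) (kb xb24 yb55 zb52) (kb xb13 yb42 zb37) (kb xb11 yb33 zb9) (kb xb22 yb52 zb16) (kb xb20 yb18 zb52) (kb xb23 yb37 zb45) (kb xb23 yb46 zb26) (kb xb11 yb33 zb15) (kb xb29 yb29 zb8) (kb xb19 yb27 zb52) (kb xb29 yb23 zb42) (kb xb19 yb48 zb3) (kb xb15 yb56 zb18) (kb xb14 yb28 zb61) (kb xb14 yb25 zb10) (kb xb11 yb33 zb18) (kb xb20 yb20 zb32) (kb xb11 yb33 zb26) (kb xb22 yb40 zb19) (kb xb14 yb41 zb61) (kb xb11 yb48 zb32) (kb xb24 yb56 zb53) (kb xb24 yb56 zb54) (kb xb29 yb23 zb61) (kb xb16 yb29 zb19) (kb xb24 yb31 zb51) (kb xb11 yb33 zb39) (kb xb29 yb29 zb13) (kb xb20 yb18 zb59) (kb xb13 yb54 zb2) (kb xb29 yb22 zb17) (kb xb29 yb21 zb46) (kb xb26 yb28 zb22) (kb xb11 yb33 zb37) (kb xb19 yb47 zb37) (kb xb27 yb0 zb55)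 (kb xb15 yb12 zb39) (kb xb19 yb48 zb19) (kb xb26 yb57 zb38) (kb xb24 yb31 zb29) (kb xb25 yb2 zb28)) (@D3.rec (fun _ => Pt) (kb xb25 yb18 zb16) (kb xb11 yb33 zb41) (kb xb23 yb18 zb29) (kb xb23 yb32 zb55) (kb xb14 yb11 zb7) (kb xb14 yb11 zb8) (kb xb29 yb29 zb22) (kb xb18 yb24 zb29) (kb xb13 yb19 zb26) (kb xb13 yb19 zb27) (kb xb13 yb10 zb51) (kb xb14 yb26 zb10) (kb xb14 yb52 zb33) (kb xb11 yb33 zb52) (kb xb26 yb10 zb10) (kb xb21 yb15 zb47) (kb xb17 yb8 zb5) (kb xb21 yb16 zb10) (kb xb16 yb52 zb3) (kb xb11 yb45 zb54) (kb xb11 yb45 zb55) (kb xb26 yb28 zb47) (kb xb12 yb46 zb11) (kb xb13 yb39 zb45) (kb xb23 yb10 zb33) (kb xb20 yb34 zb52) (kb xb13 yb42 zb7) (kb xb12 yb5 zb15) (kb xb23 yb9 zb59) (kb xb22 yb47 zb31) (kb xb16 yb33 zb12) (kb xb16 yb33 zb13) (kb xb26 yb49 zb59) (kb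 xb21 yb8 zb61) (kb xb17 yb23 zb28) (kb xb17 yb23 zb29) (kb xb11 yb34 zb7) (kb xb29 yb29 zb40) (kb xb13 yb51 zb32) (kb xb29 yb29 zb39) (kb xb21 yb12 zb31) (kb xb12 yb21 zb56) (kb xb12 yb21 zb57) (kb xb25 yb16 zb22) (kb xb29 yb29 zb47) (kb xb26 yb33 zb6) (kb xb17 yb22 zb38) (kb xb22 yb5 zb12) (kb xb14 yb30 zb12) (kb xb22 yb32 zb41) (kb xb12 yb46 zb45) (kb xb18 yb48 zb21) (kb xb12 yb51 zb5) (kb xb20 yb1 zb9) (kb xb18 yb47 zb53) (kb xb27 yb10 zb50) (kb xb26 yb23 zb40) (kb xb17 yb15 zb20) (kb xb20 yb15 zb20) (kb xb11 yb34 zb23) (kb xb11 yb34 zb22) (kb xb20 yb47 zb52)) (@D3.rec (fun _ => Pt) (kb xb26 yb29 zb57) (kb xb16 yb27 zb48) (kb xb16 yb23 zb14) (kb xb11 yb34 zb27) (kb xb11 yb34 zb28) (kb xb24 yb22 zb38) (kb xb15 yb12 zb41) (kb xb15 yb10 zb12) (kb xb16 yb27 zb56) (kb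 xb25 yb11 zb45) (kb xb17 yb15 zb17) (kb xb23 yb3 zb9) (kb xb16 yb35 zb15) (kb xb16 yb35 zb16) (kb xb29 yb29 zb54) (kb xb24 yb58 zb60) (kb xb22 yb42 zb6) (kb xb29 yb7 zb42) (kb xb26 yb23 zb6) (kb xb19 yb48 zb11) (kb xb16 yb28 zb2) (kb xb21 yb55 zb55) (kb xb11 yb34 zb36) (kb xb23 yb14 zb29) (kb xb13 yb47 zb40) (kb xb26 yb31 zb19) (kb xb20 yb36 zb10) (kb xb22 yb48 zb14) (kb xb22 yb42 zb13) (kb xb13 yb48 zb37) (kb xb29 yb30 zb1) (kb xb11 yb34 zb37) (kb xb22 yb54 zb29) (kb xb13 yb48 zb56) (kb xb23 yb20 zb28) (kb xb23 yb24 zb13) (kb xb11 yb34 zb41) (kb xb11 yb34 zb40) (kb xb23 yb20 zb2) (kb xb13 yb46 zb50) (kb xb16 yb10 zb27) (kb xb29 yb30 zb7) (kb xb11 yb34 zb42) (kb xb29 yb29 zb5) (kb xb25 yb18 zb15) (kb xb24 yb57 zb10) (kb xb18 yb18 zb49) (kb xb28 yb12 zb10) (kb xb29 yb29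 zb19) (kb xb11 yb34 zb45) (kb xb20 yb18 zb30) (kb xb28 yb21 zb16) (kb xb26 yb23 zb4) (kb xb24 yb30 zb60) (kb xb26 yb26 zb33) (kb xb15 yb12 zb54) (kb xb17 yb22 zb34) (kb xb21 yb38 zb17) (kb xb12 yb29 zb46) (kb xb16 yb53 zb29) (kb xb19 yb50 zb26) (kb xb20 yb13 zb24)) (@D3.rec (fun _ => Pt) (kb xb11 yb35 zb2) (kb xb21 yb3 zb51) (kb xb11 yb36 zb3) (kb xb20 yb19 zb29) (kb xb18 yb22 zb40) (kb xb11 yb35 zb19) (kb xb28 yb0 zb28) (kb xb18 yb42 zb59) (kb xb11 yb35 zb11) (kb xb28 yb28 zb5) (kb xb23 yb17 zb46) (kb xb26 yb7 zb23) (kb xb22 yb30 zb47) (kb xb21 yb49 zb36) (kb xb27 yb2 zb45) (kb xb28 yb56 zb19) (kb xb14 yb35 zb40) (kb xb17 yb22 zb44) (kb xb29 yb30 zb18) (kb xb14 yb35 zb41) (kb xb14 yb20 zb51) (kb xb24 yb2 zb18) (kb xb21 yb38 zb15) (kb xb23 yb17 zb53) (kb xb23 yb33 zb10)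 (kb xb11 yb35 zb24) (kb xb11 yb35 zb23) (kb xb23 yb19 zb22) (kb xb13 yb55 zb13) (kb xb29 yb29 zb60) (kb xb13 yb34 zb19) (kb xb19 yb40 zb2) (kb xb28 yb13 zb38) (kb xb14 yb22 zb31) (kb xb11 yb58 zb20) (kb xb11 yb35 zb36) (kb xb20 yb37 zb48) (kb xb11 yb35 zb31) (kb xb11 yb35 zb34) (kb xb27 yb2 zb47) (kb xb22 yb36 zb2) (kb xb27 yb2 zb50) (kb xb29 yb30 zb31) (kb xb21 yb52 zb31) (kb xb14 yb18 zb48) (kb xb29 yb30 zb32) (kb xb26 yb55 zb12) (kb xb23 yb46 zb46) (kb xb28 yb55 zb34) (kb xb14 yb32 zb28) (kb xb17 yb12 zb1) (kb xb17 yb12 zb2) (kb xb14 yb23 zb14) (kb xb11 yb35 zb43) (kb xb23 yb54 zb12) (kb xb29 yb30 zb36) (kb xb20 yb41 zb4) (kb xb29 yb26 zb1) (kb xb13 yb17 zb49) (kb xb29 yb30 zb47) (kb xb11 yb35 zb50) (kb xb12 yb56 zb58)) (@D3.rec (fun _ => Pt) (kb xb25 yb36 zb13)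 (kb xb11 yb35 zb49) (kb xb16 yb26 zb22) (kb xb26 yb51 zb3) (kb xb29 yb21 zb14) (kb xb18 yb57 zb48) (kb xb18 yb57 zb50) (kb xb11 yb35 zb53) (kb xb14 yb31 zb42) (kb xb29 yb30 zb51) (kb xb11 yb40 zb52) (kb xb19 yb27 zb38) (kb xb26 yb55 zb9) (kb xb23 yb52 zb38) (kb xb11 yb36 zb9) (kb xb24 yb18 zb34) (kb xb26 yb53 zb61) (kb xb12 yb35 zb18) (kb xb21 yb36 zb14) (kb xb12 yb35 zb2) (kb xb14 yb25 zb60) (kb xb11 yb36 zb12) (kb xb11 yb36 zb11) (kb xb27 yb10 zb31) (kb xb12 yb34 zb40) (kb xb21 yb26 zb32) (kb xb26 yb10 zb53) (kb xb11 yb36 zb14) (kb xb17 yb12 zb58) (kb xb23 yb3 zb46) (kb xb11 yb36 zb22) (kb xb11 yb39 zb57) (kb xb16 yb9 zb28) (kb xb27 yb4 zb50) (kb xb24 yb36 zb36) (kb xb17 yb4 zb58) (kb xb20 yb45 zb54) (kb xb20 yb13 zb56) (kb xb21 yb51 zb24) (kb xb17 yb3 zb3) (kb xb21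 yb51 zb6) (kb xb21 yb51 zb32) (kb xb12 yb45 zb34) (kb xb18 yb25 zb23) (kb xb26 yb26 zb12) (kb xb11 yb36 zb33) (kb xb16 yb48 zb34) (kb xb29 yb30 zb61) (kb xb16 yb48 zb25) (kb xb26 yb26 zb15) (kb xb29 yb9 zb10) (kb xb24 yb8 zb14) (kb xb20 yb31 zb25) (kb xb21 yb42 zb44) (kb xb12 yb59 zb25) (kb xb11 yb36 zb41) (kb xb21 yb50 zb46) (kb xb28 yb0 zb60) (kb xb13 yb13 zb41) (kb xb21 yb26 zb56) (kb xb16 yb53 zb14) (kb xb16 yb56 zb22)) (@D3.rec (fun _ => Pt) (kb xb11 yb36 zb47) (kb xb24 yb9 zb24) (kb xb12 yb45 zb41) (kb xb26 yb31 zb61) (kb xb25 yb35 zb59) (kb xb25 yb59 zb14) (kb xb16 yb29 zb59) (kb xb28 yb50 zb39) (kb xb28 yb34 zb61) (kb xb24 yb53 zb27) (kb xb14 yb18 zb26) (kb xb29 yb31 zb14) (kb xb24 yb12 zb14) (kb xb11 yb36 zb54) (kb xb29 yb31 zb17) (kb xb21 yb45 zb42) (kb xb21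 yb45 zb43) (kb xb11 yb36 zb57) (kb xb29 yb31 zb19) (kb xb27 yb50 zb38) (kb xb27 yb56 zb20) (kb xb19 yb51 zb48) (kb xb21 yb7 zb44) (kb xb16 yb36 zb26) (kb xb28 yb44 zb21) (kb xb26 yb58 zb50) (kb xb20 yb58 zb25) (kb xb29 yb26 zb31) (kb xb11 yb37 zb2) (kb xb29 yb31 zb21) (kb xb14 yb23 zb8) (kb xb11 yb37 zb4) (kb xb29 yb31 zb23) (kb xb29 yb27 zb54) (kb xb11 yb37 zb6) (kb xb29 yb31 zb27) (kb xb11 yb37 zb7) (kb xb29 yb31 zb29) (kb xb29 yb31 zb30) (kb xb29 yb31 zb32) (kb xb11 yb37 zb9) (kb xb20 yb57 zb37) (kb xb29 yb31 zb35) (kb xb22 yb26 zb4) (kb xb29 yb31 zb34) (kb xb12 yb22 zb58) (kb xb20 yb0 zb30) (kb xb11 yb37 zb17) (kb xb12 yb56 zb16) (kb xb22 yb51 zb6) (kb xb24 yb57 zb22) (kb xb11 yb37 zb18) (kb xb26 yb46 zb28) (kb xb12 yb5 zb55) (kb xb26 yb22 zb13) (kb xb12 yb5 zb60)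 (kb xb13 yb33 zb55) (kb xb26 yb56 zb43) (kb xb12 yb6 zb2) (kb xb24 yb12 zb45) (kb xb22 yb48 zb36) (kb xb11 yb37 zb39)) (@D3.rec (fun _ => Pt) (kb xb11 yb37 zb35) (kb xb12 yb39 zb17) (kb xb18 yb23 zb23) (kb xb20 yb21 zb61) (kb xb16 yb23 zb47) (kb xb16 yb23 zb21) (kb xb12 yb44 zb3) (kb xb14 yb56 zb56) (kb xb13 yb33 zb57) (kb xb25 yb0 zb7) (kb xb20 yb32 zb26) (kb xb18 yb43 zb5) (kb xb12 yb3 zb53) (kb xb21 yb35 zb41) (kb xb11 yb37 zb48) (kb xb11 yb37 zb49) (kb xb21 yb17 zb49) (kb xb25 yb18 zb58) (kb xb21 yb24 zb48) (kb xb21 yb31 zb28) (kb xb17 yb37 zb10) (kb xb27 yb20 zb52) (kb xb15 yb6 zb11) (kb xb11 yb59 zb25) (kb xb11 yb37 zb51) (kb xb29 yb31 zb54) (kb xb23 yb10 zb15) (kb xb17 yb56 zb59) (kb xb14 yb17 zb33) (kb xb17 yb57 zb0) (kb xb20 yb14 zb2) (kb xb29 yb20 zb1) (kb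 xb20 yb8 zb54) (kb xb15 yb5 zb60) (kb xb20 yb18 zb19) (kb xb20 yb18 zb20) (kb xb11 yb37 zb57) (kb xb14 yb27 zb9) (kb xb23 yb21 zb37) (kb xb28 yb28 zb21) (kb xb20 yb18 zb23) (kb xb24 yb12 zb41) (kb xb19 yb30 zb51) (kb xb22 yb59 zb39) (kb xb22 yb59 zb52) (kb xb17 yb57 zb14) (kb xb15 yb30 zb23) (kb xb22 yb52 zb22) (kb xb24 yb8 zb61) (kb xb29 yb32 zb6) (kb xb11 yb38 zb1) (kb xb29 yb32 zb11) (kb xb29 yb32 zb12) (kb xb17 yb57 zb22) (kb xb13 yb33 zb52) (kb xb15 yb30 zb21) (kb xb11 yb38 zb4) (kb xb29 yb32 zb21) (kb xb29 yb18 zb50) (kb xb26 yb49 zb36) (kb xb24 yb14 zb3) (kb xb11 yb38 zb9)) (@D3.rec (fun _ => Pt) (kb xb23 yb45 zb29) (kb xb29 yb32 zb24) (kb xb11 yb38 zb7) (kb xb28 yb39 zb7) (kb xb14 yb27 zb52) (kb xb26 yb23 zb49) (kb xb17 yb57 zb31) (kb xb22 yb48 zb22) (kb xb11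 yb38 zb12) (kb xb11 yb38 zb11) (kb xb22 yb27 zb22) (kb xb14 yb27 zb39) (kb xb17 yb57 zb34) (kb xb13 yb40 zb32) (kb xb22 yb55 zb24) (kb xb28 yb34 zb17) (kb xb24 yb13 zb13) (kb xb11 yb38 zb14) (kb xb29 yb32 zb31) (kb xb23 yb57 zb40) (kb xb14 yb31 zb56) (kb xb25 yb59 zb18) (kb xb11 yb38 zb16) (kb xb11 yb38 zb17) (kb xb29 yb32 zb33) (kb xb29 yb32 zb34) (kb xb29 yb32 zb37) (kb xb20 yb18 zb31) (kb xb21 yb7 zb30) (kb xb12 yb45 zb4) (kb xb16 yb2 zb34) (kb xb25 yb36 zb56) (kb xb11 yb38 zb23) (kb xb22 yb8 zb36) (kb xb29 yb20 zb13) (kb xb11 yb39 zb54) (kb xb11 yb38 zb33) (kb xb11 yb38 zb34) (kb xb27 yb36 zb37) (kb xb17 yb59 zb25) (kb xb11 yb38 zb31) (kb xb21 yb53 zb11) (kb xb25 yb17 zb5) (kb xb28 yb1 zb33) (kb xb26 yb58 zb40) (kb xb29 yb32 zb45) (kb xb29 yb1 zb0) (kb xb26 yb53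 zb6) (kb xb20 yb33 zb36) (kb xb12 yb11 zb23) (kb xb12 yb11 zb13) (kb xb11 yb38 zb42) (kb xb17 yb33 zb22) (kb xb28 yb1 zb41) (kb xb20 yb51 zb21) (kb xb28 yb57 zb29) (kb xb21 yb43 zb13) (kb xb12 yb28 zb17) (kb xb12 yb35 zb4) (kb xb11 yb38 zb48) (kb xb11 yb38 zb49) (kb xb19 yb46 zb33)) (@D3.rec (fun _ => Pt) (kb xb26 yb58 zb19) (kb xb27 yb38 zb36) (kb xb22 yb35 zb18) (kb xb12 yb27 zb59) (kb xb28 yb1 zb17) (kb xb11 yb38 zb52) (kb xb11 yb38 zb53) (kb xb12 yb57 zb57) (kb xb16 yb58 zb2) (kb xb24 yb21 zb42) (kb xb28 yb6 zb45) (kb xb11 yb38 zb57) (kb xb29 yb32 zb52) (kb xb18 yb39 zb29) (kb xb29 yb32 zb54) (kb xb22 yb52 zb7) (kb xb12 yb42 zb44) (kb xb25 yb23 zb50) (kb xb14 yb41 zb47) (kb xb19 yb47 zb20) (kb xb29 yb32 zb57) (kb xb16 yb40 zb11) (kb xb11 yb38 zb60) (kb xb29 yb32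 zb58) (kb xb17 yb15 zb51) (kb xb11 yb39 zb5) (kb xb11 yb39 zb6) (kb xb22 yb18 zb40) (kb xb18 yb32 zb4) (kb xb12 yb43 zb8) (kb xb29 yb33 zb0) (kb xb11 yb39 zb7) (kb xb29 yb33 zb2) (kb xb16 yb40 zb5) (kb xb29 yb33 zb4) (kb xb28 yb44 zb28) (kb xb26 yb59 zb45) (kb xb11 yb39 zb12) (kb xb29 yb33 zb8) (kb xb11 yb39 zb13) (kb xb26 yb58 zb28) (kb xb29 yb10 zb55) (kb xb16 yb57 zb50) (kb xb20 yb58 zb24) (kb xb24 yb21 zb39) (kb xb29 yb26 zb26) (kb xb26 yb42 zb39) (kb xb16 yb41 zb5) (kb xb19 yb53 zb36) (kb xb29 yb1 zb44) (kb xb11 yb39 zb20) (kb xb11 yb39 zb19) (kb xb16 yb44 zb57) (kb xb29 yb19 zb31) (kb xb29 yb33 zb14) (kb xb11 yb53 zb35) (kb xb20 yb54 zb1) (kb xb11 yb39 zb22) (kb xb11 yb39 zb23) (kb xb29 yb33 zb22) (kb xb29 yb33 zb29) (kb xb22 yb4 zb22)) (@D3.rec (fun _ => Pt)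 (kb xb17 yb26 zb29) (kb xb29 yb33 zb24) (kb xb29 yb33 zb36) (kb xb11 yb39 zb26) (kb xb29 yb33 zb38) (kb xb11 yb39 zb27) (kb xb26 yb35 zb33) (kb xb29 yb33 zb39) (kb xb26 yb36 zb7) (kb xb11 yb39 zb29) (kb xb11 yb39 zb30) (kb xb29 yb33 zb44) (kb xb29 yb33 zb46) (kb xb29 yb33 zb43) (kb xb22 yb4 zb14) (kb xb26 yb37 zb0) (kb xb26 yb36 zb4) (kb xb29 yb27 zb52) (kb xb11 yb39 zb33) (kb xb29 yb33 zb51) (kb xb20 yb53 zb61) (kb xb20 yb58 zb42) (kb xb11 yb39 zb37) (kb xb11 yb39 zb38) (kb xb26 yb2 zb41) (kb xb29 yb33 zb59) (kb xb20 yb57 zb21) (kb xb29 yb33 zb58) (kb xb27 yb10 zb57) (kb xb29 yb34 zb0) (kb xb24 yb4 zb11) (kb xb24 yb35 zb17) (kb xb11 yb39 zb40) (kb xb29 yb34 zb7) (kb xb11 yb39 zb41) (kb xb29 yb34 zb13) (kb xb11 yb39 zb42) (kb xb29 yb34 zb18) (kb xb11 yb39 zb43) (kb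 xb29 yb34 zb25) (kb xb28 yb30 zb10) (kb xb29 yb34 zb30) (kb xb28 yb39 zb55) (kb xb26 yb36 zb31) (kb xb16 yb41 zb47) (kb xb29 yb34 zb33) (kb xb26 yb36 zb33) (kb xb15 yb48 zb35) (kb xb28 yb56 zb45) (kb xb29 yb34 zb36) (kb xb27 yb7 zb18) (kb xb27 yb7 zb19) (kb xb14 yb36 zb55) (kb xb29 yb29 zb21) (kb xb29 yb34 zb42) (kb xb12 yb32 zb36) (kb xb14 yb31 zb36) (kb xb12 yb32 zb40) (kb xb29 yb34 zb43) (kb xb11 yb39 zb55) (kb xb23 yb23 zb41) (kb xb18 yb16 zb61)) (@D3.rec (fun _ => Pt) (kb xb12 yb32 zb49) (kb xb12 yb32 zb50) (kb xb29 yb34 zb44) (kb xb14 yb50 zb40) (kb xb25 yb43 zb24) (kb xb21 yb1 zb61) (kb xb15 yb29 zb43) (kb xb29 yb34 zb46) (kb xb17 yb53 zb49) (kb xb17 yb53 zb51) (kb xb13 yb33 zb36) (kb xb25 yb26 zb8) (kb xb11 yb47 zb60) (kb xb11 yb40 zb8) (kb xb25 yb56 zb6) (kb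 xb16 yb55 zb4) (kb xb19 yb5 zb32) (kb xb16 yb7 zb42) (kb xb21 yb8 zb21) (kb xb21 yb6 zb60) (kb xb18 yb25 zb4) (kb xb21 yb41 zb48) (kb xb21 yb38 zb14) (kb xb11 yb41 zb31) (kb xb18 yb39 zb39) (kb xb22 yb11 zb3) (kb xb11 yb40 zb29) (kb xb11 yb40 zb30) (kb xb20 yb16 zb52) (kb xb20 yb16 zb53) (kb xb11 yb40 zb35) (kb xb20 yb17 zb20) (kb xb23 yb57 zb8) (kb xb20 yb27 zb61) (kb xb14 yb31 zb3) (kb xb21 yb40 zb19) (kb xb11 yb40 zb54) (kb xb11 yb40 zb55) (kb xb22 yb37 zb8) (kb xb26 yb50 zb43) (kb xb26 yb50 zb0) (kb xb29 yb35 zb0) (kb xb24 yb6 zb19) (kb xb11 yb40 zb58) (kb xb24 yb1 zb54) (kb xb11 yb41 zb3) (kb xb21 yb35 zb6) (kb xb11 yb41 zb4) (kb xb16 yb56 zb32) (kb xb16 yb26 zb14) (kb xb29 yb35 zb2) (kb xb23 yb49 zb24) (kb xb18 yb55 zb37) (kb xb29 yb35 zb7) (kb xb22 yb0 zb27)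 (kb xb16 yb27 zb33) (kb xb17 yb34 zb11) (kb xb11 yb42 zb23) (kb xb21 yb41 zb35) (kb xb11 yb41 zb11) (kb xb28 yb1 zb31) (kb xb23 yb55 zb21)) (@D3.rec (fun _ => Pt) (kb xb15 yb26 zb55) (kb xb11 yb41 zb14) (kb xb26 yb48 zb61) (kb xb23 yb55 zb25) (kb xb20 yb33 zb56) (kb xb13 yb18 zb11) (kb xb11 yb41 zb17) (kb xb14 yb12 zb41) (kb xb11 yb41 zb24) (kb xb11 yb41 zb25) (kb xb11 yb41 zb28) (kb xb20 yb47 zb61) (kb xb11 yb41 zb22) (kb xb25 yb18 zb10) (kb xb20 yb52 zb24) (kb xb24 yb25 zb36) (kb xb26 yb58 zb49) (kb xb24 yb20 zb17) (kb xb29 yb25 zb23) (kb xb27 yb2 zb9) (kb xb22 yb37 zb33) (kb xb11 yb41 zb26) (kb xb29 yb35 zb18) (kb xb24 yb7 zb4) (kb xb22 yb6 zb55) (kb xb29 yb35 zb22) (kb xb26 yb53 zb29) (kb xb29 yb35 zb25) (kb xb29 yb35 zb26) (kb xb27 yb46 zb57) (kb xb11 yb41 zb30)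 (kb xb13 yb32 zb49) (kb xb11 yb41 zb33) (kb xb29 yb35 zb30) (kb xb25 yb50 zb49) (kb xb14 yb18 zb43) (kb xb14 yb0 zb50) (kb xb11 yb43 zb5) (kb xb19 yb51 zb28) (kb xb12 yb55 zb27) (kb xb29 yb35 zb31) (kb xb11 yb47 zb37) (kb xb11 yb41 zb42) (kb xb29 yb35 zb36) (kb xb21 yb39 zb57) (kb xb13 yb9 zb57) (kb xb11 yb41 zb47) (kb xb21 yb37 zb21) (kb xb21 yb38 zb26) (kb xb11 yb41 zb50) (kb xb29 yb35 zb39) (kb xb23 yb4 zb4) (kb xb23 yb47 zb5) (kb xb13 yb21 zb0) (kb xb13 yb21 zb1) (kb xb23 yb47 zb10) (kb xb13 yb21 zb3) (kb xb22 yb41 zb41) (kb xb24 yb6 zb9) (kb xb16 yb48 zb27) (kb xb17 yb4 zb42) (kb xb19 yb27 zb35)) (@D3.rec (fun _ => Pt) (kb xb24 yb18 zb13) (kb xb29 yb35 zb55) (kb xb15 yb28 zb22) (kb xb11 yb41 zb59) (kb xb29 yb35 zb61) (kb xb29 yb36 zb0) (kb xb11 yb42 zb51) (kb xb11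 yb42 zb55) (kb xb20 yb54 zb28) (kb xb24 yb3 zb41) (kb xb29 yb35 zb35) (kb xb11 yb42 zb2) (kb xb11 yb42 zb3) (kb xb29 yb36 zb16) (kb xb29 yb36 zb14) (kb xb29 yb36 zb13) (kb xb29 yb36 zb15) (kb xb11 yb50 zb39) (kb xb11 yb56 zb38) (kb xb12 yb36 zb16) (kb xb17 yb35 zb6) (kb xb12 yb1 zb39) (kb xb11 yb42 zb9) (kb xb12 yb1 zb46) (kb xb12 yb20 zb35) (kb xb11 yb42 zb10) (kb xb21 yb36 zb47) (kb xb18 yb17 zb28) (kb xb19 yb46 zb26) (kb xb29 yb36 zb23) (kb xb17 yb8 zb19) (kb xb28 yb16 zb4) (kb xb11 yb42 zb17) (kb xb11 yb42 zb19) (kb xb25 yb55 zb32) (kb xb23 yb9 zb43) (kb xb19 yb36 zb45) (kb xb20 yb49 zb41) (kb xb23 yb8 zb5) (kb xb29 yb35 zb8) (kb xb24 yb27 zb59) (kb xb11 yb42 zb29) (kb xb14 yb13 zb4) (kb xb14 yb13 zb5) (kb xb14 yb13 zb7) (kb xb29 yb36 zb32) (kb xb11 yb42 zb27) (kb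 xb12 yb4 zb0) (kb xb29 yb36 zb33) (kb xb12 yb3 zb59) (kb xb17 yb54 zb60) (kb xb29 yb25 zb22) (kb xb29 yb36 zb40) (kb xb29 yb36 zb42) (kb xb29 yb36 zb44) (kb xb29 yb26 zb60) (kb xb17 yb58 zb30) (kb xb29 yb36 zb46) (kb xb23 yb53 zb15) (kb xb28 yb37 zb53) (kb xb26 yb53 zb47) (kb xb19 yb23 zb11)) (@D3.rec (fun _ => Pt) (kb xb11 yb42 zb35) (kb xb11 yb42 zb36) (kb xb22 yb38 zb32) (kb xb29 yb36 zb54) (kb xb29 yb36 zb55) (kb xb19 yb23 zb18) (kb xb11 yb42 zb38) (kb xb29 yb36 zb60) (kb xb29 yb36 zb59) (kb xb27 yb15 zb17) (kb xb29 yb37 zb0) (kb xb11 yb42 zb39) (kb xb29 yb37 zb4) (kb xb29 yb37 zb5) (kb xb11 yb42 zb42) (kb xb11 yb42 zb43) (kb xb29 yb37 zb8) (kb xb29 yb37 zb7) (kb xb11 yb42 zb44) (kb xb25 yb33 zb10) (kb xb11 yb42 zb45) (kb xb29 yb37 zb9) (kb xb11 yb42 zb46) (kb xb14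 yb20 zb44) (kb xb11 yb42 zb47) (kb xb24 yb39 zb4) (kb xb11 yb42 zb49) (kb xb11 yb42 zb50) (kb xb25 yb46 zb12) (kb xb29 yb37 zb13) (kb xb22 yb57 zb19) (kb xb15 yb40 zb4) (kb xb15 yb34 zb13) (kb xb15 yb34 zb14) (kb xb11 yb42 zb54) (kb xb14 yb22 zb32) (kb xb29 yb37 zb20) (kb xb29 yb37 zb21) (kb xb29 yb37 zb17) (kb xb25 yb48 zb45) (kb xb19 yb38 zb20) (kb xb29 yb36 zb6) (kb xb29 yb37 zb25) (kb xb19 yb49 zb36) (kb xb24 yb12 zb25) (kb xb14 yb51 zb18) (kb xb11 yb43 zb0) (kb xb15 yb18 zb3) (kb xb25 yb14 zb2) (kb xb11 yb43 zb3) (kb xb24 yb39 zb2) (kb xb11 yb43 zb4) (kb xb29 yb14 zb18) (kb xb13 yb28 zb13) (kb xb22 yb54 zb27) (kb xb29 yb37 zb35) (kb xb11 yb43 zb12) (kb xb11 yb43 zb13) (kb xb11 yb43 zb8) (kb xb29 yb6 zb32) (kb xb11 yb43 zb9) (kb xb25 yb36 zb32)) (@D3.rec (fun _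 => Pt) (kb xb11 yb43 zb10) (kb xb24 yb8 zb49) (kb xb15 yb40 zb3) (kb xb15 yb40 zb8) (kb xb29 yb37 zb48) (kb xb15 yb34 zb15) (kb xb25 yb33 zb16) (kb xb12 yb16 zb10) (kb xb17 yb6 zb31) (kb xb21 yb16 zb0) (kb xb11 yb43 zb23) (kb xb11 yb43 zb24) (kb xb24 yb12 zb3) (kb xb11 yb43 zb18) (kb xb29 yb37 zb58) (kb xb24 yb21 zb32) (kb xb24 yb30 zb12) (kb xb29 yb38 zb1) (kb xb11 yb43 zb30) (kb xb27 yb5 zb15) (kb xb20 yb10 zb25) (kb xb11 yb43 zb22) (kb xb22 yb38 zb22) (kb xb29 yb38 zb6) (kb xb24 yb21 zb30) (kb xb18 yb49 zb7) (kb xb29 yb37 zb56) (kb xb11 yb43 zb26) (kb xb29 yb38 zb10) (kb xb21 yb11 zb14) (kb xb11 yb43 zb27) (kb xb29 yb38 zb13) (kb xb28 yb48 zb45) (kb xb22 yb58 zb50) (kb xb29 yb38 zb14) (kb xb11 yb43 zb29) (kb xb29 yb32 zb29) (kb xb11 yb43 zb31) (kb xb13 yb41 zb40)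 (kb xb26 yb44 zb9) (kb xb20 yb8 zb32) (kb xb12 yb53 zb16) (kb xb11 yb43 zb38) (kb xb12 yb38 zb1) (kb xb11 yb46 zb49) (kb xb11 yb43 zb35) (kb xb29 yb26 zb17) (kb xb24 yb11 zb32) (kb xb24 yb11 zb33) (kb xb23 yb3 zb53) (kb xb11 yb43 zb37) (kb xb28 yb36 zb42) (kb xb14 yb13 zb41) (kb xb11 yb47 zb20) (kb xb11 yb43 zb42) (kb xb11 yb43 zb43) (kb xb27 yb29 zb21) (kb xb11 yb43 zb49) (kb xb11 yb43 zb51) (kb xb21 yb35 zb37) (kb xb18 yb47 zb21) (kb xb26 yb11 zb10)) (@D3.rec (fun _ => Pt) (kb xb21 yb35 zb48) (kb xb11 yb43 zb50) (kb xb21 yb36 zb28) (kb xb27 yb29 zb28) (kb xb29 yb38 zb20) (kb xb21 yb21 zb28) (kb xb27 yb0 zb53) (kb xb12 yb37 zb29) (kb xb29 yb38 zb22) (kb xb28 yb46 zb50) (kb xb11 yb44 zb1) (kb xb19 yb9 zb59) (kb xb11 yb44 zb4) (kb xb27 yb6 zb10) (kb xb27 yb10 zb29) (kb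 xb13 yb18 zb18) (kb xb17 yb9 zb15) (kb xb25 yb25 zb27) (kb xb11 yb44 zb15) (kb xb11 yb44 zb16) (kb xb19 yb22 zb13) (kb xb11 yb44 zb8) (kb xb27 yb54 zb0) (kb xb27 yb9 zb5) (kb xb29 yb38 zb28) (kb xb26 yb17 zb14) (kb xb11 yb44 zb22) (kb xb18 yb23 zb26) (kb xb16 yb45 zb6) (kb xb24 yb47 zb1) (kb xb20 yb10 zb5) (kb xb11 yb44 zb13) (kb xb20 yb16 zb44) (kb xb17 yb47 zb40) (kb xb29 yb38 zb35) (kb xb18 yb15 zb33) (kb xb18 yb48 zb31) (kb xb11 yb44 zb19) (kb xb16 yb33 zb7) (kb xb18 yb21 zb25) (kb xb29 yb38 zb40) (kb xb29 yb38 zb41) (kb xb19 yb11 zb45) (kb xb28 yb4 zb27) (kb xb18 yb31 zb55) (kb xb11 yb44 zb21) (kb xb27 yb40 zb6) (kb xb29 yb38 zb47) (kb xb29 yb7 zb60) (kb xb11 yb44 zb23) (kb xb29 yb38 zb50) (kb xb28 yb0 zb61) (kb xb13 yb27 zb11) (kb xb11 yb48 zb44) (kb xb20 yb34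 zb36) (kb xb29 yb38 zb52) (kb xb12 yb45 zb19) (kb xb17 yb25 zb33) (kb xb14 yb32 zb9) (kb xb14 yb19 zb51) (kb xb17 yb22 zb48) (kb xb11 yb44 zb38)) (@D3.rec (fun _ => Pt) (kb xb11 yb44 zb39) (kb xb25 yb48 zb27) (kb xb13 yb1 zb7) (kb xb11 yb45 zb6) (kb xb12 yb45 zb33) (kb xb23 yb55 zb30) (kb xb14 yb16 zb57) (kb xb11 yb44 zb52) (kb xb21 yb9 zb34) (kb xb25 yb52 zb27) (kb xb26 yb52 zb4) (kb xb20 yb59 zb43) (kb xb29 yb38 zb57) (kb xb11 yb44 zb57) (kb xb12 yb55 zb32) (kb xb13 yb18 zb32) (kb xb19 yb23 zb23) (kb xb11 yb44 zb60) (kb xb21 yb20 zb21) (kb xb29 yb38 zb60) (kb xb19 yb20 zb15) (kb xb21 yb47 zb43) (kb xb24 yb46 zb16) (kb xb21 yb44 zb4) (kb xb12 yb50 zb33) (kb xb11 yb45 zb8) (kb xb28 yb42 zb5) (kb xb27 yb0 zb52) (kb xb11 yb49 zb32) (kb xb11 yb45 zb14) (kb xb12 yb53 zb29)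 (kb xb18 yb15 zb16) (kb xb18 yb10 zb56) (kb xb27 yb9 zb11) (kb xb12 yb7 zb22) (kb xb20 yb18 zb61) (kb xb13 yb57 zb6) (kb xb26 yb22 zb2) (kb xb18 yb50 zb0) (kb xb11 yb45 zb30) (kb xb11 yb45 zb27) (kb xb29 yb39 zb9) (kb xb29 yb39 zb10) (kb xb11 yb45 zb28) (kb xb26 yb6 zb2) (kb xb15 yb36 zb21) (kb xb11 yb45 zb31) (kb xb29 yb39 zb14) (kb xb18 yb53 zb8) (kb xb28 yb6 zb36) (kb xb24 yb47 zb55) (kb xb11 yb45 zb33) (kb xb18 yb29 zb54) (kb xb27 yb48 zb24) (kb xb16 yb17 zb60) (kb xb11 yb45 zb36) (kb xb23 yb46 zb9) (kb xb18 yb21 zb15) (kb xb19 yb27 zb26) (kb xb15 yb56 zb33) (kb xb11 yb45 zb47) (kb xb11 yb45 zb48)) (@D3.rec (fun _ => Pt) (kb xb11 yb45 zb41) (kb xb29 yb9 zb1) (kb xb29 yb39 zb22) (kb xb27 yb11 zb49) (kb xb19 yb33 zb27) (kb xb24 yb20 zb1) (kb xb11 yb45 zb51) (kb xb11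 yb45 zb46) (kb xb29 yb39 zb26) (kb xb18 yb46 zb2) (kb xb21 yb55 zb14) (kb xb29 yb39 zb21) (kb xb21 yb3 zb58) (kb xb19 yb15 zb0) (kb xb28 yb45 zb47) (kb xb25 yb53 zb18) (kb xb11 yb45 zb53) (kb xb29 yb39 zb31) (kb xb29 yb25 zb33) (kb xb27 yb2 zb22) (kb xb29 yb39 zb35) (kb xb26 yb43 zb21) (kb xb29 yb29 zb33) (kb xb20 yb25 zb36) (kb xb13 yb14 zb29) (kb xb12 yb47 zb7) (kb xb13 yb30 zb17) (kb xb19 yb57 zb26) (kb xb18 yb8 zb43) (kb xb18 yb12 zb48) (kb xb13 yb47 zb27) (kb xb27 yb5 zb8) (kb xb19 yb16 zb49) (kb xb11 yb46 zb5) (kb xb11 yb46 zb3) (kb xb14 yb57 zb4) (kb xb29 yb39 zb42) (kb xb28 yb22 zb51) (kb xb22 yb58 zb47) (kb xb15 yb55 zb59) (kb xb22 yb58 zb48) (kb xb22 yb39 zb3) (kb xb20 yb11 zb36) (kb xb11 yb46 zb7) (kb xb11 yb46 zb8) (kb xb12 yb45 zb30) (kb xb14 yb10 zb28)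 (kb xb11 yb46 zb9) (kb xb24 yb30 zb11) (kb xb13 yb21 zb29) (kb xb11 yb46 zb10) (kb xb29 yb39 zb53) (kb xb20 yb31 zb61) (kb xb26 yb57 zb0) (kb xb23 yb34 zb25) (kb xb11 yb46 zb11) (kb xb28 yb22 zb31) (kb xb29 yb39 zb56) (kb xb27 yb14 zb37) (kb xb11 yb46 zb15) (kb xb20 yb52 zb2) (kb xb20 yb41 zb11)) (@D3.rec (fun _ => Pt) (kb xb11 yb46 zb16) (kb xb12 yb52 zb17) (kb xb27 yb12 zb22) (kb xb29 yb39 zb59) (kb xb29 yb39 zb60) (kb xb28 yb53 zb11) (kb xb28 yb39 zb25) (kb xb27 yb16 zb13) (kb xb27 yb11 zb44) (kb xb24 yb1 zb7) (kb xb27 yb16 zb3) (kb xb14 yb40 zb61) (kb xb11 yb46 zb24) (kb xb29 yb40 zb8) (kb xb11 yb46 zb28) (kb xb29 yb40 zb9) (kb xb29 yb40 zb11) (kb xb11 yb46 zb26) (kb xb22 yb0 zb55) (kb xb14 yb30 zb8) (kb xb22 yb38 zb18) (kb xb11 yb46 zb32) (kb xb11 yb46 zb30) (kb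 xb29 yb40 zb17) (kb xb21 yb10 zb24) (kb xb29 yb40 zb13) (kb xb11 yb46 zb33) (kb xb11 yb46 zb34) (kb xb29 yb40 zb27) (kb xb29 yb40 zb30) (kb xb19 yb29 zb1) (kb xb11 yb46 zb36) (kb xb11 yb46 zb37) (kb xb26 yb34 zb4) (kb xb29 yb40 zb34) (kb xb24 yb13 zb54) (kb xb18 yb0 zb50) (kb xb11 yb46 zb40) (kb xb20 yb54 zb5) (kb xb14 yb36 zb50) (kb xb14 yb36 zb27) (kb xb11 yb50 zb15) (kb xb11 yb46 zb47) (kb xb29 yb40 zb40) (kb xb29 yb40 zb39) (kb xb27 yb10 zb35) (kb xb24 yb5 zb55) (kb xb14 yb16 zb11) (kb xb27 yb17 zb7) (kb xb29 yb40 zb45) (kb xb29 yb40 zb47) (kb xb11 yb46 zb55) (kb xb11 yb46 zb57) (kb xb11 yb46 zb52) (kb xb28 yb47 zb23) (kb xb28 yb18 zb11) (kb xb11 yb46 zb54) (kb xb29 yb40 zb54) (kb xb29 yb40 zb56) (kb xb19 yb2 zb61) (kb xb26 yb57 zb14) (kb xb25 yb40 zb27)) (@D3.rec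 (fun _ => Pt) (kb xb25 yb45 zb1) (kb xb11 yb46 zb58) (kb xb25 yb17 zb28) (kb xb11 yb46 zb60) (kb xb25 yb16 zb49) (kb xb21 yb21 zb19) (kb xb21 yb21 zb20) (kb xb20 yb53 zb34) (kb xb27 yb12 zb46) (kb xb16 yb24 zb55) (kb xb11 yb47 zb3) (kb xb12 yb53 zb41) (kb xb15 yb5 zb19) (kb xb17 yb19 zb49) (kb xb17 yb19 zb37) (kb xb14 yb32 zb58) (kb xb11 yb47 zb12) (kb xb17 yb23 zb6) (kb xb14 yb35 zb7) (kb xb18 yb43 zb36) (kb xb12 yb51 zb21) (kb xb14 yb13 zb44) (kb xb12 yb51 zb23) (kb xb11 yb47 zb22) (kb xb19 yb7 zb41) (kb xb26 yb4 zb14) (kb xb13 yb40 zb5) (kb xb29 yb41 zb8) (kb xb26 yb42 zb6) (kb xb29 yb23 zb37) (kb xb11 yb47 zb29) (kb xb13 yb39 zb53) (kb xb16 yb49 zb10) (kb xb29 yb41 zb14) (kb xb13 yb43 zb21) (kb xb29 yb41 zb12) (kb xb25 yb5 zb53) (kb xb20 yb51 zb56) (kb xb17 yb42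 zb7) (kb xb26 yb5 zb6) (kb xb27 yb36 zb49) (kb xb20 yb42 zb37) (kb xb11 yb47 zb34) (kb xb11 yb47 zb35) (kb xb23 yb54 zb48) (kb xb29 yb41 zb29) (kb xb29 yb41 zb24) (kb xb29 yb41 zb25) (kb xb25 yb59 zb55) (kb xb29 yb23 zb45) (kb xb11 yb47 zb40) (kb xb11 yb47 zb41) (kb xb16 yb0 zb60) (kb xb16 yb49 zb9) (kb xb23 yb47 zb31) (kb xb29 yb0 zb15) (kb xb25 yb55 zb36) (kb xb17 yb4 zb53) (kb xb11 yb47 zb44) (kb xb29 yb41 zb36) (kb xb29 yb41 zb37) (kb xb18 yb52 zb51)) (@D3.rec (fun _ => Pt) (kb xb24 yb5 zb10) (kb xb26 yb23 zb53) (kb xb11 yb47 zb47) (kb xb11 yb47 zb48) (kb xb29 yb41 zb45) (kb xb24 yb3 zb39) (kb xb29 yb12 zb39) (kb xb29 yb41 zb46) (kb xb26 yb44 zb42) (kb xb11 yb51 zb16) (kb xb26 yb30 zb60) (kb xb13 yb43 zb3) (kb xb29 yb23 zb50) (kb xb11 yb47 zb53) (kb xb11 yb47 zb54)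 (kb xb25 yb26 zb6) (kb xb15 yb31 zb39) (kb xb24 yb33 zb38) (kb xb19 yb27 zb31) (kb xb11 yb47 zb56) (kb xb29 yb16 zb45) (kb xb20 yb15 zb19) (kb xb24 yb49 zb60) (kb xb25 yb25 zb55) (kb xb17 yb22 zb5) (kb xb11 yb47 zb59) (kb xb17 yb56 zb53) (kb xb16 yb26 zb26) (kb xb25 yb5 zb13) (kb xb29 yb34 zb51) (kb xb16 yb43 zb26) (kb xb16 yb26 zb30) (kb xb29 yb42 zb13) (kb xb11 yb48 zb2) (kb xb11 yb48 zb0) (kb xb29 yb42 zb16) (kb xb11 yb48 zb1) (kb xb28 yb23 zb33) (kb xb29 yb16 zb33) (kb xb25 yb55 zb57) (kb xb29 yb42 zb15) (kb xb16 yb47 zb43) (kb xb12 yb34 zb9) (kb xb29 yb19 zb37) (kb xb13 yb16 zb48) (kb xb13 yb20 zb4) (kb xb20 yb12 zb55) (kb xb21 yb13 zb7) (kb xb23 yb49 zb9) (kb xb16 yb47 zb19) (kb xb13 yb17 zb11) (kb xb11 yb48 zb24) (kb xb21 yb51 zb39) (kb xb16 yb56 zb47) (kb xb13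 yb21 zb39) (kb xb13 yb17 zb12) (kb xb19 yb52 zb38) (kb xb23 yb43 zb0) (kb xb11 yb48 zb31) (kb xb22 yb23 zb36) (kb xb20 yb25 zb25) (kb xb14 yb42 zb37)) (@D3.rec (fun _ => Pt) (kb xb29 yb29 zb11) (kb xb11 yb48 zb33) (kb xb23 yb58 zb16) (kb xb13 yb16 zb31) (kb xb13 yb16 zb53) (kb xb26 yb49 zb32) (kb xb29 yb34 zb56) (kb xb27 yb38 zb9) (kb xb28 yb48 zb30) (kb xb12 yb41 zb50) (kb xb15 yb36 zb37) (kb xb22 yb20 zb47) (kb xb20 yb15 zb31) (kb xb20 yb16 zb48) (kb xb11 yb48 zb45) (kb xb22 yb16 zb8) (kb xb12 yb41 zb59) (kb xb11 yb48 zb52) (kb xb11 yb48 zb51) (kb xb12 yb53 zb28) (kb xb27 yb42 zb49) (kb xb20 yb37 zb54) (kb xb24 yb14 zb25) (kb xb12 yb15 zb1) (kb xb14 yb34 zb52) (kb xb20 yb2 zb6) (kb xb12 yb15 zb14) (kb xb21 yb30 zb31) (kb xb23 yb22 zb56) (kb xb23 yb47 zb41) (kb xb12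 yb40 zb61) (kb xb12 yb41 zb0) (kb xb17 yb59 zb60) (kb xb11 yb49 zb2) (kb xb27 yb36 zb38) (kb xb11 yb49 zb3) (kb xb12 yb15 zb31) (kb xb11 yb49 zb8) (kb xb12 yb17 zb4) (kb xb21 yb50 zb43) (kb xb21 yb50 zb44) (kb xb14 yb36 zb59) (kb xb14 yb37 zb4) (kb xb11 yb49 zb11) (kb xb24 yb2 zb26) (kb xb11 yb49 zb12) (kb xb27 yb43 zb24) (kb xb11 yb49 zb14) (kb xb21 yb50 zb54) (kb xb11 yb49 zb16) (kb xb21 yb7 zb28) (kb xb17 yb4 zb18) (kb xb11 yb49 zb23) (kb xb12 yb38 zb60) (kb xb12 yb23 zb22) (kb xb11 yb49 zb27) (kb xb20 yb49 zb37) (kb xb12 yb42 zb21) (kb xb21 yb30 zb22) (kb xb25 yb45 zb11) (kb xb11 yb49 zb41) (kb xb13 yb16 zb45)) (@D3.rec (fun _ => Pt) (kb xb20 yb0 zb27) (kb xb21 yb14 zb17) (kb xb20 yb47 zb60) (kb xb13 yb33 zb47) (kb xb23 yb3 zb54) (kb xb11 yb49 zb53) (kb xb18 yb21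 zb31) (kb xb13 yb50 zb37) (kb xb29 yb3 zb9) (kb xb11 yb49 zb60) (kb xb14 yb55 zb55) (kb xb19 yb53 zb10) (kb xb11 yb50 zb4) (kb xb24 yb9 zb7) (kb xb11 yb50 zb7) (kb xb11 yb50 zb8) (kb xb20 yb13 zb16) (kb xb11 yb50 zb9) (kb xb23 yb10 zb46) (kb xb27 yb20 zb25) (kb xb26 yb28 zb20) (kb xb29 yb19 zb7) (kb xb16 yb31 zb11) (kb xb17 yb19 zb7) (kb xb20 yb41 zb14) (kb xb27 yb54 zb29) (kb xb29 yb13 zb44) (kb xb11 yb50 zb14) (kb xb29 yb42 zb35) (kb xb14 yb42 zb31) (kb xb18 yb1 zb17) (kb xb11 yb50 zb17) (kb xb15 yb5 zb38) (kb xb28 yb32 zb44) (kb xb19 yb17 zb54) (kb xb19 yb59 zb51) (kb xb21 yb13 zb55) (kb xb11 yb50 zb19) (kb xb11 yb50 zb20) (kb xb22 yb47 zb33) (kb xb29 yb33 zb12) (kb xb26 yb51 zb39) (kb xb14 yb4 zb25) (kb xb26 yb22 zb7) (kb xb11 yb50 zb27) (kb xb18 yb0 zb36) (kb xb11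 yb50 zb30) (kb xb23 yb9 zb12) (kb xb26 yb26 zb36) (kb xb16 yb29 zb10) (kb xb16 yb33 zb60) (kb xb11 yb50 zb34) (kb xb23 yb45 zb31) (kb xb14 yb24 zb61) (kb xb16 yb49 zb14) (kb xb14 yb53 zb9) (kb xb21 yb22 zb45) (kb xb29 yb42 zb45) (kb xb24 yb11 zb35) (kb xb24 yb34 zb15) (kb xb14 yb36 zb11) (kb xb17 yb59 zb44)) (@D3.rec (fun _ => Pt) (kb xb11 yb50 zb50) (kb xb11 yb50 zb48) (kb xb13 yb44 zb11) (kb xb22 yb56 zb29) (kb xb18 yb56 zb26) (kb xb22 yb26 zb55) (kb xb21 yb47 zb38) (kb xb11 yb50 zb54) (kb xb29 yb2 zb26) (kb xb29 yb34 zb57) (kb xb19 yb49 zb25) (kb xb29 yb8 zb29) (kb xb11 yb50 zb58) (kb xb24 yb33 zb29) (kb xb18 yb13 zb44) (kb xb25 yb44 zb51) (kb xb11 yb51 zb0) (kb xb11 yb51 zb1) (kb xb11 yb50 zb61) (kb xb26 yb35 zb3) (kb xb11 yb51 zb4) (kb xb11 yb51 zb3) (kb xb11 yb51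 zb7) (kb xb29 yb42 zb54) (kb xb11 yb51 zb10) (kb xb23 yb24 zb55) (kb xb24 yb34 zb42) (kb xb13 yb9 zb39) (kb xb16 yb41 zb34) (kb xb24 yb39 zb15) (kb xb27 yb37 zb39) (kb xb11 yb51 zb14) (kb xb11 yb51 zb15) (kb xb24 yb3 zb48) (kb xb20 yb49 zb7) (kb xb11 yb51 zb20) (kb xb29 yb27 zb20) (kb xb17 yb49 zb55) (kb xb27 yb1 zb5) (kb xb29 yb41 zb39) (kb xb14 yb47 zb5) (kb xb20 yb1 zb52) (kb xb20 yb54 zb32) (kb xb21 yb47 zb23) (kb xb11 yb51 zb24) (kb xb11 yb51 zb25) (kb xb11 yb51 zb27) (kb xb14 yb45 zb61) (kb xb28 yb29 zb18) (kb xb11 yb51 zb32) (kb xb14 yb47 zb22) (kb xb29 yb23 zb44) (kb xb11 yb51 zb30) (kb xb29 yb43 zb2) (kb xb29 yb43 zb3) (kb xb20 yb28 zb21) (kb xb29 yb43 zb9) (kb xb24 yb33 zb10) (kb xb29 yb42 zb60) (kb xb14 yb48 zb44) (kb xb14 yb48 zb45) (kb xb20 yb39 zb20))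 (@D3.rec (fun _ => Pt) (kb xb21 yb47 zb37) (kb xb20 yb38 zb56) (kb xb20 yb20 zb41) (kb xb11 yb51 zb37) (kb xb24 yb33 zb25) (kb xb20 yb48 zb38) (kb xb29 yb43 zb19) (kb xb16 yb55 zb60) (kb xb16 yb55 zb56) (kb xb29 yb43 zb26) (kb xb24 yb33 zb58) (kb xb11 yb51 zb42) (kb xb27 yb0 zb57) (kb xb14 yb47 zb34) (kb xb11 yb51 zb44) (kb xb11 yb51 zb45) (kb xb29 yb43 zb30) (kb xb29 yb43 zb34) (kb xb29 yb43 zb36) (kb xb24 yb50 zb60) (kb xb21 yb24 zb14) (kb xb11 yb51 zb46) (kb xb19 yb29 zb16) (kb xb27 yb11 zb58) (kb xb11 yb51 zb47) (kb xb29 yb43 zb40) (kb xb14 yb1 zb35) (kb xb11 yb51 zb49) (kb xb20 yb42 zb8) (kb xb19 yb10 zb43) (kb xb29 yb43 zb42) (kb xb21 yb59 zb47) (kb xb20 yb53 zb42) (kb xb29 yb43 zb45) (kb xb29 yb43 zb47) (kb xb11 yb51 zb58) (kb xb11 yb51 zb56) (kb xb14 yb56 zb27)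 (kb xb29 yb6 zb33) (kb xb15 yb39 zb20) (kb xb11 yb52 zb0) (kb xb23 yb30 zb32) (kb xb29 yb16 zb57) (kb xb24 yb52 zb53) (kb xb16 yb17 zb32) (kb xb11 yb52 zb2) (kb xb11 yb52 zb3) (kb xb29 yb43 zb50) (kb xb29 yb43 zb51) (kb xb29 yb43 zb52) (kb xb13 yb22 zb12) (kb xb23 yb59 zb19) (kb xb25 yb34 zb46) (kb xb11 yb52 zb6) (kb xb24 yb43 zb32) (kb xb29 yb43 zb54) (kb xb22 yb39 zb8) (kb xb11 yb52 zb10) (kb xb22 yb39 zb2) (kb xb11 yb52 zb12) (kb xb25 yb8 zb3) (kb xb12 yb54 zb34)) (@D3.rec (fun _ => Pt) (kb xb21 yb51 zb56) (kb xb11 yb52 zb15) (kb xb19 yb19 zb24) (kb xb11 yb52 zb17) (kb xb29 yb37 zb59) (kb xb29 yb44 zb0) (kb xb21 yb1 zb23) (kb xb11 yb56 zb27) (kb xb11 yb52 zb21) (kb xb29 yb33 zb23) (kb xb29 yb44 zb5) (kb xb27 yb13 zb54) (kb xb29 yb44 zb3) (kb xb29 yb44 zb8) (kb xb26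 yb0 zb5) (kb xb20 yb57 zb49) (kb xb11 yb53 zb44) (kb xb11 yb52 zb25) (kb xb11 yb52 zb26) (kb xb29 yb44 zb11) (kb xb29 yb44 zb14) (kb xb11 yb52 zb29) (kb xb20 yb57 zb60) (kb xb29 yb44 zb19) (kb xb11 yb53 zb59) (kb xb29 yb44 zb22) (kb xb11 yb52 zb30) (kb xb29 yb44 zb25) (kb xb20 yb55 zb30) (kb xb22 yb0 zb23) (kb xb20 yb55 zb28) (kb xb11 yb52 zb31) (kb xb19 yb7 zb45) (kb xb25 yb56 zb56) (kb xb29 yb44 zb28) (kb xb11 yb54 zb6) (kb xb22 yb3 zb59) (kb xb29 yb44 zb33) (kb xb18 yb52 zb24) (kb xb11 yb52 zb37) (kb xb11 yb52 zb38) (kb xb11 yb52 zb35) (kb xb29 yb44 zb37) (kb xb22 yb3 zb56) (kb xb26 yb40 zb19) (kb xb19 yb40 zb42) (kb xb29 yb44 zb36) (kb xb25 yb10 zb26) (kb xb11 yb52 zb39) (kb xb11 yb53 zb0) (kb xb25 yb22 zb21) (kb xb29 yb44 zb46) (kb xb24 yb51 zb27) (kb xb15 yb16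 zb22) (kb xb11 yb52 zb45) (kb xb29 yb44 zb49) (kb xb29 yb44 zb50) (kb xb29 yb44 zb52) (kb xb22 yb3 zb55) (kb xb26 yb37 zb5) (kb xb19 yb43 zb2) (kb xb18 yb22 zb29)) (@D3.rec (fun _ => Pt) (kb xb26 yb11 zb14) (kb xb27 yb57 zb1) (kb xb11 yb52 zb51) (kb xb11 yb52 zb53) (kb xb26 yb42 zb49) (kb xb29 yb44 zb58) (kb xb24 yb0 zb30) (kb xb11 yb52 zb57) (kb xb11 yb52 zb58) (kb xb11 yb52 zb55) (kb xb11 yb52 zb56) (kb xb26 yb37 zb9) (kb xb29 yb26 zb33) (kb xb29 yb45 zb5) (kb xb26 yb58 zb43) (kb xb15 yb16 zb27) (kb xb29 yb44 zb45) (kb xb11 yb53 zb1) (kb xb29 yb45 zb8) (kb xb11 yb53 zb2) (kb xb25 yb45 zb8) (kb xb11 yb53 zb5) (kb xb29 yb45 zb12) (kb xb28 yb55 zb52) (kb xb11 yb53 zb7) (kb xb11 yb53 zb8) (kb xb29 yb45 zb20) (kb xb27 yb36 zb36) (kb xb29 yb45 zb10) (kb xb29 yb45 zb11)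 (kb xb11 yb53 zb6) (kb xb29 yb45 zb29) (kb xb22 yb1 zb16) (kb xb25 yb51 zb39) (kb xb29 yb45 zb32) (kb xb29 yb45 zb19) (kb xb29 yb3 zb22) (kb xb11 yb53 zb9) (kb xb29 yb45 zb36) (kb xb11 yb53 zb10) (kb xb29 yb45 zb40) (kb xb29 yb45 zb41) (kb xb28 yb40 zb42) (kb xb28 yb40 zb43) (kb xb15 yb39 zb5) (kb xb14 yb58 zb6) (kb xb16 yb13 zb3) (kb xb19 yb3 zb8) (kb xb19 yb14 zb13) (kb xb11 yb56 zb25) (kb xb12 yb54 zb38) (kb xb16 yb11 zb11) (kb xb11 yb53 zb18) (kb xb29 yb33 zb52) (kb xb11 yb53 zb19) (kb xb12 yb51 zb51) (kb xb29 yb45 zb49) (kb xb12 yb51 zb56) (kb xb24 yb0 zb56) (kb xb28 yb40 zb34) (kb xb11 yb53 zb22) (kb xb29 yb45 zb53)) (@D3.rec (fun _ => Pt) (kb xb29 yb28 zb47) (kb xb29 yb28 zb48) (kb xb19 yb17 zb19) (kb xb29 yb32 zb40) (kb xb11 yb56 zb13) (kb xb12 yb54 zb35) (kb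 xb19 yb14 zb3) (kb xb11 yb53 zb34) (kb xb27 yb0 zb23) (kb xb11 yb53 zb37) (kb xb11 yb53 zb38) (kb xb24 yb26 zb38) (kb xb29 yb43 zb24) (kb xb27 yb14 zb39) (kb xb29 yb45 zb57) (kb xb29 yb33 zb17) (kb xb25 yb55 zb8) (kb xb11 yb53 zb36) (kb xb29 yb46 zb11) (kb xb29 yb46 zb14) (kb xb29 yb45 zb61) (kb xb20 yb39 zb26) (kb xb21 yb2 zb61) (kb xb11 yb53 zb41) (kb xb29 yb46 zb19) (kb xb20 yb12 zb8) (kb xb18 yb22 zb14) (kb xb11 yb53 zb43) (kb xb15 yb56 zb16) (kb xb29 yb44 zb10) (kb xb20 yb57 zb53) (kb xb17 yb26 zb39) (kb xb11 yb53 zb48) (kb xb11 yb53 zb49) (kb xb11 yb53 zb46) (kb xb29 yb46 zb34) (kb xb24 yb3 zb21) (kb xb20 yb35 zb41) (kb xb17 yb6 zb58) (kb xb22 yb37 zb61) (kb xb11 yb53 zb50) (kb xb25 yb36 zb46) (kb xb15 yb25 zb29) (kb xb20 yb58 zb3) (kb xb13 yb2 zb26) (kb xb29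 yb46 zb39) (kb xb15 yb1 zb48) (kb xb15 yb1 zb46) (kb xb25 yb6 zb36) (kb xb20 yb55 zb15) (kb xb11 yb53 zb56) (kb xb11 yb53 zb57) (kb xb11 yb53 zb58) (kb xb20 yb57 zb30) (kb xb27 yb7 zb36) (kb xb29 yb46 zb45) (kb xb29 yb46 zb46) (kb xb29 yb46 zb54) (kb xb25 yb22 zb25) (kb xb21 yb16 zb55) (kb xb20 yb55 zb22) (kb xb26 yb0 zb6)) (@D3.rec (fun _ => Pt) (kb xb11 yb54 zb2) (kb xb11 yb54 zb0) (kb xb29 yb46 zb59) (kb xb20 yb57 zb43) (kb xb29 yb46 zb57) (kb xb29 yb46 zb58) (kb xb25 yb20 zb15) (kb xb14 yb24 zb15) (kb xb29 yb44 zb31) (kb xb18 yb45 zb29) (kb xb26 yb41 zb11) (kb xb16 yb37 zb31) (kb xb28 yb11 zb22) (kb xb20 yb59 zb40) (kb xb11 yb54 zb9) (kb xb20 yb19 zb10) (kb xb22 yb21 zb30) (kb xb25 yb19 zb29) (kb xb16 yb39 zb7) (kb xb11 yb54 zb21) (kb xb20 yb58 zb52) (kb xb28 yb27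 zb59) (kb xb29 yb47 zb12) (kb xb29 yb47 zb4) (kb xb20 yb38 zb43) (kb xb20 yb35 zb26) (kb xb18 yb22 zb13) (kb xb11 yb54 zb16) (kb xb29 yb3 zb23) (kb xb28 yb57 zb61) (kb xb29 yb47 zb23) (kb xb29 yb47 zb24) (kb xb29 yb47 zb28) (kb xb12 yb57 zb47) (kb xb25 yb21 zb50) (kb xb11 yb54 zb18) (kb xb28 yb48 zb21) (kb xb29 yb47 zb30) (kb xb19 yb32 zb48) (kb xb16 yb42 zb32) (kb xb16 yb37 zb26) (kb xb26 yb40 zb37) (kb xb20 yb39 zb21) (kb xb26 yb33 zb29) (kb xb22 yb4 zb1) (kb xb11 yb54 zb23) (kb xb29 yb47 zb35) (kb xb26 yb40 zb38) (kb xb11 yb54 zb24) (kb xb27 yb0 zb7) (kb xb26 yb34 zb36) (kb xb28 yb0 zb23) (kb xb20 yb58 zb20) (kb xb27 yb38 zb22) (kb xb11 yb54 zb28) (kb xb11 yb54 zb27) (kb xb29 yb47 zb38) (kb xb29 yb47 zb39) (kb xb11 yb54 zb29) (kb xb27 yb18 zb50) (kb xb27 yb19 zb10)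 (kb xb29 yb47 zb41)) (@D3.rec (fun _ => Pt) (kb xb24 yb15 zb8) (kb xb19 yb24 zb42) (kb xb11 yb54 zb32) (kb xb29 yb47 zb42) (kb xb29 yb47 zb43) (kb xb19 yb24 zb35) (kb xb11 yb54 zb34) (kb xb29 yb47 zb47) (kb xb11 yb54 zb35) (kb xb22 yb54 zb40) (kb xb18 yb54 zb0) (kb xb11 yb54 zb38) (kb xb15 yb40 zb47) (kb xb29 yb47 zb54) (kb xb29 yb27 zb61) (kb xb29 yb47 zb53) (kb xb11 yb54 zb39) (kb xb11 yb54 zb40) (kb xb29 yb47 zb55) (kb xb11 yb54 zb43) (kb xb29 yb47 zb57) (kb xb11 yb54 zb44) (kb xb29 yb47 zb59) (kb xb15 yb27 zb55) (kb xb19 yb24 zb19) (kb xb11 yb54 zb48) (kb xb11 yb54 zb47) (kb xb15 yb54 zb0) (kb xb15 yb4 zb8) (kb xb24 yb15 zb9) (kb xb11 yb54 zb52) (kb xb20 yb25 zb13) (kb xb13 yb3 zb60) (kb xb29 yb48 zb0) (kb xb19 yb51 zb22) (kb xb11 yb54 zb56) (kb xb29 yb12 zb37)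 (kb xb24 yb11 zb12) (kb xb19 yb23 zb48) (kb xb27 yb56 zb43) (kb xb20 yb58 zb13) (kb xb19 yb23 zb55) (kb xb29 yb21 zb40) (kb xb20 yb46 zb11) (kb xb19 yb23 zb51) (kb xb11 yb55 zb1) (kb xb29 yb48 zb8) (kb xb25 yb52 zb36) (kb xb25 yb52 zb37) (kb xb16 yb53 zb23) (kb xb11 yb55 zb7) (kb xb22 yb23 zb52) (kb xb11 yb55 zb9) (kb xb11 yb55 zb5) (kb xb11 yb55 zb6) (kb xb16 yb52 zb29) (kb xb29 yb48 zb9) (kb xb11 yb55 zb8) (kb xb29 yb48 zb14) (kb xb29 yb8 zb27) (kb xb29 yb48 zb18) (kb xb29 yb48 zb22))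
def f_b_21 : D2 → D3 → Pt := @D2.rec (fun _ => D3 → Pt) (@D3.rec (fun _ => Pt) (kb xb29 yb13 zb45) (kb xb11 yb55 zb11) (kb xb29 yb48 zb27) (kb xb11 yb55 zb12) (kb xb19 yb24 zb53) (kb xb21 yb1 zb18) (kb xb11 yb55 zb15) (kb xb11 yb55 zb14) (kb xb21 yb51 zb13) (kb xb11 yb55 zb17) (kb xb29 yb48 zb30) (kb xb18 yb25 zb61) (kb xb19 yb25 zb10) (kb xb15 yb17 zb16) (kb xb28 yb34 zb30) (kb xb25 yb24 zb25) (kb xb25 yb24 zb26) (kb xb18 yb54 zb46) (kb xb11 yb55 zb25) (kb xb11 yb55 zb28) (kb xb29 yb4 zb39) (kb xb11 yb55 zb26) (kb xb11 yb55 zb27) (kb xb25 yb13 zb47) (kb xb25 yb13 zb48) (kb xb11 yb55 zb32) (kb xb11 yb55 zb31) (kb xb29 yb48 zb37) (kb xb11 yb55 zb34) (kb xb29 yb48 zb39) (kb xb11 yb55 zb38) (kb xb11 yb55 zb37) (kb xb26 yb24 zb14) (kb xb29 yb9 zb34) (kb xb27 yb11 zb48)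 (kb xb25 yb24 zb40) (kb xb11 yb55 zb42) (kb xb29 yb48 zb40) (kb xb29 yb48 zb41) (kb xb16 yb45 zb14) (kb xb15 yb28 zb44) (kb xb11 yb55 zb49) (kb xb26 yb28 zb37) (kb xb12 yb41 zb52) (kb xb26 yb9 zb13) (kb xb12 yb44 zb58) (kb xb15 yb51 zb14) (kb xb24 yb3 zb51) (kb xb24 yb34 zb34) (kb xb11 yb55 zb56) (kb xb29 yb48 zb46) (kb xb14 yb52 zb8) (kb xb24 yb10 zb12) (kb xb11 yb56 zb2) (kb xb11 yb56 zb4) (kb xb20 yb9 zb24) (kb xb11 yb56 zb7) (kb xb12 yb44 zb42) (kb xb25 yb52 zb43) (kb xb17 yb53 zb55) (kb xb17 yb36 zb7) (kb xb11 yb56 zb9)) (@D3.rec (fun _ => Pt) (kb xb25 yb6 zb49) (kb xb21 yb17 zb7) (kb xb11 yb56 zb14) (kb xb24 yb19 zb1) (kb xb16 yb17 zb8) (kb xb15 yb17 zb1) (kb xb29 yb48 zb50) (kb xb11 yb56 zb18) (kb xb11 yb56 zb19) (kb xb29 yb48 zb52) (kb xb11 yb56 zb21) (kb xb29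 yb48 zb55) (kb xb19 yb53 zb54) (kb xb13 yb51 zb44) (kb xb23 yb32 zb20) (kb xb14 yb56 zb19) (kb xb14 yb9 zb24) (kb xb28 yb29 zb26) (kb xb21 yb0 zb5) (kb xb22 yb4 zb20) (kb xb28 yb33 zb25) (kb xb19 yb14 zb12) (kb xb11 yb56 zb30) (kb xb20 yb55 zb6) (kb xb26 yb9 zb21) (kb xb24 yb31 zb54) (kb xb29 yb49 zb1) (kb xb19 yb25 zb13) (kb xb28 yb29 zb25) (kb xb22 yb4 zb54) (kb xb18 yb58 zb2) (kb xb11 yb56 zb37) (kb xb25 yb18 zb53) (kb xb12 yb47 zb25) (kb xb22 yb33 zb3) (kb xb26 yb11 zb15) (kb xb26 yb11 zb16) (kb xb25 yb17 zb19) (kb xb29 yb34 zb34) (kb xb12 yb55 zb57) (kb xb29 yb4 zb3) (kb xb28 yb47 zb46) (kb xb22 yb9 zb10) (kb xb25 yb22 zb55) (kb xb11 yb56 zb49) (kb xb24 yb16 zb51) (kb xb25 yb36 zb50) (kb xb25 yb22 zb52) (kb xb25 yb36 zb52) (kb xb11 yb56 zb52) (kb xb29 yb49 zb14)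 (kb xb28 yb42 zb10) (kb xb11 yb56 zb59) (kb xb22 yb9 zb4) (kb xb22 yb9 zb28) (kb xb25 yb55 zb60) (kb xb25 yb55 zb47) (kb xb11 yb56 zb57) (kb xb11 yb56 zb58) (kb xb29 yb49 zb23) (kb xb29 yb49 zb24) (kb xb20 yb40 zb5)) (@D3.rec (fun _ => Pt) (kb xb11 yb57 zb0) (kb xb11 yb57 zb3) (kb xb11 yb57 zb2) (kb xb29 yb49 zb28) (kb xb29 yb49 zb29) (kb xb18 yb5 zb43) (kb xb11 yb57 zb4) (kb xb29 yb49 zb30) (kb xb25 yb6 zb21) (kb xb16 yb58 zb39) (kb xb17 yb59 zb47) (kb xb11 yb57 zb13) (kb xb19 yb15 zb40) (kb xb11 yb57 zb14) (kb xb25 yb37 zb57) (kb xb23 yb42 zb53) (kb xb24 yb36 zb54) (kb xb16 yb10 zb47) (kb xb11 yb57 zb18) (kb xb14 yb39 zb41) (kb xb11 yb57 zb20) (kb xb11 yb57 zb21) (kb xb29 yb49 zb35) (kb xb29 yb49 zb36) (kb xb11 yb57 zb19) (kb xb29 yb49 zb46) (kb xb28 yb31 zb19) (kb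 xb29 yb49 zb51) (kb xb29 yb49 zb52) (kb xb29 yb49 zb39) (kb xb11 yb57 zb22) (kb xb29 yb49 zb56) (kb xb21 yb8 zb28) (kb xb11 yb57 zb25) (kb xb29 yb49 zb57) (kb xb27 yb59 zb56) (kb xb18 yb23 zb6) (kb xb23 yb40 zb37) (kb xb21 yb15 zb38) (kb xb16 yb29 zb40) (kb xb16 yb11 zb49) (kb xb29 yb49 zb60) (kb xb15 yb23 zb59) (kb xb23 yb3 zb51) (kb xb18 yb19 zb0) (kb xb15 yb12 zb58) (kb xb17 yb3 zb22) (kb xb27 yb57 zb47) (kb xb11 yb57 zb46) (kb xb24 yb57 zb17) (kb xb28 yb13 zb46) (kb xb15 yb13 zb10) (kb xb15 yb13 zb11) (kb xb27 yb12 zb39) (kb xb11 yb57 zb49) (kb xb29 yb50 zb1) (kb xb27 yb23 zb16) (kb xb13 yb28 zb40) (kb xb27 yb21 zb22) (kb xb13 yb19 zb13) (kb xb14 yb4 zb28) (kb xb20 yb57 zb22)) (@D3.rec (fun _ => Pt) (kb xb29 yb50 zb5) (kb xb14 yb2 zb42) (kb xb26 yb52 zb47) (kb xb16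 yb30 zb42) (kb xb12 yb15 zb22) (kb xb17 yb8 zb40) (kb xb20 yb22 zb28) (kb xb11 yb58 zb6) (kb xb11 yb58 zb26) (kb xb18 yb25 zb51) (kb xb21 yb9 zb47) (kb xb13 yb1 zb40) (kb xb11 yb58 zb13) (kb xb29 yb50 zb8) (kb xb29 yb50 zb9) (kb xb19 yb27 zb44) (kb xb18 yb39 zb34) (kb xb29 yb30 zb29) (kb xb26 yb27 zb10) (kb xb23 yb1 zb10) (kb xb13 yb9 zb14) (kb xb11 yb58 zb36) (kb xb20 yb14 zb58) (kb xb29 yb50 zb11) (kb xb21 yb16 zb8) (kb xb20 yb5 zb38) (kb xb14 yb7 zb41) (kb xb11 yb58 zb45) (kb xb16 yb28 zb30) (kb xb16 yb48 zb57) (kb xb20 yb7 zb0) (kb xb20 yb5 zb49) (kb xb22 yb32 zb32) (kb xb29 yb8 zb20) (kb xb14 yb37 zb30) (kb xb22 yb11 zb53) (kb xb19 yb53 zb42) (kb xb21 yb16 zb43) (kb xb27 yb39 zb4) (kb xb19 yb2 zb36) (kb xb11 yb58 zb54) (kb xb11 yb58 zb55) (kb xb17 yb59 zb7) (kb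 xb12 yb5 zb32) (kb xb21 yb24 zb1) (kb xb16 yb49 zb8) (kb xb21 yb16 zb53) (kb xb11 yb58 zb58) (kb xb24 yb19 zb46) (kb xb11 yb58 zb60) (kb xb21 yb23 zb55) (kb xb20 yb33 zb1) (kb xb11 yb59 zb2) (kb xb11 yb59 zb3) (kb xb25 yb4 zb16) (kb xb19 yb42 zb36) (kb xb27 yb40 zb31) (kb xb25 yb39 zb40) (kb xb20 yb47 zb12) (kb xb12 yb57 zb50) (kb xb14 yb20 zb53) (kb xb29 yb9 zb2)) (@D3.rec (fun _ => Pt) (kb xb19 yb19 zb37) (kb xb22 yb11 zb37) (kb xb11 yb59 zb21) (kb xb26 yb15 zb27) (kb xb12 yb28 zb51) (kb xb11 yb59 zb22) (kb xb14 yb49 zb11) (kb xb29 yb19 zb42) (kb xb16 yb48 zb44) (kb xb29 yb24 zb15) (kb xb26 yb56 zb9) (kb xb15 yb15 zb42) (kb xb23 yb14 zb42) (kb xb11 yb59 zb32) (kb xb28 yb50 zb48) (kb xb27 yb58 zb21) (kb xb20 yb8 zb29) (kb xb11 yb59 zb35) (kb xb29 yb24 zb39) (kb xb18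 yb52 zb4) (kb xb13 yb32 zb52) (kb xb26 yb56 zb25) (kb xb22 yb49 zb5) (kb xb23 yb8 zb6) (kb xb29 yb29 zb7) (kb xb26 yb26 zb35) (kb xb26 yb15 zb11) (kb xb27 yb47 zb58) (kb xb11 yb59 zb54) (kb xb11 yb59 zb47) (kb xb29 yb50 zb28) (kb xb21 yb31 zb10) (kb xb11 yb59 zb52) (kb xb24 yb44 zb11) (kb xb18 yb28 zb38) (kb xb15 yb11 zb49) (kb xb23 yb36 zb39) (kb xb11 yb59 zb57) (kb xb18 yb37 zb5) (kb xb27 yb47 zb18) (kb xb14 yb14 zb30) (kb xb12 yb48 zb36) (kb xb22 yb11 zb1) (kb xb11 yb59 zb60) (kb xb28 yb6 zb25) (kb xb27 yb4 zb22) (kb xb12 yb13 zb2) (kb xb21 yb21 zb12) (kb xb16 yb1 zb29) (kb xb12 yb0 zb2) (kb xb12 yb0 zb1) (kb xb26 yb14 zb47) (kb xb29 yb50 zb35) (kb xb12 yb2 zb36) (kb xb12 yb0 zb5) (kb xb21 yb48 zb60) (kb xb27 yb42 zb6) (kb xb22 yb10 zb57) (kb xb21 yb5 zb4) (kb xb12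 yb0 zb7) (kb xb29 yb50 zb41) (kb xb29 yb50 zb42)) (@D3.rec (fun _ => Pt) (kb xb12 yb0 zb26) (kb xb12 yb0 zb9) (kb xb28 yb35 zb61) (kb xb29 yb50 zb44) (kb xb21 yb4 zb58) (kb xb12 yb0 zb11) (kb xb12 yb0 zb12) (kb xb25 yb55 zb50) (kb xb22 yb9 zb6) (kb xb12 yb0 zb14) (kb xb12 yb0 zb15) (kb xb29 yb50 zb47) (kb xb25 yb48 zb32) (kb xb29 yb50 zb49) (kb xb28 yb47 zb44) (kb xb19 yb26 zb45) (kb xb12 yb0 zb17) (kb xb29 yb50 zb53) (kb xb25 yb48 zb36) (kb xb22 yb9 zb29) (kb xb21 yb27 zb14) (kb xb12 yb0 zb19) (kb xb21 yb27 zb39) (kb xb29 yb50 zb56) (kb xb12 yb0 zb21) (kb xb12 yb0 zb24) (kb xb29 yb37 zb47) (kb xb29 yb50 zb59) (kb xb12 yb0 zb25) (kb xb29 yb50 zb61) (kb xb28 yb58 zb53) (kb xb25 yb35 zb25) (kb xb22 yb58 zb56) (kb xb12 yb0 zb28) (kb xb12 yb0 zb29) (kb xb25 yb9 zb4) (kb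 xb23 yb57 zb14) (kb xb25 yb48 zb35) (kb xb22 yb9 zb5) (kb xb23 yb13 zb32) (kb xb25 yb36 zb53) (kb xb16 yb8 zb1) (kb xb16 yb0 zb13) (kb xb26 yb0 zb43) (kb xb12 yb0 zb35) (kb xb12 yb0 zb34) (kb xb29 yb51 zb3) (kb xb21 yb27 zb10) (kb xb21 yb27 zb41) (kb xb21 yb37 zb35) (kb xb26 yb55 zb6) (kb xb12 yb0 zb40) (kb xb12 yb0 zb41) (kb xb14 yb22 zb40) (kb xb12 yb0 zb43) (kb xb23 yb22 zb37) (kb xb19 yb5 zb46) (kb xb12 yb3 zb28) (kb xb21 yb31 zb33) (kb xb12 yb0 zb46) (kb xb28 yb36 zb20) (kb xb29 yb51 zb11)) (@D3.rec (fun _ => Pt) (kb xb15 yb45 zb40) (kb xb12 yb0 zb48) (kb xb24 yb34 zb50) (kb xb29 yb51 zb18) (kb xb16 yb2 zb48) (kb xb13 yb37 zb42) (kb xb27 yb7 zb48) (kb xb26 yb3 zb28) (kb xb22 yb30 zb16) (kb xb23 yb25 zb53) (kb xb29 yb51 zb21) (kb xb12 yb0 zb52) (kb xb29 yb51 zb23)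 (kb xb14 yb9 zb48) (kb xb19 yb14 zb30) (kb xb29 yb51 zb22) (kb xb12 yb0 zb53) (kb xb23 yb20 zb46) (kb xb22 yb45 zb48) (kb xb29 yb51 zb26) (kb xb14 yb45 zb11) (kb xb12 yb0 zb59) (kb xb12 yb0 zb57) (kb xb29 yb51 zb28) (kb xb12 yb0 zb58) (kb xb27 yb44 zb59) (kb xb15 yb13 zb32) (kb xb26 yb25 zb8) (kb xb28 yb10 zb4) (kb xb13 yb37 zb51) (kb xb28 yb41 zb17) (kb xb21 yb55 zb34) (kb xb12 yb0 zb61) (kb xb27 yb44 zb60) (kb xb29 yb51 zb33) (kb xb21 yb55 zb38) (kb xb12 yb1 zb1) (kb xb27 yb24 zb32) (kb xb12 yb1 zb2) (kb xb21 yb55 zb48) (kb xb29 yb51 zb37) (kb xb22 yb10 zb13) (kb xb22 yb42 zb9) (kb xb12 yb1 zb7) (kb xb12 yb1 zb5) (kb xb16 yb12 zb18) (kb xb29 yb51 zb40) (kb xb29 yb51 zb43) (kb xb29 yb30 zb0) (kb xb12 yb2 zb10) (kb xb21 yb16 zb13) (kb xb12 yb1 zb13) (kb xb13 yb56 zb18)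 (kb xb12 yb20 zb5) (kb xb28 yb10 zb16) (kb xb12 yb2 zb28) (kb xb12 yb2 zb29) (kb xb12 yb1 zb24) (kb xb18 yb10 zb24) (kb xb21 yb17 zb51) (kb xb20 yb40 zb19) (kb xb23 yb47 zb55)) (@D3.rec (fun _ => Pt) (kb xb23 yb47 zb7) (kb xb12 yb34 zb41) (kb xb12 yb1 zb44) (kb xb27 yb11 zb32) (kb xb29 yb36 zb20) (kb xb12 yb24 zb21) (kb xb26 yb52 zb12) (kb xb21 yb42 zb54) (kb xb12 yb1 zb48) (kb xb18 yb37 zb46) (kb xb27 yb45 zb20) (kb xb12 yb20 zb23) (kb xb27 yb30 zb39) (kb xb29 yb51 zb49) (kb xb12 yb1 zb50) (kb xb12 yb1 zb51) (kb xb29 yb51 zb53) (kb xb29 yb51 zb52) (kb xb12 yb1 zb58) (kb xb29 yb6 zb8) (kb xb26 yb59 zb17) (kb xb17 yb7 zb37) (kb xb15 yb49 zb13) (kb xb12 yb38 zb2) (kb xb27 yb3 zb42) (kb xb12 yb2 zb1) (kb xb12 yb2 zb4) (kb xb21 yb30 zb27) (kb xb20 yb51 zb50) (kb xb18 yb24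 zb42) (kb xb20 yb37 zb28) (kb xb12 yb21 zb50) (kb xb12 yb2 zb7) (kb xb16 yb8 zb55) (kb xb14 yb12 zb0) (kb xb12 yb2 zb12) (kb xb29 yb50 zb32) (kb xb12 yb25 zb46) (kb xb18 yb17 zb20) (kb xb17 yb50 zb25) (kb xb12 yb23 zb17) (kb xb12 yb32 zb27) (kb xb17 yb1 zb24) (kb xb28 yb7 zb7) (kb xb20 yb35 zb22) (kb xb17 yb48 zb13) (kb xb17 yb51 zb17) (kb xb17 yb50 zb56) (kb xb18 yb16 zb15) (kb xb26 yb4 zb29) (kb xb18 yb24 zb43) (kb xb18 yb58 zb6) (kb xb29 yb13 zb42) (kb xb16 yb3 zb49) (kb xb20 yb7 zb46) (kb xb12 yb45 zb56) (kb xb16 yb20 zb18) (kb xb21 yb53 zb3) (kb xb19 yb2 zb16) (kb xb27 yb5 zb19) (kb xb12 yb32 zb38) (kb xb17 yb51 zb28)) (@D3.rec (fun _ => Pt) (kb xb28 yb10 zb17) (kb xb12 yb2 zb38) (kb xb12 yb2 zb39) (kb xb21 yb39 zb53) (kb xb17 yb22 zb32) (kb xb21 yb39 zb52) (kb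 xb12 yb2 zb50) (kb xb22 yb7 zb53) (kb xb19 yb11 zb3) (kb xb12 yb2 zb56) (kb xb12 yb3 zb1) (kb xb24 yb20 zb42) (kb xb15 yb49 zb43) (kb xb12 yb3 zb3) (kb xb12 yb3 zb4) (kb xb28 yb12 zb40) (kb xb28 yb7 zb1) (kb xb29 yb52 zb0) (kb xb27 yb38 zb26) (kb xb27 yb11 zb2) (kb xb26 yb10 zb26) (kb xb20 yb40 zb18) (kb xb25 yb41 zb6) (kb xb12 yb3 zb8) (kb xb24 yb32 zb0) (kb xb12 yb3 zb10) (kb xb27 yb57 zb9) (kb xb12 yb3 zb14) (kb xb21 yb2 zb32) (kb xb16 yb7 zb10) (kb xb12 yb3 zb17) (kb xb29 yb52 zb4) (kb xb25 yb11 zb43) (kb xb21 yb19 zb51) (kb xb14 yb56 zb3) (kb xb29 yb51 zb8) (kb xb12 yb3 zb20) (kb xb19 yb5 zb59) (kb xb29 yb47 zb9) (kb xb29 yb52 zb8) (kb xb29 yb52 zb9) (kb xb12 yb3 zb22) (kb xb29 yb22 zb7) (kb xb27 yb27 zb26) (kb xb12 yb48 zb30) (kb xb13 yb59 zb50) (kb xb12 yb48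 zb22) (kb xb12 yb3 zb25) (kb xb29 yb52 zb11) (kb xb12 yb3 zb26) (kb xb21 yb34 zb44) (kb xb29 yb52 zb12) (kb xb15 yb41 zb26) (kb xb24 yb41 zb50) (kb xb24 yb41 zb51) (kb xb14 yb45 zb27) (kb xb13 yb59 zb49) (kb xb22 yb45 zb60) (kb xb14 yb10 zb50) (kb xb12 yb3 zb30) (kb xb19 yb52 zb23) (kb xb20 yb31 zb33)) (@D3.rec (fun _ => Pt) (kb xb18 yb48 zb6) (kb xb14 yb8 zb15) (kb xb29 yb29 zb15) (kb xb26 yb22 zb3) (kb xb12 yb3 zb35) (kb xb29 yb52 zb20) (kb xb12 yb3 zb38) (kb xb12 yb3 zb39) (kb xb19 yb51 zb4) (kb xb13 yb16 zb47) (kb xb12 yb4 zb1) (kb xb12 yb3 zb41) (kb xb18 yb20 zb35) (kb xb16 yb53 zb61) (kb xb12 yb3 zb43) (kb xb14 yb3 zb53) (kb xb16 yb54 zb7) (kb xb27 yb58 zb34) (kb xb18 yb45 zb15) (kb xb18 yb47 zb61) (kb xb12 yb3 zb45) (kb xb18 yb48 zb28) (kb xb27 yb22 zb35) (kb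 xb23 yb36 zb17) (kb xb21 yb45 zb51) (kb xb19 yb24 zb17) (kb xb16 yb49 zb2) (kb xb21 yb51 zb15) (kb xb12 yb9 zb9) (kb xb12 yb3 zb51) (kb xb12 yb3 zb52) (kb xb12 yb46 zb28) (kb xb12 yb3 zb58) (kb xb12 yb44 zb50) (kb xb20 yb46 zb8) (kb xb21 yb37 zb17) (kb xb25 yb17 zb27) (kb xb20 yb12 zb24) (kb xb12 yb4 zb5) (kb xb27 yb12 zb49) (kb xb12 yb4 zb10) (kb xb13 yb20 zb30) (kb xb19 yb6 zb46) (kb xb12 yb36 zb24) (kb xb12 yb4 zb11) (kb xb27 yb43 zb7) (kb xb27 yb30 zb30) (kb xb21 yb3 zb10) (kb xb12 yb4 zb21) (kb xb18 yb23 zb56) (kb xb18 yb0 zb24) (kb xb12 yb4 zb28) (kb xb23 yb56 zb7) (kb xb12 yb4 zb30) (kb xb19 yb9 zb30) (kb xb29 yb52 zb27) (kb xb22 yb41 zb6) (kb xb12 yb4 zb36) (kb xb29 yb52 zb29) (kb xb12 yb4 zb37) (kb xb27 yb38 zb53) (kb xb27 yb42 zb20)) (@D3.rec (fun _ => Pt)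 (kb xb12 yb39 zb27) (kb xb12 yb4 zb43) (kb xb21 yb38 zb50) (kb xb25 yb13 zb37) (kb xb21 yb59 zb28) (kb xb27 yb10 zb20) (kb xb19 yb14 zb53) (kb xb27 yb27 zb20) (kb xb12 yb39 zb18) (kb xb17 yb20 zb59) (kb xb12 yb39 zb50) (kb xb13 yb0 zb16) (kb xb12 yb4 zb61) (kb xb26 yb3 zb29) (kb xb12 yb4 zb60) (kb xb23 yb31 zb43) (kb xb16 yb0 zb17) (kb xb26 yb14 zb41) (kb xb23 yb46 zb55) (kb xb12 yb5 zb2) (kb xb23 yb46 zb56) (kb xb21 yb46 zb50) (kb xb29 yb52 zb40) (kb xb22 yb47 zb43) (kb xb20 yb48 zb24) (kb xb29 yb52 zb41) (kb xb12 yb5 zb5) (kb xb29 yb52 zb44) (kb xb12 yb5 zb7) (kb xb19 yb6 zb32) (kb xb28 yb32 zb30) (kb xb26 yb56 zb36) (kb xb23 yb8 zb4) (kb xb12 yb5 zb9) (kb xb29 yb52 zb51) (kb xb26 yb55 zb40) (kb xb29 yb52 zb53) (kb xb20 yb8 zb28) (kb xb29 yb52 zb54) (kb xb12 yb5 zb13)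 (kb xb12 yb5 zb12) (kb xb19 yb6 zb40) (kb xb27 yb9 zb48) (kb xb25 yb16 zb13) (kb xb29 yb52 zb56) (kb xb12 yb5 zb14) (kb xb16 yb33 zb46) (kb xb26 yb56 zb12) (kb xb29 yb53 zb6) (kb xb26 yb29 zb8) (kb xb12 yb5 zb16) (kb xb28 yb15 zb33) (kb xb12 yb5 zb17) (kb xb28 yb31 zb53) (kb xb29 yb53 zb8) (kb xb29 yb53 zb10) (kb xb16 yb34 zb23) (kb xb29 yb53 zb12) (kb xb27 yb40 zb37) (kb xb15 yb4 zb51) (kb xb14 yb52 zb46) (kb xb22 yb20 zb61)) (@D3.rec (fun _ => Pt) (kb xb12 yb5 zb24) (kb xb12 yb5 zb23) (kb xb29 yb53 zb22) (kb xb16 yb27 zb32) (kb xb29 yb0 zb42) (kb xb29 yb53 zb19) (kb xb16 yb34 zb34) (kb xb26 yb24 zb35) (kb xb15 yb8 zb2) (kb xb12 yb5 zb29) (kb xb17 yb54 zb48) (kb xb16 yb34 zb26) (kb xb22 yb47 zb39) (kb xb20 yb28 zb42) (kb xb20 yb44 zb29) (kb xb12 yb29 zb19) (kb xb17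 yb58 zb54) (kb xb22 yb48 zb52) (kb xb15 yb8 zb0) (kb xb14 yb10 zb40) (kb xb17 yb58 zb37) (kb xb12 yb5 zb38) (kb xb22 yb24 zb22) (kb xb24 yb24 zb22) (kb xb16 yb55 zb10) (kb xb12 yb5 zb42) (kb xb29 yb53 zb31) (kb xb22 yb22 zb7) (kb xb19 yb19 zb61) (kb xb29 yb53 zb28) (kb xb12 yb5 zb44) (kb xb29 yb53 zb37) (kb xb29 yb53 zb36) (kb xb27 yb44 zb21) (kb xb28 yb49 zb39) (kb xb12 yb5 zb47) (kb xb29 yb53 zb42) (kb xb25 yb44 zb54) (kb xb13 yb55 zb36) (kb xb15 yb6 zb15) (kb xb26 yb57 zb33) (kb xb20 yb0 zb48) (kb xb12 yb5 zb53) (kb xb29 yb53 zb44) (kb xb21 yb15 zb14) (kb xb23 yb12 zb8) (kb xb17 yb57 zb10) (kb xb27 yb52 zb0) (kb xb18 yb41 zb27) (kb xb15 yb0 zb30) (kb xb12 yb5 zb58) (kb xb12 yb5 zb59) (kb xb29 yb53 zb49) (kb xb22 yb55 zb28) (kb xb13 yb33 zb41) (kb xb12 yb5 zb61) (kb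 xb13 yb33 zb23) (kb xb12 yb6 zb0) (kb xb27 yb53 zb52) (kb xb27 yb53 zb51) (kb xb17 yb57 zb27) (kb xb23 yb31 zb25)) (@D3.rec (fun _ => Pt) (kb xb25 yb2 zb8) (kb xb19 yb10 zb9) (kb xb26 yb31 zb37) (kb xb12 yb6 zb4) (kb xb17 yb57 zb5) (kb xb29 yb53 zb56) (kb xb24 yb9 zb27) (kb xb27 yb52 zb52) (kb xb24 yb38 zb57) (kb xb24 yb57 zb52) (kb xb12 yb6 zb6) (kb xb12 yb6 zb7) (kb xb29 yb20 zb26) (kb xb18 yb12 zb21) (kb xb26 yb58 zb12) (kb xb28 yb12 zb54) (kb xb16 yb29 zb18) (kb xb12 yb7 zb18) (kb xb14 yb59 zb43) (kb xb29 yb54 zb1) (kb xb12 yb6 zb16) (kb xb16 yb28 zb37) (kb xb20 yb24 zb1) (kb xb19 yb2 zb19) (kb xb12 yb6 zb24) (kb xb23 yb35 zb60) (kb xb12 yb31 zb54) (kb xb23 yb34 zb44) (kb xb23 yb34 zb45) (kb xb12 yb6 zb26) (kb xb18 yb49 zb32) (kb xb20 yb31 zb40) (kb xb12 yb6 zb32)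 (kb xb28 yb18 zb42) (kb xb29 yb54 zb6) (kb xb23 yb6 zb48) (kb xb27 yb32 zb24) (kb xb18 yb32 zb57) (kb xb16 yb20 zb48) (kb xb27 yb40 zb20) (kb xb12 yb6 zb39) (kb xb18 yb35 zb22) (kb xb26 yb21 zb45) (kb xb12 yb6 zb41) (kb xb12 yb6 zb42) (kb xb28 yb25 zb51) (kb xb27 yb50 zb8) (kb xb27 yb58 zb46) (kb xb12 yb6 zb46) (kb xb12 yb6 zb45) (kb xb18 yb34 zb21) (kb xb16 yb22 zb28) (kb xb18 yb36 zb8) (kb xb12 yb6 zb47) (kb xb28 yb22 zb43) (kb xb29 yb18 zb56) (kb xb26 yb32 zb39) (kb xb22 yb34 zb25) (kb xb27 yb5 zb32) (kb xb17 yb21 zb1) (kb xb12 yb6 zb54) (kb xb12 yb6 zb55)) (@D3.rec (fun _ => Pt) (kb xb27 yb57 zb13) (kb xb22 yb56 zb11) (kb xb21 yb32 zb40) (kb xb12 yb6 zb57) (kb xb12 yb6 zb58) (kb xb22 yb30 zb26) (kb xb12 yb6 zb59) (kb xb20 yb50 zb47) (kb xb21 yb53 zb56) (kb xb12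 yb23 zb52) (kb xb20 yb20 zb48) (kb xb17 yb9 zb6) (kb xb17 yb9 zb7) (kb xb12 yb7 zb1) (kb xb18 yb50 zb16) (kb xb29 yb54 zb28) (kb xb19 yb0 zb10) (kb xb24 yb25 zb29) (kb xb12 yb7 zb8) (kb xb27 yb32 zb10) (kb xb14 yb58 zb55) (kb xb12 yb7 zb10) (kb xb29 yb54 zb31) (kb xb20 yb8 zb13) (kb xb29 yb54 zb32) (kb xb18 yb12 zb40) (kb xb27 yb59 zb23) (kb xb29 yb54 zb35) (kb xb19 yb4 zb11) (kb xb18 yb36 zb12) (kb xb19 yb18 zb20) (kb xb29 yb52 zb21) (kb xb29 yb39 zb6) (kb xb13 yb4 zb17) (kb xb25 yb46 zb41) (kb xb27 yb57 zb14) (kb xb16 yb11 zb50) (kb xb12 yb7 zb28) (kb xb17 yb18 zb49) (kb xb29 yb14 zb37) (kb xb29 yb54 zb41) (kb xb27 yb54 zb28) (kb xb22 yb37 zb17) (kb xb22 yb42 zb7) (kb xb24 yb0 zb57) (kb xb18 yb41 zb38) (kb xb15 yb51 zb6) (kb xb22 yb20 zb9) (kb xb28 yb17 zb45) (kb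 xb29 yb54 zb55) (kb xb26 yb22 zb21) (kb xb12 yb7 zb61) (kb xb13 yb47 zb22) (kb xb27 yb12 zb32) (kb xb12 yb7 zb40) (kb xb20 yb52 zb36) (kb xb27 yb12 zb33) (kb xb12 yb7 zb55) (kb xb13 yb29 zb3) (kb xb12 yb7 zb58) (kb xb29 yb55 zb1) (kb xb12 yb7 zb45)) (@D3.rec (fun _ => Pt) (kb xb12 yb7 zb43) (kb xb24 yb14 zb18) (kb xb29 yb55 zb4) (kb xb24 yb32 zb25) (kb xb12 yb8 zb5) (kb xb26 yb20 zb44) (kb xb12 yb7 zb46) (kb xb13 yb2 zb49) (kb xb26 yb32 zb49) (kb xb29 yb55 zb7) (kb xb23 yb40 zb46) (kb xb13 yb47 zb20) (kb xb24 yb6 zb50) (kb xb24 yb42 zb24) (kb xb12 yb7 zb59) (kb xb13 yb57 zb25) (kb xb22 yb13 zb13) (kb xb20 yb52 zb1) (kb xb13 yb39 zb32) (kb xb29 yb54 zb58) (kb xb12 yb8 zb4) (kb xb29 yb55 zb11) (kb xb13 yb57 zb19) (kb xb24 yb28 zb40) (kb xb23 yb2 zb59) (kb xb12 yb8 zb13)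 (kb xb12 yb8 zb12) (kb xb29 yb55 zb16) (kb xb22 yb54 zb5) (kb xb12 yb8 zb14) (kb xb29 yb55 zb17) (kb xb29 yb55 zb18) (kb xb23 yb3 zb28) (kb xb29 yb55 zb20) (kb xb23 yb22 zb55) (kb xb14 yb7 zb36) (kb xb23 yb39 zb56) (kb xb22 yb44 zb4) (kb xb16 yb30 zb17) (kb xb12 yb8 zb24) (kb xb13 yb42 zb20) (kb xb13 yb42 zb50) (kb xb24 yb12 zb13) (kb xb24 yb8 zb12) (kb xb12 yb8 zb26) (kb xb23 yb11 zb57) (kb xb12 yb8 zb30) (kb xb13 yb47 zb51) (kb xb13 yb47 zb52) (kb xb20 yb24 zb53) (kb xb23 yb38 zb51) (kb xb13 yb47 zb7) (kb xb12 yb8 zb33) (kb xb26 yb26 zb38) (kb xb29 yb55 zb30) (kb xb12 yb8 zb39) (kb xb12 yb8 zb40) (kb xb29 yb55 zb31) (kb xb13 yb29 zb11) (kb xb14 yb28 zb28) (kb xb28 yb8 zb44) (kb xb22 yb27 zb45)) (@D3.rec (fun _ => Pt) (kb xb12 yb8 zb41) (kb xb16 yb22 zb6) (kb xb12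 yb8 zb46) (kb xb27 yb52 zb1) (kb xb14 yb58 zb24) (kb xb29 yb55 zb33) (kb xb24 yb18 zb9) (kb xb27 yb40 zb13) (kb xb20 yb30 zb4) (kb xb20 yb0 zb4) (kb xb17 yb0 zb29) (kb xb12 yb8 zb54) (kb xb15 yb7 zb22) (kb xb29 yb7 zb24) (kb xb21 yb11 zb44) (kb xb20 yb8 zb41) (kb xb12 yb8 zb60) (kb xb29 yb55 zb35) (kb xb13 yb54 zb46) (kb xb17 yb12 zb11) (kb xb12 yb9 zb23) (kb xb12 yb47 zb3) (kb xb12 yb9 zb13) (kb xb15 yb4 zb41) (kb xb27 yb3 zb25) (kb xb12 yb9 zb10) (kb xb26 yb49 zb40) (kb xb12 yb31 zb1) (kb xb16 yb35 zb30) (kb xb26 yb21 zb36) (kb xb28 yb5 zb9) (kb xb20 yb10 zb61) (kb xb12 yb9 zb16) (kb xb19 yb42 zb21) (kb xb28 yb21 zb57) (kb xb16 yb20 zb39) (kb xb27 yb57 zb10) (kb xb21 yb32 zb37) (kb xb21 yb2 zb38) (kb xb14 yb0 zb13) (kb xb18 yb23 zb42) (kb xb22 yb53 zb46) (kb xb25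 yb3 zb0) (kb xb24 yb55 zb57) (kb xb12 yb9 zb45) (kb xb26 yb51 zb43) (kb xb17 yb3 zb25) (kb xb20 yb31 zb15) (kb xb29 yb55 zb42) (kb xb18 yb47 zb19) (kb xb20 yb10 zb33) (kb xb12 yb10 zb2) (kb xb29 yb55 zb46) (kb xb17 yb21 zb19) (kb xb12 yb10 zb8) (kb xb13 yb45 zb43) (kb xb12 yb10 zb14) (kb xb12 yb10 zb11) (kb xb23 yb56 zb24) (kb xb24 yb8 zb23) (kb xb12 yb51 zb52) (kb xb17 yb24 zb54)) (@D3.rec (fun _ => Pt) (kb xb20 yb44 zb9) (kb xb17 yb23 zb24) (kb xb24 yb9 zb8) (kb xb17 yb19 zb34) (kb xb29 yb19 zb38) (kb xb17 yb22 zb56) (kb xb13 yb31 zb7) (kb xb12 yb10 zb29) (kb xb21 yb3 zb24) (kb xb17 yb10 zb59) (kb xb20 yb31 zb17) (kb xb29 yb35 zb54) (kb xb16 yb31 zb37) (kb xb21 yb6 zb50) (kb xb12 yb10 zb56) (kb xb20 yb19 zb55) (kb xb29 yb55 zb57) (kb xb12 yb11 zb1) (kb xb20 yb25 zb8)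 (kb xb29 yb55 zb58) (kb xb12 yb11 zb6) (kb xb16 yb1 zb30) (kb xb17 yb35 zb25) (kb xb17 yb10 zb17) (kb xb12 yb11 zb8) (kb xb29 yb56 zb0) (kb xb14 yb16 zb1) (kb xb12 yb11 zb14) (kb xb12 yb11 zb15) (kb xb12 yb11 zb12) (kb xb14 yb36 zb26) (kb xb28 yb43 zb6) (kb xb24 yb15 zb57) (kb xb27 yb48 zb18) (kb xb29 yb56 zb2) (kb xb25 yb57 zb50) (kb xb12 yb11 zb53) (kb xb12 yb11 zb19) (kb xb28 yb43 zb13) (kb xb29 yb56 zb7) (kb xb28 yb43 zb17) (kb xb24 yb22 zb55) (kb xb29 yb9 zb32) (kb xb21 yb3 zb37) (kb xb19 yb14 zb19) (kb xb25 yb20 zb43) (kb xb12 yb12 zb40) (kb xb12 yb11 zb26) (kb xb22 yb4 zb16) (kb xb12 yb11 zb27) (kb xb29 yb45 zb1) (kb xb25 yb45 zb10) (kb xb29 yb9 zb31) (kb xb21 yb3 zb46) (kb xb12 yb11 zb32) (kb xb20 yb57 zb59) (kb xb15 yb54 zb59) (kb xb12 yb11 zb35) (kb xb29 yb56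 zb19) (kb xb12 yb11 zb37) (kb xb29 yb56 zb22) (kb xb12 yb11 zb38)) (@D3.rec (fun _ => Pt) (kb xb12 yb49 zb54) (kb xb12 yb11 zb39) (kb xb28 yb30 zb32) (kb xb15 yb33 zb55) (kb xb15 yb37 zb60) (kb xb25 yb13 zb9) (kb xb12 yb11 zb41) (kb xb21 yb1 zb1) (kb xb19 yb16 zb6) (kb xb27 yb18 zb53) (kb xb29 yb56 zb26) (kb xb29 yb56 zb31) (kb xb29 yb56 zb32) (kb xb17 yb27 zb49) (kb xb12 yb11 zb43) (kb xb12 yb11 zb44) (kb xb29 yb56 zb36) (kb xb29 yb56 zb37) (kb xb25 yb34 zb52) (kb xb17 yb27 zb55) (kb xb12 yb11 zb46) (kb xb24 yb40 zb14) (kb xb25 yb53 zb44) (kb xb25 yb13 zb28) (kb xb17 yb28 zb4) (kb xb12 yb11 zb48) (kb xb24 yb40 zb11) (kb xb25 yb57 zb51) (kb xb17 yb27 zb60) (kb xb12 yb11 zb50) (kb xb12 yb11 zb51) (kb xb12 yb11 zb52) (kb xb29 yb56 zb50) (kb xb25 yb57 zb0) (kb xb27 yb18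 zb41) (kb xb15 yb33 zb32) (kb xb29 yb56 zb55) (kb xb27 yb7 zb54) (kb xb12 yb11 zb57) (kb xb12 yb11 zb55) (kb xb29 yb57 zb2) (kb xb12 yb11 zb56) (kb xb20 yb3 zb10) (kb xb24 yb40 zb8) (kb xb29 yb56 zb61) (kb xb12 yb11 zb59) (kb xb15 yb48 zb61) (kb xb12 yb12 zb2) (kb xb28 yb1 zb9) (kb xb20 yb36 zb16) (kb xb12 yb40 zb9) (kb xb21 yb6 zb59) (kb xb12 yb12 zb7) (kb xb29 yb57 zb9) (kb xb27 yb29 zb38) (kb xb25 yb28 zb12) (kb xb12 yb20 zb12) (kb xb17 yb27 zb54) (kb xb12 yb12 zb14) (kb xb29 yb57 zb15) (kb xb26 yb2 zb14) (kb xb29 yb57 zb19)) (@D3.rec (fun _ => Pt) (kb xb12 yb12 zb18) (kb xb12 yb12 zb17) (kb xb29 yb57 zb20) (kb xb27 yb11 zb3) (kb xb26 yb11 zb5) (kb xb20 yb12 zb15) (kb xb29 yb46 zb38) (kb xb21 yb53 zb51) (kb xb29 yb57 zb26) (kb xb14 yb41 zb32) (kb xb22 yb45 zb17)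 (kb xb12 yb12 zb22) (kb xb29 yb57 zb31) (kb xb29 yb57 zb32) (kb xb22 yb45 zb21) (kb xb29 yb57 zb37) (kb xb21 yb19 zb9) (kb xb12 yb12 zb24) (kb xb23 yb40 zb45) (kb xb17 yb13 zb3) (kb xb12 yb12 zb30) (kb xb25 yb23 zb16) (kb xb27 yb3 zb48) (kb xb17 yb55 zb52) (kb xb21 yb34 zb17) (kb xb12 yb12 zb33) (kb xb25 yb23 zb15) (kb xb12 yb12 zb38) (kb xb21 yb33 zb22) (kb xb26 yb2 zb21) (kb xb29 yb57 zb51) (kb xb12 yb13 zb25) (kb xb12 yb12 zb43) (kb xb26 yb6 zb39) (kb xb21 yb44 zb33) (kb xb14 yb15 zb56) (kb xb12 yb12 zb50) (kb xb16 yb9 zb23) (kb xb14 yb34 zb3) (kb xb29 yb12 zb60) (kb xb12 yb12 zb52) (kb xb26 yb6 zb3) (kb xb18 yb0 zb22) (kb xb27 yb43 zb31) (kb xb16 yb25 zb33) (kb xb26 yb47 zb0) (kb xb17 yb41 zb58) (kb xb20 yb14 zb3) (kb xb21 yb28 zb26) (kb xb21 yb27 zb40) (kb xb16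 yb15 zb32) (kb xb29 yb57 zb60) (kb xb19 yb17 zb16) (kb xb12 yb13 zb0) (kb xb18 yb50 zb27) (kb xb17 yb21 zb42) (kb xb12 yb13 zb6) (kb xb29 yb57 zb61) (kb xb12 yb13 zb8) (kb xb24 yb43 zb12) (kb xb21 yb19 zb1) (kb xb19 yb16 zb31)) (@D3.rec (fun _ => Pt) (kb xb21 yb46 zb52) (kb xb21 yb18 zb60) (kb xb21 yb55 zb46) (kb xb29 yb58 zb1) (kb xb21 yb24 zb25) (kb xb12 yb13 zb13) (kb xb12 yb13 zb14) (kb xb29 yb49 zb38) (kb xb21 yb24 zb47) (kb xb21 yb18 zb16) (kb xb12 yb13 zb18) (kb xb12 yb13 zb19) (kb xb14 yb7 zb24) (kb xb14 yb54 zb59) (kb xb26 yb15 zb28) (kb xb21 yb34 zb22) (kb xb12 yb13 zb21) (kb xb23 yb40 zb60) (kb xb15 yb45 zb61) (kb xb12 yb13 zb23) (kb xb29 yb58 zb18) (kb xb12 yb13 zb24) (kb xb29 yb58 zb21) (kb xb26 yb2 zb35) (kb xb29 yb57 zb53) (kb xb29 yb58 zb25) (kb xb15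 yb42 zb48) (kb xb12 yb13 zb29) (kb xb22 yb43 zb36) (kb xb29 yb58 zb32) (kb xb23 yb27 zb47) (kb xb13 yb25 zb41) (kb xb15 yb49 zb34) (kb xb21 yb34 zb10) (kb xb12 yb13 zb33) (kb xb24 yb42 zb1) (kb xb21 yb46 zb32) (kb xb12 yb13 zb34) (kb xb21 yb22 zb47) (kb xb21 yb40 zb34) (kb xb18 yb25 zb39) (kb xb20 yb23 zb12) (kb xb12 yb13 zb38) (kb xb12 yb16 zb5) (kb xb21 yb34 zb21) (kb xb12 yb13 zb40) (kb xb23 yb41 zb30) (kb xb29 yb58 zb40) (kb xb12 yb13 zb43) (kb xb12 yb13 zb42) (kb xb29 yb58 zb42) (kb xb21 yb8 zb33) (kb xb16 yb13 zb41) (kb xb12 yb13 zb44) (kb xb17 yb44 zb6) (kb xb28 yb3 zb8) (kb xb21 yb33 zb47) (kb xb12 yb13 zb46) (kb xb22 yb28 zb27) (kb xb12 yb13 zb47) (kb xb27 yb46 zb31) (kb xb21 yb34 zb58)) (@D3.rec (fun _ => Pt) (kb xb22 yb11 zb47) (kb xb12 yb13 zb51) (kb xb27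 yb4 zb23) (kb xb13 yb9 zb58) (kb xb22 yb21 zb26) (kb xb21 yb55 zb22) (kb xb17 yb5 zb28) (kb xb21 yb35 zb13) (kb xb12 yb14 zb3) (kb xb12 yb14 zb4) (kb xb12 yb14 zb5) (kb xb12 yb21 zb49) (kb xb12 yb23 zb30) (kb xb12 yb14 zb14) (kb xb12 yb14 zb15) (kb xb22 yb37 zb13) (kb xb12 yb14 zb17) (kb xb12 yb14 zb19) (kb xb12 yb14 zb24) (kb xb12 yb14 zb21) (kb xb18 yb1 zb19) (kb xb20 yb46 zb18) (kb xb19 yb40 zb30) (kb xb12 yb36 zb22) (kb xb12 yb15 zb28) (kb xb29 yb42 zb26) (kb xb12 yb15 zb32) (kb xb12 yb14 zb28) (kb xb12 yb29 zb51) (kb xb21 yb47 zb8) (kb xb12 yb14 zb41) (kb xb12 yb14 zb42) (kb xb14 yb27 zb37) (kb xb29 yb42 zb34) (kb xb12 yb14 zb44) (kb xb25 yb44 zb23) (kb xb15 yb47 zb13) (kb xb12 yb14 zb49) (kb xb12 yb14 zb52) (kb xb12 yb35 zb26) (kb xb12 yb14 zb58) (kb xb22 yb23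 zb9) (kb xb12 yb36 zb21) (kb xb28 yb16 zb21) (kb xb12 yb15 zb9) (kb xb12 yb41 zb22) (kb xb12 yb15 zb13) (kb xb12 yb15 zb19) (kb xb12 yb15 zb25) (kb xb14 yb36 zb33) (kb xb18 yb24 zb21) (kb xb12 yb17 zb44) (kb xb12 yb35 zb32) (kb xb27 yb43 zb27) (kb xb28 yb1 zb23) (kb xb14 yb24 zb6) (kb xb29 yb25 zb50) (kb xb29 yb0 zb60) (kb xb12 yb53 zb38) (kb xb26 yb33 zb15) (kb xb26 yb37 zb47) (kb xb23 yb49 zb30)) (@D3.rec (fun _ => Pt) (kb xb15 yb39 zb43) (kb xb26 yb2 zb58) (kb xb12 yb15 zb44) (kb xb12 yb15 zb47) (kb xb26 yb59 zb6) (kb xb19 yb37 zb42) (kb xb15 yb38 zb25) (kb xb12 yb15 zb56) (kb xb25 yb30 zb50) (kb xb20 yb13 zb4) (kb xb12 yb24 zb38) (kb xb19 yb44 zb41) (kb xb21 yb4 zb47) (kb xb16 yb24 zb2) (kb xb26 yb5 zb58) (kb xb12 yb16 zb13) (kb xb12 yb22 zb17) (kb xb22 yb11 zb38)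 (kb xb27 yb54 zb19) (kb xb20 yb49 zb5) (kb xb20 yb49 zb6) (kb xb25 yb17 zb48) (kb xb20 yb17 zb6) (kb xb27 yb36 zb10) (kb xb29 yb59 zb12) (kb xb18 yb0 zb44) (kb xb12 yb16 zb22) (kb xb28 yb52 zb55) (kb xb20 yb45 zb5) (kb xb12 yb16 zb23) (kb xb29 yb59 zb16) (kb xb12 yb57 zb60) (kb xb29 yb59 zb18) (kb xb20 yb4 zb25) (kb xb12 yb16 zb24) (kb xb29 yb59 zb23) (kb xb25 yb29 zb35) (kb xb12 yb28 zb10) (kb xb12 yb16 zb27) (kb xb25 yb51 zb4) (kb xb29 yb59 zb26) (kb xb12 yb16 zb28) (kb xb29 yb59 zb27) (kb xb12 yb16 zb31) (kb xb29 yb59 zb29) (kb xb29 yb6 zb28) (kb xb21 yb25 zb2) (kb xb12 yb16 zb33) (kb xb29 yb55 zb12) (kb xb25 yb44 zb11) (kb xb13 yb56 zb9) (kb xb24 yb43 zb33) (kb xb27 yb47 zb22) (kb xb12 yb16 zb37) (kb xb12 yb16 zb38) (kb xb25 yb8 zb57) (kb xb29 yb59 zb34) (kb xb21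 yb26 zb20) (kb xb21 yb51 zb51) (kb xb17 yb16 zb39) (kb xb12 yb16 zb45) (kb xb28 yb31 zb22)) (@D3.rec (fun _ => Pt) (kb xb14 yb36 zb58) (kb xb12 yb16 zb48) (kb xb20 yb3 zb36) (kb xb20 yb17 zb4) (kb xb12 yb38 zb44) (kb xb14 yb20 zb58) (kb xb12 yb16 zb55) (kb xb18 yb57 zb0) (kb xb24 yb19 zb47) (kb xb12 yb16 zb53) (kb xb17 yb21 zb24) (kb xb27 yb7 zb28) (kb xb14 yb21 zb0) (kb xb12 yb39 zb9) (kb xb27 yb9 zb19) (kb xb12 yb16 zb56) (kb xb16 yb51 zb6) (kb xb12 yb16 zb60) (kb xb18 yb18 zb25) (kb xb21 yb47 zb4) (kb xb25 yb38 zb10) (kb xb29 yb59 zb39) (kb xb12 yb17 zb0) (kb xb29 yb25 zb41) (kb xb29 yb59 zb47) (kb xb12 yb17 zb3) (kb xb29 yb59 zb50) (kb xb29 yb51 zb48) (kb xb16 yb9 zb5) (kb xb12 yb17 zb10) (kb xb28 yb1 zb32) (kb xb12 yb42 zb55) (kb xb17 yb12 zb46) (kb xb12 yb17 zb12)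 (kb xb16 yb9 zb4) (kb xb25 yb44 zb37) (kb xb21 yb58 zb60) (kb xb12 yb17 zb14) (kb xb12 yb17 zb15) (kb xb24 yb34 zb11) (kb xb15 yb25 zb60) (kb xb29 yb59 zb51) (kb xb21 yb43 zb57) (kb xb26 yb59 zb22) (kb xb21 yb59 zb52) (kb xb20 yb52 zb56) (kb xb24 yb32 zb40) (kb xb21 yb19 zb38) (kb xb12 yb17 zb23) (kb xb12 yb26 zb46) (kb xb29 yb25 zb35) (kb xb16 yb20 zb3) (kb xb12 yb17 zb32) (kb xb24 yb45 zb49) (kb xb12 yb17 zb34) (kb xb17 yb13 zb18) (kb xb12 yb17 zb36) (kb xb29 yb59 zb54) (kb xb27 yb25 zb45) (kb xb15 yb37 zb46) (kb xb12 yb17 zb38) (kb xb12 yb17 zb39)) (@D3.rec (fun _ => Pt) (kb xb28 yb19 zb9) (kb xb29 yb59 zb56) (kb xb12 yb17 zb42) (kb xb12 yb17 zb47) (kb xb12 yb17 zb49) (kb xb26 yb16 zb58) (kb xb29 yb32 zb47) (kb xb21 yb30 zb30) (kb xb17 yb37 zb28) (kb xb25 yb44 zb42)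 (kb xb12 yb43 zb38) (kb xb20 yb16 zb28) (kb xb22 yb9 zb36) (kb xb29 yb13 zb16) (kb xb24 yb44 zb59) (kb xb15 yb36 zb32) (kb xb21 yb30 zb23) (kb xb12 yb17 zb55) (kb xb24 yb22 zb29) (kb xb29 yb17 zb2) (kb xb12 yb17 zb57) (kb xb21 yb59 zb11) (kb xb27 yb37 zb40) (kb xb12 yb55 zb51) (kb xb26 yb14 zb23) (kb xb24 yb45 zb15) (kb xb24 yb45 zb4) (kb xb12 yb18 zb0) (kb xb27 yb48 zb22) (kb xb12 yb18 zb1) (kb xb26 yb14 zb1) (kb xb20 yb16 zb27) (kb xb26 yb5 zb48) (kb xb16 yb47 zb46) (kb xb30 yb0 zb0) (kb xb29 yb21 zb58) (kb xb21 yb46 zb21) (kb xb15 yb24 zb28) (kb xb12 yb50 zb46) (kb xb29 yb38 zb61) (kb xb21 yb43 zb23) (kb xb25 yb21 zb51) (kb xb12 yb18 zb9) (kb xb12 yb18 zb10) (kb xb12 yb18 zb11) (kb xb30 yb0 zb6) (kb xb24 yb20 zb35) (kb xb17 yb29 zb31) (kb xb12 yb40 zb22) (kb xb22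 yb10 zb5) (kb xb24 yb41 zb36) (kb xb12 yb18 zb16) (kb xb12 yb18 zb17) (kb xb15 yb17 zb52) (kb xb27 yb4 zb21) (kb xb21 yb3 zb50) (kb xb21 yb32 zb5) (kb xb27 yb4 zb15) (kb xb27 yb29 zb24) (kb xb12 yb18 zb19) (kb xb19 yb44 zb23) (kb xb19 yb34 zb57)) (@D3.rec (fun _ => Pt) (kb xb12 yb18 zb21) (kb xb21 yb3 zb44) (kb xb12 yb35 zb46) (kb xb12 yb18 zb22) (kb xb23 yb5 zb22) (kb xb19 yb53 zb43) (kb xb24 yb11 zb44) (kb xb12 yb18 zb23) (kb xb29 yb5 zb38) (kb xb22 yb5 zb6) (kb xb24 yb20 zb0) (kb xb27 yb27 zb38) (kb xb12 yb18 zb30) (kb xb22 yb10 zb31) (kb xb20 yb54 zb20) (kb xb12 yb18 zb26) (kb xb12 yb18 zb29) (kb xb29 yb31 zb40) (kb xb18 yb50 zb24) (kb xb30 yb0 zb19) (kb xb12 yb18 zb44) (kb xb12 yb18 zb33) (kb xb30 yb0 zb22) (kb xb15 yb41 zb44) (kb xb24 yb36 zb13) (kb xb21 yb19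 zb4) (kb xb12 yb18 zb35) (kb xb30 yb0 zb27) (kb xb26 yb1 zb9) (kb xb30 yb0 zb29) (kb xb30 yb0 zb31) (kb xb12 yb18 zb41) (kb xb23 yb39 zb22) (kb xb12 yb18 zb42) (kb xb12 yb18 zb43) (kb xb30 yb0 zb34) (kb xb16 yb4 zb30) (kb xb30 yb0 zb20) (kb xb30 yb0 zb36) (kb xb12 yb18 zb47) (kb xb12 yb18 zb46) (kb xb30 yb0 zb41) (kb xb27 yb30 zb27) (kb xb13 yb56 zb53) (kb xb23 yb40 zb29) (kb xb12 yb18 zb50) (kb xb15 yb41 zb45) (kb xb21 yb19 zb8) (kb xb20 yb36 zb18) (kb xb21 yb27 zb54) (kb xb12 yb18 zb53) (kb xb12 yb18 zb52) (kb xb30 yb0 zb50) (kb xb16 yb13 zb39) (kb xb30 yb0 zb48) (kb xb30 yb0 zb49) (kb xb12 yb18 zb55) (kb xb22 yb43 zb47) (kb xb12 yb18 zb56) (kb xb28 yb9 zb61) (kb xb21 yb34 zb5) (kb xb21 yb33 zb44)) (@D3.rec (fun _ => Pt) (kb xb12 yb18 zb60) (kb xb18 yb29 zb23) (kb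 xb21 yb21 zb46) (kb xb27 yb26 zb3) (kb xb12 yb19 zb14) (kb xb12 yb19 zb1) (kb xb27 yb17 zb48) (kb xb27 yb46 zb45) (kb xb22 yb11 zb50) (kb xb12 yb19 zb5) (kb xb18 yb30 zb2) (kb xb22 yb31 zb17) (kb xb22 yb27 zb55) (kb xb12 yb19 zb8) (kb xb30 yb0 zb56) (kb xb12 yb19 zb10) (kb xb12 yb19 zb11) (kb xb23 yb2 zb45) (kb xb27 yb45 zb54) (kb xb26 yb12 zb20) (kb xb12 yb19 zb13) (kb xb23 yb17 zb59) (kb xb26 yb6 zb24) (kb xb14 yb9 zb36) (kb xb15 yb12 zb25) (kb xb18 yb28 zb15) (kb xb14 yb4 zb9) (kb xb12 yb19 zb19) (kb xb12 yb19 zb17) (kb xb30 yb1 zb5) (kb xb12 yb19 zb18) (kb xb23 yb1 zb58) (kb xb30 yb1 zb7) (kb xb15 yb13 zb52) (kb xb15 yb11 zb52) (kb xb18 yb29 zb8) (kb xb12 yb19 zb20) (kb xb19 yb0 zb53) (kb xb12 yb19 zb24) (kb xb23 yb2 zb54) (kb xb12 yb19 zb26) (kb xb12 yb24 zb41)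 (kb xb15 yb33 zb16) (kb xb12 yb19 zb30) (kb xb22 yb11 zb49) (kb xb12 yb19 zb29) (kb xb29 yb58 zb51) (kb xb25 yb16 zb59) (kb xb25 yb45 zb32) (kb xb16 yb9 zb41) (kb xb12 yb43 zb33) (kb xb18 yb49 zb49) (kb xb18 yb37 zb59) (kb xb12 yb19 zb36) (kb xb24 yb45 zb44) (kb xb12 yb43 zb34) (kb xb14 yb35 zb52) (kb xb18 yb43 zb20) (kb xb17 yb14 zb54) (kb xb12 yb42 zb49) (kb xb30 yb1 zb13) (kb xb24 yb45 zb9)) (@D3.rec (fun _ => Pt) (kb xb27 yb30 zb44) (kb xb12 yb19 zb50) (kb xb18 yb26 zb33) (kb xb18 yb7 zb6) (kb xb18 yb8 zb33) (kb xb23 yb20 zb32) (kb xb12 yb19 zb55) (kb xb24 yb40 zb48) (kb xb12 yb19 zb58) (kb xb12 yb19 zb59) (kb xb12 yb19 zb56) (kb xb13 yb19 zb57) (kb xb12 yb19 zb57) (kb xb12 yb19 zb60) (kb xb30 yb1 zb16) (kb xb12 yb20 zb1) (kb xb12 yb20 zb3) (kb xb30 yb1 zb19) (kb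 xb26 yb3 zb58) (kb xb22 yb3 zb42) (kb xb21 yb21 zb57) (kb xb17 yb58 zb47) (kb xb27 yb56 zb6) (kb xb14 yb35 zb51) (kb xb12 yb20 zb6) (kb xb25 yb6 zb48) (kb xb21 yb38 zb0) (kb xb12 yb37 zb59) (kb xb12 yb20 zb10) (kb xb22 yb10 zb4) (kb xb14 yb57 zb26) (kb xb12 yb20 zb21) (kb xb20 yb34 zb25) (kb xb20 yb27 zb43) (kb xb14 yb57 zb27) (kb xb12 yb24 zb32) (kb xb12 yb20 zb20) (kb xb28 yb9 zb59) (kb xb26 yb59 zb1) (kb xb15 yb46 zb9) (kb xb12 yb20 zb32) (kb xb12 yb20 zb34) (kb xb15 yb16 zb45) (kb xb12 yb50 zb59) (kb xb12 yb27 zb29) (kb xb12 yb20 zb39) (kb xb19 yb23 zb4) (kb xb12 yb20 zb38) (kb xb19 yb18 zb56) (kb xb12 yb27 zb20) (kb xb28 yb10 zb0) (kb xb12 yb20 zb42) (kb xb18 yb39 zb22) (kb xb12 yb20 zb43) (kb xb12 yb24 zb47) (kb xb12 yb20 zb45) (kb xb20 yb34 zb59) (kb xb12 yb20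 zb46) (kb xb17 yb30 zb57) (kb xb30 yb1 zb25) (kb xb17 yb50 zb61) (kb xb25 yb55 zb10)) (@D3.rec (fun _ => Pt) (kb xb12 yb20 zb56) (kb xb25 yb7 zb37) (kb xb25 yb29 zb25) (kb xb12 yb21 zb2) (kb xb12 yb20 zb58) (kb xb23 yb27 zb34) (kb xb18 yb8 zb1) (kb xb25 yb7 zb39) (kb xb25 yb30 zb26) (kb xb12 yb20 zb60) (kb xb21 yb5 zb47) (kb xb27 yb4 zb55) (kb xb15 yb48 zb43) (kb xb30 yb1 zb29) (kb xb21 yb5 zb20) (kb xb29 yb59 zb32) (kb xb12 yb21 zb6) (kb xb15 yb56 zb56) (kb xb15 yb58 zb39) (kb xb12 yb21 zb7) (kb xb12 yb21 zb5) (kb xb29 yb59 zb17) (kb xb30 yb1 zb35) (kb xb30 yb1 zb37) (kb xb30 yb1 zb33) (kb xb30 yb1 zb38) (kb xb17 yb10 zb25) (kb xb12 yb21 zb9) (kb xb30 yb1 zb40) (kb xb23 yb36 zb25) (kb xb12 yb21 zb13) (kb xb12 yb21 zb12) (kb xb30 yb1 zb44) (kb xb15 yb35 zb6) (kb xb30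 yb1 zb43) (kb xb12 yb21 zb15) (kb xb30 yb1 zb48) (kb xb21 yb36 zb11) (kb xb12 yb21 zb16) (kb xb21 yb5 zb22) (kb xb21 yb18 zb49) (kb xb21 yb5 zb48) (kb xb12 yb21 zb18) (kb xb28 yb42 zb51) (kb xb26 yb0 zb16) (kb xb12 yb21 zb27) (kb xb12 yb21 zb20) (kb xb26 yb8 zb56) (kb xb24 yb41 zb6) (kb xb30 yb1 zb56) (kb xb28 yb42 zb54) (kb xb14 yb44 zb42) (kb xb12 yb21 zb24) (kb xb30 yb1 zb59) (kb xb21 yb24 zb49) (kb xb12 yb21 zb26) (kb xb13 yb25 zb60) (kb xb13 yb51 zb47) (kb xb30 yb1 zb51) (kb xb13 yb50 zb18) (kb xb12 yb21 zb30) (kb xb18 yb37 zb60)) (@D3.rec (fun _ => Pt) (kb xb24 yb43 zb22) (kb xb12 yb21 zb33) (kb xb30 yb2 zb3) (kb xb30 yb2 zb0) (kb xb30 yb2 zb1) (kb xb12 yb21 zb31) (kb xb29 yb6 zb11) (kb xb12 yb21 zb32) (kb xb28 yb0 zb35) (kb xb30 yb2 zb11) (kb xb30 yb2 zb14) (kb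 xb30 yb2 zb18) (kb xb27 yb22 zb10) (kb xb12 yb21 zb35) (kb xb25 yb2 zb34) (kb xb23 yb35 zb28) (kb xb25 yb44 zb13) (kb xb12 yb21 zb40) (kb xb12 yb21 zb39) (kb xb19 yb14 zb47) (kb xb30 yb2 zb24) (kb xb30 yb2 zb27) (kb xb12 yb21 zb43) (kb xb12 yb21 zb42) (kb xb23 yb46 zb59) (kb xb30 yb2 zb29) (kb xb21 yb18 zb48) (kb xb12 yb21 zb45) (kb xb26 yb48 zb19) (kb xb20 yb27 zb45) (kb xb12 yb21 zb46) (kb xb30 yb2 zb33) (kb xb26 yb16 zb7) (kb xb12 yb21 zb51) (kb xb23 yb16 zb49) (kb xb16 yb13 zb30) (kb xb12 yb21 zb55) (kb xb18 yb36 zb55) (kb xb13 yb51 zb40) (kb xb26 yb53 zb14) (kb xb18 yb27 zb7) (kb xb12 yb22 zb53) (kb xb21 yb44 zb61) (kb xb24 yb44 zb26) (kb xb22 yb56 zb58) (kb xb25 yb3 zb1) (kb xb26 yb31 zb21) (kb xb28 yb12 zb21) (kb xb25 yb17 zb50) (kb xb12 yb31 zb58) (kb xb12 yb22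 zb7) (kb xb18 yb37 zb15) (kb xb30 yb2 zb37) (kb xb28 yb5 zb37) (kb xb30 yb2 zb36) (kb xb26 yb22 zb33) (kb xb12 yb22 zb12) (kb xb15 yb27 zb20) (kb xb18 yb37 zb12) (kb xb29 yb51 zb58) (kb xb28 yb6 zb34) (kb xb29 yb18 zb11)) (@D3.rec (fun _ => Pt) (kb xb12 yb22 zb18) (kb xb17 yb30 zb3) (kb xb12 yb22 zb41) (kb xb21 yb53 zb61) (kb xb26 yb22 zb9) (kb xb29 yb23 zb60) (kb xb21 yb53 zb45) (kb xb12 yb22 zb54) (kb xb16 yb26 zb9) (kb xb16 yb26 zb10) (kb xb30 yb2 zb41) (kb xb12 yb22 zb30) (kb xb27 yb40 zb60) (kb xb21 yb52 zb59) (kb xb23 yb35 zb20) (kb xb30 yb2 zb44) (kb xb12 yb22 zb32) (kb xb30 yb2 zb46) (kb xb22 yb3 zb9) (kb xb26 yb48 zb45) (kb xb21 yb32 zb39) (kb xb26 yb21 zb58) (kb xb26 yb21 zb59) (kb xb20 yb0 zb33) (kb xb29 yb31 zb39) (kb xb12 yb22 zb42) (kb xb12 yb22 zb43)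 (kb xb12 yb22 zb39) (kb xb29 yb55 zb24) (kb xb14 yb59 zb40) (kb xb14 yb8 zb41) (kb xb27 yb57 zb28) (kb xb12 yb22 zb44) (kb xb30 yb2 zb56) (kb xb26 yb0 zb33) (kb xb29 yb18 zb14) (kb xb12 yb22 zb47) (kb xb30 yb2 zb57) (kb xb28 yb42 zb42) (kb xb12 yb22 zb48) (kb xb30 yb2 zb59) (kb xb24 yb36 zb37) (kb xb30 yb2 zb61) (kb xb30 yb3 zb0) (kb xb22 yb35 zb34) (kb xb29 yb22 zb5) (kb xb29 yb22 zb6) (kb xb14 yb8 zb12) (kb xb22 yb30 zb56) (kb xb24 yb30 zb56) (kb xb23 yb3 zb59) (kb xb13 yb55 zb39) (kb xb14 yb29 zb9) (kb xb27 yb21 zb12) (kb xb20 yb24 zb30) (kb xb14 yb46 zb40) (kb xb22 yb50 zb19) (kb xb18 yb20 zb5) (kb xb30 yb3 zb9) (kb xb24 yb55 zb44) (kb xb24 yb56 zb56) (kb xb12 yb23 zb5)) (@D3.rec (fun _ => Pt) (kb xb30 yb3 zb12) (kb xb30 yb3 zb13) (kb xb12 yb23 zb6) (kb xb23 yb14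 zb16) (kb xb22 yb32 zb39) (kb xb14 yb2 zb9) (kb xb24 yb30 zb30) (kb xb21 yb30 zb45) (kb xb20 yb19 zb20) (kb xb16 yb48 zb41) (kb xb12 yb23 zb12) (kb xb16 yb59 zb31) (kb xb12 yb23 zb13) (kb xb23 yb30 zb61) (kb xb17 yb9 zb13) (kb xb17 yb9 zb14) (kb xb12 yb23 zb18) (kb xb15 yb47 zb41) (kb xb14 yb36 zb5) (kb xb21 yb35 zb10) (kb xb30 yb3 zb20) (kb xb16 yb51 zb13) (kb xb20 yb51 zb58) (kb xb21 yb23 zb16) (kb xb12 yb45 zb7) (kb xb16 yb33 zb15) (kb xb18 yb24 zb44) (kb xb21 yb7 zb27) (kb xb18 yb24 zb49) (kb xb18 yb7 zb60) (kb xb21 yb23 zb7) (kb xb20 yb51 zb27) (kb xb20 yb21 zb39) (kb xb22 yb39 zb21) (kb xb15 yb55 zb53) (kb xb12 yb23 zb33) (kb xb15 yb55 zb36) (kb xb12 yb44 zb33) (kb xb14 yb34 zb1) (kb xb19 yb48 zb58) (kb xb12 yb23 zb36) (kb xb12 yb37 zb16) (kb xb12 yb23 zb47) (kb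 xb14 yb45 zb36) (kb xb17 yb0 zb38) (kb xb21 yb30 zb7) (kb xb12 yb23 zb50) (kb xb13 yb58 zb46) (kb xb30 yb3 zb22) (kb xb30 yb3 zb23) (kb xb12 yb23 zb51) (kb xb22 yb46 zb43) (kb xb12 yb23 zb57) (kb xb12 yb23 zb60) (kb xb12 yb24 zb2) (kb xb12 yb34 zb38) (kb xb13 yb0 zb49) (kb xb14 yb34 zb47) (kb xb12 yb24 zb16) (kb xb27 yb31 zb11) (kb xb21 yb44 zb28) (kb xb17 yb58 zb45)) (@D3.rec (fun _ => Pt) (kb xb21 yb54 zb49) (kb xb25 yb31 zb32) (kb xb30 yb3 zb26) (kb xb12 yb35 zb17) (kb xb12 yb50 zb37) (kb xb12 yb24 zb20) (kb xb22 yb3 zb38) (kb xb17 yb30 zb58) (kb xb30 yb3 zb29) (kb xb27 yb27 zb34) (kb xb21 yb4 zb31) (kb xb15 yb38 zb34) (kb xb16 yb18 zb7) (kb xb12 yb24 zb27) (kb xb17 yb40 zb22) (kb xb15 yb38 zb32) (kb xb12 yb24 zb28) (kb xb12 yb30 zb44) (kb xb29 yb56 zb5) (kb xb25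 yb41 zb3) (kb xb14 yb11 zb24) (kb xb12 yb24 zb31) (kb xb14 yb56 zb11) (kb xb18 yb8 zb24) (kb xb30 yb3 zb31) (kb xb22 yb8 zb45) (kb xb12 yb24 zb35) (kb xb16 yb15 zb7) (kb xb20 yb36 zb19) (kb xb12 yb24 zb37) (kb xb30 yb3 zb32) (kb xb29 yb57 zb30) (kb xb14 yb46 zb28) (kb xb21 yb5 zb58) (kb xb27 yb6 zb4) (kb xb30 yb1 zb24) (kb xb12 yb24 zb42) (kb xb12 yb24 zb43) (kb xb30 yb3 zb38) (kb xb21 yb36 zb18) (kb xb27 yb17 zb52) (kb xb12 yb24 zb46) (kb xb26 yb43 zb40) (kb xb21 yb57 zb29) (kb xb27 yb41 zb17) (kb xb24 yb15 zb45) (kb xb18 yb49 zb29) (kb xb30 yb3 zb42) (kb xb12 yb24 zb55) (kb xb30 yb3 zb44) (kb xb12 yb24 zb56) (kb xb21 yb36 zb60) (kb xb12 yb24 zb58) (kb xb12 yb24 zb59) (kb xb18 yb3 zb46) (kb xb26 yb16 zb39) (kb xb23 yb22 zb14) (kb xb24 yb57 zb23) (kb xb16 yb57 zb11)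 (kb xb12 yb25 zb5) (kb xb20 yb20 zb15) (kb xb23 yb25 zb12)) (@D3.rec (fun _ => Pt) (kb xb14 yb54 zb25) (kb xb17 yb3 zb59) (kb xb12 yb25 zb10) (kb xb30 yb3 zb51) (kb xb29 yb21 zb48) (kb xb21 yb23 zb56) (kb xb12 yb25 zb12) (kb xb13 yb55 zb33) (kb xb24 yb41 zb38) (kb xb21 yb52 zb19) (kb xb17 yb17 zb58) (kb xb17 yb14 zb40) (kb xb26 yb59 zb2) (kb xb17 yb30 zb16) (kb xb12 yb25 zb15) (kb xb18 yb16 zb35) (kb xb24 yb19 zb2) (kb xb12 yb25 zb16) (kb xb26 yb9 zb11) (kb xb26 yb4 zb4) (kb xb20 yb28 zb10) (kb xb18 yb38 zb26) (kb xb13 yb59 zb43) (kb xb12 yb25 zb23) (kb xb27 yb22 zb36) (kb xb12 yb25 zb24) (kb xb22 yb42 zb35) (kb xb17 yb48 zb39) (kb xb24 yb18 zb2) (kb xb23 yb59 zb51) (kb xb12 yb25 zb26) (kb xb13 yb23 zb37) (kb xb23 yb59 zb52) (kb xb14 yb48 zb37) (kb xb12 yb25 zb31) (kb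 xb26 yb1 zb11) (kb xb13 yb25 zb17) (kb xb21 yb15 zb37) (kb xb12 yb25 zb37) (kb xb21 yb29 zb20) (kb xb21 yb13 zb2) (kb xb12 yb25 zb39) (kb xb26 yb56 zb42) (kb xb12 yb25 zb45) (kb xb12 yb25 zb41) (kb xb21 yb35 zb36) (kb xb19 yb27 zb24) (kb xb18 yb7 zb3) (kb xb14 yb58 zb15) (kb xb27 yb26 zb44) (kb xb13 yb52 zb59) (kb xb12 yb25 zb54) (kb xb12 yb25 zb55) (kb xb25 yb58 zb54) (kb xb12 yb25 zb56) (kb xb22 yb11 zb32) (kb xb12 yb25 zb59) (kb xb12 yb25 zb61) (kb xb22 yb2 zb54) (kb xb12 yb26 zb3) (kb xb12 yb26 zb4) (kb xb24 yb43 zb16)) (@D3.rec (fun _ => Pt) (kb xb29 yb0 zb37) (kb xb28 yb42 zb45) (kb xb20 yb0 zb1) (kb xb12 yb41 zb58) (kb xb12 yb26 zb7) (kb xb27 yb11 zb28) (kb xb29 yb22 zb42) (kb xb27 yb5 zb54) (kb xb12 yb52 zb48) (kb xb25 yb45 zb52) (kb xb16 yb8 zb46) (kb xb12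 yb26 zb12) (kb xb13 yb53 zb26) (kb xb26 yb13 zb2) (kb xb30 yb4 zb9) (kb xb12 yb26 zb15) (kb xb12 yb26 zb16) (kb xb12 yb26 zb17) (kb xb12 yb26 zb14) (kb xb15 yb36 zb30) (kb xb25 yb45 zb51) (kb xb12 yb47 zb13) (kb xb21 yb18 zb28) (kb xb12 yb36 zb43) (kb xb12 yb39 zb59) (kb xb12 yb32 zb48) (kb xb12 yb26 zb19) (kb xb12 yb26 zb20) (kb xb19 yb59 zb59) (kb xb17 yb57 zb60) (kb xb17 yb57 zb59) (kb xb29 yb22 zb41) (kb xb12 yb26 zb22) (kb xb25 yb22 zb49) (kb xb20 yb23 zb26) (kb xb30 yb4 zb10) (kb xb22 yb38 zb41) (kb xb17 yb4 zb56) (kb xb30 yb4 zb12) (kb xb12 yb26 zb41) (kb xb12 yb26 zb31) (kb xb22 yb11 zb14) (kb xb27 yb1 zb42) (kb xb30 yb4 zb15) (kb xb21 yb24 zb61) (kb xb21 yb59 zb39) (kb xb16 yb16 zb50) (kb xb21 yb19 zb56) (kb xb23 yb18 zb0) (kb xb14 yb57 zb33) (kb xb27 yb27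 zb5) (kb xb28 yb4 zb17) (kb xb16 yb18 zb11) (kb xb27 yb25 zb9) (kb xb12 yb26 zb40) (kb xb24 yb31 zb22) (kb xb30 yb4 zb18) (kb xb17 yb43 zb56) (kb xb26 yb48 zb16) (kb xb30 yb4 zb20) (kb xb26 yb14 zb52) (kb xb21 yb42 zb12)) (@D3.rec (fun _ => Pt) (kb xb17 yb43 zb50) (kb xb12 yb26 zb47) (kb xb27 yb45 zb51) (kb xb12 yb26 zb48) (kb xb17 yb13 zb34) (kb xb21 yb24 zb60) (kb xb27 yb30 zb50) (kb xb12 yb26 zb54) (kb xb16 yb16 zb61) (kb xb26 yb5 zb50) (kb xb21 yb19 zb33) (kb xb12 yb26 zb56) (kb xb25 yb42 zb45) (kb xb30 yb4 zb27) (kb xb12 yb27 zb13) (kb xb24 yb42 zb17) (kb xb30 yb4 zb28) (kb xb21 yb18 zb24) (kb xb12 yb27 zb1) (kb xb30 yb4 zb31) (kb xb15 yb45 zb41) (kb xb21 yb19 zb44) (kb xb21 yb19 zb15) (kb xb12 yb27 zb3) (kb xb26 yb22 zb49) (kb xb14 yb7 zb55) (kb xb23 yb29 zb15)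 (kb xb16 yb5 zb37) (kb xb21 yb46 zb49) (kb xb12 yb27 zb10) (kb xb14 yb5 zb32) (kb xb12 yb27 zb11) (kb xb30 yb4 zb43) (kb xb28 yb41 zb13) (kb xb12 yb27 zb12) (kb xb30 yb4 zb45) (kb xb29 yb58 zb28) (kb xb25 yb14 zb35) (kb xb12 yb27 zb15) (kb xb30 yb4 zb50) (kb xb30 yb4 zb54) (kb xb22 yb44 zb52) (kb xb12 yb27 zb17) (kb xb30 yb4 zb57) (kb xb21 yb8 zb50) (kb xb27 yb48 zb32) (kb xb12 yb27 zb21) (kb xb22 yb59 zb8) (kb xb15 yb53 zb3) (kb xb28 yb10 zb8) (kb xb12 yb27 zb23) (kb xb19 yb5 zb26) (kb xb16 yb7 zb27) (kb xb16 yb7 zb55) (kb xb18 yb39 zb28) (kb xb27 yb59 zb19) (kb xb18 yb32 zb44) (kb xb27 yb37 zb49) (kb xb21 yb19 zb61) (kb xb12 yb27 zb30) (kb xb29 yb30 zb56) (kb xb17 yb57 zb49)) (@D3.rec (fun _ => Pt) (kb xb14 yb11 zb27) (kb xb20 yb23 zb18) (kb xb18 yb0 zb57) (kb xb12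 yb28 zb28) (kb xb25 yb45 zb34) (kb xb12 yb27 zb55) (kb xb20 yb40 zb46) (kb xb25 yb23 zb48) (kb xb12 yb37 zb23) (kb xb12 yb28 zb9) (kb xb21 yb30 zb19) (kb xb28 yb44 zb18) (kb xb17 yb59 zb36) (kb xb21 yb20 zb7) (kb xb12 yb28 zb13) (kb xb14 yb11 zb19) (kb xb21 yb47 zb26) (kb xb20 yb3 zb24) (kb xb27 yb56 zb36) (kb xb28 yb1 zb8) (kb xb12 yb31 zb4) (kb xb21 yb41 zb59) (kb xb18 yb38 zb35) (kb xb14 yb24 zb7) (kb xb12 yb28 zb32) (kb xb14 yb11 zb48) (kb xb30 yb5 zb4) (kb xb23 yb48 zb24) (kb xb14 yb24 zb10) (kb xb29 yb15 zb28) (kb xb26 yb59 zb7) (kb xb12 yb28 zb44) (kb xb12 yb28 zb46) (kb xb26 yb59 zb19) (kb xb17 yb4 zb46) (kb xb21 yb44 zb58) (kb xb21 yb32 zb45) (kb xb20 yb44 zb59) (kb xb17 yb33 zb53) (kb xb12 yb59 zb48) (kb xb17 yb30 zb15) (kb xb20 yb36 zb13) (kb xb17 yb8 zb9)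 (kb xb26 yb50 zb22) (kb xb26 yb45 zb48) (kb xb27 yb2 zb58) (kb xb17 yb0 zb15) (kb xb12 yb29 zb0) (kb xb20 yb45 zb0) (kb xb24 yb7 zb19) (kb xb12 yb29 zb2) (kb xb29 yb19 zb43) (kb xb18 yb17 zb32) (kb xb12 yb29 zb6) (kb xb15 yb30 zb44) (kb xb24 yb2 zb41) (kb xb12 yb29 zb11) (kb xb15 yb46 zb45) (kb xb21 yb50 zb40) (kb xb12 yb29 zb17) (kb xb12 yb29 zb18) (kb xb15 yb54 zb50)) (@D3.rec (fun _ => Pt) (kb xb29 yb18 zb7) (kb xb22 yb6 zb21) (kb xb15 yb55 zb1) (kb xb24 yb37 zb43) (kb xb28 yb42 zb9) (kb xb28 yb30 zb34) (kb xb12 yb29 zb22) (kb xb12 yb29 zb24) (kb xb12 yb29 zb25) (kb xb15 yb43 zb56) (kb xb21 yb42 zb4) (kb xb21 yb27 zb37) (kb xb22 yb31 zb8) (kb xb12 yb29 zb36) (kb xb20 yb34 zb18) (kb xb28 yb25 zb12) (kb xb12 yb29 zb33) (kb xb28 yb27 zb44) (kb xb21 yb31 zb39) (kb xb12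 yb29 zb34) (kb xb24 yb32 zb37) (kb xb17 yb34 zb57) (kb xb27 yb26 zb56) (kb xb29 yb27 zb46) (kb xb17 yb29 zb25) (kb xb27 yb43 zb8) (kb xb26 yb5 zb55) (kb xb12 yb29 zb37) (kb xb20 yb45 zb2) (kb xb17 yb35 zb8) (kb xb12 yb29 zb43) (kb xb14 yb34 zb40) (kb xb17 yb10 zb45) (kb xb12 yb29 zb48) (kb xb18 yb2 zb14) (kb xb26 yb28 zb15) (kb xb26 yb28 zb16) (kb xb26 yb28 zb4) (kb xb21 yb58 zb49) (kb xb23 yb54 zb38) (kb xb29 yb25 zb39) (kb xb12 yb30 zb6) (kb xb26 yb37 zb31) (kb xb27 yb38 zb3) (kb xb24 yb28 zb49) (kb xb16 yb46 zb48) (kb xb21 yb42 zb20) (kb xb20 yb42 zb26) (kb xb12 yb30 zb14) (kb xb20 yb19 zb38) (kb xb14 yb35 zb4) (kb xb16 yb47 zb30) (kb xb17 yb1 zb34) (kb xb17 yb33 zb3) (kb xb19 yb44 zb10) (kb xb24 yb1 zb27) (kb xb12 yb30 zb31) (kb xb24 yb41 zb16) (kb xb27 yb11 zb37)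 (kb xb12 yb30 zb34) (kb xb21 yb31 zb51) (kb xb18 yb6 zb6)) (@D3.rec (fun _ => Pt) (kb xb12 yb30 zb37) (kb xb27 yb26 zb38) (kb xb26 yb17 zb5) (kb xb18 yb8 zb35) (kb xb12 yb58 zb59) (kb xb17 yb40 zb26) (kb xb24 yb43 zb35) (kb xb23 yb22 zb30) (kb xb12 yb30 zb41) (kb xb23 yb16 zb23) (kb xb27 yb30 zb37) (kb xb23 yb22 zb33) (kb xb12 yb30 zb43) (kb xb24 yb55 zb36) (kb xb12 yb30 zb48) (kb xb30 yb5 zb28) (kb xb17 yb24 zb37) (kb xb21 yb9 zb35) (kb xb16 yb52 zb32) (kb xb12 yb30 zb55) (kb xb12 yb30 zb58) (kb xb20 yb41 zb47) (kb xb27 yb42 zb17) (kb xb17 yb18 zb14) (kb xb12 yb31 zb0) (kb xb12 yb32 zb15) (kb xb19 yb49 zb56) (kb xb19 yb52 zb44) (kb xb12 yb31 zb20) (kb xb12 yb31 zb21) (kb xb17 yb39 zb22) (kb xb12 yb31 zb23) (kb xb18 yb8 zb9) (kb xb26 yb5 zb11) (kb xb12 yb31 zb29) (kb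 xb21 yb5 zb49) (kb xb15 yb0 zb5) (kb xb17 yb2 zb27) (kb xb27 yb13 zb56) (kb xb12 yb31 zb38) (kb xb12 yb31 zb35) (kb xb19 yb58 zb39) (kb xb12 yb31 zb36) (kb xb22 yb21 zb28) (kb xb12 yb31 zb42) (kb xb17 yb2 zb24) (kb xb13 yb20 zb48) (kb xb20 yb1 zb27) (kb xb15 yb4 zb9) (kb xb25 yb49 zb48) (kb xb22 yb7 zb58) (kb xb19 yb43 zb29) (kb xb12 yb31 zb51) (kb xb12 yb31 zb52) (kb xb12 yb31 zb50) (kb xb30 yb5 zb32) (kb xb26 yb2 zb26) (kb xb12 yb31 zb56) (kb xb29 yb54 zb4) (kb xb26 yb22 zb39) (kb xb16 yb49 zb50) (kb xb16 yb35 zb34)) (@D3.rec (fun _ => Pt) (kb xb21 yb26 zb26) (kb xb28 yb55 zb58) (kb xb12 yb32 zb3) (kb xb12 yb32 zb4) (kb xb16 yb31 zb39) (kb xb29 yb38 zb55) (kb xb28 yb9 zb21) (kb xb12 yb32 zb6) (kb xb12 yb32 zb8) (kb xb25 yb17 zb52) (kb xb27 yb5 zb37) (kb xb12 yb32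 zb12) (kb xb29 yb18 zb49) (kb xb17 yb13 zb6) (kb xb20 yb40 zb22) (kb xb20 yb33 zb22) (kb xb12 yb32 zb20) (kb xb20 yb32 zb57) (kb xb12 yb32 zb21) (kb xb12 yb32 zb18) (kb xb16 yb25 zb7) (kb xb14 yb44 zb56) (kb xb12 yb32 zb23) (kb xb12 yb32 zb30) (kb xb21 yb42 zb14) (kb xb14 yb29 zb52) (kb xb20 yb41 zb48) (kb xb12 yb32 zb32) (kb xb28 yb16 zb48) (kb xb12 yb32 zb33) (kb xb28 yb16 zb42) (kb xb28 yb26 zb46) (kb xb12 yb32 zb34) (kb xb28 yb52 zb10) (kb xb30 yb5 zb42) (kb xb30 yb5 zb46) (kb xb12 yb32 zb35) (kb xb30 yb5 zb50) (kb xb30 yb5 zb51) (kb xb30 yb5 zb54) (kb xb13 yb23 zb47) (kb xb22 yb40 zb12) (kb xb12 yb32 zb37) (kb xb12 yb32 zb41) (kb xb30 yb5 zb57) (kb xb22 yb13 zb8) (kb xb12 yb32 zb44) (kb xb12 yb32 zb45) (kb xb30 yb5 zb61) (kb xb23 yb22 zb60) (kb xb21 yb10 zb2) (kb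 xb30 yb5 zb18) (kb xb12 yb32 zb58) (kb xb28 yb34 zb9) (kb xb30 yb6 zb1) (kb xb12 yb32 zb59) (kb xb21 yb41 zb42) (kb xb12 yb33 zb2) (kb xb29 yb42 zb28) (kb xb16 yb31 zb30) (kb xb19 yb10 zb53) (kb xb19 yb10 zb52)) (@D3.rec (fun _ => Pt) (kb xb12 yb33 zb4) (kb xb30 yb6 zb6) (kb xb30 yb4 zb13) (kb xb24 yb43 zb43) (kb xb12 yb33 zb6) (kb xb30 yb6 zb14) (kb xb19 yb23 zb30) (kb xb12 yb33 zb10) (kb xb23 yb7 zb3) (kb xb30 yb6 zb16) (kb xb19 yb13 zb10) (kb xb12 yb33 zb13) (kb xb30 yb6 zb17) (kb xb12 yb33 zb14) (kb xb12 yb33 zb15) (kb xb30 yb6 zb20) (kb xb12 yb33 zb16) (kb xb25 yb6 zb60) (kb xb29 yb36 zb21) (kb xb25 yb34 zb15) (kb xb24 yb30 zb48) (kb xb30 yb6 zb26) (kb xb12 yb59 zb14) (kb xb21 yb55 zb60) (kb xb25 yb58 zb31) (kb xb12 yb59 zb34) (kb xb12 yb33 zb20) (kb xb12 yb59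 zb43) (kb xb27 yb6 zb16) (kb xb12 yb33 zb23) (kb xb12 yb33 zb24) (kb xb30 yb6 zb29) (kb xb19 yb16 zb12) (kb xb25 yb27 zb43) (kb xb30 yb6 zb32) (kb xb25 yb32 zb58) (kb xb12 yb33 zb26) (kb xb12 yb33 zb27) (kb xb29 yb58 zb20) (kb xb25 yb9 zb8) (kb xb25 yb9 zb9) (kb xb12 yb33 zb28) (kb xb14 yb27 zb49) (kb xb18 yb52 zb16) (kb xb22 yb16 zb31) (kb xb30 yb6 zb41) (kb xb30 yb6 zb43) (kb xb26 yb24 zb56) (kb xb12 yb33 zb31) (kb xb15 yb32 zb57) (kb xb12 yb33 zb32) (kb xb30 yb6 zb50) (kb xb21 yb8 zb5) (kb xb21 yb8 zb3) (kb xb18 yb22 zb37) (kb xb24 yb0 zb49) (kb xb12 yb33 zb39) (kb xb20 yb41 zb44) (kb xb12 yb33 zb44) (kb xb12 yb33 zb46) (kb xb12 yb33 zb47) (kb xb12 yb33 zb49)) (@D3.rec (fun _ => Pt) (kb xb12 yb33 zb50) (kb xb12 yb33 zb51) (kb xb15 yb59 zb46) (kb xb27 yb6 zb40) (kb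 xb14 yb30 zb59) (kb xb12 yb33 zb57) (kb xb21 yb45 zb4) (kb xb30 yb6 zb55) (kb xb30 yb6 zb56) (kb xb14 yb31 zb5) (kb xb23 yb6 zb4) (kb xb14 yb19 zb3) (kb xb12 yb33 zb61) (kb xb30 yb6 zb59) (kb xb14 yb19 zb8) (kb xb17 yb3 zb46) (kb xb20 yb27 zb12) (kb xb13 yb9 zb9) (kb xb12 yb34 zb3) (kb xb20 yb40 zb35) (kb xb30 yb4 zb38) (kb xb29 yb23 zb23) (kb xb12 yb34 zb5) (kb xb12 yb34 zb10) (kb xb22 yb13 zb15) (kb xb22 yb13 zb16) (kb xb19 yb19 zb9) (kb xb14 yb25 zb55) (kb xb23 yb10 zb51) (kb xb12 yb34 zb15) (kb xb14 yb14 zb15) (kb xb12 yb34 zb18) (kb xb14 yb14 zb13) (kb xb20 yb15 zb55) (kb xb21 yb19 zb39) (kb xb12 yb34 zb19) (kb xb22 yb18 zb0) (kb xb30 yb7 zb5) (kb xb17 yb9 zb59) (kb xb12 yb34 zb20) (kb xb23 yb31 zb4) (kb xb30 yb7 zb8) (kb xb14 yb46 zb46) (kb xb24 yb21 zb54) (kb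 xb12 yb34 zb24) (kb xb17 yb8 zb48) (kb xb30 yb7 zb10) (kb xb14 yb34 zb56) (kb xb12 yb34 zb26) (kb xb17 yb59 zb20) (kb xb14 yb55 zb39) (kb xb24 yb32 zb22) (kb xb12 yb48 zb2) (kb xb12 yb34 zb31) (kb xb12 yb34 zb32) (kb xb30 yb7 zb15) (kb xb12 yb34 zb33) (kb xb25 yb58 zb52) (kb xb12 yb48 zb42) (kb xb23 yb44 zb8) (kb xb26 yb0 zb21) (kb xb13 yb14 zb49)) (@D3.rec (fun _ => Pt) (kb xb12 yb34 zb37) (kb xb22 yb45 zb57) (kb xb30 yb7 zb25) (kb xb12 yb46 zb17) (kb xb25 yb39 zb57) (kb xb12 yb34 zb43) (kb xb28 yb11 zb21) (kb xb14 yb49 zb57) (kb xb12 yb47 zb28) (kb xb20 yb21 zb57) (kb xb13 yb59 zb52) (kb xb17 yb30 zb48) (kb xb13 yb19 zb0) (kb xb12 yb34 zb52) (kb xb13 yb19 zb34) (kb xb30 yb7 zb28) (kb xb23 yb26 zb50) (kb xb13 yb19 zb39) (kb xb13 yb19 zb18) (kb xb15 yb39 zb9) (kb xb19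 yb31 zb4) (kb xb12 yb34 zb55) (kb xb30 yb7 zb30) (kb xb26 yb2 zb5) (kb xb15 yb58 zb60) (kb xb30 yb7 zb32) (kb xb27 yb48 zb14) (kb xb13 yb20 zb42) (kb xb14 yb23 zb29) (kb xb12 yb35 zb5) (kb xb29 yb32 zb49) (kb xb28 yb1 zb16) (kb xb28 yb4 zb8) (kb xb21 yb47 zb24) (kb xb20 yb23 zb17) (kb xb20 yb40 zb58) (kb xb19 yb59 zb18) (kb xb14 yb12 zb1) (kb xb14 yb12 zb2) (kb xb14 yb12 zb3) (kb xb16 yb5 zb34) (kb xb23 yb23 zb22) (kb xb21 yb38 zb56) (kb xb12 yb35 zb23) (kb xb27 yb43 zb28) (kb xb14 yb43 zb20) (kb xb20 yb17 zb32) (kb xb12 yb35 zb25) (kb xb20 yb40 zb21) (kb xb21 yb55 zb4) (kb xb19 yb52 zb54) (kb xb30 yb7 zb37) (kb xb24 yb24 zb0) (kb xb26 yb57 zb56) (kb xb27 yb45 zb48) (kb xb18 yb6 zb44) (kb xb18 yb24 zb17) (kb xb17 yb38 zb10) (kb xb18 yb57 zb59) (kb xb21 yb35 zb21) (kb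 xb18 yb24 zb2) (kb xb18 yb6 zb55)) (@D3.rec (fun _ => Pt) (kb xb12 yb35 zb35) (kb xb18 yb6 zb25) (kb xb12 yb58 zb16) (kb xb12 yb35 zb38) (kb xb21 yb36 zb10) (kb xb26 yb10 zb43) (kb xb15 yb19 zb2) (kb xb12 yb50 zb43) (kb xb27 yb48 zb33) (kb xb12 yb35 zb49) (kb xb27 yb26 zb54) (kb xb12 yb35 zb51) (kb xb21 yb33 zb61) (kb xb12 yb35 zb52) (kb xb21 yb38 zb24) (kb xb18 yb3 zb34) (kb xb27 yb26 zb28) (kb xb12 yb35 zb55) (kb xb28 yb33 zb17) (kb xb21 yb50 zb57) (kb xb21 yb36 zb46) (kb xb19 yb35 zb54) (kb xb26 yb55 zb14) (kb xb12 yb35 zb61) (kb xb12 yb35 zb59) (kb xb19 yb35 zb52) (kb xb16 yb8 zb58) (kb xb15 yb36 zb31) (kb xb25 yb44 zb56) (kb xb21 yb50 zb47) (kb xb12 yb36 zb23) (kb xb26 yb57 zb55) (kb xb14 yb34 zb55) (kb xb17 yb4 zb14) (kb xb30 yb7 zb40) (kb xb23 yb30 zb50) (kb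 xb17 yb24 zb19) (kb xb13 yb20 zb21) (kb xb26 yb5 zb59) (kb xb20 yb26 zb15) (kb xb29 yb43 zb28) (kb xb16 yb9 zb24) (kb xb22 yb3 zb20) (kb xb12 yb37 zb49) (kb xb20 yb34 zb53) (kb xb14 yb35 zb53) (kb xb20 yb27 zb0) (kb xb12 yb39 zb21) (kb xb12 yb36 zb38) (kb xb14 yb36 zb24) (kb xb14 yb36 zb25) (kb xb21 yb47 zb0) (kb xb27 yb23 zb36) (kb xb25 yb54 zb0) (kb xb21 yb7 zb7) (kb xb15 yb35 zb22) (kb xb28 yb57 zb42) (kb xb21 yb42 zb58) (kb xb21 yb42 zb57) (kb xb29 yb22 zb46) (kb xb12 yb36 zb47) (kb xb25 yb57 zb24)) (@D3.rec (fun _ => Pt) (kb xb12 yb36 zb48) (kb xb12 yb36 zb50) (kb xb30 yb7 zb44) (kb xb24 yb40 zb51) (kb xb14 yb55 zb30) (kb xb15 yb54 zb61) (kb xb17 yb36 zb20) (kb xb19 yb44 zb19) (kb xb19 yb17 zb14) (kb xb30 yb7 zb47) (kb xb12 yb37 zb3) (kb xb27 yb43 zb26) (kb xb19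 yb46 zb25) (kb xb20 yb37 zb56) (kb xb12 yb36 zb61) (kb xb15 yb18 zb1) (kb xb18 yb12 zb41) (kb xb13 yb25 zb54) (kb xb19 yb57 zb0) (kb xb30 yb7 zb50) (kb xb12 yb37 zb2) (kb xb19 yb46 zb23) (kb xb25 yb33 zb31) (kb xb21 yb23 zb40) (kb xb12 yb37 zb4) (kb xb30 yb7 zb56) (kb xb12 yb37 zb5) (kb xb23 yb39 zb31) (kb xb12 yb37 zb6) (kb xb29 yb11 zb7) (kb xb26 yb8 zb4) (kb xb23 yb26 zb56) (kb xb23 yb26 zb60) (kb xb14 yb6 zb27) (kb xb12 yb37 zb11) (kb xb15 yb35 zb11) (kb xb22 yb33 zb7) (kb xb26 yb50 zb28) (kb xb30 yb3 zb21) (kb xb26 yb21 zb51) (kb xb12 yb37 zb18) (kb xb28 yb36 zb57) (kb xb15 yb48 zb10) (kb xb30 yb8 zb2) (kb xb17 yb51 zb25) (kb xb26 yb59 zb9) (kb xb30 yb8 zb4) (kb xb12 yb45 zb58) (kb xb12 yb37 zb24) (kb xb26 yb59 zb12) (kb xb12 yb37 zb26) (kb xb30 yb8 zb8) (kb xb12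 yb37 zb32) (kb xb27 yb10 zb41) (kb xb22 yb18 zb3) (kb xb12 yb43 zb35) (kb xb12 yb43 zb36) (kb xb21 yb22 zb42) (kb xb28 yb1 zb11) (kb xb12 yb43 zb23) (kb xb21 yb57 zb22) (kb xb12 yb37 zb40)) (@D3.rec (fun _ => Pt) (kb xb12 yb37 zb41) (kb xb18 yb48 zb5) (kb xb12 yb51 zb15) (kb xb13 yb18 zb33) (kb xb20 yb46 zb23) (kb xb12 yb43 zb47) (kb xb12 yb43 zb48) (kb xb12 yb43 zb53) (kb xb13 yb17 zb50) (kb xb15 yb59 zb5) (kb xb15 yb59 zb6) (kb xb15 yb47 zb42) (kb xb30 yb8 zb13) (kb xb12 yb38 zb7) (kb xb12 yb37 zb54) (kb xb12 yb37 zb55) (kb xb18 yb16 zb0) (kb xb17 yb3 zb29) (kb xb14 yb16 zb40) (kb xb12 yb44 zb31) (kb xb12 yb38 zb9) (kb xb17 yb15 zb24) (kb xb18 yb37 zb17) (kb xb12 yb37 zb58) (kb xb14 yb18 zb15) (kb xb14 yb16 zb59) (kb xb26 yb29 zb22) (kb xb26 yb12 zb58) (kb xb21 yb30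 zb60) (kb xb18 yb37 zb13) (kb xb12 yb38 zb23) (kb xb23 yb47 zb51) (kb xb29 yb38 zb15) (kb xb21 yb18 zb34) (kb xb12 yb45 zb10) (kb xb16 yb56 zb24) (kb xb12 yb38 zb5) (kb xb22 yb42 zb46) (kb xb14 yb59 zb18) (kb xb29 yb31 zb47) (kb xb12 yb38 zb8) (kb xb17 yb26 zb51) (kb xb26 yb55 zb13) (kb xb12 yb46 zb19) (kb xb18 yb50 zb26) (kb xb12 yb38 zb15) (kb xb25 yb17 zb36) (kb xb20 yb12 zb49) (kb xb15 yb49 zb29) (kb xb25 yb19 zb2) (kb xb12 yb38 zb18) (kb xb20 yb19 zb49) (kb xb25 yb25 zb25) (kb xb12 yb38 zb21) (kb xb12 yb53 zb12) (kb xb29 yb22 zb54) (kb xb17 yb41 zb60) (kb xb12 yb38 zb26) (kb xb21 yb35 zb35) (kb xb29 yb21 zb55) (kb xb22 yb46 zb35) (kb xb21 yb28 zb42)) (@D3.rec (fun _ => Pt) (kb xb19 yb53 zb24) (kb xb12 yb38 zb46) (kb xb22 yb3 zb48) (kb xb17 yb9 zb37) (kb xb21 yb40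 zb6) (kb xb12 yb38 zb53) (kb xb22 yb3 zb15) (kb xb23 yb55 zb33) (kb xb23 yb55 zb24) (kb xb26 yb46 zb45) (kb xb12 yb38 zb59) (kb xb24 yb22 zb19) (kb xb25 yb56 zb20) (kb xb12 yb38 zb61) (kb xb30 yb8 zb23) (kb xb12 yb39 zb0) (kb xb30 yb8 zb24) (kb xb12 yb39 zb1) (kb xb19 yb54 zb28) (kb xb26 yb14 zb35) (kb xb28 yb41 zb0) (kb xb16 yb5 zb8) (kb xb12 yb39 zb3) (kb xb12 yb39 zb4) (kb xb25 yb9 zb53) (kb xb13 yb9 zb11) (kb xb14 yb48 zb38) (kb xb30 yb8 zb26) (kb xb16 yb59 zb41) (kb xb29 yb22 zb43) (kb xb14 yb43 zb19) (kb xb17 yb31 zb14) (kb xb17 yb29 zb1) (kb xb26 yb57 zb54) (kb xb25 yb50 zb7) (kb xb17 yb5 zb17) (kb xb17 yb31 zb16) (kb xb30 yb6 zb39) (kb xb27 yb19 zb39) (kb xb27 yb11 zb36) (kb xb21 yb57 zb12) (kb xb15 yb53 zb8) (kb xb20 yb35 zb15) (kb xb20 yb35 zb16) (kb xb12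 yb39 zb36) (kb xb27 yb20 zb26) (kb xb20 yb13 zb15) (kb xb22 yb22 zb27) (kb xb12 yb39 zb40) (kb xb12 yb39 zb41) (kb xb20 yb13 zb11) (kb xb21 yb9 zb24) (kb xb15 yb39 zb52) (kb xb17 yb43 zb38) (kb xb20 yb20 zb20) (kb xb28 yb10 zb25) (kb xb15 yb52 zb57) (kb xb17 yb42 zb21) (kb xb20 yb5 zb28) (kb xb12 yb53 zb37) (kb xb12 yb39 zb44) (kb xb30 yb8 zb34)) (@D3.rec (fun _ => Pt) (kb xb30 yb8 zb35) (kb xb12 yb50 zb40) (kb xb12 yb39 zb49) (kb xb30 yb8 zb36) (kb xb12 yb49 zb51) (kb xb30 yb8 zb37) (kb xb12 yb49 zb0) (kb xb30 yb8 zb38) (kb xb12 yb39 zb55) (kb xb30 yb8 zb39) (kb xb30 yb8 zb40) (kb xb20 yb28 zb31) (kb xb12 yb39 zb58) (kb xb26 yb14 zb7) (kb xb28 yb59 zb2) (kb xb27 yb37 zb54) (kb xb12 yb39 zb61) (kb xb30 yb8 zb45) (kb xb27 yb37 zb53) (kb xb25 yb45 zb54) (kb xb12 yb40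 zb1) (kb xb21 yb23 zb36) (kb xb30 yb8 zb46) (kb xb26 yb16 zb56) (kb xb12 yb40 zb4) (kb xb12 yb40 zb5) (kb xb25 yb26 zb59) (kb xb15 yb17 zb31) (kb xb15 yb17 zb30) (kb xb24 yb34 zb22) (kb xb25 yb45 zb14) (kb xb29 yb58 zb41) (kb xb21 yb19 zb36) (kb xb25 yb41 zb38) (kb xb27 yb11 zb4) (kb xb12 yb40 zb10) (kb xb28 yb31 zb11) (kb xb19 yb5 zb61) (kb xb12 yb40 zb15) (kb xb25 yb53 zb40) (kb xb24 yb36 zb16) (kb xb14 yb54 zb21) (kb xb12 yb40 zb19) (kb xb14 yb54 zb55) (kb xb21 yb46 zb48) (kb xb25 yb41 zb43) (kb xb30 yb7 zb43) (kb xb19 yb16 zb30) (kb xb21 yb46 zb44) (kb xb21 yb34 zb28) (kb xb21 yb10 zb21) (kb xb24 yb45 zb21) (kb xb21 yb19 zb0) (kb xb12 yb40 zb26) (kb xb24 yb41 zb59) (kb xb12 yb40 zb27) (kb xb30 yb8 zb53) (kb xb25 yb40 zb58) (kb xb12 yb40 zb35) (kb xb12 yb40 zb36)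 (kb xb12 yb40 zb33) (kb xb30 yb8 zb56)) (@D3.rec (fun _ => Pt) (kb xb21 yb42 zb51) (kb xb25 yb2 zb25) (kb xb27 yb48 zb30) (kb xb30 yb8 zb54) (kb xb21 yb22 zb19) (kb xb12 yb40 zb43) (kb xb12 yb43 zb52) (kb xb27 yb20 zb13) (kb xb21 yb20 zb29) (kb xb26 yb3 zb55) (kb xb26 yb22 zb59) (kb xb30 yb9 zb1) (kb xb16 yb55 zb53) (kb xb12 yb40 zb51) (kb xb12 yb47 zb0) (kb xb27 yb3 zb43) (kb xb26 yb55 zb23) (kb xb26 yb10 zb42) (kb xb16 yb59 zb36) (kb xb16 yb59 zb37) (kb xb19 yb14 zb59) (kb xb27 yb43 zb25) (kb xb30 yb9 zb3) (kb xb20 yb53 zb43) (kb xb21 yb41 zb33) (kb xb18 yb25 zb5) (kb xb21 yb35 zb16) (kb xb12 yb41 zb25) (kb xb12 yb41 zb8) (kb xb28 yb19 zb11) (kb xb12 yb41 zb29) (kb xb30 yb9 zb9) (kb xb24 yb11 zb60) (kb xb18 yb10 zb53) (kb xb12 yb41 zb12) (kb xb30 yb8 zb19) (kb xb17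 yb3 zb55) (kb xb20 yb54 zb0) (kb xb20 yb53 zb6) (kb xb12 yb41 zb14) (kb xb30 yb9 zb11) (kb xb29 yb2 zb14) (kb xb12 yb41 zb46) (kb xb20 yb46 zb21) (kb xb26 yb4 zb55) (kb xb18 yb24 zb59) (kb xb12 yb53 zb22) (kb xb14 yb37 zb22) (kb xb17 yb16 zb41) (kb xb12 yb41 zb20) (kb xb12 yb41 zb21) (kb xb30 yb9 zb14) (kb xb18 yb17 zb44) (kb xb30 yb8 zb33) (kb xb20 yb9 zb38) (kb xb18 yb26 zb10) (kb xb30 yb9 zb17) (kb xb12 yb53 zb18) (kb xb12 yb41 zb23) (kb xb30 yb9 zb20) (kb xb24 yb33 zb55) (kb xb30 yb9 zb23)) (@D3.rec (fun _ => Pt) (kb xb20 yb3 zb39) (kb xb12 yb41 zb24) (kb xb29 yb58 zb60) (kb xb30 yb9 zb25) (kb xb30 yb9 zb5) (kb xb12 yb53 zb48) (kb xb26 yb58 zb54) (kb xb17 yb33 zb12) (kb xb30 yb9 zb28) (kb xb12 yb41 zb31) (kb xb12 yb41 zb28) (kb xb30 yb0 zb17) (kb xb29 yb38 zb19)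 (kb xb26 yb46 zb55) (kb xb25 yb14 zb6) (kb xb12 yb41 zb30) (kb xb30 yb9 zb32) (kb xb26 yb4 zb54) (kb xb30 yb9 zb35) (kb xb29 yb22 zb12) (kb xb16 yb9 zb18) (kb xb29 yb17 zb34) (kb xb19 yb3 zb60) (kb xb30 yb9 zb37) (kb xb12 yb41 zb36) (kb xb12 yb41 zb35) (kb xb30 yb9 zb41) (kb xb25 yb36 zb36) (kb xb15 yb25 zb48) (kb xb13 yb45 zb57) (kb xb17 yb8 zb61) (kb xb23 yb1 zb7) (kb xb12 yb41 zb39) (kb xb30 yb9 zb47) (kb xb29 yb41 zb50) (kb xb23 yb13 zb26) (kb xb12 yb41 zb41) (kb xb30 yb9 zb54) (kb xb25 yb23 zb1) (kb xb26 yb55 zb1) (kb xb30 yb9 zb59) (kb xb30 yb7 zb53) (kb xb12 yb41 zb44) (kb xb12 yb41 zb45) (kb xb30 yb10 zb2) (kb xb30 yb10 zb1) (kb xb17 yb14 zb3) (kb xb27 yb35 zb39) (kb xb12 yb41 zb49) (kb xb29 yb16 zb29) (kb xb21 yb54 zb0) (kb xb17 yb29 zb47) (kb xb27 yb36 zb17)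 (kb xb13 yb56 zb5) (kb xb25 yb38 zb34) (kb xb12 yb41 zb54) (kb xb27 yb53 zb41) (kb xb24 yb32 zb34) (kb xb26 yb0 zb13) (kb xb12 yb41 zb57) (kb xb21 yb4 zb55) (kb xb23 yb27 zb15)) (@D3.rec (fun _ => Pt) (kb xb30 yb10 zb18) (kb xb30 yb4 zb6) (kb xb24 yb41 zb0) (kb xb27 yb5 zb53) (kb xb12 yb41 zb61) (kb xb30 yb10 zb27) (kb xb26 yb0 zb34) (kb xb24 yb43 zb15) (kb xb27 yb42 zb29) (kb xb12 yb42 zb1) (kb xb26 yb47 zb34) (kb xb24 yb36 zb3) (kb xb26 yb0 zb29) (kb xb26 yb18 zb11) (kb xb12 yb42 zb3) (kb xb30 yb10 zb30) (kb xb12 yb42 zb4) (kb xb30 yb10 zb34) (kb xb14 yb6 zb21) (kb xb30 yb10 zb37) (kb xb30 yb10 zb40) (kb xb30 yb10 zb44) (kb xb12 yb42 zb10) (kb xb12 yb42 zb7) (kb xb30 yb10 zb48) (kb xb12 yb42 zb8) (kb xb23 yb39 zb11) (kb xb12 yb42 zb9) (kb xb16 yb0 zb34) (kb xb28 yb13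 zb28) (kb xb29 yb57 zb1) (kb xb30 yb10 zb47) (kb xb15 yb43 zb49) (kb xb18 yb13 zb32) (kb xb15 yb20 zb27) (kb xb13 yb3 zb8) (kb xb20 yb33 zb13) (kb xb25 yb17 zb6) (kb xb17 yb28 zb26) (kb xb22 yb33 zb29) (kb xb14 yb26 zb9) (kb xb14 yb26 zb12) (kb xb14 yb26 zb13) (kb xb12 yb42 zb32) (kb xb12 yb42 zb33) (kb xb12 yb42 zb31) (kb xb25 yb51 zb2) (kb xb23 yb54 zb2) (kb xb21 yb58 zb19) (kb xb12 yb42 zb36) (kb xb17 yb20 zb60) (kb xb17 yb43 zb51) (kb xb12 yb42 zb38) (kb xb26 yb11 zb21) (kb xb20 yb14 zb23) (kb xb16 yb16 zb0) (kb xb27 yb25 zb43) (kb xb27 yb48 zb20) (kb xb27 yb48 zb21) (kb xb28 yb57 zb35) (kb xb12 yb45 zb42) (kb xb12 yb42 zb47)) (@D3.rec (fun _ => Pt) (kb xb25 yb7 zb40) (kb xb19 yb26 zb43) (kb xb25 yb41 zb40) (kb xb12 yb42 zb51) (kb xb21 yb50 zb10) (kb xb30 yb11 zb9)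 (kb xb17 yb17 zb16) (kb xb12 yb42 zb53) (kb xb12 yb42 zb54) (kb xb30 yb11 zb10) (kb xb21 yb50 zb4) (kb xb21 yb58 zb13) (kb xb30 yb8 zb42) (kb xb29 yb56 zb18) (kb xb12 yb42 zb59) (kb xb12 yb43 zb0) (kb xb12 yb43 zb2) (kb xb12 yb43 zb3) (kb xb28 yb1 zb26) (kb xb12 yb43 zb9) (kb xb12 yb43 zb10) (kb xb15 yb25 zb20) (kb xb29 yb23 zb1) (kb xb28 yb59 zb34) (kb xb28 yb59 zb23) (kb xb28 yb59 zb6) (kb xb30 yb9 zb53) (kb xb17 yb8 zb49) (kb xb12 yb46 zb58) (kb xb12 yb43 zb16) (kb xb30 yb11 zb20) (kb xb12 yb43 zb17) (kb xb29 yb3 zb49) (kb xb15 yb19 zb27) (kb xb30 yb11 zb23) (kb xb30 yb8 zb7) (kb xb12 yb43 zb19) (kb xb12 yb43 zb20) (kb xb29 yb4 zb8) (kb xb23 yb27 zb51) (kb xb21 yb35 zb58) (kb xb18 yb38 zb29) (kb xb12 yb43 zb27) (kb xb20 yb51 zb39) (kb xb20 yb51 zb40) (kb xb27 yb0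 zb50) (kb xb20 yb34 zb56) (kb xb21 yb42 zb29) (kb xb18 yb23 zb16) (kb xb21 yb54 zb15) (kb xb26 yb5 zb43) (kb xb23 yb47 zb24) (kb xb28 yb45 zb23) (kb xb12 yb43 zb50) (kb xb20 yb51 zb48) (kb xb29 yb17 zb11) (kb xb14 yb36 zb1) (kb xb21 yb42 zb19) (kb xb16 yb45 zb53) (kb xb24 yb5 zb13) (kb xb12 yb43 zb49) (kb xb23 yb36 zb15)) (@D3.rec (fun _ => Pt) (kb xb28 yb45 zb22) (kb xb30 yb11 zb27) (kb xb14 yb35 zb48) (kb xb20 yb9 zb39) (kb xb26 yb45 zb57) (kb xb29 yb21 zb50) (kb xb20 yb34 zb40) (kb xb12 yb43 zb56) (kb xb29 yb30 zb57) (kb xb19 yb25 zb45) (kb xb27 yb55 zb60) (kb xb19 yb24 zb22) (kb xb20 yb12 zb51) (kb xb21 yb0 zb8) (kb xb28 yb19 zb8) (kb xb21 yb9 zb27) (kb xb12 yb44 zb2) (kb xb26 yb9 zb19) (kb xb14 yb15 zb54) (kb xb12 yb47 zb21) (kb xb12 yb44 zb8) (kb xb14 yb14 zb16)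 (kb xb12 yb45 zb11) (kb xb12 yb45 zb12) (kb xb20 yb34 zb38) (kb xb12 yb45 zb15) (kb xb12 yb44 zb15) (kb xb18 yb39 zb36) (kb xb14 yb8 zb31) (kb xb13 yb50 zb41) (kb xb20 yb18 zb18) (kb xb17 yb30 zb1) (kb xb20 yb34 zb41) (kb xb12 yb45 zb35) (kb xb12 yb44 zb21) (kb xb19 yb51 zb47) (kb xb17 yb5 zb1) (kb xb12 yb45 zb1) (kb xb22 yb32 zb26) (kb xb20 yb50 zb52) (kb xb26 yb53 zb1) (kb xb16 yb51 zb58) (kb xb12 yb44 zb25) (kb xb30 yb11 zb33) (kb xb25 yb17 zb37) (kb xb29 yb28 zb55) (kb xb12 yb46 zb13) (kb xb25 yb53 zb16) (kb xb12 yb46 zb16) (kb xb20 yb9 zb30) (kb xb18 yb16 zb46) (kb xb21 yb21 zb58) (kb xb18 yb16 zb44) (kb xb12 yb46 zb4) (kb xb12 yb44 zb45) (kb xb12 yb44 zb46) (kb xb20 yb55 zb0) (kb xb19 yb39 zb52) (kb xb12 yb57 zb39) (kb xb12 yb46 zb23) (kb xb29 yb19 zb10) (kb xb15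 yb49 zb22)) (@D3.rec (fun _ => Pt) (kb xb16 yb48 zb11) (kb xb24 yb36 zb12) (kb xb17 yb23 zb19) (kb xb12 yb44 zb48) (kb xb17 yb56 zb14) (kb xb12 yb46 zb35) (kb xb17 yb33 zb37) (kb xb22 yb5 zb2) (kb xb14 yb32 zb55) (kb xb12 yb44 zb55) (kb xb22 yb6 zb30) (kb xb29 yb20 zb19) (kb xb15 yb55 zb14) (kb xb27 yb10 zb40) (kb xb17 yb24 zb0) (kb xb25 yb23 zb6) (kb xb14 yb4 zb61) (kb xb30 yb11 zb36) (kb xb28 yb16 zb19) (kb xb21 yb32 zb9) (kb xb29 yb22 zb60) (kb xb12 yb45 zb14) (kb xb12 yb45 zb16) (kb xb23 yb6 zb42) (kb xb17 yb22 zb24) (kb xb12 yb45 zb21) (kb xb27 yb9 zb14) (kb xb14 yb44 zb14) (kb xb30 yb11 zb38) (kb xb30 yb11 zb40) (kb xb12 yb45 zb31) (kb xb20 yb33 zb43) (kb xb19 yb13 zb21) (kb xb20 yb24 zb7) (kb xb17 yb22 zb23) (kb xb12 yb45 zb26) (kb xb23 yb34 zb22) (kb xb30 yb11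 zb46) (kb xb12 yb45 zb28) (kb xb30 yb11 zb49) (kb xb20 yb24 zb35) (kb xb26 yb40 zb14) (kb xb12 yb45 zb29) (kb xb14 yb38 zb3) (kb xb30 yb11 zb56) (kb xb22 yb19 zb13) (kb xb30 yb11 zb58) (kb xb19 yb22 zb26) (kb xb29 yb38 zb3) (kb xb28 yb50 zb13) (kb xb29 yb26 zb6) (kb xb28 yb25 zb26) (kb xb22 yb19 zb5) (kb xb29 yb30 zb23) (kb xb15 yb24 zb49) (kb xb30 yb12 zb2) (kb xb12 yb51 zb54) (kb xb29 yb18 zb48) (kb xb15 yb40 zb41) (kb xb21 yb29 zb13) (kb xb18 yb56 zb9) (kb xb24 yb54 zb31)) (@D3.rec (fun _ => Pt) (kb xb29 yb41 zb6) (kb xb16 yb35 zb27) (kb xb12 yb45 zb50) (kb xb21 yb7 zb57) (kb xb24 yb46 zb19) (kb xb16 yb23 zb5) (kb xb26 yb28 zb21) (kb xb26 yb59 zb27) (kb xb27 yb19 zb37) (kb xb27 yb19 zb0) (kb xb27 yb16 zb60) (kb xb20 yb37 zb41) (kb xb26 yb5 zb30) (kb xb25 yb50 zb29)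 (kb xb17 yb49 zb21) (kb xb20 yb28 zb15) (kb xb30 yb12 zb9) (kb xb25 yb13 zb3) (kb xb19 yb5 zb36) (kb xb23 yb58 zb57) (kb xb12 yb45 zb59) (kb xb23 yb53 zb61) (kb xb29 yb20 zb20) (kb xb12 yb57 zb38) (kb xb20 yb27 zb34) (kb xb22 yb35 zb59) (kb xb17 yb11 zb58) (kb xb12 yb46 zb5) (kb xb16 yb59 zb34) (kb xb27 yb43 zb17) (kb xb12 yb46 zb10) (kb xb16 yb31 zb46) (kb xb12 yb46 zb14) (kb xb26 yb22 zb11) (kb xb27 yb36 zb31) (kb xb12 yb46 zb22) (kb xb15 yb6 zb21) (kb xb20 yb18 zb42) (kb xb19 yb21 zb14) (kb xb29 yb52 zb23) (kb xb12 yb46 zb24) (kb xb12 yb58 zb17) (kb xb12 yb46 zb36) (kb xb16 yb24 zb60) (kb xb16 yb23 zb45) (kb xb21 yb29 zb6) (kb xb18 yb20 zb0) (kb xb25 yb17 zb24) (kb xb25 yb31 zb11) (kb xb25 yb16 zb61) (kb xb18 yb5 zb42) (kb xb21 yb18 zb7) (kb xb16 yb23 zb33) (kb xb17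 yb15 zb39) (kb xb12 yb46 zb42) (kb xb23 yb32 zb24) (kb xb21 yb13 zb8) (kb xb18 yb15 zb25) (kb xb26 yb28 zb5) (kb xb26 yb24 zb61) (kb xb12 yb46 zb46) (kb xb21 yb29 zb3)) (@D3.rec (fun _ => Pt) (kb xb21 yb48 zb50) (kb xb27 yb20 zb51) (kb xb20 yb18 zb40) (kb xb12 yb51 zb13) (kb xb27 yb41 zb33) (kb xb12 yb56 zb29) (kb xb15 yb24 zb55) (kb xb30 yb12 zb22) (kb xb29 yb37 zb11) (kb xb12 yb46 zb50) (kb xb30 yb12 zb25) (kb xb14 yb21 zb52) (kb xb12 yb46 zb52) (kb xb14 yb17 zb21) (kb xb30 yb12 zb26) (kb xb21 yb50 zb49) (kb xb26 yb59 zb36) (kb xb17 yb30 zb40) (kb xb23 yb55 zb17) (kb xb17 yb34 zb39) (kb xb15 yb24 zb16) (kb xb30 yb3 zb19) (kb xb24 yb26 zb4) (kb xb24 yb26 zb5) (kb xb26 yb5 zb39) (kb xb16 yb18 zb6) (kb xb12 yb46 zb60) (kb xb14 yb39 zb28) (kb xb20 yb14 zb47) (kb xb30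 yb12 zb32) (kb xb20 yb19 zb17) (kb xb19 yb43 zb30) (kb xb12 yb47 zb8) (kb xb19 yb42 zb37) (kb xb25 yb53 zb10) (kb xb27 yb44 zb13) (kb xb12 yb47 zb16) (kb xb17 yb53 zb3) (kb xb12 yb47 zb12) (kb xb16 yb25 zb14) (kb xb22 yb2 zb43) (kb xb16 yb31 zb5) (kb xb15 yb47 zb43) (kb xb28 yb10 zb27) (kb xb12 yb54 zb50) (kb xb26 yb5 zb60) (kb xb19 yb43 zb27) (kb xb19 yb43 zb23) (kb xb12 yb54 zb26) (kb xb21 yb31 zb0) (kb xb18 yb50 zb6) (kb xb12 yb47 zb29) (kb xb12 yb47 zb30) (kb xb24 yb30 zb37) (kb xb29 yb18 zb9) (kb xb22 yb9 zb61) (kb xb12 yb47 zb38) (kb xb14 yb36 zb42) (kb xb30 yb12 zb36) (kb xb17 yb3 zb54) (kb xb26 yb19 zb13) (kb xb26 yb28 zb27)) (@D3.rec (fun _ => Pt) (kb xb26 yb19 zb15) (kb xb23 yb42 zb29) (kb xb17 yb37 zb21) (kb xb12 yb47 zb40) (kb xb21 yb41 zb49) (kb xb17 yb15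 zb47) (kb xb12 yb47 zb45) (kb xb22 yb44 zb20) (kb xb12 yb47 zb47) (kb xb14 yb39 zb29) (kb xb17 yb4 zb49) (kb xb15 yb32 zb1) (kb xb26 yb58 zb47) (kb xb27 yb22 zb2) (kb xb20 yb47 zb10) (kb xb18 yb1 zb5) (kb xb23 yb25 zb48) (kb xb12 yb47 zb60) (kb xb14 yb49 zb36) (kb xb29 yb12 zb12) (kb xb19 yb32 zb9) (kb xb14 yb49 zb34) (kb xb21 yb20 zb5) (kb xb14 yb3 zb22) (kb xb13 yb9 zb36) (kb xb23 yb26 zb58) (kb xb12 yb48 zb4) (kb xb13 yb59 zb28) (kb xb12 yb48 zb6) (kb xb13 yb48 zb58) (kb xb30 yb12 zb55) (kb xb30 yb12 zb56) (kb xb30 yb1 zb28) (kb xb26 yb0 zb42) (kb xb21 yb6 zb31) (kb xb12 yb48 zb10) (kb xb23 yb44 zb57) (kb xb27 yb48 zb44) (kb xb21 yb6 zb35) (kb xb12 yb48 zb12) (kb xb28 yb28 zb27) (kb xb12 yb48 zb13) (kb xb30 yb12 zb60) (kb xb22 yb12 zb14) (kb xb27 yb48 zb31) (kb xb12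 yb48 zb14) (kb xb21 yb19 zb2) (kb xb30 yb13 zb2) (kb xb21 yb6 zb39) (kb xb13 yb51 zb16) (kb xb12 yb48 zb17) (kb xb30 yb13 zb6) (kb xb26 yb8 zb34) (kb xb28 yb4 zb18) (kb xb23 yb23 zb5) (kb xb20 yb32 zb21) (kb xb25 yb28 zb8) (kb xb22 yb46 zb0) (kb xb14 yb56 zb5) (kb xb12 yb48 zb21) (kb xb21 yb39 zb23) (kb xb23 yb44 zb6)) (@D3.rec (fun _ => Pt) (kb xb23 yb21 zb8) (kb xb28 yb31 zb25) (kb xb28 yb4 zb7) (kb xb27 yb56 zb45) (kb xb14 yb44 zb49) (kb xb12 yb48 zb25) (kb xb12 yb48 zb27) (kb xb25 yb42 zb61) (kb xb27 yb22 zb18) (kb xb19 yb16 zb33) (kb xb25 yb37 zb4) (kb xb16 yb3 zb42) (kb xb16 yb2 zb51) (kb xb14 yb57 zb30) (kb xb12 yb48 zb29) (kb xb16 yb18 zb9) (kb xb23 yb21 zb14) (kb xb30 yb13 zb25) (kb xb12 yb48 zb32) (kb xb30 yb13 zb27) (kb xb16 yb12 zb40) (kb xb28 yb31 zb26)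 (kb xb30 yb13 zb26) (kb xb27 yb12 zb58) (kb xb15 yb20 zb40) (kb xb12 yb48 zb37) (kb xb12 yb48 zb38) (kb xb21 yb59 zb22) (kb xb23 yb3 zb1) (kb xb14 yb55 zb50) (kb xb19 yb5 zb48) (kb xb12 yb48 zb40) (kb xb12 yb48 zb41) (kb xb13 yb13 zb53) (kb xb22 yb28 zb8) (kb xb19 yb5 zb42) (kb xb26 yb8 zb1) (kb xb30 yb13 zb31) (kb xb12 yb48 zb43) (kb xb30 yb13 zb34) (kb xb30 yb13 zb33) (kb xb23 yb2 zb10) (kb xb23 yb37 zb33) (kb xb30 yb13 zb38) (kb xb28 yb10 zb53) (kb xb12 yb48 zb45) (kb xb30 yb13 zb42) (kb xb30 yb13 zb43) (kb xb13 yb13 zb48) (kb xb19 yb56 zb30) (kb xb13 yb52 zb4) (kb xb12 yb48 zb48) (kb xb30 yb13 zb52) (kb xb30 yb13 zb36) (kb xb30 yb13 zb51) (kb xb23 yb37 zb30) (kb xb12 yb48 zb50) (kb xb23 yb37 zb7) (kb xb28 yb17 zb40) (kb xb27 yb39 zb9) (kb xb30 yb13 zb59) (kb xb12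 yb48 zb52)) (@D3.rec (fun _ => Pt) (kb xb25 yb46 zb42) (kb xb29 yb54 zb39) (kb xb29 yb9 zb7) (kb xb18 yb38 zb57) (kb xb13 yb13 zb38) (kb xb23 yb43 zb41) (kb xb24 yb59 zb56) (kb xb14 yb55 zb40) (kb xb29 yb9 zb52) (kb xb12 yb48 zb57) (kb xb12 yb48 zb58) (kb xb12 yb49 zb1) (kb xb21 yb45 zb40) (kb xb17 yb37 zb31) (kb xb17 yb45 zb9) (kb xb26 yb14 zb0) (kb xb17 yb43 zb58) (kb xb12 yb50 zb23) (kb xb12 yb49 zb7) (kb xb26 yb18 zb7) (kb xb27 yb20 zb6) (kb xb16 yb15 zb45) (kb xb21 yb43 zb60) (kb xb23 yb3 zb60) (kb xb12 yb49 zb13) (kb xb27 yb2 zb19) (kb xb30 yb14 zb8) (kb xb28 yb13 zb55) (kb xb18 yb23 zb36) (kb xb21 yb31 zb43) (kb xb27 yb42 zb57) (kb xb20 yb2 zb7) (kb xb12 yb49 zb16) (kb xb17 yb4 zb15) (kb xb19 yb33 zb58) (kb xb20 yb1 zb56) (kb xb30 yb14 zb11) (kb xb12 yb49 zb21)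 (kb xb12 yb49 zb19) (kb xb25 yb42 zb9) (kb xb25 yb31 zb55) (kb xb26 yb58 zb58) (kb xb12 yb49 zb20) (kb xb25 yb7 zb49) (kb xb12 yb49 zb24) (kb xb18 yb23 zb34) (kb xb24 yb36 zb23) (kb xb13 yb22 zb14) (kb xb12 yb49 zb34) (kb xb24 yb10 zb14) (kb xb12 yb49 zb38) (kb xb24 yb54 zb16) (kb xb24 yb54 zb17) (kb xb12 yb49 zb39) (kb xb30 yb14 zb13) (kb xb28 yb55 zb55) (kb xb12 yb49 zb40) (kb xb30 yb14 zb15) (kb xb29 yb22 zb53) (kb xb16 yb59 zb1) (kb xb26 yb44 zb45) (kb xb16 yb40 zb4)) (@D3.rec (fun _ => Pt) (kb xb30 yb14 zb16) (kb xb26 yb18 zb8) (kb xb25 yb13 zb15) (kb xb12 yb49 zb49) (kb xb19 yb40 zb49) (kb xb28 yb31 zb14) (kb xb29 yb56 zb13) (kb xb12 yb49 zb55) (kb xb15 yb39 zb22) (kb xb14 yb51 zb23) (kb xb15 yb40 zb21) (kb xb29 yb15 zb61) (kb xb12 yb49 zb57) (kb xb21 yb50 zb11)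 (kb xb22 yb9 zb24) (kb xb26 yb11 zb8) (kb xb12 yb50 zb1) (kb xb27 yb30 zb32) (kb xb12 yb50 zb2) (kb xb21 yb49 zb48) (kb xb30 yb5 zb29) (kb xb26 yb18 zb6) (kb xb16 yb9 zb42) (kb xb12 yb50 zb9) (kb xb12 yb50 zb12) (kb xb27 yb30 zb43) (kb xb25 yb57 zb7) (kb xb24 yb44 zb54) (kb xb30 yb14 zb21) (kb xb14 yb57 zb47) (kb xb26 yb14 zb8) (kb xb17 yb44 zb18) (kb xb12 yb50 zb19) (kb xb17 yb44 zb13) (kb xb18 yb5 zb36) (kb xb27 yb29 zb54) (kb xb12 yb50 zb21) (kb xb15 yb6 zb51) (kb xb24 yb41 zb33) (kb xb25 yb14 zb45) (kb xb27 yb25 zb0) (kb xb29 yb59 zb57) (kb xb26 yb14 zb32) (kb xb15 yb19 zb1) (kb xb12 yb50 zb30) (kb xb12 yb50 zb26) (kb xb26 yb14 zb25) (kb xb12 yb50 zb28) (kb xb23 yb35 zb2) (kb xb21 yb36 zb38) (kb xb23 yb50 zb20) (kb xb29 yb31 zb46) (kb xb23 yb13 zb17) (kb xb12 yb50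 zb34) (kb xb12 yb50 zb35) (kb xb16 yb3 zb46) (kb xb25 yb29 zb45) (kb xb27 yb10 zb61) (kb xb28 yb58 zb27) (kb xb25 yb31 zb5) (kb xb21 yb22 zb36) (kb xb12 yb50 zb39)) (@D3.rec (fun _ => Pt) (kb xb30 yb14 zb26) (kb xb30 yb9 zb4) (kb xb15 yb17 zb27) (kb xb25 yb13 zb7) (kb xb12 yb50 zb42) (kb xb24 yb40 zb60) (kb xb30 yb14 zb29) (kb xb29 yb22 zb44) (kb xb12 yb50 zb47) (kb xb30 yb14 zb30) (kb xb20 yb4 zb5) (kb xb21 yb23 zb21) (kb xb27 yb25 zb8) (kb xb17 yb13 zb56) (kb xb17 yb33 zb45) (kb xb25 yb42 zb21) (kb xb14 yb11 zb56) (kb xb27 yb19 zb57) (kb xb15 yb27 zb22) (kb xb12 yb50 zb54) (kb xb30 yb14 zb19) (kb xb30 yb14 zb35) (kb xb21 yb56 zb27) (kb xb12 yb50 zb57) (kb xb12 yb50 zb58) (kb xb30 yb14 zb36) (kb xb16 yb17 zb24) (kb xb27 yb27 zb48) (kb xb21 yb10 zb4) (kb xb15 yb25 zb11)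 (kb xb17 yb50 zb43) (kb xb26 yb14 zb40) (kb xb17 yb42 zb9) (kb xb17 yb14 zb35) (kb xb25 yb53 zb61) (kb xb12 yb51 zb0) (kb xb12 yb51 zb1) (kb xb12 yb50 zb61) (kb xb27 yb10 zb22) (kb xb21 yb33 zb45) (kb xb26 yb10 zb36) (kb xb30 yb7 zb34) (kb xb27 yb20 zb3) (kb xb12 yb51 zb3) (kb xb12 yb51 zb4) (kb xb29 yb50 zb18) (kb xb14 yb16 zb10) (kb xb20 yb54 zb31) (kb xb24 yb52 zb43) (kb xb12 yb51 zb12) (kb xb26 yb10 zb40) (kb xb25 yb18 zb55) (kb xb21 yb22 zb44) (kb xb26 yb58 zb29) (kb xb12 yb51 zb11) (kb xb27 yb32 zb39) (kb xb12 yb51 zb20) (kb xb12 yb51 zb17) (kb xb30 yb14 zb45) (kb xb24 yb21 zb47) (kb xb30 yb14 zb47) (kb xb17 yb25 zb3))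
def f_b_22 : D2 → D3 → Pt := @D2.rec (fun _ => D3 → Pt) (@D3.rec (fun _ => Pt) (kb xb14 yb25 zb54) (kb xb13 yb23 zb7) (kb xb28 yb15 zb11) (kb xb29 yb44 zb4) (kb xb29 yb41 zb5) (kb xb12 yb51 zb22) (kb xb30 yb14 zb55) (kb xb25 yb7 zb60) (kb xb22 yb25 zb44) (kb xb29 yb46 zb51) (kb xb22 yb25 zb0) (kb xb12 yb51 zb24) (kb xb30 yb15 zb0) (kb xb12 yb51 zb25) (kb xb28 yb50 zb37) (kb xb28 yb25 zb17) (kb xb12 yb51 zb28) (kb xb28 yb58 zb39) (kb xb30 yb15 zb2) (kb xb24 yb42 zb43) (kb xb12 yb52 zb29) (kb xb12 yb51 zb30) (kb xb29 yb17 zb9) (kb xb20 yb55 zb29) (kb xb14 yb36 zb60) (kb xb14 yb52 zb29) (kb xb14 yb35 zb26) (kb xb20 yb40 zb54) (kb xb12 yb51 zb36) (kb xb17 yb19 zb52) (kb xb28 yb35 zb34) (kb xb30 yb15 zb7) (kb xb22 yb12 zb48) (kb xb28 yb35 zb46) (kb xb14 yb52 zb47) (kb xb14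 yb39 zb26) (kb xb30 yb15 zb11) (kb xb12 yb51 zb38) (kb xb12 yb51 zb41) (kb xb12 yb51 zb42) (kb xb14 yb33 zb46) (kb xb14 yb39 zb1) (kb xb30 yb15 zb13) (kb xb29 yb55 zb55) (kb xb29 yb33 zb47) (kb xb13 yb27 zb16) (kb xb12 yb51 zb44) (kb xb30 yb15 zb23) (kb xb30 yb15 zb25) (kb xb13 yb23 zb2) (kb xb29 yb34 zb20) (kb xb30 yb15 zb29) (kb xb12 yb51 zb46) (kb xb22 yb0 zb54) (kb xb22 yb0 zb53) (kb xb20 yb48 zb18) (kb xb24 yb24 zb53) (kb xb24 yb32 zb24) (kb xb12 yb51 zb49) (kb xb30 yb15 zb35) (kb xb29 yb26 zb12) (kb xb30 yb15 zb36)) (@D3.rec (fun _ => Pt) (kb xb25 yb8 zb15) (kb xb29 yb33 zb30) (kb xb24 yb30 zb19) (kb xb26 yb50 zb56) (kb xb29 yb55 zb52) (kb xb12 yb51 zb53) (kb xb29 yb45 zb47) (kb xb30 yb15 zb40) (kb xb28 yb35 zb12) (kb xb30 yb15 zb46) (kb xb30 yb12 zb4) (kb xb29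 yb45 zb50) (kb xb12 yb51 zb57) (kb xb12 yb51 zb58) (kb xb29 yb33 zb35) (kb xb30 yb15 zb50) (kb xb20 yb56 zb32) (kb xb29 yb45 zb51) (kb xb22 yb25 zb48) (kb xb12 yb51 zb61) (kb xb12 yb51 zb60) (kb xb26 yb34 zb58) (kb xb29 yb45 zb25) (kb xb22 yb25 zb34) (kb xb30 yb16 zb0) (kb xb30 yb15 zb53) (kb xb12 yb52 zb0) (kb xb30 yb16 zb2) (kb xb30 yb16 zb3) (kb xb12 yb52 zb1) (kb xb30 yb16 zb7) (kb xb30 yb16 zb8) (kb xb30 yb16 zb13) (kb xb16 yb37 zb21) (kb xb28 yb18 zb21) (kb xb12 yb52 zb3) (kb xb12 yb52 zb4) (kb xb28 yb40 zb14) (kb xb30 yb16 zb21) (kb xb30 yb16 zb22) (kb xb30 yb16 zb25) (kb xb28 yb40 zb18) (kb xb12 yb52 zb8) (kb xb12 yb52 zb7) (kb xb26 yb36 zb21) (kb xb24 yb25 zb3) (kb xb30 yb16 zb31) (kb xb29 yb32 zb28) (kb xb29 yb12 zb49) (kb xb30 yb16 zb34) (kb xb27 yb17 zb2)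 (kb xb12 yb52 zb10) (kb xb12 yb52 zb11) (kb xb23 yb55 zb38) (kb xb15 yb21 zb43) (kb xb12 yb52 zb12) (kb xb12 yb52 zb13) (kb xb25 yb29 zb55) (kb xb12 yb52 zb15) (kb xb26 yb42 zb28) (kb xb28 yb58 zb20) (kb xb24 yb50 zb2)) (@D3.rec (fun _ => Pt) (kb xb15 yb38 zb50) (kb xb30 yb16 zb40) (kb xb30 yb16 zb41) (kb xb15 yb59 zb23) (kb xb12 yb52 zb19) (kb xb30 yb8 zb48) (kb xb12 yb52 zb20) (kb xb30 yb3 zb27) (kb xb30 yb16 zb46) (kb xb12 yb52 zb24) (kb xb29 yb50 zb15) (kb xb28 yb58 zb58) (kb xb27 yb17 zb15) (kb xb16 yb18 zb60) (kb xb12 yb52 zb28) (kb xb30 yb16 zb48) (kb xb30 yb15 zb6) (kb xb19 yb45 zb31) (kb xb30 yb16 zb52) (kb xb25 yb56 zb3) (kb xb12 yb52 zb35) (kb xb12 yb52 zb36) (kb xb12 yb52 zb32) (kb xb19 yb45 zb60) (kb xb19 yb38 zb10) (kb xb12 yb52 zb34) (kb xb26 yb23 zb27)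 (kb xb22 yb3 zb39) (kb xb25 yb33 zb57) (kb xb24 yb43 zb23) (kb xb14 yb12 zb17) (kb xb12 yb52 zb39) (kb xb24 yb41 zb58) (kb xb20 yb13 zb14) (kb xb18 yb6 zb16) (kb xb25 yb34 zb22) (kb xb27 yb56 zb5) (kb xb27 yb11 zb22) (kb xb12 yb52 zb43) (kb xb23 yb23 zb24) (kb xb13 yb5 zb22) (kb xb12 yb52 zb45) (kb xb25 yb6 zb3) (kb xb21 yb54 zb40) (kb xb24 yb7 zb7) (kb xb12 yb52 zb47) (kb xb30 yb17 zb2) (kb xb29 yb18 zb0) (kb xb12 yb52 zb49) (kb xb26 yb32 zb47) (kb xb15 yb47 zb56) (kb xb12 yb52 zb50) (kb xb17 yb38 zb44) (kb xb14 yb3 zb27) (kb xb21 yb32 zb58) (kb xb18 yb8 zb34) (kb xb17 yb36 zb41) (kb xb17 yb16 zb10) (kb xb25 yb29 zb32) (kb xb30 yb17 zb4) (kb xb23 yb23 zb39) (kb xb15 yb57 zb2)) (@D3.rec (fun _ => Pt) (kb xb25 yb57 zb31) (kb xb25 yb40 zb4) (kb xb12 yb53 zb2) (kb xb28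 yb58 zb21) (kb xb29 yb31 zb50) (kb xb26 yb22 zb58) (kb xb12 yb53 zb5) (kb xb29 yb29 zb16) (kb xb12 yb53 zb6) (kb xb21 yb29 zb18) (kb xb20 yb9 zb3) (kb xb26 yb48 zb48) (kb xb17 yb9 zb47) (kb xb24 yb2 zb57) (kb xb12 yb53 zb27) (kb xb21 yb45 zb6) (kb xb14 yb33 zb9) (kb xb12 yb53 zb30) (kb xb30 yb17 zb9) (kb xb19 yb15 zb1) (kb xb21 yb42 zb42) (kb xb30 yb16 zb37) (kb xb20 yb24 zb0) (kb xb18 yb58 zb1) (kb xb27 yb11 zb38) (kb xb24 yb17 zb18) (kb xb14 yb25 zb25) (kb xb23 yb13 zb12) (kb xb12 yb53 zb46) (kb xb28 yb57 zb56) (kb xb30 yb8 zb20) (kb xb19 yb17 zb10) (kb xb12 yb53 zb47) (kb xb15 yb41 zb24) (kb xb25 yb31 zb56) (kb xb22 yb6 zb2) (kb xb20 yb24 zb26) (kb xb12 yb53 zb54) (kb xb21 yb31 zb6) (kb xb22 yb2 zb27) (kb xb27 yb23 zb7) (kb xb29 yb0 zb26) (kb xb21 yb26 zb19) (kb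 xb29 yb21 zb54) (kb xb25 yb52 zb38) (kb xb15 yb49 zb47) (kb xb12 yb54 zb0) (kb xb16 yb2 zb7) (kb xb21 yb45 zb2) (kb xb12 yb54 zb6) (kb xb25 yb52 zb13) (kb xb12 yb54 zb9) (kb xb28 yb32 zb22) (kb xb25 yb27 zb22) (kb xb12 yb54 zb11) (kb xb20 yb55 zb58) (kb xb20 yb55 zb43) (kb xb12 yb54 zb13) (kb xb30 yb17 zb19) (kb xb20 yb55 zb36) (kb xb12 yb54 zb15) (kb xb12 yb54 zb16)) (@D3.rec (fun _ => Pt) (kb xb25 yb5 zb57) (kb xb20 yb58 zb44) (kb xb16 yb41 zb39) (kb xb29 yb3 zb53) (kb xb29 yb56 zb9) (kb xb16 yb38 zb46) (kb xb19 yb49 zb6) (kb xb12 yb54 zb24) (kb xb14 yb42 zb30) (kb xb29 yb18 zb8) (kb xb22 yb7 zb44) (kb xb20 yb24 zb38) (kb xb29 yb44 zb53) (kb xb27 yb57 zb2) (kb xb20 yb39 zb14) (kb xb28 yb30 zb58) (kb xb21 yb16 zb48) (kb xb12 yb54 zb37) (kb xb26 yb38 zb35) (kb xb12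 yb54 zb43) (kb xb21 yb1 zb19) (kb xb26 yb9 zb20) (kb xb20 yb38 zb61) (kb xb29 yb45 zb56) (kb xb30 yb17 zb29) (kb xb23 yb36 zb28) (kb xb20 yb2 zb3) (kb xb12 yb54 zb46) (kb xb30 yb17 zb38) (kb xb30 yb17 zb39) (kb xb20 yb14 zb12) (kb xb27 yb47 zb46) (kb xb17 yb59 zb29) (kb xb14 yb8 zb21) (kb xb16 yb11 zb38) (kb xb12 yb54 zb54) (kb xb27 yb1 zb27) (kb xb26 yb8 zb10) (kb xb30 yb17 zb44) (kb xb30 yb12 zb18) (kb xb23 yb52 zb36) (kb xb16 yb41 zb46) (kb xb27 yb57 zb6) (kb xb18 yb17 zb58) (kb xb23 yb24 zb31) (kb xb29 yb3 zb3) (kb xb15 yb41 zb19) (kb xb29 yb48 zb10) (kb xb12 yb55 zb1) (kb xb15 yb33 zb0) (kb xb25 yb31 zb39) (kb xb16 yb14 zb13) (kb xb12 yb55 zb5) (kb xb12 yb55 zb6) (kb xb21 yb1 zb29) (kb xb18 yb39 zb46) (kb xb12 yb55 zb8) (kb xb27 yb56 zb38) (kb xb17 yb34 zb36) (kb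 xb12 yb55 zb11) (kb xb18 yb18 zb2) (kb xb20 yb12 zb19)) (@D3.rec (fun _ => Pt) (kb xb30 yb17 zb52) (kb xb12 yb55 zb12) (kb xb21 yb52 zb7) (kb xb26 yb10 zb33) (kb xb19 yb58 zb3) (kb xb30 yb17 zb53) (kb xb21 yb24 zb9) (kb xb12 yb55 zb16) (kb xb15 yb24 zb21) (kb xb25 yb19 zb0) (kb xb19 yb59 zb55) (kb xb12 yb55 zb20) (kb xb20 yb31 zb47) (kb xb30 yb17 zb56) (kb xb20 yb12 zb2) (kb xb12 yb55 zb28) (kb xb29 yb29 zb29) (kb xb28 yb38 zb32) (kb xb19 yb29 zb24) (kb xb12 yb55 zb35) (kb xb28 yb1 zb13) (kb xb26 yb59 zb38) (kb xb26 yb8 zb11) (kb xb12 yb55 zb38) (kb xb16 yb10 zb53) (kb xb26 yb3 zb21) (kb xb23 yb20 zb52) (kb xb28 yb11 zb37) (kb xb22 yb6 zb12) (kb xb17 yb34 zb23) (kb xb12 yb55 zb42) (kb xb12 yb55 zb43) (kb xb29 yb54 zb57) (kb xb24 yb48 zb53) (kb xb18 yb50 zb58) (kb xb26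 yb9 zb18) (kb xb12 yb55 zb50) (kb xb24 yb2 zb33) (kb xb28 yb42 zb28) (kb xb12 yb55 zb52) (kb xb30 yb18 zb7) (kb xb12 yb55 zb59) (kb xb25 yb20 zb38) (kb xb12 yb55 zb60) (kb xb30 yb18 zb9) (kb xb29 yb59 zb6) (kb xb25 yb26 zb16) (kb xb12 yb56 zb2) (kb xb27 yb20 zb22) (kb xb23 yb13 zb0) (kb xb15 yb25 zb37) (kb xb15 yb16 zb37) (kb xb12 yb56 zb4) (kb xb12 yb56 zb5) (kb xb12 yb56 zb6) (kb xb27 yb22 zb27) (kb xb14 yb8 zb26) (kb xb22 yb14 zb39) (kb xb29 yb38 zb17) (kb xb22 yb28 zb61) (kb xb30 yb18 zb8) (kb xb26 yb41 zb12)) (@D3.rec (fun _ => Pt) (kb xb12 yb56 zb8) (kb xb12 yb56 zb9) (kb xb22 yb3 zb35) (kb xb24 yb28 zb10) (kb xb16 yb3 zb18) (kb xb23 yb27 zb54) (kb xb29 yb59 zb7) (kb xb30 yb18 zb16) (kb xb17 yb57 zb51) (kb xb29 yb26 zb0) (kb xb26 yb54 zb23) (kb xb30 yb18 zb18)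 (kb xb22 yb5 zb28) (kb xb12 yb56 zb31) (kb xb30 yb18 zb19) (kb xb12 yb58 zb12) (kb xb19 yb39 zb3) (kb xb12 yb56 zb34) (kb xb12 yb56 zb37) (kb xb30 yb8 zb58) (kb xb19 yb25 zb3) (kb xb21 yb36 zb1) (kb xb27 yb22 zb61) (kb xb24 yb5 zb1) (kb xb12 yb56 zb42) (kb xb12 yb56 zb43) (kb xb30 yb18 zb6) (kb xb20 yb13 zb45) (kb xb15 yb24 zb40) (kb xb12 yb56 zb49) (kb xb21 yb52 zb10) (kb xb13 yb10 zb54) (kb xb27 yb15 zb48) (kb xb12 yb56 zb59) (kb xb12 yb56 zb57) (kb xb13 yb46 zb23) (kb xb14 yb26 zb35) (kb xb29 yb30 zb48) (kb xb22 yb54 zb4) (kb xb30 yb18 zb27) (kb xb18 yb52 zb50) (kb xb22 yb48 zb11) (kb xb22 yb48 zb8) (kb xb28 yb13 zb56) (kb xb12 yb57 zb3) (kb xb30 yb18 zb31) (kb xb18 yb52 zb53) (kb xb25 yb25 zb0) (kb xb18 yb51 zb25) (kb xb30 yb18 zb32) (kb xb17 yb57 zb29) (kb xb12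 yb57 zb22) (kb xb12 yb57 zb23) (kb xb12 yb57 zb7) (kb xb23 yb48 zb3) (kb xb20 yb41 zb24) (kb xb30 yb18 zb40) (kb xb14 yb16 zb43) (kb xb12 yb57 zb12) (kb xb12 yb57 zb13) (kb xb27 yb21 zb41) (kb xb28 yb35 zb30)) (@D3.rec (fun _ => Pt) (kb xb28 yb28 zb61) (kb xb27 yb50 zb44) (kb xb12 yb57 zb16) (kb xb30 yb18 zb49) (kb xb12 yb57 zb17) (kb xb16 yb2 zb15) (kb xb25 yb36 zb35) (kb xb12 yb57 zb20) (kb xb13 yb10 zb23) (kb xb30 yb18 zb54) (kb xb30 yb18 zb58) (kb xb13 yb29 zb56) (kb xb30 yb18 zb61) (kb xb30 yb19 zb1) (kb xb30 yb19 zb5) (kb xb30 yb18 zb37) (kb xb25 yb18 zb8) (kb xb12 yb57 zb26) (kb xb23 yb48 zb60) (kb xb30 yb19 zb8) (kb xb30 yb19 zb10) (kb xb12 yb57 zb27) (kb xb12 yb57 zb29) (kb xb27 yb55 zb3) (kb xb12 yb57 zb35) (kb xb12 yb57 zb34) (kb xb29 yb1 zb27) (kb xb23 yb55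 zb10) (kb xb19 yb9 zb1) (kb xb12 yb57 zb37) (kb xb30 yb19 zb18) (kb xb25 yb24 zb43) (kb xb24 yb19 zb44) (kb xb29 yb58 zb53) (kb xb15 yb28 zb18) (kb xb12 yb57 zb43) (kb xb12 yb57 zb46) (kb xb24 yb51 zb24) (kb xb22 yb7 zb39) (kb xb22 yb7 zb38) (kb xb26 yb3 zb19) (kb xb12 yb57 zb49) (kb xb30 yb19 zb25) (kb xb24 yb51 zb11) (kb xb22 yb4 zb10) (kb xb23 yb53 zb12) (kb xb14 yb29 zb60) (kb xb24 yb19 zb43) (kb xb30 yb19 zb27) (kb xb28 yb9 zb3) (kb xb24 yb51 zb10) (kb xb28 yb37 zb3) (kb xb30 yb19 zb28) (kb xb21 yb8 zb7) (kb xb12 yb58 zb2) (kb xb14 yb16 zb18) (kb xb17 yb19 zb51) (kb xb14 yb38 zb0) (kb xb21 yb37 zb50) (kb xb12 yb58 zb5) (kb xb17 yb22 zb57) (kb xb18 yb41 zb9)) (@D3.rec (fun _ => Pt) (kb xb12 yb58 zb9) (kb xb12 yb58 zb8) (kb xb12 yb58 zb10) (kb xb14 yb53 zb55) (kb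 xb24 yb17 zb22) (kb xb30 yb19 zb30) (kb xb12 yb58 zb14) (kb xb24 yb43 zb34) (kb xb12 yb58 zb15) (kb xb26 yb14 zb16) (kb xb30 yb19 zb31) (kb xb27 yb11 zb31) (kb xb17 yb37 zb40) (kb xb26 yb11 zb49) (kb xb12 yb58 zb20) (kb xb25 yb31 zb52) (kb xb12 yb58 zb22) (kb xb22 yb8 zb23) (kb xb23 yb47 zb35) (kb xb17 yb39 zb47) (kb xb16 yb0 zb18) (kb xb12 yb58 zb26) (kb xb30 yb19 zb35) (kb xb22 yb8 zb17) (kb xb12 yb58 zb29) (kb xb25 yb27 zb48) (kb xb12 yb58 zb31) (kb xb30 yb6 zb19) (kb xb12 yb58 zb37) (kb xb12 yb58 zb38) (kb xb24 yb19 zb48) (kb xb23 yb34 zb57) (kb xb12 yb58 zb44) (kb xb23 yb36 zb13) (kb xb23 yb35 zb26) (kb xb23 yb34 zb58) (kb xb20 yb37 zb33) (kb xb12 yb58 zb45) (kb xb13 yb40 zb36) (kb xb18 yb16 zb3) (kb xb19 yb57 zb37) (kb xb29 yb51 zb31) (kb xb27 yb23 zb17) (kb xb12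 yb58 zb52) (kb xb26 yb17 zb7) (kb xb21 yb31 zb25) (kb xb12 yb58 zb54) (kb xb18 yb8 zb37) (kb xb26 yb5 zb18) (kb xb12 yb58 zb57) (kb xb27 yb39 zb38) (kb xb17 yb36 zb32) (kb xb12 yb58 zb61) (kb xb18 yb28 zb33) (kb xb29 yb32 zb61) (kb xb22 yb35 zb17) (kb xb29 yb51 zb30) (kb xb18 yb8 zb32) (kb xb12 yb59 zb1) (kb xb18 yb29 zb42) (kb xb15 yb48 zb45) (kb xb26 yb16 zb49)) (@D3.rec (fun _ => Pt) (kb xb12 yb59 zb5) (kb xb12 yb59 zb4) (kb xb30 yb19 zb42) (kb xb22 yb11 zb48) (kb xb21 yb1 zb53) (kb xb21 yb5 zb38) (kb xb21 yb5 zb8) (kb xb12 yb59 zb7) (kb xb12 yb59 zb8) (kb xb30 yb19 zb46) (kb xb21 yb1 zb42) (kb xb18 yb57 zb24) (kb xb30 yb19 zb48) (kb xb12 yb59 zb10) (kb xb30 yb19 zb49) (kb xb15 yb16 zb12) (kb xb12 yb59 zb13) (kb xb25 yb35 zb27) (kb xb29 yb4 zb16) (kb xb29 yb0 zb18)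 (kb xb29 yb48 zb35) (kb xb22 yb16 zb33) (kb xb27 yb13 zb13) (kb xb12 yb59 zb17) (kb xb21 yb58 zb14) (kb xb25 yb56 zb17) (kb xb20 yb29 zb33) (kb xb12 yb59 zb19) (kb xb21 yb1 zb54) (kb xb21 yb5 zb19) (kb xb15 yb39 zb2) (kb xb15 yb47 zb52) (kb xb29 yb51 zb35) (kb xb12 yb59 zb24) (kb xb30 yb19 zb58) (kb xb15 yb58 zb25) (kb xb21 yb23 zb12) (kb xb15 yb49 zb8) (kb xb12 yb59 zb30) (kb xb30 yb19 zb60) (kb xb30 yb20 zb0) (kb xb15 yb34 zb6) (kb xb12 yb59 zb32) (kb xb12 yb59 zb33) (kb xb15 yb40 zb23) (kb xb15 yb34 zb9) (kb xb27 yb38 zb38) (kb xb12 yb59 zb39) (kb xb13 yb31 zb46) (kb xb20 yb29 zb43) (kb xb13 yb35 zb54) (kb xb15 yb58 zb54) (kb xb25 yb34 zb8) (kb xb30 yb5 zb10) (kb xb15 yb59 zb20) (kb xb12 yb59 zb52) (kb xb12 yb59 zb54) (kb xb12 yb59 zb55) (kb xb12 yb59 zb57) (kb xb15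 yb38 zb30) (kb xb20 yb12 zb57) (kb xb21 yb54 zb55)) (@D3.rec (fun _ => Pt) (kb xb27 yb2 zb31) (kb xb16 yb56 zb14) (kb xb13 yb0 zb0) (kb xb26 yb6 zb0) (kb xb21 yb26 zb29) (kb xb21 yb23 zb49) (kb xb17 yb16 zb26) (kb xb17 yb14 zb0) (kb xb30 yb10 zb7) (kb xb13 yb0 zb13) (kb xb13 yb0 zb14) (kb xb13 yb0 zb5) (kb xb29 yb10 zb49) (kb xb21 yb6 zb41) (kb xb29 yb51 zb24) (kb xb22 yb30 zb15) (kb xb13 yb0 zb8) (kb xb13 yb0 zb9) (kb xb30 yb13 zb39) (kb xb16 yb3 zb25) (kb xb23 yb28 zb51) (kb xb27 yb39 zb5) (kb xb25 yb40 zb55) (kb xb15 yb44 zb32) (kb xb30 yb20 zb10) (kb xb30 yb8 zb51) (kb xb17 yb27 zb48) (kb xb13 yb0 zb10) (kb xb30 yb20 zb15) (kb xb26 yb1 zb43) (kb xb15 yb48 zb23) (kb xb21 yb24 zb13) (kb xb14 yb4 zb35) (kb xb13 yb0 zb17) (kb xb30 yb20 zb18) (kb xb27 yb25 zb13) (kb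 xb13 yb0 zb24) (kb xb28 yb11 zb18) (kb xb13 yb0 zb23) (kb xb30 yb20 zb19) (kb xb25 yb32 zb14) (kb xb27 yb48 zb9) (kb xb27 yb9 zb38) (kb xb17 yb30 zb14) (kb xb18 yb10 zb27) (kb xb27 yb38 zb31) (kb xb29 yb52 zb10) (kb xb25 yb28 zb7) (kb xb13 yb0 zb38) (kb xb30 yb13 zb11) (kb xb13 yb0 zb37) (kb xb30 yb11 zb30) (kb xb24 yb0 zb45) (kb xb14 yb52 zb17) (kb xb13 yb0 zb40) (kb xb13 yb32 zb29) (kb xb14 yb27 zb55) (kb xb21 yb4 zb57) (kb xb15 yb39 zb0) (kb xb13 yb0 zb44) (kb xb13 yb0 zb43) (kb xb30 yb20 zb21)) (@D3.rec (fun _ => Pt) (kb xb30 yb20 zb22) (kb xb21 yb4 zb42) (kb xb13 yb0 zb46) (kb xb20 yb40 zb25) (kb xb23 yb49 zb19) (kb xb13 yb0 zb54) (kb xb23 yb28 zb12) (kb xb13 yb0 zb56) (kb xb15 yb49 zb6) (kb xb13 yb1 zb2) (kb xb13 yb1 zb12) (kb xb15 yb18 zb60) (kb xb16 yb16 zb14)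 (kb xb25 yb15 zb34) (kb xb21 yb33 zb41) (kb xb13 yb1 zb14) (kb xb28 yb41 zb21) (kb xb15 yb48 zb60) (kb xb23 yb14 zb38) (kb xb13 yb1 zb17) (kb xb22 yb23 zb38) (kb xb13 yb1 zb18) (kb xb27 yb21 zb20) (kb xb13 yb1 zb23) (kb xb25 yb27 zb23) (kb xb15 yb49 zb7) (kb xb26 yb11 zb27) (kb xb26 yb6 zb25) (kb xb13 yb1 zb29) (kb xb24 yb43 zb4) (kb xb25 yb31 zb40) (kb xb17 yb14 zb11) (kb xb21 yb32 zb55) (kb xb13 yb1 zb33) (kb xb13 yb1 zb36) (kb xb13 yb1 zb48) (kb xb26 yb53 zb24) (kb xb21 yb4 zb1) (kb xb21 yb21 zb17) (kb xb13 yb2 zb0) (kb xb28 yb12 zb2) (kb xb13 yb2 zb3) (kb xb30 yb11 zb31) (kb xb13 yb2 zb4) (kb xb29 yb38 zb42) (kb xb25 yb28 zb57) (kb xb30 yb20 zb28) (kb xb21 yb20 zb0) (kb xb22 yb9 zb3) (kb xb21 yb25 zb44) (kb xb21 yb25 zb8) (kb xb13 yb2 zb7) (kb xb24 yb17 zb2) (kb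 xb21 yb3 zb35) (kb xb19 yb25 zb2) (kb xb18 yb41 zb0) (kb xb13 yb2 zb21) (kb xb19 yb8 zb30) (kb xb13 yb2 zb22) (kb xb23 yb0 zb52) (kb xb13 yb2 zb25) (kb xb14 yb31 zb41)) (@D3.rec (fun _ => Pt) (kb xb13 yb2 zb27) (kb xb26 yb10 zb22) (kb xb15 yb27 zb25) (kb xb27 yb0 zb49) (kb xb20 yb13 zb1) (kb xb13 yb2 zb30) (kb xb22 yb15 zb48) (kb xb22 yb27 zb5) (kb xb13 yb34 zb58) (kb xb14 yb0 zb51) (kb xb14 yb2 zb37) (kb xb13 yb2 zb36) (kb xb22 yb45 zb26) (kb xb30 yb20 zb34) (kb xb21 yb55 zb43) (kb xb26 yb3 zb3) (kb xb18 yb42 zb29) (kb xb26 yb6 zb48) (kb xb14 yb15 zb23) (kb xb23 yb33 zb3) (kb xb14 yb9 zb44) (kb xb23 yb33 zb17) (kb xb30 yb0 zb55) (kb xb13 yb2 zb46) (kb xb22 yb58 zb28) (kb xb14 yb45 zb35) (kb xb19 yb14 zb37) (kb xb13 yb2 zb53) (kb xb13 yb17 zb24) (kb xb14 yb15 zb60)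 (kb xb23 yb41 zb8) (kb xb29 yb55 zb0) (kb xb30 yb20 zb45) (kb xb29 yb30 zb20) (kb xb13 yb2 zb57) (kb xb30 yb20 zb50) (kb xb22 yb46 zb17) (kb xb13 yb3 zb33) (kb xb13 yb2 zb55) (kb xb30 yb20 zb54) (kb xb13 yb2 zb56) (kb xb30 yb20 zb58) (kb xb23 yb48 zb8) (kb xb30 yb20 zb61) (kb xb18 yb35 zb41) (kb xb18 yb55 zb3) (kb xb13 yb3 zb9) (kb xb30 yb21 zb1) (kb xb22 yb0 zb32) (kb xb29 yb29 zb26) (kb xb22 yb55 zb46) (kb xb23 yb53 zb52) (kb xb26 yb25 zb61) (kb xb22 yb57 zb42) (kb xb29 yb28 zb27) (kb xb19 yb34 zb22) (kb xb13 yb3 zb13) (kb xb30 yb21 zb8) (kb xb30 yb21 zb7) (kb xb13 yb3 zb14) (kb xb23 yb52 zb21) (kb xb22 yb36 zb31)) (@D3.rec (fun _ => Pt) (kb xb14 yb31 zb23) (kb xb13 yb3 zb18) (kb xb28 yb44 zb7) (kb xb30 yb21 zb13) (kb xb29 yb50 zb27) (kb xb13 yb3 zb21) (kb xb13 yb3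 zb22) (kb xb30 yb21 zb17) (kb xb21 yb38 zb45) (kb xb28 yb37 zb51) (kb xb28 yb47 zb15) (kb xb13 yb3 zb24) (kb xb30 yb21 zb21) (kb xb21 yb14 zb16) (kb xb22 yb36 zb8) (kb xb21 yb40 zb24) (kb xb21 yb40 zb25) (kb xb22 yb39 zb36) (kb xb30 yb21 zb29) (kb xb30 yb21 zb34) (kb xb13 yb3 zb31) (kb xb28 yb44 zb12) (kb xb13 yb3 zb29) (kb xb27 yb8 zb32) (kb xb30 yb21 zb41) (kb xb30 yb21 zb43) (kb xb24 yb23 zb26) (kb xb13 yb3 zb30) (kb xb30 yb21 zb47) (kb xb29 yb8 zb42) (kb xb22 yb39 zb33) (kb xb30 yb21 zb38) (kb xb22 yb35 zb27) (kb xb30 yb20 zb51) (kb xb28 yb52 zb57) (kb xb22 yb39 zb25) (kb xb27 yb7 zb15) (kb xb13 yb3 zb37) (kb xb22 yb39 zb41) (kb xb30 yb21 zb53) (kb xb23 yb46 zb30) (kb xb30 yb21 zb58) (kb xb13 yb3 zb40) (kb xb30 yb22 zb1) (kb xb13 yb3 zb39) (kb xb30 yb22 zb0) (kb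 xb30 yb22 zb5) (kb xb22 yb39 zb49) (kb xb22 yb23 zb54) (kb xb30 yb22 zb7) (kb xb13 yb3 zb42) (kb xb13 yb3 zb43) (kb xb30 yb22 zb12) (kb xb13 yb3 zb44) (kb xb30 yb22 zb19) (kb xb30 yb22 zb24) (kb xb30 yb20 zb57) (kb xb13 yb3 zb46) (kb xb13 yb3 zb47) (kb xb30 yb22 zb29) (kb xb30 yb22 zb30) (kb xb13 yb3 zb50)) (@D3.rec (fun _ => Pt) (kb xb24 yb24 zb55) (kb xb14 yb36 zb56) (kb xb17 yb17 zb25) (kb xb23 yb47 zb58) (kb xb22 yb33 zb46) (kb xb22 yb41 zb31) (kb xb30 yb22 zb34) (kb xb26 yb52 zb14) (kb xb13 yb3 zb58) (kb xb13 yb3 zb55) (kb xb30 yb22 zb38) (kb xb30 yb22 zb37) (kb xb13 yb3 zb56) (kb xb30 yb22 zb42) (kb xb28 yb17 zb22) (kb xb13 yb3 zb57) (kb xb30 yb22 zb47) (kb xb30 yb22 zb49) (kb xb30 yb22 zb51) (kb xb18 yb59 zb27) (kb xb19 yb11 zb50) (kb xb13 yb3 zb61) (kb xb13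 yb4 zb0) (kb xb13 yb4 zb2) (kb xb30 yb22 zb56) (kb xb30 yb22 zb59) (kb xb13 yb4 zb8) (kb xb22 yb56 zb14) (kb xb13 yb4 zb7) (kb xb30 yb22 zb61) (kb xb30 yb23 zb1) (kb xb24 yb7 zb59) (kb xb28 yb54 zb34) (kb xb13 yb4 zb13) (kb xb18 yb34 zb58) (kb xb13 yb4 zb14) (kb xb13 yb4 zb15) (kb xb13 yb4 zb16) (kb xb30 yb23 zb6) (kb xb22 yb5 zb57) (kb xb13 yb4 zb18) (kb xb22 yb49 zb3) (kb xb13 yb4 zb21) (kb xb14 yb3 zb38) (kb xb29 yb52 zb22) (kb xb18 yb49 zb8) (kb xb26 yb40 zb55) (kb xb19 yb21 zb39) (kb xb14 yb58 zb19) (kb xb16 yb19 zb11) (kb xb18 yb37 zb33) (kb xb25 yb3 zb56) (kb xb13 yb4 zb26) (kb xb18 yb51 zb47) (kb xb26 yb21 zb14) (kb xb18 yb55 zb14) (kb xb22 yb58 zb59) (kb xb22 yb58 zb61) (kb xb13 yb4 zb28) (kb xb15 yb39 zb12) (kb xb13 yb19 zb45) (kb xb30 yb23 zb11)) (@D3.rec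 (fun _ => Pt) (kb xb23 yb37 zb60) (kb xb18 yb46 zb14) (kb xb13 yb4 zb33) (kb xb23 yb1 zb44) (kb xb23 yb58 zb20) (kb xb17 yb16 zb19) (kb xb30 yb23 zb12) (kb xb13 yb4 zb43) (kb xb27 yb40 zb14) (kb xb27 yb48 zb52) (kb xb26 yb11 zb47) (kb xb13 yb4 zb40) (kb xb26 yb16 zb25) (kb xb27 yb29 zb6) (kb xb17 yb42 zb51) (kb xb17 yb44 zb31) (kb xb13 yb4 zb41) (kb xb30 yb23 zb19) (kb xb19 yb42 zb10) (kb xb19 yb23 zb43) (kb xb16 yb45 zb52) (kb xb13 yb4 zb44) (kb xb22 yb50 zb36) (kb xb23 yb22 zb40) (kb xb13 yb4 zb49) (kb xb13 yb22 zb53) (kb xb13 yb4 zb54) (kb xb13 yb19 zb46) (kb xb13 yb4 zb57) (kb xb13 yb19 zb48) (kb xb30 yb23 zb20) (kb xb27 yb33 zb2) (kb xb13 yb4 zb61) (kb xb13 yb21 zb15) (kb xb26 yb17 zb8) (kb xb30 yb23 zb22) (kb xb14 yb1 zb16) (kb xb13 yb5 zb3) (kb xb27 yb51 zb21)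 (kb xb28 yb12 zb7) (kb xb28 yb46 zb48) (kb xb23 yb34 zb12) (kb xb13 yb5 zb4) (kb xb30 yb23 zb30) (kb xb30 yb23 zb29) (kb xb28 yb21 zb44) (kb xb22 yb58 zb21) (kb xb13 yb5 zb7) (kb xb22 yb12 zb6) (kb xb29 yb49 zb32) (kb xb22 yb28 zb7) (kb xb15 yb13 zb57) (kb xb23 yb48 zb45) (kb xb22 yb30 zb61) (kb xb17 yb17 zb2) (kb xb14 yb23 zb31) (kb xb13 yb5 zb18) (kb xb14 yb6 zb43) (kb xb23 yb48 zb47) (kb xb23 yb48 zb48) (kb xb13 yb25 zb29) (kb xb22 yb33 zb14)) (@D3.rec (fun _ => Pt) (kb xb22 yb33 zb15) (kb xb23 yb48 zb51) (kb xb22 yb33 zb17) (kb xb30 yb23 zb43) (kb xb30 yb23 zb44) (kb xb23 yb48 zb13) (kb xb13 yb5 zb20) (kb xb13 yb5 zb21) (kb xb20 yb51 zb15) (kb xb23 yb47 zb59) (kb xb28 yb16 zb30) (kb xb22 yb34 zb8) (kb xb13 yb5 zb28) (kb xb20 yb10 zb24) (kb xb13 yb5 zb29) (kb xb30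 yb23 zb48) (kb xb13 yb27 zb28) (kb xb30 yb23 zb50) (kb xb13 yb44 zb40) (kb xb30 yb23 zb51) (kb xb22 yb33 zb43) (kb xb17 yb10 zb44) (kb xb28 yb20 zb36) (kb xb22 yb27 zb18) (kb xb13 yb5 zb56) (kb xb16 yb46 zb46) (kb xb13 yb5 zb37) (kb xb13 yb5 zb38) (kb xb29 yb50 zb54) (kb xb19 yb36 zb53) (kb xb13 yb5 zb40) (kb xb21 yb39 zb44) (kb xb30 yb23 zb58) (kb xb22 yb9 zb21) (kb xb25 yb35 zb23) (kb xb13 yb5 zb41) (kb xb29 yb50 zb55) (kb xb13 yb5 zb44) (kb xb13 yb5 zb46) (kb xb26 yb27 zb45) (kb xb30 yb24 zb0) (kb xb26 yb24 zb48) (kb xb23 yb53 zb14) (kb xb13 yb5 zb49) (kb xb30 yb24 zb3) (kb xb30 yb24 zb2) (kb xb27 yb11 zb45) (kb xb23 yb53 zb20) (kb xb29 yb28 zb3) (kb xb29 yb54 zb40) (kb xb13 yb5 zb51) (kb xb16 yb11 zb3) (kb xb26 yb9 zb7) (kb xb18 yb36 zb49) (kb xb13 yb37 zb20) (kb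 xb23 yb5 zb49) (kb xb22 yb49 zb4) (kb xb22 yb31 zb2) (kb xb24 yb8 zb40) (kb xb13 yb5 zb58) (kb xb23 yb5 zb41) (kb xb14 yb25 zb47)) (@D3.rec (fun _ => Pt) (kb xb13 yb5 zb57) (kb xb26 yb26 zb13) (kb xb23 yb54 zb33) (kb xb18 yb55 zb32) (kb xb30 yb24 zb10) (kb xb13 yb5 zb59) (kb xb19 yb1 zb40) (kb xb19 yb11 zb31) (kb xb30 yb24 zb13) (kb xb14 yb43 zb22) (kb xb23 yb53 zb34) (kb xb30 yb24 zb14) (kb xb13 yb6 zb2) (kb xb13 yb6 zb1) (kb xb19 yb1 zb3) (kb xb20 yb10 zb12) (kb xb28 yb18 zb7) (kb xb30 yb24 zb17) (kb xb13 yb6 zb3) (kb xb26 yb25 zb45) (kb xb19 yb9 zb3) (kb xb30 yb24 zb25) (kb xb23 yb53 zb45) (kb xb16 yb53 zb2) (kb xb30 yb24 zb27) (kb xb30 yb24 zb29) (kb xb30 yb21 zb10) (kb xb13 yb6 zb7) (kb xb13 yb6 zb8) (kb xb24 yb57 zb46) (kb xb24 yb59 zb50) (kb xb30 yb24 zb31) (kb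 xb18 yb55 zb0) (kb xb30 yb24 zb34) (kb xb13 yb6 zb13) (kb xb23 yb43 zb49) (kb xb13 yb6 zb12) (kb xb20 yb30 zb15) (kb xb17 yb51 zb13) (kb xb28 yb21 zb42) (kb xb24 yb5 zb50) (kb xb23 yb0 zb6) (kb xb18 yb24 zb26) (kb xb23 yb24 zb35) (kb xb22 yb21 zb9) (kb xb23 yb38 zb12) (kb xb13 yb56 zb15) (kb xb29 yb22 zb3) (kb xb23 yb35 zb5) (kb xb13 yb44 zb60) (kb xb23 yb24 zb54) (kb xb23 yb38 zb16) (kb xb23 yb38 zb17) (kb xb30 yb13 zb50) (kb xb23 yb38 zb19) (kb xb30 yb24 zb42) (kb xb18 yb2 zb49) (kb xb13 yb6 zb34) (kb xb20 yb27 zb26) (kb xb22 yb40 zb18) (kb xb30 yb24 zb43) (kb xb23 yb49 zb8)) (@D3.rec (fun _ => Pt) (kb xb21 yb40 zb36) (kb xb23 yb34 zb32) (kb xb23 yb49 zb38) (kb xb21 yb43 zb54) (kb xb26 yb21 zb10) (kb xb13 yb6 zb56) (kb xb18 yb35 zb28) (kb xb23 yb50 zb28) (kb xb14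 yb27 zb47) (kb xb27 yb34 zb14) (kb xb23 yb51 zb15) (kb xb30 yb24 zb51) (kb xb18 yb14 zb27) (kb xb13 yb6 zb50) (kb xb27 yb51 zb58) (kb xb13 yb6 zb52) (kb xb30 yb24 zb54) (kb xb15 yb4 zb1) (kb xb13 yb6 zb53) (kb xb26 yb13 zb11) (kb xb13 yb6 zb54) (kb xb17 yb44 zb41) (kb xb27 yb29 zb57) (kb xb14 yb15 zb18) (kb xb24 yb46 zb55) (kb xb15 yb50 zb41) (kb xb23 yb32 zb34) (kb xb13 yb6 zb59) (kb xb19 yb10 zb21) (kb xb30 yb24 zb49) (kb xb29 yb1 zb45) (kb xb13 yb37 zb22) (kb xb22 yb34 zb46) (kb xb14 yb43 zb31) (kb xb22 yb32 zb52) (kb xb19 yb21 zb27) (kb xb22 yb34 zb50) (kb xb23 yb49 zb2) (kb xb22 yb34 zb54) (kb xb23 yb50 zb57) (kb xb20 yb38 zb27) (kb xb24 yb47 zb42) (kb xb27 yb40 zb12) (kb xb13 yb7 zb4) (kb xb24 yb18 zb29) (kb xb27 yb34 zb49) (kb xb28 yb17 zb19) (kb xb22 yb34 zb13)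 (kb xb18 yb19 zb25) (kb xb13 yb7 zb8) (kb xb13 yb7 zb7) (kb xb15 yb7 zb0) (kb xb23 yb51 zb41) (kb xb24 yb40 zb25) (kb xb15 yb11 zb48) (kb xb30 yb25 zb6) (kb xb18 yb37 zb34) (kb xb14 yb15 zb35) (kb xb13 yb7 zb12) (kb xb30 yb25 zb12) (kb xb18 yb49 zb9) (kb xb30 yb25 zb11)) (@D3.rec (fun _ => Pt) (kb xb13 yb7 zb25) (kb xb13 yb7 zb16) (kb xb13 yb7 zb17) (kb xb14 yb22 zb47) (kb xb14 yb22 zb48) (kb xb21 yb52 zb52) (kb xb30 yb25 zb17) (kb xb30 yb25 zb18) (kb xb22 yb28 zb43) (kb xb13 yb7 zb20) (kb xb22 yb26 zb10) (kb xb30 yb25 zb24) (kb xb13 yb7 zb21) (kb xb21 yb52 zb45) (kb xb28 yb55 zb49) (kb xb13 yb7 zb22) (kb xb30 yb25 zb29) (kb xb30 yb25 zb28) (kb xb30 yb25 zb31) (kb xb30 yb25 zb34) (kb xb13 yb7 zb23) (kb xb28 yb2 zb52) (kb xb30 yb11 zb52) (kb xb30 yb25 zb15) (kb xb13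 yb11 zb40) (kb xb23 yb45 zb55) (kb xb30 yb25 zb16) (kb xb13 yb7 zb29) (kb xb13 yb7 zb28) (kb xb13 yb11 zb55) (kb xb13 yb7 zb31) (kb xb13 yb12 zb4) (kb xb30 yb25 zb47) (kb xb13 yb7 zb35) (kb xb13 yb7 zb34) (kb xb28 yb18 zb35) (kb xb13 yb7 zb36) (kb xb13 yb7 zb37) (kb xb28 yb23 zb53) (kb xb30 yb25 zb56) (kb xb30 yb25 zb59) (kb xb13 yb12 zb18) (kb xb24 yb5 zb56) (kb xb13 yb12 zb34) (kb xb24 yb0 zb58) (kb xb13 yb7 zb46) (kb xb13 yb7 zb45) (kb xb30 yb26 zb1) (kb xb13 yb12 zb58) (kb xb13 yb7 zb48) (kb xb24 yb22 zb51) (kb xb24 yb30 zb16) (kb xb14 yb19 zb28) (kb xb22 yb50 zb44) (kb xb14 yb20 zb30) (kb xb24 yb1 zb22) (kb xb13 yb7 zb58) (kb xb13 yb7 zb59) (kb xb13 yb8 zb0) (kb xb13 yb8 zb1) (kb xb30 yb26 zb11) (kb xb14 yb23 zb23)) (@D3.rec (fun _ => Pt) (kb xb30 yb26 zb13) (kb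 xb14 yb13 zb29) (kb xb19 yb21 zb59) (kb xb23 yb48 zb11) (kb xb23 yb56 zb2) (kb xb13 yb8 zb24) (kb xb13 yb8 zb10) (kb xb13 yb8 zb11) (kb xb14 yb23 zb10) (kb xb21 yb13 zb47) (kb xb30 yb11 zb32) (kb xb29 yb52 zb47) (kb xb19 yb30 zb56) (kb xb13 yb8 zb13) (kb xb18 yb34 zb25) (kb xb30 yb26 zb22) (kb xb13 yb8 zb14) (kb xb24 yb38 zb34) (kb xb26 yb32 zb1) (kb xb13 yb8 zb40) (kb xb13 yb8 zb17) (kb xb13 yb8 zb18) (kb xb23 yb11 zb39) (kb xb18 yb55 zb2) (kb xb13 yb8 zb20) (kb xb18 yb55 zb34) (kb xb30 yb26 zb26) (kb xb17 yb34 zb13) (kb xb24 yb6 zb22) (kb xb13 yb8 zb22) (kb xb30 yb26 zb30) (kb xb15 yb52 zb16) (kb xb14 yb49 zb15) (kb xb30 yb26 zb15) (kb xb30 yb26 zb16) (kb xb23 yb50 zb41) (kb xb30 yb26 zb35) (kb xb13 yb8 zb29) (kb xb13 yb28 zb60) (kb xb13 yb39 zb14) (kb xb13 yb8 zb28)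 (kb xb30 yb26 zb39) (kb xb13 yb8 zb30) (kb xb28 yb47 zb59) (kb xb26 yb59 zb61) (kb xb20 yb20 zb26) (kb xb24 yb6 zb41) (kb xb20 yb51 zb11) (kb xb30 yb26 zb42) (kb xb13 yb8 zb35) (kb xb13 yb8 zb34) (kb xb24 yb8 zb25) (kb xb19 yb2 zb60) (kb xb30 yb26 zb45) (kb xb13 yb8 zb36) (kb xb23 yb13 zb30) (kb xb18 yb48 zb32) (kb xb30 yb26 zb49) (kb xb23 yb4 zb25) (kb xb15 yb22 zb38) (kb xb29 yb42 zb18) (kb xb21 yb10 zb61)) (@D3.rec (fun _ => Pt) (kb xb13 yb8 zb39) (kb xb28 yb15 zb41) (kb xb30 yb26 zb52) (kb xb16 yb44 zb33) (kb xb30 yb26 zb56) (kb xb13 yb8 zb43) (kb xb13 yb8 zb42) (kb xb24 yb24 zb15) (kb xb13 yb53 zb60) (kb xb22 yb17 zb44) (kb xb13 yb8 zb56) (kb xb13 yb8 zb57) (kb xb24 yb31 zb53) (kb xb23 yb34 zb36) (kb xb26 yb58 zb30) (kb xb30 yb26 zb59) (kb xb24 yb10 zb18) (kb xb24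 yb54 zb19) (kb xb25 yb33 zb28) (kb xb24 yb1 zb30) (kb xb13 yb8 zb59) (kb xb23 yb52 zb5) (kb xb14 yb14 zb42) (kb xb13 yb18 zb23) (kb xb20 yb23 zb40) (kb xb29 yb0 zb3) (kb xb21 yb20 zb4) (kb xb24 yb1 zb53) (kb xb21 yb37 zb43) (kb xb24 yb2 zb21) (kb xb20 yb58 zb16) (kb xb30 yb27 zb2) (kb xb25 yb21 zb45) (kb xb24 yb3 zb22) (kb xb26 yb34 zb22) (kb xb23 yb10 zb50) (kb xb24 yb4 zb12) (kb xb29 yb15 zb9) (kb xb15 yb1 zb40) (kb xb13 yb9 zb7) (kb xb25 yb21 zb48) (kb xb19 yb11 zb4) (kb xb13 yb9 zb30) (kb xb16 yb46 zb36) (kb xb27 yb43 zb46) (kb xb30 yb8 zb27) (kb xb13 yb9 zb12) (kb xb30 yb27 zb17) (kb xb13 yb9 zb13) (kb xb17 yb8 zb12) (kb xb29 yb50 zb10) (kb xb19 yb42 zb4) (kb xb30 yb27 zb5) (kb xb19 yb41 zb32) (kb xb22 yb56 zb21) (kb xb22 yb26 zb53) (kb xb24 yb1 zb42) (kb xb22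 yb56 zb24) (kb xb13 yb9 zb20) (kb xb24 yb1 zb45) (kb xb22 yb56 zb27) (kb xb24 yb3 zb57)) (@D3.rec (fun _ => Pt) (kb xb30 yb27 zb22) (kb xb25 yb31 zb17) (kb xb30 yb27 zb8) (kb xb13 yb9 zb25) (kb xb24 yb4 zb35) (kb xb30 yb27 zb24) (kb xb17 yb49 zb2) (kb xb21 yb11 zb27) (kb xb13 yb9 zb33) (kb xb19 yb28 zb17) (kb xb30 yb27 zb30) (kb xb30 yb27 zb29) (kb xb13 yb9 zb35) (kb xb26 yb34 zb46) (kb xb14 yb0 zb30) (kb xb23 yb40 zb21) (kb xb24 yb38 zb15) (kb xb19 yb56 zb46) (kb xb13 yb9 zb40) (kb xb22 yb36 zb5) (kb xb16 yb4 zb52) (kb xb16 yb4 zb51) (kb xb24 yb24 zb21) (kb xb13 yb9 zb51) (kb xb23 yb57 zb37) (kb xb18 yb44 zb32) (kb xb29 yb35 zb38) (kb xb21 yb45 zb47) (kb xb17 yb9 zb48) (kb xb20 yb27 zb8) (kb xb20 yb27 zb9) (kb xb13 yb10 zb0) (kb xb30 yb27 zb33) (kb xb26 yb24 zb8) (kb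 xb13 yb10 zb20) (kb xb24 yb14 zb34) (kb xb23 yb46 zb16) (kb xb23 yb4 zb54) (kb xb24 yb12 zb10) (kb xb13 yb45 zb8) (kb xb13 yb10 zb8) (kb xb13 yb10 zb9) (kb xb13 yb39 zb31) (kb xb13 yb31 zb39) (kb xb29 yb24 zb36) (kb xb13 yb10 zb11) (kb xb22 yb47 zb55) (kb xb30 yb27 zb37) (kb xb13 yb10 zb27) (kb xb20 yb27 zb60) (kb xb13 yb10 zb16) (kb xb13 yb10 zb17) (kb xb30 yb19 zb52) (kb xb30 yb27 zb38) (kb xb25 yb54 zb50) (kb xb22 yb57 zb21) (kb xb13 yb10 zb19) (kb xb30 yb27 zb41) (kb xb30 yb27 zb42) (kb xb25 yb47 zb21) (kb xb14 yb19 zb19) (kb xb13 yb10 zb22)) (@D3.rec (fun _ => Pt) (kb xb15 yb33 zb10) (kb xb13 yb10 zb24) (kb xb29 yb50 zb45) (kb xb25 yb7 zb12) (kb xb28 yb50 zb3) (kb xb19 yb35 zb21) (kb xb13 yb10 zb29) (kb xb30 yb27 zb47) (kb xb26 yb37 zb22) (kb xb21 yb20 zb41) (kb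 xb23 yb56 zb41) (kb xb13 yb10 zb39) (kb xb13 yb10 zb40) (kb xb26 yb40 zb56) (kb xb19 yb15 zb42) (kb xb26 yb57 zb13) (kb xb13 yb10 zb44) (kb xb18 yb45 zb31) (kb xb29 yb47 zb2) (kb xb14 yb25 zb53) (kb xb30 yb27 zb54) (kb xb28 yb24 zb57) (kb xb29 yb53 zb25) (kb xb13 yb35 zb29) (kb xb22 yb36 zb1) (kb xb22 yb36 zb3) (kb xb27 yb57 zb52) (kb xb30 yb27 zb57) (kb xb13 yb10 zb53) (kb xb23 yb19 zb55) (kb xb13 yb42 zb32) (kb xb19 yb3 zb42) (kb xb13 yb10 zb56) (kb xb23 yb52 zb17) (kb xb28 yb3 zb48) (kb xb26 yb51 zb42) (kb xb20 yb50 zb59) (kb xb13 yb11 zb4) (kb xb22 yb11 zb20) (kb xb25 yb51 zb48) (kb xb13 yb11 zb7) (kb xb13 yb11 zb8) (kb xb24 yb21 zb38) (kb xb13 yb11 zb11) (kb xb29 yb48 zb45) (kb xb26 yb50 zb50) (kb xb13 yb11 zb12) (kb xb24 yb1 zb10) (kb xb19 yb25 zb37) (kb xb29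 yb40 zb7) (kb xb26 yb43 zb15) (kb xb30 yb28 zb8) (kb xb20 yb59 zb51) (kb xb22 yb24 zb25) (kb xb22 yb13 zb48) (kb xb14 yb41 zb24) (kb xb14 yb44 zb22) (kb xb30 yb28 zb11) (kb xb24 yb24 zb58) (kb xb13 yb11 zb21) (kb xb30 yb28 zb12) (kb xb30 yb28 zb13)) (@D3.rec (fun _ => Pt) (kb xb13 yb11 zb22) (kb xb14 yb41 zb17) (kb xb28 yb39 zb46) (kb xb30 yb28 zb21) (kb xb13 yb11 zb38) (kb xb24 yb12 zb55) (kb xb13 yb11 zb25) (kb xb22 yb28 zb42) (kb xb13 yb19 zb35) (kb xb30 yb28 zb27) (kb xb30 yb28 zb25) (kb xb14 yb40 zb35) (kb xb13 yb11 zb30) (kb xb13 yb11 zb29) (kb xb14 yb40 zb34) (kb xb18 yb56 zb2) (kb xb30 yb28 zb33) (kb xb13 yb11 zb31) (kb xb30 yb28 zb38) (kb xb30 yb28 zb39) (kb xb13 yb11 zb33) (kb xb13 yb11 zb34) (kb xb21 yb11 zb22) (kb xb30 yb28 zb46) (kb xb30 yb28 zb49) (kb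 xb22 yb23 zb53) (kb xb13 yb11 zb36) (kb xb24 yb24 zb23) (kb xb30 yb28 zb53) (kb xb24 yb10 zb0) (kb xb30 yb28 zb56) (kb xb30 yb25 zb39) (kb xb13 yb11 zb42) (kb xb26 yb40 zb49) (kb xb26 yb2 zb4) (kb xb30 yb28 zb59) (kb xb24 yb3 zb1) (kb xb30 yb29 zb0) (kb xb30 yb29 zb2) (kb xb13 yb11 zb44) (kb xb30 yb29 zb7) (kb xb27 yb1 zb11) (kb xb30 yb29 zb11) (kb xb13 yb11 zb52) (kb xb13 yb11 zb53) (kb xb13 yb11 zb46) (kb xb30 yb29 zb13) (kb xb13 yb19 zb19) (kb xb19 yb13 zb36) (kb xb30 yb29 zb16) (kb xb30 yb25 zb43) (kb xb13 yb11 zb50) (kb xb23 yb0 zb38) (kb xb22 yb48 zb51) (kb xb17 yb58 zb25) (kb xb30 yb29 zb21) (kb xb22 yb40 zb16) (kb xb25 yb32 zb29) (kb xb28 yb54 zb32) (kb xb29 yb47 zb6) (kb xb13 yb11 zb56) (kb xb30 yb29 zb25)) (@D3.rec (fun _ => Pt) (kb xb22 yb0 zb10) (kb xb22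 yb32 zb29) (kb xb30 yb29 zb26) (kb xb26 yb43 zb56) (kb xb13 yb12 zb2) (kb xb13 yb12 zb3) (kb xb13 yb11 zb59) (kb xb30 yb29 zb28) (kb xb13 yb11 zb60) (kb xb30 yb29 zb30) (kb xb30 yb29 zb31) (kb xb30 yb25 zb45) (kb xb13 yb12 zb0) (kb xb30 yb29 zb32) (kb xb24 yb25 zb14) (kb xb24 yb25 zb15) (kb xb25 yb52 zb44) (kb xb22 yb36 zb47) (kb xb30 yb25 zb46) (kb xb13 yb12 zb5) (kb xb30 yb29 zb33) (kb xb30 yb29 zb34) (kb xb22 yb37 zb45) (kb xb13 yb12 zb10) (kb xb13 yb12 zb11) (kb xb30 yb29 zb40) (kb xb30 yb29 zb41) (kb xb30 yb25 zb51) (kb xb13 yb12 zb9) (kb xb23 yb45 zb51) (kb xb30 yb11 zb51) (kb xb29 yb19 zb8) (kb xb26 yb6 zb5) (kb xb15 yb55 zb32) (kb xb22 yb1 zb23) (kb xb30 yb29 zb45) (kb xb30 yb25 zb52) (kb xb24 yb12 zb6) (kb xb30 yb29 zb47) (kb xb30 yb29 zb48) (kb xb30 yb25 zb55)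 (kb xb13 yb12 zb15) (kb xb30 yb29 zb53) (kb xb30 yb22 zb27) (kb xb22 yb0 zb8) (kb xb13 yb12 zb16) (kb xb23 yb45 zb47) (kb xb24 yb2 zb4) (kb xb22 yb1 zb18) (kb xb29 yb40 zb44) (kb xb13 yb12 zb17) (kb xb30 yb29 zb60) (kb xb18 yb49 zb3) (kb xb30 yb22 zb17) (kb xb14 yb13 zb11) (kb xb30 yb18 zb57) (kb xb30 yb20 zb49) (kb xb13 yb12 zb21) (kb xb13 yb12 zb22) (kb xb23 yb48 zb9) (kb xb28 yb29 zb20) (kb xb30 yb30 zb3)) (@D3.rec (fun _ => Pt) (kb xb28 yb53 zb12) (kb xb13 yb12 zb23) (kb xb29 yb34 zb24) (kb xb27 yb23 zb52) (kb xb20 yb35 zb43) (kb xb13 yb12 zb24) (kb xb30 yb30 zb6) (kb xb30 yb30 zb7) (kb xb24 yb28 zb31) (kb xb14 yb38 zb13) (kb xb22 yb19 zb10) (kb xb24 yb0 zb53) (kb xb23 yb46 zb7) (kb xb30 yb25 zb35) (kb xb24 yb0 zb55) (kb xb29 yb40 zb53) (kb xb13 yb12 zb31) (kb xb13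 yb12 zb30) (kb xb24 yb9 zb5) (kb xb28 yb34 zb53) (kb xb19 yb13 zb49) (kb xb30 yb25 zb60) (kb xb14 yb12 zb61) (kb xb30 yb30 zb17) (kb xb24 yb29 zb40) (kb xb13 yb12 zb37) (kb xb30 yb30 zb19) (kb xb30 yb30 zb20) (kb xb24 yb29 zb45) (kb xb29 yb28 zb21) (kb xb13 yb12 zb40) (kb xb29 yb36 zb28) (kb xb30 yb30 zb28) (kb xb23 yb46 zb8) (kb xb29 yb40 zb22) (kb xb13 yb12 zb43) (kb xb30 yb30 zb29) (kb xb19 yb22 zb34) (kb xb13 yb12 zb45) (kb xb13 yb12 zb46) (kb xb20 yb23 zb49) (kb xb22 yb56 zb46) (kb xb30 yb30 zb32) (kb xb13 yb12 zb48) (kb xb13 yb12 zb49) (kb xb24 yb40 zb6) (kb xb13 yb12 zb51) (kb xb30 yb30 zb35) (kb xb23 yb45 zb36) (kb xb22 yb50 zb35) (kb xb13 yb34 zb44) (kb xb13 yb12 zb53) (kb xb13 yb22 zb20) (kb xb22 yb21 zb55) (kb xb13 yb12 zb55) (kb xb20 yb53 zb5) (kb xb22 yb50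 zb38) (kb xb13 yb12 zb57) (kb xb29 yb36 zb30) (kb xb13 yb27 zb22) (kb xb30 yb22 zb11) (kb xb13 yb12 zb61)) (@D3.rec (fun _ => Pt) (kb xb30 yb30 zb45) (kb xb30 yb30 zb47) (kb xb30 yb30 zb44) (kb xb13 yb26 zb2) (kb xb22 yb45 zb33) (kb xb22 yb12 zb7) (kb xb13 yb13 zb4) (kb xb25 yb34 zb54) (kb xb13 yb13 zb5) (kb xb13 yb13 zb6) (kb xb15 yb41 zb32) (kb xb30 yb30 zb49) (kb xb30 yb30 zb50) (kb xb24 yb35 zb11) (kb xb23 yb23 zb27) (kb xb14 yb2 zb59) (kb xb22 yb40 zb56) (kb xb24 yb22 zb44) (kb xb22 yb16 zb23) (kb xb13 yb13 zb13) (kb xb30 yb30 zb54) (kb xb28 yb18 zb44) (kb xb20 yb37 zb10) (kb xb27 yb13 zb58) (kb xb14 yb14 zb59) (kb xb30 yb30 zb61) (kb xb26 yb40 zb50) (kb xb13 yb13 zb15) (kb xb30 yb31 zb3) (kb xb30 yb31 zb6) (kb xb22 yb46 zb53) (kb xb13 yb13 zb23) (kb xb13 yb13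 zb20) (kb xb14 yb17 zb14) (kb xb30 yb31 zb15) (kb xb30 yb31 zb17) (kb xb23 yb46 zb11) (kb xb30 yb26 zb5) (kb xb29 yb21 zb20) (kb xb13 yb13 zb21) (kb xb30 yb31 zb22) (kb xb13 yb13 zb22) (kb xb30 yb31 zb26) (kb xb28 yb22 zb50) (kb xb30 yb31 zb27) (kb xb21 yb14 zb61) (kb xb13 yb13 zb24) (kb xb13 yb13 zb25) (kb xb14 yb47 zb19) (kb xb30 yb31 zb29) (kb xb13 yb23 zb46) (kb xb30 yb22 zb16) (kb xb24 yb30 zb53) (kb xb18 yb8 zb3) (kb xb17 yb37 zb60) (kb xb21 yb25 zb12) (kb xb13 yb13 zb31) (kb xb27 yb26 zb6) (kb xb13 yb13 zb32) (kb xb14 yb38 zb60) (kb xb22 yb45 zb47) (kb xb30 yb1 zb4)) (@D3.rec (fun _ => Pt) (kb xb13 yb13 zb36) (kb xb30 yb31 zb39) (kb xb23 yb21 zb46) (kb xb30 yb31 zb38) (kb xb22 yb53 zb17) (kb xb13 yb27 zb17) (kb xb30 yb2 zb5) (kb xb22 yb15 zb50) (kb xb21 yb56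 zb34) (kb xb15 yb13 zb36) (kb xb19 yb26 zb23) (kb xb13 yb13 zb42) (kb xb14 yb9 zb17) (kb xb13 yb13 zb46) (kb xb23 yb25 zb30) (kb xb30 yb31 zb45) (kb xb15 yb22 zb45) (kb xb14 yb56 zb33) (kb xb16 yb11 zb54) (kb xb23 yb44 zb21) (kb xb13 yb13 zb49) (kb xb22 yb55 zb48) (kb xb26 yb20 zb5) (kb xb29 yb12 zb15) (kb xb13 yb13 zb55) (kb xb17 yb36 zb33) (kb xb30 yb1 zb14) (kb xb21 yb19 zb58) (kb xb13 yb13 zb52) (kb xb28 yb3 zb55) (kb xb28 yb2 zb12) (kb xb18 yb26 zb44) (kb xb23 yb44 zb34) (kb xb29 yb56 zb53) (kb xb26 yb8 zb2) (kb xb13 yb13 zb57) (kb xb25 yb3 zb18) (kb xb29 yb24 zb32) (kb xb13 yb13 zb59) (kb xb13 yb29 zb26) (kb xb16 yb35 zb2) (kb xb29 yb20 zb12) (kb xb22 yb24 zb7) (kb xb22 yb19 zb8) (kb xb13 yb41 zb56) (kb xb20 yb21 zb19) (kb xb18 yb38 zb42) (kb xb22 yb29 zb29) (kb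 xb18 yb56 zb58) (kb xb13 yb14 zb8) (kb xb24 yb40 zb22) (kb xb18 yb59 zb54) (kb xb22 yb29 zb23) (kb xb18 yb13 zb18) (kb xb13 yb14 zb10) (kb xb28 yb19 zb17) (kb xb22 yb51 zb28) (kb xb27 yb30 zb29) (kb xb25 yb28 zb37) (kb xb13 yb14 zb12) (kb xb28 yb3 zb61) (kb xb22 yb5 zb59)) (@D3.rec (fun _ => Pt) (kb xb14 yb44 zb48) (kb xb13 yb14 zb16) (kb xb14 yb45 zb9) (kb xb14 yb59 zb29) (kb xb13 yb43 zb52) (kb xb13 yb14 zb21) (kb xb25 yb12 zb7) (kb xb23 yb6 zb39) (kb xb13 yb14 zb26) (kb xb13 yb40 zb43) (kb xb18 yb21 zb43) (kb xb26 yb32 zb37) (kb xb18 yb29 zb29) (kb xb13 yb14 zb30) (kb xb29 yb39 zb36) (kb xb20 yb21 zb14) (kb xb14 yb58 zb48) (kb xb16 yb35 zb61) (kb xb13 yb14 zb31) (kb xb26 yb32 zb38) (kb xb30 yb31 zb58) (kb xb13 yb30 zb28) (kb xb18 yb12 zb6) (kb xb22 yb28 zb52) (kb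 xb19 yb3 zb47) (kb xb13 yb14 zb36) (kb xb26 yb13 zb16) (kb xb23 yb9 zb9) (kb xb19 yb13 zb12) (kb xb22 yb28 zb47) (kb xb27 yb53 zb46) (kb xb13 yb14 zb38) (kb xb19 yb2 zb13) (kb xb17 yb51 zb46) (kb xb27 yb48 zb10) (kb xb13 yb37 zb55) (kb xb13 yb14 zb43) (kb xb29 yb30 zb3) (kb xb19 yb1 zb34) (kb xb30 yb32 zb5) (kb xb18 yb41 zb5) (kb xb30 yb7 zb24) (kb xb13 yb24 zb12) (kb xb13 yb24 zb4) (kb xb13 yb14 zb51) (kb xb30 yb32 zb10) (kb xb13 yb14 zb52) (kb xb30 yb32 zb13) (kb xb30 yb12 zb53) (kb xb23 yb14 zb45) (kb xb30 yb32 zb15) (kb xb27 yb7 zb61) (kb xb13 yb14 zb61) (kb xb13 yb14 zb57) (kb xb30 yb32 zb21) (kb xb13 yb14 zb59) (kb xb29 yb36 zb51) (kb xb30 yb32 zb22) (kb xb13 yb14 zb60) (kb xb30 yb32 zb18) (kb xb13 yb15 zb1) (kb xb30 yb32 zb30)) (@D3.rec (fun _ => Pt) (kb xb30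 yb32 zb29) (kb xb18 yb46 zb58) (kb xb27 yb6 zb45) (kb xb13 yb15 zb3) (kb xb14 yb43 zb0) (kb xb13 yb15 zb4) (kb xb13 yb34 zb35) (kb xb13 yb15 zb40) (kb xb23 yb21 zb15) (kb xb13 yb15 zb9) (kb xb29 yb29 zb46) (kb xb30 yb32 zb38) (kb xb13 yb15 zb10) (kb xb30 yb2 zb16) (kb xb19 yb56 zb17) (kb xb22 yb10 zb15) (kb xb21 yb6 zb8) (kb xb16 yb38 zb56) (kb xb13 yb15 zb17) (kb xb22 yb58 zb58) (kb xb22 yb31 zb40) (kb xb23 yb19 zb28) (kb xb23 yb17 zb44) (kb xb14 yb1 zb2) (kb xb13 yb15 zb24) (kb xb28 yb0 zb57) (kb xb21 yb13 zb5) (kb xb26 yb7 zb27) (kb xb13 yb15 zb31) (kb xb30 yb32 zb42) (kb xb13 yb15 zb33) (kb xb30 yb32 zb43) (kb xb13 yb52 zb0) (kb xb16 yb20 zb28) (kb xb16 yb20 zb29) (kb xb13 yb33 zb10) (kb xb13 yb15 zb39) (kb xb22 yb31 zb18) (kb xb14 yb8 zb51) (kb xb30 yb32 zb46)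 (kb xb30 yb32 zb34) (kb xb13 yb15 zb41) (kb xb23 yb44 zb48) (kb xb29 yb49 zb61) (kb xb23 yb30 zb57) (kb xb13 yb15 zb49) (kb xb13 yb15 zb50) (kb xb20 yb33 zb12) (kb xb15 yb22 zb47) (kb xb29 yb51 zb38) (kb xb23 yb21 zb40) (kb xb13 yb15 zb47) (kb xb28 yb20 zb21) (kb xb30 yb32 zb55) (kb xb17 yb25 zb30) (kb xb18 yb22 zb47) (kb xb21 yb29 zb48) (kb xb18 yb23 zb39) (kb xb26 yb48 zb40) (kb xb13 yb46 zb46) (kb xb23 yb55 zb15) (kb xb22 yb15 zb53)) (@D3.rec (fun _ => Pt) (kb xb14 yb17 zb3) (kb xb30 yb33 zb0) (kb xb22 yb16 zb57) (kb xb14 yb17 zb18) (kb xb13 yb15 zb55) (kb xb26 yb45 zb0) (kb xb30 yb33 zb8) (kb xb13 yb15 zb56) (kb xb21 yb36 zb12) (kb xb24 yb30 zb49) (kb xb13 yb15 zb59) (kb xb29 yb11 zb29) (kb xb29 yb11 zb34) (kb xb29 yb11 zb37) (kb xb16 yb3 zb35) (kb xb16 yb3 zb38)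 (kb xb13 yb15 zb61) (kb xb21 yb25 zb11) (kb xb22 yb30 zb37) (kb xb13 yb16 zb2) (kb xb30 yb17 zb45) (kb xb30 yb33 zb18) (kb xb30 yb33 zb16) (kb xb13 yb49 zb4) (kb xb13 yb16 zb8) (kb xb30 yb33 zb22) (kb xb23 yb33 zb41) (kb xb30 yb33 zb24) (kb xb30 yb13 zb46) (kb xb23 yb21 zb21) (kb xb13 yb16 zb11) (kb xb18 yb42 zb37) (kb xb30 yb33 zb29) (kb xb30 yb33 zb31) (kb xb13 yb16 zb13) (kb xb30 yb33 zb34) (kb xb16 yb11 zb29) (kb xb18 yb18 zb54) (kb xb13 yb49 zb20) (kb xb13 yb16 zb23) (kb xb22 yb30 zb20) (kb xb23 yb46 zb61) (kb xb13 yb16 zb16) (kb xb26 yb9 zb5) (kb xb18 yb56 zb37) (kb xb20 yb6 zb5) (kb xb13 yb49 zb30) (kb xb23 yb33 zb44) (kb xb13 yb16 zb18) (kb xb13 yb26 zb24) (kb xb26 yb7 zb46) (kb xb16 yb50 zb41) (kb xb13 yb16 zb20) (kb xb30 yb33 zb42) (kb xb23 yb24 zb45) (kb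 xb24 yb32 zb53) (kb xb30 yb33 zb41) (kb xb28 yb12 zb15) (kb xb13 yb16 zb22) (kb xb29 yb29 zb3) (kb xb28 yb13 zb53) (kb xb13 yb49 zb52)) (@D3.rec (fun _ => Pt) (kb xb13 yb16 zb26) (kb xb23 yb27 zb17) (kb xb29 yb53 zb0) (kb xb13 yb19 zb38) (kb xb13 yb16 zb30) (kb xb26 yb55 zb28) (kb xb29 yb42 zb20) (kb xb19 yb59 zb5) (kb xb17 yb10 zb58) (kb xb13 yb16 zb59) (kb xb13 yb16 zb41) (kb xb13 yb16 zb42) (kb xb23 yb27 zb19) (kb xb23 yb27 zb20) (kb xb13 yb20 zb20) (kb xb20 yb7 zb35) (kb xb30 yb33 zb58) (kb xb30 yb33 zb59) (kb xb14 yb25 zb46) (kb xb24 yb56 zb15) (kb xb19 yb32 zb33) (kb xb13 yb17 zb6) (kb xb17 yb0 zb56) (kb xb13 yb21 zb7) (kb xb13 yb21 zb8) (kb xb27 yb0 zb51) (kb xb21 yb51 zb38) (kb xb17 yb55 zb32) (kb xb30 yb33 zb57) (kb xb22 yb25 zb1) (kb xb13 yb16 zb57) (kb xb17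 yb55 zb31) (kb xb21 yb3 zb32) (kb xb27 yb5 zb17) (kb xb16 yb54 zb37) (kb xb13 yb24 zb39) (kb xb13 yb21 zb35) (kb xb17 yb11 zb37) (kb xb20 yb19 zb0) (kb xb21 yb30 zb4) (kb xb18 yb40 zb59) (kb xb20 yb31 zb49) (kb xb25 yb51 zb55) (kb xb23 yb26 zb20) (kb xb18 yb45 zb46) (kb xb26 yb29 zb34) (kb xb19 yb4 zb32) (kb xb24 yb35 zb5) (kb xb24 yb36 zb27) (kb xb25 yb52 zb7) (kb xb13 yb17 zb7) (kb xb13 yb17 zb9) (kb xb22 yb18 zb34) (kb xb13 yb17 zb14) (kb xb17 yb55 zb48) (kb xb26 yb52 zb46) (kb xb30 yb34 zb11) (kb xb24 yb24 zb36) (kb xb16 yb56 zb41) (kb xb13 yb17 zb13) (kb xb13 yb23 zb11) (kb xb13 yb17 zb16)) (@D3.rec (fun _ => Pt) (kb xb29 yb48 zb3) (kb xb13 yb17 zb17) (kb xb28 yb2 zb42) (kb xb21 yb1 zb34) (kb xb29 yb21 zb43) (kb xb27 yb18 zb60) (kb xb19 yb21 zb61) (kb xb21 yb43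 zb36) (kb xb14 yb15 zb59) (kb xb14 yb13 zb18) (kb xb14 yb12 zb48) (kb xb14 yb12 zb49) (kb xb30 yb20 zb43) (kb xb23 yb55 zb19) (kb xb22 yb15 zb61) (kb xb22 yb16 zb0) (kb xb30 yb34 zb23) (kb xb22 yb16 zb2) (kb xb30 yb34 zb27) (kb xb13 yb17 zb29) (kb xb13 yb17 zb28) (kb xb30 yb34 zb33) (kb xb30 yb34 zb29) (kb xb14 yb48 zb18) (kb xb13 yb17 zb37) (kb xb25 yb6 zb14) (kb xb13 yb17 zb40) (kb xb28 yb52 zb21) (kb xb14 yb13 zb48) (kb xb21 yb49 zb39) (kb xb13 yb17 zb44) (kb xb13 yb17 zb45) (kb xb27 yb19 zb12) (kb xb30 yb34 zb38) (kb xb13 yb17 zb47) (kb xb25 yb30 zb58) (kb xb29 yb30 zb45) (kb xb13 yb17 zb52) (kb xb13 yb17 zb53) (kb xb30 yb34 zb41) (kb xb28 yb25 zb25) (kb xb13 yb17 zb55) (kb xb30 yb34 zb45) (kb xb22 yb16 zb20) (kb xb14 yb17 zb6) (kb xb13 yb17 zb60) (kb xb22 yb14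 zb4) (kb xb27 yb22 zb45) (kb xb30 yb18 zb42) (kb xb30 yb34 zb52) (kb xb14 yb17 zb23) (kb xb14 yb17 zb29) (kb xb13 yb18 zb0) (kb xb29 yb19 zb51) (kb xb14 yb17 zb28) (kb xb14 yb17 zb24) (kb xb13 yb18 zb2) (kb xb25 yb43 zb6) (kb xb19 yb41 zb38) (kb xb26 yb49 zb3) (kb xb13 yb27 zb34) (kb xb23 yb19 zb23)) (@D3.rec (fun _ => Pt) (kb xb14 yb15 zb44) (kb xb14 yb15 zb45) (kb xb26 yb7 zb22) (kb xb14 yb15 zb47) (kb xb23 yb3 zb8) (kb xb30 yb34 zb61) (kb xb13 yb18 zb9) (kb xb13 yb22 zb44) (kb xb22 yb16 zb11) (kb xb14 yb13 zb21) (kb xb13 yb33 zb29) (kb xb14 yb13 zb22) (kb xb30 yb35 zb8) (kb xb22 yb18 zb47) (kb xb16 yb35 zb17) (kb xb17 yb17 zb53) (kb xb29 yb38 zb25) (kb xb13 yb18 zb22) (kb xb18 yb58 zb40) (kb xb22 yb58 zb36) (kb xb24 yb57 zb2) (kb xb13 yb53 zb48) (kb xb13 yb18 zb26)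 (kb xb28 yb26 zb24) (kb xb14 yb53 zb31) (kb xb21 yb12 zb57) (kb xb23 yb20 zb34) (kb xb20 yb1 zb39) (kb xb13 yb18 zb31) (kb xb26 yb19 zb39) (kb xb16 yb20 zb9) (kb xb30 yb35 zb15) (kb xb30 yb35 zb16) (kb xb13 yb18 zb34) (kb xb19 yb4 zb48) (kb xb13 yb18 zb35) (kb xb30 yb35 zb17) (kb xb13 yb18 zb36) (kb xb17 yb38 zb21) (kb xb30 yb35 zb18) (kb xb13 yb18 zb41) (kb xb13 yb18 zb40) (kb xb23 yb37 zb59) (kb xb18 yb4 zb24) (kb xb30 yb35 zb12) (kb xb30 yb35 zb21) (kb xb22 yb18 zb32) (kb xb14 yb14 zb49) (kb xb14 yb14 zb50) (kb xb28 yb15 zb17) (kb xb22 yb18 zb36) (kb xb30 yb35 zb26) (kb xb13 yb18 zb47) (kb xb30 yb25 zb13) (kb xb22 yb18 zb38) (kb xb13 yb18 zb46) (kb xb28 yb3 zb14) (kb xb26 yb29 zb47) (kb xb27 yb9 zb7) (kb xb30 yb35 zb30) (kb xb30 yb35 zb37) (kb xb13 yb18 zb50)) (@D3.rec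 (fun _ => Pt) (kb xb13 yb18 zb49) (kb xb18 yb28 zb59) (kb xb18 yb27 zb57) (kb xb18 yb47 zb45) (kb xb30 yb31 zb33) (kb xb30 yb35 zb40) (kb xb14 yb3 zb45) (kb xb30 yb35 zb49) (kb xb13 yb18 zb53) (kb xb13 yb18 zb52) (kb xb15 yb6 zb58) (kb xb13 yb18 zb54) (kb xb27 yb48 zb29) (kb xb13 yb18 zb55) (kb xb18 yb53 zb36) (kb xb13 yb18 zb60) (kb xb13 yb18 zb59) (kb xb22 yb8 zb55) (kb xb20 yb38 zb2) (kb xb26 yb29 zb58) (kb xb30 yb25 zb8) (kb xb22 yb37 zb22) (kb xb30 yb7 zb27) (kb xb13 yb21 zb5) (kb xb29 yb24 zb42) (kb xb22 yb59 zb5) (kb xb27 yb7 zb4) (kb xb22 yb13 zb32) (kb xb13 yb19 zb7) (kb xb13 yb54 zb28) (kb xb13 yb24 zb47) (kb xb13 yb54 zb29) (kb xb14 yb35 zb23) (kb xb30 yb26 zb25) (kb xb21 yb29 zb44) (kb xb14 yb2 zb14) (kb xb14 yb2 zb15) (kb xb15 yb10 zb11) (kb xb29 yb50 zb3)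 (kb xb18 yb34 zb18) (kb xb18 yb23 zb12) (kb xb17 yb10 zb39) (kb xb18 yb31 zb25) (kb xb22 yb57 zb50) (kb xb13 yb19 zb32) (kb xb24 yb24 zb18) (kb xb14 yb31 zb59) (kb xb18 yb54 zb6) (kb xb13 yb19 zb22) (kb xb18 yb50 zb19) (kb xb26 yb52 zb40) (kb xb13 yb19 zb23) (kb xb23 yb33 zb60) (kb xb17 yb11 zb36) (kb xb13 yb19 zb24) (kb xb27 yb23 zb57) (kb xb30 yb36 zb18) (kb xb19 yb10 zb3) (kb xb22 yb57 zb49) (kb xb21 yb53 zb25) (kb xb25 yb56 zb13) (kb xb29 yb29 zb24)) (@D3.rec (fun _ => Pt) (kb xb30 yb36 zb24) (kb xb22 yb23 zb24) (kb xb20 yb33 zb40) (kb xb22 yb23 zb25) (kb xb24 yb23 zb28) (kb xb22 yb22 zb19) (kb xb24 yb9 zb56) (kb xb27 yb6 zb2) (kb xb22 yb13 zb14) (kb xb18 yb54 zb49) (kb xb13 yb19 zb43) (kb xb13 yb19 zb44) (kb xb30 yb36 zb31) (kb xb30 yb23 zb10) (kb xb13 yb19 zb47)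 (kb xb17 yb14 zb34) (kb xb13 yb19 zb49) (kb xb17 yb23 zb7) (kb xb27 yb50 zb42) (kb xb13 yb19 zb54) (kb xb13 yb19 zb56) (kb xb18 yb7 zb33) (kb xb13 yb41 zb21) (kb xb14 yb56 zb53) (kb xb30 yb27 zb58) (kb xb24 yb56 zb25) (kb xb27 yb31 zb17) (kb xb13 yb20 zb1) (kb xb13 yb20 zb24) (kb xb23 yb3 zb37) (kb xb14 yb10 zb59) (kb xb22 yb12 zb61) (kb xb22 yb48 zb48) (kb xb13 yb21 zb44) (kb xb13 yb20 zb7) (kb xb30 yb36 zb38) (kb xb30 yb36 zb39) (kb xb13 yb35 zb17) (kb xb19 yb41 zb43) (kb xb30 yb36 zb44) (kb xb13 yb20 zb9) (kb xb13 yb20 zb11) (kb xb16 yb9 zb25) (kb xb13 yb20 zb13) (kb xb23 yb50 zb4) (kb xb13 yb21 zb33) (kb xb25 yb51 zb52) (kb xb22 yb25 zb17) (kb xb13 yb21 zb40) (kb xb19 yb34 zb28) (kb xb13 yb20 zb22) (kb xb29 yb55 zb8) (kb xb29 yb22 zb13) (kb xb30 yb5 zb11) (kb xb16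 yb56 zb6) (kb xb13 yb21 zb11) (kb xb17 yb11 zb1) (kb xb13 yb21 zb59) (kb xb18 yb46 zb13) (kb xb13 yb22 zb1) (kb xb19 yb51 zb7) (kb xb17 yb24 zb61)) (@D3.rec (fun _ => Pt) (kb xb17 yb4 zb59) (kb xb17 yb30 zb56) (kb xb13 yb20 zb36) (kb xb13 yb20 zb37) (kb xb17 yb14 zb28) (kb xb18 yb38 zb3) (kb xb18 yb0 zb60) (kb xb19 yb52 zb4) (kb xb20 yb40 zb38) (kb xb16 yb55 zb6) (kb xb24 yb5 zb58) (kb xb13 yb20 zb50) (kb xb17 yb33 zb26) (kb xb21 yb20 zb15) (kb xb17 yb11 zb18) (kb xb29 yb6 zb41) (kb xb16 yb54 zb29) (kb xb21 yb13 zb42) (kb xb17 yb23 zb33) (kb xb17 yb25 zb1) (kb xb17 yb15 zb11) (kb xb26 yb51 zb47) (kb xb22 yb35 zb21) (kb xb14 yb6 zb47) (kb xb17 yb23 zb41) (kb xb30 yb32 zb27) (kb xb13 yb20 zb60) (kb xb13 yb20 zb61) (kb xb29 yb36 zb34) (kb xb30 yb36 zb57) (kb xb29 yb8 zb52)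 (kb xb28 yb43 zb25) (kb xb13 yb21 zb2) (kb xb20 yb41 zb20) (kb xb30 yb37 zb2) (kb xb23 yb52 zb56) (kb xb19 yb12 zb32) (kb xb17 yb11 zb7) (kb xb26 yb49 zb23) (kb xb13 yb21 zb4) (kb xb29 yb39 zb7) (kb xb30 yb35 zb55) (kb xb17 yb11 zb8) (kb xb29 yb14 zb55) (kb xb16 yb54 zb38) (kb xb22 yb25 zb22) (kb xb14 yb30 zb44) (kb xb23 yb11 zb4) (kb xb24 yb40 zb1) (kb xb30 yb10 zb35) (kb xb14 yb6 zb22) (kb xb22 yb43 zb56) (kb xb29 yb19 zb18) (kb xb18 yb47 zb27) (kb xb23 yb8 zb54) (kb xb20 yb25 zb3) (kb xb13 yb21 zb13) (kb xb13 yb21 zb31) (kb xb13 yb21 zb16) (kb xb22 yb44 zb25) (kb xb26 yb58 zb18) (kb xb20 yb57 zb39)) (@D3.rec (fun _ => Pt) (kb xb29 yb55 zb29) (kb xb13 yb21 zb21) (kb xb13 yb21 zb20) (kb xb23 yb42 zb58) (kb xb30 yb37 zb18) (kb xb27 yb12 zb18) (kb xb29 yb55 zb10) (kb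 xb13 yb21 zb24) (kb xb17 yb56 zb1) (kb xb13 yb21 zb25) (kb xb23 yb36 zb3) (kb xb13 yb21 zb27) (kb xb13 yb54 zb14) (kb xb15 yb46 zb0) (kb xb29 yb11 zb6) (kb xb30 yb2 zb51) (kb xb13 yb21 zb28) (kb xb16 yb31 zb50) (kb xb20 yb48 zb20) (kb xb30 yb37 zb25) (kb xb29 yb39 zb11) (kb xb29 yb38 zb9) (kb xb20 yb44 zb22) (kb xb14 yb40 zb51) (kb xb13 yb21 zb32) (kb xb27 yb13 zb47) (kb xb14 yb12 zb58) (kb xb20 yb6 zb48) (kb xb25 yb51 zb60) (kb xb14 yb29 zb30) (kb xb13 yb21 zb37) (kb xb28 yb17 zb55) (kb xb20 yb43 zb2) (kb xb30 yb36 zb49) (kb xb17 yb56 zb49) (kb xb27 yb9 zb1) (kb xb14 yb46 zb36) (kb xb13 yb21 zb50) (kb xb13 yb21 zb51) (kb xb14 yb32 zb20) (kb xb22 yb52 zb53) (kb xb21 yb33 zb36) (kb xb25 yb46 zb22) (kb xb23 yb35 zb8) (kb xb13 yb53 zb2) (kb xb23 yb37 zb34) (kb xb18 yb45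 zb28) (kb xb15 yb56 zb27) (kb xb30 yb17 zb55) (kb xb15 yb52 zb56) (kb xb16 yb31 zb59) (kb xb19 yb18 zb9) (kb xb16 yb32 zb9) (kb xb17 yb59 zb10) (kb xb26 yb25 zb57) (kb xb26 yb17 zb13) (kb xb15 yb36 zb16) (kb xb13 yb21 zb60) (kb xb13 yb21 zb61) (kb xb14 yb5 zb30) (kb xb25 yb39 zb53) (kb xb27 yb40 zb39)) (@D3.rec (fun _ => Pt) (kb xb13 yb21 zb58) (kb xb26 yb22 zb47) (kb xb20 yb54 zb58) (kb xb20 yb47 zb41) (kb xb27 yb58 zb25) (kb xb18 yb45 zb39) (kb xb25 yb51 zb44) (kb xb13 yb22 zb2) (kb xb20 yb54 zb56) (kb xb13 yb22 zb5) (kb xb30 yb37 zb38) (kb xb24 yb36 zb42) (kb xb14 yb39 zb59) (kb xb19 yb56 zb36) (kb xb14 yb45 zb46) (kb xb17 yb2 zb16) (kb xb27 yb57 zb24) (kb xb13 yb22 zb13) (kb xb30 yb36 zb25) (kb xb26 yb49 zb16) (kb xb26 yb51 zb60) (kb xb21 yb30 zb33) (kb xb30 yb37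 zb48) (kb xb30 yb37 zb53) (kb xb13 yb22 zb16) (kb xb22 yb13 zb35) (kb xb30 yb37 zb57) (kb xb13 yb22 zb21) (kb xb13 yb22 zb19) (kb xb26 yb54 zb7) (kb xb30 yb37 zb61) (kb xb30 yb38 zb2) (kb xb30 yb3 zb48) (kb xb22 yb13 zb30) (kb xb30 yb37 zb60) (kb xb30 yb38 zb3) (kb xb22 yb13 zb17) (kb xb29 yb29 zb31) (kb xb13 yb22 zb25) (kb xb13 yb22 zb24) (kb xb29 yb1 zb50) (kb xb22 yb13 zb38) (kb xb23 yb52 zb52) (kb xb19 yb7 zb28) (kb xb30 yb38 zb15) (kb xb13 yb22 zb28) (kb xb13 yb22 zb27) (kb xb30 yb23 zb46) (kb xb30 yb38 zb21) (kb xb22 yb13 zb47) (kb xb30 yb38 zb17) (kb xb29 yb28 zb59) (kb xb13 yb22 zb31) (kb xb13 yb22 zb30) (kb xb30 yb38 zb28) (kb xb30 yb38 zb31) (kb xb30 yb38 zb25) (kb xb13 yb22 zb32) (kb xb28 yb22 zb28) (kb xb13 yb22 zb33) (kb xb30 yb38 zb34) (kb xb30 yb38 zb36))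 (@D3.rec (fun _ => Pt) (kb xb30 yb38 zb38) (kb xb18 yb50 zb3) (kb xb13 yb22 zb35) (kb xb18 yb49 zb57) (kb xb13 yb22 zb36) (kb xb30 yb38 zb39) (kb xb30 yb38 zb40) (kb xb22 yb41 zb39) (kb xb30 yb38 zb43) (kb xb13 yb22 zb40) (kb xb30 yb12 zb54) (kb xb13 yb22 zb39) (kb xb21 yb38 zb41) (kb xb14 yb39 zb43) (kb xb30 yb3 zb41) (kb xb30 yb38 zb47) (kb xb22 yb24 zb56) (kb xb22 yb56 zb57) (kb xb22 yb17 zb59) (kb xb20 yb30 zb39) (kb xb26 yb29 zb25) (kb xb20 yb13 zb5) (kb xb13 yb22 zb48) (kb xb13 yb22 zb47) (kb xb30 yb38 zb49) (kb xb24 yb53 zb33) (kb xb29 yb51 zb45) (kb xb13 yb22 zb49) (kb xb20 yb20 zb13) (kb xb13 yb22 zb50) (kb xb13 yb22 zb51) (kb xb13 yb22 zb54) (kb xb19 yb26 zb40) (kb xb29 yb48 zb51) (kb xb13 yb22 zb58) (kb xb13 yb22 zb57) (kb xb30 yb38 zb53) (kb xb19 yb52 zb34)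 (kb xb29 yb19 zb52) (kb xb17 yb53 zb9) (kb xb23 yb42 zb16) (kb xb19 yb52 zb29) (kb xb13 yb22 zb61) (kb xb30 yb38 zb57) (kb xb28 yb17 zb41) (kb xb13 yb23 zb0) (kb xb30 yb39 zb0) (kb xb13 yb23 zb1) (kb xb23 yb24 zb27) (kb xb30 yb31 zb20) (kb xb26 yb50 zb19) (kb xb24 yb25 zb20) (kb xb30 yb39 zb6) (kb xb30 yb17 zb34) (kb xb25 yb51 zb35) (kb xb13 yb24 zb44) (kb xb22 yb27 zb16) (kb xb13 yb23 zb6) (kb xb29 yb22 zb21) (kb xb19 yb30 zb4) (kb xb30 yb39 zb9) (kb xb29 yb57 zb27)) (@D3.rec (fun _ => Pt) (kb xb24 yb27 zb13) (kb xb13 yb33 zb59) (kb xb14 yb39 zb49) (kb xb13 yb23 zb15) (kb xb30 yb39 zb11) (kb xb27 yb23 zb43) (kb xb21 yb9 zb56) (kb xb28 yb4 zb53) (kb xb29 yb29 zb50) (kb xb16 yb23 zb13) (kb xb24 yb5 zb9) (kb xb23 yb4 zb11) (kb xb23 yb19 zb29) (kb xb23 yb3 zb40) (kb xb13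 yb27 zb36) (kb xb13 yb23 zb24) (kb xb13 yb23 zb27) (kb xb24 yb5 zb7) (kb xb30 yb34 zb15) (kb xb13 yb54 zb33) (kb xb13 yb23 zb31) (kb xb13 yb48 zb10) (kb xb13 yb38 zb48) (kb xb14 yb23 zb7) (kb xb14 yb39 zb55) (kb xb13 yb23 zb41) (kb xb27 yb37 zb17) (kb xb30 yb39 zb20) (kb xb30 yb39 zb19) (kb xb14 yb28 zb19) (kb xb19 yb56 zb42) (kb xb22 yb14 zb5) (kb xb27 yb6 zb59) (kb xb30 yb5 zb56) (kb xb13 yb23 zb48) (kb xb13 yb23 zb45) (kb xb30 yb39 zb27) (kb xb30 yb39 zb26) (kb xb30 yb39 zb30) (kb xb22 yb40 zb7) (kb xb30 yb39 zb31) (kb xb20 yb41 zb57) (kb xb30 yb39 zb25) (kb xb30 yb39 zb34) (kb xb18 yb49 zb19) (kb xb13 yb23 zb50) (kb xb24 yb53 zb59) (kb xb14 yb39 zb45) (kb xb28 yb36 zb4) (kb xb13 yb23 zb54) (kb xb13 yb23 zb55) (kb xb13 yb23 zb53) (kb xb30 yb39 zb47) (kb xb28 yb26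 zb58) (kb xb30 yb39 zb49) (kb xb28 yb53 zb25) (kb xb30 yb39 zb43) (kb xb13 yb23 zb57) (kb xb13 yb52 zb1) (kb xb28 yb0 zb55) (kb xb18 yb20 zb9) (kb xb16 yb12 zb10)) (@D3.rec (fun _ => Pt) (kb xb24 yb44 zb3) (kb xb14 yb0 zb32) (kb xb13 yb24 zb1) (kb xb29 yb14 zb61) (kb xb13 yb24 zb3) (kb xb30 yb39 zb53) (kb xb20 yb32 zb16) (kb xb21 yb13 zb43) (kb xb13 yb51 zb12) (kb xb21 yb6 zb42) (kb xb13 yb24 zb7) (kb xb30 yb39 zb54) (kb xb23 yb14 zb9) (kb xb20 yb32 zb28) (kb xb13 yb51 zb0) (kb xb23 yb44 zb16) (kb xb13 yb24 zb9) (kb xb23 yb9 zb31) (kb xb23 yb33 zb9) (kb xb25 yb46 zb45) (kb xb13 yb24 zb10) (kb xb28 yb27 zb3) (kb xb30 yb39 zb57) (kb xb15 yb0 zb27) (kb xb27 yb20 zb18) (kb xb30 yb38 zb52) (kb xb13 yb24 zb19) (kb xb30 yb12 zb33) (kb xb26 yb28 zb12) (kb xb20 yb19 zb16) (kb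 xb13 yb24 zb34) (kb xb28 yb48 zb43) (kb xb16 yb55 zb47) (kb xb16 yb54 zb41) (kb xb30 yb12 zb50) (kb xb21 yb32 zb26) (kb xb13 yb24 zb24) (kb xb13 yb24 zb28) (kb xb13 yb24 zb29) (kb xb30 yb39 zb61) (kb xb13 yb24 zb30) (kb xb13 yb24 zb31) (kb xb16 yb25 zb17) (kb xb13 yb24 zb32) (kb xb29 yb38 zb36) (kb xb20 yb7 zb33) (kb xb21 yb44 zb37) (kb xb30 yb28 zb35) (kb xb16 yb55 zb1) (kb xb16 yb28 zb18) (kb xb13 yb24 zb38) (kb xb13 yb24 zb37) (kb xb23 yb28 zb58) (kb xb30 yb40 zb7) (kb xb30 yb4 zb55) (kb xb30 yb40 zb3) (kb xb14 yb5 zb35) (kb xb30 yb34 zb2) (kb xb30 yb40 zb12) (kb xb29 yb57 zb41) (kb xb30 yb40 zb19) (kb xb13 yb24 zb43)) (@D3.rec (fun _ => Pt) (kb xb13 yb24 zb42) (kb xb30 yb40 zb22) (kb xb27 yb58 zb8) (kb xb13 yb57 zb57) (kb xb30 yb36 zb0) (kb xb30 yb7 zb14) (kb xb22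 yb44 zb29) (kb xb13 yb57 zb59) (kb xb30 yb36 zb1) (kb xb26 yb6 zb27) (kb xb13 yb24 zb51) (kb xb13 yb24 zb50) (kb xb29 yb10 zb5) (kb xb30 yb40 zb32) (kb xb23 yb41 zb50) (kb xb30 yb40 zb29) (kb xb13 yb24 zb52) (kb xb29 yb4 zb57) (kb xb30 yb40 zb35) (kb xb13 yb24 zb53) (kb xb30 yb11 zb25) (kb xb29 yb11 zb55) (kb xb30 yb40 zb43) (kb xb17 yb28 zb18) (kb xb29 yb5 zb47) (kb xb27 yb18 zb36) (kb xb30 yb40 zb46) (kb xb13 yb25 zb7) (kb xb22 yb44 zb50) (kb xb13 yb24 zb58) (kb xb13 yb24 zb57) (kb xb30 yb40 zb48) (kb xb30 yb40 zb50) (kb xb30 yb40 zb38) (kb xb28 yb49 zb31) (kb xb22 yb44 zb45) (kb xb21 yb19 zb28) (kb xb13 yb24 zb61) (kb xb23 yb41 zb27) (kb xb13 yb25 zb0) (kb xb30 yb41 zb2) (kb xb13 yb25 zb1) (kb xb25 yb42 zb58) (kb xb26 yb6 zb47) (kb xb30 yb40 zb21) (kb xb13 yb25 zb3)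 (kb xb13 yb25 zb4) (kb xb21 yb24 zb57) (kb xb23 yb31 zb53) (kb xb13 yb25 zb5) (kb xb13 yb25 zb6) (kb xb30 yb41 zb7) (kb xb30 yb41 zb6) (kb xb13 yb59 zb40) (kb xb22 yb45 zb16) (kb xb30 yb41 zb9) (kb xb22 yb37 zb51) (kb xb13 yb25 zb11) (kb xb22 yb45 zb20) (kb xb13 yb25 zb13) (kb xb26 yb1 zb18) (kb xb15 yb42 zb0)) (@D3.rec (fun _ => Pt) (kb xb22 yb45 zb13) (kb xb14 yb0 zb60) (kb xb13 yb25 zb16) (kb xb23 yb28 zb14) (kb xb21 yb14 zb37) (kb xb23 yb28 zb32) (kb xb26 yb47 zb14) (kb xb13 yb25 zb22) (kb xb13 yb25 zb21) (kb xb26 yb47 zb37) (kb xb30 yb41 zb17) (kb xb30 yb41 zb19) (kb xb30 yb41 zb16) (kb xb13 yb25 zb23) (kb xb13 yb55 zb55) (kb xb30 yb41 zb21) (kb xb24 yb22 zb1) (kb xb24 yb10 zb45) (kb xb30 yb41 zb30) (kb xb13 yb25 zb27) (kb xb21 yb55 zb7) (kb xb13 yb25 zb26) (kb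 xb30 yb41 zb37) (kb xb30 yb41 zb38) (kb xb30 yb41 zb35) (kb xb22 yb37 zb59) (kb xb29 yb58 zb11) (kb xb30 yb23 zb38) (kb xb14 yb6 zb56) (kb xb22 yb43 zb6) (kb xb30 yb41 zb42) (kb xb14 yb7 zb0) (kb xb30 yb41 zb45) (kb xb13 yb25 zb34) (kb xb13 yb25 zb33) (kb xb30 yb4 zb36) (kb xb23 yb30 zb27) (kb xb30 yb41 zb53) (kb xb29 yb55 zb22) (kb xb13 yb25 zb35) (kb xb19 yb46 zb47) (kb xb23 yb30 zb2) (kb xb29 yb49 zb33) (kb xb19 yb55 zb20) (kb xb13 yb25 zb51) (kb xb22 yb43 zb35) (kb xb13 yb25 zb39) (kb xb13 yb25 zb38) (kb xb30 yb42 zb2) (kb xb30 yb42 zb0) (kb xb22 yb43 zb28) (kb xb29 yb58 zb31) (kb xb21 yb34 zb41) (kb xb24 yb33 zb59) (kb xb30 yb42 zb8) (kb xb16 yb9 zb54) (kb xb13 yb25 zb43) (kb xb13 yb25 zb44) (kb xb30 yb42 zb13) (kb xb28 yb42 zb48) (kb xb29 yb10 zb27) (kb xb30 yb4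 zb4)) (@D3.rec (fun _ => Pt) (kb xb13 yb25 zb46) (kb xb30 yb2 zb58) (kb xb13 yb25 zb48) (kb xb30 yb42 zb17) (kb xb27 yb56 zb48) (kb xb30 yb42 zb16) (kb xb13 yb25 zb49) (kb xb30 yb34 zb0) (kb xb14 yb40 zb7) (kb xb19 yb54 zb22) (kb xb23 yb13 zb24) (kb xb19 yb56 zb20) (kb xb14 yb8 zb52) (kb xb22 yb44 zb0) (kb xb30 yb12 zb51) (kb xb14 yb10 zb2) (kb xb22 yb43 zb54) (kb xb21 yb18 zb10) (kb xb14 yb9 zb7) (kb xb17 yb38 zb26) (kb xb22 yb43 zb58) (kb xb21 yb18 zb14) (kb xb30 yb42 zb22) (kb xb17 yb14 zb25) (kb xb23 yb0 zb61) (kb xb16 yb16 zb36) (kb xb22 yb12 zb12) (kb xb23 yb44 zb38) (kb xb13 yb26 zb6) (kb xb13 yb51 zb37) (kb xb30 yb42 zb26) (kb xb25 yb51 zb59) (kb xb13 yb26 zb7) (kb xb22 yb27 zb4) (kb xb13 yb26 zb8) (kb xb14 yb2 zb35) (kb xb14 yb9 zb23) (kb xb13 yb26 zb10) (kb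 xb26 yb10 zb15) (kb xb30 yb42 zb31) (kb xb29 yb31 zb3) (kb xb13 yb26 zb11) (kb xb14 yb10 zb1) (kb xb30 yb42 zb32) (kb xb13 yb26 zb14) (kb xb14 yb55 zb15) (kb xb13 yb26 zb16) (kb xb22 yb27 zb60) (kb xb21 yb6 zb18) (kb xb13 yb26 zb19) (kb xb19 yb59 zb9) (kb xb28 yb13 zb18) (kb xb19 yb55 zb10) (kb xb22 yb49 zb8) (kb xb19 yb54 zb19) (kb xb14 yb55 zb2) (kb xb13 yb26 zb21) (kb xb21 yb41 zb1) (kb xb14 yb9 zb6) (kb xb29 yb58 zb50) (kb xb21 yb8 zb57) (kb xb23 yb25 zb25)) (@D3.rec (fun _ => Pt) (kb xb21 yb55 zb57) (kb xb19 yb54 zb15) (kb xb30 yb42 zb40) (kb xb16 yb12 zb19) (kb xb26 yb4 zb39) (kb xb27 yb26 zb2) (kb xb13 yb26 zb29) (kb xb25 yb44 zb12) (kb xb30 yb42 zb43) (kb xb13 yb26 zb30) (kb xb27 yb47 zb42) (kb xb30 yb42 zb48) (kb xb13 yb26 zb32) (kb xb22 yb55 zb36) (kb xb18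 yb18 zb61) (kb xb13 yb26 zb47) (kb xb13 yb26 zb43) (kb xb22 yb12 zb36) (kb xb13 yb27 zb35) (kb xb26 yb53 zb12) (kb xb24 yb28 zb8) (kb xb13 yb26 zb51) (kb xb13 yb26 zb50) (kb xb18 yb46 zb54) (kb xb18 yb41 zb32) (kb xb15 yb7 zb41) (kb xb29 yb23 zb55) (kb xb23 yb3 zb23) (kb xb13 yb26 zb56) (kb xb17 yb3 zb36) (kb xb17 yb24 zb44) (kb xb13 yb27 zb1) (kb xb20 yb11 zb57) (kb xb16 yb32 zb60) (kb xb13 yb27 zb4) (kb xb21 yb44 zb60) (kb xb17 yb20 zb55) (kb xb13 yb38 zb31) (kb xb28 yb1 zb20) (kb xb27 yb3 zb32) (kb xb30 yb21 zb39) (kb xb13 yb27 zb10) (kb xb19 yb52 zb31) (kb xb21 yb30 zb51) (kb xb26 yb49 zb39) (kb xb26 yb33 zb5) (kb xb13 yb27 zb13) (kb xb30 yb27 zb43) (kb xb13 yb27 zb14) (kb xb29 yb31 zb13) (kb xb13 yb27 zb15) (kb xb29 yb32 zb7) (kb xb30 yb42 zb57) (kb xb22 yb27 zb30)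 (kb xb30 yb15 zb21) (kb xb22 yb57 zb61) (kb xb13 yb27 zb18) (kb xb13 yb39 zb13) (kb xb13 yb31 zb43) (kb xb22 yb49 zb11) (kb xb13 yb27 zb20) (kb xb13 yb27 zb25)) (@D3.rec (fun _ => Pt) (kb xb13 yb37 zb30) (kb xb23 yb4 zb26) (kb xb19 yb8 zb19) (kb xb13 yb27 zb29) (kb xb13 yb27 zb33) (kb xb13 yb27 zb31) (kb xb30 yb42 zb59) (kb xb13 yb27 zb32) (kb xb30 yb43 zb3) (kb xb16 yb52 zb8) (kb xb28 yb12 zb30) (kb xb29 yb23 zb19) (kb xb13 yb27 zb42) (kb xb26 yb19 zb8) (kb xb13 yb27 zb41) (kb xb18 yb49 zb17) (kb xb28 yb18 zb49) (kb xb13 yb27 zb49) (kb xb16 yb48 zb58) (kb xb13 yb30 zb23) (kb xb24 yb56 zb31) (kb xb15 yb4 zb47) (kb xb16 yb27 zb34) (kb xb29 yb37 zb34) (kb xb13 yb28 zb14) (kb xb13 yb28 zb18) (kb xb13 yb28 zb1) (kb xb13 yb40 zb2) (kb xb14 yb25 zb36) (kb xb13 yb28 zb4) (kb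 xb13 yb28 zb5) (kb xb20 yb31 zb29) (kb xb22 yb50 zb0) (kb xb20 yb52 zb39) (kb xb13 yb28 zb6) (kb xb28 yb2 zb27) (kb xb13 yb28 zb7) (kb xb30 yb43 zb11) (kb xb13 yb35 zb8) (kb xb21 yb11 zb12) (kb xb13 yb28 zb8) (kb xb16 yb19 zb28) (kb xb30 yb43 zb12) (kb xb21 yb10 zb23) (kb xb30 yb26 zb46) (kb xb25 yb16 zb8) (kb xb13 yb36 zb41) (kb xb25 yb36 zb14) (kb xb13 yb35 zb43) (kb xb17 yb0 zb30) (kb xb13 yb28 zb17) (kb xb25 yb34 zb18) (kb xb23 yb4 zb61) (kb xb14 yb11 zb11) (kb xb26 yb24 zb52) (kb xb22 yb22 zb46) (kb xb13 yb32 zb0) (kb xb23 yb4 zb55) (kb xb30 yb27 zb31) (kb xb28 yb34 zb40) (kb xb13 yb28 zb23) (kb xb13 yb28 zb22)) (@D3.rec (fun _ => Pt) (kb xb28 yb33 zb60) (kb xb29 yb5 zb42) (kb xb16 yb32 zb6) (kb xb13 yb28 zb26) (kb xb23 yb5 zb8) (kb xb28 yb28 zb30) (kb xb15 yb34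 zb35) (kb xb13 yb32 zb28) (kb xb22 yb6 zb42) (kb xb13 yb28 zb29) (kb xb13 yb28 zb28) (kb xb22 yb6 zb41) (kb xb28 yb19 zb57) (kb xb23 yb5 zb14) (kb xb20 yb32 zb27) (kb xb13 yb28 zb30) (kb xb16 yb43 zb13) (kb xb13 yb28 zb31) (kb xb30 yb43 zb32) (kb xb15 yb34 zb20) (kb xb16 yb29 zb1) (kb xb26 yb28 zb38) (kb xb20 yb37 zb7) (kb xb23 yb9 zb60) (kb xb13 yb33 zb4) (kb xb13 yb28 zb39) (kb xb27 yb21 zb21) (kb xb30 yb43 zb41) (kb xb30 yb43 zb42) (kb xb25 yb18 zb9) (kb xb23 yb5 zb33) (kb xb30 yb43 zb44) (kb xb30 yb43 zb45) (kb xb13 yb28 zb42) (kb xb30 yb43 zb47) (kb xb26 yb55 zb35) (kb xb20 yb35 zb60) (kb xb30 yb43 zb49) (kb xb29 yb40 zb55) (kb xb13 yb28 zb47) (kb xb13 yb28 zb46) (kb xb15 yb39 zb53) (kb xb30 yb43 zb53) (kb xb28 yb14 zb9) (kb xb30 yb43 zb52) (kb xb13 yb28 zb48)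 (kb xb13 yb34 zb59) (kb xb23 yb52 zb25) (kb xb22 yb36 zb32) (kb xb13 yb46 zb20) (kb xb13 yb28 zb52) (kb xb22 yb24 zb53) (kb xb21 yb11 zb17) (kb xb30 yb43 zb56) (kb xb14 yb29 zb29) (kb xb13 yb28 zb54) (kb xb13 yb35 zb19) (kb xb13 yb35 zb20) (kb xb13 yb39 zb20) (kb xb13 yb28 zb58) (kb xb14 yb41 zb19) (kb xb15 yb8 zb1)) (@D3.rec (fun _ => Pt) (kb xb30 yb44 zb1) (kb xb13 yb35 zb40) (kb xb13 yb28 zb61) (kb xb22 yb14 zb41) (kb xb22 yb16 zb56) (kb xb21 yb4 zb22) (kb xb29 yb21 zb28) (kb xb13 yb35 zb34) (kb xb22 yb45 zb53) (kb xb13 yb29 zb2) (kb xb14 yb17 zb16) (kb xb22 yb46 zb59) (kb xb30 yb24 zb11) (kb xb24 yb6 zb4) (kb xb20 yb8 zb56) (kb xb13 yb35 zb46) (kb xb13 yb29 zb5) (kb xb30 yb44 zb7) (kb xb30 yb44 zb6) (kb xb30 yb44 zb8) (kb xb30 yb44 zb9) (kb xb13 yb49 zb50) (kb xb22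 yb59 zb49) (kb xb30 yb44 zb14) (kb xb19 yb41 zb41) (kb xb13 yb29 zb10) (kb xb13 yb29 zb8) (kb xb19 yb2 zb41) (kb xb19 yb2 zb44) (kb xb13 yb29 zb9) (kb xb30 yb44 zb17) (kb xb24 yb6 zb28) (kb xb24 yb54 zb10) (kb xb13 yb29 zb13) (kb xb30 yb44 zb20) (kb xb16 yb34 zb61) (kb xb18 yb58 zb27) (kb xb13 yb29 zb17) (kb xb27 yb45 zb56) (kb xb30 yb44 zb22) (kb xb16 yb21 zb7) (kb xb16 yb21 zb8) (kb xb13 yb29 zb19) (kb xb30 yb44 zb26) (kb xb30 yb44 zb25) (kb xb29 yb38 zb51) (kb xb30 yb44 zb29) (kb xb30 yb44 zb31) (kb xb13 yb29 zb20) (kb xb28 yb9 zb32) (kb xb27 yb52 zb10) (kb xb30 yb44 zb37) (kb xb20 yb7 zb42) (kb xb16 yb19 zb30) (kb xb23 yb16 zb36) (kb xb27 yb40 zb19) (kb xb13 yb30 zb2) (kb xb13 yb30 zb3) (kb xb30 yb44 zb21) (kb xb23 yb6 zb18) (kb xb25 yb18 zb31) (kb xb13 yb29 zb31))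 (@D3.rec (fun _ => Pt) (kb xb22 yb47 zb32) (kb xb14 yb43 zb11) (kb xb23 yb6 zb8) (kb xb30 yb44 zb42) (kb xb13 yb29 zb33) (kb xb28 yb46 zb33) (kb xb20 yb21 zb37) (kb xb27 yb39 zb55) (kb xb13 yb30 zb4) (kb xb28 yb56 zb17) (kb xb13 yb29 zb37) (kb xb13 yb29 zb36) (kb xb27 yb8 zb23) (kb xb29 yb54 zb7) (kb xb30 yb44 zb44) (kb xb30 yb44 zb46) (kb xb13 yb29 zb40) (kb xb13 yb29 zb39) (kb xb30 yb44 zb52) (kb xb21 yb29 zb56) (kb xb26 yb32 zb22) (kb xb13 yb29 zb41) (kb xb28 yb43 zb26) (kb xb28 yb43 zb27) (kb xb30 yb44 zb57) (kb xb29 yb7 zb32) (kb xb18 yb53 zb15) (kb xb13 yb29 zb44) (kb xb18 yb53 zb11) (kb xb30 yb35 zb41) (kb xb14 yb59 zb19) (kb xb19 yb1 zb12) (kb xb16 yb35 zb57) (kb xb13 yb29 zb50) (kb xb30 yb45 zb4) (kb xb22 yb26 zb49) (kb xb22 yb15 zb22) (kb xb13 yb29 zb52) (kb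 xb22 yb26 zb56) (kb xb28 yb17 zb31) (kb xb30 yb45 zb7) (kb xb30 yb45 zb10) (kb xb30 yb18 zb23) (kb xb23 yb45 zb30) (kb xb22 yb19 zb53) (kb xb14 yb22 zb61) (kb xb19 yb19 zb5) (kb xb19 yb21 zb17) (kb xb14 yb3 zb39) (kb xb26 yb55 zb47) (kb xb24 yb23 zb0) (kb xb23 yb6 zb6) (kb xb30 yb45 zb15) (kb xb30 yb45 zb17) (kb xb30 yb44 zb39) (kb xb30 yb45 zb19) (kb xb29 yb29 zb34) (kb xb30 yb45 zb23) (kb xb30 yb45 zb26) (kb xb13 yb30 zb5) (kb xb30 yb45 zb29) (kb xb19 yb44 zb6)) (@D3.rec (fun _ => Pt) (kb xb16 yb52 zb43) (kb xb28 yb24 zb23) (kb xb18 yb39 zb8) (kb xb16 yb54 zb4) (kb xb23 yb6 zb23) (kb xb13 yb30 zb15) (kb xb20 yb35 zb49) (kb xb26 yb29 zb30) (kb xb13 yb30 zb22) (kb xb14 yb26 zb37) (kb xb26 yb32 zb34) (kb xb13 yb30 zb52) (kb xb23 yb5 zb48) (kb xb23 yb7 zb23) (kb xb13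 yb30 zb31) (kb xb26 yb32 zb44) (kb xb27 yb58 zb18) (kb xb23 yb20 zb29) (kb xb26 yb31 zb34) (kb xb13 yb30 zb33) (kb xb29 yb53 zb5) (kb xb26 yb32 zb48) (kb xb13 yb40 zb52) (kb xb18 yb19 zb37) (kb xb13 yb30 zb34) (kb xb29 yb29 zb0) (kb xb30 yb45 zb39) (kb xb13 yb30 zb37) (kb xb22 yb28 zb56) (kb xb13 yb30 zb39) (kb xb30 yb45 zb41) (kb xb13 yb30 zb40) (kb xb30 yb44 zb54) (kb xb13 yb30 zb42) (kb xb27 yb40 zb35) (kb xb28 yb12 zb42) (kb xb16 yb32 zb39) (kb xb23 yb7 zb19) (kb xb13 yb30 zb44) (kb xb13 yb30 zb45) (kb xb30 yb25 zb25) (kb xb18 yb53 zb5) (kb xb30 yb35 zb35) (kb xb23 yb7 zb31) (kb xb13 yb30 zb47) (kb xb25 yb25 zb33) (kb xb18 yb21 zb39) (kb xb30 yb45 zb51) (kb xb30 yb45 zb53) (kb xb26 yb17 zb35) (kb xb13 yb30 zb54) (kb xb30 yb45 zb54) (kb xb16 yb32 zb46) (kb xb30 yb45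 zb56) (kb xb28 yb5 zb27) (kb xb13 yb30 zb56) (kb xb18 yb9 zb37) (kb xb16 yb21 zb23) (kb xb13 yb30 zb59) (kb xb16 yb21 zb27) (kb xb13 yb30 zb61) (kb xb29 yb24 zb57)) (@D3.rec (fun _ => Pt) (kb xb23 yb7 zb26) (kb xb28 yb6 zb27) (kb xb13 yb31 zb2) (kb xb27 yb5 zb25) (kb xb15 yb0 zb18) (kb xb29 yb7 zb8) (kb xb18 yb10 zb11) (kb xb20 yb38 zb15) (kb xb23 yb7 zb21) (kb xb16 yb27 zb35) (kb xb16 yb22 zb21) (kb xb30 yb46 zb3) (kb xb13 yb31 zb15) (kb xb13 yb39 zb44) (kb xb20 yb28 zb45) (kb xb13 yb39 zb50) (kb xb20 yb30 zb24) (kb xb13 yb31 zb14) (kb xb13 yb49 zb55) (kb xb25 yb23 zb41) (kb xb13 yb31 zb20) (kb xb25 yb58 zb35) (kb xb20 yb36 zb47) (kb xb30 yb46 zb8) (kb xb15 yb53 zb21) (kb xb13 yb31 zb19) (kb xb30 yb46 zb11) (kb xb24 yb18 zb46) (kb xb18 yb54 zb30) (kb xb23 yb7 zb46)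 (kb xb15 yb23 zb42) (kb xb15 yb26 zb60) (kb xb25 yb46 zb23) (kb xb30 yb46 zb14) (kb xb14 yb58 zb26) (kb xb13 yb31 zb23) (kb xb19 yb45 zb45) (kb xb23 yb7 zb53) (kb xb24 yb46 zb35) (kb xb15 yb53 zb17) (kb xb13 yb31 zb25) (kb xb30 yb46 zb18) (kb xb28 yb57 zb34) (kb xb19 yb46 zb55) (kb xb23 yb7 zb59) (kb xb26 yb55 zb42) (kb xb13 yb31 zb27) (kb xb27 yb43 zb55) (kb xb28 yb19 zb35) (kb xb23 yb8 zb2) (kb xb17 yb11 zb23) (kb xb16 yb28 zb59) (kb xb13 yb31 zb29) (kb xb22 yb38 zb40) (kb xb30 yb46 zb23) (kb xb14 yb49 zb25) (kb xb14 yb52 zb51) (kb xb29 yb28 zb13) (kb xb16 yb29 zb46) (kb xb30 yb46 zb25) (kb xb23 yb8 zb32) (kb xb18 yb53 zb3)) (@D3.rec (fun _ => Pt) (kb xb28 yb49 zb22) (kb xb24 yb1 zb40) (kb xb27 yb59 zb2) (kb xb14 yb52 zb54) (kb xb26 yb49 zb9) (kb xb23 yb8 zb41) (kb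 xb30 yb27 zb35) (kb xb26 yb27 zb56) (kb xb30 yb46 zb36) (kb xb30 yb46 zb39) (kb xb13 yb31 zb40) (kb xb30 yb30 zb43) (kb xb27 yb58 zb60) (kb xb25 yb1 zb55) (kb xb30 yb46 zb45) (kb xb13 yb31 zb57) (kb xb13 yb31 zb58) (kb xb22 yb28 zb4) (kb xb23 yb14 zb35) (kb xb30 yb20 zb4) (kb xb13 yb31 zb47) (kb xb16 yb33 zb44) (kb xb30 yb46 zb34) (kb xb13 yb31 zb48) (kb xb14 yb50 zb46) (kb xb23 yb55 zb13) (kb xb15 yb20 zb53) (kb xb26 yb17 zb59) (kb xb25 yb43 zb35) (kb xb25 yb27 zb47) (kb xb13 yb31 zb53) (kb xb13 yb31 zb54) (kb xb27 yb51 zb48) (kb xb24 yb7 zb35) (kb xb29 yb28 zb34) (kb xb30 yb46 zb53) (kb xb28 yb23 zb17) (kb xb13 yb31 zb55) (kb xb15 yb32 zb31) (kb xb23 yb23 zb8) (kb xb30 yb46 zb58) (kb xb23 yb8 zb29) (kb xb23 yb8 zb30) (kb xb30 yb47 zb0) (kb xb14 yb45 zb3) (kb xb30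 yb47 zb5) (kb xb21 yb15 zb41) (kb xb13 yb31 zb59) (kb xb14 yb48 zb28) (kb xb17 yb56 zb8) (kb xb14 yb44 zb26) (kb xb30 yb19 zb39) (kb xb13 yb56 zb41) (kb xb13 yb32 zb4) (kb xb13 yb32 zb7) (kb xb13 yb32 zb12) (kb xb13 yb32 zb13) (kb xb30 yb47 zb9) (kb xb26 yb17 zb55) (kb xb30 yb47 zb12) (kb xb30 yb47 zb10) (kb xb25 yb4 zb60)) (@D3.rec (fun _ => Pt) (kb xb30 yb47 zb15) (kb xb23 yb8 zb52) (kb xb13 yb32 zb15) (kb xb29 yb4 zb41) (kb xb22 yb6 zb38) (kb xb21 yb14 zb28) (kb xb29 yb15 zb27) (kb xb23 yb54 zb45) (kb xb30 yb47 zb21) (kb xb13 yb32 zb18) (kb xb30 yb47 zb22) (kb xb28 yb19 zb29) (kb xb23 yb9 zb14) (kb xb29 yb52 zb50) (kb xb27 yb33 zb41) (kb xb13 yb32 zb27) (kb xb26 yb24 zb43) (kb xb15 yb31 zb57) (kb xb24 yb14 zb15) (kb xb16 yb26 zb58) (kb xb15 yb40 zb58) (kb xb13 yb32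 zb25) (kb xb17 yb11 zb39) (kb xb26 yb13 zb3) (kb xb28 yb44 zb44) (kb xb23 yb9 zb7) (kb xb23 yb9 zb8) (kb xb20 yb43 zb54) (kb xb13 yb51 zb1) (kb xb20 yb32 zb32) (kb xb15 yb34 zb42) (kb xb23 yb8 zb58) (kb xb28 yb34 zb56) (kb xb13 yb32 zb37) (kb xb13 yb32 zb34) (kb xb25 yb25 zb13) (kb xb26 yb24 zb44) (kb xb14 yb27 zb8) (kb xb25 yb26 zb13) (kb xb15 yb15 zb61) (kb xb20 yb59 zb9) (kb xb23 yb9 zb26) (kb xb23 yb9 zb27) (kb xb28 yb21 zb21) (kb xb24 yb8 zb53) (kb xb19 yb37 zb27) (kb xb29 yb55 zb32) (kb xb13 yb32 zb39) (kb xb19 yb45 zb6) (kb xb30 yb47 zb41) (kb xb19 yb37 zb48) (kb xb26 yb26 zb10) (kb xb14 yb28 zb29) (kb xb13 yb32 zb42) (kb xb19 yb37 zb30) (kb xb15 yb57 zb1) (kb xb30 yb47 zb42) (kb xb26 yb24 zb15) (kb xb14 yb28 zb6) (kb xb13 yb32 zb50) (kb xb13 yb32 zb47) (kb xb28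 yb23 zb19)) (@D3.rec (fun _ => Pt) (kb xb13 yb32 zb48) (kb xb30 yb47 zb44) (kb xb25 yb50 zb35) (kb xb27 yb21 zb31) (kb xb29 yb34 zb37) (kb xb30 yb47 zb46) (kb xb29 yb50 zb43) (kb xb15 yb39 zb54) (kb xb13 yb32 zb51) (kb xb22 yb59 zb12) (kb xb30 yb47 zb51) (kb xb30 yb47 zb52) (kb xb29 yb50 zb24) (kb xb27 yb5 zb30) (kb xb13 yb32 zb53) (kb xb14 yb37 zb48) (kb xb14 yb47 zb2) (kb xb28 yb34 zb15) (kb xb16 yb59 zb17) (kb xb24 yb5 zb11) (kb xb13 yb32 zb57) (kb xb13 yb32 zb56) (kb xb15 yb53 zb29) (kb xb18 yb52 zb44) (kb xb20 yb37 zb14) (kb xb13 yb33 zb1) (kb xb17 yb57 zb35) (kb xb28 yb26 zb33) (kb xb21 yb11 zb53) (kb xb29 yb53 zb24) (kb xb13 yb33 zb2) (kb xb19 yb56 zb52) (kb xb24 yb13 zb17) (kb xb16 yb27 zb17) (kb xb26 yb21 zb34) (kb xb24 yb59 zb34) (kb xb22 yb46 zb13) (kb xb24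 yb13 zb25) (kb xb13 yb33 zb7) (kb xb27 yb52 zb59) (kb xb24 yb12 zb9) (kb xb29 yb20 zb55) (kb xb13 yb33 zb8) (kb xb30 yb48 zb5) (kb xb30 yb48 zb6) (kb xb23 yb10 zb9) (kb xb22 yb12 zb50) (kb xb13 yb33 zb22) (kb xb22 yb28 zb21) (kb xb26 yb15 zb55) (kb xb16 yb27 zb42) (kb xb26 yb58 zb3) (kb xb26 yb23 zb59) (kb xb16 yb53 zb15) (kb xb13 yb33 zb17) (kb xb14 yb27 zb35) (kb xb18 yb56 zb15) (kb xb26 yb17 zb39) (kb xb26 yb24 zb21) (kb xb29 yb37 zb16) (kb xb13 yb33 zb19) (kb xb30 yb48 zb14)) (@D3.rec (fun _ => Pt) (kb xb30 yb48 zb15) (kb xb13 yb33 zb20) (kb xb30 yb48 zb19) (kb xb28 yb0 zb48) (kb xb13 yb33 zb21) (kb xb24 yb23 zb10) (kb xb26 yb7 zb37) (kb xb30 yb48 zb22) (kb xb23 yb15 zb48) (kb xb28 yb10 zb58) (kb xb30 yb48 zb27) (kb xb21 yb13 zb1) (kb xb13 yb33 zb24) (kb xb23 yb52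 zb6) (kb xb22 yb14 zb27) (kb xb13 yb33 zb28) (kb xb14 yb26 zb26) (kb xb29 yb41 zb60) (kb xb29 yb32 zb19) (kb xb28 yb36 zb1) (kb xb19 yb41 zb52) (kb xb22 yb21 zb54) (kb xb14 yb24 zb40) (kb xb29 yb2 zb10) (kb xb22 yb21 zb57) (kb xb29 yb34 zb48) (kb xb13 yb33 zb37) (kb xb22 yb21 zb60) (kb xb15 yb37 zb18) (kb xb20 yb53 zb3) (kb xb17 yb21 zb23) (kb xb30 yb48 zb44) (kb xb14 yb28 zb18) (kb xb14 yb28 zb26) (kb xb13 yb33 zb39) (kb xb30 yb45 zb36) (kb xb30 yb48 zb46) (kb xb23 yb5 zb26) (kb xb26 yb31 zb43) (kb xb13 yb33 zb43) (kb xb30 yb48 zb51) (kb xb30 yb48 zb50) (kb xb15 yb37 zb38) (kb xb17 yb2 zb32) (kb xb29 yb1 zb5) (kb xb13 yb33 zb45) (kb xb22 yb26 zb41) (kb xb24 yb34 zb39) (kb xb13 yb33 zb54) (kb xb29 yb22 zb19) (kb xb29 yb4 zb20) (kb xb23 yb1 zb37) (kb xb30 yb48 zb33)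 (kb xb26 yb38 zb29) (kb xb25 yb49 zb26) (kb xb20 yb1 zb6) (kb xb29 yb28 zb49) (kb xb22 yb40 zb17) (kb xb21 yb28 zb44) (kb xb13 yb33 zb56) (kb xb30 yb47 zb43) (kb xb13 yb33 zb61)) (@D3.rec (fun _ => Pt) (kb xb28 yb1 zb21) (kb xb28 yb35 zb24) (kb xb28 yb22 zb59) (kb xb19 yb56 zb41) (kb xb14 yb28 zb22) (kb xb14 yb29 zb0) (kb xb14 yb22 zb25) (kb xb13 yb34 zb2) (kb xb17 yb3 zb44) (kb xb14 yb30 zb53) (kb xb14 yb22 zb28) (kb xb17 yb3 zb48) (kb xb25 yb25 zb11) (kb xb30 yb20 zb31) (kb xb18 yb44 zb10) (kb xb14 yb31 zb9) (kb xb30 yb47 zb8) (kb xb13 yb34 zb7) (kb xb30 yb49 zb16) (kb xb20 yb43 zb30) (kb xb30 yb49 zb15) (kb xb22 yb22 zb55) (kb xb19 yb27 zb5) (kb xb30 yb20 zb3) (kb xb30 yb49 zb19) (kb xb30 yb49 zb20) (kb xb13 yb34 zb12) (kb xb25 yb34 zb23) (kb xb30 yb12 zb12) (kb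 xb23 yb11 zb41) (kb xb13 yb34 zb13) (kb xb15 yb36 zb57) (kb xb25 yb36 zb27) (kb xb25 yb50 zb23) (kb xb26 yb7 zb39) (kb xb26 yb0 zb51) (kb xb16 yb11 zb52) (kb xb13 yb34 zb25) (kb xb13 yb48 zb9) (kb xb24 yb13 zb59) (kb xb30 yb3 zb61) (kb xb26 yb53 zb10) (kb xb22 yb12 zb53) (kb xb28 yb34 zb31) (kb xb13 yb34 zb28) (kb xb28 yb35 zb57) (kb xb30 yb49 zb27) (kb xb27 yb59 zb43) (kb xb30 yb19 zb53) (kb xb22 yb35 zb58) (kb xb22 yb35 zb43) (kb xb13 yb34 zb32) (kb xb28 yb45 zb25) (kb xb30 yb49 zb30) (kb xb13 yb34 zb33) (kb xb28 yb25 zb36) (kb xb30 yb49 zb35) (kb xb13 yb34 zb36) (kb xb13 yb43 zb57) (kb xb29 yb24 zb31) (kb xb14 yb25 zb38) (kb xb22 yb46 zb55)) (@D3.rec (fun _ => Pt) (kb xb18 yb45 zb2) (kb xb23 yb56 zb29) (kb xb30 yb49 zb40) (kb xb24 yb56 zb51) (kb xb13 yb34 zb49) (kb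 xb30 yb49 zb46) (kb xb13 yb34 zb47) (kb xb30 yb49 zb50) (kb xb13 yb34 zb48) (kb xb30 yb49 zb56) (kb xb30 yb49 zb57) (kb xb30 yb49 zb59) (kb xb30 yb49 zb60) (kb xb30 yb50 zb1) (kb xb24 yb6 zb45) (kb xb13 yb34 zb51) (kb xb13 yb34 zb55) (kb xb14 yb45 zb6) (kb xb13 yb34 zb54) (kb xb30 yb50 zb5) (kb xb30 yb44 zb2) (kb xb22 yb15 zb46) (kb xb13 yb54 zb42) (kb xb23 yb44 zb55) (kb xb14 yb52 zb57) (kb xb30 yb27 zb44) (kb xb14 yb30 zb43) (kb xb14 yb0 zb29) (kb xb22 yb12 zb24) (kb xb23 yb34 zb3) (kb xb23 yb46 zb35) (kb xb13 yb35 zb2) (kb xb24 yb13 zb12) (kb xb30 yb50 zb10) (kb xb29 yb32 zb26) (kb xb28 yb45 zb61) (kb xb22 yb34 zb19) (kb xb14 yb26 zb4) (kb xb20 yb19 zb4) (kb xb13 yb35 zb9) (kb xb13 yb35 zb10) (kb xb13 yb35 zb5) (kb xb14 yb41 zb16) (kb xb28 yb54 zb39) (kb xb30 yb50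 zb18) (kb xb13 yb35 zb7) (kb xb27 yb42 zb26) (kb xb20 yb47 zb38) (kb xb20 yb47 zb40) (kb xb29 yb52 zb42) (kb xb20 yb44 zb33) (kb xb30 yb11 zb48) (kb xb30 yb50 zb16) (kb xb13 yb35 zb11) (kb xb13 yb35 zb14) (kb xb13 yb35 zb13) (kb xb21 yb5 zb32) (kb xb19 yb41 zb30) (kb xb22 yb30 zb19) (kb xb22 yb14 zb56) (kb xb13 yb35 zb18) (kb xb22 yb14 zb57)) (@D3.rec (fun _ => Pt) (kb xb29 yb48 zb34) (kb xb30 yb36 zb43) (kb xb30 yb27 zb45) (kb xb30 yb43 zb59) (kb xb29 yb28 zb5) (kb xb22 yb35 zb25) (kb xb14 yb28 zb47) (kb xb13 yb35 zb21) (kb xb21 yb34 zb47) (kb xb28 yb48 zb8) (kb xb13 yb35 zb22) (kb xb29 yb37 zb46) (kb xb22 yb55 zb9) (kb xb15 yb33 zb11) (kb xb30 yb50 zb29) (kb xb13 yb35 zb31) (kb xb13 yb35 zb32) (kb xb13 yb35 zb25) (kb xb30 yb50 zb34) (kb xb29 yb29 zb30) (kb xb30 yb27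 zb56) (kb xb13 yb35 zb30) (kb xb30 yb50 zb38) (kb xb30 yb50 zb39) (kb xb24 yb26 zb2) (kb xb30 yb50 zb42) (kb xb30 yb50 zb43) (kb xb30 yb50 zb33) (kb xb13 yb35 zb33) (kb xb15 yb40 zb7) (kb xb23 yb52 zb22) (kb xb23 yb5 zb23) (kb xb13 yb35 zb39) (kb xb30 yb33 zb55) (kb xb23 yb18 zb60) (kb xb30 yb43 zb16) (kb xb13 yb35 zb44) (kb xb30 yb44 zb4) (kb xb15 yb40 zb18) (kb xb20 yb36 zb43) (kb xb30 yb44 zb5) (kb xb13 yb35 zb48) (kb xb23 yb20 zb25) (kb xb27 yb59 zb42) (kb xb30 yb50 zb52) (kb xb20 yb7 zb54) (kb xb13 yb35 zb51) (kb xb26 yb23 zb57) (kb xb30 yb50 zb53) (kb xb22 yb49 zb22) (kb xb13 yb35 zb53) (kb xb23 yb8 zb16) (kb xb20 yb36 zb44) (kb xb28 yb38 zb12) (kb xb16 yb1 zb51) (kb xb13 yb36 zb17) (kb xb29 yb25 zb32) (kb xb27 yb13 zb36) (kb xb25 yb55 zb49) (kb xb17 yb28 zb33)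 (kb xb30 yb49 zb6) (kb xb24 yb57 zb9))
def f_b_23 : D2 → D3 → Pt := @D2.rec (fun _ => D3 → Pt) (@D3.rec (fun _ => Pt) (kb xb13 yb35 zb61) (kb xb13 yb36 zb1) (kb xb30 yb51 zb1) (kb xb28 yb22 zb3) (kb xb13 yb36 zb2) (kb xb30 yb24 zb18) (kb xb22 yb17 zb41) (kb xb26 yb45 zb31) (kb xb13 yb36 zb8) (kb xb13 yb36 zb5) (kb xb29 yb3 zb6) (kb xb30 yb51 zb4) (kb xb13 yb36 zb6) (kb xb30 yb51 zb5) (kb xb24 yb31 zb52) (kb xb23 yb30 zb30) (kb xb26 yb52 zb29) (kb xb25 yb43 zb18) (kb xb19 yb8 zb9) (kb xb24 yb6 zb36) (kb xb13 yb36 zb11) (kb xb13 yb36 zb12) (kb xb13 yb36 zb10) (kb xb19 yb43 zb16) (kb xb28 yb47 zb48) (kb xb30 yb51 zb9) (kb xb16 yb43 zb14) (kb xb25 yb25 zb3) (kb xb19 yb7 zb55) (kb xb30 yb50 zb59) (kb xb28 yb38 zb54) (kb xb30 yb50 zb54) (kb xb30 yb26 zb36) (kb xb13 yb36 zb15)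 (kb xb13 yb36 zb16) (kb xb28 yb18 zb20) (kb xb18 yb12 zb24) (kb xb19 yb8 zb38) (kb xb22 yb24 zb52) (kb xb30 yb51 zb14) (kb xb28 yb38 zb15) (kb xb13 yb36 zb18) (kb xb20 yb11 zb51) (kb xb30 yb51 zb18) (kb xb13 yb36 zb19) (kb xb19 yb48 zb54) (kb xb30 yb51 zb20) (kb xb13 yb36 zb22) (kb xb26 yb27 zb35) (kb xb23 yb1 zb19) (kb xb13 yb36 zb25) (kb xb17 yb32 zb55) (kb xb22 yb11 zb59) (kb xb17 yb26 zb5) (kb xb13 yb36 zb26) (kb xb13 yb36 zb27) (kb xb25 yb24 zb27) (kb xb13 yb36 zb29) (kb xb25 yb56 zb41) (kb xb30 yb51 zb24) (kb xb15 yb40 zb32) (kb xb22 yb45 zb24)) (@D3.rec (fun _ => Pt) (kb xb14 yb29 zb47) (kb xb13 yb36 zb32) (kb xb20 yb3 zb38) (kb xb13 yb36 zb34) (kb xb19 yb58 zb48) (kb xb29 yb6 zb4) (kb xb18 yb6 zb19) (kb xb21 yb48 zb31) (kb xb13 yb36 zb42) (kb xb28 yb53 zb33)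 (kb xb21 yb3 zb19) (kb xb30 yb51 zb28) (kb xb13 yb36 zb46) (kb xb13 yb36 zb45) (kb xb30 yb51 zb30) (kb xb13 yb36 zb48) (kb xb24 yb27 zb40) (kb xb15 yb35 zb38) (kb xb30 yb51 zb32) (kb xb23 yb0 zb49) (kb xb13 yb43 zb34) (kb xb13 yb36 zb54) (kb xb25 yb49 zb28) (kb xb14 yb39 zb25) (kb xb27 yb23 zb54) (kb xb13 yb43 zb55) (kb xb24 yb38 zb58) (kb xb24 yb9 zb6) (kb xb26 yb42 zb57) (kb xb13 yb36 zb58) (kb xb13 yb36 zb59) (kb xb30 yb51 zb35) (kb xb19 yb24 zb38) (kb xb30 yb9 zb43) (kb xb13 yb36 zb61) (kb xb30 yb9 zb40) (kb xb30 yb51 zb38) (kb xb22 yb56 zb51) (kb xb19 yb45 zb51) (kb xb13 yb37 zb1) (kb xb16 yb19 zb51) (kb xb16 yb19 zb40) (kb xb27 yb54 zb23) (kb xb24 yb28 zb0) (kb xb22 yb15 zb3) (kb xb13 yb37 zb6) (kb xb20 yb29 zb48) (kb xb13 yb37 zb9) (kb xb30 yb9 zb49) (kb xb19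 yb47 zb59) (kb xb23 yb13 zb28) (kb xb16 yb8 zb5) (kb xb17 yb37 zb55) (kb xb13 yb37 zb15) (kb xb13 yb37 zb14) (kb xb17 yb37 zb33) (kb xb23 yb1 zb59) (kb xb18 yb26 zb60) (kb xb21 yb25 zb31) (kb xb23 yb1 zb56) (kb xb13 yb37 zb19) (kb xb30 yb32 zb50)) (@D3.rec (fun _ => Pt) (kb xb30 yb51 zb52) (kb xb30 yb1 zb61) (kb xb23 yb44 zb61) (kb xb18 yb37 zb30) (kb xb30 yb1 zb6) (kb xb18 yb28 zb7) (kb xb25 yb3 zb49) (kb xb13 yb37 zb26) (kb xb30 yb51 zb56) (kb xb26 yb10 zb12) (kb xb21 yb56 zb41) (kb xb13 yb37 zb27) (kb xb17 yb44 zb9) (kb xb19 yb56 zb29) (kb xb27 yb57 zb30) (kb xb25 yb14 zb32) (kb xb13 yb37 zb34) (kb xb16 yb27 zb23) (kb xb30 yb26 zb6) (kb xb23 yb4 zb32) (kb xb30 yb52 zb1) (kb xb14 yb2 zb36) (kb xb13 yb37 zb36) (kb xb23 yb2 zb31) (kb xb26 yb30 zb50) (kb xb13 yb37 zb39)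 (kb xb30 yb52 zb6) (kb xb25 yb40 zb19) (kb xb13 yb37 zb41) (kb xb14 yb7 zb50) (kb xb29 yb50 zb52) (kb xb23 yb2 zb23) (kb xb13 yb37 zb45) (kb xb14 yb49 zb55) (kb xb24 yb32 zb41) (kb xb13 yb37 zb46) (kb xb29 yb11 zb14) (kb xb26 yb47 zb60) (kb xb30 yb52 zb9) (kb xb23 yb33 zb18) (kb xb13 yb37 zb49) (kb xb13 yb37 zb48) (kb xb23 yb44 zb53) (kb xb24 yb32 zb42) (kb xb17 yb16 zb29) (kb xb21 yb25 zb17) (kb xb27 yb57 zb19) (kb xb15 yb36 zb56) (kb xb16 yb14 zb7) (kb xb15 yb48 zb15) (kb xb13 yb37 zb54) (kb xb23 yb35 zb1) (kb xb27 yb4 zb25) (kb xb15 yb49 zb36) (kb xb21 yb25 zb39) (kb xb18 yb42 zb43) (kb xb28 yb0 zb50) (kb xb14 yb0 zb38) (kb xb13 yb51 zb13) (kb xb21 yb14 zb24) (kb xb23 yb47 zb48) (kb xb18 yb17 zb57)) (@D3.rec (fun _ => Pt) (kb xb26 yb0 zb56) (kb xb21 yb56 zb28) (kb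 xb13 yb38 zb3) (kb xb16 yb50 zb28) (kb xb30 yb20 zb8) (kb xb30 yb52 zb28) (kb xb30 yb52 zb29) (kb xb19 yb58 zb55) (kb xb22 yb34 zb4) (kb xb20 yb32 zb11) (kb xb13 yb38 zb5) (kb xb30 yb42 zb35) (kb xb30 yb52 zb36) (kb xb27 yb48 zb51) (kb xb13 yb38 zb7) (kb xb13 yb38 zb10) (kb xb13 yb38 zb11) (kb xb13 yb49 zb28) (kb xb13 yb49 zb29) (kb xb13 yb38 zb12) (kb xb20 yb19 zb45) (kb xb13 yb38 zb15) (kb xb30 yb52 zb43) (kb xb22 yb46 zb27) (kb xb16 yb24 zb61) (kb xb17 yb57 zb6) (kb xb13 yb38 zb20) (kb xb13 yb38 zb21) (kb xb21 yb14 zb32) (kb xb27 yb41 zb20) (kb xb14 yb59 zb30) (kb xb13 yb38 zb23) (kb xb23 yb43 zb2) (kb xb13 yb57 zb14) (kb xb23 yb40 zb43) (kb xb23 yb40 zb44) (kb xb15 yb4 zb37) (kb xb22 yb36 zb29) (kb xb13 yb38 zb52) (kb xb23 yb13 zb50) (kb xb22 yb41 zb13) (kb xb13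 yb38 zb37) (kb xb13 yb38 zb40) (kb xb28 yb13 zb51) (kb xb20 yb8 zb53) (kb xb13 yb38 zb43) (kb xb20 yb34 zb29) (kb xb26 yb25 zb49) (kb xb13 yb38 zb47) (kb xb18 yb49 zb26) (kb xb17 yb7 zb29) (kb xb21 yb2 zb43) (kb xb20 yb14 zb50) (kb xb20 yb44 zb49) (kb xb20 yb52 zb4) (kb xb29 yb46 zb42) (kb xb13 yb38 zb54) (kb xb25 yb31 zb9) (kb xb29 yb40 zb59) (kb xb21 yb29 zb50) (kb xb21 yb57 zb23) (kb xb13 yb38 zb59)) (@D3.rec (fun _ => Pt) (kb xb13 yb38 zb58) (kb xb29 yb8 zb45) (kb xb15 yb6 zb1) (kb xb28 yb12 zb57) (kb xb20 yb41 zb51) (kb xb17 yb8 zb22) (kb xb20 yb1 zb38) (kb xb20 yb19 zb46) (kb xb16 yb57 zb3) (kb xb18 yb48 zb13) (kb xb30 yb43 zb7) (kb xb22 yb41 zb11) (kb xb13 yb39 zb2) (kb xb20 yb6 zb21) (kb xb13 yb39 zb6) (kb xb28 yb47 zb52) (kb xb23 yb39 zb58) (kb xb20 yb11 zb35)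 (kb xb17 yb14 zb61) (kb xb13 yb39 zb8) (kb xb30 yb52 zb58) (kb xb20 yb26 zb22) (kb xb16 yb43 zb56) (kb xb13 yb41 zb37) (kb xb13 yb39 zb18) (kb xb22 yb20 zb58) (kb xb22 yb47 zb1) (kb xb27 yb16 zb54) (kb xb14 yb27 zb50) (kb xb30 yb43 zb60) (kb xb30 yb43 zb61) (kb xb30 yb53 zb2) (kb xb23 yb2 zb19) (kb xb13 yb39 zb24) (kb xb13 yb39 zb22) (kb xb30 yb53 zb6) (kb xb13 yb39 zb23) (kb xb30 yb53 zb10) (kb xb29 yb21 zb13) (kb xb15 yb4 zb2) (kb xb18 yb4 zb55) (kb xb13 yb39 zb29) (kb xb20 yb28 zb46) (kb xb13 yb39 zb38) (kb xb30 yb15 zb10) (kb xb23 yb9 zb58) (kb xb14 yb43 zb10) (kb xb30 yb53 zb14) (kb xb16 yb31 zb10) (kb xb13 yb39 zb33) (kb xb28 yb26 zb53) (kb xb13 yb39 zb34) (kb xb30 yb53 zb18) (kb xb13 yb39 zb35) (kb xb22 yb22 zb37) (kb xb22 yb47 zb57) (kb xb29 yb52 zb58) (kb xb13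 yb39 zb40) (kb xb30 yb53 zb12) (kb xb13 yb39 zb39) (kb xb30 yb53 zb23) (kb xb22 yb47 zb52)) (@D3.rec (fun _ => Pt) (kb xb16 yb33 zb48) (kb xb24 yb3 zb19) (kb xb30 yb46 zb4) (kb xb27 yb43 zb2) (kb xb20 yb28 zb49) (kb xb26 yb31 zb2) (kb xb13 yb39 zb47) (kb xb30 yb53 zb26) (kb xb22 yb48 zb4) (kb xb30 yb53 zb16) (kb xb24 yb46 zb56) (kb xb13 yb39 zb51) (kb xb30 yb46 zb6) (kb xb30 yb53 zb19) (kb xb22 yb48 zb13) (kb xb29 yb19 zb5) (kb xb29 yb41 zb13) (kb xb29 yb41 zb20) (kb xb30 yb47 zb59) (kb xb13 yb43 zb17) (kb xb13 yb39 zb55) (kb xb13 yb39 zb56) (kb xb21 yb24 zb4) (kb xb22 yb59 zb31) (kb xb26 yb26 zb7) (kb xb30 yb53 zb40) (kb xb22 yb56 zb37) (kb xb20 yb8 zb0) (kb xb13 yb40 zb1) (kb xb15 yb41 zb0) (kb xb18 yb19 zb8) (kb xb28 yb20 zb15) (kb xb30 yb53 zb43) (kb xb22 yb48 zb30)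 (kb xb25 yb12 zb5) (kb xb20 yb9 zb0) (kb xb16 yb23 zb55) (kb xb16 yb27 zb2) (kb xb28 yb53 zb53) (kb xb13 yb44 zb20) (kb xb13 yb40 zb9) (kb xb22 yb16 zb60) (kb xb13 yb40 zb10) (kb xb23 yb10 zb49) (kb xb13 yb40 zb13) (kb xb14 yb34 zb16) (kb xb28 yb42 zb12) (kb xb28 yb47 zb34) (kb xb22 yb51 zb12) (kb xb22 yb16 zb55) (kb xb14 yb12 zb24) (kb xb26 yb31 zb52) (kb xb13 yb43 zb32) (kb xb13 yb49 zb58) (kb xb28 yb9 zb0) (kb xb29 yb7 zb57) (kb xb13 yb40 zb23) (kb xb13 yb40 zb21) (kb xb25 yb50 zb25) (kb xb13 yb40 zb22) (kb xb28 yb14 zb10) (kb xb25 yb25 zb38)) (@D3.rec (fun _ => Pt) (kb xb14 yb10 zb46) (kb xb14 yb25 zb40) (kb xb24 yb0 zb35) (kb xb26 yb24 zb37) (kb xb21 yb40 zb10) (kb xb13 yb40 zb33) (kb xb22 yb50 zb51) (kb xb30 yb26 zb20) (kb xb22 yb50 zb2) (kb xb13 yb40 zb46) (kb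 xb27 yb29 zb13) (kb xb16 yb24 zb11) (kb xb13 yb40 zb41) (kb xb13 yb40 zb42) (kb xb14 yb53 zb53) (kb xb30 yb53 zb60) (kb xb14 yb32 zb12) (kb xb30 yb53 zb59) (kb xb22 yb49 zb59) (kb xb15 yb6 zb5) (kb xb18 yb56 zb40) (kb xb13 yb40 zb59) (kb xb26 yb19 zb9) (kb xb22 yb51 zb4) (kb xb24 yb57 zb35) (kb xb13 yb40 zb55) (kb xb27 yb20 zb11) (kb xb18 yb33 zb45) (kb xb24 yb52 zb59) (kb xb24 yb56 zb41) (kb xb30 yb54 zb2) (kb xb13 yb41 zb6) (kb xb13 yb41 zb3) (kb xb25 yb3 zb11) (kb xb26 yb32 zb26) (kb xb13 yb41 zb5) (kb xb29 yb52 zb24) (kb xb14 yb10 zb30) (kb xb14 yb42 zb55) (kb xb22 yb29 zb7) (kb xb30 yb53 zb58) (kb xb14 yb42 zb59) (kb xb21 yb52 zb23) (kb xb13 yb41 zb11) (kb xb13 yb41 zb10) (kb xb19 yb21 zb35) (kb xb16 yb35 zb40) (kb xb29 yb14 zb40) (kb xb21 yb12 zb35) (kb xb18 yb19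 zb51) (kb xb29 yb21 zb3) (kb xb24 yb18 zb15) (kb xb13 yb41 zb14) (kb xb18 yb58 zb50) (kb xb15 yb6 zb20) (kb xb26 yb52 zb50) (kb xb26 yb54 zb8) (kb xb13 yb41 zb16) (kb xb14 yb1 zb29) (kb xb23 yb51 zb25) (kb xb13 yb41 zb22) (kb xb24 yb14 zb1)) (@D3.rec (fun _ => Pt) (kb xb24 yb32 zb20) (kb xb30 yb54 zb8) (kb xb14 yb10 zb18) (kb xb21 yb39 zb8) (kb xb13 yb41 zb33) (kb xb14 yb10 zb25) (kb xb30 yb33 zb32) (kb xb14 yb14 zb8) (kb xb24 yb46 zb3) (kb xb20 yb6 zb31) (kb xb30 yb54 zb12) (kb xb26 yb19 zb41) (kb xb13 yb41 zb44) (kb xb23 yb22 zb0) (kb xb13 yb41 zb47) (kb xb28 yb38 zb27) (kb xb30 yb54 zb17) (kb xb24 yb47 zb21) (kb xb29 yb27 zb9) (kb xb22 yb51 zb37) (kb xb27 yb59 zb17) (kb xb22 yb52 zb8) (kb xb13 yb41 zb55) (kb xb22 yb51 zb13) (kb xb24 yb28 zb13) (kb xb26 yb19 zb38)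 (kb xb22 yb52 zb0) (kb xb23 yb34 zb16) (kb xb13 yb41 zb59) (kb xb30 yb54 zb21) (kb xb19 yb20 zb5) (kb xb22 yb51 zb43) (kb xb13 yb41 zb61) (kb xb13 yb42 zb0) (kb xb29 yb36 zb57) (kb xb25 yb1 zb29) (kb xb18 yb39 zb12) (kb xb20 yb25 zb26) (kb xb26 yb22 zb53) (kb xb13 yb42 zb4) (kb xb30 yb54 zb27) (kb xb30 yb54 zb26) (kb xb20 yb17 zb60) (kb xb13 yb42 zb30) (kb xb13 yb42 zb31) (kb xb28 yb22 zb13) (kb xb22 yb52 zb29) (kb xb15 yb23 zb41) (kb xb29 yb29 zb37) (kb xb23 yb16 zb61) (kb xb13 yb42 zb9) (kb xb14 yb30 zb31) (kb xb25 yb48 zb52) (kb xb22 yb52 zb37) (kb xb16 yb34 zb16) (kb xb16 yb43 zb24) (kb xb13 yb42 zb54) (kb xb13 yb42 zb55) (kb xb19 yb39 zb40) (kb xb22 yb52 zb44) (kb xb20 yb7 zb28) (kb xb13 yb42 zb13)) (@D3.rec (fun _ => Pt) (kb xb14 yb51 zb34) (kb xb28 yb31 zb61)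 (kb xb22 yb52 zb49) (kb xb27 yb2 zb30) (kb xb21 yb10 zb32) (kb xb20 yb42 zb38) (kb xb21 yb4 zb23) (kb xb26 yb29 zb12) (kb xb28 yb12 zb22) (kb xb26 yb21 zb47) (kb xb13 yb42 zb34) (kb xb29 yb32 zb3) (kb xb13 yb42 zb24) (kb xb29 yb32 zb2) (kb xb30 yb54 zb42) (kb xb26 yb49 zb37) (kb xb22 yb59 zb51) (kb xb13 yb42 zb26) (kb xb24 yb37 zb3) (kb xb13 yb42 zb29) (kb xb30 yb54 zb48) (kb xb16 yb42 zb46) (kb xb17 yb20 zb26) (kb xb30 yb54 zb49) (kb xb30 yb46 zb20) (kb xb30 yb46 zb55) (kb xb30 yb18 zb22) (kb xb23 yb31 zb21) (kb xb27 yb15 zb46) (kb xb22 yb53 zb41) (kb xb22 yb53 zb42) (kb xb30 yb54 zb53) (kb xb22 yb52 zb60) (kb xb14 yb29 zb13) (kb xb15 yb18 zb22) (kb xb30 yb54 zb56) (kb xb14 yb49 zb26) (kb xb13 yb42 zb39) (kb xb14 yb31 zb15) (kb xb23 yb50 zb40) (kb xb20 yb11 zb11) (kb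 xb22 yb53 zb5) (kb xb13 yb42 zb41) (kb xb13 yb42 zb61) (kb xb20 yb18 zb4) (kb xb30 yb54 zb59) (kb xb13 yb42 zb44) (kb xb25 yb57 zb37) (kb xb17 yb25 zb6) (kb xb15 yb16 zb46) (kb xb25 yb48 zb50) (kb xb27 yb14 zb32) (kb xb22 yb54 zb1) (kb xb30 yb55 zb0) (kb xb22 yb37 zb54) (kb xb19 yb52 zb57) (kb xb13 yb42 zb49) (kb xb24 yb46 zb57) (kb xb22 yb54 zb31) (kb xb13 yb42 zb59) (kb xb13 yb42 zb53) (kb xb28 yb17 zb47)) (@D3.rec (fun _ => Pt) (kb xb30 yb54 zb33) (kb xb17 yb25 zb36) (kb xb25 yb53 zb24) (kb xb25 yb44 zb50) (kb xb25 yb55 zb13) (kb xb13 yb42 zb56) (kb xb26 yb14 zb46) (kb xb22 yb54 zb25) (kb xb22 yb54 zb26) (kb xb22 yb29 zb27) (kb xb14 yb58 zb49) (kb xb20 yb7 zb22) (kb xb20 yb52 zb47) (kb xb27 yb52 zb30) (kb xb22 yb54 zb12) (kb xb27 yb9 zb42) (kb xb25 yb16 zb11) (kb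 xb13 yb43 zb7) (kb xb13 yb43 zb8) (kb xb24 yb17 zb52) (kb xb13 yb43 zb4) (kb xb26 yb6 zb55) (kb xb18 yb57 zb47) (kb xb18 yb44 zb0) (kb xb28 yb32 zb4) (kb xb24 yb39 zb29) (kb xb22 yb54 zb41) (kb xb22 yb54 zb42) (kb xb13 yb43 zb6) (kb xb30 yb55 zb14) (kb xb30 yb55 zb13) (kb xb22 yb42 zb17) (kb xb23 yb32 zb1) (kb xb30 yb2 zb15) (kb xb18 yb19 zb26) (kb xb17 yb58 zb55) (kb xb30 yb53 zb32) (kb xb25 yb59 zb21) (kb xb25 yb54 zb51) (kb xb26 yb23 zb56) (kb xb25 yb59 zb47) (kb xb29 yb27 zb51) (kb xb26 yb41 zb51) (kb xb20 yb42 zb35) (kb xb14 yb30 zb21) (kb xb13 yb43 zb22) (kb xb29 yb23 zb39) (kb xb19 yb35 zb3) (kb xb24 yb39 zb8) (kb xb29 yb41 zb26) (kb xb25 yb30 zb42) (kb xb23 yb30 zb20) (kb xb13 yb43 zb23) (kb xb30 yb53 zb41) (kb xb30 yb23 zb57) (kb xb30 yb55 zb23) (kb xb29 yb16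 zb34) (kb xb26 yb30 zb31) (kb xb23 yb4 zb45) (kb xb20 yb31 zb28) (kb xb22 yb48 zb23) (kb xb26 yb24 zb36)) (@D3.rec (fun _ => Pt) (kb xb15 yb4 zb53) (kb xb13 yb43 zb31) (kb xb23 yb54 zb44) (kb xb28 yb17 zb10) (kb xb17 yb57 zb30) (kb xb30 yb51 zb33) (kb xb13 yb43 zb36) (kb xb30 yb55 zb32) (kb xb19 yb24 zb57) (kb xb22 yb55 zb45) (kb xb13 yb43 zb49) (kb xb14 yb28 zb25) (kb xb13 yb43 zb41) (kb xb13 yb43 zb40) (kb xb25 yb55 zb26) (kb xb20 yb36 zb26) (kb xb16 yb26 zb44) (kb xb29 yb18 zb51) (kb xb25 yb32 zb38) (kb xb13 yb43 zb44) (kb xb13 yb43 zb43) (kb xb25 yb55 zb23) (kb xb27 yb9 zb36) (kb xb28 yb11 zb2) (kb xb13 yb43 zb46) (kb xb24 yb0 zb38) (kb xb27 yb13 zb7) (kb xb13 yb43 zb47) (kb xb27 yb15 zb33) (kb xb30 yb55 zb39) (kb xb28 yb0 zb46) (kb xb27 yb15 zb22) (kb xb15 yb54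 zb12) (kb xb20 yb31 zb24) (kb xb26 yb42 zb58) (kb xb20 yb30 zb19) (kb xb13 yb44 zb2) (kb xb13 yb43 zb60) (kb xb27 yb24 zb6) (kb xb19 yb38 zb59) (kb xb13 yb43 zb61) (kb xb27 yb9 zb56) (kb xb16 yb23 zb56) (kb xb30 yb55 zb44) (kb xb13 yb44 zb0) (kb xb29 yb42 zb5) (kb xb20 yb52 zb18) (kb xb20 yb12 zb34) (kb xb20 yb17 zb42) (kb xb23 yb5 zb43) (kb xb22 yb21 zb35) (kb xb21 yb40 zb28) (kb xb30 yb22 zb55) (kb xb30 yb17 zb32) (kb xb19 yb25 zb19) (kb xb30 yb37 zb40) (kb xb13 yb44 zb14) (kb xb14 yb4 zb2) (kb xb14 yb51 zb31) (kb xb25 yb52 zb61) (kb xb15 yb55 zb27) (kb xb15 yb55 zb44)) (@D3.rec (fun _ => Pt) (kb xb13 yb44 zb19) (kb xb14 yb52 zb6) (kb xb14 yb52 zb2) (kb xb14 yb51 zb48) (kb xb22 yb37 zb47) (kb xb30 yb55 zb50) (kb xb29 yb28 zb15) (kb xb13 yb44 zb24) (kb xb24 yb28 zb44)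 (kb xb25 yb48 zb59) (kb xb15 yb4 zb60) (kb xb30 yb55 zb52) (kb xb13 yb44 zb35) (kb xb14 yb29 zb5) (kb xb25 yb13 zb49) (kb xb29 yb23 zb36) (kb xb14 yb47 zb43) (kb xb24 yb39 zb40) (kb xb13 yb44 zb32) (kb xb15 yb31 zb15) (kb xb17 yb58 zb51) (kb xb29 yb12 zb8) (kb xb30 yb26 zb9) (kb xb13 yb44 zb33) (kb xb24 yb17 zb38) (kb xb30 yb55 zb58) (kb xb26 yb42 zb55) (kb xb13 yb44 zb34) (kb xb28 yb53 zb61) (kb xb28 yb48 zb3) (kb xb26 yb41 zb45) (kb xb13 yb44 zb41) (kb xb26 yb56 zb2) (kb xb13 yb44 zb43) (kb xb30 yb56 zb6) (kb xb13 yb44 zb44) (kb xb30 yb56 zb8) (kb xb13 yb44 zb46) (kb xb23 yb44 zb43) (kb xb22 yb20 zb22) (kb xb18 yb23 zb5) (kb xb22 yb57 zb29) (kb xb23 yb46 zb38) (kb xb28 yb32 zb53) (kb xb30 yb56 zb12) (kb xb28 yb35 zb39) (kb xb14 yb16 zb38) (kb xb14 yb16 zb23) (kb xb28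 yb22 zb19) (kb xb13 yb45 zb3) (kb xb28 yb15 zb27) (kb xb26 yb26 zb60) (kb xb28 yb22 zb47) (kb xb19 yb2 zb5) (kb xb13 yb45 zb0) (kb xb24 yb5 zb27) (kb xb28 yb22 zb15) (kb xb21 yb14 zb45) (kb xb30 yb56 zb16) (kb xb13 yb45 zb7) (kb xb25 yb57 zb34) (kb xb29 yb50 zb38)) (@D3.rec (fun _ => Pt) (kb xb23 yb53 zb46) (kb xb30 yb56 zb17) (kb xb13 yb45 zb12) (kb xb23 yb16 zb12) (kb xb30 yb43 zb39) (kb xb16 yb26 zb31) (kb xb30 yb24 zb38) (kb xb16 yb26 zb56) (kb xb21 yb11 zb45) (kb xb13 yb45 zb16) (kb xb26 yb28 zb48) (kb xb25 yb47 zb29) (kb xb30 yb56 zb20) (kb xb30 yb37 zb13) (kb xb16 yb46 zb49) (kb xb13 yb45 zb19) (kb xb13 yb45 zb20) (kb xb13 yb49 zb51) (kb xb26 yb52 zb31) (kb xb30 yb56 zb23) (kb xb13 yb45 zb25) (kb xb13 yb45 zb23) (kb xb15 yb44 zb0) (kb xb26 yb50 zb39) (kb xb13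 yb45 zb24) (kb xb25 yb47 zb38) (kb xb25 yb50 zb46) (kb xb30 yb56 zb27) (kb xb13 yb45 zb29) (kb xb13 yb45 zb27) (kb xb26 yb52 zb55) (kb xb26 yb52 zb56) (kb xb29 yb23 zb21) (kb xb29 yb5 zb37) (kb xb28 yb21 zb52) (kb xb30 yb50 zb11) (kb xb27 yb22 zb44) (kb xb13 yb45 zb32) (kb xb13 yb45 zb33) (kb xb27 yb18 zb51) (kb xb25 yb5 zb25) (kb xb18 yb20 zb25) (kb xb23 yb19 zb14) (kb xb13 yb45 zb35) (kb xb28 yb53 zb34) (kb xb28 yb33 zb26) (kb xb30 yb56 zb39) (kb xb13 yb45 zb38) (kb xb20 yb2 zb46) (kb xb13 yb45 zb41) (kb xb20 yb2 zb45) (kb xb29 yb18 zb44) (kb xb27 yb44 zb20) (kb xb13 yb45 zb46) (kb xb13 yb45 zb45) (kb xb19 yb17 zb9) (kb xb26 yb33 zb31) (kb xb28 yb45 zb50) (kb xb14 yb18 zb40) (kb xb14 yb18 zb42) (kb xb27 yb35 zb56) (kb xb30 yb56 zb48)) (@D3.rec (fun _ => Pt) (kb xb22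 yb5 zb49) (kb xb15 yb48 zb37) (kb xb26 yb5 zb53) (kb xb27 yb35 zb44) (kb xb15 yb47 zb48) (kb xb18 yb53 zb59) (kb xb26 yb39 zb44) (kb xb15 yb51 zb39) (kb xb15 yb55 zb42) (kb xb26 yb34 zb51) (kb xb13 yb46 zb3) (kb xb13 yb46 zb5) (kb xb22 yb3 zb27) (kb xb13 yb46 zb8) (kb xb26 yb5 zb42) (kb xb30 yb56 zb53) (kb xb30 yb56 zb54) (kb xb21 yb58 zb52) (kb xb30 yb56 zb57) (kb xb19 yb29 zb40) (kb xb24 yb11 zb3) (kb xb24 yb5 zb23) (kb xb13 yb46 zb12) (kb xb30 yb3 zb56) (kb xb22 yb45 zb10) (kb xb13 yb46 zb14) (kb xb21 yb48 zb35) (kb xb25 yb10 zb33) (kb xb23 yb1 zb50) (kb xb13 yb46 zb16) (kb xb22 yb20 zb55) (kb xb30 yb56 zb59) (kb xb21 yb5 zb39) (kb xb13 yb46 zb21) (kb xb30 yb56 zb60) (kb xb13 yb46 zb22) (kb xb30 yb57 zb3) (kb xb30 yb57 zb4) (kb xb15 yb50 zb12) (kb xb27 yb4 zb40)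 (kb xb13 yb46 zb43) (kb xb13 yb46 zb32) (kb xb13 yb46 zb33) (kb xb14 yb15 zb41) (kb xb14 yb15 zb42) (kb xb19 yb55 zb40) (kb xb26 yb9 zb61) (kb xb13 yb46 zb36) (kb xb13 yb46 zb37) (kb xb23 yb17 zb43) (kb xb23 yb3 zb39) (kb xb26 yb0 zb58) (kb xb18 yb19 zb10) (kb xb13 yb46 zb38) (kb xb26 yb26 zb24) (kb xb13 yb46 zb39) (kb xb18 yb19 zb5) (kb xb30 yb13 zb9) (kb xb13 yb46 zb40) (kb xb30 yb10 zb9) (kb xb13 yb48 zb48) (kb xb13 yb46 zb42)) (@D3.rec (fun _ => Pt) (kb xb23 yb17 zb20) (kb xb30 yb12 zb46) (kb xb13 yb59 zb32) (kb xb29 yb18 zb19) (kb xb13 yb46 zb45) (kb xb30 yb57 zb13) (kb xb13 yb46 zb49) (kb xb30 yb57 zb16) (kb xb30 yb57 zb7) (kb xb22 yb42 zb12) (kb xb25 yb16 zb17) (kb xb13 yb46 zb53) (kb xb13 yb46 zb52) (kb xb30 yb57 zb18) (kb xb14 yb45 zb12) (kb xb28 yb11 zb39)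 (kb xb21 yb30 zb3) (kb xb13 yb46 zb54) (kb xb30 yb57 zb28) (kb xb30 yb57 zb30) (kb xb30 yb20 zb36) (kb xb13 yb48 zb51) (kb xb23 yb18 zb7) (kb xb28 yb10 zb46) (kb xb13 yb46 zb60) (kb xb13 yb46 zb58) (kb xb13 yb46 zb59) (kb xb30 yb57 zb35) (kb xb30 yb33 zb27) (kb xb20 yb32 zb23) (kb xb27 yb58 zb50) (kb xb16 yb11 zb1) (kb xb23 yb45 zb22) (kb xb13 yb47 zb1) (kb xb23 yb17 zb5) (kb xb22 yb53 zb18) (kb xb16 yb10 zb38) (kb xb15 yb10 zb61) (kb xb22 yb11 zb18) (kb xb23 yb40 zb35) (kb xb23 yb41 zb1) (kb xb23 yb41 zb2) (kb xb21 yb4 zb12) (kb xb13 yb47 zb11) (kb xb13 yb47 zb12) (kb xb22 yb29 zb49) (kb xb14 yb49 zb28) (kb xb27 yb13 zb0) (kb xb13 yb47 zb18) (kb xb13 yb47 zb19) (kb xb27 yb30 zb26) (kb xb16 yb36 zb10) (kb xb30 yb37 zb17) (kb xb26 yb32 zb57) (kb xb16 yb31 zb27) (kb xb25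 yb37 zb6) (kb xb26 yb45 zb55) (kb xb29 yb48 zb57) (kb xb26 yb7 zb24) (kb xb13 yb47 zb33) (kb xb30 yb2 zb23) (kb xb23 yb32 zb25)) (@D3.rec (fun _ => Pt) (kb xb13 yb47 zb46) (kb xb30 yb57 zb49) (kb xb13 yb48 zb32) (kb xb13 yb47 zb35) (kb xb28 yb12 zb20) (kb xb30 yb57 zb19) (kb xb23 yb31 zb20) (kb xb23 yb19 zb56) (kb xb25 yb16 zb9) (kb xb13 yb47 zb37) (kb xb30 yb57 zb20) (kb xb30 yb57 zb61) (kb xb30 yb58 zb2) (kb xb13 yb47 zb39) (kb xb23 yb17 zb0) (kb xb30 yb35 zb2) (kb xb30 yb58 zb8) (kb xb23 yb20 zb1) (kb xb13 yb47 zb41) (kb xb30 yb58 zb12) (kb xb30 yb58 zb13) (kb xb18 yb22 zb59) (kb xb13 yb47 zb43) (kb xb30 yb58 zb15) (kb xb30 yb48 zb32) (kb xb13 yb47 zb44) (kb xb30 yb55 zb16) (kb xb30 yb57 zb29) (kb xb28 yb2 zb61) (kb xb23 yb16 zb11) (kb xb30 yb57 zb11) (kb xb13 yb47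 zb47) (kb xb28 yb2 zb14) (kb xb30 yb58 zb20) (kb xb23 yb19 zb52) (kb xb30 yb57 zb17) (kb xb25 yb2 zb50) (kb xb30 yb58 zb18) (kb xb23 yb43 zb32) (kb xb15 yb50 zb38) (kb xb23 yb31 zb29) (kb xb29 yb55 zb27) (kb xb28 yb13 zb36) (kb xb13 yb47 zb54) (kb xb27 yb59 zb28) (kb xb28 yb28 zb8) (kb xb13 yb47 zb55) (kb xb23 yb18 zb47) (kb xb22 yb56 zb8) (kb xb24 yb59 zb16) (kb xb26 yb3 zb26) (kb xb13 yb48 zb6) (kb xb13 yb47 zb58) (kb xb28 yb10 zb38) (kb xb30 yb58 zb31) (kb xb13 yb47 zb61) (kb xb13 yb47 zb60) (kb xb30 yb58 zb34) (kb xb28 yb12 zb37) (kb xb25 yb16 zb16) (kb xb23 yb32 zb7) (kb xb13 yb48 zb0)) (@D3.rec (fun _ => Pt) (kb xb30 yb58 zb41) (kb xb13 yb48 zb1) (kb xb30 yb58 zb43) (kb xb23 yb18 zb10) (kb xb30 yb58 zb44) (kb xb30 yb20 zb39) (kb xb13 yb48 zb3) (kb xb30 yb58 zb11)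 (kb xb30 yb54 zb29) (kb xb30 yb47 zb4) (kb xb13 yb48 zb4) (kb xb23 yb15 zb29) (kb xb23 yb12 zb3) (kb xb30 yb58 zb46) (kb xb23 yb20 zb26) (kb xb23 yb20 zb27) (kb xb14 yb0 zb59) (kb xb13 yb48 zb11) (kb xb13 yb55 zb14) (kb xb23 yb20 zb18) (kb xb13 yb48 zb15) (kb xb30 yb58 zb48) (kb xb13 yb48 zb17) (kb xb21 yb37 zb9) (kb xb30 yb58 zb50) (kb xb30 yb57 zb15) (kb xb13 yb48 zb21) (kb xb30 yb42 zb24) (kb xb30 yb58 zb54) (kb xb30 yb58 zb55) (kb xb30 yb58 zb23) (kb xb23 yb20 zb36) (kb xb23 yb20 zb37) (kb xb13 yb48 zb23) (kb xb23 yb17 zb16) (kb xb18 yb57 zb8) (kb xb22 yb49 zb54) (kb xb13 yb48 zb30) (kb xb24 yb31 zb46) (kb xb28 yb12 zb19) (kb xb30 yb57 zb55) (kb xb30 yb57 zb51) (kb xb16 yb24 zb22) (kb xb13 yb48 zb33) (kb xb30 yb58 zb61) (kb xb19 yb39 zb41) (kb xb30 yb59 zb0) (kb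 xb23 yb20 zb55) (kb xb23 yb20 zb56) (kb xb21 yb28 zb34) (kb xb20 yb22 zb25) (kb xb29 yb30 zb6) (kb xb13 yb48 zb38) (kb xb23 yb20 zb8) (kb xb17 yb2 zb54) (kb xb29 yb42 zb42) (kb xb13 yb48 zb44) (kb xb30 yb59 zb6) (kb xb23 yb18 zb44) (kb xb13 yb48 zb41) (kb xb30 yb2 zb12) (kb xb23 yb7 zb49)) (@D3.rec (fun _ => Pt) (kb xb23 yb15 zb14) (kb xb30 yb59 zb7) (kb xb23 yb21 zb3) (kb xb13 yb48 zb43) (kb xb30 yb59 zb9) (kb xb23 yb14 zb34) (kb xb30 yb59 zb11) (kb xb30 yb57 zb27) (kb xb23 yb18 zb32) (kb xb13 yb48 zb46) (kb xb30 yb59 zb16) (kb xb30 yb59 zb17) (kb xb30 yb57 zb42) (kb xb30 yb59 zb18) (kb xb18 yb42 zb0) (kb xb23 yb17 zb26) (kb xb23 yb16 zb34) (kb xb13 yb48 zb49) (kb xb30 yb59 zb26) (kb xb13 yb48 zb55) (kb xb23 yb14 zb0) (kb xb30 yb58 zb24) (kb xb13 yb48 zb50) (kb xb28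 yb11 zb35) (kb xb30 yb20 zb38) (kb xb30 yb59 zb32) (kb xb23 yb17 zb15) (kb xb30 yb58 zb47) (kb xb23 yb39 zb55) (kb xb14 yb0 zb42) (kb xb13 yb48 zb54) (kb xb30 yb59 zb42) (kb xb30 yb57 zb40) (kb xb23 yb45 zb14) (kb xb23 yb18 zb19) (kb xb30 yb59 zb47) (kb xb29 yb29 zb45) (kb xb28 yb45 zb54) (kb xb30 yb58 zb39) (kb xb25 yb16 zb26) (kb xb19 yb59 zb46) (kb xb23 yb20 zb9) (kb xb13 yb48 zb59) (kb xb23 yb13 zb49) (kb xb22 yb30 zb22) (kb xb23 yb46 zb17) (kb xb20 yb33 zb10) (kb xb30 yb32 zb7) (kb xb13 yb49 zb2) (kb xb13 yb49 zb1) (kb xb30 yb32 zb6) (kb xb20 yb13 zb30) (kb xb24 yb44 zb4) (kb xb20 yb33 zb23) (kb xb15 yb22 zb48) (kb xb17 yb38 zb11) (kb xb25 yb3 zb6) (kb xb13 yb49 zb6) (kb xb23 yb43 zb55) (kb xb21 yb25 zb21) (kb xb18 yb8 zb30) (kb xb13 yb49 zb7)) (@D3.rec (fun _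 => Pt) (kb xb21 yb33 zb48) (kb xb28 yb3 zb58) (kb xb23 yb21 zb23) (kb xb14 yb0 zb20) (kb xb13 yb49 zb21) (kb xb13 yb49 zb22) (kb xb13 yb49 zb10) (kb xb23 yb14 zb22) (kb xb13 yb49 zb14) (kb xb13 yb49 zb13) (kb xb23 yb16 zb3) (kb xb13 yb49 zb31) (kb xb15 yb10 zb58) (kb xb29 yb24 zb17) (kb xb13 yb49 zb15) (kb xb28 yb43 zb48) (kb xb17 yb2 zb50) (kb xb16 yb10 zb43) (kb xb30 yb59 zb44) (kb xb23 yb17 zb34) (kb xb30 yb57 zb34) (kb xb13 yb49 zb18) (kb xb30 yb58 zb17) (kb xb28 yb2 zb59) (kb xb25 yb16 zb2) (kb xb25 yb16 zb3) (kb xb31 yb0 zb4) (kb xb27 yb57 zb56) (kb xb27 yb57 zb57) (kb xb20 yb31 zb2) (kb xb24 yb9 zb33) (kb xb26 yb24 zb9) (kb xb23 yb17 zb8) (kb xb25 yb16 zb7) (kb xb24 yb30 zb61) (kb xb25 yb3 zb9) (kb xb30 yb32 zb52) (kb xb13 yb49 zb33) (kb xb30 yb59 zb40) (kb xb30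 yb57 zb41) (kb xb13 yb49 zb36) (kb xb30 yb59 zb23) (kb xb31 yb0 zb9) (kb xb13 yb49 zb37) (kb xb23 yb16 zb58) (kb xb20 yb10 zb57) (kb xb30 yb2 zb40) (kb xb23 yb15 zb47) (kb xb29 yb32 zb38) (kb xb30 yb58 zb30) (kb xb18 yb21 zb7) (kb xb30 yb24 zb30) (kb xb13 yb49 zb48) (kb xb28 yb20 zb2) (kb xb27 yb15 zb28) (kb xb28 yb23 zb14) (kb xb30 yb44 zb10) (kb xb27 yb2 zb44) (kb xb31 yb0 zb19) (kb xb30 yb56 zb22) (kb xb22 yb59 zb34) (kb xb26 yb23 zb52)) (@D3.rec (fun _ => Pt) (kb xb13 yb49 zb56) (kb xb24 yb5 zb33) (kb xb16 yb19 zb43) (kb xb26 yb31 zb58) (kb xb16 yb53 zb3) (kb xb29 yb19 zb30) (kb xb13 yb49 zb59) (kb xb30 yb53 zb29) (kb xb19 yb12 zb6) (kb xb31 yb0 zb27) (kb xb24 yb18 zb12) (kb xb31 yb0 zb29) (kb xb29 yb44 zb26) (kb xb31 yb0 zb31) (kb xb23 yb12 zb42) (kb xb14 yb39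 zb31) (kb xb24 yb38 zb45) (kb xb13 yb50 zb2) (kb xb13 yb50 zb6) (kb xb28 yb37 zb48) (kb xb13 yb50 zb10) (kb xb13 yb50 zb11) (kb xb20 yb33 zb27) (kb xb22 yb33 zb61) (kb xb28 yb24 zb41) (kb xb28 yb12 zb17) (kb xb13 yb50 zb14) (kb xb13 yb50 zb15) (kb xb22 yb30 zb21) (kb xb22 yb41 zb12) (kb xb26 yb47 zb58) (kb xb23 yb31 zb56) (kb xb26 yb10 zb8) (kb xb27 yb3 zb31) (kb xb13 yb50 zb17) (kb xb27 yb57 zb60) (kb xb18 yb40 zb19) (kb xb30 yb1 zb31) (kb xb23 yb28 zb49) (kb xb15 yb23 zb60) (kb xb23 yb32 zb38) (kb xb23 yb29 zb8) (kb xb13 yb50 zb29) (kb xb29 yb27 zb10) (kb xb20 yb6 zb22) (kb xb16 yb47 zb24) (kb xb26 yb49 zb54) (kb xb20 yb23 zb25) (kb xb19 yb59 zb49) (kb xb13 yb50 zb42) (kb xb31 yb0 zb40) (kb xb17 yb2 zb61) (kb xb23 yb15 zb34) (kb xb13 yb50 zb47) (kb xb31 yb0 zb41)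 (kb xb22 yb23 zb29) (kb xb23 yb15 zb7) (kb xb28 yb0 zb52) (kb xb27 yb57 zb12) (kb xb14 yb9 zb59) (kb xb13 yb50 zb51) (kb xb31 yb0 zb42)) (@D3.rec (fun _ => Pt) (kb xb31 yb0 zb45) (kb xb23 yb15 zb17) (kb xb20 yb32 zb38) (kb xb13 yb50 zb53) (kb xb30 yb58 zb45) (kb xb23 yb35 zb18) (kb xb15 yb13 zb0) (kb xb13 yb50 zb55) (kb xb23 yb16 zb53) (kb xb23 yb17 zb41) (kb xb13 yb50 zb56) (kb xb30 yb2 zb39) (kb xb26 yb8 zb23) (kb xb25 yb44 zb9) (kb xb13 yb50 zb59) (kb xb16 yb12 zb48) (kb xb26 yb10 zb7) (kb xb23 yb31 zb27) (kb xb23 yb16 zb19) (kb xb15 yb47 zb32) (kb xb23 yb31 zb34) (kb xb13 yb51 zb7) (kb xb14 yb15 zb30) (kb xb23 yb54 zb55) (kb xb13 yb51 zb8) (kb xb22 yb59 zb42) (kb xb23 yb16 zb14) (kb xb23 yb16 zb15) (kb xb20 yb32 zb34) (kb xb22 yb51 zb17) (kb xb30 yb23 zb5) (kb xb13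 yb51 zb14) (kb xb21 yb26 zb5) (kb xb27 yb45 zb55) (kb xb22 yb34 zb26) (kb xb13 yb51 zb18) (kb xb23 yb16 zb31) (kb xb23 yb16 zb32) (kb xb13 yb51 zb22) (kb xb25 yb1 zb56) (kb xb18 yb41 zb1) (kb xb13 yb51 zb25) (kb xb23 yb32 zb3) (kb xb25 yb46 zb26) (kb xb26 yb25 zb3) (kb xb26 yb26 zb26) (kb xb21 yb6 zb17) (kb xb13 yb51 zb28) (kb xb27 yb57 zb4) (kb xb15 yb7 zb58) (kb xb31 yb0 zb51) (kb xb13 yb51 zb29) (kb xb22 yb5 zb26) (kb xb19 yb46 zb56) (kb xb26 yb3 zb38) (kb xb23 yb16 zb47) (kb xb23 yb16 zb48) (kb xb31 yb0 zb52) (kb xb24 yb31 zb10) (kb xb13 yb51 zb34) (kb xb15 yb12 zb13) (kb xb31 yb0 zb54)) (@D3.rec (fun _ => Pt) (kb xb25 yb46 zb38) (kb xb16 yb6 zb5) (kb xb26 yb9 zb14) (kb xb23 yb17 zb2) (kb xb13 yb51 zb39) (kb xb23 yb25 zb1) (kb xb26 yb0 zb17) (kb xb23 yb33 zb0) (kb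 xb21 yb56 zb0) (kb xb13 yb51 zb42) (kb xb31 yb0 zb57) (kb xb24 yb52 zb22) (kb xb30 yb51 zb53) (kb xb27 yb57 zb33) (kb xb21 yb56 zb16) (kb xb22 yb30 zb8) (kb xb19 yb26 zb29) (kb xb13 yb51 zb45) (kb xb31 yb1 zb1) (kb xb30 yb59 zb49) (kb xb28 yb0 zb30) (kb xb22 yb31 zb29) (kb xb23 yb44 zb49) (kb xb23 yb18 zb2) (kb xb14 yb0 zb19) (kb xb13 yb51 zb58) (kb xb13 yb51 zb59) (kb xb13 yb51 zb54) (kb xb30 yb43 zb31) (kb xb13 yb51 zb56) (kb xb29 yb19 zb27) (kb xb29 yb30 zb10) (kb xb13 yb51 zb57) (kb xb18 yb40 zb60) (kb xb24 yb7 zb27) (kb xb27 yb57 zb58) (kb xb29 yb24 zb5) (kb xb20 yb36 zb38) (kb xb31 yb1 zb4) (kb xb24 yb31 zb47) (kb xb22 yb30 zb50) (kb xb31 yb1 zb10) (kb xb16 yb12 zb9) (kb xb13 yb52 zb2) (kb xb30 yb58 zb40) (kb xb28 yb13 zb19) (kb xb22 yb28 zb2) (kb xb30 yb13 zb49)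 (kb xb29 yb30 zb5) (kb xb13 yb52 zb11) (kb xb13 yb52 zb6) (kb xb18 yb34 zb57) (kb xb13 yb52 zb9) (kb xb24 yb28 zb21) (kb xb18 yb38 zb52) (kb xb28 yb31 zb46) (kb xb31 yb1 zb18) (kb xb26 yb15 zb35) (kb xb18 yb5 zb8) (kb xb13 yb52 zb15) (kb xb27 yb31 zb12) (kb xb18 yb14 zb11)) (@D3.rec (fun _ => Pt) (kb xb23 yb7 zb13) (kb xb30 yb46 zb0) (kb xb13 yb52 zb16) (kb xb17 yb54 zb11) (kb xb28 yb43 zb23) (kb xb25 yb4 zb2) (kb xb29 yb55 zb50) (kb xb13 yb52 zb20) (kb xb13 yb52 zb22) (kb xb27 yb5 zb50) (kb xb13 yb52 zb24) (kb xb16 yb18 zb53) (kb xb17 yb41 zb49) (kb xb30 yb3 zb47) (kb xb21 yb31 zb56) (kb xb13 yb52 zb26) (kb xb27 yb25 zb56) (kb xb26 yb16 zb61) (kb xb17 yb35 zb12) (kb xb24 yb44 zb42) (kb xb23 yb35 zb46) (kb xb13 yb52 zb28) (kb xb24 yb57 zb1) (kb xb25 yb1 zb14) (kb xb31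 yb1 zb27) (kb xb23 yb35 zb48) (kb xb13 yb52 zb31) (kb xb24 yb58 zb50) (kb xb17 yb35 zb20) (kb xb26 yb11 zb38) (kb xb21 yb37 zb7) (kb xb27 yb27 zb57) (kb xb30 yb20 zb17) (kb xb21 yb37 zb11) (kb xb16 yb6 zb35) (kb xb15 yb23 zb15) (kb xb13 yb52 zb36) (kb xb21 yb5 zb55) (kb xb23 yb35 zb56) (kb xb26 yb17 zb6) (kb xb22 yb15 zb23) (kb xb13 yb52 zb39) (kb xb24 yb10 zb24) (kb xb17 yb56 zb27) (kb xb15 yb45 zb53) (kb xb25 yb38 zb23) (kb xb14 yb53 zb58) (kb xb23 yb34 zb48) (kb xb15 yb45 zb46) (kb xb29 yb7 zb17) (kb xb23 yb34 zb50) (kb xb16 yb3 zb6) (kb xb13 yb53 zb12) (kb xb27 yb45 zb10) (kb xb23 yb34 zb56) (kb xb21 yb14 zb34) (kb xb20 yb51 zb28) (kb xb30 yb12 zb38) (kb xb23 yb34 zb60) (kb xb13 yb52 zb58) (kb xb21 yb38 zb49) (kb xb30 yb4 zb0)) (@D3.rec (fun _ => Pt) (kb xb13 yb53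 zb27) (kb xb20 yb19 zb11) (kb xb20 yb26 zb26) (kb xb13 yb53 zb3) (kb xb13 yb53 zb4) (kb xb21 yb55 zb54) (kb xb30 yb3 zb2) (kb xb31 yb0 zb47) (kb xb22 yb53 zb39) (kb xb31 yb0 zb46) (kb xb13 yb54 zb4) (kb xb13 yb53 zb7) (kb xb31 yb1 zb40) (kb xb23 yb34 zb42) (kb xb13 yb53 zb9) (kb xb30 yb2 zb43) (kb xb13 yb53 zb11) (kb xb24 yb41 zb22) (kb xb31 yb1 zb33) (kb xb24 yb41 zb7) (kb xb13 yb54 zb7) (kb xb13 yb54 zb8) (kb xb21 yb41 zb41) (kb xb23 yb35 zb27) (kb xb22 yb2 zb39) (kb xb13 yb53 zb18) (kb xb24 yb31 zb57) (kb xb22 yb27 zb14) (kb xb29 yb49 zb53) (kb xb31 yb1 zb44) (kb xb23 yb34 zb54) (kb xb13 yb53 zb21) (kb xb13 yb53 zb20) (kb xb27 yb44 zb51) (kb xb15 yb45 zb52) (kb xb31 yb1 zb46) (kb xb13 yb54 zb9) (kb xb27 yb5 zb52) (kb xb25 yb38 zb37) (kb xb22 yb2 zb60) (kb xb15 yb44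 zb34) (kb xb20 yb39 zb60) (kb xb26 yb12 zb19) (kb xb25 yb40 zb23) (kb xb14 yb56 zb15) (kb xb13 yb53 zb32) (kb xb14 yb42 zb41) (kb xb13 yb53 zb34) (kb xb14 yb42 zb49) (kb xb14 yb14 zb38) (kb xb23 yb36 zb49) (kb xb17 yb16 zb32) (kb xb13 yb53 zb47) (kb xb30 yb35 zb20) (kb xb27 yb58 zb59) (kb xb30 yb39 zb60) (kb xb28 yb45 zb4) (kb xb30 yb35 zb13) (kb xb27 yb48 zb40) (kb xb24 yb54 zb42) (kb xb23 yb36 zb60) (kb xb27 yb31 zb55)) (@D3.rec (fun _ => Pt) (kb xb13 yb53 zb51) (kb xb19 yb41 zb47) (kb xb23 yb45 zb27) (kb xb14 yb22 zb41) (kb xb14 yb17 zb42) (kb xb14 yb46 zb8) (kb xb23 yb45 zb35) (kb xb14 yb22 zb50) (kb xb26 yb57 zb23) (kb xb13 yb53 zb58) (kb xb24 yb3 zb40) (kb xb23 yb34 zb41) (kb xb27 yb17 zb14) (kb xb20 yb32 zb35) (kb xb20 yb10 zb8) (kb xb15 yb45 zb43) (kb xb31 yb1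 zb38) (kb xb16 yb3 zb2) (kb xb31 yb1 zb55) (kb xb13 yb54 zb19) (kb xb31 yb1 zb41) (kb xb31 yb1 zb56) (kb xb16 yb4 zb31) (kb xb28 yb59 zb1) (kb xb13 yb54 zb10) (kb xb16 yb56 zb16) (kb xb30 yb37 zb19) (kb xb22 yb40 zb48) (kb xb16 yb3 zb11) (kb xb25 yb39 zb26) (kb xb13 yb54 zb18) (kb xb22 yb4 zb44) (kb xb29 yb58 zb6) (kb xb19 yb16 zb61) (kb xb23 yb35 zb31) (kb xb22 yb17 zb43) (kb xb30 yb35 zb60) (kb xb30 yb35 zb61) (kb xb31 yb2 zb3) (kb xb13 yb54 zb31) (kb xb25 yb31 zb30) (kb xb13 yb54 zb32) (kb xb16 yb53 zb24) (kb xb26 yb9 zb32) (kb xb16 yb56 zb42) (kb xb22 yb31 zb54) (kb xb30 yb34 zb9) (kb xb31 yb2 zb7) (kb xb29 yb11 zb44) (kb xb16 yb13 zb20) (kb xb13 yb54 zb54) (kb xb13 yb54 zb55) (kb xb13 yb54 zb38) (kb xb13 yb54 zb39) (kb xb22 yb17 zb50) (kb xb20 yb53 zb25) (kb xb28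 yb43 zb46) (kb xb28 yb41 zb32) (kb xb23 yb33 zb1) (kb xb13 yb54 zb41) (kb xb31 yb2 zb14) (kb xb31 yb2 zb11)) (@D3.rec (fun _ => Pt) (kb xb31 yb2 zb18) (kb xb23 yb21 zb5) (kb xb31 yb2 zb20) (kb xb13 yb54 zb43) (kb xb31 yb2 zb22) (kb xb23 yb32 zb51) (kb xb13 yb55 zb7) (kb xb13 yb54 zb47) (kb xb13 yb54 zb48) (kb xb23 yb29 zb23) (kb xb27 yb1 zb16) (kb xb26 yb48 zb9) (kb xb21 yb31 zb61) (kb xb14 yb40 zb6) (kb xb28 yb17 zb39) (kb xb13 yb58 zb60) (kb xb13 yb54 zb50) (kb xb13 yb54 zb51) (kb xb25 yb46 zb19) (kb xb13 yb54 zb52) (kb xb31 yb2 zb28) (kb xb31 yb2 zb8) (kb xb30 yb59 zb4) (kb xb18 yb20 zb12) (kb xb19 yb0 zb0) (kb xb22 yb45 zb61) (kb xb26 yb2 zb46) (kb xb13 yb59 zb53) (kb xb13 yb54 zb61) (kb xb18 yb58 zb56) (kb xb22 yb28 zb14) (kb xb30 yb13 zb13) (kb xb26 yb47 zb44)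 (kb xb14 yb0 zb2) (kb xb18 yb19 zb11) (kb xb13 yb55 zb2) (kb xb18 yb40 zb46) (kb xb29 yb52 zb13) (kb xb26 yb9 zb53) (kb xb13 yb55 zb4) (kb xb30 yb59 zb55) (kb xb30 yb33 zb38) (kb xb26 yb3 zb31) (kb xb14 yb0 zb16) (kb xb26 yb9 zb41) (kb xb31 yb2 zb39) (kb xb23 yb45 zb9) (kb xb13 yb55 zb12) (kb xb21 yb55 zb16) (kb xb13 yb55 zb11) (kb xb29 yb29 zb17) (kb xb24 yb29 zb26) (kb xb31 yb2 zb41) (kb xb21 yb6 zb9) (kb xb28 yb28 zb9) (kb xb31 yb2 zb44) (kb xb23 yb45 zb18) (kb xb26 yb7 zb45) (kb xb31 yb0 zb8) (kb xb13 yb55 zb16) (kb xb13 yb55 zb19) (kb xb23 yb38 zb24)) (@D3.rec (fun _ => Pt) (kb xb17 yb55 zb18) (kb xb13 yb55 zb21) (kb xb31 yb2 zb52) (kb xb29 yb7 zb21) (kb xb23 yb29 zb59) (kb xb31 yb2 zb59) (kb xb31 yb2 zb61) (kb xb13 yb55 zb54) (kb xb23 yb39 zb14) (kb xb23 yb38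 zb29) (kb xb13 yb55 zb27) (kb xb13 yb55 zb28) (kb xb23 yb38 zb35) (kb xb13 yb55 zb30) (kb xb31 yb3 zb5) (kb xb13 yb55 zb31) (kb xb13 yb56 zb19) (kb xb20 yb23 zb30) (kb xb15 yb43 zb43) (kb xb13 yb55 zb38) (kb xb22 yb32 zb43) (kb xb18 yb2 zb57) (kb xb30 yb2 zb49) (kb xb13 yb55 zb40) (kb xb31 yb3 zb6) (kb xb25 yb34 zb38) (kb xb24 yb17 zb40) (kb xb31 yb3 zb8) (kb xb14 yb41 zb33) (kb xb20 yb24 zb56) (kb xb13 yb55 zb45) (kb xb31 yb2 zb50) (kb xb16 yb31 zb57) (kb xb15 yb43 zb50) (kb xb17 yb8 zb16) (kb xb13 yb55 zb49) (kb xb13 yb55 zb50) (kb xb29 yb6 zb38) (kb xb30 yb8 zb0) (kb xb28 yb12 zb25) (kb xb13 yb55 zb51) (kb xb31 yb3 zb17) (kb xb31 yb3 zb16) (kb xb13 yb55 zb52) (kb xb19 yb59 zb12) (kb xb31 yb3 zb19) (kb xb31 yb3 zb20) (kb xb13 yb55 zb53) (kb xb28 yb31 zb31) (kb xb31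 yb3 zb23) (kb xb21 yb41 zb16) (kb xb30 yb41 zb22) (kb xb13 yb56 zb24) (kb xb13 yb56 zb25) (kb xb31 yb3 zb1) (kb xb23 yb39 zb7) (kb xb21 yb43 zb31) (kb xb13 yb55 zb60) (kb xb21 yb55 zb25) (kb xb16 yb4 zb54) (kb xb21 yb43 zb32) (kb xb23 yb38 zb23)) (@D3.rec (fun _ => Pt) (kb xb23 yb40 zb20) (kb xb13 yb56 zb42) (kb xb23 yb38 zb27) (kb xb25 yb39 zb38) (kb xb13 yb56 zb3) (kb xb23 yb59 zb28) (kb xb31 yb3 zb41) (kb xb13 yb56 zb26) (kb xb29 yb16 zb16) (kb xb13 yb56 zb6) (kb xb31 yb3 zb3) (kb xb23 yb40 zb30) (kb xb29 yb5 zb15) (kb xb13 yb56 zb8) (kb xb31 yb3 zb45) (kb xb21 yb48 zb61) (kb xb23 yb40 zb34) (kb xb22 yb32 zb1) (kb xb14 yb12 zb27) (kb xb22 yb32 zb12) (kb xb22 yb32 zb13) (kb xb14 yb12 zb38) (kb xb14 yb12 zb39) (kb xb16 yb31 zb56) (kb xb23 yb30 zb26) (kb xb15 yb6 zb12)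 (kb xb17 yb3 zb19) (kb xb28 yb43 zb34) (kb xb31 yb3 zb48) (kb xb31 yb3 zb14) (kb xb31 yb3 zb51) (kb xb13 yb56 zb38) (kb xb25 yb30 zb19) (kb xb31 yb3 zb28) (kb xb21 yb27 zb5) (kb xb27 yb4 zb57) (kb xb30 yb51 zb42) (kb xb31 yb3 zb57) (kb xb13 yb56 zb27) (kb xb28 yb15 zb13) (kb xb25 yb5 zb4) (kb xb13 yb56 zb59) (kb xb16 yb52 zb9) (kb xb13 yb56 zb30) (kb xb30 yb2 zb47) (kb xb30 yb10 zb60) (kb xb31 yb4 zb0) (kb xb21 yb19 zb30) (kb xb15 yb43 zb47) (kb xb23 yb38 zb52) (kb xb13 yb56 zb33) (kb xb21 yb50 zb39) (kb xb31 yb2 zb19) (kb xb26 yb0 zb38) (kb xb22 yb6 zb5) (kb xb13 yb56 zb35) (kb xb31 yb4 zb5) (kb xb29 yb51 zb17) (kb xb13 yb56 zb36) (kb xb29 yb59 zb20) (kb xb15 yb45 zb39) (kb xb31 yb4 zb7)) (@D3.rec (fun _ => Pt) (kb xb15 yb29 zb54) (kb xb13 yb56 zb37) (kb xb29 yb56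 zb28) (kb xb30 yb1 zb36) (kb xb31 yb3 zb52) (kb xb24 yb42 zb26) (kb xb26 yb8 zb8) (kb xb27 yb17 zb58) (kb xb13 yb56 zb43) (kb xb29 yb58 zb5) (kb xb29 yb49 zb42) (kb xb30 yb10 zb53) (kb xb22 yb11 zb6) (kb xb23 yb40 zb19) (kb xb22 yb44 zb3) (kb xb31 yb3 zb0) (kb xb23 yb40 zb23) (kb xb31 yb4 zb17) (kb xb13 yb56 zb50) (kb xb30 yb41 zb36) (kb xb17 yb4 zb11) (kb xb13 yb56 zb49) (kb xb31 yb4 zb21) (kb xb31 yb3 zb39) (kb xb31 yb4 zb26) (kb xb25 yb37 zb13) (kb xb26 yb48 zb1) (kb xb13 yb56 zb52) (kb xb31 yb4 zb30) (kb xb29 yb10 zb12) (kb xb31 yb3 zb55) (kb xb30 yb0 zb23) (kb xb22 yb44 zb5) (kb xb24 yb22 zb9) (kb xb13 yb56 zb56) (kb xb13 yb56 zb55) (kb xb23 yb30 zb23) (kb xb29 yb10 zb25) (kb xb31 yb4 zb36) (kb xb25 yb5 zb0) (kb xb31 yb4 zb39) (kb xb31 yb4 zb42) (kb xb31 yb4 zb45)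 (kb xb13 yb57 zb0) (kb xb13 yb56 zb61) (kb xb20 yb2 zb52) (kb xb16 yb11 zb19) (kb xb29 yb12 zb6) (kb xb31 yb4 zb50) (kb xb23 yb19 zb38) (kb xb17 yb53 zb1) (kb xb22 yb10 zb20) (kb xb13 yb57 zb7) (kb xb19 yb22 zb5) (kb xb27 yb12 zb51) (kb xb13 yb57 zb51) (kb xb16 yb25 zb10) (kb xb16 yb25 zb11) (kb xb22 yb42 zb52) (kb xb16 yb23 zb61) (kb xb30 yb52 zb46) (kb xb19 yb16 zb60)) (@D3.rec (fun _ => Pt) (kb xb13 yb57 zb15) (kb xb24 yb33 zb53) (kb xb31 yb4 zb60) (kb xb30 yb33 zb45) (kb xb30 yb52 zb47) (kb xb31 yb5 zb1) (kb xb29 yb10 zb33) (kb xb13 yb57 zb36) (kb xb23 yb19 zb41) (kb xb29 yb55 zb14) (kb xb13 yb57 zb23) (kb xb13 yb57 zb24) (kb xb31 yb4 zb11) (kb xb31 yb5 zb2) (kb xb14 yb29 zb38) (kb xb21 yb34 zb26) (kb xb27 yb58 zb11) (kb xb13 yb57 zb26) (kb xb23 yb38 zb59) (kb xb30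 yb10 zb20) (kb xb31 yb5 zb5) (kb xb13 yb57 zb29) (kb xb29 yb18 zb24) (kb xb23 yb25 zb9) (kb xb13 yb57 zb33) (kb xb31 yb5 zb8) (kb xb29 yb14 zb8) (kb xb30 yb10 zb32) (kb xb28 yb27 zb33) (kb xb26 yb47 zb15) (kb xb24 yb43 zb46) (kb xb13 yb57 zb38) (kb xb31 yb5 zb13) (kb xb25 yb39 zb19) (kb xb13 yb57 zb39) (kb xb26 yb47 zb16) (kb xb23 yb42 zb5) (kb xb13 yb57 zb42) (kb xb27 yb56 zb60) (kb xb23 yb40 zb36) (kb xb14 yb5 zb34) (kb xb23 yb40 zb51) (kb xb13 yb57 zb50) (kb xb30 yb33 zb13) (kb xb31 yb4 zb58) (kb xb24 yb32 zb52) (kb xb30 yb37 zb16) (kb xb27 yb30 zb25) (kb xb31 yb5 zb20) (kb xb13 yb58 zb7) (kb xb13 yb57 zb55) (kb xb13 yb57 zb56) (kb xb23 yb41 zb3) (kb xb30 yb6 zb11) (kb xb30 yb40 zb23) (kb xb13 yb57 zb58) (kb xb31 yb5 zb26) (kb xb30 yb40 zb4) (kb xb29 yb26 zb50) (kb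 xb23 yb26 zb4) (kb xb13 yb57 zb60) (kb xb13 yb58 zb14)) (@D3.rec (fun _ => Pt) (kb xb31 yb5 zb29) (kb xb29 yb11 zb9) (kb xb22 yb44 zb41) (kb xb13 yb58 zb2) (kb xb13 yb58 zb3) (kb xb20 yb2 zb53) (kb xb31 yb5 zb31) (kb xb23 yb42 zb0) (kb xb13 yb58 zb5) (kb xb30 yb3 zb35) (kb xb30 yb9 zb30) (kb xb31 yb5 zb35) (kb xb13 yb58 zb6) (kb xb31 yb5 zb39) (kb xb31 yb5 zb21) (kb xb24 yb17 zb46) (kb xb13 yb58 zb9) (kb xb30 yb33 zb9) (kb xb24 yb43 zb44) (kb xb13 yb58 zb10) (kb xb23 yb9 zb51) (kb xb13 yb58 zb11) (kb xb31 yb5 zb45) (kb xb23 yb28 zb36) (kb xb23 yb41 zb44) (kb xb13 yb58 zb13) (kb xb23 yb27 zb24) (kb xb22 yb44 zb36) (kb xb31 yb5 zb52) (kb xb23 yb42 zb22) (kb xb23 yb0 zb15) (kb xb13 yb58 zb22) (kb xb20 yb54 zb41) (kb xb25 yb49 zb59) (kb xb25 yb58 zb12) (kb xb13 yb58 zb29)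 (kb xb15 yb41 zb27) (kb xb23 yb42 zb26) (kb xb13 yb58 zb32) (kb xb13 yb58 zb33) (kb xb25 yb49 zb52) (kb xb17 yb22 zb20) (kb xb18 yb48 zb22) (kb xb29 yb27 zb38) (kb xb19 yb49 zb1) (kb xb29 yb19 zb28) (kb xb27 yb42 zb54) (kb xb29 yb12 zb16) (kb xb14 yb40 zb1) (kb xb17 yb15 zb53) (kb xb21 yb42 zb35) (kb xb30 yb7 zb21) (kb xb17 yb53 zb6) (kb xb24 yb29 zb13) (kb xb13 yb58 zb57) (kb xb13 yb58 zb58) (kb xb13 yb58 zb52) (kb xb22 yb30 zb44) (kb xb30 yb13 zb15) (kb xb26 yb31 zb57) (kb xb14 yb45 zb2) (kb xb21 yb30 zb13)) (@D3.rec (fun _ => Pt) (kb xb31 yb5 zb58) (kb xb23 yb42 zb52) (kb xb18 yb39 zb58) (kb xb16 yb13 zb15) (kb xb21 yb40 zb40) (kb xb23 yb42 zb38) (kb xb15 yb50 zb7) (kb xb27 yb29 zb19) (kb xb23 yb42 zb40) (kb xb31 yb6 zb1) (kb xb13 yb59 zb4) (kb xb13 yb59 zb6) (kb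 xb13 yb59 zb7) (kb xb17 yb12 zb27) (kb xb13 yb59 zb3) (kb xb29 yb11 zb32) (kb xb29 yb58 zb26) (kb xb17 yb53 zb4) (kb xb13 yb59 zb10) (kb xb13 yb59 zb11) (kb xb23 yb15 zb6) (kb xb23 yb8 zb27) (kb xb13 yb59 zb14) (kb xb13 yb59 zb16) (kb xb13 yb59 zb19) (kb xb21 yb11 zb61) (kb xb25 yb2 zb53) (kb xb23 yb20 zb17) (kb xb23 yb44 zb5) (kb xb23 yb15 zb40) (kb xb23 yb44 zb7) (kb xb13 yb59 zb25) (kb xb31 yb0 zb55) (kb xb16 yb3 zb33) (kb xb23 yb20 zb20) (kb xb14 yb49 zb29) (kb xb29 yb12 zb19) (kb xb31 yb6 zb6) (kb xb26 yb30 zb0) (kb xb29 yb11 zb43) (kb xb13 yb59 zb36) (kb xb25 yb2 zb6) (kb xb23 yb44 zb2) (kb xb21 yb10 zb15) (kb xb23 yb43 zb34) (kb xb13 yb59 zb41) (kb xb24 yb18 zb32) (kb xb27 yb58 zb55) (kb xb13 yb59 zb47) (kb xb30 yb7 zb33) (kb xb27 yb40 zb16) (kb xb19 yb56 zb15)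 (kb xb25 yb2 zb3) (kb xb22 yb43 zb48) (kb xb31 yb6 zb9) (kb xb27 yb29 zb40) (kb xb23 yb19 zb31) (kb xb26 yb47 zb45) (kb xb15 yb50 zb37) (kb xb28 yb28 zb15) (kb xb14 yb0 zb0) (kb xb14 yb0 zb1)) (@D3.rec (fun _ => Pt) (kb xb13 yb59 zb56) (kb xb23 yb9 zb32) (kb xb13 yb59 zb57) (kb xb23 yb20 zb42) (kb xb26 yb25 zb18) (kb xb26 yb0 zb57) (kb xb13 yb59 zb59) (kb xb23 yb15 zb60) (kb xb19 yb1 zb48) (kb xb28 yb27 zb6) (kb xb13 yb59 zb60) (kb xb16 yb10 zb61) (kb xb31 yb6 zb15) (kb xb17 yb54 zb33) (kb xb23 yb44 zb28) (kb xb23 yb44 zb29) (kb xb25 yb30 zb46) (kb xb31 yb6 zb13) (kb xb26 yb10 zb1) (kb xb25 yb46 zb35) (kb xb21 yb1 zb14) (kb xb14 yb0 zb9) (kb xb25 yb46 zb40) (kb xb28 yb28 zb13) (kb xb21 yb53 zb55) (kb xb23 yb14 zb61) (kb xb16 yb30 zb59) (kb xb23 yb44 zb33) (kb xb14 yb0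 zb8) (kb xb31 yb6 zb20) (kb xb31 yb0 zb6) (kb xb30 yb33 zb54) (kb xb31 yb2 zb35) (kb xb14 yb0 zb11) (kb xb22 yb18 zb26) (kb xb18 yb23 zb52) (kb xb31 yb6 zb21) (kb xb30 yb57 zb38) (kb xb23 yb19 zb40) (kb xb23 yb33 zb50) (kb xb29 yb18 zb15) (kb xb23 yb32 zb48) (kb xb27 yb58 zb51) (kb xb14 yb0 zb14) (kb xb31 yb6 zb24) (kb xb28 yb10 zb45) (kb xb14 yb0 zb15) (kb xb15 yb14 zb58) (kb xb23 yb32 zb41) (kb xb31 yb1 zb8) (kb xb26 yb0 zb45) (kb xb23 yb25 zb5) (kb xb29 yb30 zb13) (kb xb26 yb7 zb49) (kb xb23 yb52 zb24) (kb xb20 yb31 zb3) (kb xb25 yb2 zb7) (kb xb14 yb0 zb21) (kb xb23 yb37 zb12) (kb xb14 yb0 zb22) (kb xb31 yb6 zb31) (kb xb16 yb13 zb19)) (@D3.rec (fun _ => Pt) (kb xb23 yb21 zb7) (kb xb23 yb24 zb58) (kb xb23 yb44 zb42) (kb xb22 yb12 zb19) (kb xb26 yb8 zb22) (kb xb23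 yb35 zb36) (kb xb30 yb33 zb43) (kb xb14 yb0 zb28) (kb xb14 yb0 zb27) (kb xb22 yb42 zb18) (kb xb20 yb33 zb24) (kb xb27 yb44 zb41) (kb xb25 yb46 zb34) (kb xb14 yb29 zb15) (kb xb14 yb0 zb31) (kb xb14 yb0 zb35) (kb xb19 yb36 zb13) (kb xb22 yb12 zb21) (kb xb23 yb2 zb39) (kb xb14 yb0 zb39) (kb xb14 yb0 zb44) (kb xb26 yb25 zb10) (kb xb14 yb0 zb45) (kb xb25 yb1 zb51) (kb xb16 yb49 zb57) (kb xb23 yb58 zb59) (kb xb14 yb0 zb53) (kb xb23 yb37 zb16) (kb xb30 yb31 zb37) (kb xb15 yb47 zb30) (kb xb14 yb17 zb13) (kb xb30 yb34 zb35) (kb xb14 yb17 zb17) (kb xb14 yb0 zb58) (kb xb14 yb0 zb57) (kb xb28 yb27 zb18) (kb xb29 yb21 zb18) (kb xb25 yb40 zb26) (kb xb31 yb6 zb45) (kb xb14 yb0 zb61) (kb xb31 yb6 zb48) (kb xb22 yb31 zb26) (kb xb29 yb29 zb23) (kb xb29 yb55 zb39) (kb xb22 yb31 zb47)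 (kb xb14 yb1 zb3) (kb xb30 yb56 zb15) (kb xb31 yb6 zb49) (kb xb14 yb1 zb4) (kb xb24 yb31 zb18) (kb xb23 yb32 zb39) (kb xb18 yb42 zb30) (kb xb14 yb1 zb10) (kb xb14 yb1 zb11) (kb xb18 yb9 zb58) (kb xb28 yb15 zb22) (kb xb15 yb11 zb20) (kb xb31 yb6 zb56) (kb xb31 yb6 zb57) (kb xb14 yb1 zb17) (kb xb22 yb35 zb52) (kb xb28 yb15 zb20)) (@D3.rec (fun _ => Pt) (kb xb14 yb1 zb18) (kb xb28 yb32 zb54) (kb xb18 yb10 zb31) (kb xb22 yb58 zb29) (kb xb31 yb6 zb58) (kb xb14 yb52 zb10) (kb xb30 yb20 zb33) (kb xb19 yb4 zb41) (kb xb27 yb58 zb26) (kb xb14 yb1 zb26) (kb xb31 yb6 zb61) (kb xb25 yb15 zb52) (kb xb22 yb15 zb41) (kb xb14 yb1 zb28) (kb xb18 yb30 zb23) (kb xb24 yb47 zb46) (kb xb23 yb7 zb27) (kb xb30 yb45 zb43) (kb xb30 yb24 zb60) (kb xb14 yb38 zb2) (kb xb14 yb1 zb30) (kb xb27 yb20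 zb39) (kb xb21 yb52 zb36) (kb xb28 yb19 zb13) (kb xb31 yb1 zb25) (kb xb20 yb47 zb54) (kb xb14 yb1 zb33) (kb xb14 yb1 zb34) (kb xb26 yb30 zb10) (kb xb14 yb1 zb37) (kb xb15 yb5 zb1) (kb xb30 yb37 zb32) (kb xb22 yb18 zb1) (kb xb17 yb2 zb41) (kb xb27 yb9 zb13) (kb xb24 yb35 zb4) (kb xb22 yb21 zb13) (kb xb14 yb1 zb49) (kb xb14 yb1 zb51) (kb xb26 yb42 zb7) (kb xb19 yb49 zb23) (kb xb23 yb24 zb11) (kb xb23 yb23 zb13) (kb xb24 yb44 zb51) (kb xb21 yb12 zb27) (kb xb21 yb12 zb28) (kb xb14 yb1 zb56) (kb xb31 yb7 zb6) (kb xb23 yb22 zb47) (kb xb16 yb5 zb17) (kb xb23 yb22 zb50) (kb xb15 yb43 zb32) (kb xb27 yb26 zb29) (kb xb14 yb2 zb23) (kb xb23 yb23 zb30) (kb xb27 yb30 zb40) (kb xb23 yb22 zb54) (kb xb22 yb8 zb31) (kb xb22 yb8 zb35) (kb xb26 yb14 zb15) (kb xb23 yb22 zb58) (kb xb14 yb2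 zb4)) (@D3.rec (fun _ => Pt) (kb xb30 yb3 zb25) (kb xb23 yb2 zb51) (kb xb21 yb58 zb48) (kb xb14 yb2 zb58) (kb xb20 yb24 zb23) (kb xb22 yb17 zb48) (kb xb14 yb2 zb10) (kb xb14 yb2 zb11) (kb xb22 yb38 zb43) (kb xb18 yb18 zb37) (kb xb29 yb51 zb29) (kb xb26 yb25 zb2) (kb xb26 yb8 zb25) (kb xb26 yb9 zb4) (kb xb14 yb2 zb13) (kb xb31 yb7 zb16) (kb xb30 yb38 zb55) (kb xb28 yb43 zb42) (kb xb23 yb20 zb5) (kb xb20 yb15 zb12) (kb xb21 yb29 zb14) (kb xb25 yb42 zb15) (kb xb16 yb54 zb51) (kb xb14 yb2 zb20) (kb xb30 yb8 zb28) (kb xb18 yb17 zb59) (kb xb22 yb8 zb34) (kb xb23 yb23 zb23) (kb xb21 yb28 zb15) (kb xb28 yb42 zb43) (kb xb15 yb42 zb18) (kb xb23 yb24 zb34) (kb xb24 yb41 zb10) (kb xb14 yb51 zb50) (kb xb14 yb21 zb27) (kb xb30 yb42 zb28) (kb xb23 yb33 zb5) (kb xb14 yb2 zb40) (kb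 xb14 yb2 zb39) (kb xb18 yb28 zb46) (kb xb30 yb59 zb38) (kb xb26 yb7 zb7) (kb xb31 yb7 zb18) (kb xb23 yb42 zb32) (kb xb16 yb15 zb13) (kb xb31 yb7 zb22) (kb xb23 yb22 zb20) (kb xb28 yb10 zb15) (kb xb23 yb22 zb25) (kb xb31 yb7 zb23) (kb xb16 yb14 zb39) (kb xb14 yb2 zb48) (kb xb26 yb11 zb2) (kb xb14 yb2 zb49) (kb xb17 yb13 zb27) (kb xb14 yb56 zb61) (kb xb23 yb22 zb38) (kb xb27 yb48 zb54) (kb xb19 yb59 zb39) (kb xb16 yb59 zb12) (kb xb21 yb12 zb25) (kb xb26 yb8 zb26)) (@D3.rec (fun _ => Pt) (kb xb31 yb7 zb12) (kb xb14 yb2 zb61) (kb xb14 yb3 zb0) (kb xb22 yb38 zb10) (kb xb14 yb3 zb3) (kb xb24 yb27 zb25) (kb xb14 yb3 zb4) (kb xb24 yb40 zb44) (kb xb31 yb7 zb30) (kb xb14 yb3 zb9) (kb xb14 yb3 zb8) (kb xb14 yb22 zb21) (kb xb14 yb55 zb22) (kb xb22 yb8 zb33) (kb xb16 yb6 zb28) (kb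 xb21 yb50 zb61) (kb xb14 yb3 zb14) (kb xb21 yb9 zb23) (kb xb16 yb6 zb18) (kb xb25 yb41 zb8) (kb xb14 yb3 zb17) (kb xb14 yb3 zb16) (kb xb17 yb38 zb34) (kb xb31 yb7 zb34) (kb xb14 yb55 zb24) (kb xb21 yb27 zb29) (kb xb14 yb3 zb20) (kb xb26 yb1 zb7) (kb xb22 yb4 zb25) (kb xb16 yb32 zb43) (kb xb14 yb27 zb34) (kb xb20 yb22 zb16) (kb xb19 yb59 zb58) (kb xb18 yb47 zb39) (kb xb16 yb19 zb12) (kb xb14 yb56 zb41) (kb xb14 yb3 zb30) (kb xb19 yb22 zb24) (kb xb14 yb3 zb32) (kb xb21 yb4 zb36) (kb xb14 yb3 zb34) (kb xb19 yb5 zb24) (kb xb19 yb22 zb36) (kb xb24 yb46 zb5) (kb xb14 yb47 zb7) (kb xb19 yb22 zb0) (kb xb30 yb35 zb39) (kb xb18 yb16 zb18) (kb xb14 yb53 zb34) (kb xb23 yb23 zb50) (kb xb18 yb31 zb41) (kb xb30 yb35 zb48) (kb xb27 yb50 zb55) (kb xb27 yb50 zb19) (kb xb14 yb3 zb47)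 (kb xb28 yb9 zb30) (kb xb31 yb7 zb42) (kb xb18 yb26 zb26) (kb xb14 yb58 zb18) (kb xb31 yb7 zb44) (kb xb23 yb23 zb60) (kb xb16 yb18 zb57)) (@D3.rec (fun _ => Pt) (kb xb17 yb44 zb51) (kb xb14 yb3 zb51) (kb xb14 yb3 zb52) (kb xb31 yb7 zb47) (kb xb14 yb3 zb57) (kb xb23 yb38 zb11) (kb xb31 yb7 zb50) (kb xb21 yb56 zb57) (kb xb14 yb3 zb59) (kb xb31 yb7 zb52) (kb xb30 yb47 zb34) (kb xb30 yb34 zb5) (kb xb23 yb32 zb58) (kb xb14 yb4 zb20) (kb xb23 yb38 zb14) (kb xb23 yb38 zb15) (kb xb23 yb33 zb27) (kb xb19 yb55 zb48) (kb xb14 yb4 zb5) (kb xb14 yb4 zb6) (kb xb23 yb44 zb41) (kb xb16 yb4 zb55) (kb xb31 yb7 zb56) (kb xb14 yb4 zb7) (kb xb31 yb2 zb45) (kb xb31 yb7 zb58) (kb xb14 yb4 zb8) (kb xb31 yb7 zb61) (kb xb26 yb9 zb25) (kb xb29 yb12 zb20) (kb xb21 yb56 zb55) (kb xb30 yb0 zb35)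 (kb xb14 yb4 zb11) (kb xb21 yb56 zb42) (kb xb22 yb38 zb45) (kb xb14 yb4 zb16) (kb xb14 yb4 zb17) (kb xb14 yb4 zb15) (kb xb27 yb45 zb41) (kb xb27 yb40 zb51) (kb xb31 yb8 zb5) (kb xb14 yb4 zb18) (kb xb27 yb57 zb27) (kb xb14 yb4 zb19) (kb xb19 yb55 zb34) (kb xb20 yb30 zb26) (kb xb16 yb17 zb22) (kb xb27 yb27 zb19) (kb xb26 yb10 zb61) (kb xb14 yb4 zb24) (kb xb14 yb4 zb30) (kb xb28 yb56 zb56) (kb xb14 yb4 zb32) (kb xb24 yb35 zb52) (kb xb14 yb4 zb34) (kb xb31 yb8 zb14) (kb xb30 yb19 zb41) (kb xb18 yb4 zb30) (kb xb31 yb8 zb18) (kb xb22 yb34 zb42) (kb xb22 yb15 zb0) (kb xb14 yb4 zb38)) (@D3.rec (fun _ => Pt) (kb xb19 yb52 zb36) (kb xb17 yb6 zb20) (kb xb14 yb4 zb44) (kb xb27 yb26 zb50) (kb xb17 yb43 zb25) (kb xb16 yb49 zb0) (kb xb14 yb4 zb51) (kb xb18 yb26 zb20) (kb xb14 yb4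 zb56) (kb xb30 yb5 zb30) (kb xb17 yb16 zb37) (kb xb23 yb37 zb5) (kb xb22 yb17 zb45) (kb xb14 yb6 zb2) (kb xb23 yb37 zb14) (kb xb23 yb37 zb15) (kb xb22 yb17 zb51) (kb xb22 yb17 zb52) (kb xb30 yb42 zb27) (kb xb22 yb17 zb54) (kb xb30 yb14 zb2) (kb xb14 yb5 zb10) (kb xb31 yb1 zb59) (kb xb23 yb26 zb61) (kb xb23 yb25 zb61) (kb xb29 yb26 zb48) (kb xb29 yb26 zb43) (kb xb23 yb27 zb2) (kb xb31 yb8 zb30) (kb xb23 yb26 zb9) (kb xb14 yb5 zb20) (kb xb14 yb5 zb21) (kb xb31 yb8 zb38) (kb xb31 yb8 zb37) (kb xb31 yb5 zb19) (kb xb23 yb26 zb12) (kb xb14 yb5 zb23) (kb xb31 yb8 zb47) (kb xb30 yb16 zb61) (kb xb30 yb40 zb27) (kb xb31 yb8 zb52) (kb xb14 yb5 zb24) (kb xb30 yb40 zb25) (kb xb31 yb8 zb56) (kb xb14 yb5 zb55) (kb xb28 yb1 zb4) (kb xb14 yb6 zb5) (kb xb14 yb5 zb27) (kb xb31 yb9 zb1)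 (kb xb30 yb2 zb42) (kb xb31 yb9 zb0) (kb xb21 yb14 zb50) (kb xb23 yb27 zb49) (kb xb26 yb49 zb14) (kb xb14 yb5 zb29) (kb xb31 yb9 zb5) (kb xb31 yb9 zb4) (kb xb30 yb37 zb34) (kb xb14 yb5 zb31) (kb xb23 yb29 zb18) (kb xb19 yb58 zb43) (kb xb31 yb9 zb10)) (@D3.rec (fun _ => Pt) (kb xb14 yb5 zb33) (kb xb30 yb9 zb58) (kb xb23 yb40 zb50) (kb xb30 yb52 zb49) (kb xb30 yb40 zb9) (kb xb14 yb6 zb8) (kb xb31 yb8 zb35) (kb xb23 yb26 zb55) (kb xb14 yb5 zb40) (kb xb14 yb5 zb39) (kb xb31 yb9 zb17) (kb xb21 yb49 zb26) (kb xb31 yb8 zb32) (kb xb15 yb41 zb42) (kb xb23 yb26 zb8) (kb xb23 yb41 zb11) (kb xb14 yb5 zb44) (kb xb14 yb5 zb43) (kb xb23 yb41 zb10) (kb xb31 yb8 zb40) (kb xb31 yb9 zb24) (kb xb24 yb20 zb12) (kb xb21 yb24 zb32) (kb xb14 yb6 zb9) (kb xb14 yb5 zb47) (kb xb31 yb9 zb28) (kb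 xb31 yb8 zb45) (kb xb29 yb43 zb53) (kb xb29 yb49 zb37) (kb xb14 yb5 zb49) (kb xb31 yb8 zb49) (kb xb21 yb43 zb27) (kb xb30 yb41 zb48) (kb xb14 yb5 zb50) (kb xb31 yb9 zb40) (kb xb14 yb5 zb51) (kb xb31 yb9 zb44) (kb xb31 yb9 zb49) (kb xb19 yb46 zb15) (kb xb14 yb5 zb53) (kb xb14 yb5 zb54) (kb xb31 yb9 zb53) (kb xb31 yb9 zb54) (kb xb31 yb9 zb58) (kb xb30 yb41 zb15) (kb xb31 yb9 zb61) (kb xb14 yb5 zb58) (kb xb14 yb5 zb57) (kb xb31 yb10 zb4) (kb xb28 yb13 zb27) (kb xb29 yb57 zb4) (kb xb30 yb52 zb10) (kb xb29 yb7 zb43) (kb xb14 yb43 zb14) (kb xb23 yb46 zb54) (kb xb23 yb17 zb28) (kb xb21 yb14 zb36) (kb xb23 yb42 zb2) (kb xb23 yb4 zb16) (kb xb31 yb8 zb59) (kb xb25 yb39 zb43) (kb xb25 yb42 zb42)) (@D3.rec (fun _ => Pt) (kb xb29 yb10 zb3) (kb xb14 yb6 zb20) (kb xb31 yb10 zb9) (kb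 xb31 yb9 zb27) (kb xb31 yb10 zb11) (kb xb31 yb10 zb12) (kb xb19 yb54 zb1) (kb xb14 yb6 zb12) (kb xb27 yb40 zb30) (kb xb14 yb6 zb15) (kb xb14 yb6 zb16) (kb xb30 yb33 zb35) (kb xb16 yb59 zb47) (kb xb14 yb6 zb17) (kb xb24 yb27 zb5) (kb xb14 yb6 zb18) (kb xb14 yb6 zb19) (kb xb29 yb10 zb32) (kb xb30 yb10 zb36) (kb xb23 yb28 zb13) (kb xb23 yb27 zb0) (kb xb22 yb22 zb15) (kb xb31 yb8 zb34) (kb xb23 yb28 zb16) (kb xb14 yb6 zb28) (kb xb18 yb40 zb25) (kb xb30 yb1 zb32) (kb xb14 yb6 zb30) (kb xb31 yb10 zb27) (kb xb21 yb24 zb44) (kb xb23 yb27 zb11) (kb xb29 yb59 zb15) (kb xb30 yb10 zb24) (kb xb26 yb1 zb33) (kb xb23 yb27 zb16) (kb xb23 yb14 zb39) (kb xb23 yb29 zb39) (kb xb21 yb2 zb37) (kb xb14 yb6 zb39) (kb xb14 yb6 zb40) (kb xb17 yb23 zb18) (kb xb31 yb0 zb49) (kb xb28 yb26 zb12)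 (kb xb23 yb3 zb34) (kb xb23 yb3 zb35) (kb xb21 yb18 zb18) (kb xb21 yb14 zb10) (kb xb14 yb7 zb26) (kb xb31 yb7 zb48) (kb xb14 yb7 zb29) (kb xb23 yb39 zb2) (kb xb23 yb29 zb41) (kb xb14 yb39 zb53) (kb xb14 yb12 zb42) (kb xb26 yb22 zb44) (kb xb14 yb6 zb52) (kb xb18 yb36 zb45) (kb xb30 yb38 zb58) (kb xb28 yb18 zb14) (kb xb26 yb22 zb48) (kb xb21 yb19 zb17) (kb xb30 yb1 zb30)) (@D3.rec (fun _ => Pt) (kb xb14 yb7 zb11) (kb xb23 yb14 zb40) (kb xb23 yb14 zb41) (kb xb23 yb29 zb52) (kb xb31 yb10 zb48) (kb xb29 yb58 zb9) (kb xb14 yb6 zb60) (kb xb14 yb6 zb61) (kb xb22 yb12 zb30) (kb xb14 yb15 zb29) (kb xb23 yb39 zb18) (kb xb23 yb39 zb15) (kb xb31 yb10 zb52) (kb xb30 yb41 zb44) (kb xb14 yb7 zb1) (kb xb31 yb10 zb54) (kb xb30 yb30 zb36) (kb xb30 yb10 zb25) (kb xb27 yb5 zb1) (kb xb14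 yb7 zb2) (kb xb29 yb56 zb29) (kb xb29 yb5 zb19) (kb xb14 yb7 zb18) (kb xb14 yb7 zb5) (kb xb31 yb10 zb39) (kb xb25 yb8 zb42) (kb xb30 yb41 zb58) (kb xb22 yb43 zb38) (kb xb14 yb7 zb8) (kb xb31 yb11 zb0) (kb xb21 yb19 zb46) (kb xb14 yb7 zb10) (kb xb31 yb11 zb3) (kb xb29 yb59 zb3) (kb xb31 yb10 zb46) (kb xb31 yb9 zb39) (kb xb14 yb7 zb13) (kb xb31 yb11 zb9) (kb xb25 yb57 zb42) (kb xb30 yb31 zb44) (kb xb15 yb43 zb58) (kb xb29 yb10 zb19) (kb xb19 yb44 zb43) (kb xb31 yb11 zb13) (kb xb23 yb30 zb24) (kb xb14 yb7 zb16) (kb xb14 yb7 zb17) (kb xb31 yb11 zb17) (kb xb29 yb5 zb18) (kb xb31 yb11 zb19) (kb xb22 yb43 zb14) (kb xb14 yb7 zb20) (kb xb25 yb38 zb53) (kb xb31 yb11 zb20) (kb xb29 yb28 zb46) (kb xb14 yb7 zb28) (kb xb30 yb52 zb16) (kb xb31 yb11 zb22) (kb xb31 yb2 zb57) (kb xb14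 yb7 zb30) (kb xb31 yb3 zb33) (kb xb14 yb7 zb33)) (@D3.rec (fun _ => Pt) (kb xb23 yb30 zb7) (kb xb14 yb7 zb35) (kb xb23 yb39 zb57) (kb xb24 yb42 zb13) (kb xb31 yb11 zb24) (kb xb23 yb29 zb36) (kb xb16 yb7 zb3) (kb xb14 yb7 zb56) (kb xb19 yb16 zb52) (kb xb20 yb5 zb50) (kb xb16 yb25 zb28) (kb xb15 yb43 zb19) (kb xb17 yb15 zb19) (kb xb14 yb7 zb44) (kb xb20 yb15 zb17) (kb xb15 yb46 zb13) (kb xb22 yb40 zb40) (kb xb16 yb2 zb58) (kb xb16 yb3 zb50) (kb xb25 yb47 zb10) (kb xb14 yb7 zb53) (kb xb27 yb40 zb49) (kb xb23 yb30 zb29) (kb xb14 yb7 zb52) (kb xb31 yb11 zb30) (kb xb17 yb37 zb41) (kb xb23 yb30 zb37) (kb xb14 yb8 zb0) (kb xb27 yb20 zb21) (kb xb21 yb55 zb1) (kb xb27 yb11 zb55) (kb xb14 yb8 zb7) (kb xb23 yb35 zb43) (kb xb14 yb8 zb8) (kb xb16 yb25 zb13) (kb xb18 yb54 zb54) (kb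 xb17 yb15 zb38) (kb xb15 yb24 zb18) (kb xb23 yb31 zb5) (kb xb15 yb29 zb41) (kb xb23 yb31 zb8) (kb xb14 yb9 zb28) (kb xb14 yb38 zb30) (kb xb14 yb8 zb24) (kb xb27 yb0 zb48) (kb xb14 yb8 zb18) (kb xb18 yb29 zb12) (kb xb31 yb0 zb58) (kb xb26 yb14 zb58) (kb xb18 yb30 zb10) (kb xb14 yb8 zb20) (kb xb31 yb8 zb7) (kb xb23 yb31 zb1) (kb xb21 yb2 zb15) (kb xb16 yb10 zb39) (kb xb30 yb18 zb11) (kb xb30 yb18 zb12) (kb xb14 yb8 zb33) (kb xb22 yb38 zb3) (kb xb17 yb43 zb32) (kb xb14 yb8 zb35) (kb xb14 yb8 zb36)) (@D3.rec (fun _ => Pt) (kb xb20 yb50 zb57) (kb xb20 yb12 zb27) (kb xb23 yb3 zb32) (kb xb15 yb12 zb27) (kb xb31 yb11 zb32) (kb xb31 yb11 zb36) (kb xb30 yb3 zb14) (kb xb24 yb37 zb16) (kb xb14 yb8 zb38) (kb xb27 yb46 zb2) (kb xb31 yb11 zb40) (kb xb30 yb2 zb2) (kb xb15 yb41 zb31)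 (kb xb31 yb8 zb6) (kb xb14 yb8 zb42) (kb xb14 yb8 zb43) (kb xb30 yb2 zb55) (kb xb30 yb2 zb54) (kb xb19 yb54 zb10) (kb xb31 yb11 zb44) (kb xb19 yb44 zb56) (kb xb16 yb25 zb49) (kb xb18 yb26 zb40) (kb xb14 yb8 zb45) (kb xb30 yb37 zb37) (kb xb31 yb11 zb46) (kb xb15 yb12 zb17) (kb xb18 yb29 zb5) (kb xb14 yb8 zb48) (kb xb18 yb29 zb32) (kb xb16 yb34 zb57) (kb xb18 yb59 zb32) (kb xb23 yb15 zb38) (kb xb29 yb52 zb36) (kb xb23 yb31 zb44) (kb xb30 yb32 zb45) (kb xb16 yb12 zb22) (kb xb14 yb47 zb42) (kb xb29 yb52 zb17) (kb xb19 yb56 zb31) (kb xb26 yb3 zb35) (kb xb21 yb57 zb5) (kb xb30 yb52 zb25) (kb xb14 yb8 zb55) (kb xb31 yb11 zb34) (kb xb28 yb36 zb49) (kb xb19 yb56 zb27) (kb xb14 yb9 zb3) (kb xb14 yb8 zb58) (kb xb22 yb17 zb35) (kb xb30 yb25 zb0) (kb xb19 yb56 zb37) (kb xb26 yb53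 zb40) (kb xb28 yb2 zb4) (kb xb14 yb9 zb31) (kb xb23 yb17 zb58) (kb xb14 yb8 zb61) (kb xb18 yb30 zb4) (kb xb31 yb12 zb0) (kb xb31 yb11 zb60) (kb xb30 yb1 zb12) (kb xb14 yb9 zb0)) (@D3.rec (fun _ => Pt) (kb xb25 yb46 zb37) (kb xb25 yb3 zb61) (kb xb23 yb31 zb42) (kb xb27 yb35 zb26) (kb xb16 yb50 zb17) (kb xb23 yb31 zb28) (kb xb21 yb55 zb61) (kb xb23 yb31 zb30) (kb xb21 yb40 zb59) (kb xb19 yb16 zb57) (kb xb14 yb9 zb16) (kb xb14 yb9 zb10) (kb xb18 yb28 zb17) (kb xb29 yb58 zb47) (kb xb14 yb9 zb13) (kb xb28 yb1 zb59) (kb xb22 yb42 zb15) (kb xb15 yb34 zb52) (kb xb15 yb34 zb51) (kb xb26 yb14 zb61) (kb xb27 yb26 zb13) (kb xb22 yb28 zb19) (kb xb25 yb23 zb11) (kb xb30 yb59 zb36) (kb xb16 yb50 zb21) (kb xb30 yb52 zb32) (kb xb14 yb9 zb21) (kb xb31 yb12 zb5) (kb xb23 yb32 zb14) (kb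 xb23 yb32 zb15) (kb xb28 yb32 zb2) (kb xb26 yb14 zb57) (kb xb15 yb13 zb59) (kb xb23 yb32 zb27) (kb xb22 yb28 zb32) (kb xb26 yb15 zb57) (kb xb29 yb58 zb49) (kb xb15 yb11 zb46) (kb xb22 yb45 zb27) (kb xb18 yb28 zb8) (kb xb14 yb9 zb35) (kb xb23 yb37 zb20) (kb xb23 yb33 zb2) (kb xb23 yb11 zb38) (kb xb14 yb9 zb42) (kb xb26 yb8 zb49) (kb xb26 yb7 zb2) (kb xb15 yb50 zb22) (kb xb22 yb30 zb42) (kb xb23 yb21 zb22) (kb xb14 yb9 zb47) (kb xb31 yb8 zb24) (kb xb23 yb46 zb60) (kb xb23 yb2 zb42) (kb xb14 yb9 zb50) (kb xb22 yb58 zb23) (kb xb14 yb9 zb52) (kb xb21 yb55 zb36) (kb xb31 yb12 zb9) (kb xb31 yb12 zb16) (kb xb14 yb9 zb55) (kb xb23 yb2 zb2)) (@D3.rec (fun _ => Pt) (kb xb31 yb12 zb10) (kb xb30 yb57 zb8) (kb xb31 yb12 zb17) (kb xb30 yb0 zb54) (kb xb14 yb9 zb57) (kb xb31 yb12 zb19)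 (kb xb28 yb3 zb10) (kb xb26 yb45 zb59) (kb xb31 yb6 zb14) (kb xb23 yb25 zb46) (kb xb19 yb14 zb50) (kb xb14 yb10 zb3) (kb xb30 yb59 zb20) (kb xb30 yb13 zb30) (kb xb23 yb17 zb33) (kb xb14 yb10 zb5) (kb xb30 yb58 zb42) (kb xb31 yb2 zb16) (kb xb23 yb25 zb56) (kb xb14 yb10 zb12) (kb xb14 yb10 zb7) (kb xb24 yb42 zb16) (kb xb23 yb14 zb32) (kb xb16 yb17 zb1) (kb xb14 yb10 zb10) (kb xb18 yb26 zb50) (kb xb18 yb42 zb28) (kb xb23 yb24 zb2) (kb xb17 yb25 zb28) (kb xb20 yb37 zb0) (kb xb22 yb50 zb43) (kb xb20 yb52 zb52) (kb xb17 yb0 zb50) (kb xb14 yb10 zb22) (kb xb14 yb10 zb23) (kb xb23 yb24 zb6) (kb xb22 yb26 zb48) (kb xb31 yb12 zb33) (kb xb31 yb12 zb29) (kb xb24 yb0 zb54) (kb xb30 yb8 zb15) (kb xb30 yb54 zb10) (kb xb14 yb10 zb26) (kb xb31 yb12 zb35) (kb xb31 yb12 zb34) (kb xb14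 yb10 zb27) (kb xb14 yb38 zb8) (kb xb22 yb25 zb46) (kb xb30 yb28 zb6) (kb xb31 yb12 zb39) (kb xb25 yb30 zb60) (kb xb22 yb25 zb29) (kb xb30 yb15 zb48) (kb xb14 yb28 zb46) (kb xb30 yb15 zb34) (kb xb22 yb19 zb25) (kb xb26 yb51 zb44) (kb xb14 yb10 zb33) (kb xb30 yb28 zb44) (kb xb31 yb12 zb41) (kb xb14 yb28 zb48) (kb xb14 yb10 zb36)) (@D3.rec (fun _ => Pt) (kb xb14 yb10 zb35) (kb xb31 yb12 zb45) (kb xb14 yb10 zb37) (kb xb14 yb41 zb8) (kb xb14 yb10 zb39) (kb xb30 yb31 zb28) (kb xb31 yb12 zb48) (kb xb22 yb26 zb12) (kb xb22 yb26 zb33) (kb xb20 yb46 zb56) (kb xb14 yb10 zb43) (kb xb22 yb27 zb36) (kb xb31 yb12 zb53) (kb xb31 yb1 zb24) (kb xb14 yb10 zb44) (kb xb14 yb45 zb16) (kb xb22 yb22 zb36) (kb xb23 yb17 zb45) (kb xb14 yb15 zb46) (kb xb28 yb43 zb44) (kb xb29 yb30 zb25) (kb xb29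 yb9 zb61) (kb xb29 yb52 zb19) (kb xb27 yb44 zb54) (kb xb14 yb10 zb52) (kb xb17 yb2 zb25) (kb xb20 yb30 zb27) (kb xb19 yb51 zb16) (kb xb14 yb10 zb56) (kb xb14 yb10 zb58) (kb xb22 yb13 zb40) (kb xb29 yb2 zb17) (kb xb14 yb10 zb61) (kb xb14 yb11 zb0) (kb xb31 yb12 zb59) (kb xb22 yb58 zb30) (kb xb14 yb11 zb3) (kb xb16 yb52 zb15) (kb xb23 yb11 zb42) (kb xb14 yb11 zb5) (kb xb31 yb12 zb61) (kb xb14 yb35 zb37) (kb xb20 yb18 zb34) (kb xb24 yb5 zb28) (kb xb14 yb35 zb42) (kb xb29 yb29 zb2) (kb xb20 yb33 zb47) (kb xb30 yb51 zb0) (kb xb17 yb59 zb48) (kb xb17 yb4 zb31) (kb xb17 yb8 zb37) (kb xb16 yb13 zb55) (kb xb14 yb33 zb58) (kb xb17 yb52 zb32) (kb xb23 yb39 zb54) (kb xb21 yb10 zb18) (kb xb21 yb10 zb20) (kb xb14 yb11 zb23) (kb xb17 yb37 zb1) (kb xb21 yb28 zb24) (kb xb23 yb44 zb52)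 (kb xb22 yb31 zb41)) (@D3.rec (fun _ => Pt) (kb xb18 yb56 zb61) (kb xb14 yb11 zb34) (kb xb29 yb22 zb37) (kb xb29 yb24 zb30) (kb xb17 yb3 zb17) (kb xb20 yb41 zb52) (kb xb20 yb24 zb39) (kb xb21 yb7 zb0) (kb xb14 yb29 zb58) (kb xb14 yb29 zb59) (kb xb20 yb41 zb55) (kb xb19 yb30 zb24) (kb xb30 yb19 zb13) (kb xb27 yb2 zb24) (kb xb24 yb1 zb51) (kb xb14 yb11 zb44) (kb xb14 yb11 zb46) (kb xb17 yb9 zb42) (kb xb14 yb11 zb55) (kb xb23 yb47 zb44) (kb xb25 yb44 zb53) (kb xb30 yb7 zb35) (kb xb29 yb30 zb39) (kb xb25 yb55 zb27) (kb xb21 yb50 zb51) (kb xb27 yb38 zb8) (kb xb14 yb12 zb7) (kb xb17 yb18 zb37) (kb xb17 yb18 zb38) (kb xb31 yb13 zb16) (kb xb14 yb12 zb8) (kb xb20 yb49 zb54) (kb xb27 yb1 zb30) (kb xb29 yb28 zb8) (kb xb14 yb12 zb10) (kb xb22 yb8 zb18) (kb xb17 yb58 zb49) (kb xb17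 yb10 zb5) (kb xb18 yb50 zb54) (kb xb15 yb26 zb58) (kb xb31 yb13 zb22) (kb xb20 yb51 zb29) (kb xb17 yb21 zb12) (kb xb18 yb50 zb29) (kb xb23 yb47 zb19) (kb xb14 yb12 zb36) (kb xb14 yb12 zb37) (kb xb16 yb57 zb2) (kb xb23 yb2 zb60) (kb xb31 yb13 zb25) (kb xb26 yb57 zb22) (kb xb21 yb44 zb31) (kb xb25 yb52 zb16) (kb xb29 yb7 zb44) (kb xb18 yb0 zb31) (kb xb21 yb6 zb61) (kb xb26 yb0 zb40) (kb xb31 yb13 zb26) (kb xb22 yb14 zb3) (kb xb22 yb16 zb9) (kb xb31 yb13 zb31) (kb xb30 yb34 zb20)) (@D3.rec (fun _ => Pt) (kb xb17 yb18 zb7) (kb xb18 yb25 zb57) (kb xb18 yb25 zb47) (kb xb22 yb6 zb54) (kb xb26 yb53 zb21) (kb xb31 yb13 zb33) (kb xb14 yb13 zb9) (kb xb31 yb13 zb35) (kb xb22 yb12 zb42) (kb xb22 yb25 zb59) (kb xb28 yb36 zb10) (kb xb22 yb20 zb3) (kb xb31 yb13 zb38) (kb xb22 yb16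 zb5) (kb xb29 yb36 zb37) (kb xb30 yb22 zb15) (kb xb31 yb13 zb41) (kb xb30 yb37 zb46) (kb xb14 yb13 zb0) (kb xb29 yb2 zb61) (kb xb29 yb28 zb6) (kb xb14 yb13 zb14) (kb xb28 yb38 zb42) (kb xb27 yb13 zb31) (kb xb21 yb35 zb27) (kb xb30 yb30 zb26) (kb xb29 yb36 zb29) (kb xb26 yb43 zb10) (kb xb29 yb36 zb31) (kb xb24 yb53 zb34) (kb xb14 yb13 zb8) (kb xb27 yb1 zb18) (kb xb27 yb8 zb17) (kb xb30 yb37 zb29) (kb xb28 yb36 zb7) (kb xb26 yb51 zb61) (kb xb31 yb13 zb49) (kb xb30 yb20 zb55) (kb xb28 yb17 zb57) (kb xb28 yb2 zb47) (kb xb30 yb34 zb32) (kb xb14 yb13 zb13) (kb xb30 yb39 zb39) (kb xb27 yb2 zb11) (kb xb19 yb52 zb33) (kb xb22 yb15 zb52) (kb xb20 yb27 zb24) (kb xb22 yb15 zb58) (kb xb22 yb15 zb59) (kb xb30 yb34 zb18) (kb xb14 yb14 zb41) (kb xb22 yb16 zb1) (kb xb24 yb0 zb61) (kb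 xb14 yb13 zb24) (kb xb31 yb13 zb52) (kb xb30 yb35 zb5) (kb xb30 yb5 zb47) (kb xb30 yb20 zb56) (kb xb31 yb13 zb56) (kb xb17 yb17 zb35) (kb xb22 yb7 zb18) (kb xb19 yb19 zb13)) (@D3.rec (fun _ => Pt) (kb xb15 yb36 zb4) (kb xb14 yb13 zb34) (kb xb22 yb18 zb37) (kb xb14 yb13 zb35) (kb xb14 yb14 zb57) (kb xb31 yb12 zb32) (kb xb31 yb13 zb60) (kb xb31 yb13 zb61) (kb xb22 yb17 zb61) (kb xb20 yb50 zb48) (kb xb17 yb51 zb33) (kb xb24 yb29 zb60) (kb xb27 yb17 zb8) (kb xb29 yb38 zb16) (kb xb14 yb13 zb46) (kb xb24 yb21 zb48) (kb xb14 yb13 zb45) (kb xb31 yb14 zb7) (kb xb31 yb14 zb5) (kb xb22 yb11 zb4) (kb xb30 yb34 zb36) (kb xb17 yb20 zb37) (kb xb20 yb28 zb3) (kb xb20 yb26 zb61) (kb xb20 yb40 zb51) (kb xb17 yb19 zb4) (kb xb29 yb13 zb1) (kb xb14 yb14 zb0) (kb xb19 yb4 zb49) (kb xb26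 yb41 zb19) (kb xb21 yb20 zb61) (kb xb14 yb13 zb57) (kb xb14 yb37 zb37) (kb xb29 yb42 zb43) (kb xb14 yb13 zb61) (kb xb31 yb12 zb56) (kb xb28 yb39 zb60) (kb xb19 yb22 zb12) (kb xb22 yb18 zb2) (kb xb27 yb9 zb6) (kb xb29 yb38 zb24) (kb xb14 yb14 zb11) (kb xb14 yb14 zb12) (kb xb17 yb15 zb56) (kb xb14 yb14 zb6) (kb xb17 yb30 zb0) (kb xb17 yb16 zb21) (kb xb30 yb51 zb45) (kb xb17 yb54 zb39) (kb xb30 yb45 zb49) (kb xb18 yb10 zb0) (kb xb17 yb12 zb41) (kb xb30 yb45 zb44) (kb xb17 yb30 zb36) (kb xb14 yb14 zb10) (kb xb15 yb6 zb50) (kb xb16 yb8 zb33) (kb xb15 yb30 zb54) (kb xb26 yb39 zb31) (kb xb29 yb7 zb36) (kb xb27 yb54 zb11) (kb xb20 yb1 zb40)) (@D3.rec (fun _ => Pt) (kb xb24 yb53 zb41) (kb xb27 yb39 zb48) (kb xb14 yb14 zb22) (kb xb14 yb14 zb19) (kb xb22 yb36 zb44) (kb xb16 yb17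 zb2) (kb xb15 yb9 zb42) (kb xb19 yb20 zb14) (kb xb14 yb14 zb25) (kb xb14 yb14 zb26) (kb xb14 yb14 zb24) (kb xb31 yb14 zb26) (kb xb17 yb52 zb23) (kb xb19 yb20 zb47) (kb xb27 yb53 zb61) (kb xb26 yb13 zb47) (kb xb14 yb14 zb29) (kb xb26 yb13 zb48) (kb xb23 yb53 zb49) (kb xb19 yb20 zb9) (kb xb21 yb58 zb50) (kb xb14 yb14 zb31) (kb xb26 yb13 zb12) (kb xb31 yb14 zb34) (kb xb27 yb4 zb49) (kb xb14 yb44 zb61) (kb xb28 yb7 zb30) (kb xb27 yb51 zb9) (kb xb22 yb18 zb7) (kb xb31 yb14 zb38) (kb xb27 yb52 zb41) (kb xb28 yb12 zb46) (kb xb18 yb31 zb43) (kb xb14 yb14 zb39) (kb xb31 yb14 zb43) (kb xb31 yb7 zb39) (kb xb23 yb51 zb59) (kb xb27 yb55 zb47) (kb xb14 yb14 zb47) (kb xb28 yb35 zb44) (kb xb23 yb8 zb39) (kb xb22 yb20 zb35) (kb xb28 yb2 zb23) (kb xb15 yb9 zb46) (kb xb30 yb35 zb22) (kb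 xb14 yb14 zb44) (kb xb31 yb14 zb48) (kb xb14 yb14 zb45) (kb xb16 yb8 zb36) (kb xb14 yb16 zb37) (kb xb18 yb4 zb23) (kb xb27 yb55 zb31) (kb xb18 yb31 zb38) (kb xb30 yb35 zb24) (kb xb14 yb14 zb51) (kb xb31 yb14 zb53) (kb xb31 yb14 zb54) (kb xb22 yb18 zb39) (kb xb27 yb11 zb14) (kb xb14 yb14 zb60) (kb xb16 yb40 zb24) (kb xb25 yb1 zb32)) (@D3.rec (fun _ => Pt) (kb xb15 yb9 zb47) (kb xb30 yb35 zb33) (kb xb14 yb14 zb56) (kb xb29 yb32 zb51) (kb xb26 yb29 zb53) (kb xb26 yb29 zb49) (kb xb27 yb39 zb40) (kb xb18 yb55 zb61) (kb xb18 yb53 zb4) (kb xb14 yb14 zb58) (kb xb18 yb49 zb2) (kb xb24 yb46 zb20) (kb xb27 yb13 zb59) (kb xb30 yb30 zb60) (kb xb27 yb55 zb34) (kb xb22 yb18 zb10) (kb xb14 yb15 zb1) (kb xb31 yb15 zb7) (kb xb19 yb22 zb7) (kb xb14 yb15 zb8) (kb xb14 yb15 zb9) (kb xb27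 yb45 zb40) (kb xb16 yb20 zb27) (kb xb27 yb45 zb33) (kb xb14 yb15 zb5) (kb xb23 yb6 zb59) (kb xb18 yb29 zb17) (kb xb16 yb33 zb0) (kb xb24 yb54 zb0) (kb xb14 yb15 zb6) (kb xb17 yb54 zb10) (kb xb30 yb38 zb26) (kb xb18 yb27 zb56) (kb xb27 yb6 zb58) (kb xb31 yb15 zb21) (kb xb31 yb15 zb14) (kb xb31 yb14 zb39) (kb xb31 yb15 zb22) (kb xb14 yb15 zb10) (kb xb28 yb25 zb50) (kb xb31 yb15 zb25) (kb xb22 yb18 zb52) (kb xb14 yb15 zb15) (kb xb14 yb15 zb16) (kb xb26 yb12 zb45) (kb xb24 yb54 zb3) (kb xb14 yb15 zb13) (kb xb27 yb48 zb28) (kb xb17 yb43 zb43) (kb xb26 yb12 zb27) (kb xb31 yb15 zb33) (kb xb18 yb54 zb11) (kb xb25 yb4 zb45) (kb xb25 yb3 zb45) (kb xb30 yb23 zb27) (kb xb31 yb15 zb34) (kb xb27 yb47 zb4) (kb xb14 yb15 zb24) (kb xb14 yb15 zb25) (kb xb23 yb50 zb36) (kb xb14 yb15 zb26)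 (kb xb30 yb36 zb22)) (@D3.rec (fun _ => Pt) (kb xb28 yb27 zb61) (kb xb31 yb15 zb36) (kb xb14 yb22 zb37) (kb xb28 yb21 zb24) (kb xb23 yb53 zb39) (kb xb22 yb21 zb21) (kb xb22 yb56 zb13) (kb xb28 yb2 zb17) (kb xb28 yb6 zb43) (kb xb14 yb15 zb33) (kb xb27 yb46 zb32) (kb xb25 yb50 zb22) (kb xb25 yb50 zb24) (kb xb14 yb15 zb34) (kb xb28 yb28 zb36) (kb xb28 yb10 zb39) (kb xb19 yb7 zb21) (kb xb22 yb23 zb33) (kb xb14 yb15 zb38) (kb xb18 yb50 zb4) (kb xb29 yb7 zb27) (kb xb22 yb12 zb60) (kb xb22 yb59 zb30) (kb xb29 yb14 zb32) (kb xb23 yb32 zb54) (kb xb22 yb48 zb47) (kb xb14 yb39 zb30) (kb xb29 yb30 zb14) (kb xb25 yb16 zb54) (kb xb30 yb34 zb60) (kb xb14 yb15 zb48) (kb xb31 yb15 zb42) (kb xb17 yb9 zb22) (kb xb14 yb15 zb50) (kb xb28 yb4 zb11) (kb xb30 yb59 zb21) (kb xb22 yb4 zb40)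 (kb xb28 yb0 zb33) (kb xb20 yb34 zb13) (kb xb14 yb16 zb2) (kb xb30 yb34 zb17) (kb xb29 yb35 zb44) (kb xb30 yb34 zb19) (kb xb31 yb12 zb31) (kb xb28 yb26 zb40) (kb xb14 yb16 zb6) (kb xb29 yb56 zb1) (kb xb19 yb41 zb54) (kb xb27 yb6 zb43) (kb xb31 yb13 zb54) (kb xb27 yb6 zb47) (kb xb29 yb34 zb41) (kb xb22 yb39 zb42) (kb xb14 yb16 zb5) (kb xb28 yb26 zb41) (kb xb28 yb37 zb55) (kb xb22 yb37 zb35) (kb xb14 yb16 zb7) (kb xb27 yb48 zb3) (kb xb17 yb22 zb29) (kb xb14 yb20 zb20) (kb xb17 yb19 zb43)) (@D3.rec (fun _ => Pt) (kb xb24 yb14 zb51) (kb xb29 yb40 zb43) (kb xb17 yb16 zb59) (kb xb27 yb21 zb23) (kb xb24 yb18 zb35) (kb xb23 yb56 zb11) (kb xb17 yb20 zb0) (kb xb14 yb16 zb17) (kb xb17 yb20 zb1) (kb xb23 yb57 zb47) (kb xb31 yb15 zb53) (kb xb14 yb31 zb4) (kb xb22 yb7 zb45) (kb xb18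 yb42 zb2) (kb xb22 yb16 zb42) (kb xb20 yb42 zb58) (kb xb14 yb16 zb21) (kb xb24 yb13 zb33) (kb xb31 yb15 zb56) (kb xb17 yb22 zb27) (kb xb22 yb16 zb47) (kb xb29 yb30 zb54) (kb xb14 yb16 zb28) (kb xb30 yb24 zb36) (kb xb28 yb17 zb9) (kb xb24 yb12 zb16) (kb xb14 yb16 zb27) (kb xb28 yb46 zb30) (kb xb29 yb54 zb60) (kb xb14 yb17 zb10) (kb xb31 yb15 zb61) (kb xb14 yb16 zb29) (kb xb28 yb17 zb14) (kb xb28 yb0 zb42) (kb xb22 yb17 zb10) (kb xb14 yb16 zb33) (kb xb28 yb17 zb7) (kb xb24 yb12 zb35) (kb xb14 yb16 zb32) (kb xb23 yb52 zb4) (kb xb28 yb52 zb18) (kb xb18 yb48 zb56) (kb xb14 yb17 zb26) (kb xb14 yb16 zb34) (kb xb31 yb16 zb9) (kb xb22 yb17 zb22) (kb xb23 yb12 zb0) (kb xb15 yb30 zb50) (kb xb16 yb7 zb5) (kb xb23 yb50 zb18) (kb xb24 yb28 zb18) (kb xb30 yb10 zb61) (kb xb22 yb12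 zb51) (kb xb18 yb57 zb46) (kb xb20 yb25 zb60) (kb xb24 yb48 zb24) (kb xb14 yb16 zb45) (kb xb16 yb15 zb24) (kb xb25 yb36 zb2) (kb xb26 yb43 zb30) (kb xb28 yb1 zb7) (kb xb21 yb53 zb21)) (@D3.rec (fun _ => Pt) (kb xb29 yb26 zb2) (kb xb28 yb21 zb49) (kb xb21 yb49 zb47) (kb xb14 yb16 zb58) (kb xb14 yb16 zb54) (kb xb14 yb16 zb55) (kb xb27 yb45 zb29) (kb xb26 yb4 zb16) (kb xb29 yb32 zb50) (kb xb14 yb16 zb56) (kb xb31 yb16 zb20) (kb xb30 yb8 zb14) (kb xb20 yb33 zb54) (kb xb24 yb48 zb27) (kb xb14 yb16 zb61) (kb xb14 yb17 zb0) (kb xb25 yb43 zb34) (kb xb31 yb15 zb57) (kb xb31 yb16 zb24) (kb xb28 yb22 zb39) (kb xb14 yb17 zb2) (kb xb29 yb27 zb57) (kb xb15 yb55 zb10) (kb xb31 yb16 zb28) (kb xb31 yb16 zb29) (kb xb30 yb32 zb61) (kb xb14 yb17 zb5) (kb xb31 yb16 zb35) (kb xb30 yb18 zb28)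 (kb xb31 yb16 zb38) (kb xb30 yb54 zb55) (kb xb30 yb34 zb50) (kb xb30 yb34 zb51) (kb xb22 yb17 zb2) (kb xb28 yb23 zb28) (kb xb14 yb17 zb11) (kb xb14 yb17 zb8) (kb xb30 yb26 zb14) (kb xb21 yb36 zb39) (kb xb14 yb45 zb10) (kb xb16 yb0 zb25) (kb xb27 yb10 zb6) (kb xb29 yb16 zb11) (kb xb28 yb45 zb34) (kb xb23 yb10 zb2) (kb xb22 yb54 zb7) (kb xb25 yb56 zb48) (kb xb30 yb49 zb10) (kb xb20 yb49 zb44) (kb xb30 yb33 zb4) (kb xb30 yb33 zb5) (kb xb29 yb30 zb50) (kb xb31 yb6 zb44) (kb xb14 yb17 zb22) (kb xb14 yb17 zb20) (kb xb23 yb20 zb23) (kb xb31 yb16 zb56) (kb xb18 yb11 zb19) (kb xb31 yb16 zb58) (kb xb30 yb34 zb58) (kb xb14 yb17 zb25) (kb xb14 yb26 zb27)) (@D3.rec (fun _ => Pt) (kb xb25 yb54 zb34) (kb xb29 yb20 zb2) (kb xb25 yb58 zb58) (kb xb30 yb34 zb54) (kb xb30 yb34 zb55) (kb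 xb28 yb35 zb29) (kb xb31 yb17 zb1) (kb xb14 yb17 zb34) (kb xb28 yb53 zb23) (kb xb28 yb53 zb24) (kb xb22 yb7 zb27) (kb xb30 yb46 zb31) (kb xb15 yb52 zb1) (kb xb22 yb53 zb25) (kb xb29 yb31 zb6) (kb xb22 yb30 zb60) (kb xb14 yb17 zb37) (kb xb21 yb54 zb18) (kb xb14 yb17 zb38) (kb xb22 yb33 zb13) (kb xb27 yb14 zb41) (kb xb20 yb40 zb61) (kb xb14 yb27 zb1) (kb xb18 yb57 zb55) (kb xb21 yb45 zb8) (kb xb20 yb41 zb3) (kb xb19 yb4 zb26) (kb xb14 yb52 zb35) (kb xb14 yb17 zb50) (kb xb14 yb17 zb51) (kb xb20 yb46 zb5) (kb xb31 yb17 zb7) (kb xb31 yb17 zb6) (kb xb21 yb45 zb7) (kb xb14 yb24 zb1) (kb xb18 yb37 zb49) (kb xb14 yb17 zb53) (kb xb14 yb17 zb54) (kb xb22 yb1 zb53) (kb xb29 yb46 zb30) (kb xb31 yb17 zb9) (kb xb18 yb57 zb45) (kb xb14 yb17 zb55) (kb xb28 yb59 zb8) (kb xb31 yb17 zb11)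 (kb xb14 yb17 zb59) (kb xb24 yb11 zb42) (kb xb14 yb17 zb61) (kb xb19 yb28 zb25) (kb xb28 yb53 zb14) (kb xb31 yb17 zb16) (kb xb14 yb25 zb2) (kb xb24 yb11 zb48) (kb xb14 yb18 zb1) (kb xb20 yb28 zb35) (kb xb31 yb17 zb20) (kb xb30 yb28 zb41) (kb xb14 yb18 zb4) (kb xb14 yb18 zb3) (kb xb28 yb57 zb58) (kb xb28 yb42 zb2) (kb xb31 yb17 zb23)) (@D3.rec (fun _ => Pt) (kb xb31 yb17 zb22) (kb xb31 yb17 zb24) (kb xb22 yb20 zb4) (kb xb14 yb18 zb8) (kb xb25 yb55 zb6) (kb xb29 yb54 zb44) (kb xb14 yb18 zb9) (kb xb21 yb9 zb52) (kb xb14 yb26 zb42) (kb xb14 yb18 zb11) (kb xb14 yb18 zb12) (kb xb23 yb53 zb5) (kb xb30 yb33 zb47) (kb xb31 yb17 zb27) (kb xb26 yb7 zb1) (kb xb28 yb1 zb22) (kb xb29 yb14 zb50) (kb xb24 yb17 zb0) (kb xb15 yb34 zb40) (kb xb19 yb24 zb47) (kb xb23 yb57 zb46) (kb xb14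 yb27 zb16) (kb xb15 yb54 zb11) (kb xb28 yb52 zb35) (kb xb21 yb15 zb58) (kb xb26 yb49 zb5) (kb xb30 yb53 zb1) (kb xb25 yb59 zb44) (kb xb14 yb18 zb28) (kb xb22 yb58 zb1) (kb xb28 yb47 zb18) (kb xb14 yb18 zb32) (kb xb14 yb49 zb19) (kb xb27 yb43 zb57) (kb xb30 yb56 zb45) (kb xb15 yb22 zb33) (kb xb31 yb17 zb35) (kb xb30 yb56 zb47) (kb xb25 yb14 zb29) (kb xb24 yb57 zb43) (kb xb29 yb58 zb56) (kb xb22 yb23 zb10) (kb xb14 yb18 zb47) (kb xb31 yb17 zb40) (kb xb31 yb17 zb39) (kb xb17 yb23 zb20) (kb xb14 yb18 zb50) (kb xb28 yb46 zb12) (kb xb14 yb18 zb51) (kb xb30 yb7 zb48) (kb xb19 yb36 zb16) (kb xb27 yb42 zb36) (kb xb14 yb18 zb59) (kb xb14 yb45 zb39) (kb xb31 yb17 zb42) (kb xb29 yb24 zb25) (kb xb14 yb19 zb17) (kb xb14 yb29 zb28) (kb xb29 yb42 zb3) (kb xb25 yb47 zb36) (kb xb14 yb19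 zb7) (kb xb14 yb45 zb43)) (@D3.rec (fun _ => Pt) (kb xb14 yb45 zb44) (kb xb17 yb1 zb40) (kb xb20 yb20 zb7) (kb xb29 yb42 zb9) (kb xb30 yb6 zb60) (kb xb17 yb1 zb17) (kb xb26 yb26 zb61) (kb xb25 yb25 zb10) (kb xb20 yb40 zb32) (kb xb14 yb19 zb12) (kb xb14 yb19 zb13) (kb xb30 yb51 zb22) (kb xb31 yb7 zb37) (kb xb29 yb51 zb61) (kb xb21 yb5 zb36) (kb xb14 yb19 zb15) (kb xb29 yb54 zb61) (kb xb31 yb17 zb48) (kb xb23 yb57 zb48) (kb xb14 yb22 zb20) (kb xb14 yb19 zb30) (kb xb14 yb41 zb18) (kb xb31 yb17 zb53) (kb xb19 yb30 zb60) (kb xb14 yb41 zb35) (kb xb24 yb39 zb13) (kb xb31 yb17 zb55) (kb xb17 yb22 zb49) (kb xb29 yb27 zb48) (kb xb14 yb32 zb32) (kb xb19 yb13 zb23) (kb xb14 yb19 zb33) (kb xb31 yb17 zb58) (kb xb29 yb55 zb45) (kb xb14 yb32 zb11) (kb xb14 yb19 zb45) (kb xb14 yb19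 zb46) (kb xb22 yb22 zb24) (kb xb14 yb30 zb49) (kb xb14 yb21 zb16) (kb xb20 yb37 zb19) (kb xb14 yb30 zb51) (kb xb14 yb19 zb49) (kb xb14 yb23 zb16) (kb xb19 yb28 zb37) (kb xb30 yb45 zb14) (kb xb23 yb56 zb20) (kb xb23 yb53 zb9) (kb xb23 yb57 zb18) (kb xb19 yb9 zb24) (kb xb31 yb18 zb3) (kb xb14 yb19 zb48) (kb xb30 yb26 zb44) (kb xb26 yb43 zb41) (kb xb14 yb19 zb52) (kb xb29 yb8 zb23) (kb xb27 yb2 zb18) (kb xb14 yb19 zb57) (kb xb14 yb42 zb40) (kb xb14 yb19 zb59) (kb xb14 yb19 zb60) (kb xb31 yb18 zb6)) (@D3.rec (fun _ => Pt) (kb xb20 yb0 zb3) (kb xb14 yb20 zb6) (kb xb14 yb20 zb7) (kb xb14 yb32 zb61) (kb xb25 yb23 zb61) (kb xb14 yb20 zb9) (kb xb27 yb9 zb46) (kb xb29 yb38 zb54) (kb xb14 yb20 zb17) (kb xb27 yb8 zb1) (kb xb29 yb0 zb59) (kb xb14 yb20 zb21) (kb xb31 yb18 zb10) (kb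 xb14 yb20 zb23) (kb xb14 yb21 zb23) (kb xb19 yb52 zb12) (kb xb20 yb51 zb2) (kb xb14 yb21 zb25) (kb xb14 yb34 zb6) (kb xb19 yb47 zb18) (kb xb22 yb15 zb4) (kb xb14 yb20 zb31) (kb xb14 yb20 zb32) (kb xb14 yb21 zb14) (kb xb14 yb56 zb47) (kb xb31 yb18 zb1) (kb xb16 yb58 zb38) (kb xb14 yb20 zb39) (kb xb28 yb13 zb9) (kb xb31 yb10 zb47) (kb xb28 yb48 zb7) (kb xb14 yb20 zb42) (kb xb14 yb20 zb41) (kb xb14 yb21 zb34) (kb xb14 yb34 zb30) (kb xb29 yb8 zb33) (kb xb19 yb12 zb24) (kb xb28 yb48 zb5) (kb xb16 yb58 zb3) (kb xb17 yb20 zb5) (kb xb17 yb53 zb0) (kb xb24 yb38 zb14) (kb xb19 yb54 zb0) (kb xb30 yb21 zb48) (kb xb28 yb13 zb54) (kb xb18 yb59 zb24) (kb xb29 yb30 zb22) (kb xb29 yb40 zb37) (kb xb14 yb20 zb57) (kb xb14 yb40 zb21) (kb xb14 yb45 zb57) (kb xb14 yb52 zb36) (kb xb14 yb20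 zb59) (kb xb24 yb37 zb53) (kb xb30 yb8 zb25) (kb xb28 yb50 zb6) (kb xb19 yb28 zb11) (kb xb21 yb53 zb19) (kb xb15 yb18 zb54) (kb xb23 yb33 zb25) (kb xb19 yb53 zb60) (kb xb29 yb50 zb16)) (@D3.rec (fun _ => Pt) (kb xb30 yb20 zb7) (kb xb14 yb21 zb7) (kb xb14 yb21 zb6) (kb xb31 yb18 zb23) (kb xb29 yb7 zb40) (kb xb26 yb51 zb13) (kb xb14 yb21 zb8) (kb xb28 yb43 zb60) (kb xb31 yb18 zb24) (kb xb14 yb21 zb9) (kb xb26 yb41 zb18) (kb xb24 yb35 zb42) (kb xb19 yb56 zb38) (kb xb14 yb37 zb41) (kb xb14 yb21 zb11) (kb xb14 yb21 zb12) (kb xb29 yb47 zb40) (kb xb31 yb18 zb27) (kb xb25 yb37 zb45) (kb xb20 yb54 zb51) (kb xb14 yb21 zb20) (kb xb16 yb47 zb61) (kb xb14 yb21 zb29) (kb xb29 yb5 zb51) (kb xb14 yb21 zb36) (kb xb14 yb21 zb33) (kb xb31 yb18 zb29) (kb xb31 yb18 zb30) (kb xb23 yb27 zb5)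 (kb xb18 yb1 zb3) (kb xb16 yb50 zb32) (kb xb29 yb8 zb49) (kb xb14 yb21 zb35) (kb xb31 yb18 zb31) (kb xb14 yb39 zb48) (kb xb29 yb48 zb5) (kb xb24 yb47 zb17) (kb xb18 yb39 zb54) (kb xb27 yb18 zb59) (kb xb14 yb21 zb40) (kb xb30 yb41 zb34) (kb xb31 yb18 zb36) (kb xb19 yb3 zb57) (kb xb19 yb12 zb53) (kb xb14 yb41 zb30) (kb xb15 yb27 zb43) (kb xb24 yb22 zb61) (kb xb14 yb21 zb50) (kb xb26 yb55 zb54) (kb xb24 yb11 zb30) (kb xb31 yb18 zb40) (kb xb21 yb32 zb29) (kb xb21 yb32 zb32) (kb xb14 yb30 zb4) (kb xb25 yb48 zb1) (kb xb14 yb21 zb56) (kb xb31 yb15 zb60) (kb xb31 yb18 zb47) (kb xb14 yb53 zb13) (kb xb24 yb22 zb23) (kb xb14 yb21 zb59) (kb xb31 yb18 zb52))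
def f_b_24 : D2 → D3 → Pt := @D2.rec (fun _ => D3 → Pt) (@D3.rec (fun _ => Pt) (kb xb31 yb18 zb42) (kb xb31 yb18 zb51) (kb xb14 yb42 zb9) (kb xb24 yb22 zb27) (kb xb14 yb21 zb61) (kb xb19 yb28 zb23) (kb xb31 yb18 zb58) (kb xb19 yb5 zb58) (kb xb14 yb42 zb20) (kb xb14 yb22 zb1) (kb xb14 yb22 zb2) (kb xb29 yb35 zb52) (kb xb14 yb22 zb3) (kb xb29 yb53 zb27) (kb xb31 yb18 zb59) (kb xb16 yb36 zb31) (kb xb16 yb41 zb36) (kb xb19 yb9 zb42) (kb xb31 yb19 zb1) (kb xb16 yb40 zb14) (kb xb14 yb22 zb12) (kb xb29 yb25 zb55) (kb xb14 yb46 zb44) (kb xb24 yb35 zb23) (kb xb14 yb22 zb15) (kb xb31 yb7 zb53) (kb xb19 yb9 zb35) (kb xb19 yb20 zb50) (kb xb19 yb4 zb54) (kb xb14 yb34 zb13) (kb xb20 yb56 zb6) (kb xb31 yb7 zb31) (kb xb29 yb33 zb27) (kb xb14 yb22 zb24) (kb xb31 yb19 zb14) (kb xb23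 yb6 zb2) (kb xb30 yb36 zb8) (kb xb14 yb31 zb44) (kb xb23 yb10 zb25) (kb xb29 yb30 zb27) (kb xb29 yb34 zb53) (kb xb29 yb37 zb19) (kb xb28 yb50 zb26) (kb xb14 yb31 zb55) (kb xb14 yb22 zb36) (kb xb22 yb10 zb52) (kb xb15 yb36 zb13) (kb xb31 yb19 zb16) (kb xb24 yb13 zb57) (kb xb21 yb39 zb55) (kb xb29 yb15 zb25) (kb xb27 yb21 zb1) (kb xb24 yb31 zb61) (kb xb22 yb26 zb11) (kb xb23 yb45 zb39) (kb xb22 yb26 zb14) (kb xb20 yb56 zb58) (kb xb21 yb13 zb44) (kb xb22 yb19 zb44) (kb xb31 yb19 zb24) (kb xb30 yb25 zb19) (kb xb23 yb48 zb52)) (@D3.rec (fun _ => Pt) (kb xb31 yb1 zb51) (kb xb14 yb22 zb51) (kb xb31 yb19 zb33) (kb xb31 yb19 zb32) (kb xb28 yb51 zb13) (kb xb14 yb22 zb53) (kb xb14 yb22 zb59) (kb xb20 yb48 zb9) (kb xb14 yb22 zb56) (kb xb29 yb46 zb33) (kb xb22 yb23 zb47) (kb xb26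 yb51 zb37) (kb xb29 yb39 zb50) (kb xb17 yb24 zb46) (kb xb14 yb22 zb58) (kb xb29 yb24 zb24) (kb xb31 yb19 zb38) (kb xb27 yb17 zb11) (kb xb31 yb19 zb39) (kb xb31 yb9 zb52) (kb xb14 yb52 zb58) (kb xb27 yb38 zb16) (kb xb22 yb19 zb55) (kb xb15 yb28 zb10) (kb xb19 yb58 zb25) (kb xb26 yb53 zb32) (kb xb14 yb23 zb3) (kb xb21 yb36 zb55) (kb xb17 yb4 zb3) (kb xb20 yb24 zb13) (kb xb22 yb21 zb19) (kb xb31 yb19 zb44) (kb xb30 yb39 zb14) (kb xb31 yb19 zb47) (kb xb28 yb18 zb12) (kb xb14 yb23 zb13) (kb xb25 yb20 zb37) (kb xb14 yb24 zb45) (kb xb14 yb46 zb4) (kb xb17 yb35 zb60) (kb xb22 yb53 zb1) (kb xb14 yb30 zb56) (kb xb22 yb21 zb56) (kb xb14 yb24 zb25) (kb xb14 yb23 zb25) (kb xb22 yb21 zb59) (kb xb14 yb23 zb26) (kb xb14 yb23 zb27) (kb xb30 yb26 zb12) (kb xb27 yb46 zb35) (kb xb31 yb19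 zb52) (kb xb23 yb47 zb14) (kb xb17 yb17 zb3) (kb xb22 yb21 zb27) (kb xb20 yb40 zb44) (kb xb17 yb18 zb40) (kb xb17 yb18 zb41) (kb xb30 yb23 zb34) (kb xb29 yb38 zb29) (kb xb17 yb18 zb43) (kb xb30 yb11 zb1) (kb xb26 yb6 zb14)) (@D3.rec (fun _ => Pt) (kb xb14 yb23 zb42) (kb xb14 yb23 zb35) (kb xb14 yb23 zb36) (kb xb26 yb49 zb25) (kb xb22 yb25 zb47) (kb xb28 yb16 zb31) (kb xb17 yb17 zb31) (kb xb14 yb23 zb39) (kb xb27 yb13 zb25) (kb xb31 yb20 zb8) (kb xb27 yb2 zb25) (kb xb17 yb17 zb36) (kb xb14 yb23 zb41) (kb xb26 yb6 zb6) (kb xb31 yb20 zb11) (kb xb31 yb20 zb6) (kb xb15 yb30 zb30) (kb xb17 yb6 zb38) (kb xb20 yb33 zb21) (kb xb25 yb18 zb45) (kb xb28 yb1 zb42) (kb xb22 yb21 zb29) (kb xb17 yb21 zb9) (kb xb31 yb20 zb16) (kb xb31 yb20 zb18) (kb xb14 yb23 zb59) (kb xb20 yb51 zb44)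 (kb xb14 yb23 zb54) (kb xb27 yb0 zb58) (kb xb24 yb37 zb34) (kb xb16 yb42 zb13) (kb xb14 yb23 zb56) (kb xb20 yb4 zb56) (kb xb22 yb5 zb37) (kb xb15 yb38 zb24) (kb xb29 yb5 zb24) (kb xb14 yb23 zb58) (kb xb31 yb20 zb27) (kb xb31 yb20 zb28) (kb xb31 yb20 zb22) (kb xb20 yb27 zb20) (kb xb21 yb35 zb55) (kb xb31 yb17 zb8) (kb xb29 yb30 zb41) (kb xb19 yb58 zb38) (kb xb17 yb31 zb23) (kb xb28 yb47 zb27) (kb xb31 yb20 zb36) (kb xb14 yb24 zb9) (kb xb20 yb17 zb15) (kb xb16 yb58 zb14) (kb xb14 yb24 zb11) (kb xb14 yb24 zb12) (kb xb16 yb8 zb18) (kb xb16 yb14 zb14) (kb xb29 yb9 zb4) (kb xb24 yb32 zb47) (kb xb22 yb3 zb13) (kb xb14 yb24 zb8) (kb xb31 yb20 zb45) (kb xb25 yb56 zb45) (kb xb31 yb20 zb40)) (@D3.rec (fun _ => Pt) (kb xb31 yb20 zb41) (kb xb22 yb24 zb36) (kb xb30 yb31 zb10) (kb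 xb14 yb24 zb14) (kb xb29 yb44 zb30) (kb xb29 yb47 zb10) (kb xb31 yb20 zb47) (kb xb14 yb24 zb18) (kb xb14 yb24 zb17) (kb xb31 yb20 zb51) (kb xb31 yb20 zb50) (kb xb14 yb24 zb19) (kb xb14 yb51 zb15) (kb xb14 yb24 zb20) (kb xb25 yb13 zb50) (kb xb25 yb46 zb11) (kb xb31 yb20 zb55) (kb xb24 yb20 zb21) (kb xb31 yb20 zb57) (kb xb23 yb5 zb1) (kb xb31 yb20 zb59) (kb xb20 yb57 zb36) (kb xb22 yb21 zb33) (kb xb31 yb21 zb0) (kb xb14 yb24 zb26) (kb xb24 yb35 zb12) (kb xb31 yb21 zb2) (kb xb14 yb24 zb27) (kb xb31 yb21 zb5) (kb xb25 yb8 zb54) (kb xb19 yb21 zb57) (kb xb29 yb1 zb24) (kb xb14 yb24 zb36) (kb xb15 yb31 zb27) (kb xb14 yb24 zb34) (kb xb15 yb53 zb57) (kb xb25 yb5 zb7) (kb xb31 yb21 zb9) (kb xb28 yb58 zb3) (kb xb20 yb50 zb5) (kb xb23 yb24 zb10) (kb xb20 yb42 zb9) (kb xb14 yb47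 zb18) (kb xb28 yb37 zb9) (kb xb30 yb48 zb38) (kb xb14 yb24 zb41) (kb xb25 yb17 zb44) (kb xb14 yb45 zb54) (kb xb20 yb53 zb33) (kb xb14 yb48 zb43) (kb xb31 yb21 zb18) (kb xb21 yb0 zb47) (kb xb18 yb2 zb19) (kb xb29 yb27 zb15) (kb xb14 yb24 zb46) (kb xb31 yb21 zb25) (kb xb31 yb21 zb26) (kb xb22 yb21 zb61) (kb xb29 yb2 zb13) (kb xb14 yb24 zb53) (kb xb14 yb24 zb54) (kb xb29 yb48 zb31)) (@D3.rec (fun _ => Pt) (kb xb29 yb23 zb49) (kb xb25 yb55 zb34) (kb xb14 yb24 zb50) (kb xb30 yb6 zb25) (kb xb20 yb3 zb37) (kb xb31 yb21 zb39) (kb xb14 yb24 zb52) (kb xb15 yb56 zb15) (kb xb28 yb53 zb28) (kb xb31 yb21 zb37) (kb xb14 yb24 zb55) (kb xb20 yb39 zb30) (kb xb22 yb21 zb36) (kb xb16 yb13 zb37) (kb xb14 yb24 zb57) (kb xb31 yb21 zb48) (kb xb31 yb21 zb49) (kb xb27 yb8 zb8) (kb xb24 yb19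 zb28) (kb xb14 yb25 zb1) (kb xb26 yb41 zb42) (kb xb24 yb11 zb41) (kb xb14 yb24 zb60) (kb xb25 yb49 zb56) (kb xb31 yb21 zb56) (kb xb19 yb31 zb7) (kb xb31 yb21 zb55) (kb xb27 yb10 zb47) (kb xb19 yb16 zb29) (kb xb29 yb14 zb17) (kb xb31 yb17 zb17) (kb xb26 yb54 zb38) (kb xb14 yb25 zb3) (kb xb31 yb22 zb0) (kb xb31 yb22 zb1) (kb xb22 yb22 zb4) (kb xb28 yb47 zb45) (kb xb14 yb25 zb9) (kb xb17 yb58 zb61) (kb xb24 yb11 zb47) (kb xb14 yb25 zb6) (kb xb28 yb58 zb12) (kb xb14 yb34 zb38) (kb xb31 yb9 zb43) (kb xb31 yb9 zb50) (kb xb25 yb51 zb27) (kb xb26 yb56 zb49) (kb xb15 yb56 zb35) (kb xb26 yb49 zb41) (kb xb31 yb17 zb43) (kb xb29 yb53 zb30) (kb xb14 yb25 zb12) (kb xb29 yb40 zb35) (kb xb14 yb25 zb21) (kb xb14 yb25 zb16) (kb xb14 yb25 zb15) (kb xb31 yb22 zb12) (kb xb20 yb17 zb11)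 (kb xb25 yb51 zb56) (kb xb28 yb19 zb46) (kb xb16 yb26 zb36) (kb xb20 yb20 zb43)) (@D3.rec (fun _ => Pt) (kb xb14 yb25 zb18) (kb xb22 yb6 zb23) (kb xb19 yb20 zb1) (kb xb14 yb25 zb19) (kb xb31 yb22 zb13) (kb xb19 yb44 zb12) (kb xb15 yb19 zb42) (kb xb22 yb41 zb17) (kb xb14 yb25 zb23) (kb xb22 yb41 zb10) (kb xb20 yb50 zb0) (kb xb22 yb55 zb19) (kb xb30 yb17 zb11) (kb xb21 yb50 zb59) (kb xb14 yb25 zb26) (kb xb29 yb17 zb1) (kb xb31 yb22 zb15) (kb xb25 yb52 zb12) (kb xb14 yb25 zb27) (kb xb31 yb22 zb18) (kb xb30 yb19 zb26) (kb xb31 yb22 zb19) (kb xb31 yb13 zb29) (kb xb23 yb13 zb21) (kb xb14 yb25 zb30) (kb xb31 yb22 zb21) (kb xb15 yb8 zb21) (kb xb23 yb11 zb55) (kb xb23 yb46 zb43) (kb xb24 yb57 zb11) (kb xb20 yb30 zb16) (kb xb14 yb25 zb39) (kb xb29 yb39 zb48) (kb xb23 yb19 zb1)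 (kb xb29 yb19 zb14) (kb xb14 yb25 zb41) (kb xb31 yb22 zb24) (kb xb14 yb25 zb42) (kb xb26 yb42 zb13) (kb xb27 yb14 zb53) (kb xb29 yb24 zb7) (kb xb29 yb37 zb45) (kb xb15 yb32 zb51) (kb xb26 yb42 zb14) (kb xb19 yb56 zb40) (kb xb30 yb22 zb54) (kb xb31 yb22 zb26) (kb xb27 yb18 zb58) (kb xb24 yb53 zb29) (kb xb25 yb20 zb34) (kb xb22 yb17 zb40) (kb xb28 yb13 zb39) (kb xb30 yb14 zb50) (kb xb30 yb20 zb23) (kb xb14 yb25 zb56) (kb xb20 yb48 zb46) (kb xb22 yb19 zb42) (kb xb17 yb12 zb10) (kb xb22 yb37 zb10) (kb xb14 yb52 zb48) (kb xb18 yb57 zb19) (kb xb14 yb26 zb2)) (@D3.rec (fun _ => Pt) (kb xb30 yb49 zb32) (kb xb26 yb22 zb18) (kb xb14 yb52 zb55) (kb xb31 yb22 zb36) (kb xb22 yb49 zb13) (kb xb14 yb26 zb5) (kb xb31 yb22 zb40) (kb xb14 yb29 zb53) (kb xb17 yb18 zb15) (kb xb20 yb41 zb58)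 (kb xb17 yb10 zb52) (kb xb28 yb24 zb2) (kb xb29 yb29 zb25) (kb xb14 yb26 zb16) (kb xb27 yb2 zb3) (kb xb18 yb57 zb37) (kb xb18 yb57 zb38) (kb xb14 yb26 zb51) (kb xb31 yb13 zb17) (kb xb20 yb40 zb42) (kb xb14 yb26 zb20) (kb xb30 yb53 zb53) (kb xb22 yb20 zb28) (kb xb15 yb26 zb49) (kb xb14 yb35 zb25) (kb xb14 yb27 zb27) (kb xb14 yb27 zb31) (kb xb28 yb35 zb36) (kb xb22 yb49 zb31) (kb xb14 yb26 zb28) (kb xb31 yb22 zb50) (kb xb19 yb41 zb53) (kb xb31 yb22 zb53) (kb xb24 yb57 zb12) (kb xb30 yb56 zb61) (kb xb14 yb27 zb24) (kb xb23 yb0 zb19) (kb xb14 yb26 zb29) (kb xb29 yb48 zb24) (kb xb14 yb27 zb36) (kb xb17 yb18 zb50) (kb xb22 yb20 zb46) (kb xb14 yb26 zb33) (kb xb14 yb26 zb34) (kb xb31 yb22 zb57) (kb xb22 yb58 zb14) (kb xb25 yb59 zb24) (kb xb14 yb27 zb44) (kb xb24 yb25 zb6) (kb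 xb30 yb45 zb34) (kb xb21 yb14 zb12) (kb xb14 yb26 zb38) (kb xb31 yb23 zb4) (kb xb30 yb36 zb11) (kb xb30 yb26 zb43) (kb xb31 yb0 zb21) (kb xb14 yb26 zb40) (kb xb14 yb26 zb41) (kb xb31 yb23 zb10) (kb xb31 yb23 zb11) (kb xb30 yb23 zb41) (kb xb26 yb53 zb57)) (@D3.rec (fun _ => Pt) (kb xb31 yb23 zb9) (kb xb31 yb17 zb25) (kb xb31 yb17 zb26) (kb xb14 yb26 zb50) (kb xb20 yb41 zb23) (kb xb27 yb11 zb13) (kb xb14 yb26 zb52) (kb xb22 yb2 zb44) (kb xb27 yb29 zb39) (kb xb25 yb49 zb0) (kb xb17 yb45 zb13) (kb xb24 yb33 zb14) (kb xb19 yb26 zb0) (kb xb17 yb26 zb44) (kb xb29 yb26 zb3) (kb xb25 yb26 zb17) (kb xb14 yb26 zb49) (kb xb29 yb49 zb17) (kb xb28 yb34 zb46) (kb xb21 yb35 zb49) (kb xb27 yb21 zb24) (kb xb17 yb3 zb27) (kb xb17 yb3 zb28) (kb xb14 yb26 zb55) (kb xb17 yb59 zb11) (kb xb17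 yb20 zb58) (kb xb27 yb55 zb55) (kb xb23 yb21 zb34) (kb xb14 yb27 zb0) (kb xb14 yb27 zb2) (kb xb14 yb27 zb3) (kb xb14 yb26 zb59) (kb xb16 yb1 zb18) (kb xb17 yb39 zb60) (kb xb14 yb26 zb61) (kb xb22 yb53 zb33) (kb xb27 yb24 zb13) (kb xb16 yb29 zb9) (kb xb14 yb27 zb6) (kb xb14 yb27 zb5) (kb xb26 yb20 zb32) (kb xb27 yb10 zb18) (kb xb31 yb22 zb46) (kb xb19 yb12 zb33) (kb xb18 yb59 zb41) (kb xb28 yb20 zb31) (kb xb29 yb31 zb7) (kb xb19 yb24 zb34) (kb xb15 yb40 zb49) (kb xb14 yb27 zb11) (kb xb24 yb17 zb1) (kb xb15 yb40 zb50) (kb xb19 yb24 zb46) (kb xb14 yb27 zb13) (kb xb14 yb27 zb14) (kb xb28 yb34 zb29) (kb xb17 yb36 zb0) (kb xb27 yb21 zb50) (kb xb29 yb31 zb5) (kb xb22 yb14 zb31) (kb xb19 yb45 zb19) (kb xb28 yb36 zb34)) (@D3.rec (fun _ => Pt) (kb xb14 yb27 zb25) (kb xb14 yb27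 zb20) (kb xb31 yb23 zb31) (kb xb14 yb27 zb21) (kb xb15 yb38 zb49) (kb xb15 yb46 zb40) (kb xb19 yb57 zb24) (kb xb20 yb29 zb41) (kb xb14 yb27 zb23) (kb xb15 yb40 zb37) (kb xb19 yb30 zb47) (kb xb16 yb46 zb32) (kb xb21 yb14 zb43) (kb xb28 yb53 zb15) (kb xb20 yb34 zb51) (kb xb31 yb22 zb48) (kb xb29 yb54 zb47) (kb xb26 yb22 zb8) (kb xb14 yb27 zb38) (kb xb14 yb27 zb33) (kb xb24 yb16 zb19) (kb xb29 yb49 zb20) (kb xb30 yb48 zb11) (kb xb21 yb15 zb59) (kb xb28 yb53 zb10) (kb xb22 yb20 zb51) (kb xb14 yb27 zb45) (kb xb14 yb27 zb46) (kb xb27 yb53 zb7) (kb xb30 yb6 zb2) (kb xb15 yb53 zb19) (kb xb14 yb27 zb43) (kb xb28 yb52 zb37) (kb xb29 yb42 zb19) (kb xb30 yb30 zb1) (kb xb28 yb23 zb54) (kb xb31 yb22 zb59) (kb xb30 yb48 zb59) (kb xb28 yb47 zb19) (kb xb28 yb15 zb5) (kb xb22 yb16 zb58)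 (kb xb29 yb32 zb23) (kb xb28 yb53 zb36) (kb xb14 yb27 zb54) (kb xb25 yb35 zb49) (kb xb16 yb29 zb6) (kb xb14 yb27 zb57) (kb xb14 yb27 zb58) (kb xb25 yb35 zb53) (kb xb20 yb44 zb1) (kb xb14 yb27 zb59) (kb xb27 yb41 zb60) (kb xb30 yb26 zb50) (kb xb22 yb54 zb44) (kb xb16 yb29 zb4) (kb xb14 yb28 zb1) (kb xb14 yb28 zb2) (kb xb16 yb26 zb57) (kb xb28 yb29 zb4) (kb xb15 yb15 zb50) (kb xb28 yb0 zb10) (kb xb20 yb36 zb48)) (@D3.rec (fun _ => Pt) (kb xb14 yb28 zb5) (kb xb24 yb30 zb22) (kb xb28 yb56 zb5) (kb xb29 yb33 zb13) (kb xb29 yb42 zb32) (kb xb22 yb26 zb18) (kb xb23 yb1 zb27) (kb xb20 yb52 zb13) (kb xb21 yb16 zb2) (kb xb14 yb28 zb10) (kb xb14 yb28 zb8) (kb xb31 yb23 zb46) (kb xb31 yb23 zb45) (kb xb14 yb28 zb9) (kb xb19 yb31 zb27) (kb xb26 yb56 zb8) (kb xb16 yb28 zb48) (kb xb24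 yb35 zb3) (kb xb27 yb2 zb56) (kb xb14 yb28 zb14) (kb xb25 yb18 zb41) (kb xb29 yb0 zb40) (kb xb27 yb41 zb42) (kb xb28 yb51 zb44) (kb xb20 yb35 zb1) (kb xb30 yb52 zb51) (kb xb18 yb59 zb18) (kb xb21 yb12 zb6) (kb xb26 yb49 zb57) (kb xb19 yb34 zb37) (kb xb19 yb31 zb3) (kb xb28 yb50 zb58) (kb xb29 yb40 zb0) (kb xb23 yb18 zb30) (kb xb14 yb28 zb34) (kb xb14 yb28 zb35) (kb xb14 yb28 zb32) (kb xb14 yb31 zb47) (kb xb20 yb1 zb2) (kb xb20 yb1 zb5) (kb xb26 yb24 zb46) (kb xb25 yb18 zb24) (kb xb28 yb26 zb29) (kb xb18 yb22 zb5) (kb xb20 yb18 zb27) (kb xb15 yb44 zb13) (kb xb14 yb46 zb21) (kb xb14 yb46 zb22) (kb xb14 yb46 zb14) (kb xb14 yb46 zb24) (kb xb14 yb46 zb15) (kb xb27 yb21 zb9) (kb xb29 yb33 zb34) (kb xb17 yb17 zb55) (kb xb31 yb23 zb52) (kb xb29 yb47 zb18) (kb xb22 yb36 zb6)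 (kb xb31 yb12 zb42) (kb xb15 yb55 zb22) (kb xb14 yb28 zb49) (kb xb31 yb23 zb55) (kb xb30 yb28 zb5)) (@D3.rec (fun _ => Pt) (kb xb22 yb24 zb29) (kb xb14 yb28 zb56) (kb xb30 yb12 zb24) (kb xb17 yb55 zb38) (kb xb14 yb54 zb13) (kb xb27 yb11 zb60) (kb xb17 yb22 zb31) (kb xb14 yb45 zb41) (kb xb14 yb47 zb4) (kb xb30 yb49 zb7) (kb xb14 yb38 zb22) (kb xb15 yb53 zb27) (kb xb21 yb0 zb52) (kb xb14 yb29 zb7) (kb xb21 yb57 zb49) (kb xb17 yb12 zb23) (kb xb27 yb39 zb12) (kb xb30 yb3 zb4) (kb xb22 yb21 zb16) (kb xb24 yb17 zb35) (kb xb18 yb18 zb31) (kb xb16 yb59 zb14) (kb xb14 yb49 zb24) (kb xb26 yb7 zb0) (kb xb23 yb22 zb42) (kb xb24 yb20 zb19) (kb xb14 yb30 zb2) (kb xb14 yb29 zb21) (kb xb14 yb29 zb22) (kb xb28 yb49 zb10) (kb xb14 yb30 zb9) (kb xb27 yb11 zb42) (kb xb27 yb2 zb46) (kb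 xb14 yb29 zb24) (kb xb24 yb50 zb54) (kb xb14 yb29 zb25) (kb xb28 yb48 zb38) (kb xb30 yb13 zb28) (kb xb20 yb26 zb40) (kb xb14 yb29 zb39) (kb xb29 yb54 zb48) (kb xb14 yb29 zb40) (kb xb14 yb29 zb41) (kb xb24 yb35 zb13) (kb xb14 yb53 zb22) (kb xb22 yb44 zb17) (kb xb14 yb52 zb59) (kb xb28 yb31 zb34) (kb xb31 yb13 zb44) (kb xb31 yb24 zb1) (kb xb29 yb2 zb25) (kb xb31 yb24 zb4) (kb xb14 yb30 zb23) (kb xb24 yb32 zb21) (kb xb14 yb29 zb45) (kb xb28 yb42 zb11) (kb xb28 yb48 zb0) (kb xb16 yb29 zb28) (kb xb28 yb18 zb59) (kb xb27 yb12 zb1) (kb xb30 yb21 zb40) (kb xb31 yb24 zb11)) (@D3.rec (fun _ => Pt) (kb xb14 yb30 zb0) (kb xb29 yb27 zb1) (kb xb26 yb53 zb60) (kb xb23 yb13 zb20) (kb xb14 yb29 zb61) (kb xb26 yb50 zb3) (kb xb26 yb51 zb55) (kb xb26 yb55 zb61) (kb xb14 yb30 zb3) (kb xb14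 yb43 zb21) (kb xb14 yb30 zb7) (kb xb31 yb24 zb18) (kb xb20 yb59 zb37) (kb xb29 yb29 zb49) (kb xb20 yb23 zb14) (kb xb14 yb30 zb14) (kb xb28 yb47 zb35) (kb xb28 yb15 zb12) (kb xb14 yb30 zb15) (kb xb28 yb42 zb3) (kb xb25 yb20 zb12) (kb xb14 yb30 zb16) (kb xb31 yb24 zb25) (kb xb31 yb24 zb26) (kb xb14 yb30 zb18) (kb xb31 yb24 zb28) (kb xb30 yb16 zb38) (kb xb19 yb38 zb39) (kb xb15 yb20 zb23) (kb xb19 yb39 zb12) (kb xb23 yb59 zb49) (kb xb19 yb13 zb47) (kb xb20 yb44 zb47) (kb xb20 yb44 zb48) (kb xb28 yb53 zb55) (kb xb20 yb52 zb58) (kb xb14 yb30 zb24) (kb xb24 yb16 zb6) (kb xb28 yb50 zb59) (kb xb24 yb17 zb51) (kb xb15 yb35 zb1) (kb xb24 yb4 zb21) (kb xb23 yb55 zb46) (kb xb14 yb30 zb26) (kb xb21 yb24 zb6) (kb xb31 yb24 zb36) (kb xb27 yb42 zb37) (kb xb24 yb4 zb39) (kb xb23 yb55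 zb52) (kb xb14 yb30 zb28) (kb xb31 yb24 zb44) (kb xb31 yb24 zb45) (kb xb24 yb16 zb12) (kb xb24 yb16 zb11) (kb xb14 yb30 zb33) (kb xb15 yb34 zb58) (kb xb25 yb32 zb3) (kb xb14 yb30 zb34) (kb xb29 yb7 zb50) (kb xb31 yb24 zb49) (kb xb21 yb47 zb32) (kb xb15 yb55 zb9)) (@D3.rec (fun _ => Pt) (kb xb14 yb30 zb41) (kb xb30 yb11 zb54) (kb xb31 yb24 zb51) (kb xb20 yb44 zb12) (kb xb31 yb24 zb52) (kb xb30 yb50 zb8) (kb xb22 yb25 zb37) (kb xb14 yb30 zb45) (kb xb19 yb38 zb36) (kb xb22 yb55 zb40) (kb xb22 yb22 zb38) (kb xb31 yb24 zb59) (kb xb29 yb27 zb6) (kb xb21 yb14 zb42) (kb xb20 yb35 zb12) (kb xb31 yb23 zb3) (kb xb23 yb53 zb25) (kb xb14 yb30 zb52) (kb xb31 yb25 zb2) (kb xb29 yb24 zb22) (kb xb18 yb44 zb9) (kb xb26 yb43 zb37) (kb xb20 yb3 zb25) (kb xb31 yb25 zb4) (kb xb31 yb19 zb50)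 (kb xb20 yb43 zb44) (kb xb28 yb47 zb53) (kb xb14 yb30 zb58) (kb xb31 yb23 zb14) (kb xb31 yb25 zb6) (kb xb27 yb1 zb56) (kb xb14 yb31 zb0) (kb xb14 yb31 zb1) (kb xb14 yb31 zb32) (kb xb18 yb34 zb48) (kb xb23 yb53 zb37) (kb xb14 yb31 zb35) (kb xb30 yb32 zb0) (kb xb18 yb12 zb39) (kb xb31 yb15 zb54) (kb xb27 yb47 zb50) (kb xb20 yb36 zb41) (kb xb14 yb31 zb6) (kb xb31 yb25 zb12) (kb xb14 yb31 zb51) (kb xb20 yb35 zb59) (kb xb16 yb52 zb18) (kb xb14 yb31 zb11) (kb xb30 yb49 zb11) (kb xb14 yb31 zb10) (kb xb30 yb45 zb32) (kb xb16 yb52 zb17) (kb xb30 yb36 zb19) (kb xb19 yb43 zb38) (kb xb29 yb27 zb8) (kb xb22 yb24 zb5) (kb xb14 yb31 zb16) (kb xb29 yb41 zb56) (kb xb29 yb53 zb7) (kb xb27 yb12 zb11) (kb xb27 yb9 zb35) (kb xb14 yb31 zb19)) (@D3.rec (fun _ => Pt) (kb xb14 yb31 zb20) (kb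 xb14 yb31 zb18) (kb xb30 yb47 zb38) (kb xb31 yb25 zb26) (kb xb31 yb17 zb47) (kb xb31 yb25 zb24) (kb xb31 yb25 zb25) (kb xb14 yb31 zb24) (kb xb14 yb31 zb22) (kb xb30 yb48 zb7) (kb xb31 yb25 zb29) (kb xb14 yb31 zb58) (kb xb22 yb58 zb32) (kb xb20 yb37 zb16) (kb xb14 yb31 zb25) (kb xb31 yb25 zb0) (kb xb14 yb31 zb26) (kb xb22 yb55 zb32) (kb xb31 yb25 zb35) (kb xb16 yb24 zb15) (kb xb31 yb16 zb37) (kb xb31 yb25 zb1) (kb xb14 yb31 zb28) (kb xb14 yb31 zb29) (kb xb31 yb25 zb42) (kb xb22 yb55 zb37) (kb xb28 yb54 zb7) (kb xb31 yb25 zb40) (kb xb29 yb53 zb61) (kb xb31 yb25 zb41) (kb xb26 yb39 zb23) (kb xb27 yb14 zb61) (kb xb28 yb16 zb5) (kb xb23 yb53 zb17) (kb xb14 yb31 zb40) (kb xb17 yb24 zb10) (kb xb30 yb36 zb10) (kb xb31 yb25 zb9) (kb xb29 yb34 zb39) (kb xb19 yb37 zb34) (kb xb14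 yb31 zb46) (kb xb31 yb23 zb49) (kb xb14 yb31 zb48) (kb xb29 yb12 zb33) (kb xb27 yb21 zb27) (kb xb14 yb31 zb50) (kb xb25 yb4 zb35) (kb xb14 yb31 zb52) (kb xb25 yb43 zb13) (kb xb31 yb25 zb51) (kb xb31 yb25 zb52) (kb xb19 yb8 zb37) (kb xb26 yb51 zb48) (kb xb30 yb56 zb44) (kb xb20 yb48 zb35) (kb xb30 yb53 zb55) (kb xb24 yb25 zb58) (kb xb24 yb0 zb48) (kb xb31 yb25 zb54) (kb xb22 yb57 zb39) (kb xb14 yb31 zb60) (kb xb18 yb50 zb5)) (@D3.rec (fun _ => Pt) (kb xb28 yb32 zb33) (kb xb23 yb6 zb61) (kb xb25 yb49 zb23) (kb xb20 yb36 zb60) (kb xb25 yb49 zb25) (kb xb15 yb33 zb12) (kb xb18 yb51 zb24) (kb xb30 yb45 zb52) (kb xb26 yb24 zb41) (kb xb17 yb58 zb40) (kb xb26 yb24 zb39) (kb xb29 yb53 zb21) (kb xb15 yb46 zb56) (kb xb15 yb46 zb57) (kb xb14 yb32 zb5) (kb xb22 yb54 zb18) (kb xb17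 yb57 zb12) (kb xb14 yb32 zb7) (kb xb21 yb14 zb1) (kb xb29 yb8 zb22) (kb xb27 yb10 zb54) (kb xb14 yb34 zb23) (kb xb28 yb42 zb19) (kb xb30 yb53 zb61) (kb xb26 yb55 zb22) (kb xb20 yb51 zb22) (kb xb20 yb23 zb2) (kb xb14 yb32 zb16) (kb xb28 yb49 zb16) (kb xb31 yb22 zb44) (kb xb20 yb23 zb6) (kb xb20 yb29 zb6) (kb xb16 yb37 zb3) (kb xb14 yb32 zb30) (kb xb22 yb22 zb35) (kb xb27 yb0 zb29) (kb xb28 yb30 zb22) (kb xb14 yb32 zb24) (kb xb25 yb18 zb32) (kb xb31 yb26 zb6) (kb xb31 yb26 zb9) (kb xb15 yb4 zb49) (kb xb15 yb4 zb57) (kb xb29 yb31 zb26) (kb xb14 yb32 zb27) (kb xb31 yb26 zb15) (kb xb14 yb32 zb29) (kb xb14 yb32 zb31) (kb xb30 yb5 zb19) (kb xb25 yb48 zb28) (kb xb28 yb42 zb4) (kb xb23 yb53 zb0) (kb xb14 yb32 zb34) (kb xb27 yb37 zb32) (kb xb19 yb53 zb47) (kb xb17 yb28 zb57)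 (kb xb30 yb55 zb19) (kb xb28 yb43 zb3) (kb xb31 yb26 zb23) (kb xb26 yb42 zb15) (kb xb14 yb32 zb38) (kb xb29 yb7 zb29)) (@D3.rec (fun _ => Pt) (kb xb31 yb11 zb16) (kb xb14 yb32 zb40) (kb xb26 yb33 zb50) (kb xb15 yb21 zb14) (kb xb14 yb32 zb42) (kb xb29 yb44 zb32) (kb xb14 yb32 zb46) (kb xb14 yb32 zb45) (kb xb20 yb59 zb0) (kb xb20 yb59 zb29) (kb xb27 yb15 zb38) (kb xb31 yb26 zb29) (kb xb14 yb32 zb49) (kb xb14 yb32 zb48) (kb xb31 yb26 zb36) (kb xb26 yb42 zb33) (kb xb31 yb26 zb33) (kb xb14 yb32 zb50) (kb xb18 yb52 zb25) (kb xb31 yb26 zb38) (kb xb19 yb12 zb1) (kb xb26 yb57 zb52) (kb xb20 yb23 zb36) (kb xb14 yb36 zb61) (kb xb29 yb41 zb2) (kb xb30 yb31 zb52) (kb xb14 yb33 zb3) (kb xb27 yb46 zb26) (kb xb19 yb21 zb5) (kb xb16 yb18 zb16) (kb xb28 yb4 zb9) (kb xb14 yb35 zb15) (kb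 xb15 yb14 zb26) (kb xb14 yb36 zb57) (kb xb18 yb17 zb11) (kb xb15 yb21 zb42) (kb xb14 yb33 zb26) (kb xb14 yb35 zb29) (kb xb30 yb15 zb8) (kb xb14 yb33 zb28) (kb xb14 yb33 zb29) (kb xb14 yb33 zb22) (kb xb26 yb9 zb45) (kb xb14 yb33 zb25) (kb xb29 yb41 zb31) (kb xb21 yb31 zb45) (kb xb14 yb36 zb52) (kb xb31 yb26 zb41) (kb xb31 yb26 zb42) (kb xb31 yb26 zb46) (kb xb28 yb56 zb47) (kb xb14 yb33 zb33) (kb xb26 yb4 zb59) (kb xb14 yb37 zb8) (kb xb15 yb56 zb1) (kb xb19 yb28 zb16) (kb xb17 yb45 zb8) (kb xb21 yb16 zb32) (kb xb29 yb16 zb31) (kb xb14 yb33 zb37) (kb xb14 yb33 zb36) (kb xb28 yb58 zb57)) (@D3.rec (fun _ => Pt) (kb xb29 yb0 zb32) (kb xb14 yb37 zb24) (kb xb25 yb5 zb56) (kb xb14 yb33 zb39) (kb xb19 yb34 zb52) (kb xb31 yb26 zb53) (kb xb24 yb11 zb37) (kb xb31 yb21 zb57) (kb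 xb14 yb33 zb41) (kb xb14 yb33 zb42) (kb xb19 yb34 zb54) (kb xb24 yb11 zb53) (kb xb24 yb11 zb52) (kb xb15 yb16 zb16) (kb xb28 yb16 zb3) (kb xb25 yb11 zb28) (kb xb25 yb18 zb46) (kb xb28 yb19 zb42) (kb xb14 yb33 zb49) (kb xb24 yb8 zb20) (kb xb15 yb21 zb13) (kb xb19 yb47 zb15) (kb xb30 yb16 zb20) (kb xb28 yb33 zb22) (kb xb28 yb49 zb48) (kb xb14 yb33 zb55) (kb xb25 yb9 zb52) (kb xb14 yb33 zb57) (kb xb25 yb24 zb30) (kb xb29 yb17 zb5) (kb xb31 yb27 zb1) (kb xb19 yb45 zb13) (kb xb19 yb45 zb52) (kb xb14 yb33 zb60) (kb xb16 yb46 zb16) (kb xb25 yb49 zb47) (kb xb14 yb38 zb52) (kb xb29 yb7 zb16) (kb xb28 yb15 zb54) (kb xb26 yb59 zb32) (kb xb14 yb38 zb11) (kb xb14 yb38 zb16) (kb xb14 yb34 zb8) (kb xb31 yb27 zb9) (kb xb15 yb21 zb22) (kb xb19 yb44 zb54) (kb xb31 yb27 zb11) (kb xb27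 yb15 zb40) (kb xb25 yb27 zb31) (kb xb14 yb34 zb14) (kb xb30 yb19 zb59) (kb xb21 yb1 zb45) (kb xb19 yb7 zb4) (kb xb14 yb34 zb22) (kb xb29 yb41 zb18) (kb xb20 yb28 zb39) (kb xb28 yb48 zb20) (kb xb14 yb34 zb18) (kb xb14 yb34 zb19) (kb xb31 yb27 zb18) (kb xb15 yb31 zb6) (kb xb29 yb52 zb26)) (@D3.rec (fun _ => Pt) (kb xb23 yb56 zb17) (kb xb24 yb7 zb50) (kb xb22 yb11 zb52) (kb xb25 yb15 zb19) (kb xb14 yb39 zb23) (kb xb14 yb39 zb24) (kb xb31 yb27 zb21) (kb xb31 yb25 zb60) (kb xb14 yb34 zb24) (kb xb31 yb27 zb27) (kb xb28 yb52 zb43) (kb xb31 yb27 zb29) (kb xb19 yb12 zb50) (kb xb14 yb34 zb31) (kb xb15 yb31 zb13) (kb xb30 yb3 zb5) (kb xb31 yb26 zb35) (kb xb14 yb34 zb27) (kb xb22 yb3 zb25) (kb xb25 yb25 zb48) (kb xb29 yb0 zb21) (kb xb14 yb39 zb39) (kb xb22 yb8 zb4) (kb xb29 yb8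 zb48) (kb xb25 yb24 zb18) (kb xb31 yb27 zb37) (kb xb18 yb52 zb28) (kb xb31 yb0 zb33) (kb xb14 yb34 zb36) (kb xb14 yb34 zb37) (kb xb29 yb57 zb3) (kb xb24 yb41 zb17) (kb xb28 yb58 zb14) (kb xb17 yb58 zb13) (kb xb28 yb48 zb13) (kb xb24 yb10 zb19) (kb xb31 yb22 zb7) (kb xb30 yb47 zb30) (kb xb23 yb11 zb24) (kb xb14 yb34 zb39) (kb xb23 yb26 zb26) (kb xb29 yb5 zb22) (kb xb28 yb48 zb29) (kb xb14 yb34 zb43) (kb xb30 yb9 zb56) (kb xb31 yb27 zb50) (kb xb23 yb30 zb15) (kb xb31 yb27 zb55) (kb xb28 yb19 zb28) (kb xb31 yb9 zb38) (kb xb19 yb31 zb5) (kb xb24 yb11 zb39) (kb xb23 yb9 zb19) (kb xb14 yb34 zb45) (kb xb19 yb16 zb3) (kb xb14 yb34 zb46) (kb xb28 yb24 zb18) (kb xb19 yb12 zb44) (kb xb30 yb3 zb24) (kb xb17 yb16 zb46) (kb xb27 yb38 zb50) (kb xb18 yb2 zb8)) (@D3.rec (fun _ => Pt)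 (kb xb27 yb5 zb58) (kb xb27 yb1 zb13) (kb xb21 yb32 zb28) (kb xb18 yb57 zb40) (kb xb25 yb50 zb38) (kb xb24 yb21 zb56) (kb xb14 yb35 zb8) (kb xb14 yb34 zb61) (kb xb18 yb45 zb37) (kb xb21 yb15 zb6) (kb xb27 yb59 zb45) (kb xb24 yb28 zb17) (kb xb23 yb19 zb10) (kb xb20 yb42 zb0) (kb xb31 yb27 zb59) (kb xb23 yb6 zb51) (kb xb19 yb17 zb60) (kb xb27 yb30 zb34) (kb xb14 yb35 zb9) (kb xb28 yb21 zb2) (kb xb14 yb35 zb11) (kb xb18 yb46 zb49) (kb xb14 yb35 zb14) (kb xb25 yb46 zb53) (kb xb25 yb46 zb8) (kb xb14 yb35 zb17) (kb xb24 yb36 zb10) (kb xb31 yb13 zb4) (kb xb24 yb55 zb20) (kb xb22 yb18 zb44) (kb xb18 yb7 zb42) (kb xb17 yb39 zb25) (kb xb23 yb31 zb46) (kb xb18 yb56 zb59) (kb xb20 yb34 zb15) (kb xb23 yb53 zb4) (kb xb25 yb25 zb60) (kb xb14 yb35 zb35) (kb xb26 yb43 zb27) (kb xb14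 yb35 zb28) (kb xb27 yb7 zb21) (kb xb14 yb35 zb30) (kb xb31 yb17 zb28) (kb xb31 yb28 zb3) (kb xb19 yb25 zb61) (kb xb28 yb25 zb11) (kb xb22 yb52 zb27) (kb xb29 yb4 zb44) (kb xb14 yb35 zb34) (kb xb18 yb55 zb41) (kb xb29 yb24 zb20) (kb xb14 yb35 zb36) (kb xb29 yb20 zb15) (kb xb28 yb19 zb30) (kb xb19 yb37 zb33) (kb xb29 yb30 zb17) (kb xb26 yb51 zb59) (kb xb28 yb22 zb14) (kb xb14 yb35 zb44) (kb xb31 yb28 zb4) (kb xb24 yb28 zb43) (kb xb15 yb5 zb12)) (@D3.rec (fun _ => Pt) (kb xb18 yb24 zb10) (kb xb21 yb1 zb3) (kb xb21 yb32 zb16) (kb xb24 yb34 zb8) (kb xb18 yb17 zb14) (kb xb26 yb59 zb20) (kb xb29 yb43 zb35) (kb xb14 yb35 zb59) (kb xb31 yb28 zb15) (kb xb17 yb49 zb12) (kb xb14 yb36 zb8) (kb xb28 yb1 zb2) (kb xb24 yb34 zb5) (kb xb31 yb28 zb17) (kb xb25 yb44 zb41) (kb xb19 yb38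 zb15) (kb xb29 yb13 zb26) (kb xb14 yb36 zb2) (kb xb31 yb28 zb19) (kb xb31 yb28 zb20) (kb xb14 yb36 zb20) (kb xb15 yb56 zb3) (kb xb31 yb28 zb22) (kb xb29 yb8 zb15) (kb xb28 yb42 zb27) (kb xb26 yb44 zb14) (kb xb25 yb15 zb21) (kb xb14 yb36 zb10) (kb xb24 yb4 zb18) (kb xb26 yb57 zb8) (kb xb24 yb28 zb42) (kb xb28 yb46 zb46) (kb xb14 yb36 zb14) (kb xb31 yb28 zb31) (kb xb18 yb56 zb23) (kb xb29 yb2 zb55) (kb xb31 yb28 zb37) (kb xb19 yb31 zb20) (kb xb14 yb36 zb18) (kb xb14 yb36 zb19) (kb xb19 yb15 zb26) (kb xb19 yb4 zb20) (kb xb31 yb28 zb41) (kb xb22 yb7 zb47) (kb xb22 yb7 zb32) (kb xb20 yb27 zb46) (kb xb21 yb3 zb48) (kb xb21 yb22 zb8) (kb xb22 yb8 zb30) (kb xb26 yb54 zb19) (kb xb14 yb36 zb53) (kb xb14 yb36 zb54) (kb xb18 yb23 zb11) (kb xb27 yb7 zb59) (kb xb30 yb22 zb31) (kb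 xb31 yb10 zb7) (kb xb20 yb20 zb40) (kb xb16 yb42 zb17) (kb xb19 yb14 zb38) (kb xb14 yb36 zb40) (kb xb14 yb36 zb41) (kb xb31 yb28 zb47)) (@D3.rec (fun _ => Pt) (kb xb21 yb24 zb10) (kb xb20 yb47 zb5) (kb xb31 yb28 zb46) (kb xb28 yb49 zb33) (kb xb14 yb36 zb47) (kb xb24 yb20 zb6) (kb xb24 yb20 zb5) (kb xb16 yb10 zb19) (kb xb14 yb36 zb49) (kb xb26 yb54 zb56) (kb xb27 yb57 zb15) (kb xb31 yb28 zb49) (kb xb23 yb39 zb21) (kb xb18 yb0 zb59) (kb xb29 yb6 zb12) (kb xb30 yb47 zb57) (kb xb30 yb34 zb7) (kb xb20 yb41 zb17) (kb xb17 yb17 zb52) (kb xb24 yb10 zb25) (kb xb17 yb19 zb32) (kb xb24 yb3 zb17) (kb xb14 yb37 zb12) (kb xb15 yb38 zb28) (kb xb25 yb49 zb55) (kb xb24 yb38 zb26) (kb xb26 yb48 zb17) (kb xb16 yb16 zb30) (kb xb29 yb16 zb55) (kb xb25 yb47 zb24) (kb xb31 yb22 zb45) (kb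 xb25 yb5 zb30) (kb xb19 yb16 zb0) (kb xb14 yb37 zb11) (kb xb20 yb3 zb26) (kb xb21 yb23 zb46) (kb xb16 yb57 zb49) (kb xb15 yb43 zb59) (kb xb15 yb48 zb20) (kb xb14 yb37 zb14) (kb xb30 yb14 zb31) (kb xb18 yb0 zb42) (kb xb21 yb8 zb11) (kb xb31 yb27 zb31) (kb xb14 yb37 zb25) (kb xb14 yb37 zb17) (kb xb14 yb37 zb18) (kb xb26 yb10 zb20) (kb xb14 yb37 zb20) (kb xb14 yb37 zb21) (kb xb19 yb26 zb21) (kb xb27 yb44 zb30) (kb xb24 yb38 zb1) (kb xb25 yb41 zb28) (kb xb25 yb14 zb58) (kb xb31 yb4 zb6) (kb xb29 yb10 zb22) (kb xb14 yb37 zb23) (kb xb19 yb56 zb7) (kb xb28 yb50 zb8) (kb xb31 yb28 zb60) (kb xb14 yb37 zb31)) (@D3.rec (fun _ => Pt) (kb xb14 yb45 zb59) (kb xb24 yb35 zb31) (kb xb14 yb37 zb44) (kb xb14 yb37 zb34) (kb xb14 yb37 zb35) (kb xb19 yb48 zb8) (kb xb31 yb29 zb1) (kb xb31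 yb29 zb4) (kb xb31 yb29 zb5) (kb xb14 yb37 zb38) (kb xb31 yb14 zb14) (kb xb19 yb56 zb19) (kb xb31 yb29 zb8) (kb xb19 yb55 zb37) (kb xb14 yb37 zb40) (kb xb31 yb29 zb11) (kb xb25 yb37 zb40) (kb xb31 yb29 zb0) (kb xb15 yb55 zb13) (kb xb30 yb53 zb3) (kb xb14 yb37 zb50) (kb xb17 yb17 zb56) (kb xb31 yb29 zb14) (kb xb14 yb37 zb53) (kb xb31 yb29 zb15) (kb xb31 yb29 zb16) (kb xb14 yb37 zb55) (kb xb30 yb23 zb13) (kb xb14 yb40 zb30) (kb xb29 yb38 zb12) (kb xb20 yb44 zb24) (kb xb31 yb12 zb51) (kb xb20 yb44 zb15) (kb xb19 yb13 zb20) (kb xb14 yb37 zb61) (kb xb26 yb27 zb58) (kb xb25 yb25 zb40) (kb xb30 yb11 zb55) (kb xb22 yb23 zb42) (kb xb20 yb38 zb44) (kb xb14 yb38 zb6) (kb xb14 yb38 zb5) (kb xb20 yb38 zb9) (kb xb30 yb29 zb29) (kb xb31 yb29 zb23) (kb xb14 yb38 zb7) (kb xb31 yb12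 zb38) (kb xb21 yb59 zb59) (kb xb23 yb49 zb15) (kb xb29 yb38 zb5) (kb xb14 yb38 zb10) (kb xb31 yb29 zb26) (kb xb19 yb21 zb30) (kb xb18 yb44 zb59) (kb xb21 yb40 zb43) (kb xb14 yb38 zb18) (kb xb24 yb18 zb5) (kb xb17 yb48 zb31) (kb xb14 yb38 zb20) (kb xb16 yb13 zb32) (kb xb27 yb5 zb22) (kb xb14 yb47 zb24)) (@D3.rec (fun _ => Pt) (kb xb24 yb23 zb51) (kb xb22 yb44 zb16) (kb xb14 yb38 zb25) (kb xb16 yb52 zb19) (kb xb19 yb47 zb3) (kb xb14 yb38 zb27) (kb xb27 yb40 zb59) (kb xb31 yb23 zb58) (kb xb31 yb29 zb31) (kb xb23 yb28 zb33) (kb xb20 yb29 zb51) (kb xb16 yb10 zb1) (kb xb19 yb12 zb10) (kb xb14 yb48 zb41) (kb xb14 yb45 zb49) (kb xb19 yb47 zb6) (kb xb14 yb38 zb36) (kb xb14 yb38 zb37) (kb xb31 yb29 zb33) (kb xb21 yb45 zb11) (kb xb24 yb41 zb55) (kb xb19 yb47 zb29) (kb xb24 yb27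 zb3) (kb xb23 yb59 zb59) (kb xb14 yb38 zb39) (kb xb31 yb29 zb36) (kb xb31 yb29 zb37) (kb xb24 yb0 zb3) (kb xb14 yb38 zb41) (kb xb21 yb23 zb18) (kb xb14 yb38 zb42) (kb xb20 yb16 zb42) (kb xb24 yb38 zb18) (kb xb18 yb38 zb21) (kb xb16 yb5 zb7) (kb xb18 yb3 zb6) (kb xb31 yb29 zb39) (kb xb14 yb38 zb47) (kb xb20 yb32 zb5) (kb xb14 yb47 zb20) (kb xb29 yb38 zb8) (kb xb29 yb7 zb41) (kb xb29 yb50 zb21) (kb xb14 yb38 zb55) (kb xb22 yb27 zb17) (kb xb28 yb53 zb46) (kb xb14 yb39 zb2) (kb xb14 yb39 zb3) (kb xb31 yb29 zb43) (kb xb30 yb15 zb20) (kb xb27 yb39 zb24) (kb xb22 yb19 zb50) (kb xb28 yb2 zb24) (kb xb31 yb6 zb54) (kb xb14 yb39 zb8) (kb xb21 yb16 zb41) (kb xb14 yb39 zb9) (kb xb28 yb13 zb10) (kb xb14 yb39 zb27) (kb xb26 yb2 zb31) (kb xb27 yb56 zb61) (kb xb23 yb59 zb46)) (@D3.rec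 (fun _ => Pt) (kb xb22 yb50 zb50) (kb xb25 yb19 zb36) (kb xb14 yb39 zb16) (kb xb31 yb29 zb52) (kb xb25 yb15 zb8) (kb xb17 yb24 zb4) (kb xb28 yb50 zb4) (kb xb14 yb39 zb22) (kb xb25 yb15 zb18) (kb xb29 yb28 zb32) (kb xb22 yb56 zb5) (kb xb17 yb11 zb53) (kb xb30 yb12 zb40) (kb xb14 yb39 zb32) (kb xb31 yb29 zb56) (kb xb29 yb8 zb36) (kb xb31 yb29 zb60) (kb xb29 yb37 zb2) (kb xb14 yb39 zb34) (kb xb31 yb30 zb2) (kb xb14 yb39 zb35) (kb xb31 yb30 zb5) (kb xb16 yb11 zb46) (kb xb14 yb39 zb38) (kb xb28 yb48 zb34) (kb xb14 yb39 zb42) (kb xb22 yb13 zb26) (kb xb14 yb39 zb44) (kb xb22 yb36 zb4) (kb xb29 yb29 zb56) (kb xb30 yb30 zb37) (kb xb30 yb17 zb17) (kb xb18 yb39 zb53) (kb xb28 yb44 zb22) (kb xb28 yb32 zb23) (kb xb27 yb56 zb39) (kb xb16 yb9 zb45) (kb xb14 yb39 zb51) (kb xb14 yb39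 zb52) (kb xb19 yb26 zb25) (kb xb26 yb7 zb10) (kb xb31 yb7 zb13) (kb xb31 yb30 zb9) (kb xb29 yb26 zb45) (kb xb19 yb24 zb0) (kb xb30 yb39 zb16) (kb xb29 yb48 zb12) (kb xb29 yb49 zb45) (kb xb14 yb39 zb57) (kb xb14 yb39 zb58) (kb xb30 yb41 zb40) (kb xb24 yb22 zb0) (kb xb31 yb30 zb19) (kb xb30 yb26 zb7) (kb xb14 yb46 zb56) (kb xb25 yb22 zb6) (kb xb14 yb40 zb3) (kb xb15 yb31 zb12) (kb xb31 yb11 zb15) (kb xb14 yb40 zb0) (kb xb31 yb30 zb21) (kb xb29 yb41 zb22)) (@D3.rec (fun _ => Pt) (kb xb21 yb41 zb52) (kb xb31 yb5 zb54) (kb xb18 yb39 zb57) (kb xb29 yb49 zb44) (kb xb29 yb42 zb23) (kb xb14 yb40 zb5) (kb xb30 yb20 zb20) (kb xb29 yb42 zb22) (kb xb18 yb56 zb31) (kb xb19 yb56 zb13) (kb xb18 yb1 zb6) (kb xb20 yb8 zb4) (kb xb16 yb32 zb18) (kb xb14 yb47 zb33) (kb xb19 yb43 zb53) (kb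 xb22 yb21 zb7) (kb xb24 yb35 zb15) (kb xb14 yb40 zb17) (kb xb22 yb35 zb45) (kb xb16 yb50 zb24) (kb xb14 yb40 zb20) (kb xb22 yb22 zb22) (kb xb21 yb11 zb23) (kb xb22 yb24 zb27) (kb xb31 yb24 zb56) (kb xb19 yb3 zb49) (kb xb14 yb40 zb24) (kb xb30 yb50 zb19) (kb xb31 yb30 zb25) (kb xb31 yb30 zb26) (kb xb28 yb34 zb25) (kb xb31 yb30 zb28) (kb xb28 yb50 zb14) (kb xb14 yb40 zb26) (kb xb29 yb3 zb1) (kb xb19 yb25 zb29) (kb xb22 yb32 zb57) (kb xb30 yb23 zb2) (kb xb14 yb40 zb29) (kb xb31 yb30 zb34) (kb xb30 yb45 zb16) (kb xb19 yb28 zb56) (kb xb31 yb30 zb35) (kb xb14 yb40 zb40) (kb xb14 yb40 zb41) (kb xb31 yb3 zb24) (kb xb24 yb25 zb53) (kb xb14 yb40 zb36) (kb xb14 yb40 zb37) (kb xb31 yb30 zb39) (kb xb14 yb40 zb38) (kb xb20 yb17 zb18) (kb xb31 yb30 zb40) (kb xb22 yb0 zb56) (kb xb31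 yb30 zb41) (kb xb22 yb14 zb0) (kb xb31 yb30 zb37) (kb xb14 yb40 zb42) (kb xb22 yb23 zb58) (kb xb14 yb40 zb44) (kb xb31 yb30 zb45) (kb xb31 yb30 zb49)) (@D3.rec (fun _ => Pt) (kb xb30 yb29 zb20) (kb xb14 yb40 zb50) (kb xb14 yb40 zb47) (kb xb22 yb1 zb45) (kb xb26 yb27 zb59) (kb xb20 yb24 zb20) (kb xb24 yb6 zb48) (kb xb14 yb40 zb49) (kb xb29 yb39 zb54) (kb xb19 yb29 zb4) (kb xb31 yb30 zb53) (kb xb27 yb13 zb55) (kb xb14 yb40 zb54) (kb xb31 yb30 zb54) (kb xb22 yb25 zb14) (kb xb22 yb25 zb15) (kb xb27 yb13 zb50) (kb xb14 yb41 zb0) (kb xb14 yb40 zb59) (kb xb26 yb43 zb25) (kb xb22 yb40 zb51) (kb xb29 yb21 zb26) (kb xb30 yb11 zb39) (kb xb30 yb14 zb51) (kb xb26 yb52 zb7) (kb xb27 yb9 zb52) (kb xb30 yb11 zb35) (kb xb14 yb41 zb4) (kb xb14 yb41 zb5) (kb xb21 yb13 zb17) (kb xb29 yb48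 zb44) (kb xb28 yb52 zb30) (kb xb14 yb41 zb6) (kb xb31 yb31 zb3) (kb xb14 yb41 zb7) (kb xb30 yb30 zb14) (kb xb20 yb41 zb15) (kb xb31 yb9 zb2) (kb xb14 yb41 zb10) (kb xb27 yb22 zb34) (kb xb16 yb32 zb44) (kb xb18 yb47 zb43) (kb xb14 yb41 zb12) (kb xb31 yb31 zb7) (kb xb31 yb31 zb6) (kb xb31 yb31 zb10) (kb xb14 yb41 zb15) (kb xb31 yb31 zb12) (kb xb31 yb31 zb11) (kb xb31 yb31 zb15) (kb xb24 yb30 zb25) (kb xb30 yb29 zb36) (kb xb30 yb28 zb19) (kb xb24 yb24 zb46) (kb xb14 yb41 zb22) (kb xb14 yb41 zb21) (kb xb29 yb42 zb58) (kb xb26 yb17 zb41) (kb xb24 yb13 zb56) (kb xb14 yb41 zb23) (kb xb31 yb31 zb18) (kb xb14 yb41 zb27)) (@D3.rec (fun _ => Pt) (kb xb14 yb41 zb26) (kb xb31 yb31 zb21) (kb xb22 yb59 zb24) (kb xb31 yb31 zb24) (kb xb21 yb54 zb22) (kb xb21 yb54 zb23) (kb xb31 yb31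 zb27) (kb xb28 yb39 zb61) (kb xb26 yb56 zb38) (kb xb27 yb12 zb15) (kb xb29 yb57 zb25) (kb xb31 yb31 zb31) (kb xb25 yb12 zb4) (kb xb26 yb57 zb15) (kb xb14 yb41 zb37) (kb xb31 yb17 zb54) (kb xb29 yb39 zb25) (kb xb28 yb18 zb25) (kb xb14 yb41 zb39) (kb xb28 yb18 zb32) (kb xb17 yb0 zb53) (kb xb16 yb41 zb6) (kb xb14 yb41 zb41) (kb xb31 yb31 zb38) (kb xb31 yb21 zb7) (kb xb19 yb18 zb16) (kb xb31 yb31 zb40) (kb xb16 yb40 zb29) (kb xb31 yb18 zb41) (kb xb14 yb42 zb7) (kb xb19 yb2 zb46) (kb xb14 yb41 zb48) (kb xb14 yb41 zb49) (kb xb29 yb32 zb55) (kb xb29 yb32 zb56) (kb xb31 yb31 zb45) (kb xb14 yb41 zb50) (kb xb28 yb39 zb44) (kb xb20 yb57 zb11) (kb xb17 yb6 zb13) (kb xb17 yb5 zb57) (kb xb29 yb33 zb1) (kb xb16 yb36 zb27) (kb xb31 yb31 zb37) (kb xb31 yb31 zb53) (kb xb31 yb30 zb57)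 (kb xb29 yb26 zb18) (kb xb16 yb48 zb32) (kb xb16 yb39 zb38) (kb xb16 yb48 zb1) (kb xb15 yb19 zb19) (kb xb19 yb4 zb35) (kb xb16 yb41 zb25) (kb xb19 yb21 zb13) (kb xb14 yb53 zb3) (kb xb14 yb42 zb0) (kb xb31 yb31 zb57) (kb xb31 yb31 zb58) (kb xb19 yb20 zb36) (kb xb25 yb12 zb33) (kb xb25 yb12 zb3) (kb xb24 yb37 zb23)) (@D3.rec (fun _ => Pt) (kb xb19 yb9 zb44) (kb xb31 yb32 zb6) (kb xb14 yb42 zb8) (kb xb24 yb22 zb22) (kb xb14 yb42 zb5) (kb xb23 yb40 zb14) (kb xb14 yb51 zb54) (kb xb14 yb42 zb6) (kb xb31 yb32 zb8) (kb xb30 yb56 zb43) (kb xb28 yb11 zb4) (kb xb19 yb3 zb2) (kb xb25 yb11 zb5) (kb xb22 yb41 zb0) (kb xb31 yb18 zb54) (kb xb28 yb51 zb33) (kb xb15 yb2 zb54) (kb xb14 yb42 zb10) (kb xb29 yb13 zb38) (kb xb31 yb32 zb13) (kb xb19 yb19 zb8) (kb xb29 yb39 zb1) (kb xb19 yb19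 zb11) (kb xb14 yb42 zb17) (kb xb20 yb24 zb33) (kb xb23 yb36 zb5) (kb xb14 yb42 zb14) (kb xb24 yb41 zb26) (kb xb26 yb2 zb15) (kb xb31 yb32 zb20) (kb xb15 yb52 zb27) (kb xb14 yb42 zb16) (kb xb19 yb41 zb26) (kb xb31 yb32 zb21) (kb xb14 yb42 zb18) (kb xb16 yb40 zb61) (kb xb14 yb47 zb30) (kb xb31 yb32 zb23) (kb xb24 yb36 zb39) (kb xb25 yb58 zb22) (kb xb23 yb1 zb16) (kb xb14 yb42 zb22) (kb xb19 yb4 zb58) (kb xb15 yb53 zb51) (kb xb14 yb42 zb25) (kb xb14 yb42 zb26) (kb xb14 yb42 zb24) (kb xb31 yb9 zb26) (kb xb17 yb21 zb16) (kb xb27 yb5 zb59) (kb xb31 yb32 zb29) (kb xb31 yb32 zb30) (kb xb19 yb20 zb54) (kb xb14 yb42 zb29) (kb xb19 yb3 zb9) (kb xb31 yb32 zb32) (kb xb19 yb9 zb20) (kb xb30 yb17 zb21) (kb xb14 yb42 zb32) (kb xb20 yb42 zb40) (kb xb29 yb24 zb35) (kb xb28 yb18 zb54))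 (@D3.rec (fun _ => Pt) (kb xb23 yb1 zb43) (kb xb27 yb5 zb42) (kb xb14 yb42 zb44) (kb xb17 yb18 zb21) (kb xb18 yb48 zb14) (kb xb29 yb8 zb56) (kb xb16 yb52 zb0) (kb xb14 yb42 zb51) (kb xb22 yb46 zb20) (kb xb14 yb42 zb53) (kb xb22 yb6 zb3) (kb xb30 yb52 zb57) (kb xb17 yb12 zb12) (kb xb23 yb7 zb24) (kb xb16 yb35 zb42) (kb xb14 yb42 zb58) (kb xb30 yb42 zb52) (kb xb24 yb18 zb11) (kb xb23 yb53 zb50) (kb xb14 yb42 zb60) (kb xb30 yb32 zb57) (kb xb23 yb21 zb53) (kb xb24 yb55 zb58) (kb xb14 yb43 zb9) (kb xb28 yb9 zb13) (kb xb26 yb17 zb25) (kb xb17 yb30 zb23) (kb xb14 yb43 zb5) (kb xb14 yb43 zb8) (kb xb24 yb44 zb23) (kb xb18 yb21 zb59) (kb xb22 yb26 zb8) (kb xb26 yb55 zb55) (kb xb14 yb43 zb15) (kb xb30 yb33 zb6) (kb xb19 yb17 zb5) (kb xb18 yb22 zb25) (kb xb18 yb58 zb54) (kb xb19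 yb51 zb37) (kb xb26 yb42 zb41) (kb xb21 yb14 zb23) (kb xb16 yb49 zb13) (kb xb24 yb19 zb30) (kb xb24 yb18 zb60) (kb xb23 yb11 zb8) (kb xb19 yb3 zb5) (kb xb19 yb8 zb60) (kb xb14 yb43 zb23) (kb xb25 yb47 zb39) (kb xb21 yb36 zb44) (kb xb29 yb23 zb9) (kb xb31 yb20 zb21) (kb xb14 yb43 zb26) (kb xb28 yb23 zb43) (kb xb19 yb24 zb4) (kb xb31 yb32 zb44) (kb xb15 yb51 zb35) (kb xb16 yb22 zb39) (kb xb19 yb9 zb45) (kb xb25 yb4 zb15) (kb xb19 yb4 zb61) (kb xb19 yb21 zb18)) (@D3.rec (fun _ => Pt) (kb xb19 yb5 zb0) (kb xb31 yb32 zb46) (kb xb14 yb43 zb49) (kb xb28 yb25 zb56) (kb xb26 yb29 zb56) (kb xb31 yb32 zb48) (kb xb28 yb11 zb10) (kb xb14 yb43 zb32) (kb xb15 yb12 zb56) (kb xb16 yb21 zb17) (kb xb14 yb43 zb51) (kb xb25 yb11 zb42) (kb xb26 yb45 zb22) (kb xb23 yb30 zb53) (kb xb26 yb10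 zb2) (kb xb14 yb43 zb38) (kb xb16 yb33 zb29) (kb xb31 yb32 zb49) (kb xb19 yb55 zb54) (kb xb14 yb43 zb40) (kb xb29 yb10 zb48) (kb xb31 yb8 zb17) (kb xb28 yb48 zb37) (kb xb19 yb9 zb9) (kb xb19 yb2 zb47) (kb xb14 yb43 zb45) (kb xb23 yb25 zb51) (kb xb31 yb32 zb55) (kb xb14 yb43 zb47) (kb xb31 yb32 zb57) (kb xb30 yb44 zb49) (kb xb14 yb43 zb48) (kb xb26 yb16 zb29) (kb xb18 yb27 zb24) (kb xb15 yb11 zb10) (kb xb14 yb43 zb54) (kb xb31 yb32 zb61) (kb xb20 yb10 zb30) (kb xb14 yb43 zb57) (kb xb31 yb33 zb0) (kb xb22 yb26 zb24) (kb xb14 yb43 zb59) (kb xb14 yb43 zb60) (kb xb31 yb33 zb4) (kb xb29 yb45 zb22) (kb xb22 yb26 zb28) (kb xb31 yb33 zb8) (kb xb14 yb44 zb10) (kb xb14 yb44 zb11) (kb xb28 yb16 zb39) (kb xb14 yb44 zb3) (kb xb14 yb44 zb2) (kb xb31 yb33 zb15) (kb xb31 yb33 zb16)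 (kb xb18 yb55 zb59) (kb xb29 yb32 zb25) (kb xb24 yb30 zb1) (kb xb31 yb33 zb18) (kb xb27 yb5 zb6) (kb xb14 yb44 zb7) (kb xb23 yb49 zb11) (kb xb14 yb44 zb8)) (@D3.rec (fun _ => Pt) (kb xb31 yb33 zb21) (kb xb24 yb29 zb56) (kb xb14 yb44 zb9) (kb xb30 yb22 zb45) (kb xb28 yb35 zb3) (kb xb31 yb33 zb24) (kb xb30 yb30 zb34) (kb xb31 yb33 zb12) (kb xb14 yb44 zb12) (kb xb20 yb17 zb35) (kb xb30 yb28 zb42) (kb xb20 yb47 zb48) (kb xb20 yb44 zb16) (kb xb20 yb24 zb4) (kb xb30 yb11 zb37) (kb xb31 yb29 zb40) (kb xb22 yb19 zb51) (kb xb14 yb44 zb20) (kb xb29 yb14 zb52) (kb xb22 yb1 zb2) (kb xb30 yb42 zb54) (kb xb14 yb44 zb17) (kb xb24 yb9 zb1) (kb xb31 yb33 zb34) (kb xb14 yb44 zb18) (kb xb24 yb25 zb50) (kb xb31 yb33 zb39) (kb xb14 yb44 zb19) (kb xb31 yb26 zb17) (kb xb14 yb53 zb23) (kb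 xb21 yb30 zb6) (kb xb26 yb49 zb12) (kb xb19 yb34 zb10) (kb xb14 yb44 zb29) (kb xb26 yb28 zb60) (kb xb20 yb21 zb43) (kb xb29 yb38 zb33) (kb xb21 yb54 zb53) (kb xb24 yb47 zb40) (kb xb14 yb44 zb31) (kb xb28 yb13 zb37) (kb xb26 yb8 zb38) (kb xb15 yb56 zb55) (kb xb29 yb58 zb46) (kb xb14 yb44 zb35) (kb xb30 yb47 zb47) (kb xb24 yb43 zb60) (kb xb14 yb44 zb36) (kb xb21 yb39 zb20) (kb xb22 yb31 zb9) (kb xb24 yb41 zb1) (kb xb14 yb44 zb39) (kb xb14 yb44 zb41) (kb xb22 yb27 zb52) (kb xb28 yb1 zb29) (kb xb31 yb2 zb48) (kb xb21 yb29 zb49) (kb xb30 yb1 zb2) (kb xb30 yb13 zb19) (kb xb30 yb13 zb20) (kb xb20 yb32 zb53) (kb xb23 yb18 zb34)) (@D3.rec (fun _ => Pt) (kb xb14 yb44 zb55) (kb xb14 yb44 zb52) (kb xb29 yb19 zb11) (kb xb27 yb59 zb35) (kb xb20 yb27 zb55) (kb xb28 yb13 zb49) (kb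 xb25 yb17 zb45) (kb xb14 yb44 zb57) (kb xb31 yb15 zb35) (kb xb25 yb16 zb25) (kb xb23 yb20 zb58) (kb xb19 yb1 zb29) (kb xb28 yb12 zb32) (kb xb26 yb3 zb36) (kb xb29 yb50 zb25) (kb xb17 yb2 zb53) (kb xb14 yb45 zb4) (kb xb30 yb27 zb55) (kb xb23 yb33 zb49) (kb xb30 yb43 zb14) (kb xb27 yb57 zb43) (kb xb28 yb2 zb15) (kb xb21 yb33 zb55) (kb xb30 yb57 zb23) (kb xb30 yb53 zb31) (kb xb14 yb45 zb13) (kb xb19 yb50 zb3) (kb xb14 yb45 zb18) (kb xb28 yb43 zb43) (kb xb20 yb30 zb60) (kb xb19 yb50 zb1) (kb xb31 yb33 zb55) (kb xb30 yb59 zb19) (kb xb30 yb59 zb28) (kb xb14 yb45 zb21) (kb xb31 yb33 zb60) (kb xb26 yb57 zb39) (kb xb31 yb33 zb58) (kb xb31 yb33 zb59) (kb xb31 yb34 zb1) (kb xb28 yb41 zb5) (kb xb18 yb40 zb53) (kb xb14 yb45 zb25) (kb xb30 yb32 zb8) (kb xb18 yb41 zb3) (kb xb14 yb45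 zb26) (kb xb23 yb16 zb38) (kb xb23 yb21 zb39) (kb xb29 yb52 zb15) (kb xb14 yb45 zb30) (kb xb16 yb10 zb57) (kb xb20 yb30 zb46) (kb xb23 yb0 zb14) (kb xb22 yb21 zb12) (kb xb21 yb1 zb25) (kb xb16 yb12 zb37) (kb xb17 yb8 zb38) (kb xb23 yb23 zb26) (kb xb31 yb34 zb9) (kb xb30 yb56 zb37) (kb xb14 yb45 zb45) (kb xb24 yb0 zb52)) (@D3.rec (fun _ => Pt) (kb xb21 yb8 zb24) (kb xb28 yb37 zb15) (kb xb19 yb15 zb11) (kb xb14 yb45 zb47) (kb xb29 yb34 zb31) (kb xb26 yb58 zb35) (kb xb18 yb33 zb47) (kb xb29 yb26 zb46) (kb xb25 yb17 zb41) (kb xb31 yb32 zb22) (kb xb24 yb35 zb33) (kb xb26 yb9 zb54) (kb xb30 yb53 zb35) (kb xb24 yb35 zb35) (kb xb16 yb41 zb52) (kb xb25 yb15 zb16) (kb xb25 yb37 zb47) (kb xb15 yb25 zb42) (kb xb19 yb26 zb38) (kb xb28 yb48 zb55) (kb xb23 yb7 zb0) (kb xb24 yb10 zb53)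 (kb xb21 yb40 zb51) (kb xb14 yb46 zb23) (kb xb22 yb0 zb57) (kb xb21 yb14 zb3) (kb xb16 yb9 zb56) (kb xb18 yb7 zb8) (kb xb25 yb36 zb41) (kb xb29 yb57 zb29) (kb xb14 yb46 zb17) (kb xb15 yb49 zb44) (kb xb27 yb19 zb50) (kb xb14 yb54 zb22) (kb xb21 yb48 zb57) (kb xb16 yb2 zb38) (kb xb15 yb42 zb61) (kb xb21 yb36 zb20) (kb xb26 yb12 zb25) (kb xb14 yb46 zb26) (kb xb21 yb22 zb46) (kb xb23 yb2 zb34) (kb xb23 yb2 zb43) (kb xb24 yb36 zb4) (kb xb26 yb23 zb5) (kb xb14 yb46 zb35) (kb xb20 yb20 zb19) (kb xb24 yb2 zb56) (kb xb30 yb2 zb50) (kb xb17 yb15 zb48) (kb xb20 yb13 zb17) (kb xb29 yb2 zb40) (kb xb23 yb29 zb45) (kb xb22 yb31 zb55) (kb xb29 yb52 zb7) (kb xb17 yb51 zb20) (kb xb17 yb53 zb40) (kb xb30 yb7 zb9) (kb xb31 yb19 zb10) (kb xb15 yb53 zb31) (kb xb15 yb3 zb2) (kb xb31 yb13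 zb2)) (@D3.rec (fun _ => Pt) (kb xb14 yb46 zb50) (kb xb30 yb11 zb28) (kb xb27 yb38 zb20) (kb xb14 yb46 zb54) (kb xb27 yb42 zb47) (kb xb14 yb46 zb53) (kb xb27 yb38 zb19) (kb xb31 yb18 zb34) (kb xb14 yb46 zb55) (kb xb28 yb48 zb23) (kb xb20 yb53 zb57) (kb xb14 yb46 zb59) (kb xb14 yb46 zb60) (kb xb17 yb0 zb16) (kb xb24 yb7 zb11) (kb xb28 yb25 zb13) (kb xb31 yb34 zb20) (kb xb15 yb1 zb41) (kb xb19 yb54 zb20) (kb xb25 yb21 zb61) (kb xb15 yb28 zb54) (kb xb24 yb37 zb20) (kb xb29 yb29 zb10) (kb xb31 yb34 zb25) (kb xb24 yb49 zb56) (kb xb20 yb54 zb4) (kb xb14 yb47 zb10) (kb xb31 yb34 zb32) (kb xb28 yb54 zb18) (kb xb20 yb53 zb13) (kb xb27 yb44 zb16) (kb xb14 yb47 zb13) (kb xb14 yb47 zb14) (kb xb31 yb11 zb37) (kb xb24 yb37 zb18) (kb xb24 yb37 zb19) (kb xb29 yb23 zb43) (kb xb26 yb10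 zb4) (kb xb20 yb50 zb17) (kb xb20 yb29 zb50) (kb xb29 yb33 zb15) (kb xb15 yb32 zb32) (kb xb29 yb42 zb61) (kb xb29 yb43 zb0) (kb xb30 yb56 zb36) (kb xb20 yb29 zb52) (kb xb14 yb47 zb31) (kb xb14 yb47 zb32) (kb xb31 yb10 zb14) (kb xb15 yb25 zb33) (kb xb24 yb49 zb61) (kb xb14 yb47 zb28) (kb xb16 yb57 zb21) (kb xb23 yb29 zb1) (kb xb31 yb34 zb39) (kb xb21 yb47 zb60) (kb xb24 yb37 zb26) (kb xb24 yb37 zb27) (kb xb20 yb54 zb10) (kb xb22 yb44 zb53) (kb xb31 yb11 zb58) (kb xb31 yb34 zb36)) (@D3.rec (fun _ => Pt) (kb xb29 yb41 zb15) (kb xb25 yb15 zb15) (kb xb25 yb37 zb33) (kb xb26 yb54 zb36) (kb xb27 yb37 zb6) (kb xb24 yb19 zb12) (kb xb14 yb47 zb41) (kb xb17 yb31 zb26) (kb xb24 yb19 zb3) (kb xb14 yb47 zb39) (kb xb30 yb7 zb4) (kb xb21 yb22 zb39) (kb xb24 yb37 zb35) (kb xb30 yb54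 zb41) (kb xb19 yb3 zb39) (kb xb20 yb52 zb59) (kb xb27 yb36 zb16) (kb xb19 yb10 zb56) (kb xb19 yb54 zb11) (kb xb14 yb47 zb48) (kb xb20 yb20 zb44) (kb xb14 yb47 zb57) (kb xb21 yb46 zb29) (kb xb25 yb37 zb46) (kb xb28 yb58 zb41) (kb xb24 yb37 zb57) (kb xb14 yb48 zb4) (kb xb14 yb48 zb6) (kb xb19 yb48 zb51) (kb xb14 yb48 zb10) (kb xb14 yb48 zb12) (kb xb14 yb48 zb17) (kb xb27 yb44 zb18) (kb xb28 yb48 zb40) (kb xb21 yb0 zb48) (kb xb28 yb34 zb2) (kb xb14 yb48 zb23) (kb xb14 yb48 zb22) (kb xb28 yb34 zb1) (kb xb22 yb56 zb47) (kb xb28 yb36 zb35) (kb xb26 yb22 zb19) (kb xb20 yb53 zb26) (kb xb31 yb34 zb47) (kb xb14 yb48 zb31) (kb xb14 yb48 zb40) (kb xb14 yb48 zb33) (kb xb25 yb24 zb16) (kb xb26 yb28 zb10) (kb xb20 yb14 zb41) (kb xb21 yb6 zb2) (kb xb30 yb4 zb56) (kb xb26 yb48 zb31)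 (kb xb30 yb10 zb57) (kb xb31 yb20 zb39) (kb xb29 yb43 zb12) (kb xb15 yb15 zb20) (kb xb16 yb45 zb34) (kb xb29 yb43 zb14) (kb xb29 yb43 zb15) (kb xb14 yb48 zb46) (kb xb14 yb48 zb49)) (@D3.rec (fun _ => Pt) (kb xb16 yb1 zb27) (kb xb20 yb7 zb29) (kb xb26 yb21 zb28) (kb xb24 yb9 zb17) (kb xb23 yb34 zb35) (kb xb22 yb32 zb47) (kb xb31 yb34 zb55) (kb xb14 yb48 zb59) (kb xb28 yb29 zb28) (kb xb26 yb9 zb27) (kb xb16 yb4 zb50) (kb xb22 yb27 zb13) (kb xb24 yb3 zb25) (kb xb24 yb10 zb43) (kb xb31 yb34 zb58) (kb xb24 yb24 zb16) (kb xb30 yb48 zb37) (kb xb20 yb39 zb31) (kb xb14 yb49 zb3) (kb xb31 yb35 zb2) (kb xb31 yb35 zb3) (kb xb14 yb49 zb22) (kb xb14 yb49 zb6) (kb xb24 yb0 zb23) (kb xb20 yb4 zb60) (kb xb15 yb52 zb40) (kb xb29 yb15 zb39) (kb xb29 yb35 zb28) (kb xb14 yb49 zb13) (kb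 xb28 yb48 zb24) (kb xb31 yb35 zb9) (kb xb24 yb21 zb1) (kb xb31 yb34 zb57) (kb xb24 yb32 zb10) (kb xb19 yb26 zb24) (kb xb24 yb32 zb13) (kb xb26 yb40 zb18) (kb xb20 yb23 zb8) (kb xb14 yb51 zb19) (kb xb14 yb49 zb21) (kb xb17 yb28 zb32) (kb xb19 yb54 zb9) (kb xb23 yb59 zb11) (kb xb15 yb18 zb25) (kb xb31 yb35 zb15) (kb xb15 yb55 zb46) (kb xb30 yb46 zb24) (kb xb31 yb35 zb18) (kb xb26 yb6 zb49) (kb xb30 yb52 zb55) (kb xb14 yb52 zb11) (kb xb24 yb38 zb32) (kb xb23 yb37 zb53) (kb xb30 yb6 zb23) (kb xb29 yb59 zb31) (kb xb14 yb49 zb37) (kb xb31 yb27 zb42) (kb xb16 yb4 zb18) (kb xb17 yb10 zb22) (kb xb27 yb11 zb29) (kb xb14 yb49 zb39) (kb xb29 yb41 zb30)) (@D3.rec (fun _ => Pt) (kb xb19 yb59 zb57) (kb xb14 yb49 zb41) (kb xb25 yb39 zb44) (kb xb21 yb49 zb11) (kb xb24 yb32 zb43) (kb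 xb16 yb3 zb0) (kb xb29 yb50 zb29) (kb xb24 yb41 zb13) (kb xb27 yb20 zb33) (kb xb26 yb19 zb6) (kb xb24 yb18 zb26) (kb xb14 yb49 zb58) (kb xb21 yb52 zb1) (kb xb21 yb24 zb24) (kb xb29 yb22 zb31) (kb xb14 yb55 zb49) (kb xb21 yb46 zb40) (kb xb14 yb49 zb60) (kb xb14 yb50 zb3) (kb xb29 yb12 zb2) (kb xb28 yb25 zb29) (kb xb14 yb50 zb15) (kb xb19 yb39 zb44) (kb xb21 yb57 zb46) (kb xb19 yb9 zb38) (kb xb31 yb35 zb24) (kb xb15 yb0 zb17) (kb xb22 yb32 zb48) (kb xb14 yb50 zb10) (kb xb14 yb50 zb11) (kb xb31 yb35 zb30) (kb xb14 yb50 zb13) (kb xb31 yb35 zb31) (kb xb14 yb50 zb14) (kb xb31 yb35 zb33) (kb xb20 yb2 zb32) (kb xb20 yb34 zb34) (kb xb21 yb29 zb41) (kb xb24 yb58 zb22) (kb xb24 yb27 zb38) (kb xb31 yb27 zb58) (kb xb31 yb35 zb39) (kb xb22 yb39 zb11) (kb xb14 yb50 zb29) (kb xb29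 yb7 zb25) (kb xb29 yb43 zb55) (kb xb14 yb50 zb38) (kb xb20 yb9 zb7) (kb xb26 yb45 zb49) (kb xb29 yb7 zb26) (kb xb15 yb20 zb55) (kb xb17 yb39 zb36) (kb xb29 yb7 zb0) (kb xb25 yb14 zb21) (kb xb21 yb2 zb16) (kb xb15 yb52 zb39) (kb xb14 yb50 zb43) (kb xb28 yb57 zb8) (kb xb29 yb17 zb30) (kb xb14 yb50 zb44) (kb xb31 yb35 zb43) (kb xb19 yb57 zb6)) (@D3.rec (fun _ => Pt) (kb xb31 yb35 zb8) (kb xb14 yb50 zb47) (kb xb25 yb50 zb53) (kb xb23 yb8 zb18) (kb xb30 yb46 zb17) (kb xb27 yb20 zb5) (kb xb30 yb51 zb36) (kb xb14 yb50 zb51) (kb xb19 yb54 zb8) (kb xb27 yb1 zb3) (kb xb31 yb35 zb51) (kb xb14 yb50 zb52) (kb xb31 yb35 zb54) (kb xb14 yb50 zb53) (kb xb15 yb37 zb56) (kb xb14 yb50 zb55) (kb xb23 yb43 zb7) (kb xb30 yb18 zb3) (kb xb24 yb33 zb34) (kb xb24 yb33 zb35) (kb xb24 yb33 zb21)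 (kb xb14 yb51 zb0) (kb xb31 yb35 zb60) (kb xb24 yb26 zb61) (kb xb25 yb8 zb29) (kb xb30 yb9 zb21) (kb xb24 yb33 zb56) (kb xb24 yb33 zb57) (kb xb14 yb51 zb5) (kb xb17 yb25 zb16) (kb xb14 yb51 zb8) (kb xb31 yb26 zb50) (kb xb14 yb51 zb10) (kb xb25 yb36 zb47) (kb xb24 yb2 zb29) (kb xb24 yb34 zb12) (kb xb28 yb57 zb13) (kb xb29 yb37 zb27) (kb xb29 yb37 zb38) (kb xb28 yb42 zb22) (kb xb28 yb30 zb38) (kb xb17 yb29 zb15) (kb xb14 yb51 zb24) (kb xb21 yb36 zb3) (kb xb29 yb6 zb16) (kb xb30 yb17 zb41) (kb xb20 yb2 zb9) (kb xb26 yb10 zb17) (kb xb19 yb54 zb60) (kb xb17 yb3 zb31) (kb xb14 yb51 zb29) (kb xb14 yb51 zb28) (kb xb15 yb38 zb21) (kb xb23 yb58 zb53) (kb xb26 yb7 zb16) (kb xb25 yb38 zb13) (kb xb19 yb54 zb24) (kb xb24 yb34 zb25) (kb xb14 yb51 zb33) (kb xb26 yb1 zb48) (kb xb14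 yb51 zb37) (kb xb14 yb51 zb36)) (@D3.rec (fun _ => Pt) (kb xb31 yb36 zb15) (kb xb24 yb20 zb52) (kb xb31 yb36 zb10) (kb xb15 yb41 zb39) (kb xb14 yb51 zb39) (kb xb25 yb12 zb15) (kb xb25 yb10 zb53) (kb xb28 yb14 zb3) (kb xb25 yb6 zb54) (kb xb14 yb51 zb42) (kb xb15 yb31 zb43) (kb xb14 yb51 zb43) (kb xb31 yb36 zb22) (kb xb18 yb40 zb54) (kb xb23 yb58 zb41) (kb xb22 yb22 zb16) (kb xb30 yb55 zb49) (kb xb20 yb29 zb54) (kb xb24 yb22 zb32) (kb xb14 yb51 zb56) (kb xb14 yb51 zb57) (kb xb14 yb51 zb53) (kb xb28 yb21 zb50) (kb xb25 yb48 zb56) (kb xb31 yb32 zb3) (kb xb30 yb10 zb28) (kb xb24 yb20 zb25) (kb xb14 yb51 zb55) (kb xb31 yb36 zb32) (kb xb31 yb36 zb33) (kb xb31 yb36 zb35) (kb xb31 yb36 zb26) (kb xb24 yb35 zb51) (kb xb14 yb51 zb60) (kb xb22 yb20 zb17) (kb xb14 yb52 zb1) (kb xb31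 yb36 zb36) (kb xb29 yb1 zb31) (kb xb19 yb3 zb17) (kb xb14 yb52 zb5) (kb xb30 yb36 zb3) (kb xb19 yb10 zb8) (kb xb30 yb55 zb48) (kb xb14 yb52 zb7) (kb xb14 yb52 zb9) (kb xb23 yb19 zb16) (kb xb31 yb33 zb43) (kb xb30 yb43 zb33) (kb xb14 yb52 zb15) (kb xb27 yb42 zb3) (kb xb18 yb47 zb18) (kb xb31 yb36 zb38) (kb xb14 yb52 zb16) (kb xb30 yb6 zb34) (kb xb15 yb36 zb14) (kb xb17 yb25 zb50) (kb xb27 yb2 zb2) (kb xb21 yb12 zb8) (kb xb23 yb1 zb26) (kb xb29 yb54 zb54) (kb xb14 yb52 zb21) (kb xb27 yb15 zb51)) (@D3.rec (fun _ => Pt) (kb xb14 yb52 zb22) (kb xb28 yb33 zb58) (kb xb20 yb43 zb50) (kb xb31 yb36 zb43) (kb xb20 yb43 zb25) (kb xb14 yb52 zb25) (kb xb30 yb50 zb21) (kb xb14 yb52 zb26) (kb xb23 yb9 zb48) (kb xb14 yb52 zb30) (kb xb14 yb52 zb32) (kb xb29 yb1 zb1) (kb xb31 yb18 zb44)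 (kb xb23 yb57 zb25) (kb xb14 yb52 zb40) (kb xb20 yb53 zb29) (kb xb31 yb15 zb30) (kb xb25 yb47 zb47) (kb xb29 yb1 zb47) (kb xb14 yb52 zb43) (kb xb31 yb17 zb14) (kb xb19 yb16 zb21) (kb xb31 yb28 zb44) (kb xb28 yb47 zb54) (kb xb20 yb28 zb36) (kb xb29 yb53 zb16) (kb xb17 yb26 zb55) (kb xb14 yb52 zb50) (kb xb28 yb24 zb47) (kb xb23 yb9 zb25) (kb xb30 yb18 zb46) (kb xb14 yb52 zb53) (kb xb30 yb46 zb32) (kb xb28 yb29 zb21) (kb xb30 yb52 zb60) (kb xb28 yb47 zb17) (kb xb30 yb43 zb58) (kb xb24 yb42 zb34) (kb xb14 yb53 zb0) (kb xb14 yb52 zb61) (kb xb23 yb11 zb17) (kb xb28 yb40 zb0) (kb xb14 yb53 zb7) (kb xb14 yb53 zb6) (kb xb31 yb36 zb48) (kb xb31 yb18 zb50) (kb xb31 yb28 zb45) (kb xb19 yb5 zb31) (kb xb31 yb32 zb11) (kb xb29 yb42 zb44) (kb xb28 yb16 zb2) (kb xb14 yb53 zb12) (kb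 xb30 yb17 zb14) (kb xb30 yb17 zb13) (kb xb31 yb36 zb52) (kb xb19 yb50 zb22) (kb xb31 yb31 zb48) (kb xb14 yb53 zb15) (kb xb24 yb52 zb1) (kb xb27 yb17 zb39) (kb xb31 yb36 zb59) (kb xb28 yb19 zb19)) (@D3.rec (fun _ => Pt) (kb xb14 yb53 zb18) (kb xb22 yb37 zb48) (kb xb31 yb27 zb40) (kb xb14 yb53 zb21) (kb xb31 yb37 zb2) (kb xb25 yb44 zb16) (kb xb22 yb26 zb45) (kb xb29 yb55 zb13) (kb xb21 yb17 zb43) (kb xb14 yb53 zb26) (kb xb27 yb18 zb23) (kb xb21 yb17 zb26) (kb xb17 yb59 zb5) (kb xb14 yb53 zb27) (kb xb21 yb17 zb21) (kb xb29 yb11 zb22) (kb xb29 yb56 zb49) (kb xb14 yb53 zb28) (kb xb30 yb55 zb21) (kb xb31 yb37 zb11) (kb xb29 yb11 zb57) (kb xb14 yb53 zb32) (kb xb22 yb28 zb50) (kb xb28 yb27 zb11) (kb xb24 yb40 zb34) (kb xb22 yb18 zb53) (kb xb26 yb13 zb19) (kb xb14 yb59 zb23)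 (kb xb14 yb53 zb36) (kb xb18 yb46 zb59) (kb xb28 yb22 zb46) (kb xb29 yb54 zb36) (kb xb18 yb46 zb38) (kb xb18 yb7 zb11) (kb xb24 yb40 zb24) (kb xb14 yb53 zb45) (kb xb28 yb46 zb7) (kb xb14 yb53 zb47) (kb xb31 yb37 zb14) (kb xb14 yb53 zb49) (kb xb14 yb53 zb51) (kb xb30 yb36 zb61) (kb xb28 yb38 zb41) (kb xb24 yb44 zb21) (kb xb23 yb36 zb7) (kb xb18 yb3 zb54) (kb xb27 yb45 zb9) (kb xb14 yb53 zb56) (kb xb21 yb26 zb7) (kb xb27 yb20 zb46) (kb xb30 yb15 zb4) (kb xb21 yb43 zb3) (kb xb27 yb4 zb26) (kb xb14 yb53 zb59) (kb xb16 yb4 zb35) (kb xb30 yb14 zb7) (kb xb14 yb53 zb60) (kb xb18 yb3 zb35) (kb xb25 yb15 zb27) (kb xb31 yb1 zb35) (kb xb21 yb59 zb5) (kb xb14 yb54 zb4)) (@D3.rec (fun _ => Pt) (kb xb21 yb49 zb2) (kb xb24 yb30 zb50) (kb xb14 yb54 zb1) (kb xb25 yb15 zb30) (kb xb27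 yb25 zb1) (kb xb16 yb4 zb28) (kb xb21 yb27 zb48) (kb xb23 yb23 zb19) (kb xb14 yb54 zb7) (kb xb25 yb34 zb45) (kb xb23 yb35 zb32) (kb xb19 yb17 zb33) (kb xb31 yb37 zb22) (kb xb24 yb36 zb7) (kb xb17 yb16 zb51) (kb xb17 yb30 zb44) (kb xb21 yb36 zb57) (kb xb24 yb17 zb31) (kb xb25 yb29 zb13) (kb xb14 yb54 zb17) (kb xb31 yb8 zb13) (kb xb26 yb1 zb45) (kb xb23 yb23 zb17) (kb xb24 yb43 zb17) (kb xb14 yb54 zb20) (kb xb15 yb42 zb9) (kb xb24 yb27 zb27) (kb xb30 yb8 zb61) (kb xb26 yb40 zb35) (kb xb18 yb29 zb50) (kb xb16 yb6 zb33) (kb xb16 yb5 zb42) (kb xb16 yb5 zb48) (kb xb21 yb58 zb38) (kb xb14 yb54 zb29) (kb xb14 yb54 zb28) (kb xb21 yb23 zb50) (kb xb15 yb22 zb54) (kb xb21 yb32 zb8) (kb xb26 yb6 zb12) (kb xb14 yb54 zb34) (kb xb25 yb41 zb59) (kb xb19 yb37 zb11) (kb xb29 yb12 zb46)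 (kb xb14 yb54 zb37) (kb xb31 yb37 zb28) (kb xb30 yb47 zb50) (kb xb31 yb37 zb31) (kb xb24 yb43 zb38) (kb xb14 yb54 zb40) (kb xb21 yb8 zb53) (kb xb21 yb8 zb54) (kb xb24 yb43 zb27) (kb xb14 yb54 zb45) (kb xb16 yb9 zb40) (kb xb24 yb22 zb20) (kb xb16 yb5 zb39) (kb xb14 yb54 zb50) (kb xb22 yb2 zb32) (kb xb21 yb46 zb54) (kb xb20 yb16 zb6) (kb xb20 yb16 zb24)) (@D3.rec (fun _ => Pt) (kb xb14 yb54 zb49) (kb xb21 yb19 zb35) (kb xb31 yb37 zb34) (kb xb27 yb3 zb47) (kb xb30 yb6 zb4) (kb xb24 yb42 zb15) (kb xb14 yb54 zb52) (kb xb24 yb42 zb19) (kb xb25 yb34 zb56) (kb xb25 yb41 zb0) (kb xb29 yb57 zb42) (kb xb17 yb30 zb50) (kb xb31 yb37 zb39) (kb xb23 yb42 zb3) (kb xb31 yb37 zb25) (kb xb24 yb42 zb5) (kb xb23 yb45 zb21) (kb xb21 yb34 zb15) (kb xb25 yb37 zb1) (kb xb24 yb42 zb7) (kb xb14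 yb54 zb61) (kb xb24 yb43 zb21) (kb xb28 yb31 zb24) (kb xb28 yb31 zb12) (kb xb21 yb14 zb13) (kb xb14 yb55 zb4) (kb xb23 yb28 zb5) (kb xb30 yb42 zb12) (kb xb14 yb55 zb7) (kb xb29 yb10 zb61) (kb xb14 yb55 zb8) (kb xb14 yb55 zb12) (kb xb15 yb43 zb1) (kb xb14 yb55 zb13) (kb xb24 yb39 zb37) (kb xb30 yb41 zb1) (kb xb14 yb55 zb18) (kb xb31 yb37 zb49) (kb xb31 yb28 zb59) (kb xb29 yb10 zb7) (kb xb14 yb55 zb21) (kb xb19 yb57 zb21) (kb xb25 yb41 zb9) (kb xb22 yb0 zb19) (kb xb31 yb7 zb35) (kb xb15 yb31 zb26) (kb xb27 yb42 zb35) (kb xb14 yb55 zb25) (kb xb29 yb40 zb61) (kb xb14 yb55 zb27) (kb xb27 yb4 zb9) (kb xb31 yb37 zb55) (kb xb29 yb59 zb41) (kb xb25 yb37 zb7) (kb xb14 yb55 zb33) (kb xb15 yb49 zb53) (kb xb17 yb29 zb23) (kb xb17 yb45 zb16) (kb xb15 yb45 zb25) (kb xb29 yb43 zb48)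 (kb xb14 yb55 zb36) (kb xb15 yb53 zb35)) (@D3.rec (fun _ => Pt) (kb xb15 yb53 zb37) (kb xb14 yb55 zb37) (kb xb30 yb4 zb1) (kb xb30 yb7 zb12) (kb xb22 yb11 zb29) (kb xb19 yb16 zb44) (kb xb14 yb55 zb43) (kb xb26 yb17 zb3) (kb xb29 yb50 zb51) (kb xb14 yb55 zb45) (kb xb16 yb16 zb24) (kb xb30 yb5 zb14) (kb xb21 yb18 zb59) (kb xb16 yb2 zb50) (kb xb14 yb55 zb51) (kb xb21 yb49 zb7) (kb xb21 yb32 zb61) (kb xb24 yb41 zb23) (kb xb14 yb55 zb48) (kb xb24 yb44 zb60) (kb xb26 yb14 zb34) (kb xb24 yb42 zb21) (kb xb21 yb28 zb0) (kb xb22 yb2 zb29) (kb xb17 yb42 zb39) (kb xb14 yb55 zb58) (kb xb27 yb11 zb7) (kb xb24 yb41 zb52) (kb xb19 yb57 zb19) (kb xb14 yb55 zb61) (kb xb30 yb16 zb50) (kb xb16 yb1 zb3) (kb xb20 yb54 zb54) (kb xb21 yb21 zb51) (kb xb22 yb8 zb7) (kb xb21 yb37 zb6) (kb xb14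 yb56 zb12) (kb xb27 yb47 zb29) (kb xb24 yb41 zb48) (kb xb14 yb56 zb10) (kb xb17 yb30 zb46) (kb xb14 yb56 zb14) (kb xb31 yb38 zb0) (kb xb21 yb39 zb3) (kb xb23 yb30 zb18) (kb xb30 yb10 zb23) (kb xb23 yb29 zb30) (kb xb14 yb56 zb18) (kb xb16 yb5 zb53) (kb xb28 yb31 zb15) (kb xb29 yb48 zb60) (kb xb26 yb1 zb10) (kb xb25 yb28 zb6) (kb xb14 yb56 zb21) (kb xb25 yb34 zb36) (kb xb15 yb41 zb29) (kb xb29 yb6 zb29) (kb xb14 yb56 zb26) (kb xb14 yb56 zb25) (kb xb14 yb56 zb28) (kb xb24 yb30 zb46) (kb xb29 yb6 zb21)) (@D3.rec (fun _ => Pt) (kb xb14 yb56 zb29) (kb xb27 yb46 zb44) (kb xb31 yb38 zb6) (kb xb22 yb42 zb0) (kb xb23 yb17 zb52) (kb xb26 yb57 zb45) (kb xb14 yb56 zb39) (kb xb16 yb17 zb30) (kb xb14 yb59 zb8) (kb xb25 yb3 zb22) (kb xb18 yb8 zb38) (kb xb21 yb4 zb33) (kb xb14 yb56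 zb50) (kb xb18 yb16 zb39) (kb xb27 yb31 zb29) (kb xb27 yb31 zb13) (kb xb14 yb56 zb51) (kb xb26 yb13 zb46) (kb xb31 yb38 zb9) (kb xb28 yb17 zb1) (kb xb31 yb38 zb10) (kb xb24 yb40 zb43) (kb xb14 yb56 zb54) (kb xb24 yb28 zb29) (kb xb26 yb48 zb53) (kb xb29 yb24 zb16) (kb xb21 yb28 zb43) (kb xb15 yb44 zb1) (kb xb14 yb56 zb60) (kb xb26 yb2 zb22) (kb xb17 yb37 zb26) (kb xb17 yb37 zb29) (kb xb15 yb45 zb45) (kb xb31 yb7 zb25) (kb xb14 yb57 zb2) (kb xb27 yb28 zb30) (kb xb31 yb38 zb12) (kb xb27 yb28 zb51) (kb xb15 yb34 zb53) (kb xb14 yb57 zb9) (kb xb15 yb49 zb15) (kb xb17 yb17 zb48) (kb xb23 yb22 zb19) (kb xb14 yb57 zb15) (kb xb27 yb45 zb31) (kb xb14 yb57 zb17) (kb xb31 yb11 zb26) (kb xb25 yb47 zb9) (kb xb18 yb8 zb19) (kb xb16 yb15 zb40) (kb xb18 yb6 zb10) (kb xb23 yb34 zb43)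 (kb xb14 yb57 zb21) (kb xb14 yb57 zb22) (kb xb21 yb58 zb27) (kb xb17 yb54 zb42) (kb xb31 yb38 zb16) (kb xb28 yb1 zb55) (kb xb27 yb30 zb33) (kb xb21 yb23 zb14) (kb xb24 yb43 zb19) (kb xb14 yb57 zb28)) (@D3.rec (fun _ => Pt) (kb xb31 yb38 zb20) (kb xb27 yb24 zb53) (kb xb30 yb12 zb48) (kb xb18 yb7 zb19) (kb xb21 yb23 zb26) (kb xb16 yb17 zb33) (kb xb16 yb17 zb34) (kb xb14 yb58 zb29) (kb xb14 yb57 zb45) (kb xb21 yb25 zb61) (kb xb26 yb14 zb27) (kb xb14 yb57 zb46) (kb xb16 yb17 zb49) (kb xb14 yb57 zb49) (kb xb15 yb44 zb43) (kb xb21 yb23 zb25) (kb xb16 yb18 zb3) (kb xb14 yb57 zb52) (kb xb16 yb0 zb47) (kb xb15 yb44 zb27) (kb xb14 yb57 zb51) (kb xb21 yb46 zb51) (kb xb18 yb18 zb14) (kb xb16 yb18 zb1) (kb xb27 yb28 zb9) (kb xb27 yb30 zb42) (kb xb25 yb1 zb26) (kb xb16 yb6 zb46)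 (kb xb25 yb38 zb26) (kb xb16 yb18 zb13) (kb xb14 yb57 zb58) (kb xb14 yb57 zb59) (kb xb16 yb21 zb56) (kb xb18 yb7 zb17) (kb xb14 yb58 zb3) (kb xb14 yb58 zb0) (kb xb27 yb27 zb50) (kb xb14 yb58 zb1) (kb xb27 yb28 zb11) (kb xb18 yb16 zb38) (kb xb15 yb23 zb30) (kb xb27 yb44 zb61) (kb xb27 yb34 zb37) (kb xb14 yb58 zb5) (kb xb21 yb25 zb54) (kb xb28 yb6 zb32) (kb xb15 yb15 zb4) (kb xb15 yb47 zb53) (kb xb14 yb58 zb14) (kb xb21 yb22 zb53) (kb xb18 yb49 zb51) (kb xb29 yb53 zb46) (kb xb16 yb20 zb55) (kb xb14 yb58 zb25) (kb xb31 yb0 zb16) (kb xb31 yb6 zb10) (kb xb31 yb38 zb40) (kb xb28 yb9 zb46) (kb xb14 yb58 zb28) (kb xb28 yb0 zb2) (kb xb14 yb58 zb31) (kb xb20 yb8 zb17)) (@D3.rec (fun _ => Pt) (kb xb24 yb58 zb61) (kb xb15 yb11 zb1) (kb xb28 yb43 zb31) (kb xb23 yb7 zb8) (kb xb14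 yb58 zb41) (kb xb23 yb36 zb43) (kb xb28 yb46 zb19) (kb xb18 yb22 zb27) (kb xb18 yb36 zb24) (kb xb14 yb58 zb44) (kb xb31 yb38 zb47) (kb xb14 yb59 zb0) (kb xb20 yb21 zb9) (kb xb19 yb15 zb47) (kb xb14 yb58 zb52) (kb xb14 yb58 zb53) (kb xb20 yb46 zb22) (kb xb31 yb38 zb53) (kb xb16 yb18 zb18) (kb xb21 yb53 zb4) (kb xb23 yb51 zb11) (kb xb28 yb17 zb37) (kb xb16 yb18 zb19) (kb xb28 yb19 zb59) (kb xb18 yb49 zb54) (kb xb14 yb59 zb22) (kb xb20 yb7 zb7) (kb xb28 yb23 zb1) (kb xb16 yb22 zb25) (kb xb19 yb19 zb36) (kb xb27 yb55 zb41) (kb xb14 yb59 zb2) (kb xb31 yb38 zb51) (kb xb28 yb27 zb2) (kb xb26 yb55 zb34) (kb xb22 yb52 zb38) (kb xb27 yb31 zb16) (kb xb20 yb21 zb13) (kb xb14 yb59 zb7) (kb xb14 yb59 zb9) (kb xb30 yb54 zb7) (kb xb14 yb59 zb14) (kb xb14 yb59 zb15) (kb xb14 yb59 zb12)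 (kb xb25 yb1 zb8) (kb xb14 yb59 zb13) (kb xb16 yb15 zb49) (kb xb26 yb13 zb26) (kb xb26 yb19 zb7) (kb xb28 yb21 zb31) (kb xb31 yb32 zb58) (kb xb14 yb59 zb17) (kb xb27 yb39 zb34) (kb xb18 yb3 zb41) (kb xb14 yb59 zb21) (kb xb22 yb18 zb24) (kb xb23 yb5 zb10) (kb xb23 yb8 zb57) (kb xb17 yb24 zb18) (kb xb20 yb30 zb6) (kb xb14 yb59 zb32) (kb xb14 yb59 zb33)) (@D3.rec (fun _ => Pt) (kb xb19 yb23 zb57) (kb xb20 yb45 zb29) (kb xb17 yb0 zb59) (kb xb17 yb0 zb60) (kb xb17 yb10 zb35) (kb xb29 yb14 zb53) (kb xb26 yb47 zb53) (kb xb19 yb55 zb33) (kb xb28 yb12 zb14) (kb xb14 yb59 zb45) (kb xb19 yb50 zb2) (kb xb20 yb1 zb21) (kb xb20 yb1 zb24) (kb xb14 yb59 zb53) (kb xb19 yb4 zb28) (kb xb19 yb18 zb41) (kb xb31 yb11 zb38) (kb xb23 yb59 zb36) (kb xb16 yb28 zb5) (kb xb20 yb29 zb55) (kb xb15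 yb0 zb1) (kb xb23 yb7 zb17) (kb xb31 yb39 zb4) (kb xb27 yb5 zb26) (kb xb20 yb6 zb13) (kb xb16 yb30 zb40) (kb xb17 yb0 zb20) (kb xb15 yb8 zb5) (kb xb31 yb39 zb7) (kb xb15 yb0 zb14) (kb xb15 yb0 zb15) (kb xb16 yb30 zb56) (kb xb15 yb0 zb25) (kb xb30 yb21 zb15) (kb xb15 yb0 zb20) (kb xb20 yb25 zb42) (kb xb31 yb35 zb28) (kb xb28 yb18 zb3) (kb xb28 yb44 zb9) (kb xb18 yb20 zb55) (kb xb24 yb30 zb38) (kb xb16 yb32 zb40) (kb xb22 yb18 zb41) (kb xb15 yb0 zb29) (kb xb18 yb8 zb52) (kb xb18 yb19 zb33) (kb xb23 yb34 zb15) (kb xb31 yb39 zb11) (kb xb18 yb28 zb25) (kb xb15 yb0 zb26) (kb xb29 yb39 zb37) (kb xb29 yb53 zb47) (kb xb30 yb45 zb55) (kb xb15 yb0 zb34) (kb xb15 yb0 zb33) (kb xb20 yb46 zb50) (kb xb27 yb34 zb4) (kb xb25 yb3 zb51) (kb xb18 yb6 zb49) (kb xb15 yb0 zb36) (kb xb15 yb0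 zb37) (kb xb31 yb39 zb14)) (@D3.rec (fun _ => Pt) (kb xb26 yb29 zb15) (kb xb17 yb46 zb44) (kb xb18 yb47 zb7) (kb xb15 yb0 zb39) (kb xb15 yb0 zb40) (kb xb31 yb39 zb19) (kb xb31 yb14 zb40) (kb xb31 yb39 zb22) (kb xb27 yb35 zb7) (kb xb15 yb0 zb42) (kb xb31 yb39 zb24) (kb xb28 yb31 zb55) (kb xb24 yb48 zb25) (kb xb24 yb48 zb30) (kb xb28 yb32 zb49) (kb xb15 yb0 zb47) (kb xb15 yb0 zb45) (kb xb30 yb45 zb30) (kb xb31 yb39 zb28) (kb xb28 yb4 zb34) (kb xb26 yb31 zb20) (kb xb15 yb0 zb48) (kb xb31 yb39 zb30) (kb xb26 yb30 zb36) (kb xb23 yb53 zb55) (kb xb24 yb48 zb12) (kb xb31 yb39 zb31) (kb xb23 yb54 zb13) (kb xb31 yb39 zb32) (kb xb15 yb0 zb52) (kb xb24 yb48 zb13) (kb xb31 yb39 zb35) (kb xb15 yb18 zb46) (kb xb15 yb1 zb35) (kb xb15 yb0 zb55) (kb xb15 yb0 zb56) (kb xb31 yb39 zb37)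 (kb xb16 yb37 zb54) (kb xb15 yb0 zb59) (kb xb24 yb50 zb46) (kb xb27 yb12 zb9) (kb xb31 yb39 zb40) (kb xb15 yb20 zb7) (kb xb15 yb2 zb6) (kb xb15 yb0 zb61) (kb xb15 yb1 zb0) (kb xb25 yb19 zb45) (kb xb15 yb1 zb58) (kb xb19 yb57 zb53) (kb xb28 yb31 zb20) (kb xb19 yb20 zb25) (kb xb19 yb20 zb26) (kb xb31 yb39 zb47) (kb xb22 yb5 zb33) (kb xb15 yb3 zb5) (kb xb15 yb1 zb8) (kb xb17 yb50 zb38) (kb xb31 yb20 zb49) (kb xb31 yb39 zb49) (kb xb15 yb2 zb55) (kb xb26 yb37 zb41) (kb xb31 yb39 zb53)) (@D3.rec (fun _ => Pt) (kb xb17 yb52 zb46) (kb xb15 yb1 zb12) (kb xb15 yb1 zb13) (kb xb19 yb4 zb47) (kb xb15 yb2 zb34) (kb xb31 yb39 zb48) (kb xb31 yb39 zb55) (kb xb17 yb48 zb58) (kb xb15 yb1 zb15) (kb xb31 yb39 zb59) (kb xb26 yb2 zb6) (kb xb24 yb52 zb26) (kb xb15 yb1 zb18) (kb xb30 yb6 zb12)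 (kb xb16 yb19 zb2) (kb xb26 yb47 zb39) (kb xb31 yb39 zb61) (kb xb15 yb1 zb22) (kb xb15 yb1 zb23) (kb xb31 yb40 zb0) (kb xb31 yb40 zb4) (kb xb30 yb28 zb26) (kb xb28 yb55 zb16) (kb xb31 yb40 zb6) (kb xb31 yb40 zb8) (kb xb28 yb36 zb39) (kb xb27 yb30 zb5) (kb xb19 yb55 zb26) (kb xb15 yb1 zb28) (kb xb15 yb1 zb29) (kb xb19 yb33 zb15) (kb xb31 yb40 zb13) (kb xb31 yb40 zb14) (kb xb28 yb55 zb4) (kb xb19 yb29 zb13) (kb xb15 yb1 zb31) (kb xb15 yb1 zb32) (kb xb31 yb40 zb20) (kb xb31 yb40 zb23) (kb xb15 yb1 zb33) (kb xb31 yb40 zb26) (kb xb15 yb1 zb34) (kb xb29 yb35 zb34) (kb xb29 yb15 zb5) (kb xb27 yb36 zb57) (kb xb15 yb1 zb42) (kb xb15 yb1 zb43) (kb xb15 yb1 zb38) (kb xb16 yb58 zb30) (kb xb27 yb37 zb13) (kb xb24 yb49 zb55) (kb xb30 yb27 zb12) (kb xb31 yb34 zb21) (kb xb28 yb51 zb29)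 (kb xb30 yb27 zb14) (kb xb24 yb49 zb50) (kb xb24 yb33 zb24) (kb xb26 yb54 zb44) (kb xb15 yb1 zb44) (kb xb29 yb15 zb16) (kb xb20 yb50 zb22) (kb xb24 yb33 zb50)) (@D3.rec (fun _ => Pt) (kb xb26 yb5 zb47) (kb xb19 yb28 zb31) (kb xb22 yb1 zb61) (kb xb15 yb36 zb45) (kb xb15 yb1 zb50) (kb xb31 yb26 zb60) (kb xb27 yb30 zb11) (kb xb27 yb30 zb12) (kb xb24 yb52 zb42) (kb xb28 yb55 zb3) (kb xb29 yb2 zb20) (kb xb31 yb40 zb48) (kb xb28 yb55 zb5) (kb xb15 yb1 zb57) (kb xb28 yb59 zb37) (kb xb24 yb52 zb15) (kb xb15 yb1 zb60) (kb xb15 yb1 zb61) (kb xb31 yb40 zb54) (kb xb29 yb43 zb46) (kb xb31 yb40 zb49) (kb xb31 yb24 zb0) (kb xb31 yb39 zb46) (kb xb27 yb12 zb8) (kb xb30 yb0 zb15) (kb xb19 yb57 zb51) (kb xb28 yb56 zb44) (kb xb31 yb40 zb53) (kb xb15 yb2 zb0) (kb xb28 yb45 zb10) (kb xb17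 yb48 zb38) (kb xb29 yb6 zb50) (kb xb25 yb37 zb22) (kb xb15 yb2 zb3) (kb xb31 yb28 zb38) (kb xb15 yb2 zb4) (kb xb31 yb41 zb10) (kb xb15 yb2 zb5) (kb xb31 yb39 zb44) (kb xb29 yb11 zb16) (kb xb19 yb32 zb47) (kb xb15 yb2 zb13) (kb xb29 yb11 zb17) (kb xb17 yb34 zb26) (kb xb15 yb27 zb29) (kb xb15 yb2 zb11) (kb xb24 yb48 zb39) (kb xb29 yb20 zb32) (kb xb25 yb32 zb33) (kb xb26 yb44 zb53) (kb xb15 yb2 zb19) (kb xb19 yb20 zb17) (kb xb25 yb9 zb37) (kb xb29 yb2 zb33) (kb xb24 yb10 zb34) (kb xb15 yb2 zb24) (kb xb28 yb57 zb23) (kb xb26 yb54 zb1) (kb xb15 yb2 zb27) (kb xb15 yb2 zb28) (kb xb20 yb54 zb19) (kb xb19 yb58 zb31)) (@D3.rec (fun _ => Pt) (kb xb31 yb41 zb16) (kb xb27 yb11 zb50) (kb xb15 yb2 zb25) (kb xb19 yb58 zb2) (kb xb31 yb41 zb20) (kb xb15 yb2 zb26) (kb xb19 yb57 zb54)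 (kb xb29 yb7 zb19) (kb xb27 yb36 zb60) (kb xb24 yb52 zb0) (kb xb22 yb7 zb50) (kb xb22 yb7 zb43) (kb xb15 yb2 zb31) (kb xb25 yb20 zb1) (kb xb19 yb20 zb10) (kb xb15 yb2 zb40) (kb xb19 yb20 zb13) (kb xb26 yb37 zb40) (kb xb26 yb3 zb17) (kb xb18 yb33 zb30) (kb xb25 yb19 zb33) (kb xb25 yb48 zb30) (kb xb15 yb2 zb38) (kb xb26 yb1 zb60) (kb xb22 yb7 zb37) (kb xb27 yb22 zb51) (kb xb19 yb11 zb15) (kb xb20 yb55 zb52) (kb xb15 yb2 zb41) (kb xb28 yb14 zb24) (kb xb15 yb2 zb42) (kb xb19 yb50 zb32) (kb xb31 yb41 zb28) (kb xb25 yb10 zb61) (kb xb25 yb11 zb0) (kb xb31 yb41 zb35) (kb xb27 yb22 zb53) (kb xb15 yb44 zb51) (kb xb15 yb2 zb46) (kb xb31 yb36 zb57) (kb xb28 yb51 zb35) (kb xb15 yb2 zb47) (kb xb15 yb2 zb48) (kb xb31 yb41 zb42) (kb xb31 yb41 zb8) (kb xb31 yb41 zb38) (kb xb26 yb54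 zb21) (kb xb31 yb41 zb46) (kb xb31 yb41 zb41) (kb xb27 yb22 zb52) (kb xb15 yb2 zb51) (kb xb25 yb16 zb58) (kb xb29 yb17 zb58) (kb xb28 yb19 zb16) (kb xb26 yb37 zb44) (kb xb19 yb17 zb48) (kb xb15 yb2 zb58) (kb xb15 yb53 zb50) (kb xb15 yb2 zb60) (kb xb31 yb41 zb49) (kb xb25 yb9 zb18) (kb xb15 yb3 zb0)) (@D3.rec (fun _ => Pt) (kb xb24 yb51 zb9) (kb xb24 yb39 zb58) (kb xb29 yb35 zb33) (kb xb29 yb35 zb32) (kb xb31 yb8 zb8) (kb xb15 yb53 zb45) (kb xb25 yb9 zb19) (kb xb25 yb10 zb60) (kb xb19 yb9 zb8) (kb xb25 yb11 zb6) (kb xb29 yb2 zb39) (kb xb15 yb3 zb7) (kb xb25 yb9 zb42) (kb xb31 yb41 zb54) (kb xb15 yb3 zb8) (kb xb24 yb50 zb15) (kb xb31 yb41 zb55) (kb xb31 yb41 zb56) (kb xb15 yb3 zb12) (kb xb15 yb3 zb11) (kb xb26 yb54 zb17) (kb xb25 yb37 zb3) (kb xb23 yb21 zb11) (kb xb19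 yb48 zb26) (kb xb19 yb48 zb27) (kb xb15 yb3 zb16) (kb xb24 yb49 zb11) (kb xb31 yb41 zb57) (kb xb15 yb37 zb39) (kb xb15 yb3 zb20) (kb xb15 yb3 zb24) (kb xb15 yb3 zb23) (kb xb16 yb4 zb36) (kb xb31 yb41 zb59) (kb xb27 yb38 zb43) (kb xb15 yb3 zb33) (kb xb15 yb3 zb34) (kb xb27 yb37 zb41) (kb xb19 yb6 zb16) (kb xb15 yb3 zb30) (kb xb15 yb3 zb31) (kb xb25 yb9 zb33) (kb xb24 yb50 zb8) (kb xb21 yb59 zb48) (kb xb25 yb19 zb9) (kb xb15 yb43 zb44) (kb xb31 yb42 zb0) (kb xb15 yb3 zb38) (kb xb15 yb3 zb39) (kb xb29 yb8 zb58) (kb xb29 yb4 zb26) (kb xb29 yb8 zb59) (kb xb15 yb3 zb40) (kb xb20 yb54 zb43) (kb xb17 yb55 zb55) (kb xb16 yb21 zb4) (kb xb17 yb55 zb37) (kb xb20 yb0 zb56) (kb xb17 yb54 zb49) (kb xb23 yb6 zb28) (kb xb28 yb46 zb9) (kb xb16 yb19 zb32)) (@D3.rec (fun _ => Pt) (kb xb15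 yb3 zb54) (kb xb31 yb7 zb46) (kb xb26 yb26 zb50) (kb xb15 yb3 zb60) (kb xb31 yb42 zb2) (kb xb15 yb4 zb5) (kb xb30 yb24 zb55) (kb xb17 yb29 zb52) (kb xb15 yb4 zb10) (kb xb18 yb21 zb24) (kb xb17 yb9 zb53) (kb xb17 yb29 zb61) (kb xb17 yb55 zb34) (kb xb20 yb15 zb49) (kb xb15 yb4 zb22) (kb xb20 yb14 zb40) (kb xb26 yb52 zb15) (kb xb15 yb4 zb29) (kb xb15 yb4 zb32) (kb xb17 yb15 zb9) (kb xb16 yb48 zb60) (kb xb29 yb42 zb4) (kb xb15 yb8 zb39) (kb xb16 yb10 zb34) (kb xb31 yb26 zb12) (kb xb31 yb26 zb11) (kb xb25 yb5 zb11) (kb xb20 yb35 zb9) (kb xb28 yb47 zb61) (kb xb24 yb5 zb48) (kb xb28 yb21 zb51) (kb xb17 yb22 zb50) (kb xb20 yb18 zb53) (kb xb22 yb40 zb25) (kb xb23 yb48 zb29) (kb xb26 yb59 zb8) (kb xb15 yb5 zb17) (kb xb20 yb6 zb60) (kb xb19 yb59 zb52) (kb xb28 yb37 zb34) (kb xb17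 yb21 zb0) (kb xb23 yb50 zb0) (kb xb17 yb31 zb42) (kb xb15 yb5 zb39) (kb xb15 yb5 zb40) (kb xb15 yb5 zb45) (kb xb29 yb20 zb11) (kb xb18 yb35 zb26) (kb xb31 yb42 zb7) (kb xb15 yb5 zb47) (kb xb18 yb35 zb18) (kb xb31 yb42 zb11) (kb xb31 yb42 zb9) (kb xb27 yb53 zb38) (kb xb24 yb55 zb13) (kb xb15 yb5 zb50) (kb xb27 yb51 zb28) (kb xb15 yb6 zb3) (kb xb19 yb1 zb28) (kb xb22 yb41 zb46) (kb xb15 yb5 zb53) (kb xb28 yb6 zb61)) (@D3.rec (fun _ => Pt) (kb xb23 yb51 zb28) (kb xb15 yb5 zb54) (kb xb29 yb18 zb28) (kb xb23 yb51 zb45) (kb xb18 yb27 zb35) (kb xb26 yb20 zb54) (kb xb15 yb5 zb61) (kb xb17 yb46 zb58) (kb xb28 yb24 zb25) (kb xb18 yb58 zb44) (kb xb22 yb49 zb32) (kb xb19 yb49 zb31) (kb xb20 yb21 zb56) (kb xb19 yb39 zb61) (kb xb19 yb40 zb0) (kb xb26 yb0 zb37) (kb xb21 yb57 zb51)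 (kb xb21 yb57 zb52) (kb xb30 yb55 zb57) (kb xb22 yb21 zb17) (kb xb16 yb9 zb50) (kb xb15 yb6 zb18) (kb xb24 yb56 zb61) (kb xb15 yb6 zb26) (kb xb26 yb4 zb28) (kb xb16 yb7 zb45) (kb xb31 yb42 zb32) (kb xb29 yb20 zb33) (kb xb15 yb6 zb36) (kb xb30 yb12 zb14) (kb xb20 yb13 zb27) (kb xb21 yb52 zb61) (kb xb31 yb42 zb36) (kb xb15 yb6 zb25) (kb xb31 yb42 zb37) (kb xb15 yb6 zb27) (kb xb27 yb57 zb31) (kb xb19 yb1 zb22) (kb xb25 yb45 zb44) (kb xb26 yb28 zb59) (kb xb15 yb6 zb35) (kb xb15 yb6 zb34) (kb xb23 yb23 zb59) (kb xb27 yb55 zb51) (kb xb15 yb39 zb35) (kb xb17 yb21 zb31) (kb xb15 yb25 zb59) (kb xb31 yb35 zb36) (kb xb15 yb6 zb47) (kb xb27 yb39 zb47) (kb xb26 yb2 zb50) (kb xb15 yb39 zb47) (kb xb15 yb6 zb49) (kb xb26 yb10 zb57) (kb xb17 yb44 zb15) (kb xb27 yb54 zb4) (kb xb26 yb10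 zb60) (kb xb30 yb11 zb2) (kb xb17 yb44 zb12) (kb xb26 yb10 zb51) (kb xb15 yb6 zb55) (kb xb15 yb6 zb56)) (@D3.rec (fun _ => Pt) (kb xb27 yb26 zb59) (kb xb27 yb26 zb60) (kb xb29 yb25 zb13) (kb xb15 yb9 zb43) (kb xb31 yb42 zb46) (kb xb17 yb44 zb23) (kb xb30 yb35 zb50) (kb xb15 yb6 zb59) (kb xb31 yb42 zb51) (kb xb18 yb28 zb60) (kb xb28 yb7 zb41) (kb xb28 yb7 zb45) (kb xb16 yb20 zb58) (kb xb24 yb53 zb54) (kb xb19 yb15 zb30) (kb xb26 yb13 zb52) (kb xb15 yb7 zb2) (kb xb27 yb27 zb46) (kb xb15 yb7 zb1) (kb xb31 yb42 zb59) (kb xb24 yb18 zb28) (kb xb26 yb15 zb20) (kb xb16 yb20 zb59) (kb xb27 yb25 zb25) (kb xb17 yb41 zb35) (kb xb28 yb30 zb43) (kb xb27 yb38 zb25) (kb xb15 yb7 zb8) (kb xb27 yb28 zb61) (kb xb18 yb45 zb24) (kb xb16 yb20 zb57) (kb xb18 yb59 zb4) (kb xb15 yb10 zb0) (kb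 xb27 yb28 zb60) (kb xb19 yb0 zb51) (kb xb18 yb59 zb8) (kb xb21 yb37 zb13) (kb xb20 yb0 zb5) (kb xb30 yb25 zb7) (kb xb15 yb7 zb16) (kb xb27 yb25 zb16) (kb xb26 yb20 zb53) (kb xb20 yb7 zb47) (kb xb26 yb53 zb16) (kb xb21 yb29 zb59) (kb xb15 yb7 zb20) (kb xb19 yb15 zb23) (kb xb27 yb48 zb25) (kb xb15 yb7 zb19) (kb xb27 yb27 zb2) (kb xb27 yb45 zb21) (kb xb20 yb21 zb33) (kb xb20 yb30 zb21) (kb xb28 yb17 zb21) (kb xb17 yb44 zb42) (kb xb17 yb44 zb43) (kb xb20 yb21 zb36) (kb xb21 yb15 zb43) (kb xb24 yb28 zb22) (kb xb15 yb7 zb23) (kb xb31 yb43 zb9) (kb xb27 yb47 zb19)) (@D3.rec (fun _ => Pt) (kb xb15 yb7 zb24) (kb xb17 yb36 zb50) (kb xb15 yb11 zb47) (kb xb26 yb15 zb60) (kb xb26 yb16 zb31) (kb xb15 yb7 zb26) (kb xb15 yb7 zb27) (kb xb24 yb59 zb8) (kb xb27 yb26 zb46) (kb xb27 yb28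 zb58) (kb xb17 yb40 zb49) (kb xb15 yb11 zb57) (kb xb27 yb31 zb41) (kb xb17 yb44 zb32) (kb xb18 yb29 zb9) (kb xb22 yb32 zb19) (kb xb15 yb7 zb45) (kb xb28 yb44 zb47) (kb xb15 yb7 zb48) (kb xb29 yb25 zb21) (kb xb15 yb7 zb34) (kb xb27 yb28 zb4) (kb xb15 yb11 zb36) (kb xb15 yb7 zb35) (kb xb31 yb43 zb13) (kb xb22 yb36 zb25) (kb xb18 yb4 zb54) (kb xb18 yb29 zb14) (kb xb15 yb7 zb38) (kb xb15 yb7 zb39) (kb xb18 yb13 zb21) (kb xb22 yb47 zb20) (kb xb15 yb14 zb15) (kb xb29 yb24 zb47) (kb xb27 yb47 zb3) (kb xb30 yb24 zb21) (kb xb15 yb7 zb46) (kb xb30 yb44 zb19) (kb xb18 yb15 zb57) (kb xb15 yb7 zb47) (kb xb28 yb26 zb28) (kb xb23 yb6 zb29) (kb xb28 yb0 zb7) (kb xb28 yb24 zb24) (kb xb16 yb31 zb60) (kb xb16 yb28 zb20) (kb xb15 yb50 zb16) (kb xb15 yb12 zb50) (kb xb28 yb14 zb2) (kb xb30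 yb1 zb55) (kb xb26 yb2 zb18) (kb xb22 yb58 zb3) (kb xb30 yb38 zb13) (kb xb20 yb30 zb42) (kb xb20 yb30 zb43) (kb xb31 yb39 zb6) (kb xb21 yb29 zb60) (kb xb18 yb2 zb11) (kb xb16 yb24 zb31) (kb xb15 yb8 zb10) (kb xb15 yb8 zb12) (kb xb24 yb54 zb22)) (@D3.rec (fun _ => Pt) (kb xb15 yb8 zb34) (kb xb23 yb22 zb22) (kb xb22 yb34 zb20) (kb xb15 yb8 zb37) (kb xb18 yb43 zb7) (kb xb26 yb29 zb31) (kb xb15 yb8 zb27) (kb xb20 yb30 zb17) (kb xb31 yb22 zb4) (kb xb22 yb59 zb61) (kb xb20 yb32 zb45) (kb xb24 yb5 zb29) (kb xb24 yb6 zb33) (kb xb31 yb43 zb22) (kb xb15 yb8 zb23) (kb xb31 yb43 zb27) (kb xb15 yb8 zb25) (kb xb21 yb2 zb49) (kb xb15 yb8 zb26) (kb xb18 yb9 zb16) (kb xb18 yb9 zb15) (kb xb26 yb6 zb9) (kb xb20 yb35 zb50) (kb xb21 yb31 zb57) (kb xb26 yb30 zb14) (kb xb26 yb30 zb15) (kb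 xb15 yb8 zb36) (kb xb16 yb51 zb44) (kb xb15 yb8 zb38) (kb xb15 yb8 zb33) (kb xb29 yb53 zb55) (kb xb15 yb8 zb35) (kb xb31 yb43 zb21) (kb xb18 yb38 zb48) (kb xb15 yb49 zb26) (kb xb23 yb6 zb24) (kb xb20 yb6 zb1) (kb xb31 yb43 zb35) (kb xb15 yb8 zb45) (kb xb15 yb8 zb47) (kb xb15 yb8 zb48) (kb xb15 yb8 zb44) (kb xb28 yb26 zb6) (kb xb23 yb56 zb39) (kb xb15 yb8 zb50) (kb xb24 yb59 zb49) (kb xb22 yb17 zb29) (kb xb31 yb1 zb6) (kb xb29 yb0 zb41) (kb xb16 yb19 zb50) (kb xb18 yb59 zb16) (kb xb28 yb32 zb15) (kb xb21 yb12 zb9) (kb xb15 yb29 zb57) (kb xb29 yb58 zb55) (kb xb15 yb17 zb8) (kb xb26 yb3 zb45) (kb xb15 yb9 zb4) (kb xb29 yb40 zb60) (kb xb25 yb53 zb37) (kb xb31 yb43 zb40) (kb xb25 yb47 zb6)) (@D3.rec (fun _ => Pt) (kb xb15 yb9 zb5) (kb xb17 yb33 zb49) (kb xb15 yb46 zb33)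 (kb xb31 yb35 zb56) (kb xb15 yb17 zb19) (kb xb29 yb32 zb39) (kb xb17 yb14 zb42) (kb xb27 yb24 zb34) (kb xb15 yb19 zb45) (kb xb15 yb19 zb26) (kb xb20 yb14 zb14) (kb xb31 yb43 zb47) (kb xb15 yb9 zb14) (kb xb15 yb9 zb15) (kb xb31 yb43 zb49) (kb xb25 yb41 zb14) (kb xb26 yb37 zb4) (kb xb16 yb15 zb9) (kb xb16 yb41 zb13) (kb xb15 yb9 zb22) (kb xb16 yb36 zb32) (kb xb15 yb20 zb9) (kb xb24 yb36 zb38) (kb xb30 yb12 zb29) (kb xb15 yb9 zb27) (kb xb15 yb9 zb28) (kb xb15 yb9 zb25) (kb xb31 yb43 zb54) (kb xb15 yb9 zb26) (kb xb28 yb23 zb42) (kb xb19 yb24 zb44) (kb xb15 yb21 zb15) (kb xb15 yb9 zb32) (kb xb17 yb42 zb29) (kb xb15 yb9 zb31) (kb xb31 yb38 zb21) (kb xb15 yb21 zb11) (kb xb29 yb2 zb11) (kb xb15 yb20 zb60) (kb xb19 yb49 zb40) (kb xb27 yb35 zb46) (kb xb15 yb9 zb35) (kb xb18 yb10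 zb35) (kb xb15 yb21 zb25) (kb xb25 yb33 zb21) (kb xb25 yb27 zb60) (kb xb25 yb35 zb50) (kb xb18 yb26 zb54) (kb xb18 yb9 zb26) (kb xb17 yb46 zb61) (kb xb23 yb22 zb27) (kb xb30 yb35 zb32) (kb xb15 yb9 zb49) (kb xb15 yb9 zb50) (kb xb29 yb7 zb9) (kb xb28 yb1 zb6) (kb xb30 yb32 zb53) (kb xb28 yb0 zb51) (kb xb16 yb35 zb51) (kb xb27 yb48 zb49) (kb xb20 yb32 zb15) (kb xb24 yb46 zb0)) (@D3.rec (fun _ => Pt) (kb xb15 yb9 zb57) (kb xb25 yb23 zb51) (kb xb31 yb43 zb61) (kb xb25 yb1 zb43) (kb xb27 yb25 zb23) (kb xb15 yb9 zb60) (kb xb15 yb9 zb61) (kb xb31 yb44 zb1) (kb xb24 yb56 zb7) (kb xb15 yb12 zb61) (kb xb16 yb23 zb50) (kb xb18 yb40 zb52) (kb xb15 yb10 zb6) (kb xb15 yb10 zb4) (kb xb17 yb9 zb18) (kb xb30 yb46 zb28) (kb xb23 yb15 zb49) (kb xb15 yb10 zb5) (kb xb18 yb36 zb57) (kb xb27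 yb58 zb53) (kb xb28 yb28 zb37) (kb xb15 yb10 zb9) (kb xb31 yb6 zb4) (kb xb15 yb10 zb10) (kb xb31 yb44 zb3) (kb xb18 yb29 zb60) (kb xb29 yb19 zb6) (kb xb15 yb10 zb13) (kb xb15 yb12 zb16) (kb xb29 yb29 zb35) (kb xb28 yb34 zb45) (kb xb17 yb12 zb0) (kb xb25 yb16 zb14) (kb xb15 yb10 zb16) (kb xb22 yb55 zb35) (kb xb15 yb10 zb21) (kb xb15 yb10 zb19) (kb xb31 yb2 zb26) (kb xb28 yb12 zb9) (kb xb31 yb44 zb10) (kb xb18 yb21 zb8) (kb xb26 yb7 zb26) (kb xb28 yb2 zb13) (kb xb26 yb10 zb6) (kb xb15 yb10 zb30) (kb xb15 yb10 zb31) (kb xb29 yb28 zb37) (kb xb26 yb23 zb14) (kb xb15 yb10 zb29) (kb xb24 yb57 zb45) (kb xb22 yb17 zb30) (kb xb31 yb0 zb3) (kb xb30 yb37 zb36) (kb xb16 yb10 zb33) (kb xb15 yb10 zb34) (kb xb15 yb10 zb35) (kb xb21 yb57 zb6) (kb xb16 yb34 zb32) (kb xb28 yb2 zb6) (kb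 xb29 yb6 zb25) (kb xb15 yb10 zb45) (kb xb26 yb9 zb6))
def f_b_25 : D2 → D3 → Pt := @D2.rec (fun _ => D3 → Pt) (@D3.rec (fun _ => Pt) (kb xb18 yb19 zb13) (kb xb28 yb3 zb5) (kb xb18 yb10 zb47) (kb xb15 yb11 zb6) (kb xb27 yb31 zb60) (kb xb25 yb3 zb12) (kb xb15 yb10 zb55) (kb xb20 yb36 zb9) (kb xb28 yb2 zb60) (kb xb15 yb10 zb57) (kb xb28 yb10 zb42) (kb xb17 yb21 zb59) (kb xb15 yb12 zb57) (kb xb16 yb7 zb59) (kb xb28 yb5 zb23) (kb xb16 yb16 zb54) (kb xb15 yb11 zb11) (kb xb31 yb44 zb16) (kb xb15 yb11 zb14) (kb xb18 yb27 zb8) (kb xb28 yb22 zb12) (kb xb31 yb11 zb39) (kb xb15 yb13 zb43) (kb xb15 yb11 zb18) (kb xb15 yb11 zb19) (kb xb31 yb44 zb23) (kb xb31 yb44 zb17) (kb xb26 yb19 zb52) (kb xb31 yb44 zb26) (kb xb31 yb6 zb55) (kb xb17 yb41 zb1) (kb xb25 yb23 zb56) (kb xb15 yb11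 zb26) (kb xb18 yb28 zb5) (kb xb15 yb11 zb31) (kb xb15 yb11 zb34) (kb xb15 yb11 zb60) (kb xb18 yb28 zb58) (kb xb15 yb11 zb32) (kb xb16 yb33 zb4) (kb xb15 yb11 zb33) (kb xb31 yb44 zb29) (kb xb27 yb45 zb46) (kb xb31 yb44 zb32) (kb xb26 yb16 zb21) (kb xb30 yb20 zb26) (kb xb17 yb47 zb20) (kb xb15 yb11 zb42) (kb xb30 yb45 zb2) (kb xb18 yb28 zb37) (kb xb18 yb29 zb59) (kb xb18 yb38 zb8) (kb xb19 yb2 zb25) (kb xb19 yb2 zb15) (kb xb15 yb11 zb59) (kb xb18 yb9 zb31) (kb xb30 yb59 zb14) (kb xb17 yb45 zb61) (kb xb15 yb12 zb3) (kb xb15 yb12 zb5) (kb xb16 yb19 zb42) (kb xb18 yb29 zb31)) (@D3.rec (fun _ => Pt) (kb xb15 yb12 zb8) (kb xb18 yb46 zb42) (kb xb15 yb12 zb7) (kb xb31 yb44 zb34) (kb xb26 yb4 zb36) (kb xb27 yb47 zb24) (kb xb18 yb27 zb6) (kb xb18 yb29 zb27) (kb xb24 yb46 zb44)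 (kb xb28 yb32 zb3) (kb xb28 yb8 zb19) (kb xb15 yb12 zb14) (kb xb17 yb43 zb1) (kb xb18 yb29 zb40) (kb xb23 yb22 zb23) (kb xb26 yb13 zb31) (kb xb18 yb29 zb44) (kb xb18 yb29 zb57) (kb xb15 yb12 zb28) (kb xb15 yb12 zb51) (kb xb18 yb29 zb61) (kb xb15 yb12 zb24) (kb xb30 yb0 zb53) (kb xb31 yb11 zb43) (kb xb28 yb2 zb33) (kb xb29 yb29 zb55) (kb xb24 yb45 zb26) (kb xb30 yb31 zb53) (kb xb16 yb39 zb19) (kb xb23 yb7 zb35) (kb xb16 yb16 zb20) (kb xb15 yb12 zb33) (kb xb23 yb50 zb61) (kb xb27 yb48 zb13) (kb xb15 yb12 zb36) (kb xb15 yb12 zb37) (kb xb30 yb23 zb21) (kb xb29 yb7 zb39) (kb xb15 yb12 zb42) (kb xb18 yb13 zb14) (kb xb31 yb44 zb41) (kb xb15 yb12 zb43) (kb xb17 yb45 zb51) (kb xb24 yb59 zb3) (kb xb19 yb18 zb51) (kb xb27 yb26 zb18) (kb xb15 yb12 zb46) (kb xb15 yb12 zb47) (kb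 xb17 yb39 zb6) (kb xb25 yb2 zb26) (kb xb16 yb11 zb43) (kb xb23 yb33 zb23) (kb xb15 yb12 zb53) (kb xb27 yb23 zb55) (kb xb31 yb44 zb47) (kb xb22 yb53 zb13) (kb xb23 yb20 zb39) (kb xb19 yb0 zb18) (kb xb15 yb12 zb60) (kb xb26 yb45 zb58) (kb xb31 yb44 zb51) (kb xb29 yb18 zb61)) (@D3.rec (fun _ => Pt) (kb xb15 yb13 zb7) (kb xb27 yb42 zb11) (kb xb15 yb13 zb6) (kb xb23 yb31 zb52) (kb xb15 yb13 zb8) (kb xb28 yb23 zb39) (kb xb23 yb31 zb41) (kb xb23 yb32 zb56) (kb xb21 yb12 zb0) (kb xb27 yb12 zb38) (kb xb27 yb9 zb27) (kb xb15 yb13 zb12) (kb xb30 yb13 zb7) (kb xb15 yb13 zb19) (kb xb18 yb22 zb43) (kb xb16 yb21 zb60) (kb xb15 yb13 zb18) (kb xb31 yb44 zb58) (kb xb31 yb44 zb59) (kb xb26 yb8 zb33) (kb xb18 yb40 zb34) (kb xb30 yb25 zb1) (kb xb15 yb26 zb34) (kb xb25 yb46 zb16) (kb xb15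 yb13 zb24) (kb xb21 yb47 zb1) (kb xb25 yb1 zb49) (kb xb18 yb40 zb40) (kb xb20 yb30 zb61) (kb xb28 yb0 zb36) (kb xb15 yb13 zb28) (kb xb27 yb22 zb9) (kb xb16 yb12 zb14) (kb xb25 yb41 zb11) (kb xb21 yb28 zb14) (kb xb15 yb13 zb30) (kb xb19 yb53 zb58) (kb xb26 yb24 zb58) (kb xb15 yb13 zb35) (kb xb29 yb57 zb36) (kb xb31 yb45 zb2) (kb xb16 yb11 zb14) (kb xb18 yb29 zb51) (kb xb15 yb13 zb39) (kb xb28 yb26 zb3) (kb xb15 yb14 zb4) (kb xb28 yb28 zb7) (kb xb15 yb14 zb7) (kb xb29 yb54 zb15) (kb xb30 yb59 zb22) (kb xb23 yb15 zb36) (kb xb31 yb44 zb22) (kb xb15 yb13 zb47) (kb xb23 yb31 zb26) (kb xb18 yb3 zb4) (kb xb27 yb44 zb33) (kb xb15 yb13 zb53) (kb xb25 yb42 zb30) (kb xb18 yb33 zb40) (kb xb18 yb13 zb50) (kb xb18 yb13 zb5) (kb xb27 yb45 zb38)) (@D3.rec (fun _ => Pt) (kb xb21 yb15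 zb42) (kb xb21 yb28 zb45) (kb xb30 yb58 zb14) (kb xb15 yb14 zb0) (kb xb15 yb13 zb61) (kb xb30 yb59 zb12) (kb xb23 yb17 zb56) (kb xb15 yb14 zb3) (kb xb15 yb14 zb2) (kb xb23 yb18 zb35) (kb xb31 yb45 zb3) (kb xb23 yb6 zb33) (kb xb25 yb0 zb5) (kb xb16 yb34 zb52) (kb xb19 yb38 zb14) (kb xb17 yb45 zb40) (kb xb18 yb36 zb58) (kb xb15 yb14 zb16) (kb xb22 yb28 zb36) (kb xb16 yb20 zb33) (kb xb25 yb3 zb54) (kb xb27 yb48 zb7) (kb xb24 yb44 zb9) (kb xb28 yb9 zb23) (kb xb15 yb14 zb20) (kb xb25 yb3 zb57) (kb xb18 yb8 zb27) (kb xb18 yb8 zb26) (kb xb15 yb14 zb23) (kb xb16 yb17 zb4) (kb xb15 yb14 zb24) (kb xb31 yb45 zb8) (kb xb26 yb20 zb56) (kb xb30 yb35 zb42) (kb xb27 yb32 zb52) (kb xb26 yb16 zb24) (kb xb30 yb25 zb14) (kb xb27 yb45 zb60) (kb xb18 yb5 zb19) (kb xb15 yb14 zb31) (kb xb26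 yb12 zb28) (kb xb17 yb47 zb48) (kb xb18 yb16 zb11) (kb xb15 yb14 zb34) (kb xb17 yb47 zb43) (kb xb23 yb51 zb53) (kb xb30 yb4 zb59) (kb xb31 yb34 zb17) (kb xb30 yb11 zb22) (kb xb23 yb2 zb6) (kb xb27 yb32 zb19) (kb xb24 yb47 zb57) (kb xb27 yb55 zb29) (kb xb27 yb55 zb30) (kb xb25 yb3 zb20) (kb xb27 yb51 zb24) (kb xb22 yb14 zb51) (kb xb25 yb3 zb25) (kb xb15 yb14 zb54) (kb xb15 yb50 zb29) (kb xb15 yb14 zb55) (kb xb23 yb44 zb1)) (@D3.rec (fun _ => Pt) (kb xb15 yb14 zb57) (kb xb31 yb45 zb20) (kb xb23 yb22 zb5) (kb xb16 yb18 zb35) (kb xb27 yb26 zb36) (kb xb16 yb18 zb61) (kb xb15 yb15 zb2) (kb xb31 yb45 zb22) (kb xb15 yb15 zb5) (kb xb31 yb45 zb24) (kb xb15 yb15 zb6) (kb xb26 yb58 zb57) (kb xb16 yb43 zb11) (kb xb15 yb58 zb42) (kb xb15 yb15 zb9) (kb xb24 yb28 zb59) (kb xb21 yb3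 zb54) (kb xb15 yb15 zb12) (kb xb17 yb51 zb7) (kb xb16 yb45 zb33) (kb xb15 yb39 zb57) (kb xb15 yb15 zb16) (kb xb15 yb15 zb19) (kb xb18 yb2 zb3) (kb xb15 yb15 zb17) (kb xb18 yb5 zb40) (kb xb15 yb15 zb18) (kb xb25 yb35 zb2) (kb xb15 yb15 zb21) (kb xb31 yb45 zb27) (kb xb19 yb11 zb58) (kb xb15 yb15 zb23) (kb xb31 yb45 zb30) (kb xb15 yb15 zb25) (kb xb28 yb14 zb23) (kb xb24 yb13 zb46) (kb xb31 yb45 zb31) (kb xb15 yb15 zb26) (kb xb25 yb26 zb49) (kb xb19 yb19 zb42) (kb xb19 yb19 zb43) (kb xb28 yb50 zb46) (kb xb27 yb2 zb42) (kb xb15 yb38 zb51) (kb xb15 yb15 zb30) (kb xb23 yb51 zb52) (kb xb25 yb31 zb58) (kb xb15 yb15 zb31) (kb xb15 yb15 zb32) (kb xb30 yb26 zb40) (kb xb20 yb29 zb31) (kb xb27 yb44 zb4) (kb xb31 yb17 zb33) (kb xb31 yb26 zb5) (kb xb28 yb41 zb55) (kb xb16 yb46 zb3)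 (kb xb15 yb15 zb34) (kb xb16 yb26 zb61) (kb xb27 yb41 zb38) (kb xb15 yb15 zb36) (kb xb22 yb53 zb61) (kb xb25 yb40 zb18)) (@D3.rec (fun _ => Pt) (kb xb23 yb28 zb39) (kb xb27 yb43 zb60) (kb xb31 yb3 zb50) (kb xb31 yb45 zb44) (kb xb23 yb27 zb40) (kb xb19 yb34 zb50) (kb xb15 yb15 zb39) (kb xb24 yb3 zb36) (kb xb15 yb15 zb41) (kb xb16 yb49 zb19) (kb xb26 yb44 zb24) (kb xb24 yb53 zb26) (kb xb15 yb22 zb36) (kb xb20 yb50 zb28) (kb xb15 yb19 zb47) (kb xb27 yb44 zb36) (kb xb26 yb39 zb18) (kb xb19 yb46 zb39) (kb xb15 yb54 zb24) (kb xb15 yb15 zb47) (kb xb15 yb15 zb48) (kb xb15 yb22 zb21) (kb xb15 yb54 zb30) (kb xb19 yb46 zb27) (kb xb31 yb22 zb8) (kb xb23 yb12 zb40) (kb xb20 yb8 zb15) (kb xb27 yb41 zb48) (kb xb31 yb23 zb40) (kb xb29 yb9 zb43) (kb xb24 yb20 zb31) (kb xb15 yb16 zb2)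 (kb xb25 yb55 zb53) (kb xb15 yb37 zb5) (kb xb15 yb15 zb54) (kb xb18 yb55 zb36) (kb xb28 yb22 zb35) (kb xb31 yb45 zb55) (kb xb28 yb19 zb38) (kb xb15 yb15 zb56) (kb xb31 yb45 zb49) (kb xb15 yb20 zb49) (kb xb29 yb37 zb23) (kb xb28 yb23 zb49) (kb xb30 yb1 zb46) (kb xb15 yb40 zb9) (kb xb15 yb15 zb60) (kb xb25 yb14 zb25) (kb xb26 yb17 zb58) (kb xb27 yb21 zb53) (kb xb25 yb51 zb30) (kb xb27 yb29 zb14) (kb xb15 yb16 zb1) (kb xb20 yb49 zb36) (kb xb25 yb15 zb5) (kb xb25 yb26 zb33) (kb xb24 yb16 zb2) (kb xb22 yb4 zb0) (kb xb15 yb16 zb3) (kb xb29 yb41 zb11) (kb xb30 yb53 zb36) (kb xb28 yb53 zb60)) (@D3.rec (fun _ => Pt) (kb xb31 yb35 zb45) (kb xb19 yb57 zb17) (kb xb15 yb16 zb9) (kb xb22 yb2 zb42) (kb xb15 yb16 zb10) (kb xb26 yb39 zb53) (kb xb29 yb15 zb24) (kb xb15 yb16 zb11) (kb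 xb25 yb20 zb14) (kb xb28 yb57 zb22) (kb xb27 yb45 zb44) (kb xb29 yb37 zb12) (kb xb15 yb16 zb18) (kb xb15 yb16 zb19) (kb xb22 yb33 zb25) (kb xb15 yb16 zb17) (kb xb28 yb30 zb35) (kb xb26 yb28 zb28) (kb xb27 yb15 zb58) (kb xb30 yb19 zb21) (kb xb29 yb44 zb47) (kb xb21 yb2 zb8) (kb xb15 yb16 zb26) (kb xb25 yb19 zb4) (kb xb31 yb46 zb1) (kb xb26 yb4 zb46) (kb xb26 yb46 zb57) (kb xb15 yb16 zb31) (kb xb30 yb1 zb39) (kb xb17 yb10 zb20) (kb xb31 yb3 zb25) (kb xb31 yb46 zb9) (kb xb31 yb46 zb14) (kb xb15 yb16 zb32) (kb xb31 yb46 zb16) (kb xb15 yb16 zb36) (kb xb20 yb57 zb48) (kb xb30 yb11 zb14) (kb xb15 yb16 zb42) (kb xb15 yb16 zb39) (kb xb31 yb46 zb18) (kb xb15 yb16 zb40) (kb xb31 yb46 zb21) (kb xb31 yb46 zb22) (kb xb25 yb48 zb12) (kb xb25 yb48 zb18) (kb xb15 yb16 zb44) (kb xb30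 yb54 zb31) (kb xb21 yb26 zb25) (kb xb21 yb1 zb0) (kb xb15 yb16 zb49) (kb xb25 yb19 zb12) (kb xb30 yb14 zb18) (kb xb15 yb41 zb6) (kb xb24 yb38 zb8) (kb xb15 yb16 zb54) (kb xb15 yb16 zb55) (kb xb15 yb16 zb56) (kb xb30 yb9 zb52) (kb xb15 yb16 zb60) (kb xb21 yb39 zb17) (kb xb15 yb16 zb61)) (@D3.rec (fun _ => Pt) (kb xb30 yb17 zb1) (kb xb25 yb57 zb33) (kb xb18 yb43 zb58) (kb xb25 yb53 zb31) (kb xb31 yb46 zb34) (kb xb15 yb17 zb3) (kb xb17 yb14 zb49) (kb xb15 yb17 zb4) (kb xb31 yb46 zb35) (kb xb31 yb23 zb17) (kb xb15 yb47 zb18) (kb xb28 yb57 zb37) (kb xb22 yb23 zb3) (kb xb15 yb46 zb35) (kb xb25 yb12 zb51) (kb xb28 yb37 zb6) (kb xb25 yb53 zb35) (kb xb15 yb17 zb12) (kb xb15 yb17 zb13) (kb xb15 yb17 zb14) (kb xb15 yb17 zb11) (kb xb31 yb43 zb41) (kb xb31 yb43 zb43) (kb xb31 yb16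 zb54) (kb xb31 yb46 zb43) (kb xb29 yb44 zb23) (kb xb15 yb17 zb18) (kb xb27 yb41 zb34) (kb xb25 yb12 zb9) (kb xb15 yb17 zb20) (kb xb15 yb17 zb21) (kb xb15 yb33 zb31) (kb xb25 yb41 zb53) (kb xb28 yb43 zb2) (kb xb17 yb29 zb10) (kb xb15 yb17 zb25) (kb xb28 yb57 zb39) (kb xb21 yb27 zb1) (kb xb27 yb18 zb9) (kb xb21 yb27 zb7) (kb xb21 yb50 zb0) (kb xb31 yb35 zb44) (kb xb27 yb24 zb8) (kb xb15 yb35 zb12) (kb xb16 yb0 zb4) (kb xb25 yb41 zb41) (kb xb27 yb19 zb55) (kb xb15 yb17 zb28) (kb xb25 yb57 zb8) (kb xb21 yb57 zb43) (kb xb15 yb17 zb29) (kb xb25 yb27 zb13) (kb xb17 yb37 zb47) (kb xb26 yb41 zb50) (kb xb26 yb4 zb42) (kb xb16 yb37 zb27) (kb xb16 yb43 zb30) (kb xb27 yb36 zb29) (kb xb16 yb37 zb36) (kb xb15 yb17 zb34) (kb xb22 yb0 zb7) (kb xb20 yb3 zb13)) (@D3.rec (fun _ => Pt)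 (kb xb26 yb38 zb15) (kb xb16 yb37 zb57) (kb xb16 yb37 zb58) (kb xb20 yb54 zb60) (kb xb16 yb48 zb7) (kb xb26 yb5 zb31) (kb xb15 yb17 zb41) (kb xb30 yb56 zb46) (kb xb18 yb1 zb44) (kb xb15 yb17 zb43) (kb xb15 yb17 zb44) (kb xb15 yb17 zb40) (kb xb28 yb40 zb36) (kb xb31 yb46 zb60) (kb xb26 yb35 zb25) (kb xb22 yb1 zb0) (kb xb27 yb16 zb18) (kb xb15 yb17 zb42) (kb xb30 yb31 zb5) (kb xb30 yb29 zb12) (kb xb20 yb2 zb60) (kb xb31 yb47 zb8) (kb xb31 yb47 zb10) (kb xb15 yb17 zb49) (kb xb15 yb17 zb50) (kb xb15 yb17 zb47) (kb xb25 yb57 zb2) (kb xb15 yb17 zb48) (kb xb31 yb47 zb14) (kb xb24 yb37 zb24) (kb xb26 yb28 zb53) (kb xb31 yb47 zb12) (kb xb28 yb37 zb61) (kb xb28 yb38 zb0) (kb xb15 yb17 zb54) (kb xb16 yb42 zb60) (kb xb17 yb30 zb42) (kb xb31 yb47 zb18) (kb xb31 yb47 zb20) (kb xb15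 yb17 zb58) (kb xb15 yb17 zb57) (kb xb31 yb47 zb24) (kb xb23 yb41 zb25) (kb xb31 yb4 zb53) (kb xb18 yb13 zb7) (kb xb26 yb41 zb48) (kb xb16 yb37 zb14) (kb xb15 yb17 zb59) (kb xb26 yb39 zb56) (kb xb26 yb40 zb22) (kb xb19 yb38 zb49) (kb xb29 yb17 zb41) (kb xb29 yb17 zb42) (kb xb15 yb18 zb0) (kb xb24 yb3 zb29) (kb xb30 yb7 zb49) (kb xb27 yb30 zb13) (kb xb21 yb21 zb55) (kb xb26 yb40 zb61) (kb xb15 yb18 zb7) (kb xb15 yb18 zb9) (kb xb31 yb47 zb37)) (@D3.rec (fun _ => Pt) (kb xb28 yb42 zb20) (kb xb15 yb18 zb11) (kb xb28 yb34 zb43) (kb xb15 yb18 zb12) (kb xb21 yb5 zb35) (kb xb31 yb45 zb37) (kb xb25 yb12 zb44) (kb xb15 yb18 zb19) (kb xb21 yb39 zb39) (kb xb21 yb39 zb40) (kb xb15 yb18 zb21) (kb xb31 yb47 zb40) (kb xb15 yb18 zb26) (kb xb15 yb18 zb32) (kb xb25 yb49 zb17) (kb xb31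 yb47 zb41) (kb xb15 yb18 zb33) (kb xb26 yb6 zb20) (kb xb24 yb51 zb60) (kb xb24 yb52 zb6) (kb xb25 yb37 zb10) (kb xb15 yb18 zb37) (kb xb31 yb41 zb31) (kb xb25 yb11 zb12) (kb xb31 yb19 zb40) (kb xb25 yb35 zb1) (kb xb31 yb47 zb48) (kb xb31 yb14 zb10) (kb xb25 yb22 zb46) (kb xb25 yb34 zb58) (kb xb16 yb0 zb5) (kb xb28 yb36 zb37) (kb xb19 yb29 zb12) (kb xb24 yb52 zb41) (kb xb26 yb46 zb51) (kb xb26 yb46 zb56) (kb xb15 yb18 zb47) (kb xb24 yb50 zb52) (kb xb31 yb39 zb36) (kb xb26 yb4 zb53) (kb xb31 yb47 zb59) (kb xb30 yb16 zb49) (kb xb24 yb52 zb12) (kb xb29 yb0 zb54) (kb xb15 yb18 zb49) (kb xb25 yb20 zb19) (kb xb15 yb18 zb50) (kb xb15 yb18 zb51) (kb xb29 yb23 zb3) (kb xb16 yb50 zb48) (kb xb15 yb18 zb55) (kb xb29 yb0 zb52) (kb xb24 yb16 zb26) (kb xb21 yb45 zb24) (kb xb31 yb18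 zb19) (kb xb15 yb18 zb56) (kb xb27 yb3 zb59) (kb xb20 yb3 zb34) (kb xb15 yb18 zb58) (kb xb29 yb59 zb45) (kb xb30 yb6 zb24) (kb xb15 yb18 zb59)) (@D3.rec (fun _ => Pt) (kb xb27 yb30 zb38) (kb xb26 yb5 zb12) (kb xb31 yb48 zb4) (kb xb15 yb19 zb4) (kb xb15 yb19 zb14) (kb xb16 yb39 zb22) (kb xb15 yb19 zb8) (kb xb19 yb45 zb4) (kb xb15 yb19 zb9) (kb xb19 yb49 zb41) (kb xb28 yb40 zb38) (kb xb16 yb39 zb33) (kb xb16 yb39 zb34) (kb xb18 yb51 zb11) (kb xb16 yb39 zb36) (kb xb15 yb19 zb18) (kb xb19 yb5 zb7) (kb xb16 yb39 zb26) (kb xb15 yb19 zb16) (kb xb16 yb44 zb54) (kb xb31 yb48 zb6) (kb xb19 yb5 zb8) (kb xb15 yb19 zb23) (kb xb16 yb36 zb45) (kb xb15 yb19 zb22) (kb xb15 yb29 zb26) (kb xb20 yb55 zb47) (kb xb15 yb54 zb31) (kb xb16 yb40 zb48) (kb xb30 yb11 zb17) (kb xb15 yb54 zb27)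 (kb xb15 yb19 zb31) (kb xb26 yb38 zb41) (kb xb23 yb13 zb27) (kb xb26 yb44 zb23) (kb xb25 yb50 zb60) (kb xb15 yb19 zb33) (kb xb15 yb19 zb34) (kb xb15 yb19 zb35) (kb xb26 yb1 zb25) (kb xb31 yb48 zb14) (kb xb15 yb19 zb36) (kb xb31 yb41 zb4) (kb xb31 yb28 zb52) (kb xb25 yb40 zb50) (kb xb26 yb16 zb17) (kb xb16 yb46 zb14) (kb xb19 yb19 zb51) (kb xb15 yb19 zb44) (kb xb31 yb48 zb17) (kb xb19 yb31 zb30) (kb xb25 yb13 zb1) (kb xb15 yb19 zb48) (kb xb24 yb38 zb6) (kb xb19 yb46 zb16) (kb xb31 yb48 zb18) (kb xb25 yb45 zb59) (kb xb16 yb20 zb1) (kb xb28 yb2 zb0) (kb xb15 yb19 zb53) (kb xb24 yb52 zb7) (kb xb24 yb51 zb33)) (@D3.rec (fun _ => Pt) (kb xb24 yb51 zb34) (kb xb20 yb5 zb18) (kb xb15 yb29 zb27) (kb xb25 yb15 zb6) (kb xb15 yb20 zb0) (kb xb24 yb27 zb12) (kb xb24 yb52 zb9) (kb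 xb15 yb20 zb2) (kb xb15 yb20 zb3) (kb xb31 yb48 zb25) (kb xb31 yb28 zb11) (kb xb25 yb33 zb30) (kb xb25 yb9 zb23) (kb xb15 yb20 zb1) (kb xb29 yb45 zb24) (kb xb29 yb42 zb25) (kb xb31 yb48 zb29) (kb xb15 yb20 zb26) (kb xb17 yb48 zb34) (kb xb18 yb44 zb14) (kb xb26 yb45 zb43) (kb xb15 yb20 zb8) (kb xb29 yb2 zb18) (kb xb26 yb48 zb37) (kb xb15 yb20 zb10) (kb xb31 yb36 zb54) (kb xb30 yb55 zb43) (kb xb29 yb7 zb11) (kb xb24 yb16 zb15) (kb xb15 yb51 zb52) (kb xb15 yb20 zb14) (kb xb15 yb20 zb15) (kb xb27 yb21 zb48) (kb xb15 yb54 zb40) (kb xb15 yb20 zb17) (kb xb16 yb25 zb52) (kb xb30 yb26 zb28) (kb xb15 yb20 zb18) (kb xb15 yb20 zb19) (kb xb25 yb34 zb61) (kb xb25 yb12 zb57) (kb xb15 yb20 zb22) (kb xb24 yb29 zb11) (kb xb21 yb8 zb32) (kb xb15 yb20 zb29) (kb xb20 yb32 zb9) (kb xb30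 yb46 zb19) (kb xb28 yb31 zb21) (kb xb15 yb20 zb61) (kb xb25 yb49 zb43) (kb xb15 yb20 zb35) (kb xb19 yb31 zb29) (kb xb15 yb20 zb41) (kb xb15 yb20 zb38) (kb xb30 yb16 zb43) (kb xb15 yb20 zb39) (kb xb18 yb52 zb33) (kb xb18 yb44 zb1) (kb xb15 yb20 zb43) (kb xb15 yb20 zb46) (kb xb19 yb49 zb32) (kb xb27 yb19 zb32)) (@D3.rec (fun _ => Pt) (kb xb15 yb20 zb48) (kb xb26 yb41 zb21) (kb xb15 yb36 zb47) (kb xb24 yb26 zb60) (kb xb24 yb26 zb12) (kb xb23 yb5 zb34) (kb xb15 yb20 zb52) (kb xb22 yb29 zb6) (kb xb17 yb32 zb54) (kb xb25 yb7 zb28) (kb xb19 yb44 zb50) (kb xb19 yb44 zb51) (kb xb19 yb44 zb52) (kb xb26 yb33 zb51) (kb xb15 yb21 zb10) (kb xb24 yb38 zb5) (kb xb26 yb38 zb42) (kb xb15 yb21 zb12) (kb xb15 yb21 zb3) (kb xb31 yb48 zb49) (kb xb15 yb21 zb6) (kb xb28 yb58 zb47) (kb xb25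 yb58 zb24) (kb xb18 yb2 zb1) (kb xb25 yb57 zb4) (kb xb29 yb41 zb41) (kb xb16 yb45 zb35) (kb xb15 yb21 zb9) (kb xb27 yb39 zb33) (kb xb31 yb20 zb52) (kb xb29 yb16 zb52) (kb xb28 yb15 zb61) (kb xb19 yb30 zb8) (kb xb24 yb26 zb59) (kb xb15 yb21 zb17) (kb xb26 yb33 zb53) (kb xb31 yb27 zb8) (kb xb25 yb14 zb54) (kb xb15 yb21 zb24) (kb xb31 yb48 zb58) (kb xb19 yb49 zb35) (kb xb15 yb21 zb26) (kb xb15 yb21 zb27) (kb xb31 yb48 zb61) (kb xb25 yb9 zb6) (kb xb28 yb48 zb19) (kb xb25 yb33 zb54) (kb xb31 yb43 zb57) (kb xb27 yb29 zb15) (kb xb15 yb38 zb14) (kb xb28 yb42 zb35) (kb xb25 yb7 zb14) (kb xb15 yb21 zb32) (kb xb17 yb48 zb27) (kb xb15 yb21 zb31) (kb xb26 yb15 zb9) (kb xb20 yb24 zb61) (kb xb25 yb11 zb40) (kb xb31 yb49 zb1) (kb xb29 yb7 zb1) (kb xb15 yb52 zb7) (kb xb15 yb21 zb35))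 (@D3.rec (fun _ => Pt) (kb xb17 yb48 zb35) (kb xb25 yb10 zb51) (kb xb31 yb41 zb47) (kb xb21 yb53 zb17) (kb xb16 yb13 zb31) (kb xb15 yb21 zb39) (kb xb15 yb21 zb40) (kb xb21 yb59 zb3) (kb xb25 yb31 zb20) (kb xb21 yb17 zb5) (kb xb31 yb26 zb39) (kb xb26 yb44 zb16) (kb xb25 yb31 zb48) (kb xb25 yb41 zb42) (kb xb25 yb55 zb3) (kb xb21 yb58 zb2) (kb xb15 yb21 zb46) (kb xb15 yb21 zb47) (kb xb27 yb19 zb59) (kb xb27 yb18 zb12) (kb xb25 yb53 zb45) (kb xb15 yb59 zb52) (kb xb29 yb9 zb16) (kb xb15 yb21 zb51) (kb xb15 yb21 zb52) (kb xb25 yb33 zb29) (kb xb30 yb6 zb40) (kb xb25 yb56 zb59) (kb xb21 yb17 zb23) (kb xb16 yb10 zb20) (kb xb15 yb21 zb55) (kb xb25 yb57 zb10) (kb xb25 yb33 zb15) (kb xb15 yb21 zb56) (kb xb27 yb39 zb37) (kb xb15 yb21 zb57) (kb xb15 yb56 zb59) (kb xb21 yb10 zb3)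 (kb xb15 yb21 zb58) (kb xb15 yb21 zb61) (kb xb29 yb57 zb8) (kb xb27 yb1 zb55) (kb xb31 yb49 zb10) (kb xb15 yb22 zb3) (kb xb28 yb57 zb24) (kb xb25 yb33 zb44) (kb xb15 yb57 zb17) (kb xb21 yb0 zb23) (kb xb21 yb0 zb24) (kb xb23 yb11 zb14) (kb xb24 yb3 zb14) (kb xb16 yb44 zb7) (kb xb20 yb2 zb30) (kb xb31 yb49 zb15) (kb xb29 yb41 zb48) (kb xb15 yb22 zb16) (kb xb15 yb22 zb17) (kb xb15 yb22 zb14) (kb xb17 yb25 zb14) (kb xb15 yb22 zb15) (kb xb25 yb54 zb59) (kb xb27 yb49 zb19)) (@D3.rec (fun _ => Pt) (kb xb17 yb54 zb41) (kb xb28 yb38 zb53) (kb xb20 yb43 zb48) (kb xb15 yb44 zb7) (kb xb19 yb37 zb39) (kb xb20 yb2 zb14) (kb xb21 yb48 zb14) (kb xb20 yb4 zb26) (kb xb15 yb22 zb26) (kb xb15 yb22 zb27) (kb xb15 yb22 zb25) (kb xb31 yb11 zb14) (kb xb28 yb59 zb49) (kb xb31 yb49 zb29) (kb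 xb31 yb49 zb27) (kb xb25 yb49 zb16) (kb xb15 yb22 zb29) (kb xb25 yb49 zb13) (kb xb27 yb14 zb14) (kb xb16 yb38 zb40) (kb xb15 yb22 zb31) (kb xb24 yb36 zb53) (kb xb31 yb3 zb31) (kb xb31 yb49 zb32) (kb xb15 yb22 zb32) (kb xb25 yb5 zb47) (kb xb31 yb17 zb34) (kb xb15 yb22 zb35) (kb xb30 yb48 zb35) (kb xb23 yb56 zb38) (kb xb15 yb22 zb41) (kb xb15 yb22 zb42) (kb xb23 yb2 zb15) (kb xb31 yb49 zb35) (kb xb19 yb56 zb10) (kb xb21 yb34 zb37) (kb xb15 yb22 zb46) (kb xb28 yb10 zb50) (kb xb28 yb36 zb52) (kb xb18 yb1 zb9) (kb xb15 yb22 zb50) (kb xb31 yb11 zb51) (kb xb31 yb29 zb3) (kb xb15 yb22 zb53) (kb xb17 yb13 zb50) (kb xb21 yb58 zb39) (kb xb20 yb3 zb12) (kb xb15 yb22 zb59) (kb xb15 yb22 zb58) (kb xb31 yb7 zb55) (kb xb31 yb49 zb41) (kb xb20 yb3 zb9) (kb xb29 yb5 zb27) (kb xb31 yb49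 zb40) (kb xb25 yb12 zb37) (kb xb28 yb29 zb36) (kb xb15 yb23 zb0) (kb xb19 yb18 zb24) (kb xb24 yb20 zb54) (kb xb20 yb3 zb15) (kb xb31 yb49 zb46) (kb xb31 yb49 zb47)) (@D3.rec (fun _ => Pt) (kb xb31 yb49 zb50) (kb xb19 yb38 zb28) (kb xb19 yb39 zb50) (kb xb15 yb23 zb2) (kb xb15 yb44 zb31) (kb xb25 yb5 zb54) (kb xb25 yb11 zb3) (kb xb15 yb23 zb3) (kb xb24 yb23 zb4) (kb xb31 yb20 zb43) (kb xb15 yb36 zb48) (kb xb31 yb24 zb20) (kb xb15 yb23 zb8) (kb xb15 yb23 zb6) (kb xb16 yb42 zb45) (kb xb24 yb34 zb1) (kb xb24 yb32 zb15) (kb xb28 yb41 zb49) (kb xb24 yb23 zb8) (kb xb24 yb17 zb3) (kb xb19 yb54 zb26) (kb xb24 yb19 zb26) (kb xb20 yb3 zb46) (kb xb15 yb23 zb13) (kb xb15 yb23 zb14) (kb xb29 yb4 zb55) (kb xb31 yb49 zb58) (kb xb24 yb40 zb58) (kb xb20 yb3 zb54) (kb xb15 yb23 zb17) (kb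 xb24 yb41 zb3) (kb xb17 yb5 zb31) (kb xb15 yb23 zb20) (kb xb15 yb23 zb19) (kb xb22 yb11 zb13) (kb xb31 yb49 zb59) (kb xb15 yb23 zb22) (kb xb26 yb13 zb61) (kb xb15 yb23 zb25) (kb xb15 yb42 zb5) (kb xb17 yb41 zb50) (kb xb15 yb49 zb3) (kb xb15 yb23 zb26) (kb xb27 yb26 zb39) (kb xb31 yb14 zb31) (kb xb15 yb23 zb27) (kb xb20 yb4 zb13) (kb xb18 yb5 zb17) (kb xb28 yb27 zb46) (kb xb16 yb18 zb50) (kb xb15 yb23 zb32) (kb xb31 yb49 zb61) (kb xb23 yb34 zb11) (kb xb30 yb33 zb39) (kb xb27 yb39 zb23) (kb xb15 yb23 zb37) (kb xb15 yb23 zb35) (kb xb26 yb12 zb49) (kb xb27 yb48 zb53) (kb xb15 yb23 zb38) (kb xb28 yb13 zb7) (kb xb27 yb27 zb27)) (@D3.rec (fun _ => Pt) (kb xb25 yb46 zb15) (kb xb18 yb22 zb55) (kb xb23 yb18 zb24) (kb xb23 yb18 zb25) (kb xb25 yb46 zb17) (kb xb30 yb32 zb3) (kb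 xb15 yb23 zb44) (kb xb23 yb18 zb33) (kb xb22 yb47 zb45) (kb xb23 yb15 zb8) (kb xb29 yb14 zb56) (kb xb23 yb9 zb16) (kb xb26 yb27 zb50) (kb xb21 yb10 zb43) (kb xb24 yb59 zb32) (kb xb15 yb23 zb51) (kb xb23 yb15 zb59) (kb xb23 yb14 zb10) (kb xb15 yb23 zb53) (kb xb31 yb11 zb42) (kb xb15 yb23 zb54) (kb xb31 yb11 zb31) (kb xb20 yb31 zb43) (kb xb28 yb10 zb6) (kb xb15 yb23 zb56) (kb xb24 yb31 zb9) (kb xb23 yb17 zb39) (kb xb26 yb30 zb58) (kb xb15 yb23 zb58) (kb xb30 yb39 zb56) (kb xb28 yb27 zb0) (kb xb18 yb43 zb21) (kb xb27 yb31 zb39) (kb xb16 yb17 zb56) (kb xb16 yb13 zb45) (kb xb15 yb24 zb1) (kb xb25 yb43 zb1) (kb xb15 yb24 zb3) (kb xb18 yb11 zb11) (kb xb15 yb24 zb6) (kb xb17 yb14 zb31) (kb xb31 yb50 zb4) (kb xb15 yb24 zb11) (kb xb17 yb52 zb39) (kb xb15 yb24 zb10) (kb xb20 yb14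 zb46) (kb xb19 yb7 zb12) (kb xb15 yb24 zb19) (kb xb16 yb59 zb61) (kb xb20 yb49 zb4) (kb xb15 yb24 zb27) (kb xb20 yb15 zb13) (kb xb25 yb47 zb40) (kb xb15 yb24 zb36) (kb xb23 yb52 zb28) (kb xb18 yb26 zb27) (kb xb16 yb48 zb2) (kb xb25 yb45 zb4) (kb xb24 yb51 zb51) (kb xb21 yb25 zb47) (kb xb30 yb17 zb51) (kb xb21 yb53 zb49)) (@D3.rec (fun _ => Pt) (kb xb15 yb24 zb46) (kb xb15 yb24 zb47) (kb xb20 yb12 zb48) (kb xb15 yb24 zb50) (kb xb29 yb13 zb61) (kb xb20 yb37 zb42) (kb xb21 yb49 zb37) (kb xb20 yb12 zb16) (kb xb15 yb24 zb53) (kb xb31 yb50 zb10) (kb xb15 yb24 zb54) (kb xb27 yb20 zb1) (kb xb15 yb24 zb57) (kb xb15 yb24 zb59) (kb xb29 yb39 zb30) (kb xb15 yb25 zb2) (kb xb17 yb52 zb57) (kb xb15 yb25 zb4) (kb xb15 yb25 zb5) (kb xb21 yb1 zb37) (kb xb18 yb38 zb4) (kb xb26 yb5 zb44)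 (kb xb25 yb19 zb25) (kb xb17 yb33 zb46) (kb xb21 yb53 zb47) (kb xb15 yb25 zb10) (kb xb15 yb25 zb12) (kb xb21 yb9 zb36) (kb xb20 yb49 zb2) (kb xb20 yb22 zb18) (kb xb26 yb32 zb55) (kb xb15 yb25 zb18) (kb xb29 yb32 zb43) (kb xb15 yb25 zb21) (kb xb15 yb25 zb22) (kb xb15 yb25 zb16) (kb xb21 yb44 zb46) (kb xb21 yb51 zb44) (kb xb15 yb25 zb19) (kb xb29 yb37 zb51) (kb xb15 yb25 zb23) (kb xb24 yb32 zb8) (kb xb19 yb12 zb60) (kb xb17 yb49 zb37) (kb xb24 yb3 zb46) (kb xb24 yb31 zb6) (kb xb15 yb25 zb43) (kb xb17 yb49 zb9) (kb xb21 yb21 zb21) (kb xb31 yb50 zb15) (kb xb21 yb28 zb48) (kb xb17 yb56 zb45) (kb xb21 yb38 zb9) (kb xb15 yb25 zb53) (kb xb29 yb57 zb59) (kb xb15 yb25 zb56) (kb xb15 yb25 zb58) (kb xb18 yb25 zb36) (kb xb25 yb23 zb49) (kb xb20 yb16 zb30) (kb xb15 yb26 zb2) (kb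 xb15 yb26 zb1)) (@D3.rec (fun _ => Pt) (kb xb31 yb50 zb17) (kb xb31 yb50 zb19) (kb xb15 yb26 zb4) (kb xb31 yb50 zb21) (kb xb28 yb49 zb17) (kb xb20 yb19 zb51) (kb xb17 yb0 zb45) (kb xb16 yb13 zb56) (kb xb22 yb7 zb16) (kb xb22 yb48 zb29) (kb xb20 yb41 zb13) (kb xb15 yb26 zb23) (kb xb15 yb26 zb22) (kb xb19 yb1 zb24) (kb xb20 yb7 zb23) (kb xb20 yb32 zb44) (kb xb20 yb31 zb0) (kb xb15 yb26 zb27) (kb xb18 yb24 zb3) (kb xb18 yb23 zb37) (kb xb15 yb26 zb40) (kb xb15 yb26 zb33) (kb xb16 yb28 zb6) (kb xb26 yb48 zb44) (kb xb24 yb9 zb41) (kb xb27 yb41 zb50) (kb xb31 yb44 zb55) (kb xb18 yb42 zb51) (kb xb15 yb26 zb38) (kb xb15 yb26 zb39) (kb xb31 yb50 zb26) (kb xb22 yb49 zb60) (kb xb24 yb14 zb38) (kb xb16 yb46 zb42) (kb xb15 yb26 zb50) (kb xb15 yb26 zb54) (kb xb31 yb50 zb28) (kb xb15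 yb26 zb56) (kb xb30 yb46 zb12) (kb xb15 yb26 zb61) (kb xb15 yb26 zb59) (kb xb24 yb9 zb20) (kb xb31 yb16 zb26) (kb xb31 yb18 zb32) (kb xb31 yb50 zb32) (kb xb24 yb2 zb19) (kb xb24 yb16 zb16) (kb xb20 yb23 zb10) (kb xb20 yb23 zb11) (kb xb29 yb23 zb22) (kb xb25 yb23 zb42) (kb xb15 yb27 zb8) (kb xb31 yb14 zb21) (kb xb21 yb1 zb32) (kb xb18 yb25 zb22) (kb xb21 yb59 zb51) (kb xb17 yb43 zb44) (kb xb15 yb27 zb16) (kb xb20 yb36 zb17) (kb xb31 yb50 zb36) (kb xb15 yb27 zb17) (kb xb15 yb27 zb21)) (@D3.rec (fun _ => Pt) (kb xb22 yb5 zb9) (kb xb19 yb32 zb16) (kb xb21 yb44 zb49) (kb xb17 yb34 zb55) (kb xb25 yb6 zb23) (kb xb17 yb32 zb21) (kb xb15 yb28 zb2) (kb xb19 yb58 zb35) (kb xb16 yb12 zb57) (kb xb24 yb52 zb44) (kb xb15 yb28 zb19) (kb xb31 yb29 zb50) (kb xb25 yb6 zb51) (kb xb15 yb30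 zb17) (kb xb15 yb28 zb32) (kb xb15 yb27 zb32) (kb xb15 yb30 zb18) (kb xb31 yb50 zb47) (kb xb31 yb50 zb44) (kb xb25 yb56 zb46) (kb xb15 yb29 zb10) (kb xb15 yb27 zb35) (kb xb31 yb50 zb51) (kb xb16 yb13 zb11) (kb xb15 yb27 zb36) (kb xb25 yb17 zb22) (kb xb31 yb21 zb23) (kb xb15 yb29 zb15) (kb xb31 yb41 zb27) (kb xb20 yb58 zb17) (kb xb15 yb27 zb40) (kb xb15 yb27 zb41) (kb xb20 yb5 zb19) (kb xb24 yb51 zb20) (kb xb31 yb50 zb55) (kb xb31 yb50 zb56) (kb xb24 yb23 zb1) (kb xb31 yb31 zb30) (kb xb19 yb36 zb10) (kb xb18 yb52 zb22) (kb xb15 yb27 zb48) (kb xb15 yb27 zb53) (kb xb27 yb29 zb34) (kb xb25 yb52 zb31) (kb xb29 yb50 zb50) (kb xb24 yb48 zb46) (kb xb15 yb27 zb57) (kb xb15 yb27 zb58) (kb xb28 yb37 zb5) (kb xb15 yb27 zb61) (kb xb25 yb20 zb44) (kb xb30 yb0 zb4) (kb xb27 yb14 zb18)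 (kb xb16 yb12 zb56) (kb xb15 yb28 zb1) (kb xb25 yb20 zb40) (kb xb30 yb3 zb18) (kb xb18 yb27 zb47) (kb xb15 yb28 zb6) (kb xb25 yb20 zb25) (kb xb15 yb28 zb9) (kb xb15 yb28 zb5)) (@D3.rec (fun _ => Pt) (kb xb29 yb32 zb41) (kb xb24 yb51 zb13) (kb xb30 yb19 zb20) (kb xb31 yb51 zb2) (kb xb31 yb40 zb22) (kb xb15 yb28 zb7) (kb xb15 yb28 zb8) (kb xb31 yb40 zb24) (kb xb29 yb13 zb15) (kb xb26 yb58 zb59) (kb xb25 yb22 zb3) (kb xb15 yb28 zb11) (kb xb24 yb11 zb20) (kb xb18 yb52 zb34) (kb xb25 yb6 zb8) (kb xb20 yb58 zb6) (kb xb15 yb28 zb16) (kb xb15 yb28 zb17) (kb xb29 yb47 zb49) (kb xb25 yb9 zb45) (kb xb28 yb14 zb18) (kb xb29 yb5 zb50) (kb xb31 yb43 zb37) (kb xb31 yb51 zb8) (kb xb15 yb28 zb24) (kb xb25 yb19 zb59) (kb xb31 yb51 zb10) (kb xb29 yb35 zb57) (kb xb16 yb58 zb33) (kb xb15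 yb28 zb23) (kb xb31 yb36 zb60) (kb xb29 yb11 zb20) (kb xb31 yb39 zb41) (kb xb31 yb45 zb61) (kb xb24 yb5 zb49) (kb xb15 yb52 zb52) (kb xb19 yb27 zb60) (kb xb24 yb1 zb36) (kb xb22 yb5 zb42) (kb xb31 yb51 zb18) (kb xb25 yb19 zb55) (kb xb15 yb28 zb29) (kb xb31 yb51 zb23) (kb xb21 yb16 zb45) (kb xb25 yb19 zb50) (kb xb15 yb28 zb31) (kb xb16 yb38 zb34) (kb xb31 yb50 zb41) (kb xb15 yb28 zb37) (kb xb29 yb46 zb0) (kb xb31 yb28 zb21) (kb xb15 yb28 zb40) (kb xb15 yb28 zb41) (kb xb15 yb28 zb35) (kb xb31 yb48 zb28) (kb xb31 yb51 zb37) (kb xb31 yb51 zb24) (kb xb31 yb51 zb28) (kb xb31 yb40 zb36) (kb xb15 yb28 zb38) (kb xb31 yb51 zb45) (kb xb15 yb28 zb39)) (@D3.rec (fun _ => Pt) (kb xb31 yb51 zb46) (kb xb31 yb51 zb47) (kb xb31 yb51 zb49) (kb xb29 yb28 zb54) (kb xb31 yb51 zb34) (kb xb15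 yb28 zb42) (kb xb30 yb21 zb27) (kb xb29 yb48 zb42) (kb xb27 yb36 zb4) (kb xb15 yb28 zb48) (kb xb27 yb21 zb49) (kb xb27 yb37 zb3) (kb xb31 yb51 zb55) (kb xb15 yb28 zb56) (kb xb15 yb28 zb57) (kb xb27 yb37 zb1) (kb xb28 yb36 zb58) (kb xb16 yb57 zb58) (kb xb16 yb51 zb33) (kb xb31 yb34 zb22) (kb xb31 yb34 zb23) (kb xb15 yb28 zb55) (kb xb31 yb52 zb2) (kb xb31 yb52 zb4) (kb xb31 yb51 zb58) (kb xb15 yb28 zb58) (kb xb19 yb59 zb27) (kb xb28 yb34 zb47) (kb xb28 yb34 zb50) (kb xb15 yb28 zb60) (kb xb15 yb29 zb2) (kb xb28 yb45 zb33) (kb xb31 yb52 zb11) (kb xb15 yb29 zb3) (kb xb15 yb29 zb4) (kb xb15 yb29 zb1) (kb xb31 yb52 zb17) (kb xb31 yb52 zb18) (kb xb31 yb52 zb20) (kb xb31 yb52 zb7) (kb xb31 yb52 zb8) (kb xb28 yb55 zb25) (kb xb17 yb24 zb25) (kb xb31 yb52 zb16) (kb xb31 yb21 zb24)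 (kb xb22 yb21 zb32) (kb xb15 yb29 zb6) (kb xb15 yb29 zb7) (kb xb22 yb21 zb40) (kb xb31 yb52 zb36) (kb xb20 yb58 zb34) (kb xb21 yb23 zb41) (kb xb17 yb34 zb32) (kb xb15 yb29 zb11) (kb xb25 yb25 zb21) (kb xb31 yb50 zb50) (kb xb29 yb43 zb29) (kb xb31 yb52 zb38) (kb xb31 yb21 zb20) (kb xb25 yb53 zb4) (kb xb15 yb29 zb14) (kb xb24 yb33 zb19)) (@D3.rec (fun _ => Pt) (kb xb31 yb50 zb52) (kb xb15 yb29 zb16) (kb xb31 yb50 zb5) (kb xb25 yb20 zb10) (kb xb15 yb29 zb17) (kb xb19 yb24 zb41) (kb xb24 yb23 zb55) (kb xb15 yb29 zb18) (kb xb31 yb46 zb57) (kb xb19 yb58 zb1) (kb xb15 yb29 zb29) (kb xb15 yb29 zb30) (kb xb31 yb52 zb49) (kb xb15 yb29 zb32) (kb xb15 yb29 zb23) (kb xb31 yb51 zb14) (kb xb31 yb29 zb28) (kb xb29 yb35 zb58) (kb xb31 yb52 zb50) (kb xb31 yb40 zb60) (kb xb29 yb2 zb21)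 (kb xb20 yb55 zb50) (kb xb19 yb58 zb17) (kb xb19 yb1 zb7) (kb xb31 yb52 zb55) (kb xb20 yb57 zb58) (kb xb16 yb41 zb40) (kb xb28 yb0 zb22) (kb xb31 yb43 zb50) (kb xb31 yb45 zb26) (kb xb15 yb41 zb54) (kb xb25 yb33 zb45) (kb xb19 yb1 zb5) (kb xb28 yb7 zb53) (kb xb16 yb9 zb35) (kb xb31 yb52 zb48) (kb xb19 yb38 zb6) (kb xb16 yb51 zb16) (kb xb31 yb51 zb35) (kb xb15 yb29 zb31) (kb xb28 yb59 zb18) (kb xb31 yb52 zb59) (kb xb19 yb38 zb19) (kb xb31 yb52 zb60) (kb xb28 yb47 zb25) (kb xb31 yb52 zb61) (kb xb25 yb9 zb28) (kb xb15 yb46 zb52) (kb xb15 yb29 zb39) (kb xb21 yb33 zb33) (kb xb29 yb48 zb7) (kb xb27 yb4 zb54) (kb xb21 yb1 zb47) (kb xb31 yb27 zb17) (kb xb26 yb0 zb8) (kb xb21 yb1 zb43) (kb xb15 yb29 zb47) (kb xb15 yb29 zb49) (kb xb28 yb47 zb1) (kb xb27 yb4 zb51) (kb xb25 yb30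 zb23) (kb xb25 yb30 zb12)) (@D3.rec (fun _ => Pt) (kb xb25 yb29 zb60) (kb xb21 yb48 zb38) (kb xb31 yb53 zb7) (kb xb31 yb5 zb33) (kb xb19 yb57 zb16) (kb xb15 yb29 zb55) (kb xb21 yb52 zb15) (kb xb15 yb29 zb58) (kb xb15 yb47 zb14) (kb xb31 yb43 zb38) (kb xb28 yb49 zb38) (kb xb23 yb44 zb22) (kb xb15 yb29 zb60) (kb xb31 yb10 zb42) (kb xb15 yb29 zb61) (kb xb21 yb18 zb26) (kb xb21 yb18 zb21) (kb xb31 yb10 zb8) (kb xb20 yb29 zb53) (kb xb15 yb30 zb4) (kb xb15 yb30 zb3) (kb xb31 yb2 zb58) (kb xb30 yb4 zb2) (kb xb15 yb30 zb7) (kb xb15 yb30 zb6) (kb xb31 yb53 zb11) (kb xb29 yb52 zb31) (kb xb15 yb30 zb13) (kb xb26 yb9 zb46) (kb xb16 yb47 zb9) (kb xb15 yb30 zb20) (kb xb15 yb30 zb16) (kb xb28 yb59 zb45) (kb xb31 yb53 zb14) (kb xb31 yb50 zb43) (kb xb31 yb50 zb45) (kb xb31 yb50 zb46)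 (kb xb29 yb24 zb2) (kb xb20 yb27 zb59) (kb xb15 yb30 zb27) (kb xb28 yb33 zb28) (kb xb22 yb52 zb19) (kb xb25 yb18 zb50) (kb xb15 yb30 zb33) (kb xb15 yb30 zb34) (kb xb31 yb40 zb58) (kb xb20 yb26 zb51) (kb xb15 yb30 zb38) (kb xb21 yb35 zb7) (kb xb25 yb17 zb58) (kb xb20 yb38 zb17) (kb xb24 yb59 zb1) (kb xb27 yb55 zb46) (kb xb18 yb4 zb21) (kb xb20 yb0 zb10) (kb xb15 yb30 zb59) (kb xb25 yb0 zb31) (kb xb17 yb51 zb0) (kb xb15 yb31 zb0) (kb xb25 yb26 zb30) (kb xb29 yb30 zb30) (kb xb23 yb58 zb4)) (@D3.rec (fun _ => Pt) (kb xb15 yb31 zb1) (kb xb18 yb14 zb28) (kb xb28 yb32 zb51) (kb xb31 yb28 zb7) (kb xb28 yb33 zb39) (kb xb25 yb26 zb31) (kb xb31 yb53 zb22) (kb xb27 yb33 zb45) (kb xb29 yb37 zb14) (kb xb29 yb22 zb39) (kb xb15 yb31 zb7) (kb xb31 yb17 zb38) (kb xb15 yb31 zb11) (kb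 xb15 yb31 zb14) (kb xb31 yb53 zb25) (kb xb19 yb37 zb57) (kb xb24 yb34 zb47) (kb xb19 yb53 zb39) (kb xb24 yb17 zb24) (kb xb15 yb31 zb16) (kb xb15 yb31 zb17) (kb xb31 yb21 zb58) (kb xb15 yb31 zb19) (kb xb19 yb45 zb10) (kb xb15 yb31 zb20) (kb xb21 yb0 zb15) (kb xb21 yb0 zb16) (kb xb23 yb0 zb56) (kb xb31 yb53 zb28) (kb xb15 yb31 zb24) (kb xb24 yb16 zb28) (kb xb15 yb31 zb28) (kb xb27 yb19 zb61) (kb xb15 yb31 zb29) (kb xb30 yb43 zb29) (kb xb31 yb28 zb54) (kb xb15 yb31 zb30) (kb xb25 yb25 zb61) (kb xb30 yb55 zb3) (kb xb17 yb27 zb10) (kb xb21 yb0 zb35) (kb xb15 yb31 zb34) (kb xb26 yb24 zb45) (kb xb22 yb7 zb31) (kb xb19 yb25 zb0) (kb xb25 yb26 zb10) (kb xb15 yb31 zb41) (kb xb30 yb55 zb4) (kb xb15 yb31 zb44) (kb xb31 yb35 zb17) (kb xb25 yb26 zb20) (kb xb29 yb49 zb18) (kb xb29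 yb41 zb54) (kb xb15 yb31 zb60) (kb xb20 yb3 zb32) (kb xb31 yb21 zb40) (kb xb15 yb31 zb61) (kb xb25 yb26 zb36) (kb xb15 yb31 zb52) (kb xb31 yb53 zb34) (kb xb31 yb23 zb19) (kb xb30 yb56 zb24)) (@D3.rec (fun _ => Pt) (kb xb22 yb6 zb47) (kb xb18 yb55 zb42) (kb xb15 yb31 zb54) (kb xb23 yb0 zb27) (kb xb15 yb37 zb4) (kb xb30 yb26 zb54) (kb xb27 yb50 zb46) (kb xb30 yb11 zb0) (kb xb25 yb26 zb43) (kb xb30 yb50 zb46) (kb xb23 yb57 zb7) (kb xb22 yb57 zb12) (kb xb30 yb26 zb47) (kb xb22 yb54 zb35) (kb xb15 yb40 zb56) (kb xb19 yb39 zb10) (kb xb19 yb40 zb52) (kb xb26 yb33 zb34) (kb xb30 yb8 zb18) (kb xb15 yb32 zb36) (kb xb15 yb32 zb5) (kb xb25 yb21 zb54) (kb xb19 yb59 zb2) (kb xb26 yb21 zb52) (kb xb18 yb52 zb47) (kb xb21 yb44 zb52) (kb xb20 yb10 zb32) (kb xb20 yb45 zb17) (kb xb15 yb32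 zb9) (kb xb28 yb6 zb37) (kb xb31 yb11 zb27) (kb xb31 yb53 zb41) (kb xb19 yb19 zb55) (kb xb22 yb51 zb45) (kb xb18 yb54 zb19) (kb xb18 yb56 zb45) (kb xb20 yb11 zb56) (kb xb27 yb59 zb11) (kb xb23 yb5 zb61) (kb xb15 yb32 zb17) (kb xb24 yb21 zb36) (kb xb26 yb19 zb50) (kb xb15 yb32 zb20) (kb xb15 yb32 zb21) (kb xb30 yb0 zb13) (kb xb19 yb24 zb45) (kb xb27 yb22 zb31) (kb xb15 yb32 zb25) (kb xb24 yb17 zb19) (kb xb15 yb32 zb26) (kb xb27 yb22 zb32) (kb xb19 yb25 zb60) (kb xb31 yb44 zb8) (kb xb25 yb59 zb53) (kb xb15 yb32 zb33) (kb xb20 yb50 zb23) (kb xb15 yb32 zb37) (kb xb26 yb22 zb52) (kb xb15 yb32 zb39) (kb xb16 yb27 zb30) (kb xb24 yb18 zb36) (kb xb25 yb24 zb37)) (@D3.rec (fun _ => Pt) (kb xb25 yb50 zb6) (kb xb15 yb32 zb43) (kb xb29 yb16 zb56) (kb xb15 yb32 zb44) (kb xb15 yb32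 zb45) (kb xb15 yb32 zb46) (kb xb20 yb50 zb15) (kb xb29 yb44 zb34) (kb xb20 yb40 zb11) (kb xb15 yb32 zb52) (kb xb25 yb24 zb45) (kb xb17 yb32 zb58) (kb xb17 yb32 zb59) (kb xb22 yb54 zb38) (kb xb17 yb31 zb57) (kb xb15 yb32 zb59) (kb xb22 yb5 zb46) (kb xb24 yb7 zb15) (kb xb31 yb53 zb48) (kb xb30 yb6 zb47) (kb xb25 yb24 zb50) (kb xb27 yb7 zb41) (kb xb31 yb45 zb15) (kb xb17 yb32 zb57) (kb xb31 yb53 zb52) (kb xb25 yb27 zb3) (kb xb31 yb45 zb17) (kb xb18 yb12 zb2) (kb xb26 yb31 zb59) (kb xb15 yb33 zb1) (kb xb25 yb23 zb59) (kb xb25 yb24 zb5) (kb xb15 yb33 zb13) (kb xb25 yb5 zb55) (kb xb19 yb46 zb41) (kb xb15 yb33 zb14) (kb xb25 yb24 zb57) (kb xb15 yb33 zb5) (kb xb30 yb19 zb57) (kb xb31 yb53 zb55) (kb xb15 yb33 zb7) (kb xb28 yb45 zb52) (kb xb28 yb32 zb39) (kb xb25 yb25 zb8) (kb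 xb15 yb33 zb9) (kb xb29 yb42 zb12) (kb xb31 yb54 zb2) (kb xb20 yb11 zb49) (kb xb29 yb41 zb61) (kb xb25 yb4 zb38) (kb xb18 yb51 zb3) (kb xb28 yb27 zb60) (kb xb15 yb41 zb46) (kb xb15 yb34 zb60) (kb xb27 yb42 zb43) (kb xb17 yb48 zb53) (kb xb25 yb38 zb6) (kb xb30 yb1 zb26) (kb xb15 yb33 zb24) (kb xb21 yb46 zb26) (kb xb15 yb35 zb36) (kb xb15 yb46 zb34)) (@D3.rec (fun _ => Pt) (kb xb28 yb19 zb39) (kb xb15 yb33 zb29) (kb xb29 yb56 zb54) (kb xb25 yb26 zb25) (kb xb15 yb33 zb30) (kb xb27 yb18 zb17) (kb xb31 yb46 zb46) (kb xb30 yb31 zb49) (kb xb17 yb28 zb13) (kb xb27 yb24 zb35) (kb xb26 yb17 zb0) (kb xb19 yb39 zb37) (kb xb15 yb33 zb37) (kb xb25 yb7 zb51) (kb xb15 yb37 zb1) (kb xb15 yb37 zb2) (kb xb26 yb15 zb3) (kb xb25 yb53 zb30) (kb xb15 yb33 zb41) (kb xb15 yb33 zb43) (kb xb17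 yb32 zb6) (kb xb25 yb29 zb7) (kb xb22 yb3 zb53) (kb xb22 yb11 zb24) (kb xb15 yb33 zb44) (kb xb29 yb17 zb18) (kb xb15 yb33 zb46) (kb xb31 yb43 zb42) (kb xb15 yb37 zb59) (kb xb15 yb33 zb51) (kb xb15 yb33 zb54) (kb xb24 yb16 zb48) (kb xb30 yb45 zb31) (kb xb15 yb33 zb52) (kb xb28 yb42 zb37) (kb xb28 yb42 zb7) (kb xb31 yb54 zb11) (kb xb31 yb14 zb9) (kb xb29 yb56 zb24) (kb xb15 yb38 zb47) (kb xb15 yb38 zb48) (kb xb15 yb59 zb47) (kb xb15 yb34 zb1) (kb xb21 yb39 zb33) (kb xb31 yb49 zb6) (kb xb15 yb34 zb4) (kb xb15 yb34 zb5) (kb xb22 yb53 zb29) (kb xb22 yb8 zb25) (kb xb15 yb34 zb3) (kb xb29 yb12 zb45) (kb xb15 yb34 zb8) (kb xb26 yb10 zb47) (kb xb15 yb53 zb0) (kb xb30 yb20 zb1) (kb xb15 yb39 zb21) (kb xb19 yb44 zb28) (kb xb27 yb23 zb26) (kb xb17 yb29 zb13) (kb xb19 yb26 zb4)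 (kb xb24 yb58 zb45) (kb xb29 yb36 zb4)) (@D3.rec (fun _ => Pt) (kb xb15 yb34 zb16) (kb xb31 yb7 zb7) (kb xb27 yb44 zb11) (kb xb15 yb34 zb17) (kb xb16 yb5 zb2) (kb xb31 yb54 zb15) (kb xb24 yb43 zb52) (kb xb22 yb10 zb47) (kb xb21 yb55 zb56) (kb xb15 yb34 zb21) (kb xb15 yb34 zb22) (kb xb28 yb7 zb23) (kb xb21 yb17 zb55) (kb xb15 yb40 zb22) (kb xb27 yb38 zb40) (kb xb15 yb34 zb25) (kb xb15 yb34 zb26) (kb xb15 yb34 zb27) (kb xb15 yb34 zb24) (kb xb31 yb54 zb18) (kb xb27 yb11 zb1) (kb xb15 yb40 zb17) (kb xb15 yb40 zb13) (kb xb15 yb34 zb30) (kb xb15 yb34 zb31) (kb xb25 yb56 zb50) (kb xb25 yb56 zb51) (kb xb30 yb47 zb20) (kb xb15 yb40 zb30) (kb xb15 yb34 zb33) (kb xb31 yb0 zb22) (kb xb28 yb37 zb24) (kb xb15 yb34 zb34) (kb xb26 yb31 zb60) (kb xb31 yb53 zb58) (kb xb18 yb59 zb38)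 (kb xb20 yb18 zb25) (kb xb22 yb28 zb58) (kb xb28 yb23 zb25) (kb xb15 yb40 zb43) (kb xb15 yb34 zb38) (kb xb31 yb54 zb26) (kb xb27 yb12 zb56) (kb xb15 yb34 zb41) (kb xb30 yb53 zb44) (kb xb26 yb4 zb8) (kb xb27 yb27 zb16) (kb xb15 yb43 zb8) (kb xb31 yb54 zb28) (kb xb15 yb34 zb45) (kb xb19 yb35 zb4) (kb xb17 yb41 zb8) (kb xb31 yb38 zb13) (kb xb17 yb41 zb15) (kb xb25 yb32 zb61) (kb xb15 yb34 zb49) (kb xb31 yb54 zb30) (kb xb22 yb11 zb45) (kb xb27 yb25 zb61) (kb xb27 yb24 zb43) (kb xb17 yb40 zb53) (kb xb15 yb34 zb57)) (@D3.rec (fun _ => Pt) (kb xb16 yb9 zb33) (kb xb28 yb51 zb37) (kb xb30 yb49 zb23) (kb xb31 yb24 zb48) (kb xb15 yb34 zb59) (kb xb19 yb57 zb55) (kb xb25 yb34 zb21) (kb xb25 yb27 zb21) (kb xb15 yb35 zb0) (kb xb30 yb54 zb45) (kb xb19 yb13 zb31) (kb xb15 yb35 zb5)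 (kb xb25 yb56 zb25) (kb xb24 yb41 zb18) (kb xb25 yb44 zb49) (kb xb15 yb35 zb10) (kb xb15 yb35 zb14) (kb xb15 yb35 zb15) (kb xb15 yb35 zb16) (kb xb19 yb36 zb33) (kb xb15 yb35 zb18) (kb xb31 yb46 zb38) (kb xb30 yb16 zb45) (kb xb15 yb35 zb19) (kb xb31 yb23 zb24) (kb xb21 yb27 zb2) (kb xb25 yb33 zb19) (kb xb25 yb50 zb5) (kb xb16 yb7 zb6) (kb xb15 yb35 zb24) (kb xb30 yb26 zb53) (kb xb25 yb33 zb18) (kb xb22 yb2 zb58) (kb xb25 yb43 zb15) (kb xb19 yb45 zb37) (kb xb21 yb21 zb36) (kb xb27 yb21 zb57) (kb xb15 yb43 zb5) (kb xb15 yb35 zb30) (kb xb15 yb35 zb31) (kb xb26 yb4 zb10) (kb xb15 yb35 zb29) (kb xb27 yb25 zb39) (kb xb27 yb45 zb52) (kb xb31 yb53 zb46) (kb xb21 yb58 zb56) (kb xb15 yb59 zb51) (kb xb31 yb54 zb38) (kb xb31 yb1 zb53) (kb xb17 yb53 zb59) (kb xb27 yb24 zb44) (kb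 xb15 yb35 zb35) (kb xb17 yb39 zb8) (kb xb27 yb24 zb45) (kb xb16 yb0 zb54) (kb xb22 yb1 zb57) (kb xb31 yb54 zb42) (kb xb30 yb8 zb47) (kb xb25 yb48 zb48) (kb xb31 yb54 zb4) (kb xb25 yb23 zb0) (kb xb17 yb28 zb14)) (@D3.rec (fun _ => Pt) (kb xb17 yb14 zb44) (kb xb15 yb35 zb39) (kb xb16 yb1 zb56) (kb xb31 yb48 zb43) (kb xb25 yb43 zb33) (kb xb25 yb55 zb51) (kb xb31 yb54 zb52) (kb xb31 yb54 zb53) (kb xb15 yb35 zb52) (kb xb15 yb35 zb53) (kb xb15 yb35 zb42) (kb xb27 yb18 zb8) (kb xb25 yb22 zb61) (kb xb31 yb47 zb29) (kb xb15 yb36 zb0) (kb xb28 yb20 zb29) (kb xb15 yb35 zb50) (kb xb31 yb3 zb43) (kb xb15 yb35 zb51) (kb xb23 yb27 zb32) (kb xb15 yb43 zb55) (kb xb31 yb54 zb57) (kb xb31 yb54 zb56) (kb xb25 yb22 zb60) (kb xb15 yb35 zb55) (kb xb31 yb16 zb50) (kb xb21 yb27 zb8) (kb xb27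 yb59 zb29) (kb xb15 yb41 zb41) (kb xb15 yb35 zb57) (kb xb15 yb35 zb58) (kb xb30 yb55 zb2) (kb xb31 yb55 zb2) (kb xb28 yb32 zb26) (kb xb15 yb35 zb59) (kb xb31 yb16 zb47) (kb xb15 yb35 zb60) (kb xb31 yb3 zb53) (kb xb31 yb3 zb27) (kb xb31 yb55 zb5) (kb xb25 yb57 zb55) (kb xb15 yb35 zb61) (kb xb23 yb9 zb50) (kb xb30 yb9 zb33) (kb xb29 yb5 zb45) (kb xb15 yb36 zb1) (kb xb23 yb32 zb16) (kb xb15 yb36 zb3) (kb xb31 yb13 zb59) (kb xb26 yb1 zb5) (kb xb21 yb21 zb8) (kb xb15 yb36 zb10) (kb xb19 yb50 zb49) (kb xb15 yb36 zb11) (kb xb19 yb15 zb28) (kb xb30 yb48 zb48) (kb xb29 yb36 zb26) (kb xb15 yb36 zb17) (kb xb22 yb33 zb35) (kb xb15 yb36 zb19) (kb xb23 yb45 zb50) (kb xb29 yb39 zb13)) (@D3.rec (fun _ => Pt) (kb xb20 yb12 zb33) (kb xb31 yb47 zb31) (kb xb26 yb34 zb13) (kb xb27 yb17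 zb60) (kb xb16 yb18 zb59) (kb xb21 yb58 zb59) (kb xb26 yb58 zb22) (kb xb17 yb30 zb53) (kb xb15 yb36 zb38) (kb xb23 yb3 zb57) (kb xb20 yb16 zb2) (kb xb21 yb53 zb48) (kb xb31 yb37 zb59) (kb xb19 yb51 zb54) (kb xb16 yb48 zb39) (kb xb17 yb50 zb11) (kb xb15 yb36 zb42) (kb xb22 yb22 zb1) (kb xb16 yb43 zb51) (kb xb15 yb36 zb44) (kb xb25 yb13 zb8) (kb xb30 yb9 zb24) (kb xb31 yb55 zb16) (kb xb31 yb36 zb0) (kb xb15 yb36 zb52) (kb xb15 yb46 zb28) (kb xb27 yb25 zb54) (kb xb15 yb58 zb19) (kb xb25 yb54 zb53) (kb xb16 yb3 zb53) (kb xb23 yb24 zb40) (kb xb15 yb36 zb58) (kb xb21 yb31 zb1) (kb xb30 yb49 zb22) (kb xb31 yb55 zb17) (kb xb15 yb58 zb55) (kb xb31 yb54 zb9) (kb xb15 yb57 zb14) (kb xb31 yb55 zb19) (kb xb22 yb4 zb50) (kb xb22 yb11 zb30) (kb xb15 yb37 zb3) (kb xb28 yb28 zb53) (kb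 xb30 yb26 zb48) (kb xb26 yb32 zb3) (kb xb31 yb45 zb54) (kb xb15 yb37 zb7) (kb xb31 yb55 zb21) (kb xb25 yb13 zb12) (kb xb15 yb37 zb22) (kb xb25 yb51 zb20) (kb xb19 yb31 zb32) (kb xb22 yb8 zb15) (kb xb15 yb37 zb15) (kb xb15 yb37 zb16) (kb xb21 yb57 zb40) (kb xb22 yb3 zb34) (kb xb30 yb27 zb61) (kb xb25 yb4 zb46) (kb xb28 yb58 zb11) (kb xb30 yb48 zb41) (kb xb15 yb37 zb19)) (@D3.rec (fun _ => Pt) (kb xb29 yb38 zb2) (kb xb15 yb37 zb20) (kb xb26 yb38 zb21) (kb xb24 yb11 zb56) (kb xb29 yb10 zb35) (kb xb15 yb37 zb21) (kb xb31 yb55 zb29) (kb xb30 yb9 zb26) (kb xb31 yb13 zb1) (kb xb15 yb37 zb23) (kb xb31 yb47 zb21) (kb xb29 yb41 zb32) (kb xb31 yb26 zb20) (kb xb16 yb39 zb50) (kb xb22 yb10 zb40) (kb xb15 yb37 zb26) (kb xb31 yb55 zb33) (kb xb30 yb47 zb58) (kb xb29 yb12 zb59) (kb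 xb15 yb37 zb28) (kb xb30 yb30 zb10) (kb xb15 yb37 zb29) (kb xb29 yb40 zb25) (kb xb31 yb55 zb34) (kb xb31 yb55 zb37) (kb xb19 yb33 zb38) (kb xb19 yb28 zb52) (kb xb15 yb37 zb32) (kb xb15 yb37 zb33) (kb xb22 yb24 zb57) (kb xb31 yb55 zb46) (kb xb30 yb48 zb54) (kb xb31 yb55 zb45) (kb xb24 yb50 zb48) (kb xb28 yb35 zb28) (kb xb19 yb33 zb28) (kb xb19 yb28 zb51) (kb xb26 yb17 zb21) (kb xb23 yb10 zb18) (kb xb19 yb48 zb34) (kb xb18 yb6 zb27) (kb xb15 yb37 zb40) (kb xb17 yb40 zb4) (kb xb17 yb39 zb21) (kb xb31 yb44 zb38) (kb xb15 yb37 zb44) (kb xb31 yb55 zb50) (kb xb28 yb41 zb24) (kb xb27 yb4 zb7) (kb xb31 yb55 zb52) (kb xb15 yb37 zb49) (kb xb31 yb17 zb3) (kb xb27 yb19 zb45) (kb xb15 yb46 zb25) (kb xb15 yb46 zb27) (kb xb15 yb37 zb52) (kb xb16 yb3 zb59) (kb xb29 yb0 zb34) (kb xb21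 yb39 zb35) (kb xb27 yb26 zb48) (kb xb16 yb6 zb60) (kb xb25 yb28 zb54)) (@D3.rec (fun _ => Pt) (kb xb29 yb13 zb0) (kb xb30 yb45 zb12) (kb xb26 yb15 zb12) (kb xb29 yb56 zb25) (kb xb27 yb19 zb42) (kb xb15 yb38 zb0) (kb xb30 yb24 zb28) (kb xb25 yb55 zb28) (kb xb15 yb47 zb2) (kb xb25 yb55 zb41) (kb xb20 yb43 zb19) (kb xb15 yb38 zb11) (kb xb15 yb38 zb12) (kb xb15 yb38 zb3) (kb xb17 yb27 zb58) (kb xb25 yb13 zb32) (kb xb20 yb44 zb6) (kb xb15 yb55 zb0) (kb xb25 yb29 zb31) (kb xb25 yb29 zb26) (kb xb15 yb38 zb9) (kb xb24 yb58 zb44) (kb xb31 yb23 zb18) (kb xb15 yb38 zb10) (kb xb29 yb6 zb59) (kb xb29 yb49 zb10) (kb xb31 yb55 zb59) (kb xb29 yb13 zb22) (kb xb22 yb21 zb18) (kb xb25 yb13 zb25) (kb xb25 yb11 zb11) (kb xb21 yb43 zb22) (kb xb29 yb9 zb15) (kb xb27 yb19 zb58) (kb xb15 yb38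 zb16) (kb xb15 yb38 zb17) (kb xb31 yb41 zb9) (kb xb31 yb56 zb2) (kb xb15 yb38 zb18) (kb xb29 yb43 zb43) (kb xb29 yb59 zb10) (kb xb15 yb38 zb19) (kb xb31 yb40 zb42) (kb xb19 yb22 zb45) (kb xb25 yb13 zb45) (kb xb25 yb22 zb31) (kb xb28 yb51 zb20) (kb xb29 yb13 zb2) (kb xb15 yb54 zb55) (kb xb31 yb41 zb29) (kb xb30 yb7 zb13) (kb xb19 yb38 zb33) (kb xb31 yb49 zb53) (kb xb29 yb42 zb29) (kb xb25 yb12 zb46) (kb xb15 yb38 zb31) (kb xb15 yb38 zb37) (kb xb22 yb2 zb28) (kb xb15 yb38 zb35) (kb xb19 yb20 zb33) (kb xb16 yb3 zb34) (kb xb15 yb38 zb40)) (@D3.rec (fun _ => Pt) (kb xb27 yb39 zb61) (kb xb15 yb46 zb26) (kb xb15 yb38 zb43) (kb xb15 yb38 zb46) (kb xb18 yb16 zb34) (kb xb31 yb43 zb45) (kb xb31 yb38 zb43) (kb xb28 yb36 zb17) (kb xb22 yb9 zb52) (kb xb29 yb20 zb31) (kb xb29 yb20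 zb49) (kb xb25 yb47 zb61) (kb xb26 yb31 zb36) (kb xb27 yb2 zb55) (kb xb15 yb38 zb57) (kb xb21 yb39 zb19) (kb xb15 yb38 zb55) (kb xb31 yb23 zb30) (kb xb22 yb47 zb51) (kb xb15 yb38 zb60) (kb xb15 yb38 zb61) (kb xb25 yb29 zb6) (kb xb22 yb2 zb35) (kb xb22 yb57 zb27) (kb xb15 yb39 zb1) (kb xb31 yb27 zb12) (kb xb31 yb56 zb12) (kb xb15 yb39 zb7) (kb xb15 yb39 zb10) (kb xb31 yb56 zb13) (kb xb15 yb40 zb14) (kb xb16 yb5 zb13) (kb xb15 yb39 zb14) (kb xb31 yb33 zb41) (kb xb27 yb47 zb55) (kb xb25 yb58 zb46) (kb xb24 yb43 zb54) (kb xb15 yb39 zb19) (kb xb23 yb26 zb25) (kb xb28 yb23 zb34) (kb xb25 yb51 zb9) (kb xb31 yb36 zb7) (kb xb29 yb28 zb14) (kb xb15 yb46 zb15) (kb xb15 yb46 zb16) (kb xb24 yb41 zb9) (kb xb20 yb54 zb52) (kb xb15 yb39 zb27) (kb xb15 yb39 zb28) (kb xb15 yb39 zb40)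 (kb xb15 yb39 zb30) (kb xb29 yb6 zb48) (kb xb21 yb17 zb18) (kb xb15 yb39 zb31) (kb xb22 yb27 zb7) (kb xb25 yb49 zb7) (kb xb24 yb42 zb8) (kb xb31 yb35 zb14) (kb xb25 yb9 zb29) (kb xb15 yb39 zb45) (kb xb25 yb41 zb45) (kb xb25 yb11 zb39)) (@D3.rec (fun _ => Pt) (kb xb15 yb39 zb39) (kb xb25 yb9 zb25) (kb xb25 yb4 zb27) (kb xb31 yb56 zb17) (kb xb29 yb57 zb24) (kb xb20 yb5 zb11) (kb xb15 yb39 zb48) (kb xb19 yb15 zb33) (kb xb15 yb39 zb51) (kb xb17 yb43 zb39) (kb xb17 yb43 zb40) (kb xb25 yb58 zb11) (kb xb30 yb43 zb51) (kb xb30 yb14 zb39) (kb xb30 yb6 zb8) (kb xb15 yb39 zb55) (kb xb19 yb10 zb22) (kb xb31 yb56 zb19) (kb xb15 yb39 zb56) (kb xb31 yb56 zb20) (kb xb26 yb39 zb20) (kb xb31 yb29 zb19) (kb xb15 yb39 zb59) (kb xb22 yb16 zb34) (kb xb30 yb17 zb0) (kb xb21 yb5 zb31) (kb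 xb30 yb43 zb54) (kb xb22 yb9 zb17) (kb xb30 yb33 zb3) (kb xb15 yb40 zb1) (kb xb19 yb35 zb27) (kb xb15 yb40 zb6) (kb xb30 yb47 zb17) (kb xb15 yb40 zb11) (kb xb15 yb40 zb12) (kb xb30 yb50 zb55) (kb xb29 yb37 zb31) (kb xb31 yb35 zb11) (kb xb31 yb54 zb19) (kb xb31 yb35 zb46) (kb xb31 yb35 zb47) (kb xb31 yb54 zb20) (kb xb15 yb40 zb19) (kb xb25 yb59 zb2) (kb xb31 yb56 zb24) (kb xb29 yb1 zb56) (kb xb20 yb11 zb58) (kb xb19 yb37 zb32) (kb xb30 yb50 zb51) (kb xb24 yb8 zb44) (kb xb24 yb58 zb46) (kb xb25 yb45 zb13) (kb xb31 yb54 zb16) (kb xb24 yb8 zb48) (kb xb17 yb42 zb53) (kb xb30 yb50 zb22) (kb xb29 yb43 zb7) (kb xb15 yb40 zb27) (kb xb15 yb40 zb26) (kb xb20 yb35 zb4) (kb xb29 yb43 zb6) (kb xb30 yb46 zb49)) (@D3.rec (fun _ => Pt) (kb xb15 yb40 zb28) (kb xb25 yb56 zb42) (kb xb23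 yb53 zb58) (kb xb15 yb40 zb29) (kb xb25 yb58 zb44) (kb xb15 yb40 zb33) (kb xb31 yb56 zb29) (kb xb26 yb25 zb36) (kb xb15 yb40 zb35) (kb xb29 yb31 zb55) (kb xb15 yb40 zb36) (kb xb31 yb23 zb28) (kb xb27 yb41 zb45) (kb xb20 yb34 zb0) (kb xb22 yb47 zb47) (kb xb27 yb12 zb60) (kb xb29 yb47 zb52) (kb xb31 yb56 zb33) (kb xb15 yb40 zb48) (kb xb15 yb40 zb46) (kb xb31 yb56 zb35) (kb xb19 yb45 zb57) (kb xb31 yb4 zb23) (kb xb31 yb23 zb25) (kb xb27 yb22 zb24) (kb xb15 yb40 zb54) (kb xb15 yb40 zb55) (kb xb22 yb57 zb32) (kb xb31 yb48 zb59) (kb xb15 yb40 zb57) (kb xb31 yb53 zb42) (kb xb17 yb32 zb4) (kb xb20 yb43 zb61) (kb xb15 yb41 zb3) (kb xb29 yb7 zb13) (kb xb22 yb7 zb6) (kb xb21 yb48 zb27) (kb xb15 yb41 zb30) (kb xb15 yb41 zb9) (kb xb15 yb41 zb10) (kb xb26 yb3 zb54) (kb xb24 yb32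 zb28) (kb xb16 yb14 zb12) (kb xb16 yb14 zb9) (kb xb15 yb41 zb12) (kb xb15 yb41 zb13) (kb xb20 yb57 zb41) (kb xb24 yb37 zb33) (kb xb31 yb56 zb38) (kb xb15 yb41 zb16) (kb xb21 yb1 zb46) (kb xb31 yb27 zb13) (kb xb21 yb1 zb48) (kb xb21 yb5 zb40) (kb xb26 yb59 zb3) (kb xb15 yb47 zb27) (kb xb20 yb37 zb31) (kb xb15 yb41 zb23) (kb xb29 yb0 zb1) (kb xb15 yb41 zb25) (kb xb28 yb49 zb47) (kb xb16 yb41 zb53)) (@D3.rec (fun _ => Pt) (kb xb29 yb12 zb21) (kb xb24 yb42 zb18) (kb xb30 yb7 zb26) (kb xb24 yb52 zb21) (kb xb21 yb56 zb10) (kb xb30 yb42 zb41) (kb xb23 yb14 zb55) (kb xb24 yb42 zb53) (kb xb15 yb41 zb35) (kb xb31 yb18 zb17) (kb xb25 yb9 zb20) (kb xb31 yb56 zb42) (kb xb29 yb5 zb59) (kb xb23 yb28 zb25) (kb xb15 yb41 zb40) (kb xb31 yb55 zb0) (kb xb31 yb56 zb48) (kb xb25 yb40 zb11)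 (kb xb31 yb56 zb52) (kb xb29 yb57 zb44) (kb xb29 yb58 zb37) (kb xb28 yb1 zb30) (kb xb24 yb50 zb32) (kb xb15 yb41 zb48) (kb xb15 yb41 zb49) (kb xb31 yb56 zb54) (kb xb31 yb20 zb34) (kb xb29 yb11 zb19) (kb xb15 yb41 zb53) (kb xb31 yb56 zb56) (kb xb31 yb41 zb17) (kb xb26 yb34 zb20) (kb xb31 yb56 zb60) (kb xb24 yb34 zb2) (kb xb15 yb41 zb57) (kb xb15 yb41 zb58) (kb xb26 yb46 zb58) (kb xb29 yb36 zb10) (kb xb31 yb57 zb2) (kb xb29 yb12 zb25) (kb xb24 yb21 zb16) (kb xb26 yb1 zb36) (kb xb15 yb42 zb7) (kb xb15 yb42 zb8) (kb xb18 yb18 zb46) (kb xb23 yb59 zb18) (kb xb24 yb34 zb23) (kb xb24 yb32 zb16) (kb xb31 yb49 zb60) (kb xb15 yb42 zb6) (kb xb31 yb37 zb33) (kb xb19 yb49 zb33) (kb xb31 yb35 zb37) (kb xb30 yb2 zb22) (kb xb29 yb9 zb19) (kb xb28 yb57 zb46) (kb xb20 yb28 zb33) (kb xb21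 yb2 zb14) (kb xb15 yb42 zb17) (kb xb15 yb42 zb19) (kb xb15 yb42 zb20) (kb xb31 yb57 zb4)) (@D3.rec (fun _ => Pt) (kb xb28 yb11 zb60) (kb xb19 yb56 zb3) (kb xb31 yb34 zb46) (kb xb29 yb10 zb24) (kb xb28 yb57 zb44) (kb xb15 yb42 zb22) (kb xb25 yb26 zb56) (kb xb30 yb19 zb44) (kb xb26 yb1 zb49) (kb xb15 yb42 zb26) (kb xb21 yb22 zb20) (kb xb15 yb42 zb27) (kb xb15 yb42 zb28) (kb xb24 yb37 zb55) (kb xb29 yb5 zb60) (kb xb26 yb58 zb33) (kb xb29 yb58 zb52) (kb xb19 yb40 zb28) (kb xb25 yb38 zb46) (kb xb15 yb42 zb29) (kb xb29 yb9 zb36) (kb xb15 yb42 zb30) (kb xb15 yb53 zb39) (kb xb23 yb22 zb45) (kb xb25 yb41 zb24) (kb xb26 yb1 zb44) (kb xb24 yb45 zb28) (kb xb18 yb27 zb46) (kb xb15 yb42 zb34) (kb xb15 yb42 zb35) (kb xb19 yb14 zb36) (kb xb31 yb37 zb50) (kb xb31 yb57 zb16) (kb xb26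 yb47 zb24) (kb xb21 yb48 zb54) (kb xb31 yb46 zb11) (kb xb27 yb39 zb25) (kb xb23 yb23 zb38) (kb xb15 yb42 zb39) (kb xb26 yb14 zb30) (kb xb15 yb42 zb49) (kb xb19 yb58 zb52) (kb xb15 yb42 zb45) (kb xb15 yb42 zb46) (kb xb28 yb31 zb40) (kb xb25 yb40 zb7) (kb xb25 yb38 zb18) (kb xb15 yb42 zb47) (kb xb31 yb39 zb50) (kb xb31 yb57 zb25) (kb xb26 yb47 zb6) (kb xb29 yb14 zb4) (kb xb29 yb10 zb54) (kb xb23 yb41 zb52) (kb xb29 yb58 zb27) (kb xb28 yb19 zb5) (kb xb15 yb42 zb52) (kb xb27 yb23 zb34) (kb xb31 yb7 zb36) (kb xb16 yb7 zb21) (kb xb15 yb42 zb55) (kb xb15 yb42 zb56)) (@D3.rec (fun _ => Pt) (kb xb16 yb7 zb22) (kb xb31 yb57 zb37) (kb xb31 yb57 zb36) (kb xb28 yb49 zb37) (kb xb15 yb42 zb57) (kb xb27 yb18 zb29) (kb xb31 yb57 zb41) (kb xb15 yb42 zb58) (kb xb31 yb57 zb49) (kb xb31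 yb57 zb48) (kb xb29 yb11 zb33) (kb xb29 yb23 zb17) (kb xb15 yb42 zb59) (kb xb28 yb13 zb32) (kb xb29 yb49 zb40) (kb xb30 yb55 zb22) (kb xb29 yb11 zb31) (kb xb15 yb43 zb3) (kb xb15 yb43 zb4) (kb xb23 yb29 zb33) (kb xb31 yb6 zb27) (kb xb30 yb42 zb46) (kb xb15 yb43 zb9) (kb xb27 yb25 zb37) (kb xb16 yb8 zb3) (kb xb15 yb43 zb11) (kb xb23 yb24 zb29) (kb xb26 yb48 zb7) (kb xb17 yb21 zb15) (kb xb15 yb43 zb16) (kb xb16 yb56 zb34) (kb xb26 yb47 zb54) (kb xb15 yb43 zb17) (kb xb17 yb40 zb43) (kb xb15 yb43 zb24) (kb xb26 yb2 zb56) (kb xb15 yb43 zb25) (kb xb30 yb51 zb57) (kb xb23 yb27 zb3) (kb xb29 yb21 zb56) (kb xb21 yb3 zb57) (kb xb15 yb43 zb28) (kb xb15 yb58 zb2) (kb xb23 yb39 zb60) (kb xb24 yb36 zb2) (kb xb17 yb17 zb50) (kb xb15 yb43 zb33) (kb xb15 yb43 zb37) (kb xb15 yb43 zb38)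 (kb xb25 yb55 zb15) (kb xb27 yb25 zb41) (kb xb17 yb55 zb4) (kb xb20 yb5 zb34) (kb xb22 yb38 zb60) (kb xb31 yb41 zb61) (kb xb20 yb24 zb34) (kb xb15 yb43 zb46) (kb xb21 yb41 zb4) (kb xb31 yb4 zb2) (kb xb20 yb24 zb50) (kb xb20 yb24 zb55) (kb xb25 yb42 zb38)) (@D3.rec (fun _ => Pt) (kb xb27 yb41 zb28) (kb xb19 yb46 zb22) (kb xb30 yb10 zb58) (kb xb30 yb5 zb17) (kb xb22 yb3 zb1) (kb xb15 yb43 zb52) (kb xb31 yb57 zb60) (kb xb25 yb38 zb45) (kb xb15 yb43 zb53) (kb xb30 yb20 zb16) (kb xb25 yb41 zb46) (kb xb25 yb37 zb17) (kb xb15 yb43 zb54) (kb xb31 yb30 zb22) (kb xb30 yb16 zb59) (kb xb27 yb33 zb35) (kb xb17 yb28 zb20) (kb xb30 yb40 zb44) (kb xb25 yb4 zb61) (kb xb23 yb2 zb27) (kb xb19 yb46 zb12) (kb xb31 yb11 zb11) (kb xb30 yb36 zb13) (kb xb23 yb23 zb43) (kb xb27 yb26 zb55) (kb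 xb15 yb44 zb2) (kb xb23 yb33 zb37) (kb xb20 yb48 zb61) (kb xb15 yb44 zb3) (kb xb29 yb19 zb50) (kb xb31 yb58 zb13) (kb xb19 yb11 zb25) (kb xb15 yb44 zb5) (kb xb15 yb44 zb6) (kb xb30 yb37 zb9) (kb xb31 yb21 zb52) (kb xb15 yb44 zb8) (kb xb15 yb44 zb11) (kb xb16 yb9 zb43) (kb xb16 yb55 zb51) (kb xb19 yb58 zb44) (kb xb15 yb44 zb17) (kb xb26 yb51 zb22) (kb xb15 yb44 zb24) (kb xb15 yb44 zb23) (kb xb31 yb58 zb14) (kb xb31 yb58 zb15) (kb xb19 yb12 zb14) (kb xb15 yb44 zb26) (kb xb15 yb44 zb48) (kb xb25 yb10 zb44) (kb xb26 yb40 zb36) (kb xb16 yb5 zb30) (kb xb27 yb4 zb6) (kb xb29 yb59 zb44) (kb xb22 yb10 zb22) (kb xb16 yb3 zb4) (kb xb30 yb4 zb8) (kb xb21 yb46 zb57) (kb xb15 yb44 zb36) (kb xb28 yb31 zb13) (kb xb15 yb44 zb37)) (@D3.rec (fun _ => Pt) (kb xb24 yb42 zb9) (kb xb15 yb44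 zb38) (kb xb17 yb52 zb0) (kb xb21 yb31 zb19) (kb xb15 yb44 zb39) (kb xb29 yb59 zb43) (kb xb21 yb8 zb22) (kb xb26 yb3 zb9) (kb xb23 yb36 zb19) (kb xb24 yb42 zb42) (kb xb15 yb44 zb42) (kb xb25 yb2 zb33) (kb xb29 yb52 zb3) (kb xb16 yb11 zb44) (kb xb24 yb58 zb15) (kb xb15 yb44 zb46) (kb xb18 yb2 zb43) (kb xb30 yb8 zb49) (kb xb17 yb39 zb45) (kb xb16 yb50 zb11) (kb xb15 yb44 zb50) (kb xb27 yb10 zb52) (kb xb27 yb37 zb20) (kb xb15 yb44 zb60) (kb xb25 yb38 zb24) (kb xb18 yb33 zb56) (kb xb15 yb44 zb55) (kb xb25 yb49 zb12) (kb xb24 yb20 zb53) (kb xb31 yb8 zb22) (kb xb19 yb58 zb56) (kb xb15 yb44 zb57) (kb xb26 yb41 zb15) (kb xb15 yb44 zb58) (kb xb19 yb40 zb26) (kb xb16 yb5 zb6) (kb xb15 yb44 zb59) (kb xb29 yb43 zb38) (kb xb21 yb46 zb33) (kb xb16 yb50 zb4) (kb xb21 yb50 zb2) (kb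 xb25 yb7 zb45) (kb xb25 yb13 zb13) (kb xb21 yb46 zb45) (kb xb15 yb45 zb3) (kb xb25 yb34 zb60) (kb xb25 yb40 zb10) (kb xb15 yb45 zb6) (kb xb15 yb45 zb7) (kb xb16 yb9 zb31) (kb xb17 yb29 zb39) (kb xb25 yb42 zb46) (kb xb15 yb45 zb9) (kb xb25 yb7 zb32) (kb xb29 yb0 zb9) (kb xb30 yb5 zb23) (kb xb15 yb45 zb13) (kb xb19 yb16 zb36) (kb xb19 yb28 zb10) (kb xb24 yb41 zb41) (kb xb15 yb45 zb19) (kb xb15 yb45 zb20)) (@D3.rec (fun _ => Pt) (kb xb27 yb1 zb41) (kb xb30 yb6 zb5) (kb xb26 yb8 zb7) (kb xb15 yb45 zb21) (kb xb31 yb17 zb15) (kb xb29 yb1 zb21) (kb xb28 yb49 zb30) (kb xb15 yb45 zb26) (kb xb15 yb45 zb28) (kb xb21 yb57 zb39) (kb xb19 yb15 zb55) (kb xb16 yb5 zb36) (kb xb15 yb45 zb35) (kb xb17 yb56 zb36) (kb xb26 yb2 zb32) (kb xb23 yb35 zb21) (kb xb15 yb45 zb38) (kb xb29 yb59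 zb30) (kb xb29 yb51 zb12) (kb xb30 yb0 zb26) (kb xb29 yb21 zb57) (kb xb21 yb59 zb15) (kb xb15 yb57 zb47) (kb xb29 yb50 zb36) (kb xb26 yb10 zb56) (kb xb31 yb7 zb24) (kb xb26 yb2 zb16) (kb xb27 yb47 zb26) (kb xb15 yb45 zb49) (kb xb18 yb3 zb17) (kb xb25 yb2 zb57) (kb xb15 yb45 zb54) (kb xb15 yb45 zb58) (kb xb20 yb17 zb28) (kb xb26 yb5 zb35) (kb xb26 yb5 zb34) (kb xb15 yb45 zb59) (kb xb29 yb22 zb57) (kb xb25 yb39 zb61) (kb xb29 yb26 zb38) (kb xb30 yb24 zb40) (kb xb31 yb58 zb40) (kb xb23 yb39 zb61) (kb xb31 yb58 zb32) (kb xb15 yb46 zb2) (kb xb21 yb34 zb12) (kb xb25 yb41 zb51) (kb xb15 yb46 zb4) (kb xb29 yb57 zb18) (kb xb31 yb58 zb44) (kb xb15 yb46 zb5) (kb xb31 yb11 zb55) (kb xb31 yb37 zb48) (kb xb15 yb46 zb6) (kb xb26 yb7 zb20) (kb xb15 yb46 zb8) (kb xb31 yb58 zb48) (kb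 xb30 yb1 zb22) (kb xb22 yb43 zb42) (kb xb15 yb46 zb12) (kb xb18 yb40 zb24) (kb xb21 yb56 zb7)) (@D3.rec (fun _ => Pt) (kb xb27 yb1 zb34) (kb xb25 yb16 zb36) (kb xb15 yb46 zb20) (kb xb31 yb43 zb11) (kb xb31 yb58 zb51) (kb xb16 yb14 zb1) (kb xb22 yb33 zb57) (kb xb31 yb55 zb53) (kb xb28 yb14 zb15) (kb xb15 yb46 zb30) (kb xb27 yb38 zb32) (kb xb17 yb30 zb33) (kb xb15 yb46 zb32) (kb xb24 yb13 zb48) (kb xb31 yb46 zb40) (kb xb25 yb29 zb33) (kb xb20 yb29 zb39) (kb xb15 yb46 zb44) (kb xb23 yb0 zb17) (kb xb28 yb50 zb36) (kb xb29 yb21 zb35) (kb xb29 yb1 zb28) (kb xb19 yb30 zb30) (kb xb31 yb25 zb45) (kb xb20 yb40 zb4) (kb xb29 yb6 zb58) (kb xb26 yb24 zb40) (kb xb26 yb37 zb21) (kb xb15 yb46 zb46) (kb xb15 yb58 zb24) (kb xb15 yb46 zb49) (kb xb15 yb46 zb50) (kb xb17 yb59 zb3) (kb xb25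 yb30 zb4) (kb xb23 yb54 zb16) (kb xb22 yb53 zb28) (kb xb15 yb46 zb59) (kb xb27 yb15 zb10) (kb xb15 yb46 zb61) (kb xb17 yb36 zb2) (kb xb15 yb59 zb38) (kb xb30 yb55 zb45) (kb xb16 yb0 zb21) (kb xb31 yb37 zb5) (kb xb15 yb59 zb35) (kb xb16 yb6 zb61) (kb xb15 yb47 zb4) (kb xb15 yb57 zb30) (kb xb25 yb48 zb61) (kb xb16 yb1 zb44) (kb xb15 yb47 zb6) (kb xb31 yb58 zb59) (kb xb16 yb1 zb41) (kb xb15 yb47 zb8) (kb xb15 yb47 zb9) (kb xb16 yb26 zb2) (kb xb15 yb47 zb10) (kb xb15 yb47 zb11) (kb xb29 yb54 zb52) (kb xb29 yb17 zb46) (kb xb16 yb2 zb18) (kb xb15 yb47 zb16)) (@D3.rec (fun _ => Pt) (kb xb17 yb35 zb53) (kb xb15 yb47 zb17) (kb xb31 yb58 zb61) (kb xb15 yb52 zb32) (kb xb15 yb47 zb21) (kb xb31 yb27 zb16) (kb xb15 yb47 zb25) (kb xb31 yb12 zb15) (kb xb29 yb48 zb59) (kb xb23 yb20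 zb13) (kb xb30 yb57 zb10) (kb xb21 yb21 zb49) (kb xb22 yb46 zb7) (kb xb21 yb28 zb16) (kb xb26 yb47 zb13) (kb xb29 yb10 zb43) (kb xb24 yb40 zb5) (kb xb19 yb27 zb59) (kb xb15 yb52 zb30) (kb xb15 yb52 zb31) (kb xb27 yb37 zb51) (kb xb27 yb4 zb18) (kb xb26 yb5 zb27) (kb xb21 yb20 zb35) (kb xb31 yb50 zb7) (kb xb27 yb17 zb32) (kb xb17 yb16 zb8) (kb xb30 yb56 zb49) (kb xb15 yb47 zb49) (kb xb31 yb24 zb19) (kb xb30 yb12 zb44) (kb xb16 yb38 zb50) (kb xb30 yb12 zb42) (kb xb27 yb19 zb49) (kb xb17 yb41 zb51) (kb xb26 yb55 zb5) (kb xb15 yb47 zb57) (kb xb21 yb22 zb35) (kb xb15 yb48 zb3) (kb xb17 yb49 zb47) (kb xb15 yb48 zb0) (kb xb24 yb19 zb14) (kb xb21 yb23 zb9) (kb xb30 yb14 zb37) (kb xb16 yb43 zb27) (kb xb27 yb38 zb54) (kb xb15 yb48 zb4) (kb xb20 yb23 zb15) (kb xb29 yb32 zb44) (kb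 xb25 yb29 zb14) (kb xb23 yb9 zb3) (kb xb20 yb53 zb15) (kb xb17 yb52 zb37) (kb xb23 yb47 zb20) (kb xb21 yb11 zb37) (kb xb15 yb48 zb11) (kb xb21 yb42 zb28) (kb xb31 yb1 zb32) (kb xb27 yb22 zb59) (kb xb17 yb16 zb13) (kb xb15 yb48 zb16) (kb xb16 yb14 zb55)) (@D3.rec (fun _ => Pt) (kb xb31 yb59 zb10) (kb xb20 yb49 zb0) (kb xb15 yb48 zb22) (kb xb31 yb18 zb22) (kb xb25 yb16 zb57) (kb xb15 yb48 zb29) (kb xb16 yb36 zb58) (kb xb27 yb37 zb42) (kb xb20 yb56 zb20) (kb xb31 yb59 zb11) (kb xb21 yb16 zb51) (kb xb20 yb51 zb59) (kb xb15 yb48 zb36) (kb xb25 yb35 zb51) (kb xb21 yb46 zb30) (kb xb15 yb48 zb41) (kb xb15 yb48 zb47) (kb xb15 yb48 zb46) (kb xb30 yb3 zb8) (kb xb15 yb48 zb51) (kb xb27 yb25 zb36) (kb xb26 yb4 zb32) (kb xb15 yb48 zb57) (kb xb31 yb54 zb8) (kb xb17 yb39 zb9) (kb xb31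 yb55 zb49) (kb xb15 yb48 zb58) (kb xb15 yb48 zb59) (kb xb29 yb16 zb58) (kb xb15 yb49 zb4) (kb xb15 yb49 zb5) (kb xb30 yb3 zb55) (kb xb21 yb25 zb48) (kb xb18 yb36 zb20) (kb xb21 yb35 zb4) (kb xb17 yb17 zb49) (kb xb17 yb50 zb58) (kb xb15 yb49 zb20) (kb xb28 yb47 zb22) (kb xb26 yb22 zb55) (kb xb20 yb10 zb0) (kb xb26 yb46 zb33) (kb xb17 yb56 zb30) (kb xb20 yb9 zb54) (kb xb24 yb54 zb38) (kb xb30 yb19 zb32) (kb xb15 yb49 zb32) (kb xb27 yb27 zb17) (kb xb16 yb25 zb44) (kb xb15 yb49 zb40) (kb xb20 yb15 zb0) (kb xb21 yb33 zb20) (kb xb21 yb33 zb9) (kb xb20 yb27 zb28) (kb xb21 yb46 zb19) (kb xb29 yb27 zb44) (kb xb26 yb48 zb56) (kb xb16 yb3 zb15) (kb xb15 yb49 zb56) (kb xb25 yb10 zb56) (kb xb31 yb14 zb33) (kb xb27 yb47 zb6)) (@D3.rec (fun _ => Pt) (kb xb27 yb55 zb27) (kb xb18 yb37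 zb32) (kb xb18 yb46 zb20) (kb xb19 yb13 zb11) (kb xb16 yb45 zb58) (kb xb27 yb30 zb46) (kb xb27 yb36 zb51) (kb xb15 yb50 zb1) (kb xb24 yb18 zb24) (kb xb18 yb47 zb24) (kb xb15 yb50 zb3) (kb xb24 yb3 zb15) (kb xb20 yb43 zb28) (kb xb15 yb50 zb8) (kb xb29 yb12 zb23) (kb xb25 yb16 zb0) (kb xb25 yb2 zb23) (kb xb25 yb16 zb4) (kb xb28 yb0 zb29) (kb xb23 yb25 zb18) (kb xb31 yb59 zb22) (kb xb15 yb50 zb13) (kb xb22 yb38 zb42) (kb xb22 yb52 zb32) (kb xb27 yb3 zb33) (kb xb18 yb23 zb46) (kb xb23 yb20 zb43) (kb xb16 yb30 zb15) (kb xb15 yb50 zb18) (kb xb16 yb5 zb16) (kb xb26 yb48 zb58) (kb xb30 yb4 zb11) (kb xb30 yb20 zb13) (kb xb30 yb13 zb40) (kb xb23 yb33 zb12) (kb xb23 yb32 zb19) (kb xb15 yb50 zb28) (kb xb23 yb44 zb0) (kb xb23 yb21 zb0) (kb xb15 yb50 zb34) (kb xb23 yb32 zb22) (kb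 xb21 yb13 zb34) (kb xb21 yb57 zb0) (kb xb18 yb59 zb55) (kb xb18 yb16 zb4) (kb xb22 yb42 zb19) (kb xb27 yb31 zb59) (kb xb15 yb50 zb46) (kb xb28 yb46 zb42) (kb xb28 yb25 zb58) (kb xb26 yb23 zb32) (kb xb16 yb21 zb52) (kb xb15 yb50 zb57) (kb xb24 yb18 zb23) (kb xb19 yb18 zb12) (kb xb15 yb51 zb2) (kb xb15 yb51 zb3) (kb xb15 yb52 zb14) (kb xb30 yb26 zb31) (kb xb28 yb27 zb56) (kb xb31 yb32 zb35) (kb xb30 yb49 zb38)) (@D3.rec (fun _ => Pt) (kb xb29 yb54 zb42) (kb xb19 yb56 zb49) (kb xb27 yb23 zb48) (kb xb15 yb51 zb12) (kb xb30 yb19 zb34) (kb xb31 yb59 zb33) (kb xb24 yb57 zb61) (kb xb27 yb42 zb15) (kb xb15 yb51 zb16) (kb xb24 yb44 zb47) (kb xb23 yb42 zb19) (kb xb17 yb37 zb12) (kb xb15 yb51 zb18) (kb xb27 yb51 zb3) (kb xb15 yb51 zb24) (kb xb29 yb7 zb51) (kb xb31 yb59 zb38) (kb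 xb29 yb31 zb53) (kb xb19 yb38 zb52) (kb xb25 yb50 zb20) (kb xb28 yb42 zb26) (kb xb22 yb22 zb59) (kb xb19 yb8 zb4) (kb xb18 yb12 zb60) (kb xb24 yb20 zb29) (kb xb15 yb51 zb38) (kb xb26 yb19 zb40) (kb xb19 yb45 zb56) (kb xb27 yb38 zb2) (kb xb23 yb12 zb11) (kb xb28 yb32 zb59) (kb xb15 yb51 zb49) (kb xb19 yb51 zb34) (kb xb31 yb59 zb39) (kb xb15 yb51 zb50) (kb xb15 yb51 zb51) (kb xb23 yb56 zb59) (kb xb29 yb21 zb34) (kb xb23 yb12 zb25) (kb xb24 yb28 zb48) (kb xb25 yb16 zb52) (kb xb15 yb51 zb59) (kb xb31 yb59 zb43) (kb xb16 yb46 zb33) (kb xb31 yb51 zb16) (kb xb15 yb52 zb3) (kb xb15 yb52 zb5) (kb xb24 yb39 zb17) (kb xb26 yb33 zb32) (kb xb19 yb41 zb23) (kb xb15 yb52 zb8) (kb xb15 yb52 zb9) (kb xb15 yb52 zb10) (kb xb31 yb41 zb48) (kb xb31 yb59 zb48) (kb xb31 yb59 zb45) (kb xb30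 yb27 zb4) (kb xb31 yb59 zb46) (kb xb31 yb41 zb6) (kb xb15 yb52 zb12) (kb xb15 yb52 zb13) (kb xb25 yb34 zb11)) (@D3.rec (fun _ => Pt) (kb xb19 yb45 zb17) (kb xb23 yb59 zb54) (kb xb30 yb21 zb3) (kb xb30 yb3 zb58) (kb xb26 yb58 zb2) (kb xb27 yb54 zb40) (kb xb29 yb54 zb43) (kb xb18 yb2 zb36) (kb xb27 yb49 zb34) (kb xb20 yb10 zb53) (kb xb15 yb52 zb17) (kb xb29 yb18 zb35) (kb xb25 yb6 zb44) (kb xb29 yb31 zb42) (kb xb29 yb38 zb38) (kb xb29 yb21 zb15) (kb xb31 yb59 zb52) (kb xb30 yb9 zb34) (kb xb25 yb6 zb45) (kb xb15 yb52 zb23) (kb xb31 yb59 zb55) (kb xb26 yb52 zb59) (kb xb31 yb59 zb54) (kb xb15 yb52 zb24) (kb xb30 yb14 zb14) (kb xb31 yb59 zb56) (kb xb31 yb32 zb9) (kb xb20 yb46 zb1) (kb xb24 yb14 zb49) (kb xb16 yb6 zb3) (kb xb24 yb51 zb21) (kb xb15 yb52 zb33) (kb xb21 yb5 zb12)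 (kb xb31 yb59 zb58) (kb xb15 yb52 zb36) (kb xb21 yb5 zb37) (kb xb21 yb5 zb18) (kb xb31 yb35 zb40) (kb xb27 yb26 zb11) (kb xb15 yb52 zb37) (kb xb15 yb52 zb38) (kb xb31 yb35 zb5) (kb xb15 yb52 zb42) (kb xb15 yb52 zb43) (kb xb15 yb59 zb42) (kb xb20 yb43 zb39) (kb xb31 yb38 zb5) (kb xb15 yb52 zb50) (kb xb25 yb29 zb58) (kb xb15 yb52 zb48) (kb xb23 yb8 zb50) (kb xb15 yb52 zb49) (kb xb23 yb7 zb52) (kb xb32 yb0 zb3) (kb xb15 yb52 zb54) (kb xb25 yb53 zb56) (kb xb24 yb38 zb23) (kb xb15 yb52 zb58) (kb xb15 yb56 zb20) (kb xb23 yb11 zb9) (kb xb27 yb24 zb18) (kb xb25 yb43 zb48)) (@D3.rec (fun _ => Pt) (kb xb24 yb7 zb9) (kb xb27 yb24 zb19) (kb xb32 yb0 zb4) (kb xb30 yb55 zb42) (kb xb27 yb24 zb11) (kb xb27 yb24 zb25) (kb xb15 yb53 zb4) (kb xb25 yb34 zb55) (kb xb31 yb28 zb55) (kb xb15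 yb53 zb12) (kb xb19 yb28 zb48) (kb xb15 yb53 zb11) (kb xb25 yb41 zb27) (kb xb25 yb14 zb17) (kb xb27 yb16 zb56) (kb xb32 yb0 zb7) (kb xb25 yb14 zb15) (kb xb25 yb9 zb14) (kb xb19 yb14 zb31) (kb xb15 yb53 zb15) (kb xb19 yb14 zb32) (kb xb32 yb0 zb10) (kb xb32 yb0 zb11) (kb xb24 yb14 zb2) (kb xb15 yb53 zb20) (kb xb24 yb14 zb4) (kb xb22 yb56 zb54) (kb xb15 yb53 zb22) (kb xb23 yb1 zb22) (kb xb15 yb53 zb26) (kb xb31 yb23 zb59) (kb xb15 yb53 zb30) (kb xb26 yb34 zb14) (kb xb31 yb34 zb18) (kb xb15 yb53 zb32) (kb xb28 yb54 zb13) (kb xb26 yb0 zb14) (kb xb19 yb5 zb55) (kb xb27 yb27 zb53) (kb xb15 yb53 zb43) (kb xb15 yb53 zb42) (kb xb31 yb36 zb11) (kb xb27 yb22 zb19) (kb xb25 yb11 zb49) (kb xb20 yb15 zb23) (kb xb31 yb32 zb26) (kb xb27 yb17 zb29) (kb xb24 yb16 zb35) (kb xb21 yb37 zb49)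 (kb xb29 yb6 zb37) (kb xb30 yb53 zb54) (kb xb15 yb53 zb59) (kb xb23 yb30 zb40) (kb xb32 yb0 zb14) (kb xb15 yb53 zb60) (kb xb24 yb20 zb24) (kb xb24 yb4 zb23) (kb xb15 yb53 zb61) (kb xb15 yb54 zb1) (kb xb23 yb30 zb33) (kb xb26 yb13 zb53) (kb xb15 yb54 zb6)) (@D3.rec (fun _ => Pt) (kb xb15 yb54 zb7) (kb xb15 yb54 zb9) (kb xb29 yb30 zb60) (kb xb32 yb0 zb19) (kb xb15 yb54 zb10) (kb xb25 yb29 zb27) (kb xb25 yb26 zb0) (kb xb21 yb45 zb34) (kb xb15 yb54 zb17) (kb xb18 yb44 zb2) (kb xb18 yb44 zb3) (kb xb19 yb37 zb40) (kb xb16 yb49 zb21) (kb xb15 yb54 zb26) (kb xb29 yb3 zb55) (kb xb20 yb15 zb28) (kb xb15 yb54 zb28) (kb xb15 yb54 zb29) (kb xb15 yb54 zb22) (kb xb16 yb44 zb49) (kb xb25 yb47 zb19) (kb xb31 yb45 zb33) (kb xb23 yb52 zb11) (kb xb22 yb57 zb33) (kb xb23 yb52 zb12) (kb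 xb23 yb5 zb58) (kb xb17 yb50 zb10) (kb xb15 yb54 zb25) (kb xb16 yb22 zb42) (kb xb21 yb53 zb13) (kb xb32 yb0 zb20) (kb xb31 yb48 zb9) (kb xb31 yb48 zb13) (kb xb31 yb43 zb55) (kb xb32 yb0 zb24) (kb xb22 yb55 zb2) (kb xb29 yb6 zb46) (kb xb28 yb50 zb19) (kb xb24 yb18 zb4) (kb xb27 yb14 zb36) (kb xb15 yb54 zb41) (kb xb15 yb54 zb42) (kb xb26 yb17 zb23) (kb xb28 yb50 zb20) (kb xb31 yb26 zb1) (kb xb19 yb51 zb35) (kb xb23 yb12 zb26) (kb xb26 yb45 zb15) (kb xb17 yb0 zb51) (kb xb20 yb41 zb34) (kb xb31 yb48 zb37) (kb xb31 yb23 zb39) (kb xb31 yb59 zb40) (kb xb24 yb37 zb2) (kb xb19 yb49 zb28) (kb xb31 yb49 zb2) (kb xb19 yb16 zb27) (kb xb15 yb54 zb46) (kb xb19 yb21 zb16) (kb xb29 yb53 zb54) (kb xb25 yb10 zb35) (kb xb29 yb22 zb40)) (@D3.rec (fun _ => Pt) (kb xb29 yb22 zb15) (kb xb15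 yb54 zb49) (kb xb21 yb49 zb46) (kb xb17 yb29 zb14) (kb xb21 yb21 zb39) (kb xb19 yb10 zb4) (kb xb29 yb37 zb49) (kb xb19 yb37 zb43) (kb xb15 yb54 zb52) (kb xb25 yb34 zb40) (kb xb32 yb0 zb43) (kb xb15 yb54 zb53) (kb xb27 yb18 zb55) (kb xb32 yb0 zb44) (kb xb32 yb0 zb41) (kb xb15 yb54 zb58) (kb xb17 yb19 zb17) (kb xb17 yb29 zb11) (kb xb17 yb19 zb27) (kb xb15 yb55 zb2) (kb xb25 yb31 zb50) (kb xb32 yb0 zb46) (kb xb15 yb55 zb3) (kb xb19 yb23 zb58) (kb xb18 yb48 zb48) (kb xb15 yb55 zb8) (kb xb28 yb28 zb60) (kb xb24 yb4 zb45) (kb xb32 yb0 zb48) (kb xb15 yb55 zb12) (kb xb25 yb5 zb50) (kb xb30 yb11 zb34) (kb xb18 yb48 zb7) (kb xb26 yb50 zb49) (kb xb28 yb45 zb53) (kb xb22 yb40 zb54) (kb xb15 yb55 zb20) (kb xb31 yb29 zb49) (kb xb15 yb55 zb21) (kb xb20 yb56 zb33) (kb xb15 yb55 zb24)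 (kb xb32 yb0 zb52) (kb xb15 yb55 zb25) (kb xb30 yb39 zb4) (kb xb22 yb39 zb6) (kb xb19 yb15 zb38) (kb xb15 yb55 zb28) (kb xb29 yb24 zb41) (kb xb22 yb23 zb39) (kb xb19 yb4 zb15) (kb xb15 yb55 zb40) (kb xb26 yb52 zb34) (kb xb22 yb36 zb46) (kb xb18 yb48 zb51) (kb xb25 yb52 zb59) (kb xb22 yb32 zb42) (kb xb24 yb4 zb58) (kb xb15 yb55 zb48) (kb xb16 yb11 zb21) (kb xb22 yb45 zb31) (kb xb22 yb38 zb28) (kb xb25 yb53 zb7)) (@D3.rec (fun _ => Pt) (kb xb26 yb6 zb59) (kb xb30 yb51 zb19) (kb xb20 yb9 zb22) (kb xb20 yb8 zb30) (kb xb19 yb48 zb53) (kb xb15 yb55 zb54) (kb xb18 yb41 zb4) (kb xb22 yb32 zb49) (kb xb28 yb24 zb39) (kb xb15 yb55 zb55) (kb xb18 yb45 zb16) (kb xb19 yb15 zb61) (kb xb24 yb5 zb17) (kb xb22 yb3 zb50) (kb xb29 yb39 zb47) (kb xb30 yb42 zb51) (kb xb23 yb47 zb52) (kb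 xb16 yb54 zb9) (kb xb26 yb5 zb29) (kb xb15 yb56 zb2) (kb xb31 yb26 zb58) (kb xb30 yb56 zb52) (kb xb29 yb23 zb4) (kb xb19 yb11 zb59) (kb xb16 yb38 zb7) (kb xb16 yb12 zb28) (kb xb15 yb56 zb6) (kb xb20 yb46 zb9) (kb xb30 yb28 zb31) (kb xb15 yb56 zb7) (kb xb31 yb43 zb46) (kb xb25 yb19 zb43) (kb xb30 yb19 zb47) (kb xb28 yb8 zb5) (kb xb15 yb56 zb11) (kb xb18 yb52 zb23) (kb xb20 yb59 zb47) (kb xb20 yb59 zb48) (kb xb22 yb3 zb44) (kb xb32 yb0 zb58) (kb xb17 yb25 zb54) (kb xb15 yb56 zb17) (kb xb32 yb0 zb60) (kb xb21 yb0 zb58) (kb xb22 yb25 zb16) (kb xb15 yb56 zb24) (kb xb26 yb45 zb40) (kb xb29 yb27 zb35) (kb xb15 yb56 zb25) (kb xb15 yb56 zb26) (kb xb32 yb0 zb61) (kb xb30 yb36 zb48) (kb xb32 yb1 zb1) (kb xb17 yb33 zb50) (kb xb30 yb36 zb53) (kb xb15 yb56 zb28) (kb xb19 yb7 zb37)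 (kb xb26 yb32 zb31) (kb xb32 yb1 zb2) (kb xb25 yb51 zb54) (kb xb27 yb21 zb58) (kb xb23 yb10 zb59)) (@D3.rec (fun _ => Pt) (kb xb19 yb27 zb7) (kb xb15 yb56 zb34) (kb xb15 yb56 zb32) (kb xb32 yb1 zb4) (kb xb25 yb21 zb59) (kb xb29 yb6 zb42) (kb xb29 yb39 zb19) (kb xb25 yb51 zb61) (kb xb29 yb40 zb52) (kb xb30 yb56 zb41) (kb xb21 yb54 zb34) (kb xb29 yb39 zb24) (kb xb26 yb45 zb28) (kb xb15 yb56 zb44) (kb xb15 yb56 zb41) (kb xb32 yb1 zb10) (kb xb21 yb51 zb47) (kb xb17 yb34 zb0) (kb xb20 yb47 zb15) (kb xb29 yb44 zb57) (kb xb26 yb0 zb30) (kb xb29 yb31 zb52) (kb xb15 yb56 zb49) (kb xb15 yb58 zb38) (kb xb23 yb9 zb2) (kb xb16 yb6 zb59) (kb xb16 yb44 zb35) (kb xb15 yb56 zb54) (kb xb15 yb59 zb17) (kb xb15 yb59 zb18) (kb xb25 yb27 zb17) (kb xb25 yb7 zb3) (kb xb29 yb0 zb36) (kb xb15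 yb57 zb3) (kb xb15 yb57 zb8) (kb xb25 yb7 zb16) (kb xb15 yb57 zb9) (kb xb24 yb57 zb59) (kb xb15 yb59 zb45) (kb xb16 yb46 zb34) (kb xb21 yb46 zb39) (kb xb16 yb0 zb19) (kb xb19 yb35 zb12) (kb xb15 yb57 zb23) (kb xb21 yb17 zb22) (kb xb25 yb13 zb20) (kb xb15 yb57 zb26) (kb xb15 yb57 zb27) (kb xb30 yb32 zb59) (kb xb31 yb9 zb29) (kb xb15 yb57 zb24) (kb xb32 yb1 zb17) (kb xb15 yb57 zb28) (kb xb15 yb57 zb29) (kb xb27 yb23 zb23) (kb xb32 yb1 zb18) (kb xb25 yb48 zb55) (kb xb16 yb14 zb26) (kb xb31 yb58 zb57) (kb xb16 yb0 zb55) (kb xb30 yb19 zb55) (kb xb21 yb59 zb34)) (@D3.rec (fun _ => Pt) (kb xb21 yb42 zb53) (kb xb26 yb13 zb57) (kb xb26 yb13 zb58) (kb xb15 yb57 zb35) (kb xb32 yb1 zb20) (kb xb17 yb36 zb10) (kb xb16 yb1 zb20) (kb xb16 yb1 zb21) (kb xb29 yb41 zb33) (kb xb31 yb11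 zb29) (kb xb18 yb22 zb1) (kb xb15 yb57 zb39) (kb xb17 yb10 zb16) (kb xb29 yb57 zb13) (kb xb15 yb57 zb40) (kb xb15 yb57 zb41) (kb xb32 yb1 zb28) (kb xb16 yb1 zb36) (kb xb15 yb57 zb42) (kb xb32 yb1 zb29) (kb xb27 yb4 zb13) (kb xb16 yb1 zb43) (kb xb15 yb57 zb45) (kb xb15 yb57 zb46) (kb xb15 yb57 zb44) (kb xb16 yb1 zb11) (kb xb20 yb10 zb13) (kb xb31 yb58 zb34) (kb xb29 yb57 zb23) (kb xb29 yb57 zb14) (kb xb16 yb1 zb40) (kb xb15 yb57 zb50) (kb xb17 yb35 zb32) (kb xb32 yb1 zb37) (kb xb23 yb55 zb0) (kb xb17 yb35 zb34) (kb xb27 yb54 zb41) (kb xb15 yb57 zb53) (kb xb20 yb19 zb5) (kb xb28 yb21 zb48) (kb xb15 yb57 zb54) (kb xb32 yb1 zb42) (kb xb29 yb37 zb43) (kb xb31 yb39 zb1) (kb xb16 yb34 zb2) (kb xb27 yb53 zb59) (kb xb29 yb30 zb42) (kb xb15 yb58 zb1) (kb xb15 yb57 zb58) (kb xb15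 yb57 zb61) (kb xb22 yb22 zb54) (kb xb23 yb9 zb38) (kb xb15 yb58 zb0) (kb xb25 yb31 zb28) (kb xb31 yb37 zb53) (kb xb15 yb58 zb3) (kb xb19 yb35 zb42) (kb xb19 yb38 zb56) (kb xb19 yb30 zb15) (kb xb25 yb13 zb60) (kb xb27 yb48 zb37) (kb xb15 yb58 zb8)) (@D3.rec (fun _ => Pt) (kb xb15 yb58 zb10) (kb xb28 yb45 zb6) (kb xb15 yb58 zb11) (kb xb25 yb13 zb14) (kb xb15 yb58 zb12) (kb xb29 yb41 zb9) (kb xb23 yb56 zb4) (kb xb31 yb8 zb12) (kb xb20 yb57 zb16) (kb xb15 yb58 zb17) (kb xb21 yb26 zb61) (kb xb31 yb59 zb61) (kb xb15 yb58 zb18) (kb xb23 yb9 zb4) (kb xb25 yb57 zb13) (kb xb25 yb39 zb49) (kb xb31 yb46 zb31) (kb xb32 yb1 zb50) (kb xb15 yb58 zb22) (kb xb27 yb19 zb38) (kb xb15 yb58 zb23) (kb xb32 yb1 zb52) (kb xb31 yb35 zb61) (kb xb23 yb10 zb21) (kb xb20 yb18 zb10) (kb xb20 yb17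 zb53) (kb xb23 yb10 zb14) (kb xb23 yb47 zb23) (kb xb25 yb33 zb7) (kb xb19 yb28 zb53) (kb xb15 yb58 zb28) (kb xb15 yb58 zb29) (kb xb20 yb42 zb34) (kb xb32 yb1 zb57) (kb xb24 yb4 zb1) (kb xb30 yb54 zb46) (kb xb20 yb49 zb56) (kb xb29 yb46 zb35) (kb xb15 yb58 zb33) (kb xb15 yb58 zb31) (kb xb18 yb8 zb13) (kb xb25 yb33 zb9) (kb xb30 yb4 zb23) (kb xb30 yb19 zb45) (kb xb15 yb58 zb36) (kb xb15 yb58 zb37) (kb xb28 yb23 zb46) (kb xb21 yb1 zb56) (kb xb27 yb26 zb12) (kb xb22 yb59 zb58) (kb xb21 yb5 zb7) (kb xb25 yb30 zb5) (kb xb15 yb58 zb41) (kb xb25 yb5 zb32) (kb xb32 yb1 zb59) (kb xb19 yb36 zb48) (kb xb30 yb43 zb26) (kb xb20 yb50 zb39) (kb xb15 yb58 zb44) (kb xb32 yb1 zb61) (kb xb21 yb1 zb55) (kb xb28 yb44 zb48)) (@D3.rec (fun _ => Pt) (kb xb29 yb28 zb41) (kb xb28 yb14 zb17) (kb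 xb15 yb58 zb49) (kb xb22 yb2 zb19) (kb xb26 yb23 zb43) (kb xb19 yb28 zb9) (kb xb20 yb40 zb14) (kb xb28 yb23 zb47) (kb xb15 yb58 zb53) (kb xb30 yb20 zb5) (kb xb15 yb58 zb56) (kb xb30 yb13 zb23) (kb xb15 yb58 zb59) (kb xb22 yb35 zb60) (kb xb15 yb59 zb0) (kb xb29 yb53 zb29) (kb xb28 yb46 zb14) (kb xb22 yb9 zb25) (kb xb26 yb28 zb24) (kb xb17 yb3 zb61) (kb xb21 yb45 zb12) (kb xb15 yb59 zb7) (kb xb32 yb2 zb3) (kb xb15 yb59 zb8) (kb xb32 yb2 zb4) (kb xb25 yb29 zb12) (kb xb15 yb59 zb12) (kb xb15 yb59 zb13) (kb xb26 yb56 zb53) (kb xb26 yb23 zb24) (kb xb32 yb2 zb5) (kb xb17 yb25 zb10) (kb xb30 yb14 zb32) (kb xb27 yb11 zb0) (kb xb28 yb33 zb45) (kb xb31 yb26 zb61) (kb xb15 yb59 zb19) (kb xb30 yb47 zb25) (kb xb27 yb14 zb59) (kb xb32 yb2 zb11) (kb xb27 yb15 zb16) (kb xb23 yb0 zb58)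 (kb xb25 yb36 zb1) (kb xb19 yb30 zb52) (kb xb30 yb16 zb42) (kb xb24 yb2 zb60) (kb xb25 yb19 zb19) (kb xb15 yb59 zb26) (kb xb23 yb54 zb46) (kb xb28 yb25 zb6) (kb xb25 yb28 zb25) (kb xb25 yb28 zb26) (kb xb15 yb59 zb34) (kb xb32 yb2 zb19) (kb xb27 yb6 zb39) (kb xb29 yb12 zb47) (kb xb20 yb55 zb33) (kb xb31 yb54 zb14) (kb xb30 yb51 zb12) (kb xb25 yb13 zb27) (kb xb26 yb14 zb9) (kb xb30 yb6 zb53)) (@D3.rec (fun _ => Pt) (kb xb21 yb17 zb33) (kb xb15 yb59 zb48) (kb xb25 yb8 zb26) (kb xb19 yb36 zb52) (kb xb25 yb12 zb24) (kb xb26 yb14 zb26) (kb xb27 yb6 zb14) (kb xb21 yb58 zb26) (kb xb25 yb7 zb48) (kb xb29 yb12 zb51) (kb xb25 yb13 zb31) (kb xb29 yb42 zb2) (kb xb17 yb58 zb60) (kb xb25 yb55 zb14) (kb xb26 yb42 zb52) (kb xb15 yb59 zb58) (kb xb29 yb42 zb1) (kb xb32 yb2 zb25) (kb xb29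 yb16 zb41) (kb xb32 yb2 zb24) (kb xb15 yb59 zb59) (kb xb31 yb49 zb4) (kb xb16 yb0 zb0) (kb xb27 yb18 zb7) (kb xb21 yb42 zb61) (kb xb16 yb0 zb2) (kb xb31 yb37 zb60) (kb xb16 yb0 zb7) (kb xb16 yb0 zb12) (kb xb17 yb31 zb1) (kb xb16 yb48 zb50) (kb xb22 yb3 zb0) (kb xb26 yb33 zb7) (kb xb25 yb7 zb1) (kb xb23 yb11 zb60) (kb xb31 yb37 zb4) (kb xb16 yb0 zb20) (kb xb23 yb8 zb47) (kb xb19 yb41 zb42) (kb xb16 yb0 zb27) (kb xb16 yb0 zb28) (kb xb30 yb1 zb34) (kb xb23 yb41 zb38) (kb xb16 yb0 zb26) (kb xb32 yb2 zb30) (kb xb31 yb9 zb47) (kb xb32 yb2 zb31) (kb xb16 yb0 zb31) (kb xb16 yb0 zb32) (kb xb32 yb2 zb32) (kb xb21 yb16 zb35) (kb xb21 yb17 zb27) (kb xb30 yb10 zb45) (kb xb16 yb0 zb35) (kb xb32 yb2 zb33) (kb xb25 yb30 zb40) (kb xb16 yb0 zb40) (kb xb32 yb2 zb36) (kb xb20 yb2 zb25)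 (kb xb16 yb0 zb41) (kb xb16 yb0 zb42) (kb xb32 yb2 zb38)) (@D3.rec (fun _ => Pt) (kb xb31 yb16 zb7) (kb xb28 yb44 zb11) (kb xb18 yb53 zb31) (kb xb16 yb0 zb44) (kb xb16 yb0 zb45) (kb xb16 yb0 zb48) (kb xb16 yb0 zb49) (kb xb26 yb3 zb11) (kb xb18 yb2 zb54) (kb xb31 yb37 zb17) (kb xb29 yb17 zb45) (kb xb25 yb35 zb11) (kb xb23 yb30 zb34) (kb xb16 yb0 zb52) (kb xb26 yb1 zb15) (kb xb31 yb16 zb14) (kb xb18 yb17 zb60) (kb xb17 yb57 zb26) (kb xb28 yb44 zb49) (kb xb27 yb11 zb8) (kb xb16 yb6 zb41) (kb xb16 yb6 zb42) (kb xb24 yb27 zb39) (kb xb26 yb40 zb16) (kb xb25 yb12 zb22) (kb xb16 yb0 zb61) (kb xb30 yb24 zb20) (kb xb31 yb49 zb16) (kb xb26 yb56 zb54) (kb xb28 yb12 zb50) (kb xb30 yb50 zb56) (kb xb21 yb39 zb24) (kb xb19 yb41 zb57) (kb xb16 yb1 zb10) (kb xb31 yb34 zb53) (kb xb22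 yb52 zb21) (kb xb31 yb34 zb33) (kb xb16 yb1 zb14) (kb xb17 yb40 zb35) (kb xb16 yb1 zb13) (kb xb28 yb41 zb45) (kb xb16 yb1 zb17) (kb xb17 yb39 zb61) (kb xb17 yb40 zb0) (kb xb25 yb36 zb4) (kb xb31 yb53 zb31) (kb xb25 yb34 zb35) (kb xb17 yb39 zb48) (kb xb32 yb1 zb22) (kb xb17 yb27 zb53) (kb xb17 yb35 zb24) (kb xb32 yb1 zb23) (kb xb21 yb40 zb57) (kb xb27 yb47 zb57) (kb xb21 yb32 zb53) (kb xb32 yb2 zb55) (kb xb17 yb36 zb52) (kb xb16 yb1 zb26) (kb xb23 yb55 zb2) (kb xb32 yb1 zb24) (kb xb16 yb1 zb38) (kb xb29 yb50 zb33)) (@D3.rec (fun _ => Pt) (kb xb29 yb50 zb34) (kb xb27 yb1 zb51) (kb xb25 yb35 zb43) (kb xb29 yb57 zb16) (kb xb27 yb17 zb53) (kb xb32 yb2 zb28) (kb xb16 yb1 zb39) (kb xb16 yb1 zb37) (kb xb16 yb13 zb52) (kb xb32 yb1 zb36) (kb xb32 yb1 zb30) (kb xb31 yb34 zb54)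 (kb xb32 yb1 zb31) (kb xb31 yb45 zb39) (kb xb20 yb35 zb5) (kb xb30 yb51 zb8) (kb xb16 yb1 zb49) (kb xb16 yb26 zb24) (kb xb20 yb37 zb21) (kb xb16 yb1 zb60) (kb xb32 yb1 zb43) (kb xb23 yb9 zb37) (kb xb16 yb1 zb53) (kb xb16 yb1 zb54) (kb xb24 yb6 zb46) (kb xb32 yb3 zb0) (kb xb26 yb26 zb42) (kb xb19 yb9 zb2) (kb xb31 yb54 zb50) (kb xb31 yb54 zb51) (kb xb18 yb56 zb12) (kb xb29 yb7 zb58) (kb xb18 yb49 zb38) (kb xb28 yb27 zb55) (kb xb28 yb48 zb25) (kb xb28 yb21 zb41) (kb xb31 yb55 zb9) (kb xb16 yb1 zb61) (kb xb16 yb2 zb0) (kb xb28 yb53 zb42) (kb xb27 yb55 zb42) (kb xb16 yb2 zb1) (kb xb28 yb13 zb43) (kb xb16 yb2 zb4) (kb xb23 yb56 zb27) (kb xb16 yb2 zb5) (kb xb29 yb37 zb41) (kb xb23 yb9 zb40) (kb xb17 yb6 zb52) (kb xb16 yb2 zb10) (kb xb16 yb2 zb9) (kb xb17 yb6 zb51) (kb xb29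 yb28 zb31) (kb xb25 yb25 zb53) (kb xb30 yb27 zb40) (kb xb20 yb49 zb48) (kb xb32 yb1 zb47) (kb xb16 yb2 zb13) (kb xb30 yb18 zb52) (kb xb16 yb2 zb16) (kb xb16 yb2 zb17) (kb xb32 yb3 zb6))
def f_b_26 : D2 → D3 → Pt := @D2.rec (fun _ => D3 → Pt) (@D3.rec (fun _ => Pt) (kb xb31 yb35 zb12) (kb xb16 yb2 zb39) (kb xb16 yb2 zb20) (kb xb16 yb2 zb22) (kb xb16 yb2 zb23) (kb xb20 yb55 zb14) (kb xb20 yb57 zb61) (kb xb16 yb2 zb27) (kb xb25 yb22 zb54) (kb xb20 yb3 zb19) (kb xb16 yb2 zb32) (kb xb28 yb41 zb58) (kb xb32 yb3 zb7) (kb xb21 yb48 zb58) (kb xb25 yb49 zb36) (kb xb31 yb6 zb30) (kb xb21 yb27 zb44) (kb xb23 yb21 zb6) (kb xb16 yb2 zb46) (kb xb30 yb13 zb29) (kb xb19 yb16 zb53) (kb xb21 yb40 zb60) (kb xb31 yb37 zb58) (kb xb19 yb53 zb28) (kb xb18 yb8 zb31) (kb xb30 yb17 zb3) (kb xb30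 yb20 zb30) (kb xb16 yb2 zb60) (kb xb29 yb22 zb36) (kb xb21 yb49 zb12) (kb xb25 yb53 zb20) (kb xb31 yb1 zb54) (kb xb16 yb3 zb5) (kb xb21 yb29 zb34) (kb xb21 yb49 zb6) (kb xb16 yb3 zb10) (kb xb20 yb13 zb39) (kb xb24 yb54 zb15) (kb xb23 yb27 zb53) (kb xb16 yb3 zb21) (kb xb23 yb47 zb56) (kb xb16 yb3 zb19) (kb xb21 yb55 zb33) (kb xb21 yb5 zb43) (kb xb16 yb3 zb23) (kb xb23 yb32 zb50) (kb xb29 yb52 zb18) (kb xb16 yb3 zb26) (kb xb30 yb33 zb52) (kb xb16 yb3 zb27) (kb xb16 yb3 zb28) (kb xb22 yb57 zb35) (kb xb18 yb3 zb12) (kb xb16 yb3 zb30) (kb xb31 yb12 zb4) (kb xb16 yb3 zb32) (kb xb23 yb3 zb0) (kb xb23 yb32 zb5) (kb xb23 yb13 zb51) (kb xb18 yb6 zb48) (kb xb30 yb13 zb24) (kb xb26 yb9 zb39)) (@D3.rec (fun _ => Pt) (kb xb16 yb3 zb39) (kb xb16 yb3 zb40) (kb xb16 yb3 zb43) (kb xb16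 yb3 zb45) (kb xb16 yb3 zb57) (kb xb25 yb30 zb49) (kb xb19 yb45 zb48) (kb xb23 yb36 zb27) (kb xb19 yb47 zb56) (kb xb21 yb24 zb28) (kb xb24 yb43 zb51) (kb xb21 yb32 zb35) (kb xb16 yb4 zb3) (kb xb29 yb9 zb51) (kb xb16 yb4 zb4) (kb xb25 yb58 zb14) (kb xb19 yb53 zb59) (kb xb30 yb7 zb36) (kb xb22 yb43 zb60) (kb xb29 yb24 zb18) (kb xb16 yb4 zb9) (kb xb29 yb49 zb50) (kb xb20 yb19 zb22) (kb xb17 yb38 zb24) (kb xb16 yb4 zb11) (kb xb25 yb10 zb39) (kb xb19 yb33 zb0) (kb xb16 yb4 zb15) (kb xb31 yb29 zb12) (kb xb29 yb4 zb23) (kb xb31 yb34 zb14) (kb xb16 yb4 zb16) (kb xb32 yb3 zb18) (kb xb23 yb40 zb33) (kb xb30 yb10 zb15) (kb xb26 yb12 zb60) (kb xb25 yb37 zb41) (kb xb16 yb4 zb27) (kb xb16 yb4 zb24) (kb xb31 yb18 zb18) (kb xb17 yb42 zb18) (kb xb28 yb11 zb29) (kb xb28 yb53 zb48) (kb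 xb22 yb10 zb29) (kb xb25 yb38 zb25) (kb xb24 yb41 zb21) (kb xb16 yb4 zb34) (kb xb32 yb3 zb20) (kb xb24 yb37 zb59) (kb xb25 yb38 zb8) (kb xb16 yb50 zb51) (kb xb26 yb5 zb9) (kb xb16 yb4 zb39) (kb xb16 yb4 zb40) (kb xb28 yb54 zb11) (kb xb16 yb46 zb20) (kb xb16 yb4 zb44) (kb xb19 yb47 zb31) (kb xb16 yb49 zb51) (kb xb32 yb3 zb23) (kb xb24 yb51 zb23) (kb xb16 yb4 zb48)) (@D3.rec (fun _ => Pt) (kb xb31 yb21 zb22) (kb xb32 yb3 zb24) (kb xb28 yb35 zb2) (kb xb26 yb8 zb19) (kb xb22 yb24 zb34) (kb xb21 yb41 zb23) (kb xb24 yb49 zb10) (kb xb16 yb4 zb60) (kb xb16 yb4 zb61) (kb xb16 yb5 zb1) (kb xb16 yb5 zb3) (kb xb16 yb5 zb5) (kb xb19 yb54 zb61) (kb xb32 yb3 zb28) (kb xb21 yb17 zb60) (kb xb24 yb27 zb28) (kb xb25 yb42 zb26) (kb xb31 yb37 zb32) (kb xb24 yb56 zb50) (kb xb28 yb40 zb52)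 (kb xb16 yb5 zb18) (kb xb21 yb18 zb29) (kb xb24 yb44 zb29) (kb xb16 yb5 zb21) (kb xb27 yb44 zb29) (kb xb31 yb42 zb28) (kb xb21 yb37 zb56) (kb xb16 yb5 zb27) (kb xb16 yb5 zb28) (kb xb17 yb11 zb17) (kb xb16 yb5 zb25) (kb xb24 yb22 zb59) (kb xb25 yb42 zb14) (kb xb20 yb24 zb22) (kb xb18 yb3 zb9) (kb xb21 yb19 zb23) (kb xb16 yb5 zb31) (kb xb30 yb4 zb26) (kb xb31 yb7 zb32) (kb xb17 yb5 zb16) (kb xb16 yb5 zb33) (kb xb20 yb39 zb24) (kb xb16 yb5 zb35) (kb xb32 yb3 zb22) (kb xb32 yb3 zb32) (kb xb32 yb3 zb33) (kb xb23 yb25 zb26) (kb xb31 yb31 zb52) (kb xb16 yb5 zb43) (kb xb16 yb5 zb44) (kb xb24 yb54 zb50) (kb xb31 yb7 zb9) (kb xb19 yb56 zb43) (kb xb16 yb5 zb49) (kb xb29 yb44 zb54) (kb xb19 yb50 zb35) (kb xb25 yb39 zb35) (kb xb29 yb48 zb53) (kb xb21 yb21 zb1) (kb xb31 yb40 zb50)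 (kb xb27 yb19 zb46) (kb xb19 yb39 zb51)) (@D3.rec (fun _ => Pt) (kb xb19 yb46 zb44) (kb xb16 yb5 zb61) (kb xb16 yb6 zb19) (kb xb22 yb12 zb15) (kb xb27 yb23 zb60) (kb xb16 yb6 zb8) (kb xb16 yb6 zb9) (kb xb29 yb56 zb3) (kb xb16 yb6 zb12) (kb xb25 yb41 zb7) (kb xb16 yb6 zb15) (kb xb25 yb58 zb7) (kb xb18 yb3 zb5) (kb xb18 yb29 zb47) (kb xb16 yb6 zb20) (kb xb31 yb50 zb53) (kb xb28 yb7 zb55) (kb xb24 yb51 zb18) (kb xb16 yb6 zb22) (kb xb22 yb7 zb40) (kb xb32 yb3 zb39) (kb xb22 yb5 zb25) (kb xb26 yb48 zb25) (kb xb16 yb11 zb37) (kb xb27 yb22 zb13) (kb xb26 yb8 zb16) (kb xb23 yb15 zb50) (kb xb18 yb23 zb2) (kb xb21 yb6 zb7) (kb xb21 yb10 zb13) (kb xb16 yb6 zb30) (kb xb23 yb25 zb42) (kb xb31 yb6 zb38) (kb xb16 yb6 zb31) (kb xb30 yb14 zb1) (kb xb23 yb43 zb40) (kb xb24 yb31 zb13)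 (kb xb28 yb0 zb31) (kb xb23 yb20 zb54) (kb xb16 yb6 zb51) (kb xb19 yb17 zb15) (kb xb16 yb6 zb55) (kb xb16 yb6 zb57) (kb xb16 yb6 zb58) (kb xb28 yb9 zb49) (kb xb24 yb57 zb56) (kb xb31 yb55 zb54) (kb xb16 yb7 zb1) (kb xb16 yb17 zb36) (kb xb31 yb8 zb4) (kb xb19 yb34 zb27) (kb xb16 yb7 zb8) (kb xb32 yb3 zb46) (kb xb26 yb8 zb55) (kb xb25 yb36 zb40) (kb xb21 yb47 zb9) (kb xb20 yb24 zb27) (kb xb16 yb7 zb15) (kb xb21 yb26 zb18) (kb xb17 yb35 zb14) (kb xb18 yb30 zb43) (kb xb27 yb59 zb24)) (@D3.rec (fun _ => Pt) (kb xb16 yb7 zb32) (kb xb29 yb56 zb34) (kb xb16 yb7 zb36) (kb xb20 yb6 zb58) (kb xb21 yb32 zb19) (kb xb17 yb18 zb33) (kb xb31 yb34 zb16) (kb xb16 yb7 zb39) (kb xb25 yb28 zb45) (kb xb30 yb1 zb23) (kb xb25 yb29 zb40) (kb xb17 yb36 zb25) (kb xb26 yb58 zb23) (kb xb17 yb11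 zb6) (kb xb20 yb49 zb25) (kb xb27 yb6 zb3) (kb xb23 yb54 zb7) (kb xb31 yb32 zb40) (kb xb16 yb7 zb52) (kb xb31 yb39 zb20) (kb xb26 yb16 zb9) (kb xb27 yb53 zb60) (kb xb31 yb59 zb32) (kb xb18 yb14 zb59) (kb xb16 yb7 zb57) (kb xb18 yb32 zb2) (kb xb16 yb7 zb58) (kb xb31 yb7 zb40) (kb xb24 yb54 zb24) (kb xb21 yb7 zb49) (kb xb16 yb8 zb2) (kb xb28 yb25 zb38) (kb xb25 yb45 zb21) (kb xb26 yb21 zb39) (kb xb27 yb20 zb28) (kb xb31 yb57 zb55) (kb xb25 yb1 zb4) (kb xb27 yb56 zb12) (kb xb18 yb34 zb61) (kb xb22 yb46 zb4) (kb xb16 yb8 zb12) (kb xb19 yb36 zb44) (kb xb25 yb7 zb54) (kb xb16 yb8 zb11) (kb xb32 yb3 zb61) (kb xb32 yb4 zb0) (kb xb25 yb6 zb25) (kb xb31 yb4 zb54) (kb xb29 yb59 zb22) (kb xb18 yb33 zb50) (kb xb16 yb8 zb15) (kb xb16 yb40 zb42) (kb xb16 yb42 zb1) (kb xb25 yb9 zb39)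 (kb xb21 yb48 zb17) (kb xb21 yb47 zb44) (kb xb19 yb24 zb39) (kb xb16 yb8 zb17) (kb xb16 yb41 zb42) (kb xb24 yb15 zb52) (kb xb29 yb41 zb52) (kb xb16 yb37 zb5)) (@D3.rec (fun _ => Pt) (kb xb30 yb11 zb16) (kb xb32 yb4 zb11) (kb xb30 yb9 zb18) (kb xb26 yb46 zb9) (kb xb16 yb8 zb24) (kb xb16 yb8 zb21) (kb xb20 yb49 zb39) (kb xb16 yb8 zb22) (kb xb16 yb8 zb23) (kb xb26 yb1 zb51) (kb xb26 yb48 zb18) (kb xb21 yb37 zb33) (kb xb25 yb10 zb1) (kb xb16 yb8 zb29) (kb xb17 yb43 zb29) (kb xb18 yb5 zb32) (kb xb16 yb8 zb30) (kb xb16 yb8 zb31) (kb xb22 yb8 zb48) (kb xb20 yb21 zb29) (kb xb27 yb59 zb22) (kb xb16 yb8 zb38) (kb xb17 yb35 zb15) (kb xb18 yb5 zb3) (kb xb16 yb8 zb37) (kb xb30 yb5 zb27) (kb xb18 yb27 zb60) (kb xb25 yb44 zb22) (kb xb30 yb7 zb39) (kb xb25 yb52 zb18) (kb xb21 yb53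 zb12) (kb xb25 yb8 zb5) (kb xb16 yb8 zb45) (kb xb19 yb11 zb1) (kb xb25 yb42 zb35) (kb xb25 yb42 zb34) (kb xb30 yb34 zb12) (kb xb16 yb8 zb49) (kb xb30 yb3 zb28) (kb xb21 yb54 zb24) (kb xb16 yb8 zb53) (kb xb18 yb13 zb38) (kb xb23 yb13 zb14) (kb xb21 yb50 zb50) (kb xb25 yb17 zb21) (kb xb26 yb12 zb31) (kb xb16 yb9 zb3) (kb xb24 yb50 zb0) (kb xb21 yb23 zb32) (kb xb16 yb9 zb2) (kb xb21 yb34 zb9) (kb xb17 yb29 zb42) (kb xb16 yb9 zb8) (kb xb23 yb13 zb2) (kb xb16 yb9 zb11) (kb xb21 yb36 zb26) (kb xb30 yb4 zb58) (kb xb16 yb9 zb16) (kb xb21 yb21 zb14) (kb xb21 yb42 zb38) (kb xb21 yb54 zb45) (kb xb29 yb19 zb41)) (@D3.rec (fun _ => Pt) (kb xb22 yb10 zb3) (kb xb17 yb23 zb39) (kb xb20 yb46 zb44) (kb xb21 yb18 zb41) (kb xb27 yb13 zb38) (kb xb22 yb25 zb32) (kb xb24 yb2 zb13) (kb xb32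 yb4 zb16) (kb xb29 yb19 zb40) (kb xb24 yb57 zb21) (kb xb16 yb9 zb30) (kb xb32 yb4 zb19) (kb xb24 yb41 zb39) (kb xb16 yb9 zb32) (kb xb24 yb1 zb61) (kb xb16 yb9 zb34) (kb xb32 yb4 zb21) (kb xb31 yb52 zb58) (kb xb31 yb32 zb31) (kb xb28 yb55 zb17) (kb xb25 yb9 zb17) (kb xb32 yb4 zb28) (kb xb28 yb55 zb18) (kb xb16 yb9 zb39) (kb xb21 yb25 zb22) (kb xb22 yb11 zb27) (kb xb30 yb3 zb46) (kb xb22 yb43 zb9) (kb xb29 yb22 zb8) (kb xb19 yb5 zb51) (kb xb20 yb1 zb4) (kb xb17 yb55 zb60) (kb xb16 yb9 zb49) (kb xb29 yb9 zb40) (kb xb16 yb9 zb52) (kb xb29 yb57 zb48) (kb xb16 yb9 zb53) (kb xb32 yb3 zb15) (kb xb32 yb4 zb32) (kb xb21 yb18 zb33) (kb xb16 yb9 zb55) (kb xb32 yb4 zb33) (kb xb18 yb7 zb4) (kb xb16 yb9 zb57) (kb xb32 yb4 zb35) (kb xb16 yb9 zb59) (kb xb16 yb10 zb0) (kb xb22 yb43 zb43)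 (kb xb22 yb12 zb17) (kb xb24 yb35 zb48) (kb xb16 yb10 zb6) (kb xb16 yb10 zb7) (kb xb16 yb10 zb5) (kb xb30 yb6 zb42) (kb xb30 yb16 zb36) (kb xb23 yb9 zb21) (kb xb26 yb8 zb15) (kb xb31 yb0 zb43) (kb xb32 yb4 zb37) (kb xb25 yb52 zb0) (kb xb26 yb8 zb17) (kb xb32 yb4 zb38)) (@D3.rec (fun _ => Pt) (kb xb24 yb10 zb23) (kb xb23 yb56 zb14) (kb xb23 yb44 zb46) (kb xb28 yb49 zb34) (kb xb16 yb10 zb12) (kb xb31 yb7 zb27) (kb xb16 yb10 zb13) (kb xb23 yb35 zb41) (kb xb26 yb10 zb11) (kb xb30 yb51 zb51) (kb xb24 yb23 zb40) (kb xb26 yb8 zb50) (kb xb26 yb8 zb51) (kb xb16 yb10 zb17) (kb xb28 yb3 zb45) (kb xb31 yb44 zb61) (kb xb24 yb37 zb54) (kb xb18 yb0 zb54) (kb xb16 yb10 zb21) (kb xb16 yb10 zb28) (kb xb25 yb42 zb54) (kb xb29 yb30 zb8) (kb xb22 yb34 zb2) (kb xb20 yb33 zb11) (kb xb23 yb14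 zb58) (kb xb16 yb10 zb31) (kb xb24 yb59 zb41) (kb xb22 yb30 zb27) (kb xb16 yb10 zb37) (kb xb16 yb10 zb50) (kb xb30 yb51 zb61) (kb xb26 yb8 zb53) (kb xb27 yb5 zb35) (kb xb28 yb43 zb51) (kb xb29 yb10 zb47) (kb xb16 yb10 zb42) (kb xb16 yb11 zb2) (kb xb22 yb56 zb6) (kb xb28 yb13 zb47) (kb xb22 yb57 zb34) (kb xb31 yb38 zb60) (kb xb16 yb10 zb51) (kb xb30 yb33 zb28) (kb xb16 yb10 zb52) (kb xb30 yb17 zb60) (kb xb23 yb25 zb57) (kb xb22 yb31 zb50) (kb xb18 yb56 zb38) (kb xb31 yb2 zb32) (kb xb23 yb32 zb53) (kb xb18 yb52 zb36) (kb xb16 yb11 zb9) (kb xb28 yb34 zb8) (kb xb31 yb31 zb43) (kb xb28 yb32 zb45) (kb xb29 yb43 zb57) (kb xb17 yb33 zb10) (kb xb16 yb11 zb13) (kb xb16 yb38 zb47) (kb xb16 yb36 zb19) (kb xb18 yb3 zb3) (kb xb30 yb9 zb16)) (@D3.rec (fun _ => Pt) (kb xb16 yb11 zb15)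 (kb xb21 yb56 zb36) (kb xb22 yb28 zb34) (kb xb32 yb4 zb48) (kb xb21 yb43 zb30) (kb xb16 yb11 zb24) (kb xb32 yb4 zb51) (kb xb25 yb42 zb2) (kb xb23 yb28 zb6) (kb xb16 yb49 zb55) (kb xb22 yb4 zb37) (kb xb22 yb5 zb22) (kb xb17 yb33 zb43) (kb xb16 yb11 zb30) (kb xb16 yb11 zb31) (kb xb26 yb6 zb56) (kb xb26 yb3 zb25) (kb xb26 yb6 zb60) (kb xb30 yb33 zb37) (kb xb26 yb2 zb3) (kb xb16 yb11 zb34) (kb xb17 yb6 zb59) (kb xb23 yb33 zb4) (kb xb23 yb20 zb12) (kb xb27 yb1 zb24) (kb xb23 yb35 zb12) (kb xb23 yb35 zb61) (kb xb31 yb33 zb46) (kb xb32 yb4 zb58) (kb xb31 yb57 zb27) (kb xb26 yb45 zb60) (kb xb16 yb11 zb45) (kb xb16 yb11 zb42) (kb xb25 yb2 zb19) (kb xb21 yb55 zb52) (kb xb32 yb4 zb60) (kb xb30 yb52 zb45) (kb xb16 yb11 zb48) (kb xb24 yb30 zb41) (kb xb30 yb52 zb21) (kb xb29 yb49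 zb59) (kb xb27 yb58 zb42) (kb xb16 yb11 zb53) (kb xb16 yb11 zb55) (kb xb18 yb2 zb59) (kb xb29 yb9 zb60) (kb xb18 yb43 zb6) (kb xb16 yb11 zb59) (kb xb16 yb11 zb61) (kb xb23 yb44 zb45) (kb xb26 yb7 zb11) (kb xb26 yb7 zb12) (kb xb16 yb12 zb12) (kb xb26 yb7 zb31) (kb xb16 yb12 zb2) (kb xb26 yb3 zb53) (kb xb21 yb27 zb47) (kb xb16 yb12 zb6) (kb xb16 yb12 zb23) (kb xb18 yb38 zb53) (kb xb29 yb21 zb61) (kb xb16 yb12 zb13)) (@D3.rec (fun _ => Pt) (kb xb18 yb38 zb59) (kb xb16 yb12 zb15) (kb xb30 yb59 zb39) (kb xb16 yb12 zb16) (kb xb23 yb35 zb13) (kb xb22 yb31 zb43) (kb xb24 yb59 zb61) (kb xb22 yb16 zb52) (kb xb16 yb12 zb26) (kb xb31 yb6 zb40) (kb xb16 yb48 zb9) (kb xb21 yb32 zb18) (kb xb16 yb12 zb32) (kb xb21 yb0 zb44) (kb xb23 yb21 zb2) (kb xb30 yb56 zb38) (kb xb16 yb12 zb35)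 (kb xb16 yb12 zb36) (kb xb22 yb5 zb35) (kb xb21 yb51 zb17) (kb xb22 yb4 zb21) (kb xb21 yb1 zb24) (kb xb26 yb9 zb60) (kb xb31 yb33 zb56) (kb xb31 yb2 zb17) (kb xb23 yb37 zb28) (kb xb32 yb5 zb9) (kb xb24 yb35 zb9) (kb xb30 yb47 zb2) (kb xb30 yb57 zb53) (kb xb16 yb12 zb42) (kb xb30 yb58 zb16) (kb xb23 yb24 zb43) (kb xb16 yb12 zb43) (kb xb30 yb57 zb56) (kb xb32 yb5 zb13) (kb xb31 yb44 zb20) (kb xb30 yb35 zb0) (kb xb16 yb12 zb46) (kb xb26 yb0 zb61) (kb xb16 yb12 zb47) (kb xb23 yb25 zb44) (kb xb30 yb0 zb37) (kb xb29 yb6 zb17) (kb xb29 yb59 zb60) (kb xb24 yb15 zb42) (kb xb25 yb23 zb28) (kb xb16 yb12 zb58) (kb xb20 yb1 zb32) (kb xb31 yb51 zb0) (kb xb29 yb17 zb53) (kb xb27 yb12 zb3) (kb xb16 yb13 zb1) (kb xb23 yb25 zb38) (kb xb24 yb32 zb11) (kb xb19 yb8 zb25) (kb xb16 yb13 zb8)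 (kb xb16 yb13 zb9) (kb xb28 yb29 zb0) (kb xb28 yb49 zb51) (kb xb26 yb9 zb22) (kb xb23 yb13 zb46)) (@D3.rec (fun _ => Pt) (kb xb19 yb55 zb59) (kb xb23 yb32 zb18) (kb xb24 yb29 zb14) (kb xb32 yb5 zb20) (kb xb24 yb33 zb37) (kb xb27 yb57 zb59) (kb xb24 yb59 zb43) (kb xb23 yb20 zb16) (kb xb23 yb19 zb32) (kb xb31 yb33 zb47) (kb xb20 yb31 zb14) (kb xb26 yb7 zb8) (kb xb23 yb2 zb9) (kb xb26 yb10 zb18) (kb xb27 yb43 zb44) (kb xb22 yb45 zb38) (kb xb26 yb27 zb18) (kb xb24 yb37 zb47) (kb xb26 yb10 zb13) (kb xb16 yb46 zb1) (kb xb24 yb20 zb47) (kb xb17 yb36 zb12) (kb xb22 yb12 zb1) (kb xb32 yb5 zb23) (kb xb27 yb54 zb31) (kb xb17 yb29 zb33) (kb xb21 yb8 zb20) (kb xb17 yb51 zb60) (kb xb31 yb41 zb58) (kb xb16 yb13 zb35) (kb xb17 yb36 zb59) (kb xb28 yb54 zb41) (kb xb27 yb43 zb42) (kb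 xb22 yb5 zb3) (kb xb16 yb42 zb6) (kb xb32 yb5 zb26) (kb xb21 yb59 zb40) (kb xb20 yb14 zb35) (kb xb17 yb48 zb19) (kb xb16 yb13 zb51) (kb xb21 yb59 zb50) (kb xb16 yb40 zb8) (kb xb21 yb47 zb17) (kb xb21 yb42 zb5) (kb xb27 yb53 zb29) (kb xb16 yb13 zb58) (kb xb16 yb13 zb61) (kb xb25 yb27 zb52) (kb xb16 yb13 zb60) (kb xb26 yb18 zb12) (kb xb17 yb39 zb24) (kb xb24 yb54 zb59) (kb xb28 yb25 zb21) (kb xb20 yb34 zb26) (kb xb19 yb22 zb49) (kb xb28 yb43 zb0) (kb xb25 yb42 zb24) (kb xb24 yb54 zb53) (kb xb16 yb14 zb4) (kb xb16 yb14 zb5) (kb xb24 yb54 zb56) (kb xb23 yb37 zb48)) (@D3.rec (fun _ => Pt) (kb xb27 yb29 zb42) (kb xb30 yb3 zb40) (kb xb23 yb35 zb52) (kb xb29 yb41 zb51) (kb xb31 yb41 zb23) (kb xb21 yb18 zb4) (kb xb16 yb14 zb8) (kb xb31 yb45 zb35) (kb xb21 yb58 zb15) (kb xb18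 yb46 zb26) (kb xb20 yb44 zb61) (kb xb27 yb2 zb39) (kb xb31 yb47 zb30) (kb xb16 yb41 zb8) (kb xb20 yb56 zb0) (kb xb21 yb1 zb35) (kb xb21 yb1 zb36) (kb xb16 yb14 zb18) (kb xb31 yb59 zb6) (kb xb28 yb57 zb57) (kb xb16 yb14 zb19) (kb xb21 yb49 zb53) (kb xb17 yb40 zb56) (kb xb32 yb1 zb19) (kb xb32 yb5 zb31) (kb xb27 yb24 zb40) (kb xb16 yb14 zb23) (kb xb22 yb11 zb26) (kb xb16 yb14 zb24) (kb xb27 yb46 zb18) (kb xb17 yb40 zb19) (kb xb27 yb27 zb55) (kb xb16 yb14 zb27) (kb xb18 yb6 zb0) (kb xb17 yb40 zb21) (kb xb17 yb42 zb52) (kb xb32 yb5 zb33) (kb xb16 yb14 zb31) (kb xb23 yb22 zb29) (kb xb27 yb24 zb50) (kb xb27 yb27 zb3) (kb xb27 yb27 zb7) (kb xb32 yb5 zb38) (kb xb27 yb28 zb16) (kb xb16 yb14 zb38) (kb xb32 yb5 zb37) (kb xb27 yb29 zb52) (kb xb22 yb15 zb10) (kb xb31 yb54 zb39)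 (kb xb22 yb8 zb13) (kb xb32 yb5 zb44) (kb xb27 yb26 zb53) (kb xb32 yb5 zb50) (kb xb27 yb31 zb58) (kb xb16 yb14 zb42) (kb xb32 yb5 zb52) (kb xb32 yb5 zb46) (kb xb32 yb5 zb53) (kb xb16 yb14 zb43) (kb xb29 yb22 zb0) (kb xb32 yb5 zb54) (kb xb27 yb28 zb19)) (@D3.rec (fun _ => Pt) (kb xb32 yb5 zb32) (kb xb16 yb14 zb50) (kb xb16 yb14 zb47) (kb xb17 yb43 zb4) (kb xb16 yb14 zb51) (kb xb17 yb40 zb50) (kb xb17 yb37 zb9) (kb xb19 yb18 zb50) (kb xb28 yb41 zb42) (kb xb16 yb14 zb48) (kb xb27 yb38 zb30) (kb xb27 yb28 zb37) (kb xb16 yb14 zb49) (kb xb17 yb41 zb16) (kb xb18 yb58 zb9) (kb xb16 yb14 zb52) (kb xb31 yb54 zb43) (kb xb27 yb5 zb46) (kb xb18 yb7 zb5) (kb xb23 yb23 zb42) (kb xb21 yb25 zb19) (kb xb16 yb14 zb56) (kb xb17 yb37 zb32) (kb xb28 yb1 zb48) (kb xb16 yb14 zb60) (kb xb24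 yb32 zb38) (kb xb26 yb16 zb40) (kb xb23 yb51 zb49) (kb xb25 yb3 zb40) (kb xb16 yb15 zb2) (kb xb16 yb15 zb3) (kb xb26 yb5 zb45) (kb xb16 yb15 zb1) (kb xb19 yb16 zb42) (kb xb31 yb37 zb20) (kb xb31 yb37 zb56) (kb xb29 yb0 zb14) (kb xb27 yb31 zb14) (kb xb27 yb46 zb48) (kb xb28 yb7 zb4) (kb xb27 yb3 zb45) (kb xb16 yb15 zb8) (kb xb19 yb12 zb0) (kb xb27 yb46 zb40) (kb xb16 yb22 zb44) (kb xb23 yb51 zb44) (kb xb16 yb15 zb17) (kb xb16 yb15 zb12) (kb xb31 yb14 zb47) (kb xb25 yb15 zb57) (kb xb16 yb15 zb20) (kb xb16 yb15 zb16) (kb xb16 yb18 zb47) (kb xb32 yb6 zb2) (kb xb18 yb8 zb25) (kb xb16 yb15 zb22) (kb xb26 yb27 zb16) (kb xb27 yb47 zb0) (kb xb21 yb44 zb27) (kb xb16 yb15 zb29) (kb xb26 yb1 zb35) (kb xb16 yb15 zb33)) (@D3.rec (fun _ => Pt) (kb xb16 yb15 zb34) (kb xb20 yb19 zb18)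 (kb xb21 yb33 zb13) (kb xb22 yb54 zb23) (kb xb28 yb7 zb3) (kb xb30 yb3 zb54) (kb xb26 yb16 zb46) (kb xb16 yb15 zb37) (kb xb16 yb15 zb38) (kb xb30 yb45 zb50) (kb xb29 yb19 zb33) (kb xb22 yb18 zb19) (kb xb23 yb50 zb22) (kb xb28 yb1 zb54) (kb xb31 yb38 zb15) (kb xb16 yb15 zb41) (kb xb22 yb29 zb26) (kb xb27 yb38 zb46) (kb xb16 yb15 zb42) (kb xb24 yb40 zb26) (kb xb27 yb46 zb25) (kb xb26 yb18 zb61) (kb xb16 yb22 zb26) (kb xb16 yb15 zb51) (kb xb16 yb15 zb52) (kb xb18 yb6 zb3) (kb xb24 yb46 zb47) (kb xb16 yb15 zb59) (kb xb19 yb6 zb31) (kb xb16 yb15 zb50) (kb xb18 yb16 zb27) (kb xb25 yb1 zb15) (kb xb31 yb7 zb26) (kb xb28 yb3 zb15) (kb xb31 yb1 zb20) (kb xb27 yb20 zb54) (kb xb16 yb15 zb54) (kb xb30 yb44 zb40) (kb xb28 yb3 zb29) (kb xb18 yb33 zb43) (kb xb30 yb35 zb14) (kb xb27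 yb32 zb5) (kb xb16 yb15 zb58) (kb xb16 yb33 zb42) (kb xb26 yb21 zb2) (kb xb29 yb39 zb17) (kb xb24 yb44 zb17) (kb xb23 yb50 zb15) (kb xb23 yb50 zb17) (kb xb16 yb16 zb1) (kb xb16 yb16 zb3) (kb xb28 yb6 zb0) (kb xb24 yb55 zb15) (kb xb25 yb49 zb60) (kb xb16 yb16 zb5) (kb xb32 yb6 zb14) (kb xb27 yb24 zb9) (kb xb25 yb54 zb1) (kb xb25 yb54 zb2) (kb xb27 yb30 zb31) (kb xb27 yb30 zb58) (kb xb25 yb15 zb37)) (@D3.rec (fun _ => Pt) (kb xb21 yb57 zb15) (kb xb21 yb23 zb30) (kb xb17 yb54 zb18) (kb xb18 yb26 zb34) (kb xb16 yb16 zb19) (kb xb32 yb6 zb18) (kb xb29 yb17 zb20) (kb xb21 yb46 zb13) (kb xb21 yb58 zb30) (kb xb25 yb56 zb60) (kb xb16 yb16 zb27) (kb xb16 yb16 zb17) (kb xb27 yb20 zb32) (kb xb27 yb46 zb4) (kb xb16 yb16 zb18) (kb xb23 yb34 zb59) (kb xb22 yb8 zb9) (kb xb29 yb59 zb58)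 (kb xb17 yb54 zb0) (kb xb16 yb16 zb23) (kb xb31 yb37 zb19) (kb xb16 yb16 zb25) (kb xb29 yb14 zb29) (kb xb21 yb23 zb24) (kb xb16 yb16 zb26) (kb xb21 yb58 zb46) (kb xb25 yb57 zb5) (kb xb24 yb45 zb10) (kb xb16 yb16 zb29) (kb xb30 yb9 zb0) (kb xb25 yb38 zb39) (kb xb16 yb16 zb33) (kb xb21 yb58 zb42) (kb xb16 yb16 zb35) (kb xb24 yb43 zb20) (kb xb21 yb45 zb19) (kb xb27 yb56 zb49) (kb xb20 yb4 zb6) (kb xb17 yb14 zb22) (kb xb26 yb46 zb30) (kb xb21 yb59 zb31) (kb xb21 yb10 zb17) (kb xb16 yb16 zb42) (kb xb18 yb16 zb36) (kb xb16 yb16 zb47) (kb xb16 yb16 zb48) (kb xb23 yb9 zb6) (kb xb21 yb4 zb51) (kb xb16 yb16 zb55) (kb xb16 yb16 zb56) (kb xb30 yb4 zb16) (kb xb16 yb16 zb51) (kb xb21 yb33 zb60) (kb xb31 yb2 zb27) (kb xb16 yb16 zb53) (kb xb27 yb31 zb0) (kb xb30 yb59 zb53) (kb xb23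 yb44 zb31) (kb xb23 yb42 zb48) (kb xb16 yb16 zb58) (kb xb16 yb16 zb59) (kb xb23 yb44 zb19)) (@D3.rec (fun _ => Pt) (kb xb27 yb27 zb28) (kb xb17 yb42 zb46) (kb xb16 yb17 zb11) (kb xb25 yb27 zb16) (kb xb17 yb49 zb30) (kb xb27 yb28 zb52) (kb xb18 yb10 zb54) (kb xb16 yb17 zb14) (kb xb18 yb13 zb1) (kb xb25 yb12 zb55) (kb xb16 yb17 zb17) (kb xb21 yb4 zb26) (kb xb25 yb33 zb2) (kb xb18 yb7 zb2) (kb xb27 yb47 zb16) (kb xb18 yb31 zb60) (kb xb16 yb17 zb20) (kb xb16 yb17 zb23) (kb xb16 yb17 zb28) (kb xb26 yb18 zb58) (kb xb24 yb55 zb21) (kb xb16 yb17 zb31) (kb xb32 yb6 zb26) (kb xb31 yb38 zb7) (kb xb18 yb4 zb1) (kb xb29 yb43 zb49) (kb xb18 yb10 zb51) (kb xb21 yb4 zb3) (kb xb21 yb19 zb14) (kb xb17 yb43 zb33) (kb xb16 yb17 zb39) (kb xb32 yb1 zb45) (kb xb27 yb30 zb3) (kb xb16 yb17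 zb40) (kb xb28 yb7 zb21) (kb xb23 yb21 zb57) (kb xb16 yb34 zb42) (kb xb28 yb38 zb5) (kb xb16 yb20 zb41) (kb xb18 yb26 zb46) (kb xb27 yb46 zb1) (kb xb16 yb17 zb47) (kb xb17 yb43 zb37) (kb xb18 yb4 zb26) (kb xb16 yb17 zb53) (kb xb27 yb31 zb38) (kb xb29 yb39 zb18) (kb xb16 yb17 zb61) (kb xb18 yb17 zb39) (kb xb20 yb15 zb24) (kb xb28 yb14 zb39) (kb xb18 yb26 zb39) (kb xb31 yb38 zb25) (kb xb31 yb38 zb24) (kb xb28 yb45 zb48) (kb xb22 yb55 zb49) (kb xb32 yb6 zb40) (kb xb23 yb44 zb35) (kb xb19 yb23 zb45) (kb xb17 yb35 zb17) (kb xb24 yb56 zb3) (kb xb18 yb8 zb50)) (@D3.rec (fun _ => Pt) (kb xb17 yb42 zb56) (kb xb16 yb18 zb17) (kb xb29 yb47 zb48) (kb xb19 yb29 zb48) (kb xb28 yb30 zb59) (kb xb16 yb18 zb21) (kb xb27 yb27 zb45) (kb xb21 yb28 zb32) (kb xb18 yb31 zb51) (kb xb26 yb4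 zb20) (kb xb27 yb40 zb8) (kb xb17 yb48 zb41) (kb xb28 yb36 zb43) (kb xb16 yb20 zb24) (kb xb19 yb22 zb54) (kb xb16 yb18 zb29) (kb xb27 yb54 zb27) (kb xb25 yb10 zb45) (kb xb28 yb38 zb1) (kb xb16 yb19 zb35) (kb xb16 yb19 zb36) (kb xb25 yb0 zb44) (kb xb28 yb3 zb13) (kb xb28 yb6 zb23) (kb xb25 yb3 zb35) (kb xb22 yb15 zb12) (kb xb31 yb38 zb29) (kb xb28 yb25 zb3) (kb xb16 yb18 zb38) (kb xb24 yb29 zb32) (kb xb32 yb6 zb50) (kb xb24 yb56 zb4) (kb xb31 yb43 zb15) (kb xb30 yb23 zb16) (kb xb18 yb5 zb61) (kb xb16 yb18 zb45) (kb xb18 yb3 zb50) (kb xb18 yb7 zb44) (kb xb18 yb3 zb59) (kb xb21 yb31 zb55) (kb xb26 yb12 zb26) (kb xb18 yb10 zb42) (kb xb18 yb9 zb3) (kb xb27 yb32 zb54) (kb xb16 yb18 zb54) (kb xb16 yb18 zb56) (kb xb26 yb13 zb6) (kb xb30 yb8 zb44) (kb xb30 yb1 zb50) (kb xb22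 yb8 zb61) (kb xb17 yb10 zb24) (kb xb16 yb19 zb1) (kb xb32 yb6 zb54) (kb xb16 yb19 zb6) (kb xb19 yb35 zb47) (kb xb16 yb19 zb4) (kb xb21 yb46 zb23) (kb xb31 yb38 zb34) (kb xb21 yb23 zb5) (kb xb27 yb5 zb49) (kb xb30 yb3 zb30) (kb xb23 yb22 zb17)) (@D3.rec (fun _ => Pt) (kb xb25 yb27 zb10) (kb xb16 yb19 zb9) (kb xb16 yb19 zb10) (kb xb24 yb43 zb7) (kb xb27 yb26 zb51) (kb xb21 yb37 zb2) (kb xb23 yb22 zb39) (kb xb22 yb8 zb44) (kb xb22 yb15 zb34) (kb xb32 yb6 zb55) (kb xb17 yb55 zb11) (kb xb20 yb7 zb21) (kb xb16 yb19 zb21) (kb xb22 yb38 zb55) (kb xb20 yb45 zb25) (kb xb20 yb6 zb7) (kb xb18 yb56 zb11) (kb xb18 yb19 zb55) (kb xb16 yb19 zb26) (kb xb27 yb54 zb18) (kb xb28 yb9 zb47) (kb xb25 yb32 zb37) (kb xb16 yb19 zb29) (kb xb25 yb50 zb42) (kb xb29 yb54 zb25) (kb xb24 yb28 zb25)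 (kb xb16 yb26 zb28) (kb xb30 yb39 zb36) (kb xb16 yb19 zb31) (kb xb31 yb54 zb33) (kb xb16 yb19 zb33) (kb xb32 yb7 zb0) (kb xb29 yb18 zb30) (kb xb16 yb19 zb34) (kb xb32 yb1 zb34) (kb xb22 yb51 zb49) (kb xb28 yb4 zb25) (kb xb16 yb19 zb37) (kb xb32 yb7 zb1) (kb xb22 yb55 zb57) (kb xb16 yb19 zb52) (kb xb24 yb25 zb57) (kb xb18 yb36 zb56) (kb xb27 yb58 zb38) (kb xb28 yb0 zb9) (kb xb26 yb20 zb57) (kb xb16 yb19 zb47) (kb xb16 yb19 zb48) (kb xb26 yb20 zb58) (kb xb32 yb7 zb5) (kb xb31 yb44 zb9) (kb xb27 yb33 zb44) (kb xb16 yb19 zb49) (kb xb19 yb9 zb6) (kb xb32 yb7 zb8) (kb xb22 yb53 zb58) (kb xb30 yb51 zb44) (kb xb27 yb12 zb35) (kb xb25 yb5 zb48) (kb xb22 yb53 zb27) (kb xb31 yb38 zb44) (kb xb16 yb19 zb59)) (@D3.rec (fun _ => Pt) (kb xb31 yb36 zb41) (kb xb27 yb25 zb33) (kb xb32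 yb7 zb14) (kb xb31 yb48 zb20) (kb xb27 yb52 zb27) (kb xb27 yb31 zb48) (kb xb21 yb58 zb21) (kb xb21 yb57 zb19) (kb xb21 yb58 zb1) (kb xb27 yb25 zb58) (kb xb16 yb20 zb5) (kb xb21 yb49 zb13) (kb xb26 yb10 zb49) (kb xb16 yb20 zb10) (kb xb28 yb7 zb61) (kb xb18 yb32 zb49) (kb xb28 yb7 zb12) (kb xb18 yb8 zb58) (kb xb18 yb4 zb38) (kb xb17 yb29 zb54) (kb xb30 yb54 zb1) (kb xb26 yb18 zb34) (kb xb19 yb44 zb5) (kb xb16 yb39 zb61) (kb xb16 yb20 zb23) (kb xb28 yb9 zb27) (kb xb31 yb14 zb25) (kb xb16 yb20 zb32) (kb xb20 yb4 zb47) (kb xb16 yb20 zb36) (kb xb16 yb20 zb45) (kb xb18 yb41 zb20) (kb xb16 yb20 zb38) (kb xb32 yb7 zb21) (kb xb26 yb18 zb21) (kb xb29 yb55 zb37) (kb xb16 yb20 zb40) (kb xb28 yb6 zb15) (kb xb27 yb29 zb4) (kb xb27 yb28 zb10) (kb xb27 yb5 zb38) (kb xb16 yb35 zb31)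 (kb xb16 yb20 zb46) (kb xb18 yb41 zb29) (kb xb30 yb45 zb22) (kb xb28 yb1 zb46) (kb xb16 yb20 zb52) (kb xb27 yb47 zb38) (kb xb28 yb27 zb37) (kb xb18 yb31 zb7) (kb xb16 yb20 zb56) (kb xb16 yb20 zb54) (kb xb32 yb7 zb24) (kb xb18 yb59 zb11) (kb xb31 yb38 zb36) (kb xb27 yb58 zb37) (kb xb32 yb7 zb26) (kb xb31 yb43 zb2) (kb xb26 yb15 zb19) (kb xb30 yb39 zb37) (kb xb18 yb49 zb20) (kb xb26 yb13 zb21)) (@D3.rec (fun _ => Pt) (kb xb29 yb19 zb4) (kb xb16 yb52 zb57) (kb xb16 yb21 zb0) (kb xb31 yb5 zb41) (kb xb18 yb35 zb51) (kb xb16 yb21 zb6) (kb xb24 yb36 zb9) (kb xb24 yb46 zb48) (kb xb22 yb47 zb13) (kb xb23 yb6 zb22) (kb xb29 yb39 zb16) (kb xb16 yb21 zb11) (kb xb16 yb21 zb10) (kb xb21 yb54 zb60) (kb xb16 yb21 zb12) (kb xb21 yb55 zb0) (kb xb30 yb55 zb6) (kb xb16 yb32 zb2) (kb xb28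 yb27 zb47) (kb xb28 yb27 zb10) (kb xb20 yb8 zb5) (kb xb18 yb27 zb18) (kb xb18 yb19 zb45) (kb xb28 yb26 zb61) (kb xb18 yb11 zb47) (kb xb26 yb31 zb15) (kb xb28 yb15 zb53) (kb xb28 yb5 zb36) (kb xb18 yb33 zb23) (kb xb27 yb34 zb13) (kb xb18 yb12 zb3) (kb xb16 yb21 zb26) (kb xb19 yb15 zb24) (kb xb26 yb49 zb47) (kb xb18 yb58 zb32) (kb xb18 yb19 zb39) (kb xb28 yb45 zb40) (kb xb28 yb44 zb52) (kb xb23 yb7 zb25) (kb xb22 yb34 zb29) (kb xb25 yb47 zb26) (kb xb23 yb7 zb11) (kb xb18 yb27 zb36) (kb xb20 yb0 zb55) (kb xb20 yb6 zb46) (kb xb16 yb21 zb43) (kb xb29 yb54 zb0) (kb xb27 yb49 zb45) (kb xb18 yb33 zb0) (kb xb16 yb21 zb50) (kb xb25 yb25 zb41) (kb xb19 yb0 zb22) (kb xb25 yb0 zb27) (kb xb18 yb3 zb36) (kb xb29 yb54 zb20) (kb xb16 yb21 zb59) (kb xb26 yb49 zb38) (kb xb16 yb22 zb36)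 (kb xb32 yb7 zb36) (kb xb30 yb31 zb57) (kb xb16 yb21 zb61) (kb xb18 yb12 zb23)) (@D3.rec (fun _ => Pt) (kb xb18 yb14 zb24) (kb xb20 yb21 zb12) (kb xb16 yb22 zb4) (kb xb16 yb22 zb47) (kb xb29 yb30 zb2) (kb xb22 yb28 zb22) (kb xb27 yb57 zb53) (kb xb17 yb35 zb59) (kb xb17 yb46 zb12) (kb xb16 yb23 zb23) (kb xb16 yb22 zb17) (kb xb30 yb43 zb9) (kb xb16 yb22 zb18) (kb xb28 yb28 zb19) (kb xb30 yb46 zb2) (kb xb20 yb29 zb27) (kb xb16 yb22 zb23) (kb xb32 yb7 zb39) (kb xb16 yb22 zb24) (kb xb20 yb21 zb7) (kb xb19 yb0 zb24) (kb xb19 yb0 zb23) (kb xb26 yb30 zb24) (kb xb29 yb54 zb24) (kb xb32 yb7 zb38) (kb xb16 yb34 zb15) (kb xb16 yb22 zb38) (kb xb16 yb22 zb32) (kb xb29 yb38 zb30) (kb xb31 yb22 zb22) (kb xb32 yb7 zb40) (kb xb20 yb8 zb8) (kb xb24 yb7 zb40) (kb xb19 yb1 zb52) (kb xb32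 yb7 zb41) (kb xb16 yb22 zb37) (kb xb29 yb3 zb42) (kb xb26 yb45 zb8) (kb xb30 yb35 zb51) (kb xb19 yb2 zb55) (kb xb32 yb7 zb45) (kb xb19 yb22 zb52) (kb xb16 yb22 zb45) (kb xb16 yb22 zb50) (kb xb21 yb14 zb5) (kb xb19 yb22 zb22) (kb xb31 yb38 zb28) (kb xb17 yb45 zb18) (kb xb31 yb38 zb27) (kb xb16 yb22 zb55) (kb xb18 yb31 zb54) (kb xb27 yb12 zb30) (kb xb28 yb4 zb42) (kb xb24 yb55 zb41) (kb xb24 yb54 zb5) (kb xb16 yb22 zb59) (kb xb25 yb3 zb32) (kb xb26 yb17 zb45) (kb xb26 yb17 zb48) (kb xb31 yb1 zb28) (kb xb32 yb3 zb56) (kb xb16 yb23 zb0)) (@D3.rec (fun _ => Pt) (kb xb32 yb7 zb50) (kb xb16 yb23 zb1) (kb xb26 yb13 zb44) (kb xb27 yb31 zb2) (kb xb28 yb7 zb8) (kb xb28 yb7 zb59) (kb xb16 yb23 zb2) (kb xb28 yb4 zb30) (kb xb18 yb8 zb6) (kb xb18 yb7 zb16) (kb xb22 yb18 zb4) (kb xb18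 yb3 zb57) (kb xb18 yb7 zb34) (kb xb16 yb23 zb17) (kb xb22 yb14 zb54) (kb xb31 yb59 zb47) (kb xb16 yb23 zb25) (kb xb16 yb23 zb26) (kb xb30 yb47 zb19) (kb xb27 yb58 zb30) (kb xb29 yb52 zb52) (kb xb29 yb42 zb41) (kb xb31 yb59 zb49) (kb xb16 yb23 zb28) (kb xb32 yb6 zb27) (kb xb32 yb7 zb57) (kb xb16 yb23 zb29) (kb xb31 yb42 zb18) (kb xb24 yb35 zb2) (kb xb28 yb36 zb32) (kb xb32 yb7 zb60) (kb xb16 yb23 zb30) (kb xb31 yb32 zb56) (kb xb32 yb8 zb2) (kb xb22 yb55 zb34) (kb xb26 yb31 zb45) (kb xb21 yb15 zb29) (kb xb16 yb23 zb42) (kb xb16 yb23 zb36) (kb xb26 yb4 zb33) (kb xb28 yb12 zb47) (kb xb16 yb23 zb41) (kb xb31 yb44 zb42) (kb xb27 yb33 zb54) (kb xb18 yb33 zb20) (kb xb21 yb12 zb42) (kb xb26 yb57 zb41) (kb xb23 yb8 zb9) (kb xb17 yb2 zb29) (kb xb26 yb29 zb36) (kb xb16 yb23 zb58)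 (kb xb21 yb43 zb39) (kb xb25 yb25 zb23) (kb xb32 yb8 zb5) (kb xb29 yb22 zb48) (kb xb29 yb5 zb52) (kb xb19 yb12 zb41) (kb xb17 yb34 zb5) (kb xb21 yb29 zb21) (kb xb21 yb29 zb22) (kb xb16 yb24 zb12) (kb xb16 yb24 zb14)) (@D3.rec (fun _ => Pt) (kb xb30 yb47 zb6) (kb xb30 yb58 zb10) (kb xb20 yb46 zb37) (kb xb21 yb9 zb3) (kb xb18 yb19 zb61) (kb xb16 yb24 zb29) (kb xb26 yb50 zb24) (kb xb20 yb52 zb43) (kb xb24 yb8 zb17) (kb xb21 yb29 zb4) (kb xb29 yb19 zb35) (kb xb21 yb53 zb33) (kb xb16 yb24 zb39) (kb xb20 yb35 zb54) (kb xb20 yb8 zb40) (kb xb28 yb53 zb37) (kb xb27 yb43 zb15) (kb xb27 yb43 zb16) (kb xb24 yb6 zb1) (kb xb24 yb34 zb41) (kb xb32 yb8 zb13) (kb xb21 yb13 zb50) (kb xb17 yb20 zb10) (kb xb16 yb24 zb47) (kb xb16 yb24 zb48) (kb xb17 yb20 zb11) (kb xb17 yb20 zb12) (kb xb16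 yb25 zb1) (kb xb29 yb23 zb56) (kb xb20 yb7 zb51) (kb xb20 yb20 zb10) (kb xb20 yb8 zb52) (kb xb16 yb51 zb22) (kb xb21 yb28 zb55) (kb xb26 yb58 zb56) (kb xb16 yb30 zb45) (kb xb20 yb8 zb48) (kb xb16 yb25 zb2) (kb xb30 yb38 zb54) (kb xb21 yb37 zb59) (kb xb16 yb25 zb6) (kb xb16 yb25 zb5) (kb xb31 yb35 zb59) (kb xb19 yb47 zb1) (kb xb23 yb40 zb54) (kb xb16 yb25 zb9) (kb xb32 yb8 zb17) (kb xb22 yb39 zb1) (kb xb23 yb40 zb59) (kb xb21 yb34 zb24) (kb xb30 yb12 zb34) (kb xb17 yb15 zb37) (kb xb25 yb25 zb57) (kb xb23 yb7 zb38) (kb xb16 yb25 zb23) (kb xb25 yb45 zb39) (kb xb20 yb14 zb20) (kb xb16 yb25 zb25) (kb xb22 yb3 zb5) (kb xb21 yb47 zb10) (kb xb20 yb15 zb58) (kb xb16 yb25 zb34)) (@D3.rec (fun _ => Pt) (kb xb29 yb11 zb39) (kb xb16 yb25 zb40) (kb xb16 yb25 zb43) (kb xb16 yb25 zb51)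 (kb xb20 yb32 zb52) (kb xb24 yb32 zb44) (kb xb20 yb32 zb18) (kb xb16 yb25 zb42) (kb xb19 yb55 zb0) (kb xb19 yb15 zb14) (kb xb16 yb25 zb41) (kb xb28 yb11 zb40) (kb xb20 yb0 zb32) (kb xb18 yb29 zb49) (kb xb24 yb59 zb47) (kb xb31 yb48 zb38) (kb xb17 yb2 zb52) (kb xb16 yb25 zb56) (kb xb18 yb2 zb23) (kb xb16 yb25 zb58) (kb xb16 yb56 zb31) (kb xb32 yb8 zb20) (kb xb20 yb14 zb18) (kb xb17 yb3 zb40) (kb xb25 yb56 zb29) (kb xb17 yb1 zb47) (kb xb17 yb3 zb47) (kb xb22 yb2 zb26) (kb xb31 yb50 zb9) (kb xb18 yb45 zb33) (kb xb27 yb11 zb46) (kb xb27 yb57 zb41) (kb xb25 yb46 zb50) (kb xb28 yb14 zb51) (kb xb17 yb31 zb20) (kb xb17 yb31 zb21) (kb xb19 yb51 zb21) (kb xb29 yb35 zb5) (kb xb19 yb51 zb61) (kb xb26 yb50 zb23) (kb xb20 yb31 zb56) (kb xb17 yb21 zb17) (kb xb20 yb20 zb14) (kb xb25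 yb56 zb4) (kb xb26 yb30 zb3) (kb xb16 yb27 zb0) (kb xb16 yb27 zb8) (kb xb29 yb42 zb10) (kb xb29 yb42 zb11) (kb xb20 yb37 zb5) (kb xb16 yb27 zb16) (kb xb16 yb26 zb34) (kb xb23 yb18 zb61) (kb xb20 yb50 zb1) (kb xb31 yb36 zb20) (kb xb31 yb0 zb30) (kb xb23 yb9 zb39) (kb xb22 yb59 zb47) (kb xb28 yb51 zb45) (kb xb22 yb55 zb52) (kb xb31 yb25 zb44) (kb xb16 yb26 zb43)) (@D3.rec (fun _ => Pt) (kb xb19 yb19 zb48) (kb xb16 yb26 zb45) (kb xb16 yb26 zb50) (kb xb16 yb26 zb49) (kb xb32 yb8 zb27) (kb xb16 yb26 zb53) (kb xb16 yb26 zb52) (kb xb32 yb8 zb28) (kb xb22 yb22 zb33) (kb xb23 yb18 zb31) (kb xb28 yb19 zb33) (kb xb16 yb26 zb55) (kb xb29 yb27 zb4) (kb xb28 yb34 zb12) (kb xb21 yb0 zb32) (kb xb22 yb54 zb57) (kb xb16 yb27 zb4) (kb xb32 yb8 zb30) (kb xb30 yb44 zb13) (kb xb16 yb27 zb10)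 (kb xb31 yb23 zb36) (kb xb22 yb55 zb58) (kb xb16 yb27 zb7) (kb xb28 yb0 zb13) (kb xb26 yb42 zb27) (kb xb16 yb27 zb11) (kb xb32 yb8 zb32) (kb xb30 yb43 zb36) (kb xb16 yb27 zb14) (kb xb16 yb27 zb15) (kb xb32 yb8 zb36) (kb xb30 yb6 zb35) (kb xb30 yb48 zb25) (kb xb30 yb54 zb0) (kb xb16 yb27 zb18) (kb xb21 yb11 zb7) (kb xb23 yb9 zb61) (kb xb23 yb6 zb3) (kb xb26 yb24 zb42) (kb xb24 yb14 zb10) (kb xb25 yb43 zb26) (kb xb24 yb14 zb8) (kb xb26 yb24 zb38) (kb xb22 yb54 zb16) (kb xb22 yb54 zb36) (kb xb25 yb24 zb42) (kb xb24 yb9 zb40) (kb xb29 yb19 zb1) (kb xb22 yb16 zb41) (kb xb28 yb22 zb18) (kb xb16 yb27 zb40) (kb xb26 yb28 zb40) (kb xb22 yb47 zb54) (kb xb30 yb54 zb28) (kb xb16 yb27 zb45) (kb xb18 yb22 zb21) (kb xb21 yb39 zb47) (kb xb16 yb27 zb44) (kb xb25 yb2 zb37) (kb xb16 yb27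 zb50) (kb xb17 yb15 zb15) (kb xb21 yb53 zb59)) (@D3.rec (fun _ => Pt) (kb xb16 yb27 zb51) (kb xb16 yb27 zb49) (kb xb23 yb35 zb11) (kb xb23 yb20 zb44) (kb xb16 yb27 zb55) (kb xb16 yb27 zb57) (kb xb16 yb27 zb58) (kb xb16 yb27 zb54) (kb xb21 yb6 zb27) (kb xb32 yb8 zb42) (kb xb23 yb33 zb21) (kb xb16 yb27 zb60) (kb xb29 yb29 zb57) (kb xb16 yb28 zb3) (kb xb31 yb45 zb0) (kb xb32 yb8 zb44) (kb xb30 yb54 zb39) (kb xb26 yb26 zb32) (kb xb23 yb32 zb4) (kb xb17 yb15 zb26) (kb xb19 yb50 zb6) (kb xb32 yb8 zb45) (kb xb17 yb30 zb38) (kb xb26 yb28 zb57) (kb xb26 yb28 zb58) (kb xb16 yb28 zb15) (kb xb16 yb28 zb17) (kb xb20 yb15 zb10) (kb xb28 yb49 zb24) (kb xb20 yb14 zb10) (kb xb16 yb29 zb30) (kb xb16 yb28 zb26) (kb xb20 yb17 zb45) (kb xb17 yb34 zb41) (kb xb27 yb22 zb14) (kb xb16 yb28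 zb33) (kb xb25 yb36 zb7) (kb xb28 yb43 zb20) (kb xb29 yb0 zb28) (kb xb29 yb28 zb18) (kb xb28 yb22 zb26) (kb xb16 yb28 zb41) (kb xb16 yb28 zb40) (kb xb26 yb56 zb22) (kb xb18 yb41 zb57) (kb xb22 yb17 zb19) (kb xb26 yb38 zb33) (kb xb19 yb40 zb59) (kb xb16 yb28 zb50) (kb xb23 yb3 zb47) (kb xb27 yb0 zb56) (kb xb16 yb28 zb47) (kb xb30 yb33 zb56) (kb xb16 yb28 zb49) (kb xb16 yb53 zb10) (kb xb16 yb28 zb54) (kb xb16 yb28 zb56) (kb xb22 yb38 zb54) (kb xb16 yb28 zb57) (kb xb16 yb28 zb58) (kb xb26 yb56 zb26) (kb xb22 yb12 zb52)) (@D3.rec (fun _ => Pt) (kb xb31 yb6 zb47) (kb xb16 yb29 zb2) (kb xb16 yb29 zb3) (kb xb16 yb29 zb0) (kb xb31 yb42 zb3) (kb xb30 yb36 zb46) (kb xb30 yb43 zb35) (kb xb23 yb5 zb24) (kb xb28 yb47 zb11) (kb xb31 yb6 zb46) (kb xb22 yb54 zb51) (kb xb27 yb22 zb42)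 (kb xb20 yb34 zb44) (kb xb22 yb17 zb1) (kb xb19 yb46 zb53) (kb xb20 yb34 zb49) (kb xb19 yb53 zb13) (kb xb28 yb56 zb7) (kb xb20 yb9 zb9) (kb xb16 yb29 zb16) (kb xb32 yb8 zb55) (kb xb16 yb29 zb20) (kb xb18 yb24 zb52) (kb xb27 yb3 zb30) (kb xb23 yb13 zb54) (kb xb16 yb29 zb33) (kb xb23 yb20 zb45) (kb xb16 yb29 zb37) (kb xb31 yb6 zb22) (kb xb27 yb1 zb17) (kb xb16 yb29 zb39) (kb xb28 yb13 zb52) (kb xb26 yb25 zb17) (kb xb20 yb32 zb54) (kb xb16 yb29 zb43) (kb xb21 yb4 zb25) (kb xb20 yb52 zb48) (kb xb29 yb27 zb12) (kb xb21 yb14 zb53) (kb xb26 yb55 zb39) (kb xb16 yb34 zb3) (kb xb26 yb55 zb41) (kb xb25 yb59 zb26) (kb xb16 yb30 zb7) (kb xb16 yb29 zb55) (kb xb32 yb8 zb56) (kb xb29 yb25 zb38) (kb xb27 yb14 zb5) (kb xb29 yb31 zb8) (kb xb16 yb59 zb6) (kb xb24 yb53 zb2) (kb xb29 yb3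 zb19) (kb xb19 yb1 zb0) (kb xb20 yb8 zb36) (kb xb19 yb28 zb5) (kb xb16 yb30 zb6) (kb xb18 yb22 zb7) (kb xb32 yb8 zb47) (kb xb20 yb8 zb2) (kb xb30 yb43 zb8) (kb xb23 yb11 zb51) (kb xb23 yb57 zb6)) (@D3.rec (fun _ => Pt) (kb xb19 yb31 zb17) (kb xb29 yb18 zb58) (kb xb20 yb8 zb37) (kb xb16 yb30 zb24) (kb xb16 yb30 zb25) (kb xb16 yb30 zb28) (kb xb16 yb31 zb54) (kb xb16 yb32 zb49) (kb xb16 yb31 zb45) (kb xb17 yb2 zb26) (kb xb21 yb3 zb18) (kb xb20 yb7 zb44) (kb xb16 yb30 zb48) (kb xb19 yb58 zb45) (kb xb20 yb12 zb35) (kb xb16 yb33 zb16) (kb xb26 yb12 zb56) (kb xb16 yb33 zb11) (kb xb26 yb10 zb16) (kb xb27 yb21 zb16) (kb xb29 yb25 zb8) (kb xb16 yb32 zb45) (kb xb18 yb31 zb39) (kb xb19 yb7 zb27) (kb xb16 yb31 zb4) (kb xb16 yb33 zb36) (kb xb30 yb56 zb26) (kb xb28 yb28 zb32) (kb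 xb16 yb31 zb8) (kb xb16 yb31 zb9) (kb xb28 yb46 zb37) (kb xb32 yb8 zb48) (kb xb32 yb9 zb4) (kb xb28 yb35 zb38) (kb xb27 yb57 zb50) (kb xb23 yb0 zb48) (kb xb16 yb31 zb12) (kb xb32 yb9 zb8) (kb xb32 yb9 zb10) (kb xb16 yb31 zb15) (kb xb16 yb31 zb14) (kb xb32 yb9 zb11) (kb xb28 yb35 zb32) (kb xb26 yb56 zb35) (kb xb16 yb33 zb59) (kb xb22 yb16 zb39) (kb xb30 yb38 zb20) (kb xb16 yb31 zb18) (kb xb16 yb31 zb17) (kb xb30 yb42 zb56) (kb xb25 yb16 zb12) (kb xb16 yb34 zb10) (kb xb28 yb22 zb17) (kb xb16 yb31 zb19) (kb xb31 yb33 zb33) (kb xb16 yb34 zb14) (kb xb22 yb53 zb7) (kb xb18 yb56 zb22) (kb xb24 yb21 zb35) (kb xb24 yb25 zb4) (kb xb28 yb55 zb45) (kb xb16 yb31 zb23)) (@D3.rec (fun _ => Pt) (kb xb32 yb9 zb18) (kb xb16 yb31 zb25) (kb xb18 yb2 zb16) (kb xb26 yb35 zb59) (kb xb21 yb36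 zb37) (kb xb21 yb53 zb58) (kb xb20 yb6 zb50) (kb xb30 yb6 zb3) (kb xb16 yb31 zb35) (kb xb16 yb31 zb36) (kb xb24 yb34 zb48) (kb xb16 yb31 zb43) (kb xb22 yb42 zb28) (kb xb19 yb7 zb42) (kb xb19 yb34 zb18) (kb xb21 yb36 zb35) (kb xb21 yb36 zb36) (kb xb16 yb31 zb42) (kb xb20 yb7 zb32) (kb xb16 yb31 zb44) (kb xb20 yb52 zb20) (kb xb21 yb53 zb6) (kb xb20 yb30 zb53) (kb xb28 yb43 zb12) (kb xb25 yb56 zb18) (kb xb16 yb32 zb50) (kb xb30 yb37 zb33) (kb xb21 yb54 zb61) (kb xb25 yb6 zb17) (kb xb17 yb57 zb41) (kb xb32 yb9 zb22) (kb xb16 yb32 zb1) (kb xb20 yb1 zb19) (kb xb16 yb32 zb13) (kb xb26 yb45 zb13) (kb xb28 yb26 zb49) (kb xb16 yb32 zb4) (kb xb21 yb0 zb42) (kb xb22 yb48 zb21) (kb xb28 yb23 zb5) (kb xb26 yb24 zb51) (kb xb30 yb34 zb3) (kb xb31 yb26 zb51) (kb xb19 yb15 zb22) (kb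 xb16 yb32 zb7) (kb xb16 yb32 zb36) (kb xb18 yb0 zb35) (kb xb20 yb31 zb21) (kb xb23 yb12 zb10) (kb xb16 yb32 zb15) (kb xb27 yb39 zb60) (kb xb28 yb8 zb14) (kb xb32 yb9 zb25) (kb xb25 yb8 zb30) (kb xb28 yb27 zb9) (kb xb30 yb53 zb49) (kb xb30 yb45 zb61) (kb xb26 yb25 zb23) (kb xb26 yb25 zb24) (kb xb24 yb54 zb39) (kb xb24 yb30 zb34) (kb xb26 yb30 zb26)) (@D3.rec (fun _ => Pt) (kb xb16 yb32 zb24) (kb xb28 yb12 zb39) (kb xb17 yb15 zb22) (kb xb16 yb32 zb25) (kb xb16 yb32 zb23) (kb xb32 yb8 zb33) (kb xb30 yb54 zb37) (kb xb16 yb32 zb26) (kb xb21 yb10 zb49) (kb xb16 yb32 zb30) (kb xb16 yb32 zb29) (kb xb26 yb31 zb16) (kb xb23 yb8 zb7) (kb xb16 yb32 zb31) (kb xb16 yb32 zb32) (kb xb24 yb48 zb0) (kb xb31 yb46 zb19) (kb xb26 yb30 zb42) (kb xb16 yb32 zb34) (kb xb16 yb32 zb35) (kb xb32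 yb9 zb40) (kb xb30 yb14 zb0) (kb xb21 yb44 zb26) (kb xb30 yb12 zb16) (kb xb19 yb51 zb46) (kb xb22 yb40 zb20) (kb xb27 yb58 zb32) (kb xb16 yb36 zb9) (kb xb32 yb8 zb61) (kb xb19 yb2 zb33) (kb xb22 yb51 zb7) (kb xb24 yb57 zb5) (kb xb28 yb0 zb34) (kb xb16 yb33 zb10) (kb xb22 yb32 zb45) (kb xb27 yb5 zb23) (kb xb26 yb21 zb49) (kb xb29 yb19 zb19) (kb xb29 yb14 zb51) (kb xb32 yb9 zb41) (kb xb16 yb32 zb58) (kb xb16 yb32 zb56) (kb xb18 yb34 zb29) (kb xb16 yb32 zb57) (kb xb30 yb45 zb24) (kb xb31 yb0 zb15) (kb xb30 yb44 zb45) (kb xb22 yb34 zb57) (kb xb16 yb33 zb1) (kb xb23 yb51 zb5) (kb xb16 yb33 zb5) (kb xb30 yb31 zb51) (kb xb32 yb9 zb47) (kb xb23 yb51 zb4) (kb xb31 yb1 zb23) (kb xb16 yb33 zb8) (kb xb24 yb29 zb4) (kb xb20 yb32 zb0) (kb xb22 yb35 zb19) (kb xb30 yb35 zb29) (kb xb16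 yb33 zb28) (kb xb30 yb47 zb33)) (@D3.rec (fun _ => Pt) (kb xb23 yb31 zb38) (kb xb28 yb43 zb47) (kb xb16 yb33 zb30) (kb xb26 yb23 zb44) (kb xb19 yb23 zb6) (kb xb16 yb33 zb24) (kb xb16 yb33 zb23) (kb xb19 yb23 zb5) (kb xb26 yb58 zb17) (kb xb16 yb33 zb26) (kb xb23 yb34 zb28) (kb xb28 yb27 zb1) (kb xb30 yb52 zb26) (kb xb16 yb33 zb31) (kb xb24 yb57 zb24) (kb xb24 yb57 zb25) (kb xb29 yb24 zb38) (kb xb16 yb33 zb38) (kb xb16 yb33 zb35) (kb xb28 yb6 zb60) (kb xb29 yb28 zb50) (kb xb32 yb9 zb57) (kb xb16 yb33 zb37) (kb xb30 yb44 zb23) (kb xb26 yb20 zb22) (kb xb19 yb0 zb6) (kb xb26 yb28 zb61) (kb xb30 yb37 zb12) (kb xb29 yb9 zb6) (kb xb20 yb3 zb5) (kb xb32 yb6 zb10) (kb xb23 yb9 zb57) (kb xb16 yb33 zb47) (kb xb31 yb59 zb15) (kb xb19 yb6 zb39) (kb xb16 yb33 zb49) (kb xb24 yb48 zb23)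 (kb xb16 yb34 zb22) (kb xb16 yb33 zb50) (kb xb28 yb9 zb14) (kb xb32 yb10 zb1) (kb xb29 yb20 zb61) (kb xb26 yb29 zb17) (kb xb16 yb33 zb52) (kb xb32 yb10 zb6) (kb xb27 yb50 zb56) (kb xb29 yb20 zb42) (kb xb16 yb33 zb53) (kb xb16 yb33 zb54) (kb xb16 yb33 zb55) (kb xb23 yb2 zb24) (kb xb30 yb31 zb11) (kb xb16 yb33 zb57) (kb xb18 yb12 zb5) (kb xb32 yb10 zb12) (kb xb32 yb7 zb56) (kb xb16 yb33 zb58) (kb xb28 yb5 zb15) (kb xb25 yb16 zb27) (kb xb16 yb33 zb61) (kb xb20 yb50 zb10) (kb xb19 yb46 zb60)) (@D3.rec (fun _ => Pt) (kb xb16 yb34 zb5) (kb xb18 yb34 zb24) (kb xb23 yb5 zb5) (kb xb27 yb54 zb58) (kb xb31 yb15 zb26) (kb xb31 yb59 zb50) (kb xb28 yb16 zb55) (kb xb30 yb6 zb57) (kb xb17 yb54 zb22) (kb xb28 yb34 zb51) (kb xb20 yb29 zb35) (kb xb16 yb34 zb11) (kb xb16 yb34 zb8) (kb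 xb27 yb51 zb46) (kb xb31 yb0 zb14) (kb xb26 yb19 zb25) (kb xb26 yb29 zb11) (kb xb16 yb34 zb9) (kb xb18 yb34 zb52) (kb xb20 yb32 zb25) (kb xb24 yb48 zb20) (kb xb21 yb28 zb46) (kb xb32 yb9 zb13) (kb xb27 yb51 zb53) (kb xb29 yb2 zb2) (kb xb16 yb34 zb13) (kb xb32 yb10 zb14) (kb xb28 yb8 zb41) (kb xb31 yb59 zb16) (kb xb31 yb46 zb24) (kb xb31 yb25 zb20) (kb xb27 yb58 zb17) (kb xb30 yb3 zb16) (kb xb27 yb49 zb21) (kb xb22 yb51 zb18) (kb xb30 yb48 zb3) (kb xb25 yb34 zb12) (kb xb21 yb12 zb2) (kb xb16 yb34 zb20) (kb xb29 yb21 zb0) (kb xb16 yb34 zb21) (kb xb30 yb30 zb5) (kb xb30 yb57 zb2) (kb xb22 yb56 zb38) (kb xb32 yb9 zb59) (kb xb26 yb21 zb35) (kb xb29 yb20 zb52) (kb xb31 yb34 zb43) (kb xb17 yb1 zb11) (kb xb16 yb34 zb25) (kb xb31 yb45 zb34) (kb xb29 yb21 zb36) (kb xb23 yb5 zb51)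 (kb xb16 yb34 zb29) (kb xb26 yb32 zb41) (kb xb16 yb34 zb30) (kb xb18 yb14 zb39) (kb xb23 yb30 zb59) (kb xb23 yb19 zb3) (kb xb25 yb26 zb28) (kb xb25 yb28 zb33) (kb xb20 yb35 zb3)) (@D3.rec (fun _ => Pt) (kb xb16 yb34 zb39) (kb xb22 yb20 zb18) (kb xb16 yb34 zb37) (kb xb25 yb31 zb44) (kb xb28 yb8 zb50) (kb xb27 yb33 zb48) (kb xb32 yb10 zb23) (kb xb19 yb6 zb18) (kb xb28 yb6 zb52) (kb xb18 yb45 zb56) (kb xb16 yb35 zb5) (kb xb16 yb34 zb45) (kb xb16 yb34 zb46) (kb xb32 yb10 zb24) (kb xb32 yb10 zb25) (kb xb31 yb53 zb47) (kb xb16 yb34 zb48) (kb xb20 yb30 zb13) (kb xb18 yb19 zb58) (kb xb30 yb35 zb11) (kb xb16 yb34 zb54) (kb xb16 yb34 zb53) (kb xb22 yb50 zb20) (kb xb16 yb34 zb56) (kb xb29 yb18 zb41) (kb xb17 yb55 zb16) (kb xb23 yb6 zb34) (kb xb32 yb10 zb27) (kb xb16 yb35 zb4)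 (kb xb30 yb57 zb45) (kb xb18 yb51 zb42) (kb xb25 yb52 zb57) (kb xb29 yb29 zb58) (kb xb16 yb35 zb19) (kb xb22 yb51 zb10) (kb xb16 yb35 zb20) (kb xb32 yb10 zb2) (kb xb22 yb29 zb11) (kb xb22 yb29 zb19) (kb xb21 yb12 zb56) (kb xb16 yb35 zb25) (kb xb26 yb31 zb54) (kb xb28 yb4 zb31) (kb xb26 yb33 zb2) (kb xb22 yb51 zb15) (kb xb16 yb35 zb26) (kb xb32 yb10 zb17) (kb xb22 yb2 zb49) (kb xb22 yb51 zb21) (kb xb21 yb14 zb8) (kb xb31 yb0 zb24) (kb xb16 yb35 zb38) (kb xb16 yb35 zb41) (kb xb18 yb20 zb45) (kb xb17 yb23 zb56) (kb xb25 yb17 zb30) (kb xb16 yb47 zb20) (kb xb23 yb14 zb53) (kb xb27 yb26 zb15) (kb xb16 yb35 zb55) (kb xb31 yb44 zb21) (kb xb20 yb6 zb10)) (@D3.rec (fun _ => Pt) (kb xb18 yb29 zb26) (kb xb18 yb29 zb30) (kb xb26 yb32 zb43) (kb xb16 yb36 zb1) (kb xb30 yb40 zb1) (kb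 xb22 yb46 zb45) (kb xb20 yb31 zb45) (kb xb25 yb57 zb32) (kb xb27 yb36 zb33) (kb xb16 yb36 zb14) (kb xb32 yb10 zb30) (kb xb16 yb36 zb18) (kb xb16 yb36 zb17) (kb xb31 yb26 zb2) (kb xb32 yb3 zb37) (kb xb21 yb20 zb59) (kb xb16 yb36 zb20) (kb xb16 yb36 zb22) (kb xb27 yb19 zb3) (kb xb16 yb40 zb6) (kb xb16 yb40 zb15) (kb xb16 yb36 zb29) (kb xb16 yb36 zb30) (kb xb28 yb40 zb46) (kb xb29 yb31 zb20) (kb xb16 yb36 zb28) (kb xb31 yb43 zb51) (kb xb29 yb56 zb14) (kb xb16 yb36 zb33) (kb xb20 yb58 zb43) (kb xb32 yb10 zb36) (kb xb23 yb12 zb56) (kb xb25 yb47 zb48) (kb xb16 yb36 zb38) (kb xb25 yb25 zb17) (kb xb16 yb40 zb54) (kb xb32 yb10 zb39) (kb xb32 yb10 zb41) (kb xb16 yb36 zb42) (kb xb16 yb36 zb43) (kb xb31 yb43 zb53) (kb xb31 yb19 zb8) (kb xb16 yb41 zb7) (kb xb32 yb10 zb45) (kb xb16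 yb41 zb9) (kb xb29 yb3 zb54) (kb xb16 yb36 zb48) (kb xb16 yb41 zb28) (kb xb16 yb36 zb49) (kb xb19 yb17 zb34) (kb xb24 yb15 zb2) (kb xb25 yb12 zb13) (kb xb29 yb3 zb56) (kb xb25 yb12 zb35) (kb xb16 yb36 zb53) (kb xb16 yb36 zb54) (kb xb29 yb4 zb53) (kb xb29 yb26 zb28) (kb xb16 yb36 zb56) (kb xb26 yb34 zb33) (kb xb16 yb36 zb57) (kb xb28 yb56 zb52)) (@D3.rec (fun _ => Pt) (kb xb26 yb37 zb36) (kb xb32 yb4 zb13) (kb xb16 yb37 zb6) (kb xb16 yb41 zb61) (kb xb20 yb48 zb33) (kb xb16 yb37 zb0) (kb xb32 yb10 zb49) (kb xb32 yb4 zb7) (kb xb27 yb16 zb32) (kb xb28 yb54 zb37) (kb xb16 yb37 zb2) (kb xb26 yb34 zb38) (kb xb31 yb26 zb3) (kb xb25 yb31 zb2) (kb xb25 yb49 zb32) (kb xb16 yb37 zb7) (kb xb28 yb58 zb29) (kb xb30 yb16 zb39) (kb xb16 yb37 zb8) (kb xb32 yb10 zb61) (kb xb25 yb37 zb31)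 (kb xb31 yb21 zb61) (kb xb22 yb21 zb34) (kb xb16 yb37 zb11) (kb xb32 yb3 zb27) (kb xb19 yb15 zb7) (kb xb28 yb58 zb33) (kb xb19 yb3 zb33) (kb xb31 yb35 zb1) (kb xb19 yb31 zb44) (kb xb19 yb31 zb45) (kb xb16 yb37 zb18) (kb xb30 yb16 zb5) (kb xb26 yb33 zb59) (kb xb16 yb37 zb22) (kb xb32 yb11 zb13) (kb xb20 yb58 zb50) (kb xb30 yb16 zb17) (kb xb26 yb34 zb11) (kb xb16 yb37 zb20) (kb xb32 yb11 zb15) (kb xb30 yb16 zb12) (kb xb16 yb37 zb23) (kb xb16 yb37 zb24) (kb xb16 yb37 zb25) (kb xb29 yb45 zb39) (kb xb22 yb22 zb13) (kb xb16 yb37 zb30) (kb xb29 yb47 zb20) (kb xb29 yb44 zb43) (kb xb16 yb37 zb33) (kb xb23 yb13 zb9) (kb xb29 yb33 zb55) (kb xb16 yb37 zb32) (kb xb16 yb37 zb34) (kb xb26 yb48 zb0) (kb xb28 yb50 zb28) (kb xb16 yb37 zb35) (kb xb22 yb1 zb21) (kb xb19 yb58 zb30) (kb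 xb16 yb37 zb39) (kb xb32 yb11 zb24)) (@D3.rec (fun _ => Pt) (kb xb32 yb11 zb25) (kb xb16 yb37 zb40) (kb xb16 yb37 zb41) (kb xb20 yb53 zb19) (kb xb31 yb14 zb2) (kb xb28 yb40 zb23) (kb xb32 yb11 zb27) (kb xb19 yb32 zb12) (kb xb16 yb37 zb43) (kb xb32 yb11 zb31) (kb xb26 yb35 zb54) (kb xb26 yb37 zb57) (kb xb19 yb17 zb41) (kb xb16 yb37 zb47) (kb xb16 yb37 zb48) (kb xb32 yb11 zb34) (kb xb16 yb43 zb28) (kb xb16 yb37 zb51) (kb xb19 yb55 zb30) (kb xb16 yb37 zb50) (kb xb31 yb51 zb7) (kb xb32 yb11 zb37) (kb xb32 yb11 zb36) (kb xb31 yb46 zb55) (kb xb26 yb35 zb57) (kb xb25 yb8 zb14) (kb xb26 yb38 zb12) (kb xb16 yb37 zb55) (kb xb16 yb37 zb56) (kb xb18 yb33 zb26) (kb xb17 yb56 zb22) (kb xb31 yb33 zb6) (kb xb32 yb11 zb45) (kb xb20 yb39 zb6) (kb xb27 yb16 zb23) (kb xb29 yb37 zb32) (kb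 xb16 yb37 zb59) (kb xb16 yb37 zb60) (kb xb19 yb40 zb20) (kb xb31 yb48 zb7) (kb xb26 yb36 zb59) (kb xb16 yb38 zb10) (kb xb16 yb38 zb0) (kb xb27 yb36 zb55) (kb xb29 yb43 zb20) (kb xb16 yb38 zb1) (kb xb31 yb40 zb30) (kb xb30 yb16 zb23) (kb xb27 yb8 zb11) (kb xb27 yb0 zb31) (kb xb32 yb11 zb56) (kb xb32 yb11 zb60) (kb xb16 yb38 zb20) (kb xb27 yb44 zb45) (kb xb26 yb35 zb10) (kb xb19 yb28 zb21) (kb xb30 yb52 zb54) (kb xb26 yb35 zb24) (kb xb16 yb38 zb9) (kb xb26 yb28 zb3) (kb xb32 yb12 zb4) (kb xb31 yb27 zb30)) (@D3.rec (fun _ => Pt) (kb xb29 yb46 zb3) (kb xb32 yb12 zb10) (kb xb30 yb28 zb18) (kb xb28 yb54 zb58) (kb xb20 yb39 zb16) (kb xb16 yb38 zb13) (kb xb28 yb39 zb38) (kb xb20 yb39 zb8) (kb xb29 yb12 zb26) (kb xb16 yb38 zb15) (kb xb16 yb38 zb16) (kb xb32 yb12 zb19) (kb xb32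 yb12 zb16) (kb xb26 yb37 zb10) (kb xb16 yb38 zb17) (kb xb29 yb46 zb12) (kb xb32 yb12 zb21) (kb xb16 yb38 zb18) (kb xb32 yb12 zb24) (kb xb26 yb36 zb53) (kb xb32 yb12 zb28) (kb xb22 yb1 zb44) (kb xb16 yb38 zb19) (kb xb29 yb33 zb10) (kb xb32 yb12 zb31) (kb xb32 yb11 zb61) (kb xb26 yb41 zb7) (kb xb31 yb21 zb46) (kb xb16 yb38 zb23) (kb xb31 yb21 zb50) (kb xb32 yb12 zb40) (kb xb20 yb39 zb43) (kb xb26 yb40 zb52) (kb xb20 yb39 zb46) (kb xb16 yb38 zb26) (kb xb32 yb12 zb41) (kb xb27 yb19 zb8) (kb xb16 yb38 zb28) (kb xb32 yb12 zb44) (kb xb26 yb56 zb47) (kb xb32 yb11 zb32) (kb xb19 yb8 zb28) (kb xb16 yb38 zb30) (kb xb16 yb38 zb31) (kb xb32 yb12 zb45) (kb xb30 yb51 zb17) (kb xb19 yb7 zb47) (kb xb16 yb38 zb33) (kb xb19 yb8 zb27) (kb xb16 yb38 zb38) (kb xb19 yb11 zb20) (kb xb16 yb38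 zb42) (kb xb31 yb49 zb31) (kb xb26 yb36 zb19) (kb xb16 yb38 zb45) (kb xb26 yb44 zb32) (kb xb26 yb46 zb10) (kb xb32 yb10 zb31) (kb xb32 yb12 zb50) (kb xb26 yb35 zb40) (kb xb27 yb21 zb35) (kb xb27 yb0 zb9)) (@D3.rec (fun _ => Pt) (kb xb20 yb39 zb15) (kb xb32 yb4 zb46) (kb xb29 yb44 zb56) (kb xb16 yb38 zb49) (kb xb24 yb58 zb16) (kb xb20 yb55 zb59) (kb xb31 yb52 zb47) (kb xb31 yb24 zb27) (kb xb31 yb59 zb8) (kb xb20 yb56 zb11) (kb xb26 yb36 zb13) (kb xb16 yb38 zb58) (kb xb16 yb38 zb59) (kb xb16 yb38 zb52) (kb xb29 yb27 zb36) (kb xb26 yb37 zb27) (kb xb26 yb38 zb8) (kb xb32 yb12 zb54) (kb xb16 yb40 zb20) (kb xb20 yb3 zb21) (kb xb16 yb39 zb6) (kb xb25 yb43 zb27) (kb xb22 yb23 zb8) (kb xb16 yb38 zb57) (kb xb30 yb14 zb41) (kb xb19 yb40 zb46) (kb xb30 yb17 zb25) (kb xb26 yb37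 zb15) (kb xb16 yb39 zb2) (kb xb16 yb39 zb3) (kb xb16 yb39 zb4) (kb xb21 yb36 zb42) (kb xb16 yb39 zb5) (kb xb20 yb4 zb58) (kb xb31 yb55 zb23) (kb xb29 yb47 zb11) (kb xb26 yb34 zb0) (kb xb16 yb39 zb10) (kb xb16 yb39 zb11) (kb xb31 yb40 zb61) (kb xb24 yb51 zb17) (kb xb24 yb48 zb60) (kb xb32 yb12 zb59) (kb xb16 yb39 zb16) (kb xb24 yb51 zb54) (kb xb32 yb12 zb61) (kb xb19 yb5 zb9) (kb xb21 yb20 zb60) (kb xb32 yb13 zb1) (kb xb17 yb28 zb43) (kb xb30 yb17 zb31) (kb xb16 yb40 zb17) (kb xb16 yb39 zb30) (kb xb16 yb39 zb29) (kb xb32 yb13 zb5) (kb xb31 yb41 zb45) (kb xb27 yb19 zb15) (kb xb26 yb35 zb11) (kb xb16 yb39 zb35) (kb xb31 yb48 zb5) (kb xb19 yb32 zb50) (kb xb16 yb39 zb40)) (@D3.rec (fun _ => Pt) (kb xb29 yb7 zb28) (kb xb30 yb15 zb58) (kb xb32 yb11 zb47) (kb xb16 yb39 zb42)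 (kb xb27 yb0 zb21) (kb xb31 yb55 zb24) (kb xb30 yb14 zb57) (kb xb32 yb13 zb12) (kb xb26 yb37 zb16) (kb xb31 yb45 zb38) (kb xb16 yb48 zb10) (kb xb16 yb40 zb7) (kb xb26 yb35 zb26) (kb xb19 yb54 zb52) (kb xb19 yb33 zb55) (kb xb25 yb8 zb0) (kb xb16 yb48 zb6) (kb xb29 yb1 zb23) (kb xb26 yb44 zb58) (kb xb27 yb44 zb44) (kb xb16 yb39 zb56) (kb xb25 yb32 zb2) (kb xb32 yb13 zb23) (kb xb31 yb31 zb39) (kb xb16 yb39 zb59) (kb xb16 yb39 zb60) (kb xb30 yb27 zb16) (kb xb32 yb13 zb24) (kb xb32 yb13 zb26) (kb xb22 yb56 zb53) (kb xb16 yb40 zb0) (kb xb30 yb47 zb18) (kb xb19 yb29 zb55) (kb xb26 yb25 zb46) (kb xb28 yb40 zb39) (kb xb22 yb4 zb18) (kb xb26 yb44 zb49) (kb xb16 yb48 zb30) (kb xb31 yb31 zb36) (kb xb29 yb33 zb3) (kb xb31 yb31 zb47) (kb xb25 yb10 zb32) (kb xb25 yb12 zb16) (kb xb28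 yb56 zb42) (kb xb31 yb19 zb5) (kb xb16 yb40 zb16) (kb xb16 yb40 zb10) (kb xb32 yb13 zb32) (kb xb31 yb26 zb0) (kb xb28 yb39 zb16) (kb xb26 yb52 zb20) (kb xb32 yb13 zb35) (kb xb29 yb32 zb60) (kb xb16 yb40 zb25) (kb xb31 yb19 zb3) (kb xb31 yb19 zb4) (kb xb29 yb45 zb2) (kb xb32 yb3 zb34) (kb xb31 yb19 zb7) (kb xb32 yb10 zb34) (kb xb31 yb15 zb0) (kb xb31 yb24 zb57)) (@D3.rec (fun _ => Pt) (kb xb16 yb40 zb19) (kb xb32 yb13 zb28) (kb xb16 yb40 zb22) (kb xb32 yb13 zb44) (kb xb16 yb40 zb23) (kb xb19 yb13 zb32) (kb xb31 yb18 zb60) (kb xb16 yb41 zb35) (kb xb16 yb40 zb27) (kb xb16 yb40 zb28) (kb xb26 yb59 zb23) (kb xb31 yb31 zb41) (kb xb16 yb41 zb14) (kb xb16 yb40 zb32) (kb xb16 yb40 zb31) (kb xb28 yb34 zb59) (kb xb32 yb13 zb50) (kb xb26 yb40 zb43) (kb xb25 yb5 zb16) (kb xb16 yb40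 zb35) (kb xb25 yb35 zb20) (kb xb16 yb46 zb58) (kb xb16 yb46 zb59) (kb xb24 yb13 zb30) (kb xb18 yb44 zb19) (kb xb19 yb43 zb12) (kb xb19 yb15 zb50) (kb xb16 yb40 zb41) (kb xb28 yb58 zb2) (kb xb16 yb40 zb47) (kb xb30 yb29 zb10) (kb xb23 yb49 zb58) (kb xb31 yb24 zb24) (kb xb16 yb41 zb29) (kb xb17 yb51 zb41) (kb xb17 yb51 zb42) (kb xb28 yb46 zb60) (kb xb29 yb46 zb23) (kb xb32 yb10 zb38) (kb xb19 yb17 zb40) (kb xb16 yb40 zb56) (kb xb17 yb49 zb42) (kb xb30 yb14 zb38) (kb xb19 yb4 zb56) (kb xb23 yb13 zb6) (kb xb16 yb41 zb4) (kb xb16 yb40 zb60) (kb xb32 yb13 zb56) (kb xb32 yb13 zb57) (kb xb31 yb29 zb17) (kb xb29 yb46 zb55) (kb xb29 yb26 zb29) (kb xb28 yb40 zb13) (kb xb25 yb6 zb5) (kb xb29 yb52 zb30) (kb xb16 yb41 zb12) (kb xb25 yb8 zb48) (kb xb16 yb41 zb24) (kb xb16 yb41 zb27)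 (kb xb16 yb41 zb21) (kb xb18 yb48 zb38) (kb xb18 yb48 zb39)) (@D3.rec (fun _ => Pt) (kb xb29 yb6 zb30) (kb xb26 yb44 zb28) (kb xb32 yb13 zb58) (kb xb31 yb31 zb56) (kb xb19 yb6 zb13) (kb xb29 yb26 zb25) (kb xb19 yb42 zb32) (kb xb16 yb58 zb24) (kb xb32 yb14 zb1) (kb xb29 yb46 zb29) (kb xb16 yb41 zb37) (kb xb16 yb41 zb38) (kb xb20 yb28 zb7) (kb xb31 yb18 zb61) (kb xb21 yb52 zb41) (kb xb28 yb54 zb16) (kb xb25 yb58 zb23) (kb xb16 yb41 zb41) (kb xb24 yb35 zb36) (kb xb20 yb55 zb44) (kb xb31 yb56 zb39) (kb xb16 yb41 zb44) (kb xb25 yb8 zb49) (kb xb16 yb42 zb2) (kb xb30 yb16 zb27) (kb xb32 yb14 zb7) (kb xb27 yb40 zb47) (kb xb26 yb58 zb32) (kb xb16 yb42 zb8) (kb xb27 yb18 zb56) (kb xb16 yb41 zb48) (kb xb32 yb11 zb35) (kb xb31 yb29 zb13) (kb xb27 yb10 zb51) (kb xb31 yb29 zb55)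 (kb xb24 yb41 zb28) (kb xb25 yb40 zb51) (kb xb20 yb58 zb41) (kb xb20 yb58 zb47) (kb xb16 yb42 zb25) (kb xb29 yb6 zb14) (kb xb26 yb41 zb17) (kb xb16 yb41 zb59) (kb xb26 yb39 zb17) (kb xb32 yb1 zb0) (kb xb32 yb14 zb8) (kb xb32 yb14 zb9) (kb xb17 yb24 zb49) (kb xb32 yb14 zb10) (kb xb22 yb24 zb33) (kb xb22 yb27 zb26) (kb xb18 yb54 zb12) (kb xb26 yb36 zb32) (kb xb28 yb30 zb24) (kb xb20 yb8 zb26) (kb xb22 yb14 zb46) (kb xb22 yb23 zb13) (kb xb29 yb9 zb29) (kb xb29 yb34 zb3) (kb xb16 yb42 zb10) (kb xb29 yb25 zb58) (kb xb25 yb8 zb58)) (@D3.rec (fun _ => Pt) (kb xb16 yb42 zb11) (kb xb28 yb41 zb28) (kb xb18 yb27 zb42) (kb xb19 yb36 zb28) (kb xb32 yb14 zb24) (kb xb32 yb14 zb14) (kb xb29 yb0 zb61) (kb xb26 yb36 zb26) (kb xb16 yb42 zb23) (kb xb30 yb0 zb5) (kb xb16 yb42 zb33) (kb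 xb20 yb58 zb10) (kb xb22 yb5 zb61) (kb xb16 yb42 zb29) (kb xb16 yb42 zb30) (kb xb25 yb41 zb32) (kb xb32 yb14 zb31) (kb xb26 yb40 zb41) (kb xb23 yb59 zb10) (kb xb23 yb49 zb29) (kb xb16 yb42 zb35) (kb xb25 yb12 zb1) (kb xb31 yb40 zb51) (kb xb16 yb42 zb39) (kb xb16 yb42 zb40) (kb xb19 yb56 zb48) (kb xb32 yb12 zb51) (kb xb32 yb13 zb18) (kb xb32 yb14 zb34) (kb xb16 yb42 zb41) (kb xb16 yb42 zb44) (kb xb19 yb36 zb31) (kb xb19 yb36 zb32) (kb xb32 yb0 zb16) (kb xb30 yb16 zb35) (kb xb16 yb42 zb52) (kb xb16 yb42 zb50) (kb xb28 yb56 zb43) (kb xb16 yb42 zb51) (kb xb16 yb42 zb53) (kb xb16 yb42 zb54) (kb xb27 yb53 zb23) (kb xb24 yb4 zb20) (kb xb19 yb36 zb17) (kb xb19 yb36 zb18) (kb xb23 yb11 zb30) (kb xb19 yb39 zb18) (kb xb16 yb42 zb59) (kb xb25 yb8 zb45) (kb xb16 yb42 zb61) (kb xb25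 yb7 zb53) (kb xb23 yb9 zb42) (kb xb16 yb43 zb2) (kb xb16 yb43 zb3) (kb xb19 yb36 zb2) (kb xb30 yb4 zb7) (kb xb31 yb35 zb19) (kb xb28 yb36 zb46) (kb xb19 yb37 zb13) (kb xb16 yb43 zb8) (kb xb31 yb37 zb54) (kb xb32 yb14 zb38)) (@D3.rec (fun _ => Pt) (kb xb19 yb37 zb3) (kb xb16 yb43 zb10) (kb xb31 yb37 zb27) (kb xb16 yb43 zb12) (kb xb31 yb23 zb32) (kb xb17 yb20 zb28) (kb xb20 yb49 zb28) (kb xb23 yb34 zb39) (kb xb29 yb9 zb28) (kb xb16 yb43 zb19) (kb xb16 yb43 zb21) (kb xb20 yb2 zb38) (kb xb30 yb54 zb32) (kb xb24 yb5 zb38) (kb xb24 yb5 zb43) (kb xb24 yb14 zb59) (kb xb31 yb24 zb32) (kb xb19 yb27 zb45) (kb xb30 yb9 zb27) (kb xb29 yb45 zb27) (kb xb19 yb32 zb55) (kb xb31 yb35 zb27) (kb xb16 yb43 zb45) (kb xb16 yb43 zb38) (kb xb18 yb55 zb49) (kb xb16 yb43 zb41) (kb xb16 yb43 zb42)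 (kb xb26 yb24 zb24) (kb xb22 yb1 zb59) (kb xb19 yb36 zb35) (kb xb31 yb54 zb41) (kb xb32 yb0 zb15) (kb xb19 yb33 zb46) (kb xb24 yb15 zb15) (kb xb30 yb6 zb21) (kb xb16 yb43 zb54) (kb xb29 yb30 zb28) (kb xb16 yb43 zb60) (kb xb29 yb40 zb10) (kb xb20 yb38 zb46) (kb xb20 yb5 zb20) (kb xb24 yb28 zb39) (kb xb19 yb42 zb59) (kb xb19 yb28 zb6) (kb xb16 yb44 zb5) (kb xb32 yb14 zb43) (kb xb19 yb42 zb61) (kb xb16 yb44 zb6) (kb xb31 yb18 zb14) (kb xb20 yb56 zb4) (kb xb19 yb29 zb25) (kb xb19 yb29 zb26) (kb xb25 yb57 zb14) (kb xb16 yb44 zb12) (kb xb32 yb14 zb50) (kb xb23 yb11 zb26) (kb xb16 yb44 zb14) (kb xb23 yb1 zb28) (kb xb23 yb10 zb34) (kb xb31 yb37 zb16) (kb xb32 yb14 zb49) (kb xb16 yb44 zb13)) (@D3.rec (fun _ => Pt) (kb xb32 yb14 zb58) (kb xb32 yb14 zb60) (kb xb32 yb14 zb61) (kb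 xb16 yb44 zb15) (kb xb28 yb37 zb14) (kb xb16 yb44 zb16) (kb xb19 yb30 zb13) (kb xb31 yb30 zb16) (kb xb32 yb15 zb2) (kb xb16 yb44 zb19) (kb xb23 yb48 zb27) (kb xb27 yb7 zb9) (kb xb16 yb44 zb20) (kb xb19 yb29 zb53) (kb xb32 yb15 zb9) (kb xb22 yb23 zb50) (kb xb16 yb44 zb24) (kb xb16 yb44 zb25) (kb xb32 yb15 zb10) (kb xb16 yb44 zb28) (kb xb17 yb33 zb13) (kb xb20 yb47 zb21) (kb xb32 yb2 zb2) (kb xb19 yb30 zb27) (kb xb16 yb44 zb30) (kb xb24 yb25 zb19) (kb xb32 yb15 zb14) (kb xb24 yb18 zb38) (kb xb30 yb26 zb55) (kb xb16 yb44 zb34) (kb xb23 yb53 zb59) (kb xb31 yb28 zb6) (kb xb32 yb15 zb15) (kb xb32 yb15 zb16) (kb xb27 yb9 zb40) (kb xb27 yb6 zb23) (kb xb16 yb44 zb38) (kb xb24 yb12 zb21) (kb xb16 yb44 zb40) (kb xb16 yb44 zb43) (kb xb21 yb31 zb42) (kb xb23 yb57 zb53) (kb xb18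 yb44 zb28) (kb xb19 yb28 zb44) (kb xb16 yb44 zb50) (kb xb28 yb5 zb53) (kb xb19 yb29 zb32) (kb xb30 yb31 zb32) (kb xb26 yb57 zb59) (kb xb19 yb39 zb1) (kb xb29 yb12 zb1) (kb xb19 yb32 zb56) (kb xb16 yb44 zb60) (kb xb16 yb44 zb61) (kb xb16 yb44 zb58) (kb xb32 yb15 zb22) (kb xb22 yb25 zb3) (kb xb29 yb40 zb33) (kb xb16 yb45 zb0) (kb xb32 yb15 zb24) (kb xb16 yb45 zb3) (kb xb16 yb45 zb7)) (@D3.rec (fun _ => Pt) (kb xb29 yb38 zb31) (kb xb29 yb38 zb32) (kb xb20 yb18 zb54) (kb xb16 yb45 zb9) (kb xb31 yb58 zb56) (kb xb32 yb15 zb26) (kb xb28 yb28 zb54) (kb xb16 yb56 zb10) (kb xb27 yb41 zb21) (kb xb20 yb44 zb39) (kb xb19 yb40 zb11) (kb xb31 yb10 zb5) (kb xb16 yb45 zb17) (kb xb28 yb41 zb48) (kb xb24 yb19 zb25) (kb xb28 yb44 zb42) (kb xb25 yb13 zb11) (kb xb16 yb45 zb27) (kb xb16 yb45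 zb28) (kb xb32 yb15 zb30) (kb xb28 yb19 zb15) (kb xb16 yb45 zb32) (kb xb31 yb48 zb45) (kb xb25 yb10 zb34) (kb xb25 yb5 zb10) (kb xb16 yb45 zb49) (kb xb16 yb45 zb38) (kb xb17 yb36 zb5) (kb xb26 yb40 zb1) (kb xb31 yb27 zb3) (kb xb16 yb45 zb43) (kb xb27 yb44 zb46) (kb xb26 yb36 zb55) (kb xb16 yb45 zb46) (kb xb19 yb1 zb4) (kb xb16 yb45 zb47) (kb xb19 yb37 zb61) (kb xb30 yb9 zb46) (kb xb16 yb45 zb51) (kb xb20 yb3 zb22) (kb xb20 yb3 zb0) (kb xb31 yb59 zb18) (kb xb20 yb50 zb8) (kb xb31 yb45 zb29) (kb xb16 yb45 zb57) (kb xb21 yb57 zb60) (kb xb19 yb34 zb49) (kb xb16 yb46 zb4) (kb xb29 yb14 zb45) (kb xb26 yb38 zb36) (kb xb18 yb5 zb38) (kb xb29 yb22 zb14) (kb xb16 yb46 zb17) (kb xb24 yb50 zb49) (kb xb16 yb46 zb27) (kb xb20 yb12 zb0) (kb xb16 yb46 zb28) (kb xb30 yb49 zb13) (kb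 xb26 yb38 zb18) (kb xb19 yb41 zb24) (kb xb16 yb46 zb31) (kb xb30 yb44 zb16)) (@D3.rec (fun _ => Pt) (kb xb22 yb31 zb5) (kb xb32 yb1 zb14) (kb xb16 yb46 zb37) (kb xb31 yb30 zb13) (kb xb31 yb30 zb61) (kb xb30 yb21 zb5) (kb xb16 yb46 zb40) (kb xb32 yb15 zb37) (kb xb26 yb20 zb37) (kb xb16 yb46 zb44) (kb xb19 yb44 zb35) (kb xb31 yb29 zb48) (kb xb16 yb46 zb45) (kb xb26 yb28 zb34) (kb xb16 yb46 zb47) (kb xb25 yb50 zb47) (kb xb19 yb58 zb20) (kb xb16 yb46 zb51) (kb xb30 yb27 zb52) (kb xb32 yb15 zb41) (kb xb30 yb47 zb14) (kb xb29 yb7 zb49) (kb xb24 yb29 zb12) (kb xb28 yb8 zb42) (kb xb28 yb8 zb48) (kb xb16 yb46 zb56) (kb xb28 yb33 zb42) (kb xb28 yb33 zb37) (kb xb25 yb53 zb12) (kb xb19 yb16 zb4) (kb xb16 yb47 zb0) (kb xb23 yb0 zb7) (kb xb16 yb53 zb31) (kb xb16 yb47 zb2) (kb xb17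 yb24 zb39) (kb xb16 yb47 zb5) (kb xb31 yb28 zb1) (kb xb20 yb26 zb53) (kb xb16 yb47 zb8) (kb xb32 yb15 zb43) (kb xb25 yb52 zb46) (kb xb16 yb47 zb14) (kb xb29 yb0 zb10) (kb xb25 yb11 zb20) (kb xb28 yb12 zb16) (kb xb31 yb47 zb54) (kb xb16 yb47 zb29) (kb xb16 yb47 zb32) (kb xb21 yb35 zb44) (kb xb24 yb36 zb48) (kb xb16 yb53 zb32) (kb xb19 yb49 zb53) (kb xb19 yb21 zb21) (kb xb17 yb51 zb50) (kb xb31 yb6 zb35) (kb xb23 yb14 zb56) (kb xb16 yb47 zb42) (kb xb21 yb51 zb4) (kb xb25 yb1 zb59) (kb xb23 yb45 zb7) (kb xb26 yb8 zb30) (kb xb29 yb59 zb61)) (@D3.rec (fun _ => Pt) (kb xb20 yb15 zb21) (kb xb16 yb47 zb53) (kb xb30 yb2 zb6) (kb xb16 yb47 zb56) (kb xb30 yb37 zb14) (kb xb16 yb47 zb57) (kb xb16 yb47 zb58) (kb xb20 yb12 zb40) (kb xb19 yb14 zb21) (kb xb26 yb5 zb3) (kb xb26 yb36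 zb56) (kb xb27 yb9 zb31) (kb xb16 yb48 zb13) (kb xb16 yb48 zb17) (kb xb32 yb15 zb46) (kb xb16 yb48 zb22) (kb xb16 yb48 zb23) (kb xb19 yb24 zb8) (kb xb32 yb15 zb47) (kb xb29 yb31 zb0) (kb xb17 yb53 zb37) (kb xb16 yb48 zb31) (kb xb32 yb15 zb49) (kb xb28 yb44 zb34) (kb xb32 yb13 zb48) (kb xb20 yb12 zb59) (kb xb18 yb0 zb33) (kb xb20 yb20 zb3) (kb xb20 yb35 zb52) (kb xb17 yb33 zb23) (kb xb26 yb14 zb39) (kb xb17 yb31 zb2) (kb xb30 yb3 zb17) (kb xb25 yb45 zb41) (kb xb16 yb48 zb49) (kb xb28 yb9 zb43) (kb xb29 yb46 zb40) (kb xb16 yb48 zb53) (kb xb18 yb25 zb54) (kb xb26 yb59 zb15) (kb xb19 yb53 zb44) (kb xb31 yb29 zb7) (kb xb17 yb28 zb50) (kb xb19 yb53 zb37) (kb xb31 yb20 zb15) (kb xb21 yb45 zb9) (kb xb19 yb32 zb14) (kb xb16 yb49 zb22) (kb xb29 yb59 zb14) (kb xb32 yb15 zb54)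 (kb xb19 yb37 zb8) (kb xb25 yb9 zb34) (kb xb16 yb49 zb31) (kb xb16 yb49 zb32) (kb xb29 yb12 zb44) (kb xb21 yb48 zb13) (kb xb25 yb9 zb35) (kb xb25 yb6 zb26) (kb xb25 yb37 zb36) (kb xb16 yb58 zb60) (kb xb20 yb5 zb42) (kb xb16 yb49 zb41)) (@D3.rec (fun _ => Pt) (kb xb21 yb18 zb45) (kb xb20 yb5 zb46) (kb xb16 yb49 zb44) (kb xb18 yb22 zb26) (kb xb19 yb47 zb36) (kb xb19 yb55 zb2) (kb xb25 yb38 zb50) (kb xb19 yb47 zb40) (kb xb19 yb55 zb1) (kb xb32 yb15 zb58) (kb xb31 yb3 zb7) (kb xb16 yb50 zb0) (kb xb28 yb13 zb24) (kb xb25 yb44 zb14) (kb xb22 yb44 zb6) (kb xb23 yb29 zb29) (kb xb23 yb29 zb35) (kb xb17 yb38 zb57) (kb xb29 yb3 zb17) (kb xb17 yb3 zb32) (kb xb19 yb54 zb29) (kb xb19 yb54 zb30) (kb xb18 yb3 zb11) (kb xb16 yb50 zb9) (kb xb25 yb38 zb33) (kb xb19 yb58 zb57) (kb xb16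 yb50 zb12) (kb xb16 yb50 zb13) (kb xb31 yb9 zb31) (kb xb32 yb16 zb9) (kb xb32 yb16 zb5) (kb xb31 yb6 zb32) (kb xb16 yb50 zb10) (kb xb31 yb9 zb7) (kb xb21 yb49 zb10) (kb xb30 yb52 zb18) (kb xb16 yb50 zb14) (kb xb22 yb44 zb9) (kb xb28 yb58 zb35) (kb xb24 yb49 zb15) (kb xb19 yb55 zb51) (kb xb19 yb55 zb52) (kb xb31 yb30 zb6) (kb xb16 yb50 zb22) (kb xb23 yb25 zb32) (kb xb23 yb31 zb57) (kb xb31 yb8 zb2) (kb xb30 yb42 zb29) (kb xb30 yb51 zb27) (kb xb29 yb9 zb14) (kb xb16 yb50 zb23) (kb xb19 yb55 zb27) (kb xb19 yb55 zb28) (kb xb24 yb47 zb6) (kb xb25 yb39 zb31) (kb xb16 yb50 zb29) (kb xb16 yb50 zb30) (kb xb28 yb11 zb1) (kb xb23 yb19 zb30) (kb xb30 yb52 zb30) (kb xb23 yb2 zb37) (kb xb30 yb42 zb11)) (@D3.rec (fun _ => Pt) (kb xb26 yb34 zb55) (kb xb23 yb28 zb26) (kb xb16 yb50 zb34)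 (kb xb30 yb40 zb5) (kb xb31 yb34 zb35) (kb xb31 yb29 zb9) (kb xb16 yb50 zb37) (kb xb25 yb39 zb27) (kb xb16 yb50 zb40) (kb xb23 yb25 zb11) (kb xb28 yb28 zb52) (kb xb30 yb33 zb40) (kb xb16 yb50 zb43) (kb xb19 yb5 zb41) (kb xb16 yb50 zb45) (kb xb30 yb14 zb20) (kb xb21 yb33 zb58) (kb xb24 yb20 zb26) (kb xb26 yb5 zb10) (kb xb21 yb28 zb28) (kb xb16 yb50 zb59) (kb xb16 yb50 zb54) (kb xb19 yb10 zb47) (kb xb16 yb50 zb57) (kb xb16 yb50 zb58) (kb xb26 yb3 zb22) (kb xb19 yb55 zb7) (kb xb32 yb16 zb20) (kb xb16 yb50 zb61) (kb xb16 yb51 zb0) (kb xb32 yb16 zb3) (kb xb24 yb34 zb52) (kb xb28 yb11 zb42) (kb xb16 yb51 zb7) (kb xb31 yb31 zb46) (kb xb16 yb51 zb10) (kb xb29 yb15 zb4) (kb xb25 yb11 zb23) (kb xb17 yb42 zb17) (kb xb16 yb51 zb21) (kb xb22 yb30 zb58) (kb xb19 yb25 zb51) (kb xb16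 yb51 zb25) (kb xb16 yb51 zb26) (kb xb25 yb18 zb23) (kb xb21 yb29 zb19) (kb xb29 yb24 zb3) (kb xb30 yb33 zb60) (kb xb22 yb3 zb11) (kb xb16 yb51 zb31) (kb xb16 yb51 zb35) (kb xb18 yb23 zb44) (kb xb17 yb15 zb21) (kb xb24 yb44 zb24) (kb xb16 yb51 zb46) (kb xb29 yb29 zb61) (kb xb25 yb45 zb56) (kb xb16 yb51 zb48) (kb xb25 yb46 zb30) (kb xb17 yb22 zb39) (kb xb32 yb7 zb34) (kb xb20 yb41 zb2)) (@D3.rec (fun _ => Pt) (kb xb26 yb55 zb38) (kb xb16 yb51 zb57) (kb xb20 yb7 zb36) (kb xb22 yb33 zb59) (kb xb20 yb16 zb33) (kb xb23 yb56 zb25) (kb xb28 yb15 zb26) (kb xb29 yb39 zb38) (kb xb16 yb52 zb2) (kb xb22 yb53 zb4) (kb xb30 yb3 zb50) (kb xb20 yb11 zb26) (kb xb24 yb30 zb31) (kb xb28 yb51 zb5) (kb xb23 yb38 zb53) (kb xb20 yb8 zb38) (kb xb22 yb39 zb19) (kb xb16 yb52 zb16) (kb xb30 yb36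 zb21) (kb xb28 yb20 zb61) (kb xb30 yb50 zb2) (kb xb29 yb27 zb5) (kb xb30 yb49 zb4) (kb xb22 yb37 zb38) (kb xb27 yb13 zb32) (kb xb24 yb2 zb3) (kb xb19 yb52 zb25) (kb xb27 yb2 zb8) (kb xb16 yb52 zb22) (kb xb32 yb16 zb35) (kb xb16 yb56 zb20) (kb xb17 yb58 zb9) (kb xb20 yb51 zb5) (kb xb17 yb16 zb23) (kb xb20 yb0 zb15) (kb xb16 yb52 zb37) (kb xb20 yb36 zb59) (kb xb23 yb8 zb15) (kb xb26 yb19 zb56) (kb xb22 yb46 zb44) (kb xb21 yb15 zb26) (kb xb24 yb4 zb48) (kb xb16 yb52 zb50) (kb xb29 yb2 zb35) (kb xb16 yb52 zb52) (kb xb16 yb52 zb53) (kb xb16 yb52 zb59) (kb xb26 yb19 zb33) (kb xb27 yb40 zb17) (kb xb31 yb38 zb46) (kb xb27 yb58 zb36) (kb xb30 yb44 zb12) (kb xb18 yb41 zb19) (kb xb16 yb53 zb4) (kb xb23 yb19 zb46) (kb xb28 yb34 zb58) (kb xb17 yb56 zb44) (kb xb24 yb9 zb28) (kb xb16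 yb53 zb16) (kb xb20 yb31 zb32) (kb xb18 yb49 zb60) (kb xb20 yb12 zb28)) (@D3.rec (fun _ => Pt) (kb xb20 yb40 zb40) (kb xb16 yb53 zb37) (kb xb30 yb37 zb21) (kb xb24 yb11 zb5) (kb xb31 yb40 zb17) (kb xb31 yb55 zb14) (kb xb29 yb36 zb41) (kb xb16 yb53 zb42) (kb xb18 yb39 zb17) (kb xb19 yb43 zb59) (kb xb20 yb9 zb18) (kb xb16 yb53 zb45) (kb xb16 yb53 zb46) (kb xb28 yb21 zb53) (kb xb18 yb48 zb49) (kb xb16 yb53 zb51) (kb xb16 yb53 zb55) (kb xb32 yb16 zb38) (kb xb17 yb10 zb51) (kb xb22 yb40 zb50) (kb xb20 yb13 zb21) (kb xb16 yb54 zb5) (kb xb21 yb35 zb43) (kb xb26 yb23 zb39) (kb xb26 yb22 zb6) (kb xb19 yb51 zb20) (kb xb27 yb5 zb5) (kb xb17 yb24 zb40) (kb xb21 yb43 zb37) (kb xb17 yb9 zb32) (kb xb16 yb54 zb15) (kb xb20 yb16 zb43) (kb xb27 yb8 zb9) (kb xb16 yb54 zb22) (kb xb17 yb21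 zb18) (kb xb29 yb22 zb49) (kb xb29 yb39 zb8) (kb xb20 yb14 zb13) (kb xb16 yb54 zb26) (kb xb23 yb12 zb23) (kb xb16 yb54 zb31) (kb xb27 yb2 zb40) (kb xb17 yb10 zb37) (kb xb20 yb40 zb39) (kb xb16 yb55 zb18) (kb xb16 yb54 zb39) (kb xb16 yb54 zb40) (kb xb17 yb56 zb7) (kb xb29 yb37 zb53) (kb xb25 yb51 zb33) (kb xb22 yb23 zb45) (kb xb16 yb54 zb45) (kb xb16 yb54 zb44) (kb xb16 yb54 zb48) (kb xb32 yb9 zb55) (kb xb32 yb16 zb42) (kb xb22 yb1 zb3) (kb xb16 yb54 zb52) (kb xb30 yb38 zb61) (kb xb29 yb22 zb52) (kb xb19 yb20 zb21) (kb xb16 yb54 zb55)) (@D3.rec (fun _ => Pt) (kb xb16 yb54 zb56) (kb xb32 yb16 zb46) (kb xb27 yb8 zb5) (kb xb20 yb34 zb3) (kb xb27 yb53 zb12) (kb xb20 yb11 zb29) (kb xb16 yb54 zb60) (kb xb19 yb34 zb24) (kb xb19 yb34 zb25) (kb xb19 yb51 zb59) (kb xb31 yb28 zb48)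 (kb xb19 yb52 zb0) (kb xb18 yb46 zb27) (kb xb23 yb59 zb5) (kb xb18 yb12 zb33) (kb xb16 yb55 zb11) (kb xb32 yb1 zb53) (kb xb30 yb27 zb46) (kb xb27 yb12 zb16) (kb xb16 yb56 zb1) (kb xb16 yb55 zb14) (kb xb27 yb22 zb1) (kb xb25 yb40 zb42) (kb xb16 yb55 zb16) (kb xb28 yb21 zb60) (kb xb27 yb7 zb58) (kb xb28 yb34 zb23) (kb xb27 yb11 zb56) (kb xb30 yb5 zb36) (kb xb29 yb37 zb54) (kb xb30 yb36 zb50) (kb xb19 yb43 zb44) (kb xb18 yb44 zb23) (kb xb32 yb16 zb49) (kb xb16 yb55 zb22) (kb xb29 yb40 zb5) (kb xb16 yb55 zb23) (kb xb24 yb1 zb11) (kb xb27 yb10 zb34) (kb xb20 yb52 zb41) (kb xb28 yb30 zb4) (kb xb16 yb55 zb33) (kb xb22 yb23 zb35) (kb xb21 yb15 zb45) (kb xb23 yb45 zb56) (kb xb16 yb55 zb31) (kb xb28 yb39 zb57) (kb xb22 yb37 zb21) (kb xb24 yb13 zb52) (kb xb32 yb13 zb43) (kb xb19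 yb22 zb33) (kb xb16 yb55 zb32) (kb xb32 yb16 zb53) (kb xb19 yb52 zb27) (kb xb16 yb55 zb35) (kb xb24 yb11 zb6) (kb xb30 yb12 zb19) (kb xb16 yb55 zb36) (kb xb30 yb32 zb26) (kb xb24 yb18 zb56) (kb xb22 yb39 zb20) (kb xb23 yb48 zb35)) (@D3.rec (fun _ => Pt) (kb xb16 yb55 zb39) (kb xb20 yb17 zb23) (kb xb16 yb55 zb41) (kb xb27 yb5 zb11) (kb xb20 yb46 zb10) (kb xb16 yb55 zb43) (kb xb16 yb55 zb44) (kb xb24 yb25 zb24) (kb xb17 yb24 zb56) (kb xb32 yb16 zb60) (kb xb28 yb1 zb39) (kb xb28 yb25 zb14) (kb xb21 yb7 zb6) (kb xb16 yb55 zb50) (kb xb22 yb14 zb7) (kb xb24 yb53 zb16) (kb xb30 yb16 zb15) (kb xb29 yb35 zb16) (kb xb30 yb16 zb19) (kb xb29 yb49 zb7) (kb xb26 yb38 zb50) (kb xb29 yb43 zb25) (kb xb16 yb55 zb57) (kb xb16 yb55 zb58) (kb xb16 yb55 zb59) (kb xb32 yb17 zb5) (kb xb31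 yb46 zb59) (kb xb29 yb43 zb23) (kb xb17 yb11 zb19) (kb xb23 yb0 zb16) (kb xb16 yb56 zb0) (kb xb23 yb12 zb18) (kb xb20 yb18 zb47) (kb xb20 yb9 zb37) (kb xb25 yb51 zb51) (kb xb16 yb56 zb8) (kb xb27 yb14 zb27) (kb xb16 yb56 zb9) (kb xb32 yb17 zb13) (kb xb28 yb21 zb55) (kb xb22 yb35 zb50) (kb xb19 yb52 zb10) (kb xb32 yb15 zb28) (kb xb18 yb46 zb53) (kb xb17 yb25 zb0) (kb xb28 yb30 zb20) (kb xb22 yb32 zb55) (kb xb21 yb3 zb2) (kb xb19 yb47 zb51) (kb xb18 yb33 zb54) (kb xb23 yb6 zb55) (kb xb16 yb56 zb25) (kb xb19 yb53 zb2) (kb xb29 yb35 zb4) (kb xb31 yb57 zb56) (kb xb23 yb12 zb30) (kb xb23 yb12 zb31) (kb xb31 yb21 zb53) (kb xb27 yb55 zb56) (kb xb25 yb48 zb21) (kb xb17 yb26 zb57) (kb xb16 yb56 zb46)) (@D3.rec (fun _ => Pt) (kb xb31 yb19 zb55) (kb xb21 yb51 zb40) (kb xb30 yb23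 zb4) (kb xb16 yb56 zb54) (kb xb16 yb56 zb55) (kb xb31 yb25 zb55) (kb xb20 yb37 zb47) (kb xb30 yb33 zb61) (kb xb29 yb54 zb37) (kb xb16 yb56 zb59) (kb xb22 yb57 zb41) (kb xb29 yb29 zb1) (kb xb22 yb46 zb19) (kb xb20 yb25 zb4) (kb xb21 yb28 zb39) (kb xb16 yb57 zb15) (kb xb24 yb55 zb43) (kb xb16 yb57 zb26) (kb xb16 yb57 zb27) (kb xb16 yb57 zb40) (kb xb16 yb57 zb41) (kb xb23 yb48 zb4) (kb xb17 yb31 zb25) (kb xb16 yb57 zb45) (kb xb22 yb11 zb36) (kb xb16 yb57 zb57) (kb xb32 yb17 zb22) (kb xb31 yb48 zb24) (kb xb16 yb58 zb0) (kb xb20 yb41 zb26) (kb xb30 yb37 zb59) (kb xb17 yb18 zb32) (kb xb24 yb1 zb25) (kb xb28 yb51 zb32) (kb xb16 yb58 zb4) (kb xb31 yb51 zb59) (kb xb30 yb0 zb16) (kb xb16 yb58 zb6) (kb xb16 yb58 zb7) (kb xb31 yb24 zb34) (kb xb23 yb43 zb52) (kb xb16 yb58 zb9) (kb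 xb29 yb43 zb32) (kb xb16 yb58 zb13) (kb xb32 yb17 zb31) (kb xb32 yb17 zb1) (kb xb19 yb11 zb54) (kb xb20 yb42 zb60) (kb xb16 yb58 zb17) (kb xb27 yb23 zb47) (kb xb30 yb32 zb14) (kb xb29 yb8 zb34) (kb xb16 yb58 zb19) (kb xb27 yb19 zb27) (kb xb30 yb38 zb45) (kb xb17 yb10 zb50) (kb xb19 yb25 zb5) (kb xb24 yb6 zb61) (kb xb27 yb9 zb44) (kb xb32 yb17 zb38) (kb xb24 yb11 zb2) (kb xb20 yb34 zb16)) (@D3.rec (fun _ => Pt) (kb xb19 yb38 zb0) (kb xb24 yb50 zb57) (kb xb32 yb14 zb0) (kb xb16 yb58 zb31) (kb xb16 yb58 zb28) (kb xb16 yb58 zb29) (kb xb28 yb38 zb38) (kb xb22 yb39 zb29) (kb xb23 yb6 zb56) (kb xb27 yb12 zb19) (kb xb29 yb15 zb22) (kb xb28 yb51 zb48) (kb xb31 yb50 zb39) (kb xb16 yb58 zb36) (kb xb19 yb58 zb6) (kb xb28 yb51 zb50) (kb xb29 yb13 zb37) (kb xb24 yb52 zb20) (kb xb31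 yb18 zb12) (kb xb24 yb19 zb49) (kb xb28 yb36 zb56) (kb xb24 yb51 zb46) (kb xb19 yb59 zb30) (kb xb22 yb6 zb10) (kb xb16 yb58 zb45) (kb xb16 yb58 zb46) (kb xb32 yb17 zb44) (kb xb32 yb17 zb45) (kb xb29 yb15 zb10) (kb xb16 yb58 zb49) (kb xb16 yb58 zb50) (kb xb29 yb15 zb7) (kb xb16 yb58 zb52) (kb xb29 yb43 zb31) (kb xb16 yb58 zb54) (kb xb16 yb58 zb55) (kb xb24 yb34 zb3) (kb xb31 yb56 zb58) (kb xb24 yb4 zb31) (kb xb16 yb58 zb57) (kb xb16 yb58 zb58) (kb xb31 yb39 zb38) (kb xb16 yb58 zb59) (kb xb32 yb17 zb60) (kb xb24 yb49 zb57) (kb xb32 yb18 zb3) (kb xb28 yb53 zb52) (kb xb32 yb18 zb4) (kb xb31 yb18 zb9) (kb xb32 yb0 zb57) (kb xb16 yb59 zb2) (kb xb28 yb51 zb31) (kb xb17 yb27 zb46) (kb xb17 yb17 zb8) (kb xb29 yb25 zb44) (kb xb19 yb38 zb60) (kb xb24 yb20 zb9) (kb xb20 yb29 zb13)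 (kb xb29 yb59 zb48) (kb xb16 yb59 zb16) (kb xb31 yb9 zb19) (kb xb16 yb59 zb18)) (@D3.rec (fun _ => Pt) (kb xb16 yb59 zb19) (kb xb21 yb48 zb39) (kb xb29 yb12 zb35) (kb xb20 yb3 zb3) (kb xb30 yb53 zb45) (kb xb25 yb44 zb35) (kb xb21 yb5 zb50) (kb xb18 yb38 zb14) (kb xb16 yb59 zb39) (kb xb20 yb34 zb12) (kb xb28 yb1 zb10) (kb xb18 yb22 zb49) (kb xb20 yb33 zb46) (kb xb21 yb44 zb42) (kb xb21 yb42 zb22) (kb xb20 yb22 zb12) (kb xb20 yb22 zb13) (kb xb17 yb3 zb1) (kb xb17 yb0 zb6) (kb xb19 yb59 zb1) (kb xb20 yb9 zb60) (kb xb19 yb48 zb37) (kb xb24 yb14 zb24) (kb xb21 yb47 zb16) (kb xb30 yb5 zb12) (kb xb30 yb5 zb20) (kb xb31 yb32 zb47) (kb xb18 yb43 zb13) (kb xb22 yb32 zb5) (kb xb27 yb42 zb60) (kb xb27 yb40 zb44) (kb xb20 yb7 zb56) (kb xb27 yb41 zb57) (kb xb30 yb55 zb46) (kb xb24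 yb46 zb34) (kb xb22 yb48 zb35) (kb xb29 yb55 zb34) (kb xb17 yb2 zb9) (kb xb26 yb49 zb0) (kb xb26 yb26 zb39) (kb xb21 yb10 zb35) (kb xb26 yb26 zb41) (kb xb22 yb52 zb45) (kb xb17 yb0 zb43) (kb xb32 yb18 zb9) (kb xb28 yb23 zb13) (kb xb17 yb6 zb57) (kb xb22 yb50 zb49) (kb xb30 yb49 zb9) (kb xb17 yb3 zb45) (kb xb17 yb0 zb49) (kb xb32 yb11 zb51) (kb xb31 yb12 zb28) (kb xb32 yb0 zb32) (kb xb23 yb59 zb48) (kb xb24 yb28 zb32) (kb xb17 yb0 zb54) (kb xb32 yb18 zb12) (kb xb28 yb20 zb28) (kb xb17 yb27 zb17) (kb xb17 yb27 zb18) (kb xb24 yb11 zb7)) (@D3.rec (fun _ => Pt) (kb xb29 yb15 zb1) (kb xb28 yb17 zb60) (kb xb23 yb11 zb32) (kb xb18 yb55 zb26) (kb xb26 yb57 zb43) (kb xb28 yb14 zb11) (kb xb17 yb1 zb1) (kb xb29 yb19 zb3) (kb xb24 yb9 zb15) (kb xb21 yb4 zb10) (kb xb17 yb1 zb4) (kb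 xb17 yb1 zb5) (kb xb21 yb10 zb47) (kb xb17 yb1 zb6) (kb xb19 yb34 zb15) (kb xb27 yb9 zb39) (kb xb18 yb45 zb21) (kb xb29 yb40 zb19) (kb xb17 yb1 zb10) (kb xb32 yb18 zb19) (kb xb32 yb10 zb20) (kb xb29 yb21 zb33) (kb xb26 yb25 zb43) (kb xb17 yb1 zb15) (kb xb17 yb1 zb14) (kb xb21 yb4 zb21) (kb xb26 yb25 zb60) (kb xb17 yb1 zb16) (kb xb32 yb18 zb22) (kb xb30 yb30 zb9) (kb xb17 yb1 zb18) (kb xb32 yb18 zb23) (kb xb17 yb1 zb20) (kb xb31 yb12 zb46) (kb xb32 yb8 zb57) (kb xb26 yb27 zb43) (kb xb21 yb10 zb31) (kb xb18 yb17 zb9) (kb xb24 yb26 zb8) (kb xb20 yb30 zb20) (kb xb27 yb41 zb52) (kb xb31 yb17 zb45) (kb xb21 yb32 zb42) (kb xb20 yb35 zb57) (kb xb17 yb1 zb42) (kb xb31 yb33 zb10) (kb xb29 yb9 zb23) (kb xb26 yb36 zb39) (kb xb29 yb56 zb8) (kb xb24 yb4 zb46) (kb xb17 yb1 zb45) (kb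 xb32 yb18 zb29) (kb xb17 yb1 zb46) (kb xb25 yb56 zb28) (kb xb25 yb58 zb28) (kb xb17 yb1 zb49) (kb xb17 yb1 zb50) (kb xb17 yb32 zb36) (kb xb19 yb12 zb52) (kb xb31 yb19 zb13) (kb xb17 yb1 zb53) (kb xb17 yb1 zb54)) (@D3.rec (fun _ => Pt) (kb xb20 yb47 zb53) (kb xb30 yb31 zb25) (kb xb31 yb55 zb39) (kb xb19 yb15 zb25) (kb xb31 yb28 zb40) (kb xb17 yb1 zb57) (kb xb32 yb18 zb32) (kb xb31 yb39 zb58) (kb xb24 yb19 zb29) (kb xb17 yb1 zb59) (kb xb17 yb1 zb60) (kb xb32 yb18 zb36) (kb xb31 yb21 zb44) (kb xb22 yb23 zb15) (kb xb20 yb48 zb60) (kb xb24 yb26 zb13) (kb xb17 yb2 zb0) (kb xb17 yb2 zb1) (kb xb29 yb32 zb13) (kb xb17 yb2 zb2) (kb xb17 yb2 zb3) (kb xb19 yb22 zb30) (kb xb23 yb47 zb50) (kb xb23 yb24 zb8) (kb xb19 yb13 zb55) (kb xb17 yb2 zb7) (kb xb30 yb38 zb50) (kb xb27 yb40 zb46)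 (kb xb17 yb51 zb30) (kb xb28 yb40 zb19) (kb xb17 yb7 zb11) (kb xb17 yb2 zb20) (kb xb32 yb18 zb41) (kb xb21 yb11 zb40) (kb xb30 yb17 zb7) (kb xb20 yb8 zb47) (kb xb30 yb48 zb56) (kb xb30 yb48 zb55) (kb xb20 yb30 zb59) (kb xb24 yb31 zb36) (kb xb17 yb2 zb40) (kb xb26 yb21 zb46) (kb xb29 yb24 zb1) (kb xb26 yb56 zb4) (kb xb30 yb32 zb54) (kb xb24 yb44 zb5) (kb xb17 yb2 zb58) (kb xb17 yb2 zb57) (kb xb30 yb54 zb38) (kb xb17 yb2 zb60) (kb xb17 yb9 zb61) (kb xb17 yb3 zb4) (kb xb24 yb15 zb21) (kb xb27 yb43 zb3) (kb xb21 yb45 zb33) (kb xb21 yb42 zb31) (kb xb21 yb41 zb53) (kb xb17 yb20 zb22) (kb xb31 yb15 zb50) (kb xb26 yb43 zb48) (kb xb30 yb54 zb13) (kb xb17 yb9 zb51)) (@D3.rec (fun _ => Pt) (kb xb28 yb48 zb36) (kb xb29 yb19 zb12) (kb xb25 yb48 zb4) (kb xb22 yb55 zb51) (kb xb27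 yb41 zb41) (kb xb17 yb3 zb38) (kb xb17 yb3 zb39) (kb xb30 yb45 zb37) (kb xb17 yb3 zb41) (kb xb20 yb7 zb52) (kb xb20 yb9 zb2) (kb xb30 yb36 zb20) (kb xb21 yb12 zb14) (kb xb27 yb58 zb39) (kb xb30 yb44 zb11) (kb xb18 yb47 zb34) (kb xb30 yb43 zb37) (kb xb26 yb30 zb8) (kb xb22 yb37 zb60) (kb xb20 yb38 zb0) (kb xb17 yb3 zb57) (kb xb17 yb3 zb58) (kb xb25 yb31 zb6) (kb xb26 yb4 zb12) (kb xb17 yb4 zb0) (kb xb30 yb11 zb6) (kb xb27 yb35 zb36) (kb xb17 yb4 zb2) (kb xb20 yb38 zb40) (kb xb21 yb59 zb53) (kb xb22 yb21 zb14) (kb xb17 yb4 zb9) (kb xb26 yb40 zb27) (kb xb25 yb38 zb15) (kb xb30 yb14 zb10) (kb xb24 yb32 zb5) (kb xb27 yb37 zb36) (kb xb32 yb10 zb33) (kb xb17 yb4 zb28) (kb xb27 yb12 zb27) (kb xb20 yb37 zb44) (kb xb17 yb4 zb23) (kb xb27 yb36 zb56) (kb xb20 yb56 zb14) (kb xb19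 yb10 zb58) (kb xb18 yb1 zb30) (kb xb31 yb50 zb12) (kb xb21 yb55 zb12) (kb xb29 yb45 zb3) (kb xb20 yb41 zb16) (kb xb20 yb35 zb25) (kb xb29 yb21 zb23) (kb xb27 yb9 zb29) (kb xb17 yb15 zb54) (kb xb21 yb48 zb6) (kb xb28 yb57 zb59) (kb xb26 yb22 zb34) (kb xb25 yb4 zb11) (kb xb21 yb57 zb41) (kb xb25 yb20 zb9) (kb xb27 yb22 zb15) (kb xb17 yb49 zb19)) (@D3.rec (fun _ => Pt) (kb xb17 yb5 zb0) (kb xb21 yb26 zb38) (kb xb21 yb32 zb12) (kb xb25 yb36 zb54) (kb xb18 yb15 zb35) (kb xb20 yb25 zb7) (kb xb21 yb21 zb4) (kb xb21 yb35 zb30) (kb xb24 yb53 zb35) (kb xb21 yb43 zb45) (kb xb27 yb43 zb47) (kb xb17 yb5 zb29) (kb xb21 yb43 zb49) (kb xb29 yb3 zb61) (kb xb17 yb5 zb34) (kb xb26 yb46 zb39) (kb xb20 yb16 zb16) (kb xb21 yb7 zb20) (kb xb20 yb17 zb58) (kb xb21 yb35 zb33) (kb xb24 yb19 zb5)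 (kb xb29 yb39 zb5) (kb xb21 yb22 zb43) (kb xb26 yb39 zb10) (kb xb32 yb12 zb53) (kb xb28 yb53 zb57) (kb xb31 yb31 zb51) (kb xb21 yb53 zb7) (kb xb17 yb6 zb4) (kb xb17 yb24 zb51) (kb xb17 yb6 zb1) (kb xb29 yb43 zb59) (kb xb24 yb16 zb39) (kb xb32 yb18 zb51) (kb xb17 yb6 zb3) (kb xb32 yb13 zb21) (kb xb21 yb54 zb16) (kb xb27 yb43 zb4) (kb xb22 yb5 zb21) (kb xb31 yb19 zb2) (kb xb20 yb16 zb39) (kb xb17 yb6 zb23) (kb xb17 yb6 zb25) (kb xb31 yb45 zb60) (kb xb20 yb24 zb44) (kb xb20 yb38 zb36) (kb xb29 yb37 zb50) (kb xb29 yb19 zb44) (kb xb17 yb6 zb33) (kb xb30 yb29 zb57) (kb xb27 yb5 zb9) (kb xb27 yb5 zb10) (kb xb18 yb48 zb59) (kb xb17 yb6 zb37) (kb xb18 yb0 zb25) (kb xb31 yb55 zb22) (kb xb17 yb6 zb46) (kb xb17 yb6 zb45) (kb xb17 yb6 zb49) (kb xb17 yb6 zb50) (kb xb30 yb26 zb2)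 (kb xb22 yb20 zb44))
def f_b_27 : D2 → D3 → Pt := @D2.rec (fun _ => D3 → Pt) (@D3.rec (fun _ => Pt) (kb xb29 yb23 zb59) (kb xb29 yb53 zb18) (kb xb30 yb32 zb56) (kb xb17 yb6 zb54) (kb xb17 yb6 zb55) (kb xb31 yb47 zb36) (kb xb29 yb47 zb34) (kb xb20 yb58 zb49) (kb xb17 yb28 zb29) (kb xb26 yb36 zb61) (kb xb29 yb44 zb21) (kb xb32 yb15 zb33) (kb xb29 yb44 zb27) (kb xb17 yb6 zb61) (kb xb17 yb7 zb0) (kb xb28 yb24 zb17) (kb xb32 yb14 zb27) (kb xb32 yb14 zb32) (kb xb30 yb16 zb10) (kb xb30 yb16 zb9) (kb xb32 yb1 zb49) (kb xb26 yb38 zb4) (kb xb32 yb11 zb33) (kb xb20 yb57 zb8) (kb xb17 yb7 zb6) (kb xb17 yb7 zb7) (kb xb32 yb19 zb5) (kb xb32 yb11 zb42) (kb xb28 yb40 zb21) (kb xb24 yb14 zb35) (kb xb17 yb7 zb9) (kb xb26 yb35 zb49) (kb xb32 yb12 zb17) (kb xb28 yb40 zb26) (kb xb30 yb16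 zb26) (kb xb32 yb19 zb15) (kb xb17 yb7 zb16) (kb xb17 yb7 zb13) (kb xb17 yb7 zb14) (kb xb32 yb19 zb16) (kb xb17 yb7 zb15) (kb xb29 yb33 zb33) (kb xb30 yb15 zb27) (kb xb30 yb15 zb54) (kb xb17 yb59 zb56) (kb xb17 yb7 zb28) (kb xb19 yb39 zb58) (kb xb17 yb7 zb30) (kb xb23 yb42 zb44) (kb xb22 yb12 zb3) (kb xb21 yb50 zb45) (kb xb22 yb32 zb25) (kb xb20 yb46 zb27) (kb xb20 yb45 zb6) (kb xb29 yb29 zb27) (kb xb20 yb30 zb56) (kb xb26 yb25 zb50) (kb xb20 yb54 zb12) (kb xb24 yb2 zb28) (kb xb20 yb5 zb25) (kb xb17 yb8 zb15) (kb xb32 yb7 zb2)) (@D3.rec (fun _ => Pt) (kb xb28 yb50 zb55) (kb xb31 yb34 zb8) (kb xb31 yb57 zb24) (kb xb24 yb37 zb9) (kb xb17 yb8 zb42) (kb xb20 yb53 zb38) (kb xb17 yb8 zb54) (kb xb30 yb40 zb0) (kb xb18 yb2 zb20) (kb xb29 yb26 zb57) (kb xb17 yb8 zb60) (kb xb22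 yb24 zb41) (kb xb18 yb0 zb28) (kb xb24 yb18 zb1) (kb xb20 yb14 zb0) (kb xb17 yb9 zb10) (kb xb23 yb25 zb10) (kb xb26 yb26 zb29) (kb xb23 yb48 zb31) (kb xb17 yb9 zb19) (kb xb28 yb31 zb60) (kb xb17 yb9 zb20) (kb xb17 yb9 zb21) (kb xb30 yb31 zb42) (kb xb26 yb8 zb24) (kb xb17 yb22 zb60) (kb xb17 yb9 zb29) (kb xb22 yb4 zb36) (kb xb20 yb16 zb0) (kb xb17 yb12 zb16) (kb xb23 yb47 zb32) (kb xb18 yb35 zb58) (kb xb17 yb9 zb60) (kb xb20 yb5 zb12) (kb xb25 yb43 zb0) (kb xb17 yb10 zb13) (kb xb17 yb10 zb14) (kb xb29 yb5 zb0) (kb xb17 yb10 zb15) (kb xb31 yb42 zb44) (kb xb29 yb57 zb40) (kb xb25 yb42 zb0) (kb xb21 yb33 zb42) (kb xb31 yb1 zb45) (kb xb29 yb55 zb61) (kb xb29 yb58 zb13) (kb xb32 yb1 zb26) (kb xb27 yb18 zb18) (kb xb32 yb2 zb52) (kb xb29 yb57 zb17) (kb xb27 yb17 zb50) (kb xb25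 yb59 zb1) (kb xb27 yb23 zb27) (kb xb17 yb10 zb29) (kb xb17 yb10 zb28) (kb xb25 yb13 zb41) (kb xb24 yb12 zb30) (kb xb17 yb11 zb14) (kb xb17 yb10 zb36) (kb xb30 yb18 zb50) (kb xb17 yb10 zb43) (kb xb28 yb14 zb8)) (@D3.rec (fun _ => Pt) (kb xb17 yb11 zb42) (kb xb17 yb10 zb40) (kb xb24 yb38 zb56) (kb xb24 yb6 zb14) (kb xb17 yb11 zb50) (kb xb17 yb10 zb42) (kb xb28 yb38 zb9) (kb xb30 yb23 zb53) (kb xb26 yb49 zb27) (kb xb20 yb41 zb19) (kb xb29 yb8 zb11) (kb xb23 yb48 zb43) (kb xb27 yb8 zb60) (kb xb30 yb22 zb32) (kb xb31 yb22 zb42) (kb xb17 yb10 zb54) (kb xb17 yb10 zb56) (kb xb32 yb19 zb32) (kb xb23 yb57 zb56) (kb xb21 yb57 zb25) (kb xb17 yb11 zb2) (kb xb31 yb52 zb27) (kb xb20 yb47 zb19) (kb xb32 yb19 zb35) (kb xb23 yb47 zb13) (kb xb24 yb2 zb10) (kb xb17 yb11 zb9) (kb xb17 yb11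 zb10) (kb xb17 yb11 zb12) (kb xb29 yb1 zb30) (kb xb23 yb8 zb3) (kb xb22 yb10 zb0) (kb xb30 yb36 zb23) (kb xb27 yb42 zb24) (kb xb17 yb11 zb40) (kb xb20 yb1 zb26) (kb xb30 yb18 zb48) (kb xb17 yb11 zb30) (kb xb19 yb50 zb52) (kb xb26 yb11 zb11) (kb xb26 yb50 zb41) (kb xb29 yb25 zb34) (kb xb25 yb4 zb42) (kb xb17 yb11 zb38) (kb xb23 yb18 zb57) (kb xb20 yb33 zb14) (kb xb24 yb10 zb32) (kb xb20 yb33 zb39) (kb xb29 yb38 zb53) (kb xb17 yb11 zb46) (kb xb20 yb33 zb41) (kb xb32 yb19 zb37) (kb xb17 yb11 zb47) (kb xb17 yb11 zb48) (kb xb17 yb11 zb45) (kb xb25 yb34 zb13) (kb xb24 yb9 zb18) (kb xb32 yb19 zb36) (kb xb21 yb35 zb45) (kb xb17 yb11 zb56) (kb xb17 yb11 zb55) (kb xb31 yb55 zb20)) (@D3.rec (fun _ => Pt) (kb xb32 yb19 zb39) (kb xb32 yb19 zb40) (kb xb17 yb11 zb57) (kb xb32 yb19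 zb43) (kb xb29 yb37 zb40) (kb xb17 yb11 zb60) (kb xb32 yb17 zb11) (kb xb28 yb33 zb34) (kb xb32 yb19 zb44) (kb xb29 yb30 zb35) (kb xb17 yb53 zb52) (kb xb27 yb14 zb2) (kb xb18 yb15 zb42) (kb xb17 yb12 zb5) (kb xb17 yb12 zb6) (kb xb17 yb12 zb9) (kb xb31 yb12 zb25) (kb xb17 yb12 zb14) (kb xb27 yb54 zb54) (kb xb17 yb12 zb18) (kb xb17 yb12 zb22) (kb xb17 yb12 zb21) (kb xb17 yb12 zb24) (kb xb17 yb12 zb26) (kb xb17 yb59 zb42) (kb xb21 yb15 zb24) (kb xb17 yb12 zb35) (kb xb17 yb12 zb39) (kb xb17 yb12 zb42) (kb xb28 yb55 zb54) (kb xb26 yb26 zb23) (kb xb23 yb19 zb33) (kb xb22 yb46 zb39) (kb xb25 yb46 zb24) (kb xb29 yb22 zb11) (kb xb29 yb30 zb12) (kb xb17 yb12 zb51) (kb xb17 yb20 zb27) (kb xb18 yb36 zb15) (kb xb17 yb13 zb1) (kb xb29 yb51 zb47) (kb xb17 yb13 zb12) (kb xb21 yb7 zb24)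 (kb xb21 yb47 zb15) (kb xb17 yb13 zb21) (kb xb26 yb12 zb40) (kb xb17 yb13 zb28) (kb xb24 yb42 zb3) (kb xb21 yb18 zb22) (kb xb17 yb13 zb30) (kb xb31 yb37 zb29) (kb xb17 yb13 zb31) (kb xb30 yb20 zb6) (kb xb17 yb13 zb35) (kb xb30 yb7 zb55) (kb xb27 yb17 zb61) (kb xb17 yb35 zb18) (kb xb17 yb13 zb39) (kb xb18 yb8 zb20) (kb xb25 yb9 zb56) (kb xb17 yb13 zb42) (kb xb27 yb27 zb59)) (@D3.rec (fun _ => Pt) (kb xb17 yb13 zb44) (kb xb30 yb14 zb33) (kb xb18 yb1 zb12) (kb xb18 yb57 zb23) (kb xb17 yb13 zb49) (kb xb30 yb8 zb60) (kb xb25 yb40 zb53) (kb xb25 yb32 zb48) (kb xb17 yb13 zb52) (kb xb24 yb42 zb50) (kb xb17 yb13 zb54) (kb xb30 yb8 zb11) (kb xb17 yb13 zb58) (kb xb25 yb54 zb20) (kb xb19 yb42 zb41) (kb xb21 yb23 zb57) (kb xb29 yb23 zb29) (kb xb17 yb14 zb4) (kb xb25 yb44 zb21) (kb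 xb18 yb26 zb18) (kb xb17 yb14 zb2) (kb xb21 yb23 zb54) (kb xb21 yb4 zb45) (kb xb21 yb20 zb2) (kb xb17 yb37 zb20) (kb xb23 yb2 zb52) (kb xb24 yb40 zb52) (kb xb17 yb14 zb16) (kb xb17 yb14 zb14) (kb xb32 yb19 zb49) (kb xb17 yb14 zb15) (kb xb30 yb0 zb40) (kb xb32 yb19 zb48) (kb xb30 yb0 zb21) (kb xb17 yb14 zb19) (kb xb31 yb57 zb12) (kb xb31 yb7 zb57) (kb xb32 yb2 zb58) (kb xb28 yb4 zb0) (kb xb31 yb10 zb28) (kb xb23 yb13 zb39) (kb xb28 yb3 zb59) (kb xb17 yb14 zb21) (kb xb19 yb48 zb24) (kb xb18 yb22 zb57) (kb xb31 yb50 zb3) (kb xb18 yb10 zb8) (kb xb17 yb14 zb36) (kb xb28 yb2 zb58) (kb xb23 yb50 zb24) (kb xb20 yb34 zb33) (kb xb25 yb22 zb59) (kb xb29 yb51 zb5) (kb xb17 yb14 zb45) (kb xb25 yb22 zb51) (kb xb21 yb27 zb11) (kb xb27 yb24 zb36) (kb xb23 yb27 zb35) (kb xb17 yb14 zb48)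 (kb xb19 yb26 zb50) (kb xb17 yb14 zb51) (kb xb31 yb27 zb56)) (@D3.rec (fun _ => Pt) (kb xb28 yb52 zb53) (kb xb23 yb41 zb18) (kb xb17 yb14 zb50) (kb xb28 yb37 zb4) (kb xb17 yb14 zb59) (kb xb26 yb50 zb26) (kb xb24 yb29 zb58) (kb xb30 yb52 zb56) (kb xb20 yb47 zb31) (kb xb26 yb59 zb50) (kb xb26 yb59 zb51) (kb xb26 yb52 zb3) (kb xb27 yb8 zb37) (kb xb17 yb15 zb10) (kb xb29 yb3 zb2) (kb xb20 yb44 zb19) (kb xb20 yb1 zb20) (kb xb22 yb32 zb33) (kb xb17 yb15 zb14) (kb xb21 yb7 zb59) (kb xb17 yb15 zb16) (kb xb19 yb47 zb49) (kb xb24 yb21 zb60) (kb xb26 yb29 zb35) (kb xb29 yb30 zb59) (kb xb22 yb52 zb3) (kb xb24 yb47 zb23) (kb xb20 yb6 zb23) (kb xb18 yb59 zb48) (kb xb19 yb0 zb29) (kb xb22 yb55 zb13) (kb xb28 yb13 zb58) (kb xb21 yb12 zb58) (kb xb18 yb43 zb1) (kb xb30 yb59 zb3) (kb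 xb26 yb7 zb32) (kb xb30 yb1 zb8) (kb xb21 yb38 zb10) (kb xb26 yb18 zb40) (kb xb28 yb15 zb14) (kb xb18 yb19 zb47) (kb xb31 yb14 zb18) (kb xb24 yb28 zb1) (kb xb17 yb15 zb61) (kb xb17 yb16 zb4) (kb xb27 yb45 zb24) (kb xb26 yb12 zb17) (kb xb29 yb17 zb24) (kb xb17 yb16 zb6) (kb xb26 yb16 zb59) (kb xb23 yb22 zb9) (kb xb17 yb44 zb49) (kb xb23 yb23 zb37) (kb xb21 yb49 zb3) (kb xb21 yb33 zb7) (kb xb17 yb30 zb51) (kb xb17 yb16 zb18) (kb xb18 yb0 zb55) (kb xb24 yb18 zb0) (kb xb24 yb27 zb49) (kb xb29 yb39 zb12) (kb xb18 yb44 zb53)) (@D3.rec (fun _ => Pt) (kb xb30 yb40 zb2) (kb xb29 yb29 zb41) (kb xb22 yb36 zb7) (kb xb26 yb4 zb15) (kb xb21 yb31 zb34) (kb xb17 yb16 zb31) (kb xb28 yb25 zb44) (kb xb17 yb16 zb44) (kb xb17 yb16 zb45) (kb xb28 yb5 zb19) (kb xb20 yb45 zb13) (kb xb17 yb16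 zb48) (kb xb17 yb16 zb49) (kb xb17 yb16 zb50) (kb xb25 yb57 zb6) (kb xb32 yb20 zb1) (kb xb21 yb39 zb28) (kb xb17 yb16 zb54) (kb xb17 yb59 zb4) (kb xb17 yb16 zb56) (kb xb27 yb13 zb21) (kb xb17 yb16 zb57) (kb xb32 yb20 zb3) (kb xb26 yb43 zb35) (kb xb17 yb26 zb12) (kb xb17 yb16 zb61) (kb xb30 yb23 zb33) (kb xb31 yb16 zb15) (kb xb31 yb14 zb16) (kb xb30 yb23 zb35) (kb xb17 yb17 zb29) (kb xb17 yb17 zb5) (kb xb17 yb17 zb10) (kb xb29 yb7 zb55) (kb xb20 yb26 zb55) (kb xb20 yb26 zb56) (kb xb20 yb26 zb58) (kb xb17 yb17 zb15) (kb xb31 yb47 zb38) (kb xb25 yb56 zb54) (kb xb21 yb40 zb3) (kb xb17 yb17 zb18) (kb xb29 yb1 zb61) (kb xb23 yb52 zb48) (kb xb28 yb16 zb35) (kb xb22 yb30 zb2) (kb xb32 yb20 zb15) (kb xb23 yb52 zb50) (kb xb32 yb20 zb18) (kb xb17 yb17 zb24) (kb xb30 yb21 zb52)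 (kb xb32 yb20 zb20) (kb xb31 yb13 zb14) (kb xb32 yb20 zb21) (kb xb30 yb30 zb23) (kb xb17 yb18 zb44) (kb xb17 yb17 zb30) (kb xb27 yb8 zb59) (kb xb23 yb51 zb33) (kb xb22 yb41 zb32) (kb xb17 yb17 zb34) (kb xb17 yb17 zb33)) (@D3.rec (fun _ => Pt) (kb xb28 yb16 zb47) (kb xb30 yb21 zb49) (kb xb18 yb59 zb29) (kb xb32 yb20 zb26) (kb xb22 yb35 zb26) (kb xb17 yb17 zb37) (kb xb32 yb19 zb25) (kb xb17 yb17 zb38) (kb xb32 yb20 zb35) (kb xb26 yb43 zb11) (kb xb30 yb21 zb51) (kb xb30 yb5 zb5) (kb xb17 yb17 zb40) (kb xb27 yb59 zb8) (kb xb17 yb17 zb41) (kb xb22 yb13 zb36) (kb xb32 yb17 zb35) (kb xb31 yb15 zb2) (kb xb20 yb39 zb50) (kb xb20 yb39 zb51) (kb xb30 yb32 zb17) (kb xb24 yb18 zb40) (kb xb32 yb20 zb46) (kb xb17 yb17 zb47) (kb xb30 yb6 zb61) (kb xb17 yb17 zb46) (kb xb32 yb20 zb53)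 (kb xb32 yb20 zb50) (kb xb21 yb22 zb11) (kb xb30 yb35 zb9) (kb xb31 yb12 zb50) (kb xb20 yb24 zb5) (kb xb32 yb20 zb59) (kb xb19 yb13 zb2) (kb xb32 yb11 zb10) (kb xb17 yb17 zb57) (kb xb20 yb57 zb54) (kb xb17 yb17 zb59) (kb xb17 yb17 zb60) (kb xb17 yb27 zb34) (kb xb17 yb18 zb0) (kb xb25 yb26 zb21) (kb xb29 yb46 zb24) (kb xb30 yb56 zb31) (kb xb17 yb18 zb1) (kb xb28 yb42 zb40) (kb xb31 yb53 zb2) (kb xb17 yb18 zb2) (kb xb21 yb6 zb6) (kb xb32 yb21 zb4) (kb xb18 yb43 zb59) (kb xb17 yb28 zb12) (kb xb31 yb27 zb47) (kb xb31 yb54 zb36) (kb xb21 yb17 zb37) (kb xb17 yb18 zb5) (kb xb29 yb5 zb31) (kb xb31 yb20 zb30) (kb xb26 yb51 zb25) (kb xb24 yb19 zb53) (kb xb29 yb30 zb19) (kb xb22 yb29 zb51)) (@D3.rec (fun _ => Pt) (kb xb31 yb22 zb32) (kb xb23 yb58 zb9) (kb xb30 yb45 zb3) (kb xb18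 yb56 zb25) (kb xb17 yb18 zb17) (kb xb26 yb51 zb2) (kb xb17 yb18 zb22) (kb xb28 yb42 zb58) (kb xb24 yb4 zb17) (kb xb26 yb50 zb32) (kb xb28 yb42 zb32) (kb xb26 yb35 zb48) (kb xb17 yb18 zb28) (kb xb17 yb18 zb31) (kb xb31 yb20 zb7) (kb xb31 yb51 zb53) (kb xb20 yb21 zb44) (kb xb23 yb48 zb32) (kb xb31 yb20 zb10) (kb xb27 yb59 zb7) (kb xb17 yb18 zb60) (kb xb27 yb16 zb43) (kb xb31 yb21 zb36) (kb xb22 yb50 zb12) (kb xb29 yb38 zb27) (kb xb30 yb22 zb3) (kb xb31 yb19 zb59) (kb xb17 yb18 zb42) (kb xb32 yb16 zb54) (kb xb30 yb38 zb29) (kb xb30 yb21 zb45) (kb xb31 yb20 zb0) (kb xb22 yb13 zb23) (kb xb31 yb15 zb20) (kb xb17 yb18 zb46) (kb xb17 yb18 zb47) (kb xb30 yb30 zb24) (kb xb27 yb5 zb12) (kb xb30 yb17 zb36) (kb xb30 yb39 zb1) (kb xb17 yb18 zb51) (kb xb32 yb2 zb22) (kb xb31 yb22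 zb35) (kb xb17 yb18 zb53) (kb xb32 yb16 zb41) (kb xb32 yb9 zb56) (kb xb27 yb15 zb20) (kb xb17 yb18 zb55) (kb xb32 yb20 zb27) (kb xb19 yb51 zb38) (kb xb17 yb18 zb57) (kb xb32 yb14 zb54) (kb xb32 yb14 zb53) (kb xb32 yb21 zb27) (kb xb32 yb21 zb28) (kb xb28 yb52 zb5) (kb xb17 yb18 zb59) (kb xb29 yb48 zb19) (kb xb30 yb19 zb9) (kb xb27 yb6 zb57) (kb xb27 yb2 zb12) (kb xb32 yb19 zb30)) (@D3.rec (fun _ => Pt) (kb xb28 yb0 zb40) (kb xb22 yb38 zb35) (kb xb29 yb6 zb5) (kb xb17 yb19 zb16) (kb xb17 yb21 zb50) (kb xb20 yb45 zb23) (kb xb23 yb49 zb39) (kb xb22 yb34 zb58) (kb xb17 yb19 zb25) (kb xb17 yb19 zb26) (kb xb17 yb22 zb15) (kb xb20 yb46 zb33) (kb xb29 yb55 zb54) (kb xb23 yb34 zb34) (kb xb21 yb52 zb26) (kb xb29 yb41 zb1) (kb xb30 yb36 zb33) (kb xb29 yb41 zb3) (kb xb17 yb19 zb39)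 (kb xb21 yb22 zb14) (kb xb17 yb23 zb22) (kb xb17 yb59 zb19) (kb xb17 yb23 zb30) (kb xb19 yb18 zb14) (kb xb20 yb25 zb32) (kb xb17 yb23 zb34) (kb xb17 yb23 zb35) (kb xb25 yb2 zb10) (kb xb17 yb23 zb37) (kb xb26 yb58 zb52) (kb xb20 yb25 zb23) (kb xb26 yb46 zb11) (kb xb29 yb2 zb56) (kb xb17 yb19 zb59) (kb xb28 yb32 zb35) (kb xb24 yb12 zb60) (kb xb23 yb10 zb22) (kb xb17 yb20 zb16) (kb xb22 yb10 zb42) (kb xb26 yb56 zb15) (kb xb26 yb43 zb34) (kb xb20 yb12 zb39) (kb xb23 yb9 zb15) (kb xb29 yb27 zb41) (kb xb26 yb53 zb58) (kb xb17 yb20 zb6) (kb xb23 yb58 zb6) (kb xb30 yb49 zb28) (kb xb21 yb10 zb42) (kb xb29 yb29 zb4) (kb xb17 yb20 zb8) (kb xb29 yb29 zb18) (kb xb24 yb25 zb25) (kb xb31 yb16 zb55) (kb xb17 yb20 zb13) (kb xb32 yb2 zb8) (kb xb23 yb10 zb41) (kb xb17 yb20 zb15) (kb xb31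 yb34 zb49) (kb xb20 yb24 zb21) (kb xb31 yb16 zb18) (kb xb17 yb20 zb20)) (@D3.rec (fun _ => Pt) (kb xb17 yb20 zb19) (kb xb17 yb20 zb21) (kb xb32 yb21 zb38) (kb xb32 yb18 zb44) (kb xb31 yb19 zb15) (kb xb18 yb56 zb18) (kb xb23 yb54 zb41) (kb xb17 yb20 zb25) (kb xb17 yb20 zb24) (kb xb30 yb43 zb17) (kb xb28 yb32 zb27) (kb xb28 yb49 zb56) (kb xb29 yb28 zb12) (kb xb17 yb26 zb14) (kb xb17 yb20 zb31) (kb xb17 yb26 zb56) (kb xb17 yb20 zb35) (kb xb17 yb20 zb36) (kb xb24 yb7 zb41) (kb xb30 yb35 zb6) (kb xb21 yb10 zb5) (kb xb17 yb20 zb40) (kb xb21 yb59 zb38) (kb xb17 yb20 zb42) (kb xb17 yb20 zb44) (kb xb31 yb33 zb14) (kb xb17 yb20 zb46) (kb xb17 yb20 zb47) (kb xb30 yb17 zb28) (kb xb20 yb45 zb14) (kb xb28 yb25 zb1) (kb xb20 yb34 zb23) (kb xb17 yb20 zb52) (kb xb20 yb23 zb44) (kb xb26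 yb51 zb38) (kb xb20 yb48 zb45) (kb xb32 yb19 zb46) (kb xb29 yb52 zb33) (kb xb30 yb11 zb3) (kb xb29 yb54 zb27) (kb xb21 yb52 zb13) (kb xb21 yb43 zb53) (kb xb17 yb21 zb6) (kb xb17 yb21 zb7) (kb xb32 yb21 zb43) (kb xb17 yb21 zb10) (kb xb17 yb21 zb11) (kb xb24 yb4 zb27) (kb xb19 yb41 zb21) (kb xb19 yb32 zb32) (kb xb20 yb31 zb55) (kb xb26 yb40 zb33) (kb xb25 yb41 zb21) (kb xb32 yb8 zb21) (kb xb24 yb14 zb20) (kb xb17 yb21 zb28) (kb xb30 yb17 zb30) (kb xb20 yb39 zb28) (kb xb17 yb21 zb32) (kb xb17 yb21 zb33) (kb xb17 yb21 zb34) (kb xb21 yb58 zb57)) (@D3.rec (fun _ => Pt) (kb xb25 yb56 zb33) (kb xb25 yb28 zb20) (kb xb21 yb8 zb19) (kb xb21 yb18 zb3) (kb xb21 yb46 zb34) (kb xb17 yb21 zb40) (kb xb30 yb11 zb5) (kb xb24 yb43 zb26) (kb xb25 yb58 zb19) (kb xb27 yb23 zb35) (kb xb32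 yb21 zb44) (kb xb27 yb11 zb54) (kb xb17 yb21 zb54) (kb xb24 yb7 zb5) (kb xb23 yb50 zb58) (kb xb17 yb21 zb60) (kb xb17 yb21 zb61) (kb xb17 yb50 zb37) (kb xb30 yb29 zb61) (kb xb17 yb22 zb2) (kb xb31 yb46 zb27) (kb xb30 yb8 zb41) (kb xb22 yb2 zb37) (kb xb30 yb16 zb47) (kb xb28 yb57 zb41) (kb xb17 yb22 zb8) (kb xb17 yb22 zb9) (kb xb32 yb21 zb46) (kb xb21 yb33 zb5) (kb xb24 yb35 zb59) (kb xb17 yb22 zb11) (kb xb22 yb8 zb11) (kb xb21 yb7 zb3) (kb xb17 yb37 zb11) (kb xb28 yb57 zb52) (kb xb17 yb22 zb14) (kb xb21 yb45 zb39) (kb xb21 yb36 zb58) (kb xb22 yb3 zb24) (kb xb18 yb1 zb52) (kb xb29 yb28 zb51) (kb xb30 yb11 zb45) (kb xb24 yb10 zb31) (kb xb31 yb33 zb3) (kb xb20 yb48 zb8) (kb xb22 yb16 zb46) (kb xb26 yb23 zb30) (kb xb29 yb0 zb58) (kb xb21 yb0 zb34) (kb xb20 yb47 zb3) (kb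 xb24 yb51 zb1) (kb xb28 yb13 zb4) (kb xb19 yb46 zb58) (kb xb19 yb43 zb43) (kb xb27 yb11 zb11) (kb xb23 yb42 zb30) (kb xb26 yb51 zb27) (kb xb17 yb22 zb43) (kb xb20 yb54 zb23) (kb xb17 yb58 zb16) (kb xb24 yb10 zb5) (kb xb32 yb21 zb52)) (@D3.rec (fun _ => Pt) (kb xb30 yb27 zb28) (kb xb24 yb10 zb59) (kb xb17 yb22 zb47) (kb xb26 yb9 zb51) (kb xb28 yb30 zb42) (kb xb31 yb41 zb15) (kb xb29 yb50 zb17) (kb xb19 yb38 zb35) (kb xb24 yb50 zb23) (kb xb24 yb48 zb40) (kb xb17 yb22 zb53) (kb xb24 yb12 zb59) (kb xb17 yb22 zb59) (kb xb27 yb38 zb4) (kb xb18 yb17 zb49) (kb xb24 yb26 zb9) (kb xb26 yb51 zb18) (kb xb17 yb23 zb3) (kb xb22 yb38 zb5) (kb xb26 yb54 zb9) (kb xb18 yb19 zb50) (kb xb18 yb4 zb37) (kb xb20 yb48 zb2) (kb xb18 yb11 zb42) (kb xb17 yb23 zb12) (kb xb18 yb4 zb15) (kb xb27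 yb22 zb3) (kb xb26 yb58 zb39) (kb xb27 yb46 zb24) (kb xb28 yb16 zb61) (kb xb26 yb20 zb51) (kb xb28 yb21 zb39) (kb xb21 yb13 zb53) (kb xb21 yb13 zb56) (kb xb28 yb57 zb7) (kb xb26 yb17 zb57) (kb xb17 yb23 zb36) (kb xb32 yb21 zb58) (kb xb25 yb2 zb9) (kb xb21 yb2 zb53) (kb xb29 yb45 zb44) (kb xb17 yb24 zb26) (kb xb17 yb24 zb27) (kb xb32 yb19 zb61) (kb xb17 yb24 zb29) (kb xb32 yb21 zb60) (kb xb20 yb49 zb8) (kb xb17 yb23 zb48) (kb xb20 yb25 zb35) (kb xb21 yb9 zb39) (kb xb31 yb29 zb2) (kb xb23 yb28 zb54) (kb xb17 yb23 zb51) (kb xb18 yb36 zb19) (kb xb17 yb23 zb50) (kb xb17 yb24 zb58) (kb xb25 yb28 zb42) (kb xb19 yb8 zb29) (kb xb21 yb56 zb23) (kb xb17 yb23 zb55) (kb xb25 yb36 zb15) (kb xb17 yb23 zb57)) (@D3.rec (fun _ => Pt) (kb xb23 yb14 zb47) (kb xb17 yb23 zb58) (kb xb31 yb54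 zb54) (kb xb32 yb22 zb3) (kb xb17 yb25 zb18) (kb xb17 yb24 zb5) (kb xb17 yb24 zb6) (kb xb23 yb10 zb26) (kb xb31 yb29 zb53) (kb xb32 yb18 zb43) (kb xb29 yb55 zb5) (kb xb30 yb39 zb42) (kb xb30 yb48 zb12) (kb xb22 yb9 zb22) (kb xb31 yb53 zb51) (kb xb30 yb6 zb51) (kb xb29 yb28 zb40) (kb xb17 yb24 zb15) (kb xb17 yb24 zb16) (kb xb29 yb30 zb52) (kb xb17 yb25 zb58) (kb xb27 yb6 zb20) (kb xb30 yb6 zb49) (kb xb32 yb22 zb7) (kb xb29 yb28 zb36) (kb xb24 yb2 zb8) (kb xb17 yb29 zb59) (kb xb17 yb54 zb56) (kb xb32 yb18 zb13) (kb xb19 yb52 zb22) (kb xb17 yb24 zb31) (kb xb23 yb48 zb23) (kb xb26 yb49 zb24) (kb xb31 yb52 zb15) (kb xb28 yb52 zb0) (kb xb31 yb43 zb19) (kb xb22 yb59 zb57) (kb xb17 yb24 zb28) (kb xb26 yb6 zb4) (kb xb32 yb9 zb9) (kb xb32 yb20 zb41) (kb xb32 yb22 zb12) (kb xb17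 yb24 zb30) (kb xb17 yb24 zb34) (kb xb19 yb18 zb10) (kb xb17 yb24 zb38) (kb xb31 yb24 zb15) (kb xb22 yb38 zb25) (kb xb30 yb29 zb56) (kb xb20 yb13 zb55) (kb xb24 yb25 zb16) (kb xb32 yb16 zb48) (kb xb32 yb12 zb11) (kb xb17 yb24 zb50) (kb xb20 yb55 zb11) (kb xb24 yb25 zb11) (kb xb21 yb37 zb38) (kb xb29 yb46 zb8) (kb xb22 yb27 zb23) (kb xb23 yb51 zb12) (kb xb17 yb24 zb48) (kb xb32 yb22 zb14)) (@D3.rec (fun _ => Pt) (kb xb32 yb18 zb28) (kb xb32 yb22 zb17) (kb xb27 yb3 zb11) (kb xb29 yb43 zb27) (kb xb32 yb10 zb53) (kb xb26 yb26 zb47) (kb xb28 yb18 zb4) (kb xb30 yb17 zb6) (kb xb17 yb24 zb60) (kb xb19 yb51 zb10) (kb xb30 yb16 zb11) (kb xb32 yb16 zb61) (kb xb17 yb24 zb57) (kb xb32 yb22 zb21) (kb xb25 yb14 zb18) (kb xb17 yb24 zb59) (kb xb30 yb16 zb54) (kb xb30 yb46 zb21) (kb xb25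 yb19 zb52) (kb xb19 yb14 zb16) (kb xb28 yb32 zb34) (kb xb30 yb37 zb22) (kb xb31 yb16 zb48) (kb xb17 yb25 zb4) (kb xb31 yb46 zb41) (kb xb32 yb22 zb27) (kb xb29 yb37 zb22) (kb xb26 yb52 zb36) (kb xb31 yb32 zb7) (kb xb17 yb25 zb11) (kb xb17 yb25 zb12) (kb xb28 yb38 zb8) (kb xb23 yb8 zb51) (kb xb31 yb34 zb50) (kb xb17 yb25 zb17) (kb xb29 yb46 zb43) (kb xb25 yb50 zb39) (kb xb20 yb47 zb58) (kb xb29 yb34 zb9) (kb xb20 yb57 zb13) (kb xb29 yb21 zb30) (kb xb23 yb55 zb20) (kb xb17 yb25 zb24) (kb xb32 yb11 zb40) (kb xb19 yb32 zb8) (kb xb19 yb13 zb4) (kb xb17 yb26 zb36) (kb xb32 yb11 zb12) (kb xb17 yb25 zb26) (kb xb29 yb46 zb56) (kb xb28 yb35 zb42) (kb xb28 yb35 zb43) (kb xb17 yb25 zb29) (kb xb24 yb5 zb39) (kb xb19 yb27 zb13) (kb xb28 yb53 zb41) (kb xb17 yb25 zb37) (kb xb17 yb25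 zb38) (kb xb30 yb48 zb23) (kb xb25 yb56 zb38) (kb xb17 yb25 zb39) (kb xb24 yb13 zb31)) (@D3.rec (fun _ => Pt) (kb xb28 yb20 zb17) (kb xb18 yb23 zb9) (kb xb28 yb3 zb41) (kb xb28 yb20 zb1) (kb xb17 yb25 zb45) (kb xb30 yb33 zb7) (kb xb31 yb25 zb8) (kb xb31 yb17 zb50) (kb xb17 yb25 zb52) (kb xb17 yb25 zb53) (kb xb25 yb43 zb37) (kb xb28 yb34 zb13) (kb xb17 yb25 zb49) (kb xb31 yb36 zb2) (kb xb32 yb22 zb25) (kb xb32 yb22 zb37) (kb xb25 yb56 zb40) (kb xb20 yb43 zb9) (kb xb17 yb25 zb51) (kb xb32 yb22 zb40) (kb xb27 yb8 zb46) (kb xb32 yb22 zb35) (kb xb23 yb10 zb31) (kb xb28 yb35 zb56) (kb xb17 yb25 zb61) (kb xb17 yb25 zb57) (kb xb17 yb25 zb60) (kb xb18 yb51 zb56) (kb xb23 yb18 zb54) (kb xb18 yb55 zb1) (kb xb17 yb26 zb1) (kb xb29 yb52 zb28) (kb xb32 yb22 zb8) (kb xb23 yb10 zb28)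 (kb xb17 yb26 zb4) (kb xb32 yb22 zb9) (kb xb27 yb58 zb61) (kb xb32 yb22 zb47) (kb xb24 yb15 zb10) (kb xb17 yb26 zb6) (kb xb24 yb16 zb47) (kb xb28 yb34 zb7) (kb xb17 yb35 zb47) (kb xb32 yb22 zb49) (kb xb29 yb30 zb37) (kb xb30 yb48 zb16) (kb xb23 yb8 zb28) (kb xb28 yb23 zb18) (kb xb22 yb6 zb32) (kb xb17 yb26 zb13) (kb xb30 yb43 zb19) (kb xb24 yb38 zb61) (kb xb30 yb43 zb40) (kb xb30 yb18 zb47) (kb xb28 yb24 zb51) (kb xb31 yb16 zb13) (kb xb17 yb26 zb17) (kb xb17 yb26 zb18) (kb xb25 yb6 zb18) (kb xb31 yb35 zb34) (kb xb17 yb26 zb19) (kb xb30 yb53 zb9)) (@D3.rec (fun _ => Pt) (kb xb30 yb48 zb47) (kb xb32 yb12 zb29) (kb xb17 yb26 zb21) (kb xb20 yb48 zb10) (kb xb30 yb15 zb22) (kb xb32 yb22 zb61) (kb xb17 yb26 zb27) (kb xb17 yb26 zb28) (kb xb17 yb26 zb24) (kb xb17 yb26 zb26)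 (kb xb29 yb48 zb61) (kb xb31 yb34 zb56) (kb xb29 yb34 zb27) (kb xb20 yb48 zb7) (kb xb29 yb55 zb44) (kb xb32 yb23 zb3) (kb xb17 yb26 zb32) (kb xb17 yb26 zb31) (kb xb25 yb8 zb16) (kb xb32 yb18 zb61) (kb xb17 yb26 zb35) (kb xb17 yb26 zb34) (kb xb19 yb32 zb20) (kb xb26 yb35 zb34) (kb xb30 yb29 zb19) (kb xb30 yb49 zb12) (kb xb31 yb47 zb32) (kb xb30 yb28 zb14) (kb xb17 yb26 zb37) (kb xb32 yb11 zb7) (kb xb32 yb23 zb8) (kb xb19 yb31 zb57) (kb xb26 yb34 zb8) (kb xb32 yb21 zb0) (kb xb29 yb46 zb31) (kb xb17 yb26 zb43) (kb xb17 yb26 zb47) (kb xb28 yb22 zb57) (kb xb31 yb33 zb37) (kb xb17 yb26 zb49) (kb xb17 yb26 zb50) (kb xb29 yb50 zb23) (kb xb29 yb54 zb51) (kb xb27 yb8 zb21) (kb xb17 yb26 zb59) (kb xb29 yb16 zb8) (kb xb28 yb24 zb30) (kb xb28 yb59 zb14) (kb xb17 yb27 zb5) (kb xb17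 yb27 zb6) (kb xb30 yb5 zb59) (kb xb17 yb27 zb3) (kb xb32 yb23 zb21) (kb xb32 yb23 zb20) (kb xb23 yb4 zb27) (kb xb17 yb27 zb4) (kb xb25 yb49 zb14) (kb xb30 yb32 zb33) (kb xb28 yb17 zb32) (kb xb28 yb36 zb8) (kb xb21 yb53 zb10) (kb xb17 yb27 zb8)) (@D3.rec (fun _ => Pt) (kb xb19 yb46 zb31) (kb xb29 yb48 zb48) (kb xb22 yb1 zb50) (kb xb31 yb20 zb44) (kb xb17 yb27 zb12) (kb xb17 yb27 zb13) (kb xb32 yb23 zb25) (kb xb20 yb48 zb48) (kb xb23 yb49 zb12) (kb xb17 yb27 zb16) (kb xb32 yb18 zb25) (kb xb24 yb1 zb17) (kb xb31 yb24 zb30) (kb xb31 yb33 zb44) (kb xb23 yb24 zb12) (kb xb22 yb2 zb12) (kb xb17 yb27 zb20) (kb xb17 yb27 zb21) (kb xb31 yb37 zb36) (kb xb30 yb3 zb53) (kb xb17 yb27 zb24) (kb xb29 yb50 zb13) (kb xb29 yb4 zb34) (kb xb31 yb13 zb20) (kb xb30 yb19 zb33) (kb xb17 yb27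 zb27) (kb xb31 yb55 zb56) (kb xb31 yb46 zb28) (kb xb28 yb58 zb23) (kb xb25 yb49 zb46) (kb xb30 yb3 zb52) (kb xb29 yb0 zb35) (kb xb25 yb44 zb25) (kb xb17 yb27 zb33) (kb xb28 yb58 zb25) (kb xb28 yb40 zb40) (kb xb17 yb27 zb39) (kb xb17 yb27 zb38) (kb xb32 yb13 zb61) (kb xb24 yb39 zb59) (kb xb30 yb20 zb14) (kb xb17 yb27 zb41) (kb xb32 yb23 zb34) (kb xb17 yb27 zb42) (kb xb32 yb23 zb35) (kb xb30 yb4 zb30) (kb xb17 yb36 zb19) (kb xb17 yb27 zb43) (kb xb21 yb25 zb6) (kb xb31 yb3 zb56) (kb xb27 yb1 zb50) (kb xb17 yb27 zb47) (kb xb21 yb31 zb40) (kb xb25 yb59 zb4) (kb xb27 yb23 zb33) (kb xb29 yb56 zb33) (kb xb29 yb4 zb33) (kb xb29 yb57 zb12) (kb xb23 yb28 zb7) (kb xb17 yb27 zb52) (kb xb25 yb31 zb3) (kb xb27 yb3 zb55)) (@D3.rec (fun _ => Pt) (kb xb29 yb56 zb39) (kb xb27 yb18 zb10)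 (kb xb17 yb27 zb57) (kb xb30 yb40 zb45) (kb xb17 yb27 zb59) (kb xb32 yb23 zb43) (kb xb29 yb56 zb47) (kb xb25 yb57 zb23) (kb xb25 yb30 zb11) (kb xb25 yb7 zb38) (kb xb27 yb18 zb1) (kb xb17 yb28 zb1) (kb xb25 yb13 zb19) (kb xb17 yb28 zb2) (kb xb31 yb55 zb4) (kb xb29 yb56 zb42) (kb xb32 yb23 zb45) (kb xb25 yb27 zb5) (kb xb27 yb1 zb47) (kb xb17 yb28 zb6) (kb xb31 yb49 zb5) (kb xb17 yb28 zb11) (kb xb31 yb37 zb9) (kb xb24 yb40 zb10) (kb xb32 yb21 zb7) (kb xb30 yb23 zb32) (kb xb17 yb28 zb24) (kb xb29 yb49 zb43) (kb xb31 yb54 zb48) (kb xb25 yb39 zb5) (kb xb31 yb11 zb48) (kb xb17 yb28 zb15) (kb xb30 yb10 zb50) (kb xb18 yb52 zb27) (kb xb17 yb28 zb25) (kb xb29 yb57 zb0) (kb xb22 yb43 zb25) (kb xb31 yb58 zb4) (kb xb30 yb47 zb13) (kb xb31 yb53 zb0) (kb xb30 yb10 zb56) (kb xb21 yb17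 zb34) (kb xb17 yb28 zb22) (kb xb30 yb10 zb0) (kb xb29 yb16 zb39) (kb xb30 yb9 zb50) (kb xb32 yb23 zb56) (kb xb17 yb28 zb23) (kb xb17 yb58 zb53) (kb xb30 yb41 zb59) (kb xb20 yb58 zb59) (kb xb23 yb12 zb39) (kb xb31 yb56 zb25) (kb xb21 yb17 zb9) (kb xb28 yb43 zb1) (kb xb25 yb51 zb12) (kb xb26 yb40 zb29) (kb xb30 yb17 zb22) (kb xb24 yb5 zb47) (kb xb23 yb59 zb38) (kb xb22 yb33 zb5) (kb xb19 yb19 zb16)) (@D3.rec (fun _ => Pt) (kb xb21 yb53 zb9) (kb xb32 yb23 zb61) (kb xb17 yb28 zb41) (kb xb26 yb33 zb18) (kb xb17 yb28 zb40) (kb xb32 yb11 zb41) (kb xb32 yb19 zb6) (kb xb28 yb43 zb36) (kb xb26 yb36 zb36) (kb xb29 yb47 zb37) (kb xb20 yb58 zb60) (kb xb32 yb13 zb3) (kb xb22 yb33 zb32) (kb xb17 yb28 zb47) (kb xb17 yb28 zb46) (kb xb26 yb37 zb56) (kb xb32 yb24 zb2) (kb xb31 yb35 zb25)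 (kb xb19 yb52 zb3) (kb xb28 yb56 zb48) (kb xb17 yb28 zb51) (kb xb17 yb29 zb3) (kb xb17 yb28 zb53) (kb xb31 yb45 zb58) (kb xb20 yb23 zb59) (kb xb17 yb28 zb56) (kb xb31 yb55 zb32) (kb xb26 yb53 zb53) (kb xb28 yb43 zb19) (kb xb31 yb26 zb21) (kb xb17 yb28 zb58) (kb xb17 yb28 zb59) (kb xb25 yb11 zb61) (kb xb17 yb28 zb61) (kb xb17 yb29 zb8) (kb xb17 yb29 zb4) (kb xb32 yb24 zb5) (kb xb21 yb53 zb8) (kb xb25 yb55 zb19) (kb xb21 yb45 zb38) (kb xb17 yb29 zb6) (kb xb29 yb16 zb26) (kb xb25 yb33 zb4) (kb xb28 yb30 zb30) (kb xb32 yb24 zb8) (kb xb25 yb32 zb52) (kb xb26 yb2 zb60) (kb xb19 yb49 zb29) (kb xb29 yb23 zb31) (kb xb25 yb44 zb33) (kb xb24 yb32 zb32) (kb xb17 yb29 zb24) (kb xb28 yb41 zb20) (kb xb17 yb29 zb27) (kb xb30 yb14 zb27) (kb xb25 yb7 zb46) (kb xb19 yb22 zb51) (kb xb21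 yb59 zb17) (kb xb25 yb33 zb33) (kb xb25 yb13 zb18) (kb xb29 yb50 zb37) (kb xb25 yb24 zb32)) (@D3.rec (fun _ => Pt) (kb xb17 yb29 zb40) (kb xb25 yb17 zb11) (kb xb30 yb8 zb32) (kb xb21 yb59 zb42) (kb xb32 yb24 zb9) (kb xb24 yb37 zb5) (kb xb21 yb57 zb20) (kb xb18 yb10 zb26) (kb xb27 yb48 zb34) (kb xb17 yb30 zb29) (kb xb17 yb29 zb57) (kb xb23 yb6 zb26) (kb xb17 yb29 zb60) (kb xb21 yb47 zb7) (kb xb27 yb55 zb39) (kb xb20 yb0 zb54) (kb xb17 yb30 zb4) (kb xb28 yb6 zb35) (kb xb22 yb42 zb24) (kb xb17 yb30 zb8) (kb xb30 yb46 zb1) (kb xb23 yb42 zb28) (kb xb22 yb5 zb48) (kb xb18 yb13 zb59) (kb xb27 yb43 zb6) (kb xb20 yb52 zb19) (kb xb21 yb45 zb45) (kb xb27 yb56 zb13) (kb xb26 yb4 zb34) (kb xb18 yb28 zb44) (kb xb18 yb6 zb20) (kb xb17 yb39 zb49) (kb xb26 yb14 zb12) (kb xb24 yb36 zb8)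 (kb xb17 yb30 zb27) (kb xb17 yb30 zb35) (kb xb17 yb30 zb34) (kb xb27 yb56 zb18) (kb xb30 yb35 zb53) (kb xb23 yb34 zb21) (kb xb31 yb45 zb59) (kb xb31 yb47 zb17) (kb xb17 yb30 zb45) (kb xb20 yb2 zb55) (kb xb28 yb47 zb6) (kb xb17 yb30 zb47) (kb xb24 yb40 zb49) (kb xb27 yb47 zb23) (kb xb27 yb24 zb2) (kb xb31 yb37 zb38) (kb xb31 yb32 zb24) (kb xb21 yb54 zb1) (kb xb20 yb36 zb21) (kb xb27 yb47 zb17) (kb xb26 yb13 zb35) (kb xb17 yb37 zb18) (kb xb20 yb12 zb30) (kb xb19 yb35 zb60) (kb xb17 yb31 zb11) (kb xb29 yb21 zb24) (kb xb28 yb22 zb40) (kb xb30 yb8 zb29)) (@D3.rec (fun _ => Pt) (kb xb30 yb8 zb31) (kb xb24 yb0 zb51) (kb xb29 yb21 zb10) (kb xb19 yb23 zb54) (kb xb28 yb11 zb31) (kb xb19 yb16 zb25) (kb xb17 yb31 zb46) (kb xb18 yb42 zb48) (kb xb17 yb31 zb30) (kb xb24 yb9 zb51)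 (kb xb19 yb19 zb20) (kb xb19 yb48 zb59) (kb xb21 yb29 zb53) (kb xb17 yb31 zb40) (kb xb17 yb31 zb43) (kb xb17 yb31 zb44) (kb xb26 yb27 zb19) (kb xb17 yb31 zb50) (kb xb17 yb31 zb53) (kb xb17 yb31 zb56) (kb xb22 yb11 zb22) (kb xb22 yb48 zb26) (kb xb21 yb2 zb58) (kb xb23 yb53 zb3) (kb xb24 yb7 zb20) (kb xb17 yb32 zb5) (kb xb32 yb24 zb17) (kb xb24 yb13 zb44) (kb xb29 yb47 zb46) (kb xb17 yb32 zb9) (kb xb17 yb32 zb10) (kb xb22 yb55 zb3) (kb xb31 yb38 zb52) (kb xb31 yb45 zb46) (kb xb31 yb45 zb45) (kb xb26 yb36 zb60) (kb xb28 yb15 zb60) (kb xb17 yb32 zb18) (kb xb17 yb32 zb35) (kb xb17 yb32 zb29) (kb xb17 yb32 zb31) (kb xb22 yb6 zb60) (kb xb19 yb22 zb61) (kb xb27 yb58 zb35) (kb xb32 yb23 zb19) (kb xb17 yb32 zb33) (kb xb17 yb32 zb34) (kb xb19 yb40 zb47) (kb xb25 yb11 zb32) (kb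 xb25 yb21 zb10) (kb xb24 yb7 zb57) (kb xb17 yb32 zb45) (kb xb17 yb32 zb46) (kb xb25 yb5 zb49) (kb xb17 yb32 zb56) (kb xb29 yb28 zb39) (kb xb30 yb6 zb45) (kb xb25 yb29 zb36) (kb xb25 yb52 zb60) (kb xb17 yb33 zb4) (kb xb17 yb33 zb7) (kb xb17 yb33 zb8)) (@D3.rec (fun _ => Pt) (kb xb32 yb21 zb54) (kb xb26 yb51 zb21) (kb xb21 yb55 zb13) (kb xb27 yb12 zb26) (kb xb30 yb13 zb22) (kb xb17 yb33 zb25) (kb xb31 yb37 zb21) (kb xb27 yb46 zb42) (kb xb18 yb25 zb32) (kb xb25 yb2 zb31) (kb xb21 yb28 zb12) (kb xb17 yb33 zb28) (kb xb18 yb39 zb31) (kb xb26 yb3 zb24) (kb xb26 yb25 zb34) (kb xb26 yb58 zb60) (kb xb17 yb33 zb41) (kb xb31 yb36 zb30) (kb xb21 yb56 zb8) (kb xb25 yb49 zb42) (kb xb17 yb33 zb48) (kb xb20 yb17 zb10) (kb xb28 yb20 zb42) (kb xb17 yb33 zb52) (kb xb25 yb36 zb24) (kb xb19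 yb4 zb59) (kb xb19 yb8 zb49) (kb xb22 yb5 zb55) (kb xb30 yb5 zb9) (kb xb19 yb10 zb39) (kb xb17 yb33 zb59) (kb xb25 yb25 zb46) (kb xb25 yb25 zb50) (kb xb17 yb33 zb61) (kb xb24 yb25 zb39) (kb xb21 yb9 zb22) (kb xb21 yb32 zb24) (kb xb20 yb14 zb54) (kb xb17 yb34 zb8) (kb xb32 yb24 zb19) (kb xb17 yb34 zb10) (kb xb32 yb24 zb20) (kb xb26 yb26 zb11) (kb xb17 yb34 zb15) (kb xb23 yb12 zb36) (kb xb22 yb33 zb47) (kb xb18 yb3 zb21) (kb xb30 yb18 zb4) (kb xb31 yb40 zb21) (kb xb17 yb34 zb29) (kb xb29 yb35 zb56) (kb xb24 yb51 zb25) (kb xb24 yb51 zb49) (kb xb24 yb51 zb36) (kb xb31 yb50 zb54) (kb xb19 yb42 zb42) (kb xb30 yb17 zb50) (kb xb17 yb34 zb40) (kb xb29 yb41 zb0) (kb xb25 yb44 zb58) (kb xb29 yb0 zb43) (kb xb22 yb6 zb22)) (@D3.rec (fun _ => Pt) (kb xb31 yb1 zb42) (kb xb17 yb34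 zb50) (kb xb19 yb57 zb10) (kb xb20 yb15 zb7) (kb xb17 yb34 zb58) (kb xb31 yb27 zb32) (kb xb17 yb34 zb60) (kb xb22 yb3 zb40) (kb xb29 yb55 zb60) (kb xb17 yb35 zb1) (kb xb32 yb24 zb24) (kb xb27 yb46 zb58) (kb xb29 yb12 zb53) (kb xb17 yb35 zb5) (kb xb28 yb58 zb38) (kb xb27 yb55 zb57) (kb xb21 yb2 zb56) (kb xb22 yb8 zb42) (kb xb30 yb5 zb26) (kb xb27 yb37 zb52) (kb xb19 yb50 zb48) (kb xb27 yb28 zb54) (kb xb27 yb39 zb31) (kb xb25 yb53 zb54) (kb xb17 yb35 zb29) (kb xb31 yb6 zb17) (kb xb25 yb27 zb57) (kb xb27 yb1 zb52) (kb xb29 yb51 zb25) (kb xb29 yb55 zb59) (kb xb17 yb35 zb27) (kb xb17 yb35 zb28) (kb xb32 yb2 zb53) (kb xb27 yb17 zb54) (kb xb25 yb38 zb57) (kb xb27 yb11 zb9) (kb xb21 yb42 zb52) (kb xb31 yb32 zb14) (kb xb17 yb35 zb37) (kb xb31 yb11 zb53) (kb xb32 yb1 zb39) (kb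 xb30 yb12 zb43) (kb xb28 yb23 zb55) (kb xb22 yb41 zb5) (kb xb32 yb24 zb35) (kb xb28 yb12 zb60) (kb xb17 yb35 zb43) (kb xb26 yb53 zb49) (kb xb25 yb47 zb2) (kb xb19 yb28 zb13) (kb xb31 yb27 zb6) (kb xb17 yb35 zb48) (kb xb22 yb26 zb3) (kb xb28 yb32 zb50) (kb xb23 yb1 zb24) (kb xb25 yb1 zb53) (kb xb17 yb35 zb51) (kb xb22 yb35 zb55) (kb xb28 yb17 zb8) (kb xb17 yb43 zb21) (kb xb26 yb3 zb4) (kb xb17 yb35 zb54)) (@D3.rec (fun _ => Pt) (kb xb32 yb15 zb36) (kb xb17 yb35 zb57) (kb xb27 yb20 zb48) (kb xb32 yb24 zb40) (kb xb17 yb35 zb58) (kb xb19 yb50 zb14) (kb xb23 yb10 zb38) (kb xb27 yb55 zb13) (kb xb25 yb7 zb42) (kb xb26 yb13 zb56) (kb xb29 yb37 zb24) (kb xb25 yb49 zb4) (kb xb17 yb36 zb11) (kb xb24 yb7 zb36) (kb xb19 yb2 zb48) (kb xb17 yb36 zb9) (kb xb30 yb23 zb61) (kb xb19 yb9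 zb46) (kb xb25 yb48 zb60) (kb xb25 yb49 zb1) (kb xb32 yb1 zb21) (kb xb32 yb24 zb44) (kb xb18 yb2 zb4) (kb xb17 yb36 zb15) (kb xb19 yb9 zb41) (kb xb25 yb49 zb5) (kb xb17 yb54 zb50) (kb xb27 yb48 zb17) (kb xb30 yb8 zb57) (kb xb29 yb32 zb48) (kb xb17 yb36 zb18) (kb xb31 yb6 zb2) (kb xb21 yb6 zb37) (kb xb30 yb2 zb32) (kb xb24 yb58 zb7) (kb xb25 yb27 zb9) (kb xb27 yb4 zb56) (kb xb17 yb36 zb26) (kb xb17 yb37 zb54) (kb xb17 yb40 zb61) (kb xb26 yb11 zb25) (kb xb32 yb24 zb48) (kb xb17 yb38 zb4) (kb xb25 yb28 zb59) (kb xb25 yb29 zb50) (kb xb25 yb29 zb53) (kb xb17 yb36 zb35) (kb xb17 yb38 zb38) (kb xb17 yb38 zb39) (kb xb17 yb36 zb39) (kb xb26 yb11 zb39) (kb xb30 yb51 zb48) (kb xb17 yb36 zb40) (kb xb24 yb45 zb1) (kb xb17 yb36 zb42) (kb xb27 yb45 zb19) (kb xb17 yb39 zb7) (kb xb17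 yb36 zb47) (kb xb17 yb36 zb49) (kb xb17 yb37 zb0) (kb xb27 yb28 zb47) (kb xb31 yb7 zb8)) (@D3.rec (fun _ => Pt) (kb xb21 yb58 zb40) (kb xb24 yb41 zb4) (kb xb17 yb38 zb52) (kb xb17 yb36 zb54) (kb xb17 yb36 zb57) (kb xb17 yb36 zb58) (kb xb17 yb36 zb56) (kb xb31 yb48 zb19) (kb xb21 yb59 zb12) (kb xb21 yb33 zb53) (kb xb17 yb40 zb39) (kb xb32 yb5 zb24) (kb xb17 yb40 zb34) (kb xb22 yb10 zb35) (kb xb32 yb24 zb53) (kb xb31 yb13 zb5) (kb xb24 yb55 zb40) (kb xb17 yb37 zb3) (kb xb28 yb41 zb43) (kb xb17 yb37 zb4) (kb xb27 yb26 zb19) (kb xb27 yb28 zb40) (kb xb17 yb37 zb7) (kb xb24 yb59 zb4) (kb xb17 yb37 zb8) (kb xb24 yb55 zb23) (kb xb31 yb59 zb37) (kb xb28 yb25 zb7) (kb xb17 yb37 zb14) (kb xb17 yb37 zb16) (kb xb17 yb37 zb17) (kb xb28 yb42 zb61) (kb xb17 yb42 zb54) (kb xb26 yb18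 zb1) (kb xb17 yb37 zb22) (kb xb17 yb53 zb56) (kb xb25 yb45 zb20) (kb xb25 yb39 zb23) (kb xb17 yb37 zb52) (kb xb25 yb29 zb42) (kb xb17 yb37 zb27) (kb xb25 yb39 zb50) (kb xb27 yb27 zb12) (kb xb21 yb49 zb56) (kb xb18 yb4 zb10) (kb xb21 yb22 zb58) (kb xb17 yb37 zb38) (kb xb27 yb27 zb13) (kb xb17 yb37 zb44) (kb xb27 yb27 zb41) (kb xb19 yb15 zb31) (kb xb31 yb32 zb53) (kb xb27 yb52 zb36) (kb xb17 yb37 zb49) (kb xb25 yb31 zb26) (kb xb17 yb37 zb53) (kb xb23 yb22 zb16) (kb xb17 yb44 zb45) (kb xb26 yb18 zb9) (kb xb17 yb44 zb46) (kb xb30 yb58 zb49) (kb xb25 yb28 zb58)) (@D3.rec (fun _ => Pt) (kb xb18 yb4 zb13) (kb xb18 yb7 zb53) (kb xb22 yb46 zb5) (kb xb21 yb25 zb3) (kb xb17 yb37 zb57) (kb xb17 yb41 zb22) (kb xb22 yb27 zb57) (kb xb17 yb41 zb2) (kb xb27 yb28 zb38) (kb xb17 yb38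 zb6) (kb xb17 yb38 zb7) (kb xb25 yb48 zb38) (kb xb25 yb55 zb48) (kb xb23 yb44 zb20) (kb xb27 yb30 zb57) (kb xb26 yb32 zb58) (kb xb17 yb38 zb14) (kb xb17 yb38 zb3) (kb xb25 yb1 zb45) (kb xb27 yb25 zb20) (kb xb32 yb24 zb51) (kb xb17 yb41 zb19) (kb xb17 yb38 zb5) (kb xb32 yb25 zb4) (kb xb18 yb4 zb12) (kb xb17 yb38 zb12) (kb xb17 yb38 zb17) (kb xb17 yb38 zb19) (kb xb21 yb42 zb16) (kb xb23 yb34 zb52) (kb xb17 yb38 zb23) (kb xb29 yb18 zb46) (kb xb17 yb38 zb28) (kb xb31 yb57 zb8) (kb xb27 yb45 zb11) (kb xb17 yb38 zb29) (kb xb25 yb4 zb4) (kb xb30 yb8 zb55) (kb xb21 yb37 zb1) (kb xb25 yb15 zb43) (kb xb17 yb38 zb35) (kb xb17 yb38 zb36) (kb xb31 yb38 zb11) (kb xb32 yb24 zb52) (kb xb21 yb32 zb49) (kb xb17 yb38 zb40) (kb xb24 yb56 zb8) (kb xb17 yb38 zb41) (kb xb25 yb32 zb59) (kb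 xb17 yb38 zb49) (kb xb23 yb38 zb3) (kb xb26 yb17 zb4) (kb xb17 yb38 zb55) (kb xb26 yb11 zb51) (kb xb21 yb42 zb10) (kb xb25 yb40 zb24) (kb xb21 yb36 zb22) (kb xb17 yb38 zb54) (kb xb31 yb8 zb27) (kb xb24 yb55 zb0) (kb xb24 yb55 zb1) (kb xb17 yb38 zb59)) (@D3.rec (fun _ => Pt) (kb xb31 yb55 zb48) (kb xb18 yb4 zb46) (kb xb24 yb55 zb49) (kb xb26 yb11 zb40) (kb xb17 yb39 zb12) (kb xb21 yb33 zb50) (kb xb17 yb39 zb28) (kb xb26 yb11 zb41) (kb xb18 yb27 zb32) (kb xb17 yb39 zb16) (kb xb17 yb40 zb29) (kb xb31 yb44 zb0) (kb xb27 yb25 zb42) (kb xb27 yb25 zb47) (kb xb17 yb39 zb19) (kb xb28 yb41 zb41) (kb xb25 yb28 zb46) (kb xb25 yb45 zb47) (kb xb28 yb40 zb51) (kb xb23 yb37 zb47) (kb xb21 yb10 zb7) (kb xb17 yb39 zb26) (kb xb30 yb6 zb0) (kb xb17 yb39 zb27) (kb xb29 yb59 zb42) (kb xb17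 yb39 zb31) (kb xb21 yb8 zb43) (kb xb25 yb15 zb61) (kb xb26 yb15 zb0) (kb xb31 yb43 zb4) (kb xb27 yb27 zb47) (kb xb17 yb39 zb54) (kb xb17 yb39 zb55) (kb xb17 yb39 zb53) (kb xb21 yb31 zb9) (kb xb28 yb41 zb29) (kb xb27 yb28 zb20) (kb xb17 yb40 zb3) (kb xb21 yb24 zb11) (kb xb28 yb44 zb3) (kb xb28 yb41 zb38) (kb xb27 yb25 zb49) (kb xb17 yb40 zb5) (kb xb30 yb23 zb17) (kb xb17 yb40 zb6) (kb xb26 yb16 zb6) (kb xb24 yb55 zb17) (kb xb27 yb27 zb30) (kb xb21 yb59 zb27) (kb xb31 yb43 zb10) (kb xb24 yb45 zb36) (kb xb17 yb40 zb17) (kb xb32 yb6 zb0) (kb xb25 yb49 zb38) (kb xb17 yb40 zb20) (kb xb26 yb11 zb31) (kb xb27 yb28 zb31) (kb xb23 yb22 zb31) (kb xb28 yb3 zb32) (kb xb27 yb3 zb61) (kb xb17 yb40 zb23) (kb xb27 yb31 zb25)) (@D3.rec (fun _ => Pt) (kb xb31 yb42 zb58) (kb xb17 yb40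 zb25) (kb xb31 yb38 zb61) (kb xb31 yb42 zb60) (kb xb24 yb56 zb21) (kb xb31 yb54 zb40) (kb xb30 yb4 zb24) (kb xb31 yb12 zb1) (kb xb17 yb40 zb41) (kb xb24 yb45 zb24) (kb xb26 yb18 zb39) (kb xb24 yb45 zb38) (kb xb31 yb42 zb57) (kb xb27 yb31 zb27) (kb xb17 yb40 zb40) (kb xb27 yb29 zb56) (kb xb26 yb11 zb43) (kb xb17 yb40 zb46) (kb xb17 yb40 zb47) (kb xb26 yb11 zb61) (kb xb27 yb27 zb36) (kb xb17 yb41 zb29) (kb xb17 yb40 zb52) (kb xb30 yb23 zb14) (kb xb17 yb41 zb12) (kb xb17 yb40 zb57) (kb xb27 yb28 zb57) (kb xb17 yb40 zb58) (kb xb18 yb5 zb1) (kb xb32 yb24 zb28) (kb xb24 yb44 zb35) (kb xb27 yb27 zb56) (kb xb17 yb40 zb60) (kb xb17 yb41 zb34) (kb xb17 yb41 zb32) (kb xb17 yb41 zb5) (kb xb17 yb41 zb6) (kb xb26 yb12 zb11) (kb xb27 yb26 zb8) (kb xb18 yb30 zb16) (kb xb27 yb25 zb21)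 (kb xb32 yb5 zb42) (kb xb17 yb41 zb13) (kb xb17 yb41 zb14) (kb xb18 yb27 zb30) (kb xb30 yb1 zb0) (kb xb30 yb1 zb1) (kb xb27 yb24 zb60) (kb xb17 yb41 zb18) (kb xb28 yb44 zb5) (kb xb31 yb34 zb0) (kb xb24 yb44 zb37) (kb xb26 yb15 zb5) (kb xb17 yb41 zb23) (kb xb27 yb23 zb21) (kb xb28 yb6 zb44) (kb xb31 yb15 zb39) (kb xb27 yb28 zb26) (kb xb24 yb56 zb9) (kb xb32 yb5 zb60) (kb xb24 yb55 zb33) (kb xb24 yb55 zb28)) (@D3.rec (fun _ => Pt) (kb xb17 yb42 zb44) (kb xb17 yb41 zb30) (kb xb17 yb41 zb31) (kb xb27 yb31 zb6) (kb xb26 yb18 zb38) (kb xb17 yb41 zb33) (kb xb22 yb15 zb13) (kb xb27 yb29 zb53) (kb xb28 yb10 zb29) (kb xb32 yb25 zb16) (kb xb27 yb50 zb41) (kb xb17 yb41 zb43) (kb xb17 yb41 zb48) (kb xb23 yb6 zb10) (kb xb25 yb5 zb51) (kb xb25 yb12 zb48) (kb xb32 yb12 zb57) (kb xb17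 yb41 zb55) (kb xb29 yb57 zb58) (kb xb23 yb31 zb7) (kb xb20 yb14 zb55) (kb xb20 yb44 zb56) (kb xb19 yb39 zb35) (kb xb20 yb9 zb48) (kb xb21 yb23 zb58) (kb xb19 yb19 zb35) (kb xb17 yb42 zb6) (kb xb28 yb41 zb51) (kb xb20 yb45 zb3) (kb xb31 yb24 zb39) (kb xb28 yb44 zb45) (kb xb29 yb13 zb3) (kb xb17 yb42 zb12) (kb xb32 yb25 zb17) (kb xb25 yb19 zb42) (kb xb17 yb47 zb17) (kb xb17 yb42 zb25) (kb xb29 yb52 zb1) (kb xb21 yb17 zb54) (kb xb24 yb7 zb8) (kb xb23 yb31 zb55) (kb xb17 yb42 zb32) (kb xb26 yb11 zb0) (kb xb17 yb42 zb34) (kb xb27 yb34 zb28) (kb xb32 yb2 zb41) (kb xb29 yb25 zb16) (kb xb18 yb9 zb49) (kb xb18 yb16 zb7) (kb xb17 yb42 zb38) (kb xb28 yb10 zb1) (kb xb18 yb16 zb5) (kb xb26 yb11 zb46) (kb xb27 yb29 zb7) (kb xb21 yb58 zb35) (kb xb17 yb42 zb50) (kb xb27 yb28 zb15)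 (kb xb22 yb18 zb22) (kb xb32 yb25 zb18) (kb xb17 yb42 zb59) (kb xb17 yb42 zb58) (kb xb31 yb38 zb31)) (@D3.rec (fun _ => Pt) (kb xb31 yb50 zb0) (kb xb28 yb19 zb53) (kb xb17 yb43 zb0) (kb xb26 yb15 zb32) (kb xb27 yb36 zb5) (kb xb24 yb49 zb26) (kb xb20 yb4 zb34) (kb xb20 yb4 zb35) (kb xb20 yb4 zb43) (kb xb20 yb4 zb44) (kb xb17 yb43 zb10) (kb xb24 yb50 zb6) (kb xb24 yb50 zb7) (kb xb25 yb8 zb56) (kb xb29 yb59 zb35) (kb xb32 yb25 zb22) (kb xb17 yb43 zb12) (kb xb29 yb14 zb10) (kb xb18 yb1 zb60) (kb xb30 yb43 zb20) (kb xb17 yb43 zb15) (kb xb17 yb43 zb16) (kb xb32 yb25 zb24) (kb xb17 yb43 zb24) (kb xb29 yb59 zb52) (kb xb23 yb29 zb47) (kb xb23 yb14 zb50) (kb xb21 yb24 zb42) (kb xb20 yb12 zb58) (kb xb22 yb28 zb57) (kb xb21 yb9 zb46) (kb xb26 yb13 zb59) (kb xb21 yb58 zb17) (kb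 xb24 yb44 zb58) (kb xb24 yb18 zb17) (kb xb17 yb43 zb54) (kb xb17 yb43 zb55) (kb xb21 yb37 zb10) (kb xb25 yb10 zb0) (kb xb21 yb7 zb12) (kb xb23 yb34 zb55) (kb xb30 yb4 zb17) (kb xb24 yb45 zb25) (kb xb21 yb58 zb25) (kb xb21 yb26 zb0) (kb xb17 yb43 zb60) (kb xb25 yb46 zb5) (kb xb32 yb25 zb0) (kb xb17 yb44 zb1) (kb xb18 yb56 zb3) (kb xb21 yb34 zb6) (kb xb17 yb44 zb5) (kb xb18 yb6 zb14) (kb xb19 yb14 zb55) (kb xb31 yb44 zb2) (kb xb17 yb44 zb11) (kb xb18 yb29 zb11) (kb xb27 yb26 zb14) (kb xb26 yb13 zb60) (kb xb20 yb4 zb0) (kb xb32 yb3 zb54) (kb xb31 yb14 zb45)) (@D3.rec (fun _ => Pt) (kb xb26 yb14 zb55) (kb xb18 yb4 zb40) (kb xb26 yb21 zb3) (kb xb27 yb45 zb25) (kb xb31 yb14 zb20) (kb xb17 yb44 zb21) (kb xb27 yb29 zb3) (kb xb30 yb35 zb52) (kb xb18 yb28 zb34) (kb xb17 yb44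 zb29) (kb xb17 yb44 zb28) (kb xb21 yb30 zb59) (kb xb23 yb21 zb60) (kb xb24 yb44 zb15) (kb xb26 yb12 zb37) (kb xb20 yb18 zb13) (kb xb24 yb46 zb36) (kb xb22 yb36 zb26) (kb xb17 yb44 zb37) (kb xb17 yb44 zb40) (kb xb31 yb43 zb32) (kb xb31 yb42 zb29) (kb xb30 yb24 zb58) (kb xb27 yb31 zb24) (kb xb27 yb31 zb23) (kb xb27 yb27 zb61) (kb xb30 yb25 zb3) (kb xb27 yb28 zb13) (kb xb27 yb45 zb36) (kb xb24 yb44 zb14) (kb xb18 yb16 zb49) (kb xb19 yb19 zb44) (kb xb17 yb47 zb41) (kb xb17 yb44 zb59) (kb xb17 yb45 zb1) (kb xb17 yb45 zb3) (kb xb29 yb51 zb7) (kb xb17 yb45 zb10) (kb xb26 yb15 zb45) (kb xb25 yb16 zb32) (kb xb17 yb45 zb19) (kb xb24 yb56 zb12) (kb xb18 yb5 zb18) (kb xb17 yb45 zb26) (kb xb17 yb45 zb27) (kb xb17 yb45 zb23) (kb xb31 yb44 zb40) (kb xb32 yb5 zb59) (kb xb26 yb18 zb5)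 (kb xb28 yb41 zb35) (kb xb32 yb25 zb30) (kb xb30 yb1 zb17) (kb xb28 yb21 zb10) (kb xb17 yb45 zb29) (kb xb17 yb45 zb30) (kb xb23 yb23 zb61) (kb xb31 yb44 zb15) (kb xb18 yb26 zb45) (kb xb26 yb11 zb53) (kb xb25 yb46 zb46) (kb xb25 yb0 zb4) (kb xb18 yb13 zb4)) (@D3.rec (fun _ => Pt) (kb xb17 yb45 zb44) (kb xb18 yb4 zb25) (kb xb18 yb51 zb58) (kb xb28 yb25 zb54) (kb xb31 yb44 zb44) (kb xb26 yb13 zb41) (kb xb18 yb45 zb54) (kb xb27 yb49 zb49) (kb xb18 yb9 zb28) (kb xb18 yb9 zb29) (kb xb21 yb13 zb19) (kb xb18 yb21 zb54) (kb xb17 yb46 zb5) (kb xb30 yb31 zb60) (kb xb17 yb45 zb57) (kb xb17 yb45 zb58) (kb xb32 yb25 zb39) (kb xb28 yb22 zb45) (kb xb20 yb21 zb11) (kb xb25 yb3 zb50) (kb xb31 yb44 zb27) (kb xb18 yb47 zb5) (kb xb18 yb13 zb11) (kb xb18 yb13 zb12) (kb xb21 yb12 zb36) (kb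 xb18 yb15 zb55) (kb xb17 yb46 zb4) (kb xb27 yb49 zb5) (kb xb32 yb25 zb50) (kb xb17 yb46 zb7) (kb xb17 yb46 zb8) (kb xb31 yb7 zb45) (kb xb32 yb25 zb47) (kb xb32 yb7 zb33) (kb xb28 yb5 zb39) (kb xb17 yb46 zb6) (kb xb29 yb25 zb5) (kb xb31 yb42 zb53) (kb xb30 yb32 zb1) (kb xb21 yb59 zb55) (kb xb27 yb49 zb56) (kb xb17 yb46 zb9) (kb xb32 yb25 zb55) (kb xb17 yb46 zb11) (kb xb32 yb25 zb56) (kb xb29 yb20 zb6) (kb xb17 yb46 zb13) (kb xb28 yb23 zb8) (kb xb32 yb25 zb57) (kb xb17 yb46 zb14) (kb xb27 yb34 zb47) (kb xb18 yb8 zb53) (kb xb25 yb3 zb34) (kb xb18 yb58 zb8) (kb xb26 yb16 zb43) (kb xb18 yb30 zb49) (kb xb17 yb46 zb18) (kb xb32 yb26 zb1) (kb xb18 yb10 zb59) (kb xb28 yb25 zb45) (kb xb17 yb47 zb36) (kb xb17 yb47 zb35)) (@D3.rec (fun _ => Pt) (kb xb29 yb25 zb9) (kb xb17 yb46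 zb45) (kb xb22 yb15 zb31) (kb xb27 yb54 zb5) (kb xb27 yb35 zb5) (kb xb17 yb46 zb26) (kb xb20 yb11 zb2) (kb xb27 yb49 zb11) (kb xb27 yb34 zb45) (kb xb17 yb46 zb28) (kb xb27 yb34 zb51) (kb xb27 yb35 zb2) (kb xb17 yb46 zb41) (kb xb17 yb47 zb55) (kb xb17 yb46 zb35) (kb xb28 yb21 zb32) (kb xb27 yb34 zb57) (kb xb27 yb51 zb8) (kb xb31 yb56 zb6) (kb xb19 yb2 zb26) (kb xb17 yb46 zb48) (kb xb18 yb30 zb30) (kb xb17 yb46 zb40) (kb xb18 yb13 zb58) (kb xb27 yb54 zb7) (kb xb32 yb26 zb15) (kb xb32 yb26 zb5) (kb xb27 yb54 zb42) (kb xb32 yb26 zb4) (kb xb17 yb46 zb46) (kb xb32 yb26 zb17) (kb xb17 yb46 zb47) (kb xb32 yb26 zb19) (kb xb32 yb26 zb21) (kb xb32 yb6 zb47) (kb xb25 yb40 zb15) (kb xb17 yb46 zb49) (kb xb31 yb7 zb49) (kb xb32 yb26 zb25) (kb xb32 yb26 zb27) (kb xb17 yb46 zb53) (kb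 xb22 yb54 zb14) (kb xb17 yb46 zb57) (kb xb18 yb34 zb8) (kb xb26 yb17 zb51) (kb xb25 yb24 zb7) (kb xb31 yb42 zb45) (kb xb31 yb42 zb43) (kb xb26 yb32 zb5) (kb xb27 yb53 zb47) (kb xb18 yb33 zb6) (kb xb18 yb33 zb7) (kb xb18 yb38 zb46) (kb xb17 yb47 zb4) (kb xb26 yb21 zb43) (kb xb27 yb33 zb61) (kb xb17 yb47 zb15) (kb xb18 yb13 zb24) (kb xb18 yb13 zb23) (kb xb17 yb47 zb5) (kb xb32 yb26 zb33) (kb xb27 yb33 zb55)) (@D3.rec (fun _ => Pt) (kb xb29 yb54 zb14) (kb xb19 yb17 zb32) (kb xb17 yb47 zb8) (kb xb28 yb3 zb34) (kb xb24 yb47 zb56) (kb xb27 yb49 zb57) (kb xb18 yb35 zb19) (kb xb18 yb36 zb0) (kb xb17 yb47 zb14) (kb xb32 yb24 zb56) (kb xb28 yb47 zb16) (kb xb27 yb52 zb28) (kb xb28 yb5 zb40) (kb xb26 yb19 zb29) (kb xb22 yb18 zb9) (kb xb29 yb20 zb9) (kb xb17 yb47 zb16) (kb xb31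 yb15 zb24) (kb xb17 yb47 zb19) (kb xb32 yb26 zb2) (kb xb19 yb22 zb37) (kb xb17 yb47 zb21) (kb xb30 yb24 zb52) (kb xb18 yb35 zb36) (kb xb17 yb47 zb26) (kb xb27 yb54 zb16) (kb xb17 yb47 zb27) (kb xb17 yb47 zb28) (kb xb27 yb29 zb44) (kb xb20 yb21 zb27) (kb xb17 yb47 zb29) (kb xb18 yb55 zb13) (kb xb17 yb47 zb30) (kb xb18 yb5 zb47) (kb xb31 yb45 zb10) (kb xb28 yb3 zb21) (kb xb18 yb53 zb44) (kb xb24 yb45 zb42) (kb xb18 yb11 zb29) (kb xb28 yb6 zb10) (kb xb18 yb33 zb49) (kb xb28 yb25 zb41) (kb xb27 yb34 zb43) (kb xb27 yb34 zb42) (kb xb32 yb3 zb49) (kb xb27 yb33 zb8) (kb xb27 yb54 zb12) (kb xb27 yb32 zb50) (kb xb17 yb47 zb42) (kb xb22 yb18 zb45) (kb xb31 yb7 zb41) (kb xb27 yb33 zb10) (kb xb30 yb31 zb59) (kb xb30 yb44 zb34) (kb xb31 yb45 zb11) (kb xb17 yb47 zb47) (kb xb18 yb48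 zb24) (kb xb27 yb33 zb16) (kb xb18 yb9 zb50) (kb xb18 yb58 zb12) (kb xb30 yb44 zb35) (kb xb28 yb3 zb18)) (@D3.rec (fun _ => Pt) (kb xb27 yb54 zb14) (kb xb17 yb47 zb60) (kb xb27 yb33 zb11) (kb xb17 yb47 zb52) (kb xb18 yb15 zb4) (kb xb27 yb33 zb4) (kb xb28 yb31 zb54) (kb xb24 yb48 zb8) (kb xb32 yb26 zb9) (kb xb28 yb6 zb14) (kb xb18 yb34 zb49) (kb xb27 yb54 zb15) (kb xb17 yb47 zb58) (kb xb32 yb26 zb50) (kb xb17 yb47 zb59) (kb xb32 yb26 zb52) (kb xb32 yb26 zb53) (kb xb32 yb26 zb56) (kb xb32 yb26 zb60) (kb xb17 yb47 zb61) (kb xb31 yb2 zb2) (kb xb32 yb26 zb61) (kb xb32 yb27 zb1) (kb xb17 yb48 zb2) (kb xb28 yb9 zb37) (kb xb17 yb48 zb6) (kb xb23 yb44 zb3) (kb xb18 yb17 zb15) (kb xb19 yb12 zb46) (kb xb19 yb12 zb48) (kb xb17 yb48 zb9) (kb xb17 yb50 zb18) (kb xb19 yb5 zb16) (kb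 xb17 yb48 zb14) (kb xb17 yb48 zb22) (kb xb18 yb17 zb25) (kb xb26 yb58 zb26) (kb xb17 yb48 zb25) (kb xb18 yb35 zb1) (kb xb21 yb48 zb47) (kb xb17 yb52 zb5) (kb xb19 yb4 zb30) (kb xb17 yb48 zb33) (kb xb18 yb44 zb13) (kb xb23 yb13 zb3) (kb xb31 yb46 zb2) (kb xb24 yb58 zb40) (kb xb17 yb52 zb11) (kb xb28 yb51 zb22) (kb xb19 yb58 zb19) (kb xb17 yb52 zb15) (kb xb20 yb24 zb60) (kb xb19 yb22 zb3) (kb xb19 yb3 zb44) (kb xb17 yb48 zb49) (kb xb29 yb47 zb22) (kb xb23 yb12 zb60) (kb xb17 yb48 zb52) (kb xb30 yb31 zb7) (kb xb27 yb53 zb33) (kb xb28 yb41 zb27) (kb xb17 yb48 zb57)) (@D3.rec (fun _ => Pt) (kb xb32 yb27 zb6) (kb xb31 yb39 zb57) (kb xb17 yb48 zb60) (kb xb32 yb13 zb46) (kb xb25 yb21 zb8) (kb xb27 yb30 zb4) (kb xb19 yb29 zb11) (kb xb17 yb56 zb51) (kb xb19 yb11 zb40) (kb xb17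 yb49 zb6) (kb xb21 yb21 zb23) (kb xb29 yb22 zb27) (kb xb17 yb49 zb10) (kb xb17 yb49 zb7) (kb xb19 yb37 zb2) (kb xb17 yb49 zb45) (kb xb24 yb34 zb16) (kb xb21 yb48 zb52) (kb xb30 yb54 zb15) (kb xb18 yb32 zb15) (kb xb17 yb49 zb17) (kb xb29 yb31 zb48) (kb xb29 yb23 zb5) (kb xb17 yb49 zb18) (kb xb27 yb50 zb36) (kb xb29 yb39 zb41) (kb xb27 yb49 zb47) (kb xb18 yb24 zb27) (kb xb17 yb49 zb25) (kb xb25 yb7 zb57) (kb xb17 yb49 zb23) (kb xb21 yb53 zb34) (kb xb18 yb39 zb20) (kb xb26 yb33 zb8) (kb xb17 yb49 zb28) (kb xb17 yb49 zb29) (kb xb20 yb56 zb27) (kb xb20 yb37 zb38) (kb xb20 yb51 zb34) (kb xb31 yb42 zb19) (kb xb17 yb49 zb51) (kb xb19 yb13 zb1) (kb xb27 yb52 zb49) (kb xb18 yb16 zb21) (kb xb32 yb6 zb60) (kb xb32 yb3 zb55) (kb xb19 yb22 zb38) (kb xb19 yb22 zb39) (kb xb20 yb28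 zb17) (kb xb20 yb49 zb40) (kb xb17 yb49 zb54) (kb xb25 yb46 zb6) (kb xb17 yb53 zb27) (kb xb27 yb37 zb11) (kb xb27 yb37 zb2) (kb xb26 yb35 zb43) (kb xb26 yb58 zb42) (kb xb24 yb49 zb44) (kb xb17 yb49 zb53) (kb xb32 yb27 zb14) (kb xb24 yb51 zb8) (kb xb17 yb49 zb57)) (@D3.rec (fun _ => Pt) (kb xb31 yb41 zb40) (kb xb25 yb21 zb15) (kb xb27 yb36 zb54) (kb xb25 yb21 zb11) (kb xb17 yb49 zb60) (kb xb17 yb49 zb61) (kb xb24 yb34 zb4) (kb xb29 yb27 zb26) (kb xb32 yb27 zb18) (kb xb17 yb50 zb1) (kb xb31 yb41 zb44) (kb xb27 yb36 zb53) (kb xb31 yb41 zb11) (kb xb24 yb49 zb49) (kb xb17 yb50 zb5) (kb xb17 yb50 zb9) (kb xb29 yb11 zb10) (kb xb22 yb41 zb26) (kb xb32 yb0 zb26) (kb xb31 yb36 zb45) (kb xb25 yb41 zb22) (kb xb32 yb0 zb28) (kb xb17 yb50 zb13) (kb xb32 yb15 zb29) (kb xb31 yb28 zb12)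 (kb xb28 yb53 zb16) (kb xb28 yb53 zb17) (kb xb17 yb50 zb20) (kb xb18 yb6 zb39) (kb xb17 yb50 zb22) (kb xb30 yb14 zb43) (kb xb17 yb50 zb29) (kb xb24 yb14 zb53) (kb xb18 yb25 zb24) (kb xb19 yb45 zb5) (kb xb28 yb11 zb9) (kb xb26 yb58 zb36) (kb xb17 yb50 zb39) (kb xb18 yb10 zb21) (kb xb20 yb53 zb30) (kb xb21 yb23 zb22) (kb xb24 yb52 zb37) (kb xb25 yb45 zb7) (kb xb31 yb42 zb38) (kb xb17 yb50 zb48) (kb xb28 yb25 zb40) (kb xb19 yb12 zb22) (kb xb28 yb11 zb7) (kb xb18 yb10 zb10) (kb xb21 yb34 zb57) (kb xb18 yb20 zb48) (kb xb25 yb44 zb20) (kb xb27 yb23 zb19) (kb xb21 yb46 zb18) (kb xb21 yb46 zb15) (kb xb28 yb46 zb54) (kb xb17 yb51 zb1) (kb xb18 yb58 zb0) (kb xb17 yb51 zb3) (kb xb29 yb20 zb43) (kb xb27 yb49 zb27) (kb xb17 yb51 zb6)) (@D3.rec (fun _ => Pt) (kb xb29 yb12 zb61) (kb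 xb29 yb0 zb49) (kb xb25 yb47 zb28) (kb xb21 yb36 zb43) (kb xb27 yb12 zb13) (kb xb17 yb51 zb29) (kb xb18 yb39 zb41) (kb xb18 yb21 zb28) (kb xb23 yb47 zb25) (kb xb20 yb51 zb7) (kb xb17 yb51 zb34) (kb xb30 yb0 zb14) (kb xb17 yb51 zb36) (kb xb17 yb51 zb37) (kb xb32 yb27 zb24) (kb xb29 yb35 zb60) (kb xb24 yb1 zb21) (kb xb17 yb51 zb39) (kb xb17 yb51 zb40) (kb xb24 yb33 zb6) (kb xb24 yb33 zb2) (kb xb32 yb3 zb40) (kb xb20 yb58 zb53) (kb xb18 yb35 zb37) (kb xb27 yb44 zb27) (kb xb24 yb55 zb26) (kb xb21 yb8 zb18) (kb xb29 yb13 zb48) (kb xb32 yb25 zb15) (kb xb17 yb51 zb54) (kb xb26 yb12 zb10) (kb xb22 yb10 zb45) (kb xb25 yb43 zb10) (kb xb19 yb18 zb52) (kb xb27 yb51 zb6) (kb xb17 yb51 zb61) (kb xb20 yb38 zb1) (kb xb30 yb13 zb10) (kb xb22 yb9 zb46) (kb xb31 yb58 zb16) (kb xb25 yb28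 zb14) (kb xb28 yb25 zb19) (kb xb27 yb39 zb1) (kb xb24 yb52 zb34) (kb xb27 yb39 zb2) (kb xb18 yb38 zb34) (kb xb26 yb13 zb17) (kb xb18 yb28 zb50) (kb xb19 yb15 zb32) (kb xb17 yb52 zb22) (kb xb24 yb17 zb60) (kb xb17 yb52 zb28) (kb xb17 yb52 zb36) (kb xb21 yb9 zb60) (kb xb25 yb44 zb45) (kb xb18 yb37 zb42) (kb xb17 yb52 zb48) (kb xb17 yb52 zb49) (kb xb32 yb27 zb28) (kb xb30 yb7 zb38) (kb xb19 yb3 zb28) (kb xb17 yb52 zb53)) (@D3.rec (fun _ => Pt) (kb xb29 yb24 zb58) (kb xb27 yb38 zb42) (kb xb27 yb38 zb44) (kb xb17 yb52 zb58) (kb xb21 yb3 zb38) (kb xb22 yb10 zb21) (kb xb17 yb53 zb2) (kb xb18 yb23 zb1) (kb xb18 yb40 zb38) (kb xb21 yb56 zb59) (kb xb29 yb43 zb56) (kb xb17 yb53 zb7) (kb xb24 yb10 zb16) (kb xb28 yb43 zb56) (kb xb17 yb53 zb12) (kb xb17 yb53 zb13) (kb xb27 yb44 zb37)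 (kb xb17 yb53 zb15) (kb xb28 yb51 zb24) (kb xb17 yb53 zb23) (kb xb17 yb53 zb34) (kb xb28 yb48 zb54) (kb xb29 yb55 zb38) (kb xb25 yb15 zb54) (kb xb24 yb22 zb50) (kb xb25 yb38 zb36) (kb xb18 yb8 zb36) (kb xb17 yb53 zb57) (kb xb18 yb8 zb12) (kb xb18 yb14 zb1) (kb xb18 yb30 zb18) (kb xb27 yb23 zb22) (kb xb17 yb54 zb4) (kb xb25 yb12 zb28) (kb xb24 yb46 zb52) (kb xb17 yb54 zb12) (kb xb17 yb54 zb7) (kb xb25 yb13 zb34) (kb xb22 yb8 zb50) (kb xb27 yb46 zb9) (kb xb23 yb51 zb6) (kb xb31 yb1 zb22) (kb xb29 yb38 zb43) (kb xb17 yb54 zb14) (kb xb28 yb8 zb10) (kb xb17 yb54 zb15) (kb xb28 yb5 zb57) (kb xb24 yb54 zb49) (kb xb23 yb50 zb1) (kb xb17 yb54 zb17) (kb xb32 yb27 zb32) (kb xb32 yb27 zb33) (kb xb17 yb54 zb19) (kb xb18 yb15 zb18) (kb xb29 yb14 zb39) (kb xb22 yb50 zb7) (kb xb19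 yb17 zb18) (kb xb31 yb59 zb19) (kb xb32 yb3 zb48) (kb xb17 yb54 zb23) (kb xb26 yb28 zb50) (kb xb25 yb34 zb0)) (@D3.rec (fun _ => Pt) (kb xb31 yb39 zb21) (kb xb32 yb27 zb38) (kb xb17 yb54 zb25) (kb xb29 yb20 zb36) (kb xb17 yb54 zb27) (kb xb32 yb1 zb46) (kb xb20 yb45 zb46) (kb xb31 yb42 zb47) (kb xb26 yb16 zb10) (kb xb18 yb16 zb58) (kb xb30 yb23 zb26) (kb xb17 yb54 zb31) (kb xb22 yb18 zb42) (kb xb21 yb15 zb7) (kb xb22 yb15 zb8) (kb xb27 yb53 zb36) (kb xb23 yb31 zb50) (kb xb26 yb49 zb48) (kb xb31 yb14 zb19) (kb xb22 yb49 zb55) (kb xb21 yb12 zb39) (kb xb32 yb6 zb19) (kb xb17 yb54 zb44) (kb xb17 yb54 zb45) (kb xb28 yb26 zb27) (kb xb31 yb32 zb4) (kb xb31 yb2 zb51) (kb xb17 yb56 zb48) (kb xb30 yb5 zb31) (kb xb29 yb31 zb51) (kb xb23 yb40 zb8) (kb xb21 yb3 zb56) (kb xb28 yb18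 zb0) (kb xb17 yb55 zb6) (kb xb30 yb47 zb55) (kb xb22 yb51 zb34) (kb xb17 yb55 zb10) (kb xb21 yb10 zb58) (kb xb29 yb7 zb20) (kb xb22 yb38 zb61) (kb xb17 yb55 zb23) (kb xb28 yb12 zb29) (kb xb17 yb55 zb25) (kb xb17 yb55 zb26) (kb xb26 yb55 zb30) (kb xb17 yb55 zb29) (kb xb26 yb57 zb27) (kb xb26 yb40 zb26) (kb xb30 yb5 zb34) (kb xb23 yb42 zb21) (kb xb30 yb37 zb15) (kb xb23 yb37 zb39) (kb xb17 yb55 zb54) (kb xb17 yb55 zb47) (kb xb32 yb27 zb42) (kb xb30 yb34 zb8) (kb xb29 yb58 zb15) (kb xb32 yb27 zb48) (kb xb29 yb57 zb45) (kb xb24 yb22 zb6) (kb xb21 yb29 zb12) (kb xb17 yb55 zb57)) (@D3.rec (fun _ => Pt) (kb xb17 yb55 zb58) (kb xb17 yb56 zb6) (kb xb17 yb56 zb3) (kb xb32 yb27 zb51) (kb xb27 yb53 zb31) (kb xb28 yb10 zb22) (kb xb17 yb56 zb5) (kb xb20 yb27 zb4) (kb xb29 yb26 zb37)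 (kb xb17 yb56 zb12) (kb xb17 yb56 zb18) (kb xb17 yb56 zb17) (kb xb17 yb56 zb19) (kb xb17 yb56 zb20) (kb xb32 yb2 zb43) (kb xb19 yb21 zb2) (kb xb19 yb43 zb46) (kb xb21 yb31 zb44) (kb xb19 yb43 zb14) (kb xb32 yb24 zb41) (kb xb23 yb3 zb29) (kb xb26 yb44 zb8) (kb xb17 yb56 zb32) (kb xb31 yb1 zb39) (kb xb31 yb8 zb60) (kb xb29 yb22 zb56) (kb xb32 yb6 zb20) (kb xb17 yb56 zb39) (kb xb25 yb40 zb0) (kb xb17 yb56 zb40) (kb xb17 yb56 zb43) (kb xb32 yb18 zb50) (kb xb20 yb16 zb11) (kb xb21 yb54 zb4) (kb xb25 yb7 zb27) (kb xb28 yb34 zb38) (kb xb17 yb56 zb61) (kb xb17 yb56 zb58) (kb xb25 yb4 zb58) (kb xb30 yb47 zb61) (kb xb17 yb56 zb60) (kb xb26 yb58 zb4) (kb xb24 yb9 zb22) (kb xb32 yb27 zb55) (kb xb17 yb57 zb4) (kb xb25 yb36 zb12) (kb xb17 yb57 zb8) (kb xb28 yb0 zb16) (kb xb25 yb5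 zb27) (kb xb30 yb55 zb26) (kb xb25 yb18 zb25) (kb xb30 yb50 zb41) (kb xb26 yb56 zb40) (kb xb30 yb46 zb30) (kb xb17 yb57 zb18) (kb xb30 yb18 zb35) (kb xb31 yb50 zb30) (kb xb26 yb55 zb32) (kb xb17 yb57 zb23) (kb xb30 yb46 zb48) (kb xb24 yb8 zb51) (kb xb17 yb57 zb21)) (@D3.rec (fun _ => Pt) (kb xb29 yb32 zb20) (kb xb28 yb27 zb54) (kb xb30 yb55 zb31) (kb xb24 yb38 zb49) (kb xb28 yb36 zb27) (kb xb19 yb0 zb60) (kb xb21 yb4 zb56) (kb xb17 yb57 zb37) (kb xb31 yb23 zb29) (kb xb17 yb57 zb39) (kb xb29 yb18 zb23) (kb xb25 yb2 zb1) (kb xb28 yb23 zb2) (kb xb20 yb26 zb27) (kb xb20 yb28 zb2) (kb xb25 yb47 zb7) (kb xb20 yb22 zb37) (kb xb21 yb37 zb22) (kb xb17 yb58 zb19) (kb xb18 yb24 zb41) (kb xb21 yb9 zb61) (kb xb28 yb10 zb24) (kb xb17 yb58 zb23) (kb xb32 yb27 zb58) (kb xb27 yb2 zb33)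 (kb xb29 yb38 zb4) (kb xb22 yb58 zb46) (kb xb17 yb58 zb38) (kb xb17 yb58 zb46) (kb xb21 yb49 zb8) (kb xb17 yb58 zb50) (kb xb30 yb9 zb48) (kb xb30 yb55 zb54) (kb xb17 yb58 zb52) (kb xb29 yb5 zb32) (kb xb24 yb42 zb46) (kb xb23 yb56 zb51) (kb xb24 yb11 zb46) (kb xb17 yb58 zb57) (kb xb32 yb2 zb23) (kb xb29 yb0 zb0) (kb xb30 yb55 zb33) (kb xb28 yb59 zb55) (kb xb25 yb26 zb54) (kb xb17 yb59 zb6) (kb xb30 yb50 zb27) (kb xb18 yb48 zb16) (kb xb24 yb33 zb4) (kb xb17 yb59 zb23) (kb xb20 yb51 zb20) (kb xb17 yb59 zb22) (kb xb19 yb34 zb23) (kb xb17 yb59 zb28) (kb xb29 yb55 zb56) (kb xb23 yb30 zb46) (kb xb20 yb23 zb13) (kb xb17 yb59 zb31) (kb xb21 yb57 zb30) (kb xb18 yb45 zb30) (kb xb17 yb59 zb49) (kb xb26 yb55 zb29) (kb xb18 yb12 zb55)) (@D3.rec (fun _ => Pt) (kb xb20 yb20 zb11) (kb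 xb32 yb28 zb2) (kb xb23 yb5 zb3) (kb xb26 yb57 zb53) (kb xb26 yb59 zb37) (kb xb19 yb58 zb16) (kb xb27 yb20 zb24) (kb xb21 yb9 zb45) (kb xb21 yb36 zb25) (kb xb18 yb0 zb27) (kb xb27 yb49 zb41) (kb xb32 yb6 zb3) (kb xb29 yb42 zb39) (kb xb29 yb21 zb51) (kb xb18 yb0 zb40) (kb xb26 yb22 zb16) (kb xb26 yb22 zb17) (kb xb21 yb53 zb29) (kb xb20 yb13 zb44) (kb xb20 yb19 zb27) (kb xb20 yb15 zb30) (kb xb18 yb0 zb43) (kb xb18 yb20 zb30) (kb xb18 yb5 zb25) (kb xb20 yb51 zb46) (kb xb21 yb47 zb21) (kb xb21 yb43 zb11) (kb xb21 yb20 zb53) (kb xb21 yb41 zb44) (kb xb32 yb28 zb3) (kb xb18 yb1 zb4) (kb xb21 yb18 zb43) (kb xb31 yb18 zb35) (kb xb18 yb1 zb8) (kb xb18 yb57 zb5) (kb xb27 yb50 zb53) (kb xb18 yb2 zb12) (kb xb29 yb42 zb33) (kb xb18 yb1 zb27) (kb xb18 yb1 zb28) (kb xb18 yb1 zb25)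 (kb xb29 yb59 zb49) (kb xb26 yb10 zb32) (kb xb18 yb1 zb26) (kb xb26 yb10 zb14) (kb xb18 yb1 zb34) (kb xb22 yb21 zb44) (kb xb26 yb59 zb10) (kb xb18 yb1 zb39) (kb xb29 yb18 zb13) (kb xb20 yb2 zb59) (kb xb28 yb39 zb22) (kb xb28 yb42 zb16) (kb xb19 yb42 zb51) (kb xb30 yb14 zb9) (kb xb22 yb52 zb47) (kb xb31 yb36 zb19) (kb xb23 yb56 zb33) (kb xb18 yb1 zb48) (kb xb18 yb1 zb49) (kb xb25 yb5 zb1) (kb xb30 yb51 zb25)) (@D3.rec (fun _ => Pt) (kb xb18 yb14 zb12) (kb xb32 yb0 zb37) (kb xb31 yb36 zb13) (kb xb29 yb12 zb32) (kb xb25 yb4 zb51) (kb xb18 yb1 zb54) (kb xb18 yb1 zb55) (kb xb19 yb21 zb1) (kb xb29 yb28 zb16) (kb xb18 yb1 zb61) (kb xb32 yb15 zb38) (kb xb25 yb28 zb2) (kb xb18 yb2 zb10) (kb xb21 yb54 zb35) (kb xb29 yb42 zb52) (kb xb20 yb1 zb50) (kb xb24 yb33 zb30) (kb xb31 yb36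 zb12) (kb xb24 yb34 zb32) (kb xb32 yb28 zb7) (kb xb23 yb12 zb52) (kb xb21 yb11 zb33) (kb xb18 yb2 zb34) (kb xb30 yb34 zb49) (kb xb28 yb33 zb44) (kb xb27 yb52 zb16) (kb xb29 yb5 zb41) (kb xb27 yb38 zb24) (kb xb19 yb18 zb26) (kb xb26 yb2 zb24) (kb xb24 yb20 zb51) (kb xb19 yb18 zb23) (kb xb32 yb8 zb41) (kb xb25 yb2 zb55) (kb xb32 yb28 zb12) (kb xb18 yb2 zb53) (kb xb25 yb5 zb15) (kb xb27 yb39 zb16) (kb xb19 yb14 zb41) (kb xb32 yb5 zb1) (kb xb18 yb2 zb60) (kb xb23 yb33 zb11) (kb xb18 yb29 zb24) (kb xb19 yb18 zb39) (kb xb26 yb38 zb19) (kb xb26 yb35 zb53) (kb xb26 yb44 zb31) (kb xb18 yb22 zb9) (kb xb29 yb44 zb55) (kb xb28 yb0 zb39) (kb xb30 yb17 zb59) (kb xb23 yb23 zb33) (kb xb18 yb29 zb45) (kb xb19 yb18 zb25) (kb xb23 yb46 zb23) (kb xb18 yb3 zb15) (kb xb31 yb2 zb40) (kb xb32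 yb6 zb21) (kb xb18 yb3 zb16) (kb xb21 yb6 zb25) (kb xb21 yb6 zb33) (kb xb24 yb45 zb41)) (@D3.rec (fun _ => Pt) (kb xb18 yb3 zb20) (kb xb18 yb30 zb12) (kb xb18 yb5 zb2) (kb xb18 yb16 zb28) (kb xb27 yb45 zb50) (kb xb18 yb3 zb25) (kb xb27 yb48 zb27) (kb xb18 yb5 zb26) (kb xb18 yb3 zb29) (kb xb24 yb40 zb46) (kb xb23 yb22 zb53) (kb xb27 yb26 zb34) (kb xb27 yb56 zb10) (kb xb18 yb3 zb39) (kb xb30 yb11 zb60) (kb xb29 yb17 zb28) (kb xb18 yb44 zb58) (kb xb18 yb6 zb50) (kb xb18 yb6 zb51) (kb xb27 yb24 zb55) (kb xb21 yb7 zb10) (kb xb24 yb55 zb50) (kb xb18 yb3 zb47) (kb xb18 yb3 zb48) (kb xb27 yb5 zb45) (kb xb27 yb31 zb3) (kb xb27 yb45 zb42) (kb xb18 yb3 zb49) (kb xb27 yb49 zb58) (kb xb23 yb54 zb6) (kb xb18 yb33 zb57) (kb xb24 yb44 zb44) (kb xb18 yb7 zb18) (kb xb23 yb51 zb23) (kb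 xb18 yb3 zb55) (kb xb18 yb7 zb30) (kb xb27 yb31 zb28) (kb xb18 yb54 zb23) (kb xb25 yb2 zb61) (kb xb31 yb7 zb10) (kb xb23 yb51 zb21) (kb xb23 yb37 zb38) (kb xb27 yb45 zb26) (kb xb18 yb7 zb49) (kb xb25 yb6 zb10) (kb xb32 yb24 zb43) (kb xb25 yb0 zb42) (kb xb18 yb4 zb14) (kb xb21 yb41 zb54) (kb xb18 yb8 zb14) (kb xb27 yb45 zb4) (kb xb21 yb34 zb2) (kb xb25 yb29 zb43) (kb xb31 yb37 zb57) (kb xb21 yb25 zb18) (kb xb23 yb20 zb33) (kb xb22 yb49 zb38) (kb xb27 yb55 zb43) (kb xb18 yb4 zb19) (kb xb30 yb45 zb46) (kb xb25 yb3 zb37) (kb xb32 yb28 zb20)) (@D3.rec (fun _ => Pt) (kb xb18 yb11 zb21) (kb xb26 yb15 zb40) (kb xb23 yb43 zb9) (kb xb28 yb6 zb26) (kb xb26 yb14 zb13) (kb xb32 yb21 zb57) (kb xb18 yb5 zb12) (kb xb27 yb56 zb19) (kb xb18 yb4 zb42) (kb xb27 yb39 zb39) (kb xb18 yb4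 zb43) (kb xb30 yb35 zb34) (kb xb18 yb4 zb44) (kb xb30 yb5 zb25) (kb xb18 yb4 zb45) (kb xb30 yb45 zb60) (kb xb18 yb4 zb50) (kb xb32 yb25 zb2) (kb xb26 yb11 zb29) (kb xb18 yb4 zb51) (kb xb18 yb4 zb52) (kb xb27 yb48 zb59) (kb xb32 yb28 zb24) (kb xb18 yb4 zb57) (kb xb27 yb12 zb28) (kb xb26 yb13 zb20) (kb xb24 yb15 zb27) (kb xb32 yb7 zb17) (kb xb18 yb5 zb0) (kb xb18 yb5 zb4) (kb xb18 yb5 zb5) (kb xb21 yb19 zb60) (kb xb23 yb52 zb10) (kb xb32 yb6 zb1) (kb xb18 yb5 zb14) (kb xb24 yb1 zb49) (kb xb31 yb7 zb33) (kb xb18 yb32 zb24) (kb xb18 yb5 zb22) (kb xb18 yb5 zb23) (kb xb26 yb12 zb43) (kb xb32 yb27 zb26) (kb xb27 yb22 zb7) (kb xb18 yb5 zb27) (kb xb24 yb44 zb1) (kb xb21 yb25 zb7) (kb xb18 yb5 zb28) (kb xb30 yb1 zb58) (kb xb26 yb12 zb38) (kb xb28 yb3 zb52) (kb xb18 yb5 zb34)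 (kb xb18 yb5 zb39) (kb xb31 yb34 zb52) (kb xb28 yb44 zb58) (kb xb29 yb12 zb38) (kb xb30 yb12 zb17) (kb xb19 yb6 zb55) (kb xb20 yb41 zb29) (kb xb27 yb23 zb11) (kb xb18 yb5 zb46) (kb xb19 yb36 zb42) (kb xb31 yb37 zb26)) (@D3.rec (fun _ => Pt) (kb xb26 yb12 zb57) (kb xb28 yb46 zb4) (kb xb18 yb5 zb48) (kb xb24 yb56 zb34) (kb xb23 yb51 zb56) (kb xb18 yb5 zb53) (kb xb25 yb45 zb61) (kb xb18 yb5 zb58) (kb xb18 yb5 zb57) (kb xb30 yb25 zb38) (kb xb28 yb3 zb26) (kb xb18 yb16 zb29) (kb xb18 yb6 zb1) (kb xb30 yb0 zb51) (kb xb30 yb1 zb21) (kb xb30 yb45 zb59) (kb xb26 yb15 zb14) (kb xb27 yb20 zb53) (kb xb21 yb4 zb39) (kb xb24 yb55 zb61) (kb xb18 yb6 zb13) (kb xb18 yb6 zb15) (kb xb21 yb21 zb52) (kb xb27 yb20 zb47) (kb xb25 yb1 zb5) (kb xb18 yb16 zb10) (kb xb25 yb42 zb27) (kb xb18 yb6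 zb26) (kb xb27 yb47 zb56) (kb xb24 yb43 zb37) (kb xb18 yb16 zb59) (kb xb27 yb56 zb15) (kb xb18 yb6 zb34) (kb xb31 yb45 zb12) (kb xb18 yb6 zb36) (kb xb18 yb6 zb38) (kb xb18 yb6 zb41) (kb xb18 yb6 zb45) (kb xb26 yb18 zb47) (kb xb18 yb34 zb9) (kb xb18 yb6 zb43) (kb xb32 yb28 zb33) (kb xb22 yb46 zb10) (kb xb28 yb3 zb43) (kb xb31 yb39 zb13) (kb xb31 yb15 zb8) (kb xb22 yb4 zb31) (kb xb18 yb15 zb9) (kb xb18 yb15 zb10) (kb xb18 yb32 zb26) (kb xb24 yb12 zb40) (kb xb19 yb9 zb18) (kb xb19 yb6 zb25) (kb xb19 yb6 zb26) (kb xb19 yb6 zb27) (kb xb25 yb34 zb34) (kb xb27 yb47 zb28) (kb xb25 yb58 zb53) (kb xb21 yb4 zb27) (kb xb18 yb7 zb12) (kb xb18 yb47 zb38) (kb xb18 yb47 zb40)) (@D3.rec (fun _ => Pt) (kb xb18 yb7 zb27) (kb xb18 yb7 zb28) (kb xb18 yb7 zb23) (kb xb23 yb52 zb58) (kb xb28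 yb2 zb25) (kb xb18 yb7 zb26) (kb xb30 yb6 zb31) (kb xb25 yb3 zb21) (kb xb18 yb7 zb37) (kb xb22 yb10 zb41) (kb xb22 yb29 zb34) (kb xb18 yb7 zb47) (kb xb31 yb38 zb22) (kb xb25 yb1 zb33) (kb xb21 yb41 zb26) (kb xb18 yb7 zb51) (kb xb29 yb50 zb31) (kb xb27 yb24 zb27) (kb xb21 yb16 zb33) (kb xb18 yb8 zb17) (kb xb21 yb49 zb57) (kb xb21 yb49 zb58) (kb xb21 yb23 zb28) (kb xb29 yb56 zb43) (kb xb20 yb46 zb53) (kb xb24 yb55 zb47) (kb xb18 yb8 zb7) (kb xb27 yb45 zb6) (kb xb23 yb51 zb47) (kb xb22 yb35 zb12) (kb xb21 yb47 zb2) (kb xb21 yb55 zb44) (kb xb21 yb34 zb45) (kb xb21 yb42 zb8) (kb xb27 yb20 zb8) (kb xb30 yb5 zb16) (kb xb29 yb17 zb23) (kb xb25 yb54 zb60) (kb xb18 yb8 zb22) (kb xb30 yb11 zb11) (kb xb23 yb23 zb58) (kb xb19 yb59 zb38) (kb xb18 yb28 zb43) (kb xb29 yb25 zb4) (kb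 xb21 yb55 zb37) (kb xb18 yb8 zb29) (kb xb31 yb14 zb46) (kb xb28 yb3 zb44) (kb xb29 yb29 zb59) (kb xb24 yb58 zb59) (kb xb29 yb50 zb30) (kb xb23 yb3 zb13) (kb xb22 yb15 zb9) (kb xb25 yb15 zb58) (kb xb23 yb35 zb57) (kb xb28 yb10 zb7) (kb xb28 yb25 zb52) (kb xb18 yb8 zb40) (kb xb18 yb8 zb41) (kb xb27 yb46 zb21) (kb xb32 yb28 zb36) (kb xb29 yb54 zb33)) (@D3.rec (fun _ => Pt) (kb xb18 yb27 zb26) (kb xb18 yb12 zb46) (kb xb18 yb12 zb43) (kb xb18 yb16 zb57) (kb xb27 yb49 zb61) (kb xb27 yb32 zb27) (kb xb18 yb8 zb45) (kb xb18 yb8 zb49) (kb xb32 yb25 zb49) (kb xb32 yb5 zb47) (kb xb18 yb8 zb51) (kb xb27 yb33 zb7) (kb xb27 yb50 zb60) (kb xb20 yb11 zb13) (kb xb32 yb7 zb52) (kb xb18 yb8 zb59) (kb xb18 yb8 zb60) (kb xb18 yb8 zb57) (kb xb32 yb28 zb42) (kb xb25 yb13 zb61) (kb xb32 yb9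 zb37) (kb xb26 yb31 zb33) (kb xb18 yb8 zb61) (kb xb32 yb28 zb43) (kb xb18 yb9 zb1) (kb xb32 yb28 zb44) (kb xb18 yb45 zb40) (kb xb27 yb37 zb60) (kb xb32 yb8 zb1) (kb xb28 yb7 zb56) (kb xb18 yb9 zb9) (kb xb18 yb9 zb10) (kb xb27 yb50 zb58) (kb xb18 yb9 zb8) (kb xb25 yb48 zb8) (kb xb32 yb6 zb35) (kb xb28 yb36 zb24) (kb xb18 yb9 zb11) (kb xb27 yb54 zb51) (kb xb18 yb9 zb13) (kb xb32 yb28 zb49) (kb xb27 yb43 zb10) (kb xb18 yb9 zb19) (kb xb18 yb32 zb61) (kb xb31 yb54 zb17) (kb xb26 yb19 zb47) (kb xb18 yb9 zb24) (kb xb27 yb36 zb26) (kb xb28 yb15 zb30) (kb xb27 yb32 zb7) (kb xb32 yb25 zb34) (kb xb32 yb28 zb52) (kb xb28 yb43 zb22) (kb xb18 yb9 zb27) (kb xb32 yb1 zb48) (kb xb32 yb8 zb39) (kb xb27 yb32 zb40) (kb xb27 yb34 zb5) (kb xb27 yb45 zb28) (kb xb28 yb27 zb49) (kb xb32 yb25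 zb44) (kb xb27 yb49 zb4)) (@D3.rec (fun _ => Pt) (kb xb18 yb9 zb39) (kb xb18 yb9 zb40) (kb xb18 yb9 zb34) (kb xb30 yb24 zb47) (kb xb18 yb9 zb35) (kb xb31 yb8 zb19) (kb xb32 yb28 zb61) (kb xb28 yb32 zb5) (kb xb21 yb12 zb46) (kb xb18 yb13 zb22) (kb xb18 yb9 zb42) (kb xb18 yb9 zb44) (kb xb18 yb9 zb45) (kb xb32 yb29 zb2) (kb xb31 yb37 zb40) (kb xb18 yb9 zb46) (kb xb29 yb54 zb23) (kb xb18 yb9 zb47) (kb xb28 yb7 zb38) (kb xb23 yb36 zb53) (kb xb18 yb9 zb52) (kb xb32 yb29 zb4) (kb xb29 yb25 zb14) (kb xb18 yb9 zb55) (kb xb18 yb9 zb56) (kb xb31 yb43 zb33) (kb xb32 yb6 zb48) (kb xb32 yb29 zb5) (kb xb18 yb9 zb57) (kb xb18 yb9 zb60) (kb xb18 yb10 zb5) (kb xb18 yb10 zb4) (kb xb28 yb3 zb53) (kb xb32 yb25 zb31) (kb xb28 yb1 zb60) (kb xb28 yb11 zb6) (kb xb27 yb36 zb24) (kb xb30 yb14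 zb23) (kb xb20 yb35 zb19) (kb xb18 yb10 zb14) (kb xb32 yb29 zb9) (kb xb27 yb29 zb10) (kb xb22 yb36 zb18) (kb xb18 yb10 zb32) (kb xb22 yb7 zb1) (kb xb18 yb10 zb34) (kb xb25 yb25 zb6) (kb xb28 yb15 zb19) (kb xb18 yb10 zb36) (kb xb18 yb10 zb37) (kb xb29 yb38 zb49) (kb xb28 yb49 zb21) (kb xb18 yb23 zb18) (kb xb27 yb43 zb35) (kb xb32 yb6 zb23) (kb xb23 yb36 zb52) (kb xb26 yb30 zb45) (kb xb28 yb7 zb9) (kb xb27 yb49 zb32) (kb xb28 yb6 zb58) (kb xb27 yb49 zb12) (kb xb28 yb5 zb14)) (@D3.rec (fun _ => Pt) (kb xb32 yb8 zb0) (kb xb32 yb6 zb30) (kb xb20 yb11 zb8) (kb xb25 yb47 zb13) (kb xb18 yb10 zb57) (kb xb18 yb11 zb5) (kb xb27 yb38 zb34) (kb xb18 yb49 zb33) (kb xb27 yb33 zb17) (kb xb23 yb50 zb27) (kb xb31 yb16 zb17) (kb xb32 yb25 zb25) (kb xb18 yb11 zb0) (kb xb18 yb10 zb61) (kb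 xb32 yb29 zb12) (kb xb32 yb6 zb46) (kb xb18 yb42 zb12) (kb xb30 yb56 zb11) (kb xb28 yb45 zb35) (kb xb18 yb39 zb30) (kb xb18 yb11 zb9) (kb xb22 yb15 zb38) (kb xb28 yb7 zb6) (kb xb29 yb51 zb55) (kb xb25 yb3 zb55) (kb xb27 yb53 zb20) (kb xb28 yb9 zb8) (kb xb28 yb4 zb33) (kb xb24 yb53 zb56) (kb xb32 yb29 zb15) (kb xb28 yb6 zb50) (kb xb28 yb6 zb29) (kb xb28 yb9 zb10) (kb xb18 yb11 zb20) (kb xb32 yb8 zb37) (kb xb32 yb29 zb18) (kb xb31 yb16 zb42) (kb xb28 yb9 zb9) (kb xb31 yb56 zb50) (kb xb32 yb8 zb19) (kb xb29 yb54 zb13) (kb xb18 yb11 zb22) (kb xb28 yb23 zb31) (kb xb32 yb25 zb52) (kb xb18 yb12 zb7) (kb xb18 yb12 zb8) (kb xb26 yb31 zb13) (kb xb32 yb29 zb24) (kb xb22 yb53 zb32) (kb xb18 yb11 zb26) (kb xb32 yb6 zb33) (kb xb18 yb11 zb27) (kb xb32 yb29 zb28) (kb xb26 yb31 zb23)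 (kb xb32 yb10 zb9) (kb xb27 yb54 zb53) (kb xb32 yb7 zb25) (kb xb18 yb11 zb28) (kb xb22 yb18 zb14) (kb xb29 yb24 zb54) (kb xb18 yb11 zb32) (kb xb32 yb29 zb31)) (@D3.rec (fun _ => Pt) (kb xb21 yb11 zb47) (kb xb21 yb15 zb3) (kb xb32 yb9 zb58) (kb xb18 yb11 zb33) (kb xb31 yb42 zb39) (kb xb31 yb42 zb20) (kb xb18 yb11 zb35) (kb xb28 yb44 zb55) (kb xb27 yb55 zb22) (kb xb28 yb4 zb58) (kb xb22 yb49 zb50) (kb xb18 yb11 zb40) (kb xb32 yb29 zb37) (kb xb28 yb6 zb56) (kb xb18 yb11 zb43) (kb xb18 yb11 zb44) (kb xb27 yb44 zb25) (kb xb18 yb45 zb60) (kb xb29 yb19 zb46) (kb xb32 yb29 zb36) (kb xb18 yb11 zb41) (kb xb32 yb28 zb40) (kb xb18 yb11 zb45) (kb xb32 yb29 zb42) (kb xb32 yb7 zb32) (kb xb18 yb11 zb48) (kb xb18 yb26 zb28) (kb xb26 yb18 zb4) (kb xb27 yb34 zb11) (kb xb29 yb52 zb49)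 (kb xb23 yb9 zb13) (kb xb18 yb11 zb52) (kb xb29 yb54 zb12) (kb xb18 yb11 zb53) (kb xb29 yb21 zb6) (kb xb32 yb29 zb45) (kb xb27 yb25 zb52) (kb xb20 yb10 zb46) (kb xb28 yb46 zb25) (kb xb18 yb11 zb54) (kb xb18 yb11 zb55) (kb xb23 yb50 zb30) (kb xb28 yb5 zb26) (kb xb32 yb29 zb47) (kb xb28 yb5 zb7) (kb xb18 yb11 zb60) (kb xb18 yb11 zb61) (kb xb28 yb20 zb53) (kb xb31 yb53 zb57) (kb xb27 yb36 zb42) (kb xb32 yb7 zb55) (kb xb32 yb29 zb22) (kb xb21 yb12 zb7) (kb xb18 yb12 zb9) (kb xb28 yb4 zb46) (kb xb18 yb12 zb10) (kb xb31 yb15 zb52) (kb xb28 yb32 zb47) (kb xb27 yb53 zb5) (kb xb22 yb55 zb39) (kb xb18 yb12 zb18) (kb xb18 yb12 zb19)) (@D3.rec (fun _ => Pt) (kb xb28 yb43 zb21) (kb xb18 yb12 zb16) (kb xb29 yb53 zb1) (kb xb32 yb1 zb32) (kb xb18 yb12 zb17) (kb xb27 yb52 zb58) (kb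 xb28 yb4 zb49) (kb xb24 yb8 zb28) (kb xb18 yb34 zb0) (kb xb32 yb1 zb44) (kb xb20 yb10 zb51) (kb xb18 yb12 zb22) (kb xb26 yb51 zb4) (kb xb32 yb7 zb37) (kb xb32 yb28 zb47) (kb xb18 yb12 zb27) (kb xb30 yb48 zb4) (kb xb18 yb12 zb36) (kb xb32 yb29 zb61) (kb xb19 yb6 zb17) (kb xb27 yb51 zb25) (kb xb31 yb25 zb7) (kb xb29 yb18 zb29) (kb xb26 yb41 zb41) (kb xb18 yb12 zb45) (kb xb32 yb29 zb34) (kb xb32 yb7 zb51) (kb xb28 yb4 zb23) (kb xb28 yb8 zb0) (kb xb26 yb10 zb44) (kb xb18 yb43 zb39) (kb xb27 yb41 zb4) (kb xb20 yb17 zb12) (kb xb27 yb35 zb59) (kb xb19 yb14 zb61) (kb xb18 yb41 zb54) (kb xb27 yb40 zb15) (kb xb18 yb30 zb19) (kb xb24 yb53 zb53) (kb xb31 yb8 zb36) (kb xb30 yb5 zb3) (kb xb21 yb48 zb56) (kb xb18 yb13 zb9) (kb xb32 yb25 zb41) (kb xb32 yb30 zb6) (kb xb32 yb25 zb43)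 (kb xb22 yb29 zb30) (kb xb27 yb33 zb49) (kb xb31 yb44 zb43) (kb xb28 yb28 zb3) (kb xb29 yb18 zb36) (kb xb21 yb11 zb59) (kb xb21 yb11 zb58) (kb xb32 yb29 zb0) (kb xb28 yb6 zb3) (kb xb29 yb54 zb26) (kb xb28 yb25 zb48) (kb xb18 yb13 zb27) (kb xb18 yb13 zb30) (kb xb25 yb54 zb45) (kb xb26 yb4 zb21) (kb xb23 yb50 zb14)) (@D3.rec (fun _ => Pt) (kb xb20 yb45 zb22) (kb xb19 yb31 zb52) (kb xb18 yb13 zb36) (kb xb18 yb13 zb37) (kb xb24 yb54 zb55) (kb xb27 yb33 zb3) (kb xb18 yb13 zb39) (kb xb27 yb33 zb24) (kb xb30 yb39 zb35) (kb xb18 yb13 zb42) (kb xb18 yb13 zb43) (kb xb23 yb49 zb60) (kb xb27 yb34 zb46) (kb xb31 yb44 zb31) (kb xb27 yb35 zb0) (kb xb27 yb35 zb11) (kb xb27 yb34 zb25) (kb xb18 yb13 zb52) (kb xb26 yb17 zb19) (kb xb21 yb21 zb18) (kb xb29 yb55 zb49) (kb xb28 yb3 zb50)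 (kb xb28 yb6 zb57) (kb xb23 yb1 zb42) (kb xb18 yb14 zb0) (kb xb18 yb13 zb61) (kb xb28 yb4 zb21) (kb xb26 yb16 zb16) (kb xb21 yb13 zb41) (kb xb20 yb52 zb25) (kb xb32 yb30 zb11) (kb xb26 yb10 zb24) (kb xb32 yb30 zb12) (kb xb18 yb14 zb15) (kb xb18 yb14 zb19) (kb xb32 yb28 zb59) (kb xb18 yb14 zb36) (kb xb18 yb14 zb37) (kb xb30 yb55 zb8) (kb xb28 yb8 zb54) (kb xb25 yb48 zb5) (kb xb25 yb54 zb36) (kb xb27 yb33 zb27) (kb xb29 yb20 zb35) (kb xb18 yb14 zb29) (kb xb18 yb14 zb32) (kb xb29 yb51 zb10) (kb xb28 yb22 zb2) (kb xb28 yb8 zb23) (kb xb18 yb14 zb35) (kb xb31 yb27 zb46) (kb xb27 yb49 zb38) (kb xb18 yb14 zb38) (kb xb27 yb51 zb55) (kb xb27 yb3 zb18) (kb xb29 yb25 zb0) (kb xb28 yb33 zb29) (kb xb32 yb30 zb18) (kb xb26 yb31 zb3) (kb xb18 yb14 zb51) (kb xb18 yb14 zb52) (kb xb18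 yb14 zb42)) (@D3.rec (fun _ => Pt) (kb xb18 yb14 zb43) (kb xb32 yb30 zb20) (kb xb32 yb28 zb37) (kb xb22 yb7 zb23) (kb xb31 yb45 zb32) (kb xb20 yb19 zb3) (kb xb18 yb14 zb48) (kb xb32 yb17 zb15) (kb xb30 yb45 zb20) (kb xb28 yb8 zb11) (kb xb32 yb30 zb14) (kb xb18 yb14 zb49) (kb xb31 yb42 zb17) (kb xb27 yb24 zb7) (kb xb19 yb13 zb7) (kb xb32 yb7 zb4) (kb xb29 yb20 zb25) (kb xb18 yb14 zb54) (kb xb18 yb14 zb56) (kb xb32 yb19 zb57) (kb xb18 yb14 zb57) (kb xb18 yb14 zb61) (kb xb27 yb52 zb8) (kb xb31 yb1 zb17) (kb xb30 yb23 zb7) (kb xb18 yb15 zb1) (kb xb18 yb15 zb2) (kb xb25 yb46 zb0) (kb xb32 yb0 zb1) (kb xb25 yb3 zb52) (kb xb25 yb3 zb53) (kb xb23 yb50 zb51) (kb xb32 yb28 zb35) (kb xb30 yb24 zb53) (kb xb23 yb51 zb14) (kb xb18 yb15 zb21) (kb xb31 yb42 zb23) (kb xb28 yb56 zb23)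 (kb xb18 yb15 zb27) (kb xb27 yb20 zb14) (kb xb18 yb15 zb34) (kb xb24 yb46 zb30) (kb xb25 yb59 zb40) (kb xb27 yb45 zb57) (kb xb28 yb28 zb0) (kb xb28 yb28 zb1) (kb xb25 yb23 zb52) (kb xb23 yb50 zb37) (kb xb28 yb26 zb8) (kb xb18 yb49 zb35) (kb xb18 yb49 zb36) (kb xb24 yb54 zb43) (kb xb28 yb26 zb7) (kb xb18 yb42 zb35) (kb xb18 yb42 zb23) (kb xb24 yb7 zb26) (kb xb26 yb52 zb58) (kb xb27 yb23 zb15) (kb xb30 yb20 zb27) (kb xb28 yb8 zb38) (kb xb21 yb51 zb10) (kb xb29 yb51 zb59)) (@D3.rec (fun _ => Pt) (kb xb30 yb38 zb18) (kb xb31 yb50 zb8) (kb xb18 yb16 zb26) (kb xb30 yb20 zb29) (kb xb18 yb16 zb40) (kb xb22 yb2 zb36) (kb xb21 yb26 zb22) (kb xb30 yb23 zb25) (kb xb18 yb16 zb50) (kb xb20 yb26 zb5) (kb xb27 yb45 zb12) (kb xb30 yb4 zb14) (kb xb26 yb4 zb37) (kb xb27 yb20 zb27) (kb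 xb28 yb2 zb18) (kb xb27 yb47 zb31) (kb xb28 yb28 zb11) (kb xb18 yb17 zb13) (kb xb27 yb20 zb37) (kb xb27 yb46 zb7) (kb xb20 yb35 zb20) (kb xb29 yb13 zb39) (kb xb18 yb17 zb22) (kb xb28 yb20 zb12) (kb xb18 yb21 zb17) (kb xb18 yb21 zb21) (kb xb31 yb14 zb17) (kb xb18 yb25 zb9) (kb xb18 yb17 zb35) (kb xb31 yb46 zb12) (kb xb31 yb38 zb1) (kb xb31 yb2 zb60) (kb xb28 yb36 zb16) (kb xb32 yb30 zb36) (kb xb18 yb17 zb36) (kb xb32 yb30 zb37) (kb xb21 yb35 zb18) (kb xb29 yb20 zb21) (kb xb22 yb4 zb57) (kb xb24 yb23 zb35) (kb xb18 yb17 zb50) (kb xb18 yb17 zb52) (kb xb29 yb47 zb1) (kb xb20 yb59 zb39) (kb xb18 yb18 zb59) (kb xb21 yb56 zb3) (kb xb30 yb52 zb0) (kb xb18 yb18 zb0) (kb xb22 yb45 zb4) (kb xb26 yb14 zb36) (kb xb18 yb18 zb7) (kb xb29 yb6 zb27) (kb xb29 yb6 zb10) (kb xb18 yb18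 zb8) (kb xb31 yb23 zb50) (kb xb18 yb18 zb9) (kb xb19 yb24 zb29) (kb xb28 yb0 zb37) (kb xb18 yb18 zb13) (kb xb29 yb51 zb27) (kb xb23 yb29 zb38) (kb xb24 yb22 zb60)) (@D3.rec (fun _ => Pt) (kb xb19 yb59 zb10) (kb xb20 yb56 zb1) (kb xb22 yb4 zb13) (kb xb18 yb18 zb20) (kb xb23 yb20 zb48) (kb xb29 yb52 zb39) (kb xb22 yb4 zb42) (kb xb31 yb3 zb9) (kb xb18 yb18 zb24) (kb xb21 yb8 zb26) (kb xb21 yb15 zb36) (kb xb18 yb18 zb28) (kb xb23 yb19 zb58) (kb xb21 yb13 zb0) (kb xb21 yb13 zb35) (kb xb24 yb20 zb10) (kb xb18 yb18 zb34) (kb xb32 yb28 zb14) (kb xb18 yb18 zb35) (kb xb23 yb2 zb46) (kb xb30 yb3 zb6) (kb xb18 yb18 zb39) (kb xb18 yb18 zb40) (kb xb31 yb58 zb23) (kb xb22 yb39 zb16) (kb xb18 yb18 zb47) (kb xb30 yb56 zb19) (kb xb23 yb37 zb42) (kb xb21 yb29 zb31) (kb xb18 yb18 zb53)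 (kb xb23 yb2 zb14) (kb xb24 yb54 zb36) (kb xb18 yb18 zb52) (kb xb23 yb21 zb13) (kb xb30 yb13 zb32) (kb xb29 yb31 zb44) (kb xb29 yb6 zb26) (kb xb29 yb5 zb57) (kb xb18 yb18 zb58) (kb xb18 yb18 zb57) (kb xb29 yb14 zb59) (kb xb26 yb23 zb31) (kb xb30 yb52 zb23) (kb xb24 yb31 zb20) (kb xb31 yb6 zb50) (kb xb18 yb19 zb1) (kb xb19 yb1 zb50) (kb xb21 yb2 zb47) (kb xb18 yb19 zb4) (kb xb18 yb19 zb3) (kb xb26 yb27 zb34) (kb xb30 yb51 zb58) (kb xb22 yb23 zb26) (kb xb26 yb20 zb6) (kb xb32 yb4 zb44) (kb xb18 yb19 zb9) (kb xb23 yb18 zb27) (kb xb23 yb18 zb28) (kb xb23 yb21 zb35) (kb xb26 yb10 zb5) (kb xb23 yb19 zb35) (kb xb31 yb59 zb20)) (@D3.rec (fun _ => Pt) (kb xb18 yb19 zb19) (kb xb18 yb19 zb20) (kb xb18 yb19 zb17) (kb xb32 yb30 zb44) (kb xb18 yb19 zb18) (kb xb31 yb8 zb46) (kb xb32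 yb30 zb46) (kb xb29 yb10 zb16) (kb xb22 yb43 zb2) (kb xb32 yb30 zb43) (kb xb18 yb19 zb23) (kb xb23 yb29 zb16) (kb xb18 yb19 zb24) (kb xb30 yb10 zb19) (kb xb30 yb1 zb53) (kb xb27 yb58 zb45) (kb xb28 yb12 zb41) (kb xb26 yb31 zb31) (kb xb22 yb51 zb16) (kb xb18 yb19 zb35) (kb xb18 yb19 zb36) (kb xb21 yb4 zb15) (kb xb18 yb19 zb34) (kb xb20 yb30 zb18) (kb xb32 yb22 zb5) (kb xb22 yb39 zb4) (kb xb23 yb34 zb8) (kb xb19 yb1 zb37) (kb xb18 yb19 zb46) (kb xb29 yb0 zb39) (kb xb26 yb21 zb19) (kb xb28 yb53 zb18) (kb xb26 yb29 zb26) (kb xb30 yb46 zb47) (kb xb21 yb9 zb17) (kb xb27 yb21 zb43) (kb xb26 yb49 zb50) (kb xb26 yb18 zb55) (kb xb26 yb17 zb43) (kb xb26 yb58 zb13) (kb xb18 yb56 zb10) (kb xb30 yb3 zb39) (kb xb26 yb8 zb41) (kb xb28 yb10 zb49) (kb xb30 yb12 zb31) (kb xb27 yb58 zb15)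 (kb xb21 yb12 zb47) (kb xb18 yb20 zb2) (kb xb18 yb20 zb4) (kb xb30 yb49 zb24) (kb xb23 yb14 zb30) (kb xb23 yb32 zb42) (kb xb18 yb20 zb8) (kb xb24 yb59 zb19) (kb xb18 yb20 zb10) (kb xb23 yb31 zb47) (kb xb29 yb12 zb10) (kb xb18 yb20 zb14) (kb xb18 yb20 zb15) (kb xb23 yb23 zb54) (kb xb22 yb53 zb12) (kb xb27 yb15 zb36)) (@D3.rec (fun _ => Pt) (kb xb18 yb20 zb19) (kb xb18 yb20 zb21) (kb xb22 yb53 zb2) (kb xb30 yb51 zb15) (kb xb32 yb30 zb50) (kb xb28 yb37 zb29) (kb xb18 yb20 zb20) (kb xb27 yb8 zb19) (kb xb27 yb7 zb13) (kb xb18 yb20 zb23) (kb xb18 yb20 zb28) (kb xb25 yb25 zb37) (kb xb28 yb21 zb0) (kb xb18 yb32 zb9) (kb xb18 yb30 zb59) (kb xb18 yb20 zb36) (kb xb28 yb6 zb33) (kb xb23 yb7 zb20) (kb xb18 yb20 zb42) (kb xb21 yb34 zb55) (kb xb19 yb2 zb1) (kb xb30 yb53 zb28) (kb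 xb26 yb5 zb20) (kb xb21 yb13 zb26) (kb xb26 yb3 zb61) (kb xb31 yb16 zb8) (kb xb18 yb20 zb56) (kb xb18 yb20 zb57) (kb xb23 yb15 zb44) (kb xb25 yb30 zb27) (kb xb30 yb24 zb48) (kb xb28 yb21 zb28) (kb xb32 yb30 zb52) (kb xb18 yb20 zb60) (kb xb18 yb21 zb1) (kb xb24 yb31 zb3) (kb xb28 yb36 zb36) (kb xb20 yb23 zb21) (kb xb18 yb21 zb13) (kb xb18 yb21 zb14) (kb xb28 yb55 zb43) (kb xb18 yb21 zb16) (kb xb22 yb59 zb43) (kb xb22 yb57 zb47) (kb xb31 yb15 zb38) (kb xb24 yb18 zb10) (kb xb30 yb36 zb15) (kb xb18 yb21 zb18) (kb xb18 yb21 zb19) (kb xb28 yb1 zb36) (kb xb30 yb31 zb61) (kb xb28 yb8 zb60) (kb xb19 yb12 zb55) (kb xb20 yb10 zb15) (kb xb29 yb27 zb47) (kb xb29 yb38 zb39) (kb xb21 yb2 zb35) (kb xb18 yb21 zb33) (kb xb31 yb14 zb24) (kb xb18 yb21 zb36) (kb xb28 yb11 zb8) (kb xb18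 yb52 zb60))
def f_b_28 : D2 → D3 → Pt := @D2.rec (fun _ => D3 → Pt) (@D3.rec (fun _ => Pt) (kb xb28 yb26 zb16) (kb xb18 yb21 zb47) (kb xb24 yb45 zb59) (kb xb28 yb27 zb48) (kb xb18 yb21 zb60) (kb xb18 yb21 zb61) (kb xb18 yb21 zb56) (kb xb24 yb56 zb42) (kb xb28 yb12 zb56) (kb xb26 yb17 zb44) (kb xb24 yb8 zb60) (kb xb32 yb21 zb55) (kb xb18 yb56 zb13) (kb xb26 yb24 zb23) (kb xb30 yb47 zb60) (kb xb18 yb22 zb3) (kb xb27 yb41 zb47) (kb xb32 yb3 zb3) (kb xb19 yb28 zb34) (kb xb19 yb41 zb14) (kb xb32 yb8 zb59) (kb xb18 yb22 zb10) (kb xb25 yb22 zb27) (kb xb20 yb58 zb51) (kb xb28 yb24 zb61) (kb xb18 yb22 zb35) (kb xb18 yb22 zb42) (kb xb31 yb44 zb56) (kb xb20 yb33 zb6) (kb xb25 yb46 zb18) (kb xb23 yb21 zb20) (kb xb26 yb3 zb37) (kb xb18 yb22 zb53) (kb xb23 yb52 zb37) (kb xb26 yb29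 zb32) (kb xb21 yb28 zb8) (kb xb25 yb2 zb29) (kb xb27 yb56 zb57) (kb xb18 yb39 zb32) (kb xb27 yb44 zb49) (kb xb27 yb9 zb0) (kb xb18 yb23 zb8) (kb xb23 yb53 zb33) (kb xb18 yb23 zb10) (kb xb29 yb35 zb43) (kb xb30 yb5 zb41) (kb xb23 yb10 zb30) (kb xb30 yb56 zb3) (kb xb22 yb56 zb3) (kb xb29 yb55 zb41) (kb xb23 yb2 zb56) (kb xb24 yb58 zb57) (kb xb23 yb19 zb57) (kb xb18 yb59 zb59) (kb xb18 yb23 zb49) (kb xb22 yb41 zb59) (kb xb29 yb14 zb47) (kb xb22 yb30 zb25) (kb xb18 yb23 zb57) (kb xb20 yb24 zb48) (kb xb20 yb34 zb57) (kb xb20 yb45 zb51)) (@D3.rec (fun _ => Pt) (kb xb18 yb24 zb22) (kb xb32 yb6 zb5) (kb xb24 yb19 zb11) (kb xb30 yb24 zb39) (kb xb23 yb38 zb45) (kb xb18 yb24 zb28) (kb xb24 yb58 zb55) (kb xb23 yb53 zb60) (kb xb21 yb35 zb19) (kb xb21 yb17 zb48) (kb xb26 yb55 zb10)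 (kb xb21 yb43 zb58) (kb xb18 yb24 zb55) (kb xb22 yb5 zb20) (kb xb28 yb10 zb31) (kb xb19 yb25 zb8) (kb xb21 yb41 zb31) (kb xb20 yb38 zb4) (kb xb18 yb25 zb3) (kb xb29 yb42 zb51) (kb xb22 yb46 zb38) (kb xb22 yb57 zb0) (kb xb23 yb56 zb15) (kb xb21 yb20 zb54) (kb xb32 yb30 zb61) (kb xb20 yb16 zb22) (kb xb21 yb50 zb18) (kb xb19 yb38 zb24) (kb xb18 yb25 zb30) (kb xb24 yb30 zb54) (kb xb25 yb37 zb21) (kb xb20 yb40 zb60) (kb xb21 yb22 zb30) (kb xb20 yb37 zb43) (kb xb18 yb26 zb19) (kb xb18 yb25 zb49) (kb xb27 yb59 zb49) (kb xb18 yb25 zb60) (kb xb18 yb25 zb59) (kb xb26 yb52 zb10) (kb xb18 yb26 zb12) (kb xb20 yb37 zb53) (kb xb24 yb2 zb20) (kb xb18 yb26 zb25) (kb xb30 yb59 zb54) (kb xb31 yb7 zb43) (kb xb26 yb18 zb45) (kb xb31 yb35 zb22) (kb xb26 yb12 zb23) (kb xb30 yb2 zb28) (kb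 xb31 yb6 zb60) (kb xb18 yb26 zb41) (kb xb32 yb6 zb36) (kb xb28 yb12 zb4) (kb xb26 yb13 zb13) (kb xb24 yb44 zb57) (kb xb18 yb26 zb51) (kb xb31 yb8 zb9) (kb xb31 yb0 zb1) (kb xb23 yb44 zb15) (kb xb27 yb50 zb34) (kb xb18 yb26 zb53)) (@D3.rec (fun _ => Pt) (kb xb25 yb10 zb58) (kb xb18 yb32 zb11) (kb xb18 yb26 zb61) (kb xb30 yb57 zb50) (kb xb23 yb43 zb53) (kb xb30 yb42 zb25) (kb xb24 yb59 zb58) (kb xb18 yb27 zb3) (kb xb30 yb57 zb54) (kb xb18 yb29 zb16) (kb xb18 yb27 zb4) (kb xb30 yb57 zb58) (kb xb22 yb28 zb30) (kb xb24 yb59 zb42) (kb xb23 yb15 zb32) (kb xb24 yb31 zb21) (kb xb31 yb1 zb30) (kb xb23 yb52 zb7) (kb xb27 yb56 zb14) (kb xb18 yb30 zb42) (kb xb18 yb27 zb11) (kb xb18 yb27 zb12) (kb xb18 yb27 zb13) (kb xb23 yb50 zb42) (kb xb24 yb22 zb52) (kb xb27 yb48 zb4) (kb xb18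 yb27 zb16) (kb xb22 yb47 zb35) (kb xb28 yb26 zb54) (kb xb18 yb27 zb61) (kb xb31 yb32 zb60) (kb xb18 yb27 zb27) (kb xb18 yb27 zb31) (kb xb25 yb1 zb24) (kb xb31 yb12 zb20) (kb xb18 yb27 zb38) (kb xb18 yb27 zb39) (kb xb18 yb27 zb50) (kb xb18 yb28 zb20) (kb xb32 yb31 zb9) (kb xb18 yb47 zb44) (kb xb29 yb49 zb9) (kb xb22 yb33 zb2) (kb xb18 yb27 zb54) (kb xb29 yb29 zb52) (kb xb18 yb27 zb55) (kb xb32 yb31 zb11) (kb xb23 yb48 zb39) (kb xb32 yb31 zb12) (kb xb30 yb35 zb43) (kb xb18 yb28 zb2) (kb xb18 yb28 zb1) (kb xb22 yb19 zb21) (kb xb30 yb48 zb29) (kb xb18 yb28 zb54) (kb xb18 yb28 zb55) (kb xb30 yb58 zb4) (kb xb32 yb0 zb54) (kb xb27 yb4 zb48) (kb xb23 yb18 zb23) (kb xb25 yb0 zb8) (kb xb23 yb15 zb28)) (@D3.rec (fun _ => Pt) (kb xb18 yb28 zb21) (kb xb18 yb28 zb11) (kb xb18 yb29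 zb55) (kb xb18 yb28 zb28) (kb xb18 yb28 zb47) (kb xb25 yb0 zb1) (kb xb32 yb31 zb14) (kb xb28 yb27 zb41) (kb xb21 yb19 zb55) (kb xb18 yb30 zb7) (kb xb23 yb45 zb6) (kb xb18 yb47 zb6) (kb xb18 yb28 zb23) (kb xb26 yb16 zb22) (kb xb22 yb34 zb56) (kb xb26 yb13 zb33) (kb xb18 yb34 zb2) (kb xb30 yb45 zb58) (kb xb27 yb34 zb61) (kb xb18 yb28 zb27) (kb xb32 yb4 zb55) (kb xb27 yb34 zb35) (kb xb18 yb28 zb30) (kb xb29 yb38 zb44) (kb xb32 yb29 zb6) (kb xb18 yb28 zb31) (kb xb27 yb47 zb10) (kb xb31 yb14 zb60) (kb xb30 yb19 zb40) (kb xb26 yb13 zb38) (kb xb18 yb28 zb40) (kb xb30 yb25 zb2) (kb xb27 yb27 zb58) (kb xb28 yb7 zb32) (kb xb27 yb34 zb3) (kb xb30 yb35 zb38) (kb xb32 yb25 zb45) (kb xb18 yb29 zb0) (kb xb32 yb6 zb28) (kb xb18 yb34 zb11) (kb xb18 yb29 zb4) (kb xb27 yb15 zb2) (kb xb18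 yb54 zb55) (kb xb27 yb47 zb43) (kb xb27 yb48 zb47) (kb xb26 yb7 zb14) (kb xb31 yb0 zb44) (kb xb18 yb29 zb25) (kb xb22 yb23 zb34) (kb xb18 yb29 zb28) (kb xb27 yb54 zb21) (kb xb18 yb50 zb11) (kb xb27 yb46 zb49) (kb xb27 yb50 zb32) (kb xb30 yb4 zb22) (kb xb22 yb28 zb29) (kb xb30 yb31 zb56) (kb xb30 yb4 zb21) (kb xb23 yb18 zb1) (kb xb27 yb4 zb41) (kb xb18 yb29 zb39) (kb xb22 yb28 zb60)) (@D3.rec (fun _ => Pt) (kb xb27 yb4 zb38) (kb xb31 yb44 zb19) (kb xb18 yb29 zb43) (kb xb31 yb44 zb46) (kb xb32 yb3 zb38) (kb xb18 yb29 zb48) (kb xb32 yb31 zb28) (kb xb21 yb56 zb2) (kb xb21 yb41 zb32) (kb xb24 yb15 zb30) (kb xb19 yb47 zb50) (kb xb23 yb52 zb34) (kb xb18 yb30 zb3) (kb xb31 yb57 zb52) (kb xb32 yb31 zb29) (kb xb31 yb11 zb61) (kb xb18 yb30 zb6) (kb xb21 yb33 zb51) (kb xb21 yb55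 zb53) (kb xb18 yb30 zb13) (kb xb30 yb44 zb24) (kb xb27 yb54 zb26) (kb xb18 yb30 zb15) (kb xb27 yb53 zb27) (kb xb28 yb36 zb51) (kb xb26 yb17 zb36) (kb xb18 yb30 zb22) (kb xb20 yb45 zb43) (kb xb32 yb31 zb30) (kb xb32 yb10 zb5) (kb xb26 yb21 zb7) (kb xb26 yb32 zb42) (kb xb32 yb26 zb13) (kb xb27 yb51 zb27) (kb xb24 yb48 zb19) (kb xb18 yb30 zb34) (kb xb31 yb11 zb6) (kb xb18 yb30 zb35) (kb xb32 yb31 zb32) (kb xb32 yb10 zb13) (kb xb31 yb58 zb9) (kb xb18 yb30 zb36) (kb xb26 yb20 zb52) (kb xb18 yb30 zb37) (kb xb18 yb31 zb22) (kb xb29 yb52 zb60) (kb xb27 yb52 zb54) (kb xb19 yb7 zb24) (kb xb18 yb30 zb41) (kb xb27 yb53 zb6) (kb xb29 yb16 zb6) (kb xb28 yb8 zb32) (kb xb28 yb8 zb31) (kb xb22 yb41 zb7) (kb xb19 yb24 zb14) (kb xb31 yb18 zb13) (kb xb19 yb6 zb60) (kb xb32 yb26 zb0) (kb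 xb27 yb52 zb9) (kb xb18 yb30 zb53) (kb xb18 yb30 zb56) (kb xb32 yb31 zb41)) (@D3.rec (fun _ => Pt) (kb xb32 yb7 zb31) (kb xb18 yb30 zb54) (kb xb32 yb31 zb42) (kb xb18 yb30 zb55) (kb xb32 yb7 zb46) (kb xb18 yb30 zb58) (kb xb30 yb44 zb61) (kb xb27 yb52 zb44) (kb xb28 yb15 zb16) (kb xb21 yb15 zb30) (kb xb18 yb53 zb18) (kb xb18 yb30 zb61) (kb xb30 yb24 zb61) (kb xb31 yb14 zb41) (kb xb27 yb50 zb61) (kb xb26 yb30 zb57) (kb xb32 yb9 zb42) (kb xb28 yb8 zb16) (kb xb18 yb31 zb5) (kb xb27 yb6 zb9) (kb xb30 yb53 zb21) (kb xb32 yb7 zb23) (kb xb18 yb31 zb8) (kb xb25 yb0 zb14) (kb xb29 yb52 zb61) (kb xb32 yb31 zb44) (kb xb27 yb52 zb42) (kb xb22 yb51 zb54) (kb xb32 yb6 zb11) (kb xb18 yb31 zb11) (kb xb18 yb31 zb12) (kb xb32 yb31 zb45) (kb xb18 yb31 zb13) (kb xb18 yb31 zb16) (kb xb28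 yb28 zb43) (kb xb32 yb31 zb37) (kb xb26 yb19 zb27) (kb xb21 yb28 zb53) (kb xb32 yb31 zb36) (kb xb27 yb32 zb34) (kb xb27 yb34 zb12) (kb xb18 yb31 zb23) (kb xb18 yb31 zb24) (kb xb29 yb52 zb59) (kb xb30 yb36 zb6) (kb xb19 yb6 zb44) (kb xb19 yb3 zb13) (kb xb18 yb31 zb28) (kb xb32 yb31 zb50) (kb xb30 yb36 zb17) (kb xb32 yb31 zb23) (kb xb32 yb31 zb48) (kb xb18 yb31 zb30) (kb xb26 yb43 zb45) (kb xb32 yb31 zb56) (kb xb18 yb31 zb31) (kb xb19 yb30 zb23) (kb xb27 yb39 zb46) (kb xb29 yb52 zb57) (kb xb18 yb31 zb32) (kb xb29 yb1 zb54) (kb xb28 yb7 zb25)) (@D3.rec (fun _ => Pt) (kb xb26 yb13 zb51) (kb xb31 yb14 zb28) (kb xb28 yb32 zb6) (kb xb27 yb53 zb54) (kb xb18 yb31 zb36) (kb xb31 yb14 zb42) (kb xb30 yb35 zb23) (kb xb31 yb14 zb49) (kb xb18 yb31 zb40) (kb xb31 yb15 zb6) (kb xb27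 yb34 zb39) (kb xb29 yb20 zb27) (kb xb31 yb8 zb15) (kb xb28 yb7 zb33) (kb xb27 yb35 zb9) (kb xb26 yb18 zb37) (kb xb31 yb7 zb38) (kb xb18 yb31 zb45) (kb xb18 yb47 zb11) (kb xb32 yb3 zb50) (kb xb18 yb31 zb48) (kb xb18 yb31 zb49) (kb xb32 yb32 zb1) (kb xb26 yb16 zb23) (kb xb32 yb32 zb3) (kb xb21 yb4 zb44) (kb xb27 yb46 zb3) (kb xb22 yb52 zb1) (kb xb18 yb31 zb56) (kb xb27 yb51 zb31) (kb xb18 yb31 zb58) (kb xb28 yb44 zb56) (kb xb24 yb45 zb45) (kb xb27 yb59 zb16) (kb xb21 yb28 zb60) (kb xb27 yb20 zb17) (kb xb20 yb46 zb49) (kb xb25 yb25 zb29) (kb xb18 yb32 zb5) (kb xb31 yb59 zb13) (kb xb18 yb32 zb8) (kb xb32 yb29 zb60) (kb xb18 yb32 zb12) (kb xb23 yb52 zb8) (kb xb27 yb28 zb55) (kb xb20 yb38 zb10) (kb xb18 yb32 zb23) (kb xb18 yb32 zb17) (kb xb32 yb22 zb50) (kb xb32 yb10 zb8)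 (kb xb27 yb51 zb30) (kb xb32 yb25 zb61) (kb xb26 yb32 zb8) (kb xb18 yb32 zb20) (kb xb18 yb32 zb21) (kb xb30 yb44 zb32) (kb xb27 yb52 zb13) (kb xb27 yb54 zb22) (kb xb27 yb50 zb59) (kb xb18 yb32 zb27) (kb xb26 yb30 zb19) (kb xb24 yb53 zb61)) (@D3.rec (fun _ => Pt) (kb xb18 yb32 zb38) (kb xb21 yb8 zb16) (kb xb18 yb32 zb40) (kb xb26 yb13 zb4) (kb xb26 yb12 zb39) (kb xb31 yb43 zb58) (kb xb27 yb51 zb22) (kb xb21 yb7 zb43) (kb xb26 yb21 zb4) (kb xb27 yb50 zb57) (kb xb18 yb32 zb54) (kb xb18 yb32 zb55) (kb xb26 yb18 zb16) (kb xb18 yb32 zb53) (kb xb32 yb27 zb37) (kb xb31 yb50 zb18) (kb xb31 yb24 zb60) (kb xb18 yb32 zb56) (kb xb32 yb23 zb15) (kb xb29 yb54 zb9) (kb xb18 yb32 zb58) (kb xb26 yb15 zb34) (kb xb18 yb32 zb60) (kb xb25 yb28 zb11) (kb xb31 yb50 zb31) (kb xb28 yb5 zb61)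 (kb xb18 yb33 zb5) (kb xb32 yb26 zb31) (kb xb29 yb53 zb3) (kb xb32 yb10 zb15) (kb xb23 yb50 zb26) (kb xb18 yb33 zb58) (kb xb28 yb3 zb33) (kb xb28 yb6 zb13) (kb xb32 yb6 zb12) (kb xb18 yb33 zb16) (kb xb18 yb33 zb17) (kb xb18 yb33 zb11) (kb xb27 yb50 zb18) (kb xb19 yb51 zb1) (kb xb18 yb33 zb14) (kb xb24 yb55 zb10) (kb xb18 yb34 zb1) (kb xb18 yb33 zb19) (kb xb31 yb8 zb16) (kb xb24 yb55 zb11) (kb xb31 yb45 zb9) (kb xb18 yb33 zb21) (kb xb32 yb28 zb60) (kb xb18 yb44 zb47) (kb xb19 yb4 zb4) (kb xb20 yb21 zb35) (kb xb18 yb33 zb29) (kb xb25 yb22 zb33) (kb xb32 yb32 zb8) (kb xb26 yb3 zb16) (kb xb27 yb49 zb29) (kb xb28 yb44 zb51) (kb xb32 yb21 zb45) (kb xb26 yb21 zb5) (kb xb31 yb47 zb13) (kb xb26 yb18 zb14)) (@D3.rec (fun _ => Pt) (kb xb27 yb53 zb28) (kb xb32 yb7 zb28) (kb xb18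 yb33 zb51) (kb xb30 yb23 zb24) (kb xb18 yb33 zb55) (kb xb25 yb52 zb33) (kb xb32 yb6 zb45) (kb xb18 yb34 zb16) (kb xb18 yb34 zb17) (kb xb19 yb8 zb31) (kb xb27 yb39 zb44) (kb xb27 yb55 zb9) (kb xb29 yb52 zb48) (kb xb32 yb32 zb6) (kb xb26 yb28 zb51) (kb xb18 yb34 zb5) (kb xb28 yb5 zb17) (kb xb29 yb18 zb4) (kb xb29 yb25 zb17) (kb xb25 yb1 zb10) (kb xb32 yb26 zb28) (kb xb32 yb32 zb10) (kb xb30 yb10 zb12) (kb xb27 yb54 zb48) (kb xb18 yb34 zb14) (kb xb19 yb13 zb14) (kb xb32 yb26 zb35) (kb xb32 yb32 zb12) (kb xb18 yb47 zb14) (kb xb31 yb25 zb34) (kb xb32 yb29 zb49) (kb xb28 yb4 zb52) (kb xb28 yb4 zb51) (kb xb30 yb36 zb5) (kb xb31 yb23 zb38) (kb xb18 yb34 zb26) (kb xb18 yb34 zb27) (kb xb18 yb34 zb20) (kb xb27 yb55 zb59) (kb xb18 yb35 zb61) (kb xb29 yb54 zb22) (kb xb26 yb31 zb27)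 (kb xb26 yb45 zb23) (kb xb18 yb34 zb35) (kb xb21 yb14 zb60) (kb xb30 yb26 zb21) (kb xb30 yb26 zb23) (kb xb30 yb26 zb24) (kb xb26 yb45 zb24) (kb xb30 yb44 zb41) (kb xb26 yb32 zb4) (kb xb31 yb42 zb8) (kb xb18 yb34 zb31) (kb xb18 yb34 zb32) (kb xb27 yb54 zb39) (kb xb18 yb34 zb33) (kb xb32 yb0 zb35) (kb xb31 yb32 zb17) (kb xb18 yb34 zb37) (kb xb30 yb45 zb35) (kb xb27 yb59 zb51) (kb xb18 yb34 zb39)) (@D3.rec (fun _ => Pt) (kb xb23 yb5 zb54) (kb xb32 yb7 zb54) (kb xb18 yb34 zb40) (kb xb22 yb7 zb49) (kb xb32 yb30 zb26) (kb xb32 yb32 zb17) (kb xb32 yb6 zb43) (kb xb29 yb18 zb3) (kb xb27 yb51 zb26) (kb xb27 yb51 zb37) (kb xb27 yb51 zb32) (kb xb32 yb26 zb48) (kb xb20 yb17 zb40) (kb xb24 yb28 zb24) (kb xb26 yb30 zb39) (kb xb31 yb1 zb16) (kb xb30 yb31 zb54) (kb xb31 yb47 zb15) (kb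 xb18 yb47 zb4) (kb xb18 yb35 zb8) (kb xb18 yb35 zb11) (kb xb21 yb38 zb6) (kb xb32 yb32 zb20) (kb xb25 yb3 zb23) (kb xb31 yb42 zb10) (kb xb29 yb54 zb10) (kb xb29 yb54 zb11) (kb xb26 yb18 zb25) (kb xb18 yb35 zb27) (kb xb32 yb25 zb26) (kb xb23 yb36 zb55) (kb xb18 yb35 zb31) (kb xb22 yb49 zb49) (kb xb18 yb35 zb34) (kb xb32 yb29 zb40) (kb xb32 yb26 zb39) (kb xb18 yb35 zb39) (kb xb27 yb35 zb24) (kb xb18 yb36 zb47) (kb xb19 yb1 zb53) (kb xb19 yb2 zb20) (kb xb18 yb51 zb48) (kb xb28 yb26 zb18) (kb xb26 yb46 zb35) (kb xb31 yb58 zb39) (kb xb29 yb7 zb37) (kb xb24 yb45 zb57) (kb xb26 yb17 zb20) (kb xb28 yb27 zb52) (kb xb26 yb3 zb44) (kb xb18 yb56 zb19) (kb xb18 yb52 zb2) (kb xb18 yb42 zb50) (kb xb18 yb36 zb9) (kb xb18 yb36 zb13) (kb xb20 yb17 zb9) (kb xb18 yb37 zb18) (kb xb18 yb36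 zb25) (kb xb32 yb32 zb24) (kb xb21 yb26 zb37) (kb xb18 yb36 zb36) (kb xb21 yb24 zb59)) (@D3.rec (fun _ => Pt) (kb xb21 yb26 zb50) (kb xb27 yb29 zb50) (kb xb28 yb20 zb43) (kb xb18 yb36 zb51) (kb xb21 yb6 zb28) (kb xb31 yb0 zb50) (kb xb25 yb16 zb23) (kb xb27 yb48 zb55) (kb xb21 yb34 zb49) (kb xb20 yb12 zb53) (kb xb18 yb37 zb20) (kb xb18 yb37 zb21) (kb xb31 yb59 zb53) (kb xb30 yb42 zb47) (kb xb18 yb57 zb11) (kb xb23 yb35 zb47) (kb xb21 yb6 zb54) (kb xb21 yb8 zb0) (kb xb18 yb37 zb54) (kb xb18 yb37 zb55) (kb xb18 yb43 zb40) (kb xb29 yb6 zb9) (kb xb27 yb41 zb5) (kb xb18 yb37 zb58) (kb xb27 yb42 zb21) (kb xb21 yb45 zb55) (kb xb18 yb38 zb25) (kb xb21 yb54 zb43) (kb xb18 yb38 zb10) (kb xb27 yb29 zb8) (kb xb18 yb38 zb19) (kb xb28 yb1 zb14) (kb xb18 yb38 zb27) (kb xb18 yb38 zb33)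 (kb xb31 yb53 zb8) (kb xb31 yb5 zb18) (kb xb32 yb32 zb28) (kb xb20 yb21 zb18) (kb xb23 yb15 zb53) (kb xb23 yb52 zb15) (kb xb28 yb25 zb57) (kb xb20 yb8 zb16) (kb xb25 yb0 zb10) (kb xb18 yb38 zb54) (kb xb18 yb38 zb55) (kb xb23 yb32 zb45) (kb xb23 yb14 zb23) (kb xb30 yb58 zb51) (kb xb18 yb39 zb1) (kb xb27 yb58 zb43) (kb xb25 yb14 zb37) (kb xb30 yb58 zb28) (kb xb28 yb26 zb10) (kb xb21 yb56 zb44) (kb xb29 yb52 zb38) (kb xb18 yb39 zb0) (kb xb32 yb32 zb34) (kb xb30 yb2 zb13) (kb xb22 yb56 zb9) (kb xb18 yb39 zb4) (kb xb30 yb47 zb27) (kb xb18 yb59 zb58)) (@D3.rec (fun _ => Pt) (kb xb18 yb39 zb6) (kb xb26 yb47 zb57) (kb xb23 yb10 zb23) (kb xb32 yb32 zb35) (kb xb24 yb27 zb10) (kb xb19 yb11 zb34) (kb xb27 yb50 zb35) (kb xb27 yb37 zb47) (kb xb27 yb59 zb60) (kb xb27 yb37 zb35) (kb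 xb24 yb29 zb6) (kb xb28 yb12 zb36) (kb xb31 yb33 zb52) (kb xb18 yb39 zb25) (kb xb18 yb39 zb27) (kb xb32 yb32 zb36) (kb xb19 yb9 zb25) (kb xb19 yb22 zb31) (kb xb22 yb10 zb37) (kb xb18 yb39 zb37) (kb xb18 yb39 zb49) (kb xb21 yb41 zb6) (kb xb20 yb58 zb12) (kb xb19 yb23 zb49) (kb xb18 yb39 zb60) (kb xb18 yb40 zb0) (kb xb18 yb40 zb1) (kb xb19 yb31 zb22) (kb xb31 yb9 zb23) (kb xb26 yb1 zb41) (kb xb31 yb29 zb51) (kb xb27 yb21 zb4) (kb xb18 yb40 zb6) (kb xb18 yb40 zb7) (kb xb28 yb12 zb33) (kb xb23 yb17 zb23) (kb xb29 yb52 zb2) (kb xb22 yb5 zb27) (kb xb18 yb40 zb10) (kb xb23 yb14 zb15) (kb xb26 yb23 zb11) (kb xb18 yb40 zb18) (kb xb26 yb48 zb32) (kb xb18 yb40 zb14) (kb xb18 yb40 zb16) (kb xb18 yb40 zb17) (kb xb32 yb32 zb39) (kb xb30 yb17 zb42) (kb xb19 yb54 zb38) (kb xb32 yb32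 zb40) (kb xb30 yb42 zb18) (kb xb32 yb14 zb52) (kb xb29 yb10 zb46) (kb xb18 yb40 zb21) (kb xb29 yb55 zb21) (kb xb18 yb40 zb22) (kb xb19 yb54 zb45) (kb xb31 yb8 zb33) (kb xb18 yb40 zb23) (kb xb32 yb3 zb9) (kb xb25 yb38 zb0) (kb xb32 yb32 zb44)) (@D3.rec (fun _ => Pt) (kb xb30 yb41 zb0) (kb xb18 yb40 zb27) (kb xb22 yb11 zb40) (kb xb29 yb39 zb15) (kb xb28 yb1 zb53) (kb xb18 yb40 zb30) (kb xb18 yb40 zb32) (kb xb22 yb15 zb39) (kb xb29 yb19 zb2) (kb xb24 yb59 zb38) (kb xb20 yb32 zb47) (kb xb30 yb59 zb5) (kb xb29 yb24 zb13) (kb xb18 yb40 zb41) (kb xb24 yb47 zb8) (kb xb22 yb31 zb57) (kb xb26 yb45 zb44) (kb xb23 yb19 zb25) (kb xb18 yb58 zb58) (kb xb23 yb16 zb39) (kb xb23 yb15 zb4) (kb xb21 yb28 zb47) (kb xb23 yb8 zb8) (kb xb31 yb33 zb48) (kb xb18 yb40 zb55) (kb xb23 yb26 zb39)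 (kb xb18 yb40 zb57) (kb xb30 yb13 zb18) (kb xb18 yb40 zb58) (kb xb27 yb40 zb41) (kb xb22 yb47 zb10) (kb xb19 yb51 zb25) (kb xb24 yb31 zb12) (kb xb28 yb11 zb34) (kb xb31 yb34 zb5) (kb xb28 yb18 zb13) (kb xb28 yb11 zb11) (kb xb23 yb15 zb58) (kb xb20 yb21 zb4) (kb xb26 yb29 zb1) (kb xb21 yb8 zb15) (kb xb27 yb58 zb16) (kb xb22 yb51 zb35) (kb xb18 yb41 zb17) (kb xb18 yb41 zb18) (kb xb18 yb41 zb15) (kb xb23 yb50 zb31) (kb xb26 yb21 zb40) (kb xb18 yb41 zb24) (kb xb19 yb51 zb40) (kb xb25 yb58 zb29) (kb xb31 yb0 zb23) (kb xb18 yb41 zb28) (kb xb31 yb59 zb51) (kb xb21 yb12 zb15) (kb xb18 yb41 zb31) (kb xb28 yb0 zb8) (kb xb23 yb4 zb3) (kb xb28 yb32 zb19) (kb xb29 yb8 zb16) (kb xb27 yb23 zb45) (kb xb18 yb41 zb36)) (@D3.rec (fun _ => Pt) (kb xb18 yb41 zb41) (kb xb18 yb41 zb46) (kb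 xb18 yb41 zb49) (kb xb28 yb28 zb17) (kb xb27 yb11 zb51) (kb xb18 yb41 zb60) (kb xb18 yb42 zb5) (kb xb25 yb15 zb60) (kb xb28 yb22 zb55) (kb xb23 yb58 zb28) (kb xb24 yb22 zb57) (kb xb18 yb42 zb7) (kb xb28 yb39 zb37) (kb xb18 yb42 zb19) (kb xb18 yb42 zb22) (kb xb18 yb42 zb25) (kb xb18 yb42 zb44) (kb xb30 yb32 zb12) (kb xb22 yb45 zb51) (kb xb23 yb21 zb45) (kb xb18 yb42 zb34) (kb xb18 yb42 zb32) (kb xb32 yb30 zb32) (kb xb31 yb8 zb23) (kb xb26 yb47 zb12) (kb xb32 yb32 zb49) (kb xb31 yb37 zb46) (kb xb23 yb39 zb49) (kb xb21 yb49 zb29) (kb xb18 yb42 zb38) (kb xb18 yb42 zb39) (kb xb30 yb33 zb30) (kb xb25 yb39 zb13) (kb xb30 yb59 zb58) (kb xb18 yb42 zb41) (kb xb31 yb10 zb10) (kb xb23 yb15 zb42) (kb xb24 yb30 zb40) (kb xb20 yb33 zb32) (kb xb24 yb5 zb51) (kb xb18 yb42 zb49) (kb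 xb29 yb24 zb8) (kb xb29 yb1 zb41) (kb xb25 yb59 zb42) (kb xb28 yb33 zb30) (kb xb18 yb42 zb58) (kb xb21 yb2 zb50) (kb xb26 yb7 zb38) (kb xb29 yb30 zb11) (kb xb24 yb31 zb5) (kb xb19 yb48 zb17) (kb xb23 yb3 zb43) (kb xb26 yb26 zb31) (kb xb22 yb31 zb60) (kb xb23 yb58 zb44) (kb xb21 yb57 zb27) (kb xb22 yb6 zb43) (kb xb18 yb43 zb25) (kb xb27 yb5 zb31) (kb xb18 yb43 zb48) (kb xb18 yb43 zb55) (kb xb31 yb46 zb32)) (@D3.rec (fun _ => Pt) (kb xb29 yb42 zb8) (kb xb29 yb34 zb54) (kb xb24 yb56 zb48) (kb xb24 yb38 zb7) (kb xb19 yb44 zb14) (kb xb18 yb44 zb6) (kb xb19 yb53 zb55) (kb xb19 yb53 zb56) (kb xb27 yb1 zb61) (kb xb22 yb48 zb43) (kb xb23 yb5 zb60) (kb xb26 yb56 zb5) (kb xb19 yb33 zb43) (kb xb18 yb44 zb11) (kb xb20 yb10 zb6) (kb xb25 yb43 zb8) (kb xb29 yb23 zb54) (kb xb25 yb56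 zb1) (kb xb25 yb20 zb20) (kb xb19 yb50 zb23) (kb xb31 yb48 zb3) (kb xb28 yb59 zb31) (kb xb18 yb44 zb22) (kb xb25 yb4 zb34) (kb xb24 yb51 zb29) (kb xb19 yb42 zb13) (kb xb19 yb21 zb10) (kb xb19 yb21 zb8) (kb xb19 yb42 zb43) (kb xb29 yb0 zb27) (kb xb28 yb55 zb39) (kb xb29 yb7 zb48) (kb xb18 yb44 zb33) (kb xb18 yb44 zb34) (kb xb29 yb25 zb47) (kb xb18 yb44 zb36) (kb xb18 yb44 zb39) (kb xb28 yb26 zb59) (kb xb18 yb49 zb55) (kb xb26 yb15 zb50) (kb xb28 yb26 zb60) (kb xb18 yb46 zb46) (kb xb31 yb38 zb50) (kb xb18 yb50 zb2) (kb xb18 yb44 zb55) (kb xb18 yb44 zb56) (kb xb30 yb38 zb33) (kb xb32 yb32 zb61) (kb xb32 yb32 zb60) (kb xb18 yb48 zb3) (kb xb18 yb48 zb4) (kb xb26 yb23 zb33) (kb xb18 yb45 zb1) (kb xb19 yb19 zb41) (kb xb18 yb45 zb3) (kb xb30 yb50 zb47) (kb xb18 yb48 zb18) (kb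 xb18 yb45 zb5) (kb xb30 yb54 zb4) (kb xb18 yb45 zb9) (kb xb18 yb45 zb7) (kb xb28 yb22 zb30)) (@D3.rec (fun _ => Pt) (kb xb18 yb48 zb25) (kb xb28 yb18 zb41) (kb xb18 yb45 zb12) (kb xb18 yb45 zb13) (kb xb32 yb17 zb21) (kb xb24 yb8 zb39) (kb xb20 yb13 zb31) (kb xb18 yb48 zb34) (kb xb29 yb3 zb0) (kb xb30 yb11 zb59) (kb xb18 yb45 zb22) (kb xb22 yb0 zb2) (kb xb24 yb11 zb17) (kb xb23 yb27 zb39) (kb xb27 yb5 zb39) (kb xb18 yb45 zb34) (kb xb28 yb5 zb8) (kb xb22 yb34 zb49) (kb xb28 yb21 zb58) (kb xb27 yb50 zb47) (kb xb23 yb33 zb61) (kb xb18 yb45 zb42) (kb xb23 yb33 zb55) (kb xb19 yb15 zb20) (kb xb28 yb46 zb11) (kb xb18 yb45 zb47) (kb xb26 yb49 zb6) (kb xb23 yb11 zb50) (kb xb18 yb45 zb52) (kb xb19 yb5 zb1) (kb xb27 yb49 zb48) (kb xb20 yb21 zb23) (kb xb18 yb45 zb55) (kb xb21 yb10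 zb51) (kb xb20 yb11 zb7) (kb xb32 yb25 zb42) (kb xb32 yb31 zb16) (kb xb19 yb10 zb7) (kb xb18 yb45 zb59) (kb xb29 yb24 zb52) (kb xb32 yb5 zb61) (kb xb22 yb21 zb1) (kb xb18 yb46 zb1) (kb xb19 yb15 zb52) (kb xb29 yb39 zb27) (kb xb19 yb34 zb7) (kb xb32 yb15 zb19) (kb xb18 yb46 zb4) (kb xb30 yb32 zb31) (kb xb32 yb33 zb5) (kb xb32 yb23 zb23) (kb xb19 yb50 zb18) (kb xb18 yb46 zb10) (kb xb26 yb19 zb26) (kb xb24 yb16 zb38) (kb xb29 yb28 zb43) (kb xb28 yb38 zb24) (kb xb28 yb38 zb46) (kb xb19 yb27 zb6) (kb xb18 yb46 zb28) (kb xb27 yb21 zb36) (kb xb25 yb12 zb31)) (@D3.rec (fun _ => Pt) (kb xb18 yb46 zb30) (kb xb18 yb46 zb31) (kb xb24 yb39 zb50) (kb xb24 yb16 zb14) (kb xb20 yb42 zb31) (kb xb24 yb13 zb32) (kb xb28 yb22 zb20) (kb xb18 yb46 zb36) (kb xb28 yb20 zb14) (kb xb19 yb12 zb56)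 (kb xb19 yb21 zb43) (kb xb31 yb38 zb56) (kb xb18 yb46 zb40) (kb xb30 yb29 zb42) (kb xb32 yb33 zb11) (kb xb18 yb46 zb43) (kb xb30 yb1 zb10) (kb xb18 yb49 zb56) (kb xb18 yb56 zb54) (kb xb21 yb52 zb18) (kb xb32 yb32 zb56) (kb xb21 yb20 zb43) (kb xb30 yb36 zb51) (kb xb32 yb33 zb12) (kb xb18 yb46 zb55) (kb xb31 yb27 zb61) (kb xb30 yb37 zb54) (kb xb29 yb7 zb33) (kb xb28 yb52 zb6) (kb xb18 yb47 zb1) (kb xb22 yb16 zb10) (kb xb24 yb2 zb5) (kb xb30 yb14 zb44) (kb xb18 yb46 zb57) (kb xb28 yb52 zb61) (kb xb27 yb6 zb44) (kb xb18 yb46 zb60) (kb xb30 yb5 zb48) (kb xb32 yb33 zb13) (kb xb24 yb29 zb49) (kb xb19 yb12 zb49) (kb xb29 yb48 zb23) (kb xb21 yb38 zb30) (kb xb18 yb47 zb0) (kb xb32 yb20 zb23) (kb xb30 yb5 zb58) (kb xb18 yb47 zb3) (kb xb27 yb7 zb0) (kb xb21 yb38 zb28) (kb xb31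 yb39 zb16) (kb xb31 yb39 zb17) (kb xb32 yb32 zb27) (kb xb19 yb8 zb58) (kb xb18 yb47 zb10) (kb xb29 yb25 zb18) (kb xb26 yb31 zb6) (kb xb28 yb59 zb9) (kb xb28 yb20 zb10) (kb xb30 yb48 zb8) (kb xb28 yb22 zb11) (kb xb19 yb13 zb15) (kb xb27 yb12 zb29)) (@D3.rec (fun _ => Pt) (kb xb28 yb27 zb4) (kb xb24 yb44 zb19) (kb xb20 yb20 zb8) (kb xb30 yb37 zb31) (kb xb18 yb47 zb28) (kb xb18 yb47 zb23) (kb xb31 yb50 zb2) (kb xb23 yb53 zb36) (kb xb27 yb23 zb58) (kb xb23 yb53 zb24) (kb xb23 yb10 zb3) (kb xb18 yb47 zb36) (kb xb31 yb55 zb13) (kb xb18 yb47 zb30) (kb xb23 yb53 zb32) (kb xb18 yb47 zb33) (kb xb30 yb33 zb1) (kb xb31 yb17 zb49) (kb xb18 yb47 zb35) (kb xb22 yb18 zb46) (kb xb30 yb35 zb44) (kb xb24 yb55 zb53) (kb xb22 yb14 zb14) (kb xb30 yb30 zb48) (kb xb28 yb17 zb26) (kb xb18 yb47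 zb59) (kb xb28 yb17 zb24) (kb xb18 yb47 zb54) (kb xb32 yb33 zb17) (kb xb18 yb47 zb56) (kb xb30 yb46 zb26) (kb xb22 yb50 zb39) (kb xb27 yb16 zb58) (kb xb18 yb47 zb58) (kb xb30 yb38 zb41) (kb xb32 yb21 zb26) (kb xb18 yb48 zb2) (kb xb24 yb46 zb21) (kb xb30 yb29 zb52) (kb xb23 yb25 zb14) (kb xb21 yb56 zb58) (kb xb22 yb40 zb44) (kb xb18 yb48 zb9) (kb xb32 yb33 zb22) (kb xb18 yb48 zb12) (kb xb21 yb13 zb48) (kb xb18 yb48 zb15) (kb xb23 yb8 zb61) (kb xb32 yb28 zb1) (kb xb31 yb37 zb7) (kb xb30 yb26 zb10) (kb xb18 yb48 zb23) (kb xb30 yb54 zb3) (kb xb18 yb48 zb26) (kb xb18 yb48 zb27) (kb xb22 yb38 zb31) (kb xb32 yb33 zb0) (kb xb23 yb48 zb38) (kb xb32 yb33 zb25) (kb xb19 yb23 zb2) (kb xb26 yb56 zb1) (kb xb32 yb33 zb26)) (@D3.rec (fun _ => Pt) (kb xb27 yb40 zb32) (kb xb19 yb42 zb38)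 (kb xb20 yb22 zb17) (kb xb24 yb47 zb37) (kb xb27 yb14 zb6) (kb xb20 yb21 zb38) (kb xb18 yb48 zb42) (kb xb22 yb17 zb16) (kb xb18 yb48 zb44) (kb xb30 yb30 zb59) (kb xb30 yb29 zb50) (kb xb20 yb48 zb55) (kb xb24 yb1 zb34) (kb xb28 yb12 zb35) (kb xb23 yb40 zb58) (kb xb30 yb13 zb21) (kb xb18 yb48 zb50) (kb xb28 yb43 zb11) (kb xb18 yb48 zb54) (kb xb18 yb51 zb10) (kb xb23 yb0 zb35) (kb xb22 yb1 zb34) (kb xb18 yb48 zb61) (kb xb32 yb33 zb29) (kb xb32 yb33 zb30) (kb xb24 yb26 zb17) (kb xb32 yb33 zb32) (kb xb18 yb49 zb4) (kb xb29 yb33 zb25) (kb xb30 yb25 zb48) (kb xb32 yb33 zb33) (kb xb18 yb49 zb5) (kb xb24 yb26 zb19) (kb xb30 yb11 zb43) (kb xb29 yb37 zb55) (kb xb22 yb19 zb35) (kb xb18 yb49 zb12) (kb xb28 yb40 zb17) (kb xb32 yb33 zb36) (kb xb18 yb49 zb13) (kb xb30 yb27 zb60) (kb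 xb28 yb15 zb1) (kb xb21 yb12 zb33) (kb xb20 yb10 zb43) (kb xb22 yb27 zb21) (kb xb32 yb33 zb37) (kb xb18 yb49 zb23) (kb xb18 yb49 zb24) (kb xb18 yb49 zb27) (kb xb22 yb47 zb16) (kb xb18 yb49 zb28) (kb xb18 yb49 zb40) (kb xb18 yb49 zb41) (kb xb31 yb38 zb58) (kb xb24 yb27 zb61) (kb xb18 yb50 zb1) (kb xb32 yb21 zb14) (kb xb32 yb32 zb57) (kb xb32 yb9 zb29) (kb xb24 yb10 zb58) (kb xb30 yb37 zb55) (kb xb30 yb0 zb18)) (@D3.rec (fun _ => Pt) (kb xb18 yb50 zb17) (kb xb29 yb54 zb29) (kb xb30 yb36 zb12) (kb xb18 yb50 zb18) (kb xb30 yb31 zb13) (kb xb25 yb38 zb55) (kb xb29 yb55 zb19) (kb xb18 yb50 zb34) (kb xb21 yb51 zb14) (kb xb21 yb23 zb0) (kb xb18 yb50 zb47) (kb xb21 yb47 zb29) (kb xb18 yb50 zb50) (kb xb23 yb34 zb23) (kb xb18 yb50 zb57) (kb xb26 yb44 zb20) (kb xb24 yb51 zb53) (kb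 xb22 yb28 zb55) (kb xb30 yb46 zb10) (kb xb24 yb39 zb61) (kb xb18 yb51 zb7) (kb xb30 yb56 zb30) (kb xb18 yb51 zb8) (kb xb19 yb11 zb33) (kb xb31 yb10 zb45) (kb xb31 yb11 zb4) (kb xb28 yb48 zb18) (kb xb31 yb41 zb25) (kb xb24 yb17 zb48) (kb xb22 yb54 zb11) (kb xb24 yb18 zb53) (kb xb30 yb12 zb11) (kb xb29 yb0 zb20) (kb xb26 yb24 zb10) (kb xb18 yb51 zb20) (kb xb22 yb52 zb48) (kb xb32 yb22 zb52) (kb xb32 yb18 zb7) (kb xb25 yb5 zb38) (kb xb25 yb27 zb0) (kb xb18 yb51 zb22) (kb xb30 yb56 zb34) (kb xb24 yb16 zb17) (kb xb31 yb27 zb15) (kb xb31 yb17 zb36) (kb xb18 yb51 zb28) (kb xb24 yb4 zb59) (kb xb18 yb51 zb31) (kb xb32 yb33 zb42) (kb xb18 yb53 zb30) (kb xb32 yb10 zb28) (kb xb18 yb56 zb53) (kb xb19 yb24 zb48) (kb xb27 yb30 zb1) (kb xb18 yb51 zb36) (kb xb29 yb7 zb34) (kb xb18 yb53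 zb58) (kb xb22 yb48 zb12) (kb xb18 yb51 zb41) (kb xb24 yb46 zb23) (kb xb18 yb54 zb27) (kb xb19 yb26 zb1)) (@D3.rec (fun _ => Pt) (kb xb30 yb23 zb8) (kb xb27 yb15 zb3) (kb xb23 yb18 zb53) (kb xb29 yb38 zb23) (kb xb19 yb8 zb53) (kb xb18 yb55 zb12) (kb xb18 yb51 zb53) (kb xb18 yb51 zb57) (kb xb18 yb51 zb55) (kb xb32 yb33 zb44) (kb xb28 yb16 zb57) (kb xb18 yb55 zb18) (kb xb27 yb56 zb23) (kb xb18 yb51 zb61) (kb xb28 yb16 zb8) (kb xb23 yb5 zb31) (kb xb32 yb2 zb10) (kb xb27 yb15 zb0) (kb xb30 yb43 zb15) (kb xb32 yb32 zb23) (kb xb18 yb52 zb3) (kb xb22 yb30 zb52) (kb xb32 yb33 zb46) (kb xb31 yb59 zb25) (kb xb18 yb52 zb14) (kb xb18 yb55 zb44) (kb xb19 yb8 zb57) (kb xb18 yb52 zb11) (kb xb26 yb55 zb58) (kb xb25 yb30 zb15) (kb xb29 yb12 zb34) (kb xb24 yb7 zb45) (kb xb18 yb52 zb19)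 (kb xb31 yb20 zb53) (kb xb29 yb44 zb35) (kb xb18 yb52 zb42) (kb xb22 yb16 zb22) (kb xb32 yb33 zb50) (kb xb18 yb52 zb45) (kb xb18 yb52 zb46) (kb xb32 yb33 zb51) (kb xb31 yb53 zb40) (kb xb27 yb22 zb22) (kb xb28 yb10 zb2) (kb xb29 yb41 zb19) (kb xb18 yb52 zb52) (kb xb32 yb15 zb32) (kb xb19 yb14 zb17) (kb xb18 yb52 zb61) (kb xb31 yb14 zb36) (kb xb19 yb11 zb48) (kb xb30 yb45 zb47) (kb xb18 yb53 zb7) (kb xb27 yb52 zb47) (kb xb18 yb53 zb10) (kb xb30 yb49 zb29) (kb xb28 yb22 zb24) (kb xb28 yb54 zb4) (kb xb18 yb53 zb14) (kb xb32 yb33 zb52) (kb xb31 yb43 zb17) (kb xb26 yb49 zb19)) (@D3.rec (fun _ => Pt) (kb xb27 yb59 zb12) (kb xb18 yb53 zb17) (kb xb24 yb18 zb19) (kb xb18 yb53 zb20) (kb xb31 yb23 zb47) (kb xb32 yb24 zb37) (kb xb19 yb4 zb3) (kb xb28 yb33 zb35) (kb xb18 yb53 zb25)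 (kb xb18 yb53 zb23) (kb xb27 yb31 zb52) (kb xb19 yb15 zb16) (kb xb28 yb43 zb32) (kb xb18 yb53 zb28) (kb xb31 yb50 zb25) (kb xb28 yb50 zb7) (kb xb20 yb32 zb51) (kb xb18 yb53 zb33) (kb xb29 yb19 zb15) (kb xb29 yb23 zb57) (kb xb32 yb33 zb53) (kb xb22 yb54 zb43) (kb xb18 yb53 zb39) (kb xb31 yb25 zb50) (kb xb23 yb52 zb3) (kb xb30 yb56 zb14) (kb xb32 yb2 zb37) (kb xb18 yb53 zb42) (kb xb27 yb59 zb31) (kb xb28 yb30 zb55) (kb xb29 yb20 zb41) (kb xb24 yb46 zb49) (kb xb27 yb33 zb15) (kb xb29 yb25 zb10) (kb xb31 yb42 zb41) (kb xb18 yb53 zb53) (kb xb29 yb24 zb56) (kb xb32 yb33 zb55) (kb xb28 yb24 zb56) (kb xb27 yb12 zb31) (kb xb28 yb43 zb29) (kb xb25 yb59 zb35) (kb xb22 yb17 zb39) (kb xb28 yb43 zb33) (kb xb22 yb15 zb45) (kb xb18 yb53 zb60) (kb xb19 yb43 zb36) (kb xb18 yb53 zb61)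 (kb xb25 yb54 zb39) (kb xb23 yb54 zb1) (kb xb24 yb38 zb22) (kb xb24 yb53 zb30) (kb xb23 yb12 zb34) (kb xb26 yb50 zb13) (kb xb18 yb54 zb7) (kb xb26 yb52 zb39) (kb xb28 yb45 zb49) (kb xb21 yb15 zb34) (kb xb28 yb15 zb18) (kb xb18 yb54 zb13) (kb xb26 yb51 zb24) (kb xb28 yb48 zb4)) (@D3.rec (fun _ => Pt) (kb xb28 yb31 zb16) (kb xb18 yb54 zb15) (kb xb27 yb54 zb47) (kb xb23 yb0 zb3) (kb xb18 yb54 zb18) (kb xb28 yb38 zb58) (kb xb28 yb46 zb16) (kb xb28 yb39 zb12) (kb xb18 yb54 zb21) (kb xb29 yb46 zb15) (kb xb18 yb54 zb24) (kb xb28 yb16 zb59) (kb xb25 yb0 zb20) (kb xb23 yb7 zb45) (kb xb24 yb18 zb57) (kb xb23 yb11 zb56) (kb xb18 yb54 zb29) (kb xb26 yb27 zb52) (kb xb26 yb24 zb49) (kb xb23 yb11 zb48) (kb xb28 yb16 zb6) (kb xb18 yb54 zb32) (kb xb28 yb38 zb11) (kb xb32 yb16 zb30)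 (kb xb28 yb20 zb56) (kb xb18 yb54 zb34) (kb xb26 yb25 zb40) (kb xb29 yb41 zb44) (kb xb22 yb39 zb58) (kb xb32 yb34 zb8) (kb xb28 yb14 zb61) (kb xb20 yb47 zb56) (kb xb28 yb29 zb57) (kb xb30 yb48 zb17) (kb xb18 yb54 zb44) (kb xb25 yb5 zb36) (kb xb30 yb46 zb29) (kb xb32 yb22 zb51) (kb xb28 yb32 zb11) (kb xb23 yb54 zb19) (kb xb27 yb20 zb60) (kb xb29 yb48 zb33) (kb xb18 yb54 zb48) (kb xb21 yb12 zb54) (kb xb20 yb21 zb48) (kb xb27 yb32 zb17) (kb xb24 yb40 zb30) (kb xb23 yb11 zb52) (kb xb20 yb0 zb50) (kb xb32 yb22 zb19) (kb xb22 yb27 zb43) (kb xb20 yb47 zb37) (kb xb18 yb54 zb59) (kb xb19 yb26 zb53) (kb xb30 yb36 zb7) (kb xb28 yb13 zb8) (kb xb30 yb24 zb33) (kb xb27 yb16 zb37) (kb xb30 yb50 zb44) (kb xb22 yb57 zb2) (kb xb19 yb3 zb11) (kb xb19 yb2 zb56)) (@D3.rec (fun _ => Pt)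 (kb xb18 yb55 zb4) (kb xb24 yb46 zb27) (kb xb27 yb42 zb12) (kb xb18 yb55 zb6) (kb xb30 yb56 zb9) (kb xb26 yb28 zb39) (kb xb18 yb55 zb8) (kb xb29 yb25 zb25) (kb xb27 yb32 zb47) (kb xb18 yb55 zb10) (kb xb18 yb55 zb11) (kb xb32 yb34 zb14) (kb xb30 yb43 zb13) (kb xb26 yb55 zb45) (kb xb23 yb18 zb55) (kb xb30 yb56 zb4) (kb xb18 yb55 zb20) (kb xb22 yb53 zb36) (kb xb27 yb15 zb47) (kb xb22 yb54 zb61) (kb xb18 yb55 zb19) (kb xb32 yb29 zb25) (kb xb18 yb55 zb22) (kb xb30 yb19 zb16) (kb xb18 yb55 zb23) (kb xb25 yb28 zb38) (kb xb18 yb55 zb24) (kb xb32 yb30 zb13) (kb xb23 yb54 zb34) (kb xb18 yb55 zb25) (kb xb32 yb31 zb24) (kb xb27 yb51 zb42) (kb xb18 yb55 zb29) (kb xb20 yb50 zb37) (kb xb25 yb34 zb39) (kb xb18 yb55 zb28) (kb xb30 yb56 zb5) (kb xb30 yb47 zb40) (kb xb29 yb25 zb27) (kb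 xb25 yb2 zb5) (kb xb18 yb55 zb31) (kb xb28 yb32 zb10) (kb xb24 yb58 zb29) (kb xb24 yb28 zb53) (kb xb28 yb49 zb20) (kb xb19 yb49 zb48) (kb xb25 yb55 zb46) (kb xb25 yb56 zb7) (kb xb28 yb57 zb38) (kb xb25 yb5 zb43) (kb xb18 yb55 zb53) (kb xb30 yb43 zb2) (kb xb18 yb55 zb55) (kb xb22 yb19 zb38) (kb xb24 yb8 zb35) (kb xb27 yb23 zb42) (kb xb29 yb9 zb8) (kb xb32 yb34 zb19) (kb xb18 yb55 zb46) (kb xb32 yb34 zb20) (kb xb18 yb55 zb47) (kb xb28 yb59 zb10)) (@D3.rec (fun _ => Pt) (kb xb18 yb55 zb50) (kb xb19 yb49 zb45) (kb xb24 yb6 zb11) (kb xb18 yb55 zb54) (kb xb31 yb22 zb31) (kb xb32 yb34 zb21) (kb xb30 yb42 zb61) (kb xb32 yb34 zb24) (kb xb18 yb55 zb57) (kb xb28 yb46 zb17) (kb xb32 yb34 zb25) (kb xb31 yb17 zb60) (kb xb29 yb45 zb30) (kb xb32 yb17 zb8) (kb xb32 yb14 zb18) (kb xb18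 yb56 zb0) (kb xb32 yb34 zb27) (kb xb27 yb0 zb15) (kb xb24 yb17 zb56) (kb xb18 yb56 zb6) (kb xb32 yb34 zb28) (kb xb18 yb56 zb7) (kb xb29 yb4 zb12) (kb xb22 yb51 zb1) (kb xb24 yb56 zb43) (kb xb24 yb54 zb8) (kb xb29 yb36 zb49) (kb xb30 yb33 zb46) (kb xb19 yb10 zb14) (kb xb18 yb56 zb17) (kb xb27 yb16 zb46) (kb xb30 yb5 zb40) (kb xb29 yb54 zb46) (kb xb31 yb23 zb16) (kb xb18 yb56 zb28) (kb xb29 yb34 zb55) (kb xb20 yb13 zb18) (kb xb18 yb56 zb33) (kb xb29 yb14 zb42) (kb xb25 yb52 zb8) (kb xb30 yb42 zb36) (kb xb23 yb19 zb24) (kb xb19 yb55 zb41) (kb xb18 yb56 zb39) (kb xb32 yb34 zb30) (kb xb30 yb52 zb27) (kb xb18 yb56 zb42) (kb xb24 yb39 zb28) (kb xb18 yb56 zb52) (kb xb30 yb55 zb37) (kb xb31 yb22 zb58) (kb xb27 yb15 zb54) (kb xb32 yb32 zb53) (kb xb18 yb56 zb55) (kb xb30 yb19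 zb54) (kb xb32 yb20 zb4) (kb xb28 yb21 zb38) (kb xb22 yb23 zb21) (kb xb31 yb25 zb11) (kb xb19 yb48 zb0) (kb xb29 yb22 zb35) (kb xb28 yb0 zb24)) (@D3.rec (fun _ => Pt) (kb xb30 yb58 zb9) (kb xb27 yb10 zb30) (kb xb18 yb57 zb22) (kb xb26 yb16 zb27) (kb xb18 yb57 zb20) (kb xb30 yb20 zb47) (kb xb25 yb56 zb49) (kb xb27 yb25 zb27) (kb xb18 yb57 zb26) (kb xb18 yb57 zb27) (kb xb29 yb40 zb50) (kb xb24 yb18 zb45) (kb xb21 yb36 zb15) (kb xb24 yb33 zb15) (kb xb26 yb52 zb11) (kb xb18 yb57 zb41) (kb xb31 yb22 zb43) (kb xb22 yb0 zb15) (kb xb29 yb40 zb46) (kb xb27 yb38 zb41) (kb xb31 yb43 zb56) (kb xb26 yb10 zb52) (kb xb18 yb57 zb43) (kb xb28 yb32 zb46) (kb xb32 yb28 zb50) (kb xb22 yb33 zb40) (kb xb21 yb52 zb51) (kb xb31 yb16 zb10) (kb xb29 yb16 zb32) (kb xb24 yb36 zb20) (kb xb28 yb45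 zb9) (kb xb29 yb50 zb19) (kb xb19 yb13 zb9) (kb xb28 yb42 zb33) (kb xb32 yb29 zb20) (kb xb32 yb7 zb53) (kb xb22 yb57 zb55) (kb xb28 yb25 zb43) (kb xb26 yb4 zb31) (kb xb31 yb1 zb31) (kb xb27 yb37 zb45) (kb xb27 yb34 zb41) (kb xb18 yb58 zb15) (kb xb28 yb25 zb37) (kb xb27 yb6 zb6) (kb xb27 yb32 zb59) (kb xb18 yb58 zb21) (kb xb18 yb58 zb22) (kb xb27 yb53 zb56) (kb xb18 yb58 zb29) (kb xb23 yb51 zb39) (kb xb21 yb12 zb45) (kb xb27 yb48 zb56) (kb xb20 yb4 zb16) (kb xb27 yb32 zb3) (kb xb31 yb2 zb37) (kb xb24 yb29 zb3) (kb xb28 yb10 zb40) (kb xb25 yb46 zb49) (kb xb19 yb1 zb18) (kb xb32 yb4 zb45) (kb xb18 yb58 zb46)) (@D3.rec (fun _ => Pt) (kb xb18 yb58 zb47) (kb xb30 yb35 zb10) (kb xb18 yb58 zb41) (kb xb25 yb2 zb44) (kb xb31 yb43 zb8) (kb xb18 yb58 zb53) (kb xb24 yb57 zb42) (kb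 xb27 yb55 zb52) (kb xb27 yb55 zb48) (kb xb29 yb7 zb59) (kb xb28 yb10 zb52) (kb xb18 yb58 zb51) (kb xb23 yb40 zb42) (kb xb29 yb24 zb10) (kb xb30 yb39 zb58) (kb xb18 yb58 zb61) (kb xb28 yb0 zb0) (kb xb31 yb38 zb37) (kb xb28 yb9 zb42) (kb xb20 yb8 zb19) (kb xb18 yb59 zb13) (kb xb18 yb59 zb14) (kb xb18 yb59 zb7) (kb xb29 yb19 zb20) (kb xb22 yb34 zb23) (kb xb29 yb28 zb61) (kb xb18 yb59 zb21) (kb xb27 yb40 zb24) (kb xb24 yb56 zb40) (kb xb24 yb9 zb42) (kb xb30 yb58 zb29) (kb xb18 yb59 zb19) (kb xb28 yb59 zb17) (kb xb22 yb55 zb27) (kb xb32 yb34 zb47) (kb xb18 yb59 zb20) (kb xb32 yb34 zb48) (kb xb18 yb59 zb23) (kb xb28 yb56 zb4) (kb xb30 yb24 zb32) (kb xb23 yb52 zb44) (kb xb23 yb52 zb54) (kb xb32 yb34 zb50) (kb xb19 yb11 zb39) (kb xb18 yb59 zb30) (kb xb30 yb18 zb39) (kb xb21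 yb38 zb31) (kb xb32 yb19 zb28) (kb xb18 yb59 zb39) (kb xb26 yb28 zb35) (kb xb31 yb23 zb21) (kb xb18 yb59 zb37) (kb xb30 yb54 zb16) (kb xb23 yb4 zb50) (kb xb28 yb2 zb28) (kb xb30 yb57 zb6) (kb xb29 yb50 zb26) (kb xb18 yb59 zb40) (kb xb22 yb41 zb53) (kb xb28 yb14 zb37) (kb xb28 yb14 zb40) (kb xb26 yb19 zb23)) (@D3.rec (fun _ => Pt) (kb xb25 yb16 zb30) (kb xb26 yb30 zb11) (kb xb24 yb46 zb33) (kb xb22 yb42 zb21) (kb xb28 yb17 zb0) (kb xb19 yb0 zb2) (kb xb23 yb32 zb9) (kb xb19 yb0 zb1) (kb xb28 yb28 zb31) (kb xb26 yb28 zb54) (kb xb26 yb19 zb19) (kb xb24 yb40 zb23) (kb xb19 yb0 zb13) (kb xb19 yb0 zb14) (kb xb32 yb34 zb53) (kb xb19 yb0 zb19) (kb xb19 yb0 zb16) (kb xb31 yb0 zb36) (kb xb23 yb33 zb35) (kb xb19 yb43 zb4) (kb xb30 yb53 zb51) (kb xb19 yb0 zb25) (kb xb29 yb10 zb59)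 (kb xb19 yb0 zb26) (kb xb32 yb34 zb55) (kb xb29 yb24 zb59) (kb xb32 yb32 zb43) (kb xb32 yb16 zb8) (kb xb19 yb0 zb28) (kb xb31 yb27 zb48) (kb xb20 yb8 zb1) (kb xb19 yb0 zb32) (kb xb19 yb0 zb34) (kb xb23 yb29 zb28) (kb xb19 yb0 zb38) (kb xb30 yb1 zb20) (kb xb19 yb0 zb41) (kb xb26 yb18 zb48) (kb xb19 yb0 zb43) (kb xb19 yb0 zb44) (kb xb19 yb0 zb45) (kb xb28 yb3 zb7) (kb xb19 yb0 zb46) (kb xb31 yb0 zb0) (kb xb21 yb36 zb17) (kb xb19 yb0 zb48) (kb xb25 yb15 zb48) (kb xb26 yb19 zb18) (kb xb28 yb0 zb3) (kb xb27 yb49 zb59) (kb xb19 yb0 zb57) (kb xb29 yb53 zb43) (kb xb28 yb9 zb48) (kb xb20 yb8 zb18) (kb xb27 yb42 zb1) (kb xb25 yb59 zb33) (kb xb25 yb46 zb59) (kb xb19 yb36 zb3) (kb xb19 yb1 zb8) (kb xb20 yb58 zb21) (kb xb25 yb26 zb51) (kb xb23 yb52 zb0)) (@D3.rec (fun _ => Pt) (kb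 xb27 yb55 zb44) (kb xb27 yb55 zb45) (kb xb20 yb9 zb27) (kb xb27 yb53 zb49) (kb xb19 yb1 zb25) (kb xb20 yb33 zb9) (kb xb19 yb1 zb19) (kb xb25 yb2 zb46) (kb xb23 yb15 zb45) (kb xb23 yb25 zb54) (kb xb19 yb1 zb30) (kb xb27 yb56 zb16) (kb xb19 yb1 zb32) (kb xb23 yb32 zb23) (kb xb31 yb0 zb35) (kb xb23 yb31 zb59) (kb xb30 yb32 zb4) (kb xb28 yb13 zb3) (kb xb19 yb1 zb42) (kb xb26 yb20 zb13) (kb xb30 yb53 zb17) (kb xb20 yb36 zb39) (kb xb20 yb8 zb10) (kb xb19 yb1 zb41) (kb xb32 yb17 zb50) (kb xb32 yb16 zb24) (kb xb31 yb32 zb41) (kb xb21 yb55 zb40) (kb xb19 yb2 zb3) (kb xb30 yb54 zb18) (kb xb22 yb48 zb5) (kb xb28 yb27 zb8) (kb xb26 yb27 zb27) (kb xb19 yb2 zb10) (kb xb19 yb2 zb12) (kb xb19 yb2 zb9) (kb xb23 yb52 zb14) (kb xb24 yb59 zb20) (kb xb32 yb28 zb25) (kb xb19 yb2 zb22) (kb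 xb32 yb34 zb61) (kb xb19 yb2 zb23) (kb xb32 yb27 zb0) (kb xb28 yb5 zb34) (kb xb32 yb30 zb38) (kb xb32 yb35 zb1) (kb xb29 yb16 zb23) (kb xb32 yb26 zb11) (kb xb19 yb2 zb28) (kb xb32 yb7 zb29) (kb xb19 yb2 zb35) (kb xb31 yb16 zb6) (kb xb26 yb48 zb10) (kb xb25 yb31 zb42) (kb xb26 yb44 zb6) (kb xb19 yb2 zb42) (kb xb31 yb15 zb41) (kb xb19 yb2 zb43) (kb xb31 yb0 zb25) (kb xb32 yb35 zb5) (kb xb25 yb51 zb26) (kb xb22 yb7 zb0)) (@D3.rec (fun _ => Pt) (kb xb26 yb9 zb58) (kb xb32 yb24 zb45) (kb xb19 yb8 zb54) (kb xb19 yb8 zb55) (kb xb24 yb8 zb58) (kb xb32 yb18 zb53) (kb xb31 yb39 zb18) (kb xb19 yb2 zb52) (kb xb31 yb31 zb61) (kb xb19 yb2 zb53) (kb xb19 yb2 zb54) (kb xb30 yb47 zb26) (kb xb32 yb16 zb25) (kb xb32 yb30 zb59) (kb xb32 yb28 zb56) (kb xb19 yb9 zb14) (kb xb19 yb9 zb15)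 (kb xb32 yb35 zb13) (kb xb20 yb53 zb48) (kb xb19 yb3 zb0) (kb xb22 yb25 zb60) (kb xb24 yb39 zb33) (kb xb32 yb35 zb15) (kb xb31 yb18 zb53) (kb xb19 yb3 zb6) (kb xb21 yb1 zb28) (kb xb21 yb1 zb17) (kb xb30 yb56 zb42) (kb xb24 yb35 zb8) (kb xb31 yb17 zb44) (kb xb19 yb3 zb12) (kb xb31 yb39 zb26) (kb xb29 yb35 zb20) (kb xb19 yb3 zb18) (kb xb19 yb3 zb19) (kb xb19 yb37 zb9) (kb xb25 yb14 zb55) (kb xb19 yb3 zb22) (kb xb19 yb3 zb25) (kb xb19 yb21 zb50) (kb xb32 yb27 zb29) (kb xb19 yb12 zb2) (kb xb29 yb0 zb30) (kb xb19 yb3 zb31) (kb xb19 yb3 zb32) (kb xb31 yb36 zb42) (kb xb31 yb27 zb5) (kb xb19 yb3 zb34) (kb xb30 yb27 zb49) (kb xb19 yb12 zb20) (kb xb31 yb27 zb24) (kb xb19 yb3 zb37) (kb xb32 yb35 zb22) (kb xb30 yb45 zb40) (kb xb19 yb12 zb51) (kb xb32 yb25 zb12) (kb xb19 yb13 zb6)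 (kb xb28 yb22 zb32) (kb xb31 yb39 zb10) (kb xb29 yb47 zb19) (kb xb19 yb3 zb51) (kb xb19 yb13 zb27)) (@D3.rec (fun _ => Pt) (kb xb19 yb3 zb53) (kb xb32 yb35 zb27) (kb xb19 yb3 zb54) (kb xb19 yb13 zb38) (kb xb26 yb51 zb40) (kb xb19 yb3 zb55) (kb xb32 yb35 zb30) (kb xb31 yb30 zb46) (kb xb32 yb35 zb31) (kb xb19 yb3 zb56) (kb xb20 yb39 zb40) (kb xb31 yb24 zb53) (kb xb29 yb40 zb23) (kb xb32 yb35 zb32) (kb xb19 yb12 zb45) (kb xb19 yb4 zb2) (kb xb32 yb32 zb54) (kb xb19 yb4 zb12) (kb xb19 yb4 zb13) (kb xb19 yb4 zb7) (kb xb26 yb52 zb45) (kb xb19 yb4 zb10) (kb xb24 yb14 zb36) (kb xb19 yb43 zb13) (kb xb26 yb40 zb53) (kb xb19 yb24 zb18) (kb xb29 yb41 zb53) (kb xb32 yb15 zb18) (kb xb19 yb28 zb20) (kb xb19 yb15 zb56) (kb xb27 yb19 zb43) (kb xb19 yb4 zb17) (kb xb21 yb17 zb2) (kb xb32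 yb32 zb55) (kb xb21 yb36 zb5) (kb xb25 yb6 zb16) (kb xb29 yb57 zb10) (kb xb19 yb4 zb19) (kb xb24 yb37 zb40) (kb xb19 yb28 zb55) (kb xb19 yb17 zb24) (kb xb19 yb27 zb51) (kb xb27 yb12 zb4) (kb xb24 yb55 zb25) (kb xb32 yb25 zb10) (kb xb19 yb4 zb34) (kb xb31 yb31 zb55) (kb xb19 yb4 zb43) (kb xb19 yb19 zb3) (kb xb31 yb10 zb6) (kb xb31 yb39 zb56) (kb xb19 yb4 zb51) (kb xb32 yb32 zb22) (kb xb31 yb19 zb12) (kb xb19 yb4 zb55) (kb xb28 yb21 zb29) (kb xb31 yb32 zb25) (kb xb31 yb23 zb37) (kb xb22 yb4 zb15) (kb xb26 yb16 zb4) (kb xb19 yb22 zb23) (kb xb32 yb25 zb58)) (@D3.rec (fun _ => Pt) (kb xb19 yb5 zb18) (kb xb30 yb30 zb18) (kb xb32 yb13 zb42) (kb xb19 yb5 zb23) (kb xb28 yb45 zb5) (kb xb29 yb49 zb12) (kb xb29 yb39 zb3) (kb xb19 yb22 zb53) (kb xb19 yb5 zb27) (kb xb32 yb9 zb52)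 (kb xb19 yb5 zb29) (kb xb21 yb46 zb36) (kb xb24 yb42 zb23) (kb xb25 yb40 zb60) (kb xb21 yb58 zb5) (kb xb24 yb43 zb49) (kb xb28 yb22 zb0) (kb xb19 yb5 zb47) (kb xb29 yb17 zb17) (kb xb21 yb2 zb26) (kb xb24 yb48 zb49) (kb xb25 yb11 zb47) (kb xb21 yb21 zb61) (kb xb19 yb40 zb50) (kb xb24 yb42 zb22) (kb xb21 yb56 zb1) (kb xb21 yb56 zb21) (kb xb19 yb48 zb33) (kb xb19 yb6 zb12) (kb xb19 yb42 zb22) (kb xb19 yb6 zb8) (kb xb23 yb26 zb48) (kb xb32 yb5 zb16) (kb xb31 yb30 zb18) (kb xb24 yb10 zb47) (kb xb32 yb12 zb58) (kb xb31 yb15 zb31) (kb xb19 yb42 zb40) (kb xb19 yb6 zb10) (kb xb31 yb45 zb57) (kb xb25 yb38 zb44) (kb xb31 yb40 zb57) (kb xb19 yb58 zb21) (kb xb32 yb13 zb60) (kb xb29 yb27 zb40) (kb xb31 yb39 zb25) (kb xb23 yb21 zb55) (kb xb19 yb6 zb21) (kb xb31 yb43 zb36) (kb xb19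 yb6 zb22) (kb xb19 yb6 zb23) (kb xb32 yb9 zb34) (kb xb29 yb25 zb2) (kb xb21 yb10 zb53) (kb xb27 yb35 zb6) (kb xb24 yb48 zb11) (kb xb31 yb16 zb40) (kb xb29 yb55 zb26) (kb xb32 yb34 zb41) (kb xb19 yb6 zb33) (kb xb27 yb1 zb20) (kb xb23 yb8 zb1)) (@D3.rec (fun _ => Pt) (kb xb19 yb6 zb36) (kb xb19 yb6 zb37) (kb xb23 yb44 zb30) (kb xb25 yb1 zb9) (kb xb23 yb9 zb24) (kb xb27 yb50 zb7) (kb xb28 yb6 zb2) (kb xb32 yb29 zb43) (kb xb30 yb53 zb24) (kb xb29 yb52 zb55) (kb xb28 yb23 zb41) (kb xb28 yb22 zb38) (kb xb19 yb6 zb42) (kb xb29 yb53 zb52) (kb xb19 yb6 zb43) (kb xb24 yb57 zb51) (kb xb19 yb6 zb45) (kb xb29 yb7 zb46) (kb xb32 yb5 zb28) (kb xb28 yb12 zb58) (kb xb19 yb6 zb47) (kb xb19 yb6 zb49) (kb xb22 yb3 zb52) (kb xb24 yb23 zb34) (kb xb32 yb35 zb47) (kb xb19 yb6 zb59) (kb xb25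 yb30 zb33) (kb xb27 yb10 zb10) (kb xb28 yb33 zb38) (kb xb19 yb51 zb13) (kb xb21 yb10 zb30) (kb xb19 yb7 zb1) (kb xb29 yb34 zb61) (kb xb24 yb14 zb0) (kb xb27 yb14 zb20) (kb xb27 yb9 zb34) (kb xb19 yb7 zb3) (kb xb32 yb17 zb34) (kb xb28 yb49 zb57) (kb xb25 yb26 zb42) (kb xb19 yb28 zb7) (kb xb19 yb7 zb9) (kb xb19 yb7 zb10) (kb xb19 yb7 zb8) (kb xb20 yb52 zb33) (kb xb26 yb7 zb54) (kb xb28 yb25 zb23) (kb xb27 yb52 zb57) (kb xb31 yb39 zb34) (kb xb24 yb48 zb14) (kb xb27 yb23 zb53) (kb xb25 yb24 zb2) (kb xb19 yb7 zb20) (kb xb23 yb11 zb43) (kb xb23 yb34 zb1) (kb xb32 yb31 zb39) (kb xb19 yb7 zb26) (kb xb32 yb35 zb51) (kb xb32 yb9 zb0) (kb xb25 yb47 zb30) (kb xb32 yb35 zb53) (kb xb32 yb35 zb54)) (@D3.rec (fun _ => Pt) (kb xb32 yb35 zb56) (kb xb31 yb26 zb32) (kb xb19 yb7 zb31) (kb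 xb31 yb22 zb61) (kb xb30 yb48 zb36) (kb xb19 yb7 zb33) (kb xb32 yb36 zb1) (kb xb30 yb29 zb15) (kb xb31 yb37 zb15) (kb xb19 yb29 zb37) (kb xb19 yb7 zb34) (kb xb32 yb20 zb28) (kb xb19 yb7 zb36) (kb xb30 yb43 zb25) (kb xb31 yb32 zb45) (kb xb30 yb9 zb12) (kb xb19 yb7 zb40) (kb xb21 yb42 zb18) (kb xb19 yb35 zb41) (kb xb29 yb44 zb29) (kb xb19 yb7 zb46) (kb xb30 yb50 zb58) (kb xb24 yb16 zb23) (kb xb19 yb26 zb54) (kb xb19 yb7 zb50) (kb xb21 yb1 zb20) (kb xb23 yb12 zb45) (kb xb19 yb7 zb57) (kb xb25 yb23 zb40) (kb xb27 yb54 zb56) (kb xb28 yb13 zb44) (kb xb19 yb8 zb10) (kb xb19 yb7 zb61) (kb xb19 yb8 zb0) (kb xb27 yb3 zb7) (kb xb28 yb21 zb7) (kb xb19 yb8 zb18) (kb xb26 yb45 zb27) (kb xb28 yb32 zb28) (kb xb25 yb24 zb4) (kb xb19 yb8 zb6) (kb xb30 yb37 zb20) (kb xb26 yb45 zb26) (kb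 xb19 yb8 zb7) (kb xb27 yb44 zb24) (kb xb25 yb56 zb34) (kb xb32 yb9 zb1) (kb xb32 yb34 zb5) (kb xb32 yb35 zb3) (kb xb19 yb8 zb12) (kb xb29 yb47 zb51) (kb xb32 yb36 zb3) (kb xb32 yb35 zb4) (kb xb19 yb8 zb14) (kb xb19 yb8 zb15) (kb xb31 yb23 zb23) (kb xb29 yb27 zb55) (kb xb19 yb8 zb16) (kb xb24 yb39 zb1) (kb xb30 yb39 zb44) (kb xb22 yb48 zb0) (kb xb19 yb8 zb17)) (@D3.rec (fun _ => Pt) (kb xb31 yb27 zb57) (kb xb24 yb34 zb38) (kb xb24 yb34 zb35) (kb xb31 yb19 zb0) (kb xb19 yb8 zb22) (kb xb19 yb8 zb23) (kb xb31 yb3 zb44) (kb xb27 yb15 zb41) (kb xb26 yb7 zb52) (kb xb21 yb38 zb53) (kb xb19 yb27 zb30) (kb xb32 yb33 zb48) (kb xb26 yb24 zb13) (kb xb27 yb15 zb11) (kb xb19 yb8 zb32) (kb xb22 yb55 zb17) (kb xb28 yb39 zb28) (kb xb20 yb37 zb15) (kb xb28 yb55 zb44) (kb xb28 yb39 zb27)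 (kb xb30 yb51 zb16) (kb xb32 yb12 zb43) (kb xb29 yb40 zb1) (kb xb26 yb51 zb26) (kb xb19 yb8 zb42) (kb xb24 yb24 zb30) (kb xb29 yb8 zb53) (kb xb19 yb8 zb47) (kb xb19 yb8 zb50) (kb xb24 yb7 zb55) (kb xb21 yb0 zb14) (kb xb22 yb57 zb43) (kb xb32 yb35 zb8) (kb xb19 yb8 zb56) (kb xb31 yb17 zb41) (kb xb32 yb8 zb7) (kb xb32 yb34 zb13) (kb xb19 yb9 zb7) (kb xb27 yb41 zb35) (kb xb19 yb9 zb5) (kb xb22 yb47 zb59) (kb xb32 yb28 zb5) (kb xb32 yb7 zb7) (kb xb25 yb9 zb2) (kb xb30 yb24 zb5) (kb xb24 yb59 zb30) (kb xb24 yb7 zb18) (kb xb25 yb21 zb27) (kb xb19 yb9 zb12) (kb xb19 yb9 zb13) (kb xb25 yb21 zb28) (kb xb26 yb31 zb9) (kb xb29 yb53 zb26) (kb xb22 yb26 zb19) (kb xb29 yb40 zb57) (kb xb19 yb9 zb16) (kb xb22 yb54 zb32) (kb xb19 yb9 zb17) (kb xb26 yb49 zb55) (kb xb26 yb39 zb15) (kb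 xb30 yb53 zb56) (kb xb20 yb35 zb8)) (@D3.rec (fun _ => Pt) (kb xb19 yb9 zb26) (kb xb19 yb9 zb27) (kb xb26 yb2 zb2) (kb xb24 yb30 zb4) (kb xb31 yb14 zb13) (kb xb19 yb9 zb21) (kb xb31 yb41 zb26) (kb xb31 yb33 zb20) (kb xb30 yb12 zb0) (kb xb31 yb19 zb22) (kb xb32 yb36 zb15) (kb xb19 yb9 zb29) (kb xb22 yb1 zb8) (kb xb29 yb53 zb39) (kb xb29 yb2 zb9) (kb xb32 yb36 zb19) (kb xb32 yb36 zb12) (kb xb19 yb9 zb28) (kb xb30 yb15 zb41) (kb xb32 yb36 zb21) (kb xb32 yb36 zb16) (kb xb19 yb9 zb33) (kb xb19 yb9 zb34) (kb xb32 yb8 zb12) (kb xb22 yb57 zb1) (kb xb30 yb39 zb12) (kb xb19 yb9 zb40) (kb xb19 yb9 zb43) (kb xb25 yb32 zb34) (kb xb23 yb55 zb5) (kb xb22 yb6 zb61) (kb xb31 yb32 zb5) (kb xb26 yb27 zb42) (kb xb32 yb3 zb4) (kb xb22 yb0 zb30) (kb xb19 yb9 zb48) (kb xb24 yb6 zb27) (kb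 xb19 yb9 zb49) (kb xb26 yb27 zb33) (kb xb23 yb11 zb45) (kb xb32 yb36 zb26) (kb xb30 yb24 zb1) (kb xb27 yb14 zb50) (kb xb27 yb14 zb51) (kb xb23 yb50 zb39) (kb xb32 yb28 zb27) (kb xb22 yb0 zb33) (kb xb19 yb9 zb57) (kb xb19 yb9 zb56) (kb xb19 yb10 zb11) (kb xb32 yb36 zb29) (kb xb30 yb26 zb33) (kb xb19 yb9 zb58) (kb xb31 yb39 zb33) (kb xb19 yb23 zb7) (kb xb19 yb10 zb2) (kb xb27 yb15 zb23) (kb xb22 yb57 zb45) (kb xb30 yb26 zb37) (kb xb31 yb18 zb57) (kb xb19 yb10 zb5) (kb xb21 yb5 zb2)) (@D3.rec (fun _ => Pt) (kb xb30 yb57 zb37) (kb xb22 yb56 zb19) (kb xb30 yb55 zb41) (kb xb19 yb10 zb13) (kb xb22 yb41 zb48) (kb xb30 yb26 zb17) (kb xb19 yb30 zb22) (kb xb23 yb48 zb34) (kb xb27 yb16 zb59) (kb xb29 yb36 zb56) (kb xb23 yb48 zb10) (kb xb19 yb10 zb18) (kb xb19 yb10 zb16) (kb xb32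 yb35 zb0) (kb xb20 yb10 zb41) (kb xb19 yb10 zb17) (kb xb27 yb56 zb32) (kb xb25 yb34 zb7) (kb xb32 yb32 zb11) (kb xb32 yb35 zb2) (kb xb21 yb5 zb60) (kb xb32 yb35 zb18) (kb xb19 yb10 zb20) (kb xb32 yb26 zb18) (kb xb27 yb49 zb36) (kb xb32 yb36 zb30) (kb xb29 yb4 zb15) (kb xb27 yb42 zb4) (kb xb19 yb10 zb25) (kb xb19 yb10 zb26) (kb xb19 yb10 zb24) (kb xb31 yb53 zb4) (kb xb26 yb21 zb29) (kb xb29 yb1 zb53) (kb xb24 yb7 zb61) (kb xb24 yb34 zb40) (kb xb27 yb59 zb36) (kb xb25 yb9 zb31) (kb xb19 yb10 zb32) (kb xb24 yb49 zb25) (kb xb19 yb10 zb35) (kb xb32 yb17 zb18) (kb xb20 yb44 zb51) (kb xb26 yb16 zb12) (kb xb19 yb10 zb44) (kb xb32 yb36 zb34) (kb xb26 yb41 zb57) (kb xb29 yb58 zb36) (kb xb19 yb10 zb61) (kb xb23 yb43 zb45) (kb xb32 yb36 zb36) (kb xb28 yb4 zb24) (kb xb25 yb14 zb38)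 (kb xb28 yb38 zb61) (kb xb29 yb15 zb6) (kb xb29 yb41 zb38) (kb xb26 yb54 zb20) (kb xb21 yb43 zb41) (kb xb25 yb21 zb16) (kb xb29 yb15 zb12) (kb xb19 yb11 zb18) (kb xb19 yb11 zb12)) (@D3.rec (fun _ => Pt) (kb xb19 yb11 zb13) (kb xb29 yb36 zb7) (kb xb32 yb36 zb37) (kb xb22 yb7 zb51) (kb xb27 yb5 zb3) (kb xb25 yb19 zb48) (kb xb25 yb7 zb15) (kb xb19 yb11 zb16) (kb xb31 yb41 zb53) (kb xb24 yb3 zb43) (kb xb31 yb39 zb52) (kb xb30 yb18 zb53) (kb xb19 yb11 zb21) (kb xb30 yb17 zb24) (kb xb26 yb43 zb4) (kb xb24 yb32 zb1) (kb xb19 yb11 zb26) (kb xb28 yb54 zb54) (kb xb31 yb28 zb57) (kb xb29 yb35 zb6) (kb xb19 yb11 zb29) (kb xb32 yb36 zb44) (kb xb32 yb17 zb19) (kb xb31 yb58 zb12) (kb xb25 yb28 zb31) (kb xb19 yb11 zb32) (kb xb32 yb36 zb47) (kb xb31 yb16 zb23) (kb xb19 yb46 zb11) (kb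 xb27 yb59 zb5) (kb xb19 yb11 zb37) (kb xb32 yb15 zb39) (kb xb32 yb19 zb27) (kb xb19 yb22 zb43) (kb xb24 yb53 zb39) (kb xb19 yb11 zb47) (kb xb19 yb11 zb42) (kb xb32 yb36 zb50) (kb xb19 yb11 zb43) (kb xb30 yb23 zb37) (kb xb32 yb36 zb51) (kb xb31 yb32 zb33) (kb xb19 yb11 zb46) (kb xb32 yb36 zb52) (kb xb30 yb12 zb41) (kb xb32 yb24 zb36) (kb xb32 yb23 zb17) (kb xb32 yb36 zb49) (kb xb23 yb19 zb19) (kb xb19 yb29 zb17) (kb xb19 yb11 zb52) (kb xb22 yb13 zb9) (kb xb19 yb11 zb53) (kb xb20 yb42 zb59) (kb xb32 yb36 zb53) (kb xb23 yb52 zb55) (kb xb19 yb11 zb55) (kb xb29 yb16 zb35) (kb xb19 yb17 zb17) (kb xb19 yb41 zb8) (kb xb19 yb31 zb19) (kb xb25 yb8 zb32)) (@D3.rec (fun _ => Pt) (kb xb25 yb8 zb33) (kb xb26 yb16 zb18) (kb xb29 yb39 zb57) (kb xb32 yb11 zb11) (kb xb29 yb8 zb24) (kb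 xb26 yb15 zb37) (kb xb32 yb7 zb20) (kb xb19 yb12 zb5) (kb xb27 yb14 zb31) (kb xb27 yb2 zb6) (kb xb29 yb16 zb27) (kb xb28 yb22 zb22) (kb xb22 yb59 zb53) (kb xb31 yb36 zb1) (kb xb19 yb12 zb12) (kb xb23 yb0 zb40) (kb xb19 yb12 zb11) (kb xb32 yb36 zb58) (kb xb32 yb33 zb59) (kb xb30 yb12 zb5) (kb xb30 yb25 zb37) (kb xb19 yb12 zb17) (kb xb19 yb12 zb18) (kb xb20 yb29 zb44) (kb xb28 yb15 zb56) (kb xb32 yb35 zb19) (kb xb28 yb58 zb4) (kb xb23 yb7 zb15) (kb xb29 yb7 zb31) (kb xb30 yb44 zb60) (kb xb19 yb12 zb29) (kb xb19 yb12 zb30) (kb xb22 yb5 zb17) (kb xb31 yb18 zb15) (kb xb19 yb12 zb25) (kb xb28 yb51 zb40) (kb xb29 yb35 zb49) (kb xb31 yb30 zb7) (kb xb26 yb54 zb6) (kb xb30 yb38 zb10) (kb xb19 yb12 zb28) (kb xb24 yb40 zb42) (kb xb23 yb48 zb22) (kb xb19 yb12 zb31) (kb xb32 yb37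 zb11) (kb xb19 yb21 zb53) (kb xb28 yb15 zb57) (kb xb19 yb12 zb36) (kb xb30 yb34 zb28) (kb xb29 yb8 zb25) (kb xb29 yb0 zb31) (kb xb19 yb12 zb42) (kb xb19 yb12 zb43) (kb xb25 yb14 zb1) (kb xb23 yb0 zb30) (kb xb32 yb9 zb23) (kb xb32 yb12 zb8) (kb xb30 yb5 zb60) (kb xb28 yb22 zb5) (kb xb29 yb34 zb17) (kb xb30 yb28 zb52) (kb xb28 yb36 zb53)) (@D3.rec (fun _ => Pt) (kb xb19 yb12 zb61) (kb xb19 yb13 zb25) (kb xb29 yb31 zb9) (kb xb19 yb13 zb22) (kb xb29 yb27 zb53) (kb xb30 yb29 zb49) (kb xb19 yb13 zb3) (kb xb20 yb37 zb3) (kb xb19 yb13 zb44) (kb xb20 yb17 zb0) (kb xb30 yb36 zb34) (kb xb30 yb11 zb53) (kb xb28 yb22 zb7) (kb xb19 yb13 zb17) (kb xb32 yb37 zb18) (kb xb19 yb13 zb18) (kb xb26 yb38 zb49) (kb xb31 yb1 zb21) (kb xb19 yb13 zb19) (kb xb32 yb37 zb19) (kb xb20 yb24 zb6) (kb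 xb30 yb11 zb44) (kb xb27 yb43 zb51) (kb xb31 yb55 zb35) (kb xb31 yb17 zb57) (kb xb20 yb48 zb6) (kb xb32 yb37 zb22) (kb xb28 yb34 zb19) (kb xb28 yb34 zb16) (kb xb19 yb13 zb26) (kb xb32 yb37 zb24) (kb xb29 yb34 zb26) (kb xb29 yb34 zb58) (kb xb19 yb28 zb39) (kb xb19 yb28 zb40) (kb xb32 yb11 zb54) (kb xb19 yb13 zb33) (kb xb28 yb13 zb12) (kb xb26 yb36 zb6) (kb xb31 yb17 zb59) (kb xb32 yb37 zb29) (kb xb29 yb26 zb16) (kb xb32 yb37 zb31) (kb xb19 yb13 zb35) (kb xb24 yb26 zb37) (kb xb31 yb15 zb1) (kb xb22 yb24 zb2) (kb xb32 yb35 zb28) (kb xb19 yb13 zb39) (kb xb32 yb23 zb31) (kb xb19 yb13 zb40) (kb xb19 yb47 zb24) (kb xb31 yb30 zb48) (kb xb19 yb13 zb42) (kb xb19 yb13 zb43) (kb xb20 yb39 zb42) (kb xb32 yb34 zb2) (kb xb26 yb51 zb46) (kb xb29 yb40 zb29) (kb xb31 yb33 zb28) (kb xb23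 yb49 zb36) (kb xb24 yb26 zb7)) (@D3.rec (fun _ => Pt) (kb xb24 yb39 zb41) (kb xb19 yb13 zb46) (kb xb32 yb37 zb40) (kb xb32 yb37 zb39) (kb xb30 yb45 zb11) (kb xb31 yb22 zb10) (kb xb30 yb15 zb32) (kb xb32 yb37 zb44) (kb xb30 yb30 zb15) (kb xb19 yb13 zb50) (kb xb19 yb13 zb52) (kb xb32 yb34 zb23) (kb xb19 yb13 zb54) (kb xb26 yb39 zb52) (kb xb22 yb1 zb37) (kb xb19 yb13 zb57) (kb xb19 yb13 zb58) (kb xb28 yb18 zb37) (kb xb22 yb1 zb41) (kb xb26 yb57 zb29) (kb xb19 yb13 zb61) (kb xb27 yb0 zb28) (kb xb32 yb35 zb17) (kb xb26 yb35 zb5) (kb xb19 yb14 zb2) (kb xb29 yb45 zb55) (kb xb27 yb0 zb33) (kb xb32 yb23 zb28) (kb xb19 yb14 zb10) (kb xb19 yb14 zb6) (kb xb19 yb14 zb7) (kb xb19 yb14 zb8) (kb xb29 yb45 zb34) (kb xb31 yb33 zb5) (kb xb20 yb56 zb59) (kb xb32 yb37 zb55) (kb xb25 yb8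 zb12) (kb xb29 yb34 zb35) (kb xb25 yb10 zb10) (kb xb26 yb38 zb34) (kb xb27 yb17 zb35) (kb xb32 yb1 zb5) (kb xb20 yb56 zb42) (kb xb20 yb56 zb43) (kb xb19 yb14 zb24) (kb xb31 yb47 zb3) (kb xb26 yb33 zb23) (kb xb19 yb14 zb25) (kb xb32 yb38 zb2) (kb xb29 yb9 zb20) (kb xb29 yb13 zb49) (kb xb27 yb27 zb18) (kb xb26 yb2 zb19) (kb xb31 yb38 zb26) (kb xb31 yb33 zb54) (kb xb30 yb32 zb11) (kb xb19 yb14 zb35) (kb xb28 yb45 zb24) (kb xb31 yb33 zb57) (kb xb29 yb52 zb14) (kb xb29 yb56 zb58) (kb xb32 yb38 zb7)) (@D3.rec (fun _ => Pt) (kb xb21 yb45 zb20) (kb xb31 yb39 zb2) (kb xb19 yb14 zb40) (kb xb32 yb38 zb3) (kb xb19 yb26 zb20) (kb xb24 yb31 zb40) (kb xb32 yb5 zb39) (kb xb32 yb28 zb13) (kb xb30 yb20 zb37) (kb xb19 yb14 zb49) (kb xb19 yb14 zb43) (kb xb32 yb0 zb27) (kb xb31 yb58 zb28)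 (kb xb21 yb34 zb33) (kb xb19 yb14 zb56) (kb xb30 yb2 zb26) (kb xb19 yb14 zb48) (kb xb21 yb6 zb30) (kb xb31 yb2 zb38) (kb xb19 yb14 zb52) (kb xb27 yb19 zb52) (kb xb22 yb11 zb16) (kb xb28 yb47 zb5) (kb xb19 yb14 zb54) (kb xb25 yb32 zb47) (kb xb19 yb14 zb58) (kb xb30 yb39 zb17) (kb xb27 yb35 zb60) (kb xb26 yb41 zb1) (kb xb27 yb27 zb35) (kb xb19 yb15 zb4) (kb xb19 yb28 zb19) (kb xb23 yb24 zb57) (kb xb19 yb55 zb50) (kb xb32 yb9 zb50) (kb xb27 yb31 zb49) (kb xb30 yb59 zb61) (kb xb19 yb56 zb6) (kb xb27 yb27 zb40) (kb xb31 yb28 zb42) (kb xb19 yb50 zb16) (kb xb27 yb27 zb15) (kb xb26 yb12 zb8) (kb xb27 yb25 zb18) (kb xb32 yb38 zb10) (kb xb25 yb58 zb40) (kb xb28 yb59 zb59) (kb xb19 yb15 zb54) (kb xb26 yb44 zb13) (kb xb25 yb15 zb17) (kb xb19 yb15 zb41) (kb xb27 yb29 zb27) (kb xb19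 yb15 zb43) (kb xb19 yb16 zb19) (kb xb19 yb42 zb12) (kb xb25 yb4 zb54) (kb xb30 yb56 zb51) (kb xb29 yb16 zb48) (kb xb26 yb0 zb11) (kb xb31 yb49 zb56) (kb xb19 yb15 zb53) (kb xb31 yb27 zb4)) (@D3.rec (fun _ => Pt) (kb xb31 yb48 zb51) (kb xb31 yb23 zb53) (kb xb23 yb55 zb60) (kb xb24 yb11 zb19) (kb xb24 yb14 zb50) (kb xb20 yb46 zb26) (kb xb32 yb35 zb33) (kb xb25 yb27 zb35) (kb xb31 yb46 zb47) (kb xb21 yb36 zb4) (kb xb21 yb1 zb51) (kb xb24 yb10 zb55) (kb xb23 yb5 zb46) (kb xb19 yb24 zb25) (kb xb19 yb34 zb38) (kb xb30 yb6 zb30) (kb xb27 yb43 zb52) (kb xb19 yb16 zb14) (kb xb29 yb57 zb11) (kb xb24 yb14 zb22) (kb xb25 yb9 zb0) (kb xb20 yb29 zb12) (kb xb24 yb37 zb39) (kb xb19 yb16 zb17) (kb xb19 yb16 zb18) (kb xb19 yb33 zb40) (kb xb25 yb47 zb20) (kb xb24 yb19 zb24) (kb xb22 yb5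 zb38) (kb xb31 yb58 zb30) (kb xb31 yb47 zb9) (kb xb28 yb53 zb7) (kb xb27 yb8 zb10) (kb xb28 yb25 zb33) (kb xb32 yb28 zb26) (kb xb25 yb12 zb50) (kb xb19 yb16 zb26) (kb xb25 yb27 zb34) (kb xb31 yb21 zb12) (kb xb31 yb34 zb60) (kb xb27 yb7 zb45) (kb xb31 yb58 zb26) (kb xb21 yb29 zb38) (kb xb23 yb35 zb29) (kb xb19 yb33 zb6) (kb xb21 yb33 zb1) (kb xb19 yb16 zb50) (kb xb29 yb39 zb40) (kb xb22 yb44 zb59) (kb xb29 yb11 zb36) (kb xb32 yb38 zb15) (kb xb21 yb27 zb43) (kb xb19 yb16 zb56) (kb xb30 yb0 zb30) (kb xb21 yb27 zb50) (kb xb19 yb16 zb59) (kb xb30 yb40 zb61) (kb xb19 yb17 zb6) (kb xb27 yb8 zb7) (kb xb20 yb20 zb45) (kb xb30 yb9 zb2) (kb xb27 yb25 zb31)) (@D3.rec (fun _ => Pt) (kb xb26 yb10 zb55) (kb xb27 yb18 zb54) (kb xb25 yb7 zb33) (kb xb24 yb14 zb57) (kb xb19 yb33 zb33)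 (kb xb19 yb29 zb27) (kb xb21 yb16 zb31) (kb xb29 yb8 zb32) (kb xb19 yb27 zb49) (kb xb19 yb17 zb42) (kb xb32 yb17 zb23) (kb xb28 yb18 zb17) (kb xb26 yb28 zb23) (kb xb21 yb16 zb38) (kb xb19 yb58 zb28) (kb xb19 yb17 zb50) (kb xb19 yb17 zb53) (kb xb21 yb16 zb40) (kb xb30 yb38 zb46) (kb xb27 yb19 zb28) (kb xb26 yb25 zb37) (kb xb27 yb53 zb0) (kb xb27 yb49 zb52) (kb xb23 yb22 zb4) (kb xb19 yb18 zb0) (kb xb22 yb37 zb31) (kb xb22 yb50 zb22) (kb xb22 yb50 zb23) (kb xb32 yb24 zb27) (kb xb28 yb21 zb40) (kb xb20 yb21 zb1) (kb xb24 yb46 zb2) (kb xb28 yb21 zb12) (kb xb28 yb21 zb43) (kb xb23 yb27 zb27) (kb xb19 yb18 zb15) (kb xb27 yb19 zb7) (kb xb31 yb32 zb27) (kb xb19 yb18 zb19) (kb xb19 yb18 zb18) (kb xb19 yb18 zb22) (kb xb32 yb38 zb19) (kb xb23 yb35 zb17) (kb xb24 yb31 zb28) (kb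 xb23 yb46 zb19) (kb xb32 yb5 zb56) (kb xb23 yb24 zb56) (kb xb26 yb30 zb1) (kb xb23 yb18 zb15) (kb xb32 yb28 zb10) (kb xb31 yb58 zb18) (kb xb26 yb7 zb33) (kb xb19 yb18 zb31) (kb xb19 yb18 zb28) (kb xb19 yb18 zb29) (kb xb30 yb32 zb49) (kb xb27 yb39 zb13) (kb xb19 yb18 zb34) (kb xb19 yb18 zb36) (kb xb32 yb28 zb16) (kb xb23 yb59 zb7) (kb xb19 yb18 zb45)) (@D3.rec (fun _ => Pt) (kb xb31 yb43 zb5) (kb xb19 yb18 zb49) (kb xb19 yb18 zb48) (kb xb27 yb27 zb39) (kb xb32 yb38 zb24) (kb xb27 yb28 zb49) (kb xb32 yb38 zb21) (kb xb22 yb13 zb2) (kb xb19 yb18 zb54) (kb xb24 yb47 zb38) (kb xb19 yb18 zb57) (kb xb25 yb58 zb1) (kb xb22 yb13 zb21) (kb xb30 yb12 zb52) (kb xb19 yb52 zb48) (kb xb31 yb28 zb36) (kb xb19 yb19 zb1) (kb xb19 yb19 zb10) (kb xb21 yb35 zb11) (kb xb19 yb19 zb12) (kb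 xb19 yb19 zb14) (kb xb20 yb35 zb24) (kb xb24 yb23 zb33) (kb xb19 yb19 zb18) (kb xb32 yb38 zb26) (kb xb29 yb45 zb4) (kb xb19 yb19 zb21) (kb xb29 yb43 zb60) (kb xb20 yb38 zb35) (kb xb19 yb19 zb22) (kb xb31 yb17 zb37) (kb xb32 yb38 zb27) (kb xb32 yb38 zb28) (kb xb19 yb19 zb23) (kb xb26 yb46 zb23) (kb xb19 yb19 zb27) (kb xb29 yb44 zb9) (kb xb19 yb19 zb28) (kb xb32 yb13 zb33) (kb xb32 yb38 zb30) (kb xb19 yb20 zb49) (kb xb30 yb34 zb37) (kb xb26 yb44 zb15) (kb xb19 yb19 zb34) (kb xb22 yb54 zb24) (kb xb27 yb29 zb30) (kb xb29 yb50 zb20) (kb xb24 yb56 zb17) (kb xb25 yb55 zb61) (kb xb25 yb58 zb18) (kb xb29 yb17 zb0) (kb xb28 yb7 zb57) (kb xb26 yb19 zb37) (kb xb19 yb19 zb54) (kb xb29 yb8 zb18) (kb xb27 yb52 zb7) (kb xb28 yb6 zb31) (kb xb19 yb19 zb60) (kb xb27 yb46 zb53) (kb xb29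 yb53 zb34) (kb xb19 yb20 zb2) (kb xb30 yb19 zb36)) (@D3.rec (fun _ => Pt) (kb xb31 yb17 zb21) (kb xb19 yb20 zb4) (kb xb31 yb13 zb32) (kb xb29 yb36 zb52) (kb xb23 yb23 zb56) (kb xb28 yb31 zb4) (kb xb25 yb55 zb1) (kb xb19 yb52 zb39) (kb xb31 yb51 zb1) (kb xb28 yb25 zb30) (kb xb24 yb50 zb29) (kb xb19 yb20 zb19) (kb xb19 yb20 zb20) (kb xb19 yb20 zb22) (kb xb19 yb20 zb23) (kb xb31 yb51 zb13) (kb xb29 yb2 zb45) (kb xb19 yb20 zb24) (kb xb29 yb44 zb44) (kb xb32 yb38 zb34) (kb xb31 yb21 zb31) (kb xb31 yb52 zb30) (kb xb21 yb51 zb0) (kb xb21 yb50 zb52) (kb xb28 yb40 zb57) (kb xb22 yb57 zb52) (kb xb19 yb20 zb30) (kb xb19 yb20 zb31) (kb xb31 yb31 zb28) (kb xb30 yb22 zb48) (kb xb30 yb34 zb31) (kb xb30 yb44 zb50) (kb xb19 yb20 zb34) (kb xb25 yb21 zb31) (kb xb23 yb54 zb43) (kb xb27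 yb51 zb18) (kb xb19 yb20 zb39) (kb xb32 yb38 zb37) (kb xb19 yb20 zb46) (kb xb31 yb42 zb55) (kb xb26 yb19 zb36) (kb xb31 yb31 zb5) (kb xb19 yb20 zb51) (kb xb19 yb21 zb15) (kb xb29 yb7 zb15) (kb xb20 yb9 zb17) (kb xb30 yb44 zb51) (kb xb20 yb47 zb14) (kb xb26 yb15 zb54) (kb xb28 yb21 zb56) (kb xb23 yb12 zb57) (kb xb32 yb14 zb42) (kb xb25 yb26 zb41) (kb xb25 yb51 zb34) (kb xb23 yb17 zb37) (kb xb19 yb21 zb25) (kb xb29 yb18 zb47) (kb xb29 yb20 zb29) (kb xb19 yb21 zb33) (kb xb19 yb21 zb32) (kb xb19 yb21 zb34) (kb xb22 yb58 zb35)) (@D3.rec (fun _ => Pt) (kb xb29 yb20 zb22) (kb xb19 yb21 zb37) (kb xb32 yb28 zb57) (kb xb29 yb52 zb25) (kb xb27 yb47 zb1) (kb xb19 yb21 zb45) (kb xb19 yb21 zb46) (kb xb24 yb40 zb36) (kb xb19 yb41 zb7) (kb xb24 yb52 zb60) (kb xb19 yb21 zb42) (kb xb28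 yb15 zb24) (kb xb23 yb56 zb47) (kb xb31 yb55 zb40) (kb xb25 yb56 zb16) (kb xb32 yb33 zb8) (kb xb28 yb22 zb6) (kb xb28 yb24 zb9) (kb xb19 yb22 zb32) (kb xb24 yb46 zb6) (kb xb19 yb21 zb51) (kb xb19 yb21 zb49) (kb xb29 yb28 zb1) (kb xb19 yb22 zb40) (kb xb31 yb29 zb27) (kb xb27 yb52 zb38) (kb xb19 yb21 zb54) (kb xb19 yb21 zb58) (kb xb29 yb2 zb12) (kb xb31 yb55 zb12) (kb xb23 yb53 zb27) (kb xb32 yb27 zb4) (kb xb19 yb23 zb1) (kb xb22 yb50 zb5) (kb xb30 yb35 zb36) (kb xb19 yb22 zb6) (kb xb19 yb22 zb59) (kb xb26 yb27 zb30) (kb xb31 yb15 zb11) (kb xb19 yb22 zb10) (kb xb19 yb22 zb9) (kb xb32 yb38 zb42) (kb xb25 yb46 zb48) (kb xb31 yb38 zb48) (kb xb19 yb22 zb17) (kb xb32 yb38 zb44) (kb xb24 yb19 zb31) (kb xb31 yb15 zb29) (kb xb22 yb15 zb40) (kb xb32 yb13 zb39) (kb xb20 yb45 zb9)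 (kb xb19 yb22 zb35) (kb xb32 yb7 zb61) (kb xb29 yb39 zb4) (kb xb27 yb37 zb55) (kb xb29 yb18 zb32) (kb xb31 yb25 zb15) (kb xb32 yb6 zb57) (kb xb32 yb25 zb53) (kb xb31 yb20 zb61) (kb xb26 yb39 zb36) (kb xb19 yb22 zb46)) (@D3.rec (fun _ => Pt) (kb xb28 yb54 zb2) (kb xb25 yb22 zb58) (kb xb31 yb41 zb24) (kb xb32 yb38 zb46) (kb xb19 yb22 zb50) (kb xb28 yb41 zb22) (kb xb27 yb20 zb44) (kb xb31 yb45 zb13) (kb xb32 yb38 zb48) (kb xb19 yb23 zb0) (kb xb30 yb34 zb48) (kb xb26 yb26 zb8) (kb xb19 yb22 zb60) (kb xb32 yb38 zb52) (kb xb30 yb45 zb27) (kb xb22 yb13 zb10) (kb xb27 yb34 zb10) (kb xb24 yb39 zb35) (kb xb23 yb56 zb30) (kb xb24 yb8 zb38) (kb xb32 yb9 zb51) (kb xb19 yb23 zb9) (kb xb25 yb45 zb38) (kb xb20 yb48 zb54) (kb xb19 yb34 zb55) (kb xb25 yb22 zb44) (kb xb19 yb23 zb24) (kb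 xb24 yb2 zb46) (kb xb19 yb23 zb26) (kb xb19 yb23 zb27) (kb xb19 yb23 zb29) (kb xb32 yb38 zb53) (kb xb19 yb23 zb38) (kb xb19 yb23 zb39) (kb xb23 yb5 zb47) (kb xb24 yb11 zb16) (kb xb19 yb23 zb44) (kb xb19 yb23 zb46) (kb xb30 yb27 zb51) (kb xb19 yb34 zb4) (kb xb30 yb34 zb14) (kb xb19 yb23 zb50) (kb xb29 yb21 zb12) (kb xb19 yb23 zb53) (kb xb21 yb5 zb14) (kb xb24 yb4 zb36) (kb xb21 yb1 zb41) (kb xb30 yb9 zb8) (kb xb23 yb0 zb24) (kb xb19 yb23 zb60) (kb xb19 yb48 zb1) (kb xb31 yb14 zb15) (kb xb23 yb4 zb15) (kb xb24 yb12 zb26) (kb xb24 yb39 zb23) (kb xb30 yb39 zb15) (kb xb19 yb24 zb6) (kb xb19 yb24 zb7) (kb xb32 yb15 zb48) (kb xb22 yb20 zb43) (kb xb32 yb35 zb35) (kb xb24 yb53 zb28)) (@D3.rec (fun _ => Pt) (kb xb24 yb10 zb56) (kb xb19 yb24 zb13) (kb xb31 yb28 zb33) (kb xb23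 yb11 zb29) (kb xb28 yb21 zb61) (kb xb23 yb58 zb37) (kb xb19 yb24 zb24) (kb xb23 yb58 zb30) (kb xb22 yb59 zb9) (kb xb19 yb24 zb28) (kb xb19 yb24 zb27) (kb xb31 yb59 zb42) (kb xb31 yb35 zb7) (kb xb24 yb17 zb34) (kb xb19 yb24 zb30) (kb xb19 yb57 zb5) (kb xb32 yb38 zb54) (kb xb19 yb24 zb33) (kb xb28 yb19 zb26) (kb xb25 yb12 zb45) (kb xb24 yb16 zb56) (kb xb20 yb58 zb36) (kb xb19 yb24 zb40) (kb xb24 yb33 zb9) (kb xb24 yb35 zb29) (kb xb25 yb59 zb34) (kb xb29 yb30 zb46) (kb xb19 yb24 zb49) (kb xb31 yb53 zb45) (kb xb24 yb17 zb42) (kb xb20 yb51 zb8) (kb xb19 yb24 zb60) (kb xb19 yb24 zb55) (kb xb19 yb25 zb1) (kb xb24 yb23 zb24) (kb xb19 yb25 zb7) (kb xb26 yb58 zb0) (kb xb24 yb29 zb22) (kb xb24 yb10 zb36) (kb xb29 yb49 zb5) (kb xb24 yb34 zb33) (kb xb19 yb25 zb20) (kb xb20 yb25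 zb45) (kb xb22 yb42 zb31) (kb xb19 yb25 zb23) (kb xb20 yb44 zb32) (kb xb19 yb25 zb24) (kb xb29 yb39 zb51) (kb xb31 yb14 zb6) (kb xb19 yb25 zb27) (kb xb30 yb27 zb19) (kb xb31 yb59 zb35) (kb xb19 yb25 zb32) (kb xb31 yb33 zb9) (kb xb27 yb39 zb21) (kb xb24 yb32 zb19) (kb xb31 yb50 zb35) (kb xb19 yb25 zb34) (kb xb32 yb38 zb58) (kb xb19 yb25 zb35) (kb xb32 yb38 zb60) (kb xb30 yb25 zb53)) (@D3.rec (fun _ => Pt) (kb xb30 yb17 zb16) (kb xb19 yb25 zb36) (kb xb32 yb39 zb2) (kb xb19 yb25 zb39) (kb xb30 yb17 zb10) (kb xb19 yb25 zb40) (kb xb19 yb25 zb41) (kb xb32 yb39 zb5) (kb xb32 yb20 zb11) (kb xb20 yb7 zb38) (kb xb24 yb10 zb29) (kb xb19 yb25 zb47) (kb xb31 yb30 zb50) (kb xb19 yb25 zb50) (kb xb19 yb25 zb49) (kb xb29 yb40 zb26) (kb xb24 yb14 zb28) (kb xb25 yb18 zb4) (kb xb30 yb5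 zb22) (kb xb19 yb25 zb59) (kb xb28 yb23 zb44) (kb xb27 yb50 zb51) (kb xb22 yb53 zb0) (kb xb20 yb29 zb18) (kb xb26 yb25 zb28) (kb xb19 yb26 zb10) (kb xb19 yb26 zb11) (kb xb20 yb18 zb7) (kb xb19 yb26 zb14) (kb xb19 yb26 zb16) (kb xb25 yb42 zb6) (kb xb22 yb43 zb34) (kb xb29 yb5 zb55) (kb xb24 yb20 zb3) (kb xb26 yb7 zb3) (kb xb31 yb12 zb14) (kb xb19 yb26 zb30) (kb xb25 yb39 zb3) (kb xb25 yb23 zb10) (kb xb21 yb11 zb34) (kb xb19 yb26 zb34) (kb xb32 yb39 zb10) (kb xb32 yb39 zb11) (kb xb19 yb26 zb37) (kb xb30 yb4 zb37) (kb xb31 yb9 zb8) (kb xb29 yb56 zb21) (kb xb25 yb36 zb60) (kb xb24 yb16 zb24) (kb xb28 yb56 zb3) (kb xb19 yb26 zb60) (kb xb26 yb9 zb59) (kb xb29 yb24 zb48) (kb xb32 yb39 zb12) (kb xb20 yb4 zb52) (kb xb30 yb19 zb51) (kb xb27 yb10 zb11) (kb xb28 yb32 zb38) (kb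 xb32 yb1 zb3) (kb xb32 yb23 zb12) (kb xb19 yb27 zb14) (kb xb32 yb33 zb61)) (@D3.rec (fun _ => Pt) (kb xb19 yb27 zb17) (kb xb19 yb27 zb18) (kb xb19 yb27 zb11) (kb xb22 yb23 zb4) (kb xb24 yb23 zb6) (kb xb19 yb37 zb20) (kb xb23 yb58 zb55) (kb xb28 yb21 zb15) (kb xb24 yb20 zb59) (kb xb19 yb27 zb29) (kb xb19 yb27 zb32) (kb xb32 yb19 zb20) (kb xb31 yb25 zb22) (kb xb21 yb52 zb49) (kb xb24 yb24 zb32) (kb xb19 yb27 zb41) (kb xb19 yb27 zb50) (kb xb31 yb28 zb34) (kb xb29 yb8 zb4) (kb xb25 yb50 zb37) (kb xb25 yb50 zb43) (kb xb19 yb28 zb3) (kb xb29 yb22 zb51) (kb xb19 yb43 zb18) (kb xb31 yb58 zb27) (kb xb19 yb28 zb12) (kb xb24 yb0 zb42) (kb xb32 yb10 zb47) (kb xb26 yb34 zb56) (kb xb31 yb13 zb24) (kb xb32 yb39 zb15) (kb xb30 yb35 zb59) (kb xb19 yb30 zb35) (kb xb19 yb28 zb28) (kb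 xb19 yb28 zb29) (kb xb19 yb28 zb27) (kb xb25 yb43 zb19) (kb xb22 yb0 zb14) (kb xb19 yb36 zb20) (kb xb20 yb35 zb7) (kb xb19 yb30 zb32) (kb xb32 yb39 zb18) (kb xb19 yb44 zb3) (kb xb31 yb40 zb40) (kb xb19 yb28 zb32) (kb xb19 yb28 zb33) (kb xb25 yb4 zb41) (kb xb31 yb40 zb41) (kb xb21 yb4 zb14) (kb xb32 yb30 zb49) (kb xb19 yb30 zb41) (kb xb32 yb39 zb22) (kb xb32 yb39 zb23) (kb xb32 yb18 zb54) (kb xb19 yb28 zb35) (kb xb27 yb1 zb0) (kb xb31 yb12 zb27) (kb xb32 yb9 zb30) (kb xb24 yb9 zb31) (kb xb24 yb11 zb38) (kb xb31 yb49 zb17) (kb xb31 yb55 zb36)) (@D3.rec (fun _ => Pt) (kb xb19 yb34 zb17) (kb xb20 yb11 zb24) (kb xb32 yb1 zb55) (kb xb19 yb28 zb59) (kb xb29 yb9 zb57) (kb xb26 yb49 zb13) (kb xb29 yb32 zb32) (kb xb32 yb39 zb28) (kb xb29 yb33 zb60) (kb xb29 yb23 zb15) (kb xb32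 yb35 zb36) (kb xb32 yb39 zb30) (kb xb29 yb39 zb58) (kb xb24 yb1 zb4) (kb xb19 yb29 zb3) (kb xb19 yb29 zb6) (kb xb31 yb18 zb38) (kb xb19 yb29 zb8) (kb xb19 yb29 zb10) (kb xb32 yb39 zb31) (kb xb25 yb33 zb46) (kb xb31 yb40 zb19) (kb xb27 yb35 zb48) (kb xb31 yb47 zb55) (kb xb27 yb39 zb18) (kb xb31 yb47 zb57) (kb xb19 yb29 zb18) (kb xb19 yb29 zb19) (kb xb32 yb39 zb33) (kb xb24 yb49 zb53) (kb xb29 yb43 zb39) (kb xb26 yb54 zb51) (kb xb26 yb53 zb33) (kb xb24 yb27 zb15) (kb xb31 yb20 zb14) (kb xb24 yb51 zb40) (kb xb19 yb35 zb11) (kb xb25 yb29 zb1) (kb xb19 yb32 zb59) (kb xb32 yb14 zb46) (kb xb28 yb38 zb35) (kb xb32 yb14 zb47) (kb xb29 yb48 zb26) (kb xb28 yb52 zb19) (kb xb24 yb9 zb23) (kb xb26 yb23 zb58) (kb xb19 yb29 zb38) (kb xb19 yb29 zb31) (kb xb26 yb54 zb11) (kb xb32 yb39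 zb38) (kb xb26 yb54 zb15) (kb xb31 yb23 zb12) (kb xb31 yb24 zb7) (kb xb29 yb42 zb49) (kb xb30 yb5 zb6) (kb xb19 yb29 zb44) (kb xb19 yb29 zb35) (kb xb32 yb39 zb41) (kb xb29 yb35 zb24) (kb xb32 yb39 zb43) (kb xb31 yb30 zb1) (kb xb32 yb14 zb57)) (@D3.rec (fun _ => Pt) (kb xb27 yb13 zb34) (kb xb30 yb56 zb58) (kb xb19 yb29 zb41) (kb xb32 yb20 zb32) (kb xb19 yb29 zb42) (kb xb27 yb8 zb55) (kb xb28 yb16 zb28) (kb xb19 yb29 zb43) (kb xb32 yb39 zb40) (kb xb19 yb29 zb46) (kb xb21 yb38 zb33) (kb xb30 yb23 zb59) (kb xb29 yb2 zb1) (kb xb32 yb39 zb16) (kb xb32 yb15 zb13) (kb xb32 yb15 zb7) (kb xb32 yb15 zb8) (kb xb19 yb29 zb54) (kb xb23 yb53 zb40) (kb xb28 yb51 zb43) (kb xb32 yb13 zb27) (kb xb22 yb33 zb27) (kb xb19 yb30 zb2) (kb xb19 yb30 zb3) (kb xb19 yb29 zb58) (kb xb30 yb34 zb39)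 (kb xb32 yb39 zb50) (kb xb30 yb12 zb8) (kb xb19 yb29 zb59) (kb xb32 yb39 zb51) (kb xb24 yb25 zb31) (kb xb31 yb19 zb35) (kb xb30 yb14 zb58) (kb xb19 yb30 zb6) (kb xb19 yb30 zb0) (kb xb23 yb56 zb23) (kb xb19 yb30 zb1) (kb xb24 yb8 zb32) (kb xb32 yb39 zb53) (kb xb32 yb39 zb54) (kb xb29 yb53 zb40) (kb xb32 yb39 zb56) (kb xb19 yb30 zb5) (kb xb24 yb17 zb10) (kb xb30 yb16 zb1) (kb xb29 yb0 zb5) (kb xb32 yb39 zb21) (kb xb32 yb15 zb1) (kb xb29 yb48 zb13) (kb xb19 yb30 zb14) (kb xb29 yb20 zb50) (kb xb31 yb54 zb32) (kb xb19 yb30 zb16) (kb xb27 yb5 zb0) (kb xb19 yb30 zb17) (kb xb21 yb21 zb27) (kb xb29 yb36 zb38) (kb xb22 yb13 zb34) (kb xb19 yb30 zb26) (kb xb19 yb30 zb20) (kb xb32 yb39 zb58) (kb xb28 yb16 zb34)) (@D3.rec (fun _ => Pt) (kb xb32 yb31 zb58) (kb xb32 yb39 zb59) (kb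 xb19 yb30 zb25) (kb xb32 yb39 zb57) (kb xb29 yb1 zb32) (kb xb32 yb15 zb12) (kb xb19 yb30 zb31) (kb xb28 yb42 zb31) (kb xb32 yb39 zb60) (kb xb31 yb58 zb52) (kb xb24 yb8 zb24) (kb xb20 yb48 zb5) (kb xb22 yb26 zb0) (kb xb30 yb30 zb8) (kb xb23 yb55 zb49) (kb xb24 yb8 zb13) (kb xb27 yb37 zb25) (kb xb27 yb37 zb26) (kb xb27 yb58 zb31) (kb xb19 yb30 zb40) (kb xb32 yb40 zb0) (kb xb19 yb30 zb42) (kb xb19 yb30 zb43) (kb xb23 yb55 zb8) (kb xb23 yb55 zb9) (kb xb22 yb41 zb55) (kb xb30 yb37 zb49) (kb xb32 yb36 zb28) (kb xb24 yb4 zb8) (kb xb30 yb48 zb45) (kb xb30 yb45 zb0) (kb xb32 yb40 zb3) (kb xb19 yb30 zb44) (kb xb23 yb1 zb9) (kb xb23 yb12 zb44) (kb xb19 yb30 zb48) (kb xb24 yb8 zb42) (kb xb26 yb22 zb15) (kb xb19 yb30 zb49) (kb xb29 yb28 zb26) (kb xb19 yb30 zb50) (kb xb27 yb14 zb55)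 (kb xb25 yb59 zb39) (kb xb29 yb32 zb1) (kb xb32 yb2 zb14) (kb xb19 yb30 zb54) (kb xb24 yb22 zb45) (kb xb19 yb31 zb0) (kb xb26 yb1 zb42) (kb xb31 yb26 zb52) (kb xb19 yb31 zb9) (kb xb19 yb31 zb10) (kb xb26 yb54 zb46) (kb xb23 yb5 zb38) (kb xb19 yb31 zb18) (kb xb24 yb11 zb34) (kb xb29 yb28 zb2) (kb xb26 yb59 zb25) (kb xb31 yb56 zb37) (kb xb19 yb31 zb23) (kb xb25 yb5 zb61) (kb xb23 yb11 zb28)) (@D3.rec (fun _ => Pt) (kb xb30 yb46 zb52) (kb xb19 yb31 zb28) (kb xb28 yb47 zb0) (kb xb19 yb31 zb31) (kb xb28 yb20 zb57) (kb xb19 yb31 zb36) (kb xb30 yb46 zb9) (kb xb24 yb13 zb26) (kb xb19 yb31 zb37) (kb xb30 yb14 zb59) (kb xb19 yb31 zb40) (kb xb26 yb1 zb54) (kb xb19 yb54 zb59) (kb xb25 yb49 zb35) (kb xb32 yb11 zb5) (kb xb32 yb40 zb13) (kb xb26 yb40 zb15) (kb xb30 yb16 zb16) (kb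 xb24 yb33 zb28) (kb xb32 yb10 zb57) (kb xb19 yb31 zb54) (kb xb19 yb31 zb55) (kb xb19 yb31 zb48) (kb xb29 yb34 zb10) (kb xb19 yb31 zb49) (kb xb32 yb20 zb61) (kb xb32 yb40 zb17) (kb xb28 yb56 zb33) (kb xb19 yb32 zb1) (kb xb29 yb31 zb28) (kb xb19 yb31 zb53) (kb xb32 yb40 zb21) (kb xb22 yb24 zb58) (kb xb32 yb40 zb22) (kb xb22 yb14 zb32) (kb xb32 yb40 zb15) (kb xb29 yb47 zb25) (kb xb26 yb34 zb9) (kb xb19 yb31 zb58) (kb xb22 yb58 zb43) (kb xb29 yb37 zb61) (kb xb26 yb10 zb31) (kb xb19 yb31 zb60) (kb xb29 yb34 zb22) (kb xb19 yb31 zb61) (kb xb29 yb34 zb11) (kb xb29 yb40 zb51) (kb xb19 yb32 zb2) (kb xb32 yb40 zb27) (kb xb19 yb32 zb5) (kb xb19 yb32 zb6) (kb xb32 yb40 zb28) (kb xb32 yb22 zb30) (kb xb19 yb32 zb11) (kb xb28 yb37 zb17) (kb xb30 yb15 zb37) (kb xb20 yb22 zb19) (kb xb32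 yb40 zb30) (kb xb26 yb36 zb3) (kb xb19 yb57 zb46) (kb xb19 yb32 zb28) (kb xb19 yb32 zb38)) (@D3.rec (fun _ => Pt) (kb xb29 yb35 zb51) (kb xb19 yb32 zb40) (kb xb19 yb32 zb41) (kb xb24 yb50 zb9) (kb xb24 yb49 zb33) (kb xb24 yb50 zb12) (kb xb19 yb32 zb52) (kb xb19 yb32 zb53) (kb xb32 yb24 zb25) (kb xb32 yb40 zb34) (kb xb31 yb55 zb41) (kb xb30 yb21 zb11) (kb xb31 yb51 zb5) (kb xb29 yb11 zb18) (kb xb32 yb5 zb19) (kb xb32 yb3 zb13) (kb xb24 yb49 zb22) (kb xb26 yb6 zb19) (kb xb26 yb6 zb22) (kb xb19 yb33 zb2) (kb xb32 yb40 zb40) (kb xb19 yb33 zb3) (kb xb32 yb40 zb43) (kb xb32 yb40 zb45) (kb xb30 yb23 zb39) (kb xb25 yb21 zb41) (kb xb30 yb33 zb44) (kb xb20 yb6 zb42) (kb xb32 yb25 zb21) (kb xb19 yb33 zb13) (kb xb32 yb40 zb54) (kb xb19 yb33 zb16) (kb xb31 yb40 zb15) (kb xb19 yb33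 zb26) (kb xb20 yb33 zb48) (kb xb29 yb27 zb11) (kb xb32 yb10 zb19) (kb xb19 yb33 zb36) (kb xb19 yb33 zb39) (kb xb28 yb14 zb30) (kb xb19 yb33 zb35) (kb xb32 yb10 zb18) (kb xb30 yb43 zb50) (kb xb27 yb59 zb40) (kb xb28 yb34 zb18) (kb xb26 yb27 zb60) (kb xb19 yb33 zb37) (kb xb29 yb40 zb20) (kb xb31 yb55 zb42) (kb xb22 yb19 zb14) (kb xb31 yb55 zb43) (kb xb31 yb12 zb43) (kb xb20 yb56 zb23) (kb xb19 yb39 zb7) (kb xb27 yb3 zb29) (kb xb21 yb57 zb55) (kb xb29 yb46 zb13) (kb xb32 yb13 zb17) (kb xb21 yb38 zb1) (kb xb30 yb5 zb13) (kb xb29 yb2 zb49) (kb xb19 yb34 zb13)) (@D3.rec (fun _ => Pt) (kb xb19 yb34 zb3) (kb xb19 yb34 zb6) (kb xb19 yb34 zb2) (kb xb28 yb49 zb49) (kb xb28 yb26 zb38) (kb xb24 yb9 zb2) (kb xb32 yb40 zb41) (kb xb26 yb26 zb17) (kb xb32 yb16 zb34) (kb xb19 yb34 zb5)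 (kb xb32 yb40 zb59) (kb xb32 yb21 zb12) (kb xb32 yb40 zb61) (kb xb32 yb41 zb0) (kb xb32 yb33 zb2) (kb xb19 yb34 zb9) (kb xb19 yb34 zb12) (kb xb22 yb50 zb9) (kb xb30 yb54 zb5) (kb xb20 yb33 zb15) (kb xb20 yb15 zb45) (kb xb30 yb51 zb7) (kb xb31 yb23 zb43) (kb xb27 yb55 zb37) (kb xb19 yb34 zb30) (kb xb30 yb50 zb49) (kb xb20 yb27 zb14) (kb xb20 yb19 zb8) (kb xb29 yb27 zb14) (kb xb19 yb34 zb40) (kb xb32 yb41 zb2) (kb xb19 yb34 zb41) (kb xb32 yb41 zb4) (kb xb28 yb54 zb27) (kb xb19 yb34 zb42) (kb xb32 yb41 zb10) (kb xb32 yb41 zb9) (kb xb19 yb34 zb43) (kb xb19 yb34 zb46) (kb xb19 yb34 zb47) (kb xb19 yb46 zb17) (kb xb29 yb5 zb16) (kb xb26 yb38 zb43) (kb xb26 yb41 zb37) (kb xb24 yb50 zb26) (kb xb20 yb39 zb48) (kb xb19 yb34 zb58) (kb xb24 yb15 zb50) (kb xb27 yb19 zb19) (kb xb19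 yb45 zb9) (kb xb19 yb35 zb1) (kb xb19 yb35 zb2) (kb xb26 yb33 zb61) (kb xb32 yb41 zb13) (kb xb19 yb35 zb5) (kb xb19 yb35 zb59) (kb xb23 yb37 zb51) (kb xb19 yb35 zb8) (kb xb32 yb4 zb1) (kb xb19 yb37 zb12) (kb xb19 yb35 zb13) (kb xb32 yb38 zb16)) (@D3.rec (fun _ => Pt) (kb xb32 yb39 zb34) (kb xb19 yb35 zb16) (kb xb19 yb35 zb17) (kb xb19 yb37 zb17) (kb xb19 yb37 zb21) (kb xb19 yb37 zb23) (kb xb19 yb35 zb20) (kb xb27 yb12 zb34) (kb xb24 yb36 zb57) (kb xb30 yb50 zb26) (kb xb19 yb35 zb28) (kb xb19 yb35 zb29) (kb xb19 yb35 zb23) (kb xb24 yb37 zb36) (kb xb29 yb6 zb45) (kb xb19 yb35 zb24) (kb xb20 yb3 zb45) (kb xb32 yb41 zb17) (kb xb31 yb28 zb51) (kb xb29 yb17 zb12) (kb xb19 yb35 zb26) (kb xb20 yb2 zb23) (kb xb25 yb6 zb9) (kb xb24 yb50 zb56) (kb xb25 yb13 zb44) (kb xb19 yb35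 zb31) (kb xb29 yb6 zb54) (kb xb30 yb9 zb39) (kb xb29 yb13 zb25) (kb xb20 yb37 zb55) (kb xb19 yb35 zb32) (kb xb32 yb16 zb23) (kb xb31 yb24 zb22) (kb xb19 yb35 zb35) (kb xb22 yb52 zb42) (kb xb21 yb49 zb59) (kb xb19 yb35 zb40) (kb xb25 yb7 zb11) (kb xb28 yb23 zb48) (kb xb25 yb7 zb36) (kb xb19 yb35 zb43) (kb xb27 yb11 zb24) (kb xb21 yb42 zb56) (kb xb30 yb14 zb17) (kb xb25 yb38 zb4) (kb xb19 yb35 zb53) (kb xb25 yb37 zb55) (kb xb29 yb51 zb51) (kb xb19 yb35 zb57) (kb xb20 yb27 zb47) (kb xb31 yb59 zb44) (kb xb31 yb53 zb29) (kb xb27 yb11 zb34) (kb xb29 yb43 zb8) (kb xb31 yb23 zb26) (kb xb30 yb10 zb22) (kb xb22 yb3 zb29) (kb xb26 yb11 zb19) (kb xb23 yb55 zb59) (kb xb26 yb58 zb55) (kb xb32 yb13 zb22) (kb xb20 yb58 zb29)) (@D3.rec (fun _ => Pt) (kb xb31 yb49 zb7) (kb xb19 yb36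 zb6) (kb xb26 yb39 zb28) (kb xb24 yb3 zb38) (kb xb28 yb38 zb26) (kb xb20 yb7 zb30) (kb xb19 yb36 zb22) (kb xb29 yb17 zb33) (kb xb31 yb49 zb8) (kb xb19 yb36 zb23) (kb xb29 yb15 zb32) (kb xb25 yb31 zb59) (kb xb24 yb4 zb41) (kb xb30 yb19 zb37) (kb xb24 yb17 zb32) (kb xb32 yb38 zb55) (kb xb19 yb36 zb29) (kb xb31 yb48 zb60) (kb xb20 yb25 zb53) (kb xb32 yb18 zb16) (kb xb22 yb1 zb60) (kb xb22 yb3 zb3) (kb xb29 yb19 zb61) (kb xb27 yb17 zb28) (kb xb19 yb39 zb38) (kb xb27 yb17 zb34) (kb xb19 yb36 zb38) (kb xb21 yb58 zb58) (kb xb31 yb54 zb44) (kb xb26 yb34 zb16) (kb xb32 yb3 zb58) (kb xb32 yb3 zb59) (kb xb19 yb36 zb49) (kb xb26 yb34 zb26) (kb xb31 yb35 zb35) (kb xb26 yb47 zb38) (kb xb19 yb36 zb58) (kb xb29 yb41 zb42) (kb xb27 yb23 zb14) (kb xb22 yb0 zb17) (kb xb19 yb36 zb61) (kb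 xb24 yb34 zb24) (kb xb30 yb0 zb9) (kb xb19 yb37 zb0) (kb xb19 yb57 zb48) (kb xb31 yb56 zb30) (kb xb31 yb28 zb14) (kb xb25 yb12 zb21) (kb xb32 yb27 zb54) (kb xb29 yb21 zb37) (kb xb19 yb37 zb10) (kb xb29 yb47 zb44) (kb xb30 yb1 zb42) (kb xb21 yb5 zb30) (kb xb32 yb41 zb14) (kb xb29 yb4 zb11) (kb xb32 yb14 zb37) (kb xb24 yb15 zb61) (kb xb22 yb2 zb11) (kb xb19 yb37 zb19) (kb xb19 yb37 zb16) (kb xb31 yb16 zb11)) (@D3.rec (fun _ => Pt) (kb xb30 yb7 zb11) (kb xb23 yb24 zb23) (kb xb21 yb46 zb14) (kb xb32 yb21 zb56) (kb xb32 yb28 zb28) (kb xb19 yb37 zb22) (kb xb21 yb50 zb25) (kb xb32 yb0 zb42) (kb xb23 yb55 zb43) (kb xb28 yb16 zb56) (kb xb28 yb23 zb61) (kb xb19 yb37 zb29) (kb xb29 yb20 zb0) (kb xb19 yb37 zb35) (kb xb27 yb16 zb47) (kb xb32 yb41 zb27) (kb xb19 yb37 zb36) (kb xb28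 yb26 zb32) (kb xb25 yb22 zb40) (kb xb19 yb38 zb2) (kb xb31 yb49 zb54) (kb xb19 yb40 zb23) (kb xb29 yb17 zb13) (kb xb21 yb50 zb24) (kb xb19 yb37 zb56) (kb xb19 yb37 zb55) (kb xb31 yb46 zb0) (kb xb19 yb46 zb4) (kb xb19 yb37 zb59) (kb xb31 yb41 zb34) (kb xb29 yb6 zb53) (kb xb28 yb14 zb21) (kb xb19 yb50 zb13) (kb xb32 yb4 zb8) (kb xb21 yb50 zb23) (kb xb32 yb0 zb21) (kb xb19 yb38 zb4) (kb xb24 yb50 zb14) (kb xb32 yb0 zb23) (kb xb20 yb4 zb61) (kb xb32 yb27 zb22) (kb xb32 yb12 zb0) (kb xb32 yb41 zb29) (kb xb31 yb32 zb10) (kb xb19 yb38 zb9) (kb xb25 yb23 zb32) (kb xb19 yb38 zb12) (kb xb29 yb2 zb23) (kb xb32 yb41 zb30) (kb xb25 yb14 zb12) (kb xb30 yb14 zb28) (kb xb19 yb38 zb16) (kb xb31 yb21 zb34) (kb xb29 yb36 zb5) (kb xb31 yb24 zb23) (kb xb27 yb42 zb42) (kb xb19 yb38 zb22)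 (kb xb32 yb41 zb34) (kb xb31 yb46 zb42) (kb xb28 yb41 zb46) (kb xb19 yb38 zb27) (kb xb19 yb38 zb29))
def f_b_29 : D2 → D3 → Pt := @D2.rec (fun _ => D3 → Pt) (@D3.rec (fun _ => Pt) (kb xb27 yb42 zb40) (kb xb25 yb36 zb58) (kb xb20 yb3 zb18) (kb xb22 yb21 zb25) (kb xb31 yb7 zb3) (kb xb28 yb52 zb45) (kb xb19 yb38 zb41) (kb xb19 yb38 zb42) (kb xb29 yb56 zb17) (kb xb25 yb41 zb54) (kb xb26 yb45 zb42) (kb xb19 yb38 zb44) (kb xb19 yb38 zb48) (kb xb32 yb10 zb58) (kb xb26 yb12 zb36) (kb xb20 yb49 zb55) (kb xb19 yb38 zb51) (kb xb29 yb31 zb4) (kb xb22 yb9 zb19) (kb xb29 yb50 zb7) (kb xb28 yb19 zb32) (kb xb24 yb17 zb20) (kb xb19 yb39 zb17) (kb xb30 yb55 zb60) (kb xb19 yb39 zb19) (kb xb30 yb6 zb36) (kb xb22 yb3 zb41) (kb xb28 yb14 zb29) (kb xb26 yb25 zb38) (kb xb19 yb39 zb27) (kb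 xb28 yb29 zb42) (kb xb28 yb38 zb50) (kb xb24 yb16 zb0) (kb xb19 yb39 zb28) (kb xb25 yb32 zb57) (kb xb27 yb17 zb31) (kb xb25 yb53 zb32) (kb xb21 yb33 zb0) (kb xb19 yb39 zb48) (kb xb27 yb58 zb29) (kb xb24 yb9 zb21) (kb xb24 yb57 zb48) (kb xb21 yb11 zb4) (kb xb27 yb22 zb60) (kb xb19 yb40 zb29) (kb xb19 yb40 zb10) (kb xb32 yb25 zb9) (kb xb19 yb40 zb13) (kb xb19 yb40 zb14) (kb xb27 yb38 zb1) (kb xb19 yb40 zb17) (kb xb19 yb40 zb19) (kb xb25 yb9 zb51) (kb xb30 yb41 zb55) (kb xb25 yb9 zb43) (kb xb31 yb13 zb19) (kb xb19 yb40 zb27) (kb xb19 yb40 zb35) (kb xb27 yb11 zb47) (kb xb23 yb58 zb10) (kb xb21 yb20 zb57) (kb xb26 yb41 zb6)) (@D3.rec (fun _ => Pt) (kb xb20 yb37 zb46) (kb xb24 yb39 zb11) (kb xb19 yb40 zb53) (kb xb31 yb28 zb24) (kb xb19 yb40 zb58) (kb xb22 yb56 zb44) (kb xb19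 yb40 zb61) (kb xb31 yb39 zb54) (kb xb19 yb41 zb10) (kb xb19 yb41 zb12) (kb xb19 yb51 zb33) (kb xb31 yb22 zb49) (kb xb19 yb41 zb15) (kb xb32 yb8 zb58) (kb xb19 yb41 zb17) (kb xb30 yb27 zb20) (kb xb19 yb41 zb18) (kb xb19 yb41 zb20) (kb xb32 yb3 zb60) (kb xb32 yb4 zb12) (kb xb31 yb28 zb23) (kb xb25 yb42 zb5) (kb xb19 yb41 zb27) (kb xb26 yb38 zb17) (kb xb24 yb3 zb31) (kb xb19 yb41 zb31) (kb xb19 yb41 zb36) (kb xb22 yb7 zb26) (kb xb25 yb43 zb21) (kb xb30 yb39 zb51) (kb xb27 yb2 zb29) (kb xb24 yb38 zb37) (kb xb28 yb53 zb4) (kb xb19 yb41 zb39) (kb xb30 yb34 zb59) (kb xb30 yb34 zb42) (kb xb19 yb41 zb59) (kb xb29 yb32 zb9) (kb xb30 yb50 zb20) (kb xb31 yb33 zb35) (kb xb19 yb41 zb40) (kb xb28 yb13 zb42) (kb xb32 yb34 zb4) (kb xb30 yb44 zb15) (kb xb20 yb38 zb49) (kb xb22 yb18 zb30)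 (kb xb19 yb42 zb1) (kb xb24 yb39 zb18) (kb xb19 yb48 zb2) (kb xb19 yb41 zb46) (kb xb22 yb39 zb40) (kb xb19 yb41 zb48) (kb xb32 yb38 zb39) (kb xb28 yb36 zb33) (kb xb28 yb5 zb60) (kb xb29 yb31 zb57) (kb xb25 yb35 zb45) (kb xb29 yb32 zb16) (kb xb19 yb41 zb55) (kb xb31 yb23 zb22) (kb xb32 yb41 zb40) (kb xb27 yb6 zb42)) (@D3.rec (fun _ => Pt) (kb xb30 yb35 zb4) (kb xb28 yb52 zb12) (kb xb26 yb31 zb24) (kb xb19 yb41 zb60) (kb xb19 yb41 zb61) (kb xb30 yb30 zb31) (kb xb30 yb30 zb2) (kb xb31 yb17 zb32) (kb xb32 yb41 zb48) (kb xb28 yb35 zb14) (kb xb22 yb56 zb23) (kb xb24 yb58 zb37) (kb xb28 yb46 zb28) (kb xb24 yb3 zb58) (kb xb21 yb47 zb41) (kb xb19 yb42 zb7) (kb xb19 yb42 zb8) (kb xb23 yb46 zb31) (kb xb25 yb11 zb22) (kb xb19 yb42 zb18) (kb xb24 yb50 zb10) (kb xb25 yb22 zb20) (kb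 xb19 yb42 zb19) (kb xb28 yb59 zb47) (kb xb19 yb43 zb60) (kb xb24 yb10 zb50) (kb xb20 yb53 zb8) (kb xb19 yb42 zb25) (kb xb19 yb42 zb26) (kb xb32 yb41 zb51) (kb xb19 yb42 zb28) (kb xb19 yb42 zb29) (kb xb20 yb5 zb15) (kb xb24 yb50 zb53) (kb xb29 yb17 zb54) (kb xb26 yb49 zb43) (kb xb31 yb40 zb55) (kb xb31 yb40 zb56) (kb xb19 yb47 zb17) (kb xb24 yb52 zb10) (kb xb24 yb32 zb51) (kb xb19 yb42 zb46) (kb xb31 yb39 zb39) (kb xb31 yb21 zb29) (kb xb19 yb42 zb47) (kb xb28 yb45 zb16) (kb xb29 yb32 zb42) (kb xb19 yb42 zb50) (kb xb32 yb41 zb52) (kb xb28 yb55 zb60) (kb xb19 yb42 zb53) (kb xb19 yb42 zb55) (kb xb19 yb42 zb60) (kb xb29 yb5 zb53) (kb xb30 yb27 zb27) (kb xb24 yb19 zb35) (kb xb27 yb9 zb32) (kb xb19 yb43 zb6) (kb xb19 yb43 zb7) (kb xb31 yb22 zb28) (kb xb19 yb43 zb8) (kb xb23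 yb48 zb19)) (@D3.rec (fun _ => Pt) (kb xb28 yb15 zb8) (kb xb24 yb24 zb34) (kb xb27 yb5 zb14) (kb xb22 yb4 zb45) (kb xb19 yb43 zb26) (kb xb20 yb11 zb52) (kb xb23 yb0 zb10) (kb xb19 yb43 zb33) (kb xb32 yb34 zb32) (kb xb20 yb52 zb8) (kb xb19 yb48 zb5) (kb xb20 yb12 zb3) (kb xb19 yb43 zb41) (kb xb19 yb43 zb49) (kb xb32 yb21 zb51) (kb xb32 yb33 zb4) (kb xb19 yb43 zb58) (kb xb26 yb47 zb18) (kb xb19 yb44 zb4) (kb xb26 yb26 zb51) (kb xb32 yb39 zb19) (kb xb31 yb51 zb6) (kb xb20 yb56 zb36) (kb xb20 yb58 zb28) (kb xb31 yb28 zb39) (kb xb29 yb17 zb61) (kb xb19 yb45 zb12) (kb xb31 yb13 zb0) (kb xb19 yb45 zb15) (kb xb19 yb44 zb27) (kb xb32 yb28 zb6) (kb xb19 yb44 zb36) (kb xb19 yb44 zb37) (kb xb19 yb44 zb31) (kb xb31 yb4 zb14) (kb xb29 yb23 zb20) (kb xb19 yb44 zb45) (kb xb19 yb44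 zb34) (kb xb31 yb36 zb16) (kb xb30 yb9 zb42) (kb xb19 yb45 zb53) (kb xb19 yb44 zb39) (kb xb26 yb20 zb36) (kb xb19 yb45 zb42) (kb xb19 yb44 zb42) (kb xb31 yb49 zb28) (kb xb32 yb41 zb59) (kb xb31 yb10 zb44) (kb xb19 yb44 zb44) (kb xb21 yb50 zb32) (kb xb19 yb44 zb47) (kb xb30 yb9 zb60) (kb xb19 yb44 zb49) (kb xb22 yb4 zb3) (kb xb26 yb33 zb45) (kb xb25 yb50 zb14) (kb xb26 yb33 zb52) (kb xb31 yb11 zb18) (kb xb19 yb44 zb57) (kb xb31 yb4 zb28) (kb xb19 yb44 zb61) (kb xb26 yb59 zb13)) (@D3.rec (fun _ => Pt) (kb xb19 yb45 zb0) (kb xb19 yb45 zb3) (kb xb30 yb17 zb27) (kb xb21 yb1 zb40) (kb xb32 yb8 zb26) (kb xb31 yb13 zb3) (kb xb19 yb45 zb11) (kb xb32 yb41 zb56) (kb xb21 yb50 zb38) (kb xb19 yb45 zb14) (kb xb32 yb42 zb1) (kb xb28 yb58 zb55) (kb xb28 yb24 zb22) (kb xb19 yb45 zb20)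 (kb xb31 yb23 zb27) (kb xb28 yb36 zb26) (kb xb22 yb9 zb18) (kb xb19 yb45 zb21) (kb xb19 yb45 zb23) (kb xb31 yb10 zb41) (kb xb22 yb56 zb50) (kb xb31 yb10 zb43) (kb xb31 yb3 zb47) (kb xb26 yb1 zb29) (kb xb19 yb45 zb59) (kb xb31 yb26 zb26) (kb xb24 yb52 zb50) (kb xb19 yb45 zb27) (kb xb19 yb45 zb28) (kb xb31 yb4 zb19) (kb xb19 yb49 zb39) (kb xb19 yb45 zb30) (kb xb31 yb4 zb61) (kb xb27 yb17 zb56) (kb xb27 yb17 zb22) (kb xb19 yb45 zb32) (kb xb19 yb45 zb33) (kb xb30 yb54 zb36) (kb xb19 yb46 zb13) (kb xb21 yb0 zb20) (kb xb32 yb42 zb13) (kb xb22 yb54 zb3) (kb xb19 yb45 zb41) (kb xb32 yb42 zb14) (kb xb24 yb18 zb47) (kb xb19 yb45 zb46) (kb xb19 yb45 zb49) (kb xb20 yb2 zb22) (kb xb29 yb16 zb18) (kb xb19 yb45 zb50) (kb xb32 yb42 zb18) (kb xb32 yb42 zb19) (kb xb30 yb51 zb37) (kb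 xb26 yb33 zb56) (kb xb29 yb15 zb47) (kb xb25 yb15 zb25) (kb xb32 yb42 zb10) (kb xb22 yb43 zb17) (kb xb19 yb45 zb58) (kb xb30 yb9 zb13) (kb xb31 yb26 zb49) (kb xb32 yb42 zb4)) (@D3.rec (fun _ => Pt) (kb xb27 yb1 zb37) (kb xb31 yb4 zb13) (kb xb32 yb42 zb7) (kb xb32 yb25 zb28) (kb xb19 yb46 zb2) (kb xb19 yb46 zb1) (kb xb29 yb59 zb4) (kb xb31 yb11 zb12) (kb xb32 yb42 zb24) (kb xb19 yb46 zb7) (kb xb19 yb46 zb6) (kb xb32 yb42 zb23) (kb xb19 yb46 zb8) (kb xb32 yb42 zb17) (kb xb19 yb46 zb9) (kb xb23 yb27 zb12) (kb xb28 yb56 zb41) (kb xb20 yb2 zb20) (kb xb23 yb41 zb48) (kb xb23 yb41 zb21) (kb xb30 yb14 zb12) (kb xb31 yb9 zb37) (kb xb24 yb17 zb41) (kb xb30 yb56 zb2) (kb xb24 yb2 zb35) (kb xb19 yb46 zb20) (kb xb32 yb42 zb31) (kb xb25 yb14 zb52) (kb xb19 yb46 zb24) (kb xb29 yb36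 zb22) (kb xb30 yb10 zb6) (kb xb27 yb7 zb56) (kb xb27 yb42 zb34) (kb xb32 yb42 zb34) (kb xb19 yb46 zb30) (kb xb19 yb46 zb35) (kb xb19 yb46 zb36) (kb xb23 yb12 zb33) (kb xb21 yb24 zb8) (kb xb19 yb46 zb49) (kb xb31 yb10 zb3) (kb xb27 yb44 zb26) (kb xb22 yb48 zb1) (kb xb19 yb47 zb8) (kb xb19 yb47 zb10) (kb xb25 yb30 zb44) (kb xb32 yb33 zb7) (kb xb22 yb43 zb24) (kb xb31 yb27 zb0) (kb xb29 yb45 zb21) (kb xb25 yb20 zb21) (kb xb23 yb59 zb23) (kb xb26 yb21 zb55) (kb xb29 yb2 zb53) (kb xb19 yb47 zb23) (kb xb28 yb49 zb32) (kb xb19 yb47 zb35) (kb xb27 yb57 zb37) (kb xb19 yb47 zb39) (kb xb25 yb37 zb12) (kb xb25 yb38 zb14) (kb xb32 yb30 zb60)) (@D3.rec (fun _ => Pt) (kb xb20 yb5 zb41) (kb xb20 yb14 zb11) (kb xb19 yb47 zb44) (kb xb19 yb47 zb45) (kb xb23 yb1 zb5) (kb xb27 yb9 zb2)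 (kb xb32 yb3 zb43) (kb xb31 yb36 zb23) (kb xb21 yb7 zb19) (kb xb28 yb10 zb21) (kb xb27 yb56 zb52) (kb xb21 yb28 zb6) (kb xb24 yb20 zb14) (kb xb31 yb28 zb56) (kb xb26 yb40 zb40) (kb xb19 yb48 zb7) (kb xb24 yb37 zb44) (kb xb26 yb9 zb43) (kb xb31 yb51 zb20) (kb xb19 yb48 zb9) (kb xb19 yb56 zb28) (kb xb24 yb43 zb61) (kb xb19 yb48 zb15) (kb xb30 yb0 zb47) (kb xb19 yb48 zb18) (kb xb24 yb59 zb59) (kb xb27 yb57 zb36) (kb xb27 yb56 zb51) (kb xb21 yb21 zb45) (kb xb24 yb43 zb56) (kb xb26 yb40 zb0) (kb xb30 yb42 zb20) (kb xb20 yb43 zb59) (kb xb20 yb54 zb38) (kb xb20 yb6 zb61) (kb xb20 yb15 zb14) (kb xb19 yb48 zb43) (kb xb25 yb49 zb49) (kb xb23 yb26 zb37) (kb xb20 yb27 zb53) (kb xb30 yb36 zb16) (kb xb22 yb37 zb15) (kb xb25 yb53 zb5) (kb xb20 yb6 zb15) (kb xb19 yb49 zb10) (kb xb28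 yb57 zb14) (kb xb25 yb50 zb36) (kb xb19 yb49 zb15) (kb xb25 yb34 zb51) (kb xb30 yb11 zb12) (kb xb24 yb50 zb31) (kb xb19 yb49 zb21) (kb xb19 yb49 zb22) (kb xb28 yb59 zb30) (kb xb28 yb57 zb26) (kb xb31 yb48 zb46) (kb xb19 yb49 zb34) (kb xb31 yb54 zb37) (kb xb25 yb43 zb25) (kb xb25 yb33 zb24) (kb xb19 yb49 zb43) (kb xb19 yb49 zb46)) (@D3.rec (fun _ => Pt) (kb xb24 yb36 zb52) (kb xb25 yb12 zb59) (kb xb31 yb48 zb54) (kb xb19 yb49 zb49) (kb xb32 yb34 zb17) (kb xb19 yb49 zb51) (kb xb19 yb49 zb58) (kb xb30 yb53 zb30) (kb xb22 yb52 zb5) (kb xb24 yb58 zb54) (kb xb19 yb50 zb9) (kb xb25 yb11 zb27) (kb xb29 yb13 zb28) (kb xb25 yb36 zb34) (kb xb19 yb50 zb17) (kb xb28 yb45 zb44) (kb xb24 yb16 zb37) (kb xb23 yb22 zb49) (kb xb32 yb5 zb29) (kb xb24 yb51 zb7) (kb xb27 yb40 zb38) (kb xb23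 yb26 zb3) (kb xb19 yb50 zb38) (kb xb19 yb50 zb39) (kb xb21 yb15 zb13) (kb xb24 yb36 zb44) (kb xb24 yb36 zb49) (kb xb23 yb52 zb20) (kb xb26 yb38 zb0) (kb xb24 yb14 zb61) (kb xb19 yb50 zb58) (kb xb28 yb38 zb28) (kb xb22 yb50 zb25) (kb xb28 yb16 zb27) (kb xb28 yb19 zb55) (kb xb30 yb24 zb46) (kb xb23 yb49 zb59) (kb xb28 yb9 zb45) (kb xb19 yb51 zb0) (kb xb25 yb1 zb37) (kb xb23 yb59 zb4) (kb xb24 yb22 zb41) (kb xb20 yb32 zb17) (kb xb23 yb39 zb52) (kb xb23 yb47 zb53) (kb xb19 yb51 zb18) (kb xb28 yb32 zb17) (kb xb31 yb43 zb60) (kb xb28 yb14 zb31) (kb xb26 yb45 zb21) (kb xb24 yb11 zb58) (kb xb25 yb47 zb15) (kb xb19 yb51 zb36) (kb xb19 yb51 zb32) (kb xb29 yb30 zb55) (kb xb27 yb6 zb33) (kb xb32 yb0 zb30) (kb xb23 yb5 zb55) (kb xb25 yb59 zb31) (kb xb28 yb26 zb9) (kb xb20 yb45 zb48)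 (kb xb31 yb21 zb8)) (@D3.rec (fun _ => Pt) (kb xb19 yb51 zb43) (kb xb19 yb51 zb51) (kb xb19 yb51 zb53) (kb xb32 yb42 zb40) (kb xb28 yb50 zb18) (kb xb30 yb21 zb37) (kb xb31 yb26 zb40) (kb xb19 yb51 zb52) (kb xb32 yb18 zb14) (kb xb29 yb29 zb28) (kb xb31 yb51 zb50) (kb xb27 yb2 zb10) (kb xb19 yb51 zb57) (kb xb30 yb34 zb34) (kb xb30 yb22 zb52) (kb xb24 yb19 zb23) (kb xb28 yb12 zb59) (kb xb30 yb17 zb26) (kb xb28 yb44 zb54) (kb xb32 yb36 zb33) (kb xb21 yb3 zb33) (kb xb19 yb52 zb8) (kb xb24 yb14 zb19) (kb xb23 yb57 zb55) (kb xb28 yb38 zb4) (kb xb28 yb38 zb49) (kb xb30 yb48 zb42) (kb xb20 yb59 zb59) (kb xb19 yb52 zb14) (kb xb20 yb53 zb11) (kb xb19 yb52 zb15) (kb xb32 yb14 zb45) (kb xb28 yb43 zb7) (kb xb23 yb58 zb35) (kb xb26 yb53 zb51) (kb xb32 yb40 zb2) (kb xb24 yb23 zb15)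 (kb xb30 yb34 zb1) (kb xb20 yb20 zb2) (kb xb19 yb52 zb19) (kb xb19 yb52 zb20) (kb xb30 yb28 zb29) (kb xb22 yb13 zb29) (kb xb30 yb22 zb41) (kb xb32 yb22 zb0) (kb xb23 yb4 zb1) (kb xb30 yb38 zb32) (kb xb19 yb52 zb24) (kb xb24 yb17 zb23) (kb xb23 yb59 zb31) (kb xb19 yb52 zb26) (kb xb30 yb4 zb60) (kb xb22 yb37 zb30) (kb xb28 yb34 zb26) (kb xb31 yb13 zb50) (kb xb30 yb38 zb56) (kb xb24 yb28 zb5) (kb xb30 yb39 zb24) (kb xb24 yb52 zb49) (kb xb24 yb52 zb51) (kb xb19 yb52 zb43) (kb xb29 yb35 zb48)) (@D3.rec (fun _ => Pt) (kb xb19 yb52 zb45) (kb xb20 yb47 zb1) (kb xb21 yb3 zb61) (kb xb19 yb52 zb53) (kb xb24 yb2 zb55) (kb xb19 yb52 zb55) (kb xb26 yb30 zb28) (kb xb21 yb57 zb2) (kb xb28 yb23 zb56) (kb xb19 yb53 zb5) (kb xb20 yb34 zb50) (kb xb19 yb53 zb12) (kb xb31 yb30 zb14) (kb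 xb31 yb39 zb42) (kb xb26 yb47 zb49) (kb xb25 yb33 zb32) (kb xb25 yb13 zb22) (kb xb19 yb53 zb30) (kb xb19 yb53 zb31) (kb xb25 yb37 zb54) (kb xb28 yb40 zb49) (kb xb19 yb53 zb29) (kb xb32 yb42 zb51) (kb xb26 yb56 zb46) (kb xb32 yb42 zb43) (kb xb30 yb5 zb52) (kb xb19 yb53 zb33) (kb xb19 yb53 zb40) (kb xb26 yb42 zb8) (kb xb26 yb40 zb57) (kb xb31 yb21 zb51) (kb xb21 yb16 zb52) (kb xb21 yb16 zb42) (kb xb19 yb53 zb45) (kb xb21 yb0 zb33) (kb xb30 yb36 zb4) (kb xb25 yb38 zb20) (kb xb31 yb22 zb16) (kb xb31 yb18 zb20) (kb xb19 yb53 zb61) (kb xb26 yb6 zb33) (kb xb19 yb54 zb3) (kb xb19 yb54 zb5) (kb xb25 yb5 zb29) (kb xb31 yb9 zb25) (kb xb30 yb51 zb60) (kb xb19 yb56 zb5) (kb xb19 yb54 zb13) (kb xb19 yb54 zb14) (kb xb32 yb27 zb50) (kb xb19 yb54 zb16) (kb xb26 yb1 zb13) (kb xb21 yb57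 zb8) (kb xb30 yb20 zb11) (kb xb19 yb54 zb21) (kb xb31 yb6 zb34) (kb xb31 yb36 zb9) (kb xb28 yb51 zb4) (kb xb32 yb4 zb54) (kb xb32 yb16 zb4) (kb xb26 yb8 zb45) (kb xb23 yb46 zb21)) (@D3.rec (fun _ => Pt) (kb xb19 yb54 zb39) (kb xb19 yb54 zb32) (kb xb30 yb16 zb33) (kb xb23 yb40 zb0) (kb xb19 yb54 zb33) (kb xb22 yb43 zb12) (kb xb31 yb9 zb18) (kb xb24 yb42 zb39) (kb xb19 yb54 zb46) (kb xb19 yb54 zb36) (kb xb31 yb10 zb26) (kb xb19 yb54 zb37) (kb xb23 yb28 zb29) (kb xb32 yb21 zb10) (kb xb31 yb7 zb20) (kb xb31 yb59 zb5) (kb xb27 yb58 zb7) (kb xb31 yb36 zb34) (kb xb19 yb54 zb41) (kb xb23 yb41 zb41) (kb xb32 yb42 zb59) (kb xb32 yb42 zb56) (kb xb24 yb20 zb56) (kb xb19 yb54 zb43) (kb xb25 yb38 zb3) (kb xb23 yb28 zb37) (kb xb19 yb54 zb44) (kb xb22 yb44 zb60) (kb xb29 yb57 zb57)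 (kb xb30 yb40 zb58) (kb xb19 yb54 zb48) (kb xb30 yb41 zb49) (kb xb23 yb40 zb17) (kb xb23 yb29 zb6) (kb xb32 yb12 zb56) (kb xb25 yb32 zb4) (kb xb32 yb37 zb15) (kb xb32 yb13 zb16) (kb xb19 yb54 zb56) (kb xb19 yb54 zb57) (kb xb19 yb54 zb55) (kb xb32 yb20 zb55) (kb xb32 yb43 zb3) (kb xb25 yb44 zb15) (kb xb31 yb19 zb43) (kb xb32 yb15 zb57) (kb xb28 yb11 zb52) (kb xb26 yb7 zb34) (kb xb24 yb29 zb20) (kb xb22 yb10 zb12) (kb xb30 yb17 zb43) (kb xb19 yb55 zb12) (kb xb19 yb55 zb13) (kb xb19 yb55 zb6) (kb xb25 yb38 zb52) (kb xb20 yb38 zb41) (kb xb31 yb58 zb2) (kb xb31 yb56 zb43) (kb xb32 yb16 zb22) (kb xb28 yb27 zb22) (kb xb19 yb55 zb18) (kb xb24 yb42 zb29)) (@D3.rec (fun _ => Pt) (kb xb19 yb55 zb11) (kb xb31 yb4 zb10) (kb xb32 yb19 zb51) (kb xb30 yb0 zb45) (kb xb32 yb43 zb11)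 (kb xb32 yb43 zb8) (kb xb22 yb38 zb14) (kb xb21 yb43 zb29) (kb xb19 yb55 zb17) (kb xb23 yb30 zb1) (kb xb27 yb37 zb16) (kb xb19 yb55 zb22) (kb xb29 yb17 zb3) (kb xb31 yb40 zb10) (kb xb23 yb2 zb36) (kb xb31 yb9 zb3) (kb xb24 yb50 zb39) (kb xb24 yb50 zb42) (kb xb28 yb55 zb13) (kb xb25 yb37 zb27) (kb xb25 yb20 zb31) (kb xb32 yb9 zb53) (kb xb24 yb40 zb15) (kb xb19 yb55 zb42) (kb xb19 yb55 zb43) (kb xb32 yb24 zb26) (kb xb31 yb29 zb10) (kb xb31 yb5 zb23) (kb xb30 yb40 zb39) (kb xb22 yb31 zb11) (kb xb19 yb55 zb46) (kb xb25 yb39 zb16) (kb xb23 yb31 zb15) (kb xb25 yb39 zb10) (kb xb22 yb31 zb12) (kb xb32 yb24 zb30) (kb xb28 yb42 zb49) (kb xb22 yb31 zb13) (kb xb32 yb43 zb15) (kb xb26 yb23 zb0) (kb xb30 yb42 zb30) (kb xb31 yb3 zb21) (kb xb19 yb55 zb53) (kb xb23 yb31 zb39) (kb xb23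 yb24 zb48) (kb xb20 yb18 zb43) (kb xb31 yb6 zb53) (kb xb32 yb32 zb50) (kb xb19 yb55 zb61) (kb xb19 yb56 zb0) (kb xb19 yb55 zb57) (kb xb30 yb41 zb33) (kb xb30 yb35 zb54) (kb xb31 yb57 zb7) (kb xb32 yb5 zb22) (kb xb22 yb43 zb21) (kb xb32 yb43 zb17) (kb xb24 yb40 zb20) (kb xb31 yb10 zb53) (kb xb32 yb23 zb38) (kb xb19 yb56 zb1) (kb xb19 yb56 zb2)) (@D3.rec (fun _ => Pt) (kb xb31 yb5 zb32) (kb xb26 yb43 zb50) (kb xb24 yb36 zb19) (kb xb30 yb40 zb6) (kb xb19 yb56 zb12) (kb xb31 yb49 zb37) (kb xb23 yb28 zb47) (kb xb30 yb51 zb26) (kb xb23 yb11 zb21) (kb xb31 yb30 zb24) (kb xb27 yb58 zb56) (kb xb19 yb56 zb16) (kb xb21 yb55 zb19) (kb xb30 yb36 zb32) (kb xb19 yb56 zb23) (kb xb22 yb28 zb23) (kb xb23 yb30 zb47) (kb xb30 yb51 zb55) (kb xb30 yb43 zb4) (kb xb23 yb31 zb36) (kb xb23 yb37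 zb29) (kb xb25 yb37 zb0) (kb xb19 yb56 zb33) (kb xb25 yb46 zb14) (kb xb32 yb43 zb19) (kb xb25 yb37 zb39) (kb xb26 yb36 zb8) (kb xb19 yb56 zb56) (kb xb31 yb57 zb26) (kb xb19 yb56 zb55) (kb xb19 yb56 zb59) (kb xb31 yb8 zb21) (kb xb27 yb44 zb3) (kb xb24 yb13 zb43) (kb xb28 yb20 zb30) (kb xb26 yb55 zb2) (kb xb30 yb37 zb47) (kb xb20 yb59 zb36) (kb xb27 yb46 zb54) (kb xb20 yb50 zb6) (kb xb19 yb57 zb13) (kb xb19 yb57 zb12) (kb xb19 yb57 zb14) (kb xb19 yb57 zb15) (kb xb26 yb46 zb54) (kb xb25 yb27 zb50) (kb xb24 yb41 zb43) (kb xb25 yb56 zb55) (kb xb31 yb0 zb32) (kb xb22 yb1 zb48) (kb xb19 yb57 zb23) (kb xb25 yb57 zb9) (kb xb31 yb27 zb33) (kb xb27 yb23 zb12) (kb xb19 yb57 zb29) (kb xb19 yb57 zb30) (kb xb19 yb57 zb36) (kb xb30 yb12 zb21) (kb xb19 yb57 zb41) (kb xb25 yb32 zb18)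 (kb xb21 yb18 zb39) (kb xb27 yb38 zb0)) (@D3.rec (fun _ => Pt) (kb xb25 yb33 zb0) (kb xb23 yb49 zb26) (kb xb25 yb33 zb47) (kb xb27 yb29 zb31) (kb xb19 yb57 zb52) (kb xb29 yb35 zb59) (kb xb32 yb18 zb48) (kb xb19 yb57 zb56) (kb xb32 yb43 zb22) (kb xb19 yb57 zb59) (kb xb19 yb59 zb33) (kb xb29 yb35 zb3) (kb xb29 yb23 zb40) (kb xb19 yb58 zb0) (kb xb31 yb39 zb43) (kb xb25 yb20 zb8) (kb xb21 yb23 zb13) (kb xb19 yb59 zb23) (kb xb19 yb58 zb11) (kb xb19 yb58 zb12) (kb xb19 yb58 zb5) (kb xb31 yb50 zb40) (kb xb25 yb33 zb27) (kb xb19 yb58 zb10) (kb xb32 yb17 zb27) (kb xb28 yb57 zb28) (kb xb24 yb19 zb16) (kb xb32 yb43 zb24) (kb xb29 yb7 zb12) (kb xb19 yb58 zb14) (kb xb29 yb15 zb23) (kb xb32 yb0 zb47) (kb xb19 yb58 zb18) (kb xb31 yb48 zb33) (kb xb30 yb3 zb57) (kb xb32 yb5 zb17) (kb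 xb30 yb20 zb25) (kb xb26 yb54 zb16) (kb xb24 yb27 zb18) (kb xb27 yb56 zb21) (kb xb31 yb46 zb3) (kb xb19 yb58 zb37) (kb xb21 yb7 zb52) (kb xb29 yb24 zb43) (kb xb20 yb52 zb26) (kb xb21 yb0 zb0) (kb xb31 yb10 zb61) (kb xb31 yb9 zb9) (kb xb27 yb38 zb27) (kb xb28 yb40 zb50) (kb xb30 yb41 zb50) (kb xb19 yb58 zb58) (kb xb19 yb58 zb59) (kb xb30 yb52 zb35) (kb xb30 yb12 zb59) (kb xb31 yb58 zb22) (kb xb32 yb16 zb7) (kb xb31 yb10 zb24) (kb xb32 yb4 zb52) (kb xb31 yb36 zb24) (kb xb20 yb9 zb57) (kb xb25 yb17 zb4)) (@D3.rec (fun _ => Pt) (kb xb29 yb22 zb10) (kb xb29 yb58 zb19) (kb xb32 yb30 zb39) (kb xb19 yb59 zb11) (kb xb25 yb38 zb51) (kb xb32 yb43 zb5) (kb xb31 yb56 zb44) (kb xb31 yb3 zb18) (kb xb23 yb29 zb26) (kb xb29 yb51 zb46) (kb xb27 yb30 zb17) (kb xb31 yb40 zb31) (kb xb19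 yb59 zb20) (kb xb32 yb17 zb58) (kb xb31 yb52 zb33) (kb xb19 yb59 zb22) (kb xb31 yb24 zb31) (kb xb24 yb4 zb29) (kb xb20 yb43 zb52) (kb xb19 yb59 zb25) (kb xb31 yb21 zb16) (kb xb20 yb26 zb43) (kb xb19 yb59 zb26) (kb xb32 yb43 zb33) (kb xb31 yb11 zb59) (kb xb19 yb59 zb29) (kb xb19 yb59 zb32) (kb xb20 yb5 zb30) (kb xb29 yb15 zb21) (kb xb26 yb14 zb22) (kb xb19 yb59 zb43) (kb xb19 yb59 zb42) (kb xb23 yb52 zb23) (kb xb20 yb8 zb12) (kb xb19 yb59 zb47) (kb xb32 yb43 zb38) (kb xb31 yb0 zb39) (kb xb21 yb13 zb39) (kb xb29 yb31 zb1) (kb xb27 yb39 zb54) (kb xb23 yb6 zb47) (kb xb20 yb0 zb29) (kb xb28 yb24 zb38) (kb xb20 yb18 zb17) (kb xb20 yb0 zb47) (kb xb26 yb44 zb48) (kb xb20 yb0 zb51) (kb xb28 yb0 zb56) (kb xb29 yb46 zb60) (kb xb20 yb1 zb1) (kb xb23 yb56 zb16) (kb xb26 yb29 zb38)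 (kb xb24 yb30 zb18) (kb xb24 yb47 zb5) (kb xb29 yb18 zb16) (kb xb22 yb37 zb43) (kb xb25 yb16 zb10) (kb xb31 yb16 zb5) (kb xb32 yb9 zb21) (kb xb27 yb57 zb40) (kb xb30 yb36 zb35) (kb xb22 yb42 zb3)) (@D3.rec (fun _ => Pt) (kb xb29 yb47 zb61) (kb xb26 yb56 zb0) (kb xb20 yb1 zb37) (kb xb20 yb1 zb41) (kb xb26 yb48 zb36) (kb xb24 yb49 zb43) (kb xb28 yb36 zb54) (kb xb26 yb54 zb31) (kb xb20 yb1 zb43) (kb xb22 yb21 zb37) (kb xb26 yb54 zb28) (kb xb20 yb1 zb45) (kb xb28 yb36 zb59) (kb xb31 yb17 zb10) (kb xb20 yb1 zb48) (kb xb32 yb43 zb42) (kb xb24 yb49 zb59) (kb xb20 yb1 zb53) (kb xb20 yb1 zb51) (kb xb31 yb52 zb31) (kb xb32 yb43 zb43) (kb xb29 yb14 zb28) (kb xb26 yb54 zb10) (kb xb29 yb13 zb30) (kb xb25 yb6 zb6) (kb xb24 yb0 zb50) (kb xb20 yb1 zb61) (kb xb22 yb54 zb6) (kb xb21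 yb35 zb29) (kb xb20 yb2 zb11) (kb xb20 yb2 zb13) (kb xb29 yb59 zb21) (kb xb28 yb58 zb10) (kb xb31 yb49 zb23) (kb xb31 yb49 zb24) (kb xb20 yb2 zb15) (kb xb32 yb41 zb15) (kb xb20 yb2 zb16) (kb xb29 yb48 zb25) (kb xb24 yb35 zb26) (kb xb32 yb43 zb45) (kb xb31 yb9 zb22) (kb xb20 yb2 zb27) (kb xb31 yb42 zb15) (kb xb32 yb42 zb16) (kb xb20 yb2 zb24) (kb xb32 yb43 zb46) (kb xb29 yb4 zb54) (kb xb32 yb6 zb7) (kb xb31 yb4 zb47) (kb xb31 yb5 zb30) (kb xb20 yb2 zb26) (kb xb32 yb26 zb40) (kb xb30 yb40 zb18) (kb xb31 yb1 zb15) (kb xb29 yb59 zb11) (kb xb31 yb49 zb13) (kb xb31 yb49 zb14) (kb xb20 yb2 zb31) (kb xb32 yb9 zb19) (kb xb31 yb34 zb51) (kb xb21 yb58 zb11)) (@D3.rec (fun _ => Pt) (kb xb31 yb35 zb26) (kb xb31 yb35 zb10) (kb xb32 yb43 zb51) (kb xb32 yb6 zb15) (kb xb32 yb35 zb11)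 (kb xb20 yb2 zb41) (kb xb28 yb4 zb50) (kb xb32 yb29 zb29) (kb xb27 yb16 zb45) (kb xb31 yb32 zb0) (kb xb20 yb2 zb40) (kb xb23 yb54 zb42) (kb xb20 yb2 zb43) (kb xb32 yb9 zb60) (kb xb30 yb56 zb40) (kb xb20 yb2 zb48) (kb xb23 yb27 zb8) (kb xb20 yb2 zb49) (kb xb29 yb4 zb48) (kb xb31 yb45 zb56) (kb xb29 yb56 zb41) (kb xb32 yb42 zb15) (kb xb32 yb42 zb21) (kb xb28 yb28 zb46) (kb xb32 yb24 zb12) (kb xb20 yb2 zb57) (kb xb27 yb19 zb41) (kb xb28 yb38 zb10) (kb xb31 yb47 zb7) (kb xb21 yb48 zb49) (kb xb20 yb2 zb61) (kb xb24 yb15 zb58) (kb xb28 yb25 zb28) (kb xb20 yb50 zb38) (kb xb23 yb9 zb56) (kb xb28 yb37 zb57) (kb xb29 yb49 zb13) (kb xb31 yb31 zb33) (kb xb20 yb3 zb11) (kb xb27 yb18 zb44) (kb xb31 yb46 zb54) (kb xb25 yb57 zb18) (kb xb29 yb59 zb9) (kb xb20 yb3 zb16) (kb xb20 yb3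 zb17) (kb xb20 yb50 zb20) (kb xb30 yb56 zb33) (kb xb32 yb2 zb13) (kb xb28 yb41 zb57) (kb xb31 yb20 zb25) (kb xb20 yb3 zb33) (kb xb31 yb49 zb52) (kb xb25 yb12 zb30) (kb xb30 yb4 zb61) (kb xb20 yb3 zb29) (kb xb24 yb20 zb28) (kb xb25 yb26 zb2) (kb xb20 yb54 zb42) (kb xb25 yb45 zb28) (kb xb29 yb52 zb32) (kb xb20 yb3 zb31) (kb xb29 yb59 zb40)) (@D3.rec (fun _ => Pt) (kb xb28 yb44 zb50) (kb xb24 yb5 zb15) (kb xb21 yb23 zb19) (kb xb29 yb11 zb12) (kb xb31 yb49 zb55) (kb xb24 yb16 zb29) (kb xb20 yb3 zb52) (kb xb20 yb3 zb49) (kb xb32 yb3 zb31) (kb xb22 yb0 zb22) (kb xb20 yb3 zb51) (kb xb21 yb50 zb55) (kb xb28 yb57 zb19) (kb xb28 yb59 zb22) (kb xb31 yb47 zb50) (kb xb20 yb3 zb57) (kb xb20 yb3 zb56) (kb xb28 yb31 zb18) (kb xb25 yb27 zb25) (kb xb31 yb36 zb55) (kb xb26 yb14 zb6) (kb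 xb20 yb3 zb60) (kb xb20 yb4 zb1) (kb xb27 yb48 zb36) (kb xb27 yb5 zb47) (kb xb20 yb4 zb7) (kb xb20 yb4 zb9) (kb xb30 yb1 zb52) (kb xb27 yb45 zb15) (kb xb32 yb6 zb37) (kb xb24 yb36 zb58) (kb xb20 yb4 zb27) (kb xb20 yb4 zb28) (kb xb28 yb58 zb7) (kb xb21 yb48 zb21) (kb xb31 yb48 zb0) (kb xb32 yb25 zb20) (kb xb20 yb4 zb36) (kb xb31 yb2 zb56) (kb xb31 yb49 zb11) (kb xb32 yb15 zb53) (kb xb25 yb8 zb51) (kb xb25 yb8 zb52) (kb xb20 yb4 zb42) (kb xb32 yb36 zb57) (kb xb25 yb58 zb10) (kb xb25 yb43 zb59) (kb xb20 yb4 zb53) (kb xb20 yb4 zb54) (kb xb20 yb4 zb57) (kb xb31 yb49 zb57) (kb xb32 yb0 zb22) (kb xb20 yb4 zb59) (kb xb26 yb9 zb50) (kb xb29 yb2 zb34) (kb xb31 yb40 zb47) (kb xb20 yb5 zb7) (kb xb20 yb5 zb9) (kb xb24 yb51 zb52) (kb xb29 yb41 zb10) (kb xb20 yb5 zb14) (kb xb29 yb3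 zb25)) (@D3.rec (fun _ => Pt) (kb xb22 yb2 zb47) (kb xb31 yb48 zb23) (kb xb20 yb26 zb37) (kb xb28 yb9 zb7) (kb xb28 yb8 zb17) (kb xb20 yb5 zb23) (kb xb20 yb5 zb24) (kb xb21 yb36 zb0) (kb xb22 yb4 zb9) (kb xb21 yb54 zb54) (kb xb20 yb13 zb2) (kb xb21 yb28 zb61) (kb xb31 yb4 zb1) (kb xb27 yb43 zb49) (kb xb21 yb29 zb35) (kb xb23 yb32 zb40) (kb xb29 yb14 zb54) (kb xb20 yb6 zb26) (kb xb30 yb39 zb52) (kb xb23 yb14 zb3) (kb xb20 yb6 zb35) (kb xb20 yb30 zb10) (kb xb20 yb6 zb40) (kb xb27 yb42 zb10) (kb xb23 yb29 zb22) (kb xb29 yb25 zb29) (kb xb29 yb25 zb30) (kb xb20 yb14 zb9) (kb xb24 yb54 zb2) (kb xb27 yb53 zb22) (kb xb26 yb17 zb32) (kb xb20 yb7 zb6) (kb xb28 yb46 zb55) (kb xb29 yb19 zb60) (kb xb29 yb19 zb48) (kb xb25 yb48 zb11) (kb xb27 yb53 zb50) (kb xb20 yb7 zb25) (kb xb20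 yb7 zb27) (kb xb30 yb46 zb7) (kb xb30 yb36 zb47) (kb xb26 yb32 zb24) (kb xb30 yb5 zb35) (kb xb32 yb39 zb6) (kb xb23 yb12 zb51) (kb xb20 yb7 zb40) (kb xb27 yb26 zb31) (kb xb28 yb45 zb56) (kb xb21 yb52 zb57) (kb xb21 yb38 zb12) (kb xb20 yb36 zb58) (kb xb23 yb10 zb17) (kb xb30 yb43 zb43) (kb xb32 yb21 zb35) (kb xb30 yb17 zb8) (kb xb20 yb30 zb12) (kb xb21 yb12 zb55) (kb xb20 yb8 zb6) (kb xb26 yb27 zb1) (kb xb30 yb57 zb32) (kb xb31 yb0 zb11) (kb xb25 yb1 zb61)) (@D3.rec (fun _ => Pt) (kb xb31 yb38 zb45) (kb xb26 yb24 zb47) (kb xb28 yb12 zb8) (kb xb26 yb56 zb7) (kb xb26 yb19 zb0) (kb xb23 yb5 zb15) (kb xb24 yb59 zb26) (kb xb20 yb52 zb21) (kb xb22 yb25 zb31) (kb xb29 yb35 zb40) (kb xb21 yb51 zb60) (kb xb24 yb31 zb2) (kb xb26 yb58 zb1) (kb xb20 yb8 zb45) (kb xb24 yb5 zb34)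 (kb xb28 yb21 zb18) (kb xb30 yb6 zb58) (kb xb20 yb8 zb51) (kb xb22 yb37 zb52) (kb xb26 yb29 zb37) (kb xb28 yb26 zb23) (kb xb29 yb31 zb59) (kb xb20 yb8 zb57) (kb xb32 yb44 zb1) (kb xb30 yb48 zb21) (kb xb20 yb8 zb58) (kb xb32 yb8 zb40) (kb xb23 yb21 zb30) (kb xb23 yb30 zb45) (kb xb31 yb6 zb43) (kb xb23 yb19 zb5) (kb xb20 yb38 zb53) (kb xb20 yb9 zb14) (kb xb26 yb13 zb10) (kb xb20 yb10 zb49) (kb xb26 yb22 zb10) (kb xb20 yb9 zb23) (kb xb20 yb50 zb43) (kb xb21 yb16 zb4) (kb xb29 yb38 zb37) (kb xb26 yb6 zb8) (kb xb26 yb5 zb61) (kb xb21 yb4 zb7) (kb xb21 yb35 zb51) (kb xb26 yb59 zb47) (kb xb20 yb10 zb1) (kb xb27 yb52 zb18) (kb xb32 yb44 zb3) (kb xb29 yb18 zb34) (kb xb20 yb10 zb3) (kb xb25 yb40 zb29) (kb xb22 yb33 zb53) (kb xb22 yb40 zb38) (kb xb32 yb43 zb61) (kb xb20 yb10 zb14)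 (kb xb29 yb38 zb26) (kb xb30 yb23 zb3) (kb xb20 yb10 zb17) (kb xb20 yb10 zb11) (kb xb32 yb8 zb29) (kb xb29 yb18 zb33) (kb xb28 yb58 zb22)) (@D3.rec (fun _ => Pt) (kb xb28 yb59 zb12) (kb xb20 yb36 zb31) (kb xb23 yb55 zb1) (kb xb20 yb10 zb16) (kb xb32 yb24 zb18) (kb xb32 yb38 zb45) (kb xb27 yb32 zb45) (kb xb31 yb38 zb30) (kb xb30 yb18 zb13) (kb xb27 yb34 zb15) (kb xb20 yb10 zb21) (kb xb24 yb53 zb46) (kb xb22 yb28 zb41) (kb xb20 yb37 zb34) (kb xb20 yb10 zb26) (kb xb24 yb18 zb52) (kb xb20 yb10 zb29) (kb xb31 yb22 zb29) (kb xb29 yb35 zb13) (kb xb21 yb52 zb11) (kb xb21 yb53 zb22) (kb xb27 yb56 zb37) (kb xb28 yb46 zb0) (kb xb20 yb10 zb39) (kb xb32 yb44 zb4) (kb xb27 yb55 zb16) (kb xb21 yb12 zb12) (kb xb28 yb6 zb11) (kb xb32 yb6 zb24) (kb xb28 yb45 zb57) (kb xb20 yb10 zb45)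 (kb xb25 yb34 zb9) (kb xb24 yb50 zb47) (kb xb24 yb54 zb27) (kb xb20 yb10 zb54) (kb xb27 yb54 zb43) (kb xb27 yb40 zb3) (kb xb32 yb28 zb39) (kb xb32 yb25 zb36) (kb xb20 yb10 zb59) (kb xb31 yb25 zb39) (kb xb28 yb21 zb30) (kb xb26 yb30 zb46) (kb xb27 yb37 zb59) (kb xb20 yb11 zb1) (kb xb32 yb26 zb6) (kb xb20 yb11 zb4) (kb xb30 yb48 zb1) (kb xb31 yb24 zb58) (kb xb25 yb34 zb10) (kb xb28 yb52 zb50) (kb xb20 yb11 zb14) (kb xb26 yb31 zb46) (kb xb32 yb41 zb22) (kb xb30 yb54 zb58) (kb xb22 yb55 zb41) (kb xb20 yb11 zb12) (kb xb32 yb23 zb18) (kb xb32 yb29 zb39) (kb xb32 yb9 zb43) (kb xb31 yb42 zb30) (kb xb26 yb30 zb41)) (@D3.rec (fun _ => Pt) (kb xb26 yb31 zb39) (kb xb20 yb11 zb15) (kb xb32 yb17 zb14) (kb xb23 yb6 zb50) (kb xb20 yb11 zb19) (kb xb20 yb11 zb18) (kb xb27 yb52 zb34)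 (kb xb32 yb44 zb5) (kb xb20 yb11 zb21) (kb xb20 yb11 zb23) (kb xb27 yb21 zb2) (kb xb20 yb11 zb25) (kb xb28 yb47 zb42) (kb xb23 yb4 zb38) (kb xb20 yb34 zb4) (kb xb25 yb48 zb15) (kb xb20 yb11 zb31) (kb xb20 yb11 zb34) (kb xb23 yb33 zb36) (kb xb30 yb23 zb55) (kb xb22 yb27 zb38) (kb xb32 yb41 zb8) (kb xb30 yb42 zb58) (kb xb26 yb58 zb51) (kb xb27 yb20 zb59) (kb xb29 yb33 zb7) (kb xb24 yb25 zb21) (kb xb29 yb39 zb49) (kb xb22 yb49 zb6) (kb xb31 yb22 zb38) (kb xb27 yb14 zb40) (kb xb29 yb46 zb7) (kb xb30 yb50 zb23) (kb xb26 yb56 zb21) (kb xb25 yb47 zb37) (kb xb25 yb43 zb20) (kb xb26 yb31 zb51) (kb xb28 yb58 zb49) (kb xb20 yb12 zb1) (kb xb30 yb26 zb34) (kb xb20 yb59 zb42) (kb xb31 yb43 zb28) (kb xb29 yb46 zb22) (kb xb22 yb33 zb4) (kb xb20 yb24 zb25) (kb xb20 yb12 zb23) (kb xb20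 yb30 zb52) (kb xb30 yb55 zb47) (kb xb21 yb32 zb4) (kb xb20 yb18 zb8) (kb xb21 yb51 zb5) (kb xb27 yb43 zb13) (kb xb32 yb15 zb51) (kb xb20 yb13 zb0) (kb xb22 yb3 zb43) (kb xb21 yb44 zb59) (kb xb25 yb39 zb39) (kb xb25 yb42 zb20) (kb xb21 yb23 zb35) (kb xb20 yb13 zb20) (kb xb30 yb2 zb53) (kb xb26 yb8 zb60)) (@D3.rec (fun _ => Pt) (kb xb26 yb11 zb59) (kb xb20 yb13 zb33) (kb xb20 yb13 zb34) (kb xb22 yb17 zb47) (kb xb31 yb7 zb11) (kb xb21 yb29 zb45) (kb xb21 yb29 zb46) (kb xb21 yb8 zb42) (kb xb26 yb6 zb28) (kb xb20 yb27 zb56) (kb xb29 yb14 zb0) (kb xb27 yb3 zb34) (kb xb21 yb48 zb19) (kb xb22 yb36 zb52) (kb xb26 yb44 zb51) (kb xb25 yb51 zb0) (kb xb32 yb4 zb14) (kb xb20 yb30 zb51) (kb xb20 yb15 zb61) (kb xb22 yb56 zb49) (kb xb20 yb14 zb30) (kb xb22 yb40 zb58) (kb xb32 yb10 zb29)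 (kb xb20 yb16 zb45) (kb xb20 yb14 zb42) (kb xb20 yb14 zb44) (kb xb20 yb14 zb45) (kb xb27 yb36 zb11) (kb xb20 yb14 zb60) (kb xb32 yb0 zb13) (kb xb20 yb15 zb1) (kb xb24 yb36 zb14) (kb xb20 yb19 zb24) (kb xb20 yb15 zb3) (kb xb20 yb15 zb5) (kb xb28 yb24 zb60) (kb xb26 yb0 zb28) (kb xb23 yb47 zb2) (kb xb31 yb11 zb28) (kb xb25 yb24 zb9) (kb xb25 yb50 zb61) (kb xb21 yb33 zb31) (kb xb21 yb33 zb6) (kb xb21 yb45 zb29) (kb xb21 yb59 zb7) (kb xb20 yb15 zb36) (kb xb21 yb42 zb59) (kb xb20 yb15 zb43) (kb xb26 yb21 zb54) (kb xb26 yb50 zb35) (kb xb32 yb8 zb10) (kb xb28 yb50 zb22) (kb xb26 yb50 zb59) (kb xb21 yb57 zb58) (kb xb21 yb44 zb55) (kb xb20 yb16 zb1) (kb xb27 yb41 zb25) (kb xb25 yb42 zb37) (kb xb20 yb16 zb10) (kb xb20 yb16 zb31) (kb xb21 yb52 zb20) (kb xb20 yb16 zb15)) (@D3.rec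 (fun _ => Pt) (kb xb20 yb16 zb23) (kb xb21 yb50 zb22) (kb xb20 yb16 zb26) (kb xb25 yb9 zb48) (kb xb25 yb52 zb22) (kb xb27 yb36 zb22) (kb xb29 yb31 zb43) (kb xb20 yb16 zb37) (kb xb20 yb16 zb41) (kb xb24 yb28 zb50) (kb xb20 yb16 zb51) (kb xb31 yb30 zb15) (kb xb20 yb16 zb55) (kb xb30 yb55 zb61) (kb xb20 yb16 zb56) (kb xb28 yb51 zb9) (kb xb20 yb17 zb2) (kb xb25 yb39 zb11) (kb xb30 yb8 zb17) (kb xb22 yb47 zb11) (kb xb29 yb3 zb35) (kb xb23 yb12 zb32) (kb xb25 yb18 zb49) (kb xb21 yb40 zb21) (kb xb31 yb18 zb43) (kb xb20 yb17 zb31) (kb xb29 yb51 zb50) (kb xb20 yb17 zb44) (kb xb30 yb3 zb45) (kb xb27 yb4 zb16) (kb xb20 yb17 zb47) (kb xb27 yb19 zb48) (kb xb31 yb41 zb18) (kb xb20 yb17 zb49) (kb xb20 yb17 zb51) (kb xb31 yb46 zb53) (kb xb23 yb11 zb15) (kb xb20 yb49 zb29) (kb xb20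 yb17 zb56) (kb xb23 yb9 zb46) (kb xb29 yb13 zb12) (kb xb29 yb54 zb2) (kb xb20 yb30 zb31) (kb xb24 yb33 zb36) (kb xb20 yb53 zb51) (kb xb20 yb49 zb49) (kb xb20 yb18 zb1) (kb xb20 yb18 zb2) (kb xb32 yb44 zb19) (kb xb24 yb4 zb0) (kb xb20 yb50 zb12) (kb xb20 yb18 zb6) (kb xb30 yb53 zb57) (kb xb29 yb37 zb39) (kb xb28 yb14 zb16) (kb xb22 yb46 zb26) (kb xb26 yb22 zb28) (kb xb28 yb21 zb19) (kb xb20 yb18 zb14) (kb xb27 yb0 zb0) (kb xb21 yb29 zb5) (kb xb20 yb30 zb44)) (@D3.rec (fun _ => Pt) (kb xb32 yb44 zb20) (kb xb26 yb57 zb42) (kb xb25 yb23 zb37) (kb xb26 yb48 zb46) (kb xb31 yb6 zb28) (kb xb23 yb21 zb36) (kb xb31 yb23 zb51) (kb xb24 yb5 zb40) (kb xb28 yb13 zb41) (kb xb31 yb43 zb12) (kb xb28 yb26 zb13) (kb xb20 yb18 zb32) (kb xb31 yb48 zb42) (kb xb28 yb12 zb12) (kb xb20 yb18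 zb39) (kb xb21 yb4 zb9) (kb xb24 yb44 zb25) (kb xb23 yb18 zb13) (kb xb26 yb1 zb19) (kb xb30 yb36 zb52) (kb xb24 yb18 zb50) (kb xb20 yb19 zb1) (kb xb24 yb12 zb19) (kb xb32 yb18 zb21) (kb xb24 yb1 zb15) (kb xb23 yb56 zb55) (kb xb20 yb19 zb6) (kb xb32 yb44 zb24) (kb xb31 yb29 zb34) (kb xb20 yb19 zb31) (kb xb23 yb47 zb3) (kb xb22 yb57 zb59) (kb xb22 yb28 zb37) (kb xb20 yb25 zb15) (kb xb20 yb20 zb1) (kb xb24 yb27 zb60) (kb xb22 yb22 zb44) (kb xb20 yb20 zb12) (kb xb26 yb30 zb16) (kb xb21 yb4 zb18) (kb xb30 yb3 zb49) (kb xb25 yb51 zb47) (kb xb22 yb35 zb24) (kb xb29 yb13 zb43) (kb xb20 yb20 zb17) (kb xb20 yb20 zb22) (kb xb30 yb39 zb33) (kb xb24 yb56 zb33) (kb xb28 yb49 zb52) (kb xb31 yb36 zb49) (kb xb30 yb54 zb43) (kb xb20 yb20 zb52) (kb xb28 yb15 zb39) (kb xb32 yb6 zb52) (kb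 xb27 yb51 zb59) (kb xb20 yb20 zb61) (kb xb28 yb21 zb36) (kb xb22 yb51 zb61) (kb xb27 yb39 zb0) (kb xb28 yb27 zb25) (kb xb20 yb21 zb6) (kb xb32 yb3 zb57)) (@D3.rec (fun _ => Pt) (kb xb27 yb54 zb55) (kb xb32 yb30 zb9) (kb xb28 yb31 zb52) (kb xb32 yb6 zb59) (kb xb27 yb48 zb43) (kb xb27 yb32 zb36) (kb xb30 yb45 zb25) (kb xb32 yb29 zb38) (kb xb26 yb27 zb20) (kb xb27 yb33 zb0) (kb xb28 yb21 zb33) (kb xb20 yb21 zb22) (kb xb32 yb26 zb8) (kb xb24 yb55 zb2) (kb xb27 yb50 zb22) (kb xb32 yb44 zb25) (kb xb27 yb29 zb46) (kb xb28 yb8 zb18) (kb xb28 yb16 zb54) (kb xb29 yb54 zb18) (kb xb20 yb21 zb41) (kb xb24 yb56 zb19) (kb xb20 yb42 zb51) (kb xb20 yb41 zb18) (kb xb30 yb46 zb38) (kb xb28 yb23 zb7) (kb xb20 yb21 zb47) (kb xb28 yb23 zb38) (kb xb31 yb16 zb19) (kb xb29 yb18 zb25) (kb xb29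 yb18 zb26) (kb xb20 yb21 zb55) (kb xb22 yb59 zb56) (kb xb20 yb47 zb18) (kb xb27 yb2 zb41) (kb xb21 yb22 zb50) (kb xb30 yb17 zb12) (kb xb20 yb25 zb61) (kb xb26 yb26 zb46) (kb xb21 yb36 zb40) (kb xb20 yb25 zb57) (kb xb21 yb22 zb23) (kb xb20 yb23 zb4) (kb xb20 yb23 zb5) (kb xb26 yb54 zb54) (kb xb30 yb6 zb52) (kb xb31 yb22 zb33) (kb xb28 yb14 zb34) (kb xb31 yb20 zb54) (kb xb32 yb44 zb29) (kb xb21 yb20 zb56) (kb xb31 yb31 zb49) (kb xb30 yb30 zb56) (kb xb30 yb28 zb3) (kb xb20 yb23 zb23) (kb xb24 yb0 zb21) (kb xb31 yb29 zb21) (kb xb20 yb23 zb24) (kb xb26 yb40 zb60) (kb xb29 yb44 zb40) (kb xb20 yb23 zb29) (kb xb20 yb23 zb28)) (@D3.rec (fun _ => Pt) (kb xb22 yb6 zb9) (kb xb20 yb33 zb57) (kb xb23 yb54 zb0) (kb xb24 yb7 zb14) (kb xb20 yb23 zb39) (kb xb30 yb27 zb0) (kb xb21 yb52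 zb50) (kb xb29 yb30 zb40) (kb xb30 yb15 zb30) (kb xb31 yb30 zb44) (kb xb32 yb18 zb37) (kb xb32 yb23 zb7) (kb xb22 yb0 zb60) (kb xb32 yb13 zb31) (kb xb20 yb23 zb46) (kb xb20 yb23 zb48) (kb xb28 yb39 zb41) (kb xb20 yb44 zb46) (kb xb24 yb26 zb46) (kb xb20 yb23 zb52) (kb xb20 yb23 zb53) (kb xb32 yb38 zb25) (kb xb20 yb23 zb54) (kb xb20 yb23 zb56) (kb xb20 yb23 zb57) (kb xb26 yb40 zb5) (kb xb20 yb38 zb45) (kb xb32 yb42 zb20) (kb xb26 yb33 zb57) (kb xb26 yb39 zb51) (kb xb20 yb23 zb60) (kb xb20 yb35 zb27) (kb xb29 yb44 zb41) (kb xb20 yb56 zb12) (kb xb32 yb44 zb38) (kb xb29 yb47 zb5) (kb xb20 yb24 zb10) (kb xb27 yb41 zb8) (kb xb25 yb42 zb39) (kb xb20 yb25 zb28) (kb xb20 yb24 zb24) (kb xb20 yb24 zb19) (kb xb31 yb30 zb52) (kb xb23 yb38 zb26) (kb xb20 yb24 zb42) (kb xb24 yb23 zb43)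 (kb xb24 yb32 zb7) (kb xb29 yb55 zb28) (kb xb23 yb38 zb25) (kb xb29 yb55 zb23) (kb xb23 yb29 zb58) (kb xb32 yb44 zb40) (kb xb31 yb3 zb10) (kb xb20 yb24 zb58) (kb xb20 yb24 zb59) (kb xb32 yb44 zb41) (kb xb32 yb43 zb21) (kb xb27 yb1 zb9) (kb xb20 yb25 zb2) (kb xb30 yb36 zb27) (kb xb20 yb42 zb55) (kb xb20 yb25 zb11)) (@D3.rec (fun _ => Pt) (kb xb20 yb25 zb12) (kb xb24 yb11 zb1) (kb xb20 yb25 zb14) (kb xb29 yb36 zb35) (kb xb26 yb24 zb12) (kb xb26 yb49 zb21) (kb xb24 yb12 zb12) (kb xb30 yb27 zb36) (kb xb24 yb12 zb54) (kb xb23 yb7 zb18) (kb xb23 yb19 zb43) (kb xb28 yb55 zb35) (kb xb26 yb26 zb37) (kb xb31 yb1 zb36) (kb xb28 yb56 zb28) (kb xb24 yb3 zb53) (kb xb20 yb26 zb34) (kb xb31 yb21 zb27) (kb xb20 yb26 zb36) (kb xb32 yb17 zb54) (kb xb20 yb53 zb36) (kb xb31 yb16 zb45) (kb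 xb29 yb41 zb35) (kb xb20 yb26 zb39) (kb xb29 yb36 zb8) (kb xb29 yb27 zb28) (kb xb27 yb37 zb7) (kb xb30 yb27 zb10) (kb xb29 yb27 zb25) (kb xb20 yb26 zb45) (kb xb20 yb26 zb44) (kb xb32 yb18 zb0) (kb xb29 yb36 zb9) (kb xb32 yb44 zb47) (kb xb32 yb41 zb37) (kb xb25 yb52 zb47) (kb xb26 yb37 zb14) (kb xb31 yb26 zb57) (kb xb23 yb30 zb43) (kb xb20 yb27 zb11) (kb xb28 yb31 zb44) (kb xb27 yb9 zb43) (kb xb20 yb27 zb15) (kb xb20 yb27 zb22) (kb xb25 yb45 zb55) (kb xb20 yb27 zb44) (kb xb21 yb36 zb23) (kb xb27 yb59 zb54) (kb xb23 yb57 zb28) (kb xb20 yb28 zb14) (kb xb31 yb23 zb1) (kb xb23 yb9 zb41) (kb xb20 yb39 zb17) (kb xb28 yb39 zb4) (kb xb20 yb35 zb33) (kb xb28 yb33 zb56) (kb xb20 yb28 zb32) (kb xb23 yb54 zb21) (kb xb20 yb28 zb37) (kb xb30 yb24 zb6) (kb xb31 yb32 zb42) (kb xb20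 yb59 zb14)) (@D3.rec (fun _ => Pt) (kb xb20 yb28 zb41) (kb xb28 yb46 zb22) (kb xb28 yb53 zb56) (kb xb22 yb16 zb48) (kb xb20 yb28 zb53) (kb xb22 yb59 zb4) (kb xb23 yb48 zb20) (kb xb20 yb28 zb59) (kb xb23 yb47 zb33) (kb xb20 yb29 zb0) (kb xb20 yb29 zb2) (kb xb20 yb29 zb7) (kb xb27 yb10 zb12) (kb xb22 yb52 zb57) (kb xb25 yb34 zb42) (kb xb23 yb11 zb6) (kb xb27 yb44 zb8) (kb xb20 yb29 zb16) (kb xb26 yb25 zb39) (kb xb20 yb29 zb20) (kb xb31 yb29 zb41) (kb xb22 yb26 zb29) (kb xb20 yb29 zb25) (kb xb20 yb29 zb34) (kb xb29 yb29 zb36) (kb xb20 yb29 zb28) (kb xb28 yb53 zb39) (kb xb22 yb12 zb54) (kb xb30 yb19 zb56) (kb xb20 yb29 zb36) (kb xb30 yb48 zb13) (kb xb25 yb59 zb52) (kb xb24 yb23 zb9) (kb xb31 yb6 zb19) (kb xb22 yb53 zb34) (kb xb30 yb51 zb2) (kb xb27 yb13 zb24) (kb xb24 yb59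 zb46) (kb xb20 yb29 zb38) (kb xb27 yb21 zb55) (kb xb27 yb13 zb16) (kb xb25 yb56 zb0) (kb xb20 yb29 zb45) (kb xb28 yb15 zb55) (kb xb32 yb9 zb31) (kb xb30 yb2 zb35) (kb xb23 yb41 zb54) (kb xb20 yb57 zb0) (kb xb20 yb57 zb1) (kb xb22 yb56 zb56) (kb xb26 yb30 zb20) (kb xb27 yb11 zb40) (kb xb20 yb30 zb9) (kb xb20 yb30 zb8) (kb xb25 yb21 zb3) (kb xb21 yb51 zb45) (kb xb32 yb4 zb17) (kb xb30 yb35 zb45) (kb xb30 yb30 zb27) (kb xb22 yb39 zb51) (kb xb31 yb0 zb18) (kb xb28 yb26 zb25)) (@D3.rec (fun _ => Pt) (kb xb22 yb51 zb25) (kb xb26 yb53 zb11) (kb xb23 yb46 zb45) (kb xb22 yb31 zb59) (kb xb27 yb9 zb49) (kb xb20 yb32 zb43) (kb xb31 yb43 zb7) (kb xb21 yb4 zb24) (kb xb20 yb30 zb29) (kb xb30 yb38 zb11) (kb xb24 yb33 zb22) (kb xb20 yb51 zb0) (kb xb30 yb34 zb4) (kb xb20 yb30 zb48) (kb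 xb31 yb34 zb4) (kb xb21 yb9 zb2) (kb xb22 yb3 zb7) (kb xb23 yb25 zb50) (kb xb27 yb9 zb51) (kb xb20 yb32 zb48) (kb xb31 yb6 zb29) (kb xb20 yb39 zb53) (kb xb20 yb31 zb6) (kb xb23 yb33 zb42) (kb xb22 yb35 zb61) (kb xb24 yb6 zb12) (kb xb22 yb12 zb49) (kb xb27 yb0 zb54) (kb xb29 yb8 zb9) (kb xb22 yb5 zb16) (kb xb22 yb59 zb19) (kb xb22 yb39 zb37) (kb xb32 yb15 zb11) (kb xb20 yb47 zb22) (kb xb22 yb50 zb56) (kb xb24 yb59 zb29) (kb xb29 yb28 zb24) (kb xb23 yb7 zb48) (kb xb30 yb55 zb27) (kb xb20 yb31 zb39) (kb xb20 yb31 zb37) (kb xb27 yb6 zb1) (kb xb29 yb50 zb0) (kb xb29 yb54 zb5) (kb xb31 yb59 zb21) (kb xb23 yb17 zb36) (kb xb22 yb30 zb10) (kb xb20 yb31 zb44) (kb xb32 yb18 zb8) (kb xb24 yb11 zb13) (kb xb22 yb41 zb8) (kb xb30 yb42 zb50) (kb xb28 yb2 zb44) (kb xb32 yb7 zb35) (kb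 xb20 yb32 zb14) (kb xb25 yb1 zb25) (kb xb24 yb23 zb29) (kb xb26 yb25 zb12) (kb xb26 yb32 zb32) (kb xb27 yb48 zb48) (kb xb20 yb33 zb29) (kb xb26 yb48 zb55)) (@D3.rec (fun _ => Pt) (kb xb21 yb6 zb48) (kb xb20 yb32 zb30) (kb xb26 yb20 zb4) (kb xb22 yb29 zb37) (kb xb31 yb44 zb49) (kb xb23 yb21 zb48) (kb xb23 yb16 zb51) (kb xb20 yb32 zb41) (kb xb26 yb7 zb21) (kb xb32 yb3 zb42) (kb xb23 yb21 zb31) (kb xb28 yb13 zb48) (kb xb27 yb3 zb35) (kb xb23 yb32 zb52) (kb xb23 yb52 zb27) (kb xb31 yb7 zb15) (kb xb32 yb17 zb12) (kb xb24 yb18 zb55) (kb xb20 yb33 zb18) (kb xb27 yb7 zb60) (kb xb22 yb12 zb33) (kb xb32 yb16 zb58) (kb xb23 yb58 zb46) (kb xb21 yb52 zb53) (kb xb31 yb6 zb39) (kb xb23 yb46 zb20) (kb xb31 yb53 zb20) (kb xb24 yb0 zb39) (kb xb26 yb42 zb36) (kb xb21 yb3 zb17) (kb xb25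 yb23 zb60) (kb xb20 yb33 zb42) (kb xb20 yb33 zb45) (kb xb32 yb15 zb42) (kb xb30 yb3 zb59) (kb xb27 yb3 zb9) (kb xb20 yb33 zb55) (kb xb27 yb15 zb44) (kb xb31 yb16 zb21) (kb xb23 yb47 zb22) (kb xb29 yb26 zb7) (kb xb24 yb2 zb43) (kb xb25 yb54 zb46) (kb xb30 yb49 zb48) (kb xb32 yb33 zb43) (kb xb22 yb33 zb36) (kb xb28 yb48 zb26) (kb xb20 yb33 zb59) (kb xb22 yb6 zb37) (kb xb32 yb1 zb11) (kb xb23 yb54 zb51) (kb xb20 yb34 zb9) (kb xb27 yb13 zb19) (kb xb29 yb37 zb29) (kb xb23 yb53 zb21) (kb xb29 yb7 zb54) (kb xb21 yb34 zb60) (kb xb21 yb51 zb8) (kb xb32 yb31 zb20) (kb xb27 yb5 zb24) (kb xb25 yb50 zb2) (kb xb20 yb34 zb47)) (@D3.rec (fun _ => Pt) (kb xb26 yb46 zb19) (kb xb29 yb14 zb38) (kb xb31 yb46 zb45) (kb xb22 yb45 zb40) (kb xb29 yb0 zb17) (kb xb24 yb7 zb58) (kb xb23 yb55 zb14)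 (kb xb24 yb7 zb46) (kb xb26 yb26 zb48) (kb xb28 yb39 zb2) (kb xb30 yb30 zb57) (kb xb32 yb35 zb43) (kb xb30 yb24 zb37) (kb xb22 yb46 zb49) (kb xb20 yb35 zb11) (kb xb31 yb33 zb29) (kb xb31 yb12 zb40) (kb xb20 yb35 zb14) (kb xb31 yb54 zb3) (kb xb20 yb35 zb18) (kb xb26 yb33 zb24) (kb xb20 yb35 zb29) (kb xb32 yb37 zb48) (kb xb20 yb35 zb32) (kb xb29 yb40 zb31) (kb xb31 yb21 zb47) (kb xb24 yb14 zb43) (kb xb20 yb35 zb35) (kb xb28 yb54 zb29) (kb xb20 yb35 zb37) (kb xb20 yb35 zb38) (kb xb30 yb29 zb9) (kb xb20 yb35 zb39) (kb xb32 yb45 zb7) (kb xb20 yb35 zb44) (kb xb20 yb35 zb42) (kb xb32 yb45 zb8) (kb xb32 yb37 zb35) (kb xb32 yb39 zb26) (kb xb21 yb29 zb24) (kb xb21 yb24 zb17) (kb xb30 yb5 zb1) (kb xb25 yb48 zb13) (kb xb29 yb23 zb6) (kb xb27 yb57 zb35) (kb xb31 yb25 zb13) (kb xb21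 yb58 zb51) (kb xb21 yb44 zb39) (kb xb27 yb36 zb21) (kb xb31 yb50 zb37) (kb xb22 yb3 zb4) (kb xb27 yb40 zb29) (kb xb25 yb53 zb21) (kb xb25 yb47 zb17) (kb xb20 yb36 zb25) (kb xb25 yb36 zb9) (kb xb30 yb55 zb34) (kb xb29 yb1 zb55) (kb xb30 yb26 zb38) (kb xb29 yb19 zb21) (kb xb31 yb14 zb56) (kb xb32 yb24 zb16)) (@D3.rec (fun _ => Pt) (kb xb32 yb34 zb16) (kb xb28 yb53 zb43) (kb xb23 yb8 zb13) (kb xb23 yb8 zb11) (kb xb31 yb50 zb24) (kb xb30 yb14 zb46) (kb xb20 yb36 zb49) (kb xb22 yb46 zb51) (kb xb30 yb52 zb59) (kb xb29 yb1 zb37) (kb xb29 yb50 zb2) (kb xb20 yb36 zb51) (kb xb20 yb36 zb52) (kb xb26 yb57 zb18) (kb xb32 yb45 zb12) (kb xb30 yb15 zb52) (kb xb29 yb1 zb57) (kb xb32 yb36 zb27) (kb xb31 yb33 zb25) (kb xb22 yb56 zb18) (kb xb27 yb42 zb0) (kb xb20 yb36 zb57) (kb xb32 yb45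 zb17) (kb xb24 yb8 zb41) (kb xb20 yb37 zb1) (kb xb24 yb29 zb55) (kb xb22 yb58 zb34) (kb xb30 yb48 zb9) (kb xb22 yb1 zb47) (kb xb20 yb44 zb36) (kb xb30 yb45 zb13) (kb xb20 yb37 zb18) (kb xb28 yb51 zb6) (kb xb20 yb37 zb24) (kb xb20 yb37 zb25) (kb xb32 yb18 zb52) (kb xb29 yb39 zb44) (kb xb20 yb37 zb26) (kb xb23 yb18 zb48) (kb xb24 yb58 zb5) (kb xb20 yb57 zb3) (kb xb25 yb20 zb0) (kb xb29 yb2 zb46) (kb xb25 yb17 zb32) (kb xb25 yb44 zb48) (kb xb20 yb37 zb45) (kb xb32 yb45 zb20) (kb xb21 yb23 zb6) (kb xb27 yb24 zb29) (kb xb21 yb41 zb30) (kb xb23 yb54 zb8) (kb xb23 yb51 zb3) (kb xb20 yb38 zb12) (kb xb32 yb32 zb2) (kb xb20 yb38 zb14) (kb xb24 yb26 zb33) (kb xb24 yb26 zb34) (kb xb20 yb38 zb20) (kb xb20 yb38 zb23) (kb xb32 yb44 zb35) (kb xb26 yb38 zb52) (kb xb22 yb8 zb54)) (@D3.rec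 (fun _ => Pt) (kb xb20 yb38 zb30) (kb xb24 yb26 zb41) (kb xb20 yb38 zb32) (kb xb26 yb38 zb39) (kb xb20 yb38 zb34) (kb xb32 yb24 zb1) (kb xb29 yb45 zb9) (kb xb29 yb21 zb25) (kb xb20 yb38 zb38) (kb xb30 yb29 zb37) (kb xb26 yb36 zb23) (kb xb32 yb45 zb24) (kb xb20 yb52 zb40) (kb xb24 yb9 zb3) (kb xb20 yb38 zb54) (kb xb24 yb33 zb40) (kb xb32 yb45 zb26) (kb xb20 yb57 zb15) (kb xb29 yb43 zb16) (kb xb29 yb43 zb17) (kb xb32 yb12 zb14) (kb xb32 yb9 zb17) (kb xb20 yb38 zb59) (kb xb20 yb55 zb9) (kb xb20 yb39 zb1) (kb xb28 yb18 zb28) (kb xb32 yb1 zb9) (kb xb24 yb0 zb32) (kb xb30 yb28 zb54) (kb xb20 yb38 zb60) (kb xb22 yb1 zb1) (kb xb30 yb17 zb35) (kb xb31 yb31 zb0) (kb xb27 yb0 zb41) (kb xb24 yb9 zb52) (kb xb22 yb1 zb14) (kb xb20 yb39 zb2) (kb xb32 yb45 zb38) (kb xb20 yb39 zb4)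 (kb xb20 yb39 zb7) (kb xb32 yb12 zb15) (kb xb32 yb33 zb31) (kb xb31 yb33 zb27) (kb xb20 yb39 zb13) (kb xb20 yb39 zb11) (kb xb32 yb27 zb11) (kb xb20 yb39 zb12) (kb xb22 yb0 zb44) (kb xb32 yb13 zb10) (kb xb32 yb12 zb20) (kb xb32 yb36 zb6) (kb xb20 yb39 zb19) (kb xb20 yb56 zb53) (kb xb32 yb45 zb45) (kb xb29 yb47 zb33) (kb xb26 yb34 zb52) (kb xb30 yb28 zb57) (kb xb30 yb30 zb55) (kb xb20 yb39 zb27) (kb xb20 yb39 zb25) (kb xb28 yb51 zb8) (kb xb29 yb46 zb17)) (@D3.rec (fun _ => Pt) (kb xb20 yb39 zb29) (kb xb32 yb45 zb47) (kb xb31 yb21 zb42) (kb xb26 yb40 zb58) (kb xb31 yb34 zb61) (kb xb32 yb45 zb48) (kb xb30 yb48 zb60) (kb xb20 yb39 zb33) (kb xb32 yb10 zb52) (kb xb27 yb14 zb38) (kb xb28 yb54 zb23) (kb xb28 yb54 zb45) (kb xb31 yb21 zb3) (kb xb20 yb39 zb35) (kb xb32 yb41 zb6)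 (kb xb32 yb14 zb16) (kb xb31 yb35 zb4) (kb xb28 yb38 zb59) (kb xb20 yb39 zb37) (kb xb32 yb14 zb19) (kb xb22 yb0 zb50) (kb xb32 yb45 zb53) (kb xb28 yb54 zb43) (kb xb30 yb55 zb35) (kb xb22 yb26 zb2) (kb xb20 yb39 zb39) (kb xb28 yb39 zb31) (kb xb27 yb16 zb12) (kb xb32 yb36 zb10) (kb xb32 yb11 zb18) (kb xb20 yb39 zb41) (kb xb24 yb32 zb4) (kb xb29 yb46 zb61) (kb xb20 yb39 zb45) (kb xb21 yb1 zb38) (kb xb28 yb40 zb37) (kb xb20 yb39 zb49) (kb xb22 yb55 zb4) (kb xb32 yb9 zb7) (kb xb24 yb13 zb38) (kb xb31 yb22 zb23) (kb xb23 yb52 zb51) (kb xb20 yb39 zb54) (kb xb20 yb39 zb58) (kb xb20 yb40 zb2) (kb xb29 yb49 zb25) (kb xb20 yb40 zb7) (kb xb32 yb32 zb15) (kb xb22 yb56 zb25) (kb xb29 yb44 zb16) (kb xb31 yb39 zb51) (kb xb20 yb50 zb29) (kb xb30 yb55 zb28) (kb xb24 yb0 zb40) (kb xb28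 yb14 zb1) (kb xb28 yb24 zb35) (kb xb20 yb51 zb6) (kb xb20 yb53 zb9) (kb xb28 yb39 zb32) (kb xb31 yb47 zb39) (kb xb30 yb18 zb21) (kb xb28 yb32 zb32)) (@D3.rec (fun _ => Pt) (kb xb20 yb40 zb41) (kb xb31 yb19 zb57) (kb xb20 yb40 zb50) (kb xb29 yb13 zb11) (kb xb26 yb52 zb53) (kb xb26 yb23 zb37) (kb xb28 yb37 zb19) (kb xb20 yb40 zb53) (kb xb20 yb42 zb39) (kb xb31 yb17 zb4) (kb xb31 yb19 zb54) (kb xb31 yb22 zb11) (kb xb30 yb30 zb16) (kb xb29 yb20 zb18) (kb xb32 yb16 zb43) (kb xb30 yb22 zb33) (kb xb26 yb52 zb17) (kb xb30 yb37 zb1) (kb xb20 yb41 zb22) (kb xb31 yb13 zb13) (kb xb28 yb29 zb32) (kb xb32 yb45 zb57) (kb xb20 yb41 zb25) (kb xb30 yb18 zb38) (kb xb28 yb51 zb58) (kb xb20 yb41 zb27) (kb xb20 yb41 zb28) (kb xb29 yb49 zb26) (kb xb24 yb35 zb27) (kb xb31 yb48 zb36) (kb xb20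 yb41 zb33) (kb xb20 yb41 zb40) (kb xb24 yb52 zb3) (kb xb24 yb52 zb2) (kb xb24 yb49 zb42) (kb xb20 yb42 zb10) (kb xb20 yb41 zb43) (kb xb31 yb34 zb41) (kb xb22 yb22 zb26) (kb xb20 yb41 zb50) (kb xb29 yb19 zb9) (kb xb30 yb5 zb37) (kb xb29 yb39 zb23) (kb xb28 yb0 zb44) (kb xb23 yb52 zb41) (kb xb30 yb20 zb48) (kb xb32 yb35 zb59) (kb xb31 yb13 zb6) (kb xb29 yb8 zb61) (kb xb28 yb38 zb36) (kb xb31 yb13 zb8) (kb xb28 yb55 zb0) (kb xb24 yb0 zb11) (kb xb30 yb23 zb36) (kb xb21 yb16 zb11) (kb xb20 yb42 zb1) (kb xb27 yb22 zb50) (kb xb25 yb20 zb27) (kb xb25 yb22 zb17) (kb xb29 yb13 zb5) (kb xb27 yb38 zb15) (kb xb20 yb42 zb4)) (@D3.rec (fun _ => Pt) (kb xb20 yb42 zb5) (kb xb31 yb21 zb30) (kb xb32 yb45 zb60) (kb xb31 yb47 zb45) (kb xb25 yb27 zb61) (kb xb28 yb59 zb53) (kb xb20 yb43 zb41)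 (kb xb28 yb37 zb1) (kb xb29 yb27 zb24) (kb xb29 yb27 zb32) (kb xb25 yb37 zb37) (kb xb32 yb46 zb6) (kb xb32 yb46 zb10) (kb xb20 yb42 zb15) (kb xb20 yb42 zb14) (kb xb20 yb42 zb16) (kb xb20 yb42 zb13) (kb xb32 yb46 zb13) (kb xb29 yb37 zb33) (kb xb32 yb46 zb12) (kb xb21 yb7 zb4) (kb xb21 yb39 zb18) (kb xb29 yb5 zb29) (kb xb20 yb42 zb29) (kb xb32 yb1 zb56) (kb xb30 yb55 zb18) (kb xb25 yb30 zb56) (kb xb30 yb53 zb37) (kb xb22 yb26 zb31) (kb xb23 yb48 zb26) (kb xb22 yb26 zb58) (kb xb23 yb48 zb28) (kb xb20 yb42 zb45) (kb xb20 yb42 zb48) (kb xb22 yb37 zb28) (kb xb29 yb27 zb3) (kb xb31 yb21 zb35) (kb xb23 yb48 zb14) (kb xb28 yb52 zb56) (kb xb32 yb44 zb27) (kb xb20 yb42 zb52) (kb xb26 yb50 zb6) (kb xb20 yb42 zb53) (kb xb32 yb26 zb43) (kb xb20 yb42 zb54) (kb xb32 yb37 zb5) (kb xb20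 yb42 zb57) (kb xb31 yb15 zb55) (kb xb30 yb37 zb43) (kb xb28 yb24 zb26) (kb xb31 yb13 zb37) (kb xb22 yb29 zb56) (kb xb28 yb45 zb3) (kb xb31 yb16 zb12) (kb xb20 yb43 zb3) (kb xb20 yb43 zb4) (kb xb28 yb36 zb9) (kb xb23 yb7 zb34) (kb xb32 yb46 zb19) (kb xb20 yb43 zb8) (kb xb20 yb43 zb7) (kb xb31 yb21 zb32)) (@D3.rec (fun _ => Pt) (kb xb20 yb43 zb10) (kb xb32 yb42 zb49) (kb xb24 yb23 zb17) (kb xb30 yb49 zb17) (kb xb20 yb43 zb12) (kb xb20 yb43 zb13) (kb xb32 yb40 zb31) (kb xb20 yb43 zb17) (kb xb20 yb43 zb16) (kb xb20 yb43 zb21) (kb xb29 yb49 zb27) (kb xb21 yb54 zb8) (kb xb25 yb6 zb11) (kb xb20 yb43 zb29) (kb xb25 yb24 zb8) (kb xb30 yb49 zb18) (kb xb22 yb55 zb59) (kb xb20 yb43 zb38) (kb xb31 yb32 zb1) (kb xb24 yb0 zb41) (kb xb20 yb43 zb36) (kb xb20 yb43 zb37) (kb xb27 yb14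 zb26) (kb xb25 yb5 zb42) (kb xb27 yb24 zb10) (kb xb20 yb43 zb42) (kb xb30 yb53 zb46) (kb xb24 yb37 zb37) (kb xb30 yb51 zb34) (kb xb29 yb30 zb53) (kb xb31 yb49 zb22) (kb xb25 yb35 zb36) (kb xb26 yb35 zb35) (kb xb29 yb36 zb18) (kb xb22 yb47 zb23) (kb xb20 yb43 zb55) (kb xb32 yb46 zb25) (kb xb29 yb41 zb21) (kb xb24 yb37 zb38) (kb xb29 yb23 zb53) (kb xb27 yb3 zb4) (kb xb25 yb59 zb46) (kb xb30 yb55 zb38) (kb xb25 yb54 zb42) (kb xb29 yb43 zb1) (kb xb24 yb5 zb41) (kb xb22 yb59 zb11) (kb xb21 yb5 zb26) (kb xb20 yb44 zb4) (kb xb25 yb51 zb6) (kb xb26 yb59 zb46) (kb xb25 yb17 zb39) (kb xb29 yb55 zb53) (kb xb26 yb50 zb48) (kb xb26 yb51 zb29) (kb xb28 yb18 zb34) (kb xb20 yb44 zb26) (kb xb32 yb46 zb29) (kb xb20 yb44 zb14) (kb xb20 yb55 zb4) (kb xb32 yb46 zb30) (kb xb28 yb54 zb40))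 (@D3.rec (fun _ => Pt) (kb xb32 yb12 zb36) (kb xb20 yb44 zb17) (kb xb25 yb32 zb0) (kb xb21 yb52 zb48) (kb xb27 yb42 zb25) (kb xb24 yb21 zb49) (kb xb20 yb44 zb23) (kb xb31 yb33 zb26) (kb xb24 yb22 zb40) (kb xb22 yb38 zb21) (kb xb20 yb44 zb28) (kb xb32 yb46 zb31) (kb xb24 yb21 zb29) (kb xb20 yb44 zb31) (kb xb20 yb44 zb34) (kb xb21 yb44 zb32) (kb xb23 yb49 zb13) (kb xb22 yb5 zb58) (kb xb32 yb27 zb59) (kb xb21 yb48 zb12) (kb xb20 yb45 zb4) (kb xb31 yb48 zb40) (kb xb20 yb45 zb8) (kb xb28 yb20 zb3) (kb xb23 yb49 zb40) (kb xb22 yb34 zb16) (kb xb29 yb19 zb55) (kb xb27 yb8 zb24) (kb xb20 yb45 zb24) (kb xb24 yb1 zb58) (kb xb26 yb20 zb28) (kb xb26 yb44 zb0) (kb xb26 yb44 zb1) (kb xb24 yb30 zb36) (kb xb29 yb53 zb23) (kb xb20 yb45 zb34) (kb xb22 yb42 zb44) (kb xb29 yb19 zb39) (kb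 xb25 yb48 zb14) (kb xb27 yb59 zb55) (kb xb20 yb45 zb40) (kb xb20 yb45 zb41) (kb xb22 yb11 zb44) (kb xb27 yb39 zb42) (kb xb28 yb3 zb23) (kb xb32 yb6 zb4) (kb xb30 yb45 zb42) (kb xb20 yb45 zb47) (kb xb32 yb46 zb34) (kb xb27 yb50 zb50) (kb xb20 yb45 zb50) (kb xb22 yb49 zb45) (kb xb20 yb45 zb55) (kb xb27 yb2 zb48) (kb xb23 yb58 zb7) (kb xb21 yb38 zb5) (kb xb32 yb16 zb28) (kb xb20 yb46 zb12) (kb xb32 yb39 zb20) (kb xb29 yb58 zb54) (kb xb20 yb46 zb19) (kb xb21 yb23 zb39)) (@D3.rec (fun _ => Pt) (kb xb31 yb28 zb28) (kb xb24 yb27 zb21) (kb xb31 yb21 zb33) (kb xb28 yb31 zb6) (kb xb28 yb46 zb53) (kb xb26 yb59 zb21) (kb xb21 yb13 zb32) (kb xb22 yb37 zb40) (kb xb26 yb50 zb36) (kb xb20 yb46 zb41) (kb xb20 yb46 zb42) (kb xb22 yb38 zb20) (kb xb27 yb5 zb60) (kb xb25 yb30 zb61) (kb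 xb20 yb46 zb47) (kb xb28 yb12 zb3) (kb xb26 yb19 zb10) (kb xb26 yb13 zb45) (kb xb26 yb15 zb46) (kb xb25 yb53 zb6) (kb xb30 yb12 zb45) (kb xb20 yb47 zb11) (kb xb20 yb47 zb2) (kb xb29 yb35 zb42) (kb xb25 yb53 zb11) (kb xb24 yb26 zb16) (kb xb20 yb47 zb8) (kb xb28 yb15 zb44) (kb xb30 yb37 zb42) (kb xb32 yb44 zb61) (kb xb25 yb17 zb14) (kb xb20 yb47 zb17) (kb xb32 yb46 zb36) (kb xb32 yb46 zb35) (kb xb32 yb44 zb28) (kb xb20 yb47 zb20) (kb xb22 yb29 zb14) (kb xb24 yb47 zb50) (kb xb26 yb49 zb7) (kb xb30 yb36 zb55) (kb xb28 yb42 zb47) (kb xb27 yb36 zb25) (kb xb20 yb47 zb36) (kb xb32 yb34 zb12) (kb xb29 yb32 zb36) (kb xb31 yb53 zb36) (kb xb30 yb43 zb57) (kb xb25 yb52 zb14) (kb xb24 yb5 zb32) (kb xb29 yb21 zb27) (kb xb24 yb1 zb12) (kb xb28 yb48 zb47) (kb xb32 yb46 zb38) (kb xb20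 yb47 zb51) (kb xb24 yb25 zb8) (kb xb32 yb46 zb39) (kb xb20 yb47 zb57) (kb xb28 yb38 zb2) (kb xb28 yb51 zb12) (kb xb20 yb48 zb3) (kb xb20 yb48 zb4) (kb xb32 yb35 zb16)) (@D3.rec (fun _ => Pt) (kb xb24 yb9 zb32) (kb xb28 yb34 zb22) (kb xb32 yb18 zb57) (kb xb32 yb19 zb4) (kb xb32 yb22 zb59) (kb xb26 yb51 zb35) (kb xb31 yb19 zb21) (kb xb22 yb23 zb49) (kb xb20 yb48 zb13) (kb xb20 yb48 zb15) (kb xb26 yb42 zb38) (kb xb20 yb48 zb16) (kb xb32 yb16 zb47) (kb xb20 yb48 zb25) (kb xb30 yb25 zb20) (kb xb32 yb46 zb42) (kb xb31 yb33 zb31) (kb xb20 yb48 zb23) (kb xb29 yb43 zb11) (kb xb26 yb56 zb17) (kb xb28 yb55 zb47) (kb xb32 yb46 zb44) (kb xb22 yb26 zb34) (kb xb28 yb30 zb12) (kb xb30 yb28 zb45) (kb xb25 yb32 zb22) (kb xb28 yb49 zb15) (kb xb20 yb48 zb28) (kb xb32 yb13 zb34) (kb xb28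 yb39 zb58) (kb xb20 yb48 zb29) (kb xb29 yb31 zb24) (kb xb32 yb46 zb49) (kb xb26 yb43 zb57) (kb xb20 yb48 zb34) (kb xb24 yb4 zb52) (kb xb30 yb7 zb54) (kb xb23 yb58 zb47) (kb xb32 yb46 zb50) (kb xb20 yb48 zb44) (kb xb20 yb48 zb43) (kb xb32 yb36 zb13) (kb xb31 yb17 zb56) (kb xb23 yb53 zb1) (kb xb22 yb25 zb49) (kb xb20 yb48 zb49) (kb xb28 yb25 zb18) (kb xb20 yb48 zb50) (kb xb30 yb51 zb29) (kb xb32 yb9 zb12) (kb xb28 yb25 zb10) (kb xb28 yb54 zb46) (kb xb25 yb53 zb8) (kb xb22 yb26 zb15) (kb xb20 yb48 zb57) (kb xb22 yb48 zb38) (kb xb20 yb48 zb58) (kb xb28 yb34 zb54) (kb xb32 yb46 zb53) (kb xb23 yb3 zb58) (kb xb24 yb57 zb58) (kb xb24 yb42 zb48)) (@D3.rec (fun _ => Pt) (kb xb27 yb22 zb58) (kb xb27 yb9 zb15) (kb xb24 yb15 zb24) (kb xb27 yb9 zb17) (kb xb30 yb25 zb23) (kb xb22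 yb0 zb4) (kb xb21 yb53 zb0) (kb xb29 yb46 zb37) (kb xb20 yb49 zb27) (kb xb25 yb55 zb5) (kb xb29 yb17 zb59) (kb xb25 yb5 zb59) (kb xb20 yb49 zb35) (kb xb23 yb5 zb16) (kb xb20 yb49 zb33) (kb xb24 yb34 zb0) (kb xb31 yb50 zb23) (kb xb29 yb43 zb5) (kb xb24 yb16 zb54) (kb xb28 yb20 zb44) (kb xb23 yb5 zb17) (kb xb29 yb37 zb37) (kb xb24 yb23 zb61) (kb xb31 yb36 zb46) (kb xb20 yb49 zb46) (kb xb20 yb49 zb47) (kb xb23 yb9 zb49) (kb xb31 yb36 zb40) (kb xb31 yb16 zb51) (kb xb20 yb49 zb45) (kb xb24 yb35 zb61) (kb xb24 yb15 zb44) (kb xb25 yb32 zb11) (kb xb25 yb54 zb8) (kb xb32 yb27 zb16) (kb xb29 yb27 zb22) (kb xb20 yb49 zb59) (kb xb20 yb49 zb60) (kb xb28 yb36 zb55) (kb xb20 yb53 zb39) (kb xb31 yb22 zb14) (kb xb25 yb12 zb25) (kb xb28 yb58 zb37) (kb xb30 yb54 zb40) (kb xb28 yb22 zb27)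 (kb xb20 yb50 zb4) (kb xb20 yb50 zb7) (kb xb30 yb46 zb15) (kb xb25 yb13 zb54) (kb xb32 yb47 zb1) (kb xb21 yb48 zb34) (kb xb26 yb11 zb3) (kb xb26 yb4 zb60) (kb xb28 yb30 zb26) (kb xb25 yb24 zb52) (kb xb31 yb26 zb45) (kb xb24 yb12 zb57) (kb xb31 yb45 zb50) (kb xb30 yb53 zb22) (kb xb30 yb54 zb44) (kb xb22 yb56 zb17) (kb xb25 yb26 zb48)) (@D3.rec (fun _ => Pt) (kb xb32 yb2 zb7) (kb xb25 yb57 zb16) (kb xb25 yb57 zb11) (kb xb23 yb56 zb58) (kb xb24 yb53 zb21) (kb xb23 yb10 zb45) (kb xb31 yb45 zb47) (kb xb32 yb18 zb20) (kb xb28 yb14 zb0) (kb xb23 yb57 zb3) (kb xb26 yb23 zb47) (kb xb26 yb23 zb48) (kb xb25 yb26 zb45) (kb xb20 yb50 zb32) (kb xb32 yb35 zb25) (kb xb20 yb50 zb40) (kb xb20 yb50 zb35) (kb xb29 yb53 zb20) (kb xb22 yb20 zb60) (kb xb24 yb8 zb33) (kb xb22 yb32 zb6) (kb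 xb30 yb50 zb35) (kb xb24 yb24 zb7) (kb xb24 yb24 zb4) (kb xb31 yb1 zb47) (kb xb25 yb11 zb15) (kb xb21 yb20 zb25) (kb xb30 yb42 zb33) (kb xb21 yb38 zb58) (kb xb25 yb33 zb53) (kb xb29 yb44 zb60) (kb xb32 yb41 zb53) (kb xb24 yb9 zb4) (kb xb27 yb43 zb37) (kb xb21 yb20 zb33) (kb xb20 yb52 zb28) (kb xb29 yb54 zb59) (kb xb32 yb16 zb51) (kb xb32 yb37 zb16) (kb xb27 yb43 zb12) (kb xb32 yb35 zb9) (kb xb26 yb21 zb21) (kb xb23 yb16 zb55) (kb xb23 yb49 zb33) (kb xb24 yb39 zb49) (kb xb20 yb52 zb57) (kb xb30 yb39 zb28) (kb xb32 yb47 zb4) (kb xb30 yb9 zb10) (kb xb28 yb51 zb53) (kb xb32 yb42 zb44) (kb xb28 yb1 zb19) (kb xb27 yb44 zb14) (kb xb32 yb11 zb28) (kb xb20 yb53 zb23) (kb xb30 yb12 zb39) (kb xb31 yb21 zb17) (kb xb31 yb52 zb42) (kb xb24 yb25 zb56) (kb xb30 yb22 zb50) (kb xb20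 yb53 zb58) (kb xb24 yb33 zb42)) (@D3.rec (fun _ => Pt) (kb xb24 yb33 zb43) (kb xb29 yb37 zb44) (kb xb20 yb53 zb53) (kb xb20 yb53 zb54) (kb xb31 yb34 zb13) (kb xb29 yb41 zb17) (kb xb25 yb35 zb60) (kb xb25 yb35 zb56) (kb xb28 yb57 zb53) (kb xb20 yb53 zb56) (kb xb32 yb34 zb22) (kb xb29 yb40 zb18) (kb xb24 yb34 zb55) (kb xb31 yb48 zb10) (kb xb24 yb34 zb58) (kb xb24 yb34 zb59) (kb xb29 yb33 zb18) (kb xb29 yb33 zb19) (kb xb31 yb34 zb30) (kb xb20 yb54 zb6) (kb xb26 yb35 zb44) (kb xb32 yb23 zb27) (kb xb32 yb41 zb1) (kb xb26 yb52 zb27) (kb xb20 yb57 zb12) (kb xb26 yb52 zb21) (kb xb20 yb54 zb9) (kb xb27 yb14 zb3) (kb xb21 yb42 zb40) (kb xb25 yb21 zb56) (kb xb20 yb54 zb16) (kb xb26 yb54 zb33) (kb xb26 yb53 zb42) (kb xb32 yb17 zb53) (kb xb20 yb54 zb17) (kb xb24 yb19 zb6) (kb xb20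 yb54 zb18) (kb xb32 yb38 zb33) (kb xb25 yb41 zb37) (kb xb28 yb51 zb30) (kb xb20 yb54 zb25) (kb xb32 yb47 zb8) (kb xb20 yb54 zb30) (kb xb25 yb33 zb39) (kb xb32 yb47 zb9) (kb xb20 yb54 zb33) (kb xb24 yb50 zb19) (kb xb20 yb54 zb34) (kb xb24 yb42 zb59) (kb xb26 yb15 zb25) (kb xb20 yb54 zb47) (kb xb20 yb54 zb48) (kb xb20 yb54 zb49) (kb xb23 yb39 zb27) (kb xb20 yb54 zb55) (kb xb24 yb36 zb45) (kb xb27 yb39 zb10) (kb xb26 yb7 zb55) (kb xb30 yb39 zb10) (kb xb26 yb59 zb31) (kb xb28 yb44 zb27) (kb xb31 yb47 zb1)) (@D3.rec (fun _ => Pt) (kb xb20 yb55 zb5) (kb xb29 yb49 zb2) (kb xb29 yb49 zb6) (kb xb20 yb55 zb12) (kb xb22 yb0 zb3) (kb xb20 yb55 zb10) (kb xb32 yb21 zb42) (kb xb32 yb47 zb13) (kb xb20 yb55 zb13) (kb xb28 yb44 zb36) (kb xb20 yb57 zb29) (kb xb20 yb55 zb19) (kb xb30 yb16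 zb55) (kb xb29 yb46 zb44) (kb xb20 yb55 zb20) (kb xb29 yb44 zb18) (kb xb29 yb34 zb49) (kb xb31 yb34 zb29) (kb xb29 yb44 zb15) (kb xb20 yb55 zb23) (kb xb29 yb46 zb25) (kb xb27 yb0 zb10) (kb xb20 yb55 zb25) (kb xb25 yb7 zb25) (kb xb30 yb16 zb56) (kb xb20 yb55 zb27) (kb xb23 yb19 zb12) (kb xb27 yb0 zb12) (kb xb20 yb55 zb34) (kb xb28 yb33 zb19) (kb xb24 yb3 zb4) (kb xb20 yb58 zb8) (kb xb24 yb15 zb5) (kb xb20 yb55 zb37) (kb xb25 yb26 zb7) (kb xb28 yb20 zb34) (kb xb20 yb55 zb46) (kb xb20 yb55 zb42) (kb xb31 yb26 zb14) (kb xb32 yb47 zb15) (kb xb29 yb25 zb59) (kb xb29 yb26 zb32) (kb xb30 yb17 zb18) (kb xb26 yb34 zb49) (kb xb28 yb45 zb18) (kb xb20 yb56 zb16) (kb xb20 yb55 zb51) (kb xb25 yb6 zb20) (kb xb31 yb18 zb37) (kb xb20 yb55 zb55) (kb xb20 yb55 zb56) (kb xb31 yb47 zb56)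 (kb xb20 yb55 zb57) (kb xb22 yb4 zb12) (kb xb26 yb2 zb54) (kb xb27 yb44 zb48) (kb xb26 yb37 zb2) (kb xb25 yb53 zb19) (kb xb20 yb56 zb5) (kb xb32 yb27 zb13) (kb xb29 yb42 zb30) (kb xb31 yb17 zb51)) (@D3.rec (fun _ => Pt) (kb xb31 yb19 zb6) (kb xb21 yb16 zb50) (kb xb26 yb38 zb56) (kb xb26 yb58 zb48) (kb xb28 yb44 zb25) (kb xb20 yb56 zb13) (kb xb32 yb45 zb4) (kb xb31 yb51 zb4) (kb xb20 yb56 zb18) (kb xb29 yb33 zb6) (kb xb20 yb56 zb28) (kb xb20 yb56 zb29) (kb xb20 yb56 zb22) (kb xb31 yb37 zb3) (kb xb32 yb12 zb27) (kb xb32 yb13 zb20) (kb xb32 yb12 zb34) (kb xb32 yb37 zb56) (kb xb32 yb17 zb6) (kb xb20 yb56 zb35) (kb xb20 yb56 zb26) (kb xb29 yb5 zb49) (kb xb24 yb29 zb44) (kb xb32 yb12 zb3) (kb xb25 yb11 zb14) (kb xb22 yb1 zb22) (kb xb31 yb19 zb37) (kb xb26 yb42 zb19) (kb xb32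 yb43 zb1) (kb xb20 yb56 zb31) (kb xb28 yb24 zb12) (kb xb31 yb46 zb56) (kb xb20 yb56 zb34) (kb xb32 yb47 zb26) (kb xb28 yb40 zb32) (kb xb32 yb34 zb57) (kb xb20 yb56 zb38) (kb xb32 yb46 zb52) (kb xb32 yb4 zb2) (kb xb26 yb34 zb45) (kb xb20 yb56 zb40) (kb xb20 yb56 zb41) (kb xb32 yb47 zb28) (kb xb30 yb21 zb23) (kb xb27 yb12 zb40) (kb xb32 yb38 zb0) (kb xb32 yb38 zb1) (kb xb22 yb1 zb6) (kb xb32 yb37 zb28) (kb xb20 yb56 zb56) (kb xb22 yb1 zb11) (kb xb22 yb1 zb17) (kb xb32 yb37 zb57) (kb xb20 yb56 zb61) (kb xb32 yb47 zb32) (kb xb28 yb40 zb25) (kb xb22 yb4 zb23) (kb xb20 yb57 zb14) (kb xb32 yb19 zb1) (kb xb32 yb19 zb2) (kb xb31 yb26 zb10) (kb xb20 yb57 zb20)) (@D3.rec (fun _ => Pt) (kb xb25 yb20 zb49) (kb xb31 yb31 zb50) (kb xb32 yb45 zb18) (kb xb26 yb36 zb0) (kb xb32 yb10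 zb32) (kb xb32 yb47 zb38) (kb xb31 yb47 zb0) (kb xb29 yb21 zb31) (kb xb27 yb13 zb57) (kb xb32 yb47 zb41) (kb xb32 yb45 zb28) (kb xb20 yb57 zb18) (kb xb26 yb36 zb15) (kb xb28 yb55 zb56) (kb xb20 yb57 zb19) (kb xb28 yb22 zb9) (kb xb30 yb16 zb29) (kb xb29 yb33 zb61) (kb xb29 yb50 zb4) (kb xb20 yb57 zb24) (kb xb32 yb37 zb20) (kb xb31 yb55 zb27) (kb xb29 yb21 zb42) (kb xb26 yb39 zb37) (kb xb27 yb7 zb42) (kb xb29 yb44 zb20) (kb xb32 yb11 zb21) (kb xb32 yb47 zb47) (kb xb29 yb46 zb48) (kb xb26 yb40 zb9) (kb xb23 yb55 zb39) (kb xb27 yb16 zb34) (kb xb29 yb46 zb50) (kb xb24 yb1 zb9) (kb xb20 yb57 zb35) (kb xb25 yb55 zb37) (kb xb31 yb26 zb13) (kb xb29 yb41 zb7) (kb xb21 yb18 zb6) (kb xb20 yb57 zb45) (kb xb26 yb46 zb36) (kb xb32 yb45 zb21) (kb xb23 yb3 zb55) (kb xb27 yb14 zb35)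 (kb xb29 yb44 zb13) (kb xb20 yb57 zb55) (kb xb20 yb57 zb56) (kb xb32 yb44 zb8) (kb xb29 yb46 zb28) (kb xb32 yb21 zb1) (kb xb29 yb46 zb32) (kb xb22 yb0 zb9) (kb xb32 yb39 zb0) (kb xb32 yb47 zb51) (kb xb20 yb57 zb57) (kb xb26 yb39 zb50) (kb xb27 yb14 zb49) (kb xb20 yb58 zb4) (kb xb20 yb58 zb5) (kb xb20 yb58 zb2) (kb xb29 yb14 zb48) (kb xb29 yb34 zb32)) (@D3.rec (fun _ => Pt) (kb xb31 yb29 zb20) (kb xb27 yb56 zb42) (kb xb22 yb23 zb18) (kb xb31 yb24 zb43) (kb xb20 yb58 zb23) (kb xb29 yb26 zb35) (kb xb22 yb24 zb59) (kb xb30 yb27 zb23) (kb xb29 yb48 zb6) (kb xb21 yb8 zb38) (kb xb24 yb3 zb5) (kb xb26 yb37 zb35) (kb xb20 yb58 zb22) (kb xb32 yb47 zb58) (kb xb32 yb10 zb43) (kb xb32 yb14 zb22) (kb xb32 yb47 zb59) (kb xb32 yb47 zb49) (kb xb24 yb9 zb55) (kb xb28 yb29 zb59) (kb xb26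 yb34 zb48) (kb xb32 yb4 zb4) (kb xb27 yb35 zb55) (kb xb20 yb58 zb30) (kb xb20 yb58 zb31) (kb xb28 yb54 zb36) (kb xb32 yb47 zb40) (kb xb32 yb40 zb14) (kb xb20 yb58 zb32) (kb xb31 yb24 zb21) (kb xb20 yb58 zb37) (kb xb32 yb22 zb18) (kb xb32 yb14 zb29) (kb xb29 yb33 zb54) (kb xb27 yb0 zb6) (kb xb20 yb58 zb46) (kb xb32 yb30 zb58) (kb xb27 yb19 zb9) (kb xb20 yb58 zb56) (kb xb20 yb58 zb57) (kb xb23 yb59 zb16) (kb xb20 yb58 zb61) (kb xb20 yb59 zb3) (kb xb20 yb59 zb4) (kb xb28 yb58 zb51) (kb xb31 yb53 zb24) (kb xb27 yb21 zb28) (kb xb20 yb59 zb7) (kb xb26 yb16 zb2) (kb xb25 yb20 zb18) (kb xb30 yb47 zb32) (kb xb28 yb33 zb50) (kb xb25 yb36 zb16) (kb xb20 yb59 zb15) (kb xb20 yb59 zb13) (kb xb20 yb59 zb18) (kb xb31 yb53 zb26) (kb xb20 yb59 zb20) (kb xb31 yb27 zb45) (kb xb20 yb59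 zb22) (kb xb31 yb9 zb48) (kb xb29 yb15 zb0)) (@D3.rec (fun _ => Pt) (kb xb20 yb59 zb33) (kb xb31 yb42 zb42) (kb xb30 yb56 zb0) (kb xb22 yb33 zb0) (kb xb31 yb43 zb30) (kb xb23 yb59 zb35) (kb xb29 yb47 zb8) (kb xb25 yb22 zb50) (kb xb20 yb59 zb46) (kb xb20 yb59 zb56) (kb xb22 yb4 zb47) (kb xb32 yb47 zb61) (kb xb24 yb23 zb46) (kb xb28 yb52 zb48) (kb xb20 yb59 zb58) (kb xb32 yb19 zb29) (kb xb32 yb48 zb1) (kb xb32 yb21 zb29) (kb xb20 yb59 zb60) (kb xb27 yb8 zb57) (kb xb32 yb20 zb14) (kb xb32 yb33 zb20) (kb xb20 yb59 zb61) (kb xb28 yb16 zb41) (kb xb24 yb6 zb38) (kb xb29 yb15 zb38) (kb xb28 yb51 zb42) (kb xb21 yb0 zb2) (kb xb32 yb41 zb43) (kb xb32 yb48 zb5) (kb xb21 yb0 zb10) (kb xb24 yb3 zb61) (kb xb31 yb53 zb27) (kb xb28 yb22 zb41) (kb xb22 yb59 zb0) (kb xb22 yb9 zb20) (kb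 xb32 yb44 zb18) (kb xb21 yb0 zb27) (kb xb31 yb53 zb30) (kb xb21 yb0 zb29) (kb xb21 yb0 zb37) (kb xb21 yb0 zb38) (kb xb25 yb21 zb7) (kb xb31 yb10 zb25) (kb xb24 yb25 zb30) (kb xb22 yb23 zb44) (kb xb21 yb0 zb50) (kb xb30 yb37 zb56) (kb xb27 yb17 zb1) (kb xb31 yb18 zb55) (kb xb21 yb1 zb6) (kb xb22 yb40 zb33) (kb xb21 yb1 zb9) (kb xb26 yb2 zb57) (kb xb30 yb57 zb46) (kb xb21 yb1 zb11) (kb xb31 yb59 zb23) (kb xb23 yb14 zb57) (kb xb30 yb32 zb36) (kb xb25 yb44 zb8) (kb xb24 yb43 zb50) (kb xb27 yb16 zb10)) (@D3.rec (fun _ => Pt) (kb xb32 yb36 zb4) (kb xb21 yb1 zb26) (kb xb29 yb44 zb1) (kb xb31 yb34 zb7) (kb xb32 yb18 zb46) (kb xb28 yb48 zb39) (kb xb29 yb44 zb2) (kb xb26 yb52 zb19) (kb xb31 yb31 zb42) (kb xb28 yb2 zb41) (kb xb25 yb33 zb25) (kb xb31 yb48 zb52) (kb xb28 yb31 zb5)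 (kb xb29 yb16 zb36) (kb xb21 yb1 zb50) (kb xb32 yb43 zb39) (kb xb29 yb50 zb39) (kb xb24 yb7 zb17) (kb xb25 yb24 zb51) (kb xb32 yb38 zb12) (kb xb24 yb8 zb21) (kb xb32 yb48 zb9) (kb xb31 yb13 zb18) (kb xb21 yb1 zb59) (kb xb21 yb1 zb60) (kb xb29 yb34 zb45) (kb xb29 yb35 zb27) (kb xb29 yb37 zb10) (kb xb21 yb2 zb3) (kb xb21 yb2 zb4) (kb xb21 yb2 zb7) (kb xb32 yb48 zb10) (kb xb22 yb15 zb49) (kb xb22 yb44 zb42) (kb xb32 yb42 zb54) (kb xb21 yb2 zb22) (kb xb21 yb2 zb23) (kb xb23 yb39 zb28) (kb xb21 yb19 zb7) (kb xb21 yb2 zb29) (kb xb25 yb39 zb14) (kb xb32 yb48 zb11) (kb xb23 yb28 zb10) (kb xb27 yb18 zb27) (kb xb24 yb24 zb3) (kb xb24 yb23 zb47) (kb xb21 yb2 zb25) (kb xb30 yb10 zb14) (kb xb32 yb48 zb14) (kb xb30 yb4 zb51) (kb xb26 yb1 zb21) (kb xb21 yb2 zb27) (kb xb21 yb2 zb28)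 (kb xb23 yb23 zb28) (kb xb29 yb59 zb33) (kb xb32 yb32 zb19) (kb xb21 yb2 zb31) (kb xb21 yb2 zb34) (kb xb30 yb10 zb31) (kb xb26 yb8 zb40) (kb xb21 yb2 zb41) (kb xb22 yb30 zb43)) (@D3.rec (fun _ => Pt) (kb xb29 yb29 zb42) (kb xb21 yb2 zb55) (kb xb29 yb32 zb10) (kb xb22 yb35 zb38) (kb xb29 yb46 zb18) (kb xb21 yb3 zb0) (kb xb30 yb41 zb57) (kb xb29 yb0 zb19) (kb xb21 yb3 zb13) (kb xb21 yb3 zb14) (kb xb22 yb21 zb50) (kb xb21 yb3 zb23) (kb xb32 yb42 zb42) (kb xb27 yb17 zb21) (kb xb29 yb56 zb10) (kb xb22 yb2 zb10) (kb xb23 yb58 zb61) (kb xb27 yb12 zb6) (kb xb21 yb59 zb45) (kb xb28 yb25 zb31) (kb xb28 yb44 zb46) (kb xb24 yb22 zb42) (kb xb30 yb47 zb11) (kb xb27 yb16 zb41) (kb xb22 yb55 zb12) (kb xb24 yb31 zb14) (kb xb28 yb26 zb56) (kb xb22 yb13 zb4) (kb xb21 yb4 zb30) (kb xb24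 yb36 zb6) (kb xb27 yb48 zb50) (kb xb27 yb48 zb16) (kb xb21 yb7 zb36) (kb xb25 yb58 zb61) (kb xb25 yb59 zb0) (kb xb21 yb4 zb52) (kb xb25 yb42 zb23) (kb xb27 yb19 zb60) (kb xb23 yb11 zb61) (kb xb29 yb49 zb16) (kb xb29 yb51 zb1) (kb xb21 yb4 zb60) (kb xb21 yb4 zb61) (kb xb22 yb55 zb6) (kb xb21 yb5 zb3) (kb xb22 yb23 zb2) (kb xb29 yb59 zb1) (kb xb21 yb5 zb11) (kb xb32 yb38 zb11) (kb xb21 yb5 zb13) (kb xb25 yb19 zb44) (kb xb24 yb43 zb8) (kb xb23 yb2 zb30) (kb xb21 yb5 zb17) (kb xb22 yb16 zb28) (kb xb22 yb16 zb36) (kb xb21 yb5 zb23) (kb xb31 yb1 zb57) (kb xb30 yb1 zb47) (kb xb21 yb5 zb27) (kb xb31 yb35 zb6) (kb xb21 yb5 zb29)) (@D3.rec (fun _ => Pt) (kb xb31 yb59 zb59) (kb xb29 yb50 zb40) (kb xb30 yb18 zb44) (kb xb21 yb5 zb46) (kb xb31 yb53 zb54) (kb xb27 yb4 zb52) (kb xb29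 yb56 zb48) (kb xb27 yb31 zb36) (kb xb21 yb8 zb35) (kb xb30 yb3 zb37) (kb xb27 yb54 zb46) (kb xb21 yb5 zb61) (kb xb25 yb42 zb18) (kb xb32 yb42 zb58) (kb xb32 yb23 zb42) (kb xb30 yb41 zb51) (kb xb32 yb42 zb55) (kb xb23 yb27 zb57) (kb xb21 yb6 zb3) (kb xb31 yb55 zb10) (kb xb30 yb17 zb47) (kb xb21 yb6 zb10) (kb xb21 yb6 zb15) (kb xb21 yb6 zb12) (kb xb22 yb10 zb14) (kb xb27 yb23 zb28) (kb xb21 yb6 zb19) (kb xb27 yb56 zb59) (kb xb21 yb6 zb23) (kb xb23 yb35 zb10) (kb xb22 yb8 zb56) (kb xb22 yb8 zb41) (kb xb32 yb31 zb25) (kb xb21 yb6 zb34) (kb xb30 yb1 zb27) (kb xb22 yb9 zb32) (kb xb30 yb4 zb19) (kb xb21 yb6 zb40) (kb xb22 yb30 zb49) (kb xb31 yb2 zb12) (kb xb21 yb6 zb46) (kb xb32 yb32 zb48) (kb xb31 yb44 zb57) (kb xb21 yb6 zb47) (kb xb29 yb56 zb45) (kb xb22 yb40 zb26) (kb xb29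 yb14 zb9) (kb xb27 yb3 zb40) (kb xb21 yb22 zb27) (kb xb21 yb7 zb13) (kb xb29 yb23 zb26) (kb xb28 yb57 zb47) (kb xb21 yb7 zb17) (kb xb21 yb7 zb16) (kb xb30 yb5 zb15) (kb xb27 yb51 zb23) (kb xb31 yb44 zb33) (kb xb31 yb14 zb61) (kb xb21 yb28 zb59) (kb xb27 yb55 zb61) (kb xb31 yb32 zb34) (kb xb23 yb57 zb13)) (@D3.rec (fun _ => Pt) (kb xb21 yb8 zb17) (kb xb27 yb29 zb37) (kb xb28 yb11 zb36) (kb xb25 yb41 zb12) (kb xb21 yb8 zb31) (kb xb32 yb4 zb31) (kb xb29 yb58 zb45) (kb xb24 yb32 zb54) (kb xb21 yb8 zb39) (kb xb21 yb8 zb40) (kb xb22 yb10 zb46) (kb xb21 yb8 zb48) (kb xb21 yb8 zb51) (kb xb23 yb25 zb37) (kb xb28 yb40 zb59) (kb xb24 yb31 zb48) (kb xb30 yb1 zb3) (kb xb23 yb43 zb38) (kb xb26 yb0 zb46) (kb xb23 yb46 zb22) (kb xb21 yb9 zb5) (kb xb21 yb13 zb31) (kb xb22 yb14 zb44)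 (kb xb21 yb53 zb39) (kb xb23 yb6 zb36) (kb xb28 yb46 zb3) (kb xb24 yb16 zb61) (kb xb21 yb9 zb55) (kb xb27 yb15 zb31) (kb xb21 yb9 zb58) (kb xb26 yb39 zb54) (kb xb25 yb23 zb26) (kb xb29 yb16 zb59) (kb xb27 yb10 zb37) (kb xb31 yb6 zb33) (kb xb30 yb17 zb46) (kb xb23 yb43 zb33) (kb xb30 yb8 zb50) (kb xb28 yb10 zb54) (kb xb27 yb57 zb5) (kb xb21 yb10 zb22) (kb xb21 yb10 zb25) (kb xb22 yb58 zb49) (kb xb32 yb18 zb18) (kb xb21 yb10 zb27) (kb xb30 yb29 zb44) (kb xb30 yb37 zb27) (kb xb22 yb20 zb11) (kb xb28 yb8 zb12) (kb xb27 yb52 zb29) (kb xb22 yb54 zb13) (kb xb21 yb10 zb34) (kb xb26 yb21 zb20) (kb xb21 yb10 zb36) (kb xb21 yb10 zb38) (kb xb28 yb32 zb9) (kb xb21 yb10 zb44) (kb xb28 yb5 zb58) (kb xb23 yb4 zb56) (kb xb28 yb5 zb43) (kb xb28 yb4 zb45) (kb xb28 yb5 zb24)) (@D3.rec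 (fun _ => Pt) (kb xb22 yb32 zb2) (kb xb27 yb53 zb2) (kb xb32 yb29 zb50) (kb xb28 yb7 zb28) (kb xb32 yb29 zb55) (kb xb22 yb51 zb20) (kb xb21 yb10 zb48) (kb xb24 yb12 zb58) (kb xb21 yb10 zb54) (kb xb30 yb47 zb36) (kb xb21 yb10 zb55) (kb xb32 yb18 zb30) (kb xb21 yb10 zb57) (kb xb32 yb2 zb47) (kb xb30 yb54 zb19) (kb xb32 yb8 zb25) (kb xb24 yb39 zb25) (kb xb30 yb26 zb29) (kb xb27 yb0 zb1) (kb xb21 yb11 zb5) (kb xb29 yb42 zb17) (kb xb24 yb14 zb11) (kb xb21 yb11 zb2) (kb xb29 yb38 zb34) (kb xb22 yb55 zb29) (kb xb22 yb23 zb22) (kb xb28 yb34 zb52) (kb xb24 yb0 zb13) (kb xb21 yb11 zb29) (kb xb25 yb56 zb15) (kb xb24 yb4 zb50) (kb xb21 yb11 zb26) (kb xb30 yb27 zb25) (kb xb30 yb27 zb26) (kb xb28 yb44 zb59) (kb xb32 yb39 zb61) (kb xb21 yb11 zb32) (kb xb21 yb11 zb31) (kb xb32 yb40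 zb57) (kb xb28 yb35 zb13) (kb xb28 yb52 zb40) (kb xb31 yb30 zb29) (kb xb21 yb11 zb36) (kb xb28 yb27 zb51) (kb xb21 yb11 zb43) (kb xb32 yb29 zb32) (kb xb24 yb45 zb51) (kb xb24 yb47 zb51) (kb xb32 yb48 zb38) (kb xb21 yb11 zb52) (kb xb32 yb48 zb39) (kb xb32 yb10 zb0) (kb xb28 yb32 zb13) (kb xb30 yb24 zb26) (kb xb25 yb50 zb59) (kb xb24 yb57 zb30) (kb xb21 yb12 zb5) (kb xb32 yb27 zb40) (kb xb29 yb53 zb59) (kb xb29 yb53 zb58) (kb xb32 yb9 zb15) (kb xb24 yb13 zb28)) (@D3.rec (fun _ => Pt) (kb xb26 yb19 zb46) (kb xb21 yb12 zb19) (kb xb29 yb23 zb41) (kb xb31 yb7 zb17) (kb xb21 yb37 zb58) (kb xb29 yb29 zb43) (kb xb21 yb12 zb34) (kb xb22 yb50 zb13) (kb xb32 yb25 zb46) (kb xb28 yb7 zb19) (kb xb28 yb9 zb25) (kb xb28 yb9 zb26) (kb xb27 yb52 zb32) (kb xb27 yb51 zb40) (kb xb27 yb34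 zb0) (kb xb25 yb2 zb48) (kb xb31 yb14 zb51) (kb xb32 yb2 zb39) (kb xb29 yb25 zb19) (kb xb30 yb59 zb52) (kb xb26 yb19 zb54) (kb xb32 yb31 zb46) (kb xb28 yb8 zb40) (kb xb27 yb50 zb16) (kb xb26 yb20 zb23) (kb xb26 yb17 zb24) (kb xb27 yb53 zb55) (kb xb27 yb10 zb39) (kb xb21 yb13 zb15) (kb xb28 yb19 zb1) (kb xb32 yb25 zb37) (kb xb21 yb13 zb22) (kb xb21 yb13 zb24) (kb xb27 yb48 zb61) (kb xb30 yb52 zb39) (kb xb21 yb13 zb27) (kb xb24 yb40 zb31) (kb xb26 yb53 zb8) (kb xb31 yb6 zb3) (kb xb21 yb57 zb1) (kb xb22 yb16 zb49) (kb xb21 yb13 zb40) (kb xb25 yb47 zb0) (kb xb25 yb48 zb6) (kb xb23 yb56 zb5) (kb xb30 yb26 zb19) (kb xb28 yb24 zb32) (kb xb24 yb8 zb16) (kb xb24 yb10 zb40) (kb xb31 yb23 zb34) (kb xb32 yb8 zb9) (kb xb27 yb16 zb42) (kb xb25 yb43 zb58) (kb xb30 yb26 zb18) (kb xb24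 yb38 zb59) (kb xb21 yb13 zb49) (kb xb32 yb37 zb6) (kb xb22 yb5 zb32) (kb xb21 yb14 zb19) (kb xb29 yb42 zb36) (kb xb23 yb53 zb28) (kb xb23 yb57 zb16)) (@D3.rec (fun _ => Pt) (kb xb22 yb12 zb31) (kb xb21 yb13 zb60) (kb xb32 yb48 zb44) (kb xb30 yb13 zb61) (kb xb21 yb14 zb2) (kb xb27 yb13 zb10) (kb xb31 yb12 zb57) (kb xb21 yb14 zb9) (kb xb22 yb36 zb51) (kb xb31 yb10 zb34) (kb xb22 yb38 zb6) (kb xb21 yb14 zb21) (kb xb21 yb21 zb48) (kb xb24 yb40 zb7) (kb xb23 yb29 zb9) (kb xb30 yb21 zb12) (kb xb21 yb14 zb27) (kb xb21 yb14 zb30) (kb xb21 yb14 zb31) (kb xb28 yb19 zb6) (kb xb21 yb14 zb33) (kb xb28 yb11 zb54) (kb xb22 yb44 zb38) (kb xb29 yb26 zb49) (kb xb21 yb29 zb28) (kb xb30 yb4 zb41) (kb xb28 yb31 zb57) (kb xb23 yb15 zb41) (kb xb29 yb26 zb47) (kb xb22 yb38 zb0) (kb xb21 yb14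 zb54) (kb xb21 yb14 zb57) (kb xb22 yb54 zb46) (kb xb21 yb15 zb5) (kb xb26 yb55 zb36) (kb xb21 yb15 zb17) (kb xb32 yb8 zb4) (kb xb26 yb18 zb35) (kb xb27 yb39 zb22) (kb xb23 yb33 zb43) (kb xb31 yb7 zb14) (kb xb28 yb0 zb49) (kb xb21 yb15 zb48) (kb xb32 yb46 zb43) (kb xb27 yb16 zb14) (kb xb23 yb57 zb33) (kb xb21 yb15 zb52) (kb xb31 yb19 zb20) (kb xb32 yb34 zb0) (kb xb27 yb54 zb20) (kb xb23 yb22 zb6) (kb xb31 yb34 zb15) (kb xb22 yb1 zb4) (kb xb29 yb37 zb52) (kb xb27 yb9 zb12) (kb xb22 yb0 zb43) (kb xb27 yb42 zb53) (kb xb21 yb16 zb16) (kb xb21 yb16 zb19) (kb xb27 yb23 zb29) (kb xb27 yb23 zb8) (kb xb27 yb1 zb44)) (@D3.rec (fun _ => Pt) (kb xb21 yb16 zb25) (kb xb23 yb52 zb46) (kb xb21 yb16 zb34) (kb xb26 yb3 zb7) (kb xb31 yb46 zb50) (kb xb21 yb31 zb18) (kb xb31 yb54 zb60) (kb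 xb21 yb16 zb39) (kb xb26 yb56 zb48) (kb xb22 yb4 zb4) (kb xb29 yb50 zb14) (kb xb32 yb47 zb19) (kb xb32 yb14 zb33) (kb xb21 yb58 zb6) (kb xb26 yb33 zb27) (kb xb32 yb10 zb48) (kb xb32 yb37 zb12) (kb xb29 yb0 zb8) (kb xb21 yb50 zb13) (kb xb21 yb16 zb58) (kb xb30 yb8 zb30) (kb xb28 yb49 zb46) (kb xb21 yb16 zb60) (kb xb32 yb35 zb34) (kb xb25 yb27 zb38) (kb xb25 yb33 zb3) (kb xb21 yb17 zb10) (kb xb32 yb18 zb58) (kb xb23 yb28 zb2) (kb xb23 yb41 zb20) (kb xb32 yb48 zb50) (kb xb21 yb17 zb11) (kb xb21 yb17 zb12) (kb xb27 yb17 zb55) (kb xb26 yb4 zb1) (kb xb31 yb56 zb16) (kb xb21 yb17 zb16) (kb xb21 yb17 zb17) (kb xb31 yb37 zb44) (kb xb27 yb18 zb0) (kb xb31 yb1 zb34) (kb xb29 yb16 zb20) (kb xb27 yb18 zb15) (kb xb27 yb48 zb23) (kb xb31 yb46 zb52) (kb xb29 yb51 zb44) (kb xb30 yb7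 zb61) (kb xb27 yb18 zb6) (kb xb29 yb51 zb6) (kb xb24 yb40 zb16) (kb xb21 yb17 zb32) (kb xb31 yb5 zb27) (kb xb31 yb49 zb3) (kb xb22 yb28 zb33) (kb xb25 yb27 zb2) (kb xb21 yb17 zb36) (kb xb31 yb56 zb51) (kb xb31 yb4 zb56) (kb xb28 yb40 zb60) (kb xb30 yb10 zb54) (kb xb30 yb41 zb56) (kb xb21 yb17 zb44)) (@D3.rec (fun _ => Pt) (kb xb27 yb18 zb35) (kb xb21 yb49 zb30) (kb xb21 yb17 zb40) (kb xb24 yb17 zb30) (kb xb23 yb39 zb50) (kb xb30 yb11 zb26) (kb xb31 yb6 zb12) (kb xb31 yb35 zb23) (kb xb25 yb13 zb40) (kb xb21 yb17 zb53) (kb xb28 yb30 zb36) (kb xb28 yb42 zb18) (kb xb27 yb17 zb57) (kb xb25 yb54 zb13) (kb xb25 yb54 zb29) (kb xb21 yb17 zb59) (kb xb25 yb59 zb3) (kb xb27 yb1 zb49) (kb xb25 yb42 zb48) (kb xb21 yb17 zb61) (kb xb21 yb18 zb2) (kb xb32 yb48 zb57) (kb xb32 yb23 zb32)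 (kb xb25 yb54 zb28) (kb xb25 yb35 zb4) (kb xb24 yb26 zb10) (kb xb21 yb18 zb8) (kb xb22 yb40 zb61) (kb xb30 yb51 zb47) (kb xb24 yb32 zb29) (kb xb21 yb31 zb31) (kb xb21 yb18 zb12) (kb xb21 yb18 zb13) (kb xb30 yb13 zb53) (kb xb30 yb13 zb54) (kb xb31 yb45 zb21) (kb xb25 yb2 zb39) (kb xb21 yb18 zb15) (kb xb32 yb6 zb32) (kb xb31 yb37 zb1) (kb xb27 yb1 zb40) (kb xb22 yb42 zb59) (kb xb24 yb42 zb10) (kb xb30 yb4 zb29) (kb xb25 yb37 zb19) (kb xb27 yb40 zb58) (kb xb32 yb49 zb1) (kb xb30 yb7 zb57) (kb xb26 yb6 zb35) (kb xb32 yb5 zb27) (kb xb31 yb57 zb34) (kb xb21 yb18 zb30) (kb xb32 yb4 zb36) (kb xb21 yb19 zb24) (kb xb30 yb52 zb20) (kb xb30 yb10 zb29) (kb xb31 yb4 zb59) (kb xb29 yb10 zb28) (kb xb27 yb29 zb18) (kb xb25 yb17 zb54) (kb xb21 yb18 zb51) (kb xb21 yb18 zb57)) (@D3.rec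 (fun _ => Pt) (kb xb30 yb13 zb1) (kb xb21 yb19 zb3) (kb xb32 yb43 zb18) (kb xb30 yb0 zb25) (kb xb31 yb5 zb24) (kb xb23 yb28 zb9) (kb xb23 yb24 zb32) (kb xb31 yb4 zb48) (kb xb29 yb58 zb38) (kb xb23 yb41 zb5) (kb xb30 yb50 zb6) (kb xb22 yb44 zb26) (kb xb30 yb3 zb1) (kb xb27 yb1 zb45) (kb xb30 yb36 zb54) (kb xb27 yb40 zb56) (kb xb31 yb10 zb31) (kb xb30 yb5 zb24) (kb xb21 yb19 zb20) (kb xb29 yb14 zb1) (kb xb21 yb39 zb38) (kb xb21 yb19 zb22) (kb xb32 yb32 zb47) (kb xb31 yb58 zb20) (kb xb31 yb57 zb13) (kb xb21 yb19 zb25) (kb xb23 yb31 zb16) (kb xb25 yb38 zb54) (kb xb21 yb34 zb36) (kb xb30 yb41 zb18) (kb xb31 yb57 zb45) (kb xb22 yb44 zb51) (kb xb21 yb19 zb29) (kb xb31 yb5 zb15) (kb xb31 yb2 zb15) (kb xb32 yb42 zb9) (kb xb28 yb36 zb47) (kb xb25 yb37 zb20) (kb xb29 yb58 zb8)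 (kb xb31 yb2 zb31) (kb xb21 yb19 zb47) (kb xb21 yb46 zb31) (kb xb21 yb19 zb50) (kb xb32 yb49 zb12) (kb xb32 yb49 zb11) (kb xb29 yb52 zb6) (kb xb24 yb30 zb43) (kb xb23 yb44 zb13) (kb xb30 yb14 zb40) (kb xb23 yb44 zb36) (kb xb22 yb45 zb59) (kb xb21 yb25 zb46) (kb xb25 yb38 zb16) (kb xb22 yb7 zb33) (kb xb29 yb38 zb59) (kb xb24 yb57 zb54) (kb xb23 yb56 zb40) (kb xb31 yb26 zb48) (kb xb32 yb40 zb11) (kb xb31 yb20 zb24) (kb xb21 yb48 zb2) (kb xb32 yb13 zb0)) (@D3.rec (fun _ => Pt) (kb xb31 yb52 zb57) (kb xb29 yb50 zb46) (kb xb31 yb5 zb38) (kb xb23 yb41 zb33) (kb xb29 yb5 zb6) (kb xb31 yb33 zb42) (kb xb22 yb5 zb45) (kb xb22 yb6 zb6) (kb xb32 yb21 zb39) (kb xb29 yb16 zb42) (kb xb25 yb33 zb40) (kb xb29 yb15 zb55) (kb xb21 yb21 zb24) (kb xb31 yb36 zb27) (kb xb26 yb46 zb48) (kb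 xb23 yb40 zb31) (kb xb21 yb21 zb30) (kb xb21 yb27 zb21) (kb xb21 yb21 zb32) (kb xb32 yb49 zb14) (kb xb23 yb27 zb59) (kb xb29 yb15 zb31) (kb xb26 yb4 zb48) (kb xb21 yb21 zb35) (kb xb30 yb31 zb50) (kb xb31 yb32 zb28) (kb xb21 yb21 zb40) (kb xb21 yb21 zb42) (kb xb31 yb4 zb57) (kb xb21 yb21 zb44) (kb xb25 yb42 zb17) (kb xb24 yb35 zb54) (kb xb21 yb27 zb15) (kb xb29 yb49 zb54) (kb xb21 yb21 zb56) (kb xb27 yb30 zb14) (kb xb31 yb58 zb8) (kb xb30 yb4 zb48) (kb xb30 yb42 zb6) (kb xb21 yb22 zb21) (kb xb29 yb16 zb61) (kb xb24 yb42 zb52) (kb xb27 yb27 zb24) (kb xb25 yb41 zb5) (kb xb25 yb40 zb54) (kb xb25 yb9 zb59) (kb xb31 yb48 zb35) (kb xb21 yb22 zb24) (kb xb26 yb54 zb58) (kb xb27 yb43 zb41) (kb xb21 yb22 zb26) (kb xb21 yb22 zb41) (kb xb27 yb30 zb24) (kb xb30 yb11 zb8) (kb xb21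 yb22 zb57) (kb xb31 yb38 zb23) (kb xb21 yb23 zb1) (kb xb21 yb58 zb41) (kb xb26 yb14 zb17) (kb xb31 yb38 zb19) (kb xb26 yb9 zb44) (kb xb26 yb45 zb61))
def f_b_30 : D2 → D3 → Pt := @D2.rec (fun _ => D3 → Pt) (@D3.rec (fun _ => Pt) (kb xb21 yb23 zb34) (kb xb32 yb49 zb17) (kb xb31 yb46 zb37) (kb xb31 yb51 zb21) (kb xb25 yb19 zb51) (kb xb26 yb41 zb9) (kb xb21 yb23 zb45) (kb xb31 yb41 zb0) (kb xb31 yb34 zb45) (kb xb28 yb58 zb42) (kb xb32 yb43 zb23) (kb xb31 yb49 zb51) (kb xb30 yb17 zb54) (kb xb25 yb25 zb44) (kb xb27 yb38 zb11) (kb xb24 yb50 zb24) (kb xb26 yb53 zb36) (kb xb21 yb48 zb11) (kb xb28 yb18 zb61) (kb xb21 yb24 zb19) (kb xb21 yb24 zb37) (kb xb27 yb4 zb33) (kb xb21 yb24 zb22) (kb xb23 yb28 zb31) (kb xb32 yb30 zb45) (kb xb29 yb58 zb3) (kb xb25 yb42 zb19) (kb xb21 yb24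 zb27) (kb xb32 yb3 zb12) (kb xb21 yb24 zb29) (kb xb28 yb42 zb53) (kb xb21 yb24 zb30) (kb xb30 yb7 zb46) (kb xb31 yb1 zb26) (kb xb21 yb24 zb35) (kb xb23 yb37 zb31) (kb xb21 yb24 zb38) (kb xb26 yb9 zb42) (kb xb31 yb58 zb42) (kb xb30 yb2 zb52) (kb xb27 yb4 zb31) (kb xb21 yb24 zb41) (kb xb31 yb4 zb41) (kb xb31 yb2 zb10) (kb xb32 yb28 zb15) (kb xb29 yb11 zb3) (kb xb31 yb49 zb36) (kb xb29 yb6 zb23) (kb xb21 yb24 zb54) (kb xb21 yb24 zb55) (kb xb21 yb24 zb52) (kb xb27 yb47 zb13) (kb xb30 yb13 zb0) (kb xb25 yb1 zb22) (kb xb23 yb45 zb3) (kb xb22 yb12 zb22) (kb xb21 yb25 zb14) (kb xb31 yb42 zb26) (kb xb31 yb59 zb30) (kb xb32 yb49 zb22) (kb xb31 yb37 zb8) (kb xb32 yb6 zb22)) (@D3.rec (fun _ => Pt) (kb xb27 yb28 zb45) (kb xb27 yb28 zb46) (kb xb24 yb30 zb57) (kb xb29 yb52 zb16) (kb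 xb22 yb27 zb61) (kb xb21 yb25 zb29) (kb xb23 yb2 zb4) (kb xb21 yb25 zb32) (kb xb27 yb5 zb36) (kb xb31 yb46 zb36) (kb xb28 yb16 zb16) (kb xb32 yb7 zb16) (kb xb23 yb43 zb60) (kb xb21 yb25 zb60) (kb xb22 yb28 zb26) (kb xb31 yb55 zb51) (kb xb21 yb26 zb14) (kb xb27 yb31 zb51) (kb xb30 yb12 zb49) (kb xb21 yb26 zb17) (kb xb28 yb27 zb35) (kb xb27 yb47 zb14) (kb xb25 yb42 zb57) (kb xb26 yb4 zb9) (kb xb21 yb31 zb35) (kb xb21 yb26 zb59) (kb xb25 yb26 zb57) (kb xb29 yb51 zb34) (kb xb21 yb55 zb32) (kb xb21 yb27 zb13) (kb xb23 yb40 zb61) (kb xb23 yb19 zb37) (kb xb23 yb40 zb26) (kb xb21 yb27 zb24) (kb xb25 yb57 zb41) (kb xb21 yb27 zb22) (kb xb23 yb28 zb3) (kb xb21 yb27 zb23) (kb xb21 yb27 zb25) (kb xb25 yb6 zb28) (kb xb21 yb27 zb28) (kb xb32 yb49 zb25) (kb xb28 yb58 zb52) (kb xb21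 yb27 zb34) (kb xb21 yb27 zb32) (kb xb32 yb7 zb43) (kb xb25 yb5 zb44) (kb xb29 yb50 zb58) (kb xb21 yb27 zb36) (kb xb31 yb37 zb52) (kb xb26 yb16 zb48) (kb xb21 yb27 zb58) (kb xb29 yb17 zb27) (kb xb27 yb58 zb14) (kb xb31 yb45 zb4) (kb xb24 yb56 zb49) (kb xb21 yb27 zb49) (kb xb31 yb57 zb57) (kb xb27 yb46 zb47) (kb xb21 yb27 zb53) (kb xb32 yb3 zb10) (kb xb23 yb2 zb1)) (@D3.rec (fun _ => Pt) (kb xb21 yb28 zb3) (kb xb21 yb28 zb4) (kb xb23 yb43 zb11) (kb xb21 yb28 zb2) (kb xb31 yb2 zb29) (kb xb22 yb28 zb6) (kb xb26 yb46 zb2) (kb xb30 yb59 zb30) (kb xb31 yb59 zb2) (kb xb30 yb48 zb24) (kb xb30 yb57 zb52) (kb xb21 yb28 zb9) (kb xb23 yb16 zb60) (kb xb28 yb10 zb57) (kb xb21 yb28 zb10) (kb xb23 yb9 zb33) (kb xb22 yb30 zb13) (kb xb30 yb57 zb47) (kb xb21 yb28 zb11) (kb xb30 yb58 zb56)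 (kb xb30 yb59 zb31) (kb xb30 yb13 zb35) (kb xb25 yb37 zb53) (kb xb23 yb14 zb60) (kb xb21 yb28 zb20) (kb xb32 yb48 zb27) (kb xb28 yb41 zb15) (kb xb21 yb28 zb21) (kb xb28 yb1 zb49) (kb xb21 yb28 zb25) (kb xb31 yb6 zb25) (kb xb32 yb4 zb49) (kb xb27 yb24 zb33) (kb xb21 yb28 zb31) (kb xb32 yb3 zb41) (kb xb29 yb28 zb45) (kb xb21 yb28 zb54) (kb xb21 yb28 zb52) (kb xb30 yb18 zb2) (kb xb23 yb20 zb11) (kb xb23 yb18 zb46) (kb xb21 yb29 zb10) (kb xb23 yb38 zb49) (kb xb23 yb23 zb15) (kb xb21 yb29 zb15) (kb xb30 yb10 zb59) (kb xb21 yb29 zb17) (kb xb23 yb27 zb44) (kb xb31 yb56 zb14) (kb xb23 yb26 zb22) (kb xb24 yb32 zb48) (kb xb22 yb38 zb15) (kb xb30 yb0 zb39) (kb xb29 yb21 zb60) (kb xb23 yb43 zb17) (kb xb23 yb43 zb16) (kb xb21 yb29 zb33) (kb xb21 yb29 zb37) (kb xb22 yb45 zb1) (kb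 xb21 yb29 zb40) (kb xb30 yb43 zb6) (kb xb21 yb29 zb42)) (@D3.rec (fun _ => Pt) (kb xb21 yb29 zb43) (kb xb29 yb58 zb12) (kb xb23 yb23 zb6) (kb xb31 yb59 zb26) (kb xb24 yb10 zb17) (kb xb24 yb17 zb15) (kb xb27 yb57 zb20) (kb xb32 yb32 zb0) (kb xb25 yb45 zb18) (kb xb21 yb29 zb58) (kb xb32 yb49 zb37) (kb xb32 yb27 zb39) (kb xb21 yb30 zb0) (kb xb21 yb30 zb1) (kb xb23 yb43 zb6) (kb xb32 yb32 zb46) (kb xb26 yb31 zb32) (kb xb26 yb46 zb32) (kb xb25 yb19 zb56) (kb xb21 yb54 zb21) (kb xb21 yb30 zb20) (kb xb21 yb43 zb38) (kb xb21 yb30 zb48) (kb xb21 yb30 zb49) (kb xb24 yb17 zb58) (kb xb23 yb35 zb0) (kb xb21 yb31 zb2) (kb xb22 yb2 zb7) (kb xb26 yb5 zb38) (kb xb21 yb31 zb8) (kb xb26 yb16 zb60) (kb xb21 yb31 zb24) (kb xb21 yb31 zb30) (kb xb32 yb30 zb47) (kb xb32 yb48 zb58) (kb xb23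 yb30 zb9) (kb xb30 yb52 zb12) (kb xb29 yb51 zb9) (kb xb21 yb31 zb38) (kb xb27 yb58 zb41) (kb xb26 yb11 zb1) (kb xb22 yb40 zb14) (kb xb21 yb31 zb47) (kb xb31 yb37 zb23) (kb xb21 yb31 zb49) (kb xb29 yb23 zb28) (kb xb26 yb6 zb26) (kb xb23 yb22 zb13) (kb xb22 yb39 zb32) (kb xb29 yb24 zb40) (kb xb26 yb49 zb10) (kb xb21 yb32 zb3) (kb xb27 yb17 zb30) (kb xb27 yb17 zb19) (kb xb26 yb13 zb5) (kb xb25 yb45 zb31) (kb xb23 yb13 zb23) (kb xb29 yb13 zb34) (kb xb25 yb48 zb3) (kb xb29 yb30 zb34) (kb xb31 yb31 zb60) (kb xb22 yb57 zb40)) (@D3.rec (fun _ => Pt) (kb xb23 yb22 zb61) (kb xb24 yb43 zb2) (kb xb25 yb23 zb22) (kb xb30 yb42 zb1) (kb xb22 yb44 zb61) (kb xb31 yb53 zb6) (kb xb21 yb49 zb1) (kb xb26 yb41 zb55) (kb xb25 yb40 zb57) (kb xb21 yb33 zb14) (kb xb21 yb33 zb35) (kb xb25 yb46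 zb31) (kb xb21 yb33 zb38) (kb xb21 yb39 zb2) (kb xb27 yb56 zb11) (kb xb21 yb33 zb43) (kb xb26 yb14 zb50) (kb xb27 yb30 zb41) (kb xb21 yb33 zb56) (kb xb29 yb51 zb36) (kb xb21 yb33 zb59) (kb xb28 yb3 zb57) (kb xb28 yb3 zb54) (kb xb25 yb55 zb42) (kb xb27 yb28 zb6) (kb xb30 yb14 zb22) (kb xb26 yb2 zb37) (kb xb21 yb34 zb13) (kb xb21 yb34 zb16) (kb xb29 yb57 zb43) (kb xb27 yb17 zb45) (kb xb21 yb34 zb19) (kb xb31 yb18 zb26) (kb xb31 yb37 zb41) (kb xb32 yb3 zb16) (kb xb32 yb49 zb45) (kb xb22 yb44 zb35) (kb xb28 yb49 zb44) (kb xb21 yb40 zb20) (kb xb32 yb49 zb47) (kb xb32 yb49 zb48) (kb xb29 yb55 zb25) (kb xb31 yb1 zb29) (kb xb21 yb34 zb32) (kb xb31 yb1 zb13) (kb xb21 yb34 zb35) (kb xb32 yb23 zb41) (kb xb30 yb40 zb55) (kb xb29 yb59 zb37) (kb xb32 yb49 zb49) (kb xb21 yb34 zb39)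 (kb xb29 yb49 zb49) (kb xb31 yb9 zb45) (kb xb31 yb57 zb43) (kb xb21 yb34 zb40) (kb xb22 yb42 zb54) (kb xb24 yb34 zb51) (kb xb21 yb34 zb43) (kb xb26 yb5 zb56) (kb xb25 yb3 zb46) (kb xb29 yb8 zb51) (kb xb29 yb16 zb53)) (@D3.rec (fun _ => Pt) (kb xb32 yb31 zb61) (kb xb29 yb31 zb41) (kb xb32 yb49 zb52) (kb xb27 yb53 zb40) (kb xb21 yb35 zb26) (kb xb27 yb7 zb11) (kb xb28 yb51 zb54) (kb xb32 yb49 zb54) (kb xb31 yb13 zb45) (kb xb27 yb22 zb28) (kb xb22 yb9 zb53) (kb xb22 yb36 zb53) (kb xb26 yb55 zb24) (kb xb28 yb55 zb59) (kb xb24 yb43 zb11) (kb xb29 yb51 zb54) (kb xb27 yb48 zb35) (kb xb25 yb40 zb3) (kb xb21 yb38 zb51) (kb xb24 yb14 zb48) (kb xb26 yb55 zb25) (kb xb31 yb55 zb60) (kb xb28 yb49 zb18) (kb xb25 yb41 zb55) (kb xb29 yb58 zb17) (kb xb27 yb46 zb13) (kb xb27 yb23 zb18)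 (kb xb26 yb5 zb25) (kb xb21 yb37 zb15) (kb xb21 yb58 zb20) (kb xb23 yb38 zb9) (kb xb27 yb40 zb28) (kb xb21 yb37 zb55) (kb xb32 yb4 zb41) (kb xb27 yb40 zb48) (kb xb29 yb18 zb42) (kb xb26 yb51 zb28) (kb xb29 yb35 zb41) (kb xb32 yb20 zb25) (kb xb30 yb55 zb40) (kb xb28 yb24 zb31) (kb xb28 yb0 zb45) (kb xb21 yb38 zb34) (kb xb30 yb19 zb2) (kb xb32 yb47 zb0) (kb xb32 yb49 zb60) (kb xb21 yb38 zb35) (kb xb23 yb48 zb56) (kb xb28 yb16 zb37) (kb xb32 yb20 zb52) (kb xb21 yb38 zb37) (kb xb21 yb38 zb38) (kb xb29 yb9 zb25) (kb xb30 yb38 zb44) (kb xb21 yb38 zb39) (kb xb32 yb20 zb29) (kb xb22 yb41 zb33) (kb xb21 yb38 zb44) (kb xb28 yb16 zb45) (kb xb27 yb16 zb50) (kb xb28 yb38 zb57) (kb xb21 yb38 zb48)) (@D3.rec (fun _ => Pt) (kb xb27 yb27 zb22) (kb xb21 yb38 zb54) (kb xb24 yb8 zb29)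 (kb xb26 yb28 zb7) (kb xb24 yb42 zb4) (kb xb25 yb42 zb1) (kb xb21 yb39 zb1) (kb xb30 yb6 zb15) (kb xb25 yb35 zb14) (kb xb32 yb49 zb44) (kb xb31 yb10 zb2) (kb xb23 yb29 zb53) (kb xb24 yb49 zb13) (kb xb30 yb10 zb3) (kb xb21 yb39 zb5) (kb xb30 yb6 zb7) (kb xb21 yb39 zb9) (kb xb21 yb39 zb12) (kb xb30 yb8 zb43) (kb xb22 yb8 zb27) (kb xb21 yb39 zb15) (kb xb26 yb42 zb34) (kb xb31 yb46 zb26) (kb xb24 yb35 zb53) (kb xb25 yb9 zb60) (kb xb24 yb4 zb3) (kb xb21 yb39 zb21) (kb xb31 yb49 zb33) (kb xb31 yb25 zb59) (kb xb21 yb39 zb31) (kb xb28 yb42 zb15) (kb xb27 yb48 zb6) (kb xb21 yb39 zb34) (kb xb31 yb25 zb58) (kb xb24 yb38 zb53) (kb xb26 yb24 zb31) (kb xb29 yb0 zb25) (kb xb31 yb55 zb1) (kb xb31 yb58 zb24) (kb xb21 yb45 zb37) (kb xb25 yb13 zb26) (kb xb21 yb39 zb45) (kb xb26 yb6 zb53)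 (kb xb21 yb39 zb46) (kb xb30 yb46 zb61) (kb xb27 yb21 zb56) (kb xb32 yb20 zb2) (kb xb25 yb26 zb19) (kb xb31 yb56 zb7) (kb xb27 yb13 zb22) (kb xb21 yb39 zb51) (kb xb27 yb13 zb15) (kb xb29 yb25 zb45) (kb xb25 yb56 zb61) (kb xb31 yb40 zb3) (kb xb21 yb40 zb7) (kb xb21 yb40 zb8) (kb xb26 yb31 zb7) (kb xb29 yb19 zb16) (kb xb21 yb40 zb13) (kb xb23 yb57 zb4) (kb xb27 yb7 zb24)) (@D3.rec (fun _ => Pt) (kb xb30 yb55 zb10) (kb xb32 yb50 zb14) (kb xb30 yb21 zb26) (kb xb32 yb45 zb36) (kb xb24 yb34 zb10) (kb xb21 yb40 zb37) (kb xb30 yb24 zb44) (kb xb31 yb5 zb55) (kb xb21 yb40 zb41) (kb xb24 yb32 zb57) (kb xb21 yb40 zb46) (kb xb28 yb59 zb0) (kb xb24 yb43 zb3) (kb xb25 yb33 zb50) (kb xb22 yb43 zb5) (kb xb21 yb40 zb55) (kb xb32 yb2 zb54) (kb xb30 yb58 zb33) (kb xb30 yb58 zb35) (kb xb31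 yb6 zb26) (kb xb30 yb58 zb3) (kb xb23 yb30 zb51) (kb xb32 yb50 zb20) (kb xb32 yb50 zb21) (kb xb22 yb29 zb41) (kb xb21 yb41 zb2) (kb xb25 yb37 zb2) (kb xb22 yb35 zb22) (kb xb21 yb41 zb15) (kb xb32 yb40 zb6) (kb xb21 yb41 zb22) (kb xb32 yb50 zb22) (kb xb21 yb41 zb25) (kb xb23 yb31 zb49) (kb xb21 yb59 zb41) (kb xb23 yb47 zb21) (kb xb26 yb1 zb17) (kb xb21 yb41 zb51) (kb xb27 yb38 zb59) (kb xb26 yb5 zb28) (kb xb21 yb42 zb34) (kb xb30 yb12 zb37) (kb xb30 yb8 zb52) (kb xb21 yb46 zb46) (kb xb21 yb43 zb2) (kb xb32 yb4 zb42) (kb xb30 yb0 zb32) (kb xb21 yb43 zb9) (kb xb23 yb56 zb49) (kb xb25 yb8 zb55) (kb xb21 yb43 zb19) (kb xb32 yb50 zb25) (kb xb31 yb36 zb17) (kb xb21 yb48 zb41) (kb xb29 yb40 zb36) (kb xb27 yb3 zb54) (kb xb21 yb43 zb25) (kb xb29 yb57 zb47) (kb xb31 yb9 zb6) (kb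 xb32 yb15 zb61) (kb xb31 yb8 zb31) (kb xb29 yb56 zb46)) (@D3.rec (fun _ => Pt) (kb xb23 yb26 zb38) (kb xb31 yb18 zb48) (kb xb21 yb43 zb43) (kb xb32 yb50 zb26) (kb xb21 yb43 zb46) (kb xb32 yb0 zb38) (kb xb31 yb25 zb5) (kb xb21 yb50 zb35) (kb xb21 yb43 zb51) (kb xb32 yb42 zb5) (kb xb30 yb8 zb21) (kb xb27 yb4 zb11) (kb xb32 yb20 zb0) (kb xb21 yb44 zb12) (kb xb23 yb54 zb11) (kb xb23 yb45 zb40) (kb xb30 yb30 zb30) (kb xb29 yb23 zb18) (kb xb25 yb25 zb18) (kb xb21 yb47 zb35) (kb xb22 yb3 zb30) (kb xb30 yb8 zb10) (kb xb31 yb28 zb50) (kb xb21 yb45 zb14) (kb xb21 yb45 zb16) (kb xb23 yb58 zb54) (kb xb21 yb45 zb27) (kb xb22 yb21 zb45) (kb xb23 yb35 zb24) (kb xb27 yb20 zb61) (kb xb29 yb56 zb20) (kb xb27 yb21 zb0) (kb xb27 yb20 zb2) (kb xb21 yb47 zb53) (kb xb21 yb45 zb61) (kb xb21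 yb46 zb0) (kb xb21 yb46 zb3) (kb xb21 yb46 zb5) (kb xb21 yb46 zb7) (kb xb21 yb46 zb9) (kb xb21 yb46 zb10) (kb xb27 yb11 zb21) (kb xb21 yb50 zb12) (kb xb30 yb6 zb18) (kb xb26 yb16 zb47) (kb xb21 yb46 zb17) (kb xb21 yb46 zb22) (kb xb25 yb29 zb57) (kb xb22 yb2 zb5) (kb xb25 yb41 zb17) (kb xb29 yb52 zb37) (kb xb22 yb10 zb25) (kb xb30 yb7 zb42) (kb xb21 yb46 zb56) (kb xb21 yb47 zb3) (kb xb27 yb26 zb37) (kb xb21 yb46 zb61) (kb xb27 yb24 zb28) (kb xb22 yb6 zb19) (kb xb31 yb7 zb21) (kb xb27 yb4 zb5) (kb xb24 yb41 zb27)) (@D3.rec (fun _ => Pt) (kb xb26 yb14 zb29) (kb xb21 yb47 zb11) (kb xb28 yb42 zb60) (kb xb21 yb47 zb22) (kb xb21 yb59 zb1) (kb xb21 yb48 zb4) (kb xb32 yb42 zb41) (kb xb31 yb22 zb5) (kb xb28 yb47 zb47) (kb xb21 yb47 zb31) (kb xb29 yb42 zb48) (kb xb21 yb47 zb40)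 (kb xb28 yb33 zb15) (kb xb29 yb4 zb59) (kb xb21 yb47 zb51) (kb xb31 yb24 zb17) (kb xb26 yb7 zb61) (kb xb21 yb47 zb56) (kb xb26 yb5 zb2) (kb xb31 yb43 zb52) (kb xb21 yb47 zb59) (kb xb24 yb37 zb25) (kb xb31 yb29 zb29) (kb xb21 yb47 zb61) (kb xb25 yb31 zb21) (kb xb21 yb48 zb3) (kb xb25 yb32 zb7) (kb xb26 yb42 zb18) (kb xb21 yb48 zb8) (kb xb32 yb50 zb30) (kb xb23 yb30 zb10) (kb xb31 yb49 zb26) (kb xb21 yb48 zb16) (kb xb25 yb30 zb43) (kb xb25 yb48 zb17) (kb xb21 yb48 zb18) (kb xb31 yb26 zb19) (kb xb21 yb48 zb23) (kb xb30 yb29 zb8) (kb xb28 yb57 zb27) (kb xb23 yb1 zb35) (kb xb21 yb48 zb26) (kb xb29 yb3 zb39) (kb xb23 yb1 zb33) (kb xb31 yb20 zb56) (kb xb31 yb48 zb12) (kb xb26 yb44 zb37) (kb xb21 yb48 zb33) (kb xb27 yb42 zb31) (kb xb23 yb1 zb48) (kb xb27 yb18 zb45) (kb xb32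 yb50 zb34) (kb xb25 yb6 zb58) (kb xb21 yb50 zb26) (kb xb21 yb48 zb37) (kb xb30 yb37 zb4) (kb xb24 yb17 zb44) (kb xb31 yb54 zb10) (kb xb23 yb39 zb1) (kb xb21 yb48 zb40) (kb xb29 yb3 zb51) (kb xb31 yb3 zb60)) (@D3.rec (fun _ => Pt) (kb xb27 yb18 zb43) (kb xb21 yb48 zb45) (kb xb21 yb48 zb44) (kb xb30 yb6 zb13) (kb xb31 yb22 zb6) (kb xb31 yb4 zb52) (kb xb29 yb5 zb30) (kb xb22 yb10 zb8) (kb xb32 yb2 zb0) (kb xb23 yb13 zb59) (kb xb31 yb4 zb18) (kb xb30 yb41 zb41) (kb xb28 yb8 zb22) (kb xb31 yb26 zb43) (kb xb29 yb49 zb47) (kb xb26 yb1 zb34) (kb xb31 yb5 zb25) (kb xb30 yb40 zb24) (kb xb21 yb49 zb0) (kb xb27 yb58 zb13) (kb xb23 yb29 zb19) (kb xb31 yb5 zb17) (kb xb28 yb57 zb55) (kb xb24 yb43 zb45) (kb xb23 yb40 zb32) (kb xb23 yb41 zb17) (kb xb30 yb37 zb5) (kb xb21 yb49 zb5) (kb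 xb24 yb38 zb25) (kb xb29 yb57 zb55) (kb xb21 yb49 zb15) (kb xb29 yb49 zb58) (kb xb23 yb29 zb27) (kb xb31 yb36 zb18) (kb xb21 yb49 zb17) (kb xb22 yb37 zb49) (kb xb23 yb40 zb18) (kb xb21 yb49 zb19) (kb xb32 yb50 zb37) (kb xb31 yb57 zb28) (kb xb21 yb49 zb20) (kb xb31 yb54 zb23) (kb xb31 yb57 zb46) (kb xb32 yb4 zb50) (kb xb21 yb49 zb21) (kb xb25 yb57 zb52) (kb xb31 yb9 zb16) (kb xb21 yb49 zb31) (kb xb21 yb49 zb24) (kb xb30 yb42 zb4) (kb xb27 yb18 zb32) (kb xb30 yb42 zb3) (kb xb31 yb57 zb10) (kb xb23 yb28 zb11) (kb xb29 yb56 zb59) (kb xb31 yb46 zb48) (kb xb27 yb18 zb40) (kb xb24 yb34 zb53) (kb xb25 yb40 zb2) (kb xb30 yb2 zb45) (kb xb23 yb27 zb45) (kb xb23 yb53 zb51)) (@D3.rec (fun _ => Pt) (kb xb25 yb25 zb7) (kb xb24 yb1 zb60) (kb xb24 yb54 zb57) (kb xb27 yb10 zb38) (kb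 xb31 yb32 zb19) (kb xb27 yb11 zb6) (kb xb26 yb58 zb25) (kb xb31 yb58 zb25) (kb xb29 yb59 zb53) (kb xb21 yb50 zb5) (kb xb21 yb50 zb9) (kb xb27 yb48 zb39) (kb xb29 yb6 zb49) (kb xb31 yb50 zb6) (kb xb25 yb6 zb37) (kb xb31 yb26 zb22) (kb xb26 yb5 zb0) (kb xb25 yb10 zb29) (kb xb31 yb56 zb15) (kb xb31 yb10 zb51) (kb xb21 yb50 zb30) (kb xb30 yb51 zb31) (kb xb25 yb3 zb48) (kb xb21 yb50 zb34) (kb xb31 yb46 zb4) (kb xb22 yb43 zb20) (kb xb29 yb57 zb5) (kb xb21 yb51 zb1) (kb xb24 yb33 zb1) (kb xb31 yb56 zb22) (kb xb22 yb10 zb51) (kb xb22 yb11 zb42) (kb xb22 yb20 zb10) (kb xb21 yb51 zb43) (kb xb25 yb51 zb31) (kb xb24 yb25 zb26) (kb xb21 yb52 zb17) (kb xb24 yb30 zb14) (kb xb21 yb52 zb28) (kb xb24 yb25 zb22) (kb xb21 yb52 zb29) (kb xb31 yb30 zb33) (kb xb32 yb40 zb25) (kb xb28 yb18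 zb33) (kb xb28 yb39 zb21) (kb xb27 yb11 zb41) (kb xb21 yb52 zb37) (kb xb31 yb18 zb2) (kb xb22 yb58 zb51) (kb xb21 yb52 zb39) (kb xb32 yb14 zb4) (kb xb22 yb25 zb30) (kb xb22 yb19 zb22) (kb xb28 yb39 zb11) (kb xb24 yb12 zb1) (kb xb24 yb21 zb37) (kb xb21 yb52 zb44) (kb xb30 yb25 zb26) (kb xb21 yb52 zb46) (kb xb28 yb15 zb9) (kb xb27 yb45 zb14) (kb xb30 yb52 zb2)) (@D3.rec (fun _ => Pt) (kb xb28 yb35 zb8) (kb xb31 yb30 zb38) (kb xb21 yb52 zb55) (kb xb31 yb31 zb34) (kb xb22 yb1 zb10) (kb xb28 yb38 zb19) (kb xb32 yb23 zb60) (kb xb31 yb21 zb43) (kb xb28 yb52 zb27) (kb xb21 yb53 zb16) (kb xb32 yb41 zb38) (kb xb28 yb19 zb31) (kb xb22 yb57 zb28) (kb xb32 yb8 zb8) (kb xb24 yb54 zb29) (kb xb32 yb9 zb48) (kb xb26 yb29 zb23) (kb xb27 yb46 zb55) (kb xb22 yb4 zb39) (kb xb26 yb51 zb56)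 (kb xb32 yb43 zb49) (kb xb29 yb12 zb57) (kb xb21 yb54 zb7) (kb xb32 yb41 zb26) (kb xb24 yb10 zb2) (kb xb21 yb54 zb10) (kb xb21 yb54 zb14) (kb xb32 yb50 zb42) (kb xb31 yb49 zb25) (kb xb24 yb58 zb23) (kb xb31 yb31 zb26) (kb xb27 yb58 zb44) (kb xb21 yb54 zb29) (kb xb22 yb42 zb27) (kb xb26 yb22 zb50) (kb xb30 yb18 zb17) (kb xb21 yb54 zb58) (kb xb30 yb7 zb41) (kb xb23 yb22 zb57) (kb xb29 yb42 zb55) (kb xb24 yb23 zb12) (kb xb28 yb37 zb44) (kb xb25 yb44 zb32) (kb xb27 yb23 zb41) (kb xb25 yb44 zb30) (kb xb29 yb39 zb20) (kb xb23 yb14 zb1) (kb xb30 yb47 zb3) (kb xb24 yb45 zb2) (kb xb30 yb1 zb18) (kb xb22 yb42 zb34) (kb xb22 yb45 zb14) (kb xb28 yb44 zb13) (kb xb22 yb29 zb48) (kb xb22 yb40 zb10) (kb xb21 yb55 zb30) (kb xb21 yb55 zb31) (kb xb32 yb31 zb1) (kb xb32 yb25 zb1) (kb xb29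 yb13 zb54) (kb xb21 yb55 zb42) (kb xb32 yb6 zb31)) (@D3.rec (fun _ => Pt) (kb xb30 yb0 zb52) (kb xb29 yb58 zb0) (kb xb21 yb55 zb47) (kb xb32 yb38 zb6) (kb xb32 yb28 zb19) (kb xb32 yb19 zb52) (kb xb21 yb55 zb51) (kb xb25 yb2 zb12) (kb xb32 yb4 zb59) (kb xb23 yb13 zb57) (kb xb27 yb38 zb37) (kb xb22 yb10 zb49) (kb xb31 yb12 zb60) (kb xb23 yb25 zb31) (kb xb31 yb2 zb13) (kb xb23 yb30 zb58) (kb xb30 yb32 zb51) (kb xb31 yb12 zb12) (kb xb28 yb12 zb27) (kb xb24 yb30 zb58) (kb xb24 yb30 zb59) (kb xb28 yb18 zb15) (kb xb27 yb22 zb4) (kb xb25 yb56 zb11) (kb xb26 yb0 zb60) (kb xb21 yb56 zb17) (kb xb21 yb56 zb22) (kb xb21 yb56 zb19) (kb xb24 yb10 zb37) (kb xb26 yb0 zb19) (kb xb23 yb45 zb13) (kb xb21 yb56 zb37) (kb xb27 yb57 zb34) (kb xb21 yb56 zb40) (kb xb21 yb56 zb39) (kb xb30 yb2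 zb21) (kb xb21 yb56 zb53) (kb xb30 yb40 zb41) (kb xb21 yb56 zb43) (kb xb22 yb10 zb18) (kb xb25 yb46 zb33) (kb xb32 yb28 zb17) (kb xb21 yb56 zb46) (kb xb21 yb56 zb47) (kb xb30 yb42 zb5) (kb xb30 yb13 zb48) (kb xb22 yb31 zb28) (kb xb31 yb9 zb59) (kb xb30 yb13 zb45) (kb xb23 yb21 zb47) (kb xb22 yb17 zb53) (kb xb21 yb56 zb54) (kb xb21 yb56 zb52) (kb xb29 yb57 zb33) (kb xb29 yb57 zb34) (kb xb32 yb50 zb47) (kb xb32 yb49 zb4) (kb xb32 yb50 zb48) (kb xb31 yb5 zb0) (kb xb21 yb56 zb60) (kb xb30 yb59 zb35) (kb xb29 yb55 zb3)) (@D3.rec (fun _ => Pt) (kb xb26 yb29 zb21) (kb xb26 yb3 zb34) (kb xb23 yb38 zb20) (kb xb31 yb10 zb36) (kb xb30 yb20 zb12) (kb xb31 yb6 zb0) (kb xb32 yb6 zb17) (kb xb24 yb40 zb55) (kb xb21 yb57 zb26) (kb xb27 yb43 zb54) (kb xb26 yb58 zb34) (kb xb21 yb57 zb36)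 (kb xb29 yb5 zb20) (kb xb21 yb57 zb54) (kb xb25 yb48 zb24) (kb xb21 yb57 zb57) (kb xb21 yb58 zb0) (kb xb28 yb57 zb43) (kb xb25 yb6 zb52) (kb xb21 yb59 zb20) (kb xb26 yb48 zb15) (kb xb21 yb58 zb28) (kb xb30 yb4 zb25) (kb xb27 yb50 zb37) (kb xb31 yb14 zb32) (kb xb32 yb14 zb6) (kb xb21 yb59 zb0) (kb xb27 yb19 zb54) (kb xb28 yb59 zb50) (kb xb21 yb59 zb6) (kb xb21 yb59 zb9) (kb xb24 yb20 zb40) (kb xb25 yb56 zb32) (kb xb27 yb4 zb1) (kb xb31 yb32 zb18) (kb xb21 yb59 zb21) (kb xb21 yb59 zb25) (kb xb25 yb44 zb43) (kb xb26 yb39 zb42) (kb xb25 yb35 zb13) (kb xb29 yb58 zb48) (kb xb26 yb37 zb24) (kb xb31 yb28 zb16) (kb xb27 yb37 zb30) (kb xb28 yb16 zb32) (kb xb21 yb59 zb58) (kb xb29 yb32 zb5) (kb xb21 yb59 zb60) (kb xb32 yb45 zb33) (kb xb32 yb32 zb51) (kb xb24 yb5 zb52) (kb xb24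 yb25 zb23) (kb xb32 yb41 zb11) (kb xb32 yb47 zb12) (kb xb31 yb18 zb4) (kb xb22 yb0 zb6) (kb xb32 yb11 zb22) (kb xb26 yb38 zb6) (kb xb28 yb52 zb32) (kb xb28 yb54 zb9) (kb xb32 yb10 zb51) (kb xb30 yb28 zb0)) (@D3.rec (fun _ => Pt) (kb xb22 yb0 zb12) (kb xb32 yb13 zb51) (kb xb22 yb0 zb18) (kb xb32 yb30 zb2) (kb xb24 yb40 zb50) (kb xb31 yb30 zb55) (kb xb22 yb2 zb16) (kb xb22 yb0 zb31) (kb xb24 yb15 zb38) (kb xb31 yb22 zb20) (kb xb23 yb4 zb44) (kb xb22 yb0 zb36) (kb xb32 yb32 zb16) (kb xb22 yb0 zb42) (kb xb32 yb12 zb6) (kb xb32 yb12 zb7) (kb xb31 yb33 zb32) (kb xb30 yb26 zb3) (kb xb30 yb28 zb36) (kb xb32 yb12 zb5) (kb xb24 yb22 zb49) (kb xb22 yb46 zb54) (kb xb27 yb16 zb4) (kb xb22 yb0 zb47) (kb xb32 yb50 zb59) (kb xb22 yb0 zb48) (kb xb32 yb14 zb21) (kb xb27 yb0 zb42) (kb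 xb32 yb45 zb49) (kb xb22 yb0 zb51) (kb xb29 yb26 zb8) (kb xb32 yb44 zb30) (kb xb28 yb40 zb6) (kb xb30 yb31 zb24) (kb xb23 yb45 zb54) (kb xb22 yb0 zb59) (kb xb22 yb0 zb61) (kb xb28 yb54 zb55) (kb xb32 yb13 zb13) (kb xb32 yb11 zb50) (kb xb22 yb1 zb7) (kb xb28 yb35 zb18) (kb xb31 yb33 zb38) (kb xb31 yb29 zb45) (kb xb32 yb37 zb27) (kb xb32 yb50 zb60) (kb xb22 yb1 zb9) (kb xb32 yb22 zb55) (kb xb23 yb45 zb52) (kb xb31 yb21 zb1) (kb xb22 yb1 zb15) (kb xb30 yb34 zb40) (kb xb29 yb32 zb15) (kb xb22 yb1 zb25) (kb xb27 yb0 zb43) (kb xb32 yb13 zb37) (kb xb32 yb41 zb5) (kb xb32 yb39 zb1) (kb xb26 yb38 zb1) (kb xb31 yb14 zb3) (kb xb32 yb51 zb0) (kb xb30 yb22 zb13)) (@D3.rec (fun _ => Pt) (kb xb22 yb1 zb24) (kb xb28 yb52 zb44) (kb xb22 yb1 zb27) (kb xb22 yb1 zb28) (kb xb32 yb4 zb6)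 (kb xb26 yb34 zb32) (kb xb32 yb23 zb2) (kb xb22 yb1 zb30) (kb xb22 yb1 zb31) (kb xb27 yb0 zb19) (kb xb27 yb0 zb18) (kb xb27 yb14 zb10) (kb xb26 yb34 zb41) (kb xb22 yb1 zb32) (kb xb30 yb29 zb46) (kb xb26 yb52 zb16) (kb xb28 yb54 zb17) (kb xb26 yb34 zb37) (kb xb32 yb22 zb31) (kb xb26 yb52 zb18) (kb xb24 yb16 zb22) (kb xb22 yb1 zb38) (kb xb22 yb1 zb39) (kb xb26 yb35 zb47) (kb xb31 yb30 zb30) (kb xb22 yb1 zb40) (kb xb27 yb0 zb34) (kb xb26 yb40 zb24) (kb xb30 yb31 zb2) (kb xb29 yb46 zb16) (kb xb30 yb31 zb9) (kb xb22 yb1 zb46) (kb xb32 yb5 zb25) (kb xb29 yb10 zb2) (kb xb22 yb1 zb49) (kb xb26 yb41 zb34) (kb xb26 yb6 zb54) (kb xb22 yb3 zb21) (kb xb24 yb11 zb26) (kb xb26 yb34 zb17) (kb xb22 yb2 zb1) (kb xb22 yb2 zb2) (kb xb25 yb56 zb44) (kb xb25 yb11 zb54) (kb xb32 yb14 zb36)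 (kb xb25 yb29 zb22) (kb xb22 yb2 zb8) (kb xb27 yb11 zb23) (kb xb22 yb2 zb15) (kb xb25 yb9 zb41) (kb xb24 yb43 zb30) (kb xb32 yb24 zb23) (kb xb22 yb2 zb18) (kb xb32 yb0 zb2) (kb xb27 yb14 zb16) (kb xb29 yb44 zb12) (kb xb29 yb44 zb24) (kb xb31 yb56 zb1) (kb xb31 yb57 zb50) (kb xb25 yb40 zb14) (kb xb30 yb40 zb30) (kb xb23 yb38 zb38)) (@D3.rec (fun _ => Pt) (kb xb25 yb35 zb24) (kb xb25 yb7 zb0) (kb xb22 yb2 zb46) (kb xb26 yb0 zb25) (kb xb22 yb2 zb59) (kb xb31 yb4 zb35) (kb xb27 yb14 zb7) (kb xb26 yb57 zb34) (kb xb29 yb18 zb54) (kb xb22 yb3 zb18) (kb xb28 yb49 zb4) (kb xb24 yb5 zb12) (kb xb29 yb25 zb36) (kb xb24 yb39 zb53) (kb xb24 yb39 zb52) (kb xb32 yb11 zb43) (kb xb28 yb49 zb0) (kb xb24 yb23 zb31) (kb xb29 yb44 zb42) (kb xb22 yb3 zb58) (kb xb31 yb47 zb33) (kb xb24 yb27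 zb57) (kb xb27 yb18 zb57) (kb xb32 yb30 zb40) (kb xb28 yb37 zb13) (kb xb26 yb37 zb26) (kb xb29 yb8 zb17) (kb xb29 yb4 zb2) (kb xb27 yb10 zb28) (kb xb22 yb4 zb24) (kb xb27 yb10 zb56) (kb xb26 yb37 zb50) (kb xb23 yb10 zb53) (kb xb31 yb20 zb32) (kb xb22 yb40 zb53) (kb xb29 yb33 zb31) (kb xb27 yb8 zb38) (kb xb32 yb3 zb36) (kb xb22 yb4 zb28) (kb xb22 yb4 zb29) (kb xb30 yb59 zb27) (kb xb24 yb37 zb45) (kb xb28 yb11 zb47) (kb xb29 yb10 zb50) (kb xb22 yb4 zb38) (kb xb22 yb31 zb20) (kb xb29 yb52 zb35) (kb xb29 yb51 zb20) (kb xb30 yb21 zb6) (kb xb31 yb43 zb29) (kb xb27 yb22 zb56) (kb xb25 yb16 zb60) (kb xb22 yb5 zb0) (kb xb22 yb5 zb5) (kb xb30 yb0 zb12) (kb xb22 yb38 zb48) (kb xb22 yb5 zb13) (kb xb30 yb25 zb27) (kb xb32 yb37 zb4) (kb xb27 yb44 zb50) (kb xb26 yb7 zb44) (kb xb31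 yb58 zb17)) (@D3.rec (fun _ => Pt) (kb xb31 yb33 zb45) (kb xb31 yb2 zb42) (kb xb30 yb2 zb38) (kb xb24 yb37 zb17) (kb xb27 yb22 zb47) (kb xb31 yb34 zb38) (kb xb22 yb6 zb26) (kb xb22 yb5 zb40) (kb xb22 yb5 zb60) (kb xb22 yb5 zb44) (kb xb32 yb41 zb31) (kb xb23 yb42 zb55) (kb xb23 yb42 zb56) (kb xb29 yb20 zb8) (kb xb31 yb32 zb36) (kb xb31 yb11 zb49) (kb xb22 yb6 zb7) (kb xb30 yb12 zb35) (kb xb22 yb6 zb11) (kb xb22 yb6 zb14) (kb xb32 yb51 zb8) (kb xb29 yb34 zb60) (kb xb23 yb8 zb26) (kb xb22 yb50 zb42) (kb xb30 yb49 zb51) (kb xb30 yb18 zb56) (kb xb30 yb47 zb16) (kb xb22 yb6 zb39) (kb xb23 yb54 zb28) (kb xb30 yb43 zb28) (kb xb30 yb38 zb35) (kb xb22 yb6 zb45) (kb xb22 yb6 zb49) (kb xb32 yb51 zb14) (kb xb30 yb30 zb41) (kb xb27 yb41 zb55) (kb xb31 yb31 zb20) (kb xb22 yb7 zb15)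 (kb xb29 yb35 zb23) (kb xb28 yb26 zb45) (kb xb22 yb6 zb56) (kb xb31 yb27 zb23) (kb xb22 yb33 zb48) (kb xb32 yb44 zb16) (kb xb29 yb51 zb2) (kb xb31 yb31 zb32) (kb xb24 yb39 zb30) (kb xb27 yb15 zb53) (kb xb27 yb2 zb36) (kb xb22 yb7 zb3) (kb xb27 yb1 zb59) (kb xb30 yb55 zb20) (kb xb25 yb59 zb58) (kb xb28 yb37 zb11) (kb xb22 yb7 zb9) (kb xb30 yb30 zb42) (kb xb30 yb18 zb25) (kb xb22 yb25 zb55) (kb xb22 yb7 zb10) (kb xb31 yb36 zb5) (kb xb32 yb33 zb19) (kb xb22 yb7 zb12)) (@D3.rec (fun _ => Pt) (kb xb32 yb51 zb22) (kb xb22 yb7 zb13) (kb xb30 yb5 zb43) (kb xb32 yb39 zb46) (kb xb32 yb51 zb25) (kb xb22 yb7 zb14) (kb xb32 yb45 zb61) (kb xb32 yb33 zb14) (kb xb22 yb7 zb19) (kb xb27 yb8 zb58) (kb xb22 yb7 zb20) (kb xb32 yb39 zb44) (kb xb31 yb19 zb53) (kb xb23 yb47 zb12) (kb xb32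 yb51 zb12) (kb xb30 yb53 zb34) (kb xb28 yb23 zb23) (kb xb32 yb20 zb34) (kb xb22 yb7 zb30) (kb xb32 yb35 zb21) (kb xb25 yb20 zb2) (kb xb25 yb6 zb19) (kb xb31 yb27 zb38) (kb xb30 yb19 zb24) (kb xb30 yb19 zb23) (kb xb22 yb7 zb42) (kb xb24 yb5 zb20) (kb xb22 yb7 zb48) (kb xb22 yb7 zb52) (kb xb31 yb27 zb34) (kb xb22 yb8 zb5) (kb xb22 yb8 zb10) (kb xb25 yb45 zb45) (kb xb27 yb17 zb24) (kb xb25 yb47 zb4) (kb xb22 yb8 zb22) (kb xb28 yb44 zb61) (kb xb28 yb58 zb13) (kb xb30 yb32 zb44) (kb xb22 yb53 zb51) (kb xb28 yb3 zb28) (kb xb23 yb37 zb56) (kb xb22 yb9 zb2) (kb xb32 yb19 zb47) (kb xb25 yb38 zb7) (kb xb25 yb55 zb43) (kb xb22 yb9 zb9) (kb xb25 yb52 zb32) (kb xb22 yb9 zb12) (kb xb22 yb9 zb14) (kb xb31 yb56 zb23) (kb xb28 yb49 zb55) (kb xb22 yb22 zb52) (kb xb22 yb57 zb48) (kb xb28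 yb24 zb54) (kb xb25 yb53 zb60) (kb xb29 yb28 zb28) (kb xb25 yb26 zb38) (kb xb22 yb9 zb34) (kb xb24 yb16 zb50) (kb xb22 yb9 zb39) (kb xb32 yb1 zb16)) (@D3.rec (fun _ => Pt) (kb xb22 yb9 zb40) (kb xb25 yb27 zb54) (kb xb31 yb55 zb15) (kb xb22 yb57 zb23) (kb xb22 yb53 zb19) (kb xb25 yb56 zb9) (kb xb27 yb3 zb52) (kb xb23 yb59 zb0) (kb xb23 yb3 zb4) (kb xb32 yb5 zb3) (kb xb22 yb10 zb24) (kb xb29 yb9 zb53) (kb xb30 yb14 zb4) (kb xb25 yb46 zb32) (kb xb27 yb17 zb40) (kb xb22 yb10 zb28) (kb xb25 yb40 zb9) (kb xb23 yb22 zb32) (kb xb22 yb10 zb34) (kb xb22 yb10 zb39) (kb xb24 yb24 zb6) (kb xb22 yb10 zb61) (kb xb22 yb11 zb0) (kb xb24 yb5 zb53) (kb xb32 yb50 zb61) (kb xb29 yb13 zb36) (kb xb25 yb0 zb45) (kb xb27 yb55 zb58) (kb xb22 yb11 zb46) (kb xb27 yb56 zb3) (kb xb26 yb0 zb26) (kb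 xb22 yb57 zb13) (kb xb30 yb27 zb39) (kb xb23 yb34 zb6) (kb xb22 yb12 zb13) (kb xb31 yb57 zb39) (kb xb23 yb14 zb20) (kb xb28 yb41 zb8) (kb xb23 yb17 zb24) (kb xb23 yb16 zb5) (kb xb30 yb59 zb56) (kb xb32 yb49 zb24) (kb xb32 yb45 zb0) (kb xb22 yb33 zb12) (kb xb31 yb22 zb39) (kb xb22 yb12 zb32) (kb xb32 yb16 zb59) (kb xb28 yb25 zb5) (kb xb29 yb35 zb45) (kb xb22 yb25 zb56) (kb xb22 yb12 zb35) (kb xb22 yb13 zb33) (kb xb30 yb32 zb20) (kb xb32 yb46 zb23) (kb xb22 yb12 zb39) (kb xb23 yb48 zb37) (kb xb23 yb48 zb57) (kb xb22 yb13 zb56) (kb xb22 yb12 zb41) (kb xb31 yb15 zb45) (kb xb30 yb36 zb59) (kb xb22 yb12 zb43)) (@D3.rec (fun _ => Pt) (kb xb31 yb55 zb18) (kb xb22 yb12 zb47) (kb xb32 yb51 zb38) (kb xb25 yb48 zb2) (kb xb31 yb16 zb32) (kb xb26 yb45 zb5) (kb xb30 yb17 zb48) (kb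 xb22 yb12 zb58) (kb xb22 yb12 zb57) (kb xb32 yb42 zb39) (kb xb22 yb17 zb26) (kb xb28 yb55 zb11) (kb xb29 yb55 zb15) (kb xb22 yb13 zb3) (kb xb32 yb30 zb22) (kb xb24 yb47 zb33) (kb xb31 yb53 zb16) (kb xb22 yb13 zb7) (kb xb32 yb21 zb15) (kb xb32 yb39 zb9) (kb xb32 yb40 zb5) (kb xb22 yb13 zb12) (kb xb32 yb45 zb11) (kb xb29 yb45 zb43) (kb xb30 yb36 zb30) (kb xb32 yb51 zb43) (kb xb30 yb7 zb2) (kb xb25 yb21 zb6) (kb xb30 yb38 zb4) (kb xb22 yb13 zb18) (kb xb32 yb4 zb20) (kb xb32 yb44 zb58) (kb xb32 yb38 zb36) (kb xb32 yb47 zb36) (kb xb22 yb13 zb19) (kb xb31 yb40 zb11) (kb xb32 yb51 zb47) (kb xb29 yb8 zb5) (kb xb22 yb13 zb31) (kb xb22 yb46 zb40) (kb xb24 yb10 zb60) (kb xb22 yb13 zb24) (kb xb32 yb37 zb9) (kb xb22 yb13 zb25) (kb xb32 yb17 zb40) (kb xb27 yb8 zb30) (kb xb30 yb38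 zb48) (kb xb22 yb13 zb28) (kb xb23 yb58 zb43) (kb xb27 yb7 zb1) (kb xb32 yb51 zb51) (kb xb27 yb7 zb10) (kb xb27 yb6 zb50) (kb xb22 yb13 zb39) (kb xb32 yb51 zb52) (kb xb31 yb12 zb58) (kb xb31 yb51 zb32) (kb xb31 yb51 zb41) (kb xb22 yb13 zb41) (kb xb32 yb51 zb57) (kb xb31 yb29 zb57) (kb xb31 yb22 zb60)) (@D3.rec (fun _ => Pt) (kb xb22 yb13 zb45) (kb xb22 yb13 zb43) (kb xb30 yb38 zb24) (kb xb27 yb8 zb25) (kb xb31 yb31 zb23) (kb xb22 yb13 zb46) (kb xb30 yb28 zb9) (kb xb22 yb13 zb49) (kb xb32 yb52 zb3) (kb xb32 yb52 zb4) (kb xb32 yb51 zb15) (kb xb22 yb26 zb60) (kb xb22 yb13 zb52) (kb xb30 yb15 zb61) (kb xb32 yb52 zb6) (kb xb23 yb48 zb15) (kb xb22 yb27 zb51) (kb xb22 yb25 zb53) (kb xb32 yb52 zb7) (kb xb22 yb13 zb54) (kb xb32 yb33 zb24) (kb xb32 yb44 zb54) (kb xb30 yb46 zb43)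 (kb xb32 yb52 zb8) (kb xb22 yb13 zb55) (kb xb32 yb52 zb9) (kb xb31 yb19 zb19) (kb xb22 yb25 zb43) (kb xb31 yb14 zb4) (kb xb22 yb13 zb59) (kb xb22 yb13 zb60) (kb xb24 yb19 zb54) (kb xb27 yb2 zb13) (kb xb29 yb35 zb15) (kb xb22 yb14 zb6) (kb xb32 yb17 zb0) (kb xb30 yb39 zb23) (kb xb22 yb14 zb11) (kb xb22 yb14 zb10) (kb xb30 yb37 zb26) (kb xb30 yb32 zb23) (kb xb29 yb8 zb43) (kb xb22 yb14 zb13) (kb xb30 yb38 zb8) (kb xb32 yb4 zb18) (kb xb24 yb30 zb3) (kb xb32 yb17 zb33) (kb xb22 yb14 zb16) (kb xb28 yb45 zb29) (kb xb22 yb14 zb17) (kb xb29 yb42 zb59) (kb xb22 yb14 zb18) (kb xb29 yb8 zb14) (kb xb30 yb39 zb18) (kb xb24 yb5 zb45) (kb xb23 yb10 zb52) (kb xb22 yb14 zb24) (kb xb32 yb33 zb3) (kb xb31 yb15 zb4) (kb xb22 yb14 zb25) (kb xb32 yb21 zb19) (kb xb22 yb14 zb29)) (@D3.rec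 (fun _ => Pt) (kb xb30 yb49 zb42) (kb xb22 yb14 zb30) (kb xb24 yb24 zb37) (kb xb29 yb19 zb56) (kb xb26 yb53 zb2) (kb xb23 yb20 zb30) (kb xb22 yb14 zb38) (kb xb27 yb55 zb24) (kb xb28 yb20 zb0) (kb xb31 yb13 zb12) (kb xb22 yb36 zb13) (kb xb22 yb14 zb61) (kb xb22 yb15 zb6) (kb xb24 yb21 zb27) (kb xb27 yb28 zb23) (kb xb31 yb57 zb54) (kb xb26 yb16 zb33) (kb xb27 yb27 zb43) (kb xb32 yb6 zb51) (kb xb22 yb15 zb17) (kb xb22 yb15 zb30) (kb xb25 yb1 zb36) (kb xb22 yb15 zb35) (kb xb30 yb35 zb31) (kb xb28 yb8 zb3) (kb xb27 yb56 zb7) (kb xb27 yb40 zb10) (kb xb23 yb51 zb54) (kb xb32 yb34 zb46) (kb xb22 yb15 zb44) (kb xb22 yb15 zb43) (kb xb31 yb44 zb45) (kb xb27 yb18 zb25) (kb xb27 yb6 zb26) (kb xb24 yb1 zb57) (kb xb27 yb6 zb29) (kb xb29 yb35 zb53) (kb xb28 yb37 zb39) (kb xb22 yb44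 zb27) (kb xb28 yb55 zb24) (kb xb32 yb17 zb36) (kb xb24 yb6 zb60) (kb xb32 yb52 zb13) (kb xb22 yb16 zb3) (kb xb22 yb16 zb4) (kb xb31 yb15 zb48) (kb xb22 yb39 zb47) (kb xb31 yb13 zb28) (kb xb22 yb16 zb15) (kb xb31 yb18 zb46) (kb xb22 yb16 zb17) (kb xb22 yb16 zb19) (kb xb32 yb41 zb23) (kb xb27 yb2 zb7) (kb xb30 yb26 zb51) (kb xb29 yb21 zb19) (kb xb31 yb16 zb31) (kb xb23 yb9 zb54) (kb xb22 yb16 zb32) (kb xb28 yb52 zb11) (kb xb31 yb56 zb21) (kb xb27 yb24 zb16)) (@D3.rec (fun _ => Pt) (kb xb22 yb16 zb40) (kb xb28 yb35 zb41) (kb xb22 yb16 zb45) (kb xb22 yb16 zb44) (kb xb31 yb16 zb22) (kb xb28 yb34 zb44) (kb xb29 yb27 zb59) (kb xb30 yb33 zb50) (kb xb30 yb33 zb2) (kb xb31 yb23 zb35) (kb xb22 yb17 zb4) (kb xb22 yb49 zb12) (kb xb31 yb33 zb50) (kb xb22 yb17 zb8) (kb xb22 yb17 zb11)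 (kb xb31 yb14 zb35) (kb xb31 yb50 zb33) (kb xb22 yb17 zb17) (kb xb23 yb0 zb5) (kb xb31 yb44 zb48) (kb xb25 yb58 zb26) (kb xb24 yb56 zb35) (kb xb30 yb51 zb3) (kb xb31 yb44 zb6) (kb xb32 yb30 zb57) (kb xb22 yb17 zb21) (kb xb29 yb53 zb53) (kb xb22 yb17 zb24) (kb xb25 yb33 zb6) (kb xb22 yb17 zb25) (kb xb23 yb18 zb51) (kb xb22 yb17 zb31) (kb xb28 yb26 zb39) (kb xb28 yb22 zb56) (kb xb22 yb17 zb33) (kb xb31 yb54 zb1) (kb xb23 yb53 zb23) (kb xb29 yb31 zb12) (kb xb23 yb12 zb6) (kb xb28 yb1 zb3) (kb xb25 yb42 zb40) (kb xb31 yb58 zb21) (kb xb22 yb17 zb55) (kb xb22 yb17 zb60) (kb xb30 yb7 zb6) (kb xb32 yb26 zb32) (kb xb29 yb7 zb35) (kb xb27 yb50 zb3) (kb xb27 yb59 zb30) (kb xb22 yb18 zb29) (kb xb31 yb14 zb37) (kb xb22 yb18 zb11) (kb xb27 yb34 zb22) (kb xb27 yb55 zb33) (kb xb22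 yb18 zb16) (kb xb24 yb53 zb6) (kb xb32 yb28 zb48) (kb xb31 yb1 zb19) (kb xb27 yb31 zb22) (kb xb32 yb23 zb26) (kb xb23 yb34 zb18) (kb xb28 yb5 zb12)) (@D3.rec (fun _ => Pt) (kb xb23 yb43 zb50) (kb xb25 yb2 zb21) (kb xb28 yb3 zb31) (kb xb27 yb31 zb26) (kb xb32 yb7 zb49) (kb xb31 yb15 zb28) (kb xb22 yb18 zb55) (kb xb24 yb55 zb38) (kb xb22 yb35 zb20) (kb xb32 yb17 zb17) (kb xb32 yb21 zb32) (kb xb22 yb18 zb61) (kb xb22 yb18 zb59) (kb xb22 yb34 zb53) (kb xb25 yb3 zb36) (kb xb22 yb19 zb23) (kb xb22 yb19 zb26) (kb xb22 yb19 zb6) (kb xb22 yb19 zb7) (kb xb24 yb0 zb60) (kb xb29 yb40 zb14) (kb xb32 yb21 zb16) (kb xb32 yb52 zb19) (kb xb29 yb41 zb4) (kb xb22 yb19 zb11) (kb xb22 yb51 zb40) (kb xb30 yb11 zb57) (kb xb30 yb17 zb57) (kb xb22 yb19 zb17) (kb xb22 yb19 zb16) (kb xb32 yb50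 zb28) (kb xb22 yb19 zb18) (kb xb30 yb45 zb1) (kb xb32 yb45 zb37) (kb xb22 yb19 zb19) (kb xb22 yb26 zb13) (kb xb30 yb54 zb6) (kb xb28 yb38 zb20) (kb xb27 yb47 zb9) (kb xb22 yb24 zb31) (kb xb31 yb39 zb9) (kb xb31 yb24 zb54) (kb xb32 yb40 zb16) (kb xb22 yb24 zb50) (kb xb31 yb31 zb2) (kb xb22 yb25 zb11) (kb xb22 yb25 zb18) (kb xb22 yb19 zb32) (kb xb28 yb18 zb29) (kb xb32 yb52 zb21) (kb xb32 yb34 zb15) (kb xb22 yb25 zb27) (kb xb22 yb25 zb36) (kb xb28 yb48 zb61) (kb xb32 yb39 zb48) (kb xb22 yb25 zb40) (kb xb22 yb19 zb39) (kb xb30 yb29 zb58) (kb xb32 yb20 zb7) (kb xb22 yb19 zb40) (kb xb22 yb26 zb21) (kb xb31 yb19 zb23)) (@D3.rec (fun _ => Pt) (kb xb31 yb19 zb26) (kb xb22 yb19 zb47) (kb xb26 yb59 zb60) (kb xb30 yb15 zb17) (kb xb32 yb19 zb56) (kb xb22 yb27 zb37) (kb xb23 yb2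 zb18) (kb xb24 yb23 zb53) (kb xb32 yb41 zb24) (kb xb23 yb11 zb22) (kb xb28 yb17 zb50) (kb xb22 yb19 zb60) (kb xb24 yb1 zb48) (kb xb22 yb20 zb0) (kb xb23 yb54 zb37) (kb xb22 yb20 zb33) (kb xb22 yb20 zb34) (kb xb28 yb36 zb5) (kb xb29 yb54 zb53) (kb xb29 yb54 zb45) (kb xb23 yb6 zb7) (kb xb28 yb8 zb45) (kb xb22 yb20 zb15) (kb xb28 yb8 zb46) (kb xb28 yb8 zb47) (kb xb22 yb35 zb33) (kb xb22 yb20 zb26) (kb xb30 yb56 zb25) (kb xb25 yb11 zb36) (kb xb29 yb53 zb17) (kb xb22 yb20 zb30) (kb xb25 yb46 zb58) (kb xb31 yb15 zb58) (kb xb28 yb35 zb51) (kb xb29 yb21 zb39) (kb xb22 yb20 zb36) (kb xb23 yb0 zb32) (kb xb28 yb35 zb58) (kb xb29 yb31 zb58) (kb xb22 yb20 zb41) (kb xb25 yb4 zb49) (kb xb32 yb8 zb3) (kb xb22 yb20 zb48) (kb xb24 yb6 zb54) (kb xb23 yb57 zb52) (kb xb22 yb20 zb53) (kb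 xb22 yb47 zb44) (kb xb25 yb25 zb12) (kb xb25 yb31 zb43) (kb xb22 yb20 zb57) (kb xb24 yb8 zb52) (kb xb30 yb23 zb54) (kb xb22 yb21 zb2) (kb xb25 yb29 zb30) (kb xb25 yb25 zb5) (kb xb26 yb43 zb28) (kb xb22 yb21 zb4) (kb xb30 yb30 zb12) (kb xb31 yb55 zb61) (kb xb22 yb21 zb15) (kb xb32 yb36 zb39) (kb xb31 yb23 zb60)) (@D3.rec (fun _ => Pt) (kb xb29 yb26 zb5) (kb xb32 yb41 zb35) (kb xb22 yb21 zb31) (kb xb31 yb52 zb32) (kb xb25 yb47 zb56) (kb xb22 yb21 zb52) (kb xb32 yb11 zb2) (kb xb32 yb11 zb3) (kb xb22 yb22 zb2) (kb xb31 yb21 zb45) (kb xb29 yb27 zb27) (kb xb31 yb40 zb25) (kb xb24 yb49 zb51) (kb xb31 yb34 zb24) (kb xb24 yb49 zb54) (kb xb31 yb52 zb35) (kb xb26 yb38 zb26) (kb xb22 yb21 zb47) (kb xb32 yb32 zb38) (kb xb28 yb48 zb50) (kb xb29 yb1 zb15) (kb xb30 yb48 zb43) (kb xb22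 yb22 zb0) (kb xb29 yb47 zb7) (kb xb22 yb22 zb5) (kb xb29 yb53 zb32) (kb xb29 yb53 zb33) (kb xb29 yb2 zb54) (kb xb27 yb12 zb0) (kb xb22 yb22 zb11) (kb xb22 yb22 zb10) (kb xb22 yb47 zb58) (kb xb32 yb40 zb33) (kb xb22 yb22 zb32) (kb xb30 yb49 zb21) (kb xb22 yb53 zb6) (kb xb29 yb27 zb7) (kb xb22 yb22 zb47) (kb xb22 yb22 zb53) (kb xb30 yb20 zb32) (kb xb25 yb59 zb54) (kb xb22 yb22 zb57) (kb xb22 yb22 zb58) (kb xb22 yb46 zb47) (kb xb22 yb58 zb25) (kb xb22 yb59 zb2) (kb xb26 yb51 zb17) (kb xb22 yb23 zb7) (kb xb32 yb46 zb27) (kb xb28 yb29 zb48) (kb xb30 yb30 zb11) (kb xb28 yb47 zb38) (kb xb26 yb45 zb18) (kb xb32 yb34 zb35) (kb xb22 yb23 zb20) (kb xb24 yb31 zb17) (kb xb22 yb59 zb20) (kb xb22 yb23 zb27) (kb xb22 yb36 zb24) (kb xb32 yb9 zb46) (kb xb28 yb18 zb40) (kb xb25 yb31 zb57))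 (@D3.rec (fun _ => Pt) (kb xb30 yb14 zb61) (kb xb31 yb38 zb57) (kb xb32 yb39 zb49) (kb xb29 yb25 zb53) (kb xb31 yb19 zb34) (kb xb24 yb9 zb61) (kb xb23 yb45 zb48) (kb xb32 yb22 zb60) (kb xb22 yb23 zb51) (kb xb30 yb22 zb6) (kb xb32 yb52 zb31) (kb xb22 yb23 zb57) (kb xb22 yb23 zb60) (kb xb22 yb23 zb61) (kb xb27 yb16 zb27) (kb xb32 yb52 zb32) (kb xb32 yb41 zb3) (kb xb32 yb21 zb48) (kb xb26 yb36 zb2) (kb xb24 yb25 zb52) (kb xb30 yb28 zb60) (kb xb22 yb24 zb3) (kb xb32 yb45 zb40) (kb xb32 yb52 zb36) (kb xb32 yb20 zb8) (kb xb22 yb24 zb10) (kb xb24 yb49 zb21) (kb xb22 yb24 zb9) (kb xb32 yb39 zb14) (kb xb29 yb8 zb41) (kb xb32 yb51 zb44) (kb xb25 yb52 zb28) (kb xb32 yb43 zb60) (kb xb22 yb24 zb16) (kb xb30 yb48 zb61) (kb xb22 yb42 zb47) (kb xb30 yb15 zb18) (kb xb31 yb7 zb2) (kb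 xb22 yb24 zb18) (kb xb22 yb24 zb19) (kb xb32 yb11 zb59) (kb xb23 yb55 zb56) (kb xb24 yb30 zb10) (kb xb32 yb45 zb34) (kb xb23 yb45 zb58) (kb xb29 yb40 zb24) (kb xb22 yb24 zb23) (kb xb32 yb12 zb26) (kb xb32 yb16 zb33) (kb xb22 yb24 zb24) (kb xb32 yb43 zb2) (kb xb31 yb15 zb19) (kb xb28 yb38 zb60) (kb xb22 yb24 zb28) (kb xb29 yb33 zb28) (kb xb32 yb19 zb0) (kb xb22 yb24 zb30) (kb xb29 yb33 zb56) (kb xb31 yb33 zb2) (kb xb22 yb24 zb35) (kb xb30 yb28 zb20) (kb xb31 yb20 zb42)) (@D3.rec (fun _ => Pt) (kb xb22 yb24 zb37) (kb xb32 yb32 zb37) (kb xb22 yb24 zb38) (kb xb30 yb29 zb35) (kb xb32 yb44 zb32) (kb xb32 yb12 zb13) (kb xb32 yb52 zb43) (kb xb22 yb24 zb40) (kb xb30 yb9 zb38) (kb xb29 yb31 zb31) (kb xb26 yb39 zb30) (kb xb22 yb24 zb42) (kb xb25 yb8 zb19) (kb xb22 yb24 zb46) (kb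 xb31 yb31 zb16) (kb xb28 yb33 zb7) (kb xb22 yb24 zb49) (kb xb31 yb33 zb1) (kb xb31 yb24 zb10) (kb xb27 yb16 zb24) (kb xb24 yb25 zb0) (kb xb22 yb24 zb55) (kb xb32 yb15 zb23) (kb xb31 yb12 zb44) (kb xb32 yb52 zb49) (kb xb22 yb24 zb61) (kb xb22 yb25 zb2) (kb xb32 yb13 zb36) (kb xb22 yb25 zb7) (kb xb24 yb21 zb43) (kb xb22 yb25 zb9) (kb xb22 yb25 zb10) (kb xb22 yb25 zb13) (kb xb22 yb25 zb20) (kb xb22 yb25 zb21) (kb xb30 yb29 zb3) (kb xb24 yb25 zb51) (kb xb29 yb33 zb9) (kb xb32 yb47 zb60) (kb xb32 yb14 zb5) (kb xb22 yb25 zb25) (kb xb22 yb25 zb26) (kb xb28 yb16 zb13) (kb xb32 yb34 zb52) (kb xb29 yb52 zb45) (kb xb22 yb25 zb35) (kb xb30 yb16 zb14) (kb xb22 yb25 zb38) (kb xb22 yb25 zb39) (kb xb28 yb39 zb5) (kb xb28 yb18 zb10) (kb xb32 yb47 zb50) (kb xb28 yb17 zb38) (kb xb22 yb25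 zb42) (kb xb32 yb52 zb10) (kb xb32 yb45 zb15) (kb xb27 yb13 zb48) (kb xb26 yb59 zb49) (kb xb30 yb25 zb57) (kb xb32 yb13 zb14) (kb xb22 yb25 zb51) (kb xb27 yb11 zb18)) (@D3.rec (fun _ => Pt) (kb xb32 yb37 zb0) (kb xb24 yb8 zb34) (kb xb29 yb2 zb6) (kb xb22 yb25 zb61) (kb xb32 yb44 zb7) (kb xb26 yb31 zb41) (kb xb22 yb26 zb6) (kb xb22 yb26 zb7) (kb xb28 yb53 zb13) (kb xb26 yb56 zb29) (kb xb25 yb32 zb20) (kb xb30 yb27 zb50) (kb xb30 yb26 zb57) (kb xb31 yb19 zb36) (kb xb24 yb25 zb35) (kb xb28 yb40 zb8) (kb xb29 yb35 zb12) (kb xb22 yb26 zb23) (kb xb28 yb31 zb1) (kb xb22 yb26 zb26) (kb xb22 yb26 zb27) (kb xb30 yb48 zb49) (kb xb32 yb52 zb23) (kb xb27 yb6 zb54) (kb xb27 yb8 zb36) (kb xb32 yb42 zb50) (kb xb23 yb48 zb25) (kb xb29 yb28 zb58) (kb xb22 yb26 zb32) (kb xb22 yb26 zb36)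 (kb xb30 yb8 zb16) (kb xb29 yb2 zb5) (kb xb22 yb26 zb42) (kb xb32 yb52 zb55) (kb xb24 yb30 zb6) (kb xb22 yb26 zb47) (kb xb23 yb41 zb16) (kb xb24 yb23 zb30) (kb xb32 yb52 zb57) (kb xb32 yb46 zb18) (kb xb30 yb39 zb5) (kb xb30 yb18 zb34) (kb xb30 yb18 zb55) (kb xb22 yb53 zb11) (kb xb22 yb27 zb2) (kb xb22 yb27 zb0) (kb xb30 yb54 zb24) (kb xb22 yb27 zb1) (kb xb28 yb17 zb23) (kb xb22 yb27 zb11) (kb xb22 yb27 zb12) (kb xb31 yb19 zb30) (kb xb31 yb29 zb42) (kb xb32 yb52 zb24) (kb xb22 yb27 zb20) (kb xb29 yb33 zb57) (kb xb29 yb25 zb52) (kb xb29 yb31 zb10) (kb xb32 yb22 zb13) (kb xb28 yb18 zb9) (kb xb23 yb51 zb13) (kb xb22 yb27 zb25)) (@D3.rec (fun _ => Pt) (kb xb32 yb13 zb52) (kb xb32 yb14 zb15) (kb xb30 yb16 zb28) (kb xb22 yb27 zb28) (kb xb32 yb45 zb25) (kb xb25 yb8 zb18) (kb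 xb22 yb27 zb29) (kb xb27 yb35 zb58) (kb xb32 yb23 zb11) (kb xb30 yb16 zb30) (kb xb24 yb3 zb2) (kb xb26 yb30 zb51) (kb xb32 yb27 zb34) (kb xb28 yb19 zb4) (kb xb32 yb52 zb61) (kb xb22 yb27 zb34) (kb xb32 yb53 zb0) (kb xb22 yb27 zb35) (kb xb32 yb53 zb1) (kb xb31 yb12 zb52) (kb xb22 yb40 zb49) (kb xb30 yb42 zb55) (kb xb22 yb27 zb40) (kb xb31 yb19 zb31) (kb xb30 yb15 zb33) (kb xb26 yb57 zb1) (kb xb22 yb27 zb42) (kb xb22 yb27 zb44) (kb xb23 yb46 zb5) (kb xb22 yb27 zb49) (kb xb32 yb51 zb41) (kb xb32 yb53 zb2) (kb xb26 yb43 zb47) (kb xb22 yb35 zb4) (kb xb32 yb37 zb10) (kb xb31 yb44 zb53) (kb xb31 yb12 zb22) (kb xb23 yb33 zb28) (kb xb22 yb28 zb3) (kb xb22 yb28 zb1) (kb xb31 yb1 zb14) (kb xb30 yb46 zb46) (kb xb27 yb1 zb23) (kb xb30 yb57 zb31) (kb xb23 yb41 zb39) (kb xb22 yb28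 zb15) (kb xb32 yb16 zb17) (kb xb30 yb42 zb39) (kb xb30 yb40 zb54) (kb xb25 yb27 zb7) (kb xb29 yb59 zb24) (kb xb26 yb29 zb51) (kb xb24 yb15 zb25) (kb xb25 yb1 zb27) (kb xb28 yb9 zb16) (kb xb31 yb14 zb29) (kb xb28 yb3 zb56) (kb xb26 yb19 zb59) (kb xb22 yb29 zb20) (kb xb27 yb34 zb52) (kb xb27 yb32 zb13) (kb xb27 yb59 zb50)) (@D3.rec (fun _ => Pt) (kb xb24 yb12 zb37) (kb xb27 yb32 zb38) (kb xb30 yb59 zb50) (kb xb25 yb16 zb5) (kb xb28 yb28 zb16) (kb xb22 yb29 zb39) (kb xb23 yb17 zb50) (kb xb23 yb17 zb47) (kb xb24 yb31 zb43) (kb xb31 yb2 zb36) (kb xb22 yb29 zb45) (kb xb28 yb40 zb55) (kb xb28 yb13 zb17) (kb xb22 yb29 zb47) (kb xb26 yb53 zb50) (kb xb22 yb29 zb50) (kb xb32 yb53 zb6) (kb xb27 yb7 zb20) (kb xb22 yb29 zb59) (kb xb30 yb57 zb44) (kb xb30 yb20 zb52) (kb xb22 yb29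 zb54) (kb xb22 yb29 zb57) (kb xb30 yb22 zb40) (kb xb30 yb35 zb7) (kb xb32 yb22 zb34) (kb xb26 yb51 zb58) (kb xb22 yb37 zb25) (kb xb32 yb31 zb59) (kb xb22 yb30 zb0) (kb xb22 yb29 zb61) (kb xb28 yb15 zb48) (kb xb32 yb40 zb48) (kb xb27 yb16 zb57) (kb xb22 yb30 zb40) (kb xb31 yb0 zb61) (kb xb29 yb48 zb58) (kb xb30 yb58 zb25) (kb xb22 yb30 zb11) (kb xb32 yb32 zb52) (kb xb31 yb37 zb18) (kb xb32 yb10 zb26) (kb xb22 yb30 zb29) (kb xb22 yb30 zb31) (kb xb30 yb19 zb38) (kb xb23 yb43 zb35) (kb xb22 yb30 zb39) (kb xb31 yb59 zb0) (kb xb32 yb18 zb47) (kb xb28 yb43 zb55) (kb xb23 yb1 zb61) (kb xb30 yb13 zb16) (kb xb23 yb18 zb36) (kb xb24 yb58 zb56) (kb xb26 yb57 zb44) (kb xb22 yb30 zb53) (kb xb27 yb0 zb2) (kb xb24 yb28 zb20) (kb xb30 yb54 zb50) (kb xb25 yb53 zb48) (kb xb31 yb46 zb23)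 (kb xb23 yb54 zb25)) (@D3.rec (fun _ => Pt) (kb xb22 yb31 zb1) (kb xb28 yb17 zb16) (kb xb30 yb24 zb8) (kb xb25 yb35 zb28) (kb xb23 yb54 zb49) (kb xb23 yb54 zb50) (kb xb24 yb28 zb34) (kb xb27 yb15 zb5) (kb xb22 yb31 zb6) (kb xb23 yb30 zb17) (kb xb30 yb41 zb26) (kb xb32 yb53 zb11) (kb xb32 yb43 zb16) (kb xb23 yb29 zb43) (kb xb30 yb33 zb20) (kb xb31 yb5 zb56) (kb xb22 yb31 zb22) (kb xb32 yb49 zb39) (kb xb22 yb31 zb21) (kb xb32 yb48 zb60) (kb xb30 yb33 zb14) (kb xb30 yb51 zb59) (kb xb22 yb31 zb25) (kb xb30 yb40 zb60) (kb xb22 yb31 zb27) (kb xb32 yb53 zb13) (kb xb32 yb50 zb50) (kb xb23 yb14 zb28) (kb xb26 yb7 zb42) (kb xb22 yb31 zb32) (kb xb28 yb13 zb31) (kb xb22 yb31 zb33) (kb xb23 yb7 zb6) (kb xb32 yb23 zb40) (kb xb22 yb31 zb35) (kb xb23 yb40 zb11) (kb xb31 yb49 zb30)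 (kb xb26 yb8 zb18) (kb xb23 yb25 zb41) (kb xb25 yb15 zb53) (kb xb26 yb48 zb11) (kb xb22 yb31 zb56) (kb xb22 yb31 zb53) (kb xb23 yb33 zb6) (kb xb28 yb55 zb26) (kb xb23 yb29 zb3) (kb xb28 yb24 zb27) (kb xb23 yb56 zb12) (kb xb32 yb22 zb45) (kb xb31 yb1 zb7) (kb xb30 yb24 zb7) (kb xb31 yb48 zb47) (kb xb26 yb0 zb48) (kb xb31 yb2 zb34) (kb xb23 yb32 zb31) (kb xb22 yb59 zb33) (kb xb26 yb25 zb52) (kb xb22 yb32 zb28) (kb xb22 yb32 zb16) (kb xb22 yb32 zb17) (kb xb26 yb48 zb47) (kb xb26 yb53 zb7)) (@D3.rec (fun _ => Pt) (kb xb22 yb45 zb7) (kb xb29 yb8 zb37) (kb xb22 yb42 zb57) (kb xb26 yb28 zb41) (kb xb29 yb29 zb12) (kb xb23 yb37 zb11) (kb xb31 yb35 zb29) (kb xb24 yb20 zb16) (kb xb27 yb40 zb55) (kb xb23 yb24 zb46) (kb xb32 yb17 zb16) (kb xb22 yb32 zb56) (kb xb26 yb5 zb36) (kb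 xb30 yb39 zb8) (kb xb28 yb47 zb40) (kb xb22 yb41 zb18) (kb xb32 yb23 zb59) (kb xb23 yb52 zb40) (kb xb23 yb48 zb49) (kb xb23 yb52 zb42) (kb xb23 yb47 zb61) (kb xb31 yb51 zb48) (kb xb32 yb18 zb26) (kb xb22 yb33 zb16) (kb xb32 yb34 zb33) (kb xb30 yb46 zb42) (kb xb32 yb53 zb22) (kb xb22 yb33 zb18) (kb xb28 yb38 zb48) (kb xb22 yb33 zb22) (kb xb30 yb49 zb61) (kb xb28 yb45 zb30) (kb xb23 yb48 zb40) (kb xb22 yb33 zb21) (kb xb29 yb8 zb13) (kb xb23 yb33 zb31) (kb xb23 yb49 zb20) (kb xb28 yb44 zb41) (kb xb22 yb33 zb33) (kb xb28 yb52 zb25) (kb xb30 yb15 zb51) (kb xb22 yb33 zb39) (kb xb29 yb1 zb35) (kb xb31 yb58 zb55) (kb xb32 yb34 zb43) (kb xb22 yb33 zb42) (kb xb31 yb39 zb15) (kb xb32 yb29 zb26) (kb xb28 yb47 zb10) (kb xb27 yb44 zb23) (kb xb23 yb54 zb31) (kb xb23 yb54 zb32) (kb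 xb22 yb33 zb49) (kb xb32 yb1 zb35) (kb xb23 yb55 zb3) (kb xb23 yb55 zb4) (kb xb32 yb1 zb38) (kb xb32 yb31 zb31) (kb xb23 yb54 zb59) (kb xb29 yb1 zb34) (kb xb23 yb52 zb29) (kb xb22 yb34 zb5)) (@D3.rec (fun _ => Pt) (kb xb26 yb9 zb37) (kb xb30 yb52 zb24) (kb xb23 yb15 zb15) (kb xb30 yb52 zb42) (kb xb29 yb2 zb0) (kb xb23 yb48 zb55) (kb xb27 yb10 zb19) (kb xb30 yb32 zb24) (kb xb22 yb34 zb12) (kb xb27 yb7 zb29) (kb xb28 yb26 zb1) (kb xb26 yb32 zb19) (kb xb22 yb34 zb44) (kb xb23 yb23 zb57) (kb xb26 yb13 zb40) (kb xb22 yb34 zb31) (kb xb22 yb34 zb32) (kb xb22 yb34 zb36) (kb xb22 yb34 zb39) (kb xb31 yb8 zb20) (kb xb23 yb23 zb53) (kb xb22 yb34 zb45) (kb xb23 yb50 zb44) (kb xb28 yb6 zb6) (kb xb23 yb50 zb53) (kb xb32 yb53 zb28) (kb xb22 yb34 zb51) (kb xb32 yb31 zb18) (kb xb31 yb12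 zb36) (kb xb26 yb29 zb59) (kb xb22 yb34 zb59) (kb xb30 yb23 zb23) (kb xb24 yb58 zb51) (kb xb23 yb51 zb1) (kb xb27 yb46 zb11) (kb xb22 yb51 zb42) (kb xb28 yb46 zb34) (kb xb22 yb34 zb60) (kb xb28 yb3 zb35) (kb xb23 yb36 zb46) (kb xb22 yb35 zb5) (kb xb22 yb50 zb29) (kb xb25 yb3 zb33) (kb xb28 yb2 zb49) (kb xb28 yb17 zb20) (kb xb29 yb28 zb57) (kb xb32 yb52 zb20) (kb xb32 yb35 zb52) (kb xb23 yb36 zb51) (kb xb22 yb35 zb7) (kb xb24 yb55 zb6) (kb xb26 yb20 zb38) (kb xb27 yb31 zb7) (kb xb27 yb20 zb38) (kb xb29 yb11 zb52) (kb xb22 yb37 zb41) (kb xb30 yb50 zb25) (kb xb32 yb53 zb35) (kb xb32 yb17 zb30) (kb xb28 yb50 zb31) (kb xb23 yb24 zb36) (kb xb23 yb24 zb37)) (@D3.rec (fun _ => Pt) (kb xb22 yb43 zb4) (kb xb22 yb43 zb8) (kb xb31 yb27 zb52) (kb xb24 yb38 zb40) (kb xb29 yb9 zb35)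 (kb xb28 yb8 zb33) (kb xb28 yb5 zb44) (kb xb28 yb22 zb54) (kb xb24 yb0 zb36) (kb xb31 yb16 zb1) (kb xb24 yb13 zb36) (kb xb24 yb6 zb53) (kb xb28 yb19 zb2) (kb xb25 yb40 zb22) (kb xb32 yb17 zb10) (kb xb27 yb59 zb46) (kb xb29 yb6 zb40) (kb xb28 yb5 zb49) (kb xb22 yb35 zb56) (kb xb24 yb12 zb52) (kb xb26 yb58 zb11) (kb xb26 yb49 zb18) (kb xb23 yb51 zb61) (kb xb27 yb2 zb32) (kb xb22 yb36 zb0) (kb xb22 yb39 zb18) (kb xb31 yb22 zb34) (kb xb29 yb26 zb59) (kb xb31 yb30 zb8) (kb xb31 yb23 zb54) (kb xb30 yb21 zb24) (kb xb22 yb36 zb12) (kb xb29 yb12 zb13) (kb xb27 yb9 zb16) (kb xb28 yb39 zb10) (kb xb29 yb14 zb60) (kb xb31 yb37 zb6) (kb xb30 yb43 zb55) (kb xb22 yb36 zb35) (kb xb22 yb36 zb36) (kb xb32 yb2 zb18) (kb xb32 yb15 zb27) (kb xb32 yb22 zb10) (kb xb22 yb59 zb1) (kb xb22 yb36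 zb39) (kb xb31 yb55 zb7) (kb xb26 yb26 zb5) (kb xb29 yb18 zb40) (kb xb25 yb52 zb51) (kb xb22 yb38 zb33) (kb xb26 yb51 zb30) (kb xb28 yb16 zb22) (kb xb29 yb24 zb19) (kb xb25 yb52 zb54) (kb xb29 yb58 zb14) (kb xb29 yb39 zb39) (kb xb32 yb52 zb14) (kb xb22 yb37 zb29) (kb xb31 yb50 zb49) (kb xb30 yb20 zb60) (kb xb32 yb49 zb41) (kb xb24 yb40 zb41)) (@D3.rec (fun _ => Pt) (kb xb31 yb18 zb8) (kb xb29 yb35 zb17) (kb xb22 yb37 zb34) (kb xb32 yb42 zb46) (kb xb30 yb9 zb55) (kb xb30 yb10 zb26) (kb xb32 yb48 zb52) (kb xb31 yb25 zb47) (kb xb32 yb7 zb10) (kb xb25 yb40 zb34) (kb xb31 yb13 zb23) (kb xb32 yb53 zb42) (kb xb26 yb30 zb27) (kb xb23 yb12 zb13) (kb xb26 yb46 zb4) (kb xb27 yb40 zb50) (kb xb23 yb29 zb46) (kb xb23 yb14 zb52) (kb xb22 yb38 zb4) (kb xb23 yb24 zb26) (kb xb28 yb33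 zb41) (kb xb26 yb50 zb2) (kb xb27 yb14 zb21) (kb xb31 yb4 zb3) (kb xb31 yb2 zb49) (kb xb22 yb38 zb19) (kb xb30 yb22 zb39) (kb xb29 yb52 zb46) (kb xb32 yb53 zb43) (kb xb23 yb48 zb33) (kb xb31 yb20 zb9) (kb xb28 yb17 zb3) (kb xb23 yb34 zb31) (kb xb26 yb28 zb26) (kb xb23 yb38 zb57) (kb xb31 yb57 zb59) (kb xb24 yb59 zb52) (kb xb23 yb43 zb24) (kb xb22 yb39 zb10) (kb xb30 yb55 zb12) (kb xb23 yb10 zb55) (kb xb32 yb42 zb47) (kb xb29 yb39 zb28) (kb xb29 yb36 zb48) (kb xb30 yb50 zb37) (kb xb31 yb22 zb47) (kb xb23 yb48 zb17) (kb xb29 yb12 zb36) (kb xb22 yb39 zb22) (kb xb28 yb53 zb26) (kb xb32 yb53 zb46) (kb xb32 yb14 zb55) (kb xb31 yb30 zb0) (kb xb22 yb39 zb23) (kb xb28 yb16 zb26) (kb xb28 yb18 zb60) (kb xb29 yb48 zb47) (kb xb22 yb39 zb26) (kb xb32 yb24 zb7) (kb xb26 yb53 zb30)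 (kb xb22 yb39 zb34) (kb xb22 yb39 zb30)) (@D3.rec (fun _ => Pt) (kb xb30 yb38 zb12) (kb xb32 yb53 zb47) (kb xb22 yb39 zb31) (kb xb22 yb39 zb35) (kb xb30 yb21 zb28) (kb xb32 yb38 zb43) (kb xb31 yb23 zb13) (kb xb32 yb21 zb33) (kb xb30 yb22 zb43) (kb xb32 yb53 zb49) (kb xb28 yb38 zb39) (kb xb29 yb29 zb9) (kb xb30 yb38 zb0) (kb xb24 yb56 zb52) (kb xb31 yb13 zb30) (kb xb22 yb39 zb44) (kb xb32 yb34 zb9) (kb xb22 yb39 zb50) (kb xb27 yb56 zb0) (kb xb32 yb53 zb50) (kb xb26 yb27 zb46) (kb xb22 yb39 zb48) (kb xb30 yb55 zb25) (kb xb32 yb20 zb6) (kb xb30 yb22 zb2) (kb xb22 yb39 zb56) (kb xb23 yb51 zb31) (kb xb30 yb54 zb22) (kb xb22 yb39 zb54) (kb xb27 yb8 zb29) (kb xb32 yb53 zb52) (kb xb22 yb39 zb55) (kb xb29 yb8 zb46) (kb xb28 yb14 zb46) (kb xb22 yb39 zb60) (kb xb30 yb18 zb30)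 (kb xb22 yb39 zb61) (kb xb32 yb37 zb33) (kb xb22 yb40 zb0) (kb xb22 yb40 zb5) (kb xb22 yb40 zb6) (kb xb28 yb17 zb34) (kb xb30 yb39 zb22) (kb xb22 yb40 zb8) (kb xb30 yb5 zb53) (kb xb26 yb53 zb54) (kb xb28 yb43 zb18) (kb xb22 yb40 zb15) (kb xb30 yb21 zb46) (kb xb22 yb40 zb24) (kb xb26 yb57 zb26) (kb xb31 yb22 zb56) (kb xb22 yb42 zb25) (kb xb22 yb40 zb36) (kb xb26 yb22 zb38) (kb xb23 yb35 zb16) (kb xb29 yb8 zb55) (kb xb22 yb40 zb43) (kb xb23 yb40 zb57) (kb xb31 yb29 zb30) (kb xb32 yb33 zb21) (kb xb26 yb50 zb58)) (@D3.rec (fun _ => Pt) (kb xb22 yb40 zb46) (kb xb27 yb8 zb39) (kb xb32 yb1 zb8) (kb xb32 yb48 zb34) (kb xb25 yb51 zb43) (kb xb30 yb30 zb40) (kb xb22 yb40 zb52) (kb xb31 yb24 zb29) (kb xb30 yb34 zb13) (kb xb22 yb40 zb60) (kb xb29 yb43 zb58) (kb xb22 yb41 zb4) (kb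 xb28 yb35 zb25) (kb xb31 yb17 zb19) (kb xb24 yb1 zb32) (kb xb28 yb47 zb55) (kb xb24 yb23 zb45) (kb xb28 yb41 zb26) (kb xb30 yb22 zb53) (kb xb22 yb41 zb28) (kb xb22 yb41 zb27) (kb xb32 yb43 zb50) (kb xb30 yb38 zb42) (kb xb30 yb22 zb36) (kb xb29 yb8 zb57) (kb xb22 yb41 zb42) (kb xb22 yb41 zb37) (kb xb22 yb41 zb36) (kb xb29 yb42 zb46) (kb xb32 yb53 zb54) (kb xb22 yb41 zb38) (kb xb22 yb41 zb40) (kb xb32 yb53 zb55) (kb xb29 yb24 zb46) (kb xb22 yb41 zb43) (kb xb27 yb54 zb8) (kb xb26 yb17 zb27) (kb xb26 yb18 zb59) (kb xb32 yb45 zb16) (kb xb23 yb48 zb42) (kb xb32 yb36 zb31) (kb xb30 yb56 zb28) (kb xb27 yb13 zb11) (kb xb22 yb41 zb56) (kb xb28 yb33 zb59) (kb xb32 yb18 zb15) (kb xb32 yb40 zb8) (kb xb22 yb41 zb52) (kb xb32 yb35 zb60) (kb xb22 yb41 zb54) (kb xb32 yb53 zb56) (kb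 xb29 yb1 zb29) (kb xb29 yb18 zb18) (kb xb22 yb42 zb5) (kb xb22 yb42 zb11) (kb xb30 yb58 zb26) (kb xb25 yb16 zb29) (kb xb22 yb42 zb22) (kb xb28 yb26 zb14) (kb xb30 yb57 zb57) (kb xb23 yb23 zb55) (kb xb22 yb42 zb39)) (@D3.rec (fun _ => Pt) (kb xb27 yb1 zb7) (kb xb26 yb33 zb4) (kb xb27 yb6 zb0) (kb xb22 yb42 zb55) (kb xb23 yb29 zb57) (kb xb26 yb48 zb3) (kb xb29 yb12 zb3) (kb xb22 yb42 zb53) (kb xb31 yb57 zb44) (kb xb23 yb39 zb4) (kb xb32 yb53 zb58) (kb xb32 yb53 zb18) (kb xb22 yb42 zb58) (kb xb32 yb53 zb60) (kb xb32 yb53 zb59) (kb xb32 yb54 zb2) (kb xb32 yb49 zb0) (kb xb32 yb25 zb60) (kb xb29 yb15 zb53) (kb xb22 yb42 zb60) (kb xb30 yb45 zb28) (kb xb22 yb43 zb44) (kb xb22 yb43 zb1) (kb xb23 yb29 zb54) (kb xb30 yb10 zb17) (kb xb23 yb38 zb42) (kb xb32 yb4 zb30) (kb xb23 yb38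 zb39) (kb xb32 yb49 zb10) (kb xb22 yb43 zb15) (kb xb30 yb16 zb60) (kb xb32 yb16 zb2) (kb xb22 yb43 zb13) (kb xb32 yb26 zb23) (kb xb30 yb42 zb7) (kb xb22 yb43 zb18) (kb xb31 yb54 zb27) (kb xb32 yb54 zb0) (kb xb22 yb43 zb33) (kb xb29 yb11 zb28) (kb xb32 yb48 zb24) (kb xb30 yb13 zb37) (kb xb32 yb16 zb13) (kb xb22 yb43 zb22) (kb xb25 yb40 zb17) (kb xb27 yb18 zb3) (kb xb22 yb43 zb26) (kb xb31 yb36 zb61) (kb xb22 yb43 zb31) (kb xb32 yb54 zb9) (kb xb22 yb43 zb32) (kb xb32 yb26 zb22) (kb xb32 yb54 zb10) (kb xb30 yb41 zb52) (kb xb30 yb31 zb48) (kb xb30 yb4 zb47) (kb xb30 yb41 zb60) (kb xb32 yb26 zb59) (kb xb29 yb10 zb29) (kb xb32 yb54 zb11) (kb xb30 yb33 zb23) (kb xb28 yb42 zb56)) (@D3.rec (fun _ => Pt) (kb xb28 yb12 zb0) (kb xb24 yb42 zb35) (kb xb22 yb43 zb40) (kb xb32 yb42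 zb30) (kb xb31 yb58 zb49) (kb xb31 yb37 zb45) (kb xb22 yb43 zb52) (kb xb22 yb43 zb51) (kb xb31 yb8 zb29) (kb xb22 yb43 zb55) (kb xb31 yb10 zb19) (kb xb31 yb4 zb33) (kb xb31 yb9 zb60) (kb xb31 yb57 zb22) (kb xb32 yb16 zb12) (kb xb23 yb39 zb44) (kb xb22 yb44 zb12) (kb xb22 yb44 zb10) (kb xb29 yb58 zb29) (kb xb22 yb44 zb11) (kb xb31 yb5 zb3) (kb xb22 yb44 zb15) (kb xb23 yb26 zb51) (kb xb32 yb32 zb32) (kb xb32 yb50 zb36) (kb xb32 yb54 zb15) (kb xb30 yb33 zb10) (kb xb32 yb28 zb58) (kb xb31 yb24 zb2) (kb xb32 yb54 zb17) (kb xb22 yb44 zb18) (kb xb31 yb42 zb35) (kb xb31 yb5 zb6) (kb xb29 yb11 zb51) (kb xb23 yb59 zb40) (kb xb22 yb44 zb24) (kb xb23 yb28 zb19) (kb xb22 yb44 zb22) (kb xb22 yb44 zb23) (kb xb31 yb57 zb30) (kb xb24 yb23 zb50) (kb xb30 yb10 zb11) (kb xb22 yb44 zb30)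 (kb xb32 yb49 zb9) (kb xb23 yb41 zb13) (kb xb22 yb44 zb32) (kb xb31 yb11 zb25) (kb xb31 yb8 zb55) (kb xb23 yb39 zb32) (kb xb29 yb10 zb31) (kb xb29 yb13 zb50) (kb xb29 yb51 zb15) (kb xb30 yb40 zb53) (kb xb22 yb44 zb37) (kb xb32 yb26 zb54) (kb xb29 yb0 zb53) (kb xb29 yb56 zb60) (kb xb29 yb50 zb6) (kb xb23 yb41 zb26) (kb xb27 yb18 zb49) (kb xb30 yb40 zb56) (kb xb31 yb5 zb16)) (@D3.rec (fun _ => Pt) (kb xb22 yb44 zb49) (kb xb30 yb4 zb3) (kb xb22 yb44 zb48) (kb xb30 yb10 zb51) (kb xb30 yb10 zb49) (kb xb30 yb13 zb44) (kb xb29 yb59 zb38) (kb xb30 yb40 zb34) (kb xb22 yb44 zb54) (kb xb32 yb26 zb57) (kb xb31 yb11 zb50) (kb xb26 yb47 zb61) (kb xb24 yb42 zb27) (kb xb22 yb44 zb58) (kb xb32 yb42 zb57) (kb xb32 yb49 zb18) (kb xb22 yb45 zb5) (kb xb22 yb45 zb3) (kb xb28 yb11 zb50) (kb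 xb31 yb11 zb33) (kb xb29 yb6 zb31) (kb xb31 yb5 zb4) (kb xb22 yb45 zb22) (kb xb32 yb54 zb24) (kb xb23 yb16 zb27) (kb xb28 yb2 zb5) (kb xb22 yb45 zb30) (kb xb23 yb38 zb18) (kb xb23 yb35 zb35) (kb xb26 yb47 zb47) (kb xb29 yb11 zb40) (kb xb22 yb45 zb39) (kb xb22 yb45 zb43) (kb xb29 yb42 zb27) (kb xb30 yb59 zb25) (kb xb23 yb3 zb11) (kb xb28 yb24 zb40) (kb xb31 yb0 zb34) (kb xb30 yb59 zb33) (kb xb30 yb31 zb47) (kb xb22 yb46 zb2) (kb xb25 yb37 zb5) (kb xb31 yb59 zb28) (kb xb22 yb46 zb8) (kb xb31 yb5 zb59) (kb xb31 yb6 zb7) (kb xb25 yb39 zb21) (kb xb28 yb10 zb13) (kb xb22 yb46 zb11) (kb xb32 yb9 zb20) (kb xb29 yb29 zb51) (kb xb25 yb52 zb15) (kb xb24 yb28 zb16) (kb xb32 yb44 zb2) (kb xb24 yb30 zb20) (kb xb30 yb31 zb21) (kb xb26 yb27 zb49) (kb xb22 yb46 zb52) (kb xb29 yb21 zb22)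 (kb xb22 yb47 zb6) (kb xb31 yb30 zb31) (kb xb28 yb24 zb6)) (@D3.rec (fun _ => Pt) (kb xb30 yb48 zb52) (kb xb31 yb29 zb24) (kb xb28 yb23 zb51) (kb xb22 yb47 zb8) (kb xb29 yb12 zb18) (kb xb31 yb5 zb57) (kb xb30 yb2 zb60) (kb xb23 yb4 zb10) (kb xb26 yb26 zb59) (kb xb26 yb20 zb11) (kb xb31 yb25 zb23) (kb xb22 yb47 zb37) (kb xb22 yb47 zb42) (kb xb28 yb23 zb12) (kb xb24 yb31 zb19) (kb xb28 yb20 zb18) (kb xb22 yb59 zb35) (kb xb27 yb10 zb9) (kb xb31 yb45 zb41) (kb xb27 yb15 zb50) (kb xb27 yb30 zb19) (kb xb32 yb16 zb27) (kb xb30 yb49 zb3) (kb xb30 yb54 zb47) (kb xb32 yb39 zb25) (kb xb28 yb33 zb13) (kb xb25 yb55 zb56) (kb xb31 yb6 zb42) (kb xb30 yb18 zb29) (kb xb25 yb24 zb34) (kb xb31 yb6 zb8) (kb xb23 yb21 zb28) (kb xb22 yb48 zb18) (kb xb24 yb38 zb47) (kb xb32 yb49 zb30) (kb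 xb26 yb26 zb6) (kb xb26 yb24 zb27) (kb xb26 yb58 zb16) (kb xb31 yb33 zb40) (kb xb23 yb12 zb4) (kb xb27 yb15 zb52) (kb xb22 yb48 zb27) (kb xb22 yb48 zb28) (kb xb29 yb18 zb52) (kb xb22 yb48 zb31) (kb xb22 yb48 zb32) (kb xb32 yb30 zb27) (kb xb22 yb48 zb34) (kb xb31 yb10 zb40) (kb xb22 yb48 zb37) (kb xb28 yb55 zb42) (kb xb25 yb35 zb12) (kb xb22 yb48 zb44) (kb xb22 yb48 zb42) (kb xb25 yb35 zb26) (kb xb30 yb36 zb37) (kb xb22 yb48 zb53) (kb xb29 yb39 zb46) (kb xb24 yb39 zb36) (kb xb22 yb59 zb3) (kb xb23 yb4 zb29) (kb xb23 yb4 zb30)) (@D3.rec (fun _ => Pt) (kb xb31 yb23 zb2) (kb xb22 yb49 zb0) (kb xb22 yb58 zb20) (kb xb31 yb20 zb58) (kb xb22 yb59 zb37) (kb xb22 yb59 zb40) (kb xb22 yb49 zb18) (kb xb22 yb49 zb17) (kb xb22 yb49 zb19) (kb xb22 yb49 zb20) (kb xb23 yb18 zb56) (kb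 xb26 yb58 zb14) (kb xb26 yb49 zb51) (kb xb26 yb24 zb18) (kb xb22 yb49 zb23) (kb xb29 yb1 zb43) (kb xb26 yb44 zb61) (kb xb22 yb49 zb30) (kb xb31 yb12 zb49) (kb xb24 yb56 zb37) (kb xb22 yb49 zb34) (kb xb22 yb49 zb58) (kb xb22 yb49 zb39) (kb xb26 yb30 zb23) (kb xb28 yb4 zb20) (kb xb22 yb49 zb44) (kb xb22 yb49 zb43) (kb xb32 yb7 zb47) (kb xb32 yb25 zb29) (kb xb22 yb49 zb46) (kb xb32 yb29 zb35) (kb xb22 yb49 zb47) (kb xb28 yb6 zb55) (kb xb31 yb43 zb34) (kb xb27 yb34 zb53) (kb xb27 yb34 zb60) (kb xb32 yb26 zb14) (kb xb22 yb49 zb51) (kb xb31 yb44 zb18) (kb xb22 yb50 zb54) (kb xb26 yb13 zb37) (kb xb28 yb8 zb49) (kb xb22 yb50 zb3) (kb xb32 yb34 zb3) (kb xb22 yb50 zb14) (kb xb26 yb29 zb46) (kb xb22 yb50 zb15) (kb xb32 yb29 zb48) (kb xb32 yb54 zb30) (kb xb24 yb29 zb30) (kb xb28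 yb45 zb31) (kb xb28 yb45 zb46) (kb xb22 yb50 zb18) (kb xb32 yb54 zb31) (kb xb22 yb51 zb32) (kb xb32 yb38 zb18) (kb xb31 yb27 zb60) (kb xb22 yb50 zb24) (kb xb30 yb45 zb21) (kb xb32 yb45 zb59) (kb xb28 yb38 zb29) (kb xb28 yb5 zb6)) (@D3.rec (fun _ => Pt) (kb xb28 yb53 zb30) (kb xb30 yb25 zb32) (kb xb25 yb0 zb48) (kb xb27 yb8 zb2) (kb xb22 yb50 zb34) (kb xb32 yb40 zb7) (kb xb31 yb51 zb31) (kb xb22 yb50 zb40) (kb xb32 yb53 zb9) (kb xb32 yb46 zb60) (kb xb22 yb50 zb41) (kb xb28 yb40 zb4) (kb xb25 yb33 zb1) (kb xb29 yb32 zb30) (kb xb23 yb57 zb45) (kb xb22 yb50 zb52) (kb xb24 yb24 zb40) (kb xb22 yb50 zb53) (kb xb31 yb23 zb44) (kb xb22 yb50 zb55) (kb xb27 yb55 zb8) (kb xb30 yb44 zb58) (kb xb26 yb18 zb44) (kb xb22 yb50 zb57) (kb xb26 yb29 zb44) (kb xb29 yb25 zb6) (kb xb22 yb50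 zb58) (kb xb28 yb47 zb14) (kb xb30 yb40 zb20) (kb xb22 yb50 zb60) (kb xb24 yb48 zb17) (kb xb25 yb27 zb32) (kb xb24 yb12 zb50) (kb xb30 yb46 zb16) (kb xb24 yb6 zb49) (kb xb28 yb8 zb59) (kb xb22 yb56 zb35) (kb xb26 yb58 zb7) (kb xb31 yb0 zb17) (kb xb22 yb51 zb26) (kb xb28 yb29 zb53) (kb xb22 yb51 zb30) (kb xb29 yb38 zb46) (kb xb23 yb34 zb17) (kb xb23 yb49 zb52) (kb xb30 yb52 zb61) (kb xb27 yb45 zb59) (kb xb28 yb20 zb51) (kb xb30 yb54 zb20) (kb xb23 yb49 zb49) (kb xb26 yb13 zb9) (kb xb22 yb51 zb47) (kb xb24 yb14 zb7) (kb xb22 yb51 zb48) (kb xb22 yb51 zb51) (kb xb24 yb47 zb52) (kb xb22 yb51 zb53) (kb xb31 yb38 zb18) (kb xb28 yb3 zb17) (kb xb27 yb47 zb15) (kb xb27 yb46 zb15) (kb xb26 yb28 zb56)) (@D3.rec (fun _ => Pt) (kb xb23 yb22 zb1) (kb xb27 yb20 zb20) (kb xb26 yb20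 zb14) (kb xb22 yb52 zb11) (kb xb23 yb5 zb2) (kb xb30 yb50 zb57) (kb xb23 yb5 zb12) (kb xb29 yb18 zb39) (kb xb22 yb52 zb23) (kb xb28 yb54 zb6) (kb xb28 yb19 zb18) (kb xb22 yb52 zb26) (kb xb25 yb18 zb38) (kb xb31 yb2 zb5) (kb xb22 yb52 zb33) (kb xb29 yb41 zb47) (kb xb30 yb45 zb33) (kb xb24 yb37 zb4) (kb xb22 yb52 zb41) (kb xb25 yb11 zb46) (kb xb23 yb8 zb24) (kb xb27 yb14 zb17) (kb xb30 yb54 zb35) (kb xb22 yb52 zb54) (kb xb24 yb35 zb46) (kb xb22 yb52 zb59) (kb xb28 yb17 zb30) (kb xb31 yb59 zb24) (kb xb24 yb59 zb15) (kb xb28 yb22 zb36) (kb xb27 yb41 zb53) (kb xb23 yb55 zb11) (kb xb24 yb39 zb32) (kb xb30 yb50 zb32) (kb xb22 yb53 zb22) (kb xb31 yb22 zb41) (kb xb22 yb53 zb8) (kb xb32 yb54 zb34) (kb xb29 yb25 zb24) (kb xb22 yb53 zb9) (kb xb30 yb57 zb5) (kb xb31 yb43 zb26) (kb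 xb30 yb34 zb25) (kb xb30 yb22 zb22) (kb xb30 yb49 zb52) (kb xb22 yb53 zb14) (kb xb30 yb31 zb41) (kb xb27 yb58 zb33) (kb xb27 yb41 zb59) (kb xb25 yb35 zb61) (kb xb32 yb34 zb6) (kb xb30 yb50 zb61) (kb xb28 yb54 zb0) (kb xb22 yb53 zb35) (kb xb31 yb44 zb5) (kb xb23 yb8 zb25) (kb xb31 yb13 zb21) (kb xb31 yb1 zb37) (kb xb22 yb53 zb40) (kb xb32 yb24 zb58) (kb xb31 yb39 zb3) (kb xb30 yb6 zb44)) (@D3.rec (fun _ => Pt) (kb xb22 yb53 zb43) (kb xb32 yb31 zb6) (kb xb26 yb9 zb28) (kb xb30 yb12 zb47) (kb xb23 yb16 zb9) (kb xb22 yb53 zb45) (kb xb26 yb22 zb0) (kb xb32 yb38 zb14) (kb xb22 yb57 zb16) (kb xb22 yb53 zb57) (kb xb22 yb53 zb60) (kb xb29 yb50 zb22) (kb xb22 yb53 zb59) (kb xb27 yb18 zb38) (kb xb26 yb45 zb20) (kb xb22 yb54 zb0) (kb xb30 yb18 zb26) (kb xb25 yb35 zb32) (kb xb26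 yb38 zb31) (kb xb26 yb21 zb18) (kb xb25 yb28 zb27) (kb xb22 yb54 zb8) (kb xb22 yb54 zb10) (kb xb32 yb54 zb36) (kb xb30 yb49 zb53) (kb xb25 yb56 zb37) (kb xb28 yb29 zb11) (kb xb28 yb10 zb60) (kb xb31 yb35 zb41) (kb xb31 yb32 zb37) (kb xb24 yb17 zb37) (kb xb31 yb38 zb59) (kb xb29 yb47 zb50) (kb xb26 yb29 zb61) (kb xb23 yb37 zb10) (kb xb31 yb16 zb34) (kb xb29 yb53 zb9) (kb xb30 yb54 zb54) (kb xb24 yb13 zb2) (kb xb31 yb42 zb25) (kb xb28 yb23 zb37) (kb xb22 yb54 zb49) (kb xb22 yb54 zb56) (kb xb22 yb56 zb60) (kb xb22 yb55 zb1) (kb xb32 yb42 zb3) (kb xb22 yb55 zb5) (kb xb24 yb30 zb45) (kb xb31 yb31 zb29) (kb xb31 yb54 zb25) (kb xb24 yb41 zb46) (kb xb22 yb55 zb10) (kb xb22 yb55 zb11) (kb xb30 yb50 zb28) (kb xb32 yb1 zb51) (kb xb27 yb40 zb34) (kb xb31 yb54 zb22) (kb xb24 yb20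 zb15) (kb xb25 yb32 zb17) (kb xb23 yb5 zb18) (kb xb28 yb0 zb14) (kb xb27 yb41 zb39)) (@D3.rec (fun _ => Pt) (kb xb31 yb25 zb36) (kb xb29 yb20 zb47) (kb xb32 yb29 zb54) (kb xb26 yb31 zb35) (kb xb27 yb53 zb16) (kb xb22 yb55 zb43) (kb xb22 yb55 zb44) (kb xb24 yb13 zb9) (kb xb28 yb16 zb58) (kb xb29 yb32 zb27) (kb xb31 yb50 zb29) (kb xb24 yb8 zb22) (kb xb27 yb13 zb12) (kb xb29 yb28 zb30) (kb xb22 yb55 zb61) (kb xb22 yb56 zb0) (kb xb27 yb15 zb45) (kb xb28 yb22 zb33) (kb xb30 yb53 zb42) (kb xb22 yb56 zb2) (kb xb32 yb44 zb59) (kb xb29 yb19 zb24) (kb xb22 yb56 zb7) (kb xb27 yb14 zb58) (kb xb30 yb2 zb9) (kb xb26 yb24 zb32) (kb xb32 yb22 zb46) (kb xb22 yb56 zb10) (kb xb32 yb53 zb16) (kb xb28 yb2 zb53) (kb xb30 yb57 zb43) (kb xb31 yb0 zb7) (kb xb23 yb15 zb24) (kb xb22 yb56 zb52)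 (kb xb32 yb40 zb55) (kb xb25 yb14 zb28) (kb xb28 yb33 zb4) (kb xb24 yb35 zb16) (kb xb24 yb3 zb44) (kb xb32 yb0 zb51) (kb xb32 yb45 zb55) (kb xb25 yb31 zb60) (kb xb29 yb8 zb26) (kb xb30 yb27 zb21) (kb xb22 yb56 zb31) (kb xb28 yb53 zb29) (kb xb22 yb56 zb36) (kb xb27 yb16 zb0) (kb xb25 yb30 zb55) (kb xb30 yb30 zb21) (kb xb22 yb56 zb41) (kb xb22 yb56 zb40) (kb xb30 yb43 zb0) (kb xb30 yb49 zb14) (kb xb25 yb32 zb31) (kb xb26 yb57 zb37) (kb xb26 yb57 zb36) (kb xb31 yb23 zb33) (kb xb31 yb33 zb36) (kb xb24 yb8 zb37) (kb xb29 yb34 zb6) (kb xb30 yb28 zb34)) (@D3.rec (fun _ => Pt) (kb xb30 yb51 zb40) (kb xb32 yb42 zb27) (kb xb31 yb53 zb9) (kb xb30 yb43 zb22) (kb xb26 yb49 zb22) (kb xb32 yb33 zb39) (kb xb22 yb59 zb60) (kb xb24 yb10 zb9) (kb xb32 yb34 zb42) (kb xb26 yb55 zb48) (kb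 xb23 yb54 zb47) (kb xb24 yb12 zb48) (kb xb27 yb16 zb25) (kb xb26 yb44 zb57) (kb xb30 yb48 zb53) (kb xb22 yb57 zb20) (kb xb22 yb57 zb18) (kb xb29 yb37 zb3) (kb xb29 yb37 zb15) (kb xb22 yb57 zb24) (kb xb22 yb57 zb25) (kb xb30 yb27 zb34) (kb xb25 yb31 zb33) (kb xb25 yb29 zb2) (kb xb27 yb58 zb49) (kb xb31 yb24 zb61) (kb xb31 yb25 zb56) (kb xb22 yb57 zb46) (kb xb27 yb9 zb47) (kb xb28 yb20 zb55) (kb xb22 yb57 zb53) (kb xb32 yb35 zb41) (kb xb24 yb6 zb0) (kb xb31 yb43 zb25) (kb xb30 yb56 zb7) (kb xb22 yb57 zb56) (kb xb31 yb49 zb45) (kb xb32 yb36 zb25) (kb xb25 yb46 zb61) (kb xb31 yb17 zb29) (kb xb22 yb58 zb2) (kb xb32 yb54 zb45) (kb xb30 yb23 zb0) (kb xb30 yb50 zb45) (kb xb32 yb9 zb6) (kb xb31 yb15 zb44) (kb xb22 yb58 zb5) (kb xb32 yb23 zb13) (kb xb29 yb30 zb43) (kb xb30 yb53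 zb5) (kb xb22 yb58 zb7) (kb xb30 yb18 zb24) (kb xb30 yb46 zb44) (kb xb30 yb47 zb24) (kb xb31 yb17 zb46) (kb xb30 yb57 zb1) (kb xb22 yb58 zb9) (kb xb22 yb58 zb10) (kb xb32 yb54 zb50) (kb xb22 yb58 zb11) (kb xb22 yb58 zb12) (kb xb30 yb34 zb30)) (@D3.rec (fun _ => Pt) (kb xb31 yb23 zb5) (kb xb22 yb58 zb13) (kb xb26 yb49 zb20) (kb xb32 yb51 zb13) (kb xb32 yb37 zb2) (kb xb22 yb58 zb19) (kb xb29 yb58 zb10) (kb xb31 yb12 zb13) (kb xb24 yb12 zb5) (kb xb31 yb25 zb33) (kb xb22 yb58 zb33) (kb xb23 yb12 zb35) (kb xb32 yb32 zb4) (kb xb32 yb30 zb55) (kb xb32 yb21 zb40) (kb xb32 yb29 zb51) (kb xb22 yb58 zb52) (kb xb32 yb23 zb10) (kb xb22 yb58 zb44) (kb xb24 yb24 zb27) (kb xb29 yb1 zb38) (kb xb24 yb39 zb6) (kb xb25 yb35 zb55) (kb xb29 yb21 zb32) (kb xb32 yb1 zb54) (kb xb30 yb35 zb56)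 (kb xb28 yb57 zb9) (kb xb27 yb42 zb45) (kb xb30 yb47 zb53) (kb xb22 yb59 zb14) (kb xb32 yb54 zb54) (kb xb32 yb33 zb58) (kb xb30 yb46 zb33) (kb xb22 yb59 zb27) (kb xb22 yb59 zb18) (kb xb29 yb42 zb21) (kb xb31 yb23 zb8) (kb xb30 yb37 zb44) (kb xb22 yb59 zb22) (kb xb22 yb59 zb23) (kb xb31 yb13 zb43) (kb xb27 yb41 zb51) (kb xb22 yb59 zb25) (kb xb22 yb59 zb26) (kb xb28 yb22 zb58) (kb xb30 yb49 zb43) (kb xb25 yb25 zb9) (kb xb28 yb14 zb55) (kb xb30 yb53 zb38) (kb xb28 yb56 zb25) (kb xb31 yb15 zb49) (kb xb25 yb35 zb48) (kb xb22 yb59 zb44) (kb xb22 yb59 zb48) (kb xb23 yb0 zb31) (kb xb25 yb35 zb35) (kb xb25 yb58 zb30) (kb xb30 yb46 zb5) (kb xb28 yb33 zb21) (kb xb23 yb0 zb29) (kb xb32 yb33 zb56) (kb xb30 yb46 zb51)) (@D3.rec (fun _ => Pt) (kb xb23 yb46 zb47) (kb xb23 yb0 zb2)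 (kb xb29 yb28 zb35) (kb xb30 yb24 zb22) (kb xb23 yb0 zb11) (kb xb23 yb0 zb13) (kb xb32 yb34 zb7) (kb xb28 yb56 zb21) (kb xb25 yb59 zb15) (kb xb23 yb0 zb25) (kb xb32 yb22 zb1) (kb xb31 yb46 zb39) (kb xb25 yb56 zb58) (kb xb32 yb18 zb17) (kb xb23 yb0 zb39) (kb xb27 yb59 zb3) (kb xb28 yb34 zb20) (kb xb26 yb36 zb45) (kb xb23 yb0 zb43) (kb xb25 yb52 zb1) (kb xb23 yb0 zb46) (kb xb32 yb54 zb56) (kb xb23 yb57 zb11) (kb xb32 yb0 zb33) (kb xb23 yb0 zb59) (kb xb27 yb43 zb61) (kb xb29 yb12 zb7) (kb xb26 yb47 zb48) (kb xb23 yb1 zb11) (kb xb29 yb40 zb48) (kb xb23 yb1 zb14) (kb xb30 yb11 zb21) (kb xb23 yb1 zb18) (kb xb23 yb10 zb5) (kb xb29 yb37 zb28) (kb xb23 yb1 zb31) (kb xb24 yb37 zb6) (kb xb29 yb4 zb52) (kb xb23 yb1 zb36) (kb xb32 yb38 zb13) (kb xb30 yb49 zb0) (kb xb32 yb54 zb57)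 (kb xb23 yb27 zb36) (kb xb32 yb3 zb17) (kb xb26 yb17 zb56) (kb xb23 yb49 zb47) (kb xb32 yb30 zb10) (kb xb29 yb57 zb28) (kb xb27 yb24 zb51) (kb xb30 yb51 zb50) (kb xb30 yb51 zb49) (kb xb26 yb7 zb9) (kb xb23 yb2 zb0) (kb xb23 yb21 zb12) (kb xb31 yb5 zb60) (kb xb29 yb12 zb17) (kb xb23 yb2 zb8) (kb xb25 yb39 zb37) (kb xb27 yb57 zb51) (kb xb30 yb33 zb21) (kb xb29 yb9 zb45) (kb xb26 yb7 zb30)) (@D3.rec (fun _ => Pt) (kb xb27 yb56 zb46) (kb xb23 yb2 zb20) (kb xb30 yb11 zb61) (kb xb30 yb53 zb4) (kb xb31 yb56 zb11) (kb xb32 yb10 zb10) (kb xb23 yb2 zb26) (kb xb32 yb53 zb44) (kb xb32 yb47 zb11) (kb xb23 yb2 zb38) (kb xb23 yb39 zb51) (kb xb31 yb5 zb34) (kb xb30 yb3 zb36) (kb xb32 yb24 zb29) (kb xb32 yb16 zb19) (kb xb32 yb2 zb29) (kb xb23 yb41 zb56) (kb xb31 yb5 zb12) (kb xb26 yb47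 zb35) (kb xb30 yb52 zb44) (kb xb29 yb57 zb54) (kb xb26 yb8 zb39) (kb xb30 yb54 zb11) (kb xb27 yb57 zb42) (kb xb30 yb35 zb1) (kb xb23 yb43 zb42) (kb xb26 yb30 zb12) (kb xb28 yb24 zb45) (kb xb23 yb3 zb5) (kb xb23 yb3 zb6) (kb xb26 yb47 zb59) (kb xb32 yb23 zb49) (kb xb23 yb44 zb25) (kb xb31 yb10 zb29) (kb xb32 yb48 zb49) (kb xb29 yb13 zb53) (kb xb23 yb3 zb12) (kb xb32 yb54 zb14) (kb xb30 yb58 zb59) (kb xb29 yb54 zb34) (kb xb30 yb58 zb53) (kb xb32 yb6 zb39) (kb xb30 yb35 zb3) (kb xb23 yb3 zb22) (kb xb30 yb52 zb19) (kb xb26 yb8 zb36) (kb xb23 yb28 zb60) (kb xb23 yb29 zb4) (kb xb31 yb5 zb46) (kb xb23 yb39 zb3) (kb xb31 yb10 zb33) (kb xb24 yb9 zb25) (kb xb31 yb34 zb37) (kb xb31 yb51 zb3) (kb xb26 yb35 zb56) (kb xb24 yb35 zb49) (kb xb27 yb5 zb7) (kb xb24 yb28 zb11) (kb xb23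 yb4 zb20) (kb xb29 yb32 zb8) (kb xb24 yb39 zb34) (kb xb30 yb45 zb45)) (@D3.rec (fun _ => Pt) (kb xb31 yb59 zb57) (kb xb23 yb56 zb26) (kb xb23 yb4 zb31) (kb xb24 yb21 zb19) (kb xb30 yb52 zb3) (kb xb30 yb49 zb49) (kb xb23 yb4 zb35) (kb xb31 yb58 zb54) (kb xb32 yb55 zb0) (kb xb27 yb15 zb61) (kb xb23 yb4 zb37) (kb xb31 yb23 zb48) (kb xb23 yb4 zb58) (kb xb31 yb53 zb19) (kb xb23 yb4 zb47) (kb xb31 yb32 zb43) (kb xb23 yb5 zb9) (kb xb28 yb28 zb20) (kb xb23 yb4 zb52) (kb xb23 yb5 zb13) (kb xb31 yb23 zb15) (kb xb28 yb5 zb20) (kb xb29 yb41 zb58) (kb xb23 yb4 zb60) (kb xb28 yb32 zb8) (kb xb30 yb55 zb36) (kb xb23 yb5 zb7) (kb xb32 yb0 zb0) (kb xb27 yb59 zb21) (kb xb23 yb19 zb7) (kb xb29 yb7 zb7) (kb xb24 yb31 zb24) (kb xb23 yb9 zb36) (kb xb32 yb1 zb41) (kb xb30 yb19 zb15) (kb xb24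 yb32 zb12) (kb xb25 yb5 zb60) (kb xb29 yb36 zb27) (kb xb30 yb50 zb48) (kb xb31 yb47 zb16) (kb xb23 yb5 zb25) (kb xb23 yb9 zb53) (kb xb30 yb48 zb18) (kb xb23 yb5 zb32) (kb xb25 yb28 zb44) (kb xb26 yb55 zb4) (kb xb29 yb37 zb26) (kb xb31 yb45 zb25) (kb xb32 yb15 zb20) (kb xb26 yb28 zb55) (kb xb32 yb22 zb33) (kb xb28 yb27 zb20) (kb xb32 yb19 zb59) (kb xb24 yb6 zb21) (kb xb25 yb49 zb50) (kb xb24 yb13 zb55) (kb xb28 yb34 zb60) (kb xb29 yb23 zb52) (kb xb23 yb6 zb40) (kb xb23 yb6 zb17) (kb xb23 yb6 zb15) (kb xb24 yb14 zb23)) (@D3.rec (fun _ => Pt) (kb xb26 yb24 zb33) (kb xb26 yb18 zb20) (kb xb23 yb6 zb30) (kb xb28 yb17 zb52) (kb xb28 yb14 zb58) (kb xb28 yb56 zb18) (kb xb30 yb25 zb36) (kb xb24 yb46 zb40) (kb xb23 yb7 zb1) (kb xb32 yb51 zb16) (kb xb23 yb45 zb41) (kb xb30 yb52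 zb22) (kb xb23 yb7 zb10) (kb xb26 yb57 zb60) (kb xb32 yb55 zb2) (kb xb27 yb36 zb18) (kb xb28 yb26 zb52) (kb xb23 yb7 zb16) (kb xb28 yb28 zb29) (kb xb29 yb53 zb14) (kb xb30 yb45 zb48) (kb xb23 yb7 zb29) (kb xb30 yb38 zb27) (kb xb31 yb20 zb2) (kb xb30 yb30 zb46) (kb xb32 yb34 zb10) (kb xb23 yb7 zb41) (kb xb23 yb7 zb40) (kb xb26 yb24 zb53) (kb xb23 yb16 zb8) (kb xb32 yb2 zb21) (kb xb25 yb6 zb47) (kb xb26 yb42 zb12) (kb xb23 yb9 zb0) (kb xb32 yb29 zb44) (kb xb30 yb46 zb22) (kb xb29 yb4 zb37) (kb xb26 yb29 zb6) (kb xb26 yb57 zb48) (kb xb26 yb25 zb16) (kb xb29 yb41 zb43) (kb xb24 yb34 zb13) (kb xb23 yb8 zb14) (kb xb29 yb24 zb50) (kb xb29 yb41 zb59) (kb xb25 yb29 zb9) (kb xb25 yb55 zb35) (kb xb30 yb43 zb23) (kb xb23 yb8 zb20) (kb xb23 yb8 zb23) (kb xb30 yb32 zb58) (kb xb32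 yb20 zb5) (kb xb32 yb2 zb50) (kb xb23 yb8 zb31) (kb xb30 yb47 zb37) (kb xb23 yb54 zb30) (kb xb23 yb8 zb35) (kb xb32 yb55 zb6) (kb xb29 yb20 zb54) (kb xb23 yb8 zb45) (kb xb31 yb54 zb13) (kb xb32 yb15 zb55)) (@D3.rec (fun _ => Pt) (kb xb23 yb8 zb53) (kb xb31 yb49 zb12) (kb xb25 yb30 zb31) (kb xb25 yb24 zb38) (kb xb25 yb24 zb47) (kb xb32 yb1 zb12) (kb xb26 yb19 zb16) (kb xb31 yb53 zb59) (kb xb27 yb54 zb38) (kb xb31 yb9 zb41) (kb xb30 yb7 zb0) (kb xb31 yb35 zb16) (kb xb30 yb37 zb39) (kb xb23 yb9 zb30) (kb xb23 yb9 zb29) (kb xb30 yb57 zb12) (kb xb23 yb15 zb26) (kb xb32 yb19 zb53) (kb xb29 yb36 zb25) (kb xb24 yb14 zb56) (kb xb30 yb18 zb51) (kb xb24 yb40 zb18) (kb xb25 yb39 zb15) (kb xb23 yb9 zb55) (kb xb31 yb46 zb17) (kb xb30 yb38 zb22) (kb xb27 yb41 zb49) (kb xb29 yb29 zb38)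 (kb xb29 yb34 zb52) (kb xb31 yb16 zb49) (kb xb32 yb22 zb44) (kb xb27 yb42 zb2) (kb xb23 yb10 zb7) (kb xb27 yb42 zb41) (kb xb29 yb31 zb56) (kb xb29 yb34 zb23) (kb xb30 yb53 zb25) (kb xb28 yb24 zb49) (kb xb29 yb37 zb42) (kb xb23 yb10 zb29) (kb xb30 yb5 zb39) (kb xb28 yb36 zb2) (kb xb25 yb49 zb3) (kb xb25 yb11 zb26) (kb xb23 yb10 zb43) (kb xb25 yb43 zb41) (kb xb26 yb55 zb33) (kb xb29 yb21 zb47) (kb xb24 yb38 zb42) (kb xb24 yb38 zb16) (kb xb23 yb11 zb5) (kb xb31 yb59 zb41) (kb xb23 yb11 zb11) (kb xb32 yb0 zb29) (kb xb27 yb42 zb32) (kb xb31 yb34 zb34) (kb xb31 yb5 zb44) (kb xb24 yb54 zb18) (kb xb23 yb11 zb25) (kb xb31 yb4 zb51) (kb xb29 yb0 zb23) (kb xb29 yb23 zb13)) (@D3.rec (fun _ => Pt) (kb xb29 yb48 zb2) (kb xb31 yb36 zb44) (kb xb29 yb5 zb23) (kb xb28 yb0 zb47) (kb xb28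 yb23 zb15) (kb xb28 yb23 zb36) (kb xb23 yb11 zb34) (kb xb30 yb49 zb34) (kb xb23 yb11 zb36) (kb xb28 yb23 zb4) (kb xb32 yb9 zb36) (kb xb27 yb51 zb17) (kb xb23 yb11 zb44) (kb xb32 yb45 zb3) (kb xb28 yb21 zb25) (kb xb23 yb33 zb46) (kb xb23 yb11 zb58) (kb xb23 yb12 zb1) (kb xb32 yb50 zb7) (kb xb27 yb57 zb26) (kb xb23 yb12 zb12) (kb xb32 yb15 zb25) (kb xb23 yb18 zb59) (kb xb23 yb12 zb19) (kb xb25 yb24 zb61) (kb xb30 yb26 zb27) (kb xb26 yb27 zb26) (kb xb23 yb12 zb27) (kb xb30 yb39 zb41) (kb xb32 yb2 zb61) (kb xb28 yb19 zb21) (kb xb27 yb7 zb43) (kb xb31 yb9 zb36) (kb xb29 yb16 zb46) (kb xb28 yb19 zb41) (kb xb31 yb45 zb48) (kb xb24 yb33 zb44) (kb xb24 yb31 zb59) (kb xb26 yb9 zb15) (kb xb23 yb12 zb46) (kb xb29 yb16 zb14) (kb xb25 yb53 zb9) (kb xb28 yb29 zb27) (kb xb24 yb27 zb9)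 (kb xb24 yb13 zb53) (kb xb23 yb56 zb34) (kb xb25 yb8 zb7) (kb xb23 yb56 zb37) (kb xb23 yb12 zb61) (kb xb25 yb44 zb27) (kb xb32 yb11 zb20) (kb xb28 yb41 zb56) (kb xb25 yb52 zb21) (kb xb23 yb13 zb15) (kb xb23 yb13 zb16) (kb xb32 yb55 zb8) (kb xb32 yb35 zb39) (kb xb23 yb13 zb18) (kb xb28 yb52 zb1) (kb xb23 yb13 zb31) (kb xb23 yb13 zb34) (kb xb24 yb6 zb34)) (@D3.rec (fun _ => Pt) (kb xb32 yb54 zb49) (kb xb30 yb49 zb55) (kb xb26 yb31 zb42) (kb xb23 yb13 zb36) (kb xb23 yb13 zb37) (kb xb30 yb46 zb40) (kb xb28 yb26 zb55) (kb xb23 yb14 zb8) (kb xb23 yb45 zb1) (kb xb32 yb5 zb6) (kb xb25 yb44 zb10) (kb xb23 yb15 zb30) (kb xb30 yb55 zb15) (kb xb23 yb14 zb5) (kb xb32 yb55 zb10) (kb xb23 yb16 zb25) (kb xb23 yb14 zb7) (kb xb23 yb15 zb35) (kb xb23 yb14 zb13) (kb xb23 yb15 zb5) (kb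 xb23 yb15 zb10) (kb xb30 yb58 zb5) (kb xb31 yb58 zb50) (kb xb24 yb31 zb23) (kb xb32 yb5 zb12) (kb xb31 yb2 zb46) (kb xb30 yb58 zb22) (kb xb23 yb17 zb7) (kb xb23 yb14 zb18) (kb xb23 yb15 zb27) (kb xb23 yb14 zb19) (kb xb30 yb31 zb43) (kb xb29 yb18 zb59) (kb xb30 yb59 zb45) (kb xb23 yb18 zb20) (kb xb23 yb14 zb27) (kb xb31 yb45 zb7) (kb xb28 yb36 zb0) (kb xb23 yb32 zb37) (kb xb32 yb55 zb11) (kb xb23 yb17 zb32) (kb xb23 yb18 zb39) (kb xb23 yb17 zb12) (kb xb30 yb48 zb30) (kb xb30 yb32 zb19) (kb xb26 yb32 zb29) (kb xb29 yb48 zb54) (kb xb30 yb2 zb17) (kb xb30 yb59 zb34) (kb xb23 yb15 zb1) (kb xb28 yb2 zb3) (kb xb23 yb16 zb41) (kb xb30 yb2 zb10) (kb xb26 yb9 zb29) (kb xb28 yb2 zb8) (kb xb23 yb16 zb40) (kb xb26 yb9 zb34) (kb xb30 yb39 zb59) (kb xb28 yb2 zb11) (kb xb31 yb44 zb52)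 (kb xb32 yb44 zb60) (kb xb23 yb15 zb11)) (@D3.rec (fun _ => Pt) (kb xb32 yb8 zb18) (kb xb32 yb25 zb19) (kb xb23 yb15 zb12) (kb xb30 yb7 zb20) (kb xb28 yb2 zb56) (kb xb30 yb57 zb21) (kb xb32 yb49 zb31) (kb xb30 yb58 zb38) (kb xb23 yb15 zb16) (kb xb28 yb25 zb0) (kb xb26 yb22 zb1) (kb xb23 yb16 zb7) (kb xb23 yb15 zb19) (kb xb23 yb15 zb20) (kb xb25 yb3 zb2) (kb xb23 yb15 zb23) (kb xb26 yb9 zb31) (kb xb23 yb18 zb22) (kb xb23 yb15 zb37) (kb xb30 yb59 zb29) (kb xb23 yb15 zb33) (kb xb31 yb0 zb10) (kb xb30 yb57 zb26) (kb xb23 yb16 zb30) (kb xb23 yb17 zb21) (kb xb30 yb32 zb37) (kb xb30 yb39 zb55) (kb xb31 yb42 zb33) (kb xb28 yb10 zb51) (kb xb28 yb26 zb30) (kb xb23 yb18 zb49) (kb xb23 yb15 zb54) (kb xb32 yb23 zb52) (kb xb30 yb7 zb17) (kb xb23 yb15 zb57) (kb xb30 yb7 zb18) (kb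 xb30 yb59 zb51) (kb xb32 yb54 zb59) (kb xb30 yb58 zb7) (kb xb23 yb17 zb38) (kb xb23 yb21 zb44) (kb xb23 yb16 zb0) (kb xb23 yb45 zb16) (kb xb23 yb16 zb2) (kb xb23 yb16 zb4) (kb xb23 yb20 zb4) (kb xb23 yb16 zb13) (kb xb23 yb17 zb27) (kb xb23 yb16 zb21) (kb xb27 yb25 zb60) (kb xb23 yb16 zb24) (kb xb28 yb10 zb47) (kb xb31 yb12 zb7) (kb xb30 yb52 zb40) (kb xb23 yb16 zb28) (kb xb23 yb16 zb29) (kb xb30 yb2 zb19) (kb xb32 yb50 zb19) (kb xb31 yb12 zb6) (kb xb30 yb52 zb38) (kb xb30 yb59 zb59) (kb xb23 yb16 zb44)) (@D3.rec (fun _ => Pt) (kb xb23 yb16 zb46) (kb xb31 yb58 zb31) (kb xb31 yb32 zb51) (kb xb27 yb5 zb34) (kb xb23 yb25 zb22) (kb xb28 yb12 zb11) (kb xb23 yb16 zb57) (kb xb23 yb17 zb1) (kb xb32 yb55 zb15) (kb xb23 yb17 zb4) (kb xb30 yb59 zb13) (kb xb23 yb17 zb6) (kb xb25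 yb3 zb5) (kb xb30 yb59 zb10) (kb xb25 yb0 zb56) (kb xb31 yb44 zb12) (kb xb23 yb17 zb10) (kb xb23 yb17 zb11) (kb xb23 yb17 zb13) (kb xb24 yb31 zb32) (kb xb23 yb45 zb12) (kb xb23 yb52 zb35) (kb xb25 yb2 zb49) (kb xb23 yb18 zb41) (kb xb32 yb48 zb28) (kb xb30 yb42 zb34) (kb xb23 yb17 zb18) (kb xb30 yb17 zb40) (kb xb24 yb31 zb33) (kb xb30 yb58 zb19) (kb xb30 yb2 zb7) (kb xb30 yb2 zb20) (kb xb23 yb17 zb25) (kb xb30 yb42 zb38) (kb xb30 yb57 zb48) (kb xb30 yb13 zb60) (kb xb23 yb44 zb23) (kb xb31 yb7 zb28) (kb xb23 yb35 zb40) (kb xb26 yb9 zb2) (kb xb23 yb18 zb38) (kb xb30 yb59 zb48) (kb xb23 yb17 zb31) (kb xb31 yb2 zb9) (kb xb23 yb18 zb18) (kb xb30 yb57 zb33) (kb xb31 yb0 zb2) (kb xb23 yb17 zb35) (kb xb30 yb59 zb41) (kb xb23 yb21 zb19) (kb xb30 yb32 zb2) (kb xb30 yb58 zb36)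 (kb xb29 yb54 zb19) (kb xb26 yb14 zb56) (kb xb28 yb1 zb44) (kb xb23 yb25 zb40) (kb xb30 yb20 zb40) (kb xb31 yb1 zb3) (kb xb28 yb13 zb33) (kb xb30 yb58 zb60) (kb xb32 yb25 zb14) (kb xb28 yb41 zb36))
def f_b_31 : D2 → D3 → Pt := @D2.rec (fun _ => D3 → Pt) (@D3.rec (fun _ => Pt) (kb xb28 yb27 zb43) (kb xb28 yb1 zb58) (kb xb30 yb59 zb46) (kb xb24 yb59 zb51) (kb xb23 yb18 zb26) (kb xb32 yb3 zb11) (kb xb23 yb32 zb30) (kb xb30 yb48 zb31) (kb xb23 yb25 zb58) (kb xb23 yb18 zb42) (kb xb30 yb58 zb21) (kb xb29 yb18 zb60) (kb xb31 yb56 zb10) (kb xb32 yb52 zb17) (kb xb26 yb31 zb14) (kb xb26 yb29 zb45) (kb xb24 yb45 zb54) (kb xb30 yb45 zb38) (kb xb29 yb28 zb60) (kb xb23 yb18 zb58) (kb xb31 yb5 zb47) (kb xb24 yb6 zb55) (kb xb25 yb28 zb30) (kb xb28 yb12 zb51) (kb xb26 yb32 zb50) (kb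 xb28 yb28 zb58) (kb xb31 yb53 zb23) (kb xb23 yb19 zb9) (kb xb32 yb41 zb25) (kb xb23 yb19 zb11) (kb xb26 yb23 zb55) (kb xb23 yb19 zb13) (kb xb29 yb12 zb48) (kb xb24 yb17 zb27) (kb xb30 yb42 zb37) (kb xb28 yb28 zb14) (kb xb28 yb27 zb17) (kb xb32 yb30 zb41) (kb xb31 yb44 zb50) (kb xb29 yb14 zb36) (kb xb23 yb19 zb50) (kb xb23 yb19 zb54) (kb xb23 yb19 zb61) (kb xb26 yb6 zb57) (kb xb28 yb3 zb46) (kb xb23 yb20 zb0) (kb xb23 yb23 zb9) (kb xb23 yb23 zb7) (kb xb31 yb7 zb5) (kb xb23 yb40 zb41) (kb xb28 yb10 zb5) (kb xb23 yb20 zb50) (kb xb23 yb20 zb57) (kb xb31 yb6 zb23) (kb xb23 yb20 zb61) (kb xb23 yb31 zb32) (kb xb32 yb5 zb7) (kb xb23 yb21 zb10) (kb xb23 yb42 zb47) (kb xb31 yb7 zb59) (kb xb32 yb28 zb18) (kb xb30 yb32 zb35)) (@D3.rec (fun _ => Pt) (kb xb32 yb6 zb41) (kb xb23 yb21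 zb18) (kb xb32 yb49 zb23) (kb xb30 yb59 zb57) (kb xb23 yb21 zb38) (kb xb31 yb25 zb14) (kb xb24 yb57 zb47) (kb xb30 yb33 zb49) (kb xb23 yb32 zb49) (kb xb31 yb34 zb6) (kb xb23 yb21 zb41) (kb xb32 yb48 zb20) (kb xb31 yb54 zb61) (kb xb30 yb4 zb44) (kb xb30 yb31 zb40) (kb xb29 yb15 zb54) (kb xb28 yb9 zb15) (kb xb27 yb55 zb23) (kb xb23 yb21 zb56) (kb xb30 yb24 zb57) (kb xb26 yb13 zb34) (kb xb28 yb39 zb17) (kb xb27 yb39 zb41) (kb xb26 yb29 zb54) (kb xb23 yb46 zb13) (kb xb23 yb34 zb24) (kb xb30 yb0 zb33) (kb xb23 yb22 zb24) (kb xb26 yb20 zb59) (kb xb30 yb4 zb42) (kb xb28 yb2 zb16) (kb xb28 yb25 zb39) (kb xb25 yb44 zb57) (kb xb23 yb23 zb18) (kb xb29 yb56 zb40) (kb xb24 yb40 zb59) (kb xb29 yb27 zb13) (kb xb30 yb46 zb57) (kb xb23 yb24 zb16) (kb xb27 yb41 zb23) (kb xb23 yb23 zb12)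 (kb xb23 yb24 zb20) (kb xb27 yb23 zb0) (kb xb31 yb37 zb24) (kb xb23 yb23 zb29) (kb xb27 yb1 zb43) (kb xb23 yb23 zb35) (kb xb29 yb42 zb24) (kb xb32 yb28 zb30) (kb xb31 yb38 zb54) (kb xb31 yb12 zb30) (kb xb24 yb1 zb0) (kb xb31 yb10 zb17) (kb xb25 yb29 zb48) (kb xb26 yb0 zb31) (kb xb23 yb24 zb18) (kb xb23 yb24 zb21) (kb xb29 yb50 zb57) (kb xb32 yb24 zb22) (kb xb23 yb38 zb22) (kb xb32 yb55 zb20) (kb xb31 yb27 zb51)) (@D3.rec (fun _ => Pt) (kb xb32 yb42 zb29) (kb xb32 yb30 zb7) (kb xb27 yb35 zb20) (kb xb23 yb24 zb38) (kb xb32 yb6 zb6) (kb xb30 yb46 zb13) (kb xb32 yb5 zb11) (kb xb23 yb24 zb47) (kb xb23 yb25 zb21) (kb xb30 yb59 zb43) (kb xb30 yb0 zb43) (kb xb23 yb24 zb61) (kb xb29 yb51 zb39) (kb xb30 yb13 zb14) (kb xb23 yb24 zb60) (kb xb29 yb58 zb34) (kb xb23 yb45 zb17) (kb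 xb26 yb9 zb24) (kb xb23 yb25 zb0) (kb xb23 yb27 zb52) (kb xb23 yb25 zb2) (kb xb32 yb50 zb18) (kb xb23 yb25 zb4) (kb xb32 yb23 zb36) (kb xb31 yb8 zb51) (kb xb31 yb6 zb5) (kb xb24 yb59 zb37) (kb xb26 yb14 zb53) (kb xb23 yb25 zb20) (kb xb30 yb2 zb4) (kb xb31 yb44 zb54) (kb xb29 yb58 zb39) (kb xb26 yb7 zb48) (kb xb32 yb50 zb43) (kb xb30 yb33 zb53) (kb xb23 yb32 zb32) (kb xb30 yb32 zb9) (kb xb28 yb25 zb55) (kb xb28 yb41 zb18) (kb xb23 yb25 zb45) (kb xb27 yb44 zb56) (kb xb23 yb25 zb52) (kb xb30 yb18 zb1) (kb xb32 yb8 zb43) (kb xb23 yb25 zb55) (kb xb23 yb37 zb24) (kb xb30 yb57 zb25) (kb xb32 yb55 zb14) (kb xb24 yb30 zb55) (kb xb30 yb37 zb24) (kb xb23 yb26 zb31) (kb xb27 yb40 zb26) (kb xb23 yb26 zb2) (kb xb32 yb26 zb24) (kb xb32 yb50 zb52) (kb xb32 yb4 zb57) (kb xb29 yb17 zb38)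 (kb xb23 yb41 zb58) (kb xb25 yb23 zb21) (kb xb23 yb26 zb5) (kb xb27 yb56 zb31) (kb xb23 yb26 zb6)) (@D3.rec (fun _ => Pt) (kb xb23 yb28 zb15) (kb xb23 yb26 zb54) (kb xb32 yb30 zb8) (kb xb23 yb27 zb10) (kb xb32 yb32 zb13) (kb xb23 yb26 zb14) (kb xb23 yb26 zb24) (kb xb26 yb47 zb10) (kb xb23 yb26 zb27) (kb xb27 yb57 zb7) (kb xb29 yb26 zb52) (kb xb32 yb27 zb52) (kb xb31 yb8 zb61) (kb xb31 yb3 zb38) (kb xb23 yb27 zb29) (kb xb32 yb55 zb23) (kb xb23 yb26 zb42) (kb xb23 yb26 zb41) (kb xb29 yb14 zb7) (kb xb23 yb26 zb45) (kb xb23 yb26 zb46) (kb xb29 yb11 zb41) (kb xb31 yb10 zb20) (kb xb23 yb26 zb49) (kb xb24 yb24 zb45) (kb xb25 yb6 zb30) (kb xb32 yb32 zb29) (kb xb25 yb30 zb38) (kb xb23 yb27 zb33) (kb xb32 yb4 zb56) (kb xb31 yb16 zb53) (kb xb25 yb14 zb22) (kb xb31 yb5 zb40) (kb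 xb23 yb41 zb60) (kb xb31 yb10 zb23) (kb xb32 yb27 zb60) (kb xb32 yb21 zb9) (kb xb31 yb27 zb44) (kb xb31 yb3 zb13) (kb xb23 yb28 zb23) (kb xb31 yb8 zb41) (kb xb23 yb27 zb6) (kb xb32 yb16 zb1) (kb xb25 yb30 zb17) (kb xb28 yb34 zb6) (kb xb23 yb27 zb14) (kb xb32 yb49 zb33) (kb xb29 yb4 zb22) (kb xb23 yb27 zb28) (kb xb32 yb30 zb56) (kb xb25 yb5 zb2) (kb xb23 yb27 zb30) (kb xb23 yb28 zb4) (kb xb25 yb30 zb37) (kb xb31 yb8 zb44) (kb xb23 yb28 zb30) (kb xb27 yb17 zb49) (kb xb23 yb27 zb37) (kb xb31 yb45 zb42) (kb xb32 yb3 zb14) (kb xb30 yb9 zb61) (kb xb32 yb16 zb10)) (@D3.rec (fun _ => Pt) (kb xb23 yb27 zb46) (kb xb29 yb18 zb12) (kb xb25 yb39 zb58) (kb xb30 yb37 zb23) (kb xb31 yb7 zb60) (kb xb23 yb27 zb56) (kb xb24 yb20 zb55) (kb xb23 yb27 zb61) (kb xb31 yb9 zb56) (kb xb31 yb47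 zb22) (kb xb29 yb11 zb1) (kb xb23 yb29 zb12) (kb xb31 yb36 zb25) (kb xb29 yb5 zb1) (kb xb29 yb3 zb34) (kb xb31 yb10 zb22) (kb xb32 yb50 zb51) (kb xb23 yb28 zb17) (kb xb30 yb10 zb10) (kb xb29 yb4 zb29) (kb xb31 yb9 zb21) (kb xb23 yb28 zb22) (kb xb32 yb43 zb57) (kb xb25 yb36 zb22) (kb xb32 yb14 zb51) (kb xb32 yb21 zb11) (kb xb23 yb28 zb24) (kb xb32 yb27 zb49) (kb xb29 yb3 zb59) (kb xb32 yb46 zb58) (kb xb23 yb28 zb28) (kb xb32 yb23 zb39) (kb xb32 yb5 zb2) (kb xb30 yb41 zb11) (kb xb31 yb5 zb49) (kb xb30 yb17 zb5) (kb xb23 yb28 zb38) (kb xb31 yb34 zb40) (kb xb31 yb47 zb26) (kb xb23 yb28 zb40) (kb xb31 yb57 zb20) (kb xb30 yb0 zb42) (kb xb23 yb28 zb41) (kb xb31 yb56 zb32) (kb xb31 yb57 zb21) (kb xb23 yb28 zb42) (kb xb31 yb42 zb31) (kb xb29 yb15 zb49) (kb xb29 yb58 zb7) (kb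 xb31 yb30 zb12) (kb xb23 yb28 zb48) (kb xb30 yb55 zb59) (kb xb30 yb10 zb5) (kb xb25 yb8 zb43) (kb xb26 yb4 zb47) (kb xb31 yb12 zb11) (kb xb29 yb56 zb57) (kb xb29 yb59 zb28) (kb xb23 yb29 zb44) (kb xb29 yb57 zb56) (kb xb23 yb29 zb2) (kb xb29 yb4 zb32)) (@D3.rec (fun _ => Pt) (kb xb30 yb13 zb58) (kb xb23 yb29 zb5) (kb xb23 yb29 zb13) (kb xb30 yb41 zb20) (kb xb30 yb42 zb21) (kb xb23 yb29 zb20) (kb xb30 yb41 zb32) (kb xb32 yb26 zb45) (kb xb23 yb29 zb25) (kb xb32 yb55 zb34) (kb xb32 yb24 zb39) (kb xb32 yb48 zb47) (kb xb30 yb52 zb17) (kb xb23 yb29 zb32) (kb xb31 yb10 zb38) (kb xb29 yb58 zb33) (kb xb30 yb41 zb61) (kb xb30 yb10 zb21) (kb xb28 yb10 zb35) (kb xb23 yb38 zb34) (kb xb23 yb29 zb48) (kb xb23 yb30 zb14) (kb xb32 yb49 zb27) (kb xb29 yb11 zb27) (kb xb29 yb58 zb4) (kb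 xb30 yb10 zb16) (kb xb23 yb29 zb56) (kb xb29 yb56 zb51) (kb xb31 yb58 zb36) (kb xb23 yb30 zb0) (kb xb29 yb15 zb50) (kb xb23 yb30 zb6) (kb xb29 yb12 zb0) (kb xb25 yb23 zb3) (kb xb30 yb52 zb11) (kb xb23 yb30 zb11) (kb xb31 yb10 zb37) (kb xb32 yb42 zb12) (kb xb29 yb59 zb2) (kb xb23 yb30 zb13) (kb xb31 yb3 zb32) (kb xb26 yb19 zb3) (kb xb31 yb34 zb19) (kb xb32 yb41 zb61) (kb xb30 yb55 zb56) (kb xb23 yb30 zb22) (kb xb30 yb52 zb48) (kb xb31 yb0 zb20) (kb xb32 yb42 zb11) (kb xb31 yb4 zb34) (kb xb32 yb23 zb37) (kb xb31 yb10 zb55) (kb xb23 yb30 zb28) (kb xb32 yb55 zb26) (kb xb24 yb24 zb1) (kb xb30 yb7 zb7) (kb xb30 yb33 zb15) (kb xb30 yb43 zb5) (kb xb23 yb31 zb0) (kb xb30 yb42 zb44) (kb xb30 yb51 zb54) (kb xb31 yb58 zb37)) (@D3.rec (fun _ => Pt) (kb xb30 yb14 zb5) (kb xb23 yb31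 zb9) (kb xb27 yb24 zb31) (kb xb29 yb54 zb38) (kb xb24 yb59 zb22) (kb xb31 yb2 zb25) (kb xb23 yb31 zb37) (kb xb30 yb42 zb45) (kb xb30 yb43 zb30) (kb xb23 yb31 zb54) (kb xb24 yb45 zb55) (kb xb32 yb16 zb14) (kb xb29 yb57 zb6) (kb xb23 yb32 zb17) (kb xb23 yb45 zb8) (kb xb23 yb32 zb12) (kb xb32 yb16 zb15) (kb xb27 yb23 zb25) (kb xb31 yb59 zb1) (kb xb29 yb28 zb33) (kb xb23 yb32 zb29) (kb xb23 yb32 zb36) (kb xb26 yb26 zb28) (kb xb31 yb0 zb53) (kb xb23 yb32 zb44) (kb xb30 yb2 zb30) (kb xb30 yb7 zb19) (kb xb25 yb39 zb20) (kb xb29 yb24 zb4) (kb xb29 yb29 zb20) (kb xb26 yb0 zb15) (kb xb23 yb32 zb60) (kb xb26 yb47 zb31) (kb xb29 yb52 zb34) (kb xb29 yb9 zb55) (kb xb26 yb45 zb54) (kb xb32 yb53 zb17) (kb xb31 yb11 zb54) (kb xb26 yb3 zb32) (kb xb29 yb30 zb24) (kb xb26 yb9 zb9) (kb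 xb31 yb7 zb54) (kb xb30 yb43 zb27) (kb xb29 yb19 zb29) (kb xb23 yb54 zb52) (kb xb23 yb33 zb38) (kb xb26 yb26 zb9) (kb xb26 yb26 zb0) (kb xb23 yb33 zb40) (kb xb23 yb33 zb47) (kb xb27 yb57 zb44) (kb xb32 yb49 zb21) (kb xb31 yb12 zb21) (kb xb29 yb11 zb46) (kb xb24 yb22 zb53) (kb xb25 yb0 zb29) (kb xb23 yb33 zb57) (kb xb23 yb33 zb58) (kb xb23 yb34 zb4) (kb xb32 yb44 zb51) (kb xb28 yb1 zb50) (kb xb23 yb34 zb10)) (@D3.rec (fun _ => Pt) (kb xb31 yb38 zb33) (kb xb32 yb55 zb39) (kb xb30 yb28 zb37) (kb xb29 yb0 zb4) (kb xb31 yb58 zb60) (kb xb31 yb0 zb48) (kb xb23 yb34 zb47) (kb xb25 yb28 zb1) (kb xb27 yb24 zb61) (kb xb26 yb2 zb51) (kb xb27 yb45 zb39) (kb xb29 yb22 zb4) (kb xb23 yb36 zb0) (kb xb24 yb23 zb41) (kb xb29 yb55 zb40) (kb xb29 yb30 zb15) (kb xb23 yb35 zb15) (kb xb29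 yb54 zb3) (kb xb23 yb35 zb42) (kb xb32 yb23 zb51) (kb xb29 yb10 zb14) (kb xb30 yb8 zb59) (kb xb23 yb35 zb45) (kb xb23 yb35 zb49) (kb xb25 yb42 zb25) (kb xb24 yb44 zb33) (kb xb26 yb13 zb32) (kb xb26 yb7 zb5) (kb xb30 yb59 zb37) (kb xb32 yb19 zb22) (kb xb23 yb36 zb8) (kb xb24 yb0 zb31) (kb xb26 yb2 zb38) (kb xb27 yb46 zb36) (kb xb23 yb36 zb23) (kb xb24 yb42 zb44) (kb xb25 yb38 zb58) (kb xb23 yb57 zb12) (kb xb28 yb6 zb16) (kb xb23 yb50 zb35) (kb xb26 yb4 zb27) (kb xb27 yb34 zb50) (kb xb23 yb36 zb56) (kb xb28 yb1 zb45) (kb xb23 yb36 zb59) (kb xb27 yb32 zb31) (kb xb24 yb53 zb1) (kb xb23 yb37 zb3) (kb xb23 yb40 zb48) (kb xb27 yb33 zb37) (kb xb23 yb37 zb6) (kb xb32 yb55 zb40) (kb xb23 yb37 zb9) (kb xb24 yb0 zb25) (kb xb31 yb6 zb41) (kb xb25 yb14 zb49) (kb xb23 yb37 zb22) (kb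 xb27 yb4 zb36) (kb xb23 yb37 zb25) (kb xb31 yb0 zb59) (kb xb31 yb4 zb4) (kb xb23 yb37 zb27)) (@D3.rec (fun _ => Pt) (kb xb31 yb37 zb51) (kb xb32 yb16 zb18) (kb xb26 yb47 zb46) (kb xb32 yb19 zb23) (kb xb26 yb3 zb49) (kb xb23 yb37 zb40) (kb xb23 yb43 zb13) (kb xb23 yb42 zb51) (kb xb24 yb52 zb4) (kb xb28 yb1 zb57) (kb xb32 yb31 zb15) (kb xb31 yb26 zb44) (kb xb25 yb55 zb7) (kb xb24 yb41 zb20) (kb xb23 yb37 zb55) (kb xb28 yb6 zb12) (kb xb28 yb7 zb44) (kb xb24 yb29 zb21) (kb xb23 yb37 zb58) (kb xb27 yb50 zb5) (kb xb30 yb35 zb19) (kb xb29 yb12 zb31) (kb xb25 yb41 zb29) (kb xb28 yb13 zb23) (kb xb23 yb44 zb51) (kb xb32 yb49 zb3) (kb xb32 yb55 zb19) (kb xb27 yb26 zb58) (kb xb32 yb44 zb39) (kb xb30 yb41 zb8) (kb xb23 yb38 zb28) (kb xb30 yb7 zb60) (kb xb23 yb39 zb12) (kb xb28 yb11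 zb57) (kb xb23 yb40 zb22) (kb xb23 yb39 zb6) (kb xb27 yb53 zb39) (kb xb23 yb38 zb33) (kb xb23 yb38 zb32) (kb xb32 yb55 zb44) (kb xb23 yb39 zb19) (kb xb31 yb3 zb40) (kb xb32 yb43 zb9) (kb xb31 yb59 zb3) (kb xb31 yb3 zb54) (kb xb23 yb39 zb26) (kb xb27 yb58 zb5) (kb xb23 yb38 zb37) (kb xb32 yb26 zb58) (kb xb23 yb39 zb30) (kb xb32 yb54 zb6) (kb xb31 yb2 zb24) (kb xb23 yb38 zb40) (kb xb32 yb48 zb23) (kb xb32 yb54 zb21) (kb xb30 yb41 zb47) (kb xb23 yb38 zb43) (kb xb31 yb10 zb57) (kb xb32 yb54 zb13) (kb xb23 yb39 zb59) (kb xb27 yb41 zb24) (kb xb31 yb3 zb12)) (@D3.rec (fun _ => Pt) (kb xb23 yb38 zb50) (kb xb23 yb38 zb48) (kb xb24 yb25 zb37) (kb xb29 yb11 zb15) (kb xb23 yb38 zb56) (kb xb23 yb38 zb55) (kb xb30 yb7 zb58) (kb xb26 yb47 zb33) (kb xb28 yb49 zb45) (kb xb29 yb13 zb47)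 (kb xb23 yb38 zb61) (kb xb31 yb10 zb32) (kb xb32 yb55 zb46) (kb xb32 yb30 zb31) (kb xb32 yb55 zb42) (kb xb32 yb53 zb14) (kb xb30 yb10 zb46) (kb xb23 yb39 zb10) (kb xb29 yb10 zb6) (kb xb26 yb54 zb60) (kb xb32 yb42 zb8) (kb xb31 yb4 zb20) (kb xb29 yb15 zb41) (kb xb28 yb11 zb28) (kb xb23 yb39 zb20) (kb xb29 yb9 zb44) (kb xb24 yb27 zb47) (kb xb23 yb40 zb3) (kb xb23 yb39 zb25) (kb xb25 yb53 zb49) (kb xb32 yb23 zb44) (kb xb26 yb47 zb28) (kb xb32 yb4 zb43) (kb xb31 yb38 zb2) (kb xb31 yb10 zb58) (kb xb32 yb32 zb42) (kb xb30 yb56 zb32) (kb xb29 yb5 zb21) (kb xb24 yb17 zb49) (kb xb23 yb41 zb35) (kb xb23 yb39 zb34) (kb xb30 yb55 zb9) (kb xb32 yb55 zb47) (kb xb24 yb4 zb43) (kb xb23 yb39 zb36) (kb xb30 yb4 zb52) (kb xb31 yb24 zb40) (kb xb25 yb57 zb45) (kb xb29 yb47 zb60) (kb xb23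 yb39 zb37) (kb xb24 yb4 zb44) (kb xb31 yb10 zb16) (kb xb24 yb1 zb19) (kb xb23 yb39 zb41) (kb xb23 yb39 zb42) (kb xb32 yb55 zb50) (kb xb31 yb4 zb8) (kb xb32 yb32 zb9) (kb xb23 yb39 zb43) (kb xb30 yb13 zb47) (kb xb30 yb41 zb12) (kb xb23 yb39 zb45)) (@D3.rec (fun _ => Pt) (kb xb32 yb49 zb34) (kb xb32 yb55 zb51) (kb xb30 yb6 zb10) (kb xb29 yb5 zb40) (kb xb23 yb39 zb48) (kb xb26 yb44 zb11) (kb xb28 yb30 zb49) (kb xb24 yb19 zb55) (kb xb25 yb23 zb17) (kb xb23 yb40 zb2) (kb xb28 yb13 zb35) (kb xb23 yb40 zb4) (kb xb23 yb40 zb5) (kb xb32 yb48 zb13) (kb xb24 yb33 zb48) (kb xb32 yb35 zb49) (kb xb31 yb9 zb51) (kb xb31 yb1 zb52) (kb xb32 yb42 zb28) (kb xb30 yb41 zb10) (kb xb31 yb3 zb22) (kb xb32 yb55 zb30) (kb xb31 yb4 zb15) (kb xb31 yb3 zb34) (kb xb29 yb13 zb57) (kb xb29 yb48 zb43)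 (kb xb29 yb10 zb10) (kb xb23 yb40 zb28) (kb xb27 yb4 zb39) (kb xb30 yb52 zb33) (kb xb31 yb56 zb49) (kb xb29 yb58 zb16) (kb xb31 yb9 zb11) (kb xb30 yb52 zb50) (kb xb29 yb55 zb9) (kb xb32 yb2 zb59) (kb xb30 yb14 zb3) (kb xb31 yb5 zb36) (kb xb31 yb5 zb14) (kb xb23 yb41 zb24) (kb xb30 yb43 zb48) (kb xb29 yb4 zb19) (kb xb25 yb23 zb13) (kb xb29 yb4 zb21) (kb xb29 yb3 zb47) (kb xb28 yb19 zb24) (kb xb23 yb41 zb34) (kb xb23 yb58 zb29) (kb xb23 yb41 zb4) (kb xb32 yb1 zb25) (kb xb31 yb15 zb43) (kb xb30 yb11 zb19) (kb xb23 yb41 zb12) (kb xb29 yb11 zb58) (kb xb23 yb41 zb15) (kb xb31 yb5 zb51) (kb xb31 yb49 zb39) (kb xb31 yb8 zb57) (kb xb31 yb9 zb34) (kb xb32 yb49 zb15) (kb xb31 yb47 zb27) (kb xb29 yb13 zb46)) (@D3.rec (fun _ => Pt) (kb xb23 yb41 zb29) (kb xb32 yb42 zb60) (kb xb32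 yb49 zb43) (kb xb23 yb41 zb32) (kb xb28 yb19 zb25) (kb xb31 yb46 zb8) (kb xb28 yb4 zb36) (kb xb32 yb55 zb48) (kb xb32 yb21 zb2) (kb xb23 yb41 zb37) (kb xb32 yb9 zb54) (kb xb25 yb40 zb21) (kb xb29 yb5 zb7) (kb xb23 yb41 zb43) (kb xb25 yb14 zb11) (kb xb24 yb23 zb58) (kb xb24 yb15 zb0) (kb xb23 yb41 zb47) (kb xb29 yb3 zb57) (kb xb23 yb41 zb49) (kb xb23 yb41 zb53) (kb xb32 yb55 zb31) (kb xb23 yb41 zb57) (kb xb32 yb26 zb46) (kb xb23 yb42 zb4) (kb xb30 yb41 zb46) (kb xb24 yb44 zb46) (kb xb25 yb25 zb30) (kb xb29 yb22 zb38) (kb xb25 yb54 zb9) (kb xb23 yb42 zb24) (kb xb25 yb16 zb21) (kb xb23 yb43 zb4) (kb xb30 yb42 zb19) (kb xb23 yb43 zb44) (kb xb31 yb55 zb8) (kb xb23 yb43 zb5) (kb xb24 yb33 zb33) (kb xb24 yb47 zb16) (kb xb25 yb0 zb21) (kb xb23 yb43 zb10) (kb xb31 yb44 zb36)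 (kb xb25 yb16 zb19) (kb xb25 yb1 zb23) (kb xb23 yb43 zb19) (kb xb32 yb38 zb20) (kb xb23 yb43 zb25) (kb xb32 yb55 zb57) (kb xb27 yb18 zb30) (kb xb30 yb18 zb15) (kb xb30 yb42 zb10) (kb xb25 yb14 zb41) (kb xb31 yb24 zb33) (kb xb27 yb23 zb39) (kb xb31 yb6 zb37) (kb xb25 yb42 zb51) (kb xb32 yb23 zb53) (kb xb32 yb55 zb58) (kb xb24 yb33 zb60) (kb xb29 yb14 zb24) (kb xb23 yb43 zb59) (kb xb28 yb4 zb15)) (@D3.rec (fun _ => Pt) (kb xb23 yb43 zb58) (kb xb27 yb28 zb7) (kb xb31 yb59 zb29) (kb xb31 yb44 zb37) (kb xb26 yb0 zb54) (kb xb23 yb44 zb27) (kb xb30 yb58 zb58) (kb xb30 yb58 zb52) (kb xb31 yb56 zb41) (kb xb23 yb44 zb58) (kb xb23 yb45 zb0) (kb xb31 yb4 zb55) (kb xb30 yb13 zb17) (kb xb30 yb50 zb7) (kb xb28 yb49 zb35) (kb xb25 yb44 zb7) (kb xb23 yb44 zb59) (kb xb23 yb45 zb2) (kb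 xb32 yb5 zb4) (kb xb23 yb45 zb5) (kb xb28 yb2 zb34) (kb xb31 yb6 zb52) (kb xb30 yb31 zb36) (kb xb32 yb54 zb58) (kb xb32 yb32 zb25) (kb xb27 yb3 zb16) (kb xb32 yb14 zb39) (kb xb28 yb50 zb56) (kb xb26 yb55 zb52) (kb xb23 yb45 zb38) (kb xb31 yb1 zb50) (kb xb23 yb52 zb43) (kb xb23 yb49 zb5) (kb xb23 yb45 zb37) (kb xb23 yb45 zb44) (kb xb23 yb45 zb43) (kb xb30 yb35 zb28) (kb xb32 yb45 zb14) (kb xb24 yb21 zb46) (kb xb23 yb45 zb49) (kb xb29 yb31 zb16) (kb xb23 yb45 zb59) (kb xb24 yb9 zb57) (kb xb28 yb55 zb51) (kb xb30 yb29 zb23) (kb xb23 yb46 zb1) (kb xb26 yb56 zb33) (kb xb32 yb45 zb13) (kb xb23 yb46 zb6) (kb xb30 yb44 zb18) (kb xb27 yb7 zb30) (kb xb24 yb21 zb31) (kb xb30 yb31 zb19) (kb xb23 yb46 zb12) (kb xb32 yb18 zb34) (kb xb32 yb21 zb6) (kb xb23 yb49 zb35) (kb xb29 yb55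 zb6) (kb xb30 yb21 zb55) (kb xb23 yb46 zb34) (kb xb30 yb13 zb12) (kb xb23 yb46 zb40)) (@D3.rec (fun _ => Pt) (kb xb29 yb3 zb27) (kb xb25 yb32 zb8) (kb xb24 yb32 zb61) (kb xb29 yb4 zb5) (kb xb24 yb18 zb27) (kb xb27 yb25 zb15) (kb xb29 yb35 zb47) (kb xb32 yb37 zb8) (kb xb29 yb35 zb50) (kb xb32 yb56 zb0) (kb xb32 yb52 zb56) (kb xb32 yb20 zb10) (kb xb30 yb23 zb9) (kb xb29 yb35 zb19) (kb xb27 yb6 zb52) (kb xb32 yb50 zb24) (kb xb23 yb47 zb29) (kb xb24 yb6 zb18) (kb xb29 yb49 zb22) (kb xb29 yb0 zb55) (kb xb27 yb17 zb23) (kb xb30 yb46 zb56) (kb xb23 yb47 zb40) (kb xb30 yb37 zb10) (kb xb28 yb50 zb29) (kb xb23 yb47 zb49) (kb xb23 yb47 zb57) (kb xb32 yb56 zb2) (kb xb30 yb23 zb47) (kb xb24 yb5 zb22) (kb xb30 yb38 zb14) (kb xb23 yb47 zb60) (kb xb28 yb45 zb2) (kb xb23 yb48 zb5) (kb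 xb32 yb48 zb0) (kb xb23 yb48 zb7) (kb xb32 yb53 zb19) (kb xb29 yb36 zb50) (kb xb23 yb48 zb12) (kb xb32 yb52 zb58) (kb xb32 yb53 zb21) (kb xb23 yb48 zb16) (kb xb31 yb15 zb40) (kb xb30 yb50 zb40) (kb xb24 yb10 zb48) (kb xb30 yb5 zb8) (kb xb32 yb52 zb53) (kb xb32 yb56 zb3) (kb xb32 yb40 zb35) (kb xb23 yb48 zb36) (kb xb29 yb8 zb54) (kb xb31 yb19 zb27) (kb xb23 yb48 zb54) (kb xb32 yb52 zb2) (kb xb23 yb52 zb49) (kb xb32 yb39 zb52) (kb xb23 yb48 zb58) (kb xb32 yb22 zb43) (kb xb32 yb56 zb8) (kb xb25 yb30 zb48) (kb xb23 yb49 zb6) (kb xb23 yb49 zb7)) (@D3.rec (fun _ => Pt) (kb xb31 yb20 zb33) (kb xb32 yb21 zb47) (kb xb26 yb35 zb4) (kb xb30 yb15 zb59) (kb xb30 yb22 zb28) (kb xb23 yb49 zb18) (kb xb28 yb48 zb48) (kb xb23 yb49 zb17) (kb xb32 yb44 zb23) (kb xb25 yb27 zb37) (kb xb25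 yb9 zb27) (kb xb32 yb43 zb59) (kb xb31 yb35 zb49) (kb xb28 yb35 zb4) (kb xb24 yb21 zb10) (kb xb28 yb47 zb51) (kb xb27 yb6 zb28) (kb xb27 yb56 zb26) (kb xb27 yb5 zb41) (kb xb27 yb40 zb18) (kb xb27 yb31 zb4) (kb xb25 yb18 zb52) (kb xb32 yb28 zb51) (kb xb31 yb49 zb21) (kb xb27 yb59 zb58) (kb xb26 yb18 zb26) (kb xb23 yb50 zb11) (kb xb32 yb25 zb5) (kb xb28 yb6 zb1) (kb xb30 yb31 zb55) (kb xb31 yb53 zb60) (kb xb25 yb15 zb44) (kb xb30 yb14 zb24) (kb xb25 yb45 zb60) (kb xb23 yb50 zb23) (kb xb30 yb24 zb15) (kb xb28 yb20 zb49) (kb xb30 yb24 zb50) (kb xb23 yb50 zb29) (kb xb23 yb51 zb36) (kb xb24 yb48 zb6) (kb xb28 yb5 zb13) (kb xb28 yb6 zb5) (kb xb23 yb50 zb34) (kb xb32 yb6 zb34) (kb xb27 yb30 zb61) (kb xb27 yb48 zb46) (kb xb26 yb12 zb48) (kb xb23 yb50 zb46) (kb xb28 yb6 zb7)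 (kb xb32 yb53 zb31) (kb xb29 yb54 zb16) (kb xb32 yb25 zb38) (kb xb23 yb50 zb55) (kb xb23 yb50 zb56) (kb xb32 yb28 zb21) (kb xb29 yb31 zb60) (kb xb32 yb53 zb33) (kb xb32 yb56 zb10) (kb xb32 yb25 zb27) (kb xb28 yb3 zb27) (kb xb29 yb51 zb57)) (@D3.rec (fun _ => Pt) (kb xb26 yb38 zb60) (kb xb28 yb39 zb45) (kb xb27 yb7 zb17) (kb xb32 yb30 zb28) (kb xb30 yb22 zb58) (kb xb32 yb26 zb38) (kb xb28 yb6 zb9) (kb xb23 yb51 zb17) (kb xb27 yb47 zb45) (kb xb31 yb42 zb21) (kb xb31 yb18 zb7) (kb xb28 yb46 zb38) (kb xb31 yb21 zb41) (kb xb32 yb56 zb13) (kb xb23 yb51 zb35) (kb xb32 yb35 zb40) (kb xb32 yb56 zb15) (kb xb32 yb41 zb39) (kb xb31 yb31 zb22) (kb xb30 yb28 zb51) (kb xb27 yb8 zb33) (kb xb23 yb51 zb34) (kb xb23 yb51 zb37) (kb xb32 yb34 zb58) (kb xb27 yb34 zb17) (kb xb23 yb51 zb40)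 (kb xb26 yb31 zb4) (kb xb32 yb10 zb21) (kb xb30 yb25 zb5) (kb xb28 yb46 zb47) (kb xb24 yb39 zb16) (kb xb28 yb31 zb36) (kb xb32 yb30 zb25) (kb xb23 yb51 zb50) (kb xb23 yb51 zb55) (kb xb24 yb31 zb8) (kb xb23 yb52 zb1) (kb xb31 yb16 zb2) (kb xb27 yb59 zb44) (kb xb27 yb28 zb56) (kb xb31 yb13 zb42) (kb xb28 yb28 zb56) (kb xb23 yb52 zb31) (kb xb31 yb10 zb50) (kb xb30 yb49 zb45) (kb xb30 yb20 zb59) (kb xb31 yb24 zb13) (kb xb32 yb20 zb13) (kb xb30 yb23 zb45) (kb xb30 yb50 zb50) (kb xb26 yb57 zb58) (kb xb32 yb24 zb15) (kb xb27 yb52 zb56) (kb xb23 yb53 zb10) (kb xb24 yb12 zb39) (kb xb29 yb36 zb47) (kb xb23 yb53 zb18) (kb xb23 yb54 zb17) (kb xb30 yb26 zb32) (kb xb32 yb2 zb12) (kb xb23 yb59 zb56) (kb xb23 yb53 zb30)) (@D3.rec (fun _ => Pt) (kb xb32 yb2 zb40) (kb xb30 yb36 zb9)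 (kb xb31 yb15 zb37) (kb xb31 yb37 zb12) (kb xb31 yb25 zb10) (kb xb29 yb14 zb57) (kb xb28 yb28 zb51) (kb xb25 yb58 zb0) (kb xb27 yb59 zb25) (kb xb23 yb53 zb44) (kb xb28 yb25 zb27) (kb xb28 yb58 zb61) (kb xb29 yb36 zb53) (kb xb27 yb15 zb55) (kb xb25 yb58 zb15) (kb xb27 yb6 zb27) (kb xb31 yb40 zb16) (kb xb27 yb51 zb10) (kb xb27 yb9 zb60) (kb xb29 yb25 zb28) (kb xb23 yb54 zb10) (kb xb29 yb30 zb38) (kb xb30 yb24 zb4) (kb xb28 yb37 zb27) (kb xb23 yb54 zb18) (kb xb32 yb24 zb46) (kb xb25 yb18 zb42) (kb xb32 yb14 zb48) (kb xb23 yb54 zb23) (kb xb23 yb54 zb24) (kb xb32 yb56 zb19) (kb xb30 yb23 zb56) (kb xb30 yb21 zb4) (kb xb31 yb49 zb20) (kb xb30 yb47 zb35) (kb xb23 yb54 zb27) (kb xb32 yb56 zb20) (kb xb24 yb13 zb20) (kb xb23 yb54 zb29) (kb xb31 yb58 zb47) (kb xb28 yb31 zb56) (kb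 xb32 yb1 zb40) (kb xb27 yb51 zb36) (kb xb32 yb49 zb26) (kb xb32 yb44 zb15) (kb xb29 yb27 zb21) (kb xb31 yb59 zb36) (kb xb25 yb30 zb35) (kb xb27 yb14 zb22) (kb xb30 yb55 zb29) (kb xb25 yb30 zb25) (kb xb29 yb41 zb28) (kb xb32 yb2 zb56) (kb xb31 yb3 zb30) (kb xb25 yb7 zb23) (kb xb27 yb9 zb53) (kb xb23 yb54 zb56) (kb xb32 yb56 zb22) (kb xb23 yb54 zb58) (kb xb31 yb57 zb35) (kb xb32 yb28 zb8) (kb xb31 yb58 zb45)) (@D3.rec (fun _ => Pt) (kb xb31 yb58 zb33) (kb xb23 yb55 zb6) (kb xb32 yb3 zb5) (kb xb25 yb32 zb51) (kb xb29 yb35 zb9) (kb xb32 yb49 zb38) (kb xb23 yb55 zb32) (kb xb23 yb55 zb31) (kb xb24 yb2 zb42) (kb xb23 yb55 zb40) (kb xb29 yb15 zb13) (kb xb23 yb55 zb44) (kb xb32 yb27 zb15) (kb xb31 yb24 zb35) (kb xb24 yb39 zb20) (kb xb25 yb42 zb4) (kb xb23 yb55 zb50) (kb xb24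 yb4 zb30) (kb xb31 yb24 zb42) (kb xb30 yb39 zb13) (kb xb23 yb55 zb55) (kb xb28 yb45 zb0) (kb xb23 yb56 zb0) (kb xb23 yb55 zb61) (kb xb23 yb56 zb1) (kb xb24 yb7 zb1) (kb xb24 yb7 zb2) (kb xb23 yb56 zb13) (kb xb24 yb18 zb42) (kb xb30 yb49 zb39) (kb xb32 yb34 zb59) (kb xb31 yb27 zb19) (kb xb29 yb2 zb7) (kb xb25 yb4 zb52) (kb xb25 yb14 zb26) (kb xb23 yb56 zb36) (kb xb28 yb19 zb44) (kb xb28 yb44 zb30) (kb xb25 yb24 zb11) (kb xb23 yb56 zb44) (kb xb23 yb56 zb43) (kb xb28 yb34 zb34) (kb xb23 yb56 zb54) (kb xb24 yb4 zb49) (kb xb28 yb29 zb29) (kb xb26 yb56 zb41) (kb xb30 yb49 zb54) (kb xb24 yb13 zb4) (kb xb23 yb57 zb17) (kb xb28 yb17 zb17) (kb xb27 yb15 zb7) (kb xb29 yb44 zb61) (kb xb31 yb41 zb37) (kb xb23 yb57 zb22) (kb xb24 yb26 zb15) (kb xb23 yb57 zb26) (kb xb29 yb40 zb42)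 (kb xb28 yb39 zb24) (kb xb23 yb57 zb32) (kb xb28 yb39 zb39) (kb xb28 yb24 zb11) (kb xb32 yb56 zb24)) (@D3.rec (fun _ => Pt) (kb xb32 yb11 zb57) (kb xb23 yb58 zb25) (kb xb30 yb11 zb47) (kb xb23 yb57 zb50) (kb xb30 yb14 zb54) (kb xb32 yb52 zb27) (kb xb23 yb57 zb61) (kb xb31 yb15 zb10) (kb xb30 yb37 zb0) (kb xb26 yb54 zb48) (kb xb23 yb58 zb12) (kb xb31 yb52 zb53) (kb xb26 yb54 zb18) (kb xb28 yb4 zb55) (kb xb26 yb42 zb48) (kb xb28 yb38 zb33) (kb xb32 yb16 zb36) (kb xb25 yb37 zb9) (kb xb26 yb1 zb39) (kb xb25 yb9 zb54) (kb xb29 yb9 zb38) (kb xb31 yb57 zb3) (kb xb25 yb45 zb3) (kb xb23 yb59 zb3) (kb xb23 yb59 zb8) (kb xb32 yb38 zb23) (kb xb30 yb4 zb32) (kb xb23 yb59 zb17) (kb xb32 yb48 zb26) (kb xb23 yb59 zb26) (kb xb23 yb59 zb27) (kb xb23 yb59 zb33) (kb xb25 yb18 zb43) (kb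 xb32 yb11 zb44) (kb xb24 yb33 zb7) (kb xb27 yb43 zb32) (kb xb23 yb59 zb41) (kb xb29 yb44 zb48) (kb xb28 yb51 zb16) (kb xb31 yb22 zb9) (kb xb23 yb59 zb50) (kb xb24 yb26 zb28) (kb xb24 yb0 zb0) (kb xb29 yb23 zb24) (kb xb24 yb39 zb12) (kb xb32 yb53 zb10) (kb xb30 yb23 zb49) (kb xb23 yb59 zb57) (kb xb30 yb8 zb1) (kb xb31 yb29 zb35) (kb xb24 yb39 zb45) (kb xb24 yb0 zb1) (kb xb23 yb59 zb61) (kb xb28 yb29 zb23) (kb xb24 yb27 zb14) (kb xb29 yb48 zb49) (kb xb31 yb29 zb38) (kb xb28 yb35 zb59) (kb xb24 yb0 zb6) (kb xb24 yb0 zb14) (kb xb26 yb39 zb6) (kb xb26 yb40 zb13)) (@D3.rec (fun _ => Pt) (kb xb28 yb34 zb3) (kb xb24 yb0 zb18) (kb xb26 yb59 zb39) (kb xb26 yb38 zb54) (kb xb26 yb38 zb55) (kb xb26 yb38 zb44) (kb xb29 yb45 zb0) (kb xb26 yb38 zb58) (kb xb26 yb33 zb41) (kb xb31 yb48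 zb55) (kb xb24 yb32 zb58) (kb xb31 yb32 zb52) (kb xb28 yb30 zb53) (kb xb26 yb56 zb59) (kb xb24 yb0 zb34) (kb xb27 yb10 zb4) (kb xb24 yb0 zb47) (kb xb32 yb36 zb11) (kb xb31 yb34 zb11) (kb xb30 yb22 zb26) (kb xb29 yb55 zb47) (kb xb29 yb40 zb6) (kb xb28 yb35 zb9) (kb xb30 yb25 zb61) (kb xb24 yb0 zb59) (kb xb32 yb52 zb45) (kb xb30 yb26 zb0) (kb xb31 yb13 zb51) (kb xb32 yb18 zb24) (kb xb31 yb52 zb41) (kb xb30 yb30 zb51) (kb xb30 yb31 zb23) (kb xb24 yb1 zb3) (kb xb24 yb1 zb2) (kb xb30 yb28 zb4) (kb xb28 yb52 zb31) (kb xb30 yb30 zb13) (kb xb29 yb45 zb26) (kb xb24 yb1 zb16) (kb xb24 yb1 zb18) (kb xb25 yb9 zb24) (kb xb32 yb27 zb25) (kb xb31 yb40 zb59) (kb xb29 yb10 zb44) (kb xb24 yb1 zb31) (kb xb32 yb37 zb41) (kb xb32 yb12 zb47) (kb xb24 yb1 zb33) (kb xb32 yb56 zb31) (kb xb31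 yb27 zb10) (kb xb24 yb12 zb24) (kb xb32 yb48 zb30) (kb xb24 yb1 zb50) (kb xb30 yb19 zb12) (kb xb29 yb35 zb10) (kb xb26 yb53 zb0) (kb xb32 yb56 zb32) (kb xb29 yb35 zb1) (kb xb32 yb52 zb1) (kb xb27 yb8 zb26) (kb xb31 yb52 zb23) (kb xb32 yb51 zb50)) (@D3.rec (fun _ => Pt) (kb xb27 yb8 zb31) (kb xb32 yb37 zb59) (kb xb30 yb54 zb23) (kb xb32 yb50 zb4) (kb xb32 yb44 zb17) (kb xb31 yb40 zb7) (kb xb24 yb2 zb15) (kb xb27 yb8 zb14) (kb xb24 yb2 zb9) (kb xb30 yb37 zb30) (kb xb27 yb8 zb18) (kb xb24 yb2 zb14) (kb xb32 yb9 zb2) (kb xb32 yb10 zb56) (kb xb28 yb51 zb34) (kb xb26 yb46 zb44) (kb xb24 yb2 zb23) (kb xb32 yb51 zb4) (kb xb24 yb2 zb24) (kb xb32 yb41 zb21) (kb xb31 yb27 zb7) (kb xb24 yb28 zb51) (kb xb24 yb2 zb39) (kb xb31 yb36 zb6) (kb xb29 yb58 zb59) (kb xb29 yb16 zb49) (kb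 xb31 yb36 zb58) (kb xb24 yb2 zb37) (kb xb24 yb2 zb38) (kb xb32 yb23 zb57) (kb xb27 yb7 zb57) (kb xb32 yb14 zb25) (kb xb30 yb17 zb33) (kb xb31 yb14 zb0) (kb xb25 yb37 zb26) (kb xb31 yb28 zb35) (kb xb24 yb2 zb47) (kb xb32 yb14 zb30) (kb xb32 yb2 zb16) (kb xb24 yb34 zb54) (kb xb24 yb2 zb61) (kb xb24 yb3 zb0) (kb xb30 yb28 zb61) (kb xb25 yb15 zb9) (kb xb27 yb17 zb3) (kb xb24 yb2 zb59) (kb xb32 yb10 zb35) (kb xb24 yb3 zb6) (kb xb31 yb51 zb36) (kb xb24 yb48 zb57) (kb xb24 yb3 zb10) (kb xb24 yb3 zb9) (kb xb25 yb12 zb29) (kb xb28 yb20 zb33) (kb xb29 yb25 zb48) (kb xb24 yb3 zb16) (kb xb30 yb9 zb44) (kb xb24 yb3 zb18) (kb xb30 yb44 zb3) (kb xb24 yb3 zb20) (kb xb32 yb2 zb45) (kb xb28 yb46 zb59)) (@D3.rec (fun _ => Pt) (kb xb24 yb3 zb23) (kb xb30 yb15 zb49) (kb xb24 yb3 zb26) (kb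 xb29 yb34 zb12) (kb xb31 yb46 zb44) (kb xb24 yb3 zb28) (kb xb31 yb47 zb35) (kb xb24 yb26 zb24) (kb xb29 yb7 zb61) (kb xb24 yb3 zb37) (kb xb31 yb40 zb34) (kb xb32 yb36 zb42) (kb xb28 yb42 zb38) (kb xb32 yb54 zb41) (kb xb31 yb40 zb38) (kb xb31 yb50 zb13) (kb xb29 yb14 zb20) (kb xb29 yb42 zb56) (kb xb24 yb3 zb50) (kb xb32 yb46 zb1) (kb xb25 yb21 zb58) (kb xb31 yb34 zb28) (kb xb26 yb2 zb0) (kb xb25 yb19 zb26) (kb xb25 yb21 zb44) (kb xb24 yb3 zb55) (kb xb24 yb3 zb56) (kb xb29 yb27 zb17) (kb xb31 yb40 zb32) (kb xb29 yb2 zb43) (kb xb29 yb36 zb1) (kb xb28 yb45 zb20) (kb xb29 yb36 zb61) (kb xb29 yb39 zb2) (kb xb28 yb59 zb52) (kb xb29 yb36 zb36) (kb xb27 yb8 zb22) (kb xb24 yb4 zb9) (kb xb32 yb19 zb60) (kb xb24 yb4 zb5) (kb xb25 yb24 zb55) (kb xb31 yb15 zb12) (kb xb29 yb34 zb2)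 (kb xb30 yb12 zb7) (kb xb26 yb57 zb12) (kb xb30 yb27 zb9) (kb xb26 yb36 zb27) (kb xb29 yb31 zb25) (kb xb24 yb4 zb15) (kb xb24 yb4 zb16) (kb xb26 yb36 zb29) (kb xb29 yb9 zb30) (kb xb25 yb40 zb35) (kb xb26 yb52 zb57) (kb xb31 yb28 zb26) (kb xb24 yb4 zb26) (kb xb24 yb4 zb24) (kb xb24 yb16 zb7) (kb xb25 yb24 zb21) (kb xb31 yb52 zb34) (kb xb32 yb47 zb57) (kb xb26 yb34 zb21)) (@D3.rec (fun _ => Pt) (kb xb24 yb4 zb33) (kb xb24 yb4 zb34) (kb xb32 yb17 zb59) (kb xb32 yb46 zb55) (kb xb24 yb57 zb8) (kb xb30 yb9 zb7) (kb xb30 yb10 zb4) (kb xb24 yb17 zb36) (kb xb25 yb5 zb24) (kb xb31 yb18 zb39) (kb xb28 yb40 zb5) (kb xb29 yb35 zb11) (kb xb24 yb4 zb56) (kb xb24 yb5 zb4) (kb xb29 yb41 zb40) (kb xb24 yb5 zb16) (kb xb29 yb9 zb37) (kb xb32 yb41 zb18) (kb xb24 yb5 zb19) (kb xb24 yb5 zb21)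 (kb xb30 yb15 zb9) (kb xb24 yb5 zb25) (kb xb26 yb20 zb29) (kb xb29 yb34 zb40) (kb xb24 yb5 zb36) (kb xb32 yb56 zb29) (kb xb24 yb5 zb46) (kb xb32 yb34 zb40) (kb xb29 yb2 zb59) (kb xb29 yb20 zb17) (kb xb32 yb30 zb54) (kb xb28 yb24 zb4) (kb xb27 yb8 zb0) (kb xb29 yb25 zb46) (kb xb30 yb36 zb26) (kb xb27 yb8 zb42) (kb xb24 yb6 zb3) (kb xb32 yb56 zb44) (kb xb29 yb21 zb29) (kb xb30 yb20 zb44) (kb xb24 yb6 zb6) (kb xb30 yb46 zb35) (kb xb27 yb2 zb14) (kb xb28 yb25 zb16) (kb xb24 yb14 zb29) (kb xb24 yb20 zb30) (kb xb24 yb7 zb42) (kb xb30 yb37 zb45) (kb xb24 yb8 zb15) (kb xb29 yb1 zb11) (kb xb24 yb6 zb30) (kb xb32 yb51 zb54) (kb xb32 yb33 zb57) (kb xb24 yb6 zb32) (kb xb32 yb8 zb14) (kb xb32 yb54 zb46) (kb xb30 yb38 zb51) (kb xb24 yb6 zb44) (kb xb28 yb24 zb50) (kb xb24 yb8 zb36)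 (kb xb30 yb21 zb61) (kb xb28 yb33 zb3)) (@D3.rec (fun _ => Pt) (kb xb32 yb51 zb35) (kb xb29 yb27 zb50) (kb xb30 yb44 zb0) (kb xb24 yb12 zb15) (kb xb24 yb6 zb52) (kb xb30 yb50 zb0) (kb xb32 yb20 zb44) (kb xb31 yb28 zb9) (kb xb30 yb50 zb36) (kb xb24 yb7 zb0) (kb xb24 yb6 zb58) (kb xb24 yb6 zb59) (kb xb28 yb51 zb51) (kb xb30 yb38 zb6) (kb xb24 yb12 zb28) (kb xb30 yb53 zb20) (kb xb28 yb24 zb33) (kb xb25 yb7 zb9) (kb xb25 yb33 zb22) (kb xb25 yb24 zb60) (kb xb32 yb7 zb11) (kb xb28 yb26 zb50) (kb xb29 yb1 zb59) (kb xb28 yb33 zb55) (kb xb25 yb29 zb24) (kb xb25 yb36 zb23) (kb xb28 yb57 zb54) (kb xb29 yb4 zb14) (kb xb25 yb36 zb11) (kb xb27 yb42 zb8) (kb xb25 yb34 zb17) (kb xb24 yb8 zb2) (kb xb26 yb42 zb4) (kb xb30 yb48 zb57) (kb xb29 yb54 zb49) (kb xb30 yb24 zb9) (kb xb26 yb24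 zb20) (kb xb28 yb30 zb57) (kb xb28 yb8 zb34) (kb xb25 yb50 zb51) (kb xb25 yb5 zb28) (kb xb32 yb44 zb10) (kb xb32 yb54 zb44) (kb xb28 yb56 zb22) (kb xb30 yb45 zb18) (kb xb24 yb9 zb12) (kb xb24 yb9 zb11) (kb xb28 yb21 zb4) (kb xb30 yb53 zb11) (kb xb24 yb13 zb41) (kb xb27 yb56 zb54) (kb xb29 yb24 zb6) (kb xb24 yb9 zb54) (kb xb28 yb42 zb1) (kb xb30 yb36 zb29) (kb xb24 yb9 zb60) (kb xb31 yb48 zb27) (kb xb32 yb50 zb41) (kb xb24 yb22 zb7) (kb xb25 yb49 zb30) (kb xb30 yb26 zb61) (kb xb32 yb21 zb49)) (@D3.rec (fun _ => Pt) (kb xb24 yb50 zb21) (kb xb24 yb10 zb49) (kb xb30 yb41 zb28) (kb xb31 yb35 zb50) (kb xb24 yb10 zb51) (kb xb31 yb28 zb5) (kb xb32 yb16 zb57) (kb xb28 yb51 zb52) (kb xb32 yb35 zb58) (kb xb31 yb29 zb59) (kb xb30 yb29 zb18) (kb xb24 yb10 zb61) (kb xb32 yb16 zb55)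 (kb xb31 yb15 zb46) (kb xb32 yb17 zb41) (kb xb27 yb13 zb46) (kb xb32 yb16 zb56) (kb xb30 yb9 zb15) (kb xb24 yb11 zb11) (kb xb25 yb44 zb29) (kb xb25 yb15 zb11) (kb xb29 yb47 zb29) (kb xb28 yb57 zb32) (kb xb28 yb59 zb54) (kb xb26 yb39 zb32) (kb xb24 yb11 zb22) (kb xb24 yb11 zb23) (kb xb26 yb37 zb7) (kb xb24 yb11 zb25) (kb xb30 yb39 zb7) (kb xb27 yb17 zb12) (kb xb29 yb14 zb16) (kb xb26 yb42 zb16) (kb xb31 yb11 zb52) (kb xb26 yb53 zb39) (kb xb31 yb17 zb13) (kb xb24 yb11 zb45) (kb xb31 yb26 zb55) (kb xb31 yb49 zb0) (kb xb27 yb29 zb29) (kb xb31 yb9 zb46) (kb xb31 yb35 zb0) (kb xb31 yb17 zb18) (kb xb29 yb47 zb3) (kb xb24 yb11 zb50) (kb xb24 yb11 zb51) (kb xb31 yb57 zb17) (kb xb31 yb45 zb43) (kb xb25 yb29 zb3) (kb xb24 yb11 zb59) (kb xb32 yb50 zb39) (kb xb24 yb12 zb2) (kb xb24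 yb12 zb4) (kb xb28 yb30 zb11) (kb xb30 yb25 zb41) (kb xb32 yb55 zb1) (kb xb24 yb24 zb24) (kb xb26 yb38 zb61) (kb xb29 yb20 zb48) (kb xb24 yb12 zb11) (kb xb28 yb7 zb16) (kb xb30 yb49 zb25)) (@D3.rec (fun _ => Pt) (kb xb24 yb13 zb15) (kb xb24 yb13 zb21) (kb xb24 yb12 zb18) (kb xb32 yb9 zb14) (kb xb24 yb12 zb23) (kb xb30 yb8 zb6) (kb xb24 yb12 zb29) (kb xb27 yb53 zb21) (kb xb27 yb15 zb6) (kb xb24 yb13 zb37) (kb xb31 yb16 zb4) (kb xb28 yb24 zb58) (kb xb24 yb12 zb43) (kb xb29 yb31 zb45) (kb xb31 yb1 zb5) (kb xb28 yb46 zb56) (kb xb32 yb53 zb37) (kb xb32 yb1 zb33) (kb xb32 yb9 zb33) (kb xb32 yb28 zb41) (kb xb26 yb31 zb30) (kb xb32 yb37 zb14) (kb xb28 yb50 zb12) (kb xb30 yb43 zb10) (kb xb24 yb13 zb5) (kb xb24 yb13 zb6) (kb xb24 yb13 zb3) (kb xb31 yb30 zb27) (kb xb32 yb56 zb43)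 (kb xb24 yb13 zb10) (kb xb32 yb54 zb39) (kb xb32 yb56 zb53) (kb xb32 yb44 zb6) (kb xb30 yb50 zb9) (kb xb28 yb8 zb29) (kb xb24 yb13 zb18) (kb xb30 yb48 zb0) (kb xb32 yb56 zb55) (kb xb32 yb48 zb31) (kb xb29 yb20 zb40) (kb xb24 yb13 zb27) (kb xb24 yb13 zb29) (kb xb24 yb13 zb24) (kb xb32 yb36 zb46) (kb xb26 yb23 zb60) (kb xb25 yb43 zb23) (kb xb31 yb54 zb5) (kb xb30 yb37 zb7) (kb xb31 yb54 zb35) (kb xb31 yb36 zb3) (kb xb28 yb21 zb23) (kb xb24 yb13 zb49) (kb xb24 yb13 zb50) (kb xb31 yb33 zb30) (kb xb24 yb13 zb58) (kb xb26 yb53 zb5) (kb xb30 yb49 zb26) (kb xb32 yb54 zb53) (kb xb30 yb6 zb33) (kb xb30 yb6 zb28) (kb xb24 yb17 zb7) (kb xb31 yb48 zb39)) (@D3.rec (fun _ => Pt) (kb xb26 yb38 zb48) (kb xb25 yb50 zb44) (kb xb26 yb33 zb13) (kb xb26 yb34 zb12) (kb xb32 yb19 zb10) (kb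 xb25 yb4 zb53) (kb xb24 yb14 zb39) (kb xb31 yb50 zb27) (kb xb31 yb52 zb43) (kb xb24 yb14 zb40) (kb xb29 yb45 zb60) (kb xb24 yb53 zb25) (kb xb24 yb53 zb24) (kb xb29 yb46 zb36) (kb xb29 yb44 zb38) (kb xb24 yb14 zb45) (kb xb32 yb45 zb6) (kb xb24 yb30 zb28) (kb xb32 yb20 zb58) (kb xb30 yb9 zb36) (kb xb25 yb32 zb12) (kb xb27 yb19 zb29) (kb xb30 yb11 zb15) (kb xb24 yb14 zb58) (kb xb31 yb51 zb29) (kb xb32 yb55 zb54) (kb xb29 yb4 zb25) (kb xb32 yb47 zb16) (kb xb31 yb53 zb44) (kb xb24 yb15 zb11) (kb xb31 yb48 zb41) (kb xb31 yb46 zb15) (kb xb28 yb33 zb1) (kb xb24 yb15 zb16) (kb xb31 yb47 zb51) (kb xb24 yb17 zb16) (kb xb24 yb15 zb14) (kb xb32 yb14 zb41) (kb xb24 yb15 zb19) (kb xb25 yb13 zb10) (kb xb29 yb8 zb6) (kb xb24 yb15 zb47) (kb xb24 yb15 zb48) (kb xb30 yb10 zb13) (kb xb31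 yb8 zb11) (kb xb29 yb41 zb55) (kb xb24 yb15 zb49) (kb xb32 yb4 zb9) (kb xb29 yb58 zb57) (kb xb29 yb4 zb60) (kb xb24 yb37 zb31) (kb xb26 yb28 zb42) (kb xb28 yb53 zb49) (kb xb24 yb16 zb5) (kb xb31 yb52 zb45) (kb xb31 yb24 zb37) (kb xb31 yb48 zb32) (kb xb29 yb27 zb37) (kb xb25 yb52 zb20) (kb xb31 yb50 zb34) (kb xb24 yb50 zb5) (kb xb25 yb56 zb35)) (@D3.rec (fun _ => Pt) (kb xb29 yb5 zb48) (kb xb24 yb16 zb30) (kb xb32 yb24 zb31) (kb xb26 yb44 zb29) (kb xb28 yb41 zb61) (kb xb28 yb29 zb46) (kb xb27 yb23 zb50) (kb xb31 yb20 zb20) (kb xb25 yb12 zb36) (kb xb24 yb16 zb43) (kb xb31 yb19 zb49) (kb xb24 yb16 zb46) (kb xb25 yb34 zb25) (kb xb25 yb36 zb51) (kb xb31 yb58 zb53) (kb xb28 yb19 zb43) (kb xb25 yb44 zb5) (kb xb25 yb22 zb53) (kb xb24 yb16 zb59) (kb xb31 yb17 zb31) (kb xb31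 yb56 zb31) (kb xb24 yb17 zb6) (kb xb32 yb57 zb2) (kb xb30 yb18 zb41) (kb xb28 yb29 zb50) (kb xb31 yb50 zb58) (kb xb32 yb57 zb1) (kb xb24 yb17 zb9) (kb xb32 yb39 zb55) (kb xb24 yb17 zb11) (kb xb26 yb35 zb61) (kb xb24 yb20 zb43) (kb xb27 yb23 zb5) (kb xb29 yb12 zb52) (kb xb30 yb19 zb29) (kb xb32 yb54 zb8) (kb xb32 yb7 zb13) (kb xb24 yb17 zb25) (kb xb30 yb19 zb22) (kb xb32 yb55 zb7) (kb xb24 yb40 zb2) (kb xb31 yb49 zb9) (kb xb24 yb35 zb56) (kb xb32 yb53 zb61) (kb xb31 yb3 zb37) (kb xb29 yb47 zb58) (kb xb27 yb54 zb50) (kb xb27 yb7 zb52) (kb xb28 yb27 zb29) (kb xb32 yb49 zb42) (kb xb24 yb17 zb45) (kb xb31 yb1 zb61) (kb xb30 yb36 zb2) (kb xb32 yb3 zb52) (kb xb32 yb57 zb6) (kb xb24 yb17 zb47) (kb xb27 yb4 zb61) (kb xb28 yb34 zb0) (kb xb24 yb36 zb40) (kb xb24 yb18 zb14) (kb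 xb30 yb44 zb56) (kb xb28 yb16 zb25)) (@D3.rec (fun _ => Pt) (kb xb31 yb42 zb61) (kb xb26 yb45 zb36) (kb xb32 yb56 zb37) (kb xb24 yb18 zb43) (kb xb24 yb18 zb59) (kb xb31 yb24 zb5) (kb xb26 yb43 zb31) (kb xb25 yb24 zb3) (kb xb32 yb49 zb59) (kb xb31 yb23 zb7) (kb xb32 yb27 zb56) (kb xb25 yb11 zb10) (kb xb27 yb37 zb24) (kb xb32 yb56 zb48) (kb xb28 yb58 zb46) (kb xb24 yb19 zb8) (kb xb30 yb14 zb42) (kb xb24 yb19 zb13) (kb xb31 yb41 zb30) (kb xb24 yb19 zb18) (kb xb24 yb19 zb19) (kb xb25 yb20 zb50) (kb xb24 yb19 zb22) (kb xb29 yb1 zb20) (kb xb29 yb1 zb3) (kb xb31 yb58 zb29) (kb xb31 yb21 zb54) (kb xb32 yb18 zb33) (kb xb29 yb39 zb0) (kb xb31 yb32 zb12) (kb xb31 yb31 zb44) (kb xb24 yb19 zb33) (kb xb32 yb54 zb40) (kb xb28 yb48 zb2) (kb xb28 yb50 zb17) (kb xb31 yb20 zb35) (kb xb28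 yb44 zb15) (kb xb24 yb19 zb36) (kb xb24 yb50 zb34) (kb xb29 yb3 zb24) (kb xb26 yb57 zb4) (kb xb24 yb19 zb42) (kb xb28 yb41 zb39) (kb xb32 yb17 zb24) (kb xb24 yb39 zb22) (kb xb24 yb39 zb46) (kb xb24 yb20 zb2) (kb xb24 yb19 zb61) (kb xb26 yb51 zb10) (kb xb24 yb20 zb11) (kb xb30 yb8 zb22) (kb xb28 yb57 zb18) (kb xb25 yb10 zb43) (kb xb31 yb38 zb14) (kb xb25 yb24 zb35) (kb xb25 yb49 zb8) (kb xb29 yb6 zb13) (kb xb28 yb37 zb18) (kb xb31 yb58 zb19) (kb xb24 yb42 zb38) (kb xb24 yb20 zb60) (kb xb32 yb54 zb23)) (@D3.rec (fun _ => Pt) (kb xb24 yb21 zb17) (kb xb24 yb21 zb6) (kb xb27 yb12 zb50) (kb xb25 yb14 zb42) (kb xb24 yb21 zb7) (kb xb24 yb21 zb8) (kb xb32 yb55 zb25) (kb xb26 yb46 zb41) (kb xb24 yb21 zb12) (kb xb26 yb48 zb5) (kb xb29 yb11 zb26) (kb xb24 yb21 zb15) (kb xb26 yb1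 zb28) (kb xb26 yb40 zb32) (kb xb24 yb21 zb22) (kb xb24 yb21 zb24) (kb xb24 yb21 zb25) (kb xb26 yb39 zb49) (kb xb32 yb57 zb10) (kb xb25 yb35 zb21) (kb xb29 yb47 zb0) (kb xb29 yb25 zb56) (kb xb31 yb31 zb1) (kb xb24 yb21 zb44) (kb xb30 yb43 zb1) (kb xb32 yb44 zb9) (kb xb24 yb21 zb51) (kb xb28 yb46 zb24) (kb xb25 yb22 zb16) (kb xb30 yb9 zb22) (kb xb30 yb38 zb59) (kb xb24 yb22 zb8) (kb xb32 yb54 zb1) (kb xb24 yb22 zb18) (kb xb29 yb24 zb28) (kb xb31 yb18 zb49) (kb xb24 yb22 zb25) (kb xb24 yb22 zb26) (kb xb31 yb18 zb56) (kb xb24 yb22 zb36) (kb xb24 yb30 zb15) (kb xb29 yb28 zb20) (kb xb30 yb30 zb52) (kb xb24 yb22 zb48) (kb xb32 yb13 zb47) (kb xb30 yb15 zb43) (kb xb32 yb19 zb17) (kb xb32 yb22 zb56) (kb xb26 yb45 zb11) (kb xb25 yb51 zb37) (kb xb25 yb19 zb11) (kb xb28 yb11 zb30)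 (kb xb24 yb23 zb3) (kb xb27 yb13 zb8) (kb xb32 yb8 zb15) (kb xb26 yb40 zb34) (kb xb24 yb23 zb14) (kb xb30 yb21 zb60) (kb xb32 yb39 zb24) (kb xb31 yb24 zb9) (kb xb24 yb23 zb16) (kb xb32 yb18 zb45)) (@D3.rec (fun _ => Pt) (kb xb30 yb37 zb52) (kb xb28 yb51 zb60) (kb xb24 yb23 zb19) (kb xb31 yb49 zb43) (kb xb32 yb17 zb42) (kb xb24 yb23 zb21) (kb xb26 yb47 zb42) (kb xb28 yb38 zb37) (kb xb30 yb36 zb28) (kb xb24 yb23 zb42) (kb xb32 yb34 zb39) (kb xb32 yb57 zb12) (kb xb31 yb4 zb49) (kb xb26 yb45 zb3) (kb xb29 yb9 zb12) (kb xb29 yb23 zb11) (kb xb26 yb43 zb7) (kb xb32 yb48 zb12) (kb xb28 yb31 zb33) (kb xb24 yb23 zb52) (kb xb32 yb5 zb14) (kb xb24 yb23 zb60) (kb xb25 yb40 zb13) (kb xb32 yb29 zb14) (kb xb29 yb12 zb9) (kb xb24 yb24 zb28) (kb xb24 yb24 zb29) (kb xb31 yb25 zb27) (kb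 xb24 yb24 zb31) (kb xb29 yb53 zb41) (kb xb30 yb16 zb24) (kb xb30 yb42 zb60) (kb xb32 yb47 zb56) (kb xb30 yb11 zb41) (kb xb24 yb24 zb39) (kb xb24 yb24 zb42) (kb xb32 yb44 zb57) (kb xb24 yb24 zb56) (kb xb30 yb12 zb1) (kb xb24 yb24 zb49) (kb xb24 yb24 zb52) (kb xb24 yb24 zb54) (kb xb32 yb46 zb22) (kb xb32 yb57 zb13) (kb xb29 yb26 zb9) (kb xb24 yb24 zb60) (kb xb28 yb30 zb7) (kb xb32 yb57 zb4) (kb xb28 yb39 zb52) (kb xb24 yb24 zb61) (kb xb28 yb49 zb12) (kb xb32 yb16 zb26) (kb xb29 yb26 zb42) (kb xb24 yb25 zb10) (kb xb24 yb25 zb13) (kb xb30 yb15 zb5) (kb xb32 yb37 zb3) (kb xb24 yb26 zb45) (kb xb32 yb52 zb34) (kb xb32 yb23 zb0) (kb xb31 yb31 zb8) (kb xb26 yb45 zb4)) (@D3.rec (fun _ => Pt) (kb xb29 yb33 zb32) (kb xb31 yb29 zb22) (kb xb30 yb25 zb44) (kb xb24 yb25 zb33) (kb xb32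 yb41 zb41) (kb xb28 yb45 zb41) (kb xb24 yb25 zb44) (kb xb24 yb25 zb43) (kb xb31 yb30 zb60) (kb xb31 yb34 zb10) (kb xb24 yb25 zb45) (kb xb24 yb25 zb48) (kb xb24 yb25 zb47) (kb xb32 yb45 zb41) (kb xb32 yb56 zb38) (kb xb24 yb25 zb49) (kb xb30 yb29 zb14) (kb xb32 yb52 zb51) (kb xb24 yb25 zb60) (kb xb32 yb57 zb16) (kb xb30 yb18 zb36) (kb xb24 yb26 zb1) (kb xb31 yb15 zb18) (kb xb30 yb22 zb4) (kb xb24 yb26 zb3) (kb xb32 yb40 zb60) (kb xb30 yb12 zb30) (kb xb24 yb26 zb6) (kb xb28 yb45 zb28) (kb xb30 yb47 zb48) (kb xb25 yb19 zb37) (kb xb24 yb26 zb11) (kb xb30 yb18 zb45) (kb xb29 yb16 zb37) (kb xb30 yb12 zb3) (kb xb32 yb33 zb34) (kb xb26 yb38 zb38) (kb xb24 yb26 zb43) (kb xb24 yb26 zb23) (kb xb26 yb38 zb23) (kb xb24 yb26 zb26) (kb xb26 yb39 zb11) (kb xb29 yb49 zb8) (kb xb26 yb7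 zb53) (kb xb31 yb28 zb30) (kb xb24 yb26 zb35) (kb xb26 yb48 zb34) (kb xb26 yb38 zb40) (kb xb24 yb39 zb56) (kb xb29 yb25 zb51) (kb xb29 yb46 zb1) (kb xb26 yb59 zb26) (kb xb26 yb2 zb47) (kb xb24 yb26 zb44) (kb xb32 yb44 zb34) (kb xb28 yb30 zb46) (kb xb26 yb40 zb3) (kb xb24 yb26 zb56) (kb xb24 yb26 zb57) (kb xb31 yb52 zb9) (kb xb30 yb3 zb60) (kb xb28 yb29 zb8)) (@D3.rec (fun _ => Pt) (kb xb29 yb16 zb9) (kb xb29 yb37 zb18) (kb xb32 yb21 zb36) (kb xb24 yb38 zb24) (kb xb27 yb40 zb25) (kb xb28 yb35 zb31) (kb xb24 yb27 zb1) (kb xb27 yb14 zb28) (kb xb24 yb27 zb8) (kb xb25 yb48 zb26) (kb xb28 yb59 zb43) (kb xb24 yb39 zb48) (kb xb31 yb28 zb29) (kb xb24 yb27 zb19) (kb xb27 yb23 zb37) (kb xb32 yb45 zb19) (kb xb31 yb41 zb5) (kb xb28 yb8 zb57) (kb xb30 yb14 zb34) (kb xb30 yb11 zb4)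 (kb xb24 yb27 zb29) (kb xb24 yb27 zb33) (kb xb24 yb32 zb9) (kb xb24 yb27 zb37) (kb xb27 yb20 zb50) (kb xb28 yb30 zb56) (kb xb25 yb49 zb45) (kb xb28 yb43 zb37) (kb xb29 yb59 zb25) (kb xb24 yb27 zb50) (kb xb24 yb27 zb51) (kb xb26 yb6 zb18) (kb xb24 yb27 zb55) (kb xb28 yb37 zb41) (kb xb29 yb51 zb60) (kb xb25 yb46 zb60) (kb xb30 yb18 zb14) (kb xb30 yb47 zb29) (kb xb31 yb39 zb27) (kb xb31 yb53 zb53) (kb xb26 yb4 zb17) (kb xb28 yb28 zb26) (kb xb29 yb27 zb60) (kb xb30 yb53 zb15) (kb xb24 yb28 zb55) (kb xb28 yb33 zb14) (kb xb24 yb29 zb1) (kb xb26 yb55 zb26) (kb xb24 yb29 zb5) (kb xb24 yb29 zb17) (kb xb32 yb25 zb7) (kb xb30 yb59 zb2) (kb xb31 yb19 zb11) (kb xb27 yb25 zb51) (kb xb32 yb5 zb55) (kb xb24 yb29 zb27) (kb xb26 yb21 zb32) (kb xb24 yb29 zb29) (kb xb24 yb46 zb50) (kb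 xb32 yb38 zb8) (kb xb28 yb2 zb30) (kb xb24 yb29 zb36)) (@D3.rec (fun _ => Pt) (kb xb24 yb29 zb39) (kb xb30 yb29 zb17) (kb xb30 yb28 zb58) (kb xb27 yb11 zb43) (kb xb24 yb29 zb43) (kb xb28 yb40 zb33) (kb xb26 yb35 zb31) (kb xb32 yb48 zb51) (kb xb24 yb29 zb46) (kb xb28 yb48 zb53) (kb xb26 yb56 zb45) (kb xb32 yb23 zb24) (kb xb24 yb30 zb7) (kb xb31 yb50 zb11) (kb xb27 yb10 zb25) (kb xb24 yb29 zb52) (kb xb24 yb29 zb53) (kb xb32 yb52 zb48) (kb xb24 yb29 zb57) (kb xb32 yb12 zb32) (kb xb28 yb35 zb7) (kb xb24 yb30 zb0) (kb xb32 yb57 zb21) (kb xb31 yb51 zb52) (kb xb24 yb30 zb5) (kb xb29 yb32 zb18) (kb xb29 yb38 zb7) (kb xb29 yb33 zb42) (kb xb28 yb39 zb59) (kb xb29 yb31 zb15) (kb xb31 yb25 zb53) (kb xb29 yb40 zb16) (kb xb30 yb15 zb16) (kb xb26 yb27 zb54) (kb xb24 yb30 zb23) (kb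 xb29 yb1 zb39) (kb xb30 yb48 zb58) (kb xb27 yb16 zb38) (kb xb30 yb15 zb42) (kb xb24 yb30 zb26) (kb xb30 yb43 zb38) (kb xb25 yb34 zb33) (kb xb29 yb59 zb5) (kb xb24 yb38 zb46) (kb xb27 yb17 zb13) (kb xb30 yb18 zb0) (kb xb26 yb8 zb27) (kb xb26 yb10 zb9) (kb xb28 yb12 zb23) (kb xb32 yb34 zb31) (kb xb30 yb24 zb12) (kb xb32 yb6 zb16) (kb xb28 yb11 zb12) (kb xb32 yb55 zb16) (kb xb28 yb40 zb54) (kb xb24 yb31 zb31) (kb xb26 yb9 zb23) (kb xb28 yb40 zb58) (kb xb24 yb31 zb37) (kb xb24 yb31 zb38) (kb xb24 yb31 zb35) (kb xb32 yb57 zb27)) (@D3.rec (fun _ => Pt) (kb xb27 yb28 zb50) (kb xb24 yb31 zb39) (kb xb32 yb5 zb36) (kb xb32 yb6 zb42) (kb xb29 yb29 zb14) (kb xb28 yb12 zb34) (kb xb31 yb1 zb9) (kb xb29 yb49 zb3) (kb xb27 yb1 zb1) (kb xb24 yb31 zb58) (kb xb31 yb31 zb9) (kb xb31 yb19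 zb18) (kb xb32 yb22 zb15) (kb xb29 yb43 zb4) (kb xb26 yb1 zb30) (kb xb29 yb55 zb51) (kb xb26 yb4 zb6) (kb xb25 yb3 zb47) (kb xb25 yb49 zb33) (kb xb31 yb5 zb42) (kb xb24 yb33 zb16) (kb xb24 yb49 zb52) (kb xb25 yb21 zb19) (kb xb25 yb21 zb20) (kb xb30 yb27 zb13) (kb xb24 yb33 zb23) (kb xb32 yb46 zb4) (kb xb31 yb57 zb0) (kb xb31 yb21 zb21) (kb xb29 yb44 zb17) (kb xb29 yb43 zb18) (kb xb32 yb49 zb19) (kb xb24 yb33 zb27) (kb xb25 yb58 zb36) (kb xb30 yb55 zb55) (kb xb26 yb48 zb4) (kb xb24 yb33 zb61) (kb xb30 yb52 zb52) (kb xb30 yb18 zb5) (kb xb24 yb33 zb54) (kb xb31 yb4 zb37) (kb xb29 yb35 zb37) (kb xb31 yb40 zb33) (kb xb26 yb31 zb47) (kb xb31 yb48 zb15) (kb xb30 yb0 zb8) (kb xb25 yb38 zb2) (kb xb24 yb34 zb43) (kb xb31 yb57 zb42) (kb xb27 yb9 zb58) (kb xb27 yb14 zb33) (kb xb29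 yb15 zb60) (kb xb27 yb46 zb52) (kb xb25 yb58 zb34) (kb xb25 yb59 zb11) (kb xb24 yb35 zb6) (kb xb27 yb16 zb11) (kb xb24 yb35 zb32) (kb xb24 yb35 zb14) (kb xb32 yb57 zb29) (kb xb28 yb42 zb39) (kb xb29 yb34 zb4)) (@D3.rec (fun _ => Pt) (kb xb31 yb24 zb41) (kb xb26 yb34 zb28) (kb xb24 yb35 zb19) (kb xb24 yb35 zb20) (kb xb29 yb34 zb16) (kb xb25 yb48 zb41) (kb xb29 yb50 zb60) (kb xb28 yb48 zb12) (kb xb24 yb37 zb0) (kb xb24 yb35 zb30) (kb xb29 yb16 zb1) (kb xb25 yb35 zb37) (kb xb26 yb0 zb0) (kb xb32 yb50 zb29) (kb xb25 yb34 zb57) (kb xb24 yb35 zb44) (kb xb30 yb55 zb11) (kb xb25 yb24 zb49) (kb xb24 yb35 zb47) (kb xb26 yb41 zb56) (kb xb32 yb47 zb18) (kb xb31 yb44 zb35) (kb xb28 yb1 zb47) (kb xb29 yb57 zb7) (kb xb24 yb36 zb25) (kb xb27 yb19 zb17) (kb xb29 yb16 zb0) (kb xb26 yb42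 zb21) (kb xb24 yb47 zb36) (kb xb30 yb34 zb6) (kb xb24 yb36 zb30) (kb xb24 yb36 zb32) (kb xb32 yb48 zb37) (kb xb24 yb36 zb34) (kb xb27 yb15 zb59) (kb xb28 yb58 zb34) (kb xb24 yb54 zb47) (kb xb25 yb37 zb52) (kb xb32 yb51 zb17) (kb xb24 yb36 zb41) (kb xb25 yb48 zb37) (kb xb30 yb47 zb28) (kb xb32 yb43 zb56) (kb xb24 yb36 zb60) (kb xb25 yb7 zb41) (kb xb25 yb6 zb0) (kb xb25 yb35 zb39) (kb xb25 yb35 zb40) (kb xb32 yb50 zb32) (kb xb31 yb14 zb12) (kb xb31 yb24 zb3) (kb xb24 yb37 zb10) (kb xb32 yb18 zb5) (kb xb31 yb36 zb14) (kb xb24 yb37 zb12) (kb xb31 yb57 zb5) (kb xb24 yb58 zb3) (kb xb32 yb18 zb6) (kb xb31 yb36 zb21) (kb xb26 yb22 zb42) (kb xb24 yb37 zb22) (kb xb25 yb55 zb22)) (@D3.rec (fun _ => Pt) (kb xb25 yb31 zb23) (kb xb28 yb38 zb13) (kb xb27 yb15 zb13) (kb xb31 yb25 zb49)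 (kb xb31 yb45 zb36) (kb xb30 yb18 zb59) (kb xb31 yb20 zb23) (kb xb25 yb34 zb41) (kb xb32 yb35 zb44) (kb xb29 yb9 zb56) (kb xb24 yb38 zb2) (kb xb25 yb49 zb41) (kb xb27 yb44 zb17) (kb xb27 yb44 zb2) (kb xb31 yb35 zb53) (kb xb24 yb38 zb0) (kb xb29 yb3 zb38) (kb xb30 yb7 zb52) (kb xb30 yb10 zb33) (kb xb27 yb43 zb56) (kb xb26 yb23 zb54) (kb xb31 yb35 zb58) (kb xb24 yb38 zb12) (kb xb29 yb6 zb7) (kb xb29 yb13 zb59) (kb xb31 yb4 zb12) (kb xb24 yb38 zb31) (kb xb29 yb59 zb13) (kb xb31 yb49 zb19) (kb xb32 yb41 zb33) (kb xb27 yb22 zb17) (kb xb31 yb48 zb22) (kb xb24 yb38 zb28) (kb xb24 yb38 zb29) (kb xb29 yb10 zb17) (kb xb24 yb38 zb30) (kb xb24 yb38 zb36) (kb xb32 yb55 zb52) (kb xb24 yb38 zb51) (kb xb32 yb7 zb3) (kb xb29 yb41 zb27) (kb xb26 yb18 zb0) (kb xb28 yb29 zb45) (kb xb24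 yb39 zb3) (kb xb30 yb56 zb1) (kb xb27 yb37 zb19) (kb xb29 yb41 zb23) (kb xb32 yb42 zb0) (kb xb24 yb39 zb44) (kb xb29 yb24 zb49) (kb xb32 yb36 zb45) (kb xb32 yb17 zb32) (kb xb24 yb39 zb54) (kb xb32 yb39 zb39) (kb xb25 yb11 zb25) (kb xb29 yb17 zb19) (kb xb31 yb41 zb51) (kb xb24 yb51 zb39) (kb xb31 yb20 zb26) (kb xb24 yb39 zb60) (kb xb25 yb20 zb30) (kb xb30 yb40 zb47)) (@D3.rec (fun _ => Pt) (kb xb31 yb57 zb29) (kb xb29 yb57 zb39) (kb xb24 yb40 zb4) (kb xb29 yb45 zb13) (kb xb25 yb57 zb35) (kb xb25 yb43 zb43) (kb xb30 yb36 zb36) (kb xb28 yb17 zb49) (kb xb30 yb0 zb60) (kb xb27 yb18 zb22) (kb xb32 yb49 zb6) (kb xb24 yb40 zb19) (kb xb31 yb16 zb3) (kb xb32 yb20 zb49) (kb xb24 yb40 zb38) (kb xb28 yb33 zb8) (kb xb26 yb42 zb59) (kb xb25 yb58 zb9) (kb xb30 yb32 zb40) (kb xb26 yb14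 zb20) (kb xb26 yb12 zb34) (kb xb27 yb22 zb6) (kb xb24 yb41 zb12) (kb xb30 yb3 zb43) (kb xb31 yb1 zb43) (kb xb24 yb42 zb14) (kb xb27 yb46 zb61) (kb xb26 yb42 zb2) (kb xb24 yb41 zb45) (kb xb27 yb3 zb50) (kb xb31 yb48 zb50) (kb xb24 yb41 zb47) (kb xb26 yb2 zb17) (kb xb25 yb37 zb50) (kb xb24 yb42 zb2) (kb xb32 yb2 zb44) (kb xb27 yb17 zb18) (kb xb31 yb46 zb13) (kb xb27 yb20 zb49) (kb xb24 yb42 zb12) (kb xb27 yb50 zb14) (kb xb30 yb4 zb33) (kb xb32 yb29 zb7) (kb xb32 yb57 zb34) (kb xb29 yb56 zb38) (kb xb30 yb41 zb5) (kb xb28 yb13 zb26) (kb xb32 yb50 zb45) (kb xb25 yb42 zb52) (kb xb24 yb42 zb37) (kb xb25 yb38 zb31) (kb xb31 yb8 zb0) (kb xb30 yb1 zb49) (kb xb25 yb54 zb54) (kb xb26 yb41 zb60) (kb xb24 yb42 zb51) (kb xb26 yb12 zb35) (kb xb27 yb45 zb53) (kb xb26 yb0 zb22) (kb xb25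 yb31 zb12) (kb xb25 yb57 zb26) (kb xb31 yb56 zb18)) (@D3.rec (fun _ => Pt) (kb xb24 yb43 zb42) (kb xb27 yb56 zb30) (kb xb31 yb9 zb33) (kb xb32 yb27 zb46) (kb xb32 yb57 zb7) (kb xb25 yb48 zb46) (kb xb24 yb44 zb2) (kb xb26 yb15 zb23) (kb xb31 yb59 zb17) (kb xb24 yb44 zb18) (kb xb24 yb44 zb20) (kb xb27 yb26 zb42) (kb xb24 yb44 zb36) (kb xb25 yb28 zb52) (kb xb31 yb28 zb53) (kb xb26 yb13 zb14) (kb xb24 yb44 zb56) (kb xb32 yb9 zb27) (kb xb30 yb45 zb57) (kb xb29 yb59 zb59) (kb xb24 yb45 zb0) (kb xb24 yb58 zb35) (kb xb27 yb48 zb12) (kb xb29 yb59 zb55) (kb xb26 yb15 zb53) (kb xb26 yb15 zb52) (kb xb28 yb40 zb53) (kb xb26 yb20 zb48) (kb xb26 yb20 zb46) (kb xb26 yb16 zb26) (kb xb29 yb20 zb7) (kb xb27 yb29 zb61) (kb xb31 yb57 zb53) (kb xb31 yb7 zb0) (kb xb26 yb16 zb57) (kb xb32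 yb49 zb28) (kb xb26 yb18 zb54) (kb xb28 yb26 zb17) (kb xb31 yb58 zb7) (kb xb32 yb28 zb29) (kb xb24 yb45 zb56) (kb xb31 yb54 zb55) (kb xb32 yb22 zb2) (kb xb25 yb34 zb6) (kb xb26 yb17 zb60) (kb xb29 yb19 zb0) (kb xb26 yb49 zb49) (kb xb24 yb46 zb10) (kb xb28 yb46 zb43) (kb xb32 yb20 zb48) (kb xb28 yb14 zb42) (kb xb24 yb46 zb32) (kb xb27 yb21 zb32) (kb xb24 yb46 zb17) (kb xb31 yb1 zb49) (kb xb32 yb46 zb32) (kb xb28 yb16 zb11) (kb xb30 yb28 zb1) (kb xb28 yb18 zb53) (kb xb30 yb47 zb31) (kb xb26 yb7 zb40) (kb xb27 yb28 zb2)) (@D3.rec (fun _ => Pt) (kb xb31 yb43 zb3) (kb xb25 yb54 zb43) (kb xb28 yb41 zb1) (kb xb30 yb46 zb60) (kb xb24 yb47 zb22) (kb xb32 yb34 zb29) (kb xb24 yb56 zb55) (kb xb24 yb47 zb28) (kb xb32 yb51 zb40) (kb xb30 yb25 zb40) (kb xb28 yb29 zb58) (kb xb24 yb47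 zb47) (kb xb32 yb26 zb34) (kb xb27 yb47 zb44) (kb xb24 yb47 zb61) (kb xb30 yb34 zb46) (kb xb28 yb16 zb49) (kb xb28 yb16 zb50) (kb xb28 yb29 zb6) (kb xb24 yb48 zb5) (kb xb26 yb4 zb19) (kb xb27 yb40 zb0) (kb xb24 yb48 zb7) (kb xb31 yb43 zb16) (kb xb24 yb48 zb10) (kb xb28 yb31 zb45) (kb xb28 yb29 zb31) (kb xb31 yb32 zb38) (kb xb24 yb48 zb18) (kb xb32 yb9 zb61) (kb xb24 yb48 zb22) (kb xb24 yb48 zb26) (kb xb24 yb48 zb28) (kb xb28 yb35 zb53) (kb xb28 yb32 zb48) (kb xb24 yb48 zb31) (kb xb25 yb9 zb38) (kb xb24 yb48 zb36) (kb xb26 yb54 zb41) (kb xb29 yb2 zb42) (kb xb24 yb48 zb41) (kb xb25 yb20 zb32) (kb xb29 yb9 zb13) (kb xb29 yb13 zb14) (kb xb24 yb50 zb38) (kb xb31 yb47 zb53) (kb xb24 yb50 zb22) (kb xb24 yb48 zb52) (kb xb24 yb49 zb5) (kb xb24 yb48 zb58) (kb xb25 yb38 zb48)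 (kb xb29 yb34 zb50) (kb xb28 yb37 zb10) (kb xb24 yb48 zb61) (kb xb29 yb1 zb7) (kb xb24 yb49 zb6) (kb xb28 yb30 zb50) (kb xb27 yb36 zb1) (kb xb26 yb57 zb7) (kb xb24 yb49 zb9) (kb xb32 yb53 zb4) (kb xb24 yb49 zb16)) (@D3.rec (fun _ => Pt) (kb xb24 yb49 zb19) (kb xb32 yb32 zb7) (kb xb31 yb47 zb44) (kb xb30 yb6 zb54) (kb xb24 yb49 zb20) (kb xb32 yb57 zb38) (kb xb24 yb49 zb23) (kb xb31 yb20 zb5) (kb xb24 yb49 zb24) (kb xb32 yb57 zb39) (kb xb29 yb11 zb13) (kb xb30 yb21 zb35) (kb xb31 yb47 zb60) (kb xb24 yb49 zb31) (kb xb24 yb49 zb32) (kb xb28 yb55 zb32) (kb xb31 yb16 zb16) (kb xb26 yb50 zb4) (kb xb32 yb52 zb39) (kb xb28 yb51 zb21) (kb xb24 yb49 zb37) (kb xb27 yb22 zb48) (kb xb25 yb20 zb4) (kb xb24 yb49 zb38) (kb xb25 yb20 zb7) (kb xb30 yb27 zb11) (kb xb24 yb49 zb40) (kb xb31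 yb47 zb52) (kb xb32 yb57 zb46) (kb xb32 yb40 zb52) (kb xb26 yb35 zb46) (kb xb29 yb14 zb11) (kb xb31 yb21 zb28) (kb xb31 yb34 zb42) (kb xb31 yb21 zb10) (kb xb32 yb27 zb20) (kb xb25 yb20 zb58) (kb xb31 yb51 zb61) (kb xb31 yb21 zb14) (kb xb32 yb17 zb52) (kb xb28 yb50 zb43) (kb xb28 yb50 zb47) (kb xb25 yb33 zb42) (kb xb31 yb41 zb60) (kb xb32 yb11 zb38) (kb xb32 yb8 zb60) (kb xb32 yb41 zb50) (kb xb29 yb17 zb55) (kb xb24 yb50 zb11) (kb xb24 yb50 zb20) (kb xb26 yb2 zb59) (kb xb26 yb41 zb22) (kb xb32 yb15 zb52) (kb xb24 yb50 zb27) (kb xb24 yb50 zb18) (kb xb29 yb2 zb36) (kb xb29 yb2 zb37) (kb xb28 yb31 zb41) (kb xb25 yb23 zb45) (kb xb31 yb19 zb42) (kb xb25 yb22 zb19) (kb xb26 yb37 zb39)) (@D3.rec (fun _ => Pt) (kb xb30 yb0 zb7) (kb xb32 yb21 zb53) (kb xb31 yb50 zb38) (kb xb32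 yb40 zb32) (kb xb25 yb10 zb42) (kb xb31 yb32 zb16) (kb xb25 yb47 zb58) (kb xb31 yb56 zb53) (kb xb24 yb51 zb44) (kb xb25 yb33 zb36) (kb xb24 yb50 zb36) (kb xb27 yb37 zb12) (kb xb32 yb57 zb41) (kb xb32 yb43 zb13) (kb xb32 yb40 zb53) (kb xb27 yb12 zb5) (kb xb24 yb51 zb0) (kb xb25 yb37 zb30) (kb xb29 yb23 zb32) (kb xb31 yb41 zb52) (kb xb24 yb51 zb4) (kb xb32 yb4 zb15) (kb xb31 yb50 zb57) (kb xb26 yb11 zb4) (kb xb28 yb47 zb2) (kb xb28 yb19 zb27) (kb xb28 yb35 zb6) (kb xb25 yb19 zb28) (kb xb24 yb51 zb32) (kb xb25 yb33 zb49) (kb xb31 yb28 zb18) (kb xb25 yb9 zb22) (kb xb32 yb23 zb30) (kb xb31 yb48 zb21) (kb xb28 yb59 zb29) (kb xb24 yb51 zb35) (kb xb32 yb57 zb52) (kb xb31 yb17 zb52) (kb xb24 yb51 zb45) (kb xb32 yb43 zb55) (kb xb27 yb37 zb0) (kb xb24 yb51 zb48) (kb xb24 yb51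 zb43) (kb xb31 yb51 zb12) (kb xb27 yb37 zb10) (kb xb26 yb37 zb55) (kb xb24 yb51 zb47) (kb xb25 yb13 zb2) (kb xb25 yb47 zb53) (kb xb24 yb51 zb59) (kb xb32 yb43 zb44) (kb xb31 yb36 zb56) (kb xb31 yb41 zb19) (kb xb28 yb37 zb8) (kb xb24 yb52 zb13) (kb xb24 yb52 zb16) (kb xb24 yb52 zb17) (kb xb24 yb52 zb27) (kb xb26 yb10 zb28) (kb xb24 yb52 zb33) (kb xb31 yb40 zb43) (kb xb25 yb39 zb54)) (@D3.rec (fun _ => Pt) (kb xb24 yb52 zb46) (kb xb32 yb42 zb6) (kb xb24 yb53 zb4) (kb xb26 yb26 zb4) (kb xb32 yb47 zb2) (kb xb32 yb47 zb53) (kb xb32 yb26 zb36) (kb xb24 yb53 zb48) (kb xb28 yb8 zb51) (kb xb24 yb53 zb52) (kb xb28 yb9 zb24) (kb xb24 yb53 zb51) (kb xb32 yb57 zb53) (kb xb32 yb30 zb24) (kb xb32 yb57 zb9) (kb xb29 yb15 zb43) (kb xb31 yb42 zb54) (kb xb27 yb55 zb12) (kb xb26 yb21 zb27)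 (kb xb27 yb36 zb39) (kb xb27 yb52 zb5) (kb xb31 yb15 zb9) (kb xb32 yb26 zb37) (kb xb27 yb55 zb36) (kb xb32 yb7 zb48) (kb xb30 yb47 zb39) (kb xb30 yb0 zb57) (kb xb32 yb26 zb30) (kb xb26 yb2 zb25) (kb xb27 yb31 zb21) (kb xb29 yb20 zb60) (kb xb31 yb4 zb46) (kb xb24 yb54 zb26) (kb xb30 yb58 zb27) (kb xb32 yb29 zb10) (kb xb30 yb41 zb31) (kb xb24 yb54 zb32) (kb xb24 yb54 zb34) (kb xb27 yb37 zb43) (kb xb27 yb52 zb4) (kb xb32 yb13 zb54) (kb xb28 yb21 zb34) (kb xb29 yb48 zb1) (kb xb27 yb33 zb47) (kb xb27 yb1 zb39) (kb xb27 yb33 zb46) (kb xb24 yb55 zb4) (kb xb27 yb40 zb7) (kb xb32 yb6 zb13) (kb xb32 yb27 zb2) (kb xb32 yb30 zb19) (kb xb24 yb55 zb8) (kb xb32 yb35 zb45) (kb xb27 yb32 zb37) (kb xb31 yb42 zb16) (kb xb28 yb45 zb39) (kb xb32 yb6 zb61) (kb xb27 yb28 zb12) (kb xb27 yb28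 zb0) (kb xb24 yb55 zb19) (kb xb27 yb28 zb3) (kb xb31 yb28 zb0)) (@D3.rec (fun _ => Pt) (kb xb32 yb24 zb61) (kb xb32 yb25 zb11) (kb xb26 yb18 zb57) (kb xb31 yb39 zb0) (kb xb27 yb27 zb29) (kb xb28 yb44 zb0) (kb xb32 yb5 zb34) (kb xb29 yb29 zb6) (kb xb28 yb26 zb4) (kb xb24 yb55 zb60) (kb xb27 yb27 zb49) (kb xb25 yb43 zb3) (kb xb29 yb24 zb9) (kb xb24 yb56 zb24) (kb xb31 yb45 zb53) (kb xb26 yb16 zb32) (kb xb31 yb39 zb23) (kb xb28 yb20 zb60) (kb xb32 yb57 zb56) (kb xb27 yb13 zb35) (kb xb32 yb54 zb47) (kb xb24 yb57 zb32) (kb xb24 yb57 zb13) (kb xb32 yb54 zb61) (kb xb32 yb46 zb59) (kb xb30 yb49 zb33) (kb xb30 yb46 zb41) (kb xb24 yb57 zb15) (kb xb29 yb21 zb41) (kb xb30 yb17 zb49) (kb xb29 yb48 zb4) (kb xb31 yb44 zb28) (kb xb27 yb31 zb20) (kb xb27 yb50 zb25) (kb xb30 yb44 zb33)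 (kb xb24 yb57 zb37) (kb xb28 yb31 zb48) (kb xb25 yb20 zb22) (kb xb25 yb23 zb9) (kb xb32 yb3 zb45) (kb xb24 yb57 zb60) (kb xb25 yb7 zb21) (kb xb25 yb27 zb27) (kb xb25 yb7 zb22) (kb xb32 yb28 zb4) (kb xb25 yb34 zb5) (kb xb25 yb52 zb30) (kb xb24 yb58 zb11) (kb xb32 yb27 zb8) (kb xb24 yb58 zb14) (kb xb25 yb22 zb28) (kb xb26 yb33 zb26) (kb xb30 yb9 zb19) (kb xb26 yb33 zb40) (kb xb24 yb58 zb27) (kb xb25 yb50 zb33) (kb xb28 yb25 zb20) (kb xb25 yb12 zb47) (kb xb28 yb7 zb5) (kb xb32 yb28 zb31) (kb xb29 yb7 zb47) (kb xb24 yb59 zb2)) (@D3.rec (fun _ => Pt) (kb xb27 yb27 zb11) (kb xb24 yb59 zb7) (kb xb27 yb30 zb54) (kb xb24 yb59 zb24) (kb xb31 yb50 zb1) (kb xb30 yb46 zb54) (kb xb30 yb24 zb23) (kb xb32 yb29 zb23) (kb xb25 yb25 zb52) (kb xb26 yb17 zb50) (kb xb24 yb59 zb39) (kb xb32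 yb31 zb3) (kb xb30 yb59 zb15) (kb xb32 yb19 zb54) (kb xb32 yb31 zb47) (kb xb27 yb31 zb56) (kb xb25 yb0 zb17) (kb xb25 yb0 zb26) (kb xb30 yb44 zb38) (kb xb28 yb4 zb1) (kb xb26 yb9 zb36) (kb xb26 yb32 zb60) (kb xb25 yb2 zb51) (kb xb25 yb0 zb25) (kb xb31 yb44 zb39) (kb xb32 yb57 zb24) (kb xb25 yb0 zb28) (kb xb27 yb32 zb20) (kb xb31 yb43 zb31) (kb xb25 yb0 zb41) (kb xb32 yb6 zb8) (kb xb27 yb54 zb13) (kb xb25 yb0 zb43) (kb xb29 yb51 zb56) (kb xb25 yb1 zb3) (kb xb31 yb35 zb21) (kb xb31 yb11 zb41) (kb xb31 yb12 zb3) (kb xb25 yb32 zb44) (kb xb31 yb44 zb24) (kb xb27 yb31 zb46) (kb xb25 yb1 zb40) (kb xb26 yb21 zb42) (kb xb27 yb53 zb48) (kb xb27 yb32 zb4) (kb xb30 yb23 zb31) (kb xb28 yb4 zb3) (kb xb25 yb1 zb54) (kb xb30 yb24 zb19) (kb xb29 yb30 zb4) (kb xb31 yb0 zb38) (kb xb25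 yb1 zb60) (kb xb30 yb57 zb59) (kb xb30 yb31 zb35) (kb xb31 yb2 zb30) (kb xb25 yb18 zb26) (kb xb28 yb0 zb27) (kb xb29 yb51 zb42) (kb xb25 yb2 zb17) (kb xb25 yb2 zb18) (kb xb32 yb57 zb57) (kb xb26 yb7 zb15)) (@D3.rec (fun _ => Pt) (kb xb26 yb25 zb14) (kb xb32 yb3 zb29) (kb xb25 yb2 zb40) (kb xb25 yb3 zb10) (kb xb30 yb1 zb54) (kb xb32 yb28 zb11) (kb xb31 yb58 zb38) (kb xb30 yb57 zb36) (kb xb25 yb3 zb31) (kb xb28 yb7 zb46) (kb xb27 yb34 zb34) (kb xb27 yb34 zb54) (kb xb27 yb47 zb33) (kb xb28 yb47 zb7) (kb xb32 yb25 zb40) (kb xb25 yb26 zb22) (kb xb32 yb26 zb29) (kb xb25 yb26 zb26) (kb xb32 yb25 zb48) (kb xb32 yb26 zb44) (kb xb25 yb4 zb1) (kb xb29 yb57 zb35) (kb xb25 yb4 zb7) (kb xb32 yb55 zb32) (kb xb25 yb4 zb9) (kb xb30 yb53 zb47) (kb xb25 yb22 zb29) (kb xb25 yb4 zb29) (kb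 xb32 yb36 zb55) (kb xb26 yb44 zb43) (kb xb25 yb4 zb32) (kb xb25 yb4 zb36) (kb xb27 yb55 zb4) (kb xb25 yb50 zb21) (kb xb26 yb31 zb50) (kb xb26 yb11 zb7) (kb xb31 yb36 zb4) (kb xb25 yb9 zb5) (kb xb26 yb38 zb9) (kb xb25 yb59 zb13) (kb xb32 yb27 zb53) (kb xb30 yb43 zb18) (kb xb31 yb3 zb58) (kb xb31 yb24 zb47) (kb xb25 yb5 zb3) (kb xb27 yb21 zb34) (kb xb27 yb21 zb33) (kb xb29 yb42 zb6) (kb xb30 yb56 zb35) (kb xb25 yb5 zb40) (kb xb29 yb41 zb57) (kb xb32 yb1 zb58) (kb xb32 yb1 zb60) (kb xb31 yb43 zb14) (kb xb25 yb31 zb45) (kb xb25 yb5 zb37) (kb xb29 yb16 zb19) (kb xb28 yb31 zb39) (kb xb27 yb19 zb23) (kb xb27 yb20 zb40) (kb xb26 yb59 zb43) (kb xb25 yb20 zb33)) (@D3.rec (fun _ => Pt) (kb xb28 yb59 zb26) (kb xb25 yb6 zb24) (kb xb27 yb35 zb45) (kb xb29 yb13 zb40) (kb xb30 yb11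 zb24) (kb xb32 yb49 zb2) (kb xb32 yb48 zb55) (kb xb32 yb23 zb33) (kb xb31 yb11 zb5) (kb xb25 yb6 zb31) (kb xb32 yb53 zb32) (kb xb25 yb38 zb35) (kb xb27 yb56 zb29) (kb xb31 yb37 zb37) (kb xb25 yb6 zb32) (kb xb31 yb26 zb31) (kb xb25 yb6 zb34) (kb xb30 yb55 zb24) (kb xb25 yb6 zb40) (kb xb26 yb29 zb16) (kb xb31 yb50 zb20) (kb xb25 yb6 zb42) (kb xb25 yb6 zb43) (kb xb30 yb32 zb60) (kb xb26 yb31 zb29) (kb xb32 yb48 zb32) (kb xb30 yb6 zb22) (kb xb27 yb11 zb20) (kb xb27 yb17 zb27) (kb xb32 yb8 zb46) (kb xb32 yb2 zb26) (kb xb25 yb55 zb16) (kb xb28 yb13 zb61) (kb xb32 yb33 zb41) (kb xb25 yb7 zb4) (kb xb25 yb7 zb8) (kb xb30 yb1 zb9) (kb xb30 yb0 zb2) (kb xb25 yb29 zb21) (kb xb30 yb51 zb11) (kb xb25 yb43 zb14) (kb xb27 yb14 zb24) (kb xb28 yb59 zb58) (kb xb25 yb7 zb24) (kb xb31 yb21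 zb4) (kb xb29 yb31 zb2) (kb xb25 yb27 zb6) (kb xb28 yb42 zb8) (kb xb30 yb10 zb55) (kb xb32 yb21 zb3) (kb xb29 yb56 zb4) (kb xb32 yb55 zb37) (kb xb29 yb56 zb44) (kb xb29 yb23 zb35) (kb xb29 yb16 zb40) (kb xb26 yb35 zb23) (kb xb29 yb45 zb31) (kb xb25 yb22 zb8) (kb xb32 yb48 zb7) (kb xb26 yb52 zb26) (kb xb25 yb8 zb13) (kb xb32 yb44 zb37)) (@D3.rec (fun _ => Pt) (kb xb29 yb46 zb6) (kb xb29 yb43 zb61) (kb xb32 yb58 zb1) (kb xb28 yb40 zb45) (kb xb32 yb19 zb38) (kb xb32 yb47 zb33) (kb xb32 yb0 zb53) (kb xb29 yb16 zb28) (kb xb25 yb8 zb21) (kb xb28 yb42 zb30) (kb xb25 yb8 zb22) (kb xb32 yb22 zb36) (kb xb25 yb8 zb31) (kb xb28 yb7 zb60) (kb xb25 yb8 zb28) (kb xb28 yb9 zb17) (kb xb30 yb53 zb39) (kb xb27 yb20 zb41) (kb xb25 yb8 zb37) (kb xb32 yb23 zb46) (kb xb25 yb8 zb38) (kb xb25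 yb32 zb10) (kb xb31 yb4 zb9) (kb xb32 yb48 zb53) (kb xb25 yb8 zb41) (kb xb32 yb26 zb20) (kb xb31 yb4 zb38) (kb xb31 yb10 zb60) (kb xb32 yb29 zb16) (kb xb25 yb30 zb13) (kb xb26 yb11 zb12) (kb xb25 yb31 zb1) (kb xb27 yb16 zb26) (kb xb30 yb17 zb20) (kb xb31 yb55 zb30) (kb xb31 yb21 zb6) (kb xb27 yb0 zb5) (kb xb25 yb8 zb61) (kb xb27 yb6 zb38) (kb xb29 yb34 zb59) (kb xb25 yb9 zb11) (kb xb25 yb9 zb15) (kb xb32 yb0 zb8) (kb xb32 yb4 zb27) (kb xb31 yb40 zb2) (kb xb29 yb36 zb3) (kb xb31 yb52 zb46) (kb xb32 yb34 zb38) (kb xb25 yb9 zb26) (kb xb31 yb51 zb22) (kb xb29 yb17 zb14) (kb xb31 yb26 zb34) (kb xb31 yb40 zb27) (kb xb31 yb39 zb45) (kb xb26 yb45 zb45) (kb xb28 yb51 zb23) (kb xb29 yb44 zb51) (kb xb28 yb51 zb25) (kb xb31 yb53 zb56) (kb xb25 yb9 zb40) (kb xb31 yb40 zb12) (kb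 xb32 yb57 zb40)) (@D3.rec (fun _ => Pt) (kb xb29 yb17 zb35) (kb xb32 yb19 zb31) (kb xb31 yb51 zb9) (kb xb28 yb14 zb20) (kb xb25 yb10 zb2) (kb xb26 yb37 zb59) (kb xb25 yb10 zb20) (kb xb26 yb35 zb39) (kb xb31 yb53 zb32) (kb xb25 yb50 zb31) (kb xb29 yb43 zb13) (kb xb32 yb0 zb39) (kb xb30 yb9 zb45) (kb xb25 yb50 zb32) (kb xb25 yb10 zb40) (kb xb31 yb34 zb44) (kb xb32 yb0 zb40) (kb xb25 yb10 zb49) (kb xb25 yb10 zb55) (kb xb27 yb25 zb7) (kb xb26 yb18 zb3) (kb xb31 yb41 zb33) (kb xb31 yb36 zb31) (kb xb29 yb18 zb1) (kb xb26 yb53 zb27) (kb xb25 yb11 zb9) (kb xb32 yb12 zb55) (kb xb31 yb23 zb56) (kb xb25 yb20 zb54) (kb xb25 yb11 zb16) (kb xb32 yb57 zb11) (kb xb31 yb50 zb42) (kb xb31 yb26 zb56) (kb xb29 yb13 zb33) (kb xb32 yb41 zb16) (kb xb29 yb59 zb46) (kb xb29 yb35 zb29) (kb xb25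 yb50 zb50) (kb xb26 yb23 zb15) (kb xb31 yb25 zb61) (kb xb29 yb38 zb21) (kb xb31 yb26 zb30) (kb xb29 yb24 zb12) (kb xb25 yb30 zb3) (kb xb31 yb54 zb45) (kb xb26 yb44 zb22) (kb xb29 yb6 zb55) (kb xb30 yb33 zb51) (kb xb31 yb56 zb0) (kb xb25 yb12 zb19) (kb xb31 yb37 zb30) (kb xb28 yb42 zb0) (kb xb29 yb49 zb11) (kb xb32 yb15 zb35) (kb xb29 yb7 zb2) (kb xb31 yb19 zb9) (kb xb32 yb56 zb58) (kb xb31 yb49 zb44) (kb xb25 yb12 zb39) (kb xb25 yb36 zb28) (kb xb28 yb58 zb17) (kb xb25 yb12 zb43)) (@D3.rec (fun _ => Pt) (kb xb31 yb24 zb38) (kb xb25 yb12 zb58) (kb xb25 yb50 zb55) (kb xb29 yb56 zb52) (kb xb25 yb57 zb21) (kb xb27 yb18 zb20) (kb xb25 yb27 zb44) (kb xb28 yb58 zb0) (kb xb28 yb58 zb8) (kb xb31 yb27 zb41) (kb xb25 yb13 zb42) (kb xb29 yb17 zb39) (kb xb30 yb55 zb1) (kb xb29 yb15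 zb56) (kb xb29 yb15 zb57) (kb xb25 yb13 zb53) (kb xb25 yb58 zb27) (kb xb28 yb50 zb60) (kb xb32 yb3 zb2) (kb xb31 yb36 zb28) (kb xb31 yb16 zb33) (kb xb31 yb14 zb23) (kb xb29 yb37 zb30) (kb xb29 yb15 zb33) (kb xb29 yb15 zb34) (kb xb30 yb12 zb28) (kb xb30 yb9 zb31) (kb xb25 yb14 zb14) (kb xb29 yb3 zb45) (kb xb25 yb14 zb13) (kb xb30 yb33 zb36) (kb xb26 yb36 zb52) (kb xb25 yb14 zb23) (kb xb30 yb6 zb27) (kb xb32 yb24 zb13) (kb xb25 yb14 zb33) (kb xb30 yb0 zb46) (kb xb29 yb12 zb5) (kb xb32 yb49 zb50) (kb xb31 yb10 zb56) (kb xb25 yb14 zb53) (kb xb25 yb14 zb50) (kb xb32 yb55 zb41) (kb xb31 yb30 zb3) (kb xb31 yb48 zb57) (kb xb30 yb49 zb36) (kb xb25 yb14 zb60) (kb xb25 yb14 zb61) (kb xb32 yb35 zb6) (kb xb32 yb22 zb26) (kb xb25 yb15 zb0) (kb xb30 yb0 zb11) (kb xb29 yb16 zb51) (kb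 xb25 yb33 zb52) (kb xb28 yb59 zb20) (kb xb29 yb17 zb4) (kb xb28 yb41 zb59) (kb xb29 yb17 zb50) (kb xb25 yb15 zb26) (kb xb25 yb15 zb35) (kb xb25 yb37 zb48) (kb xb25 yb15 zb51)) (@D3.rec (fun _ => Pt) (kb xb27 yb30 zb0) (kb xb31 yb44 zb4) (kb xb28 yb17 zb6) (kb xb27 yb4 zb45) (kb xb25 yb16 zb41) (kb xb25 yb22 zb2) (kb xb30 yb11 zb13) (kb xb25 yb44 zb24) (kb xb27 yb56 zb1) (kb xb26 yb23 zb28) (kb xb25 yb17 zb9) (kb xb31 yb33 zb13) (kb xb26 yb58 zb46) (kb xb31 yb21 zb15) (kb xb32 yb58 zb8) (kb xb25 yb17 zb49) (kb xb32 yb46 zb2) (kb xb25 yb18 zb0) (kb xb28 yb7 zb15) (kb xb25 yb18 zb1) (kb xb31 yb46 zb20) (kb xb25 yb18 zb3) (kb xb32 yb9 zb35) (kb xb29 yb41 zb16) (kb xb29 yb32 zb4) (kb xb28 yb21 zb14) (kb xb25 yb18 zb30) (kb xb31 yb26 zb7) (kb xb25 yb18 zb36) (kb xb30 yb48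 zb10) (kb xb27 yb41 zb56) (kb xb28 yb7 zb24) (kb xb25 yb18 zb44) (kb xb30 yb24 zb16) (kb xb31 yb26 zb59) (kb xb28 yb48 zb56) (kb xb25 yb18 zb59) (kb xb29 yb31 zb49) (kb xb31 yb41 zb2) (kb xb26 yb54 zb12) (kb xb29 yb13 zb21) (kb xb25 yb20 zb47) (kb xb31 yb48 zb31) (kb xb25 yb23 zb34) (kb xb25 yb19 zb18) (kb xb25 yb23 zb35) (kb xb25 yb23 zb36) (kb xb25 yb19 zb17) (kb xb32 yb57 zb44) (kb xb30 yb36 zb58) (kb xb25 yb21 zb55) (kb xb25 yb19 zb22) (kb xb25 yb22 zb0) (kb xb26 yb3 zb15) (kb xb27 yb22 zb54) (kb xb25 yb19 zb34) (kb xb25 yb19 zb35) (kb xb31 yb41 zb22) (kb xb31 yb27 zb25) (kb xb31 yb56 zb55) (kb xb31 yb59 zb9) (kb xb32 yb27 zb3)) (@D3.rec (fun _ => Pt) (kb xb26 yb9 zb49) (kb xb28 yb45 zb8) (kb xb25 yb20 zb3) (kb xb30 yb52 zb53) (kb xb29 yb45 zb7) (kb xb28 yb55 zb12)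 (kb xb29 yb3 zb21) (kb xb26 yb35 zb20) (kb xb25 yb20 zb23) (kb xb31 yb48 zb2) (kb xb25 yb20 zb26) (kb xb32 yb12 zb60) (kb xb31 yb41 zb43) (kb xb28 yb45 zb15) (kb xb25 yb22 zb15) (kb xb32 yb39 zb32) (kb xb25 yb47 zb44) (kb xb31 yb52 zb40) (kb xb25 yb20 zb39) (kb xb32 yb58 zb12) (kb xb29 yb6 zb18) (kb xb30 yb0 zb3) (kb xb31 yb47 zb49) (kb xb25 yb20 zb42) (kb xb25 yb20 zb56) (kb xb32 yb20 zb45) (kb xb32 yb2 zb9) (kb xb32 yb39 zb4) (kb xb25 yb20 zb57) (kb xb31 yb26 zb24) (kb xb32 yb47 zb35) (kb xb30 yb45 zb6) (kb xb30 yb21 zb56) (kb xb32 yb36 zb60) (kb xb25 yb21 zb4) (kb xb25 yb22 zb38) (kb xb31 yb20 zb48) (kb xb25 yb20 zb55) (kb xb32 yb51 zb34) (kb xb31 yb52 zb51) (kb xb32 yb58 zb13) (kb xb30 yb21 zb57) (kb xb32 yb56 zb12) (kb xb32 yb36 zb61) (kb xb32 yb57 zb49) (kb xb25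 yb20 zb60) (kb xb25 yb21 zb0) (kb xb25 yb21 zb1) (kb xb30 yb34 zb21) (kb xb25 yb21 zb2) (kb xb29 yb8 zb10) (kb xb32 yb50 zb13) (kb xb31 yb33 zb23) (kb xb27 yb8 zb15) (kb xb32 yb51 zb61) (kb xb25 yb21 zb12) (kb xb32 yb58 zb18) (kb xb32 yb25 zb23) (kb xb25 yb21 zb24) (kb xb26 yb53 zb35) (kb xb31 yb52 zb0) (kb xb31 yb40 zb37)) (@D3.rec (fun _ => Pt) (kb xb31 yb51 zb60) (kb xb32 yb27 zb19) (kb xb25 yb21 zb22) (kb xb32 yb27 zb17) (kb xb25 yb21 zb23) (kb xb32 yb46 zb16) (kb xb32 yb35 zb10) (kb xb25 yb21 zb39) (kb xb25 yb21 zb40) (kb xb31 yb31 zb59) (kb xb32 yb20 zb47) (kb xb25 yb21 zb32) (kb xb32 yb4 zb24) (kb xb32 yb32 zb59) (kb xb32 yb51 zb31) (kb xb27 yb13 zb33) (kb xb25 yb21 zb43) (kb xb25 yb21 zb36) (kb xb25 yb21 zb37) (kb xb32 yb51 zb49) (kb xb25 yb21 zb38) (kb xb32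 yb50 zb12) (kb xb32 yb40 zb44) (kb xb31 yb19 zb60) (kb xb32 yb58 zb21) (kb xb32 yb40 zb50) (kb xb32 yb16 zb37) (kb xb27 yb2 zb21) (kb xb32 yb58 zb23) (kb xb32 yb56 zb41) (kb xb28 yb45 zb21) (kb xb29 yb15 zb19) (kb xb30 yb27 zb3) (kb xb29 yb14 zb14) (kb xb31 yb21 zb59) (kb xb30 yb27 zb15) (kb xb25 yb21 zb49) (kb xb32 yb44 zb44) (kb xb25 yb21 zb57) (kb xb31 yb53 zb39) (kb xb31 yb51 zb17) (kb xb31 yb19 zb29) (kb xb29 yb42 zb57) (kb xb31 yb26 zb8) (kb xb32 yb53 zb7) (kb xb31 yb26 zb54) (kb xb31 yb47 zb46) (kb xb26 yb37 zb6) (kb xb25 yb22 zb35) (kb xb25 yb22 zb12) (kb xb25 yb22 zb18) (kb xb31 yb51 zb39) (kb xb32 yb40 zb39) (kb xb31 yb18 zb11) (kb xb31 yb55 zb58) (kb xb25 yb22 zb24) (kb xb32 yb24 zb6) (kb xb29 yb59 zb0) (kb xb26 yb6 zb17) (kb xb25 yb22 zb41) (kb xb25 yb22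 zb43) (kb xb25 yb22 zb45)) (@D3.rec (fun _ => Pt) (kb xb27 yb18 zb39) (kb xb31 yb54 zb58) (kb xb27 yb7 zb46) (kb xb31 yb54 zb59) (kb xb28 yb36 zb31) (kb xb31 yb54 zb49) (kb xb30 yb4 zb5) (kb xb25 yb23 zb2) (kb xb28 yb10 zb34) (kb xb30 yb49 zb2) (kb xb32 yb4 zb34) (kb xb25 yb23 zb25) (kb xb31 yb57 zb33) (kb xb32 yb5 zb18) (kb xb25 yb23 zb33) (kb xb32 yb58 zb30) (kb xb30 yb21 zb16) (kb xb32 yb20 zb42) (kb xb32 yb58 zb9) (kb xb30 yb53 zb13) (kb xb29 yb30 zb26) (kb xb32 yb10 zb11) (kb xb25 yb24 zb6) (kb xb31 yb0 zb26) (kb xb29 yb47 zb45) (kb xb25 yb24 zb14) (kb xb29 yb47 zb56) (kb xb29 yb48 zb32) (kb xb25 yb24 zb28) (kb xb28 yb57 zb51) (kb xb29 yb48 zb38) (kb xb25 yb58 zb45) (kb xb31 yb48 zb8) (kb xb31 yb53 zb61) (kb xb25 yb24 zb59) (kb xb32 yb0 zb18) (kb xb29 yb39 zb45)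 (kb xb32 yb19 zb14) (kb xb32 yb36 zb14) (kb xb31 yb52 zb39) (kb xb28 yb20 zb41) (kb xb25 yb25 zb31) (kb xb25 yb36 zb30) (kb xb32 yb44 zb31) (kb xb31 yb26 zb28) (kb xb28 yb48 zb28) (kb xb25 yb29 zb44) (kb xb26 yb32 zb15) (kb xb25 yb26 zb18) (kb xb31 yb56 zb9) (kb xb32 yb31 zb22) (kb xb27 yb13 zb14) (kb xb25 yb26 zb24) (kb xb31 yb32 zb39) (kb xb29 yb51 zb4) (kb xb25 yb26 zb39) (kb xb31 yb47 zb58) (kb xb27 yb52 zb48) (kb xb25 yb28 zb34) (kb xb30 yb55 zb7) (kb xb31 yb14 zb30) (kb xb31 yb53 zb33)) (@D3.rec (fun _ => Pt) (kb xb31 yb54 zb47) (kb xb30 yb24 zb35) (kb xb25 yb26 zb46) (kb xb29 yb31 zb18) (kb xb25 yb29 zb59) (kb xb31 yb25 zb46) (kb xb32 yb48 zb8) (kb xb32 yb46 zb17) (kb xb25 yb45 zb23) (kb xb25 yb31 zb36) (kb xb30 yb9 zb57) (kb xb25 yb27 zb36) (kb xb32 yb17 zb56)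 (kb xb30 yb54 zb60) (kb xb25 yb56 zb57) (kb xb25 yb28 zb5) (kb xb25 yb35 zb52) (kb xb27 yb49 zb44) (kb xb25 yb28 zb19) (kb xb25 yb35 zb38) (kb xb25 yb35 zb41) (kb xb32 yb8 zb24) (kb xb30 yb47 zb56) (kb xb30 yb10 zb41) (kb xb31 yb57 zb9) (kb xb30 yb47 zb49) (kb xb25 yb28 zb41) (kb xb30 yb40 zb36) (kb xb25 yb28 zb48) (kb xb31 yb55 zb55) (kb xb25 yb28 zb56) (kb xb32 yb39 zb35) (kb xb28 yb52 zb51) (kb xb26 yb17 zb29) (kb xb32 yb15 zb59) (kb xb31 yb25 zb48) (kb xb27 yb7 zb53) (kb xb29 yb6 zb57) (kb xb25 yb29 zb47) (kb xb26 yb11 zb48) (kb xb27 yb28 zb5) (kb xb26 yb42 zb30) (kb xb25 yb29 zb56) (kb xb26 yb12 zb16) (kb xb28 yb58 zb28) (kb xb31 yb48 zb44) (kb xb31 yb59 zb60) (kb xb31 yb54 zb0) (kb xb27 yb18 zb28) (kb xb31 yb53 zb5) (kb xb25 yb59 zb28) (kb xb25 yb59 zb29) (kb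 xb25 yb30 zb6) (kb xb25 yb30 zb7) (kb xb27 yb13 zb2) (kb xb31 yb38 zb41) (kb xb25 yb30 zb22) (kb xb25 yb30 zb21) (kb xb31 yb53 zb1) (kb xb31 yb53 zb3) (kb xb29 yb56 zb6) (kb xb31 yb1 zb12)) (@D3.rec (fun _ => Pt) (kb xb25 yb37 zb15) (kb xb30 yb6 zb37) (kb xb25 yb30 zb32) (kb xb32 yb0 zb9) (kb xb27 yb18 zb14) (kb xb25 yb30 zb39) (kb xb32 yb2 zb57) (kb xb30 yb36 zb45) (kb xb31 yb11 zb35) (kb xb25 yb59 zb36) (kb xb29 yb51 zb19) (kb xb32 yb42 zb25) (kb xb28 yb46 zb29) (kb xb28 yb17 zb12) (kb xb26 yb50 zb5) (kb xb30 yb20 zb2) (kb xb25 yb31 zb22) (kb xb25 yb31 zb34) (kb xb30 yb21 zb0) (kb xb25 yb31 zb38) (kb xb27 yb2 zb61) (kb xb25 yb31 zb47) (kb xb26 yb59 zb55) (kb xb26 yb37 zb34) (kb xb26 yb38 zb5) (kb xb32 yb18 zb59) (kb xb32 yb11 zb9) (kb xb29 yb46 zb21) (kb xb32 yb11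 zb58) (kb xb25 yb32 zb6) (kb xb31 yb47 zb34) (kb xb32 yb50 zb31) (kb xb27 yb19 zb26) (kb xb25 yb32 zb16) (kb xb25 yb32 zb23) (kb xb28 yb39 zb23) (kb xb28 yb50 zb61) (kb xb25 yb32 zb24) (kb xb32 yb37 zb13) (kb xb26 yb57 zb2) (kb xb28 yb46 zb13) (kb xb28 yb55 zb10) (kb xb28 yb55 zb48) (kb xb28 yb55 zb50) (kb xb32 yb12 zb39) (kb xb25 yb32 zb32) (kb xb25 yb32 zb30) (kb xb32 yb12 zb38) (kb xb27 yb27 zb0) (kb xb25 yb45 zb25) (kb xb25 yb32 zb46) (kb xb30 yb1 zb15) (kb xb25 yb32 zb49) (kb xb25 yb43 zb7) (kb xb26 yb3 zb46) (kb xb31 yb54 zb29) (kb xb27 yb17 zb26) (kb xb32 yb8 zb31) (kb xb31 yb52 zb54) (kb xb25 yb33 zb26) (kb xb30 yb5 zb21) (kb xb30 yb26 zb58)) (@D3.rec (fun _ => Pt) (kb xb31 yb48 zb48) (kb xb30 yb16 zb57) (kb xb25 yb33 zb37) (kb xb32 yb27 zb9) (kb xb32 yb36 zb56)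 (kb xb32 yb44 zb53) (kb xb27 yb33 zb18) (kb xb30 yb6 zb48) (kb xb32 yb27 zb57) (kb xb31 yb53 zb49) (kb xb31 yb0 zb12) (kb xb30 yb52 zb4) (kb xb25 yb34 zb26) (kb xb25 yb34 zb29) (kb xb30 yb2 zb48) (kb xb30 yb11 zb18) (kb xb29 yb56 zb35) (kb xb25 yb35 zb3) (kb xb31 yb37 zb61) (kb xb25 yb35 zb17) (kb xb25 yb35 zb19) (kb xb30 yb23 zb60) (kb xb30 yb11 zb29) (kb xb30 yb19 zb50) (kb xb25 yb35 zb44) (kb xb27 yb18 zb52) (kb xb32 yb34 zb36) (kb xb32 yb2 zb49) (kb xb32 yb21 zb61) (kb xb25 yb36 zb6) (kb xb28 yb58 zb45) (kb xb31 yb27 zb20) (kb xb31 yb4 zb43) (kb xb25 yb36 zb17) (kb xb32 yb44 zb52) (kb xb25 yb36 zb20) (kb xb32 yb0 zb17) (kb xb28 yb53 zb58) (kb xb25 yb36 zb48) (kb xb26 yb40 zb20) (kb xb31 yb59 zb27) (kb xb31 yb12 zb8) (kb xb25 yb37 zb11) (kb xb29 yb10 zb57) (kb xb29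 yb14 zb6) (kb xb32 yb26 zb47) (kb xb32 yb16 zb21) (kb xb32 yb50 zb6) (kb xb25 yb37 zb16) (kb xb31 yb10 zb30) (kb xb27 yb51 zb38) (kb xb29 yb56 zb56) (kb xb25 yb37 zb18) (kb xb31 yb41 zb7) (kb xb25 yb37 zb25) (kb xb31 yb50 zb59) (kb xb25 yb37 zb29) (kb xb32 yb40 zb42) (kb xb26 yb54 zb37) (kb xb32 yb11 zb0) (kb xb25 yb37 zb32) (kb xb32 yb44 zb42)) (@D3.rec (fun _ => Pt) (kb xb31 yb34 zb27) (kb xb32 yb46 zb5) (kb xb25 yb37 zb38) (kb xb31 yb18 zb21) (kb xb25 yb37 zb61) (kb xb31 yb35 zb55) (kb xb32 yb56 zb46) (kb xb29 yb11 zb53) (kb xb27 yb26 zb33) (kb xb31 yb54 zb24) (kb xb30 yb10 zb52) (kb xb32 yb3 zb21) (kb xb27 yb4 zb35) (kb xb29 yb58 zb24) (kb xb32 yb42 zb53) (kb xb32 yb3 zb19) (kb xb25 yb38 zb32) (kb xb31 yb24 zb46) (kb xb32 yb16 zb6) (kb xb32 yb32 zb45) (kb xb31 yb4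 zb40) (kb xb31 yb4 zb44) (kb xb30 yb41 zb13) (kb xb31 yb57 zb61) (kb xb27 yb1 zb2) (kb xb25 yb38 zb49) (kb xb29 yb12 zb28) (kb xb26 yb8 zb29) (kb xb30 yb10 zb39) (kb xb31 yb37 zb0) (kb xb30 yb41 zb39) (kb xb31 yb58 zb46) (kb xb31 yb58 zb43) (kb xb31 yb53 zb12) (kb xb29 yb57 zb50) (kb xb31 yb16 zb59) (kb xb25 yb39 zb2) (kb xb25 yb39 zb1) (kb xb32 yb50 zb44) (kb xb30 yb20 zb35) (kb xb32 yb31 zb34) (kb xb25 yb39 zb6) (kb xb31 yb34 zb48) (kb xb30 yb4 zb53) (kb xb30 yb40 zb8) (kb xb29 yb58 zb30) (kb xb30 yb10 zb42) (kb xb32 yb32 zb18) (kb xb25 yb39 zb9) (kb xb25 yb39 zb8) (kb xb30 yb16 zb58) (kb xb31 yb58 zb6) (kb xb28 yb4 zb13) (kb xb31 yb38 zb32) (kb xb30 yb23 zb15) (kb xb26 yb4 zb35) (kb xb26 yb52 zb54) (kb xb30 yb1 zb57) (kb xb32 yb44 zb14) (kb xb30 yb37 zb35) (kb xb25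 yb40 zb6) (kb xb31 yb57 zb23)) (@D3.rec (fun _ => Pt) (kb xb32 yb7 zb9) (kb xb32 yb7 zb6) (kb xb29 yb10 zb56) (kb xb32 yb42 zb35) (kb xb27 yb18 zb37) (kb xb32 yb29 zb58) (kb xb31 yb57 zb51) (kb xb31 yb38 zb38) (kb xb29 yb59 zb36) (kb xb28 yb4 zb40) (kb xb32 yb8 zb16) (kb xb32 yb34 zb44) (kb xb28 yb37 zb23) (kb xb25 yb40 zb30) (kb xb25 yb40 zb45) (kb xb25 yb40 zb46) (kb xb27 yb38 zb39) (kb xb30 yb17 zb61) (kb xb28 yb43 zb50) (kb xb31 yb28 zb58) (kb xb29 yb58 zb23) (kb xb30 yb24 zb41) (kb xb29 yb13 zb55) (kb xb27 yb57 zb23) (kb xb30 yb6 zb38) (kb xb30 yb11 zb7) (kb xb28 yb42 zb41) (kb xb28 yb50 zb24) (kb xb28 yb41 zb12) (kb xb31 yb28 zb25) (kb xb28 yb42 zb29) (kb xb30 yb59 zb1) (kb xb25 yb42 zb43) (kb xb31 yb17 zb0) (kb xb25 yb54 zb27) (kb xb32 yb48 zb18) (kb xb31 yb5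 zb28) (kb xb31 yb5 zb61) (kb xb31 yb45 zb6) (kb xb28 yb9 zb44) (kb xb25 yb42 zb41) (kb xb32 yb29 zb8) (kb xb30 yb0 zb38) (kb xb31 yb57 zb32) (kb xb25 yb42 zb49) (kb xb31 yb16 zb61) (kb xb31 yb57 zb31) (kb xb31 yb16 zb39) (kb xb25 yb42 zb56) (kb xb30 yb41 zb4) (kb xb30 yb57 zb22) (kb xb25 yb43 zb4) (kb xb28 yb53 zb9) (kb xb31 yb27 zb14) (kb xb30 yb53 zb7) (kb xb30 yb34 zb43) (kb xb26 yb44 zb4) (kb xb25 yb53 zb58) (kb xb32 yb0 zb5) (kb xb25 yb43 zb51) (kb xb31 yb7 zb4) (kb xb25 yb44 zb2)) (@D3.rec (fun _ => Pt) (kb xb30 yb32 zb47) (kb xb31 yb6 zb18) (kb xb30 yb2 zb8) (kb xb31 yb8 zb43) (kb xb32 yb43 zb4) (kb xb29 yb10 zb15) (kb xb26 yb11 zb18) (kb xb32 yb16 zb39) (kb xb26 yb37 zb8) (kb xb31 yb50 zb60) (kb xb25 yb45 zb0) (kb xb25 yb45 zb9) (kb xb32 yb49 zb36) (kb xb28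 yb6 zb39) (kb xb32 yb24 zb50) (kb xb26 yb30 zb33) (kb xb26 yb31 zb28) (kb xb31 yb38 zb8) (kb xb26 yb44 zb41) (kb xb27 yb39 zb57) (kb xb27 yb57 zb61) (kb xb29 yb29 zb44) (kb xb25 yb46 zb20) (kb xb29 yb48 zb56) (kb xb30 yb46 zb27) (kb xb28 yb20 zb23) (kb xb30 yb3 zb3) (kb xb31 yb56 zb40) (kb xb30 yb42 zb42) (kb xb31 yb12 zb2) (kb xb30 yb0 zb58) (kb xb32 yb25 zb54) (kb xb26 yb4 zb22) (kb xb25 yb47 zb5) (kb xb32 yb22 zb39) (kb xb28 yb48 zb51) (kb xb31 yb16 zb46) (kb xb27 yb25 zb26) (kb xb25 yb47 zb16) (kb xb25 yb47 zb33) (kb xb25 yb50 zb52) (kb xb30 yb55 zb51) (kb xb28 yb48 zb11) (kb xb25 yb47 zb42) (kb xb28 yb57 zb50) (kb xb25 yb47 zb55) (kb xb25 yb47 zb57) (kb xb26 yb21 zb15) (kb xb25 yb47 zb54) (kb xb26 yb21 zb22) (kb xb26 yb31 zb5) (kb xb28 yb12 zb53) (kb xb25 yb48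 zb16) (kb xb28 yb10 zb12) (kb xb25 yb48 zb22) (kb xb25 yb48 zb20) (kb xb25 yb48 zb25) (kb xb30 yb53 zb0) (kb xb25 yb48 zb33) (kb xb29 yb51 zb0) (kb xb31 yb54 zb46) (kb xb25 yb55 zb11))
def f_b_32 : D2 → D3 → Pt := @D2.rec (fun _ => D3 → Pt) (@D3.rec (fun _ => Pt) (kb xb30 yb53 zb27) (kb xb27 yb55 zb28) (kb xb30 yb16 zb53) (kb xb25 yb48 zb53) (kb xb25 yb49 zb2) (kb xb31 yb58 zb58) (kb xb32 yb38 zb47) (kb xb25 yb49 zb15) (kb xb31 yb47 zb42) (kb xb31 yb55 zb3) (kb xb25 yb49 zb21) (kb xb25 yb49 zb22) (kb xb32 yb42 zb33) (kb xb29 yb22 zb29) (kb xb25 yb49 zb53) (kb xb26 yb42 zb31) (kb xb26 yb41 zb33) (kb xb31 yb56 zb36) (kb xb31 yb53 zb35) (kb xb25 yb50 zb3) (kb xb25 yb50 zb30) (kb xb28 yb59 zb35) (kb xb29 yb17 zb51) (kb xb28 yb59 zb38) (kb xb25 yb50 zb34) (kb xb32 yb41 zb42)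 (kb xb27 yb37 zb18) (kb xb28 yb41 zb11) (kb xb27 yb37 zb21) (kb xb30 yb55 zb53) (kb xb29 yb7 zb56) (kb xb32 yb6 zb58) (kb xb26 yb55 zb53) (kb xb30 yb51 zb23) (kb xb32 yb27 zb61) (kb xb28 yb8 zb56) (kb xb32 yb15 zb40) (kb xb27 yb44 zb1) (kb xb30 yb8 zb5) (kb xb31 yb48 zb11) (kb xb31 yb48 zb16) (kb xb25 yb51 zb14) (kb xb28 yb59 zb7) (kb xb25 yb51 zb10) (kb xb25 yb51 zb13) (kb xb32 yb49 zb13) (kb xb25 yb51 zb21) (kb xb29 yb13 zb31) (kb xb25 yb51 zb28) (kb xb32 yb34 zb34) (kb xb32 yb58 zb40) (kb xb30 yb48 zb39) (kb xb25 yb51 zb41) (kb xb31 yb47 zb6) (kb xb28 yb2 zb57) (kb xb32 yb58 zb41) (kb xb32 yb35 zb38) (kb xb26 yb54 zb49) (kb xb25 yb52 zb39) (kb xb32 yb20 zb39) (kb xb25 yb52 zb42) (kb xb25 yb52 zb50)) (@D3.rec (fun _ => Pt) (kb xb26 yb40 zb44) (kb xb25 yb52 zb52) (kb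 xb25 yb52 zb58) (kb xb28 yb49 zb58) (kb xb25 yb53 zb3) (kb xb28 yb40 zb41) (kb xb32 yb58 zb42) (kb xb32 yb43 zb40) (kb xb30 yb39 zb2) (kb xb29 yb33 zb26) (kb xb25 yb53 zb15) (kb xb29 yb30 zb49) (kb xb30 yb55 zb5) (kb xb32 yb21 zb37) (kb xb26 yb45 zb1) (kb xb32 yb58 zb44) (kb xb30 yb19 zb61) (kb xb25 yb53 zb51) (kb xb25 yb53 zb55) (kb xb26 yb11 zb23) (kb xb25 yb54 zb4) (kb xb27 yb24 zb20) (kb xb25 yb58 zb48) (kb xb25 yb58 zb51) (kb xb25 yb58 zb59) (kb xb31 yb10 zb49) (kb xb27 yb1 zb46) (kb xb32 yb48 zb56) (kb xb25 yb54 zb16) (kb xb25 yb54 zb19) (kb xb25 yb59 zb10) (kb xb25 yb59 zb12) (kb xb27 yb53 zb3) (kb xb31 yb25 zb17) (kb xb26 yb17 zb34) (kb xb30 yb34 zb53) (kb xb25 yb59 zb9) (kb xb25 yb54 zb33) (kb xb30 yb34 zb56) (kb xb27 yb23 zb40) (kb xb31 yb16 zb41) (kb xb30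 yb53 zb33) (kb xb25 yb54 zb41) (kb xb25 yb59 zb20) (kb xb27 yb53 zb9) (kb xb26 yb15 zb31) (kb xb27 yb40 zb5) (kb xb25 yb59 zb56) (kb xb27 yb49 zb54) (kb xb27 yb0 zb20) (kb xb25 yb55 zb17) (kb xb30 yb47 zb54) (kb xb25 yb55 zb21) (kb xb26 yb51 zb16) (kb xb30 yb50 zb24) (kb xb28 yb51 zb2) (kb xb29 yb36 zb24) (kb xb25 yb55 zb33) (kb xb31 yb45 zb51) (kb xb25 yb55 zb54) (kb xb31 yb45 zb52) (kb xb25 yb55 zb59)) (@D3.rec (fun _ => Pt) (kb xb30 yb10 zb8) (kb xb32 yb42 zb37) (kb xb26 yb43 zb22) (kb xb25 yb56 zb22) (kb xb25 yb56 zb24) (kb xb25 yb56 zb30) (kb xb32 yb52 zb16) (kb xb29 yb42 zb0) (kb xb27 yb9 zb55) (kb xb31 yb51 zb26) (kb xb28 yb20 zb16) (kb xb25 yb56 zb39) (kb xb31 yb15 zb59) (kb xb29 yb16 zb47) (kb xb28 yb53 zb44) (kb xb32 yb56 zb47) (kb xb31 yb20 zb38) (kb xb32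 yb24 zb42) (kb xb30 yb36 zb40) (kb xb25 yb56 zb53) (kb xb32 yb28 zb46) (kb xb30 yb54 zb30) (kb xb27 yb8 zb41) (kb xb27 yb42 zb39) (kb xb25 yb57 zb19) (kb xb25 yb57 zb17) (kb xb31 yb46 zb30) (kb xb32 yb8 zb22) (kb xb25 yb59 zb5) (kb xb30 yb52 zb15) (kb xb25 yb57 zb44) (kb xb25 yb57 zb46) (kb xb25 yb57 zb49) (kb xb25 yb57 zb54) (kb xb32 yb48 zb61) (kb xb32 yb58 zb47) (kb xb25 yb57 zb57) (kb xb28 yb21 zb26) (kb xb25 yb57 zb61) (kb xb29 yb54 zb17) (kb xb31 yb16 zb0) (kb xb27 yb29 zb45) (kb xb32 yb15 zb56) (kb xb27 yb41 zb14) (kb xb31 yb37 zb35) (kb xb31 yb20 zb60) (kb xb32 yb13 zb53) (kb xb29 yb53 zb13) (kb xb32 yb6 zb25) (kb xb31 yb56 zb27) (kb xb30 yb54 zb52) (kb xb32 yb53 zb40) (kb xb27 yb1 zb48) (kb xb27 yb23 zb32) (kb xb30 yb7 zb16) (kb xb25 yb58 zb55) (kb xb31 yb16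 zb52) (kb xb31 yb55 zb6) (kb xb27 yb4 zb37) (kb xb31 yb10 zb35) (kb xb32 yb23 zb47) (kb xb30 yb56 zb29)) (@D3.rec (fun _ => Pt) (kb xb25 yb59 zb25) (kb xb32 yb42 zb38) (kb xb31 yb49 zb18) (kb xb28 yb0 zb17) (kb xb28 yb35 zb33) (kb xb31 yb17 zb2) (kb xb25 yb59 zb61) (kb xb26 yb0 zb12) (kb xb32 yb33 zb49) (kb xb28 yb11 zb59) (kb xb30 yb1 zb60) (kb xb31 yb0 zb5) (kb xb30 yb0 zb28) (kb xb28 yb55 zb15) (kb xb31 yb3 zb59) (kb xb26 yb6 zb37) (kb xb30 yb4 zb34) (kb xb30 yb51 zb43) (kb xb26 yb1 zb32) (kb xb31 yb57 zb15) (kb xb26 yb1 zb47) (kb xb31 yb57 zb11) (kb xb26 yb2 zb43) (kb xb26 yb1 zb59) (kb xb26 yb2 zb1) (kb xb32 yb44 zb43) (kb xb32 yb39 zb13) (kb xb26 yb34 zb24) (kb xb26 yb2 zb13) (kb xb31 yb45 zb1) (kb xb32 yb38 zb22) (kb xb29 yb17 zb8) (kb xb26 yb2 zb44) (kb xb26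 yb2 zb45) (kb xb26 yb38 zb57) (kb xb32 yb41 zb19) (kb xb30 yb17 zb37) (kb xb26 yb33 zb14) (kb xb28 yb4 zb4) (kb xb26 yb3 zb20) (kb xb27 yb38 zb21) (kb xb30 yb2 zb34) (kb xb29 yb30 zb9) (kb xb29 yb6 zb6) (kb xb32 yb5 zb40) (kb xb31 yb43 zb39) (kb xb26 yb3 zb52) (kb xb32 yb5 zb0) (kb xb27 yb39 zb58) (kb xb27 yb34 zb44) (kb xb28 yb6 zb19) (kb xb32 yb31 zb17) (kb xb31 yb27 zb53) (kb xb32 yb31 zb7) (kb xb27 yb30 zb60) (kb xb27 yb36 zb45) (kb xb26 yb20 zb60) (kb xb29 yb24 zb61) (kb xb28 yb58 zb30) (kb xb28 yb58 zb31) (kb xb29 yb1 zb18) (kb xb26 yb4 zb44)) (@D3.rec (fun _ => Pt) (kb xb26 yb4 zb45) (kb xb28 yb56 zb58) (kb xb29 yb45 zb38) (kb xb32 yb35 zb42) (kb xb29 yb47 zb21) (kb xb32 yb11 zb6) (kb xb30 yb16 zb4) (kb xb26 yb34 zb7) (kb xb28 yb59 zb33) (kb xb31 yb26 zb47) (kb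 xb32 yb41 zb28) (kb xb26 yb5 zb1) (kb xb29 yb1 zb19) (kb xb26 yb34 zb1) (kb xb29 yb22 zb16) (kb xb31 yb41 zb21) (kb xb26 yb6 zb7) (kb xb29 yb28 zb56) (kb xb30 yb22 zb44) (kb xb26 yb6 zb11) (kb xb30 yb21 zb30) (kb xb26 yb6 zb16) (kb xb32 yb41 zb32) (kb xb32 yb57 zb37) (kb xb31 yb52 zb12) (kb xb32 yb56 zb26) (kb xb32 yb40 zb38) (kb xb31 yb47 zb43) (kb xb26 yb6 zb21) (kb xb32 yb57 zb35) (kb xb30 yb40 zb26) (kb xb29 yb52 zb5) (kb xb26 yb6 zb38) (kb xb26 yb6 zb41) (kb xb31 yb53 zb10) (kb xb26 yb6 zb44) (kb xb29 yb57 zb52) (kb xb26 yb6 zb58) (kb xb26 yb6 zb61) (kb xb32 yb54 zb12) (kb xb32 yb4 zb53) (kb xb30 yb5 zb33) (kb xb30 yb7 zb45) (kb xb31 yb9 zb32) (kb xb27 yb57 zb54) (kb xb28 yb25 zb60) (kb xb26 yb37 zb1) (kb xb32 yb54 zb60) (kb xb26 yb8 zb3) (kb xb30 yb2 zb31) (kb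 xb30 yb10 zb43) (kb xb26 yb8 zb6) (kb xb29 yb13 zb58) (kb xb32 yb4 zb40) (kb xb29 yb9 zb58) (kb xb28 yb3 zb20) (kb xb31 yb3 zb29) (kb xb31 yb2 zb55) (kb xb26 yb8 zb28) (kb xb30 yb13 zb8) (kb xb26 yb8 zb35) (kb xb32 yb31 zb5)) (@D3.rec (fun _ => Pt) (kb xb32 yb3 zb47) (kb xb27 yb44 zb39) (kb xb31 yb4 zb32) (kb xb30 yb20 zb9) (kb xb31 yb12 zb18) (kb xb32 yb23 zb50) (kb xb30 yb57 zb9) (kb xb31 yb0 zb56) (kb xb32 yb53 zb12) (kb xb26 yb9 zb26) (kb xb32 yb54 zb4) (kb xb31 yb2 zb6) (kb xb30 yb57 zb24) (kb xb26 yb9 zb35) (kb xb31 yb30 zb20) (kb xb32 yb31 zb13) (kb xb28 yb31 zb32) (kb xb29 yb13 zb35) (kb xb31 yb53 zb13) (kb xb28 yb55 zb14) (kb xb26 yb10 zb3) (kb xb32 yb21 zb34) (kb xb29 yb11 zb54) (kb xb26 yb10 zb23) (kb xb27 yb25 zb11) (kb xb30 yb16 zb32) (kb xb26 yb10 zb35)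 (kb xb29 yb57 zb49) (kb xb28 yb32 zb18) (kb xb29 yb7 zb18) (kb xb32 yb25 zb13) (kb xb26 yb11 zb24) (kb xb26 yb12 zb0) (kb xb26 yb11 zb36) (kb xb31 yb43 zb6) (kb xb32 yb25 zb3) (kb xb31 yb34 zb2) (kb xb26 yb11 zb45) (kb xb26 yb11 zb42) (kb xb28 yb41 zb6) (kb xb32 yb3 zb44) (kb xb32 yb5 zb49) (kb xb27 yb28 zb41) (kb xb32 yb38 zb4) (kb xb26 yb11 zb50) (kb xb32 yb55 zb12) (kb xb26 yb11 zb56) (kb xb27 yb49 zb9) (kb xb32 yb5 zb58) (kb xb32 yb5 zb41) (kb xb26 yb11 zb52) (kb xb32 yb35 zb24) (kb xb26 yb11 zb55) (kb xb26 yb11 zb57) (kb xb26 yb11 zb60) (kb xb31 yb32 zb54) (kb xb28 yb43 zb45) (kb xb32 yb38 zb5) (kb xb32 yb5 zb48) (kb xb27 yb31 zb47) (kb xb27 yb28 zb59) (kb xb28 yb15 zb40)) (@D3.rec (fun _ => Pt) (kb xb27 yb27 zb52) (kb xb27 yb46 zb33) (kb xb26 yb12 zb53) (kb xb27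 yb43 zb11) (kb xb29 yb38 zb45) (kb xb28 yb1 zb1) (kb xb31 yb2 zb4) (kb xb29 yb15 zb48) (kb xb31 yb44 zb30) (kb xb32 yb7 zb19) (kb xb26 yb30 zb30) (kb xb28 yb5 zb28) (kb xb28 yb7 zb34) (kb xb31 yb42 zb48) (kb xb26 yb13 zb55) (kb xb29 yb16 zb3) (kb xb31 yb33 zb51) (kb xb30 yb14 zb6) (kb xb26 yb14 zb5) (kb xb27 yb40 zb21) (kb xb27 yb41 zb26) (kb xb27 yb44 zb57) (kb xb30 yb0 zb61) (kb xb27 yb50 zb54) (kb xb29 yb20 zb28) (kb xb32 yb2 zb48) (kb xb26 yb15 zb22) (kb xb26 yb21 zb24) (kb xb28 yb3 zb38) (kb xb32 yb47 zb10) (kb xb27 yb51 zb1) (kb xb30 yb12 zb61) (kb xb29 yb57 zb38) (kb xb27 yb51 zb50) (kb xb31 yb14 zb44) (kb xb27 yb49 zb35) (kb xb28 yb1 zb52) (kb xb29 yb17 zb29) (kb xb32 yb50 zb17) (kb xb30 yb52 zb41) (kb xb26 yb15 zb56) (kb xb31 yb1 zb0) (kb xb31 yb34 zb3) (kb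 xb28 yb9 zb6) (kb xb32 yb25 zb59) (kb xb28 yb8 zb6) (kb xb27 yb51 zb15) (kb xb27 yb33 zb34) (kb xb27 yb50 zb26) (kb xb32 yb55 zb59) (kb xb26 yb16 zb30) (kb xb30 yb23 zb18) (kb xb29 yb24 zb53) (kb xb32 yb49 zb29) (kb xb26 yb16 zb52) (kb xb26 yb17 zb9) (kb xb32 yb10 zb22) (kb xb28 yb46 zb57) (kb xb32 yb0 zb31) (kb xb29 yb25 zb3) (kb xb27 yb36 zb44) (kb xb31 yb42 zb56)) (@D3.rec (fun _ => Pt) (kb xb26 yb17 zb31) (kb xb26 yb17 zb38) (kb xb27 yb0 zb61) (kb xb31 yb36 zb39) (kb xb27 yb55 zb15) (kb xb26 yb17 zb49) (kb xb31 yb58 zb1) (kb xb28 yb34 zb42) (kb xb26 yb17 zb54) (kb xb31 yb58 zb0) (kb xb30 yb37 zb8) (kb xb31 yb23 zb20) (kb xb32 yb26 zb55) (kb xb31 yb27 zb36) (kb xb26 yb18 zb2) (kb xb32 yb29 zb1) (kb xb30 yb1 zb11) (kb xb27 yb46 zb27) (kb xb32 yb25 zb33) (kb xb32 yb6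 zb9) (kb xb28 yb38 zb6) (kb xb26 yb18 zb33) (kb xb32 yb28 zb32) (kb xb28 yb5 zb21) (kb xb26 yb18 zb52) (kb xb27 yb51 zb56) (kb xb26 yb18 zb56) (kb xb32 yb58 zb52) (kb xb28 yb8 zb1) (kb xb28 yb28 zb49) (kb xb32 yb31 zb8) (kb xb28 yb5 zb0) (kb xb27 yb52 zb24) (kb xb27 yb32 zb33) (kb xb26 yb48 zb60) (kb xb29 yb29 zb53) (kb xb26 yb19 zb58) (kb xb27 yb53 zb13) (kb xb26 yb20 zb24) (kb xb26 yb20 zb17) (kb xb26 yb20 zb30) (kb xb26 yb20 zb34) (kb xb32 yb55 zb22) (kb xb30 yb1 zb45) (kb xb32 yb41 zb58) (kb xb26 yb20 zb40) (kb xb28 yb5 zb4) (kb xb30 yb44 zb27) (kb xb31 yb42 zb24) (kb xb30 yb25 zb4) (kb xb26 yb21 zb0) (kb xb27 yb53 zb26) (kb xb27 yb49 zb14) (kb xb28 yb25 zb35) (kb xb28 yb9 zb1) (kb xb27 yb52 zb50) (kb xb26 yb30 zb55) (kb xb26 yb21 zb25) (kb xb32 yb8 zb49) (kb xb32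 yb27 zb35) (kb xb26 yb21 zb30) (kb xb28 yb46 zb52)) (@D3.rec (fun _ => Pt) (kb xb27 yb51 zb0) (kb xb27 yb49 zb28) (kb xb26 yb21 zb33) (kb xb30 yb26 zb41) (kb xb29 yb55 zb36) (kb xb26 yb21 zb53) (kb xb32 yb16 zb40) (kb xb28 yb34 zb35) (kb xb30 yb12 zb13) (kb xb29 yb54 zb50) (kb xb29 yb22 zb50) (kb xb32 yb57 zb19) (kb xb28 yb35 zb23) (kb xb26 yb22 zb20) (kb xb31 yb22 zb54) (kb xb31 yb29 zb54) (kb xb31 yb58 zb10) (kb xb26 yb22 zb46) (kb xb30 yb58 zb0) (kb xb27 yb51 zb39) (kb xb26 yb23 zb21) (kb xb27 yb10 zb53) (kb xb32 yb2 zb27) (kb xb32 yb29 zb27) (kb xb31 yb54 zb21) (kb xb29 yb53 zb15) (kb xb29 yb4 zb4) (kb xb26 yb24 zb4) (kb xb26 yb24 zb7) (kb xb29 yb19 zb59) (kb xb26 yb24 zb17) (kb xb31 yb55 zb57) (kb xb26 yb24 zb26) (kb xb26 yb29 zb5) (kb xb32 yb30 zb33) (kb xb32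 yb38 zb51) (kb xb26 yb24 zb30) (kb xb27 yb51 zb34) (kb xb32 yb57 zb32) (kb xb27 yb49 zb55) (kb xb29 yb19 zb26) (kb xb27 yb44 zb32) (kb xb26 yb25 zb9) (kb xb31 yb2 zb43) (kb xb26 yb25 zb15) (kb xb26 yb25 zb21) (kb xb31 yb46 zb29) (kb xb26 yb26 zb57) (kb xb26 yb27 zb31) (kb xb32 yb7 zb58) (kb xb32 yb31 zb49) (kb xb32 yb56 zb54) (kb xb32 yb38 zb49) (kb xb32 yb21 zb41) (kb xb32 yb21 zb18) (kb xb26 yb26 zb20) (kb xb26 yb26 zb45) (kb xb26 yb56 zb34) (kb xb29 yb1 zb13) (kb xb28 yb0 zb20) (kb xb31 yb40 zb45) (kb xb26 yb29 zb28)) (@D3.rec (fun _ => Pt) (kb xb28 yb32 zb58) (kb xb28 yb33 zb46) (kb xb31 yb20 zb12) (kb xb32 yb40 zb9) (kb xb26 yb27 zb32) (kb xb32 yb38 zb41) (kb xb30 yb49 zb44) (kb xb29 yb34 zb38) (kb xb26 yb27 zb37) (kb xb27 yb13 zb39) (kb xb26 yb27 zb38) (kb xb26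 yb27 zb41) (kb xb29 yb40 zb49) (kb xb26 yb31 zb22) (kb xb31 yb25 zb3) (kb xb29 yb53 zb60) (kb xb32 yb40 zb58) (kb xb29 yb33 zb21) (kb xb26 yb28 zb0) (kb xb29 yb15 zb59) (kb xb30 yb42 zb49) (kb xb29 yb14 zb58) (kb xb26 yb28 zb30) (kb xb28 yb38 zb55) (kb xb32 yb35 zb50) (kb xb26 yb28 zb52) (kb xb32 yb29 zb3) (kb xb31 yb38 zb17) (kb xb32 yb16 zb45) (kb xb28 yb18 zb58) (kb xb28 yb50 zb57) (kb xb29 yb28 zb44) (kb xb32 yb19 zb21) (kb xb31 yb25 zb18) (kb xb28 yb31 zb51) (kb xb31 yb50 zb22) (kb xb30 yb56 zb10) (kb xb27 yb49 zb20) (kb xb32 yb36 zb24) (kb xb32 yb10 zb3) (kb xb26 yb29 zb20) (kb xb26 yb29 zb39) (kb xb28 yb5 zb16) (kb xb29 yb20 zb59) (kb xb32 yb30 zb16) (kb xb32 yb24 zb11) (kb xb30 yb27 zb59) (kb xb26 yb29 zb52) (kb xb30 yb12 zb15) (kb xb32 yb38 zb9) (kb xb28 yb41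 zb34) (kb xb28 yb47 zb20) (kb xb28 yb31 zb9) (kb xb29 yb11 zb21) (kb xb31 yb11 zb10) (kb xb26 yb50 zb54) (kb xb27 yb8 zb45) (kb xb26 yb30 zb21) (kb xb27 yb52 zb2) (kb xb26 yb31 zb44) (kb xb29 yb16 zb13) (kb xb31 yb39 zb29)) (@D3.rec (fun _ => Pt) (kb xb29 yb53 zb51) (kb xb26 yb30 zb40) (kb xb26 yb32 zb36) (kb xb32 yb9 zb39) (kb xb32 yb10 zb16) (kb xb28 yb4 zb29) (kb xb26 yb30 zb44) (kb xb32 yb28 zb45) (kb xb28 yb6 zb49) (kb xb27 yb51 zb54) (kb xb30 yb52 zb5) (kb xb31 yb53 zb21) (kb xb26 yb30 zb54) (kb xb28 yb4 zb39) (kb xb26 yb31 zb26) (kb xb28 yb7 zb29) (kb xb32 yb10 zb4) (kb xb26 yb32 zb46) (kb xb28 yb55 zb41) (kb xb28 yb55 zb36) (kb xb26 yb56 zb20) (kb xb31 yb15 zb27) (kb xb32 yb6 zb56) (kb xb26 yb32 zb6) (kb xb26 yb32 zb13) (kb xb26 yb32 zb14) (kb xb30 yb32 zb41)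 (kb xb26 yb32 zb27) (kb xb28 yb19 zb50) (kb xb29 yb22 zb22) (kb xb26 yb33 zb10) (kb xb26 yb36 zb57) (kb xb29 yb46 zb4) (kb xb26 yb58 zb37) (kb xb26 yb38 zb59) (kb xb31 yb20 zb46) (kb xb26 yb33 zb30) (kb xb32 yb14 zb26) (kb xb26 yb39 zb38) (kb xb26 yb33 zb36) (kb xb32 yb47 zb17) (kb xb26 yb33 zb37) (kb xb32 yb57 zb3) (kb xb29 yb47 zb14) (kb xb32 yb56 zb52) (kb xb26 yb33 zb43) (kb xb32 yb44 zb36) (kb xb28 yb50 zb27) (kb xb29 yb56 zb15) (kb xb26 yb34 zb6) (kb xb32 yb47 zb55) (kb xb30 yb14 zb60) (kb xb29 yb34 zb8) (kb xb27 yb14 zb4) (kb xb32 yb52 zb35) (kb xb32 yb22 zb57) (kb xb31 yb20 zb13) (kb xb28 yb54 zb19) (kb xb29 yb0 zb13) (kb xb32 yb50 zb23) (kb xb32 yb38 zb35) (kb xb26 yb34 zb19)) (@D3.rec (fun _ => Pt) (kb xb31 yb56 zb59) (kb xb32 yb17 zb57) (kb xb30 yb27 zb6)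 (kb xb30 yb27 zb7) (kb xb32 yb19 zb45) (kb xb28 yb54 zb14) (kb xb32 yb4 zb5) (kb xb27 yb16 zb29) (kb xb32 yb37 zb51) (kb xb31 yb55 zb26) (kb xb27 yb7 zb34) (kb xb28 yb38 zb3) (kb xb27 yb14 zb47) (kb xb26 yb34 zb35) (kb xb32 yb37 zb52) (kb xb26 yb34 zb40) (kb xb32 yb47 zb27) (kb xb32 yb33 zb10) (kb xb29 yb34 zb29) (kb xb32 yb20 zb57) (kb xb30 yb56 zb50) (kb xb29 yb46 zb26) (kb xb30 yb14 zb56) (kb xb32 yb50 zb33) (kb xb26 yb34 zb61) (kb xb26 yb35 zb0) (kb xb32 yb38 zb29) (kb xb26 yb35 zb6) (kb xb29 yb42 zb53) (kb xb32 yb14 zb40) (kb xb32 yb17 zb7) (kb xb26 yb35 zb9) (kb xb26 yb36 zb40) (kb xb27 yb0 zb22) (kb xb26 yb35 zb15) (kb xb26 yb40 zb31) (kb xb26 yb35 zb22) (kb xb26 yb35 zb21) (kb xb31 yb40 zb44) (kb xb32 yb12 zb2) (kb xb27 yb14 zb43) (kb xb27 yb19 zb5) (kb xb27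 yb0 zb27) (kb xb30 yb17 zb15) (kb xb31 yb18 zb33) (kb xb26 yb35 zb32) (kb xb32 yb34 zb26) (kb xb26 yb38 zb2) (kb xb32 yb19 zb11) (kb xb32 yb46 zb47) (kb xb30 yb15 zb39) (kb xb26 yb55 zb51) (kb xb32 yb37 zb21) (kb xb32 yb23 zb1) (kb xb28 yb39 zb35) (kb xb32 yb19 zb12) (kb xb26 yb35 zb50) (kb xb31 yb18 zb0) (kb xb31 yb55 zb28) (kb xb30 yb28 zb40) (kb xb26 yb35 zb51) (kb xb26 yb36 zb25)) (@D3.rec (fun _ => Pt) (kb xb28 yb59 zb41) (kb xb32 yb19 zb9) (kb xb32 yb11 zb39) (kb xb29 yb45 zb23) (kb xb26 yb35 zb60) (kb xb30 yb15 zb19) (kb xb30 yb15 zb14) (kb xb30 yb15 zb15) (kb xb28 yb38 zb56) (kb xb32 yb58 zb55) (kb xb26 yb36 zb1) (kb xb27 yb13 zb52) (kb xb32 yb52 zb33) (kb xb30 yb29 zb5) (kb xb29 yb33 zb20) (kb xb29 yb33 zb40) (kb xb26 yb36 zb12) (kb xb27 yb0 zb32) (kb xb32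 yb58 zb56) (kb xb26 yb36 zb11) (kb xb29 yb33 zb49) (kb xb26 yb36 zb16) (kb xb32 yb52 zb46) (kb xb32 yb57 zb17) (kb xb26 yb36 zb18) (kb xb32 yb40 zb29) (kb xb30 yb28 zb47) (kb xb29 yb45 zb14) (kb xb26 yb36 zb20) (kb xb27 yb16 zb1) (kb xb32 yb47 zb34) (kb xb26 yb36 zb24) (kb xb31 yb33 zb19) (kb xb32 yb47 zb37) (kb xb29 yb45 zb16) (kb xb32 yb47 zb31) (kb xb29 yb38 zb0) (kb xb32 yb37 zb34) (kb xb31 yb55 zb47) (kb xb31 yb55 zb44) (kb xb26 yb36 zb30) (kb xb26 yb36 zb35) (kb xb32 yb18 zb56) (kb xb28 yb34 zb21) (kb xb26 yb36 zb38) (kb xb26 yb36 zb44) (kb xb32 yb37 zb49) (kb xb31 yb19 zb46) (kb xb32 yb20 zb56) (kb xb32 yb57 zb18) (kb xb26 yb36 zb58) (kb xb26 yb41 zb26) (kb xb32 yb48 zb29) (kb xb26 yb59 zb24) (kb xb26 yb37 zb17) (kb xb31 yb48 zb26) (kb xb29 yb10 zb34) (kb xb27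 yb29 zb16) (kb xb28 yb31 zb35) (kb xb26 yb37 zb42) (kb xb31 yb51 zb11) (kb xb26 yb37 zb45)) (@D3.rec (fun _ => Pt) (kb xb29 yb58 zb61) (kb xb26 yb37 zb48) (kb xb32 yb43 zb0) (kb xb27 yb19 zb11) (kb xb32 yb51 zb5) (kb xb26 yb37 zb54) (kb xb32 yb24 zb3) (kb xb32 yb47 zb23) (kb xb32 yb17 zb26) (kb xb32 yb24 zb0) (kb xb29 yb33 zb48) (kb xb32 yb57 zb28) (kb xb26 yb38 zb7) (kb xb30 yb15 zb38) (kb xb30 yb29 zb59) (kb xb32 yb33 zb38) (kb xb29 yb10 zb37) (kb xb28 yb55 zb57) (kb xb26 yb41 zb27) (kb xb32 yb24 zb4) (kb xb29 yb45 zb15) (kb xb26 yb59 zb35) (kb xb28 yb57 zb60) (kb xb26 yb38 zb22) (kb xb26 yb38 zb27) (kb xb32 yb52 zb28) (kb xb26 yb38 zb28) (kb xb28 yb52 zb20) (kb xb26 yb39 zb1) (kb xb32 yb37 zb38) (kb xb32 yb41 zb12) (kb xb29 yb26 zb13) (kb xb26 yb38 zb47) (kb xb28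 yb44 zb38) (kb xb29 yb40 zb28) (kb xb26 yb38 zb51) (kb xb30 yb29 zb27) (kb xb30 yb15 zb55) (kb xb32 yb19 zb18) (kb xb28 yb46 zb49) (kb xb32 yb47 zb20) (kb xb32 yb45 zb29) (kb xb28 yb31 zb2) (kb xb26 yb51 zb49) (kb xb26 yb39 zb3) (kb xb32 yb45 zb44) (kb xb27 yb36 zb3) (kb xb31 yb29 zb44) (kb xb26 yb46 zb24) (kb xb32 yb56 zb27) (kb xb26 yb39 zb16) (kb xb30 yb15 zb1) (kb xb30 yb31 zb0) (kb xb32 yb2 zb46) (kb xb31 yb42 zb40) (kb xb32 yb28 zb53) (kb xb26 yb39 zb47) (kb xb26 yb39 zb48) (kb xb26 yb40 zb2) (kb xb32 yb15 zb34) (kb xb28 yb31 zb43) (kb xb27 yb17 zb38)) (@D3.rec (fun _ => Pt) (kb xb26 yb54 zb2) (kb xb26 yb40 zb8) (kb xb32 yb58 zb60) (kb xb32 yb56 zb57) (kb xb30 yb11 zb50) (kb xb30 yb29 zb39) (kb xb30 yb14 zb25) (kb xb26 yb40 zb25) (kb xb26 yb40 zb45) (kb xb26 yb40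 zb46) (kb xb26 yb40 zb48) (kb xb32 yb52 zb22) (kb xb32 yb20 zb60) (kb xb32 yb38 zb40) (kb xb26 yb41 zb5) (kb xb30 yb31 zb1) (kb xb29 yb34 zb15) (kb xb32 yb45 zb52) (kb xb28 yb24 zb14) (kb xb29 yb34 zb19) (kb xb32 yb40 zb26) (kb xb30 yb15 zb26) (kb xb29 yb47 zb15) (kb xb32 yb27 zb36) (kb xb26 yb41 zb4) (kb xb31 yb20 zb31) (kb xb32 yb10 zb37) (kb xb27 yb0 zb16) (kb xb32 yb22 zb32) (kb xb29 yb47 zb32) (kb xb31 yb20 zb37) (kb xb26 yb41 zb16) (kb xb27 yb0 zb17) (kb xb29 yb56 zb12) (kb xb26 yb41 zb28) (kb xb32 yb46 zb45) (kb xb30 yb16 zb44) (kb xb28 yb58 zb56) (kb xb26 yb41 zb61) (kb xb31 yb12 zb26) (kb xb32 yb11 zb29) (kb xb31 yb26 zb37) (kb xb28 yb45 zb51) (kb xb26 yb42 zb45) (kb xb32 yb17 zb43) (kb xb29 yb8 zb31) (kb xb28 yb51 zb39) (kb xb28 yb51 zb41) (kb xb31 yb16 zb27)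 (kb xb26 yb42 zb60) (kb xb26 yb42 zb54) (kb xb31 yb4 zb24) (kb xb28 yb11 zb51) (kb xb27 yb8 zb52) (kb xb27 yb8 zb51) (kb xb30 yb37 zb51) (kb xb32 yb48 zb6) (kb xb28 yb51 zb61) (kb xb26 yb43 zb0) (kb xb32 yb20 zb51) (kb xb26 yb43 zb1) (kb xb26 yb43 zb2)) (@D3.rec (fun _ => Pt) (kb xb32 yb56 zb5) (kb xb28 yb52 zb47) (kb xb26 yb43 zb8) (kb xb32 yb58 zb16) (kb xb32 yb52 zb12) (kb xb32 yb54 zb42) (kb xb32 yb20 zb37) (kb xb28 yb52 zb15) (kb xb28 yb52 zb16) (kb xb26 yb43 zb14) (kb xb26 yb43 zb18) (kb xb29 yb29 zb32) (kb xb28 yb53 zb5) (kb xb28 yb52 zb14) (kb xb26 yb43 zb26) (kb xb26 yb43 zb32) (kb xb26 yb43 zb33) (kb xb32 yb33 zb47) (kb xb28 yb30 zb27) (kb xb28 yb15 zb46) (kb xb30 yb53 zb48) (kb xb32 yb31 zb57) (kb xb26 yb43 zb55) (kb xb30 yb29 zb22) (kb xb26 yb43 zb59) (kb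 xb30 yb56 zb21) (kb xb26 yb44 zb5) (kb xb30 yb36 zb41) (kb xb26 yb52 zb42) (kb xb27 yb37 zb23) (kb xb26 yb44 zb19) (kb xb32 yb46 zb57) (kb xb28 yb20 zb46) (kb xb27 yb0 zb11) (kb xb32 yb13 zb59) (kb xb31 yb48 zb53) (kb xb27 yb24 zb0) (kb xb26 yb45 zb7) (kb xb27 yb44 zb10) (kb xb28 yb37 zb31) (kb xb32 yb0 zb36) (kb xb26 yb45 zb19) (kb xb29 yb30 zb33) (kb xb26 yb45 zb39) (kb xb32 yb34 zb37) (kb xb32 yb19 zb7) (kb xb26 yb46 zb14) (kb xb26 yb46 zb18) (kb xb28 yb47 zb58) (kb xb26 yb46 zb22) (kb xb32 yb36 zb7) (kb xb29 yb21 zb52) (kb xb31 yb40 zb52) (kb xb29 yb17 zb40) (kb xb26 yb46 zb49) (kb xb30 yb54 zb61) (kb xb32 yb2 zb42) (kb xb29 yb10 zb45) (kb xb26 yb47 zb9) (kb xb31 yb54 zb34) (kb xb32 yb55 zb27) (kb xb30 yb7 zb59)) (@D3.rec (fun _ => Pt) (kb xb32 yb55 zb45) (kb xb31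 yb3 zb42) (kb xb30 yb40 zb31) (kb xb26 yb48 zb30) (kb xb29 yb9 zb59) (kb xb26 yb47 zb30) (kb xb31 yb57 zb18) (kb xb29 yb13 zb56) (kb xb28 yb27 zb27) (kb xb26 yb47 zb29) (kb xb31 yb3 zb61) (kb xb32 yb55 zb33) (kb xb30 yb41 zb14) (kb xb30 yb40 zb42) (kb xb31 yb6 zb11) (kb xb31 yb6 zb16) (kb xb32 yb23 zb48) (kb xb30 yb31 zb46) (kb xb31 yb8 zb1) (kb xb30 yb52 zb14) (kb xb26 yb48 zb27) (kb xb31 yb56 zb46) (kb xb29 yb10 zb58) (kb xb28 yb57 zb31) (kb xb28 yb28 zb25) (kb xb28 yb29 zb12) (kb xb31 yb30 zb51) (kb xb30 yb43 zb21) (kb xb29 yb38 zb56) (kb xb32 yb22 zb28) (kb xb28 yb22 zb23) (kb xb32 yb19 zb42) (kb xb32 yb49 zb58) (kb xb30 yb28 zb48) (kb xb28 yb56 zb8) (kb xb26 yb49 zb29) (kb xb31 yb18 zb16) (kb xb31 yb52 zb26) (kb xb26 yb50 zb17) (kb xb31 yb59 zb7) (kb xb32 yb8 zb6)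 (kb xb27 yb8 zb44) (kb xb26 yb50 zb55) (kb xb29 yb35 zb14) (kb xb32 yb53 zb34) (kb xb32 yb9 zb28) (kb xb26 yb51 zb1) (kb xb29 yb40 zb12) (kb xb27 yb13 zb51) (kb xb26 yb51 zb33) (kb xb32 yb37 zb53) (kb xb29 yb42 zb37) (kb xb32 yb57 zb25) (kb xb26 yb51 zb52) (kb xb27 yb8 zb28) (kb xb31 yb24 zb12) (kb xb31 yb24 zb16) (kb xb31 yb24 zb6) (kb xb29 yb30 zb21) (kb xb30 yb20 zb46) (kb xb26 yb52 zb9) (kb xb27 yb14 zb11)) (@D3.rec (fun _ => Pt) (kb xb30 yb22 zb35) (kb xb26 yb53 zb45) (kb xb32 yb23 zb6) (kb xb32 yb18 zb42) (kb xb32 yb47 zb6) (kb xb26 yb52 zb25) (kb xb29 yb45 zb18) (kb xb32 yb11 zb30) (kb xb28 yb24 zb13) (kb xb32 yb46 zb28) (kb xb30 yb36 zb14) (kb xb27 yb3 zb6) (kb xb29 yb30 zb16) (kb xb26 yb52 zb38) (kb xb29 yb21 zb2) (kb xb27 yb55 zb7) (kb xb30 yb34 zb10) (kb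 xb30 yb25 zb9) (kb xb28 yb36 zb41) (kb xb28 yb37 zb22) (kb xb32 yb46 zb33) (kb xb28 yb15 zb4) (kb xb26 yb53 zb26) (kb xb28 yb43 zb10) (kb xb31 yb28 zb43) (kb xb32 yb23 zb58) (kb xb32 yb13 zb8) (kb xb29 yb13 zb24) (kb xb32 yb43 zb28) (kb xb32 yb17 zb51) (kb xb30 yb35 zb58) (kb xb26 yb53 zb44) (kb xb31 yb36 zb51) (kb xb30 yb22 zb46) (kb xb28 yb32 zb37) (kb xb27 yb7 zb16) (kb xb30 yb23 zb40) (kb xb32 yb53 zb25) (kb xb26 yb53 zb59) (kb xb32 yb42 zb45) (kb xb30 yb21 zb44) (kb xb31 yb24 zb14) (kb xb31 yb30 zb4) (kb xb32 yb14 zb44) (kb xb26 yb54 zb26) (kb xb26 yb54 zb27) (kb xb32 yb45 zb58) (kb xb32 yb46 zb8) (kb xb32 yb51 zb60) (kb xb32 yb43 zb29) (kb xb28 yb28 zb24) (kb xb32 yb17 zb29) (kb xb31 yb40 zb39) (kb xb29 yb43 zb33) (kb xb29 yb27 zb19) (kb xb32 yb36 zb38) (kb xb31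 yb54 zb12) (kb xb32 yb11 zb1) (kb xb29 yb14 zb13) (kb xb31 yb22 zb2) (kb xb26 yb54 zb43) (kb xb32 yb56 zb39)) (@D3.rec (fun _ => Pt) (kb xb29 yb27 zb31) (kb xb32 yb51 zb59) (kb xb32 yb43 zb34) (kb xb26 yb54 zb45) (kb xb26 yb54 zb47) (kb xb31 yb35 zb52) (kb xb31 yb35 zb57) (kb xb28 yb19 zb37) (kb xb29 yb29 zb48) (kb xb26 yb55 zb44) (kb xb32 yb53 zb38) (kb xb32 yb48 zb36) (kb xb26 yb55 zb57) (kb xb27 yb13 zb28) (kb xb29 yb8 zb8) (kb xb30 yb39 zb45) (kb xb28 yb58 zb19) (kb xb30 yb51 zb13) (kb xb29 yb52 zb43) (kb xb26 yb56 zb19) (kb xb29 yb42 zb7) (kb xb29 yb24 zb23) (kb xb26 yb56 zb28) (kb xb26 yb56 zb31) (kb xb31 yb19 zb28) (kb xb27 yb17 zb10) (kb xb30 yb34 zb22) (kb xb32 yb20 zb12) (kb xb27 yb14 zb0) (kb xb26 yb56 zb51) (kb xb29 yb53 zb11) (kb xb32 yb22 zb16) (kb xb26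 yb57 zb6) (kb xb31 yb28 zb27) (kb xb31 yb12 zb54) (kb xb32 yb45 zb35) (kb xb26 yb57 zb11) (kb xb29 yb26 zb10) (kb xb32 yb35 zb14) (kb xb32 yb46 zb37) (kb xb32 yb36 zb17) (kb xb26 yb57 zb32) (kb xb32 yb17 zb3) (kb xb27 yb13 zb9) (kb xb27 yb10 zb3) (kb xb31 yb29 zb61) (kb xb29 yb49 zb4) (kb xb30 yb32 zb48) (kb xb29 yb13 zb6) (kb xb32 yb23 zb29) (kb xb27 yb41 zb31) (kb xb26 yb59 zb33) (kb xb29 yb32 zb35) (kb xb28 yb29 zb5) (kb xb28 yb50 zb53) (kb xb32 yb41 zb7) (kb xb32 yb12 zb42) (kb xb29 yb40 zb2) (kb xb29 yb56 zb27) (kb xb31 yb55 zb25) (kb xb32 yb23 zb4) (kb xb27 yb16 zb19)) (@D3.rec (fun _ => Pt) (kb xb30 yb28 zb55) (kb xb29 yb45 zb58) (kb xb29 yb45 zb59) (kb xb32 yb37 zb43) (kb xb29 yb40 zb3) (kb xb27 yb0 zb26) (kb xb27 yb19 zb6) (kb xb32 yb15 zb45) (kb xb32 yb47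 zb45) (kb xb32 yb12 zb1) (kb xb31 yb26 zb4) (kb xb32 yb11 zb48) (kb xb32 yb11 zb55) (kb xb32 yb41 zb47) (kb xb31 yb53 zb37) (kb xb27 yb0 zb35) (kb xb27 yb0 zb39) (kb xb31 yb29 zb46) (kb xb32 yb13 zb38) (kb xb32 yb54 zb33) (kb xb28 yb50 zb11) (kb xb32 yb9 zb32) (kb xb31 yb7 zb29) (kb xb31 yb8 zb3) (kb xb32 yb43 zb14) (kb xb27 yb7 zb6) (kb xb32 yb20 zb31) (kb xb28 yb37 zb32) (kb xb28 yb26 zb47) (kb xb29 yb48 zb15) (kb xb27 yb8 zb61) (kb xb31 yb48 zb1) (kb xb27 yb2 zb17) (kb xb32 yb51 zb28) (kb xb32 yb58 zb26) (kb xb27 yb2 zb23) (kb xb27 yb2 zb57) (kb xb27 yb2 zb51) (kb xb31 yb47 zb4) (kb xb27 yb3 zb0) (kb xb27 yb3 zb1) (kb xb32 yb30 zb51) (kb xb32 yb16 zb31) (kb xb27 yb3 zb3) (kb xb27 yb3 zb8) (kb xb32 yb11 zb4) (kb xb27 yb10 zb36) (kb xb30 yb19 zb43) (kb xb27 yb4 zb32)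 (kb xb27 yb4 zb29) (kb xb32 yb54 zb29) (kb xb29 yb11 zb2) (kb xb30 yb13 zb5) (kb xb30 yb55 zb17) (kb xb31 yb44 zb13) (kb xb32 yb36 zb41) (kb xb30 yb26 zb4) (kb xb27 yb55 zb19) (kb xb32 yb59 zb9) (kb xb30 yb53 zb52) (kb xb31 yb21 zb38) (kb xb27 yb12 zb43)) (@D3.rec (fun _ => Pt) (kb xb30 yb8 zb12) (kb xb27 yb6 zb15) (kb xb30 yb6 zb46) (kb xb27 yb6 zb22) (kb xb28 yb24 zb55) (kb xb30 yb54 zb51) (kb xb30 yb38 zb23) (kb xb30 yb25 zb58) (kb xb30 yb28 zb24) (kb xb32 yb20 zb24) (kb xb31 yb13 zb11) (kb xb28 yb49 zb8) (kb xb32 yb18 zb27) (kb xb31 yb15 zb47) (kb xb29 yb48 zb20) (kb xb27 yb6 zb46) (kb xb32 yb51 zb11) (kb xb32 yb51 zb21) (kb xb27 yb6 zb48) (kb xb32 yb49 zb56) (kb xb27 yb6 zb51) (kb xb27 yb6 zb53) (kb xb32 yb22 zb11) (kb xb28 yb16 zb44) (kb xb32 yb20 zb9) (kb xb30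 yb5 zb38) (kb xb27 yb7 zb3) (kb xb27 yb8 zb48) (kb xb28 yb33 zb11) (kb xb30 yb5 zb55) (kb xb32 yb50 zb2) (kb xb32 yb19 zb26) (kb xb28 yb52 zb3) (kb xb32 yb39 zb42) (kb xb30 yb19 zb17) (kb xb27 yb7 zb8) (kb xb32 yb56 zb6) (kb xb32 yb15 zb6) (kb xb32 yb21 zb25) (kb xb32 yb0 zb59) (kb xb32 yb51 zb29) (kb xb27 yb13 zb40) (kb xb31 yb53 zb17) (kb xb32 yb58 zb48) (kb xb31 yb23 zb6) (kb xb31 yb51 zb25) (kb xb27 yb7 zb22) (kb xb31 yb52 zb10) (kb xb31 yb38 zb49) (kb xb31 yb37 zb13) (kb xb27 yb7 zb27) (kb xb32 yb14 zb59) (kb xb30 yb5 zb49) (kb xb27 yb7 zb26) (kb xb32 yb59 zb10) (kb xb29 yb10 zb41) (kb xb32 yb12 zb48) (kb xb32 yb11 zb19) (kb xb31 yb26 zb18) (kb xb27 yb7 zb32) (kb xb32 yb14 zb12) (kb xb28 yb54 zb25)) (@D3.rec (fun _ => Pt) (kb xb27 yb16 zb33) (kb xb29 yb46 zb49)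 (kb xb31 yb11 zb8) (kb xb31 yb46 zb49) (kb xb27 yb7 zb49) (kb xb32 yb48 zb59) (kb xb31 yb12 zb55) (kb xb27 yb18 zb24) (kb xb32 yb27 zb43) (kb xb31 yb3 zb36) (kb xb29 yb10 zb13) (kb xb31 yb4 zb25) (kb xb28 yb56 zb11) (kb xb32 yb32 zb58) (kb xb28 yb18 zb56) (kb xb30 yb21 zb18) (kb xb30 yb25 zb21) (kb xb32 yb52 zb52) (kb xb32 yb8 zb54) (kb xb30 yb22 zb60) (kb xb32 yb56 zb16) (kb xb32 yb35 zb61) (kb xb32 yb48 zb35) (kb xb32 yb51 zb7) (kb xb32 yb46 zb46) (kb xb32 yb20 zb38) (kb xb28 yb17 zb35) (kb xb27 yb8 zb53) (kb xb27 yb8 zb54) (kb xb29 yb48 zb17) (kb xb32 yb36 zb59) (kb xb32 yb38 zb17) (kb xb30 yb25 zb10) (kb xb30 yb38 zb7) (kb xb32 yb5 zb21) (kb xb29 yb18 zb53) (kb xb31 yb32 zb2) (kb xb32 yb1 zb13) (kb xb27 yb10 zb2) (kb xb29 yb59 zb8) (kb xb30 yb50 zb14) (kb xb32 yb8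 zb53) (kb xb29 yb44 zb6) (kb xb27 yb10 zb44) (kb xb27 yb11 zb10) (kb xb28 yb7 zb58) (kb xb27 yb11 zb27) (kb xb31 yb14 zb1) (kb xb30 yb28 zb17) (kb xb31 yb23 zb61) (kb xb32 yb58 zb57) (kb xb29 yb3 zb14) (kb xb27 yb11 zb61) (kb xb31 yb41 zb1) (kb xb27 yb22 zb0) (kb xb28 yb0 zb11) (kb xb28 yb59 zb3) (kb xb27 yb46 zb5) (kb xb27 yb12 zb37) (kb xb32 yb58 zb33) (kb xb27 yb12 zb45) (kb xb31 yb56 zb28)) (@D3.rec (fun _ => Pt) (kb xb29 yb8 zb44) (kb xb30 yb51 zb10) (kb xb31 yb38 zb42) (kb xb27 yb13 zb3) (kb xb32 yb50 zb11) (kb xb27 yb58 zb24) (kb xb32 yb44 zb55) (kb xb27 yb13 zb23) (kb xb27 yb15 zb32) (kb xb27 yb15 zb35) (kb xb30 yb36 zb42) (kb xb32 yb20 zb22) (kb xb27 yb13 zb41) (kb xb30 yb30 zb58) (kb xb27 yb13 zb61) (kb xb31 yb34 zb12) (kb xb32 yb18 zb31) (kb xb27 yb14 zb1)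 (kb xb29 yb47 zb31) (kb xb28 yb22 zb49) (kb xb32 yb51 zb2) (kb xb27 yb14 zb13) (kb xb32 yb43 zb54) (kb xb32 yb44 zb50) (kb xb32 yb35 zb48) (kb xb27 yb15 zb14) (kb xb31 yb49 zb49) (kb xb27 yb14 zb25) (kb xb32 yb16 zb29) (kb xb32 yb36 zb54) (kb xb28 yb54 zb52) (kb xb30 yb16 zb18) (kb xb32 yb14 zb28) (kb xb30 yb53 zb50) (kb xb30 yb32 zb25) (kb xb27 yb15 zb21) (kb xb31 yb47 zb11) (kb xb27 yb15 zb15) (kb xb32 yb39 zb3) (kb xb31 yb59 zb34) (kb xb27 yb15 zb19) (kb xb32 yb35 zb20) (kb xb32 yb48 zb2) (kb xb31 yb13 zb57) (kb xb30 yb55 zb30) (kb xb30 yb33 zb48) (kb xb30 yb48 zb26) (kb xb27 yb15 zb37) (kb xb32 yb57 zb60) (kb xb27 yb15 zb43) (kb xb28 yb6 zb48) (kb xb28 yb22 zb37) (kb xb28 yb19 zb36) (kb xb32 yb55 zb4) (kb xb32 yb47 zb54) (kb xb30 yb15 zb47) (kb xb31 yb29 zb47) (kb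 xb32 yb10 zb55) (kb xb32 yb47 zb5) (kb xb29 yb40 zb4) (kb xb30 yb28 zb7) (kb xb27 yb16 zb5)) (@D3.rec (fun _ => Pt) (kb xb31 yb30 zb59) (kb xb32 yb11 zb53) (kb xb30 yb16 zb6) (kb xb27 yb16 zb15) (kb xb32 yb18 zb60) (kb xb32 yb52 zb42) (kb xb32 yb17 zb2) (kb xb29 yb26 zb11) (kb xb27 yb16 zb30) (kb xb32 yb56 zb50) (kb xb30 yb50 zb17) (kb xb30 yb31 zb8) (kb xb28 yb49 zb59) (kb xb30 yb49 zb47) (kb xb32 yb28 zb55) (kb xb28 yb7 zb18) (kb xb32 yb29 zb30) (kb xb28 yb37 zb46) (kb xb29 yb20 zb57) (kb xb27 yb21 zb44) (kb xb27 yb16 zb53) (kb xb27 yb16 zb52) (kb xb32 yb49 zb55) (kb xb28 yb15 zb50) (kb xb31 yb33 zb11) (kb xb27 yb17 zb6) (kb xb30 yb24 zb59) (kb xb29 yb43 zb21) (kb xb28 yb40 zb27) (kb xb32 yb18 zb49) (kb xb31 yb41 zb32) (kb xb28 yb39 zb49) (kb xb29 yb57 zb22) (kb xb31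 yb46 zb7) (kb xb27 yb17 zb42) (kb xb27 yb17 zb44) (kb xb31 yb2 zb23) (kb xb31 yb5 zb50) (kb xb29 yb11 zb59) (kb xb31 yb4 zb31) (kb xb30 yb33 zb33) (kb xb30 yb4 zb46) (kb xb29 yb51 zb14) (kb xb27 yb18 zb5) (kb xb31 yb9 zb30) (kb xb27 yb18 zb16) (kb xb31 yb47 zb19) (kb xb32 yb2 zb60) (kb xb32 yb16 zb16) (kb xb30 yb52 zb31) (kb xb32 yb5 zb5) (kb xb31 yb7 zb19) (kb xb30 yb58 zb32) (kb xb31 yb11 zb56) (kb xb32 yb34 zb51) (kb xb32 yb50 zb54) (kb xb27 yb18 zb46) (kb xb31 yb20 zb29) (kb xb32 yb17 zb25) (kb xb30 yb34 zb16) (kb xb30 yb12 zb6) (kb xb27 yb19 zb1)) (@D3.rec (fun _ => Pt) (kb xb32 yb13 zb9) (kb xb29 yb33 zb5) (kb xb27 yb19 zb16) (kb xb32 yb13 zb6) (kb xb32 yb13 zb19) (kb xb27 yb19 zb36) (kb xb31 yb52 zb56) (kb xb30 yb37 zb58) (kb xb27 yb19 zb44) (kb xb27 yb20 zb4)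 (kb xb32 yb56 zb49) (kb xb32 yb9 zb45) (kb xb29 yb16 zb24) (kb xb31 yb49 zb34) (kb xb32 yb45 zb54) (kb xb31 yb15 zb51) (kb xb29 yb31 zb61) (kb xb27 yb21 zb26) (kb xb29 yb20 zb4) (kb xb27 yb22 zb39) (kb xb27 yb22 zb41) (kb xb32 yb27 zb10) (kb xb31 yb1 zb58) (kb xb30 yb16 zb51) (kb xb27 yb23 zb10) (kb xb28 yb55 zb8) (kb xb29 yb11 zb25) (kb xb28 yb43 zb28) (kb xb27 yb28 zb29) (kb xb30 yb52 zb13) (kb xb29 yb11 zb35) (kb xb31 yb27 zb2) (kb xb32 yb41 zb57) (kb xb32 yb48 zb46) (kb xb32 yb42 zb26) (kb xb27 yb23 zb44) (kb xb28 yb37 zb45) (kb xb28 yb21 zb5) (kb xb32 yb58 zb61) (kb xb31 yb5 zb10) (kb xb27 yb24 zb3) (kb xb27 yb41 zb19) (kb xb32 yb2 zb17) (kb xb27 yb45 zb45) (kb xb27 yb24 zb21) (kb xb28 yb29 zb1) (kb xb31 yb16 zb25) (kb xb32 yb57 zb55) (kb xb27 yb24 zb41) (kb xb32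 yb31 zb27) (kb xb31 yb59 zb14) (kb xb27 yb26 zb20) (kb xb27 yb26 zb43) (kb xb27 yb25 zb14) (kb xb32 yb24 zb60) (kb xb32 yb31 zb0) (kb xb27 yb34 zb9) (kb xb32 yb35 zb23) (kb xb30 yb46 zb59) (kb xb32 yb55 zb38) (kb xb32 yb24 zb54) (kb xb31 yb43 zb0)) (@D3.rec (fun _ => Pt) (kb xb27 yb30 zb47) (kb xb30 yb12 zb58) (kb xb27 yb46 zb17) (kb xb32 yb5 zb35) (kb xb27 yb26 zb23) (kb xb31 yb14 zb27) (kb xb32 yb57 zb23) (kb xb31 yb32 zb50) (kb xb32 yb57 zb22) (kb xb29 yb0 zb46) (kb xb28 yb30 zb44) (kb xb31 yb43 zb1) (kb xb28 yb29 zb55) (kb xb32 yb5 zb30) (kb xb30 yb59 zb60) (kb xb27 yb38 zb28) (kb xb27 yb29 zb9) (kb xb27 yb29 zb33) (kb xb27 yb29 zb58) (kb xb30 yb58 zb1) (kb xb29 yb17 zb36) (kb xb28 yb55 zb28) (kb xb27 yb30 zb15) (kb xb31 yb51 zb57) (kb xb27 yb30 zb22) (kb xb27 yb51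 zb11) (kb xb28 yb9 zb29) (kb xb31 yb14 zb59) (kb xb29 yb5 zb3) (kb xb30 yb44 zb28) (kb xb27 yb31 zb50) (kb xb27 yb50 zb33) (kb xb32 yb32 zb26) (kb xb32 yb7 zb18) (kb xb27 yb49 zb50) (kb xb32 yb28 zb54) (kb xb29 yb20 zb38) (kb xb29 yb54 zb30) (kb xb31 yb14 zb52) (kb xb27 yb32 zb16) (kb xb31 yb45 zb14) (kb xb27 yb53 zb43) (kb xb28 yb15 zb35) (kb xb27 yb53 zb45) (kb xb27 yb49 zb60) (kb xb28 yb3 zb36) (kb xb29 yb54 zb8) (kb xb27 yb32 zb32) (kb xb31 yb45 zb18) (kb xb27 yb49 zb8) (kb xb27 yb32 zb28) (kb xb32 yb30 zb0) (kb xb27 yb51 zb43) (kb xb28 yb46 zb58) (kb xb31 yb59 zb31) (kb xb27 yb32 zb42) (kb xb27 yb32 zb44) (kb xb27 yb32 zb48) (kb xb28 yb30 zb61) (kb xb32 yb6 zb44) (kb xb30 yb40 zb17) (kb xb28 yb6 zb51)) (@D3.rec (fun _ => Pt) (kb xb28 yb4 zb57) (kb xb27 yb32 zb57)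 (kb xb27 yb34 zb19) (kb xb32 yb26 zb41) (kb xb27 yb33 zb28) (kb xb27 yb33 zb26) (kb xb29 yb20 zb45) (kb xb32 yb26 zb42) (kb xb29 yb25 zb12) (kb xb27 yb35 zb8) (kb xb32 yb29 zb11) (kb xb28 yb28 zb47) (kb xb32 yb26 zb49) (kb xb28 yb4 zb32) (kb xb30 yb44 zb36) (kb xb27 yb33 zb25) (kb xb32 yb31 zb33) (kb xb27 yb33 zb30) (kb xb28 yb36 zb23) (kb xb27 yb33 zb32) (kb xb31 yb47 zb25) (kb xb27 yb33 zb33) (kb xb30 yb40 zb51) (kb xb30 yb40 zb33) (kb xb31 yb2 zb53) (kb xb27 yb33 zb38) (kb xb32 yb51 zb36) (kb xb27 yb33 zb39) (kb xb28 yb8 zb20) (kb xb31 yb45 zb16) (kb xb31 yb42 zb27) (kb xb28 yb7 zb27) (kb xb30 yb24 zb45) (kb xb27 yb33 zb60) (kb xb31 yb39 zb12) (kb xb28 yb8 zb26) (kb xb31 yb42 zb6) (kb xb31 yb42 zb22) (kb xb31 yb15 zb5) (kb xb28 yb9 zb35) (kb xb29 yb15 zb52) (kb xb32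 yb26 zb3) (kb xb32 yb26 zb7) (kb xb29 yb36 zb43) (kb xb31 yb45 zb19) (kb xb31 yb5 zb7) (kb xb31 yb11 zb23) (kb xb31 yb56 zb45) (kb xb28 yb9 zb11) (kb xb32 yb26 zb12) (kb xb27 yb35 zb13) (kb xb32 yb58 zb0) (kb xb27 yb35 zb15) (kb xb27 yb35 zb16) (kb xb30 yb41 zb54) (kb xb32 yb7 zb12) (kb xb27 yb35 zb17) (kb xb30 yb42 zb9) (kb xb31 yb8 zb48) (kb xb30 yb40 zb57) (kb xb27 yb35 zb18) (kb xb27 yb35 zb21)) (@D3.rec (fun _ => Pt) (kb xb28 yb28 zb42) (kb xb27 yb35 zb22) (kb xb31 yb42 zb49) (kb xb31 yb50 zb61) (kb xb28 yb46 zb31) (kb xb32 yb45 zb50) (kb xb27 yb36 zb0) (kb xb32 yb53 zb51) (kb xb31 yb43 zb48) (kb xb31 yb56 zb3) (kb xb32 yb24 zb21) (kb xb29 yb33 zb45) (kb xb32 yb59 zb15) (kb xb29 yb44 zb59) (kb xb27 yb36 zb59) (kb xb31 yb17 zb12) (kb xb29 yb41 zb34) (kb xb31 yb52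 zb3) (kb xb27 yb37 zb8) (kb xb31 yb52 zb1) (kb xb31 yb40 zb35) (kb xb32 yb59 zb17) (kb xb28 yb59 zb40) (kb xb32 yb27 zb27) (kb xb27 yb38 zb14) (kb xb31 yb19 zb41) (kb xb27 yb46 zb41) (kb xb32 yb27 zb23) (kb xb27 yb38 zb58) (kb xb28 yb29 zb40) (kb xb32 yb55 zb18) (kb xb32 yb29 zb41) (kb xb27 yb39 zb50) (kb xb27 yb39 zb51) (kb xb30 yb31 zb12) (kb xb32 yb7 zb59) (kb xb32 yb14 zb23) (kb xb28 yb7 zb14) (kb xb27 yb40 zb1) (kb xb30 yb3 zb11) (kb xb29 yb53 zb57) (kb xb32 yb55 zb60) (kb xb27 yb40 zb54) (kb xb32 yb21 zb8) (kb xb32 yb57 zb33) (kb xb32 yb49 zb5) (kb xb31 yb38 zb3) (kb xb32 yb58 zb50) (kb xb27 yb40 zb57) (kb xb31 yb4 zb27) (kb xb29 yb9 zb49) (kb xb27 yb41 zb3) (kb xb31 yb3 zb11) (kb xb31 yb45 zb40) (kb xb28 yb58 zb48) (kb xb27 yb41 zb43) (kb xb31 yb28 zb10) (kb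 xb31 yb56 zb8) (kb xb27 yb42 zb23) (kb xb29 yb38 zb18) (kb xb31 yb3 zb35) (kb xb32 yb0 zb34)) (@D3.rec (fun _ => Pt) (kb xb32 yb48 zb54) (kb xb28 yb17 zb48) (kb xb27 yb43 zb1) (kb xb27 yb43 zb29) (kb xb31 yb43 zb44) (kb xb28 yb34 zb41) (kb xb29 yb3 zb30) (kb xb27 yb44 zb19) (kb xb31 yb16 zb60) (kb xb32 yb31 zb26) (kb xb28 yb43 zb49) (kb xb31 yb45 zb5) (kb xb27 yb44 zb34) (kb xb28 yb41 zb7) (kb xb27 yb57 zb17) (kb xb30 yb0 zb44) (kb xb28 yb43 zb59) (kb xb30 yb13 zb41) (kb xb31 yb0 zb60) (kb xb30 yb13 zb4) (kb xb27 yb45 zb61) (kb xb31 yb14 zb55) (kb xb32 yb29 zb13) (kb xb32 yb34 zb45) (kb xb27 yb46 zb22) (kb xb28 yb28 zb38) (kb xb28 yb42 zb34) (kb xb28 yb35 zb45) (kb xb28 yb59 zb4) (kb xb31 yb38 zb39) (kb xb31 yb1 zb48) (kb xb31 yb43 zb59) (kb xb32 yb7 zb22) (kb xb27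 yb47 zb41) (kb xb32 yb54 zb20) (kb xb27 yb55 zb32) (kb xb27 yb48 zb60) (kb xb27 yb55 zb2) (kb xb32 yb53 zb29) (kb xb29 yb20 zb37) (kb xb27 yb52 zb21) (kb xb31 yb25 zb19) (kb xb27 yb49 zb18) (kb xb27 yb49 zb23) (kb xb27 yb49 zb25) (kb xb32 yb10 zb7) (kb xb32 yb2 zb20) (kb xb27 yb53 zb14) (kb xb30 yb24 zb56) (kb xb27 yb49 zb40) (kb xb28 yb25 zb24) (kb xb31 yb14 zb22) (kb xb27 yb49 zb51) (kb xb32 yb13 zb55) (kb xb32 yb25 zb35) (kb xb32 yb23 zb14) (kb xb28 yb29 zb14) (kb xb28 yb46 zb2) (kb xb30 yb41 zb27) (kb xb27 yb54 zb35) (kb xb28 yb7 zb48) (kb xb27 yb50 zb6)) (@D3.rec (fun _ => Pt) (kb xb27 yb53 zb53) (kb xb32 yb7 zb15) (kb xb27 yb50 zb13) (kb xb32 yb9 zb26) (kb xb27 yb50 zb21) (kb xb27 yb50 zb27) (kb xb28 yb3 zb24) (kb xb31 yb37 zb42) (kb xb31 yb58 zb41) (kb xb27 yb50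 zb40) (kb xb31 yb42 zb34) (kb xb32 yb26 zb10) (kb xb27 yb51 zb14) (kb xb32 yb28 zb22) (kb xb31 yb30 zb23) (kb xb27 yb51 zb29) (kb xb31 yb47 zb28) (kb xb32 yb58 zb28) (kb xb27 yb51 zb35) (kb xb32 yb54 zb22) (kb xb28 yb25 zb34) (kb xb32 yb30 zb15) (kb xb27 yb52 zb51) (kb xb31 yb44 zb7) (kb xb27 yb51 zb47) (kb xb28 yb23 zb21) (kb xb30 yb34 zb47) (kb xb32 yb8 zb23) (kb xb27 yb51 zb52) (kb xb29 yb16 zb7) (kb xb32 yb23 zb16) (kb xb27 yb51 zb61) (kb xb29 yb53 zb45) (kb xb32 yb31 zb40) (kb xb27 yb53 zb25) (kb xb30 yb44 zb30) (kb xb27 yb52 zb19) (kb xb27 yb52 zb12) (kb xb29 yb25 zb7) (kb xb29 yb20 zb58) (kb xb28 yb9 zb34) (kb xb32 yb27 zb31) (kb xb27 yb52 zb23) (kb xb28 yb32 zb7) (kb xb30 yb54 zb34) (kb xb27 yb52 zb35) (kb xb32 yb30 zb5) (kb xb27 yb52 zb43) (kb xb30 yb44 zb47)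 (kb xb28 yb8 zb30) (kb xb29 yb53 zb2) (kb xb30 yb50 zb15) (kb xb32 yb36 zb48) (kb xb32 yb29 zb56) (kb xb30 yb48 zb2) (kb xb29 yb53 zb4) (kb xb32 yb29 zb53) (kb xb32 yb48 zb40) (kb xb31 yb58 zb5) (kb xb32 yb30 zb21) (kb xb28 yb6 zb41) (kb xb27 yb53 zb18)) (@D3.rec (fun _ => Pt) (kb xb32 yb25 zb51) (kb xb32 yb54 zb19) (kb xb30 yb15 zb3) (kb xb32 yb55 zb43) (kb xb32 yb49 zb53) (kb xb32 yb29 zb46) (kb xb27 yb53 zb44) (kb xb31 yb2 zb1) (kb xb31 yb3 zb2) (kb xb29 yb25 zb1) (kb xb30 yb51 zb46) (kb xb27 yb54 zb30) (kb xb27 yb54 zb32) (kb xb28 yb23 zb27) (kb xb27 yb55 zb10) (kb xb32 yb29 zb21) (kb xb32 yb9 zb44) (kb xb32 yb33 zb54) (kb xb27 yb54 zb57) (kb xb31 yb42 zb50) (kb xb27 yb55 zb1) (kb xb32 yb29 zb59) (kb xb30 yb21 zb14) (kb xb32 yb32 zb21) (kb xb31 yb42 zb13) (kb xb31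 yb15 zb32) (kb xb28 yb9 zb4) (kb xb30 yb43 zb46) (kb xb31 yb15 zb3) (kb xb32 yb58 zb6) (kb xb32 yb53 zb57) (kb xb31 yb9 zb13) (kb xb28 yb13 zb22) (kb xb32 yb8 zb34) (kb xb32 yb52 zb59) (kb xb32 yb31 zb51) (kb xb27 yb56 zb33) (kb xb27 yb56 zb35) (kb xb28 yb28 zb44) (kb xb29 yb14 zb2) (kb xb30 yb17 zb23) (kb xb31 yb0 zb37) (kb xb32 yb55 zb29) (kb xb27 yb58 zb9) (kb xb27 yb58 zb3) (kb xb30 yb0 zb24) (kb xb27 yb58 zb6) (kb xb30 yb3 zb33) (kb xb32 yb48 zb41) (kb xb28 yb50 zb49) (kb xb27 yb59 zb4) (kb xb32 yb19 zb41) (kb xb27 yb59 zb32) (kb xb32 yb50 zb55) (kb xb31 yb22 zb30) (kb xb30 yb50 zb13) (kb xb31 yb3 zb49) (kb xb30 yb24 zb24) (kb xb29 yb47 zb36) (kb xb28 yb29 zb13) (kb xb29 yb5 zb61) (kb xb28 yb1 zb24)) (@D3.rec (fun _ => Pt) (kb xb32 yb24 zb55) (kb xb30 yb12 zb57)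 (kb xb32 yb55 zb13) (kb xb31 yb44 zb11) (kb xb32 yb52 zb18) (kb xb32 yb4 zb61) (kb xb30 yb47 zb1) (kb xb32 yb3 zb53) (kb xb32 yb7 zb30) (kb xb28 yb2 zb39) (kb xb32 yb50 zb40) (kb xb28 yb2 zb46) (kb xb28 yb2 zb48) (kb xb32 yb5 zb15) (kb xb28 yb3 zb6) (kb xb31 yb8 zb10) (kb xb28 yb15 zb36) (kb xb32 yb3 zb51) (kb xb30 yb35 zb27) (kb xb32 yb53 zb15) (kb xb29 yb30 zb58) (kb xb32 yb32 zb5) (kb xb31 yb53 zb50) (kb xb28 yb5 zb50) (kb xb28 yb23 zb30) (kb xb29 yb51 zb32) (kb xb32 yb28 zb9) (kb xb32 yb24 zb49) (kb xb28 yb4 zb6) (kb xb28 yb4 zb14) (kb xb28 yb4 zb28) (kb xb30 yb34 zb57) (kb xb28 yb4 zb38) (kb xb32 yb26 zb16) (kb xb31 yb57 zb40) (kb xb32 yb58 zb46) (kb xb28 yb5 zb38) (kb xb28 yb5 zb35) (kb xb32 yb48 zb33) (kb xb28 yb32 zb55) (kb xb32 yb29 zb33) (kb xb28 yb4 zb61)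 (kb xb28 yb5 zb2) (kb xb32 yb54 zb32) (kb xb28 yb5 zb25) (kb xb28 yb5 zb31) (kb xb29 yb54 zb21) (kb xb31 yb44 zb14) (kb xb28 yb5 zb51) (kb xb32 yb8 zb50) (kb xb28 yb5 zb48) (kb xb32 yb30 zb35) (kb xb32 yb53 zb36) (kb xb32 yb59 zb20) (kb xb32 yb52 zb60) (kb xb32 yb43 zb52) (kb xb28 yb5 zb54) (kb xb32 yb15 zb21) (kb xb28 yb53 zb0) (kb xb30 yb32 zb28) (kb xb32 yb53 zb30) (kb xb30 yb5 zb0)) (@D3.rec (fun _ => Pt) (kb xb30 yb3 zb7) (kb xb28 yb6 zb22) (kb xb29 yb32 zb53) (kb xb28 yb6 zb24) (kb xb30 yb50 zb12) (kb xb32 yb31 zb21) (kb xb28 yb8 zb13) (kb xb31 yb40 zb1) (kb xb28 yb7 zb54) (kb xb31 yb9 zb57) (kb xb28 yb8 zb21) (kb xb28 yb36 zb18) (kb xb28 yb8 zb27) (kb xb31 yb3 zb4) (kb xb32 yb48 zb45) (kb xb29 yb34 zb47) (kb xb30 yb15 zb12) (kb xb28 yb9 zb5) (kb xb31 yb57 zb47)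 (kb xb29 yb49 zb55) (kb xb28 yb9 zb22) (kb xb32 yb30 zb23) (kb xb28 yb30 zb52) (kb xb28 yb20 zb19) (kb xb28 yb9 zb58) (kb xb31 yb12 zb24) (kb xb32 yb25 zb32) (kb xb28 yb16 zb51) (kb xb28 yb10 zb36) (kb xb31 yb3 zb26) (kb xb32 yb32 zb41) (kb xb32 yb55 zb21) (kb xb30 yb41 zb23) (kb xb32 yb38 zb38) (kb xb28 yb10 zb56) (kb xb28 yb11 zb3) (kb xb28 yb11 zb15) (kb xb30 yb29 zb1) (kb xb30 yb27 zb18) (kb xb28 yb11 zb46) (kb xb28 yb11 zb49) (kb xb32 yb32 zb30) (kb xb31 yb9 zb35) (kb xb28 yb27 zb26) (kb xb28 yb11 zb61) (kb xb31 yb57 zb19) (kb xb30 yb3 zb15) (kb xb29 yb58 zb22) (kb xb29 yb51 zb41) (kb xb28 yb13 zb25) (kb xb29 yb11 zb47) (kb xb30 yb14 zb49) (kb xb30 yb32 zb39) (kb xb28 yb24 zb52) (kb xb28 yb30 zb16) (kb xb28 yb30 zb33) (kb xb28 yb16 zb20) (kb xb28 yb18 zb57) (kb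 xb32 yb21 zb13) (kb xb31 yb52 zb13) (kb xb28 yb14 zb48) (kb xb28 yb14 zb47)) (@D3.rec (fun _ => Pt) (kb xb28 yb17 zb56) (kb xb32 yb56 zb21) (kb xb28 yb56 zb14) (kb xb30 yb22 zb57) (kb xb29 yb3 zb15) (kb xb28 yb15 zb49) (kb xb32 yb44 zb56) (kb xb29 yb5 zb46) (kb xb28 yb46 zb15) (kb xb32 yb43 zb20) (kb xb32 yb11 zb17) (kb xb28 yb16 zb14) (kb xb28 yb16 zb23) (kb xb28 yb16 zb38) (kb xb30 yb19 zb7) (kb xb32 yb48 zb3) (kb xb32 yb33 zb18) (kb xb28 yb17 zb28) (kb xb32 yb33 zb16) (kb xb30 yb18 zb60) (kb xb29 yb48 zb21) (kb xb30 yb38 zb60) (kb xb28 yb17 zb43) (kb xb32 yb53 zb48) (kb xb30 yb22 zb20) (kb xb28 yb17 zb58) (kb xb28 yb17 zb61) (kb xb32 yb46 zb41) (kb xb32 yb36 zb22) (kb xb28 yb18 zb23) (kb xb28 yb18 zb24) (kb xb29 yb33 zb41) (kb xb28 yb18 zb26) (kb xb28 yb18 zb30)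 (kb xb31 yb31 zb35) (kb xb32 yb50 zb58) (kb xb28 yb18 zb38) (kb xb28 yb18 zb45) (kb xb32 yb13 zb15) (kb xb30 yb49 zb5) (kb xb32 yb52 zb15) (kb xb31 yb46 zb33) (kb xb28 yb19 zb48) (kb xb29 yb30 zb44) (kb xb28 yb20 zb9) (kb xb32 yb37 zb1) (kb xb28 yb20 zb22) (kb xb32 yb15 zb17) (kb xb28 yb34 zb11) (kb xb32 yb3 zb8) (kb xb28 yb20 zb37) (kb xb28 yb20 zb40) (kb xb28 yb20 zb59) (kb xb28 yb21 zb20) (kb xb32 yb30 zb17) (kb xb28 yb21 zb37) (kb xb30 yb50 zb60) (kb xb31 yb22 zb52) (kb xb30 yb50 zb31) (kb xb28 yb38 zb18) (kb xb32 yb56 zb17) (kb xb28 yb49 zb61)) (@D3.rec (fun _ => Pt) (kb xb29 yb55 zb48) (kb xb32 yb37 zb17) (kb xb28 yb39 zb56) (kb xb30 yb44 zb43) (kb xb29 yb1 zb42) (kb xb28 yb33 zb47) (kb xb30 yb46 zb50) (kb xb30 yb51 zb6) (kb xb28 yb22 zb29) (kb xb30 yb38 zb16)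 (kb xb30 yb54 zb25) (kb xb32 yb42 zb2) (kb xb29 yb39 zb43) (kb xb28 yb34 zb36) (kb xb28 yb23 zb11) (kb xb30 yb25 zb50) (kb xb29 yb32 zb0) (kb xb29 yb7 zb4) (kb xb32 yb54 zb25) (kb xb28 yb23 zb57) (kb xb28 yb23 zb59) (kb xb28 yb24 zb5) (kb xb29 yb43 zb10) (kb xb28 yb40 zb11) (kb xb28 yb24 zb7) (kb xb28 yb24 zb10) (kb xb32 yb11 zb46) (kb xb28 yb24 zb16) (kb xb28 yb24 zb20) (kb xb31 yb39 zb5) (kb xb28 yb24 zb44) (kb xb31 yb33 zb49) (kb xb29 yb3 zb8) (kb xb30 yb34 zb24) (kb xb32 yb0 zb49) (kb xb30 yb27 zb53) (kb xb31 yb56 zb26) (kb xb32 yb15 zb44) (kb xb31 yb47 zb47) (kb xb31 yb30 zb10) (kb xb31 yb22 zb27) (kb xb28 yb31 zb58) (kb xb30 yb49 zb8) (kb xb30 yb34 zb44) (kb xb31 yb58 zb11) (kb xb32 yb28 zb23) (kb xb30 yb23 zb28) (kb xb28 yb26 zb34) (kb xb28 yb26 zb36) (kb xb32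 yb54 zb28) (kb xb28 yb26 zb42) (kb xb32 yb23 zb54) (kb xb30 yb29 zb43) (kb xb28 yb27 zb14) (kb xb32 yb43 zb7) (kb xb28 yb27 zb24) (kb xb32 yb51 zb39) (kb xb29 yb45 zb35) (kb xb31 yb15 zb23) (kb xb31 yb17 zb30) (kb xb32 yb54 zb48) (kb xb28 yb28 zb40)) (@D3.rec (fun _ => Pt) (kb xb28 yb36 zb13) (kb xb28 yb28 zb45) (kb xb28 yb36 zb19) (kb xb28 yb33 zb48) (kb xb28 yb33 zb52) (kb xb28 yb28 zb59) (kb xb31 yb49 zb48) (kb xb32 yb44 zb0) (kb xb28 yb34 zb32) (kb xb29 yb42 zb40) (kb xb31 yb52 zb6) (kb xb29 yb16 zb4) (kb xb32 yb57 zb20) (kb xb28 yb29 zb17) (kb xb32 yb18 zb38) (kb xb28 yb29 zb22) (kb xb29 yb39 zb61) (kb xb28 yb40 zb22) (kb xb28 yb36 zb21) (kb xb28 yb38 zb25) (kb xb32 yb22 zb41) (kb xb30 yb19 zb19) (kb xb28 yb29 zb52) (kb xb32 yb24 zb57) (kb xb32 yb5 zb51) (kb xb29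 yb42 zb14) (kb xb32 yb59 zb24) (kb xb28 yb30 zb1) (kb xb28 yb39 zb47) (kb xb32 yb52 zb44) (kb xb28 yb30 zb6) (kb xb28 yb30 zb8) (kb xb28 yb30 zb13) (kb xb28 yb42 zb6) (kb xb29 yb56 zb23) (kb xb28 yb47 zb60) (kb xb28 yb51 zb10) (kb xb32 yb59 zb19) (kb xb32 yb0 zb56) (kb xb30 yb56 zb56) (kb xb31 yb15 zb15) (kb xb30 yb49 zb31) (kb xb32 yb4 zb3) (kb xb29 yb31 zb11) (kb xb31 yb36 zb8) (kb xb31 yb42 zb52) (kb xb32 yb47 zb48) (kb xb28 yb32 zb24) (kb xb32 yb22 zb24) (kb xb31 yb10 zb15) (kb xb32 yb9 zb24) (kb xb28 yb32 zb57) (kb xb30 yb35 zb47) (kb xb28 yb32 zb60) (kb xb28 yb32 zb61) (kb xb32 yb53 zb23) (kb xb28 yb33 zb0) (kb xb32 yb56 zb60) (kb xb31 yb24 zb8) (kb xb29 yb35 zb46) (kb xb30 yb39 zb48) (kb xb32 yb21 zb21)) (@D3.rec (fun _ => Pt) (kb xb32 yb40 zb36) (kb xb28 yb33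 zb6) (kb xb32 yb41 zb54) (kb xb28 yb33 zb51) (kb xb29 yb49 zb0) (kb xb32 yb53 zb39) (kb xb29 yb33 zb50) (kb xb32 yb15 zb50) (kb xb32 yb58 zb58) (kb xb32 yb59 zb28) (kb xb29 yb34 zb28) (kb xb31 yb19 zb17) (kb xb28 yb35 zb16) (kb xb29 yb40 zb41) (kb xb31 yb53 zb38) (kb xb28 yb35 zb10) (kb xb28 yb35 zb20) (kb xb32 yb18 zb40) (kb xb32 yb47 zb3) (kb xb28 yb35 zb15) (kb xb32 yb45 zb31) (kb xb28 yb35 zb19) (kb xb32 yb33 zb28) (kb xb32 yb59 zb25) (kb xb32 yb9 zb38) (kb xb30 yb49 zb37) (kb xb28 yb35 zb40) (kb xb29 yb32 zb17) (kb xb28 yb53 zb27) (kb xb28 yb35 zb50) (kb xb28 yb36 zb25) (kb xb30 yb39 zb40) (kb xb32 yb59 zb31) (kb xb29 yb8 zb19) (kb xb28 yb36 zb45) (kb xb32 yb44 zb45) (kb xb28 yb36 zb50) (kb xb28 yb37 zb2) (kb xb32 yb17 zb55) (kb xb30 yb26 zb60) (kb xb32 yb43 zb31)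 (kb xb32 yb19 zb55) (kb xb31 yb21 zb11) (kb xb32 yb43 zb37) (kb xb28 yb37 zb21) (kb xb31 yb36 zb50) (kb xb31 yb25 zb43) (kb xb28 yb37 zb26) (kb xb32 yb29 zb52) (kb xb28 yb37 zb47) (kb xb28 yb37 zb37) (kb xb28 yb37 zb40) (kb xb28 yb37 zb43) (kb xb28 yb37 zb54) (kb xb32 yb22 zb29) (kb xb31 yb45 zb28) (kb xb31 yb56 zb4) (kb xb29 yb17 zb44) (kb xb28 yb38 zb17) (kb xb32 yb21 zb30) (kb xb31 yb51 zb33) (kb xb31 yb51 zb43)) (@D3.rec (fun _ => Pt) (kb xb30 yb30 zb0) (kb xb32 yb33 zb45) (kb xb30 yb50 zb4) (kb xb31 yb30 zb56) (kb xb30 yb17 zb58) (kb xb29 yb36 zb45) (kb xb29 yb54 zb56) (kb xb32 yb39 zb36) (kb xb31 yb13 zb7) (kb xb30 yb21 zb42) (kb xb30 yb31 zb34) (kb xb28 yb38 zb44) (kb xb29 yb56 zb16) (kb xb31 yb55 zb38) (kb xb31 yb25 zb21) (kb xb29 yb10 zb36) (kb xb29 yb42 zb38)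 (kb xb32 yb34 zb1) (kb xb28 yb39 zb14) (kb xb28 yb39 zb19) (kb xb29 yb46 zb20) (kb xb32 yb11 zb52) (kb xb28 yb39 zb26) (kb xb32 yb37 zb30) (kb xb28 yb39 zb30) (kb xb32 yb54 zb26) (kb xb32 yb59 zb26) (kb xb30 yb15 zb44) (kb xb29 yb45 zb48) (kb xb28 yb39 zb40) (kb xb32 yb37 zb23) (kb xb28 yb39 zb42) (kb xb32 yb38 zb31) (kb xb30 yb38 zb37) (kb xb32 yb12 zb37) (kb xb29 yb31 zb37) (kb xb32 yb47 zb43) (kb xb32 yb59 zb34) (kb xb32 yb13 zb29) (kb xb28 yb40 zb3) (kb xb28 yb40 zb2) (kb xb31 yb19 zb45) (kb xb32 yb38 zb56) (kb xb32 yb19 zb3) (kb xb28 yb40 zb7) (kb xb32 yb59 zb7) (kb xb32 yb59 zb32) (kb xb32 yb45 zb30) (kb xb29 yb31 zb22) (kb xb32 yb12 zb46) (kb xb32 yb59 zb27) (kb xb32 yb11 zb8) (kb xb32 yb11 zb14) (kb xb32 yb16 zb50) (kb xb32 yb39 zb27) (kb xb28 yb40 zb35) (kb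 xb29 yb45 zb17) (kb xb29 yb45 zb52) (kb xb32 yb45 zb32) (kb xb31 yb20 zb1) (kb xb32 yb52 zb50) (kb xb32 yb52 zb0)) (@D3.rec (fun _ => Pt) (kb xb29 yb45 zb45) (kb xb29 yb45 zb46) (kb xb28 yb40 zb48) (kb xb28 yb41 zb3) (kb xb32 yb5 zb43) (kb xb32 yb5 zb57) (kb xb30 yb13 zb3) (kb xb28 yb40 zb61) (kb xb31 yb32 zb59) (kb xb32 yb9 zb49) (kb xb28 yb41 zb44) (kb xb29 yb50 zb48) (kb xb29 yb49 zb19) (kb xb30 yb51 zb39) (kb xb30 yb47 zb7) (kb xb28 yb42 zb50) (kb xb28 yb56 zb61) (kb xb32 yb21 zb31) (kb xb30 yb44 zb55) (kb xb28 yb43 zb41) (kb xb31 yb11 zb45) (kb xb28 yb44 zb6) (kb xb32 yb3 zb30) (kb xb31 yb18 zb25) (kb xb28 yb44 zb4) (kb xb29 yb26 zb21) (kb xb28 yb44 zb24) (kb xb28 yb44 zb31) (kb xb28 yb44 zb32) (kb xb32 yb11 zb26) (kb xb28 yb44 zb39) (kb xb32 yb37 zb32) (kb xb32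 yb45 zb42) (kb xb29 yb43 zb37) (kb xb28 yb45 zb19) (kb xb32 yb10 zb60) (kb xb30 yb21 zb32) (kb xb28 yb45 zb37) (kb xb32 yb32 zb33) (kb xb29 yb1 zb52) (kb xb32 yb14 zb13) (kb xb32 yb9 zb5) (kb xb28 yb46 zb41) (kb xb30 yb38 zb5) (kb xb28 yb46 zb45) (kb xb29 yb20 zb5) (kb xb28 yb47 zb3) (kb xb32 yb0 zb6) (kb xb28 yb47 zb8) (kb xb32 yb8 zb52) (kb xb32 yb55 zb5) (kb xb32 yb8 zb35) (kb xb28 yb47 zb13) (kb xb28 yb47 zb31) (kb xb28 yb48 zb16) (kb xb28 yb58 zb15) (kb xb32 yb37 zb42) (kb xb32 yb56 zb61) (kb xb28 yb48 zb58) (kb xb32 yb57 zb0) (kb xb28 yb48 zb60) (kb xb32 yb51 zb3)) (@D3.rec (fun _ => Pt) (kb xb29 yb46 zb52) (kb xb30 yb15 zb57) (kb xb28 yb49 zb2) (kb xb32 yb22 zb38) (kb xb31 yb51 zb27) (kb xb28 yb49 zb7) (kb xb29 yb18 zb43) (kb xb32 yb56 zb33) (kb xb32 yb51 zb45)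 (kb xb30 yb21 zb19) (kb xb28 yb49 zb41) (kb xb28 yb49 zb42) (kb xb28 yb49 zb53) (kb xb32 yb3 zb26) (kb xb30 yb28 zb28) (kb xb28 yb50 zb30) (kb xb28 yb52 zb13) (kb xb32 yb57 zb8) (kb xb28 yb50 zb41) (kb xb29 yb3 zb20) (kb xb29 yb38 zb58) (kb xb28 yb52 zb46) (kb xb28 yb50 zb51) (kb xb28 yb50 zb52) (kb xb31 yb29 zb58) (kb xb30 yb43 zb24) (kb xb29 yb31 zb38) (kb xb32 yb37 zb54) (kb xb28 yb51 zb7) (kb xb32 yb47 zb21) (kb xb28 yb51 zb11) (kb xb28 yb51 zb19) (kb xb31 yb51 zb15) (kb xb28 yb51 zb28) (kb xb28 yb57 zb0) (kb xb31 yb54 zb31) (kb xb32 yb37 zb7) (kb xb32 yb48 zb4) (kb xb28 yb51 zb49) (kb xb31 yb36 zb53) (kb xb28 yb52 zb8) (kb xb28 yb51 zb57) (kb xb32 yb20 zb33) (kb xb28 yb51 zb59) (kb xb30 yb19 zb11) (kb xb32 yb53 zb53) (kb xb30 yb19 zb3) (kb xb32 yb41 zb36) (kb xb30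 yb25 zb54) (kb xb30 yb28 zb2) (kb xb28 yb52 zb26) (kb xb28 yb52 zb29) (kb xb31 yb13 zb55) (kb xb28 yb52 zb38) (kb xb28 yb52 zb39) (kb xb31 yb27 zb28) (kb xb28 yb52 zb41) (kb xb28 yb53 zb3) (kb xb28 yb52 zb60) (kb xb28 yb53 zb1) (kb xb28 yb53 zb8) (kb xb29 yb53 zb35)) (@D3.rec (fun _ => Pt) (kb xb28 yb53 zb20) (kb xb32 yb54 zb43) (kb xb29 yb8 zb35) (kb xb28 yb53 zb31) (kb xb32 yb53 zb45) (kb xb30 yb21 zb20) (kb xb30 yb7 zb29) (kb xb30 yb45 zb5) (kb xb30 yb39 zb46) (kb xb32 yb9 zb3) (kb xb32 yb40 zb46) (kb xb29 yb58 zb58) (kb xb32 yb45 zb22) (kb xb28 yb54 zb15) (kb xb29 yb47 zb27) (kb xb28 yb54 zb35) (kb xb30 yb25 zb42) (kb xb28 yb54 zb26) (kb xb32 yb50 zb38) (kb xb32 yb51 zb1) (kb xb32 yb47 zb14) (kb xb28 yb54 zb31) (kb xb28 yb54 zb33) (kb xb32 yb44 zb33) (kb xb32 yb52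 zb29) (kb xb30 yb11 zb42) (kb xb32 yb14 zb20) (kb xb28 yb54 zb48) (kb xb28 yb54 zb51) (kb xb32 yb12 zb25) (kb xb28 yb54 zb57) (kb xb29 yb37 zb6) (kb xb31 yb41 zb3) (kb xb30 yb27 zb32) (kb xb28 yb55 zb9) (kb xb31 yb13 zb48) (kb xb32 yb36 zb0) (kb xb32 yb58 zb14) (kb xb32 yb4 zb26) (kb xb31 yb52 zb52) (kb xb28 yb55 zb20) (kb xb28 yb56 zb6) (kb xb31 yb56 zb57) (kb xb28 yb55 zb22) (kb xb31 yb52 zb22) (kb xb28 yb55 zb23) (kb xb32 yb40 zb10) (kb xb32 yb56 zb42) (kb xb30 yb32 zb32) (kb xb32 yb52 zb11) (kb xb31 yb52 zb25) (kb xb32 yb59 zb12) (kb xb31 yb40 zb29) (kb xb31 yb41 zb14) (kb xb28 yb55 zb30) (kb xb30 yb48 zb34) (kb xb32 yb44 zb12) (kb xb29 yb53 zb38) (kb xb32 yb9 zb16) (kb xb28 yb56 zb10) (kb xb31 yb31 zb25) (kb xb28 yb56 zb12)) (@D3.rec (fun _ => Pt) (kb xb28 yb56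 zb13) (kb xb29 yb43 zb22) (kb xb28 yb56 zb30) (kb xb30 yb28 zb16) (kb xb28 yb56 zb32) (kb xb30 yb15 zb56) (kb xb29 yb34 zb14) (kb xb32 yb18 zb55) (kb xb29 yb21 zb21) (kb xb28 yb56 zb36) (kb xb28 yb56 zb35) (kb xb30 yb14 zb52) (kb xb32 yb13 zb30) (kb xb28 yb56 zb53) (kb xb28 yb58 zb54) (kb xb29 yb15 zb36) (kb xb31 yb48 zb34) (kb xb28 yb57 zb17) (kb xb31 yb22 zb17) (kb xb32 yb3 zb35) (kb xb32 yb42 zb36) (kb xb31 yb20 zb19) (kb xb29 yb20 zb53) (kb xb30 yb23 zb52) (kb xb30 yb26 zb8) (kb xb31 yb0 zb28) (kb xb30 yb12 zb23) (kb xb28 yb59 zb15) (kb xb32 yb4 zb10) (kb xb28 yb59 zb42) (kb xb28 yb59 zb48) (kb xb30 yb18 zb10) (kb xb32 yb4 zb22) (kb xb31 yb36 zb29) (kb xb28 yb59 zb57) (kb xb30 yb27 zb1) (kb xb32 yb39 zb47) (kb xb29 yb27 zb34) (kb xb30 yb12 zb10) (kb xb31 yb15 zb17)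 (kb xb29 yb1 zb60) (kb xb31 yb31 zb4) (kb xb32 yb0 zb25) (kb xb29 yb48 zb28) (kb xb32 yb59 zb37) (kb xb32 yb57 zb26) (kb xb32 yb59 zb29) (kb xb32 yb19 zb13) (kb xb29 yb2 zb8) (kb xb32 yb59 zb38) (kb xb31 yb40 zb46) (kb xb29 yb2 zb29) (kb xb29 yb2 zb48) (kb xb29 yb42 zb31) (kb xb32 yb36 zb2) (kb xb32 yb58 zb11) (kb xb29 yb4 zb7) (kb xb32 yb24 zb32) (kb xb32 yb7 zb44) (kb xb29 yb3 zb46) (kb xb32 yb43 zb26) (kb xb31 yb5 zb43)) (@D3.rec (fun _ => Pt) (kb xb31 yb36 zb47) (kb xb29 yb4 zb10) (kb xb32 yb34 zb11) (kb xb30 yb47 zb45) (kb xb29 yb4 zb61) (kb xb30 yb8 zb9) (kb xb31 yb42 zb1) (kb xb29 yb5 zb2) (kb xb31 yb9 zb20) (kb xb29 yb58 zb35) (kb xb29 yb4 zb56) (kb xb31 yb5 zb48) (kb xb31 yb5 zb37) (kb xb29 yb4 zb40) (kb xb29 yb4 zb43) (kb xb29 yb16 zb21) (kb xb29 yb15 zb44)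 (kb xb29 yb5 zb13) (kb xb29 yb4 zb50) (kb xb29 yb4 zb51) (kb xb29 yb26 zb27) (kb xb29 yb16 zb22) (kb xb32 yb58 zb34) (kb xb29 yb5 zb11) (kb xb29 yb5 zb8) (kb xb31 yb55 zb11) (kb xb32 yb24 zb34) (kb xb30 yb49 zb1) (kb xb31 yb10 zb18) (kb xb31 yb2 zb0) (kb xb30 yb41 zb3) (kb xb29 yb5 zb26) (kb xb32 yb56 zb59) (kb xb32 yb0 zb12) (kb xb29 yb5 zb33) (kb xb31 yb58 zb3) (kb xb32 yb41 zb20) (kb xb32 yb2 zb1) (kb xb32 yb3 zb1) (kb xb30 yb21 zb9) (kb xb29 yb8 zb3) (kb xb30 yb9 zb6) (kb xb29 yb50 zb12) (kb xb29 yb9 zb24) (kb xb29 yb42 zb50) (kb xb32 yb17 zb39) (kb xb30 yb37 zb3) (kb xb30 yb37 zb41) (kb xb32 yb48 zb42) (kb xb29 yb37 zb1) (kb xb30 yb30 zb25) (kb xb29 yb9 zb22) (kb xb32 yb47 zb42) (kb xb31 yb57 zb14) (kb xb29 yb49 zb34) (kb xb29 yb51 zb16) (kb xb29 yb10 zb21) (kb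 xb30 yb42 zb14) (kb xb29 yb51 zb13) (kb xb29 yb10 zb20) (kb xb31 yb11 zb1) (kb xb32 yb49 zb16)) (@D3.rec (fun _ => Pt) (kb xb32 yb13 zb2) (kb xb29 yb45 zb28) (kb xb30 yb28 zb50) (kb xb29 yb10 zb42) (kb xb31 yb59 zb4) (kb xb29 yb14 zb5) (kb xb32 yb43 zb27) (kb xb32 yb34 zb54) (kb xb29 yb11 zb5) (kb xb31 yb8 zb42) (kb xb32 yb49 zb35) (kb xb29 yb11 zb4) (kb xb32 yb52 zb38) (kb xb31 yb41 zb13) (kb xb32 yb19 zb24) (kb xb29 yb11 zb38) (kb xb30 yb33 zb12) (kb xb29 yb11 zb56) (kb xb29 yb58 zb2) (kb xb29 yb12 zb24) (kb xb32 yb33 zb9) (kb xb29 yb26 zb56) (kb xb29 yb13 zb8) (kb xb30 yb0 zb10) (kb xb29 yb13 zb27) (kb xb32 yb55 zb53) (kb xb32 yb41 zb60) (kb xb32 yb43 zb6) (kb xb32 yb17 zb28) (kb xb32 yb17 zb49) (kb xb32 yb44 zb49) (kb xb32 yb36 zb40) (kb xb32 yb59 zb21) (kb xb29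 yb14 zb23) (kb xb32 yb18 zb2) (kb xb32 yb44 zb48) (kb xb32 yb59 zb41) (kb xb32 yb36 zb43) (kb xb29 yb14 zb35) (kb xb29 yb49 zb15) (kb xb32 yb1 zb7) (kb xb32 yb51 zb48) (kb xb29 yb15 zb15) (kb xb29 yb15 zb20) (kb xb31 yb41 zb50) (kb xb29 yb15 zb40) (kb xb29 yb15 zb46) (kb xb32 yb55 zb35) (kb xb32 yb50 zb53) (kb xb30 yb12 zb20) (kb xb30 yb39 zb21) (kb xb29 yb16 zb2) (kb xb32 yb31 zb55) (kb xb32 yb55 zb55) (kb xb32 yb22 zb22) (kb xb31 yb41 zb39) (kb xb31 yb35 zb42) (kb xb31 yb4 zb22) (kb xb32 yb58 zb4) (kb xb31 yb14 zb11) (kb xb30 yb28 zb32) (kb xb29 yb19 zb53)) (@D3.rec (fun _ => Pt) (kb xb32 yb35 zb7) (kb xb29 yb19 zb23) (kb xb30 yb42 zb53) (kb xb29 yb19 zb47) (kb xb29 yb20 zb24) (kb xb29 yb21 zb7) (kb xb31 yb25 zb32) (kb xb30 yb30 zb4) (kb xb29 yb46 zb47) (kb xb31 yb29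 zb25) (kb xb31 yb23 zb41) (kb xb32 yb52 zb54) (kb xb32 yb40 zb56) (kb xb32 yb52 zb26) (kb xb31 yb57 zb58) (kb xb31 yb16 zb44) (kb xb30 yb18 zb43) (kb xb31 yb20 zb4) (kb xb29 yb48 zb36) (kb xb29 yb23 zb48) (kb xb29 yb24 zb0) (kb xb32 yb46 zb54) (kb xb32 yb59 zb0) (kb xb31 yb14 zb8) (kb xb29 yb24 zb27) (kb xb29 yb25 zb15) (kb xb32 yb46 zb56) (kb xb29 yb36 zb39) (kb xb29 yb39 zb34) (kb xb29 yb25 zb49) (kb xb30 yb15 zb31) (kb xb31 yb53 zb43) (kb xb30 yb29 zb4) (kb xb32 yb40 zb23) (kb xb31 yb31 zb54) (kb xb29 yb32 zb59) (kb xb32 yb10 zb46) (kb xb31 yb46 zb61) (kb xb29 yb26 zb34) (kb xb31 yb8 zb28) (kb xb29 yb26 zb51) (kb xb29 yb26 zb55) (kb xb31 yb56 zb61) (kb xb32 yb3 zb25) (kb xb31 yb52 zb37) (kb xb32 yb36 zb35) (kb xb32 yb51 zb24) (kb xb29 yb27 zb33) (kb xb32 yb43 zb35)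 (kb xb32 yb43 zb30) (kb xb32 yb22 zb23) (kb xb31 yb6 zb59) (kb xb31 yb56 zb34) (kb xb31 yb56 zb5) (kb xb30 yb22 zb21) (kb xb32 yb22 zb6) (kb xb32 yb33 zb6) (kb xb31 yb30 zb36) (kb xb30 yb21 zb31) (kb xb30 yb48 zb20) (kb xb30 yb57 zb60) (kb xb29 yb39 zb29)) (@D3.rec (fun _ => Pt) (kb xb30 yb20 zb42) (kb xb32 yb55 zb61) (kb xb32 yb46 zb20) (kb xb30 yb56 zb13) (kb xb29 yb45 zb6) (kb xb32 yb45 zb56) (kb xb31 yb26 zb16) (kb xb29 yb31 zb33) (kb xb29 yb31 zb36) (kb xb32 yb46 zb51) (kb xb32 yb47 zb7) (kb xb30 yb21 zb22) (kb xb29 yb32 zb14) (kb xb31 yb12 zb47) (kb xb31 yb12 zb37) (kb xb30 yb29 zb55) (kb xb30 yb39 zb38) (kb xb29 yb32 zb22) (kb xb29 yb46 zb2) (kb xb31 yb32 zb15) (kb xb29 yb32 zb46) (kb xb29 yb46 zb41) (kb xb32 yb40 zb12) (kb xb32 yb47 zb22) (kb xb29 yb33 zb11)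 (kb xb30 yb31 zb4) (kb xb29 yb33 zb16) (kb xb32 yb59 zb45) (kb xb29 yb46 zb10) (kb xb32 yb13 zb41) (kb xb32 yb37 zb47) (kb xb32 yb36 zb20) (kb xb32 yb37 zb58) (kb xb30 yb14 zb48) (kb xb30 yb28 zb43) (kb xb32 yb18 zb35) (kb xb30 yb7 zb3) (kb xb30 yb25 zb33) (kb xb29 yb33 zb37) (kb xb32 yb59 zb33) (kb xb30 yb28 zb22) (kb xb31 yb31 zb13) (kb xb32 yb38 zb32) (kb xb32 yb46 zb48) (kb xb32 yb13 zb45) (kb xb29 yb33 zb53) (kb xb32 yb47 zb46) (kb xb29 yb34 zb1) (kb xb29 yb34 zb5) (kb xb30 yb15 zb28) (kb xb32 yb27 zb5) (kb xb32 yb52 zb41) (kb xb32 yb14 zb17) (kb xb29 yb34 zb21) (kb xb32 yb24 zb14) (kb xb30 yb48 zb40) (kb xb32 yb45 zb5) (kb xb29 yb35 zb21) (kb xb32 yb17 zb46) (kb xb30 yb44 zb59) (kb xb29 yb36 zb2) (kb xb30 yb19 zb6)) (@D3.rec (fun _ => Pt) (kb xb32 yb51 zb20) (kb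 xb31 yb21 zb19) (kb xb31 yb50 zb16) (kb xb32 yb59 zb50) (kb xb31 yb34 zb26) (kb xb31 yb57 zb1) (kb xb29 yb36 zb11) (kb xb32 yb59 zb47) (kb xb32 yb17 zb47) (kb xb32 yb51 zb19) (kb xb29 yb36 zb12) (kb xb32 yb46 zb24) (kb xb29 yb36 zb19) (kb xb29 yb36 zb17) (kb xb32 yb59 zb49) (kb xb32 yb59 zb5) (kb xb31 yb52 zb5) (kb xb31 yb54 zb7) (kb xb30 yb30 zb39) (kb xb29 yb36 zb58) (kb xb32 yb45 zb2) (kb xb32 yb56 zb35) (kb xb31 yb30 zb42) (kb xb30 yb20 zb53) (kb xb32 yb46 zb11) (kb xb29 yb37 zb36) (kb xb32 yb59 zb52) (kb xb30 yb27 zb48) (kb xb32 yb17 zb9) (kb xb29 yb37 zb57) (kb xb29 yb37 zb60) (kb xb29 yb38 zb11) (kb xb31 yb38 zb55) (kb xb32 yb17 zb20) (kb xb29 yb38 zb48) (kb xb29 yb39 zb33) (kb xb29 yb39 zb32) (kb xb32 yb18 zb39) (kb xb29 yb39 zb52) (kb xb29 yb39 zb55) (kb xb32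 yb51 zb6) (kb xb32 yb33 zb27) (kb xb29 yb40 zb15) (kb xb29 yb55 zb43) (kb xb29 yb40 zb21) (kb xb32 yb14 zb35) (kb xb32 yb21 zb24) (kb xb32 yb11 zb49) (kb xb32 yb45 zb43) (kb xb29 yb40 zb32) (kb xb29 yb40 zb38) (kb xb32 yb45 zb9) (kb xb29 yb45 zb37) (kb xb29 yb40 zb58) (kb xb32 yb44 zb21) (kb xb31 yb22 zb3) (kb xb32 yb44 zb26) (kb xb32 yb15 zb31) (kb xb31 yb4 zb29) (kb xb31 yb43 zb24) (kb xb30 yb45 zb9) (kb xb32 yb55 zb3)) (@D3.rec (fun _ => Pt) (kb xb30 yb5 zb44) (kb xb29 yb41 zb49) (kb xb31 yb42 zb4) (kb xb32 yb36 zb18) (kb xb29 yb42 zb47) (kb xb32 yb22 zb58) (kb xb32 yb17 zb4) (kb xb32 yb45 zb10) (kb xb29 yb43 zb41) (kb xb29 yb43 zb44) (kb xb32 yb6 zb29) (kb xb30 yb52 zb8) (kb xb30 yb14 zb53) (kb xb29 yb44 zb7) (kb xb32 yb40 zb20) (kb xb29 yb44 zb39) (kb xb31 yb26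 zb27) (kb xb32 yb10 zb40) (kb xb31 yb35 zb20) (kb xb29 yb56 zb11) (kb xb32 yb13 zb40) (kb xb32 yb39 zb29) (kb xb32 yb45 zb23) (kb xb32 yb13 zb7) (kb xb32 yb47 zb39) (kb xb32 yb58 zb59) (kb xb29 yb45 zb33) (kb xb32 yb11 zb16) (kb xb29 yb45 zb42) (kb xb32 yb57 zb47) (kb xb32 yb59 zb2) (kb xb32 yb12 zb35) (kb xb29 yb45 zb54) (kb xb31 yb47 zb5) (kb xb32 yb12 zb30) (kb xb31 yb51 zb30) (kb xb30 yb21 zb33) (kb xb32 yb12 zb33) (kb xb29 yb46 zb5) (kb xb32 yb47 zb24) (kb xb29 yb47 zb26) (kb xb29 yb46 zb9) (kb xb32 yb42 zb52) (kb xb32 yb37 zb36) (kb xb32 yb56 zb51) (kb xb32 yb19 zb8) (kb xb32 yb45 zb46) (kb xb29 yb46 zb27) (kb xb32 yb35 zb46) (kb xb29 yb47 zb17) (kb xb30 yb29 zb51) (kb xb29 yb46 zb53) (kb xb32 yb56 zb30) (kb xb31 yb42 zb5) (kb xb32 yb22 zb54) (kb xb32 yb10 zb50)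 (kb xb31 yb30 zb32) (kb xb31 yb21 zb60) (kb xb29 yb47 zb13) (kb xb29 yb47 zb16) (kb xb30 yb29 zb38) (kb xb29 yb48 zb11)) (@D3.rec (fun _ => Pt) (kb xb31 yb13 zb34) (kb xb29 yb48 zb16) (kb xb32 yb22 zb42) (kb xb32 yb33 zb15) (kb xb32 yb39 zb37) (kb xb29 yb48 zb29) (kb xb32 yb14 zb56) (kb xb31 yb46 zb58) (kb xb31 yb54 zb6) (kb xb29 yb49 zb21) (kb xb29 yb49 zb31) (kb xb29 yb49 zb41) (kb xb31 yb30 zb17) (kb xb31 yb10 zb13) (kb xb29 yb49 zb48) (kb xb32 yb49 zb8) (kb xb32 yb54 zb35) (kb xb32 yb58 zb32) (kb xb31 yb58 zb35) (kb xb32 yb52 zb25) (kb xb31 yb1 zb11) (kb xb32 yb49 zb40) (kb xb32 yb57 zb5) (kb xb31 yb8 zb53) (kb xb30 yb40 zb40) (kb xb32 yb49 zb32) (kb xb31 yb18 zb28) (kb xb30 yb2 zb25) (kb xb30 yb59 zb24) (kb xb32 yb12 zb52) (kb xb31 yb19 zb51) (kb xb31 yb25 zb38)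 (kb xb31 yb46 zb25) (kb xb32 yb31 zb38) (kb xb30 yb39 zb3) (kb xb32 yb21 zb22) (kb xb32 yb18 zb11) (kb xb31 yb35 zb32) (kb xb29 yb53 zb48) (kb xb29 yb53 zb50) (kb xb32 yb29 zb57) (kb xb32 yb30 zb48) (kb xb32 yb42 zb48) (kb xb32 yb51 zb42) (kb xb29 yb55 zb2) (kb xb32 yb32 zb14) (kb xb32 yb24 zb33) (kb xb31 yb5 zb11) (kb xb32 yb55 zb49) (kb xb30 yb52 zb34) (kb xb29 yb56 zb30) (kb xb31 yb33 zb7) (kb xb30 yb37 zb6) (kb xb31 yb47 zb23) (kb xb32 yb28 zb0) (kb xb31 yb46 zb6) (kb xb32 yb1 zb27) (kb xb29 yb57 zb21) (kb xb30 yb3 zb34) (kb xb32 yb21 zb5) (kb xb30 yb33 zb19) (kb xb32 yb2 zb34)) (@D3.rec (fun _ => Pt) (kb xb30 yb40 zb16) (kb xb29 yb57 zb46) (kb xb31 yb46 zb5) (kb xb31 yb8 zb25) (kb xb30 yb13 zb56) (kb xb32 yb27 zb45) (kb xb31 yb37 zb10) (kb xb32 yb53 zb8) (kb xb32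 yb48 zb15) (kb xb30 yb41 zb43) (kb xb30 yb40 zb28) (kb xb29 yb58 zb44) (kb xb29 yb58 zb43) (kb xb32 yb0 zb45) (kb xb29 yb59 zb19) (kb xb31 yb10 zb59) (kb xb32 yb42 zb61) (kb xb30 yb0 zb1) (kb xb30 yb42 zb15) (kb xb31 yb34 zb31) (kb xb32 yb58 zb29) (kb xb31 yb6 zb51) (kb xb30 yb0 zb59) (kb xb31 yb1 zb2) (kb xb30 yb20 zb41) (kb xb30 yb1 zb41) (kb xb31 yb16 zb43) (kb xb31 yb5 zb22) (kb xb31 yb38 zb35) (kb xb32 yb6 zb53) (kb xb30 yb43 zb34) (kb xb30 yb58 zb6) (kb xb32 yb48 zb25) (kb xb31 yb3 zb46) (kb xb31 yb10 zb0) (kb xb32 yb43 zb10) (kb xb31 yb59 zb12) (kb xb30 yb3 zb10) (kb xb31 yb17 zb5) (kb xb30 yb33 zb17) (kb xb32 yb48 zb21) (kb xb30 yb36 zb60) (kb xb31 yb27 zb49) (kb xb31 yb11 zb2) (kb xb30 yb6 zb9) (kb xb30 yb4 zb35) (kb xb32 yb53 zb41) (kb xb30 yb4 zb39) (kb xb30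 yb4 zb40) (kb xb30 yb4 zb49) (kb xb31 yb49 zb38) (kb xb32 yb55 zb24) (kb xb30 yb5 zb2) (kb xb32 yb30 zb4) (kb xb30 yb5 zb7) (kb xb32 yb23 zb22) (kb xb32 yb20 zb19) (kb xb32 yb50 zb5) (kb xb32 yb16 zb32) (kb xb31 yb28 zb8) (kb xb30 yb5 zb45) (kb xb32 yb50 zb1)) (@D3.rec (fun _ => Pt) (kb xb32 yb51 zb23) (kb xb32 yb49 zb61) (kb xb32 yb20 zb30) (kb xb32 yb56 zb4) (kb xb31 yb20 zb3) (kb xb32 yb49 zb57) (kb xb31 yb56 zb47) (kb xb30 yb56 zb18) (kb xb32 yb55 zb56) (kb xb32 yb56 zb23) (kb xb32 yb54 zb18) (kb xb32 yb22 zb4) (kb xb31 yb52 zb21) (kb xb31 yb51 zb51) (kb xb30 yb7 zb1) (kb xb32 yb58 zb22) (kb xb32 yb59 zb30) (kb xb32 yb6 zb38) (kb xb31 yb2 zb21) (kb xb30 yb58 zb57) (kb xb30 yb7 zb22) (kb xb30 yb7 zb23) (kb xb30 yb7 zb31) (kb xb32 yb10 zb59) (kb xb31 yb13 zb15) (kb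 xb30 yb7 zb51) (kb xb30 yb8 zb3) (kb xb32 yb59 zb54) (kb xb30 yb25 zb30) (kb xb31 yb35 zb13) (kb xb30 yb9 zb29) (kb xb31 yb55 zb31) (kb xb31 yb35 zb48) (kb xb32 yb11 zb23) (kb xb30 yb9 zb51) (kb xb32 yb55 zb28) (kb xb30 yb41 zb24) (kb xb30 yb10 zb38) (kb xb32 yb40 zb18) (kb xb31 yb24 zb50) (kb xb32 yb31 zb10) (kb xb31 yb23 zb57) (kb xb30 yb12 zb27) (kb xb31 yb2 zb33) (kb xb31 yb57 zb38) (kb xb31 yb37 zb47) (kb xb32 yb58 zb45) (kb xb30 yb13 zb55) (kb xb30 yb13 zb57) (kb xb32 yb58 zb53) (kb xb30 yb33 zb26) (kb xb31 yb4 zb16) (kb xb31 yb2 zb54) (kb xb32 yb43 zb48) (kb xb32 yb23 zb55) (kb xb32 yb30 zb53) (kb xb32 yb56 zb25) (kb xb32 yb58 zb54) (kb xb32 yb33 zb35) (kb xb30 yb15 zb24) (kb xb30 yb15 zb45) (kb xb30 yb20 zb24)) (@D3.rec (fun _ => Pt) (kb xb30 yb15 zb60) (kb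 xb32 yb40 zb19) (kb xb32 yb22 zb20) (kb xb32 yb38 zb61) (kb xb31 yb20 zb17) (kb xb32 yb13 zb4) (kb xb32 yb46 zb40) (kb xb32 yb21 zb23) (kb xb30 yb18 zb20) (kb xb32 yb51 zb27) (kb xb32 yb59 zb55) (kb xb32 yb20 zb16) (kb xb30 yb19 zb14) (kb xb30 yb50 zb3) (kb xb30 yb18 zb33) (kb xb30 yb22 zb10) (kb xb30 yb54 zb9) (kb xb31 yb35 zb38) (kb xb32 yb59 zb8) (kb xb32 yb46 zb9) (kb xb32 yb46 zb0) (kb xb32 yb20 zb17) (kb xb30 yb19 zb0) (kb xb32 yb50 zb0) (kb xb32 yb44 zb46) (kb xb30 yb19 zb4) (kb xb32 yb59 zb42) (kb xb32 yb51 zb9) (kb xb32 yb19 zb33) (kb xb32 yb20 zb40) (kb xb32 yb59 zb35) (kb xb31 yb52 zb14) (kb xb32 yb53 zb27) (kb xb32 yb57 zb30) (kb xb31 yb51 zb38) (kb xb31 yb23 zb0) (kb xb32 yb26 zb26) (kb xb32 yb56 zb1) (kb xb30 yb21 zb2) (kb xb32 yb34 zb56) (kb xb31 yb39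 zb8) (kb xb30 yb31 zb30) (kb xb32 yb48 zb43) (kb xb30 yb21 zb25) (kb xb30 yb28 zb30) (kb xb32 yb39 zb8) (kb xb32 yb58 zb3) (kb xb30 yb21 zb36) (kb xb32 yb43 zb41) (kb xb31 yb52 zb19) (kb xb31 yb19 zb61) (kb xb30 yb21 zb50) (kb xb30 yb21 zb54) (kb xb32 yb59 zb58) (kb xb31 yb22 zb51) (kb xb32 yb56 zb36) (kb xb32 yb58 zb5) (kb xb30 yb21 zb59) (kb xb32 yb59 zb4) (kb xb32 yb18 zb1) (kb xb32 yb17 zb48) (kb xb31 yb51 zb54)) (@D3.rec (fun _ => Pt) (kb xb32 yb37 zb61) (kb xb31 yb19 zb58) (kb xb31 yb13 zb53) (kb xb30 yb22 zb8) (kb xb30 yb22 zb9) (kb xb32 yb54 zb51) (kb xb30 yb22 zb14) (kb xb30 yb22 zb18) (kb xb30 yb22 zb23) (kb xb30 yb22 zb25) (kb xb30 yb29 zb54) (kb xb32 yb40 zb49) (kb xb32 yb15 zb4) (kb xb30 yb23 zb42) (kb xb30 yb36 zb56) (kb xb32 yb33 zb40) (kb xb32 yb2 zb6)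 (kb xb31 yb0 zb13) (kb xb32 yb31 zb4) (kb xb30 yb25 zb22) (kb xb30 yb35 zb46) (kb xb30 yb25 zb49) (kb xb32 yb14 zb11) (kb xb30 yb30 zb22) (kb xb30 yb30 zb53) (kb xb32 yb48 zb19) (kb xb32 yb44 zb13) (kb xb31 yb18 zb5) (kb xb32 yb13 zb25) (kb xb32 yb40 zb24) (kb xb32 yb59 zb11) (kb xb30 yb28 zb10) (kb xb30 yb28 zb15) (kb xb32 yb12 zb12) (kb xb31 yb30 zb58) (kb xb32 yb10 zb54) (kb xb30 yb28 zb23) (kb xb32 yb56 zb18) (kb xb32 yb43 zb12) (kb xb31 yb40 zb18) (kb xb32 yb56 zb40) (kb xb32 yb45 zb51) (kb xb32 yb23 zb5) (kb xb30 yb29 zb6) (kb xb32 yb35 zb29) (kb xb31 yb19 zb25) (kb xb32 yb12 zb22) (kb xb32 yb57 zb14) (kb xb31 yb33 zb17) (kb xb30 yb29 zb24) (kb xb32 yb37 zb60) (kb xb31 yb31 zb17) (kb xb32 yb21 zb17) (kb xb31 yb13 zb46) (kb xb32 yb44 zb11) (kb xb30 yb30 zb33) (kb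 xb31 yb13 zb10) (kb xb30 yb30 zb38) (kb xb31 yb13 zb39) (kb xb32 yb30 zb34) (kb xb32 yb31 zb54) (kb xb30 yb31 zb14)) (@D3.rec (fun _ => Pt) (kb xb30 yb31 zb16) (kb xb30 yb31 zb18) (kb xb30 yb31 zb31) (kb xb32 yb58 zb15) (kb xb31 yb39 zb60) (kb xb32 yb57 zb59) (kb xb30 yb32 zb16) (kb xb31 yb52 zb44) (kb xb32 yb49 zb7) (kb xb30 yb45 zb8) (kb xb31 yb18 zb45) (kb xb30 yb33 zb11) (kb xb32 yb5 zb8) (kb xb30 yb33 zb25) (kb xb31 yb9 zb15) (kb xb32 yb31 zb19) (kb xb30 yb48 zb28) (kb xb31 yb6 zb36) (kb xb30 yb40 zb11) (kb xb31 yb13 zb36) (kb xb32 yb56 zb45) (kb xb31 yb13 zb40) (kb xb30 yb34 zb26) (kb xb32 yb35 zb55) (kb xb32 yb58 zb43) (kb xb32 yb17 zb37) (kb xb32 yb54 zb3) (kb xb32 yb51 zb32) (kb xb30 yb35 zb25) (kb xb32 yb28 zb38) (kb xb32 yb31 zb60) (kb xb31 yb14 zb50) (kb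 xb31 yb46 zb10) (kb xb31 yb14 zb57) (kb xb32 yb16 zb44) (kb xb30 yb35 zb57) (kb xb32 yb31 zb52) (kb xb31 yb25 zb16) (kb xb32 yb18 zb10) (kb xb32 yb36 zb5) (kb xb32 yb2 zb51) (kb xb32 yb49 zb46) (kb xb30 yb37 zb11) (kb xb30 yb37 zb28) (kb xb30 yb52 zb7) (kb xb32 yb40 zb4) (kb xb30 yb37 zb50) (kb xb30 yb38 zb1) (kb xb32 yb33 zb23) (kb xb30 yb38 zb9) (kb xb30 yb38 zb19) (kb xb32 yb27 zb7) (kb xb30 yb38 zb30) (kb xb32 yb39 zb45) (kb xb30 yb39 zb29) (kb xb30 yb39 zb32) (kb xb30 yb39 zb50) (kb xb32 yb30 zb30) (kb xb30 yb40 zb10) (kb xb30 yb40 zb14) (kb xb30 yb40 zb13) (kb xb31 yb27 zb43)) (@D3.rec (fun _ => Pt) (kb xb30 yb40 zb37) (kb xb31 yb29 zb32) (kb xb30 yb40 zb15) (kb xb32 yb53 zb26) (kb xb32 yb5 zb10) (kb xb32 yb55 zb36) (kb xb31 yb8 zb50) (kb xb32 yb57 zb36) (kb xb31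 yb27 zb35) (kb xb30 yb40 zb49) (kb xb30 yb40 zb52) (kb xb30 yb40 zb59) (kb xb32 yb4 zb39) (kb xb31 yb8 zb58) (kb xb30 yb52 zb37) (kb xb30 yb41 zb25) (kb xb32 yb57 zb61) (kb xb30 yb41 zb29) (kb xb32 yb50 zb10) (kb xb32 yb30 zb1) (kb xb32 yb28 zb34) (kb xb31 yb8 zb54) (kb xb32 yb29 zb19) (kb xb31 yb28 zb61) (kb xb30 yb42 zb23) (kb xb32 yb34 zb18) (kb xb32 yb37 zb25) (kb xb32 yb54 zb55) (kb xb32 yb34 zb49) (kb xb32 yb19 zb50) (kb xb30 yb44 zb48) (kb xb30 yb44 zb53) (kb xb32 yb31 zb43) (kb xb32 yb19 zb19) (kb xb30 yb46 zb37) (kb xb32 yb48 zb16) (kb xb30 yb47 zb23) (kb xb32 yb58 zb27) (kb xb32 yb56 zb56) (kb xb31 yb25 zb30) (kb xb31 yb28 zb32) (kb xb31 yb21 zb13) (kb xb32 yb15 zb5) (kb xb32 yb40 zb1) (kb xb31 yb23 zb42) (kb xb30 yb49 zb41) (kb xb31 yb22 zb55) (kb xb31 yb43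 zb20) (kb xb32 yb34 zb60) (kb xb30 yb57 zb0) (kb xb30 yb49 zb58) (kb xb32 yb52 zb5) (kb xb32 yb59 zb44) (kb xb31 yb25 zb57) (kb xb30 yb50 zb30) (kb xb32 yb54 zb27) (kb xb30 yb51 zb21) (kb xb30 yb51 zb41) (kb xb31 yb12 zb23) (kb xb30 yb58 zb37) (kb xb32 yb4 zb47) (kb xb31 yb43 zb23)) (@D3.rec (fun _ => Pt) (kb xb30 yb53 zb8) (kb xb31 yb24 zb55) (kb xb30 yb54 zb14) (kb xb32 yb46 zb61) (kb xb32 yb22 zb53) (kb xb32 yb38 zb50) (kb xb30 yb54 zb57) (kb xb31 yb27 zb39) (kb xb30 yb56 zb55) (kb xb32 yb57 zb45) (kb xb30 yb57 zb14) (kb xb30 yb57 zb39) (kb xb32 yb5 zb45) (kb xb32 yb31 zb2) (kb xb31 yb2 zb47) (kb xb30 yb59 zb8) (kb xb31 yb33 zb53) (kb xb32 yb59 zb39) (kb xb32 yb27 zb30) (kb xb31 yb8 zb26) (kb xb31 yb1 zb60) (kb xb32 yb32 zb31) (kb xb32 yb7 zb42) (kb xb31 yb3 zb15)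 (kb xb32 yb49 zb51) (kb xb31 yb29 zb6) (kb xb31 yb5 zb53) (kb xb32 yb15 zb60) (kb xb32 yb50 zb35) (kb xb32 yb30 zb42) (kb xb31 yb10 zb21) (kb xb31 yb11 zb21) (kb xb31 yb45 zb23) (kb xb32 yb16 zb11) (kb xb31 yb5 zb9) (kb xb32 yb43 zb47) (kb xb32 yb54 zb5) (kb xb31 yb46 zb51) (kb xb32 yb24 zb59) (kb xb31 yb7 zb1) (kb xb31 yb7 zb51) (kb xb31 yb49 zb42) (kb xb31 yb9 zb14) (kb xb32 yb30 zb3) (kb xb31 yb8 zb39) (kb xb32 yb16 zb0) (kb xb31 yb9 zb12) (kb xb31 yb9 zb42) (kb xb31 yb11 zb7) (kb xb32 yb48 zb48) (kb xb31 yb9 zb55) (kb xb31 yb10 zb1) (kb xb31 yb36 zb37) (kb xb32 yb43 zb25) (kb xb31 yb26 zb25) (kb xb32 yb43 zb53) (kb xb32 yb50 zb8) (kb xb31 yb11 zb47) (kb xb31 yb11 zb57) (kb xb32 yb6 zb49) (kb xb32 yb27 zb41) (kb xb32 yb45 zb1)) (@D3.rec (fun _ => Pt) (kb xb31 yb13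 zb9) (kb xb32 yb51 zb37) (kb xb31 yb13 zb27) (kb xb31 yb13 zb47) (kb xb32 yb50 zb3) (kb xb32 yb15 zb0) (kb xb32 yb20 zb36) (kb xb32 yb57 zb15) (kb xb31 yb13 zb58) (kb xb32 yb56 zb28) (kb xb31 yb14 zb58) (kb xb32 yb58 zb49) (kb xb31 yb51 zb42) (kb xb31 yb15 zb13) (kb xb32 yb59 zb53) (kb xb31 yb15 zb16) (kb xb32 yb21 zb20) (kb xb32 yb33 zb60) (kb xb32 yb52 zb37) (kb xb31 yb16 zb30) (kb xb31 yb16 zb36) (kb xb32 yb33 zb1) (kb xb31 yb16 zb57) (kb xb32 yb50 zb9) (kb xb31 yb17 zb61) (kb xb32 yb50 zb56) (kb xb32 yb4 zb25) (kb xb32 yb13 zb49) (kb xb32 yb56 zb9) (kb xb31 yb22 zb25) (kb xb32 yb47 zb52) (kb xb31 yb19 zb48) (kb xb31 yb19 zb56) (kb xb32 yb39 zb7) (kb xb32 yb57 zb50) (kb xb32 yb46 zb21) (kb xb32 yb51 zb55) (kb xb31 yb28 zb2) (kb xb31 yb31 zb14) (kb xb32 yb17 zb61)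 (kb xb32 yb52 zb40) (kb xb31 yb52 zb29) (kb xb32 yb40 zb47) (kb xb31 yb25 zb28) (kb xb31 yb22 zb37) (kb xb32 yb53 zb20) (kb xb31 yb57 zb6) (kb xb32 yb2 zb15) (kb xb31 yb28 zb13) (kb xb32 yb24 zb10) (kb xb32 yb23 zb9) (kb xb32 yb47 zb44) (kb xb32 yb10 zb44) (kb xb31 yb25 zb31) (kb xb32 yb8 zb51) (kb xb31 yb25 zb37) (kb xb32 yb54 zb38) (kb xb32 yb14 zb3) (kb xb31 yb48 zb56) (kb xb32 yb42 zb32) (kb xb32 yb35 zb57) (kb xb32 yb38 zb57)) (@D3.rec (fun _ => Pt) (kb xb32 yb38 zb59) (kb xb31 yb27 zb26) (kb xb31 yb27 zb22) (kb xb32 yb10 zb42) (kb xb31 yb30 zb47) (kb xb32 yb48 zb22) (kb xb31 yb27 zb54) (kb xb31 yb38 zb4) (kb xb32 yb39 zb17) (kb xb31 yb42 zb14) (kb xb31 yb29 zb18) (kb xb31 yb48 zb30) (kb xb31 yb30 zb11) (kb xb31 yb30 zb43) (kb xb32 yb52 zb47) (kb xb32 yb56 zb7)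 (kb xb31 yb31 zb19) (kb xb32 yb12 zb23) (kb xb32 yb12 zb49) (kb xb32 yb8 zb11) (kb xb32 yb35 zb12) (kb xb31 yb33 zb22) (kb xb32 yb25 zb8) (kb xb32 yb25 zb6) (kb xb31 yb44 zb25) (kb xb32 yb16 zb52) (kb xb32 yb41 zb45) (kb xb31 yb33 zb61) (kb xb32 yb13 zb11) (kb xb31 yb34 zb59) (kb xb32 yb51 zb33) (kb xb32 yb58 zb7) (kb xb32 yb8 zb38) (kb xb32 yb27 zb44) (kb xb31 yb37 zb43) (kb xb32 yb4 zb29) (kb xb32 yb54 zb7) (kb xb32 yb4 zb23) (kb xb31 yb40 zb5) (kb xb31 yb40 zb9) (kb xb31 yb47 zb61) (kb xb31 yb41 zb12) (kb xb32 yb58 zb2) (kb xb32 yb58 zb25) (kb xb31 yb50 zb48) (kb xb32 yb55 zb9) (kb xb31 yb40 zb28) (kb xb32 yb47 zb29) (kb xb32 yb59 zb18) (kb xb31 yb51 zb44) (kb xb32 yb56 zb34) (kb xb32 yb58 zb10) (kb xb31 yb41 zb36) (kb xb31 yb42 zb12) (kb xb32 yb59 zb23) (kb xb32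 yb24 zb47) (kb xb31 yb43 zb18) (kb xb31 yb44 zb60) (kb xb32 yb58 zb35) (kb xb32 yb53 zb5) (kb xb32 yb22 zb48) (kb xb32 yb54 zb16)) (@D3.rec (fun _ => Pt) (kb xb32 yb26 zb51) (kb xb31 yb47 zb2) (kb xb32 yb57 zb42) (kb xb32 yb51 zb46) (kb xb32 yb43 zb58) (kb xb32 yb51 zb56) (kb xb32 yb30 zb29) (kb xb32 yb57 zb31) (kb xb31 yb50 zb14) (kb xb31 yb53 zb18) (kb xb32 yb57 zb51) (kb xb32 yb41 zb55) (kb xb31 yb51 zb19) (kb xb31 yb51 zb40) (kb xb32 yb40 zb37) (kb xb32 yb53 zb3) (kb xb32 yb15 zb3) (kb xb32 yb59 zb59) (kb xb31 yb51 zb56) (kb xb32 yb59 zb13) (kb xb32 yb58 zb31) (kb xb31 yb52 zb24) (kb xb32 yb50 zb15) (kb xb31 yb52 zb28) (kb xb32 yb59 zb57) (kb xb32 yb57 zb43) (kb xb32 yb19 zb34) (kb xb32 yb54 zb37) (kb xb32 yb29 zb17) (kb xb32 yb49 zb20) (kb xb31 yb53 zb15) (kb xb32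 yb58 zb20) (kb xb32 yb48 zb17) (kb xb32 yb21 zb59) (kb xb32 yb42 zb22) (kb xb32 yb57 zb58) (kb xb32 yb59 zb46) (kb xb32 yb59 zb40) (kb xb32 yb59 zb36) (kb xb32 yb59 zb48) (kb xb32 yb0 zb50) (kb xb32 yb0 zb55) (kb xb32 yb1 zb6) (kb xb32 yb53 zb24) (kb xb32 yb1 zb15) (kb xb32 yb50 zb46) (kb xb32 yb31 zb35) (kb xb32 yb2 zb35) (kb xb32 yb20 zb43) (kb xb32 yb56 zb11) (kb xb32 yb27 zb47) (kb xb32 yb59 zb16) (kb xb32 yb7 zb27) (kb xb32 yb50 zb49) (kb xb32 yb50 zb57) (kb xb32 yb12 zb9) (kb xb32 yb12 zb18) (kb xb32 yb21 zb50) (kb xb32 yb36 zb8) (kb xb32 yb47 zb25) (kb xb32 yb14 zb2) (kb xb32 yb24 zb38)) (@D3.rec (fun _ => Pt) (kb xb32 yb44 zb22) (kb xb32 yb59 zb51) (kb xb32 yb47 zb30) (kb xb32 yb59 zb22) (kb xb32 yb51 zb58) (kb xb32 yb46 zb15) (kb xb32 yb59 zb43) (kb xb32 yb37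 zb45) (kb xb32 yb51 zb18) (kb xb32 yb19 zb58) (kb xb32 yb20 zb54) (kb xb32 yb52 zb30) (kb xb32 yb40 zb51) (kb xb32 yb58 zb19) (kb xb32 yb59 zb60) (kb xb32 yb27 zb12) (kb xb32 yb58 zb51) (kb xb32 yb27 zb21) (kb xb32 yb57 zb48) (kb xb32 yb35 zb37) (kb xb32 yb31 zb53) (kb xb32 yb43 zb32) (kb xb32 yb59 zb3) (kb xb32 yb57 zb54) (kb xb32 yb35 zb26) (kb xb32 yb36 zb23) (kb xb32 yb37 zb26) (kb xb32 yb37 zb50) (kb xb32 yb36 zb9) (kb xb32 yb41 zb46) (kb xb32 yb50 zb16) (kb xb32 yb36 zb32) (kb xb32 yb37 zb46) (kb xb32 yb45 zb39) (kb xb32 yb37 zb37) (kb xb32 yb51 zb30) (kb xb32 yb58 zb38) (kb xb32 yb41 zb44) (kb xb32 yb41 zb49) (kb xb32 yb55 zb17) (kb xb32 yb58 zb37) (kb xb32 yb43 zb36) (kb xb32 yb51 zb26) (kb xb32 yb59 zb6) (kb xb32 yb54 zb52) (kb xb32 yb45 zb27) (kb xb32 yb58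 zb36) (kb xb32 yb46 zb7) (kb xb32 yb58 zb39) (kb xb32 yb46 zb14) (kb xb32 yb46 zb3) (kb xb32 yb59 zb1) (kb xb32 yb46 zb26) (kb xb32 yb56 zb14) (kb xb32 yb50 zb27) (kb xb32 yb51 zb10) (kb xb32 yb59 zb61) (kb xb32 yb58 zb24) (kb xb32 yb51 zb53) (kb xb32 yb58 zb17) (kb xb32 yb59 zb14) (kb xb32 yb59 zb56))
def f_b : Pt → Pt := @Pt.rec (fun _ => Pt) (@D1.rec (fun _ => D2 → D3 → Pt) f_b_0 f_b_1 f_b_2 f_b_3 f_b_4 f_b_5 f_b_6 f_b_7 f_b_8 f_b_9 f_b_10 f_b_11 f_b_12 f_b_13 f_b_14 f_b_15 f_b_16 f_b_17 f_b_18 f_b_19 f_b_20 f_b_21 f_b_22 f_b_23 f_b_24 f_b_25 f_b_26 f_b_27 f_b_28 f_b_29 f_b_30 f_b_31 f_b_32)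
def fi_b : Pt → Pt := f_b

theorem inv_chk_b : chkInv allPts beqPt f_b fi_b = true := by decide +kernel

end

end Cfsg.Agent.Helper28.S1692
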